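import Cfsg.Agent.Lib.Helper28.S1692.Seeds27

set_option autoImplicit false
set_option maxRecDepth 100000
set_option linter.all false

namespace Cfsg.Agent.Helper28.S1692

open Cfsg.Agent.Helper28
open Cfsg.Spor.ON (Gen)

noncomputable section

namespace K28
abbrev LD1_c0 := D1.c0
abbrev LD1_c1 := D1.c1
abbrev LD1_c2 := D1.c2
abbrev LD1_c3 := D1.c3
abbrev LD1_c4 := D1.c4
abbrev LD1_c5 := D1.c5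
abbrev LD1_c6 := D1.c6
abbrev LD1_c7 := D1.c7
abbrev LD1_c8 := D1.c8
abbrev LD1_c9 := D1.c9
abbrev LD1_c10 := D1.c10
abbrev LD1_c11 := D1.c11
abbrev LD1_c12 := D1.c12
abbrev LD1_c13 := D1.c13
abbrev LD1_c14 := D1.c14
abbrev LD1_c15 := D1.c15
abbrev LD1_c16 := D1.c16
abbrev LD1_c17 := D1.c17
abbrev LD1_c18 := D1.c18
abbrev LD1_c19 := D1.c19
abbrev LD1_c20 := D1.c20
abbrev LD1_c21 := D1.c21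
abbrev LD1_c22 := D1.c22
abbrev LD1_c23 := D1.c23
abbrev LD1_c24 := D1.c24
abbrev LD1_c25 := D1.c25
abbrev LD1_c26 := D1.c26
abbrev LD1_c27 := D1.c27
abbrev LD1_c28 := D1.c28
abbrev LD1_c29 := D1.c29
abbrev LD1_c30 := D1.c30
abbrev LD1_c31 := D1.c31
abbrev LD1_c32 := D1.c32
abbrev LD2_c0 := D2.c0
abbrev LD2_c1 := D2.c1
abbrev LD2_c2 := D2.c2
abbrev LD2_c3 := D2.c3
abbrev LD2_c4 := D2.c4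
abbrev LD2_c5 := D2.c5
abbrev LD2_c6 := D2.c6
abbrev LD2_c7 := D2.c7
abbrev LD2_c8 := D2.c8
abbrev LD2_c9 := D2.c9
abbrev LD2_c10 := D2.c10
abbrev LD2_c11 := D2.c11
abbrev LD2_c12 := D2.c12
abbrev LD2_c13 := D2.c13
abbrev LD2_c14 := D2.c14
abbrev LD2_c15 := D2.c15
abbrev LD2_c16 := D2.c16
abbrev LD2_c17 := D2.c17
abbrev LD2_c18 := D2.c18
abbrev LD2_c19 := D2.c19
abbrev LD2_c20 := D2.c20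
abbrev LD2_c21 := D2.c21
abbrev LD2_c22 := D2.c22
abbrev LD2_c23 := D2.c23
abbrev LD2_c24 := D2.c24
abbrev LD2_c25 := D2.c25
abbrev LD2_c26 := D2.c26
abbrev LD2_c27 := D2.c27
abbrev LD2_c28 := D2.c28
abbrev LD2_c29 := D2.c29
abbrev LD2_c30 := D2.c30
abbrev LD2_c31 := D2.c31
abbrev LD2_c32 := D2.c32
abbrev LD2_c33 := D2.c33
abbrev LD2_c34 := D2.c34
abbrev LD2_c35 := D2.c35
abbrev LD2_c36 := D2.c36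
abbrev LD2_c37 := D2.c37
abbrev LD2_c38 := D2.c38
abbrev LD2_c39 := D2.c39
abbrev LD2_c40 := D2.c40
abbrev LD2_c41 := D2.c41
abbrev LD2_c42 := D2.c42
abbrev LD2_c43 := D2.c43
abbrev LD2_c44 := D2.c44
abbrev LD2_c45 := D2.c45
abbrev LD2_c46 := D2.c46
abbrev LD2_c47 := D2.c47
abbrev LD2_c48 := D2.c48
abbrev LD2_c49 := D2.c49
abbrev LD2_c50 := D2.c50
abbrev LD2_c51 := D2.c51
abbrev LD2_c52 := D2.c52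
abbrev LD2_c53 := D2.c53
abbrev LD2_c54 := D2.c54
abbrev LD2_c55 := D2.c55
abbrev LD2_c56 := D2.c56
abbrev LD2_c57 := D2.c57
abbrev LD2_c58 := D2.c58
abbrev LD2_c59 := D2.c59
abbrev LD3_c0 := D3.c0
abbrev LD3_c1 := D3.c1
abbrev LD3_c2 := D3.c2
abbrev LD3_c3 := D3.c3
abbrev LD3_c4 := D3.c4
abbrev LD3_c5 := D3.c5
abbrev LD3_c6 := D3.c6
abbrev LD3_c7 := D3.c7
abbrev LD3_c8 := D3.c8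
abbrev LD3_c9 := D3.c9
abbrev LD3_c10 := D3.c10
abbrev LD3_c11 := D3.c11
abbrev LD3_c12 := D3.c12
abbrev LD3_c13 := D3.c13
abbrev LD3_c14 := D3.c14
abbrev LD3_c15 := D3.c15
abbrev LD3_c16 := D3.c16
abbrev LD3_c17 := D3.c17
abbrev LD3_c18 := D3.c18
abbrev LD3_c19 := D3.c19
abbrev LD3_c20 := D3.c20
abbrev LD3_c21 := D3.c21
abbrev LD3_c22 := D3.c22
abbrev LD3_c23 := D3.c23
abbrev LD3_c24 := D3.c24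
abbrev LD3_c25 := D3.c25
abbrev LD3_c26 := D3.c26
abbrev LD3_c27 := D3.c27
abbrev LD3_c28 := D3.c28
abbrev LD3_c29 := D3.c29
abbrev LD3_c30 := D3.c30
abbrev LD3_c31 := D3.c31
abbrev LD3_c32 := D3.c32
abbrev LD3_c33 := D3.c33
abbrev LD3_c34 := D3.c34
abbrev LD3_c35 := D3.c35
abbrev LD3_c36 := D3.c36
abbrev LD3_c37 := D3.c37
abbrev LD3_c38 := D3.c38
abbrev LD3_c39 := D3.c39
abbrev LD3_c40 := D3.c40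
abbrev LD3_c41 := D3.c41
abbrev LD3_c42 := D3.c42
abbrev LD3_c43 := D3.c43
abbrev LD3_c44 := D3.c44
abbrev LD3_c45 := D3.c45
abbrev LD3_c46 := D3.c46
abbrev LD3_c47 := D3.c47
abbrev LD3_c48 := D3.c48
abbrev LD3_c49 := D3.c49
abbrev LD3_c50 := D3.c50
abbrev LD3_c51 := D3.c51
abbrev LD3_c52 := D3.c52
abbrev LD3_c53 := D3.c53
abbrev LD3_c54 := D3.c54
abbrev LD3_c55 := D3.c55
abbrev LD3_c56 := D3.c56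
abbrev LD3_c57 := D3.c57
abbrev LD3_c58 := D3.c58
abbrev LD3_c59 := D3.c59
abbrev LD3_c60 := D3.c60
abbrev LD3_c61 := D3.c61
abbrev LG_g := Gen.g
abbrev Lsl_gt : Gen × Bool := sl_gt
alias Lfl_gt := fl_gt
alias Lpr_gt := pr_gt
abbrev Lsl_gf : Gen × Bool := sl_gf
alias Lfl_gf := fl_gf
alias Lpr_gf := pr_gf
alias Lre_g := re_g
alias Leoe_g := eoe_g
abbrev LG_a := Gen.a
abbrev Lsl_at : Gen × Bool := sl_at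
alias Lfl_at := fl_at
alias Lpr_at := pr_at
abbrev Lsl_af : Gen × Bool := sl_af
alias Lfl_af := fl_af
alias Lpr_af := pr_af
alias Lre_a := re_a
alias Leoe_a := eoe_a
abbrev LG_b := Gen.b
abbrev Lsl_bt : Gen × Bool := sl_bt
alias Lfl_bt := fl_bt
alias Lpr_bt := pr_bt
abbrev Lsl_bf : Gen × Bool := sl_bf
alias Lfl_bf := fl_bf
alias Lpr_bf := pr_bf
alias Lre_b := re_b
alias Leoe_b := eoe_b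
abbrev LG_c := Gen.c
abbrev Lsl_ct : Gen × Bool := sl_ct
alias Lfl_ct := fl_ct
alias Lpr_ct := pr_ct
abbrev Lsl_cf : Gen × Bool := sl_cf
alias Lfl_cf := fl_cf
alias Lpr_cf := pr_cf
alias Lre_c := re_c
alias Leoe_c := eoe_c
abbrev LG_d := Gen.d
abbrev Lsl_dt : Gen × Bool := sl_dt
alias Lfl_dt := fl_dt
alias Lpr_dt := pr_dt
abbrev Lsl_df : Gen × Bool := sl_df
alias Lfl_df := fl_df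
alias Lpr_df := pr_df
alias Lre_d := re_d
alias Leoe_d := eoe_d
abbrev LG_e := Gen.e
abbrev Lsl_et : Gen × Bool := sl_et
alias Lfl_et := fl_et
alias Lpr_et := pr_et
abbrev Lsl_ef : Gen × Bool := sl_ef
alias Lfl_ef := fl_ef
alias Lpr_ef := pr_ef
alias Lre_e := re_e
alias Leoe_e := eoe_e
abbrev LG_f := Gen.f
abbrev Lsl_ft : Gen × Bool := sl_ft
alias Lfl_ft := fl_ft
alias Lpr_ft := pr_ft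
abbrev Lsl_ff : Gen × Bool := sl_ff
alias Lfl_ff := fl_ff
alias Lpr_ff := pr_ff
alias Lre_f := re_f
alias Leoe_f := eoe_f
abbrev LK := Pt.mk
abbrev LQ : Type := Qt rels S
abbrev LP (p : Pt) : LQ := P p
abbrev Led (l : Gen × Bool) (c : LQ) : LQ := ed l c
abbrev LEOK (x : Gen) (p : Pt) : Prop := EntryOK rels S fwd inv o plet idx x p
alias Lpe := pe
alias Lpn := pn
alias Lgr := gr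
alias Lpq := pq
alias Lpqs := pqs
alias Llr := lr
alias Leop := eop
alias Lefun := efun
alias Lecon := econ
theorem Lrfl {α : Sort _} {a : α} : a = a := rfl
alias Lrot0 := rot0
alias Lrot1 := rot1
alias Lrot2 := rot2
alias Lrot3 := rot3
alias Lrot4 := rot4
alias Lrot5 := rot5
alias Lrot6 := rot6
alias Lrot7 := rot7
alias Lrot8 := rot8
alias Lrot9 := rot9
alias Lrot10 := rot10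
alias Lrot11 := rot11
alias Lrot12 := rot12
alias Lrot14 := rot14
alias Lrot15 := rot15
alias Lrot17 := rot17
alias Lrot18 := rot18
alias Lrot19 := rot19
alias Lrot20 := rot20
alias Lrot21 := rot21
alias Lrot22 := rot22
alias Lrot23 := rot23
alias Lrot24 := rot24
alias Lrot25 := rot25
alias Lrot26 := rot26
alias Lrot27 := rot27
alias Lrot28 := rot28
alias Lrot29 := rot29
alias Lrot30 := rot30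
alias Lrot31 := rot31
alias Lrot32 := rot32
alias Lrot33 := rot33
alias Lrot34 := rot34
alias Lrot35 := rot35
alias Lrot36 := rot36
alias Lrot38 := rot38
alias Lrot39 := rot39
alias Lrot40 := rot40
alias Lrot42 := rot42
alias Lrot43 := rot43
alias Lrot44 := rot44
alias Lrot45 := rot45
alias Lrot46 := rot46
alias Lrot47 := rot47
alias Lrot48 := rot48
alias Lrot49 := rot49
alias Lrot50 := rot50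
alias Lrot51 := rot51
alias Lrot52 := rot52
alias Lrot53 := rot53
alias Lrot54 := rot54
alias Lrot56 := rot56
alias Lrot57 := rot57
alias Lrot58 := rot58
alias Lrot59 := rot59
alias Lrot60 := rot60
alias Lrot61 := rot61
alias Lrot62 := rot62
alias Lrot63 := rot63
alias Lrot64 := rot64
alias Lrot65 := rot65
alias Lrot66 := rot66
alias Lrot67 := rot67
alias Lrot68 := rot68
alias Lrot69 := rot69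
alias Lrot70 := rot70
alias Lrot71 := rot71
alias Lrot72 := rot72
alias Lrot73 := rot73
alias Lrot74 := rot74
alias Lrot75 := rot75
alias Lrot76 := rot76
alias Lrot77 := rot77
alias Lrot78 := rot78
alias Lrot79 := rot79
alias Lrot80 := rot80
alias Lrot81 := rot81
alias Lrot82 := rot82
alias Lrot83 := rot83
alias Lrot84 := rot84
alias Lrot85 := rot85
alias Lrot86 := rot86
alias Lrot87 := rot87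
alias Lrot88 := rot88
alias Lrot90 := rot90
alias Lrot91 := rot91
alias Lrot92 := rot92
alias Lrot93 := rot93
alias Lrot94 := rot94
alias Lrot95 := rot95
alias Lrot96 := rot96
alias Lrot97 := rot97
alias Lrot98 := rot98
alias Lrot99 := rot99
alias Lrot100 := rot100
alias Lrot101 := rot101
alias Lrot102 := rot102
alias Lrot103 := rot103
alias Lrot104 := rot104
alias Lrot105 := rot105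
alias Lrot106 := rot106
alias Lrot107 := rot107
alias Lrot108 := rot108
alias Lrot109 := rot109
alias Lrot110 := rot110
alias Lrot111 := rot111
alias Lrot112 := rot112
alias Lrot113 := rot113
alias Lrot114 := rot114
alias Lrot115 := rot115
alias Lrot116 := rot116
alias Lrot117 := rot117
alias Lrot118 := rot118
alias Lrot119 := rot119
alias Lrot120 := rot120
alias Lrot122 := rot122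
alias Lrot123 := rot123
alias Lrot124 := rot124
alias Lrot125 := rot125
alias Lrot126 := rot126
alias Lrot127 := rot127
alias Lrot128 := rot128
alias Lrot129 := rot129
alias Lrot130 := rot130
alias Lrot131 := rot131
alias Lrot132 := rot132
alias Lrot133 := rot133
alias Lrot134 := rot134
alias Lrot136 := rot136
alias Lrot137 := rot137
alias Lrot138 := rot138
alias Lrot139 := rot139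
alias Lrot140 := rot140
alias Lrot141 := rot141
alias Lrot142 := rot142
alias Lrot143 := rot143
alias Lrot144 := rot144
alias Lrot145 := rot145
alias Lrot146 := rot146
alias Lrot147 := rot147
alias Lrot148 := rot148
alias Lrot149 := rot149
alias Lrot150 := rot150
alias Lrot152 := rot152
alias Lrot153 := rot153
alias Lrot155 := rot155
alias Lrot156 := rot156
alias Lrot157 := rot157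
alias Lrot158 := rot158
alias Lrot159 := rot159
alias Lrot160 := rot160
alias Lrot161 := rot161
alias Lrot162 := rot162
alias Lrot163 := rot163
alias Lrot164 := rot164
alias Lrot165 := rot165
alias Lrot166 := rot166
alias Lrot167 := rot167
alias Lrot168 := rot168
alias Lrot169 := rot169
alias Lrot170 := rot170
alias Lrot174 := rot174
alias Lrot175 := rot175
alias Lrot176 := rot176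
alias Lrot177 := rot177
alias Lrot178 := rot178
alias Lrot181 := rot181
alias Lrot182 := rot182
alias Lrot183 := rot183
alias Lrot190 := rot190

section
variable (IH : IHT)
include IH

theorem f383438 : Led Lsl_at (LP (LK LD1_c8 LD2_c25 LD3_c25)) = (LP (LK LD1_c5 LD2_c44 LD3_c15)) :=
  Lgr Lrot51 (Lpe (K19.f178366 IH) (Lpe (K19.f311342 IH) (Lpr_df (K27.f383249 IH) (Lpn (LP (LK LD1_c5 LD2_c44 LD3_c15))))))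
theorem f310059 : Led Lsl_bt (LP (LK LD1_c15 LD2_c49 LD3_c38)) = (LP (LK LD1_c8 LD2_c25 LD3_c25)) :=
  Lre_b IH (LK LD1_c15 LD2_c49 LD3_c38) (LK LD1_c8 LD2_c25 LD3_c25) Lrfl Lrfl
theorem f383468 : Led Lsl_at (LP (LK LD1_c11 LD2_c17 LD3_c56)) = (LP (LK LD1_c15 LD2_c49 LD3_c38)) :=
  Lgr Lrot67 (Lpe (K27.f383467 IH) (Lpr_af (K27.f383463 IH) (Lpe (K27.f381628 IH) (Lpe (f383438 IH) (Lpe (f310059 IH) (Lpn (LP (LK LD1_c15 LD2_c49 LD3_c38))))))))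
theorem f383710 : Led Lsl_at (LP (LK LD1_c11 LD2_c18 LD3_c52)) = (LP (LK LD1_c5 LD2_c44 LD3_c23)) :=
  Lre_a IH (LK LD1_c11 LD2_c18 LD3_c52) (LK LD1_c5 LD2_c44 LD3_c23) Lrfl Lrfl
theorem f383711 : Led Lsl_ft (LP (LK LD1_c15 LD2_c49 LD3_c38)) = (LP (LK LD1_c11 LD2_c18 LD3_c52)) :=
  Lgr Lrot101 (Lpe (f383468 IH) (Lpr_ff (K27.f383703 IH) (Lpe (f383710 IH) (Lpn (LP (LK LD1_c11 LD2_c18 LD3_c52))))))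
theorem f383615 : Led Lsl_dt (LP (LK LD1_c8 LD2_c25 LD3_c24)) = (LP (LK LD1_c15 LD2_c49 LD3_c38)) :=
  Lre_d IH (LK LD1_c8 LD2_c25 LD3_c24) (LK LD1_c15 LD2_c49 LD3_c38) Lrfl Lrfl
theorem f258343 : Led Lsl_bt (LP (LK LD1_c4 LD2_c18 LD3_c47)) = (LP (LK LD1_c8 LD2_c36 LD3_c14)) :=
  Lre_b IH (LK LD1_c4 LD2_c18 LD3_c47) (LK LD1_c8 LD2_c36 LD3_c14) Lrfl Lrfl
theorem f311351 : Led Lsl_ft (LP (LK LD1_c8 LD2_c36 LD3_c14)) = (LP (LK LD1_c8 LD2_c25 LD3_c24)) :=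
  Lgr Lrot75 (Lpe (f258343 IH) (Lpr_ff (K19.f311349 IH) (Lpe (K27.f310035 IH) (Lpn (LP (LK LD1_c8 LD2_c25 LD3_c24))))))
theorem f383724 : Led Lsl_df (LP (LK LD1_c8 LD2_c36 LD3_c14)) = (LP (LK LD1_c11 LD2_c18 LD3_c52)) :=
  Lgr Lrot78 (Lpr_ft (f311351 IH) (Lpr_dt (f383615 IH) (Lpr_ft (f383711 IH) (Lpn (LP (LK LD1_c11 LD2_c18 LD3_c52))))))
theorem f383732 : Led Lsl_at (LP (LK LD1_c5 LD2_c44 LD3_c23)) = (LP (LK LD1_c11 LD2_c18 LD3_c52)) :=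
  Lre_a IH (LK LD1_c5 LD2_c44 LD3_c23) (LK LD1_c11 LD2_c18 LD3_c52) Lrfl Lrfl
theorem f383758 : Led Lsl_at (LP (LK LD1_c8 LD2_c36 LD3_c14)) = (LP (LK LD1_c11 LD2_c18 LD3_c53)) :=
  Lgr Lrot51 (Lpr_df (f383724 IH) (Lpe (f383732 IH) (Lpe (K27.f383702 IH) (Lpn (LP (LK LD1_c11 LD2_c18 LD3_c53))))))
theorem f363352 : Led Lsl_et (LP (LK LD1_c16 LD2_c7 LD3_c41)) = (LP (LK LD1_c8 LD2_c36 LD3_c14)) :=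
  Lre_e IH (LK LD1_c16 LD2_c7 LD3_c41) (LK LD1_c8 LD2_c36 LD3_c14) Lrfl Lrfl
theorem f383705 : Led Lsl_et (LP (LK LD1_c11 LD2_c18 LD3_c53)) = (LP (LK LD1_c20 LD2_c15 LD3_c33)) :=
  Lre_e IH (LK LD1_c11 LD2_c18 LD3_c53) (LK LD1_c20 LD2_c15 LD3_c33) Lrfl Lrfl
theorem f383762 : Led Lsl_af (LP (LK LD1_c16 LD2_c7 LD3_c41)) = (LP (LK LD1_c20 LD2_c15 LD3_c33)) :=
  Lgr Lrot50 (Lpr_et (f363352 IH) (Lpr_at (f383758 IH) (Lpr_et (f383705 IH) (Lpn (LP (LK LD1_c20 LD2_c15 LD3_c33))))))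
theorem f258354 : Led Lsl_bt (LP (LK LD1_c16 LD2_c7 LD3_c41)) = (LP (LK LD1_c8 LD2_c36 LD3_c16)) :=
  Lre_b IH (LK LD1_c16 LD2_c7 LD3_c41) (LK LD1_c8 LD2_c36 LD3_c16) Lrfl Lrfl
theorem f357528 : Led Lsl_bt (LP (LK LD1_c5 LD2_c39 LD3_c51)) = (LP (LK LD1_c2 LD2_c45 LD3_c52)) :=
  Lre_b IH (LK LD1_c5 LD2_c39 LD3_c51) (LK LD1_c2 LD2_c45 LD3_c52) Lrfl Lrfl
theorem f357529 : Led Lsl_ct (LP (LK LD1_c5 LD2_c39 LD3_c51)) = (LP (LK LD1_c11 LD2_c10 LD3_c46)) :=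
  Lre_c IH (LK LD1_c5 LD2_c39 LD3_c51) (LK LD1_c11 LD2_c10 LD3_c46) Lrfl Lrfl
theorem f378121 : Led Lsl_gf (LP (LK LD1_c8 LD2_c36 LD3_c16)) = (LP (LK LD1_c11 LD2_c10 LD3_c46)) :=
  Lgr Lrot126 (Lpe (K26.f258340 IH) (Lpe (K19.f308839 IH) (Lpr_gt (K25.f356955 IH) (Lpr_ct (K22.f333777 IH) (Lpe (K25.f356953 IH) (Lpe (K25.f212586 IH) (Lpr_bt (K25.f212582 IH) (Lpr_gt (K26.f363383 IH) (Lpe (f357528 IH) (Lpr_ct (f357529 IH) (Lpn (LP (LK LD1_c11 LD2_c10 LD3_c46)))))))))))))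
theorem f184328 : Led Lsl_ft (LP (LK LD1_c15 LD2_c49 LD3_c44)) = (LP (LK LD1_c8 LD2_c25 LD3_c29)) :=
  Lre_f IH (LK LD1_c15 LD2_c49 LD3_c44) (LK LD1_c8 LD2_c25 LD3_c29) Lrfl Lrfl
theorem f184329 : Led Lsl_cf (LP (LK LD1_c15 LD2_c49 LD3_c44)) = (LP (LK LD1_c10 LD2_c37 LD3_c47)) :=
  Lgr Lrot108 (Lpr_ft (f184328 IH) (Lpr_ct (K27.f184312 IH) (Lpr_ft (K15.f184288 IH) (Lpn (LP (LK LD1_c10 LD2_c37 LD3_c47))))))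
theorem f357530 : Led Lsl_gf (LP (LK LD1_c11 LD2_c10 LD3_c46)) = (LP (LK LD1_c15 LD2_c49 LD3_c44)) :=
  Lgr Lrot126 (Lpe (f357529 IH) (Lpr_bt (f357528 IH) (Lpr_gt (K25.f178128 IH) (Lpr_ct (K22.f179740 IH) (Lpr_gt (K26.f357522 IH) (Lpe (K26.f245905 IH) (Lpr_bt (K20.f314705 IH) (Lpe (K22.f322515 IH) (Lpr_bf (K15.f184284 IH) (Lpe (f184329 IH) (Lpn (LP (LK LD1_c15 LD2_c49 LD3_c44)))))))))))))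
theorem f378123 : Led Lsl_af (LP (LK LD1_c8 LD2_c36 LD3_c16)) = (LP (LK LD1_c8 LD2_c25 LD3_c29)) :=
  Lgr Lrot31 (Lpr_gf (f378121 IH) (Lpr_gf (f357530 IH) (Lpr_ft (f184328 IH) (Lpn (LP (LK LD1_c8 LD2_c25 LD3_c29))))))
theorem f378127 : Led Lsl_at (LP (LK LD1_c8 LD2_c36 LD3_c16)) = (LP (LK LD1_c8 LD2_c25 LD3_c29)) :=
  Lgr Lrot100 (Lpr_af (f378123 IH) (Lpn (LP (LK LD1_c8 LD2_c25 LD3_c29))))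
theorem f383770 : Led Lsl_bt (LP (LK LD1_c11 LD2_c18 LD3_c54)) = (LP (LK LD1_c20 LD2_c15 LD3_c33)) :=
  Lre_b IH (LK LD1_c11 LD2_c18 LD3_c54) (LK LD1_c20 LD2_c15 LD3_c33) Lrfl Lrfl
theorem f383771 : Led Lsl_at (LP (LK LD1_c15 LD2_c49 LD3_c42)) = (LP (LK LD1_c11 LD2_c18 LD3_c54)) :=
  Lgr Lrot67 (Lpe (K27.f184333 IH) (Lpe (f378127 IH) (Lpe (f258354 IH) (Lpr_af (f383762 IH) (Lpe (f383770 IH) (Lpn (LP (LK LD1_c11 LD2_c18 LD3_c54))))))))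
theorem f184319 : Led Lsl_bt (LP (LK LD1_c15 LD2_c49 LD3_c42)) = (LP (LK LD1_c8 LD2_c25 LD3_c29)) :=
  Lre_b IH (LK LD1_c15 LD2_c49 LD3_c42) (LK LD1_c8 LD2_c25 LD3_c29) Lrfl Lrfl
theorem f169244 : Led Lsl_dt (LP (LK LD1_c2 LD2_c38 LD3_c20)) = (LP (LK LD1_c5 LD2_c23 LD3_c37)) :=
  Lre_d IH (LK LD1_c2 LD2_c38 LD3_c20) (LK LD1_c5 LD2_c23 LD3_c37) Lrfl Lrfl
theorem f184258 : Led Lsl_bf (LP (LK LD1_c4 LD2_c16 LD3_c47)) = (LP (LK LD1_c5 LD2_c23 LD3_c37)) :=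
  Lgr Lrot93 (Lpr_dt (K15.f184252 IH) (Lpe (K21.f169173 IH) (Lpr_dt (f169244 IH) (Lpn (LP (LK LD1_c5 LD2_c23 LD3_c37))))))
theorem f184320 : Led Lsl_bt (LP (LK LD1_c8 LD2_c32 LD3_c53)) = (LP (LK LD1_c16 LD2_c2 LD3_c49)) :=
  Lre_b IH (LK LD1_c8 LD2_c32 LD3_c53) (LK LD1_c16 LD2_c2 LD3_c49) Lrfl Lrfl
theorem f184321 : Led Lsl_cf (LP (LK LD1_c15 LD2_c49 LD3_c42)) = (LP (LK LD1_c16 LD2_c2 LD3_c49)) :=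
  Lgr Lrot97 (Lpr_bt (f184319 IH) (Lpr_ct (K27.f184312 IH) (Lpe (f184258 IH) (Lpr_ct (K20.f184297 IH) (Lpr_bt (f184320 IH) (Lpn (LP (LK LD1_c16 LD2_c2 LD3_c49))))))))
theorem f384076 : Led Lsl_at (LP (LK LD1_c17 LD2_c55 LD3_c40)) = (LP (LK LD1_c16 LD2_c2 LD3_c49)) :=
  Lgr Lrot107 (Lpr_cf (K27.f384073 IH) (Lpe (f383771 IH) (Lpr_cf (f184321 IH) (Lpn (LP (LK LD1_c16 LD2_c2 LD3_c49))))))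
theorem f384081 : Led Lsl_af (LP (LK LD1_c9 LD2_c45 LD3_c58)) = (LP (LK LD1_c8 LD2_c32 LD3_c51)) :=
  Lgr Lrot50 (Lpr_et (K27.f384068 IH) (Lpr_at (f384076 IH) (Lpr_et (K27.f184348 IH) (Lpn (LP (LK LD1_c8 LD2_c32 LD3_c51))))))
theorem f384041 : Led Lsl_dt (LP (LK LD1_c9 LD2_c45 LD3_c58)) = (LP (LK LD1_c4 LD2_c57 LD3_c34)) :=
  Lre_d IH (LK LD1_c9 LD2_c45 LD3_c58) (LK LD1_c4 LD2_c57 LD3_c34) Lrfl Lrfl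
theorem f384134 : Led Lsl_at (LP (LK LD1_c4 LD2_c57 LD3_c34)) = (LP (LK LD1_c5 LD2_c44 LD3_c11)) :=
  Lgr Lrot51 (Lpe (f384041 IH) (Lpr_af (f384081 IH) (Lpr_df (K27.f384132 IH) (Lpn (LP (LK LD1_c5 LD2_c44 LD3_c11))))))
theorem f383633 : Led Lsl_at (LP (LK LD1_c2 LD2_c48 LD3_c3)) = (LP (LK LD1_c5 LD2_c44 LD3_c10)) :=
  Lre_a IH (LK LD1_c2 LD2_c48 LD3_c3) (LK LD1_c5 LD2_c44 LD3_c10) Lrfl Lrfl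
theorem f384164 : Led Lsl_cf (LP (LK LD1_c4 LD2_c57 LD3_c34)) = (LP (LK LD1_c5 LD2_c44 LD3_c10)) :=
  Lgr Lrot1 (Lpr_at (f384134 IH) (Lpr_ct (K27.f270615 IH) (Lpr_at (f383633 IH) (Lpn (LP (LK LD1_c5 LD2_c44 LD3_c10))))))
theorem f383806 : Led Lsl_ct (LP (LK LD1_c9 LD2_c45 LD3_c58)) = (LP (LK LD1_c5 LD2_c44 LD3_c24)) :=
  Lgr Lrot7 (Lpe (K27.f173664 IH) (Lpe (K27.f168859 IH) (Lpe (K27.f313554 IH) (Lpe (K27.f313555 IH) (Lpe (K27.f381489 IH) (Lpr_gt (K27.f381509 IH) (Lpr_dt (K27.f381622 IH) (Lpr_gt (K27.f383804 IH) (Lpr_dt (K27.f381546 IH) (Lpn (LP (LK LD1_c5 LD2_c44 LD3_c24))))))))))))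
theorem f381570 : Led Lsl_dt (LP (LK LD1_c2 LD2_c48 LD3_c4)) = (LP (LK LD1_c5 LD2_c44 LD3_c16)) :=
  Lre_d IH (LK LD1_c2 LD2_c48 LD3_c4) (LK LD1_c5 LD2_c44 LD3_c16) Lrfl Lrfl
theorem f383460 : Led Lsl_ff (LP (LK LD1_c8 LD2_c25 LD3_c27)) = (LP (LK LD1_c5 LD2_c44 LD3_c16)) :=
  Lgr Lrot19 (Lpe (K27.f310096 IH) (Lpr_ft (K27.f383456 IH) (Lpr_dt (f381570 IH) (Lpn (LP (LK LD1_c5 LD2_c44 LD3_c16))))))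
theorem f383684 : Led Lsl_at (LP (LK LD1_c8 LD2_c25 LD3_c27)) = (LP (LK LD1_c5 LD2_c44 LD3_c24)) :=
  Lgr Lrot66 (Lpr_ff (f383460 IH) (Lpe (K27.f383472 IH) (Lpr_ff (K27.f383679 IH) (Lpn (LP (LK LD1_c5 LD2_c44 LD3_c24))))))
theorem f383254 : Led Lsl_df (LP (LK LD1_c2 LD2_c44 LD3_c35)) = (LP (LK LD1_c1 LD2_c20 LD3_c17)) :=
  Lgr Lrot38 (Lpr_dt (K27.f383251 IH) (Lpn (LP (LK LD1_c1 LD2_c20 LD3_c17))))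
theorem f211954 : Led Lsl_ct (LP (LK LD1_c2 LD2_c44 LD3_c35)) = (LP (LK LD1_c5 LD2_c37 LD3_c18)) :=
  Lre_c IH (LK LD1_c2 LD2_c44 LD3_c35) (LK LD1_c5 LD2_c37 LD3_c18) Lrfl Lrfl
theorem f384169 : Led Lsl_dt (LP (LK LD1_c5 LD2_c37 LD3_c18)) = (LP (LK LD1_c5 LD2_c44 LD3_c10)) :=
  Lgr Lrot140 (Lpe (f211954 IH) (Lpr_df (f383254 IH) (Lpe (K27.f381511 IH) (Lpe (K27.f381574 IH) (Lpe (f383460 IH) (Lpr_at (f383684 IH) (Lpe (f383806 IH) (Lpe (K27.f173664 IH) (Lpr_cf (f384164 IH) (Lpn (LP (LK LD1_c5 LD2_c44 LD3_c10))))))))))))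
theorem f211953 : Led Lsl_gt (LP (LK LD1_c4 LD2_c31 LD3_c4)) = (LP (LK LD1_c2 LD2_c12 LD3_c30)) :=
  Lre_g IH (LK LD1_c4 LD2_c31 LD3_c4) (LK LD1_c2 LD2_c12 LD3_c30) Lrfl Lrfl
theorem f384166 : Led Lsl_ct (LP (LK LD1_c4 LD2_c57 LD3_c34)) = (LP (LK LD1_c5 LD2_c44 LD3_c10)) :=
  Lgr Lrot59 (Lpr_cf (f384164 IH) (Lpn (LP (LK LD1_c5 LD2_c44 LD3_c10))))
theorem f168858 : Led Lsl_ct (LP (LK LD1_c1 LD2_c10 LD3_c36)) = (LP (LK LD1_c2 LD2_c26 LD3_c40)) :=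
  Lre_c IH (LK LD1_c1 LD2_c10 LD3_c36) (LK LD1_c2 LD2_c26 LD3_c40) Lrfl Lrfl
theorem f384174 : Led Lsl_df (LP (LK LD1_c4 LD2_c31 LD3_c4)) = (LP (LK LD1_c2 LD2_c26 LD3_c39)) :=
  Lgr Lrot155 (Lpr_gt (f211953 IH) (Lpe (K17.f211844 IH) (Lpr_gt (K27.f211949 IH) (Lpr_ct (f211954 IH) (Lpr_dt (f384169 IH) (Lpe (f384166 IH) (Lpe (K27.f168859 IH) (Lpe (f168858 IH) (Lpe (K27.f79681 IH) (Lpn (LP (LK LD1_c2 LD2_c26 LD3_c39))))))))))))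
theorem f384176 : Led Lsl_dt (LP (LK LD1_c4 LD2_c31 LD3_c4)) = (LP (LK LD1_c2 LD2_c26 LD3_c39)) :=
  Lgr Lrot42 (Lpr_df (f384174 IH) (Lpn (LP (LK LD1_c2 LD2_c26 LD3_c39))))
theorem f289419 : Led Lsl_ct (LP (LK LD1_c2 LD2_c33 LD3_c6)) = (LP (LK LD1_c4 LD2_c53 LD3_c52)) :=
  Lgr Lrot59 (Lpr_cf (K18.f289414 IH) (Lpn (LP (LK LD1_c4 LD2_c53 LD3_c52))))
theorem f165152 : Led Lsl_ef (LP (LK LD1_c2 LD2_c44 LD3_c42)) = (LP (LK LD1_c4 LD2_c53 LD3_c52)) :=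
  Lgr Lrot88 (Lpr_et (K18.f165146 IH) (Lpn (LP (LK LD1_c4 LD2_c53 LD3_c52))))
theorem f289426 : Led Lsl_ct (LP (LK LD1_c2 LD2_c44 LD3_c42)) = (LP (LK LD1_c4 LD2_c31 LD3_c1)) :=
  Lgr Lrot15 (Lpr_ef (f165152 IH) (Lpe (f289419 IH) (Lpr_ef (K18.f289424 IH) (Lpn (LP (LK LD1_c4 LD2_c31 LD3_c1))))))
theorem f386866 : Led Lsl_gf (LP (LK LD1_c4 LD2_c31 LD3_c4)) = (LP (LK LD1_c2 LD2_c44 LD3_c42)) :=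
  Lgr Lrot144 (Lpr_dt (f384176 IH) (Lpr_gt (K27.f79681 IH) (Lpr_dt (K27.f172499 IH) (Lpe (K27.f168865 IH) (Lpe (K27.f168866 IH) (Lpe (K27.f75974 IH) (Lpe (K27.f384037 IH) (Lpr_gf (K27.f386864 IH) (Lpe (f289426 IH) (Lpn (LP (LK LD1_c2 LD2_c44 LD3_c42))))))))))))
theorem f79680 : Led Lsl_dt (LP (LK LD1_c0 LD2_c32 LD3_c42)) = (LP (LK LD1_c1 LD2_c10 LD3_c36)) :=
  Lre_d IH (LK LD1_c0 LD2_c32 LD3_c42) (LK LD1_c1 LD2_c10 LD3_c36) Lrfl Lrfl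
theorem f79679 : Led Lsl_et (LP (LK LD1_c0 LD2_c32 LD3_c42)) = (LP (LK LD1_c0 LD2_c14 LD3_c46)) :=
  Lre_e IH (LK LD1_c0 LD2_c32 LD3_c42) (LK LD1_c0 LD2_c14 LD3_c46) Lrfl Lrfl
theorem f76112 : Led Lsl_et (LP (LK LD1_c1 LD2_c10 LD3_c51)) = (LP (LK LD1_c0 LD2_c32 LD3_c51)) :=
  Lre_e IH (LK LD1_c1 LD2_c10 LD3_c51) (LK LD1_c0 LD2_c32 LD3_c51) Lrfl Lrfl
theorem f76113 : Led Lsl_dt (LP (LK LD1_c1 LD2_c10 LD3_c51)) = (LP (LK LD1_c2 LD2_c27 LD3_c14)) :=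
  Lre_d IH (LK LD1_c1 LD2_c10 LD3_c51) (LK LD1_c2 LD2_c27 LD3_c14) Lrfl Lrfl
theorem f384181 : Led Lsl_gt (LP (LK LD1_c2 LD2_c27 LD3_c14)) = (LP (LK LD1_c4 LD2_c58 LD3_c48)) :=
  Lre_g IH (LK LD1_c2 LD2_c27 LD3_c14) (LK LD1_c4 LD2_c58 LD3_c48) Lrfl Lrfl
theorem f386868 : Led Lsl_df (LP (LK LD1_c4 LD2_c58 LD3_c48)) = (LP (LK LD1_c4 LD2_c53 LD3_c52)) :=
  Lgr Lrot168 (Lpe (f384181 IH) (Lpe (f76113 IH) (Lpr_et (f76112 IH) (Lpe (K6.f74378 IH) (Lpe (f79679 IH) (Lpr_dt (f79680 IH) (Lpe (K27.f79681 IH) (Lpe (f384176 IH) (Lpr_gf (f386866 IH) (Lpr_ef (f165152 IH) (Lpn (LP (LK LD1_c4 LD2_c53 LD3_c52)))))))))))))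
theorem f386873 : Led Lsl_dt (LP (LK LD1_c4 LD2_c58 LD3_c48)) = (LP (LK LD1_c4 LD2_c53 LD3_c52)) :=
  Lgr Lrot42 (Lpr_df (f386868 IH) (Lpn (LP (LK LD1_c4 LD2_c53 LD3_c52))))
theorem f302651 : Led Lsl_dt (LP (LK LD1_c1 LD2_c13 LD3_c30)) = (LP (LK LD1_c2 LD2_c33 LD3_c7)) :=
  Lre_d IH (LK LD1_c1 LD2_c13 LD3_c30) (LK LD1_c2 LD2_c33 LD3_c7) Lrfl Lrfl
theorem f386694 : Led Lsl_dt (LP (LK LD1_c2 LD2_c55 LD3_c39)) = (LP (LK LD1_c2 LD2_c33 LD3_c6)) :=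
  Lgr Lrot44 (Lpr_af (K27.f386668 IH) (Lpe (f302651 IH) (Lpe (K18.f289413 IH) (Lpn (LP (LK LD1_c2 LD2_c33 LD3_c6))))))
theorem f387085 : Led Lsl_gf (LP (LK LD1_c1 LD2_c10 LD3_c51)) = (LP (LK LD1_c1 LD2_c13 LD3_c58)) :=
  Lgr Lrot144 (Lpr_dt (f76113 IH) (Lpr_gt (f384181 IH) (Lpr_dt (f386873 IH) (Lpe (f289419 IH) (Lpe (f386694 IH) (Lpe (K27.f384042 IH) (Lpe (K27.f76146 IH) (Lpr_gf (K27.f386763 IH) (Lpr_cf (K27.f308052 IH) (Lpn (LP (LK LD1_c1 LD2_c13 LD3_c58))))))))))))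
theorem f386899 : Led Lsl_gt (LP (LK LD1_c1 LD2_c10 LD3_c51)) = (LP (LK LD1_c2 LD2_c27 LD3_c13)) :=
  Lre_g IH (LK LD1_c1 LD2_c10 LD3_c51) (LK LD1_c2 LD2_c27 LD3_c13) Lrfl Lrfl
theorem f186692 : Led Lsl_bt (LP (LK LD1_c0 LD2_c34 LD3_c17)) = (LP (LK LD1_c1 LD2_c13 LD3_c58)) :=
  Lre_b IH (LK LD1_c0 LD2_c34 LD3_c17) (LK LD1_c1 LD2_c13 LD3_c58) Lrfl Lrfl
theorem f301867 : Led Lsl_ft (LP (LK LD1_c1 LD2_c13 LD3_c58)) = (LP (LK LD1_c1 LD2_c12 LD3_c27)) :=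
  Lgr Lrot75 (Lpe (f186692 IH) (Lpr_ff (K18.f301865 IH) (Lpe (K27.f3302 IH) (Lpn (LP (LK LD1_c1 LD2_c12 LD3_c27))))))
theorem f387089 : Led Lsl_af (LP (LK LD1_c2 LD2_c27 LD3_c13)) = (LP (LK LD1_c1 LD2_c12 LD3_c27)) :=
  Lgr Lrot31 (Lpe (f386899 IH) (Lpr_gf (f387085 IH) (Lpr_ft (f301867 IH) (Lpn (LP (LK LD1_c1 LD2_c12 LD3_c27))))))
theorem f386778 : Led Lsl_at (LP (LK LD1_c1 LD2_c23 LD3_c44)) = (LP (LK LD1_c1 LD2_c13 LD3_c47)) :=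
  Lgr Lrot100 (Lpr_af (K27.f386766 IH) (Lpn (LP (LK LD1_c1 LD2_c13 LD3_c47))))
theorem f387139 : Led Lsl_ct (LP (LK LD1_c2 LD2_c27 LD3_c13)) = (LP (LK LD1_c1 LD2_c23 LD3_c44)) :=
  Lgr Lrot111 (Lpr_af (f387089 IH) (Lpr_cf (K27.f194104 IH) (Lpe (f386778 IH) (Lpn (LP (LK LD1_c1 LD2_c23 LD3_c44))))))
theorem f386872 : Led Lsl_ct (LP (LK LD1_c4 LD2_c58 LD3_c48)) = (LP (LK LD1_c9 LD2_c48 LD3_c3)) :=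
  Lre_c IH (LK LD1_c4 LD2_c58 LD3_c48) (LK LD1_c9 LD2_c48 LD3_c3) Lrfl Lrfl
theorem f163942 : Led Lsl_bt (LP (LK LD1_c2 LD2_c34 LD3_c8)) = (LP (LK LD1_c1 LD2_c14 LD3_c2)) :=
  Lre_b IH (LK LD1_c2 LD2_c34 LD3_c8) (LK LD1_c1 LD2_c14 LD3_c2) Lrfl Lrfl
theorem f180659 : Led Lsl_dt (LP (LK LD1_c2 LD2_c24 LD3_c48)) = (LP (LK LD1_c2 LD2_c34 LD3_c8)) :=
  Lgr Lrot79 (Lpe (K11.f31694 IH) (Lpr_df (K10.f180637 IH) (Lpe (f163942 IH) (Lpn (LP (LK LD1_c2 LD2_c34 LD3_c8))))))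
theorem f180669 : Led Lsl_at (LP (LK LD1_c4 LD2_c53 LD3_c50)) = (LP (LK LD1_c2 LD2_c24 LD3_c48)) :=
  Lre_a IH (LK LD1_c4 LD2_c53 LD3_c50) (LK LD1_c2 LD2_c24 LD3_c48) Lrfl Lrfl
theorem f180670 : Led Lsl_at (LP (LK LD1_c2 LD2_c34 LD3_c8)) = (LP (LK LD1_c5 LD2_c14 LD3_c37)) :=
  Lre_a IH (LK LD1_c2 LD2_c34 LD3_c8) (LK LD1_c5 LD2_c14 LD3_c37) Lrfl Lrfl
theorem f180671 : Led Lsl_df (LP (LK LD1_c4 LD2_c53 LD3_c50)) = (LP (LK LD1_c5 LD2_c14 LD3_c37)) :=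
  Lgr Lrot18 (Lpr_at (f180669 IH) (Lpr_dt (f180659 IH) (Lpr_at (f180670 IH) (Lpn (LP (LK LD1_c5 LD2_c14 LD3_c37))))))
theorem f386878 : Led Lsl_ft (LP (LK LD1_c4 LD2_c58 LD3_c48)) = (LP (LK LD1_c5 LD2_c14 LD3_c37)) :=
  Lgr Lrot54 (Lpr_df (f386868 IH) (Lpr_ff (K27.f302665 IH) (Lpr_df (f180671 IH) (Lpn (LP (LK LD1_c5 LD2_c14 LD3_c37))))))
theorem f386887 : Led Lsl_ff (LP (LK LD1_c4 LD2_c58 LD3_c48)) = (LP (LK LD1_c5 LD2_c14 LD3_c37)) :=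
  Lgr Lrot3 (Lpr_ft (f386878 IH) (Lpn (LP (LK LD1_c5 LD2_c14 LD3_c37))))
theorem f180689 : Led Lsl_ct (LP (LK LD1_c10 LD2_c18 LD3_c45)) = (LP (LK LD1_c5 LD2_c14 LD3_c37)) :=
  Lre_c IH (LK LD1_c10 LD2_c18 LD3_c45) (LK LD1_c5 LD2_c14 LD3_c37) Lrfl Lrfl
theorem f386891 : Led Lsl_ft (LP (LK LD1_c9 LD2_c48 LD3_c3)) = (LP (LK LD1_c10 LD2_c18 LD3_c45)) :=
  Lgr Lrot4 (Lpe (f386872 IH) (Lpr_ff (f386887 IH) (Lpe (f180689 IH) (Lpn (LP (LK LD1_c10 LD2_c18 LD3_c45))))))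
theorem f180676 : Led Lsl_at (LP (LK LD1_c10 LD2_c18 LD3_c45)) = (LP (LK LD1_c5 LD2_c14 LD3_c38)) :=
  Lre_a IH (LK LD1_c10 LD2_c18 LD3_c45) (LK LD1_c5 LD2_c14 LD3_c38) Lrfl Lrfl
theorem f163944 : Led Lsl_gt (LP (LK LD1_c10 LD2_c18 LD3_c47)) = (LP (LK LD1_c5 LD2_c14 LD3_c38)) :=
  Lre_g IH (LK LD1_c10 LD2_c18 LD3_c47) (LK LD1_c5 LD2_c14 LD3_c38) Lrfl Lrfl
theorem f386897 : Led Lsl_gt (LP (LK LD1_c9 LD2_c48 LD3_c3)) = (LP (LK LD1_c10 LD2_c18 LD3_c47)) :=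
  Lgr Lrot5 (Lpr_ft (f386891 IH) (Lpr_at (f180676 IH) (Lpe (f163944 IH) (Lpn (LP (LK LD1_c10 LD2_c18 LD3_c47))))))
theorem f426195 : Led Lsl_dt (LP (LK LD1_c5 LD2_c57 LD3_c48)) = (LP (LK LD1_c2 LD2_c55 LD3_c13)) :=
  Lre_d IH (LK LD1_c5 LD2_c57 LD3_c48) (LK LD1_c2 LD2_c55 LD3_c13) Lrfl Lrfl
theorem f426226 : Led Lsl_ct (LP (LK LD1_c10 LD2_c18 LD3_c47)) = (LP (LK LD1_c5 LD2_c57 LD3_c48)) :=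
  Lgr Lrot110 (Lpe (f386897 IH) (Lpe (f386872 IH) (Lpe (f384181 IH) (Lpe (f76113 IH) (Lpr_gt (f386899 IH) (Lpr_ct (f387139 IH) (Lpr_gt (K27.f386788 IH) (Lpr_ct (K27.f426211 IH) (Lpe (f426195 IH) (Lpn (LP (LK LD1_c5 LD2_c57 LD3_c48))))))))))))
theorem f426228 : Led Lsl_cf (LP (LK LD1_c10 LD2_c18 LD3_c47)) = (LP (LK LD1_c5 LD2_c57 LD3_c48)) :=
  Lgr Lrot11 (Lpr_ct (f426226 IH) (Lpn (LP (LK LD1_c5 LD2_c57 LD3_c48))))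
theorem f163943 : Led Lsl_ct (LP (LK LD1_c2 LD2_c34 LD3_c8)) = (LP (LK LD1_c5 LD2_c14 LD3_c38)) :=
  Lre_c IH (LK LD1_c2 LD2_c34 LD3_c8) (LK LD1_c5 LD2_c14 LD3_c38) Lrfl Lrfl
theorem f186569 : Led Lsl_bt (LP (LK LD1_c1 LD2_c13 LD3_c31)) = (LP (LK LD1_c2 LD2_c33 LD3_c7)) :=
  Lre_b IH (LK LD1_c1 LD2_c13 LD3_c31) (LK LD1_c2 LD2_c33 LD3_c7) Lrfl Lrfl
theorem f386715 : Led Lsl_bt (LP (LK LD1_c5 LD2_c57 LD3_c48)) = (LP (LK LD1_c2 LD2_c55 LD3_c41)) :=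
  Lre_b IH (LK LD1_c5 LD2_c57 LD3_c48) (LK LD1_c2 LD2_c55 LD3_c41) Lrfl Lrfl
theorem f426240 : Led Lsl_gt (LP (LK LD1_c2 LD2_c33 LD3_c7)) = (LP (LK LD1_c2 LD2_c55 LD3_c41)) :=
  Lgr Lrot164 (Lpe (f186569 IH) (Lpr_ct (K10.f185762 IH) (Lpr_gf (K10.f163936 IH) (Lpe (K8.f163771 IH) (Lpe (K10.f59574 IH) (Lpe (f163942 IH) (Lpr_ct (f163943 IH) (Lpe (f163944 IH) (Lpr_cf (f426228 IH) (Lpr_bt (f386715 IH) (Lpn (LP (LK LD1_c2 LD2_c55 LD3_c41)))))))))))))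
theorem f302656 : Led Lsl_ft (LP (LK LD1_c2 LD2_c33 LD3_c7)) = (LP (LK LD1_c2 LD2_c30 LD3_c34)) :=
  Lgr Lrot48 (Lpr_ff (K27.f302645 IH) (Lpn (LP (LK LD1_c2 LD2_c30 LD3_c34))))
theorem f302658 : Led Lsl_at (LP (LK LD1_c2 LD2_c30 LD3_c34)) = (LP (LK LD1_c5 LD2_c6 LD3_c32)) :=
  Lre_a IH (LK LD1_c2 LD2_c30 LD3_c34) (LK LD1_c5 LD2_c6 LD3_c32) Lrfl Lrfl
theorem f426244 : Led Lsl_gf (LP (LK LD1_c5 LD2_c6 LD3_c32)) = (LP (LK LD1_c2 LD2_c55 LD3_c41)) :=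
  Lgr Lrot76 (Lpe (f302658 IH) (Lpe (f302656 IH) (Lpr_gt (f426240 IH) (Lpn (LP (LK LD1_c2 LD2_c55 LD3_c41))))))
theorem f386848 : Led Lsl_ft (LP (LK LD1_c2 LD2_c55 LD3_c41)) = (LP (LK LD1_c1 LD2_c23 LD3_c45)) :=
  Lre_f IH (LK LD1_c2 LD2_c55 LD3_c41) (LK LD1_c1 LD2_c23 LD3_c45) Lrfl Lrfl
theorem f386847 : Led Lsl_at (LP (LK LD1_c1 LD2_c23 LD3_c45)) = (LP (LK LD1_c2 LD2_c55 LD3_c6)) :=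
  Lre_a IH (LK LD1_c1 LD2_c23 LD3_c45) (LK LD1_c2 LD2_c55 LD3_c6) Lrfl Lrfl
theorem f426246 : Led Lsl_gt (LP (LK LD1_c5 LD2_c6 LD3_c32)) = (LP (LK LD1_c2 LD2_c55 LD3_c6)) :=
  Lgr Lrot46 (Lpr_gf (f426244 IH) (Lpr_ft (f386848 IH) (Lpr_at (f386847 IH) (Lpn (LP (LK LD1_c2 LD2_c55 LD3_c6))))))
theorem f205141 : Led Lsl_dt (LP (LK LD1_c2 LD2_c30 LD3_c33)) = (LP (LK LD1_c5 LD2_c6 LD3_c32)) :=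
  Lre_d IH (LK LD1_c2 LD2_c30 LD3_c33) (LK LD1_c5 LD2_c6 LD3_c32) Lrfl Lrfl
theorem f197359 : Led Lsl_gt (LP (LK LD1_c1 LD2_c13 LD3_c30)) = (LP (LK LD1_c2 LD2_c33 LD3_c4)) :=
  Lre_g IH (LK LD1_c1 LD2_c13 LD3_c30) (LK LD1_c2 LD2_c33 LD3_c4) Lrfl Lrfl
theorem f302649 : Led Lsl_gt (LP (LK LD1_c2 LD2_c33 LD3_c4)) = (LP (LK LD1_c2 LD2_c30 LD3_c33)) :=
  Lgr Lrot46 (Lpe (f197359 IH) (Lpr_ft (K27.f302639 IH) (Lpr_at (K27.f22206 IH) (Lpn (LP (LK LD1_c2 LD2_c30 LD3_c33))))))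
theorem f302652 : Led Lsl_et (LP (LK LD1_c5 LD2_c12 LD3_c28)) = (LP (LK LD1_c2 LD2_c33 LD3_c4)) :=
  Lre_e IH (LK LD1_c5 LD2_c12 LD3_c28) (LK LD1_c2 LD2_c33 LD3_c4) Lrfl Lrfl
theorem f381118 : Led Lsl_at (LP (LK LD1_c2 LD2_c47 LD3_c38)) = (LP (LK LD1_c1 LD2_c20 LD3_c10)) :=
  Lre_a IH (LK LD1_c2 LD2_c47 LD3_c38) (LK LD1_c1 LD2_c20 LD3_c10) Lrfl Lrfl
theorem f381119 : Led Lsl_ft (LP (LK LD1_c1 LD2_c20 LD3_c14)) = (LP (LK LD1_c2 LD2_c47 LD3_c38)) :=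
  Lre_f IH (LK LD1_c1 LD2_c20 LD3_c14) (LK LD1_c2 LD2_c47 LD3_c38) Lrfl Lrfl
theorem f381120 : Led Lsl_gt (LP (LK LD1_c1 LD2_c20 LD3_c14)) = (LP (LK LD1_c2 LD2_c47 LD3_c2)) :=
  Lgr Lrot5 (Lpr_ft (f381119 IH) (Lpr_at (f381118 IH) (Lpr_gf (K27.f381116 IH) (Lpn (LP (LK LD1_c2 LD2_c47 LD3_c2))))))
theorem f387439 : Led Lsl_et (LP (LK LD1_c2 LD2_c47 LD3_c36)) = (LP (LK LD1_c1 LD2_c20 LD3_c6)) :=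
  Lre_e IH (LK LD1_c2 LD2_c47 LD3_c36) (LK LD1_c1 LD2_c20 LD3_c6) Lrfl Lrfl
theorem f387440 : Led Lsl_dt (LP (LK LD1_c2 LD2_c47 LD3_c36)) = (LP (LK LD1_c5 LD2_c43 LD3_c12)) :=
  Lre_d IH (LK LD1_c2 LD2_c47 LD3_c36) (LK LD1_c5 LD2_c43 LD3_c12) Lrfl Lrfl
theorem f101560 : Led Lsl_gt (LP (LK LD1_c2 LD2_c56 LD3_c56)) = (LP (LK LD1_c5 LD2_c43 LD3_c12)) :=
  Lre_g IH (LK LD1_c2 LD2_c56 LD3_c56) (LK LD1_c5 LD2_c43 LD3_c12) Lrfl Lrfl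
theorem f387441 : Led Lsl_df (LP (LK LD1_c2 LD2_c56 LD3_c56)) = (LP (LK LD1_c5 LD2_c12 LD3_c28)) :=
  Lgr Lrot170 (Lpr_gt (f101560 IH) (Lpe (f387440 IH) (Lpr_et (f387439 IH) (Lpr_gt (K27.f381390 IH) (Lpr_dt (K27.f381205 IH) (Lpr_gt (f381120 IH) (Lpe (K17.f178880 IH) (Lpe (K18.f185115 IH) (Lpr_gt (f197359 IH) (Lpe (f302652 IH) (Lpn (LP (LK LD1_c5 LD2_c12 LD3_c28)))))))))))))
theorem f186320 : Led Lsl_gt (LP (LK LD1_c1 LD2_c24 LD3_c14)) = (LP (LK LD1_c2 LD2_c56 LD3_c56)) :=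
  Lre_g IH (LK LD1_c1 LD2_c24 LD3_c14) (LK LD1_c2 LD2_c56 LD3_c56) Lrfl Lrfl
theorem f387455 : Led Lsl_dt (LP (LK LD1_c0 LD2_c38 LD3_c52)) = (LP (LK LD1_c1 LD2_c24 LD3_c14)) :=
  Lre_d IH (LK LD1_c0 LD2_c38 LD3_c52) (LK LD1_c1 LD2_c24 LD3_c14) Lrfl Lrfl
theorem f387456 : Led Lsl_et (LP (LK LD1_c0 LD2_c38 LD3_c52)) = (LP (LK LD1_c0 LD2_c17 LD3_c15)) :=
  Lre_e IH (LK LD1_c0 LD2_c38 LD3_c52) (LK LD1_c0 LD2_c17 LD3_c15) Lrfl Lrfl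
theorem f386740 : Led Lsl_dt (LP (LK LD1_c1 LD2_c23 LD3_c30)) = (LP (LK LD1_c2 LD2_c55 LD3_c6)) :=
  Lre_d IH (LK LD1_c1 LD2_c23 LD3_c30) (LK LD1_c2 LD2_c55 LD3_c6) Lrfl Lrfl
theorem f386758 : Led Lsl_et (LP (LK LD1_c1 LD2_c23 LD3_c30)) = (LP (LK LD1_c0 LD2_c38 LD3_c37)) :=
  Lre_e IH (LK LD1_c1 LD2_c23 LD3_c30) (LK LD1_c0 LD2_c38 LD3_c37) Lrfl Lrfl
theorem f426248 : Led Lsl_gf (LP (LK LD1_c0 LD2_c17 LD3_c15)) = (LP (LK LD1_c0 LD2_c38 LD3_c37)) :=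
  Lgr Lrot141 (Lpe (f387456 IH) (Lpr_dt (f387455 IH) (Lpr_gt (f186320 IH) (Lpr_df (f387441 IH) (Lpr_et (f302652 IH) (Lpr_gt (f302649 IH) (Lpr_dt (f205141 IH) (Lpr_gt (f426246 IH) (Lpe (f386740 IH) (Lpr_et (f386758 IH) (Lpn (LP (LK LD1_c0 LD2_c38 LD3_c37)))))))))))))
theorem f163160 : Led Lsl_af (LP (LK LD1_c1 LD2_c23 LD3_c3)) = (LP (LK LD1_c1 LD2_c23 LD3_c34)) :=
  Lgr Lrot0 (Lpr_at (K8.f163158 IH) (Lpn (LP (LK LD1_c1 LD2_c23 LD3_c34))))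
theorem f105099 : Led Lsl_dt (LP (LK LD1_c9 LD2_c29 LD3_c59)) = (LP (LK LD1_c4 LD2_c48 LD3_c44)) :=
  Lre_d IH (LK LD1_c9 LD2_c29 LD3_c59) (LK LD1_c4 LD2_c48 LD3_c44) Lrfl Lrfl
theorem f137614 : Led Lsl_gt (LP (LK LD1_c1 LD2_c23 LD3_c31)) = (LP (LK LD1_c0 LD2_c38 LD3_c38)) :=
  Lre_g IH (LK LD1_c1 LD2_c23 LD3_c31) (LK LD1_c0 LD2_c38 LD3_c38) Lrfl Lrfl
theorem f424602 : Led Lsl_ft (LP (LK LD1_c1 LD2_c23 LD3_c31)) = (LP (LK LD1_c1 LD2_c23 LD3_c34)) :=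
  Lgr Lrot2 (Lpr_gt (f137614 IH) (Lpe (K8.f161296 IH) (Lpr_af (f163160 IH) (Lpn (LP (LK LD1_c1 LD2_c23 LD3_c34))))))
theorem f424604 : Led Lsl_dt (LP (LK LD1_c1 LD2_c23 LD3_c31)) = (LP (LK LD1_c2 LD2_c55 LD3_c7)) :=
  Lre_d IH (LK LD1_c1 LD2_c23 LD3_c31) (LK LD1_c2 LD2_c55 LD3_c7) Lrfl Lrfl
theorem f424605 : Led Lsl_cf (LP (LK LD1_c4 LD2_c59 LD3_c23)) = (LP (LK LD1_c2 LD2_c55 LD3_c7)) :=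
  Lgr Lrot118 (Lpe (K8.f74372 IH) (Lpe (K8.f158485 IH) (Lpr_dt (f105099 IH) (Lpr_ct (K8.f158480 IH) (Lpr_dt (K4.f74535 IH) (Lpr_ct (K6.f81837 IH) (Lpr_af (f163160 IH) (Lpe (f424602 IH) (Lpr_dt (f424604 IH) (Lpn (LP (LK LD1_c2 LD2_c55 LD3_c7))))))))))))
theorem f424616 : Led Lsl_ft (LP (LK LD1_c2 LD2_c55 LD3_c14)) = (LP (LK LD1_c2 LD2_c55 LD3_c7)) :=
  Lgr Lrot4 (Lpe (K8.f26565 IH) (Lpe (K8.f163194 IH) (Lpr_cf (f424605 IH) (Lpn (LP (LK LD1_c2 LD2_c55 LD3_c7))))))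
theorem f424622 : Led Lsl_ff (LP (LK LD1_c2 LD2_c55 LD3_c14)) = (LP (LK LD1_c2 LD2_c55 LD3_c7)) :=
  Lgr Lrot3 (Lpr_ft (f424616 IH) (Lpn (LP (LK LD1_c2 LD2_c55 LD3_c7))))
theorem f26420 : Led Lsl_ct (LP (LK LD1_c2 LD2_c56 LD3_c9)) = (LP (LK LD1_c1 LD2_c23 LD3_c61)) :=
  Lre_c IH (LK LD1_c2 LD2_c56 LD3_c9) (LK LD1_c1 LD2_c23 LD3_c61) Lrfl Lrfl
theorem f81966 : Led Lsl_bt (LP (LK LD1_c4 LD2_c59 LD3_c22)) = (LP (LK LD1_c9 LD2_c49 LD3_c7)) :=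
  Lre_b IH (LK LD1_c4 LD2_c59 LD3_c22) (LK LD1_c9 LD2_c49 LD3_c7) Lrfl Lrfl
theorem f141543 : Led Lsl_gt (LP (LK LD1_c1 LD2_c23 LD3_c61)) = (LP (LK LD1_c2 LD2_c54 LD3_c9)) :=
  Lgr Lrot149 (Lpe (f26420 IH) (Lpr_gf (K0.f26408 IH) (Lpe (K6.f26422 IH) (Lpe (K6.f40529 IH) (Lpr_gf (K6.f40527 IH) (Lpe (K6.f40540 IH) (Lpr_bt (K6.f141541 IH) (Lpe (K6.f81967 IH) (Lpe (f81966 IH) (Lpr_ct (K6.f81953 IH) (Lpn (LP (LK LD1_c2 LD2_c54 LD3_c9)))))))))))))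
theorem f424627 : Led Lsl_gf (LP (LK LD1_c1 LD2_c23 LD3_c61)) = (LP (LK LD1_c2 LD2_c55 LD3_c7)) :=
  Lgr Lrot47 (Lpr_gt (f141543 IH) (Lpr_af (K8.f163164 IH) (Lpr_ff (f424622 IH) (Lpn (LP (LK LD1_c2 LD2_c55 LD3_c7))))))
theorem f137615 : Led Lsl_dt (LP (LK LD1_c2 LD2_c55 LD3_c7)) = (LP (LK LD1_c1 LD2_c23 LD3_c31)) :=
  Lre_d IH (LK LD1_c2 LD2_c55 LD3_c7) (LK LD1_c1 LD2_c23 LD3_c31) Lrfl Lrfl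
theorem f426262 : Led Lsl_ct (LP (LK LD1_c0 LD2_c38 LD3_c38)) = (LP (LK LD1_c0 LD2_c38 LD3_c37)) :=
  Lgr Lrot152 (Lpe (f137614 IH) (Lpe (f137615 IH) (Lpe (f424627 IH) (Lpr_ct (K0.f26406 IH) (Lpr_gt (K0.f26413 IH) (Lpr_ct (K4.f20421 IH) (Lpe (K6.f26449 IH) (Lpe (K3.f26450 IH) (Lpr_gf (f426248 IH) (Lpn (LP (LK LD1_c0 LD2_c38 LD3_c37))))))))))))
theorem f74710 : Led Lsl_dt (LP (LK LD1_c1 LD2_c23 LD3_c32)) = (LP (LK LD1_c0 LD2_c38 LD3_c38)) :=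
  Lre_d IH (LK LD1_c1 LD2_c23 LD3_c32) (LK LD1_c0 LD2_c38 LD3_c38) Lrfl Lrfl
theorem f426030 : Led Lsl_dt (LP (LK LD1_c1 LD2_c23 LD3_c39)) = (LP (LK LD1_c2 LD2_c55 LD3_c22)) :=
  Lre_d IH (LK LD1_c1 LD2_c23 LD3_c39) (LK LD1_c2 LD2_c55 LD3_c22) Lrfl Lrfl
theorem f426071 : Led Lsl_cf (LP (LK LD1_c2 LD2_c55 LD3_c22)) = (LP (LK LD1_c5 LD2_c51 LD3_c33)) :=
  Lgr Lrot14 (Lpe (f426030 IH) (Lpr_gf (K24.f426059 IH) (Lpe (K6.f81951 IH) (Lpe (f141543 IH) (Lpr_ct (K0.f26406 IH) (Lpr_gt (K0.f26413 IH) (Lpr_dt (K4.f26444 IH) (Lpr_gt (K6.f14358 IH) (Lpe (K6.f139313 IH) (Lpn (LP (LK LD1_c5 LD2_c51 LD3_c33))))))))))))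
theorem f426264 : Led Lsl_dt (LP (LK LD1_c0 LD2_c38 LD3_c37)) = (LP (LK LD1_c1 LD2_c23 LD3_c29)) :=
  Lre_d IH (LK LD1_c0 LD2_c38 LD3_c37) (LK LD1_c1 LD2_c23 LD3_c29) Lrfl Lrfl
theorem f426062 : Led Lsl_ct (LP (LK LD1_c1 LD2_c23 LD3_c29)) = (LP (LK LD1_c2 LD2_c55 LD3_c4)) :=
  Lre_c IH (LK LD1_c1 LD2_c23 LD3_c29) (LK LD1_c2 LD2_c55 LD3_c4) Lrfl Lrfl
theorem f426271 : Led Lsl_dt (LP (LK LD1_c2 LD2_c55 LD3_c4)) = (LP (LK LD1_c5 LD2_c57 LD3_c35)) :=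
  Lre_d IH (LK LD1_c2 LD2_c55 LD3_c4) (LK LD1_c5 LD2_c57 LD3_c35) Lrfl Lrfl
theorem f426277 : Led Lsl_cf (LP (LK LD1_c9 LD2_c26 LD3_c6)) = (LP (LK LD1_c5 LD2_c57 LD3_c35)) :=
  Lgr Lrot161 (Lpe (K6.f139313 IH) (Lpe (f426071 IH) (Lpe (K24.f426027 IH) (Lpr_ff (K24.f426116 IH) (Lpr_dt (f74710 IH) (Lpr_ct (f426262 IH) (Lpr_dt (f426264 IH) (Lpr_ct (f426062 IH) (Lpr_dt (f426271 IH) (Lpn (LP (LK LD1_c5 LD2_c57 LD3_c35))))))))))))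
theorem f426069 : Led Lsl_ct (LP (LK LD1_c2 LD2_c55 LD3_c22)) = (LP (LK LD1_c5 LD2_c51 LD3_c33)) :=
  Lgr Lrot7 (Lpe (f426030 IH) (Lpr_gf (K24.f426059 IH) (Lpe (K6.f81951 IH) (Lpe (f141543 IH) (Lpe (f26420 IH) (Lpr_gt (K0.f26413 IH) (Lpr_dt (K4.f26444 IH) (Lpr_gt (K6.f14358 IH) (Lpe (K6.f139313 IH) (Lpn (LP (LK LD1_c5 LD2_c51 LD3_c33))))))))))))
theorem f157053 : Led Lsl_ct (LP (LK LD1_c4 LD2_c58 LD3_c37)) = (LP (LK LD1_c2 LD2_c54 LD3_c36)) :=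
  Lgr Lrot59 (Lpr_cf (K8.f157046 IH) (Lpn (LP (LK LD1_c2 LD2_c54 LD3_c36))))
theorem f74320 : Led Lsl_gt (LP (LK LD1_c4 LD2_c58 LD3_c40)) = (LP (LK LD1_c9 LD2_c47 LD3_c52)) :=
  Lre_g IH (LK LD1_c4 LD2_c58 LD3_c40) (LK LD1_c9 LD2_c47 LD3_c52) Lrfl Lrfl
theorem f38110 : Led Lsl_bt (LP (LK LD1_c1 LD2_c27 LD3_c52)) = (LP (LK LD1_c3 LD2_c3 LD3_c45)) :=
  Lre_b IH (LK LD1_c1 LD2_c27 LD3_c52) (LK LD1_c3 LD2_c3 LD3_c45) Lrfl Lrfl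
theorem f38111 : Led Lsl_ff (LP (LK LD1_c2 LD2_c10 LD3_c28)) = (LP (LK LD1_c3 LD2_c3 LD3_c45)) :=
  Lgr Lrot25 (Lpr_bt (K4.f38109 IH) (Lpr_ft (K6.f38013 IH) (Lpr_bt (f38110 IH) (Lpn (LP (LK LD1_c3 LD2_c3 LD3_c45))))))
theorem f38225 : Led Lsl_gt (LP (LK LD1_c3 LD2_c3 LD3_c45)) = (LP (LK LD1_c6 LD2_c13 LD3_c49)) :=
  Lre_g IH (LK LD1_c3 LD2_c3 LD3_c45) (LK LD1_c6 LD2_c13 LD3_c49) Lrfl Lrfl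
theorem f38226 : Led Lsl_gf (LP (LK LD1_c4 LD2_c26 LD3_c28)) = (LP (LK LD1_c6 LD2_c13 LD3_c49)) :=
  Lgr Lrot76 (Lpe (K11.f38203 IH) (Lpr_ff (f38111 IH) (Lpr_gt (f38225 IH) (Lpn (LP (LK LD1_c6 LD2_c13 LD3_c49))))))
theorem f74374 : Led Lsl_bt (LP (LK LD1_c9 LD2_c49 LD3_c58)) = (LP (LK LD1_c4 LD2_c59 LD3_c46)) :=
  Lre_b IH (LK LD1_c9 LD2_c49 LD3_c58) (LK LD1_c4 LD2_c59 LD3_c46) Lrfl Lrfl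
theorem f202950 : Led Lsl_cf (LP (LK LD1_c6 LD2_c13 LD3_c49)) = (LP (LK LD1_c9 LD2_c49 LD3_c58)) :=
  Lgr Lrot160 (Lpe (f38226 IH) (Lpe (K11.f38170 IH) (Lpr_bt (K11.f38192 IH) (Lpr_gt (K11.f202946 IH) (Lpr_ct (K11.f14067 IH) (Lpr_gt (K11.f13752 IH) (Lpr_cf (K4.f13727 IH) (Lpr_bt (K11.f14034 IH) (Lpr_gt (K2.f14069 IH) (Lpe (f74374 IH) (Lpn (LP (LK LD1_c9 LD2_c49 LD3_c58)))))))))))))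
theorem f202055 : Led Lsl_dt (LP (LK LD1_c3 LD2_c57 LD3_c46)) = (LP (LK LD1_c6 LD2_c13 LD3_c49)) :=
  Lgr Lrot6 (Lpe (K6.f38573 IH) (Lpr_ct (K2.f38505 IH) (Lpe (K6.f36019 IH) (Lpr_ct (K6.f81829 IH) (Lpe (K6.f81831 IH) (Lpe (K6.f81832 IH) (Lpr_gf (K11.f202041 IH) (Lpe (K11.f38169 IH) (Lpr_gf (f38226 IH) (Lpn (LP (LK LD1_c6 LD2_c13 LD3_c49))))))))))))
theorem f202954 : Led Lsl_dt (LP (LK LD1_c5 LD2_c58 LD3_c51)) = (LP (LK LD1_c9 LD2_c49 LD3_c58)) :=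
  Lre_d IH (LK LD1_c5 LD2_c58 LD3_c51) (LK LD1_c9 LD2_c49 LD3_c58) Lrfl Lrfl
theorem f150369 : Led Lsl_gt (LP (LK LD1_c11 LD2_c42 LD3_c6)) = (LP (LK LD1_c5 LD2_c58 LD3_c51)) :=
  Lre_g IH (LK LD1_c11 LD2_c42 LD3_c6) (LK LD1_c5 LD2_c58 LD3_c51) Lrfl Lrfl
theorem f202959 : Led Lsl_dt (LP (LK LD1_c9 LD2_c9 LD3_c39)) = (LP (LK LD1_c11 LD2_c42 LD3_c6)) :=
  Lgr Lrot57 (Lpr_gf (K8.f138141 IH) (Lpe (K8.f72137 IH) (Lpr_gt (K5.f37079 IH) (Lpr_dt (K8.f37078 IH) (Lpr_gt (K6.f36940 IH) (Lpr_dt (f202055 IH) (Lpr_cf (f202950 IH) (Lpe (f202954 IH) (Lpe (f150369 IH) (Lpn (LP (LK LD1_c11 LD2_c42 LD3_c6))))))))))))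
theorem f160563 : Led Lsl_bf (LP (LK LD1_c14 LD2_c7 LD3_c39)) = (LP (LK LD1_c15 LD2_c6 LD3_c8)) :=
  Lgr Lrot24 (Lpr_bt (K8.f160561 IH) (Lpn (LP (LK LD1_c15 LD2_c6 LD3_c8))))
theorem f160677 : Led Lsl_bt (LP (LK LD1_c13 LD2_c58 LD3_c15)) = (LP (LK LD1_c16 LD2_c28 LD3_c22)) :=
  Lgr Lrot35 (Lpe (K6.f136744 IH) (Lpr_bf (f160563 IH) (Lpr_ff (K8.f160675 IH) (Lpn (LP (LK LD1_c16 LD2_c28 LD3_c22))))))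
theorem f151237 : Led Lsl_bf (LP (LK LD1_c12 LD2_c37 LD3_c36)) = (LP (LK LD1_c14 LD2_c2 LD3_c57)) :=
  Lgr Lrot24 (Lpr_bt (K7.f151233 IH) (Lpn (LP (LK LD1_c14 LD2_c2 LD3_c57))))
theorem f147904 : Led Lsl_bf (LP (LK LD1_c7 LD2_c25 LD3_c52)) = (LP (LK LD1_c14 LD2_c2 LD3_c6)) :=
  Lgr Lrot24 (Lpr_bt (K7.f147883 IH) (Lpn (LP (LK LD1_c14 LD2_c2 LD3_c6))))
theorem f144667 : Led Lsl_cf (LP (LK LD1_c14 LD2_c2 LD3_c6)) = (LP (LK LD1_c14 LD2_c7 LD3_c41)) :=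
  Lgr Lrot1 (Lpr_at (K7.f144666 IH) (Lpr_ct (K6.f144664 IH) (Lpr_at (K6.f136734 IH) (Lpn (LP (LK LD1_c14 LD2_c7 LD3_c41))))))
theorem f151242 : Led Lsl_bf (LP (LK LD1_c14 LD2_c7 LD3_c41)) = (LP (LK LD1_c21 LD2_c3 LD3_c26)) :=
  Lgr Lrot90 (Lpe (f144667 IH) (Lpe (f147904 IH) (Lpr_ct (K7.f142535 IH) (Lpe (f151237 IH) (Lpr_ct (K7.f151240 IH) (Lpn (LP (LK LD1_c21 LD2_c3 LD3_c26))))))))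
theorem f121128 : Led Lsl_ct (LP (LK LD1_c7 LD2_c29 LD3_c3)) = (LP (LK LD1_c3 LD2_c44 LD3_c6)) :=
  Lre_c IH (LK LD1_c7 LD2_c29 LD3_c3) (LK LD1_c3 LD2_c44 LD3_c6) Lrfl Lrfl
theorem f116808 : Led Lsl_bt (LP (LK LD1_c12 LD2_c23 LD3_c11)) = (LP (LK LD1_c6 LD2_c25 LD3_c5)) :=
  Lre_b IH (LK LD1_c12 LD2_c23 LD3_c11) (LK LD1_c6 LD2_c25 LD3_c5) Lrfl Lrfl
theorem f151254 : Led Lsl_cf (LP (LK LD1_c7 LD2_c28 LD3_c28)) = (LP (LK LD1_c12 LD2_c23 LD3_c11)) :=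
  Lgr Lrot163 (Lpe (K8.f129482 IH) (Lpe (f121128 IH) (Lpe (K6.f121129 IH) (Lpr_bf (f151242 IH) (Lpe (K7.f151244 IH) (Lpr_gf (K7.f151246 IH) (Lpr_cf (K2.f81679 IH) (Lpr_bt (K8.f71895 IH) (Lpe (K4.f117676 IH) (Lpe (f116808 IH) (Lpn (LP (LK LD1_c12 LD2_c23 LD3_c11)))))))))))))
theorem f38248 : Led Lsl_gt (LP (LK LD1_c4 LD2_c25 LD3_c23)) = (LP (LK LD1_c2 LD2_c10 LD3_c5)) :=
  Lre_g IH (LK LD1_c4 LD2_c25 LD3_c23) (LK LD1_c2 LD2_c10 LD3_c5) Lrfl Lrfl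
theorem f70383 : Led Lsl_ct (LP (LK LD1_c8 LD2_c48 LD3_c17)) = (LP (LK LD1_c4 LD2_c25 LD3_c23)) :=
  Lre_c IH (LK LD1_c8 LD2_c48 LD3_c17) (LK LD1_c4 LD2_c25 LD3_c23) Lrfl Lrfl
theorem f160691 : Led Lsl_gf (LP (LK LD1_c8 LD2_c48 LD3_c17)) = (LP (LK LD1_c16 LD2_c28 LD3_c22)) :=
  Lgr Lrot181 (Lpr_ct (f70383 IH) (Lpr_gt (f38248 IH) (Lpe (K4.f38233 IH) (Lpr_bt (K6.f70374 IH) (Lpe (K4.f117670 IH) (Lpe (f116808 IH) (Lpe (f151254 IH) (Lpe (K8.f129382 IH) (Lpe (K6.f129328 IH) (Lpr_bt (f160677 IH) (Lpn (LP (LK LD1_c16 LD2_c28 LD3_c22)))))))))))))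
theorem f74767 : Led Lsl_gt (LP (LK LD1_c11 LD2_c40 LD3_c15)) = (LP (LK LD1_c5 LD2_c57 LD3_c38)) :=
  Lre_g IH (LK LD1_c11 LD2_c40 LD3_c15) (LK LD1_c5 LD2_c57 LD3_c38) Lrfl Lrfl
theorem f112581 : Led Lsl_gt (LP (LK LD1_c16 LD2_c28 LD3_c23)) = (LP (LK LD1_c8 LD2_c48 LD3_c15)) :=
  Lre_g IH (LK LD1_c16 LD2_c28 LD3_c23) (LK LD1_c8 LD2_c48 LD3_c15) Lrfl Lrfl
theorem f112698 : Led Lsl_dt (LP (LK LD1_c16 LD2_c28 LD3_c23)) = (LP (LK LD1_c11 LD2_c40 LD3_c15)) :=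
  Lgr Lrot6 (Lpr_gt (f112581 IH) (Lpr_ct (K4.f70382 IH) (Lpr_gt (K6.f112696 IH) (Lpr_ct (K2.f72114 IH) (Lpr_df (K5.f81606 IH) (Lpe (K5.f74563 IH) (Lpe (K2.f37295 IH) (Lpe (K6.f74701 IH) (Lpe (f74767 IH) (Lpn (LP (LK LD1_c11 LD2_c40 LD3_c15))))))))))))
theorem f137578 : Led Lsl_gf (LP (LK LD1_c16 LD2_c28 LD3_c23)) = (LP (LK LD1_c8 LD2_c48 LD3_c17)) :=
  Lgr Lrot144 (Lpr_dt (f112698 IH) (Lpr_gt (f74767 IH) (Lpr_dt (K6.f137569 IH) (Lpe (K6.f38010 IH) (Lpe (K6.f38009 IH) (Lpe (K6.f38008 IH) (Lpe (K4.f38515 IH) (Lpe (f38248 IH) (Lpe (f70383 IH) (Lpn (LP (LK LD1_c8 LD2_c48 LD3_c17))))))))))))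
theorem f160693 : Led Lsl_af (LP (LK LD1_c16 LD2_c28 LD3_c23)) = (LP (LK LD1_c15 LD2_c6 LD3_c8)) :=
  Lgr Lrot31 (Lpr_gf (f137578 IH) (Lpr_gf (f160691 IH) (Lpe (K8.f160675 IH) (Lpn (LP (LK LD1_c15 LD2_c6 LD3_c8))))))
theorem f112756 : Led Lsl_et (LP (LK LD1_c16 LD2_c28 LD3_c23)) = (LP (LK LD1_c26 LD2_c25 LD3_c29)) :=
  Lre_e IH (LK LD1_c16 LD2_c28 LD3_c23) (LK LD1_c26 LD2_c25 LD3_c29) Lrfl Lrfl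
theorem f159222 : Led Lsl_et (LP (LK LD1_c24 LD2_c54 LD3_c12)) = (LP (LK LD1_c15 LD2_c6 LD3_c8)) :=
  Lre_e IH (LK LD1_c24 LD2_c54 LD3_c12) (LK LD1_c15 LD2_c6 LD3_c8) Lrfl Lrfl
theorem f160699 : Led Lsl_at (LP (LK LD1_c26 LD2_c25 LD3_c29)) = (LP (LK LD1_c24 LD2_c54 LD3_c12)) :=
  Lgr Lrot80 (Lpe (f112756 IH) (Lpr_af (f160693 IH) (Lpe (f159222 IH) (Lpn (LP (LK LD1_c24 LD2_c54 LD3_c12))))))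
theorem f142192 : Led Lsl_ct (LP (LK LD1_c24 LD2_c54 LD3_c12)) = (LP (LK LD1_c15 LD2_c6 LD3_c9)) :=
  Lre_c IH (LK LD1_c24 LD2_c54 LD3_c12) (LK LD1_c15 LD2_c6 LD3_c9) Lrfl Lrfl
theorem f160703 : Led Lsl_cf (LP (LK LD1_c26 LD2_c25 LD3_c29)) = (LP (LK LD1_c17 LD2_c2 LD3_c39)) :=
  Lgr Lrot1 (Lpr_at (f160699 IH) (Lpr_ct (f142192 IH) (Lpe (K8.f142186 IH) (Lpn (LP (LK LD1_c17 LD2_c2 LD3_c39))))))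
theorem f160706 : Led Lsl_ct (LP (LK LD1_c26 LD2_c25 LD3_c29)) = (LP (LK LD1_c17 LD2_c2 LD3_c39)) :=
  Lgr Lrot59 (Lpr_cf (f160703 IH) (Lpn (LP (LK LD1_c17 LD2_c2 LD3_c39))))
theorem f142193 : Led Lsl_et (LP (LK LD1_c17 LD2_c2 LD3_c39)) = (LP (LK LD1_c9 LD2_c9 LD3_c41)) :=
  Lre_e IH (LK LD1_c17 LD2_c2 LD3_c39) (LK LD1_c9 LD2_c9 LD3_c41) Lrfl Lrfl
theorem f160709 : Led Lsl_cf (LP (LK LD1_c16 LD2_c28 LD3_c23)) = (LP (LK LD1_c9 LD2_c9 LD3_c41)) :=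
  Lgr Lrot39 (Lpr_et (f112756 IH) (Lpr_ct (f160706 IH) (Lpr_et (f142193 IH) (Lpn (LP (LK LD1_c9 LD2_c9 LD3_c41))))))
theorem f112458 : Led Lsl_ft (LP (LK LD1_c4 LD2_c36 LD3_c55)) = (LP (LK LD1_c9 LD2_c9 LD3_c41)) :=
  Lre_f IH (LK LD1_c4 LD2_c36 LD3_c55) (LK LD1_c9 LD2_c9 LD3_c41) Lrfl Lrfl
theorem f160711 : Led Lsl_ft (LP (LK LD1_c16 LD2_c28 LD3_c23)) = (LP (LK LD1_c9 LD2_c9 LD3_c39)) :=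
  Lgr Lrot4 (Lpr_cf (f160709 IH) (Lpe (f112458 IH) (Lpe (K8.f112462 IH) (Lpn (LP (LK LD1_c9 LD2_c9 LD3_c39))))))
theorem f112700 : Led Lsl_df (LP (LK LD1_c16 LD2_c28 LD3_c23)) = (LP (LK LD1_c11 LD2_c40 LD3_c15)) :=
  Lgr Lrot155 (Lpr_gt (f112581 IH) (Lpr_ct (K4.f70382 IH) (Lpr_gt (K6.f112696 IH) (Lpr_ct (K2.f72114 IH) (Lpr_dt (K2.f81598 IH) (Lpe (K5.f74563 IH) (Lpe (K2.f37295 IH) (Lpe (K6.f74701 IH) (Lpe (f74767 IH) (Lpn (LP (LK LD1_c11 LD2_c40 LD3_c15))))))))))))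
theorem f202964 : Led Lsl_ff (LP (LK LD1_c11 LD2_c40 LD3_c15)) = (LP (LK LD1_c11 LD2_c42 LD3_c6)) :=
  Lgr Lrot19 (Lpe (f112700 IH) (Lpr_ft (f160711 IH) (Lpr_dt (f202959 IH) (Lpn (LP (LK LD1_c11 LD2_c42 LD3_c6))))))
theorem f202969 : Led Lsl_ft (LP (LK LD1_c11 LD2_c40 LD3_c15)) = (LP (LK LD1_c11 LD2_c42 LD3_c6)) :=
  Lgr Lrot48 (Lpr_ff (f202964 IH) (Lpn (LP (LK LD1_c11 LD2_c42 LD3_c6))))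
theorem f142216 : Led Lsl_ct (LP (LK LD1_c8 LD2_c1 LD3_c15)) = (LP (LK LD1_c15 LD2_c6 LD3_c8)) :=
  Lre_c IH (LK LD1_c8 LD2_c1 LD3_c15) (LK LD1_c15 LD2_c6 LD3_c8) Lrfl Lrfl
theorem f141321 : Led Lsl_at (LP (LK LD1_c2 LD2_c15 LD3_c56)) = (LP (LK LD1_c4 LD2_c37 LD3_c0)) :=
  Lre_a IH (LK LD1_c2 LD2_c15 LD3_c56) (LK LD1_c4 LD2_c37 LD3_c0) Lrfl Lrfl
theorem f142174 : Led Lsl_at (LP (LK LD1_c9 LD2_c9 LD3_c41)) = (LP (LK LD1_c8 LD2_c1 LD3_c15)) :=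
  Lgr Lrot67 (Lpe (K8.f142172 IH) (Lpe (f141321 IH) (Lpe (K6.f119018 IH) (Lpr_af (K8.f142168 IH) (Lpe (K8.f142173 IH) (Lpn (LP (LK LD1_c8 LD2_c1 LD3_c15))))))))
theorem f160697 : Led Lsl_ct (LP (LK LD1_c16 LD2_c28 LD3_c23)) = (LP (LK LD1_c9 LD2_c9 LD3_c41)) :=
  Lgr Lrot111 (Lpr_af (f160693 IH) (Lpe (f142216 IH) (Lpe (f142174 IH) (Lpn (LP (LK LD1_c9 LD2_c9 LD3_c41))))))
theorem f112561 : Led Lsl_dt (LP (LK LD1_c3 LD2_c57 LD3_c54)) = (LP (LK LD1_c7 LD2_c57 LD3_c8)) :=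
  Lre_d IH (LK LD1_c3 LD2_c57 LD3_c54) (LK LD1_c7 LD2_c57 LD3_c8) Lrfl Lrfl
theorem f112549 : Led Lsl_ct (LP (LK LD1_c14 LD2_c59 LD3_c59)) = (LP (LK LD1_c7 LD2_c57 LD3_c8)) :=
  Lre_c IH (LK LD1_c14 LD2_c59 LD3_c59) (LK LD1_c7 LD2_c57 LD3_c8) Lrfl Lrfl
theorem f23501 : Led Lsl_bt (LP (LK LD1_c2 LD2_c20 LD3_c35)) = (LP (LK LD1_c4 LD2_c44 LD3_c55)) :=
  Lre_b IH (LK LD1_c2 LD2_c20 LD3_c35) (LK LD1_c4 LD2_c44 LD3_c55) Lrfl Lrfl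
theorem f23502 : Led Lsl_gt (LP (LK LD1_c4 LD2_c44 LD3_c55)) = (LP (LK LD1_c9 LD2_c22 LD3_c28)) :=
  Lre_g IH (LK LD1_c4 LD2_c44 LD3_c55) (LK LD1_c9 LD2_c22 LD3_c28) Lrfl Lrfl
theorem f112550 : Led Lsl_df (LP (LK LD1_c14 LD2_c59 LD3_c59)) = (LP (LK LD1_c9 LD2_c22 LD3_c28)) :=
  Lgr Lrot183 (Lpr_ct (f112549 IH) (Lpr_bt (K5.f112548 IH) (Lpr_gt (K5.f112524 IH) (Lpr_dt (K5.f37219 IH) (Lpr_ct (K2.f60850 IH) (Lpr_bt (K4.f59649 IH) (Lpe (K1.f59640 IH) (Lpr_dt (K0.f20198 IH) (Lpe (K3.f58845 IH) (Lpr_bt (K2.f58948 IH) (Lpr_gt (K3.f109972 IH) (Lpr_dt (K4.f23486 IH) (Lpr_ct (K2.f23312 IH) (Lpe (K2.f23475 IH) (Lpr_gt (K2.f23498 IH) (Lpr_dt (K3.f23499 IH) (Lpr_ct (K3.f23500 IH) (Lpr_bt (f23501 IH) (Lpr_gt (f23502 IH) (Lpn (LP (LK LD1_c9 LD2_c22 LD3_c28))))))))))))))))))))))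
theorem f112563 : Led Lsl_dt (LP (LK LD1_c14 LD2_c59 LD3_c59)) = (LP (LK LD1_c9 LD2_c22 LD3_c28)) :=
  Lgr Lrot42 (Lpr_df (f112550 IH) (Lpn (LP (LK LD1_c9 LD2_c22 LD3_c28))))
theorem f81600 : Led Lsl_gt (LP (LK LD1_c5 LD2_c57 LD3_c38)) = (LP (LK LD1_c11 LD2_c40 LD3_c14)) :=
  Lre_g IH (LK LD1_c5 LD2_c57 LD3_c38) (LK LD1_c11 LD2_c40 LD3_c14) Lrfl Lrfl
theorem f203001 : Led Lsl_af (LP (LK LD1_c11 LD2_c40 LD3_c14)) = (LP (LK LD1_c11 LD2_c42 LD3_c6)) :=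
  Lgr Lrot31 (Lpe (f81600 IH) (Lpe (f74767 IH) (Lpr_ft (f202969 IH) (Lpn (LP (LK LD1_c11 LD2_c42 LD3_c6))))))
theorem f203003 : Led Lsl_ct (LP (LK LD1_c9 LD2_c22 LD3_c28)) = (LP (LK LD1_c11 LD2_c40 LD3_c14)) :=
  Lgr Lrot98 (Lpe (f112563 IH) (Lpe (K5.f112552 IH) (Lpe (f112561 IH) (Lpe (K8.f159204 IH) (Lpe (K24.f142207 IH) (Lpe (f160697 IH) (Lpr_df (f112700 IH) (Lpr_ft (f202969 IH) (Lpe (f203001 IH) (Lpn (LP (LK LD1_c11 LD2_c40 LD3_c14))))))))))))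
theorem f160673 : Led Lsl_cf (LP (LK LD1_c9 LD2_c9 LD3_c37)) = (LP (LK LD1_c16 LD2_c28 LD3_c22)) :=
  Lgr Lrot11 (Lpr_ct (K8.f160667 IH) (Lpn (LP (LK LD1_c16 LD2_c28 LD3_c22))))
theorem f203012 : Led Lsl_df (LP (LK LD1_c16 LD2_c28 LD3_c22)) = (LP (LK LD1_c11 LD2_c40 LD3_c14)) :=
  Lgr Lrot177 (Lpe (f160673 IH) (Lpe (K8.f142212 IH) (Lpe (K8.f142211 IH) (Lpr_dt (K24.f142207 IH) (Lpr_ct (K8.f159204 IH) (Lpr_dt (f112561 IH) (Lpr_ct (K5.f112552 IH) (Lpr_dt (f112563 IH) (Lpr_ct (f203003 IH) (Lpn (LP (LK LD1_c11 LD2_c40 LD3_c14))))))))))))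
theorem f203014 : Led Lsl_dt (LP (LK LD1_c16 LD2_c28 LD3_c22)) = (LP (LK LD1_c11 LD2_c40 LD3_c14)) :=
  Lgr Lrot42 (Lpr_df (f203012 IH) (Lpn (LP (LK LD1_c11 LD2_c40 LD3_c14))))
theorem f112430 : Led Lsl_df (LP (LK LD1_c8 LD2_c48 LD3_c15)) = (LP (LK LD1_c4 LD2_c59 LD3_c42)) :=
  Lgr Lrot12 (Lpr_bt (K4.f112426 IH) (Lpr_dt (K2.f56882 IH) (Lpr_bt (K7.f56871 IH) (Lpn (LP (LK LD1_c4 LD2_c59 LD3_c42))))))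
theorem f56962 : Led Lsl_gt (LP (LK LD1_c9 LD2_c49 LD3_c50)) = (LP (LK LD1_c4 LD2_c59 LD3_c42)) :=
  Lre_g IH (LK LD1_c9 LD2_c49 LD3_c50) (LK LD1_c4 LD2_c59 LD3_c42) Lrfl Lrfl
theorem f203005 : Led Lsl_cf (LP (LK LD1_c9 LD2_c22 LD3_c28)) = (LP (LK LD1_c11 LD2_c40 LD3_c14)) :=
  Lgr Lrot11 (Lpr_ct (f203003 IH) (Lpn (LP (LK LD1_c11 LD2_c40 LD3_c14))))
theorem f99188 : Led Lsl_gt (LP (LK LD1_c9 LD2_c23 LD3_c0)) = (LP (LK LD1_c4 LD2_c45 LD3_c10)) :=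
  Lre_g IH (LK LD1_c9 LD2_c23 LD3_c0) (LK LD1_c4 LD2_c45 LD3_c10) Lrfl Lrfl
theorem f203027 : Led Lsl_cf (LP (LK LD1_c9 LD2_c49 LD3_c50)) = (LP (LK LD1_c9 LD2_c23 LD3_c0)) :=
  Lgr Lrot166 (Lpr_gt (f56962 IH) (Lpe (f112430 IH) (Lpr_gt (K8.f38246 IH) (Lpr_dt (f203014 IH) (Lpe (f203005 IH) (Lpe (f112563 IH) (Lpr_gf (K5.f112554 IH) (Lpe (K4.f102080 IH) (Lpe (f99188 IH) (Lpn (LP (LK LD1_c9 LD2_c23 LD3_c0))))))))))))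
theorem f56876 : Led Lsl_et (LP (LK LD1_c4 LD2_c48 LD3_c42)) = (LP (LK LD1_c2 LD2_c22 LD3_c15)) :=
  Lre_e IH (LK LD1_c4 LD2_c48 LD3_c42) (LK LD1_c2 LD2_c22 LD3_c15) Lrfl Lrfl
theorem f56877 : Led Lsl_et (LP (LK LD1_c2 LD2_c27 LD3_c40)) = (LP (LK LD1_c4 LD2_c59 LD3_c44)) :=
  Lre_e IH (LK LD1_c2 LD2_c27 LD3_c40) (LK LD1_c4 LD2_c59 LD3_c44) Lrfl Lrfl
theorem f56878 : Led Lsl_cf (LP (LK LD1_c4 LD2_c48 LD3_c42)) = (LP (LK LD1_c4 LD2_c59 LD3_c44)) :=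
  Lgr Lrot39 (Lpr_et (f56876 IH) (Lpr_ct (K6.f56866 IH) (Lpr_et (f56877 IH) (Lpn (LP (LK LD1_c4 LD2_c59 LD3_c44))))))
theorem f56909 : Led Lsl_ct (LP (LK LD1_c4 LD2_c48 LD3_c42)) = (LP (LK LD1_c4 LD2_c59 LD3_c44)) :=
  Lgr Lrot59 (Lpr_cf (f56878 IH) (Lpn (LP (LK LD1_c4 LD2_c59 LD3_c44))))
theorem f56932 : Led Lsl_bt (LP (LK LD1_c2 LD2_c22 LD3_c17)) = (LP (LK LD1_c4 LD2_c48 LD3_c42)) :=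
  Lre_b IH (LK LD1_c2 LD2_c22 LD3_c17) (LK LD1_c4 LD2_c48 LD3_c42) Lrfl Lrfl
theorem f56933 : Led Lsl_ct (LP (LK LD1_c4 LD2_c48 LD3_c47)) = (LP (LK LD1_c2 LD2_c22 LD3_c17)) :=
  Lre_c IH (LK LD1_c4 LD2_c48 LD3_c47) (LK LD1_c2 LD2_c22 LD3_c17) Lrfl Lrfl
theorem f56934 : Led Lsl_bt (LP (LK LD1_c9 LD2_c30 LD3_c1)) = (LP (LK LD1_c4 LD2_c48 LD3_c47)) :=
  Lre_b IH (LK LD1_c9 LD2_c30 LD3_c1) (LK LD1_c4 LD2_c48 LD3_c47) Lrfl Lrfl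
theorem f56921 : Led Lsl_bt (LP (LK LD1_c4 LD2_c59 LD3_c44)) = (LP (LK LD1_c9 LD2_c49 LD3_c52)) :=
  Lre_b IH (LK LD1_c4 LD2_c59 LD3_c44) (LK LD1_c9 LD2_c49 LD3_c52) Lrfl Lrfl
theorem f56935 : Led Lsl_cf (LP (LK LD1_c9 LD2_c30 LD3_c1)) = (LP (LK LD1_c9 LD2_c49 LD3_c52)) :=
  Lgr Lrot97 (Lpr_bt (f56934 IH) (Lpr_ct (f56933 IH) (Lpr_bt (f56932 IH) (Lpr_ct (f56909 IH) (Lpr_bt (f56921 IH) (Lpn (LP (LK LD1_c9 LD2_c49 LD3_c52))))))))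
theorem f56942 : Led Lsl_et (LP (LK LD1_c9 LD2_c30 LD3_c1)) = (LP (LK LD1_c4 LD2_c48 LD3_c45)) :=
  Lre_e IH (LK LD1_c9 LD2_c30 LD3_c1) (LK LD1_c4 LD2_c48 LD3_c45) Lrfl Lrfl
theorem f56943 : Led Lsl_et (LP (LK LD1_c4 LD2_c59 LD3_c42)) = (LP (LK LD1_c9 LD2_c49 LD3_c52)) :=
  Lre_e IH (LK LD1_c4 LD2_c59 LD3_c42) (LK LD1_c9 LD2_c49 LD3_c52) Lrfl Lrfl
theorem f56944 : Led Lsl_ct (LP (LK LD1_c4 LD2_c48 LD3_c45)) = (LP (LK LD1_c4 LD2_c59 LD3_c42)) :=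
  Lgr Lrot15 (Lpe (f56942 IH) (Lpr_cf (f56935 IH) (Lpe (f56943 IH) (Lpn (LP (LK LD1_c4 LD2_c59 LD3_c42))))))
theorem f56900 : Led Lsl_gt (LP (LK LD1_c2 LD2_c22 LD3_c16)) = (LP (LK LD1_c4 LD2_c48 LD3_c43)) :=
  Lre_g IH (LK LD1_c2 LD2_c22 LD3_c16) (LK LD1_c4 LD2_c48 LD3_c43) Lrfl Lrfl
theorem f58862 : Led Lsl_gt (LP (LK LD1_c2 LD2_c13 LD3_c53)) = (LP (LK LD1_c1 LD2_c3 LD3_c60)) :=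
  Lre_g IH (LK LD1_c2 LD2_c13 LD3_c53) (LK LD1_c1 LD2_c3 LD3_c60) Lrfl Lrfl
theorem f58863 : Led Lsl_bt (LP (LK LD1_c4 LD2_c33 LD3_c59)) = (LP (LK LD1_c2 LD2_c13 LD3_c53)) :=
  Lre_b IH (LK LD1_c4 LD2_c33 LD3_c59) (LK LD1_c2 LD2_c13 LD3_c53) Lrfl Lrfl
theorem f58864 : Led Lsl_ct (LP (LK LD1_c4 LD2_c33 LD3_c59)) = (LP (LK LD1_c4 LD2_c48 LD3_c43)) :=
  Lgr Lrot63 (Lpr_bt (f58863 IH) (Lpr_gt (f58862 IH) (Lpe (K8.f58854 IH) (Lpr_ct (K1.f58778 IH) (Lpr_gt (K0.f13616 IH) (Lpe (K0.f20076 IH) (Lpr_bt (K3.f56895 IH) (Lpr_gt (K8.f56894 IH) (Lpr_ct (K8.f56899 IH) (Lpr_gt (f56900 IH) (Lpn (LP (LK LD1_c4 LD2_c48 LD3_c43)))))))))))))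
theorem f58868 : Led Lsl_cf (LP (LK LD1_c4 LD2_c33 LD3_c59)) = (LP (LK LD1_c4 LD2_c48 LD3_c43)) :=
  Lgr Lrot11 (Lpr_ct (f58864 IH) (Lpn (LP (LK LD1_c4 LD2_c48 LD3_c43))))
theorem f150444 : Led Lsl_gf (LP (LK LD1_c2 LD2_c56 LD3_c31)) = (LP (LK LD1_c4 LD2_c33 LD3_c59)) :=
  Lgr Lrot104 (Lpr_ct (K4.f56783 IH) (Lpe (K2.f72713 IH) (Lpe (K8.f75408 IH) (Lpr_gf (K8.f150279 IH) (Lpr_cf (K8.f150237 IH) (Lpe (K8.f105097 IH) (Lpe (K8.f58888 IH) (Lpr_gt (f56900 IH) (Lpe (f58868 IH) (Lpn (LP (LK LD1_c4 LD2_c33 LD3_c59))))))))))))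
theorem f75074 : Led Lsl_bt (LP (LK LD1_c1 LD2_c24 LD3_c5)) = (LP (LK LD1_c2 LD2_c56 LD3_c30)) :=
  Lre_b IH (LK LD1_c1 LD2_c24 LD3_c5) (LK LD1_c2 LD2_c56 LD3_c30) Lrfl Lrfl
theorem f75075 : Led Lsl_gt (LP (LK LD1_c2 LD2_c56 LD3_c30)) = (LP (LK LD1_c6 LD2_c0 LD3_c27)) :=
  Lre_g IH (LK LD1_c2 LD2_c56 LD3_c30) (LK LD1_c6 LD2_c0 LD3_c27) Lrfl Lrfl
theorem f203032 : Led Lsl_bf (LP (LK LD1_c6 LD2_c0 LD3_c27)) = (LP (LK LD1_c9 LD2_c23 LD3_c0)) :=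
  Lgr Lrot34 (Lpe (f75075 IH) (Lpe (f75074 IH) (Lpr_ct (K4.f74517 IH) (Lpr_gf (f150444 IH) (Lpr_cf (f58868 IH) (Lpe (f56900 IH) (Lpe (K7.f56870 IH) (Lpr_ct (f56944 IH) (Lpe (f56962 IH) (Lpr_cf (f203027 IH) (Lpn (LP (LK LD1_c9 LD2_c23 LD3_c0)))))))))))))
theorem f203034 : Led Lsl_bt (LP (LK LD1_c6 LD2_c0 LD3_c27)) = (LP (LK LD1_c9 LD2_c23 LD3_c0)) :=
  Lgr Lrot127 (Lpr_bf (f203032 IH) (Lpn (LP (LK LD1_c9 LD2_c23 LD3_c0))))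
theorem f110553 : Led Lsl_ct (LP (LK LD1_c6 LD2_c0 LD3_c27)) = (LP (LK LD1_c11 LD2_c45 LD3_c18)) :=
  Lre_c IH (LK LD1_c6 LD2_c0 LD3_c27) (LK LD1_c11 LD2_c45 LD3_c18) Lrfl Lrfl
theorem f203052 : Led Lsl_gf (LP (LK LD1_c11 LD2_c45 LD3_c18)) = (LP (LK LD1_c12 LD2_c36 LD3_c9)) :=
  Lgr Lrot129 (Lpe (f110553 IH) (Lpr_bt (f203034 IH) (Lpr_gt (f99188 IH) (Lpe (K4.f99183 IH) (Lpr_ct (K4.f99155 IH) (Lpe (K4.f120776 IH) (Lpr_cf (K5.f120769 IH) (Lpr_bt (K6.f102980 IH) (Lpr_gt (K7.f120778 IH) (Lpr_ct (K7.f151228 IH) (Lpn (LP (LK LD1_c12 LD2_c36 LD3_c9)))))))))))))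
theorem f203054 : Led Lsl_gt (LP (LK LD1_c11 LD2_c45 LD3_c18)) = (LP (LK LD1_c12 LD2_c15 LD3_c8)) :=
  Lgr Lrot46 (Lpr_gf (f203052 IH) (Lpr_ft (K7.f151200 IH) (Lpe (K7.f148904 IH) (Lpn (LP (LK LD1_c12 LD2_c15 LD3_c8))))))
theorem f58867 : Led Lsl_bt (LP (LK LD1_c4 LD2_c48 LD3_c43)) = (LP (LK LD1_c9 LD2_c29 LD3_c56)) :=
  Lre_b IH (LK LD1_c4 LD2_c48 LD3_c43) (LK LD1_c9 LD2_c29 LD3_c56) Lrfl Lrfl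
theorem f136155 : Led Lsl_bt (LP (LK LD1_c9 LD2_c23 LD3_c49)) = (LP (LK LD1_c17 LD2_c20 LD3_c43)) :=
  Lre_b IH (LK LD1_c9 LD2_c23 LD3_c49) (LK LD1_c17 LD2_c20 LD3_c43) Lrfl Lrfl
theorem f203061 : Led Lsl_gf (LP (LK LD1_c9 LD2_c29 LD3_c56)) = (LP (LK LD1_c17 LD2_c20 LD3_c43)) :=
  Lgr Lrot124 (Lpe (f58867 IH) (Lpe (f58868 IH) (Lpe (f150444 IH) (Lpe (K4.f74517 IH) (Lpr_bt (f75074 IH) (Lpr_gt (f75075 IH) (Lpr_ct (f110553 IH) (Lpr_gt (f203054 IH) (Lpe (K6.f136157 IH) (Lpr_bt (f136155 IH) (Lpn (LP (LK LD1_c17 LD2_c20 LD3_c43)))))))))))))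
theorem f79223 : Led Lsl_bt (LP (LK LD1_c17 LD2_c21 LD3_c45)) = (LP (LK LD1_c12 LD2_c34 LD3_c14)) :=
  Lre_b IH (LK LD1_c17 LD2_c21 LD3_c45) (LK LD1_c12 LD2_c34 LD3_c14) Lrfl Lrfl
theorem f156836 : Led Lsl_ft (LP (LK LD1_c11 LD2_c43 LD3_c59)) = (LP (LK LD1_c17 LD2_c21 LD3_c45)) :=
  Lgr Lrot75 (Lpr_bf (K7.f156825 IH) (Lpr_ff (K7.f150816 IH) (Lpe (f79223 IH) (Lpn (LP (LK LD1_c17 LD2_c21 LD3_c45))))))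
theorem f156841 : Led Lsl_ff (LP (LK LD1_c11 LD2_c43 LD3_c59)) = (LP (LK LD1_c17 LD2_c21 LD3_c45)) :=
  Lgr Lrot3 (Lpr_ft (f156836 IH) (Lpn (LP (LK LD1_c17 LD2_c21 LD3_c45))))
theorem f151212 : Led Lsl_at (LP (LK LD1_c9 LD2_c23 LD3_c49)) = (LP (LK LD1_c12 LD2_c14 LD3_c38)) :=
  Lgr Lrot100 (Lpr_af (K7.f151210 IH) (Lpn (LP (LK LD1_c12 LD2_c14 LD3_c38))))
theorem f124522 : Led Lsl_bt (LP (LK LD1_c17 LD2_c20 LD3_c43)) = (LP (LK LD1_c9 LD2_c23 LD3_c49)) :=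
  Lre_b IH (LK LD1_c17 LD2_c20 LD3_c43) (LK LD1_c9 LD2_c23 LD3_c49) Lrfl Lrfl
theorem f156827 : Led Lsl_at (LP (LK LD1_c11 LD2_c43 LD3_c59)) = (LP (LK LD1_c17 LD2_c20 LD3_c43)) :=
  Lgr Lrot67 (Lpr_bf (K7.f156825 IH) (Lpe (K7.f151077 IH) (Lpe (K7.f98887 IH) (Lpe (f151212 IH) (Lpe (f124522 IH) (Lpn (LP (LK LD1_c17 LD2_c20 LD3_c43))))))))
theorem f130943 : Led Lsl_gt (LP (LK LD1_c17 LD2_c21 LD3_c45)) = (LP (LK LD1_c9 LD2_c24 LD3_c33)) :=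
  Lre_g IH (LK LD1_c17 LD2_c21 LD3_c45) (LK LD1_c9 LD2_c24 LD3_c33) Lrfl Lrfl
theorem f156843 : Led Lsl_gf (LP (LK LD1_c17 LD2_c20 LD3_c43)) = (LP (LK LD1_c9 LD2_c24 LD3_c33)) :=
  Lgr Lrot76 (Lpe (f156827 IH) (Lpr_ff (f156841 IH) (Lpr_gt (f130943 IH) (Lpn (LP (LK LD1_c9 LD2_c24 LD3_c33))))))
theorem f60997 : Led Lsl_ct (LP (LK LD1_c9 LD2_c24 LD3_c34)) = (LP (LK LD1_c4 LD2_c45 LD3_c61)) :=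
  Lre_c IH (LK LD1_c9 LD2_c24 LD3_c34) (LK LD1_c4 LD2_c45 LD3_c61) Lrfl Lrfl
theorem f158902 : Led Lsl_ft (LP (LK LD1_c4 LD2_c45 LD3_c61)) = (LP (LK LD1_c9 LD2_c22 LD3_c43)) :=
  Lgr Lrot4 (Lpe (f60997 IH) (Lpr_ff (K8.f158896 IH) (Lpr_cf (K8.f157649 IH) (Lpn (LP (LK LD1_c9 LD2_c22 LD3_c43))))))
theorem f158909 : Led Lsl_bt (LP (LK LD1_c9 LD2_c24 LD3_c33)) = (LP (LK LD1_c4 LD2_c45 LD3_c61)) :=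
  Lre_b IH (LK LD1_c9 LD2_c24 LD3_c33) (LK LD1_c4 LD2_c45 LD3_c61) Lrfl Lrfl
theorem f157648 : Led Lsl_bt (LP (LK LD1_c9 LD2_c22 LD3_c43)) = (LP (LK LD1_c17 LD2_c19 LD3_c10)) :=
  Lre_b IH (LK LD1_c9 LD2_c22 LD3_c43) (LK LD1_c17 LD2_c19 LD3_c10) Lrfl Lrfl
theorem f158910 : Led Lsl_ff (LP (LK LD1_c9 LD2_c24 LD3_c33)) = (LP (LK LD1_c17 LD2_c19 LD3_c10)) :=
  Lgr Lrot25 (Lpr_bt (f158909 IH) (Lpr_ft (f158902 IH) (Lpr_bt (f157648 IH) (Lpn (LP (LK LD1_c17 LD2_c19 LD3_c10))))))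
theorem f158916 : Led Lsl_ft (LP (LK LD1_c9 LD2_c24 LD3_c33)) = (LP (LK LD1_c17 LD2_c19 LD3_c10)) :=
  Lgr Lrot48 (Lpr_ff (f158910 IH) (Lpn (LP (LK LD1_c17 LD2_c19 LD3_c10))))
theorem f203063 : Led Lsl_af (LP (LK LD1_c9 LD2_c29 LD3_c56)) = (LP (LK LD1_c17 LD2_c19 LD3_c10)) :=
  Lgr Lrot31 (Lpr_gf (f203061 IH) (Lpr_gf (f156843 IH) (Lpr_ft (f158916 IH) (Lpn (LP (LK LD1_c17 LD2_c19 LD3_c10))))))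
theorem f56963 : Led Lsl_bt (LP (LK LD1_c9 LD2_c29 LD3_c56)) = (LP (LK LD1_c4 LD2_c48 LD3_c43)) :=
  Lre_b IH (LK LD1_c9 LD2_c29 LD3_c56) (LK LD1_c4 LD2_c48 LD3_c43) Lrfl Lrfl
theorem f203071 : Led Lsl_at (LP (LK LD1_c4 LD2_c48 LD3_c43)) = (LP (LK LD1_c2 LD2_c56 LD3_c12)) :=
  Lgr Lrot67 (Lpe (f56963 IH) (Lpr_af (f203063 IH) (Lpe (f157648 IH) (Lpe (K8.f158878 IH) (Lpr_bf (K8.f150394 IH) (Lpn (LP (LK LD1_c2 LD2_c56 LD3_c12))))))))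
theorem f125698 : Led Lsl_cf (LP (LK LD1_c6 LD2_c1 LD3_c46)) = (LP (LK LD1_c9 LD2_c22 LD3_c44)) :=
  Lgr Lrot11 (Lpr_ct (K8.f125694 IH) (Lpn (LP (LK LD1_c9 LD2_c22 LD3_c44))))
theorem f158478 : Led Lsl_bt (LP (LK LD1_c4 LD2_c48 LD3_c44)) = (LP (LK LD1_c9 LD2_c22 LD3_c44)) :=
  Lgr Lrot128 (Lpr_cf (K8.f158475 IH) (Lpe (K4.f69013 IH) (Lpe (K6.f69133 IH) (Lpe (K8.f69138 IH) (Lpr_cf (f125698 IH) (Lpn (LP (LK LD1_c9 LD2_c22 LD3_c44))))))))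
theorem f158876 : Led Lsl_ft (LP (LK LD1_c2 LD2_c56 LD3_c12)) = (LP (LK LD1_c4 LD2_c48 LD3_c44)) :=
  Lgr Lrot75 (Lpe (K8.f150397 IH) (Lpr_ff (K8.f158874 IH) (Lpe (f158478 IH) (Lpn (LP (LK LD1_c4 LD2_c48 LD3_c44))))))
theorem f163227 : Led Lsl_at (LP (LK LD1_c4 LD2_c48 LD3_c44)) = (LP (LK LD1_c2 LD2_c56 LD3_c11)) :=
  Lgr Lrot100 (Lpr_af (K8.f163214 IH) (Lpn (LP (LK LD1_c2 LD2_c56 LD3_c11))))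
theorem f203082 : Led Lsl_ff (LP (LK LD1_c4 LD2_c48 LD3_c43)) = (LP (LK LD1_c2 LD2_c56 LD3_c11)) :=
  Lgr Lrot30 (Lpr_at (f203071 IH) (Lpr_ft (f158876 IH) (Lpr_at (f163227 IH) (Lpn (LP (LK LD1_c2 LD2_c56 LD3_c11))))))
theorem f203090 : Led Lsl_ft (LP (LK LD1_c4 LD2_c48 LD3_c43)) = (LP (LK LD1_c2 LD2_c56 LD3_c11)) :=
  Lgr Lrot48 (Lpr_ff (f203082 IH) (Lpn (LP (LK LD1_c2 LD2_c56 LD3_c11))))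
theorem f56980 : Led Lsl_dt (LP (LK LD1_c4 LD2_c48 LD3_c43)) = (LP (LK LD1_c9 LD2_c29 LD3_c57)) :=
  Lre_d IH (LK LD1_c4 LD2_c48 LD3_c43) (LK LD1_c9 LD2_c29 LD3_c57) Lrfl Lrfl
theorem f72715 : Led Lsl_dt (LP (LK LD1_c1 LD2_c24 LD3_c5)) = (LP (LK LD1_c2 LD2_c56 LD3_c32)) :=
  Lre_d IH (LK LD1_c1 LD2_c24 LD3_c5) (LK LD1_c2 LD2_c56 LD3_c32) Lrfl Lrfl
theorem f94941 : Led Lsl_dt (LP (LK LD1_c9 LD2_c47 LD3_c52)) = (LP (LK LD1_c4 LD2_c59 LD3_c22)) :=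
  Lgr Lrot57 (Lpe (f74320 IH) (Lpr_cf (K4.f74300 IH) (Lpr_gt (K2.f69352 IH) (Lpr_dt (K6.f69351 IH) (Lpr_gt (K6.f56782 IH) (Lpr_dt (f72715 IH) (Lpe (K8.f75408 IH) (Lpe (K8.f74391 IH) (Lpr_gf (K8.f94939 IH) (Lpn (LP (LK LD1_c4 LD2_c59 LD3_c22))))))))))))
theorem f203100 : Led Lsl_ct (LP (LK LD1_c9 LD2_c29 LD3_c57)) = (LP (LK LD1_c9 LD2_c47 LD3_c52)) :=
  Lgr Lrot133 (Lpe (f56980 IH) (Lpr_ft (f203090 IH) (Lpe (K8.f163214 IH) (Lpr_cf (K8.f158475 IH) (Lpe (K4.f75076 IH) (Lpr_cf (K7.f81948 IH) (Lpe (K6.f81951 IH) (Lpe (K6.f81953 IH) (Lpe (f94941 IH) (Lpn (LP (LK LD1_c9 LD2_c47 LD3_c52))))))))))))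
theorem f203105 : Led Lsl_cf (LP (LK LD1_c9 LD2_c29 LD3_c57)) = (LP (LK LD1_c9 LD2_c47 LD3_c52)) :=
  Lgr Lrot11 (Lpr_ct (f203100 IH) (Lpn (LP (LK LD1_c9 LD2_c47 LD3_c52))))
theorem f426293 : Led Lsl_gt (LP (LK LD1_c9 LD2_c29 LD3_c57)) = (LP (LK LD1_c5 LD2_c57 LD3_c35)) :=
  Lgr Lrot150 (Lpr_cf (f203105 IH) (Lpe (f74320 IH) (Lpe (K4.f74299 IH) (Lpr_gt (K4.f79699 IH) (Lpr_ct (f157053 IH) (Lpe (K24.f426114 IH) (Lpr_ct (f426069 IH) (Lpr_df (K6.f139313 IH) (Lpr_cf (f426277 IH) (Lpn (LP (LK LD1_c5 LD2_c57 LD3_c35))))))))))))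
theorem f94943 : Led Lsl_gf (LP (LK LD1_c4 LD2_c59 LD3_c1)) = (LP (LK LD1_c9 LD2_c47 LD3_c52)) :=
  Lgr Lrot147 (Lpr_ct (K8.f74511 IH) (Lpr_gt (K8.f14139 IH) (Lpr_ct (K2.f14022 IH) (Lpe (K2.f56881 IH) (Lpe (K6.f56893 IH) (Lpe (K6.f68993 IH) (Lpe (K6.f74382 IH) (Lpr_gf (K8.f94939 IH) (Lpe (f94941 IH) (Lpn (LP (LK LD1_c9 LD2_c47 LD3_c52))))))))))))
theorem f72452 : Led Lsl_gt (LP (LK LD1_c2 LD2_c27 LD3_c24)) = (LP (LK LD1_c4 LD2_c58 LD3_c38)) :=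
  Lre_g IH (LK LD1_c2 LD2_c27 LD3_c24) (LK LD1_c4 LD2_c58 LD3_c38) Lrfl Lrfl
theorem f72453 : Led Lsl_dt (LP (LK LD1_c4 LD2_c58 LD3_c38)) = (LP (LK LD1_c9 LD2_c47 LD3_c48)) :=
  Lre_d IH (LK LD1_c4 LD2_c58 LD3_c38) (LK LD1_c9 LD2_c47 LD3_c48) Lrfl Lrfl
theorem f74526 : Led Lsl_dt (LP (LK LD1_c4 LD2_c40 LD3_c35)) = (LP (LK LD1_c2 LD2_c56 LD3_c39)) :=
  Lgr Lrot42 (Lpr_df (K2.f74504 IH) (Lpn (LP (LK LD1_c2 LD2_c56 LD3_c39))))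
theorem f74281 : Led Lsl_gt (LP (LK LD1_c4 LD2_c58 LD3_c38)) = (LP (LK LD1_c2 LD2_c27 LD3_c10)) :=
  Lre_g IH (LK LD1_c4 LD2_c58 LD3_c38) (LK LD1_c2 LD2_c27 LD3_c10) Lrfl Lrfl
theorem f74321 : Led Lsl_dt (LP (LK LD1_c9 LD2_c47 LD3_c48)) = (LP (LK LD1_c4 LD2_c58 LD3_c38)) :=
  Lre_d IH (LK LD1_c9 LD2_c47 LD3_c48) (LK LD1_c4 LD2_c58 LD3_c38) Lrfl Lrfl
theorem f104979 : Led Lsl_gf (LP (LK LD1_c9 LD2_c47 LD3_c48)) = (LP (LK LD1_c9 LD2_c25 LD3_c49)) :=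
  Lgr Lrot144 (Lpr_dt (f74321 IH) (Lpr_gt (f74281 IH) (Lpr_dt (K4.f74299 IH) (Lpr_cf (K4.f74300 IH) (Lpe (f74526 IH) (Lpr_gf (K4.f74957 IH) (Lpe (K2.f74790 IH) (Lpr_gf (K4.f104948 IH) (Lpe (K4.f104952 IH) (Lpn (LP (LK LD1_c9 LD2_c25 LD3_c49))))))))))))
theorem f56886 : Led Lsl_gt (LP (LK LD1_c0 LD2_c17 LD3_c12)) = (LP (LK LD1_c0 LD2_c7 LD3_c39)) :=
  Lre_g IH (LK LD1_c0 LD2_c17 LD3_c12) (LK LD1_c0 LD2_c7 LD3_c39) Lrfl Lrfl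
theorem f56889 : Led Lsl_gf (LP (LK LD1_c2 LD2_c22 LD3_c15)) = (LP (LK LD1_c2 LD2_c55 LD3_c14)) :=
  Lgr Lrot147 (Lpr_ct (K6.f56866 IH) (Lpr_gt (K2.f56880 IH) (Lpr_ct (K4.f56883 IH) (Lpe (K6.f56884 IH) (Lpe (K6.f56885 IH) (Lpe (f56886 IH) (Lpe (K2.f56887 IH) (Lpe (K7.f56888 IH) (Lpe (K8.f22820 IH) (Lpn (LP (LK LD1_c2 LD2_c55 LD3_c14))))))))))))
theorem f72617 : Led Lsl_gt (LP (LK LD1_c5 LD2_c59 LD3_c52)) = (LP (LK LD1_c2 LD2_c56 LD3_c14)) :=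
  Lre_g IH (LK LD1_c5 LD2_c59 LD3_c52) (LK LD1_c2 LD2_c56 LD3_c14) Lrfl Lrfl
theorem f150261 : Led Lsl_ct (LP (LK LD1_c9 LD2_c47 LD3_c48)) = (LP (LK LD1_c5 LD2_c59 LD3_c52)) :=
  Lgr Lrot152 (Lpr_gf (f104979 IH) (Lpe (K4.f105000 IH) (Lpr_gt (K8.f150255 IH) (Lpr_ct (K8.f26565 IH) (Lpe (f56889 IH) (Lpr_ct (K6.f56866 IH) (Lpe (K2.f56882 IH) (Lpe (K4.f72717 IH) (Lpe (f72617 IH) (Lpn (LP (LK LD1_c5 LD2_c59 LD3_c52))))))))))))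
theorem f426296 : Led Lsl_dt (LP (LK LD1_c5 LD2_c57 LD3_c35)) = (LP (LK LD1_c2 LD2_c55 LD3_c4)) :=
  Lre_d IH (LK LD1_c5 LD2_c57 LD3_c35) (LK LD1_c2 LD2_c55 LD3_c4) Lrfl Lrfl
theorem f426061 : Led Lsl_gt (LP (LK LD1_c2 LD2_c55 LD3_c4)) = (LP (LK LD1_c5 LD2_c57 LD3_c33)) :=
  Lre_g IH (LK LD1_c2 LD2_c55 LD3_c4) (LK LD1_c5 LD2_c57 LD3_c33) Lrfl Lrfl
theorem f426297 : Led Lsl_df (LP (LK LD1_c5 LD2_c59 LD3_c52)) = (LP (LK LD1_c5 LD2_c57 LD3_c33)) :=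
  Lgr Lrot84 (Lpe (f150261 IH) (Lpe (f72453 IH) (Lpe (f72452 IH) (Lpe (K8.f74509 IH) (Lpr_gf (f94943 IH) (Lpe (f203100 IH) (Lpr_gt (f426293 IH) (Lpr_dt (f426296 IH) (Lpr_gt (f426061 IH) (Lpn (LP (LK LD1_c5 LD2_c57 LD3_c33))))))))))))
theorem f75156 : Led Lsl_df (LP (LK LD1_c4 LD2_c40 LD3_c36)) = (LP (LK LD1_c6 LD2_c0 LD3_c33)) :=
  Lgr Lrot18 (Lpr_at (K4.f72831 IH) (Lpr_dt (K2.f72820 IH) (Lpr_at (K2.f75141 IH) (Lpn (LP (LK LD1_c6 LD2_c0 LD3_c33))))))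
theorem f72872 : Led Lsl_ct (LP (LK LD1_c2 LD2_c17 LD3_c28)) = (LP (LK LD1_c4 LD2_c40 LD3_c36)) :=
  Lre_c IH (LK LD1_c2 LD2_c17 LD3_c28) (LK LD1_c4 LD2_c40 LD3_c36) Lrfl Lrfl
theorem f426305 : Led Lsl_gf (LP (LK LD1_c2 LD2_c17 LD3_c28)) = (LP (LK LD1_c1 LD2_c23 LD3_c43)) :=
  Lgr Lrot104 (Lpr_ct (f72872 IH) (Lpr_df (f75156 IH) (Lpe (K2.f75164 IH) (Lpr_gf (K4.f75134 IH) (Lpe (K4.f72717 IH) (Lpe (f72617 IH) (Lpr_df (f426297 IH) (Lpr_gt (K24.f426046 IH) (Lpr_ct (K24.f426034 IH) (Lpn (LP (LK LD1_c1 LD2_c23 LD3_c43))))))))))))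
theorem f74985 : Led Lsl_at (LP (LK LD1_c1 LD2_c5 LD3_c40)) = (LP (LK LD1_c2 LD2_c17 LD3_c28)) :=
  Lre_a IH (LK LD1_c1 LD2_c5 LD3_c40) (LK LD1_c2 LD2_c17 LD3_c28) Lrfl Lrfl
theorem f74986 : Led Lsl_ft (LP (LK LD1_c0 LD2_c39 LD3_c47)) = (LP (LK LD1_c1 LD2_c5 LD3_c40)) :=
  Lre_f IH (LK LD1_c0 LD2_c39 LD3_c47) (LK LD1_c1 LD2_c5 LD3_c40) Lrfl Lrfl
theorem f426309 : Led Lsl_gt (LP (LK LD1_c0 LD2_c39 LD3_c47)) = (LP (LK LD1_c1 LD2_c23 LD3_c43)) :=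
  Lgr Lrot5 (Lpr_ft (f74986 IH) (Lpr_at (f74985 IH) (Lpr_gf (f426305 IH) (Lpn (LP (LK LD1_c1 LD2_c23 LD3_c43))))))
theorem f74946 : Led Lsl_bt (LP (LK LD1_c6 LD2_c8 LD3_c36)) = (LP (LK LD1_c3 LD2_c0 LD3_c37)) :=
  Lre_b IH (LK LD1_c6 LD2_c8 LD3_c36) (LK LD1_c3 LD2_c0 LD3_c37) Lrfl Lrfl
theorem f149448 : Led Lsl_bt (LP (LK LD1_c4 LD2_c44 LD3_c46)) = (LP (LK LD1_c9 LD2_c22 LD3_c11)) :=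
  Lre_b IH (LK LD1_c4 LD2_c44 LD3_c46) (LK LD1_c9 LD2_c22 LD3_c11) Lrfl Lrfl
theorem f426312 : Led Lsl_bt (LP (LK LD1_c2 LD2_c55 LD3_c33)) = (LP (LK LD1_c5 LD2_c58 LD3_c21)) :=
  Lre_b IH (LK LD1_c2 LD2_c55 LD3_c33) (LK LD1_c5 LD2_c58 LD3_c21) Lrfl Lrfl
theorem f426320 : Led Lsl_gf (LP (LK LD1_c9 LD2_c22 LD3_c11)) = (LP (LK LD1_c5 LD2_c58 LD3_c21)) :=
  Lgr Lrot124 (Lpe (f149448 IH) (Lpe (K8.f149451 IH) (Lpe (K6.f71170 IH) (Lpe (K11.f163435 IH) (Lpr_bt (f74946 IH) (Lpr_gt (K6.f23019 IH) (Lpr_ct (K2.f23015 IH) (Lpr_gt (f426309 IH) (Lpe (K24.f426034 IH) (Lpr_bt (f426312 IH) (Lpn (LP (LK LD1_c5 LD2_c58 LD3_c21)))))))))))))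
theorem f99456 : Led Lsl_bt (LP (LK LD1_c7 LD2_c56 LD3_c51)) = (LP (LK LD1_c4 LD2_c36 LD3_c8)) :=
  Lgr Lrot127 (Lpr_bf (K4.f99448 IH) (Lpn (LP (LK LD1_c4 LD2_c36 LD3_c8))))
theorem f149449 : Led Lsl_df (LP (LK LD1_c7 LD2_c56 LD3_c51)) = (LP (LK LD1_c9 LD2_c22 LD3_c11)) :=
  Lgr Lrot12 (Lpr_bt (f99456 IH) (Lpr_dt (K7.f149443 IH) (Lpr_bt (f149448 IH) (Lpn (LP (LK LD1_c9 LD2_c22 LD3_c11))))))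
theorem f137884 : Led Lsl_ff (LP (LK LD1_c2 LD2_c9 LD3_c50)) = (LP (LK LD1_c3 LD2_c57 LD3_c42)) :=
  Lgr Lrot3 (Lpr_ft (K6.f137880 IH) (Lpn (LP (LK LD1_c3 LD2_c57 LD3_c42))))
theorem f150110 : Led Lsl_df (LP (LK LD1_c3 LD2_c57 LD3_c42)) = (LP (LK LD1_c7 LD2_c56 LD3_c43)) :=
  Lgr Lrot78 (Lpe (f137884 IH) (Lpr_dt (K6.f70488 IH) (Lpr_ft (K7.f150104 IH) (Lpn (LP (LK LD1_c7 LD2_c56 LD3_c43))))))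
theorem f150095 : Led Lsl_at (LP (LK LD1_c4 LD2_c24 LD3_c19)) = (LP (LK LD1_c7 LD2_c56 LD3_c43)) :=
  Lgr Lrot66 (Lpr_ff (K7.f150044 IH) (Lpe (K7.f150078 IH) (Lpr_ff (K7.f150093 IH) (Lpn (LP (LK LD1_c7 LD2_c56 LD3_c43))))))
theorem f202905 : Led Lsl_gf (LP (LK LD1_c7 LD2_c56 LD3_c43)) = (LP (LK LD1_c4 LD2_c24 LD3_c17)) :=
  Lgr Lrot76 (Lpe (f150095 IH) (Lpr_ff (K7.f150044 IH) (Lpr_gt (K11.f202902 IH) (Lpn (LP (LK LD1_c4 LD2_c24 LD3_c17))))))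
theorem f137594 : Led Lsl_dt (LP (LK LD1_c11 LD2_c41 LD3_c19)) = (LP (LK LD1_c5 LD2_c58 LD3_c21)) :=
  Lre_d IH (LK LD1_c11 LD2_c41 LD3_c19) (LK LD1_c5 LD2_c58 LD3_c21) Lrfl Lrfl
theorem f426330 : Led Lsl_gt (LP (LK LD1_c8 LD2_c46 LD3_c11)) = (LP (LK LD1_c11 LD2_c41 LD3_c19)) :=
  Lgr Lrot94 (Lpe (K11.f80705 IH) (Lpe (f202905 IH) (Lpe (f150110 IH) (Lpr_gt (K6.f35578 IH) (Lpr_dt (K2.f35981 IH) (Lpe (K4.f35756 IH) (Lpr_df (f149449 IH) (Lpr_gf (f426320 IH) (Lpe (f137594 IH) (Lpn (LP (LK LD1_c11 LD2_c41 LD3_c19))))))))))))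
theorem f38219 : Led Lsl_bt (LP (LK LD1_c3 LD2_c4 LD3_c12)) = (LP (LK LD1_c6 LD2_c13 LD3_c48)) :=
  Lre_b IH (LK LD1_c3 LD2_c4 LD3_c12) (LK LD1_c6 LD2_c13 LD3_c48) Lrfl Lrfl
theorem f137600 : Led Lsl_bt (LP (LK LD1_c8 LD2_c48 LD3_c0)) = (LP (LK LD1_c4 LD2_c25 LD3_c15)) :=
  Lre_b IH (LK LD1_c8 LD2_c48 LD3_c0) (LK LD1_c4 LD2_c25 LD3_c15) Lrfl Lrfl
theorem f426342 : Led Lsl_ct (LP (LK LD1_c8 LD2_c48 LD3_c0)) = (LP (LK LD1_c11 LD2_c41 LD3_c19)) :=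
  Lgr Lrot63 (Lpr_bt (f137600 IH) (Lpr_gt (K6.f137617 IH) (Lpe (f38219 IH) (Lpr_ct (K11.f80777 IH) (Lpe (K11.f202155 IH) (Lpr_cf (K7.f149334 IH) (Lpr_bt (K7.f150029 IH) (Lpr_gt (K11.f202902 IH) (Lpr_ct (K11.f80705 IH) (Lpr_gt (f426330 IH) (Lpn (LP (LK LD1_c11 LD2_c41 LD3_c19)))))))))))))
theorem f420629 : Led Lsl_ft (LP (LK LD1_c11 LD2_c41 LD3_c19)) = (LP (LK LD1_c5 LD2_c58 LD3_c19)) :=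
  Lre_f IH (LK LD1_c11 LD2_c41 LD3_c19) (LK LD1_c5 LD2_c58 LD3_c19) Lrfl Lrfl
theorem f82053 : Led Lsl_dt (LP (LK LD1_c2 LD2_c54 LD3_c20)) = (LP (LK LD1_c5 LD2_c55 LD3_c61)) :=
  Lre_d IH (LK LD1_c2 LD2_c54 LD3_c20) (LK LD1_c5 LD2_c55 LD3_c61) Lrfl Lrfl
theorem f202057 : Led Lsl_df (LP (LK LD1_c3 LD2_c57 LD3_c46)) = (LP (LK LD1_c6 LD2_c13 LD3_c49)) :=
  Lgr Lrot155 (Lpe (K6.f38573 IH) (Lpr_ct (K2.f38505 IH) (Lpe (K6.f36019 IH) (Lpr_ct (K6.f81829 IH) (Lpr_dt (f82053 IH) (Lpe (K6.f81832 IH) (Lpr_gf (K11.f202041 IH) (Lpe (K11.f38169 IH) (Lpr_gf (f38226 IH) (Lpn (LP (LK LD1_c6 LD2_c13 LD3_c49))))))))))))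
theorem f38540 : Led Lsl_dt (LP (LK LD1_c4 LD2_c25 LD3_c17)) = (LP (LK LD1_c8 LD2_c48 LD3_c6)) :=
  Lre_d IH (LK LD1_c4 LD2_c25 LD3_c17) (LK LD1_c8 LD2_c48 LD3_c6) Lrfl Lrfl
theorem f420607 : Led Lsl_bt (LP (LK LD1_c8 LD2_c48 LD3_c6)) = (LP (LK LD1_c6 LD2_c13 LD3_c49)) :=
  Lgr Lrot95 (Lpe (f38540 IH) (Lpr_bf (K8.f38532 IH) (Lpr_df (f202057 IH) (Lpn (LP (LK LD1_c6 LD2_c13 LD3_c49))))))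
theorem f202952 : Led Lsl_ct (LP (LK LD1_c6 LD2_c13 LD3_c49)) = (LP (LK LD1_c9 LD2_c49 LD3_c58)) :=
  Lgr Lrot59 (Lpr_cf (f202950 IH) (Lpn (LP (LK LD1_c9 LD2_c49 LD3_c58))))
theorem f79665 : Led Lsl_bt (LP (LK LD1_c2 LD2_c55 LD3_c31)) = (LP (LK LD1_c5 LD2_c58 LD3_c19)) :=
  Lre_b IH (LK LD1_c2 LD2_c55 LD3_c31) (LK LD1_c5 LD2_c58 LD3_c19) Lrfl Lrfl
theorem f420611 : Led Lsl_cf (LP (LK LD1_c8 LD2_c48 LD3_c6)) = (LP (LK LD1_c5 LD2_c58 LD3_c19)) :=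
  Lgr Lrot97 (Lpr_bt (f420607 IH) (Lpr_ct (f202952 IH) (Lpr_bt (f74374 IH) (Lpr_ct (K2.f56977 IH) (Lpr_bt (f79665 IH) (Lpn (LP (LK LD1_c5 LD2_c58 LD3_c19))))))))
theorem f426351 : Led Lsl_ff (LP (LK LD1_c8 LD2_c48 LD3_c0)) = (LP (LK LD1_c8 LD2_c48 LD3_c6)) :=
  Lgr Lrot23 (Lpr_ct (f426342 IH) (Lpr_ft (f420629 IH) (Lpe (f420611 IH) (Lpn (LP (LK LD1_c8 LD2_c48 LD3_c6))))))
theorem f426358 : Led Lsl_ft (LP (LK LD1_c8 LD2_c48 LD3_c0)) = (LP (LK LD1_c8 LD2_c48 LD3_c6)) :=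
  Lgr Lrot48 (Lpr_ff (f426351 IH) (Lpn (LP (LK LD1_c8 LD2_c48 LD3_c6))))
theorem f203356 : Led Lsl_dt (LP (LK LD1_c4 LD2_c25 LD3_c13)) = (LP (LK LD1_c8 LD2_c48 LD3_c0)) :=
  Lre_d IH (LK LD1_c4 LD2_c25 LD3_c13) (LK LD1_c8 LD2_c48 LD3_c0) Lrfl Lrfl
theorem f38536 : Led Lsl_dt (LP (LK LD1_c8 LD2_c48 LD3_c6)) = (LP (LK LD1_c4 LD2_c25 LD3_c17)) :=
  Lre_d IH (LK LD1_c8 LD2_c48 LD3_c6) (LK LD1_c4 LD2_c25 LD3_c17) Lrfl Lrfl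
theorem f426362 : Led Lsl_ff (LP (LK LD1_c4 LD2_c25 LD3_c13)) = (LP (LK LD1_c4 LD2_c25 LD3_c17)) :=
  Lgr Lrot19 (Lpr_dt (f203356 IH) (Lpr_ft (f426358 IH) (Lpr_dt (f38536 IH) (Lpn (LP (LK LD1_c4 LD2_c25 LD3_c17))))))
theorem f80739 : Led Lsl_ct (LP (LK LD1_c3 LD2_c3 LD3_c43)) = (LP (LK LD1_c6 LD2_c13 LD3_c46)) :=
  Lre_c IH (LK LD1_c3 LD2_c3 LD3_c43) (LK LD1_c6 LD2_c13 LD3_c46) Lrfl Lrfl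
theorem f80740 : Led Lsl_dt (LP (LK LD1_c6 LD2_c13 LD3_c46)) = (LP (LK LD1_c12 LD2_c6 LD3_c14)) :=
  Lre_d IH (LK LD1_c6 LD2_c13 LD3_c46) (LK LD1_c12 LD2_c6 LD3_c14) Lrfl Lrfl
theorem f138023 : Led Lsl_dt (LP (LK LD1_c4 LD2_c24 LD3_c46)) = (LP (LK LD1_c3 LD2_c57 LD3_c37)) :=
  Lgr Lrot42 (Lpr_df (K8.f137947 IH) (Lpn (LP (LK LD1_c3 LD2_c57 LD3_c37))))
theorem f35901 : Led Lsl_ff (LP (LK LD1_c3 LD2_c57 LD3_c44)) = (LP (LK LD1_c2 LD2_c9 LD3_c52)) :=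
  Lgr Lrot25 (Lpr_bt (K4.f35755 IH) (Lpr_ft (K1.f35816 IH) (Lpr_bt (K6.f35900 IH) (Lpn (LP (LK LD1_c2 LD2_c9 LD3_c52))))))
theorem f36040 : Led Lsl_gf (LP (LK LD1_c7 LD2_c56 LD3_c50)) = (LP (LK LD1_c4 LD2_c24 LD3_c46)) :=
  Lgr Lrot76 (Lpe (K1.f36024 IH) (Lpr_ff (f35901 IH) (Lpr_gt (K6.f36039 IH) (Lpn (LP (LK LD1_c4 LD2_c24 LD3_c46))))))
theorem f202807 : Led Lsl_cf (LP (LK LD1_c12 LD2_c6 LD3_c14)) = (LP (LK LD1_c8 LD2_c47 LD3_c4)) :=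
  Lgr Lrot99 (Lpe (f80740 IH) (Lpe (f80739 IH) (Lpr_gf (K11.f80737 IH) (Lpr_cf (K11.f80678 IH) (Lpr_gf (K11.f202801 IH) (Lpe (f138023 IH) (Lpe (f36040 IH) (Lpr_ct (K6.f81618 IH) (Lpe (K6.f81647 IH) (Lpn (LP (LK LD1_c8 LD2_c47 LD3_c4))))))))))))
theorem f203265 : Led Lsl_gf (LP (LK LD1_c7 LD2_c57 LD3_c8)) = (LP (LK LD1_c12 LD2_c6 LD3_c14)) :=
  Lgr Lrot104 (Lpr_ct (K5.f112552 IH) (Lpr_df (f112550 IH) (Lpr_cf (f203005 IH) (Lpe (f81600 IH) (Lpe (K6.f74697 IH) (Lpe (K6.f74702 IH) (Lpe (K5.f81635 IH) (Lpe (K6.f81647 IH) (Lpe (f202807 IH) (Lpn (LP (LK LD1_c12 LD2_c6 LD3_c14))))))))))))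
theorem f112560 : Led Lsl_dt (LP (LK LD1_c7 LD2_c57 LD3_c8)) = (LP (LK LD1_c3 LD2_c57 LD3_c54)) :=
  Lre_d IH (LK LD1_c7 LD2_c57 LD3_c8) (LK LD1_c3 LD2_c57 LD3_c54) Lrfl Lrfl
theorem f81601 : Led Lsl_gt (LP (LK LD1_c5 LD2_c58 LD3_c16)) = (LP (LK LD1_c11 LD2_c41 LD3_c9)) :=
  Lre_g IH (LK LD1_c5 LD2_c58 LD3_c16) (LK LD1_c11 LD2_c41 LD3_c9) Lrfl Lrfl
theorem f137589 : Led Lsl_at (LP (LK LD1_c5 LD2_c58 LD3_c18)) = (LP (LK LD1_c2 LD2_c55 LD3_c30)) :=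
  Lre_a IH (LK LD1_c5 LD2_c58 LD3_c18) (LK LD1_c2 LD2_c55 LD3_c30) Lrfl Lrfl
theorem f137590 : Led Lsl_ft (LP (LK LD1_c11 LD2_c41 LD3_c9)) = (LP (LK LD1_c5 LD2_c58 LD3_c18)) :=
  Lre_f IH (LK LD1_c11 LD2_c41 LD3_c9) (LK LD1_c5 LD2_c58 LD3_c18) Lrfl Lrfl
theorem f137591 : Led Lsl_dt (LP (LK LD1_c11 LD2_c41 LD3_c9)) = (LP (LK LD1_c8 LD2_c46 LD3_c19)) :=
  Lgr Lrot159 (Lpr_ft (f137590 IH) (Lpr_at (f137589 IH) (Lpe (K6.f74701 IH) (Lpr_df (K7.f137575 IH) (Lpe (K6.f38010 IH) (Lpe (K6.f38009 IH) (Lpe (K8.f38521 IH) (Lpe (K6.f38519 IH) (Lpr_cf (K6.f70497 IH) (Lpn (LP (LK LD1_c8 LD2_c46 LD3_c19))))))))))))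
theorem f203267 : Led Lsl_gt (LP (LK LD1_c3 LD2_c57 LD3_c54)) = (LP (LK LD1_c4 LD2_c25 LD3_c14)) :=
  Lgr Lrot49 (Lpe (f112560 IH) (Lpr_gf (f203265 IH) (Lpr_cf (f202807 IH) (Lpr_gt (K6.f81588 IH) (Lpr_dt (K5.f81594 IH) (Lpr_gt (f81601 IH) (Lpr_dt (f137591 IH) (Lpe (K6.f70503 IH) (Lpe (K6.f38518 IH) (Lpn (LP (LK LD1_c4 LD2_c25 LD3_c14))))))))))))
theorem f426368 : Led Lsl_at (LP (LK LD1_c4 LD2_c25 LD3_c13)) = (LP (LK LD1_c4 LD2_c25 LD3_c14)) :=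
  Lgr Lrot26 (Lpr_ff (f426362 IH) (Lpr_gt (K8.f159209 IH) (Lpr_gt (f203267 IH) (Lpn (LP (LK LD1_c4 LD2_c25 LD3_c14))))))
theorem f36050 : Led Lsl_ct (LP (LK LD1_c3 LD2_c57 LD3_c41)) = (LP (LK LD1_c7 LD2_c56 LD3_c48)) :=
  Lre_c IH (LK LD1_c3 LD2_c57 LD3_c41) (LK LD1_c7 LD2_c56 LD3_c48) Lrfl Lrfl
theorem f150061 : Led Lsl_ff (LP (LK LD1_c4 LD2_c24 LD3_c41)) = (LP (LK LD1_c7 LD2_c56 LD3_c48)) :=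
  Lgr Lrot23 (Lpr_ct (K6.f35996 IH) (Lpr_ft (K7.f150057 IH) (Lpr_ct (f36050 IH) (Lpn (LP (LK LD1_c7 LD2_c56 LD3_c48))))))
theorem f158678 : Led Lsl_gf (LP (LK LD1_c4 LD2_c36 LD3_c57)) = (LP (LK LD1_c7 LD2_c56 LD3_c48)) :=
  Lgr Lrot47 (Lpr_gt (K8.f158676 IH) (Lpe (K6.f137890 IH) (Lpr_ff (f150061 IH) (Lpn (LP (LK LD1_c7 LD2_c56 LD3_c48))))))
theorem f37821 : Led Lsl_bt (LP (LK LD1_c1 LD2_c4 LD3_c41)) = (LP (LK LD1_c2 LD2_c15 LD3_c7)) :=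
  Lre_b IH (LK LD1_c1 LD2_c4 LD3_c41) (LK LD1_c2 LD2_c15 LD3_c7) Lrfl Lrfl
theorem f36051 : Led Lsl_ct (LP (LK LD1_c7 LD2_c56 LD3_c48)) = (LP (LK LD1_c3 LD2_c57 LD3_c41)) :=
  Lre_c IH (LK LD1_c7 LD2_c56 LD3_c48) (LK LD1_c3 LD2_c57 LD3_c41) Lrfl Lrfl
theorem f161348 : Led Lsl_bf (LP (LK LD1_c7 LD2_c56 LD3_c48)) = (LP (LK LD1_c3 LD2_c59 LD3_c19)) :=
  Lgr Lrot90 (Lpr_ct (f36051 IH) (Lpe (K7.f37833 IH) (Lpr_ct (K7.f37768 IH) (Lpr_bt (f37821 IH) (Lpr_ct (K8.f161344 IH) (Lpn (LP (LK LD1_c3 LD2_c59 LD3_c19))))))))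
theorem f161350 : Led Lsl_cf (LP (LK LD1_c2 LD2_c15 LD3_c7)) = (LP (LK LD1_c3 LD2_c59 LD3_c19)) :=
  Lgr Lrot11 (Lpr_ct (K8.f161344 IH) (Lpn (LP (LK LD1_c3 LD2_c59 LD3_c19))))
theorem f38564 : Led Lsl_bt (LP (LK LD1_c2 LD2_c10 LD3_c2)) = (LP (LK LD1_c4 LD2_c25 LD3_c13)) :=
  Lre_b IH (LK LD1_c2 LD2_c10 LD3_c2) (LK LD1_c4 LD2_c25 LD3_c13) Lrfl Lrfl
theorem f203285 : Led Lsl_gf (LP (LK LD1_c4 LD2_c36 LD3_c43)) = (LP (LK LD1_c4 LD2_c25 LD3_c13)) :=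
  Lgr Lrot124 (Lpe (K8.f137293 IH) (Lpr_ct (K4.f99593 IH) (Lpr_gt (K8.f161360 IH) (Lpr_cf (f161350 IH) (Lpe (f161348 IH) (Lpe (f158678 IH) (Lpr_ct (K8.f159204 IH) (Lpr_gt (f203267 IH) (Lpe (K6.f38517 IH) (Lpr_bt (f38564 IH) (Lpn (LP (LK LD1_c4 LD2_c25 LD3_c13)))))))))))))
theorem f203354 : Led Lsl_ct (LP (LK LD1_c3 LD2_c57 LD3_c47)) = (LP (LK LD1_c4 LD2_c25 LD3_c13)) :=
  Lgr Lrot152 (Lpe (K8.f72101 IH) (Lpe (K4.f38579 IH) (Lpr_gt (K5.f72135 IH) (Lpr_ct (K8.f72137 IH) (Lpe (K8.f138141 IH) (Lpr_ct (K8.f112462 IH) (Lpe (K6.f112461 IH) (Lpe (K6.f99600 IH) (Lpr_gf (f203285 IH) (Lpn (LP (LK LD1_c4 LD2_c25 LD3_c13))))))))))))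
theorem f426372 : Led Lsl_af (LP (LK LD1_c3 LD2_c57 LD3_c47)) = (LP (LK LD1_c2 LD2_c10 LD3_c2)) :=
  Lgr Lrot68 (Lpr_ct (f203354 IH) (Lpr_at (f426368 IH) (Lpr_ct (K8.f38521 IH) (Lpn (LP (LK LD1_c2 LD2_c10 LD3_c2))))))
theorem f426380 : Led Lsl_ft (LP (LK LD1_c3 LD2_c57 LD3_c46)) = (LP (LK LD1_c2 LD2_c10 LD3_c2)) :=
  Lgr Lrot2 (Lpe (K6.f38573 IH) (Lpr_gt (K8.f72101 IH) (Lpr_af (f426372 IH) (Lpn (LP (LK LD1_c2 LD2_c10 LD3_c2))))))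
theorem f426384 : Led Lsl_ff (LP (LK LD1_c7 LD2_c56 LD3_c56)) = (LP (LK LD1_c4 LD2_c25 LD3_c14)) :=
  Lgr Lrot23 (Lpr_ct (K6.f37080 IH) (Lpr_ft (f426380 IH) (Lpr_ct (K6.f38517 IH) (Lpn (LP (LK LD1_c4 LD2_c25 LD3_c14))))))
theorem f426390 : Led Lsl_ft (LP (LK LD1_c7 LD2_c56 LD3_c56)) = (LP (LK LD1_c4 LD2_c25 LD3_c14)) :=
  Lgr Lrot48 (Lpr_ff (f426384 IH) (Lpn (LP (LK LD1_c4 LD2_c25 LD3_c14))))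
theorem f138750 : Led Lsl_bt (LP (LK LD1_c8 LD2_c2 LD3_c11)) = (LP (LK LD1_c7 LD2_c56 LD3_c56)) :=
  Lgr Lrot128 (Lpr_cf (K6.f138747 IH) (Lpe (K8.f38539 IH) (Lpe (K6.f38529 IH) (Lpr_bf (K8.f38532 IH) (Lpe (K6.f37080 IH) (Lpn (LP (LK LD1_c7 LD2_c56 LD3_c56))))))))
theorem f426394 : Led Lsl_ff (LP (LK LD1_c8 LD2_c2 LD3_c11)) = (LP (LK LD1_c4 LD2_c25 LD3_c43)) :=
  Lgr Lrot25 (Lpr_bt (f138750 IH) (Lpr_ft (f426390 IH) (Lpr_bt (K8.f38526 IH) (Lpn (LP (LK LD1_c4 LD2_c25 LD3_c43))))))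
theorem f426398 : Led Lsl_at (LP (LK LD1_c8 LD2_c2 LD3_c11)) = (LP (LK LD1_c4 LD2_c25 LD3_c16)) :=
  Lgr Lrot26 (Lpr_ff (f426394 IH) (Lpr_gt (K8.f38525 IH) (Lpr_gt (K8.f149414 IH) (Lpn (LP (LK LD1_c4 LD2_c25 LD3_c16))))))
theorem f426400 : Led Lsl_af (LP (LK LD1_c8 LD2_c2 LD3_c11)) = (LP (LK LD1_c4 LD2_c25 LD3_c16)) :=
  Lgr Lrot0 (Lpr_at (f426398 IH) (Lpn (LP (LK LD1_c4 LD2_c25 LD3_c16))))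
theorem f148979 : Led Lsl_cf (LP (LK LD1_c2 LD2_c15 LD3_c38)) = (LP (LK LD1_c1 LD2_c55 LD3_c43)) :=
  Lgr Lrot11 (Lpr_ct (K7.f148966 IH) (Lpn (LP (LK LD1_c1 LD2_c55 LD3_c43))))
theorem f158662 : Led Lsl_gt (LP (LK LD1_c3 LD2_c3 LD3_c26)) = (LP (LK LD1_c2 LD2_c54 LD3_c23)) :=
  Lgr Lrot5 (Lpe (K8.f158229 IH) (Lpe (K8.f158352 IH) (Lpr_gf (K8.f158660 IH) (Lpn (LP (LK LD1_c2 LD2_c54 LD3_c23))))))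
theorem f38542 : Led Lsl_bf (LP (LK LD1_c4 LD2_c25 LD3_c14)) = (LP (LK LD1_c4 LD2_c25 LD3_c43)) :=
  Lgr Lrot24 (Lpr_bt (K8.f38526 IH) (Lpn (LP (LK LD1_c4 LD2_c25 LD3_c43))))
theorem f158256 : Led Lsl_cf (LP (LK LD1_c7 LD2_c56 LD3_c58)) = (LP (LK LD1_c4 LD2_c25 LD3_c43)) :=
  Lgr Lrot11 (Lpr_ct (K8.f158251 IH) (Lpn (LP (LK LD1_c4 LD2_c25 LD3_c43))))
theorem f203287 : Led Lsl_gf (LP (LK LD1_c4 LD2_c0 LD3_c41)) = (LP (LK LD1_c7 LD2_c56 LD3_c58)) :=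
  Lgr Lrot126 (Lpe (K6.f29501 IH) (Lpr_bt (K6.f69419 IH) (Lpr_gt (f158662 IH) (Lpr_ct (K8.f148989 IH) (Lpe (K7.f148986 IH) (Lpr_cf (f148979 IH) (Lpr_bt (K8.f148976 IH) (Lpr_gt (f203267 IH) (Lpr_bf (f38542 IH) (Lpe (f158256 IH) (Lpn (LP (LK LD1_c7 LD2_c56 LD3_c58)))))))))))))
theorem f426420 : Led Lsl_ft (LP (LK LD1_c7 LD2_c56 LD3_c58)) = (LP (LK LD1_c4 LD2_c25 LD3_c16)) :=
  Lgr Lrot2 (Lpe (f203287 IH) (Lpr_gt (K6.f69483 IH) (Lpr_af (f426400 IH) (Lpn (LP (LK LD1_c4 LD2_c25 LD3_c16))))))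
theorem f158253 : Led Lsl_bt (LP (LK LD1_c3 LD2_c57 LD3_c47)) = (LP (LK LD1_c7 LD2_c56 LD3_c58)) :=
  Lre_b IH (LK LD1_c3 LD2_c57 LD3_c47) (LK LD1_c7 LD2_c56 LD3_c58) Lrfl Lrfl
theorem f426424 : Led Lsl_ff (LP (LK LD1_c3 LD2_c57 LD3_c47)) = (LP (LK LD1_c2 LD2_c10 LD3_c3)) :=
  Lgr Lrot25 (Lpr_bt (f158253 IH) (Lpr_ft (f426420 IH) (Lpr_bt (K6.f38535 IH) (Lpn (LP (LK LD1_c2 LD2_c10 LD3_c3))))))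
theorem f38206 : Led Lsl_gt (LP (LK LD1_c6 LD2_c13 LD3_c50)) = (LP (LK LD1_c3 LD2_c3 LD3_c45)) :=
  Lre_g IH (LK LD1_c6 LD2_c13 LD3_c50) (LK LD1_c3 LD2_c3 LD3_c45) Lrfl Lrfl
theorem f70490 : Led Lsl_df (LP (LK LD1_c2 LD2_c9 LD3_c50)) = (LP (LK LD1_c4 LD2_c24 LD3_c20)) :=
  Lgr Lrot38 (Lpr_dt (K6.f70488 IH) (Lpn (LP (LK LD1_c4 LD2_c24 LD3_c20))))
theorem f150101 : Led Lsl_dt (LP (LK LD1_c3 LD2_c57 LD3_c42)) = (LP (LK LD1_c7 LD2_c56 LD3_c43)) :=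
  Lgr Lrot60 (Lpe (K6.f137880 IH) (Lpr_df (f70490 IH) (Lpr_ff (K7.f150093 IH) (Lpn (LP (LK LD1_c7 LD2_c56 LD3_c43))))))
theorem f202787 : Led Lsl_df (LP (LK LD1_c6 LD2_c13 LD3_c50)) = (LP (LK LD1_c3 LD2_c57 LD3_c47)) :=
  Lgr Lrot153 (Lpr_gt (f38206 IH) (Lpr_dt (K11.f38153 IH) (Lpr_cf (K11.f202772 IH) (Lpe (K11.f78332 IH) (Lpe (K7.f59247 IH) (Lpe (f150101 IH) (Lpr_gf (K6.f36019 IH) (Lpe (K2.f38505 IH) (Lpr_gt (K8.f72101 IH) (Lpn (LP (LK LD1_c3 LD2_c57 LD3_c47))))))))))))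
theorem f38538 : Led Lsl_dt (LP (LK LD1_c4 LD2_c25 LD3_c18)) = (LP (LK LD1_c2 LD2_c10 LD3_c3)) :=
  Lre_d IH (LK LD1_c4 LD2_c25 LD3_c18) (LK LD1_c2 LD2_c10 LD3_c3) Lrfl Lrfl
theorem f426426 : Led Lsl_ft (LP (LK LD1_c6 LD2_c13 LD3_c50)) = (LP (LK LD1_c4 LD2_c25 LD3_c18)) :=
  Lgr Lrot54 (Lpr_df (f202787 IH) (Lpr_ff (f426424 IH) (Lpe (f38538 IH) (Lpn (LP (LK LD1_c4 LD2_c25 LD3_c18))))))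
theorem f426434 : Led Lsl_af (LP (LK LD1_c6 LD2_c13 LD3_c49)) = (LP (LK LD1_c4 LD2_c25 LD3_c18)) :=
  Lgr Lrot31 (Lpe (f38225 IH) (Lpe (f38206 IH) (Lpr_ft (f426426 IH) (Lpn (LP (LK LD1_c4 LD2_c25 LD3_c18))))))
theorem f137581 : Led Lsl_bt (LP (LK LD1_c4 LD2_c25 LD3_c15)) = (LP (LK LD1_c8 LD2_c48 LD3_c0)) :=
  Lre_b IH (LK LD1_c4 LD2_c25 LD3_c15) (LK LD1_c8 LD2_c48 LD3_c0) Lrfl Lrfl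
theorem f426360 : Led Lsl_ff (LP (LK LD1_c4 LD2_c25 LD3_c15)) = (LP (LK LD1_c6 LD2_c13 LD3_c49)) :=
  Lgr Lrot25 (Lpr_bt (f137581 IH) (Lpr_ft (f426358 IH) (Lpr_bt (f420607 IH) (Lpn (LP (LK LD1_c6 LD2_c13 LD3_c49))))))
theorem f426442 : Led Lsl_at (LP (LK LD1_c4 LD2_c25 LD3_c15)) = (LP (LK LD1_c6 LD2_c13 LD3_c50)) :=
  Lgr Lrot66 (Lpr_ff (f426360 IH) (Lpr_af (f426434 IH) (Lpe (f426426 IH) (Lpn (LP (LK LD1_c6 LD2_c13 LD3_c50))))))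
theorem f38209 : Led Lsl_ct (LP (LK LD1_c6 LD2_c13 LD3_c50)) = (LP (LK LD1_c12 LD2_c6 LD3_c18)) :=
  Lre_c IH (LK LD1_c6 LD2_c13 LD3_c50) (LK LD1_c12 LD2_c6 LD3_c18) Lrfl Lrfl
theorem f426444 : Led Lsl_af (LP (LK LD1_c8 LD2_c48 LD3_c2)) = (LP (LK LD1_c12 LD2_c6 LD3_c18)) :=
  Lgr Lrot68 (Lpr_ct (K6.f70511 IH) (Lpr_at (f426442 IH) (Lpr_ct (f38209 IH) (Lpn (LP (LK LD1_c12 LD2_c6 LD3_c18))))))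
theorem f38210 : Led Lsl_ct (LP (LK LD1_c12 LD2_c6 LD3_c18)) = (LP (LK LD1_c6 LD2_c13 LD3_c50)) :=
  Lre_c IH (LK LD1_c12 LD2_c6 LD3_c18) (LK LD1_c6 LD2_c13 LD3_c50) Lrfl Lrfl
theorem f72116 : Led Lsl_ct (LP (LK LD1_c4 LD2_c25 LD3_c18)) = (LP (LK LD1_c8 LD2_c48 LD3_c7)) :=
  Lre_c IH (LK LD1_c4 LD2_c25 LD3_c18) (LK LD1_c8 LD2_c48 LD3_c7) Lrfl Lrfl
theorem f426429 : Led Lsl_ff (LP (LK LD1_c12 LD2_c6 LD3_c18)) = (LP (LK LD1_c8 LD2_c48 LD3_c7)) :=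
  Lgr Lrot23 (Lpr_ct (f38210 IH) (Lpr_ft (f426426 IH) (Lpr_ct (f72116 IH) (Lpn (LP (LK LD1_c8 LD2_c48 LD3_c7))))))
theorem f72117 : Led Lsl_ct (LP (LK LD1_c8 LD2_c48 LD3_c7)) = (LP (LK LD1_c4 LD2_c25 LD3_c18)) :=
  Lre_c IH (LK LD1_c8 LD2_c48 LD3_c7) (LK LD1_c4 LD2_c25 LD3_c18) Lrfl Lrfl
theorem f426438 : Led Lsl_at (LP (LK LD1_c9 LD2_c49 LD3_c58)) = (LP (LK LD1_c8 LD2_c48 LD3_c7)) :=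
  Lgr Lrot107 (Lpe (f202952 IH) (Lpr_af (f426434 IH) (Lpe (f72117 IH) (Lpn (LP (LK LD1_c8 LD2_c48 LD3_c7))))))
theorem f426459 : Led Lsl_ft (LP (LK LD1_c8 LD2_c48 LD3_c2)) = (LP (LK LD1_c9 LD2_c49 LD3_c58)) :=
  Lgr Lrot101 (Lpr_af (f426444 IH) (Lpr_ff (f426429 IH) (Lpe (f426438 IH) (Lpn (LP (LK LD1_c9 LD2_c49 LD3_c58))))))
theorem f426465 : Led Lsl_ff (LP (LK LD1_c8 LD2_c48 LD3_c2)) = (LP (LK LD1_c9 LD2_c49 LD3_c58)) :=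
  Lgr Lrot3 (Lpr_ft (f426459 IH) (Lpn (LP (LK LD1_c9 LD2_c49 LD3_c58))))
theorem f426469 : Led Lsl_ft (LP (LK LD1_c5 LD2_c57 LD3_c38)) = (LP (LK LD1_c5 LD2_c58 LD3_c51)) :=
  Lgr Lrot54 (Lpr_df (K7.f137575 IH) (Lpr_ff (f426465 IH) (Lpe (f202954 IH) (Lpn (LP (LK LD1_c5 LD2_c58 LD3_c51))))))
theorem f137559 : Led Lsl_dt (LP (LK LD1_c5 LD2_c58 LD3_c21)) = (LP (LK LD1_c11 LD2_c41 LD3_c19)) :=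
  Lre_d IH (LK LD1_c5 LD2_c58 LD3_c21) (LK LD1_c11 LD2_c41 LD3_c19) Lrfl Lrfl
theorem f137560 : Led Lsl_at (LP (LK LD1_c11 LD2_c41 LD3_c9)) = (LP (LK LD1_c5 LD2_c58 LD3_c21)) :=
  Lre_a IH (LK LD1_c11 LD2_c41 LD3_c9) (LK LD1_c5 LD2_c58 LD3_c21) Lrfl Lrfl
theorem f137561 : Led Lsl_df (LP (LK LD1_c11 LD2_c41 LD3_c9)) = (LP (LK LD1_c8 LD2_c46 LD3_c19)) :=
  Lgr Lrot18 (Lpr_at (f137560 IH) (Lpr_dt (f137559 IH) (Lpr_at (K6.f137552 IH) (Lpn (LP (LK LD1_c8 LD2_c46 LD3_c19))))))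
theorem f426471 : Led Lsl_at (LP (LK LD1_c5 LD2_c58 LD3_c51)) = (LP (LK LD1_c11 LD2_c42 LD3_c7)) :=
  Lre_a IH (LK LD1_c5 LD2_c58 LD3_c51) (LK LD1_c11 LD2_c42 LD3_c7) Lrfl Lrfl
theorem f426477 : Led Lsl_ct (LP (LK LD1_c11 LD2_c41 LD3_c9)) = (LP (LK LD1_c11 LD2_c42 LD3_c7)) :=
  Lgr Lrot98 (Lpr_df (f137561 IH) (Lpe (K6.f70503 IH) (Lpe (K6.f38518 IH) (Lpe (K6.f38517 IH) (Lpe (K6.f38548 IH) (Lpe (K6.f70511 IH) (Lpe (K6.f137569 IH) (Lpr_ft (f426469 IH) (Lpr_at (f426471 IH) (Lpn (LP (LK LD1_c11 LD2_c42 LD3_c7))))))))))))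
theorem f426489 : Led Lsl_bt (LP (LK LD1_c11 LD2_c41 LD3_c9)) = (LP (LK LD1_c5 LD2_c58 LD3_c59)) :=
  Lre_b IH (LK LD1_c11 LD2_c41 LD3_c9) (LK LD1_c5 LD2_c58 LD3_c59) Lrfl Lrfl
theorem f426475 : Led Lsl_gt (LP (LK LD1_c11 LD2_c40 LD3_c14)) = (LP (LK LD1_c11 LD2_c42 LD3_c7)) :=
  Lgr Lrot46 (Lpe (f81600 IH) (Lpr_ft (f426469 IH) (Lpr_at (f426471 IH) (Lpn (LP (LK LD1_c11 LD2_c42 LD3_c7))))))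
theorem f128550 : Led Lsl_ff (LP (LK LD1_c4 LD2_c40 LD3_c23)) = (LP (LK LD1_c2 LD2_c20 LD3_c31)) :=
  Lgr Lrot19 (Lpr_dt (K3.f78646 IH) (Lpr_ft (K5.f128548 IH) (Lpr_dt (K3.f102055 IH) (Lpn (LP (LK LD1_c2 LD2_c20 LD3_c31))))))
theorem f128701 : Led Lsl_bf (LP (LK LD1_c7 LD2_c39 LD3_c29)) = (LP (LK LD1_c4 LD2_c40 LD3_c23)) :=
  Lgr Lrot61 (Lpr_ft (K5.f128699 IH) (Lpr_bt (K8.f102064 IH) (Lpe (f128550 IH) (Lpn (LP (LK LD1_c4 LD2_c40 LD3_c23))))))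
theorem f426490 : Led Lsl_gt (LP (LK LD1_c5 LD2_c58 LD3_c59)) = (LP (LK LD1_c7 LD2_c39 LD3_c29)) :=
  Lgr Lrot164 (Lpe (f426489 IH) (Lpr_ct (f426477 IH) (Lpe (f426475 IH) (Lpe (f203003 IH) (Lpe (f23502 IH) (Lpe (f23501 IH) (Lpr_ct (K3.f99008 IH) (Lpe (K3.f98873 IH) (Lpr_cf (K3.f103235 IH) (Lpe (f128701 IH) (Lpn (LP (LK LD1_c7 LD2_c39 LD3_c29)))))))))))))
theorem f81629 : Led Lsl_ct (LP (LK LD1_c11 LD2_c41 LD3_c44)) = (LP (LK LD1_c5 LD2_c58 LD3_c59)) :=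
  Lre_c IH (LK LD1_c11 LD2_c41 LD3_c44) (LK LD1_c5 LD2_c58 LD3_c59) Lrfl Lrfl
theorem f87914 : Led Lsl_ct (LP (LK LD1_c3 LD2_c49 LD3_c20)) = (LP (LK LD1_c7 LD2_c39 LD3_c29)) :=
  Lre_c IH (LK LD1_c3 LD2_c49 LD3_c20) (LK LD1_c7 LD2_c39 LD3_c29) Lrfl Lrfl
theorem f128703 : Led Lsl_et (LP (LK LD1_c14 LD2_c25 LD3_c58)) = (LP (LK LD1_c7 LD2_c39 LD3_c29)) :=
  Lre_e IH (LK LD1_c14 LD2_c25 LD3_c58) (LK LD1_c7 LD2_c39 LD3_c29) Lrfl Lrfl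
theorem f78651 : Led Lsl_et (LP (LK LD1_c4 LD2_c40 LD3_c23)) = (LP (LK LD1_c9 LD2_c16 LD3_c10)) :=
  Lre_e IH (LK LD1_c4 LD2_c40 LD3_c23) (LK LD1_c9 LD2_c16 LD3_c10) Lrfl Lrfl
theorem f128711 : Led Lsl_bf (LP (LK LD1_c14 LD2_c25 LD3_c58)) = (LP (LK LD1_c9 LD2_c16 LD3_c10)) :=
  Lgr Lrot96 (Lpr_et (f128703 IH) (Lpr_bt (K5.f128706 IH) (Lpr_et (f78651 IH) (Lpn (LP (LK LD1_c9 LD2_c16 LD3_c10))))))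
theorem f128715 : Led Lsl_ct (LP (LK LD1_c14 LD2_c25 LD3_c58)) = (LP (LK LD1_c7 LD2_c39 LD3_c30)) :=
  Lre_c IH (LK LD1_c14 LD2_c25 LD3_c58) (LK LD1_c7 LD2_c39 LD3_c30) Lrfl Lrfl
theorem f98874 : Led Lsl_et (LP (LK LD1_c4 LD2_c44 LD3_c37)) = (LP (LK LD1_c2 LD2_c20 LD3_c25)) :=
  Lre_e IH (LK LD1_c4 LD2_c44 LD3_c37) (LK LD1_c2 LD2_c20 LD3_c25) Lrfl Lrfl
theorem f103237 : Led Lsl_cf (LP (LK LD1_c4 LD2_c44 LD3_c37)) = (LP (LK LD1_c9 LD2_c16 LD3_c10)) :=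
  Lgr Lrot39 (Lpr_et (f98874 IH) (Lpr_ct (K3.f103232 IH) (Lpr_et (f78651 IH) (Lpn (LP (LK LD1_c9 LD2_c16 LD3_c10))))))
theorem f103245 : Led Lsl_ct (LP (LK LD1_c4 LD2_c44 LD3_c37)) = (LP (LK LD1_c9 LD2_c16 LD3_c10)) :=
  Lgr Lrot59 (Lpr_cf (f103237 IH) (Lpn (LP (LK LD1_c9 LD2_c16 LD3_c10))))
theorem f127051 : Led Lsl_bt (LP (LK LD1_c6 LD2_c9 LD3_c31)) = (LP (LK LD1_c4 LD2_c44 LD3_c37)) :=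
  Lgr Lrot127 (Lpr_bf (K5.f127047 IH) (Lpn (LP (LK LD1_c4 LD2_c44 LD3_c37))))
theorem f127068 : Led Lsl_et (LP (LK LD1_c2 LD2_c20 LD3_c6)) = (LP (LK LD1_c4 LD2_c44 LD3_c15)) :=
  Lre_e IH (LK LD1_c2 LD2_c20 LD3_c6) (LK LD1_c4 LD2_c44 LD3_c15) Lrfl Lrfl
theorem f127069 : Led Lsl_cf (LP (LK LD1_c6 LD2_c9 LD3_c31)) = (LP (LK LD1_c4 LD2_c44 LD3_c15)) :=
  Lgr Lrot39 (Lpr_et (K5.f127053 IH) (Lpr_ct (K5.f127064 IH) (Lpr_et (f127068 IH) (Lpn (LP (LK LD1_c4 LD2_c44 LD3_c15))))))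
theorem f128716 : Led Lsl_bt (LP (LK LD1_c7 LD2_c39 LD3_c30)) = (LP (LK LD1_c4 LD2_c44 LD3_c15)) :=
  Lgr Lrot128 (Lpe (f128715 IH) (Lpr_bf (f128711 IH) (Lpe (f103245 IH) (Lpe (f127051 IH) (Lpr_cf (f127069 IH) (Lpn (LP (LK LD1_c4 LD2_c44 LD3_c15))))))))
theorem f128720 : Led Lsl_bf (LP (LK LD1_c7 LD2_c39 LD3_c30)) = (LP (LK LD1_c4 LD2_c44 LD3_c15)) :=
  Lgr Lrot24 (Lpr_bt (f128716 IH) (Lpn (LP (LK LD1_c4 LD2_c44 LD3_c15))))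
theorem f111967 : Led Lsl_et (LP (LK LD1_c7 LD2_c39 LD3_c30)) = (LP (LK LD1_c3 LD2_c49 LD3_c20)) :=
  Lre_e IH (LK LD1_c7 LD2_c39 LD3_c30) (LK LD1_c3 LD2_c49 LD3_c20) Lrfl Lrfl
theorem f128744 : Led Lsl_bt (LP (LK LD1_c3 LD2_c49 LD3_c20)) = (LP (LK LD1_c2 LD2_c20 LD3_c6)) :=
  Lgr Lrot119 (Lpe (f111967 IH) (Lpr_bf (f128720 IH) (Lpe (f127068 IH) (Lpn (LP (LK LD1_c2 LD2_c20 LD3_c6))))))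
theorem f25299 : Led Lsl_bt (LP (LK LD1_c2 LD2_c20 LD3_c4)) = (LP (LK LD1_c4 LD2_c44 LD3_c10)) :=
  Lre_b IH (LK LD1_c2 LD2_c20 LD3_c4) (LK LD1_c4 LD2_c44 LD3_c10) Lrfl Lrfl
theorem f135766 : Led Lsl_bf (LP (LK LD1_c0 LD2_c45 LD3_c15)) = (LP (LK LD1_c0 LD2_c39 LD3_c60)) :=
  Lgr Lrot93 (Lpr_dt (K6.f113293 IH) (Lpr_bt (K6.f135755 IH) (Lpr_dt (K5.f24842 IH) (Lpn (LP (LK LD1_c0 LD2_c39 LD3_c60))))))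
theorem f135803 : Led Lsl_gt (LP (LK LD1_c0 LD2_c45 LD3_c15)) = (LP (LK LD1_c0 LD2_c40 LD3_c3)) :=
  Lgr Lrot49 (Lpr_df (K6.f113126 IH) (Lpr_gf (K6.f135796 IH) (Lpe (K3.f26160 IH) (Lpr_gt (K3.f26163 IH) (Lpe (K6.f107389 IH) (Lpe (K5.f89832 IH) (Lpe (K6.f127123 IH) (Lpe (K4.f91915 IH) (Lpr_df (K7.f127125 IH) (Lpn (LP (LK LD1_c0 LD2_c40 LD3_c3))))))))))))
theorem f128244 : Led Lsl_gt (LP (LK LD1_c1 LD2_c46 LD3_c15)) = (LP (LK LD1_c1 LD2_c43 LD3_c32)) :=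
  Lgr Lrot46 (Lpr_gf (K3.f98490 IH) (Lpe (K5.f128225 IH) (Lpr_at (K5.f128233 IH) (Lpn (LP (LK LD1_c1 LD2_c43 LD3_c32))))))
theorem f5023 : Led Lsl_bt (LP (LK LD1_c1 LD2_c46 LD3_c15)) = (LP (LK LD1_c3 LD2_c38 LD3_c32)) :=
  Lre_b IH (LK LD1_c1 LD2_c46 LD3_c15) (LK LD1_c3 LD2_c38 LD3_c32) Lrfl Lrfl
theorem f5022 : Led Lsl_bt (LP (LK LD1_c3 LD2_c38 LD3_c13)) = (LP (LK LD1_c1 LD2_c46 LD3_c6)) :=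
  Lre_b IH (LK LD1_c3 LD2_c38 LD3_c13) (LK LD1_c1 LD2_c46 LD3_c6) Lrfl Lrfl
theorem f5401 : Led Lsl_ct (LP (LK LD1_c3 LD2_c38 LD3_c32)) = (LP (LK LD1_c3 LD2_c38 LD3_c13)) :=
  Lgr Lrot83 (Lpe (f5023 IH) (Lpe (K0.f377 IH) (Lpr_bf (K8.f5390 IH) (Lpe (K0.f5224 IH) (Lpe (f5022 IH) (Lpn (LP (LK LD1_c3 LD2_c38 LD3_c13))))))))
theorem f5547 : Led Lsl_ct (LP (LK LD1_c3 LD2_c38 LD3_c13)) = (LP (LK LD1_c3 LD2_c38 LD3_c32)) :=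
  Lgr Lrot53 (Lpe (K0.f5063 IH) (Lpe (K3.f5263 IH) (Lpe (K24.f5056 IH) (Lpe (f5401 IH) (Lpr_df (K24.f4983 IH) (Lpe (K0.f5060 IH) (Lpr_at (K24.f5539 IH) (Lpr_cf (K24.f5541 IH) (Lpe (K0.f5065 IH) (Lpn (LP (LK LD1_c3 LD2_c38 LD3_c32))))))))))))
theorem f94454 : Led Lsl_ct (LP (LK LD1_c3 LD2_c46 LD3_c19)) = (LP (LK LD1_c7 LD2_c33 LD3_c42)) :=
  Lre_c IH (LK LD1_c3 LD2_c46 LD3_c19) (LK LD1_c7 LD2_c33 LD3_c42) Lrfl Lrfl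
theorem f5632 : Led Lsl_ct (LP (LK LD1_c3 LD2_c38 LD3_c12)) = (LP (LK LD1_c7 LD2_c16 LD3_c45)) :=
  Lre_c IH (LK LD1_c3 LD2_c38 LD3_c12) (LK LD1_c7 LD2_c16 LD3_c45) Lrfl Lrfl
theorem f116571 : Led Lsl_ct (LP (LK LD1_c6 LD2_c51 LD3_c52)) = (LP (LK LD1_c7 LD2_c16 LD3_c44)) :=
  Lgr Lrot83 (Lpr_bf (K7.f116566 IH) (Lpe (f94454 IH) (Lpr_bf (K3.f94452 IH) (Lpe (f5632 IH) (Lpe (K7.f5633 IH) (Lpn (LP (LK LD1_c7 LD2_c16 LD3_c44))))))))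
theorem f92446 : Led Lsl_dt (LP (LK LD1_c1 LD2_c49 LD3_c57)) = (LP (LK LD1_c3 LD2_c45 LD3_c41)) :=
  Lre_d IH (LK LD1_c1 LD2_c49 LD3_c57) (LK LD1_c3 LD2_c45 LD3_c41) Lrfl Lrfl
theorem f89127 : Led Lsl_ct (LP (LK LD1_c7 LD2_c32 LD3_c1)) = (LP (LK LD1_c3 LD2_c45 LD3_c41)) :=
  Lre_c IH (LK LD1_c7 LD2_c32 LD3_c1) (LK LD1_c3 LD2_c45 LD3_c41) Lrfl Lrfl
theorem f93523 : Led Lsl_gt (LP (LK LD1_c6 LD2_c55 LD3_c61)) = (LP (LK LD1_c7 LD2_c32 LD3_c1)) :=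
  Lgr Lrot65 (Lpe (K4.f89715 IH) (Lpr_bt (K4.f90171 IH) (Lpe (K2.f91291 IH) (Lpe (K4.f18250 IH) (Lpr_ct (K3.f19122 IH) (Lpr_gf (K3.f93463 IH) (Lpe (K3.f93449 IH) (Lpr_gf (K3.f88648 IH) (Lpe (K4.f89126 IH) (Lpr_ct (K4.f89128 IH) (Lpn (LP (LK LD1_c7 LD2_c32 LD3_c1)))))))))))))
theorem f90175 : Led Lsl_gt (LP (LK LD1_c6 LD2_c55 LD3_c60)) = (LP (LK LD1_c3 LD2_c27 LD3_c3)) :=
  Lre_g IH (LK LD1_c6 LD2_c55 LD3_c60) (LK LD1_c3 LD2_c27 LD3_c3) Lrfl Lrfl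
theorem f116583 : Led Lsl_df (LP (LK LD1_c6 LD2_c51 LD3_c52)) = (LP (LK LD1_c6 LD2_c55 LD3_c60)) :=
  Lgr Lrot155 (Lpr_gt (K7.f95399 IH) (Lpr_ct (K24.f116555 IH) (Lpr_gt (K24.f116577 IH) (Lpe (K4.f92430 IH) (Lpr_dt (f92446 IH) (Lpe (f89127 IH) (Lpe (f93523 IH) (Lpe (K4.f89715 IH) (Lpe (f90175 IH) (Lpn (LP (LK LD1_c6 LD2_c55 LD3_c60))))))))))))
theorem f142474 : Led Lsl_gt (LP (LK LD1_c4 LD2_c44 LD3_c10)) = (LP (LK LD1_c6 LD2_c55 LD3_c60)) :=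
  Lgr Lrot190 (Lpe (f25299 IH) (Lpe (K4.f91915 IH) (Lpr_df (K7.f127125 IH) (Lpe (f135803 IH) (Lpr_bf (f135766 IH) (Lpe (K5.f21098 IH) (Lpr_df (K6.f134779 IH) (Lpr_gf (K6.f142465 IH) (Lpr_bf (K8.f26187 IH) (Lpe (K8.f108021 IH) (Lpe (K5.f10504 IH) (Lpe (f128244 IH) (Lpe (K0.f4981 IH) (Lpe (f5547 IH) (Lpe (K0.f5063 IH) (Lpr_gf (K3.f5629 IH) (Lpe (K7.f5633 IH) (Lpe (f116571 IH) (Lpr_df (f116583 IH) (Lpn (LP (LK LD1_c6 LD2_c55 LD3_c60))))))))))))))))))))))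
theorem f426496 : Led Lsl_bt (LP (LK LD1_c11 LD2_c41 LD3_c44)) = (LP (LK LD1_c6 LD2_c55 LD3_c60)) :=
  Lgr Lrot92 (Lpr_ct (f81629 IH) (Lpr_gt (f426490 IH) (Lpe (f87914 IH) (Lpr_bt (f128744 IH) (Lpe (K7.f156460 IH) (Lpr_ct (K7.f24305 IH) (Lpr_gt (K11.f156456 IH) (Lpe (K5.f25298 IH) (Lpr_bt (f25299 IH) (Lpr_gt (f142474 IH) (Lpn (LP (LK LD1_c6 LD2_c55 LD3_c60)))))))))))))
theorem f116569 : Led Lsl_bt (LP (LK LD1_c6 LD2_c51 LD3_c52)) = (LP (LK LD1_c7 LD2_c33 LD3_c42)) :=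
  Lgr Lrot127 (Lpr_bf (K7.f116566 IH) (Lpn (LP (LK LD1_c7 LD2_c33 LD3_c42))))
theorem f426505 : Led Lsl_df (LP (LK LD1_c11 LD2_c41 LD3_c44)) = (LP (LK LD1_c7 LD2_c33 LD3_c42)) :=
  Lgr Lrot12 (Lpr_bt (f426496 IH) (Lpe (f116583 IH) (Lpr_bt (f116569 IH) (Lpn (LP (LK LD1_c7 LD2_c33 LD3_c42))))))
theorem f81628 : Led Lsl_bt (LP (LK LD1_c5 LD2_c58 LD3_c59)) = (LP (LK LD1_c11 LD2_c41 LD3_c9)) :=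
  Lre_b IH (LK LD1_c5 LD2_c58 LD3_c59) (LK LD1_c11 LD2_c41 LD3_c9) Lrfl Lrfl
theorem f81627 : Led Lsl_gt (LP (LK LD1_c11 LD2_c41 LD3_c9)) = (LP (LK LD1_c5 LD2_c58 LD3_c17)) :=
  Lre_g IH (LK LD1_c11 LD2_c41 LD3_c9) (LK LD1_c5 LD2_c58 LD3_c17) Lrfl Lrfl
theorem f97474 : Led Lsl_ct (LP (LK LD1_c7 LD2_c17 LD3_c9)) = (LP (LK LD1_c3 LD2_c38 LD3_c25)) :=
  Lre_c IH (LK LD1_c7 LD2_c17 LD3_c9) (LK LD1_c3 LD2_c38 LD3_c25) Lrfl Lrfl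
theorem f97475 : Led Lsl_bf (LP (LK LD1_c7 LD2_c17 LD3_c9)) = (LP (LK LD1_c6 LD2_c58 LD3_c42)) :=
  Lgr Lrot90 (Lpr_ct (f97474 IH) (Lpr_bt (K24.f97473 IH) (Lpr_ct (K24.f97469 IH) (Lpr_bt (K7.f94638 IH) (Lpe (K7.f94627 IH) (Lpn (LP (LK LD1_c6 LD2_c58 LD3_c42))))))))
theorem f426565 : Led Lsl_gt (LP (LK LD1_c7 LD2_c17 LD3_c9)) = (LP (LK LD1_c7 LD2_c33 LD3_c42)) :=
  Lgr Lrot190 (Lpr_bf (f97475 IH) (Lpr_cf (K7.f94627 IH) (Lpe (K7.f156668 IH) (Lpr_gf (K7.f135843 IH) (Lpe (K6.f57449 IH) (Lpe (K6.f135845 IH) (Lpe (K6.f135846 IH) (Lpe (K11.f161002 IH) (Lpe (K4.f20210 IH) (Lpr_cf (K4.f36539 IH) (Lpe (K4.f119650 IH) (Lpr_gf (K6.f119666 IH) (Lpr_bf (K1.f36140 IH) (Lpr_cf (K2.f81611 IH) (Lpe (K2.f81610 IH) (Lpe (f81627 IH) (Lpe (f81628 IH) (Lpe (f81629 IH) (Lpr_df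 (f426505 IH) (Lpn (LP (LK LD1_c7 LD2_c33 LD3_c42))))))))))))))))))))))
theorem f94458 : Led Lsl_bt (LP (LK LD1_c3 LD2_c46 LD3_c19)) = (LP (LK LD1_c7 LD2_c16 LD3_c45)) :=
  Lgr Lrot127 (Lpr_bf (K3.f94452 IH) (Lpn (LP (LK LD1_c7 LD2_c16 LD3_c45))))
theorem f116215 : Led Lsl_bt (LP (LK LD1_c3 LD2_c35 LD3_c42)) = (LP (LK LD1_c7 LD2_c12 LD3_c0)) :=
  Lre_b IH (LK LD1_c3 LD2_c35 LD3_c42) (LK LD1_c7 LD2_c12 LD3_c0) Lrfl Lrfl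
theorem f94427 : Led Lsl_bt (LP (LK LD1_c7 LD2_c5 LD3_c37)) = (LP (LK LD1_c3 LD2_c32 LD3_c18)) :=
  Lre_b IH (LK LD1_c7 LD2_c5 LD3_c37) (LK LD1_c3 LD2_c32 LD3_c18) Lrfl Lrfl
theorem f439368 : Led Lsl_ct (LP (LK LD1_c7 LD2_c12 LD3_c0)) = (LP (LK LD1_c7 LD2_c5 LD3_c37)) :=
  Lgr Lrot83 (Lpe (f116215 IH) (Lpr_cf (K24.f116193 IH) (Lpr_bf (K24.f116197 IH) (Lpr_cf (K24.f439365 IH) (Lpe (f94427 IH) (Lpn (LP (LK LD1_c7 LD2_c5 LD3_c37))))))))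
theorem f439378 : Led Lsl_gt (LP (LK LD1_c7 LD2_c16 LD3_c45)) = (LP (LK LD1_c7 LD2_c12 LD3_c0)) :=
  Lgr Lrot82 (Lpe (f94458 IH) (Lpr_ct (f94454 IH) (Lpe (f426565 IH) (Lpe (K24.f97497 IH) (Lpr_bt (K24.f97473 IH) (Lpr_gf (K24.f151506 IH) (Lpe (K24.f109559 IH) (Lpr_ct (K24.f5076 IH) (Lpr_gf (K24.f439372 IH) (Lpe (f439368 IH) (Lpn (LP (LK LD1_c7 LD2_c12 LD3_c0)))))))))))))
theorem f426492 : Led Lsl_gf (LP (LK LD1_c5 LD2_c58 LD3_c59)) = (LP (LK LD1_c7 LD2_c34 LD3_c52)) :=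
  Lgr Lrot47 (Lpr_gt (f426490 IH) (Lpe (K5.f87381 IH) (Lpe (K5.f87909 IH) (Lpn (LP (LK LD1_c7 LD2_c34 LD3_c52))))))
theorem f426563 : Led Lsl_at (LP (LK LD1_c2 LD2_c55 LD3_c54)) = (LP (LK LD1_c5 LD2_c58 LD3_c59)) :=
  Lre_a IH (LK LD1_c2 LD2_c55 LD3_c54) (LK LD1_c5 LD2_c58 LD3_c59) Lrfl Lrfl
theorem f426564 : Led Lsl_ft (LP (LK LD1_c5 LD2_c57 LD3_c34)) = (LP (LK LD1_c2 LD2_c55 LD3_c54)) :=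
  Lre_f IH (LK LD1_c5 LD2_c57 LD3_c34) (LK LD1_c2 LD2_c55 LD3_c54) Lrfl Lrfl
theorem f426570 : Led Lsl_gt (LP (LK LD1_c5 LD2_c57 LD3_c34)) = (LP (LK LD1_c7 LD2_c34 LD3_c52)) :=
  Lgr Lrot5 (Lpr_ft (f426564 IH) (Lpr_at (f426563 IH) (Lpr_gf (f426492 IH) (Lpn (LP (LK LD1_c7 LD2_c34 LD3_c52))))))
theorem f87911 : Led Lsl_ct (LP (LK LD1_c3 LD2_c47 LD3_c1)) = (LP (LK LD1_c7 LD2_c34 LD3_c52)) :=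
  Lre_c IH (LK LD1_c3 LD2_c47 LD3_c1) (LK LD1_c7 LD2_c34 LD3_c52) Lrfl Lrfl
theorem f66164 : Led Lsl_bt (LP (LK LD1_c0 LD2_c52 LD3_c51)) = (LP (LK LD1_c1 LD2_c52 LD3_c10)) :=
  Lre_b IH (LK LD1_c0 LD2_c52 LD3_c51) (LK LD1_c1 LD2_c52 LD3_c10) Lrfl Lrfl
theorem f66165 : Led Lsl_gt (LP (LK LD1_c1 LD2_c52 LD3_c10)) = (LP (LK LD1_c3 LD2_c50 LD3_c32)) :=
  Lre_g IH (LK LD1_c1 LD2_c52 LD3_c10) (LK LD1_c3 LD2_c50 LD3_c32) Lrfl Lrfl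
theorem f66166 : Led Lsl_bt (LP (LK LD1_c7 LD2_c42 LD3_c7)) = (LP (LK LD1_c3 LD2_c50 LD3_c32)) :=
  Lre_b IH (LK LD1_c7 LD2_c42 LD3_c7) (LK LD1_c3 LD2_c50 LD3_c32) Lrfl Lrfl
theorem f426575 : Led Lsl_cf (LP (LK LD1_c5 LD2_c57 LD3_c34)) = (LP (LK LD1_c7 LD2_c42 LD3_c7)) :=
  Lgr Lrot160 (Lpr_gt (f426570 IH) (Lpe (f87911 IH) (Lpr_bt (K8.f87789 IH) (Lpe (K3.f93515 IH) (Lpe (K3.f96105 IH) (Lpr_gt (K3.f64477 IH) (Lpr_cf (K3.f66156 IH) (Lpr_bt (f66164 IH) (Lpr_gt (f66165 IH) (Lpe (f66166 IH) (Lpn (LP (LK LD1_c7 LD2_c42 LD3_c7)))))))))))))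
theorem f426572 : Led Lsl_gf (LP (LK LD1_c5 LD2_c57 LD3_c34)) = (LP (LK LD1_c7 LD2_c39 LD3_c29)) :=
  Lgr Lrot47 (Lpr_gt (f426570 IH) (Lpr_af (K5.f128690 IH) (Lpe (K5.f128699 IH) (Lpn (LP (LK LD1_c7 LD2_c39 LD3_c29))))))
theorem f204077 : Led Lsl_df (LP (LK LD1_c3 LD2_c51 LD3_c27)) = (LP (LK LD1_c6 LD2_c10 LD3_c8)) :=
  Lgr Lrot38 (Lpr_dt (K11.f204073 IH) (Lpn (LP (LK LD1_c6 LD2_c10 LD3_c8))))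
theorem f203474 : Led Lsl_bt (LP (LK LD1_c3 LD2_c51 LD3_c27)) = (LP (LK LD1_c7 LD2_c44 LD3_c21)) :=
  Lre_b IH (LK LD1_c3 LD2_c51 LD3_c27) (LK LD1_c7 LD2_c44 LD3_c21) Lrfl Lrfl
theorem f65648 : Led Lsl_bt (LP (LK LD1_c12 LD2_c1 LD3_c8)) = (LP (LK LD1_c6 LD2_c10 LD3_c8)) :=
  Lre_b IH (LK LD1_c12 LD2_c1 LD3_c8) (LK LD1_c6 LD2_c10 LD3_c8) Lrfl Lrfl
theorem f419165 : Led Lsl_dt (LP (LK LD1_c7 LD2_c44 LD3_c21)) = (LP (LK LD1_c12 LD2_c1 LD3_c8)) :=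
  Lgr Lrot79 (Lpe (f203474 IH) (Lpr_df (f204077 IH) (Lpe (f65648 IH) (Lpn (LP (LK LD1_c12 LD2_c1 LD3_c8))))))
theorem f151162 : Led Lsl_ft (LP (LK LD1_c6 LD2_c37 LD3_c25)) = (LP (LK LD1_c12 LD2_c36 LD3_c27)) :=
  Lgr Lrot4 (Lpe (K7.f149863 IH) (Lpr_ff (K7.f151156 IH) (Lpr_cf (K7.f141743 IH) (Lpn (LP (LK LD1_c12 LD2_c36 LD3_c27))))))
theorem f203432 : Led Lsl_ff (LP (LK LD1_c3 LD2_c51 LD3_c28)) = (LP (LK LD1_c6 LD2_c35 LD3_c53)) :=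
  Lgr Lrot25 (Lpr_bt (K11.f203421 IH) (Lpr_ft (f151162 IH) (Lpr_bt (K7.f149773 IH) (Lpn (LP (LK LD1_c6 LD2_c35 LD3_c53))))))
theorem f15205 : Led Lsl_gt (LP (LK LD1_c3 LD2_c16 LD3_c16)) = (LP (LK LD1_c6 LD2_c35 LD3_c52)) :=
  Lre_g IH (LK LD1_c3 LD2_c16 LD3_c16) (LK LD1_c6 LD2_c35 LD3_c52) Lrfl Lrfl
theorem f203438 : Led Lsl_at (LP (LK LD1_c3 LD2_c51 LD3_c28)) = (LP (LK LD1_c6 LD2_c35 LD3_c52)) :=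
  Lgr Lrot26 (Lpr_ff (f203432 IH) (Lpr_gt (K7.f15011 IH) (Lpr_gt (f15205 IH) (Lpn (LP (LK LD1_c6 LD2_c35 LD3_c52))))))
theorem f203440 : Led Lsl_af (LP (LK LD1_c3 LD2_c51 LD3_c28)) = (LP (LK LD1_c6 LD2_c35 LD3_c52)) :=
  Lgr Lrot0 (Lpr_at (f203438 IH) (Lpn (LP (LK LD1_c6 LD2_c35 LD3_c52))))
theorem f14016 : Led Lsl_gt (LP (LK LD1_c3 LD2_c51 LD3_c27)) = (LP (LK LD1_c6 LD2_c35 LD3_c50)) :=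
  Lre_g IH (LK LD1_c3 LD2_c51 LD3_c27) (LK LD1_c6 LD2_c35 LD3_c50) Lrfl Lrfl
theorem f203464 : Led Lsl_ft (LP (LK LD1_c3 LD2_c51 LD3_c27)) = (LP (LK LD1_c6 LD2_c35 LD3_c52)) :=
  Lgr Lrot2 (Lpr_gt (f14016 IH) (Lpr_gt (K11.f15575 IH) (Lpr_af (f203440 IH) (Lpn (LP (LK LD1_c6 LD2_c35 LD3_c52))))))
theorem f203470 : Led Lsl_ff (LP (LK LD1_c3 LD2_c51 LD3_c27)) = (LP (LK LD1_c6 LD2_c35 LD3_c52)) :=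
  Lgr Lrot3 (Lpr_ft (f203464 IH) (Lpn (LP (LK LD1_c6 LD2_c35 LD3_c52))))
theorem f203472 : Led Lsl_at (LP (LK LD1_c3 LD2_c51 LD3_c27)) = (LP (LK LD1_c6 LD2_c35 LD3_c53)) :=
  Lgr Lrot66 (Lpr_ff (f203470 IH) (Lpe (f203438 IH) (Lpr_ff (f203432 IH) (Lpn (LP (LK LD1_c6 LD2_c35 LD3_c53))))))
theorem f15581 : Led Lsl_bt (LP (LK LD1_c7 LD2_c44 LD3_c21)) = (LP (LK LD1_c3 LD2_c51 LD3_c27)) :=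
  Lre_b IH (LK LD1_c7 LD2_c44 LD3_c21) (LK LD1_c3 LD2_c51 LD3_c27) Lrfl Lrfl
theorem f149778 : Led Lsl_bf (LP (LK LD1_c12 LD2_c36 LD3_c27)) = (LP (LK LD1_c6 LD2_c35 LD3_c53)) :=
  Lgr Lrot24 (Lpr_bt (K7.f149773 IH) (Lpn (LP (LK LD1_c6 LD2_c35 LD3_c53))))
theorem f151171 : Led Lsl_df (LP (LK LD1_c12 LD2_c27 LD3_c54)) = (LP (LK LD1_c6 LD2_c35 LD3_c11)) :=
  Lgr Lrot155 (Lpe (K8.f151169 IH) (Lpr_ct (K6.f141651 IH) (Lpe (K6.f141714 IH) (Lpe (K6.f124511 IH) (Lpr_dt (K8.f150883 IH) (Lpe (K8.f150872 IH) (Lpr_gf (K7.f151165 IH) (Lpr_cf (K7.f141743 IH) (Lpe (K7.f118678 IH) (Lpn (LP (LK LD1_c6 LD2_c35 LD3_c11))))))))))))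
theorem f157289 : Led Lsl_af (LP (LK LD1_c6 LD2_c37 LD3_c26)) = (LP (LK LD1_c12 LD2_c36 LD3_c27)) :=
  Lgr Lrot109 (Lpr_cf (K8.f157278 IH) (Lpr_df (f151171 IH) (Lpe (K4.f117066 IH) (Lpe (K8.f117065 IH) (Lpr_cf (K4.f117033 IH) (Lpe (K4.f117069 IH) (Lpr_cf (K4.f117090 IH) (Lpr_df (K7.f149874 IH) (Lpr_ft (f151162 IH) (Lpn (LP (LK LD1_c12 LD2_c36 LD3_c27))))))))))))
theorem f203478 : Led Lsl_af (LP (LK LD1_c7 LD2_c44 LD3_c21)) = (LP (LK LD1_c12 LD2_c40 LD3_c41)) :=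
  Lgr Lrot36 (Lpr_bt (f15581 IH) (Lpr_at (f203472 IH) (Lpe (f149778 IH) (Lpe (f157289 IH) (Lpr_bt (K8.f149830 IH) (Lpn (LP (LK LD1_c12 LD2_c40 LD3_c41))))))))
theorem f149836 : Led Lsl_dt (LP (LK LD1_c12 LD2_c31 LD3_c25)) = (LP (LK LD1_c12 LD2_c40 LD3_c41)) :=
  Lgr Lrot42 (Lpr_df (K8.f149831 IH) (Lpn (LP (LK LD1_c12 LD2_c40 LD3_c41))))
theorem f419170 : Led Lsl_af (LP (LK LD1_c12 LD2_c31 LD3_c25)) = (LP (LK LD1_c12 LD2_c1 LD3_c8)) :=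
  Lgr Lrot117 (Lpr_dt (f149836 IH) (Lpe (f203478 IH) (Lpr_dt (f419165 IH) (Lpn (LP (LK LD1_c12 LD2_c1 LD3_c8))))))
theorem f65658 : Led Lsl_bt (LP (LK LD1_c6 LD2_c10 LD3_c8)) = (LP (LK LD1_c12 LD2_c1 LD3_c8)) :=
  Lre_b IH (LK LD1_c6 LD2_c10 LD3_c8) (LK LD1_c12 LD2_c1 LD3_c8) Lrfl Lrfl
theorem f65659 : Led Lsl_gt (LP (LK LD1_c21 LD2_c6 LD3_c49)) = (LP (LK LD1_c12 LD2_c1 LD3_c8)) :=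
  Lre_g IH (LK LD1_c21 LD2_c6 LD3_c49) (LK LD1_c12 LD2_c1 LD3_c8) Lrfl Lrfl
theorem f158836 : Led Lsl_bt (LP (LK LD1_c12 LD2_c2 LD3_c10)) = (LP (LK LD1_c21 LD2_c6 LD3_c49)) :=
  Lgr Lrot22 (Lpr_ct (K8.f158830 IH) (Lpe (K7.f23564 IH) (Lpe (K6.f65550 IH) (Lpe (K7.f65552 IH) (Lpe (K7.f65649 IH) (Lpr_ct (K7.f65650 IH) (Lpr_gf (K7.f65652 IH) (Lpe (K7.f65651 IH) (Lpr_bt (f65658 IH) (Lpe (f65659 IH) (Lpn (LP (LK LD1_c21 LD2_c6 LD3_c49)))))))))))))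
theorem f65632 : Led Lsl_bt (LP (LK LD1_c1 LD2_c34 LD3_c31)) = (LP (LK LD1_c0 LD2_c43 LD3_c56)) :=
  Lre_b IH (LK LD1_c1 LD2_c34 LD3_c31) (LK LD1_c0 LD2_c43 LD3_c56) Lrfl Lrfl
theorem f148080 : Led Lsl_gt (LP (LK LD1_c7 LD2_c27 LD3_c19)) = (LP (LK LD1_c3 LD2_c43 LD3_c21)) :=
  Lre_g IH (LK LD1_c7 LD2_c27 LD3_c19) (LK LD1_c3 LD2_c43 LD3_c21) Lrfl Lrfl
theorem f158842 : Led Lsl_cf (LP (LK LD1_c7 LD2_c27 LD3_c19)) = (LP (LK LD1_c12 LD2_c1 LD3_c8)) :=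
  Lgr Lrot125 (Lpr_gt (f148080 IH) (Lpe (K7.f148060 IH) (Lpr_bt (K7.f65646 IH) (Lpr_gt (K3.f65642 IH) (Lpe (f65632 IH) (Lpr_ct (K6.f65550 IH) (Lpr_gt (K7.f23564 IH) (Lpe (K8.f158830 IH) (Lpr_bt (f158836 IH) (Lpr_gt (f65659 IH) (Lpn (LP (LK LD1_c12 LD2_c1 LD3_c8)))))))))))))
theorem f158845 : Led Lsl_ct (LP (LK LD1_c7 LD2_c27 LD3_c19)) = (LP (LK LD1_c12 LD2_c1 LD3_c8)) :=
  Lgr Lrot59 (Lpr_cf (f158842 IH) (Lpn (LP (LK LD1_c12 LD2_c1 LD3_c8))))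
theorem f419176 : Led Lsl_at (LP (LK LD1_c6 LD2_c31 LD3_c45)) = (LP (LK LD1_c7 LD2_c27 LD3_c19)) :=
  Lgr Lrot107 (Lpe (K8.f148551 IH) (Lpr_af (f419170 IH) (Lpe (f158845 IH) (Lpn (LP (LK LD1_c7 LD2_c27 LD3_c19))))))
theorem f419178 : Led Lsl_af (LP (LK LD1_c6 LD2_c31 LD3_c45)) = (LP (LK LD1_c7 LD2_c27 LD3_c19)) :=
  Lgr Lrot0 (Lpr_at (f419176 IH) (Lpn (LP (LK LD1_c7 LD2_c27 LD3_c19))))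
theorem f78570 : Led Lsl_ct (LP (LK LD1_c9 LD2_c24 LD3_c40)) = (LP (LK LD1_c4 LD2_c46 LD3_c2)) :=
  Lre_c IH (LK LD1_c9 LD2_c24 LD3_c40) (LK LD1_c4 LD2_c46 LD3_c2) Lrfl Lrfl
theorem f148547 : Led Lsl_gt (LP (LK LD1_c6 LD2_c31 LD3_c46)) = (LP (LK LD1_c3 LD2_c14 LD3_c4)) :=
  Lre_g IH (LK LD1_c6 LD2_c31 LD3_c46) (LK LD1_c3 LD2_c14 LD3_c4) Lrfl Lrfl
theorem f419193 : Led Lsl_ft (LP (LK LD1_c6 LD2_c31 LD3_c46)) = (LP (LK LD1_c7 LD2_c27 LD3_c19)) :=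
  Lgr Lrot2 (Lpr_gt (f148547 IH) (Lpr_gt (K8.f148543 IH) (Lpr_af (f419178 IH) (Lpn (LP (LK LD1_c7 LD2_c27 LD3_c19))))))
theorem f419195 : Led Lsl_df (LP (LK LD1_c9 LD2_c24 LD3_c40)) = (LP (LK LD1_c6 LD2_c31 LD3_c46)) :=
  Lgr Lrot157 (Lpr_ct (f78570 IH) (Lpr_dt (K8.f124438 IH) (Lpr_ct (K8.f103064 IH) (Lpr_dt (K8.f124447 IH) (Lpe (K8.f157274 IH) (Lpe (K8.f149831 IH) (Lpr_ct (K8.f148551 IH) (Lpr_af (f419178 IH) (Lpe (f419193 IH) (Lpn (LP (LK LD1_c6 LD2_c31 LD3_c46))))))))))))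
theorem f78691 : Led Lsl_dt (LP (LK LD1_c2 LD2_c21 LD3_c2)) = (LP (LK LD1_c4 LD2_c46 LD3_c2)) :=
  Lre_d IH (LK LD1_c2 LD2_c21 LD3_c2) (LK LD1_c4 LD2_c46 LD3_c2) Lrfl Lrfl
theorem f150355 : Led Lsl_ct (LP (LK LD1_c5 LD2_c58 LD3_c23)) = (LP (LK LD1_c11 LD2_c40 LD3_c27)) :=
  Lgr Lrot8 (Lpr_gt (K8.f150243 IH) (Lpr_dt (K8.f72532 IH) (Lpr_gt (K7.f72618 IH) (Lpr_dt (K8.f74723 IH) (Lpe (K8.f150231 IH) (Lpr_df (K8.f150281 IH) (Lpe (K8.f150275 IH) (Lpe (K6.f139069 IH) (Lpr_gf (K8.f150259 IH) (Lpn (LP (LK LD1_c11 LD2_c40 LD3_c27))))))))))))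
theorem f99079 : Led Lsl_bt (LP (LK LD1_c1 LD2_c7 LD3_c55)) = (LP (LK LD1_c2 LD2_c21 LD3_c17)) :=
  Lre_b IH (LK LD1_c1 LD2_c7 LD3_c55) (LK LD1_c2 LD2_c21 LD3_c17) Lrfl Lrfl
theorem f99015 : Led Lsl_gt (LP (LK LD1_c9 LD2_c22 LD3_c38)) = (LP (LK LD1_c4 LD2_c44 LD3_c59)) :=
  Lre_g IH (LK LD1_c9 LD2_c22 LD3_c38) (LK LD1_c4 LD2_c44 LD3_c59) Lrfl Lrfl
theorem f150434 : Led Lsl_bt (LP (LK LD1_c5 LD2_c58 LD3_c23)) = (LP (LK LD1_c9 LD2_c22 LD3_c38)) :=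
  Lgr Lrot22 (Lpr_ct (f150355 IH) (Lpe (K8.f150267 IH) (Lpe (K6.f99082 IH) (Lpe (K6.f99080 IH) (Lpe (f99079 IH) (Lpr_ct (K0.f13737 IH) (Lpe (K3.f99074 IH) (Lpe (K3.f98909 IH) (Lpr_bt (K24.f99012 IH) (Lpe (f99015 IH) (Lpn (LP (LK LD1_c9 LD2_c22 LD3_c38)))))))))))))
theorem f137229 : Led Lsl_dt (LP (LK LD1_c2 LD2_c56 LD3_c12)) = (LP (LK LD1_c5 LD2_c58 LD3_c23)) :=
  Lre_d IH (LK LD1_c2 LD2_c56 LD3_c12) (LK LD1_c5 LD2_c58 LD3_c23) Lrfl Lrfl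
theorem f150438 : Led Lsl_df (LP (LK LD1_c4 LD2_c46 LD3_c0)) = (LP (LK LD1_c9 LD2_c22 LD3_c38)) :=
  Lgr Lrot12 (Lpr_bt (K8.f150397 IH) (Lpr_dt (f137229 IH) (Lpr_bt (f150434 IH) (Lpn (LP (LK LD1_c9 LD2_c22 LD3_c38))))))
theorem f104540 : Led Lsl_gt (LP (LK LD1_c11 LD2_c33 LD3_c1)) = (LP (LK LD1_c9 LD2_c22 LD3_c38)) :=
  Lgr Lrot5 (Lpr_ft (K24.f104529 IH) (Lpr_at (K24.f102951 IH) (Lpe (f99015 IH) (Lpn (LP (LK LD1_c9 LD2_c22 LD3_c38))))))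
theorem f207778 : Led Lsl_ff (LP (LK LD1_c3 LD2_c14 LD3_c5)) = (LP (LK LD1_c3 LD2_c19 LD3_c5)) :=
  Lgr Lrot103 (Lpr_at (K24.f207770 IH) (Lpe (K24.f142725 IH) (Lpe (K5.f12837 IH) (Lpe (K3.f12762 IH) (Lpe (K7.f131664 IH) (Lpe (K0.f17728 IH) (Lpe (K7.f17732 IH) (Lpr_cf (K7.f148056 IH) (Lpe (K7.f148069 IH) (Lpn (LP (LK LD1_c3 LD2_c19 LD3_c5))))))))))))
theorem f207784 : Led Lsl_gf (LP (LK LD1_c3 LD2_c19 LD3_c6)) = (LP (LK LD1_c1 LD2_c53 LD3_c44)) :=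
  Lgr Lrot76 (Lpe (K24.f207770 IH) (Lpr_ff (f207778 IH) (Lpr_gt (K7.f147547 IH) (Lpn (LP (LK LD1_c1 LD2_c53 LD3_c44))))))
theorem f122990 : Led Lsl_ct (LP (LK LD1_c14 LD2_c50 LD3_c0)) = (LP (LK LD1_c7 LD2_c51 LD3_c56)) :=
  Lre_c IH (LK LD1_c14 LD2_c50 LD3_c0) (LK LD1_c7 LD2_c51 LD3_c56) Lrfl Lrfl
theorem f156887 : Led Lsl_cf (LP (LK LD1_c7 LD2_c49 LD3_c60)) = (LP (LK LD1_c14 LD2_c20 LD3_c11)) :=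
  Lgr Lrot11 (Lpr_ct (K7.f156885 IH) (Lpn (LP (LK LD1_c14 LD2_c20 LD3_c11))))
theorem f162592 : Led Lsl_dt (LP (LK LD1_c6 LD2_c31 LD3_c10)) = (LP (LK LD1_c7 LD2_c49 LD3_c60)) :=
  Lgr Lrot159 (Lpr_ft (K8.f162582 IH) (Lpe (K8.f162562 IH) (Lpe (K8.f156555 IH) (Lpe (K11.f16766 IH) (Lpe (K6.f16765 IH) (Lpe (K8.f157297 IH) (Lpe (K11.f157301 IH) (Lpe (K11.f162380 IH) (Lpe (K7.f156885 IH) (Lpn (LP (LK LD1_c7 LD2_c49 LD3_c60))))))))))))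
theorem f162596 : Led Lsl_df (LP (LK LD1_c6 LD2_c31 LD3_c10)) = (LP (LK LD1_c7 LD2_c49 LD3_c60)) :=
  Lgr Lrot38 (Lpr_dt (f162592 IH) (Lpn (LP (LK LD1_c7 LD2_c49 LD3_c60))))
theorem f205991 : Led Lsl_at (LP (LK LD1_c7 LD2_c51 LD3_c56)) = (LP (LK LD1_c7 LD2_c49 LD3_c60)) :=
  Lgr Lrot51 (Lpr_df (K11.f205989 IH) (Lpe (K8.f162576 IH) (Lpr_df (f162596 IH) (Lpn (LP (LK LD1_c7 LD2_c49 LD3_c60))))))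
theorem f206102 : Led Lsl_ft (LP (LK LD1_c7 LD2_c49 LD3_c61)) = (LP (LK LD1_c7 LD2_c51 LD3_c56)) :=
  Lgr Lrot142 (Lpr_dt (K24.f206094 IH) (Lpe (K8.f156559 IH) (Lpr_dt (K8.f16764 IH) (Lpr_ct (K6.f16763 IH) (Lpe (K8.f157302 IH) (Lpr_ct (K11.f156481 IH) (Lpe (K11.f162378 IH) (Lpe (f156887 IH) (Lpe (f205991 IH) (Lpn (LP (LK LD1_c7 LD2_c51 LD3_c56))))))))))))
theorem f144655 : Led Lsl_ct (LP (LK LD1_c7 LD2_c51 LD3_c56)) = (LP (LK LD1_c14 LD2_c50 LD3_c0)) :=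
  Lre_c IH (LK LD1_c7 LD2_c51 LD3_c56) (LK LD1_c14 LD2_c50 LD3_c0) Lrfl Lrfl
theorem f206106 : Led Lsl_ff (LP (LK LD1_c14 LD2_c20 LD3_c12)) = (LP (LK LD1_c14 LD2_c50 LD3_c0)) :=
  Lgr Lrot23 (Lpr_ct (K7.f156723 IH) (Lpr_ft (f206102 IH) (Lpr_ct (f144655 IH) (Lpn (LP (LK LD1_c14 LD2_c50 LD3_c0))))))
theorem f206108 : Led Lsl_ft (LP (LK LD1_c14 LD2_c20 LD3_c12)) = (LP (LK LD1_c14 LD2_c50 LD3_c0)) :=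
  Lgr Lrot48 (Lpr_ff (f206106 IH) (Lpn (LP (LK LD1_c14 LD2_c50 LD3_c0))))
theorem f206110 : Led Lsl_af (LP (LK LD1_c14 LD2_c20 LD3_c11)) = (LP (LK LD1_c14 LD2_c50 LD3_c0)) :=
  Lgr Lrot31 (Lpe (K7.f16107 IH) (Lpe (K7.f16111 IH) (Lpr_ft (f206108 IH) (Lpn (LP (LK LD1_c14 LD2_c50 LD3_c0))))))
theorem f162587 : Led Lsl_cf (LP (LK LD1_c6 LD2_c31 LD3_c10)) = (LP (LK LD1_c3 LD2_c47 LD3_c35)) :=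
  Lgr Lrot108 (Lpr_ft (K8.f162582 IH) (Lpr_ct (K8.f162330 IH) (Lpr_ft (K8.f162253 IH) (Lpn (LP (LK LD1_c3 LD2_c47 LD3_c35))))))
theorem f206112 : Led Lsl_dt (LP (LK LD1_c14 LD2_c20 LD3_c12)) = (LP (LK LD1_c12 LD2_c33 LD3_c35)) :=
  Lgr Lrot159 (Lpr_ft (f206108 IH) (Lpe (f206110 IH) (Lpe (K7.f156885 IH) (Lpe (f162592 IH) (Lpr_cf (f162587 IH) (Lpe (K8.f15658 IH) (Lpe (K3.f15275 IH) (Lpe (K11.f205973 IH) (Lpe (K11.f157333 IH) (Lpn (LP (LK LD1_c12 LD2_c33 LD3_c35))))))))))))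
theorem f206115 : Led Lsl_df (LP (LK LD1_c14 LD2_c50 LD3_c0)) = (LP (LK LD1_c14 LD2_c29 LD3_c49)) :=
  Lgr Lrot78 (Lpe (f206106 IH) (Lpr_dt (f206112 IH) (Lpr_ft (K24.f206092 IH) (Lpn (LP (LK LD1_c14 LD2_c29 LD3_c49))))))
theorem f206117 : Led Lsl_gt (LP (LK LD1_c14 LD2_c50 LD3_c0)) = (LP (LK LD1_c8 LD2_c49 LD3_c39)) :=
  Lgr Lrot49 (Lpr_df (f206115 IH) (Lpr_gf (K8.f90974 IH) (Lpe (K8.f90963 IH) (Lpr_gt (K8.f162328 IH) (Lpr_dt (K8.f14740 IH) (Lpr_gt (K5.f14737 IH) (Lpr_dt (K0.f14711 IH) (Lpe (K0.f14715 IH) (Lpe (K0.f14716 IH) (Lpn (LP (LK LD1_c8 LD2_c49 LD3_c39))))))))))))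
theorem f205987 : Led Lsl_dt (LP (LK LD1_c7 LD2_c51 LD3_c56)) = (LP (LK LD1_c7 LD2_c26 LD3_c28)) :=
  Lgr Lrot6 (Lpr_gt (K11.f122989 IH) (Lpr_ct (K6.f122982 IH) (Lpr_gt (K7.f122985 IH) (Lpr_ct (K7.f156885 IH) (Lpr_df (K11.f162378 IH) (Lpe (K11.f156481 IH) (Lpe (K8.f156462 IH) (Lpr_cf (K11.f205977 IH) (Lpe (K8.f162565 IH) (Lpn (LP (LK LD1_c7 LD2_c26 LD3_c28))))))))))))
theorem f206119 : Led Lsl_gt (LP (LK LD1_c14 LD2_c19 LD3_c50)) = (LP (LK LD1_c14 LD2_c50 LD3_c0)) :=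
  Lgr Lrot150 (Lpe (K0.f14727 IH) (Lpe (f206117 IH) (Lpr_df (f206115 IH) (Lpr_gt (K8.f63425 IH) (Lpr_ct (K8.f63419 IH) (Lpe (K7.f156620 IH) (Lpr_ct (K8.f162568 IH) (Lpe (f205987 IH) (Lpe (f122990 IH) (Lpn (LP (LK LD1_c14 LD2_c50 LD3_c0))))))))))))
theorem f16088 : Led Lsl_ff (LP (LK LD1_c13 LD2_c7 LD3_c13)) = (LP (LK LD1_c14 LD2_c19 LD3_c50)) :=
  Lgr Lrot19 (Lpr_dt (K0.f16064 IH) (Lpr_ft (K0.f16082 IH) (Lpr_dt (K0.f14751 IH) (Lpn (LP (LK LD1_c14 LD2_c19 LD3_c50))))))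
theorem f40062 : Led Lsl_bt (LP (LK LD1_c7 LD2_c57 LD3_c13)) = (LP (LK LD1_c14 LD2_c19 LD3_c50)) :=
  Lgr Lrot35 (Lpr_ff (K1.f40058 IH) (Lpe (K0.f16129 IH) (Lpr_ff (f16088 IH) (Lpn (LP (LK LD1_c14 LD2_c19 LD3_c50))))))
theorem f207786 : Led Lsl_gt (LP (LK LD1_c4 LD2_c26 LD3_c35)) = (LP (LK LD1_c3 LD2_c57 LD3_c57)) :=
  Lgr Lrot65 (Lpe (K8.f156901 IH) (Lpr_bt (K8.f59688 IH) (Lpr_gf (f207784 IH) (Lpe (K7.f122988 IH) (Lpe (K6.f122964 IH) (Lpe (K11.f122989 IH) (Lpe (f122990 IH) (Lpe (f206119 IH) (Lpe (f40062 IH) (Lpr_ct (K1.f40064 IH) (Lpn (LP (LK LD1_c3 LD2_c57 LD3_c57)))))))))))))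
theorem f207796 : Led Lsl_gf (LP (LK LD1_c6 LD2_c42 LD3_c12)) = (LP (LK LD1_c12 LD2_c49 LD3_c27)) :=
  Lgr Lrot147 (Lpr_ct (K8.f156901 IH) (Lpr_gt (f207786 IH) (Lpr_ct (K2.f40073 IH) (Lpr_df (K4.f40346 IH) (Lpe (K4.f40352 IH) (Lpe (K6.f139498 IH) (Lpe (K6.f139779 IH) (Lpe (K8.f129255 IH) (Lpe (K8.f139792 IH) (Lpn (LP (LK LD1_c12 LD2_c49 LD3_c27))))))))))))
theorem f157744 : Led Lsl_ct (LP (LK LD1_c7 LD2_c59 LD3_c53)) = (LP (LK LD1_c12 LD2_c49 LD3_c27)) :=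
  Lgr Lrot7 (Lpe (K8.f101691 IH) (Lpe (K8.f101690 IH) (Lpe (K8.f112547 IH) (Lpe (K8.f149353 IH) (Lpe (K8.f117672 IH) (Lpr_gt (K8.f157702 IH) (Lpe (K8.f157697 IH) (Lpr_gt (K8.f157742 IH) (Lpr_dt (K8.f139790 IH) (Lpn (LP (LK LD1_c12 LD2_c49 LD3_c27))))))))))))
theorem f73475 : Led Lsl_ct (LP (LK LD1_c2 LD2_c49 LD3_c35)) = (LP (LK LD1_c1 LD2_c20 LD3_c56)) :=
  Lre_c IH (LK LD1_c2 LD2_c49 LD3_c35) (LK LD1_c1 LD2_c20 LD3_c56) Lrfl Lrfl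
theorem f73473 : Led Lsl_dt (LP (LK LD1_c5 LD2_c47 LD3_c18)) = (LP (LK LD1_c2 LD2_c49 LD3_c35)) :=
  Lre_d IH (LK LD1_c5 LD2_c47 LD3_c18) (LK LD1_c2 LD2_c49 LD3_c35) Lrfl Lrfl
theorem f157813 : Led Lsl_gt (LP (LK LD1_c7 LD2_c59 LD3_c53)) = (LP (LK LD1_c5 LD2_c47 LD3_c18)) :=
  Lgr Lrot49 (Lpe (K8.f101691 IH) (Lpe (K8.f101690 IH) (Lpe (K7.f37818 IH) (Lpr_gt (K7.f101688 IH) (Lpe (K7.f100445 IH) (Lpe (K8.f40679 IH) (Lpr_dt (K8.f157800 IH) (Lpe (f73475 IH) (Lpe (f73473 IH) (Lpn (LP (LK LD1_c5 LD2_c47 LD3_c18))))))))))))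
theorem f202362 : Led Lsl_bt (LP (LK LD1_c1 LD2_c5 LD3_c49)) = (LP (LK LD1_c0 LD2_c40 LD3_c59)) :=
  Lgr Lrot95 (Lpe (K8.f26859 IH) (Lpr_bf (K11.f202356 IH) (Lpr_df (K11.f202209 IH) (Lpn (LP (LK LD1_c0 LD2_c40 LD3_c59))))))
theorem f73472 : Led Lsl_ct (LP (LK LD1_c1 LD2_c20 LD3_c56)) = (LP (LK LD1_c2 LD2_c49 LD3_c35)) :=
  Lre_c IH (LK LD1_c1 LD2_c20 LD3_c56) (LK LD1_c2 LD2_c49 LD3_c35) Lrfl Lrfl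
theorem f205711 : Led Lsl_gt (LP (LK LD1_c4 LD2_c42 LD3_c51)) = (LP (LK LD1_c2 LD2_c49 LD3_c35)) :=
  Lgr Lrot65 (Lpe (K8.f59420 IH) (Lpr_bt (K8.f59400 IH) (Lpr_gf (K11.f202241 IH) (Lpe (f202362 IH) (Lpr_ct (K11.f36561 IH) (Lpr_gf (K11.f205705 IH) (Lpe (K4.f79087 IH) (Lpr_gf (K8.f160875 IH) (Lpe (K8.f157806 IH) (Lpr_ct (f73472 IH) (Lpn (LP (LK LD1_c2 LD2_c49 LD3_c35)))))))))))))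
theorem f205713 : Led Lsl_gf (LP (LK LD1_c4 LD2_c23 LD3_c56)) = (LP (LK LD1_c2 LD2_c49 LD3_c35)) :=
  Lgr Lrot76 (Lpe (K8.f118910 IH) (Lpe (K8.f138557 IH) (Lpr_gt (f205711 IH) (Lpn (LP (LK LD1_c2 LD2_c49 LD3_c35))))))
theorem f119654 : Led Lsl_df (LP (LK LD1_c5 LD2_c56 LD3_c9)) = (LP (LK LD1_c4 LD2_c23 LD3_c56)) :=
  Lgr Lrot12 (Lpr_bt (K24.f81784 IH) (Lpr_dt (K4.f119650 IH) (Lpr_bt (K8.f36538 IH) (Lpn (LP (LK LD1_c4 LD2_c23 LD3_c56))))))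
theorem f207800 : Led Lsl_dt (LP (LK LD1_c6 LD2_c42 LD3_c12)) = (LP (LK LD1_c3 LD2_c43 LD3_c23)) :=
  Lgr Lrot57 (Lpr_gf (f207796 IH) (Lpe (f157744 IH) (Lpr_gt (f157813 IH) (Lpr_dt (f73473 IH) (Lpe (f205713 IH) (Lpe (f119654 IH) (Lpe (K8.f99143 IH) (Lpr_df (K24.f128344 IH) (Lpe (K24.f128343 IH) (Lpn (LP (LK LD1_c3 LD2_c43 LD3_c23))))))))))))
theorem f68513 : Led Lsl_at (LP (LK LD1_c3 LD2_c14 LD3_c7)) = (LP (LK LD1_c6 LD2_c31 LD3_c54)) :=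
  Lre_a IH (LK LD1_c3 LD2_c14 LD3_c7) (LK LD1_c6 LD2_c31 LD3_c54) Lrfl Lrfl
theorem f207714 : Led Lsl_ff (LP (LK LD1_c3 LD2_c14 LD3_c7)) = (LP (LK LD1_c3 LD2_c43 LD3_c23)) :=
  Lgr Lrot30 (Lpr_at (f68513 IH) (Lpr_ft (K24.f207712 IH) (Lpr_at (K24.f207696 IH) (Lpn (LP (LK LD1_c3 LD2_c43 LD3_c23))))))
theorem f207805 : Led Lsl_ff (LP (LK LD1_c6 LD2_c42 LD3_c12)) = (LP (LK LD1_c6 LD2_c31 LD3_c55)) :=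
  Lgr Lrot19 (Lpr_dt (f207800 IH) (Lpe (f207714 IH) (Lpr_dt (K8.f68518 IH) (Lpn (LP (LK LD1_c6 LD2_c31 LD3_c55))))))
theorem f207809 : Led Lsl_ft (LP (LK LD1_c6 LD2_c42 LD3_c12)) = (LP (LK LD1_c6 LD2_c31 LD3_c55)) :=
  Lgr Lrot48 (Lpr_ff (f207805 IH) (Lpn (LP (LK LD1_c6 LD2_c31 LD3_c55))))
theorem f155545 : Led Lsl_bt (LP (LK LD1_c3 LD2_c19 LD3_c6)) = (LP (LK LD1_c6 LD2_c42 LD3_c12)) :=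
  Lre_b IH (LK LD1_c3 LD2_c19 LD3_c6) (LK LD1_c6 LD2_c42 LD3_c12) Lrfl Lrfl
theorem f207813 : Led Lsl_ff (LP (LK LD1_c3 LD2_c19 LD3_c6)) = (LP (LK LD1_c3 LD2_c14 LD3_c8)) :=
  Lgr Lrot25 (Lpr_bt (f155545 IH) (Lpr_ft (f207809 IH) (Lpr_bt (K7.f144379 IH) (Lpn (LP (LK LD1_c3 LD2_c14 LD3_c8))))))
theorem f207772 : Led Lsl_af (LP (LK LD1_c3 LD2_c14 LD3_c5)) = (LP (LK LD1_c3 LD2_c19 LD3_c6)) :=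
  Lgr Lrot0 (Lpr_at (K24.f207770 IH) (Lpn (LP (LK LD1_c3 LD2_c19 LD3_c6))))
theorem f122181 : Led Lsl_bt (LP (LK LD1_c3 LD2_c43 LD3_c48)) = (LP (LK LD1_c1 LD2_c48 LD3_c60)) :=
  Lre_b IH (LK LD1_c3 LD2_c43 LD3_c48) (LK LD1_c1 LD2_c48 LD3_c60) Lrfl Lrfl
theorem f122182 : Led Lsl_ff (LP (LK LD1_c1 LD2_c47 LD3_c28)) = (LP (LK LD1_c1 LD2_c48 LD3_c60)) :=
  Lgr Lrot25 (Lpr_bt (K6.f122180 IH) (Lpr_ft (K5.f122168 IH) (Lpr_bt (f122181 IH) (Lpn (LP (LK LD1_c1 LD2_c48 LD3_c60))))))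
theorem f147545 : Led Lsl_ff (LP (LK LD1_c3 LD2_c19 LD3_c5)) = (LP (LK LD1_c3 LD2_c14 LD3_c5)) :=
  Lgr Lrot23 (Lpr_ct (K7.f147530 IH) (Lpe (f122182 IH) (Lpr_ct (K6.f146842 IH) (Lpn (LP (LK LD1_c3 LD2_c14 LD3_c5))))))
theorem f207888 : Led Lsl_at (LP (LK LD1_c3 LD2_c19 LD3_c5)) = (LP (LK LD1_c3 LD2_c14 LD3_c8)) :=
  Lgr Lrot66 (Lpr_ff (f147545 IH) (Lpr_af (f207772 IH) (Lpr_ff (f207813 IH) (Lpn (LP (LK LD1_c3 LD2_c14 LD3_c8))))))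
theorem f147542 : Led Lsl_bt (LP (LK LD1_c6 LD2_c42 LD3_c11)) = (LP (LK LD1_c3 LD2_c19 LD3_c5)) :=
  Lre_b IH (LK LD1_c6 LD2_c42 LD3_c11) (LK LD1_c3 LD2_c19 LD3_c5) Lrfl Lrfl
theorem f150869 : Led Lsl_at (LP (LK LD1_c12 LD2_c49 LD3_c28)) = (LP (LK LD1_c6 LD2_c42 LD3_c11)) :=
  Lre_a IH (LK LD1_c12 LD2_c49 LD3_c28) (LK LD1_c6 LD2_c42 LD3_c11) Lrfl Lrfl
theorem f207798 : Led Lsl_af (LP (LK LD1_c6 LD2_c42 LD3_c12)) = (LP (LK LD1_c7 LD2_c57 LD3_c17)) :=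
  Lgr Lrot31 (Lpr_gf (f207796 IH) (Lpr_gf (K8.f157677 IH) (Lpe (K24.f207726 IH) (Lpn (LP (LK LD1_c7 LD2_c57 LD3_c17))))))
theorem f207811 : Led Lsl_af (LP (LK LD1_c8 LD2_c50 LD3_c45)) = (LP (LK LD1_c6 LD2_c31 LD3_c55)) :=
  Lgr Lrot45 (Lpe (K24.f207726 IH) (Lpe (f207798 IH) (Lpr_ft (f207809 IH) (Lpn (LP (LK LD1_c6 LD2_c31 LD3_c55))))))
theorem f207890 : Led Lsl_bf (LP (LK LD1_c12 LD2_c49 LD3_c28)) = (LP (LK LD1_c8 LD2_c50 LD3_c45)) :=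
  Lgr Lrot81 (Lpr_at (f150869 IH) (Lpr_bt (f147542 IH) (Lpr_at (f207888 IH) (Lpr_bt (K8.f144257 IH) (Lpe (f207811 IH) (Lpn (LP (LK LD1_c8 LD2_c50 LD3_c45))))))))
theorem f46611 : Led Lsl_bt (LP (LK LD1_c0 LD2_c56 LD3_c41)) = (LP (LK LD1_c1 LD2_c59 LD3_c33)) :=
  Lre_b IH (LK LD1_c0 LD2_c56 LD3_c41) (LK LD1_c1 LD2_c59 LD3_c33) Lrfl Lrfl
theorem f46612 : Led Lsl_at (LP (LK LD1_c1 LD2_c59 LD3_c33)) = (LP (LK LD1_c4 LD2_c4 LD3_c54)) :=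
  Lre_a IH (LK LD1_c1 LD2_c59 LD3_c33) (LK LD1_c4 LD2_c4 LD3_c54) Lrfl Lrfl
theorem f46615 : Led Lsl_bt (LP (LK LD1_c4 LD2_c4 LD3_c54)) = (LP (LK LD1_c4 LD2_c13 LD3_c30)) :=
  Lgr Lrot62 (Lpe (f46612 IH) (Lpe (f46611 IH) (Lpr_af (K1.f46604 IH) (Lpe (K1.f46613 IH) (Lpe (K2.f46614 IH) (Lpn (LP (LK LD1_c4 LD2_c13 LD3_c30))))))))
theorem f56184 : Led Lsl_et (LP (LK LD1_c0 LD2_c29 LD3_c57)) = (LP (LK LD1_c1 LD2_c5 LD3_c23)) :=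
  Lre_e IH (LK LD1_c0 LD2_c29 LD3_c57) (LK LD1_c1 LD2_c5 LD3_c23) Lrfl Lrfl
theorem f56185 : Led Lsl_cf (LP (LK LD1_c2 LD2_c4 LD3_c5)) = (LP (LK LD1_c1 LD2_c5 LD3_c23)) :=
  Lgr Lrot39 (Lpr_et (K2.f56162 IH) (Lpr_ct (K7.f26778 IH) (Lpr_et (f56184 IH) (Lpn (LP (LK LD1_c1 LD2_c5 LD3_c23))))))
theorem f56203 : Led Lsl_ft (LP (LK LD1_c2 LD2_c16 LD3_c57)) = (LP (LK LD1_c1 LD2_c5 LD3_c23)) :=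
  Lre_f IH (LK LD1_c2 LD2_c16 LD3_c57) (LK LD1_c1 LD2_c5 LD3_c23) Lrfl Lrfl
theorem f56204 : Led Lsl_ct (LP (LK LD1_c4 LD2_c13 LD3_c32)) = (LP (LK LD1_c2 LD2_c16 LD3_c57)) :=
  Lgr Lrot40 (Lpe (K1.f56202 IH) (Lpr_cf (f56185 IH) (Lpe (f56203 IH) (Lpn (LP (LK LD1_c2 LD2_c16 LD3_c57))))))
theorem f56222 : Led Lsl_cf (LP (LK LD1_c4 LD2_c13 LD3_c32)) = (LP (LK LD1_c2 LD2_c16 LD3_c57)) :=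
  Lgr Lrot11 (Lpr_ct (f56204 IH) (Lpn (LP (LK LD1_c2 LD2_c16 LD3_c57))))
theorem f46630 : Led Lsl_at (LP (LK LD1_c4 LD2_c13 LD3_c32)) = (LP (LK LD1_c8 LD2_c25 LD3_c52)) :=
  Lre_a IH (LK LD1_c4 LD2_c13 LD3_c32) (LK LD1_c8 LD2_c25 LD3_c52) Lrfl Lrfl
theorem f56225 : Led Lsl_at (LP (LK LD1_c4 LD2_c39 LD3_c41)) = (LP (LK LD1_c2 LD2_c16 LD3_c57)) :=
  Lre_a IH (LK LD1_c4 LD2_c39 LD3_c41) (LK LD1_c2 LD2_c16 LD3_c57) Lrfl Lrfl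
theorem f56228 : Led Lsl_ct (LP (LK LD1_c8 LD2_c25 LD3_c52)) = (LP (LK LD1_c4 LD2_c39 LD3_c41)) :=
  Lgr Lrot111 (Lpe (f46630 IH) (Lpr_cf (f56222 IH) (Lpe (f56225 IH) (Lpn (LP (LK LD1_c4 LD2_c39 LD3_c41))))))
theorem f56234 : Led Lsl_ft (LP (LK LD1_c4 LD2_c13 LD3_c30)) = (LP (LK LD1_c8 LD2_c25 LD3_c52)) :=
  Lre_f IH (LK LD1_c4 LD2_c13 LD3_c30) (LK LD1_c8 LD2_c25 LD3_c52) Lrfl Lrfl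
theorem f56237 : Led Lsl_ft (LP (LK LD1_c4 LD2_c39 LD3_c41)) = (LP (LK LD1_c2 LD2_c16 LD3_c55)) :=
  Lre_f IH (LK LD1_c4 LD2_c39 LD3_c41) (LK LD1_c2 LD2_c16 LD3_c55) Lrfl Lrfl
theorem f56238 : Led Lsl_cf (LP (LK LD1_c4 LD2_c13 LD3_c30)) = (LP (LK LD1_c2 LD2_c16 LD3_c55)) :=
  Lgr Lrot108 (Lpr_ft (f56234 IH) (Lpr_ct (f56228 IH) (Lpr_ft (f56237 IH) (Lpn (LP (LK LD1_c2 LD2_c16 LD3_c55))))))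
theorem f56258 : Led Lsl_et (LP (LK LD1_c1 LD2_c5 LD3_c27)) = (LP (LK LD1_c2 LD2_c16 LD3_c55)) :=
  Lre_e IH (LK LD1_c1 LD2_c5 LD3_c27) (LK LD1_c2 LD2_c16 LD3_c55) Lrfl Lrfl
theorem f56260 : Led Lsl_et (LP (LK LD1_c4 LD2_c13 LD3_c30)) = (LP (LK LD1_c2 LD2_c16 LD3_c49)) :=
  Lgr Lrot158 (Lpr_cf (f56238 IH) (Lpe (f56258 IH) (Lpe (K2.f56259 IH) (Lpn (LP (LK LD1_c2 LD2_c16 LD3_c49))))))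
theorem f73385 : Led Lsl_bt (LP (LK LD1_c2 LD2_c16 LD3_c49)) = (LP (LK LD1_c2 LD2_c49 LD3_c37)) :=
  Lgr Lrot119 (Lpe (f56260 IH) (Lpe (f46615 IH) (Lpr_ef (K2.f73381 IH) (Lpn (LP (LK LD1_c2 LD2_c49 LD3_c37))))))
theorem f139528 : Led Lsl_bf (LP (LK LD1_c6 LD2_c25 LD3_c50)) = (LP (LK LD1_c6 LD2_c56 LD3_c38)) :=
  Lgr Lrot61 (Lpr_ft (K6.f139501 IH) (Lpr_bt (K0.f14393 IH) (Lpr_ft (K11.f15545 IH) (Lpn (LP (LK LD1_c6 LD2_c56 LD3_c38))))))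
theorem f207898 : Led Lsl_gt (LP (LK LD1_c12 LD2_c49 LD3_c28)) = (LP (LK LD1_c9 LD2_c22 LD3_c39)) :=
  Lgr Lrot190 (Lpr_bf (f207890 IH) (Lpe (K8.f101684 IH) (Lpe (K8.f149207 IH) (Lpr_gf (K4.f73419 IH) (Lpe (f73385 IH) (Lpe (K5.f56296 IH) (Lpr_df (K5.f99624 IH) (Lpe (K4.f99613 IH) (Lpe (K4.f99612 IH) (Lpe (K4.f99595 IH) (Lpr_df (K8.f139516 IH) (Lpe (K6.f139500 IH) (Lpr_bf (f139528 IH) (Lpe (K11.f15567 IH) (Lpe (K11.f15587 IH) (Lpe (K11.f15591 IH) (Lpe (K7.f15593 IH) (Lpr_cf (K7.f130916 IH) (Lpe (K24.f150753 IH) (Lpn (LP (LK LD1_c9 LD2_c22 LD3_c39))))))))))))))))))))))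
theorem f207896 : Led Lsl_ft (LP (LK LD1_c12 LD2_c49 LD3_c28)) = (LP (LK LD1_c12 LD2_c31 LD3_c30)) :=
  Lgr Lrot75 (Lpr_bf (f207890 IH) (Lpe (K24.f207730 IH) (Lpe (K24.f207677 IH) (Lpn (LP (LK LD1_c12 LD2_c31 LD3_c30))))))
theorem f207676 : Led Lsl_at (LP (LK LD1_c12 LD2_c31 LD3_c30)) = (LP (LK LD1_c6 LD2_c31 LD3_c48)) :=
  Lre_a IH (LK LD1_c12 LD2_c31 LD3_c30) (LK LD1_c6 LD2_c31 LD3_c48) Lrfl Lrfl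
theorem f207900 : Led Lsl_gf (LP (LK LD1_c6 LD2_c31 LD3_c48)) = (LP (LK LD1_c9 LD2_c22 LD3_c39)) :=
  Lgr Lrot76 (Lpe (f207676 IH) (Lpe (f207896 IH) (Lpr_gt (f207898 IH) (Lpn (LP (LK LD1_c9 LD2_c22 LD3_c39))))))
theorem f146860 : Led Lsl_gt (LP (LK LD1_c6 LD2_c31 LD3_c48)) = (LP (LK LD1_c12 LD2_c31 LD3_c32)) :=
  Lre_g IH (LK LD1_c6 LD2_c31 LD3_c48) (LK LD1_c12 LD2_c31 LD3_c32) Lrfl Lrfl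
theorem f207902 : Led Lsl_af (LP (LK LD1_c12 LD2_c31 LD3_c32)) = (LP (LK LD1_c12 LD2_c49 LD3_c12)) :=
  Lgr Lrot31 (Lpe (f146860 IH) (Lpr_gf (f207900 IH) (Lpe (K7.f150713 IH) (Lpn (LP (LK LD1_c12 LD2_c49 LD3_c12))))))
theorem f207943 : Led Lsl_ft (LP (LK LD1_c12 LD2_c31 LD3_c32)) = (LP (LK LD1_c12 LD2_c49 LD3_c9)) :=
  Lgr Lrot101 (Lpr_af (f207902 IH) (Lpr_ff (K7.f150713 IH) (Lpe (K24.f150769 IH) (Lpn (LP (LK LD1_c12 LD2_c49 LD3_c9))))))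
theorem f104538 : Led Lsl_ff (LP (LK LD1_c11 LD2_c33 LD3_c1)) = (LP (LK LD1_c9 LD2_c22 LD3_c36)) :=
  Lgr Lrot3 (Lpr_ft (K24.f104529 IH) (Lpn (LP (LK LD1_c9 LD2_c22 LD3_c36))))
theorem f207945 : Led Lsl_cf (LP (LK LD1_c12 LD2_c31 LD3_c32)) = (LP (LK LD1_c11 LD2_c33 LD3_c1)) :=
  Lgr Lrot108 (Lpr_ft (f207943 IH) (Lpr_ct (K24.f150804 IH) (Lpe (f104538 IH) (Lpn (LP (LK LD1_c11 LD2_c33 LD3_c1))))))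
theorem f207952 : Led Lsl_gt (LP (LK LD1_c12 LD2_c31 LD3_c32)) = (LP (LK LD1_c12 LD2_c49 LD3_c28)) :=
  Lgr Lrot5 (Lpr_ft (f207943 IH) (Lpr_at (K24.f150769 IH) (Lpe (f207898 IH) (Lpn (LP (LK LD1_c12 LD2_c49 LD3_c28))))))
theorem f207894 : Led Lsl_dt (LP (LK LD1_c12 LD2_c49 LD3_c28)) = (LP (LK LD1_c7 LD2_c27 LD3_c20)) :=
  Lgr Lrot79 (Lpr_bf (f207890 IH) (Lpe (K24.f207720 IH) (Lpr_bf (K24.f207709 IH) (Lpn (LP (LK LD1_c7 LD2_c27 LD3_c20))))))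
theorem f419203 : Led Lsl_gt (LP (LK LD1_c7 LD2_c27 LD3_c20)) = (LP (LK LD1_c6 LD2_c31 LD3_c46)) :=
  Lgr Lrot49 (Lpe (f207894 IH) (Lpe (f207952 IH) (Lpr_cf (f207945 IH) (Lpr_gt (f104540 IH) (Lpe (f150438 IH) (Lpr_gt (K8.f78692 IH) (Lpr_dt (f78691 IH) (Lpe (f78570 IH) (Lpr_df (f419195 IH) (Lpn (LP (LK LD1_c6 LD2_c31 LD3_c46))))))))))))
theorem f148618 : Led Lsl_gf (LP (LK LD1_c7 LD2_c27 LD3_c20)) = (LP (LK LD1_c6 LD2_c31 LD3_c45)) :=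
  Lgr Lrot76 (Lpe (K24.f148611 IH) (Lpr_ff (K7.f148601 IH) (Lpr_gt (K8.f148543 IH) (Lpn (LP (LK LD1_c6 LD2_c31 LD3_c45))))))
theorem f128421 : Led Lsl_at (LP (LK LD1_c6 LD2_c34 LD3_c18)) = (LP (LK LD1_c3 LD2_c15 LD3_c30)) :=
  Lre_a IH (LK LD1_c6 LD2_c34 LD3_c18) (LK LD1_c3 LD2_c15 LD3_c30) Lrfl Lrfl
theorem f207657 : Led Lsl_ff (LP (LK LD1_c3 LD2_c45 LD3_c18)) = (LP (LK LD1_c3 LD2_c15 LD3_c30)) :=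
  Lgr Lrot30 (Lpr_at (K24.f148583 IH) (Lpr_ft (K24.f207653 IH) (Lpr_at (f128421 IH) (Lpn (LP (LK LD1_c3 LD2_c15 LD3_c30))))))
theorem f57105 : Led Lsl_bt (LP (LK LD1_c2 LD2_c15 LD3_c58)) = (LP (LK LD1_c4 LD2_c37 LD3_c30)) :=
  Lre_b IH (LK LD1_c2 LD2_c15 LD3_c58) (LK LD1_c4 LD2_c37 LD3_c30) Lrfl Lrfl
theorem f108697 : Led Lsl_gt (LP (LK LD1_c3 LD2_c15 LD3_c30)) = (LP (LK LD1_c4 LD2_c37 LD3_c30)) :=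
  Lgr Lrot164 (Lpe (K7.f108696 IH) (Lpr_ct (K3.f108690 IH) (Lpr_gf (K3.f95733 IH) (Lpe (K3.f95983 IH) (Lpe (K4.f63842 IH) (Lpe (K4.f65056 IH) (Lpr_ct (K4.f27157 IH) (Lpr_gf (K4.f99651 IH) (Lpe (K4.f99657 IH) (Lpr_bt (f57105 IH) (Lpn (LP (LK LD1_c4 LD2_c37 LD3_c30)))))))))))))
theorem f209195 : Led Lsl_gf (LP (LK LD1_c7 LD2_c31 LD3_c22)) = (LP (LK LD1_c4 LD2_c37 LD3_c30)) :=
  Lgr Lrot76 (Lpe (K24.f148583 IH) (Lpr_ff (f207657 IH) (Lpr_gt (f108697 IH) (Lpn (LP (LK LD1_c4 LD2_c37 LD3_c30))))))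
theorem f209197 : Led Lsl_gt (LP (LK LD1_c6 LD2_c31 LD3_c47)) = (LP (LK LD1_c7 LD2_c27 LD3_c19)) :=
  Lgr Lrot149 (Lpe (K24.f148584 IH) (Lpr_gf (f209195 IH) (Lpe (f57105 IH) (Lpr_ct (K4.f99657 IH) (Lpe (K4.f99631 IH) (Lpe (K6.f99639 IH) (Lpr_bt (K6.f99621 IH) (Lpr_gf (K7.f100179 IH) (Lpe (f65648 IH) (Lpe (f158842 IH) (Lpn (LP (LK LD1_c7 LD2_c27 LD3_c19)))))))))))))
theorem f148082 : Led Lsl_gt (LP (LK LD1_c3 LD2_c43 LD3_c21)) = (LP (LK LD1_c7 LD2_c27 LD3_c18)) :=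
  Lre_g IH (LK LD1_c3 LD2_c43 LD3_c21) (LK LD1_c7 LD2_c27 LD3_c18) Lrfl Lrfl
theorem f148603 : Led Lsl_gt (LP (LK LD1_c7 LD2_c27 LD3_c18)) = (LP (LK LD1_c6 LD2_c31 LD3_c47)) :=
  Lgr Lrot46 (Lpe (f148082 IH) (Lpr_ft (K7.f148589 IH) (Lpr_at (K24.f148532 IH) (Lpn (LP (LK LD1_c6 LD2_c31 LD3_c47))))))
theorem f419180 : Led Lsl_ff (LP (LK LD1_c6 LD2_c31 LD3_c45)) = (LP (LK LD1_c7 LD2_c27 LD3_c18)) :=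
  Lgr Lrot52 (Lpr_at (f419176 IH) (Lpe (f209197 IH) (Lpe (f148603 IH) (Lpn (LP (LK LD1_c7 LD2_c27 LD3_c18))))))
theorem f419184 : Led Lsl_ft (LP (LK LD1_c6 LD2_c31 LD3_c45)) = (LP (LK LD1_c7 LD2_c27 LD3_c18)) :=
  Lgr Lrot48 (Lpr_ff (f419180 IH) (Lpn (LP (LK LD1_c7 LD2_c27 LD3_c18))))
theorem f419206 : Led Lsl_at (LP (LK LD1_c7 LD2_c27 LD3_c18)) = (LP (LK LD1_c6 LD2_c31 LD3_c46)) :=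
  Lgr Lrot26 (Lpe (f419184 IH) (Lpe (f148618 IH) (Lpr_gt (f419203 IH) (Lpn (LP (LK LD1_c6 LD2_c31 LD3_c46))))))
theorem f148607 : Led Lsl_et (LP (LK LD1_c14 LD2_c4 LD3_c53)) = (LP (LK LD1_c7 LD2_c27 LD3_c18)) :=
  Lre_e IH (LK LD1_c14 LD2_c4 LD3_c53) (LK LD1_c7 LD2_c27 LD3_c18) Lrfl Lrfl
theorem f419205 : Led Lsl_et (LP (LK LD1_c6 LD2_c31 LD3_c46)) = (LP (LK LD1_c12 LD2_c31 LD3_c29)) :=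
  Lre_e IH (LK LD1_c6 LD2_c31 LD3_c46) (LK LD1_c12 LD2_c31 LD3_c29) Lrfl Lrfl
theorem f419212 : Led Lsl_af (LP (LK LD1_c14 LD2_c4 LD3_c53)) = (LP (LK LD1_c12 LD2_c31 LD3_c29)) :=
  Lgr Lrot50 (Lpr_et (f148607 IH) (Lpr_at (f419206 IH) (Lpr_et (f419205 IH) (Lpn (LP (LK LD1_c12 LD2_c31 LD3_c29))))))
theorem f419216 : Led Lsl_ct (LP (LK LD1_c14 LD2_c4 LD3_c53)) = (LP (LK LD1_c23 LD2_c38 LD3_c7)) :=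
  Lre_c IH (LK LD1_c14 LD2_c4 LD3_c53) (LK LD1_c23 LD2_c38 LD3_c7) Lrfl Lrfl
theorem f148562 : Led Lsl_ct (LP (LK LD1_c21 LD2_c37 LD3_c35)) = (LP (LK LD1_c12 LD2_c31 LD3_c29)) :=
  Lre_c IH (LK LD1_c21 LD2_c37 LD3_c35) (LK LD1_c12 LD2_c31 LD3_c29) Lrfl Lrfl
theorem f419217 : Led Lsl_at (LP (LK LD1_c23 LD2_c38 LD3_c7)) = (LP (LK LD1_c21 LD2_c37 LD3_c35)) :=
  Lgr Lrot107 (Lpe (f419216 IH) (Lpr_af (f419212 IH) (Lpe (f148562 IH) (Lpn (LP (LK LD1_c21 LD2_c37 LD3_c35))))))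
theorem f419220 : Led Lsl_af (LP (LK LD1_c23 LD2_c38 LD3_c7)) = (LP (LK LD1_c21 LD2_c37 LD3_c35)) :=
  Lgr Lrot0 (Lpr_at (f419217 IH) (Lpn (LP (LK LD1_c21 LD2_c37 LD3_c35))))
theorem f419189 : Led Lsl_et (LP (LK LD1_c23 LD2_c38 LD3_c7)) = (LP (LK LD1_c14 LD2_c4 LD3_c52)) :=
  Lre_e IH (LK LD1_c23 LD2_c38 LD3_c7) (LK LD1_c14 LD2_c4 LD3_c52) Lrfl Lrfl
theorem f148567 : Led Lsl_et (LP (LK LD1_c12 LD2_c31 LD3_c28)) = (LP (LK LD1_c21 LD2_c37 LD3_c35)) :=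
  Lre_e IH (LK LD1_c12 LD2_c31 LD3_c28) (LK LD1_c21 LD2_c37 LD3_c35) Lrfl Lrfl
theorem f419222 : Led Lsl_at (LP (LK LD1_c14 LD2_c4 LD3_c52)) = (LP (LK LD1_c12 LD2_c31 LD3_c28)) :=
  Lgr Lrot80 (Lpe (f419189 IH) (Lpr_af (f419220 IH) (Lpe (f148567 IH) (Lpn (LP (LK LD1_c12 LD2_c31 LD3_c28))))))
theorem f148606 : Led Lsl_ct (LP (LK LD1_c14 LD2_c4 LD3_c52)) = (LP (LK LD1_c7 LD2_c27 LD3_c18)) :=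
  Lre_c IH (LK LD1_c14 LD2_c4 LD3_c52) (LK LD1_c7 LD2_c27 LD3_c18) Lrfl Lrfl
theorem f419182 : Led Lsl_ft (LP (LK LD1_c12 LD2_c31 LD3_c25)) = (LP (LK LD1_c14 LD2_c4 LD3_c52)) :=
  Lgr Lrot4 (Lpe (K8.f148546 IH) (Lpr_ff (f419180 IH) (Lpe (f148606 IH) (Lpn (LP (LK LD1_c14 LD2_c4 LD3_c52))))))
theorem f419224 : Led Lsl_ff (LP (LK LD1_c12 LD2_c1 LD3_c8)) = (LP (LK LD1_c12 LD2_c31 LD3_c28)) :=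
  Lgr Lrot30 (Lpe (f419170 IH) (Lpr_ft (f419182 IH) (Lpr_at (f419222 IH) (Lpn (LP (LK LD1_c12 LD2_c31 LD3_c28))))))
theorem f419230 : Led Lsl_ft (LP (LK LD1_c12 LD2_c1 LD3_c8)) = (LP (LK LD1_c12 LD2_c31 LD3_c28)) :=
  Lgr Lrot48 (Lpr_ff (f419224 IH) (Lpn (LP (LK LD1_c12 LD2_c31 LD3_c28))))
theorem f203442 : Led Lsl_bt (LP (LK LD1_c6 LD2_c35 LD3_c52)) = (LP (LK LD1_c12 LD2_c37 LD3_c47)) :=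
  Lre_b IH (LK LD1_c6 LD2_c35 LD3_c52) (LK LD1_c12 LD2_c37 LD3_c47) Lrfl Lrfl
theorem f203468 : Led Lsl_ff (LP (LK LD1_c7 LD2_c44 LD3_c21)) = (LP (LK LD1_c12 LD2_c37 LD3_c47)) :=
  Lgr Lrot25 (Lpr_bt (f15581 IH) (Lpr_ft (f203464 IH) (Lpr_bt (f203442 IH) (Lpn (LP (LK LD1_c12 LD2_c37 LD3_c47))))))
theorem f419236 : Led Lsl_df (LP (LK LD1_c12 LD2_c37 LD3_c47)) = (LP (LK LD1_c12 LD2_c31 LD3_c28)) :=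
  Lgr Lrot78 (Lpe (f203468 IH) (Lpr_dt (f419165 IH) (Lpr_ft (f419230 IH) (Lpn (LP (LK LD1_c12 LD2_c31 LD3_c28))))))
theorem f15561 : Led Lsl_bt (LP (LK LD1_c12 LD2_c37 LD3_c47)) = (LP (LK LD1_c6 LD2_c35 LD3_c52)) :=
  Lre_b IH (LK LD1_c12 LD2_c37 LD3_c47) (LK LD1_c6 LD2_c35 LD3_c52) Lrfl Lrfl
theorem f58416 : Led Lsl_bt (LP (LK LD1_c3 LD2_c1 LD3_c22)) = (LP (LK LD1_c6 LD2_c9 LD3_c48)) :=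
  Lre_b IH (LK LD1_c3 LD2_c1 LD3_c22) (LK LD1_c6 LD2_c9 LD3_c48) Lrfl Lrfl
theorem f58408 : Led Lsl_gt (LP (LK LD1_c6 LD2_c9 LD3_c48)) = (LP (LK LD1_c12 LD2_c0 LD3_c36)) :=
  Lre_g IH (LK LD1_c6 LD2_c9 LD3_c48) (LK LD1_c12 LD2_c0 LD3_c36) Lrfl Lrfl
theorem f148548 : Led Lsl_ct (LP (LK LD1_c12 LD2_c31 LD3_c28)) = (LP (LK LD1_c6 LD2_c31 LD3_c46)) :=
  Lre_c IH (LK LD1_c12 LD2_c31 LD3_c28) (LK LD1_c6 LD2_c31 LD3_c46) Lrfl Lrfl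
theorem f148549 : Led Lsl_bf (LP (LK LD1_c12 LD2_c0 LD3_c36)) = (LP (LK LD1_c12 LD2_c31 LD3_c28)) :=
  Lgr Lrot34 (Lpe (f58408 IH) (Lpe (f58416 IH) (Lpr_ct (K3.f58390 IH) (Lpe (K3.f18897 IH) (Lpe (K3.f64912 IH) (Lpr_gf (K3.f96062 IH) (Lpe (K7.f96091 IH) (Lpr_ct (K7.f148445 IH) (Lpe (f148547 IH) (Lpe (f148548 IH) (Lpn (LP (LK LD1_c12 LD2_c31 LD3_c28)))))))))))))
theorem f148552 : Led Lsl_bt (LP (LK LD1_c12 LD2_c0 LD3_c36)) = (LP (LK LD1_c12 LD2_c31 LD3_c28)) :=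
  Lgr Lrot127 (Lpr_bf (f148549 IH) (Lpn (LP (LK LD1_c12 LD2_c31 LD3_c28))))
theorem f419238 : Led Lsl_dt (LP (LK LD1_c6 LD2_c35 LD3_c52)) = (LP (LK LD1_c12 LD2_c0 LD3_c36)) :=
  Lgr Lrot79 (Lpe (f15561 IH) (Lpr_df (f419236 IH) (Lpe (f148552 IH) (Lpn (LP (LK LD1_c12 LD2_c0 LD3_c36))))))
theorem f419242 : Led Lsl_df (LP (LK LD1_c6 LD2_c35 LD3_c52)) = (LP (LK LD1_c12 LD2_c0 LD3_c36)) :=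
  Lgr Lrot38 (Lpr_dt (f419238 IH) (Lpn (LP (LK LD1_c12 LD2_c0 LD3_c36))))
theorem f14095 : Led Lsl_gt (LP (LK LD1_c6 LD2_c35 LD3_c52)) = (LP (LK LD1_c3 LD2_c51 LD3_c29)) :=
  Lre_g IH (LK LD1_c6 LD2_c35 LD3_c52) (LK LD1_c3 LD2_c51 LD3_c29) Lrfl Lrfl
theorem f14106 : Led Lsl_et (LP (LK LD1_c17 LD2_c23 LD3_c44)) = (LP (LK LD1_c9 LD2_c26 LD3_c7)) :=
  Lre_e IH (LK LD1_c17 LD2_c23 LD3_c44) (LK LD1_c9 LD2_c26 LD3_c7) Lrfl Lrfl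
theorem f14107 : Led Lsl_et (LP (LK LD1_c11 LD2_c43 LD3_c15)) = (LP (LK LD1_c20 LD2_c44 LD3_c7)) :=
  Lre_e IH (LK LD1_c11 LD2_c43 LD3_c15) (LK LD1_c20 LD2_c44 LD3_c7) Lrfl Lrfl
theorem f14108 : Led Lsl_af (LP (LK LD1_c17 LD2_c23 LD3_c44)) = (LP (LK LD1_c20 LD2_c44 LD3_c7)) :=
  Lgr Lrot50 (Lpr_et (f14106 IH) (Lpr_at (K7.f14088 IH) (Lpr_et (f14107 IH) (Lpn (LP (LK LD1_c20 LD2_c44 LD3_c7))))))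
theorem f14152 : Led Lsl_ct (LP (LK LD1_c17 LD2_c23 LD3_c44)) = (LP (LK LD1_c9 LD2_c26 LD3_c36)) :=
  Lre_c IH (LK LD1_c17 LD2_c23 LD3_c44) (LK LD1_c9 LD2_c26 LD3_c36) Lrfl Lrfl
theorem f14153 : Led Lsl_ct (LP (LK LD1_c11 LD2_c43 LD3_c16)) = (LP (LK LD1_c20 LD2_c44 LD3_c7)) :=
  Lre_c IH (LK LD1_c11 LD2_c43 LD3_c16) (LK LD1_c20 LD2_c44 LD3_c7) Lrfl Lrfl
theorem f14154 : Led Lsl_at (LP (LK LD1_c9 LD2_c26 LD3_c36)) = (LP (LK LD1_c11 LD2_c43 LD3_c16)) :=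
  Lgr Lrot107 (Lpe (f14152 IH) (Lpr_af (f14108 IH) (Lpe (f14153 IH) (Lpn (LP (LK LD1_c11 LD2_c43 LD3_c16))))))
theorem f14161 : Led Lsl_af (LP (LK LD1_c9 LD2_c26 LD3_c36)) = (LP (LK LD1_c11 LD2_c43 LD3_c16)) :=
  Lgr Lrot0 (Lpr_at (f14154 IH) (Lpn (LP (LK LD1_c11 LD2_c43 LD3_c16))))
theorem f14328 : Led Lsl_et (LP (LK LD1_c5 LD2_c59 LD3_c21)) = (LP (LK LD1_c11 LD2_c43 LD3_c16)) :=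
  Lre_e IH (LK LD1_c5 LD2_c59 LD3_c21) (LK LD1_c11 LD2_c43 LD3_c16) Lrfl Lrfl
theorem f14329 : Led Lsl_at (LP (LK LD1_c4 LD2_c46 LD3_c54)) = (LP (LK LD1_c5 LD2_c59 LD3_c21)) :=
  Lgr Lrot80 (Lpe (K0.f13992 IH) (Lpr_af (f14161 IH) (Lpe (f14328 IH) (Lpn (LP (LK LD1_c5 LD2_c59 LD3_c21))))))
theorem f13750 : Led Lsl_bt (LP (LK LD1_c2 LD2_c20 LD3_c47)) = (LP (LK LD1_c4 LD2_c45 LD3_c19)) :=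
  Lre_b IH (LK LD1_c2 LD2_c20 LD3_c47) (LK LD1_c4 LD2_c45 LD3_c19) Lrfl Lrfl
theorem f13756 : Led Lsl_ft (LP (LK LD1_c4 LD2_c45 LD3_c19)) = (LP (LK LD1_c4 LD2_c46 LD3_c54)) :=
  Lgr Lrot75 (Lpe (f13750 IH) (Lpr_ff (K0.f13738 IH) (Lpe (K6.f13755 IH) (Lpn (LP (LK LD1_c4 LD2_c46 LD3_c54))))))
theorem f13751 : Led Lsl_gt (LP (LK LD1_c4 LD2_c45 LD3_c19)) = (LP (LK LD1_c9 LD2_c23 LD3_c21)) :=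
  Lre_g IH (LK LD1_c4 LD2_c45 LD3_c19) (LK LD1_c9 LD2_c23 LD3_c21) Lrfl Lrfl
theorem f14344 : Led Lsl_gt (LP (LK LD1_c9 LD2_c23 LD3_c21)) = (LP (LK LD1_c5 LD2_c59 LD3_c21)) :=
  Lgr Lrot46 (Lpe (f13751 IH) (Lpr_ft (f13756 IH) (Lpr_at (f14329 IH) (Lpn (LP (LK LD1_c5 LD2_c59 LD3_c21))))))
theorem f58391 : Led Lsl_bt (LP (LK LD1_c6 LD2_c9 LD3_c48)) = (LP (LK LD1_c3 LD2_c1 LD3_c22)) :=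
  Lre_b IH (LK LD1_c6 LD2_c9 LD3_c48) (LK LD1_c3 LD2_c1 LD3_c22) Lrfl Lrfl
theorem f58272 : Led Lsl_bt (LP (LK LD1_c3 LD2_c5 LD3_c53)) = (LP (LK LD1_c6 LD2_c17 LD3_c20)) :=
  Lre_b IH (LK LD1_c3 LD2_c5 LD3_c53) (LK LD1_c6 LD2_c17 LD3_c20) Lrfl Lrfl
theorem f58392 : Led Lsl_cf (LP (LK LD1_c6 LD2_c9 LD3_c48)) = (LP (LK LD1_c6 LD2_c17 LD3_c20)) :=
  Lgr Lrot97 (Lpr_bt (f58391 IH) (Lpr_ct (K3.f58390 IH) (Lpr_bt (K3.f58381 IH) (Lpr_ct (K1.f58214 IH) (Lpr_bt (f58272 IH) (Lpn (LP (LK LD1_c6 LD2_c17 LD3_c20))))))))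
theorem f58409 : Led Lsl_gt (LP (LK LD1_c6 LD2_c17 LD3_c20)) = (LP (LK LD1_c12 LD2_c11 LD3_c9)) :=
  Lre_g IH (LK LD1_c6 LD2_c17 LD3_c20) (LK LD1_c12 LD2_c11 LD3_c9) Lrfl Lrfl
theorem f419355 : Led Lsl_df (LP (LK LD1_c9 LD2_c23 LD3_c21)) = (LP (LK LD1_c12 LD2_c11 LD3_c9)) :=
  Lgr Lrot153 (Lpr_gt (f14344 IH) (Lpr_dt (K4.f14117 IH) (Lpe (K7.f14058 IH) (Lpe (K7.f14057 IH) (Lpe (f14095 IH) (Lpr_df (f419242 IH) (Lpe (f58408 IH) (Lpr_cf (f58392 IH) (Lpr_gt (f58409 IH) (Lpn (LP (LK LD1_c12 LD2_c11 LD3_c9))))))))))))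
theorem f419360 : Led Lsl_dt (LP (LK LD1_c9 LD2_c23 LD3_c21)) = (LP (LK LD1_c12 LD2_c11 LD3_c9)) :=
  Lgr Lrot42 (Lpr_df (f419355 IH) (Lpn (LP (LK LD1_c12 LD2_c11 LD3_c9))))
theorem f74945 : Led Lsl_gt (LP (LK LD1_c12 LD2_c0 LD3_c36)) = (LP (LK LD1_c6 LD2_c10 LD3_c10)) :=
  Lre_g IH (LK LD1_c12 LD2_c0 LD3_c36) (LK LD1_c6 LD2_c10 LD3_c10) Lrfl Lrfl
theorem f149376 : Led Lsl_gt (LP (LK LD1_c9 LD2_c22 LD3_c12)) = (LP (LK LD1_c17 LD2_c18 LD3_c29)) :=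
  Lre_g IH (LK LD1_c9 LD2_c22 LD3_c12) (LK LD1_c17 LD2_c18 LD3_c29) Lrfl Lrfl
theorem f163446 : Led Lsl_cf (LP (LK LD1_c12 LD2_c0 LD3_c36)) = (LP (LK LD1_c17 LD2_c18 LD3_c29)) :=
  Lgr Lrot125 (Lpr_gt (f74945 IH) (Lpe (K4.f66890 IH) (Lpr_bt (K6.f74936 IH) (Lpr_gt (K8.f74942 IH) (Lpe (f74946 IH) (Lpr_ct (K11.f163435 IH) (Lpe (K6.f59888 IH) (Lpe (K8.f149362 IH) (Lpr_bt (K7.f149361 IH) (Lpr_gt (f149376 IH) (Lpn (LP (LK LD1_c17 LD2_c18 LD3_c29)))))))))))))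
theorem f419244 : Led Lsl_dt (LP (LK LD1_c20 LD2_c47 LD3_c23)) = (LP (LK LD1_c17 LD2_c18 LD3_c29)) :=
  Lgr Lrot105 (Lpr_gf (K11.f202185 IH) (Lpr_df (K11.f203381 IH) (Lpe (K8.f160791 IH) (Lpe (K7.f101905 IH) (Lpr_gt (K6.f15550 IH) (Lpr_dt (K4.f14347 IH) (Lpr_gt (f15205 IH) (Lpr_dt (f419238 IH) (Lpr_cf (f163446 IH) (Lpn (LP (LK LD1_c17 LD2_c18 LD3_c29))))))))))))
theorem f14068 : Led Lsl_ct (LP (LK LD1_c11 LD2_c45 LD3_c56)) = (LP (LK LD1_c20 LD2_c47 LD3_c23)) :=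
  Lre_c IH (LK LD1_c11 LD2_c45 LD3_c56) (LK LD1_c20 LD2_c47 LD3_c23) Lrfl Lrfl
theorem f163448 : Led Lsl_ct (LP (LK LD1_c12 LD2_c0 LD3_c36)) = (LP (LK LD1_c17 LD2_c18 LD3_c29)) :=
  Lgr Lrot59 (Lpr_cf (f163446 IH) (Lpn (LP (LK LD1_c17 LD2_c18 LD3_c29))))
theorem f58413 : Led Lsl_gt (LP (LK LD1_c12 LD2_c11 LD3_c10)) = (LP (LK LD1_c6 LD2_c17 LD3_c20)) :=
  Lre_g IH (LK LD1_c12 LD2_c11 LD3_c10) (LK LD1_c6 LD2_c17 LD3_c20) Lrfl Lrfl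
theorem f419252 : Led Lsl_df (LP (LK LD1_c9 LD2_c23 LD3_c22)) = (LP (LK LD1_c12 LD2_c11 LD3_c10)) :=
  Lgr Lrot155 (Lpr_gt (K11.f13752 IH) (Lpe (K0.f14005 IH) (Lpr_gt (K11.f14060 IH) (Lpr_ct (f14068 IH) (Lpr_dt (f419244 IH) (Lpe (f163448 IH) (Lpe (f58408 IH) (Lpr_cf (f58392 IH) (Lpe (f58413 IH) (Lpn (LP (LK LD1_c12 LD2_c11 LD3_c10))))))))))))
theorem f75304 : Led Lsl_gt (LP (LK LD1_c9 LD2_c15 LD3_c61)) = (LP (LK LD1_c12 LD2_c11 LD3_c10)) :=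
  Lgr Lrot5 (Lpr_ft (K4.f74950 IH) (Lpr_at (K8.f75299 IH) (Lpe (f58413 IH) (Lpn (LP (LK LD1_c12 LD2_c11 LD3_c10))))))
theorem f99931 : Led Lsl_bt (LP (LK LD1_c9 LD2_c9 LD3_c57)) = (LP (LK LD1_c4 LD2_c37 LD3_c6)) :=
  Lre_b IH (LK LD1_c9 LD2_c9 LD3_c57) (LK LD1_c4 LD2_c37 LD3_c6) Lrfl Lrfl
theorem f73012 : Led Lsl_bt (LP (LK LD1_c3 LD2_c2 LD3_c5)) = (LP (LK LD1_c6 LD2_c10 LD3_c10)) :=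
  Lre_b IH (LK LD1_c3 LD2_c2 LD3_c5) (LK LD1_c6 LD2_c10 LD3_c10) Lrfl Lrfl
theorem f99936 : Led Lsl_ff (LP (LK LD1_c9 LD2_c9 LD3_c57)) = (LP (LK LD1_c6 LD2_c10 LD3_c10)) :=
  Lgr Lrot25 (Lpr_bt (f99931 IH) (Lpr_ft (K6.f99925 IH) (Lpr_bt (f73012 IH) (Lpn (LP (LK LD1_c6 LD2_c10 LD3_c10))))))
theorem f62872 : Led Lsl_bt (LP (LK LD1_c1 LD2_c27 LD3_c6)) = (LP (LK LD1_c2 LD2_c17 LD3_c2)) :=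
  Lre_b IH (LK LD1_c1 LD2_c27 LD3_c6) (LK LD1_c2 LD2_c17 LD3_c2) Lrfl Lrfl
theorem f99918 : Led Lsl_at (LP (LK LD1_c9 LD2_c9 LD3_c57)) = (LP (LK LD1_c6 LD2_c9 LD3_c48)) :=
  Lgr Lrot67 (Lpe (K6.f99621 IH) (Lpr_af (K6.f99913 IH) (Lpe (f62872 IH) (Lpe (K2.f65663 IH) (Lpe (f58391 IH) (Lpn (LP (LK LD1_c6 LD2_c9 LD3_c48))))))))
theorem f58415 : Led Lsl_gt (LP (LK LD1_c12 LD2_c0 LD3_c37)) = (LP (LK LD1_c6 LD2_c9 LD3_c48)) :=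
  Lre_g IH (LK LD1_c12 LD2_c0 LD3_c37) (LK LD1_c6 LD2_c9 LD3_c48) Lrfl Lrfl
theorem f100211 : Led Lsl_gf (LP (LK LD1_c12 LD2_c0 LD3_c37)) = (LP (LK LD1_c6 LD2_c10 LD3_c10)) :=
  Lgr Lrot47 (Lpr_gt (f58415 IH) (Lpe (f99918 IH) (Lpr_ff (f99936 IH) (Lpn (LP (LK LD1_c6 LD2_c10 LD3_c10))))))
theorem f419257 : Led Lsl_df (LP (LK LD1_c6 LD2_c35 LD3_c53)) = (LP (LK LD1_c12 LD2_c0 LD3_c37)) :=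
  Lgr Lrot153 (Lpr_gt (K7.f15011 IH) (Lpr_dt (K0.f14041 IH) (Lpe (K4.f14346 IH) (Lpe (K4.f14008 IH) (Lpe (K11.f13752 IH) (Lpr_df (f419252 IH) (Lpe (f75304 IH) (Lpe (K6.f66881 IH) (Lpe (f100211 IH) (Lpn (LP (LK LD1_c12 LD2_c0 LD3_c37))))))))))))
theorem f419264 : Led Lsl_dt (LP (LK LD1_c6 LD2_c35 LD3_c53)) = (LP (LK LD1_c12 LD2_c0 LD3_c37)) :=
  Lgr Lrot42 (Lpr_df (f419257 IH) (Lpn (LP (LK LD1_c12 LD2_c0 LD3_c37))))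
theorem f15558 : Led Lsl_gt (LP (LK LD1_c7 LD2_c43 LD3_c11)) = (LP (LK LD1_c6 LD2_c56 LD3_c37)) :=
  Lgr Lrot5 (Lpr_ft (K11.f15545 IH) (Lpr_at (K11.f15544 IH) (Lpe (K7.f15555 IH) (Lpn (LP (LK LD1_c6 LD2_c56 LD3_c37))))))
theorem f419282 : Led Lsl_dt (LP (LK LD1_c6 LD2_c56 LD3_c37)) = (LP (LK LD1_c12 LD2_c13 LD3_c52)) :=
  Lgr Lrot57 (Lpe (f15558 IH) (Lpe (K4.f14091 IH) (Lpr_gt (K7.f15560 IH) (Lpr_dt (f419264 IH) (Lpr_gt (f58415 IH) (Lpr_dt (K4.f58403 IH) (Lpe (K2.f18261 IH) (Lpe (K2.f66871 IH) (Lpe (K4.f66882 IH) (Lpn (LP (LK LD1_c12 LD2_c13 LD3_c52))))))))))))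
theorem f419290 : Led Lsl_df (LP (LK LD1_c6 LD2_c56 LD3_c37)) = (LP (LK LD1_c12 LD2_c13 LD3_c52)) :=
  Lgr Lrot38 (Lpr_dt (f419282 IH) (Lpn (LP (LK LD1_c12 LD2_c13 LD3_c52))))
theorem f73988 : Led Lsl_af (LP (LK LD1_c6 LD2_c19 LD3_c0)) = (LP (LK LD1_c11 LD2_c30 LD3_c41)) :=
  Lgr Lrot68 (Lpr_ct (K4.f67017 IH) (Lpr_at (K4.f61581 IH) (Lpr_ct (K2.f73986 IH) (Lpn (LP (LK LD1_c11 LD2_c30 LD3_c41))))))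
theorem f74163 : Led Lsl_gt (LP (LK LD1_c11 LD2_c24 LD3_c44)) = (LP (LK LD1_c12 LD2_c13 LD3_c52)) :=
  Lgr Lrot5 (Lpr_ft (K8.f74157 IH) (Lpe (f73988 IH) (Lpe (K4.f66882 IH) (Lpn (LP (LK LD1_c12 LD2_c13 LD3_c52))))))
theorem f73576 : Led Lsl_bt (LP (LK LD1_c11 LD2_c24 LD3_c44)) = (LP (LK LD1_c5 LD2_c47 LD3_c20)) :=
  Lre_b IH (LK LD1_c11 LD2_c24 LD3_c44) (LK LD1_c5 LD2_c47 LD3_c20) Lrfl Lrfl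
theorem f74190 : Led Lsl_cf (LP (LK LD1_c11 LD2_c24 LD3_c44)) = (LP (LK LD1_c9 LD2_c47 LD3_c41)) :=
  Lgr Lrot97 (Lpr_bt (f73576 IH) (Lpr_ct (K8.f73469 IH) (Lpr_bt (K2.f74174 IH) (Lpr_ct (K4.f74188 IH) (Lpr_bt (K2.f74189 IH) (Lpn (LP (LK LD1_c9 LD2_c47 LD3_c41))))))))
theorem f74405 : Led Lsl_ff (LP (LK LD1_c11 LD2_c24 LD3_c12)) = (LP (LK LD1_c9 LD2_c47 LD3_c41)) :=
  Lgr Lrot25 (Lpr_bt (K2.f61588 IH) (Lpr_ft (K2.f74294 IH) (Lpr_bt (K2.f74189 IH) (Lpn (LP (LK LD1_c9 LD2_c47 LD3_c41))))))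
theorem f61584 : Led Lsl_gt (LP (LK LD1_c12 LD2_c28 LD3_c49)) = (LP (LK LD1_c6 LD2_c29 LD3_c16)) :=
  Lre_g IH (LK LD1_c12 LD2_c28 LD3_c49) (LK LD1_c6 LD2_c29 LD3_c16) Lrfl Lrfl
theorem f79683 : Led Lsl_gf (LP (LK LD1_c12 LD2_c28 LD3_c49)) = (LP (LK LD1_c9 LD2_c47 LD3_c41)) :=
  Lgr Lrot47 (Lpr_gt (f61584 IH) (Lpr_af (K2.f61529 IH) (Lpr_ff (f74405 IH) (Lpn (LP (LK LD1_c9 LD2_c47 LD3_c41))))))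
theorem f419325 : Led Lsl_df (LP (LK LD1_c11 LD2_c45 LD3_c56)) = (LP (LK LD1_c12 LD2_c28 LD3_c49)) :=
  Lgr Lrot153 (Lpr_gt (K11.f14112 IH) (Lpe (K7.f77298 IH) (Lpr_cf (K4.f77296 IH) (Lpe (K4.f15540 IH) (Lpe (K7.f15555 IH) (Lpr_df (f419290 IH) (Lpe (f74163 IH) (Lpr_cf (f74190 IH) (Lpe (f79683 IH) (Lpn (LP (LK LD1_c12 LD2_c28 LD3_c49))))))))))))
theorem f419329 : Led Lsl_dt (LP (LK LD1_c11 LD2_c45 LD3_c56)) = (LP (LK LD1_c12 LD2_c28 LD3_c49)) :=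
  Lgr Lrot42 (Lpr_df (f419325 IH) (Lpn (LP (LK LD1_c12 LD2_c28 LD3_c49))))
theorem f75201 : Led Lsl_dt (LP (LK LD1_c9 LD2_c15 LD3_c61)) = (LP (LK LD1_c11 LD2_c45 LD3_c26)) :=
  Lgr Lrot60 (Lpr_ff (K11.f74938 IH) (Lpe (K8.f75200 IH) (Lpr_ff (K2.f75196 IH) (Lpn (LP (LK LD1_c11 LD2_c45 LD3_c26))))))
theorem f419377 : Led Lsl_gf (LP (LK LD1_c9 LD2_c15 LD3_c61)) = (LP (LK LD1_c12 LD2_c11 LD3_c9)) :=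
  Lgr Lrot143 (Lpr_dt (f75201 IH) (Lpr_cf (K4.f76523 IH) (Lpe (K4.f76519 IH) (Lpe (f61584 IH) (Lpe (f419329 IH) (Lpe (K11.f14060 IH) (Lpr_cf (K0.f14005 IH) (Lpr_gt (f13751 IH) (Lpr_dt (f419360 IH) (Lpn (LP (LK LD1_c12 LD2_c11 LD3_c9))))))))))))
theorem f76517 : Led Lsl_ct (LP (LK LD1_c11 LD2_c45 LD3_c26)) = (LP (LK LD1_c12 LD2_c12 LD3_c53)) :=
  Lgr Lrot40 (Lpe (K2.f75205 IH) (Lpr_cf (K2.f76410 IH) (Lpr_ff (K4.f76501 IH) (Lpn (LP (LK LD1_c12 LD2_c12 LD3_c53))))))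
theorem f14695 : Led Lsl_bt (LP (LK LD1_c0 LD2_c23 LD3_c36)) = (LP (LK LD1_c0 LD2_c52 LD3_c7)) :=
  Lre_b IH (LK LD1_c0 LD2_c23 LD3_c36) (LK LD1_c0 LD2_c52 LD3_c7) Lrfl Lrfl
theorem f14696 : Led Lsl_gt (LP (LK LD1_c0 LD2_c52 LD3_c7)) = (LP (LK LD1_c1 LD2_c50 LD3_c24)) :=
  Lre_g IH (LK LD1_c0 LD2_c52 LD3_c7) (LK LD1_c1 LD2_c50 LD3_c24) Lrfl Lrfl
theorem f14697 : Led Lsl_dt (LP (LK LD1_c1 LD2_c50 LD3_c24)) = (LP (LK LD1_c3 LD2_c46 LD3_c33)) :=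
  Lre_d IH (LK LD1_c1 LD2_c50 LD3_c24) (LK LD1_c3 LD2_c46 LD3_c33) Lrfl Lrfl
theorem f14698 : Led Lsl_ct (LP (LK LD1_c3 LD2_c46 LD3_c33)) = (LP (LK LD1_c7 LD2_c33 LD3_c59)) :=
  Lre_c IH (LK LD1_c3 LD2_c46 LD3_c33) (LK LD1_c7 LD2_c33 LD3_c59) Lrfl Lrfl
theorem f419381 : Led Lsl_bt (LP (LK LD1_c7 LD2_c33 LD3_c59)) = (LP (LK LD1_c12 LD2_c11 LD3_c9)) :=
  Lgr Lrot178 (Lpe (f14698 IH) (Lpe (f14697 IH) (Lpe (f14696 IH) (Lpe (f14695 IH) (Lpe (K1.f14694 IH) (Lpe (K1.f14693 IH) (Lpe (K1.f14692 IH) (Lpr_bf (K4.f14668 IH) (Lpe (K1.f14687 IH) (Lpe (K1.f14699 IH) (Lpe (K1.f14700 IH) (Lpe (K5.f14701 IH) (Lpe (K2.f14702 IH) (Lpe (K3.f14703 IH) (Lpe (K2.f79048 IH) (Lpe (K7.f76489 IH) (Lpe (f76517 IH) (Lpe (f75201 IH) (Lpr_gf (f419377 IH) (Lpn (LP (LK LD1_c12 LD2_c11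 LD3_c9))))))))))))))))))))))
theorem f419383 : Led Lsl_ct (LP (LK LD1_c7 LD2_c33 LD3_c59)) = (LP (LK LD1_c3 LD2_c46 LD3_c33)) :=
  Lre_c IH (LK LD1_c7 LD2_c33 LD3_c59) (LK LD1_c3 LD2_c46 LD3_c33) Lrfl Lrfl
theorem f88615 : Led Lsl_ct (LP (LK LD1_c7 LD2_c39 LD3_c29)) = (LP (LK LD1_c3 LD2_c49 LD3_c20)) :=
  Lre_c IH (LK LD1_c7 LD2_c39 LD3_c29) (LK LD1_c3 LD2_c49 LD3_c20) Lrfl Lrfl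
theorem f419391 : Led Lsl_gt (LP (LK LD1_c3 LD2_c46 LD3_c33)) = (LP (LK LD1_c3 LD2_c49 LD3_c20)) :=
  Lgr Lrot65 (Lpe (f419383 IH) (Lpr_bt (f419381 IH) (Lpe (f58409 IH) (Lpe (f58272 IH) (Lpr_ct (K1.f58224 IH) (Lpe (K3.f58768 IH) (Lpe (K3.f58770 IH) (Lpe (K3.f58771 IH) (Lpe (K5.f128706 IH) (Lpr_ct (f88615 IH) (Lpn (LP (LK LD1_c3 LD2_c49 LD3_c20)))))))))))))
theorem f419386 : Led Lsl_bt (LP (LK LD1_c7 LD2_c33 LD3_c57)) = (LP (LK LD1_c3 LD2_c46 LD3_c33)) :=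
  Lre_b IH (LK LD1_c7 LD2_c33 LD3_c57) (LK LD1_c3 LD2_c46 LD3_c33) Lrfl Lrfl
theorem f419396 : Led Lsl_ct (LP (LK LD1_c7 LD2_c33 LD3_c57)) = (LP (LK LD1_c14 LD2_c15 LD3_c57)) :=
  Lre_c IH (LK LD1_c7 LD2_c33 LD3_c57) (LK LD1_c14 LD2_c15 LD3_c57) Lrfl Lrfl
theorem f88576 : Led Lsl_dt (LP (LK LD1_c3 LD2_c49 LD3_c20)) = (LP (LK LD1_c1 LD2_c51 LD3_c43)) :=
  Lre_d IH (LK LD1_c3 LD2_c49 LD3_c20) (LK LD1_c1 LD2_c51 LD3_c43) Lrfl Lrfl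
theorem f127079 : Led Lsl_bf (LP (LK LD1_c3 LD2_c49 LD3_c20)) = (LP (LK LD1_c2 LD2_c20 LD3_c6)) :=
  Lgr Lrot93 (Lpr_dt (f88576 IH) (Lpe (K3.f89790 IH) (Lpr_dt (K5.f127075 IH) (Lpn (LP (LK LD1_c2 LD2_c20 LD3_c6))))))
theorem f127348 : Led Lsl_bt (LP (LK LD1_c3 LD2_c14 LD3_c52)) = (LP (LK LD1_c6 LD2_c10 LD3_c42)) :=
  Lgr Lrot35 (Lpr_ff (K5.f127342 IH) (Lpe (K4.f111228 IH) (Lpe (K6.f122281 IH) (Lpn (LP (LK LD1_c6 LD2_c10 LD3_c42))))))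
theorem f127356 : Led Lsl_gt (LP (LK LD1_c3 LD2_c1 LD3_c12)) = (LP (LK LD1_c1 LD2_c49 LD3_c47)) :=
  Lgr Lrot149 (Lpr_cf (K5.f127066 IH) (Lpe (K5.f25393 IH) (Lpr_bf (K6.f25193 IH) (Lpr_ct (K6.f20401 IH) (Lpe (K6.f100335 IH) (Lpe (K7.f100332 IH) (Lpr_bt (K4.f117162 IH) (Lpe (K4.f117148 IH) (Lpe (f127348 IH) (Lpr_ct (K5.f127350 IH) (Lpn (LP (LK LD1_c1 LD2_c49 LD3_c47)))))))))))))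
theorem f419397 : Led Lsl_gf (LP (LK LD1_c14 LD2_c15 LD3_c57)) = (LP (LK LD1_c7 LD2_c40 LD3_c58)) :=
  Lgr Lrot129 (Lpe (f419396 IH) (Lpr_bt (f419386 IH) (Lpr_gt (f419391 IH) (Lpr_bf (f127079 IH) (Lpe (K5.f127066 IH) (Lpr_gt (f127356 IH) (Lpe (K5.f127350 IH) (Lpr_bt (f127348 IH) (Lpr_gt (K4.f117148 IH) (Lpr_ct (K4.f117133 IH) (Lpn (LP (LK LD1_c7 LD2_c40 LD3_c58)))))))))))))
theorem f117168 : Led Lsl_bf (LP (LK LD1_c2 LD2_c50 LD3_c2)) = (LP (LK LD1_c3 LD2_c50 LD3_c0)) :=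
  Lgr Lrot24 (Lpr_bt (K4.f117162 IH) (Lpn (LP (LK LD1_c3 LD2_c50 LD3_c0))))
theorem f426586 : Led Lsl_gf (LP (LK LD1_c2 LD2_c50 LD3_c2)) = (LP (LK LD1_c3 LD2_c50 LD3_c32)) :=
  Lgr Lrot124 (Lpr_bf (f117168 IH) (Lpr_ct (K4.f117133 IH) (Lpe (f419397 IH) (Lpe (f419396 IH) (Lpr_bt (f419386 IH) (Lpr_gt (f419391 IH) (Lpr_ct (f87914 IH) (Lpe (f426572 IH) (Lpr_cf (f426575 IH) (Lpr_bt (f66166 IH) (Lpn (LP (LK LD1_c3 LD2_c50 LD3_c32)))))))))))))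
theorem f103772 : Led Lsl_gt (LP (LK LD1_c1 LD2_c41 LD3_c40)) = (LP (LK LD1_c3 LD2_c29 LD3_c57)) :=
  Lre_g IH (LK LD1_c1 LD2_c41 LD3_c40) (LK LD1_c3 LD2_c29 LD3_c57) Lrfl Lrfl
theorem f426588 : Led Lsl_dt (LP (LK LD1_c3 LD2_c29 LD3_c57)) = (LP (LK LD1_c3 LD2_c50 LD3_c32)) :=
  Lgr Lrot57 (Lpe (f103772 IH) (Lpr_cf (K6.f115838 IH) (Lpr_gt (K4.f20204 IH) (Lpe (K7.f146490 IH) (Lpr_gt (K6.f25296 IH) (Lpr_dt (K6.f137230 IH) (Lpr_cf (K5.f15199 IH) (Lpe (K5.f117226 IH) (Lpr_gf (f426586 IH) (Lpn (LP (LK LD1_c3 LD2_c50 LD3_c32))))))))))))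
theorem f426590 : Led Lsl_gf (LP (LK LD1_c6 LD2_c34 LD3_c55)) = (LP (LK LD1_c3 LD2_c29 LD3_c57)) :=
  Lgr Lrot147 (Lpr_ct (K4.f65934 IH) (Lpe (K4.f103755 IH) (Lpr_ct (K4.f115867 IH) (Lpe (K8.f146531 IH) (Lpe (K6.f20403 IH) (Lpe (K6.f100335 IH) (Lpe (K7.f100332 IH) (Lpr_gf (f426586 IH) (Lpe (f426588 IH) (Lpn (LP (LK LD1_c3 LD2_c29 LD3_c57))))))))))))
theorem f426594 : Led Lsl_df (LP (LK LD1_c3 LD2_c29 LD3_c57)) = (LP (LK LD1_c3 LD2_c50 LD3_c32)) :=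
  Lgr Lrot155 (Lpe (f426590 IH) (Lpr_ct (K4.f65934 IH) (Lpe (K4.f103755 IH) (Lpr_ct (K4.f115867 IH) (Lpe (K7.f146490 IH) (Lpe (K6.f20403 IH) (Lpe (K6.f100335 IH) (Lpe (K7.f100332 IH) (Lpr_gf (f426586 IH) (Lpn (LP (LK LD1_c3 LD2_c50 LD3_c32))))))))))))
theorem f137174 : Led Lsl_dt (LP (LK LD1_c2 LD2_c55 LD3_c46)) = (LP (LK LD1_c5 LD2_c58 LD3_c40)) :=
  Lre_d IH (LK LD1_c2 LD2_c55 LD3_c46) (LK LD1_c5 LD2_c58 LD3_c40) Lrfl Lrfl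
theorem f426605 : Led Lsl_cf (LP (LK LD1_c3 LD2_c29 LD3_c57)) = (LP (LK LD1_c5 LD2_c58 LD3_c40)) :=
  Lgr Lrot14 (Lpr_df (f426594 IH) (Lpe (f66165 IH) (Lpe (K8.f64340 IH) (Lpe (K6.f12298 IH) (Lpr_ct (K6.f136444 IH) (Lpr_gt (K6.f15206 IH) (Lpe (K5.f112106 IH) (Lpr_gt (K8.f157598 IH) (Lpr_dt (f137174 IH) (Lpn (LP (LK LD1_c5 LD2_c58 LD3_c40))))))))))))
theorem f102449 : Led Lsl_at (LP (LK LD1_c1 LD2_c39 LD3_c43)) = (LP (LK LD1_c3 LD2_c26 LD3_c3)) :=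
  Lre_a IH (LK LD1_c1 LD2_c39 LD3_c43) (LK LD1_c3 LD2_c26 LD3_c3) Lrfl Lrfl
theorem f103667 : Led Lsl_af (LP (LK LD1_c3 LD2_c24 LD3_c38)) = (LP (LK LD1_c3 LD2_c45 LD3_c45)) :=
  Lgr Lrot45 (Lpe (K4.f102861 IH) (Lpr_at (f102449 IH) (Lpr_ft (K4.f103665 IH) (Lpn (LP (LK LD1_c3 LD2_c45 LD3_c45))))))
theorem f111341 : Led Lsl_gt (LP (LK LD1_c3 LD2_c26 LD3_c3)) = (LP (LK LD1_c3 LD2_c29 LD3_c22)) :=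
  Lgr Lrot5 (Lpr_ft (K4.f103665 IH) (Lpe (f103667 IH) (Lpr_gf (K4.f111339 IH) (Lpn (LP (LK LD1_c3 LD2_c29 LD3_c22))))))
theorem f116511 : Led Lsl_ct (LP (LK LD1_c7 LD2_c22 LD3_c39)) = (LP (LK LD1_c3 LD2_c41 LD3_c10)) :=
  Lre_c IH (LK LD1_c7 LD2_c22 LD3_c39) (LK LD1_c3 LD2_c41 LD3_c10) Lrfl Lrfl
theorem f92296 : Led Lsl_gt (LP (LK LD1_c1 LD2_c46 LD3_c38)) = (LP (LK LD1_c3 LD2_c39 LD3_c20)) :=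
  Lre_g IH (LK LD1_c1 LD2_c46 LD3_c38) (LK LD1_c3 LD2_c39 LD3_c20) Lrfl Lrfl
theorem f94565 : Led Lsl_ct (LP (LK LD1_c7 LD2_c18 LD3_c53)) = (LP (LK LD1_c3 LD2_c39 LD3_c20)) :=
  Lre_c IH (LK LD1_c7 LD2_c18 LD3_c53) (LK LD1_c3 LD2_c39 LD3_c20) Lrfl Lrfl
theorem f155574 : Led Lsl_bf (LP (LK LD1_c7 LD2_c22 LD3_c39)) = (LP (LK LD1_c7 LD2_c18 LD3_c53)) :=
  Lgr Lrot165 (Lpr_gt (K8.f155566 IH) (Lpr_ct (K4.f97677 IH) (Lpr_gt (K4.f97676 IH) (Lpe (K4.f96315 IH) (Lpr_bt (K4.f97675 IH) (Lpe (K3.f97670 IH) (Lpr_bf (K2.f94566 IH) (Lpe (K2.f94539 IH) (Lpr_gt (f92296 IH) (Lpe (f94565 IH) (Lpn (LP (LK LD1_c7 LD2_c18 LD3_c53)))))))))))))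
theorem f155602 : Led Lsl_bt (LP (LK LD1_c7 LD2_c22 LD3_c39)) = (LP (LK LD1_c7 LD2_c18 LD3_c53)) :=
  Lgr Lrot127 (Lpr_bf (f155574 IH) (Lpn (LP (LK LD1_c7 LD2_c18 LD3_c53))))
theorem f426549 : Led Lsl_bt (LP (LK LD1_c5 LD2_c58 LD3_c40)) = (LP (LK LD1_c11 LD2_c41 LD3_c45)) :=
  Lre_b IH (LK LD1_c5 LD2_c58 LD3_c40) (LK LD1_c11 LD2_c41 LD3_c45) Lrfl Lrfl
theorem f426613 : Led Lsl_gt (LP (LK LD1_c7 LD2_c18 LD3_c53)) = (LP (LK LD1_c11 LD2_c41 LD3_c45)) :=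
  Lgr Lrot164 (Lpe (f155602 IH) (Lpr_ct (f116511 IH) (Lpe (K7.f116504 IH) (Lpr_cf (K4.f116464 IH) (Lpe (f111341 IH) (Lpr_bf (K4.f102442 IH) (Lpe (K4.f65942 IH) (Lpr_gf (f426590 IH) (Lpr_cf (f426605 IH) (Lpr_bt (f426549 IH) (Lpn (LP (LK LD1_c11 LD2_c41 LD3_c45)))))))))))))
theorem f64639 : Led Lsl_bt (LP (LK LD1_c1 LD2_c41 LD3_c32)) = (LP (LK LD1_c0 LD2_c47 LD3_c20)) :=
  Lre_b IH (LK LD1_c1 LD2_c41 LD3_c32) (LK LD1_c0 LD2_c47 LD3_c20) Lrfl Lrfl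
theorem f64794 : Led Lsl_ct (LP (LK LD1_c1 LD2_c41 LD3_c32)) = (LP (LK LD1_c3 LD2_c29 LD3_c31)) :=
  Lre_c IH (LK LD1_c1 LD2_c41 LD3_c32) (LK LD1_c3 LD2_c29 LD3_c31) Lrfl Lrfl
theorem f64795 : Led Lsl_gt (LP (LK LD1_c7 LD2_c0 LD3_c41)) = (LP (LK LD1_c3 LD2_c29 LD3_c31)) :=
  Lre_g IH (LK LD1_c7 LD2_c0 LD3_c41) (LK LD1_c3 LD2_c29 LD3_c31) Lrfl Lrfl
theorem f426619 : Led Lsl_cf (LP (LK LD1_c7 LD2_c0 LD3_c41)) = (LP (LK LD1_c11 LD2_c41 LD3_c45)) :=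
  Lgr Lrot125 (Lpr_gt (f64795 IH) (Lpe (f64794 IH) (Lpr_bt (f64639 IH) (Lpr_gt (K3.f64636 IH) (Lpe (K4.f64627 IH) (Lpe (K4.f116464 IH) (Lpr_gt (K7.f116504 IH) (Lpe (f116511 IH) (Lpr_bt (f155602 IH) (Lpr_gt (f426613 IH) (Lpn (LP (LK LD1_c11 LD2_c41 LD3_c45)))))))))))))
theorem f426628 : Led Lsl_et (LP (LK LD1_c7 LD2_c0 LD3_c41)) = (LP (LK LD1_c13 LD2_c18 LD3_c3)) :=
  Lre_e IH (LK LD1_c7 LD2_c0 LD3_c41) (LK LD1_c13 LD2_c18 LD3_c3) Lrfl Lrfl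
theorem f426551 : Led Lsl_et (LP (LK LD1_c20 LD2_c41 LD3_c46)) = (LP (LK LD1_c11 LD2_c41 LD3_c45)) :=
  Lre_e IH (LK LD1_c20 LD2_c41 LD3_c46) (LK LD1_c11 LD2_c41 LD3_c45) Lrfl Lrfl
theorem f426629 : Led Lsl_ct (LP (LK LD1_c13 LD2_c18 LD3_c3)) = (LP (LK LD1_c20 LD2_c41 LD3_c46)) :=
  Lgr Lrot15 (Lpe (f426628 IH) (Lpr_cf (f426619 IH) (Lpe (f426551 IH) (Lpn (LP (LK LD1_c20 LD2_c41 LD3_c46))))))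
theorem f426650 : Led Lsl_cf (LP (LK LD1_c13 LD2_c18 LD3_c3)) = (LP (LK LD1_c20 LD2_c41 LD3_c46)) :=
  Lgr Lrot11 (Lpr_ct (f426629 IH) (Lpn (LP (LK LD1_c20 LD2_c41 LD3_c46))))
theorem f426507 : Led Lsl_et (LP (LK LD1_c20 LD2_c41 LD3_c45)) = (LP (LK LD1_c11 LD2_c41 LD3_c44)) :=
  Lre_e IH (LK LD1_c20 LD2_c41 LD3_c45) (LK LD1_c11 LD2_c41 LD3_c44) Lrfl Lrfl
theorem f116592 : Led Lsl_et (LP (LK LD1_c6 LD2_c55 LD3_c60)) = (LP (LK LD1_c13 LD2_c9 LD3_c57)) :=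
  Lre_e IH (LK LD1_c6 LD2_c55 LD3_c60) (LK LD1_c13 LD2_c9 LD3_c57) Lrfl Lrfl
theorem f426508 : Led Lsl_bf (LP (LK LD1_c20 LD2_c41 LD3_c45)) = (LP (LK LD1_c13 LD2_c9 LD3_c57)) :=
  Lgr Lrot96 (Lpr_et (f426507 IH) (Lpr_bt (f426496 IH) (Lpr_et (f116592 IH) (Lpn (LP (LK LD1_c13 LD2_c9 LD3_c57))))))
theorem f426516 : Led Lsl_dt (LP (LK LD1_c20 LD2_c41 LD3_c45)) = (LP (LK LD1_c29 LD2_c35 LD3_c38)) :=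
  Lre_d IH (LK LD1_c20 LD2_c41 LD3_c45) (LK LD1_c29 LD2_c35 LD3_c38) Lrfl Lrfl
theorem f116587 : Led Lsl_dt (LP (LK LD1_c22 LD2_c22 LD3_c26)) = (LP (LK LD1_c13 LD2_c9 LD3_c57)) :=
  Lre_d IH (LK LD1_c22 LD2_c22 LD3_c26) (LK LD1_c13 LD2_c9 LD3_c57) Lrfl Lrfl
theorem f426517 : Led Lsl_bt (LP (LK LD1_c29 LD2_c35 LD3_c38)) = (LP (LK LD1_c22 LD2_c22 LD3_c26)) :=
  Lgr Lrot95 (Lpe (f426516 IH) (Lpr_bf (f426508 IH) (Lpe (f116587 IH) (Lpn (LP (LK LD1_c22 LD2_c22 LD3_c26))))))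
theorem f95405 : Led Lsl_dt (LP (LK LD1_c13 LD2_c3 LD3_c16)) = (LP (LK LD1_c22 LD2_c12 LD3_c60)) :=
  Lre_d IH (LK LD1_c13 LD2_c3 LD3_c16) (LK LD1_c22 LD2_c12 LD3_c60) Lrfl Lrfl
theorem f116586 : Led Lsl_et (LP (LK LD1_c13 LD2_c9 LD3_c57)) = (LP (LK LD1_c6 LD2_c55 LD3_c60)) :=
  Lre_e IH (LK LD1_c13 LD2_c9 LD3_c57) (LK LD1_c6 LD2_c55 LD3_c60) Lrfl Lrfl
theorem f116588 : Led Lsl_et (LP (LK LD1_c22 LD2_c12 LD3_c60)) = (LP (LK LD1_c22 LD2_c22 LD3_c26)) :=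
  Lgr Lrot71 (Lpe (f95405 IH) (Lpe (K7.f116573 IH) (Lpr_df (f116583 IH) (Lpe (f116586 IH) (Lpe (f116587 IH) (Lpn (LP (LK LD1_c22 LD2_c22 LD3_c26))))))))
theorem f116597 : Led Lsl_ef (LP (LK LD1_c22 LD2_c12 LD3_c60)) = (LP (LK LD1_c22 LD2_c22 LD3_c26)) :=
  Lgr Lrot88 (Lpr_et (f116588 IH) (Lpn (LP (LK LD1_c22 LD2_c22 LD3_c26))))
theorem f116599 : Led Lsl_dt (LP (LK LD1_c22 LD2_c12 LD3_c60)) = (LP (LK LD1_c13 LD2_c3 LD3_c16)) :=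
  Lre_d IH (LK LD1_c22 LD2_c12 LD3_c60) (LK LD1_c13 LD2_c3 LD3_c16) Lrfl Lrfl
theorem f116612 : Led Lsl_dt (LP (LK LD1_c14 LD2_c15 LD3_c39)) = (LP (LK LD1_c23 LD2_c52 LD3_c21)) :=
  Lre_d IH (LK LD1_c14 LD2_c15 LD3_c39) (LK LD1_c23 LD2_c52 LD3_c21) Lrfl Lrfl
theorem f116613 : Led Lsl_bf (LP (LK LD1_c22 LD2_c12 LD3_c60)) = (LP (LK LD1_c23 LD2_c52 LD3_c21)) :=
  Lgr Lrot93 (Lpr_dt (f116599 IH) (Lpr_bt (K7.f116575 IH) (Lpr_dt (f116612 IH) (Lpn (LP (LK LD1_c23 LD2_c52 LD3_c21))))))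
theorem f116615 : Led Lsl_bt (LP (LK LD1_c22 LD2_c12 LD3_c60)) = (LP (LK LD1_c23 LD2_c52 LD3_c21)) :=
  Lgr Lrot127 (Lpr_bf (f116613 IH) (Lpn (LP (LK LD1_c23 LD2_c52 LD3_c21))))
theorem f426523 : Led Lsl_ef (LP (LK LD1_c29 LD2_c35 LD3_c38)) = (LP (LK LD1_c23 LD2_c52 LD3_c21)) :=
  Lgr Lrot29 (Lpr_bt (f426517 IH) (Lpe (f116597 IH) (Lpr_bt (f116615 IH) (Lpn (LP (LK LD1_c23 LD2_c52 LD3_c21))))))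
theorem f426532 : Led Lsl_et (LP (LK LD1_c29 LD2_c35 LD3_c38)) = (LP (LK LD1_c23 LD2_c52 LD3_c21)) :=
  Lgr Lrot87 (Lpr_ef (f426523 IH) (Lpn (LP (LK LD1_c23 LD2_c52 LD3_c21))))
theorem f426519 : Led Lsl_at (LP (LK LD1_c20 LD2_c41 LD3_c49)) = (LP (LK LD1_c29 LD2_c35 LD3_c38)) :=
  Lre_a IH (LK LD1_c20 LD2_c41 LD3_c49) (LK LD1_c29 LD2_c35 LD3_c38) Lrfl Lrfl
theorem f426534 : Led Lsl_et (LP (LK LD1_c29 LD2_c35 LD3_c39)) = (LP (LK LD1_c20 LD2_c41 LD3_c49)) :=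
  Lre_e IH (LK LD1_c29 LD2_c35 LD3_c39) (LK LD1_c20 LD2_c41 LD3_c49) Lrfl Lrfl
theorem f426535 : Led Lsl_af (LP (LK LD1_c29 LD2_c35 LD3_c39)) = (LP (LK LD1_c23 LD2_c52 LD3_c21)) :=
  Lgr Lrot50 (Lpr_et (f426534 IH) (Lpr_at (f426519 IH) (Lpr_et (f426532 IH) (Lpn (LP (LK LD1_c23 LD2_c52 LD3_c21))))))
theorem f426539 : Led Lsl_dt (LP (LK LD1_c29 LD2_c35 LD3_c39)) = (LP (LK LD1_c20 LD2_c41 LD3_c46)) :=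
  Lre_d IH (LK LD1_c29 LD2_c35 LD3_c39) (LK LD1_c20 LD2_c41 LD3_c46) Lrfl Lrfl
theorem f426540 : Led Lsl_at (LP (LK LD1_c20 LD2_c41 LD3_c46)) = (LP (LK LD1_c14 LD2_c15 LD3_c39)) :=
  Lgr Lrot51 (Lpe (f426539 IH) (Lpr_af (f426535 IH) (Lpe (f116612 IH) (Lpn (LP (LK LD1_c14 LD2_c15 LD3_c39))))))
theorem f426542 : Led Lsl_af (LP (LK LD1_c20 LD2_c41 LD3_c46)) = (LP (LK LD1_c14 LD2_c15 LD3_c39)) :=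
  Lgr Lrot0 (Lpr_at (f426540 IH) (Lpn (LP (LK LD1_c14 LD2_c15 LD3_c39))))
theorem f94470 : Led Lsl_ct (LP (LK LD1_c7 LD2_c33 LD3_c43)) = (LP (LK LD1_c14 LD2_c15 LD3_c39)) :=
  Lre_c IH (LK LD1_c7 LD2_c33 LD3_c43) (LK LD1_c14 LD2_c15 LD3_c39) Lrfl Lrfl
theorem f426652 : Led Lsl_at (LP (LK LD1_c13 LD2_c18 LD3_c3)) = (LP (LK LD1_c7 LD2_c33 LD3_c43)) :=
  Lgr Lrot107 (Lpr_cf (f426650 IH) (Lpr_af (f426542 IH) (Lpe (f94470 IH) (Lpn (LP (LK LD1_c7 LD2_c33 LD3_c43))))))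
theorem f94473 : Led Lsl_et (LP (LK LD1_c7 LD2_c33 LD3_c43)) = (LP (LK LD1_c3 LD2_c46 LD3_c19)) :=
  Lre_e IH (LK LD1_c7 LD2_c33 LD3_c43) (LK LD1_c3 LD2_c46 LD3_c19) Lrfl Lrfl
theorem f426654 : Led Lsl_af (LP (LK LD1_c7 LD2_c0 LD3_c41)) = (LP (LK LD1_c3 LD2_c46 LD3_c19)) :=
  Lgr Lrot50 (Lpr_et (f426628 IH) (Lpr_at (f426652 IH) (Lpr_et (f94473 IH) (Lpn (LP (LK LD1_c3 LD2_c46 LD3_c19))))))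
theorem f420654 : Led Lsl_bt (LP (LK LD1_c11 LD2_c41 LD3_c45)) = (LP (LK LD1_c5 LD2_c58 LD3_c40)) :=
  Lre_b IH (LK LD1_c11 LD2_c41 LD3_c45) (LK LD1_c5 LD2_c58 LD3_c40) Lrfl Lrfl
theorem f24204 : Led Lsl_ct (LP (LK LD1_c2 LD2_c51 LD3_c54)) = (LP (LK LD1_c1 LD2_c21 LD3_c60)) :=
  Lre_c IH (LK LD1_c2 LD2_c51 LD3_c54) (LK LD1_c1 LD2_c21 LD3_c60) Lrfl Lrfl
theorem f157992 : Led Lsl_gt (LP (LK LD1_c5 LD2_c58 LD3_c40)) = (LP (LK LD1_c3 LD2_c29 LD3_c59)) :=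
  Lgr Lrot9 (Lpe (f137174 IH) (Lpr_gt (K8.f157980 IH) (Lpr_ct (f24204 IH) (Lpr_gt (K8.f8360 IH) (Lpr_ct (K4.f8356 IH) (Lpe (K7.f8353 IH) (Lpe (K4.f8354 IH) (Lpe (K4.f103750 IH) (Lpe (K4.f115835 IH) (Lpn (LP (LK LD1_c3 LD2_c29 LD3_c59))))))))))))
theorem f136970 : Led Lsl_gt (LP (LK LD1_c3 LD2_c29 LD3_c37)) = (LP (LK LD1_c1 LD2_c50 LD3_c26)) :=
  Lgr Lrot164 (Lpe (K4.f121891 IH) (Lpe (K4.f122061 IH) (Lpr_gf (K7.f122172 IH) (Lpr_cf (K6.f136945 IH) (Lpr_gf (K4.f115827 IH) (Lpe (K4.f111147 IH) (Lpe (K4.f111044 IH) (Lpr_gf (K4.f120481 IH) (Lpe (K4.f120483 IH) (Lpr_bt (K4.f120503 IH) (Lpn (LP (LK LD1_c1 LD2_c50 LD3_c26)))))))))))))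
theorem f109059 : Led Lsl_ct (LP (LK LD1_c1 LD2_c50 LD3_c26)) = (LP (LK LD1_c3 LD2_c46 LD3_c21)) :=
  Lre_c IH (LK LD1_c1 LD2_c50 LD3_c26) (LK LD1_c3 LD2_c46 LD3_c21) Lrfl Lrfl
theorem f426635 : Led Lsl_gf (LP (LK LD1_c7 LD2_c0 LD3_c41)) = (LP (LK LD1_c3 LD2_c46 LD3_c21)) :=
  Lgr Lrot129 (Lpr_cf (f426619 IH) (Lpr_bt (f420654 IH) (Lpr_gt (f157992 IH) (Lpe (K4.f115786 IH) (Lpe (K6.f136945 IH) (Lpe (K7.f122172 IH) (Lpr_cf (K4.f122061 IH) (Lpr_bt (K4.f121891 IH) (Lpr_gt (f136970 IH) (Lpr_ct (f109059 IH) (Lpn (LP (LK LD1_c3 LD2_c46 LD3_c21)))))))))))))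
theorem f109045 : Led Lsl_at (LP (LK LD1_c1 LD2_c50 LD3_c15)) = (LP (LK LD1_c3 LD2_c46 LD3_c21)) :=
  Lre_a IH (LK LD1_c1 LD2_c50 LD3_c15) (LK LD1_c3 LD2_c46 LD3_c21) Lrfl Lrfl
theorem f89660 : Led Lsl_gt (LP (LK LD1_c3 LD2_c29 LD3_c31)) = (LP (LK LD1_c7 LD2_c0 LD3_c40)) :=
  Lre_g IH (LK LD1_c3 LD2_c29 LD3_c31) (LK LD1_c7 LD2_c0 LD3_c40) Lrfl Lrfl
theorem f109057 : Led Lsl_gf (LP (LK LD1_c3 LD2_c46 LD3_c21)) = (LP (LK LD1_c7 LD2_c0 LD3_c40)) :=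
  Lgr Lrot76 (Lpe (f109045 IH) (Lpr_ff (K3.f109043 IH) (Lpr_gt (f89660 IH) (Lpn (LP (LK LD1_c7 LD2_c0 LD3_c40))))))
theorem f426656 : Led Lsl_ft (LP (LK LD1_c7 LD2_c0 LD3_c40)) = (LP (LK LD1_c3 LD2_c46 LD3_c19)) :=
  Lgr Lrot2 (Lpe (f109057 IH) (Lpe (f426635 IH) (Lpr_af (f426654 IH) (Lpn (LP (LK LD1_c3 LD2_c46 LD3_c19))))))
theorem f109552 : Led Lsl_bt (LP (LK LD1_c7 LD2_c18 LD3_c48)) = (LP (LK LD1_c7 LD2_c0 LD3_c40)) :=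
  Lgr Lrot130 (Lpr_ct (K24.f5552 IH) (Lpe (K24.f5070 IH) (Lpr_cf (K24.f5541 IH) (Lpr_bt (K0.f5046 IH) (Lpe (K2.f5813 IH) (Lpe (K3.f5815 IH) (Lpe (K3.f97467 IH) (Lpr_gf (K4.f109546 IH) (Lpe (K4.f109060 IH) (Lpr_gf (f109057 IH) (Lpn (LP (LK LD1_c7 LD2_c0 LD3_c40)))))))))))))
theorem f426658 : Led Lsl_ff (LP (LK LD1_c7 LD2_c18 LD3_c48)) = (LP (LK LD1_c7 LD2_c16 LD3_c45)) :=
  Lgr Lrot25 (Lpr_bt (f109552 IH) (Lpr_ft (f426656 IH) (Lpr_bt (f94458 IH) (Lpn (LP (LK LD1_c7 LD2_c16 LD3_c45))))))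
theorem f426660 : Led Lsl_ff (LP (LK LD1_c7 LD2_c0 LD3_c40)) = (LP (LK LD1_c3 LD2_c46 LD3_c19)) :=
  Lgr Lrot3 (Lpr_ft (f426656 IH) (Lpn (LP (LK LD1_c3 LD2_c46 LD3_c19))))
theorem f109556 : Led Lsl_bf (LP (LK LD1_c7 LD2_c18 LD3_c48)) = (LP (LK LD1_c7 LD2_c0 LD3_c40)) :=
  Lgr Lrot24 (Lpr_bt (f109552 IH) (Lpn (LP (LK LD1_c7 LD2_c0 LD3_c40))))
theorem f426662 : Led Lsl_ft (LP (LK LD1_c7 LD2_c18 LD3_c48)) = (LP (LK LD1_c7 LD2_c16 LD3_c45)) :=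
  Lgr Lrot75 (Lpr_bf (f109556 IH) (Lpr_ff (f426660 IH) (Lpr_bf (K3.f94452 IH) (Lpn (LP (LK LD1_c7 LD2_c16 LD3_c45))))))
theorem f426664 : Led Lsl_ff (LP (LK LD1_c3 LD2_c39 LD3_c17)) = (LP (LK LD1_c3 LD2_c38 LD3_c12)) :=
  Lgr Lrot23 (Lpr_ct (K24.f5076 IH) (Lpr_ft (f426662 IH) (Lpr_ct (K3.f5631 IH) (Lpn (LP (LK LD1_c3 LD2_c38 LD3_c12))))))
theorem f426671 : Led Lsl_at (LP (LK LD1_c3 LD2_c39 LD3_c17)) = (LP (LK LD1_c3 LD2_c38 LD3_c12)) :=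
  Lgr Lrot26 (Lpr_ff (f426664 IH) (Lpe (K3.f5629 IH) (Lpr_gt (K3.f5062 IH) (Lpn (LP (LK LD1_c3 LD2_c38 LD3_c12))))))
theorem f5556 : Led Lsl_et (LP (LK LD1_c7 LD2_c18 LD3_c49)) = (LP (LK LD1_c3 LD2_c39 LD3_c17)) :=
  Lre_e IH (LK LD1_c7 LD2_c18 LD3_c49) (LK LD1_c3 LD2_c39 LD3_c17) Lrfl Lrfl
theorem f426677 : Led Lsl_et (LP (LK LD1_c3 LD2_c38 LD3_c12)) = (LP (LK LD1_c7 LD2_c16 LD3_c46)) :=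
  Lre_e IH (LK LD1_c3 LD2_c38 LD3_c12) (LK LD1_c7 LD2_c16 LD3_c46) Lrfl Lrfl
theorem f426678 : Led Lsl_af (LP (LK LD1_c7 LD2_c18 LD3_c49)) = (LP (LK LD1_c7 LD2_c16 LD3_c46)) :=
  Lgr Lrot50 (Lpr_et (f5556 IH) (Lpr_at (f426671 IH) (Lpr_et (f426677 IH) (Lpn (LP (LK LD1_c7 LD2_c16 LD3_c46))))))
theorem f426682 : Led Lsl_ct (LP (LK LD1_c7 LD2_c18 LD3_c49)) = (LP (LK LD1_c13 LD2_c50 LD3_c7)) :=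
  Lre_c IH (LK LD1_c7 LD2_c18 LD3_c49) (LK LD1_c13 LD2_c50 LD3_c7) Lrfl Lrfl
theorem f426683 : Led Lsl_at (LP (LK LD1_c13 LD2_c50 LD3_c7)) = (LP (LK LD1_c13 LD2_c46 LD3_c25)) :=
  Lgr Lrot107 (Lpe (f426682 IH) (Lpr_af (f426678 IH) (Lpe (K7.f94467 IH) (Lpn (LP (LK LD1_c13 LD2_c46 LD3_c25))))))
theorem f426686 : Led Lsl_af (LP (LK LD1_c13 LD2_c50 LD3_c7)) = (LP (LK LD1_c13 LD2_c46 LD3_c25)) :=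
  Lgr Lrot0 (Lpr_at (f426683 IH) (Lpn (LP (LK LD1_c13 LD2_c46 LD3_c25))))
theorem f109558 : Led Lsl_et (LP (LK LD1_c13 LD2_c50 LD3_c7)) = (LP (LK LD1_c7 LD2_c18 LD3_c48)) :=
  Lre_e IH (LK LD1_c13 LD2_c50 LD3_c7) (LK LD1_c7 LD2_c18 LD3_c48) Lrfl Lrfl
theorem f94474 : Led Lsl_et (LP (LK LD1_c7 LD2_c16 LD3_c45)) = (LP (LK LD1_c13 LD2_c46 LD3_c25)) :=
  Lre_e IH (LK LD1_c7 LD2_c16 LD3_c45) (LK LD1_c13 LD2_c46 LD3_c25) Lrfl Lrfl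
theorem f426688 : Led Lsl_at (LP (LK LD1_c7 LD2_c18 LD3_c48)) = (LP (LK LD1_c7 LD2_c16 LD3_c45)) :=
  Lgr Lrot80 (Lpe (f109558 IH) (Lpr_af (f426686 IH) (Lpe (f94474 IH) (Lpn (LP (LK LD1_c7 LD2_c16 LD3_c45))))))
theorem f439381 : Led Lsl_gf (LP (LK LD1_c7 LD2_c16 LD3_c45)) = (LP (LK LD1_c7 LD2_c12 LD3_c0)) :=
  Lgr Lrot76 (Lpe (f426688 IH) (Lpr_ff (f426658 IH) (Lpr_gt (f439378 IH) (Lpn (LP (LK LD1_c7 LD2_c12 LD3_c0))))))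
theorem f116216 : Led Lsl_ct (LP (LK LD1_c3 LD2_c35 LD3_c42)) = (LP (LK LD1_c3 LD2_c40 LD3_c47)) :=
  Lgr Lrot59 (Lpr_cf (K24.f116193 IH) (Lpn (LP (LK LD1_c3 LD2_c40 LD3_c47))))
theorem f439404 : Led Lsl_ct (LP (LK LD1_c1 LD2_c46 LD3_c40)) = (LP (LK LD1_c1 LD2_c47 LD3_c22)) :=
  Lgr Lrot64 (Lpr_bt (K8.f5395 IH) (Lpe (K2.f5701 IH) (Lpe (K3.f5064 IH) (Lpr_ct (K3.f5263 IH) (Lpr_gf (K3.f5629 IH) (Lpe (K3.f5631 IH) (Lpr_gf (f439381 IH) (Lpe (f116215 IH) (Lpr_ct (f116216 IH) (Lpe (K24.f116192 IH) (Lpn (LP (LK LD1_c1 LD2_c47 LD3_c22)))))))))))))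
theorem f208955 : Led Lsl_et (LP (LK LD1_c3 LD2_c39 LD3_c28)) = (LP (LK LD1_c1 LD2_c46 LD3_c40)) :=
  Lre_e IH (LK LD1_c3 LD2_c39 LD3_c28) (LK LD1_c1 LD2_c46 LD3_c40) Lrfl Lrfl
theorem f208953 : Led Lsl_et (LP (LK LD1_c1 LD2_c47 LD3_c22)) = (LP (LK LD1_c3 LD2_c40 LD3_c50)) :=
  Lre_e IH (LK LD1_c1 LD2_c47 LD3_c22) (LK LD1_c3 LD2_c40 LD3_c50) Lrfl Lrfl
theorem f439406 : Led Lsl_cf (LP (LK LD1_c3 LD2_c39 LD3_c28)) = (LP (LK LD1_c3 LD2_c40 LD3_c50)) :=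
  Lgr Lrot39 (Lpr_et (f208955 IH) (Lpr_ct (f439404 IH) (Lpr_et (f208953 IH) (Lpn (LP (LK LD1_c3 LD2_c40 LD3_c50))))))
theorem f93166 : Led Lsl_bt (LP (LK LD1_c3 LD2_c39 LD3_c28)) = (LP (LK LD1_c1 LD2_c46 LD3_c41)) :=
  Lre_b IH (LK LD1_c3 LD2_c39 LD3_c28) (LK LD1_c1 LD2_c46 LD3_c41) Lrfl Lrfl
theorem f122356 : Led Lsl_bt (LP (LK LD1_c1 LD2_c47 LD3_c24)) = (LP (LK LD1_c3 LD2_c40 LD3_c50)) :=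
  Lre_b IH (LK LD1_c1 LD2_c47 LD3_c24) (LK LD1_c3 LD2_c40 LD3_c50) Lrfl Lrfl
theorem f122362 : Led Lsl_ct (LP (LK LD1_c0 LD2_c50 LD3_c29)) = (LP (LK LD1_c1 LD2_c47 LD3_c24)) :=
  Lre_c IH (LK LD1_c0 LD2_c50 LD3_c29) (LK LD1_c1 LD2_c47 LD3_c24) Lrfl Lrfl
theorem f128303 : Led Lsl_bf (LP (LK LD1_c0 LD2_c50 LD3_c29)) = (LP (LK LD1_c1 LD2_c42 LD3_c60)) :=
  Lgr Lrot24 (Lpr_bt (K5.f128301 IH) (Lpn (LP (LK LD1_c1 LD2_c42 LD3_c60))))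
theorem f439408 : Led Lsl_ct (LP (LK LD1_c1 LD2_c46 LD3_c41)) = (LP (LK LD1_c1 LD2_c42 LD3_c60)) :=
  Lgr Lrot83 (Lpe (f93166 IH) (Lpr_cf (f439406 IH) (Lpe (f122356 IH) (Lpe (f122362 IH) (Lpr_bf (f128303 IH) (Lpn (LP (LK LD1_c1 LD2_c42 LD3_c60))))))))
theorem f462037 : Led Lsl_gt (LP (LK LD1_c3 LD2_c28 LD3_c8)) = (LP (LK LD1_c1 LD2_c43 LD3_c33)) :=
  Lgr Lrot150 (Lpe (K24.f446472 IH) (Lpe (K24.f455243 IH) (Lpqs (K24.f461944 IH) (Lpe (K24.f456846 IH) (Lpr_gt (K24.f441675 IH) (Lpr_ct (K24.f93159 IH) (Lpe (K24.f93157 IH) (Lpr_ct (f439408 IH) (Lpe (K5.f105997 IH) (Lpe (K8.f108032 IH) (Lpn (LP (LK LD1_c1 LD2_c43 LD3_c33)))))))))))))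
theorem f462041 : Led Lsl_gf (LP (LK LD1_c1 LD2_c40 LD3_c37)) = (LP (LK LD1_c1 LD2_c43 LD3_c33)) :=
  Lgr Lrot76 (Lpe (K24.f455304 IH) (Lpr_ff (K24.f455305 IH) (Lpr_gt (f462037 IH) (Lpn (LP (LK LD1_c1 LD2_c43 LD3_c33))))))
theorem f15759 : Led Lsl_ct (LP (LK LD1_c0 LD2_c46 LD3_c45)) = (LP (LK LD1_c1 LD2_c40 LD3_c37)) :=
  Lre_c IH (LK LD1_c0 LD2_c46 LD3_c45) (LK LD1_c1 LD2_c40 LD3_c37) Lrfl Lrfl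
def v105 : LQ := Led Lsl_gf (LP (LK LD1_c0 LD2_c10 LD3_c53))
theorem f448779 : Led Lsl_gf (LP (LK LD1_c0 LD2_c10 LD3_c53)) = v105 :=
  Lrfl
theorem f448780 : Led Lsl_gt (LP (LK LD1_c0 LD2_c24 LD3_c27)) = v105 :=
  Lgr Lrot5 (Lpr_ft (K0.f11158 IH) (Lpe (K0.f11148 IH) (Lpr_gf (f448779 IH) (Lpn v105))))
def v242 : LQ := Led Lsl_ft (LP (LK LD1_c0 LD2_c24 LD3_c21))
theorem f451299 : Led Lsl_ft (LP (LK LD1_c0 LD2_c24 LD3_c21)) = v242 :=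
  Lrfl
theorem f451300 : Led Lsl_af (LP (LK LD1_c0 LD2_c24 LD3_c25)) = v242 :=
  Lgr Lrot45 (Lpr_ft (K24.f451286 IH) (Lpe (K24.f451283 IH) (Lpr_ft (f451299 IH) (Lpn v242))))
theorem f451303 : Led Lsl_gt K24.v237 = (LP (LK LD1_c0 LD2_c24 LD3_c25)) :=
  Lgr Lrot46 (Lpe (K24.f451272 IH) (Lpr_ft (f451299 IH) (Lpe (f451300 IH) (Lpn (LP (LK LD1_c0 LD2_c24 LD3_c25))))))
theorem f457699 : (LP (LK LD1_c0 LD2_c24 LD3_c25)) = v105 :=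
  Lefun (Lecon (f451303 IH) (K24.f457688 IH).symm) (f448780 IH)
theorem f11316 : Led Lsl_bt (LP (LK LD1_c0 LD2_c10 LD3_c51)) = (LP (LK LD1_c0 LD2_c24 LD3_c24)) :=
  Lre_b IH (LK LD1_c0 LD2_c10 LD3_c51) (LK LD1_c0 LD2_c24 LD3_c24) Lrfl Lrfl
theorem f462169 : K24.v249 = (LP (LK LD1_c0 LD2_c50 LD3_c49)) :=
  (Llr Lrot164 (Lpe (K24.f451350 IH) (Lpe (f11316 IH) (Lpr_ct (K24.f11237 IH) (Lpqs (f457699 IH) (Lpe (f448780 IH) (Lpr_cf (K24.f15723 IH) (Lpr_gf (K24.f15749 IH) (Lpe (K24.f15753 IH) (Lpr_ct (f15759 IH) (Lpr_gf (f462041 IH) (Lpr_cf (K8.f108025 IH) (Lpe (K8.f26193 IH) (Lpn (LP (LK LD1_c0 LD2_c50 LD3_c49)))))))))))))))).symm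
theorem f159385 : Led Lsl_ff (LP (LK LD1_c0 LD2_c22 LD3_c57)) = (LP (LK LD1_c0 LD2_c22 LD3_c43)) :=
  Lgr Lrot23 (Lpr_ct (K4.f26197 IH) (Lpr_ft (K8.f159379 IH) (Lpr_ct (K4.f12359 IH) (Lpn (LP (LK LD1_c0 LD2_c22 LD3_c43))))))
theorem f124353 : Led Lsl_ft (LP (LK LD1_c0 LD2_c22 LD3_c47)) = (LP (LK LD1_c0 LD2_c22 LD3_c60)) :=
  Lgr Lrot75 (Lpe (K6.f95903 IH) (Lpr_ff (K5.f124349 IH) (Lpe (K4.f120962 IH) (Lpn (LP (LK LD1_c0 LD2_c22 LD3_c60))))))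
theorem f146838 : Led Lsl_af (LP (LK LD1_c0 LD2_c22 LD3_c43)) = (LP (LK LD1_c0 LD2_c22 LD3_c60)) :=
  Lgr Lrot109 (Lpe (K4.f12359 IH) (Lpe (K6.f12365 IH) (Lpr_cf (K6.f146832 IH) (Lpr_df (K6.f144139 IH) (Lpr_cf (K5.f125678 IH) (Lpe (K4.f107291 IH) (Lpe (K4.f107283 IH) (Lpe (K4.f23678 IH) (Lpr_ft (f124353 IH) (Lpn (LP (LK LD1_c0 LD2_c22 LD3_c60))))))))))))
theorem f159487 : Led Lsl_at (LP (LK LD1_c0 LD2_c22 LD3_c57)) = (LP (LK LD1_c0 LD2_c22 LD3_c47)) :=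
  Lgr Lrot66 (Lpr_ff (f159385 IH) (Lpr_af (f146838 IH) (Lpe (f124353 IH) (Lpn (LP (LK LD1_c0 LD2_c22 LD3_c47))))))
theorem f147785 : Led Lsl_et (LP (LK LD1_c0 LD2_c22 LD3_c47)) = (LP (LK LD1_c0 LD2_c50 LD3_c25)) :=
  Lre_e IH (LK LD1_c0 LD2_c22 LD3_c47) (LK LD1_c0 LD2_c50 LD3_c25) Lrfl Lrfl
theorem f159489 : Led Lsl_af (LP (LK LD1_c0 LD2_c50 LD3_c49)) = (LP (LK LD1_c0 LD2_c50 LD3_c25)) :=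
  Lgr Lrot50 (Lpr_et (K8.f26191 IH) (Lpr_at (f159487 IH) (Lpr_et (f147785 IH) (Lpn (LP (LK LD1_c0 LD2_c50 LD3_c25))))))
theorem f84699 : Led Lsl_et (LP (LK LD1_c0 LD2_c48 LD3_c8)) = (LP (LK LD1_c1 LD2_c42 LD3_c60)) :=
  Lre_e IH (LK LD1_c0 LD2_c48 LD3_c8) (LK LD1_c1 LD2_c42 LD3_c60) Lrfl Lrfl
theorem f105961 : Led Lsl_df (LP (LK LD1_c1 LD2_c46 LD3_c4)) = (LP (LK LD1_c1 LD2_c42 LD3_c60)) :=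
  Lgr Lrot70 (Lpr_et (K5.f26207 IH) (Lpr_dt (K3.f5259 IH) (Lpr_et (K3.f105955 IH) (Lpr_dt (K2.f10782 IH) (Lpr_et (f84699 IH) (Lpn (LP (LK LD1_c1 LD2_c42 LD3_c60))))))))
theorem f128308 : Led Lsl_df (LP (LK LD1_c0 LD2_c50 LD3_c29)) = (LP (LK LD1_c0 LD2_c50 LD3_c49)) :=
  Lgr Lrot12 (Lpr_bt (K5.f128301 IH) (Lpe (f105961 IH) (Lpe (K8.f26193 IH) (Lpn (LP (LK LD1_c0 LD2_c50 LD3_c49))))))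
theorem f159492 : Led Lsl_dt (LP (LK LD1_c0 LD2_c51 LD3_c17)) = (LP (LK LD1_c0 LD2_c50 LD3_c25)) :=
  Lgr Lrot44 (Lpe (K4.f122342 IH) (Lpr_df (f128308 IH) (Lpr_af (f159489 IH) (Lpn (LP (LK LD1_c0 LD2_c50 LD3_c25))))))
theorem f159495 : Led Lsl_df (LP (LK LD1_c0 LD2_c51 LD3_c17)) = (LP (LK LD1_c0 LD2_c50 LD3_c25)) :=
  Lgr Lrot38 (Lpr_dt (f159492 IH) (Lpn (LP (LK LD1_c0 LD2_c50 LD3_c25))))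
theorem f26204 : Led Lsl_ct (LP (LK LD1_c1 LD2_c48 LD3_c8)) = (LP (LK LD1_c0 LD2_c50 LD3_c49)) :=
  Lre_c IH (LK LD1_c1 LD2_c48 LD3_c8) (LK LD1_c0 LD2_c50 LD3_c49) Lrfl Lrfl
theorem f132099 : Led Lsl_ct (LP (LK LD1_c0 LD2_c50 LD3_c25)) = (LP (LK LD1_c1 LD2_c47 LD3_c14)) :=
  Lre_c IH (LK LD1_c0 LD2_c50 LD3_c25) (LK LD1_c1 LD2_c47 LD3_c14) Lrfl Lrfl
theorem f159362 : Led Lsl_at (LP (LK LD1_c0 LD2_c50 LD3_c49)) = (LP (LK LD1_c0 LD2_c50 LD3_c25)) :=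
  Lgr Lrot107 (Lpe (f26204 IH) (Lpr_af (K8.f159353 IH) (Lpe (f132099 IH) (Lpn (LP (LK LD1_c0 LD2_c50 LD3_c25))))))
theorem f159499 : Led Lsl_dt (LP (LK LD1_c0 LD2_c50 LD3_c29)) = (LP (LK LD1_c0 LD2_c50 LD3_c49)) :=
  Lgr Lrot44 (Lpr_af (K5.f122344 IH) (Lpr_df (f159495 IH) (Lpe (f159362 IH) (Lpn (LP (LK LD1_c0 LD2_c50 LD3_c49))))))
theorem f4894 : Led Lsl_et (LP (LK LD1_c0 LD2_c50 LD3_c29)) = (LP (LK LD1_c0 LD2_c22 LD3_c49)) :=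
  Lre_e IH (LK LD1_c0 LD2_c50 LD3_c29) (LK LD1_c0 LD2_c22 LD3_c49) Lrfl Lrfl
theorem f147774 : Led Lsl_gf (LP (LK LD1_c0 LD2_c10 LD3_c16)) = (LP (LK LD1_c0 LD2_c10 LD3_c22)) :=
  Lgr Lrot143 (Lpr_dt (K3.f23679 IH) (Lpe (K3.f95902 IH) (Lpe (K5.f107302 IH) (Lpr_gf (K5.f129147 IH) (Lpe (K5.f12583 IH) (Lpe (K6.f12577 IH) (Lpe (K6.f12574 IH) (Lpr_gt (K7.f147768 IH) (Lpr_dt (K7.f147741 IH) (Lpn (LP (LK LD1_c0 LD2_c10 LD3_c22))))))))))))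
theorem f462396 : K24.v235 = (LP (LK LD1_c0 LD2_c50 LD3_c25)) :=
  (Llr Lrot141 (Lpe (K24.f451252 IH) (Lpe (K24.f11354 IH) (Lpe (K24.f11327 IH) (Lpr_gt (K24.f451350 IH) (Lpqs (f462169 IH) (Lpe (f159499 IH) (Lpr_et (f4894 IH) (Lpr_gt (K7.f147768 IH) (Lpr_dt (K7.f147741 IH) (Lpe (f147774 IH) (Lpe (K4.f23678 IH) (Lpr_et (f147785 IH) (Lpn (LP (LK LD1_c0 LD2_c50 LD3_c25)))))))))))))))).symm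
theorem f159491 : Led Lsl_bt (LP (LK LD1_c1 LD2_c47 LD3_c10)) = (LP (LK LD1_c0 LD2_c50 LD3_c25)) :=
  Lre_b IH (LK LD1_c1 LD2_c47 LD3_c10) (LK LD1_c0 LD2_c50 LD3_c25) Lrfl Lrfl
theorem f420090 : Led Lsl_ct (LP (LK LD1_c1 LD2_c47 LD3_c10)) = (LP (LK LD1_c3 LD2_c40 LD3_c26)) :=
  Lre_c IH (LK LD1_c1 LD2_c47 LD3_c10) (LK LD1_c3 LD2_c40 LD3_c26) Lrfl Lrfl
theorem f463246 : Led Lsl_gt (LP (LK LD1_c3 LD2_c26 LD3_c20)) = (LP (LK LD1_c3 LD2_c40 LD3_c26)) :=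
  Lgr Lrot149 (Lpe (K24.f16725 IH) (Lpe (K2.f15721 IH) (Lpe (K0.f15707 IH) (Lpe (K24.f15723 IH) (Lpqs (K24.f457688 IH) (Lpe (K24.f451272 IH) (Lpe (K24.f11197 IH) (Lpr_bt (K24.f448769 IH) (Lpr_gf (K24.f451252 IH) (Lpqs (f462396 IH) (Lpe (f159491 IH) (Lpr_ct (f420090 IH) (Lpn (LP (LK LD1_c3 LD2_c40 LD3_c26)))))))))))))))
theorem f17289 : Led Lsl_dt (LP (LK LD1_c0 LD2_c46 LD3_c41)) = (LP (LK LD1_c1 LD2_c38 LD3_c52)) :=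
  Lre_d IH (LK LD1_c0 LD2_c46 LD3_c41) (LK LD1_c1 LD2_c38 LD3_c52) Lrfl Lrfl
theorem f18560 : Led Lsl_ct (LP (LK LD1_c3 LD2_c24 LD3_c31)) = (LP (LK LD1_c6 LD2_c51 LD3_c39)) :=
  Lre_c IH (LK LD1_c3 LD2_c24 LD3_c31) (LK LD1_c6 LD2_c51 LD3_c39) Lrfl Lrfl
theorem f420091 : Led Lsl_ct (LP (LK LD1_c3 LD2_c40 LD3_c26)) = (LP (LK LD1_c1 LD2_c47 LD3_c10)) :=
  Lre_c IH (LK LD1_c3 LD2_c40 LD3_c26) (LK LD1_c1 LD2_c47 LD3_c10) Lrfl Lrfl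
theorem f107307 : Led Lsl_et (LP (LK LD1_c1 LD2_c47 LD3_c10)) = (LP (LK LD1_c0 LD2_c50 LD3_c22)) :=
  Lre_e IH (LK LD1_c1 LD2_c47 LD3_c10) (LK LD1_c0 LD2_c50 LD3_c22) Lrfl Lrfl
theorem f18084 : Led Lsl_ct (LP (LK LD1_c1 LD2_c41 LD3_c44)) = (LP (LK LD1_c0 LD2_c47 LD3_c34)) :=
  Lre_c IH (LK LD1_c1 LD2_c41 LD3_c44) (LK LD1_c0 LD2_c47 LD3_c34) Lrfl Lrfl
theorem f124887 : Led Lsl_df (LP (LK LD1_c0 LD2_c51 LD3_c15)) = (LP (LK LD1_c0 LD2_c45 LD3_c55)) :=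
  Lgr Lrot155 (Lpr_gt (K4.f116538 IH) (Lpe (K4.f107346 IH) (Lpe (K2.f18228 IH) (Lpr_ct (f18084 IH) (Lpe (K2.f18078 IH) (Lpe (K2.f18076 IH) (Lpe (K2.f66809 IH) (Lpr_cf (K2.f90094 IH) (Lpr_gf (K5.f124875 IH) (Lpn (LP (LK LD1_c0 LD2_c45 LD3_c55))))))))))))
theorem f122003 : Led Lsl_et (LP (LK LD1_c0 LD2_c51 LD3_c15)) = (LP (LK LD1_c1 LD2_c48 LD3_c58)) :=
  Lre_e IH (LK LD1_c0 LD2_c51 LD3_c15) (LK LD1_c1 LD2_c48 LD3_c58) Lrfl Lrfl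
theorem f124901 : Led Lsl_df (LP (LK LD1_c1 LD2_c47 LD3_c10)) = (LP (LK LD1_c1 LD2_c48 LD3_c58)) :=
  Lgr Lrot70 (Lpr_et (f107307 IH) (Lpr_dt (K5.f95912 IH) (Lpr_et (K5.f124889 IH) (Lpe (f124887 IH) (Lpr_et (f122003 IH) (Lpn (LP (LK LD1_c1 LD2_c48 LD3_c58))))))))
theorem f419387 : Led Lsl_ct (LP (LK LD1_c14 LD2_c15 LD3_c57)) = (LP (LK LD1_c7 LD2_c33 LD3_c57)) :=
  Lre_c IH (LK LD1_c14 LD2_c15 LD3_c57) (LK LD1_c7 LD2_c33 LD3_c57) Lrfl Lrfl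
theorem f117160 : Led Lsl_bt (LP (LK LD1_c4 LD2_c37 LD3_c8)) = (LP (LK LD1_c7 LD2_c40 LD3_c58)) :=
  Lgr Lrot127 (Lpr_bf (K4.f117152 IH) (Lpn (LP (LK LD1_c7 LD2_c40 LD3_c58))))
theorem f148944 : Led Lsl_gf (LP (LK LD1_c2 LD2_c49 LD3_c60)) = (LP (LK LD1_c2 LD2_c27 LD3_c2)) :=
  Lgr Lrot147 (Lpr_ct (K6.f100281 IH) (Lpr_gt (K4.f99664 IH) (Lpr_ct (K4.f99657 IH) (Lpe (K5.f57103 IH) (Lpe (K2.f72253 IH) (Lpe (K2.f72254 IH) (Lpe (K7.f20414 IH) (Lpr_gf (K7.f148936 IH) (Lpe (K6.f138921 IH) (Lpn (LP (LK LD1_c2 LD2_c27 LD3_c2))))))))))))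
theorem f157026 : Led Lsl_cf (LP (LK LD1_c2 LD2_c27 LD3_c2)) = (LP (LK LD1_c4 LD2_c39 LD3_c59)) :=
  Lgr Lrot11 (Lpr_ct (K8.f157020 IH) (Lpn (LP (LK LD1_c4 LD2_c39 LD3_c59))))
theorem f161751 : Led Lsl_bt (LP (LK LD1_c4 LD2_c39 LD3_c59)) = (LP (LK LD1_c5 LD2_c55 LD3_c36)) :=
  Lgr Lrot128 (Lpe (K8.f157020 IH) (Lpe (K8.f138953 IH) (Lpe (K4.f74280 IH) (Lpe (K6.f81914 IH) (Lpr_cf (K8.f161747 IH) (Lpn (LP (LK LD1_c5 LD2_c55 LD3_c36))))))))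
theorem f419411 : Led Lsl_gt (LP (LK LD1_c7 LD2_c33 LD3_c57)) = (LP (LK LD1_c7 LD2_c31 LD3_c37)) :=
  Lgr Lrot149 (Lpe (f419387 IH) (Lpr_gf (f419397 IH) (Lpe (f117160 IH) (Lpe (K4.f100250 IH) (Lpr_gf (f148944 IH) (Lpr_cf (f157026 IH) (Lpr_bt (f161751 IH) (Lpe (K8.f161229 IH) (Lpe (K8.f96080 IH) (Lpr_ct (K4.f96085 IH) (Lpn (LP (LK LD1_c7 LD2_c31 LD3_c37)))))))))))))
theorem f162742 : Led Lsl_at (LP (LK LD1_c12 LD2_c1 LD3_c55)) = (LP (LK LD1_c7 LD2_c31 LD3_c37)) :=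
  Lgr Lrot66 (Lpr_ff (K8.f162108 IH) (Lpe (K8.f162697 IH) (Lpr_ff (K8.f162740 IH) (Lpn (LP (LK LD1_c7 LD2_c31 LD3_c37))))))
theorem f419414 : Led Lsl_gf (LP (LK LD1_c7 LD2_c33 LD3_c57)) = (LP (LK LD1_c7 LD2_c31 LD3_c40)) :=
  Lgr Lrot47 (Lpr_gt (f419411 IH) (Lpe (f162742 IH) (Lpr_ff (K8.f162108 IH) (Lpn (LP (LK LD1_c7 LD2_c31 LD3_c40))))))
theorem f419407 : Led Lsl_dt (LP (LK LD1_c7 LD2_c33 LD3_c57)) = (LP (LK LD1_c3 LD2_c46 LD3_c32)) :=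
  Lre_d IH (LK LD1_c7 LD2_c33 LD3_c57) (LK LD1_c3 LD2_c46 LD3_c32) Lrfl Lrfl
theorem f122191 : Led Lsl_gt (LP (LK LD1_c7 LD2_c22 LD3_c17)) = (LP (LK LD1_c7 LD2_c28 LD3_c10)) :=
  Lgr Lrot46 (Lpe (K6.f122190 IH) (Lpr_ft (K5.f122168 IH) (Lpr_at (K7.f122177 IH) (Lpn (LP (LK LD1_c7 LD2_c28 LD3_c10))))))
theorem f122159 : Led Lsl_dt (LP (LK LD1_c7 LD2_c28 LD3_c10)) = (LP (LK LD1_c3 LD2_c43 LD3_c47)) :=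
  Lre_d IH (LK LD1_c7 LD2_c28 LD3_c10) (LK LD1_c3 LD2_c43 LD3_c47) Lrfl Lrfl
theorem f419421 : Led Lsl_ct (LP (LK LD1_c3 LD2_c46 LD3_c32)) = (LP (LK LD1_c3 LD2_c43 LD3_c47)) :=
  Lgr Lrot7 (Lpe (f419407 IH) (Lpr_gf (f419414 IH) (Lpr_df (K8.f157299 IH) (Lpe (K6.f102622 IH) (Lpe (K8.f142683 IH) (Lpr_gt (K6.f142327 IH) (Lpe (K8.f142643 IH) (Lpr_gt (f122191 IH) (Lpr_dt (f122159 IH) (Lpn (LP (LK LD1_c3 LD2_c43 LD3_c47))))))))))))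
theorem f419428 : Led Lsl_et (LP (LK LD1_c7 LD2_c33 LD3_c58)) = (LP (LK LD1_c3 LD2_c46 LD3_c32)) :=
  Lre_e IH (LK LD1_c7 LD2_c33 LD3_c58) (LK LD1_c3 LD2_c46 LD3_c32) Lrfl Lrfl
theorem f122197 : Led Lsl_et (LP (LK LD1_c3 LD2_c43 LD3_c47)) = (LP (LK LD1_c7 LD2_c28 LD3_c11)) :=
  Lre_e IH (LK LD1_c3 LD2_c43 LD3_c47) (LK LD1_c7 LD2_c28 LD3_c11) Lrfl Lrfl
theorem f419429 : Led Lsl_cf (LP (LK LD1_c7 LD2_c33 LD3_c58)) = (LP (LK LD1_c7 LD2_c28 LD3_c11)) :=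
  Lgr Lrot39 (Lpr_et (f419428 IH) (Lpr_ct (f419421 IH) (Lpr_et (f122197 IH) (Lpn (LP (LK LD1_c7 LD2_c28 LD3_c11))))))
theorem f420068 : Led Lsl_ct (LP (LK LD1_c7 LD2_c33 LD3_c58)) = (LP (LK LD1_c7 LD2_c28 LD3_c11)) :=
  Lgr Lrot59 (Lpr_cf (f419429 IH) (Lpn (LP (LK LD1_c7 LD2_c28 LD3_c11))))
theorem f62808 : Led Lsl_bt (LP (LK LD1_c3 LD2_c46 LD3_c32)) = (LP (LK LD1_c1 LD2_c50 LD3_c24)) :=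
  Lre_b IH (LK LD1_c3 LD2_c46 LD3_c32) (LK LD1_c1 LD2_c50 LD3_c24) Lrfl Lrfl
theorem f122138 : Led Lsl_at (LP (LK LD1_c1 LD2_c48 LD3_c59)) = (LP (LK LD1_c3 LD2_c43 LD3_c47)) :=
  Lre_a IH (LK LD1_c1 LD2_c48 LD3_c59) (LK LD1_c3 LD2_c43 LD3_c47) Lrfl Lrfl
theorem f122152 : Led Lsl_gt (LP (LK LD1_c3 LD2_c41 LD3_c0)) = (LP (LK LD1_c3 LD2_c43 LD3_c47)) :=
  Lgr Lrot46 (Lpe (K6.f108790 IH) (Lpr_ft (K4.f122135 IH) (Lpr_at (f122138 IH) (Lpn (LP (LK LD1_c3 LD2_c43 LD3_c47))))))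
theorem f137053 : Led Lsl_ct (LP (LK LD1_c3 LD2_c29 LD3_c51)) = (LP (LK LD1_c3 LD2_c41 LD3_c0)) :=
  Lgr Lrot40 (Lpe (K6.f115824 IH) (Lpe (K7.f136963 IH) (Lpr_ff (K6.f137049 IH) (Lpn (LP (LK LD1_c3 LD2_c41 LD3_c0))))))
theorem f419435 : Led Lsl_gt (LP (LK LD1_c1 LD2_c50 LD3_c24)) = (LP (LK LD1_c3 LD2_c29 LD3_c39)) :=
  Lgr Lrot164 (Lpe (f62808 IH) (Lpr_ct (f419421 IH) (Lpe (f122152 IH) (Lpe (f137053 IH) (Lpe (K4.f115814 IH) (Lpr_bf (K4.f111074 IH) (Lpr_ct (K4.f111051 IH) (Lpr_gf (K4.f111040 IH) (Lpe (K3.f108984 IH) (Lpr_bt (K3.f109009 IH) (Lpn (LP (LK LD1_c3 LD2_c29 LD3_c39)))))))))))))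
theorem f121860 : Led Lsl_af (LP (LK LD1_c1 LD2_c50 LD3_c25)) = (LP (LK LD1_c3 LD2_c29 LD3_c37)) :=
  Lgr Lrot0 (Lpr_at (K4.f121858 IH) (Lpn (LP (LK LD1_c3 LD2_c29 LD3_c37))))
theorem f419437 : Led Lsl_ft (LP (LK LD1_c1 LD2_c50 LD3_c24)) = (LP (LK LD1_c3 LD2_c29 LD3_c37)) :=
  Lgr Lrot2 (Lpr_gt (f419435 IH) (Lpe (K3.f109018 IH) (Lpr_af (f121860 IH) (Lpn (LP (LK LD1_c3 LD2_c29 LD3_c37))))))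
theorem f419447 : Led Lsl_ff (LP (LK LD1_c1 LD2_c50 LD3_c24)) = (LP (LK LD1_c3 LD2_c29 LD3_c37)) :=
  Lgr Lrot3 (Lpr_ft (f419437 IH) (Lpn (LP (LK LD1_c3 LD2_c29 LD3_c37))))
theorem f157515 : Led Lsl_df (LP (LK LD1_c7 LD2_c39 LD3_c34)) = (LP (LK LD1_c7 LD2_c0 LD3_c49)) :=
  Lgr Lrot38 (Lpr_dt (K8.f157511 IH) (Lpn (LP (LK LD1_c7 LD2_c0 LD3_c49))))
theorem f157517 : Led Lsl_dt (LP (LK LD1_c3 LD2_c49 LD3_c22)) = (LP (LK LD1_c3 LD2_c29 LD3_c37)) :=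
  Lgr Lrot79 (Lpe (K8.f87191 IH) (Lpr_df (f157515 IH) (Lpe (K8.f121862 IH) (Lpn (LP (LK LD1_c3 LD2_c29 LD3_c37))))))
theorem f419453 : Led Lsl_ft (LP (LK LD1_c3 LD2_c46 LD3_c33)) = (LP (LK LD1_c3 LD2_c49 LD3_c22)) :=
  Lgr Lrot54 (Lpe (f14697 IH) (Lpr_ff (f419447 IH) (Lpe (f157517 IH) (Lpn (LP (LK LD1_c3 LD2_c49 LD3_c22))))))
theorem f419458 : Led Lsl_ff (LP (LK LD1_c7 LD2_c33 LD3_c57)) = (LP (LK LD1_c7 LD2_c39 LD3_c34)) :=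
  Lgr Lrot25 (Lpr_bt (f419386 IH) (Lpr_ft (f419453 IH) (Lpr_bt (K8.f87367 IH) (Lpn (LP (LK LD1_c7 LD2_c39 LD3_c34))))))
theorem f419590 : Led Lsl_at (LP (LK LD1_c7 LD2_c33 LD3_c57)) = (LP (LK LD1_c6 LD2_c53 LD3_c7)) :=
  Lgr Lrot26 (Lpr_ff (f419458 IH) (Lpe (K8.f162949 IH) (Lpr_gt (K8.f151479 IH) (Lpn (LP (LK LD1_c6 LD2_c53 LD3_c7))))))
theorem f419417 : Led Lsl_et (LP (LK LD1_c14 LD2_c15 LD3_c58)) = (LP (LK LD1_c7 LD2_c33 LD3_c57)) :=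
  Lre_e IH (LK LD1_c14 LD2_c15 LD3_c58) (LK LD1_c7 LD2_c33 LD3_c57) Lrfl Lrfl
theorem f121994 : Led Lsl_et (LP (LK LD1_c6 LD2_c53 LD3_c7)) = (LP (LK LD1_c13 LD2_c5 LD3_c14)) :=
  Lre_e IH (LK LD1_c6 LD2_c53 LD3_c7) (LK LD1_c13 LD2_c5 LD3_c14) Lrfl Lrfl
theorem f419596 : Led Lsl_af (LP (LK LD1_c14 LD2_c15 LD3_c58)) = (LP (LK LD1_c13 LD2_c5 LD3_c14)) :=
  Lgr Lrot50 (Lpr_et (f419417 IH) (Lpr_at (f419590 IH) (Lpr_et (f121994 IH) (Lpn (LP (LK LD1_c13 LD2_c5 LD3_c14))))))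
theorem f419418 : Led Lsl_dt (LP (LK LD1_c14 LD2_c15 LD3_c58)) = (LP (LK LD1_c23 LD2_c52 LD3_c39)) :=
  Lre_d IH (LK LD1_c14 LD2_c15 LD3_c58) (LK LD1_c23 LD2_c52 LD3_c39) Lrfl Lrfl
theorem f121991 : Led Lsl_dt (LP (LK LD1_c22 LD2_c15 LD3_c56)) = (LP (LK LD1_c13 LD2_c5 LD3_c14)) :=
  Lre_d IH (LK LD1_c22 LD2_c15 LD3_c56) (LK LD1_c13 LD2_c5 LD3_c14) Lrfl Lrfl
theorem f419604 : Led Lsl_at (LP (LK LD1_c23 LD2_c52 LD3_c39)) = (LP (LK LD1_c22 LD2_c15 LD3_c56)) :=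
  Lgr Lrot51 (Lpe (f419418 IH) (Lpr_af (f419596 IH) (Lpe (f121991 IH) (Lpn (LP (LK LD1_c22 LD2_c15 LD3_c56))))))
theorem f419612 : Led Lsl_et (LP (LK LD1_c14 LD2_c15 LD3_c61)) = (LP (LK LD1_c23 LD2_c52 LD3_c39)) :=
  Lre_e IH (LK LD1_c14 LD2_c15 LD3_c61) (LK LD1_c23 LD2_c52 LD3_c39) Lrfl Lrfl
theorem f419613 : Led Lsl_et (LP (LK LD1_c22 LD2_c15 LD3_c56)) = (LP (LK LD1_c13 LD2_c5 LD3_c17)) :=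
  Lre_e IH (LK LD1_c22 LD2_c15 LD3_c56) (LK LD1_c13 LD2_c5 LD3_c17) Lrfl Lrfl
theorem f419614 : Led Lsl_af (LP (LK LD1_c14 LD2_c15 LD3_c61)) = (LP (LK LD1_c13 LD2_c5 LD3_c17)) :=
  Lgr Lrot50 (Lpr_et (f419612 IH) (Lpr_at (f419604 IH) (Lpr_et (f419613 IH) (Lpn (LP (LK LD1_c13 LD2_c5 LD3_c17))))))
theorem f419623 : Led Lsl_dt (LP (LK LD1_c14 LD2_c15 LD3_c61)) = (LP (LK LD1_c7 LD2_c33 LD3_c58)) :=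
  Lre_d IH (LK LD1_c14 LD2_c15 LD3_c61) (LK LD1_c7 LD2_c33 LD3_c58) Lrfl Lrfl
theorem f151475 : Led Lsl_dt (LP (LK LD1_c6 LD2_c53 LD3_c8)) = (LP (LK LD1_c13 LD2_c5 LD3_c17)) :=
  Lre_d IH (LK LD1_c6 LD2_c53 LD3_c8) (LK LD1_c13 LD2_c5 LD3_c17) Lrfl Lrfl
theorem f419624 : Led Lsl_at (LP (LK LD1_c7 LD2_c33 LD3_c58)) = (LP (LK LD1_c6 LD2_c53 LD3_c8)) :=
  Lgr Lrot51 (Lpe (f419623 IH) (Lpr_af (f419614 IH) (Lpe (f151475 IH) (Lpn (LP (LK LD1_c6 LD2_c53 LD3_c8))))))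
theorem f419629 : Led Lsl_af (LP (LK LD1_c7 LD2_c33 LD3_c58)) = (LP (LK LD1_c6 LD2_c53 LD3_c8)) :=
  Lgr Lrot0 (Lpr_at (f419624 IH) (Lpn (LP (LK LD1_c6 LD2_c53 LD3_c8))))
theorem f122358 : Led Lsl_at (LP (LK LD1_c7 LD2_c28 LD3_c11)) = (LP (LK LD1_c3 LD2_c43 LD3_c49)) :=
  Lre_a IH (LK LD1_c7 LD2_c28 LD3_c11) (LK LD1_c3 LD2_c43 LD3_c49) Lrfl Lrfl
theorem f420071 : Led Lsl_cf (LP (LK LD1_c6 LD2_c53 LD3_c8)) = (LP (LK LD1_c3 LD2_c43 LD3_c49)) :=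
  Lgr Lrot1 (Lpe (f419629 IH) (Lpr_ct (f420068 IH) (Lpr_at (f122358 IH) (Lpn (LP (LK LD1_c3 LD2_c43 LD3_c49))))))
theorem f121911 : Led Lsl_bt (LP (LK LD1_c6 LD2_c53 LD3_c8)) = (LP (LK LD1_c3 LD2_c25 LD3_c36)) :=
  Lre_b IH (LK LD1_c6 LD2_c53 LD3_c8) (LK LD1_c3 LD2_c25 LD3_c36) Lrfl Lrfl
theorem f159501 : Led Lsl_bt (LP (LK LD1_c1 LD2_c48 LD3_c61)) = (LP (LK LD1_c3 LD2_c43 LD3_c49)) :=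
  Lre_b IH (LK LD1_c1 LD2_c48 LD3_c61) (LK LD1_c3 LD2_c43 LD3_c49) Lrfl Lrfl
theorem f420077 : Led Lsl_ct (LP (LK LD1_c3 LD2_c25 LD3_c36)) = (LP (LK LD1_c1 LD2_c48 LD3_c58)) :=
  Lgr Lrot83 (Lpe (f121911 IH) (Lpr_cf (f420071 IH) (Lpe (f159501 IH) (Lpe (K4.f122348 IH) (Lpe (K5.f128300 IH) (Lpn (LP (LK LD1_c1 LD2_c48 LD3_c58))))))))
theorem f463248 : Led Lsl_gt (LP (LK LD1_c6 LD2_c51 LD3_c39)) = (LP (LK LD1_c3 LD2_c25 LD3_c36)) :=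
  Lgr Lrot150 (Lpe (f18560 IH) (Lpe (K24.f17290 IH) (Lpe (f17289 IH) (Lpr_gt (K2.f15721 IH) (Lpr_ct (K24.f16725 IH) (Lpr_gt (f463246 IH) (Lpr_ct (f420091 IH) (Lpr_df (f124901 IH) (Lpe (f420077 IH) (Lpn (LP (LK LD1_c3 LD2_c25 LD3_c36))))))))))))
theorem f450713 : Led Lsl_bt (LP (LK LD1_c0 LD2_c21 LD3_c18)) = (LP (LK LD1_c0 LD2_c47 LD3_c39)) :=
  Lre_b IH (LK LD1_c0 LD2_c21 LD3_c18) (LK LD1_c0 LD2_c47 LD3_c39) Lrfl Lrfl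
theorem f420088 : Led Lsl_cf (LP (LK LD1_c3 LD2_c25 LD3_c36)) = (LP (LK LD1_c1 LD2_c48 LD3_c58)) :=
  Lgr Lrot11 (Lpr_ct (f420077 IH) (Lpn (LP (LK LD1_c1 LD2_c48 LD3_c58))))
theorem f463253 : K24.v631 = (LP (LK LD1_c0 LD2_c51 LD3_c17)) :=
  (Llr Lrot124 (Lpe (K24.f455619 IH) (Lpe (f450713 IH) (Lpr_ct (K24.f446537 IH) (Lpqs (K24.f457660 IH) (Lpe (K24.f450727 IH) (Lpr_cf (K2.f18545 IH) (Lpr_bt (K24.f15814 IH) (Lpr_gt (K24.f17290 IH) (Lpr_ct (f18560 IH) (Lpr_gt (f463248 IH) (Lpr_cf (f420088 IH) (Lpr_bt (K5.f128300 IH) (Lpn (LP (LK LD1_c0 LD2_c51 LD3_c17)))))))))))))))).symm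
theorem f463254 : (LP (LK LD1_c0 LD2_c47 LD3_c39)) = K24.v806 :=
  Lefun (Lecon (Lfl_gf (K24.f455619 IH)) (f463253 IH)) (K24.f459480 IH)
theorem f463258 : K24.v769 = (LP (LK LD1_c1 LD2_c42 LD3_c15)) :=
  Lefun (Lecon (K24.f459490 IH) (f463254 IH).symm) (K24.f455618 IH)
def v789 : LQ := Led Lsl_ft (LP (LK LD1_c0 LD2_c50 LD3_c49))
theorem f459386 : Led Lsl_ft (LP (LK LD1_c0 LD2_c50 LD3_c49)) = v789 :=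
  Lrfl
theorem f459388 : Led Lsl_df K24.v769 = v789 :=
  Lgr Lrot78 (Lpe (K24.f457150 IH) (Lpr_dt (f159499 IH) (Lpr_ft (f459386 IH) (Lpn v789))))
theorem f459390 : Led Lsl_ff (LP (LK LD1_c0 LD2_c50 LD3_c49)) = v789 :=
  Lgr Lrot3 (Lpr_ft (f459386 IH) (Lpn v789))
def v766 : LQ := Led Lsl_ft (LP (LK LD1_c0 LD2_c50 LD3_c25))
theorem f457140 : Led Lsl_ft (LP (LK LD1_c0 LD2_c50 LD3_c25)) = v766 :=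
  Lrfl
theorem f459392 : Led Lsl_at v766 = v789 :=
  Lgr Lrot66 (Lpe (f457140 IH) (Lpe (f159362 IH) (Lpr_ff (f459390 IH) (Lpn v789))))
def v764 : LQ := Led Lsl_gt (LP (LK LD1_c0 LD2_c50 LD3_c25))
theorem f457138 : Led Lsl_gt (LP (LK LD1_c0 LD2_c50 LD3_c25)) = v764 :=
  Lrfl
theorem f459396 : Led Lsl_gt v764 = v789 :=
  Lgr Lrot46 (Lpe (f457138 IH) (Lpr_ft (f457140 IH) (Lpr_at (f459392 IH) (Lpn v789))))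
theorem f462397 : (LP (LK LD1_c0 LD2_c24 LD3_c20)) = v764 :=
  Lefun (Lecon (Lfl_gf (K24.f451252 IH)) (f462396 IH)) (f457138 IH)
theorem f462401 : v789 = (LP (LK LD1_c0 LD2_c54 LD3_c4)) :=
  Lefun (Lecon (f459396 IH) (f462397 IH).symm) (K24.f11356 IH)
theorem f11355 : Led Lsl_gt (LP (LK LD1_c0 LD2_c54 LD3_c10)) = (LP (LK LD1_c0 LD2_c24 LD3_c24)) :=
  Lre_g IH (LK LD1_c0 LD2_c54 LD3_c10) (LK LD1_c0 LD2_c24 LD3_c24) Lrfl Lrfl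
def v787 : LQ := Led Lsl_gt (LP (LK LD1_c0 LD2_c50 LD3_c49))
theorem f459381 : Led Lsl_gt (LP (LK LD1_c0 LD2_c50 LD3_c49)) = v787 :=
  Lrfl
theorem f457142 : Led Lsl_ff (LP (LK LD1_c0 LD2_c50 LD3_c25)) = v766 :=
  Lgr Lrot3 (Lpr_ft (f457140 IH) (Lpn v766))
theorem f459387 : Led Lsl_af v766 = v789 :=
  Lgr Lrot45 (Lpe (f457142 IH) (Lpe (f159489 IH) (Lpr_ft (f459386 IH) (Lpn v789))))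
theorem f459391 : Led Lsl_gt v787 = v766 :=
  Lgr Lrot46 (Lpe (f459381 IH) (Lpr_ft (f459386 IH) (Lpe (f459387 IH) (Lpn v766))))
theorem f451302 : Led Lsl_ff (LP (LK LD1_c0 LD2_c24 LD3_c21)) = v242 :=
  Lgr Lrot3 (Lpr_ft (f451299 IH) (Lpn v242))
def v103 : LQ := Led Lsl_ft (LP (LK LD1_c0 LD2_c10 LD3_c50))
theorem f448773 : Led Lsl_ft (LP (LK LD1_c0 LD2_c10 LD3_c50)) = v103 :=
  Lrfl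
theorem f451305 : Led Lsl_ct v103 = v242 :=
  Lgr Lrot40 (Lpe (f448773 IH) (Lpe (K24.f11194 IH) (Lpr_ff (f451302 IH) (Lpn v242))))
theorem f448774 : Led Lsl_af (LP (LK LD1_c0 LD2_c10 LD3_c51)) = v103 :=
  Lgr Lrot45 (Lpr_ft (K11.f448771 IH) (Lpe (K11.f448767 IH) (Lpr_ft (f448773 IH) (Lpn v103))))
theorem f451374 : Led Lsl_ef v103 = K11.v255 :=
  Lgr Lrot20 (Lpe (f448774 IH) (Lpr_et (K11.f11322 IH) (Lpr_at (K11.f451371 IH) (Lpn K11.v255))))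
theorem f451593 : v103 = (LP (LK LD1_c0 LD2_c10 LD3_c51)) :=
  Lefun (Lecon (Lfl_ef (f451374 IH)) (K11.f451588 IH)) (K11.f11248 IH)
theorem f451604 : v242 = (LP (LK LD1_c0 LD2_c24 LD3_c25)) :=
  Lefun (Lecon (f451305 IH) (f451593 IH)) (K24.f11237 IH)
theorem f451287 : Led Lsl_bt (LP (LK LD1_c0 LD2_c54 LD3_c14)) = (LP (LK LD1_c0 LD2_c24 LD3_c25)) :=
  Lre_b IH (LK LD1_c0 LD2_c54 LD3_c14) (LK LD1_c0 LD2_c24 LD3_c25) Lrfl Lrfl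
theorem f11211 : Led Lsl_bt (LP (LK LD1_c0 LD2_c24 LD3_c21)) = (LP (LK LD1_c0 LD2_c54 LD3_c9)) :=
  Lre_b IH (LK LD1_c0 LD2_c24 LD3_c21) (LK LD1_c0 LD2_c54 LD3_c9) Lrfl Lrfl
theorem f451613 : Led Lsl_ff (LP (LK LD1_c0 LD2_c54 LD3_c14)) = (LP (LK LD1_c0 LD2_c54 LD3_c9)) :=
  Lgr Lrot25 (Lpr_bt (f451287 IH) (Lpq (f451604 IH) (Lpe (f451302 IH) (Lpr_bt (f11211 IH) (Lpn (LP (LK LD1_c0 LD2_c54 LD3_c9)))))))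
theorem f451619 : Led Lsl_ft (LP (LK LD1_c0 LD2_c54 LD3_c14)) = (LP (LK LD1_c0 LD2_c54 LD3_c9)) :=
  Lgr Lrot48 (Lpr_ff (f451613 IH) (Lpn (LP (LK LD1_c0 LD2_c54 LD3_c9))))
theorem f451290 : Led Lsl_ct (LP (LK LD1_c1 LD2_c55 LD3_c1)) = (LP (LK LD1_c0 LD2_c54 LD3_c14)) :=
  Lre_c IH (LK LD1_c1 LD2_c55 LD3_c1) (LK LD1_c0 LD2_c54 LD3_c14) Lrfl Lrfl
theorem f451279 : Led Lsl_ct (LP (LK LD1_c0 LD2_c54 LD3_c9)) = (LP (LK LD1_c1 LD2_c54 LD3_c52)) :=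
  Lre_c IH (LK LD1_c0 LD2_c54 LD3_c9) (LK LD1_c1 LD2_c54 LD3_c52) Lrfl Lrfl
theorem f451621 : Led Lsl_ff (LP (LK LD1_c1 LD2_c55 LD3_c1)) = (LP (LK LD1_c1 LD2_c54 LD3_c52)) :=
  Lgr Lrot23 (Lpr_ct (f451290 IH) (Lpr_ft (f451619 IH) (Lpr_ct (f451279 IH) (Lpn (LP (LK LD1_c1 LD2_c54 LD3_c52))))))
theorem f451626 : Led Lsl_dt (LP (LK LD1_c1 LD2_c55 LD3_c1)) = (LP (LK LD1_c3 LD2_c56 LD3_c36)) :=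
  Lre_d IH (LK LD1_c1 LD2_c55 LD3_c1) (LK LD1_c3 LD2_c56 LD3_c36) Lrfl Lrfl
theorem f451275 : Led Lsl_dt (LP (LK LD1_c3 LD2_c56 LD3_c16)) = (LP (LK LD1_c1 LD2_c54 LD3_c52)) :=
  Lre_d IH (LK LD1_c3 LD2_c56 LD3_c16) (LK LD1_c1 LD2_c54 LD3_c52) Lrfl Lrfl
theorem f451627 : Led Lsl_ft (LP (LK LD1_c3 LD2_c56 LD3_c36)) = (LP (LK LD1_c3 LD2_c56 LD3_c16)) :=
  Lgr Lrot54 (Lpe (f451626 IH) (Lpr_ff (f451621 IH) (Lpe (f451275 IH) (Lpn (LP (LK LD1_c3 LD2_c56 LD3_c16))))))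
theorem f451644 : Led Lsl_ff (LP (LK LD1_c3 LD2_c56 LD3_c36)) = (LP (LK LD1_c3 LD2_c56 LD3_c16)) :=
  Lgr Lrot3 (Lpr_ft (f451627 IH) (Lpn (LP (LK LD1_c3 LD2_c56 LD3_c16))))
theorem f451647 : Led Lsl_bt (LP (LK LD1_c3 LD2_c56 LD3_c36)) = (LP (LK LD1_c1 LD2_c55 LD3_c2)) :=
  Lre_b IH (LK LD1_c3 LD2_c56 LD3_c36) (LK LD1_c1 LD2_c55 LD3_c2) Lrfl Lrfl
theorem f451648 : Led Lsl_bt (LP (LK LD1_c1 LD2_c54 LD3_c53)) = (LP (LK LD1_c3 LD2_c56 LD3_c16)) :=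
  Lre_b IH (LK LD1_c1 LD2_c54 LD3_c53) (LK LD1_c3 LD2_c56 LD3_c16) Lrfl Lrfl
theorem f451649 : Led Lsl_ft (LP (LK LD1_c1 LD2_c55 LD3_c2)) = (LP (LK LD1_c1 LD2_c54 LD3_c53)) :=
  Lgr Lrot75 (Lpe (f451647 IH) (Lpr_ff (f451644 IH) (Lpe (f451648 IH) (Lpn (LP (LK LD1_c1 LD2_c54 LD3_c53))))))
theorem f11333 : Led Lsl_dt (LP (LK LD1_c0 LD2_c54 LD3_c12)) = (LP (LK LD1_c1 LD2_c55 LD3_c2)) :=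
  Lre_d IH (LK LD1_c0 LD2_c54 LD3_c12) (LK LD1_c1 LD2_c55 LD3_c2) Lrfl Lrfl
theorem f11204 : Led Lsl_dt (LP (LK LD1_c1 LD2_c54 LD3_c53)) = (LP (LK LD1_c0 LD2_c54 LD3_c6)) :=
  Lre_d IH (LK LD1_c1 LD2_c54 LD3_c53) (LK LD1_c0 LD2_c54 LD3_c6) Lrfl Lrfl
theorem f451807 : Led Lsl_ff (LP (LK LD1_c0 LD2_c54 LD3_c12)) = (LP (LK LD1_c0 LD2_c54 LD3_c6)) :=
  Lgr Lrot19 (Lpr_dt (f11333 IH) (Lpr_ft (f451649 IH) (Lpr_dt (f11204 IH) (Lpn (LP (LK LD1_c0 LD2_c54 LD3_c6))))))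
theorem f11375 : Led Lsl_at (LP (LK LD1_c0 LD2_c54 LD3_c12)) = (LP (LK LD1_c1 LD2_c54 LD3_c60)) :=
  Lre_a IH (LK LD1_c0 LD2_c54 LD3_c12) (LK LD1_c1 LD2_c54 LD3_c60) Lrfl Lrfl
theorem f451827 : Led Lsl_at (LP (LK LD1_c1 LD2_c54 LD3_c48)) = (LP (LK LD1_c0 LD2_c54 LD3_c6)) :=
  Lre_a IH (LK LD1_c1 LD2_c54 LD3_c48) (LK LD1_c0 LD2_c54 LD3_c6) Lrfl Lrfl
theorem f451828 : Led Lsl_ft (LP (LK LD1_c1 LD2_c54 LD3_c60)) = (LP (LK LD1_c1 LD2_c54 LD3_c48)) :=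
  Lgr Lrot101 (Lpe (f11375 IH) (Lpr_ff (f451807 IH) (Lpe (f451827 IH) (Lpn (LP (LK LD1_c1 LD2_c54 LD3_c48))))))
theorem f11371 : Led Lsl_ct (LP (LK LD1_c0 LD2_c54 LD3_c11)) = (LP (LK LD1_c1 LD2_c54 LD3_c60)) :=
  Lre_c IH (LK LD1_c0 LD2_c54 LD3_c11) (LK LD1_c1 LD2_c54 LD3_c60) Lrfl Lrfl
theorem f451270 : Led Lsl_ct (LP (LK LD1_c1 LD2_c54 LD3_c48)) = (LP (LK LD1_c0 LD2_c54 LD3_c5)) :=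
  Lre_c IH (LK LD1_c1 LD2_c54 LD3_c48) (LK LD1_c0 LD2_c54 LD3_c5) Lrfl Lrfl
theorem f451850 : Led Lsl_ff (LP (LK LD1_c0 LD2_c54 LD3_c11)) = (LP (LK LD1_c0 LD2_c54 LD3_c5)) :=
  Lgr Lrot23 (Lpr_ct (f11371 IH) (Lpr_ft (f451828 IH) (Lpr_ct (f451270 IH) (Lpn (LP (LK LD1_c0 LD2_c54 LD3_c5))))))
theorem f11369 : Led Lsl_at (LP (LK LD1_c0 LD2_c54 LD3_c11)) = (LP (LK LD1_c0 LD2_c24 LD3_c24)) :=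
  Lre_a IH (LK LD1_c0 LD2_c54 LD3_c11) (LK LD1_c0 LD2_c24 LD3_c24) Lrfl Lrfl
theorem f451977 : Led Lsl_gf (LP (LK LD1_c0 LD2_c54 LD3_c10)) = (LP (LK LD1_c0 LD2_c54 LD3_c5)) :=
  Lgr Lrot47 (Lpr_gt (f11355 IH) (Lpe (f11369 IH) (Lpr_ff (f451850 IH) (Lpn (LP (LK LD1_c0 LD2_c54 LD3_c5))))))
def v236 : LQ := Led Lsl_ft (LP (LK LD1_c0 LD2_c24 LD3_c20))
theorem f451264 : Led Lsl_ft (LP (LK LD1_c0 LD2_c24 LD3_c20)) = v236 :=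
  Lrfl
theorem f451266 : Led Lsl_ff (LP (LK LD1_c0 LD2_c24 LD3_c20)) = v236 :=
  Lgr Lrot3 (Lpr_ft (f451264 IH) (Lpn v236))
theorem f11202 : Led Lsl_bt (LP (LK LD1_c0 LD2_c24 LD3_c20)) = (LP (LK LD1_c0 LD2_c10 LD3_c50)) :=
  Lre_b IH (LK LD1_c0 LD2_c24 LD3_c20) (LK LD1_c0 LD2_c10 LD3_c50) Lrfl Lrfl
theorem f451269 : Led Lsl_bt v103 = v236 :=
  Lgr Lrot35 (Lpe (f448773 IH) (Lpe (f11202 IH) (Lpr_ff (f451266 IH) (Lpn v236))))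
theorem f451603 : v236 = (LP (LK LD1_c0 LD2_c24 LD3_c24)) :=
  Lefun (Lecon (f451269 IH) (f451593 IH)) (f11316 IH)
theorem f448770 : Led Lsl_at (LP (LK LD1_c0 LD2_c24 LD3_c20)) = (LP (LK LD1_c0 LD2_c54 LD3_c5)) :=
  Lre_a IH (LK LD1_c0 LD2_c24 LD3_c20) (LK LD1_c0 LD2_c54 LD3_c5) Lrfl Lrfl
theorem f452011 : Led Lsl_gt K24.v249 = (LP (LK LD1_c0 LD2_c54 LD3_c5)) :=
  Lgr Lrot46 (Lpe (K24.f451350 IH) (Lpq (f451603 IH) (Lpe (f451266 IH) (Lpr_at (f448770 IH) (Lpn (LP (LK LD1_c0 LD2_c54 LD3_c5)))))))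
theorem f462170 : (LP (LK LD1_c0 LD2_c54 LD3_c5)) = v787 :=
  Lefun (Lecon (f452011 IH) (f462169 IH)) (f459381 IH)
theorem f462174 : v766 = (LP (LK LD1_c0 LD2_c54 LD3_c10)) :=
  Lefun (Lecon (f459391 IH) (f462170 IH).symm) (Lfl_gf (f451977 IH))
theorem f459487 : Led Lsl_df v766 = K24.v808 :=
  Lgr Lrot78 (Lpe (f457142 IH) (Lpe (f159495 IH) (Lpr_ft (K24.f459485 IH) (Lpn K24.v808))))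
theorem f122331 : Led Lsl_et (LP (LK LD1_c0 LD2_c23 LD3_c8)) = (LP (LK LD1_c0 LD2_c51 LD3_c17)) :=
  Lre_e IH (LK LD1_c0 LD2_c23 LD3_c8) (LK LD1_c0 LD2_c51 LD3_c17) Lrfl Lrfl
theorem f4897 : Led Lsl_et (LP (LK LD1_c0 LD2_c50 LD3_c32)) = (LP (LK LD1_c0 LD2_c22 LD3_c50)) :=
  Lre_e IH (LK LD1_c0 LD2_c50 LD3_c32) (LK LD1_c0 LD2_c22 LD3_c50) Lrfl Lrfl
theorem f122330 : Led Lsl_ft (LP (LK LD1_c1 LD2_c47 LD3_c31)) = (LP (LK LD1_c0 LD2_c50 LD3_c32)) :=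
  Lre_f IH (LK LD1_c1 LD2_c47 LD3_c31) (LK LD1_c0 LD2_c50 LD3_c32) Lrfl Lrfl
theorem f459488 : Led Lsl_ef (LP (LK LD1_c1 LD2_c47 LD3_c31)) = K24.v808 :=
  Lgr Lrot21 (Lpr_ft (f122330 IH) (Lpr_et (f4897 IH) (Lpr_ft (K4.f122326 IH) (Lpr_et (f122331 IH) (Lpr_ft (K24.f459485 IH) (Lpn K24.v808))))))
theorem f131679 : Led Lsl_gt (LP (LK LD1_c0 LD2_c51 LD3_c14)) = (LP (LK LD1_c1 LD2_c48 LD3_c55)) :=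
  Lre_g IH (LK LD1_c0 LD2_c51 LD3_c14) (LK LD1_c1 LD2_c48 LD3_c55) Lrfl Lrfl
theorem f131736 : Led Lsl_gf (LP (LK LD1_c1 LD2_c47 LD3_c31)) = (LP (LK LD1_c1 LD2_c48 LD3_c55)) :=
  Lgr Lrot76 (Lpr_af (K5.f131728 IH) (Lpe (K5.f131714 IH) (Lpr_gt (f131679 IH) (Lpn (LP (LK LD1_c1 LD2_c48 LD3_c55))))))
theorem f450725 : Led Lsl_at (LP (LK LD1_c0 LD2_c47 LD3_c43)) = (LP (LK LD1_c1 LD2_c42 LD3_c25)) :=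
  Lre_a IH (LK LD1_c0 LD2_c47 LD3_c43) (LK LD1_c1 LD2_c42 LD3_c25) Lrfl Lrfl
theorem f459278 : Led Lsl_gf (LP (LK LD1_c1 LD2_c42 LD3_c25)) = (LP (LK LD1_c1 LD2_c42 LD3_c15)) :=
  Lgr Lrot76 (Lpe (f450725 IH) (Lpq (K24.f458797 IH) (Lpe (K24.f455633 IH) (Lpr_gt (K24.f455618 IH) (Lpn (LP (LK LD1_c1 LD2_c42 LD3_c15)))))))
theorem f458973 : Led Lsl_dt (LP (LK LD1_c3 LD2_c31 LD3_c39)) = (LP (LK LD1_c1 LD2_c42 LD3_c25)) :=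
  Lre_d IH (LK LD1_c3 LD2_c31 LD3_c39) (LK LD1_c1 LD2_c42 LD3_c25) Lrfl Lrfl
theorem f463478 : Led Lsl_ef (LP (LK LD1_c1 LD2_c48 LD3_c55)) = (LP (LK LD1_c3 LD2_c31 LD3_c39)) :=
  Lgr Lrot114 (Lpe (f131736 IH) (Lpr_ef (f459488 IH) (Lpe (f459487 IH) (Lpqs (f462174 IH) (Lpr_gt (f11355 IH) (Lpr_df (K24.f11327 IH) (Lpr_et (K24.f11354 IH) (Lpr_gt (K24.f11356 IH) (Lpq (f462401 IH) (Lpe (f459388 IH) (Lpqs (f463258 IH) (Lpe (f459278 IH) (Lpe (f458973 IH) (Lpn (LP (LK LD1_c3 LD2_c31 LD3_c39))))))))))))))))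
theorem f463484 : Led Lsl_et (LP (LK LD1_c1 LD2_c48 LD3_c55)) = (LP (LK LD1_c3 LD2_c31 LD3_c39)) :=
  Lgr Lrot87 (Lpr_ef (f463478 IH) (Lpn (LP (LK LD1_c3 LD2_c31 LD3_c39))))
theorem f131917 : Led Lsl_ct (LP (LK LD1_c3 LD2_c43 LD3_c43)) = (LP (LK LD1_c1 LD2_c48 LD3_c55)) :=
  Lre_c IH (LK LD1_c3 LD2_c43 LD3_c43) (LK LD1_c1 LD2_c48 LD3_c55) Lrfl Lrfl
theorem f458945 : Led Lsl_ct (LP (LK LD1_c3 LD2_c31 LD3_c39)) = (LP (LK LD1_c7 LD2_c4 LD3_c56)) :=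
  Lre_c IH (LK LD1_c3 LD2_c31 LD3_c39) (LK LD1_c7 LD2_c4 LD3_c56) Lrfl Lrfl
theorem f463490 : Led Lsl_ef (LP (LK LD1_c3 LD2_c43 LD3_c43)) = (LP (LK LD1_c7 LD2_c4 LD3_c56)) :=
  Lgr Lrot28 (Lpr_ct (f131917 IH) (Lpr_et (f463484 IH) (Lpr_ct (f458945 IH) (Lpn (LP (LK LD1_c7 LD2_c4 LD3_c56))))))
theorem f463496 : Led Lsl_dt (LP (LK LD1_c3 LD2_c43 LD3_c43)) = (LP (LK LD1_c7 LD2_c28 LD3_c4)) :=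
  Lre_d IH (LK LD1_c3 LD2_c43 LD3_c43) (LK LD1_c7 LD2_c28 LD3_c4) Lrfl Lrfl
theorem f463497 : Led Lsl_et (LP (LK LD1_c7 LD2_c28 LD3_c4)) = (LP (LK LD1_c14 LD2_c5 LD3_c58)) :=
  Lre_e IH (LK LD1_c7 LD2_c28 LD3_c4) (LK LD1_c14 LD2_c5 LD3_c58) Lrfl Lrfl
theorem f11209 : Led Lsl_ct (LP (LK LD1_c0 LD2_c24 LD3_c20)) = (LP (LK LD1_c0 LD2_c54 LD3_c6)) :=
  Lre_c IH (LK LD1_c0 LD2_c24 LD3_c20) (LK LD1_c0 LD2_c54 LD3_c6) Lrfl Lrfl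
theorem f451257 : Led Lsl_gt (LP (LK LD1_c0 LD2_c54 LD3_c6)) = (LP (LK LD1_c1 LD2_c54 LD3_c51)) :=
  Lre_g IH (LK LD1_c0 LD2_c54 LD3_c6) (LK LD1_c1 LD2_c54 LD3_c51) Lrfl Lrfl
theorem f451836 : Led Lsl_dt (LP (LK LD1_c1 LD2_c54 LD3_c51)) = (LP (LK LD1_c3 LD2_c56 LD3_c15)) :=
  Lre_d IH (LK LD1_c1 LD2_c54 LD3_c51) (LK LD1_c3 LD2_c56 LD3_c15) Lrfl Lrfl
theorem f11189 : Led Lsl_gf (LP (LK LD1_c0 LD2_c10 LD3_c52)) = (LP (LK LD1_c0 LD2_c10 LD3_c50)) :=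
  Lgr Lrot76 (Lpr_af (K0.f11169 IH) (Lpe (K0.f11186 IH) (Lpr_gt (K11.f4474 IH) (Lpn (LP (LK LD1_c0 LD2_c10 LD3_c50))))))
theorem f11225 : Led Lsl_af (LP (LK LD1_c0 LD2_c10 LD3_c49)) = (LP (LK LD1_c0 LD2_c10 LD3_c49)) :=
  Lgr Lrot68 (Lpr_ct (K24.f11223 IH) (Lpr_at (K0.f11187 IH) (Lpr_ct (K24.f11224 IH) (Lpn (LP (LK LD1_c0 LD2_c10 LD3_c49))))))
theorem f15734 : Led Lsl_ft (LP (LK LD1_c0 LD2_c24 LD3_c19)) = (LP (LK LD1_c0 LD2_c10 LD3_c49)) :=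
  Lre_f IH (LK LD1_c0 LD2_c24 LD3_c19) (LK LD1_c0 LD2_c10 LD3_c49) Lrfl Lrfl
theorem f446525 : Led Lsl_gf (LP (LK LD1_c0 LD2_c24 LD3_c17)) = (LP (LK LD1_c0 LD2_c24 LD3_c19)) :=
  Lgr Lrot47 (Lpr_gt (K24.f11890 IH) (Lpr_af (f11225 IH) (Lpe (f15734 IH) (Lpn (LP (LK LD1_c0 LD2_c24 LD3_c19))))))
def v612 : LQ := Led Lsl_gt (LP (LK LD1_c0 LD2_c46 LD3_c48))
theorem f455489 : Led Lsl_gt (LP (LK LD1_c0 LD2_c46 LD3_c48)) = v612 :=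
  Lrfl
theorem f461930 : (LP (LK LD1_c0 LD2_c49 LD3_c17)) = v612 :=
  Lefun (Lecon (Lfl_gf (K24.f456837 IH)) (K24.f461929 IH)) (f455489 IH)
theorem f159783 : Led Lsl_et (LP (LK LD1_c1 LD2_c53 LD3_c42)) = (LP (LK LD1_c3 LD2_c54 LD3_c11)) :=
  Lre_e IH (LK LD1_c1 LD2_c53 LD3_c42) (LK LD1_c3 LD2_c54 LD3_c11) Lrfl Lrfl
theorem f159804 : Led Lsl_et (LP (LK LD1_c3 LD2_c36 LD3_c38)) = (LP (LK LD1_c1 LD2_c45 LD3_c9)) :=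
  Lre_e IH (LK LD1_c3 LD2_c36 LD3_c38) (LK LD1_c1 LD2_c45 LD3_c9) Lrfl Lrfl
theorem f159805 : Led Lsl_ct (LP (LK LD1_c3 LD2_c54 LD3_c11)) = (LP (LK LD1_c3 LD2_c36 LD3_c38)) :=
  Lgr Lrot15 (Lpe (f159783 IH) (Lpr_cf (K8.f159796 IH) (Lpe (f159804 IH) (Lpn (LP (LK LD1_c3 LD2_c36 LD3_c38))))))
theorem f159990 : Led Lsl_bt (LP (LK LD1_c1 LD2_c53 LD3_c43)) = (LP (LK LD1_c3 LD2_c54 LD3_c11)) :=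
  Lre_b IH (LK LD1_c1 LD2_c53 LD3_c43) (LK LD1_c3 LD2_c54 LD3_c11) Lrfl Lrfl
theorem f160490 : Led Lsl_bt (LP (LK LD1_c3 LD2_c36 LD3_c38)) = (LP (LK LD1_c1 LD2_c45 LD3_c11)) :=
  Lre_b IH (LK LD1_c3 LD2_c36 LD3_c38) (LK LD1_c1 LD2_c45 LD3_c11) Lrfl Lrfl
theorem f106215 : Led Lsl_bt (LP (LK LD1_c0 LD2_c49 LD3_c17)) = (LP (LK LD1_c1 LD2_c45 LD3_c6)) :=
  Lre_b IH (LK LD1_c0 LD2_c49 LD3_c17) (LK LD1_c1 LD2_c45 LD3_c6) Lrfl Lrfl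
theorem f160608 : Led Lsl_cf (LP (LK LD1_c1 LD2_c53 LD3_c43)) = (LP (LK LD1_c1 LD2_c45 LD3_c6)) :=
  Lgr Lrot97 (Lpr_bt (f159990 IH) (Lpr_ct (f159805 IH) (Lpr_bt (f160490 IH) (Lpr_ct (K5.f106218 IH) (Lpr_bt (f106215 IH) (Lpn (LP (LK LD1_c1 LD2_c45 LD3_c6))))))))
theorem f462866 : Led Lsl_gf (LP (LK LD1_c0 LD2_c54 LD3_c6)) = (LP (LK LD1_c1 LD2_c53 LD3_c43)) :=
  Lgr Lrot126 (Lpe (f11209 IH) (Lpr_bt (f11202 IH) (Lpe (f11189 IH) (Lpr_ct (K0.f11177 IH) (Lpe (f446525 IH) (Lpr_cf (K24.f451229 IH) (Lpq (K24.f457382 IH) (Lpr_bt (K24.f446429 IH) (Lpr_gt (f455489 IH) (Lpq (f461930 IH) (Lpe (K5.f106203 IH) (Lpe (f160608 IH) (Lpn (LP (LK LD1_c1 LD2_c53 LD3_c43)))))))))))))))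
theorem f462868 : Led Lsl_gt (LP (LK LD1_c1 LD2_c54 LD3_c60)) = (LP (LK LD1_c1 LD2_c53 LD3_c43)) :=
  Lgr Lrot5 (Lpr_ft (f451828 IH) (Lpr_at (f451827 IH) (Lpr_gf (f462866 IH) (Lpn (LP (LK LD1_c1 LD2_c53 LD3_c43))))))
theorem f451833 : Led Lsl_gf (LP (LK LD1_c1 LD2_c54 LD3_c60)) = (LP (LK LD1_c1 LD2_c54 LD3_c51)) :=
  Lgr Lrot76 (Lpe (f11375 IH) (Lpr_ff (f451807 IH) (Lpr_gt (f451257 IH) (Lpn (LP (LK LD1_c1 LD2_c54 LD3_c51))))))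
theorem f129553 : Led Lsl_at (LP (LK LD1_c7 LD2_c51 LD3_c37)) = (LP (LK LD1_c3 LD2_c54 LD3_c61)) :=
  Lre_a IH (LK LD1_c7 LD2_c51 LD3_c37) (LK LD1_c3 LD2_c54 LD3_c61) Lrfl Lrfl
theorem f121202 : Led Lsl_bt (LP (LK LD1_c3 LD2_c54 LD3_c61)) = (LP (LK LD1_c1 LD2_c54 LD3_c6)) :=
  Lre_b IH (LK LD1_c3 LD2_c54 LD3_c61) (LK LD1_c1 LD2_c54 LD3_c6) Lrfl Lrfl
theorem f159989 : Led Lsl_at (LP (LK LD1_c3 LD2_c54 LD3_c11)) = (LP (LK LD1_c7 LD2_c49 LD3_c54)) :=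
  Lre_a IH (LK LD1_c3 LD2_c54 LD3_c11) (LK LD1_c7 LD2_c49 LD3_c54) Lrfl Lrfl
theorem f159991 : Led Lsl_at (LP (LK LD1_c1 LD2_c54 LD3_c6)) = (LP (LK LD1_c1 LD2_c53 LD3_c43)) :=
  Lgr Lrot67 (Lpe (f121202 IH) (Lpe (f129553 IH) (Lpr_bf (K8.f159987 IH) (Lpe (f159989 IH) (Lpe (f159990 IH) (Lpn (LP (LK LD1_c1 LD2_c53 LD3_c43))))))))
theorem f462943 : Led Lsl_ft (LP (LK LD1_c1 LD2_c54 LD3_c51)) = (LP (LK LD1_c1 LD2_c54 LD3_c6)) :=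
  Lgr Lrot2 (Lpe (f451833 IH) (Lpr_gt (f462868 IH) (Lpe (f159991 IH) (Lpn (LP (LK LD1_c1 LD2_c54 LD3_c6))))))
theorem f457965 : Led Lsl_ct (LP (LK LD1_c3 LD2_c56 LD3_c15)) = (LP (LK LD1_c7 LD2_c54 LD3_c8)) :=
  Lre_c IH (LK LD1_c3 LD2_c56 LD3_c15) (LK LD1_c7 LD2_c54 LD3_c8) Lrfl Lrfl
theorem f116144 : Led Lsl_ct (LP (LK LD1_c7 LD2_c29 LD3_c1)) = (LP (LK LD1_c3 LD2_c44 LD3_c5)) :=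
  Lre_c IH (LK LD1_c7 LD2_c29 LD3_c1) (LK LD1_c3 LD2_c44 LD3_c5) Lrfl Lrfl
theorem f463021 : Led Lsl_dt (LP (LK LD1_c7 LD2_c54 LD3_c8)) = (LP (LK LD1_c7 LD2_c29 LD3_c1)) :=
  Lgr Lrot32 (Lpe (f457965 IH) (Lpe (f451836 IH) (Lpr_ft (f462943 IH) (Lpr_at (f159991 IH) (Lpr_cf (f160608 IH) (Lpe (K5.f106199 IH) (Lpr_cf (K4.f116138 IH) (Lpe (K4.f116142 IH) (Lpe (f116144 IH) (Lpn (LP (LK LD1_c7 LD2_c29 LD3_c1))))))))))))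
theorem f159938 : Led Lsl_ct (LP (LK LD1_c3 LD2_c54 LD3_c12)) = (LP (LK LD1_c7 LD2_c49 LD3_c59)) :=
  Lre_c IH (LK LD1_c3 LD2_c54 LD3_c12) (LK LD1_c7 LD2_c49 LD3_c59) Lrfl Lrfl
theorem f121062 : Led Lsl_ct (LP (LK LD1_c7 LD2_c51 LD3_c42)) = (LP (LK LD1_c3 LD2_c55 LD3_c0)) :=
  Lre_c IH (LK LD1_c7 LD2_c51 LD3_c42) (LK LD1_c3 LD2_c55 LD3_c0) Lrfl Lrfl
theorem f159939 : Led Lsl_af (LP (LK LD1_c7 LD2_c51 LD3_c42)) = (LP (LK LD1_c7 LD2_c49 LD3_c59)) :=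
  Lgr Lrot68 (Lpr_ct (f121062 IH) (Lpr_at (K8.f159922 IH) (Lpr_ct (f159938 IH) (Lpn (LP (LK LD1_c7 LD2_c49 LD3_c59))))))
theorem f159944 : Led Lsl_at (LP (LK LD1_c7 LD2_c51 LD3_c42)) = (LP (LK LD1_c7 LD2_c49 LD3_c59)) :=
  Lgr Lrot100 (Lpr_af (f159939 IH) (Lpn (LP (LK LD1_c7 LD2_c49 LD3_c59))))
theorem f463030 : Led Lsl_ft (LP (LK LD1_c7 LD2_c54 LD3_c8)) = (LP (LK LD1_c7 LD2_c51 LD3_c42)) :=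
  Lgr Lrot142 (Lpr_dt (f463021 IH) (Lpr_ct (f116144 IH) (Lpr_dt (K4.f116142 IH) (Lpe (K4.f116138 IH) (Lpr_dt (K5.f106199 IH) (Lpe (f160608 IH) (Lpr_dt (K8.f134742 IH) (Lpr_ct (f159938 IH) (Lpe (f159944 IH) (Lpn (LP (LK LD1_c7 LD2_c51 LD3_c42))))))))))))
theorem f463038 : Led Lsl_ff (LP (LK LD1_c7 LD2_c54 LD3_c8)) = (LP (LK LD1_c7 LD2_c51 LD3_c42)) :=
  Lgr Lrot3 (Lpr_ft (f463030 IH) (Lpn (LP (LK LD1_c7 LD2_c51 LD3_c42))))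
theorem f463042 : Led Lsl_ct (LP (LK LD1_c7 LD2_c54 LD3_c8)) = (LP (LK LD1_c3 LD2_c56 LD3_c15)) :=
  Lre_c IH (LK LD1_c7 LD2_c54 LD3_c8) (LK LD1_c3 LD2_c56 LD3_c15) Lrfl Lrfl
theorem f121076 : Led Lsl_ct (LP (LK LD1_c3 LD2_c55 LD3_c0)) = (LP (LK LD1_c7 LD2_c51 LD3_c42)) :=
  Lre_c IH (LK LD1_c3 LD2_c55 LD3_c0) (LK LD1_c7 LD2_c51 LD3_c42) Lrfl Lrfl
theorem f463043 : Led Lsl_ft (LP (LK LD1_c3 LD2_c56 LD3_c15)) = (LP (LK LD1_c3 LD2_c55 LD3_c0)) :=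
  Lgr Lrot4 (Lpe (f463042 IH) (Lpr_ff (f463038 IH) (Lpe (f121076 IH) (Lpn (LP (LK LD1_c3 LD2_c55 LD3_c0))))))
theorem f159942 : Led Lsl_gt (LP (LK LD1_c7 LD2_c49 LD3_c58)) = (LP (LK LD1_c3 LD2_c54 LD3_c12)) :=
  Lre_g IH (LK LD1_c7 LD2_c49 LD3_c58) (LK LD1_c3 LD2_c54 LD3_c12) Lrfl Lrfl
theorem f463053 : Led Lsl_gt (LP (LK LD1_c3 LD2_c56 LD3_c15)) = (LP (LK LD1_c7 LD2_c49 LD3_c58)) :=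
  Lgr Lrot5 (Lpr_ft (f463043 IH) (Lpr_at (K8.f159922 IH) (Lpe (f159942 IH) (Lpn (LP (LK LD1_c7 LD2_c49 LD3_c58))))))
theorem f458946 : Led Lsl_dt (LP (LK LD1_c1 LD2_c42 LD3_c25)) = (LP (LK LD1_c3 LD2_c31 LD3_c39)) :=
  Lre_d IH (LK LD1_c1 LD2_c42 LD3_c25) (LK LD1_c3 LD2_c31 LD3_c39) Lrfl Lrfl
theorem f458974 : Led Lsl_ct (LP (LK LD1_c7 LD2_c4 LD3_c56)) = (LP (LK LD1_c3 LD2_c31 LD3_c39)) :=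
  Lre_c IH (LK LD1_c7 LD2_c4 LD3_c56) (LK LD1_c3 LD2_c31 LD3_c39) Lrfl Lrfl
theorem f463474 : Led Lsl_dt (LP (LK LD1_c7 LD2_c49 LD3_c58)) = (LP (LK LD1_c7 LD2_c4 LD3_c56)) :=
  Lgr Lrot105 (Lpe (f463053 IH) (Lpe (f451836 IH) (Lpe (f451257 IH) (Lpe (f11209 IH) (Lpr_gt (K24.f11356 IH) (Lpq (f462401 IH) (Lpe (f459388 IH) (Lpqs (f463258 IH) (Lpe (f459278 IH) (Lpr_dt (f458946 IH) (Lpe (f458974 IH) (Lpn (LP (LK LD1_c7 LD2_c4 LD3_c56))))))))))))))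
theorem f159968 : Led Lsl_et (LP (LK LD1_c14 LD2_c46 LD3_c28)) = (LP (LK LD1_c7 LD2_c49 LD3_c58)) :=
  Lre_e IH (LK LD1_c14 LD2_c46 LD3_c28) (LK LD1_c7 LD2_c49 LD3_c58) Lrfl Lrfl
theorem f463498 : Led Lsl_dt (LP (LK LD1_c14 LD2_c5 LD3_c58)) = (LP (LK LD1_c14 LD2_c46 LD3_c28)) :=
  Lgr Lrot77 (Lpe (f463497 IH) (Lpe (f463496 IH) (Lpr_ef (f463490 IH) (Lpe (f463474 IH) (Lpe (f159968 IH) (Lpn (LP (LK LD1_c14 LD2_c46 LD3_c28))))))))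
theorem f463502 : Led Lsl_df (LP (LK LD1_c14 LD2_c5 LD3_c58)) = (LP (LK LD1_c14 LD2_c46 LD3_c28)) :=
  Lgr Lrot38 (Lpr_dt (f463498 IH) (Lpn (LP (LK LD1_c14 LD2_c46 LD3_c28))))
theorem f463511 : Led Lsl_et (LP (LK LD1_c14 LD2_c5 LD3_c58)) = (LP (LK LD1_c7 LD2_c28 LD3_c4)) :=
  Lre_e IH (LK LD1_c14 LD2_c5 LD3_c58) (LK LD1_c7 LD2_c28 LD3_c4) Lrfl Lrfl
theorem f463517 : Led Lsl_dt (LP (LK LD1_c7 LD2_c28 LD3_c4)) = (LP (LK LD1_c3 LD2_c43 LD3_c43)) :=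
  Lre_d IH (LK LD1_c7 LD2_c28 LD3_c4) (LK LD1_c3 LD2_c43 LD3_c43) Lrfl Lrfl
theorem f131719 : Led Lsl_ct (LP (LK LD1_c1 LD2_c48 LD3_c55)) = (LP (LK LD1_c3 LD2_c43 LD3_c43)) :=
  Lre_c IH (LK LD1_c1 LD2_c48 LD3_c55) (LK LD1_c3 LD2_c43 LD3_c43) Lrfl Lrfl
theorem f463482 : Led Lsl_et (LP (LK LD1_c3 LD2_c43 LD3_c43)) = (LP (LK LD1_c7 LD2_c4 LD3_c56)) :=
  Lgr Lrot158 (Lpe (f131719 IH) (Lpr_ef (f463478 IH) (Lpe (f458974 IH) (Lpn (LP (LK LD1_c7 LD2_c4 LD3_c56))))))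
theorem f463518 : Led Lsl_et (LP (LK LD1_c7 LD2_c49 LD3_c58)) = (LP (LK LD1_c14 LD2_c46 LD3_c28)) :=
  Lre_e IH (LK LD1_c7 LD2_c49 LD3_c58) (LK LD1_c14 LD2_c46 LD3_c28) Lrfl Lrfl
theorem f463519 : Led Lsl_dt (LP (LK LD1_c7 LD2_c4 LD3_c56)) = (LP (LK LD1_c7 LD2_c49 LD3_c58)) :=
  Lgr Lrot77 (Lpe (f463482 IH) (Lpe (f463517 IH) (Lpe (f463511 IH) (Lpr_df (f463502 IH) (Lpe (f463518 IH) (Lpn (LP (LK LD1_c7 LD2_c49 LD3_c58))))))))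
theorem f134741 : Led Lsl_et (LP (LK LD1_c1 LD2_c53 LD3_c43)) = (LP (LK LD1_c0 LD2_c53 LD3_c26)) :=
  Lre_e IH (LK LD1_c1 LD2_c53 LD3_c43) (LK LD1_c0 LD2_c53 LD3_c26) Lrfl Lrfl
theorem f130738 : Led Lsl_et (LP (LK LD1_c0 LD2_c51 LD3_c18)) = (LP (LK LD1_c1 LD2_c49 LD3_c2)) :=
  Lre_e IH (LK LD1_c0 LD2_c51 LD3_c18) (LK LD1_c1 LD2_c49 LD3_c2) Lrfl Lrfl
theorem f463538 : Led Lsl_gf (LP (LK LD1_c3 LD2_c43 LD3_c43)) = (LP (LK LD1_c1 LD2_c49 LD3_c2)) :=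
  Lgr Lrot141 (Lpr_ef (f463490 IH) (Lpr_dt (f463519 IH) (Lpr_gt (f159942 IH) (Lpe (K8.f134742 IH) (Lpr_et (f134741 IH) (Lpr_gt (K6.f21101 IH) (Lpr_dt (K6.f95897 IH) (Lpe (K6.f142712 IH) (Lpe (K7.f124014 IH) (Lpr_et (f130738 IH) (Lpn (LP (LK LD1_c1 LD2_c49 LD3_c2)))))))))))))
theorem f458780 : K24.v639 = (LP (LK LD1_c0 LD2_c47 LD3_c41)) :=
  Lefun (Lecon (K24.f457673 IH) (K24.f458774 IH)) (K24.f12138 IH)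
theorem f458789 : K24.v143 = (LP (LK LD1_c0 LD2_c21 LD3_c18)) :=
  Lefun (Lecon (Lfl_df (K24.f455698 IH)) (f458780 IH)) (K24.f446538 IH)
theorem f450712 : Led Lsl_at (LP (LK LD1_c1 LD2_c42 LD3_c16)) = (LP (LK LD1_c0 LD2_c47 LD3_c39)) :=
  Lre_a IH (LK LD1_c1 LD2_c42 LD3_c16) (LK LD1_c0 LD2_c47 LD3_c39) Lrfl Lrfl
theorem f459285 : Led Lsl_bf (LP (LK LD1_c1 LD2_c42 LD3_c16)) = (LP (LK LD1_c1 LD2_c42 LD3_c16)) :=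
  Lgr Lrot81 (Lpr_at (f450712 IH) (Lpr_bt (K24.f446540 IH) (Lpq (f458789 IH) (Lpe (K24.f450711 IH) (Lpr_bt (f450713 IH) (Lpr_at (K24.f450714 IH) (Lpn (LP (LK LD1_c1 LD2_c42 LD3_c16)))))))))
theorem f458230 : Led Lsl_at (LP (LK LD1_c3 LD2_c31 LD3_c47)) = (LP (LK LD1_c7 LD2_c4 LD3_c56)) :=
  Lre_a IH (LK LD1_c3 LD2_c31 LD3_c47) (LK LD1_c7 LD2_c4 LD3_c56) Lrfl Lrfl
theorem f455769 : Led Lsl_ct (LP (LK LD1_c3 LD2_c31 LD3_c38)) = (LP (LK LD1_c1 LD2_c42 LD3_c25)) :=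
  Lre_c IH (LK LD1_c3 LD2_c31 LD3_c38) (LK LD1_c1 LD2_c42 LD3_c25) Lrfl Lrfl
theorem f455770 : Led Lsl_dt (LP (LK LD1_c7 LD2_c4 LD3_c54)) = (LP (LK LD1_c3 LD2_c31 LD3_c38)) :=
  Lre_d IH (LK LD1_c7 LD2_c4 LD3_c54) (LK LD1_c3 LD2_c31 LD3_c38) Lrfl Lrfl
theorem f455771 : Led Lsl_ct (LP (LK LD1_c13 LD2_c25 LD3_c26)) = (LP (LK LD1_c7 LD2_c4 LD3_c54)) :=
  Lre_c IH (LK LD1_c13 LD2_c25 LD3_c26) (LK LD1_c7 LD2_c4 LD3_c54) Lrfl Lrfl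
theorem f455638 : Led Lsl_ct (LP (LK LD1_c7 LD2_c4 LD3_c45)) = (LP (LK LD1_c13 LD2_c25 LD3_c13)) :=
  Lre_c IH (LK LD1_c7 LD2_c4 LD3_c45) (LK LD1_c13 LD2_c25 LD3_c13) Lrfl Lrfl
theorem f458947 : Led Lsl_df (LP (LK LD1_c13 LD2_c25 LD3_c26)) = (LP (LK LD1_c13 LD2_c25 LD3_c13)) :=
  Lgr Lrot106 (Lpr_ct (f455771 IH) (Lpr_dt (f455770 IH) (Lpr_ct (f455769 IH) (Lpr_dt (f458946 IH) (Lpr_ct (f458945 IH) (Lpe (f458230 IH) (Lpr_ff (K24.f458927 IH) (Lpr_dt (K24.f455637 IH) (Lpr_ct (f455638 IH) (Lpn (LP (LK LD1_c13 LD2_c25 LD3_c13))))))))))))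
theorem f458958 : Led Lsl_dt (LP (LK LD1_c13 LD2_c25 LD3_c26)) = (LP (LK LD1_c13 LD2_c25 LD3_c13)) :=
  Lgr Lrot42 (Lpr_df (f458947 IH) (Lpn (LP (LK LD1_c13 LD2_c25 LD3_c13))))
theorem f458962 : Led Lsl_ct (LP (LK LD1_c7 LD2_c4 LD3_c54)) = (LP (LK LD1_c13 LD2_c25 LD3_c26)) :=
  Lre_c IH (LK LD1_c7 LD2_c4 LD3_c54) (LK LD1_c13 LD2_c25 LD3_c26) Lrfl Lrfl
theorem f458961 : Led Lsl_dt (LP (LK LD1_c3 LD2_c31 LD3_c38)) = (LP (LK LD1_c7 LD2_c4 LD3_c54)) :=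
  Lre_d IH (LK LD1_c3 LD2_c31 LD3_c38) (LK LD1_c7 LD2_c4 LD3_c54) Lrfl Lrfl
theorem f458972 : Led Lsl_ct (LP (LK LD1_c1 LD2_c42 LD3_c25)) = (LP (LK LD1_c3 LD2_c31 LD3_c38)) :=
  Lre_c IH (LK LD1_c1 LD2_c42 LD3_c25) (LK LD1_c3 LD2_c31 LD3_c38) Lrfl Lrfl
theorem f458975 : Led Lsl_ct (LP (LK LD1_c13 LD2_c25 LD3_c13)) = (LP (LK LD1_c7 LD2_c4 LD3_c45)) :=
  Lre_c IH (LK LD1_c13 LD2_c25 LD3_c13) (LK LD1_c7 LD2_c4 LD3_c45) Lrfl Lrfl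
theorem f12141 : Led Lsl_ct (LP (LK LD1_c3 LD2_c31 LD3_c31)) = (LP (LK LD1_c1 LD2_c42 LD3_c18)) :=
  Lre_c IH (LK LD1_c3 LD2_c31 LD3_c31) (LK LD1_c1 LD2_c42 LD3_c18) Lrfl Lrfl
theorem f455697 : Led Lsl_at (LP (LK LD1_c3 LD2_c31 LD3_c24)) = (LP (LK LD1_c1 LD2_c42 LD3_c18)) :=
  Lre_a IH (LK LD1_c3 LD2_c31 LD3_c24) (LK LD1_c1 LD2_c42 LD3_c18) Lrfl Lrfl
theorem f458981 : Led Lsl_ft (LP (LK LD1_c3 LD2_c31 LD3_c39)) = (LP (LK LD1_c3 LD2_c31 LD3_c24)) :=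
  Lgr Lrot142 (Lpr_dt (f458973 IH) (Lpr_ct (f458972 IH) (Lpr_dt (f458961 IH) (Lpr_ct (f458962 IH) (Lpr_dt (f458958 IH) (Lpr_ct (f458975 IH) (Lpr_dt (K24.f12142 IH) (Lpr_ct (f12141 IH) (Lpe (f455697 IH) (Lpn (LP (LK LD1_c3 LD2_c31 LD3_c24))))))))))))
theorem f458932 : Led Lsl_dt (LP (LK LD1_c3 LD2_c31 LD3_c24)) = (LP (LK LD1_c1 LD2_c42 LD3_c16)) :=
  Lre_d IH (LK LD1_c3 LD2_c31 LD3_c24) (LK LD1_c1 LD2_c42 LD3_c16) Lrfl Lrfl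
theorem f458983 : Led Lsl_ff (LP (LK LD1_c1 LD2_c42 LD3_c25)) = (LP (LK LD1_c1 LD2_c42 LD3_c16)) :=
  Lgr Lrot19 (Lpr_dt (f458946 IH) (Lpr_ft (f458981 IH) (Lpr_dt (f458932 IH) (Lpn (LP (LK LD1_c1 LD2_c42 LD3_c16))))))
theorem f458985 : Led Lsl_ff (LP (LK LD1_c3 LD2_c31 LD3_c39)) = (LP (LK LD1_c3 LD2_c31 LD3_c24)) :=
  Lgr Lrot3 (Lpr_ft (f458981 IH) (Lpn (LP (LK LD1_c3 LD2_c31 LD3_c24))))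
theorem f458987 : Led Lsl_ft (LP (LK LD1_c1 LD2_c42 LD3_c25)) = (LP (LK LD1_c1 LD2_c42 LD3_c16)) :=
  Lgr Lrot54 (Lpe (f458973 IH) (Lpr_ff (f458985 IH) (Lpe (K24.f458906 IH) (Lpn (LP (LK LD1_c1 LD2_c42 LD3_c16))))))
theorem f459293 : Led Lsl_bt (LP (LK LD1_c1 LD2_c42 LD3_c25)) = (LP (LK LD1_c1 LD2_c42 LD3_c25)) :=
  Lgr Lrot35 (Lpr_ff (f458983 IH) (Lpr_bf (f459285 IH) (Lpe (f458987 IH) (Lpn (LP (LK LD1_c1 LD2_c42 LD3_c25))))))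
theorem f459297 : Led Lsl_bf (LP (LK LD1_c3 LD2_c31 LD3_c39)) = (LP (LK LD1_c3 LD2_c31 LD3_c39)) :=
  Lgr Lrot93 (Lpr_dt (f458973 IH) (Lpr_bt (f459293 IH) (Lpr_dt (f458946 IH) (Lpn (LP (LK LD1_c3 LD2_c31 LD3_c39))))))
theorem f463488 : Led Lsl_bf (LP (LK LD1_c1 LD2_c48 LD3_c55)) = (LP (LK LD1_c1 LD2_c48 LD3_c55)) :=
  Lgr Lrot96 (Lpr_et (f463484 IH) (Lpe (f459297 IH) (Lpe (f463478 IH) (Lpn (LP (LK LD1_c1 LD2_c48 LD3_c55))))))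
theorem f122031 : Led Lsl_ct (LP (LK LD1_c1 LD2_c47 LD3_c31)) = (LP (LK LD1_c3 LD2_c41 LD3_c8)) :=
  Lre_c IH (LK LD1_c1 LD2_c47 LD3_c31) (LK LD1_c3 LD2_c41 LD3_c8) Lrfl Lrfl
theorem f122068 : Led Lsl_et (LP (LK LD1_c3 LD2_c41 LD3_c1)) = (LP (LK LD1_c7 LD2_c22 LD3_c16)) :=
  Lre_e IH (LK LD1_c3 LD2_c41 LD3_c1) (LK LD1_c7 LD2_c22 LD3_c16) Lrfl Lrfl
theorem f208947 : Led Lsl_et (LP (LK LD1_c7 LD2_c27 LD3_c45)) = (LP (LK LD1_c3 LD2_c43 LD3_c35)) :=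
  Lre_e IH (LK LD1_c7 LD2_c27 LD3_c45) (LK LD1_c3 LD2_c43 LD3_c35) Lrfl Lrfl
theorem f209116 : Led Lsl_bt (LP (LK LD1_c7 LD2_c22 LD3_c16)) = (LP (LK LD1_c7 LD2_c27 LD3_c45)) :=
  Lgr Lrot119 (Lpe (f122068 IH) (Lpr_bf (K24.f209112 IH) (Lpe (f208947 IH) (Lpn (LP (LK LD1_c7 LD2_c27 LD3_c45))))))
theorem f209121 : Led Lsl_bf (LP (LK LD1_c7 LD2_c22 LD3_c16)) = (LP (LK LD1_c7 LD2_c27 LD3_c45)) :=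
  Lgr Lrot24 (Lpr_bt (f209116 IH) (Lpn (LP (LK LD1_c7 LD2_c27 LD3_c45))))
theorem f122046 : Led Lsl_at (LP (LK LD1_c7 LD2_c22 LD3_c16)) = (LP (LK LD1_c3 LD2_c41 LD3_c3)) :=
  Lre_a IH (LK LD1_c7 LD2_c22 LD3_c16) (LK LD1_c3 LD2_c41 LD3_c3) Lrfl Lrfl
theorem f209124 : Led Lsl_bt (LP (LK LD1_c3 LD2_c41 LD3_c3)) = (LP (LK LD1_c1 LD2_c47 LD3_c29)) :=
  Lre_b IH (LK LD1_c3 LD2_c41 LD3_c3) (LK LD1_c1 LD2_c47 LD3_c29) Lrfl Lrfl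
theorem f209125 : Led Lsl_at (LP (LK LD1_c3 LD2_c43 LD3_c37)) = (LP (LK LD1_c7 LD2_c27 LD3_c45)) :=
  Lre_a IH (LK LD1_c3 LD2_c43 LD3_c37) (LK LD1_c7 LD2_c27 LD3_c45) Lrfl Lrfl
theorem f131710 : Led Lsl_bt (LP (LK LD1_c1 LD2_c48 LD3_c54)) = (LP (LK LD1_c3 LD2_c43 LD3_c37)) :=
  Lre_b IH (LK LD1_c1 LD2_c48 LD3_c54) (LK LD1_c3 LD2_c43 LD3_c37) Lrfl Lrfl
theorem f209126 : Led Lsl_at (LP (LK LD1_c1 LD2_c47 LD3_c29)) = (LP (LK LD1_c1 LD2_c48 LD3_c54)) :=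
  Lgr Lrot67 (Lpe (f209124 IH) (Lpe (f122046 IH) (Lpr_bf (f209121 IH) (Lpe (f209125 IH) (Lpe (f131710 IH) (Lpn (LP (LK LD1_c1 LD2_c48 LD3_c54))))))))
theorem f122245 : Led Lsl_ft (LP (LK LD1_c3 LD2_c41 LD3_c8)) = (LP (LK LD1_c1 LD2_c47 LD3_c29)) :=
  Lre_f IH (LK LD1_c3 LD2_c41 LD3_c8) (LK LD1_c1 LD2_c47 LD3_c29) Lrfl Lrfl
theorem f209147 : Led Lsl_gt (LP (LK LD1_c3 LD2_c43 LD3_c40)) = (LP (LK LD1_c1 LD2_c48 LD3_c54)) :=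
  Lre_g IH (LK LD1_c3 LD2_c43 LD3_c40) (LK LD1_c1 LD2_c48 LD3_c54) Lrfl Lrfl
theorem f209148 : Led Lsl_gt (LP (LK LD1_c3 LD2_c41 LD3_c8)) = (LP (LK LD1_c3 LD2_c43 LD3_c40)) :=
  Lgr Lrot5 (Lpr_ft (f122245 IH) (Lpr_at (f209126 IH) (Lpe (f209147 IH) (Lpn (LP (LK LD1_c3 LD2_c43 LD3_c40))))))
theorem f123584 : Led Lsl_ct (LP (LK LD1_c3 LD2_c25 LD3_c56)) = (LP (LK LD1_c1 LD2_c49 LD3_c2)) :=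
  Lgr Lrot15 (Lpe (K24.f116023 IH) (Lpr_cf (K4.f123570 IH) (Lpe (K8.f123583 IH) (Lpn (LP (LK LD1_c1 LD2_c49 LD3_c2))))))
theorem f17826 : Led Lsl_bt (LP (LK LD1_c1 LD2_c44 LD3_c50)) = (LP (LK LD1_c0 LD2_c49 LD3_c10)) :=
  Lre_b IH (LK LD1_c1 LD2_c44 LD3_c50) (LK LD1_c0 LD2_c49 LD3_c10) Lrfl Lrfl
theorem f108424 : Led Lsl_ft (LP (LK LD1_c1 LD2_c44 LD3_c59)) = (LP (LK LD1_c0 LD2_c49 LD3_c10)) :=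
  Lre_f IH (LK LD1_c1 LD2_c44 LD3_c59) (LK LD1_c0 LD2_c49 LD3_c10) Lrfl Lrfl
theorem f108221 : Led Lsl_ft (LP (LK LD1_c0 LD2_c48 LD3_c2)) = (LP (LK LD1_c1 LD2_c42 LD3_c56)) :=
  Lre_f IH (LK LD1_c0 LD2_c48 LD3_c2) (LK LD1_c1 LD2_c42 LD3_c56) Lrfl Lrfl
theorem f108425 : Led Lsl_at (LP (LK LD1_c0 LD2_c49 LD3_c10)) = (LP (LK LD1_c0 LD2_c48 LD3_c2)) :=
  Lgr Lrot66 (Lpe (f108424 IH) (Lpr_af (K24.f108413 IH) (Lpe (f108221 IH) (Lpn (LP (LK LD1_c0 LD2_c48 LD3_c2))))))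
theorem f108434 : Led Lsl_bt (LP (LK LD1_c0 LD2_c48 LD3_c2)) = (LP (LK LD1_c1 LD2_c42 LD3_c43)) :=
  Lre_b IH (LK LD1_c0 LD2_c48 LD3_c2) (LK LD1_c1 LD2_c42 LD3_c43) Lrfl Lrfl
theorem f130698 : Led Lsl_bt (LP (LK LD1_c3 LD2_c25 LD3_c56)) = (LP (LK LD1_c3 LD2_c25 LD3_c25)) :=
  Lgr Lrot62 (Lpr_af (K24.f116036 IH) (Lpe (f108434 IH) (Lpe (f108425 IH) (Lpe (f17826 IH) (Lpr_af (K24.f130694 IH) (Lpn (LP (LK LD1_c3 LD2_c25 LD3_c25))))))))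
theorem f109159 : Led Lsl_gt (LP (LK LD1_c6 LD2_c52 LD3_c61)) = (LP (LK LD1_c3 LD2_c25 LD3_c25)) :=
  Lre_g IH (LK LD1_c6 LD2_c52 LD3_c61) (LK LD1_c3 LD2_c25 LD3_c25) Lrfl Lrfl
theorem f103803 : Led Lsl_gt (LP (LK LD1_c7 LD2_c32 LD3_c15)) = (LP (LK LD1_c14 LD2_c12 LD3_c49)) :=
  Lre_g IH (LK LD1_c7 LD2_c32 LD3_c15) (LK LD1_c14 LD2_c12 LD3_c49) Lrfl Lrfl
theorem f14647 : Led Lsl_gt (LP (LK LD1_c1 LD2_c38 LD3_c41)) = (LP (LK LD1_c3 LD2_c24 LD3_c30)) :=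
  Lre_g IH (LK LD1_c1 LD2_c38 LD3_c41) (LK LD1_c3 LD2_c24 LD3_c30) Lrfl Lrfl
theorem f19138 : Led Lsl_ct (LP (LK LD1_c6 LD2_c51 LD3_c38)) = (LP (LK LD1_c3 LD2_c24 LD3_c30)) :=
  Lre_c IH (LK LD1_c6 LD2_c51 LD3_c38) (LK LD1_c3 LD2_c24 LD3_c30) Lrfl Lrfl
theorem f460719 : Led Lsl_bf (LP (LK LD1_c7 LD2_c32 LD3_c15)) = (LP (LK LD1_c6 LD2_c51 LD3_c38)) :=
  Lgr Lrot165 (Lpr_gt (f103803 IH) (Lpr_ct (K24.f123753 IH) (Lpr_gt (K24.f123763 IH) (Lpe (K24.f123787 IH) (Lpr_bt (K24.f460711 IH) (Lpr_gt (K24.f15874 IH) (Lpe (K24.f15796 IH) (Lpr_ct (K24.f15793 IH) (Lpr_gt (f14647 IH) (Lpe (f19138 IH) (Lpn (LP (LK LD1_c6 LD2_c51 LD3_c38)))))))))))))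
theorem f123821 : Led Lsl_gt (LP (LK LD1_c3 LD2_c45 LD3_c48)) = (LP (LK LD1_c7 LD2_c32 LD3_c15)) :=
  Lre_g IH (LK LD1_c3 LD2_c45 LD3_c48) (LK LD1_c7 LD2_c32 LD3_c15) Lrfl Lrfl
theorem f111817 : Led Lsl_bt (LP (LK LD1_c1 LD2_c50 LD3_c0)) = (LP (LK LD1_c3 LD2_c45 LD3_c48)) :=
  Lre_b IH (LK LD1_c1 LD2_c50 LD3_c0) (LK LD1_c3 LD2_c45 LD3_c48) Lrfl Lrfl
theorem f111816 : Led Lsl_at (LP (LK LD1_c3 LD2_c45 LD3_c48)) = (LP (LK LD1_c7 LD2_c32 LD3_c12)) :=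
  Lre_a IH (LK LD1_c3 LD2_c45 LD3_c48) (LK LD1_c7 LD2_c32 LD3_c12) Lrfl Lrfl
theorem f17886 : Led Lsl_at (LP (LK LD1_c13 LD2_c17 LD3_c23)) = (LP (LK LD1_c7 LD2_c0 LD3_c19)) :=
  Lre_a IH (LK LD1_c13 LD2_c17 LD3_c23) (LK LD1_c7 LD2_c0 LD3_c19) Lrfl Lrfl
theorem f17874 : Led Lsl_bt (LP (LK LD1_c7 LD2_c0 LD3_c19)) = (LP (LK LD1_c3 LD2_c29 LD3_c21)) :=
  Lre_b IH (LK LD1_c7 LD2_c0 LD3_c19) (LK LD1_c3 LD2_c29 LD3_c21) Lrfl Lrfl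
theorem f111818 : Led Lsl_af (LP (LK LD1_c1 LD2_c50 LD3_c0)) = (LP (LK LD1_c3 LD2_c29 LD3_c21)) :=
  Lgr Lrot36 (Lpr_bt (f111817 IH) (Lpr_at (f111816 IH) (Lpr_bt (K4.f111814 IH) (Lpr_at (f17886 IH) (Lpr_bt (f17874 IH) (Lpn (LP (LK LD1_c3 LD2_c29 LD3_c21))))))))
theorem f130700 : Led Lsl_ct (LP (LK LD1_c1 LD2_c50 LD3_c0)) = (LP (LK LD1_c3 LD2_c25 LD3_c25)) :=
  Lgr Lrot111 (Lpr_af (f111818 IH) (Lpe (K4.f17795 IH) (Lpr_af (K24.f130694 IH) (Lpn (LP (LK LD1_c3 LD2_c25 LD3_c25))))))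
theorem f15714 : Led Lsl_gt (LP (LK LD1_c3 LD2_c24 LD3_c30)) = (LP (LK LD1_c1 LD2_c38 LD3_c52)) :=
  Lre_g IH (LK LD1_c3 LD2_c24 LD3_c30) (LK LD1_c1 LD2_c38 LD3_c52) Lrfl Lrfl
theorem f18204 : Led Lsl_bt (LP (LK LD1_c1 LD2_c41 LD3_c53)) = (LP (LK LD1_c3 LD2_c30 LD3_c11)) :=
  Lre_b IH (LK LD1_c1 LD2_c41 LD3_c53) (LK LD1_c3 LD2_c30 LD3_c11) Lrfl Lrfl
theorem f18205 : Led Lsl_et (LP (LK LD1_c3 LD2_c30 LD3_c31)) = (LP (LK LD1_c1 LD2_c41 LD3_c53)) :=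
  Lre_e IH (LK LD1_c3 LD2_c30 LD3_c31) (LK LD1_c1 LD2_c41 LD3_c53) Lrfl Lrfl
theorem f18206 : Led Lsl_bf (LP (LK LD1_c3 LD2_c30 LD3_c31)) = (LP (LK LD1_c3 LD2_c24 LD3_c48)) :=
  Lgr Lrot96 (Lpr_et (f18205 IH) (Lpr_bt (f18204 IH) (Lpr_et (K1.f18192 IH) (Lpn (LP (LK LD1_c3 LD2_c24 LD3_c48))))))
theorem f19135 : Led Lsl_gt (LP (LK LD1_c3 LD2_c30 LD3_c31)) = (LP (LK LD1_c6 LD2_c58 LD3_c45)) :=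
  Lre_g IH (LK LD1_c3 LD2_c30 LD3_c31) (LK LD1_c6 LD2_c58 LD3_c45) Lrfl Lrfl
theorem f460850 : Led Lsl_cf (LP (LK LD1_c6 LD2_c52 LD3_c61)) = (LP (LK LD1_c6 LD2_c58 LD3_c45)) :=
  Lgr Lrot125 (Lpr_gt (f109159 IH) (Lpe (f130700 IH) (Lpr_bt (f111817 IH) (Lpr_gt (f123821 IH) (Lpr_bf (f460719 IH) (Lpr_ct (f19138 IH) (Lpr_gt (f15714 IH) (Lpe (K1.f15787 IH) (Lpe (f18206 IH) (Lpr_gt (f19135 IH) (Lpn (LP (LK LD1_c6 LD2_c58 LD3_c45)))))))))))))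
theorem f460852 : Led Lsl_ct (LP (LK LD1_c6 LD2_c52 LD3_c61)) = (LP (LK LD1_c6 LD2_c58 LD3_c45)) :=
  Lgr Lrot59 (Lpr_cf (f460850 IH) (Lpn (LP (LK LD1_c6 LD2_c58 LD3_c45))))
theorem f18563 : Led Lsl_bt (LP (LK LD1_c1 LD2_c42 LD3_c1)) = (LP (LK LD1_c0 LD2_c47 LD3_c47)) :=
  Lre_b IH (LK LD1_c1 LD2_c42 LD3_c1) (LK LD1_c0 LD2_c47 LD3_c47) Lrfl Lrfl
theorem f130728 : Led Lsl_cf (LP (LK LD1_c1 LD2_c50 LD3_c0)) = (LP (LK LD1_c3 LD2_c25 LD3_c25)) :=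
  Lgr Lrot108 (Lpr_ft (K24.f109253 IH) (Lpr_ct (K24.f130724 IH) (Lpr_ft (K24.f130702 IH) (Lpn (LP (LK LD1_c3 LD2_c25 LD3_c25))))))
theorem f123831 : Led Lsl_bt (LP (LK LD1_c3 LD2_c43 LD3_c58)) = (LP (LK LD1_c1 LD2_c49 LD3_c2)) :=
  Lre_b IH (LK LD1_c3 LD2_c43 LD3_c58) (LK LD1_c1 LD2_c49 LD3_c2) Lrfl Lrfl
theorem f130731 : Led Lsl_ct (LP (LK LD1_c1 LD2_c49 LD3_c2)) = (LP (LK LD1_c3 LD2_c25 LD3_c56)) :=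
  Lgr Lrot83 (Lpe (f123831 IH) (Lpe (K24.f123652 IH) (Lpe (f111817 IH) (Lpr_cf (f130728 IH) (Lpe (f130698 IH) (Lpn (LP (LK LD1_c3 LD2_c25 LD3_c56))))))))
theorem f116038 : Led Lsl_at (LP (LK LD1_c3 LD2_c25 LD3_c56)) = (LP (LK LD1_c1 LD2_c42 LD3_c43)) :=
  Lgr Lrot100 (Lpr_af (K24.f116036 IH) (Lpn (LP (LK LD1_c1 LD2_c42 LD3_c43))))
theorem f146926 : Led Lsl_cf (LP (LK LD1_c1 LD2_c47 LD3_c37)) = (LP (LK LD1_c1 LD2_c42 LD3_c43)) :=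
  Lgr Lrot1 (Lpr_at (K8.f146918 IH) (Lpr_ct (f130731 IH) (Lpr_at (f116038 IH) (Lpn (LP (LK LD1_c1 LD2_c42 LD3_c43))))))
theorem f90119 : Led Lsl_gt (LP (LK LD1_c3 LD2_c32 LD3_c4)) = (LP (LK LD1_c1 LD2_c42 LD3_c43)) :=
  Lre_g IH (LK LD1_c3 LD2_c32 LD3_c4) (LK LD1_c1 LD2_c42 LD3_c43) Lrfl Lrfl
theorem f460859 : Led Lsl_bt (LP (LK LD1_c6 LD2_c52 LD3_c61)) = (LP (LK LD1_c3 LD2_c32 LD3_c4)) :=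
  Lgr Lrot130 (Lpr_ct (f460852 IH) (Lpe (f19135 IH) (Lpe (K2.f18543 IH) (Lpr_bt (f18563 IH) (Lpr_gf (K24.f450727 IH) (Lpq (K24.f457660 IH) (Lpe (K24.f455645 IH) (Lpr_ct (K24.f455650 IH) (Lpe (K24.f460754 IH) (Lpr_cf (f146926 IH) (Lpe (f90119 IH) (Lpn (LP (LK LD1_c3 LD2_c32 LD3_c4))))))))))))))
theorem f460861 : Led Lsl_bf (LP (LK LD1_c6 LD2_c52 LD3_c61)) = (LP (LK LD1_c3 LD2_c32 LD3_c4)) :=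
  Lgr Lrot24 (Lpr_bt (f460859 IH) (Lpn (LP (LK LD1_c3 LD2_c32 LD3_c4))))
theorem f463548 : Led Lsl_cf (LP (LK LD1_c3 LD2_c43 LD3_c40)) = (LP (LK LD1_c3 LD2_c32 LD3_c4)) :=
  Lgr Lrot163 (Lpe (f209148 IH) (Lpe (f122031 IH) (Lpr_gf (f131736 IH) (Lpr_bf (f463488 IH) (Lpr_ct (f131719 IH) (Lpr_gf (f463538 IH) (Lpe (f123584 IH) (Lpr_bt (f130698 IH) (Lpe (f109159 IH) (Lpr_bf (f460861 IH) (Lpn (LP (LK LD1_c3 LD2_c32 LD3_c4)))))))))))))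
theorem f129682 : Led Lsl_ct (LP (LK LD1_c1 LD2_c42 LD3_c2)) = (LP (LK LD1_c3 LD2_c30 LD3_c61)) :=
  Lre_c IH (LK LD1_c1 LD2_c42 LD3_c2) (LK LD1_c3 LD2_c30 LD3_c61) Lrfl Lrfl
theorem f129678 : Led Lsl_bt (LP (LK LD1_c1 LD2_c42 LD3_c2)) = (LP (LK LD1_c3 LD2_c30 LD3_c60)) :=
  Lre_b IH (LK LD1_c1 LD2_c42 LD3_c2) (LK LD1_c3 LD2_c30 LD3_c60) Lrfl Lrfl
theorem f463578 : Led Lsl_gf (LP (LK LD1_c3 LD2_c40 LD3_c61)) = (LP (LK LD1_c3 LD2_c30 LD3_c60)) :=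
  Lgr Lrot124 (Lpe (K5.f122028 IH) (Lpr_ct (f122031 IH) (Lpr_gt (f209148 IH) (Lpr_cf (f463548 IH) (Lpe (f460861 IH) (Lpr_gt (f109159 IH) (Lpe (f130728 IH) (Lpr_gt (K24.f460705 IH) (Lpe (f129682 IH) (Lpr_bt (f129678 IH) (Lpn (LP (LK LD1_c3 LD2_c30 LD3_c60)))))))))))))
theorem f463580 : Led Lsl_gt (LP (LK LD1_c1 LD2_c49 LD3_c32)) = (LP (LK LD1_c3 LD2_c30 LD3_c60)) :=
  Lgr Lrot5 (Lpr_ft (K5.f93177 IH) (Lpe (K5.f122024 IH) (Lpr_gf (f463578 IH) (Lpn (LP (LK LD1_c3 LD2_c30 LD3_c60))))))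
theorem f107286 : Led Lsl_et (LP (LK LD1_c0 LD2_c50 LD3_c22)) = (LP (LK LD1_c1 LD2_c47 LD3_c10)) :=
  Lre_e IH (LK LD1_c0 LD2_c50 LD3_c22) (LK LD1_c1 LD2_c47 LD3_c10) Lrfl Lrfl
theorem f124883 : Led Lsl_dt (LP (LK LD1_c0 LD2_c51 LD3_c15)) = (LP (LK LD1_c0 LD2_c45 LD3_c55)) :=
  Lgr Lrot57 (Lpr_gf (K7.f121967 IH) (Lpe (K2.f65862 IH) (Lpr_gt (K2.f65857 IH) (Lpr_dt (K2.f18149 IH) (Lpr_gt (K2.f91291 IH) (Lpr_dt (K2.f89968 IH) (Lpr_cf (K2.f90056 IH) (Lpr_df (K2.f88644 IH) (Lpr_gf (K5.f124875 IH) (Lpn (LP (LK LD1_c0 LD2_c45 LD3_c55))))))))))))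
theorem f124909 : Led Lsl_dt (LP (LK LD1_c1 LD2_c47 LD3_c10)) = (LP (LK LD1_c1 LD2_c48 LD3_c58)) :=
  Lgr Lrot77 (Lpe (f107286 IH) (Lpe (K3.f95914 IH) (Lpr_ef (K5.f124903 IH) (Lpe (f124883 IH) (Lpe (K5.f121970 IH) (Lpn (LP (LK LD1_c1 LD2_c48 LD3_c58))))))))
theorem f18852 : Led Lsl_bt (LP (LK LD1_c3 LD2_c30 LD3_c60)) = (LP (LK LD1_c1 LD2_c42 LD3_c2)) :=
  Lre_b IH (LK LD1_c3 LD2_c30 LD3_c60) (LK LD1_c1 LD2_c42 LD3_c2) Lrfl Lrfl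
theorem f129691 : Led Lsl_bt (LP (LK LD1_c3 LD2_c29 LD3_c16)) = (LP (LK LD1_c7 LD2_c0 LD3_c12)) :=
  Lre_b IH (LK LD1_c3 LD2_c29 LD3_c16) (LK LD1_c7 LD2_c0 LD3_c12) Lrfl Lrfl
theorem f129692 : Led Lsl_ef (LP (LK LD1_c3 LD2_c30 LD3_c60)) = (LP (LK LD1_c7 LD2_c0 LD3_c12)) :=
  Lgr Lrot29 (Lpr_bt (f18852 IH) (Lpr_et (K24.f129687 IH) (Lpr_bt (f129691 IH) (Lpn (LP (LK LD1_c7 LD2_c0 LD3_c12))))))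
theorem f129749 : Led Lsl_dt (LP (LK LD1_c7 LD2_c0 LD3_c12)) = (LP (LK LD1_c3 LD2_c29 LD3_c14)) :=
  Lre_d IH (LK LD1_c7 LD2_c0 LD3_c12) (LK LD1_c3 LD2_c29 LD3_c14) Lrfl Lrfl
theorem f463584 : Led Lsl_gf (LP (LK LD1_c1 LD2_c48 LD3_c58)) = (LP (LK LD1_c3 LD2_c29 LD3_c14)) :=
  Lgr Lrot145 (Lpe (f124909 IH) (Lpr_et (f107307 IH) (Lpr_gt (K3.f107278 IH) (Lpr_dt (K2.f88646 IH) (Lpe (K2.f87557 IH) (Lpe (K2.f92272 IH) (Lpr_et (K2.f92274 IH) (Lpr_gt (f463580 IH) (Lpr_ef (f129692 IH) (Lpr_dt (f129749 IH) (Lpn (LP (LK LD1_c3 LD2_c29 LD3_c14)))))))))))))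
theorem f463586 : Led Lsl_gt (LP (LK LD1_c6 LD2_c58 LD3_c55)) = (LP (LK LD1_c3 LD2_c29 LD3_c14)) :=
  Lgr Lrot5 (Lpr_ft (K4.f17687 IH) (Lpe (K5.f122011 IH) (Lpr_gf (f463584 IH) (Lpn (LP (LK LD1_c3 LD2_c29 LD3_c14))))))
theorem f17685 : Led Lsl_bf (LP (LK LD1_c6 LD2_c58 LD3_c55)) = (LP (LK LD1_c3 LD2_c35 LD3_c38)) :=
  Lgr Lrot24 (Lpr_bt (K4.f17682 IH) (Lpn (LP (LK LD1_c3 LD2_c35 LD3_c38))))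
theorem f18040 : Led Lsl_ct (LP (LK LD1_c3 LD2_c35 LD3_c38)) = (LP (LK LD1_c3 LD2_c38 LD3_c28)) :=
  Lgr Lrot59 (Lpr_cf (K4.f18033 IH) (Lpn (LP (LK LD1_c3 LD2_c38 LD3_c28))))
theorem f18584 : Led Lsl_gt (LP (LK LD1_c0 LD2_c45 LD3_c49)) = (LP (LK LD1_c1 LD2_c38 LD3_c50)) :=
  Lre_g IH (LK LD1_c0 LD2_c45 LD3_c49) (LK LD1_c1 LD2_c38 LD3_c50) Lrfl Lrfl
theorem f15836 : Led Lsl_bt (LP (LK LD1_c3 LD2_c24 LD3_c49)) = (LP (LK LD1_c1 LD2_c38 LD3_c50)) :=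
  Lre_b IH (LK LD1_c3 LD2_c24 LD3_c49) (LK LD1_c1 LD2_c38 LD3_c50) Lrfl Lrfl
def v146 : LQ := Led Lsl_gf (LP (LK LD1_c0 LD2_c21 LD3_c21))
theorem f450733 : Led Lsl_gf (LP (LK LD1_c0 LD2_c21 LD3_c21)) = v146 :=
  Lrfl
def v635 : LQ := Led Lsl_at (LP (LK LD1_c0 LD2_c47 LD3_c40))
theorem f455653 : Led Lsl_at (LP (LK LD1_c0 LD2_c47 LD3_c40)) = v635 :=
  Lrfl
theorem f455654 : Led Lsl_af (LP (LK LD1_c0 LD2_c47 LD3_c40)) = v635 :=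
  Lgr Lrot0 (Lpr_at (f455653 IH) (Lpn v635))
theorem f455655 : Led Lsl_cf K24.v143 = v635 :=
  Lgr Lrot1 (Lpe (K24.f450711 IH) (Lpr_ct (K24.f446537 IH) (Lpr_at (f455653 IH) (Lpn v635))))
theorem f455657 : Led Lsl_ft (LP (LK LD1_c0 LD2_c47 LD3_c44)) = v635 :=
  Lgr Lrot4 (Lpe (K24.f446517 IH) (Lpr_ff (K24.f450717 IH) (Lpr_cf (f455655 IH) (Lpn v635))))
theorem f455677 : Led Lsl_af (LP (LK LD1_c0 LD2_c47 LD3_c44)) = K24.v637 :=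
  Lgr Lrot45 (Lpr_ft (f455657 IH) (Lpe (f455654 IH) (Lpr_ft (K24.f455676 IH) (Lpn K24.v637))))
theorem f455680 : Led Lsl_gt K24.v633 = (LP (LK LD1_c0 LD2_c47 LD3_c44)) :=
  Lgr Lrot46 (Lpe (K24.f455644 IH) (Lpr_ft (K24.f455676 IH) (Lpe (f455677 IH) (Lpn (LP (LK LD1_c0 LD2_c47 LD3_c44))))))
theorem f18568 : Led Lsl_at (LP (LK LD1_c0 LD2_c21 LD3_c21)) = (LP (LK LD1_c0 LD2_c21 LD3_c21)) :=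
  Lgr Lrot107 (Lpr_cf (K2.f18565 IH) (Lpr_af (K2.f15767 IH) (Lpe (K24.f11067 IH) (Lpn (LP (LK LD1_c0 LD2_c21 LD3_c21))))))
theorem f18559 : Led Lsl_ft (LP (LK LD1_c0 LD2_c47 LD3_c47)) = (LP (LK LD1_c0 LD2_c21 LD3_c21)) :=
  Lre_f IH (LK LD1_c0 LD2_c47 LD3_c47) (LK LD1_c0 LD2_c21 LD3_c21) Lrfl Lrfl
theorem f450734 : Led Lsl_gt (LP (LK LD1_c0 LD2_c47 LD3_c47)) = v146 :=
  Lgr Lrot5 (Lpr_ft (f18559 IH) (Lpr_at (f18568 IH) (Lpr_gf (f450733 IH) (Lpn v146))))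
theorem f457658 : (LP (LK LD1_c0 LD2_c47 LD3_c44)) = v146 :=
  Lefun (Lecon (f455680 IH) (K24.f457657 IH)) (f450734 IH)
theorem f11227 : Led Lsl_af (LP (LK LD1_c0 LD2_c9 LD3_c38)) = (LP (LK LD1_c0 LD2_c9 LD3_c38)) :=
  Lgr Lrot117 (Lpr_dt (K11.f4473 IH) (Lpr_at (K0.f11187 IH) (Lpr_dt (K24.f11192 IH) (Lpn (LP (LK LD1_c0 LD2_c9 LD3_c38))))))
theorem f446513 : Led Lsl_ft (LP (LK LD1_c0 LD2_c21 LD3_c20)) = (LP (LK LD1_c0 LD2_c9 LD3_c38)) :=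
  Lre_f IH (LK LD1_c0 LD2_c21 LD3_c20) (LK LD1_c0 LD2_c9 LD3_c38) Lrfl Lrfl
theorem f446514 : Led Lsl_gf (LP (LK LD1_c0 LD2_c21 LD3_c19)) = (LP (LK LD1_c0 LD2_c21 LD3_c20)) :=
  Lgr Lrot47 (Lpr_gt (K24.f12714 IH) (Lpr_af (f11227 IH) (Lpe (f446513 IH) (Lpn (LP (LK LD1_c0 LD2_c21 LD3_c20))))))
theorem f18799 : Led Lsl_bt (LP (LK LD1_c0 LD2_c47 LD3_c30)) = (LP (LK LD1_c0 LD2_c21 LD3_c20)) :=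
  Lre_b IH (LK LD1_c0 LD2_c47 LD3_c30) (LK LD1_c0 LD2_c21 LD3_c20) Lrfl Lrfl
theorem f446520 : Led Lsl_ct (LP (LK LD1_c0 LD2_c47 LD3_c30)) = (LP (LK LD1_c1 LD2_c41 LD3_c53)) :=
  Lre_c IH (LK LD1_c0 LD2_c47 LD3_c30) (LK LD1_c1 LD2_c41 LD3_c53) Lrfl Lrfl
theorem f458349 : Led Lsl_ct (LP (LK LD1_c3 LD2_c24 LD3_c49)) = (LP (LK LD1_c3 LD2_c29 LD3_c6)) :=
  Lgr Lrot64 (Lpr_bt (f15836 IH) (Lpe (f18584 IH) (Lpe (K2.f15775 IH) (Lpe (K2.f18565 IH) (Lpr_gf (f450733 IH) (Lpq (f457658 IH) (Lpe (K24.f446517 IH) (Lpr_gf (f446514 IH) (Lpe (f18799 IH) (Lpr_ct (f446520 IH) (Lpe (K3.f63667 IH) (Lpn (LP (LK LD1_c3 LD2_c29 LD3_c6))))))))))))))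
theorem f15835 : Led Lsl_gt (LP (LK LD1_c1 LD2_c38 LD3_c50)) = (LP (LK LD1_c3 LD2_c24 LD3_c32)) :=
  Lre_g IH (LK LD1_c1 LD2_c38 LD3_c50) (LK LD1_c3 LD2_c24 LD3_c32) Lrfl Lrfl
theorem f15837 : Led Lsl_gt (LP (LK LD1_c6 LD2_c51 LD3_c37)) = (LP (LK LD1_c3 LD2_c24 LD3_c46)) :=
  Lre_g IH (LK LD1_c6 LD2_c51 LD3_c37) (LK LD1_c3 LD2_c24 LD3_c46) Lrfl Lrfl
theorem f18795 : Led Lsl_gt (LP (LK LD1_c1 LD2_c41 LD3_c19)) = (LP (LK LD1_c0 LD2_c47 LD3_c15)) :=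
  Lre_g IH (LK LD1_c1 LD2_c41 LD3_c19) (LK LD1_c0 LD2_c47 LD3_c15) Lrfl Lrfl
theorem f18796 : Led Lsl_bt (LP (LK LD1_c3 LD2_c29 LD3_c14)) = (LP (LK LD1_c1 LD2_c41 LD3_c19)) :=
  Lre_b IH (LK LD1_c3 LD2_c29 LD3_c14) (LK LD1_c1 LD2_c41 LD3_c19) Lrfl Lrfl
theorem f458362 : Led Lsl_cf (LP (LK LD1_c3 LD2_c24 LD3_c46)) = (LP (LK LD1_c3 LD2_c29 LD3_c14)) :=
  Lgr Lrot163 (Lpe (f15837 IH) (Lpe (K2.f15816 IH) (Lpe (f15835 IH) (Lpe (f15836 IH) (Lpr_ct (f458349 IH) (Lpe (K3.f18760 IH) (Lpe (K3.f18742 IH) (Lpe (K3.f18745 IH) (Lpe (f18795 IH) (Lpe (f18796 IH) (Lpn (LP (LK LD1_c3 LD2_c29 LD3_c14)))))))))))))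
theorem f18607 : Led Lsl_gt (LP (LK LD1_c3 LD2_c24 LD3_c46)) = (LP (LK LD1_c1 LD2_c38 LD3_c49)) :=
  Lre_g IH (LK LD1_c3 LD2_c24 LD3_c46) (LK LD1_c1 LD2_c38 LD3_c49) Lrfl Lrfl
theorem f19065 : Led Lsl_ct (LP (LK LD1_c0 LD2_c45 LD3_c49)) = (LP (LK LD1_c1 LD2_c38 LD3_c49)) :=
  Lre_c IH (LK LD1_c0 LD2_c45 LD3_c49) (LK LD1_c1 LD2_c38 LD3_c49) Lrfl Lrfl
theorem f16705 : Led Lsl_bt (LP (LK LD1_c1 LD2_c38 LD3_c53)) = (LP (LK LD1_c0 LD2_c45 LD3_c50)) :=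
  Lre_b IH (LK LD1_c1 LD2_c38 LD3_c53) (LK LD1_c0 LD2_c45 LD3_c50) Lrfl Lrfl
theorem f16708 : Led Lsl_ct (LP (LK LD1_c1 LD2_c38 LD3_c53)) = (LP (LK LD1_c3 LD2_c24 LD3_c57)) :=
  Lre_c IH (LK LD1_c1 LD2_c38 LD3_c53) (LK LD1_c3 LD2_c24 LD3_c57) Lrfl Lrfl
theorem f463596 : Led Lsl_gf (LP (LK LD1_c3 LD2_c38 LD3_c28)) = (LP (LK LD1_c3 LD2_c24 LD3_c57)) :=
  Lgr Lrot126 (Lpe (f18040 IH) (Lpe (f17685 IH) (Lpr_gt (f463586 IH) (Lpe (f458362 IH) (Lpr_gt (f18607 IH) (Lpe (f19065 IH) (Lpr_bt (K2.f15777 IH) (Lpr_gt (K24.f11034 IH) (Lpe (f16705 IH) (Lpr_ct (f16708 IH) (Lpn (LP (LK LD1_c3 LD2_c24 LD3_c57)))))))))))))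
theorem f439424 : Led Lsl_af (LP (LK LD1_c1 LD2_c46 LD3_c41)) = (LP (LK LD1_c1 LD2_c46 LD3_c12)) :=
  Lgr Lrot68 (Lpr_ct (f439408 IH) (Lpe (K5.f128298 IH) (Lpr_ct (K3.f18021 IH) (Lpn (LP (LK LD1_c1 LD2_c46 LD3_c12))))))
theorem f208984 : Led Lsl_ft (LP (LK LD1_c1 LD2_c46 LD3_c41)) = (LP (LK LD1_c3 LD2_c39 LD3_c30)) :=
  Lre_f IH (LK LD1_c1 LD2_c46 LD3_c41) (LK LD1_c3 LD2_c39 LD3_c30) Lrfl Lrfl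
theorem f18046 : Led Lsl_ft (LP (LK LD1_c3 LD2_c38 LD3_c28)) = (LP (LK LD1_c1 LD2_c46 LD3_c12)) :=
  Lre_f IH (LK LD1_c3 LD2_c38 LD3_c28) (LK LD1_c1 LD2_c46 LD3_c12) Lrfl Lrfl
theorem f439435 : Led Lsl_at (LP (LK LD1_c3 LD2_c39 LD3_c30)) = (LP (LK LD1_c3 LD2_c38 LD3_c28)) :=
  Lgr Lrot66 (Lpe (f208984 IH) (Lpr_af (f439424 IH) (Lpe (f18046 IH) (Lpn (LP (LK LD1_c3 LD2_c38 LD3_c28))))))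
theorem f463598 : Led Lsl_gt (LP (LK LD1_c1 LD2_c46 LD3_c41)) = (LP (LK LD1_c3 LD2_c24 LD3_c57)) :=
  Lgr Lrot5 (Lpr_ft (f208984 IH) (Lpr_at (f439435 IH) (Lpr_gf (f463596 IH) (Lpn (LP (LK LD1_c3 LD2_c24 LD3_c57))))))
theorem f5703 : Led Lsl_et (LP (LK LD1_c1 LD2_c46 LD3_c41)) = (LP (LK LD1_c0 LD2_c50 LD3_c4)) :=
  Lre_e IH (LK LD1_c1 LD2_c46 LD3_c41) (LK LD1_c0 LD2_c50 LD3_c4) Lrfl Lrfl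
theorem f94448 : Led Lsl_ct (LP (LK LD1_c1 LD2_c42 LD3_c60)) = (LP (LK LD1_c1 LD2_c46 LD3_c41)) :=
  Lgr Lrot15 (Lpe (f84699 IH) (Lpr_cf (K2.f94416 IH) (Lpe (f5703 IH) (Lpn (LP (LK LD1_c1 LD2_c46 LD3_c41))))))
theorem f15781 : Led Lsl_ft (LP (LK LD1_c0 LD2_c20 LD3_c27)) = (LP (LK LD1_c0 LD2_c45 LD3_c52)) :=
  Lre_f IH (LK LD1_c0 LD2_c20 LD3_c27) (LK LD1_c0 LD2_c45 LD3_c52) Lrfl Lrfl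
theorem f16703 : Led Lsl_gt (LP (LK LD1_c0 LD2_c45 LD3_c50)) = (LP (LK LD1_c0 LD2_c45 LD3_c52)) :=
  Lgr Lrot46 (Lpe (K24.f11034 IH) (Lpr_ft (f15781 IH) (Lpr_at (K24.f15744 IH) (Lpn (LP (LK LD1_c0 LD2_c45 LD3_c52))))))
theorem f463620 : K24.v768 = (LP (LK LD1_c0 LD2_c47 LD3_c43)) :=
  (Llr Lrot124 (Lpe (K24.f457147 IH) (Lpr_bf (f128303 IH) (Lpr_ct (f94448 IH) (Lpr_gt (f463598 IH) (Lpe (f16708 IH) (Lpr_bt (f16705 IH) (Lpr_gt (f16703 IH) (Lpe (K2.f18545 IH) (Lpr_gt (f450734 IH) (Lpq (f457658 IH) (Lpe (K24.f446517 IH) (Lpr_bt (K24.f450718 IH) (Lpn (LP (LK LD1_c0 LD2_c47 LD3_c43)))))))))))))))).symm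
theorem f463621 : (LP (LK LD1_c0 LD2_c50 LD3_c29)) = K24.v646 :=
  Lefun (Lecon (Lfl_gf (K24.f457147 IH)) (f463620 IH)) (K24.f455746 IH)
def v788 : LQ := Led Lsl_gf (LP (LK LD1_c0 LD2_c50 LD3_c49))
theorem f459384 : Led Lsl_gf (LP (LK LD1_c0 LD2_c50 LD3_c49)) = v788 :=
  Lrfl
theorem f462172 : (LP (LK LD1_c0 LD2_c24 LD3_c24)) = v788 :=
  Lefun (Lecon (Lfl_gt (K24.f451350 IH)) (f462169 IH)) (f459384 IH)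
theorem f11346 : Led Lsl_ct (LP (LK LD1_c0 LD2_c54 LD3_c12)) = (LP (LK LD1_c0 LD2_c24 LD3_c24)) :=
  Lre_c IH (LK LD1_c0 LD2_c54 LD3_c12) (LK LD1_c0 LD2_c24 LD3_c24) Lrfl Lrfl
theorem f463653 : Led Lsl_gf (LP (LK LD1_c1 LD2_c54 LD3_c6)) = (LP (LK LD1_c0 LD2_c54 LD3_c12)) :=
  Lgr Lrot144 (Lpr_dt (K5.f121028 IH) (Lpr_gt (K24.f121082 IH) (Lpr_dt (K24.f460774 IH) (Lpe (K24.f458907 IH) (Lpe (K24.f458906 IH) (Lpe (K24.f459276 IH) (Lpq (f463621 IH) (Lpr_df (f128308 IH) (Lpr_gf (f459384 IH) (Lpq (f462172 IH) (Lpe (f11346 IH) (Lpn (LP (LK LD1_c0 LD2_c54 LD3_c12))))))))))))))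
theorem f121013 : Led Lsl_ct (LP (LK LD1_c3 LD2_c25 LD3_c54)) = (LP (LK LD1_c1 LD2_c54 LD3_c6)) :=
  Lgr Lrot15 (Lpe (K5.f109454 IH) (Lpr_cf (K4.f121000 IH) (Lpe (K24.f121012 IH) (Lpn (LP (LK LD1_c1 LD2_c54 LD3_c6))))))
theorem f121145 : Led Lsl_et (LP (LK LD1_c3 LD2_c54 LD3_c60)) = (LP (LK LD1_c7 LD2_c51 LD3_c37)) :=
  Lre_e IH (LK LD1_c3 LD2_c54 LD3_c60) (LK LD1_c7 LD2_c51 LD3_c37) Lrfl Lrfl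
theorem f88255 : Led Lsl_et (LP (LK LD1_c7 LD2_c37 LD3_c56)) = (LP (LK LD1_c3 LD2_c48 LD3_c27)) :=
  Lre_e IH (LK LD1_c7 LD2_c37 LD3_c56) (LK LD1_c3 LD2_c48 LD3_c27) Lrfl Lrfl
theorem f129374 : Led Lsl_ct (LP (LK LD1_c7 LD2_c51 LD3_c37)) = (LP (LK LD1_c7 LD2_c37 LD3_c56)) :=
  Lgr Lrot15 (Lpe (f121145 IH) (Lpr_cf (K5.f129370 IH) (Lpe (f88255 IH) (Lpn (LP (LK LD1_c7 LD2_c37 LD3_c56))))))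
theorem f129546 : Led Lsl_at (LP (LK LD1_c3 LD2_c54 LD3_c61)) = (LP (LK LD1_c7 LD2_c51 LD3_c37)) :=
  Lre_a IH (LK LD1_c3 LD2_c54 LD3_c61) (LK LD1_c7 LD2_c51 LD3_c37) Lrfl Lrfl
theorem f129547 : Led Lsl_at (LP (LK LD1_c7 LD2_c37 LD3_c56)) = (LP (LK LD1_c3 LD2_c48 LD3_c28)) :=
  Lre_a IH (LK LD1_c7 LD2_c37 LD3_c56) (LK LD1_c3 LD2_c48 LD3_c28) Lrfl Lrfl
theorem f129548 : Led Lsl_cf (LP (LK LD1_c3 LD2_c54 LD3_c61)) = (LP (LK LD1_c3 LD2_c48 LD3_c28)) :=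
  Lgr Lrot1 (Lpr_at (f129546 IH) (Lpr_ct (f129374 IH) (Lpr_at (f129547 IH) (Lpn (LP (LK LD1_c3 LD2_c48 LD3_c28))))))
theorem f121199 : Led Lsl_cf (LP (LK LD1_c3 LD2_c25 LD3_c54)) = (LP (LK LD1_c1 LD2_c54 LD3_c6)) :=
  Lgr Lrot11 (Lpr_ct (f121013 IH) (Lpn (LP (LK LD1_c1 LD2_c54 LD3_c6))))
theorem f127760 : Led Lsl_bt (LP (LK LD1_c1 LD2_c51 LD3_c15)) = (LP (LK LD1_c3 LD2_c48 LD3_c28)) :=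
  Lre_b IH (LK LD1_c1 LD2_c51 LD3_c15) (LK LD1_c3 LD2_c48 LD3_c28) Lrfl Lrfl
theorem f129554 : Led Lsl_bt (LP (LK LD1_c3 LD2_c25 LD3_c54)) = (LP (LK LD1_c3 LD2_c25 LD3_c24)) :=
  Lgr Lrot128 (Lpr_cf (f121199 IH) (Lpe (f121202 IH) (Lpr_cf (f129548 IH) (Lpe (f127760 IH) (Lpe (K5.f128079 IH) (Lpn (LP (LK LD1_c3 LD2_c25 LD3_c24))))))))
theorem f11246 : Led Lsl_ct (LP (LK LD1_c0 LD2_c24 LD3_c24)) = (LP (LK LD1_c0 LD2_c54 LD3_c12)) :=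
  Lre_c IH (LK LD1_c0 LD2_c24 LD3_c24) (LK LD1_c0 LD2_c54 LD3_c12) Lrfl Lrfl
theorem f463693 : Led Lsl_gt (LP (LK LD1_c3 LD2_c25 LD3_c24)) = (LP (LK LD1_c1 LD2_c40 LD3_c22)) :=
  Lgr Lrot82 (Lpe (f129554 IH) (Lpr_ct (f121013 IH) (Lpr_gf (f463653 IH) (Lpe (f11246 IH) (Lpr_bt (K24.f11245 IH) (Lpe (K24.f11234 IH) (Lpe (K24.f11173 IH) (Lpr_ct (K24.f11212 IH) (Lpe (K1.f11242 IH) (Lpe (K24.f457774 IH) (Lpn (LP (LK LD1_c1 LD2_c40 LD3_c22)))))))))))))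
theorem f11238 : Led Lsl_ct (LP (LK LD1_c0 LD2_c53 LD3_c3)) = (LP (LK LD1_c0 LD2_c23 LD3_c57)) :=
  Lre_c IH (LK LD1_c0 LD2_c53 LD3_c3) (LK LD1_c0 LD2_c23 LD3_c57) Lrfl Lrfl
theorem f446518 : Led Lsl_ct (LP (LK LD1_c1 LD2_c41 LD3_c53)) = (LP (LK LD1_c0 LD2_c47 LD3_c30)) :=
  Lre_c IH (LK LD1_c1 LD2_c41 LD3_c53) (LK LD1_c0 LD2_c47 LD3_c30) Lrfl Lrfl
theorem f463705 : Led Lsl_gt (LP (LK LD1_c3 LD2_c15 LD3_c22)) = (LP (LK LD1_c3 LD2_c24 LD3_c49)) :=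
  Lgr Lrot9 (Lpe (K24.f128071 IH) (Lpr_gt (f463693 IH) (Lpr_ct (K24.f457774 IH) (Lpr_gt (K1.f11242 IH) (Lpr_ct (f11238 IH) (Lpe (K1.f62768 IH) (Lpe (f446518 IH) (Lpe (K3.f63667 IH) (Lpe (f458349 IH) (Lpn (LP (LK LD1_c3 LD2_c24 LD3_c49))))))))))))
theorem f108768 : Led Lsl_ft (LP (LK LD1_c3 LD2_c15 LD3_c22)) = (LP (LK LD1_c6 LD2_c34 LD3_c4)) :=
  Lre_f IH (LK LD1_c3 LD2_c15 LD3_c22) (LK LD1_c6 LD2_c34 LD3_c4) Lrfl Lrfl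
theorem f108761 : Led Lsl_ft (LP (LK LD1_c6 LD2_c34 LD3_c4)) = (LP (LK LD1_c3 LD2_c15 LD3_c22)) :=
  Lre_f IH (LK LD1_c6 LD2_c34 LD3_c4) (LK LD1_c3 LD2_c15 LD3_c22) Lrfl Lrfl
theorem f108762 : Led Lsl_af (LP (LK LD1_c6 LD2_c34 LD3_c4)) = (LP (LK LD1_c3 LD2_c32 LD3_c34)) :=
  Lgr Lrot45 (Lpr_ft (f108761 IH) (Lpr_at (K3.f108755 IH) (Lpr_ft (K24.f92406 IH) (Lpn (LP (LK LD1_c3 LD2_c32 LD3_c34))))))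
theorem f108764 : Led Lsl_at (LP (LK LD1_c6 LD2_c34 LD3_c4)) = (LP (LK LD1_c3 LD2_c32 LD3_c34)) :=
  Lgr Lrot100 (Lpr_af (f108762 IH) (Lpn (LP (LK LD1_c3 LD2_c32 LD3_c34))))
theorem f464044 : Led Lsl_gf (LP (LK LD1_c3 LD2_c32 LD3_c34)) = (LP (LK LD1_c3 LD2_c24 LD3_c49)) :=
  Lgr Lrot76 (Lpe (f108764 IH) (Lpe (f108768 IH) (Lpr_gt (f463705 IH) (Lpn (LP (LK LD1_c3 LD2_c24 LD3_c49))))))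
theorem f460707 : Led Lsl_gf (LP (LK LD1_c7 LD2_c0 LD3_c21)) = (LP (LK LD1_c3 LD2_c30 LD3_c61)) :=
  Lgr Lrot76 (Lpe (K24.f111801 IH) (Lpe (K24.f109253 IH) (Lpr_gt (K24.f460705 IH) (Lpn (LP (LK LD1_c3 LD2_c30 LD3_c61))))))
theorem f460902 : Led Lsl_ef (LP (LK LD1_c7 LD2_c0 LD3_c21)) = (LP (LK LD1_c3 LD2_c30 LD3_c40)) :=
  Lgr Lrot17 (Lpr_gf (f460707 IH) (Lpr_ef (K24.f129695 IH) (Lpr_dt (K24.f129707 IH) (Lpe (K24.f129708 IH) (Lpe (K24.f129709 IH) (Lpe (K24.f129710 IH) (Lpe (K24.f129789 IH) (Lpr_dt (K24.f129828 IH) (Lpe (K24.f129829 IH) (Lpe (K24.f129830 IH) (Lpn (LP (LK LD1_c3 LD2_c30 LD3_c40)))))))))))))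
theorem f17847 : Led Lsl_dt (LP (LK LD1_c7 LD2_c0 LD3_c21)) = (LP (LK LD1_c13 LD2_c17 LD3_c29)) :=
  Lre_d IH (LK LD1_c7 LD2_c0 LD3_c21) (LK LD1_c13 LD2_c17 LD3_c29) Lrfl Lrfl
theorem f89537 : Led Lsl_et (LP (LK LD1_c13 LD2_c17 LD3_c29)) = (LP (LK LD1_c22 LD2_c33 LD3_c22)) :=
  Lre_e IH (LK LD1_c13 LD2_c17 LD3_c29) (LK LD1_c22 LD2_c33 LD3_c22) Lrfl Lrfl
theorem f460527 : Led Lsl_dt (LP (LK LD1_c7 LD2_c3 LD3_c21)) = (LP (LK LD1_c3 LD2_c30 LD3_c40)) :=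
  Lre_d IH (LK LD1_c7 LD2_c3 LD3_c21) (LK LD1_c3 LD2_c30 LD3_c40) Lrfl Lrfl
theorem f129857 : Led Lsl_et (LP (LK LD1_c13 LD2_c22 LD3_c48)) = (LP (LK LD1_c7 LD2_c3 LD3_c21)) :=
  Lre_e IH (LK LD1_c13 LD2_c22 LD3_c48) (LK LD1_c7 LD2_c3 LD3_c21) Lrfl Lrfl
theorem f460906 : Led Lsl_dt (LP (LK LD1_c22 LD2_c33 LD3_c22)) = (LP (LK LD1_c13 LD2_c22 LD3_c48)) :=
  Lgr Lrot77 (Lpe (f89537 IH) (Lpe (f17847 IH) (Lpr_ef (f460902 IH) (Lpe (f460527 IH) (Lpe (f129857 IH) (Lpn (LP (LK LD1_c13 LD2_c22 LD3_c48))))))))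
theorem f460915 : Led Lsl_df (LP (LK LD1_c22 LD2_c33 LD3_c22)) = (LP (LK LD1_c13 LD2_c22 LD3_c48)) :=
  Lgr Lrot38 (Lpr_dt (f460906 IH) (Lpn (LP (LK LD1_c13 LD2_c22 LD3_c48))))
theorem f89525 : Led Lsl_bt (LP (LK LD1_c22 LD2_c33 LD3_c22)) = (LP (LK LD1_c30 LD2_c34 LD3_c29)) :=
  Lre_b IH (LK LD1_c22 LD2_c33 LD3_c22) (LK LD1_c30 LD2_c34 LD3_c29) Lrfl Lrfl
theorem f460929 : Led Lsl_bt (LP (LK LD1_c22 LD2_c40 LD3_c22)) = (LP (LK LD1_c13 LD2_c22 LD3_c48)) :=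
  Lre_b IH (LK LD1_c22 LD2_c40 LD3_c22) (LK LD1_c13 LD2_c22 LD3_c48) Lrfl Lrfl
theorem f460930 : Led Lsl_dt (LP (LK LD1_c30 LD2_c34 LD3_c29)) = (LP (LK LD1_c22 LD2_c40 LD3_c22)) :=
  Lgr Lrot79 (Lpe (f89525 IH) (Lpr_df (f460915 IH) (Lpe (f460929 IH) (Lpn (LP (LK LD1_c22 LD2_c40 LD3_c22))))))
theorem f89607 : Led Lsl_et (LP (LK LD1_c22 LD2_c33 LD3_c19)) = (LP (LK LD1_c30 LD2_c34 LD3_c29)) :=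
  Lre_e IH (LK LD1_c22 LD2_c33 LD3_c19) (LK LD1_c30 LD2_c34 LD3_c29) Lrfl Lrfl
theorem f17925 : Led Lsl_dt (LP (LK LD1_c13 LD2_c17 LD3_c27)) = (LP (LK LD1_c22 LD2_c33 LD3_c19)) :=
  Lre_d IH (LK LD1_c13 LD2_c17 LD3_c27) (LK LD1_c22 LD2_c33 LD3_c19) Lrfl Lrfl
theorem f460932 : Led Lsl_et (LP (LK LD1_c22 LD2_c40 LD3_c22)) = (LP (LK LD1_c13 LD2_c22 LD3_c46)) :=
  Lre_e IH (LK LD1_c22 LD2_c40 LD3_c22) (LK LD1_c13 LD2_c22 LD3_c46) Lrfl Lrfl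
theorem f460933 : Led Lsl_dt (LP (LK LD1_c13 LD2_c22 LD3_c46)) = (LP (LK LD1_c7 LD2_c3 LD3_c20)) :=
  Lre_d IH (LK LD1_c13 LD2_c22 LD3_c46) (LK LD1_c7 LD2_c3 LD3_c20) Lrfl Lrfl
theorem f460934 : Led Lsl_ef (LP (LK LD1_c13 LD2_c17 LD3_c27)) = (LP (LK LD1_c7 LD2_c3 LD3_c20)) :=
  Lgr Lrot73 (Lpr_dt (f17925 IH) (Lpr_et (f89607 IH) (Lpr_dt (f460930 IH) (Lpr_et (f460932 IH) (Lpr_dt (f460933 IH) (Lpn (LP (LK LD1_c7 LD2_c3 LD3_c20))))))))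
theorem f17830 : Led Lsl_bt (LP (LK LD1_c3 LD2_c36 LD3_c11)) = (LP (LK LD1_c7 LD2_c12 LD3_c34)) :=
  Lre_b IH (LK LD1_c3 LD2_c36 LD3_c11) (LK LD1_c7 LD2_c12 LD3_c34) Lrfl Lrfl
theorem f108626 : Led Lsl_bt (LP (LK LD1_c7 LD2_c6 LD3_c8)) = (LP (LK LD1_c3 LD2_c32 LD3_c42)) :=
  Lre_b IH (LK LD1_c7 LD2_c6 LD3_c8) (LK LD1_c3 LD2_c32 LD3_c42) Lrfl Lrfl
theorem f108652 : Led Lsl_et (LP (LK LD1_c7 LD2_c12 LD3_c34)) = (LP (LK LD1_c7 LD2_c6 LD3_c8)) :=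
  Lgr Lrot74 (Lpe (f17830 IH) (Lpr_ef (K3.f108649 IH) (Lpe (f108626 IH) (Lpn (LP (LK LD1_c7 LD2_c6 LD3_c8))))))
theorem f460940 : Led Lsl_ct (LP (LK LD1_c7 LD2_c6 LD3_c8)) = (LP (LK LD1_c7 LD2_c3 LD3_c20)) :=
  Lgr Lrot15 (Lpe (f108652 IH) (Lpr_cf (K4.f17845 IH) (Lpr_ef (f460934 IH) (Lpn (LP (LK LD1_c7 LD2_c3 LD3_c20))))))
theorem f108639 : Led Lsl_bt (LP (LK LD1_c3 LD2_c32 LD3_c42)) = (LP (LK LD1_c7 LD2_c6 LD3_c8)) :=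
  Lre_b IH (LK LD1_c3 LD2_c32 LD3_c42) (LK LD1_c7 LD2_c6 LD3_c8) Lrfl Lrfl
theorem f460539 : Led Lsl_bt (LP (LK LD1_c7 LD2_c3 LD3_c20)) = (LP (LK LD1_c3 LD2_c30 LD3_c40)) :=
  Lre_b IH (LK LD1_c7 LD2_c3 LD3_c20) (LK LD1_c3 LD2_c30 LD3_c40) Lrfl Lrfl
theorem f460946 : Led Lsl_cf (LP (LK LD1_c3 LD2_c32 LD3_c34)) = (LP (LK LD1_c3 LD2_c30 LD3_c40)) :=
  Lgr Lrot97 (Lpr_bt (K24.f108767 IH) (Lpr_ct (K3.f108627 IH) (Lpr_bt (f108639 IH) (Lpr_ct (f460940 IH) (Lpr_bt (f460539 IH) (Lpn (LP (LK LD1_c3 LD2_c30 LD3_c40))))))))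
theorem f460939 : Led Lsl_bt (LP (LK LD1_c3 LD2_c30 LD3_c40)) = (LP (LK LD1_c7 LD2_c3 LD3_c20)) :=
  Lre_b IH (LK LD1_c3 LD2_c30 LD3_c40) (LK LD1_c7 LD2_c3 LD3_c20) Lrfl Lrfl
theorem f460953 : Led Lsl_gt (LP (LK LD1_c7 LD2_c3 LD3_c20)) = (LP (LK LD1_c13 LD2_c22 LD3_c43)) :=
  Lre_g IH (LK LD1_c7 LD2_c3 LD3_c20) (LK LD1_c13 LD2_c22 LD3_c43) Lrfl Lrfl
theorem f458356 : Led Lsl_cf (LP (LK LD1_c3 LD2_c24 LD3_c49)) = (LP (LK LD1_c3 LD2_c29 LD3_c6)) :=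
  Lgr Lrot11 (Lpr_ct (f458349 IH) (Lpn (LP (LK LD1_c3 LD2_c29 LD3_c6))))
theorem f18755 : Led Lsl_gt (LP (LK LD1_c6 LD2_c59 LD3_c52)) = (LP (LK LD1_c3 LD2_c29 LD3_c4)) :=
  Lre_g IH (LK LD1_c6 LD2_c59 LD3_c52) (LK LD1_c3 LD2_c29 LD3_c4) Lrfl Lrfl
theorem f18706 : Led Lsl_ct (LP (LK LD1_c13 LD2_c16 LD3_c44)) = (LP (LK LD1_c6 LD2_c59 LD3_c52)) :=
  Lre_c IH (LK LD1_c13 LD2_c16 LD3_c44) (LK LD1_c6 LD2_c59 LD3_c52) Lrfl Lrfl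
theorem f464054 : Led Lsl_bf (LP (LK LD1_c13 LD2_c22 LD3_c43)) = (LP (LK LD1_c13 LD2_c16 LD3_c44)) :=
  Lgr Lrot34 (Lpe (f460953 IH) (Lpe (f460939 IH) (Lpe (f460946 IH) (Lpr_gf (f464044 IH) (Lpr_cf (f458356 IH) (Lpe (K3.f18760 IH) (Lpe (K3.f18743 IH) (Lpr_ct (K2.f18711 IH) (Lpe (f18755 IH) (Lpe (f18706 IH) (Lpn (LP (LK LD1_c13 LD2_c16 LD3_c44)))))))))))))
theorem f103570 : Led Lsl_dt (LP (LK LD1_c1 LD2_c39 LD3_c19)) = (LP (LK LD1_c0 LD2_c46 LD3_c8)) :=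
  Lre_d IH (LK LD1_c1 LD2_c39 LD3_c19) (LK LD1_c0 LD2_c46 LD3_c8) Lrfl Lrfl
theorem f84713 : Led Lsl_et (LP (LK LD1_c0 LD2_c48 LD3_c7)) = (LP (LK LD1_c1 LD2_c42 LD3_c59)) :=
  Lre_e IH (LK LD1_c0 LD2_c48 LD3_c7) (LK LD1_c1 LD2_c42 LD3_c59) Lrfl Lrfl
theorem f107190 : Led Lsl_dt (LP (LK LD1_c1 LD2_c42 LD3_c59)) = (LP (LK LD1_c1 LD2_c43 LD3_c24)) :=
  Lgr Lrot77 (Lpe (f84713 IH) (Lpe (K3.f84712 IH) (Lpr_ef (K3.f105621 IH) (Lpr_df (K3.f107188 IH) (Lpe (K24.f89731 IH) (Lpn (LP (LK LD1_c1 LD2_c43 LD3_c24))))))))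
theorem f463707 : Led Lsl_gf (LP (LK LD1_c1 LD2_c43 LD3_c24)) = (LP (LK LD1_c1 LD2_c52 LD3_c44)) :=
  Lgr Lrot145 (Lpe (f107190 IH) (Lpr_et (K3.f92354 IH) (Lpr_gt (K24.f130690 IH) (Lpr_dt (K3.f98647 IH) (Lpe (K3.f103560 IH) (Lpe (f103570 IH) (Lpr_et (K5.f103571 IH) (Lpr_gt (f463693 IH) (Lpe (K24.f457784 IH) (Lpe (K24.f457977 IH) (Lpn (LP (LK LD1_c1 LD2_c52 LD3_c44)))))))))))))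
theorem f160495 : Led Lsl_bt (LP (LK LD1_c3 LD2_c33 LD3_c18)) = (LP (LK LD1_c7 LD2_c7 LD3_c31)) :=
  Lre_b IH (LK LD1_c3 LD2_c33 LD3_c18) (LK LD1_c7 LD2_c7 LD3_c31) Lrfl Lrfl
theorem f104061 : Led Lsl_gt (LP (LK LD1_c7 LD2_c7 LD3_c31)) = (LP (LK LD1_c13 LD2_c29 LD3_c60)) :=
  Lre_g IH (LK LD1_c7 LD2_c7 LD3_c31) (LK LD1_c13 LD2_c29 LD3_c60) Lrfl Lrfl
theorem f14880 : Led Lsl_ct (LP (LK LD1_c0 LD2_c53 LD3_c1)) = (LP (LK LD1_c1 LD2_c52 LD3_c44)) :=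
  Lre_c IH (LK LD1_c0 LD2_c53 LD3_c1) (LK LD1_c1 LD2_c52 LD3_c44) Lrfl Lrfl
theorem f14877 : Led Lsl_gt (LP (LK LD1_c1 LD2_c50 LD3_c60)) = (LP (LK LD1_c0 LD2_c53 LD3_c1)) :=
  Lre_g IH (LK LD1_c1 LD2_c50 LD3_c60) (LK LD1_c0 LD2_c53 LD3_c1) Lrfl Lrfl
theorem f14865 : Led Lsl_bt (LP (LK LD1_c3 LD2_c47 LD3_c46)) = (LP (LK LD1_c1 LD2_c50 LD3_c60)) :=
  Lre_b IH (LK LD1_c3 LD2_c47 LD3_c46) (LK LD1_c1 LD2_c50 LD3_c60) Lrfl Lrfl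
theorem f14875 : Led Lsl_gt (LP (LK LD1_c7 LD2_c36 LD3_c6)) = (LP (LK LD1_c3 LD2_c47 LD3_c46)) :=
  Lre_g IH (LK LD1_c7 LD2_c36 LD3_c6) (LK LD1_c3 LD2_c47 LD3_c46) Lrfl Lrfl
theorem f14807 : Led Lsl_ct (LP (LK LD1_c14 LD2_c19 LD3_c56)) = (LP (LK LD1_c7 LD2_c36 LD3_c6)) :=
  Lre_c IH (LK LD1_c14 LD2_c19 LD3_c56) (LK LD1_c7 LD2_c36 LD3_c6) Lrfl Lrfl
theorem f463713 : Led Lsl_bf (LP (LK LD1_c13 LD2_c29 LD3_c60)) = (LP (LK LD1_c14 LD2_c19 LD3_c56)) :=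
  Lgr Lrot34 (Lpe (f104061 IH) (Lpe (f160495 IH) (Lpr_ct (K5.f128081 IH) (Lpr_gf (f463707 IH) (Lpe (f14880 IH) (Lpe (f14877 IH) (Lpe (f14865 IH) (Lpr_ct (K8.f14812 IH) (Lpe (f14875 IH) (Lpe (f14807 IH) (Lpn (LP (LK LD1_c14 LD2_c19 LD3_c56)))))))))))))
theorem f17342 : Led Lsl_bt (LP (LK LD1_c3 LD2_c48 LD3_c25)) = (LP (LK LD1_c7 LD2_c37 LD3_c50)) :=
  Lre_b IH (LK LD1_c3 LD2_c48 LD3_c25) (LK LD1_c7 LD2_c37 LD3_c50) Lrfl Lrfl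
theorem f460275 : Led Lsl_bt (LP (LK LD1_c3 LD2_c52 LD3_c45)) = (LP (LK LD1_c1 LD2_c52 LD3_c60)) :=
  Lre_b IH (LK LD1_c3 LD2_c52 LD3_c45) (LK LD1_c1 LD2_c52 LD3_c60) Lrfl Lrfl
theorem f460276 : Led Lsl_et (LP (LK LD1_c7 LD2_c37 LD3_c50)) = (LP (LK LD1_c3 LD2_c52 LD3_c45)) :=
  Lgr Lrot74 (Lpe (f17342 IH) (Lpr_ef (K24.f460204 IH) (Lpe (f460275 IH) (Lpn (LP (LK LD1_c3 LD2_c52 LD3_c45))))))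
theorem f17432 : Led Lsl_ft (LP (LK LD1_c3 LD2_c48 LD3_c23)) = (LP (LK LD1_c7 LD2_c37 LD3_c50)) :=
  Lre_f IH (LK LD1_c3 LD2_c48 LD3_c23) (LK LD1_c7 LD2_c37 LD3_c50) Lrfl Lrfl
theorem f127843 : Led Lsl_ft (LP (LK LD1_c3 LD2_c33 LD3_c17)) = (LP (LK LD1_c1 LD2_c51 LD3_c12)) :=
  Lgr Lrot101 (Lpe (K5.f104056 IH) (Lpr_ff (K5.f127841 IH) (Lpe (K5.f17406 IH) (Lpn (LP (LK LD1_c1 LD2_c51 LD3_c12))))))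
theorem f460285 : Led Lsl_ff (LP (LK LD1_c7 LD2_c7 LD3_c31)) = (LP (LK LD1_c3 LD2_c52 LD3_c45)) :=
  Lgr Lrot72 (Lpr_et (K5.f104046 IH) (Lpr_ft (f127843 IH) (Lpr_et (K3.f17386 IH) (Lpr_ft (f17432 IH) (Lpr_et (f460276 IH) (Lpn (LP (LK LD1_c3 LD2_c52 LD3_c45))))))))
theorem f460295 : Led Lsl_ft (LP (LK LD1_c7 LD2_c7 LD3_c31)) = (LP (LK LD1_c3 LD2_c52 LD3_c45)) :=
  Lgr Lrot48 (Lpr_ff (f460285 IH) (Lpn (LP (LK LD1_c3 LD2_c52 LD3_c45))))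
theorem f460278 : Led Lsl_at (LP (LK LD1_c3 LD2_c52 LD3_c45)) = (LP (LK LD1_c7 LD2_c47 LD3_c11)) :=
  Lre_a IH (LK LD1_c3 LD2_c52 LD3_c45) (LK LD1_c7 LD2_c47 LD3_c11) Lrfl Lrfl
theorem f460305 : Led Lsl_gt (LP (LK LD1_c13 LD2_c29 LD3_c60)) = (LP (LK LD1_c7 LD2_c47 LD3_c11)) :=
  Lgr Lrot46 (Lpe (f104061 IH) (Lpr_ft (f460295 IH) (Lpr_at (f460278 IH) (Lpn (LP (LK LD1_c7 LD2_c47 LD3_c11))))))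
theorem f460290 : Led Lsl_at (LP (LK LD1_c7 LD2_c47 LD3_c11)) = (LP (LK LD1_c3 LD2_c52 LD3_c45)) :=
  Lre_a IH (LK LD1_c7 LD2_c47 LD3_c11) (LK LD1_c3 LD2_c52 LD3_c45) Lrfl Lrfl
theorem f460674 : Led Lsl_bt (LP (LK LD1_c3 LD2_c48 LD3_c1)) = (LP (LK LD1_c7 LD2_c37 LD3_c7)) :=
  Lre_b IH (LK LD1_c3 LD2_c48 LD3_c1) (LK LD1_c7 LD2_c37 LD3_c7) Lrfl Lrfl
theorem f460675 : Led Lsl_at (LP (LK LD1_c7 LD2_c37 LD3_c7)) = (LP (LK LD1_c14 LD2_c21 LD3_c48)) :=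
  Lre_a IH (LK LD1_c7 LD2_c37 LD3_c7) (LK LD1_c14 LD2_c21 LD3_c48) Lrfl Lrfl
theorem f460676 : Led Lsl_bf (LP (LK LD1_c7 LD2_c47 LD3_c11)) = (LP (LK LD1_c14 LD2_c21 LD3_c48)) :=
  Lgr Lrot81 (Lpr_at (f460290 IH) (Lpr_bt (f460275 IH) (Lpr_at (K24.f460595 IH) (Lpr_bt (f460674 IH) (Lpr_at (f460675 IH) (Lpn (LP (LK LD1_c14 LD2_c21 LD3_c48))))))))
theorem f463046 : Led Lsl_bt (LP (LK LD1_c7 LD2_c54 LD3_c7)) = (LP (LK LD1_c3 LD2_c56 LD3_c15)) :=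
  Lre_b IH (LK LD1_c7 LD2_c54 LD3_c7) (LK LD1_c3 LD2_c56 LD3_c15) Lrfl Lrfl
theorem f463047 : Led Lsl_ff (LP (LK LD1_c7 LD2_c54 LD3_c7)) = (LP (LK LD1_c7 LD2_c51 LD3_c40)) :=
  Lgr Lrot25 (Lpr_bt (f463046 IH) (Lpr_ft (f463043 IH) (Lpr_bt (K5.f121072 IH) (Lpn (LP (LK LD1_c7 LD2_c51 LD3_c40))))))
theorem f463075 : Led Lsl_ft (LP (LK LD1_c7 LD2_c54 LD3_c7)) = (LP (LK LD1_c7 LD2_c51 LD3_c40)) :=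
  Lgr Lrot48 (Lpr_ff (f463047 IH) (Lpn (LP (LK LD1_c7 LD2_c51 LD3_c40))))
theorem f463094 : Led Lsl_gt (LP (LK LD1_c7 LD2_c54 LD3_c7)) = (LP (LK LD1_c14 LD2_c54 LD3_c15)) :=
  Lre_g IH (LK LD1_c7 LD2_c54 LD3_c7) (LK LD1_c14 LD2_c54 LD3_c15) Lrfl Lrfl
theorem f121156 : Led Lsl_at (LP (LK LD1_c7 LD2_c51 LD3_c40)) = (LP (LK LD1_c14 LD2_c49 LD3_c32)) :=
  Lre_a IH (LK LD1_c7 LD2_c51 LD3_c40) (LK LD1_c14 LD2_c49 LD3_c32) Lrfl Lrfl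
theorem f463095 : Led Lsl_gt (LP (LK LD1_c14 LD2_c54 LD3_c15)) = (LP (LK LD1_c14 LD2_c49 LD3_c32)) :=
  Lgr Lrot46 (Lpe (f463094 IH) (Lpr_ft (f463075 IH) (Lpr_at (f121156 IH) (Lpn (LP (LK LD1_c14 LD2_c49 LD3_c32))))))
theorem f121150 : Led Lsl_dt (LP (LK LD1_c7 LD2_c51 LD3_c37)) = (LP (LK LD1_c14 LD2_c49 LD3_c32)) :=
  Lre_d IH (LK LD1_c7 LD2_c51 LD3_c37) (LK LD1_c14 LD2_c49 LD3_c32) Lrfl Lrfl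
theorem f123926 : Led Lsl_dt (LP (LK LD1_c3 LD2_c54 LD3_c3)) = (LP (LK LD1_c7 LD2_c28 LD3_c36)) :=
  Lgr Lrot6 (Lpr_gt (K5.f95898 IH) (Lpr_ct (K4.f96125 IH) (Lpe (K4.f96138 IH) (Lpe (K5.f122696 IH) (Lpe (K5.f122675 IH) (Lpe (K5.f122683 IH) (Lpr_gf (K5.f123924 IH) (Lpe (K5.f123691 IH) (Lpe (K5.f123656 IH) (Lpn (LP (LK LD1_c7 LD2_c28 LD3_c36))))))))))))
theorem f123666 : Led Lsl_et (LP (LK LD1_c1 LD2_c49 LD3_c0)) = (LP (LK LD1_c3 LD2_c43 LD3_c58)) :=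
  Lre_e IH (LK LD1_c1 LD2_c49 LD3_c0) (LK LD1_c3 LD2_c43 LD3_c58) Lrfl Lrfl
theorem f123822 : Led Lsl_gt (LP (LK LD1_c3 LD2_c43 LD3_c58)) = (LP (LK LD1_c7 LD2_c28 LD3_c39)) :=
  Lre_g IH (LK LD1_c3 LD2_c43 LD3_c58) (LK LD1_c7 LD2_c28 LD3_c39) Lrfl Lrfl
theorem f123942 : Led Lsl_et (LP (LK LD1_c14 LD2_c6 LD3_c57)) = (LP (LK LD1_c7 LD2_c28 LD3_c39)) :=
  Lre_e IH (LK LD1_c14 LD2_c6 LD3_c57) (LK LD1_c7 LD2_c28 LD3_c39) Lrfl Lrfl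
theorem f463099 : Led Lsl_df (LP (LK LD1_c14 LD2_c54 LD3_c15)) = (LP (LK LD1_c14 LD2_c6 LD3_c57)) :=
  Lgr Lrot170 (Lpr_gt (f463095 IH) (Lpe (f121150 IH) (Lpr_et (K8.f121142 IH) (Lpr_gt (K5.f129368 IH) (Lpr_dt (f123926 IH) (Lpr_gt (K5.f123656 IH) (Lpe (K5.f123608 IH) (Lpr_et (f123666 IH) (Lpr_gt (f123822 IH) (Lpe (f123942 IH) (Lpn (LP (LK LD1_c14 LD2_c6 LD3_c57)))))))))))))
theorem f463092 : Led Lsl_dt (LP (LK LD1_c3 LD2_c56 LD3_c13)) = (LP (LK LD1_c7 LD2_c54 LD3_c7)) :=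
  Lre_d IH (LK LD1_c3 LD2_c56 LD3_c13) (LK LD1_c7 LD2_c54 LD3_c7) Lrfl Lrfl
theorem f123766 : Led Lsl_gt (LP (LK LD1_c7 LD2_c28 LD3_c39)) = (LP (LK LD1_c14 LD2_c6 LD3_c46)) :=
  Lre_g IH (LK LD1_c7 LD2_c28 LD3_c39) (LK LD1_c14 LD2_c6 LD3_c46) Lrfl Lrfl
theorem f123774 : Led Lsl_dt (LP (LK LD1_c14 LD2_c6 LD3_c46)) = (LP (LK LD1_c23 LD2_c40 LD3_c51)) :=
  Lre_d IH (LK LD1_c14 LD2_c6 LD3_c46) (LK LD1_c23 LD2_c40 LD3_c51) Lrfl Lrfl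
theorem f129493 : Led Lsl_gt (LP (LK LD1_c23 LD2_c40 LD3_c51)) = (LP (LK LD1_c14 LD2_c7 LD3_c1)) :=
  Lre_g IH (LK LD1_c23 LD2_c40 LD3_c51) (LK LD1_c14 LD2_c7 LD3_c1) Lrfl Lrfl
theorem f123825 : Led Lsl_dt (LP (LK LD1_c23 LD2_c41 LD3_c16)) = (LP (LK LD1_c14 LD2_c7 LD3_c1)) :=
  Lre_d IH (LK LD1_c23 LD2_c41 LD3_c16) (LK LD1_c14 LD2_c7 LD3_c1) Lrfl Lrfl
theorem f129365 : Led Lsl_gt (LP (LK LD1_c7 LD2_c49 LD3_c44)) = (LP (LK LD1_c14 LD2_c46 LD3_c8)) :=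
  Lre_g IH (LK LD1_c7 LD2_c49 LD3_c44) (LK LD1_c14 LD2_c46 LD3_c8) Lrfl Lrfl
theorem f123776 : Led Lsl_dt (LP (LK LD1_c3 LD2_c43 LD3_c58)) = (LP (LK LD1_c7 LD2_c28 LD3_c41)) :=
  Lre_d IH (LK LD1_c3 LD2_c43 LD3_c58) (LK LD1_c7 LD2_c28 LD3_c41) Lrfl Lrfl
theorem f123824 : Led Lsl_gt (LP (LK LD1_c14 LD2_c7 LD3_c1)) = (LP (LK LD1_c7 LD2_c28 LD3_c41)) :=
  Lre_g IH (LK LD1_c14 LD2_c7 LD3_c1) (LK LD1_c7 LD2_c28 LD3_c41) Lrfl Lrfl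
theorem f129487 : Led Lsl_ef (LP (LK LD1_c14 LD2_c46 LD3_c8)) = (LP (LK LD1_c23 LD2_c41 LD3_c16)) :=
  Lgr Lrot17 (Lpe (f129365 IH) (Lpe (K8.f129363 IH) (Lpe (K6.f129355 IH) (Lpr_gf (K8.f129382 IH) (Lpe (K8.f123635 IH) (Lpe (K5.f123599 IH) (Lpe (K24.f123651 IH) (Lpr_dt (f123776 IH) (Lpe (f123824 IH) (Lpe (f123825 IH) (Lpn (LP (LK LD1_c23 LD2_c41 LD3_c16)))))))))))))
theorem f95886 : Led Lsl_gt (LP (LK LD1_c14 LD2_c46 LD3_c8)) = (LP (LK LD1_c7 LD2_c49 LD3_c48)) :=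
  Lre_g IH (LK LD1_c14 LD2_c46 LD3_c8) (LK LD1_c7 LD2_c49 LD3_c48) Lrfl Lrfl
theorem f463109 : Led Lsl_et (LP (LK LD1_c3 LD2_c56 LD3_c13)) = (LP (LK LD1_c7 LD2_c49 LD3_c48)) :=
  Lgr Lrot122 (Lpr_dt (f463092 IH) (Lpr_gt (f463094 IH) (Lpr_df (f463099 IH) (Lpr_et (f123942 IH) (Lpr_gt (f123766 IH) (Lpr_dt (f123774 IH) (Lpr_gt (f129493 IH) (Lpe (f123825 IH) (Lpe (f129487 IH) (Lpr_gt (f95886 IH) (Lpn (LP (LK LD1_c7 LD2_c49 LD3_c48)))))))))))))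
theorem f463115 : Led Lsl_ef (LP (LK LD1_c3 LD2_c56 LD3_c13)) = (LP (LK LD1_c7 LD2_c49 LD3_c48)) :=
  Lgr Lrot88 (Lpr_et (f463109 IH) (Lpn (LP (LK LD1_c7 LD2_c49 LD3_c48))))
theorem f463118 : Led Lsl_at (LP (LK LD1_c3 LD2_c56 LD3_c13)) = (LP (LK LD1_c7 LD2_c54 LD3_c6)) :=
  Lre_a IH (LK LD1_c3 LD2_c56 LD3_c13) (LK LD1_c7 LD2_c54 LD3_c6) Lrfl Lrfl
theorem f160016 : Led Lsl_at (LP (LK LD1_c14 LD2_c46 LD3_c10)) = (LP (LK LD1_c7 LD2_c49 LD3_c48)) :=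
  Lre_a IH (LK LD1_c14 LD2_c46 LD3_c10) (LK LD1_c7 LD2_c49 LD3_c48) Lrfl Lrfl
theorem f463119 : Led Lsl_et (LP (LK LD1_c7 LD2_c54 LD3_c6)) = (LP (LK LD1_c14 LD2_c46 LD3_c10)) :=
  Lgr Lrot123 (Lpe (f463118 IH) (Lpr_ef (f463115 IH) (Lpe (f160016 IH) (Lpn (LP (LK LD1_c14 LD2_c46 LD3_c10))))))
theorem f463143 : Led Lsl_ff (LP (LK LD1_c7 LD2_c54 LD3_c6)) = (LP (LK LD1_c7 LD2_c51 LD3_c37)) :=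
  Lgr Lrot72 (Lpr_et (f463119 IH) (Lpr_ft (K8.f129504 IH) (Lpr_et (K6.f129345 IH) (Lpe (K5.f129338 IH) (Lpr_et (f121145 IH) (Lpn (LP (LK LD1_c7 LD2_c51 LD3_c37))))))))
theorem f463147 : Led Lsl_ft (LP (LK LD1_c7 LD2_c54 LD3_c6)) = (LP (LK LD1_c7 LD2_c51 LD3_c37)) :=
  Lgr Lrot48 (Lpr_ff (f463143 IH) (Lpn (LP (LK LD1_c7 LD2_c51 LD3_c37))))
theorem f88164 : Led Lsl_bt (LP (LK LD1_c3 LD2_c48 LD3_c29)) = (LP (LK LD1_c7 LD2_c37 LD3_c59)) :=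
  Lre_b IH (LK LD1_c3 LD2_c48 LD3_c29) (LK LD1_c7 LD2_c37 LD3_c59) Lrfl Lrfl
theorem f460696 : Led Lsl_bt (LP (LK LD1_c14 LD2_c21 LD3_c49)) = (LP (LK LD1_c7 LD2_c37 LD3_c8)) :=
  Lre_b IH (LK LD1_c14 LD2_c21 LD3_c49) (LK LD1_c7 LD2_c37 LD3_c8) Lrfl Lrfl
theorem f460697 : Led Lsl_ft (LP (LK LD1_c7 LD2_c37 LD3_c59)) = (LP (LK LD1_c14 LD2_c21 LD3_c49)) :=
  Lgr Lrot75 (Lpe (f88164 IH) (Lpr_ff (K24.f460692 IH) (Lpe (f460696 IH) (Lpn (LP (LK LD1_c14 LD2_c21 LD3_c49))))))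
theorem f121173 : Led Lsl_ct (LP (LK LD1_c7 LD2_c51 LD3_c40)) = (LP (LK LD1_c14 LD2_c49 LD3_c39)) :=
  Lre_c IH (LK LD1_c7 LD2_c51 LD3_c40) (LK LD1_c14 LD2_c49 LD3_c39) Lrfl Lrfl
theorem f121176 : Led Lsl_dt (LP (LK LD1_c14 LD2_c49 LD3_c39)) = (LP (LK LD1_c24 LD2_c35 LD3_c61)) :=
  Lre_d IH (LK LD1_c14 LD2_c49 LD3_c39) (LK LD1_c24 LD2_c35 LD3_c61) Lrfl Lrfl
theorem f129556 : Led Lsl_ct (LP (LK LD1_c24 LD2_c35 LD3_c61)) = (LP (LK LD1_c31 LD2_c35 LD3_c20)) :=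
  Lre_c IH (LK LD1_c24 LD2_c35 LD3_c61) (LK LD1_c31 LD2_c35 LD3_c20) Lrfl Lrfl
theorem f461055 : Led Lsl_at (LP (LK LD1_c14 LD2_c21 LD3_c49)) = (LP (LK LD1_c23 LD2_c59 LD3_c44)) :=
  Lre_a IH (LK LD1_c14 LD2_c21 LD3_c49) (LK LD1_c23 LD2_c59 LD3_c44) Lrfl Lrfl
theorem f461067 : Led Lsl_ct (LP (LK LD1_c31 LD2_c18 LD3_c37)) = (LP (LK LD1_c23 LD2_c59 LD3_c44)) :=
  Lre_c IH (LK LD1_c31 LD2_c18 LD3_c37) (LK LD1_c23 LD2_c59 LD3_c44) Lrfl Lrfl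
theorem f461068 : Led Lsl_dt (LP (LK LD1_c31 LD2_c35 LD3_c20)) = (LP (LK LD1_c31 LD2_c18 LD3_c37)) :=
  Lgr Lrot120 (Lpe (f129556 IH) (Lpe (f121176 IH) (Lpe (f121173 IH) (Lpe (K5.f121111 IH) (Lpr_cf (f129548 IH) (Lpe (K5.f88214 IH) (Lpr_ft (f460697 IH) (Lpr_at (f461055 IH) (Lpe (f461067 IH) (Lpn (LP (LK LD1_c31 LD2_c18 LD3_c37))))))))))))
theorem f461072 : Led Lsl_df (LP (LK LD1_c31 LD2_c35 LD3_c20)) = (LP (LK LD1_c31 LD2_c18 LD3_c37)) :=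
  Lgr Lrot38 (Lpr_dt (f461068 IH) (Lpn (LP (LK LD1_c31 LD2_c18 LD3_c37))))
theorem f440178 : Led Lsl_ct (LP (LK LD1_c31 LD2_c35 LD3_c20)) = (LP (LK LD1_c24 LD2_c35 LD3_c61)) :=
  Lre_c IH (LK LD1_c31 LD2_c35 LD3_c20) (LK LD1_c24 LD2_c35 LD3_c61) Lrfl Lrfl
theorem f121175 : Led Lsl_dt (LP (LK LD1_c24 LD2_c35 LD3_c61)) = (LP (LK LD1_c14 LD2_c49 LD3_c39)) :=
  Lre_d IH (LK LD1_c24 LD2_c35 LD3_c61) (LK LD1_c14 LD2_c49 LD3_c39) Lrfl Lrfl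
theorem f121106 : Led Lsl_ct (LP (LK LD1_c14 LD2_c49 LD3_c39)) = (LP (LK LD1_c7 LD2_c51 LD3_c40)) :=
  Lre_c IH (LK LD1_c14 LD2_c49 LD3_c39) (LK LD1_c7 LD2_c51 LD3_c40) Lrfl Lrfl
theorem f121117 : Led Lsl_dt (LP (LK LD1_c7 LD2_c51 LD3_c40)) = (LP (LK LD1_c3 LD2_c54 LD3_c61)) :=
  Lre_d IH (LK LD1_c7 LD2_c51 LD3_c40) (LK LD1_c3 LD2_c54 LD3_c61) Lrfl Lrfl
theorem f121198 : Led Lsl_bt (LP (LK LD1_c1 LD2_c54 LD3_c6)) = (LP (LK LD1_c3 LD2_c54 LD3_c61)) :=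
  Lre_b IH (LK LD1_c1 LD2_c54 LD3_c6) (LK LD1_c3 LD2_c54 LD3_c61) Lrfl Lrfl
theorem f88017 : Led Lsl_bt (LP (LK LD1_c3 LD2_c48 LD3_c28)) = (LP (LK LD1_c1 LD2_c51 LD3_c15)) :=
  Lre_b IH (LK LD1_c3 LD2_c48 LD3_c28) (LK LD1_c1 LD2_c51 LD3_c15) Lrfl Lrfl
theorem f128077 : Led Lsl_ct (LP (LK LD1_c3 LD2_c54 LD3_c61)) = (LP (LK LD1_c3 LD2_c48 LD3_c28)) :=
  Lgr Lrot83 (Lpe (f121198 IH) (Lpe (f121013 IH) (Lpr_bf (K5.f121211 IH) (Lpr_cf (K5.f128073 IH) (Lpe (f88017 IH) (Lpn (LP (LK LD1_c3 LD2_c48 LD3_c28))))))))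
theorem f461074 : Led Lsl_ct (LP (LK LD1_c23 LD2_c59 LD3_c44)) = (LP (LK LD1_c31 LD2_c18 LD3_c37)) :=
  Lre_c IH (LK LD1_c23 LD2_c59 LD3_c44) (LK LD1_c31 LD2_c18 LD3_c37) Lrfl Lrfl
theorem f461075 : Led Lsl_dt (LP (LK LD1_c14 LD2_c21 LD3_c48)) = (LP (LK LD1_c23 LD2_c59 LD3_c44)) :=
  Lre_d IH (LK LD1_c14 LD2_c21 LD3_c48) (LK LD1_c23 LD2_c59 LD3_c44) Lrfl Lrfl
theorem f461078 : Led Lsl_ff (LP (LK LD1_c7 LD2_c37 LD3_c56)) = (LP (LK LD1_c14 LD2_c21 LD3_c48)) :=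
  Lgr Lrot103 (Lpr_at (f129547 IH) (Lpe (f128077 IH) (Lpe (f121117 IH) (Lpe (f121106 IH) (Lpe (f121175 IH) (Lpe (f440178 IH) (Lpr_df (f461072 IH) (Lpe (f461074 IH) (Lpe (f461075 IH) (Lpn (LP (LK LD1_c14 LD2_c21 LD3_c48))))))))))))
theorem f461107 : Led Lsl_ft (LP (LK LD1_c7 LD2_c37 LD3_c56)) = (LP (LK LD1_c14 LD2_c21 LD3_c48)) :=
  Lgr Lrot48 (Lpr_ff (f461078 IH) (Lpn (LP (LK LD1_c14 LD2_c21 LD3_c48))))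
theorem f463165 : Led Lsl_cf (LP (LK LD1_c7 LD2_c54 LD3_c6)) = (LP (LK LD1_c14 LD2_c21 LD3_c48)) :=
  Lgr Lrot108 (Lpr_ft (f463147 IH) (Lpr_ct (f129374 IH) (Lpr_ft (f461107 IH) (Lpn (LP (LK LD1_c14 LD2_c21 LD3_c48))))))
theorem f121118 : Led Lsl_gt (LP (LK LD1_c7 LD2_c51 LD3_c39)) = (LP (LK LD1_c3 LD2_c54 LD3_c61)) :=
  Lre_g IH (LK LD1_c7 LD2_c51 LD3_c39) (LK LD1_c3 LD2_c54 LD3_c61) Lrfl Lrfl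
theorem f463167 : Led Lsl_gt (LP (LK LD1_c7 LD2_c54 LD3_c6)) = (LP (LK LD1_c7 LD2_c51 LD3_c39)) :=
  Lgr Lrot5 (Lpr_ft (f463147 IH) (Lpr_at (f129553 IH) (Lpe (f121118 IH) (Lpn (LP (LK LD1_c7 LD2_c51 LD3_c39))))))
theorem f14798 : Led Lsl_gt (LP (LK LD1_c3 LD2_c47 LD3_c38)) = (LP (LK LD1_c7 LD2_c36 LD3_c6)) :=
  Lre_g IH (LK LD1_c3 LD2_c47 LD3_c38) (LK LD1_c7 LD2_c36 LD3_c6) Lrfl Lrfl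
theorem f14800 : Led Lsl_gt (LP (LK LD1_c7 LD2_c36 LD3_c7)) = (LP (LK LD1_c3 LD2_c47 LD3_c38)) :=
  Lre_g IH (LK LD1_c7 LD2_c36 LD3_c7) (LK LD1_c3 LD2_c47 LD3_c38) Lrfl Lrfl
theorem f14806 : Led Lsl_bt (LP (LK LD1_c14 LD2_c19 LD3_c58)) = (LP (LK LD1_c7 LD2_c36 LD3_c7)) :=
  Lre_b IH (LK LD1_c14 LD2_c19 LD3_c58) (LK LD1_c7 LD2_c36 LD3_c7) Lrfl Lrfl
theorem f463718 : Led Lsl_cf (LP (LK LD1_c7 LD2_c51 LD3_c39)) = (LP (LK LD1_c14 LD2_c19 LD3_c58)) :=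
  Lgr Lrot58 (Lpe (f463167 IH) (Lpr_cf (f463165 IH) (Lpe (f460676 IH) (Lpe (f460305 IH) (Lpr_bf (f463713 IH) (Lpr_ct (f14807 IH) (Lpe (f14798 IH) (Lpe (K8.f14769 IH) (Lpe (f14800 IH) (Lpe (f14806 IH) (Lpn (LP (LK LD1_c14 LD2_c19 LD3_c58)))))))))))))
theorem f460682 : Led Lsl_bt (LP (LK LD1_c7 LD2_c37 LD3_c7)) = (LP (LK LD1_c3 LD2_c48 LD3_c1)) :=
  Lre_b IH (LK LD1_c7 LD2_c37 LD3_c7) (LK LD1_c3 LD2_c48 LD3_c1) Lrfl Lrfl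
theorem f460683 : Led Lsl_ft (LP (LK LD1_c3 LD2_c48 LD3_c28)) = (LP (LK LD1_c7 LD2_c37 LD3_c7)) :=
  Lgr Lrot75 (Lpe (f127760 IH) (Lpr_ff (K24.f460680 IH) (Lpe (f460682 IH) (Lpn (LP (LK LD1_c7 LD2_c37 LD3_c7))))))
theorem f88239 : Led Lsl_gt (LP (LK LD1_c3 LD2_c48 LD3_c28)) = (LP (LK LD1_c7 LD2_c37 LD3_c57)) :=
  Lre_g IH (LK LD1_c3 LD2_c48 LD3_c28) (LK LD1_c7 LD2_c37 LD3_c57) Lrfl Lrfl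
theorem f461577 : Led Lsl_gt (LP (LK LD1_c7 LD2_c37 LD3_c57)) = (LP (LK LD1_c14 LD2_c21 LD3_c48)) :=
  Lgr Lrot46 (Lpe (f88239 IH) (Lpr_ft (f460683 IH) (Lpr_at (f460675 IH) (Lpn (LP (LK LD1_c14 LD2_c21 LD3_c48))))))
theorem f14913 : Led Lsl_gt (LP (LK LD1_c0 LD2_c53 LD3_c56)) = (LP (LK LD1_c1 LD2_c54 LD3_c33)) :=
  Lre_g IH (LK LD1_c0 LD2_c53 LD3_c56) (LK LD1_c1 LD2_c54 LD3_c33) Lrfl Lrfl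
theorem f463724 : Led Lsl_ct (LP (LK LD1_c3 LD2_c55 LD3_c52)) = (LP (LK LD1_c1 LD2_c54 LD3_c33)) :=
  Lre_c IH (LK LD1_c3 LD2_c55 LD3_c52) (LK LD1_c1 LD2_c54 LD3_c33) Lrfl Lrfl
theorem f463725 : Led Lsl_bf (LP (LK LD1_c7 LD2_c37 LD3_c57)) = (LP (LK LD1_c3 LD2_c55 LD3_c52)) :=
  Lgr Lrot165 (Lpr_gt (f461577 IH) (Lpe (f463165 IH) (Lpr_gt (f463167 IH) (Lpr_cf (f463718 IH) (Lpr_bt (f14806 IH) (Lpr_gt (f14800 IH) (Lpe (K24.f14779 IH) (Lpr_ct (K24.f14782 IH) (Lpr_gt (f14913 IH) (Lpe (f463724 IH) (Lpn (LP (LK LD1_c3 LD2_c55 LD3_c52)))))))))))))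
theorem f11247 : Led Lsl_gt (LP (LK LD1_c1 LD2_c54 LD3_c33)) = (LP (LK LD1_c0 LD2_c53 LD3_c60)) :=
  Lre_g IH (LK LD1_c1 LD2_c54 LD3_c33) (LK LD1_c0 LD2_c53 LD3_c60) Lrfl Lrfl
theorem f17094 : Led Lsl_ct (LP (LK LD1_c1 LD2_c52 LD3_c27)) = (LP (LK LD1_c0 LD2_c53 LD3_c60)) :=
  Lre_c IH (LK LD1_c1 LD2_c52 LD3_c27) (LK LD1_c0 LD2_c53 LD3_c60) Lrfl Lrfl
theorem f17059 : Led Lsl_bt (LP (LK LD1_c1 LD2_c52 LD3_c27)) = (LP (LK LD1_c0 LD2_c53 LD3_c3)) :=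
  Lre_b IH (LK LD1_c1 LD2_c52 LD3_c27) (LK LD1_c0 LD2_c53 LD3_c3) Lrfl Lrfl
theorem f11213 : Led Lsl_gt (LP (LK LD1_c0 LD2_c53 LD3_c3)) = (LP (LK LD1_c1 LD2_c50 LD3_c58)) :=
  Lre_g IH (LK LD1_c0 LD2_c53 LD3_c3) (LK LD1_c1 LD2_c50 LD3_c58) Lrfl Lrfl
theorem f463732 : Led Lsl_ct (LP (LK LD1_c1 LD2_c50 LD3_c58)) = (LP (LK LD1_c3 LD2_c47 LD3_c55)) :=
  Lre_c IH (LK LD1_c1 LD2_c50 LD3_c58) (LK LD1_c3 LD2_c47 LD3_c55) Lrfl Lrfl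
theorem f463733 : Led Lsl_gf (LP (LK LD1_c3 LD2_c25 LD3_c24)) = (LP (LK LD1_c3 LD2_c47 LD3_c55)) :=
  Lgr Lrot129 (Lpr_cf (K5.f128073 IH) (Lpr_bt (f127760 IH) (Lpr_gt (f88239 IH) (Lpr_bf (f463725 IH) (Lpr_ct (f463724 IH) (Lpr_gt (f11247 IH) (Lpe (f17094 IH) (Lpr_bt (f17059 IH) (Lpr_gt (f11213 IH) (Lpr_ct (f463732 IH) (Lpn (LP (LK LD1_c3 LD2_c47 LD3_c55)))))))))))))
theorem f463735 : Led Lsl_gt (LP (LK LD1_c3 LD2_c27 LD3_c32)) = (LP (LK LD1_c3 LD2_c47 LD3_c55)) :=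
  Lgr Lrot5 (Lpr_ft (K24.f461907 IH) (Lpe (K5.f128082 IH) (Lpr_gf (f463733 IH) (Lpn (LP (LK LD1_c3 LD2_c47 LD3_c55))))))
theorem f11214 : Led Lsl_ct (LP (LK LD1_c3 LD2_c47 LD3_c55)) = (LP (LK LD1_c1 LD2_c50 LD3_c58)) :=
  Lre_c IH (LK LD1_c3 LD2_c47 LD3_c55) (LK LD1_c1 LD2_c50 LD3_c58) Lrfl Lrfl
theorem f14971 : Led Lsl_gt (LP (LK LD1_c1 LD2_c50 LD3_c58)) = (LP (LK LD1_c0 LD2_c52 LD3_c21)) :=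
  Lre_g IH (LK LD1_c1 LD2_c50 LD3_c58) (LK LD1_c0 LD2_c52 LD3_c21) Lrfl Lrfl
theorem f14951 : Led Lsl_ct (LP (LK LD1_c0 LD2_c52 LD3_c21)) = (LP (LK LD1_c0 LD2_c23 LD3_c42)) :=
  Lre_c IH (LK LD1_c0 LD2_c52 LD3_c21) (LK LD1_c0 LD2_c23 LD3_c42) Lrfl Lrfl
theorem f18766 : Led Lsl_gt (LP (LK LD1_c3 LD2_c29 LD3_c7)) = (LP (LK LD1_c1 LD2_c41 LD3_c17)) :=
  Lre_g IH (LK LD1_c3 LD2_c29 LD3_c7) (LK LD1_c1 LD2_c41 LD3_c17) Lrfl Lrfl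
theorem f463744 : Led Lsl_ct (LP (LK LD1_c6 LD2_c34 LD3_c3)) = (LP (LK LD1_c3 LD2_c29 LD3_c7)) :=
  Lgr Lrot152 (Lpr_gf (K24.f441547 IH) (Lpe (K24.f461898 IH) (Lpr_gt (f463735 IH) (Lpr_ct (f11214 IH) (Lpr_gt (f14971 IH) (Lpr_ct (f14951 IH) (Lpe (K1.f18779 IH) (Lpe (K3.f18744 IH) (Lpe (f18766 IH) (Lpn (LP (LK LD1_c3 LD2_c29 LD3_c7))))))))))))
theorem f19068 : Led Lsl_gt (LP (LK LD1_c1 LD2_c41 LD3_c54)) = (LP (LK LD1_c3 LD2_c30 LD3_c32)) :=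
  Lre_g IH (LK LD1_c1 LD2_c41 LD3_c54) (LK LD1_c3 LD2_c30 LD3_c32) Lrfl Lrfl
theorem f108234 : Led Lsl_bt (LP (LK LD1_c1 LD2_c42 LD3_c56)) = (LP (LK LD1_c3 LD2_c32 LD3_c6)) :=
  Lre_b IH (LK LD1_c1 LD2_c42 LD3_c56) (LK LD1_c3 LD2_c32 LD3_c6) Lrfl Lrfl
theorem f116031 : Led Lsl_gt (LP (LK LD1_c3 LD2_c25 LD3_c56)) = (LP (LK LD1_c6 LD2_c53 LD3_c41)) :=
  Lre_g IH (LK LD1_c3 LD2_c25 LD3_c56) (LK LD1_c6 LD2_c53 LD3_c41) Lrfl Lrfl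
theorem f116045 : Led Lsl_gt (LP (LK LD1_c6 LD2_c53 LD3_c41)) = (LP (LK LD1_c3 LD2_c32 LD3_c6)) :=
  Lgr Lrot46 (Lpe (f116031 IH) (Lpr_ft (K24.f116040 IH) (Lpr_at (K24.f116041 IH) (Lpn (LP (LK LD1_c3 LD2_c32 LD3_c6))))))
theorem f461816 : Led Lsl_bf (LP (LK LD1_c6 LD2_c53 LD3_c41)) = (LP (LK LD1_c3 LD2_c35 LD3_c57)) :=
  Lgr Lrot156 (Lpr_gt (f116045 IH) (Lpe (f108234 IH) (Lpr_ct (K3.f108238 IH) (Lpe (K24.f108485 IH) (Lpe (K24.f461796 IH) (Lpr_bt (K24.f18850 IH) (Lpr_gt (K24.f18608 IH) (Lpr_ct (K2.f18571 IH) (Lpr_gt (f19068 IH) (Lpr_cf (K24.f461806 IH) (Lpn (LP (LK LD1_c3 LD2_c35 LD3_c57)))))))))))))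
theorem f87521 : Led Lsl_gt (LP (LK LD1_c3 LD2_c35 LD3_c33)) = (LP (LK LD1_c1 LD2_c44 LD3_c38)) :=
  Lre_g IH (LK LD1_c3 LD2_c35 LD3_c33) (LK LD1_c1 LD2_c44 LD3_c38) Lrfl Lrfl
theorem f106210 : Led Lsl_dt (LP (LK LD1_c7 LD2_c11 LD3_c56)) = (LP (LK LD1_c3 LD2_c35 LD3_c33)) :=
  Lre_d IH (LK LD1_c7 LD2_c11 LD3_c56) (LK LD1_c3 LD2_c35 LD3_c33) Lrfl Lrfl
theorem f116057 : Led Lsl_ef (LP (LK LD1_c6 LD2_c53 LD3_c41)) = (LP (LK LD1_c7 LD2_c11 LD3_c56)) :=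
  Lgr Lrot17 (Lpe (f116031 IH) (Lpe (K24.f116023 IH) (Lpr_dt (K4.f116021 IH) (Lpr_gf (K4.f115510 IH) (Lpe (K4.f90253 IH) (Lpr_gf (K4.f114997 IH) (Lpe (K5.f93107 IH) (Lpe (K5.f106206 IH) (Lpe (f87521 IH) (Lpe (f106210 IH) (Lpn (LP (LK LD1_c7 LD2_c11 LD3_c56)))))))))))))
theorem f116060 : Led Lsl_et (LP (LK LD1_c6 LD2_c53 LD3_c41)) = (LP (LK LD1_c7 LD2_c11 LD3_c56)) :=
  Lgr Lrot87 (Lpr_ef (f116057 IH) (Lpn (LP (LK LD1_c7 LD2_c11 LD3_c56))))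
theorem f461820 : Led Lsl_bt (LP (LK LD1_c7 LD2_c11 LD3_c56)) = (LP (LK LD1_c7 LD2_c12 LD3_c26)) :=
  Lgr Lrot119 (Lpe (f116060 IH) (Lpr_bf (f461816 IH) (Lpe (K24.f95182 IH) (Lpn (LP (LK LD1_c7 LD2_c12 LD3_c26))))))
theorem f116059 : Led Lsl_dt (LP (LK LD1_c3 LD2_c35 LD3_c33)) = (LP (LK LD1_c7 LD2_c11 LD3_c56)) :=
  Lre_d IH (LK LD1_c3 LD2_c35 LD3_c33) (LK LD1_c7 LD2_c11 LD3_c56) Lrfl Lrfl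
theorem f461892 : Led Lsl_bf (LP (LK LD1_c3 LD2_c35 LD3_c33)) = (LP (LK LD1_c6 LD2_c34 LD3_c3)) :=
  Lgr Lrot93 (Lpr_dt (f116059 IH) (Lpr_bt (f461820 IH) (Lpr_dt (K24.f440181 IH) (Lpn (LP (LK LD1_c6 LD2_c34 LD3_c3))))))
theorem f97033 : Led Lsl_gt (LP (LK LD1_c1 LD2_c44 LD3_c45)) = (LP (LK LD1_c3 LD2_c35 LD3_c48)) :=
  Lre_g IH (LK LD1_c1 LD2_c44 LD3_c45) (LK LD1_c3 LD2_c35 LD3_c48) Lrfl Lrfl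
theorem f63672 : Led Lsl_gt (LP (LK LD1_c1 LD2_c41 LD3_c53)) = (LP (LK LD1_c3 LD2_c29 LD3_c7)) :=
  Lre_g IH (LK LD1_c1 LD2_c41 LD3_c53) (LK LD1_c3 LD2_c29 LD3_c7) Lrfl Lrfl
theorem f18794 : Led Lsl_bt (LP (LK LD1_c3 LD2_c29 LD3_c10)) = (LP (LK LD1_c1 LD2_c41 LD3_c18)) :=
  Lre_b IH (LK LD1_c3 LD2_c29 LD3_c10) (LK LD1_c1 LD2_c41 LD3_c18) Lrfl Lrfl
theorem f463843 : Led Lsl_cf (LP (LK LD1_c3 LD2_c35 LD3_c48)) = (LP (LK LD1_c3 LD2_c29 LD3_c10)) :=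
  Lgr Lrot58 (Lpe (f97033 IH) (Lpe (K3.f98527 IH) (Lpr_bt (K3.f106202 IH) (Lpe (f87521 IH) (Lpr_bf (f461892 IH) (Lpr_ct (f463744 IH) (Lpe (f63672 IH) (Lpe (f446520 IH) (Lpe (K24.f62798 IH) (Lpe (f18794 IH) (Lpn (LP (LK LD1_c3 LD2_c29 LD3_c10)))))))))))))
theorem f463845 : Led Lsl_bt (LP (LK LD1_c3 LD2_c35 LD3_c48)) = (LP (LK LD1_c7 LD2_c12 LD3_c12)) :=
  Lre_b IH (LK LD1_c3 LD2_c35 LD3_c48) (LK LD1_c7 LD2_c12 LD3_c12) Lrfl Lrfl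
theorem f460230 : Led Lsl_bt (LP (LK LD1_c1 LD2_c41 LD3_c18)) = (LP (LK LD1_c3 LD2_c29 LD3_c10)) :=
  Lre_b IH (LK LD1_c1 LD2_c41 LD3_c18) (LK LD1_c3 LD2_c29 LD3_c10) Lrfl Lrfl
theorem f63020 : Led Lsl_ct (LP (LK LD1_c3 LD2_c29 LD3_c11)) = (LP (LK LD1_c1 LD2_c41 LD3_c18)) :=
  Lre_c IH (LK LD1_c3 LD2_c29 LD3_c11) (LK LD1_c1 LD2_c41 LD3_c18) Lrfl Lrfl
theorem f63031 : Led Lsl_bt (LP (LK LD1_c7 LD2_c0 LD3_c8)) = (LP (LK LD1_c3 LD2_c29 LD3_c11)) :=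
  Lre_b IH (LK LD1_c7 LD2_c0 LD3_c8) (LK LD1_c3 LD2_c29 LD3_c11) Lrfl Lrfl
theorem f463846 : Led Lsl_ct (LP (LK LD1_c7 LD2_c12 LD3_c12)) = (LP (LK LD1_c7 LD2_c0 LD3_c8)) :=
  Lgr Lrot83 (Lpe (f463845 IH) (Lpr_cf (f463843 IH) (Lpe (f460230 IH) (Lpe (f63020 IH) (Lpe (f63031 IH) (Lpn (LP (LK LD1_c7 LD2_c0 LD3_c8))))))))
theorem f116184 : Led Lsl_bt (LP (LK LD1_c7 LD2_c12 LD3_c12)) = (LP (LK LD1_c3 LD2_c35 LD3_c48)) :=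
  Lre_b IH (LK LD1_c7 LD2_c12 LD3_c12) (LK LD1_c3 LD2_c35 LD3_c48) Lrfl Lrfl
theorem f97049 : Led Lsl_dt (LP (LK LD1_c3 LD2_c36 LD3_c51)) = (LP (LK LD1_c1 LD2_c45 LD3_c15)) :=
  Lre_d IH (LK LD1_c3 LD2_c36 LD3_c51) (LK LD1_c1 LD2_c45 LD3_c15) Lrfl Lrfl
theorem f160206 : Led Lsl_af (LP (LK LD1_c3 LD2_c36 LD3_c51)) = (LP (LK LD1_c3 LD2_c33 LD3_c11)) :=
  Lgr Lrot117 (Lpr_dt (f97049 IH) (Lpr_at (K8.f160100 IH) (Lpr_dt (K8.f11553 IH) (Lpn (LP (LK LD1_c3 LD2_c33 LD3_c11))))))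
theorem f97035 : Led Lsl_gt (LP (LK LD1_c7 LD2_c13 LD3_c57)) = (LP (LK LD1_c3 LD2_c36 LD3_c51)) :=
  Lre_g IH (LK LD1_c7 LD2_c13 LD3_c57) (LK LD1_c3 LD2_c36 LD3_c51) Lrfl Lrfl
theorem f160424 : Led Lsl_ft (LP (LK LD1_c7 LD2_c7 LD3_c20)) = (LP (LK LD1_c3 LD2_c33 LD3_c11)) :=
  Lre_f IH (LK LD1_c7 LD2_c7 LD3_c20) (LK LD1_c3 LD2_c33 LD3_c11) Lrfl Lrfl
theorem f160441 : Led Lsl_gf (LP (LK LD1_c7 LD2_c13 LD3_c57)) = (LP (LK LD1_c7 LD2_c7 LD3_c20)) :=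
  Lgr Lrot47 (Lpr_gt (f97035 IH) (Lpr_af (f160206 IH) (Lpe (f160424 IH) (Lpn (LP (LK LD1_c7 LD2_c7 LD3_c20))))))
theorem f97034 : Led Lsl_et (LP (LK LD1_c7 LD2_c12 LD3_c14)) = (LP (LK LD1_c3 LD2_c35 LD3_c48)) :=
  Lre_e IH (LK LD1_c7 LD2_c12 LD3_c14) (LK LD1_c3 LD2_c35 LD3_c48) Lrfl Lrfl
theorem f96774 : Led Lsl_dt (LP (LK LD1_c1 LD2_c45 LD3_c15)) = (LP (LK LD1_c3 LD2_c36 LD3_c51)) :=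
  Lre_d IH (LK LD1_c1 LD2_c45 LD3_c15) (LK LD1_c3 LD2_c36 LD3_c51) Lrfl Lrfl
theorem f97036 : Led Lsl_dt (LP (LK LD1_c7 LD2_c12 LD3_c14)) = (LP (LK LD1_c7 LD2_c13 LD3_c57)) :=
  Lgr Lrot136 (Lpr_et (f97034 IH) (Lpe (f97033 IH) (Lpe (K3.f97032 IH) (Lpr_dt (K3.f18020 IH) (Lpe (K3.f97029 IH) (Lpe (K3.f97030 IH) (Lpr_gf (K3.f97027 IH) (Lpe (K8.f96773 IH) (Lpr_dt (f96774 IH) (Lpe (f97035 IH) (Lpn (LP (LK LD1_c7 LD2_c13 LD3_c57)))))))))))))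
theorem f160246 : Led Lsl_dt (LP (LK LD1_c3 LD2_c33 LD3_c12)) = (LP (LK LD1_c7 LD2_c7 LD3_c20)) :=
  Lre_d IH (LK LD1_c3 LD2_c33 LD3_c12) (LK LD1_c7 LD2_c7 LD3_c20) Lrfl Lrfl
theorem f160220 : Led Lsl_at (LP (LK LD1_c3 LD2_c36 LD3_c52)) = (LP (LK LD1_c3 LD2_c33 LD3_c12)) :=
  Lgr Lrot100 (Lpr_af (K8.f160209 IH) (Lpn (LP (LK LD1_c3 LD2_c33 LD3_c12))))
theorem f160430 : Led Lsl_ft (LP (LK LD1_c1 LD2_c45 LD3_c15)) = (LP (LK LD1_c3 LD2_c36 LD3_c52)) :=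
  Lre_f IH (LK LD1_c1 LD2_c45 LD3_c15) (LK LD1_c3 LD2_c36 LD3_c52) Lrfl Lrfl
theorem f17401 : Led Lsl_gt (LP (LK LD1_c1 LD2_c45 LD3_c15)) = (LP (LK LD1_c3 LD2_c36 LD3_c49)) :=
  Lre_g IH (LK LD1_c1 LD2_c45 LD3_c15) (LK LD1_c3 LD2_c36 LD3_c49) Lrfl Lrfl
theorem f160431 : Led Lsl_gt (LP (LK LD1_c3 LD2_c36 LD3_c49)) = (LP (LK LD1_c3 LD2_c33 LD3_c12)) :=
  Lgr Lrot46 (Lpe (f17401 IH) (Lpr_ft (f160430 IH) (Lpr_at (f160220 IH) (Lpn (LP (LK LD1_c3 LD2_c33 LD3_c12))))))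
theorem f98549 : Led Lsl_et (LP (LK LD1_c7 LD2_c13 LD3_c53)) = (LP (LK LD1_c3 LD2_c36 LD3_c49)) :=
  Lre_e IH (LK LD1_c7 LD2_c13 LD3_c53) (LK LD1_c3 LD2_c36 LD3_c49) Lrfl Lrfl
theorem f98548 : Led Lsl_gt (LP (LK LD1_c7 LD2_c5 LD3_c49)) = (LP (LK LD1_c3 LD2_c32 LD3_c23)) :=
  Lre_g IH (LK LD1_c7 LD2_c5 LD3_c49) (LK LD1_c3 LD2_c32 LD3_c23) Lrfl Lrfl
theorem f98085 : Led Lsl_et (LP (LK LD1_c0 LD2_c49 LD3_c19)) = (LP (LK LD1_c1 LD2_c45 LD3_c15)) :=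
  Lre_e IH (LK LD1_c0 LD2_c49 LD3_c19) (LK LD1_c1 LD2_c45 LD3_c15) Lrfl Lrfl
theorem f98550 : Led Lsl_df (LP (LK LD1_c7 LD2_c5 LD3_c49)) = (LP (LK LD1_c7 LD2_c13 LD3_c53)) :=
  Lgr Lrot170 (Lpr_gt (f98548 IH) (Lpe (K8.f98547 IH) (Lpr_et (K3.f98546 IH) (Lpr_gt (K3.f98540 IH) (Lpr_dt (K3.f97460 IH) (Lpr_gt (K3.f97461 IH) (Lpe (K3.f10805 IH) (Lpr_et (f98085 IH) (Lpr_gt (f17401 IH) (Lpe (f98549 IH) (Lpn (LP (LK LD1_c7 LD2_c13 LD3_c53)))))))))))))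
theorem f108390 : Led Lsl_ft (LP (LK LD1_c7 LD2_c12 LD3_c45)) = (LP (LK LD1_c3 LD2_c36 LD3_c10)) :=
  Lre_f IH (LK LD1_c7 LD2_c12 LD3_c45) (LK LD1_c3 LD2_c36 LD3_c10) Lrfl Lrfl
theorem f108391 : Led Lsl_ft (LP (LK LD1_c3 LD2_c32 LD3_c23)) = (LP (LK LD1_c7 LD2_c5 LD3_c51)) :=
  Lre_f IH (LK LD1_c3 LD2_c32 LD3_c23) (LK LD1_c7 LD2_c5 LD3_c51) Lrfl Lrfl
theorem f108392 : Led Lsl_at (LP (LK LD1_c3 LD2_c36 LD3_c10)) = (LP (LK LD1_c3 LD2_c32 LD3_c23)) :=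
  Lgr Lrot66 (Lpe (f108390 IH) (Lpr_af (K24.f108376 IH) (Lpe (f108391 IH) (Lpn (LP (LK LD1_c3 LD2_c32 LD3_c23))))))
theorem f108410 : Led Lsl_gt (LP (LK LD1_c7 LD2_c12 LD3_c45)) = (LP (LK LD1_c7 LD2_c5 LD3_c49)) :=
  Lgr Lrot5 (Lpr_ft (f108390 IH) (Lpr_at (f108392 IH) (Lpe (f98548 IH) (Lpn (LP (LK LD1_c7 LD2_c5 LD3_c49))))))
theorem f160443 : Led Lsl_gt (LP (LK LD1_c3 LD2_c35 LD3_c48)) = (LP (LK LD1_c3 LD2_c32 LD3_c42)) :=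
  Lgr Lrot131 (Lpe (f97034 IH) (Lpr_dt (f97036 IH) (Lpr_gf (f160441 IH) (Lpe (f160246 IH) (Lpe (f160431 IH) (Lpe (f98549 IH) (Lpe (f98550 IH) (Lpe (f108410 IH) (Lpe (K24.f108323 IH) (Lpr_et (K3.f108633 IH) (Lpn (LP (LK LD1_c3 LD2_c32 LD3_c42)))))))))))))
theorem f108642 : Led Lsl_ct (LP (LK LD1_c3 LD2_c32 LD3_c42)) = (LP (LK LD1_c1 LD2_c43 LD3_c3)) :=
  Lre_c IH (LK LD1_c3 LD2_c32 LD3_c42) (LK LD1_c1 LD2_c43 LD3_c3) Lrfl Lrfl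
theorem f16739 : Led Lsl_ct (LP (LK LD1_c3 LD2_c24 LD3_c60)) = (LP (LK LD1_c1 LD2_c38 LD3_c56)) :=
  Lre_c IH (LK LD1_c3 LD2_c24 LD3_c60) (LK LD1_c1 LD2_c38 LD3_c56) Lrfl Lrfl
theorem f446510 : Led Lsl_bt (LP (LK LD1_c1 LD2_c42 LD3_c14)) = (LP (LK LD1_c0 LD2_c47 LD3_c37)) :=
  Lre_b IH (LK LD1_c1 LD2_c42 LD3_c14) (LK LD1_c0 LD2_c47 LD3_c37) Lrfl Lrfl
theorem f450704 : Led Lsl_ct (LP (LK LD1_c3 LD2_c31 LD3_c21)) = (LP (LK LD1_c1 LD2_c42 LD3_c14)) :=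
  Lre_c IH (LK LD1_c3 LD2_c31 LD3_c21) (LK LD1_c1 LD2_c42 LD3_c14) Lrfl Lrfl
theorem f15791 : Led Lsl_ct (LP (LK LD1_c1 LD2_c38 LD3_c56)) = (LP (LK LD1_c3 LD2_c24 LD3_c60)) :=
  Lre_c IH (LK LD1_c1 LD2_c38 LD3_c56) (LK LD1_c3 LD2_c24 LD3_c60) Lrfl Lrfl
theorem f457429 : Led Lsl_bf (LP (LK LD1_c3 LD2_c31 LD3_c21)) = (LP (LK LD1_c3 LD2_c24 LD3_c60)) :=
  Lgr Lrot90 (Lpr_ct (f450704 IH) (Lpr_bt (f446510 IH) (Lpq (K24.f457414 IH) (Lpe (K24.f454967 IH) (Lpr_bt (K24.f454959 IH) (Lpr_ct (f15791 IH) (Lpn (LP (LK LD1_c3 LD2_c24 LD3_c60)))))))))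
theorem f92305 : Led Lsl_cf (LP (LK LD1_c1 LD2_c46 LD3_c39)) = (LP (LK LD1_c1 LD2_c42 LD3_c47)) :=
  Lgr Lrot11 (Lpr_ct (K2.f92292 IH) (Lpn (LP (LK LD1_c1 LD2_c42 LD3_c47))))
theorem f11414 : Led Lsl_et (LP (LK LD1_c0 LD2_c21 LD3_c17)) = (LP (LK LD1_c0 LD2_c9 LD3_c37)) :=
  Lre_e IH (LK LD1_c0 LD2_c21 LD3_c17) (LK LD1_c0 LD2_c9 LD3_c37) Lrfl Lrfl
theorem f11415 : Led Lsl_at (LP (LK LD1_c0 LD2_c21 LD3_c17)) = (LP (LK LD1_c0 LD2_c21 LD3_c17)) :=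
  Lgr Lrot80 (Lpe (K24.f11413 IH) (Lpr_af (K0.f11400 IH) (Lpe (f11414 IH) (Lpn (LP (LK LD1_c0 LD2_c21 LD3_c17))))))
theorem f18953 : Led Lsl_ft (LP (LK LD1_c0 LD2_c47 LD3_c38)) = (LP (LK LD1_c0 LD2_c21 LD3_c17)) :=
  Lre_f IH (LK LD1_c0 LD2_c47 LD3_c38) (LK LD1_c0 LD2_c21 LD3_c17) Lrfl Lrfl
theorem f446508 : Led Lsl_gt (LP (LK LD1_c0 LD2_c47 LD3_c38)) = (LP (LK LD1_c0 LD2_c47 LD3_c37)) :=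
  Lgr Lrot5 (Lpr_ft (f18953 IH) (Lpr_at (f11415 IH) (Lpe (K24.f446507 IH) (Lpn (LP (LK LD1_c0 LD2_c47 LD3_c37))))))
theorem f18575 : Led Lsl_gt (LP (LK LD1_c0 LD2_c47 LD3_c31)) = (LP (LK LD1_c1 LD2_c42 LD3_c2)) :=
  Lre_g IH (LK LD1_c0 LD2_c47 LD3_c31) (LK LD1_c1 LD2_c42 LD3_c2) Lrfl Lrfl
theorem f457431 : Led Lsl_cf (LP (LK LD1_c7 LD2_c1 LD3_c53)) = (LP (LK LD1_c3 LD2_c30 LD3_c60)) :=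
  Lgr Lrot160 (Lpr_gt (K2.f19148 IH) (Lpe (K1.f18191 IH) (Lpr_bt (K24.f18190 IH) (Lpr_gt (f446508 IH) (Lpq (K24.f457414 IH) (Lpe (K24.f454967 IH) (Lpr_gt (K24.f15782 IH) (Lpe (K24.f11067 IH) (Lpr_bt (K2.f18570 IH) (Lpr_gt (f18575 IH) (Lpe (f18852 IH) (Lpn (LP (LK LD1_c3 LD2_c30 LD3_c60))))))))))))))
theorem f446511 : Led Lsl_ct (LP (LK LD1_c1 LD2_c42 LD3_c14)) = (LP (LK LD1_c3 LD2_c31 LD3_c21)) :=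
  Lre_c IH (LK LD1_c1 LD2_c42 LD3_c14) (LK LD1_c3 LD2_c31 LD3_c21) Lrfl Lrfl
theorem f463582 : Led Lsl_gf (LP (LK LD1_c1 LD2_c46 LD3_c39)) = (LP (LK LD1_c3 LD2_c31 LD3_c21)) :=
  Lgr Lrot126 (Lpr_cf (f92305 IH) (Lpe (K2.f93170 IH) (Lpr_gt (f463580 IH) (Lpe (f457431 IH) (Lpr_gt (K2.f19148 IH) (Lpe (K1.f18191 IH) (Lpr_bt (K24.f18190 IH) (Lpr_gt (f446508 IH) (Lpe (f446510 IH) (Lpr_ct (f446511 IH) (Lpn (LP (LK LD1_c3 LD2_c31 LD3_c21)))))))))))))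
theorem f94548 : Led Lsl_ct (LP (LK LD1_c3 LD2_c39 LD3_c23)) = (LP (LK LD1_c3 LD2_c46 LD3_c36)) :=
  Lgr Lrot59 (Lpr_cf (K2.f94543 IH) (Lpn (LP (LK LD1_c3 LD2_c46 LD3_c36))))
theorem f463884 : Led Lsl_gt (LP (LK LD1_c3 LD2_c46 LD3_c36)) = (LP (LK LD1_c7 LD2_c0 LD3_c8)) :=
  Lgr Lrot65 (Lpe (f94548 IH) (Lpr_bt (K2.f92304 IH) (Lpr_gf (f463582 IH) (Lpr_bf (f457429 IH) (Lpr_ct (f16739 IH) (Lpq (K24.f461786 IH) (Lpe (K24.f456825 IH) (Lpe (f108642 IH) (Lpe (f160443 IH) (Lpe (f116184 IH) (Lpr_ct (f463846 IH) (Lpn (LP (LK LD1_c7 LD2_c0 LD3_c8))))))))))))))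
theorem f92319 : Led Lsl_gt (LP (LK LD1_c7 LD2_c18 LD3_c59)) = (LP (LK LD1_c3 LD2_c39 LD3_c23)) :=
  Lre_g IH (LK LD1_c7 LD2_c18 LD3_c59) (LK LD1_c3 LD2_c39 LD3_c23) Lrfl Lrfl
theorem f92320 : Led Lsl_bt (LP (LK LD1_c13 LD2_c50 LD3_c28)) = (LP (LK LD1_c7 LD2_c18 LD3_c59)) :=
  Lre_b IH (LK LD1_c13 LD2_c50 LD3_c28) (LK LD1_c7 LD2_c18 LD3_c59) Lrfl Lrfl
theorem f463886 : Led Lsl_cf (LP (LK LD1_c13 LD2_c22 LD3_c43)) = (LP (LK LD1_c13 LD2_c50 LD3_c28)) :=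
  Lgr Lrot58 (Lpe (f460953 IH) (Lpe (f460940 IH) (Lpr_bt (f108626 IH) (Lpe (f160443 IH) (Lpe (f116184 IH) (Lpr_ct (f463846 IH) (Lpe (f463884 IH) (Lpe (f94548 IH) (Lpe (f92319 IH) (Lpe (f92320 IH) (Lpn (LP (LK LD1_c13 LD2_c50 LD3_c28)))))))))))))
theorem f463889 : Led Lsl_ct (LP (LK LD1_c13 LD2_c22 LD3_c43)) = (LP (LK LD1_c13 LD2_c50 LD3_c28)) :=
  Lgr Lrot59 (Lpr_cf (f463886 IH) (Lpn (LP (LK LD1_c13 LD2_c50 LD3_c28))))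
theorem f18698 : Led Lsl_ct (LP (LK LD1_c6 LD2_c59 LD3_c52)) = (LP (LK LD1_c13 LD2_c16 LD3_c44)) :=
  Lre_c IH (LK LD1_c6 LD2_c59 LD3_c52) (LK LD1_c13 LD2_c16 LD3_c44) Lrfl Lrfl
theorem f18765 : Led Lsl_bt (LP (LK LD1_c13 LD2_c16 LD3_c43)) = (LP (LK LD1_c6 LD2_c59 LD3_c52)) :=
  Lre_b IH (LK LD1_c13 LD2_c16 LD3_c43) (LK LD1_c6 LD2_c59 LD3_c52) Lrfl Lrfl
theorem f464058 : Led Lsl_ct (LP (LK LD1_c7 LD2_c18 LD3_c59)) = (LP (LK LD1_c13 LD2_c16 LD3_c43)) :=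
  Lgr Lrot83 (Lpe (f92320 IH) (Lpe (f463889 IH) (Lpr_bf (f464054 IH) (Lpe (f18698 IH) (Lpe (f18765 IH) (Lpn (LP (LK LD1_c13 LD2_c16 LD3_c43))))))))
theorem f464061 : Led Lsl_cf (LP (LK LD1_c7 LD2_c18 LD3_c59)) = (LP (LK LD1_c13 LD2_c16 LD3_c43)) :=
  Lgr Lrot11 (Lpr_ct (f464058 IH) (Lpn (LP (LK LD1_c13 LD2_c16 LD3_c43))))
theorem f18679 : Led Lsl_gt (LP (LK LD1_c13 LD2_c16 LD3_c34)) = (LP (LK LD1_c6 LD2_c59 LD3_c52)) :=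
  Lre_g IH (LK LD1_c13 LD2_c16 LD3_c34) (LK LD1_c6 LD2_c59 LD3_c52) Lrfl Lrfl
theorem f18951 : Led Lsl_gt (LP (LK LD1_c1 LD2_c42 LD3_c9)) = (LP (LK LD1_c3 LD2_c31 LD3_c12)) :=
  Lre_g IH (LK LD1_c1 LD2_c42 LD3_c9) (LK LD1_c3 LD2_c31 LD3_c12) Lrfl Lrfl
theorem f458446 : Led Lsl_ct (LP (LK LD1_c3 LD2_c31 LD3_c14)) = (LP (LK LD1_c1 LD2_c42 LD3_c9)) :=
  Lre_c IH (LK LD1_c3 LD2_c31 LD3_c14) (LK LD1_c1 LD2_c42 LD3_c9) Lrfl Lrfl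
theorem f464065 : Led Lsl_gt (LP (LK LD1_c3 LD2_c25 LD3_c38)) = (LP (LK LD1_c3 LD2_c31 LD3_c14)) :=
  Lgr Lrot82 (Lpr_bf (K4.f94579 IH) (Lpe (K2.f94543 IH) (Lpe (f92319 IH) (Lpr_cf (f464061 IH) (Lpr_bt (f18765 IH) (Lpe (f18679 IH) (Lpe (K24.f18687 IH) (Lpr_ct (K24.f18689 IH) (Lpe (f18951 IH) (Lpe (f458446 IH) (Lpn (LP (LK LD1_c3 LD2_c31 LD3_c14)))))))))))))
theorem f95919 : Led Lsl_et (LP (LK LD1_c3 LD2_c40 LD3_c26)) = (LP (LK LD1_c1 LD2_c47 LD3_c9)) :=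
  Lre_e IH (LK LD1_c3 LD2_c40 LD3_c26) (LK LD1_c1 LD2_c47 LD3_c9) Lrfl Lrfl
theorem f95920 : Led Lsl_dt (LP (LK LD1_c3 LD2_c40 LD3_c26)) = (LP (LK LD1_c7 LD2_c21 LD3_c4)) :=
  Lre_d IH (LK LD1_c3 LD2_c40 LD3_c26) (LK LD1_c7 LD2_c21 LD3_c4) Lrfl Lrfl
theorem f98740 : Led Lsl_et (LP (LK LD1_c7 LD2_c4 LD3_c18)) = (LP (LK LD1_c3 LD2_c31 LD3_c14)) :=
  Lre_e IH (LK LD1_c7 LD2_c4 LD3_c18) (LK LD1_c3 LD2_c31 LD3_c14) Lrfl Lrfl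
theorem f98733 : Led Lsl_dt (LP (LK LD1_c7 LD2_c4 LD3_c18)) = (LP (LK LD1_c13 LD2_c24 LD3_c22)) :=
  Lre_d IH (LK LD1_c7 LD2_c4 LD3_c18) (LK LD1_c13 LD2_c24 LD3_c22) Lrfl Lrfl
theorem f464101 : Led Lsl_gf (LP (LK LD1_c7 LD2_c21 LD3_c4)) = (LP (LK LD1_c13 LD2_c24 LD3_c22)) :=
  Lgr Lrot145 (Lpe (f95920 IH) (Lpr_et (f95919 IH) (Lpr_gt (K5.f107297 IH) (Lpr_dt (K5.f90256 IH) (Lpr_gt (K5.f97723 IH) (Lpe (K3.f94572 IH) (Lpr_et (K2.f94575 IH) (Lpr_gt (f464065 IH) (Lpe (f98740 IH) (Lpr_dt (f98733 IH) (Lpn (LP (LK LD1_c13 LD2_c24 LD3_c22)))))))))))))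
theorem f151443 : Led Lsl_bt (LP (LK LD1_c7 LD2_c21 LD3_c2)) = (LP (LK LD1_c3 LD2_c40 LD3_c25)) :=
  Lre_b IH (LK LD1_c7 LD2_c21 LD3_c2) (LK LD1_c3 LD2_c40 LD3_c25) Lrfl Lrfl
theorem f102621 : Led Lsl_bt (LP (LK LD1_c3 LD2_c25 LD3_c44)) = (LP (LK LD1_c6 LD2_c53 LD3_c22)) :=
  Lre_b IH (LK LD1_c3 LD2_c25 LD3_c44) (LK LD1_c6 LD2_c53 LD3_c22) Lrfl Lrfl
theorem f162892 : Led Lsl_ft (LP (LK LD1_c3 LD2_c40 LD3_c25)) = (LP (LK LD1_c3 LD2_c25 LD3_c44)) :=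
  Lgr Lrot75 (Lpe (f151443 IH) (Lpr_ff (K8.f162889 IH) (Lpe (f102621 IH) (Lpn (LP (LK LD1_c3 LD2_c25 LD3_c44))))))
theorem f425013 : Led Lsl_ff (LP (LK LD1_c3 LD2_c40 LD3_c25)) = (LP (LK LD1_c3 LD2_c25 LD3_c44)) :=
  Lgr Lrot3 (Lpr_ft (f162892 IH) (Lpn (LP (LK LD1_c3 LD2_c25 LD3_c44))))
theorem f425015 : Led Lsl_at (LP (LK LD1_c3 LD2_c40 LD3_c25)) = (LP (LK LD1_c3 LD2_c25 LD3_c45)) :=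
  Lgr Lrot26 (Lpr_ff (f425013 IH) (Lpr_gt (K6.f102527 IH) (Lpr_gt (K4.f94991 IH) (Lpn (LP (LK LD1_c3 LD2_c25 LD3_c45))))))
theorem f162896 : Led Lsl_af (LP (LK LD1_c7 LD2_c21 LD3_c2)) = (LP (LK LD1_c12 LD2_c51 LD3_c33)) :=
  Lgr Lrot0 (Lpr_at (K8.f162894 IH) (Lpn (LP (LK LD1_c12 LD2_c51 LD3_c33))))
theorem f120261 : Led Lsl_bf (LP (LK LD1_c3 LD2_c46 LD3_c39)) = (LP (LK LD1_c3 LD2_c25 LD3_c45)) :=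
  Lgr Lrot93 (Lpr_dt (K4.f120257 IH) (Lpe (K6.f96528 IH) (Lpr_dt (K3.f94985 IH) (Lpn (LP (LK LD1_c3 LD2_c25 LD3_c45))))))
theorem f425019 : Led Lsl_af (LP (LK LD1_c6 LD2_c43 LD3_c20)) = (LP (LK LD1_c3 LD2_c46 LD3_c39)) :=
  Lgr Lrot36 (Lpr_bt (K8.f120637 IH) (Lpe (f162896 IH) (Lpr_bt (f151443 IH) (Lpr_at (f425015 IH) (Lpe (f120261 IH) (Lpn (LP (LK LD1_c3 LD2_c46 LD3_c39))))))))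
theorem f108993 : Led Lsl_at (LP (LK LD1_c4 LD2_c47 LD3_c47)) = (LP (LK LD1_c3 LD2_c29 LD3_c40)) :=
  Lgr Lrot100 (Lpr_af (K3.f108991 IH) (Lpn (LP (LK LD1_c3 LD2_c29 LD3_c40))))
theorem f103537 : Led Lsl_gt (LP (LK LD1_c3 LD2_c19 LD3_c46)) = (LP (LK LD1_c6 LD2_c43 LD3_c19)) :=
  Lre_g IH (LK LD1_c3 LD2_c19 LD3_c46) (LK LD1_c6 LD2_c43 LD3_c19) Lrfl Lrfl
theorem f120290 : Led Lsl_gf (LP (LK LD1_c3 LD2_c29 LD3_c40)) = (LP (LK LD1_c6 LD2_c43 LD3_c19)) :=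
  Lgr Lrot76 (Lpe (f108993 IH) (Lpr_ff (K4.f120288 IH) (Lpr_gt (f103537 IH) (Lpn (LP (LK LD1_c6 LD2_c43 LD3_c19))))))
theorem f425025 : Led Lsl_ft (LP (LK LD1_c6 LD2_c43 LD3_c19)) = (LP (LK LD1_c3 LD2_c46 LD3_c39)) :=
  Lgr Lrot2 (Lpe (f120290 IH) (Lpe (K7.f136004 IH) (Lpr_af (f425019 IH) (Lpn (LP (LK LD1_c3 LD2_c46 LD3_c39))))))
theorem f425033 : Led Lsl_ff (LP (LK LD1_c6 LD2_c43 LD3_c19)) = (LP (LK LD1_c3 LD2_c46 LD3_c39)) :=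
  Lgr Lrot3 (Lpr_ft (f425025 IH) (Lpn (LP (LK LD1_c3 LD2_c46 LD3_c39))))
theorem f425041 : Led Lsl_at (LP (LK LD1_c6 LD2_c43 LD3_c19)) = (LP (LK LD1_c3 LD2_c46 LD3_c38)) :=
  Lgr Lrot26 (Lpr_ff (f425033 IH) (Lpr_gt (K4.f94484 IH) (Lpr_gt (K3.f65239 IH) (Lpn (LP (LK LD1_c3 LD2_c46 LD3_c38))))))
theorem f425021 : Led Lsl_at (LP (LK LD1_c6 LD2_c43 LD3_c20)) = (LP (LK LD1_c3 LD2_c46 LD3_c39)) :=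
  Lgr Lrot100 (Lpr_af (f425019 IH) (Lpn (LP (LK LD1_c3 LD2_c46 LD3_c39))))
theorem f425053 : Led Lsl_ff (LP (LK LD1_c6 LD2_c43 LD3_c20)) = (LP (LK LD1_c3 LD2_c46 LD3_c38)) :=
  Lgr Lrot30 (Lpr_at (f425021 IH) (Lpe (f425033 IH) (Lpr_at (f425041 IH) (Lpn (LP (LK LD1_c3 LD2_c46 LD3_c38))))))
theorem f425058 : Led Lsl_ft (LP (LK LD1_c6 LD2_c43 LD3_c20)) = (LP (LK LD1_c3 LD2_c46 LD3_c38)) :=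
  Lgr Lrot48 (Lpr_ff (f425053 IH) (Lpn (LP (LK LD1_c3 LD2_c46 LD3_c38))))
theorem f425060 : Led Lsl_ff (LP (LK LD1_c12 LD2_c51 LD3_c34)) = (LP (LK LD1_c7 LD2_c34 LD3_c5)) :=
  Lgr Lrot23 (Lpr_ct (K7.f120304 IH) (Lpr_ft (f425058 IH) (Lpr_ct (K3.f109896 IH) (Lpn (LP (LK LD1_c7 LD2_c34 LD3_c5))))))
theorem f120260 : Led Lsl_ct (LP (LK LD1_c7 LD2_c34 LD3_c7)) = (LP (LK LD1_c3 LD2_c46 LD3_c39)) :=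
  Lre_c IH (LK LD1_c7 LD2_c34 LD3_c7) (LK LD1_c3 LD2_c46 LD3_c39) Lrfl Lrfl
theorem f425023 : Led Lsl_at (LP (LK LD1_c12 LD2_c51 LD3_c34)) = (LP (LK LD1_c7 LD2_c34 LD3_c7)) :=
  Lgr Lrot107 (Lpe (K8.f120305 IH) (Lpr_af (f425019 IH) (Lpe (f120260 IH) (Lpn (LP (LK LD1_c7 LD2_c34 LD3_c7))))))
theorem f120292 : Led Lsl_ct (LP (LK LD1_c12 LD2_c51 LD3_c31)) = (LP (LK LD1_c6 LD2_c43 LD3_c19)) :=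
  Lre_c IH (LK LD1_c12 LD2_c51 LD3_c31) (LK LD1_c6 LD2_c43 LD3_c19) Lrfl Lrfl
theorem f120256 : Led Lsl_ct (LP (LK LD1_c3 LD2_c46 LD3_c39)) = (LP (LK LD1_c7 LD2_c34 LD3_c7)) :=
  Lre_c IH (LK LD1_c3 LD2_c46 LD3_c39) (LK LD1_c7 LD2_c34 LD3_c7) Lrfl Lrfl
theorem f425029 : Led Lsl_ff (LP (LK LD1_c12 LD2_c51 LD3_c31)) = (LP (LK LD1_c7 LD2_c34 LD3_c7)) :=
  Lgr Lrot23 (Lpr_ct (f120292 IH) (Lpr_ft (f425025 IH) (Lpr_ct (f120256 IH) (Lpn (LP (LK LD1_c7 LD2_c34 LD3_c7))))))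
theorem f425063 : Led Lsl_at (LP (LK LD1_c12 LD2_c51 LD3_c31)) = (LP (LK LD1_c7 LD2_c34 LD3_c5)) :=
  Lgr Lrot66 (Lpr_ff (f425029 IH) (Lpe (f425023 IH) (Lpr_ff (f425060 IH) (Lpn (LP (LK LD1_c7 LD2_c34 LD3_c5))))))
theorem f158516 : Led Lsl_et (LP (LK LD1_c22 LD2_c0 LD3_c24)) = (LP (LK LD1_c12 LD2_c51 LD3_c31)) :=
  Lre_e IH (LK LD1_c22 LD2_c0 LD3_c24) (LK LD1_c12 LD2_c51 LD3_c31) Lrfl Lrfl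
theorem f203748 : Led Lsl_et (LP (LK LD1_c7 LD2_c34 LD3_c5)) = (LP (LK LD1_c14 LD2_c16 LD3_c9)) :=
  Lre_e IH (LK LD1_c7 LD2_c34 LD3_c5) (LK LD1_c14 LD2_c16 LD3_c9) Lrfl Lrfl
theorem f425105 : Led Lsl_af (LP (LK LD1_c22 LD2_c0 LD3_c24)) = (LP (LK LD1_c14 LD2_c16 LD3_c9)) :=
  Lgr Lrot50 (Lpr_et (f158516 IH) (Lpr_at (f425063 IH) (Lpr_et (f203748 IH) (Lpn (LP (LK LD1_c14 LD2_c16 LD3_c9))))))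
theorem f158547 : Led Lsl_ct (LP (LK LD1_c22 LD2_c0 LD3_c24)) = (LP (LK LD1_c12 LD2_c51 LD3_c32)) :=
  Lre_c IH (LK LD1_c22 LD2_c0 LD3_c24) (LK LD1_c12 LD2_c51 LD3_c32) Lrfl Lrfl
theorem f203743 : Led Lsl_ct (LP (LK LD1_c7 LD2_c34 LD3_c6)) = (LP (LK LD1_c14 LD2_c16 LD3_c9)) :=
  Lre_c IH (LK LD1_c7 LD2_c34 LD3_c6) (LK LD1_c14 LD2_c16 LD3_c9) Lrfl Lrfl
theorem f425109 : Led Lsl_at (LP (LK LD1_c12 LD2_c51 LD3_c32)) = (LP (LK LD1_c7 LD2_c34 LD3_c6)) :=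
  Lgr Lrot107 (Lpe (f158547 IH) (Lpr_af (f425105 IH) (Lpe (f203743 IH) (Lpn (LP (LK LD1_c7 LD2_c34 LD3_c6))))))
theorem f158527 : Led Lsl_dt (LP (LK LD1_c22 LD2_c0 LD3_c25)) = (LP (LK LD1_c12 LD2_c51 LD3_c32)) :=
  Lre_d IH (LK LD1_c22 LD2_c0 LD3_c25) (LK LD1_c12 LD2_c51 LD3_c32) Lrfl Lrfl
theorem f109901 : Led Lsl_dt (LP (LK LD1_c7 LD2_c34 LD3_c6)) = (LP (LK LD1_c14 LD2_c16 LD3_c10)) :=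
  Lre_d IH (LK LD1_c7 LD2_c34 LD3_c6) (LK LD1_c14 LD2_c16 LD3_c10) Lrfl Lrfl
theorem f425113 : Led Lsl_af (LP (LK LD1_c22 LD2_c0 LD3_c25)) = (LP (LK LD1_c14 LD2_c16 LD3_c10)) :=
  Lgr Lrot117 (Lpr_dt (f158527 IH) (Lpr_at (f425109 IH) (Lpr_dt (f109901 IH) (Lpn (LP (LK LD1_c14 LD2_c16 LD3_c10))))))
theorem f109550 : Led Lsl_dt (LP (LK LD1_c7 LD2_c17 LD3_c6)) = (LP (LK LD1_c13 LD2_c47 LD3_c3)) :=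
  Lre_d IH (LK LD1_c7 LD2_c17 LD3_c6) (LK LD1_c13 LD2_c47 LD3_c3) Lrfl Lrfl
theorem f18027 : Led Lsl_ct (LP (LK LD1_c3 LD2_c38 LD3_c24)) = (LP (LK LD1_c7 LD2_c17 LD3_c6)) :=
  Lre_c IH (LK LD1_c3 LD2_c38 LD3_c24) (LK LD1_c7 LD2_c17 LD3_c6) Lrfl Lrfl
theorem f103538 : Led Lsl_ct (LP (LK LD1_c6 LD2_c43 LD3_c19)) = (LP (LK LD1_c12 LD2_c51 LD3_c31)) :=
  Lre_c IH (LK LD1_c6 LD2_c43 LD3_c19) (LK LD1_c12 LD2_c51 LD3_c31) Lrfl Lrfl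
theorem f158512 : Led Lsl_gf (LP (LK LD1_c11 LD2_c45 LD3_c35)) = (LP (LK LD1_c12 LD2_c51 LD3_c31)) :=
  Lgr Lrot104 (Lpr_ct (K8.f158497 IH) (Lpe (f109550 IH) (Lpe (f18027 IH) (Lpe (K6.f18026 IH) (Lpe (K6.f97502 IH) (Lpr_gf (K4.f109546 IH) (Lpr_df (K4.f120285 IH) (Lpr_gt (f103537 IH) (Lpr_ct (f103538 IH) (Lpn (LP (LK LD1_c12 LD2_c51 LD3_c31))))))))))))
theorem f130251 : Led Lsl_cf (LP (LK LD1_c6 LD2_c50 LD3_c2)) = (LP (LK LD1_c6 LD2_c51 LD3_c46)) :=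
  Lgr Lrot11 (Lpr_ct (K6.f130248 IH) (Lpn (LP (LK LD1_c6 LD2_c51 LD3_c46))))
theorem f102496 : Led Lsl_gf (LP (LK LD1_c3 LD2_c55 LD3_c39)) = (LP (LK LD1_c3 LD2_c24 LD3_c39)) :=
  Lgr Lrot47 (Lpe (K5.f91867 IH) (Lpe (K4.f102483 IH) (Lpr_ff (K4.f102485 IH) (Lpn (LP (LK LD1_c3 LD2_c24 LD3_c39))))))
theorem f158514 : Led Lsl_bf (LP (LK LD1_c3 LD2_c55 LD3_c39)) = (LP (LK LD1_c6 LD2_c43 LD3_c19)) :=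
  Lgr Lrot34 (Lpr_gf (f102496 IH) (Lpe (K6.f102487 IH) (Lpe (f130251 IH) (Lpe (K6.f83916 IH) (Lpe (K6.f93278 IH) (Lpe (K6.f93279 IH) (Lpr_bf (K8.f130403 IH) (Lpe (K8.f158507 IH) (Lpr_gf (f158512 IH) (Lpe (f103538 IH) (Lpn (LP (LK LD1_c6 LD2_c43 LD3_c19)))))))))))))
theorem f16119 : Led Lsl_bt (LP (LK LD1_c7 LD2_c36 LD3_c13)) = (LP (LK LD1_c3 LD2_c47 LD3_c40)) :=
  Lre_b IH (LK LD1_c7 LD2_c36 LD3_c13) (LK LD1_c3 LD2_c47 LD3_c40) Lrfl Lrfl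
theorem f156858 : Led Lsl_bt (LP (LK LD1_c4 LD2_c46 LD3_c16)) = (LP (LK LD1_c9 LD2_c25 LD3_c6)) :=
  Lre_b IH (LK LD1_c4 LD2_c46 LD3_c16) (LK LD1_c9 LD2_c25 LD3_c6) Lrfl Lrfl
theorem f156861 : Led Lsl_ct (LP (LK LD1_c9 LD2_c25 LD3_c6)) = (LP (LK LD1_c7 LD2_c36 LD3_c13)) :=
  Lgr Lrot83 (Lpe (f156858 IH) (Lpe (K7.f118990 IH) (Lpr_bf (K7.f156856 IH) (Lpe (K7.f16118 IH) (Lpe (f16119 IH) (Lpn (LP (LK LD1_c7 LD2_c36 LD3_c13))))))))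
theorem f156863 : Led Lsl_cf (LP (LK LD1_c9 LD2_c25 LD3_c6)) = (LP (LK LD1_c7 LD2_c36 LD3_c13)) :=
  Lgr Lrot11 (Lpr_ct (f156861 IH) (Lpn (LP (LK LD1_c7 LD2_c36 LD3_c13))))
theorem f158523 : Led Lsl_gt (LP (LK LD1_c9 LD2_c25 LD3_c6)) = (LP (LK LD1_c12 LD2_c51 LD3_c31)) :=
  Lgr Lrot65 (Lpr_cf (f156863 IH) (Lpr_bt (f16119 IH) (Lpe (K7.f16116 IH) (Lpe (K11.f15033 IH) (Lpr_ct (K2.f14564 IH) (Lpe (K3.f15025 IH) (Lpe (K5.f91855 IH) (Lpr_gf (K5.f91867 IH) (Lpr_bf (f158514 IH) (Lpr_ct (f103538 IH) (Lpn (LP (LK LD1_c12 LD2_c51 LD3_c31)))))))))))))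
theorem f78068 : Led Lsl_bt (LP (LK LD1_c9 LD2_c25 LD3_c6)) = (LP (LK LD1_c4 LD2_c46 LD3_c16)) :=
  Lre_b IH (LK LD1_c9 LD2_c25 LD3_c6) (LK LD1_c4 LD2_c46 LD3_c16) Lrfl Lrfl
theorem f156871 : Led Lsl_gt (LP (LK LD1_c9 LD2_c30 LD3_c10)) = (LP (LK LD1_c7 LD2_c36 LD3_c13)) :=
  Lgr Lrot149 (Lpe (K3.f103173 IH) (Lpr_gf (K3.f103171 IH) (Lpe (K3.f23538 IH) (Lpr_ct (K3.f23550 IH) (Lpe (K3.f103115 IH) (Lpe (K3.f78007 IH) (Lpr_bt (K11.f78059 IH) (Lpe (K7.f78067 IH) (Lpe (f78068 IH) (Lpr_ct (f156861 IH) (Lpn (LP (LK LD1_c7 LD2_c36 LD3_c13)))))))))))))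
theorem f136474 : Led Lsl_bt (LP (LK LD1_c3 LD2_c26 LD3_c61)) = (LP (LK LD1_c3 LD2_c47 LD3_c16)) :=
  Lgr Lrot127 (Lpr_bf (K6.f136472 IH) (Lpn (LP (LK LD1_c3 LD2_c47 LD3_c16))))
theorem f136912 : Led Lsl_gf (LP (LK LD1_c6 LD2_c55 LD3_c52)) = (LP (LK LD1_c7 LD2_c7 LD3_c49)) :=
  Lgr Lrot129 (Lpe (K6.f107306 IH) (Lpr_bt (f136474 IH) (Lpr_gt (K6.f15206 IH) (Lpe (K3.f15078 IH) (Lpe (K3.f15081 IH) (Lpr_gt (K3.f95138 IH) (Lpr_cf (K0.f17311 IH) (Lpr_bt (K3.f17308 IH) (Lpr_gt (K3.f17317 IH) (Lpe (K8.f96779 IH) (Lpn (LP (LK LD1_c7 LD2_c7 LD3_c49)))))))))))))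
theorem f109436 : Led Lsl_bt (LP (LK LD1_c3 LD2_c47 LD3_c15)) = (LP (LK LD1_c7 LD2_c35 LD3_c21)) :=
  Lre_b IH (LK LD1_c3 LD2_c47 LD3_c15) (LK LD1_c7 LD2_c35 LD3_c21) Lrfl Lrfl
theorem f136338 : Led Lsl_bf (LP (LK LD1_c7 LD2_c13 LD3_c23)) = (LP (LK LD1_c3 LD2_c49 LD3_c5)) :=
  Lgr Lrot90 (Lpe (K6.f96148 IH) (Lpr_bt (K6.f96134 IH) (Lpr_ct (K6.f136336 IH) (Lpr_bt (f109436 IH) (Lpe (K3.f110227 IH) (Lpn (LP (LK LD1_c3 LD2_c49 LD3_c5))))))))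
theorem f96788 : Led Lsl_ct (LP (LK LD1_c13 LD2_c30 LD3_c21)) = (LP (LK LD1_c7 LD2_c37 LD3_c43)) :=
  Lgr Lrot59 (Lpr_cf (K8.f96782 IH) (Lpn (LP (LK LD1_c7 LD2_c37 LD3_c43))))
theorem f96792 : Led Lsl_bt (LP (LK LD1_c7 LD2_c7 LD3_c50)) = (LP (LK LD1_c13 LD2_c30 LD3_c21)) :=
  Lre_b IH (LK LD1_c7 LD2_c7 LD3_c50) (LK LD1_c13 LD2_c30 LD3_c21) Lrfl Lrfl
theorem f95151 : Led Lsl_ct (LP (LK LD1_c7 LD2_c36 LD3_c0)) = (LP (LK LD1_c3 LD2_c47 LD3_c36)) :=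
  Lre_c IH (LK LD1_c7 LD2_c36 LD3_c0) (LK LD1_c3 LD2_c47 LD3_c36) Lrfl Lrfl
theorem f95152 : Led Lsl_bt (LP (LK LD1_c3 LD2_c47 LD3_c36)) = (LP (LK LD1_c7 LD2_c35 LD3_c61)) :=
  Lre_b IH (LK LD1_c3 LD2_c47 LD3_c36) (LK LD1_c7 LD2_c35 LD3_c61) Lrfl Lrfl
theorem f96793 : Led Lsl_cf (LP (LK LD1_c7 LD2_c7 LD3_c50)) = (LP (LK LD1_c7 LD2_c35 LD3_c61)) :=
  Lgr Lrot97 (Lpr_bt (f96792 IH) (Lpr_ct (f96788 IH) (Lpe (K8.f95147 IH) (Lpr_ct (f95151 IH) (Lpr_bt (f95152 IH) (Lpn (LP (LK LD1_c7 LD2_c35 LD3_c61))))))))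
theorem f96801 : Led Lsl_et (LP (LK LD1_c3 LD2_c47 LD3_c33)) = (LP (LK LD1_c7 LD2_c35 LD3_c61)) :=
  Lre_e IH (LK LD1_c3 LD2_c47 LD3_c33) (LK LD1_c7 LD2_c35 LD3_c61) Lrfl Lrfl
theorem f96802 : Led Lsl_ct (LP (LK LD1_c3 LD2_c33 LD3_c27)) = (LP (LK LD1_c3 LD2_c47 LD3_c33)) :=
  Lgr Lrot15 (Lpe (K8.f96800 IH) (Lpr_cf (f96793 IH) (Lpe (f96801 IH) (Lpn (LP (LK LD1_c3 LD2_c47 LD3_c33))))))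
theorem f136916 : Led Lsl_gt (LP (LK LD1_c7 LD2_c35 LD3_c21)) = (LP (LK LD1_c3 LD2_c47 LD3_c33)) :=
  Lgr Lrot65 (Lpe (K3.f110230 IH) (Lpe (f136338 IH) (Lpr_gf (K6.f88595 IH) (Lpr_bf (K6.f96873 IH) (Lpr_ct (K3.f97864 IH) (Lpe (K6.f136502 IH) (Lpe (K6.f96942 IH) (Lpr_gf (f136912 IH) (Lpe (K3.f96776 IH) (Lpr_ct (f96802 IH) (Lpn (LP (LK LD1_c3 LD2_c47 LD3_c33)))))))))))))
theorem f158525 : Led Lsl_df (LP (LK LD1_c3 LD2_c33 LD3_c29)) = (LP (LK LD1_c6 LD2_c43 LD3_c19)) :=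
  Lgr Lrot162 (Lpe (K3.f6112 IH) (Lpe (K3.f96769 IH) (Lpr_cf (K3.f96777 IH) (Lpe (f136916 IH) (Lpe (K8.f109432 IH) (Lpr_gt (f156871 IH) (Lpe (f156863 IH) (Lpr_gt (f158523 IH) (Lpr_ct (f120292 IH) (Lpn (LP (LK LD1_c6 LD2_c43 LD3_c19))))))))))))
theorem f96854 : Led Lsl_et (LP (LK LD1_c3 LD2_c33 LD3_c29)) = (LP (LK LD1_c7 LD2_c7 LD3_c52)) :=
  Lre_e IH (LK LD1_c3 LD2_c33 LD3_c29) (LK LD1_c7 LD2_c7 LD3_c52) Lrfl Lrfl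
theorem f96836 : Led Lsl_dt (LP (LK LD1_c7 LD2_c7 LD3_c52)) = (LP (LK LD1_c13 LD2_c30 LD3_c26)) :=
  Lre_d IH (LK LD1_c7 LD2_c7 LD3_c52) (LK LD1_c13 LD2_c30 LD3_c26) Lrfl Lrfl
theorem f120293 : Led Lsl_et (LP (LK LD1_c12 LD2_c51 LD3_c32)) = (LP (LK LD1_c6 LD2_c43 LD3_c19)) :=
  Lre_e IH (LK LD1_c12 LD2_c51 LD3_c32) (LK LD1_c6 LD2_c43 LD3_c19) Lrfl Lrfl
theorem f158528 : Led Lsl_et (LP (LK LD1_c13 LD2_c30 LD3_c26)) = (LP (LK LD1_c22 LD2_c0 LD3_c25)) :=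
  Lgr Lrot71 (Lpe (f96836 IH) (Lpe (f96854 IH) (Lpr_df (f158525 IH) (Lpe (f120293 IH) (Lpe (f158527 IH) (Lpn (LP (LK LD1_c22 LD2_c0 LD3_c25))))))))
theorem f158539 : Led Lsl_ef (LP (LK LD1_c13 LD2_c30 LD3_c26)) = (LP (LK LD1_c22 LD2_c0 LD3_c25)) :=
  Lgr Lrot88 (Lpr_et (f158528 IH) (Lpn (LP (LK LD1_c22 LD2_c0 LD3_c25))))
theorem f110247 : Led Lsl_et (LP (LK LD1_c1 LD2_c51 LD3_c41)) = (LP (LK LD1_c3 LD2_c49 LD3_c18)) :=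
  Lre_e IH (LK LD1_c1 LD2_c51 LD3_c41) (LK LD1_c3 LD2_c49 LD3_c18) Lrfl Lrfl
theorem f88606 : Led Lsl_dt (LP (LK LD1_c3 LD2_c49 LD3_c18)) = (LP (LK LD1_c7 LD2_c39 LD3_c25)) :=
  Lre_d IH (LK LD1_c3 LD2_c49 LD3_c18) (LK LD1_c7 LD2_c39 LD3_c25) Lrfl Lrfl
theorem f109900 : Led Lsl_et (LP (LK LD1_c7 LD2_c34 LD3_c6)) = (LP (LK LD1_c3 LD2_c46 LD3_c38)) :=
  Lre_e IH (LK LD1_c7 LD2_c34 LD3_c6) (LK LD1_c3 LD2_c46 LD3_c38) Lrfl Lrfl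
theorem f110248 : Led Lsl_dt (LP (LK LD1_c14 LD2_c16 LD3_c10)) = (LP (LK LD1_c7 LD2_c34 LD3_c6)) :=
  Lre_d IH (LK LD1_c14 LD2_c16 LD3_c10) (LK LD1_c7 LD2_c34 LD3_c6) Lrfl Lrfl
theorem f110249 : Led Lsl_et (LP (LK LD1_c7 LD2_c39 LD3_c25)) = (LP (LK LD1_c14 LD2_c16 LD3_c10)) :=
  Lgr Lrot71 (Lpe (f88606 IH) (Lpe (f110247 IH) (Lpr_df (K8.f110242 IH) (Lpe (f109900 IH) (Lpe (f110248 IH) (Lpn (LP (LK LD1_c14 LD2_c16 LD3_c10))))))))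
theorem f425117 : Led Lsl_at (LP (LK LD1_c13 LD2_c30 LD3_c26)) = (LP (LK LD1_c7 LD2_c39 LD3_c25)) :=
  Lgr Lrot80 (Lpr_ef (f158539 IH) (Lpr_af (f425113 IH) (Lpe (f110249 IH) (Lpn (LP (LK LD1_c7 LD2_c39 LD3_c25))))))
theorem f110267 : Led Lsl_dt (LP (LK LD1_c7 LD2_c39 LD3_c25)) = (LP (LK LD1_c3 LD2_c49 LD3_c18)) :=
  Lre_d IH (LK LD1_c7 LD2_c39 LD3_c25) (LK LD1_c3 LD2_c49 LD3_c18) Lrfl Lrfl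
theorem f425123 : Led Lsl_af (LP (LK LD1_c7 LD2_c7 LD3_c52)) = (LP (LK LD1_c3 LD2_c49 LD3_c18)) :=
  Lgr Lrot117 (Lpr_dt (f96836 IH) (Lpr_at (f425117 IH) (Lpr_dt (f110267 IH) (Lpn (LP (LK LD1_c3 LD2_c49 LD3_c18))))))
theorem f425133 : Led Lsl_at (LP (LK LD1_c3 LD2_c33 LD3_c29)) = (LP (LK LD1_c1 LD2_c51 LD3_c41)) :=
  Lgr Lrot80 (Lpe (K3.f96826 IH) (Lpr_af (f425123 IH) (Lpe (f110247 IH) (Lpn (LP (LK LD1_c1 LD2_c51 LD3_c41))))))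
theorem f425137 : Led Lsl_af (LP (LK LD1_c1 LD2_c54 LD3_c26)) = (LP (LK LD1_c1 LD2_c39 LD3_c54)) :=
  Lgr Lrot36 (Lpe (K3.f96824 IH) (Lpr_at (f425133 IH) (Lpr_bt (K8.f110244 IH) (Lpr_at (K8.f162873 IH) (Lpr_bt (K6.f15207 IH) (Lpn (LP (LK LD1_c1 LD2_c39 LD3_c54))))))))
theorem f124355 : Led Lsl_ft (LP (LK LD1_c1 LD2_c47 LD3_c9)) = (LP (LK LD1_c1 LD2_c39 LD3_c54)) :=
  Lgr Lrot4 (Lpe (K5.f95906 IH) (Lpr_ff (K5.f124349 IH) (Lpe (K6.f120851 IH) (Lpn (LP (LK LD1_c1 LD2_c39 LD3_c54))))))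
theorem f124345 : Led Lsl_af (LP (LK LD1_c1 LD2_c47 LD3_c9)) = (LP (LK LD1_c1 LD2_c39 LD3_c55)) :=
  Lgr Lrot68 (Lpr_ct (K5.f95904 IH) (Lpr_at (K5.f124341 IH) (Lpe (K3.f95133 IH) (Lpn (LP (LK LD1_c1 LD2_c39 LD3_c55))))))
theorem f425143 : Led Lsl_ft (LP (LK LD1_c1 LD2_c54 LD3_c26)) = (LP (LK LD1_c1 LD2_c39 LD3_c55)) :=
  Lgr Lrot101 (Lpr_af (f425137 IH) (Lpe (f124355 IH) (Lpr_af (f124345 IH) (Lpn (LP (LK LD1_c1 LD2_c39 LD3_c55))))))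
theorem f425145 : Led Lsl_ff (LP (LK LD1_c1 LD2_c54 LD3_c26)) = (LP (LK LD1_c1 LD2_c39 LD3_c55)) :=
  Lgr Lrot3 (Lpr_ft (f425143 IH) (Lpn (LP (LK LD1_c1 LD2_c39 LD3_c55))))
theorem f425139 : Led Lsl_at (LP (LK LD1_c1 LD2_c54 LD3_c26)) = (LP (LK LD1_c1 LD2_c39 LD3_c54)) :=
  Lgr Lrot100 (Lpr_af (f425137 IH) (Lpn (LP (LK LD1_c1 LD2_c39 LD3_c54))))
theorem f120853 : Led Lsl_cf (LP (LK LD1_c1 LD2_c39 LD3_c54)) = (LP (LK LD1_c0 LD2_c50 LD3_c51)) :=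
  Lgr Lrot14 (Lpr_df (K6.f102586 IH) (Lpe (K6.f94612 IH) (Lpe (K3.f94222 IH) (Lpe (K2.f94532 IH) (Lpr_ct (K3.f94570 IH) (Lpr_gt (K2.f65871 IH) (Lpr_dt (K2.f65863 IH) (Lpr_gt (K4.f120843 IH) (Lpr_dt (K4.f120847 IH) (Lpn (LP (LK LD1_c0 LD2_c50 LD3_c51))))))))))))
theorem f124367 : Led Lsl_ff (LP (LK LD1_c1 LD2_c47 LD3_c9)) = (LP (LK LD1_c1 LD2_c39 LD3_c54)) :=
  Lgr Lrot23 (Lpr_ct (K5.f95904 IH) (Lpr_ft (K5.f124361 IH) (Lpe (f120853 IH) (Lpn (LP (LK LD1_c1 LD2_c39 LD3_c54))))))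
theorem f425147 : Led Lsl_at (LP (LK LD1_c1 LD2_c47 LD3_c9)) = (LP (LK LD1_c1 LD2_c39 LD3_c55)) :=
  Lgr Lrot66 (Lpr_ff (f124367 IH) (Lpe (f425139 IH) (Lpr_ff (f425145 IH) (Lpn (LP (LK LD1_c1 LD2_c39 LD3_c55))))))
theorem f425149 : Led Lsl_af (LP (LK LD1_c3 LD2_c40 LD3_c26)) = (LP (LK LD1_c3 LD2_c26 LD3_c26)) :=
  Lgr Lrot50 (Lpr_et (f95919 IH) (Lpr_at (f425147 IH) (Lpr_et (K24.f94989 IH) (Lpn (LP (LK LD1_c3 LD2_c26 LD3_c26))))))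
theorem f95024 : Led Lsl_dt (LP (LK LD1_c6 LD2_c54 LD3_c44)) = (LP (LK LD1_c3 LD2_c26 LD3_c26)) :=
  Lre_d IH (LK LD1_c6 LD2_c54 LD3_c44) (LK LD1_c3 LD2_c26 LD3_c26) Lrfl Lrfl
theorem f425157 : Led Lsl_at (LP (LK LD1_c7 LD2_c21 LD3_c4)) = (LP (LK LD1_c6 LD2_c54 LD3_c44)) :=
  Lgr Lrot51 (Lpe (f95920 IH) (Lpr_af (f425149 IH) (Lpe (f95024 IH) (Lpn (LP (LK LD1_c6 LD2_c54 LD3_c44))))))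
theorem f425159 : Led Lsl_af (LP (LK LD1_c7 LD2_c21 LD3_c4)) = (LP (LK LD1_c6 LD2_c54 LD3_c44)) :=
  Lgr Lrot0 (Lpr_at (f425157 IH) (Lpn (LP (LK LD1_c6 LD2_c54 LD3_c44))))
theorem f17016 : Led Lsl_dt (LP (LK LD1_c0 LD2_c45 LD3_c49)) = (LP (LK LD1_c0 LD2_c20 LD3_c56)) :=
  Lre_d IH (LK LD1_c0 LD2_c45 LD3_c49) (LK LD1_c0 LD2_c20 LD3_c56) Lrfl Lrfl
theorem f19151 : Led Lsl_dt (LP (LK LD1_c1 LD2_c40 LD3_c28)) = (LP (LK LD1_c0 LD2_c46 LD3_c40)) :=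
  Lre_d IH (LK LD1_c1 LD2_c40 LD3_c28) (LK LD1_c0 LD2_c46 LD3_c40) Lrfl Lrfl
theorem f15889 : Led Lsl_et (LP (LK LD1_c0 LD2_c20 LD3_c52)) = (LP (LK LD1_c0 LD2_c46 LD3_c28)) :=
  Lre_e IH (LK LD1_c0 LD2_c20 LD3_c52) (LK LD1_c0 LD2_c46 LD3_c28) Lrfl Lrfl
theorem f15892 : Led Lsl_gt (LP (LK LD1_c0 LD2_c46 LD3_c28)) = (LP (LK LD1_c1 LD2_c39 LD3_c50)) :=
  Lre_g IH (LK LD1_c0 LD2_c46 LD3_c28) (LK LD1_c1 LD2_c39 LD3_c50) Lrfl Lrfl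
theorem f98711 : Led Lsl_et (LP (LK LD1_c1 LD2_c40 LD3_c28)) = (LP (LK LD1_c1 LD2_c39 LD3_c50)) :=
  Lgr Lrot122 (Lpr_dt (f19151 IH) (Lpr_gt (K24.f16742 IH) (Lpe (f17016 IH) (Lpr_et (K1.f18167 IH) (Lpr_gt (K2.f11078 IH) (Lpe (K3.f98653 IH) (Lpr_gt (K3.f98705 IH) (Lpe (K0.f9771 IH) (Lpr_et (f15889 IH) (Lpr_gt (f15892 IH) (Lpn (LP (LK LD1_c1 LD2_c39 LD3_c50)))))))))))))
theorem f16712 : Led Lsl_gt (LP (LK LD1_c1 LD2_c39 LD3_c52)) = (LP (LK LD1_c0 LD2_c46 LD3_c40)) :=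
  Lre_g IH (LK LD1_c1 LD2_c39 LD3_c52) (LK LD1_c0 LD2_c46 LD3_c40) Lrfl Lrfl
theorem f15822 : Led Lsl_dt (LP (LK LD1_c3 LD2_c24 LD3_c32)) = (LP (LK LD1_c1 LD2_c39 LD3_c52)) :=
  Lre_d IH (LK LD1_c3 LD2_c24 LD3_c32) (LK LD1_c1 LD2_c39 LD3_c52) Lrfl Lrfl
theorem f15815 : Led Lsl_at (LP (LK LD1_c1 LD2_c38 LD3_c52)) = (LP (LK LD1_c3 LD2_c24 LD3_c32)) :=
  Lre_a IH (LK LD1_c1 LD2_c38 LD3_c52) (LK LD1_c3 LD2_c24 LD3_c32) Lrfl Lrfl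
theorem f18178 : Led Lsl_ef (LP (LK LD1_c3 LD2_c31 LD3_c12)) = (LP (LK LD1_c3 LD2_c24 LD3_c32)) :=
  Lgr Lrot20 (Lpr_at (K24.f18177 IH) (Lpr_et (K1.f18169 IH) (Lpr_at (f15815 IH) (Lpn (LP (LK LD1_c3 LD2_c24 LD3_c32))))))
theorem f18074 : Led Lsl_et (LP (LK LD1_c3 LD2_c31 LD3_c16)) = (LP (LK LD1_c1 LD2_c42 LD3_c9)) :=
  Lre_e IH (LK LD1_c3 LD2_c31 LD3_c16) (LK LD1_c1 LD2_c42 LD3_c9) Lrfl Lrfl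
theorem f15716 : Led Lsl_gt (LP (LK LD1_c1 LD2_c39 LD3_c50)) = (LP (LK LD1_c0 LD2_c46 LD3_c41)) :=
  Lre_g IH (LK LD1_c1 LD2_c39 LD3_c50) (LK LD1_c0 LD2_c46 LD3_c41) Lrfl Lrfl
theorem f98722 : Led Lsl_dt (LP (LK LD1_c3 LD2_c31 LD3_c16)) = (LP (LK LD1_c3 LD2_c24 LD3_c31)) :=
  Lgr Lrot56 (Lpr_et (f18074 IH) (Lpr_gt (f18951 IH) (Lpr_ef (f18178 IH) (Lpr_dt (f15822 IH) (Lpr_gt (f16712 IH) (Lpe (f19151 IH) (Lpr_et (f98711 IH) (Lpr_gt (f15716 IH) (Lpr_dt (f17289 IH) (Lpr_gt (K24.f17290 IH) (Lpn (LP (LK LD1_c3 LD2_c24 LD3_c31)))))))))))))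
theorem f98727 : Led Lsl_df (LP (LK LD1_c3 LD2_c31 LD3_c16)) = (LP (LK LD1_c3 LD2_c24 LD3_c31)) :=
  Lgr Lrot38 (Lpr_dt (f98722 IH) (Lpn (LP (LK LD1_c3 LD2_c24 LD3_c31))))
theorem f98732 : Led Lsl_ct (LP (LK LD1_c3 LD2_c31 LD3_c16)) = (LP (LK LD1_c7 LD2_c4 LD3_c18)) :=
  Lre_c IH (LK LD1_c3 LD2_c31 LD3_c16) (LK LD1_c7 LD2_c4 LD3_c18) Lrfl Lrfl
theorem f98725 : Led Lsl_dt (LP (LK LD1_c13 LD2_c24 LD3_c22)) = (LP (LK LD1_c7 LD2_c4 LD3_c18)) :=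
  Lre_d IH (LK LD1_c13 LD2_c24 LD3_c22) (LK LD1_c7 LD2_c4 LD3_c18) Lrfl Lrfl
theorem f15717 : Led Lsl_ct (LP (LK LD1_c3 LD2_c26 LD3_c18)) = (LP (LK LD1_c1 LD2_c39 LD3_c50)) :=
  Lre_c IH (LK LD1_c3 LD2_c26 LD3_c18) (LK LD1_c1 LD2_c39 LD3_c50) Lrfl Lrfl
theorem f15900 : Led Lsl_gt (LP (LK LD1_c3 LD2_c26 LD3_c18)) = (LP (LK LD1_c6 LD2_c54 LD3_c31)) :=
  Lre_g IH (LK LD1_c3 LD2_c26 LD3_c18) (LK LD1_c6 LD2_c54 LD3_c31) Lrfl Lrfl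
theorem f98734 : Led Lsl_dt (LP (LK LD1_c6 LD2_c54 LD3_c31)) = (LP (LK LD1_c13 LD2_c7 LD3_c40)) :=
  Lre_d IH (LK LD1_c6 LD2_c54 LD3_c31) (LK LD1_c13 LD2_c7 LD3_c40) Lrfl Lrfl
theorem f98735 : Led Lsl_gf (LP (LK LD1_c13 LD2_c24 LD3_c22)) = (LP (LK LD1_c13 LD2_c7 LD3_c40)) :=
  Lgr Lrot143 (Lpr_dt (f98725 IH) (Lpe (f98732 IH) (Lpr_df (f98727 IH) (Lpe (K24.f17290 IH) (Lpe (f17289 IH) (Lpe (f15716 IH) (Lpe (f15717 IH) (Lpr_gt (f15900 IH) (Lpr_dt (f98734 IH) (Lpn (LP (LK LD1_c13 LD2_c7 LD3_c40))))))))))))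
theorem f464103 : Led Lsl_ff (LP (LK LD1_c6 LD2_c54 LD3_c44)) = (LP (LK LD1_c13 LD2_c7 LD3_c40)) :=
  Lgr Lrot52 (Lpe (f425159 IH) (Lpr_gf (f464101 IH) (Lpr_gf (f98735 IH) (Lpn (LP (LK LD1_c13 LD2_c7 LD3_c40))))))
theorem f464108 : Led Lsl_ft (LP (LK LD1_c3 LD2_c26 LD3_c26)) = (LP (LK LD1_c6 LD2_c54 LD3_c31)) :=
  Lgr Lrot54 (Lpe (f95024 IH) (Lpr_ff (f464103 IH) (Lpe (f98734 IH) (Lpn (LP (LK LD1_c6 LD2_c54 LD3_c31))))))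
theorem f464228 : Led Lsl_cf (LP (LK LD1_c3 LD2_c44 LD3_c45)) = (LP (LK LD1_c6 LD2_c54 LD3_c31)) :=
  Lgr Lrot108 (Lpr_ft (K24.f5746 IH) (Lpe (K24.f95189 IH) (Lpr_ft (f464108 IH) (Lpn (LP (LK LD1_c6 LD2_c54 LD3_c31))))))
theorem f15899 : Led Lsl_ct (LP (LK LD1_c1 LD2_c39 LD3_c50)) = (LP (LK LD1_c3 LD2_c26 LD3_c18)) :=
  Lre_c IH (LK LD1_c1 LD2_c39 LD3_c50) (LK LD1_c3 LD2_c26 LD3_c18) Lrfl Lrfl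
theorem f15811 : Led Lsl_ct (LP (LK LD1_c3 LD2_c24 LD3_c30)) = (LP (LK LD1_c6 LD2_c51 LD3_c38)) :=
  Lre_c IH (LK LD1_c3 LD2_c24 LD3_c30) (LK LD1_c6 LD2_c51 LD3_c38) Lrfl Lrfl
theorem f15812 : Led Lsl_gt (LP (LK LD1_c6 LD2_c51 LD3_c38)) = (LP (LK LD1_c13 LD2_c2 LD3_c58)) :=
  Lre_g IH (LK LD1_c6 LD2_c51 LD3_c38) (LK LD1_c13 LD2_c2 LD3_c58) Lrfl Lrfl
theorem f464258 : Led Lsl_cf (LP (LK LD1_c6 LD2_c58 LD3_c55)) = (LP (LK LD1_c13 LD2_c2 LD3_c58)) :=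
  Lgr Lrot99 (Lpr_df (K4.f106130 IH) (Lpr_cf (f464228 IH) (Lpe (f15900 IH) (Lpe (f15899 IH) (Lpe (f15892 IH) (Lpe (K2.f15799 IH) (Lpr_gt (f14647 IH) (Lpr_ct (f15811 IH) (Lpr_gt (f15812 IH) (Lpn (LP (LK LD1_c13 LD2_c2 LD3_c58))))))))))))
theorem f464266 : Led Lsl_ft (LP (LK LD1_c6 LD2_c51 LD3_c40)) = (LP (LK LD1_c13 LD2_c2 LD3_c58)) :=
  Lgr Lrot4 (Lpe (K3.f91226 IH) (Lpe (K4.f17687 IH) (Lpr_cf (f464258 IH) (Lpn (LP (LK LD1_c13 LD2_c2 LD3_c58))))))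
theorem f91147 : Led Lsl_et (LP (LK LD1_c3 LD2_c24 LD3_c33)) = (LP (LK LD1_c6 LD2_c51 LD3_c40)) :=
  Lre_e IH (LK LD1_c3 LD2_c24 LD3_c33) (LK LD1_c6 LD2_c51 LD3_c40) Lrfl Lrfl
theorem f94598 : Led Lsl_et (LP (LK LD1_c3 LD2_c25 LD3_c38)) = (LP (LK LD1_c1 LD2_c39 LD3_c27)) :=
  Lre_e IH (LK LD1_c3 LD2_c25 LD3_c38) (LK LD1_c1 LD2_c39 LD3_c27) Lrfl Lrfl
theorem f94586 : Led Lsl_ft (LP (LK LD1_c6 LD2_c53 LD3_c12)) = (LP (LK LD1_c3 LD2_c25 LD3_c38)) :=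
  Lre_f IH (LK LD1_c6 LD2_c53 LD3_c12) (LK LD1_c3 LD2_c25 LD3_c38) Lrfl Lrfl
theorem f464272 : Led Lsl_ef (LP (LK LD1_c6 LD2_c53 LD3_c12)) = (LP (LK LD1_c13 LD2_c2 LD3_c58)) :=
  Lgr Lrot21 (Lpr_ft (f94586 IH) (Lpr_et (f94598 IH) (Lpr_ft (K4.f121856 IH) (Lpr_et (f91147 IH) (Lpr_ft (f464266 IH) (Lpn (LP (LK LD1_c13 LD2_c2 LD3_c58))))))))
theorem f90872 : Led Lsl_ct (LP (LK LD1_c3 LD2_c27 LD3_c38)) = (LP (LK LD1_c1 LD2_c40 LD3_c25)) :=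
  Lre_c IH (LK LD1_c3 LD2_c27 LD3_c38) (LK LD1_c1 LD2_c40 LD3_c25) Lrfl Lrfl
theorem f90873 : Led Lsl_dt (LP (LK LD1_c6 LD2_c57 LD3_c30)) = (LP (LK LD1_c3 LD2_c27 LD3_c38)) :=
  Lre_d IH (LK LD1_c6 LD2_c57 LD3_c30) (LK LD1_c3 LD2_c27 LD3_c38) Lrfl Lrfl
theorem f91990 : Led Lsl_gt (LP (LK LD1_c13 LD2_c12 LD3_c48)) = (LP (LK LD1_c6 LD2_c57 LD3_c30)) :=
  Lre_g IH (LK LD1_c13 LD2_c12 LD3_c48) (LK LD1_c6 LD2_c57 LD3_c30) Lrfl Lrfl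
theorem f91991 : Led Lsl_dt (LP (LK LD1_c13 LD2_c2 LD3_c58)) = (LP (LK LD1_c13 LD2_c12 LD3_c48)) :=
  Lgr Lrot57 (Lpe (f15812 IH) (Lpe (f15811 IH) (Lpr_gt (f15714 IH) (Lpr_dt (K2.f15713 IH) (Lpr_gt (K2.f15721 IH) (Lpr_dt (K24.f90875 IH) (Lpe (f90872 IH) (Lpe (f90873 IH) (Lpe (f91990 IH) (Lpn (LP (LK LD1_c13 LD2_c12 LD3_c48))))))))))))
theorem f91987 : Led Lsl_dt (LP (LK LD1_c3 LD2_c27 LD3_c38)) = (LP (LK LD1_c6 LD2_c57 LD3_c30)) :=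
  Lre_d IH (LK LD1_c3 LD2_c27 LD3_c38) (LK LD1_c6 LD2_c57 LD3_c30) Lrfl Lrfl
theorem f91999 : Led Lsl_et (LP (LK LD1_c3 LD2_c27 LD3_c38)) = (LP (LK LD1_c1 LD2_c40 LD3_c23)) :=
  Lre_e IH (LK LD1_c3 LD2_c27 LD3_c38) (LK LD1_c1 LD2_c40 LD3_c23) Lrfl Lrfl
theorem f16745 : Led Lsl_gt (LP (LK LD1_c1 LD2_c40 LD3_c23)) = (LP (LK LD1_c3 LD2_c27 LD3_c35)) :=
  Lre_g IH (LK LD1_c1 LD2_c40 LD3_c23) (LK LD1_c3 LD2_c27 LD3_c35) Lrfl Lrfl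
theorem f92000 : Led Lsl_dt (LP (LK LD1_c3 LD2_c27 LD3_c35)) = (LP (LK LD1_c6 LD2_c57 LD3_c21)) :=
  Lre_d IH (LK LD1_c3 LD2_c27 LD3_c35) (LK LD1_c6 LD2_c57 LD3_c21) Lrfl Lrfl
theorem f92001 : Led Lsl_gt (LP (LK LD1_c6 LD2_c57 LD3_c21)) = (LP (LK LD1_c13 LD2_c4 LD3_c12)) :=
  Lre_g IH (LK LD1_c6 LD2_c57 LD3_c21) (LK LD1_c13 LD2_c4 LD3_c12) Lrfl Lrfl
theorem f92002 : Led Lsl_dt (LP (LK LD1_c6 LD2_c52 LD3_c19)) = (LP (LK LD1_c13 LD2_c4 LD3_c12)) :=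
  Lre_d IH (LK LD1_c6 LD2_c52 LD3_c19) (LK LD1_c13 LD2_c4 LD3_c12) Lrfl Lrfl
theorem f90865 : Led Lsl_et (LP (LK LD1_c3 LD2_c31 LD3_c10)) = (LP (LK LD1_c3 LD2_c24 LD3_c55)) :=
  Lgr Lrot87 (Lpr_ef (K2.f90858 IH) (Lpn (LP (LK LD1_c3 LD2_c24 LD3_c55))))
theorem f92007 : Led Lsl_ct (LP (LK LD1_c7 LD2_c4 LD3_c12)) = (LP (LK LD1_c3 LD2_c31 LD3_c10)) :=
  Lre_c IH (LK LD1_c7 LD2_c4 LD3_c12) (LK LD1_c3 LD2_c31 LD3_c10) Lrfl Lrfl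
theorem f15826 : Led Lsl_ct (LP (LK LD1_c3 LD2_c24 LD3_c55)) = (LP (LK LD1_c6 LD2_c52 LD3_c19)) :=
  Lre_c IH (LK LD1_c3 LD2_c24 LD3_c55) (LK LD1_c6 LD2_c52 LD3_c19) Lrfl Lrfl
theorem f92008 : Led Lsl_ef (LP (LK LD1_c7 LD2_c4 LD3_c12)) = (LP (LK LD1_c6 LD2_c52 LD3_c19)) :=
  Lgr Lrot28 (Lpr_ct (f92007 IH) (Lpr_et (f90865 IH) (Lpr_ct (f15826 IH) (Lpn (LP (LK LD1_c6 LD2_c52 LD3_c19))))))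
theorem f464315 : Led Lsl_gf (LP (LK LD1_c6 LD2_c53 LD3_c12)) = (LP (LK LD1_c7 LD2_c4 LD3_c12)) :=
  Lgr Lrot141 (Lpr_ef (f464272 IH) (Lpr_dt (f91991 IH) (Lpr_gt (f91990 IH) (Lpe (f91987 IH) (Lpr_et (f91999 IH) (Lpr_gt (f16745 IH) (Lpr_dt (f92000 IH) (Lpr_gt (f92001 IH) (Lpe (f92002 IH) (Lpe (f92008 IH) (Lpn (LP (LK LD1_c7 LD2_c4 LD3_c12)))))))))))))
theorem f94599 : Led Lsl_ft (LP (LK LD1_c3 LD2_c25 LD3_c38)) = (LP (LK LD1_c6 LD2_c53 LD3_c12)) :=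
  Lre_f IH (LK LD1_c3 LD2_c25 LD3_c38) (LK LD1_c6 LD2_c53 LD3_c12) Lrfl Lrfl
theorem f94600 : Led Lsl_ct (LP (LK LD1_c6 LD2_c53 LD3_c12)) = (LP (LK LD1_c3 LD2_c44 LD3_c53)) :=
  Lgr Lrot40 (Lpe (f94599 IH) (Lpr_cf (K2.f94581 IH) (Lpe (K5.f93172 IH) (Lpn (LP (LK LD1_c3 LD2_c44 LD3_c53))))))
theorem f94604 : Led Lsl_cf (LP (LK LD1_c6 LD2_c53 LD3_c12)) = (LP (LK LD1_c3 LD2_c44 LD3_c53)) :=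
  Lgr Lrot11 (Lpr_ct (f94600 IH) (Lpn (LP (LK LD1_c3 LD2_c44 LD3_c53))))
theorem f121765 : Led Lsl_gt (LP (LK LD1_c3 LD2_c36 LD3_c0)) = (LP (LK LD1_c1 LD2_c44 LD3_c53)) :=
  Lre_g IH (LK LD1_c3 LD2_c36 LD3_c0) (LK LD1_c1 LD2_c44 LD3_c53) Lrfl Lrfl
theorem f121766 : Led Lsl_gt (LP (LK LD1_c3 LD2_c32 LD3_c12)) = (LP (LK LD1_c3 LD2_c36 LD3_c0)) :=
  Lgr Lrot5 (Lpr_ft (K4.f92331 IH) (Lpr_at (K4.f121755 IH) (Lpe (f121765 IH) (Lpn (LP (LK LD1_c3 LD2_c36 LD3_c0))))))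
theorem f18740 : Led Lsl_ct (LP (LK LD1_c3 LD2_c31 LD3_c10)) = (LP (LK LD1_c7 LD2_c4 LD3_c12)) :=
  Lre_c IH (LK LD1_c3 LD2_c31 LD3_c10) (LK LD1_c7 LD2_c4 LD3_c12) Lrfl Lrfl
theorem f18713 : Led Lsl_bt (LP (LK LD1_c6 LD2_c59 LD3_c48)) = (LP (LK LD1_c3 LD2_c30 LD3_c5)) :=
  Lre_b IH (LK LD1_c6 LD2_c59 LD3_c48) (LK LD1_c3 LD2_c30 LD3_c5) Lrfl Lrfl
theorem f18714 : Led Lsl_ct (LP (LK LD1_c3 LD2_c30 LD3_c5)) = (LP (LK LD1_c1 LD2_c42 LD3_c8)) :=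
  Lre_c IH (LK LD1_c3 LD2_c30 LD3_c5) (LK LD1_c1 LD2_c42 LD3_c8) Lrfl Lrfl
theorem f18715 : Led Lsl_bt (LP (LK LD1_c3 LD2_c30 LD3_c5)) = (LP (LK LD1_c6 LD2_c59 LD3_c48)) :=
  Lre_b IH (LK LD1_c3 LD2_c30 LD3_c5) (LK LD1_c6 LD2_c59 LD3_c48) Lrfl Lrfl
theorem f18716 : Led Lsl_ct (LP (LK LD1_c1 LD2_c42 LD3_c8)) = (LP (LK LD1_c3 LD2_c30 LD3_c5)) :=
  Lre_c IH (LK LD1_c1 LD2_c42 LD3_c8) (LK LD1_c3 LD2_c30 LD3_c5) Lrfl Lrfl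
theorem f18717 : Led Lsl_bt (LP (LK LD1_c1 LD2_c42 LD3_c8)) = (LP (LK LD1_c1 LD2_c42 LD3_c8)) :=
  Lgr Lrot128 (Lpe (f18714 IH) (Lpe (f18713 IH) (Lpr_cf (K2.f18692 IH) (Lpe (f18715 IH) (Lpe (f18716 IH) (Lpn (LP (LK LD1_c1 LD2_c42 LD3_c8))))))))
theorem f18730 : Led Lsl_gt (LP (LK LD1_c7 LD2_c1 LD3_c54)) = (LP (LK LD1_c3 LD2_c30 LD3_c5)) :=
  Lre_g IH (LK LD1_c7 LD2_c1 LD3_c54) (LK LD1_c3 LD2_c30 LD3_c5) Lrfl Lrfl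
theorem f92277 : Led Lsl_gt (LP (LK LD1_c3 LD2_c44 LD3_c52)) = (LP (LK LD1_c1 LD2_c49 LD3_c32)) :=
  Lre_g IH (LK LD1_c3 LD2_c44 LD3_c52) (LK LD1_c1 LD2_c49 LD3_c32) Lrfl Lrfl
theorem f463872 : Led Lsl_bt (LP (LK LD1_c3 LD2_c29 LD3_c11)) = (LP (LK LD1_c7 LD2_c0 LD3_c8)) :=
  Lre_b IH (LK LD1_c3 LD2_c29 LD3_c11) (LK LD1_c7 LD2_c0 LD3_c8) Lrfl Lrfl
theorem f18964 : Led Lsl_gt (LP (LK LD1_c3 LD2_c30 LD3_c11)) = (LP (LK LD1_c7 LD2_c1 LD3_c54)) :=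
  Lre_g IH (LK LD1_c3 LD2_c30 LD3_c11) (LK LD1_c7 LD2_c1 LD3_c54) Lrfl Lrfl
theorem f463894 : Led Lsl_cf (LP (LK LD1_c3 LD2_c44 LD3_c52)) = (LP (LK LD1_c7 LD2_c1 LD3_c54)) :=
  Lgr Lrot125 (Lpr_gt (f92277 IH) (Lpe (K2.f94596 IH) (Lpr_bt (K2.f94576 IH) (Lpr_gt (f463884 IH) (Lpe (f463872 IH) (Lpr_ct (f63020 IH) (Lpr_gt (K24.f62798 IH) (Lpe (f446518 IH) (Lpr_bt (f18204 IH) (Lpr_gt (f18964 IH) (Lpn (LP (LK LD1_c7 LD2_c1 LD3_c54)))))))))))))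
theorem f463903 : Led Lsl_ct (LP (LK LD1_c3 LD2_c44 LD3_c52)) = (LP (LK LD1_c7 LD2_c1 LD3_c54)) :=
  Lgr Lrot59 (Lpr_cf (f463894 IH) (Lpn (LP (LK LD1_c7 LD2_c1 LD3_c54))))
theorem f464317 : Led Lsl_bf (LP (LK LD1_c3 LD2_c36 LD3_c0)) = (LP (LK LD1_c3 LD2_c44 LD3_c52)) :=
  Lgr Lrot34 (Lpe (f121766 IH) (Lpe (K5.f93175 IH) (Lpe (f94604 IH) (Lpr_gf (f464315 IH) (Lpe (f18740 IH) (Lpe (K2.f18095 IH) (Lpe (f18717 IH) (Lpr_ct (f18716 IH) (Lpe (f18730 IH) (Lpe (f463903 IH) (Lpn (LP (LK LD1_c3 LD2_c44 LD3_c52)))))))))))))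
theorem f208941 : Led Lsl_ff (LP (LK LD1_c1 LD2_c47 LD3_c22)) = (LP (LK LD1_c1 LD2_c48 LD3_c52)) :=
  Lgr Lrot3 (Lpr_ft (K24.f208931 IH) (Lpn (LP (LK LD1_c1 LD2_c48 LD3_c52))))
theorem f208951 : Led Lsl_ft (LP (LK LD1_c1 LD2_c46 LD3_c40)) = (LP (LK LD1_c1 LD2_c46 LD3_c13)) :=
  Lgr Lrot4 (Lpe (K8.f128317 IH) (Lpr_ff (f208941 IH) (Lpe (K24.f131701 IH) (Lpn (LP (LK LD1_c1 LD2_c46 LD3_c13))))))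
theorem f208961 : Led Lsl_ff (LP (LK LD1_c1 LD2_c46 LD3_c40)) = (LP (LK LD1_c1 LD2_c46 LD3_c13)) :=
  Lgr Lrot3 (Lpr_ft (f208951 IH) (Lpn (LP (LK LD1_c1 LD2_c46 LD3_c13))))
theorem f208963 : Led Lsl_et (LP (LK LD1_c1 LD2_c46 LD3_c40)) = (LP (LK LD1_c3 LD2_c39 LD3_c28)) :=
  Lre_e IH (LK LD1_c1 LD2_c46 LD3_c40) (LK LD1_c3 LD2_c39 LD3_c28) Lrfl Lrfl
theorem f208964 : Led Lsl_ft (LP (LK LD1_c3 LD2_c39 LD3_c28)) = (LP (LK LD1_c7 LD2_c19 LD3_c9)) :=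
  Lre_f IH (LK LD1_c3 LD2_c39 LD3_c28) (LK LD1_c7 LD2_c19 LD3_c9) Lrfl Lrfl
theorem f208965 : Led Lsl_et (LP (LK LD1_c3 LD2_c38 LD3_c29)) = (LP (LK LD1_c1 LD2_c46 LD3_c13)) :=
  Lre_e IH (LK LD1_c3 LD2_c38 LD3_c29) (LK LD1_c1 LD2_c46 LD3_c13) Lrfl Lrfl
theorem f208966 : Led Lsl_ft (LP (LK LD1_c7 LD2_c17 LD3_c20)) = (LP (LK LD1_c3 LD2_c38 LD3_c29)) :=
  Lre_f IH (LK LD1_c7 LD2_c17 LD3_c20) (LK LD1_c3 LD2_c38 LD3_c29) Lrfl Lrfl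
theorem f208967 : Led Lsl_et (LP (LK LD1_c7 LD2_c19 LD3_c9)) = (LP (LK LD1_c7 LD2_c17 LD3_c20)) :=
  Lgr Lrot69 (Lpe (f208964 IH) (Lpe (f208963 IH) (Lpr_ff (f208961 IH) (Lpe (f208965 IH) (Lpe (f208966 IH) (Lpn (LP (LK LD1_c7 LD2_c17 LD3_c20))))))))
theorem f208969 : Led Lsl_bt (LP (LK LD1_c3 LD2_c39 LD3_c30)) = (LP (LK LD1_c7 LD2_c19 LD3_c9)) :=
  Lre_b IH (LK LD1_c3 LD2_c39 LD3_c30) (LK LD1_c7 LD2_c19 LD3_c9) Lrfl Lrfl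
theorem f208970 : Led Lsl_bt (LP (LK LD1_c7 LD2_c17 LD3_c20)) = (LP (LK LD1_c3 LD2_c38 LD3_c31)) :=
  Lre_b IH (LK LD1_c7 LD2_c17 LD3_c20) (LK LD1_c3 LD2_c38 LD3_c31) Lrfl Lrfl
theorem f208971 : Led Lsl_ef (LP (LK LD1_c3 LD2_c39 LD3_c30)) = (LP (LK LD1_c3 LD2_c38 LD3_c31)) :=
  Lgr Lrot29 (Lpr_bt (f208969 IH) (Lpr_et (f208967 IH) (Lpr_bt (f208970 IH) (Lpn (LP (LK LD1_c3 LD2_c38 LD3_c31))))))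
theorem f439445 : Led Lsl_af (LP (LK LD1_c3 LD2_c38 LD3_c31)) = (LP (LK LD1_c3 LD2_c39 LD3_c25)) :=
  Lgr Lrot50 (Lpe (f208971 IH) (Lpr_at (f439435 IH) (Lpe (K4.f121831 IH) (Lpn (LP (LK LD1_c3 LD2_c39 LD3_c25))))))
theorem f208985 : Led Lsl_ft (LP (LK LD1_c3 LD2_c38 LD3_c31)) = (LP (LK LD1_c1 LD2_c46 LD3_c14)) :=
  Lre_f IH (LK LD1_c3 LD2_c38 LD3_c31) (LK LD1_c1 LD2_c46 LD3_c14) Lrfl Lrfl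
theorem f92330 : Led Lsl_ft (LP (LK LD1_c1 LD2_c46 LD3_c39)) = (LP (LK LD1_c3 LD2_c39 LD3_c25)) :=
  Lre_f IH (LK LD1_c1 LD2_c46 LD3_c39) (LK LD1_c3 LD2_c39 LD3_c25) Lrfl Lrfl
theorem f439453 : Led Lsl_at (LP (LK LD1_c1 LD2_c46 LD3_c14)) = (LP (LK LD1_c1 LD2_c46 LD3_c39)) :=
  Lgr Lrot66 (Lpe (f208985 IH) (Lpr_af (f439445 IH) (Lpe (f92330 IH) (Lpn (LP (LK LD1_c1 LD2_c46 LD3_c39))))))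
theorem f439458 : Led Lsl_cf (LP (LK LD1_c1 LD2_c46 LD3_c14)) = (LP (LK LD1_c1 LD2_c44 LD3_c53)) :=
  Lgr Lrot1 (Lpr_at (f439453 IH) (Lpr_ct (K2.f92292 IH) (Lpr_at (K4.f121755 IH) (Lpn (LP (LK LD1_c1 LD2_c44 LD3_c53))))))
theorem f18962 : Led Lsl_ct (LP (LK LD1_c1 LD2_c42 LD3_c12)) = (LP (LK LD1_c3 LD2_c31 LD3_c20)) :=
  Lre_c IH (LK LD1_c1 LD2_c42 LD3_c12) (LK LD1_c3 LD2_c31 LD3_c20) Lrfl Lrfl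
theorem f464322 : Led Lsl_gt (LP (LK LD1_c1 LD2_c46 LD3_c14)) = (LP (LK LD1_c3 LD2_c31 LD3_c20)) :=
  Lgr Lrot149 (Lpr_cf (f439458 IH) (Lpe (f121765 IH) (Lpr_bf (f464317 IH) (Lpr_ct (f463903 IH) (Lpe (f18964 IH) (Lpe (K1.f18191 IH) (Lpr_bt (K24.f18190 IH) (Lpe (K24.f18954 IH) (Lpe (K24.f18957 IH) (Lpr_ct (f18962 IH) (Lpn (LP (LK LD1_c3 LD2_c31 LD3_c20)))))))))))))
def v805 : LQ := Led Lsl_gf (LP (LK LD1_c0 LD2_c51 LD3_c14))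
theorem f459478 : Led Lsl_gf (LP (LK LD1_c0 LD2_c51 LD3_c14)) = v805 :=
  Lrfl
theorem f11196 : Led Lsl_ct (LP (LK LD1_c0 LD2_c47 LD3_c38)) = (LP (LK LD1_c0 LD2_c21 LD3_c20)) :=
  Lre_c IH (LK LD1_c0 LD2_c47 LD3_c38) (LK LD1_c0 LD2_c21 LD3_c20) Lrfl Lrfl
theorem f464333 : v805 = (LP (LK LD1_c1 LD2_c42 LD3_c29)) :=
  (Llr Lrot124 (Lpe (f459478 IH) (Lpe (K5.f131703 IH) (Lpe (f439458 IH) (Lpr_gt (f464322 IH) (Lpe (f18962 IH) (Lpr_bt (K24.f18957 IH) (Lpr_gt (K24.f18954 IH) (Lpr_ct (f11196 IH) (Lpe (f446514 IH) (Lpe (K24.f446521 IH) (Lpr_bt (K24.f446522 IH) (Lpn (LP (LK LD1_c1 LD2_c42 LD3_c29))))))))))))))).symm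
theorem f131734 : Led Lsl_at (LP (LK LD1_c0 LD2_c50 LD3_c32)) = (LP (LK LD1_c0 LD2_c51 LD3_c14)) :=
  Lgr Lrot66 (Lpe (f122330 IH) (Lpr_af (K5.f131728 IH) (Lpe (K5.f131714 IH) (Lpn (LP (LK LD1_c0 LD2_c51 LD3_c14))))))
theorem f459479 : Led Lsl_gt (LP (LK LD1_c1 LD2_c47 LD3_c31)) = v805 :=
  Lgr Lrot5 (Lpr_ft (f122330 IH) (Lpr_at (f131734 IH) (Lpr_gf (f459478 IH) (Lpn v805))))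
theorem f122034 : Led Lsl_bt (LP (LK LD1_c3 LD2_c40 LD3_c61)) = (LP (LK LD1_c1 LD2_c47 LD3_c31)) :=
  Lre_b IH (LK LD1_c3 LD2_c40 LD3_c61) (LK LD1_c1 LD2_c47 LD3_c31) Lrfl Lrfl
theorem f464368 : Led Lsl_cf (LP (LK LD1_c7 LD2_c4 LD3_c15)) = (LP (LK LD1_c3 LD2_c40 LD3_c61)) :=
  Lgr Lrot163 (Lpe (K24.f98741 IH) (Lpe (K24.f455581 IH) (Lpe (K24.f18073 IH) (Lpe (K24.f18734 IH) (Lpr_ct (K24.f11324 IH) (Lpe (K24.f12714 IH) (Lpe (K24.f446521 IH) (Lpr_bt (K24.f446522 IH) (Lpq (f464333 IH) (Lpe (f459479 IH) (Lpe (f122034 IH) (Lpn (LP (LK LD1_c3 LD2_c40 LD3_c61))))))))))))))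
theorem f122035 : Led Lsl_ft (LP (LK LD1_c1 LD2_c47 LD3_c26)) = (LP (LK LD1_c3 LD2_c40 LD3_c61)) :=
  Lre_f IH (LK LD1_c1 LD2_c47 LD3_c26) (LK LD1_c3 LD2_c40 LD3_c61) Lrfl Lrfl
theorem f464376 : Led Lsl_ft (LP (LK LD1_c7 LD2_c4 LD3_c15)) = (LP (LK LD1_c3 LD2_c40 LD3_c58)) :=
  Lgr Lrot4 (Lpr_cf (f464368 IH) (Lpe (f122035 IH) (Lpe (K4.f108808 IH) (Lpn (LP (LK LD1_c3 LD2_c40 LD3_c58))))))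
theorem f464382 : Led Lsl_ff (LP (LK LD1_c7 LD2_c4 LD3_c15)) = (LP (LK LD1_c3 LD2_c40 LD3_c58)) :=
  Lgr Lrot3 (Lpr_ft (f464376 IH) (Lpn (LP (LK LD1_c3 LD2_c40 LD3_c58))))
theorem f98720 : Led Lsl_ef (LP (LK LD1_c1 LD2_c40 LD3_c28)) = (LP (LK LD1_c1 LD2_c39 LD3_c50)) :=
  Lgr Lrot88 (Lpr_et (f98711 IH) (Lpn (LP (LK LD1_c1 LD2_c39 LD3_c50))))
theorem f16714 : Led Lsl_ct (LP (LK LD1_c1 LD2_c40 LD3_c28)) = (LP (LK LD1_c3 LD2_c27 LD3_c50)) :=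
  Lre_c IH (LK LD1_c1 LD2_c40 LD3_c28) (LK LD1_c3 LD2_c27 LD3_c50) Lrfl Lrfl
theorem f98748 : Led Lsl_et (LP (LK LD1_c3 LD2_c27 LD3_c50)) = (LP (LK LD1_c3 LD2_c26 LD3_c18)) :=
  Lgr Lrot158 (Lpe (f16714 IH) (Lpr_ef (f98720 IH) (Lpe (f15717 IH) (Lpn (LP (LK LD1_c3 LD2_c26 LD3_c18))))))
theorem f98756 : Led Lsl_dt (LP (LK LD1_c3 LD2_c27 LD3_c50)) = (LP (LK LD1_c6 LD2_c57 LD3_c55)) :=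
  Lre_d IH (LK LD1_c3 LD2_c27 LD3_c50) (LK LD1_c6 LD2_c57 LD3_c55) Lrfl Lrfl
theorem f98757 : Led Lsl_gt (LP (LK LD1_c13 LD2_c3 LD3_c50)) = (LP (LK LD1_c6 LD2_c57 LD3_c55)) :=
  Lre_g IH (LK LD1_c13 LD2_c3 LD3_c50) (LK LD1_c6 LD2_c57 LD3_c55) Lrfl Lrfl
theorem f98758 : Led Lsl_dt (LP (LK LD1_c6 LD2_c52 LD3_c8)) = (LP (LK LD1_c13 LD2_c3 LD3_c50)) :=
  Lre_d IH (LK LD1_c6 LD2_c52 LD3_c8) (LK LD1_c13 LD2_c3 LD3_c50) Lrfl Lrfl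
theorem f98761 : Led Lsl_et (LP (LK LD1_c6 LD2_c52 LD3_c8)) = (LP (LK LD1_c7 LD2_c4 LD3_c15)) :=
  Lgr Lrot122 (Lpr_dt (f98758 IH) (Lpr_gt (f98757 IH) (Lpe (f98756 IH) (Lpr_et (f98748 IH) (Lpr_gt (f15900 IH) (Lpr_dt (f98734 IH) (Lpe (f98735 IH) (Lpe (f98733 IH) (Lpr_et (f98740 IH) (Lpr_gt (K24.f98741 IH) (Lpn (LP (LK LD1_c7 LD2_c4 LD3_c15)))))))))))))
theorem f98769 : Led Lsl_ef (LP (LK LD1_c6 LD2_c52 LD3_c8)) = (LP (LK LD1_c7 LD2_c4 LD3_c15)) :=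
  Lgr Lrot88 (Lpr_et (f98761 IH) (Lpn (LP (LK LD1_c7 LD2_c4 LD3_c15))))
theorem f121960 : Led Lsl_et (LP (LK LD1_c1 LD2_c47 LD3_c25)) = (LP (LK LD1_c3 LD2_c40 LD3_c58)) :=
  Lre_e IH (LK LD1_c1 LD2_c47 LD3_c25) (LK LD1_c3 LD2_c40 LD3_c58) Lrfl Lrfl
theorem f121935 : Led Lsl_et (LP (LK LD1_c3 LD2_c25 LD3_c36)) = (LP (LK LD1_c1 LD2_c39 LD3_c26)) :=
  Lre_e IH (LK LD1_c3 LD2_c25 LD3_c36) (LK LD1_c1 LD2_c39 LD3_c26) Lrfl Lrfl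
theorem f464386 : Led Lsl_ft (LP (LK LD1_c6 LD2_c52 LD3_c8)) = (LP (LK LD1_c3 LD2_c25 LD3_c36)) :=
  Lgr Lrot86 (Lpr_ef (f98769 IH) (Lpr_ff (f464382 IH) (Lpe (f121960 IH) (Lpe (K4.f121952 IH) (Lpe (f121935 IH) (Lpn (LP (LK LD1_c3 LD2_c25 LD3_c36))))))))
theorem f458441 : Led Lsl_ct (LP (LK LD1_c13 LD2_c3 LD3_c50)) = (LP (LK LD1_c22 LD2_c14 LD3_c0)) :=
  Lre_c IH (LK LD1_c13 LD2_c3 LD3_c50) (LK LD1_c22 LD2_c14 LD3_c0) Lrfl Lrfl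
theorem f121906 : Led Lsl_et (LP (LK LD1_c1 LD2_c39 LD3_c26)) = (LP (LK LD1_c3 LD2_c25 LD3_c36)) :=
  Lre_e IH (LK LD1_c1 LD2_c39 LD3_c26) (LK LD1_c3 LD2_c25 LD3_c36) Lrfl Lrfl
theorem f121907 : Led Lsl_at (LP (LK LD1_c3 LD2_c25 LD3_c36)) = (LP (LK LD1_c6 LD2_c51 LD3_c40)) :=
  Lgr Lrot80 (Lpe (f121906 IH) (Lpr_af (K4.f121899 IH) (Lpe (K3.f91136 IH) (Lpn (LP (LK LD1_c6 LD2_c51 LD3_c40))))))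
theorem f106119 : Led Lsl_df (LP (LK LD1_c3 LD2_c28 LD3_c24)) = (LP (LK LD1_c1 LD2_c49 LD3_c27)) :=
  Lgr Lrot12 (Lpr_bt (K3.f17678 IH) (Lpr_dt (K4.f106117 IH) (Lpe (K4.f5735 IH) (Lpn (LP (LK LD1_c1 LD2_c49 LD3_c27))))))
theorem f95191 : Led Lsl_ct (LP (LK LD1_c13 LD2_c7 LD3_c59)) = (LP (LK LD1_c6 LD2_c54 LD3_c44)) :=
  Lre_c IH (LK LD1_c13 LD2_c7 LD3_c59) (LK LD1_c6 LD2_c54 LD3_c44) Lrfl Lrfl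
theorem f464396 : Led Lsl_dt (LP (LK LD1_c22 LD2_c14 LD3_c0)) = (LP (LK LD1_c13 LD2_c7 LD3_c59)) :=
  Lgr Lrot32 (Lpe (f458441 IH) (Lpe (f98758 IH) (Lpr_ft (f464386 IH) (Lpr_at (f121907 IH) (Lpe (K3.f91226 IH) (Lpr_df (f106119 IH) (Lpe (K24.f95136 IH) (Lpe (f95024 IH) (Lpe (f95191 IH) (Lpn (LP (LK LD1_c13 LD2_c7 LD3_c59))))))))))))
theorem f91165 : Led Lsl_dt (LP (LK LD1_c6 LD2_c51 LD3_c40)) = (LP (LK LD1_c13 LD2_c2 LD3_c61)) :=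
  Lre_d IH (LK LD1_c6 LD2_c51 LD3_c40) (LK LD1_c13 LD2_c2 LD3_c61) Lrfl Lrfl
theorem f91230 : Led Lsl_ct (LP (LK LD1_c13 LD2_c2 LD3_c61)) = (LP (LK LD1_c22 LD2_c12 LD3_c43)) :=
  Lre_c IH (LK LD1_c13 LD2_c2 LD3_c61) (LK LD1_c22 LD2_c12 LD3_c43) Lrfl Lrfl
theorem f121912 : Led Lsl_dt (LP (LK LD1_c6 LD2_c53 LD3_c10)) = (LP (LK LD1_c3 LD2_c25 LD3_c36)) :=
  Lre_d IH (LK LD1_c6 LD2_c53 LD3_c10) (LK LD1_c3 LD2_c25 LD3_c36) Lrfl Lrfl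
theorem f121913 : Led Lsl_af (LP (LK LD1_c6 LD2_c53 LD3_c10)) = (LP (LK LD1_c13 LD2_c2 LD3_c61)) :=
  Lgr Lrot117 (Lpr_dt (f121912 IH) (Lpr_at (f121907 IH) (Lpr_dt (f91165 IH) (Lpn (LP (LK LD1_c13 LD2_c2 LD3_c61))))))
theorem f121918 : Led Lsl_ct (LP (LK LD1_c6 LD2_c53 LD3_c10)) = (LP (LK LD1_c13 LD2_c5 LD3_c20)) :=
  Lre_c IH (LK LD1_c6 LD2_c53 LD3_c10) (LK LD1_c13 LD2_c5 LD3_c20) Lrfl Lrfl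
theorem f91231 : Led Lsl_ct (LP (LK LD1_c22 LD2_c12 LD3_c43)) = (LP (LK LD1_c13 LD2_c2 LD3_c61)) :=
  Lre_c IH (LK LD1_c22 LD2_c12 LD3_c43) (LK LD1_c13 LD2_c2 LD3_c61) Lrfl Lrfl
theorem f121919 : Led Lsl_at (LP (LK LD1_c13 LD2_c5 LD3_c20)) = (LP (LK LD1_c22 LD2_c12 LD3_c43)) :=
  Lgr Lrot107 (Lpe (f121918 IH) (Lpr_af (f121913 IH) (Lpe (f91231 IH) (Lpn (LP (LK LD1_c22 LD2_c12 LD3_c43))))))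
theorem f464401 : Led Lsl_ft (LP (LK LD1_c22 LD2_c14 LD3_c0)) = (LP (LK LD1_c13 LD2_c5 LD3_c20)) :=
  Lgr Lrot142 (Lpr_dt (f464396 IH) (Lpr_ct (f95191 IH) (Lpr_dt (f95024 IH) (Lpr_ct (K24.f95136 IH) (Lpe (f106119 IH) (Lpr_ct (K3.f91226 IH) (Lpr_dt (f91165 IH) (Lpr_ct (f91230 IH) (Lpe (f121919 IH) (Lpn (LP (LK LD1_c13 LD2_c5 LD3_c20))))))))))))
theorem f464404 : Led Lsl_ff (LP (LK LD1_c22 LD2_c14 LD3_c0)) = (LP (LK LD1_c13 LD2_c5 LD3_c20)) :=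
  Lgr Lrot3 (Lpr_ft (f464401 IH) (Lpn (LP (LK LD1_c13 LD2_c5 LD3_c20))))
theorem f464406 : Led Lsl_ct (LP (LK LD1_c22 LD2_c14 LD3_c0)) = (LP (LK LD1_c13 LD2_c3 LD3_c50)) :=
  Lre_c IH (LK LD1_c22 LD2_c14 LD3_c0) (LK LD1_c13 LD2_c3 LD3_c50) Lrfl Lrfl
theorem f464407 : Led Lsl_ft (LP (LK LD1_c13 LD2_c3 LD3_c50)) = (LP (LK LD1_c6 LD2_c53 LD3_c10)) :=
  Lgr Lrot4 (Lpe (f464406 IH) (Lpr_ff (f464404 IH) (Lpe (f121918 IH) (Lpn (LP (LK LD1_c6 LD2_c53 LD3_c10))))))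
theorem f464411 : Led Lsl_bt (LP (LK LD1_c22 LD2_c13 LD3_c61)) = (LP (LK LD1_c13 LD2_c3 LD3_c50)) :=
  Lre_b IH (LK LD1_c22 LD2_c13 LD3_c61) (LK LD1_c13 LD2_c3 LD3_c50) Lrfl Lrfl
theorem f121917 : Led Lsl_bt (LP (LK LD1_c6 LD2_c53 LD3_c10)) = (LP (LK LD1_c13 LD2_c5 LD3_c17)) :=
  Lre_b IH (LK LD1_c6 LD2_c53 LD3_c10) (LK LD1_c13 LD2_c5 LD3_c17) Lrfl Lrfl
theorem f464412 : Led Lsl_ff (LP (LK LD1_c22 LD2_c13 LD3_c61)) = (LP (LK LD1_c13 LD2_c5 LD3_c17)) :=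
  Lgr Lrot25 (Lpr_bt (f464411 IH) (Lpr_ft (f464407 IH) (Lpr_bt (f121917 IH) (Lpn (LP (LK LD1_c13 LD2_c5 LD3_c17))))))
theorem f464480 : Led Lsl_ft (LP (LK LD1_c22 LD2_c13 LD3_c61)) = (LP (LK LD1_c13 LD2_c5 LD3_c17)) :=
  Lgr Lrot48 (Lpr_ff (f464412 IH) (Lpn (LP (LK LD1_c13 LD2_c5 LD3_c17))))
theorem f419626 : Led Lsl_ft (LP (LK LD1_c14 LD2_c15 LD3_c61)) = (LP (LK LD1_c23 LD2_c52 LD3_c45)) :=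
  Lre_f IH (LK LD1_c14 LD2_c15 LD3_c61) (LK LD1_c23 LD2_c52 LD3_c45) Lrfl Lrfl
theorem f464486 : Led Lsl_af (LP (LK LD1_c22 LD2_c13 LD3_c61)) = (LP (LK LD1_c23 LD2_c52 LD3_c45)) :=
  Lgr Lrot45 (Lpr_ft (f464480 IH) (Lpe (f419614 IH) (Lpr_ft (f419626 IH) (Lpn (LP (LK LD1_c23 LD2_c52 LD3_c45))))))
theorem f98776 : Led Lsl_dt (LP (LK LD1_c22 LD2_c13 LD3_c61)) = (LP (LK LD1_c13 LD2_c3 LD3_c49)) :=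
  Lre_d IH (LK LD1_c22 LD2_c13 LD3_c61) (LK LD1_c13 LD2_c3 LD3_c49) Lrfl Lrfl
theorem f419638 : Led Lsl_dt (LP (LK LD1_c14 LD2_c16 LD3_c0)) = (LP (LK LD1_c23 LD2_c52 LD3_c45)) :=
  Lre_d IH (LK LD1_c14 LD2_c16 LD3_c0) (LK LD1_c23 LD2_c52 LD3_c45) Lrfl Lrfl
theorem f464493 : Led Lsl_at (LP (LK LD1_c13 LD2_c3 LD3_c49)) = (LP (LK LD1_c14 LD2_c16 LD3_c0)) :=
  Lgr Lrot51 (Lpe (f98776 IH) (Lpr_af (f464486 IH) (Lpe (f419638 IH) (Lpn (LP (LK LD1_c14 LD2_c16 LD3_c0))))))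
theorem f98763 : Led Lsl_bt (LP (LK LD1_c13 LD2_c3 LD3_c49)) = (LP (LK LD1_c6 LD2_c52 LD3_c8)) :=
  Lre_b IH (LK LD1_c13 LD2_c3 LD3_c49) (LK LD1_c6 LD2_c52 LD3_c8) Lrfl Lrfl
theorem f98764 : Led Lsl_bt (LP (LK LD1_c7 LD2_c4 LD3_c15)) = (LP (LK LD1_c13 LD2_c24 LD3_c16)) :=
  Lre_b IH (LK LD1_c7 LD2_c4 LD3_c15) (LK LD1_c13 LD2_c24 LD3_c16) Lrfl Lrfl
theorem f98765 : Led Lsl_ef (LP (LK LD1_c13 LD2_c3 LD3_c49)) = (LP (LK LD1_c13 LD2_c24 LD3_c16)) :=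
  Lgr Lrot29 (Lpr_bt (f98763 IH) (Lpr_et (f98761 IH) (Lpr_bt (f98764 IH) (Lpn (LP (LK LD1_c13 LD2_c24 LD3_c16))))))
theorem f463892 : Led Lsl_gt (LP (LK LD1_c13 LD2_c50 LD3_c25)) = (LP (LK LD1_c7 LD2_c18 LD3_c59)) :=
  Lre_g IH (LK LD1_c13 LD2_c50 LD3_c25) (LK LD1_c7 LD2_c18 LD3_c59) Lrfl Lrfl
theorem f18787 : Led Lsl_gt (LP (LK LD1_c0 LD2_c47 LD3_c15)) = (LP (LK LD1_c1 LD2_c41 LD3_c18)) :=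
  Lre_g IH (LK LD1_c0 LD2_c47 LD3_c15) (LK LD1_c1 LD2_c41 LD3_c18) Lrfl Lrfl
theorem f463874 : Led Lsl_gt (LP (LK LD1_c7 LD2_c0 LD3_c8)) = (LP (LK LD1_c13 LD2_c17 LD3_c9)) :=
  Lre_g IH (LK LD1_c7 LD2_c0 LD3_c8) (LK LD1_c13 LD2_c17 LD3_c9) Lrfl Lrfl
theorem f464067 : Led Lsl_cf (LP (LK LD1_c13 LD2_c50 LD3_c25)) = (LP (LK LD1_c13 LD2_c17 LD3_c9)) :=
  Lgr Lrot125 (Lpr_gt (f463892 IH) (Lpr_cf (f464061 IH) (Lpr_bt (f18765 IH) (Lpr_gt (f18755 IH) (Lpe (K3.f18741 IH) (Lpr_ct (K3.f18744 IH) (Lpr_gt (f18787 IH) (Lpe (f63020 IH) (Lpr_bt (f463872 IH) (Lpr_gt (f463874 IH) (Lpn (LP (LK LD1_c13 LD2_c17 LD3_c9)))))))))))))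
theorem f94555 : Led Lsl_ft (LP (LK LD1_c13 LD2_c50 LD3_c25)) = (LP (LK LD1_c7 LD2_c18 LD3_c57)) :=
  Lre_f IH (LK LD1_c13 LD2_c50 LD3_c25) (LK LD1_c7 LD2_c18 LD3_c57) Lrfl Lrfl
theorem f94547 : Led Lsl_at (LP (LK LD1_c3 LD2_c39 LD3_c23)) = (LP (LK LD1_c7 LD2_c18 LD3_c57)) :=
  Lre_a IH (LK LD1_c3 LD2_c39 LD3_c23) (LK LD1_c7 LD2_c18 LD3_c57) Lrfl Lrfl
theorem f121871 : Led Lsl_ct (LP (LK LD1_c7 LD2_c18 LD3_c57)) = (LP (LK LD1_c7 LD2_c0 LD3_c50)) :=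
  Lgr Lrot111 (Lpe (f94547 IH) (Lpr_cf (K2.f94543 IH) (Lpr_af (K4.f121866 IH) (Lpn (LP (LK LD1_c7 LD2_c0 LD3_c50))))))
theorem f464073 : Led Lsl_ft (LP (LK LD1_c7 LD2_c0 LD3_c50)) = (LP (LK LD1_c13 LD2_c17 LD3_c9)) :=
  Lgr Lrot4 (Lpe (f121871 IH) (Lpe (f94555 IH) (Lpr_cf (f464067 IH) (Lpn (LP (LK LD1_c13 LD2_c17 LD3_c9))))))
theorem f464080 : Led Lsl_ff (LP (LK LD1_c7 LD2_c0 LD3_c50)) = (LP (LK LD1_c13 LD2_c17 LD3_c9)) :=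
  Lgr Lrot3 (Lpr_ft (f464073 IH) (Lpn (LP (LK LD1_c13 LD2_c17 LD3_c9))))
theorem f121883 : Led Lsl_et (LP (LK LD1_c7 LD2_c0 LD3_c50)) = (LP (LK LD1_c3 LD2_c29 LD3_c37)) :=
  Lre_e IH (LK LD1_c7 LD2_c0 LD3_c50) (LK LD1_c3 LD2_c29 LD3_c37) Lrfl Lrfl
theorem f419404 : Led Lsl_et (LP (LK LD1_c1 LD2_c50 LD3_c24)) = (LP (LK LD1_c3 LD2_c46 LD3_c34)) :=
  Lre_e IH (LK LD1_c1 LD2_c50 LD3_c24) (LK LD1_c3 LD2_c46 LD3_c34) Lrfl Lrfl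
theorem f419455 : Led Lsl_ft (LP (LK LD1_c3 LD2_c46 LD3_c34)) = (LP (LK LD1_c7 LD2_c34 LD3_c1)) :=
  Lre_f IH (LK LD1_c3 LD2_c46 LD3_c34) (LK LD1_c7 LD2_c34 LD3_c1) Lrfl Lrfl
theorem f464084 : Led Lsl_et (LP (LK LD1_c7 LD2_c34 LD3_c1)) = (LP (LK LD1_c13 LD2_c17 LD3_c9)) :=
  Lgr Lrot69 (Lpe (f419455 IH) (Lpe (f419404 IH) (Lpr_ff (f419447 IH) (Lpe (f121883 IH) (Lpr_ff (f464080 IH) (Lpn (LP (LK LD1_c13 LD2_c17 LD3_c9))))))))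
theorem f419654 : Led Lsl_bt (LP (LK LD1_c14 LD2_c16 LD3_c0)) = (LP (LK LD1_c7 LD2_c34 LD3_c1)) :=
  Lre_b IH (LK LD1_c14 LD2_c16 LD3_c0) (LK LD1_c7 LD2_c34 LD3_c1) Lrfl Lrfl
theorem f464069 : Led Lsl_bt (LP (LK LD1_c13 LD2_c17 LD3_c9)) = (LP (LK LD1_c22 LD2_c32 LD3_c51)) :=
  Lre_b IH (LK LD1_c13 LD2_c17 LD3_c9) (LK LD1_c22 LD2_c32 LD3_c51) Lrfl Lrfl
theorem f464086 : Led Lsl_ef (LP (LK LD1_c14 LD2_c16 LD3_c0)) = (LP (LK LD1_c22 LD2_c32 LD3_c51)) :=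
  Lgr Lrot29 (Lpr_bt (f419654 IH) (Lpr_et (f464084 IH) (Lpr_bt (f464069 IH) (Lpn (LP (LK LD1_c22 LD2_c32 LD3_c51))))))
theorem f464088 : Led Lsl_et (LP (LK LD1_c14 LD2_c16 LD3_c0)) = (LP (LK LD1_c22 LD2_c32 LD3_c51)) :=
  Lgr Lrot87 (Lpr_ef (f464086 IH) (Lpn (LP (LK LD1_c22 LD2_c32 LD3_c51))))
theorem f464499 : Led Lsl_af (LP (LK LD1_c13 LD2_c24 LD3_c16)) = (LP (LK LD1_c22 LD2_c32 LD3_c51)) :=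
  Lgr Lrot50 (Lpe (f98765 IH) (Lpr_at (f464493 IH) (Lpr_et (f464088 IH) (Lpn (LP (LK LD1_c22 LD2_c32 LD3_c51))))))
theorem f464504 : Led Lsl_at (LP (LK LD1_c13 LD2_c24 LD3_c16)) = (LP (LK LD1_c22 LD2_c32 LD3_c51)) :=
  Lgr Lrot100 (Lpr_af (f464499 IH) (Lpn (LP (LK LD1_c22 LD2_c32 LD3_c51))))
theorem f98772 : Led Lsl_bt (LP (LK LD1_c13 LD2_c24 LD3_c16)) = (LP (LK LD1_c7 LD2_c4 LD3_c15)) :=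
  Lre_b IH (LK LD1_c13 LD2_c24 LD3_c16) (LK LD1_c7 LD2_c4 LD3_c15) Lrfl Lrfl
theorem f464378 : Led Lsl_ff (LP (LK LD1_c13 LD2_c24 LD3_c16)) = (LP (LK LD1_c7 LD2_c22 LD3_c11)) :=
  Lgr Lrot25 (Lpr_bt (f98772 IH) (Lpr_ft (f464376 IH) (Lpr_bt (K4.f122040 IH) (Lpn (LP (LK LD1_c7 LD2_c22 LD3_c11))))))
theorem f464509 : Led Lsl_gt (LP (LK LD1_c7 LD2_c22 LD3_c11)) = (LP (LK LD1_c13 LD2_c56 LD3_c13)) :=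
  Lre_g IH (LK LD1_c7 LD2_c22 LD3_c11) (LK LD1_c13 LD2_c56 LD3_c13) Lrfl Lrfl
theorem f464510 : Led Lsl_gt (LP (LK LD1_c13 LD2_c56 LD3_c13)) = (LP (LK LD1_c22 LD2_c32 LD3_c51)) :=
  Lgr Lrot46 (Lpe (f464509 IH) (Lpe (f464378 IH) (Lpr_at (f464504 IH) (Lpn (LP (LK LD1_c22 LD2_c32 LD3_c51))))))
theorem f18699 : Led Lsl_ct (LP (LK LD1_c13 LD2_c16 LD3_c40)) = (LP (LK LD1_c6 LD2_c59 LD3_c51)) :=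
  Lre_c IH (LK LD1_c13 LD2_c16 LD3_c40) (LK LD1_c6 LD2_c59 LD3_c51) Lrfl Lrfl
theorem f464514 : Led Lsl_bf (LP (LK LD1_c13 LD2_c56 LD3_c13)) = (LP (LK LD1_c13 LD2_c16 LD3_c40)) :=
  Lgr Lrot156 (Lpr_gt (f464510 IH) (Lpe (f464069 IH) (Lpe (f464067 IH) (Lpr_gt (f463892 IH) (Lpr_cf (f464061 IH) (Lpr_bt (f18765 IH) (Lpr_gt (f18755 IH) (Lpr_ct (K2.f18711 IH) (Lpr_gt (K8.f18753 IH) (Lpe (f18699 IH) (Lpn (LP (LK LD1_c13 LD2_c16 LD3_c40)))))))))))))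
theorem f108799 : Led Lsl_gt (LP (LK LD1_c3 LD2_c40 LD3_c60)) = (LP (LK LD1_c1 LD2_c47 LD3_c26)) :=
  Lre_g IH (LK LD1_c3 LD2_c40 LD3_c60) (LK LD1_c1 LD2_c47 LD3_c26) Lrfl Lrfl
theorem f18701 : Led Lsl_gt (LP (LK LD1_c7 LD2_c1 LD3_c56)) = (LP (LK LD1_c3 LD2_c30 LD3_c9)) :=
  Lre_g IH (LK LD1_c7 LD2_c1 LD3_c56) (LK LD1_c3 LD2_c30 LD3_c9) Lrfl Lrfl
theorem f464524 : Led Lsl_cf (LP (LK LD1_c3 LD2_c40 LD3_c60)) = (LP (LK LD1_c3 LD2_c30 LD3_c9)) :=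
  Lgr Lrot125 (Lpr_gt (f108799 IH) (Lpe (K4.f108808 IH) (Lpr_bt (K4.f122040 IH) (Lpr_gt (f464509 IH) (Lpr_bf (f464514 IH) (Lpr_ct (f18699 IH) (Lpr_gt (K8.f18682 IH) (Lpe (K2.f18677 IH) (Lpr_bt (K24.f18674 IH) (Lpr_gt (f18701 IH) (Lpn (LP (LK LD1_c3 LD2_c30 LD3_c9)))))))))))))
theorem f464526 : Led Lsl_ct (LP (LK LD1_c3 LD2_c40 LD3_c60)) = (LP (LK LD1_c3 LD2_c30 LD3_c9)) :=
  Lgr Lrot59 (Lpr_cf (f464524 IH) (Lpn (LP (LK LD1_c3 LD2_c30 LD3_c9))))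
theorem f18952 : Led Lsl_bt (LP (LK LD1_c3 LD2_c31 LD3_c13)) = (LP (LK LD1_c1 LD2_c42 LD3_c9)) :=
  Lre_b IH (LK LD1_c3 LD2_c31 LD3_c13) (LK LD1_c1 LD2_c42 LD3_c9) Lrfl Lrfl
theorem f458443 : Led Lsl_ct (LP (LK LD1_c3 LD2_c31 LD3_c13)) = (LP (LK LD1_c6 LD2_c58 LD3_c44)) :=
  Lgr Lrot64 (Lpr_bt (f18952 IH) (Lpe (K24.f18073 IH) (Lpe (K24.f18734 IH) (Lpr_ct (K24.f11324 IH) (Lpe (K24.f12714 IH) (Lpe (K24.f446521 IH) (Lpe (f455680 IH) (Lpqs (K24.f457657 IH) (Lpe (f18563 IH) (Lpr_ct (K2.f18543 IH) (Lpe (K3.f19139 IH) (Lpn (LP (LK LD1_c6 LD2_c58 LD3_c44))))))))))))))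
theorem f18869 : Led Lsl_gt (LP (LK LD1_c3 LD2_c28 LD3_c18)) = (LP (LK LD1_c1 LD2_c40 LD3_c46)) :=
  Lre_g IH (LK LD1_c3 LD2_c28 LD3_c18) (LK LD1_c1 LD2_c40 LD3_c46) Lrfl Lrfl
theorem f464534 : Led Lsl_bt (LP (LK LD1_c3 LD2_c40 LD3_c60)) = (LP (LK LD1_c3 LD2_c28 LD3_c18)) :=
  Lgr Lrot130 (Lpr_ct (f464526 IH) (Lpe (f18701 IH) (Lpe (K24.f18688 IH) (Lpe (K24.f18690 IH) (Lpe (f18951 IH) (Lpe (f18952 IH) (Lpr_ct (f458443 IH) (Lpe (K3.f18868 IH) (Lpe (K24.f18858 IH) (Lpe (f18869 IH) (Lpn (LP (LK LD1_c3 LD2_c28 LD3_c18)))))))))))))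
theorem f464536 : Led Lsl_bf (LP (LK LD1_c3 LD2_c40 LD3_c60)) = (LP (LK LD1_c3 LD2_c28 LD3_c18)) :=
  Lgr Lrot24 (Lpr_bt (f464534 IH) (Lpn (LP (LK LD1_c3 LD2_c28 LD3_c18))))
theorem f122021 : Led Lsl_bt (LP (LK LD1_c0 LD2_c50 LD3_c32)) = (LP (LK LD1_c1 LD2_c47 LD3_c26)) :=
  Lre_b IH (LK LD1_c0 LD2_c50 LD3_c32) (LK LD1_c1 LD2_c47 LD3_c26) Lrfl Lrfl
theorem f122510 : Led Lsl_ct (LP (LK LD1_c0 LD2_c50 LD3_c32)) = (LP (LK LD1_c1 LD2_c47 LD3_c29)) :=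
  Lre_c IH (LK LD1_c0 LD2_c50 LD3_c32) (LK LD1_c1 LD2_c47 LD3_c29) Lrfl Lrfl
theorem f122535 : Led Lsl_gt (LP (LK LD1_c1 LD2_c47 LD3_c29)) = (LP (LK LD1_c3 LD2_c41 LD3_c5)) :=
  Lre_g IH (LK LD1_c1 LD2_c47 LD3_c29) (LK LD1_c3 LD2_c41 LD3_c5) Lrfl Lrfl
theorem f18567 : Led Lsl_ct (LP (LK LD1_c3 LD2_c28 LD3_c18)) = (LP (LK LD1_c6 LD2_c58 LD3_c49)) :=
  Lre_c IH (LK LD1_c3 LD2_c28 LD3_c18) (LK LD1_c6 LD2_c58 LD3_c49) Lrfl Lrfl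
theorem f455652 : Led Lsl_ct (LP (LK LD1_c1 LD2_c42 LD3_c15)) = (LP (LK LD1_c3 LD2_c31 LD3_c22)) :=
  Lre_c IH (LK LD1_c1 LD2_c42 LD3_c15) (LK LD1_c3 LD2_c31 LD3_c22) Lrfl Lrfl
theorem f463265 : Led Lsl_ff (LP (LK LD1_c1 LD2_c47 LD3_c24)) = (LP (LK LD1_c3 LD2_c31 LD3_c22)) :=
  Lgr Lrot23 (Lpr_ct (K4.f122347 IH) (Lpr_ft (K24.f457148 IH) (Lpqs (f463258 IH) (Lpr_ct (f455652 IH) (Lpn (LP (LK LD1_c3 LD2_c31 LD3_c22)))))))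
theorem f122354 : Led Lsl_at (LP (LK LD1_c1 LD2_c47 LD3_c24)) = (LP (LK LD1_c1 LD2_c48 LD3_c61)) :=
  Lgr Lrot100 (Lpr_af (K4.f122349 IH) (Lpn (LP (LK LD1_c1 LD2_c48 LD3_c61))))
theorem f159497 : Led Lsl_gt (LP (LK LD1_c3 LD2_c43 LD3_c52)) = (LP (LK LD1_c1 LD2_c48 LD3_c61)) :=
  Lre_g IH (LK LD1_c3 LD2_c43 LD3_c52) (LK LD1_c1 LD2_c48 LD3_c61) Lrfl Lrfl
theorem f463276 : Led Lsl_gf (LP (LK LD1_c3 LD2_c43 LD3_c52)) = (LP (LK LD1_c3 LD2_c31 LD3_c22)) :=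
  Lgr Lrot47 (Lpr_gt (f159497 IH) (Lpe (f122354 IH) (Lpr_ff (f463265 IH) (Lpn (LP (LK LD1_c3 LD2_c31 LD3_c22))))))
def v634 : LQ := Led Lsl_gf (LP (LK LD1_c0 LD2_c47 LD3_c40))
theorem f455651 : Led Lsl_gf (LP (LK LD1_c0 LD2_c47 LD3_c40)) = v634 :=
  Lrfl
theorem f455660 : Led Lsl_gt (LP (LK LD1_c0 LD2_c47 LD3_c44)) = v634 :=
  Lgr Lrot5 (Lpr_ft (f455657 IH) (Lpe (f455654 IH) (Lpr_gf (f455651 IH) (Lpn v634))))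
theorem f457662 : (LP (LK LD1_c0 LD2_c21 LD3_c21)) = v634 :=
  Lefun (Lecon (Lfl_gf (f450733 IH)) (f457658 IH).symm) (f455660 IH)
theorem f15834 : Led Lsl_bt (LP (LK LD1_c3 LD2_c24 LD3_c53)) = (LP (LK LD1_c1 LD2_c38 LD3_c51)) :=
  Lre_b IH (LK LD1_c3 LD2_c24 LD3_c53) (LK LD1_c1 LD2_c38 LD3_c51) Lrfl Lrfl
theorem f463391 : Led Lsl_cf (LP (LK LD1_c3 LD2_c43 LD3_c52)) = (LP (LK LD1_c3 LD2_c24 LD3_c53)) :=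
  Lgr Lrot163 (Lpr_gf (f463276 IH) (Lpe (f455652 IH) (Lpe (K24.f455618 IH) (Lpe (f450713 IH) (Lpr_ct (K24.f446537 IH) (Lpr_gf (f455651 IH) (Lpq (f457662 IH) (Lpr_cf (K2.f18565 IH) (Lpr_bt (K2.f15775 IH) (Lpe (K2.f17017 IH) (Lpe (f15834 IH) (Lpn (LP (LK LD1_c3 LD2_c24 LD3_c53))))))))))))))
theorem f463394 : Led Lsl_bt (LP (LK LD1_c3 LD2_c43 LD3_c52)) = (LP (LK LD1_c7 LD2_c28 LD3_c21)) :=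
  Lre_b IH (LK LD1_c3 LD2_c43 LD3_c52) (LK LD1_c7 LD2_c28 LD3_c21) Lrfl Lrfl
theorem f463395 : Led Lsl_bt (LP (LK LD1_c1 LD2_c38 LD3_c51)) = (LP (LK LD1_c3 LD2_c24 LD3_c53)) :=
  Lre_b IH (LK LD1_c1 LD2_c38 LD3_c51) (LK LD1_c3 LD2_c24 LD3_c53) Lrfl Lrfl
theorem f18999 : Led Lsl_ct (LP (LK LD1_c3 LD2_c24 LD3_c54)) = (LP (LK LD1_c1 LD2_c38 LD3_c51)) :=
  Lre_c IH (LK LD1_c3 LD2_c24 LD3_c54) (LK LD1_c1 LD2_c38 LD3_c51) Lrfl Lrfl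
theorem f463396 : Led Lsl_bt (LP (LK LD1_c6 LD2_c52 LD3_c16)) = (LP (LK LD1_c3 LD2_c24 LD3_c54)) :=
  Lre_b IH (LK LD1_c6 LD2_c52 LD3_c16) (LK LD1_c3 LD2_c24 LD3_c54) Lrfl Lrfl
theorem f463397 : Led Lsl_ct (LP (LK LD1_c7 LD2_c28 LD3_c21)) = (LP (LK LD1_c6 LD2_c52 LD3_c16)) :=
  Lgr Lrot83 (Lpe (f463394 IH) (Lpr_cf (f463391 IH) (Lpe (f463395 IH) (Lpe (f18999 IH) (Lpe (f463396 IH) (Lpn (LP (LK LD1_c6 LD2_c52 LD3_c16))))))))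
theorem f420085 : Led Lsl_bt (LP (LK LD1_c7 LD2_c28 LD3_c21)) = (LP (LK LD1_c3 LD2_c43 LD3_c52)) :=
  Lre_b IH (LK LD1_c7 LD2_c28 LD3_c21) (LK LD1_c3 LD2_c43 LD3_c52) Lrfl Lrfl
theorem f122351 : Led Lsl_ct (LP (LK LD1_c1 LD2_c48 LD3_c61)) = (LP (LK LD1_c0 LD2_c51 LD3_c17)) :=
  Lre_c IH (LK LD1_c1 LD2_c48 LD3_c61) (LK LD1_c0 LD2_c51 LD3_c17) Lrfl Lrfl
theorem f446541 : Led Lsl_ct (LP (LK LD1_c1 LD2_c42 LD3_c17)) = (LP (LK LD1_c0 LD2_c47 LD3_c39)) :=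
  Lre_c IH (LK LD1_c1 LD2_c42 LD3_c17) (LK LD1_c0 LD2_c47 LD3_c39) Lrfl Lrfl
theorem f455629 : Led Lsl_bt (LP (LK LD1_c1 LD2_c42 LD3_c17)) = (LP (LK LD1_c3 LD2_c31 LD3_c27)) :=
  Lre_b IH (LK LD1_c1 LD2_c42 LD3_c17) (LK LD1_c3 LD2_c31 LD3_c27) Lrfl Lrfl
theorem f463446 : Led Lsl_gt (LP (LK LD1_c7 LD2_c32 LD3_c18)) = (LP (LK LD1_c6 LD2_c52 LD3_c16)) :=
  Lgr Lrot65 (Lpr_cf (K24.f123772 IH) (Lpr_bt (K24.f123804 IH) (Lpr_gf (K24.f460752 IH) (Lpe (f455629 IH) (Lpr_ct (f446541 IH) (Lpqs (f463254 IH) (Lpe (K24.f459480 IH) (Lpe (f122351 IH) (Lpe (f159497 IH) (Lpe (f420085 IH) (Lpr_ct (f463397 IH) (Lpn (LP (LK LD1_c6 LD2_c52 LD3_c16))))))))))))))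
theorem f123794 : Led Lsl_ft (LP (LK LD1_c7 LD2_c32 LD3_c18)) = (LP (LK LD1_c3 LD2_c45 LD3_c48)) :=
  Lre_f IH (LK LD1_c7 LD2_c32 LD3_c18) (LK LD1_c3 LD2_c45 LD3_c48) Lrfl Lrfl
theorem f463453 : Led Lsl_gf (LP (LK LD1_c7 LD2_c32 LD3_c12)) = (LP (LK LD1_c6 LD2_c52 LD3_c16)) :=
  Lgr Lrot76 (Lpe (f111816 IH) (Lpe (f123794 IH) (Lpr_gt (f463446 IH) (Lpn (LP (LK LD1_c6 LD2_c52 LD3_c16))))))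
theorem f123722 : Led Lsl_gt (LP (LK LD1_c7 LD2_c28 LD3_c34)) = (LP (LK LD1_c14 LD2_c6 LD3_c43)) :=
  Lre_g IH (LK LD1_c7 LD2_c28 LD3_c34) (LK LD1_c14 LD2_c6 LD3_c43) Lrfl Lrfl
theorem f19000 : Led Lsl_bt (LP (LK LD1_c3 LD2_c24 LD3_c54)) = (LP (LK LD1_c6 LD2_c52 LD3_c16)) :=
  Lre_b IH (LK LD1_c3 LD2_c24 LD3_c54) (LK LD1_c6 LD2_c52 LD3_c16) Lrfl Lrfl
theorem f18997 : Led Lsl_bt (LP (LK LD1_c22 LD2_c29 LD3_c46)) = (LP (LK LD1_c13 LD2_c14 LD3_c52)) :=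
  Lre_b IH (LK LD1_c22 LD2_c29 LD3_c46) (LK LD1_c13 LD2_c14 LD3_c52) Lrfl Lrfl
theorem f463460 : Led Lsl_cf (LP (LK LD1_c14 LD2_c6 LD3_c43)) = (LP (LK LD1_c22 LD2_c29 LD3_c46)) :=
  Lgr Lrot163 (Lpe (f123722 IH) (Lpe (K24.f123728 IH) (Lpr_gf (f463453 IH) (Lpe (f19000 IH) (Lpr_ct (f18999 IH) (Lpe (K2.f15824 IH) (Lpe (K2.f15818 IH) (Lpr_bt (K2.f15817 IH) (Lpe (K8.f18994 IH) (Lpe (f18997 IH) (Lpn (LP (LK LD1_c22 LD2_c29 LD3_c46)))))))))))))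
theorem f123802 : Led Lsl_gt (LP (LK LD1_c14 LD2_c6 LD3_c43)) = (LP (LK LD1_c7 LD2_c28 LD3_c42)) :=
  Lre_g IH (LK LD1_c14 LD2_c6 LD3_c43) (LK LD1_c7 LD2_c28 LD3_c42) Lrfl Lrfl
theorem f18552 : Led Lsl_ct (LP (LK LD1_c6 LD2_c58 LD3_c49)) = (LP (LK LD1_c3 LD2_c28 LD3_c18)) :=
  Lre_c IH (LK LD1_c6 LD2_c58 LD3_c49) (LK LD1_c3 LD2_c28 LD3_c18) Lrfl Lrfl
theorem f463466 : Led Lsl_gt (LP (LK LD1_c3 LD2_c45 LD3_c51)) = (LP (LK LD1_c6 LD2_c58 LD3_c49)) :=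
  Lgr Lrot82 (Lpe (K24.f123788 IH) (Lpr_ct (K24.f123751 IH) (Lpe (f123802 IH) (Lpr_cf (f463460 IH) (Lpr_bt (f18997 IH) (Lpe (K8.f18917 IH) (Lpe (K24.f18859 IH) (Lpr_ct (K24.f18857 IH) (Lpe (f18869 IH) (Lpe (f18552 IH) (Lpn (LP (LK LD1_c6 LD2_c58 LD3_c49)))))))))))))
theorem f130715 : Led Lsl_gt (LP (LK LD1_c3 LD2_c35 LD3_c57)) = (LP (LK LD1_c6 LD2_c53 LD3_c0)) :=
  Lgr Lrot46 (Lpe (K24.f17818 IH) (Lpr_ft (K24.f17849 IH) (Lpr_at (K24.f130703 IH) (Lpn (LP (LK LD1_c6 LD2_c53 LD3_c0))))))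
theorem f461818 : Led Lsl_bt (LP (LK LD1_c6 LD2_c53 LD3_c41)) = (LP (LK LD1_c3 LD2_c35 LD3_c57)) :=
  Lgr Lrot127 (Lpr_bf (f461816 IH) (Lpn (LP (LK LD1_c3 LD2_c35 LD3_c57))))
theorem f464540 : Led Lsl_cf (LP (LK LD1_c3 LD2_c41 LD3_c5)) = (LP (LK LD1_c6 LD2_c53 LD3_c41)) :=
  Lgr Lrot58 (Lpe (f122535 IH) (Lpe (f122510 IH) (Lpr_bt (f122021 IH) (Lpe (f108799 IH) (Lpr_bf (f464536 IH) (Lpr_ct (f18567 IH) (Lpe (f463466 IH) (Lpr_cf (K24.f130711 IH) (Lpe (f130715 IH) (Lpe (f461818 IH) (Lpn (LP (LK LD1_c6 LD2_c53 LD3_c41)))))))))))))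
theorem f131724 : Led Lsl_ct (LP (LK LD1_c3 LD2_c43 LD3_c42)) = (LP (LK LD1_c1 LD2_c48 LD3_c57)) :=
  Lre_c IH (LK LD1_c3 LD2_c43 LD3_c42) (LK LD1_c1 LD2_c48 LD3_c57) Lrfl Lrfl
theorem f131732 : Led Lsl_at (LP (LK LD1_c3 LD2_c41 LD3_c8)) = (LP (LK LD1_c3 LD2_c43 LD3_c42)) :=
  Lgr Lrot107 (Lpe (f122031 IH) (Lpr_af (K5.f131728 IH) (Lpe (f131724 IH) (Lpn (LP (LK LD1_c3 LD2_c43 LD3_c42))))))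
theorem f122329 : Led Lsl_ft (LP (LK LD1_c1 LD2_c47 LD3_c29)) = (LP (LK LD1_c3 LD2_c41 LD3_c8)) :=
  Lre_f IH (LK LD1_c1 LD2_c47 LD3_c29) (LK LD1_c3 LD2_c41 LD3_c8) Lrfl Lrfl
theorem f439188 : Led Lsl_gt (LP (LK LD1_c3 LD2_c41 LD3_c5)) = (LP (LK LD1_c3 LD2_c43 LD3_c42)) :=
  Lgr Lrot46 (Lpe (f122535 IH) (Lpr_ft (f122329 IH) (Lpr_at (f131732 IH) (Lpn (LP (LK LD1_c3 LD2_c43 LD3_c42))))))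
theorem f131727 : Led Lsl_ct (LP (LK LD1_c1 LD2_c48 LD3_c57)) = (LP (LK LD1_c3 LD2_c43 LD3_c42)) :=
  Lre_c IH (LK LD1_c1 LD2_c48 LD3_c57) (LK LD1_c3 LD2_c43 LD3_c42) Lrfl Lrfl
theorem f130752 : Led Lsl_bt (LP (LK LD1_c3 LD2_c25 LD3_c25)) = (LP (LK LD1_c3 LD2_c25 LD3_c56)) :=
  Lgr Lrot35 (Lpe (K24.f130702 IH) (Lpr_bf (K24.f130748 IH) (Lpe (K24.f116040 IH) (Lpn (LP (LK LD1_c3 LD2_c25 LD3_c56))))))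
theorem f18848 : Led Lsl_ct (LP (LK LD1_c1 LD2_c42 LD3_c3)) = (LP (LK LD1_c3 LD2_c31 LD3_c2)) :=
  Lre_c IH (LK LD1_c1 LD2_c42 LD3_c3) (LK LD1_c3 LD2_c31 LD3_c2) Lrfl Lrfl
theorem f461822 : Led Lsl_gf (LP (LK LD1_c1 LD2_c50 LD3_c0)) = (LP (LK LD1_c3 LD2_c31 LD3_c2)) :=
  Lgr Lrot129 (Lpr_cf (f130728 IH) (Lpr_bt (f130752 IH) (Lpr_gt (f116031 IH) (Lpr_bf (f461816 IH) (Lpe (K24.f461806 IH) (Lpr_gt (K24.f18849 IH) (Lpe (K24.f18834 IH) (Lpe (K3.f18809 IH) (Lpr_gt (K24.f18843 IH) (Lpr_ct (f18848 IH) (Lpn (LP (LK LD1_c3 LD2_c31 LD3_c2)))))))))))))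
theorem f461798 : Led Lsl_bt (LP (LK LD1_c1 LD2_c42 LD3_c3)) = (LP (LK LD1_c3 LD2_c31 LD3_c1)) :=
  Lre_b IH (LK LD1_c1 LD2_c42 LD3_c3) (LK LD1_c3 LD2_c31 LD3_c1) Lrfl Lrfl
theorem f464551 : Led Lsl_gt (LP (LK LD1_c3 LD2_c36 LD3_c2)) = (LP (LK LD1_c3 LD2_c31 LD3_c1)) :=
  Lgr Lrot164 (Lpr_bf (K5.f131715 IH) (Lpr_ct (f131727 IH) (Lpe (f439188 IH) (Lpr_cf (f464540 IH) (Lpe (f116031 IH) (Lpe (f130752 IH) (Lpe (f130728 IH) (Lpr_gf (f461822 IH) (Lpe (f18848 IH) (Lpr_bt (f461798 IH) (Lpn (LP (LK LD1_c3 LD2_c31 LD3_c1)))))))))))))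
theorem f121757 : Led Lsl_af (LP (LK LD1_c1 LD2_c42 LD3_c47)) = (LP (LK LD1_c1 LD2_c44 LD3_c53)) :=
  Lgr Lrot0 (Lpr_at (K4.f121755 IH) (Lpn (LP (LK LD1_c1 LD2_c44 LD3_c53))))
theorem f464553 : Led Lsl_gf (LP (LK LD1_c1 LD2_c42 LD3_c47)) = (LP (LK LD1_c3 LD2_c31 LD3_c1)) :=
  Lgr Lrot76 (Lpr_af (f121757 IH) (Lpe (K5.f121773 IH) (Lpr_gt (f464551 IH) (Lpn (LP (LK LD1_c3 LD2_c31 LD3_c1))))))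
theorem f458445 : Led Lsl_bt (LP (LK LD1_c1 LD2_c42 LD3_c9)) = (LP (LK LD1_c3 LD2_c31 LD3_c13)) :=
  Lre_b IH (LK LD1_c1 LD2_c42 LD3_c9) (LK LD1_c3 LD2_c31 LD3_c13) Lrfl Lrfl
theorem f17850 : Led Lsl_ft (LP (LK LD1_c7 LD2_c0 LD3_c21)) = (LP (LK LD1_c3 LD2_c29 LD3_c21)) :=
  Lre_f IH (LK LD1_c7 LD2_c0 LD3_c21) (LK LD1_c3 LD2_c29 LD3_c21) Lrfl Lrfl
theorem f461824 : Led Lsl_gt (LP (LK LD1_c7 LD2_c0 LD3_c21)) = (LP (LK LD1_c3 LD2_c31 LD3_c2)) :=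
  Lgr Lrot5 (Lpr_ft (f17850 IH) (Lpe (f111818 IH) (Lpr_gf (f461822 IH) (Lpn (LP (LK LD1_c3 LD2_c31 LD3_c2))))))
theorem f464557 : Led Lsl_gt (LP (LK LD1_c3 LD2_c31 LD3_c13)) = (LP (LK LD1_c3 LD2_c35 LD3_c59)) :=
  Lgr Lrot82 (Lpe (f458445 IH) (Lpr_ct (K24.f455581 IH) (Lpe (f464065 IH) (Lpr_cf (K2.f94581 IH) (Lpr_bt (K2.f92281 IH) (Lpr_gf (f464553 IH) (Lpe (f461798 IH) (Lpr_ct (f18848 IH) (Lpe (f461824 IH) (Lpe (K4.f17834 IH) (Lpn (LP (LK LD1_c3 LD2_c35 LD3_c59)))))))))))))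
theorem f464319 : Led Lsl_bt (LP (LK LD1_c3 LD2_c36 LD3_c0)) = (LP (LK LD1_c3 LD2_c44 LD3_c52)) :=
  Lgr Lrot127 (Lpr_bf (f464317 IH) (Lpn (LP (LK LD1_c3 LD2_c44 LD3_c52))))
theorem f97407 : Led Lsl_gt (LP (LK LD1_c3 LD2_c32 LD3_c22)) = (LP (LK LD1_c1 LD2_c42 LD3_c53)) :=
  Lre_g IH (LK LD1_c3 LD2_c32 LD3_c22) (LK LD1_c1 LD2_c42 LD3_c53) Lrfl Lrfl
theorem f108321 : Led Lsl_gt (LP (LK LD1_c3 LD2_c36 LD3_c11)) = (LP (LK LD1_c3 LD2_c32 LD3_c22)) :=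
  Lgr Lrot5 (Lpr_ft (K3.f108318 IH) (Lpr_at (K3.f108308 IH) (Lpe (f97407 IH) (Lpn (LP (LK LD1_c3 LD2_c32 LD3_c22))))))
theorem f464562 : Led Lsl_ct (LP (LK LD1_c3 LD2_c36 LD3_c0)) = (LP (LK LD1_c3 LD2_c32 LD3_c22)) :=
  Lgr Lrot10 (Lpr_bt (f464319 IH) (Lpr_gt (f92277 IH) (Lpe (K2.f94581 IH) (Lpr_gt (f464065 IH) (Lpe (K24.f455581 IH) (Lpr_bt (f458445 IH) (Lpr_gt (f464557 IH) (Lpe (K4.f17842 IH) (Lpr_ct (K24.f17829 IH) (Lpr_gt (f108321 IH) (Lpn (LP (LK LD1_c3 LD2_c32 LD3_c22)))))))))))))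
theorem f122026 : Led Lsl_gt (LP (LK LD1_c3 LD2_c40 LD3_c61)) = (LP (LK LD1_c3 LD2_c44 LD3_c52)) :=
  Lgr Lrot5 (Lpr_ft (K5.f122004 IH) (Lpr_at (K4.f122017 IH) (Lpe (f92277 IH) (Lpn (LP (LK LD1_c3 LD2_c44 LD3_c52))))))
theorem f209144 : Led Lsl_ft (LP (LK LD1_c1 LD2_c48 LD3_c54)) = (LP (LK LD1_c3 LD2_c43 LD3_c42)) :=
  Lre_f IH (LK LD1_c1 LD2_c48 LD3_c54) (LK LD1_c3 LD2_c43 LD3_c42) Lrfl Lrfl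
theorem f209145 : Led Lsl_af (LP (LK LD1_c3 LD2_c41 LD3_c8)) = (LP (LK LD1_c3 LD2_c43 LD3_c42)) :=
  Lgr Lrot45 (Lpr_ft (f122245 IH) (Lpr_at (f209126 IH) (Lpr_ft (f209144 IH) (Lpn (LP (LK LD1_c3 LD2_c43 LD3_c42))))))
theorem f132079 : Led Lsl_gt (LP (LK LD1_c1 LD2_c48 LD3_c54)) = (LP (LK LD1_c3 LD2_c43 LD3_c39)) :=
  Lre_g IH (LK LD1_c1 LD2_c48 LD3_c54) (LK LD1_c3 LD2_c43 LD3_c39) Lrfl Lrfl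
theorem f209165 : Led Lsl_gf (LP (LK LD1_c3 LD2_c41 LD3_c8)) = (LP (LK LD1_c3 LD2_c43 LD3_c39)) :=
  Lgr Lrot76 (Lpr_af (f209145 IH) (Lpe (f209144 IH) (Lpr_gt (f132079 IH) (Lpn (LP (LK LD1_c3 LD2_c43 LD3_c39))))))
theorem f116048 : Led Lsl_gt (LP (LK LD1_c1 LD2_c42 LD3_c43)) = (LP (LK LD1_c3 LD2_c32 LD3_c3)) :=
  Lre_g IH (LK LD1_c1 LD2_c42 LD3_c43) (LK LD1_c3 LD2_c32 LD3_c3) Lrfl Lrfl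
theorem f464572 : Led Lsl_cf (LP (LK LD1_c3 LD2_c43 LD3_c39)) = (LP (LK LD1_c3 LD2_c32 LD3_c3)) :=
  Lgr Lrot125 (Lpe (f209165 IH) (Lpe (f122031 IH) (Lpr_bt (K5.f122028 IH) (Lpr_gt (f122026 IH) (Lpe (f464319 IH) (Lpr_ct (f464562 IH) (Lpr_gt (f97407 IH) (Lpe (K24.f98569 IH) (Lpr_bt (f108434 IH) (Lpr_gt (f116048 IH) (Lpn (LP (LK LD1_c3 LD2_c32 LD3_c3)))))))))))))
theorem f132092 : Led Lsl_et (LP (LK LD1_c3 LD2_c43 LD3_c39)) = (LP (LK LD1_c7 LD2_c27 LD3_c57)) :=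
  Lre_e IH (LK LD1_c3 LD2_c43 LD3_c39) (LK LD1_c7 LD2_c27 LD3_c57) Lrfl Lrfl
theorem f458442 : Led Lsl_bt (LP (LK LD1_c3 LD2_c31 LD3_c42)) = (LP (LK LD1_c1 LD2_c42 LD3_c26)) :=
  Lre_b IH (LK LD1_c3 LD2_c31 LD3_c42) (LK LD1_c1 LD2_c42 LD3_c26) Lrfl Lrfl
theorem f106201 : Led Lsl_at (LP (LK LD1_c3 LD2_c35 LD3_c31)) = (LP (LK LD1_c1 LD2_c44 LD3_c38)) :=
  Lre_a IH (LK LD1_c3 LD2_c35 LD3_c31) (LK LD1_c1 LD2_c44 LD3_c38) Lrfl Lrfl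
theorem f116284 : Led Lsl_ct (LP (LK LD1_c1 LD2_c47 LD3_c34)) = (LP (LK LD1_c3 LD2_c35 LD3_c31)) :=
  Lgr Lrot111 (Lpr_af (K4.f116276 IH) (Lpe (K4.f116127 IH) (Lpe (f106201 IH) (Lpn (LP (LK LD1_c3 LD2_c35 LD3_c31))))))
theorem f459489 : Led Lsl_ff (LP (LK LD1_c0 LD2_c51 LD3_c17)) = K24.v808 :=
  Lgr Lrot3 (Lpr_ft (K24.f459485 IH) (Lpn K24.v808))
theorem f459494 : Led Lsl_gf K24.v768 = K24.v808 :=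
  Lgr Lrot47 (Lpe (K24.f457147 IH) (Lpr_af (K5.f122344 IH) (Lpr_ff (f459489 IH) (Lpn K24.v808))))
theorem f455664 : Led Lsl_gt (LP (LK LD1_c1 LD2_c42 LD3_c24)) = (LP (LK LD1_c0 LD2_c47 LD3_c43)) :=
  Lre_g IH (LK LD1_c1 LD2_c42 LD3_c24) (LK LD1_c0 LD2_c47 LD3_c43) Lrfl Lrfl
theorem f463623 : K24.v808 = (LP (LK LD1_c1 LD2_c42 LD3_c24)) :=
  Lefun (Lecon (f459494 IH) (f463620 IH)) (Lfl_gt (f455664 IH))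
theorem f446524 : Led Lsl_ct (LP (LK LD1_c0 LD2_c47 LD3_c43)) = (LP (LK LD1_c1 LD2_c42 LD3_c26)) :=
  Lre_c IH (LK LD1_c0 LD2_c47 LD3_c43) (LK LD1_c1 LD2_c42 LD3_c26) Lrfl Lrfl
theorem f463691 : Led Lsl_gf (LP (LK LD1_c1 LD2_c47 LD3_c34)) = (LP (LK LD1_c1 LD2_c42 LD3_c26)) :=
  Lgr Lrot104 (Lpr_ct (f116284 IH) (Lpe (K5.f128067 IH) (Lpr_cf (f121199 IH) (Lpr_gf (f463653 IH) (Lpe (f11246 IH) (Lpe (f11355 IH) (Lpq (f462174 IH) (Lpr_df (f459487 IH) (Lpqs (f463623 IH) (Lpr_gt (f455664 IH) (Lpr_ct (f446524 IH) (Lpn (LP (LK LD1_c1 LD2_c42 LD3_c26))))))))))))))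
theorem f116444 : Led Lsl_bt (LP (LK LD1_c3 LD2_c41 LD3_c14)) = (LP (LK LD1_c1 LD2_c47 LD3_c34)) :=
  Lre_b IH (LK LD1_c3 LD2_c41 LD3_c14) (LK LD1_c1 LD2_c47 LD3_c34) Lrfl Lrfl
theorem f116468 : Led Lsl_cf (LP (LK LD1_c7 LD2_c22 LD3_c47)) = (LP (LK LD1_c6 LD2_c53 LD3_c58)) :=
  Lgr Lrot39 (Lpr_et (K4.f116447 IH) (Lpr_ct (K4.f116457 IH) (Lpr_et (K4.f103793 IH) (Lpn (LP (LK LD1_c6 LD2_c53 LD3_c58))))))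
theorem f116443 : Led Lsl_at (LP (LK LD1_c7 LD2_c22 LD3_c47)) = (LP (LK LD1_c3 LD2_c41 LD3_c14)) :=
  Lre_a IH (LK LD1_c7 LD2_c22 LD3_c47) (LK LD1_c3 LD2_c41 LD3_c14) Lrfl Lrfl
theorem f111466 : Led Lsl_at (LP (LK LD1_c7 LD2_c0 LD3_c22)) = (LP (LK LD1_c6 LD2_c53 LD3_c58)) :=
  Lgr Lrot100 (Lpr_af (K4.f111464 IH) (Lpn (LP (LK LD1_c6 LD2_c53 LD3_c58))))
theorem f116470 : Led Lsl_ct (LP (LK LD1_c3 LD2_c41 LD3_c14)) = (LP (LK LD1_c7 LD2_c0 LD3_c22)) :=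
  Lgr Lrot111 (Lpe (f116443 IH) (Lpr_cf (f116468 IH) (Lpe (f111466 IH) (Lpn (LP (LK LD1_c7 LD2_c0 LD3_c22))))))
theorem f64826 : Led Lsl_gt (LP (LK LD1_c7 LD2_c0 LD3_c22)) = (LP (LK LD1_c13 LD2_c17 LD3_c30)) :=
  Lre_g IH (LK LD1_c7 LD2_c0 LD3_c22) (LK LD1_c13 LD2_c17 LD3_c30) Lrfl Lrfl
theorem f209167 : Led Lsl_bt (LP (LK LD1_c7 LD2_c27 LD3_c55)) = (LP (LK LD1_c3 LD2_c43 LD3_c39)) :=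
  Lre_b IH (LK LD1_c7 LD2_c27 LD3_c55) (LK LD1_c3 LD2_c43 LD3_c39) Lrfl Lrfl
theorem f464338 : Led Lsl_cf (LP (LK LD1_c13 LD2_c17 LD3_c30)) = (LP (LK LD1_c7 LD2_c27 LD3_c55)) :=
  Lgr Lrot58 (Lpe (f64826 IH) (Lpe (f116470 IH) (Lpr_bt (f116444 IH) (Lpr_gf (f463691 IH) (Lpe (f458442 IH) (Lpr_ct (K24.f455661 IH) (Lpq (f464333 IH) (Lpe (f459479 IH) (Lpe (K5.f122029 IH) (Lpr_gf (f209165 IH) (Lpe (f209167 IH) (Lpn (LP (LK LD1_c7 LD2_c27 LD3_c55))))))))))))))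
theorem f463831 : Led Lsl_cf (LP (LK LD1_c6 LD2_c34 LD3_c3)) = (LP (LK LD1_c3 LD2_c29 LD3_c7)) :=
  Lgr Lrot11 (Lpr_ct (f463744 IH) (Lpn (LP (LK LD1_c3 LD2_c29 LD3_c7))))
theorem f109305 : Led Lsl_bt (LP (LK LD1_c3 LD2_c29 LD3_c23)) = (LP (LK LD1_c7 LD2_c0 LD3_c22)) :=
  Lre_b IH (LK LD1_c3 LD2_c29 LD3_c23) (LK LD1_c7 LD2_c0 LD3_c22) Lrfl Lrfl
theorem f18548 : Led Lsl_bt (LP (LK LD1_c3 LD2_c30 LD3_c11)) = (LP (LK LD1_c1 LD2_c41 LD3_c53)) :=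
  Lre_b IH (LK LD1_c3 LD2_c30 LD3_c11) (LK LD1_c1 LD2_c41 LD3_c53) Lrfl Lrfl
theorem f463952 : Led Lsl_bf (LP (LK LD1_c13 LD2_c17 LD3_c30)) = (LP (LK LD1_c7 LD2_c4 LD3_c12)) :=
  Lgr Lrot34 (Lpe (f64826 IH) (Lpe (f109305 IH) (Lpe (K5.f109306 IH) (Lpe (K24.f108772 IH) (Lpr_cf (f463831 IH) (Lpe (f63672 IH) (Lpe (f18548 IH) (Lpr_ct (K2.f18182 IH) (Lpe (K2.f18199 IH) (Lpe (f92007 IH) (Lpn (LP (LK LD1_c7 LD2_c4 LD3_c12)))))))))))))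
theorem f92011 : Led Lsl_bt (LP (LK LD1_c13 LD2_c4 LD3_c11)) = (LP (LK LD1_c6 LD2_c52 LD3_c19)) :=
  Lre_b IH (LK LD1_c13 LD2_c4 LD3_c11) (LK LD1_c6 LD2_c52 LD3_c19) Lrfl Lrfl
theorem f463957 : Led Lsl_et (LP (LK LD1_c13 LD2_c17 LD3_c30)) = (LP (LK LD1_c13 LD2_c4 LD3_c11)) :=
  Lgr Lrot74 (Lpr_bf (f463952 IH) (Lpr_ef (f92008 IH) (Lpe (f92011 IH) (Lpn (LP (LK LD1_c13 LD2_c4 LD3_c11))))))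
theorem f132126 : Led Lsl_et (LP (LK LD1_c14 LD2_c5 LD3_c38)) = (LP (LK LD1_c7 LD2_c27 LD3_c55)) :=
  Lre_e IH (LK LD1_c14 LD2_c5 LD3_c38) (LK LD1_c7 LD2_c27 LD3_c55) Lrfl Lrfl
theorem f464344 : Led Lsl_ct (LP (LK LD1_c13 LD2_c4 LD3_c11)) = (LP (LK LD1_c14 LD2_c5 LD3_c38)) :=
  Lgr Lrot15 (Lpe (f463957 IH) (Lpr_cf (f464338 IH) (Lpe (f132126 IH) (Lpn (LP (LK LD1_c14 LD2_c5 LD3_c38))))))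
theorem f15827 : Led Lsl_bt (LP (LK LD1_c6 LD2_c52 LD3_c19)) = (LP (LK LD1_c13 LD2_c4 LD3_c11)) :=
  Lre_b IH (LK LD1_c6 LD2_c52 LD3_c19) (LK LD1_c13 LD2_c4 LD3_c11) Lrfl Lrfl
theorem f90861 : Led Lsl_bt (LP (LK LD1_c6 LD2_c52 LD3_c14)) = (LP (LK LD1_c3 LD2_c24 LD3_c55)) :=
  Lre_b IH (LK LD1_c6 LD2_c52 LD3_c14) (LK LD1_c3 LD2_c24 LD3_c55) Lrfl Lrfl
theorem f132085 : Led Lsl_bt (LP (LK LD1_c14 LD2_c5 LD3_c38)) = (LP (LK LD1_c7 LD2_c27 LD3_c57)) :=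
  Lre_b IH (LK LD1_c14 LD2_c5 LD3_c38) (LK LD1_c7 LD2_c27 LD3_c57) Lrfl Lrfl
theorem f464347 : Led Lsl_cf (LP (LK LD1_c6 LD2_c52 LD3_c14)) = (LP (LK LD1_c7 LD2_c27 LD3_c57)) :=
  Lgr Lrot97 (Lpr_bt (f90861 IH) (Lpr_ct (f15826 IH) (Lpr_bt (f15827 IH) (Lpr_ct (f464344 IH) (Lpr_bt (f132085 IH) (Lpn (LP (LK LD1_c7 LD2_c27 LD3_c57))))))))
theorem f464576 : Led Lsl_et (LP (LK LD1_c6 LD2_c52 LD3_c14)) = (LP (LK LD1_c3 LD2_c32 LD3_c3)) :=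
  Lgr Lrot158 (Lpr_cf (f464347 IH) (Lpe (f132092 IH) (Lpr_cf (f464572 IH) (Lpn (LP (LK LD1_c3 LD2_c32 LD3_c3))))))
theorem f463401 : Led Lsl_dt (LP (LK LD1_c6 LD2_c52 LD3_c14)) = (LP (LK LD1_c3 LD2_c24 LD3_c53)) :=
  Lre_d IH (LK LD1_c6 LD2_c52 LD3_c14) (LK LD1_c3 LD2_c24 LD3_c53) Lrfl Lrfl
theorem f90118 : Led Lsl_et (LP (LK LD1_c0 LD2_c47 LD3_c58)) = (LP (LK LD1_c1 LD2_c42 LD3_c43)) :=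
  Lre_e IH (LK LD1_c0 LD2_c47 LD3_c58) (LK LD1_c1 LD2_c42 LD3_c43) Lrfl Lrfl
theorem f464585 : Led Lsl_gt (LP (LK LD1_c3 LD2_c24 LD3_c53)) = (LP (LK LD1_c3 LD2_c35 LD3_c31)) :=
  Lgr Lrot112 (Lpe (f463401 IH) (Lpr_et (f464576 IH) (Lpe (f116048 IH) (Lpe (f90118 IH) (Lpr_dt (K4.f84755 IH) (Lpe (K2.f84732 IH) (Lpe (K2.f84762 IH) (Lpe (K4.f121227 IH) (Lpe (K5.f121203 IH) (Lpr_dt (K5.f128067 IH) (Lpn (LP (LK LD1_c3 LD2_c35 LD3_c31)))))))))))))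
theorem f463406 : Led Lsl_gt (LP (LK LD1_c13 LD2_c4 LD3_c3)) = (LP (LK LD1_c6 LD2_c52 LD3_c14)) :=
  Lre_g IH (LK LD1_c13 LD2_c4 LD3_c3) (LK LD1_c6 LD2_c52 LD3_c14) Lrfl Lrfl
theorem f121069 : Led Lsl_dt (LP (LK LD1_c3 LD2_c55 LD3_c0)) = (LP (LK LD1_c1 LD2_c54 LD3_c6)) :=
  Lre_d IH (LK LD1_c3 LD2_c55 LD3_c0) (LK LD1_c1 LD2_c54 LD3_c6) Lrfl Lrfl
theorem f455706 : Led Lsl_gt (LP (LK LD1_c7 LD2_c5 LD3_c8)) = (LP (LK LD1_c3 LD2_c31 LD3_c47)) :=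
  Lre_g IH (LK LD1_c7 LD2_c5 LD3_c8) (LK LD1_c3 LD2_c31 LD3_c47) Lrfl Lrfl
theorem f464589 : Led Lsl_ct (LP (LK LD1_c13 LD2_c4 LD3_c3)) = (LP (LK LD1_c7 LD2_c5 LD3_c8)) :=
  Lgr Lrot8 (Lpr_gt (f463406 IH) (Lpr_dt (f463401 IH) (Lpr_gt (f464585 IH) (Lpe (K5.f128065 IH) (Lpr_cf (f121199 IH) (Lpe (f121069 IH) (Lpr_gf (K24.f460761 IH) (Lpe (K24.f455766 IH) (Lpe (f455706 IH) (Lpn (LP (LK LD1_c7 LD2_c5 LD3_c8))))))))))))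
theorem f11041 : Led Lsl_dt (LP (LK LD1_c1 LD2_c38 LD3_c54)) = (LP (LK LD1_c0 LD2_c45 LD3_c50)) :=
  Lre_d IH (LK LD1_c1 LD2_c38 LD3_c54) (LK LD1_c0 LD2_c45 LD3_c50) Lrfl Lrfl
theorem f458342 : Led Lsl_cf (LP (LK LD1_c1 LD2_c38 LD3_c54)) = (LP (LK LD1_c1 LD2_c46 LD3_c33)) :=
  Lgr Lrot175 (Lpr_dt (f11041 IH) (Lpqs (K24.f457409 IH) (Lpe (K24.f455597 IH) (Lpe (K24.f12136 IH) (Lpe (K24.f11193 IH) (Lpe (K24.f12714 IH) (Lpr_dt (K24.f446516 IH) (Lpr_gt (K24.f455702 IH) (Lpe (K24.f455685 IH) (Lpr_gt (K24.f450781 IH) (Lpn (LP (LK LD1_c1 LD2_c46 LD3_c33)))))))))))))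
theorem f458345 : Led Lsl_ct (LP (LK LD1_c1 LD2_c38 LD3_c54)) = (LP (LK LD1_c1 LD2_c46 LD3_c33)) :=
  Lgr Lrot59 (Lpr_cf (f458342 IH) (Lpn (LP (LK LD1_c1 LD2_c46 LD3_c33))))
theorem f458344 : Led Lsl_bt (LP (LK LD1_c1 LD2_c38 LD3_c54)) = (LP (LK LD1_c3 LD2_c24 LD3_c58)) :=
  Lre_b IH (LK LD1_c1 LD2_c38 LD3_c54) (LK LD1_c3 LD2_c24 LD3_c58) Lrfl Lrfl
theorem f458347 : Led Lsl_gt (LP (LK LD1_c3 LD2_c24 LD3_c58)) = (LP (LK LD1_c6 LD2_c52 LD3_c22)) :=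
  Lre_g IH (LK LD1_c3 LD2_c24 LD3_c58) (LK LD1_c6 LD2_c52 LD3_c22) Lrfl Lrfl
theorem f464595 : Led Lsl_bt (LP (LK LD1_c13 LD2_c4 LD3_c3)) = (LP (LK LD1_c6 LD2_c52 LD3_c22)) :=
  Lgr Lrot92 (Lpr_ct (f464589 IH) (Lpr_gt (f455706 IH) (Lpe (K24.f455705 IH) (Lpr_bt (K24.f450730 IH) (Lpr_gt (K24.f455702 IH) (Lpe (K24.f455685 IH) (Lpr_gt (K24.f450781 IH) (Lpe (f458345 IH) (Lpr_bt (f458344 IH) (Lpr_gt (f458347 IH) (Lpn (LP (LK LD1_c6 LD2_c52 LD3_c22)))))))))))))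
theorem f464596 : Led Lsl_bt (LP (LK LD1_c13 LD2_c4 LD3_c3)) = (LP (LK LD1_c6 LD2_c52 LD3_c22)) :=
  Leop (Lpe (f464595 IH) (Lpn (LP (LK LD1_c13 LD2_c4 LD3_c3))))
theorem seed_64 : LEOK LG_b (LK LD1_c13 LD2_c4 LD3_c3) :=
  Leoe_b (LK LD1_c13 LD2_c4 LD3_c3) (f464596 IH)
theorem f106208 : Led Lsl_ft (LP (LK LD1_c3 LD2_c35 LD3_c34)) = (LP (LK LD1_c1 LD2_c44 LD3_c38)) :=
  Lre_f IH (LK LD1_c3 LD2_c35 LD3_c34) (LK LD1_c1 LD2_c44 LD3_c38) Lrfl Lrfl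
theorem f464587 : Led Lsl_gf (LP (LK LD1_c3 LD2_c24 LD3_c53)) = (LP (LK LD1_c3 LD2_c35 LD3_c34)) :=
  Lgr Lrot47 (Lpr_gt (f464585 IH) (Lpe (K3.f106213 IH) (Lpe (f106208 IH) (Lpn (LP (LK LD1_c3 LD2_c35 LD3_c34))))))
theorem f132101 : Led Lsl_ct (LP (LK LD1_c1 LD2_c47 LD3_c14)) = (LP (LK LD1_c0 LD2_c50 LD3_c25)) :=
  Lre_c IH (LK LD1_c1 LD2_c47 LD3_c14) (LK LD1_c0 LD2_c50 LD3_c25) Lrfl Lrfl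
theorem f462408 : Led Lsl_ff (LP (LK LD1_c1 LD2_c48 LD3_c8)) = (LP (LK LD1_c1 LD2_c54 LD3_c47)) :=
  Lgr Lrot23 (Lpr_ct (f26204 IH) (Lpr_ft (f459386 IH) (Lpqs (f462401 IH) (Lpr_ct (K24.f451281 IH) (Lpn (LP (LK LD1_c1 LD2_c54 LD3_c47)))))))
theorem f159356 : Led Lsl_at (LP (LK LD1_c1 LD2_c48 LD3_c8)) = (LP (LK LD1_c1 LD2_c47 LD3_c14)) :=
  Lgr Lrot100 (Lpr_af (K8.f159353 IH) (Lpn (LP (LK LD1_c1 LD2_c47 LD3_c14))))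
theorem f462420 : Led Lsl_gf (LP (LK LD1_c1 LD2_c47 LD3_c14)) = (LP (LK LD1_c3 LD2_c27 LD3_c44)) :=
  Lgr Lrot76 (Lpe (f159356 IH) (Lpr_ff (f462408 IH) (Lpr_gt (K24.f457968 IH) (Lpn (LP (LK LD1_c3 LD2_c27 LD3_c44))))))
theorem f98812 : Led Lsl_gt (LP (LK LD1_c3 LD2_c27 LD3_c42)) = (LP (LK LD1_c1 LD2_c40 LD3_c26)) :=
  Lre_g IH (LK LD1_c3 LD2_c27 LD3_c42) (LK LD1_c1 LD2_c40 LD3_c26) Lrfl Lrfl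
theorem f464610 : Led Lsl_df (LP (LK LD1_c3 LD2_c27 LD3_c42)) = (LP (LK LD1_c3 LD2_c35 LD3_c34)) :=
  Lgr Lrot155 (Lpr_gt (f98812 IH) (Lpr_ct (K24.f16722 IH) (Lpe (f462420 IH) (Lpr_ct (f132101 IH) (Lpe (f159495 IH) (Lpe (f122351 IH) (Lpe (f159497 IH) (Lpr_cf (f463391 IH) (Lpr_gf (f464587 IH) (Lpn (LP (LK LD1_c3 LD2_c35 LD3_c34))))))))))))
theorem f106209 : Led Lsl_ft (LP (LK LD1_c1 LD2_c44 LD3_c38)) = (LP (LK LD1_c3 LD2_c35 LD3_c34)) :=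
  Lre_f IH (LK LD1_c1 LD2_c44 LD3_c38) (LK LD1_c3 LD2_c35 LD3_c34) Lrfl Lrfl
theorem f464614 : Led Lsl_ft (LP (LK LD1_c3 LD2_c27 LD3_c42)) = (LP (LK LD1_c1 LD2_c45 LD3_c6)) :=
  Lgr Lrot54 (Lpr_df (f464610 IH) (Lpe (f106209 IH) (Lpr_df (K5.f106206 IH) (Lpn (LP (LK LD1_c1 LD2_c45 LD3_c6))))))
theorem f128063 : Led Lsl_af (LP (LK LD1_c3 LD2_c25 LD3_c54)) = (LP (LK LD1_c1 LD2_c45 LD3_c6)) :=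
  Lgr Lrot0 (Lpr_at (K5.f128061 IH) (Lpn (LP (LK LD1_c1 LD2_c45 LD3_c6))))
theorem f464624 : Led Lsl_gt (LP (LK LD1_c1 LD2_c40 LD3_c26)) = (LP (LK LD1_c3 LD2_c25 LD3_c54)) :=
  Lgr Lrot46 (Lpe (f98812 IH) (Lpr_ft (f464614 IH) (Lpe (f128063 IH) (Lpn (LP (LK LD1_c3 LD2_c25 LD3_c54))))))
theorem f98822 : Led Lsl_gt (LP (LK LD1_c6 LD2_c57 LD3_c43)) = (LP (LK LD1_c3 LD2_c27 LD3_c45)) :=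
  Lre_g IH (LK LD1_c6 LD2_c57 LD3_c43) (LK LD1_c3 LD2_c27 LD3_c45) Lrfl Lrfl
theorem f116500 : Led Lsl_dt (LP (LK LD1_c3 LD2_c41 LD3_c16)) = (LP (LK LD1_c1 LD2_c47 LD3_c34)) :=
  Lre_d IH (LK LD1_c3 LD2_c41 LD3_c16) (LK LD1_c1 LD2_c47 LD3_c34) Lrfl Lrfl
theorem f451832 : Led Lsl_et (LP (LK LD1_c1 LD2_c54 LD3_c54)) = (LP (LK LD1_c0 LD2_c54 LD3_c6)) :=
  Lre_e IH (LK LD1_c1 LD2_c54 LD3_c54) (LK LD1_c0 LD2_c54 LD3_c6) Lrfl Lrfl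
theorem f11380 : Led Lsl_dt (LP (LK LD1_c1 LD2_c54 LD3_c54)) = (LP (LK LD1_c3 LD2_c56 LD3_c23)) :=
  Lre_d IH (LK LD1_c1 LD2_c54 LD3_c54) (LK LD1_c3 LD2_c56 LD3_c23) Lrfl Lrfl
theorem f462873 : Led Lsl_gt (LP (LK LD1_c3 LD2_c56 LD3_c23)) = (LP (LK LD1_c3 LD2_c41 LD3_c16)) :=
  Lgr Lrot112 (Lpe (f11380 IH) (Lpr_et (f451832 IH) (Lpr_gf (f462866 IH) (Lpe (K8.f142707 IH) (Lpr_dt (K7.f147574 IH) (Lpr_gf (K8.f159543 IH) (Lpe (K7.f147733 IH) (Lpr_gf (K7.f147727 IH) (Lpe (K4.f116275 IH) (Lpr_dt (K4.f116286 IH) (Lpn (LP (LK LD1_c3 LD2_c41 LD3_c16)))))))))))))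
theorem f11352 : Led Lsl_gt (LP (LK LD1_c3 LD2_c56 LD3_c22)) = (LP (LK LD1_c1 LD2_c54 LD3_c54)) :=
  Lre_g IH (LK LD1_c3 LD2_c56 LD3_c22) (LK LD1_c1 LD2_c54 LD3_c54) Lrfl Lrfl
theorem f464626 : Led Lsl_ct (LP (LK LD1_c6 LD2_c57 LD3_c43)) = (LP (LK LD1_c3 LD2_c56 LD3_c22)) :=
  Lgr Lrot8 (Lpr_gt (f98822 IH) (Lpr_dt (K24.f98811 IH) (Lpr_gt (f464624 IH) (Lpr_dt (K5.f128067 IH) (Lpe (f116284 IH) (Lpe (f116500 IH) (Lpe (f462873 IH) (Lpe (f11380 IH) (Lpe (f11352 IH) (Lpn (LP (LK LD1_c3 LD2_c56 LD3_c22))))))))))))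
theorem f11379 : Led Lsl_ct (LP (LK LD1_c0 LD2_c54 LD3_c8)) = (LP (LK LD1_c1 LD2_c54 LD3_c54)) :=
  Lre_c IH (LK LD1_c0 LD2_c54 LD3_c8) (LK LD1_c1 LD2_c54 LD3_c54) Lrfl Lrfl
theorem f11317 : Led Lsl_bt (LP (LK LD1_c0 LD2_c54 LD3_c8)) = (LP (LK LD1_c0 LD2_c24 LD3_c23)) :=
  Lre_b IH (LK LD1_c0 LD2_c54 LD3_c8) (LK LD1_c0 LD2_c24 LD3_c23) Lrfl Lrfl
theorem f455178 : Led Lsl_bt (LP (LK LD1_c0 LD2_c46 LD3_c46)) = (LP (LK LD1_c1 LD2_c40 LD3_c38)) :=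
  Lre_b IH (LK LD1_c0 LD2_c46 LD3_c46) (LK LD1_c1 LD2_c40 LD3_c38) Lrfl Lrfl
theorem f455146 : Led Lsl_gt (LP (LK LD1_c1 LD2_c40 LD3_c38)) = (LP (LK LD1_c3 LD2_c28 LD3_c4)) :=
  Lre_g IH (LK LD1_c1 LD2_c40 LD3_c38) (LK LD1_c3 LD2_c28 LD3_c4) Lrfl Lrfl
theorem f464670 : Led Lsl_bt (LP (LK LD1_c6 LD2_c57 LD3_c43)) = (LP (LK LD1_c3 LD2_c28 LD3_c4)) :=
  Lgr Lrot92 (Lpr_ct (f464626 IH) (Lpr_gt (f11352 IH) (Lpe (f11379 IH) (Lpr_bt (f11317 IH) (Lpr_gt (K24.f451318 IH) (Lpqs (K24.f458768 IH) (Lpr_ct (K24.f456054 IH) (Lpr_gt (K24.f456757 IH) (Lpqs (K24.f459342 IH) (Lpe (K24.f455180 IH) (Lpr_bt (f455178 IH) (Lpr_gt (f455146 IH) (Lpn (LP (LK LD1_c3 LD2_c28 LD3_c4)))))))))))))))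
theorem f464671 : Led Lsl_bt (LP (LK LD1_c6 LD2_c57 LD3_c43)) = (LP (LK LD1_c3 LD2_c28 LD3_c4)) :=
  Leop (Lpe (f464670 IH) (Lpn (LP (LK LD1_c6 LD2_c57 LD3_c43))))
theorem seed_65 : LEOK LG_b (LK LD1_c6 LD2_c57 LD3_c43) :=
  Leoe_b (LK LD1_c6 LD2_c57 LD3_c43) (f464671 IH)
def v784 : LQ := Led Lsl_at (LP (LK LD1_c0 LD2_c50 LD3_c43))
theorem f459358 : Led Lsl_at (LP (LK LD1_c0 LD2_c50 LD3_c43)) = v784 :=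
  Lrfl
def v777 : LQ := Led Lsl_ft (LP (LK LD1_c0 LD2_c50 LD3_c40))
theorem f457184 : Led Lsl_ft (LP (LK LD1_c0 LD2_c50 LD3_c40)) = v777 :=
  Lrfl
theorem f457186 : Led Lsl_ff (LP (LK LD1_c0 LD2_c50 LD3_c40)) = v777 :=
  Lgr Lrot3 (Lpr_ft (f457184 IH) (Lpn v777))
theorem f436800 : Led Lsl_bt (LP (LK LD1_c0 LD2_c50 LD3_c40)) = (LP (LK LD1_c0 LD2_c22 LD3_c53)) :=
  Lre_b IH (LK LD1_c0 LD2_c50 LD3_c40) (LK LD1_c0 LD2_c22 LD3_c53) Lrfl Lrfl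
theorem f457187 : Led Lsl_bt K24.v193 = v777 :=
  Lgr Lrot35 (Lpe (K24.f451007 IH) (Lpe (f436800 IH) (Lpr_ff (f457186 IH) (Lpn v777))))
theorem f451003 : Led Lsl_bt (LP (LK LD1_c0 LD2_c22 LD3_c54)) = (LP (LK LD1_c0 LD2_c50 LD3_c43)) :=
  Lre_b IH (LK LD1_c0 LD2_c22 LD3_c54) (LK LD1_c0 LD2_c50 LD3_c43) Lrfl Lrfl
theorem f457208 : (LP (LK LD1_c0 LD2_c22 LD3_c54)) = K24.v193 :=
  Lefun (Lecon (Lfl_ff (K24.f451002 IH)) (K24.f457205 IH)) (K24.f451007 IH)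
theorem f457215 : v777 = (LP (LK LD1_c0 LD2_c50 LD3_c43)) :=
  Lefun (Lecon (f457187 IH) (f457208 IH).symm) (f451003 IH)
def v774 : LQ := Led Lsl_gt (LP (LK LD1_c0 LD2_c50 LD3_c40))
theorem f457176 : Led Lsl_gt (LP (LK LD1_c0 LD2_c50 LD3_c40)) = v774 :=
  Lrfl
theorem f459362 : Led Lsl_gt v774 = v784 :=
  Lgr Lrot46 (Lpe (f457176 IH) (Lpr_ft (f457184 IH) (Lpqs (f457215 IH) (Lpr_at (f459358 IH) (Lpn v784)))))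
theorem f24335 : Led Lsl_dt (LP (LK LD1_c1 LD2_c33 LD3_c54)) = (LP (LK LD1_c3 LD2_c14 LD3_c43)) :=
  Lre_d IH (LK LD1_c1 LD2_c33 LD3_c54) (LK LD1_c3 LD2_c14 LD3_c43) Lrfl Lrfl
theorem f107380 : Led Lsl_at (LP (LK LD1_c3 LD2_c14 LD3_c43)) = (LP (LK LD1_c3 LD2_c29 LD3_c18)) :=
  Lgr Lrot51 (Lpe (f24335 IH) (Lpr_af (K3.f107372 IH) (Lpe (K4.f91907 IH) (Lpn (LP (LK LD1_c3 LD2_c29 LD3_c18))))))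
theorem f120486 : Led Lsl_af (LP (LK LD1_c3 LD2_c15 LD3_c3)) = (LP (LK LD1_c1 LD2_c41 LD3_c26)) :=
  Lgr Lrot68 (Lpr_ct (K4.f120483 IH) (Lpr_at (f107380 IH) (Lpr_ct (K4.f11449 IH) (Lpn (LP (LK LD1_c1 LD2_c41 LD3_c26))))))
theorem f11452 : Led Lsl_bt (LP (LK LD1_c0 LD2_c47 LD3_c17)) = (LP (LK LD1_c1 LD2_c41 LD3_c26)) :=
  Lre_b IH (LK LD1_c0 LD2_c47 LD3_c17) (LK LD1_c1 LD2_c41 LD3_c26) Lrfl Lrfl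
theorem f109020 : Led Lsl_at (LP (LK LD1_c1 LD2_c50 LD3_c26)) = (LP (LK LD1_c0 LD2_c52 LD3_c7)) :=
  Lre_a IH (LK LD1_c1 LD2_c50 LD3_c26) (LK LD1_c0 LD2_c52 LD3_c7) Lrfl Lrfl
theorem f120505 : Led Lsl_af (LP (LK LD1_c0 LD2_c47 LD3_c17)) = (LP (LK LD1_c0 LD2_c23 LD3_c36)) :=
  Lgr Lrot36 (Lpr_bt (f11452 IH) (Lpe (f120486 IH) (Lpr_bt (K4.f120503 IH) (Lpr_at (f109020 IH) (Lpr_bt (K24.f92363 IH) (Lpn (LP (LK LD1_c0 LD2_c23 LD3_c36))))))))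
theorem f109866 : Led Lsl_ft (LP (LK LD1_c0 LD2_c47 LD3_c20)) = (LP (LK LD1_c0 LD2_c23 LD3_c36)) :=
  Lgr Lrot54 (Lpe (K3.f64638 IH) (Lpr_ff (K3.f109862 IH) (Lpe (K1.f62805 IH) (Lpn (LP (LK LD1_c0 LD2_c23 LD3_c36))))))
theorem f109860 : Led Lsl_af (LP (LK LD1_c0 LD2_c47 LD3_c20)) = (LP (LK LD1_c0 LD2_c23 LD3_c27)) :=
  Lgr Lrot117 (Lpr_dt (K3.f64793 IH) (Lpr_at (K3.f109853 IH) (Lpr_dt (K2.f65244 IH) (Lpn (LP (LK LD1_c0 LD2_c23 LD3_c27))))))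
theorem f440625 : Led Lsl_ft (LP (LK LD1_c0 LD2_c47 LD3_c17)) = (LP (LK LD1_c0 LD2_c23 LD3_c27)) :=
  Lgr Lrot101 (Lpr_af (f120505 IH) (Lpe (f109866 IH) (Lpr_af (f109860 IH) (Lpn (LP (LK LD1_c0 LD2_c23 LD3_c27))))))
theorem f440627 : Led Lsl_ff (LP (LK LD1_c0 LD2_c21 LD3_c10)) = (LP (LK LD1_c0 LD2_c10 LD3_c31)) :=
  Lgr Lrot23 (Lpr_ct (K0.f11438 IH) (Lpr_ft (f440625 IH) (Lpr_ct (K2.f58788 IH) (Lpn (LP (LK LD1_c0 LD2_c10 LD3_c31))))))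
theorem f440632 : Led Lsl_ft (LP (LK LD1_c0 LD2_c21 LD3_c10)) = (LP (LK LD1_c0 LD2_c10 LD3_c31)) :=
  Lgr Lrot48 (Lpr_ff (f440627 IH) (Lpn (LP (LK LD1_c0 LD2_c10 LD3_c31))))
theorem f120521 : Led Lsl_dt (LP (LK LD1_c12 LD2_c34 LD3_c6)) = (LP (LK LD1_c6 LD2_c33 LD3_c33)) :=
  Lre_d IH (LK LD1_c12 LD2_c34 LD3_c6) (LK LD1_c6 LD2_c33 LD3_c33) Lrfl Lrfl
theorem f120535 : Led Lsl_dt (LP (LK LD1_c3 LD2_c29 LD3_c24)) = (LP (LK LD1_c7 LD2_c0 LD3_c26)) :=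
  Lre_d IH (LK LD1_c3 LD2_c29 LD3_c24) (LK LD1_c7 LD2_c0 LD3_c26) Lrfl Lrfl
theorem f120536 : Led Lsl_at (LP (LK LD1_c6 LD2_c33 LD3_c33)) = (LP (LK LD1_c3 LD2_c29 LD3_c24)) :=
  Lgr Lrot51 (Lpe (f120521 IH) (Lpr_af (K4.f120526 IH) (Lpe (f120535 IH) (Lpn (LP (LK LD1_c3 LD2_c29 LD3_c24))))))
theorem f120509 : Led Lsl_at (LP (LK LD1_c1 LD2_c50 LD3_c28)) = (LP (LK LD1_c3 LD2_c46 LD3_c37)) :=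
  Lre_a IH (LK LD1_c1 LD2_c50 LD3_c28) (LK LD1_c3 LD2_c46 LD3_c37) Lrfl Lrfl
theorem f120510 : Led Lsl_bt (LP (LK LD1_c0 LD2_c52 LD3_c9)) = (LP (LK LD1_c1 LD2_c50 LD3_c28)) :=
  Lre_b IH (LK LD1_c0 LD2_c52 LD3_c9) (LK LD1_c1 LD2_c50 LD3_c28) Lrfl Lrfl
theorem f120540 : Led Lsl_bt (LP (LK LD1_c3 LD2_c29 LD3_c24)) = (LP (LK LD1_c1 LD2_c41 LD3_c28)) :=
  Lre_b IH (LK LD1_c3 LD2_c29 LD3_c24) (LK LD1_c1 LD2_c41 LD3_c28) Lrfl Lrfl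
theorem f120541 : Led Lsl_af (LP (LK LD1_c0 LD2_c52 LD3_c9)) = (LP (LK LD1_c1 LD2_c41 LD3_c28)) :=
  Lgr Lrot36 (Lpr_bt (f120510 IH) (Lpr_at (f120509 IH) (Lpe (K4.f120507 IH) (Lpr_at (f120536 IH) (Lpr_bt (f120540 IH) (Lpn (LP (LK LD1_c1 LD2_c41 LD3_c28))))))))
theorem f120545 : Led Lsl_ct (LP (LK LD1_c0 LD2_c52 LD3_c9)) = (LP (LK LD1_c0 LD2_c23 LD3_c37)) :=
  Lre_c IH (LK LD1_c0 LD2_c52 LD3_c9) (LK LD1_c0 LD2_c23 LD3_c37) Lrfl Lrfl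
theorem f120546 : Led Lsl_ct (LP (LK LD1_c0 LD2_c47 LD3_c18)) = (LP (LK LD1_c1 LD2_c41 LD3_c28)) :=
  Lre_c IH (LK LD1_c0 LD2_c47 LD3_c18) (LK LD1_c1 LD2_c41 LD3_c28) Lrfl Lrfl
theorem f120547 : Led Lsl_at (LP (LK LD1_c0 LD2_c23 LD3_c37)) = (LP (LK LD1_c0 LD2_c47 LD3_c18)) :=
  Lgr Lrot107 (Lpe (f120545 IH) (Lpr_af (f120541 IH) (Lpe (f120546 IH) (Lpn (LP (LK LD1_c0 LD2_c47 LD3_c18))))))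
theorem f120551 : Led Lsl_af (LP (LK LD1_c0 LD2_c23 LD3_c37)) = (LP (LK LD1_c0 LD2_c47 LD3_c18)) :=
  Lgr Lrot0 (Lpr_at (f120547 IH) (Lpn (LP (LK LD1_c0 LD2_c47 LD3_c18))))
theorem f62811 : Led Lsl_et (LP (LK LD1_c0 LD2_c23 LD3_c37)) = (LP (LK LD1_c0 LD2_c10 LD3_c35)) :=
  Lre_e IH (LK LD1_c0 LD2_c23 LD3_c37) (LK LD1_c0 LD2_c10 LD3_c35) Lrfl Lrfl
theorem f120566 : Led Lsl_et (LP (LK LD1_c0 LD2_c21 LD3_c10)) = (LP (LK LD1_c0 LD2_c47 LD3_c18)) :=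
  Lre_e IH (LK LD1_c0 LD2_c21 LD3_c10) (LK LD1_c0 LD2_c47 LD3_c18) Lrfl Lrfl
theorem f120567 : Led Lsl_at (LP (LK LD1_c0 LD2_c10 LD3_c35)) = (LP (LK LD1_c0 LD2_c21 LD3_c10)) :=
  Lgr Lrot80 (Lpe (f62811 IH) (Lpr_af (f120551 IH) (Lpe (f120566 IH) (Lpn (LP (LK LD1_c0 LD2_c21 LD3_c10))))))
theorem f85186 : Led Lsl_ft (LP (LK LD1_c0 LD2_c4 LD3_c57)) = (LP (LK LD1_c0 LD2_c10 LD3_c28)) :=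
  Lre_f IH (LK LD1_c0 LD2_c4 LD3_c57) (LK LD1_c0 LD2_c10 LD3_c28) Lrfl Lrfl
theorem f95979 : Led Lsl_ft (LP (LK LD1_c0 LD2_c21 LD3_c11)) = (LP (LK LD1_c0 LD2_c10 LD3_c35)) :=
  Lgr Lrot54 (Lpr_df (K3.f95967 IH) (Lpe (f85186 IH) (Lpe (K1.f23359 IH) (Lpn (LP (LK LD1_c0 LD2_c10 LD3_c35))))))
theorem f440634 : Led Lsl_af (LP (LK LD1_c0 LD2_c21 LD3_c11)) = (LP (LK LD1_c0 LD2_c10 LD3_c31)) :=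
  Lgr Lrot45 (Lpr_ft (f95979 IH) (Lpr_at (f120567 IH) (Lpr_ft (f440632 IH) (Lpn (LP (LK LD1_c0 LD2_c10 LD3_c31))))))
theorem f65954 : Led Lsl_et (LP (LK LD1_c0 LD2_c23 LD3_c28)) = (LP (LK LD1_c0 LD2_c10 LD3_c31)) :=
  Lre_e IH (LK LD1_c0 LD2_c23 LD3_c28) (LK LD1_c0 LD2_c10 LD3_c31) Lrfl Lrfl
theorem f440636 : Led Lsl_at (LP (LK LD1_c0 LD2_c47 LD3_c21)) = (LP (LK LD1_c0 LD2_c23 LD3_c28)) :=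
  Lgr Lrot80 (Lpe (K3.f95970 IH) (Lpr_af (f440634 IH) (Lpe (f65954 IH) (Lpn (LP (LK LD1_c0 LD2_c23 LD3_c28))))))
theorem f440638 : Led Lsl_af (LP (LK LD1_c0 LD2_c47 LD3_c21)) = (LP (LK LD1_c0 LD2_c23 LD3_c28)) :=
  Lgr Lrot0 (Lpr_at (f440636 IH) (Lpn (LP (LK LD1_c0 LD2_c23 LD3_c28))))
theorem f95971 : Led Lsl_gt (LP (LK LD1_c1 LD2_c41 LD3_c35)) = (LP (LK LD1_c0 LD2_c47 LD3_c21)) :=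
  Lre_g IH (LK LD1_c1 LD2_c41 LD3_c35) (LK LD1_c0 LD2_c47 LD3_c21) Lrfl Lrfl
theorem f85240 : Led Lsl_ft (LP (LK LD1_c0 LD2_c51 LD3_c57)) = (LP (LK LD1_c0 LD2_c23 LD3_c28)) :=
  Lre_f IH (LK LD1_c0 LD2_c51 LD3_c57) (LK LD1_c0 LD2_c23 LD3_c28) Lrfl Lrfl
theorem f440739 : Led Lsl_gf (LP (LK LD1_c1 LD2_c41 LD3_c35)) = (LP (LK LD1_c0 LD2_c51 LD3_c57)) :=
  Lgr Lrot47 (Lpr_gt (f95971 IH) (Lpr_af (f440638 IH) (Lpe (f85240 IH) (Lpn (LP (LK LD1_c0 LD2_c51 LD3_c57))))))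
theorem f18071 : Led Lsl_gt (LP (LK LD1_c1 LD2_c42 LD3_c10)) = (LP (LK LD1_c0 LD2_c47 LD3_c35)) :=
  Lre_g IH (LK LD1_c1 LD2_c42 LD3_c10) (LK LD1_c0 LD2_c47 LD3_c35) Lrfl Lrfl
theorem f18950 : Led Lsl_bt (LP (LK LD1_c3 LD2_c31 LD3_c17)) = (LP (LK LD1_c1 LD2_c42 LD3_c10)) :=
  Lre_b IH (LK LD1_c3 LD2_c31 LD3_c17) (LK LD1_c1 LD2_c42 LD3_c10) Lrfl Lrfl
theorem f464622 : Led Lsl_ff (LP (LK LD1_c3 LD2_c27 LD3_c42)) = (LP (LK LD1_c1 LD2_c45 LD3_c6)) :=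
  Lgr Lrot3 (Lpr_ft (f464614 IH) (Lpn (LP (LK LD1_c1 LD2_c45 LD3_c6))))
theorem f142708 : Led Lsl_cf (LP (LK LD1_c1 LD2_c45 LD3_c6)) = (LP (LK LD1_c1 LD2_c53 LD3_c43)) :=
  Lgr Lrot39 (Lpr_et (K5.f93107 IH) (Lpr_ct (K6.f142698 IH) (Lpr_et (K8.f142707 IH) (Lpn (LP (LK LD1_c1 LD2_c53 LD3_c43))))))
theorem f147598 : Led Lsl_af (LP (LK LD1_c1 LD2_c54 LD3_c6)) = (LP (LK LD1_c1 LD2_c53 LD3_c43)) :=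
  Lgr Lrot50 (Lpr_et (K24.f121012 IH) (Lpr_at (K7.f147591 IH) (Lpr_et (K8.f142707 IH) (Lpn (LP (LK LD1_c1 LD2_c53 LD3_c43))))))
theorem f11351 : Led Lsl_gt (LP (LK LD1_c1 LD2_c55 LD3_c0)) = (LP (LK LD1_c0 LD2_c54 LD3_c12)) :=
  Lre_g IH (LK LD1_c1 LD2_c55 LD3_c0) (LK LD1_c0 LD2_c54 LD3_c12) Lrfl Lrfl
theorem f463687 : Led Lsl_ff (LP (LK LD1_c1 LD2_c53 LD3_c43)) = (LP (LK LD1_c1 LD2_c55 LD3_c0)) :=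
  Lgr Lrot52 (Lpe (f147598 IH) (Lpr_gf (f463653 IH) (Lpe (f11351 IH) (Lpn (LP (LK LD1_c1 LD2_c55 LD3_c0))))))
theorem f464689 : Led Lsl_ct (LP (LK LD1_c3 LD2_c27 LD3_c42)) = (LP (LK LD1_c1 LD2_c55 LD3_c0)) :=
  Lgr Lrot40 (Lpr_ff (f464622 IH) (Lpr_cf (f142708 IH) (Lpr_ff (f463687 IH) (Lpn (LP (LK LD1_c1 LD2_c55 LD3_c0))))))
theorem f88015 : Led Lsl_ct (LP (LK LD1_c1 LD2_c52 LD3_c40)) = (LP (LK LD1_c0 LD2_c53 LD3_c0)) :=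
  Lre_c IH (LK LD1_c1 LD2_c52 LD3_c40) (LK LD1_c0 LD2_c53 LD3_c0) Lrfl Lrfl
theorem f88016 : Led Lsl_bt (LP (LK LD1_c1 LD2_c52 LD3_c40)) = (LP (LK LD1_c3 LD2_c51 LD3_c57)) :=
  Lre_b IH (LK LD1_c1 LD2_c52 LD3_c40) (LK LD1_c3 LD2_c51 LD3_c57) Lrfl Lrfl
theorem f464707 : Led Lsl_gf (LP (LK LD1_c3 LD2_c27 LD3_c42)) = (LP (LK LD1_c3 LD2_c51 LD3_c57)) :=
  Lgr Lrot181 (Lpr_ct (f464689 IH) (Lpr_gt (f11351 IH) (Lpe (f11246 IH) (Lpr_bt (K24.f11245 IH) (Lpr_gt (K11.f11233 IH) (Lpe (K24.f11217 IH) (Lpr_ct (K24.f448755 IH) (Lpr_gt (K24.f64182 IH) (Lpe (f88015 IH) (Lpr_bt (f88016 IH) (Lpn (LP (LK LD1_c3 LD2_c51 LD3_c57)))))))))))))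
theorem f464608 : Led Lsl_dt (LP (LK LD1_c3 LD2_c27 LD3_c42)) = (LP (LK LD1_c3 LD2_c35 LD3_c34)) :=
  Lgr Lrot6 (Lpr_gt (f98812 IH) (Lpr_ct (K24.f16722 IH) (Lpe (f462420 IH) (Lpr_ct (f132101 IH) (Lpe (f159492 IH) (Lpe (f122351 IH) (Lpe (f159497 IH) (Lpr_cf (f463391 IH) (Lpr_gf (f464587 IH) (Lpn (LP (LK LD1_c3 LD2_c35 LD3_c34))))))))))))
theorem f463441 : Led Lsl_dt (LP (LK LD1_c3 LD2_c24 LD3_c53)) = (LP (LK LD1_c6 LD2_c52 LD3_c14)) :=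
  Lre_d IH (LK LD1_c3 LD2_c24 LD3_c53) (LK LD1_c6 LD2_c52 LD3_c14) Lrfl Lrfl
theorem f132078 : Led Lsl_et (LP (LK LD1_c0 LD2_c51 LD3_c13)) = (LP (LK LD1_c1 LD2_c48 LD3_c54)) :=
  Lre_e IH (LK LD1_c0 LD2_c51 LD3_c13) (LK LD1_c1 LD2_c48 LD3_c54) Lrfl Lrfl
theorem f132080 : Led Lsl_et (LP (LK LD1_c7 LD2_c27 LD3_c57)) = (LP (LK LD1_c3 LD2_c43 LD3_c39)) :=
  Lre_e IH (LK LD1_c7 LD2_c27 LD3_c57) (LK LD1_c3 LD2_c43 LD3_c39) Lrfl Lrfl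
theorem f107319 : Led Lsl_et (LP (LK LD1_c1 LD2_c47 LD3_c14)) = (LP (LK LD1_c0 LD2_c50 LD3_c24)) :=
  Lre_e IH (LK LD1_c1 LD2_c47 LD3_c14) (LK LD1_c0 LD2_c50 LD3_c24) Lrfl Lrfl
theorem f107320 : Led Lsl_dt (LP (LK LD1_c1 LD2_c47 LD3_c14)) = (LP (LK LD1_c3 LD2_c40 LD3_c35)) :=
  Lre_d IH (LK LD1_c1 LD2_c47 LD3_c14) (LK LD1_c3 LD2_c40 LD3_c35) Lrfl Lrfl
theorem f132081 : Led Lsl_gt (LP (LK LD1_c7 LD2_c21 LD3_c21)) = (LP (LK LD1_c3 LD2_c40 LD3_c35)) :=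
  Lre_g IH (LK LD1_c7 LD2_c21 LD3_c21) (LK LD1_c3 LD2_c40 LD3_c35) Lrfl Lrfl
theorem f132082 : Led Lsl_dt (LP (LK LD1_c7 LD2_c27 LD3_c57)) = (LP (LK LD1_c7 LD2_c21 LD3_c21)) :=
  Lgr Lrot136 (Lpr_et (f132080 IH) (Lpe (f132079 IH) (Lpe (f132078 IH) (Lpr_dt (K5.f12837 IH) (Lpe (K7.f132074 IH) (Lpe (K7.f96340 IH) (Lpr_gf (K7.f132072 IH) (Lpe (f107319 IH) (Lpr_dt (f107320 IH) (Lpe (f132081 IH) (Lpn (LP (LK LD1_c7 LD2_c21 LD3_c21)))))))))))))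
theorem f132090 : Led Lsl_df (LP (LK LD1_c7 LD2_c27 LD3_c57)) = (LP (LK LD1_c7 LD2_c21 LD3_c21)) :=
  Lgr Lrot38 (Lpr_dt (f132082 IH) (Lpn (LP (LK LD1_c7 LD2_c21 LD3_c21))))
theorem f122353 : Led Lsl_ct (LP (LK LD1_c7 LD2_c28 LD3_c26)) = (LP (LK LD1_c3 LD2_c43 LD3_c53)) :=
  Lre_c IH (LK LD1_c7 LD2_c28 LD3_c26) (LK LD1_c3 LD2_c43 LD3_c53) Lrfl Lrfl
theorem f452021 : Led Lsl_dt (LP (LK LD1_c1 LD2_c54 LD3_c47)) = (LP (LK LD1_c3 LD2_c56 LD3_c8)) :=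
  Lre_d IH (LK LD1_c1 LD2_c54 LD3_c47) (LK LD1_c3 LD2_c56 LD3_c8) Lrfl Lrfl
theorem f462422 : Led Lsl_ct (LP (LK LD1_c3 LD2_c56 LD3_c8)) = (LP (LK LD1_c7 LD2_c53 LD3_c60)) :=
  Lre_c IH (LK LD1_c3 LD2_c56 LD3_c8) (LK LD1_c7 LD2_c53 LD3_c60) Lrfl Lrfl
theorem f462423 : Led Lsl_df (LP (LK LD1_c7 LD2_c28 LD3_c26)) = (LP (LK LD1_c7 LD2_c53 LD3_c60)) :=
  Lgr Lrot106 (Lpr_ct (f122353 IH) (Lpr_dt (K4.f122352 IH) (Lpr_ct (f122351 IH) (Lpr_dt (f159492 IH) (Lpr_ct (f132099 IH) (Lpe (f159356 IH) (Lpr_ff (f462408 IH) (Lpr_dt (f452021 IH) (Lpr_ct (f462422 IH) (Lpn (LP (LK LD1_c7 LD2_c53 LD3_c60))))))))))))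
theorem f132102 : Led Lsl_ct (LP (LK LD1_c3 LD2_c40 LD3_c35)) = (LP (LK LD1_c7 LD2_c21 LD3_c22)) :=
  Lre_c IH (LK LD1_c3 LD2_c40 LD3_c35) (LK LD1_c7 LD2_c21 LD3_c22) Lrfl Lrfl
theorem f159350 : Led Lsl_ct (LP (LK LD1_c7 LD2_c25 LD3_c33)) = (LP (LK LD1_c3 LD2_c42 LD3_c24)) :=
  Lre_c IH (LK LD1_c7 LD2_c25 LD3_c33) (LK LD1_c3 LD2_c42 LD3_c24) Lrfl Lrfl
theorem f159351 : Led Lsl_af (LP (LK LD1_c7 LD2_c25 LD3_c33)) = (LP (LK LD1_c7 LD2_c21 LD3_c22)) :=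
  Lgr Lrot68 (Lpr_ct (f159350 IH) (Lpr_at (K8.f159335 IH) (Lpr_ct (f132102 IH) (Lpn (LP (LK LD1_c7 LD2_c21 LD3_c22))))))
theorem f428405 : Led Lsl_at (LP (LK LD1_c7 LD2_c25 LD3_c33)) = (LP (LK LD1_c7 LD2_c21 LD3_c22)) :=
  Lgr Lrot100 (Lpr_af (f159351 IH) (Lpn (LP (LK LD1_c7 LD2_c21 LD3_c22))))
theorem f462434 : Led Lsl_ff (LP (LK LD1_c7 LD2_c25 LD3_c33)) = (LP (LK LD1_c7 LD2_c53 LD3_c60)) :=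
  Lgr Lrot103 (Lpr_at (f428405 IH) (Lpe (f132102 IH) (Lpe (f107320 IH) (Lpe (f132099 IH) (Lpe (f159492 IH) (Lpe (f122351 IH) (Lpe (K4.f122352 IH) (Lpe (f122353 IH) (Lpr_df (f462423 IH) (Lpn (LP (LK LD1_c7 LD2_c53 LD3_c60))))))))))))
theorem f462440 : Led Lsl_ft (LP (LK LD1_c7 LD2_c25 LD3_c33)) = (LP (LK LD1_c7 LD2_c53 LD3_c60)) :=
  Lgr Lrot48 (Lpr_ff (f462434 IH) (Lpn (LP (LK LD1_c7 LD2_c53 LD3_c60))))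
theorem f159502 : Led Lsl_ct (LP (LK LD1_c3 LD2_c42 LD3_c24)) = (LP (LK LD1_c7 LD2_c25 LD3_c33)) :=
  Lre_c IH (LK LD1_c3 LD2_c42 LD3_c24) (LK LD1_c7 LD2_c25 LD3_c33) Lrfl Lrfl
theorem f452020 : Led Lsl_ct (LP (LK LD1_c7 LD2_c53 LD3_c60)) = (LP (LK LD1_c3 LD2_c56 LD3_c8)) :=
  Lre_c IH (LK LD1_c7 LD2_c53 LD3_c60) (LK LD1_c3 LD2_c56 LD3_c8) Lrfl Lrfl
theorem f462447 : Led Lsl_ff (LP (LK LD1_c3 LD2_c42 LD3_c24)) = (LP (LK LD1_c3 LD2_c56 LD3_c8)) :=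
  Lgr Lrot23 (Lpr_ct (f159502 IH) (Lpr_ft (f462440 IH) (Lpr_ct (f452020 IH) (Lpn (LP (LK LD1_c3 LD2_c56 LD3_c8))))))
theorem f462459 : Led Lsl_gf (LP (LK LD1_c7 LD2_c21 LD3_c21)) = (LP (LK LD1_c3 LD2_c56 LD3_c8)) :=
  Lgr Lrot47 (Lpr_gt (f132081 IH) (Lpe (K8.f159335 IH) (Lpr_ff (f462447 IH) (Lpn (LP (LK LD1_c3 LD2_c56 LD3_c8))))))
theorem f11384 : Led Lsl_ct (LP (LK LD1_c0 LD2_c54 LD3_c10)) = (LP (LK LD1_c1 LD2_c54 LD3_c59)) :=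
  Lre_c IH (LK LD1_c0 LD2_c54 LD3_c10) (LK LD1_c1 LD2_c54 LD3_c59) Lrfl Lrfl
theorem f462179 : Led Lsl_ff (LP (LK LD1_c1 LD2_c47 LD3_c14)) = (LP (LK LD1_c1 LD2_c54 LD3_c59)) :=
  Lgr Lrot23 (Lpr_ct (f132101 IH) (Lpr_ft (f457140 IH) (Lpqs (f462174 IH) (Lpr_ct (f11384 IH) (Lpn (LP (LK LD1_c1 LD2_c54 LD3_c59)))))))
theorem f462188 : Led Lsl_ft (LP (LK LD1_c1 LD2_c47 LD3_c14)) = (LP (LK LD1_c1 LD2_c54 LD3_c59)) :=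
  Lgr Lrot48 (Lpr_ff (f462179 IH) (Lpn (LP (LK LD1_c1 LD2_c54 LD3_c59))))
theorem f462410 : Led Lsl_at (LP (LK LD1_c1 LD2_c54 LD3_c59)) = (LP (LK LD1_c1 LD2_c54 LD3_c47)) :=
  Lgr Lrot66 (Lpe (f462188 IH) (Lpe (f159356 IH) (Lpr_ff (f462408 IH) (Lpn (LP (LK LD1_c1 LD2_c54 LD3_c47))))))
theorem f129166 : Led Lsl_gt (LP (LK LD1_c1 LD2_c47 LD3_c14)) = (LP (LK LD1_c3 LD2_c40 LD3_c34)) :=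
  Lre_g IH (LK LD1_c1 LD2_c47 LD3_c14) (LK LD1_c3 LD2_c40 LD3_c34) Lrfl Lrfl
theorem f462785 : Led Lsl_gt (LP (LK LD1_c3 LD2_c40 LD3_c34)) = (LP (LK LD1_c1 LD2_c54 LD3_c47)) :=
  Lgr Lrot46 (Lpe (f129166 IH) (Lpr_ft (f462188 IH) (Lpr_at (f462410 IH) (Lpn (LP (LK LD1_c1 LD2_c54 LD3_c47))))))
theorem f464713 : Led Lsl_cf (LP (LK LD1_c3 LD2_c40 LD3_c34)) = (LP (LK LD1_c3 LD2_c51 LD3_c57)) :=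
  Lgr Lrot166 (Lpr_gt (f462785 IH) (Lpr_dt (f452021 IH) (Lpe (f462459 IH) (Lpe (f132090 IH) (Lpe (f464347 IH) (Lpe (f463441 IH) (Lpr_gf (f464587 IH) (Lpe (f464608 IH) (Lpr_gf (f464707 IH) (Lpn (LP (LK LD1_c3 LD2_c51 LD3_c57))))))))))))
theorem f159494 : Led Lsl_bt (LP (LK LD1_c0 LD2_c50 LD3_c25)) = (LP (LK LD1_c1 LD2_c47 LD3_c10)) :=
  Lre_b IH (LK LD1_c0 LD2_c50 LD3_c25) (LK LD1_c1 LD2_c47 LD3_c10) Lrfl Lrfl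
theorem f106126 : Led Lsl_dt (LP (LK LD1_c6 LD2_c58 LD3_c55)) = (LP (LK LD1_c3 LD2_c44 LD3_c45)) :=
  Lgr Lrot79 (Lpr_bf (f17685 IH) (Lpr_df (K4.f106123 IH) (Lpe (K4.f5741 IH) (Lpn (LP (LK LD1_c3 LD2_c44 LD3_c45))))))
theorem f15695 : Led Lsl_gt (LP (LK LD1_c1 LD2_c40 LD3_c19)) = (LP (LK LD1_c0 LD2_c46 LD3_c38)) :=
  Lre_g IH (LK LD1_c1 LD2_c40 LD3_c19) (LK LD1_c0 LD2_c46 LD3_c38) Lrfl Lrfl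
theorem f15284 : Led Lsl_ct (LP (LK LD1_c1 LD2_c39 LD3_c52)) = (LP (LK LD1_c3 LD2_c26 LD3_c16)) :=
  Lre_c IH (LK LD1_c1 LD2_c39 LD3_c52) (LK LD1_c3 LD2_c26 LD3_c16) Lrfl Lrfl
theorem f15323 : Led Lsl_gt (LP (LK LD1_c3 LD2_c26 LD3_c16)) = (LP (LK LD1_c1 LD2_c40 LD3_c19)) :=
  Lre_g IH (LK LD1_c3 LD2_c26 LD3_c16) (LK LD1_c1 LD2_c40 LD3_c19) Lrfl Lrfl
theorem f14952 : Led Lsl_ct (LP (LK LD1_c0 LD2_c23 LD3_c42)) = (LP (LK LD1_c0 LD2_c52 LD3_c21)) :=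
  Lre_c IH (LK LD1_c0 LD2_c23 LD3_c42) (LK LD1_c0 LD2_c52 LD3_c21) Lrfl Lrfl
theorem f11218 : Led Lsl_at (LP (LK LD1_c0 LD2_c23 LD3_c42)) = (LP (LK LD1_c0 LD2_c10 LD3_c41)) :=
  Lre_a IH (LK LD1_c0 LD2_c23 LD3_c42) (LK LD1_c0 LD2_c10 LD3_c41) Lrfl Lrfl
theorem f11220 : Led Lsl_at (LP (LK LD1_c0 LD2_c10 LD3_c41)) = (LP (LK LD1_c0 LD2_c23 LD3_c42)) :=
  Lre_a IH (LK LD1_c0 LD2_c10 LD3_c41) (LK LD1_c0 LD2_c23 LD3_c42) Lrfl Lrfl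
theorem f11221 : Led Lsl_bf (LP (LK LD1_c0 LD2_c23 LD3_c42)) = (LP (LK LD1_c0 LD2_c23 LD3_c42)) :=
  Lgr Lrot81 (Lpr_at (f11218 IH) (Lpr_bt (K24.f11217 IH) (Lpr_at (K0.f11187 IH) (Lpr_bt (K24.f11219 IH) (Lpr_at (f11220 IH) (Lpn (LP (LK LD1_c0 LD2_c23 LD3_c42))))))))
theorem f63001 : Led Lsl_bt (LP (LK LD1_c1 LD2_c51 LD3_c2)) = (LP (LK LD1_c0 LD2_c52 LD3_c23)) :=
  Lre_b IH (LK LD1_c1 LD2_c51 LD3_c2) (LK LD1_c0 LD2_c52 LD3_c23) Lrfl Lrfl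
theorem f457790 : Led Lsl_cf (LP (LK LD1_c1 LD2_c40 LD3_c19)) = (LP (LK LD1_c1 LD2_c51 LD3_c2)) :=
  Lgr Lrot163 (Lpe (f15323 IH) (Lpe (f15284 IH) (Lpe (K2.f16719 IH) (Lpe (K24.f16720 IH) (Lpr_ct (K24.f457774 IH) (Lpe (K1.f14965 IH) (Lpe (f14952 IH) (Lpe (f11221 IH) (Lpe (K1.f62791 IH) (Lpe (f63001 IH) (Lpn (LP (LK LD1_c1 LD2_c51 LD3_c2)))))))))))))
theorem f463594 : Led Lsl_gt (LP (LK LD1_c3 LD2_c44 LD3_c45)) = (LP (LK LD1_c1 LD2_c51 LD3_c2)) :=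
  Lgr Lrot9 (Lpe (f106126 IH) (Lpr_gt (f463586 IH) (Lpe (f458362 IH) (Lpr_gt (f18607 IH) (Lpr_ct (K2.f18572 IH) (Lpe (K2.f19071 IH) (Lpe (K24.f15674 IH) (Lpe (f15695 IH) (Lpr_cf (f457790 IH) (Lpn (LP (LK LD1_c1 LD2_c51 LD3_c2))))))))))))
theorem f5748 : Led Lsl_et (LP (LK LD1_c0 LD2_c51 LD3_c32)) = (LP (LK LD1_c1 LD2_c49 LD3_c27)) :=
  Lre_e IH (LK LD1_c0 LD2_c51 LD3_c32) (LK LD1_c1 LD2_c49 LD3_c27) Lrfl Lrfl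
theorem f124347 : Led Lsl_af (LP (LK LD1_c1 LD2_c47 LD3_c10)) = (LP (LK LD1_c1 LD2_c49 LD3_c27)) :=
  Lgr Lrot50 (Lpr_et (f107307 IH) (Lpr_at (K5.f124341 IH) (Lpr_et (f5748 IH) (Lpn (LP (LK LD1_c1 LD2_c49 LD3_c27))))))
theorem f464230 : Led Lsl_gt (LP (LK LD1_c1 LD2_c51 LD3_c2)) = (LP (LK LD1_c1 LD2_c47 LD3_c10)) :=
  Lgr Lrot46 (Lpe (f463594 IH) (Lpr_ft (K24.f5746 IH) (Lpe (f124347 IH) (Lpn (LP (LK LD1_c1 LD2_c47 LD3_c10))))))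
theorem f62773 : Led Lsl_bt (LP (LK LD1_c0 LD2_c52 LD3_c23)) = (LP (LK LD1_c1 LD2_c51 LD3_c2)) :=
  Lre_b IH (LK LD1_c0 LD2_c52 LD3_c23) (LK LD1_c1 LD2_c51 LD3_c2) Lrfl Lrfl
theorem f62777 : Led Lsl_ct (LP (LK LD1_c0 LD2_c52 LD3_c23)) = (LP (LK LD1_c1 LD2_c51 LD3_c3)) :=
  Lre_c IH (LK LD1_c0 LD2_c52 LD3_c23) (LK LD1_c1 LD2_c51 LD3_c3) Lrfl Lrfl
theorem f464110 : Led Lsl_ft (LP (LK LD1_c6 LD2_c54 LD3_c44)) = (LP (LK LD1_c13 LD2_c7 LD3_c40)) :=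
  Lgr Lrot48 (Lpr_ff (f464103 IH) (Lpn (LP (LK LD1_c13 LD2_c7 LD3_c40))))
theorem f94990 : Led Lsl_dt (LP (LK LD1_c3 LD2_c26 LD3_c26)) = (LP (LK LD1_c6 LD2_c54 LD3_c44)) :=
  Lre_d IH (LK LD1_c3 LD2_c26 LD3_c26) (LK LD1_c6 LD2_c54 LD3_c44) Lrfl Lrfl
theorem f98738 : Led Lsl_dt (LP (LK LD1_c13 LD2_c7 LD3_c40)) = (LP (LK LD1_c6 LD2_c54 LD3_c31)) :=
  Lre_d IH (LK LD1_c13 LD2_c7 LD3_c40) (LK LD1_c6 LD2_c54 LD3_c31) Lrfl Lrfl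
theorem f464114 : Led Lsl_ff (LP (LK LD1_c3 LD2_c26 LD3_c26)) = (LP (LK LD1_c6 LD2_c54 LD3_c31)) :=
  Lgr Lrot19 (Lpr_dt (f94990 IH) (Lpr_ft (f464110 IH) (Lpr_dt (f98738 IH) (Lpn (LP (LK LD1_c6 LD2_c54 LD3_c31))))))
theorem f464121 : Led Lsl_gf (LP (LK LD1_c3 LD2_c26 LD3_c20)) = (LP (LK LD1_c6 LD2_c54 LD3_c31)) :=
  Lgr Lrot47 (Lpr_gt (f463246 IH) (Lpr_af (f425149 IH) (Lpr_ff (f464114 IH) (Lpn (LP (LK LD1_c6 LD2_c54 LD3_c31))))))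
theorem f457972 : Led Lsl_bf (LP (LK LD1_c1 LD2_c52 LD3_c44)) = (LP (LK LD1_c1 LD2_c39 LD3_c51)) :=
  Lgr Lrot24 (Lpr_bt (K24.f457970 IH) (Lpn (LP (LK LD1_c1 LD2_c39 LD3_c51))))
theorem f108766 : Led Lsl_ct (LP (LK LD1_c1 LD2_c43 LD3_c24)) = (LP (LK LD1_c3 LD2_c33 LD3_c18)) :=
  Lre_c IH (LK LD1_c1 LD2_c43 LD3_c24) (LK LD1_c3 LD2_c33 LD3_c18) Lrfl Lrfl
theorem f129659 : Led Lsl_ct (LP (LK LD1_c0 LD2_c52 LD3_c22)) = (LP (LK LD1_c1 LD2_c51 LD3_c0)) :=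
  Lre_c IH (LK LD1_c0 LD2_c52 LD3_c22) (LK LD1_c1 LD2_c51 LD3_c0) Lrfl Lrfl
theorem f129655 : Led Lsl_bt (LP (LK LD1_c0 LD2_c52 LD3_c22)) = (LP (LK LD1_c1 LD2_c50 LD3_c61)) :=
  Lre_b IH (LK LD1_c0 LD2_c52 LD3_c22) (LK LD1_c1 LD2_c50 LD3_c61) Lrfl Lrfl
theorem f464119 : Led Lsl_ct (LP (LK LD1_c3 LD2_c44 LD3_c45)) = (LP (LK LD1_c6 LD2_c54 LD3_c31)) :=
  Lgr Lrot40 (Lpe (K4.f5739 IH) (Lpe (K24.f95136 IH) (Lpr_ff (f464114 IH) (Lpn (LP (LK LD1_c6 LD2_c54 LD3_c31))))))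
theorem f464126 : Led Lsl_gt (LP (LK LD1_c1 LD2_c50 LD3_c61)) = (LP (LK LD1_c3 LD2_c39 LD3_c13)) :=
  Lgr Lrot164 (Lpe (f129655 IH) (Lpr_ct (f129659 IH) (Lpe (K24.f460592 IH) (Lpe (f108766 IH) (Lpr_gf (f463707 IH) (Lpr_bf (f457972 IH) (Lpr_ct (K24.f16725 IH) (Lpr_gf (f464121 IH) (Lpe (f464119 IH) (Lpr_bt (K4.f5741 IH) (Lpn (LP (LK LD1_c3 LD2_c39 LD3_c13)))))))))))))
theorem f128104 : Led Lsl_bt (LP (LK LD1_c1 LD2_c43 LD3_c24)) = (LP (LK LD1_c0 LD2_c48 LD3_c22)) :=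
  Lre_b IH (LK LD1_c1 LD2_c43 LD3_c24) (LK LD1_c0 LD2_c48 LD3_c22) Lrfl Lrfl
def v661 : LQ := Led Lsl_gf (LP (LK LD1_c0 LD2_c48 LD3_c22))
theorem f455827 : Led Lsl_gf (LP (LK LD1_c0 LD2_c48 LD3_c22)) = v661 :=
  Lrfl
theorem f450685 : Led Lsl_at (LP (LK LD1_c1 LD2_c40 LD3_c36)) = (LP (LK LD1_c0 LD2_c46 LD3_c45)) :=
  Lre_a IH (LK LD1_c1 LD2_c40 LD3_c36) (LK LD1_c0 LD2_c46 LD3_c45) Lrfl Lrfl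
theorem f455237 : Led Lsl_ff (LP (LK LD1_c1 LD2_c40 LD3_c36)) = (LP (LK LD1_c1 LD2_c40 LD3_c41)) :=
  Lgr Lrot30 (Lpr_at (f450685 IH) (Lpr_ft (K24.f455154 IH) (Lpqs (K24.f455234 IH) (Lpr_at (K24.f446440 IH) (Lpn (LP (LK LD1_c1 LD2_c40 LD3_c41)))))))
def v603 : LQ := Led Lsl_gf (LP (LK LD1_c0 LD2_c46 LD3_c45))
theorem f455145 : Led Lsl_gf (LP (LK LD1_c0 LD2_c46 LD3_c45)) = v603 :=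
  Lrfl
theorem f455438 : Led Lsl_gf v603 = (LP (LK LD1_c1 LD2_c40 LD3_c41)) :=
  Lgr Lrot47 (Lpe (f455145 IH) (Lpe (f450685 IH) (Lpr_ff (f455237 IH) (Lpn (LP (LK LD1_c1 LD2_c40 LD3_c41))))))
theorem f450687 : Led Lsl_at (LP (LK LD1_c0 LD2_c46 LD3_c45)) = (LP (LK LD1_c1 LD2_c40 LD3_c36)) :=
  Lre_a IH (LK LD1_c0 LD2_c46 LD3_c45) (LK LD1_c1 LD2_c40 LD3_c36) Lrfl Lrfl
theorem f455490 : Led Lsl_gf (LP (LK LD1_c1 LD2_c40 LD3_c36)) = v612 :=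
  Lgr Lrot76 (Lpe (f450687 IH) (Lpr_ff (K24.f455156 IH) (Lpqs (K24.f455234 IH) (Lpr_gt (f455489 IH) (Lpn v612)))))
theorem f92524 : Led Lsl_et (LP (LK LD1_c0 LD2_c22 LD3_c6)) = (LP (LK LD1_c0 LD2_c49 LD3_c17)) :=
  Lre_e IH (LK LD1_c0 LD2_c22 LD3_c6) (LK LD1_c0 LD2_c49 LD3_c17) Lrfl Lrfl
theorem f461943 : v603 = (LP (LK LD1_c0 LD2_c48 LD3_c22)) :=
  (Llr Lrot112 (Lpr_gf (f455438 IH) (Lpe (K24.f446461 IH) (Lpr_et (K24.f446463 IH) (Lpr_gf (f455490 IH) (Lpq (f461930 IH) (Lpe (f92524 IH) (Lpe (K2.f92512 IH) (Lpe (K0.f5709 IH) (Lpe (K0.f4965 IH) (Lpr_gf (K2.f92338 IH) (Lpe (K3.f92347 IH) (Lpe (K24.f106002 IH) (Lpn (LP (LK LD1_c0 LD2_c48 LD3_c22)))))))))))))))).symm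
theorem f461955 : (LP (LK LD1_c1 LD2_c40 LD3_c41)) = v661 :=
  Lefun (Lecon (f455438 IH) (f461943 IH)) (f455827 IH)
theorem f450694 : Led Lsl_af (LP (LK LD1_c0 LD2_c20 LD3_c59)) = K24.v140 :=
  Lgr Lrot45 (Lpr_ft (K24.f450688 IH) (Lpe (K24.f450684 IH) (Lpr_ft (K24.f450693 IH) (Lpn K24.v140))))
theorem f455444 : Led Lsl_bf (LP (LK LD1_c1 LD2_c40 LD3_c41)) = (LP (LK LD1_c1 LD2_c40 LD3_c41)) :=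
  Lgr Lrot81 (Lpr_at (K24.f446471 IH) (Lpr_bt (K24.f15772 IH) (Lpqs (K24.f455230 IH) (Lpe (f450694 IH) (Lpr_bt (K24.f446429 IH) (Lpr_at (K24.f446440 IH) (Lpn (LP (LK LD1_c1 LD2_c40 LD3_c41)))))))))
theorem f455150 : Led Lsl_gt (LP (LK LD1_c1 LD2_c40 LD3_c37)) = (LP (LK LD1_c3 LD2_c28 LD3_c1)) :=
  Lre_g IH (LK LD1_c1 LD2_c40 LD3_c37) (LK LD1_c3 LD2_c28 LD3_c1) Lrfl Lrfl
theorem f455309 : Led Lsl_gt (LP (LK LD1_c3 LD2_c28 LD3_c1)) = (LP (LK LD1_c3 LD2_c28 LD3_c8)) :=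
  Lgr Lrot46 (Lpe (f455150 IH) (Lpr_ft (K24.f455286 IH) (Lpr_at (K24.f446478 IH) (Lpn (LP (LK LD1_c3 LD2_c28 LD3_c8))))))
theorem f464131 : Led Lsl_cf (LP (LK LD1_c3 LD2_c28 LD3_c1)) = (LP (LK LD1_c3 LD2_c39 LD3_c13)) :=
  Lgr Lrot125 (Lpr_gt (f455309 IH) (Lpe (K24.f446472 IH) (Lpe (f455444 IH) (Lpqs (f461955 IH) (Lpe (f455827 IH) (Lpe (f128104 IH) (Lpr_ct (f108766 IH) (Lpr_gt (K24.f460592 IH) (Lpe (f129659 IH) (Lpr_bt (f129655 IH) (Lpr_gt (f464126 IH) (Lpn (LP (LK LD1_c3 LD2_c39 LD3_c13))))))))))))))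
theorem f464140 : Led Lsl_gf (LP (LK LD1_c3 LD2_c33 LD3_c18)) = (LP (LK LD1_c1 LD2_c51 LD3_c3)) :=
  Lgr Lrot126 (Lpe (f108766 IH) (Lpr_bt (f128104 IH) (Lpq (f461943 IH) (Lpe (f455145 IH) (Lpr_ct (f15759 IH) (Lpr_gt (f455150 IH) (Lpr_cf (f464131 IH) (Lpe (K4.f5744 IH) (Lpr_gt (f463594 IH) (Lpe (f62773 IH) (Lpr_ct (f62777 IH) (Lpn (LP (LK LD1_c1 LD2_c51 LD3_c3))))))))))))))
theorem f464142 : Led Lsl_gt (LP (LK LD1_c3 LD2_c48 LD3_c1)) = (LP (LK LD1_c1 LD2_c51 LD3_c3)) :=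
  Lgr Lrot5 (Lpe (K24.f460680 IH) (Lpe (K5.f127756 IH) (Lpr_gf (f464140 IH) (Lpn (LP (LK LD1_c1 LD2_c51 LD3_c3))))))
theorem f464775 : Led Lsl_bt (LP (LK LD1_c3 LD2_c51 LD3_c57)) = (LP (LK LD1_c1 LD2_c52 LD3_c40)) :=
  Lre_b IH (LK LD1_c3 LD2_c51 LD3_c57) (LK LD1_c1 LD2_c52 LD3_c40) Lrfl Lrfl
theorem f458478 : Led Lsl_gt (LP (LK LD1_c1 LD2_c52 LD3_c40)) = (LP (LK LD1_c3 LD2_c51 LD3_c56)) :=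
  Lre_g IH (LK LD1_c1 LD2_c52 LD3_c40) (LK LD1_c3 LD2_c51 LD3_c56) Lrfl Lrfl
theorem f464788 : Led Lsl_cf (LP (LK LD1_c3 LD2_c48 LD3_c1)) = (LP (LK LD1_c3 LD2_c51 LD3_c56)) :=
  Lgr Lrot125 (Lpr_gt (f464142 IH) (Lpe (f62777 IH) (Lpr_bt (f62773 IH) (Lpr_gt (f464230 IH) (Lpe (f159494 IH) (Lpr_ct (f132099 IH) (Lpr_gt (f129166 IH) (Lpr_cf (f464713 IH) (Lpr_bt (f464775 IH) (Lpr_gt (f458478 IH) (Lpn (LP (LK LD1_c3 LD2_c51 LD3_c56)))))))))))))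
theorem f121915 : Led Lsl_at (LP (LK LD1_c6 LD2_c53 LD3_c10)) = (LP (LK LD1_c13 LD2_c2 LD3_c61)) :=
  Lgr Lrot100 (Lpr_af (f121913 IH) (Lpn (LP (LK LD1_c13 LD2_c2 LD3_c61))))
theorem f464414 : Led Lsl_gt (LP (LK LD1_c6 LD2_c57 LD3_c55)) = (LP (LK LD1_c13 LD2_c2 LD3_c61)) :=
  Lgr Lrot46 (Lpe (f98757 IH) (Lpr_ft (f464407 IH) (Lpr_at (f121915 IH) (Lpn (LP (LK LD1_c13 LD2_c2 LD3_c61))))))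
theorem f158517 : Led Lsl_bt (LP (LK LD1_c3 LD2_c55 LD3_c39)) = (LP (LK LD1_c6 LD2_c43 LD3_c19)) :=
  Lgr Lrot127 (Lpr_bf (f158514 IH) (Lpn (LP (LK LD1_c6 LD2_c43 LD3_c19))))
theorem f110289 : Led Lsl_bt (LP (LK LD1_c3 LD2_c46 LD3_c38)) = (LP (LK LD1_c7 LD2_c34 LD3_c4)) :=
  Lre_b IH (LK LD1_c3 LD2_c46 LD3_c38) (LK LD1_c7 LD2_c34 LD3_c4) Lrfl Lrfl
theorem f425045 : Led Lsl_af (LP (LK LD1_c3 LD2_c55 LD3_c39)) = (LP (LK LD1_c3 LD2_c25 LD3_c44)) :=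
  Lgr Lrot36 (Lpr_bt (f158517 IH) (Lpr_at (f425041 IH) (Lpr_bt (f110289 IH) (Lpe (K8.f162900 IH) (Lpr_bt (K8.f95239 IH) (Lpn (LP (LK LD1_c3 LD2_c25 LD3_c44))))))))
theorem f425544 : Led Lsl_gf (LP (LK LD1_c3 LD2_c24 LD3_c39)) = (LP (LK LD1_c3 LD2_c40 LD3_c25)) :=
  Lgr Lrot47 (Lpe (f102496 IH) (Lpr_af (f425045 IH) (Lpe (f162892 IH) (Lpn (LP (LK LD1_c3 LD2_c40 LD3_c25))))))
theorem f102519 : Led Lsl_at (LP (LK LD1_c1 LD2_c39 LD3_c29)) = (LP (LK LD1_c3 LD2_c24 LD3_c39)) :=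
  Lgr Lrot100 (Lpr_af (K4.f102517 IH) (Lpn (LP (LK LD1_c3 LD2_c24 LD3_c39))))
theorem f102525 : Led Lsl_ff (LP (LK LD1_c1 LD2_c39 LD3_c29)) = (LP (LK LD1_c3 LD2_c24 LD3_c35)) :=
  Lgr Lrot3 (Lpr_ft (K6.f102523 IH) (Lpn (LP (LK LD1_c3 LD2_c24 LD3_c35))))
theorem f425546 : Led Lsl_gt (LP (LK LD1_c3 LD2_c24 LD3_c35)) = (LP (LK LD1_c3 LD2_c40 LD3_c25)) :=
  Lgr Lrot5 (Lpe (f102525 IH) (Lpr_at (f102519 IH) (Lpr_gf (f425544 IH) (Lpn (LP (LK LD1_c3 LD2_c40 LD3_c25))))))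
theorem f95911 : Led Lsl_dt (LP (LK LD1_c1 LD2_c47 LD3_c9)) = (LP (LK LD1_c3 LD2_c40 LD3_c25)) :=
  Lre_d IH (LK LD1_c1 LD2_c47 LD3_c9) (LK LD1_c3 LD2_c40 LD3_c25) Lrfl Lrfl
theorem f425166 : Led Lsl_et (LP (LK LD1_c1 LD2_c47 LD3_c9)) = (LP (LK LD1_c3 LD2_c40 LD3_c26)) :=
  Lre_e IH (LK LD1_c1 LD2_c47 LD3_c9) (LK LD1_c3 LD2_c40 LD3_c26) Lrfl Lrfl
theorem f464417 : Led Lsl_gf (LP (LK LD1_c3 LD2_c26 LD3_c18)) = (LP (LK LD1_c3 LD2_c40 LD3_c26)) :=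
  Lgr Lrot141 (Lpe (f98748 IH) (Lpr_dt (f98756 IH) (Lpr_gt (f464414 IH) (Lpe (f91165 IH) (Lpr_et (K3.f91136 IH) (Lpr_gt (K2.f18174 IH) (Lpr_dt (K3.f65872 IH) (Lpr_gt (f425546 IH) (Lpe (f95911 IH) (Lpr_et (f425166 IH) (Lpn (LP (LK LD1_c3 LD2_c40 LD3_c26)))))))))))))
theorem f98714 : Led Lsl_bt (LP (LK LD1_c1 LD2_c39 LD3_c50)) = (LP (LK LD1_c3 LD2_c26 LD3_c17)) :=
  Lre_b IH (LK LD1_c1 LD2_c39 LD3_c50) (LK LD1_c3 LD2_c26 LD3_c17) Lrfl Lrfl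
def v765 : LQ := Led Lsl_gf (LP (LK LD1_c0 LD2_c50 LD3_c25))
theorem f457139 : Led Lsl_gf (LP (LK LD1_c0 LD2_c50 LD3_c25)) = v765 :=
  Lrfl
theorem f451852 : Led Lsl_ff (LP (LK LD1_c1 LD2_c54 LD3_c60)) = (LP (LK LD1_c1 LD2_c54 LD3_c48)) :=
  Lgr Lrot3 (Lpr_ft (f451828 IH) (Lpn (LP (LK LD1_c1 LD2_c54 LD3_c48))))
theorem f11357 : Led Lsl_ct (LP (LK LD1_c1 LD2_c54 LD3_c60)) = (LP (LK LD1_c0 LD2_c54 LD3_c11)) :=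
  Lre_c IH (LK LD1_c1 LD2_c54 LD3_c60) (LK LD1_c0 LD2_c54 LD3_c11) Lrfl Lrfl
theorem f451813 : Led Lsl_ct (LP (LK LD1_c0 LD2_c54 LD3_c5)) = (LP (LK LD1_c1 LD2_c54 LD3_c48)) :=
  Lre_c IH (LK LD1_c0 LD2_c54 LD3_c5) (LK LD1_c1 LD2_c54 LD3_c48) Lrfl Lrfl
theorem f451858 : Led Lsl_ft (LP (LK LD1_c0 LD2_c54 LD3_c11)) = (LP (LK LD1_c0 LD2_c54 LD3_c5)) :=
  Lgr Lrot4 (Lpe (f11357 IH) (Lpr_ff (f451852 IH) (Lpe (f451813 IH) (Lpn (LP (LK LD1_c0 LD2_c54 LD3_c5))))))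
theorem f448768 : Led Lsl_at (LP (LK LD1_c0 LD2_c54 LD3_c5)) = (LP (LK LD1_c0 LD2_c24 LD3_c20)) :=
  Lre_a IH (LK LD1_c0 LD2_c54 LD3_c5) (LK LD1_c0 LD2_c24 LD3_c20) Lrfl Lrfl
theorem f451906 : Led Lsl_gt (LP (LK LD1_c0 LD2_c54 LD3_c11)) = K24.v235 :=
  Lgr Lrot5 (Lpr_ft (f451858 IH) (Lpr_at (f448768 IH) (Lpr_gf (K24.f451252 IH) (Lpn K24.v235))))
theorem f462399 : (LP (LK LD1_c0 LD2_c54 LD3_c11)) = v765 :=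
  Lefun (Lecon (Lfl_gt (f451906 IH)) (f462396 IH)) (f457139 IH)
theorem f452023 : Led Lsl_bf (LP (LK LD1_c0 LD2_c54 LD3_c5)) = (LP (LK LD1_c0 LD2_c54 LD3_c5)) :=
  Lgr Lrot81 (Lpr_at (f448768 IH) (Lpr_bt (f11202 IH) (Lpq (K24.f451595 IH) (Lpe (K11.f448767 IH) (Lpr_bt (K24.f448769 IH) (Lpr_at (f448770 IH) (Lpn (LP (LK LD1_c0 LD2_c54 LD3_c5)))))))))
theorem f452031 : Led Lsl_bt (LP (LK LD1_c0 LD2_c54 LD3_c11)) = (LP (LK LD1_c0 LD2_c54 LD3_c11)) :=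
  Lgr Lrot35 (Lpr_ff (f451850 IH) (Lpr_bf (f452023 IH) (Lpe (f451858 IH) (Lpn (LP (LK LD1_c0 LD2_c54 LD3_c11))))))
theorem f451262 : Led Lsl_ct (LP (LK LD1_c3 LD2_c56 LD3_c14)) = (LP (LK LD1_c1 LD2_c54 LD3_c51)) :=
  Lre_c IH (LK LD1_c3 LD2_c56 LD3_c14) (LK LD1_c1 LD2_c54 LD3_c51) Lrfl Lrfl
theorem f464425 : Led Lsl_gt (LP (LK LD1_c3 LD2_c26 LD3_c17)) = (LP (LK LD1_c3 LD2_c56 LD3_c14)) :=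
  Lgr Lrot82 (Lpe (f98714 IH) (Lpr_ct (f15899 IH) (Lpr_gf (f464417 IH) (Lpe (f420090 IH) (Lpr_bt (f159491 IH) (Lpr_gf (f457139 IH) (Lpq (f462399 IH) (Lpe (f452031 IH) (Lpr_ct (f11371 IH) (Lpr_gf (f451833 IH) (Lpe (f451262 IH) (Lpn (LP (LK LD1_c3 LD2_c56 LD3_c14))))))))))))))
theorem f464801 : Led Lsl_bf (LP (LK LD1_c3 LD2_c56 LD3_c14)) = (LP (LK LD1_c3 LD2_c51 LD3_c56)) :=
  Lgr Lrot34 (Lpe (f464425 IH) (Lpe (f98714 IH) (Lpr_ct (f15899 IH) (Lpr_gf (f464417 IH) (Lpe (f420090 IH) (Lpe (f464230 IH) (Lpe (f62773 IH) (Lpr_ct (f62777 IH) (Lpe (f464142 IH) (Lpr_cf (f464788 IH) (Lpn (LP (LK LD1_c3 LD2_c51 LD3_c56)))))))))))))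
theorem f451837 : Led Lsl_bt (LP (LK LD1_c3 LD2_c56 LD3_c13)) = (LP (LK LD1_c1 LD2_c54 LD3_c51)) :=
  Lre_b IH (LK LD1_c3 LD2_c56 LD3_c13) (LK LD1_c1 LD2_c54 LD3_c51) Lrfl Lrfl
theorem f463121 : Led Lsl_et (LP (LK LD1_c1 LD2_c54 LD3_c51)) = (LP (LK LD1_c3 LD2_c54 LD3_c7)) :=
  Lgr Lrot74 (Lpe (f451837 IH) (Lpr_ef (f463115 IH) (Lpe (K8.f95874 IH) (Lpn (LP (LK LD1_c3 LD2_c54 LD3_c7))))))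
theorem f463125 : Led Lsl_ef (LP (LK LD1_c3 LD2_c56 LD3_c14)) = (LP (LK LD1_c6 LD2_c30 LD3_c44)) :=
  Lgr Lrot28 (Lpr_ct (f451262 IH) (Lpr_et (f463121 IH) (Lpe (K8.f95875 IH) (Lpn (LP (LK LD1_c6 LD2_c30 LD3_c44))))))
theorem f463139 : Led Lsl_et (LP (LK LD1_c3 LD2_c56 LD3_c14)) = (LP (LK LD1_c6 LD2_c30 LD3_c44)) :=
  Lgr Lrot87 (Lpr_ef (f463125 IH) (Lpn (LP (LK LD1_c6 LD2_c30 LD3_c44))))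
theorem f95844 : Led Lsl_ft (LP (LK LD1_c6 LD2_c34 LD3_c0)) = (LP (LK LD1_c3 LD2_c15 LD3_c19)) :=
  Lre_f IH (LK LD1_c6 LD2_c34 LD3_c0) (LK LD1_c3 LD2_c15 LD3_c19) Lrfl Lrfl
theorem f95845 : Led Lsl_bt (LP (LK LD1_c6 LD2_c30 LD3_c44)) = (LP (LK LD1_c6 LD2_c34 LD3_c0)) :=
  Lgr Lrot35 (Lpe (K8.f95843 IH) (Lpr_bf (K4.f95836 IH) (Lpe (f95844 IH) (Lpn (LP (LK LD1_c6 LD2_c34 LD3_c0))))))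
theorem f464803 : Led Lsl_et (LP (LK LD1_c6 LD2_c34 LD3_c0)) = (LP (LK LD1_c3 LD2_c51 LD3_c56)) :=
  Lgr Lrot74 (Lpe (f95845 IH) (Lpe (f463139 IH) (Lpr_bf (f464801 IH) (Lpn (LP (LK LD1_c3 LD2_c51 LD3_c56))))))
theorem f95773 : Led Lsl_ft (LP (LK LD1_c3 LD2_c15 LD3_c19)) = (LP (LK LD1_c6 LD2_c34 LD3_c0)) :=
  Lre_f IH (LK LD1_c3 LD2_c15 LD3_c19) (LK LD1_c6 LD2_c34 LD3_c0) Lrfl Lrfl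
theorem f464809 : Led Lsl_ff (LP (LK LD1_c3 LD2_c25 LD3_c24)) = (LP (LK LD1_c3 LD2_c51 LD3_c56)) :=
  Lgr Lrot72 (Lpr_et (K24.f110229 IH) (Lpr_ft (K4.f110221 IH) (Lpr_et (K3.f94535 IH) (Lpr_ft (f95773 IH) (Lpr_et (f464803 IH) (Lpn (LP (LK LD1_c3 LD2_c51 LD3_c56))))))))
theorem f128075 : Led Lsl_at (LP (LK LD1_c3 LD2_c25 LD3_c24)) = (LP (LK LD1_c1 LD2_c43 LD3_c24)) :=
  Lgr Lrot107 (Lpr_cf (K5.f128073 IH) (Lpe (K5.f127754 IH) (Lpe (f108766 IH) (Lpn (LP (LK LD1_c1 LD2_c43 LD3_c24))))))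
theorem f464814 : Led Lsl_gf (LP (LK LD1_c1 LD2_c52 LD3_c44)) = (LP (LK LD1_c3 LD2_c51 LD3_c56)) :=
  Lgr Lrot47 (Lpe (f463707 IH) (Lpe (f128075 IH) (Lpr_ff (f464809 IH) (Lpn (LP (LK LD1_c3 LD2_c51 LD3_c56))))))
theorem f451106 : Led Lsl_ct (LP (LK LD1_c0 LD2_c23 LD3_c53)) = (LP (LK LD1_c0 LD2_c10 LD3_c41)) :=
  Lre_c IH (LK LD1_c0 LD2_c23 LD3_c53) (LK LD1_c0 LD2_c10 LD3_c41) Lrfl Lrfl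
theorem f64992 : Led Lsl_ct (LP (LK LD1_c0 LD2_c47 LD3_c26)) = (LP (LK LD1_c0 LD2_c21 LD3_c13)) :=
  Lre_c IH (LK LD1_c0 LD2_c47 LD3_c26) (LK LD1_c0 LD2_c21 LD3_c13) Lrfl Lrfl
theorem f464812 : Led Lsl_dt (LP (LK LD1_c6 LD2_c34 LD3_c4)) = (LP (LK LD1_c3 LD2_c51 LD3_c56)) :=
  Lgr Lrot60 (Lpe (f108768 IH) (Lpe (K24.f128071 IH) (Lpr_ff (f464809 IH) (Lpn (LP (LK LD1_c3 LD2_c51 LD3_c56))))))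
theorem f464818 : Led Lsl_gf (LP (LK LD1_c3 LD2_c30 LD3_c24)) = (LP (LK LD1_c6 LD2_c34 LD3_c4)) :=
  Lgr Lrot147 (Lpr_ct (K24.f18822 IH) (Lpr_gt (K24.f64272 IH) (Lpr_ct (f64992 IH) (Lpe (K1.f62682 IH) (Lpe (f451106 IH) (Lpe (K24.f443237 IH) (Lpe (K24.f446560 IH) (Lpr_gf (f464814 IH) (Lpe (f464812 IH) (Lpn (LP (LK LD1_c6 LD2_c34 LD3_c4))))))))))))
theorem f464820 : Led Lsl_df (LP (LK LD1_c6 LD2_c34 LD3_c4)) = (LP (LK LD1_c3 LD2_c51 LD3_c56)) :=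
  Lgr Lrot155 (Lpe (f464818 IH) (Lpr_ct (K24.f18822 IH) (Lpr_gt (K24.f64272 IH) (Lpr_ct (f64992 IH) (Lpr_dt (K24.f62721 IH) (Lpe (f451106 IH) (Lpe (K24.f443237 IH) (Lpe (K24.f446560 IH) (Lpr_gf (f464814 IH) (Lpn (LP (LK LD1_c3 LD2_c51 LD3_c56))))))))))))
theorem f457652 : Led Lsl_dt (LP (LK LD1_c7 LD2_c2 LD3_c45)) = (LP (LK LD1_c3 LD2_c30 LD3_c24)) :=
  Lre_d IH (LK LD1_c7 LD2_c2 LD3_c45) (LK LD1_c3 LD2_c30 LD3_c24) Lrfl Lrfl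
theorem f458450 : Led Lsl_cf (LP (LK LD1_c3 LD2_c31 LD3_c13)) = (LP (LK LD1_c6 LD2_c58 LD3_c44)) :=
  Lgr Lrot11 (Lpr_ct (f458443 IH) (Lpn (LP (LK LD1_c6 LD2_c58 LD3_c44))))
theorem f458454 : Led Lsl_bt (LP (LK LD1_c3 LD2_c31 LD3_c14)) = (LP (LK LD1_c7 LD2_c4 LD3_c16)) :=
  Lre_b IH (LK LD1_c3 LD2_c31 LD3_c14) (LK LD1_c7 LD2_c4 LD3_c16) Lrfl Lrfl
theorem f18927 : Led Lsl_bt (LP (LK LD1_c13 LD2_c14 LD3_c56)) = (LP (LK LD1_c6 LD2_c58 LD3_c44)) :=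
  Lre_b IH (LK LD1_c13 LD2_c14 LD3_c56) (LK LD1_c6 LD2_c58 LD3_c44) Lrfl Lrfl
theorem f458455 : Led Lsl_ct (LP (LK LD1_c7 LD2_c4 LD3_c16)) = (LP (LK LD1_c13 LD2_c14 LD3_c56)) :=
  Lgr Lrot83 (Lpe (f458454 IH) (Lpe (K24.f455581 IH) (Lpe (f18952 IH) (Lpr_cf (f458450 IH) (Lpe (f18927 IH) (Lpn (LP (LK LD1_c13 LD2_c14 LD3_c56))))))))
theorem f458459 : Led Lsl_et (LP (LK LD1_c13 LD2_c24 LD3_c18)) = (LP (LK LD1_c7 LD2_c4 LD3_c16)) :=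
  Lre_e IH (LK LD1_c13 LD2_c24 LD3_c18) (LK LD1_c7 LD2_c4 LD3_c16) Lrfl Lrfl
theorem f63637 : Led Lsl_bt (LP (LK LD1_c6 LD2_c58 LD3_c44)) = (LP (LK LD1_c13 LD2_c14 LD3_c56)) :=
  Lre_b IH (LK LD1_c6 LD2_c58 LD3_c44) (LK LD1_c13 LD2_c14 LD3_c56) Lrfl Lrfl
theorem f63638 : Led Lsl_bt (LP (LK LD1_c7 LD2_c46 LD3_c20)) = (LP (LK LD1_c3 LD2_c52 LD3_c17)) :=
  Lre_b IH (LK LD1_c7 LD2_c46 LD3_c20) (LK LD1_c3 LD2_c52 LD3_c17) Lrfl Lrfl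
theorem f63639 : Led Lsl_et (LP (LK LD1_c13 LD2_c14 LD3_c56)) = (LP (LK LD1_c7 LD2_c46 LD3_c20)) :=
  Lgr Lrot74 (Lpe (f63637 IH) (Lpr_ef (K3.f63633 IH) (Lpe (f63638 IH) (Lpn (LP (LK LD1_c7 LD2_c46 LD3_c20))))))
theorem f458460 : Led Lsl_cf (LP (LK LD1_c13 LD2_c24 LD3_c18)) = (LP (LK LD1_c7 LD2_c46 LD3_c20)) :=
  Lgr Lrot39 (Lpr_et (f458459 IH) (Lpr_ct (f458455 IH) (Lpr_et (f63639 IH) (Lpn (LP (LK LD1_c7 LD2_c46 LD3_c20))))))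
theorem f458463 : Led Lsl_bt (LP (LK LD1_c13 LD2_c24 LD3_c18)) = (LP (LK LD1_c7 LD2_c4 LD3_c18)) :=
  Lre_b IH (LK LD1_c13 LD2_c24 LD3_c18) (LK LD1_c7 LD2_c4 LD3_c18) Lrfl Lrfl
theorem f98724 : Led Lsl_ct (LP (LK LD1_c7 LD2_c4 LD3_c18)) = (LP (LK LD1_c3 LD2_c31 LD3_c16)) :=
  Lre_c IH (LK LD1_c7 LD2_c4 LD3_c18) (LK LD1_c3 LD2_c31 LD3_c16) Lrfl Lrfl
theorem f457653 : Led Lsl_bf (LP (LK LD1_c7 LD2_c2 LD3_c45)) = (LP (LK LD1_c3 LD2_c31 LD3_c16)) :=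
  Lgr Lrot93 (Lpr_dt (f457652 IH) (Lpr_bt (K24.f457638 IH) (Lpe (f98727 IH) (Lpn (LP (LK LD1_c3 LD2_c31 LD3_c16))))))
theorem f64194 : Led Lsl_bt (LP (LK LD1_c3 LD2_c52 LD3_c17)) = (LP (LK LD1_c7 LD2_c46 LD3_c20)) :=
  Lre_b IH (LK LD1_c3 LD2_c52 LD3_c17) (LK LD1_c7 LD2_c46 LD3_c20) Lrfl Lrfl
theorem f458464 : Led Lsl_ct (LP (LK LD1_c7 LD2_c2 LD3_c45)) = (LP (LK LD1_c3 LD2_c52 LD3_c17)) :=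
  Lgr Lrot83 (Lpr_bf (f457653 IH) (Lpe (f98724 IH) (Lpe (f458463 IH) (Lpr_cf (f458460 IH) (Lpe (f64194 IH) (Lpn (LP (LK LD1_c3 LD2_c52 LD3_c17))))))))
theorem f458475 : Led Lsl_ef (LP (LK LD1_c7 LD2_c2 LD3_c45)) = (LP (LK LD1_c3 LD2_c31 LD3_c13)) :=
  Lgr Lrot28 (Lpr_ct (f458464 IH) (Lpe (K3.f63633 IH) (Lpe (f458450 IH) (Lpn (LP (LK LD1_c3 LD2_c31 LD3_c13))))))
theorem f458482 : Led Lsl_et (LP (LK LD1_c7 LD2_c2 LD3_c45)) = (LP (LK LD1_c3 LD2_c31 LD3_c13)) :=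
  Lgr Lrot87 (Lpr_ef (f458475 IH) (Lpn (LP (LK LD1_c3 LD2_c31 LD3_c13))))
theorem f17828 : Led Lsl_bt (LP (LK LD1_c3 LD2_c35 LD3_c59)) = (LP (LK LD1_c1 LD2_c44 LD3_c59)) :=
  Lre_b IH (LK LD1_c3 LD2_c35 LD3_c59) (LK LD1_c1 LD2_c44 LD3_c59) Lrfl Lrfl
theorem f108663 : Led Lsl_bt (LP (LK LD1_c1 LD2_c43 LD3_c3)) = (LP (LK LD1_c3 LD2_c32 LD3_c34)) :=
  Lre_b IH (LK LD1_c1 LD2_c43 LD3_c3) (LK LD1_c3 LD2_c32 LD3_c34) Lrfl Lrfl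
theorem f108664 : Led Lsl_ef (LP (LK LD1_c3 LD2_c35 LD3_c59)) = (LP (LK LD1_c3 LD2_c32 LD3_c34)) :=
  Lgr Lrot29 (Lpr_bt (f17828 IH) (Lpr_et (K3.f108654 IH) (Lpr_bt (f108663 IH) (Lpn (LP (LK LD1_c3 LD2_c32 LD3_c34))))))
theorem f461903 : Led Lsl_df (LP (LK LD1_c3 LD2_c27 LD3_c32)) = (LP (LK LD1_c3 LD2_c32 LD3_c34)) :=
  Lgr Lrot38 (Lpr_dt (K24.f461898 IH) (Lpn (LP (LK LD1_c3 LD2_c32 LD3_c34))))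
theorem f464811 : Led Lsl_et (LP (LK LD1_c3 LD2_c51 LD3_c59)) = (LP (LK LD1_c1 LD2_c52 LD3_c40)) :=
  Lre_e IH (LK LD1_c3 LD2_c51 LD3_c59) (LK LD1_c1 LD2_c52 LD3_c40) Lrfl Lrfl
theorem f464825 : Led Lsl_df (LP (LK LD1_c3 LD2_c47 LD3_c55)) = (LP (LK LD1_c3 LD2_c51 LD3_c59)) :=
  Lgr Lrot168 (Lpe (f463735 IH) (Lpr_df (f461903 IH) (Lpe (f108664 IH) (Lpe (f464557 IH) (Lpe (f458482 IH) (Lpr_dt (f457652 IH) (Lpr_gf (f464818 IH) (Lpr_df (f464820 IH) (Lpe (f458478 IH) (Lpe (f464811 IH) (Lpn (LP (LK LD1_c3 LD2_c51 LD3_c59)))))))))))))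
theorem f65523 : Led Lsl_et (LP (LK LD1_c3 LD2_c15 LD3_c22)) = (LP (LK LD1_c1 LD2_c34 LD3_c24)) :=
  Lre_e IH (LK LD1_c3 LD2_c15 LD3_c22) (LK LD1_c1 LD2_c34 LD3_c24) Lrfl Lrfl
theorem f107195 : Led Lsl_et (LP (LK LD1_c0 LD2_c48 LD3_c20)) = (LP (LK LD1_c1 LD2_c43 LD3_c24)) :=
  Lre_e IH (LK LD1_c0 LD2_c48 LD3_c20) (LK LD1_c1 LD2_c43 LD3_c24) Lrfl Lrfl
theorem f464834 : Led Lsl_gt (LP (LK LD1_c1 LD2_c43 LD3_c24)) = (LP (LK LD1_c1 LD2_c52 LD3_c40)) :=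
  Lgr Lrot131 (Lpe (f107195 IH) (Lpe (K3.f107188 IH) (Lpr_gf (K3.f104100 IH) (Lpe (K3.f62961 IH) (Lpe (K3.f62962 IH) (Lpe (f65523 IH) (Lpe (K5.f128069 IH) (Lpr_gf (f463733 IH) (Lpr_df (f464825 IH) (Lpr_et (f464811 IH) (Lpn (LP (LK LD1_c1 LD2_c52 LD3_c40)))))))))))))
theorem f14863 : Led Lsl_ct (LP (LK LD1_c0 LD2_c52 LD3_c24)) = (LP (LK LD1_c1 LD2_c50 LD3_c60)) :=
  Lre_c IH (LK LD1_c0 LD2_c52 LD3_c24) (LK LD1_c1 LD2_c50 LD3_c60) Lrfl Lrfl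
theorem f11171 : Led Lsl_bt (LP (LK LD1_c0 LD2_c10 LD3_c52)) = (LP (LK LD1_c0 LD2_c23 LD3_c57)) :=
  Lre_b IH (LK LD1_c0 LD2_c10 LD3_c52) (LK LD1_c0 LD2_c23 LD3_c57) Lrfl Lrfl
theorem f11172 : Led Lsl_at (LP (LK LD1_c0 LD2_c23 LD3_c57)) = (LP (LK LD1_c0 LD2_c52 LD3_c24)) :=
  Lre_a IH (LK LD1_c0 LD2_c23 LD3_c57) (LK LD1_c0 LD2_c52 LD3_c24) Lrfl Lrfl
theorem f11174 : Led Lsl_at (LP (LK LD1_c0 LD2_c52 LD3_c24)) = (LP (LK LD1_c0 LD2_c23 LD3_c57)) :=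
  Lre_a IH (LK LD1_c0 LD2_c52 LD3_c24) (LK LD1_c0 LD2_c23 LD3_c57) Lrfl Lrfl
theorem f11175 : Led Lsl_bt (LP (LK LD1_c0 LD2_c52 LD3_c24)) = (LP (LK LD1_c0 LD2_c52 LD3_c24)) :=
  Lgr Lrot62 (Lpe (f11172 IH) (Lpe (f11171 IH) (Lpr_af (K0.f11169 IH) (Lpe (K24.f11173 IH) (Lpe (f11174 IH) (Lpn (LP (LK LD1_c0 LD2_c52 LD3_c24))))))))
theorem f446563 : Led Lsl_bt (LP (LK LD1_c0 LD2_c53 LD3_c9)) = (LP (LK LD1_c0 LD2_c23 LD3_c56)) :=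
  Lre_b IH (LK LD1_c0 LD2_c53 LD3_c9) (LK LD1_c0 LD2_c23 LD3_c56) Lrfl Lrfl
theorem f446564 : Led Lsl_ct (LP (LK LD1_c0 LD2_c53 LD3_c9)) = (LP (LK LD1_c1 LD2_c53 LD3_c8)) :=
  Lre_c IH (LK LD1_c0 LD2_c53 LD3_c9) (LK LD1_c1 LD2_c53 LD3_c8) Lrfl Lrfl
theorem f464841 : Led Lsl_gf (LP (LK LD1_c1 LD2_c43 LD3_c27)) = (LP (LK LD1_c1 LD2_c53 LD3_c8)) :=
  Lgr Lrot126 (Lpe (K5.f128096 IH) (Lpr_bt (K5.f128091 IH) (Lpr_gt (f464834 IH) (Lpr_ct (f88015 IH) (Lpr_gt (K3.f14884 IH) (Lpe (f14863 IH) (Lpr_bt (f11175 IH) (Lpr_gt (K5.f64662 IH) (Lpe (f446563 IH) (Lpr_ct (f446564 IH) (Lpn (LP (LK LD1_c1 LD2_c53 LD3_c8)))))))))))))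
theorem f128165 : Led Lsl_at (LP (LK LD1_c1 LD2_c45 LD3_c11)) = (LP (LK LD1_c1 LD2_c43 LD3_c27)) :=
  Lgr Lrot100 (Lpr_af (K5.f128097 IH) (Lpn (LP (LK LD1_c1 LD2_c43 LD3_c27))))
theorem f450686 : Led Lsl_bt (LP (LK LD1_c0 LD2_c20 LD3_c58)) = (LP (LK LD1_c0 LD2_c46 LD3_c45)) :=
  Lre_b IH (LK LD1_c0 LD2_c20 LD3_c58) (LK LD1_c0 LD2_c46 LD3_c45) Lrfl Lrfl
theorem f450692 : Led Lsl_ct (LP (LK LD1_c1 LD2_c40 LD3_c35)) = (LP (LK LD1_c3 LD2_c27 LD3_c59)) :=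
  Lre_c IH (LK LD1_c1 LD2_c40 LD3_c35) (LK LD1_c3 LD2_c27 LD3_c59) Lrfl Lrfl
theorem f458592 : Led Lsl_gf (LP (LK LD1_c1 LD2_c53 LD3_c8)) = (LP (LK LD1_c3 LD2_c27 LD3_c59)) :=
  Lgr Lrot129 (Lpe (f446564 IH) (Lpr_bt (f446563 IH) (Lpr_gt (K5.f64989 IH) (Lpe (K24.f11219 IH) (Lpr_ct (K24.f11224 IH) (Lpr_gt (K24.f11325 IH) (Lpqs (K24.f457386 IH) (Lpq (K24.f457385 IH) (Lpe (K24.f450690 IH) (Lpr_bt (f450686 IH) (Lpr_gt (K24.f446455 IH) (Lpr_ct (f450692 IH) (Lpn (LP (LK LD1_c3 LD2_c27 LD3_c59)))))))))))))))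
theorem f464864 : Led Lsl_ff (LP (LK LD1_c1 LD2_c45 LD3_c11)) = (LP (LK LD1_c3 LD2_c27 LD3_c59)) :=
  Lgr Lrot52 (Lpr_at (f128165 IH) (Lpr_gf (f464841 IH) (Lpr_gf (f458592 IH) (Lpn (LP (LK LD1_c3 LD2_c27 LD3_c59))))))
theorem f128106 : Led Lsl_dt (LP (LK LD1_c3 LD2_c32 LD3_c41)) = (LP (LK LD1_c1 LD2_c43 LD3_c1)) :=
  Lre_d IH (LK LD1_c3 LD2_c32 LD3_c41) (LK LD1_c1 LD2_c43 LD3_c1) Lrfl Lrfl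
theorem f439439 : Led Lsl_ct (LP (LK LD1_c7 LD2_c6 LD3_c15)) = (LP (LK LD1_c3 LD2_c32 LD3_c41)) :=
  Lre_c IH (LK LD1_c7 LD2_c6 LD3_c15) (LK LD1_c3 LD2_c32 LD3_c41) Lrfl Lrfl
theorem f458602 : Led Lsl_dt (LP (LK LD1_c3 LD2_c27 LD3_c59)) = (LP (LK LD1_c6 LD2_c58 LD3_c9)) :=
  Lre_d IH (LK LD1_c3 LD2_c27 LD3_c59) (LK LD1_c6 LD2_c58 LD3_c9) Lrfl Lrfl
theorem f464900 : Led Lsl_ct (LP (LK LD1_c6 LD2_c58 LD3_c9)) = (LP (LK LD1_c13 LD2_c13 LD3_c59)) :=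
  Lre_c IH (LK LD1_c6 LD2_c58 LD3_c9) (LK LD1_c13 LD2_c13 LD3_c59) Lrfl Lrfl
theorem f464901 : Led Lsl_df (LP (LK LD1_c7 LD2_c6 LD3_c15)) = (LP (LK LD1_c13 LD2_c13 LD3_c59)) :=
  Lgr Lrot106 (Lpr_ct (f439439 IH) (Lpr_dt (f128106 IH) (Lpr_ct (K3.f92413 IH) (Lpe (K24.f106002 IH) (Lpr_ct (K5.f128096 IH) (Lpe (f128165 IH) (Lpr_ff (f464864 IH) (Lpr_dt (f458602 IH) (Lpr_ct (f464900 IH) (Lpn (LP (LK LD1_c13 LD2_c13 LD3_c59))))))))))))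
theorem f441571 : Led Lsl_ft (LP (LK LD1_c7 LD2_c6 LD3_c15)) = (LP (LK LD1_c13 LD2_c27 LD3_c45)) :=
  Lre_f IH (LK LD1_c7 LD2_c6 LD3_c15) (LK LD1_c13 LD2_c27 LD3_c45) Lrfl Lrfl
theorem f108245 : Led Lsl_dt (LP (LK LD1_c3 LD2_c35 LD3_c51)) = (LP (LK LD1_c7 LD2_c12 LD3_c20)) :=
  Lre_d IH (LK LD1_c3 LD2_c35 LD3_c51) (LK LD1_c7 LD2_c12 LD3_c20) Lrfl Lrfl
theorem f108630 : Led Lsl_dt (LP (LK LD1_c7 LD2_c6 LD3_c16)) = (LP (LK LD1_c3 LD2_c32 LD3_c42)) :=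
  Lre_d IH (LK LD1_c7 LD2_c6 LD3_c16) (LK LD1_c3 LD2_c32 LD3_c42) Lrfl Lrfl
theorem f108631 : Led Lsl_at (LP (LK LD1_c7 LD2_c12 LD3_c20)) = (LP (LK LD1_c7 LD2_c6 LD3_c16)) :=
  Lgr Lrot51 (Lpe (f108245 IH) (Lpr_af (K3.f108622 IH) (Lpe (f108630 IH) (Lpn (LP (LK LD1_c7 LD2_c6 LD3_c16))))))
theorem f441559 : Led Lsl_ft (LP (LK LD1_c3 LD2_c35 LD3_c50)) = (LP (LK LD1_c7 LD2_c12 LD3_c20)) :=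
  Lre_f IH (LK LD1_c3 LD2_c35 LD3_c50) (LK LD1_c7 LD2_c12 LD3_c20) Lrfl Lrfl
theorem f98525 : Led Lsl_dt (LP (LK LD1_c3 LD2_c35 LD3_c50)) = (LP (LK LD1_c1 LD2_c44 LD3_c45)) :=
  Lre_d IH (LK LD1_c3 LD2_c35 LD3_c50) (LK LD1_c1 LD2_c44 LD3_c45) Lrfl Lrfl
theorem f98526 : Led Lsl_ct (LP (LK LD1_c1 LD2_c44 LD3_c45)) = (LP (LK LD1_c0 LD2_c49 LD3_c2)) :=
  Lre_c IH (LK LD1_c1 LD2_c44 LD3_c45) (LK LD1_c0 LD2_c49 LD3_c2) Lrfl Lrfl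
theorem f105754 : Led Lsl_df (LP (LK LD1_c0 LD2_c49 LD3_c17)) = (LP (LK LD1_c0 LD2_c49 LD3_c2)) :=
  Lgr Lrot70 (Lpr_et (K24.f10243 IH) (Lpe (K2.f92512 IH) (Lpr_et (K3.f105748 IH) (Lpr_dt (K3.f5857 IH) (Lpr_et (K3.f10306 IH) (Lpn (LP (LK LD1_c0 LD2_c49 LD3_c2))))))))
theorem f128179 : Led Lsl_ct (LP (LK LD1_c0 LD2_c49 LD3_c17)) = (LP (LK LD1_c1 LD2_c45 LD3_c11)) :=
  Lre_c IH (LK LD1_c0 LD2_c49 LD3_c17) (LK LD1_c1 LD2_c45 LD3_c11) Lrfl Lrfl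
theorem f128173 : Led Lsl_dt (LP (LK LD1_c1 LD2_c45 LD3_c11)) = (LP (LK LD1_c3 LD2_c36 LD3_c41)) :=
  Lre_d IH (LK LD1_c1 LD2_c45 LD3_c11) (LK LD1_c3 LD2_c36 LD3_c41) Lrfl Lrfl
theorem f440169 : Led Lsl_ct (LP (LK LD1_c3 LD2_c36 LD3_c41)) = (LP (LK LD1_c7 LD2_c13 LD3_c42)) :=
  Lre_c IH (LK LD1_c3 LD2_c36 LD3_c41) (LK LD1_c7 LD2_c13 LD3_c42) Lrfl Lrfl
theorem f160445 : Led Lsl_ct (LP (LK LD1_c13 LD2_c27 LD3_c45)) = (LP (LK LD1_c7 LD2_c6 LD3_c16)) :=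
  Lre_c IH (LK LD1_c13 LD2_c27 LD3_c45) (LK LD1_c7 LD2_c6 LD3_c16) Lrfl Lrfl
theorem f441564 : Led Lsl_dt (LP (LK LD1_c7 LD2_c13 LD3_c42)) = (LP (LK LD1_c13 LD2_c27 LD3_c45)) :=
  Lgr Lrot120 (Lpe (f440169 IH) (Lpe (f128173 IH) (Lpe (f128179 IH) (Lpr_df (f105754 IH) (Lpe (f98526 IH) (Lpe (f98525 IH) (Lpr_ft (f441559 IH) (Lpr_at (f108631 IH) (Lpe (f160445 IH) (Lpn (LP (LK LD1_c13 LD2_c27 LD3_c45))))))))))))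
theorem f441566 : Led Lsl_df (LP (LK LD1_c7 LD2_c13 LD3_c42)) = (LP (LK LD1_c13 LD2_c27 LD3_c45)) :=
  Lgr Lrot38 (Lpr_dt (f441564 IH) (Lpn (LP (LK LD1_c13 LD2_c27 LD3_c45))))
theorem f464910 : Led Lsl_ft (LP (LK LD1_c7 LD2_c13 LD3_c42)) = (LP (LK LD1_c13 LD2_c13 LD3_c59)) :=
  Lgr Lrot54 (Lpr_df (f441566 IH) (Lpe (f441571 IH) (Lpr_df (f464901 IH) (Lpn (LP (LK LD1_c13 LD2_c13 LD3_c59))))))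
theorem f462165 : Led Lsl_ct (LP (LK LD1_c13 LD2_c13 LD3_c59)) = (LP (LK LD1_c6 LD2_c58 LD3_c9)) :=
  Lre_c IH (LK LD1_c13 LD2_c13 LD3_c59) (LK LD1_c6 LD2_c58 LD3_c9) Lrfl Lrfl
theorem f464923 : Led Lsl_ff (LP (LK LD1_c3 LD2_c36 LD3_c41)) = (LP (LK LD1_c6 LD2_c58 LD3_c9)) :=
  Lgr Lrot23 (Lpr_ct (f440169 IH) (Lpr_ft (f464910 IH) (Lpr_ct (f462165 IH) (Lpn (LP (LK LD1_c6 LD2_c58 LD3_c9))))))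
theorem f128102 : Led Lsl_dt (LP (LK LD1_c3 LD2_c33 LD3_c25)) = (LP (LK LD1_c1 LD2_c43 LD3_c27)) :=
  Lre_d IH (LK LD1_c3 LD2_c33 LD3_c25) (LK LD1_c1 LD2_c43 LD3_c27) Lrfl Lrfl
theorem f128174 : Led Lsl_at (LP (LK LD1_c3 LD2_c36 LD3_c41)) = (LP (LK LD1_c3 LD2_c33 LD3_c25)) :=
  Lgr Lrot51 (Lpe (f128173 IH) (Lpr_af (K5.f128097 IH) (Lpe (f128102 IH) (Lpn (LP (LK LD1_c3 LD2_c33 LD3_c25))))))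
theorem f128099 : Led Lsl_df (LP (LK LD1_c0 LD2_c48 LD3_c10)) = (LP (LK LD1_c0 LD2_c48 LD3_c22)) :=
  Lgr Lrot18 (Lpe (K3.f108617 IH) (Lpe (f105754 IH) (Lpr_at (K5.f128092 IH) (Lpn (LP (LK LD1_c0 LD2_c48 LD3_c22))))))
theorem f128105 : Led Lsl_ft (LP (LK LD1_c0 LD2_c48 LD3_c10)) = (LP (LK LD1_c1 LD2_c43 LD3_c3)) :=
  Lre_f IH (LK LD1_c0 LD2_c48 LD3_c10) (LK LD1_c1 LD2_c43 LD3_c3) Lrfl Lrfl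
theorem f455832 : Led Lsl_dt (LP (LK LD1_c1 LD2_c43 LD3_c3)) = K24.v662 :=
  Lgr Lrot60 (Lpe (f128105 IH) (Lpr_df (f128099 IH) (Lpr_ff (K24.f455831 IH) (Lpn K24.v662))))
theorem f461900 : Led Lsl_bf (LP (LK LD1_c3 LD2_c27 LD3_c32)) = K24.v662 :=
  Lgr Lrot93 (Lpr_dt (K24.f461898 IH) (Lpr_bt (K24.f108767 IH) (Lpr_dt (f455832 IH) (Lpn K24.v662))))
theorem f446487 : Led Lsl_ct (LP (LK LD1_c1 LD2_c40 LD3_c40)) = (LP (LK LD1_c3 LD2_c28 LD3_c7)) :=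
  Lre_c IH (LK LD1_c1 LD2_c40 LD3_c40) (LK LD1_c3 LD2_c28 LD3_c7) Lrfl Lrfl
theorem f129784 : Led Lsl_bt (LP (LK LD1_c1 LD2_c50 LD3_c61)) = (LP (LK LD1_c0 LD2_c52 LD3_c22)) :=
  Lre_b IH (LK LD1_c1 LD2_c50 LD3_c61) (LK LD1_c0 LD2_c52 LD3_c22) Lrfl Lrfl
theorem f446476 : Led Lsl_dt (LP (LK LD1_c3 LD2_c27 LD3_c61)) = (LP (LK LD1_c1 LD2_c40 LD3_c36)) :=
  Lre_d IH (LK LD1_c3 LD2_c27 LD3_c61) (LK LD1_c1 LD2_c40 LD3_c36) Lrfl Lrfl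
theorem f455352 : Led Lsl_ff (LP (LK LD1_c3 LD2_c27 LD3_c61)) = (LP (LK LD1_c3 LD2_c28 LD3_c0)) :=
  Lgr Lrot19 (Lpr_dt (f446476 IH) (Lpr_ft (K24.f455321 IH) (Lpe (K24.f446441 IH) (Lpn (LP (LK LD1_c3 LD2_c28 LD3_c0))))))
theorem f455172 : Led Lsl_at (LP (LK LD1_c3 LD2_c27 LD3_c61)) = (LP (LK LD1_c1 LD2_c40 LD3_c38)) :=
  Lre_a IH (LK LD1_c3 LD2_c27 LD3_c61) (LK LD1_c1 LD2_c40 LD3_c38) Lrfl Lrfl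
theorem f446470 : Led Lsl_at (LP (LK LD1_c1 LD2_c40 LD3_c39)) = (LP (LK LD1_c3 LD2_c28 LD3_c0)) :=
  Lre_a IH (LK LD1_c1 LD2_c40 LD3_c39) (LK LD1_c3 LD2_c28 LD3_c0) Lrfl Lrfl
theorem f455362 : Led Lsl_ft (LP (LK LD1_c1 LD2_c40 LD3_c38)) = (LP (LK LD1_c1 LD2_c40 LD3_c39)) :=
  Lgr Lrot101 (Lpe (f455172 IH) (Lpr_ff (f455352 IH) (Lpe (f446470 IH) (Lpn (LP (LK LD1_c1 LD2_c40 LD3_c39))))))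
theorem f455396 : Led Lsl_gt (LP (LK LD1_c3 LD2_c28 LD3_c4)) = (LP (LK LD1_c3 LD2_c28 LD3_c0)) :=
  Lgr Lrot46 (Lpe (f455146 IH) (Lpr_ft (f455362 IH) (Lpr_at (f446470 IH) (Lpn (LP (LK LD1_c3 LD2_c28 LD3_c0))))))
theorem f455185 : Led Lsl_ct (LP (LK LD1_c3 LD2_c28 LD3_c4)) = (LP (LK LD1_c6 LD2_c58 LD3_c22)) :=
  Lre_c IH (LK LD1_c3 LD2_c28 LD3_c4) (LK LD1_c6 LD2_c58 LD3_c22) Lrfl Lrfl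
theorem f458599 : Led Lsl_ct (LP (LK LD1_c1 LD2_c53 LD3_c8)) = (LP (LK LD1_c0 LD2_c53 LD3_c9)) :=
  Lre_c IH (LK LD1_c1 LD2_c53 LD3_c8) (LK LD1_c0 LD2_c53 LD3_c9) Lrfl Lrfl
theorem f129804 : Led Lsl_dt (LP (LK LD1_c0 LD2_c53 LD3_c9)) = (LP (LK LD1_c1 LD2_c53 LD3_c9)) :=
  Lre_d IH (LK LD1_c0 LD2_c53 LD3_c9) (LK LD1_c1 LD2_c53 LD3_c9) Lrfl Lrfl
theorem f129890 : Led Lsl_ct (LP (LK LD1_c3 LD2_c53 LD3_c9)) = (LP (LK LD1_c1 LD2_c53 LD3_c9)) :=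
  Lre_c IH (LK LD1_c3 LD2_c53 LD3_c9) (LK LD1_c1 LD2_c53 LD3_c9) Lrfl Lrfl
theorem f446448 : Led Lsl_dt (LP (LK LD1_c1 LD2_c40 LD3_c38)) = (LP (LK LD1_c0 LD2_c46 LD3_c45)) :=
  Lre_d IH (LK LD1_c1 LD2_c40 LD3_c38) (LK LD1_c0 LD2_c46 LD3_c45) Lrfl Lrfl
theorem f458600 : Led Lsl_gf (LP (LK LD1_c3 LD2_c53 LD3_c9)) = (LP (LK LD1_c6 LD2_c58 LD3_c22)) :=
  Lgr Lrot104 (Lpr_ct (f129890 IH) (Lpe (f129804 IH) (Lpe (f458599 IH) (Lpr_gf (f458592 IH) (Lpe (f450692 IH) (Lpe (K24.f446455 IH) (Lpe (f446448 IH) (Lpr_gt (f455146 IH) (Lpr_ct (f455185 IH) (Lpn (LP (LK LD1_c6 LD2_c58 LD3_c22))))))))))))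
theorem f94437 : Led Lsl_gt (LP (LK LD1_c7 LD2_c6 LD3_c14)) = (LP (LK LD1_c3 LD2_c32 LD3_c41)) :=
  Lre_g IH (LK LD1_c7 LD2_c6 LD3_c14) (LK LD1_c3 LD2_c32 LD3_c41) Lrfl Lrfl
theorem f461957 : Led Lsl_dt (LP (LK LD1_c3 LD2_c53 LD3_c9)) = (LP (LK LD1_c7 LD2_c6 LD3_c14)) :=
  Lgr Lrot57 (Lpr_gf (f458600 IH) (Lpe (f455185 IH) (Lpr_gt (f455396 IH) (Lpr_dt (K24.f446461 IH) (Lpe (f455438 IH) (Lpqs (f461943 IH) (Lpe (f128099 IH) (Lpe (K3.f92413 IH) (Lpe (f128106 IH) (Lpe (f94437 IH) (Lpn (LP (LK LD1_c7 LD2_c6 LD3_c14)))))))))))))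
theorem f94436 : Led Lsl_dt (LP (LK LD1_c1 LD2_c43 LD3_c1)) = (LP (LK LD1_c3 LD2_c32 LD3_c41)) :=
  Lre_d IH (LK LD1_c1 LD2_c43 LD3_c1) (LK LD1_c3 LD2_c32 LD3_c41) Lrfl Lrfl
theorem f94438 : Led Lsl_et (LP (LK LD1_c0 LD2_c49 LD3_c16)) = (LP (LK LD1_c1 LD2_c45 LD3_c11)) :=
  Lre_e IH (LK LD1_c0 LD2_c49 LD3_c16) (LK LD1_c1 LD2_c45 LD3_c11) Lrfl Lrfl
theorem f94439 : Led Lsl_gt (LP (LK LD1_c1 LD2_c45 LD3_c11)) = (LP (LK LD1_c3 LD2_c36 LD3_c39)) :=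
  Lre_g IH (LK LD1_c1 LD2_c45 LD3_c11) (LK LD1_c3 LD2_c36 LD3_c39) Lrfl Lrfl
theorem f461961 : Led Lsl_et (LP (LK LD1_c3 LD2_c53 LD3_c9)) = (LP (LK LD1_c3 LD2_c36 LD3_c39)) :=
  Lgr Lrot122 (Lpr_dt (f461957 IH) (Lpr_gt (f94437 IH) (Lpe (f94436 IH) (Lpr_et (K3.f94435 IH) (Lpe (K4.f94431 IH) (Lpr_dt (K3.f94419 IH) (Lpr_gt (K3.f94420 IH) (Lpe (K3.f17503 IH) (Lpr_et (f94438 IH) (Lpr_gt (f94439 IH) (Lpn (LP (LK LD1_c3 LD2_c36 LD3_c39)))))))))))))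
theorem f461968 : Led Lsl_ef (LP (LK LD1_c3 LD2_c53 LD3_c9)) = (LP (LK LD1_c3 LD2_c36 LD3_c39)) :=
  Lgr Lrot88 (Lpr_et (f461961 IH) (Lpn (LP (LK LD1_c3 LD2_c36 LD3_c39))))
theorem f129783 : Led Lsl_bt (LP (LK LD1_c0 LD2_c53 LD3_c11)) = (LP (LK LD1_c1 LD2_c53 LD3_c9)) :=
  Lre_b IH (LK LD1_c0 LD2_c53 LD3_c11) (LK LD1_c1 LD2_c53 LD3_c9) Lrfl Lrfl
theorem f129785 : Led Lsl_et (LP (LK LD1_c1 LD2_c53 LD3_c9)) = (LP (LK LD1_c1 LD2_c50 LD3_c61)) :=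
  Lgr Lrot74 (Lpe (f129783 IH) (Lpr_ef (K24.f129667 IH) (Lpe (f129784 IH) (Lpn (LP (LK LD1_c1 LD2_c50 LD3_c61))))))
theorem f461973 : Led Lsl_ct (LP (LK LD1_c1 LD2_c50 LD3_c61)) = (LP (LK LD1_c3 LD2_c36 LD3_c39)) :=
  Lgr Lrot15 (Lpe (f129785 IH) (Lpe (f129890 IH) (Lpr_ef (f461968 IH) (Lpn (LP (LK LD1_c3 LD2_c36 LD3_c39))))))
theorem f463750 : Led Lsl_gf (LP (LK LD1_c3 LD2_c28 LD3_c7)) = (LP (LK LD1_c3 LD2_c36 LD3_c39)) :=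
  Lgr Lrot126 (Lpe (f446487 IH) (Lpq (K24.f461932 IH) (Lpe (f461900 IH) (Lpr_gt (f463735 IH) (Lpr_ct (f11214 IH) (Lpr_gt (f14971 IH) (Lpe (f14952 IH) (Lpe (f11221 IH) (Lpr_gt (K24.f85281 IH) (Lpe (f129784 IH) (Lpr_ct (f461973 IH) (Lpn (LP (LK LD1_c3 LD2_c36 LD3_c39))))))))))))))
theorem f106220 : Led Lsl_ct (LP (LK LD1_c7 LD2_c13 LD3_c42)) = (LP (LK LD1_c3 LD2_c36 LD3_c41)) :=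
  Lre_c IH (LK LD1_c7 LD2_c13 LD3_c42) (LK LD1_c3 LD2_c36 LD3_c41) Lrfl Lrfl
theorem f106219 : Led Lsl_dt (LP (LK LD1_c3 LD2_c36 LD3_c41)) = (LP (LK LD1_c1 LD2_c45 LD3_c11)) :=
  Lre_d IH (LK LD1_c3 LD2_c36 LD3_c41) (LK LD1_c1 LD2_c45 LD3_c11) Lrfl Lrfl
theorem f98514 : Led Lsl_dt (LP (LK LD1_c1 LD2_c44 LD3_c45)) = (LP (LK LD1_c3 LD2_c35 LD3_c50)) :=
  Lre_d IH (LK LD1_c1 LD2_c44 LD3_c45) (LK LD1_c3 LD2_c35 LD3_c50) Lrfl Lrfl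
theorem f98528 : Led Lsl_ct (LP (LK LD1_c3 LD2_c35 LD3_c50)) = (LP (LK LD1_c7 LD2_c12 LD3_c19)) :=
  Lre_c IH (LK LD1_c3 LD2_c35 LD3_c50) (LK LD1_c7 LD2_c12 LD3_c19) Lrfl Lrfl
theorem f441568 : Led Lsl_ft (LP (LK LD1_c13 LD2_c27 LD3_c45)) = (LP (LK LD1_c7 LD2_c6 LD3_c15)) :=
  Lre_f IH (LK LD1_c13 LD2_c27 LD3_c45) (LK LD1_c7 LD2_c6 LD3_c15) Lrfl Lrfl
theorem f441572 : Led Lsl_af (LP (LK LD1_c7 LD2_c12 LD3_c19)) = (LP (LK LD1_c7 LD2_c6 LD3_c15)) :=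
  Lgr Lrot109 (Lpe (f98528 IH) (Lpe (f98514 IH) (Lpe (K3.f98527 IH) (Lpr_df (K24.f106204 IH) (Lpe (K5.f106218 IH) (Lpe (f106219 IH) (Lpe (f106220 IH) (Lpr_df (f441566 IH) (Lpr_ft (f441568 IH) (Lpn (LP (LK LD1_c7 LD2_c6 LD3_c15))))))))))))
theorem f128180 : Led Lsl_ct (LP (LK LD1_c7 LD2_c12 LD3_c19)) = (LP (LK LD1_c3 LD2_c35 LD3_c50)) :=
  Lre_c IH (LK LD1_c7 LD2_c12 LD3_c19) (LK LD1_c3 LD2_c35 LD3_c50) Lrfl Lrfl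
theorem f108637 : Led Lsl_ct (LP (LK LD1_c3 LD2_c32 LD3_c41)) = (LP (LK LD1_c7 LD2_c6 LD3_c15)) :=
  Lre_c IH (LK LD1_c3 LD2_c32 LD3_c41) (LK LD1_c7 LD2_c6 LD3_c15) Lrfl Lrfl
theorem f441579 : Led Lsl_at (LP (LK LD1_c3 LD2_c35 LD3_c50)) = (LP (LK LD1_c3 LD2_c32 LD3_c41)) :=
  Lgr Lrot107 (Lpe (f128180 IH) (Lpr_af (f441572 IH) (Lpe (f108637 IH) (Lpn (LP (LK LD1_c3 LD2_c32 LD3_c41))))))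
theorem f441606 : Led Lsl_ft (LP (LK LD1_c7 LD2_c12 LD3_c20)) = (LP (LK LD1_c3 LD2_c35 LD3_c50)) :=
  Lre_f IH (LK LD1_c7 LD2_c12 LD3_c20) (LK LD1_c3 LD2_c35 LD3_c50) Lrfl Lrfl
theorem f441608 : Led Lsl_gt (LP (LK LD1_c7 LD2_c12 LD3_c20)) = (LP (LK LD1_c7 LD2_c6 LD3_c14)) :=
  Lgr Lrot5 (Lpr_ft (f441606 IH) (Lpr_at (f441579 IH) (Lpe (f94437 IH) (Lpn (LP (LK LD1_c7 LD2_c6 LD3_c14))))))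
theorem f463756 : Led Lsl_ef (LP (LK LD1_c3 LD2_c28 LD3_c7)) = (LP (LK LD1_c3 LD2_c36 LD3_c52)) :=
  Lgr Lrot17 (Lpr_gf (f463750 IH) (Lpe (f461961 IH) (Lpr_dt (f461957 IH) (Lpe (f441608 IH) (Lpe (f108245 IH) (Lpr_gf (K8.f108635 IH) (Lpe (K8.f11551 IH) (Lpr_dt (K8.f11555 IH) (Lpe (K8.f160227 IH) (Lpe (K8.f107973 IH) (Lpn (LP (LK LD1_c3 LD2_c36 LD3_c52)))))))))))))
theorem f160465 : Led Lsl_ff (LP (LK LD1_c0 LD2_c49 LD3_c19)) = (LP (LK LD1_c0 LD2_c48 LD3_c21)) :=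
  Lgr Lrot30 (Lpr_at (K8.f160450 IH) (Lpe (K5.f128188 IH) (Lpr_at (K5.f128177 IH) (Lpn (LP (LK LD1_c0 LD2_c48 LD3_c21))))))
theorem f96476 : Led Lsl_et (LP (LK LD1_c1 LD2_c43 LD3_c27)) = (LP (LK LD1_c0 LD2_c48 LD3_c21)) :=
  Lre_e IH (LK LD1_c1 LD2_c43 LD3_c27) (LK LD1_c0 LD2_c48 LD3_c21) Lrfl Lrfl
theorem f463763 : Led Lsl_ft (LP (LK LD1_c3 LD2_c28 LD3_c7)) = (LP (LK LD1_c1 LD2_c43 LD3_c27)) :=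
  Lgr Lrot86 (Lpr_ef (f463756 IH) (Lpe (f160430 IH) (Lpe (f98085 IH) (Lpr_ff (f160465 IH) (Lpe (f96476 IH) (Lpn (LP (LK LD1_c1 LD2_c43 LD3_c27))))))))
theorem f455357 : Led Lsl_dt (LP (LK LD1_c6 LD2_c58 LD3_c27)) = (LP (LK LD1_c3 LD2_c28 LD3_c7)) :=
  Lre_d IH (LK LD1_c6 LD2_c58 LD3_c27) (LK LD1_c3 LD2_c28 LD3_c7) Lrfl Lrfl
theorem f96477 : Led Lsl_dt (LP (LK LD1_c1 LD2_c43 LD3_c27)) = (LP (LK LD1_c3 LD2_c33 LD3_c25)) :=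
  Lre_d IH (LK LD1_c1 LD2_c43 LD3_c27) (LK LD1_c3 LD2_c33 LD3_c25) Lrfl Lrfl
theorem f463767 : Led Lsl_ff (LP (LK LD1_c6 LD2_c58 LD3_c27)) = (LP (LK LD1_c3 LD2_c33 LD3_c25)) :=
  Lgr Lrot19 (Lpr_dt (f455357 IH) (Lpr_ft (f463763 IH) (Lpr_dt (f96477 IH) (Lpn (LP (LK LD1_c3 LD2_c33 LD3_c25))))))
theorem f464953 : Led Lsl_at (LP (LK LD1_c6 LD2_c58 LD3_c27)) = (LP (LK LD1_c6 LD2_c58 LD3_c9)) :=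
  Lgr Lrot66 (Lpr_ff (f463767 IH) (Lpe (f128174 IH) (Lpr_ff (f464923 IH) (Lpn (LP (LK LD1_c6 LD2_c58 LD3_c9))))))
theorem f455359 : Led Lsl_dt (LP (LK LD1_c3 LD2_c28 LD3_c7)) = (LP (LK LD1_c6 LD2_c58 LD3_c27)) :=
  Lre_d IH (LK LD1_c3 LD2_c28 LD3_c7) (LK LD1_c6 LD2_c58 LD3_c27) Lrfl Lrfl
theorem f458597 : Led Lsl_dt (LP (LK LD1_c6 LD2_c58 LD3_c9)) = (LP (LK LD1_c3 LD2_c27 LD3_c59)) :=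
  Lre_d IH (LK LD1_c6 LD2_c58 LD3_c9) (LK LD1_c3 LD2_c27 LD3_c59) Lrfl Lrfl
theorem f464963 : Led Lsl_af (LP (LK LD1_c3 LD2_c28 LD3_c7)) = (LP (LK LD1_c3 LD2_c27 LD3_c59)) :=
  Lgr Lrot117 (Lpr_dt (f455359 IH) (Lpr_at (f464953 IH) (Lpr_dt (f458597 IH) (Lpn (LP (LK LD1_c3 LD2_c27 LD3_c59))))))
theorem f455360 : Led Lsl_bt (LP (LK LD1_c3 LD2_c28 LD3_c7)) = (LP (LK LD1_c6 LD2_c58 LD3_c26)) :=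
  Lre_b IH (LK LD1_c3 LD2_c28 LD3_c7) (LK LD1_c6 LD2_c58 LD3_c26) Lrfl Lrfl
theorem f463808 : Led Lsl_at (LP (LK LD1_c6 LD2_c58 LD3_c26)) = (LP (LK LD1_c13 LD2_c14 LD3_c23)) :=
  Lre_a IH (LK LD1_c6 LD2_c58 LD3_c26) (LK LD1_c13 LD2_c14 LD3_c23) Lrfl Lrfl
theorem f458604 : Led Lsl_bt (LP (LK LD1_c6 LD2_c58 LD3_c8)) = (LP (LK LD1_c3 LD2_c27 LD3_c59)) :=
  Lre_b IH (LK LD1_c6 LD2_c58 LD3_c8) (LK LD1_c3 LD2_c27 LD3_c59) Lrfl Lrfl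
theorem f464971 : Led Lsl_at (LP (LK LD1_c13 LD2_c13 LD3_c58)) = (LP (LK LD1_c6 LD2_c58 LD3_c8)) :=
  Lre_a IH (LK LD1_c13 LD2_c13 LD3_c58) (LK LD1_c6 LD2_c58 LD3_c8) Lrfl Lrfl
theorem f464972 : Led Lsl_bt (LP (LK LD1_c13 LD2_c14 LD3_c23)) = (LP (LK LD1_c13 LD2_c13 LD3_c58)) :=
  Lgr Lrot62 (Lpe (f463808 IH) (Lpe (f455360 IH) (Lpr_af (f464963 IH) (Lpe (f458604 IH) (Lpe (f464971 IH) (Lpn (LP (LK LD1_c13 LD2_c13 LD3_c58))))))))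
theorem f463752 : Led Lsl_ct (LP (LK LD1_c6 LD2_c58 LD3_c27)) = (LP (LK LD1_c13 LD2_c14 LD3_c25)) :=
  Lre_c IH (LK LD1_c6 LD2_c58 LD3_c27) (LK LD1_c13 LD2_c14 LD3_c25) Lrfl Lrfl
theorem f463773 : Led Lsl_dt (LP (LK LD1_c13 LD2_c14 LD3_c25)) = (LP (LK LD1_c7 LD2_c12 LD3_c19)) :=
  Lgr Lrot32 (Lpe (f463752 IH) (Lpe (f455359 IH) (Lpr_ft (f463763 IH) (Lpe (K5.f128097 IH) (Lpe (f128179 IH) (Lpr_df (f105754 IH) (Lpe (f98526 IH) (Lpe (f98525 IH) (Lpe (f128180 IH) (Lpn (LP (LK LD1_c7 LD2_c12 LD3_c19))))))))))))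
theorem f440158 : Led Lsl_ct (LP (LK LD1_c3 LD2_c33 LD3_c25)) = (LP (LK LD1_c7 LD2_c7 LD3_c46)) :=
  Lre_c IH (LK LD1_c3 LD2_c33 LD3_c25) (LK LD1_c7 LD2_c7 LD3_c46) Lrfl Lrfl
theorem f440159 : Led Lsl_af (LP (LK LD1_c7 LD2_c13 LD3_c42)) = (LP (LK LD1_c7 LD2_c7 LD3_c46)) :=
  Lgr Lrot68 (Lpr_ct (f106220 IH) (Lpr_at (f128174 IH) (Lpr_ct (f440158 IH) (Lpn (LP (LK LD1_c7 LD2_c7 LD3_c46))))))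
theorem f463777 : Led Lsl_ft (LP (LK LD1_c13 LD2_c14 LD3_c25)) = (LP (LK LD1_c7 LD2_c7 LD3_c46)) :=
  Lgr Lrot142 (Lpr_dt (f463773 IH) (Lpr_ct (f128180 IH) (Lpr_dt (f98525 IH) (Lpr_ct (f98526 IH) (Lpe (f105754 IH) (Lpr_ct (f128179 IH) (Lpr_dt (f128173 IH) (Lpr_ct (f440169 IH) (Lpr_af (f440159 IH) (Lpn (LP (LK LD1_c7 LD2_c7 LD3_c46))))))))))))
theorem f463780 : Led Lsl_ff (LP (LK LD1_c13 LD2_c14 LD3_c25)) = (LP (LK LD1_c7 LD2_c7 LD3_c46)) :=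
  Lgr Lrot3 (Lpr_ft (f463777 IH) (Lpn (LP (LK LD1_c7 LD2_c7 LD3_c46))))
theorem f455358 : Led Lsl_ct (LP (LK LD1_c13 LD2_c14 LD3_c25)) = (LP (LK LD1_c6 LD2_c58 LD3_c27)) :=
  Lre_c IH (LK LD1_c13 LD2_c14 LD3_c25) (LK LD1_c6 LD2_c58 LD3_c27) Lrfl Lrfl
theorem f463785 : Led Lsl_ft (LP (LK LD1_c6 LD2_c58 LD3_c27)) = (LP (LK LD1_c3 LD2_c33 LD3_c25)) :=
  Lgr Lrot4 (Lpe (f455358 IH) (Lpr_ff (f463780 IH) (Lpe (f440158 IH) (Lpn (LP (LK LD1_c3 LD2_c33 LD3_c25))))))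
theorem f463788 : Led Lsl_bt (LP (LK LD1_c13 LD2_c14 LD3_c24)) = (LP (LK LD1_c6 LD2_c58 LD3_c27)) :=
  Lre_b IH (LK LD1_c13 LD2_c14 LD3_c24) (LK LD1_c6 LD2_c58 LD3_c27) Lrfl Lrfl
theorem f440157 : Led Lsl_bt (LP (LK LD1_c3 LD2_c33 LD3_c25)) = (LP (LK LD1_c7 LD2_c7 LD3_c37)) :=
  Lre_b IH (LK LD1_c3 LD2_c33 LD3_c25) (LK LD1_c7 LD2_c7 LD3_c37) Lrfl Lrfl
theorem f463789 : Led Lsl_ff (LP (LK LD1_c13 LD2_c14 LD3_c24)) = (LP (LK LD1_c7 LD2_c7 LD3_c37)) :=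
  Lgr Lrot25 (Lpr_bt (f463788 IH) (Lpr_ft (f463785 IH) (Lpr_bt (f440157 IH) (Lpn (LP (LK LD1_c7 LD2_c7 LD3_c37))))))
theorem f463791 : Led Lsl_dt (LP (LK LD1_c13 LD2_c14 LD3_c24)) = (LP (LK LD1_c6 LD2_c58 LD3_c26)) :=
  Lre_d IH (LK LD1_c13 LD2_c14 LD3_c24) (LK LD1_c6 LD2_c58 LD3_c26) Lrfl Lrfl
theorem f89725 : Led Lsl_dt (LP (LK LD1_c3 LD2_c33 LD3_c22)) = (LP (LK LD1_c7 LD2_c7 LD3_c37)) :=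
  Lre_d IH (LK LD1_c3 LD2_c33 LD3_c22) (LK LD1_c7 LD2_c7 LD3_c37) Lrfl Lrfl
theorem f463792 : Led Lsl_ft (LP (LK LD1_c6 LD2_c58 LD3_c26)) = (LP (LK LD1_c3 LD2_c33 LD3_c22)) :=
  Lgr Lrot54 (Lpe (f463791 IH) (Lpr_ff (f463789 IH) (Lpe (f89725 IH) (Lpn (LP (LK LD1_c3 LD2_c33 LD3_c22))))))
theorem f463797 : Led Lsl_at (LP (LK LD1_c13 LD2_c14 LD3_c23)) = (LP (LK LD1_c6 LD2_c58 LD3_c26)) :=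
  Lre_a IH (LK LD1_c13 LD2_c14 LD3_c23) (LK LD1_c6 LD2_c58 LD3_c26) Lrfl Lrfl
theorem f160492 : Led Lsl_at (LP (LK LD1_c3 LD2_c33 LD3_c22)) = (LP (LK LD1_c7 LD2_c7 LD3_c34)) :=
  Lre_a IH (LK LD1_c3 LD2_c33 LD3_c22) (LK LD1_c7 LD2_c7 LD3_c34) Lrfl Lrfl
theorem f463798 : Led Lsl_ff (LP (LK LD1_c13 LD2_c14 LD3_c23)) = (LP (LK LD1_c7 LD2_c7 LD3_c34)) :=
  Lgr Lrot30 (Lpr_at (f463797 IH) (Lpr_ft (f463792 IH) (Lpr_at (f160492 IH) (Lpn (LP (LK LD1_c7 LD2_c7 LD3_c34))))))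
theorem f128167 : Led Lsl_bt (LP (LK LD1_c1 LD2_c45 LD3_c11)) = (LP (LK LD1_c3 LD2_c36 LD3_c38)) :=
  Lre_b IH (LK LD1_c1 LD2_c45 LD3_c11) (LK LD1_c3 LD2_c36 LD3_c38) Lrfl Lrfl
theorem f128168 : Led Lsl_at (LP (LK LD1_c3 LD2_c36 LD3_c38)) = (LP (LK LD1_c7 LD2_c13 LD3_c32)) :=
  Lre_a IH (LK LD1_c3 LD2_c36 LD3_c38) (LK LD1_c7 LD2_c13 LD3_c32) Lrfl Lrfl
theorem f128169 : Led Lsl_bt (LP (LK LD1_c3 LD2_c33 LD3_c22)) = (LP (LK LD1_c1 LD2_c43 LD3_c27)) :=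
  Lre_b IH (LK LD1_c3 LD2_c33 LD3_c22) (LK LD1_c1 LD2_c43 LD3_c27) Lrfl Lrfl
theorem f128170 : Led Lsl_at (LP (LK LD1_c7 LD2_c7 LD3_c34)) = (LP (LK LD1_c3 LD2_c33 LD3_c22)) :=
  Lre_a IH (LK LD1_c7 LD2_c7 LD3_c34) (LK LD1_c3 LD2_c33 LD3_c22) Lrfl Lrfl
theorem f128171 : Led Lsl_bt (LP (LK LD1_c7 LD2_c13 LD3_c32)) = (LP (LK LD1_c7 LD2_c7 LD3_c34)) :=
  Lgr Lrot62 (Lpe (f128168 IH) (Lpe (f128167 IH) (Lpr_af (K5.f128097 IH) (Lpe (f128169 IH) (Lpe (f128170 IH) (Lpn (LP (LK LD1_c7 LD2_c7 LD3_c34))))))))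
theorem f464976 : Led Lsl_ff (LP (LK LD1_c7 LD2_c13 LD3_c32)) = (LP (LK LD1_c13 LD2_c13 LD3_c58)) :=
  Lgr Lrot25 (Lpr_bt (f128171 IH) (Lpe (f463798 IH) (Lpr_bt (f464972 IH) (Lpn (LP (LK LD1_c13 LD2_c13 LD3_c58))))))
theorem f464981 : Led Lsl_ft (LP (LK LD1_c7 LD2_c13 LD3_c32)) = (LP (LK LD1_c13 LD2_c13 LD3_c58)) :=
  Lgr Lrot48 (Lpr_ff (f464976 IH) (Lpn (LP (LK LD1_c13 LD2_c13 LD3_c58))))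
theorem f160474 : Led Lsl_et (LP (LK LD1_c3 LD2_c36 LD3_c37)) = (LP (LK LD1_c7 LD2_c13 LD3_c32)) :=
  Lre_e IH (LK LD1_c3 LD2_c36 LD3_c37) (LK LD1_c7 LD2_c13 LD3_c32) Lrfl Lrfl
theorem f11778 : Led Lsl_et (LP (LK LD1_c7 LD2_c7 LD3_c1)) = (LP (LK LD1_c3 LD2_c33 LD3_c4)) :=
  Lre_e IH (LK LD1_c7 LD2_c7 LD3_c1) (LK LD1_c3 LD2_c33 LD3_c4) Lrfl Lrfl
theorem f11744 : Led Lsl_ft (LP (LK LD1_c13 LD2_c29 LD3_c14)) = (LP (LK LD1_c7 LD2_c7 LD3_c1)) :=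
  Lre_f IH (LK LD1_c13 LD2_c29 LD3_c14) (LK LD1_c7 LD2_c7 LD3_c1) Lrfl Lrfl
theorem f464989 : Led Lsl_ef (LP (LK LD1_c13 LD2_c29 LD3_c14)) = (LP (LK LD1_c13 LD2_c13 LD3_c58)) :=
  Lgr Lrot21 (Lpr_ft (f11744 IH) (Lpr_et (f11778 IH) (Lpe (K8.f160470 IH) (Lpr_et (f160474 IH) (Lpr_ft (f464981 IH) (Lpn (LP (LK LD1_c13 LD2_c13 LD3_c58))))))))
theorem f11705 : Led Lsl_at (LP (LK LD1_c13 LD2_c29 LD3_c14)) = (LP (LK LD1_c7 LD2_c7 LD3_c5)) :=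
  Lre_a IH (LK LD1_c13 LD2_c29 LD3_c14) (LK LD1_c7 LD2_c7 LD3_c5) Lrfl Lrfl
theorem f464978 : Led Lsl_at (LP (LK LD1_c6 LD2_c58 LD3_c8)) = (LP (LK LD1_c13 LD2_c13 LD3_c58)) :=
  Lre_a IH (LK LD1_c6 LD2_c58 LD3_c8) (LK LD1_c13 LD2_c13 LD3_c58) Lrfl Lrfl
theorem f464999 : Led Lsl_et (LP (LK LD1_c7 LD2_c7 LD3_c5)) = (LP (LK LD1_c6 LD2_c58 LD3_c8)) :=
  Lgr Lrot123 (Lpe (f11705 IH) (Lpr_ef (f464989 IH) (Lpe (f464978 IH) (Lpn (LP (LK LD1_c6 LD2_c58 LD3_c8))))))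
theorem f465003 : Led Lsl_ef (LP (LK LD1_c7 LD2_c7 LD3_c5)) = (LP (LK LD1_c6 LD2_c58 LD3_c8)) :=
  Lgr Lrot88 (Lpr_et (f464999 IH) (Lpn (LP (LK LD1_c6 LD2_c58 LD3_c8))))
theorem f464618 : Led Lsl_bf (LP (LK LD1_c3 LD2_c27 LD3_c42)) = K24.v702 :=
  Lgr Lrot61 (Lpr_ft (f464614 IH) (Lpr_bt (K5.f106203 IH) (Lpr_ft (K24.f456839 IH) (Lpn K24.v702))))
theorem f455406 : Led Lsl_ct (LP (LK LD1_c3 LD2_c27 LD3_c59)) = (LP (LK LD1_c1 LD2_c40 LD3_c35)) :=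
  Lre_c IH (LK LD1_c3 LD2_c27 LD3_c59) (LK LD1_c1 LD2_c40 LD3_c35) Lrfl Lrfl
theorem f464695 : Led Lsl_bt (LP (LK LD1_c1 LD2_c55 LD3_c0)) = (LP (LK LD1_c3 LD2_c56 LD3_c34)) :=
  Lre_b IH (LK LD1_c1 LD2_c55 LD3_c0) (LK LD1_c3 LD2_c56 LD3_c34) Lrfl Lrfl
theorem f464696 : Led Lsl_cf (LP (LK LD1_c6 LD2_c58 LD3_c8)) = (LP (LK LD1_c3 LD2_c56 LD3_c34)) :=
  Lgr Lrot97 (Lpr_bt (f458604 IH) (Lpr_ct (f455406 IH) (Lpqs (K24.f461944 IH) (Lpe (f464618 IH) (Lpr_ct (f464689 IH) (Lpr_bt (f464695 IH) (Lpn (LP (LK LD1_c3 LD2_c56 LD3_c34)))))))))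
theorem f465005 : Led Lsl_et (LP (LK LD1_c7 LD2_c51 LD3_c50)) = (LP (LK LD1_c3 LD2_c56 LD3_c34)) :=
  Lgr Lrot158 (Lpr_cf (K8.f11699 IH) (Lpr_ef (f465003 IH) (Lpr_cf (f464696 IH) (Lpn (LP (LK LD1_c3 LD2_c56 LD3_c34))))))
theorem f11797 : Led Lsl_ft (LP (LK LD1_c3 LD2_c55 LD3_c4)) = (LP (LK LD1_c7 LD2_c51 LD3_c50)) :=
  Lre_f IH (LK LD1_c3 LD2_c55 LD3_c4) (LK LD1_c7 LD2_c51 LD3_c50) Lrfl Lrfl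
theorem f159798 : Led Lsl_et (LP (LK LD1_c3 LD2_c54 LD3_c11)) = (LP (LK LD1_c1 LD2_c53 LD3_c42)) :=
  Lre_e IH (LK LD1_c3 LD2_c54 LD3_c11) (LK LD1_c1 LD2_c53 LD3_c42) Lrfl Lrfl
theorem f465016 : Led Lsl_ff (LP (LK LD1_c3 LD2_c54 LD3_c11)) = (LP (LK LD1_c3 LD2_c56 LD3_c34)) :=
  Lgr Lrot72 (Lpr_et (f159798 IH) (Lpr_ft (K8.f159784 IH) (Lpr_et (K8.f11739 IH) (Lpr_ft (f11797 IH) (Lpr_et (f465005 IH) (Lpn (LP (LK LD1_c3 LD2_c56 LD3_c34))))))))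
theorem f465029 : Led Lsl_ft (LP (LK LD1_c3 LD2_c54 LD3_c11)) = (LP (LK LD1_c3 LD2_c56 LD3_c34)) :=
  Lgr Lrot48 (Lpr_ff (f465016 IH) (Lpn (LP (LK LD1_c3 LD2_c56 LD3_c34))))
theorem f160507 : Led Lsl_dt (LP (LK LD1_c7 LD2_c49 LD3_c57)) = (LP (LK LD1_c3 LD2_c54 LD3_c11)) :=
  Lre_d IH (LK LD1_c7 LD2_c49 LD3_c57) (LK LD1_c3 LD2_c54 LD3_c11) Lrfl Lrfl
theorem f465010 : Led Lsl_dt (LP (LK LD1_c3 LD2_c56 LD3_c34)) = (LP (LK LD1_c7 LD2_c54 LD3_c53)) :=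
  Lre_d IH (LK LD1_c3 LD2_c56 LD3_c34) (LK LD1_c7 LD2_c54 LD3_c53) Lrfl Lrfl
theorem f465039 : Led Lsl_ff (LP (LK LD1_c7 LD2_c49 LD3_c57)) = (LP (LK LD1_c7 LD2_c54 LD3_c53)) :=
  Lgr Lrot19 (Lpr_dt (f160507 IH) (Lpr_ft (f465029 IH) (Lpr_dt (f465010 IH) (Lpn (LP (LK LD1_c7 LD2_c54 LD3_c53))))))
theorem f160500 : Led Lsl_ct (LP (LK LD1_c7 LD2_c49 LD3_c57)) = (LP (LK LD1_c14 LD2_c46 LD3_c26)) :=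
  Lre_c IH (LK LD1_c7 LD2_c49 LD3_c57) (LK LD1_c14 LD2_c46 LD3_c26) Lrfl Lrfl
theorem f464994 : Led Lsl_ct (LP (LK LD1_c14 LD2_c55 LD3_c45)) = (LP (LK LD1_c7 LD2_c54 LD3_c53)) :=
  Lre_c IH (LK LD1_c14 LD2_c55 LD3_c45) (LK LD1_c7 LD2_c54 LD3_c53) Lrfl Lrfl
theorem f465053 : Led Lsl_ft (LP (LK LD1_c14 LD2_c46 LD3_c26)) = (LP (LK LD1_c14 LD2_c55 LD3_c45)) :=
  Lgr Lrot4 (Lpe (f160500 IH) (Lpr_ff (f465039 IH) (Lpe (f464994 IH) (Lpn (LP (LK LD1_c14 LD2_c55 LD3_c45))))))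
theorem f465066 : Led Lsl_ff (LP (LK LD1_c14 LD2_c46 LD3_c26)) = (LP (LK LD1_c14 LD2_c55 LD3_c45)) :=
  Lgr Lrot3 (Lpr_ft (f465053 IH) (Lpn (LP (LK LD1_c14 LD2_c55 LD3_c45))))
theorem f160581 : Led Lsl_bt (LP (LK LD1_c14 LD2_c46 LD3_c26)) = (LP (LK LD1_c24 LD2_c32 LD3_c39)) :=
  Lre_b IH (LK LD1_c14 LD2_c46 LD3_c26) (LK LD1_c24 LD2_c32 LD3_c39) Lrfl Lrfl
theorem f465072 : Led Lsl_bt (LP (LK LD1_c24 LD2_c43 LD3_c9)) = (LP (LK LD1_c14 LD2_c55 LD3_c45)) :=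
  Lre_b IH (LK LD1_c24 LD2_c43 LD3_c9) (LK LD1_c14 LD2_c55 LD3_c45) Lrfl Lrfl
theorem f465073 : Led Lsl_ft (LP (LK LD1_c24 LD2_c32 LD3_c39)) = (LP (LK LD1_c24 LD2_c43 LD3_c9)) :=
  Lgr Lrot75 (Lpe (f160581 IH) (Lpr_ff (f465066 IH) (Lpe (f465072 IH) (Lpn (LP (LK LD1_c24 LD2_c43 LD3_c9))))))
theorem f159970 : Led Lsl_ct (LP (LK LD1_c14 LD2_c46 LD3_c29)) = (LP (LK LD1_c24 LD2_c32 LD3_c39)) :=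
  Lre_c IH (LK LD1_c14 LD2_c46 LD3_c29) (LK LD1_c24 LD2_c32 LD3_c39) Lrfl Lrfl
theorem f465077 : Led Lsl_ct (LP (LK LD1_c24 LD2_c43 LD3_c9)) = (LP (LK LD1_c14 LD2_c55 LD3_c47)) :=
  Lre_c IH (LK LD1_c24 LD2_c43 LD3_c9) (LK LD1_c14 LD2_c55 LD3_c47) Lrfl Lrfl
theorem f465078 : Led Lsl_ff (LP (LK LD1_c14 LD2_c46 LD3_c29)) = (LP (LK LD1_c14 LD2_c55 LD3_c47)) :=
  Lgr Lrot23 (Lpr_ct (f159970 IH) (Lpr_ft (f465073 IH) (Lpr_ct (f465077 IH) (Lpn (LP (LK LD1_c14 LD2_c55 LD3_c47))))))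
theorem f465086 : Led Lsl_ft (LP (LK LD1_c14 LD2_c46 LD3_c29)) = (LP (LK LD1_c14 LD2_c55 LD3_c47)) :=
  Lgr Lrot48 (Lpr_ff (f465078 IH) (Lpn (LP (LK LD1_c14 LD2_c55 LD3_c47))))
theorem f159953 : Led Lsl_bt (LP (LK LD1_c7 LD2_c49 LD3_c59)) = (LP (LK LD1_c14 LD2_c46 LD3_c29)) :=
  Lre_b IH (LK LD1_c7 LD2_c49 LD3_c59) (LK LD1_c14 LD2_c46 LD3_c29) Lrfl Lrfl
theorem f464734 : Led Lsl_bt (LP (LK LD1_c14 LD2_c55 LD3_c47)) = (LP (LK LD1_c7 LD2_c54 LD3_c54)) :=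
  Lre_b IH (LK LD1_c14 LD2_c55 LD3_c47) (LK LD1_c7 LD2_c54 LD3_c54) Lrfl Lrfl
theorem f465093 : Led Lsl_ff (LP (LK LD1_c7 LD2_c49 LD3_c59)) = (LP (LK LD1_c7 LD2_c54 LD3_c54)) :=
  Lgr Lrot25 (Lpr_bt (f159953 IH) (Lpr_ft (f465086 IH) (Lpr_bt (f464734 IH) (Lpn (LP (LK LD1_c7 LD2_c54 LD3_c54))))))
theorem f132089 : Led Lsl_ct (LP (LK LD1_c7 LD2_c21 LD3_c21)) = (LP (LK LD1_c13 LD2_c54 LD3_c24)) :=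
  Lre_c IH (LK LD1_c7 LD2_c21 LD3_c21) (LK LD1_c13 LD2_c54 LD3_c24) Lrfl Lrfl
theorem f464632 : Led Lsl_gt (LP (LK LD1_c13 LD2_c54 LD3_c24)) = (LP (LK LD1_c7 LD2_c51 LD3_c42)) :=
  Lgr Lrot150 (Lpe (f132089 IH) (Lpr_gf (f462459 IH) (Lpe (f452021 IH) (Lpr_gt (K24.f457968 IH) (Lpr_ct (K24.f19072 IH) (Lpr_gt (f464624 IH) (Lpr_ct (f121013 IH) (Lpe (f121069 IH) (Lpe (f121062 IH) (Lpn (LP (LK LD1_c7 LD2_c51 LD3_c42))))))))))))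
theorem f465099 : Led Lsl_gf (LP (LK LD1_c13 LD2_c54 LD3_c24)) = (LP (LK LD1_c7 LD2_c54 LD3_c54)) :=
  Lgr Lrot47 (Lpr_gt (f464632 IH) (Lpr_af (f159939 IH) (Lpr_ff (f465093 IH) (Lpn (LP (LK LD1_c7 LD2_c54 LD3_c54))))))
theorem f132100 : Led Lsl_ct (LP (LK LD1_c13 LD2_c54 LD3_c24)) = (LP (LK LD1_c7 LD2_c21 LD3_c21)) :=
  Lre_c IH (LK LD1_c13 LD2_c54 LD3_c24) (LK LD1_c7 LD2_c21 LD3_c21) Lrfl Lrfl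
theorem f464349 : Led Lsl_cf (LP (LK LD1_c13 LD2_c4 LD3_c11)) = (LP (LK LD1_c14 LD2_c5 LD3_c38)) :=
  Lgr Lrot11 (Lpr_ct (f464344 IH) (Lpn (LP (LK LD1_c14 LD2_c5 LD3_c38))))
theorem f90862 : Led Lsl_ct (LP (LK LD1_c6 LD2_c52 LD3_c19)) = (LP (LK LD1_c3 LD2_c24 LD3_c55)) :=
  Lre_c IH (LK LD1_c6 LD2_c52 LD3_c19) (LK LD1_c3 LD2_c24 LD3_c55) Lrfl Lrfl
theorem f92006 : Led Lsl_bt (LP (LK LD1_c3 LD2_c24 LD3_c55)) = (LP (LK LD1_c6 LD2_c52 LD3_c14)) :=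
  Lre_b IH (LK LD1_c3 LD2_c24 LD3_c55) (LK LD1_c6 LD2_c52 LD3_c14) Lrfl Lrfl
theorem f132119 : Led Lsl_bt (LP (LK LD1_c7 LD2_c27 LD3_c57)) = (LP (LK LD1_c14 LD2_c5 LD3_c38)) :=
  Lre_b IH (LK LD1_c7 LD2_c27 LD3_c57) (LK LD1_c14 LD2_c5 LD3_c38) Lrfl Lrfl
theorem f464351 : Led Lsl_ct (LP (LK LD1_c6 LD2_c52 LD3_c14)) = (LP (LK LD1_c7 LD2_c27 LD3_c57)) :=
  Lgr Lrot83 (Lpe (f92006 IH) (Lpe (f90862 IH) (Lpe (f92011 IH) (Lpr_cf (f464349 IH) (Lpe (f132119 IH) (Lpn (LP (LK LD1_c7 LD2_c27 LD3_c57))))))))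
theorem f464591 : Led Lsl_cf (LP (LK LD1_c13 LD2_c4 LD3_c3)) = (LP (LK LD1_c7 LD2_c5 LD3_c8)) :=
  Lgr Lrot166 (Lpr_gt (f463406 IH) (Lpr_dt (f463401 IH) (Lpr_gt (f464585 IH) (Lpe (K5.f128065 IH) (Lpr_ct (f121013 IH) (Lpe (f121069 IH) (Lpr_gf (K24.f460761 IH) (Lpe (K24.f455766 IH) (Lpe (f455706 IH) (Lpn (LP (LK LD1_c7 LD2_c5 LD3_c8))))))))))))
theorem f458251 : Led Lsl_at (LP (LK LD1_c7 LD2_c4 LD3_c56)) = (LP (LK LD1_c3 LD2_c31 LD3_c47)) :=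
  Lre_a IH (LK LD1_c7 LD2_c4 LD3_c56) (LK LD1_c3 LD2_c31 LD3_c47) Lrfl Lrfl
theorem f458919 : Led Lsl_ff (LP (LK LD1_c7 LD2_c4 LD3_c56)) = (LP (LK LD1_c7 LD2_c4 LD3_c30)) :=
  Lgr Lrot30 (Lpr_at (f458251 IH) (Lpr_ft (K24.f458912 IH) (Lpr_at (K24.f458911 IH) (Lpn (LP (LK LD1_c7 LD2_c4 LD3_c30))))))
theorem f459223 : Led Lsl_gf (LP (LK LD1_c7 LD2_c5 LD3_c8)) = (LP (LK LD1_c7 LD2_c4 LD3_c30)) :=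
  Lgr Lrot47 (Lpr_gt (f455706 IH) (Lpe (f458251 IH) (Lpr_ff (f458919 IH) (Lpn (LP (LK LD1_c7 LD2_c4 LD3_c30))))))
theorem f460790 : Led Lsl_df (LP (LK LD1_c7 LD2_c51 LD3_c41)) = (LP (LK LD1_c7 LD2_c4 LD3_c30)) :=
  Lgr Lrot38 (Lpr_dt (K24.f460774 IH) (Lpn (LP (LK LD1_c7 LD2_c4 LD3_c30))))
theorem f451866 : Led Lsl_ct (LP (LK LD1_c3 LD2_c56 LD3_c35)) = (LP (LK LD1_c7 LD2_c54 LD3_c54)) :=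
  Lre_c IH (LK LD1_c3 LD2_c56 LD3_c35) (LK LD1_c7 LD2_c54 LD3_c54) Lrfl Lrfl
theorem f465101 : Led Lsl_gt (LP (LK LD1_c7 LD2_c51 LD3_c41)) = (LP (LK LD1_c3 LD2_c56 LD3_c35)) :=
  Lgr Lrot9 (Lpr_df (f460790 IH) (Lpe (f459223 IH) (Lpe (f464591 IH) (Lpr_gt (f463406 IH) (Lpr_ct (f464351 IH) (Lpr_df (f132090 IH) (Lpe (f132100 IH) (Lpr_gf (f465099 IH) (Lpe (f451866 IH) (Lpn (LP (LK LD1_c3 LD2_c56 LD3_c35))))))))))))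
theorem f458931 : Led Lsl_ct (LP (LK LD1_c7 LD2_c4 LD3_c30)) = (LP (LK LD1_c3 LD2_c31 LD3_c24)) :=
  Lre_c IH (LK LD1_c7 LD2_c4 LD3_c30) (LK LD1_c3 LD2_c31 LD3_c24) Lrfl Lrfl
theorem f458991 : Led Lsl_ct (LP (LK LD1_c1 LD2_c42 LD3_c16)) = (LP (LK LD1_c3 LD2_c31 LD3_c23)) :=
  Lre_c IH (LK LD1_c1 LD2_c42 LD3_c16) (LK LD1_c3 LD2_c31 LD3_c23) Lrfl Lrfl
theorem f458915 : Led Lsl_dt (LP (LK LD1_c3 LD2_c31 LD3_c23)) = (LP (LK LD1_c7 LD2_c4 LD3_c28)) :=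
  Lre_d IH (LK LD1_c3 LD2_c31 LD3_c23) (LK LD1_c7 LD2_c4 LD3_c28) Lrfl Lrfl
theorem f458914 : Led Lsl_ct (LP (LK LD1_c7 LD2_c4 LD3_c28)) = (LP (LK LD1_c13 LD2_c24 LD3_c42)) :=
  Lre_c IH (LK LD1_c7 LD2_c4 LD3_c28) (LK LD1_c13 LD2_c24 LD3_c42) Lrfl Lrfl
theorem f458908 : Led Lsl_df (LP (LK LD1_c13 LD2_c25 LD3_c60)) = (LP (LK LD1_c13 LD2_c24 LD3_c42)) :=
  Lgr Lrot38 (Lpr_dt (K24.f458898 IH) (Lpn (LP (LK LD1_c13 LD2_c24 LD3_c42))))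
theorem f458317 : Led Lsl_ct (LP (LK LD1_c13 LD2_c25 LD3_c60)) = (LP (LK LD1_c7 LD2_c5 LD3_c9)) :=
  Lre_c IH (LK LD1_c13 LD2_c25 LD3_c60) (LK LD1_c7 LD2_c5 LD3_c9) Lrfl Lrfl
theorem f455704 : Led Lsl_dt (LP (LK LD1_c7 LD2_c5 LD3_c9)) = (LP (LK LD1_c3 LD2_c31 LD3_c47)) :=
  Lre_d IH (LK LD1_c7 LD2_c5 LD3_c9) (LK LD1_c3 LD2_c31 LD3_c47) Lrfl Lrfl
theorem f463529 : Led Lsl_af (LP (LK LD1_c7 LD2_c5 LD3_c9)) = (LP (LK LD1_c7 LD2_c49 LD3_c58)) :=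
  Lgr Lrot117 (Lpr_dt (f455704 IH) (Lpr_at (f458230 IH) (Lpr_dt (f463519 IH) (Lpn (LP (LK LD1_c7 LD2_c49 LD3_c58))))))
theorem f463634 : Led Lsl_ft (LP (LK LD1_c7 LD2_c51 LD3_c41)) = (LP (LK LD1_c7 LD2_c49 LD3_c58)) :=
  Lgr Lrot142 (Lpr_dt (K24.f460774 IH) (Lpr_ct (f458931 IH) (Lpr_dt (f458932 IH) (Lpr_ct (f458991 IH) (Lpr_dt (f458915 IH) (Lpr_ct (f458914 IH) (Lpe (f458908 IH) (Lpr_ct (f458317 IH) (Lpr_af (f463529 IH) (Lpn (LP (LK LD1_c7 LD2_c49 LD3_c58))))))))))))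
theorem f465106 : Led Lsl_gf (LP (LK LD1_c7 LD2_c5 LD3_c9)) = (LP (LK LD1_c3 LD2_c56 LD3_c35)) :=
  Lgr Lrot76 (Lpr_af (f463529 IH) (Lpe (f463634 IH) (Lpr_gt (f465101 IH) (Lpn (LP (LK LD1_c3 LD2_c56 LD3_c35))))))
theorem f451351 : Led Lsl_dt (LP (LK LD1_c1 LD2_c55 LD3_c0)) = (LP (LK LD1_c3 LD2_c56 LD3_c35)) :=
  Lre_d IH (LK LD1_c1 LD2_c55 LD3_c0) (LK LD1_c3 LD2_c56 LD3_c35) Lrfl Lrfl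
theorem f26208 : Led Lsl_dt (LP (LK LD1_c3 LD2_c42 LD3_c24)) = (LP (LK LD1_c1 LD2_c48 LD3_c8)) :=
  Lre_d IH (LK LD1_c3 LD2_c42 LD3_c24) (LK LD1_c1 LD2_c48 LD3_c8) Lrfl Lrfl
theorem f465113 : Led Lsl_gt (LP (LK LD1_c13 LD2_c25 LD3_c60)) = (LP (LK LD1_c7 LD2_c25 LD3_c33)) :=
  Lgr Lrot150 (Lpe (K24.f455767 IH) (Lpr_gf (f465106 IH) (Lpe (f451351 IH) (Lpr_gt (f11351 IH) (Lpr_ct (f11346 IH) (Lpr_gt (K24.f451350 IH) (Lpqs (f462169 IH) (Lpr_ct (K8.f26202 IH) (Lpe (f26208 IH) (Lpe (f159350 IH) (Lpn (LP (LK LD1_c7 LD2_c25 LD3_c33)))))))))))))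
theorem f455729 : Led Lsl_dt (LP (LK LD1_c7 LD2_c4 LD3_c41)) = (LP (LK LD1_c3 LD2_c31 LD3_c29)) :=
  Lre_d IH (LK LD1_c7 LD2_c4 LD3_c41) (LK LD1_c3 LD2_c31 LD3_c29) Lrfl Lrfl
theorem f458238 : Led Lsl_bt (LP (LK LD1_c7 LD2_c5 LD3_c9)) = (LP (LK LD1_c7 LD2_c4 LD3_c41)) :=
  Lgr Lrot95 (Lpe (K24.f455766 IH) (Lpr_bf (K24.f458228 IH) (Lpe (f455729 IH) (Lpn (LP (LK LD1_c7 LD2_c4 LD3_c41))))))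
theorem f446546 : Led Lsl_ct (LP (LK LD1_c0 LD2_c47 LD3_c39)) = (LP (LK LD1_c1 LD2_c42 LD3_c17)) :=
  Lre_c IH (LK LD1_c0 LD2_c47 LD3_c39) (LK LD1_c1 LD2_c42 LD3_c17) Lrfl Lrfl
theorem f463841 : Led Lsl_gt (LP (LK LD1_c1 LD2_c49 LD3_c5)) = (LP (LK LD1_c1 LD2_c42 LD3_c17)) :=
  Lgr Lrot149 (Lpe (K4.f116127 IH) (Lpe (f87521 IH) (Lpr_bf (f461892 IH) (Lpr_ct (f463744 IH) (Lpe (f63672 IH) (Lpe (f446520 IH) (Lpr_bt (f18799 IH) (Lpe (K24.f446535 IH) (Lpe (K24.f446540 IH) (Lpr_ct (f446546 IH) (Lpn (LP (LK LD1_c1 LD2_c42 LD3_c17)))))))))))))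
theorem f95890 : Led Lsl_et (LP (LK LD1_c1 LD2_c53 LD3_c41)) = (LP (LK LD1_c0 LD2_c53 LD3_c25)) :=
  Lre_e IH (LK LD1_c1 LD2_c53 LD3_c41) (LK LD1_c0 LD2_c53 LD3_c25) Lrfl Lrfl
theorem f95887 : Led Lsl_dt (LP (LK LD1_c1 LD2_c53 LD3_c41)) = (LP (LK LD1_c3 LD2_c54 LD3_c6)) :=
  Lre_d IH (LK LD1_c1 LD2_c53 LD3_c41) (LK LD1_c3 LD2_c54 LD3_c6) Lrfl Lrfl
theorem f458261 : Led Lsl_et (LP (LK LD1_c3 LD2_c31 LD3_c29)) = (LP (LK LD1_c1 LD2_c42 LD3_c17)) :=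
  Lre_e IH (LK LD1_c3 LD2_c31 LD3_c29) (LK LD1_c1 LD2_c42 LD3_c17) Lrfl Lrfl
theorem f458318 : Led Lsl_dt (LP (LK LD1_c3 LD2_c31 LD3_c29)) = (LP (LK LD1_c7 LD2_c4 LD3_c41)) :=
  Lre_d IH (LK LD1_c3 LD2_c31 LD3_c29) (LK LD1_c7 LD2_c4 LD3_c41) Lrfl Lrfl
theorem f463911 : Led Lsl_gf (LP (LK LD1_c3 LD2_c54 LD3_c6)) = (LP (LK LD1_c7 LD2_c4 LD3_c41)) :=
  Lgr Lrot145 (Lpe (f95887 IH) (Lpr_et (f95890 IH) (Lpr_gt (K7.f147600 IH) (Lpr_dt (K5.f84906 IH) (Lpe (K8.f147602 IH) (Lpe (K4.f116073 IH) (Lpr_et (K4.f116151 IH) (Lpr_gt (f463841 IH) (Lpe (f458261 IH) (Lpr_dt (f458318 IH) (Lpn (LP (LK LD1_c7 LD2_c4 LD3_c41)))))))))))))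
theorem f463913 : Led Lsl_gt (LP (LK LD1_c7 LD2_c51 LD3_c54)) = (LP (LK LD1_c7 LD2_c4 LD3_c41)) :=
  Lgr Lrot5 (Lpr_ft (K8.f11703 IH) (Lpe (K8.f160040 IH) (Lpr_gf (f463911 IH) (Lpn (LP (LK LD1_c7 LD2_c4 LD3_c41))))))
theorem f160046 : Led Lsl_bt (LP (LK LD1_c14 LD2_c49 LD3_c52)) = (LP (LK LD1_c7 LD2_c51 LD3_c54)) :=
  Lre_b IH (LK LD1_c14 LD2_c49 LD3_c52) (LK LD1_c7 LD2_c51 LD3_c54) Lrfl Lrfl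
theorem f11709 : Led Lsl_ct (LP (LK LD1_c14 LD2_c49 LD3_c52)) = (LP (LK LD1_c24 LD2_c36 LD3_c10)) :=
  Lre_c IH (LK LD1_c14 LD2_c49 LD3_c52) (LK LD1_c24 LD2_c36 LD3_c10) Lrfl Lrfl
theorem f425564 : Led Lsl_bt (LP (LK LD1_c3 LD2_c42 LD3_c24)) = (LP (LK LD1_c7 LD2_c25 LD3_c17)) :=
  Lre_b IH (LK LD1_c3 LD2_c42 LD3_c24) (LK LD1_c7 LD2_c25 LD3_c17) Lrfl Lrfl
theorem f462712 : Led Lsl_gt (LP (LK LD1_c7 LD2_c25 LD3_c17)) = (LP (LK LD1_c14 LD2_c2 LD3_c3)) :=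
  Lre_g IH (LK LD1_c7 LD2_c25 LD3_c17) (LK LD1_c14 LD2_c2 LD3_c3) Lrfl Lrfl
theorem f462715 : Led Lsl_ct (LP (LK LD1_c14 LD2_c2 LD3_c3)) = (LP (LK LD1_c23 LD2_c34 LD3_c59)) :=
  Lre_c IH (LK LD1_c14 LD2_c2 LD3_c3) (LK LD1_c23 LD2_c34 LD3_c59) Lrfl Lrfl
theorem f465120 : Led Lsl_gf (LP (LK LD1_c24 LD2_c36 LD3_c10)) = (LP (LK LD1_c23 LD2_c34 LD3_c59)) :=
  Lgr Lrot129 (Lpe (f11709 IH) (Lpr_bt (f160046 IH) (Lpr_gt (f463913 IH) (Lpe (f458238 IH) (Lpr_ct (K24.f455767 IH) (Lpr_gt (f465113 IH) (Lpe (f159502 IH) (Lpr_bt (f425564 IH) (Lpr_gt (f462712 IH) (Lpr_ct (f462715 IH) (Lpn (LP (LK LD1_c23 LD2_c34 LD3_c59)))))))))))))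
theorem f11723 : Led Lsl_ct (LP (LK LD1_c24 LD2_c36 LD3_c10)) = (LP (LK LD1_c14 LD2_c49 LD3_c52)) :=
  Lre_c IH (LK LD1_c24 LD2_c36 LD3_c10) (LK LD1_c14 LD2_c49 LD3_c52) Lrfl Lrfl
theorem f11722 : Led Lsl_dt (LP (LK LD1_c14 LD2_c49 LD3_c52)) = (LP (LK LD1_c7 LD2_c51 LD3_c50)) :=
  Lre_d IH (LK LD1_c14 LD2_c49 LD3_c52) (LK LD1_c7 LD2_c51 LD3_c50) Lrfl Lrfl
theorem f11724 : Led Lsl_gt (LP (LK LD1_c13 LD2_c29 LD3_c13)) = (LP (LK LD1_c7 LD2_c7 LD3_c5)) :=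
  Lre_g IH (LK LD1_c13 LD2_c29 LD3_c13) (LK LD1_c7 LD2_c7 LD3_c5) Lrfl Lrfl
theorem f108140 : Led Lsl_dt (LP (LK LD1_c3 LD2_c42 LD3_c17)) = (LP (LK LD1_c7 LD2_c25 LD3_c17)) :=
  Lre_d IH (LK LD1_c3 LD2_c42 LD3_c17) (LK LD1_c7 LD2_c25 LD3_c17) Lrfl Lrfl
theorem f108067 : Led Lsl_gt (LP (LK LD1_c3 LD2_c42 LD3_c17)) = (LP (LK LD1_c7 LD2_c25 LD3_c15)) :=
  Lre_g IH (LK LD1_c3 LD2_c42 LD3_c17) (LK LD1_c7 LD2_c25 LD3_c15) Lrfl Lrfl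
theorem f465122 : Led Lsl_cf (LP (LK LD1_c13 LD2_c29 LD3_c13)) = (LP (LK LD1_c7 LD2_c25 LD3_c15)) :=
  Lgr Lrot169 (Lpr_gt (f11724 IH) (Lpe (K8.f11699 IH) (Lpe (f11722 IH) (Lpe (f11723 IH) (Lpr_gf (f465120 IH) (Lpe (f462715 IH) (Lpe (f462712 IH) (Lpe (f108140 IH) (Lpr_gt (f108067 IH) (Lpn (LP (LK LD1_c7 LD2_c25 LD3_c15))))))))))))
theorem f11682 : Led Lsl_bt (LP (LK LD1_c3 LD2_c55 LD3_c6)) = (LP (LK LD1_c7 LD2_c51 LD3_c50)) :=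
  Lre_b IH (LK LD1_c3 LD2_c55 LD3_c6) (LK LD1_c7 LD2_c51 LD3_c50) Lrfl Lrfl
theorem f11683 : Led Lsl_bt (LP (LK LD1_c1 LD2_c43 LD3_c22)) = (LP (LK LD1_c3 LD2_c33 LD3_c2)) :=
  Lre_b IH (LK LD1_c1 LD2_c43 LD3_c22) (LK LD1_c3 LD2_c33 LD3_c2) Lrfl Lrfl
theorem f11684 : Led Lsl_ct (LP (LK LD1_c3 LD2_c33 LD3_c12)) = (LP (LK LD1_c1 LD2_c43 LD3_c22)) :=
  Lre_c IH (LK LD1_c3 LD2_c33 LD3_c12) (LK LD1_c1 LD2_c43 LD3_c22) Lrfl Lrfl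
theorem f11685 : Led Lsl_bt (LP (LK LD1_c7 LD2_c7 LD3_c5)) = (LP (LK LD1_c3 LD2_c33 LD3_c12)) :=
  Lre_b IH (LK LD1_c7 LD2_c7 LD3_c5) (LK LD1_c3 LD2_c33 LD3_c12) Lrfl Lrfl
theorem f11686 : Led Lsl_ct (LP (LK LD1_c7 LD2_c51 LD3_c50)) = (LP (LK LD1_c7 LD2_c7 LD3_c5)) :=
  Lgr Lrot83 (Lpe (f11682 IH) (Lpr_cf (K8.f11669 IH) (Lpe (f11683 IH) (Lpe (f11684 IH) (Lpe (f11685 IH) (Lpn (LP (LK LD1_c7 LD2_c7 LD3_c5))))))))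
theorem f11353 : Led Lsl_bt (LP (LK LD1_c0 LD2_c54 LD3_c12)) = (LP (LK LD1_c1 LD2_c55 LD3_c1)) :=
  Lre_b IH (LK LD1_c0 LD2_c54 LD3_c12) (LK LD1_c1 LD2_c55 LD3_c1) Lrfl Lrfl
theorem f465128 : Led Lsl_gt (LP (LK LD1_c3 LD2_c55 LD3_c6)) = (LP (LK LD1_c1 LD2_c55 LD3_c1)) :=
  Lgr Lrot164 (Lpe (K8.f11696 IH) (Lpr_ct (f11686 IH) (Lpe (f11724 IH) (Lpr_cf (f465122 IH) (Lpe (f108067 IH) (Lpe (K8.f26203 IH) (Lpr_ct (f26204 IH) (Lpr_gf (f459384 IH) (Lpq (f462172 IH) (Lpe (f11346 IH) (Lpr_bt (f11353 IH) (Lpn (LP (LK LD1_c1 LD2_c55 LD3_c1))))))))))))))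
theorem f11728 : Led Lsl_at (LP (LK LD1_c7 LD2_c51 LD3_c46)) = (LP (LK LD1_c3 LD2_c55 LD3_c4)) :=
  Lre_a IH (LK LD1_c7 LD2_c51 LD3_c46) (LK LD1_c3 LD2_c55 LD3_c4) Lrfl Lrfl
theorem f11657 : Led Lsl_bt (LP (LK LD1_c3 LD2_c55 LD3_c4)) = (LP (LK LD1_c1 LD2_c54 LD3_c8)) :=
  Lre_b IH (LK LD1_c3 LD2_c55 LD3_c4) (LK LD1_c1 LD2_c54 LD3_c8) Lrfl Lrfl
theorem f160008 : Led Lsl_af (LP (LK LD1_c1 LD2_c53 LD3_c41)) = (LP (LK LD1_c1 LD2_c54 LD3_c8)) :=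
  Lgr Lrot36 (Lpr_bt (K5.f95870 IH) (Lpr_at (K6.f129501 IH) (Lpr_bt (K8.f160006 IH) (Lpr_at (f11728 IH) (Lpr_bt (f11657 IH) (Lpn (LP (LK LD1_c1 LD2_c54 LD3_c8))))))))
theorem f465130 : Led Lsl_gf (LP (LK LD1_c1 LD2_c53 LD3_c41)) = (LP (LK LD1_c1 LD2_c55 LD3_c1)) :=
  Lgr Lrot76 (Lpr_af (f160008 IH) (Lpe (K8.f11667 IH) (Lpr_gt (f465128 IH) (Lpn (LP (LK LD1_c1 LD2_c55 LD3_c1))))))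
theorem f95838 : Led Lsl_bt (LP (LK LD1_c3 LD2_c13 LD3_c31)) = (LP (LK LD1_c3 LD2_c15 LD3_c19)) :=
  Lgr Lrot127 (Lpr_bf (K4.f95836 IH) (Lpn (LP (LK LD1_c3 LD2_c15 LD3_c19))))
theorem f451292 : Led Lsl_ct (LP (LK LD1_c0 LD2_c54 LD3_c14)) = (LP (LK LD1_c1 LD2_c55 LD3_c1)) :=
  Lre_c IH (LK LD1_c0 LD2_c54 LD3_c14) (LK LD1_c1 LD2_c55 LD3_c1) Lrfl Lrfl
theorem f16724 : Led Lsl_ct (LP (LK LD1_c0 LD2_c53 LD3_c13)) = (LP (LK LD1_c1 LD2_c52 LD3_c51)) :=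
  Lre_c IH (LK LD1_c0 LD2_c53 LD3_c13) (LK LD1_c1 LD2_c52 LD3_c51) Lrfl Lrfl
theorem f15719 : Led Lsl_gt (LP (LK LD1_c3 LD2_c44 LD3_c37)) = (LP (LK LD1_c1 LD2_c52 LD3_c51)) :=
  Lre_g IH (LK LD1_c3 LD2_c44 LD3_c37) (LK LD1_c1 LD2_c52 LD3_c51) Lrfl Lrfl
theorem f11243 : Led Lsl_ct (LP (LK LD1_c0 LD2_c24 LD3_c25)) = (LP (LK LD1_c0 LD2_c10 LD3_c51)) :=
  Lre_c IH (LK LD1_c0 LD2_c24 LD3_c25) (LK LD1_c0 LD2_c10 LD3_c51) Lrfl Lrfl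
theorem f14907 : Led Lsl_bt (LP (LK LD1_c0 LD2_c10 LD3_c49)) = (LP (LK LD1_c0 LD2_c24 LD3_c15)) :=
  Lre_b IH (LK LD1_c0 LD2_c10 LD3_c49) (LK LD1_c0 LD2_c24 LD3_c15) Lrfl Lrfl
theorem f17263 : Led Lsl_gt (LP (LK LD1_c0 LD2_c24 LD3_c15)) = (LP (LK LD1_c0 LD2_c53 LD3_c57)) :=
  Lre_g IH (LK LD1_c0 LD2_c24 LD3_c15) (LK LD1_c0 LD2_c53 LD3_c57) Lrfl Lrfl
theorem f14859 : Led Lsl_bt (LP (LK LD1_c1 LD2_c54 LD3_c36)) = (LP (LK LD1_c0 LD2_c53 LD3_c57)) :=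
  Lre_b IH (LK LD1_c1 LD2_c54 LD3_c36) (LK LD1_c0 LD2_c53 LD3_c57) Lrfl Lrfl
theorem f457718 : Led Lsl_cf (LP (LK LD1_c3 LD2_c44 LD3_c37)) = (LP (LK LD1_c1 LD2_c54 LD3_c36)) :=
  Lgr Lrot160 (Lpr_gt (f15719 IH) (Lpe (f16724 IH) (Lpr_bt (K0.f11161 IH) (Lpqs (K24.f457688 IH) (Lpr_gt (f451303 IH) (Lpr_ct (f11243 IH) (Lpr_gt (K11.f11233 IH) (Lpe (K24.f11223 IH) (Lpr_bt (f14907 IH) (Lpr_gt (f17263 IH) (Lpe (f14859 IH) (Lpn (LP (LK LD1_c1 LD2_c54 LD3_c36))))))))))))))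
theorem f465412 : Led Lsl_gt (LP (LK LD1_c3 LD2_c15 LD3_c19)) = (LP (LK LD1_c1 LD2_c54 LD3_c36)) :=
  Lgr Lrot82 (Lpe (f95838 IH) (Lpr_ct (K5.f95861 IH) (Lpr_gf (f465130 IH) (Lpe (f451292 IH) (Lpr_bt (f451287 IH) (Lpe (f451303 IH) (Lpq (K24.f457688 IH) (Lpe (K0.f11161 IH) (Lpr_ct (f16724 IH) (Lpe (f15719 IH) (Lpr_cf (f457718 IH) (Lpn (LP (LK LD1_c1 LD2_c54 LD3_c36))))))))))))))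
theorem f107173 : Led Lsl_af (LP (LK LD1_c6 LD2_c34 LD3_c0)) = (LP (LK LD1_c3 LD2_c36 LD3_c43)) :=
  Lgr Lrot45 (Lpr_ft (f95844 IH) (Lpr_at (K3.f107166 IH) (Lpr_ft (K3.f17329 IH) (Lpn (LP (LK LD1_c3 LD2_c36 LD3_c43))))))
theorem f107175 : Led Lsl_at (LP (LK LD1_c6 LD2_c34 LD3_c0)) = (LP (LK LD1_c3 LD2_c36 LD3_c43)) :=
  Lgr Lrot100 (Lpr_af (f107173 IH) (Lpn (LP (LK LD1_c3 LD2_c36 LD3_c43))))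
theorem f465429 : Led Lsl_gf (LP (LK LD1_c3 LD2_c36 LD3_c43)) = (LP (LK LD1_c1 LD2_c54 LD3_c36)) :=
  Lgr Lrot76 (Lpe (f107175 IH) (Lpe (f95773 IH) (Lpr_gt (f465412 IH) (Lpn (LP (LK LD1_c1 LD2_c54 LD3_c36))))))
theorem f17351 : Led Lsl_gt (LP (LK LD1_c7 LD2_c37 LD3_c50)) = (LP (LK LD1_c14 LD2_c22 LD3_c43)) :=
  Lre_g IH (LK LD1_c7 LD2_c37 LD3_c50) (LK LD1_c14 LD2_c22 LD3_c43) Lrfl Lrfl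
theorem f457726 : Led Lsl_ct (LP (LK LD1_c3 LD2_c44 LD3_c37)) = (LP (LK LD1_c1 LD2_c54 LD3_c36)) :=
  Lgr Lrot59 (Lpr_cf (f457718 IH) (Lpn (LP (LK LD1_c1 LD2_c54 LD3_c36))))
theorem f17286 : Led Lsl_gt (LP (LK LD1_c1 LD2_c49 LD3_c21)) = (LP (LK LD1_c3 LD2_c44 LD3_c37)) :=
  Lre_g IH (LK LD1_c1 LD2_c49 LD3_c21) (LK LD1_c3 LD2_c44 LD3_c37) Lrfl Lrfl
theorem f15668 : Led Lsl_bt (LP (LK LD1_c3 LD2_c44 LD3_c36)) = (LP (LK LD1_c1 LD2_c49 LD3_c21)) :=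
  Lre_b IH (LK LD1_c3 LD2_c44 LD3_c36) (LK LD1_c1 LD2_c49 LD3_c21) Lrfl Lrfl
theorem f16746 : Led Lsl_gt (LP (LK LD1_c7 LD2_c30 LD3_c19)) = (LP (LK LD1_c3 LD2_c44 LD3_c36)) :=
  Lre_g IH (LK LD1_c7 LD2_c30 LD3_c19) (LK LD1_c3 LD2_c44 LD3_c36) Lrfl Lrfl
theorem f16757 : Led Lsl_ct (LP (LK LD1_c14 LD2_c10 LD3_c24)) = (LP (LK LD1_c7 LD2_c30 LD3_c19)) :=
  Lre_c IH (LK LD1_c14 LD2_c10 LD3_c24) (LK LD1_c7 LD2_c30 LD3_c19) Lrfl Lrfl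
theorem f465441 : Led Lsl_bf (LP (LK LD1_c14 LD2_c22 LD3_c43)) = (LP (LK LD1_c14 LD2_c10 LD3_c24)) :=
  Lgr Lrot34 (Lpe (f17351 IH) (Lpe (f17342 IH) (Lpe (K3.f17345 IH) (Lpr_gf (f465429 IH) (Lpe (f457726 IH) (Lpe (f17286 IH) (Lpe (f15668 IH) (Lpr_ct (K8.f14719 IH) (Lpe (f16746 IH) (Lpe (f16757 IH) (Lpn (LP (LK LD1_c14 LD2_c10 LD3_c24)))))))))))))
theorem f17430 : Led Lsl_gt (LP (LK LD1_c14 LD2_c22 LD3_c43)) = (LP (LK LD1_c7 LD2_c37 LD3_c46)) :=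
  Lre_g IH (LK LD1_c14 LD2_c22 LD3_c43) (LK LD1_c7 LD2_c37 LD3_c46) Lrfl Lrfl
theorem f17416 : Led Lsl_et (LP (LK LD1_c7 LD2_c37 LD3_c46)) = (LP (LK LD1_c3 LD2_c48 LD3_c22)) :=
  Lre_e IH (LK LD1_c7 LD2_c37 LD3_c46) (LK LD1_c3 LD2_c48 LD3_c22) Lrfl Lrfl
theorem f127915 : Led Lsl_bt (LP (LK LD1_c6 LD2_c55 LD3_c22)) = (LP (LK LD1_c7 LD2_c37 LD3_c46)) :=
  Lgr Lrot119 (Lpe (K6.f127914 IH) (Lpr_bf (K5.f127904 IH) (Lpe (f17416 IH) (Lpn (LP (LK LD1_c7 LD2_c37 LD3_c46))))))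
theorem f15667 : Led Lsl_at (LP (LK LD1_c1 LD2_c49 LD3_c21)) = (LP (LK LD1_c0 LD2_c53 LD3_c4)) :=
  Lre_a IH (LK LD1_c1 LD2_c49 LD3_c21) (LK LD1_c0 LD2_c53 LD3_c4) Lrfl Lrfl
theorem f15669 : Led Lsl_at (LP (LK LD1_c0 LD2_c46 LD3_c38)) = (LP (LK LD1_c1 LD2_c39 LD3_c49)) :=
  Lre_a IH (LK LD1_c0 LD2_c46 LD3_c38) (LK LD1_c1 LD2_c39 LD3_c49) Lrfl Lrfl
theorem f15671 : Led Lsl_af (LP (LK LD1_c3 LD2_c44 LD3_c36)) = (LP (LK LD1_c3 LD2_c26 LD3_c13)) :=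
  Lgr Lrot36 (Lpr_bt (f15668 IH) (Lpr_at (f15667 IH) (Lpr_bt (K0.f15624 IH) (Lpr_at (f15669 IH) (Lpr_bt (K0.f15670 IH) (Lpn (LP (LK LD1_c3 LD2_c26 LD3_c13))))))))
theorem f16747 : Led Lsl_gf (LP (LK LD1_c7 LD2_c30 LD3_c19)) = (LP (LK LD1_c6 LD2_c54 LD3_c23)) :=
  Lgr Lrot47 (Lpr_gt (f16746 IH) (Lpr_af (f15671 IH) (Lpe (K8.f15916 IH) (Lpn (LP (LK LD1_c6 LD2_c54 LD3_c23))))))
theorem f14896 : Led Lsl_ft (LP (LK LD1_c3 LD2_c44 LD3_c36)) = (LP (LK LD1_c7 LD2_c30 LD3_c21)) :=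
  Lre_f IH (LK LD1_c3 LD2_c44 LD3_c36) (LK LD1_c7 LD2_c30 LD3_c21) Lrfl Lrfl
theorem f16726 : Led Lsl_gt (LP (LK LD1_c3 LD2_c44 LD3_c36)) = (LP (LK LD1_c7 LD2_c30 LD3_c18)) :=
  Lre_g IH (LK LD1_c3 LD2_c44 LD3_c36) (LK LD1_c7 LD2_c30 LD3_c18) Lrfl Lrfl
theorem f16727 : Led Lsl_gt (LP (LK LD1_c7 LD2_c30 LD3_c18)) = (LP (LK LD1_c6 LD2_c54 LD3_c23)) :=
  Lgr Lrot46 (Lpe (f16726 IH) (Lpr_ft (f14896 IH) (Lpr_at (K8.f15703 IH) (Lpn (LP (LK LD1_c6 LD2_c54 LD3_c23))))))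
theorem f16733 : Led Lsl_bt (LP (LK LD1_c14 LD2_c10 LD3_c20)) = (LP (LK LD1_c7 LD2_c30 LD3_c18)) :=
  Lre_b IH (LK LD1_c14 LD2_c10 LD3_c20) (LK LD1_c7 LD2_c30 LD3_c18) Lrfl Lrfl
theorem f465449 : Led Lsl_cf (LP (LK LD1_c14 LD2_c46 LD3_c8)) = (LP (LK LD1_c14 LD2_c10 LD3_c20)) :=
  Lgr Lrot58 (Lpe (f129365 IH) (Lpr_cf (K6.f129380 IH) (Lpr_bt (f127915 IH) (Lpe (f17430 IH) (Lpr_bf (f465441 IH) (Lpr_ct (f16757 IH) (Lpr_gf (f16747 IH) (Lpr_cf (K8.f15918 IH) (Lpe (f16727 IH) (Lpe (f16733 IH) (Lpn (LP (LK LD1_c14 LD2_c10 LD3_c20)))))))))))))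
theorem f15309 : Led Lsl_ct (LP (LK LD1_c3 LD2_c26 LD3_c16)) = (LP (LK LD1_c1 LD2_c39 LD3_c52)) :=
  Lre_c IH (LK LD1_c3 LD2_c26 LD3_c16) (LK LD1_c1 LD2_c39 LD3_c52) Lrfl Lrfl
theorem f16734 : Led Lsl_ct (LP (LK LD1_c1 LD2_c40 LD3_c27)) = (LP (LK LD1_c0 LD2_c46 LD3_c40)) :=
  Lre_c IH (LK LD1_c1 LD2_c40 LD3_c27) (LK LD1_c0 LD2_c46 LD3_c40) Lrfl Lrfl
theorem f16735 : Led Lsl_bt (LP (LK LD1_c1 LD2_c40 LD3_c27)) = (LP (LK LD1_c3 LD2_c27 LD3_c47)) :=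
  Lre_b IH (LK LD1_c1 LD2_c40 LD3_c27) (LK LD1_c3 LD2_c27 LD3_c47) Lrfl Lrfl
theorem f465457 : Led Lsl_gf (LP (LK LD1_c6 LD2_c55 LD3_c22)) = (LP (LK LD1_c3 LD2_c27 LD3_c47)) :=
  Lgr Lrot181 (Lpe (K6.f129380 IH) (Lpr_gt (f129365 IH) (Lpr_cf (f465449 IH) (Lpr_bt (f16733 IH) (Lpr_gt (f16727 IH) (Lpe (K7.f15306 IH) (Lpr_ct (f15309 IH) (Lpr_gt (f16712 IH) (Lpe (f16734 IH) (Lpr_bt (f16735 IH) (Lpn (LP (LK LD1_c3 LD2_c27 LD3_c47)))))))))))))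
theorem f126457 : Led Lsl_at (LP (LK LD1_c7 LD2_c49 LD3_c44)) = (LP (LK LD1_c3 LD2_c54 LD3_c5)) :=
  Lre_a IH (LK LD1_c7 LD2_c49 LD3_c44) (LK LD1_c3 LD2_c54 LD3_c5) Lrfl Lrfl
theorem f129496 : Led Lsl_at (LP (LK LD1_c7 LD2_c34 LD3_c48)) = (LP (LK LD1_c6 LD2_c55 LD3_c22)) :=
  Lgr Lrot107 (Lpr_cf (K5.f126455 IH) (Lpe (f126457 IH) (Lpr_cf (K6.f129380 IH) (Lpn (LP (LK LD1_c6 LD2_c55 LD3_c22))))))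
theorem f17018 : Led Lsl_gt (LP (LK LD1_c6 LD2_c57 LD3_c46)) = (LP (LK LD1_c3 LD2_c27 LD3_c47)) :=
  Lre_g IH (LK LD1_c6 LD2_c57 LD3_c46) (LK LD1_c3 LD2_c27 LD3_c47) Lrfl Lrfl
theorem f465459 : Led Lsl_ff (LP (LK LD1_c7 LD2_c34 LD3_c48)) = (LP (LK LD1_c6 LD2_c57 LD3_c46)) :=
  Lgr Lrot52 (Lpr_at (f129496 IH) (Lpr_gf (f465457 IH) (Lpe (f17018 IH) (Lpn (LP (LK LD1_c6 LD2_c57 LD3_c46))))))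
theorem f465479 : Led Lsl_ft (LP (LK LD1_c7 LD2_c34 LD3_c48)) = (LP (LK LD1_c6 LD2_c57 LD3_c46)) :=
  Lgr Lrot48 (Lpr_ff (f465459 IH) (Lpn (LP (LK LD1_c6 LD2_c57 LD3_c46))))
theorem f95860 : Led Lsl_bt (LP (LK LD1_c3 LD2_c54 LD3_c5)) = (LP (LK LD1_c1 LD2_c53 LD3_c41)) :=
  Lre_b IH (LK LD1_c3 LD2_c54 LD3_c5) (LK LD1_c1 LD2_c53 LD3_c41) Lrfl Lrfl
theorem f11385 : Led Lsl_ct (LP (LK LD1_c1 LD2_c54 LD3_c59)) = (LP (LK LD1_c0 LD2_c54 LD3_c10)) :=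
  Lre_c IH (LK LD1_c1 LD2_c54 LD3_c59) (LK LD1_c0 LD2_c54 LD3_c10) Lrfl Lrfl
theorem f131755 : Led Lsl_dt (LP (LK LD1_c3 LD2_c41 LD3_c8)) = (LP (LK LD1_c7 LD2_c22 LD3_c36)) :=
  Lre_d IH (LK LD1_c3 LD2_c41 LD3_c8) (LK LD1_c7 LD2_c22 LD3_c36) Lrfl Lrfl
theorem f131799 : Led Lsl_gt (LP (LK LD1_c7 LD2_c28 LD3_c0)) = (LP (LK LD1_c3 LD2_c43 LD3_c41)) :=
  Lre_g IH (LK LD1_c7 LD2_c28 LD3_c0) (LK LD1_c3 LD2_c43 LD3_c41) Lrfl Lrfl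
theorem f131800 : Led Lsl_gt (LP (LK LD1_c7 LD2_c22 LD3_c36)) = (LP (LK LD1_c7 LD2_c28 LD3_c0)) :=
  Lgr Lrot5 (Lpr_ft (K5.f131770 IH) (Lpr_at (K5.f131771 IH) (Lpe (f131799 IH) (Lpn (LP (LK LD1_c7 LD2_c28 LD3_c0))))))
theorem f159519 : Led Lsl_et (LP (LK LD1_c0 LD2_c50 LD3_c55)) = (LP (LK LD1_c1 LD2_c48 LD3_c20)) :=
  Lre_e IH (LK LD1_c0 LD2_c50 LD3_c55) (LK LD1_c1 LD2_c48 LD3_c20) Lrfl Lrfl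
theorem f142394 : Led Lsl_gt (LP (LK LD1_c1 LD2_c48 LD3_c20)) = (LP (LK LD1_c3 LD2_c42 LD3_c41)) :=
  Lre_g IH (LK LD1_c1 LD2_c48 LD3_c20) (LK LD1_c3 LD2_c42 LD3_c41) Lrfl Lrfl
theorem f203880 : Led Lsl_et (LP (LK LD1_c7 LD2_c26 LD3_c1)) = (LP (LK LD1_c3 LD2_c42 LD3_c41)) :=
  Lre_e IH (LK LD1_c7 LD2_c26 LD3_c1) (LK LD1_c3 LD2_c42 LD3_c41) Lrfl Lrfl
theorem f208933 : Led Lsl_et (LP (LK LD1_c1 LD2_c48 LD3_c54)) = (LP (LK LD1_c0 LD2_c51 LD3_c13)) :=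
  Lre_e IH (LK LD1_c1 LD2_c48 LD3_c54) (LK LD1_c0 LD2_c51 LD3_c13) Lrfl Lrfl
theorem f131936 : Led Lsl_dt (LP (LK LD1_c1 LD2_c48 LD3_c54)) = (LP (LK LD1_c3 LD2_c43 LD3_c41)) :=
  Lre_d IH (LK LD1_c1 LD2_c48 LD3_c54) (LK LD1_c3 LD2_c43 LD3_c41) Lrfl Lrfl
theorem f437717 : Led Lsl_dt (LP (LK LD1_c7 LD2_c26 LD3_c1)) = (LP (LK LD1_c7 LD2_c28 LD3_c0)) :=
  Lgr Lrot136 (Lpr_et (f203880 IH) (Lpe (f142394 IH) (Lpe (f159519 IH) (Lpr_dt (K6.f120981 IH) (Lpr_gf (K6.f144659 IH) (Lpr_df (K7.f144661 IH) (Lpe (K3.f12763 IH) (Lpe (f208933 IH) (Lpr_dt (f131936 IH) (Lpe (f131799 IH) (Lpn (LP (LK LD1_c7 LD2_c28 LD3_c0)))))))))))))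
theorem f203525 : Led Lsl_dt (LP (LK LD1_c7 LD2_c43 LD3_c10)) = (LP (LK LD1_c12 LD2_c29 LD3_c8)) :=
  Lgr Lrot42 (Lpr_df (K11.f203520 IH) (Lpn (LP (LK LD1_c12 LD2_c29 LD3_c8))))
theorem f15580 : Led Lsl_bt (LP (LK LD1_c14 LD2_c33 LD3_c5)) = (LP (LK LD1_c7 LD2_c43 LD3_c10)) :=
  Lre_b IH (LK LD1_c14 LD2_c33 LD3_c5) (LK LD1_c7 LD2_c43 LD3_c10) Lrfl Lrfl
theorem f112084 : Led Lsl_dt (LP (LK LD1_c3 LD2_c12 LD3_c8)) = (LP (LK LD1_c1 LD2_c34 LD3_c50)) :=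
  Lgr Lrot44 (Lpr_af (K4.f112076 IH) (Lpe (K3.f62304 IH) (Lpe (K3.f93434 IH) (Lpn (LP (LK LD1_c1 LD2_c34 LD3_c50))))))
theorem f18275 : Led Lsl_bt (LP (LK LD1_c6 LD2_c10 LD3_c11)) = (LP (LK LD1_c3 LD2_c1 LD3_c43)) :=
  Lre_b IH (LK LD1_c6 LD2_c10 LD3_c11) (LK LD1_c3 LD2_c1 LD3_c43) Lrfl Lrfl
theorem f112092 : Led Lsl_bt (LP (LK LD1_c13 LD2_c6 LD3_c35)) = (LP (LK LD1_c12 LD2_c29 LD3_c8)) :=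
  Lgr Lrot178 (Lpe (K8.f9803 IH) (Lpe (K4.f9802 IH) (Lpe (K4.f9801 IH) (Lpe (K4.f9800 IH) (Lpe (K3.f9799 IH) (Lpe (K2.f9798 IH) (Lpe (K2.f9797 IH) (Lpr_bf (K0.f9781 IH) (Lpe (K0.f9792 IH) (Lpe (K0.f9804 IH) (Lpe (K2.f9805 IH) (Lpe (K3.f9806 IH) (Lpe (K3.f69278 IH) (Lpe (f112084 IH) (Lpr_gf (K4.f112086 IH) (Lpe (f18275 IH) (Lpr_cf (K2.f18271 IH) (Lpe (K2.f66695 IH) (Lpe (K11.f66736 IH) (Lpn (LP (LK LD1_c12 LD2_c29 LD3_c8))))))))))))))))))))))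
theorem f113014 : Led Lsl_bf (LP (LK LD1_c13 LD2_c6 LD3_c35)) = (LP (LK LD1_c12 LD2_c29 LD3_c8)) :=
  Lgr Lrot24 (Lpr_bt (f112092 IH) (Lpn (LP (LK LD1_c12 LD2_c29 LD3_c8))))
theorem f203533 : Led Lsl_df (LP (LK LD1_c14 LD2_c33 LD3_c5)) = (LP (LK LD1_c13 LD2_c6 LD3_c35)) :=
  Lgr Lrot12 (Lpr_bt (f15580 IH) (Lpr_dt (f203525 IH) (Lpe (f113014 IH) (Lpn (LP (LK LD1_c13 LD2_c6 LD3_c35))))))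
theorem f123650 : Led Lsl_dt (LP (LK LD1_c14 LD2_c6 LD3_c49)) = (LP (LK LD1_c7 LD2_c28 LD3_c37)) :=
  Lre_d IH (LK LD1_c14 LD2_c6 LD3_c49) (LK LD1_c7 LD2_c28 LD3_c37) Lrfl Lrfl
theorem f203537 : Led Lsl_ct (LP (LK LD1_c14 LD2_c33 LD3_c5)) = (LP (LK LD1_c14 LD2_c6 LD3_c49)) :=
  Lgr Lrot53 (Lpr_df (f203533 IH) (Lpe (K8.f9803 IH) (Lpe (K4.f9802 IH) (Lpe (K4.f116457 IH) (Lpe (K5.f116454 IH) (Lpr_ft (K5.f123882 IH) (Lpr_at (K5.f123893 IH) (Lpe (K5.f123649 IH) (Lpe (f123650 IH) (Lpn (LP (LK LD1_c14 LD2_c6 LD3_c49))))))))))))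
theorem f15570 : Led Lsl_gf (LP (LK LD1_c7 LD2_c43 LD3_c10)) = (LP (LK LD1_c6 LD2_c56 LD3_c38)) :=
  Lgr Lrot47 (Lpr_gt (K11.f15569 IH) (Lpe (K0.f14075 IH) (Lpr_ff (K11.f15556 IH) (Lpn (LP (LK LD1_c6 LD2_c56 LD3_c38))))))
theorem f139540 : Led Lsl_bt (LP (LK LD1_c6 LD2_c25 LD3_c50)) = (LP (LK LD1_c6 LD2_c56 LD3_c38)) :=
  Lgr Lrot35 (Lpr_ff (K7.f139534 IH) (Lpr_bf (K7.f14080 IH) (Lpr_ff (K11.f15556 IH) (Lpn (LP (LK LD1_c6 LD2_c56 LD3_c38))))))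
theorem f139542 : Led Lsl_ct (LP (LK LD1_c6 LD2_c25 LD3_c50)) = (LP (LK LD1_c8 LD2_c50 LD3_c3)) :=
  Lgr Lrot40 (Lpr_ff (K7.f139534 IH) (Lpr_cf (K7.f40661 IH) (Lpe (K6.f40644 IH) (Lpn (LP (LK LD1_c8 LD2_c50 LD3_c3))))))
theorem f157647 : Led Lsl_bt (LP (LK LD1_c8 LD2_c0 LD3_c15)) = (LP (LK LD1_c15 LD2_c4 LD3_c55)) :=
  Lre_b IH (LK LD1_c8 LD2_c0 LD3_c15) (LK LD1_c15 LD2_c4 LD3_c55) Lrfl Lrfl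
theorem f158900 : Led Lsl_bt (LP (LK LD1_c9 LD2_c24 LD3_c34)) = (LP (LK LD1_c11 LD2_c24 LD3_c56)) :=
  Lgr Lrot35 (Lpr_ff (K8.f158896 IH) (Lpe (f157647 IH) (Lpr_ff (K8.f157657 IH) (Lpn (LP (LK LD1_c11 LD2_c24 LD3_c56))))))
theorem f125636 : Led Lsl_at (LP (LK LD1_c3 LD2_c42 LD3_c30)) = (LP (LK LD1_c7 LD2_c25 LD3_c41)) :=
  Lre_a IH (LK LD1_c3 LD2_c42 LD3_c30) (LK LD1_c7 LD2_c25 LD3_c41) Lrfl Lrfl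
theorem f150690 : Led Lsl_at (LP (LK LD1_c6 LD2_c50 LD3_c28)) = (LP (LK LD1_c4 LD2_c41 LD3_c45)) :=
  Lgr Lrot66 (Lpe (K8.f139752 IH) (Lpe (K7.f139523 IH) (Lpr_ff (K7.f150688 IH) (Lpn (LP (LK LD1_c4 LD2_c41 LD3_c45))))))
theorem f157785 : Led Lsl_cf (LP (LK LD1_c3 LD2_c42 LD3_c30)) = (LP (LK LD1_c4 LD2_c41 LD3_c45)) :=
  Lgr Lrot1 (Lpr_at (f125636 IH) (Lpr_ct (K8.f157754 IH) (Lpr_at (f150690 IH) (Lpn (LP (LK LD1_c4 LD2_c41 LD3_c45))))))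
theorem f158943 : Led Lsl_cf (LP (LK LD1_c7 LD2_c25 LD3_c40)) = (LP (LK LD1_c11 LD2_c48 LD3_c11)) :=
  Lgr Lrot125 (Lpr_gt (K8.f125634 IH) (Lpr_cf (f157785 IH) (Lpr_bt (K7.f60993 IH) (Lpr_gt (K2.f60966 IH) (Lpe (K5.f60994 IH) (Lpr_ct (K5.f60995 IH) (Lpr_gt (K8.f60996 IH) (Lpe (f60997 IH) (Lpr_bt (f158900 IH) (Lpr_gt (K8.f158941 IH) (Lpn (LP (LK LD1_c11 LD2_c48 LD3_c11)))))))))))))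
theorem f158947 : Led Lsl_bf (LP (LK LD1_c6 LD2_c25 LD3_c57)) = (LP (LK LD1_c11 LD2_c48 LD3_c11)) :=
  Lgr Lrot34 (Lpe (K8.f79112 IH) (Lpe (K5.f79106 IH) (Lpr_ct (K5.f79109 IH) (Lpr_gf (K4.f120779 IH) (Lpe (K2.f25204 IH) (Lpe (K2.f60966 IH) (Lpe (K7.f60993 IH) (Lpe (f157785 IH) (Lpe (K8.f125634 IH) (Lpr_cf (f158943 IH) (Lpn (LP (LK LD1_c11 LD2_c48 LD3_c11)))))))))))))
theorem f158949 : Led Lsl_bt (LP (LK LD1_c6 LD2_c25 LD3_c57)) = (LP (LK LD1_c11 LD2_c48 LD3_c11)) :=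
  Lgr Lrot127 (Lpr_bf (f158947 IH) (Lpn (LP (LK LD1_c11 LD2_c48 LD3_c11))))
theorem f79164 : Led Lsl_ct (LP (LK LD1_c6 LD2_c25 LD3_c57)) = (LP (LK LD1_c12 LD2_c24 LD3_c6)) :=
  Lre_c IH (LK LD1_c6 LD2_c25 LD3_c57) (LK LD1_c12 LD2_c24 LD3_c6) Lrfl Lrfl
theorem f203541 : Led Lsl_gf (LP (LK LD1_c12 LD2_c24 LD3_c6)) = (LP (LK LD1_c14 LD2_c6 LD3_c49)) :=
  Lgr Lrot126 (Lpe (f79164 IH) (Lpr_bt (f158949 IH) (Lpr_gt (K8.f26515 IH) (Lpr_ct (K6.f26498 IH) (Lpr_gt (K6.f139496 IH) (Lpe (f139542 IH) (Lpr_bt (f139540 IH) (Lpe (f15570 IH) (Lpe (f15580 IH) (Lpr_ct (f203537 IH) (Lpn (LP (LK LD1_c14 LD2_c6 LD3_c49)))))))))))))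
theorem f79200 : Led Lsl_ct (LP (LK LD1_c12 LD2_c24 LD3_c6)) = (LP (LK LD1_c6 LD2_c25 LD3_c57)) :=
  Lre_c IH (LK LD1_c12 LD2_c24 LD3_c6) (LK LD1_c6 LD2_c25 LD3_c57) Lrfl Lrfl
theorem f135873 : Led Lsl_df (LP (LK LD1_c12 LD2_c24 LD3_c6)) = (LP (LK LD1_c13 LD2_c6 LD3_c24)) :=
  Lgr Lrot106 (Lpr_ct (f79200 IH) (Lpr_dt (K8.f135869 IH) (Lpr_ct (K6.f130104 IH) (Lpe (K6.f130122 IH) (Lpe (K4.f103669 IH) (Lpe (K4.f12823 IH) (Lpe (K4.f102863 IH) (Lpr_dt (K5.f97686 IH) (Lpr_ct (K5.f102873 IH) (Lpn (LP (LK LD1_c13 LD2_c6 LD3_c24))))))))))))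
theorem f135875 : Led Lsl_dt (LP (LK LD1_c12 LD2_c24 LD3_c6)) = (LP (LK LD1_c13 LD2_c6 LD3_c24)) :=
  Lgr Lrot42 (Lpr_df (f135873 IH) (Lpn (LP (LK LD1_c13 LD2_c6 LD3_c24))))
theorem f123692 : Led Lsl_dt (LP (LK LD1_c7 LD2_c28 LD3_c37)) = (LP (LK LD1_c14 LD2_c6 LD3_c49)) :=
  Lre_d IH (LK LD1_c7 LD2_c28 LD3_c37) (LK LD1_c14 LD2_c6 LD3_c49) Lrfl Lrfl
theorem f203543 : Led Lsl_gf (LP (LK LD1_c13 LD2_c6 LD3_c19)) = (LP (LK LD1_c13 LD2_c8 LD3_c49)) :=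
  Lgr Lrot144 (Lpr_dt (K8.f97687 IH) (Lpr_gt (K4.f97676 IH) (Lpr_dt (K5.f97686 IH) (Lpe (K5.f103651 IH) (Lpe (f135875 IH) (Lpr_gf (f203541 IH) (Lpe (f123692 IH) (Lpe (K5.f123909 IH) (Lpe (K5.f129394 IH) (Lpn (LP (LK LD1_c13 LD2_c8 LD3_c49))))))))))))
theorem f23569 : Led Lsl_dt (LP (LK LD1_c6 LD2_c33 LD3_c53)) = (LP (LK LD1_c3 LD2_c15 LD3_c14)) :=
  Lre_d IH (LK LD1_c6 LD2_c33 LD3_c53) (LK LD1_c3 LD2_c15 LD3_c14) Lrfl Lrfl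
theorem f79167 : Led Lsl_bt (LP (LK LD1_c12 LD2_c24 LD3_c9)) = (LP (LK LD1_c6 LD2_c33 LD3_c53)) :=
  Lgr Lrot95 (Lpe (K8.f79166 IH) (Lpr_bf (K5.f79161 IH) (Lpe (f23569 IH) (Lpn (LP (LK LD1_c6 LD2_c33 LD3_c53))))))
theorem f107533 : Led Lsl_bf (LP (LK LD1_c1 LD2_c32 LD3_c30)) = (LP (LK LD1_c0 LD2_c43 LD3_c29)) :=
  Lgr Lrot165 (Lpr_gt (K3.f107527 IH) (Lpr_ct (K3.f79312 IH) (Lpe (K4.f103469 IH) (Lpr_cf (K3.f13730 IH) (Lpr_bt (K3.f24026 IH) (Lpr_gt (K0.f24024 IH) (Lpe (K3.f24271 IH) (Lpr_ct (K3.f24272 IH) (Lpr_gt (K3.f24308 IH) (Lpe (K3.f24325 IH) (Lpn (LP (LK LD1_c0 LD2_c43 LD3_c29)))))))))))))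
theorem f127038 : Led Lsl_bf (LP (LK LD1_c1 LD2_c26 LD3_c32)) = (LP (LK LD1_c1 LD2_c29 LD3_c49)) :=
  Lgr Lrot96 (Lpr_et (K5.f126913 IH) (Lpe (f107533 IH) (Lpr_et (K5.f127034 IH) (Lpn (LP (LK LD1_c1 LD2_c29 LD3_c49))))))
theorem f110345 : Led Lsl_bt (LP (LK LD1_c2 LD2_c17 LD3_c21)) = (LP (LK LD1_c4 LD2_c40 LD3_c32)) :=
  Lre_b IH (LK LD1_c2 LD2_c17 LD3_c21) (LK LD1_c4 LD2_c40 LD3_c32) Lrfl Lrfl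
theorem f110934 : Led Lsl_bt (LP (LK LD1_c1 LD2_c29 LD3_c20)) = (LP (LK LD1_c2 LD2_c20 LD3_c20)) :=
  Lgr Lrot128 (Lpe (K3.f61792 IH) (Lpe (K6.f110930 IH) (Lpr_cf (K6.f110928 IH) (Lpe (f110345 IH) (Lpe (K4.f110341 IH) (Lpn (LP (LK LD1_c2 LD2_c20 LD3_c20))))))))
theorem f146711 : Led Lsl_gf (LP (LK LD1_c6 LD2_c18 LD3_c22)) = (LP (LK LD1_c6 LD2_c33 LD3_c53)) :=
  Lgr Lrot85 (Lpr_dt (K3.f61787 IH) (Lpr_ct (K3.f61792 IH) (Lpr_bt (f110934 IH) (Lpr_gt (K4.f110352 IH) (Lpr_dt (K4.f77805 IH) (Lpe (K5.f125277 IH) (Lpe (f127038 IH) (Lpr_gt (K3.f66644 IH) (Lpr_dt (K2.f25033 IH) (Lpr_ct (K3.f62177 IH) (Lpr_bt (K6.f62180 IH) (Lpr_gt (K6.f146697 IH) (Lpe (K6.f146664 IH) (Lpe (K6.f136945 IH) (Lpr_bt (K7.f136961 IH) (Lpe (K4.f102887 IH) (Lpr_dt (K5.f97682 IH) (Lpe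 (K8.f127610 IH) (Lpr_bt (f79167 IH) (Lpn (LP (LK LD1_c6 LD2_c33 LD3_c53))))))))))))))))))))))
theorem f14074 : Led Lsl_gt (LP (LK LD1_c11 LD2_c45 LD3_c57)) = (LP (LK LD1_c6 LD2_c0 LD3_c47)) :=
  Lre_g IH (LK LD1_c11 LD2_c45 LD3_c57) (LK LD1_c6 LD2_c0 LD3_c47) Lrfl Lrfl
theorem f14124 : Led Lsl_gf (LP (LK LD1_c11 LD2_c45 LD3_c57)) = (LP (LK LD1_c11 LD2_c43 LD3_c15)) :=
  Lgr Lrot47 (Lpr_gt (f14074 IH) (Lpe (K8.f14046 IH) (Lpr_ff (K8.f14110 IH) (Lpn (LP (LK LD1_c11 LD2_c43 LD3_c15))))))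
theorem f203566 : Led Lsl_bf (LP (LK LD1_c11 LD2_c45 LD3_c57)) = (LP (LK LD1_c14 LD2_c6 LD3_c48)) :=
  Lgr Lrot34 (Lpr_gf (f14124 IH) (Lpe (K8.f77167 IH) (Lpr_ct (K3.f77169 IH) (Lpe (K3.f110300 IH) (Lpr_cf (K6.f110307 IH) (Lpr_gf (f146711 IH) (Lpe (f79167 IH) (Lpr_ct (K8.f127612 IH) (Lpr_gf (f203543 IH) (Lpr_cf (K8.f129398 IH) (Lpn (LP (LK LD1_c14 LD2_c6 LD3_c48)))))))))))))
theorem f157765 : Led Lsl_gt (LP (LK LD1_c3 LD2_c42 LD3_c55)) = (LP (LK LD1_c7 LD2_c26 LD3_c33)) :=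
  Lre_g IH (LK LD1_c3 LD2_c42 LD3_c55) (LK LD1_c7 LD2_c26 LD3_c33) Lrfl Lrfl
theorem f123224 : Led Lsl_bt (LP (LK LD1_c1 LD2_c53 LD3_c60)) = (LP (LK LD1_c0 LD2_c53 LD3_c36)) :=
  Lre_b IH (LK LD1_c1 LD2_c53 LD3_c60) (LK LD1_c0 LD2_c53 LD3_c36) Lrfl Lrfl
theorem f122906 : Led Lsl_ct (LP (LK LD1_c7 LD2_c52 LD3_c11)) = (LP (LK LD1_c3 LD2_c55 LD3_c11)) :=
  Lre_c IH (LK LD1_c7 LD2_c52 LD3_c11) (LK LD1_c3 LD2_c55 LD3_c11) Lrfl Lrfl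
theorem f122907 : Led Lsl_bt (LP (LK LD1_c14 LD2_c50 LD3_c45)) = (LP (LK LD1_c7 LD2_c52 LD3_c11)) :=
  Lre_b IH (LK LD1_c14 LD2_c50 LD3_c45) (LK LD1_c7 LD2_c52 LD3_c11) Lrfl Lrfl
theorem f122908 : Led Lsl_ct (LP (LK LD1_c3 LD2_c54 LD3_c17)) = (LP (LK LD1_c7 LD2_c50 LD3_c12)) :=
  Lre_c IH (LK LD1_c3 LD2_c54 LD3_c17) (LK LD1_c7 LD2_c50 LD3_c12) Lrfl Lrfl
theorem f122909 : Led Lsl_bt (LP (LK LD1_c7 LD2_c50 LD3_c12)) = (LP (LK LD1_c14 LD2_c46 LD3_c58)) :=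
  Lre_b IH (LK LD1_c7 LD2_c50 LD3_c12) (LK LD1_c14 LD2_c46 LD3_c58) Lrfl Lrfl
theorem f122910 : Led Lsl_cf (LP (LK LD1_c14 LD2_c50 LD3_c45)) = (LP (LK LD1_c14 LD2_c46 LD3_c58)) :=
  Lgr Lrot97 (Lpr_bt (f122907 IH) (Lpr_ct (f122906 IH) (Lpr_bt (K6.f122896 IH) (Lpr_ct (f122908 IH) (Lpr_bt (f122909 IH) (Lpn (LP (LK LD1_c14 LD2_c46 LD3_c58))))))))
theorem f123052 : Led Lsl_et (LP (LK LD1_c14 LD2_c50 LD3_c45)) = (LP (LK LD1_c7 LD2_c52 LD3_c30)) :=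
  Lre_e IH (LK LD1_c14 LD2_c50 LD3_c45) (LK LD1_c7 LD2_c52 LD3_c30) Lrfl Lrfl
theorem f123053 : Led Lsl_et (LP (LK LD1_c7 LD2_c50 LD3_c36)) = (LP (LK LD1_c14 LD2_c46 LD3_c58)) :=
  Lre_e IH (LK LD1_c7 LD2_c50 LD3_c36) (LK LD1_c14 LD2_c46 LD3_c58) Lrfl Lrfl
theorem f123054 : Led Lsl_ct (LP (LK LD1_c7 LD2_c52 LD3_c30)) = (LP (LK LD1_c7 LD2_c50 LD3_c36)) :=
  Lgr Lrot15 (Lpe (f123052 IH) (Lpr_cf (f122910 IH) (Lpe (f123053 IH) (Lpn (LP (LK LD1_c7 LD2_c50 LD3_c36))))))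
theorem f123070 : Led Lsl_cf (LP (LK LD1_c7 LD2_c52 LD3_c30)) = (LP (LK LD1_c7 LD2_c50 LD3_c36)) :=
  Lgr Lrot11 (Lpr_ct (f123054 IH) (Lpn (LP (LK LD1_c7 LD2_c50 LD3_c36))))
theorem f123083 : Led Lsl_bt (LP (LK LD1_c7 LD2_c52 LD3_c30)) = (LP (LK LD1_c3 LD2_c55 LD3_c20)) :=
  Lre_b IH (LK LD1_c7 LD2_c52 LD3_c30) (LK LD1_c3 LD2_c55 LD3_c20) Lrfl Lrfl
theorem f123092 : Led Lsl_ct (LP (LK LD1_c3 LD2_c55 LD3_c20)) = (LP (LK LD1_c1 LD2_c54 LD3_c13)) :=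
  Lre_c IH (LK LD1_c3 LD2_c55 LD3_c20) (LK LD1_c1 LD2_c54 LD3_c13) Lrfl Lrfl
theorem f123093 : Led Lsl_bt (LP (LK LD1_c3 LD2_c54 LD3_c27)) = (LP (LK LD1_c7 LD2_c50 LD3_c36)) :=
  Lre_b IH (LK LD1_c3 LD2_c54 LD3_c27) (LK LD1_c7 LD2_c50 LD3_c36) Lrfl Lrfl
theorem f123094 : Led Lsl_ct (LP (LK LD1_c1 LD2_c53 LD3_c48)) = (LP (LK LD1_c3 LD2_c54 LD3_c27)) :=
  Lre_c IH (LK LD1_c1 LD2_c53 LD3_c48) (LK LD1_c3 LD2_c54 LD3_c27) Lrfl Lrfl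
theorem f123095 : Led Lsl_bt (LP (LK LD1_c1 LD2_c54 LD3_c13)) = (LP (LK LD1_c1 LD2_c53 LD3_c48)) :=
  Lgr Lrot128 (Lpe (f123092 IH) (Lpe (f123083 IH) (Lpr_cf (f123070 IH) (Lpe (f123093 IH) (Lpe (f123094 IH) (Lpn (LP (LK LD1_c1 LD2_c53 LD3_c48))))))))
theorem f123113 : Led Lsl_at (LP (LK LD1_c3 LD2_c54 LD3_c52)) = (LP (LK LD1_c1 LD2_c54 LD3_c13)) :=
  Lre_a IH (LK LD1_c3 LD2_c54 LD3_c52) (LK LD1_c1 LD2_c54 LD3_c13) Lrfl Lrfl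
theorem f123114 : Led Lsl_bt (LP (LK LD1_c7 LD2_c51 LD3_c18)) = (LP (LK LD1_c3 LD2_c54 LD3_c52)) :=
  Lre_b IH (LK LD1_c7 LD2_c51 LD3_c18) (LK LD1_c3 LD2_c54 LD3_c52) Lrfl Lrfl
theorem f123115 : Led Lsl_at (LP (LK LD1_c1 LD2_c53 LD3_c48)) = (LP (LK LD1_c3 LD2_c53 LD3_c58)) :=
  Lre_a IH (LK LD1_c1 LD2_c53 LD3_c48) (LK LD1_c3 LD2_c53 LD3_c58) Lrfl Lrfl
theorem f123116 : Led Lsl_bt (LP (LK LD1_c3 LD2_c53 LD3_c58)) = (LP (LK LD1_c7 LD2_c49 LD3_c25)) :=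
  Lre_b IH (LK LD1_c3 LD2_c53 LD3_c58) (LK LD1_c7 LD2_c49 LD3_c25) Lrfl Lrfl
theorem f123117 : Led Lsl_af (LP (LK LD1_c7 LD2_c51 LD3_c18)) = (LP (LK LD1_c7 LD2_c49 LD3_c25)) :=
  Lgr Lrot36 (Lpr_bt (f123114 IH) (Lpr_at (f123113 IH) (Lpr_bt (f123095 IH) (Lpr_at (f123115 IH) (Lpr_bt (f123116 IH) (Lpn (LP (LK LD1_c7 LD2_c49 LD3_c25))))))))
theorem f123140 : Led Lsl_dt (LP (LK LD1_c7 LD2_c51 LD3_c18)) = (LP (LK LD1_c3 LD2_c54 LD3_c49)) :=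
  Lre_d IH (LK LD1_c7 LD2_c51 LD3_c18) (LK LD1_c3 LD2_c54 LD3_c49) Lrfl Lrfl
theorem f123141 : Led Lsl_dt (LP (LK LD1_c3 LD2_c53 LD3_c55)) = (LP (LK LD1_c7 LD2_c49 LD3_c25)) :=
  Lre_d IH (LK LD1_c3 LD2_c53 LD3_c55) (LK LD1_c7 LD2_c49 LD3_c25) Lrfl Lrfl
theorem f123142 : Led Lsl_at (LP (LK LD1_c3 LD2_c54 LD3_c49)) = (LP (LK LD1_c3 LD2_c53 LD3_c55)) :=
  Lgr Lrot51 (Lpe (f123140 IH) (Lpr_af (f123117 IH) (Lpe (f123141 IH) (Lpn (LP (LK LD1_c3 LD2_c53 LD3_c55))))))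
theorem f123200 : Led Lsl_et (LP (LK LD1_c1 LD2_c53 LD3_c60)) = (LP (LK LD1_c3 LD2_c54 LD3_c49)) :=
  Lre_e IH (LK LD1_c1 LD2_c53 LD3_c60) (LK LD1_c3 LD2_c54 LD3_c49) Lrfl Lrfl
theorem f123201 : Led Lsl_et (LP (LK LD1_c3 LD2_c53 LD3_c55)) = (LP (LK LD1_c1 LD2_c53 LD3_c34)) :=
  Lre_e IH (LK LD1_c3 LD2_c53 LD3_c55) (LK LD1_c1 LD2_c53 LD3_c34) Lrfl Lrfl
theorem f123202 : Led Lsl_af (LP (LK LD1_c1 LD2_c53 LD3_c60)) = (LP (LK LD1_c1 LD2_c53 LD3_c34)) :=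
  Lgr Lrot50 (Lpr_et (f123200 IH) (Lpr_at (f123142 IH) (Lpr_et (f123201 IH) (Lpn (LP (LK LD1_c1 LD2_c53 LD3_c34))))))
theorem f84907 : Led Lsl_at (LP (LK LD1_c0 LD2_c24 LD3_c7)) = (LP (LK LD1_c0 LD2_c53 LD3_c36)) :=
  Lre_a IH (LK LD1_c0 LD2_c24 LD3_c7) (LK LD1_c0 LD2_c53 LD3_c36) Lrfl Lrfl
theorem f84910 : Led Lsl_bt (LP (LK LD1_c0 LD2_c53 LD3_c36)) = (LP (LK LD1_c1 LD2_c53 LD3_c60)) :=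
  Lre_b IH (LK LD1_c0 LD2_c53 LD3_c36) (LK LD1_c1 LD2_c53 LD3_c60) Lrfl Lrfl
theorem f122750 : Led Lsl_at (LP (LK LD1_c1 LD2_c53 LD3_c60)) = (LP (LK LD1_c1 LD2_c53 LD3_c34)) :=
  Lgr Lrot67 (Lpe (f84910 IH) (Lpe (f84907 IH) (Lpr_bf (K6.f122736 IH) (Lpe (K5.f122748 IH) (Lpe (K6.f122749 IH) (Lpn (LP (LK LD1_c1 LD2_c53 LD3_c34))))))))
theorem f142515 : Led Lsl_ct (LP (LK LD1_c1 LD2_c53 LD3_c60)) = (LP (LK LD1_c1 LD2_c53 LD3_c60)) :=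
  Lgr Lrot111 (Lpr_af (f123202 IH) (Lpr_cf (K6.f142513 IH) (Lpe (f122750 IH) (Lpn (LP (LK LD1_c1 LD2_c53 LD3_c60))))))
theorem f84911 : Led Lsl_gt (LP (LK LD1_c1 LD2_c53 LD3_c60)) = (LP (LK LD1_c3 LD2_c54 LD3_c47)) :=
  Lre_g IH (LK LD1_c1 LD2_c53 LD3_c60) (LK LD1_c3 LD2_c54 LD3_c47) Lrfl Lrfl
theorem f147606 : Led Lsl_ct (LP (LK LD1_c7 LD2_c51 LD3_c13)) = (LP (LK LD1_c3 LD2_c54 LD3_c47)) :=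
  Lre_c IH (LK LD1_c7 LD2_c51 LD3_c13) (LK LD1_c3 LD2_c54 LD3_c47) Lrfl Lrfl
theorem f147607 : Led Lsl_bf (LP (LK LD1_c7 LD2_c24 LD3_c61)) = (LP (LK LD1_c7 LD2_c51 LD3_c13)) :=
  Lgr Lrot165 (Lpe (K6.f136714 IH) (Lpr_ct (K5.f114461 IH) (Lpe (K5.f127929 IH) (Lpe (K4.f96125 IH) (Lpr_bt (K4.f95893 IH) (Lpr_gt (K7.f147600 IH) (Lpe (f123224 IH) (Lpr_ct (f142515 IH) (Lpr_gt (f84911 IH) (Lpe (f147606 IH) (Lpn (LP (LK LD1_c7 LD2_c51 LD3_c13)))))))))))))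
theorem f142733 : Led Lsl_ct (LP (LK LD1_c3 LD2_c54 LD3_c47)) = (LP (LK LD1_c7 LD2_c51 LD3_c13)) :=
  Lre_c IH (LK LD1_c3 LD2_c54 LD3_c47) (LK LD1_c7 LD2_c51 LD3_c13) Lrfl Lrfl
theorem f203571 : Led Lsl_dt (LP (LK LD1_c7 LD2_c26 LD3_c33)) = (LP (LK LD1_c3 LD2_c54 LD3_c47)) :=
  Lgr Lrot182 (Lpe (f157765 IH) (Lpe (K7.f12909 IH) (Lpr_cf (K8.f147736 IH) (Lpe (K5.f22664 IH) (Lpe (K5.f22824 IH) (Lpe (K11.f22825 IH) (Lpr_cf (K8.f68509 IH) (Lpr_df (K8.f157758 IH) (Lpr_gf (K4.f56834 IH) (Lpe (K0.f14391 IH) (Lpe (K0.f14038 IH) (Lpe (K0.f14037 IH) (Lpe (f14074 IH) (Lpr_bf (f203566 IH) (Lpe (K5.f129394 IH) (Lpe (K8.f127888 IH) (Lpr_gf (K6.f136714 IH) (Lpr_bf (f147607 IH) (Lpe (f142733 IH) (Lpn (LP (LK LD1_c3 LD2_c54 LD3_c47))))))))))))))))))))))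
theorem f203575 : Led Lsl_df (LP (LK LD1_c7 LD2_c26 LD3_c33)) = (LP (LK LD1_c3 LD2_c54 LD3_c47)) :=
  Lgr Lrot38 (Lpr_dt (f203571 IH) (Lpn (LP (LK LD1_c3 LD2_c54 LD3_c47))))
theorem f84909 : Led Lsl_ct (LP (LK LD1_c0 LD2_c53 LD3_c36)) = (LP (LK LD1_c0 LD2_c24 LD3_c6)) :=
  Lre_c IH (LK LD1_c0 LD2_c53 LD3_c36) (LK LD1_c0 LD2_c24 LD3_c6) Lrfl Lrfl
theorem f142727 : Led Lsl_bt (LP (LK LD1_c3 LD2_c49 LD3_c59)) = (LP (LK LD1_c3 LD2_c54 LD3_c47)) :=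
  Lgr Lrot92 (Lpr_ct (K7.f96388 IH) (Lpr_gt (K5.f65963 IH) (Lpe (K5.f84929 IH) (Lpe (K7.f96380 IH) (Lpr_gt (K4.f12370 IH) (Lpr_ct (K4.f12359 IH) (Lpr_gt (K6.f142719 IH) (Lpe (f84909 IH) (Lpr_bt (f84910 IH) (Lpr_gt (f84911 IH) (Lpn (LP (LK LD1_c3 LD2_c54 LD3_c47)))))))))))))
theorem f203580 : Led Lsl_bt (LP (LK LD1_c7 LD2_c26 LD3_c33)) = (LP (LK LD1_c7 LD2_c40 LD3_c54)) :=
  Lgr Lrot95 (Lpr_df (f203575 IH) (Lpe (f142727 IH) (Lpe (K7.f136712 IH) (Lpn (LP (LK LD1_c7 LD2_c40 LD3_c54))))))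
theorem f203588 : Led Lsl_ff (LP (LK LD1_c7 LD2_c26 LD3_c33)) = (LP (LK LD1_c7 LD2_c21 LD3_c26)) :=
  Lgr Lrot25 (Lpr_bt (f203580 IH) (Lpr_ft (K7.f151393 IH) (Lpr_bt (K7.f148332 IH) (Lpn (LP (LK LD1_c7 LD2_c21 LD3_c26))))))
theorem f151370 : Led Lsl_bt (LP (LK LD1_c7 LD2_c21 LD3_c26)) = (LP (LK LD1_c13 LD2_c54 LD3_c30)) :=
  Lre_b IH (LK LD1_c7 LD2_c21 LD3_c26) (LK LD1_c13 LD2_c54 LD3_c30) Lrfl Lrfl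
theorem f151400 : Led Lsl_dt (LP (LK LD1_c3 LD2_c53 LD3_c54)) = (LP (LK LD1_c7 LD2_c21 LD3_c26)) :=
  Lgr Lrot79 (Lpr_bf (K6.f142477 IH) (Lpr_df (K7.f151395 IH) (Lpe (f151370 IH) (Lpn (LP (LK LD1_c7 LD2_c21 LD3_c26))))))
theorem f203590 : Led Lsl_ft (LP (LK LD1_c3 LD2_c54 LD3_c47)) = (LP (LK LD1_c3 LD2_c53 LD3_c54)) :=
  Lgr Lrot54 (Lpe (f203571 IH) (Lpr_ff (f203588 IH) (Lpe (f151400 IH) (Lpn (LP (LK LD1_c3 LD2_c53 LD3_c54))))))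
theorem f203616 : Led Lsl_ff (LP (LK LD1_c3 LD2_c54 LD3_c47)) = (LP (LK LD1_c3 LD2_c53 LD3_c54)) :=
  Lgr Lrot3 (Lpr_ft (f203590 IH) (Lpn (LP (LK LD1_c3 LD2_c53 LD3_c54))))
theorem f203592 : Led Lsl_ft (LP (LK LD1_c7 LD2_c26 LD3_c33)) = (LP (LK LD1_c7 LD2_c21 LD3_c26)) :=
  Lgr Lrot48 (Lpr_ff (f203588 IH) (Lpn (LP (LK LD1_c7 LD2_c21 LD3_c26))))
theorem f203622 : Led Lsl_dt (LP (LK LD1_c7 LD2_c21 LD3_c26)) = (LP (LK LD1_c3 LD2_c53 LD3_c54)) :=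
  Lgr Lrot60 (Lpe (f203592 IH) (Lpr_df (f203575 IH) (Lpr_ff (f203616 IH) (Lpn (LP (LK LD1_c3 LD2_c53 LD3_c54))))))
theorem f203594 : Led Lsl_at (LP (LK LD1_c7 LD2_c26 LD3_c33)) = (LP (LK LD1_c7 LD2_c21 LD3_c26)) :=
  Lgr Lrot26 (Lpr_ff (f203588 IH) (Lpe (K7.f148330 IH) (Lpr_gt (K7.f148317 IH) (Lpn (LP (LK LD1_c7 LD2_c21 LD3_c26))))))
theorem f203624 : Led Lsl_af (LP (LK LD1_c3 LD2_c54 LD3_c47)) = (LP (LK LD1_c3 LD2_c53 LD3_c54)) :=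
  Lgr Lrot117 (Lpe (f203575 IH) (Lpr_at (f203594 IH) (Lpr_dt (f203622 IH) (Lpn (LP (LK LD1_c3 LD2_c53 LD3_c54))))))
theorem f203635 : Led Lsl_gf (LP (LK LD1_c1 LD2_c53 LD3_c60)) = (LP (LK LD1_c3 LD2_c54 LD3_c47)) :=
  Lgr Lrot47 (Lpr_gt (f84911 IH) (Lpr_af (f203624 IH) (Lpe (f203590 IH) (Lpn (LP (LK LD1_c3 LD2_c54 LD3_c47))))))
theorem f6107 : Led Lsl_gt (LP (LK LD1_c1 LD2_c45 LD3_c9)) = (LP (LK LD1_c3 LD2_c36 LD3_c35)) :=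
  Lre_g IH (LK LD1_c1 LD2_c45 LD3_c9) (LK LD1_c3 LD2_c36 LD3_c35) Lrfl Lrfl
theorem f108062 : Led Lsl_et (LP (LK LD1_c3 LD2_c33 LD3_c38)) = (LP (LK LD1_c1 LD2_c43 LD3_c31)) :=
  Lre_e IH (LK LD1_c3 LD2_c33 LD3_c38) (LK LD1_c1 LD2_c43 LD3_c31) Lrfl Lrfl
theorem f108063 : Led Lsl_et (LP (LK LD1_c1 LD2_c48 LD3_c6)) = (LP (LK LD1_c3 LD2_c42 LD3_c17)) :=
  Lre_e IH (LK LD1_c1 LD2_c48 LD3_c6) (LK LD1_c3 LD2_c42 LD3_c17) Lrfl Lrfl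
theorem f108064 : Led Lsl_ct (LP (LK LD1_c1 LD2_c43 LD3_c31)) = (LP (LK LD1_c1 LD2_c48 LD3_c6)) :=
  Lgr Lrot15 (Lpe (f108062 IH) (Lpr_cf (K8.f108044 IH) (Lpe (f108063 IH) (Lpn (LP (LK LD1_c1 LD2_c48 LD3_c6))))))
theorem f6106 : Led Lsl_bt (LP (LK LD1_c0 LD2_c49 LD3_c16)) = (LP (LK LD1_c1 LD2_c45 LD3_c9)) :=
  Lre_b IH (LK LD1_c0 LD2_c49 LD3_c16) (LK LD1_c1 LD2_c45 LD3_c9) Lrfl Lrfl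
theorem f108092 : Led Lsl_gt (LP (LK LD1_c3 LD2_c42 LD3_c14)) = (LP (LK LD1_c1 LD2_c48 LD3_c6)) :=
  Lre_g IH (LK LD1_c3 LD2_c42 LD3_c14) (LK LD1_c1 LD2_c48 LD3_c6) Lrfl Lrfl
theorem f108093 : Led Lsl_ct (LP (LK LD1_c3 LD2_c36 LD3_c35)) = (LP (LK LD1_c3 LD2_c42 LD3_c14)) :=
  Lgr Lrot91 (Lpe (f6107 IH) (Lpe (f6106 IH) (Lpr_ct (K3.f6105 IH) (Lpe (K2.f5900 IH) (Lpe (K2.f5887 IH) (Lpr_bt (K3.f6013 IH) (Lpe (K3.f6108 IH) (Lpe (K8.f6109 IH) (Lpr_ct (f108064 IH) (Lpe (f108092 IH) (Lpn (LP (LK LD1_c3 LD2_c42 LD3_c14)))))))))))))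
theorem f108096 : Led Lsl_cf (LP (LK LD1_c3 LD2_c36 LD3_c35)) = (LP (LK LD1_c3 LD2_c42 LD3_c14)) :=
  Lgr Lrot11 (Lpr_ct (f108093 IH) (Lpn (LP (LK LD1_c3 LD2_c42 LD3_c14))))
theorem f108095 : Led Lsl_bt (LP (LK LD1_c3 LD2_c42 LD3_c14)) = (LP (LK LD1_c7 LD2_c25 LD3_c8)) :=
  Lre_b IH (LK LD1_c3 LD2_c42 LD3_c14) (LK LD1_c7 LD2_c25 LD3_c8) Lrfl Lrfl
theorem f203637 : Led Lsl_gt (LP (LK LD1_c7 LD2_c25 LD3_c8)) = (LP (LK LD1_c7 LD2_c51 LD3_c13)) :=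
  Lgr Lrot82 (Lpe (f108095 IH) (Lpe (f108096 IH) (Lpe (f6107 IH) (Lpr_cf (K8.f142703 IH) (Lpr_bt (K8.f90082 IH) (Lpe (K6.f134738 IH) (Lpe (f123224 IH) (Lpr_ct (f142515 IH) (Lpr_gf (f203635 IH) (Lpe (f147606 IH) (Lpn (LP (LK LD1_c7 LD2_c51 LD3_c13)))))))))))))
theorem f203618 : Led Lsl_bt (LP (LK LD1_c3 LD2_c54 LD3_c47)) = (LP (LK LD1_c3 LD2_c49 LD3_c59)) :=
  Lgr Lrot35 (Lpr_ff (f203616 IH) (Lpr_bf (K6.f142477 IH) (Lpr_ff (K6.f144833 IH) (Lpn (LP (LK LD1_c3 LD2_c49 LD3_c59))))))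
theorem f162100 : Led Lsl_at (LP (LK LD1_c7 LD2_c20 LD3_c61)) = (LP (LK LD1_c6 LD2_c54 LD3_c41)) :=
  Lgr Lrot100 (Lpr_af (K8.f162098 IH) (Lpn (LP (LK LD1_c6 LD2_c54 LD3_c41))))
theorem f162768 : Led Lsl_gt (LP (LK LD1_c6 LD2_c54 LD3_c40)) = (LP (LK LD1_c7 LD2_c21 LD3_c1)) :=
  Lgr Lrot5 (Lpe (K8.f162110 IH) (Lpr_at (f162100 IH) (Lpr_gf (K8.f162766 IH) (Lpn (LP (LK LD1_c7 LD2_c21 LD3_c1))))))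
theorem f159387 : Led Lsl_ff (LP (LK LD1_c1 LD2_c48 LD3_c7)) = (LP (LK LD1_c1 LD2_c47 LD3_c2)) :=
  Lgr Lrot19 (Lpr_dt (K6.f26195 IH) (Lpr_ft (K8.f159379 IH) (Lpr_dt (K6.f66556 IH) (Lpn (LP (LK LD1_c1 LD2_c47 LD3_c2))))))
theorem f122634 : Led Lsl_et (LP (LK LD1_c1 LD2_c48 LD3_c7)) = (LP (LK LD1_c3 LD2_c42 LD3_c21)) :=
  Lre_e IH (LK LD1_c1 LD2_c48 LD3_c7) (LK LD1_c3 LD2_c42 LD3_c21) Lrfl Lrfl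
theorem f107579 : Led Lsl_et (LP (LK LD1_c3 LD2_c40 LD3_c11)) = (LP (LK LD1_c1 LD2_c47 LD3_c2)) :=
  Lre_e IH (LK LD1_c3 LD2_c40 LD3_c11) (LK LD1_c1 LD2_c47 LD3_c2) Lrfl Lrfl
theorem f159392 : Led Lsl_ft (LP (LK LD1_c7 LD2_c20 LD3_c34)) = (LP (LK LD1_c3 LD2_c40 LD3_c11)) :=
  Lre_f IH (LK LD1_c7 LD2_c20 LD3_c34) (LK LD1_c3 LD2_c40 LD3_c11) Lrfl Lrfl
theorem f159393 : Led Lsl_et (LP (LK LD1_c7 LD2_c25 LD3_c26)) = (LP (LK LD1_c7 LD2_c20 LD3_c34)) :=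
  Lgr Lrot69 (Lpe (K8.f159280 IH) (Lpe (f122634 IH) (Lpr_ff (f159387 IH) (Lpe (f107579 IH) (Lpe (f159392 IH) (Lpn (LP (LK LD1_c7 LD2_c20 LD3_c34))))))))
theorem f159400 : Led Lsl_ef (LP (LK LD1_c7 LD2_c25 LD3_c26)) = (LP (LK LD1_c7 LD2_c20 LD3_c34)) :=
  Lgr Lrot88 (Lpr_et (f159393 IH) (Lpn (LP (LK LD1_c7 LD2_c20 LD3_c34))))
theorem f159402 : Led Lsl_bt (LP (LK LD1_c7 LD2_c25 LD3_c26)) = (LP (LK LD1_c14 LD2_c1 LD3_c60)) :=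
  Lre_b IH (LK LD1_c7 LD2_c25 LD3_c26) (LK LD1_c14 LD2_c1 LD3_c60) Lrfl Lrfl
theorem f159403 : Led Lsl_bt (LP (LK LD1_c13 LD2_c52 LD3_c52)) = (LP (LK LD1_c7 LD2_c20 LD3_c34)) :=
  Lre_b IH (LK LD1_c13 LD2_c52 LD3_c52) (LK LD1_c7 LD2_c20 LD3_c34) Lrfl Lrfl
theorem f159404 : Led Lsl_et (LP (LK LD1_c14 LD2_c1 LD3_c60)) = (LP (LK LD1_c13 LD2_c52 LD3_c52)) :=
  Lgr Lrot74 (Lpe (f159402 IH) (Lpr_ef (f159400 IH) (Lpe (f159403 IH) (Lpn (LP (LK LD1_c13 LD2_c52 LD3_c52))))))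
theorem f159416 : Led Lsl_ft (LP (LK LD1_c7 LD2_c25 LD3_c14)) = (LP (LK LD1_c14 LD2_c1 LD3_c60)) :=
  Lre_f IH (LK LD1_c7 LD2_c25 LD3_c14) (LK LD1_c14 LD2_c1 LD3_c60) Lrfl Lrfl
theorem f159417 : Led Lsl_et (LP (LK LD1_c3 LD2_c42 LD3_c16)) = (LP (LK LD1_c7 LD2_c25 LD3_c14)) :=
  Lre_e IH (LK LD1_c3 LD2_c42 LD3_c16) (LK LD1_c7 LD2_c25 LD3_c14) Lrfl Lrfl
theorem f159418 : Led Lsl_ft (LP (LK LD1_c13 LD2_c52 LD3_c52)) = (LP (LK LD1_c7 LD2_c20 LD3_c24)) :=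
  Lre_f IH (LK LD1_c13 LD2_c52 LD3_c52) (LK LD1_c7 LD2_c20 LD3_c24) Lrfl Lrfl
theorem f159419 : Led Lsl_et (LP (LK LD1_c7 LD2_c20 LD3_c24)) = (LP (LK LD1_c3 LD2_c40 LD3_c8)) :=
  Lre_e IH (LK LD1_c7 LD2_c20 LD3_c24) (LK LD1_c3 LD2_c40 LD3_c8) Lrfl Lrfl
theorem f159420 : Led Lsl_ff (LP (LK LD1_c3 LD2_c42 LD3_c16)) = (LP (LK LD1_c3 LD2_c40 LD3_c8)) :=
  Lgr Lrot72 (Lpr_et (f159417 IH) (Lpr_ft (f159416 IH) (Lpr_et (f159404 IH) (Lpr_ft (f159418 IH) (Lpr_et (f159419 IH) (Lpn (LP (LK LD1_c3 LD2_c40 LD3_c8))))))))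
theorem f159424 : Led Lsl_at (LP (LK LD1_c3 LD2_c42 LD3_c16)) = (LP (LK LD1_c7 LD2_c25 LD3_c10)) :=
  Lre_a IH (LK LD1_c3 LD2_c42 LD3_c16) (LK LD1_c7 LD2_c25 LD3_c10) Lrfl Lrfl
theorem f159425 : Led Lsl_at (LP (LK LD1_c7 LD2_c20 LD3_c22)) = (LP (LK LD1_c3 LD2_c40 LD3_c8)) :=
  Lre_a IH (LK LD1_c7 LD2_c20 LD3_c22) (LK LD1_c3 LD2_c40 LD3_c8) Lrfl Lrfl
theorem f159426 : Led Lsl_ft (LP (LK LD1_c7 LD2_c25 LD3_c10)) = (LP (LK LD1_c7 LD2_c20 LD3_c22)) :=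
  Lgr Lrot101 (Lpe (f159424 IH) (Lpr_ff (f159420 IH) (Lpe (f159425 IH) (Lpn (LP (LK LD1_c7 LD2_c20 LD3_c22))))))
theorem f159436 : Led Lsl_ff (LP (LK LD1_c7 LD2_c25 LD3_c10)) = (LP (LK LD1_c7 LD2_c20 LD3_c22)) :=
  Lgr Lrot3 (Lpr_ft (f159426 IH) (Lpn (LP (LK LD1_c7 LD2_c20 LD3_c22))))
theorem f108123 : Led Lsl_dt (LP (LK LD1_c7 LD2_c25 LD3_c10)) = (LP (LK LD1_c3 LD2_c42 LD3_c15)) :=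
  Lre_d IH (LK LD1_c7 LD2_c25 LD3_c10) (LK LD1_c3 LD2_c42 LD3_c15) Lrfl Lrfl
theorem f159439 : Led Lsl_dt (LP (LK LD1_c3 LD2_c40 LD3_c7)) = (LP (LK LD1_c7 LD2_c20 LD3_c22)) :=
  Lre_d IH (LK LD1_c3 LD2_c40 LD3_c7) (LK LD1_c7 LD2_c20 LD3_c22) Lrfl Lrfl
theorem f159440 : Led Lsl_ft (LP (LK LD1_c3 LD2_c42 LD3_c15)) = (LP (LK LD1_c3 LD2_c40 LD3_c7)) :=
  Lgr Lrot54 (Lpe (f108123 IH) (Lpr_ff (f159436 IH) (Lpe (f159439 IH) (Lpn (LP (LK LD1_c3 LD2_c40 LD3_c7))))))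
theorem f159457 : Led Lsl_at (LP (LK LD1_c3 LD2_c40 LD3_c7)) = (LP (LK LD1_c1 LD2_c47 LD3_c1)) :=
  Lre_a IH (LK LD1_c3 LD2_c40 LD3_c7) (LK LD1_c1 LD2_c47 LD3_c1) Lrfl Lrfl
theorem f142731 : Led Lsl_gt (LP (LK LD1_c3 LD2_c40 LD3_c6)) = (LP (LK LD1_c1 LD2_c47 LD3_c1)) :=
  Lre_g IH (LK LD1_c3 LD2_c40 LD3_c6) (LK LD1_c1 LD2_c47 LD3_c1) Lrfl Lrfl
theorem f159459 : Led Lsl_gt (LP (LK LD1_c3 LD2_c42 LD3_c15)) = (LP (LK LD1_c3 LD2_c40 LD3_c6)) :=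
  Lgr Lrot5 (Lpr_ft (f159440 IH) (Lpr_at (f159457 IH) (Lpe (f142731 IH) (Lpn (LP (LK LD1_c3 LD2_c40 LD3_c6))))))
theorem f142732 : Led Lsl_bt (LP (LK LD1_c7 LD2_c20 LD3_c19)) = (LP (LK LD1_c3 LD2_c40 LD3_c6)) :=
  Lre_b IH (LK LD1_c7 LD2_c20 LD3_c19) (LK LD1_c3 LD2_c40 LD3_c6) Lrfl Lrfl
theorem f203648 : Led Lsl_cf (LP (LK LD1_c7 LD2_c25 LD3_c8)) = (LP (LK LD1_c7 LD2_c20 LD3_c19)) :=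
  Lgr Lrot160 (Lpr_gt (f203637 IH) (Lpe (f142733 IH) (Lpr_bt (f203618 IH) (Lpe (K6.f145095 IH) (Lpe (K6.f144953 IH) (Lpr_gt (f162768 IH) (Lpe (K8.f159463 IH) (Lpe (K8.f159369 IH) (Lpr_gt (f159459 IH) (Lpe (f142732 IH) (Lpn (LP (LK LD1_c7 LD2_c20 LD3_c19)))))))))))))
theorem f203663 : Led Lsl_gf (LP (LK LD1_c7 LD2_c25 LD3_c8)) = (LP (LK LD1_c7 LD2_c51 LD3_c13)) :=
  Lgr Lrot129 (Lpr_cf (f203648 IH) (Lpr_bt (f142732 IH) (Lpr_gt (f142731 IH) (Lpe (K8.f12404 IH) (Lpr_ct (K4.f12359 IH) (Lpr_gt (K6.f142719 IH) (Lpe (f84909 IH) (Lpr_bt (f84910 IH) (Lpr_gt (f84911 IH) (Lpr_ct (f142733 IH) (Lpn (LP (LK LD1_c7 LD2_c51 LD3_c13)))))))))))))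
theorem f123480 : Led Lsl_bt (LP (LK LD1_c1 LD2_c51 LD3_c58)) = (LP (LK LD1_c3 LD2_c49 LD3_c58)) :=
  Lre_b IH (LK LD1_c1 LD2_c51 LD3_c58) (LK LD1_c3 LD2_c49 LD3_c58) Lrfl Lrfl
theorem f144831 : Led Lsl_ff (LP (LK LD1_c7 LD2_c35 LD3_c36)) = (LP (LK LD1_c3 LD2_c49 LD3_c58)) :=
  Lgr Lrot25 (Lpr_bt (K6.f91264 IH) (Lpr_ft (K6.f144829 IH) (Lpr_bt (f123480 IH) (Lpn (LP (LK LD1_c3 LD2_c49 LD3_c58))))))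
theorem f145034 : Led Lsl_af (LP (LK LD1_c6 LD2_c56 LD3_c13)) = (LP (LK LD1_c7 LD2_c35 LD3_c36)) :=
  Lgr Lrot45 (Lpr_ft (K6.f145029 IH) (Lpe (K8.f145019 IH) (Lpe (f144831 IH) (Lpn (LP (LK LD1_c7 LD2_c35 LD3_c36))))))
theorem f162016 : Led Lsl_gf (LP (LK LD1_c7 LD2_c35 LD3_c52)) = (LP (LK LD1_c3 LD2_c49 LD3_c58)) :=
  Lgr Lrot47 (Lpr_gt (K8.f162014 IH) (Lpr_af (f145034 IH) (Lpr_ff (f144831 IH) (Lpn (LP (LK LD1_c3 LD2_c49 LD3_c58))))))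
theorem f203646 : Led Lsl_bt (LP (LK LD1_c7 LD2_c24 LD3_c61)) = (LP (LK LD1_c7 LD2_c51 LD3_c13)) :=
  Lgr Lrot92 (Lpr_ct (K7.f123481 IH) (Lpe (f162016 IH) (Lpe (K8.f161978 IH) (Lpr_bt (K8.f162026 IH) (Lpr_gt (K8.f159644 IH) (Lpe (K8.f142703 IH) (Lpr_gt (f6107 IH) (Lpr_cf (f108096 IH) (Lpr_bt (f108095 IH) (Lpr_gt (f203637 IH) (Lpn (LP (LK LD1_c7 LD2_c51 LD3_c13)))))))))))))
theorem f203669 : Led Lsl_gt (LP (LK LD1_c3 LD2_c36 LD3_c35)) = (LP (LK LD1_c3 LD2_c33 LD3_c4)) :=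
  Lgr Lrot65 (Lpr_cf (f108096 IH) (Lpr_bt (f108095 IH) (Lpr_gf (f203663 IH) (Lpe (f203646 IH) (Lpr_ct (K7.f123481 IH) (Lpe (K8.f145038 IH) (Lpe (K6.f129564 IH) (Lpr_gf (K5.f129557 IH) (Lpr_bf (K8.f159998 IH) (Lpr_ct (K8.f11763 IH) (Lpn (LP (LK LD1_c3 LD2_c33 LD3_c4)))))))))))))
theorem f108127 : Led Lsl_dt (LP (LK LD1_c3 LD2_c42 LD3_c15)) = (LP (LK LD1_c7 LD2_c25 LD3_c10)) :=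
  Lre_d IH (LK LD1_c3 LD2_c42 LD3_c15) (LK LD1_c7 LD2_c25 LD3_c10) Lrfl Lrfl
theorem f159429 : Led Lsl_dt (LP (LK LD1_c7 LD2_c20 LD3_c22)) = (LP (LK LD1_c3 LD2_c40 LD3_c7)) :=
  Lre_d IH (LK LD1_c7 LD2_c20 LD3_c22) (LK LD1_c3 LD2_c40 LD3_c7) Lrfl Lrfl
theorem f159430 : Led Lsl_ff (LP (LK LD1_c3 LD2_c42 LD3_c15)) = (LP (LK LD1_c3 LD2_c40 LD3_c7)) :=
  Lgr Lrot19 (Lpr_dt (f108127 IH) (Lpr_ft (f159426 IH) (Lpr_dt (f159429 IH) (Lpn (LP (LK LD1_c3 LD2_c40 LD3_c7))))))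
theorem f159470 : Led Lsl_gf (LP (LK LD1_c3 LD2_c42 LD3_c14)) = (LP (LK LD1_c3 LD2_c40 LD3_c7)) :=
  Lgr Lrot47 (Lpr_gt (f108092 IH) (Lpe (K8.f108088 IH) (Lpr_ff (f159430 IH) (Lpn (LP (LK LD1_c3 LD2_c40 LD3_c7))))))
theorem f142682 : Led Lsl_at (LP (LK LD1_c1 LD2_c48 LD3_c18)) = (LP (LK LD1_c3 LD2_c42 LD3_c37)) :=
  Lre_a IH (LK LD1_c1 LD2_c48 LD3_c18) (LK LD1_c3 LD2_c42 LD3_c37) Lrfl Lrfl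
theorem f162877 : Led Lsl_cf (LP (LK LD1_c3 LD2_c49 LD3_c17)) = (LP (LK LD1_c3 LD2_c42 LD3_c37)) :=
  Lgr Lrot1 (Lpr_at (K8.f162873 IH) (Lpe (K6.f142680 IH) (Lpr_at (f142682 IH) (Lpn (LP (LK LD1_c3 LD2_c42 LD3_c37))))))
theorem f203671 : Led Lsl_bf (LP (LK LD1_c3 LD2_c40 LD3_c7)) = (LP (LK LD1_c3 LD2_c42 LD3_c37)) :=
  Lgr Lrot165 (Lpe (f159470 IH) (Lpe (f108096 IH) (Lpr_gt (f203669 IH) (Lpe (K8.f11763 IH) (Lpe (K8.f159998 IH) (Lpe (K5.f129557 IH) (Lpe (K5.f121019 IH) (Lpr_ct (K5.f122734 IH) (Lpe (K8.f162854 IH) (Lpr_cf (f162877 IH) (Lpn (LP (LK LD1_c3 LD2_c42 LD3_c37)))))))))))))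
theorem f108124 : Led Lsl_et (LP (LK LD1_c3 LD2_c33 LD3_c36)) = (LP (LK LD1_c7 LD2_c8 LD3_c3)) :=
  Lre_e IH (LK LD1_c3 LD2_c33 LD3_c36) (LK LD1_c7 LD2_c8 LD3_c3) Lrfl Lrfl
theorem f160379 : Led Lsl_bt (LP (LK LD1_c3 LD2_c36 LD3_c56)) = (LP (LK LD1_c3 LD2_c33 LD3_c36)) :=
  Lgr Lrot119 (Lpe (K8.f160378 IH) (Lpr_bf (K8.f160373 IH) (Lpe (f108124 IH) (Lpn (LP (LK LD1_c3 LD2_c33 LD3_c36))))))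
theorem f108082 : Led Lsl_at (LP (LK LD1_c3 LD2_c33 LD3_c36)) = (LP (LK LD1_c1 LD2_c43 LD3_c31)) :=
  Lre_a IH (LK LD1_c3 LD2_c33 LD3_c36) (LK LD1_c1 LD2_c43 LD3_c31) Lrfl Lrfl
theorem f108084 : Led Lsl_cf (LP (LK LD1_c3 LD2_c33 LD3_c36)) = (LP (LK LD1_c3 LD2_c42 LD3_c15)) :=
  Lgr Lrot1 (Lpr_at (f108082 IH) (Lpr_ct (f108064 IH) (Lpr_at (K8.f108083 IH) (Lpn (LP (LK LD1_c3 LD2_c42 LD3_c15))))))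
theorem f108121 : Led Lsl_ct (LP (LK LD1_c3 LD2_c33 LD3_c36)) = (LP (LK LD1_c3 LD2_c42 LD3_c15)) :=
  Lgr Lrot59 (Lpr_cf (f108084 IH) (Lpn (LP (LK LD1_c3 LD2_c42 LD3_c15))))
theorem f162829 : Led Lsl_bf (LP (LK LD1_c3 LD2_c40 LD3_c30)) = (LP (LK LD1_c3 LD2_c42 LD3_c15)) :=
  Lgr Lrot90 (Lpr_ct (K8.f159463 IH) (Lpe (K8.f162783 IH) (Lpr_ct (K8.f162825 IH) (Lpr_bt (f160379 IH) (Lpr_ct (f108121 IH) (Lpn (LP (LK LD1_c3 LD2_c42 LD3_c15))))))))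
theorem f203678 : Led Lsl_ft (LP (LK LD1_c3 LD2_c40 LD3_c30)) = (LP (LK LD1_c3 LD2_c42 LD3_c37)) :=
  Lgr Lrot75 (Lpr_bf (f162829 IH) (Lpr_ff (f159430 IH) (Lpr_bf (f203671 IH) (Lpn (LP (LK LD1_c3 LD2_c42 LD3_c37))))))
theorem f162785 : Led Lsl_dt (LP (LK LD1_c7 LD2_c21 LD3_c8)) = (LP (LK LD1_c3 LD2_c40 LD3_c30)) :=
  Lre_d IH (LK LD1_c7 LD2_c21 LD3_c8) (LK LD1_c3 LD2_c40 LD3_c30) Lrfl Lrfl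
theorem f203680 : Led Lsl_dt (LP (LK LD1_c3 LD2_c42 LD3_c37)) = (LP (LK LD1_c7 LD2_c25 LD3_c50)) :=
  Lre_d IH (LK LD1_c3 LD2_c42 LD3_c37) (LK LD1_c7 LD2_c25 LD3_c50) Lrfl Lrfl
theorem f203681 : Led Lsl_ff (LP (LK LD1_c7 LD2_c21 LD3_c8)) = (LP (LK LD1_c7 LD2_c25 LD3_c50)) :=
  Lgr Lrot19 (Lpr_dt (f162785 IH) (Lpr_ft (f203678 IH) (Lpr_dt (f203680 IH) (Lpn (LP (LK LD1_c7 LD2_c25 LD3_c50))))))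
theorem f146821 : Led Lsl_bt (LP (LK LD1_c1 LD2_c47 LD3_c2)) = (LP (LK LD1_c3 LD2_c40 LD3_c8)) :=
  Lre_b IH (LK LD1_c1 LD2_c47 LD3_c2) (LK LD1_c3 LD2_c40 LD3_c8) Lrfl Lrfl
theorem f146822 : Led Lsl_at (LP (LK LD1_c3 LD2_c40 LD3_c8)) = (LP (LK LD1_c7 LD2_c20 LD3_c22)) :=
  Lre_a IH (LK LD1_c3 LD2_c40 LD3_c8) (LK LD1_c7 LD2_c20 LD3_c22) Lrfl Lrfl
theorem f144677 : Led Lsl_bt (LP (LK LD1_c3 LD2_c42 LD3_c38)) = (LP (LK LD1_c1 LD2_c48 LD3_c19)) :=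
  Lre_b IH (LK LD1_c3 LD2_c42 LD3_c38) (LK LD1_c1 LD2_c48 LD3_c19) Lrfl Lrfl
theorem f146823 : Led Lsl_at (LP (LK LD1_c7 LD2_c25 LD3_c50)) = (LP (LK LD1_c3 LD2_c42 LD3_c38)) :=
  Lre_a IH (LK LD1_c7 LD2_c25 LD3_c50) (LK LD1_c3 LD2_c42 LD3_c38) Lrfl Lrfl
theorem f146824 : Led Lsl_bt (LP (LK LD1_c7 LD2_c20 LD3_c22)) = (LP (LK LD1_c7 LD2_c25 LD3_c50)) :=
  Lgr Lrot62 (Lpe (f146822 IH) (Lpe (f146821 IH) (Lpr_af (K6.f146814 IH) (Lpe (f144677 IH) (Lpe (f146823 IH) (Lpn (LP (LK LD1_c7 LD2_c25 LD3_c50))))))))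
theorem f203784 : Led Lsl_bt (LP (LK LD1_c7 LD2_c21 LD3_c8)) = (LP (LK LD1_c7 LD2_c25 LD3_c10)) :=
  Lgr Lrot35 (Lpr_ff (f203681 IH) (Lpe (f146824 IH) (Lpe (f159426 IH) (Lpn (LP (LK LD1_c7 LD2_c25 LD3_c10))))))
theorem f203786 : Led Lsl_bf (LP (LK LD1_c7 LD2_c21 LD3_c8)) = (LP (LK LD1_c7 LD2_c25 LD3_c10)) :=
  Lgr Lrot24 (Lpr_bt (f203784 IH) (Lpn (LP (LK LD1_c7 LD2_c25 LD3_c10))))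
theorem f203684 : Led Lsl_ff (LP (LK LD1_c3 LD2_c40 LD3_c30)) = (LP (LK LD1_c3 LD2_c42 LD3_c37)) :=
  Lgr Lrot3 (Lpr_ft (f203678 IH) (Lpn (LP (LK LD1_c3 LD2_c42 LD3_c37))))
theorem f162776 : Led Lsl_dt (LP (LK LD1_c3 LD2_c40 LD3_c30)) = (LP (LK LD1_c7 LD2_c21 LD3_c8)) :=
  Lre_d IH (LK LD1_c3 LD2_c40 LD3_c30) (LK LD1_c7 LD2_c21 LD3_c8) Lrfl Lrfl
theorem f162891 : Led Lsl_dt (LP (LK LD1_c7 LD2_c25 LD3_c50)) = (LP (LK LD1_c3 LD2_c42 LD3_c37)) :=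
  Lre_d IH (LK LD1_c7 LD2_c25 LD3_c50) (LK LD1_c3 LD2_c42 LD3_c37) Lrfl Lrfl
theorem f203688 : Led Lsl_ft (LP (LK LD1_c7 LD2_c21 LD3_c8)) = (LP (LK LD1_c7 LD2_c25 LD3_c50)) :=
  Lgr Lrot54 (Lpe (f162776 IH) (Lpr_ff (f203684 IH) (Lpe (f162891 IH) (Lpn (LP (LK LD1_c7 LD2_c25 LD3_c50))))))
theorem f203790 : Led Lsl_bt (LP (LK LD1_c7 LD2_c25 LD3_c50)) = (LP (LK LD1_c7 LD2_c20 LD3_c22)) :=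
  Lgr Lrot35 (Lpe (f203688 IH) (Lpr_bf (f203786 IH) (Lpr_ff (f159436 IH) (Lpn (LP (LK LD1_c7 LD2_c20 LD3_c22))))))
theorem f203701 : Led Lsl_et (LP (LK LD1_c14 LD2_c2 LD3_c56)) = (LP (LK LD1_c7 LD2_c25 LD3_c50)) :=
  Lre_e IH (LK LD1_c14 LD2_c2 LD3_c56) (LK LD1_c7 LD2_c25 LD3_c50) Lrfl Lrfl
theorem f159435 : Led Lsl_et (LP (LK LD1_c7 LD2_c20 LD3_c22)) = (LP (LK LD1_c13 LD2_c52 LD3_c46)) :=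
  Lre_e IH (LK LD1_c7 LD2_c20 LD3_c22) (LK LD1_c13 LD2_c52 LD3_c46) Lrfl Lrfl
theorem f203792 : Led Lsl_bf (LP (LK LD1_c14 LD2_c2 LD3_c56)) = (LP (LK LD1_c13 LD2_c52 LD3_c46)) :=
  Lgr Lrot96 (Lpr_et (f203701 IH) (Lpr_bt (f203790 IH) (Lpr_et (f159435 IH) (Lpn (LP (LK LD1_c13 LD2_c52 LD3_c46))))))
theorem f203794 : Led Lsl_at (LP (LK LD1_c14 LD2_c2 LD3_c56)) = (LP (LK LD1_c7 LD2_c25 LD3_c54)) :=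
  Lre_a IH (LK LD1_c14 LD2_c2 LD3_c56) (LK LD1_c7 LD2_c25 LD3_c54) Lrfl Lrfl
theorem f203795 : Led Lsl_bt (LP (LK LD1_c7 LD2_c25 LD3_c54)) = (LP (LK LD1_c3 LD2_c42 LD3_c40)) :=
  Lre_b IH (LK LD1_c7 LD2_c25 LD3_c54) (LK LD1_c3 LD2_c42 LD3_c40) Lrfl Lrfl
theorem f203796 : Led Lsl_at (LP (LK LD1_c7 LD2_c20 LD3_c24)) = (LP (LK LD1_c13 LD2_c52 LD3_c46)) :=
  Lre_a IH (LK LD1_c7 LD2_c20 LD3_c24) (LK LD1_c13 LD2_c52 LD3_c46) Lrfl Lrfl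
theorem f203797 : Led Lsl_bt (LP (LK LD1_c3 LD2_c40 LD3_c11)) = (LP (LK LD1_c7 LD2_c20 LD3_c24)) :=
  Lre_b IH (LK LD1_c3 LD2_c40 LD3_c11) (LK LD1_c7 LD2_c20 LD3_c24) Lrfl Lrfl
theorem f203798 : Led Lsl_at (LP (LK LD1_c3 LD2_c42 LD3_c40)) = (LP (LK LD1_c3 LD2_c40 LD3_c11)) :=
  Lgr Lrot67 (Lpe (f203795 IH) (Lpe (f203794 IH) (Lpr_bf (f203792 IH) (Lpe (f203796 IH) (Lpe (f203797 IH) (Lpn (LP (LK LD1_c3 LD2_c40 LD3_c11))))))))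
theorem f142398 : Led Lsl_dt (LP (LK LD1_c7 LD2_c25 LD3_c60)) = (LP (LK LD1_c3 LD2_c42 LD3_c40)) :=
  Lre_d IH (LK LD1_c7 LD2_c25 LD3_c60) (LK LD1_c3 LD2_c42 LD3_c40) Lrfl Lrfl
theorem f107580 : Led Lsl_dt (LP (LK LD1_c3 LD2_c40 LD3_c11)) = (LP (LK LD1_c7 LD2_c20 LD3_c33)) :=
  Lre_d IH (LK LD1_c3 LD2_c40 LD3_c11) (LK LD1_c7 LD2_c20 LD3_c33) Lrfl Lrfl
theorem f203807 : Led Lsl_af (LP (LK LD1_c7 LD2_c25 LD3_c60)) = (LP (LK LD1_c7 LD2_c20 LD3_c33)) :=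
  Lgr Lrot117 (Lpr_dt (f142398 IH) (Lpr_at (f203798 IH) (Lpr_dt (f107580 IH) (Lpn (LP (LK LD1_c7 LD2_c20 LD3_c33))))))
theorem f142397 : Led Lsl_et (LP (LK LD1_c7 LD2_c25 LD3_c60)) = (LP (LK LD1_c3 LD2_c42 LD3_c43)) :=
  Lre_e IH (LK LD1_c7 LD2_c25 LD3_c60) (LK LD1_c3 LD2_c42 LD3_c43) Lrfl Lrfl
theorem f203813 : Led Lsl_et (LP (LK LD1_c3 LD2_c40 LD3_c14)) = (LP (LK LD1_c7 LD2_c20 LD3_c33)) :=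
  Lre_e IH (LK LD1_c3 LD2_c40 LD3_c14) (LK LD1_c7 LD2_c20 LD3_c33) Lrfl Lrfl
theorem f203814 : Led Lsl_at (LP (LK LD1_c3 LD2_c42 LD3_c43)) = (LP (LK LD1_c3 LD2_c40 LD3_c14)) :=
  Lgr Lrot80 (Lpe (f142397 IH) (Lpr_af (f203807 IH) (Lpe (f203813 IH) (Lpn (LP (LK LD1_c3 LD2_c40 LD3_c14))))))
theorem f203828 : Led Lsl_ft (LP (LK LD1_c7 LD2_c26 LD3_c6)) = (LP (LK LD1_c3 LD2_c42 LD3_c43)) :=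
  Lre_f IH (LK LD1_c7 LD2_c26 LD3_c6) (LK LD1_c3 LD2_c42 LD3_c43) Lrfl Lrfl
theorem f203829 : Led Lsl_ft (LP (LK LD1_c3 LD2_c40 LD3_c14)) = (LP (LK LD1_c7 LD2_c20 LD3_c43)) :=
  Lre_f IH (LK LD1_c3 LD2_c40 LD3_c14) (LK LD1_c7 LD2_c20 LD3_c43) Lrfl Lrfl
theorem f203830 : Led Lsl_af (LP (LK LD1_c7 LD2_c26 LD3_c6)) = (LP (LK LD1_c7 LD2_c20 LD3_c43)) :=
  Lgr Lrot45 (Lpr_ft (f203828 IH) (Lpr_at (f203814 IH) (Lpr_ft (f203829 IH) (Lpn (LP (LK LD1_c7 LD2_c20 LD3_c43))))))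
theorem f203834 : Led Lsl_dt (LP (LK LD1_c7 LD2_c26 LD3_c6)) = (LP (LK LD1_c3 LD2_c42 LD3_c44)) :=
  Lre_d IH (LK LD1_c7 LD2_c26 LD3_c6) (LK LD1_c3 LD2_c42 LD3_c44) Lrfl Lrfl
theorem f203843 : Led Lsl_dt (LP (LK LD1_c3 LD2_c40 LD3_c15)) = (LP (LK LD1_c7 LD2_c20 LD3_c43)) :=
  Lre_d IH (LK LD1_c3 LD2_c40 LD3_c15) (LK LD1_c7 LD2_c20 LD3_c43) Lrfl Lrfl
theorem f203844 : Led Lsl_at (LP (LK LD1_c3 LD2_c42 LD3_c44)) = (LP (LK LD1_c3 LD2_c40 LD3_c15)) :=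
  Lgr Lrot51 (Lpe (f203834 IH) (Lpr_af (f203830 IH) (Lpe (f203843 IH) (Lpn (LP (LK LD1_c3 LD2_c40 LD3_c15))))))
theorem f159520 : Led Lsl_ft (LP (LK LD1_c1 LD2_c48 LD3_c20)) = (LP (LK LD1_c3 LD2_c42 LD3_c44)) :=
  Lre_f IH (LK LD1_c1 LD2_c48 LD3_c20) (LK LD1_c3 LD2_c42 LD3_c44) Lrfl Lrfl
theorem f203876 : Led Lsl_gt (LP (LK LD1_c3 LD2_c42 LD3_c41)) = (LP (LK LD1_c3 LD2_c40 LD3_c15)) :=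
  Lgr Lrot46 (Lpe (f142394 IH) (Lpr_ft (f159520 IH) (Lpr_at (f203844 IH) (Lpn (LP (LK LD1_c3 LD2_c40 LD3_c15))))))
theorem f462465 : Led Lsl_ef (LP (LK LD1_c3 LD2_c40 LD3_c15)) = (LP (LK LD1_c1 LD2_c54 LD3_c47)) :=
  Lgr Lrot17 (Lpe (f203876 IH) (Lpe (f203880 IH) (Lpr_dt (f437717 IH) (Lpe (f131800 IH) (Lpe (f131755 IH) (Lpr_gf (f209165 IH) (Lpe (f132080 IH) (Lpr_dt (f132082 IH) (Lpr_gf (f462459 IH) (Lpe (f452021 IH) (Lpn (LP (LK LD1_c1 LD2_c54 LD3_c47)))))))))))))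
theorem f203868 : Led Lsl_et (LP (LK LD1_c7 LD2_c20 LD3_c43)) = (LP (LK LD1_c13 LD2_c53 LD3_c27)) :=
  Lre_e IH (LK LD1_c7 LD2_c20 LD3_c43) (LK LD1_c13 LD2_c53 LD3_c27) Lrfl Lrfl
theorem f452019 : Led Lsl_dt (LP (LK LD1_c3 LD2_c56 LD3_c8)) = (LP (LK LD1_c1 LD2_c54 LD3_c47)) :=
  Lre_d IH (LK LD1_c3 LD2_c56 LD3_c8) (LK LD1_c1 LD2_c54 LD3_c47) Lrfl Lrfl
theorem f462455 : Led Lsl_et (LP (LK LD1_c7 LD2_c53 LD3_c61)) = (LP (LK LD1_c3 LD2_c56 LD3_c8)) :=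
  Lre_e IH (LK LD1_c7 LD2_c53 LD3_c61) (LK LD1_c3 LD2_c56 LD3_c8) Lrfl Lrfl
theorem f462469 : Led Lsl_dt (LP (LK LD1_c13 LD2_c53 LD3_c27)) = (LP (LK LD1_c7 LD2_c53 LD3_c61)) :=
  Lgr Lrot77 (Lpe (f203868 IH) (Lpe (f203843 IH) (Lpr_ef (f462465 IH) (Lpe (f452019 IH) (Lpe (f462455 IH) (Lpn (LP (LK LD1_c7 LD2_c53 LD3_c61))))))))
theorem f203869 : Led Lsl_ft (LP (LK LD1_c23 LD2_c23 LD3_c18)) = (LP (LK LD1_c13 LD2_c53 LD3_c27)) :=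
  Lre_f IH (LK LD1_c23 LD2_c23 LD3_c18) (LK LD1_c13 LD2_c53 LD3_c27) Lrfl Lrfl
theorem f462480 : Led Lsl_ft (LP (LK LD1_c7 LD2_c53 LD3_c61)) = (LP (LK LD1_c14 LD2_c54 LD3_c4)) :=
  Lre_f IH (LK LD1_c7 LD2_c53 LD3_c61) (LK LD1_c14 LD2_c54 LD3_c4) Lrfl Lrfl
theorem f462481 : Led Lsl_df (LP (LK LD1_c23 LD2_c23 LD3_c18)) = (LP (LK LD1_c14 LD2_c54 LD3_c4)) :=
  Lgr Lrot78 (Lpr_ft (f203869 IH) (Lpr_dt (f462469 IH) (Lpr_ft (f462480 IH) (Lpn (LP (LK LD1_c14 LD2_c54 LD3_c4))))))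
theorem f462492 : Led Lsl_dt (LP (LK LD1_c23 LD2_c23 LD3_c18)) = (LP (LK LD1_c14 LD2_c54 LD3_c4)) :=
  Lgr Lrot42 (Lpr_df (f462481 IH) (Lpn (LP (LK LD1_c14 LD2_c54 LD3_c4))))
theorem f159399 : Led Lsl_et (LP (LK LD1_c13 LD2_c53 LD3_c12)) = (LP (LK LD1_c23 LD2_c23 LD3_c18)) :=
  Lre_e IH (LK LD1_c13 LD2_c53 LD3_c12) (LK LD1_c23 LD2_c23 LD3_c18) Lrfl Lrfl
theorem f159398 : Led Lsl_dt (LP (LK LD1_c7 LD2_c20 LD3_c34)) = (LP (LK LD1_c13 LD2_c53 LD3_c12)) :=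
  Lre_d IH (LK LD1_c7 LD2_c20 LD3_c34) (LK LD1_c13 LD2_c53 LD3_c12) Lrfl Lrfl
theorem f462499 : Led Lsl_ef (LP (LK LD1_c14 LD2_c2 LD3_c23)) = (LP (LK LD1_c14 LD2_c54 LD3_c4)) :=
  Lgr Lrot73 (Lpr_dt (K8.f159299 IH) (Lpr_et (f159393 IH) (Lpr_dt (f159398 IH) (Lpr_et (f159399 IH) (Lpr_dt (f462492 IH) (Lpn (LP (LK LD1_c14 LD2_c54 LD3_c4))))))))
theorem f159311 : Led Lsl_bt (LP (LK LD1_c14 LD2_c2 LD3_c23)) = (LP (LK LD1_c23 LD2_c34 LD3_c53)) :=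
  Lre_b IH (LK LD1_c14 LD2_c2 LD3_c23) (LK LD1_c23 LD2_c34 LD3_c53) Lrfl Lrfl
theorem f462488 : Led Lsl_bt (LP (LK LD1_c24 LD2_c40 LD3_c61)) = (LP (LK LD1_c14 LD2_c54 LD3_c4)) :=
  Lre_b IH (LK LD1_c24 LD2_c40 LD3_c61) (LK LD1_c14 LD2_c54 LD3_c4) Lrfl Lrfl
theorem f462503 : Led Lsl_et (LP (LK LD1_c23 LD2_c34 LD3_c53)) = (LP (LK LD1_c24 LD2_c40 LD3_c61)) :=
  Lgr Lrot74 (Lpe (f159311 IH) (Lpr_ef (f462499 IH) (Lpe (f462488 IH) (Lpn (LP (LK LD1_c24 LD2_c40 LD3_c61))))))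
theorem f462507 : Led Lsl_ft (LP (LK LD1_c14 LD2_c1 LD3_c59)) = (LP (LK LD1_c23 LD2_c34 LD3_c53)) :=
  Lre_f IH (LK LD1_c14 LD2_c1 LD3_c59) (LK LD1_c23 LD2_c34 LD3_c53) Lrfl Lrfl
theorem f462508 : Led Lsl_et (LP (LK LD1_c7 LD2_c25 LD3_c17)) = (LP (LK LD1_c14 LD2_c1 LD3_c59)) :=
  Lre_e IH (LK LD1_c7 LD2_c25 LD3_c17) (LK LD1_c14 LD2_c1 LD3_c59) Lrfl Lrfl
theorem f462509 : Led Lsl_ft (LP (LK LD1_c24 LD2_c40 LD3_c61)) = (LP (LK LD1_c14 LD2_c53 LD3_c61)) :=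
  Lre_f IH (LK LD1_c24 LD2_c40 LD3_c61) (LK LD1_c14 LD2_c53 LD3_c61) Lrfl Lrfl
theorem f462510 : Led Lsl_et (LP (LK LD1_c14 LD2_c53 LD3_c61)) = (LP (LK LD1_c7 LD2_c53 LD3_c59)) :=
  Lre_e IH (LK LD1_c14 LD2_c53 LD3_c61) (LK LD1_c7 LD2_c53 LD3_c59) Lrfl Lrfl
theorem f462511 : Led Lsl_ff (LP (LK LD1_c7 LD2_c25 LD3_c17)) = (LP (LK LD1_c7 LD2_c53 LD3_c59)) :=
  Lgr Lrot72 (Lpr_et (f462508 IH) (Lpr_ft (f462507 IH) (Lpr_et (f462503 IH) (Lpr_ft (f462509 IH) (Lpr_et (f462510 IH) (Lpn (LP (LK LD1_c7 LD2_c53 LD3_c59))))))))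
theorem f108141 : Led Lsl_ct (LP (LK LD1_c7 LD2_c25 LD3_c17)) = (LP (LK LD1_c14 LD2_c2 LD3_c5)) :=
  Lre_c IH (LK LD1_c7 LD2_c25 LD3_c17) (LK LD1_c14 LD2_c2 LD3_c5) Lrfl Lrfl
theorem f462461 : Led Lsl_ct (LP (LK LD1_c14 LD2_c53 LD3_c60)) = (LP (LK LD1_c7 LD2_c53 LD3_c59)) :=
  Lre_c IH (LK LD1_c14 LD2_c53 LD3_c60) (LK LD1_c7 LD2_c53 LD3_c59) Lrfl Lrfl
theorem f462518 : Led Lsl_ft (LP (LK LD1_c14 LD2_c2 LD3_c5)) = (LP (LK LD1_c14 LD2_c53 LD3_c60)) :=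
  Lgr Lrot4 (Lpe (f108141 IH) (Lpr_ff (f462511 IH) (Lpe (f462461 IH) (Lpn (LP (LK LD1_c14 LD2_c53 LD3_c60))))))
theorem f462533 : Led Lsl_ff (LP (LK LD1_c14 LD2_c2 LD3_c5)) = (LP (LK LD1_c14 LD2_c53 LD3_c60)) :=
  Lgr Lrot3 (Lpr_ft (f462518 IH) (Lpn (LP (LK LD1_c14 LD2_c53 LD3_c60))))
theorem f108137 : Led Lsl_at (LP (LK LD1_c14 LD2_c2 LD3_c5)) = (LP (LK LD1_c23 LD2_c34 LD3_c43)) :=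
  Lre_a IH (LK LD1_c14 LD2_c2 LD3_c5) (LK LD1_c23 LD2_c34 LD3_c43) Lrfl Lrfl
theorem f462537 : Led Lsl_at (LP (LK LD1_c24 LD2_c40 LD3_c50)) = (LP (LK LD1_c14 LD2_c53 LD3_c60)) :=
  Lre_a IH (LK LD1_c24 LD2_c40 LD3_c50) (LK LD1_c14 LD2_c53 LD3_c60) Lrfl Lrfl
theorem f462538 : Led Lsl_ft (LP (LK LD1_c23 LD2_c34 LD3_c43)) = (LP (LK LD1_c24 LD2_c40 LD3_c50)) :=
  Lgr Lrot101 (Lpe (f108137 IH) (Lpr_ff (f462533 IH) (Lpe (f462537 IH) (Lpn (LP (LK LD1_c24 LD2_c40 LD3_c50))))))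
theorem f108136 : Led Lsl_ct (LP (LK LD1_c14 LD2_c1 LD3_c53)) = (LP (LK LD1_c23 LD2_c34 LD3_c43)) :=
  Lre_c IH (LK LD1_c14 LD2_c1 LD3_c53) (LK LD1_c23 LD2_c34 LD3_c43) Lrfl Lrfl
theorem f462543 : Led Lsl_ct (LP (LK LD1_c24 LD2_c40 LD3_c50)) = (LP (LK LD1_c14 LD2_c53 LD3_c57)) :=
  Lre_c IH (LK LD1_c24 LD2_c40 LD3_c50) (LK LD1_c14 LD2_c53 LD3_c57) Lrfl Lrfl
theorem f462544 : Led Lsl_ff (LP (LK LD1_c14 LD2_c1 LD3_c53)) = (LP (LK LD1_c14 LD2_c53 LD3_c57)) :=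
  Lgr Lrot23 (Lpr_ct (f108136 IH) (Lpr_ft (f462538 IH) (Lpr_ct (f462543 IH) (Lpn (LP (LK LD1_c14 LD2_c53 LD3_c57))))))
theorem f108133 : Led Lsl_dt (LP (LK LD1_c14 LD2_c1 LD3_c53)) = (LP (LK LD1_c7 LD2_c25 LD3_c11)) :=
  Lre_d IH (LK LD1_c14 LD2_c1 LD3_c53) (LK LD1_c7 LD2_c25 LD3_c11) Lrfl Lrfl
theorem f462536 : Led Lsl_dt (LP (LK LD1_c7 LD2_c53 LD3_c58)) = (LP (LK LD1_c14 LD2_c53 LD3_c57)) :=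
  Lre_d IH (LK LD1_c7 LD2_c53 LD3_c58) (LK LD1_c14 LD2_c53 LD3_c57) Lrfl Lrfl
theorem f462551 : Led Lsl_ft (LP (LK LD1_c7 LD2_c25 LD3_c11)) = (LP (LK LD1_c7 LD2_c53 LD3_c58)) :=
  Lgr Lrot54 (Lpe (f108133 IH) (Lpr_ff (f462544 IH) (Lpe (f462536 IH) (Lpn (LP (LK LD1_c7 LD2_c53 LD3_c58))))))
theorem f462567 : Led Lsl_ff (LP (LK LD1_c7 LD2_c25 LD3_c11)) = (LP (LK LD1_c7 LD2_c53 LD3_c58)) :=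
  Lgr Lrot3 (Lpr_ft (f462551 IH) (Lpn (LP (LK LD1_c7 LD2_c53 LD3_c58))))
theorem f128312 : Led Lsl_dt (LP (LK LD1_c3 LD2_c40 LD3_c56)) = (LP (LK LD1_c1 LD2_c47 LD3_c24)) :=
  Lre_d IH (LK LD1_c3 LD2_c40 LD3_c56) (LK LD1_c1 LD2_c47 LD3_c24) Lrfl Lrfl
theorem f122368 : Led Lsl_ct (LP (LK LD1_c7 LD2_c22 LD3_c8)) = (LP (LK LD1_c3 LD2_c40 LD3_c56)) :=
  Lre_c IH (LK LD1_c7 LD2_c22 LD3_c8) (LK LD1_c3 LD2_c40 LD3_c56) Lrfl Lrfl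
theorem f451979 : Led Lsl_dt (LP (LK LD1_c1 LD2_c54 LD3_c59)) = (LP (LK LD1_c3 LD2_c56 LD3_c30)) :=
  Lre_d IH (LK LD1_c1 LD2_c54 LD3_c59) (LK LD1_c3 LD2_c56 LD3_c30) Lrfl Lrfl
theorem f462192 : Led Lsl_ct (LP (LK LD1_c3 LD2_c56 LD3_c30)) = (LP (LK LD1_c7 LD2_c54 LD3_c44)) :=
  Lre_c IH (LK LD1_c3 LD2_c56 LD3_c30) (LK LD1_c7 LD2_c54 LD3_c44) Lrfl Lrfl
theorem f462193 : Led Lsl_df (LP (LK LD1_c7 LD2_c22 LD3_c8)) = (LP (LK LD1_c7 LD2_c54 LD3_c44)) :=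
  Lgr Lrot106 (Lpr_ct (f122368 IH) (Lpr_dt (f128312 IH) (Lpr_ct (K4.f122347 IH) (Lpr_dt (f159499 IH) (Lpr_ct (K8.f26202 IH) (Lpr_af (K8.f159353 IH) (Lpr_ff (f462179 IH) (Lpr_dt (f451979 IH) (Lpr_ct (f462192 IH) (Lpn (LP (LK LD1_c7 LD2_c54 LD3_c44))))))))))))
theorem f462204 : Led Lsl_ff (LP (LK LD1_c7 LD2_c21 LD3_c22)) = (LP (LK LD1_c7 LD2_c54 LD3_c44)) :=
  Lgr Lrot103 (Lpe (f159351 IH) (Lpe (f159502 IH) (Lpe (K8.f122678 IH) (Lpe (K8.f26202 IH) (Lpe (f159499 IH) (Lpe (K4.f122347 IH) (Lpe (f128312 IH) (Lpe (f122368 IH) (Lpr_df (f462193 IH) (Lpn (LP (LK LD1_c7 LD2_c54 LD3_c44))))))))))))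
theorem f462214 : Led Lsl_ft (LP (LK LD1_c7 LD2_c21 LD3_c22)) = (LP (LK LD1_c7 LD2_c54 LD3_c44)) :=
  Lgr Lrot48 (Lpr_ff (f462204 IH) (Lpn (LP (LK LD1_c7 LD2_c54 LD3_c44))))
theorem f451980 : Led Lsl_ct (LP (LK LD1_c7 LD2_c54 LD3_c44)) = (LP (LK LD1_c3 LD2_c56 LD3_c30)) :=
  Lre_c IH (LK LD1_c7 LD2_c54 LD3_c44) (LK LD1_c3 LD2_c56 LD3_c30) Lrfl Lrfl
theorem f462219 : Led Lsl_ff (LP (LK LD1_c3 LD2_c40 LD3_c35)) = (LP (LK LD1_c3 LD2_c56 LD3_c30)) :=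
  Lgr Lrot23 (Lpr_ct (f132102 IH) (Lpr_ft (f462214 IH) (Lpr_ct (f451980 IH) (Lpn (LP (LK LD1_c3 LD2_c56 LD3_c30))))))
theorem f159342 : Led Lsl_af (LP (LK LD1_c3 LD2_c42 LD3_c24)) = (LP (LK LD1_c3 LD2_c40 LD3_c35)) :=
  Lgr Lrot0 (Lpr_at (K8.f159335 IH) (Lpn (LP (LK LD1_c3 LD2_c40 LD3_c35))))
theorem f26209 : Led Lsl_gt (LP (LK LD1_c7 LD2_c25 LD3_c32)) = (LP (LK LD1_c3 LD2_c42 LD3_c24)) :=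
  Lre_g IH (LK LD1_c7 LD2_c25 LD3_c32) (LK LD1_c3 LD2_c42 LD3_c24) Lrfl Lrfl
theorem f462237 : Led Lsl_gf (LP (LK LD1_c7 LD2_c25 LD3_c32)) = (LP (LK LD1_c3 LD2_c56 LD3_c30)) :=
  Lgr Lrot47 (Lpr_gt (f26209 IH) (Lpr_af (f159342 IH) (Lpr_ff (f462219 IH) (Lpn (LP (LK LD1_c3 LD2_c56 LD3_c30))))))
theorem f142472 : Led Lsl_gf (LP (LK LD1_c1 LD2_c47 LD3_c28)) = (LP (LK LD1_c3 LD2_c40 LD3_c51)) :=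
  Lgr Lrot143 (Lpr_dt (K6.f108817 IH) (Lpe (K3.f108818 IH) (Lpe (K3.f108793 IH) (Lpr_gf (K5.f134845 IH) (Lpr_df (K6.f134779 IH) (Lpr_gf (K6.f142465 IH) (Lpe (K6.f26189 IH) (Lpr_gt (K4.f26198 IH) (Lpe (K5.f122626 IH) (Lpn (LP (LK LD1_c3 LD2_c40 LD3_c51))))))))))))
theorem f122328 : Led Lsl_et (LP (LK LD1_c0 LD2_c50 LD3_c31)) = (LP (LK LD1_c1 LD2_c47 LD3_c29)) :=
  Lre_e IH (LK LD1_c0 LD2_c50 LD3_c31) (LK LD1_c1 LD2_c47 LD3_c29) Lrfl Lrfl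
theorem f438049 : Led Lsl_et (LP (LK LD1_c7 LD2_c22 LD3_c29)) = (LP (LK LD1_c3 LD2_c41 LD3_c5)) :=
  Lre_e IH (LK LD1_c7 LD2_c22 LD3_c29) (LK LD1_c3 LD2_c41 LD3_c5) Lrfl Lrfl
theorem f438050 : Led Lsl_dt (LP (LK LD1_c7 LD2_c22 LD3_c29)) = (LP (LK LD1_c7 LD2_c25 LD3_c32)) :=
  Lgr Lrot136 (Lpr_et (f438049 IH) (Lpe (f122535 IH) (Lpe (f122328 IH) (Lpr_dt (K6.f116054 IH) (Lpr_gf (f142472 IH) (Lpr_df (K5.f122626 IH) (Lpe (K4.f26198 IH) (Lpe (K8.f122677 IH) (Lpr_dt (K8.f122678 IH) (Lpe (f26209 IH) (Lpn (LP (LK LD1_c7 LD2_c25 LD3_c32)))))))))))))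
theorem f131765 : Led Lsl_dt (LP (LK LD1_c3 LD2_c43 LD3_c42)) = (LP (LK LD1_c7 LD2_c28 LD3_c2)) :=
  Lre_d IH (LK LD1_c3 LD2_c43 LD3_c42) (LK LD1_c7 LD2_c28 LD3_c2) Lrfl Lrfl
theorem f131782 : Led Lsl_af (LP (LK LD1_c3 LD2_c41 LD3_c7)) = (LP (LK LD1_c3 LD2_c43 LD3_c41)) :=
  Lgr Lrot0 (Lpr_at (K5.f131771 IH) (Lpn (LP (LK LD1_c3 LD2_c43 LD3_c41))))
theorem f122488 : Led Lsl_gt (LP (LK LD1_c7 LD2_c22 LD3_c34)) = (LP (LK LD1_c3 LD2_c41 LD3_c7)) :=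
  Lre_g IH (LK LD1_c7 LD2_c22 LD3_c34) (LK LD1_c3 LD2_c41 LD3_c7) Lrfl Lrfl
theorem f439160 : Led Lsl_ft (LP (LK LD1_c7 LD2_c28 LD3_c2)) = (LP (LK LD1_c3 LD2_c43 LD3_c41)) :=
  Lre_f IH (LK LD1_c7 LD2_c28 LD3_c2) (LK LD1_c3 LD2_c43 LD3_c41) Lrfl Lrfl
theorem f439161 : Led Lsl_gf (LP (LK LD1_c7 LD2_c22 LD3_c34)) = (LP (LK LD1_c7 LD2_c28 LD3_c2)) :=
  Lgr Lrot47 (Lpr_gt (f122488 IH) (Lpr_af (f131782 IH) (Lpe (f439160 IH) (Lpn (LP (LK LD1_c7 LD2_c28 LD3_c2))))))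
theorem f122481 : Led Lsl_dt (LP (LK LD1_c1 LD2_c47 LD3_c21)) = (LP (LK LD1_c3 LD2_c40 LD3_c10)) :=
  Lgr Lrot57 (Lpr_gf (K4.f122477 IH) (Lpe (K3.f108818 IH) (Lpr_gt (K3.f4896 IH) (Lpr_dt (K6.f4881 IH) (Lpr_gt (K1.f4898 IH) (Lpr_dt (K4.f4899 IH) (Lpe (K4.f12359 IH) (Lpe (K6.f12365 IH) (Lpe (K6.f12366 IH) (Lpn (LP (LK LD1_c3 LD2_c40 LD3_c10))))))))))))
theorem f107582 : Led Lsl_et (LP (LK LD1_c0 LD2_c50 LD3_c18)) = (LP (LK LD1_c1 LD2_c47 LD3_c3)) :=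
  Lre_e IH (LK LD1_c0 LD2_c50 LD3_c18) (LK LD1_c1 LD2_c47 LD3_c3) Lrfl Lrfl
theorem f12401 : Led Lsl_gt (LP (LK LD1_c1 LD2_c47 LD3_c3)) = (LP (LK LD1_c3 LD2_c40 LD3_c12)) :=
  Lre_g IH (LK LD1_c1 LD2_c47 LD3_c3) (LK LD1_c3 LD2_c40 LD3_c12) Lrfl Lrfl
theorem f122486 : Led Lsl_et (LP (LK LD1_c7 LD2_c20 LD3_c37)) = (LP (LK LD1_c3 LD2_c40 LD3_c12)) :=
  Lre_e IH (LK LD1_c7 LD2_c20 LD3_c37) (LK LD1_c3 LD2_c40 LD3_c12) Lrfl Lrfl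
theorem f122244 : Led Lsl_et (LP (LK LD1_c1 LD2_c47 LD3_c29)) = (LP (LK LD1_c0 LD2_c50 LD3_c31)) :=
  Lre_e IH (LK LD1_c1 LD2_c47 LD3_c29) (LK LD1_c0 LD2_c50 LD3_c31) Lrfl Lrfl
theorem f122487 : Led Lsl_dt (LP (LK LD1_c1 LD2_c47 LD3_c29)) = (LP (LK LD1_c3 LD2_c41 LD3_c7)) :=
  Lre_d IH (LK LD1_c1 LD2_c47 LD3_c29) (LK LD1_c3 LD2_c41 LD3_c7) Lrfl Lrfl
theorem f122489 : Led Lsl_dt (LP (LK LD1_c7 LD2_c20 LD3_c37)) = (LP (LK LD1_c7 LD2_c22 LD3_c34)) :=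
  Lgr Lrot136 (Lpr_et (f122486 IH) (Lpe (f12401 IH) (Lpe (f107582 IH) (Lpr_dt (K6.f66556 IH) (Lpe (K6.f12366 IH) (Lpe (f122481 IH) (Lpr_gf (K4.f122477 IH) (Lpe (f122244 IH) (Lpr_dt (f122487 IH) (Lpe (f122488 IH) (Lpn (LP (LK LD1_c7 LD2_c22 LD3_c34)))))))))))))
theorem f203870 : Led Lsl_af (LP (LK LD1_c3 LD2_c42 LD3_c44)) = (LP (LK LD1_c3 LD2_c40 LD3_c15)) :=
  Lgr Lrot0 (Lpr_at (f203844 IH) (Lpn (LP (LK LD1_c3 LD2_c40 LD3_c15))))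
theorem f159389 : Led Lsl_ft (LP (LK LD1_c1 LD2_c47 LD3_c3)) = (LP (LK LD1_c3 LD2_c40 LD3_c15)) :=
  Lre_f IH (LK LD1_c1 LD2_c47 LD3_c3) (LK LD1_c3 LD2_c40 LD3_c15) Lrfl Lrfl
theorem f203931 : Led Lsl_gf (LP (LK LD1_c3 LD2_c42 LD3_c44)) = (LP (LK LD1_c3 LD2_c40 LD3_c12)) :=
  Lgr Lrot76 (Lpr_af (f203870 IH) (Lpe (f159389 IH) (Lpr_gt (f12401 IH) (Lpn (LP (LK LD1_c3 LD2_c40 LD3_c12))))))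
theorem f462244 : Led Lsl_ef (LP (LK LD1_c3 LD2_c42 LD3_c44)) = (LP (LK LD1_c1 LD2_c54 LD3_c59)) :=
  Lgr Lrot17 (Lpr_gf (f203931 IH) (Lpe (f122486 IH) (Lpr_dt (f122489 IH) (Lpr_gf (f439161 IH) (Lpe (f131765 IH) (Lpe (f439188 IH) (Lpe (f438049 IH) (Lpr_dt (f438050 IH) (Lpr_gf (f462237 IH) (Lpe (f451979 IH) (Lpn (LP (LK LD1_c1 LD2_c54 LD3_c59)))))))))))))
theorem f203890 : Led Lsl_bt (LP (LK LD1_c3 LD2_c42 LD3_c44)) = (LP (LK LD1_c7 LD2_c25 LD3_c57)) :=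
  Lre_b IH (LK LD1_c3 LD2_c42 LD3_c44) (LK LD1_c7 LD2_c25 LD3_c57) Lrfl Lrfl
theorem f462181 : Led Lsl_bt (LP (LK LD1_c3 LD2_c56 LD3_c29)) = (LP (LK LD1_c1 LD2_c54 LD3_c59)) :=
  Lre_b IH (LK LD1_c3 LD2_c56 LD3_c29) (LK LD1_c1 LD2_c54 LD3_c59) Lrfl Lrfl
theorem f462246 : Led Lsl_et (LP (LK LD1_c7 LD2_c25 LD3_c57)) = (LP (LK LD1_c3 LD2_c56 LD3_c29)) :=
  Lgr Lrot74 (Lpe (f203890 IH) (Lpr_ef (f462244 IH) (Lpe (f462181 IH) (Lpn (LP (LK LD1_c3 LD2_c56 LD3_c29))))))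
theorem f425201 : Led Lsl_ft (LP (LK LD1_c3 LD2_c42 LD3_c39)) = (LP (LK LD1_c7 LD2_c25 LD3_c57)) :=
  Lre_f IH (LK LD1_c3 LD2_c42 LD3_c39) (LK LD1_c7 LD2_c25 LD3_c57) Lrfl Lrfl
theorem f142685 : Led Lsl_et (LP (LK LD1_c1 LD2_c48 LD3_c18)) = (LP (LK LD1_c3 LD2_c42 LD3_c39)) :=
  Lre_e IH (LK LD1_c1 LD2_c48 LD3_c18) (LK LD1_c3 LD2_c42 LD3_c39) Lrfl Lrfl
theorem f159508 : Led Lsl_ft (LP (LK LD1_c1 LD2_c47 LD3_c12)) = (LP (LK LD1_c1 LD2_c48 LD3_c18)) :=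
  Lgr Lrot75 (Lpe (K6.f95909 IH) (Lpr_ff (K8.f159381 IH) (Lpe (K8.f120989 IH) (Lpn (LP (LK LD1_c1 LD2_c48 LD3_c18))))))
theorem f122743 : Led Lsl_et (LP (LK LD1_c3 LD2_c40 LD3_c32)) = (LP (LK LD1_c1 LD2_c47 LD3_c12)) :=
  Lre_e IH (LK LD1_c3 LD2_c40 LD3_c32) (LK LD1_c1 LD2_c47 LD3_c12) Lrfl Lrfl
theorem f462263 : Led Lsl_ff (LP (LK LD1_c3 LD2_c40 LD3_c32)) = (LP (LK LD1_c3 LD2_c56 LD3_c29)) :=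
  Lgr Lrot72 (Lpr_et (f122743 IH) (Lpr_ft (f159508 IH) (Lpr_et (f142685 IH) (Lpr_ft (f425201 IH) (Lpr_et (f462246 IH) (Lpn (LP (LK LD1_c3 LD2_c56 LD3_c29))))))))
theorem f425559 : Led Lsl_at (LP (LK LD1_c3 LD2_c40 LD3_c32)) = (LP (LK LD1_c7 LD2_c21 LD3_c9)) :=
  Lre_a IH (LK LD1_c3 LD2_c40 LD3_c32) (LK LD1_c7 LD2_c21 LD3_c9) Lrfl Lrfl
theorem f462266 : Led Lsl_at (LP (LK LD1_c7 LD2_c54 LD3_c42)) = (LP (LK LD1_c3 LD2_c56 LD3_c29)) :=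
  Lre_a IH (LK LD1_c7 LD2_c54 LD3_c42) (LK LD1_c3 LD2_c56 LD3_c29) Lrfl Lrfl
theorem f462267 : Led Lsl_ft (LP (LK LD1_c7 LD2_c21 LD3_c9)) = (LP (LK LD1_c7 LD2_c54 LD3_c42)) :=
  Lgr Lrot101 (Lpe (f425559 IH) (Lpr_ff (f462263 IH) (Lpe (f462266 IH) (Lpn (LP (LK LD1_c7 LD2_c54 LD3_c42))))))
theorem f462610 : Led Lsl_bt (LP (LK LD1_c7 LD2_c54 LD3_c42)) = (LP (LK LD1_c7 LD2_c53 LD3_c58)) :=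
  Lgr Lrot35 (Lpe (f462267 IH) (Lpe (K8.f159360 IH) (Lpr_ff (f462567 IH) (Lpn (LP (LK LD1_c7 LD2_c53 LD3_c58))))))
theorem f462259 : Led Lsl_at (LP (LK LD1_c3 LD2_c56 LD3_c29)) = (LP (LK LD1_c7 LD2_c54 LD3_c42)) :=
  Lre_a IH (LK LD1_c3 LD2_c56 LD3_c29) (LK LD1_c7 LD2_c54 LD3_c42) Lrfl Lrfl
theorem f451982 : Led Lsl_bt (LP (LK LD1_c1 LD2_c54 LD3_c59)) = (LP (LK LD1_c3 LD2_c56 LD3_c29)) :=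
  Lre_b IH (LK LD1_c1 LD2_c54 LD3_c59) (LK LD1_c3 LD2_c56 LD3_c29) Lrfl Lrfl
theorem f462560 : Led Lsl_at (LP (LK LD1_c7 LD2_c53 LD3_c58)) = (LP (LK LD1_c3 LD2_c56 LD3_c7)) :=
  Lre_a IH (LK LD1_c7 LD2_c53 LD3_c58) (LK LD1_c3 LD2_c56 LD3_c7) Lrfl Lrfl
theorem f458176 : Led Lsl_bt (LP (LK LD1_c3 LD2_c56 LD3_c7)) = (LP (LK LD1_c1 LD2_c54 LD3_c47)) :=
  Lre_b IH (LK LD1_c3 LD2_c56 LD3_c7) (LK LD1_c1 LD2_c54 LD3_c47) Lrfl Lrfl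
theorem f462648 : Led Lsl_af (LP (LK LD1_c1 LD2_c54 LD3_c59)) = (LP (LK LD1_c1 LD2_c54 LD3_c47)) :=
  Lgr Lrot36 (Lpr_bt (f451982 IH) (Lpr_at (f462259 IH) (Lpr_bt (f462610 IH) (Lpr_at (f462560 IH) (Lpr_bt (f458176 IH) (Lpn (LP (LK LD1_c1 LD2_c54 LD3_c47))))))))
theorem f462418 : Led Lsl_ft (LP (LK LD1_c1 LD2_c48 LD3_c8)) = (LP (LK LD1_c1 LD2_c54 LD3_c47)) :=
  Lgr Lrot48 (Lpr_ff (f462408 IH) (Lpn (LP (LK LD1_c1 LD2_c54 LD3_c47))))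
theorem f26210 : Led Lsl_gt (LP (LK LD1_c1 LD2_c48 LD3_c8)) = (LP (LK LD1_c3 LD2_c42 LD3_c22)) :=
  Lre_g IH (LK LD1_c1 LD2_c48 LD3_c8) (LK LD1_c3 LD2_c42 LD3_c22) Lrfl Lrfl
theorem f462652 : Led Lsl_gf (LP (LK LD1_c1 LD2_c54 LD3_c59)) = (LP (LK LD1_c3 LD2_c42 LD3_c22)) :=
  Lgr Lrot76 (Lpr_af (f462648 IH) (Lpe (f462418 IH) (Lpr_gt (f26210 IH) (Lpn (LP (LK LD1_c3 LD2_c42 LD3_c22))))))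
theorem f108081 : Led Lsl_bt (LP (LK LD1_c7 LD2_c25 LD3_c27)) = (LP (LK LD1_c3 LD2_c42 LD3_c22)) :=
  Lre_b IH (LK LD1_c7 LD2_c25 LD3_c27) (LK LD1_c3 LD2_c42 LD3_c22) Lrfl Lrfl
theorem f11329 : Led Lsl_at (LP (LK LD1_c0 LD2_c24 LD3_c24)) = (LP (LK LD1_c0 LD2_c54 LD3_c11)) :=
  Lre_a IH (LK LD1_c0 LD2_c24 LD3_c24) (LK LD1_c0 LD2_c54 LD3_c11) Lrfl Lrfl
theorem f11330 : Led Lsl_at (LP (LK LD1_c1 LD2_c54 LD3_c50)) = (LP (LK LD1_c0 LD2_c54 LD3_c8)) :=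
  Lre_a IH (LK LD1_c1 LD2_c54 LD3_c50) (LK LD1_c0 LD2_c54 LD3_c8) Lrfl Lrfl
theorem f11331 : Led Lsl_dt (LP (LK LD1_c0 LD2_c54 LD3_c11)) = (LP (LK LD1_c1 LD2_c54 LD3_c50)) :=
  Lgr Lrot44 (Lpe (f11329 IH) (Lpr_df (K24.f11327 IH) (Lpe (f11330 IH) (Lpn (LP (LK LD1_c1 LD2_c54 LD3_c50))))))
theorem f11360 : Led Lsl_df (LP (LK LD1_c0 LD2_c54 LD3_c11)) = (LP (LK LD1_c1 LD2_c54 LD3_c50)) :=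
  Lgr Lrot38 (Lpr_dt (f11331 IH) (Lpn (LP (LK LD1_c1 LD2_c54 LD3_c50))))
theorem f11364 : Led Lsl_dt (LP (LK LD1_c0 LD2_c54 LD3_c5)) = (LP (LK LD1_c1 LD2_c54 LD3_c49)) :=
  Lre_d IH (LK LD1_c0 LD2_c54 LD3_c5) (LK LD1_c1 LD2_c54 LD3_c49) Lrfl Lrfl
theorem f451904 : Led Lsl_ff (LP (LK LD1_c1 LD2_c54 LD3_c50)) = (LP (LK LD1_c1 LD2_c54 LD3_c49)) :=
  Lgr Lrot19 (Lpe (f11360 IH) (Lpr_ft (f451858 IH) (Lpr_dt (f11364 IH) (Lpn (LP (LK LD1_c1 LD2_c54 LD3_c49))))))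
theorem f451914 : Led Lsl_ft (LP (LK LD1_c1 LD2_c54 LD3_c50)) = (LP (LK LD1_c1 LD2_c54 LD3_c49)) :=
  Lgr Lrot48 (Lpr_ff (f451904 IH) (Lpn (LP (LK LD1_c1 LD2_c54 LD3_c49))))
theorem f11370 : Led Lsl_at (LP (LK LD1_c0 LD2_c54 LD3_c8)) = (LP (LK LD1_c1 LD2_c54 LD3_c50)) :=
  Lre_a IH (LK LD1_c0 LD2_c54 LD3_c8) (LK LD1_c1 LD2_c54 LD3_c50) Lrfl Lrfl
theorem f451313 : Led Lsl_at (LP (LK LD1_c1 LD2_c54 LD3_c49)) = (LP (LK LD1_c0 LD2_c54 LD3_c7)) :=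
  Lre_a IH (LK LD1_c1 LD2_c54 LD3_c49) (LK LD1_c0 LD2_c54 LD3_c7) Lrfl Lrfl
theorem f451923 : Led Lsl_ff (LP (LK LD1_c0 LD2_c54 LD3_c8)) = (LP (LK LD1_c0 LD2_c54 LD3_c7)) :=
  Lgr Lrot30 (Lpr_at (f11370 IH) (Lpr_ft (f451914 IH) (Lpr_at (f451313 IH) (Lpn (LP (LK LD1_c0 LD2_c54 LD3_c7))))))
theorem f451964 : Led Lsl_gf (LP (LK LD1_c1 LD2_c54 LD3_c50)) = (LP (LK LD1_c1 LD2_c54 LD3_c55)) :=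
  Lgr Lrot76 (Lpe (f11370 IH) (Lpr_ff (f451923 IH) (Lpr_gt (K24.f451253 IH) (Lpn (LP (LK LD1_c1 LD2_c54 LD3_c55))))))
theorem f122376 : Led Lsl_gt (LP (LK LD1_c7 LD2_c28 LD3_c25)) = (LP (LK LD1_c3 LD2_c43 LD3_c53)) :=
  Lre_g IH (LK LD1_c7 LD2_c28 LD3_c25) (LK LD1_c3 LD2_c43 LD3_c53) Lrfl Lrfl
theorem f462788 : Led Lsl_dt (LP (LK LD1_c6 LD2_c57 LD3_c44)) = (LP (LK LD1_c7 LD2_c28 LD3_c25)) :=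
  Lgr Lrot57 (Lpe (K24.f458174 IH) (Lpe (K24.f451326 IH) (Lpe (f451964 IH) (Lpe (f11360 IH) (Lpr_gt (f451906 IH) (Lpqs (f462396 IH) (Lpe (f159495 IH) (Lpe (f122351 IH) (Lpe (K4.f122352 IH) (Lpe (f122376 IH) (Lpn (LP (LK LD1_c7 LD2_c28 LD3_c25)))))))))))))
theorem f116548 : Led Lsl_dt (LP (LK LD1_c1 LD2_c48 LD3_c61)) = (LP (LK LD1_c3 LD2_c43 LD3_c53)) :=
  Lre_d IH (LK LD1_c1 LD2_c48 LD3_c61) (LK LD1_c3 LD2_c43 LD3_c53) Lrfl Lrfl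
theorem f116547 : Led Lsl_et (LP (LK LD1_c1 LD2_c48 LD3_c61)) = (LP (LK LD1_c0 LD2_c51 LD3_c16)) :=
  Lre_e IH (LK LD1_c1 LD2_c48 LD3_c61) (LK LD1_c0 LD2_c51 LD3_c16) Lrfl Lrfl
theorem f137149 : Led Lsl_et (LP (LK LD1_c3 LD2_c43 LD3_c32)) = (LP (LK LD1_c1 LD2_c48 LD3_c51)) :=
  Lre_e IH (LK LD1_c3 LD2_c43 LD3_c32) (LK LD1_c1 LD2_c48 LD3_c51) Lrfl Lrfl
theorem f146759 : Led Lsl_df (LP (LK LD1_c3 LD2_c42 LD3_c19)) = (LP (LK LD1_c1 LD2_c48 LD3_c51)) :=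
  Lgr Lrot70 (Lpr_et (K6.f124646 IH) (Lpr_dt (K6.f122640 IH) (Lpr_et (K6.f146755 IH) (Lpr_dt (K6.f137122 IH) (Lpr_et (f137149 IH) (Lpn (LP (LK LD1_c1 LD2_c48 LD3_c51))))))))
theorem f159377 : Led Lsl_et (LP (LK LD1_c0 LD2_c50 LD3_c48)) = (LP (LK LD1_c1 LD2_c48 LD3_c8)) :=
  Lre_e IH (LK LD1_c0 LD2_c50 LD3_c48) (LK LD1_c1 LD2_c48 LD3_c8) Lrfl Lrfl
theorem f462795 : Led Lsl_et (LP (LK LD1_c6 LD2_c57 LD3_c44)) = (LP (LK LD1_c3 LD2_c42 LD3_c22)) :=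
  Lgr Lrot122 (Lpr_dt (f462788 IH) (Lpr_gt (f122376 IH) (Lpe (f116548 IH) (Lpr_et (f116547 IH) (Lpr_gt (K7.f131696 IH) (Lpe (f146759 IH) (Lpr_gt (K6.f26196 IH) (Lpe (K6.f124065 IH) (Lpr_et (f159377 IH) (Lpr_gt (f26210 IH) (Lpn (LP (LK LD1_c3 LD2_c42 LD3_c22)))))))))))))
theorem f462802 : Led Lsl_ef (LP (LK LD1_c6 LD2_c57 LD3_c44)) = (LP (LK LD1_c3 LD2_c42 LD3_c22)) :=
  Lgr Lrot88 (Lpr_et (f462795 IH) (Lpn (LP (LK LD1_c3 LD2_c42 LD3_c22))))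
theorem f98745 : Led Lsl_bt (LP (LK LD1_c1 LD2_c40 LD3_c28)) = (LP (LK LD1_c3 LD2_c27 LD3_c45)) :=
  Lre_b IH (LK LD1_c1 LD2_c40 LD3_c28) (LK LD1_c3 LD2_c27 LD3_c45) Lrfl Lrfl
theorem f15902 : Led Lsl_bt (LP (LK LD1_c3 LD2_c26 LD3_c17)) = (LP (LK LD1_c1 LD2_c39 LD3_c50)) :=
  Lre_b IH (LK LD1_c3 LD2_c26 LD3_c17) (LK LD1_c1 LD2_c39 LD3_c50) Lrfl Lrfl
theorem f98746 : Led Lsl_et (LP (LK LD1_c3 LD2_c27 LD3_c45)) = (LP (LK LD1_c3 LD2_c26 LD3_c17)) :=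
  Lgr Lrot74 (Lpe (f98745 IH) (Lpr_ef (f98720 IH) (Lpe (f15902 IH) (Lpn (LP (LK LD1_c3 LD2_c26 LD3_c17))))))
theorem f462807 : Led Lsl_ct (LP (LK LD1_c3 LD2_c26 LD3_c17)) = (LP (LK LD1_c3 LD2_c42 LD3_c22)) :=
  Lgr Lrot15 (Lpe (f98746 IH) (Lpe (K24.f98807 IH) (Lpr_ef (f462802 IH) (Lpn (LP (LK LD1_c3 LD2_c42 LD3_c22))))))
theorem f98795 : Led Lsl_bt (LP (LK LD1_c6 LD2_c54 LD3_c32)) = (LP (LK LD1_c3 LD2_c26 LD3_c18)) :=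
  Lre_b IH (LK LD1_c6 LD2_c54 LD3_c32) (LK LD1_c3 LD2_c26 LD3_c18) Lrfl Lrfl
theorem f462797 : Led Lsl_bt (LP (LK LD1_c3 LD2_c42 LD3_c22)) = (LP (LK LD1_c7 LD2_c25 LD3_c27)) :=
  Lre_b IH (LK LD1_c3 LD2_c42 LD3_c22) (LK LD1_c7 LD2_c25 LD3_c27) Lrfl Lrfl
theorem f462809 : Led Lsl_cf (LP (LK LD1_c6 LD2_c54 LD3_c32)) = (LP (LK LD1_c7 LD2_c25 LD3_c27)) :=
  Lgr Lrot97 (Lpr_bt (f98795 IH) (Lpr_ct (f15717 IH) (Lpr_bt (f98714 IH) (Lpr_ct (f462807 IH) (Lpr_bt (f462797 IH) (Lpn (LP (LK LD1_c7 LD2_c25 LD3_c27))))))))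
theorem f465414 : Led Lsl_gt (LP (LK LD1_c7 LD2_c34 LD3_c48)) = (LP (LK LD1_c6 LD2_c54 LD3_c32)) :=
  Lgr Lrot65 (Lpr_cf (K5.f126455 IH) (Lpr_bt (f95860 IH) (Lpr_gf (f465130 IH) (Lpe (f11353 IH) (Lpr_ct (f11346 IH) (Lpe (f11355 IH) (Lpe (f11385 IH) (Lpr_gf (f462652 IH) (Lpe (f108081 IH) (Lpe (f462809 IH) (Lpn (LP (LK LD1_c6 LD2_c54 LD3_c32)))))))))))))
theorem f98799 : Led Lsl_gt (LP (LK LD1_c6 LD2_c54 LD3_c32)) = (LP (LK LD1_c13 LD2_c7 LD3_c41)) :=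
  Lre_g IH (LK LD1_c6 LD2_c54 LD3_c32) (LK LD1_c13 LD2_c7 LD3_c41) Lrfl Lrfl
theorem f465488 : Led Lsl_af (LP (LK LD1_c13 LD2_c7 LD3_c41)) = (LP (LK LD1_c6 LD2_c57 LD3_c46)) :=
  Lgr Lrot31 (Lpe (f98799 IH) (Lpe (f465414 IH) (Lpr_ft (f465479 IH) (Lpn (LP (LK LD1_c6 LD2_c57 LD3_c46))))))
theorem f129340 : Led Lsl_ft (LP (LK LD1_c3 LD2_c54 LD3_c5)) = (LP (LK LD1_c7 LD2_c49 LD3_c48)) :=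
  Lre_f IH (LK LD1_c3 LD2_c54 LD3_c5) (LK LD1_c7 LD2_c49 LD3_c48) Lrfl Lrfl
theorem f465472 : Led Lsl_ct (LP (LK LD1_c7 LD2_c49 LD3_c48)) = (LP (LK LD1_c6 LD2_c57 LD3_c46)) :=
  Lgr Lrot40 (Lpe (f129340 IH) (Lpe (K6.f126458 IH) (Lpr_ff (f465459 IH) (Lpn (LP (LK LD1_c6 LD2_c57 LD3_c46))))))
theorem f465492 : Led Lsl_ct (LP (LK LD1_c13 LD2_c7 LD3_c41)) = (LP (LK LD1_c14 LD2_c46 LD3_c10)) :=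
  Lgr Lrot111 (Lpr_af (f465488 IH) (Lpe (f465472 IH) (Lpe (f160016 IH) (Lpn (LP (LK LD1_c14 LD2_c46 LD3_c10))))))
theorem f465496 : Led Lsl_ft (LP (LK LD1_c13 LD2_c7 LD3_c41)) = (LP (LK LD1_c6 LD2_c55 LD3_c22)) :=
  Lgr Lrot101 (Lpr_af (f465488 IH) (Lpe (f465479 IH) (Lpr_af (K6.f129502 IH) (Lpn (LP (LK LD1_c6 LD2_c55 LD3_c22))))))
theorem f465504 : Led Lsl_ff (LP (LK LD1_c13 LD2_c7 LD3_c41)) = (LP (LK LD1_c6 LD2_c55 LD3_c22)) :=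
  Lgr Lrot3 (Lpr_ft (f465496 IH) (Lpn (LP (LK LD1_c6 LD2_c55 LD3_c22))))
theorem f126449 : Led Lsl_at (LP (LK LD1_c3 LD2_c46 LD3_c60)) = (LP (LK LD1_c1 LD2_c51 LD3_c13)) :=
  Lgr Lrot100 (Lpr_af (K5.f126447 IH) (Lpn (LP (LK LD1_c1 LD2_c51 LD3_c13))))
theorem f17335 : Led Lsl_bt (LP (LK LD1_c1 LD2_c51 LD3_c13)) = (LP (LK LD1_c3 LD2_c48 LD3_c23)) :=
  Lre_b IH (LK LD1_c1 LD2_c51 LD3_c13) (LK LD1_c3 LD2_c48 LD3_c23) Lrfl Lrfl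
theorem f17422 : Led Lsl_at (LP (LK LD1_c3 LD2_c48 LD3_c23)) = (LP (LK LD1_c7 LD2_c37 LD3_c46)) :=
  Lre_a IH (LK LD1_c3 LD2_c48 LD3_c23) (LK LD1_c7 LD2_c37 LD3_c46) Lrfl Lrfl
theorem f129506 : Led Lsl_bt (LP (LK LD1_c7 LD2_c37 LD3_c46)) = (LP (LK LD1_c6 LD2_c55 LD3_c22)) :=
  Lgr Lrot62 (Lpe (f17422 IH) (Lpe (f17335 IH) (Lpe (f126449 IH) (Lpe (K5.f126454 IH) (Lpr_af (K6.f129502 IH) (Lpn (LP (LK LD1_c6 LD2_c55 LD3_c22))))))))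
theorem f17424 : Led Lsl_ft (LP (LK LD1_c14 LD2_c22 LD3_c45)) = (LP (LK LD1_c7 LD2_c37 LD3_c46)) :=
  Lre_f IH (LK LD1_c14 LD2_c22 LD3_c45) (LK LD1_c7 LD2_c37 LD3_c46) Lrfl Lrfl
theorem f465506 : Led Lsl_bt (LP (LK LD1_c13 LD2_c7 LD3_c41)) = (LP (LK LD1_c14 LD2_c22 LD3_c45)) :=
  Lgr Lrot35 (Lpr_ff (f465504 IH) (Lpe (f129506 IH) (Lpe (f17424 IH) (Lpn (LP (LK LD1_c14 LD2_c22 LD3_c45))))))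
theorem f419861 : Led Lsl_gt (LP (LK LD1_c7 LD2_c37 LD3_c47)) = (LP (LK LD1_c14 LD2_c22 LD3_c45)) :=
  Lre_g IH (LK LD1_c7 LD2_c37 LD3_c47) (LK LD1_c14 LD2_c22 LD3_c45) Lrfl Lrfl
theorem f160021 : Led Lsl_gt (LP (LK LD1_c14 LD2_c46 LD3_c10)) = (LP (LK LD1_c7 LD2_c49 LD3_c46)) :=
  Lre_g IH (LK LD1_c14 LD2_c46 LD3_c10) (LK LD1_c7 LD2_c49 LD3_c46) Lrfl Lrfl
theorem f15718 : Led Lsl_bt (LP (LK LD1_c3 LD2_c26 LD3_c18)) = (LP (LK LD1_c6 LD2_c54 LD3_c32)) :=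
  Lre_b IH (LK LD1_c3 LD2_c26 LD3_c18) (LK LD1_c6 LD2_c54 LD3_c32) Lrfl Lrfl
theorem f15925 : Led Lsl_gt (LP (LK LD1_c6 LD2_c54 LD3_c21)) = (LP (LK LD1_c3 LD2_c26 LD3_c13)) :=
  Lre_g IH (LK LD1_c6 LD2_c54 LD3_c21) (LK LD1_c3 LD2_c26 LD3_c13) Lrfl Lrfl
theorem f15935 : Led Lsl_bt (LP (LK LD1_c13 LD2_c7 LD3_c18)) = (LP (LK LD1_c6 LD2_c54 LD3_c21)) :=
  Lre_b IH (LK LD1_c13 LD2_c7 LD3_c18) (LK LD1_c6 LD2_c54 LD3_c21) Lrfl Lrfl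
theorem f465549 : Led Lsl_ct (LP (LK LD1_c13 LD2_c7 LD3_c18)) = (LP (LK LD1_c7 LD2_c49 LD3_c46)) :=
  Lgr Lrot63 (Lpr_bt (f15935 IH) (Lpr_gt (f15925 IH) (Lpe (K0.f15670 IH) (Lpr_ct (K0.f15885 IH) (Lpr_gt (f15892 IH) (Lpe (f15717 IH) (Lpr_bt (f15718 IH) (Lpr_gt (f98799 IH) (Lpr_ct (f465492 IH) (Lpr_gt (f160021 IH) (Lpn (LP (LK LD1_c7 LD2_c49 LD3_c46)))))))))))))
theorem f15936 : Led Lsl_ct (LP (LK LD1_c13 LD2_c7 LD3_c15)) = (LP (LK LD1_c6 LD2_c54 LD3_c20)) :=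
  Lre_c IH (LK LD1_c13 LD2_c7 LD3_c15) (LK LD1_c6 LD2_c54 LD3_c20) Lrfl Lrfl
theorem f465551 : Led Lsl_bf (LP (LK LD1_c7 LD2_c37 LD3_c47)) = (LP (LK LD1_c13 LD2_c7 LD3_c15)) :=
  Lgr Lrot156 (Lpr_gt (f419861 IH) (Lpe (f465506 IH) (Lpr_ct (f465492 IH) (Lpr_gt (f160021 IH) (Lpe (f465549 IH) (Lpr_bt (f15935 IH) (Lpr_gt (f15925 IH) (Lpr_ct (K0.f15887 IH) (Lpr_gt (K8.f15922 IH) (Lpe (f15936 IH) (Lpn (LP (LK LD1_c13 LD2_c7 LD3_c15)))))))))))))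
theorem f17338 : Led Lsl_ct (LP (LK LD1_c7 LD2_c37 LD3_c47)) = (LP (LK LD1_c14 LD2_c22 LD3_c46)) :=
  Lre_c IH (LK LD1_c7 LD2_c37 LD3_c47) (LK LD1_c14 LD2_c22 LD3_c46) Lrfl Lrfl
theorem f451209 : Led Lsl_bt (LP (LK LD1_c0 LD2_c24 LD3_c16)) = (LP (LK LD1_c0 LD2_c53 LD3_c61)) :=
  Lre_b IH (LK LD1_c0 LD2_c24 LD3_c16) (LK LD1_c0 LD2_c53 LD3_c61) Lrfl Lrfl
theorem f15697 : Led Lsl_gt (LP (LK LD1_c0 LD2_c53 LD3_c15)) = (LP (LK LD1_c0 LD2_c23 LD3_c58)) :=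
  Lre_g IH (LK LD1_c0 LD2_c53 LD3_c15) (LK LD1_c0 LD2_c23 LD3_c58) Lrfl Lrfl
theorem f446569 : Led Lsl_bt (LP (LK LD1_c1 LD2_c53 LD3_c20)) = (LP (LK LD1_c0 LD2_c53 LD3_c15)) :=
  Lre_b IH (LK LD1_c1 LD2_c53 LD3_c20) (LK LD1_c0 LD2_c53 LD3_c15) Lrfl Lrfl
def v703 : LQ := Led Lsl_gt (LP (LK LD1_c0 LD2_c49 LD3_c20))
theorem f456850 : Led Lsl_gt (LP (LK LD1_c0 LD2_c49 LD3_c20)) = v703 :=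
  Lrfl
theorem f107948 : Led Lsl_ft (LP (LK LD1_c0 LD2_c49 LD3_c20)) = (LP (LK LD1_c1 LD2_c45 LD3_c17)) :=
  Lre_f IH (LK LD1_c0 LD2_c49 LD3_c20) (LK LD1_c1 LD2_c45 LD3_c17) Lrfl Lrfl
theorem f160086 : Led Lsl_at (LP (LK LD1_c1 LD2_c45 LD3_c17)) = (LP (LK LD1_c1 LD2_c43 LD3_c22)) :=
  Lgr Lrot67 (Lpe (K3.f17353 IH) (Lpe (f107175 IH) (Lpe (f95845 IH) (Lpr_af (K8.f160084 IH) (Lpe (f11683 IH) (Lpn (LP (LK LD1_c1 LD2_c43 LD3_c22))))))))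
theorem f456851 : Led Lsl_gf (LP (LK LD1_c1 LD2_c43 LD3_c22)) = v703 :=
  Lgr Lrot76 (Lpe (f160086 IH) (Lpe (f107948 IH) (Lpr_gt (f456850 IH) (Lpn v703))))
theorem f465133 : v703 = (LP (LK LD1_c0 LD2_c53 LD3_c61)) :=
  (Llr Lrot124 (Lpe (f456851 IH) (Lpe (K8.f11695 IH) (Lpe (K8.f11669 IH) (Lpr_gt (f465128 IH) (Lpe (f451292 IH) (Lpr_bt (f451287 IH) (Lpr_gt (K24.f451289 IH) (Lpq (K24.f457690 IH) (Lpe (K24.f9889 IH) (Lpr_gt (K24.f15748 IH) (Lpr_cf (K24.f450691 IH) (Lpqs (K24.f457385 IH) (Lpq (K24.f457386 IH) (Lpr_bt (f451209 IH) (Lpn (LP (LK LD1_c0 LD2_c53 LD3_c61)))))))))))))))))).symm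
theorem f17450 : Led Lsl_gt (LP (LK LD1_c3 LD2_c36 LD3_c50)) = (LP (LK LD1_c1 LD2_c45 LD3_c15)) :=
  Lre_g IH (LK LD1_c3 LD2_c36 LD3_c50) (LK LD1_c1 LD2_c45 LD3_c15) Lrfl Lrfl
theorem f128194 : Led Lsl_ft (LP (LK LD1_c3 LD2_c33 LD3_c12)) = (LP (LK LD1_c1 LD2_c43 LD3_c19)) :=
  Lre_f IH (LK LD1_c3 LD2_c33 LD3_c12) (LK LD1_c1 LD2_c43 LD3_c19) Lrfl Lrfl
theorem f160452 : Led Lsl_gf (LP (LK LD1_c3 LD2_c36 LD3_c50)) = (LP (LK LD1_c3 LD2_c33 LD3_c12)) :=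
  Lgr Lrot47 (Lpr_gt (f17450 IH) (Lpr_af (K8.f160204 IH) (Lpe (f128194 IH) (Lpn (LP (LK LD1_c3 LD2_c33 LD3_c12))))))
theorem f465228 : Led Lsl_ct (LP (LK LD1_c1 LD2_c53 LD3_c20)) = (LP (LK LD1_c3 LD2_c36 LD3_c50)) :=
  Lgr Lrot63 (Lpr_bt (f446569 IH) (Lpr_gt (f15697 IH) (Lpe (K24.f11150 IH) (Lpe (K24.f9889 IH) (Lpr_gt (K24.f15748 IH) (Lpqs (K24.f457390 IH) (Lpe (K24.f451214 IH) (Lpr_bt (f451209 IH) (Lpq (f465133 IH) (Lpe (f456851 IH) (Lpr_ct (K8.f11697 IH) (Lpe (f160452 IH) (Lpn (LP (LK LD1_c3 LD2_c36 LD3_c50)))))))))))))))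
theorem f465230 : Led Lsl_bt (LP (LK LD1_c0 LD2_c53 LD3_c15)) = (LP (LK LD1_c1 LD2_c53 LD3_c20)) :=
  Lre_b IH (LK LD1_c0 LD2_c53 LD3_c15) (LK LD1_c1 LD2_c53 LD3_c20) Lrfl Lrfl
theorem f15698 : Led Lsl_ct (LP (LK LD1_c1 LD2_c53 LD3_c21)) = (LP (LK LD1_c0 LD2_c53 LD3_c15)) :=
  Lre_c IH (LK LD1_c1 LD2_c53 LD3_c21) (LK LD1_c0 LD2_c53 LD3_c15) Lrfl Lrfl
theorem f465231 : Led Lsl_bt (LP (LK LD1_c3 LD2_c53 LD3_c29)) = (LP (LK LD1_c1 LD2_c53 LD3_c21)) :=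
  Lre_b IH (LK LD1_c3 LD2_c53 LD3_c29) (LK LD1_c1 LD2_c53 LD3_c21) Lrfl Lrfl
theorem f465232 : Led Lsl_bt (LP (LK LD1_c3 LD2_c36 LD3_c50)) = (LP (LK LD1_c7 LD2_c13 LD3_c54)) :=
  Lre_b IH (LK LD1_c3 LD2_c36 LD3_c50) (LK LD1_c7 LD2_c13 LD3_c54) Lrfl Lrfl
theorem f465233 : Led Lsl_cf (LP (LK LD1_c3 LD2_c53 LD3_c29)) = (LP (LK LD1_c7 LD2_c13 LD3_c54)) :=
  Lgr Lrot97 (Lpr_bt (f465231 IH) (Lpr_ct (f15698 IH) (Lpr_bt (f465230 IH) (Lpr_ct (f465228 IH) (Lpr_bt (f465232 IH) (Lpn (LP (LK LD1_c7 LD2_c13 LD3_c54))))))))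
theorem f17451 : Led Lsl_bt (LP (LK LD1_c7 LD2_c13 LD3_c54)) = (LP (LK LD1_c3 LD2_c36 LD3_c50)) :=
  Lre_b IH (LK LD1_c7 LD2_c13 LD3_c54) (LK LD1_c3 LD2_c36 LD3_c50) Lrfl Lrfl
theorem f17379 : Led Lsl_ct (LP (LK LD1_c1 LD2_c45 LD3_c15)) = (LP (LK LD1_c0 LD2_c49 LD3_c20)) :=
  Lre_c IH (LK LD1_c1 LD2_c45 LD3_c15) (LK LD1_c0 LD2_c49 LD3_c20) Lrfl Lrfl
theorem f446552 : Led Lsl_ct (LP (LK LD1_c1 LD2_c54 LD3_c44)) = (LP (LK LD1_c0 LD2_c53 LD3_c61)) :=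
  Lre_c IH (LK LD1_c1 LD2_c54 LD3_c44) (LK LD1_c0 LD2_c53 LD3_c61) Lrfl Lrfl
theorem f446551 : Led Lsl_bt (LP (LK LD1_c0 LD2_c53 LD3_c61)) = (LP (LK LD1_c0 LD2_c24 LD3_c16)) :=
  Lre_b IH (LK LD1_c0 LD2_c53 LD3_c61) (LK LD1_c0 LD2_c24 LD3_c16) Lrfl Lrfl
theorem f457397 : Led Lsl_bf (LP (LK LD1_c1 LD2_c54 LD3_c44)) = (LP (LK LD1_c1 LD2_c40 LD3_c37)) :=
  Lgr Lrot90 (Lpr_ct (f446552 IH) (Lpr_bt (f446551 IH) (Lpqs (K24.f457386 IH) (Lpq (K24.f457385 IH) (Lpe (K24.f450691 IH) (Lpr_bt (f450686 IH) (Lpr_ct (f15759 IH) (Lpn (LP (LK LD1_c1 LD2_c40 LD3_c37))))))))))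
theorem f458562 : Led Lsl_bt (LP (LK LD1_c1 LD2_c54 LD3_c44)) = (LP (LK LD1_c1 LD2_c40 LD3_c37)) :=
  Lgr Lrot127 (Lpr_bf (f457397 IH) (Lpn (LP (LK LD1_c1 LD2_c40 LD3_c37))))
theorem f455313 : Led Lsl_bt (LP (LK LD1_c6 LD2_c58 LD3_c14)) = (LP (LK LD1_c3 LD2_c28 LD3_c1)) :=
  Lre_b IH (LK LD1_c6 LD2_c58 LD3_c14) (LK LD1_c3 LD2_c28 LD3_c1) Lrfl Lrfl
theorem f464133 : Led Lsl_bt (LP (LK LD1_c3 LD2_c28 LD3_c1)) = (LP (LK LD1_c6 LD2_c58 LD3_c14)) :=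
  Lre_b IH (LK LD1_c3 LD2_c28 LD3_c1) (LK LD1_c6 LD2_c58 LD3_c14) Lrfl Lrfl
theorem f96533 : Led Lsl_et (LP (LK LD1_c3 LD2_c36 LD3_c58)) = (LP (LK LD1_c1 LD2_c45 LD3_c18)) :=
  Lre_e IH (LK LD1_c3 LD2_c36 LD3_c58) (LK LD1_c1 LD2_c45 LD3_c18) Lrfl Lrfl
theorem f96534 : Led Lsl_et (LP (LK LD1_c1 LD2_c51 LD3_c42)) = (LP (LK LD1_c3 LD2_c49 LD3_c19)) :=
  Lre_e IH (LK LD1_c1 LD2_c51 LD3_c42) (LK LD1_c3 LD2_c49 LD3_c19) Lrfl Lrfl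
theorem f96535 : Led Lsl_cf (LP (LK LD1_c3 LD2_c36 LD3_c58)) = (LP (LK LD1_c3 LD2_c49 LD3_c19)) :=
  Lgr Lrot39 (Lpr_et (f96533 IH) (Lpr_ct (K3.f96468 IH) (Lpr_et (f96534 IH) (Lpn (LP (LK LD1_c3 LD2_c49 LD3_c19))))))
theorem f10681 : Led Lsl_et (LP (LK LD1_c1 LD2_c45 LD3_c20)) = (LP (LK LD1_c0 LD2_c49 LD3_c21)) :=
  Lre_e IH (LK LD1_c1 LD2_c45 LD3_c20) (LK LD1_c0 LD2_c49 LD3_c21) Lrfl Lrfl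
theorem f17475 : Led Lsl_cf (LP (LK LD1_c1 LD2_c45 LD3_c20)) = (LP (LK LD1_c1 LD2_c46 LD3_c34)) :=
  Lgr Lrot39 (Lpr_et (f10681 IH) (Lpr_ct (K3.f17471 IH) (Lpr_et (K4.f5734 IH) (Lpn (LP (LK LD1_c1 LD2_c46 LD3_c34))))))
theorem f17483 : Led Lsl_ct (LP (LK LD1_c1 LD2_c45 LD3_c20)) = (LP (LK LD1_c1 LD2_c46 LD3_c34)) :=
  Lgr Lrot59 (Lpr_cf (f17475 IH) (Lpn (LP (LK LD1_c1 LD2_c46 LD3_c34))))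
theorem f96566 : Led Lsl_bt (LP (LK LD1_c3 LD2_c26 LD3_c26)) = (LP (LK LD1_c3 LD2_c49 LD3_c19)) :=
  Lgr Lrot128 (Lpr_cf (K24.f95189 IH) (Lpr_bf (K4.f5735 IH) (Lpe (f17483 IH) (Lpe (K8.f17491 IH) (Lpr_cf (f96535 IH) (Lpn (LP (LK LD1_c3 LD2_c49 LD3_c19))))))))
theorem f96592 : Led Lsl_ft (LP (LK LD1_c3 LD2_c49 LD3_c19)) = (LP (LK LD1_c7 LD2_c39 LD3_c28)) :=
  Lre_f IH (LK LD1_c3 LD2_c49 LD3_c19) (LK LD1_c7 LD2_c39 LD3_c28) Lrfl Lrfl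
theorem f464117 : Led Lsl_bt (LP (LK LD1_c7 LD2_c39 LD3_c28)) = (LP (LK LD1_c6 LD2_c54 LD3_c31)) :=
  Lgr Lrot35 (Lpe (f96592 IH) (Lpe (f96566 IH) (Lpr_ff (f464114 IH) (Lpn (LP (LK LD1_c6 LD2_c54 LD3_c31))))))
theorem f464256 : Led Lsl_ct (LP (LK LD1_c6 LD2_c58 LD3_c14)) = (LP (LK LD1_c7 LD2_c39 LD3_c28)) :=
  Lgr Lrot83 (Lpe (f464133 IH) (Lpr_cf (f464131 IH) (Lpe (K4.f5741 IH) (Lpr_cf (f464228 IH) (Lpe (f464117 IH) (Lpn (LP (LK LD1_c7 LD2_c39 LD3_c28))))))))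
theorem f465389 : Led Lsl_gf (LP (LK LD1_c3 LD2_c53 LD3_c29)) = (LP (LK LD1_c7 LD2_c39 LD3_c28)) :=
  Lgr Lrot126 (Lpr_cf (f465233 IH) (Lpr_bt (f17451 IH) (Lpr_gt (f17450 IH) (Lpr_ct (f17379 IH) (Lpr_gt (f456850 IH) (Lpqs (f465133 IH) (Lpe (f446552 IH) (Lpr_bt (f458562 IH) (Lpr_gt (f455150 IH) (Lpe (f455313 IH) (Lpr_ct (f464256 IH) (Lpn (LP (LK LD1_c7 LD2_c39 LD3_c28))))))))))))))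
theorem f17378 : Led Lsl_bt (LP (LK LD1_c3 LD2_c36 LD3_c47)) = (LP (LK LD1_c1 LD2_c45 LD3_c15)) :=
  Lre_b IH (LK LD1_c3 LD2_c36 LD3_c47) (LK LD1_c1 LD2_c45 LD3_c15) Lrfl Lrfl
theorem f17319 : Led Lsl_bt (LP (LK LD1_c1 LD2_c45 LD3_c12)) = (LP (LK LD1_c0 LD2_c49 LD3_c20)) :=
  Lre_b IH (LK LD1_c1 LD2_c45 LD3_c12) (LK LD1_c0 LD2_c49 LD3_c20) Lrfl Lrfl
theorem f17321 : Led Lsl_bt (LP (LK LD1_c1 LD2_c45 LD3_c15)) = (LP (LK LD1_c3 LD2_c36 LD3_c47)) :=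
  Lre_b IH (LK LD1_c1 LD2_c45 LD3_c15) (LK LD1_c3 LD2_c36 LD3_c47) Lrfl Lrfl
theorem f17322 : Led Lsl_bt (LP (LK LD1_c3 LD2_c48 LD3_c23)) = (LP (LK LD1_c1 LD2_c51 LD3_c13)) :=
  Lre_b IH (LK LD1_c3 LD2_c48 LD3_c23) (LK LD1_c1 LD2_c51 LD3_c13) Lrfl Lrfl
theorem f17323 : Led Lsl_ct (LP (LK LD1_c3 LD2_c36 LD3_c47)) = (LP (LK LD1_c3 LD2_c48 LD3_c23)) :=
  Lgr Lrot83 (Lpe (f17321 IH) (Lpe (K8.f17320 IH) (Lpe (f17319 IH) (Lpr_cf (K3.f17315 IH) (Lpe (f17322 IH) (Lpn (LP (LK LD1_c3 LD2_c48 LD3_c23))))))))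
theorem f17337 : Led Lsl_gt (LP (LK LD1_c3 LD2_c48 LD3_c23)) = (LP (LK LD1_c7 LD2_c37 LD3_c47)) :=
  Lre_g IH (LK LD1_c3 LD2_c48 LD3_c23) (LK LD1_c7 LD2_c37 LD3_c47) Lrfl Lrfl
theorem f17449 : Led Lsl_ct (LP (LK LD1_c14 LD2_c22 LD3_c46)) = (LP (LK LD1_c7 LD2_c37 LD3_c47)) :=
  Lre_c IH (LK LD1_c14 LD2_c22 LD3_c46) (LK LD1_c7 LD2_c37 LD3_c47) Lrfl Lrfl
theorem f465394 : Led Lsl_gt (LP (LK LD1_c13 LD2_c14 LD3_c3)) = (LP (LK LD1_c6 LD2_c58 LD3_c14)) :=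
  Lre_g IH (LK LD1_c13 LD2_c14 LD3_c3) (LK LD1_c6 LD2_c58 LD3_c14) Lrfl Lrfl
theorem f465395 : Led Lsl_bt (LP (LK LD1_c14 LD2_c22 LD3_c46)) = (LP (LK LD1_c13 LD2_c14 LD3_c3)) :=
  Lgr Lrot130 (Lpr_ct (f17449 IH) (Lpe (f17337 IH) (Lpe (f17323 IH) (Lpr_bt (f17378 IH) (Lpe (f17450 IH) (Lpe (f17451 IH) (Lpe (f465233 IH) (Lpr_gf (f465389 IH) (Lpe (f464256 IH) (Lpe (f465394 IH) (Lpn (LP (LK LD1_c13 LD2_c14 LD3_c3)))))))))))))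
theorem f15927 : Led Lsl_ct (LP (LK LD1_c6 LD2_c54 LD3_c20)) = (LP (LK LD1_c13 LD2_c7 LD3_c15)) :=
  Lre_c IH (LK LD1_c6 LD2_c54 LD3_c20) (LK LD1_c13 LD2_c7 LD3_c15) Lrfl Lrfl
theorem f16051 : Led Lsl_bt (LP (LK LD1_c13 LD2_c7 LD3_c14)) = (LP (LK LD1_c6 LD2_c54 LD3_c20)) :=
  Lre_b IH (LK LD1_c13 LD2_c7 LD3_c14) (LK LD1_c6 LD2_c54 LD3_c20) Lrfl Lrfl
theorem f465555 : Led Lsl_ct (LP (LK LD1_c13 LD2_c14 LD3_c3)) = (LP (LK LD1_c13 LD2_c7 LD3_c14)) :=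
  Lgr Lrot83 (Lpe (f465395 IH) (Lpe (f17338 IH) (Lpr_bf (f465551 IH) (Lpe (f15927 IH) (Lpe (f16051 IH) (Lpn (LP (LK LD1_c13 LD2_c7 LD3_c14))))))))
theorem f465582 : Led Lsl_cf (LP (LK LD1_c13 LD2_c14 LD3_c3)) = (LP (LK LD1_c13 LD2_c7 LD3_c14)) :=
  Lgr Lrot11 (Lpr_ct (f465555 IH) (Lpn (LP (LK LD1_c13 LD2_c7 LD3_c14))))
theorem f14888 : Led Lsl_ct (LP (LK LD1_c3 LD2_c44 LD3_c39)) = (LP (LK LD1_c1 LD2_c49 LD3_c24)) :=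
  Lre_c IH (LK LD1_c3 LD2_c44 LD3_c39) (LK LD1_c1 LD2_c49 LD3_c24) Lrfl Lrfl
theorem f16052 : Led Lsl_gt (LP (LK LD1_c1 LD2_c49 LD3_c24)) = (LP (LK LD1_c0 LD2_c53 LD3_c15)) :=
  Lre_g IH (LK LD1_c1 LD2_c49 LD3_c24) (LK LD1_c0 LD2_c53 LD3_c15) Lrfl Lrfl
theorem f15701 : Led Lsl_bt (LP (LK LD1_c1 LD2_c53 LD3_c21)) = (LP (LK LD1_c3 LD2_c53 LD3_c29)) :=
  Lre_b IH (LK LD1_c1 LD2_c53 LD3_c21) (LK LD1_c3 LD2_c53 LD3_c29) Lrfl Lrfl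
theorem f96574 : Led Lsl_ft (LP (LK LD1_c7 LD2_c39 LD3_c28)) = (LP (LK LD1_c3 LD2_c49 LD3_c19)) :=
  Lre_f IH (LK LD1_c7 LD2_c39 LD3_c28) (LK LD1_c3 LD2_c49 LD3_c19) Lrfl Lrfl
theorem f96568 : Led Lsl_ct (LP (LK LD1_c3 LD2_c36 LD3_c58)) = (LP (LK LD1_c3 LD2_c49 LD3_c19)) :=
  Lgr Lrot59 (Lpr_cf (f96535 IH) (Lpn (LP (LK LD1_c3 LD2_c49 LD3_c19))))
theorem f162816 : Led Lsl_af (LP (LK LD1_c7 LD2_c34 LD3_c50)) = (LP (LK LD1_c3 LD2_c49 LD3_c19)) :=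
  Lgr Lrot68 (Lpr_ct (K8.f162812 IH) (Lpr_at (K8.f96575 IH) (Lpr_ct (f96568 IH) (Lpn (LP (LK LD1_c3 LD2_c49 LD3_c19))))))
theorem f465391 : Led Lsl_gt (LP (LK LD1_c3 LD2_c53 LD3_c29)) = (LP (LK LD1_c7 LD2_c34 LD3_c50)) :=
  Lgr Lrot46 (Lpr_gf (f465389 IH) (Lpr_ft (f96574 IH) (Lpe (f162816 IH) (Lpn (LP (LK LD1_c7 LD2_c34 LD3_c50))))))
theorem f465592 : Led Lsl_gf (LP (LK LD1_c13 LD2_c14 LD3_c3)) = (LP (LK LD1_c7 LD2_c14 LD3_c6)) :=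
  Lgr Lrot129 (Lpr_cf (f465582 IH) (Lpr_bt (f16051 IH) (Lpr_gt (K8.f16048 IH) (Lpe (K8.f14890 IH) (Lpr_ct (f14888 IH) (Lpr_gt (f16052 IH) (Lpe (f15698 IH) (Lpr_bt (f15701 IH) (Lpr_gt (f465391 IH) (Lpr_ct (K8.f162812 IH) (Lpn (LP (LK LD1_c7 LD2_c14 LD3_c6)))))))))))))
theorem f465594 : Led Lsl_at (LP (LK LD1_c13 LD2_c14 LD3_c4)) = (LP (LK LD1_c6 LD2_c58 LD3_c14)) :=
  Lre_a IH (LK LD1_c13 LD2_c14 LD3_c4) (LK LD1_c6 LD2_c58 LD3_c14) Lrfl Lrfl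
theorem f465595 : Led Lsl_ff (LP (LK LD1_c13 LD2_c14 LD3_c4)) = (LP (LK LD1_c7 LD2_c14 LD3_c6)) :=
  Lgr Lrot52 (Lpr_at (f465594 IH) (Lpe (f465394 IH) (Lpr_gf (f465592 IH) (Lpn (LP (LK LD1_c7 LD2_c14 LD3_c6))))))
theorem f465604 : Led Lsl_ft (LP (LK LD1_c13 LD2_c14 LD3_c4)) = (LP (LK LD1_c7 LD2_c14 LD3_c6)) :=
  Lgr Lrot48 (Lpr_ff (f465595 IH) (Lpn (LP (LK LD1_c7 LD2_c14 LD3_c6))))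
theorem f162839 : Led Lsl_et (LP (LK LD1_c3 LD2_c33 LD3_c28)) = (LP (LK LD1_c7 LD2_c7 LD3_c51)) :=
  Lre_e IH (LK LD1_c3 LD2_c33 LD3_c28) (LK LD1_c7 LD2_c7 LD3_c51) Lrfl Lrfl
theorem f162840 : Led Lsl_ft (LP (LK LD1_c7 LD2_c7 LD3_c51)) = (LP (LK LD1_c13 LD2_c30 LD3_c25)) :=
  Lre_f IH (LK LD1_c7 LD2_c7 LD3_c51) (LK LD1_c13 LD2_c30 LD3_c25) Lrfl Lrfl
theorem f465612 : Led Lsl_ef (LP (LK LD1_c13 LD2_c14 LD3_c4)) = (LP (LK LD1_c13 LD2_c30 LD3_c25)) :=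
  Lgr Lrot21 (Lpr_ft (f465604 IH) (Lpr_et (K8.f160378 IH) (Lpe (K8.f162835 IH) (Lpr_et (f162839 IH) (Lpr_ft (f162840 IH) (Lpn (LP (LK LD1_c13 LD2_c30 LD3_c25))))))))
theorem f425306 : Led Lsl_at (LP (LK LD1_c7 LD2_c7 LD3_c56)) = (LP (LK LD1_c13 LD2_c30 LD3_c25)) :=
  Lre_a IH (LK LD1_c7 LD2_c7 LD3_c56) (LK LD1_c13 LD2_c30 LD3_c25) Lrfl Lrfl
theorem f465621 : Led Lsl_et (LP (LK LD1_c6 LD2_c58 LD3_c14)) = (LP (LK LD1_c7 LD2_c7 LD3_c56)) :=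
  Lgr Lrot123 (Lpe (f465594 IH) (Lpr_ef (f465612 IH) (Lpe (f425306 IH) (Lpn (LP (LK LD1_c7 LD2_c7 LD3_c56))))))
theorem f97341 : Led Lsl_bt (LP (LK LD1_c7 LD2_c7 LD3_c56)) = (LP (LK LD1_c3 LD2_c33 LD3_c34)) :=
  Lre_b IH (LK LD1_c7 LD2_c7 LD3_c56) (LK LD1_c3 LD2_c33 LD3_c34) Lrfl Lrfl
theorem f465623 : Led Lsl_ef (LP (LK LD1_c3 LD2_c28 LD3_c1)) = (LP (LK LD1_c3 LD2_c33 LD3_c34)) :=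
  Lgr Lrot29 (Lpr_bt (f464133 IH) (Lpr_et (f465621 IH) (Lpr_bt (f97341 IH) (Lpn (LP (LK LD1_c3 LD2_c33 LD3_c34))))))
theorem f425167 : Led Lsl_af (LP (LK LD1_c3 LD2_c55 LD3_c40)) = (LP (LK LD1_c3 LD2_c26 LD3_c25)) :=
  Lgr Lrot50 (Lpr_et (K3.f96855 IH) (Lpr_at (f425139 IH) (Lpr_et (K8.f102543 IH) (Lpn (LP (LK LD1_c3 LD2_c26 LD3_c25))))))
theorem f425125 : Led Lsl_at (LP (LK LD1_c7 LD2_c7 LD3_c52)) = (LP (LK LD1_c3 LD2_c49 LD3_c18)) :=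
  Lgr Lrot100 (Lpr_af (f425123 IH) (Lpn (LP (LK LD1_c3 LD2_c49 LD3_c18))))
theorem f203782 : Led Lsl_bt (LP (LK LD1_c3 LD2_c49 LD3_c18)) = (LP (LK LD1_c7 LD2_c39 LD3_c24)) :=
  Lre_b IH (LK LD1_c3 LD2_c49 LD3_c18) (LK LD1_c7 LD2_c39 LD3_c24) Lrfl Lrfl
theorem f425169 : Led Lsl_bt (LP (LK LD1_c6 LD2_c54 LD3_c42)) = (LP (LK LD1_c3 LD2_c26 LD3_c25)) :=
  Lre_b IH (LK LD1_c6 LD2_c54 LD3_c42) (LK LD1_c3 LD2_c26 LD3_c25) Lrfl Lrfl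
theorem f425170 : Led Lsl_at (LP (LK LD1_c7 LD2_c39 LD3_c24)) = (LP (LK LD1_c6 LD2_c54 LD3_c42)) :=
  Lgr Lrot67 (Lpe (f203782 IH) (Lpe (f425125 IH) (Lpr_bf (K3.f96827 IH) (Lpr_af (f425167 IH) (Lpe (f425169 IH) (Lpn (LP (LK LD1_c6 LD2_c54 LD3_c42))))))))
theorem f203686 : Led Lsl_ct (LP (LK LD1_c3 LD2_c49 LD3_c17)) = (LP (LK LD1_c3 LD2_c42 LD3_c37)) :=
  Lgr Lrot40 (Lpr_ff (K8.f162867 IH) (Lpe (K8.f159463 IH) (Lpr_ff (f203684 IH) (Lpn (LP (LK LD1_c3 LD2_c42 LD3_c37))))))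
theorem f110283 : Led Lsl_et (LP (LK LD1_c7 LD2_c39 LD3_c24)) = (LP (LK LD1_c3 LD2_c49 LD3_c17)) :=
  Lre_e IH (LK LD1_c7 LD2_c39 LD3_c24) (LK LD1_c3 LD2_c49 LD3_c17) Lrfl Lrfl
theorem f203683 : Led Lsl_et (LP (LK LD1_c3 LD2_c42 LD3_c37)) = (LP (LK LD1_c7 LD2_c25 LD3_c51)) :=
  Lre_e IH (LK LD1_c3 LD2_c42 LD3_c37) (LK LD1_c7 LD2_c25 LD3_c51) Lrfl Lrfl
theorem f203775 : Led Lsl_cf (LP (LK LD1_c7 LD2_c39 LD3_c24)) = (LP (LK LD1_c7 LD2_c25 LD3_c51)) :=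
  Lgr Lrot39 (Lpr_et (f110283 IH) (Lpr_ct (f203686 IH) (Lpr_et (f203683 IH) (Lpn (LP (LK LD1_c7 LD2_c25 LD3_c51))))))
theorem f203777 : Led Lsl_at (LP (LK LD1_c3 LD2_c42 LD3_c39)) = (LP (LK LD1_c7 LD2_c25 LD3_c51)) :=
  Lre_a IH (LK LD1_c3 LD2_c42 LD3_c39) (LK LD1_c7 LD2_c25 LD3_c51) Lrfl Lrfl
theorem f425196 : Led Lsl_cf (LP (LK LD1_c3 LD2_c42 LD3_c39)) = (LP (LK LD1_c6 LD2_c54 LD3_c42)) :=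
  Lgr Lrot1 (Lpr_at (f203777 IH) (Lpe (f203775 IH) (Lpr_at (f425170 IH) (Lpn (LP (LK LD1_c6 LD2_c54 LD3_c42))))))
theorem f203917 : Led Lsl_bt (LP (LK LD1_c3 LD2_c42 LD3_c39)) = (LP (LK LD1_c1 LD2_c48 LD3_c20)) :=
  Lre_b IH (LK LD1_c3 LD2_c42 LD3_c39) (LK LD1_c1 LD2_c48 LD3_c20) Lrfl Lrfl
theorem f142382 : Led Lsl_ct (LP (LK LD1_c1 LD2_c48 LD3_c20)) = (LP (LK LD1_c0 LD2_c50 LD3_c56)) :=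
  Lre_c IH (LK LD1_c1 LD2_c48 LD3_c20) (LK LD1_c0 LD2_c50 LD3_c56) Lrfl Lrfl
theorem f203906 : Led Lsl_bt (LP (LK LD1_c0 LD2_c50 LD3_c56)) = (LP (LK LD1_c1 LD2_c48 LD3_c11)) :=
  Lre_b IH (LK LD1_c0 LD2_c50 LD3_c56) (LK LD1_c1 LD2_c48 LD3_c11) Lrfl Lrfl
theorem f425127 : Led Lsl_bt (LP (LK LD1_c3 LD2_c26 LD3_c25)) = (LP (LK LD1_c6 LD2_c54 LD3_c42)) :=
  Lre_b IH (LK LD1_c3 LD2_c26 LD3_c25) (LK LD1_c6 LD2_c54 LD3_c42) Lrfl Lrfl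
theorem f425199 : Led Lsl_ct (LP (LK LD1_c1 LD2_c48 LD3_c11)) = (LP (LK LD1_c3 LD2_c26 LD3_c25)) :=
  Lgr Lrot83 (Lpe (f203906 IH) (Lpe (f142382 IH) (Lpe (f203917 IH) (Lpr_cf (f425196 IH) (Lpe (f425127 IH) (Lpn (LP (LK LD1_c3 LD2_c26 LD3_c25))))))))
theorem f425206 : Led Lsl_cf (LP (LK LD1_c1 LD2_c48 LD3_c11)) = (LP (LK LD1_c3 LD2_c26 LD3_c25)) :=
  Lgr Lrot11 (Lpr_ct (f425199 IH) (Lpn (LP (LK LD1_c3 LD2_c26 LD3_c25))))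
theorem f96832 : Led Lsl_bt (LP (LK LD1_c7 LD2_c7 LD3_c52)) = (LP (LK LD1_c3 LD2_c55 LD3_c40)) :=
  Lgr Lrot127 (Lpr_bf (K3.f96827 IH) (Lpn (LP (LK LD1_c3 LD2_c55 LD3_c40))))
theorem f203778 : Led Lsl_bt (LP (LK LD1_c7 LD2_c39 LD3_c24)) = (LP (LK LD1_c3 LD2_c49 LD3_c18)) :=
  Lre_b IH (LK LD1_c7 LD2_c39 LD3_c24) (LK LD1_c3 LD2_c49 LD3_c18) Lrfl Lrfl
theorem f162881 : Led Lsl_af (LP (LK LD1_c7 LD2_c39 LD3_c24)) = (LP (LK LD1_c6 LD2_c54 LD3_c42)) :=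
  Lgr Lrot50 (Lpr_et (f110283 IH) (Lpr_at (K8.f162873 IH) (Lpr_et (K8.f102613 IH) (Lpn (LP (LK LD1_c6 LD2_c54 LD3_c42))))))
theorem f425128 : Led Lsl_at (LP (LK LD1_c3 LD2_c55 LD3_c40)) = (LP (LK LD1_c3 LD2_c26 LD3_c25)) :=
  Lgr Lrot67 (Lpe (f96832 IH) (Lpr_af (f425123 IH) (Lpe (f203778 IH) (Lpr_af (f162881 IH) (Lpe (f425127 IH) (Lpn (LP (LK LD1_c3 LD2_c26 LD3_c25))))))))
theorem f425209 : Led Lsl_at (LP (LK LD1_c1 LD2_c48 LD3_c11)) = (LP (LK LD1_c3 LD2_c38 LD3_c5)) :=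
  Lgr Lrot107 (Lpr_cf (f425206 IH) (Lpe (f425128 IH) (Lpe (K3.f97354 IH) (Lpn (LP (LK LD1_c3 LD2_c38 LD3_c5))))))
theorem f203855 : Led Lsl_ct (LP (LK LD1_c1 LD2_c48 LD3_c23)) = (LP (LK LD1_c3 LD2_c42 LD3_c44)) :=
  Lre_c IH (LK LD1_c1 LD2_c48 LD3_c23) (LK LD1_c3 LD2_c42 LD3_c44) Lrfl Lrfl
theorem f12384 : Led Lsl_ct (LP (LK LD1_c3 LD2_c40 LD3_c15)) = (LP (LK LD1_c1 LD2_c47 LD3_c6)) :=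
  Lre_c IH (LK LD1_c3 LD2_c40 LD3_c15) (LK LD1_c1 LD2_c47 LD3_c6) Lrfl Lrfl
theorem f203874 : Led Lsl_af (LP (LK LD1_c1 LD2_c48 LD3_c23)) = (LP (LK LD1_c1 LD2_c47 LD3_c6)) :=
  Lgr Lrot68 (Lpr_ct (f203855 IH) (Lpr_at (f203844 IH) (Lpr_ct (f12384 IH) (Lpn (LP (LK LD1_c1 LD2_c47 LD3_c6))))))
theorem f203884 : Led Lsl_ft (LP (LK LD1_c1 LD2_c48 LD3_c23)) = (LP (LK LD1_c0 LD2_c50 LD3_c56)) :=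
  Lre_f IH (LK LD1_c1 LD2_c48 LD3_c23) (LK LD1_c0 LD2_c50 LD3_c56) Lrfl Lrfl
theorem f12376 : Led Lsl_ft (LP (LK LD1_c0 LD2_c50 LD3_c19)) = (LP (LK LD1_c1 LD2_c47 LD3_c6)) :=
  Lre_f IH (LK LD1_c0 LD2_c50 LD3_c19) (LK LD1_c1 LD2_c47 LD3_c6) Lrfl Lrfl
theorem f203885 : Led Lsl_at (LP (LK LD1_c0 LD2_c50 LD3_c56)) = (LP (LK LD1_c0 LD2_c50 LD3_c19)) :=
  Lgr Lrot66 (Lpe (f203884 IH) (Lpr_af (f203874 IH) (Lpe (f12376 IH) (Lpn (LP (LK LD1_c0 LD2_c50 LD3_c19))))))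
theorem f203894 : Led Lsl_af (LP (LK LD1_c0 LD2_c50 LD3_c56)) = (LP (LK LD1_c0 LD2_c50 LD3_c19)) :=
  Lgr Lrot0 (Lpr_at (f203885 IH) (Lpn (LP (LK LD1_c0 LD2_c50 LD3_c19))))
theorem f12361 : Led Lsl_et (LP (LK LD1_c0 LD2_c50 LD3_c19)) = (LP (LK LD1_c0 LD2_c22 LD3_c43)) :=
  Lre_e IH (LK LD1_c0 LD2_c50 LD3_c19) (LK LD1_c0 LD2_c22 LD3_c43) Lrfl Lrfl
theorem f12362 : Led Lsl_et (LP (LK LD1_c0 LD2_c50 LD3_c0)) = (LP (LK LD1_c1 LD2_c46 LD3_c35)) :=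
  Lre_e IH (LK LD1_c0 LD2_c50 LD3_c0) (LK LD1_c1 LD2_c46 LD3_c35) Lrfl Lrfl
theorem f12363 : Led Lsl_bf (LP (LK LD1_c0 LD2_c50 LD3_c19)) = (LP (LK LD1_c1 LD2_c46 LD3_c35)) :=
  Lgr Lrot96 (Lpr_et (f12361 IH) (Lpr_bt (K4.f12354 IH) (Lpr_et (f12362 IH) (Lpn (LP (LK LD1_c1 LD2_c46 LD3_c35))))))
theorem f86826 : Led Lsl_bt (LP (LK LD1_c3 LD2_c38 LD3_c5)) = (LP (LK LD1_c1 LD2_c46 LD3_c0)) :=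
  Lre_b IH (LK LD1_c3 LD2_c38 LD3_c5) (LK LD1_c1 LD2_c46 LD3_c0) Lrfl Lrfl
theorem f425213 : Led Lsl_af (LP (LK LD1_c1 LD2_c46 LD3_c35)) = (LP (LK LD1_c1 LD2_c46 LD3_c0)) :=
  Lgr Lrot36 (Lpe (f12363 IH) (Lpe (f203894 IH) (Lpr_bt (f203906 IH) (Lpr_at (f425209 IH) (Lpr_bt (f86826 IH) (Lpn (LP (LK LD1_c1 LD2_c46 LD3_c0))))))))
theorem f425221 : Led Lsl_at (LP (LK LD1_c1 LD2_c46 LD3_c35)) = (LP (LK LD1_c1 LD2_c46 LD3_c0)) :=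
  Lgr Lrot100 (Lpr_af (f425213 IH) (Lpn (LP (LK LD1_c1 LD2_c46 LD3_c0))))
theorem f17510 : Led Lsl_et (LP (LK LD1_c0 LD2_c49 LD3_c22)) = (LP (LK LD1_c1 LD2_c45 LD3_c23)) :=
  Lre_e IH (LK LD1_c0 LD2_c49 LD3_c22) (LK LD1_c1 LD2_c45 LD3_c23) Lrfl Lrfl
theorem f12395 : Led Lsl_et (LP (LK LD1_c1 LD2_c46 LD3_c35)) = (LP (LK LD1_c0 LD2_c50 LD3_c0)) :=
  Lre_e IH (LK LD1_c1 LD2_c46 LD3_c35) (LK LD1_c0 LD2_c50 LD3_c0) Lrfl Lrfl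
theorem f90071 : Led Lsl_ct (LP (LK LD1_c1 LD2_c45 LD3_c23)) = (LP (LK LD1_c1 LD2_c46 LD3_c35)) :=
  Lgr Lrot15 (Lpe (f17510 IH) (Lpr_cf (K2.f90064 IH) (Lpe (f12395 IH) (Lpn (LP (LK LD1_c1 LD2_c46 LD3_c35))))))
theorem f425289 : Led Lsl_af (LP (LK LD1_c1 LD2_c45 LD3_c23)) = (LP (LK LD1_c1 LD2_c43 LD3_c30)) :=
  Lgr Lrot68 (Lpr_ct (f90071 IH) (Lpr_at (f425221 IH) (Lpr_ct (K3.f97325 IH) (Lpn (LP (LK LD1_c1 LD2_c43 LD3_c30))))))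
theorem f128281 : Led Lsl_ft (LP (LK LD1_c1 LD2_c45 LD3_c23)) = (LP (LK LD1_c3 LD2_c37 LD3_c2)) :=
  Lre_f IH (LK LD1_c1 LD2_c45 LD3_c23) (LK LD1_c3 LD2_c37 LD3_c2) Lrfl Lrfl
theorem f97352 : Led Lsl_ft (LP (LK LD1_c3 LD2_c33 LD3_c34)) = (LP (LK LD1_c1 LD2_c43 LD3_c30)) :=
  Lre_f IH (LK LD1_c3 LD2_c33 LD3_c34) (LK LD1_c1 LD2_c43 LD3_c30) Lrfl Lrfl
theorem f425300 : Led Lsl_at (LP (LK LD1_c3 LD2_c37 LD3_c2)) = (LP (LK LD1_c3 LD2_c33 LD3_c34)) :=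
  Lgr Lrot66 (Lpe (f128281 IH) (Lpr_af (f425289 IH) (Lpe (f97352 IH) (Lpn (LP (LK LD1_c3 LD2_c33 LD3_c34))))))
theorem f16706 : Led Lsl_ct (LP (LK LD1_c3 LD2_c24 LD3_c57)) = (LP (LK LD1_c1 LD2_c38 LD3_c53)) :=
  Lre_c IH (LK LD1_c3 LD2_c24 LD3_c57) (LK LD1_c1 LD2_c38 LD3_c53) Lrfl Lrfl
theorem f18045 : Led Lsl_dt (LP (LK LD1_c3 LD2_c38 LD3_c28)) = (LP (LK LD1_c7 LD2_c17 LD3_c16)) :=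
  Lre_d IH (LK LD1_c3 LD2_c38 LD3_c28) (LK LD1_c7 LD2_c17 LD3_c16) Lrfl Lrfl
theorem f208983 : Led Lsl_dt (LP (LK LD1_c7 LD2_c19 LD3_c12)) = (LP (LK LD1_c3 LD2_c39 LD3_c30)) :=
  Lre_d IH (LK LD1_c7 LD2_c19 LD3_c12) (LK LD1_c3 LD2_c39 LD3_c30) Lrfl Lrfl
theorem f439443 : Led Lsl_af (LP (LK LD1_c7 LD2_c19 LD3_c12)) = (LP (LK LD1_c7 LD2_c17 LD3_c16)) :=
  Lgr Lrot117 (Lpr_dt (f208983 IH) (Lpr_at (f439435 IH) (Lpr_dt (f18045 IH) (Lpn (LP (LK LD1_c7 LD2_c17 LD3_c16))))))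
theorem f18049 : Led Lsl_ft (LP (LK LD1_c3 LD2_c38 LD3_c27)) = (LP (LK LD1_c7 LD2_c17 LD3_c16)) :=
  Lre_f IH (LK LD1_c3 LD2_c38 LD3_c27) (LK LD1_c7 LD2_c17 LD3_c16) Lrfl Lrfl
theorem f18035 : Led Lsl_dt (LP (LK LD1_c3 LD2_c38 LD3_c27)) = (LP (LK LD1_c1 LD2_c46 LD3_c12)) :=
  Lre_d IH (LK LD1_c3 LD2_c38 LD3_c27) (LK LD1_c1 LD2_c46 LD3_c12) Lrfl Lrfl
theorem f18029 : Led Lsl_cf (LP (LK LD1_c1 LD2_c44 LD3_c41)) = (LP (LK LD1_c1 LD2_c46 LD3_c12)) :=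
  Lgr Lrot11 (Lpr_ct (K3.f18021 IH) (Lpn (LP (LK LD1_c1 LD2_c46 LD3_c12))))
theorem f10682 : Led Lsl_dt (LP (LK LD1_c1 LD2_c45 LD3_c20)) = (LP (LK LD1_c3 LD2_c36 LD3_c60)) :=
  Lre_d IH (LK LD1_c1 LD2_c45 LD3_c20) (LK LD1_c3 LD2_c36 LD3_c60) Lrfl Lrfl
theorem f17485 : Led Lsl_ct (LP (LK LD1_c3 LD2_c36 LD3_c60)) = (LP (LK LD1_c7 LD2_c14 LD3_c18)) :=
  Lre_c IH (LK LD1_c3 LD2_c36 LD3_c60) (LK LD1_c7 LD2_c14 LD3_c18) Lrfl Lrfl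
theorem f17486 : Led Lsl_dt (LP (LK LD1_c7 LD2_c14 LD3_c18)) = (LP (LK LD1_c13 LD2_c41 LD3_c50)) :=
  Lre_d IH (LK LD1_c7 LD2_c14 LD3_c18) (LK LD1_c13 LD2_c41 LD3_c50) Lrfl Lrfl
theorem f439590 : Led Lsl_cf (LP (LK LD1_c7 LD2_c19 LD3_c12)) = (LP (LK LD1_c13 LD2_c41 LD3_c50)) :=
  Lgr Lrot102 (Lpr_af (f439443 IH) (Lpe (f18049 IH) (Lpr_dt (f18035 IH) (Lpe (f18029 IH) (Lpr_dt (K4.f106117 IH) (Lpe (f17475 IH) (Lpr_dt (f10682 IH) (Lpr_ct (f17485 IH) (Lpr_dt (f17486 IH) (Lpn (LP (LK LD1_c13 LD2_c41 LD3_c50))))))))))))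
theorem f439586 : Led Lsl_ft (LP (LK LD1_c7 LD2_c19 LD3_c12)) = (LP (LK LD1_c3 LD2_c39 LD3_c29)) :=
  Lre_f IH (LK LD1_c7 LD2_c19 LD3_c12) (LK LD1_c3 LD2_c39 LD3_c29) Lrfl Lrfl
theorem f93160 : Led Lsl_ct (LP (LK LD1_c3 LD2_c39 LD3_c29)) = (LP (LK LD1_c7 LD2_c19 LD3_c11)) :=
  Lre_c IH (LK LD1_c3 LD2_c39 LD3_c29) (LK LD1_c7 LD2_c19 LD3_c11) Lrfl Lrfl
theorem f439594 : Led Lsl_ft (LP (LK LD1_c7 LD2_c19 LD3_c11)) = (LP (LK LD1_c13 LD2_c41 LD3_c50)) :=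
  Lgr Lrot4 (Lpe (f93160 IH) (Lpe (f439586 IH) (Lpr_cf (f439590 IH) (Lpn (LP (LK LD1_c13 LD2_c41 LD3_c50))))))
theorem f439596 : Led Lsl_ff (LP (LK LD1_c7 LD2_c19 LD3_c11)) = (LP (LK LD1_c13 LD2_c41 LD3_c50)) :=
  Lgr Lrot3 (Lpr_ft (f439594 IH) (Lpn (LP (LK LD1_c13 LD2_c41 LD3_c50))))
theorem f17492 : Led Lsl_dt (LP (LK LD1_c13 LD2_c41 LD3_c50)) = (LP (LK LD1_c7 LD2_c14 LD3_c18)) :=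
  Lre_d IH (LK LD1_c13 LD2_c41 LD3_c50) (LK LD1_c7 LD2_c14 LD3_c18) Lrfl Lrfl
theorem f17488 : Led Lsl_ct (LP (LK LD1_c7 LD2_c14 LD3_c18)) = (LP (LK LD1_c3 LD2_c36 LD3_c60)) :=
  Lre_c IH (LK LD1_c7 LD2_c14 LD3_c18) (LK LD1_c3 LD2_c36 LD3_c60) Lrfl Lrfl
theorem f106121 : Led Lsl_df (LP (LK LD1_c1 LD2_c44 LD3_c41)) = (LP (LK LD1_c1 LD2_c46 LD3_c34)) :=
  Lgr Lrot38 (Lpr_dt (K4.f106117 IH) (Lpn (LP (LK LD1_c1 LD2_c46 LD3_c34))))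
theorem f5817 : Led Lsl_dt (LP (LK LD1_c1 LD2_c46 LD3_c12)) = (LP (LK LD1_c3 LD2_c38 LD3_c27)) :=
  Lre_d IH (LK LD1_c1 LD2_c46 LD3_c12) (LK LD1_c3 LD2_c38 LD3_c27) Lrfl Lrfl
theorem f18031 : Led Lsl_ct (LP (LK LD1_c3 LD2_c38 LD3_c27)) = (LP (LK LD1_c7 LD2_c17 LD3_c15)) :=
  Lre_c IH (LK LD1_c3 LD2_c38 LD3_c27) (LK LD1_c7 LD2_c17 LD3_c15) Lrfl Lrfl
theorem f439598 : Led Lsl_at (LP (LK LD1_c7 LD2_c19 LD3_c11)) = (LP (LK LD1_c7 LD2_c17 LD3_c15)) :=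
  Lgr Lrot33 (Lpr_ff (f439596 IH) (Lpr_dt (f17492 IH) (Lpr_ct (f17488 IH) (Lpr_dt (K8.f17487 IH) (Lpr_ct (f17483 IH) (Lpe (f106121 IH) (Lpr_ct (K3.f18021 IH) (Lpr_dt (f5817 IH) (Lpr_ct (f18031 IH) (Lpn (LP (LK LD1_c7 LD2_c17 LD3_c15))))))))))))
theorem f18036 : Led Lsl_ct (LP (LK LD1_c7 LD2_c17 LD3_c15)) = (LP (LK LD1_c3 LD2_c38 LD3_c27)) :=
  Lre_c IH (LK LD1_c7 LD2_c17 LD3_c15) (LK LD1_c3 LD2_c38 LD3_c27) Lrfl Lrfl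
theorem f439603 : Led Lsl_af (LP (LK LD1_c3 LD2_c39 LD3_c29)) = (LP (LK LD1_c3 LD2_c38 LD3_c27)) :=
  Lgr Lrot68 (Lpr_ct (f93160 IH) (Lpr_at (f439598 IH) (Lpr_ct (f18036 IH) (Lpn (LP (LK LD1_c3 LD2_c38 LD3_c27))))))
theorem f92639 : Led Lsl_gt (LP (LK LD1_c7 LD2_c19 LD3_c10)) = (LP (LK LD1_c3 LD2_c39 LD3_c29)) :=
  Lre_g IH (LK LD1_c7 LD2_c19 LD3_c10) (LK LD1_c3 LD2_c39 LD3_c29) Lrfl Lrfl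
theorem f18043 : Led Lsl_ft (LP (LK LD1_c7 LD2_c17 LD3_c16)) = (LP (LK LD1_c3 LD2_c38 LD3_c27)) :=
  Lre_f IH (LK LD1_c7 LD2_c17 LD3_c16) (LK LD1_c3 LD2_c38 LD3_c27) Lrfl Lrfl
theorem f439605 : Led Lsl_gf (LP (LK LD1_c7 LD2_c19 LD3_c10)) = (LP (LK LD1_c7 LD2_c17 LD3_c16)) :=
  Lgr Lrot47 (Lpr_gt (f92639 IH) (Lpr_af (f439603 IH) (Lpe (f18043 IH) (Lpn (LP (LK LD1_c7 LD2_c17 LD3_c16))))))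
theorem f440179 : Led Lsl_df (LP (LK LD1_c1 LD2_c42 LD3_c59)) = (LP (LK LD1_c1 LD2_c43 LD3_c24)) :=
  Lgr Lrot18 (Lpe (K5.f108757 IH) (Lpe (K5.f128069 IH) (Lpr_at (f128075 IH) (Lpn (LP (LK LD1_c1 LD2_c43 LD3_c24))))))
theorem f18965 : Led Lsl_ct (LP (LK LD1_c1 LD2_c41 LD3_c19)) = (LP (LK LD1_c3 LD2_c29 LD3_c15)) :=
  Lre_c IH (LK LD1_c1 LD2_c41 LD3_c19) (LK LD1_c3 LD2_c29 LD3_c15) Lrfl Lrfl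
theorem f464147 : Led Lsl_gf (LP (LK LD1_c1 LD2_c49 LD3_c59)) = (LP (LK LD1_c3 LD2_c29 LD3_c15)) :=
  Lgr Lrot104 (Lpr_ct (K4.f92355 IH) (Lpr_df (f440179 IH) (Lpe (K5.f128081 IH) (Lpr_gf (f464140 IH) (Lpe (f62777 IH) (Lpe (K1.f14947 IH) (Lpe (K1.f62768 IH) (Lpr_gt (K24.f18963 IH) (Lpr_ct (f18965 IH) (Lpn (LP (LK LD1_c3 LD2_c29 LD3_c15))))))))))))
def v658 : LQ := Led Lsl_gt (LP (LK LD1_c0 LD2_c48 LD3_c10))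
theorem f455822 : Led Lsl_gt (LP (LK LD1_c0 LD2_c48 LD3_c10)) = v658 :=
  Lrfl
theorem f458365 : Led Lsl_bt (LP (LK LD1_c1 LD2_c41 LD3_c19)) = (LP (LK LD1_c3 LD2_c29 LD3_c14)) :=
  Lre_b IH (LK LD1_c1 LD2_c41 LD3_c19) (LK LD1_c3 LD2_c29 LD3_c14) Lrfl Lrfl
theorem f464172 : v658 = (LP (LK LD1_c1 LD2_c38 LD3_c53)) :=
  (Llr Lrot82 (Lpe (f455822 IH) (Lpe (K3.f92397 IH) (Lpe (K4.f92402 IH) (Lpr_gf (f464147 IH) (Lpe (f18965 IH) (Lpr_bt (f458365 IH) (Lpe (f463586 IH) (Lpr_bf (f17685 IH) (Lpr_ct (f18040 IH) (Lpr_gf (f463596 IH) (Lpe (f16708 IH) (Lpn (LP (LK LD1_c1 LD2_c38 LD3_c53))))))))))))))).symm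
theorem f108661 : Led Lsl_af (LP (LK LD1_c1 LD2_c44 LD3_c47)) = (LP (LK LD1_c1 LD2_c43 LD3_c3)) :=
  Lgr Lrot50 (Lpr_et (K3.f108231 IH) (Lpe (K24.f108413 IH) (Lpr_et (K3.f108654 IH) (Lpn (LP (LK LD1_c1 LD2_c43 LD3_c3))))))
theorem f455823 : Led Lsl_gf (LP (LK LD1_c1 LD2_c44 LD3_c47)) = v658 :=
  Lgr Lrot76 (Lpr_af (f108661 IH) (Lpe (f128105 IH) (Lpr_gt (f455822 IH) (Lpn v658))))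
theorem f446457 : Led Lsl_ct (LP (LK LD1_c3 LD2_c28 LD3_c0)) = (LP (LK LD1_c6 LD2_c58 LD3_c12)) :=
  Lre_c IH (LK LD1_c3 LD2_c28 LD3_c0) (LK LD1_c6 LD2_c58 LD3_c12) Lrfl Lrfl
theorem f464183 : Led Lsl_dt (LP (LK LD1_c7 LD2_c19 LD3_c10)) = (LP (LK LD1_c6 LD2_c58 LD3_c12)) :=
  Lgr Lrot113 (Lpr_gf (f439605 IH) (Lpe (f18045 IH) (Lpr_gf (f463596 IH) (Lpr_ct (f16706 IH) (Lpq (f464172 IH) (Lpe (f455823 IH) (Lpr_dt (K24.f456846 IH) (Lpq (K24.f461944 IH) (Lpr_gt (K24.f455243 IH) (Lpe (K24.f446441 IH) (Lpr_ct (f446457 IH) (Lpn (LP (LK LD1_c6 LD2_c58 LD3_c12))))))))))))))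
theorem f464189 : Led Lsl_df (LP (LK LD1_c7 LD2_c19 LD3_c10)) = (LP (LK LD1_c6 LD2_c58 LD3_c12)) :=
  Lgr Lrot38 (Lpr_dt (f464183 IH) (Lpn (LP (LK LD1_c6 LD2_c58 LD3_c12))))
theorem f458535 : Led Lsl_et (LP (LK LD1_c6 LD2_c52 LD3_c21)) = (LP (LK LD1_c3 LD2_c24 LD3_c57)) :=
  Lre_e IH (LK LD1_c6 LD2_c52 LD3_c21) (LK LD1_c3 LD2_c24 LD3_c57) Lrfl Lrfl
theorem f10795 : Led Lsl_dt (LP (LK LD1_c1 LD2_c43 LD3_c30)) = (LP (LK LD1_c3 LD2_c33 LD3_c33)) :=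
  Lre_d IH (LK LD1_c1 LD2_c43 LD3_c30) (LK LD1_c3 LD2_c33 LD3_c33) Lrfl Lrfl
theorem f10796 : Led Lsl_gt (LP (LK LD1_c7 LD2_c7 LD3_c61)) = (LP (LK LD1_c3 LD2_c33 LD3_c33)) :=
  Lre_g IH (LK LD1_c7 LD2_c7 LD3_c61) (LK LD1_c3 LD2_c33 LD3_c33) Lrfl Lrfl
theorem f463618 : Led Lsl_df (LP (LK LD1_c7 LD2_c7 LD3_c61)) = (LP (LK LD1_c6 LD2_c52 LD3_c21)) :=
  Lgr Lrot170 (Lpr_gt (f10796 IH) (Lpe (f10795 IH) (Lpr_et (K3.f10794 IH) (Lpr_gt (K3.f10790 IH) (Lpr_dt (K3.f98049 IH) (Lpe (K3.f98045 IH) (Lpe (K3.f92482 IH) (Lpr_et (K24.f93153 IH) (Lpr_gt (f463598 IH) (Lpe (f458535 IH) (Lpn (LP (LK LD1_c6 LD2_c52 LD3_c21)))))))))))))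
theorem f10487 : Led Lsl_dt (LP (LK LD1_c1 LD2_c45 LD3_c23)) = (LP (LK LD1_c3 LD2_c37 LD3_c1)) :=
  Lre_d IH (LK LD1_c1 LD2_c45 LD3_c23) (LK LD1_c3 LD2_c37 LD3_c1) Lrfl Lrfl
theorem f97337 : Led Lsl_dt (LP (LK LD1_c3 LD2_c33 LD3_c33)) = (LP (LK LD1_c1 LD2_c43 LD3_c30)) :=
  Lre_d IH (LK LD1_c3 LD2_c33 LD3_c33) (LK LD1_c1 LD2_c43 LD3_c30) Lrfl Lrfl
theorem f425298 : Led Lsl_at (LP (LK LD1_c3 LD2_c37 LD3_c1)) = (LP (LK LD1_c3 LD2_c33 LD3_c33)) :=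
  Lgr Lrot51 (Lpe (f10487 IH) (Lpr_af (f425289 IH) (Lpe (f97337 IH) (Lpn (LP (LK LD1_c3 LD2_c33 LD3_c33))))))
theorem f425326 : Led Lsl_ft (LP (LK LD1_c7 LD2_c14 LD3_c26)) = (LP (LK LD1_c3 LD2_c37 LD3_c1)) :=
  Lre_f IH (LK LD1_c7 LD2_c14 LD3_c26) (LK LD1_c3 LD2_c37 LD3_c1) Lrfl Lrfl
theorem f425533 : Led Lsl_gt (LP (LK LD1_c7 LD2_c14 LD3_c26)) = (LP (LK LD1_c7 LD2_c7 LD3_c61)) :=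
  Lgr Lrot5 (Lpr_ft (f425326 IH) (Lpr_at (f425298 IH) (Lpe (f10796 IH) (Lpn (LP (LK LD1_c7 LD2_c7 LD3_c61))))))
theorem f425337 : Led Lsl_dt (LP (LK LD1_c3 LD2_c37 LD3_c2)) = (LP (LK LD1_c7 LD2_c14 LD3_c26)) :=
  Lre_d IH (LK LD1_c3 LD2_c37 LD3_c2) (LK LD1_c7 LD2_c14 LD3_c26) Lrfl Lrfl
theorem f455330 : Led Lsl_et (LP (LK LD1_c6 LD2_c58 LD3_c12)) = (LP (LK LD1_c3 LD2_c27 LD3_c60)) :=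
  Lre_e IH (LK LD1_c6 LD2_c58 LD3_c12) (LK LD1_c3 LD2_c27 LD3_c60) Lrfl Lrfl
theorem f455323 : Led Lsl_ft (LP (LK LD1_c3 LD2_c27 LD3_c60)) = (LP (LK LD1_c3 LD2_c28 LD3_c8)) :=
  Lgr Lrot48 (Lpr_ff (K24.f455305 IH) (Lpn (LP (LK LD1_c3 LD2_c28 LD3_c8))))
theorem f446451 : Led Lsl_at (LP (LK LD1_c3 LD2_c28 LD3_c8)) = (LP (LK LD1_c1 LD2_c40 LD3_c42)) :=
  Lre_a IH (LK LD1_c3 LD2_c28 LD3_c8) (LK LD1_c1 LD2_c40 LD3_c42) Lrfl Lrfl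
theorem f16741 : Led Lsl_gt (LP (LK LD1_c3 LD2_c28 LD3_c10)) = (LP (LK LD1_c1 LD2_c40 LD3_c42)) :=
  Lre_g IH (LK LD1_c3 LD2_c28 LD3_c10) (LK LD1_c1 LD2_c40 LD3_c42) Lrfl Lrfl
theorem f455331 : Led Lsl_gt (LP (LK LD1_c3 LD2_c27 LD3_c60)) = (LP (LK LD1_c3 LD2_c28 LD3_c10)) :=
  Lgr Lrot5 (Lpr_ft (f455323 IH) (Lpr_at (f446451 IH) (Lpe (f16741 IH) (Lpn (LP (LK LD1_c3 LD2_c28 LD3_c10))))))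
theorem f464198 : Led Lsl_et (LP (LK LD1_c3 LD2_c37 LD3_c2)) = (LP (LK LD1_c3 LD2_c28 LD3_c10)) :=
  Lgr Lrot122 (Lpr_dt (f425337 IH) (Lpr_gt (f425533 IH) (Lpr_df (f463618 IH) (Lpr_et (f458535 IH) (Lpe (f463596 IH) (Lpr_dt (f18045 IH) (Lpe (f439605 IH) (Lpr_df (f464189 IH) (Lpr_et (f455330 IH) (Lpr_gt (f455331 IH) (Lpn (LP (LK LD1_c3 LD2_c28 LD3_c10)))))))))))))
theorem f464205 : Led Lsl_ef (LP (LK LD1_c3 LD2_c37 LD3_c2)) = (LP (LK LD1_c3 LD2_c28 LD3_c10)) :=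
  Lgr Lrot88 (Lpr_et (f464198 IH) (Lpn (LP (LK LD1_c3 LD2_c28 LD3_c10))))
theorem f465630 : Led Lsl_at (LP (LK LD1_c3 LD2_c28 LD3_c1)) = (LP (LK LD1_c3 LD2_c28 LD3_c10)) :=
  Lgr Lrot80 (Lpr_ef (f465623 IH) (Lpe (f425300 IH) (Lpr_ef (f464205 IH) (Lpn (LP (LK LD1_c3 LD2_c28 LD3_c10))))))
theorem f464207 : Led Lsl_ff (LP (LK LD1_c1 LD2_c43 LD3_c33)) = (LP (LK LD1_c3 LD2_c28 LD3_c10)) :=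
  Lgr Lrot72 (Lpr_et (K8.f10508 IH) (Lpe (K5.f128273 IH) (Lpr_et (f17510 IH) (Lpr_ft (f128281 IH) (Lpr_et (f464198 IH) (Lpn (LP (LK LD1_c3 LD2_c28 LD3_c10))))))))
theorem f128296 : Led Lsl_af (LP (LK LD1_c1 LD2_c45 LD3_c20)) = (LP (LK LD1_c1 LD2_c43 LD3_c33)) :=
  Lgr Lrot68 (Lpr_ct (f17483 IH) (Lpr_at (K5.f128292 IH) (Lpe (K8.f108025 IH) (Lpn (LP (LK LD1_c1 LD2_c43 LD3_c33))))))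
theorem f465637 : Led Lsl_ff (LP (LK LD1_c3 LD2_c28 LD3_c1)) = (LP (LK LD1_c1 LD2_c45 LD3_c20)) :=
  Lgr Lrot30 (Lpr_at (f465630 IH) (Lpe (f464207 IH) (Lpe (f128296 IH) (Lpn (LP (LK LD1_c1 LD2_c45 LD3_c20))))))
theorem f455312 : Led Lsl_dt (LP (LK LD1_c3 LD2_c28 LD3_c1)) = (LP (LK LD1_c6 LD2_c58 LD3_c15)) :=
  Lre_d IH (LK LD1_c3 LD2_c28 LD3_c1) (LK LD1_c6 LD2_c58 LD3_c15) Lrfl Lrfl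
theorem f465639 : Led Lsl_ft (LP (LK LD1_c6 LD2_c58 LD3_c15)) = (LP (LK LD1_c3 LD2_c36 LD3_c60)) :=
  Lgr Lrot54 (Lpe (f455312 IH) (Lpr_ff (f465637 IH) (Lpe (K8.f17487 IH) (Lpn (LP (LK LD1_c3 LD2_c36 LD3_c60))))))
theorem f108036 : Led Lsl_gt (LP (LK LD1_c7 LD2_c8 LD3_c12)) = (LP (LK LD1_c3 LD2_c33 LD3_c40)) :=
  Lre_g IH (LK LD1_c7 LD2_c8 LD3_c12) (LK LD1_c3 LD2_c33 LD3_c40) Lrfl Lrfl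
theorem f465646 : Led Lsl_gt (LP (LK LD1_c6 LD2_c58 LD3_c15)) = (LP (LK LD1_c7 LD2_c8 LD3_c12)) :=
  Lgr Lrot5 (Lpr_ft (f465639 IH) (Lpr_at (K8.f160341 IH) (Lpe (f108036 IH) (Lpn (LP (LK LD1_c7 LD2_c8 LD3_c12))))))
theorem f456841 : Led Lsl_df (LP (LK LD1_c1 LD2_c44 LD3_c47)) = K24.v702 :=
  Lgr Lrot78 (Lpr_ft (K24.f108220 IH) (Lpe (f105754 IH) (Lpr_ft (K24.f456839 IH) (Lpn K24.v702))))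
theorem f10282 : Led Lsl_et (LP (LK LD1_c0 LD2_c21 LD3_c31)) = (LP (LK LD1_c0 LD2_c48 LD3_c2)) :=
  Lre_e IH (LK LD1_c0 LD2_c21 LD3_c31) (LK LD1_c0 LD2_c48 LD3_c2) Lrfl Lrfl
theorem f106036 : Led Lsl_gt (LP (LK LD1_c0 LD2_c48 LD3_c2)) = (LP (LK LD1_c1 LD2_c42 LD3_c54)) :=
  Lre_g IH (LK LD1_c0 LD2_c48 LD3_c2) (LK LD1_c1 LD2_c42 LD3_c54) Lrfl Lrfl
theorem f108433 : Led Lsl_et (LP (LK LD1_c3 LD2_c32 LD3_c27)) = (LP (LK LD1_c1 LD2_c42 LD3_c54)) :=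
  Lre_e IH (LK LD1_c3 LD2_c32 LD3_c27) (LK LD1_c1 LD2_c42 LD3_c54) Lrfl Lrfl
theorem f128110 : Led Lsl_df (LP (LK LD1_c1 LD2_c43 LD3_c2)) = (LP (LK LD1_c3 LD2_c32 LD3_c27)) :=
  Lgr Lrot170 (Lpr_gt (K24.f92420 IH) (Lpr_df (f128099 IH) (Lpr_et (K24.f10467 IH) (Lpr_gt (K3.f6667 IH) (Lpr_dt (K0.f10225 IH) (Lpr_gt (K2.f10015 IH) (Lpe (K2.f10267 IH) (Lpr_et (f10282 IH) (Lpr_gt (f106036 IH) (Lpe (f108433 IH) (Lpn (LP (LK LD1_c3 LD2_c32 LD3_c27)))))))))))))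
theorem f128114 : Led Lsl_dt (LP (LK LD1_c1 LD2_c43 LD3_c2)) = (LP (LK LD1_c3 LD2_c32 LD3_c27)) :=
  Lgr Lrot42 (Lpr_df (f128110 IH) (Lpn (LP (LK LD1_c3 LD2_c32 LD3_c27))))
theorem f128163 : Led Lsl_ct (LP (LK LD1_c3 LD2_c32 LD3_c27)) = (LP (LK LD1_c7 LD2_c5 LD3_c54)) :=
  Lre_c IH (LK LD1_c3 LD2_c32 LD3_c27) (LK LD1_c7 LD2_c5 LD3_c54) Lrfl Lrfl
theorem f465648 : Led Lsl_df (LP (LK LD1_c7 LD2_c5 LD3_c54)) = (LP (LK LD1_c7 LD2_c8 LD3_c12)) :=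
  Lgr Lrot84 (Lpe (f128163 IH) (Lpe (f128114 IH) (Lpe (K24.f441675 IH) (Lpr_df (f456841 IH) (Lpq (K24.f461944 IH) (Lpe (K24.f446455 IH) (Lpe (K24.f15754 IH) (Lpr_gt (f455150 IH) (Lpr_dt (f455312 IH) (Lpr_gt (f465646 IH) (Lpn (LP (LK LD1_c7 LD2_c8 LD3_c12)))))))))))))
theorem f465660 : Led Lsl_dt (LP (LK LD1_c7 LD2_c5 LD3_c54)) = (LP (LK LD1_c7 LD2_c8 LD3_c12)) :=
  Lgr Lrot42 (Lpr_df (f465648 IH) (Lpn (LP (LK LD1_c7 LD2_c8 LD3_c12))))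
theorem f465662 : Led Lsl_et (LP (LK LD1_c7 LD2_c5 LD3_c54)) = (LP (LK LD1_c3 LD2_c32 LD3_c25)) :=
  Lre_e IH (LK LD1_c7 LD2_c5 LD3_c54) (LK LD1_c3 LD2_c32 LD3_c25) Lrfl Lrfl
theorem f98035 : Led Lsl_dt (LP (LK LD1_c0 LD2_c50 LD3_c3)) = (LP (LK LD1_c1 LD2_c43 LD3_c34)) :=
  Lgr Lrot27 (Lpr_cf (K2.f92283 IH) (Lpe (K2.f92294 IH) (Lpe (K3.f62821 IH) (Lpr_gf (K3.f97281 IH) (Lpe (K3.f18054 IH) (Lpr_gt (K3.f97128 IH) (Lpe (K3.f97145 IH) (Lpr_gt (K3.f11534 IH) (Lpr_ct (K3.f98017 IH) (Lpn (LP (LK LD1_c1 LD2_c43 LD3_c34))))))))))))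
theorem f465691 : Led Lsl_gf (LP (LK LD1_c3 LD2_c32 LD3_c25)) = (LP (LK LD1_c1 LD2_c46 LD3_c39)) :=
  Lgr Lrot141 (Lpe (f465662 IH) (Lpr_dt (f465660 IH) (Lpr_gt (f108036 IH) (Lpe (K8.f10509 IH) (Lpr_et (K8.f10508 IH) (Lpr_gt (K3.f6108 IH) (Lpr_dt (K3.f6097 IH) (Lpr_gt (K3.f6563 IH) (Lpe (f98035 IH) (Lpr_et (K2.f92291 IH) (Lpn (LP (LK LD1_c1 LD2_c46 LD3_c39)))))))))))))
theorem f108430 : Led Lsl_ct (LP (LK LD1_c1 LD2_c42 LD3_c54)) = (LP (LK LD1_c3 LD2_c32 LD3_c25)) :=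
  Lre_c IH (LK LD1_c1 LD2_c42 LD3_c54) (LK LD1_c3 LD2_c32 LD3_c25) Lrfl Lrfl
theorem f108427 : Led Lsl_gf (LP (LK LD1_c1 LD2_c44 LD3_c59)) = (LP (LK LD1_c1 LD2_c42 LD3_c54)) :=
  Lgr Lrot76 (Lpr_af (K24.f108413 IH) (Lpe (f108221 IH) (Lpr_gt (f106036 IH) (Lpn (LP (LK LD1_c1 LD2_c42 LD3_c54))))))
theorem f465700 : Led Lsl_bt (LP (LK LD1_c1 LD2_c42 LD3_c54)) = (LP (LK LD1_c1 LD2_c42 LD3_c54)) :=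
  Lgr Lrot130 (Lpr_ct (f108430 IH) (Lpr_gf (f465691 IH) (Lpr_cf (f92305 IH) (Lpe (K2.f93170 IH) (Lpe (f92277 IH) (Lpe (f464319 IH) (Lpr_ct (f464562 IH) (Lpe (f108321 IH) (Lpe (K24.f17829 IH) (Lpr_gf (f108427 IH) (Lpn (LP (LK LD1_c1 LD2_c42 LD3_c54)))))))))))))
theorem f465693 : Led Lsl_gt (LP (LK LD1_c3 LD2_c32 LD3_c25)) = (LP (LK LD1_c3 LD2_c38 LD3_c31)) :=
  Lgr Lrot46 (Lpr_gf (f465691 IH) (Lpr_ft (f92330 IH) (Lpe (f439445 IH) (Lpn (LP (LK LD1_c3 LD2_c38 LD3_c31))))))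
theorem f439548 : Led Lsl_ct (LP (LK LD1_c1 LD2_c46 LD3_c14)) = (LP (LK LD1_c1 LD2_c44 LD3_c53)) :=
  Lgr Lrot59 (Lpr_cf (f439458 IH) (Lpn (LP (LK LD1_c1 LD2_c44 LD3_c53))))
theorem f439553 : Led Lsl_cf (LP (LK LD1_c3 LD2_c38 LD3_c31)) = (LP (LK LD1_c3 LD2_c36 LD3_c2)) :=
  Lgr Lrot108 (Lpr_ft (f208985 IH) (Lpr_ct (f439548 IH) (Lpr_ft (K5.f121762 IH) (Lpn (LP (LK LD1_c3 LD2_c36 LD3_c2))))))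
theorem f131705 : Led Lsl_af (LP (LK LD1_c0 LD2_c50 LD3_c32)) = (LP (LK LD1_c0 LD2_c51 LD3_c14)) :=
  Lgr Lrot36 (Lpr_bt (f122021 IH) (Lpr_at (K4.f122017 IH) (Lpr_bt (K2.f92281 IH) (Lpr_at (K4.f121755 IH) (Lpr_bt (K5.f131703 IH) (Lpn (LP (LK LD1_c0 LD2_c51 LD3_c14))))))))
theorem f109444 : Led Lsl_gt (LP (LK LD1_c1 LD2_c47 LD3_c30)) = (LP (LK LD1_c0 LD2_c50 LD3_c32)) :=
  Lre_g IH (LK LD1_c1 LD2_c47 LD3_c30) (LK LD1_c0 LD2_c50 LD3_c32) Lrfl Lrfl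
theorem f131731 : Led Lsl_ft (LP (LK LD1_c1 LD2_c48 LD3_c57)) = (LP (LK LD1_c0 LD2_c51 LD3_c14)) :=
  Lre_f IH (LK LD1_c1 LD2_c48 LD3_c57) (LK LD1_c0 LD2_c51 LD3_c14) Lrfl Lrfl
theorem f439210 : Led Lsl_gf (LP (LK LD1_c1 LD2_c47 LD3_c30)) = (LP (LK LD1_c1 LD2_c48 LD3_c57)) :=
  Lgr Lrot47 (Lpr_gt (f109444 IH) (Lpr_af (f131705 IH) (Lpe (f131731 IH) (Lpn (LP (LK LD1_c1 LD2_c48 LD3_c57))))))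
theorem f439212 : Led Lsl_ct (LP (LK LD1_c1 LD2_c47 LD3_c30)) = (LP (LK LD1_c3 LD2_c41 LD3_c9)) :=
  Lre_c IH (LK LD1_c1 LD2_c47 LD3_c30) (LK LD1_c3 LD2_c41 LD3_c9) Lrfl Lrfl
theorem f108475 : Led Lsl_bt (LP (LK LD1_c1 LD2_c42 LD3_c43)) = (LP (LK LD1_c0 LD2_c48 LD3_c2)) :=
  Lre_b IH (LK LD1_c1 LD2_c42 LD3_c43) (LK LD1_c0 LD2_c48 LD3_c2) Lrfl Lrfl
theorem f465713 : Led Lsl_gt (LP (LK LD1_c3 LD2_c41 LD3_c9)) = (LP (LK LD1_c1 LD2_c47 LD3_c37)) :=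
  Lgr Lrot149 (Lpe (f439212 IH) (Lpr_gf (f439210 IH) (Lpe (K5.f131722 IH) (Lpe (f439553 IH) (Lpe (f465693 IH) (Lpe (f108430 IH) (Lpr_bt (f465700 IH) (Lpe (f106036 IH) (Lpe (f108475 IH) (Lpe (f146926 IH) (Lpn (LP (LK LD1_c1 LD2_c47 LD3_c37)))))))))))))
theorem f458259 : Led Lsl_ef (LP (LK LD1_c3 LD2_c31 LD3_c47)) = (LP (LK LD1_c3 LD2_c31 LD3_c27)) :=
  Lgr Lrot88 (Lpr_et (K24.f458242 IH) (Lpn (LP (LK LD1_c3 LD2_c31 LD3_c27))))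
theorem f463492 : Led Lsl_at (LP (LK LD1_c3 LD2_c43 LD3_c43)) = (LP (LK LD1_c3 LD2_c31 LD3_c27)) :=
  Lgr Lrot80 (Lpr_ef (f463490 IH) (Lpe (f458230 IH) (Lpr_ef (f458259 IH) (Lpn (LP (LK LD1_c3 LD2_c31 LD3_c27))))))
theorem f465717 : Led Lsl_ft (LP (LK LD1_c3 LD2_c41 LD3_c9)) = (LP (LK LD1_c3 LD2_c43 LD3_c43)) :=
  Lgr Lrot2 (Lpr_gt (f465713 IH) (Lpr_gt (K24.f460754 IH) (Lpe (f463492 IH) (Lpn (LP (LK LD1_c3 LD2_c43 LD3_c43))))))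
theorem f465741 : Led Lsl_ff (LP (LK LD1_c3 LD2_c41 LD3_c9)) = (LP (LK LD1_c3 LD2_c43 LD3_c43)) :=
  Lgr Lrot3 (Lpr_ft (f465717 IH) (Lpn (LP (LK LD1_c3 LD2_c43 LD3_c43))))
theorem f463540 : Led Lsl_gt (LP (LK LD1_c3 LD2_c43 LD3_c43)) = (LP (LK LD1_c3 LD2_c41 LD3_c24)) :=
  Lgr Lrot46 (Lpr_gf (f463538 IH) (Lpr_ft (K8.f130750 IH) (Lpe (K8.f146932 IH) (Lpn (LP (LK LD1_c3 LD2_c41 LD3_c24))))))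
theorem f455663 : Led Lsl_ct (LP (LK LD1_c1 LD2_c42 LD3_c29)) = (LP (LK LD1_c3 LD2_c31 LD3_c42)) :=
  Lre_c IH (LK LD1_c1 LD2_c42 LD3_c29) (LK LD1_c3 LD2_c31 LD3_c42) Lrfl Lrfl
theorem f94455 : Led Lsl_gt (LP (LK LD1_c3 LD2_c39 LD3_c27)) = (LP (LK LD1_c1 LD2_c46 LD3_c40)) :=
  Lre_g IH (LK LD1_c3 LD2_c39 LD3_c27) (LK LD1_c1 LD2_c46 LD3_c40) Lrfl Lrfl
theorem f147207 : Led Lsl_ct (LP (LK LD1_c3 LD2_c41 LD3_c18)) = (LP (LK LD1_c3 LD2_c39 LD3_c27)) :=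
  Lgr Lrot91 (Lpr_gf (K24.f147204 IH) (Lpe (K4.f116448 IH) (Lpr_ct (K4.f116457 IH) (Lpe (K4.f9801 IH) (Lpe (K4.f12596 IH) (Lpr_bt (K4.f12595 IH) (Lpe (K6.f12577 IH) (Lpe (K8.f12591 IH) (Lpr_ct (K8.f128317 IH) (Lpe (f94455 IH) (Lpn (LP (LK LD1_c3 LD2_c39 LD3_c27)))))))))))))
theorem f147217 : Led Lsl_bt (LP (LK LD1_c3 LD2_c39 LD3_c27)) = (LP (LK LD1_c3 LD2_c38 LD3_c24)) :=
  Lgr Lrot128 (Lpe (f147207 IH) (Lpr_bf (K24.f147209 IH) (Lpe (K8.f123605 IH) (Lpe (K6.f123609 IH) (Lpe (f18027 IH) (Lpn (LP (LK LD1_c3 LD2_c38 LD3_c24))))))))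
theorem f121880 : Led Lsl_cf (LP (LK LD1_c7 LD2_c18 LD3_c57)) = (LP (LK LD1_c7 LD2_c0 LD3_c50)) :=
  Lgr Lrot11 (Lpr_ct (f121871 IH) (Lpn (LP (LK LD1_c7 LD2_c0 LD3_c50))))
theorem f121853 : Led Lsl_et (LP (LK LD1_c7 LD2_c18 LD3_c57)) = (LP (LK LD1_c3 LD2_c39 LD3_c22)) :=
  Lre_e IH (LK LD1_c7 LD2_c18 LD3_c57) (LK LD1_c3 LD2_c39 LD3_c22) Lrfl Lrfl
theorem f121887 : Led Lsl_ct (LP (LK LD1_c3 LD2_c39 LD3_c22)) = (LP (LK LD1_c3 LD2_c29 LD3_c37)) :=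
  Lgr Lrot15 (Lpe (f121853 IH) (Lpr_cf (f121880 IH) (Lpe (K4.f121865 IH) (Lpn (LP (LK LD1_c3 LD2_c29 LD3_c37))))))
theorem f147258 : Led Lsl_ct (LP (LK LD1_c3 LD2_c39 LD3_c27)) = (LP (LK LD1_c3 LD2_c41 LD3_c18)) :=
  Lgr Lrot10 (Lpr_bt (f147217 IH) (Lpe (K8.f121850 IH) (Lpr_ct (f121887 IH) (Lpr_gt (f136970 IH) (Lpe (K4.f109060 IH) (Lpe (K3.f109542 IH) (Lpe (K4.f111493 IH) (Lpe (K4.f108543 IH) (Lpr_ct (K4.f116188 IH) (Lpe (K24.f147204 IH) (Lpn (LP (LK LD1_c3 LD2_c41 LD3_c18)))))))))))))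
theorem f147263 : Led Lsl_ct (LP (LK LD1_c1 LD2_c42 LD3_c51)) = (LP (LK LD1_c1 LD2_c47 LD3_c35)) :=
  Lgr Lrot10 (Lpr_bt (K24.f98542 IH) (Lpr_gt (K3.f98540 IH) (Lpr_ct (K3.f24950 IH) (Lpr_gt (K2.f89658 IH) (Lpr_cf (K1.f17962 IH) (Lpr_bt (K6.f18023 IH) (Lpr_gt (K6.f18026 IH) (Lpe (f147217 IH) (Lpr_ct (f147258 IH) (Lpr_gt (K24.f147203 IH) (Lpn (LP (LK LD1_c1 LD2_c47 LD3_c35)))))))))))))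
theorem f108281 : Led Lsl_et (LP (LK LD1_c3 LD2_c32 LD3_c19)) = (LP (LK LD1_c1 LD2_c42 LD3_c51)) :=
  Lre_e IH (LK LD1_c3 LD2_c32 LD3_c19) (LK LD1_c1 LD2_c42 LD3_c51) Lrfl Lrfl
theorem f147265 : Led Lsl_et (LP (LK LD1_c1 LD2_c47 LD3_c35)) = (LP (LK LD1_c3 LD2_c41 LD3_c21)) :=
  Lre_e IH (LK LD1_c1 LD2_c47 LD3_c35) (LK LD1_c3 LD2_c41 LD3_c21) Lrfl Lrfl
theorem f147266 : Led Lsl_cf (LP (LK LD1_c3 LD2_c32 LD3_c19)) = (LP (LK LD1_c3 LD2_c41 LD3_c21)) :=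
  Lgr Lrot39 (Lpr_et (f108281 IH) (Lpr_ct (f147263 IH) (Lpr_et (f147265 IH) (Lpn (LP (LK LD1_c3 LD2_c41 LD3_c21))))))
theorem f147274 : Led Lsl_ft (LP (LK LD1_c7 LD2_c23 LD3_c11)) = (LP (LK LD1_c3 LD2_c41 LD3_c21)) :=
  Lre_f IH (LK LD1_c7 LD2_c23 LD3_c11) (LK LD1_c3 LD2_c41 LD3_c21) Lrfl Lrfl
theorem f147275 : Led Lsl_ct (LP (LK LD1_c7 LD2_c5 LD3_c41)) = (LP (LK LD1_c7 LD2_c23 LD3_c11)) :=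
  Lgr Lrot40 (Lpe (K24.f108267 IH) (Lpr_cf (f147266 IH) (Lpe (f147274 IH) (Lpn (LP (LK LD1_c7 LD2_c23 LD3_c11))))))
theorem f147289 : Led Lsl_cf (LP (LK LD1_c7 LD2_c5 LD3_c41)) = (LP (LK LD1_c7 LD2_c23 LD3_c11)) :=
  Lgr Lrot11 (Lpr_ct (f147275 IH) (Lpn (LP (LK LD1_c7 LD2_c23 LD3_c11))))
theorem f108242 : Led Lsl_bt (LP (LK LD1_c7 LD2_c5 LD3_c41)) = (LP (LK LD1_c3 LD2_c32 LD3_c24)) :=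
  Lre_b IH (LK LD1_c7 LD2_c5 LD3_c41) (LK LD1_c3 LD2_c32 LD3_c24) Lrfl Lrfl
theorem f146938 : Led Lsl_bt (LP (LK LD1_c3 LD2_c41 LD3_c24)) = (LP (LK LD1_c7 LD2_c23 LD3_c11)) :=
  Lre_b IH (LK LD1_c3 LD2_c41 LD3_c24) (LK LD1_c7 LD2_c23 LD3_c11) Lrfl Lrfl
theorem f147293 : Led Lsl_ct (LP (LK LD1_c3 LD2_c32 LD3_c6)) = (LP (LK LD1_c3 LD2_c41 LD3_c24)) :=
  Lgr Lrot83 (Lpe (f108234 IH) (Lpe (K24.f108258 IH) (Lpe (f108242 IH) (Lpr_cf (f147289 IH) (Lpe (f146938 IH) (Lpn (LP (LK LD1_c3 LD2_c41 LD3_c24))))))))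
theorem f461794 : Led Lsl_gf (LP (LK LD1_c3 LD2_c31 LD3_c42)) = (LP (LK LD1_c3 LD2_c41 LD3_c24)) :=
  Lgr Lrot126 (Lpe (f455663 IH) (Lpr_bt (K24.f455658 IH) (Lpqs (f457658 IH) (Lpe (f450733 IH) (Lpr_ct (K24.f11067 IH) (Lpr_gt (K24.f11034 IH) (Lpqs (K24.f457409 IH) (Lpe (K24.f455597 IH) (Lpr_bt (K24.f446421 IH) (Lpqs (K24.f461789 IH) (Lpe (K24.f456827 IH) (Lpe (K24.f108294 IH) (Lpr_ct (f147293 IH) (Lpn (LP (LK LD1_c3 LD2_c41 LD3_c24))))))))))))))))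
theorem f465750 : Led Lsl_at (LP (LK LD1_c3 LD2_c41 LD3_c9)) = (LP (LK LD1_c3 LD2_c31 LD3_c42)) :=
  Lgr Lrot26 (Lpr_ff (f465741 IH) (Lpr_gt (f463540 IH) (Lpe (f461794 IH) (Lpn (LP (LK LD1_c3 LD2_c31 LD3_c42))))))
theorem f465754 : Led Lsl_af (LP (LK LD1_c1 LD2_c47 LD3_c30)) = (LP (LK LD1_c1 LD2_c42 LD3_c29)) :=
  Lgr Lrot68 (Lpr_ct (f439212 IH) (Lpr_at (f465750 IH) (Lpr_ct (K24.f455661 IH) (Lpn (LP (LK LD1_c1 LD2_c42 LD3_c29))))))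
def v770 : LQ := Led Lsl_gt (LP (LK LD1_c0 LD2_c50 LD3_c32))
theorem f457152 : Led Lsl_gt (LP (LK LD1_c0 LD2_c50 LD3_c32)) = v770 :=
  Lrfl
theorem f439194 : Led Lsl_ft (LP (LK LD1_c0 LD2_c50 LD3_c32)) = (LP (LK LD1_c1 LD2_c47 LD3_c31)) :=
  Lre_f IH (LK LD1_c0 LD2_c50 LD3_c32) (LK LD1_c1 LD2_c47 LD3_c31) Lrfl Lrfl
theorem f131720 : Led Lsl_at (LP (LK LD1_c1 LD2_c47 LD3_c31)) = (LP (LK LD1_c1 LD2_c48 LD3_c57)) :=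
  Lgr Lrot67 (Lpe (f122034 IH) (Lpr_af (K5.f122024 IH) (Lpr_bf (K5.f93173 IH) (Lpr_af (K5.f121763 IH) (Lpr_bf (K5.f131715 IH) (Lpn (LP (LK LD1_c1 LD2_c48 LD3_c57))))))))
theorem f457153 : Led Lsl_gf (LP (LK LD1_c1 LD2_c48 LD3_c57)) = v770 :=
  Lgr Lrot76 (Lpe (f131720 IH) (Lpe (f439194 IH) (Lpr_gt (f457152 IH) (Lpn v770))))
theorem f466161 : v770 = (LP (LK LD1_c1 LD2_c42 LD3_c20)) :=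
  (Llr Lrot47 (Lpe (f457153 IH) (Lpe (f439210 IH) (Lpr_af (f465754 IH) (Lpr_ff (K24.f458807 IH) (Lpn (LP (LK LD1_c1 LD2_c42 LD3_c20)))))))).symm
theorem f131794 : Led Lsl_af (LP (LK LD1_c1 LD2_c47 LD3_c29)) = (LP (LK LD1_c1 LD2_c48 LD3_c54)) :=
  Lgr Lrot117 (Lpr_dt (f122487 IH) (Lpr_at (K5.f131771 IH) (Lpr_dt (K5.f131745 IH) (Lpn (LP (LK LD1_c1 LD2_c48 LD3_c54))))))
theorem f437771 : Led Lsl_gt (LP (LK LD1_c3 LD2_c41 LD3_c6)) = (LP (LK LD1_c1 LD2_c47 LD3_c29)) :=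
  Lre_g IH (LK LD1_c3 LD2_c41 LD3_c6) (LK LD1_c1 LD2_c47 LD3_c29) Lrfl Lrfl
theorem f208934 : Led Lsl_ft (LP (LK LD1_c3 LD2_c43 LD3_c42)) = (LP (LK LD1_c1 LD2_c48 LD3_c54)) :=
  Lre_f IH (LK LD1_c3 LD2_c43 LD3_c42) (LK LD1_c1 LD2_c48 LD3_c54) Lrfl Lrfl
theorem f439138 : Led Lsl_gf (LP (LK LD1_c3 LD2_c41 LD3_c6)) = (LP (LK LD1_c3 LD2_c43 LD3_c42)) :=
  Lgr Lrot47 (Lpr_gt (f437771 IH) (Lpr_af (f131794 IH) (Lpe (f208934 IH) (Lpn (LP (LK LD1_c3 LD2_c43 LD3_c42))))))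
theorem f466197 : Led Lsl_ct (LP (LK LD1_c3 LD2_c31 LD3_c17)) = (LP (LK LD1_c3 LD2_c41 LD3_c6)) :=
  Lgr Lrot63 (Lpr_bt (f18950 IH) (Lpr_gt (f18071 IH) (Lpe (K24.f18734 IH) (Lpr_ct (K24.f11324 IH) (Lpr_gt (K24.f12121 IH) (Lpe (K24.f446539 IH) (Lpr_bt (K24.f446547 IH) (Lpq (f466161 IH) (Lpe (f457153 IH) (Lpr_ct (f131727 IH) (Lpe (f439138 IH) (Lpn (LP (LK LD1_c3 LD2_c41 LD3_c6))))))))))))))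
theorem f18945 : Led Lsl_gt (LP (LK LD1_c3 LD2_c31 LD3_c12)) = (LP (LK LD1_c1 LD2_c42 LD3_c10)) :=
  Lre_g IH (LK LD1_c3 LD2_c31 LD3_c12) (LK LD1_c1 LD2_c42 LD3_c10) Lrfl Lrfl
theorem f18707 : Led Lsl_gt (LP (LK LD1_c3 LD2_c30 LD3_c8)) = (LP (LK LD1_c7 LD2_c1 LD3_c56)) :=
  Lre_g IH (LK LD1_c3 LD2_c30 LD3_c8) (LK LD1_c7 LD2_c1 LD3_c56) Lrfl Lrfl
theorem f108800 : Led Lsl_gt (LP (LK LD1_c1 LD2_c47 LD3_c26)) = (LP (LK LD1_c3 LD2_c40 LD3_c59)) :=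
  Lre_g IH (LK LD1_c1 LD2_c47 LD3_c26) (LK LD1_c3 LD2_c40 LD3_c59) Lrfl Lrfl
theorem f466207 : Led Lsl_cf (LP (LK LD1_c3 LD2_c30 LD3_c8)) = (LP (LK LD1_c3 LD2_c40 LD3_c59)) :=
  Lgr Lrot125 (Lpr_gt (f18707 IH) (Lpe (K24.f18688 IH) (Lpe (K24.f18690 IH) (Lpr_gt (f18945 IH) (Lpe (f18950 IH) (Lpr_ct (f466197 IH) (Lpr_gt (f437771 IH) (Lpe (f122510 IH) (Lpr_bt (f122021 IH) (Lpr_gt (f108800 IH) (Lpn (LP (LK LD1_c3 LD2_c40 LD3_c59)))))))))))))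
theorem f97580 : Led Lsl_gt (LP (LK LD1_c1 LD2_c41 LD3_c46)) = (LP (LK LD1_c3 LD2_c30 LD3_c8)) :=
  Lre_g IH (LK LD1_c1 LD2_c41 LD3_c46) (LK LD1_c3 LD2_c30 LD3_c8) Lrfl Lrfl
theorem f455569 : Led Lsl_ct (LP (LK LD1_c0 LD2_c47 LD3_c35)) = (LP (LK LD1_c1 LD2_c41 LD3_c46)) :=
  Lre_c IH (LK LD1_c0 LD2_c47 LD3_c35) (LK LD1_c1 LD2_c41 LD3_c46) Lrfl Lrfl
theorem f88622 : Led Lsl_gt (LP (LK LD1_c1 LD2_c42 LD3_c47)) = (LP (LK LD1_c3 LD2_c32 LD3_c10)) :=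
  Lre_g IH (LK LD1_c1 LD2_c42 LD3_c47) (LK LD1_c3 LD2_c32 LD3_c10) Lrfl Lrfl
theorem f121774 : Led Lsl_gt (LP (LK LD1_c3 LD2_c32 LD3_c10)) = (LP (LK LD1_c3 LD2_c36 LD3_c2)) :=
  Lgr Lrot46 (Lpe (f88622 IH) (Lpr_ft (K4.f92311 IH) (Lpr_at (K5.f121769 IH) (Lpn (LP (LK LD1_c3 LD2_c36 LD3_c2))))))
theorem f466217 : Led Lsl_bf (LP (LK LD1_c3 LD2_c32 LD3_c10)) = (LP (LK LD1_c3 LD2_c40 LD3_c59)) :=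
  Lgr Lrot156 (Lpr_gt (f121774 IH) (Lpr_bf (K5.f131715 IH) (Lpr_ct (f131727 IH) (Lpe (f439138 IH) (Lpe (f466197 IH) (Lpr_bt (f18950 IH) (Lpr_gt (f18071 IH) (Lpr_ct (f455569 IH) (Lpr_gt (f97580 IH) (Lpr_cf (f466207 IH) (Lpn (LP (LK LD1_c3 LD2_c40 LD3_c59)))))))))))))
theorem f18949 : Led Lsl_ct (LP (LK LD1_c1 LD2_c42 LD3_c10)) = (LP (LK LD1_c3 LD2_c31 LD3_c18)) :=
  Lre_c IH (LK LD1_c1 LD2_c42 LD3_c10) (LK LD1_c3 LD2_c31 LD3_c18) Lrfl Lrfl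
theorem f466223 : Led Lsl_gf (LP (LK LD1_c3 LD2_c25 LD3_c38)) = (LP (LK LD1_c3 LD2_c31 LD3_c18)) :=
  Lgr Lrot129 (Lpr_cf (K2.f94581 IH) (Lpr_bt (K2.f92281 IH) (Lpr_gt (f88622 IH) (Lpr_bf (f466217 IH) (Lpe (f466207 IH) (Lpr_gt (f18707 IH) (Lpe (K24.f18688 IH) (Lpe (K24.f18690 IH) (Lpr_gt (f18945 IH) (Lpr_ct (f18949 IH) (Lpn (LP (LK LD1_c3 LD2_c31 LD3_c18)))))))))))))
theorem f122038 : Led Lsl_at (LP (LK LD1_c3 LD2_c40 LD3_c58)) = (LP (LK LD1_c3 LD2_c25 LD3_c38)) :=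
  Lgr Lrot100 (Lpr_af (K4.f122022 IH) (Lpn (LP (LK LD1_c3 LD2_c25 LD3_c38))))
theorem f466225 : Led Lsl_gt (LP (LK LD1_c7 LD2_c4 LD3_c15)) = (LP (LK LD1_c3 LD2_c31 LD3_c18)) :=
  Lgr Lrot5 (Lpr_ft (f464376 IH) (Lpr_at (f122038 IH) (Lpr_gf (f466223 IH) (Lpn (LP (LK LD1_c3 LD2_c31 LD3_c18))))))
theorem f466199 : Led Lsl_bt (LP (LK LD1_c1 LD2_c42 LD3_c10)) = (LP (LK LD1_c3 LD2_c31 LD3_c17)) :=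
  Lre_b IH (LK LD1_c1 LD2_c42 LD3_c10) (LK LD1_c3 LD2_c31 LD3_c17) Lrfl Lrfl
theorem f466252 : Led Lsl_gf (LP (LK LD1_c3 LD2_c25 LD3_c56)) = (LP (LK LD1_c3 LD2_c31 LD3_c17)) :=
  Lgr Lrot124 (Lpe (f130752 IH) (Lpe (f130728 IH) (Lpr_gt (K24.f460705 IH) (Lpe (f129682 IH) (Lpr_bt (f129678 IH) (Lpe (f463578 IH) (Lpe (f464368 IH) (Lpr_gt (f466225 IH) (Lpe (f18949 IH) (Lpr_bt (f466199 IH) (Lpn (LP (LK LD1_c3 LD2_c31 LD3_c17)))))))))))))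
theorem f466254 : Led Lsl_gt (LP (LK LD1_c3 LD2_c32 LD3_c6)) = (LP (LK LD1_c3 LD2_c31 LD3_c17)) :=
  Lgr Lrot5 (Lpr_ft (K24.f108296 IH) (Lpe (K24.f116036 IH) (Lpr_gf (f466252 IH) (Lpn (LP (LK LD1_c3 LD2_c31 LD3_c17))))))
theorem f108415 : Led Lsl_ft (LP (LK LD1_c1 LD2_c44 LD3_c57)) = (LP (LK LD1_c3 LD2_c36 LD3_c11)) :=
  Lre_f IH (LK LD1_c1 LD2_c44 LD3_c57) (LK LD1_c3 LD2_c36 LD3_c11) Lrfl Lrfl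
theorem f17896 : Led Lsl_gt (LP (LK LD1_c1 LD2_c44 LD3_c57)) = (LP (LK LD1_c3 LD2_c36 LD3_c8)) :=
  Lre_g IH (LK LD1_c1 LD2_c44 LD3_c57) (LK LD1_c3 LD2_c36 LD3_c8) Lrfl Lrfl
theorem f108416 : Led Lsl_gt (LP (LK LD1_c3 LD2_c36 LD3_c8)) = (LP (LK LD1_c3 LD2_c32 LD3_c24)) :=
  Lgr Lrot46 (Lpe (f17896 IH) (Lpr_ft (f108415 IH) (Lpr_at (K24.f108387 IH) (Lpn (LP (LK LD1_c3 LD2_c32 LD3_c24))))))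
theorem f466219 : Led Lsl_bt (LP (LK LD1_c3 LD2_c32 LD3_c10)) = (LP (LK LD1_c3 LD2_c40 LD3_c59)) :=
  Lgr Lrot127 (Lpr_bf (f466217 IH) (Lpn (LP (LK LD1_c3 LD2_c40 LD3_c59))))
theorem f466267 : Led Lsl_cf (LP (LK LD1_c3 LD2_c36 LD3_c8)) = (LP (LK LD1_c3 LD2_c32 LD3_c10)) :=
  Lgr Lrot160 (Lpr_gt (f108416 IH) (Lpe (K3.f108238 IH) (Lpr_bt (f108234 IH) (Lpr_gt (f466254 IH) (Lpr_ct (f466197 IH) (Lpr_gt (f437771 IH) (Lpe (f122510 IH) (Lpr_bt (f122021 IH) (Lpr_gt (f108800 IH) (Lpe (f466219 IH) (Lpn (LP (LK LD1_c3 LD2_c32 LD3_c10)))))))))))))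
theorem f466272 : Led Lsl_ct (LP (LK LD1_c3 LD2_c36 LD3_c8)) = (LP (LK LD1_c3 LD2_c32 LD3_c10)) :=
  Lgr Lrot59 (Lpr_cf (f466267 IH) (Lpn (LP (LK LD1_c3 LD2_c32 LD3_c10))))
theorem f17898 : Led Lsl_bt (LP (LK LD1_c7 LD2_c12 LD3_c36)) = (LP (LK LD1_c3 LD2_c36 LD3_c8)) :=
  Lre_b IH (LK LD1_c7 LD2_c12 LD3_c36) (LK LD1_c3 LD2_c36 LD3_c8) Lrfl Lrfl
theorem f466209 : Led Lsl_bt (LP (LK LD1_c3 LD2_c30 LD3_c8)) = (LP (LK LD1_c7 LD2_c1 LD3_c58)) :=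
  Lre_b IH (LK LD1_c3 LD2_c30 LD3_c8) (LK LD1_c7 LD2_c1 LD3_c58) Lrfl Lrfl
theorem f466275 : Led Lsl_cf (LP (LK LD1_c7 LD2_c12 LD3_c36)) = (LP (LK LD1_c7 LD2_c1 LD3_c58)) :=
  Lgr Lrot97 (Lpr_bt (f17898 IH) (Lpr_ct (f466272 IH) (Lpr_bt (f466219 IH) (Lpe (f466207 IH) (Lpr_bt (f466209 IH) (Lpn (LP (LK LD1_c7 LD2_c1 LD3_c58))))))))
theorem f18708 : Led Lsl_bt (LP (LK LD1_c7 LD2_c1 LD3_c58)) = (LP (LK LD1_c3 LD2_c30 LD3_c8)) :=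
  Lre_b IH (LK LD1_c7 LD2_c1 LD3_c58) (LK LD1_c3 LD2_c30 LD3_c8) Lrfl Lrfl
theorem f92432 : Led Lsl_ft (LP (LK LD1_c3 LD2_c32 LD3_c38)) = (LP (LK LD1_c7 LD2_c6 LD3_c8)) :=
  Lre_f IH (LK LD1_c3 LD2_c32 LD3_c38) (LK LD1_c7 LD2_c6 LD3_c8) Lrfl Lrfl
theorem f460950 : Led Lsl_ff (LP (LK LD1_c3 LD2_c45 LD3_c42)) = (LP (LK LD1_c7 LD2_c3 LD3_c20)) :=
  Lgr Lrot23 (Lpr_ct (K4.f92415 IH) (Lpr_ft (f92432 IH) (Lpr_ct (f460940 IH) (Lpn (LP (LK LD1_c7 LD2_c3 LD3_c20))))))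
theorem f92463 : Led Lsl_at (LP (LK LD1_c3 LD2_c45 LD3_c42)) = (LP (LK LD1_c7 LD2_c31 LD3_c60)) :=
  Lre_a IH (LK LD1_c3 LD2_c45 LD3_c42) (LK LD1_c7 LD2_c31 LD3_c60) Lrfl Lrfl
theorem f460958 : Led Lsl_gf (LP (LK LD1_c7 LD2_c31 LD3_c60)) = (LP (LK LD1_c13 LD2_c22 LD3_c43)) :=
  Lgr Lrot76 (Lpe (f92463 IH) (Lpr_ff (f460950 IH) (Lpr_gt (f460953 IH) (Lpn (LP (LK LD1_c13 LD2_c22 LD3_c43))))))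
theorem f92459 : Led Lsl_et (LP (LK LD1_c3 LD2_c45 LD3_c40)) = (LP (LK LD1_c7 LD2_c31 LD3_c60)) :=
  Lre_e IH (LK LD1_c3 LD2_c45 LD3_c40) (LK LD1_c7 LD2_c31 LD3_c60) Lrfl Lrfl
theorem f92460 : Led Lsl_et (LP (LK LD1_c7 LD2_c6 LD3_c5)) = (LP (LK LD1_c3 LD2_c32 LD3_c36)) :=
  Lre_e IH (LK LD1_c7 LD2_c6 LD3_c5) (LK LD1_c3 LD2_c32 LD3_c36) Lrfl Lrfl
theorem f92461 : Led Lsl_ct (LP (LK LD1_c7 LD2_c31 LD3_c60)) = (LP (LK LD1_c7 LD2_c6 LD3_c5)) :=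
  Lgr Lrot15 (Lpe (f92459 IH) (Lpr_cf (K4.f92452 IH) (Lpe (f92460 IH) (Lpn (LP (LK LD1_c7 LD2_c6 LD3_c5))))))
theorem f466289 : Led Lsl_gf (LP (LK LD1_c7 LD2_c12 LD3_c36)) = (LP (LK LD1_c7 LD2_c6 LD3_c5)) :=
  Lgr Lrot129 (Lpr_cf (f466275 IH) (Lpr_bt (f18708 IH) (Lpr_gt (f18707 IH) (Lpe (K24.f18674 IH) (Lpr_ct (K2.f18677 IH) (Lpr_gt (f18679 IH) (Lpe (f18706 IH) (Lpe (f464054 IH) (Lpe (f460958 IH) (Lpr_ct (f92461 IH) (Lpn (LP (LK LD1_c7 LD2_c6 LD3_c5)))))))))))))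
theorem f64668 : Led Lsl_bt (LP (LK LD1_c7 LD2_c0 LD3_c22)) = (LP (LK LD1_c3 LD2_c29 LD3_c23)) :=
  Lre_b IH (LK LD1_c7 LD2_c0 LD3_c22) (LK LD1_c3 LD2_c29 LD3_c23) Lrfl Lrfl
theorem f111468 : Led Lsl_bt (LP (LK LD1_c7 LD2_c31 LD3_c60)) = (LP (LK LD1_c6 LD2_c53 LD3_c58)) :=
  Lgr Lrot62 (Lpe (f92463 IH) (Lpe (K4.f92407 IH) (Lpr_af (K5.f109299 IH) (Lpe (f64668 IH) (Lpr_af (K4.f111464 IH) (Lpn (LP (LK LD1_c6 LD2_c53 LD3_c58))))))))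
theorem f455580 : Led Lsl_ct (LP (LK LD1_c3 LD2_c31 LD3_c18)) = (LP (LK LD1_c1 LD2_c42 LD3_c10)) :=
  Lre_c IH (LK LD1_c3 LD2_c31 LD3_c18) (LK LD1_c1 LD2_c42 LD3_c10) Lrfl Lrfl
theorem f466291 : Led Lsl_bt (LP (LK LD1_c3 LD2_c31 LD3_c18)) = (LP (LK LD1_c7 LD2_c4 LD3_c20)) :=
  Lre_b IH (LK LD1_c3 LD2_c31 LD3_c18) (LK LD1_c7 LD2_c4 LD3_c20) Lrfl Lrfl
theorem f466292 : Led Lsl_gf (LP (LK LD1_c6 LD2_c53 LD3_c58)) = (LP (LK LD1_c7 LD2_c4 LD3_c20)) :=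
  Lgr Lrot124 (Lpe (f111468 IH) (Lpr_ct (f92461 IH) (Lpe (f466289 IH) (Lpr_cf (f466275 IH) (Lpr_bt (f18708 IH) (Lpr_gt (f18707 IH) (Lpr_ct (K24.f18689 IH) (Lpr_gt (f18945 IH) (Lpe (f455580 IH) (Lpr_bt (f466291 IH) (Lpn (LP (LK LD1_c7 LD2_c4 LD3_c20)))))))))))))
theorem f460936 : Led Lsl_at (LP (LK LD1_c13 LD2_c22 LD3_c45)) = (LP (LK LD1_c7 LD2_c3 LD3_c20)) :=
  Lre_a IH (LK LD1_c13 LD2_c22 LD3_c45) (LK LD1_c7 LD2_c3 LD3_c20) Lrfl Lrfl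
theorem f460956 : Led Lsl_ft (LP (LK LD1_c7 LD2_c31 LD3_c60)) = (LP (LK LD1_c13 LD2_c22 LD3_c45)) :=
  Lgr Lrot101 (Lpe (f92463 IH) (Lpr_ff (f460950 IH) (Lpe (f460936 IH) (Lpn (LP (LK LD1_c13 LD2_c22 LD3_c45))))))
theorem f460967 : Led Lsl_ff (LP (LK LD1_c7 LD2_c31 LD3_c60)) = (LP (LK LD1_c13 LD2_c22 LD3_c45)) :=
  Lgr Lrot3 (Lpr_ft (f460956 IH) (Lpn (LP (LK LD1_c13 LD2_c22 LD3_c45))))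
theorem f460975 : Led Lsl_dt (LP (LK LD1_c22 LD2_c40 LD3_c18)) = (LP (LK LD1_c13 LD2_c22 LD3_c45)) :=
  Lre_d IH (LK LD1_c22 LD2_c40 LD3_c18) (LK LD1_c13 LD2_c22 LD3_c45) Lrfl Lrfl
theorem f460976 : Led Lsl_ft (LP (LK LD1_c14 LD2_c12 LD3_c28)) = (LP (LK LD1_c22 LD2_c40 LD3_c18)) :=
  Lgr Lrot54 (Lpe (K4.f92467 IH) (Lpr_ff (f460967 IH) (Lpe (f460975 IH) (Lpn (LP (LK LD1_c22 LD2_c40 LD3_c18))))))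
theorem f111482 : Led Lsl_ft (LP (LK LD1_c22 LD2_c17 LD3_c59)) = (LP (LK LD1_c13 LD2_c6 LD3_c38)) :=
  Lre_f IH (LK LD1_c22 LD2_c17 LD3_c59) (LK LD1_c13 LD2_c6 LD3_c38) Lrfl Lrfl
theorem f460983 : Led Lsl_bf (LP (LK LD1_c22 LD2_c17 LD3_c59)) = (LP (LK LD1_c22 LD2_c40 LD3_c18)) :=
  Lgr Lrot61 (Lpr_ft (f111482 IH) (Lpe (K4.f111477 IH) (Lpr_ft (f460976 IH) (Lpn (LP (LK LD1_c22 LD2_c40 LD3_c18))))))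
theorem f460987 : Led Lsl_at (LP (LK LD1_c13 LD2_c22 LD3_c46)) = (LP (LK LD1_c22 LD2_c40 LD3_c18)) :=
  Lre_a IH (LK LD1_c13 LD2_c22 LD3_c46) (LK LD1_c22 LD2_c40 LD3_c18) Lrfl Lrfl
theorem f460988 : Led Lsl_bt (LP (LK LD1_c7 LD2_c3 LD3_c21)) = (LP (LK LD1_c13 LD2_c22 LD3_c46)) :=
  Lre_b IH (LK LD1_c7 LD2_c3 LD3_c21) (LK LD1_c13 LD2_c22 LD3_c46) Lrfl Lrfl
theorem f460578 : Led Lsl_at (LP (LK LD1_c7 LD2_c47 LD3_c41)) = (LP (LK LD1_c7 LD2_c3 LD3_c21)) :=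
  Lgr Lrot66 (Lpe (K24.f460096 IH) (Lpe (K4.f109291 IH) (Lpr_ff (K24.f460576 IH) (Lpn (LP (LK LD1_c7 LD2_c3 LD3_c21))))))
theorem f63040 : Led Lsl_bt (LP (LK LD1_c14 LD2_c42 LD3_c34)) = (LP (LK LD1_c7 LD2_c47 LD3_c41)) :=
  Lre_b IH (LK LD1_c14 LD2_c42 LD3_c34) (LK LD1_c7 LD2_c47 LD3_c41) Lrfl Lrfl
theorem f460989 : Led Lsl_at (LP (LK LD1_c22 LD2_c17 LD3_c59)) = (LP (LK LD1_c14 LD2_c42 LD3_c34)) :=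
  Lgr Lrot67 (Lpr_bf (f460983 IH) (Lpe (f460987 IH) (Lpe (f460988 IH) (Lpe (f460578 IH) (Lpe (f63040 IH) (Lpn (LP (LK LD1_c14 LD2_c42 LD3_c34))))))))
theorem f103802 : Led Lsl_dt (LP (LK LD1_c13 LD2_c6 LD3_c39)) = (LP (LK LD1_c22 LD2_c17 LD3_c59)) :=
  Lre_d IH (LK LD1_c13 LD2_c6 LD3_c39) (LK LD1_c22 LD2_c17 LD3_c59) Lrfl Lrfl
theorem f63023 : Led Lsl_bt (LP (LK LD1_c13 LD2_c17 LD3_c8)) = (LP (LK LD1_c7 LD2_c0 LD3_c7)) :=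
  Lre_b IH (LK LD1_c13 LD2_c17 LD3_c8) (LK LD1_c7 LD2_c0 LD3_c7) Lrfl Lrfl
theorem f63024 : Led Lsl_bt (LP (LK LD1_c7 LD2_c47 LD3_c41)) = (LP (LK LD1_c14 LD2_c42 LD3_c34)) :=
  Lre_b IH (LK LD1_c7 LD2_c47 LD3_c41) (LK LD1_c14 LD2_c42 LD3_c34) Lrfl Lrfl
theorem f63025 : Led Lsl_df (LP (LK LD1_c13 LD2_c17 LD3_c8)) = (LP (LK LD1_c14 LD2_c42 LD3_c34)) :=
  Lgr Lrot12 (Lpr_bt (f63023 IH) (Lpr_dt (K24.f63018 IH) (Lpr_bt (f63024 IH) (Lpn (LP (LK LD1_c14 LD2_c42 LD3_c34))))))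
theorem f460995 : Led Lsl_af (LP (LK LD1_c13 LD2_c6 LD3_c39)) = (LP (LK LD1_c13 LD2_c17 LD3_c8)) :=
  Lgr Lrot117 (Lpr_dt (f103802 IH) (Lpr_at (f460989 IH) (Lpe (f63025 IH) (Lpn (LP (LK LD1_c13 LD2_c17 LD3_c8))))))
theorem f460997 : Led Lsl_at (LP (LK LD1_c13 LD2_c6 LD3_c39)) = (LP (LK LD1_c13 LD2_c17 LD3_c8)) :=
  Lgr Lrot100 (Lpr_af (f460995 IH) (Lpn (LP (LK LD1_c13 LD2_c17 LD3_c8))))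
theorem f103794 : Led Lsl_ft (LP (LK LD1_c6 LD2_c53 LD3_c58)) = (LP (LK LD1_c13 LD2_c6 LD3_c39)) :=
  Lre_f IH (LK LD1_c6 LD2_c53 LD3_c58) (LK LD1_c13 LD2_c6 LD3_c39) Lrfl Lrfl
theorem f461003 : Led Lsl_ff (LP (LK LD1_c7 LD2_c0 LD3_c22)) = (LP (LK LD1_c13 LD2_c17 LD3_c8)) :=
  Lgr Lrot30 (Lpr_at (f111466 IH) (Lpr_ft (f103794 IH) (Lpr_at (f460997 IH) (Lpn (LP (LK LD1_c13 LD2_c17 LD3_c8))))))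
theorem f466294 : Led Lsl_gt (LP (LK LD1_c13 LD2_c17 LD3_c8)) = (LP (LK LD1_c7 LD2_c4 LD3_c20)) :=
  Lgr Lrot5 (Lpe (f461003 IH) (Lpr_at (f111466 IH) (Lpr_gf (f466292 IH) (Lpn (LP (LK LD1_c7 LD2_c4 LD3_c20))))))
theorem f466200 : Led Lsl_bt (LP (LK LD1_c7 LD2_c4 LD3_c20)) = (LP (LK LD1_c3 LD2_c31 LD3_c18)) :=
  Lre_b IH (LK LD1_c7 LD2_c4 LD3_c20) (LK LD1_c3 LD2_c31 LD3_c18) Lrfl Lrfl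
theorem f466201 : Led Lsl_bt (LP (LK LD1_c3 LD2_c41 LD3_c6)) = (LP (LK LD1_c7 LD2_c22 LD3_c30)) :=
  Lre_b IH (LK LD1_c3 LD2_c41 LD3_c6) (LK LD1_c7 LD2_c22 LD3_c30) Lrfl Lrfl
theorem f466202 : Led Lsl_cf (LP (LK LD1_c7 LD2_c4 LD3_c20)) = (LP (LK LD1_c7 LD2_c22 LD3_c30)) :=
  Lgr Lrot97 (Lpr_bt (f466200 IH) (Lpr_ct (f455580 IH) (Lpr_bt (f466199 IH) (Lpr_ct (f466197 IH) (Lpr_bt (f466201 IH) (Lpn (LP (LK LD1_c7 LD2_c22 LD3_c30))))))))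
theorem f439145 : Led Lsl_bt (LP (LK LD1_c7 LD2_c22 LD3_c30)) = (LP (LK LD1_c3 LD2_c41 LD3_c6)) :=
  Lre_b IH (LK LD1_c7 LD2_c22 LD3_c30) (LK LD1_c3 LD2_c41 LD3_c6) Lrfl Lrfl
theorem f122512 : Led Lsl_ct (LP (LK LD1_c1 LD2_c47 LD3_c29)) = (LP (LK LD1_c0 LD2_c50 LD3_c32)) :=
  Lre_c IH (LK LD1_c1 LD2_c47 LD3_c29) (LK LD1_c0 LD2_c50 LD3_c32) Lrfl Lrfl
theorem f455646 : Led Lsl_ct (LP (LK LD1_c3 LD2_c31 LD3_c27)) = (LP (LK LD1_c1 LD2_c42 LD3_c20)) :=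
  Lre_c IH (LK LD1_c3 LD2_c31 LD3_c27) (LK LD1_c1 LD2_c42 LD3_c20) Lrfl Lrfl
theorem f455623 : Led Lsl_gt (LP (LK LD1_c1 LD2_c42 LD3_c17)) = (LP (LK LD1_c3 LD2_c31 LD3_c26)) :=
  Lre_g IH (LK LD1_c1 LD2_c42 LD3_c17) (LK LD1_c3 LD2_c31 LD3_c26) Lrfl Lrfl
theorem f459233 : Led Lsl_bt (LP (LK LD1_c7 LD2_c4 LD3_c31)) = (LP (LK LD1_c3 LD2_c31 LD3_c26)) :=
  Lre_b IH (LK LD1_c7 LD2_c4 LD3_c31) (LK LD1_c3 LD2_c31 LD3_c26) Lrfl Lrfl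
theorem f466304 : Led Lsl_cf (LP (LK LD1_c13 LD2_c17 LD3_c8)) = (LP (LK LD1_c7 LD2_c4 LD3_c31)) :=
  Lgr Lrot160 (Lpr_gt (f466294 IH) (Lpr_cf (f466202 IH) (Lpr_bt (f439145 IH) (Lpr_gt (f437771 IH) (Lpr_ct (f122512 IH) (Lpr_gt (f457152 IH) (Lpqs (f466161 IH) (Lpe (f455646 IH) (Lpr_bt (K24.f458241 IH) (Lpr_gt (f455623 IH) (Lpe (f459233 IH) (Lpn (LP (LK LD1_c7 LD2_c4 LD3_c31))))))))))))))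
theorem f116479 : Led Lsl_cf (LP (LK LD1_c3 LD2_c41 LD3_c14)) = (LP (LK LD1_c7 LD2_c0 LD3_c22)) :=
  Lgr Lrot11 (Lpr_ct (f116470 IH) (Lpn (LP (LK LD1_c7 LD2_c0 LD3_c22))))
theorem f466318 : Led Lsl_ft (LP (LK LD1_c3 LD2_c41 LD3_c14)) = (LP (LK LD1_c7 LD2_c4 LD3_c31)) :=
  Lgr Lrot4 (Lpr_cf (f116479 IH) (Lpr_ff (f461003 IH) (Lpr_cf (f466304 IH) (Lpn (LP (LK LD1_c7 LD2_c4 LD3_c31))))))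
theorem f466338 : Led Lsl_ff (LP (LK LD1_c3 LD2_c41 LD3_c14)) = (LP (LK LD1_c7 LD2_c4 LD3_c31)) :=
  Lgr Lrot3 (Lpr_ft (f466318 IH) (Lpn (LP (LK LD1_c7 LD2_c4 LD3_c31))))
theorem f116493 : Led Lsl_dt (LP (LK LD1_c3 LD2_c41 LD3_c14)) = (LP (LK LD1_c7 LD2_c22 LD3_c54)) :=
  Lre_d IH (LK LD1_c3 LD2_c41 LD3_c14) (LK LD1_c7 LD2_c22 LD3_c54) Lrfl Lrfl
theorem f466314 : Led Lsl_dt (LP (LK LD1_c13 LD2_c24 LD3_c49)) = (LP (LK LD1_c7 LD2_c4 LD3_c31)) :=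
  Lre_d IH (LK LD1_c13 LD2_c24 LD3_c49) (LK LD1_c7 LD2_c4 LD3_c31) Lrfl Lrfl
theorem f466352 : Led Lsl_ft (LP (LK LD1_c7 LD2_c22 LD3_c54)) = (LP (LK LD1_c13 LD2_c24 LD3_c49)) :=
  Lgr Lrot54 (Lpe (f116493 IH) (Lpr_ff (f466338 IH) (Lpe (f466314 IH) (Lpn (LP (LK LD1_c13 LD2_c24 LD3_c49))))))
theorem f466367 : Led Lsl_et (LP (LK LD1_c13 LD2_c57 LD3_c16)) = (LP (LK LD1_c7 LD2_c22 LD3_c54)) :=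
  Lre_e IH (LK LD1_c13 LD2_c57 LD3_c16) (LK LD1_c7 LD2_c22 LD3_c54) Lrfl Lrfl
theorem f466368 : Led Lsl_ft (LP (LK LD1_c23 LD2_c29 LD3_c7)) = (LP (LK LD1_c13 LD2_c57 LD3_c16)) :=
  Lre_f IH (LK LD1_c23 LD2_c29 LD3_c7) (LK LD1_c13 LD2_c57 LD3_c16) Lrfl Lrfl
theorem f466369 : Led Lsl_et (LP (LK LD1_c13 LD2_c24 LD3_c49)) = (LP (LK LD1_c22 LD2_c43 LD3_c10)) :=
  Lre_e IH (LK LD1_c13 LD2_c24 LD3_c49) (LK LD1_c22 LD2_c43 LD3_c10) Lrfl Lrfl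
theorem f466370 : Led Lsl_ft (LP (LK LD1_c22 LD2_c43 LD3_c10)) = (LP (LK LD1_c30 LD2_c40 LD3_c29)) :=
  Lre_f IH (LK LD1_c22 LD2_c43 LD3_c10) (LK LD1_c30 LD2_c40 LD3_c29) Lrfl Lrfl
theorem f466371 : Led Lsl_ef (LP (LK LD1_c23 LD2_c29 LD3_c7)) = (LP (LK LD1_c30 LD2_c40 LD3_c29)) :=
  Lgr Lrot21 (Lpr_ft (f466368 IH) (Lpr_et (f466367 IH) (Lpr_ft (f466352 IH) (Lpr_et (f466369 IH) (Lpr_ft (f466370 IH) (Lpn (LP (LK LD1_c30 LD2_c40 LD3_c29))))))))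
theorem f466384 : Led Lsl_et (LP (LK LD1_c23 LD2_c29 LD3_c7)) = (LP (LK LD1_c30 LD2_c40 LD3_c29)) :=
  Lgr Lrot87 (Lpr_ef (f466371 IH) (Lpn (LP (LK LD1_c30 LD2_c40 LD3_c29))))
theorem f123848 : Led Lsl_dt (LP (LK LD1_c13 LD2_c57 LD3_c17)) = (LP (LK LD1_c23 LD2_c29 LD3_c7)) :=
  Lre_d IH (LK LD1_c13 LD2_c57 LD3_c17) (LK LD1_c23 LD2_c29 LD3_c7) Lrfl Lrfl
theorem f123849 : Led Lsl_dt (LP (LK LD1_c23 LD2_c41 LD3_c0)) = (LP (LK LD1_c14 LD2_c6 LD3_c54)) :=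
  Lre_d IH (LK LD1_c23 LD2_c41 LD3_c0) (LK LD1_c14 LD2_c6 LD3_c54) Lrfl Lrfl
theorem f123850 : Led Lsl_et (LP (LK LD1_c31 LD2_c10 LD3_c46)) = (LP (LK LD1_c23 LD2_c41 LD3_c0)) :=
  Lre_e IH (LK LD1_c31 LD2_c10 LD3_c46) (LK LD1_c23 LD2_c41 LD3_c0) Lrfl Lrfl
theorem f466389 : Led Lsl_df (LP (LK LD1_c31 LD2_c10 LD3_c46)) = (LP (LK LD1_c30 LD2_c40 LD3_c29)) :=
  Lgr Lrot70 (Lpr_et (f123850 IH) (Lpr_dt (f123849 IH) (Lpe (K5.f123710 IH) (Lpr_dt (f123848 IH) (Lpr_et (f466384 IH) (Lpn (LP (LK LD1_c30 LD2_c40 LD3_c29))))))))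
theorem f466399 : Led Lsl_ft (LP (LK LD1_c31 LD2_c10 LD3_c46)) = (LP (LK LD1_c23 LD2_c41 LD3_c22)) :=
  Lre_f IH (LK LD1_c31 LD2_c10 LD3_c46) (LK LD1_c23 LD2_c41 LD3_c22) Lrfl Lrfl
theorem f466400 : Led Lsl_dt (LP (LK LD1_c23 LD2_c41 LD3_c22)) = (LP (LK LD1_c22 LD2_c43 LD3_c10)) :=
  Lgr Lrot60 (Lpe (f466399 IH) (Lpr_df (f466389 IH) (Lpe (f466370 IH) (Lpn (LP (LK LD1_c22 LD2_c43 LD3_c10))))))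
theorem f466407 : Led Lsl_df (LP (LK LD1_c23 LD2_c41 LD3_c22)) = (LP (LK LD1_c22 LD2_c43 LD3_c10)) :=
  Lgr Lrot38 (Lpr_dt (f466400 IH) (Lpn (LP (LK LD1_c22 LD2_c43 LD3_c10))))
theorem f146965 : Led Lsl_bt (LP (LK LD1_c23 LD2_c41 LD3_c22)) = (LP (LK LD1_c14 LD2_c7 LD3_c18)) :=
  Lre_b IH (LK LD1_c23 LD2_c41 LD3_c22) (LK LD1_c14 LD2_c7 LD3_c18) Lrfl Lrfl
theorem f466420 : Led Lsl_bt (LP (LK LD1_c13 LD2_c24 LD3_c51)) = (LP (LK LD1_c22 LD2_c43 LD3_c10)) :=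
  Lre_b IH (LK LD1_c13 LD2_c24 LD3_c51) (LK LD1_c22 LD2_c43 LD3_c10) Lrfl Lrfl
theorem f466421 : Led Lsl_dt (LP (LK LD1_c14 LD2_c7 LD3_c18)) = (LP (LK LD1_c13 LD2_c24 LD3_c51)) :=
  Lgr Lrot79 (Lpe (f146965 IH) (Lpr_df (f466407 IH) (Lpe (f466420 IH) (Lpn (LP (LK LD1_c13 LD2_c24 LD3_c51))))))
theorem f130744 : Led Lsl_dt (LP (LK LD1_c3 LD2_c43 LD3_c61)) = (LP (LK LD1_c7 LD2_c28 LD3_c50)) :=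
  Lre_d IH (LK LD1_c3 LD2_c43 LD3_c61) (LK LD1_c7 LD2_c28 LD3_c50) Lrfl Lrfl
theorem f466425 : Led Lsl_et (LP (LK LD1_c13 LD2_c24 LD3_c51)) = (LP (LK LD1_c7 LD2_c4 LD3_c33)) :=
  Lre_e IH (LK LD1_c13 LD2_c24 LD3_c51) (LK LD1_c7 LD2_c4 LD3_c33) Lrfl Lrfl
theorem f459231 : Led Lsl_dt (LP (LK LD1_c7 LD2_c4 LD3_c33)) = (LP (LK LD1_c3 LD2_c31 LD3_c26)) :=
  Lre_d IH (LK LD1_c7 LD2_c4 LD3_c33) (LK LD1_c3 LD2_c31 LD3_c26) Lrfl Lrfl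
theorem f466426 : Led Lsl_ef (LP (LK LD1_c3 LD2_c43 LD3_c61)) = (LP (LK LD1_c3 LD2_c31 LD3_c26)) :=
  Lgr Lrot73 (Lpr_dt (f130744 IH) (Lpr_et (K8.f146958 IH) (Lpr_dt (f466421 IH) (Lpr_et (f466425 IH) (Lpr_dt (f459231 IH) (Lpn (LP (LK LD1_c3 LD2_c31 LD3_c26))))))))
theorem f466442 : Led Lsl_et (LP (LK LD1_c3 LD2_c43 LD3_c61)) = (LP (LK LD1_c3 LD2_c31 LD3_c26)) :=
  Lgr Lrot87 (Lpr_ef (f466426 IH) (Lpn (LP (LK LD1_c3 LD2_c31 LD3_c26))))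
theorem f455624 : Led Lsl_ct (LP (LK LD1_c3 LD2_c31 LD3_c26)) = (LP (LK LD1_c7 LD2_c4 LD3_c32)) :=
  Lre_c IH (LK LD1_c3 LD2_c31 LD3_c26) (LK LD1_c7 LD2_c4 LD3_c32) Lrfl Lrfl
theorem f466444 : Led Lsl_ef (LP (LK LD1_c6 LD2_c53 LD3_c43)) = (LP (LK LD1_c7 LD2_c4 LD3_c32)) :=
  Lgr Lrot28 (Lpe (K24.f130726 IH) (Lpr_et (f466442 IH) (Lpr_ct (f455624 IH) (Lpn (LP (LK LD1_c7 LD2_c4 LD3_c32))))))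
theorem f116047 : Led Lsl_ft (LP (LK LD1_c6 LD2_c53 LD3_c43)) = (LP (LK LD1_c3 LD2_c25 LD3_c56)) :=
  Lre_f IH (LK LD1_c6 LD2_c53 LD3_c43) (LK LD1_c3 LD2_c25 LD3_c56) Lrfl Lrfl
theorem f116013 : Led Lsl_et (LP (LK LD1_c3 LD2_c25 LD3_c56)) = (LP (LK LD1_c1 LD2_c39 LD3_c36)) :=
  Lre_e IH (LK LD1_c3 LD2_c25 LD3_c56) (LK LD1_c1 LD2_c39 LD3_c36) Lrfl Lrfl
theorem f108771 : Led Lsl_et (LP (LK LD1_c1 LD2_c44 LD3_c37)) = (LP (LK LD1_c3 LD2_c35 LD3_c31)) :=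
  Lre_e IH (LK LD1_c1 LD2_c44 LD3_c37) (LK LD1_c3 LD2_c35 LD3_c31) Lrfl Lrfl
theorem f466448 : Led Lsl_ft (LP (LK LD1_c3 LD2_c35 LD3_c31)) = (LP (LK LD1_c7 LD2_c4 LD3_c32)) :=
  Lgr Lrot86 (Lpe (f108771 IH) (Lpe (K4.f116009 IH) (Lpe (f116013 IH) (Lpe (f116047 IH) (Lpr_ef (f466444 IH) (Lpn (LP (LK LD1_c7 LD2_c4 LD3_c32))))))))
theorem f18827 : Led Lsl_ct (LP (LK LD1_c3 LD2_c30 LD3_c20)) = (LP (LK LD1_c1 LD2_c41 LD3_c50)) :=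
  Lre_c IH (LK LD1_c3 LD2_c30 LD3_c20) (LK LD1_c1 LD2_c41 LD3_c50) Lrfl Lrfl
theorem f18830 : Led Lsl_bt (LP (LK LD1_c3 LD2_c30 LD3_c20)) = (LP (LK LD1_c7 LD2_c2 LD3_c30)) :=
  Lre_b IH (LK LD1_c3 LD2_c30 LD3_c20) (LK LD1_c7 LD2_c2 LD3_c30) Lrfl Lrfl
theorem f109308 : Led Lsl_gt (LP (LK LD1_c3 LD2_c35 LD3_c31)) = (LP (LK LD1_c7 LD2_c2 LD3_c30)) :=
  Lgr Lrot164 (Lpe (K3.f108769 IH) (Lpr_ct (K5.f109303 IH) (Lpe (K5.f64649 IH) (Lpe (K5.f18831 IH) (Lpe (K1.f18816 IH) (Lpe (K3.f18785 IH) (Lpr_ct (K24.f18804 IH) (Lpe (K1.f18826 IH) (Lpe (f18827 IH) (Lpr_bt (f18830 IH) (Lpn (LP (LK LD1_c7 LD2_c2 LD3_c30)))))))))))))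
theorem f466450 : Led Lsl_af (LP (LK LD1_c3 LD2_c35 LD3_c34)) = (LP (LK LD1_c7 LD2_c4 LD3_c32)) :=
  Lgr Lrot45 (Lpr_ft (f106208 IH) (Lpr_at (K3.f106213 IH) (Lpr_ft (f466448 IH) (Lpn (LP (LK LD1_c7 LD2_c4 LD3_c32))))))
theorem f466458 : Led Lsl_gt (LP (LK LD1_c7 LD2_c2 LD3_c30)) = (LP (LK LD1_c3 LD2_c35 LD3_c34)) :=
  Lgr Lrot46 (Lpe (f109308 IH) (Lpr_ft (f466448 IH) (Lpe (f466450 IH) (Lpn (LP (LK LD1_c3 LD2_c35 LD3_c34))))))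
theorem f18828 : Led Lsl_bt (LP (LK LD1_c1 LD2_c41 LD3_c59)) = (LP (LK LD1_c0 LD2_c47 LD3_c29)) :=
  Lre_b IH (LK LD1_c1 LD2_c41 LD3_c59) (LK LD1_c0 LD2_c47 LD3_c29) Lrfl Lrfl
theorem f18829 : Led Lsl_ct (LP (LK LD1_c1 LD2_c41 LD3_c59)) = (LP (LK LD1_c3 LD2_c30 LD3_c52)) :=
  Lre_c IH (LK LD1_c1 LD2_c41 LD3_c59) (LK LD1_c3 LD2_c30 LD3_c52) Lrfl Lrfl
theorem f108293 : Led Lsl_bt (LP (LK LD1_c1 LD2_c44 LD3_c47)) = (LP (LK LD1_c3 LD2_c35 LD3_c34)) :=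
  Lre_b IH (LK LD1_c1 LD2_c44 LD3_c47) (LK LD1_c3 LD2_c35 LD3_c34) Lrfl Lrfl
theorem f108257 : Led Lsl_ct (LP (LK LD1_c1 LD2_c44 LD3_c47)) = (LP (LK LD1_c3 LD2_c35 LD3_c51)) :=
  Lre_c IH (LK LD1_c1 LD2_c44 LD3_c47) (LK LD1_c3 LD2_c35 LD3_c51) Lrfl Lrfl
theorem f466464 : Led Lsl_gf (LP (LK LD1_c3 LD2_c30 LD3_c52)) = (LP (LK LD1_c3 LD2_c35 LD3_c51)) :=
  Lgr Lrot126 (Lpe (f18829 IH) (Lpr_bt (f18828 IH) (Lpr_gt (K1.f62683 IH) (Lpr_ct (K24.f64988 IH) (Lpr_gt (K1.f64929 IH) (Lpe (f18827 IH) (Lpr_bt (f18830 IH) (Lpr_gt (f466458 IH) (Lpe (f108293 IH) (Lpr_ct (f108257 IH) (Lpn (LP (LK LD1_c3 LD2_c35 LD3_c51)))))))))))))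
theorem f466466 : Led Lsl_gt (LP (LK LD1_c3 LD2_c30 LD3_c52)) = (LP (LK LD1_c1 LD2_c43 LD3_c1)) :=
  Lgr Lrot46 (Lpr_gf (f466464 IH) (Lpr_ft (K3.f108250 IH) (Lpr_at (K3.f108545 IH) (Lpn (LP (LK LD1_c1 LD2_c43 LD3_c1))))))
theorem f64670 : Led Lsl_gt (LP (LK LD1_c3 LD2_c30 LD3_c50)) = (LP (LK LD1_c1 LD2_c41 LD3_c59)) :=
  Lre_g IH (LK LD1_c3 LD2_c30 LD3_c50) (LK LD1_c1 LD2_c41 LD3_c59) Lrfl Lrfl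
theorem f92398 : Led Lsl_ct (LP (LK LD1_c0 LD2_c48 LD3_c10)) = (LP (LK LD1_c1 LD2_c43 LD3_c1)) :=
  Lre_c IH (LK LD1_c0 LD2_c48 LD3_c10) (LK LD1_c1 LD2_c43 LD3_c1) Lrfl Lrfl
theorem f14864 : Led Lsl_ct (LP (LK LD1_c1 LD2_c50 LD3_c60)) = (LP (LK LD1_c0 LD2_c52 LD3_c24)) :=
  Lre_c IH (LK LD1_c1 LD2_c50 LD3_c60) (LK LD1_c0 LD2_c52 LD3_c24) Lrfl Lrfl
theorem f18801 : Led Lsl_ct (LP (LK LD1_c3 LD2_c29 LD3_c9)) = (LP (LK LD1_c1 LD2_c41 LD3_c20)) :=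
  Lre_c IH (LK LD1_c3 LD2_c29 LD3_c9) (LK LD1_c1 LD2_c41 LD3_c20) Lrfl Lrfl
theorem f464836 : Led Lsl_gt (LP (LK LD1_c1 LD2_c42 LD3_c59)) = (LP (LK LD1_c3 LD2_c30 LD3_c20)) :=
  Lgr Lrot9 (Lpr_df (f440179 IH) (Lpr_gt (f464834 IH) (Lpr_ct (f88015 IH) (Lpr_gt (K3.f14884 IH) (Lpr_ct (f14864 IH) (Lpe (K24.f18806 IH) (Lpe (f18801 IH) (Lpe (K1.f18826 IH) (Lpe (f18827 IH) (Lpn (LP (LK LD1_c3 LD2_c30 LD3_c20))))))))))))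
theorem f466492 : Led Lsl_bt (LP (LK LD1_c7 LD2_c2 LD3_c30)) = (LP (LK LD1_c3 LD2_c30 LD3_c20)) :=
  Lre_b IH (LK LD1_c7 LD2_c2 LD3_c30) (LK LD1_c3 LD2_c30 LD3_c20) Lrfl Lrfl
theorem f452015 : Led Lsl_ct (LP (LK LD1_c1 LD2_c54 LD3_c47)) = (LP (LK LD1_c0 LD2_c54 LD3_c4)) :=
  Lre_c IH (LK LD1_c1 LD2_c54 LD3_c47) (LK LD1_c0 LD2_c54 LD3_c4) Lrfl Lrfl
theorem f459280 : Led Lsl_ct (LP (LK LD1_c3 LD2_c31 LD3_c22)) = (LP (LK LD1_c1 LD2_c42 LD3_c15)) :=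
  Lre_c IH (LK LD1_c3 LD2_c31 LD3_c22) (LK LD1_c1 LD2_c42 LD3_c15) Lrfl Lrfl
theorem f159355 : Led Lsl_ct (LP (LK LD1_c7 LD2_c21 LD3_c22)) = (LP (LK LD1_c3 LD2_c40 LD3_c35)) :=
  Lre_c IH (LK LD1_c7 LD2_c21 LD3_c22) (LK LD1_c3 LD2_c40 LD3_c35) Lrfl Lrfl
theorem f459284 : Led Lsl_dt (LP (LK LD1_c3 LD2_c31 LD3_c22)) = (LP (LK LD1_c7 LD2_c4 LD3_c26)) :=
  Lre_d IH (LK LD1_c3 LD2_c31 LD3_c22) (LK LD1_c7 LD2_c4 LD3_c26) Lrfl Lrfl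
theorem f463278 : Led Lsl_ct (LP (LK LD1_c7 LD2_c4 LD3_c26)) = (LP (LK LD1_c13 LD2_c24 LD3_c37)) :=
  Lre_c IH (LK LD1_c7 LD2_c4 LD3_c26) (LK LD1_c13 LD2_c24 LD3_c37) Lrfl Lrfl
theorem f463279 : Led Lsl_df (LP (LK LD1_c7 LD2_c21 LD3_c22)) = (LP (LK LD1_c13 LD2_c24 LD3_c37)) :=
  Lgr Lrot106 (Lpr_ct (f159355 IH) (Lpr_dt (K8.f132098 IH) (Lpr_ct (f132101 IH) (Lpe (f159495 IH) (Lpr_ct (K4.f122348 IH) (Lpe (f122354 IH) (Lpr_ff (f463265 IH) (Lpr_dt (f459284 IH) (Lpr_ct (f463278 IH) (Lpn (LP (LK LD1_c13 LD2_c24 LD3_c37))))))))))))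
theorem f122369 : Led Lsl_ct (LP (LK LD1_c3 LD2_c43 LD3_c53)) = (LP (LK LD1_c7 LD2_c28 LD3_c26)) :=
  Lre_c IH (LK LD1_c3 LD2_c43 LD3_c53) (LK LD1_c7 LD2_c28 LD3_c26) Lrfl Lrfl
theorem f122410 : Led Lsl_ct (LP (LK LD1_c23 LD2_c26 LD3_c49)) = (LP (LK LD1_c13 LD2_c55 LD3_c54)) :=
  Lre_c IH (LK LD1_c23 LD2_c26 LD3_c49) (LK LD1_c13 LD2_c55 LD3_c54) Lrfl Lrfl
theorem f122400 : Led Lsl_ct (LP (LK LD1_c14 LD2_c6 LD3_c20)) = (LP (LK LD1_c23 LD2_c40 LD3_c17)) :=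
  Lre_c IH (LK LD1_c14 LD2_c6 LD3_c20) (LK LD1_c23 LD2_c40 LD3_c17) Lrfl Lrfl
theorem f122411 : Led Lsl_af (LP (LK LD1_c23 LD2_c26 LD3_c49)) = (LP (LK LD1_c23 LD2_c40 LD3_c17)) :=
  Lgr Lrot68 (Lpr_ct (f122410 IH) (Lpr_at (K4.f122392 IH) (Lpr_ct (f122400 IH) (Lpn (LP (LK LD1_c23 LD2_c40 LD3_c17))))))
theorem f440379 : Led Lsl_at (LP (LK LD1_c23 LD2_c26 LD3_c49)) = (LP (LK LD1_c23 LD2_c40 LD3_c17)) :=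
  Lgr Lrot100 (Lpr_af (f122411 IH) (Lpn (LP (LK LD1_c23 LD2_c40 LD3_c17))))
theorem f440384 : Led Lsl_ft (LP (LK LD1_c13 LD2_c55 LD3_c53)) = (LP (LK LD1_c23 LD2_c26 LD3_c49)) :=
  Lre_f IH (LK LD1_c13 LD2_c55 LD3_c53) (LK LD1_c23 LD2_c26 LD3_c49) Lrfl Lrfl
theorem f440385 : Led Lsl_ft (LP (LK LD1_c23 LD2_c40 LD3_c17)) = (LP (LK LD1_c14 LD2_c6 LD3_c19)) :=
  Lre_f IH (LK LD1_c23 LD2_c40 LD3_c17) (LK LD1_c14 LD2_c6 LD3_c19) Lrfl Lrfl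
theorem f440386 : Led Lsl_af (LP (LK LD1_c13 LD2_c55 LD3_c53)) = (LP (LK LD1_c14 LD2_c6 LD3_c19)) :=
  Lgr Lrot45 (Lpr_ft (f440384 IH) (Lpr_at (f440379 IH) (Lpr_ft (f440385 IH) (Lpn (LP (LK LD1_c14 LD2_c6 LD3_c19))))))
theorem f440397 : Led Lsl_et (LP (LK LD1_c13 LD2_c55 LD3_c53)) = (LP (LK LD1_c7 LD2_c22 LD3_c8)) :=
  Lre_e IH (LK LD1_c13 LD2_c55 LD3_c53) (LK LD1_c7 LD2_c22 LD3_c8) Lrfl Lrfl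
theorem f440398 : Led Lsl_et (LP (LK LD1_c7 LD2_c28 LD3_c26)) = (LP (LK LD1_c14 LD2_c6 LD3_c19)) :=
  Lre_e IH (LK LD1_c7 LD2_c28 LD3_c26) (LK LD1_c14 LD2_c6 LD3_c19) Lrfl Lrfl
theorem f440399 : Led Lsl_at (LP (LK LD1_c7 LD2_c22 LD3_c8)) = (LP (LK LD1_c7 LD2_c28 LD3_c26)) :=
  Lgr Lrot80 (Lpe (f440397 IH) (Lpr_af (f440386 IH) (Lpe (f440398 IH) (Lpn (LP (LK LD1_c7 LD2_c28 LD3_c26))))))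
theorem f463292 : Led Lsl_ff (LP (LK LD1_c7 LD2_c22 LD3_c8)) = (LP (LK LD1_c13 LD2_c24 LD3_c37)) :=
  Lgr Lrot103 (Lpr_at (f440399 IH) (Lpe (f122369 IH) (Lpe (f116548 IH) (Lpe (K4.f122348 IH) (Lpr_df (f159495 IH) (Lpe (f132101 IH) (Lpe (K8.f132098 IH) (Lpe (f159355 IH) (Lpr_df (f463279 IH) (Lpn (LP (LK LD1_c13 LD2_c24 LD3_c37))))))))))))
theorem f440443 : Led Lsl_et (LP (LK LD1_c7 LD2_c22 LD3_c8)) = (LP (LK LD1_c13 LD2_c55 LD3_c53)) :=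
  Lre_e IH (LK LD1_c7 LD2_c22 LD3_c8) (LK LD1_c13 LD2_c55 LD3_c53) Lrfl Lrfl
theorem f463286 : Led Lsl_et (LP (LK LD1_c22 LD2_c42 LD3_c52)) = (LP (LK LD1_c13 LD2_c24 LD3_c37)) :=
  Lre_e IH (LK LD1_c22 LD2_c42 LD3_c52) (LK LD1_c13 LD2_c24 LD3_c37) Lrfl Lrfl
theorem f463297 : Led Lsl_ft (LP (LK LD1_c30 LD2_c40 LD3_c6)) = (LP (LK LD1_c22 LD2_c42 LD3_c52)) :=
  Lre_f IH (LK LD1_c30 LD2_c40 LD3_c6) (LK LD1_c22 LD2_c42 LD3_c52) Lrfl Lrfl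
theorem f463298 : Led Lsl_et (LP (LK LD1_c23 LD2_c26 LD3_c49)) = (LP (LK LD1_c30 LD2_c40 LD3_c6)) :=
  Lgr Lrot69 (Lpe (f440384 IH) (Lpe (f440443 IH) (Lpr_ff (f463292 IH) (Lpe (f463286 IH) (Lpe (f463297 IH) (Lpn (LP (LK LD1_c30 LD2_c40 LD3_c6))))))))
theorem f463303 : Led Lsl_ef (LP (LK LD1_c23 LD2_c26 LD3_c49)) = (LP (LK LD1_c30 LD2_c40 LD3_c6)) :=
  Lgr Lrot88 (Lpr_et (f463298 IH) (Lpn (LP (LK LD1_c30 LD2_c40 LD3_c6))))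
theorem f463305 : Led Lsl_ct (LP (LK LD1_c22 LD2_c42 LD3_c55)) = (LP (LK LD1_c30 LD2_c40 LD3_c6)) :=
  Lre_c IH (LK LD1_c22 LD2_c42 LD3_c55) (LK LD1_c30 LD2_c40 LD3_c6) Lrfl Lrfl
theorem f463306 : Led Lsl_et (LP (LK LD1_c13 LD2_c55 LD3_c54)) = (LP (LK LD1_c22 LD2_c42 LD3_c55)) :=
  Lgr Lrot158 (Lpe (f122410 IH) (Lpr_ef (f463303 IH) (Lpe (f463305 IH) (Lpn (LP (LK LD1_c22 LD2_c42 LD3_c55))))))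
theorem f440448 : Led Lsl_et (LP (LK LD1_c3 LD2_c40 LD3_c56)) = (LP (LK LD1_c7 LD2_c21 LD3_c61)) :=
  Lre_e IH (LK LD1_c3 LD2_c40 LD3_c56) (LK LD1_c7 LD2_c21 LD3_c61) Lrfl Lrfl
theorem f463314 : Led Lsl_ft (LP (LK LD1_c22 LD2_c42 LD3_c55)) = (LP (LK LD1_c13 LD2_c24 LD3_c38)) :=
  Lre_f IH (LK LD1_c22 LD2_c42 LD3_c55) (LK LD1_c13 LD2_c24 LD3_c38) Lrfl Lrfl
theorem f463315 : Led Lsl_et (LP (LK LD1_c13 LD2_c24 LD3_c38)) = (LP (LK LD1_c7 LD2_c4 LD3_c26)) :=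
  Lre_e IH (LK LD1_c13 LD2_c24 LD3_c38) (LK LD1_c7 LD2_c4 LD3_c26) Lrfl Lrfl
theorem f463316 : Led Lsl_ff (LP (LK LD1_c3 LD2_c40 LD3_c56)) = (LP (LK LD1_c7 LD2_c4 LD3_c26)) :=
  Lgr Lrot72 (Lpr_et (f440448 IH) (Lpr_ft (K4.f122390 IH) (Lpr_et (f463306 IH) (Lpr_ft (f463314 IH) (Lpr_et (f463315 IH) (Lpn (LP (LK LD1_c7 LD2_c4 LD3_c26))))))))
theorem f463321 : Led Lsl_gf (LP (LK LD1_c7 LD2_c28 LD3_c25)) = (LP (LK LD1_c7 LD2_c4 LD3_c26)) :=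
  Lgr Lrot47 (Lpr_gt (f122376 IH) (Lpe (K4.f122359 IH) (Lpr_ff (f463316 IH) (Lpn (LP (LK LD1_c7 LD2_c4 LD3_c26))))))
theorem f462186 : Led Lsl_et (LP (LK LD1_c3 LD2_c42 LD3_c44)) = (LP (LK LD1_c1 LD2_c54 LD3_c59)) :=
  Lgr Lrot69 (Lpe (f159520 IH) (Lpe (f159519 IH) (Lpe (K8.f159511 IH) (Lpe (f107319 IH) (Lpr_ff (f462179 IH) (Lpn (LP (LK LD1_c1 LD2_c54 LD3_c59))))))))
theorem f203837 : Led Lsl_dt (LP (LK LD1_c3 LD2_c42 LD3_c44)) = (LP (LK LD1_c7 LD2_c26 LD3_c6)) :=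
  Lre_d IH (LK LD1_c3 LD2_c42 LD3_c44) (LK LD1_c7 LD2_c26 LD3_c6) Lrfl Lrfl
theorem f12397 : Led Lsl_gt (LP (LK LD1_c7 LD2_c20 LD3_c41)) = (LP (LK LD1_c3 LD2_c40 LD3_c14)) :=
  Lre_g IH (LK LD1_c7 LD2_c20 LD3_c41) (LK LD1_c3 LD2_c40 LD3_c14) Lrfl Lrfl
theorem f203832 : Led Lsl_gt (LP (LK LD1_c7 LD2_c26 LD3_c6)) = (LP (LK LD1_c7 LD2_c20 LD3_c41)) :=
  Lgr Lrot5 (Lpr_ft (f203828 IH) (Lpr_at (f203814 IH) (Lpe (f12397 IH) (Lpn (LP (LK LD1_c7 LD2_c20 LD3_c41))))))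
theorem f122246 : Led Lsl_et (LP (LK LD1_c0 LD2_c51 LD3_c16)) = (LP (LK LD1_c1 LD2_c48 LD3_c61)) :=
  Lre_e IH (LK LD1_c0 LD2_c51 LD3_c16) (LK LD1_c1 LD2_c48 LD3_c61) Lrfl Lrfl
theorem f132011 : Led Lsl_gt (LP (LK LD1_c1 LD2_c48 LD3_c61)) = (LP (LK LD1_c3 LD2_c43 LD3_c51)) :=
  Lre_g IH (LK LD1_c1 LD2_c48 LD3_c61) (LK LD1_c3 LD2_c43 LD3_c51) Lrfl Lrfl
theorem f132014 : Led Lsl_et (LP (LK LD1_c7 LD2_c28 LD3_c20)) = (LP (LK LD1_c3 LD2_c43 LD3_c51)) :=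
  Lre_e IH (LK LD1_c7 LD2_c28 LD3_c20) (LK LD1_c3 LD2_c43 LD3_c51) Lrfl Lrfl
theorem f132015 : Led Lsl_et (LP (LK LD1_c1 LD2_c47 LD3_c3)) = (LP (LK LD1_c0 LD2_c50 LD3_c18)) :=
  Lre_e IH (LK LD1_c1 LD2_c47 LD3_c3) (LK LD1_c0 LD2_c50 LD3_c18) Lrfl Lrfl
theorem f132016 : Led Lsl_dt (LP (LK LD1_c1 LD2_c47 LD3_c3)) = (LP (LK LD1_c3 LD2_c40 LD3_c14)) :=
  Lre_d IH (LK LD1_c1 LD2_c47 LD3_c3) (LK LD1_c3 LD2_c40 LD3_c14) Lrfl Lrfl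
theorem f132017 : Led Lsl_dt (LP (LK LD1_c7 LD2_c28 LD3_c20)) = (LP (LK LD1_c7 LD2_c20 LD3_c41)) :=
  Lgr Lrot136 (Lpr_et (f132014 IH) (Lpe (f132011 IH) (Lpe (f122246 IH) (Lpr_dt (K5.f116533 IH) (Lpr_gf (K5.f132005 IH) (Lpe (K5.f91719 IH) (Lpr_gf (K6.f90062 IH) (Lpe (f132015 IH) (Lpr_dt (f132016 IH) (Lpe (f12397 IH) (Lpn (LP (LK LD1_c7 LD2_c20 LD3_c41)))))))))))))
theorem f463326 : Led Lsl_gt (LP (LK LD1_c3 LD2_c43 LD3_c51)) = (LP (LK LD1_c3 LD2_c31 LD3_c22)) :=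
  Lgr Lrot137 (Lpe (f132014 IH) (Lpr_dt (f132017 IH) (Lpe (f203832 IH) (Lpe (f203837 IH) (Lpr_et (f462186 IH) (Lpr_gf (f462652 IH) (Lpe (f462795 IH) (Lpr_dt (f462788 IH) (Lpr_gf (f463321 IH) (Lpe (f459284 IH) (Lpn (LP (LK LD1_c3 LD2_c31 LD3_c22)))))))))))))
theorem f128085 : Led Lsl_gt (LP (LK LD1_c3 LD2_c25 LD3_c54)) = (LP (LK LD1_c3 LD2_c51 LD3_c57)) :=
  Lgr Lrot164 (Lpr_bf (K5.f121211 IH) (Lpr_ct (K5.f128079 IH) (Lpe (K5.f87982 IH) (Lpe (K5.f64663 IH) (Lpe (K5.f64662 IH) (Lpe (f11175 IH) (Lpr_ct (f14863 IH) (Lpe (K3.f14884 IH) (Lpe (f88015 IH) (Lpr_bt (f88016 IH) (Lpn (LP (LK LD1_c3 LD2_c51 LD3_c57)))))))))))))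
theorem f464782 : Led Lsl_cf (LP (LK LD1_c3 LD2_c43 LD3_c51)) = (LP (LK LD1_c7 LD2_c2 LD3_c30)) :=
  Lgr Lrot169 (Lpr_gt (f463326 IH) (Lpr_ct (f459280 IH) (Lpq (f463258 IH) (Lpr_df (f459388 IH) (Lpqs (f462401 IH) (Lpe (f452015 IH) (Lpe (f462785 IH) (Lpr_cf (f464713 IH) (Lpe (f128085 IH) (Lpr_df (K5.f128065 IH) (Lpr_gt (f109308 IH) (Lpn (LP (LK LD1_c7 LD2_c2 LD3_c30))))))))))))))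
theorem f466493 : Led Lsl_bf (LP (LK LD1_c3 LD2_c30 LD3_c50)) = (LP (LK LD1_c1 LD2_c42 LD3_c15)) :=
  Lgr Lrot165 (Lpr_gt (f64670 IH) (Lpr_ct (f18829 IH) (Lpr_gt (f466466 IH) (Lpe (f92398 IH) (Lpr_bt (K4.f92412 IH) (Lpr_gt (f464836 IH) (Lpe (f466492 IH) (Lpe (f464782 IH) (Lpr_gt (f463326 IH) (Lpe (f455652 IH) (Lpn (LP (LK LD1_c1 LD2_c42 LD3_c15)))))))))))))
theorem f466552 : Led Lsl_ft (LP (LK LD1_c3 LD2_c30 LD3_c50)) = (LP (LK LD1_c1 LD2_c42 LD3_c60)) :=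
  Lgr Lrot75 (Lpr_bf (f466493 IH) (Lpq (f463258 IH) (Lpe (K24.f457148 IH) (Lpr_bf (f128303 IH) (Lpn (LP (LK LD1_c1 LD2_c42 LD3_c60)))))))
theorem f466566 : Led Lsl_gt (LP (LK LD1_c1 LD2_c41 LD3_c59)) = (LP (LK LD1_c1 LD2_c44 LD3_c41)) :=
  Lgr Lrot46 (Lpe (f64670 IH) (Lpr_ft (f466552 IH) (Lpe (K5.f128298 IH) (Lpn (LP (LK LD1_c1 LD2_c44 LD3_c41))))))
theorem f466476 : Led Lsl_dt (LP (LK LD1_c3 LD2_c30 LD3_c53)) = (LP (LK LD1_c1 LD2_c41 LD3_c59)) :=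
  Lre_d IH (LK LD1_c3 LD2_c30 LD3_c53) (LK LD1_c1 LD2_c41 LD3_c59) Lrfl Lrfl
theorem f90097 : Led Lsl_gt (LP (LK LD1_c1 LD2_c44 LD3_c53)) = (LP (LK LD1_c3 LD2_c35 LD3_c61)) :=
  Lre_g IH (LK LD1_c1 LD2_c44 LD3_c53) (LK LD1_c3 LD2_c35 LD3_c61) Lrfl Lrfl
theorem f466574 : Led Lsl_et (LP (LK LD1_c3 LD2_c30 LD3_c53)) = (LP (LK LD1_c3 LD2_c35 LD3_c61)) :=
  Lgr Lrot122 (Lpr_dt (f466476 IH) (Lpr_gt (f466566 IH) (Lpr_df (f106121 IH) (Lpr_et (K4.f5749 IH) (Lpr_gt (K3.f92642 IH) (Lpr_dt (K2.f17498 IH) (Lpe (K2.f90075 IH) (Lpe (K4.f10762 IH) (Lpr_et (K5.f90096 IH) (Lpr_gt (f90097 IH) (Lpn (LP (LK LD1_c3 LD2_c35 LD3_c61)))))))))))))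
theorem f466473 : Led Lsl_ct (LP (LK LD1_c7 LD2_c3 LD3_c44)) = (LP (LK LD1_c3 LD2_c30 LD3_c53)) :=
  Lre_c IH (LK LD1_c7 LD2_c3 LD3_c44) (LK LD1_c3 LD2_c30 LD3_c53) Lrfl Lrfl
theorem f131709 : Led Lsl_ct (LP (LK LD1_c0 LD2_c51 LD3_c14)) = (LP (LK LD1_c1 LD2_c48 LD3_c54)) :=
  Lre_c IH (LK LD1_c0 LD2_c51 LD3_c14) (LK LD1_c1 LD2_c48 LD3_c54) Lrfl Lrfl
theorem f131707 : Led Lsl_bf (LP (LK LD1_c1 LD2_c44 LD3_c53)) = (LP (LK LD1_c0 LD2_c51 LD3_c14)) :=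
  Lgr Lrot24 (Lpr_bt (K5.f131703 IH) (Lpn (LP (LK LD1_c0 LD2_c51 LD3_c14))))
theorem f130696 : Led Lsl_at (LP (LK LD1_c1 LD2_c44 LD3_c50)) = (LP (LK LD1_c3 LD2_c25 LD3_c25)) :=
  Lgr Lrot100 (Lpr_af (K24.f130694 IH) (Lpn (LP (LK LD1_c3 LD2_c25 LD3_c25))))
theorem f130755 : Led Lsl_gt (LP (LK LD1_c3 LD2_c35 LD3_c59)) = (LP (LK LD1_c6 LD2_c52 LD3_c61)) :=
  Lgr Lrot5 (Lpr_ft (K4.f17814 IH) (Lpr_at (f130696 IH) (Lpe (f109159 IH) (Lpn (LP (LK LD1_c6 LD2_c52 LD3_c61))))))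
theorem f97380 : Led Lsl_gt (LP (LK LD1_c1 LD2_c42 LD3_c53)) = (LP (LK LD1_c3 LD2_c32 LD3_c21)) :=
  Lre_g IH (LK LD1_c1 LD2_c42 LD3_c53) (LK LD1_c3 LD2_c32 LD3_c21) Lrfl Lrfl
theorem f108462 : Led Lsl_gf (LP (LK LD1_c3 LD2_c36 LD3_c11)) = (LP (LK LD1_c3 LD2_c32 LD3_c21)) :=
  Lgr Lrot76 (Lpr_af (K3.f108319 IH) (Lpe (K3.f108251 IH) (Lpr_gt (f97380 IH) (Lpn (LP (LK LD1_c3 LD2_c32 LD3_c21))))))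
theorem f463576 : Led Lsl_ct (LP (LK LD1_c3 LD2_c35 LD3_c61)) = (LP (LK LD1_c3 LD2_c32 LD3_c21)) :=
  Lgr Lrot91 (Lpe (f90097 IH) (Lpr_bf (f131707 IH) (Lpr_ct (f131709 IH) (Lpe (f209147 IH) (Lpr_cf (f463548 IH) (Lpe (f460861 IH) (Lpe (f130755 IH) (Lpe (K4.f17842 IH) (Lpr_ct (K24.f17829 IH) (Lpr_gf (f108462 IH) (Lpn (LP (LK LD1_c3 LD2_c32 LD3_c21)))))))))))))
theorem f466579 : Led Lsl_ef (LP (LK LD1_c7 LD2_c3 LD3_c44)) = (LP (LK LD1_c3 LD2_c32 LD3_c21)) :=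
  Lgr Lrot28 (Lpr_ct (f466473 IH) (Lpr_et (f466574 IH) (Lpr_ct (f463576 IH) (Lpn (LP (LK LD1_c3 LD2_c32 LD3_c21))))))
theorem f466594 : Led Lsl_et (LP (LK LD1_c7 LD2_c3 LD3_c44)) = (LP (LK LD1_c3 LD2_c32 LD3_c21)) :=
  Lgr Lrot87 (Lpr_ef (f466579 IH) (Lpn (LP (LK LD1_c3 LD2_c32 LD3_c21))))
theorem f97379 : Led Lsl_et (LP (LK LD1_c0 LD2_c48 LD3_c1)) = (LP (LK LD1_c1 LD2_c42 LD3_c53)) :=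
  Lre_e IH (LK LD1_c0 LD2_c48 LD3_c1) (LK LD1_c1 LD2_c42 LD3_c53) Lrfl Lrfl
theorem f97378 : Led Lsl_gt (LP (LK LD1_c7 LD2_c7 LD3_c45)) = (LP (LK LD1_c3 LD2_c33 LD3_c25)) :=
  Lre_g IH (LK LD1_c7 LD2_c7 LD3_c45) (LK LD1_c3 LD2_c33 LD3_c25) Lrfl Lrfl
theorem f466601 : Led Lsl_dt (LP (LK LD1_c7 LD2_c3 LD3_c44)) = (LP (LK LD1_c7 LD2_c7 LD3_c45)) :=
  Lgr Lrot136 (Lpr_et (f466594 IH) (Lpe (f97380 IH) (Lpe (f97379 IH) (Lpr_dt (K3.f92337 IH) (Lpe (K3.f97373 IH) (Lpr_df (K3.f97374 IH) (Lpe (K3.f97371 IH) (Lpe (f96476 IH) (Lpr_dt (f96477 IH) (Lpe (f97378 IH) (Lpn (LP (LK LD1_c7 LD2_c7 LD3_c45)))))))))))))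
theorem f466471 : Led Lsl_ct (LP (LK LD1_c3 LD2_c30 LD3_c52)) = (LP (LK LD1_c1 LD2_c41 LD3_c59)) :=
  Lre_c IH (LK LD1_c3 LD2_c30 LD3_c52) (LK LD1_c1 LD2_c41 LD3_c59) Lrfl Lrfl
theorem f466472 : Led Lsl_dt (LP (LK LD1_c1 LD2_c41 LD3_c59)) = (LP (LK LD1_c3 LD2_c30 LD3_c53)) :=
  Lre_d IH (LK LD1_c1 LD2_c41 LD3_c59) (LK LD1_c3 LD2_c30 LD3_c53) Lrfl Lrfl
theorem f458528 : Led Lsl_dt (LP (LK LD1_c3 LD2_c24 LD3_c58)) = (LP (LK LD1_c1 LD2_c38 LD3_c53)) :=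
  Lre_d IH (LK LD1_c3 LD2_c24 LD3_c58) (LK LD1_c1 LD2_c38 LD3_c53) Lrfl Lrfl
theorem f458348 : Led Lsl_ct (LP (LK LD1_c6 LD2_c52 LD3_c22)) = (LP (LK LD1_c13 LD2_c4 LD3_c15)) :=
  Lre_c IH (LK LD1_c6 LD2_c52 LD3_c22) (LK LD1_c13 LD2_c4 LD3_c15) Lrfl Lrfl
theorem f466474 : Led Lsl_gf (LP (LK LD1_c7 LD2_c3 LD3_c44)) = (LP (LK LD1_c13 LD2_c4 LD3_c15)) :=
  Lgr Lrot104 (Lpr_ct (f466473 IH) (Lpe (f466472 IH) (Lpe (f466471 IH) (Lpr_gf (f466464 IH) (Lpe (f108257 IH) (Lpr_gf (f455823 IH) (Lpqs (f464172 IH) (Lpe (f458528 IH) (Lpr_gt (f458347 IH) (Lpr_ct (f458348 IH) (Lpn (LP (LK LD1_c13 LD2_c4 LD3_c15)))))))))))))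
theorem f464607 : Led Lsl_ct (LP (LK LD1_c13 LD2_c4 LD3_c15)) = (LP (LK LD1_c6 LD2_c52 LD3_c22)) :=
  Lre_c IH (LK LD1_c13 LD2_c4 LD3_c15) (LK LD1_c6 LD2_c52 LD3_c22) Lrfl Lrfl
theorem f466613 : Led Lsl_gt (LP (LK LD1_c6 LD2_c52 LD3_c22)) = (LP (LK LD1_c3 LD2_c32 LD3_c27)) :=
  Lgr Lrot94 (Lpe (f464607 IH) (Lpe (f466474 IH) (Lpr_dt (f466601 IH) (Lpr_gt (f97378 IH) (Lpr_dt (f128102 IH) (Lpe (K5.f128096 IH) (Lpr_df (K24.f106002 IH) (Lpe (K24.f92420 IH) (Lpr_df (f128110 IH) (Lpn (LP (LK LD1_c3 LD2_c32 LD3_c27))))))))))))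
theorem f10205 : Led Lsl_et (LP (LK LD1_c0 LD2_c21 LD3_c41)) = (LP (LK LD1_c0 LD2_c9 LD3_c46)) :=
  Lre_e IH (LK LD1_c0 LD2_c21 LD3_c41) (LK LD1_c0 LD2_c9 LD3_c46) Lrfl Lrfl
theorem f128107 : Led Lsl_dt (LP (LK LD1_c0 LD2_c21 LD3_c41)) = (LP (LK LD1_c0 LD2_c48 LD3_c29)) :=
  Lre_d IH (LK LD1_c0 LD2_c21 LD3_c41) (LK LD1_c0 LD2_c48 LD3_c29) Lrfl Lrfl
theorem f128108 : Led Lsl_gt (LP (LK LD1_c0 LD2_c48 LD3_c29)) = (LP (LK LD1_c1 LD2_c43 LD3_c50)) :=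
  Lre_g IH (LK LD1_c0 LD2_c48 LD3_c29) (LK LD1_c1 LD2_c43 LD3_c50) Lrfl Lrfl
theorem f128109 : Led Lsl_dt (LP (LK LD1_c3 LD2_c34 LD3_c20)) = (LP (LK LD1_c1 LD2_c43 LD3_c50)) :=
  Lre_d IH (LK LD1_c3 LD2_c34 LD3_c20) (LK LD1_c1 LD2_c43 LD3_c50) Lrfl Lrfl
theorem f466615 : Led Lsl_ef (LP (LK LD1_c6 LD2_c52 LD3_c22)) = (LP (LK LD1_c3 LD2_c34 LD3_c20)) :=
  Lgr Lrot167 (Lpr_gt (f466613 IH) (Lpe (f128110 IH) (Lpr_gt (K24.f92420 IH) (Lpr_df (f128099 IH) (Lpr_et (K24.f10467 IH) (Lpr_gt (K3.f6667 IH) (Lpe (f10205 IH) (Lpr_dt (f128107 IH) (Lpr_gt (f128108 IH) (Lpe (f128109 IH) (Lpn (LP (LK LD1_c3 LD2_c34 LD3_c20)))))))))))))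
theorem f466623 : Led Lsl_et (LP (LK LD1_c6 LD2_c52 LD3_c22)) = (LP (LK LD1_c3 LD2_c34 LD3_c20)) :=
  Lgr Lrot87 (Lpr_ef (f466615 IH) (Lpn (LP (LK LD1_c3 LD2_c34 LD3_c20))))
theorem f450807 : Led Lsl_ct (LP (LK LD1_c3 LD2_c34 LD3_c20)) = (LP (LK LD1_c7 LD2_c9 LD3_c50)) :=
  Lre_c IH (LK LD1_c3 LD2_c34 LD3_c20) (LK LD1_c7 LD2_c9 LD3_c50) Lrfl Lrfl
theorem f466628 : Led Lsl_ef (LP (LK LD1_c13 LD2_c4 LD3_c15)) = (LP (LK LD1_c7 LD2_c9 LD3_c50)) :=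
  Lgr Lrot28 (Lpr_ct (f464607 IH) (Lpr_et (f466623 IH) (Lpr_ct (f450807 IH) (Lpn (LP (LK LD1_c7 LD2_c9 LD3_c50))))))
theorem f96961 : Led Lsl_et (LP (LK LD1_c3 LD2_c33 LD3_c3)) = (LP (LK LD1_c1 LD2_c43 LD3_c16)) :=
  Lre_e IH (LK LD1_c3 LD2_c33 LD3_c3) (LK LD1_c1 LD2_c43 LD3_c16) Lrfl Lrfl
theorem f96956 : Led Lsl_dt (LP (LK LD1_c3 LD2_c33 LD3_c3)) = (LP (LK LD1_c7 LD2_c7 LD3_c0)) :=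
  Lre_d IH (LK LD1_c3 LD2_c33 LD3_c3) (LK LD1_c7 LD2_c7 LD3_c0) Lrfl Lrfl
theorem f96953 : Led Lsl_gt (LP (LK LD1_c7 LD2_c7 LD3_c0)) = (LP (LK LD1_c13 LD2_c29 LD3_c11)) :=
  Lre_g IH (LK LD1_c7 LD2_c7 LD3_c0) (LK LD1_c13 LD2_c29 LD3_c11) Lrfl Lrfl
theorem f466633 : Led Lsl_df (LP (LK LD1_c13 LD2_c29 LD3_c11)) = (LP (LK LD1_c7 LD2_c9 LD3_c50)) :=
  Lgr Lrot168 (Lpe (f96953 IH) (Lpe (f96956 IH) (Lpr_et (f96961 IH) (Lpe (K3.f97371 IH) (Lpe (f96476 IH) (Lpr_dt (f96477 IH) (Lpe (f97378 IH) (Lpe (f466601 IH) (Lpr_gf (f466474 IH) (Lpr_ef (f466628 IH) (Lpn (LP (LK LD1_c7 LD2_c9 LD3_c50)))))))))))))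
theorem f466637 : Led Lsl_dt (LP (LK LD1_c13 LD2_c29 LD3_c11)) = (LP (LK LD1_c7 LD2_c9 LD3_c50)) :=
  Lgr Lrot42 (Lpr_df (f466633 IH) (Lpn (LP (LK LD1_c7 LD2_c9 LD3_c50))))
theorem f450806 : Led Lsl_dt (LP (LK LD1_c1 LD2_c43 LD3_c50)) = (LP (LK LD1_c3 LD2_c34 LD3_c20)) :=
  Lre_d IH (LK LD1_c1 LD2_c43 LD3_c50) (LK LD1_c3 LD2_c34 LD3_c20) Lrfl Lrfl
theorem f5936 : Led Lsl_gt (LP (LK LD1_c0 LD2_c48 LD3_c28)) = (LP (LK LD1_c0 LD2_c21 LD3_c41)) :=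
  Lre_g IH (LK LD1_c0 LD2_c48 LD3_c28) (LK LD1_c0 LD2_c21 LD3_c41) Lrfl Lrfl
theorem f6019 : Led Lsl_ct (LP (LK LD1_c1 LD2_c43 LD3_c47)) = (LP (LK LD1_c0 LD2_c48 LD3_c28)) :=
  Lre_c IH (LK LD1_c1 LD2_c43 LD3_c47) (LK LD1_c0 LD2_c48 LD3_c28) Lrfl Lrfl
theorem f466641 : Led Lsl_gf (LP (LK LD1_c3 LD2_c33 LD3_c3)) = (LP (LK LD1_c1 LD2_c43 LD3_c47)) :=
  Lgr Lrot144 (Lpr_dt (f96956 IH) (Lpr_gt (f96953 IH) (Lpr_dt (f466637 IH) (Lpe (f450807 IH) (Lpe (f450806 IH) (Lpe (f128108 IH) (Lpe (f128107 IH) (Lpe (f5936 IH) (Lpe (f6019 IH) (Lpn (LP (LK LD1_c1 LD2_c43 LD3_c47))))))))))))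
theorem f88642 : Led Lsl_gt (LP (LK LD1_c1 LD2_c51 LD3_c5)) = (LP (LK LD1_c3 LD2_c48 LD3_c9)) :=
  Lre_g IH (LK LD1_c1 LD2_c51 LD3_c5) (LK LD1_c3 LD2_c48 LD3_c9) Lrfl Lrfl
theorem f10834 : Led Lsl_ct (LP (LK LD1_c0 LD2_c48 LD3_c28)) = (LP (LK LD1_c1 LD2_c43 LD3_c47)) :=
  Lre_c IH (LK LD1_c0 LD2_c48 LD3_c28) (LK LD1_c1 LD2_c43 LD3_c47) Lrfl Lrfl
theorem f6380 : Led Lsl_gt (LP (LK LD1_c1 LD2_c43 LD3_c10)) = (LP (LK LD1_c0 LD2_c48 LD3_c28)) :=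
  Lre_g IH (LK LD1_c1 LD2_c43 LD3_c10) (LK LD1_c0 LD2_c48 LD3_c28) Lrfl Lrfl
theorem f10652 : Led Lsl_gt (LP (LK LD1_c1 LD2_c43 LD3_c38)) = (LP (LK LD1_c3 LD2_c32 LD3_c52)) :=
  Lre_g IH (LK LD1_c1 LD2_c43 LD3_c38) (LK LD1_c3 LD2_c32 LD3_c52) Lrfl Lrfl
theorem f10835 : Led Lsl_ct (LP (LK LD1_c3 LD2_c33 LD3_c50)) = (LP (LK LD1_c1 LD2_c43 LD3_c38)) :=
  Lre_c IH (LK LD1_c3 LD2_c33 LD3_c50) (LK LD1_c1 LD2_c43 LD3_c38) Lrfl Lrfl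
theorem f466650 : Led Lsl_bf (LP (LK LD1_c3 LD2_c48 LD3_c9)) = (LP (LK LD1_c3 LD2_c33 LD3_c50)) :=
  Lgr Lrot34 (Lpe (f88642 IH) (Lpr_bf (K2.f88632 IH) (Lpr_ct (K3.f96945 IH) (Lpr_gf (f466641 IH) (Lpe (f10834 IH) (Lpe (f6380 IH) (Lpr_bf (K24.f10156 IH) (Lpr_ct (K24.f6401 IH) (Lpe (f10652 IH) (Lpe (f10835 IH) (Lpn (LP (LK LD1_c3 LD2_c33 LD3_c50)))))))))))))
theorem f88634 : Led Lsl_et (LP (LK LD1_c0 LD2_c52 LD3_c25)) = (LP (LK LD1_c1 LD2_c51 LD3_c5)) :=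
  Lre_e IH (LK LD1_c0 LD2_c52 LD3_c25) (LK LD1_c1 LD2_c51 LD3_c5) Lrfl Lrfl
theorem f85249 : Led Lsl_et (LP (LK LD1_c0 LD2_c51 LD3_c38)) = (LP (LK LD1_c0 LD2_c23 LD3_c20)) :=
  Lre_e IH (LK LD1_c0 LD2_c51 LD3_c38) (LK LD1_c0 LD2_c23 LD3_c20) Lrfl Lrfl
theorem f85203 : Led Lsl_at (LP (LK LD1_c0 LD2_c51 LD3_c38)) = (LP (LK LD1_c1 LD2_c49 LD3_c28)) :=
  Lre_a IH (LK LD1_c0 LD2_c51 LD3_c38) (LK LD1_c1 LD2_c49 LD3_c28) Lrfl Lrfl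
theorem f85205 : Led Lsl_df (LP (LK LD1_c0 LD2_c51 LD3_c38)) = (LP (LK LD1_c0 LD2_c51 LD3_c38)) :=
  Lgr Lrot18 (Lpr_at (f85203 IH) (Lpr_dt (K3.f85201 IH) (Lpr_at (K2.f85204 IH) (Lpn (LP (LK LD1_c0 LD2_c51 LD3_c38))))))
theorem f85251 : Led Lsl_gt (LP (LK LD1_c1 LD2_c49 LD3_c37)) = (LP (LK LD1_c0 LD2_c51 LD3_c38)) :=
  Lre_g IH (LK LD1_c1 LD2_c49 LD3_c37) (LK LD1_c0 LD2_c51 LD3_c38) Lrfl Lrfl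
theorem f85225 : Led Lsl_dt (LP (LK LD1_c3 LD2_c45 LD3_c2)) = (LP (LK LD1_c1 LD2_c49 LD3_c37)) :=
  Lre_d IH (LK LD1_c3 LD2_c45 LD3_c2) (LK LD1_c1 LD2_c49 LD3_c37) Lrfl Lrfl
theorem f124891 : Led Lsl_ef (LP (LK LD1_c3 LD2_c48 LD3_c9)) = (LP (LK LD1_c3 LD2_c45 LD3_c2)) :=
  Lgr Lrot17 (Lpe (f88642 IH) (Lpe (f88634 IH) (Lpr_dt (K2.f88646 IH) (Lpr_gf (K5.f124875 IH) (Lpe (f124883 IH) (Lpr_gf (K7.f121967 IH) (Lpe (f85249 IH) (Lpe (f85205 IH) (Lpe (f85251 IH) (Lpe (f85225 IH) (Lpn (LP (LK LD1_c3 LD2_c45 LD3_c2)))))))))))))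
theorem f124893 : Led Lsl_et (LP (LK LD1_c3 LD2_c48 LD3_c9)) = (LP (LK LD1_c3 LD2_c45 LD3_c2)) :=
  Lgr Lrot87 (Lpr_ef (f124891 IH) (Lpn (LP (LK LD1_c3 LD2_c45 LD3_c2))))
theorem f466684 : Led Lsl_et (LP (LK LD1_c7 LD2_c8 LD3_c38)) = (LP (LK LD1_c3 LD2_c33 LD3_c50)) :=
  Lre_e IH (LK LD1_c7 LD2_c8 LD3_c38) (LK LD1_c3 LD2_c33 LD3_c50) Lrfl Lrfl
theorem f466685 : Led Lsl_bt (LP (LK LD1_c3 LD2_c45 LD3_c2)) = (LP (LK LD1_c7 LD2_c8 LD3_c38)) :=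
  Lgr Lrot119 (Lpe (f124893 IH) (Lpr_bf (f466650 IH) (Lpe (f466684 IH) (Lpn (LP (LK LD1_c7 LD2_c8 LD3_c38))))))
theorem f85224 : Led Lsl_dt (LP (LK LD1_c1 LD2_c49 LD3_c37)) = (LP (LK LD1_c3 LD2_c45 LD3_c2)) :=
  Lre_d IH (LK LD1_c1 LD2_c49 LD3_c37) (LK LD1_c3 LD2_c45 LD3_c2) Lrfl Lrfl
theorem f85257 : Led Lsl_bt (LP (LK LD1_c3 LD2_c45 LD3_c1)) = (LP (LK LD1_c1 LD2_c49 LD3_c37)) :=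
  Lre_b IH (LK LD1_c3 LD2_c45 LD3_c1) (LK LD1_c1 LD2_c49 LD3_c37) Lrfl Lrfl
theorem f467366 : Led Lsl_df (LP (LK LD1_c3 LD2_c45 LD3_c1)) = (LP (LK LD1_c7 LD2_c8 LD3_c38)) :=
  Lgr Lrot12 (Lpr_bt (f85257 IH) (Lpr_dt (f85224 IH) (Lpr_bt (f466685 IH) (Lpn (LP (LK LD1_c7 LD2_c8 LD3_c38))))))
theorem f124895 : Led Lsl_gt (LP (LK LD1_c3 LD2_c48 LD3_c9)) = (LP (LK LD1_c1 LD2_c51 LD3_c11)) :=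
  Lre_g IH (LK LD1_c3 LD2_c48 LD3_c9) (LK LD1_c1 LD2_c51 LD3_c11) Lrfl Lrfl
theorem f459695 : Led Lsl_bt (LP (LK LD1_c0 LD2_c52 LD3_c35)) = (LP (LK LD1_c1 LD2_c51 LD3_c11)) :=
  Lre_b IH (LK LD1_c0 LD2_c52 LD3_c35) (LK LD1_c1 LD2_c51 LD3_c11) Lrfl Lrfl
theorem f442352 : Led Lsl_ct (LP (LK LD1_c0 LD2_c52 LD3_c35)) = (LP (LK LD1_c1 LD2_c51 LD3_c26)) :=
  Lre_c IH (LK LD1_c0 LD2_c52 LD3_c35) (LK LD1_c1 LD2_c51 LD3_c26) Lrfl Lrfl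
theorem f5937 : Led Lsl_bt (LP (LK LD1_c1 LD2_c43 LD3_c46)) = (LP (LK LD1_c0 LD2_c48 LD3_c28)) :=
  Lre_b IH (LK LD1_c1 LD2_c43 LD3_c46) (LK LD1_c0 LD2_c48 LD3_c28) Lrfl Lrfl
theorem f5938 : Led Lsl_ct (LP (LK LD1_c1 LD2_c43 LD3_c46)) = (LP (LK LD1_c3 LD2_c34 LD3_c10)) :=
  Lre_c IH (LK LD1_c1 LD2_c43 LD3_c46) (LK LD1_c3 LD2_c34 LD3_c10) Lrfl Lrfl
theorem f466691 : Led Lsl_gt (LP (LK LD1_c1 LD2_c51 LD3_c26)) = (LP (LK LD1_c3 LD2_c34 LD3_c10)) :=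
  Lgr Lrot65 (Lpe (f442352 IH) (Lpr_bt (f459695 IH) (Lpe (f124895 IH) (Lpr_bf (f466650 IH) (Lpr_ct (f10835 IH) (Lpe (K24.f6657 IH) (Lpe (K24.f6006 IH) (Lpe (f5936 IH) (Lpe (f5937 IH) (Lpr_ct (f5938 IH) (Lpn (LP (LK LD1_c3 LD2_c34 LD3_c10)))))))))))))
theorem f87696 : Led Lsl_ft (LP (LK LD1_c1 LD2_c51 LD3_c26)) = (LP (LK LD1_c0 LD2_c52 LD3_c32)) :=
  Lre_f IH (LK LD1_c1 LD2_c51 LD3_c26) (LK LD1_c0 LD2_c52 LD3_c32) Lrfl Lrfl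
theorem f466693 : Led Lsl_gf (LP (LK LD1_c1 LD2_c50 LD3_c39)) = (LP (LK LD1_c3 LD2_c34 LD3_c10)) :=
  Lgr Lrot76 (Lpr_af (K2.f87680 IH) (Lpe (f87696 IH) (Lpr_gt (f466691 IH) (Lpn (LP (LK LD1_c3 LD2_c34 LD3_c10))))))
theorem f87697 : Led Lsl_ct (LP (LK LD1_c0 LD2_c52 LD3_c13)) = (LP (LK LD1_c1 LD2_c50 LD3_c39)) :=
  Lre_c IH (LK LD1_c0 LD2_c52 LD3_c13) (LK LD1_c1 LD2_c50 LD3_c39) Lrfl Lrfl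
theorem f88557 : Led Lsl_bt (LP (LK LD1_c0 LD2_c52 LD3_c13)) = (LP (LK LD1_c1 LD2_c50 LD3_c35)) :=
  Lre_b IH (LK LD1_c0 LD2_c52 LD3_c13) (LK LD1_c1 LD2_c50 LD3_c35) Lrfl Lrfl
theorem f467131 : Led Lsl_gt (LP (LK LD1_c1 LD2_c50 LD3_c35)) = (LP (LK LD1_c3 LD2_c33 LD3_c50)) :=
  Lgr Lrot82 (Lpe (f88557 IH) (Lpr_ct (f87697 IH) (Lpr_gf (f466693 IH) (Lpe (f5938 IH) (Lpr_bt (f5937 IH) (Lpe (f6380 IH) (Lpr_bf (K24.f10156 IH) (Lpr_ct (K24.f6401 IH) (Lpe (f10652 IH) (Lpe (f10835 IH) (Lpn (LP (LK LD1_c3 LD2_c33 LD3_c50)))))))))))))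
theorem f88481 : Led Lsl_et (LP (LK LD1_c0 LD2_c52 LD3_c11)) = (LP (LK LD1_c1 LD2_c50 LD3_c35)) :=
  Lre_e IH (LK LD1_c0 LD2_c52 LD3_c11) (LK LD1_c1 LD2_c50 LD3_c35) Lrfl Lrfl
theorem f109464 : Led Lsl_et (LP (LK LD1_c3 LD2_c29 LD3_c30)) = (LP (LK LD1_c1 LD2_c41 LD3_c29)) :=
  Lre_e IH (LK LD1_c3 LD2_c29 LD3_c30) (LK LD1_c1 LD2_c41 LD3_c29) Lrfl Lrfl
theorem f109468 : Led Lsl_et (LP (LK LD1_c1 LD2_c41 LD3_c29)) = (LP (LK LD1_c3 LD2_c29 LD3_c30)) :=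
  Lre_e IH (LK LD1_c1 LD2_c41 LD3_c29) (LK LD1_c3 LD2_c29 LD3_c30) Lrfl Lrfl
theorem f109458 : Led Lsl_dt (LP (LK LD1_c1 LD2_c41 LD3_c29)) = (LP (LK LD1_c0 LD2_c49 LD3_c60)) :=
  Lgr Lrot57 (Lpr_gf (K3.f109451 IH) (Lpe (K2.f92287 IH) (Lpe (K2.f5800 IH) (Lpr_dt (K0.f398 IH) (Lpe (K3.f17501 IH) (Lpr_dt (K3.f10485 IH) (Lpr_cf (K2.f90064 IH) (Lpe (K3.f5246 IH) (Lpr_gf (K3.f94668 IH) (Lpn (LP (LK LD1_c0 LD2_c49 LD3_c60))))))))))))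
theorem f109469 : Led Lsl_dt (LP (LK LD1_c3 LD2_c29 LD3_c30)) = (LP (LK LD1_c3 LD2_c29 LD3_c30)) :=
  Lgr Lrot77 (Lpe (f109468 IH) (Lpr_df (K3.f109462 IH) (Lpe (K2.f85195 IH) (Lpe (f109458 IH) (Lpe (f109464 IH) (Lpn (LP (LK LD1_c3 LD2_c29 LD3_c30))))))))
theorem f467372 : Led Lsl_gt (LP (LK LD1_c3 LD2_c45 LD3_c1)) = (LP (LK LD1_c3 LD2_c29 LD3_c30)) :=
  Lgr Lrot112 (Lpr_df (f467366 IH) (Lpr_et (f466684 IH) (Lpe (f467131 IH) (Lpe (f88481 IH) (Lpr_dt (K3.f88479 IH) (Lpe (K2.f84691 IH) (Lpe (K2.f10783 IH) (Lpe (K8.f109475 IH) (Lpe (f109464 IH) (Lpr_dt (f109469 IH) (Lpn (LP (LK LD1_c3 LD2_c29 LD3_c30)))))))))))))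
theorem f440671 : Led Lsl_at (LP (LK LD1_c1 LD2_c41 LD3_c31)) = (LP (LK LD1_c3 LD2_c29 LD3_c30)) :=
  Lre_a IH (LK LD1_c1 LD2_c41 LD3_c31) (LK LD1_c3 LD2_c29 LD3_c30) Lrfl Lrfl
theorem f440668 : Led Lsl_ft (LP (LK LD1_c3 LD2_c29 LD3_c36)) = (LP (LK LD1_c1 LD2_c41 LD3_c31)) :=
  Lre_f IH (LK LD1_c3 LD2_c29 LD3_c36) (LK LD1_c1 LD2_c41 LD3_c31) Lrfl Lrfl
theorem f467374 : Led Lsl_gf (LP (LK LD1_c3 LD2_c45 LD3_c1)) = (LP (LK LD1_c3 LD2_c29 LD3_c36)) :=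
  Lgr Lrot47 (Lpr_gt (f467372 IH) (Lpe (f440671 IH) (Lpe (f440668 IH) (Lpn (LP (LK LD1_c3 LD2_c29 LD3_c36))))))
theorem f467368 : Led Lsl_dt (LP (LK LD1_c3 LD2_c45 LD3_c1)) = (LP (LK LD1_c7 LD2_c8 LD3_c38)) :=
  Lgr Lrot42 (Lpr_df (f467366 IH) (Lpn (LP (LK LD1_c7 LD2_c8 LD3_c38))))
theorem f92549 : Led Lsl_ct (LP (LK LD1_c7 LD2_c8 LD3_c38)) = (LP (LK LD1_c3 LD2_c33 LD3_c52)) :=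
  Lre_c IH (LK LD1_c7 LD2_c8 LD3_c38) (LK LD1_c3 LD2_c33 LD3_c52) Lrfl Lrfl
theorem f92548 : Led Lsl_dt (LP (LK LD1_c7 LD2_c8 LD3_c43)) = (LP (LK LD1_c3 LD2_c33 LD3_c52)) :=
  Lre_d IH (LK LD1_c7 LD2_c8 LD3_c43) (LK LD1_c3 LD2_c33 LD3_c52) Lrfl Lrfl
theorem f5049 : Led Lsl_et (LP (LK LD1_c0 LD2_c49 LD3_c49)) = (LP (LK LD1_c1 LD2_c46 LD3_c7)) :=
  Lre_e IH (LK LD1_c0 LD2_c49 LD3_c49) (LK LD1_c1 LD2_c46 LD3_c7) Lrfl Lrfl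
theorem f5274 : Led Lsl_gt (LP (LK LD1_c1 LD2_c46 LD3_c7)) = (LP (LK LD1_c3 LD2_c38 LD3_c16)) :=
  Lre_g IH (LK LD1_c1 LD2_c46 LD3_c7) (LK LD1_c3 LD2_c38 LD3_c16) Lrfl Lrfl
theorem f6007 : Led Lsl_dt (LP (LK LD1_c0 LD2_c49 LD3_c24)) = (LP (LK LD1_c1 LD2_c45 LD3_c29)) :=
  Lre_d IH (LK LD1_c0 LD2_c49 LD3_c24) (LK LD1_c1 LD2_c45 LD3_c29) Lrfl Lrfl
theorem f6319 : Led Lsl_gt (LP (LK LD1_c3 LD2_c37 LD3_c14)) = (LP (LK LD1_c1 LD2_c45 LD3_c29)) :=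
  Lre_g IH (LK LD1_c3 LD2_c37 LD3_c14) (LK LD1_c1 LD2_c45 LD3_c29) Lrfl Lrfl
theorem f10670 : Led Lsl_dt (LP (LK LD1_c7 LD2_c14 LD3_c60)) = (LP (LK LD1_c3 LD2_c37 LD3_c14)) :=
  Lre_d IH (LK LD1_c7 LD2_c14 LD3_c60) (LK LD1_c3 LD2_c37 LD3_c14) Lrfl Lrfl
theorem f92533 : Led Lsl_ef (LP (LK LD1_c3 LD2_c38 LD3_c16)) = (LP (LK LD1_c7 LD2_c14 LD3_c60)) :=
  Lgr Lrot17 (Lpe (f5274 IH) (Lpe (f5049 IH) (Lpr_dt (K0.f398 IH) (Lpr_gf (K2.f92522 IH) (Lpe (K2.f6673 IH) (Lpe (K0.f6672 IH) (Lpe (K3.f6011 IH) (Lpr_dt (f6007 IH) (Lpe (f6319 IH) (Lpe (f10670 IH) (Lpn (LP (LK LD1_c7 LD2_c14 LD3_c60)))))))))))))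
theorem f4075 : Led Lsl_gt (LP (LK LD1_c3 LD2_c38 LD3_c16)) = (LP (LK LD1_c1 LD2_c46 LD3_c20)) :=
  Lre_g IH (LK LD1_c3 LD2_c38 LD3_c16) (LK LD1_c1 LD2_c46 LD3_c20) Lrfl Lrfl
theorem f10554 : Led Lsl_gt (LP (LK LD1_c7 LD2_c13 LD3_c7)) = (LP (LK LD1_c3 LD2_c37 LD3_c14)) :=
  Lre_g IH (LK LD1_c7 LD2_c13 LD3_c7) (LK LD1_c3 LD2_c37 LD3_c14) Lrfl Lrfl
theorem f10472 : Led Lsl_et (LP (LK LD1_c1 LD2_c43 LD3_c6)) = (LP (LK LD1_c0 LD2_c48 LD3_c11)) :=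
  Lre_e IH (LK LD1_c1 LD2_c43 LD3_c6) (LK LD1_c0 LD2_c48 LD3_c11) Lrfl Lrfl
theorem f10473 : Led Lsl_ft (LP (LK LD1_c3 LD2_c32 LD3_c52)) = (LP (LK LD1_c1 LD2_c43 LD3_c6)) :=
  Lre_f IH (LK LD1_c3 LD2_c32 LD3_c52) (LK LD1_c1 LD2_c43 LD3_c6) Lrfl Lrfl
theorem f10474 : Led Lsl_et (LP (LK LD1_c0 LD2_c49 LD3_c12)) = (LP (LK LD1_c1 LD2_c45 LD3_c0)) :=
  Lre_e IH (LK LD1_c0 LD2_c49 LD3_c12) (LK LD1_c1 LD2_c45 LD3_c0) Lrfl Lrfl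
theorem f10475 : Led Lsl_ft (LP (LK LD1_c1 LD2_c45 LD3_c0)) = (LP (LK LD1_c3 LD2_c36 LD3_c22)) :=
  Lre_f IH (LK LD1_c1 LD2_c45 LD3_c0) (LK LD1_c3 LD2_c36 LD3_c22) Lrfl Lrfl
theorem f10476 : Led Lsl_ef (LP (LK LD1_c3 LD2_c32 LD3_c52)) = (LP (LK LD1_c3 LD2_c36 LD3_c22)) :=
  Lgr Lrot21 (Lpr_ft (f10473 IH) (Lpr_et (f10472 IH) (Lpr_ft (K3.f10455 IH) (Lpr_et (f10474 IH) (Lpr_ft (f10475 IH) (Lpn (LP (LK LD1_c3 LD2_c36 LD3_c22))))))))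
theorem f10668 : Led Lsl_et (LP (LK LD1_c3 LD2_c33 LD3_c52)) = (LP (LK LD1_c1 LD2_c43 LD3_c38)) :=
  Lre_e IH (LK LD1_c3 LD2_c33 LD3_c52) (LK LD1_c1 LD2_c43 LD3_c38) Lrfl Lrfl
theorem f10669 : Led Lsl_dt (LP (LK LD1_c3 LD2_c33 LD3_c52)) = (LP (LK LD1_c7 LD2_c8 LD3_c43)) :=
  Lre_d IH (LK LD1_c3 LD2_c33 LD3_c52) (LK LD1_c7 LD2_c8 LD3_c43) Lrfl Lrfl
theorem f92544 : Led Lsl_gt (LP (LK LD1_c3 LD2_c38 LD3_c47)) = (LP (LK LD1_c7 LD2_c8 LD3_c43)) :=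
  Lgr Lrot139 (Lpe (K2.f4051 IH) (Lpe (f4075 IH) (Lpr_ef (f92533 IH) (Lpr_dt (f10670 IH) (Lpe (f10554 IH) (Lpe (K3.f10515 IH) (Lpe (f10476 IH) (Lpe (f10652 IH) (Lpe (f10668 IH) (Lpr_dt (f10669 IH) (Lpn (LP (LK LD1_c7 LD2_c8 LD3_c43)))))))))))))
theorem f436794 : Led Lsl_gt (LP (LK LD1_c3 LD2_c40 LD3_c42)) = (LP (LK LD1_c1 LD2_c47 LD3_c43)) :=
  Lre_g IH (LK LD1_c3 LD2_c40 LD3_c42) (LK LD1_c1 LD2_c47 LD3_c43) Lrfl Lrfl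
theorem f4639 : Led Lsl_ct (LP (LK LD1_c1 LD2_c47 LD3_c20)) = (LP (LK LD1_c3 LD2_c40 LD3_c42)) :=
  Lre_c IH (LK LD1_c1 LD2_c47 LD3_c20) (LK LD1_c3 LD2_c40 LD3_c42) Lrfl Lrfl
theorem f4812 : Led Lsl_gt (LP (LK LD1_c0 LD2_c50 LD3_c37)) = (LP (LK LD1_c1 LD2_c47 LD3_c20)) :=
  Lre_g IH (LK LD1_c0 LD2_c50 LD3_c37) (LK LD1_c1 LD2_c47 LD3_c20) Lrfl Lrfl
theorem f4857 : Led Lsl_bt (LP (LK LD1_c1 LD2_c47 LD3_c46)) = (LP (LK LD1_c0 LD2_c50 LD3_c37)) :=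
  Lre_b IH (LK LD1_c1 LD2_c47 LD3_c46) (LK LD1_c0 LD2_c50 LD3_c37) Lrfl Lrfl
theorem f456468 : Led Lsl_ct (LP (LK LD1_c1 LD2_c47 LD3_c46)) = (LP (LK LD1_c3 LD2_c38 LD3_c16)) :=
  Lgr Lrot10 (Lpr_bt (f4857 IH) (Lpr_gt (f4812 IH) (Lpr_ct (f4639 IH) (Lpr_gt (f436794 IH) (Lpr_cf (K24.f456456 IH) (Lpr_bt (K24.f4390 IH) (Lpr_gt (K2.f4387 IH) (Lpe (K2.f5265 IH) (Lpr_ct (K2.f4084 IH) (Lpr_gt (f5274 IH) (Lpn (LP (LK LD1_c3 LD2_c38 LD3_c16)))))))))))))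
theorem f456474 : Led Lsl_cf (LP (LK LD1_c1 LD2_c47 LD3_c46)) = (LP (LK LD1_c3 LD2_c38 LD3_c16)) :=
  Lgr Lrot11 (Lpr_ct (f456468 IH) (Lpn (LP (LK LD1_c3 LD2_c38 LD3_c16))))
theorem f440640 : Led Lsl_bt (LP (LK LD1_c1 LD2_c41 LD3_c31)) = (LP (LK LD1_c0 LD2_c47 LD3_c21)) :=
  Lre_b IH (LK LD1_c1 LD2_c41 LD3_c31) (LK LD1_c0 LD2_c47 LD3_c21) Lrfl Lrfl
theorem f440641 : Led Lsl_at (LP (LK LD1_c3 LD2_c29 LD3_c30)) = (LP (LK LD1_c1 LD2_c41 LD3_c31)) :=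
  Lre_a IH (LK LD1_c3 LD2_c29 LD3_c30) (LK LD1_c1 LD2_c41 LD3_c31) Lrfl Lrfl
theorem f85246 : Led Lsl_bt (LP (LK LD1_c0 LD2_c23 LD3_c28)) = (LP (LK LD1_c0 LD2_c51 LD3_c38)) :=
  Lre_b IH (LK LD1_c0 LD2_c23 LD3_c28) (LK LD1_c0 LD2_c51 LD3_c38) Lrfl Lrfl
theorem f440642 : Led Lsl_bf (LP (LK LD1_c3 LD2_c29 LD3_c30)) = (LP (LK LD1_c1 LD2_c49 LD3_c28)) :=
  Lgr Lrot81 (Lpr_at (f440641 IH) (Lpr_bt (f440640 IH) (Lpr_at (f440636 IH) (Lpr_bt (f85246 IH) (Lpr_at (f85203 IH) (Lpn (LP (LK LD1_c1 LD2_c49 LD3_c28))))))))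
theorem f440647 : Led Lsl_ft (LP (LK LD1_c3 LD2_c29 LD3_c30)) = (LP (LK LD1_c7 LD2_c0 LD3_c39)) :=
  Lre_f IH (LK LD1_c3 LD2_c29 LD3_c30) (LK LD1_c7 LD2_c0 LD3_c39) Lrfl Lrfl
theorem f440648 : Led Lsl_bt (LP (LK LD1_c7 LD2_c0 LD3_c39)) = (LP (LK LD1_c3 LD2_c44 LD3_c47)) :=
  Lgr Lrot35 (Lpe (f440647 IH) (Lpr_bf (f440642 IH) (Lpe (K3.f85207 IH) (Lpn (LP (LK LD1_c3 LD2_c44 LD3_c47))))))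
theorem f440652 : Led Lsl_bf (LP (LK LD1_c7 LD2_c0 LD3_c39)) = (LP (LK LD1_c3 LD2_c44 LD3_c47)) :=
  Lgr Lrot24 (Lpr_bt (f440648 IH) (Lpn (LP (LK LD1_c3 LD2_c44 LD3_c47))))
theorem f440654 : Led Lsl_df (LP (LK LD1_c7 LD2_c0 LD3_c39)) = (LP (LK LD1_c7 LD2_c0 LD3_c39)) :=
  Lgr Lrot12 (Lpr_bt (f440648 IH) (Lpe (K3.f85209 IH) (Lpe (f440652 IH) (Lpn (LP (LK LD1_c7 LD2_c0 LD3_c39))))))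
theorem f440656 : Led Lsl_at (LP (LK LD1_c7 LD2_c0 LD3_c39)) = (LP (LK LD1_c3 LD2_c29 LD3_c36)) :=
  Lre_a IH (LK LD1_c7 LD2_c0 LD3_c39) (LK LD1_c3 LD2_c29 LD3_c36) Lrfl Lrfl
theorem f440650 : Led Lsl_at (LP (LK LD1_c3 LD2_c29 LD3_c36)) = (LP (LK LD1_c7 LD2_c0 LD3_c39)) :=
  Lre_a IH (LK LD1_c3 LD2_c29 LD3_c36) (LK LD1_c7 LD2_c0 LD3_c39) Lrfl Lrfl
theorem f440657 : Led Lsl_dt (LP (LK LD1_c3 LD2_c29 LD3_c36)) = (LP (LK LD1_c3 LD2_c29 LD3_c36)) :=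
  Lgr Lrot44 (Lpe (f440656 IH) (Lpr_df (f440654 IH) (Lpe (f440650 IH) (Lpn (LP (LK LD1_c3 LD2_c29 LD3_c36))))))
theorem f467378 : Led Lsl_gt (LP (LK LD1_c1 LD2_c47 LD3_c46)) = (LP (LK LD1_c3 LD2_c29 LD3_c36)) :=
  Lgr Lrot94 (Lpr_cf (f456474 IH) (Lpr_gt (f4075 IH) (Lpr_dt (K2.f4051 IH) (Lpr_gt (f92544 IH) (Lpr_dt (f92548 IH) (Lpe (f92549 IH) (Lpe (f467368 IH) (Lpr_gf (f467374 IH) (Lpe (f440657 IH) (Lpn (LP (LK LD1_c3 LD2_c29 LD3_c36))))))))))))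
theorem f467381 : Led Lsl_gf (LP (LK LD1_c1 LD2_c47 LD3_c46)) = (LP (LK LD1_c3 LD2_c29 LD3_c30)) :=
  Lgr Lrot47 (Lpr_gt (f467378 IH) (Lpe (f440656 IH) (Lpe (f440647 IH) (Lpn (LP (LK LD1_c3 LD2_c29 LD3_c30))))))
theorem f4035 : Led Lsl_bt (LP (LK LD1_c0 LD2_c49 LD3_c58)) = (LP (LK LD1_c0 LD2_c22 LD3_c27)) :=
  Lre_b IH (LK LD1_c0 LD2_c49 LD3_c58) (LK LD1_c0 LD2_c22 LD3_c27) Lrfl Lrfl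
theorem f5323 : Led Lsl_ct (LP (LK LD1_c0 LD2_c49 LD3_c58)) = (LP (LK LD1_c1 LD2_c46 LD3_c31)) :=
  Lre_c IH (LK LD1_c0 LD2_c49 LD3_c58) (LK LD1_c1 LD2_c46 LD3_c31) Lrfl Lrfl
theorem f467405 : Led Lsl_gt (LP (LK LD1_c1 LD2_c46 LD3_c31)) = (LP (LK LD1_c3 LD2_c30 LD3_c4)) :=
  Lgr Lrot65 (Lpe (f5323 IH) (Lpr_bt (f4035 IH) (Lpr_gf (K24.f5320 IH) (Lpe (K2.f4040 IH) (Lpr_ct (K2.f4050 IH) (Lpe (f4075 IH) (Lpe (f456468 IH) (Lpr_gf (f467381 IH) (Lpr_bf (f440642 IH) (Lpe (K2.f95326 IH) (Lpn (LP (LK LD1_c3 LD2_c30 LD3_c4)))))))))))))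
theorem f5329 : Led Lsl_gt (LP (LK LD1_c3 LD2_c39 LD3_c7)) = (LP (LK LD1_c1 LD2_c46 LD3_c31)) :=
  Lre_g IH (LK LD1_c3 LD2_c39 LD3_c7) (LK LD1_c1 LD2_c46 LD3_c31) Lrfl Lrfl
theorem f467612 : Led Lsl_ft (LP (LK LD1_c3 LD2_c39 LD3_c7)) = (LP (LK LD1_c1 LD2_c49 LD3_c35)) :=
  Lgr Lrot2 (Lpr_gt (f5329 IH) (Lpr_gt (f467405 IH) (Lpr_af (K2.f95337 IH) (Lpn (LP (LK LD1_c1 LD2_c49 LD3_c35))))))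
theorem f85218 : Led Lsl_ct (LP (LK LD1_c1 LD2_c49 LD3_c35)) = (LP (LK LD1_c0 LD2_c51 LD3_c38)) :=
  Lre_c IH (LK LD1_c1 LD2_c49 LD3_c35) (LK LD1_c0 LD2_c51 LD3_c38) Lrfl Lrfl
theorem f85231 : Led Lsl_ft (LP (LK LD1_c0 LD2_c51 LD3_c38)) = (LP (LK LD1_c1 LD2_c49 LD3_c38)) :=
  Lre_f IH (LK LD1_c0 LD2_c51 LD3_c38) (LK LD1_c1 LD2_c49 LD3_c38) Lrfl Lrfl
theorem f467638 : Led Lsl_cf (LP (LK LD1_c3 LD2_c39 LD3_c7)) = (LP (LK LD1_c1 LD2_c49 LD3_c38)) :=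
  Lgr Lrot108 (Lpr_ft (f467612 IH) (Lpr_ct (f85218 IH) (Lpr_ft (f85231 IH) (Lpn (LP (LK LD1_c1 LD2_c49 LD3_c38))))))
theorem f450999 : Led Lsl_bt (LP (LK LD1_c0 LD2_c22 LD3_c53)) = (LP (LK LD1_c0 LD2_c50 LD3_c40)) :=
  Lre_b IH (LK LD1_c0 LD2_c22 LD3_c53) (LK LD1_c0 LD2_c50 LD3_c40) Lrfl Lrfl
theorem f467667 : v774 = (LP (LK LD1_c0 LD2_c51 LD3_c57)) :=
  (Llr Lrot164 (Lpe (f457176 IH) (Lpe (f450999 IH) (Lpq (K24.f456258 IH) (Lpe (K24.f451503 IH) (Lpe (K24.f447641 IH) (Lpe (K2.f5318 IH) (Lpe (K24.f4033 IH) (Lpe (f4035 IH) (Lpr_ct (f5323 IH) (Lpe (f5329 IH) (Lpr_cf (f467638 IH) (Lpr_bt (K3.f85228 IH) (Lpn (LP (LK LD1_c0 LD2_c51 LD3_c57)))))))))))))))).symm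
theorem f467668 : v784 = (LP (LK LD1_c1 LD2_c41 LD3_c35)) :=
  Lefun (Lecon (f459362 IH) (f467667 IH)) (Lfl_gf (f440739 IH))
theorem f459359 : Led Lsl_af (LP (LK LD1_c0 LD2_c50 LD3_c43)) = v784 :=
  Lgr Lrot0 (Lpr_at (f459358 IH) (Lpn v784))
theorem f467669 : Led Lsl_at (LP (LK LD1_c1 LD2_c41 LD3_c35)) = (LP (LK LD1_c0 LD2_c50 LD3_c43)) :=
  Leop (Lpr_af (f459359 IH) (Lpqs (f467668 IH) (Lpn (LP (LK LD1_c1 LD2_c41 LD3_c35)))))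
theorem seed_66 : LEOK LG_a (LK LD1_c1 LD2_c41 LD3_c35) :=
  Leoe_a (LK LD1_c1 LD2_c41 LD3_c35) (f467669 IH)
def v219 : LQ := Led Lsl_ct (LP (LK LD1_c0 LD2_c24 LD3_c4))
theorem f451173 : Led Lsl_ct (LP (LK LD1_c0 LD2_c24 LD3_c4)) = v219 :=
  Lrfl
theorem f455975 : (LP (LK LD1_c0 LD2_c22 LD3_c14)) = v219 :=
  Lefun (Lecon (Lfl_cf (K24.f450911 IH)) (K24.f455974 IH)) (f451173 IH)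
theorem f5925 : Led Lsl_dt (LP (LK LD1_c0 LD2_c22 LD3_c15)) = (LP (LK LD1_c0 LD2_c9 LD3_c61)) :=
  Lre_d IH (LK LD1_c0 LD2_c22 LD3_c15) (LK LD1_c0 LD2_c9 LD3_c61) Lrfl Lrfl
theorem f5914 : Led Lsl_dt (LP (LK LD1_c0 LD2_c9 LD3_c61)) = (LP (LK LD1_c0 LD2_c22 LD3_c15)) :=
  Lre_d IH (LK LD1_c0 LD2_c9 LD3_c61) (LK LD1_c0 LD2_c22 LD3_c15) Lrfl Lrfl
theorem f10122 : Led Lsl_at (LP (LK LD1_c0 LD2_c9 LD3_c61)) = (LP (LK LD1_c0 LD2_c9 LD3_c61)) :=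
  Lgr Lrot51 (Lpe (f5925 IH) (Lpr_af (K0.f10097 IH) (Lpe (f5914 IH) (Lpn (LP (LK LD1_c0 LD2_c9 LD3_c61))))))
theorem f10898 : Led Lsl_gt (LP (LK LD1_c0 LD2_c22 LD3_c16)) = (LP (LK LD1_c0 LD2_c22 LD3_c14)) :=
  Lgr Lrot5 (Lpr_ft (K0.f5967 IH) (Lpr_at (f10122 IH) (Lpe (K24.f5939 IH) (Lpn (LP (LK LD1_c0 LD2_c22 LD3_c14))))))
theorem f10163 : Led Lsl_bt (LP (LK LD1_c0 LD2_c48 LD3_c39)) = (LP (LK LD1_c0 LD2_c21 LD3_c46)) :=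
  Lre_b IH (LK LD1_c0 LD2_c48 LD3_c39) (LK LD1_c0 LD2_c21 LD3_c46) Lrfl Lrfl
theorem f10168 : Led Lsl_ct (LP (LK LD1_c0 LD2_c48 LD3_c39)) = (LP (LK LD1_c1 LD2_c44 LD3_c11)) :=
  Lre_c IH (LK LD1_c0 LD2_c48 LD3_c39) (LK LD1_c1 LD2_c44 LD3_c11) Lrfl Lrfl
def v218 : LQ := Led Lsl_bt (LP (LK LD1_c0 LD2_c24 LD3_c4))
theorem f451171 : Led Lsl_bt (LP (LK LD1_c0 LD2_c24 LD3_c4)) = v218 :=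
  Lrfl
def v852 : LQ := Led Lsl_at (LP (LK LD1_c0 LD2_c52 LD3_c33))
theorem f459782 : Led Lsl_at (LP (LK LD1_c0 LD2_c52 LD3_c33)) = v852 :=
  Lrfl
theorem f459783 : Led Lsl_af (LP (LK LD1_c0 LD2_c52 LD3_c33)) = v852 :=
  Lgr Lrot0 (Lpr_at (f459782 IH) (Lpn v852))
theorem f62688 : Led Lsl_gt (LP (LK LD1_c0 LD2_c52 LD3_c34)) = (LP (LK LD1_c0 LD2_c23 LD3_c45)) :=
  Lre_g IH (LK LD1_c0 LD2_c52 LD3_c34) (LK LD1_c0 LD2_c23 LD3_c45) Lrfl Lrfl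
theorem f459784 : Led Lsl_ft (LP (LK LD1_c0 LD2_c52 LD3_c34)) = v852 :=
  Lgr Lrot2 (Lpr_gt (f62688 IH) (Lpr_gt (K5.f62691 IH) (Lpr_af (f459783 IH) (Lpn v852))))
theorem f459787 : Led Lsl_ff (LP (LK LD1_c0 LD2_c52 LD3_c34)) = v852 :=
  Lgr Lrot3 (Lpr_ft (f459784 IH) (Lpn v852))
theorem f451172 : Led Lsl_bf (LP (LK LD1_c0 LD2_c24 LD3_c4)) = v218 :=
  Lgr Lrot24 (Lpr_bt (f451171 IH) (Lpn v218))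
theorem f451016 : Led Lsl_bt (LP (LK LD1_c0 LD2_c24 LD3_c3)) = (LP (LK LD1_c0 LD2_c53 LD3_c32)) :=
  Lre_b IH (LK LD1_c0 LD2_c24 LD3_c3) (LK LD1_c0 LD2_c53 LD3_c32) Lrfl Lrfl
theorem f457243 : Led Lsl_ff v218 = (LP (LK LD1_c0 LD2_c53 LD3_c32)) :=
  Lgr Lrot25 (Lpe (f451172 IH) (Lpq (K24.f455974 IH) (Lpq (K24.f457230 IH) (Lpe (K24.f451169 IH) (Lpr_bt (f451016 IH) (Lpn (LP (LK LD1_c0 LD2_c53 LD3_c32))))))))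
theorem f62978 : Led Lsl_et (LP (LK LD1_c1 LD2_c51 LD3_c4)) = (LP (LK LD1_c0 LD2_c52 LD3_c23)) :=
  Lre_e IH (LK LD1_c1 LD2_c51 LD3_c4) (LK LD1_c0 LD2_c52 LD3_c23) Lrfl Lrfl
theorem f62785 : Led Lsl_et (LP (LK LD1_c0 LD2_c52 LD3_c23)) = (LP (LK LD1_c1 LD2_c51 LD3_c4)) :=
  Lre_e IH (LK LD1_c0 LD2_c52 LD3_c23) (LK LD1_c1 LD2_c51 LD3_c4) Lrfl Lrfl
theorem f62786 : Led Lsl_et (LP (LK LD1_c0 LD2_c23 LD3_c55)) = (LP (LK LD1_c0 LD2_c53 LD3_c8)) :=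
  Lre_e IH (LK LD1_c0 LD2_c23 LD3_c55) (LK LD1_c0 LD2_c53 LD3_c8) Lrfl Lrfl
theorem f62723 : Led Lsl_dt (LP (LK LD1_c0 LD2_c53 LD3_c7)) = (LP (LK LD1_c0 LD2_c23 LD3_c55)) :=
  Lre_d IH (LK LD1_c0 LD2_c53 LD3_c7) (LK LD1_c0 LD2_c23 LD3_c55) Lrfl Lrfl
theorem f62787 : Led Lsl_et (LP (LK LD1_c1 LD2_c53 LD3_c5)) = (LP (LK LD1_c0 LD2_c53 LD3_c7)) :=
  Lre_e IH (LK LD1_c1 LD2_c53 LD3_c5) (LK LD1_c0 LD2_c53 LD3_c7) Lrfl Lrfl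
theorem f62788 : Led Lsl_dt (LP (LK LD1_c1 LD2_c51 LD3_c4)) = (LP (LK LD1_c1 LD2_c53 LD3_c5)) :=
  Lgr Lrot77 (Lpe (f62785 IH) (Lpr_df (K1.f62771 IH) (Lpe (f62786 IH) (Lpe (f62723 IH) (Lpe (f62787 IH) (Lpn (LP (LK LD1_c1 LD2_c53 LD3_c5))))))))
def v619 : LQ := Led Lsl_gt (LP (LK LD1_c0 LD2_c47 LD3_c21))
theorem f455530 : Led Lsl_gt (LP (LK LD1_c0 LD2_c47 LD3_c21)) = v619 :=
  Lrfl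
theorem f109661 : Led Lsl_ft (LP (LK LD1_c0 LD2_c47 LD3_c21)) = (LP (LK LD1_c1 LD2_c41 LD3_c36)) :=
  Lre_f IH (LK LD1_c0 LD2_c47 LD3_c21) (LK LD1_c1 LD2_c41 LD3_c36) Lrfl Lrfl
theorem f109662 : Led Lsl_at (LP (LK LD1_c1 LD2_c41 LD3_c36)) = (LP (LK LD1_c0 LD2_c51 LD3_c57)) :=
  Lgr Lrot33 (Lpe (f109661 IH) (Lpr_dt (K3.f95977 IH) (Lpr_ct (K3.f64681 IH) (Lpr_dt (K3.f64644 IH) (Lpr_ct (K3.f64703 IH) (Lpr_dt (K3.f109651 IH) (Lpr_ct (K3.f85239 IH) (Lpr_dt (K3.f85238 IH) (Lpr_ct (K3.f85237 IH) (Lpn (LP (LK LD1_c0 LD2_c51 LD3_c57))))))))))))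
theorem f455531 : Led Lsl_gf (LP (LK LD1_c0 LD2_c51 LD3_c57)) = v619 :=
  Lgr Lrot76 (Lpe (f109662 IH) (Lpe (f109661 IH) (Lpr_gt (f455530 IH) (Lpn v619))))
theorem f467674 : (LP (LK LD1_c0 LD2_c50 LD3_c40)) = v619 :=
  Lefun (Lecon (Lfl_gt (f457176 IH)) (f467667 IH)) (f455531 IH)
theorem f451585 : Led Lsl_dt (LP (LK LD1_c0 LD2_c50 LD3_c40)) = (LP (LK LD1_c1 LD2_c47 LD3_c55)) :=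
  Lre_d IH (LK LD1_c0 LD2_c50 LD3_c40) (LK LD1_c1 LD2_c47 LD3_c55) Lrfl Lrfl
theorem f467679 : Led Lsl_gf (LP (LK LD1_c1 LD2_c53 LD3_c5)) = (LP (LK LD1_c1 LD2_c47 LD3_c55)) :=
  Lgr Lrot134 (Lpe (f62788 IH) (Lpr_et (f62978 IH) (Lpr_gt (K1.f62791 IH) (Lpe (K24.f62980 IH) (Lpr_dt (K3.f12053 IH) (Lpr_gt (K3.f95960 IH) (Lpe (K3.f95735 IH) (Lpr_et (K3.f95970 IH) (Lpr_gt (f455530 IH) (Lpq (f467674 IH) (Lpr_dt (f451585 IH) (Lpn (LP (LK LD1_c1 LD2_c47 LD3_c55))))))))))))))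
theorem f62724 : Led Lsl_et (LP (LK LD1_c0 LD2_c53 LD3_c7)) = (LP (LK LD1_c1 LD2_c53 LD3_c5)) :=
  Lre_e IH (LK LD1_c0 LD2_c53 LD3_c7) (LK LD1_c1 LD2_c53 LD3_c5) Lrfl Lrfl
theorem f62725 : Led Lsl_et (LP (LK LD1_c0 LD2_c52 LD3_c33)) = (LP (LK LD1_c1 LD2_c51 LD3_c29)) :=
  Lre_e IH (LK LD1_c0 LD2_c52 LD3_c33) (LK LD1_c1 LD2_c51 LD3_c29) Lrfl Lrfl
theorem f62726 : Led Lsl_gt (LP (LK LD1_c1 LD2_c53 LD3_c5)) = (LP (LK LD1_c1 LD2_c51 LD3_c29)) :=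
  Lgr Lrot131 (Lpe (f62724 IH) (Lpr_dt (f62723 IH) (Lpe (K1.f62722 IH) (Lpe (K24.f62721 IH) (Lpe (K1.f62683 IH) (Lpe (K5.f62694 IH) (Lpr_dt (K5.f62695 IH) (Lpr_gf (K5.f62697 IH) (Lpe (K5.f62696 IH) (Lpr_et (f62725 IH) (Lpn (LP (LK LD1_c1 LD2_c51 LD3_c29)))))))))))))
def v785 : LQ := Led Lsl_dt (LP (LK LD1_c0 LD2_c50 LD3_c43))
theorem f459366 : Led Lsl_dt (LP (LK LD1_c0 LD2_c50 LD3_c43)) = v785 :=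
  Lrfl
theorem f451583 : Led Lsl_dt (LP (LK LD1_c1 LD2_c47 LD3_c55)) = (LP (LK LD1_c0 LD2_c50 LD3_c40)) :=
  Lre_d IH (LK LD1_c1 LD2_c47 LD3_c55) (LK LD1_c0 LD2_c50 LD3_c40) Lrfl Lrfl
theorem f459369 : Led Lsl_ff (LP (LK LD1_c1 LD2_c47 LD3_c55)) = v785 :=
  Lgr Lrot19 (Lpr_dt (f451583 IH) (Lpr_ft (f457184 IH) (Lpqs (f457215 IH) (Lpr_dt (f459366 IH) (Lpn v785)))))
theorem f459371 : Led Lsl_ft (LP (LK LD1_c1 LD2_c47 LD3_c55)) = v785 :=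
  Lgr Lrot48 (Lpr_ff (f459369 IH) (Lpn v785))
theorem f467681 : Led Lsl_af (LP (LK LD1_c1 LD2_c51 LD3_c29)) = v785 :=
  Lgr Lrot31 (Lpe (f62726 IH) (Lpr_gf (f467679 IH) (Lpr_ft (f459371 IH) (Lpn v785))))
theorem f62692 : Led Lsl_et (LP (LK LD1_c1 LD2_c51 LD3_c29)) = (LP (LK LD1_c0 LD2_c52 LD3_c33)) :=
  Lre_e IH (LK LD1_c1 LD2_c51 LD3_c29) (LK LD1_c0 LD2_c52 LD3_c33) Lrfl Lrfl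
theorem f451334 : Led Lsl_bt (LP (LK LD1_c1 LD2_c47 LD3_c55)) = (LP (LK LD1_c0 LD2_c50 LD3_c41)) :=
  Lre_b IH (LK LD1_c1 LD2_c47 LD3_c55) (LK LD1_c0 LD2_c50 LD3_c41) Lrfl Lrfl
theorem f459370 : Led Lsl_bt K24.v195 = v785 :=
  Lgr Lrot35 (Lpr_ff (K24.f457193 IH) (Lpqs (K24.f457203 IH) (Lpe (f451334 IH) (Lpr_ff (f459369 IH) (Lpn v785)))))
theorem f145392 : Led Lsl_bt (LP (LK LD1_c0 LD2_c53 LD3_c32)) = (LP (LK LD1_c0 LD2_c24 LD3_c3)) :=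
  Lre_b IH (LK LD1_c0 LD2_c53 LD3_c32) (LK LD1_c0 LD2_c24 LD3_c3) Lrfl Lrfl
theorem f459372 : Led Lsl_ef (LP (LK LD1_c0 LD2_c53 LD3_c32)) = v785 :=
  Lgr Lrot29 (Lpr_bt (f145392 IH) (Lpr_et (K24.f451017 IH) (Lpr_bt (f459370 IH) (Lpn v785))))
theorem f459373 : Led Lsl_et (LP (LK LD1_c0 LD2_c53 LD3_c32)) = v785 :=
  Lgr Lrot87 (Lpr_ef (f459372 IH) (Lpn v785))
theorem f467687 : v852 = (LP (LK LD1_c0 LD2_c53 LD3_c32)) :=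
  (Llr Lrot80 (Lpe (f459782 IH) (Lpe (f62692 IH) (Lpr_af (f467681 IH) (Lpe (f459373 IH) (Lpn (LP (LK LD1_c0 LD2_c53 LD3_c32)))))))).symm
theorem f467690 : (LP (LK LD1_c0 LD2_c52 LD3_c34)) = v218 :=
  Lefun (Lecon (Lfl_ff (f459787 IH)) (f467687 IH)) (Lfl_ff (f457243 IH))
theorem f88637 : Led Lsl_bt (LP (LK LD1_c0 LD2_c52 LD3_c27)) = (LP (LK LD1_c0 LD2_c23 LD3_c45)) :=
  Lre_b IH (LK LD1_c0 LD2_c52 LD3_c27) (LK LD1_c0 LD2_c23 LD3_c45) Lrfl Lrfl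
theorem f89868 : Led Lsl_ct (LP (LK LD1_c0 LD2_c52 LD3_c27)) = (LP (LK LD1_c1 LD2_c51 LD3_c8)) :=
  Lre_c IH (LK LD1_c0 LD2_c52 LD3_c27) (LK LD1_c1 LD2_c51 LD3_c8) Lrfl Lrfl
theorem f467907 : Led Lsl_gf (LP (LK LD1_c1 LD2_c44 LD3_c11)) = (LP (LK LD1_c1 LD2_c51 LD3_c8)) :=
  Lgr Lrot126 (Lpe (f10168 IH) (Lpr_bt (f10163 IH) (Lpr_gt (K24.f10160 IH) (Lpe (K0.f5951 IH) (Lpr_gt (f10898 IH) (Lpqs (f455975 IH) (Lpe (f451173 IH) (Lpr_bt (f451171 IH) (Lpq (f467690 IH) (Lpr_gt (f62688 IH) (Lpe (f88637 IH) (Lpr_ct (f89868 IH) (Lpn (LP (LK LD1_c1 LD2_c51 LD3_c8)))))))))))))))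
theorem f5948 : Led Lsl_ct (LP (LK LD1_c0 LD2_c48 LD3_c30)) = (LP (LK LD1_c1 LD2_c43 LD3_c41)) :=
  Lre_c IH (LK LD1_c0 LD2_c48 LD3_c30) (LK LD1_c1 LD2_c43 LD3_c41) Lrfl Lrfl
theorem f5987 : Led Lsl_gt (LP (LK LD1_c1 LD2_c43 LD3_c41)) = (LP (LK LD1_c3 LD2_c32 LD3_c50)) :=
  Lre_g IH (LK LD1_c1 LD2_c43 LD3_c41) (LK LD1_c3 LD2_c32 LD3_c50) Lrfl Lrfl
theorem f459776 : Led Lsl_bt (LP (LK LD1_c3 LD2_c48 LD3_c17)) = (LP (LK LD1_c1 LD2_c51 LD3_c10)) :=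
  Lre_b IH (LK LD1_c3 LD2_c48 LD3_c17) (LK LD1_c1 LD2_c51 LD3_c10) Lrfl Lrfl
theorem f467915 : Led Lsl_cf (LP (LK LD1_c3 LD2_c32 LD3_c50)) = (LP (LK LD1_c3 LD2_c48 LD3_c17)) :=
  Lgr Lrot58 (Lpe (f5987 IH) (Lpe (f5948 IH) (Lpr_bt (K0.f5962 IH) (Lpe (K24.f10160 IH) (Lpe (f10163 IH) (Lpr_ct (f10168 IH) (Lpr_gf (f467907 IH) (Lpe (f89868 IH) (Lpe (K24.f84664 IH) (Lpe (f459776 IH) (Lpn (LP (LK LD1_c3 LD2_c48 LD3_c17)))))))))))))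
theorem f10645 : Led Lsl_gt (LP (LK LD1_c3 LD2_c32 LD3_c50)) = (LP (LK LD1_c1 LD2_c43 LD3_c6)) :=
  Lre_g IH (LK LD1_c3 LD2_c32 LD3_c50) (LK LD1_c1 LD2_c43 LD3_c6) Lrfl Lrfl
theorem f10636 : Led Lsl_ct (LP (LK LD1_c0 LD2_c48 LD3_c12)) = (LP (LK LD1_c1 LD2_c43 LD3_c6)) :=
  Lre_c IH (LK LD1_c0 LD2_c48 LD3_c12) (LK LD1_c1 LD2_c43 LD3_c6) Lrfl Lrfl
theorem f10169 : Led Lsl_at (LP (LK LD1_c0 LD2_c21 LD3_c41)) = (LP (LK LD1_c0 LD2_c48 LD3_c12)) :=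
  Lre_a IH (LK LD1_c0 LD2_c21 LD3_c41) (LK LD1_c0 LD2_c48 LD3_c12) Lrfl Lrfl
theorem f10170 : Led Lsl_at (LP (LK LD1_c0 LD2_c48 LD3_c12)) = (LP (LK LD1_c0 LD2_c21 LD3_c41)) :=
  Lre_a IH (LK LD1_c0 LD2_c48 LD3_c12) (LK LD1_c0 LD2_c21 LD3_c41) Lrfl Lrfl
theorem f10171 : Led Lsl_bt (LP (LK LD1_c0 LD2_c48 LD3_c12)) = (LP (LK LD1_c0 LD2_c48 LD3_c12)) :=
  Lgr Lrot62 (Lpe (f10169 IH) (Lpe (K24.f5935 IH) (Lpr_af (K0.f10158 IH) (Lpe (K24.f5908 IH) (Lpe (f10170 IH) (Lpn (LP (LK LD1_c0 LD2_c48 LD3_c12))))))))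
theorem f10827 : Led Lsl_ct (LP (LK LD1_c1 LD2_c43 LD3_c7)) = (LP (LK LD1_c3 LD2_c32 LD3_c53)) :=
  Lre_c IH (LK LD1_c1 LD2_c43 LD3_c7) (LK LD1_c3 LD2_c32 LD3_c53) Lrfl Lrfl
theorem f10828 : Led Lsl_gt (LP (LK LD1_c3 LD2_c32 LD3_c53)) = (LP (LK LD1_c7 LD2_c6 LD3_c43)) :=
  Lre_g IH (LK LD1_c3 LD2_c32 LD3_c53) (LK LD1_c7 LD2_c6 LD3_c43) Lrfl Lrfl
theorem f90047 : Led Lsl_gt (LP (LK LD1_c3 LD2_c48 LD3_c10)) = (LP (LK LD1_c1 LD2_c51 LD3_c10)) :=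
  Lre_g IH (LK LD1_c3 LD2_c48 LD3_c10) (LK LD1_c1 LD2_c51 LD3_c10) Lrfl Lrfl
theorem f456477 : Led Lsl_et (LP (LK LD1_c3 LD2_c41 LD3_c46)) = (LP (LK LD1_c1 LD2_c47 LD3_c46)) :=
  Lre_e IH (LK LD1_c3 LD2_c41 LD3_c46) (LK LD1_c1 LD2_c47 LD3_c46) Lrfl Lrfl
theorem f87164 : Led Lsl_et (LP (LK LD1_c0 LD2_c52 LD3_c38)) = (LP (LK LD1_c0 LD2_c23 LD3_c46)) :=
  Lre_e IH (LK LD1_c0 LD2_c52 LD3_c38) (LK LD1_c0 LD2_c23 LD3_c46) Lrfl Lrfl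
theorem f87128 : Led Lsl_dt (LP (LK LD1_c0 LD2_c52 LD3_c38)) = (LP (LK LD1_c1 LD2_c51 LD3_c39)) :=
  Lre_d IH (LK LD1_c0 LD2_c52 LD3_c38) (LK LD1_c1 LD2_c51 LD3_c39) Lrfl Lrfl
theorem f87173 : Led Lsl_gt (LP (LK LD1_c3 LD2_c49 LD3_c14)) = (LP (LK LD1_c1 LD2_c51 LD3_c39)) :=
  Lre_g IH (LK LD1_c3 LD2_c49 LD3_c14) (LK LD1_c1 LD2_c51 LD3_c39) Lrfl Lrfl
theorem f467407 : Led Lsl_dt (LP (LK LD1_c3 LD2_c41 LD3_c46)) = (LP (LK LD1_c3 LD2_c49 LD3_c14)) :=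
  Lgr Lrot136 (Lpr_et (f456477 IH) (Lpr_gf (f467381 IH) (Lpe (f109468 IH) (Lpr_dt (f109458 IH) (Lpe (K2.f5754 IH) (Lpe (K0.f5711 IH) (Lpr_gf (K3.f92520 IH) (Lpe (f87164 IH) (Lpr_dt (f87128 IH) (Lpe (f87173 IH) (Lpn (LP (LK LD1_c3 LD2_c49 LD3_c14)))))))))))))
theorem f6666 : Led Lsl_gt (LP (LK LD1_c3 LD2_c33 LD3_c50)) = (LP (LK LD1_c7 LD2_c8 LD3_c36)) :=
  Lre_g IH (LK LD1_c3 LD2_c33 LD3_c50) (LK LD1_c7 LD2_c8 LD3_c36) Lrfl Lrfl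
theorem f467413 : Led Lsl_gt (LP (LK LD1_c7 LD2_c39 LD3_c10)) = (LP (LK LD1_c3 LD2_c49 LD3_c14)) :=
  Lre_g IH (LK LD1_c7 LD2_c39 LD3_c10) (LK LD1_c3 LD2_c49 LD3_c14) Lrfl Lrfl
theorem f467414 : Led Lsl_dt (LP (LK LD1_c3 LD2_c49 LD3_c3)) = (LP (LK LD1_c7 LD2_c39 LD3_c10)) :=
  Lre_d IH (LK LD1_c3 LD2_c49 LD3_c3) (LK LD1_c7 LD2_c39 LD3_c10) Lrfl Lrfl
theorem f467415 : Led Lsl_ef (LP (LK LD1_c7 LD2_c8 LD3_c36)) = (LP (LK LD1_c3 LD2_c49 LD3_c3)) :=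
  Lgr Lrot17 (Lpe (f6666 IH) (Lpe (f466684 IH) (Lpe (f467366 IH) (Lpr_gf (f467374 IH) (Lpe (f440657 IH) (Lpe (f467378 IH) (Lpe (f456477 IH) (Lpr_dt (f467407 IH) (Lpe (f467413 IH) (Lpe (f467414 IH) (Lpn (LP (LK LD1_c3 LD2_c49 LD3_c3)))))))))))))
theorem f87158 : Led Lsl_ft (LP (LK LD1_c1 LD2_c51 LD3_c33)) = (LP (LK LD1_c3 LD2_c49 LD3_c3)) :=
  Lre_f IH (LK LD1_c1 LD2_c51 LD3_c33) (LK LD1_c3 LD2_c49 LD3_c3) Lrfl Lrfl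
theorem f467421 : Led Lsl_ft (LP (LK LD1_c7 LD2_c8 LD3_c36)) = (LP (LK LD1_c3 LD2_c35 LD3_c35)) :=
  Lgr Lrot86 (Lpr_ef (f467415 IH) (Lpe (f87158 IH) (Lpe (K3.f87145 IH) (Lpe (K3.f87156 IH) (Lpe (K3.f17499 IH) (Lpn (LP (LK LD1_c3 LD2_c35 LD3_c35))))))))
theorem f467426 : Led Lsl_ff (LP (LK LD1_c7 LD2_c8 LD3_c36)) = (LP (LK LD1_c3 LD2_c35 LD3_c35)) :=
  Lgr Lrot3 (Lpr_ft (f467421 IH) (Lpn (LP (LK LD1_c3 LD2_c35 LD3_c35))))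
theorem f88635 : Led Lsl_ft (LP (LK LD1_c3 LD2_c48 LD3_c10)) = (LP (LK LD1_c1 LD2_c51 LD3_c5)) :=
  Lre_f IH (LK LD1_c3 LD2_c48 LD3_c10) (LK LD1_c1 LD2_c51 LD3_c5) Lrfl Lrfl
theorem f467428 : Led Lsl_bt (LP (LK LD1_c7 LD2_c8 LD3_c36)) = (LP (LK LD1_c3 LD2_c48 LD3_c10)) :=
  Lgr Lrot35 (Lpr_ff (f467426 IH) (Lpe (K2.f88630 IH) (Lpe (f88635 IH) (Lpn (LP (LK LD1_c3 LD2_c48 LD3_c10))))))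
theorem f467932 : Led Lsl_cf (LP (LK LD1_c7 LD2_c6 LD3_c43)) = (LP (LK LD1_c7 LD2_c8 LD3_c36)) :=
  Lgr Lrot163 (Lpe (f10828 IH) (Lpe (f10827 IH) (Lpe (K3.f10305 IH) (Lpe (f10171 IH) (Lpr_ct (f10636 IH) (Lpe (f10645 IH) (Lpr_cf (f467915 IH) (Lpr_bt (f459776 IH) (Lpe (f90047 IH) (Lpe (f467428 IH) (Lpn (LP (LK LD1_c7 LD2_c8 LD3_c36)))))))))))))
theorem f467938 : Led Lsl_ft (LP (LK LD1_c7 LD2_c6 LD3_c43)) = (LP (LK LD1_c3 LD2_c33 LD3_c3)) :=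
  Lgr Lrot4 (Lpr_cf (f467932 IH) (Lpr_ff (f467426 IH) (Lpr_cf (K3.f96959 IH) (Lpn (LP (LK LD1_c3 LD2_c33 LD3_c3))))))
theorem f467951 : Led Lsl_ff (LP (LK LD1_c7 LD2_c6 LD3_c43)) = (LP (LK LD1_c3 LD2_c33 LD3_c3)) :=
  Lgr Lrot3 (Lpr_ft (f467938 IH) (Lpn (LP (LK LD1_c3 LD2_c33 LD3_c3))))
theorem f97292 : Led Lsl_ef (LP (LK LD1_c1 LD2_c46 LD3_c27)) = (LP (LK LD1_c1 LD2_c43 LD3_c7)) :=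
  Lgr Lrot88 (Lpr_et (K3.f97286 IH) (Lpn (LP (LK LD1_c1 LD2_c43 LD3_c7))))
theorem f4412 : Led Lsl_ct (LP (LK LD1_c1 LD2_c46 LD3_c27)) = (LP (LK LD1_c3 LD2_c39 LD3_c1)) :=
  Lre_c IH (LK LD1_c1 LD2_c46 LD3_c27) (LK LD1_c3 LD2_c39 LD3_c1) Lrfl Lrfl
theorem f6626 : Led Lsl_ct (LP (LK LD1_c3 LD2_c32 LD3_c53)) = (LP (LK LD1_c1 LD2_c43 LD3_c7)) :=
  Lre_c IH (LK LD1_c3 LD2_c32 LD3_c53) (LK LD1_c1 LD2_c43 LD3_c7) Lrfl Lrfl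
theorem f442108 : Led Lsl_et (LP (LK LD1_c3 LD2_c39 LD3_c1)) = (LP (LK LD1_c3 LD2_c32 LD3_c53)) :=
  Lgr Lrot158 (Lpe (f4412 IH) (Lpr_ef (f97292 IH) (Lpe (f6626 IH) (Lpn (LP (LK LD1_c3 LD2_c32 LD3_c53))))))
theorem f4438 : Led Lsl_dt (LP (LK LD1_c3 LD2_c39 LD3_c1)) = (LP (LK LD1_c7 LD2_c18 LD3_c31)) :=
  Lre_d IH (LK LD1_c3 LD2_c39 LD3_c1) (LK LD1_c7 LD2_c18 LD3_c31) Lrfl Lrfl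
theorem f4411 : Led Lsl_dt (LP (LK LD1_c0 LD2_c49 LD3_c56)) = (LP (LK LD1_c1 LD2_c46 LD3_c27)) :=
  Lre_d IH (LK LD1_c0 LD2_c49 LD3_c56) (LK LD1_c1 LD2_c46 LD3_c27) Lrfl Lrfl
theorem f4413 : Led Lsl_dt (LP (LK LD1_c7 LD2_c18 LD3_c31)) = (LP (LK LD1_c3 LD2_c39 LD3_c1)) :=
  Lre_d IH (LK LD1_c7 LD2_c18 LD3_c31) (LK LD1_c3 LD2_c39 LD3_c1) Lrfl Lrfl
theorem f4274 : Led Lsl_ct (LP (LK LD1_c1 LD2_c46 LD3_c22)) = (LP (LK LD1_c0 LD2_c49 LD3_c55)) :=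
  Lre_c IH (LK LD1_c1 LD2_c46 LD3_c22) (LK LD1_c0 LD2_c49 LD3_c55) Lrfl Lrfl
theorem f4414 : Led Lsl_gt (LP (LK LD1_c1 LD2_c46 LD3_c22)) = (LP (LK LD1_c3 LD2_c38 LD3_c53)) :=
  Lre_g IH (LK LD1_c1 LD2_c46 LD3_c22) (LK LD1_c3 LD2_c38 LD3_c53) Lrfl Lrfl
theorem f4415 : Led Lsl_dt (LP (LK LD1_c3 LD2_c38 LD3_c53)) = (LP (LK LD1_c7 LD2_c18 LD3_c7)) :=
  Lre_d IH (LK LD1_c3 LD2_c38 LD3_c53) (LK LD1_c7 LD2_c18 LD3_c7) Lrfl Lrfl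
theorem f4416 : Led Lsl_gf (LP (LK LD1_c7 LD2_c18 LD3_c31)) = (LP (LK LD1_c7 LD2_c18 LD3_c7)) :=
  Lgr Lrot143 (Lpr_dt (f4413 IH) (Lpe (f4412 IH) (Lpe (f4411 IH) (Lpe (K3.f4410 IH) (Lpr_df (K3.f4045 IH) (Lpe (K3.f4273 IH) (Lpe (f4274 IH) (Lpr_gt (f4414 IH) (Lpr_dt (f4415 IH) (Lpn (LP (LK LD1_c7 LD2_c18 LD3_c7))))))))))))
theorem f4440 : Led Lsl_et (LP (LK LD1_c3 LD2_c38 LD3_c56)) = (LP (LK LD1_c1 LD2_c46 LD3_c22)) :=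
  Lre_e IH (LK LD1_c3 LD2_c38 LD3_c56) (LK LD1_c1 LD2_c46 LD3_c22) Lrfl Lrfl
theorem f4441 : Led Lsl_dt (LP (LK LD1_c3 LD2_c38 LD3_c56)) = (LP (LK LD1_c7 LD2_c18 LD3_c17)) :=
  Lre_d IH (LK LD1_c3 LD2_c38 LD3_c56) (LK LD1_c7 LD2_c18 LD3_c17) Lrfl Lrfl
theorem f97300 : Led Lsl_df (LP (LK LD1_c1 LD2_c46 LD3_c24)) = (LP (LK LD1_c3 LD2_c36 LD3_c26)) :=
  Lgr Lrot38 (Lpr_dt (K3.f97294 IH) (Lpn (LP (LK LD1_c3 LD2_c36 LD3_c26))))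
theorem f442094 : Led Lsl_ct (LP (LK LD1_c1 LD2_c46 LD3_c24)) = (LP (LK LD1_c3 LD2_c38 LD3_c56)) :=
  Lre_c IH (LK LD1_c1 LD2_c46 LD3_c24) (LK LD1_c3 LD2_c38 LD3_c56) Lrfl Lrfl
theorem f97298 : Led Lsl_dt (LP (LK LD1_c7 LD2_c18 LD3_c17)) = (LP (LK LD1_c3 LD2_c38 LD3_c56)) :=
  Lre_d IH (LK LD1_c7 LD2_c18 LD3_c17) (LK LD1_c3 LD2_c38 LD3_c56) Lrfl Lrfl
theorem f5959 : Led Lsl_gt (LP (LK LD1_c1 LD2_c45 LD3_c1)) = (LP (LK LD1_c0 LD2_c49 LD3_c28)) :=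
  Lre_g IH (LK LD1_c1 LD2_c45 LD3_c1) (LK LD1_c0 LD2_c49 LD3_c28) Lrfl Lrfl
theorem f5995 : Led Lsl_ct (LP (LK LD1_c3 LD2_c36 LD3_c24)) = (LP (LK LD1_c1 LD2_c45 LD3_c1)) :=
  Lre_c IH (LK LD1_c3 LD2_c36 LD3_c24) (LK LD1_c1 LD2_c45 LD3_c1) Lrfl Lrfl
theorem f10694 : Led Lsl_gt (LP (LK LD1_c3 LD2_c36 LD3_c24)) = (LP (LK LD1_c7 LD2_c13 LD3_c8)) :=
  Lre_g IH (LK LD1_c3 LD2_c36 LD3_c24) (LK LD1_c7 LD2_c13 LD3_c8) Lrfl Lrfl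
theorem f442095 : Led Lsl_dt (LP (LK LD1_c7 LD2_c13 LD3_c8)) = (LP (LK LD1_c13 LD2_c39 LD3_c58)) :=
  Lre_d IH (LK LD1_c7 LD2_c13 LD3_c8) (LK LD1_c13 LD2_c39 LD3_c58) Lrfl Lrfl
theorem f442096 : Led Lsl_gf (LP (LK LD1_c7 LD2_c18 LD3_c17)) = (LP (LK LD1_c13 LD2_c39 LD3_c58)) :=
  Lgr Lrot143 (Lpr_dt (f97298 IH) (Lpe (f442094 IH) (Lpr_df (f97300 IH) (Lpe (K3.f10209 IH) (Lpe (K3.f10208 IH) (Lpe (f5959 IH) (Lpe (f5995 IH) (Lpr_gt (f10694 IH) (Lpr_dt (f442095 IH) (Lpn (LP (LK LD1_c13 LD2_c39 LD3_c58))))))))))))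
theorem f442118 : Led Lsl_et (LP (LK LD1_c7 LD2_c13 LD3_c8)) = (LP (LK LD1_c7 LD2_c6 LD3_c43)) :=
  Lgr Lrot122 (Lpr_dt (f442095 IH) (Lpe (f442096 IH) (Lpe (f4441 IH) (Lpr_et (f4440 IH) (Lpr_gt (f4414 IH) (Lpr_dt (f4415 IH) (Lpe (f4416 IH) (Lpe (f4438 IH) (Lpr_et (f442108 IH) (Lpr_gt (f10828 IH) (Lpn (LP (LK LD1_c7 LD2_c6 LD3_c43)))))))))))))
theorem f442124 : Led Lsl_ef (LP (LK LD1_c7 LD2_c13 LD3_c8)) = (LP (LK LD1_c7 LD2_c6 LD3_c43)) :=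
  Lgr Lrot88 (Lpr_et (f442118 IH) (Lpn (LP (LK LD1_c7 LD2_c6 LD3_c43))))
theorem f97014 : Led Lsl_et (LP (LK LD1_c3 LD2_c36 LD3_c34)) = (LP (LK LD1_c1 LD2_c45 LD3_c8)) :=
  Lre_e IH (LK LD1_c3 LD2_c36 LD3_c34) (LK LD1_c1 LD2_c45 LD3_c8) Lrfl Lrfl
theorem f467962 : Led Lsl_ft (LP (LK LD1_c7 LD2_c13 LD3_c8)) = (LP (LK LD1_c3 LD2_c36 LD3_c34)) :=
  Lgr Lrot86 (Lpr_ef (f442124 IH) (Lpr_ff (f467951 IH) (Lpe (K3.f96938 IH) (Lpe (K3.f97006 IH) (Lpe (f97014 IH) (Lpn (LP (LK LD1_c3 LD2_c36 LD3_c34))))))))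
theorem f442101 : Led Lsl_dt (LP (LK LD1_c13 LD2_c39 LD3_c58)) = (LP (LK LD1_c7 LD2_c13 LD3_c8)) :=
  Lre_d IH (LK LD1_c13 LD2_c39 LD3_c58) (LK LD1_c7 LD2_c13 LD3_c8) Lrfl Lrfl
theorem f97038 : Led Lsl_dt (LP (LK LD1_c3 LD2_c36 LD3_c34)) = (LP (LK LD1_c7 LD2_c13 LD3_c28)) :=
  Lre_d IH (LK LD1_c3 LD2_c36 LD3_c34) (LK LD1_c7 LD2_c13 LD3_c28) Lrfl Lrfl
theorem f467966 : Led Lsl_ff (LP (LK LD1_c13 LD2_c39 LD3_c58)) = (LP (LK LD1_c7 LD2_c13 LD3_c28)) :=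
  Lgr Lrot19 (Lpr_dt (f442101 IH) (Lpr_ft (f467962 IH) (Lpr_dt (f97038 IH) (Lpn (LP (LK LD1_c7 LD2_c13 LD3_c28))))))
theorem f467968 : Led Lsl_ft (LP (LK LD1_c13 LD2_c39 LD3_c58)) = (LP (LK LD1_c7 LD2_c13 LD3_c28)) :=
  Lgr Lrot48 (Lpr_ff (f467966 IH) (Lpn (LP (LK LD1_c7 LD2_c13 LD3_c28))))
theorem f97919 : Led Lsl_et (LP (LK LD1_c3 LD2_c36 LD3_c33)) = (LP (LK LD1_c7 LD2_c13 LD3_c27)) :=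
  Lre_e IH (LK LD1_c3 LD2_c36 LD3_c33) (LK LD1_c7 LD2_c13 LD3_c27) Lrfl Lrfl
theorem f97752 : Led Lsl_et (LP (LK LD1_c3 LD2_c50 LD3_c50)) = (LP (LK LD1_c1 LD2_c52 LD3_c16)) :=
  Lre_e IH (LK LD1_c3 LD2_c50 LD3_c50) (LK LD1_c1 LD2_c52 LD3_c16) Lrfl Lrfl
theorem f97920 : Led Lsl_ct (LP (LK LD1_c7 LD2_c13 LD3_c27)) = (LP (LK LD1_c3 LD2_c50 LD3_c50)) :=
  Lgr Lrot15 (Lpe (f97919 IH) (Lpr_cf (K4.f97911 IH) (Lpe (f97752 IH) (Lpn (LP (LK LD1_c3 LD2_c50 LD3_c50))))))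
theorem f97933 : Led Lsl_at (LP (LK LD1_c3 LD2_c50 LD3_c50)) = (LP (LK LD1_c7 LD2_c42 LD3_c42)) :=
  Lre_a IH (LK LD1_c3 LD2_c50 LD3_c50) (LK LD1_c7 LD2_c42 LD3_c42) Lrfl Lrfl
theorem f89796 : Led Lsl_bf (LP (LK LD1_c6 LD2_c43 LD3_c24)) = (LP (LK LD1_c3 LD2_c49 LD3_c21)) :=
  Lgr Lrot24 (Lpr_bt (K3.f89792 IH) (Lpn (LP (LK LD1_c3 LD2_c49 LD3_c21))))
theorem f89804 : Led Lsl_ct (LP (LK LD1_c7 LD2_c39 LD3_c13)) = (LP (LK LD1_c3 LD2_c49 LD3_c21)) :=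
  Lre_c IH (LK LD1_c7 LD2_c39 LD3_c13) (LK LD1_c3 LD2_c49 LD3_c21) Lrfl Lrfl
theorem f88594 : Led Lsl_et (LP (LK LD1_c7 LD2_c39 LD3_c13)) = (LP (LK LD1_c3 LD2_c49 LD3_c6)) :=
  Lre_e IH (LK LD1_c7 LD2_c39 LD3_c13) (LK LD1_c3 LD2_c49 LD3_c6) Lrfl Lrfl
theorem f96875 : Led Lsl_et (LP (LK LD1_c3 LD2_c33 LD3_c19)) = (LP (LK LD1_c7 LD2_c7 LD3_c33)) :=
  Lre_e IH (LK LD1_c3 LD2_c33 LD3_c19) (LK LD1_c7 LD2_c7 LD3_c33) Lrfl Lrfl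
theorem f96876 : Led Lsl_bf (LP (LK LD1_c7 LD2_c39 LD3_c13)) = (LP (LK LD1_c7 LD2_c7 LD3_c33)) :=
  Lgr Lrot96 (Lpr_et (f88594 IH) (Lpr_bt (K3.f96868 IH) (Lpr_et (f96875 IH) (Lpn (LP (LK LD1_c7 LD2_c7 LD3_c33))))))
theorem f97855 : Led Lsl_cf (LP (LK LD1_c7 LD2_c7 LD3_c33)) = (LP (LK LD1_c7 LD2_c42 LD3_c42)) :=
  Lgr Lrot97 (Lpe (f96876 IH) (Lpr_ct (f89804 IH) (Lpe (f89796 IH) (Lpr_ct (K3.f89807 IH) (Lpr_bt (K3.f97851 IH) (Lpn (LP (LK LD1_c7 LD2_c42 LD3_c42))))))))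
theorem f97934 : Led Lsl_af (LP (LK LD1_c7 LD2_c13 LD3_c27)) = (LP (LK LD1_c7 LD2_c7 LD3_c33)) :=
  Lgr Lrot68 (Lpr_ct (f97920 IH) (Lpr_at (f97933 IH) (Lpe (f97855 IH) (Lpn (LP (LK LD1_c7 LD2_c7 LD3_c33))))))
theorem f97914 : Led Lsl_dt (LP (LK LD1_c7 LD2_c13 LD3_c27)) = (LP (LK LD1_c13 LD2_c40 LD3_c30)) :=
  Lre_d IH (LK LD1_c7 LD2_c13 LD3_c27) (LK LD1_c13 LD2_c40 LD3_c30) Lrfl Lrfl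
theorem f96887 : Led Lsl_dt (LP (LK LD1_c13 LD2_c30 LD3_c1)) = (LP (LK LD1_c7 LD2_c7 LD3_c33)) :=
  Lre_d IH (LK LD1_c13 LD2_c30 LD3_c1) (LK LD1_c7 LD2_c7 LD3_c33) Lrfl Lrfl
theorem f97967 : Led Lsl_at (LP (LK LD1_c13 LD2_c40 LD3_c30)) = (LP (LK LD1_c13 LD2_c30 LD3_c1)) :=
  Lgr Lrot51 (Lpe (f97914 IH) (Lpr_af (f97934 IH) (Lpe (f96887 IH) (Lpn (LP (LK LD1_c13 LD2_c30 LD3_c1))))))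
theorem f97971 : Led Lsl_bt (LP (LK LD1_c7 LD2_c13 LD3_c28)) = (LP (LK LD1_c13 LD2_c40 LD3_c30)) :=
  Lre_b IH (LK LD1_c7 LD2_c13 LD3_c28) (LK LD1_c13 LD2_c40 LD3_c30) Lrfl Lrfl
theorem f88597 : Led Lsl_dt (LP (LK LD1_c7 LD2_c39 LD3_c13)) = (LP (LK LD1_c14 LD2_c25 LD3_c33)) :=
  Lre_d IH (LK LD1_c7 LD2_c39 LD3_c13) (LK LD1_c14 LD2_c25 LD3_c33) Lrfl Lrfl
theorem f96888 : Led Lsl_bt (LP (LK LD1_c14 LD2_c25 LD3_c33)) = (LP (LK LD1_c13 LD2_c30 LD3_c1)) :=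
  Lgr Lrot95 (Lpe (f88597 IH) (Lpr_bf (f96876 IH) (Lpe (f96887 IH) (Lpn (LP (LK LD1_c13 LD2_c30 LD3_c1))))))
theorem f96892 : Led Lsl_bf (LP (LK LD1_c14 LD2_c25 LD3_c33)) = (LP (LK LD1_c13 LD2_c30 LD3_c1)) :=
  Lgr Lrot24 (Lpr_bt (f96888 IH) (Lpn (LP (LK LD1_c13 LD2_c30 LD3_c1))))
theorem f96897 : Led Lsl_at (LP (LK LD1_c14 LD2_c25 LD3_c33)) = (LP (LK LD1_c7 LD2_c39 LD3_c17)) :=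
  Lre_a IH (LK LD1_c14 LD2_c25 LD3_c33) (LK LD1_c7 LD2_c39 LD3_c17) Lrfl Lrfl
theorem f96898 : Led Lsl_bt (LP (LK LD1_c7 LD2_c39 LD3_c17)) = (LP (LK LD1_c3 LD2_c49 LD3_c10)) :=
  Lre_b IH (LK LD1_c7 LD2_c39 LD3_c17) (LK LD1_c3 LD2_c49 LD3_c10) Lrfl Lrfl
theorem f97972 : Led Lsl_af (LP (LK LD1_c7 LD2_c13 LD3_c28)) = (LP (LK LD1_c3 LD2_c49 LD3_c10)) :=
  Lgr Lrot36 (Lpr_bt (f97971 IH) (Lpr_at (f97967 IH) (Lpe (f96892 IH) (Lpr_at (f96897 IH) (Lpr_bt (f96898 IH) (Lpn (LP (LK LD1_c3 LD2_c49 LD3_c10))))))))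
theorem f97980 : Led Lsl_at (LP (LK LD1_c7 LD2_c13 LD3_c28)) = (LP (LK LD1_c3 LD2_c49 LD3_c10)) :=
  Lgr Lrot100 (Lpr_af (f97972 IH) (Lpn (LP (LK LD1_c3 LD2_c49 LD3_c10))))
theorem f467970 : Led Lsl_gt (LP (LK LD1_c7 LD2_c18 LD3_c17)) = (LP (LK LD1_c3 LD2_c49 LD3_c10)) :=
  Lgr Lrot46 (Lpr_gf (f442096 IH) (Lpr_ft (f467968 IH) (Lpr_at (f97980 IH) (Lpn (LP (LK LD1_c3 LD2_c49 LD3_c10))))))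
theorem f11562 : Led Lsl_dt (LP (LK LD1_c1 LD2_c51 LD3_c36)) = (LP (LK LD1_c3 LD2_c49 LD3_c10)) :=
  Lre_d IH (LK LD1_c1 LD2_c51 LD3_c36) (LK LD1_c3 LD2_c49 LD3_c10) Lrfl Lrfl
theorem f11561 : Led Lsl_et (LP (LK LD1_c1 LD2_c51 LD3_c36)) = (LP (LK LD1_c0 LD2_c52 LD3_c37)) :=
  Lre_e IH (LK LD1_c1 LD2_c51 LD3_c36) (LK LD1_c0 LD2_c52 LD3_c37) Lrfl Lrfl
theorem f98486 : Led Lsl_et (LP (LK LD1_c1 LD2_c44 LD3_c42)) = (LP (LK LD1_c3 LD2_c35 LD3_c40)) :=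
  Lre_e IH (LK LD1_c1 LD2_c44 LD3_c42) (LK LD1_c3 LD2_c35 LD3_c40) Lrfl Lrfl
theorem f467976 : Led Lsl_gf (LP (LK LD1_c1 LD2_c46 LD3_c22)) = (LP (LK LD1_c3 LD2_c35 LD3_c40)) :=
  Lgr Lrot141 (Lpe (f4440 IH) (Lpr_dt (f4441 IH) (Lpr_gt (f467970 IH) (Lpe (f11562 IH) (Lpr_et (f11561 IH) (Lpe (K3.f96329 IH) (Lpr_dt (K3.f10462 IH) (Lpr_gt (K3.f97376 IH) (Lpe (K3.f98478 IH) (Lpr_et (f98486 IH) (Lpn (LP (LK LD1_c3 LD2_c35 LD3_c40)))))))))))))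
theorem f467091 : Led Lsl_dt (LP (LK LD1_c1 LD2_c46 LD3_c22)) = (LP (LK LD1_c3 LD2_c38 LD3_c55)) :=
  Lre_d IH (LK LD1_c1 LD2_c46 LD3_c22) (LK LD1_c3 LD2_c38 LD3_c55) Lrfl Lrfl
theorem f467089 : Led Lsl_gt (LP (LK LD1_c3 LD2_c38 LD3_c55)) = (LP (LK LD1_c7 LD2_c18 LD3_c12)) :=
  Lre_g IH (LK LD1_c3 LD2_c38 LD3_c55) (LK LD1_c7 LD2_c18 LD3_c12) Lrfl Lrfl
theorem f458610 : Led Lsl_et (LP (LK LD1_c3 LD2_c53 LD3_c6)) = (LP (LK LD1_c1 LD2_c53 LD3_c8)) :=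
  Lre_e IH (LK LD1_c3 LD2_c53 LD3_c6) (LK LD1_c1 LD2_c53 LD3_c8) Lrfl Lrfl
theorem f467982 : Led Lsl_df (LP (LK LD1_c7 LD2_c18 LD3_c12)) = (LP (LK LD1_c3 LD2_c53 LD3_c6)) :=
  Lgr Lrot132 (Lpe (f467089 IH) (Lpe (f467091 IH) (Lpr_gf (f467976 IH) (Lpe (f98486 IH) (Lpr_dt (K3.f98478 IH) (Lpe (K3.f97376 IH) (Lpe (K3.f10462 IH) (Lpr_et (K5.f97385 IH) (Lpr_gf (f464841 IH) (Lpe (f458610 IH) (Lpn (LP (LK LD1_c3 LD2_c53 LD3_c6)))))))))))))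
theorem f467999 : Led Lsl_dt (LP (LK LD1_c7 LD2_c18 LD3_c12)) = (LP (LK LD1_c3 LD2_c53 LD3_c6)) :=
  Lgr Lrot42 (Lpr_df (f467982 IH) (Lpn (LP (LK LD1_c3 LD2_c53 LD3_c6))))
theorem f108552 : Led Lsl_et (LP (LK LD1_c3 LD2_c35 LD3_c40)) = (LP (LK LD1_c1 LD2_c44 LD3_c42)) :=
  Lre_e IH (LK LD1_c3 LD2_c35 LD3_c40) (LK LD1_c1 LD2_c44 LD3_c42) Lrfl Lrfl
theorem f109481 : Led Lsl_ct (LP (LK LD1_c3 LD2_c29 LD3_c30)) = (LP (LK LD1_c3 LD2_c35 LD3_c40)) :=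
  Lgr Lrot15 (Lpe (f109468 IH) (Lpr_cf (K3.f109477 IH) (Lpe (f108552 IH) (Lpn (LP (LK LD1_c3 LD2_c35 LD3_c40))))))
theorem f441469 : Led Lsl_cf (LP (LK LD1_c3 LD2_c29 LD3_c30)) = (LP (LK LD1_c3 LD2_c35 LD3_c40)) :=
  Lgr Lrot11 (Lpr_ct (f109481 IH) (Lpn (LP (LK LD1_c3 LD2_c35 LD3_c40))))
theorem f456513 : Led Lsl_dt (LP (LK LD1_c1 LD2_c47 LD3_c46)) = (LP (LK LD1_c3 LD2_c41 LD3_c45)) :=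
  Lre_d IH (LK LD1_c1 LD2_c47 LD3_c46) (LK LD1_c3 LD2_c41 LD3_c45) Lrfl Lrfl
theorem f467998 : Led Lsl_ct (LP (LK LD1_c1 LD2_c53 LD3_c10)) = (LP (LK LD1_c3 LD2_c53 LD3_c6)) :=
  Lre_c IH (LK LD1_c1 LD2_c53 LD3_c10) (LK LD1_c3 LD2_c53 LD3_c6) Lrfl Lrfl
theorem f129802 : Led Lsl_dt (LP (LK LD1_c3 LD2_c53 LD3_c12)) = (LP (LK LD1_c1 LD2_c53 LD3_c10)) :=
  Lre_d IH (LK LD1_c3 LD2_c53 LD3_c12) (LK LD1_c1 LD2_c53 LD3_c10) Lrfl Lrfl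
theorem f468076 : Led Lsl_gt (LP (LK LD1_c3 LD2_c41 LD3_c45)) = (LP (LK LD1_c3 LD2_c53 LD3_c12)) :=
  Lgr Lrot49 (Lpe (f456513 IH) (Lpr_gf (f467381 IH) (Lpr_cf (f441469 IH) (Lpe (f467976 IH) (Lpr_dt (f467091 IH) (Lpr_gt (f467089 IH) (Lpr_dt (f467999 IH) (Lpe (f467998 IH) (Lpe (f129802 IH) (Lpn (LP (LK LD1_c3 LD2_c53 LD3_c12))))))))))))
theorem f129813 : Led Lsl_dt (LP (LK LD1_c1 LD2_c53 LD3_c10)) = (LP (LK LD1_c3 LD2_c53 LD3_c12)) :=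
  Lre_d IH (LK LD1_c1 LD2_c53 LD3_c10) (LK LD1_c3 LD2_c53 LD3_c12) Lrfl Lrfl
theorem f129803 : Led Lsl_et (LP (LK LD1_c1 LD2_c53 LD3_c10)) = (LP (LK LD1_c0 LD2_c53 LD3_c9)) :=
  Lre_e IH (LK LD1_c1 LD2_c53 LD3_c10) (LK LD1_c0 LD2_c53 LD3_c9) Lrfl Lrfl
theorem f468084 : Led Lsl_gf (LP (LK LD1_c1 LD2_c46 LD3_c34)) = (LP (LK LD1_c0 LD2_c53 LD3_c9)) :=
  Lgr Lrot141 (Lpe (K4.f5734 IH) (Lpr_dt (K0.f5711 IH) (Lpr_gt (K2.f5754 IH) (Lpe (f109458 IH) (Lpr_et (f109468 IH) (Lpe (f467381 IH) (Lpr_dt (f456513 IH) (Lpr_gt (f468076 IH) (Lpe (f129813 IH) (Lpr_et (f129803 IH) (Lpn (LP (LK LD1_c0 LD2_c53 LD3_c9)))))))))))))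
theorem f17690 : Led Lsl_et (LP (LK LD1_c1 LD2_c44 LD3_c41)) = (LP (LK LD1_c0 LD2_c49 LD3_c0)) :=
  Lre_e IH (LK LD1_c1 LD2_c44 LD3_c41) (LK LD1_c0 LD2_c49 LD3_c0) Lrfl Lrfl
theorem f129815 : Led Lsl_dt (LP (LK LD1_c1 LD2_c53 LD3_c9)) = (LP (LK LD1_c0 LD2_c53 LD3_c9)) :=
  Lre_d IH (LK LD1_c1 LD2_c53 LD3_c9) (LK LD1_c0 LD2_c53 LD3_c9) Lrfl Lrfl
theorem f468097 : Led Lsl_gt (LP (LK LD1_c1 LD2_c46 LD3_c4)) = (LP (LK LD1_c1 LD2_c50 LD3_c61)) :=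
  Lgr Lrot131 (Lpe (K5.f26192 IH) (Lpr_dt (K3.f5259 IH) (Lpr_gf (K4.f107198 IH) (Lpe (K7.f5791 IH) (Lpe (K3.f109116 IH) (Lpe (f17690 IH) (Lpr_dt (K4.f106117 IH) (Lpr_gf (f468084 IH) (Lpe (f129815 IH) (Lpr_et (f129785 IH) (Lpn (LP (LK LD1_c1 LD2_c50 LD3_c61)))))))))))))
theorem f446486 : Led Lsl_ct (LP (LK LD1_c3 LD2_c28 LD3_c7)) = (LP (LK LD1_c1 LD2_c40 LD3_c40)) :=
  Lre_c IH (LK LD1_c3 LD2_c28 LD3_c7) (LK LD1_c1 LD2_c40 LD3_c40) Lrfl Lrfl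
theorem f468101 : Led Lsl_gt (LP (LK LD1_c1 LD2_c42 LD3_c60)) = (LP (LK LD1_c3 LD2_c29 LD3_c10)) :=
  Lgr Lrot9 (Lpe (K5.f105997 IH) (Lpr_gt (f468097 IH) (Lpr_ct (f461973 IH) (Lpe (f463750 IH) (Lpr_ct (f446486 IH) (Lpq (K24.f461932 IH) (Lpe (f455832 IH) (Lpe (f108642 IH) (Lpe (f160443 IH) (Lpr_cf (f463843 IH) (Lpn (LP (LK LD1_c3 LD2_c29 LD3_c10)))))))))))))
theorem f122361 : Led Lsl_gt (LP (LK LD1_c3 LD2_c40 LD3_c55)) = (LP (LK LD1_c1 LD2_c47 LD3_c24)) :=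
  Lre_g IH (LK LD1_c3 LD2_c40 LD3_c55) (LK LD1_c1 LD2_c47 LD3_c24) Lrfl Lrfl
theorem f461894 : Led Lsl_bt (LP (LK LD1_c3 LD2_c35 LD3_c33)) = (LP (LK LD1_c6 LD2_c34 LD3_c3)) :=
  Lgr Lrot127 (Lpr_bf (f461892 IH) (Lpn (LP (LK LD1_c6 LD2_c34 LD3_c3))))
theorem f468113 : Led Lsl_cf (LP (LK LD1_c3 LD2_c40 LD3_c55)) = (LP (LK LD1_c3 LD2_c35 LD3_c33)) :=
  Lgr Lrot160 (Lpr_gt (f122361 IH) (Lpe (f122362 IH) (Lpr_bt (K5.f128301 IH) (Lpr_gt (f468101 IH) (Lpe (f463843 IH) (Lpr_gt (f160443 IH) (Lpe (K3.f108627 IH) (Lpr_bt (f108663 IH) (Lpe (K24.f441547 IH) (Lpe (f461894 IH) (Lpn (LP (LK LD1_c3 LD2_c35 LD3_c33)))))))))))))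
theorem f460104 : Led Lsl_ct (LP (LK LD1_c6 LD2_c34 LD3_c4)) = (LP (LK LD1_c7 LD2_c0 LD3_c7)) :=
  Lgr Lrot40 (Lpe (f108768 IH) (Lpr_cf (K5.f109306 IH) (Lpr_ff (K24.f460100 IH) (Lpn (LP (LK LD1_c7 LD2_c0 LD3_c7))))))
theorem f130713 : Led Lsl_ef (LP (LK LD1_c6 LD2_c34 LD3_c4)) = (LP (LK LD1_c6 LD2_c53 LD3_c0)) :=
  Lgr Lrot20 (Lpr_at (f108764 IH) (Lpe (f108664 IH) (Lpr_at (K24.f130703 IH) (Lpn (LP (LK LD1_c6 LD2_c53 LD3_c0))))))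
theorem f130719 : Led Lsl_et (LP (LK LD1_c6 LD2_c34 LD3_c4)) = (LP (LK LD1_c6 LD2_c53 LD3_c0)) :=
  Lgr Lrot87 (Lpr_ef (f130713 IH) (Lpn (LP (LK LD1_c6 LD2_c53 LD3_c0))))
theorem f460110 : Led Lsl_cf (LP (LK LD1_c6 LD2_c34 LD3_c4)) = (LP (LK LD1_c7 LD2_c0 LD3_c7)) :=
  Lgr Lrot39 (Lpr_et (f130719 IH) (Lpe (K24.f130711 IH) (Lpr_et (K24.f460106 IH) (Lpn (LP (LK LD1_c7 LD2_c0 LD3_c7))))))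
theorem f466309 : Led Lsl_bt (LP (LK LD1_c3 LD2_c31 LD3_c26)) = (LP (LK LD1_c7 LD2_c4 LD3_c31)) :=
  Lre_b IH (LK LD1_c3 LD2_c31 LD3_c26) (LK LD1_c7 LD2_c4 LD3_c31) Lrfl Lrfl
theorem f455628 : Led Lsl_ct (LP (LK LD1_c7 LD2_c4 LD3_c32)) = (LP (LK LD1_c3 LD2_c31 LD3_c26)) :=
  Lre_c IH (LK LD1_c7 LD2_c4 LD3_c32) (LK LD1_c3 LD2_c31 LD3_c26) Lrfl Lrfl
theorem f466310 : Led Lsl_bt (LP (LK LD1_c6 LD2_c34 LD3_c4)) = (LP (LK LD1_c7 LD2_c4 LD3_c32)) :=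
  Lgr Lrot128 (Lpr_cf (f460110 IH) (Lpe (f63023 IH) (Lpr_cf (f466304 IH) (Lpe (f466309 IH) (Lpe (f455628 IH) (Lpn (LP (LK LD1_c7 LD2_c4 LD3_c32))))))))
theorem f468115 : Led Lsl_gf (LP (LK LD1_c3 LD2_c35 LD3_c33)) = (LP (LK LD1_c7 LD2_c4 LD3_c32)) :=
  Lgr Lrot181 (Lpe (f468113 IH) (Lpr_gt (f122361 IH) (Lpe (f122362 IH) (Lpr_bt (K5.f128301 IH) (Lpr_gt (f468101 IH) (Lpe (f460230 IH) (Lpr_ct (K24.f18792 IH) (Lpr_gt (K24.f18793 IH) (Lpe (f460104 IH) (Lpr_bt (f466310 IH) (Lpn (LP (LK LD1_c7 LD2_c4 LD3_c32)))))))))))))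
theorem f438055 : Led Lsl_et (LP (LK LD1_c3 LD2_c41 LD3_c5)) = (LP (LK LD1_c7 LD2_c22 LD3_c29)) :=
  Lre_e IH (LK LD1_c3 LD2_c41 LD3_c5) (LK LD1_c7 LD2_c22 LD3_c29) Lrfl Lrfl
theorem f464548 : Led Lsl_ct (LP (LK LD1_c7 LD2_c22 LD3_c29)) = (LP (LK LD1_c7 LD2_c11 LD3_c56)) :=
  Lgr Lrot15 (Lpe (f438055 IH) (Lpr_cf (f464540 IH) (Lpr_ef (f116057 IH) (Lpn (LP (LK LD1_c7 LD2_c11 LD3_c56))))))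
theorem f438053 : Led Lsl_df (LP (LK LD1_c7 LD2_c22 LD3_c29)) = (LP (LK LD1_c7 LD2_c25 LD3_c32)) :=
  Lgr Lrot38 (Lpr_dt (f438050 IH) (Lpn (LP (LK LD1_c7 LD2_c25 LD3_c32))))
theorem f468117 : Led Lsl_dt (LP (LK LD1_c3 LD2_c56 LD3_c14)) = (LP (LK LD1_c7 LD2_c4 LD3_c32)) :=
  Lgr Lrot115 (Lpe (f464425 IH) (Lpr_ct (f462807 IH) (Lpe (f462652 IH) (Lpr_dt (f451979 IH) (Lpe (f462237 IH) (Lpe (f438053 IH) (Lpr_ct (f464548 IH) (Lpe (f116059 IH) (Lpr_gf (f468115 IH) (Lpn (LP (LK LD1_c7 LD2_c4 LD3_c32))))))))))))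
theorem f98715 : Led Lsl_ef (LP (LK LD1_c3 LD2_c27 LD3_c45)) = (LP (LK LD1_c3 LD2_c26 LD3_c17)) :=
  Lgr Lrot29 (Lpr_bt (K24.f98713 IH) (Lpr_et (f98711 IH) (Lpr_bt (f98714 IH) (Lpn (LP (LK LD1_c3 LD2_c26 LD3_c17))))))
theorem f462800 : Led Lsl_cf (LP (LK LD1_c3 LD2_c26 LD3_c17)) = (LP (LK LD1_c3 LD2_c42 LD3_c22)) :=
  Lgr Lrot39 (Lpe (f98715 IH) (Lpr_ct (K24.f98817 IH) (Lpr_et (f462795 IH) (Lpn (LP (LK LD1_c3 LD2_c42 LD3_c22))))))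
theorem f468139 : Led Lsl_cf (LP (LK LD1_c7 LD2_c22 LD3_c29)) = (LP (LK LD1_c7 LD2_c11 LD3_c56)) :=
  Lgr Lrot14 (Lpr_df (f438053 IH) (Lpr_gf (f462237 IH) (Lpe (f451979 IH) (Lpr_gf (f462652 IH) (Lpe (f462800 IH) (Lpr_gt (f464425 IH) (Lpr_dt (f468117 IH) (Lpe (f468115 IH) (Lpr_dt (f116059 IH) (Lpn (LP (LK LD1_c7 LD2_c11 LD3_c56))))))))))))
theorem f438057 : Led Lsl_bt (LP (LK LD1_c7 LD2_c22 LD3_c29)) = (LP (LK LD1_c13 LD2_c56 LD3_c40)) :=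
  Lre_b IH (LK LD1_c7 LD2_c22 LD3_c29) (LK LD1_c13 LD2_c56 LD3_c40) Lrfl Lrfl
theorem f461890 : Led Lsl_bf (LP (LK LD1_c7 LD2_c11 LD3_c56)) = (LP (LK LD1_c7 LD2_c12 LD3_c26)) :=
  Lgr Lrot24 (Lpr_bt (f461820 IH) (Lpn (LP (LK LD1_c7 LD2_c12 LD3_c26))))
theorem f443324 : Led Lsl_bt (LP (LK LD1_c13 LD2_c22 LD3_c18)) = (LP (LK LD1_c7 LD2_c3 LD3_c2)) :=
  Lre_b IH (LK LD1_c13 LD2_c22 LD3_c18) (LK LD1_c7 LD2_c3 LD3_c2) Lrfl Lrfl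
theorem f468141 : Led Lsl_ct (LP (LK LD1_c13 LD2_c56 LD3_c40)) = (LP (LK LD1_c13 LD2_c22 LD3_c18)) :=
  Lgr Lrot83 (Lpe (f438057 IH) (Lpr_cf (f468139 IH) (Lpr_bf (f461890 IH) (Lpe (K24.f461811 IH) (Lpe (f443324 IH) (Lpn (LP (LK LD1_c13 LD2_c22 LD3_c18))))))))
theorem f468145 : Led Lsl_et (LP (LK LD1_c7 LD2_c22 LD3_c27)) = (LP (LK LD1_c13 LD2_c56 LD3_c40)) :=
  Lre_e IH (LK LD1_c7 LD2_c22 LD3_c27) (LK LD1_c13 LD2_c56 LD3_c40) Lrfl Lrfl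
theorem f443411 : Led Lsl_et (LP (LK LD1_c13 LD2_c22 LD3_c18)) = (LP (LK LD1_c7 LD2_c3 LD3_c0)) :=
  Lre_e IH (LK LD1_c13 LD2_c22 LD3_c18) (LK LD1_c7 LD2_c3 LD3_c0) Lrfl Lrfl
theorem f468146 : Led Lsl_cf (LP (LK LD1_c7 LD2_c22 LD3_c27)) = (LP (LK LD1_c7 LD2_c3 LD3_c0)) :=
  Lgr Lrot39 (Lpr_et (f468145 IH) (Lpr_ct (f468141 IH) (Lpr_et (f443411 IH) (Lpn (LP (LK LD1_c7 LD2_c3 LD3_c0))))))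
theorem f18935 : Led Lsl_bt (LP (LK LD1_c7 LD2_c3 LD3_c0)) = (LP (LK LD1_c3 LD2_c30 LD3_c32)) :=
  Lre_b IH (LK LD1_c7 LD2_c3 LD3_c0) (LK LD1_c3 LD2_c30 LD3_c32) Lrfl Lrfl
theorem f18609 : Led Lsl_ct (LP (LK LD1_c3 LD2_c31 LD3_c2)) = (LP (LK LD1_c1 LD2_c42 LD3_c3)) :=
  Lre_c IH (LK LD1_c3 LD2_c31 LD3_c2) (LK LD1_c1 LD2_c42 LD3_c3) Lrfl Lrfl
theorem f18610 : Led Lsl_bt (LP (LK LD1_c3 LD2_c31 LD3_c2)) = (LP (LK LD1_c7 LD2_c4 LD3_c0)) :=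
  Lre_b IH (LK LD1_c3 LD2_c31 LD3_c2) (LK LD1_c7 LD2_c4 LD3_c0) Lrfl Lrfl
theorem f97516 : Led Lsl_ft (LP (LK LD1_c13 LD2_c18 LD3_c14)) = (LP (LK LD1_c7 LD2_c0 LD3_c51)) :=
  Lre_f IH (LK LD1_c13 LD2_c18 LD3_c14) (LK LD1_c7 LD2_c0 LD3_c51) Lrfl Lrfl
theorem f97517 : Led Lsl_ft (LP (LK LD1_c3 LD2_c38 LD3_c26)) = (LP (LK LD1_c7 LD2_c17 LD3_c13)) :=
  Lre_f IH (LK LD1_c3 LD2_c38 LD3_c26) (LK LD1_c7 LD2_c17 LD3_c13) Lrfl Lrfl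
theorem f97518 : Led Lsl_cf (LP (LK LD1_c13 LD2_c18 LD3_c14)) = (LP (LK LD1_c7 LD2_c17 LD3_c13)) :=
  Lgr Lrot108 (Lpr_ft (f97516 IH) (Lpr_ct (K3.f97506 IH) (Lpr_ft (f97517 IH) (Lpn (LP (LK LD1_c7 LD2_c17 LD3_c13))))))
theorem f18958 : Led Lsl_ct (LP (LK LD1_c3 LD2_c31 LD3_c20)) = (LP (LK LD1_c1 LD2_c42 LD3_c12)) :=
  Lre_c IH (LK LD1_c3 LD2_c31 LD3_c20) (LK LD1_c1 LD2_c42 LD3_c12) Lrfl Lrfl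
theorem f454956 : Led Lsl_bt (LP (LK LD1_c0 LD2_c45 LD3_c50)) = (LP (LK LD1_c1 LD2_c38 LD3_c53)) :=
  Lre_b IH (LK LD1_c0 LD2_c45 LD3_c50) (LK LD1_c1 LD2_c38 LD3_c53) Lrfl Lrfl
theorem f458529 : Led Lsl_bf (LP (LK LD1_c3 LD2_c31 LD3_c20)) = (LP (LK LD1_c3 LD2_c24 LD3_c57)) :=
  Lgr Lrot90 (Lpr_ct (f18958 IH) (Lpr_bt (K24.f18957 IH) (Lpq (K24.f457405 IH) (Lpe (K24.f454961 IH) (Lpr_bt (f454956 IH) (Lpr_ct (f16708 IH) (Lpn (LP (LK LD1_c3 LD2_c24 LD3_c57)))))))))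
theorem f458531 : Led Lsl_bt (LP (LK LD1_c3 LD2_c31 LD3_c20)) = (LP (LK LD1_c3 LD2_c24 LD3_c57)) :=
  Lgr Lrot127 (Lpr_bf (f458529 IH) (Lpn (LP (LK LD1_c3 LD2_c24 LD3_c57))))
theorem f17805 : Led Lsl_ct (LP (LK LD1_c1 LD2_c44 LD3_c57)) = (LP (LK LD1_c0 LD2_c49 LD3_c10)) :=
  Lre_c IH (LK LD1_c1 LD2_c44 LD3_c57) (LK LD1_c0 LD2_c49 LD3_c10) Lrfl Lrfl
theorem f17900 : Led Lsl_bt (LP (LK LD1_c7 LD2_c12 LD3_c39)) = (LP (LK LD1_c3 LD2_c36 LD3_c9)) :=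
  Lre_b IH (LK LD1_c7 LD2_c12 LD3_c39) (LK LD1_c3 LD2_c36 LD3_c9) Lrfl Lrfl
theorem f461799 : Led Lsl_bt (LP (LK LD1_c7 LD2_c4 LD3_c0)) = (LP (LK LD1_c3 LD2_c31 LD3_c2)) :=
  Lre_b IH (LK LD1_c7 LD2_c4 LD3_c0) (LK LD1_c3 LD2_c31 LD3_c2) Lrfl Lrfl
theorem f461800 : Led Lsl_bt (LP (LK LD1_c3 LD2_c36 LD3_c9)) = (LP (LK LD1_c7 LD2_c12 LD3_c39)) :=
  Lre_b IH (LK LD1_c3 LD2_c36 LD3_c9) (LK LD1_c7 LD2_c12 LD3_c39) Lrfl Lrfl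
theorem f461801 : Led Lsl_cf (LP (LK LD1_c7 LD2_c4 LD3_c0)) = (LP (LK LD1_c7 LD2_c12 LD3_c39)) :=
  Lgr Lrot97 (Lpr_bt (f461799 IH) (Lpr_ct (f18609 IH) (Lpr_bt (f461798 IH) (Lpr_ct (K24.f461796 IH) (Lpr_bt (f461800 IH) (Lpn (LP (LK LD1_c7 LD2_c12 LD3_c39))))))))
theorem f463600 : Led Lsl_gt (LP (LK LD1_c13 LD2_c18 LD3_c14)) = (LP (LK LD1_c7 LD2_c4 LD3_c0)) :=
  Lgr Lrot65 (Lpr_cf (f97518 IH) (Lpr_bt (K4.f18039 IH) (Lpr_gf (f463596 IH) (Lpe (f458531 IH) (Lpr_ct (f18958 IH) (Lpqs (K24.f461789 IH) (Lpe (K24.f456826 IH) (Lpe (f17805 IH) (Lpe (K24.f17899 IH) (Lpe (f17900 IH) (Lpe (f461801 IH) (Lpn (LP (LK LD1_c7 LD2_c4 LD3_c0))))))))))))))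
theorem f419631 : Led Lsl_bt (LP (LK LD1_c3 LD2_c46 LD3_c34)) = (LP (LK LD1_c7 LD2_c33 LD3_c58)) :=
  Lre_b IH (LK LD1_c3 LD2_c46 LD3_c34) (LK LD1_c7 LD2_c33 LD3_c58) Lrfl Lrfl
theorem f18047 : Led Lsl_bt (LP (LK LD1_c3 LD2_c38 LD3_c26)) = (LP (LK LD1_c1 LD2_c46 LD3_c12)) :=
  Lre_b IH (LK LD1_c3 LD2_c38 LD3_c26) (LK LD1_c1 LD2_c46 LD3_c12) Lrfl Lrfl
theorem f97510 : Led Lsl_bf (LP (LK LD1_c7 LD2_c0 LD3_c51)) = (LP (LK LD1_c6 LD2_c51 LD3_c40)) :=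
  Lgr Lrot90 (Lpr_ct (K3.f97506 IH) (Lpr_bt (f18047 IH) (Lpe (f18029 IH) (Lpe (K3.f17676 IH) (Lpr_ct (K3.f91226 IH) (Lpn (LP (LK LD1_c6 LD2_c51 LD3_c40))))))))
theorem f419632 : Led Lsl_af (LP (LK LD1_c3 LD2_c46 LD3_c34)) = (LP (LK LD1_c7 LD2_c0 LD3_c51)) :=
  Lgr Lrot36 (Lpr_bt (f419631 IH) (Lpr_at (f419624 IH) (Lpr_bt (f121911 IH) (Lpr_at (f121907 IH) (Lpe (f97510 IH) (Lpn (LP (LK LD1_c7 LD2_c0 LD3_c51))))))))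
theorem f463602 : Led Lsl_gf (LP (LK LD1_c3 LD2_c46 LD3_c34)) = (LP (LK LD1_c7 LD2_c4 LD3_c0)) :=
  Lgr Lrot76 (Lpr_af (f419632 IH) (Lpe (f97516 IH) (Lpr_gt (f463600 IH) (Lpn (LP (LK LD1_c7 LD2_c4 LD3_c0))))))
theorem f419740 : Led Lsl_bt (LP (LK LD1_c7 LD2_c33 LD3_c58)) = (LP (LK LD1_c3 LD2_c46 LD3_c34)) :=
  Lre_b IH (LK LD1_c7 LD2_c33 LD3_c58) (LK LD1_c3 LD2_c46 LD3_c34) Lrfl Lrfl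
theorem f468149 : Led Lsl_gf (LP (LK LD1_c7 LD2_c22 LD3_c27)) = (LP (LK LD1_c7 LD2_c28 LD3_c11)) :=
  Lgr Lrot126 (Lpr_cf (f468146 IH) (Lpr_bt (f18935 IH) (Lpr_gt (K24.f18849 IH) (Lpr_ct (K24.f18836 IH) (Lpr_gt (K24.f18843 IH) (Lpe (f18609 IH) (Lpr_bt (f18610 IH) (Lpe (f463602 IH) (Lpe (f419740 IH) (Lpr_ct (f420068 IH) (Lpn (LP (LK LD1_c7 LD2_c28 LD3_c11)))))))))))))
theorem f458811 : Led Lsl_ft (LP (LK LD1_c3 LD2_c31 LD3_c42)) = (LP (LK LD1_c3 LD2_c31 LD3_c27)) :=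
  Lgr Lrot4 (Lpe (f455663 IH) (Lpr_ff (K24.f458807 IH) (Lpe (f455646 IH) (Lpn (LP (LK LD1_c3 LD2_c31 LD3_c27))))))
theorem f465758 : Led Lsl_af (LP (LK LD1_c3 LD2_c43 LD3_c43)) = (LP (LK LD1_c3 LD2_c31 LD3_c27)) :=
  Lgr Lrot45 (Lpe (f465741 IH) (Lpr_at (f465750 IH) (Lpr_ft (f458811 IH) (Lpn (LP (LK LD1_c3 LD2_c31 LD3_c27))))))
theorem f465764 : Led Lsl_gf (LP (LK LD1_c1 LD2_c49 LD3_c2)) = (LP (LK LD1_c3 LD2_c31 LD3_c42)) :=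
  Lgr Lrot47 (Lpe (f463538 IH) (Lpr_af (f465758 IH) (Lpe (f458811 IH) (Lpn (LP (LK LD1_c3 LD2_c31 LD3_c42))))))
theorem f464545 : Led Lsl_ct (LP (LK LD1_c3 LD2_c41 LD3_c5)) = (LP (LK LD1_c6 LD2_c53 LD3_c41)) :=
  Lgr Lrot59 (Lpr_cf (f464540 IH) (Lpn (LP (LK LD1_c6 LD2_c53 LD3_c41))))
theorem f464542 : Led Lsl_bt (LP (LK LD1_c3 LD2_c41 LD3_c5)) = (LP (LK LD1_c7 LD2_c22 LD3_c27)) :=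
  Lre_b IH (LK LD1_c3 LD2_c41 LD3_c5) (LK LD1_c7 LD2_c22 LD3_c27) Lrfl Lrfl
theorem f455759 : Led Lsl_bt (LP (LK LD1_c1 LD2_c42 LD3_c26)) = (LP (LK LD1_c3 LD2_c31 LD3_c42)) :=
  Lre_b IH (LK LD1_c1 LD2_c42 LD3_c26) (LK LD1_c3 LD2_c31 LD3_c42) Lrfl Lrfl
theorem f459188 : Led Lsl_ct (LP (LK LD1_c3 LD2_c31 LD3_c37)) = (LP (LK LD1_c1 LD2_c42 LD3_c24)) :=
  Lre_c IH (LK LD1_c3 LD2_c31 LD3_c37) (LK LD1_c1 LD2_c42 LD3_c24) Lrfl Lrfl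
theorem f459189 : Led Lsl_bt (LP (LK LD1_c3 LD2_c31 LD3_c37)) = (LP (LK LD1_c7 LD2_c4 LD3_c51)) :=
  Lre_b IH (LK LD1_c3 LD2_c31 LD3_c37) (LK LD1_c7 LD2_c4 LD3_c51) Lrfl Lrfl
theorem f466127 : Led Lsl_gt (LP (LK LD1_c7 LD2_c22 LD3_c27)) = (LP (LK LD1_c7 LD2_c4 LD3_c51)) :=
  Lgr Lrot164 (Lpe (f464542 IH) (Lpr_ct (f464545 IH) (Lpe (f116031 IH) (Lpe (f130731 IH) (Lpr_gf (f465764 IH) (Lpe (f455759 IH) (Lpr_ct (K24.f455750 IH) (Lpe (f455664 IH) (Lpe (f459188 IH) (Lpr_bt (f459189 IH) (Lpn (LP (LK LD1_c7 LD2_c4 LD3_c51)))))))))))))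
theorem f466129 : Led Lsl_at (LP (LK LD1_c13 LD2_c25 LD3_c19)) = (LP (LK LD1_c7 LD2_c4 LD3_c51)) :=
  Lre_a IH (LK LD1_c13 LD2_c25 LD3_c19) (LK LD1_c7 LD2_c4 LD3_c51) Lrfl Lrfl
theorem f468151 : Led Lsl_ff (LP (LK LD1_c13 LD2_c25 LD3_c19)) = (LP (LK LD1_c7 LD2_c28 LD3_c11)) :=
  Lgr Lrot52 (Lpr_at (f466129 IH) (Lpe (f466127 IH) (Lpr_gf (f468149 IH) (Lpn (LP (LK LD1_c7 LD2_c28 LD3_c11))))))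
theorem f468174 : Led Lsl_ft (LP (LK LD1_c13 LD2_c25 LD3_c19)) = (LP (LK LD1_c7 LD2_c28 LD3_c11)) :=
  Lgr Lrot48 (Lpr_ff (f468151 IH) (Lpn (LP (LK LD1_c7 LD2_c28 LD3_c11))))
theorem f468181 : Led Lsl_dt (LP (LK LD1_c22 LD2_c44 LD3_c4)) = (LP (LK LD1_c13 LD2_c25 LD3_c19)) :=
  Lre_d IH (LK LD1_c22 LD2_c44 LD3_c4) (LK LD1_c13 LD2_c25 LD3_c19) Lrfl Lrfl
theorem f122162 : Led Lsl_dt (LP (LK LD1_c7 LD2_c28 LD3_c11)) = (LP (LK LD1_c14 LD2_c6 LD3_c4)) :=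
  Lre_d IH (LK LD1_c7 LD2_c28 LD3_c11) (LK LD1_c14 LD2_c6 LD3_c4) Lrfl Lrfl
theorem f468182 : Led Lsl_ff (LP (LK LD1_c22 LD2_c44 LD3_c4)) = (LP (LK LD1_c14 LD2_c6 LD3_c4)) :=
  Lgr Lrot19 (Lpr_dt (f468181 IH) (Lpr_ft (f468174 IH) (Lpr_dt (f122162 IH) (Lpn (LP (LK LD1_c14 LD2_c6 LD3_c4))))))
theorem f468184 : Led Lsl_at (LP (LK LD1_c22 LD2_c44 LD3_c4)) = (LP (LK LD1_c13 LD2_c25 LD3_c20)) :=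
  Lre_a IH (LK LD1_c22 LD2_c44 LD3_c4) (LK LD1_c13 LD2_c25 LD3_c20) Lrfl Lrfl
theorem f122367 : Led Lsl_at (LP (LK LD1_c7 LD2_c28 LD3_c14)) = (LP (LK LD1_c14 LD2_c6 LD3_c4)) :=
  Lre_a IH (LK LD1_c7 LD2_c28 LD3_c14) (LK LD1_c14 LD2_c6 LD3_c4) Lrfl Lrfl
theorem f468185 : Led Lsl_ft (LP (LK LD1_c13 LD2_c25 LD3_c20)) = (LP (LK LD1_c7 LD2_c28 LD3_c14)) :=
  Lgr Lrot101 (Lpe (f468184 IH) (Lpr_ff (f468182 IH) (Lpe (f122367 IH) (Lpn (LP (LK LD1_c7 LD2_c28 LD3_c14))))))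
theorem f468199 : Led Lsl_ff (LP (LK LD1_c13 LD2_c25 LD3_c20)) = (LP (LK LD1_c7 LD2_c28 LD3_c14)) :=
  Lgr Lrot3 (Lpr_ft (f468185 IH) (Lpn (LP (LK LD1_c7 LD2_c28 LD3_c14))))
theorem f466140 : Led Lsl_et (LP (LK LD1_c13 LD2_c25 LD3_c20)) = (LP (LK LD1_c22 LD2_c44 LD3_c7)) :=
  Lre_e IH (LK LD1_c13 LD2_c25 LD3_c20) (LK LD1_c22 LD2_c44 LD3_c7) Lrfl Lrfl
theorem f468227 : Led Lsl_ft (LP (LK LD1_c22 LD2_c44 LD3_c7)) = (LP (LK LD1_c30 LD2_c41 LD3_c16)) :=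
  Lre_f IH (LK LD1_c22 LD2_c44 LD3_c7) (LK LD1_c30 LD2_c41 LD3_c16) Lrfl Lrfl
theorem f468228 : Led Lsl_et (LP (LK LD1_c14 LD2_c6 LD3_c6)) = (LP (LK LD1_c7 LD2_c28 LD3_c14)) :=
  Lre_e IH (LK LD1_c14 LD2_c6 LD3_c6) (LK LD1_c7 LD2_c28 LD3_c14) Lrfl Lrfl
theorem f468229 : Led Lsl_ft (LP (LK LD1_c23 LD2_c40 LD3_c1)) = (LP (LK LD1_c14 LD2_c6 LD3_c6)) :=
  Lre_f IH (LK LD1_c23 LD2_c40 LD3_c1) (LK LD1_c14 LD2_c6 LD3_c6) Lrfl Lrfl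
theorem f468230 : Led Lsl_et (LP (LK LD1_c30 LD2_c41 LD3_c16)) = (LP (LK LD1_c23 LD2_c40 LD3_c1)) :=
  Lgr Lrot69 (Lpe (f468227 IH) (Lpe (f466140 IH) (Lpr_ff (f468199 IH) (Lpe (f468228 IH) (Lpe (f468229 IH) (Lpn (LP (LK LD1_c23 LD2_c40 LD3_c1))))))))
theorem f122207 : Led Lsl_dt (LP (LK LD1_c23 LD2_c40 LD3_c1)) = (LP (LK LD1_c14 LD2_c6 LD3_c7)) :=
  Lre_d IH (LK LD1_c23 LD2_c40 LD3_c1) (LK LD1_c14 LD2_c6 LD3_c7) Lrfl Lrfl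
theorem f122205 : Led Lsl_dt (LP (LK LD1_c13 LD2_c56 LD3_c23)) = (LP (LK LD1_c23 LD2_c27 LD3_c31)) :=
  Lre_d IH (LK LD1_c13 LD2_c56 LD3_c23) (LK LD1_c23 LD2_c27 LD3_c31) Lrfl Lrfl
theorem f122206 : Led Lsl_et (LP (LK LD1_c23 LD2_c27 LD3_c31)) = (LP (LK LD1_c31 LD2_c3 LD3_c52)) :=
  Lre_e IH (LK LD1_c23 LD2_c27 LD3_c31) (LK LD1_c31 LD2_c3 LD3_c52) Lrfl Lrfl
theorem f468241 : Led Lsl_df (LP (LK LD1_c30 LD2_c41 LD3_c16)) = (LP (LK LD1_c31 LD2_c3 LD3_c52)) :=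
  Lgr Lrot70 (Lpr_et (f468230 IH) (Lpr_dt (f122207 IH) (Lpe (K5.f122188 IH) (Lpr_dt (f122205 IH) (Lpr_et (f122206 IH) (Lpn (LP (LK LD1_c31 LD2_c3 LD3_c52))))))))
theorem f468194 : Led Lsl_ft (LP (LK LD1_c30 LD2_c41 LD3_c16)) = (LP (LK LD1_c22 LD2_c44 LD3_c7)) :=
  Lre_f IH (LK LD1_c30 LD2_c41 LD3_c16) (LK LD1_c22 LD2_c44 LD3_c7) Lrfl Lrfl
theorem f468248 : Led Lsl_ft (LP (LK LD1_c23 LD2_c27 LD3_c41)) = (LP (LK LD1_c31 LD2_c3 LD3_c52)) :=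
  Lre_f IH (LK LD1_c23 LD2_c27 LD3_c41) (LK LD1_c31 LD2_c3 LD3_c52) Lrfl Lrfl
theorem f468249 : Led Lsl_dt (LP (LK LD1_c22 LD2_c44 LD3_c7)) = (LP (LK LD1_c23 LD2_c27 LD3_c41)) :=
  Lgr Lrot60 (Lpe (f468194 IH) (Lpr_df (f468241 IH) (Lpe (f468248 IH) (Lpn (LP (LK LD1_c23 LD2_c27 LD3_c41))))))
theorem f466130 : Led Lsl_dt (LP (LK LD1_c7 LD2_c4 LD3_c51)) = (LP (LK LD1_c13 LD2_c25 LD3_c20)) :=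
  Lre_d IH (LK LD1_c7 LD2_c4 LD3_c51) (LK LD1_c13 LD2_c25 LD3_c20) Lrfl Lrfl
theorem f468258 : Led Lsl_et (LP (LK LD1_c23 LD2_c27 LD3_c41)) = (LP (LK LD1_c13 LD2_c56 LD3_c28)) :=
  Lre_e IH (LK LD1_c23 LD2_c27 LD3_c41) (LK LD1_c13 LD2_c56 LD3_c28) Lrfl Lrfl
theorem f464508 : Led Lsl_dt (LP (LK LD1_c13 LD2_c56 LD3_c28)) = (LP (LK LD1_c7 LD2_c22 LD3_c22)) :=
  Lre_d IH (LK LD1_c13 LD2_c56 LD3_c28) (LK LD1_c7 LD2_c22 LD3_c22) Lrfl Lrfl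
theorem f468259 : Led Lsl_ef (LP (LK LD1_c7 LD2_c4 LD3_c51)) = (LP (LK LD1_c7 LD2_c22 LD3_c22)) :=
  Lgr Lrot73 (Lpr_dt (f466130 IH) (Lpr_et (f466140 IH) (Lpr_dt (f468249 IH) (Lpr_et (f468258 IH) (Lpr_dt (f464508 IH) (Lpn (LP (LK LD1_c7 LD2_c22 LD3_c22))))))))
theorem f468268 : Led Lsl_et (LP (LK LD1_c7 LD2_c4 LD3_c51)) = (LP (LK LD1_c7 LD2_c22 LD3_c22)) :=
  Lgr Lrot87 (Lpr_ef (f468259 IH) (Lpn (LP (LK LD1_c7 LD2_c22 LD3_c22))))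
theorem f209154 : Led Lsl_bt (LP (LK LD1_c7 LD2_c22 LD3_c22)) = (LP (LK LD1_c3 LD2_c41 LD3_c8)) :=
  Lre_b IH (LK LD1_c7 LD2_c22 LD3_c22) (LK LD1_c3 LD2_c41 LD3_c8) Lrfl Lrfl
theorem f468271 : Led Lsl_ef (LP (LK LD1_c3 LD2_c31 LD3_c37)) = (LP (LK LD1_c3 LD2_c41 LD3_c8)) :=
  Lgr Lrot29 (Lpr_bt (f459189 IH) (Lpr_et (f468268 IH) (Lpr_bt (f209154 IH) (Lpn (LP (LK LD1_c3 LD2_c41 LD3_c8))))))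
theorem f203821 : Led Lsl_af (LP (LK LD1_c3 LD2_c42 LD3_c43)) = (LP (LK LD1_c3 LD2_c40 LD3_c14)) :=
  Lgr Lrot0 (Lpr_at (f203814 IH) (Lpn (LP (LK LD1_c3 LD2_c40 LD3_c14))))
theorem f142361 : Led Lsl_gt (LP (LK LD1_c7 LD2_c26 LD3_c5)) = (LP (LK LD1_c3 LD2_c42 LD3_c43)) :=
  Lre_g IH (LK LD1_c7 LD2_c26 LD3_c5) (LK LD1_c3 LD2_c42 LD3_c43) Lrfl Lrfl
theorem f203936 : Led Lsl_ft (LP (LK LD1_c7 LD2_c20 LD3_c43)) = (LP (LK LD1_c3 LD2_c40 LD3_c14)) :=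
  Lre_f IH (LK LD1_c7 LD2_c20 LD3_c43) (LK LD1_c3 LD2_c40 LD3_c14) Lrfl Lrfl
theorem f203963 : Led Lsl_gf (LP (LK LD1_c7 LD2_c26 LD3_c5)) = (LP (LK LD1_c7 LD2_c20 LD3_c43)) :=
  Lgr Lrot47 (Lpr_gt (f142361 IH) (Lpr_af (f203821 IH) (Lpe (f203936 IH) (Lpn (LP (LK LD1_c7 LD2_c20 LD3_c43))))))
theorem f120996 : Led Lsl_et (LP (LK LD1_c1 LD2_c48 LD3_c20)) = (LP (LK LD1_c0 LD2_c50 LD3_c55)) :=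
  Lre_e IH (LK LD1_c1 LD2_c48 LD3_c20) (LK LD1_c0 LD2_c50 LD3_c55) Lrfl Lrfl
theorem f120997 : Led Lsl_dt (LP (LK LD1_c1 LD2_c48 LD3_c20)) = (LP (LK LD1_c3 LD2_c42 LD3_c43)) :=
  Lre_d IH (LK LD1_c1 LD2_c48 LD3_c20) (LK LD1_c3 LD2_c42 LD3_c43) Lrfl Lrfl
theorem f122476 : Led Lsl_et (LP (LK LD1_c0 LD2_c50 LD3_c28)) = (LP (LK LD1_c1 LD2_c47 LD3_c24)) :=
  Lre_e IH (LK LD1_c0 LD2_c50 LD3_c28) (LK LD1_c1 LD2_c47 LD3_c24) Lrfl Lrfl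
theorem f128316 : Led Lsl_gt (LP (LK LD1_c1 LD2_c47 LD3_c24)) = (LP (LK LD1_c3 LD2_c40 LD3_c54)) :=
  Lre_g IH (LK LD1_c1 LD2_c47 LD3_c24) (LK LD1_c3 LD2_c40 LD3_c54) Lrfl Lrfl
theorem f142362 : Led Lsl_et (LP (LK LD1_c7 LD2_c22 LD3_c3)) = (LP (LK LD1_c3 LD2_c40 LD3_c54)) :=
  Lre_e IH (LK LD1_c7 LD2_c22 LD3_c3) (LK LD1_c3 LD2_c40 LD3_c54) Lrfl Lrfl
theorem f142363 : Led Lsl_df (LP (LK LD1_c7 LD2_c26 LD3_c5)) = (LP (LK LD1_c7 LD2_c22 LD3_c3)) :=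
  Lgr Lrot170 (Lpr_gt (f142361 IH) (Lpe (f120997 IH) (Lpr_et (f120996 IH) (Lpr_gt (K6.f142330 IH) (Lpe (K6.f142359 IH) (Lpr_gt (K6.f12585 IH) (Lpe (K4.f12588 IH) (Lpr_et (f122476 IH) (Lpr_gt (f128316 IH) (Lpe (f142362 IH) (Lpn (LP (LK LD1_c7 LD2_c22 LD3_c3)))))))))))))
theorem f468282 : Led Lsl_gf (LP (LK LD1_c3 LD2_c31 LD3_c37)) = (LP (LK LD1_c3 LD2_c40 LD3_c54)) :=
  Lgr Lrot141 (Lpr_ef (f468271 IH) (Lpr_dt (f131755 IH) (Lpr_gt (f131800 IH) (Lpe (f437717 IH) (Lpr_et (f203880 IH) (Lpr_gt (f203876 IH) (Lpr_dt (f203843 IH) (Lpe (f203963 IH) (Lpr_df (f142363 IH) (Lpr_et (f142362 IH) (Lpn (LP (LK LD1_c3 LD2_c40 LD3_c54)))))))))))))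
theorem f468263 : Led Lsl_bt (LP (LK LD1_c7 LD2_c4 LD3_c51)) = (LP (LK LD1_c3 LD2_c31 LD3_c37)) :=
  Lre_b IH (LK LD1_c7 LD2_c4 LD3_c51) (LK LD1_c3 LD2_c31 LD3_c37) Lrfl Lrfl
theorem f464372 : Led Lsl_ct (LP (LK LD1_c13 LD2_c24 LD3_c16)) = (LP (LK LD1_c7 LD2_c22 LD3_c22)) :=
  Lgr Lrot83 (Lpe (f98764 IH) (Lpr_cf (f464368 IH) (Lpe (K5.f122028 IH) (Lpe (K5.f122029 IH) (Lpe (f209154 IH) (Lpn (LP (LK LD1_c7 LD2_c22 LD3_c22))))))))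
theorem f98771 : Led Lsl_bt (LP (LK LD1_c6 LD2_c52 LD3_c8)) = (LP (LK LD1_c13 LD2_c3 LD3_c49)) :=
  Lre_b IH (LK LD1_c6 LD2_c52 LD3_c8) (LK LD1_c13 LD2_c3 LD3_c49) Lrfl Lrfl
theorem f98773 : Led Lsl_et (LP (LK LD1_c13 LD2_c3 LD3_c49)) = (LP (LK LD1_c13 LD2_c24 LD3_c16)) :=
  Lgr Lrot74 (Lpe (f98771 IH) (Lpr_ef (f98769 IH) (Lpe (f98772 IH) (Lpn (LP (LK LD1_c13 LD2_c24 LD3_c16))))))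
theorem f468266 : Led Lsl_ct (LP (LK LD1_c7 LD2_c4 LD3_c51)) = (LP (LK LD1_c13 LD2_c3 LD3_c49)) :=
  Lgr Lrot15 (Lpr_ef (f468259 IH) (Lpe (f464372 IH) (Lpe (f98773 IH) (Lpn (LP (LK LD1_c13 LD2_c3 LD3_c49))))))
theorem f439423 : Led Lsl_bt (LP (LK LD1_c7 LD2_c22 LD3_c1)) = (LP (LK LD1_c3 LD2_c40 LD3_c54)) :=
  Lre_b IH (LK LD1_c7 LD2_c22 LD3_c1) (LK LD1_c3 LD2_c40 LD3_c54) Lrfl Lrfl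
theorem f123730 : Led Lsl_at (LP (LK LD1_c7 LD2_c28 LD3_c34)) = (LP (LK LD1_c3 LD2_c43 LD3_c58)) :=
  Lre_a IH (LK LD1_c7 LD2_c28 LD3_c34) (LK LD1_c3 LD2_c43 LD3_c58) Lrfl Lrfl
theorem f123731 : Led Lsl_cf (LP (LK LD1_c3 LD2_c45 LD3_c48)) = (LP (LK LD1_c3 LD2_c43 LD3_c58)) :=
  Lgr Lrot1 (Lpr_at (f111816 IH) (Lpr_ct (K24.f123728 IH) (Lpr_at (f123730 IH) (Lpn (LP (LK LD1_c3 LD2_c43 LD3_c58))))))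
theorem f468292 : Led Lsl_cf (LP (LK LD1_c7 LD2_c32 LD3_c15)) = (LP (LK LD1_c7 LD2_c22 LD3_c1)) :=
  Lgr Lrot58 (Lpe (f123821 IH) (Lpr_cf (f123731 IH) (Lpr_bt (f123831 IH) (Lpr_gf (f465764 IH) (Lpe (f455759 IH) (Lpr_ct (K24.f455750 IH) (Lpe (f455664 IH) (Lpe (f459188 IH) (Lpr_gf (f468282 IH) (Lpe (f439423 IH) (Lpn (LP (LK LD1_c7 LD2_c22 LD3_c1)))))))))))))
theorem f123830 : Led Lsl_bt (LP (LK LD1_c14 LD2_c6 LD3_c58)) = (LP (LK LD1_c7 LD2_c28 LD3_c40)) :=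
  Lre_b IH (LK LD1_c14 LD2_c6 LD3_c58) (LK LD1_c7 LD2_c28 LD3_c40) Lrfl Lrfl
theorem f15875 : Led Lsl_ct (LP (LK LD1_c22 LD2_c12 LD3_c29)) = (LP (LK LD1_c13 LD2_c2 LD3_c50)) :=
  Lre_c IH (LK LD1_c22 LD2_c12 LD3_c29) (LK LD1_c13 LD2_c2 LD3_c50) Lrfl Lrfl
theorem f419420 : Led Lsl_gt (LP (LK LD1_c14 LD2_c15 LD3_c60)) = (LP (LK LD1_c7 LD2_c33 LD3_c58)) :=
  Lre_g IH (LK LD1_c14 LD2_c15 LD3_c60) (LK LD1_c7 LD2_c33 LD3_c58) Lrfl Lrfl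
theorem f468153 : Led Lsl_bt (LP (LK LD1_c22 LD2_c12 LD3_c29)) = (LP (LK LD1_c14 LD2_c15 LD3_c60)) :=
  Lgr Lrot130 (Lpr_ct (f15875 IH) (Lpe (K24.f18930 IH) (Lpe (K24.f18837 IH) (Lpr_bt (K24.f18540 IH) (Lpe (K24.f18849 IH) (Lpe (f18935 IH) (Lpe (f468146 IH) (Lpr_gf (f468149 IH) (Lpe (f420068 IH) (Lpe (f419420 IH) (Lpn (LP (LK LD1_c14 LD2_c15 LD3_c60)))))))))))))
theorem f18934 : Led Lsl_ct (LP (LK LD1_c13 LD2_c2 LD3_c50)) = (LP (LK LD1_c22 LD2_c12 LD3_c29)) :=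
  Lre_c IH (LK LD1_c13 LD2_c2 LD3_c50) (LK LD1_c22 LD2_c12 LD3_c29) Lrfl Lrfl
theorem f123782 : Led Lsl_ct (LP (LK LD1_c7 LD2_c28 LD3_c40)) = (LP (LK LD1_c14 LD2_c6 LD3_c59)) :=
  Lre_c IH (LK LD1_c7 LD2_c28 LD3_c40) (LK LD1_c14 LD2_c6 LD3_c59) Lrfl Lrfl
theorem f468158 : Led Lsl_cf (LP (LK LD1_c14 LD2_c6 LD3_c58)) = (LP (LK LD1_c14 LD2_c15 LD3_c60)) :=
  Lgr Lrot97 (Lpr_bt (f123830 IH) (Lpr_ct (f123782 IH) (Lpr_bt (K24.f460711 IH) (Lpr_ct (f18934 IH) (Lpr_bt (f468153 IH) (Lpn (LP (LK LD1_c14 LD2_c15 LD3_c60))))))))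
theorem f468160 : Led Lsl_ct (LP (LK LD1_c14 LD2_c6 LD3_c58)) = (LP (LK LD1_c14 LD2_c15 LD3_c60)) :=
  Lgr Lrot59 (Lpr_cf (f468158 IH) (Lpn (LP (LK LD1_c14 LD2_c15 LD3_c60))))
theorem f468294 : Led Lsl_gt (LP (LK LD1_c13 LD2_c3 LD3_c49)) = (LP (LK LD1_c14 LD2_c15 LD3_c60)) :=
  Lgr Lrot65 (Lpe (f468266 IH) (Lpr_bt (f468263 IH) (Lpr_gf (f468282 IH) (Lpe (f439423 IH) (Lpe (f468292 IH) (Lpe (f123821 IH) (Lpr_cf (f123731 IH) (Lpe (K24.f123827 IH) (Lpe (f123830 IH) (Lpr_ct (f468160 IH) (Lpn (LP (LK LD1_c14 LD2_c15 LD3_c60)))))))))))))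
theorem f457479 : Led Lsl_ct (LP (LK LD1_c3 LD2_c30 LD3_c37)) = (LP (LK LD1_c1 LD2_c41 LD3_c55)) :=
  Lre_c IH (LK LD1_c3 LD2_c30 LD3_c37) (LK LD1_c1 LD2_c41 LD3_c55) Lrfl Lrfl
theorem f457480 : Led Lsl_gt (LP (LK LD1_c1 LD2_c41 LD3_c55)) = (LP (LK LD1_c3 LD2_c30 LD3_c35)) :=
  Lre_g IH (LK LD1_c1 LD2_c41 LD3_c55) (LK LD1_c3 LD2_c30 LD3_c35) Lrfl Lrfl
theorem f468303 : Led Lsl_ct (LP (LK LD1_c6 LD2_c52 LD3_c8)) = (LP (LK LD1_c3 LD2_c30 LD3_c35)) :=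
  Lgr Lrot63 (Lpr_bt (f98771 IH) (Lpr_gt (f468294 IH) (Lpe (f468153 IH) (Lpr_ct (f15875 IH) (Lpr_gt (K24.f15874 IH) (Lpr_cf (K24.f15797 IH) (Lpr_bt (K24.f15794 IH) (Lpe (K24.f457477 IH) (Lpr_ct (f457479 IH) (Lpr_gt (f457480 IH) (Lpn (LP (LK LD1_c3 LD2_c30 LD3_c35)))))))))))))
theorem f98767 : Led Lsl_dt (LP (LK LD1_c13 LD2_c3 LD3_c50)) = (LP (LK LD1_c6 LD2_c52 LD3_c8)) :=
  Lre_d IH (LK LD1_c13 LD2_c3 LD3_c50) (LK LD1_c6 LD2_c52 LD3_c8) Lrfl Lrfl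
theorem f464398 : Led Lsl_df (LP (LK LD1_c22 LD2_c14 LD3_c0)) = (LP (LK LD1_c13 LD2_c7 LD3_c59)) :=
  Lgr Lrot38 (Lpr_dt (f464396 IH) (Lpn (LP (LK LD1_c13 LD2_c7 LD3_c59))))
theorem f95192 : Led Lsl_ct (LP (LK LD1_c6 LD2_c54 LD3_c44)) = (LP (LK LD1_c13 LD2_c7 LD3_c59)) :=
  Lre_c IH (LK LD1_c6 LD2_c54 LD3_c44) (LK LD1_c13 LD2_c7 LD3_c59) Lrfl Lrfl
theorem f468316 : Led Lsl_at (LP (LK LD1_c6 LD2_c58 LD3_c55)) = (LP (LK LD1_c3 LD2_c30 LD3_c35)) :=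
  Lgr Lrot33 (Lpe (K4.f17680 IH) (Lpr_dt (K4.f106132 IH) (Lpe (K24.f95189 IH) (Lpr_dt (f94990 IH) (Lpr_ct (f95192 IH) (Lpe (f464398 IH) (Lpr_ct (f464406 IH) (Lpr_dt (f98767 IH) (Lpr_ct (f468303 IH) (Lpn (LP (LK LD1_c3 LD2_c30 LD3_c35))))))))))))
theorem f459184 : Led Lsl_ct (LP (LK LD1_c1 LD2_c42 LD3_c24)) = (LP (LK LD1_c3 LD2_c31 LD3_c37)) :=
  Lre_c IH (LK LD1_c1 LD2_c42 LD3_c24) (LK LD1_c3 LD2_c31 LD3_c37) Lrfl Lrfl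
theorem f468308 : Led Lsl_bf (LP (LK LD1_c1 LD2_c42 LD3_c24)) = (LP (LK LD1_c3 LD2_c30 LD3_c35)) :=
  Lgr Lrot90 (Lpr_ct (f459184 IH) (Lpr_bt (f459189 IH) (Lpr_ct (f468266 IH) (Lpr_bt (f98763 IH) (Lpr_ct (f468303 IH) (Lpn (LP (LK LD1_c3 LD2_c30 LD3_c35))))))))
theorem f468322 : Led Lsl_af (LP (LK LD1_c3 LD2_c35 LD3_c38)) = (LP (LK LD1_c3 LD2_c30 LD3_c50)) :=
  Lgr Lrot36 (Lpe (f17685 IH) (Lpr_at (f468316 IH) (Lpe (f468308 IH) (Lpq (f463623 IH) (Lpe (K24.f459486 IH) (Lpqs (f463258 IH) (Lpe (f466493 IH) (Lpn (LP (LK LD1_c3 LD2_c30 LD3_c50))))))))))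
theorem f128101 : Led Lsl_ct (LP (LK LD1_c1 LD2_c43 LD3_c27)) = (LP (LK LD1_c0 LD2_c48 LD3_c22)) :=
  Lre_c IH (LK LD1_c1 LD2_c43 LD3_c27) (LK LD1_c0 LD2_c48 LD3_c22) Lrfl Lrfl
theorem f88019 : Led Lsl_gt (LP (LK LD1_c1 LD2_c53 LD3_c6)) = (LP (LK LD1_c0 LD2_c53 LD3_c9)) :=
  Lre_g IH (LK LD1_c1 LD2_c53 LD3_c6) (LK LD1_c0 LD2_c53 LD3_c9) Lrfl Lrfl
theorem f466485 : Led Lsl_df (LP (LK LD1_c3 LD2_c30 LD3_c50)) = (LP (LK LD1_c1 LD2_c53 LD3_c6)) :=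
  Lgr Lrot155 (Lpr_gt (f64670 IH) (Lpr_ct (f18829 IH) (Lpr_gt (f466466 IH) (Lpr_ct (K3.f92413 IH) (Lpe (K24.f106002 IH) (Lpe (f128101 IH) (Lpr_gf (f464841 IH) (Lpe (f446564 IH) (Lpe (f88019 IH) (Lpn (LP (LK LD1_c1 LD2_c53 LD3_c6))))))))))))
theorem f468350 : Led Lsl_at (LP (LK LD1_c3 LD2_c39 LD3_c13)) = (LP (LK LD1_c1 LD2_c53 LD3_c6)) :=
  Lgr Lrot51 (Lpe (K4.f106128 IH) (Lpr_af (f468322 IH) (Lpr_df (f466485 IH) (Lpn (LP (LK LD1_c1 LD2_c53 LD3_c6))))))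
theorem f5750 : Led Lsl_gt (LP (LK LD1_c1 LD2_c46 LD3_c34)) = (LP (LK LD1_c3 LD2_c39 LD3_c12)) :=
  Lre_g IH (LK LD1_c1 LD2_c46 LD3_c34) (LK LD1_c3 LD2_c39 LD3_c12) Lrfl Lrfl
theorem f468863 : Led Lsl_gt (LP (LK LD1_c3 LD2_c39 LD3_c12)) = (LP (LK LD1_c1 LD2_c53 LD3_c6)) :=
  Lgr Lrot46 (Lpe (f5750 IH) (Lpr_ft (K4.f5747 IH) (Lpr_at (f468350 IH) (Lpn (LP (LK LD1_c1 LD2_c53 LD3_c6))))))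
theorem f466608 : Led Lsl_df (LP (LK LD1_c7 LD2_c3 LD3_c44)) = (LP (LK LD1_c7 LD2_c7 LD3_c45)) :=
  Lgr Lrot38 (Lpr_dt (f466601 IH) (Lpn (LP (LK LD1_c7 LD2_c7 LD3_c45))))
theorem f464955 : Led Lsl_gf (LP (LK LD1_c7 LD2_c7 LD3_c45)) = (LP (LK LD1_c6 LD2_c58 LD3_c9)) :=
  Lgr Lrot47 (Lpr_gt (f97378 IH) (Lpe (f128174 IH) (Lpr_ff (f464923 IH) (Lpn (LP (LK LD1_c6 LD2_c58 LD3_c9))))))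
theorem f108645 : Led Lsl_dt (LP (LK LD1_c3 LD2_c32 LD3_c42)) = (LP (LK LD1_c7 LD2_c6 LD3_c16)) :=
  Lre_d IH (LK LD1_c3 LD2_c32 LD3_c42) (LK LD1_c7 LD2_c6 LD3_c16) Lrfl Lrfl
theorem f108619 : Led Lsl_af (LP (LK LD1_c3 LD2_c35 LD3_c50)) = (LP (LK LD1_c3 LD2_c32 LD3_c41)) :=
  Lgr Lrot117 (Lpr_dt (f98525 IH) (Lpr_at (K3.f108545 IH) (Lpr_dt (f94436 IH) (Lpn (LP (LK LD1_c3 LD2_c32 LD3_c41))))))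
theorem f98515 : Led Lsl_gt (LP (LK LD1_c7 LD2_c12 LD3_c18)) = (LP (LK LD1_c3 LD2_c35 LD3_c50)) :=
  Lre_g IH (LK LD1_c7 LD2_c12 LD3_c18) (LK LD1_c3 LD2_c35 LD3_c50) Lrfl Lrfl
theorem f441560 : Led Lsl_ft (LP (LK LD1_c7 LD2_c6 LD3_c16)) = (LP (LK LD1_c3 LD2_c32 LD3_c41)) :=
  Lre_f IH (LK LD1_c7 LD2_c6 LD3_c16) (LK LD1_c3 LD2_c32 LD3_c41) Lrfl Lrfl
theorem f441633 : Led Lsl_gf (LP (LK LD1_c7 LD2_c12 LD3_c18)) = (LP (LK LD1_c7 LD2_c6 LD3_c16)) :=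
  Lgr Lrot47 (Lpr_gt (f98515 IH) (Lpr_af (f108619 IH) (Lpe (f441560 IH) (Lpn (LP (LK LD1_c7 LD2_c6 LD3_c16))))))
theorem f98513 : Led Lsl_et (LP (LK LD1_c1 LD2_c44 LD3_c45)) = (LP (LK LD1_c0 LD2_c49 LD3_c1)) :=
  Lre_e IH (LK LD1_c1 LD2_c44 LD3_c45) (LK LD1_c0 LD2_c49 LD3_c1) Lrfl Lrfl
theorem f98516 : Led Lsl_gt (LP (LK LD1_c1 LD2_c43 LD3_c27)) = (LP (LK LD1_c3 LD2_c33 LD3_c24)) :=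
  Lre_g IH (LK LD1_c1 LD2_c43 LD3_c27) (LK LD1_c3 LD2_c33 LD3_c24) Lrfl Lrfl
theorem f98517 : Led Lsl_et (LP (LK LD1_c7 LD2_c7 LD3_c43)) = (LP (LK LD1_c3 LD2_c33 LD3_c24)) :=
  Lre_e IH (LK LD1_c7 LD2_c7 LD3_c43) (LK LD1_c3 LD2_c33 LD3_c24) Lrfl Lrfl
theorem f98518 : Led Lsl_df (LP (LK LD1_c7 LD2_c12 LD3_c18)) = (LP (LK LD1_c7 LD2_c7 LD3_c43)) :=
  Lgr Lrot170 (Lpr_gt (f98515 IH) (Lpe (f98514 IH) (Lpr_et (f98513 IH) (Lpe (K3.f97281 IH) (Lpr_dt (K3.f5784 IH) (Lpr_gt (K3.f98498 IH) (Lpe (K3.f10462 IH) (Lpr_et (K5.f97385 IH) (Lpr_gt (f98516 IH) (Lpe (f98517 IH) (Lpn (LP (LK LD1_c7 LD2_c7 LD3_c43)))))))))))))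
theorem f466603 : Led Lsl_gf (LP (LK LD1_c3 LD2_c27 LD3_c59)) = (LP (LK LD1_c3 LD2_c33 LD3_c24)) :=
  Lgr Lrot138 (Lpr_dt (f458602 IH) (Lpe (f464955 IH) (Lpe (f466601 IH) (Lpr_et (f466594 IH) (Lpe (f108462 IH) (Lpr_ef (K3.f108649 IH) (Lpr_dt (f108645 IH) (Lpe (f441633 IH) (Lpr_df (f98518 IH) (Lpr_et (f98517 IH) (Lpn (LP (LK LD1_c3 LD2_c33 LD3_c24)))))))))))))
theorem f468867 : Led Lsl_ct (LP (LK LD1_c3 LD2_c39 LD3_c12)) = (LP (LK LD1_c3 LD2_c33 LD3_c24)) :=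
  Lgr Lrot8 (Lpr_gt (f468863 IH) (Lpe (f466485 IH) (Lpr_gt (f64670 IH) (Lpr_dt (f466472 IH) (Lpe (f466473 IH) (Lpr_df (f466608 IH) (Lpr_gf (f464955 IH) (Lpe (f458602 IH) (Lpr_gf (f466603 IH) (Lpn (LP (LK LD1_c3 LD2_c33 LD3_c24))))))))))))
theorem f5737 : Led Lsl_bt (LP (LK LD1_c1 LD2_c49 LD3_c27)) = (LP (LK LD1_c1 LD2_c46 LD3_c34)) :=
  Lgr Lrot127 (Lpr_bf (K4.f5735 IH) (Lpn (LP (LK LD1_c1 LD2_c46 LD3_c34))))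
theorem f455119 : Led Lsl_bt (LP (LK LD1_c0 LD2_c46 LD3_c40)) = (LP (LK LD1_c1 LD2_c40 LD3_c26)) :=
  Lre_b IH (LK LD1_c0 LD2_c46 LD3_c40) (LK LD1_c1 LD2_c40 LD3_c26) Lrfl Lrfl
theorem f16723 : Led Lsl_ct (LP (LK LD1_c0 LD2_c46 LD3_c40)) = (LP (LK LD1_c1 LD2_c40 LD3_c27)) :=
  Lre_c IH (LK LD1_c0 LD2_c46 LD3_c40) (LK LD1_c1 LD2_c40 LD3_c27) Lrfl Lrfl
theorem f468873 : Led Lsl_gf (LP (LK LD1_c3 LD2_c26 LD3_c26)) = (LP (LK LD1_c1 LD2_c40 LD3_c27)) :=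
  Lgr Lrot126 (Lpr_cf (K24.f95189 IH) (Lpr_bt (f5737 IH) (Lpr_gt (f5750 IH) (Lpr_ct (f468867 IH) (Lpe (f466603 IH) (Lpe (f450692 IH) (Lpqs (K24.f461944 IH) (Lpe (f464618 IH) (Lpr_gt (f98812 IH) (Lpe (f455119 IH) (Lpr_ct (f16723 IH) (Lpn (LP (LK LD1_c1 LD2_c40 LD3_c27))))))))))))))
theorem f15832 : Led Lsl_ct (LP (LK LD1_c1 LD2_c38 LD3_c51)) = (LP (LK LD1_c3 LD2_c24 LD3_c54)) :=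
  Lre_c IH (LK LD1_c1 LD2_c38 LD3_c51) (LK LD1_c3 LD2_c24 LD3_c54) Lrfl Lrfl
theorem f468877 : Led Lsl_gf (LP (LK LD1_c6 LD2_c51 LD3_c40)) = (LP (LK LD1_c3 LD2_c24 LD3_c54)) :=
  Lgr Lrot104 (Lpe (K3.f91228 IH) (Lpr_df (f106119 IH) (Lpe (K24.f95136 IH) (Lpr_gf (f468873 IH) (Lpe (f16723 IH) (Lpe (f16712 IH) (Lpe (f15822 IH) (Lpr_gt (K2.f15824 IH) (Lpr_ct (f15832 IH) (Lpn (LP (LK LD1_c3 LD2_c24 LD3_c54))))))))))))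
theorem f468919 : Led Lsl_gt (LP (LK LD1_c6 LD2_c52 LD3_c8)) = (LP (LK LD1_c3 LD2_c24 LD3_c54)) :=
  Lgr Lrot5 (Lpr_ft (f464386 IH) (Lpr_at (f121907 IH) (Lpr_gf (f468877 IH) (Lpn (LP (LK LD1_c3 LD2_c24 LD3_c54))))))
theorem f18355 : Led Lsl_dt (LP (LK LD1_c3 LD2_c24 LD3_c47)) = (LP (LK LD1_c1 LD2_c38 LD3_c49)) :=
  Lre_d IH (LK LD1_c3 LD2_c24 LD3_c47) (LK LD1_c1 LD2_c38 LD3_c49) Lrfl Lrfl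
theorem f18451 : Led Lsl_ct (LP (LK LD1_c6 LD2_c52 LD3_c4)) = (LP (LK LD1_c3 LD2_c24 LD3_c47)) :=
  Lre_c IH (LK LD1_c6 LD2_c52 LD3_c4) (LK LD1_c3 LD2_c24 LD3_c47) Lrfl Lrfl
theorem f17049 : Led Lsl_gt (LP (LK LD1_c13 LD2_c3 LD3_c44)) = (LP (LK LD1_c6 LD2_c52 LD3_c4)) :=
  Lre_g IH (LK LD1_c13 LD2_c3 LD3_c44) (LK LD1_c6 LD2_c52 LD3_c4) Lrfl Lrfl
theorem f469124 : Led Lsl_ct (LP (LK LD1_c6 LD2_c57 LD3_c55)) = (LP (LK LD1_c13 LD2_c3 LD3_c44)) :=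
  Lgr Lrot152 (Lpe (f98757 IH) (Lpe (f98758 IH) (Lpr_gt (f468919 IH) (Lpr_ct (f18999 IH) (Lpr_gt (K2.f17017 IH) (Lpr_ct (f19065 IH) (Lpe (f18355 IH) (Lpe (f18451 IH) (Lpe (f17049 IH) (Lpn (LP (LK LD1_c13 LD2_c3 LD3_c44))))))))))))
theorem f16713 : Led Lsl_dt (LP (LK LD1_c0 LD2_c46 LD3_c40)) = (LP (LK LD1_c1 LD2_c40 LD3_c28)) :=
  Lre_d IH (LK LD1_c0 LD2_c46 LD3_c40) (LK LD1_c1 LD2_c40 LD3_c28) Lrfl Lrfl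
theorem f455124 : Led Lsl_dt (LP (LK LD1_c3 LD2_c27 LD3_c48)) = (LP (LK LD1_c1 LD2_c40 LD3_c27)) :=
  Lre_d IH (LK LD1_c3 LD2_c27 LD3_c48) (LK LD1_c1 LD2_c40 LD3_c27) Lrfl Lrfl
theorem f455125 : Led Lsl_ct (LP (LK LD1_c6 LD2_c57 LD3_c50)) = (LP (LK LD1_c3 LD2_c27 LD3_c48)) :=
  Lre_c IH (LK LD1_c6 LD2_c57 LD3_c50) (LK LD1_c3 LD2_c27 LD3_c48) Lrfl Lrfl
theorem f91989 : Led Lsl_dt (LP (LK LD1_c0 LD2_c46 LD3_c39)) = (LP (LK LD1_c1 LD2_c40 LD3_c24)) :=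
  Lre_d IH (LK LD1_c0 LD2_c46 LD3_c39) (LK LD1_c1 LD2_c40 LD3_c24) Lrfl Lrfl
theorem f468921 : Led Lsl_ct (LP (LK LD1_c3 LD2_c27 LD3_c40)) = (LP (LK LD1_c1 LD2_c40 LD3_c24)) :=
  Lre_c IH (LK LD1_c3 LD2_c27 LD3_c40) (LK LD1_c1 LD2_c40 LD3_c24) Lrfl Lrfl
theorem f468922 : Led Lsl_dt (LP (LK LD1_c6 LD2_c57 LD3_c35)) = (LP (LK LD1_c3 LD2_c27 LD3_c40)) :=
  Lre_d IH (LK LD1_c6 LD2_c57 LD3_c35) (LK LD1_c3 LD2_c27 LD3_c40) Lrfl Lrfl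
theorem f468923 : Led Lsl_gt (LP (LK LD1_c13 LD2_c2 LD3_c61)) = (LP (LK LD1_c6 LD2_c57 LD3_c35)) :=
  Lgr Lrot49 (Lpe (f91165 IH) (Lpr_gf (f468877 IH) (Lpe (f15832 IH) (Lpr_gt (K2.f17017 IH) (Lpr_dt (f17016 IH) (Lpr_gt (K2.f16743 IH) (Lpr_dt (f91989 IH) (Lpe (f468921 IH) (Lpe (f468922 IH) (Lpn (LP (LK LD1_c6 LD2_c57 LD3_c35))))))))))))
theorem f91137 : Led Lsl_dt (LP (LK LD1_c13 LD2_c2 LD3_c61)) = (LP (LK LD1_c6 LD2_c51 LD3_c40)) :=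
  Lre_d IH (LK LD1_c13 LD2_c2 LD3_c61) (LK LD1_c6 LD2_c51 LD3_c40) Lrfl Lrfl
theorem f64669 : Led Lsl_bt (LP (LK LD1_c0 LD2_c47 LD3_c29)) = (LP (LK LD1_c1 LD2_c41 LD3_c59)) :=
  Lre_b IH (LK LD1_c0 LD2_c47 LD3_c29) (LK LD1_c1 LD2_c41 LD3_c59) Lrfl Lrfl
theorem f458351 : Led Lsl_bt (LP (LK LD1_c1 LD2_c38 LD3_c50)) = (LP (LK LD1_c3 LD2_c24 LD3_c49)) :=
  Lre_b IH (LK LD1_c1 LD2_c38 LD3_c50) (LK LD1_c3 LD2_c24 LD3_c49) Lrfl Lrfl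
theorem f18585 : Led Lsl_ct (LP (LK LD1_c1 LD2_c38 LD3_c50)) = (LP (LK LD1_c3 LD2_c24 LD3_c50)) :=
  Lre_c IH (LK LD1_c1 LD2_c38 LD3_c50) (LK LD1_c3 LD2_c24 LD3_c50) Lrfl Lrfl
theorem f466569 : Led Lsl_gf (LP (LK LD1_c3 LD2_c24 LD3_c50)) = (LP (LK LD1_c6 LD2_c51 LD3_c40)) :=
  Lgr Lrot126 (Lpe (f18585 IH) (Lpr_bt (f458351 IH) (Lpe (f464044 IH) (Lpr_ct (K24.f460545 IH) (Lpe (K24.f460525 IH) (Lpe (K5.f18831 IH) (Lpr_bt (f64669 IH) (Lpr_gt (f466566 IH) (Lpe (K3.f17678 IH) (Lpr_ct (K3.f91226 IH) (Lpn (LP (LK LD1_c6 LD2_c51 LD3_c40)))))))))))))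
theorem f19051 : Led Lsl_ct (LP (LK LD1_c3 LD2_c24 LD3_c50)) = (LP (LK LD1_c1 LD2_c38 LD3_c50)) :=
  Lre_c IH (LK LD1_c3 LD2_c24 LD3_c50) (LK LD1_c1 LD2_c38 LD3_c50) Lrfl Lrfl
theorem f18982 : Led Lsl_dt (LP (LK LD1_c6 LD2_c51 LD3_c37)) = (LP (LK LD1_c13 LD2_c2 LD3_c57)) :=
  Lre_d IH (LK LD1_c6 LD2_c51 LD3_c37) (LK LD1_c13 LD2_c2 LD3_c57) Lrfl Lrfl
theorem f162349 : Led Lsl_ct (LP (LK LD1_c6 LD2_c57 LD3_c13)) = (LP (LK LD1_c13 LD2_c2 LD3_c57)) :=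
  Lre_c IH (LK LD1_c6 LD2_c57 LD3_c13) (LK LD1_c13 LD2_c2 LD3_c57) Lrfl Lrfl
theorem f17035 : Led Lsl_gt (LP (LK LD1_c13 LD2_c3 LD3_c43)) = (LP (LK LD1_c6 LD2_c57 LD3_c13)) :=
  Lre_g IH (LK LD1_c13 LD2_c3 LD3_c43) (LK LD1_c6 LD2_c57 LD3_c13) Lrfl Lrfl
theorem f468959 : Led Lsl_cf (LP (LK LD1_c13 LD2_c3 LD3_c43)) = (LP (LK LD1_c6 LD2_c57 LD3_c35)) :=
  Lgr Lrot169 (Lpr_gt (f17035 IH) (Lpr_ct (f162349 IH) (Lpe (f18982 IH) (Lpe (K2.f15816 IH) (Lpe (f15835 IH) (Lpe (f19051 IH) (Lpr_gf (f466569 IH) (Lpe (f91137 IH) (Lpr_gt (f468923 IH) (Lpn (LP (LK LD1_c6 LD2_c57 LD3_c35))))))))))))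
theorem f455123 : Led Lsl_dt (LP (LK LD1_c3 LD2_c27 LD3_c40)) = (LP (LK LD1_c6 LD2_c57 LD3_c35)) :=
  Lre_d IH (LK LD1_c3 LD2_c27 LD3_c40) (LK LD1_c6 LD2_c57 LD3_c35) Lrfl Lrfl
theorem f446573 : Led Lsl_ct (LP (LK LD1_c1 LD2_c40 LD3_c24)) = (LP (LK LD1_c3 LD2_c27 LD3_c40)) :=
  Lre_c IH (LK LD1_c1 LD2_c40 LD3_c24) (LK LD1_c3 LD2_c27 LD3_c40) Lrfl Lrfl
def v600 : LQ := Led Lsl_ft (LP (LK LD1_c0 LD2_c46 LD3_c39))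
theorem f455120 : Led Lsl_ft (LP (LK LD1_c0 LD2_c46 LD3_c39)) = v600 :=
  Lrfl
def v599 : LQ := Led Lsl_at (LP (LK LD1_c0 LD2_c46 LD3_c39))
theorem f455112 : Led Lsl_at (LP (LK LD1_c0 LD2_c46 LD3_c39)) = v599 :=
  Lrfl
theorem f455113 : Led Lsl_af (LP (LK LD1_c0 LD2_c46 LD3_c39)) = v599 :=
  Lgr Lrot0 (Lpr_at (f455112 IH) (Lpn v599))
theorem f455115 : Led Lsl_ft (LP (LK LD1_c0 LD2_c46 LD3_c40)) = v599 :=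
  Lgr Lrot2 (Lpr_gt (K24.f16742 IH) (Lpr_gt (K2.f16743 IH) (Lpr_af (f455113 IH) (Lpn v599))))
theorem f455121 : Led Lsl_af (LP (LK LD1_c0 LD2_c46 LD3_c40)) = v600 :=
  Lgr Lrot45 (Lpr_ft (f455115 IH) (Lpe (f455113 IH) (Lpr_ft (f455120 IH) (Lpn v600))))
theorem f468975 : Led Lsl_dt (LP (LK LD1_c13 LD2_c3 LD3_c43)) = (LP (LK LD1_c6 LD2_c57 LD3_c50)) :=
  Lgr Lrot140 (Lpr_cf (f468959 IH) (Lpe (f455123 IH) (Lpe (f446573 IH) (Lpe (f91989 IH) (Lpr_ft (f455120 IH) (Lpe (f455121 IH) (Lpe (f16734 IH) (Lpe (f455124 IH) (Lpe (f455125 IH) (Lpn (LP (LK LD1_c6 LD2_c57 LD3_c50))))))))))))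
theorem f16755 : Led Lsl_ct (LP (LK LD1_c1 LD2_c40 LD3_c23)) = (LP (LK LD1_c0 LD2_c46 LD3_c39)) :=
  Lre_c IH (LK LD1_c1 LD2_c40 LD3_c23) (LK LD1_c0 LD2_c46 LD3_c39) Lrfl Lrfl
theorem f455116 : Led Lsl_dt (LP (LK LD1_c3 LD2_c27 LD3_c37)) = (LP (LK LD1_c1 LD2_c40 LD3_c23)) :=
  Lre_d IH (LK LD1_c3 LD2_c27 LD3_c37) (LK LD1_c1 LD2_c40 LD3_c23) Lrfl Lrfl
theorem f455117 : Led Lsl_ct (LP (LK LD1_c6 LD2_c57 LD3_c28)) = (LP (LK LD1_c3 LD2_c27 LD3_c37)) :=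
  Lre_c IH (LK LD1_c6 LD2_c57 LD3_c28) (LK LD1_c3 LD2_c27 LD3_c37) Lrfl Lrfl
theorem f472703 : Led Lsl_df (LP (LK LD1_c6 LD2_c57 LD3_c28)) = (LP (LK LD1_c13 LD2_c3 LD3_c44)) :=
  Lgr Lrot43 (Lpr_ct (f455117 IH) (Lpr_dt (f455116 IH) (Lpr_ct (f16755 IH) (Lpr_dt (f91989 IH) (Lpr_ct (f446573 IH) (Lpr_dt (f455123 IH) (Lpe (f468959 IH) (Lpr_dt (f468975 IH) (Lpr_ct (f455125 IH) (Lpr_dt (f455124 IH) (Lpr_ct (f16734 IH) (Lpr_dt (f16713 IH) (Lpr_ct (f16714 IH) (Lpr_dt (f98756 IH) (Lpr_ct (f469124 IH) (Lpn (LP (LK LD1_c13 LD2_c3 LD3_c44))))))))))))))))))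
theorem f472783 : Led Lsl_dt (LP (LK LD1_c6 LD2_c57 LD3_c28)) = (LP (LK LD1_c13 LD2_c3 LD3_c44)) :=
  Lgr Lrot42 (Lpr_df (f472703 IH) (Lpn (LP (LK LD1_c13 LD2_c3 LD3_c44))))
theorem f17048 : Led Lsl_dt (LP (LK LD1_c6 LD2_c52 LD3_c4)) = (LP (LK LD1_c13 LD2_c3 LD3_c46)) :=
  Lre_d IH (LK LD1_c6 LD2_c52 LD3_c4) (LK LD1_c13 LD2_c3 LD3_c46) Lrfl Lrfl
theorem f17052 : Led Lsl_ct (LP (LK LD1_c6 LD2_c54 LD3_c29)) = (LP (LK LD1_c13 LD2_c3 LD3_c46)) :=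
  Lre_c IH (LK LD1_c6 LD2_c54 LD3_c29) (LK LD1_c13 LD2_c3 LD3_c46) Lrfl Lrfl
theorem f472790 : Led Lsl_dt (LP (LK LD1_c3 LD2_c27 LD3_c23)) = (LP (LK LD1_c1 LD2_c40 LD3_c18)) :=
  Lre_d IH (LK LD1_c3 LD2_c27 LD3_c23) (LK LD1_c1 LD2_c40 LD3_c18) Lrfl Lrfl
theorem f472791 : Led Lsl_gt (LP (LK LD1_c6 LD2_c56 LD3_c52)) = (LP (LK LD1_c3 LD2_c27 LD3_c23)) :=
  Lre_g IH (LK LD1_c6 LD2_c56 LD3_c52) (LK LD1_c3 LD2_c27 LD3_c23) Lrfl Lrfl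
theorem f472792 : Led Lsl_ct (LP (LK LD1_c13 LD2_c11 LD3_c31)) = (LP (LK LD1_c6 LD2_c56 LD3_c52)) :=
  Lre_c IH (LK LD1_c13 LD2_c11 LD3_c31) (LK LD1_c6 LD2_c56 LD3_c52) Lrfl Lrfl
theorem f472793 : Led Lsl_gf (LP (LK LD1_c6 LD2_c57 LD3_c28)) = (LP (LK LD1_c13 LD2_c11 LD3_c31)) :=
  Lgr Lrot144 (Lpr_dt (f472783 IH) (Lpr_gt (f17049 IH) (Lpr_dt (f17048 IH) (Lpe (f17052 IH) (Lpe (K0.f15295 IH) (Lpe (K2.f15320 IH) (Lpe (f472790 IH) (Lpe (f472791 IH) (Lpe (f472792 IH) (Lpn (LP (LK LD1_c13 LD2_c11 LD3_c31))))))))))))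
theorem f16744 : Led Lsl_ct (LP (LK LD1_c0 LD2_c46 LD3_c39)) = (LP (LK LD1_c1 LD2_c40 LD3_c23)) :=
  Lre_c IH (LK LD1_c0 LD2_c46 LD3_c39) (LK LD1_c1 LD2_c40 LD3_c23) Lrfl Lrfl
theorem f15326 : Led Lsl_dt (LP (LK LD1_c1 LD2_c40 LD3_c19)) = (LP (LK LD1_c3 LD2_c27 LD3_c26)) :=
  Lre_d IH (LK LD1_c1 LD2_c40 LD3_c19) (LK LD1_c3 LD2_c27 LD3_c26) Lrfl Lrfl
theorem f472796 : Led Lsl_ct (LP (LK LD1_c6 LD2_c56 LD3_c52)) = (LP (LK LD1_c13 LD2_c11 LD3_c31)) :=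
  Lre_c IH (LK LD1_c6 LD2_c56 LD3_c52) (LK LD1_c13 LD2_c11 LD3_c31) Lrfl Lrfl
theorem f472801 : Led Lsl_gt (LP (LK LD1_c3 LD2_c27 LD3_c26)) = (LP (LK LD1_c6 LD2_c56 LD3_c52)) :=
  Lgr Lrot9 (Lpe (f15326 IH) (Lpr_gt (f15695 IH) (Lpr_ct (K24.f15674 IH) (Lpr_gt (K2.f16743 IH) (Lpr_ct (f16744 IH) (Lpe (f455116 IH) (Lpe (f455117 IH) (Lpr_gf (f472793 IH) (Lpe (f472796 IH) (Lpn (LP (LK LD1_c6 LD2_c56 LD3_c52))))))))))))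
theorem f456902 : Led Lsl_dt (LP (LK LD1_c1 LD2_c45 LD3_c54)) = (LP (LK LD1_c3 LD2_c38 LD3_c2)) :=
  Lre_d IH (LK LD1_c1 LD2_c45 LD3_c54) (LK LD1_c3 LD2_c38 LD3_c2) Lrfl Lrfl
theorem f11046 : Led Lsl_ct (LP (LK LD1_c3 LD2_c38 LD3_c2)) = (LP (LK LD1_c7 LD2_c16 LD3_c34)) :=
  Lre_c IH (LK LD1_c3 LD2_c38 LD3_c2) (LK LD1_c7 LD2_c16 LD3_c34) Lrfl Lrfl
theorem f472805 : Led Lsl_df (LP (LK LD1_c7 LD2_c16 LD3_c34)) = (LP (LK LD1_c6 LD2_c56 LD3_c52)) :=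
  Lgr Lrot84 (Lpe (f11046 IH) (Lpe (f456902 IH) (Lpr_gf (K24.f458189 IH) (Lpe (f16713 IH) (Lpe (f16712 IH) (Lpe (f15309 IH) (Lpr_gt (f15323 IH) (Lpr_dt (f15326 IH) (Lpr_gt (f472801 IH) (Lpn (LP (LK LD1_c6 LD2_c56 LD3_c52))))))))))))
theorem f455165 : Led Lsl_bt (LP (LK LD1_c1 LD2_c46 LD3_c54)) = (LP (LK LD1_c0 LD2_c50 LD3_c14)) :=
  Lre_b IH (LK LD1_c1 LD2_c46 LD3_c54) (LK LD1_c0 LD2_c50 LD3_c14) Lrfl Lrfl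
theorem f457118 : Led Lsl_bt (LP (LK LD1_c1 LD2_c45 LD3_c55)) = (LP (LK LD1_c3 LD2_c38 LD3_c2)) :=
  Lre_b IH (LK LD1_c1 LD2_c45 LD3_c55) (LK LD1_c3 LD2_c38 LD3_c2) Lrfl Lrfl
theorem f457366 : Led Lsl_ff (LP (LK LD1_c1 LD2_c46 LD3_c54)) = (LP (LK LD1_c3 LD2_c38 LD3_c2)) :=
  Lgr Lrot25 (Lpr_bt (f455165 IH) (Lpq (K24.f457218 IH) (Lpe (K24.f457122 IH) (Lpr_bt (f457118 IH) (Lpn (LP (LK LD1_c3 LD2_c38 LD3_c2)))))))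
theorem f457370 : Led Lsl_ft (LP (LK LD1_c1 LD2_c46 LD3_c54)) = (LP (LK LD1_c3 LD2_c38 LD3_c2)) :=
  Lgr Lrot48 (Lpr_ff (f457366 IH) (Lpn (LP (LK LD1_c3 LD2_c38 LD3_c2))))
theorem f455952 : Led Lsl_ct (LP (LK LD1_c3 LD2_c39 LD3_c53)) = (LP (LK LD1_c1 LD2_c46 LD3_c54)) :=
  Lre_c IH (LK LD1_c3 LD2_c39 LD3_c53) (LK LD1_c1 LD2_c46 LD3_c54) Lrfl Lrfl
theorem f457374 : Led Lsl_ff (LP (LK LD1_c3 LD2_c39 LD3_c53)) = (LP (LK LD1_c7 LD2_c16 LD3_c34)) :=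
  Lgr Lrot23 (Lpr_ct (f455952 IH) (Lpr_ft (f457370 IH) (Lpr_ct (f11046 IH) (Lpn (LP (LK LD1_c7 LD2_c16 LD3_c34))))))
theorem f456281 : Led Lsl_dt (LP (LK LD1_c3 LD2_c39 LD3_c53)) = (LP (LK LD1_c7 LD2_c19 LD3_c60)) :=
  Lre_d IH (LK LD1_c3 LD2_c39 LD3_c53) (LK LD1_c7 LD2_c19 LD3_c60) Lrfl Lrfl
theorem f472814 : Led Lsl_ft (LP (LK LD1_c7 LD2_c19 LD3_c60)) = (LP (LK LD1_c6 LD2_c56 LD3_c52)) :=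
  Lgr Lrot54 (Lpe (f456281 IH) (Lpr_ff (f457374 IH) (Lpr_df (f472805 IH) (Lpn (LP (LK LD1_c6 LD2_c56 LD3_c52))))))
theorem f472820 : Led Lsl_ff (LP (LK LD1_c7 LD2_c19 LD3_c60)) = (LP (LK LD1_c6 LD2_c56 LD3_c52)) :=
  Lgr Lrot3 (Lpr_ft (f472814 IH) (Lpn (LP (LK LD1_c6 LD2_c56 LD3_c52))))
theorem f90897 : Led Lsl_gt (LP (LK LD1_c3 LD2_c27 LD3_c23)) = (LP (LK LD1_c6 LD2_c56 LD3_c51)) :=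
  Lre_g IH (LK LD1_c3 LD2_c27 LD3_c23) (LK LD1_c6 LD2_c56 LD3_c51) Lrfl Lrfl
theorem f472824 : Led Lsl_at (LP (LK LD1_c7 LD2_c19 LD3_c60)) = (LP (LK LD1_c6 LD2_c56 LD3_c51)) :=
  Lgr Lrot26 (Lpr_ff (f472820 IH) (Lpr_gt (f472791 IH) (Lpr_gt (f90897 IH) (Lpn (LP (LK LD1_c6 LD2_c56 LD3_c51))))))
theorem f469058 : Led Lsl_ct (LP (LK LD1_c13 LD2_c11 LD3_c29)) = (LP (LK LD1_c6 LD2_c56 LD3_c51)) :=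
  Lre_c IH (LK LD1_c13 LD2_c11 LD3_c29) (LK LD1_c6 LD2_c56 LD3_c51) Lrfl Lrfl
theorem f457124 : Led Lsl_ct (LP (LK LD1_c7 LD2_c16 LD3_c34)) = (LP (LK LD1_c3 LD2_c38 LD3_c2)) :=
  Lre_c IH (LK LD1_c7 LD2_c16 LD3_c34) (LK LD1_c3 LD2_c38 LD3_c2) Lrfl Lrfl
theorem f456912 : Led Lsl_dt (LP (LK LD1_c3 LD2_c38 LD3_c2)) = (LP (LK LD1_c1 LD2_c45 LD3_c54)) :=
  Lre_d IH (LK LD1_c3 LD2_c38 LD3_c2) (LK LD1_c1 LD2_c45 LD3_c54) Lrfl Lrfl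
theorem f455985 : Led Lsl_ct (LP (LK LD1_c1 LD2_c45 LD3_c54)) = (LP (LK LD1_c3 LD2_c38 LD3_c1)) :=
  Lre_c IH (LK LD1_c1 LD2_c45 LD3_c54) (LK LD1_c3 LD2_c38 LD3_c1) Lrfl Lrfl
theorem f457372 : Led Lsl_dt (LP (LK LD1_c3 LD2_c38 LD3_c1)) = (LP (LK LD1_c7 LD2_c16 LD3_c33)) :=
  Lre_d IH (LK LD1_c3 LD2_c38 LD3_c1) (LK LD1_c7 LD2_c16 LD3_c33) Lrfl Lrfl
theorem f457373 : Led Lsl_ct (LP (LK LD1_c7 LD2_c16 LD3_c33)) = (LP (LK LD1_c13 LD2_c46 LD3_c12)) :=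
  Lre_c IH (LK LD1_c7 LD2_c16 LD3_c33) (LK LD1_c13 LD2_c46 LD3_c12) Lrfl Lrfl
theorem f472826 : Led Lsl_df (LP (LK LD1_c13 LD2_c11 LD3_c29)) = (LP (LK LD1_c13 LD2_c46 LD3_c12)) :=
  Lgr Lrot177 (Lpr_ct (f469058 IH) (Lpe (f472824 IH) (Lpr_ff (f472820 IH) (Lpe (f472805 IH) (Lpr_ct (f457124 IH) (Lpr_dt (f456912 IH) (Lpr_ct (f455985 IH) (Lpr_dt (f457372 IH) (Lpr_ct (f457373 IH) (Lpn (LP (LK LD1_c13 LD2_c46 LD3_c12))))))))))))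
theorem f469064 : Led Lsl_dt (LP (LK LD1_c6 LD2_c56 LD3_c51)) = (LP (LK LD1_c6 LD2_c54 LD3_c18)) :=
  Lre_d IH (LK LD1_c6 LD2_c56 LD3_c51) (LK LD1_c6 LD2_c54 LD3_c18) Lrfl Lrfl
theorem f472830 : Led Lsl_ct (LP (LK LD1_c6 LD2_c54 LD3_c18)) = (LP (LK LD1_c3 LD2_c26 LD3_c11)) :=
  Lre_c IH (LK LD1_c6 LD2_c54 LD3_c18) (LK LD1_c3 LD2_c26 LD3_c11) Lrfl Lrfl
theorem f472837 : Led Lsl_af (LP (LK LD1_c3 LD2_c26 LD3_c11)) = (LP (LK LD1_c1 LD2_c46 LD3_c54)) :=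
  Lgr Lrot109 (Lpe (f472830 IH) (Lpe (f469064 IH) (Lpe (f469058 IH) (Lpr_df (f472826 IH) (Lpe (f457373 IH) (Lpe (f457372 IH) (Lpe (f455985 IH) (Lpe (f456912 IH) (Lpe (f457366 IH) (Lpn (LP (LK LD1_c1 LD2_c46 LD3_c54))))))))))))
theorem f472843 : Led Lsl_at (LP (LK LD1_c3 LD2_c26 LD3_c11)) = (LP (LK LD1_c1 LD2_c46 LD3_c54)) :=
  Lgr Lrot100 (Lpr_af (f472837 IH) (Lpn (LP (LK LD1_c1 LD2_c46 LD3_c54))))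
theorem f463399 : Led Lsl_ct (LP (LK LD1_c3 LD2_c43 LD3_c52)) = (LP (LK LD1_c3 LD2_c24 LD3_c53)) :=
  Lgr Lrot59 (Lpr_cf (f463391 IH) (Lpn (LP (LK LD1_c3 LD2_c24 LD3_c53))))
theorem f455620 : Led Lsl_dt (LP (LK LD1_c0 LD2_c47 LD3_c39)) = (LP (LK LD1_c1 LD2_c42 LD3_c18)) :=
  Lre_d IH (LK LD1_c0 LD2_c47 LD3_c39) (LK LD1_c1 LD2_c42 LD3_c18) Lrfl Lrfl
theorem f455621 : Led Lsl_gt (LP (LK LD1_c1 LD2_c42 LD3_c18)) = (LP (LK LD1_c3 LD2_c31 LD3_c30)) :=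
  Lre_g IH (LK LD1_c1 LD2_c42 LD3_c18) (LK LD1_c3 LD2_c31 LD3_c30) Lrfl Lrfl
theorem f458227 : Led Lsl_ct (LP (LK LD1_c3 LD2_c31 LD3_c30)) = (LP (LK LD1_c7 LD2_c4 LD3_c43)) :=
  Lre_c IH (LK LD1_c3 LD2_c31 LD3_c30) (LK LD1_c7 LD2_c4 LD3_c43) Lrfl Lrfl
theorem f464353 : Led Lsl_gt (LP (LK LD1_c7 LD2_c4 LD3_c43)) = (LP (LK LD1_c7 LD2_c27 LD3_c57)) :=
  Lgr Lrot150 (Lpe (f458227 IH) (Lpe (f455621 IH) (Lpe (f455620 IH) (Lpr_gt (K24.f455618 IH) (Lpr_ct (f455652 IH) (Lpe (f463276 IH) (Lpr_ct (f463399 IH) (Lpe (f463401 IH) (Lpr_cf (f464347 IH) (Lpn (LP (LK LD1_c7 LD2_c27 LD3_c57))))))))))))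
theorem f455707 : Led Lsl_bt (LP (LK LD1_c0 LD2_c47 LD3_c41)) = (LP (LK LD1_c1 LD2_c42 LD3_c18)) :=
  Lre_b IH (LK LD1_c0 LD2_c47 LD3_c41) (LK LD1_c1 LD2_c42 LD3_c18) Lrfl Lrfl
theorem f455167 : Led Lsl_bt (LP (LK LD1_c0 LD2_c50 LD3_c14)) = (LP (LK LD1_c1 LD2_c46 LD3_c54)) :=
  Lre_b IH (LK LD1_c0 LD2_c50 LD3_c14) (LK LD1_c1 LD2_c46 LD3_c54) Lrfl Lrfl
theorem f464358 : Led Lsl_gf (LP (LK LD1_c1 LD2_c46 LD3_c54)) = (LP (LK LD1_c3 LD2_c24 LD3_c55)) :=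
  Lgr Lrot124 (Lpe (f455167 IH) (Lpr_ct (K24.f456275 IH) (Lpr_gt (K24.f457682 IH) (Lpe (K24.f12139 IH) (Lpr_bt (f455707 IH) (Lpr_gt (f455621 IH) (Lpr_ct (f458227 IH) (Lpr_gt (f464353 IH) (Lpe (f464351 IH) (Lpr_bt (f90861 IH) (Lpn (LP (LK LD1_c3 LD2_c24 LD3_c55)))))))))))))
theorem f458366 : Led Lsl_ct (LP (LK LD1_c3 LD2_c24 LD3_c46)) = (LP (LK LD1_c3 LD2_c29 LD3_c14)) :=
  Lgr Lrot59 (Lpr_cf (f458362 IH) (Lpn (LP (LK LD1_c3 LD2_c29 LD3_c14))))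
theorem f91495 : Led Lsl_dt (LP (LK LD1_c1 LD2_c38 LD3_c50)) = (LP (LK LD1_c3 LD2_c24 LD3_c51)) :=
  Lre_d IH (LK LD1_c1 LD2_c38 LD3_c50) (LK LD1_c3 LD2_c24 LD3_c51) Lrfl Lrfl
theorem f91496 : Led Lsl_gt (LP (LK LD1_c3 LD2_c24 LD3_c51)) = (LP (LK LD1_c6 LD2_c52 LD3_c12)) :=
  Lre_g IH (LK LD1_c3 LD2_c24 LD3_c51) (LK LD1_c6 LD2_c52 LD3_c12) Lrfl Lrfl
theorem f91502 : Led Lsl_ct (LP (LK LD1_c6 LD2_c52 LD3_c12)) = (LP (LK LD1_c13 LD2_c3 LD3_c61)) :=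
  Lre_c IH (LK LD1_c6 LD2_c52 LD3_c12) (LK LD1_c13 LD2_c3 LD3_c61) Lrfl Lrfl
theorem f90930 : Led Lsl_et (LP (LK LD1_c7 LD2_c1 LD3_c53)) = (LP (LK LD1_c6 LD2_c57 LD3_c8)) :=
  Lgr Lrot87 (Lpr_ef (K2.f90921 IH) (Lpn (LP (LK LD1_c6 LD2_c57 LD3_c8))))
theorem f457437 : Led Lsl_ct (LP (LK LD1_c6 LD2_c57 LD3_c8)) = (LP (LK LD1_c7 LD2_c0 LD3_c12)) :=
  Lgr Lrot15 (Lpe (f90930 IH) (Lpr_cf (f457431 IH) (Lpr_ef (f129692 IH) (Lpn (LP (LK LD1_c7 LD2_c0 LD3_c12))))))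
theorem f458371 : Led Lsl_gt (LP (LK LD1_c13 LD2_c3 LD3_c61)) = (LP (LK LD1_c6 LD2_c57 LD3_c8)) :=
  Lgr Lrot150 (Lpe (f91502 IH) (Lpe (f91496 IH) (Lpe (f91495 IH) (Lpr_gt (f15835 IH) (Lpr_ct (K2.f15816 IH) (Lpr_gt (f15837 IH) (Lpr_ct (f458366 IH) (Lpe (f129749 IH) (Lpe (f457437 IH) (Lpn (LP (LK LD1_c6 LD2_c57 LD3_c8))))))))))))
theorem f91507 : Led Lsl_ct (LP (LK LD1_c13 LD2_c3 LD3_c61)) = (LP (LK LD1_c6 LD2_c52 LD3_c12)) :=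
  Lre_c IH (LK LD1_c13 LD2_c3 LD3_c61) (LK LD1_c6 LD2_c52 LD3_c12) Lrfl Lrfl
theorem f15452 : Led Lsl_dt (LP (LK LD1_c1 LD2_c40 LD3_c20)) = (LP (LK LD1_c0 LD2_c46 LD3_c38)) :=
  Lre_d IH (LK LD1_c1 LD2_c40 LD3_c20) (LK LD1_c0 LD2_c46 LD3_c38) Lrfl Lrfl
theorem f17008 : Led Lsl_ct (LP (LK LD1_c0 LD2_c20 LD3_c56)) = (LP (LK LD1_c0 LD2_c46 LD3_c38)) :=
  Lre_c IH (LK LD1_c0 LD2_c20 LD3_c56) (LK LD1_c0 LD2_c46 LD3_c38) Lrfl Lrfl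
theorem f458374 : Led Lsl_gt (LP (LK LD1_c6 LD2_c52 LD3_c12)) = (LP (LK LD1_c3 LD2_c24 LD3_c55)) :=
  Lgr Lrot94 (Lpe (f91507 IH) (Lpr_gt (f458371 IH) (Lpr_dt (K2.f15301 IH) (Lpr_gt (K2.f15464 IH) (Lpr_dt (f15452 IH) (Lpe (f17008 IH) (Lpe (f17016 IH) (Lpe (K2.f17017 IH) (Lpe (K2.f17093 IH) (Lpn (LP (LK LD1_c3 LD2_c24 LD3_c55))))))))))))
theorem f473195 : Led Lsl_ff (LP (LK LD1_c3 LD2_c26 LD3_c11)) = (LP (LK LD1_c6 LD2_c52 LD3_c12)) :=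
  Lgr Lrot52 (Lpr_at (f472843 IH) (Lpr_gf (f464358 IH) (Lpe (f458374 IH) (Lpn (LP (LK LD1_c6 LD2_c52 LD3_c12))))))
theorem f18196 : Led Lsl_et (LP (LK LD1_c0 LD2_c20 LD3_c26)) = (LP (LK LD1_c0 LD2_c45 LD3_c49)) :=
  Lre_e IH (LK LD1_c0 LD2_c20 LD3_c26) (LK LD1_c0 LD2_c45 LD3_c49) Lrfl Lrfl
theorem f91497 : Led Lsl_et (LP (LK LD1_c0 LD2_c20 LD3_c54)) = (LP (LK LD1_c0 LD2_c46 LD3_c34)) :=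
  Lre_e IH (LK LD1_c0 LD2_c20 LD3_c54) (LK LD1_c0 LD2_c46 LD3_c34) Lrfl Lrfl
theorem f91498 : Led Lsl_gt (LP (LK LD1_c1 LD2_c40 LD3_c5)) = (LP (LK LD1_c0 LD2_c46 LD3_c34)) :=
  Lre_g IH (LK LD1_c1 LD2_c40 LD3_c5) (LK LD1_c0 LD2_c46 LD3_c34) Lrfl Lrfl
theorem f91499 : Led Lsl_et (LP (LK LD1_c3 LD2_c26 LD3_c57)) = (LP (LK LD1_c1 LD2_c40 LD3_c5)) :=
  Lre_e IH (LK LD1_c3 LD2_c26 LD3_c57) (LK LD1_c1 LD2_c40 LD3_c5) Lrfl Lrfl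
theorem f91500 : Led Lsl_df (LP (LK LD1_c6 LD2_c52 LD3_c12)) = (LP (LK LD1_c3 LD2_c26 LD3_c57)) :=
  Lgr Lrot132 (Lpe (f91496 IH) (Lpe (f91495 IH) (Lpe (f18584 IH) (Lpe (f18196 IH) (Lpr_dt (K1.f12844 IH) (Lpe (K2.f18617 IH) (Lpr_df (K2.f91301 IH) (Lpr_et (f91497 IH) (Lpe (f91498 IH) (Lpe (f91499 IH) (Lpn (LP (LK LD1_c3 LD2_c26 LD3_c57)))))))))))))
theorem f91504 : Led Lsl_dt (LP (LK LD1_c6 LD2_c52 LD3_c12)) = (LP (LK LD1_c3 LD2_c26 LD3_c57)) :=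
  Lgr Lrot42 (Lpr_df (f91500 IH) (Lpn (LP (LK LD1_c3 LD2_c26 LD3_c57))))
theorem f91510 : Led Lsl_ct (LP (LK LD1_c3 LD2_c26 LD3_c57)) = (LP (LK LD1_c6 LD2_c55 LD3_c44)) :=
  Lre_c IH (LK LD1_c3 LD2_c26 LD3_c57) (LK LD1_c6 LD2_c55 LD3_c44) Lrfl Lrfl
theorem f18599 : Led Lsl_gt (LP (LK LD1_c1 LD2_c38 LD3_c49)) = (LP (LK LD1_c3 LD2_c24 LD3_c45)) :=
  Lre_g IH (LK LD1_c1 LD2_c38 LD3_c49) (LK LD1_c3 LD2_c24 LD3_c45) Lrfl Lrfl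
theorem f18600 : Led Lsl_dt (LP (LK LD1_c3 LD2_c24 LD3_c45)) = (LP (LK LD1_c6 LD2_c51 LD3_c59)) :=
  Lre_d IH (LK LD1_c3 LD2_c24 LD3_c45) (LK LD1_c6 LD2_c51 LD3_c59) Lrfl Lrfl
theorem f90990 : Led Lsl_gt (LP (LK LD1_c6 LD2_c51 LD3_c59)) = (LP (LK LD1_c13 LD2_c3 LD3_c29)) :=
  Lre_g IH (LK LD1_c6 LD2_c51 LD3_c59) (LK LD1_c13 LD2_c3 LD3_c29) Lrfl Lrfl
theorem f91503 : Led Lsl_ct (LP (LK LD1_c6 LD2_c55 LD3_c44)) = (LP (LK LD1_c3 LD2_c26 LD3_c57)) :=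
  Lre_c IH (LK LD1_c6 LD2_c55 LD3_c44) (LK LD1_c3 LD2_c26 LD3_c57) Lrfl Lrfl
theorem f91513 : Led Lsl_dt (LP (LK LD1_c13 LD2_c3 LD3_c29)) = (LP (LK LD1_c6 LD2_c55 LD3_c44)) :=
  Lgr Lrot105 (Lpe (f90990 IH) (Lpe (f18600 IH) (Lpe (f18599 IH) (Lpe (f19065 IH) (Lpr_gt (f18584 IH) (Lpr_dt (f91495 IH) (Lpr_gt (f91496 IH) (Lpr_dt (f91504 IH) (Lpe (f91503 IH) (Lpn (LP (LK LD1_c6 LD2_c55 LD3_c44))))))))))))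
theorem f91522 : Led Lsl_df (LP (LK LD1_c13 LD2_c3 LD3_c29)) = (LP (LK LD1_c6 LD2_c55 LD3_c44)) :=
  Lgr Lrot38 (Lpr_dt (f91513 IH) (Lpn (LP (LK LD1_c6 LD2_c55 LD3_c44))))
theorem f91580 : Led Lsl_ct (LP (LK LD1_c13 LD2_c3 LD3_c29)) = (LP (LK LD1_c22 LD2_c13 LD3_c23)) :=
  Lre_c IH (LK LD1_c13 LD2_c3 LD3_c29) (LK LD1_c22 LD2_c13 LD3_c23) Lrfl Lrfl
theorem f455953 : Led Lsl_dt (LP (LK LD1_c7 LD2_c19 LD3_c60)) = (LP (LK LD1_c3 LD2_c39 LD3_c53)) :=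
  Lre_d IH (LK LD1_c7 LD2_c19 LD3_c60) (LK LD1_c3 LD2_c39 LD3_c53) Lrfl Lrfl
theorem f456378 : Led Lsl_ct (LP (LK LD1_c13 LD2_c52 LD3_c20)) = (LP (LK LD1_c7 LD2_c19 LD3_c60)) :=
  Lre_c IH (LK LD1_c13 LD2_c52 LD3_c20) (LK LD1_c7 LD2_c19 LD3_c60) Lrfl Lrfl
theorem f473197 : Led Lsl_dt (LP (LK LD1_c22 LD2_c13 LD3_c23)) = (LP (LK LD1_c13 LD2_c52 LD3_c20)) :=
  Lgr Lrot140 (Lpe (f91580 IH) (Lpr_df (f91522 IH) (Lpe (f91510 IH) (Lpe (f91504 IH) (Lpe (f473195 IH) (Lpr_at (f472843 IH) (Lpe (f455952 IH) (Lpe (f455953 IH) (Lpe (f456378 IH) (Lpn (LP (LK LD1_c13 LD2_c52 LD3_c20))))))))))))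
theorem f455082 : Led Lsl_ct (LP (LK LD1_c3 LD2_c26 LD3_c10)) = (LP (LK LD1_c1 LD2_c39 LD3_c46)) :=
  Lre_c IH (LK LD1_c3 LD2_c26 LD3_c10) (LK LD1_c1 LD2_c39 LD3_c46) Lrfl Lrfl
theorem f455083 : Led Lsl_et (LP (LK LD1_c3 LD2_c26 LD3_c11)) = (LP (LK LD1_c1 LD2_c39 LD3_c46)) :=
  Lre_e IH (LK LD1_c3 LD2_c26 LD3_c11) (LK LD1_c1 LD2_c39 LD3_c46) Lrfl Lrfl
theorem f456268 : Led Lsl_et (LP (LK LD1_c0 LD2_c50 LD3_c13)) = (LP (LK LD1_c1 LD2_c46 LD3_c54)) :=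
  Lre_e IH (LK LD1_c0 LD2_c50 LD3_c13) (LK LD1_c1 LD2_c46 LD3_c54) Lrfl Lrfl
def v757 : LQ := Led Lsl_at (LP (LK LD1_c0 LD2_c50 LD3_c13))
theorem f457099 : Led Lsl_at (LP (LK LD1_c0 LD2_c50 LD3_c13)) = v757 :=
  Lrfl
theorem f457100 : Led Lsl_af (LP (LK LD1_c0 LD2_c50 LD3_c13)) = v757 :=
  Lgr Lrot0 (Lpr_at (f457099 IH) (Lpn v757))
theorem f472849 : (LP (LK LD1_c1 LD2_c39 LD3_c46)) = v757 :=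
  (Llr Lrot123 (Lpe (f455083 IH) (Lpr_af (f472837 IH) (Lpe (f456268 IH) (Lpr_af (f457100 IH) (Lpn v757)))))).symm
theorem f5821 : Led Lsl_ct (LP (LK LD1_c0 LD2_c50 LD3_c13)) = (LP (LK LD1_c1 LD2_c46 LD3_c53)) :=
  Lre_c IH (LK LD1_c0 LD2_c50 LD3_c13) (LK LD1_c1 LD2_c46 LD3_c53) Lrfl Lrfl
theorem f472855 : Led Lsl_af (LP (LK LD1_c3 LD2_c26 LD3_c10)) = (LP (LK LD1_c1 LD2_c46 LD3_c53)) :=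
  Lgr Lrot68 (Lpr_ct (f455082 IH) (Lpqs (f472849 IH) (Lpe (f457100 IH) (Lpr_ct (f5821 IH) (Lpn (LP (LK LD1_c1 LD2_c46 LD3_c53)))))))
theorem f472877 : Led Lsl_dt (LP (LK LD1_c3 LD2_c26 LD3_c10)) = (LP (LK LD1_c6 LD2_c54 LD3_c17)) :=
  Lre_d IH (LK LD1_c3 LD2_c26 LD3_c10) (LK LD1_c6 LD2_c54 LD3_c17) Lrfl Lrfl
theorem f447647 : Led Lsl_dt (LP (LK LD1_c3 LD2_c39 LD3_c52)) = (LP (LK LD1_c1 LD2_c46 LD3_c53)) :=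
  Lre_d IH (LK LD1_c3 LD2_c39 LD3_c52) (LK LD1_c1 LD2_c46 LD3_c53) Lrfl Lrfl
theorem f472878 : Led Lsl_at (LP (LK LD1_c6 LD2_c54 LD3_c17)) = (LP (LK LD1_c3 LD2_c39 LD3_c52)) :=
  Lgr Lrot51 (Lpe (f472877 IH) (Lpr_af (f472855 IH) (Lpe (f447647 IH) (Lpn (LP (LK LD1_c3 LD2_c39 LD3_c52))))))
theorem f472883 : Led Lsl_et (LP (LK LD1_c13 LD2_c7 LD3_c12)) = (LP (LK LD1_c6 LD2_c54 LD3_c17)) :=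
  Lre_e IH (LK LD1_c13 LD2_c7 LD3_c12) (LK LD1_c6 LD2_c54 LD3_c17) Lrfl Lrfl
theorem f456302 : Led Lsl_et (LP (LK LD1_c3 LD2_c39 LD3_c52)) = (LP (LK LD1_c7 LD2_c19 LD3_c59)) :=
  Lre_e IH (LK LD1_c3 LD2_c39 LD3_c52) (LK LD1_c7 LD2_c19 LD3_c59) Lrfl Lrfl
theorem f472884 : Led Lsl_af (LP (LK LD1_c13 LD2_c7 LD3_c12)) = (LP (LK LD1_c7 LD2_c19 LD3_c59)) :=
  Lgr Lrot50 (Lpr_et (f472883 IH) (Lpr_at (f472878 IH) (Lpr_et (f456302 IH) (Lpn (LP (LK LD1_c7 LD2_c19 LD3_c59))))))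
theorem f472889 : Led Lsl_dt (LP (LK LD1_c13 LD2_c7 LD3_c12)) = (LP (LK LD1_c13 LD2_c11 LD3_c30)) :=
  Lre_d IH (LK LD1_c13 LD2_c7 LD3_c12) (LK LD1_c13 LD2_c11 LD3_c30) Lrfl Lrfl
theorem f456318 : Led Lsl_dt (LP (LK LD1_c13 LD2_c52 LD3_c18)) = (LP (LK LD1_c7 LD2_c19 LD3_c59)) :=
  Lre_d IH (LK LD1_c13 LD2_c52 LD3_c18) (LK LD1_c7 LD2_c19 LD3_c59) Lrfl Lrfl
theorem f472890 : Led Lsl_at (LP (LK LD1_c13 LD2_c11 LD3_c30)) = (LP (LK LD1_c13 LD2_c52 LD3_c18)) :=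
  Lgr Lrot51 (Lpe (f472889 IH) (Lpr_af (f472884 IH) (Lpe (f456318 IH) (Lpn (LP (LK LD1_c13 LD2_c52 LD3_c18))))))
theorem f472919 : Led Lsl_ct (LP (LK LD1_c22 LD2_c24 LD3_c14)) = (LP (LK LD1_c13 LD2_c11 LD3_c30)) :=
  Lre_c IH (LK LD1_c22 LD2_c24 LD3_c14) (LK LD1_c13 LD2_c11 LD3_c30) Lrfl Lrfl
theorem f456347 : Led Lsl_ct (LP (LK LD1_c13 LD2_c52 LD3_c18)) = (LP (LK LD1_c23 LD2_c22 LD3_c6)) :=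
  Lre_c IH (LK LD1_c13 LD2_c52 LD3_c18) (LK LD1_c23 LD2_c22 LD3_c6) Lrfl Lrfl
theorem f472920 : Led Lsl_af (LP (LK LD1_c22 LD2_c24 LD3_c14)) = (LP (LK LD1_c23 LD2_c22 LD3_c6)) :=
  Lgr Lrot68 (Lpr_ct (f472919 IH) (Lpr_at (f472890 IH) (Lpr_ct (f456347 IH) (Lpn (LP (LK LD1_c23 LD2_c22 LD3_c6))))))
theorem f469062 : Led Lsl_et (LP (LK LD1_c22 LD2_c24 LD3_c14)) = (LP (LK LD1_c13 LD2_c11 LD3_c29)) :=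
  Lre_e IH (LK LD1_c22 LD2_c24 LD3_c14) (LK LD1_c13 LD2_c11 LD3_c29) Lrfl Lrfl
theorem f472926 : Led Lsl_et (LP (LK LD1_c13 LD2_c52 LD3_c20)) = (LP (LK LD1_c23 LD2_c22 LD3_c6)) :=
  Lre_e IH (LK LD1_c13 LD2_c52 LD3_c20) (LK LD1_c23 LD2_c22 LD3_c6) Lrfl Lrfl
theorem f472927 : Led Lsl_at (LP (LK LD1_c13 LD2_c11 LD3_c29)) = (LP (LK LD1_c13 LD2_c52 LD3_c20)) :=
  Lgr Lrot80 (Lpe (f469062 IH) (Lpr_af (f472920 IH) (Lpe (f472926 IH) (Lpn (LP (LK LD1_c13 LD2_c52 LD3_c20))))))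
theorem f472930 : Led Lsl_af (LP (LK LD1_c13 LD2_c11 LD3_c29)) = (LP (LK LD1_c13 LD2_c52 LD3_c20)) :=
  Lgr Lrot0 (Lpr_at (f472927 IH) (Lpn (LP (LK LD1_c13 LD2_c52 LD3_c20))))
theorem f472818 : Led Lsl_ff (LP (LK LD1_c13 LD2_c52 LD3_c20)) = (LP (LK LD1_c13 LD2_c11 LD3_c31)) :=
  Lgr Lrot23 (Lpr_ct (f456378 IH) (Lpr_ft (f472814 IH) (Lpr_ct (f472796 IH) (Lpn (LP (LK LD1_c13 LD2_c11 LD3_c31))))))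
theorem f472935 : Led Lsl_gf (LP (LK LD1_c13 LD2_c11 LD3_c29)) = (LP (LK LD1_c6 LD2_c57 LD3_c28)) :=
  Lgr Lrot76 (Lpr_af (f472930 IH) (Lpr_ff (f472818 IH) (Lpe (f472793 IH) (Lpn (LP (LK LD1_c6 LD2_c57 LD3_c28))))))
theorem f469039 : Led Lsl_df (LP (LK LD1_c13 LD2_c3 LD3_c43)) = (LP (LK LD1_c6 LD2_c57 LD3_c50)) :=
  Lgr Lrot38 (Lpr_dt (f468975 IH) (Lpn (LP (LK LD1_c6 LD2_c57 LD3_c50))))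
theorem f17034 : Led Lsl_dt (LP (LK LD1_c6 LD2_c57 LD3_c13)) = (LP (LK LD1_c3 LD2_c27 LD3_c30)) :=
  Lre_d IH (LK LD1_c6 LD2_c57 LD3_c13) (LK LD1_c3 LD2_c27 LD3_c30) Lrfl Lrfl
theorem f16871 : Led Lsl_ct (LP (LK LD1_c3 LD2_c27 LD3_c30)) = (LP (LK LD1_c1 LD2_c40 LD3_c20)) :=
  Lre_c IH (LK LD1_c3 LD2_c27 LD3_c30) (LK LD1_c1 LD2_c40 LD3_c20) Lrfl Lrfl
theorem f457801 : Led Lsl_dt (LP (LK LD1_c3 LD2_c27 LD3_c26)) = (LP (LK LD1_c1 LD2_c40 LD3_c19)) :=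
  Lre_d IH (LK LD1_c3 LD2_c27 LD3_c26) (LK LD1_c1 LD2_c40 LD3_c19) Lrfl Lrfl
theorem f469045 : Led Lsl_gt (LP (LK LD1_c13 LD2_c11 LD3_c29)) = (LP (LK LD1_c6 LD2_c57 LD3_c50)) :=
  Lre_g IH (LK LD1_c13 LD2_c11 LD3_c29) (LK LD1_c6 LD2_c57 LD3_c50) Lrfl Lrfl
theorem f469055 : Led Lsl_ct (LP (LK LD1_c6 LD2_c56 LD3_c51)) = (LP (LK LD1_c13 LD2_c11 LD3_c29)) :=
  Lre_c IH (LK LD1_c6 LD2_c56 LD3_c51) (LK LD1_c13 LD2_c11 LD3_c29) Lrfl Lrfl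
theorem f469056 : Led Lsl_gf (LP (LK LD1_c3 LD2_c27 LD3_c26)) = (LP (LK LD1_c6 LD2_c56 LD3_c51)) :=
  Lgr Lrot144 (Lpr_dt (f457801 IH) (Lpr_gt (f15695 IH) (Lpr_dt (K2.f15679 IH) (Lpe (f16871 IH) (Lpe (f17034 IH) (Lpe (f17035 IH) (Lpr_df (f469039 IH) (Lpe (f469045 IH) (Lpe (f469055 IH) (Lpn (LP (LK LD1_c6 LD2_c56 LD3_c51))))))))))))
theorem f15960 : Led Lsl_ct (LP (LK LD1_c3 LD2_c27 LD3_c26)) = (LP (LK LD1_c6 LD2_c56 LD3_c61)) :=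
  Lre_c IH (LK LD1_c3 LD2_c27 LD3_c26) (LK LD1_c6 LD2_c56 LD3_c61) Lrfl Lrfl
theorem f18363 : Led Lsl_gt (LP (LK LD1_c3 LD2_c24 LD3_c47)) = (LP (LK LD1_c6 LD2_c52 LD3_c2)) :=
  Lre_g IH (LK LD1_c3 LD2_c24 LD3_c47) (LK LD1_c6 LD2_c52 LD3_c2) Lrfl Lrfl
theorem f18372 : Led Lsl_ct (LP (LK LD1_c6 LD2_c52 LD3_c2)) = (LP (LK LD1_c13 LD2_c3 LD3_c39)) :=
  Lre_c IH (LK LD1_c6 LD2_c52 LD3_c2) (LK LD1_c13 LD2_c3 LD3_c39) Lrfl Lrfl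
theorem f472951 : Led Lsl_df (LP (LK LD1_c6 LD2_c56 LD3_c61)) = (LP (LK LD1_c13 LD2_c3 LD3_c39)) :=
  Lgr Lrot162 (Lpe (f15960 IH) (Lpr_gf (f469056 IH) (Lpe (f469058 IH) (Lpr_gf (f472935 IH) (Lpr_dt (f472783 IH) (Lpr_gt (f17049 IH) (Lpr_ct (f18451 IH) (Lpr_gt (f18363 IH) (Lpr_ct (f18372 IH) (Lpn (LP (LK LD1_c13 LD2_c3 LD3_c39))))))))))))
theorem f457802 : Led Lsl_ct (LP (LK LD1_c6 LD2_c56 LD3_c61)) = (LP (LK LD1_c3 LD2_c27 LD3_c26)) :=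
  Lre_c IH (LK LD1_c6 LD2_c56 LD3_c61) (LK LD1_c3 LD2_c27 LD3_c26) Lrfl Lrfl
theorem f15289 : Led Lsl_dt (LP (LK LD1_c6 LD2_c54 LD3_c29)) = (LP (LK LD1_c3 LD2_c26 LD3_c16)) :=
  Lre_d IH (LK LD1_c6 LD2_c54 LD3_c29) (LK LD1_c3 LD2_c26 LD3_c16) Lrfl Lrfl
theorem f15296 : Led Lsl_gt (LP (LK LD1_c3 LD2_c27 LD3_c28)) = (LP (LK LD1_c6 LD2_c54 LD3_c29)) :=
  Lre_g IH (LK LD1_c3 LD2_c27 LD3_c28) (LK LD1_c6 LD2_c54 LD3_c29) Lrfl Lrfl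
theorem f15471 : Led Lsl_ct (LP (LK LD1_c3 LD2_c27 LD3_c28)) = (LP (LK LD1_c6 LD2_c57 LD3_c3)) :=
  Lre_c IH (LK LD1_c3 LD2_c27 LD3_c28) (LK LD1_c6 LD2_c57 LD3_c3) Lrfl Lrfl
theorem f15472 : Led Lsl_gt (LP (LK LD1_c6 LD2_c57 LD3_c3)) = (LP (LK LD1_c13 LD2_c11 LD3_c59)) :=
  Lre_g IH (LK LD1_c6 LD2_c57 LD3_c3) (LK LD1_c13 LD2_c11 LD3_c59) Lrfl Lrfl
theorem f11162 : Led Lsl_at (LP (LK LD1_c1 LD2_c49 LD3_c24)) = (LP (LK LD1_c0 LD2_c53 LD3_c13)) :=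
  Lre_a IH (LK LD1_c1 LD2_c49 LD3_c24) (LK LD1_c0 LD2_c53 LD3_c13) Lrfl Lrfl
theorem f11163 : Led Lsl_bt (LP (LK LD1_c0 LD2_c24 LD3_c27)) = (LP (LK LD1_c0 LD2_c53 LD3_c13)) :=
  Lre_b IH (LK LD1_c0 LD2_c24 LD3_c27) (LK LD1_c0 LD2_c53 LD3_c13) Lrfl Lrfl
theorem f11164 : Led Lsl_at (LP (LK LD1_c0 LD2_c53 LD3_c13)) = (LP (LK LD1_c1 LD2_c49 LD3_c24)) :=
  Lre_a IH (LK LD1_c0 LD2_c53 LD3_c13) (LK LD1_c1 LD2_c49 LD3_c24) Lrfl Lrfl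
theorem f11165 : Led Lsl_bf (LP (LK LD1_c1 LD2_c49 LD3_c24)) = (LP (LK LD1_c1 LD2_c49 LD3_c24)) :=
  Lgr Lrot81 (Lpr_at (f11162 IH) (Lpr_bt (K0.f11161 IH) (Lpr_at (K0.f11159 IH) (Lpr_bt (f11163 IH) (Lpr_at (f11164 IH) (Lpn (LP (LK LD1_c1 LD2_c49 LD3_c24))))))))
theorem f14889 : Led Lsl_ct (LP (LK LD1_c1 LD2_c49 LD3_c24)) = (LP (LK LD1_c3 LD2_c44 LD3_c39)) :=
  Lre_c IH (LK LD1_c1 LD2_c49 LD3_c24) (LK LD1_c3 LD2_c44 LD3_c39) Lrfl Lrfl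
theorem f14902 : Led Lsl_gt (LP (LK LD1_c1 LD2_c52 LD3_c52)) = (LP (LK LD1_c3 LD2_c44 LD3_c39)) :=
  Lre_g IH (LK LD1_c1 LD2_c52 LD3_c52) (LK LD1_c3 LD2_c44 LD3_c39) Lrfl Lrfl
theorem f17334 : Led Lsl_gt (LP (LK LD1_c1 LD2_c45 LD3_c12)) = (LP (LK LD1_c3 LD2_c36 LD3_c42)) :=
  Lre_g IH (LK LD1_c1 LD2_c45 LD3_c12) (LK LD1_c3 LD2_c36 LD3_c42) Lrfl Lrfl
theorem f465237 : Led Lsl_cf (LP (LK LD1_c1 LD2_c52 LD3_c52)) = (LP (LK LD1_c3 LD2_c36 LD3_c42)) :=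
  Lgr Lrot125 (Lpr_gt (f14902 IH) (Lpe (f14889 IH) (Lpe (f11165 IH) (Lpr_gt (f16052 IH) (Lpe (f446569 IH) (Lpr_ct (f465228 IH) (Lpr_gt (f17450 IH) (Lpe (K8.f17320 IH) (Lpr_bt (K8.f17380 IH) (Lpr_gt (f17334 IH) (Lpn (LP (LK LD1_c3 LD2_c36 LD3_c42)))))))))))))
theorem f17013 : Led Lsl_gt (LP (LK LD1_c0 LD2_c53 LD3_c4)) = (LP (LK LD1_c1 LD2_c52 LD3_c52)) :=
  Lre_g IH (LK LD1_c0 LD2_c53 LD3_c4) (LK LD1_c1 LD2_c52 LD3_c52) Lrfl Lrfl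
theorem f160027 : Led Lsl_at (LP (LK LD1_c6 LD2_c30 LD3_c44)) = (LP (LK LD1_c3 LD2_c33 LD3_c2)) :=
  Lgr Lrot107 (Lpr_cf (K8.f95875 IH) (Lpr_af (K8.f160024 IH) (Lpr_cf (K8.f11669 IH) (Lpn (LP (LK LD1_c3 LD2_c33 LD3_c2))))))
theorem f95847 : Led Lsl_gt (LP (LK LD1_c3 LD2_c13 LD3_c31)) = (LP (LK LD1_c6 LD2_c30 LD3_c42)) :=
  Lre_g IH (LK LD1_c3 LD2_c13 LD3_c31) (LK LD1_c6 LD2_c30 LD3_c42) Lrfl Lrfl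
theorem f160539 : Led Lsl_gt (LP (LK LD1_c6 LD2_c30 LD3_c42)) = (LP (LK LD1_c3 LD2_c33 LD3_c2)) :=
  Lgr Lrot46 (Lpe (f95847 IH) (Lpr_ft (K8.f95843 IH) (Lpr_at (f160027 IH) (Lpn (LP (LK LD1_c3 LD2_c33 LD3_c2))))))
theorem f465248 : Led Lsl_bf (LP (LK LD1_c6 LD2_c30 LD3_c42)) = (LP (LK LD1_c3 LD2_c36 LD3_c42)) :=
  Lgr Lrot156 (Lpr_gt (f160539 IH) (Lpe (f11683 IH) (Lpr_ct (K8.f11697 IH) (Lpe (f160452 IH) (Lpe (f465228 IH) (Lpr_bt (f446569 IH) (Lpr_gt (f15697 IH) (Lpr_ct (K24.f15673 IH) (Lpr_gt (f17013 IH) (Lpr_cf (f465237 IH) (Lpn (LP (LK LD1_c3 LD2_c36 LD3_c42)))))))))))))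
theorem f96130 : Led Lsl_ct (LP (LK LD1_c3 LD2_c15 LD3_c19)) = (LP (LK LD1_c3 LD2_c46 LD3_c60)) :=
  Lgr Lrot15 (Lpe (K3.f94535 IH) (Lpr_cf (K3.f96122 IH) (Lpe (K5.f96129 IH) (Lpn (LP (LK LD1_c3 LD2_c46 LD3_c60))))))
theorem f446568 : Led Lsl_ct (LP (LK LD1_c0 LD2_c53 LD3_c15)) = (LP (LK LD1_c1 LD2_c53 LD3_c21)) :=
  Lre_c IH (LK LD1_c0 LD2_c53 LD3_c15) (LK LD1_c1 LD2_c53 LD3_c21) Lrfl Lrfl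
theorem f465254 : Led Lsl_gf (LP (LK LD1_c3 LD2_c46 LD3_c60)) = (LP (LK LD1_c1 LD2_c53 LD3_c21)) :=
  Lgr Lrot129 (Lpe (f96130 IH) (Lpe (K4.f95836 IH) (Lpr_gt (f95847 IH) (Lpr_bf (f465248 IH) (Lpe (f465237 IH) (Lpr_gt (f14902 IH) (Lpe (f14889 IH) (Lpe (f11165 IH) (Lpr_gt (f16052 IH) (Lpr_ct (f446568 IH) (Lpn (LP (LK LD1_c1 LD2_c53 LD3_c21)))))))))))))
theorem f465256 : Led Lsl_gt (LP (LK LD1_c3 LD2_c48 LD3_c25)) = (LP (LK LD1_c1 LD2_c53 LD3_c21)) :=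
  Lgr Lrot5 (Lpr_ft (K3.f17330 IH) (Lpe (K5.f126447 IH) (Lpr_gf (f465254 IH) (Lpn (LP (LK LD1_c1 LD2_c53 LD3_c21))))))
theorem f17347 : Led Lsl_dt (LP (LK LD1_c3 LD2_c48 LD3_c25)) = (LP (LK LD1_c7 LD2_c37 LD3_c53)) :=
  Lre_d IH (LK LD1_c3 LD2_c48 LD3_c25) (LK LD1_c7 LD2_c37 LD3_c53) Lrfl Lrfl
theorem f63032 : Led Lsl_et (LP (LK LD1_c7 LD2_c0 LD3_c10)) = (LP (LK LD1_c3 LD2_c29 LD3_c11)) :=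
  Lre_e IH (LK LD1_c7 LD2_c0 LD3_c10) (LK LD1_c3 LD2_c29 LD3_c11) Lrfl Lrfl
theorem f63033 : Led Lsl_dt (LP (LK LD1_c7 LD2_c0 LD3_c10)) = (LP (LK LD1_c13 LD2_c17 LD3_c14)) :=
  Lre_d IH (LK LD1_c7 LD2_c0 LD3_c10) (LK LD1_c13 LD2_c17 LD3_c14) Lrfl Lrfl
theorem f460206 : Led Lsl_gt (LP (LK LD1_c7 LD2_c37 LD3_c53)) = (LP (LK LD1_c13 LD2_c17 LD3_c14)) :=
  Lgr Lrot112 (Lpe (f17347 IH) (Lpr_et (K24.f460195 IH) (Lpe (K24.f63035 IH) (Lpe (K24.f63034 IH) (Lpr_dt (K24.f63014 IH) (Lpe (K24.f63017 IH) (Lpe (K24.f63018 IH) (Lpe (K24.f18793 IH) (Lpe (f63032 IH) (Lpr_dt (f63033 IH) (Lpn (LP (LK LD1_c13 LD2_c17 LD3_c14)))))))))))))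
theorem f15678 : Led Lsl_dt (LP (LK LD1_c1 LD2_c52 LD3_c54)) = (LP (LK LD1_c0 LD2_c53 LD3_c4)) :=
  Lre_d IH (LK LD1_c1 LD2_c52 LD3_c54) (LK LD1_c0 LD2_c53 LD3_c4) Lrfl Lrfl
theorem f15445 : Led Lsl_ct (LP (LK LD1_c3 LD2_c52 LD3_c33)) = (LP (LK LD1_c1 LD2_c52 LD3_c54)) :=
  Lre_c IH (LK LD1_c3 LD2_c52 LD3_c33) (LK LD1_c1 LD2_c52 LD3_c54) Lrfl Lrfl
theorem f15467 : Led Lsl_gt (LP (LK LD1_c7 LD2_c46 LD3_c60)) = (LP (LK LD1_c3 LD2_c52 LD3_c33)) :=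
  Lre_g IH (LK LD1_c7 LD2_c46 LD3_c60) (LK LD1_c3 LD2_c52 LD3_c33) Lrfl Lrfl
theorem f465266 : Led Lsl_ct (LP (LK LD1_c13 LD2_c17 LD3_c14)) = (LP (LK LD1_c7 LD2_c46 LD3_c60)) :=
  Lgr Lrot152 (Lpe (f460206 IH) (Lpe (f17347 IH) (Lpr_gt (f465256 IH) (Lpr_ct (f15698 IH) (Lpr_gt (f15697 IH) (Lpr_ct (K24.f15673 IH) (Lpe (f15678 IH) (Lpe (f15445 IH) (Lpe (f15467 IH) (Lpn (LP (LK LD1_c7 LD2_c46 LD3_c60))))))))))))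
theorem f463900 : Led Lsl_bt (LP (LK LD1_c13 LD2_c17 LD3_c14)) = (LP (LK LD1_c22 LD2_c32 LD3_c53)) :=
  Lre_b IH (LK LD1_c13 LD2_c17 LD3_c14) (LK LD1_c22 LD2_c32 LD3_c53) Lrfl Lrfl
theorem f94531 : Led Lsl_dt (LP (LK LD1_c1 LD2_c50 LD3_c25)) = (LP (LK LD1_c3 LD2_c46 LD3_c35)) :=
  Lre_d IH (LK LD1_c1 LD2_c50 LD3_c25) (LK LD1_c3 LD2_c46 LD3_c35) Lrfl Lrfl
theorem f157519 : Led Lsl_af (LP (LK LD1_c3 LD2_c49 LD3_c22)) = (LP (LK LD1_c3 LD2_c46 LD3_c35)) :=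
  Lgr Lrot117 (Lpr_dt (f157517 IH) (Lpe (f121860 IH) (Lpr_dt (f94531 IH) (Lpn (LP (LK LD1_c3 LD2_c46 LD3_c35))))))
theorem f157523 : Led Lsl_at (LP (LK LD1_c3 LD2_c49 LD3_c22)) = (LP (LK LD1_c3 LD2_c46 LD3_c35)) :=
  Lgr Lrot100 (Lpr_af (f157519 IH) (Lpn (LP (LK LD1_c3 LD2_c46 LD3_c35))))
theorem f419462 : Led Lsl_gt (LP (LK LD1_c3 LD2_c49 LD3_c20)) = (LP (LK LD1_c3 LD2_c46 LD3_c35)) :=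
  Lgr Lrot46 (Lpe (f419391 IH) (Lpr_ft (f419453 IH) (Lpr_at (f157523 IH) (Lpn (LP (LK LD1_c3 LD2_c46 LD3_c35))))))
theorem f120640 : Led Lsl_et (LP (LK LD1_c7 LD2_c34 LD3_c50)) = (LP (LK LD1_c3 LD2_c46 LD3_c61)) :=
  Lre_e IH (LK LD1_c7 LD2_c34 LD3_c50) (LK LD1_c3 LD2_c46 LD3_c61) Lrfl Lrfl
theorem f120643 : Led Lsl_dt (LP (LK LD1_c7 LD2_c34 LD3_c50)) = (LP (LK LD1_c14 LD2_c17 LD3_c42)) :=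
  Lre_d IH (LK LD1_c7 LD2_c34 LD3_c50) (LK LD1_c14 LD2_c17 LD3_c42) Lrfl Lrfl
theorem f463866 : Led Lsl_et (LP (LK LD1_c13 LD2_c17 LD3_c10)) = (LP (LK LD1_c7 LD2_c0 LD3_c8)) :=
  Lre_e IH (LK LD1_c13 LD2_c17 LD3_c10) (LK LD1_c7 LD2_c0 LD3_c8) Lrfl Lrfl
theorem f463865 : Led Lsl_dt (LP (LK LD1_c13 LD2_c17 LD3_c10)) = (LP (LK LD1_c22 LD2_c32 LD3_c53)) :=
  Lre_d IH (LK LD1_c13 LD2_c17 LD3_c10) (LK LD1_c22 LD2_c32 LD3_c53) Lrfl Lrfl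
theorem f463896 : Led Lsl_gf (LP (LK LD1_c14 LD2_c17 LD3_c42)) = (LP (LK LD1_c22 LD2_c32 LD3_c53)) :=
  Lgr Lrot145 (Lpe (f120643 IH) (Lpr_et (f120640 IH) (Lpe (K8.f137219 IH) (Lpr_dt (K5.f87915 IH) (Lpr_gt (f419462 IH) (Lpe (f94531 IH) (Lpr_et (K2.f94542 IH) (Lpr_gt (f463884 IH) (Lpe (f463866 IH) (Lpr_dt (f463865 IH) (Lpn (LP (LK LD1_c22 LD2_c32 LD3_c53)))))))))))))
theorem f162808 : Led Lsl_bt (LP (LK LD1_c13 LD2_c53 LD3_c57)) = (LP (LK LD1_c7 LD2_c21 LD3_c4)) :=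
  Lre_b IH (LK LD1_c13 LD2_c53 LD3_c57) (LK LD1_c7 LD2_c21 LD3_c4) Lrfl Lrfl
theorem f162807 : Led Lsl_at (LP (LK LD1_c23 LD2_c24 LD3_c4)) = (LP (LK LD1_c13 LD2_c53 LD3_c57)) :=
  Lre_a IH (LK LD1_c23 LD2_c24 LD3_c4) (LK LD1_c13 LD2_c53 LD3_c57) Lrfl Lrfl
theorem f120641 : Led Lsl_dt (LP (LK LD1_c14 LD2_c17 LD3_c42)) = (LP (LK LD1_c7 LD2_c34 LD3_c50)) :=
  Lre_d IH (LK LD1_c14 LD2_c17 LD3_c42) (LK LD1_c7 LD2_c34 LD3_c50) Lrfl Lrfl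
theorem f162773 : Led Lsl_dt (LP (LK LD1_c13 LD2_c53 LD3_c54)) = (LP (LK LD1_c23 LD2_c24 LD3_c4)) :=
  Lre_d IH (LK LD1_c13 LD2_c53 LD3_c54) (LK LD1_c23 LD2_c24 LD3_c4) Lrfl Lrfl
theorem f162801 : Led Lsl_bf (LP (LK LD1_c14 LD2_c17 LD3_c42)) = (LP (LK LD1_c23 LD2_c24 LD3_c4)) :=
  Lgr Lrot93 (Lpr_dt (f120641 IH) (Lpr_bt (K8.f162794 IH) (Lpr_dt (f162773 IH) (Lpn (LP (LK LD1_c23 LD2_c24 LD3_c4))))))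
theorem f162805 : Led Lsl_bt (LP (LK LD1_c14 LD2_c17 LD3_c42)) = (LP (LK LD1_c23 LD2_c24 LD3_c4)) :=
  Lgr Lrot127 (Lpr_bf (f162801 IH) (Lpn (LP (LK LD1_c23 LD2_c24 LD3_c4))))
theorem f17482 : Led Lsl_bt (LP (LK LD1_c1 LD2_c45 LD3_c20)) = (LP (LK LD1_c3 LD2_c36 LD3_c58)) :=
  Lre_b IH (LK LD1_c1 LD2_c45 LD3_c20) (LK LD1_c3 LD2_c36 LD3_c58) Lrfl Lrfl
theorem f96588 : Led Lsl_bf (LP (LK LD1_c3 LD2_c26 LD3_c26)) = (LP (LK LD1_c3 LD2_c49 LD3_c19)) :=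
  Lgr Lrot90 (Lpr_ct (K24.f95136 IH) (Lpr_bt (f5737 IH) (Lpe (f17475 IH) (Lpr_bt (f17482 IH) (Lpr_ct (f96568 IH) (Lpn (LP (LK LD1_c3 LD2_c49 LD3_c19))))))))
theorem f96572 : Led Lsl_dt (LP (LK LD1_c7 LD2_c39 LD3_c27)) = (LP (LK LD1_c3 LD2_c49 LD3_c19)) :=
  Lre_d IH (LK LD1_c7 LD2_c39 LD3_c27) (LK LD1_c3 LD2_c49 LD3_c19) Lrfl Lrfl
theorem f96595 : Led Lsl_bt (LP (LK LD1_c6 LD2_c54 LD3_c44)) = (LP (LK LD1_c7 LD2_c39 LD3_c27)) :=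
  Lgr Lrot95 (Lpe (f94990 IH) (Lpr_bf (f96588 IH) (Lpe (f96572 IH) (Lpn (LP (LK LD1_c7 LD2_c39 LD3_c27))))))
theorem f425161 : Led Lsl_af (LP (LK LD1_c14 LD2_c17 LD3_c42)) = (LP (LK LD1_c7 LD2_c39 LD3_c27)) :=
  Lgr Lrot36 (Lpr_bt (f162805 IH) (Lpr_at (f162807 IH) (Lpr_bt (f162808 IH) (Lpr_at (f425157 IH) (Lpr_bt (f96595 IH) (Lpn (LP (LK LD1_c7 LD2_c39 LD3_c27))))))))
theorem f96609 : Led Lsl_ft (LP (LK LD1_c14 LD2_c25 LD3_c57)) = (LP (LK LD1_c7 LD2_c39 LD3_c27)) :=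
  Lre_f IH (LK LD1_c14 LD2_c25 LD3_c57) (LK LD1_c7 LD2_c39 LD3_c27) Lrfl Lrfl
theorem f463898 : Led Lsl_gt (LP (LK LD1_c14 LD2_c25 LD3_c57)) = (LP (LK LD1_c22 LD2_c32 LD3_c53)) :=
  Lgr Lrot5 (Lpr_ft (f96609 IH) (Lpe (f425161 IH) (Lpr_gf (f463896 IH) (Lpn (LP (LK LD1_c22 LD2_c32 LD3_c53))))))
theorem f96599 : Led Lsl_bf (LP (LK LD1_c6 LD2_c54 LD3_c44)) = (LP (LK LD1_c7 LD2_c39 LD3_c27)) :=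
  Lgr Lrot24 (Lpr_bt (f96595 IH) (Lpn (LP (LK LD1_c7 LD2_c39 LD3_c27))))
theorem f464112 : Led Lsl_bf (LP (LK LD1_c14 LD2_c25 LD3_c57)) = (LP (LK LD1_c13 LD2_c7 LD3_c40)) :=
  Lgr Lrot61 (Lpr_ft (f96609 IH) (Lpe (f96599 IH) (Lpr_ft (f464110 IH) (Lpn (LP (LK LD1_c13 LD2_c7 LD3_c40))))))
theorem f15462 : Led Lsl_ct (LP (LK LD1_c1 LD2_c52 LD3_c54)) = (LP (LK LD1_c3 LD2_c52 LD3_c33)) :=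
  Lre_c IH (LK LD1_c1 LD2_c52 LD3_c54) (LK LD1_c3 LD2_c52 LD3_c33) Lrfl Lrfl
theorem f15460 : Led Lsl_gt (LP (LK LD1_c1 LD2_c40 LD3_c20)) = (LP (LK LD1_c3 LD2_c27 LD3_c28)) :=
  Lre_g IH (LK LD1_c1 LD2_c40 LD3_c20) (LK LD1_c3 LD2_c27 LD3_c28) Lrfl Lrfl
theorem f465289 : Led Lsl_ct (LP (LK LD1_c13 LD2_c7 LD3_c40)) = (LP (LK LD1_c13 LD2_c11 LD3_c59)) :=
  Lgr Lrot63 (Lpe (f464112 IH) (Lpr_gt (f463898 IH) (Lpe (f463900 IH) (Lpr_ct (f465266 IH) (Lpr_gt (f15467 IH) (Lpe (f15462 IH) (Lpr_bt (K0.f15429 IH) (Lpr_gt (f15460 IH) (Lpr_ct (f15471 IH) (Lpr_gt (f15472 IH) (Lpn (LP (LK LD1_c13 LD2_c11 LD3_c59)))))))))))))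
theorem f121922 : Led Lsl_ct (LP (LK LD1_c13 LD2_c5 LD3_c20)) = (LP (LK LD1_c6 LD2_c53 LD3_c10)) :=
  Lre_c IH (LK LD1_c13 LD2_c5 LD3_c20) (LK LD1_c6 LD2_c53 LD3_c10) Lrfl Lrfl
theorem f465299 : Led Lsl_df (LP (LK LD1_c13 LD2_c5 LD3_c20)) = (LP (LK LD1_c13 LD2_c11 LD3_c59)) :=
  Lgr Lrot106 (Lpr_ct (f121922 IH) (Lpr_dt (f121912 IH) (Lpr_ct (f420077 IH) (Lpe (f124901 IH) (Lpr_ct (f420090 IH) (Lpr_af (f425149 IH) (Lpr_ff (f464114 IH) (Lpr_dt (f98734 IH) (Lpr_ct (f465289 IH) (Lpn (LP (LK LD1_c13 LD2_c11 LD3_c59))))))))))))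
theorem f472959 : Led Lsl_gt (LP (LK LD1_c13 LD2_c5 LD3_c20)) = (LP (LK LD1_c13 LD2_c3 LD3_c39)) :=
  Lgr Lrot49 (Lpr_df (f465299 IH) (Lpe (f15472 IH) (Lpe (f15471 IH) (Lpr_gt (f15296 IH) (Lpr_dt (f15289 IH) (Lpr_gt (f15323 IH) (Lpr_dt (f15326 IH) (Lpe (f457802 IH) (Lpr_df (f472951 IH) (Lpn (LP (LK LD1_c13 LD2_c3 LD3_c39))))))))))))
theorem f18373 : Led Lsl_gt (LP (LK LD1_c13 LD2_c3 LD3_c39)) = (LP (LK LD1_c22 LD2_c13 LD3_c43)) :=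
  Lre_g IH (LK LD1_c13 LD2_c3 LD3_c39) (LK LD1_c22 LD2_c13 LD3_c43) Lrfl Lrfl
theorem f472965 : Led Lsl_at (LP (LK LD1_c22 LD2_c14 LD3_c0)) = (LP (LK LD1_c22 LD2_c13 LD3_c43)) :=
  Lgr Lrot26 (Lpr_ff (f464404 IH) (Lpr_gt (f472959 IH) (Lpr_gt (f18373 IH) (Lpn (LP (LK LD1_c22 LD2_c13 LD3_c43))))))
theorem f121923 : Led Lsl_af (LP (LK LD1_c13 LD2_c5 LD3_c20)) = (LP (LK LD1_c22 LD2_c12 LD3_c43)) :=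
  Lgr Lrot0 (Lpr_at (f121919 IH) (Lpn (LP (LK LD1_c22 LD2_c12 LD3_c43))))
theorem f473035 : Led Lsl_ff (LP (LK LD1_c22 LD2_c12 LD3_c43)) = (LP (LK LD1_c22 LD2_c13 LD3_c43)) :=
  Lgr Lrot30 (Lpe (f121923 IH) (Lpe (f464404 IH) (Lpr_at (f472965 IH) (Lpn (LP (LK LD1_c22 LD2_c13 LD3_c43))))))
theorem f121931 : Led Lsl_dt (LP (LK LD1_c3 LD2_c25 LD3_c36)) = (LP (LK LD1_c6 LD2_c53 LD3_c10)) :=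
  Lre_d IH (LK LD1_c3 LD2_c25 LD3_c36) (LK LD1_c6 LD2_c53 LD3_c10) Lrfl Lrfl
theorem f15828 : Led Lsl_dt (LP (LK LD1_c13 LD2_c2 LD3_c57)) = (LP (LK LD1_c6 LD2_c51 LD3_c37)) :=
  Lre_d IH (LK LD1_c13 LD2_c2 LD3_c57) (LK LD1_c6 LD2_c51 LD3_c37) Lrfl Lrfl
theorem f19143 : Led Lsl_gt (LP (LK LD1_c13 LD2_c2 LD3_c57)) = (LP (LK LD1_c6 LD2_c52 LD3_c3)) :=
  Lre_g IH (LK LD1_c13 LD2_c2 LD3_c57) (LK LD1_c6 LD2_c52 LD3_c3) Lrfl Lrfl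
theorem f458001 : Led Lsl_ct (LP (LK LD1_c6 LD2_c52 LD3_c3)) = (LP (LK LD1_c13 LD2_c3 LD3_c42)) :=
  Lre_c IH (LK LD1_c6 LD2_c52 LD3_c3) (LK LD1_c13 LD2_c3 LD3_c42) Lrfl Lrfl
theorem f463588 : Led Lsl_gf (LP (LK LD1_c13 LD2_c5 LD3_c20)) = (LP (LK LD1_c13 LD2_c3 LD3_c42)) :=
  Lgr Lrot104 (Lpr_ct (f121922 IH) (Lpe (f121931 IH) (Lpr_cf (f420088 IH) (Lpr_gf (f463584 IH) (Lpe (f458366 IH) (Lpe (f15837 IH) (Lpe (f15828 IH) (Lpr_gt (f19143 IH) (Lpr_ct (f458001 IH) (Lpn (LP (LK LD1_c13 LD2_c3 LD3_c42))))))))))))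
theorem f473051 : Led Lsl_gf (LP (LK LD1_c13 LD2_c3 LD3_c42)) = (LP (LK LD1_c22 LD2_c13 LD3_c43)) :=
  Lgr Lrot47 (Lpe (f463588 IH) (Lpr_af (f121923 IH) (Lpr_ff (f473035 IH) (Lpn (LP (LK LD1_c22 LD2_c13 LD3_c43))))))
theorem f458006 : Led Lsl_ct (LP (LK LD1_c13 LD2_c3 LD3_c42)) = (LP (LK LD1_c6 LD2_c52 LD3_c3)) :=
  Lre_c IH (LK LD1_c13 LD2_c3 LD3_c42) (LK LD1_c6 LD2_c52 LD3_c3) Lrfl Lrfl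
theorem f18366 : Led Lsl_gt (LP (LK LD1_c6 LD2_c52 LD3_c3)) = (LP (LK LD1_c3 LD2_c24 LD3_c47)) :=
  Lre_g IH (LK LD1_c6 LD2_c52 LD3_c3) (LK LD1_c3 LD2_c24 LD3_c47) Lrfl Lrfl
theorem f18350 : Led Lsl_ct (LP (LK LD1_c3 LD2_c24 LD3_c47)) = (LP (LK LD1_c6 LD2_c52 LD3_c4)) :=
  Lre_c IH (LK LD1_c3 LD2_c24 LD3_c47) (LK LD1_c6 LD2_c52 LD3_c4) Lrfl Lrfl
theorem f19090 : Led Lsl_dt (LP (LK LD1_c13 LD2_c3 LD3_c46)) = (LP (LK LD1_c6 LD2_c52 LD3_c4)) :=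
  Lre_d IH (LK LD1_c13 LD2_c3 LD3_c46) (LK LD1_c6 LD2_c52 LD3_c4) Lrfl Lrfl
theorem f465310 : Led Lsl_ct (LP (LK LD1_c6 LD2_c57 LD3_c3)) = (LP (LK LD1_c3 LD2_c27 LD3_c28)) :=
  Lre_c IH (LK LD1_c6 LD2_c57 LD3_c3) (LK LD1_c3 LD2_c27 LD3_c28) Lrfl Lrfl
theorem f473053 : Led Lsl_gt (LP (LK LD1_c13 LD2_c11 LD3_c60)) = (LP (LK LD1_c6 LD2_c57 LD3_c3)) :=
  Lre_g IH (LK LD1_c13 LD2_c11 LD3_c60) (LK LD1_c6 LD2_c57 LD3_c3) Lrfl Lrfl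
theorem f473056 : Led Lsl_df (LP (LK LD1_c13 LD2_c11 LD3_c60)) = (LP (LK LD1_c22 LD2_c13 LD3_c43)) :=
  Lgr Lrot155 (Lpr_gt (f473053 IH) (Lpr_ct (f465310 IH) (Lpr_gt (f15296 IH) (Lpr_ct (f17052 IH) (Lpr_dt (f19090 IH) (Lpe (f18350 IH) (Lpe (f18366 IH) (Lpe (f458006 IH) (Lpr_gf (f473051 IH) (Lpn (LP (LK LD1_c22 LD2_c13 LD3_c43))))))))))))
theorem f15829 : Led Lsl_gt (LP (LK LD1_c6 LD2_c52 LD3_c2)) = (LP (LK LD1_c13 LD2_c2 LD3_c57)) :=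
  Lre_g IH (LK LD1_c6 LD2_c52 LD3_c2) (LK LD1_c13 LD2_c2 LD3_c57) Lrfl Lrfl
theorem f15845 : Led Lsl_dt (LP (LK LD1_c3 LD2_c24 LD3_c46)) = (LP (LK LD1_c6 LD2_c52 LD3_c0)) :=
  Lre_d IH (LK LD1_c3 LD2_c24 LD3_c46) (LK LD1_c6 LD2_c52 LD3_c0) Lrfl Lrfl
theorem f458370 : Led Lsl_ct (LP (LK LD1_c13 LD2_c3 LD3_c36)) = (LP (LK LD1_c6 LD2_c52 LD3_c0)) :=
  Lre_c IH (LK LD1_c13 LD2_c3 LD3_c36) (LK LD1_c6 LD2_c52 LD3_c0) Lrfl Lrfl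
theorem f473065 : Led Lsl_dt (LP (LK LD1_c6 LD2_c57 LD3_c3)) = (LP (LK LD1_c13 LD2_c3 LD3_c36)) :=
  Lgr Lrot105 (Lpe (f473053 IH) (Lpr_df (f473056 IH) (Lpe (f18373 IH) (Lpe (f18372 IH) (Lpr_gt (f15829 IH) (Lpr_dt (f15828 IH) (Lpr_gt (f15837 IH) (Lpr_dt (f15845 IH) (Lpe (f458370 IH) (Lpn (LP (LK LD1_c13 LD2_c3 LD3_c36))))))))))))
theorem f17027 : Led Lsl_gt (LP (LK LD1_c6 LD2_c57 LD3_c11)) = (LP (LK LD1_c3 LD2_c27 LD3_c30)) :=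
  Lre_g IH (LK LD1_c6 LD2_c57 LD3_c11) (LK LD1_c3 LD2_c27 LD3_c30) Lrfl Lrfl
theorem f468318 : Led Lsl_dt (LP (LK LD1_c3 LD2_c24 LD3_c50)) = (LP (LK LD1_c6 LD2_c52 LD3_c10)) :=
  Lre_d IH (LK LD1_c3 LD2_c24 LD3_c50) (LK LD1_c6 LD2_c52 LD3_c10) Lrfl Lrfl
theorem f472705 : Led Lsl_ct (LP (LK LD1_c13 LD2_c3 LD3_c57)) = (LP (LK LD1_c6 LD2_c52 LD3_c10)) :=
  Lre_c IH (LK LD1_c13 LD2_c3 LD3_c57) (LK LD1_c6 LD2_c52 LD3_c10) Lrfl Lrfl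
theorem f17080 : Led Lsl_gt (LP (LK LD1_c13 LD2_c3 LD3_c46)) = (LP (LK LD1_c6 LD2_c57 LD3_c11)) :=
  Lre_g IH (LK LD1_c13 LD2_c3 LD3_c46) (LK LD1_c6 LD2_c57 LD3_c11) Lrfl Lrfl
theorem f472706 : Led Lsl_df (LP (LK LD1_c13 LD2_c3 LD3_c57)) = (LP (LK LD1_c6 LD2_c57 LD3_c11)) :=
  Lgr Lrot174 (Lpr_ct (f472705 IH) (Lpe (f468318 IH) (Lpr_gf (f466569 IH) (Lpe (f91137 IH) (Lpe (f464414 IH) (Lpr_ct (f469124 IH) (Lpr_gt (f17049 IH) (Lpr_dt (f17048 IH) (Lpr_gt (f17080 IH) (Lpn (LP (LK LD1_c6 LD2_c57 LD3_c11))))))))))))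
theorem f472743 : Led Lsl_dt (LP (LK LD1_c13 LD2_c3 LD3_c57)) = (LP (LK LD1_c6 LD2_c57 LD3_c11)) :=
  Lgr Lrot42 (Lpr_df (f472706 IH) (Lpn (LP (LK LD1_c6 LD2_c57 LD3_c11))))
theorem f15846 : Led Lsl_ct (LP (LK LD1_c6 LD2_c52 LD3_c0)) = (LP (LK LD1_c13 LD2_c3 LD3_c36)) :=
  Lre_c IH (LK LD1_c6 LD2_c52 LD3_c0) (LK LD1_c13 LD2_c3 LD3_c36) Lrfl Lrfl
theorem f16893 : Led Lsl_gt (LP (LK LD1_c3 LD2_c27 LD3_c30)) = (LP (LK LD1_c6 LD2_c57 LD3_c10)) :=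
  Lre_g IH (LK LD1_c3 LD2_c27 LD3_c30) (LK LD1_c6 LD2_c57 LD3_c10) Lrfl Lrfl
theorem f464274 : Led Lsl_ff (LP (LK LD1_c6 LD2_c51 LD3_c40)) = (LP (LK LD1_c13 LD2_c2 LD3_c58)) :=
  Lgr Lrot3 (Lpr_ft (f464266 IH) (Lpn (LP (LK LD1_c13 LD2_c2 LD3_c58))))
theorem f91996 : Led Lsl_df (LP (LK LD1_c13 LD2_c2 LD3_c58)) = (LP (LK LD1_c13 LD2_c12 LD3_c48)) :=
  Lgr Lrot38 (Lpr_dt (f91991 IH) (Lpn (LP (LK LD1_c13 LD2_c12 LD3_c48))))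
theorem f464276 : Led Lsl_ft (LP (LK LD1_c13 LD2_c2 LD3_c61)) = (LP (LK LD1_c13 LD2_c12 LD3_c48)) :=
  Lgr Lrot54 (Lpe (f91165 IH) (Lpr_ff (f464274 IH) (Lpr_df (f91996 IH) (Lpn (LP (LK LD1_c13 LD2_c12 LD3_c48))))))
theorem f464409 : Led Lsl_af (LP (LK LD1_c13 LD2_c3 LD3_c50)) = (LP (LK LD1_c13 LD2_c12 LD3_c48)) :=
  Lgr Lrot45 (Lpr_ft (f464407 IH) (Lpr_at (f121915 IH) (Lpr_ft (f464276 IH) (Lpn (LP (LK LD1_c13 LD2_c12 LD3_c48))))))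
theorem f468957 : Led Lsl_gf (LP (LK LD1_c13 LD2_c3 LD3_c50)) = (LP (LK LD1_c6 LD2_c57 LD3_c35)) :=
  Lgr Lrot76 (Lpr_af (f464409 IH) (Lpe (f464276 IH) (Lpr_gt (f468923 IH) (Lpn (LP (LK LD1_c6 LD2_c57 LD3_c35))))))
theorem f468925 : Led Lsl_dt (LP (LK LD1_c3 LD2_c24 LD3_c54)) = (LP (LK LD1_c6 LD2_c52 LD3_c17)) :=
  Lre_d IH (LK LD1_c3 LD2_c24 LD3_c54) (LK LD1_c6 LD2_c52 LD3_c17) Lrfl Lrfl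
theorem f468977 : Led Lsl_ct (LP (LK LD1_c13 LD2_c4 LD3_c7)) = (LP (LK LD1_c6 LD2_c52 LD3_c17)) :=
  Lre_c IH (LK LD1_c13 LD2_c4 LD3_c7) (LK LD1_c6 LD2_c52 LD3_c17) Lrfl Lrfl
theorem f468978 : Led Lsl_dt (LP (LK LD1_c6 LD2_c57 LD3_c10)) = (LP (LK LD1_c13 LD2_c4 LD3_c7)) :=
  Lgr Lrot105 (Lpe (f16893 IH) (Lpe (f17034 IH) (Lpe (f17035 IH) (Lpr_cf (f468959 IH) (Lpe (f468957 IH) (Lpr_dt (f98767 IH) (Lpr_gt (f468919 IH) (Lpr_dt (f468925 IH) (Lpe (f468977 IH) (Lpn (LP (LK LD1_c13 LD2_c4 LD3_c7))))))))))))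
theorem f468989 : Led Lsl_df (LP (LK LD1_c6 LD2_c57 LD3_c10)) = (LP (LK LD1_c13 LD2_c4 LD3_c7)) :=
  Lgr Lrot38 (Lpr_dt (f468978 IH) (Lpn (LP (LK LD1_c13 LD2_c4 LD3_c7))))
theorem f17053 : Led Lsl_gt (LP (LK LD1_c6 LD2_c57 LD3_c10)) = (LP (LK LD1_c13 LD2_c3 LD3_c46)) :=
  Lre_g IH (LK LD1_c6 LD2_c57 LD3_c10) (LK LD1_c13 LD2_c3 LD3_c46) Lrfl Lrfl
theorem f18593 : Led Lsl_dt (LP (LK LD1_c1 LD2_c38 LD3_c49)) = (LP (LK LD1_c3 LD2_c24 LD3_c47)) :=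
  Lre_d IH (LK LD1_c1 LD2_c38 LD3_c49) (LK LD1_c3 LD2_c24 LD3_c47) Lrfl Lrfl
theorem f458369 : Led Lsl_dt (LP (LK LD1_c6 LD2_c52 LD3_c0)) = (LP (LK LD1_c3 LD2_c24 LD3_c46)) :=
  Lre_d IH (LK LD1_c6 LD2_c52 LD3_c0) (LK LD1_c3 LD2_c24 LD3_c46) Lrfl Lrfl
theorem f468995 : Led Lsl_gt (LP (LK LD1_c22 LD2_c13 LD3_c23)) = (LP (LK LD1_c13 LD2_c4 LD3_c7)) :=
  Lre_g IH (LK LD1_c22 LD2_c13 LD3_c23) (LK LD1_c13 LD2_c4 LD3_c7) Lrfl Lrfl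
theorem f469002 : Led Lsl_gf (LP (LK LD1_c6 LD2_c52 LD3_c0)) = (LP (LK LD1_c13 LD2_c3 LD3_c29)) :=
  Lgr Lrot144 (Lpr_dt (f458369 IH) (Lpr_gt (f18607 IH) (Lpr_dt (f18593 IH) (Lpe (f18451 IH) (Lpe (f19090 IH) (Lpe (f17053 IH) (Lpr_df (f468989 IH) (Lpe (f468995 IH) (Lpe (f91580 IH) (Lpn (LP (LK LD1_c13 LD2_c3 LD3_c29))))))))))))
theorem f91521 : Led Lsl_ct (LP (LK LD1_c22 LD2_c13 LD3_c23)) = (LP (LK LD1_c13 LD2_c3 LD3_c29)) :=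
  Lre_c IH (LK LD1_c22 LD2_c13 LD3_c23) (LK LD1_c13 LD2_c3 LD3_c29) Lrfl Lrfl
theorem f473069 : Led Lsl_gt (LP (LK LD1_c13 LD2_c3 LD3_c57)) = (LP (LK LD1_c22 LD2_c13 LD3_c23)) :=
  Lgr Lrot146 (Lpr_dt (f472743 IH) (Lpr_gt (f17027 IH) (Lpr_ct (f16871 IH) (Lpr_gt (f15460 IH) (Lpr_ct (f15471 IH) (Lpr_dt (f473065 IH) (Lpe (f15846 IH) (Lpr_gf (f469002 IH) (Lpe (f91521 IH) (Lpn (LP (LK LD1_c22 LD2_c13 LD3_c23))))))))))))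
theorem f17047 : Led Lsl_ct (LP (LK LD1_c13 LD2_c3 LD3_c46)) = (LP (LK LD1_c6 LD2_c54 LD3_c29)) :=
  Lre_c IH (LK LD1_c13 LD2_c3 LD3_c46) (LK LD1_c6 LD2_c54 LD3_c29) Lrfl Lrfl
theorem f15339 : Led Lsl_dt (LP (LK LD1_c3 LD2_c27 LD3_c29)) = (LP (LK LD1_c6 LD2_c57 LD3_c8)) :=
  Lre_d IH (LK LD1_c3 LD2_c27 LD3_c29) (LK LD1_c6 LD2_c57 LD3_c8) Lrfl Lrfl
theorem f456364 : Led Lsl_ct (LP (LK LD1_c7 LD2_c19 LD3_c60)) = (LP (LK LD1_c13 LD2_c52 LD3_c20)) :=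
  Lre_c IH (LK LD1_c7 LD2_c19 LD3_c60) (LK LD1_c13 LD2_c52 LD3_c20) Lrfl Lrfl
theorem f473205 : Led Lsl_gt (LP (LK LD1_c6 LD2_c57 LD3_c8)) = (LP (LK LD1_c3 LD2_c39 LD3_c53)) :=
  Lgr Lrot49 (Lpe (f15339 IH) (Lpe (K2.f15300 IH) (Lpe (f17047 IH) (Lpr_gt (f17080 IH) (Lpe (f472706 IH) (Lpr_gt (f473069 IH) (Lpr_dt (f473197 IH) (Lpe (f456364 IH) (Lpe (f456281 IH) (Lpn (LP (LK LD1_c3 LD2_c39 LD3_c53))))))))))))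
theorem f463927 : Led Lsl_ct (LP (LK LD1_c3 LD2_c26 LD3_c11)) = (LP (LK LD1_c6 LD2_c54 LD3_c18)) :=
  Lre_c IH (LK LD1_c3 LD2_c26 LD3_c11) (LK LD1_c6 LD2_c54 LD3_c18) Lrfl Lrfl
theorem f472847 : Led Lsl_at (LP (LK LD1_c6 LD2_c54 LD3_c18)) = (LP (LK LD1_c3 LD2_c39 LD3_c53)) :=
  Lgr Lrot107 (Lpe (f463927 IH) (Lpr_af (f472837 IH) (Lpe (f455952 IH) (Lpn (LP (LK LD1_c3 LD2_c39 LD3_c53))))))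
theorem f473207 : Led Lsl_ft (LP (LK LD1_c13 LD2_c3 LD3_c61)) = (LP (LK LD1_c6 LD2_c54 LD3_c18)) :=
  Lgr Lrot2 (Lpr_gt (f458371 IH) (Lpr_gt (f473205 IH) (Lpe (f472847 IH) (Lpn (LP (LK LD1_c6 LD2_c54 LD3_c18))))))
theorem f473215 : Led Lsl_ff (LP (LK LD1_c13 LD2_c3 LD3_c61)) = (LP (LK LD1_c6 LD2_c54 LD3_c18)) :=
  Lgr Lrot3 (Lpr_ft (f473207 IH) (Lpn (LP (LK LD1_c6 LD2_c54 LD3_c18))))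
theorem f90898 : Led Lsl_dt (LP (LK LD1_c6 LD2_c54 LD3_c18)) = (LP (LK LD1_c6 LD2_c56 LD3_c51)) :=
  Lre_d IH (LK LD1_c6 LD2_c54 LD3_c18) (LK LD1_c6 LD2_c56 LD3_c51) Lrfl Lrfl
theorem f458007 : Led Lsl_dt (LP (LK LD1_c3 LD2_c27 LD3_c39)) = (LP (LK LD1_c3 LD2_c26 LD3_c11)) :=
  Lre_d IH (LK LD1_c3 LD2_c27 LD3_c39) (LK LD1_c3 LD2_c26 LD3_c11) Lrfl Lrfl
theorem f457885 : Led Lsl_ct (LP (LK LD1_c6 LD2_c57 LD3_c31)) = (LP (LK LD1_c3 LD2_c27 LD3_c39)) :=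
  Lre_c IH (LK LD1_c6 LD2_c57 LD3_c31) (LK LD1_c3 LD2_c27 LD3_c39) Lrfl Lrfl
theorem f457886 : Led Lsl_dt (LP (LK LD1_c13 LD2_c12 LD3_c51)) = (LP (LK LD1_c6 LD2_c57 LD3_c31)) :=
  Lre_d IH (LK LD1_c13 LD2_c12 LD3_c51) (LK LD1_c6 LD2_c57 LD3_c31) Lrfl Lrfl
theorem f472803 : Led Lsl_dt (LP (LK LD1_c13 LD2_c11 LD3_c31)) = (LP (LK LD1_c22 LD2_c24 LD3_c18)) :=
  Lre_d IH (LK LD1_c13 LD2_c11 LD3_c31) (LK LD1_c22 LD2_c24 LD3_c18) Lrfl Lrfl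
theorem f472937 : Led Lsl_cf (LP (LK LD1_c13 LD2_c12 LD3_c51)) = (LP (LK LD1_c22 LD2_c24 LD3_c18)) :=
  Lgr Lrot118 (Lpr_dt (f457886 IH) (Lpr_ct (f457885 IH) (Lpr_dt (f458007 IH) (Lpr_ct (f463927 IH) (Lpr_dt (f90898 IH) (Lpr_ct (f469055 IH) (Lpr_af (f472930 IH) (Lpr_ff (f472818 IH) (Lpr_dt (f472803 IH) (Lpn (LP (LK LD1_c22 LD2_c24 LD3_c18))))))))))))
theorem f472812 : Led Lsl_dt (LP (LK LD1_c7 LD2_c16 LD3_c34)) = (LP (LK LD1_c6 LD2_c56 LD3_c52)) :=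
  Lgr Lrot42 (Lpr_df (f472805 IH) (Lpn (LP (LK LD1_c6 LD2_c56 LD3_c52))))
theorem f472941 : Led Lsl_af (LP (LK LD1_c6 LD2_c54 LD3_c18)) = (LP (LK LD1_c3 LD2_c39 LD3_c53)) :=
  Lgr Lrot109 (Lpe (f463927 IH) (Lpe (f458007 IH) (Lpe (f457885 IH) (Lpe (f457886 IH) (Lpr_cf (f472937 IH) (Lpe (f472803 IH) (Lpe (f472796 IH) (Lpe (f472812 IH) (Lpe (f457374 IH) (Lpn (LP (LK LD1_c3 LD2_c39 LD3_c53))))))))))))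
theorem f473217 : Led Lsl_at (LP (LK LD1_c13 LD2_c3 LD3_c61)) = (LP (LK LD1_c7 LD2_c16 LD3_c34)) :=
  Lgr Lrot66 (Lpr_ff (f473215 IH) (Lpr_af (f472941 IH) (Lpr_ff (f457374 IH) (Lpn (LP (LK LD1_c7 LD2_c16 LD3_c34))))))
theorem f473238 : Led Lsl_af (LP (LK LD1_c6 LD2_c52 LD3_c12)) = (LP (LK LD1_c3 LD2_c38 LD3_c2)) :=
  Lgr Lrot68 (Lpr_ct (f91502 IH) (Lpr_at (f473217 IH) (Lpr_ct (f457124 IH) (Lpn (LP (LK LD1_c3 LD2_c38 LD3_c2))))))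
theorem f473244 : Led Lsl_gf (LP (LK LD1_c3 LD2_c24 LD3_c51)) = (LP (LK LD1_c1 LD2_c46 LD3_c54)) :=
  Lgr Lrot47 (Lpr_gt (f91496 IH) (Lpr_af (f473238 IH) (Lpe (f457370 IH) (Lpn (LP (LK LD1_c1 LD2_c46 LD3_c54))))))
theorem f91511 : Led Lsl_ct (LP (LK LD1_c3 LD2_c24 LD3_c51)) = (LP (LK LD1_c6 LD2_c52 LD3_c13)) :=
  Lre_c IH (LK LD1_c3 LD2_c24 LD3_c51) (LK LD1_c6 LD2_c52 LD3_c13) Lrfl Lrfl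
theorem f468884 : Led Lsl_dt (LP (LK LD1_c6 LD2_c52 LD3_c13)) = (LP (LK LD1_c13 LD2_c4 LD3_c2)) :=
  Lre_d IH (LK LD1_c6 LD2_c52 LD3_c13) (LK LD1_c13 LD2_c4 LD3_c2) Lrfl Lrfl
theorem f15447 : Led Lsl_ct (LP (LK LD1_c1 LD2_c40 LD3_c20)) = (LP (LK LD1_c3 LD2_c27 LD3_c30)) :=
  Lre_c IH (LK LD1_c1 LD2_c40 LD3_c20) (LK LD1_c3 LD2_c27 LD3_c30) Lrfl Lrfl
theorem f473248 : Led Lsl_cf (LP (LK LD1_c13 LD2_c4 LD3_c2)) = (LP (LK LD1_c6 LD2_c57 LD3_c10)) :=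
  Lgr Lrot99 (Lpe (f468884 IH) (Lpe (f91511 IH) (Lpr_gf (f473244 IH) (Lpe (f455952 IH) (Lpe (f473205 IH) (Lpe (f15339 IH) (Lpr_gt (K2.f15464 IH) (Lpr_ct (f15447 IH) (Lpr_gt (f16893 IH) (Lpn (LP (LK LD1_c6 LD2_c57 LD3_c10))))))))))))
theorem f467477 : Led Lsl_dt (LP (LK LD1_c13 LD2_c4 LD3_c2)) = (LP (LK LD1_c6 LD2_c52 LD3_c13)) :=
  Lre_d IH (LK LD1_c13 LD2_c4 LD3_c2) (LK LD1_c6 LD2_c52 LD3_c13) Lrfl Lrfl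
theorem f91515 : Led Lsl_ct (LP (LK LD1_c6 LD2_c52 LD3_c13)) = (LP (LK LD1_c3 LD2_c24 LD3_c51)) :=
  Lre_c IH (LK LD1_c6 LD2_c52 LD3_c13) (LK LD1_c3 LD2_c24 LD3_c51) Lrfl Lrfl
theorem f17091 : Led Lsl_dt (LP (LK LD1_c3 LD2_c24 LD3_c51)) = (LP (LK LD1_c1 LD2_c38 LD3_c50)) :=
  Lre_d IH (LK LD1_c3 LD2_c24 LD3_c51) (LK LD1_c1 LD2_c38 LD3_c50) Lrfl Lrfl
theorem f472748 : Led Lsl_ct (LP (LK LD1_c6 LD2_c52 LD3_c10)) = (LP (LK LD1_c13 LD2_c3 LD3_c57)) :=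
  Lre_c IH (LK LD1_c6 LD2_c52 LD3_c10) (LK LD1_c13 LD2_c3 LD3_c57) Lrfl Lrfl
theorem f468992 : Led Lsl_ct (LP (LK LD1_c6 LD2_c52 LD3_c17)) = (LP (LK LD1_c13 LD2_c4 LD3_c7)) :=
  Lre_c IH (LK LD1_c6 LD2_c52 LD3_c17) (LK LD1_c13 LD2_c4 LD3_c7) Lrfl Lrfl
theorem f92014 : Led Lsl_dt (LP (LK LD1_c13 LD2_c4 LD3_c12)) = (LP (LK LD1_c6 LD2_c52 LD3_c19)) :=
  Lre_d IH (LK LD1_c13 LD2_c4 LD3_c12) (LK LD1_c6 LD2_c52 LD3_c19) Lrfl Lrfl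
theorem f473253 : Led Lsl_ct (LP (LK LD1_c6 LD2_c57 LD3_c11)) = (LP (LK LD1_c13 LD2_c4 LD3_c12)) :=
  Lgr Lrot176 (Lpe (f472743 IH) (Lpe (f472748 IH) (Lpe (f468318 IH) (Lpe (f18585 IH) (Lpe (f17091 IH) (Lpe (f91515 IH) (Lpe (f467477 IH) (Lpr_cf (f473248 IH) (Lpr_df (f468989 IH) (Lpe (f468992 IH) (Lpe (f468925 IH) (Lpe (f15832 IH) (Lpe (K2.f17093 IH) (Lpe (f90862 IH) (Lpe (f92014 IH) (Lpn (LP (LK LD1_c13 LD2_c4 LD3_c12))))))))))))))))))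
theorem f162350 : Led Lsl_dt (LP (LK LD1_c3 LD2_c27 LD3_c30)) = (LP (LK LD1_c6 LD2_c57 LD3_c13)) :=
  Lre_d IH (LK LD1_c3 LD2_c27 LD3_c30) (LK LD1_c6 LD2_c57 LD3_c13) Lrfl Lrfl
theorem f19063 : Led Lsl_gt (LP (LK LD1_c6 LD2_c57 LD3_c13)) = (LP (LK LD1_c13 LD2_c3 LD3_c44)) :=
  Lre_g IH (LK LD1_c6 LD2_c57 LD3_c13) (LK LD1_c13 LD2_c3 LD3_c44) Lrfl Lrfl
theorem f469052 : Led Lsl_ct (LP (LK LD1_c3 LD2_c27 LD3_c37)) = (LP (LK LD1_c6 LD2_c57 LD3_c28)) :=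
  Lre_c IH (LK LD1_c3 LD2_c27 LD3_c37) (LK LD1_c6 LD2_c57 LD3_c28) Lrfl Lrfl
theorem f469051 : Led Lsl_dt (LP (LK LD1_c1 LD2_c40 LD3_c23)) = (LP (LK LD1_c3 LD2_c27 LD3_c37)) :=
  Lre_d IH (LK LD1_c1 LD2_c40 LD3_c23) (LK LD1_c3 LD2_c27 LD3_c37) Lrfl Lrfl
theorem f88018 : Led Lsl_bt (LP (LK LD1_c0 LD2_c23 LD3_c56)) = (LP (LK LD1_c0 LD2_c53 LD3_c9)) :=
  Lre_b IH (LK LD1_c0 LD2_c23 LD3_c56) (LK LD1_c0 LD2_c53 LD3_c9) Lrfl Lrfl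
theorem f455114 : Led Lsl_bt (LP (LK LD1_c0 LD2_c46 LD3_c39)) = (LP (LK LD1_c1 LD2_c40 LD3_c22)) :=
  Lre_b IH (LK LD1_c0 LD2_c46 LD3_c39) (LK LD1_c1 LD2_c40 LD3_c22) Lrfl Lrfl
theorem f468093 : Led Lsl_gt (LP (LK LD1_c3 LD2_c26 LD3_c26)) = (LP (LK LD1_c1 LD2_c40 LD3_c23)) :=
  Lgr Lrot65 (Lpr_cf (K24.f95189 IH) (Lpr_bt (f5737 IH) (Lpr_gf (f468084 IH) (Lpe (f88018 IH) (Lpr_ct (K5.f64663 IH) (Lpr_gf (K24.f460405 IH) (Lpe (K24.f461923 IH) (Lpe (K24.f457787 IH) (Lpe (f455114 IH) (Lpr_ct (f16744 IH) (Lpn (LP (LK LD1_c1 LD2_c40 LD3_c23)))))))))))))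
theorem f473259 : Led Lsl_gf (LP (LK LD1_c6 LD2_c54 LD3_c44)) = (LP (LK LD1_c13 LD2_c4 LD3_c12)) :=
  Lgr Lrot148 (Lpr_dt (f95024 IH) (Lpr_gt (f468093 IH) (Lpr_dt (f469051 IH) (Lpr_ct (f469052 IH) (Lpr_df (f472703 IH) (Lpe (f19063 IH) (Lpe (f162350 IH) (Lpe (f17027 IH) (Lpr_ct (f473253 IH) (Lpn (LP (LK LD1_c13 LD2_c4 LD3_c12))))))))))))
theorem f473269 : Led Lsl_ff (LP (LK LD1_c7 LD2_c21 LD3_c4)) = (LP (LK LD1_c6 LD2_c57 LD3_c21)) :=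
  Lgr Lrot52 (Lpr_at (f425157 IH) (Lpr_gf (f473259 IH) (Lpe (f92001 IH) (Lpn (LP (LK LD1_c6 LD2_c57 LD3_c21))))))
theorem f473281 : Led Lsl_ft (LP (LK LD1_c7 LD2_c21 LD3_c4)) = (LP (LK LD1_c6 LD2_c57 LD3_c21)) :=
  Lgr Lrot48 (Lpr_ff (f473269 IH) (Lpn (LP (LK LD1_c6 LD2_c57 LD3_c21))))
theorem f473283 : Led Lsl_dt (LP (LK LD1_c6 LD2_c57 LD3_c21)) = (LP (LK LD1_c3 LD2_c27 LD3_c35)) :=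
  Lre_d IH (LK LD1_c6 LD2_c57 LD3_c21) (LK LD1_c3 LD2_c27 LD3_c35) Lrfl Lrfl
theorem f473291 : Led Lsl_ff (LP (LK LD1_c3 LD2_c40 LD3_c26)) = (LP (LK LD1_c3 LD2_c27 LD3_c35)) :=
  Lgr Lrot19 (Lpr_dt (f95920 IH) (Lpr_ft (f473281 IH) (Lpr_dt (f473283 IH) (Lpn (LP (LK LD1_c3 LD2_c27 LD3_c35))))))
theorem f425151 : Led Lsl_at (LP (LK LD1_c3 LD2_c40 LD3_c26)) = (LP (LK LD1_c3 LD2_c26 LD3_c26)) :=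
  Lgr Lrot100 (Lpr_af (f425149 IH) (Lpn (LP (LK LD1_c3 LD2_c26 LD3_c26))))
theorem f473352 : Led Lsl_gf (LP (LK LD1_c1 LD2_c40 LD3_c27)) = (LP (LK LD1_c3 LD2_c27 LD3_c35)) :=
  Lgr Lrot47 (Lpe (f468873 IH) (Lpe (f425151 IH) (Lpr_ff (f473291 IH) (Lpn (LP (LK LD1_c3 LD2_c27 LD3_c35))))))
theorem f451112 : Led Lsl_bt (LP (LK LD1_c0 LD2_c23 LD3_c55)) = (LP (LK LD1_c0 LD2_c53 LD3_c5)) :=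
  Lre_b IH (LK LD1_c0 LD2_c23 LD3_c55) (LK LD1_c0 LD2_c53 LD3_c5) Lrfl Lrfl
theorem f63007 : Led Lsl_gt (LP (LK LD1_c0 LD2_c53 LD3_c5)) = (LP (LK LD1_c1 LD2_c52 LD3_c55)) :=
  Lre_g IH (LK LD1_c0 LD2_c53 LD3_c5) (LK LD1_c1 LD2_c52 LD3_c55) Lrfl Lrfl
theorem f473402 : Led Lsl_ct (LP (LK LD1_c1 LD2_c52 LD3_c55)) = (LP (LK LD1_c3 LD2_c27 LD3_c35)) :=
  Lgr Lrot91 (Lpe (f63007 IH) (Lpe (f451112 IH) (Lpr_ct (K24.f451114 IH) (Lpr_gf (K24.f459896 IH) (Lpq (K24.f459919 IH) (Lpe (K5.f128079 IH) (Lpe (K5.f121211 IH) (Lpe (f464624 IH) (Lpe (f455119 IH) (Lpr_ct (f16723 IH) (Lpr_gf (f473352 IH) (Lpn (LP (LK LD1_c3 LD2_c27 LD3_c35))))))))))))))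
theorem f473420 : Led Lsl_bt (LP (LK LD1_c1 LD2_c52 LD3_c55)) = (LP (LK LD1_c0 LD2_c54 LD3_c10)) :=
  Lgr Lrot130 (Lpr_ct (f473402 IH) (Lpe (f16745 IH) (Lpe (f16744 IH) (Lpr_bt (f455114 IH) (Lpe (f463693 IH) (Lpe (f129554 IH) (Lpr_ct (f121013 IH) (Lpr_gf (f463653 IH) (Lpe (f11246 IH) (Lpe (f11355 IH) (Lpn (LP (LK LD1_c0 LD2_c54 LD3_c10)))))))))))))
theorem f121003 : Led Lsl_bt (LP (LK LD1_c0 LD2_c50 LD3_c51)) = (LP (LK LD1_c0 LD2_c22 LD3_c60)) :=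
  Lre_b IH (LK LD1_c0 LD2_c50 LD3_c51) (LK LD1_c0 LD2_c22 LD3_c60) Lrfl Lrfl
theorem f124365 : Led Lsl_ff (LP (LK LD1_c0 LD2_c22 LD3_c47)) = (LP (LK LD1_c0 LD2_c22 LD3_c60)) :=
  Lgr Lrot25 (Lpr_bt (K3.f107301 IH) (Lpr_ft (K5.f124361 IH) (Lpr_bt (f121003 IH) (Lpn (LP (LK LD1_c0 LD2_c22 LD3_c60))))))
theorem f121005 : Led Lsl_et (LP (LK LD1_c0 LD2_c50 LD3_c56)) = (LP (LK LD1_c0 LD2_c22 LD3_c60)) :=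
  Lre_e IH (LK LD1_c0 LD2_c50 LD3_c56) (LK LD1_c0 LD2_c22 LD3_c60) Lrfl Lrfl
theorem f457141 : Led Lsl_ef (LP (LK LD1_c1 LD2_c48 LD3_c23)) = v766 :=
  Lgr Lrot21 (Lpr_ft (f203884 IH) (Lpr_et (f121005 IH) (Lpe (f124365 IH) (Lpr_et (f147785 IH) (Lpr_ft (f457140 IH) (Lpn v766))))))
theorem f203857 : Led Lsl_bt (LP (LK LD1_c1 LD2_c48 LD3_c23)) = (LP (LK LD1_c3 LD2_c42 LD3_c28)) :=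
  Lre_b IH (LK LD1_c1 LD2_c48 LD3_c23) (LK LD1_c3 LD2_c42 LD3_c28) Lrfl Lrfl
theorem f473426 : Led Lsl_ef (LP (LK LD1_c1 LD2_c52 LD3_c55)) = (LP (LK LD1_c3 LD2_c42 LD3_c28)) :=
  Lgr Lrot29 (Lpr_bt (f473420 IH) (Lpq (f462174 IH) (Lpe (f457141 IH) (Lpr_bt (f203857 IH) (Lpn (LP (LK LD1_c3 LD2_c42 LD3_c28)))))))
theorem f124371 : Led Lsl_ft (LP (LK LD1_c1 LD2_c48 LD3_c11)) = (LP (LK LD1_c3 LD2_c42 LD3_c28)) :=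
  Lre_f IH (LK LD1_c1 LD2_c48 LD3_c11) (LK LD1_c3 LD2_c42 LD3_c28) Lrfl Lrfl
theorem f120858 : Led Lsl_et (LP (LK LD1_c0 LD2_c50 LD3_c51)) = (LP (LK LD1_c1 LD2_c48 LD3_c11)) :=
  Lre_e IH (LK LD1_c0 LD2_c50 LD3_c51) (LK LD1_c1 LD2_c48 LD3_c11) Lrfl Lrfl
theorem f473432 : Led Lsl_ft (LP (LK LD1_c1 LD2_c52 LD3_c55)) = (LP (LK LD1_c1 LD2_c47 LD3_c10)) :=
  Lgr Lrot86 (Lpr_ef (f473426 IH) (Lpe (f124371 IH) (Lpe (f120858 IH) (Lpe (K5.f124361 IH) (Lpe (f107307 IH) (Lpn (LP (LK LD1_c1 LD2_c47 LD3_c10))))))))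
theorem f425155 : Led Lsl_at (LP (LK LD1_c1 LD2_c47 LD3_c10)) = (LP (LK LD1_c1 LD2_c49 LD3_c27)) :=
  Lgr Lrot107 (Lpe (f420091 IH) (Lpr_af (f425149 IH) (Lpr_cf (K24.f95189 IH) (Lpn (LP (LK LD1_c1 LD2_c49 LD3_c27))))))
theorem f468310 : Led Lsl_cf (LP (LK LD1_c6 LD2_c52 LD3_c8)) = (LP (LK LD1_c3 LD2_c30 LD3_c35)) :=
  Lgr Lrot11 (Lpr_ct (f468303 IH) (Lpn (LP (LK LD1_c3 LD2_c30 LD3_c35))))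
theorem f473436 : Led Lsl_dt (LP (LK LD1_c1 LD2_c52 LD3_c55)) = (LP (LK LD1_c3 LD2_c30 LD3_c35)) :=
  Lgr Lrot159 (Lpr_ft (f473432 IH) (Lpr_at (f425155 IH) (Lpe (K24.f95136 IH) (Lpe (f95024 IH) (Lpe (f95191 IH) (Lpe (f464396 IH) (Lpe (f458441 IH) (Lpe (f98758 IH) (Lpr_cf (f468310 IH) (Lpn (LP (LK LD1_c3 LD2_c30 LD3_c35))))))))))))
theorem f5743 : Led Lsl_gt (LP (LK LD1_c3 LD2_c44 LD3_c44)) = (LP (LK LD1_c1 LD2_c49 LD3_c27)) :=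
  Lre_g IH (LK LD1_c3 LD2_c44 LD3_c44) (LK LD1_c1 LD2_c49 LD3_c27) Lrfl Lrfl
theorem f473434 : Led Lsl_gt (LP (LK LD1_c1 LD2_c52 LD3_c55)) = (LP (LK LD1_c3 LD2_c44 LD3_c44)) :=
  Lgr Lrot5 (Lpr_ft (f473432 IH) (Lpr_at (f425155 IH) (Lpe (f5743 IH) (Lpn (LP (LK LD1_c3 LD2_c44 LD3_c44))))))
theorem f451228 : Led Lsl_ct (LP (LK LD1_c1 LD2_c54 LD3_c45)) = (LP (LK LD1_c0 LD2_c54 LD3_c1)) :=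
  Lre_c IH (LK LD1_c1 LD2_c54 LD3_c45) (LK LD1_c0 LD2_c54 LD3_c1) Lrfl Lrfl
theorem f446530 : Led Lsl_bt (LP (LK LD1_c0 LD2_c54 LD3_c1)) = (LP (LK LD1_c0 LD2_c24 LD3_c17)) :=
  Lre_b IH (LK LD1_c0 LD2_c54 LD3_c1) (LK LD1_c0 LD2_c24 LD3_c17) Lrfl Lrfl
theorem f458617 : Led Lsl_ff (LP (LK LD1_c0 LD2_c54 LD3_c1)) = (LP (LK LD1_c0 LD2_c53 LD3_c61)) :=
  Lgr Lrot25 (Lpr_bt (f446530 IH) (Lpq (K24.f457379 IH) (Lpqs (K24.f457380 IH) (Lpe (K24.f451225 IH) (Lpr_bt (f451209 IH) (Lpn (LP (LK LD1_c0 LD2_c53 LD3_c61))))))))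
theorem f458625 : Led Lsl_ft (LP (LK LD1_c0 LD2_c54 LD3_c1)) = (LP (LK LD1_c0 LD2_c53 LD3_c61)) :=
  Lgr Lrot48 (Lpr_ff (f458617 IH) (Lpn (LP (LK LD1_c0 LD2_c53 LD3_c61))))
theorem f446556 : Led Lsl_ct (LP (LK LD1_c0 LD2_c53 LD3_c61)) = (LP (LK LD1_c1 LD2_c54 LD3_c44)) :=
  Lre_c IH (LK LD1_c0 LD2_c53 LD3_c61) (LK LD1_c1 LD2_c54 LD3_c44) Lrfl Lrfl
theorem f458627 : Led Lsl_ff (LP (LK LD1_c1 LD2_c54 LD3_c45)) = (LP (LK LD1_c1 LD2_c54 LD3_c44)) :=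
  Lgr Lrot23 (Lpr_ct (f451228 IH) (Lpr_ft (f458625 IH) (Lpr_ct (f446556 IH) (Lpn (LP (LK LD1_c1 LD2_c54 LD3_c44))))))
theorem f15773 : Led Lsl_ct (LP (LK LD1_c0 LD2_c46 LD3_c48)) = (LP (LK LD1_c1 LD2_c40 LD3_c42)) :=
  Lre_c IH (LK LD1_c0 LD2_c46 LD3_c48) (LK LD1_c1 LD2_c40 LD3_c42) Lrfl Lrfl
theorem f455239 : Led Lsl_ff (LP (LK LD1_c1 LD2_c40 LD3_c37)) = (LP (LK LD1_c1 LD2_c40 LD3_c42)) :=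
  Lgr Lrot23 (Lpr_ct (K24.f15754 IH) (Lpr_ft (K24.f455154 IH) (Lpqs (K24.f455234 IH) (Lpr_ct (f15773 IH) (Lpn (LP (LK LD1_c1 LD2_c40 LD3_c42)))))))
theorem f458629 : Led Lsl_bt (LP (LK LD1_c1 LD2_c54 LD3_c45)) = (LP (LK LD1_c1 LD2_c40 LD3_c42)) :=
  Lgr Lrot35 (Lpr_ff (f458627 IH) (Lpr_bf (f457397 IH) (Lpr_ff (f455239 IH) (Lpn (LP (LK LD1_c1 LD2_c40 LD3_c42))))))
theorem f464215 : Led Lsl_gf (LP (LK LD1_c1 LD2_c45 LD3_c20)) = (LP (LK LD1_c1 LD2_c40 LD3_c42)) :=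
  Lgr Lrot76 (Lpr_af (f128296 IH) (Lpr_ff (f464207 IH) (Lpr_gt (f16741 IH) (Lpn (LP (LK LD1_c1 LD2_c40 LD3_c42))))))
theorem f458495 : Led Lsl_ct (LP (LK LD1_c3 LD2_c30 LD3_c53)) = (LP (LK LD1_c7 LD2_c3 LD3_c44)) :=
  Lre_c IH (LK LD1_c3 LD2_c30 LD3_c53) (LK LD1_c7 LD2_c3 LD3_c44) Lrfl Lrfl
theorem f468869 : Led Lsl_cf (LP (LK LD1_c3 LD2_c39 LD3_c12)) = (LP (LK LD1_c3 LD2_c33 LD3_c24)) :=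
  Lgr Lrot166 (Lpr_gt (f468863 IH) (Lpe (f466485 IH) (Lpr_gt (f64670 IH) (Lpr_dt (f466472 IH) (Lpr_ct (f458495 IH) (Lpr_df (f466608 IH) (Lpr_gf (f464955 IH) (Lpe (f458602 IH) (Lpr_gf (f466603 IH) (Lpn (LP (LK LD1_c3 LD2_c33 LD3_c24))))))))))))
theorem f450724 : Led Lsl_at (LP (LK LD1_c1 LD2_c42 LD3_c25)) = (LP (LK LD1_c0 LD2_c47 LD3_c43)) :=
  Lre_a IH (LK LD1_c1 LD2_c42 LD3_c25) (LK LD1_c0 LD2_c47 LD3_c43) Lrfl Lrfl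
theorem f459182 : Led Lsl_gf (LP (LK LD1_c1 LD2_c42 LD3_c24)) = (LP (LK LD1_c1 LD2_c42 LD3_c16)) :=
  Lgr Lrot47 (Lpr_gt (f455664 IH) (Lpe (f450724 IH) (Lpr_ff (f458983 IH) (Lpn (LP (LK LD1_c1 LD2_c42 LD3_c16))))))
theorem f116280 : Led Lsl_bt (LP (LK LD1_c1 LD2_c47 LD3_c34)) = (LP (LK LD1_c3 LD2_c41 LD3_c14)) :=
  Lre_b IH (LK LD1_c1 LD2_c47 LD3_c34) (LK LD1_c3 LD2_c41 LD3_c14) Lrfl Lrfl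
theorem f116477 : Led Lsl_cf (LP (LK LD1_c1 LD2_c47 LD3_c34)) = (LP (LK LD1_c3 LD2_c35 LD3_c31)) :=
  Lgr Lrot97 (Lpr_bt (f116280 IH) (Lpr_ct (f116470 IH) (Lpr_bt (f64668 IH) (Lpe (K5.f109306 IH) (Lpr_bt (K3.f108769 IH) (Lpn (LP (LK LD1_c3 LD2_c35 LD3_c31))))))))
theorem f469128 : Led Lsl_gf (LP (LK LD1_c3 LD2_c31 LD3_c23)) = (LP (LK LD1_c1 LD2_c47 LD3_c34)) :=
  Lgr Lrot129 (Lpe (f458991 IH) (Lpe (f459285 IH) (Lpe (f459182 IH) (Lpr_bf (f468308 IH) (Lpe (f468310 IH) (Lpr_gt (f468919 IH) (Lpe (f15832 IH) (Lpr_bt (f463395 IH) (Lpr_gt (f464585 IH) (Lpe (f116477 IH) (Lpn (LP (LK LD1_c1 LD2_c47 LD3_c34)))))))))))))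
theorem f459009 : Led Lsl_et (LP (LK LD1_c7 LD2_c4 LD3_c29)) = (LP (LK LD1_c3 LD2_c31 LD3_c23)) :=
  Lre_e IH (LK LD1_c7 LD2_c4 LD3_c29) (LK LD1_c3 LD2_c31 LD3_c23) Lrfl Lrfl
theorem f124012 : Led Lsl_et (LP (LK LD1_c0 LD2_c50 LD3_c33)) = (LP (LK LD1_c1 LD2_c47 LD3_c34)) :=
  Lre_e IH (LK LD1_c0 LD2_c50 LD3_c33) (LK LD1_c1 LD2_c47 LD3_c34) Lrfl Lrfl
theorem f11814 : Led Lsl_et (LP (LK LD1_c1 LD2_c54 LD3_c8)) = (LP (LK LD1_c0 LD2_c53 LD3_c39)) :=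
  Lre_e IH (LK LD1_c1 LD2_c54 LD3_c8) (LK LD1_c0 LD2_c53 LD3_c39) Lrfl Lrfl
theorem f11673 : Led Lsl_gt (LP (LK LD1_c7 LD2_c51 LD3_c52)) = (LP (LK LD1_c3 LD2_c55 LD3_c5)) :=
  Lre_g IH (LK LD1_c7 LD2_c51 LD3_c52) (LK LD1_c3 LD2_c55 LD3_c5) Lrfl Lrfl
theorem f469139 : Led Lsl_dt (LP (LK LD1_c7 LD2_c4 LD3_c29)) = (LP (LK LD1_c7 LD2_c51 LD3_c52)) :=
  Lgr Lrot136 (Lpr_et (f459009 IH) (Lpr_gf (f469128 IH) (Lpe (f124012 IH) (Lpr_dt (K6.f12900 IH) (Lpe (K7.f146876 IH) (Lpe (K6.f11654 IH) (Lpe (K2.f11523 IH) (Lpe (f11814 IH) (Lpr_dt (K8.f11812 IH) (Lpe (f11673 IH) (Lpn (LP (LK LD1_c7 LD2_c51 LD3_c52)))))))))))))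
theorem f469146 : Led Lsl_df (LP (LK LD1_c7 LD2_c4 LD3_c29)) = (LP (LK LD1_c7 LD2_c51 LD3_c52)) :=
  Lgr Lrot38 (Lpr_dt (f469139 IH) (Lpn (LP (LK LD1_c7 LD2_c51 LD3_c52))))
theorem f458232 : Led Lsl_at (LP (LK LD1_c7 LD2_c4 LD3_c29)) = (LP (LK LD1_c3 LD2_c31 LD3_c29)) :=
  Lre_a IH (LK LD1_c7 LD2_c4 LD3_c29) (LK LD1_c3 LD2_c31 LD3_c29) Lrfl Lrfl
theorem f470295 : Led Lsl_at (LP (LK LD1_c7 LD2_c4 LD3_c41)) = (LP (LK LD1_c7 LD2_c51 LD3_c52)) :=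
  Lgr Lrot51 (Lpe (f458318 IH) (Lpe (f458232 IH) (Lpr_df (f469146 IH) (Lpn (LP (LK LD1_c7 LD2_c51 LD3_c52))))))
theorem f160048 : Led Lsl_at (LP (LK LD1_c3 LD2_c54 LD3_c6)) = (LP (LK LD1_c3 LD2_c55 LD3_c5)) :=
  Lgr Lrot100 (Lpr_af (K8.f160040 IH) (Lpn (LP (LK LD1_c3 LD2_c55 LD3_c5))))
theorem f95885 : Led Lsl_ft (LP (LK LD1_c7 LD2_c49 LD3_c51)) = (LP (LK LD1_c3 LD2_c54 LD3_c6)) :=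
  Lre_f IH (LK LD1_c7 LD2_c49 LD3_c51) (LK LD1_c3 LD2_c54 LD3_c6) Lrfl Lrfl
theorem f160524 : Led Lsl_gt (LP (LK LD1_c7 LD2_c49 LD3_c51)) = (LP (LK LD1_c7 LD2_c51 LD3_c52)) :=
  Lgr Lrot5 (Lpr_ft (f95885 IH) (Lpr_at (f160048 IH) (Lpe (f11673 IH) (Lpn (LP (LK LD1_c7 LD2_c51 LD3_c52))))))
theorem f160031 : Led Lsl_af (LP (LK LD1_c7 LD2_c49 LD3_c51)) = (LP (LK LD1_c7 LD2_c51 LD3_c54)) :=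
  Lgr Lrot0 (Lpr_at (K8.f160029 IH) (Lpn (LP (LK LD1_c7 LD2_c51 LD3_c54))))
theorem f11671 : Led Lsl_ft (LP (LK LD1_c3 LD2_c55 LD3_c5)) = (LP (LK LD1_c7 LD2_c51 LD3_c54)) :=
  Lre_f IH (LK LD1_c3 LD2_c55 LD3_c5) (LK LD1_c7 LD2_c51 LD3_c54) Lrfl Lrfl
theorem f142318 : Led Lsl_gt (LP (LK LD1_c3 LD2_c55 LD3_c5)) = (LP (LK LD1_c7 LD2_c51 LD3_c51)) :=
  Lre_g IH (LK LD1_c3 LD2_c55 LD3_c5) (LK LD1_c7 LD2_c51 LD3_c51) Lrfl Lrfl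
theorem f160536 : Led Lsl_gf (LP (LK LD1_c7 LD2_c49 LD3_c51)) = (LP (LK LD1_c7 LD2_c51 LD3_c51)) :=
  Lgr Lrot76 (Lpr_af (f160031 IH) (Lpe (f11671 IH) (Lpr_gt (f142318 IH) (Lpn (LP (LK LD1_c7 LD2_c51 LD3_c51))))))
theorem f470307 : Led Lsl_ff (LP (LK LD1_c7 LD2_c4 LD3_c41)) = (LP (LK LD1_c7 LD2_c51 LD3_c51)) :=
  Lgr Lrot52 (Lpr_at (f470295 IH) (Lpe (f160524 IH) (Lpr_gf (f160536 IH) (Lpn (LP (LK LD1_c7 LD2_c51 LD3_c51))))))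
theorem f458315 : Led Lsl_bf (LP (LK LD1_c7 LD2_c5 LD3_c9)) = (LP (LK LD1_c7 LD2_c4 LD3_c41)) :=
  Lgr Lrot24 (Lpr_bt (f458238 IH) (Lpn (LP (LK LD1_c7 LD2_c4 LD3_c41))))
theorem f470309 : Led Lsl_bt (LP (LK LD1_c7 LD2_c4 LD3_c45)) = (LP (LK LD1_c7 LD2_c51 LD3_c51)) :=
  Lgr Lrot35 (Lpe (K24.f458941 IH) (Lpr_bf (f458315 IH) (Lpr_ff (f470307 IH) (Lpn (LP (LK LD1_c7 LD2_c51 LD3_c51))))))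
theorem f458994 : Led Lsl_ff (LP (LK LD1_c3 LD2_c31 LD3_c38)) = (LP (LK LD1_c3 LD2_c31 LD3_c23)) :=
  Lgr Lrot23 (Lpr_ct (f455769 IH) (Lpr_ft (f458987 IH) (Lpr_ct (f458991 IH) (Lpn (LP (LK LD1_c3 LD2_c31 LD3_c23))))))
theorem f459001 : Led Lsl_at (LP (LK LD1_c3 LD2_c31 LD3_c38)) = (LP (LK LD1_c1 LD2_c42 LD3_c26)) :=
  Lre_a IH (LK LD1_c3 LD2_c31 LD3_c38) (LK LD1_c1 LD2_c42 LD3_c26) Lrfl Lrfl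
theorem f455599 : Led Lsl_gt (LP (LK LD1_c3 LD2_c31 LD3_c41)) = (LP (LK LD1_c1 LD2_c42 LD3_c26)) :=
  Lre_g IH (LK LD1_c3 LD2_c31 LD3_c41) (LK LD1_c1 LD2_c42 LD3_c26) Lrfl Lrfl
theorem f459010 : Led Lsl_gf (LP (LK LD1_c3 LD2_c31 LD3_c41)) = (LP (LK LD1_c3 LD2_c31 LD3_c23)) :=
  Lgr Lrot47 (Lpr_gt (f455599 IH) (Lpe (f459001 IH) (Lpr_ff (f458994 IH) (Lpn (LP (LK LD1_c3 LD2_c31 LD3_c23))))))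
theorem f455756 : Led Lsl_dt (LP (LK LD1_c3 LD2_c31 LD3_c41)) = (LP (LK LD1_c7 LD2_c4 LD3_c58)) :=
  Lre_d IH (LK LD1_c3 LD2_c31 LD3_c41) (LK LD1_c7 LD2_c4 LD3_c58) Lrfl Lrfl
theorem f121215 : Led Lsl_ft (LP (LK LD1_c0 LD2_c53 LD3_c38)) = (LP (LK LD1_c0 LD2_c53 LD3_c25)) :=
  Lgr Lrot4 (Lpe (K4.f121010 IH) (Lpr_ff (K4.f121213 IH) (Lpr_cf (K4.f95854 IH) (Lpn (LP (LK LD1_c0 LD2_c53 LD3_c25))))))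
theorem f95884 : Led Lsl_ft (LP (LK LD1_c1 LD2_c53 LD3_c41)) = (LP (LK LD1_c3 LD2_c54 LD3_c7)) :=
  Lre_f IH (LK LD1_c1 LD2_c53 LD3_c41) (LK LD1_c3 LD2_c54 LD3_c7) Lrfl Lrfl
theorem f463017 : Led Lsl_ef (LP (LK LD1_c1 LD2_c54 LD3_c51)) = (LP (LK LD1_c3 LD2_c54 LD3_c7)) :=
  Lgr Lrot21 (Lpr_ft (f462943 IH) (Lpr_et (K24.f121012 IH) (Lpr_ft (f121215 IH) (Lpr_et (K5.f95856 IH) (Lpr_ft (f95884 IH) (Lpn (LP (LK LD1_c3 LD2_c54 LD3_c7))))))))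
theorem f469151 : Led Lsl_gt (LP (LK LD1_c7 LD2_c4 LD3_c58)) = (LP (LK LD1_c3 LD2_c56 LD3_c23)) :=
  Lgr Lrot139 (Lpe (f455756 IH) (Lpr_gf (f459010 IH) (Lpe (f459009 IH) (Lpr_dt (f469139 IH) (Lpe (f160524 IH) (Lpe (K8.f95877 IH) (Lpe (f463017 IH) (Lpe (f451257 IH) (Lpe (f451832 IH) (Lpr_dt (f11380 IH) (Lpn (LP (LK LD1_c3 LD2_c56 LD3_c23)))))))))))))
theorem f469160 : Led Lsl_et (LP (LK LD1_c3 LD2_c31 LD3_c41)) = (LP (LK LD1_c3 LD2_c41 LD3_c24)) :=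
  Lgr Lrot122 (Lpr_dt (f455756 IH) (Lpr_gt (f469151 IH) (Lpe (f11380 IH) (Lpr_et (f451832 IH) (Lpr_gt (f451257 IH) (Lpr_dt (f451836 IH) (Lpr_gt (f463053 IH) (Lpe (f463519 IH) (Lpe (f463490 IH) (Lpr_gt (f463540 IH) (Lpn (LP (LK LD1_c3 LD2_c41 LD3_c24)))))))))))))
theorem f147432 : Led Lsl_et (LP (LK LD1_c1 LD2_c47 LD3_c37)) = (LP (LK LD1_c0 LD2_c50 LD3_c34)) :=
  Lre_e IH (LK LD1_c1 LD2_c47 LD3_c37) (LK LD1_c0 LD2_c50 LD3_c34) Lrfl Lrfl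
theorem f108226 : Led Lsl_ft (LP (LK LD1_c0 LD2_c48 LD3_c60)) = (LP (LK LD1_c0 LD2_c47 LD3_c58)) :=
  Lgr Lrot75 (Lpe (K3.f108208 IH) (Lpr_ff (K3.f108224 IH) (Lpe (K7.f94423 IH) (Lpn (LP (LK LD1_c0 LD2_c47 LD3_c58))))))
theorem f124033 : Led Lsl_ft (LP (LK LD1_c0 LD2_c50 LD3_c34)) = (LP (LK LD1_c0 LD2_c51 LD3_c19)) :=
  Lgr Lrot4 (Lpr_cf (K4.f124019 IH) (Lpe (f108226 IH) (Lpr_cf (K4.f116119 IH) (Lpn (LP (LK LD1_c0 LD2_c51 LD3_c19))))))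
theorem f469168 : Led Lsl_ff (LP (LK LD1_c3 LD2_c31 LD3_c41)) = (LP (LK LD1_c1 LD2_c49 LD3_c5)) :=
  Lgr Lrot72 (Lpr_et (f469160 IH) (Lpr_ft (K8.f146931 IH) (Lpr_et (f147432 IH) (Lpr_ft (f124033 IH) (Lpr_et (K4.f116151 IH) (Lpn (LP (LK LD1_c1 LD2_c49 LD3_c5))))))))
theorem f469177 : Led Lsl_ft (LP (LK LD1_c3 LD2_c31 LD3_c41)) = (LP (LK LD1_c1 LD2_c49 LD3_c5)) :=
  Lgr Lrot48 (Lpr_ff (f469168 IH) (Lpn (LP (LK LD1_c1 LD2_c49 LD3_c5))))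
theorem f459012 : Led Lsl_ct (LP (LK LD1_c7 LD2_c4 LD3_c58)) = (LP (LK LD1_c13 LD2_c25 LD3_c33)) :=
  Lre_c IH (LK LD1_c7 LD2_c4 LD3_c58) (LK LD1_c13 LD2_c25 LD3_c33) Lrfl Lrfl
theorem f469183 : Led Lsl_dt (LP (LK LD1_c13 LD2_c25 LD3_c33)) = (LP (LK LD1_c7 LD2_c51 LD3_c42)) :=
  Lgr Lrot32 (Lpe (f459012 IH) (Lpe (f455756 IH) (Lpr_ft (f469177 IH) (Lpe (K4.f116276 IH) (Lpr_cf (f116477 IH) (Lpe (K5.f128067 IH) (Lpr_cf (f121199 IH) (Lpe (f121069 IH) (Lpe (f121062 IH) (Lpn (LP (LK LD1_c7 LD2_c51 LD3_c42))))))))))))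
theorem f116404 : Led Lsl_ct (LP (LK LD1_c3 LD2_c41 LD3_c16)) = (LP (LK LD1_c7 LD2_c22 LD3_c60)) :=
  Lre_c IH (LK LD1_c3 LD2_c41 LD3_c16) (LK LD1_c7 LD2_c22 LD3_c60) Lrfl Lrfl
theorem f116297 : Led Lsl_ct (LP (LK LD1_c7 LD2_c22 LD3_c60)) = (LP (LK LD1_c3 LD2_c41 LD3_c16)) :=
  Lre_c IH (LK LD1_c7 LD2_c22 LD3_c60) (LK LD1_c3 LD2_c41 LD3_c16) Lrfl Lrfl
theorem f116141 : Led Lsl_ct (LP (LK LD1_c3 LD2_c44 LD3_c5)) = (LP (LK LD1_c7 LD2_c29 LD3_c1)) :=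
  Lre_c IH (LK LD1_c3 LD2_c44 LD3_c5) (LK LD1_c7 LD2_c29 LD3_c1) Lrfl Lrfl
theorem f116298 : Led Lsl_af (LP (LK LD1_c7 LD2_c22 LD3_c60)) = (LP (LK LD1_c7 LD2_c29 LD3_c1)) :=
  Lgr Lrot68 (Lpr_ct (f116297 IH) (Lpr_at (K4.f116287 IH) (Lpr_ct (f116141 IH) (Lpn (LP (LK LD1_c7 LD2_c29 LD3_c1))))))
theorem f469198 : Led Lsl_ft (LP (LK LD1_c13 LD2_c25 LD3_c33)) = (LP (LK LD1_c7 LD2_c29 LD3_c1)) :=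
  Lgr Lrot142 (Lpr_dt (f469183 IH) (Lpr_ct (f121062 IH) (Lpr_dt (f121069 IH) (Lpe (f121199 IH) (Lpr_dt (K5.f128067 IH) (Lpe (f116477 IH) (Lpr_dt (K4.f116286 IH) (Lpr_ct (f116404 IH) (Lpr_af (f116298 IH) (Lpn (LP (LK LD1_c7 LD2_c29 LD3_c1))))))))))))
theorem f469192 : Led Lsl_et (LP (LK LD1_c22 LD2_c44 LD3_c35)) = (LP (LK LD1_c13 LD2_c25 LD3_c33)) :=
  Lre_e IH (LK LD1_c22 LD2_c44 LD3_c35) (LK LD1_c13 LD2_c25 LD3_c33) Lrfl Lrfl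
theorem f469203 : Led Lsl_ft (LP (LK LD1_c30 LD2_c41 LD3_c51)) = (LP (LK LD1_c22 LD2_c44 LD3_c35)) :=
  Lre_f IH (LK LD1_c30 LD2_c41 LD3_c51) (LK LD1_c22 LD2_c44 LD3_c35) Lrfl Lrfl
theorem f116392 : Led Lsl_et (LP (LK LD1_c7 LD2_c29 LD3_c1)) = (LP (LK LD1_c14 LD2_c7 LD3_c35)) :=
  Lre_e IH (LK LD1_c7 LD2_c29 LD3_c1) (LK LD1_c14 LD2_c7 LD3_c35) Lrfl Lrfl
theorem f116382 : Led Lsl_ft (LP (LK LD1_c14 LD2_c7 LD3_c35)) = (LP (LK LD1_c23 LD2_c42 LD3_c2)) :=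
  Lre_f IH (LK LD1_c14 LD2_c7 LD3_c35) (LK LD1_c23 LD2_c42 LD3_c2) Lrfl Lrfl
theorem f469204 : Led Lsl_ef (LP (LK LD1_c30 LD2_c41 LD3_c51)) = (LP (LK LD1_c23 LD2_c42 LD3_c2)) :=
  Lgr Lrot21 (Lpr_ft (f469203 IH) (Lpr_et (f469192 IH) (Lpr_ft (f469198 IH) (Lpr_et (f116392 IH) (Lpr_ft (f116382 IH) (Lpn (LP (LK LD1_c23 LD2_c42 LD3_c2))))))))
theorem f469209 : Led Lsl_et (LP (LK LD1_c30 LD2_c41 LD3_c51)) = (LP (LK LD1_c23 LD2_c42 LD3_c2)) :=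
  Lgr Lrot87 (Lpr_ef (f469204 IH) (Lpn (LP (LK LD1_c23 LD2_c42 LD3_c2))))
theorem f469211 : Led Lsl_ct (LP (LK LD1_c22 LD2_c44 LD3_c38)) = (LP (LK LD1_c30 LD2_c41 LD3_c51)) :=
  Lre_c IH (LK LD1_c22 LD2_c44 LD3_c38) (LK LD1_c30 LD2_c41 LD3_c51) Lrfl Lrfl
theorem f116106 : Led Lsl_ct (LP (LK LD1_c23 LD2_c42 LD3_c2)) = (LP (LK LD1_c14 LD2_c7 LD3_c36)) :=
  Lre_c IH (LK LD1_c23 LD2_c42 LD3_c2) (LK LD1_c14 LD2_c7 LD3_c36) Lrfl Lrfl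
theorem f469212 : Led Lsl_ef (LP (LK LD1_c22 LD2_c44 LD3_c38)) = (LP (LK LD1_c14 LD2_c7 LD3_c36)) :=
  Lgr Lrot28 (Lpr_ct (f469211 IH) (Lpr_et (f469209 IH) (Lpr_ct (f116106 IH) (Lpn (LP (LK LD1_c14 LD2_c7 LD3_c36))))))
theorem f116108 : Led Lsl_dt (LP (LK LD1_c7 LD2_c28 LD3_c61)) = (LP (LK LD1_c14 LD2_c7 LD3_c36)) :=
  Lre_d IH (LK LD1_c7 LD2_c28 LD3_c61) (LK LD1_c14 LD2_c7 LD3_c36) Lrfl Lrfl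
theorem f147005 : Led Lsl_dt (LP (LK LD1_c13 LD2_c58 LD3_c7)) = (LP (LK LD1_c7 LD2_c23 LD3_c15)) :=
  Lre_d IH (LK LD1_c13 LD2_c58 LD3_c7) (LK LD1_c7 LD2_c23 LD3_c15) Lrfl Lrfl
theorem f123876 : Led Lsl_dt (LP (LK LD1_c7 LD2_c28 LD3_c46)) = (LP (LK LD1_c14 LD2_c7 LD3_c11)) :=
  Lre_d IH (LK LD1_c7 LD2_c28 LD3_c46) (LK LD1_c14 LD2_c7 LD3_c11) Lrfl Lrfl
theorem f147006 : Led Lsl_at (LP (LK LD1_c7 LD2_c23 LD3_c15)) = (LP (LK LD1_c7 LD2_c28 LD3_c46)) :=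
  Lgr Lrot51 (Lpe (f147005 IH) (Lpr_af (K8.f146991 IH) (Lpe (f123876 IH) (Lpn (LP (LK LD1_c7 LD2_c28 LD3_c46))))))
theorem f147366 : Led Lsl_af (LP (LK LD1_c7 LD2_c23 LD3_c15)) = (LP (LK LD1_c7 LD2_c28 LD3_c46)) :=
  Lgr Lrot0 (Lpr_at (f147006 IH) (Lpn (LP (LK LD1_c7 LD2_c28 LD3_c46))))
theorem f116346 : Led Lsl_bt (LP (LK LD1_c13 LD2_c57 LD3_c17)) = (LP (LK LD1_c7 LD2_c22 LD3_c58)) :=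
  Lre_b IH (LK LD1_c13 LD2_c57 LD3_c17) (LK LD1_c7 LD2_c22 LD3_c58) Lrfl Lrfl
theorem f123845 : Led Lsl_bt (LP (LK LD1_c7 LD2_c28 LD3_c46)) = (LP (LK LD1_c14 LD2_c6 LD3_c54)) :=
  Lre_b IH (LK LD1_c7 LD2_c28 LD3_c46) (LK LD1_c14 LD2_c6 LD3_c54) Lrfl Lrfl
theorem f123846 : Led Lsl_et (LP (LK LD1_c7 LD2_c22 LD3_c58)) = (LP (LK LD1_c7 LD2_c28 LD3_c46)) :=
  Lgr Lrot74 (Lpe (f116346 IH) (Lpr_ef (K5.f123710 IH) (Lpe (f123845 IH) (Lpn (LP (LK LD1_c7 LD2_c28 LD3_c46))))))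
theorem f147375 : Led Lsl_et (LP (LK LD1_c7 LD2_c23 LD3_c15)) = (LP (LK LD1_c7 LD2_c28 LD3_c61)) :=
  Lgr Lrot123 (Lpr_af (f147366 IH) (Lpe (f123846 IH) (Lpr_af (K6.f116329 IH) (Lpn (LP (LK LD1_c7 LD2_c28 LD3_c61))))))
theorem f147024 : Led Lsl_et (LP (LK LD1_c23 LD2_c30 LD3_c14)) = (LP (LK LD1_c13 LD2_c58 LD3_c7)) :=
  Lre_e IH (LK LD1_c23 LD2_c30 LD3_c14) (LK LD1_c13 LD2_c58 LD3_c7) Lrfl Lrfl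
theorem f469217 : Led Lsl_dt (LP (LK LD1_c22 LD2_c44 LD3_c38)) = (LP (LK LD1_c23 LD2_c30 LD3_c14)) :=
  Lgr Lrot77 (Lpr_ef (f469212 IH) (Lpe (f116108 IH) (Lpe (f147375 IH) (Lpe (f147005 IH) (Lpe (f147024 IH) (Lpn (LP (LK LD1_c23 LD2_c30 LD3_c14))))))))
theorem f469222 : Led Lsl_df (LP (LK LD1_c22 LD2_c44 LD3_c38)) = (LP (LK LD1_c23 LD2_c30 LD3_c14)) :=
  Lgr Lrot38 (Lpr_dt (f469217 IH) (Lpn (LP (LK LD1_c23 LD2_c30 LD3_c14))))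
theorem f469219 : Led Lsl_ft (LP (LK LD1_c22 LD2_c44 LD3_c38)) = (LP (LK LD1_c13 LD2_c25 LD3_c34)) :=
  Lre_f IH (LK LD1_c22 LD2_c44 LD3_c38) (LK LD1_c13 LD2_c25 LD3_c34) Lrfl Lrfl
theorem f469225 : Led Lsl_dt (LP (LK LD1_c13 LD2_c25 LD3_c34)) = (LP (LK LD1_c13 LD2_c58 LD3_c14)) :=
  Lgr Lrot60 (Lpe (f469219 IH) (Lpr_df (f469222 IH) (Lpe (K8.f146970 IH) (Lpn (LP (LK LD1_c13 LD2_c58 LD3_c14))))))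
theorem f469229 : Led Lsl_bt (LP (LK LD1_c22 LD2_c44 LD3_c33)) = (LP (LK LD1_c13 LD2_c25 LD3_c34)) :=
  Lre_b IH (LK LD1_c22 LD2_c44 LD3_c33) (LK LD1_c13 LD2_c25 LD3_c34) Lrfl Lrfl
theorem f146964 : Led Lsl_bt (LP (LK LD1_c13 LD2_c58 LD3_c14)) = (LP (LK LD1_c23 LD2_c29 LD3_c61)) :=
  Lre_b IH (LK LD1_c13 LD2_c58 LD3_c14) (LK LD1_c23 LD2_c29 LD3_c61) Lrfl Lrfl
theorem f469230 : Led Lsl_df (LP (LK LD1_c22 LD2_c44 LD3_c33)) = (LP (LK LD1_c23 LD2_c29 LD3_c61)) :=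
  Lgr Lrot12 (Lpr_bt (f469229 IH) (Lpr_dt (f469225 IH) (Lpr_bt (f146964 IH) (Lpn (LP (LK LD1_c23 LD2_c29 LD3_c61))))))
theorem f469238 : Led Lsl_et (LP (LK LD1_c22 LD2_c44 LD3_c33)) = (LP (LK LD1_c13 LD2_c25 LD3_c32)) :=
  Lre_e IH (LK LD1_c22 LD2_c44 LD3_c33) (LK LD1_c13 LD2_c25 LD3_c32) Lrfl Lrfl
theorem f469239 : Led Lsl_dt (LP (LK LD1_c13 LD2_c25 LD3_c32)) = (LP (LK LD1_c7 LD2_c4 LD3_c57)) :=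
  Lre_d IH (LK LD1_c13 LD2_c25 LD3_c32) (LK LD1_c7 LD2_c4 LD3_c57) Lrfl Lrfl
theorem f469240 : Led Lsl_et (LP (LK LD1_c13 LD2_c57 LD3_c61)) = (LP (LK LD1_c23 LD2_c29 LD3_c61)) :=
  Lre_e IH (LK LD1_c13 LD2_c57 LD3_c61) (LK LD1_c23 LD2_c29 LD3_c61) Lrfl Lrfl
theorem f147291 : Led Lsl_dt (LP (LK LD1_c7 LD2_c23 LD3_c11)) = (LP (LK LD1_c13 LD2_c57 LD3_c61)) :=
  Lre_d IH (LK LD1_c7 LD2_c23 LD3_c11) (LK LD1_c13 LD2_c57 LD3_c61) Lrfl Lrfl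
theorem f469241 : Led Lsl_et (LP (LK LD1_c7 LD2_c4 LD3_c57)) = (LP (LK LD1_c7 LD2_c23 LD3_c11)) :=
  Lgr Lrot71 (Lpe (f469239 IH) (Lpe (f469238 IH) (Lpr_df (f469230 IH) (Lpe (f469240 IH) (Lpe (f147291 IH) (Lpn (LP (LK LD1_c7 LD2_c23 LD3_c11))))))))
theorem f469251 : Led Lsl_cf (LP (LK LD1_c7 LD2_c4 LD3_c57)) = (LP (LK LD1_c7 LD2_c12 LD3_c6)) :=
  Lgr Lrot39 (Lpr_et (f469241 IH) (Lpe (f147289 IH) (Lpe (K24.f108255 IH) (Lpn (LP (LK LD1_c7 LD2_c12 LD3_c6))))))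
theorem f469259 : Led Lsl_ct (LP (LK LD1_c7 LD2_c4 LD3_c57)) = (LP (LK LD1_c7 LD2_c12 LD3_c6)) :=
  Lgr Lrot59 (Lpr_cf (f469251 IH) (Lpn (LP (LK LD1_c7 LD2_c12 LD3_c6))))
theorem f469248 : Led Lsl_at (LP (LK LD1_c13 LD2_c25 LD3_c31)) = (LP (LK LD1_c7 LD2_c4 LD3_c57)) :=
  Lre_a IH (LK LD1_c13 LD2_c25 LD3_c31) (LK LD1_c7 LD2_c4 LD3_c57) Lrfl Lrfl
theorem f108263 : Led Lsl_at (LP (LK LD1_c7 LD2_c12 LD3_c6)) = (LP (LK LD1_c13 LD2_c38 LD3_c14)) :=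
  Lre_a IH (LK LD1_c7 LD2_c12 LD3_c6) (LK LD1_c13 LD2_c38 LD3_c14) Lrfl Lrfl
theorem f469267 : Led Lsl_cf (LP (LK LD1_c13 LD2_c25 LD3_c31)) = (LP (LK LD1_c13 LD2_c38 LD3_c14)) :=
  Lgr Lrot1 (Lpr_at (f469248 IH) (Lpr_ct (f469259 IH) (Lpr_at (f108263 IH) (Lpn (LP (LK LD1_c13 LD2_c38 LD3_c14))))))
theorem f116251 : Led Lsl_ft (LP (LK LD1_c7 LD2_c12 LD3_c2)) = (LP (LK LD1_c13 LD2_c38 LD3_c14)) :=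
  Lre_f IH (LK LD1_c7 LD2_c12 LD3_c2) (LK LD1_c13 LD2_c38 LD3_c14) Lrfl Lrfl
theorem f108614 : Led Lsl_at (LP (LK LD1_c7 LD2_c12 LD3_c2)) = (LP (LK LD1_c3 LD2_c35 LD3_c44)) :=
  Lre_a IH (LK LD1_c7 LD2_c12 LD3_c2) (LK LD1_c3 LD2_c35 LD3_c44) Lrfl Lrfl
theorem f116157 : Led Lsl_at (LP (LK LD1_c3 LD2_c44 LD3_c3)) = (LP (LK LD1_c7 LD2_c28 LD3_c54)) :=
  Lre_a IH (LK LD1_c3 LD2_c44 LD3_c3) (LK LD1_c7 LD2_c28 LD3_c54) Lrfl Lrfl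
theorem f116158 : Led Lsl_cf (LP (LK LD1_c7 LD2_c12 LD3_c2)) = (LP (LK LD1_c7 LD2_c28 LD3_c54)) :=
  Lgr Lrot1 (Lpr_at (f108614 IH) (Lpr_ct (K4.f116149 IH) (Lpr_at (f116157 IH) (Lpn (LP (LK LD1_c7 LD2_c28 LD3_c54))))))
theorem f469361 : Led Lsl_ft (LP (LK LD1_c13 LD2_c25 LD3_c31)) = (LP (LK LD1_c7 LD2_c28 LD3_c54)) :=
  Lgr Lrot4 (Lpr_cf (f469267 IH) (Lpe (f116251 IH) (Lpr_cf (f116158 IH) (Lpn (LP (LK LD1_c7 LD2_c28 LD3_c54))))))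
theorem f469369 : Led Lsl_ff (LP (LK LD1_c13 LD2_c25 LD3_c31)) = (LP (LK LD1_c7 LD2_c28 LD3_c54)) :=
  Lgr Lrot3 (Lpr_ft (f469361 IH) (Lpn (LP (LK LD1_c7 LD2_c28 LD3_c54))))
theorem f116281 : Led Lsl_at (LP (LK LD1_c3 LD2_c41 LD3_c14)) = (LP (LK LD1_c7 LD2_c22 LD3_c47)) :=
  Lre_a IH (LK LD1_c3 LD2_c41 LD3_c14) (LK LD1_c7 LD2_c22 LD3_c47) Lrfl Lrfl
theorem f116170 : Led Lsl_at (LP (LK LD1_c7 LD2_c28 LD3_c54)) = (LP (LK LD1_c3 LD2_c44 LD3_c3)) :=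
  Lre_a IH (LK LD1_c7 LD2_c28 LD3_c54) (LK LD1_c3 LD2_c44 LD3_c3) Lrfl Lrfl
theorem f116282 : Led Lsl_bt (LP (LK LD1_c7 LD2_c22 LD3_c47)) = (LP (LK LD1_c7 LD2_c28 LD3_c54)) :=
  Lgr Lrot62 (Lpe (f116281 IH) (Lpe (f116280 IH) (Lpr_af (K4.f116276 IH) (Lpe (K4.f116148 IH) (Lpe (f116170 IH) (Lpn (LP (LK LD1_c7 LD2_c28 LD3_c54))))))))
theorem f466328 : Led Lsl_at (LP (LK LD1_c7 LD2_c4 LD3_c31)) = (LP (LK LD1_c13 LD2_c24 LD3_c48)) :=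
  Lre_a IH (LK LD1_c7 LD2_c4 LD3_c31) (LK LD1_c13 LD2_c24 LD3_c48) Lrfl Lrfl
theorem f466329 : Led Lsl_ff (LP (LK LD1_c7 LD2_c22 LD3_c47)) = (LP (LK LD1_c13 LD2_c24 LD3_c48)) :=
  Lgr Lrot30 (Lpr_at (f116443 IH) (Lpr_ft (f466318 IH) (Lpr_at (f466328 IH) (Lpn (LP (LK LD1_c13 LD2_c24 LD3_c48))))))
theorem f469378 : Led Lsl_bt (LP (LK LD1_c13 LD2_c25 LD3_c31)) = (LP (LK LD1_c13 LD2_c24 LD3_c48)) :=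
  Lgr Lrot35 (Lpr_ff (f469369 IH) (Lpe (f116282 IH) (Lpr_ff (f466329 IH) (Lpn (LP (LK LD1_c13 LD2_c24 LD3_c48))))))
theorem f469363 : Led Lsl_dt (LP (LK LD1_c22 LD2_c44 LD3_c29)) = (LP (LK LD1_c13 LD2_c25 LD3_c31)) :=
  Lre_d IH (LK LD1_c22 LD2_c44 LD3_c29) (LK LD1_c13 LD2_c25 LD3_c31) Lrfl Lrfl
theorem f466342 : Led Lsl_dt (LP (LK LD1_c13 LD2_c24 LD3_c48)) = (LP (LK LD1_c22 LD2_c43 LD3_c6)) :=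
  Lre_d IH (LK LD1_c13 LD2_c24 LD3_c48) (LK LD1_c22 LD2_c43 LD3_c6) Lrfl Lrfl
theorem f469489 : Led Lsl_bf (LP (LK LD1_c22 LD2_c44 LD3_c29)) = (LP (LK LD1_c22 LD2_c43 LD3_c6)) :=
  Lgr Lrot93 (Lpr_dt (f469363 IH) (Lpr_bt (f469378 IH) (Lpr_dt (f466342 IH) (Lpn (LP (LK LD1_c22 LD2_c43 LD3_c6))))))
theorem f469494 : Led Lsl_bt (LP (LK LD1_c22 LD2_c44 LD3_c29)) = (LP (LK LD1_c22 LD2_c43 LD3_c6)) :=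
  Lgr Lrot127 (Lpr_bf (f469489 IH) (Lpn (LP (LK LD1_c22 LD2_c43 LD3_c6))))
theorem f469422 : Led Lsl_at (LP (LK LD1_c13 LD2_c25 LD3_c32)) = (LP (LK LD1_c22 LD2_c44 LD3_c29)) :=
  Lre_a IH (LK LD1_c13 LD2_c25 LD3_c32) (LK LD1_c22 LD2_c44 LD3_c29) Lrfl Lrfl
theorem f469452 : Led Lsl_bt (LP (LK LD1_c7 LD2_c4 LD3_c58)) = (LP (LK LD1_c13 LD2_c25 LD3_c32)) :=
  Lre_b IH (LK LD1_c7 LD2_c4 LD3_c58) (LK LD1_c13 LD2_c25 LD3_c32) Lrfl Lrfl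
theorem f469498 : Led Lsl_at (LP (LK LD1_c22 LD2_c43 LD3_c6)) = (LP (LK LD1_c13 LD2_c24 LD3_c49)) :=
  Lre_a IH (LK LD1_c22 LD2_c43 LD3_c6) (LK LD1_c13 LD2_c24 LD3_c49) Lrfl Lrfl
theorem f466362 : Led Lsl_bt (LP (LK LD1_c13 LD2_c24 LD3_c49)) = (LP (LK LD1_c7 LD2_c4 LD3_c33)) :=
  Lre_b IH (LK LD1_c13 LD2_c24 LD3_c49) (LK LD1_c7 LD2_c4 LD3_c33) Lrfl Lrfl
theorem f469502 : Led Lsl_af (LP (LK LD1_c7 LD2_c4 LD3_c58)) = (LP (LK LD1_c7 LD2_c4 LD3_c33)) :=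
  Lgr Lrot36 (Lpr_bt (f469452 IH) (Lpr_at (f469422 IH) (Lpr_bt (f469494 IH) (Lpr_at (f469498 IH) (Lpr_bt (f466362 IH) (Lpn (LP (LK LD1_c7 LD2_c4 LD3_c33))))))))
theorem f116289 : Led Lsl_af (LP (LK LD1_c3 LD2_c41 LD3_c16)) = (LP (LK LD1_c3 LD2_c44 LD3_c5)) :=
  Lgr Lrot0 (Lpr_at (K4.f116287 IH) (Lpn (LP (LK LD1_c3 LD2_c44 LD3_c5))))
theorem f469153 : Led Lsl_ft (LP (LK LD1_c7 LD2_c4 LD3_c58)) = (LP (LK LD1_c3 LD2_c44 LD3_c5)) :=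
  Lgr Lrot2 (Lpr_gt (f469151 IH) (Lpr_gt (f462873 IH) (Lpr_af (f116289 IH) (Lpn (LP (LK LD1_c3 LD2_c44 LD3_c5))))))
theorem f469509 : Led Lsl_ft (LP (LK LD1_c3 LD2_c41 LD3_c16)) = (LP (LK LD1_c7 LD2_c4 LD3_c33)) :=
  Lgr Lrot101 (Lpr_af (f116289 IH) (Lpe (f469153 IH) (Lpr_af (f469502 IH) (Lpn (LP (LK LD1_c7 LD2_c4 LD3_c33))))))
theorem f466166 : Led Lsl_ct (LP (LK LD1_c7 LD2_c4 LD3_c33)) = (LP (LK LD1_c13 LD2_c24 LD3_c50)) :=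
  Lre_c IH (LK LD1_c7 LD2_c4 LD3_c33) (LK LD1_c13 LD2_c24 LD3_c50) Lrfl Lrfl
theorem f469952 : Led Lsl_ff (LP (LK LD1_c7 LD2_c22 LD3_c60)) = (LP (LK LD1_c13 LD2_c24 LD3_c50)) :=
  Lgr Lrot23 (Lpr_ct (f116297 IH) (Lpr_ft (f469509 IH) (Lpr_ct (f466166 IH) (Lpn (LP (LK LD1_c13 LD2_c24 LD3_c50))))))
theorem f116325 : Led Lsl_ct (LP (LK LD1_c23 LD2_c29 LD3_c29)) = (LP (LK LD1_c13 LD2_c57 LD3_c36)) :=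
  Lre_c IH (LK LD1_c23 LD2_c29 LD3_c29) (LK LD1_c13 LD2_c57 LD3_c36) Lrfl Lrfl
theorem f116109 : Led Lsl_ct (LP (LK LD1_c14 LD2_c7 LD3_c36)) = (LP (LK LD1_c23 LD2_c42 LD3_c2)) :=
  Lre_c IH (LK LD1_c14 LD2_c7 LD3_c36) (LK LD1_c23 LD2_c42 LD3_c2) Lrfl Lrfl
theorem f116326 : Led Lsl_af (LP (LK LD1_c23 LD2_c29 LD3_c29)) = (LP (LK LD1_c23 LD2_c42 LD3_c2)) :=
  Lgr Lrot68 (Lpr_ct (f116325 IH) (Lpr_at (K6.f116315 IH) (Lpr_ct (f116109 IH) (Lpn (LP (LK LD1_c23 LD2_c42 LD3_c2))))))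
theorem f116379 : Led Lsl_at (LP (LK LD1_c23 LD2_c29 LD3_c29)) = (LP (LK LD1_c23 LD2_c42 LD3_c2)) :=
  Lgr Lrot100 (Lpr_af (f116326 IH) (Lpn (LP (LK LD1_c23 LD2_c42 LD3_c2))))
theorem f116383 : Led Lsl_ft (LP (LK LD1_c13 LD2_c57 LD3_c35)) = (LP (LK LD1_c23 LD2_c29 LD3_c29)) :=
  Lre_f IH (LK LD1_c13 LD2_c57 LD3_c35) (LK LD1_c23 LD2_c29 LD3_c29) Lrfl Lrfl
theorem f116384 : Led Lsl_ft (LP (LK LD1_c23 LD2_c42 LD3_c2)) = (LP (LK LD1_c14 LD2_c7 LD3_c35)) :=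
  Lre_f IH (LK LD1_c23 LD2_c42 LD3_c2) (LK LD1_c14 LD2_c7 LD3_c35) Lrfl Lrfl
theorem f116385 : Led Lsl_af (LP (LK LD1_c13 LD2_c57 LD3_c35)) = (LP (LK LD1_c14 LD2_c7 LD3_c35)) :=
  Lgr Lrot45 (Lpr_ft (f116383 IH) (Lpr_at (f116379 IH) (Lpr_ft (f116384 IH) (Lpn (LP (LK LD1_c14 LD2_c7 LD3_c35))))))
theorem f116391 : Led Lsl_et (LP (LK LD1_c13 LD2_c57 LD3_c35)) = (LP (LK LD1_c7 LD2_c22 LD3_c60)) :=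
  Lre_e IH (LK LD1_c13 LD2_c57 LD3_c35) (LK LD1_c7 LD2_c22 LD3_c60) Lrfl Lrfl
theorem f116393 : Led Lsl_at (LP (LK LD1_c7 LD2_c22 LD3_c60)) = (LP (LK LD1_c7 LD2_c29 LD3_c1)) :=
  Lgr Lrot80 (Lpe (f116391 IH) (Lpr_af (f116385 IH) (Lpe (f116392 IH) (Lpn (LP (LK LD1_c7 LD2_c29 LD3_c1))))))
theorem f462876 : Led Lsl_gt (LP (LK LD1_c3 LD2_c41 LD3_c16)) = (LP (LK LD1_c7 LD2_c22 LD3_c59)) :=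
  Lre_g IH (LK LD1_c3 LD2_c41 LD3_c16) (LK LD1_c7 LD2_c22 LD3_c59) Lrfl Lrfl
theorem f469511 : Led Lsl_gf (LP (LK LD1_c7 LD2_c4 LD3_c58)) = (LP (LK LD1_c7 LD2_c22 LD3_c59)) :=
  Lgr Lrot76 (Lpr_af (f469502 IH) (Lpe (f469509 IH) (Lpr_gt (f462876 IH) (Lpn (LP (LK LD1_c7 LD2_c22 LD3_c59))))))
theorem f465116 : Led Lsl_gf (LP (LK LD1_c13 LD2_c25 LD3_c60)) = (LP (LK LD1_c7 LD2_c54 LD3_c44)) :=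
  Lgr Lrot47 (Lpr_gt (f465113 IH) (Lpr_af (f159351 IH) (Lpr_ff (f462204 IH) (Lpn (LP (LK LD1_c7 LD2_c54 LD3_c44))))))
theorem f11366 : Led Lsl_ct (LP (LK LD1_c3 LD2_c56 LD3_c11)) = (LP (LK LD1_c1 LD2_c54 LD3_c50)) :=
  Lre_c IH (LK LD1_c3 LD2_c56 LD3_c11) (LK LD1_c1 LD2_c54 LD3_c50) Lrfl Lrfl
theorem f451918 : Led Lsl_ct (LP (LK LD1_c1 LD2_c54 LD3_c49)) = (LP (LK LD1_c3 LD2_c56 LD3_c12)) :=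
  Lre_c IH (LK LD1_c1 LD2_c54 LD3_c49) (LK LD1_c3 LD2_c56 LD3_c12) Lrfl Lrfl
theorem f451925 : Led Lsl_ff (LP (LK LD1_c3 LD2_c56 LD3_c11)) = (LP (LK LD1_c3 LD2_c56 LD3_c12)) :=
  Lgr Lrot23 (Lpr_ct (f11366 IH) (Lpr_ft (f451914 IH) (Lpr_ct (f451918 IH) (Lpn (LP (LK LD1_c3 LD2_c56 LD3_c12))))))
theorem f11383 : Led Lsl_at (LP (LK LD1_c3 LD2_c56 LD3_c11)) = (LP (LK LD1_c1 LD2_c54 LD3_c54)) :=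
  Lre_a IH (LK LD1_c3 LD2_c56 LD3_c11) (LK LD1_c1 LD2_c54 LD3_c54) Lrfl Lrfl
theorem f451927 : Led Lsl_at (LP (LK LD1_c1 LD2_c54 LD3_c56)) = (LP (LK LD1_c3 LD2_c56 LD3_c12)) :=
  Lre_a IH (LK LD1_c1 LD2_c54 LD3_c56) (LK LD1_c3 LD2_c56 LD3_c12) Lrfl Lrfl
theorem f451928 : Led Lsl_ft (LP (LK LD1_c1 LD2_c54 LD3_c54)) = (LP (LK LD1_c1 LD2_c54 LD3_c56)) :=
  Lgr Lrot101 (Lpe (f11383 IH) (Lpr_ff (f451925 IH) (Lpe (f451927 IH) (Lpn (LP (LK LD1_c1 LD2_c54 LD3_c56))))))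
theorem f451948 : Led Lsl_ff (LP (LK LD1_c1 LD2_c54 LD3_c54)) = (LP (LK LD1_c1 LD2_c54 LD3_c56)) :=
  Lgr Lrot3 (Lpr_ft (f451928 IH) (Lpn (LP (LK LD1_c1 LD2_c54 LD3_c56))))
theorem f451255 : Led Lsl_dt (LP (LK LD1_c3 LD2_c56 LD3_c26)) = (LP (LK LD1_c1 LD2_c54 LD3_c56)) :=
  Lre_d IH (LK LD1_c3 LD2_c56 LD3_c26) (LK LD1_c1 LD2_c54 LD3_c56) Lrfl Lrfl
theorem f451954 : Led Lsl_ft (LP (LK LD1_c3 LD2_c56 LD3_c23)) = (LP (LK LD1_c3 LD2_c56 LD3_c26)) :=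
  Lgr Lrot54 (Lpe (f11380 IH) (Lpr_ff (f451948 IH) (Lpe (f451255 IH) (Lpn (LP (LK LD1_c3 LD2_c56 LD3_c26))))))
theorem f462877 : Led Lsl_at (LP (LK LD1_c3 LD2_c56 LD3_c26)) = (LP (LK LD1_c7 LD2_c22 LD3_c59)) :=
  Lgr Lrot26 (Lpe (f451954 IH) (Lpr_gt (f462873 IH) (Lpr_gt (f462876 IH) (Lpn (LP (LK LD1_c7 LD2_c22 LD3_c59))))))
theorem f11337 : Led Lsl_dt (LP (LK LD1_c3 LD2_c56 LD3_c23)) = (LP (LK LD1_c1 LD2_c54 LD3_c54)) :=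
  Lre_d IH (LK LD1_c3 LD2_c56 LD3_c23) (LK LD1_c1 LD2_c54 LD3_c54) Lrfl Lrfl
theorem f11336 : Led Lsl_ct (LP (LK LD1_c1 LD2_c54 LD3_c54)) = (LP (LK LD1_c0 LD2_c54 LD3_c8)) :=
  Lre_c IH (LK LD1_c1 LD2_c54 LD3_c54) (LK LD1_c0 LD2_c54 LD3_c8) Lrfl Lrfl
theorem f11334 : Led Lsl_ct (LP (LK LD1_c1 LD2_c55 LD3_c2)) = (LP (LK LD1_c3 LD2_c56 LD3_c39)) :=
  Lre_c IH (LK LD1_c1 LD2_c55 LD3_c2) (LK LD1_c3 LD2_c56 LD3_c39) Lrfl Lrfl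
theorem f11335 : Led Lsl_dt (LP (LK LD1_c3 LD2_c56 LD3_c39)) = (LP (LK LD1_c7 LD2_c55 LD3_c4)) :=
  Lre_d IH (LK LD1_c3 LD2_c56 LD3_c39) (LK LD1_c7 LD2_c55 LD3_c4) Lrfl Lrfl
theorem f462894 : Led Lsl_ct (LP (LK LD1_c7 LD2_c55 LD3_c4)) = (LP (LK LD1_c7 LD2_c22 LD3_c59)) :=
  Lgr Lrot98 (Lpe (f11335 IH) (Lpe (f11334 IH) (Lpe (f11333 IH) (Lpe (f11246 IH) (Lpr_df (K24.f11327 IH) (Lpe (f11336 IH) (Lpe (f11337 IH) (Lpr_ft (f451954 IH) (Lpr_at (f462877 IH) (Lpn (LP (LK LD1_c7 LD2_c22 LD3_c59))))))))))))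
theorem f469517 : Led Lsl_gt (LP (LK LD1_c7 LD2_c22 LD3_c8)) = (LP (LK LD1_c7 LD2_c55 LD3_c4)) :=
  Lgr Lrot9 (Lpr_df (f462193 IH) (Lpe (f465116 IH) (Lpr_ct (f458317 IH) (Lpe (K24.f460761 IH) (Lpr_ct (f121076 IH) (Lpe (f469183 IH) (Lpe (f459012 IH) (Lpr_gf (f469511 IH) (Lpe (f462894 IH) (Lpn (LP (LK LD1_c7 LD2_c55 LD3_c4))))))))))))
theorem f463290 : Led Lsl_ft (LP (LK LD1_c7 LD2_c22 LD3_c8)) = (LP (LK LD1_c13 LD2_c24 LD3_c37)) :=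
  Lgr Lrot54 (Lpr_df (f462193 IH) (Lpe (f462214 IH) (Lpr_df (f463279 IH) (Lpn (LP (LK LD1_c13 LD2_c24 LD3_c37))))))
theorem f459185 : Led Lsl_dt (LP (LK LD1_c3 LD2_c31 LD3_c37)) = (LP (LK LD1_c7 LD2_c4 LD3_c52)) :=
  Lre_d IH (LK LD1_c3 LD2_c31 LD3_c37) (LK LD1_c7 LD2_c4 LD3_c52) Lrfl Lrfl
theorem f459186 : Led Lsl_ct (LP (LK LD1_c13 LD2_c25 LD3_c21)) = (LP (LK LD1_c7 LD2_c4 LD3_c52)) :=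
  Lre_c IH (LK LD1_c13 LD2_c25 LD3_c21) (LK LD1_c7 LD2_c4 LD3_c52) Lrfl Lrfl
theorem f451766 : Led Lsl_ct (LP (LK LD1_c7 LD2_c54 LD3_c34)) = (LP (LK LD1_c3 LD2_c56 LD3_c26)) :=
  Lre_c IH (LK LD1_c7 LD2_c54 LD3_c34) (LK LD1_c3 LD2_c56 LD3_c26) Lrfl Lrfl
theorem f451651 : Led Lsl_ct (LP (LK LD1_c3 LD2_c56 LD3_c36)) = (LP (LK LD1_c7 LD2_c54 LD3_c57)) :=
  Lre_c IH (LK LD1_c3 LD2_c56 LD3_c36) (LK LD1_c7 LD2_c54 LD3_c57) Lrfl Lrfl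
theorem f451652 : Led Lsl_ct (LP (LK LD1_c7 LD2_c54 LD3_c12)) = (LP (LK LD1_c3 LD2_c56 LD3_c16)) :=
  Lre_c IH (LK LD1_c7 LD2_c54 LD3_c12) (LK LD1_c3 LD2_c56 LD3_c16) Lrfl Lrfl
theorem f451653 : Led Lsl_ft (LP (LK LD1_c7 LD2_c54 LD3_c57)) = (LP (LK LD1_c7 LD2_c54 LD3_c12)) :=
  Lgr Lrot4 (Lpe (f451651 IH) (Lpr_ff (f451644 IH) (Lpe (f451652 IH) (Lpn (LP (LK LD1_c7 LD2_c54 LD3_c12))))))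
theorem f451681 : Led Lsl_bt (LP (LK LD1_c14 LD2_c55 LD3_c54)) = (LP (LK LD1_c7 LD2_c54 LD3_c57)) :=
  Lre_b IH (LK LD1_c14 LD2_c55 LD3_c54) (LK LD1_c7 LD2_c54 LD3_c57) Lrfl Lrfl
theorem f451682 : Led Lsl_bt (LP (LK LD1_c7 LD2_c54 LD3_c12)) = (LP (LK LD1_c14 LD2_c54 LD3_c31)) :=
  Lre_b IH (LK LD1_c7 LD2_c54 LD3_c12) (LK LD1_c14 LD2_c54 LD3_c31) Lrfl Lrfl
theorem f451683 : Led Lsl_ff (LP (LK LD1_c14 LD2_c55 LD3_c54)) = (LP (LK LD1_c14 LD2_c54 LD3_c31)) :=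
  Lgr Lrot25 (Lpr_bt (f451681 IH) (Lpr_ft (f451653 IH) (Lpr_bt (f451682 IH) (Lpn (LP (LK LD1_c14 LD2_c54 LD3_c31))))))
theorem f451693 : Led Lsl_ft (LP (LK LD1_c14 LD2_c55 LD3_c54)) = (LP (LK LD1_c14 LD2_c54 LD3_c31)) :=
  Lgr Lrot48 (Lpr_ff (f451683 IH) (Lpn (LP (LK LD1_c14 LD2_c54 LD3_c31))))
theorem f451698 : Led Lsl_ct (LP (LK LD1_c7 LD2_c55 LD3_c3)) = (LP (LK LD1_c14 LD2_c55 LD3_c54)) :=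
  Lre_c IH (LK LD1_c7 LD2_c55 LD3_c3) (LK LD1_c14 LD2_c55 LD3_c54) Lrfl Lrfl
theorem f451699 : Led Lsl_ct (LP (LK LD1_c14 LD2_c54 LD3_c31)) = (LP (LK LD1_c7 LD2_c54 LD3_c22)) :=
  Lre_c IH (LK LD1_c14 LD2_c54 LD3_c31) (LK LD1_c7 LD2_c54 LD3_c22) Lrfl Lrfl
theorem f451700 : Led Lsl_ff (LP (LK LD1_c7 LD2_c55 LD3_c3)) = (LP (LK LD1_c7 LD2_c54 LD3_c22)) :=
  Lgr Lrot23 (Lpr_ct (f451698 IH) (Lpr_ft (f451693 IH) (Lpr_ct (f451699 IH) (Lpn (LP (LK LD1_c7 LD2_c54 LD3_c22))))))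
theorem f451711 : Led Lsl_dt (LP (LK LD1_c7 LD2_c55 LD3_c3)) = (LP (LK LD1_c14 LD2_c56 LD3_c16)) :=
  Lre_d IH (LK LD1_c7 LD2_c55 LD3_c3) (LK LD1_c14 LD2_c56 LD3_c16) Lrfl Lrfl
theorem f451712 : Led Lsl_dt (LP (LK LD1_c14 LD2_c54 LD3_c57)) = (LP (LK LD1_c7 LD2_c54 LD3_c22)) :=
  Lre_d IH (LK LD1_c14 LD2_c54 LD3_c57) (LK LD1_c7 LD2_c54 LD3_c22) Lrfl Lrfl
theorem f451713 : Led Lsl_ft (LP (LK LD1_c14 LD2_c56 LD3_c16)) = (LP (LK LD1_c14 LD2_c54 LD3_c57)) :=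
  Lgr Lrot54 (Lpe (f451711 IH) (Lpr_ff (f451700 IH) (Lpe (f451712 IH) (Lpn (LP (LK LD1_c14 LD2_c54 LD3_c57))))))
theorem f451719 : Led Lsl_bt (LP (LK LD1_c7 LD2_c55 LD3_c4)) = (LP (LK LD1_c14 LD2_c56 LD3_c16)) :=
  Lre_b IH (LK LD1_c7 LD2_c55 LD3_c4) (LK LD1_c14 LD2_c56 LD3_c16) Lrfl Lrfl
theorem f451720 : Led Lsl_bt (LP (LK LD1_c14 LD2_c54 LD3_c57)) = (LP (LK LD1_c7 LD2_c54 LD3_c23)) :=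
  Lre_b IH (LK LD1_c14 LD2_c54 LD3_c57) (LK LD1_c7 LD2_c54 LD3_c23) Lrfl Lrfl
theorem f451721 : Led Lsl_ff (LP (LK LD1_c7 LD2_c55 LD3_c4)) = (LP (LK LD1_c7 LD2_c54 LD3_c23)) :=
  Lgr Lrot25 (Lpr_bt (f451719 IH) (Lpr_ft (f451713 IH) (Lpr_bt (f451720 IH) (Lpn (LP (LK LD1_c7 LD2_c54 LD3_c23))))))
theorem f451749 : Led Lsl_dt (LP (LK LD1_c7 LD2_c54 LD3_c23)) = (LP (LK LD1_c3 LD2_c56 LD3_c19)) :=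
  Lre_d IH (LK LD1_c7 LD2_c54 LD3_c23) (LK LD1_c3 LD2_c56 LD3_c19) Lrfl Lrfl
theorem f451260 : Led Lsl_ct (LP (LK LD1_c3 LD2_c56 LD3_c19)) = (LP (LK LD1_c1 LD2_c54 LD3_c53)) :=
  Lre_c IH (LK LD1_c3 LD2_c56 LD3_c19) (LK LD1_c1 LD2_c54 LD3_c53) Lrfl Lrfl
theorem f11203 : Led Lsl_ct (LP (LK LD1_c0 LD2_c54 LD3_c6)) = (LP (LK LD1_c0 LD2_c24 LD3_c20)) :=
  Lre_c IH (LK LD1_c0 LD2_c54 LD3_c6) (LK LD1_c0 LD2_c24 LD3_c20) Lrfl Lrfl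
theorem f451254 : Led Lsl_ct (LP (LK LD1_c0 LD2_c54 LD3_c7)) = (LP (LK LD1_c1 LD2_c54 LD3_c56)) :=
  Lre_c IH (LK LD1_c0 LD2_c54 LD3_c7) (LK LD1_c1 LD2_c54 LD3_c56) Lrfl Lrfl
theorem f451267 : Led Lsl_dt (LP (LK LD1_c1 LD2_c54 LD3_c56)) = (LP (LK LD1_c3 LD2_c56 LD3_c26)) :=
  Lre_d IH (LK LD1_c1 LD2_c54 LD3_c56) (LK LD1_c3 LD2_c56 LD3_c26) Lrfl Lrfl
theorem f451268 : Led Lsl_ct (LP (LK LD1_c3 LD2_c56 LD3_c26)) = (LP (LK LD1_c7 LD2_c54 LD3_c34)) :=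
  Lre_c IH (LK LD1_c3 LD2_c56 LD3_c26) (LK LD1_c7 LD2_c54 LD3_c34) Lrfl Lrfl
theorem f451761 : Led Lsl_at (LP (LK LD1_c7 LD2_c55 LD3_c4)) = (LP (LK LD1_c7 LD2_c54 LD3_c34)) :=
  Lgr Lrot33 (Lpr_ff (f451721 IH) (Lpr_dt (f451749 IH) (Lpr_ct (f451260 IH) (Lpr_dt (f11204 IH) (Lpr_ct (f11203 IH) (Lpr_dt (K24.f11382 IH) (Lpr_ct (f451254 IH) (Lpr_dt (f451267 IH) (Lpr_ct (f451268 IH) (Lpn (LP (LK LD1_c7 LD2_c54 LD3_c34))))))))))))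
theorem f462887 : Led Lsl_cf (LP (LK LD1_c7 LD2_c55 LD3_c4)) = (LP (LK LD1_c7 LD2_c22 LD3_c59)) :=
  Lgr Lrot1 (Lpr_at (f451761 IH) (Lpr_ct (f451766 IH) (Lpr_at (f462877 IH) (Lpn (LP (LK LD1_c7 LD2_c22 LD3_c59))))))
theorem f469132 : Led Lsl_gf (LP (LK LD1_c13 LD2_c25 LD3_c21)) = (LP (LK LD1_c7 LD2_c55 LD3_c4)) :=
  Lgr Lrot104 (Lpr_ct (f459186 IH) (Lpe (f459185 IH) (Lpe (f459184 IH) (Lpr_gf (f459182 IH) (Lpe (K24.f455641 IH) (Lpr_gf (f469128 IH) (Lpe (f116500 IH) (Lpr_gt (f462876 IH) (Lpe (f462887 IH) (Lpn (LP (LK LD1_c7 LD2_c55 LD3_c4))))))))))))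
theorem f469521 : Led Lsl_at (LP (LK LD1_c13 LD2_c24 LD3_c37)) = (LP (LK LD1_c13 LD2_c25 LD3_c21)) :=
  Lgr Lrot26 (Lpe (f463290 IH) (Lpr_gt (f469517 IH) (Lpe (f469132 IH) (Lpn (LP (LK LD1_c13 LD2_c25 LD3_c21))))))
theorem f122370 : Led Lsl_af (LP (LK LD1_c7 LD2_c22 LD3_c8)) = (LP (LK LD1_c7 LD2_c28 LD3_c26)) :=
  Lgr Lrot68 (Lpr_ct (f122368 IH) (Lpr_at (K4.f122359 IH) (Lpr_ct (f122369 IH) (Lpn (LP (LK LD1_c7 LD2_c28 LD3_c26))))))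
theorem f469598 : Led Lsl_ff (LP (LK LD1_c7 LD2_c28 LD3_c26)) = (LP (LK LD1_c13 LD2_c25 LD3_c21)) :=
  Lgr Lrot30 (Lpe (f122370 IH) (Lpr_ft (f463290 IH) (Lpr_at (f469521 IH) (Lpn (LP (LK LD1_c13 LD2_c25 LD3_c21))))))
theorem f462430 : Led Lsl_dt (LP (LK LD1_c7 LD2_c28 LD3_c26)) = (LP (LK LD1_c7 LD2_c53 LD3_c60)) :=
  Lgr Lrot42 (Lpr_df (f462423 IH) (Lpn (LP (LK LD1_c7 LD2_c53 LD3_c60))))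
theorem f469603 : Led Lsl_dt (LP (LK LD1_c7 LD2_c25 LD3_c33)) = (LP (LK LD1_c13 LD2_c25 LD3_c21)) :=
  Lgr Lrot60 (Lpr_ff (f462434 IH) (Lpe (f462430 IH) (Lpr_ff (f469598 IH) (Lpn (LP (LK LD1_c13 LD2_c25 LD3_c21))))))
theorem f459282 : Led Lsl_dt (LP (LK LD1_c7 LD2_c4 LD3_c26)) = (LP (LK LD1_c3 LD2_c31 LD3_c22)) :=
  Lre_d IH (LK LD1_c7 LD2_c4 LD3_c26) (LK LD1_c3 LD2_c31 LD3_c22) Lrfl Lrfl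
theorem f463270 : Led Lsl_ft (LP (LK LD1_c3 LD2_c40 LD3_c56)) = (LP (LK LD1_c7 LD2_c4 LD3_c26)) :=
  Lgr Lrot54 (Lpe (K4.f12598 IH) (Lpr_ff (f463265 IH) (Lpe (f459282 IH) (Lpn (LP (LK LD1_c7 LD2_c4 LD3_c26))))))
theorem f469614 : Led Lsl_at (LP (LK LD1_c7 LD2_c4 LD3_c26)) = (LP (LK LD1_c7 LD2_c4 LD3_c52)) :=
  Lgr Lrot33 (Lpe (f463270 IH) (Lpr_dt (f128312 IH) (Lpr_ct (K4.f122347 IH) (Lpr_dt (f159499 IH) (Lpr_ct (K8.f26202 IH) (Lpr_dt (K8.f122678 IH) (Lpr_ct (f159502 IH) (Lpr_dt (f469603 IH) (Lpr_ct (f459186 IH) (Lpn (LP (LK LD1_c7 LD2_c4 LD3_c52))))))))))))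
theorem f463473 : Led Lsl_gt (LP (LK LD1_c3 LD2_c40 LD3_c56)) = (LP (LK LD1_c7 LD2_c22 LD3_c6)) :=
  Lre_g IH (LK LD1_c3 LD2_c40 LD3_c56) (LK LD1_c7 LD2_c22 LD3_c6) Lrfl Lrfl
theorem f469618 : Led Lsl_gt (LP (LK LD1_c7 LD2_c22 LD3_c6)) = (LP (LK LD1_c7 LD2_c4 LD3_c52)) :=
  Lgr Lrot46 (Lpe (f463473 IH) (Lpr_ft (f463270 IH) (Lpr_at (f469614 IH) (Lpn (LP (LK LD1_c7 LD2_c4 LD3_c52))))))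
theorem f459187 : Led Lsl_dt (LP (LK LD1_c7 LD2_c4 LD3_c52)) = (LP (LK LD1_c3 LD2_c31 LD3_c37)) :=
  Lre_d IH (LK LD1_c7 LD2_c4 LD3_c52) (LK LD1_c3 LD2_c31 LD3_c37) Lrfl Lrfl
theorem f459492 : Led Lsl_dt v766 = K24.v808 :=
  Lgr Lrot60 (Lpe (f457140 IH) (Lpe (f159492 IH) (Lpr_ff (f459489 IH) (Lpn K24.v808))))
theorem f11374 : Led Lsl_dt (LP (LK LD1_c1 LD2_c54 LD3_c49)) = (LP (LK LD1_c0 LD2_c54 LD3_c5)) :=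
  Lre_d IH (LK LD1_c1 LD2_c54 LD3_c49) (LK LD1_c0 LD2_c54 LD3_c5) Lrfl Lrfl
theorem f451320 : Led Lsl_at (LP (LK LD1_c0 LD2_c54 LD3_c7)) = (LP (LK LD1_c1 LD2_c54 LD3_c49)) :=
  Lre_a IH (LK LD1_c0 LD2_c54 LD3_c7) (LK LD1_c1 LD2_c54 LD3_c49) Lrfl Lrfl
theorem f451909 : Led Lsl_ft (LP (LK LD1_c0 LD2_c54 LD3_c8)) = (LP (LK LD1_c0 LD2_c54 LD3_c7)) :=
  Lgr Lrot101 (Lpe (f11330 IH) (Lpr_ff (f451904 IH) (Lpe (f451320 IH) (Lpn (LP (LK LD1_c0 LD2_c54 LD3_c7))))))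
theorem f11348 : Led Lsl_gt (LP (LK LD1_c0 LD2_c54 LD3_c8)) = (LP (LK LD1_c1 LD2_c54 LD3_c57)) :=
  Lre_g IH (LK LD1_c0 LD2_c54 LD3_c8) (LK LD1_c1 LD2_c54 LD3_c57) Lrfl Lrfl
theorem f451970 : Led Lsl_gt (LP (LK LD1_c1 LD2_c54 LD3_c57)) = (LP (LK LD1_c1 LD2_c54 LD3_c49)) :=
  Lgr Lrot46 (Lpe (f11348 IH) (Lpr_ft (f451909 IH) (Lpr_at (f451320 IH) (Lpn (LP (LK LD1_c1 LD2_c54 LD3_c49))))))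
theorem f451972 : Led Lsl_ct (LP (LK LD1_c3 LD2_c56 LD3_c27)) = (LP (LK LD1_c1 LD2_c54 LD3_c57)) :=
  Lre_c IH (LK LD1_c3 LD2_c56 LD3_c27) (LK LD1_c1 LD2_c54 LD3_c57) Lrfl Lrfl
theorem f11350 : Led Lsl_gt (LP (LK LD1_c3 LD2_c56 LD3_c27)) = (LP (LK LD1_c7 LD2_c54 LD3_c36)) :=
  Lre_g IH (LK LD1_c3 LD2_c56 LD3_c27) (LK LD1_c7 LD2_c54 LD3_c36) Lrfl Lrfl
theorem f469621 : Led Lsl_df (LP (LK LD1_c7 LD2_c22 LD3_c6)) = (LP (LK LD1_c7 LD2_c54 LD3_c36)) :=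
  Lgr Lrot153 (Lpr_gt (f469618 IH) (Lpr_dt (f459187 IH) (Lpe (f459184 IH) (Lpq (f463623 IH) (Lpe (f459492 IH) (Lpqs (f462174 IH) (Lpr_gf (f451977 IH) (Lpe (f11374 IH) (Lpe (f451970 IH) (Lpe (f451972 IH) (Lpr_gt (f11350 IH) (Lpn (LP (LK LD1_c7 LD2_c54 LD3_c36))))))))))))))
theorem f469632 : Led Lsl_dt (LP (LK LD1_c7 LD2_c22 LD3_c6)) = (LP (LK LD1_c7 LD2_c54 LD3_c36)) :=
  Lgr Lrot42 (Lpr_df (f469621 IH) (Lpn (LP (LK LD1_c7 LD2_c54 LD3_c36))))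
theorem f98810 : Led Lsl_dt (LP (LK LD1_c3 LD2_c26 LD3_c17)) = (LP (LK LD1_c6 LD2_c54 LD3_c30)) :=
  Lre_d IH (LK LD1_c3 LD2_c26 LD3_c17) (LK LD1_c6 LD2_c54 LD3_c30) Lrfl Lrfl
theorem f11349 : Led Lsl_ct (LP (LK LD1_c1 LD2_c54 LD3_c57)) = (LP (LK LD1_c3 LD2_c56 LD3_c27)) :=
  Lre_c IH (LK LD1_c1 LD2_c54 LD3_c57) (LK LD1_c3 LD2_c56 LD3_c27) Lrfl Lrfl
theorem f462830 : Led Lsl_cf (LP (LK LD1_c6 LD2_c54 LD3_c30)) = (LP (LK LD1_c7 LD2_c54 LD3_c36)) :=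
  Lgr Lrot99 (Lpe (f98810 IH) (Lpr_cf (f462800 IH) (Lpe (f26210 IH) (Lpe (K8.f26202 IH) (Lpr_gf (f459384 IH) (Lpq (f462172 IH) (Lpr_df (K24.f11327 IH) (Lpr_gt (f11348 IH) (Lpr_ct (f11349 IH) (Lpr_gt (f11350 IH) (Lpn (LP (LK LD1_c7 LD2_c54 LD3_c36)))))))))))))
theorem f462836 : Led Lsl_ct (LP (LK LD1_c6 LD2_c54 LD3_c30)) = (LP (LK LD1_c7 LD2_c54 LD3_c36)) :=
  Lgr Lrot59 (Lpr_cf (f462830 IH) (Lpn (LP (LK LD1_c7 LD2_c54 LD3_c36))))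
theorem f93108 : Led Lsl_et (LP (LK LD1_c0 LD2_c49 LD3_c15)) = (LP (LK LD1_c1 LD2_c45 LD3_c6)) :=
  Lre_e IH (LK LD1_c0 LD2_c49 LD3_c15) (LK LD1_c1 LD2_c45 LD3_c6) Lrfl Lrfl
theorem f464636 : Led Lsl_gf (LP (LK LD1_c3 LD2_c26 LD3_c17)) = (LP (LK LD1_c1 LD2_c45 LD3_c6)) :=
  Lgr Lrot141 (Lpe (f98746 IH) (Lpr_dt (K24.f98811 IH) (Lpr_gt (f464624 IH) (Lpr_df (K5.f128065 IH) (Lpr_et (K3.f108773 IH) (Lpe (K4.f120267 IH) (Lpr_dt (K3.f98634 IH) (Lpe (K3.f103587 IH) (Lpr_df (K4.f93077 IH) (Lpr_et (f93108 IH) (Lpn (LP (LK LD1_c1 LD2_c45 LD3_c6)))))))))))))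
theorem f469637 : Led Lsl_ct (LP (LK LD1_c3 LD2_c40 LD3_c55)) = (LP (LK LD1_c3 LD2_c35 LD3_c33)) :=
  Lgr Lrot8 (Lpr_gt (f122361 IH) (Lpr_dt (K4.f12598 IH) (Lpr_gt (f463473 IH) (Lpr_dt (f469632 IH) (Lpe (f462836 IH) (Lpe (f98810 IH) (Lpr_gf (f464636 IH) (Lpe (K5.f106199 IH) (Lpe (f87521 IH) (Lpn (LP (LK LD1_c3 LD2_c35 LD3_c33))))))))))))
theorem f469134 : Led Lsl_gt (LP (LK LD1_c3 LD2_c31 LD3_c37)) = (LP (LK LD1_c3 LD2_c40 LD3_c55)) :=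
  Lgr Lrot149 (Lpe (f459184 IH) (Lpr_gf (f459182 IH) (Lpr_bf (f459285 IH) (Lpr_ct (f458991 IH) (Lpr_gf (f469128 IH) (Lpr_cf (f116477 IH) (Lpe (K3.f108759 IH) (Lpe (K24.f108772 IH) (Lpe (f461894 IH) (Lpe (f468113 IH) (Lpn (LP (LK LD1_c3 LD2_c40 LD3_c55)))))))))))))
theorem f462416 : Led Lsl_et (LP (LK LD1_c3 LD2_c40 LD3_c15)) = (LP (LK LD1_c1 LD2_c54 LD3_c47)) :=
  Lgr Lrot69 (Lpe (f159389 IH) (Lpe (f107582 IH) (Lpe (K8.f159379 IH) (Lpe (K8.f122677 IH) (Lpr_ff (f462408 IH) (Lpn (LP (LK LD1_c1 LD2_c54 LD3_c47))))))))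
theorem f129172 : Led Lsl_et (LP (LK LD1_c7 LD2_c21 LD3_c19)) = (LP (LK LD1_c3 LD2_c40 LD3_c34)) :=
  Lre_e IH (LK LD1_c7 LD2_c21 LD3_c19) (LK LD1_c3 LD2_c40 LD3_c34) Lrfl Lrfl
theorem f12597 : Led Lsl_et (LP (LK LD1_c1 LD2_c47 LD3_c24)) = (LP (LK LD1_c0 LD2_c50 LD3_c28)) :=
  Lre_e IH (LK LD1_c1 LD2_c47 LD3_c24) (LK LD1_c0 LD2_c50 LD3_c28) Lrfl Lrfl
theorem f12599 : Led Lsl_gt (LP (LK LD1_c7 LD2_c22 LD3_c7)) = (LP (LK LD1_c3 LD2_c40 LD3_c56)) :=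
  Lre_g IH (LK LD1_c7 LD2_c22 LD3_c7) (LK LD1_c3 LD2_c40 LD3_c56) Lrfl Lrfl
theorem f129173 : Led Lsl_dt (LP (LK LD1_c7 LD2_c21 LD3_c19)) = (LP (LK LD1_c7 LD2_c22 LD3_c7)) :=
  Lgr Lrot136 (Lpr_et (f129172 IH) (Lpe (f129166 IH) (Lpe (K8.f129165 IH) (Lpr_dt (K5.f107308 IH) (Lpr_gf (K5.f129147 IH) (Lpe (K5.f12583 IH) (Lpe (K6.f12577 IH) (Lpe (f12597 IH) (Lpr_dt (K4.f12598 IH) (Lpe (f12599 IH) (Lpn (LP (LK LD1_c7 LD2_c22 LD3_c7)))))))))))))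
theorem f468296 : Led Lsl_gt (LP (LK LD1_c7 LD2_c4 LD3_c52)) = (LP (LK LD1_c7 LD2_c22 LD3_c7)) :=
  Lgr Lrot139 (Lpe (f459185 IH) (Lpr_gf (f468282 IH) (Lpe (f142362 IH) (Lpe (f142363 IH) (Lpr_gf (f203963 IH) (Lpe (f203843 IH) (Lpr_et (f462416 IH) (Lpe (f462785 IH) (Lpe (f129172 IH) (Lpr_dt (f129173 IH) (Lpn (LP (LK LD1_c7 LD2_c22 LD3_c7)))))))))))))
theorem f129176 : Led Lsl_ct (LP (LK LD1_c7 LD2_c22 LD3_c7)) = (LP (LK LD1_c13 LD2_c56 LD3_c8)) :=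
  Lre_c IH (LK LD1_c7 LD2_c22 LD3_c7) (LK LD1_c13 LD2_c56 LD3_c8) Lrfl Lrfl
theorem f469644 : Led Lsl_gt (LP (LK LD1_c13 LD2_c56 LD3_c8)) = (LP (LK LD1_c7 LD2_c29 LD3_c1)) :=
  Lgr Lrot150 (Lpe (f129176 IH) (Lpe (f468296 IH) (Lpe (f459185 IH) (Lpr_gt (f469134 IH) (Lpr_ct (f469637 IH) (Lpr_gt (f87521 IH) (Lpr_ct (K4.f116127 IH) (Lpe (K4.f116142 IH) (Lpe (f116144 IH) (Lpn (LP (LK LD1_c7 LD2_c29 LD3_c1))))))))))))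
theorem f469965 : Led Lsl_gf (LP (LK LD1_c13 LD2_c56 LD3_c8)) = (LP (LK LD1_c13 LD2_c24 LD3_c50)) :=
  Lgr Lrot47 (Lpr_gt (f469644 IH) (Lpe (f116393 IH) (Lpr_ff (f469952 IH) (Lpn (LP (LK LD1_c13 LD2_c24 LD3_c50))))))
theorem f129182 : Led Lsl_ct (LP (LK LD1_c13 LD2_c56 LD3_c8)) = (LP (LK LD1_c7 LD2_c22 LD3_c7)) :=
  Lre_c IH (LK LD1_c13 LD2_c56 LD3_c8) (LK LD1_c7 LD2_c22 LD3_c7) Lrfl Lrfl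
theorem f129183 : Led Lsl_ct (LP (LK LD1_c3 LD2_c40 LD3_c56)) = (LP (LK LD1_c7 LD2_c22 LD3_c8)) :=
  Lre_c IH (LK LD1_c3 LD2_c40 LD3_c56) (LK LD1_c7 LD2_c22 LD3_c8) Lrfl Lrfl
theorem f462198 : Led Lsl_dt (LP (LK LD1_c7 LD2_c22 LD3_c8)) = (LP (LK LD1_c7 LD2_c54 LD3_c44)) :=
  Lgr Lrot42 (Lpr_df (f462193 IH) (Lpn (LP (LK LD1_c7 LD2_c54 LD3_c44))))
theorem f203690 : Led Lsl_et (LP (LK LD1_c3 LD2_c40 LD3_c30)) = (LP (LK LD1_c7 LD2_c21 LD3_c9)) :=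
  Lre_e IH (LK LD1_c3 LD2_c40 LD3_c30) (LK LD1_c7 LD2_c21 LD3_c9) Lrfl Lrfl
theorem f108125 : Led Lsl_et (LP (LK LD1_c7 LD2_c25 LD3_c11)) = (LP (LK LD1_c3 LD2_c42 LD3_c15)) :=
  Lre_e IH (LK LD1_c7 LD2_c25 LD3_c11) (LK LD1_c3 LD2_c42 LD3_c15) Lrfl Lrfl
theorem f425557 : Led Lsl_bt (LP (LK LD1_c7 LD2_c21 LD3_c9)) = (LP (LK LD1_c7 LD2_c25 LD3_c11)) :=
  Lgr Lrot119 (Lpe (f203690 IH) (Lpr_bf (f162829 IH) (Lpe (f108125 IH) (Lpn (LP (LK LD1_c7 LD2_c25 LD3_c11))))))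
theorem f162815 : Led Lsl_dt (LP (LK LD1_c13 LD2_c54 LD3_c1)) = (LP (LK LD1_c7 LD2_c21 LD3_c9)) :=
  Lre_d IH (LK LD1_c13 LD2_c54 LD3_c1) (LK LD1_c7 LD2_c21 LD3_c9) Lrfl Lrfl
theorem f108135 : Led Lsl_dt (LP (LK LD1_c7 LD2_c25 LD3_c11)) = (LP (LK LD1_c14 LD2_c1 LD3_c53)) :=
  Lre_d IH (LK LD1_c7 LD2_c25 LD3_c11) (LK LD1_c14 LD2_c1 LD3_c53) Lrfl Lrfl
theorem f425560 : Led Lsl_bf (LP (LK LD1_c13 LD2_c54 LD3_c1)) = (LP (LK LD1_c14 LD2_c1 LD3_c53)) :=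
  Lgr Lrot93 (Lpr_dt (f162815 IH) (Lpr_bt (f425557 IH) (Lpr_dt (f108135 IH) (Lpn (LP (LK LD1_c14 LD2_c1 LD3_c53))))))
theorem f462279 : Led Lsl_ff (LP (LK LD1_c7 LD2_c21 LD3_c9)) = (LP (LK LD1_c7 LD2_c54 LD3_c42)) :=
  Lgr Lrot3 (Lpr_ft (f462267 IH) (Lpn (LP (LK LD1_c7 LD2_c54 LD3_c42))))
theorem f162788 : Led Lsl_dt (LP (LK LD1_c7 LD2_c21 LD3_c9)) = (LP (LK LD1_c13 LD2_c54 LD3_c1)) :=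
  Lre_d IH (LK LD1_c7 LD2_c21 LD3_c9) (LK LD1_c13 LD2_c54 LD3_c1) Lrfl Lrfl
theorem f462281 : Led Lsl_dt (LP (LK LD1_c14 LD2_c55 LD3_c23)) = (LP (LK LD1_c7 LD2_c54 LD3_c42)) :=
  Lre_d IH (LK LD1_c14 LD2_c55 LD3_c23) (LK LD1_c7 LD2_c54 LD3_c42) Lrfl Lrfl
theorem f462282 : Led Lsl_ft (LP (LK LD1_c13 LD2_c54 LD3_c1)) = (LP (LK LD1_c14 LD2_c55 LD3_c23)) :=
  Lgr Lrot54 (Lpe (f162788 IH) (Lpr_ff (f462279 IH) (Lpe (f462281 IH) (Lpn (LP (LK LD1_c14 LD2_c55 LD3_c23))))))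
theorem f462549 : Led Lsl_bt (LP (LK LD1_c14 LD2_c55 LD3_c23)) = (LP (LK LD1_c14 LD2_c53 LD3_c57)) :=
  Lgr Lrot35 (Lpe (f462282 IH) (Lpr_bf (f425560 IH) (Lpr_ff (f462544 IH) (Lpn (LP (LK LD1_c14 LD2_c53 LD3_c57))))))
theorem f462355 : Led Lsl_at (LP (LK LD1_c7 LD2_c54 LD3_c43)) = (LP (LK LD1_c14 LD2_c55 LD3_c23)) :=
  Lre_a IH (LK LD1_c7 LD2_c54 LD3_c43) (LK LD1_c14 LD2_c55 LD3_c23) Lrfl Lrfl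
theorem f462332 : Led Lsl_bt (LP (LK LD1_c3 LD2_c56 LD3_c30)) = (LP (LK LD1_c7 LD2_c54 LD3_c43)) :=
  Lre_b IH (LK LD1_c3 LD2_c56 LD3_c30) (LK LD1_c7 LD2_c54 LD3_c43) Lrfl Lrfl
theorem f462514 : Led Lsl_at (LP (LK LD1_c14 LD2_c53 LD3_c57)) = (LP (LK LD1_c7 LD2_c53 LD3_c59)) :=
  Lre_a IH (LK LD1_c14 LD2_c53 LD3_c57) (LK LD1_c7 LD2_c53 LD3_c59) Lrfl Lrfl
theorem f462452 : Led Lsl_bt (LP (LK LD1_c7 LD2_c53 LD3_c59)) = (LP (LK LD1_c3 LD2_c56 LD3_c8)) :=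
  Lre_b IH (LK LD1_c7 LD2_c53 LD3_c59) (LK LD1_c3 LD2_c56 LD3_c8) Lrfl Lrfl
theorem f462663 : Led Lsl_af (LP (LK LD1_c3 LD2_c56 LD3_c30)) = (LP (LK LD1_c3 LD2_c56 LD3_c8)) :=
  Lgr Lrot36 (Lpr_bt (f462332 IH) (Lpr_at (f462355 IH) (Lpr_bt (f462549 IH) (Lpr_at (f462514 IH) (Lpr_bt (f462452 IH) (Lpn (LP (LK LD1_c3 LD2_c56 LD3_c8))))))))
theorem f462414 : Led Lsl_ft (LP (LK LD1_c3 LD2_c42 LD3_c24)) = (LP (LK LD1_c3 LD2_c56 LD3_c8)) :=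
  Lgr Lrot54 (Lpe (K8.f122678 IH) (Lpr_ff (f462408 IH) (Lpe (f452019 IH) (Lpn (LP (LK LD1_c3 LD2_c56 LD3_c8))))))
theorem f462667 : Led Lsl_gt (LP (LK LD1_c3 LD2_c42 LD3_c24)) = (LP (LK LD1_c7 LD2_c25 LD3_c31)) :=
  Lre_g IH (LK LD1_c3 LD2_c42 LD3_c24) (LK LD1_c7 LD2_c25 LD3_c31) Lrfl Lrfl
theorem f462668 : Led Lsl_gf (LP (LK LD1_c3 LD2_c56 LD3_c30)) = (LP (LK LD1_c7 LD2_c25 LD3_c31)) :=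
  Lgr Lrot76 (Lpr_af (f462663 IH) (Lpe (f462414 IH) (Lpr_gt (f462667 IH) (Lpn (LP (LK LD1_c7 LD2_c25 LD3_c31))))))
theorem f462670 : Led Lsl_ct (LP (LK LD1_c14 LD2_c2 LD3_c32)) = (LP (LK LD1_c7 LD2_c25 LD3_c31)) :=
  Lre_c IH (LK LD1_c14 LD2_c2 LD3_c32) (LK LD1_c7 LD2_c25 LD3_c31) Lrfl Lrfl
theorem f446523 : Led Lsl_bt (LP (LK LD1_c0 LD2_c47 LD3_c43)) = (LP (LK LD1_c0 LD2_c21 LD3_c19)) :=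
  Lre_b IH (LK LD1_c0 LD2_c47 LD3_c43) (LK LD1_c0 LD2_c21 LD3_c19) Lrfl Lrfl
theorem f466462 : Led Lsl_cf (LP (LK LD1_c3 LD2_c31 LD3_c41)) = (LP (LK LD1_c3 LD2_c35 LD3_c34)) :=
  Lgr Lrot125 (Lpr_gt (f455599 IH) (Lpe (f446524 IH) (Lpr_bt (f446523 IH) (Lpr_gt (K24.f12714 IH) (Lpe (K24.f18776 IH) (Lpr_ct (K24.f64988 IH) (Lpr_gt (K1.f64929 IH) (Lpe (f18827 IH) (Lpr_bt (f18830 IH) (Lpr_gt (f466458 IH) (Lpn (LP (LK LD1_c3 LD2_c35 LD3_c34)))))))))))))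
theorem f464698 : Led Lsl_cf (LP (LK LD1_c3 LD2_c27 LD3_c42)) = (LP (LK LD1_c1 LD2_c55 LD3_c0)) :=
  Lgr Lrot11 (Lpr_ct (f464689 IH) (Lpn (LP (LK LD1_c1 LD2_c55 LD3_c0))))
theorem f451352 : Led Lsl_dt (LP (LK LD1_c3 LD2_c56 LD3_c35)) = (LP (LK LD1_c1 LD2_c55 LD3_c0)) :=
  Lre_d IH (LK LD1_c3 LD2_c56 LD3_c35) (LK LD1_c1 LD2_c55 LD3_c0) Lrfl Lrfl
theorem f451867 : Led Lsl_ct (LP (LK LD1_c7 LD2_c54 LD3_c54)) = (LP (LK LD1_c3 LD2_c56 LD3_c35)) :=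
  Lre_c IH (LK LD1_c7 LD2_c54 LD3_c54) (LK LD1_c3 LD2_c56 LD3_c35) Lrfl Lrfl
theorem f469188 : Led Lsl_df (LP (LK LD1_c7 LD2_c54 LD3_c54)) = (LP (LK LD1_c7 LD2_c22 LD3_c60)) :=
  Lgr Lrot43 (Lpr_ct (f451867 IH) (Lpr_dt (f451352 IH) (Lpe (f464698 IH) (Lpr_dt (f464608 IH) (Lpe (f466462 IH) (Lpr_dt (f455756 IH) (Lpr_ct (f459012 IH) (Lpr_dt (f469183 IH) (Lpr_ct (f121062 IH) (Lpr_dt (f121069 IH) (Lpe (f121199 IH) (Lpr_dt (K5.f128067 IH) (Lpe (f116477 IH) (Lpr_dt (K4.f116286 IH) (Lpr_ct (f116404 IH) (Lpn (LP (LK LD1_c7 LD2_c22 LD3_c60))))))))))))))))))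
theorem f469957 : Led Lsl_dt (LP (LK LD1_c7 LD2_c49 LD3_c59)) = (LP (LK LD1_c13 LD2_c24 LD3_c50)) :=
  Lgr Lrot60 (Lpr_ff (f465093 IH) (Lpr_df (f469188 IH) (Lpr_ff (f469952 IH) (Lpn (LP (LK LD1_c13 LD2_c24 LD3_c50))))))
theorem f469967 : Led Lsl_gf (LP (LK LD1_c14 LD2_c2 LD3_c32)) = (LP (LK LD1_c7 LD2_c49 LD3_c59)) :=
  Lgr Lrot147 (Lpr_ct (f462670 IH) (Lpe (f462668 IH) (Lpr_ct (f462192 IH) (Lpe (f462198 IH) (Lpe (f129183 IH) (Lpe (f12599 IH) (Lpe (f129182 IH) (Lpr_gf (f469965 IH) (Lpe (f469957 IH) (Lpn (LP (LK LD1_c7 LD2_c49 LD3_c59))))))))))))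
theorem f462671 : Led Lsl_ct (LP (LK LD1_c7 LD2_c25 LD3_c31)) = (LP (LK LD1_c14 LD2_c2 LD3_c32)) :=
  Lre_c IH (LK LD1_c7 LD2_c25 LD3_c31) (LK LD1_c14 LD2_c2 LD3_c32) Lrfl Lrfl
theorem f451835 : Led Lsl_dt (LP (LK LD1_c3 LD2_c56 LD3_c15)) = (LP (LK LD1_c1 LD2_c54 LD3_c51)) :=
  Lre_d IH (LK LD1_c3 LD2_c56 LD3_c15) (LK LD1_c1 LD2_c54 LD3_c51) Lrfl Lrfl
theorem f464435 : Led Lsl_gt (LP (LK LD1_c14 LD2_c2 LD3_c32)) = (LP (LK LD1_c7 LD2_c54 LD3_c8)) :=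
  Lgr Lrot150 (Lpe (f462671 IH) (Lpe (f462667 IH) (Lpe (K8.f122678 IH) (Lpr_gt (f26210 IH) (Lpe (f462800 IH) (Lpr_gt (f464425 IH) (Lpr_ct (f451262 IH) (Lpe (f451835 IH) (Lpe (f463042 IH) (Lpn (LP (LK LD1_c7 LD2_c54 LD3_c8))))))))))))
theorem f159946 : Led Lsl_bt (LP (LK LD1_c14 LD2_c46 LD3_c29)) = (LP (LK LD1_c7 LD2_c49 LD3_c59)) :=
  Lre_b IH (LK LD1_c14 LD2_c46 LD3_c29) (LK LD1_c7 LD2_c49 LD3_c59) Lrfl Lrfl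
theorem f451868 : Led Lsl_bt (LP (LK LD1_c7 LD2_c54 LD3_c54)) = (LP (LK LD1_c14 LD2_c55 LD3_c47)) :=
  Lre_b IH (LK LD1_c7 LD2_c54 LD3_c54) (LK LD1_c14 LD2_c55 LD3_c47) Lrfl Lrfl
theorem f465083 : Led Lsl_ft (LP (LK LD1_c7 LD2_c49 LD3_c59)) = (LP (LK LD1_c7 LD2_c54 LD3_c54)) :=
  Lgr Lrot75 (Lpe (f159946 IH) (Lpr_ff (f465078 IH) (Lpe (f451868 IH) (Lpn (LP (LK LD1_c7 LD2_c54 LD3_c54))))))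
theorem f469970 : Led Lsl_af (LP (LK LD1_c7 LD2_c54 LD3_c8)) = (LP (LK LD1_c7 LD2_c54 LD3_c54)) :=
  Lgr Lrot31 (Lpe (f464435 IH) (Lpr_gf (f469967 IH) (Lpr_ft (f465083 IH) (Lpn (LP (LK LD1_c7 LD2_c54 LD3_c54))))))
theorem f463033 : Led Lsl_et (LP (LK LD1_c7 LD2_c54 LD3_c8)) = (LP (LK LD1_c14 LD2_c54 LD3_c20)) :=
  Lre_e IH (LK LD1_c7 LD2_c54 LD3_c8) (LK LD1_c14 LD2_c54 LD3_c20) Lrfl Lrfl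
theorem f464739 : Led Lsl_et (LP (LK LD1_c14 LD2_c55 LD3_c48)) = (LP (LK LD1_c7 LD2_c54 LD3_c54)) :=
  Lre_e IH (LK LD1_c14 LD2_c55 LD3_c48) (LK LD1_c7 LD2_c54 LD3_c54) Lrfl Lrfl
theorem f469994 : Led Lsl_at (LP (LK LD1_c14 LD2_c54 LD3_c20)) = (LP (LK LD1_c14 LD2_c55 LD3_c48)) :=
  Lgr Lrot80 (Lpe (f463033 IH) (Lpr_af (f469970 IH) (Lpe (f464739 IH) (Lpn (LP (LK LD1_c14 LD2_c55 LD3_c48))))))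
theorem f463037 : Led Lsl_ft (LP (LK LD1_c24 LD2_c41 LD3_c27)) = (LP (LK LD1_c14 LD2_c54 LD3_c20)) :=
  Lre_f IH (LK LD1_c24 LD2_c41 LD3_c27) (LK LD1_c14 LD2_c54 LD3_c20) Lrfl Lrfl
theorem f470005 : Led Lsl_ft (LP (LK LD1_c14 LD2_c55 LD3_c48)) = (LP (LK LD1_c24 LD2_c43 LD3_c20)) :=
  Lre_f IH (LK LD1_c14 LD2_c55 LD3_c48) (LK LD1_c24 LD2_c43 LD3_c20) Lrfl Lrfl
theorem f470006 : Led Lsl_af (LP (LK LD1_c24 LD2_c41 LD3_c27)) = (LP (LK LD1_c24 LD2_c43 LD3_c20)) :=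
  Lgr Lrot45 (Lpr_ft (f463037 IH) (Lpr_at (f469994 IH) (Lpr_ft (f470005 IH) (Lpn (LP (LK LD1_c24 LD2_c43 LD3_c20))))))
theorem f463064 : Led Lsl_ct (LP (LK LD1_c24 LD2_c41 LD3_c27)) = (LP (LK LD1_c14 LD2_c54 LD3_c23)) :=
  Lre_c IH (LK LD1_c24 LD2_c41 LD3_c27) (LK LD1_c14 LD2_c54 LD3_c23) Lrfl Lrfl
theorem f470011 : Led Lsl_ct (LP (LK LD1_c14 LD2_c55 LD3_c51)) = (LP (LK LD1_c24 LD2_c43 LD3_c20)) :=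
  Lre_c IH (LK LD1_c14 LD2_c55 LD3_c51) (LK LD1_c24 LD2_c43 LD3_c20) Lrfl Lrfl
theorem f470012 : Led Lsl_at (LP (LK LD1_c14 LD2_c54 LD3_c23)) = (LP (LK LD1_c14 LD2_c55 LD3_c51)) :=
  Lgr Lrot107 (Lpe (f463064 IH) (Lpr_af (f470006 IH) (Lpe (f470011 IH) (Lpn (LP (LK LD1_c14 LD2_c55 LD3_c51))))))
theorem f470014 : Led Lsl_af (LP (LK LD1_c14 LD2_c54 LD3_c23)) = (LP (LK LD1_c14 LD2_c55 LD3_c51)) :=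
  Lgr Lrot0 (Lpr_at (f470012 IH) (Lpn (LP (LK LD1_c14 LD2_c55 LD3_c51))))
theorem f463050 : Led Lsl_ft (LP (LK LD1_c14 LD2_c54 LD3_c23)) = (LP (LK LD1_c7 LD2_c54 LD3_c9)) :=
  Lre_f IH (LK LD1_c14 LD2_c54 LD3_c23) (LK LD1_c7 LD2_c54 LD3_c9) Lrfl Lrfl
theorem f470028 : Led Lsl_ft (LP (LK LD1_c7 LD2_c54 LD3_c55)) = (LP (LK LD1_c14 LD2_c55 LD3_c51)) :=
  Lre_f IH (LK LD1_c7 LD2_c54 LD3_c55) (LK LD1_c14 LD2_c55 LD3_c51) Lrfl Lrfl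
theorem f470029 : Led Lsl_at (LP (LK LD1_c7 LD2_c54 LD3_c9)) = (LP (LK LD1_c7 LD2_c54 LD3_c55)) :=
  Lgr Lrot66 (Lpe (f463050 IH) (Lpr_af (f470014 IH) (Lpe (f470028 IH) (Lpn (LP (LK LD1_c7 LD2_c54 LD3_c55))))))
theorem f451842 : Led Lsl_et (LP (LK LD1_c3 LD2_c56 LD3_c15)) = (LP (LK LD1_c7 LD2_c54 LD3_c9)) :=
  Lre_e IH (LK LD1_c3 LD2_c56 LD3_c15) (LK LD1_c7 LD2_c54 LD3_c9) Lrfl Lrfl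
theorem f465110 : Led Lsl_et (LP (LK LD1_c7 LD2_c54 LD3_c55)) = (LP (LK LD1_c3 LD2_c56 LD3_c35)) :=
  Lre_e IH (LK LD1_c7 LD2_c54 LD3_c55) (LK LD1_c3 LD2_c56 LD3_c35) Lrfl Lrfl
theorem f470038 : Led Lsl_af (LP (LK LD1_c3 LD2_c56 LD3_c15)) = (LP (LK LD1_c3 LD2_c56 LD3_c35)) :=
  Lgr Lrot50 (Lpr_et (f451842 IH) (Lpr_at (f470029 IH) (Lpr_et (f465110 IH) (Lpn (LP (LK LD1_c3 LD2_c56 LD3_c35))))))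
theorem f209153 : Led Lsl_dt (LP (LK LD1_c3 LD2_c43 LD3_c44)) = (LP (LK LD1_c1 LD2_c48 LD3_c55)) :=
  Lre_d IH (LK LD1_c3 LD2_c43 LD3_c44) (LK LD1_c1 LD2_c48 LD3_c55) Lrfl Lrfl
theorem f463546 : Led Lsl_ct (LP (LK LD1_c7 LD2_c28 LD3_c5)) = (LP (LK LD1_c3 LD2_c43 LD3_c44)) :=
  Lre_c IH (LK LD1_c7 LD2_c28 LD3_c5) (LK LD1_c3 LD2_c43 LD3_c44) Lrfl Lrfl
theorem f465766 : Led Lsl_dt (LP (LK LD1_c14 LD2_c5 LD3_c60)) = (LP (LK LD1_c7 LD2_c28 LD3_c5)) :=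
  Lre_d IH (LK LD1_c14 LD2_c5 LD3_c60) (LK LD1_c7 LD2_c28 LD3_c5) Lrfl Lrfl
theorem f458840 : Led Lsl_ct (LP (LK LD1_c7 LD2_c4 LD3_c59)) = (LP (LK LD1_c13 LD2_c25 LD3_c35)) :=
  Lre_c IH (LK LD1_c7 LD2_c4 LD3_c59) (LK LD1_c13 LD2_c25 LD3_c35) Lrfl Lrfl
theorem f458882 : Led Lsl_dt (LP (LK LD1_c13 LD2_c25 LD3_c35)) = (LP (LK LD1_c22 LD2_c44 LD3_c40)) :=
  Lre_d IH (LK LD1_c13 LD2_c25 LD3_c35) (LK LD1_c22 LD2_c44 LD3_c40) Lrfl Lrfl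
theorem f465767 : Led Lsl_cf (LP (LK LD1_c14 LD2_c5 LD3_c60)) = (LP (LK LD1_c22 LD2_c44 LD3_c40)) :=
  Lgr Lrot116 (Lpr_dt (f465766 IH) (Lpr_ct (f463546 IH) (Lpr_dt (f209153 IH) (Lpr_ct (f131719 IH) (Lpr_af (f465758 IH) (Lpe (f458811 IH) (Lpr_dt (K24.f458819 IH) (Lpr_ct (f458840 IH) (Lpr_dt (f458882 IH) (Lpn (LP (LK LD1_c22 LD2_c44 LD3_c40))))))))))))
theorem f463542 : Led Lsl_ct (LP (LK LD1_c7 LD2_c28 LD3_c4)) = (LP (LK LD1_c14 LD2_c5 LD3_c57)) :=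
  Lre_c IH (LK LD1_c7 LD2_c28 LD3_c4) (LK LD1_c14 LD2_c5 LD3_c57) Lrfl Lrfl
theorem f458841 : Led Lsl_ct (LP (LK LD1_c13 LD2_c24 LD3_c54)) = (LP (LK LD1_c7 LD2_c4 LD3_c34)) :=
  Lre_c IH (LK LD1_c13 LD2_c24 LD3_c54) (LK LD1_c7 LD2_c4 LD3_c34) Lrfl Lrfl
theorem f458842 : Led Lsl_ft (LP (LK LD1_c13 LD2_c25 LD3_c35)) = (LP (LK LD1_c13 LD2_c24 LD3_c54)) :=
  Lgr Lrot4 (Lpe (f458840 IH) (Lpr_ff (K24.f458834 IH) (Lpe (f458841 IH) (Lpn (LP (LK LD1_c13 LD2_c24 LD3_c54))))))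
theorem f465775 : Led Lsl_af (LP (LK LD1_c14 LD2_c5 LD3_c57)) = (LP (LK LD1_c13 LD2_c24 LD3_c54)) :=
  Lgr Lrot109 (Lpe (f463542 IH) (Lpe (f463496 IH) (Lpe (f131719 IH) (Lpe (f209153 IH) (Lpe (f463546 IH) (Lpe (f465766 IH) (Lpr_cf (f465767 IH) (Lpe (f458882 IH) (Lpr_ft (f458842 IH) (Lpn (LP (LK LD1_c13 LD2_c24 LD3_c54))))))))))))
theorem f465781 : Led Lsl_et (LP (LK LD1_c14 LD2_c5 LD3_c57)) = (LP (LK LD1_c23 LD2_c39 LD3_c48)) :=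
  Lre_e IH (LK LD1_c14 LD2_c5 LD3_c57) (LK LD1_c23 LD2_c39 LD3_c48) Lrfl Lrfl
theorem f458863 : Led Lsl_et (LP (LK LD1_c22 LD2_c43 LD3_c24)) = (LP (LK LD1_c13 LD2_c24 LD3_c54)) :=
  Lre_e IH (LK LD1_c22 LD2_c43 LD3_c24) (LK LD1_c13 LD2_c24 LD3_c54) Lrfl Lrfl
theorem f465782 : Led Lsl_at (LP (LK LD1_c23 LD2_c39 LD3_c48)) = (LP (LK LD1_c22 LD2_c43 LD3_c24)) :=
  Lgr Lrot80 (Lpe (f465781 IH) (Lpr_af (f465775 IH) (Lpe (f458863 IH) (Lpn (LP (LK LD1_c22 LD2_c43 LD3_c24))))))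
theorem f463516 : Led Lsl_ct (LP (LK LD1_c14 LD2_c5 LD3_c58)) = (LP (LK LD1_c23 LD2_c39 LD3_c48)) :=
  Lre_c IH (LK LD1_c14 LD2_c5 LD3_c58) (LK LD1_c23 LD2_c39 LD3_c48) Lrfl Lrfl
theorem f458279 : Led Lsl_ct (LP (LK LD1_c22 LD2_c43 LD3_c24)) = (LP (LK LD1_c13 LD2_c24 LD3_c55)) :=
  Lre_c IH (LK LD1_c22 LD2_c43 LD3_c24) (LK LD1_c13 LD2_c24 LD3_c55) Lrfl Lrfl
theorem f465787 : Led Lsl_af (LP (LK LD1_c14 LD2_c5 LD3_c58)) = (LP (LK LD1_c13 LD2_c24 LD3_c55)) :=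
  Lgr Lrot68 (Lpr_ct (f463516 IH) (Lpr_at (f465782 IH) (Lpr_ct (f458279 IH) (Lpn (LP (LK LD1_c13 LD2_c24 LD3_c55))))))
theorem f458264 : Led Lsl_et (LP (LK LD1_c7 LD2_c5 LD3_c9)) = (LP (LK LD1_c13 LD2_c25 LD3_c61)) :=
  Lre_e IH (LK LD1_c7 LD2_c5 LD3_c9) (LK LD1_c13 LD2_c25 LD3_c61) Lrfl Lrfl
theorem f458265 : Led Lsl_et (LP (LK LD1_c13 LD2_c24 LD3_c55)) = (LP (LK LD1_c7 LD2_c4 LD3_c34)) :=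
  Lre_e IH (LK LD1_c13 LD2_c24 LD3_c55) (LK LD1_c7 LD2_c4 LD3_c34) Lrfl Lrfl
theorem f458266 : Led Lsl_dt (LP (LK LD1_c13 LD2_c25 LD3_c61)) = (LP (LK LD1_c13 LD2_c24 LD3_c55)) :=
  Lgr Lrot77 (Lpe (f458264 IH) (Lpe (K24.f455766 IH) (Lpr_ef (f458259 IH) (Lpe (K24.f455647 IH) (Lpe (f458265 IH) (Lpn (LP (LK LD1_c13 LD2_c24 LD3_c55))))))))
theorem f465795 : Led Lsl_at (LP (LK LD1_c14 LD2_c46 LD3_c28)) = (LP (LK LD1_c13 LD2_c25 LD3_c61)) :=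
  Lgr Lrot51 (Lpe (f463498 IH) (Lpr_af (f465787 IH) (Lpe (f458266 IH) (Lpn (LP (LK LD1_c13 LD2_c25 LD3_c61))))))
theorem f458254 : Led Lsl_et (LP (LK LD1_c13 LD2_c25 LD3_c61)) = (LP (LK LD1_c7 LD2_c5 LD3_c9)) :=
  Lre_e IH (LK LD1_c13 LD2_c25 LD3_c61) (LK LD1_c7 LD2_c5 LD3_c9) Lrfl Lrfl
theorem f465815 : Led Lsl_af (LP (LK LD1_c7 LD2_c49 LD3_c58)) = (LP (LK LD1_c7 LD2_c5 LD3_c9)) :=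
  Lgr Lrot50 (Lpr_et (f463518 IH) (Lpr_at (f465795 IH) (Lpr_et (f458254 IH) (Lpn (LP (LK LD1_c7 LD2_c5 LD3_c9))))))
theorem f458925 : Led Lsl_ff (LP (LK LD1_c7 LD2_c5 LD3_c9)) = (LP (LK LD1_c7 LD2_c4 LD3_c45)) :=
  Lgr Lrot19 (Lpr_dt (f455704 IH) (Lpr_ft (K24.f458912 IH) (Lpr_dt (K24.f455637 IH) (Lpn (LP (LK LD1_c7 LD2_c4 LD3_c45))))))
theorem f465820 : Led Lsl_gf (LP (LK LD1_c3 LD2_c56 LD3_c15)) = (LP (LK LD1_c7 LD2_c4 LD3_c45)) :=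
  Lgr Lrot47 (Lpr_gt (f463053 IH) (Lpr_af (f465815 IH) (Lpr_ff (f458925 IH) (Lpn (LP (LK LD1_c7 LD2_c4 LD3_c45))))))
theorem f160541 : Led Lsl_bt (LP (LK LD1_c7 LD2_c49 LD3_c57)) = (LP (LK LD1_c3 LD2_c54 LD3_c12)) :=
  Lre_b IH (LK LD1_c7 LD2_c49 LD3_c57) (LK LD1_c3 LD2_c54 LD3_c12) Lrfl Lrfl
theorem f464731 : Led Lsl_bt (LP (LK LD1_c3 LD2_c56 LD3_c35)) = (LP (LK LD1_c7 LD2_c54 LD3_c53)) :=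
  Lre_b IH (LK LD1_c3 LD2_c56 LD3_c35) (LK LD1_c7 LD2_c54 LD3_c53) Lrfl Lrfl
theorem f465051 : Led Lsl_ft (LP (LK LD1_c3 LD2_c54 LD3_c12)) = (LP (LK LD1_c3 LD2_c56 LD3_c35)) :=
  Lgr Lrot75 (Lpe (f160541 IH) (Lpr_ff (f465039 IH) (Lpe (f464731 IH) (Lpn (LP (LK LD1_c3 LD2_c56 LD3_c35))))))
theorem f470049 : Led Lsl_gf (LP (LK LD1_c7 LD2_c4 LD3_c45)) = (LP (LK LD1_c3 LD2_c54 LD3_c12)) :=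
  Lgr Lrot47 (Lpe (f465820 IH) (Lpr_af (f470038 IH) (Lpe (f465051 IH) (Lpn (LP (LK LD1_c3 LD2_c54 LD3_c12))))))
theorem f470051 : Led Lsl_gt (LP (LK LD1_c13 LD2_c25 LD3_c13)) = (LP (LK LD1_c7 LD2_c53 LD3_c60)) :=
  Lgr Lrot150 (Lpe (f455638 IH) (Lpr_gf (f470049 IH) (Lpe (K8.f134742 IH) (Lpe (f462866 IH) (Lpr_ct (f11203 IH) (Lpr_gt (K24.f11356 IH) (Lpr_ct (K24.f451281 IH) (Lpe (f452019 IH) (Lpe (f452020 IH) (Lpn (LP (LK LD1_c7 LD2_c53 LD3_c60))))))))))))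
theorem f462517 : Led Lsl_bt (LP (LK LD1_c3 LD2_c56 LD3_c8)) = (LP (LK LD1_c7 LD2_c53 LD3_c59)) :=
  Lre_b IH (LK LD1_c3 LD2_c56 LD3_c8) (LK LD1_c7 LD2_c53 LD3_c59) Lrfl Lrfl
theorem f462521 : Led Lsl_gt (LP (LK LD1_c7 LD2_c53 LD3_c59)) = (LP (LK LD1_c14 LD2_c53 LD3_c58)) :=
  Lre_g IH (LK LD1_c7 LD2_c53 LD3_c59) (LK LD1_c14 LD2_c53 LD3_c58) Lrfl Lrfl
theorem f159824 : Led Lsl_bt (LP (LK LD1_c7 LD2_c51 LD3_c49)) = (LP (LK LD1_c3 LD2_c55 LD3_c5)) :=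
  Lre_b IH (LK LD1_c7 LD2_c51 LD3_c49) (LK LD1_c3 LD2_c55 LD3_c5) Lrfl Lrfl
theorem f11799 : Led Lsl_ct (LP (LK LD1_c7 LD2_c51 LD3_c49)) = (LP (LK LD1_c14 LD2_c49 LD3_c51)) :=
  Lre_c IH (LK LD1_c7 LD2_c51 LD3_c49) (LK LD1_c14 LD2_c49 LD3_c51) Lrfl Lrfl
theorem f11822 : Led Lsl_gt (LP (LK LD1_c24 LD2_c36 LD3_c9)) = (LP (LK LD1_c14 LD2_c49 LD3_c51)) :=
  Lre_g IH (LK LD1_c24 LD2_c36 LD3_c9) (LK LD1_c14 LD2_c49 LD3_c51) Lrfl Lrfl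
theorem f470354 : Led Lsl_ct (LP (LK LD1_c14 LD2_c53 LD3_c58)) = (LP (LK LD1_c24 LD2_c36 LD3_c9)) :=
  Lgr Lrot91 (Lpe (f462521 IH) (Lpe (f462517 IH) (Lpr_ct (f462422 IH) (Lpe (f470051 IH) (Lpe (f455638 IH) (Lpr_bt (f470309 IH) (Lpe (f142318 IH) (Lpe (f159824 IH) (Lpr_ct (f11799 IH) (Lpe (f11822 IH) (Lpn (LP (LK LD1_c24 LD2_c36 LD3_c9)))))))))))))
theorem f462524 : Led Lsl_dt (LP (LK LD1_c7 LD2_c53 LD3_c59)) = (LP (LK LD1_c3 LD2_c56 LD3_c7)) :=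
  Lre_d IH (LK LD1_c7 LD2_c53 LD3_c59) (LK LD1_c3 LD2_c56 LD3_c7) Lrfl Lrfl
theorem f452022 : Led Lsl_gt (LP (LK LD1_c3 LD2_c56 LD3_c7)) = (LP (LK LD1_c7 LD2_c53 LD3_c56)) :=
  Lre_g IH (LK LD1_c3 LD2_c56 LD3_c7) (LK LD1_c7 LD2_c53 LD3_c56) Lrfl Lrfl
theorem f11735 : Led Lsl_ct (LP (LK LD1_c14 LD2_c49 LD3_c51)) = (LP (LK LD1_c7 LD2_c51 LD3_c49)) :=
  Lre_c IH (LK LD1_c14 LD2_c49 LD3_c51) (LK LD1_c7 LD2_c51 LD3_c49) Lrfl Lrfl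
theorem f11798 : Led Lsl_dt (LP (LK LD1_c3 LD2_c55 LD3_c4)) = (LP (LK LD1_c7 LD2_c51 LD3_c49)) :=
  Lre_d IH (LK LD1_c3 LD2_c55 LD3_c4) (LK LD1_c7 LD2_c51 LD3_c49) Lrfl Lrfl
theorem f11580 : Led Lsl_ct (LP (LK LD1_c0 LD2_c48 LD3_c19)) = (LP (LK LD1_c1 LD2_c43 LD3_c19)) :=
  Lre_c IH (LK LD1_c0 LD2_c48 LD3_c19) (LK LD1_c1 LD2_c43 LD3_c19) Lrfl Lrfl
theorem f11659 : Led Lsl_bt (LP (LK LD1_c1 LD2_c43 LD3_c19)) = (LP (LK LD1_c3 LD2_c33 LD3_c6)) :=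
  Lre_b IH (LK LD1_c1 LD2_c43 LD3_c19) (LK LD1_c3 LD2_c33 LD3_c6) Lrfl Lrfl
theorem f11660 : Led Lsl_cf (LP (LK LD1_c3 LD2_c55 LD3_c4)) = (LP (LK LD1_c3 LD2_c33 LD3_c6)) :=
  Lgr Lrot97 (Lpr_bt (f11657 IH) (Lpr_ct (K8.f11652 IH) (Lpr_bt (K8.f11658 IH) (Lpr_ct (f11580 IH) (Lpr_bt (f11659 IH) (Lpn (LP (LK LD1_c3 LD2_c33 LD3_c6))))))))
theorem f11760 : Led Lsl_gt (LP (LK LD1_c7 LD2_c7 LD3_c3)) = (LP (LK LD1_c3 LD2_c33 LD3_c6)) :=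
  Lre_g IH (LK LD1_c7 LD2_c7 LD3_c3) (LK LD1_c3 LD2_c33 LD3_c6) Lrfl Lrfl
theorem f470358 : Led Lsl_ct (LP (LK LD1_c7 LD2_c53 LD3_c56)) = (LP (LK LD1_c7 LD2_c7 LD3_c3)) :=
  Lgr Lrot152 (Lpe (f452022 IH) (Lpe (f462524 IH) (Lpr_gt (f462521 IH) (Lpr_ct (f470354 IH) (Lpr_gt (f11822 IH) (Lpr_ct (f11735 IH) (Lpe (f11798 IH) (Lpr_cf (f11660 IH) (Lpe (f11760 IH) (Lpn (LP (LK LD1_c7 LD2_c7 LD3_c3))))))))))))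
theorem f452016 : Led Lsl_bt (LP (LK LD1_c1 LD2_c54 LD3_c47)) = (LP (LK LD1_c3 LD2_c56 LD3_c7)) :=
  Lre_b IH (LK LD1_c1 LD2_c54 LD3_c47) (LK LD1_c3 LD2_c56 LD3_c7) Lrfl Lrfl
theorem f451263 : Led Lsl_bt (LP (LK LD1_c0 LD2_c54 LD3_c6)) = (LP (LK LD1_c1 LD2_c54 LD3_c52)) :=
  Lre_b IH (LK LD1_c0 LD2_c54 LD3_c6) (LK LD1_c1 LD2_c54 LD3_c52) Lrfl Lrfl
theorem f470369 : Led Lsl_gf (LP (LK LD1_c1 LD2_c54 LD3_c52)) = (LP (LK LD1_c1 LD2_c54 LD3_c8)) :=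
  Lgr Lrot124 (Lpe (f451263 IH) (Lpr_ct (f11203 IH) (Lpr_gt (K24.f11356 IH) (Lpe (f452015 IH) (Lpr_bt (f452016 IH) (Lpr_gt (f452022 IH) (Lpr_ct (f470358 IH) (Lpr_gt (f11760 IH) (Lpe (K8.f11715 IH) (Lpr_bt (f11657 IH) (Lpn (LP (LK LD1_c1 LD2_c54 LD3_c8)))))))))))))
theorem f451273 : Led Lsl_bt (LP (LK LD1_c0 LD2_c54 LD3_c9)) = (LP (LK LD1_c0 LD2_c24 LD3_c21)) :=
  Lre_b IH (LK LD1_c0 LD2_c54 LD3_c9) (LK LD1_c0 LD2_c24 LD3_c21) Lrfl Lrfl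
theorem f451213 : Led Lsl_bt (LP (LK LD1_c0 LD2_c24 LD3_c17)) = (LP (LK LD1_c0 LD2_c54 LD3_c1)) :=
  Lre_b IH (LK LD1_c0 LD2_c24 LD3_c17) (LK LD1_c0 LD2_c54 LD3_c1) Lrfl Lrfl
def v659 : LQ := Led Lsl_gf (LP (LK LD1_c0 LD2_c48 LD3_c19))
theorem f455824 : Led Lsl_gf (LP (LK LD1_c0 LD2_c48 LD3_c19)) = v659 :=
  Lrfl
theorem f470373 : (LP (LK LD1_c0 LD2_c54 LD3_c1)) = v659 :=
  (Llr Lrot22 (Lpe (f451213 IH) (Lpq (K24.f457379 IH) (Lpe (K24.f450698 IH) (Lpe (K24.f15769 IH) (Lpe (K0.f15708 IH) (Lpqs (K24.f457688 IH) (Lpe (K24.f451272 IH) (Lpe (f451273 IH) (Lpr_ct (f451279 IH) (Lpr_gf (f470369 IH) (Lpr_cf (K8.f11662 IH) (Lpr_bt (K8.f11658 IH) (Lpr_gf (f455824 IH) (Lpn v659))))))))))))))).symm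
theorem f160098 : Led Lsl_at (LP (LK LD1_c0 LD2_c49 LD3_c20)) = (LP (LK LD1_c0 LD2_c48 LD3_c19)) :=
  Lgr Lrot100 (Lpr_af (K8.f160094 IH) (Lpn (LP (LK LD1_c0 LD2_c48 LD3_c19))))
theorem f455825 : Led Lsl_gt (LP (LK LD1_c1 LD2_c45 LD3_c17)) = v659 :=
  Lgr Lrot5 (Lpr_ft (K24.f107944 IH) (Lpr_at (f160098 IH) (Lpr_gf (f455824 IH) (Lpn v659))))
theorem f17340 : Led Lsl_ct (LP (LK LD1_c3 LD2_c36 LD3_c52)) = (LP (LK LD1_c1 LD2_c45 LD3_c17)) :=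
  Lre_c IH (LK LD1_c3 LD2_c36 LD3_c52) (LK LD1_c1 LD2_c45 LD3_c17) Lrfl Lrfl
theorem f17341 : Led Lsl_bt (LP (LK LD1_c7 LD2_c13 LD3_c48)) = (LP (LK LD1_c3 LD2_c36 LD3_c52)) :=
  Lre_b IH (LK LD1_c7 LD2_c13 LD3_c48) (LK LD1_c3 LD2_c36 LD3_c52) Lrfl Lrfl
theorem f17343 : Led Lsl_cf (LP (LK LD1_c7 LD2_c13 LD3_c48)) = (LP (LK LD1_c7 LD2_c37 LD3_c50)) :=
  Lgr Lrot97 (Lpr_bt (f17341 IH) (Lpr_ct (f17340 IH) (Lpr_bt (K24.f17339 IH) (Lpr_ct (K3.f17331 IH) (Lpr_bt (f17342 IH) (Lpn (LP (LK LD1_c7 LD2_c37 LD3_c50))))))))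
theorem f15691 : Led Lsl_ct (LP (LK LD1_c0 LD2_c53 LD3_c4)) = (LP (LK LD1_c0 LD2_c23 LD3_c58)) :=
  Lre_c IH (LK LD1_c0 LD2_c53 LD3_c4) (LK LD1_c0 LD2_c23 LD3_c58) Lrfl Lrfl
theorem f15699 : Led Lsl_bt (LP (LK LD1_c3 LD2_c27 LD3_c22)) = (LP (LK LD1_c1 LD2_c40 LD3_c18)) :=
  Lre_b IH (LK LD1_c3 LD2_c27 LD3_c22) (LK LD1_c1 LD2_c40 LD3_c18) Lrfl Lrfl
theorem f15700 : Led Lsl_ct (LP (LK LD1_c3 LD2_c27 LD3_c22)) = (LP (LK LD1_c6 LD2_c56 LD3_c48)) :=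
  Lre_c IH (LK LD1_c3 LD2_c27 LD3_c22) (LK LD1_c6 LD2_c56 LD3_c48) Lrfl Lrfl
theorem f465270 : Led Lsl_gf (LP (LK LD1_c7 LD2_c13 LD3_c48)) = (LP (LK LD1_c6 LD2_c56 LD3_c48)) :=
  Lgr Lrot126 (Lpr_cf (f17343 IH) (Lpr_bt (K3.f17356 IH) (Lpr_gt (f465256 IH) (Lpr_ct (f15698 IH) (Lpr_gt (f15697 IH) (Lpe (f15691 IH) (Lpr_bt (K0.f15624 IH) (Lpr_gt (K2.f15685 IH) (Lpe (f15699 IH) (Lpr_ct (f15700 IH) (Lpn (LP (LK LD1_c6 LD2_c56 LD3_c48)))))))))))))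
theorem f470509 : Led Lsl_bt (LP (LK LD1_c3 LD2_c33 LD3_c24)) = (LP (LK LD1_c6 LD2_c56 LD3_c48)) :=
  Lgr Lrot22 (Lpe (f468869 IH) (Lpe (f5750 IH) (Lpe (f17483 IH) (Lpr_gf (f464215 IH) (Lpe (f458629 IH) (Lpr_ct (f451228 IH) (Lpqs (f470373 IH) (Lpe (f455825 IH) (Lpe (f17340 IH) (Lpr_bt (K3.f17355 IH) (Lpr_gf (f465270 IH) (Lpn (LP (LK LD1_c6 LD2_c56 LD3_c48))))))))))))))
theorem f17496 : Led Lsl_gt (LP (LK LD1_c7 LD2_c14 LD3_c10)) = (LP (LK LD1_c3 LD2_c36 LD3_c58)) :=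
  Lre_g IH (LK LD1_c7 LD2_c14 LD3_c10) (LK LD1_c3 LD2_c36 LD3_c58) Lrfl Lrfl
theorem f17497 : Led Lsl_bt (LP (LK LD1_c13 LD2_c41 LD3_c34)) = (LP (LK LD1_c7 LD2_c14 LD3_c10)) :=
  Lre_b IH (LK LD1_c13 LD2_c41 LD3_c34) (LK LD1_c7 LD2_c14 LD3_c10) Lrfl Lrfl
theorem f470516 : Led Lsl_ct (LP (LK LD1_c13 LD2_c41 LD3_c34)) = (LP (LK LD1_c14 LD2_c22 LD3_c43)) :=
  Lgr Lrot63 (Lpr_bt (f17497 IH) (Lpr_gt (f17496 IH) (Lpe (f17482 IH) (Lpr_ct (f17483 IH) (Lpr_gt (f5750 IH) (Lpr_cf (f468869 IH) (Lpr_bt (f470509 IH) (Lpe (f465270 IH) (Lpr_ct (K3.f17357 IH) (Lpr_gt (f17351 IH) (Lpn (LP (LK LD1_c14 LD2_c22 LD3_c43)))))))))))))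
theorem f465614 : Led Lsl_gt (LP (LK LD1_c13 LD2_c14 LD3_c4)) = (LP (LK LD1_c7 LD2_c14 LD3_c10)) :=
  Lgr Lrot5 (Lpr_ft (f465604 IH) (Lpr_at (K8.f96575 IH) (Lpe (f17496 IH) (Lpn (LP (LK LD1_c7 LD2_c14 LD3_c10))))))
theorem f464202 : Led Lsl_bt (LP (LK LD1_c3 LD2_c28 LD3_c10)) = (LP (LK LD1_c6 LD2_c58 LD3_c31)) :=
  Lre_b IH (LK LD1_c3 LD2_c28 LD3_c10) (LK LD1_c6 LD2_c58 LD3_c31) Lrfl Lrfl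
theorem f465632 : Led Lsl_at (LP (LK LD1_c6 LD2_c58 LD3_c31)) = (LP (LK LD1_c13 LD2_c14 LD3_c33)) :=
  Lre_a IH (LK LD1_c6 LD2_c58 LD3_c31) (LK LD1_c13 LD2_c14 LD3_c33) Lrfl Lrfl
theorem f465633 : Led Lsl_bf (LP (LK LD1_c13 LD2_c14 LD3_c4)) = (LP (LK LD1_c13 LD2_c14 LD3_c33)) :=
  Lgr Lrot81 (Lpr_at (f465594 IH) (Lpr_bt (f455313 IH) (Lpr_at (f465630 IH) (Lpr_bt (f464202 IH) (Lpr_at (f465632 IH) (Lpn (LP (LK LD1_c13 LD2_c14 LD3_c33))))))))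
theorem f17374 : Led Lsl_at (LP (LK LD1_c3 LD2_c36 LD3_c47)) = (LP (LK LD1_c7 LD2_c13 LD3_c45)) :=
  Lre_a IH (LK LD1_c3 LD2_c36 LD3_c47) (LK LD1_c7 LD2_c13 LD3_c45) Lrfl Lrfl
theorem f17375 : Led Lsl_at (LP (LK LD1_c7 LD2_c37 LD3_c46)) = (LP (LK LD1_c3 LD2_c48 LD3_c23)) :=
  Lre_a IH (LK LD1_c7 LD2_c37 LD3_c46) (LK LD1_c3 LD2_c48 LD3_c23) Lrfl Lrfl
theorem f17376 : Led Lsl_ct (LP (LK LD1_c7 LD2_c13 LD3_c45)) = (LP (LK LD1_c7 LD2_c37 LD3_c46)) :=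
  Lgr Lrot111 (Lpe (f17374 IH) (Lpr_cf (K3.f17367 IH) (Lpe (f17375 IH) (Lpn (LP (LK LD1_c7 LD2_c37 LD3_c46))))))
theorem f11733 : Led Lsl_bt (LP (LK LD1_c3 LD2_c33 LD3_c6)) = (LP (LK LD1_c1 LD2_c43 LD3_c19)) :=
  Lre_b IH (LK LD1_c3 LD2_c33 LD3_c6) (LK LD1_c1 LD2_c43 LD3_c19) Lrfl Lrfl
theorem f11743 : Led Lsl_at (LP (LK LD1_c7 LD2_c7 LD3_c1)) = (LP (LK LD1_c3 LD2_c33 LD3_c6)) :=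
  Lre_a IH (LK LD1_c7 LD2_c7 LD3_c1) (LK LD1_c3 LD2_c33 LD3_c6) Lrfl Lrfl
theorem f160448 : Led Lsl_bt (LP (LK LD1_c7 LD2_c13 LD3_c45)) = (LP (LK LD1_c7 LD2_c7 LD3_c1)) :=
  Lgr Lrot62 (Lpe (f17374 IH) (Lpe (f17321 IH) (Lpr_af (K8.f160204 IH) (Lpe (f11733 IH) (Lpe (f11743 IH) (Lpn (LP (LK LD1_c7 LD2_c7 LD3_c1))))))))
theorem f11793 : Led Lsl_gt (LP (LK LD1_c7 LD2_c7 LD3_c1)) = (LP (LK LD1_c13 LD2_c29 LD3_c13)) :=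
  Lre_g IH (LK LD1_c7 LD2_c7 LD3_c1) (LK LD1_c13 LD2_c29 LD3_c13) Lrfl Lrfl
theorem f465125 : Led Lsl_ct (LP (LK LD1_c13 LD2_c29 LD3_c13)) = (LP (LK LD1_c7 LD2_c25 LD3_c15)) :=
  Lgr Lrot59 (Lpr_cf (f465122 IH) (Lpn (LP (LK LD1_c7 LD2_c25 LD3_c15))))
theorem f462412 : Led Lsl_ft (LP (LK LD1_c3 LD2_c42 LD3_c17)) = (LP (LK LD1_c3 LD2_c56 LD3_c7)) :=
  Lgr Lrot75 (Lpe (K8.f26203 IH) (Lpr_ff (f462408 IH) (Lpe (f458176 IH) (Lpn (LP (LK LD1_c3 LD2_c56 LD3_c7))))))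
theorem f462609 : Led Lsl_at (LP (LK LD1_c3 LD2_c56 LD3_c7)) = (LP (LK LD1_c7 LD2_c53 LD3_c58)) :=
  Lre_a IH (LK LD1_c3 LD2_c56 LD3_c7) (LK LD1_c7 LD2_c53 LD3_c58) Lrfl Lrfl
theorem f462781 : Led Lsl_gt (LP (LK LD1_c7 LD2_c25 LD3_c15)) = (LP (LK LD1_c7 LD2_c53 LD3_c58)) :=
  Lgr Lrot46 (Lpe (f108067 IH) (Lpr_ft (f462412 IH) (Lpr_at (f462609 IH) (Lpn (LP (LK LD1_c7 LD2_c53 LD3_c58))))))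
theorem f470523 : Led Lsl_ct (LP (LK LD1_c13 LD2_c14 LD3_c33)) = (LP (LK LD1_c7 LD2_c53 LD3_c58)) :=
  Lgr Lrot63 (Lpe (f465633 IH) (Lpr_gt (f465614 IH) (Lpe (f17497 IH) (Lpr_ct (f470516 IH) (Lpr_gt (f17430 IH) (Lpe (f17376 IH) (Lpr_bt (f160448 IH) (Lpr_gt (f11793 IH) (Lpr_ct (f465125 IH) (Lpr_gt (f462781 IH) (Lpn (LP (LK LD1_c7 LD2_c53 LD3_c58)))))))))))))
theorem f108128 : Led Lsl_et (LP (LK LD1_c7 LD2_c8 LD3_c3)) = (LP (LK LD1_c3 LD2_c33 LD3_c36)) :=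
  Lre_e IH (LK LD1_c7 LD2_c8 LD3_c3) (LK LD1_c3 LD2_c33 LD3_c36) Lrfl Lrfl
theorem f108129 : Led Lsl_et (LP (LK LD1_c3 LD2_c42 LD3_c15)) = (LP (LK LD1_c7 LD2_c25 LD3_c11)) :=
  Lre_e IH (LK LD1_c3 LD2_c42 LD3_c15) (LK LD1_c7 LD2_c25 LD3_c11) Lrfl Lrfl
theorem f108130 : Led Lsl_cf (LP (LK LD1_c7 LD2_c8 LD3_c3)) = (LP (LK LD1_c7 LD2_c25 LD3_c11)) :=
  Lgr Lrot39 (Lpr_et (f108128 IH) (Lpr_ct (f108121 IH) (Lpr_et (f108129 IH) (Lpn (LP (LK LD1_c7 LD2_c25 LD3_c11))))))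
theorem f470531 : Led Lsl_ff (LP (LK LD1_c13 LD2_c14 LD3_c33)) = (LP (LK LD1_c7 LD2_c8 LD3_c3)) :=
  Lgr Lrot23 (Lpr_ct (f470523 IH) (Lpe (f462567 IH) (Lpe (f108130 IH) (Lpn (LP (LK LD1_c7 LD2_c8 LD3_c3))))))
theorem f470533 : Led Lsl_at (LP (LK LD1_c13 LD2_c14 LD3_c33)) = (LP (LK LD1_c6 LD2_c58 LD3_c31)) :=
  Lre_a IH (LK LD1_c13 LD2_c14 LD3_c33) (LK LD1_c6 LD2_c58 LD3_c31) Lrfl Lrfl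
theorem f470534 : Led Lsl_ft (LP (LK LD1_c6 LD2_c58 LD3_c31)) = (LP (LK LD1_c3 LD2_c33 LD3_c38)) :=
  Lgr Lrot101 (Lpe (f470533 IH) (Lpr_ff (f470531 IH) (Lpe (K8.f108052 IH) (Lpn (LP (LK LD1_c3 LD2_c33 LD3_c38))))))
theorem f470567 : Led Lsl_dt (LP (LK LD1_c13 LD2_c14 LD3_c34)) = (LP (LK LD1_c6 LD2_c58 LD3_c31)) :=
  Lre_d IH (LK LD1_c13 LD2_c14 LD3_c34) (LK LD1_c6 LD2_c58 LD3_c31) Lrfl Lrfl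
theorem f108056 : Led Lsl_dt (LP (LK LD1_c3 LD2_c33 LD3_c38)) = (LP (LK LD1_c7 LD2_c8 LD3_c6)) :=
  Lre_d IH (LK LD1_c3 LD2_c33 LD3_c38) (LK LD1_c7 LD2_c8 LD3_c6) Lrfl Lrfl
theorem f470605 : Led Lsl_ff (LP (LK LD1_c13 LD2_c14 LD3_c34)) = (LP (LK LD1_c7 LD2_c8 LD3_c6)) :=
  Lgr Lrot19 (Lpr_dt (f470567 IH) (Lpr_ft (f470534 IH) (Lpr_dt (f108056 IH) (Lpn (LP (LK LD1_c7 LD2_c8 LD3_c6))))))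
theorem f470601 : Led Lsl_bt (LP (LK LD1_c13 LD2_c14 LD3_c34)) = (LP (LK LD1_c6 LD2_c58 LD3_c32)) :=
  Lre_b IH (LK LD1_c13 LD2_c14 LD3_c34) (LK LD1_c6 LD2_c58 LD3_c32) Lrfl Lrfl
theorem f160347 : Led Lsl_bt (LP (LK LD1_c3 LD2_c33 LD3_c40)) = (LP (LK LD1_c7 LD2_c8 LD3_c6)) :=
  Lre_b IH (LK LD1_c3 LD2_c33 LD3_c40) (LK LD1_c7 LD2_c8 LD3_c6) Lrfl Lrfl
theorem f470611 : Led Lsl_ft (LP (LK LD1_c6 LD2_c58 LD3_c32)) = (LP (LK LD1_c3 LD2_c33 LD3_c40)) :=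
  Lgr Lrot75 (Lpe (f470601 IH) (Lpr_ff (f470605 IH) (Lpe (f160347 IH) (Lpn (LP (LK LD1_c3 LD2_c33 LD3_c40))))))
theorem f10683 : Led Lsl_gt (LP (LK LD1_c7 LD2_c14 LD3_c17)) = (LP (LK LD1_c3 LD2_c36 LD3_c60)) :=
  Lre_g IH (LK LD1_c7 LD2_c14 LD3_c17) (LK LD1_c3 LD2_c36 LD3_c60) Lrfl Lrfl
theorem f470629 : Led Lsl_gt (LP (LK LD1_c6 LD2_c58 LD3_c32)) = (LP (LK LD1_c7 LD2_c14 LD3_c17)) :=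
  Lgr Lrot5 (Lpr_ft (f470611 IH) (Lpe (K8.f160343 IH) (Lpe (f10683 IH) (Lpn (LP (LK LD1_c7 LD2_c14 LD3_c17))))))
theorem f455333 : Led Lsl_dt (LP (LK LD1_c3 LD2_c28 LD3_c10)) = (LP (LK LD1_c6 LD2_c58 LD3_c32)) :=
  Lre_d IH (LK LD1_c3 LD2_c28 LD3_c10) (LK LD1_c6 LD2_c58 LD3_c32) Lrfl Lrfl
theorem f446494 : Led Lsl_dt (LP (LK LD1_c1 LD2_c38 LD3_c56)) = (LP (LK LD1_c3 LD2_c24 LD3_c61)) :=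
  Lre_d IH (LK LD1_c1 LD2_c38 LD3_c56) (LK LD1_c3 LD2_c24 LD3_c61) Lrfl Lrfl

end

end K28

end

end Cfsg.Agent.Helper28.S1692
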