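import Cfsg.Agent.Lib.Helper28.S1692.Seeds28

set_option autoImplicit false
set_option maxRecDepth 100000
set_option linter.all false

namespace Cfsg.Agent.Helper28.S1692

open Cfsg.Agent.Helper28
open Cfsg.Spor.ON (Gen)

noncomputable section

namespace K29
abbrev LD1_c0 := D1.c0
abbrev LD1_c1 := D1.c1
abbrev LD1_c2 := D1.c2
abbrev LD1_c3 := D1.c3
abbrev LD1_c4 := D1.c4
abbrev LD1_c5 := D1.c5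
abbrev LD1_c6 := D1.c6
abbrev LD1_c7 := D1.c7
abbrev LD1_c8 := D1.c8
abbrev LD1_c9 := D1.c9
abbrev LD1_c10 := D1.c10
abbrev LD1_c11 := D1.c11
abbrev LD1_c12 := D1.c12
abbrev LD1_c13 := D1.c13
abbrev LD1_c14 := D1.c14
abbrev LD1_c15 := D1.c15
abbrev LD1_c16 := D1.c16
abbrev LD1_c17 := D1.c17
abbrev LD1_c18 := D1.c18
abbrev LD1_c19 := D1.c19
abbrev LD1_c20 := D1.c20
abbrev LD1_c21 := D1.c21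
abbrev LD1_c22 := D1.c22
abbrev LD1_c23 := D1.c23
abbrev LD1_c24 := D1.c24
abbrev LD1_c25 := D1.c25
abbrev LD1_c26 := D1.c26
abbrev LD1_c27 := D1.c27
abbrev LD1_c28 := D1.c28
abbrev LD1_c29 := D1.c29
abbrev LD1_c30 := D1.c30
abbrev LD1_c31 := D1.c31
abbrev LD1_c32 := D1.c32
abbrev LD2_c0 := D2.c0
abbrev LD2_c1 := D2.c1
abbrev LD2_c2 := D2.c2
abbrev LD2_c3 := D2.c3
abbrev LD2_c4 := D2.c4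
abbrev LD2_c5 := D2.c5
abbrev LD2_c6 := D2.c6
abbrev LD2_c7 := D2.c7
abbrev LD2_c8 := D2.c8
abbrev LD2_c9 := D2.c9
abbrev LD2_c10 := D2.c10
abbrev LD2_c11 := D2.c11
abbrev LD2_c12 := D2.c12
abbrev LD2_c13 := D2.c13
abbrev LD2_c14 := D2.c14
abbrev LD2_c15 := D2.c15
abbrev LD2_c16 := D2.c16
abbrev LD2_c17 := D2.c17
abbrev LD2_c18 := D2.c18
abbrev LD2_c19 := D2.c19
abbrev LD2_c20 := D2.c20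
abbrev LD2_c21 := D2.c21
abbrev LD2_c22 := D2.c22
abbrev LD2_c23 := D2.c23
abbrev LD2_c24 := D2.c24
abbrev LD2_c25 := D2.c25
abbrev LD2_c26 := D2.c26
abbrev LD2_c27 := D2.c27
abbrev LD2_c28 := D2.c28
abbrev LD2_c29 := D2.c29
abbrev LD2_c30 := D2.c30
abbrev LD2_c31 := D2.c31
abbrev LD2_c32 := D2.c32
abbrev LD2_c33 := D2.c33
abbrev LD2_c34 := D2.c34
abbrev LD2_c35 := D2.c35
abbrev LD2_c36 := D2.c36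
abbrev LD2_c37 := D2.c37
abbrev LD2_c38 := D2.c38
abbrev LD2_c39 := D2.c39
abbrev LD2_c40 := D2.c40
abbrev LD2_c41 := D2.c41
abbrev LD2_c42 := D2.c42
abbrev LD2_c43 := D2.c43
abbrev LD2_c44 := D2.c44
abbrev LD2_c45 := D2.c45
abbrev LD2_c46 := D2.c46
abbrev LD2_c47 := D2.c47
abbrev LD2_c48 := D2.c48
abbrev LD2_c49 := D2.c49
abbrev LD2_c50 := D2.c50
abbrev LD2_c51 := D2.c51
abbrev LD2_c52 := D2.c52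
abbrev LD2_c53 := D2.c53
abbrev LD2_c54 := D2.c54
abbrev LD2_c55 := D2.c55
abbrev LD2_c56 := D2.c56
abbrev LD2_c57 := D2.c57
abbrev LD2_c58 := D2.c58
abbrev LD2_c59 := D2.c59
abbrev LD3_c0 := D3.c0
abbrev LD3_c1 := D3.c1
abbrev LD3_c2 := D3.c2
abbrev LD3_c3 := D3.c3
abbrev LD3_c4 := D3.c4
abbrev LD3_c5 := D3.c5
abbrev LD3_c6 := D3.c6
abbrev LD3_c7 := D3.c7
abbrev LD3_c8 := D3.c8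
abbrev LD3_c9 := D3.c9
abbrev LD3_c10 := D3.c10
abbrev LD3_c11 := D3.c11
abbrev LD3_c12 := D3.c12
abbrev LD3_c13 := D3.c13
abbrev LD3_c14 := D3.c14
abbrev LD3_c15 := D3.c15
abbrev LD3_c16 := D3.c16
abbrev LD3_c17 := D3.c17
abbrev LD3_c18 := D3.c18
abbrev LD3_c19 := D3.c19
abbrev LD3_c20 := D3.c20
abbrev LD3_c21 := D3.c21
abbrev LD3_c22 := D3.c22
abbrev LD3_c23 := D3.c23
abbrev LD3_c24 := D3.c24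
abbrev LD3_c25 := D3.c25
abbrev LD3_c26 := D3.c26
abbrev LD3_c27 := D3.c27
abbrev LD3_c28 := D3.c28
abbrev LD3_c29 := D3.c29
abbrev LD3_c30 := D3.c30
abbrev LD3_c31 := D3.c31
abbrev LD3_c32 := D3.c32
abbrev LD3_c33 := D3.c33
abbrev LD3_c34 := D3.c34
abbrev LD3_c35 := D3.c35
abbrev LD3_c36 := D3.c36
abbrev LD3_c37 := D3.c37
abbrev LD3_c38 := D3.c38
abbrev LD3_c39 := D3.c39
abbrev LD3_c40 := D3.c40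
abbrev LD3_c41 := D3.c41
abbrev LD3_c42 := D3.c42
abbrev LD3_c43 := D3.c43
abbrev LD3_c44 := D3.c44
abbrev LD3_c45 := D3.c45
abbrev LD3_c46 := D3.c46
abbrev LD3_c47 := D3.c47
abbrev LD3_c48 := D3.c48
abbrev LD3_c49 := D3.c49
abbrev LD3_c50 := D3.c50
abbrev LD3_c51 := D3.c51
abbrev LD3_c52 := D3.c52
abbrev LD3_c53 := D3.c53
abbrev LD3_c54 := D3.c54
abbrev LD3_c55 := D3.c55
abbrev LD3_c56 := D3.c56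
abbrev LD3_c57 := D3.c57
abbrev LD3_c58 := D3.c58
abbrev LD3_c59 := D3.c59
abbrev LD3_c60 := D3.c60
abbrev LD3_c61 := D3.c61
abbrev LG_g := Gen.g
abbrev Lsl_gt : Gen × Bool := sl_gt
alias Lfl_gt := fl_gt
alias Lpr_gt := pr_gt
abbrev Lsl_gf : Gen × Bool := sl_gf
alias Lfl_gf := fl_gf
alias Lpr_gf := pr_gf
alias Lre_g := re_g
alias Leoe_g := eoe_g
abbrev LG_a := Gen.a
abbrev Lsl_at : Gen × Bool := sl_at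
alias Lfl_at := fl_at
alias Lpr_at := pr_at
abbrev Lsl_af : Gen × Bool := sl_af
alias Lfl_af := fl_af
alias Lpr_af := pr_af
alias Lre_a := re_a
alias Leoe_a := eoe_a
abbrev LG_b := Gen.b
abbrev Lsl_bt : Gen × Bool := sl_bt
alias Lfl_bt := fl_bt
alias Lpr_bt := pr_bt
abbrev Lsl_bf : Gen × Bool := sl_bf
alias Lfl_bf := fl_bf
alias Lpr_bf := pr_bf
alias Lre_b := re_b
alias Leoe_b := eoe_b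
abbrev LG_c := Gen.c
abbrev Lsl_ct : Gen × Bool := sl_ct
alias Lfl_ct := fl_ct
alias Lpr_ct := pr_ct
abbrev Lsl_cf : Gen × Bool := sl_cf
alias Lfl_cf := fl_cf
alias Lpr_cf := pr_cf
alias Lre_c := re_c
alias Leoe_c := eoe_c
abbrev LG_d := Gen.d
abbrev Lsl_dt : Gen × Bool := sl_dt
alias Lfl_dt := fl_dt
alias Lpr_dt := pr_dt
abbrev Lsl_df : Gen × Bool := sl_df
alias Lfl_df := fl_df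
alias Lpr_df := pr_df
alias Lre_d := re_d
alias Leoe_d := eoe_d
abbrev LG_e := Gen.e
abbrev Lsl_et : Gen × Bool := sl_et
alias Lfl_et := fl_et
alias Lpr_et := pr_et
abbrev Lsl_ef : Gen × Bool := sl_ef
alias Lfl_ef := fl_ef
alias Lpr_ef := pr_ef
alias Lre_e := re_e
alias Leoe_e := eoe_e
abbrev LG_f := Gen.f
abbrev Lsl_ft : Gen × Bool := sl_ft
alias Lfl_ft := fl_ft
alias Lpr_ft := pr_ft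
abbrev Lsl_ff : Gen × Bool := sl_ff
alias Lfl_ff := fl_ff
alias Lpr_ff := pr_ff
alias Lre_f := re_f
alias Leoe_f := eoe_f
abbrev LK := Pt.mk
abbrev LQ : Type := Qt rels S
abbrev LP (p : Pt) : LQ := P p
abbrev Led (l : Gen × Bool) (c : LQ) : LQ := ed l c
abbrev LEOK (x : Gen) (p : Pt) : Prop := EntryOK rels S fwd inv o plet idx x p
alias Lpe := pe
alias Lpn := pn
alias Lgr := gr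
alias Lpq := pq
alias Lpqs := pqs
alias Llr := lr
alias Leop := eop
alias Lefun := efun
alias Lecon := econ
theorem Lrfl {α : Sort _} {a : α} : a = a := rfl
alias Lrot0 := rot0
alias Lrot1 := rot1
alias Lrot2 := rot2
alias Lrot3 := rot3
alias Lrot4 := rot4
alias Lrot5 := rot5
alias Lrot6 := rot6
alias Lrot7 := rot7
alias Lrot8 := rot8
alias Lrot9 := rot9
alias Lrot10 := rot10
alias Lrot11 := rot11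
alias Lrot12 := rot12
alias Lrot13 := rot13
alias Lrot14 := rot14
alias Lrot15 := rot15
alias Lrot17 := rot17
alias Lrot18 := rot18
alias Lrot19 := rot19
alias Lrot20 := rot20
alias Lrot21 := rot21
alias Lrot22 := rot22
alias Lrot23 := rot23
alias Lrot24 := rot24
alias Lrot25 := rot25
alias Lrot26 := rot26
alias Lrot27 := rot27
alias Lrot28 := rot28
alias Lrot29 := rot29
alias Lrot30 := rot30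
alias Lrot31 := rot31
alias Lrot32 := rot32
alias Lrot33 := rot33
alias Lrot34 := rot34
alias Lrot35 := rot35
alias Lrot36 := rot36
alias Lrot38 := rot38
alias Lrot39 := rot39
alias Lrot40 := rot40
alias Lrot41 := rot41
alias Lrot42 := rot42
alias Lrot43 := rot43
alias Lrot44 := rot44
alias Lrot45 := rot45
alias Lrot46 := rot46
alias Lrot47 := rot47
alias Lrot48 := rot48
alias Lrot49 := rot49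
alias Lrot50 := rot50
alias Lrot51 := rot51
alias Lrot52 := rot52
alias Lrot53 := rot53
alias Lrot54 := rot54
alias Lrot55 := rot55
alias Lrot56 := rot56
alias Lrot57 := rot57
alias Lrot58 := rot58
alias Lrot59 := rot59
alias Lrot60 := rot60
alias Lrot61 := rot61
alias Lrot62 := rot62
alias Lrot63 := rot63
alias Lrot64 := rot64
alias Lrot65 := rot65
alias Lrot66 := rot66
alias Lrot67 := rot67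
alias Lrot68 := rot68
alias Lrot69 := rot69
alias Lrot70 := rot70
alias Lrot71 := rot71
alias Lrot72 := rot72
alias Lrot73 := rot73
alias Lrot74 := rot74
alias Lrot75 := rot75
alias Lrot76 := rot76
alias Lrot77 := rot77
alias Lrot78 := rot78
alias Lrot79 := rot79
alias Lrot80 := rot80
alias Lrot81 := rot81
alias Lrot82 := rot82
alias Lrot83 := rot83
alias Lrot84 := rot84
alias Lrot86 := rot86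
alias Lrot87 := rot87
alias Lrot88 := rot88
alias Lrot90 := rot90
alias Lrot91 := rot91
alias Lrot92 := rot92
alias Lrot93 := rot93
alias Lrot94 := rot94
alias Lrot95 := rot95
alias Lrot96 := rot96
alias Lrot97 := rot97
alias Lrot98 := rot98
alias Lrot99 := rot99
alias Lrot100 := rot100
alias Lrot101 := rot101
alias Lrot103 := rot103
alias Lrot104 := rot104
alias Lrot105 := rot105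
alias Lrot106 := rot106
alias Lrot107 := rot107
alias Lrot108 := rot108
alias Lrot109 := rot109
alias Lrot110 := rot110
alias Lrot111 := rot111
alias Lrot112 := rot112
alias Lrot113 := rot113
alias Lrot114 := rot114
alias Lrot116 := rot116
alias Lrot117 := rot117
alias Lrot118 := rot118
alias Lrot119 := rot119
alias Lrot120 := rot120
alias Lrot121 := rot121
alias Lrot122 := rot122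
alias Lrot123 := rot123
alias Lrot124 := rot124
alias Lrot125 := rot125
alias Lrot126 := rot126
alias Lrot127 := rot127
alias Lrot128 := rot128
alias Lrot129 := rot129
alias Lrot130 := rot130
alias Lrot131 := rot131
alias Lrot132 := rot132
alias Lrot133 := rot133
alias Lrot134 := rot134
alias Lrot135 := rot135
alias Lrot136 := rot136
alias Lrot137 := rot137
alias Lrot138 := rot138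
alias Lrot139 := rot139
alias Lrot140 := rot140
alias Lrot141 := rot141
alias Lrot142 := rot142
alias Lrot143 := rot143
alias Lrot144 := rot144
alias Lrot145 := rot145
alias Lrot146 := rot146
alias Lrot147 := rot147
alias Lrot149 := rot149
alias Lrot150 := rot150
alias Lrot152 := rot152
alias Lrot153 := rot153
alias Lrot155 := rot155
alias Lrot156 := rot156
alias Lrot157 := rot157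
alias Lrot158 := rot158
alias Lrot159 := rot159
alias Lrot160 := rot160
alias Lrot161 := rot161
alias Lrot162 := rot162
alias Lrot163 := rot163
alias Lrot164 := rot164
alias Lrot165 := rot165
alias Lrot166 := rot166
alias Lrot167 := rot167
alias Lrot169 := rot169
alias Lrot170 := rot170
alias Lrot171 := rot171
alias Lrot172 := rot172
alias Lrot173 := rot173
alias Lrot174 := rot174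
alias Lrot176 := rot176
alias Lrot179 := rot179
alias Lrot180 := rot180
alias Lrot181 := rot181
alias Lrot185 := rot185
alias Lrot186 := rot186
alias Lrot188 := rot188
alias Lrot189 := rot189

section
variable (IH : IHT)
include IH

theorem f446501 : Led Lsl_ct (LP (LK LD1_c3 LD2_c24 LD3_c61)) = (LP (LK LD1_c6 LD2_c52 LD3_c25)) :=
  Lre_c IH (LK LD1_c3 LD2_c24 LD3_c61) (LK LD1_c6 LD2_c52 LD3_c25) Lrfl Lrfl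
theorem f470789 : Led Lsl_df (LP (LK LD1_c6 LD2_c52 LD3_c25)) = (LP (LK LD1_c7 LD2_c14 LD3_c17)) :=
  Lgr Lrot84 (Lpe (f446501 IH) (Lpe (K28.f446494 IH) (Lpq (K24.f461786 IH) (Lpe (K24.f456825 IH) (Lpr_df (K24.f455829 IH) (Lpqs (K24.f461932 IH) (Lpe (K24.f455354 IH) (Lpe (K24.f455160 IH) (Lpr_gt (K28.f455331 IH) (Lpr_dt (K28.f455333 IH) (Lpr_gt (K28.f470629 IH) (Lpn (LP (LK LD1_c7 LD2_c14 LD3_c17))))))))))))))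
theorem f446491 : Led Lsl_ct (LP (LK LD1_c6 LD2_c52 LD3_c25)) = (LP (LK LD1_c3 LD2_c24 LD3_c61)) :=
  Lre_c IH (LK LD1_c6 LD2_c52 LD3_c25) (LK LD1_c3 LD2_c24 LD3_c61) Lrfl Lrfl
theorem f446492 : Led Lsl_ef (LP (LK LD1_c6 LD2_c52 LD3_c25)) = (LP (LK LD1_c3 LD2_c31 LD3_c20)) :=
  Lgr Lrot28 (Lpr_ct (f446491 IH) (Lpr_et (K24.f446489 IH) (Lpr_ct (K28.f18962 IH) (Lpn (LP (LK LD1_c3 LD2_c31 LD3_c20))))))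
theorem f458536 : Led Lsl_bt (LP (LK LD1_c6 LD2_c52 LD3_c25)) = (LP (LK LD1_c6 LD2_c52 LD3_c21)) :=
  Lgr Lrot119 (Lpr_ef (f446492 IH) (Lpr_bf (K28.f458529 IH) (Lpe (K28.f458535 IH) (Lpn (LP (LK LD1_c6 LD2_c52 LD3_c21))))))
theorem f470797 : Led Lsl_bt (LP (LK LD1_c7 LD2_c7 LD3_c61)) = (LP (LK LD1_c7 LD2_c14 LD3_c17)) :=
  Lgr Lrot95 (Lpr_df (K28.f463618 IH) (Lpe (f458536 IH) (Lpr_df (f470789 IH) (Lpn (LP (LK LD1_c7 LD2_c14 LD3_c17))))))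
theorem f470600 : Led Lsl_ct (LP (LK LD1_c13 LD2_c14 LD3_c34)) = (LP (LK LD1_c22 LD2_c29 LD3_c22)) :=
  Lre_c IH (LK LD1_c13 LD2_c14 LD3_c34) (LK LD1_c22 LD2_c29 LD3_c22) Lrfl Lrfl
theorem f97332 : Led Lsl_ft (LP (LK LD1_c3 LD2_c38 LD3_c8)) = (LP (LK LD1_c1 LD2_c46 LD3_c0)) :=
  Lre_f IH (LK LD1_c3 LD2_c38 LD3_c8) (LK LD1_c1 LD2_c46 LD3_c0) Lrfl Lrfl
theorem f97333 : Led Lsl_ft (LP (LK LD1_c1 LD2_c43 LD3_c30)) = (LP (LK LD1_c3 LD2_c33 LD3_c34)) :=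
  Lre_f IH (LK LD1_c1 LD2_c43 LD3_c30) (LK LD1_c3 LD2_c33 LD3_c34) Lrfl Lrfl
theorem f97334 : Led Lsl_cf (LP (LK LD1_c3 LD2_c38 LD3_c8)) = (LP (LK LD1_c3 LD2_c33 LD3_c34)) :=
  Lgr Lrot108 (Lpr_ft (f97332 IH) (Lpr_ct (K3.f97325 IH) (Lpr_ft (f97333 IH) (Lpn (LP (LK LD1_c3 LD2_c33 LD3_c34))))))
theorem f12390 : Led Lsl_ft (LP (LK LD1_c1 LD2_c46 LD3_c35)) = (LP (LK LD1_c3 LD2_c39 LD3_c16)) :=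
  Lre_f IH (LK LD1_c1 LD2_c46 LD3_c35) (LK LD1_c3 LD2_c39 LD3_c16) Lrfl Lrfl
theorem f425225 : Led Lsl_at (LP (LK LD1_c3 LD2_c39 LD3_c16)) = (LP (LK LD1_c3 LD2_c38 LD3_c8)) :=
  Lgr Lrot66 (Lpe (f12390 IH) (Lpr_af (K28.f425213 IH) (Lpe (f97332 IH) (Lpn (LP (LK LD1_c3 LD2_c38 LD3_c8))))))
theorem f425232 : Led Lsl_af (LP (LK LD1_c3 LD2_c39 LD3_c16)) = (LP (LK LD1_c3 LD2_c38 LD3_c8)) :=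
  Lgr Lrot0 (Lpr_at (f425225 IH) (Lpn (LP (LK LD1_c3 LD2_c38 LD3_c8))))
theorem f425309 : Led Lsl_cf (LP (LK LD1_c3 LD2_c37 LD3_c2)) = (LP (LK LD1_c3 LD2_c39 LD3_c16)) :=
  Lgr Lrot1 (Lpr_at (K28.f425300 IH) (Lpe (f97334 IH) (Lpe (f425232 IH) (Lpn (LP (LK LD1_c3 LD2_c39 LD3_c16))))))
theorem f425429 : Led Lsl_ct (LP (LK LD1_c3 LD2_c37 LD3_c2)) = (LP (LK LD1_c3 LD2_c39 LD3_c16)) :=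
  Lgr Lrot59 (Lpr_cf (f425309 IH) (Lpn (LP (LK LD1_c3 LD2_c39 LD3_c16))))
theorem f12377 : Led Lsl_ft (LP (LK LD1_c3 LD2_c39 LD3_c16)) = (LP (LK LD1_c1 LD2_c46 LD3_c35)) :=
  Lre_f IH (LK LD1_c3 LD2_c39 LD3_c16) (LK LD1_c1 LD2_c46 LD3_c35) Lrfl Lrfl
theorem f425434 : Led Lsl_cf (LP (LK LD1_c1 LD2_c45 LD3_c23)) = (LP (LK LD1_c1 LD2_c46 LD3_c35)) :=
  Lgr Lrot108 (Lpr_ft (K28.f128281 IH) (Lpr_ct (f425429 IH) (Lpr_ft (f12377 IH) (Lpn (LP (LK LD1_c1 LD2_c46 LD3_c35))))))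
theorem f425293 : Led Lsl_bt (LP (LK LD1_c1 LD2_c45 LD3_c23)) = (LP (LK LD1_c3 LD2_c37 LD3_c0)) :=
  Lre_b IH (LK LD1_c1 LD2_c45 LD3_c23) (LK LD1_c3 LD2_c37 LD3_c0) Lrfl Lrfl
theorem f12371 : Led Lsl_bt (LP (LK LD1_c0 LD2_c50 LD3_c19)) = (LP (LK LD1_c1 LD2_c46 LD3_c35)) :=
  Lgr Lrot127 (Lpr_bf (K28.f12363 IH) (Lpn (LP (LK LD1_c1 LD2_c46 LD3_c35))))
theorem f12391 : Led Lsl_ct (LP (LK LD1_c1 LD2_c47 LD3_c3)) = (LP (LK LD1_c0 LD2_c50 LD3_c19)) :=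
  Lre_c IH (LK LD1_c1 LD2_c47 LD3_c3) (LK LD1_c0 LD2_c50 LD3_c19) Lrfl Lrfl
theorem f12392 : Led Lsl_bt (LP (LK LD1_c3 LD2_c40 LD3_c9)) = (LP (LK LD1_c1 LD2_c47 LD3_c3)) :=
  Lre_b IH (LK LD1_c3 LD2_c40 LD3_c9) (LK LD1_c1 LD2_c47 LD3_c3) Lrfl Lrfl
theorem f425436 : Led Lsl_ct (LP (LK LD1_c3 LD2_c37 LD3_c0)) = (LP (LK LD1_c3 LD2_c40 LD3_c9)) :=
  Lgr Lrot83 (Lpe (f425293 IH) (Lpr_cf (f425434 IH) (Lpe (f12371 IH) (Lpe (f12391 IH) (Lpe (f12392 IH) (Lpn (LP (LK LD1_c3 LD2_c40 LD3_c9))))))))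
theorem f425447 : Led Lsl_et (LP (LK LD1_c1 LD2_c45 LD3_c21)) = (LP (LK LD1_c3 LD2_c37 LD3_c0)) :=
  Lre_e IH (LK LD1_c1 LD2_c45 LD3_c21) (LK LD1_c3 LD2_c37 LD3_c0) Lrfl Lrfl
theorem f36505 : Led Lsl_et (LP (LK LD1_c3 LD2_c40 LD3_c9)) = (LP (LK LD1_c1 LD2_c47 LD3_c1)) :=
  Lre_e IH (LK LD1_c3 LD2_c40 LD3_c9) (LK LD1_c1 LD2_c47 LD3_c1) Lrfl Lrfl
theorem f425448 : Led Lsl_cf (LP (LK LD1_c1 LD2_c45 LD3_c21)) = (LP (LK LD1_c1 LD2_c47 LD3_c1)) :=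
  Lgr Lrot39 (Lpr_et (f425447 IH) (Lpr_ct (f425436 IH) (Lpr_et (f36505 IH) (Lpn (LP (LK LD1_c1 LD2_c47 LD3_c1))))))
theorem f425462 : Led Lsl_at (LP (LK LD1_c1 LD2_c45 LD3_c21)) = (LP (LK LD1_c3 LD2_c36 LD3_c61)) :=
  Lre_a IH (LK LD1_c1 LD2_c45 LD3_c21) (LK LD1_c3 LD2_c36 LD3_c61) Lrfl Lrfl
theorem f425463 : Led Lsl_ct (LP (LK LD1_c3 LD2_c36 LD3_c61)) = (LP (LK LD1_c3 LD2_c40 LD3_c7)) :=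
  Lgr Lrot111 (Lpe (f425462 IH) (Lpr_cf (f425448 IH) (Lpe (K28.f159457 IH) (Lpn (LP (LK LD1_c3 LD2_c40 LD3_c7))))))
theorem f425471 : Led Lsl_ff (LP (LK LD1_c3 LD2_c36 LD3_c61)) = (LP (LK LD1_c3 LD2_c33 LD3_c36)) :=
  Lgr Lrot23 (Lpr_ct (f425463 IH) (Lpe (K28.f159430 IH) (Lpe (K28.f108084 IH) (Lpn (LP (LK LD1_c3 LD2_c33 LD3_c36))))))
theorem f425477 : Led Lsl_ft (LP (LK LD1_c3 LD2_c36 LD3_c61)) = (LP (LK LD1_c3 LD2_c33 LD3_c36)) :=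
  Lgr Lrot48 (Lpr_ff (f425471 IH) (Lpn (LP (LK LD1_c3 LD2_c33 LD3_c36))))
theorem f425470 : Led Lsl_et (LP (LK LD1_c7 LD2_c14 LD3_c19)) = (LP (LK LD1_c3 LD2_c36 LD3_c61)) :=
  Lre_e IH (LK LD1_c7 LD2_c14 LD3_c19) (LK LD1_c3 LD2_c36 LD3_c61) Lrfl Lrfl
theorem f425479 : Led Lsl_ft (LP (LK LD1_c13 LD2_c41 LD3_c52)) = (LP (LK LD1_c7 LD2_c14 LD3_c19)) :=
  Lre_f IH (LK LD1_c13 LD2_c41 LD3_c52) (LK LD1_c7 LD2_c14 LD3_c19) Lrfl Lrfl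
theorem f470536 : Led Lsl_et (LP (LK LD1_c13 LD2_c14 LD3_c33)) = (LP (LK LD1_c13 LD2_c41 LD3_c52)) :=
  Lgr Lrot69 (Lpr_ff (K28.f470531 IH) (Lpe (K28.f108124 IH) (Lpe (f425477 IH) (Lpe (f425470 IH) (Lpe (f425479 IH) (Lpn (LP (LK LD1_c13 LD2_c41 LD3_c52))))))))
theorem f425305 : Led Lsl_at (LP (LK LD1_c13 LD2_c41 LD3_c52)) = (LP (LK LD1_c7 LD2_c14 LD3_c22)) :=
  Lre_a IH (LK LD1_c13 LD2_c41 LD3_c52) (LK LD1_c7 LD2_c14 LD3_c22) Lrfl Lrfl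
theorem f470559 : Led Lsl_ef (LP (LK LD1_c6 LD2_c58 LD3_c31)) = (LP (LK LD1_c7 LD2_c14 LD3_c22)) :=
  Lgr Lrot20 (Lpr_at (K28.f465632 IH) (Lpr_et (f470536 IH) (Lpr_at (f425305 IH) (Lpn (LP (LK LD1_c7 LD2_c14 LD3_c22))))))
theorem f425304 : Led Lsl_bt (LP (LK LD1_c7 LD2_c14 LD3_c22)) = (LP (LK LD1_c3 LD2_c37 LD3_c2)) :=
  Lre_b IH (LK LD1_c7 LD2_c14 LD3_c22) (LK LD1_c3 LD2_c37 LD3_c2) Lrfl Lrfl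
theorem f12378 : Led Lsl_bt (LP (LK LD1_c1 LD2_c47 LD3_c6)) = (LP (LK LD1_c3 LD2_c39 LD3_c16)) :=
  Lgr Lrot35 (Lpe (K28.f12376 IH) (Lpr_bf (K28.f12363 IH) (Lpe (f12377 IH) (Lpn (LP (LK LD1_c3 LD2_c39 LD3_c16))))))
theorem f12382 : Led Lsl_bf (LP (LK LD1_c1 LD2_c47 LD3_c6)) = (LP (LK LD1_c3 LD2_c39 LD3_c16)) :=
  Lgr Lrot24 (Lpr_bt (f12378 IH) (Lpn (LP (LK LD1_c3 LD2_c39 LD3_c16))))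
theorem f12387 : Led Lsl_ct (LP (LK LD1_c1 LD2_c47 LD3_c6)) = (LP (LK LD1_c3 LD2_c40 LD3_c15)) :=
  Lre_c IH (LK LD1_c1 LD2_c47 LD3_c6) (LK LD1_c3 LD2_c40 LD3_c15) Lrfl Lrfl
theorem f12388 : Led Lsl_bt (LP (LK LD1_c3 LD2_c40 LD3_c15)) = (LP (LK LD1_c7 LD2_c20 LD3_c28)) :=
  Lre_b IH (LK LD1_c3 LD2_c40 LD3_c15) (LK LD1_c7 LD2_c20 LD3_c28) Lrfl Lrfl
theorem f425432 : Led Lsl_cf (LP (LK LD1_c7 LD2_c14 LD3_c22)) = (LP (LK LD1_c7 LD2_c20 LD3_c28)) :=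
  Lgr Lrot97 (Lpr_bt (f425304 IH) (Lpr_ct (f425429 IH) (Lpe (f12382 IH) (Lpr_ct (f12387 IH) (Lpr_bt (f12388 IH) (Lpn (LP (LK LD1_c7 LD2_c20 LD3_c28))))))))
theorem f159450 : Led Lsl_et (LP (LK LD1_c3 LD2_c40 LD3_c7)) = (LP (LK LD1_c7 LD2_c20 LD3_c23)) :=
  Lre_e IH (LK LD1_c3 LD2_c40 LD3_c7) (LK LD1_c7 LD2_c20 LD3_c23) Lrfl Lrfl
theorem f159458 : Led Lsl_ft (LP (LK LD1_c7 LD2_c20 LD3_c23)) = (LP (LK LD1_c13 LD2_c52 LD3_c48)) :=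
  Lre_f IH (LK LD1_c7 LD2_c20 LD3_c23) (LK LD1_c13 LD2_c52 LD3_c48) Lrfl Lrfl
theorem f462612 : Led Lsl_et (LP (LK LD1_c13 LD2_c52 LD3_c48)) = (LP (LK LD1_c7 LD2_c53 LD3_c58)) :=
  Lgr Lrot69 (Lpe (f159458 IH) (Lpe (f159450 IH) (Lpe (K28.f159440 IH) (Lpe (K28.f108125 IH) (Lpr_ff (K28.f462567 IH) (Lpn (LP (LK LD1_c7 LD2_c53 LD3_c58))))))))
theorem f203873 : Led Lsl_at (LP (LK LD1_c7 LD2_c20 LD3_c28)) = (LP (LK LD1_c13 LD2_c52 LD3_c48)) :=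
  Lre_a IH (LK LD1_c7 LD2_c20 LD3_c28) (LK LD1_c13 LD2_c52 LD3_c48) Lrfl Lrfl
theorem f462630 : Led Lsl_ef (LP (LK LD1_c7 LD2_c20 LD3_c28)) = (LP (LK LD1_c3 LD2_c56 LD3_c7)) :=
  Lgr Lrot20 (Lpr_at (f203873 IH) (Lpr_et (f462612 IH) (Lpr_at (K28.f462560 IH) (Lpn (LP (LK LD1_c3 LD2_c56 LD3_c7))))))
theorem f470562 : Led Lsl_ct (LP (LK LD1_c6 LD2_c58 LD3_c31)) = (LP (LK LD1_c3 LD2_c56 LD3_c7)) :=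
  Lgr Lrot15 (Lpr_ef (f470559 IH) (Lpr_cf (f425432 IH) (Lpr_ef (f462630 IH) (Lpn (LP (LK LD1_c3 LD2_c56 LD3_c7))))))
theorem f455334 : Led Lsl_bt (LP (LK LD1_c6 LD2_c58 LD3_c31)) = (LP (LK LD1_c3 LD2_c28 LD3_c10)) :=
  Lre_b IH (LK LD1_c6 LD2_c58 LD3_c31) (LK LD1_c3 LD2_c28 LD3_c10) Lrfl Lrfl
theorem f11747 : Led Lsl_gt (LP (LK LD1_c3 LD2_c33 LD3_c6)) = (LP (LK LD1_c7 LD2_c7 LD3_c2)) :=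
  Lre_g IH (LK LD1_c3 LD2_c33 LD3_c6) (LK LD1_c7 LD2_c7 LD3_c2) Lrfl Lrfl
theorem f452017 : Led Lsl_gt (LP (LK LD1_c7 LD2_c53 LD3_c57)) = (LP (LK LD1_c3 LD2_c56 LD3_c7)) :=
  Lre_g IH (LK LD1_c7 LD2_c53 LD3_c57) (LK LD1_c3 LD2_c56 LD3_c7) Lrfl Lrfl
theorem f470572 : Led Lsl_ct (LP (LK LD1_c7 LD2_c7 LD3_c2)) = (LP (LK LD1_c7 LD2_c53 LD3_c57)) :=
  Lgr Lrot91 (Lpe (f11747 IH) (Lpe (K28.f11659 IH) (Lpr_ct (K8.f11583 IH) (Lpr_gf (K28.f455824 IH) (Lpq (K28.f470373 IH) (Lpe (K28.f451228 IH) (Lpr_bt (K28.f458629 IH) (Lpe (K28.f16741 IH) (Lpe (f455334 IH) (Lpr_ct (f470562 IH) (Lpe (f452017 IH) (Lpn (LP (LK LD1_c7 LD2_c53 LD3_c57))))))))))))))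
theorem f11736 : Led Lsl_dt (LP (LK LD1_c3 LD2_c33 LD3_c6)) = (LP (LK LD1_c7 LD2_c7 LD3_c4)) :=
  Lre_d IH (LK LD1_c3 LD2_c33 LD3_c6) (LK LD1_c7 LD2_c7 LD3_c4) Lrfl Lrfl
theorem f470366 : Led Lsl_gt (LP (LK LD1_c7 LD2_c7 LD3_c4)) = (LP (LK LD1_c13 LD2_c29 LD3_c18)) :=
  Lre_g IH (LK LD1_c7 LD2_c7 LD3_c4) (LK LD1_c13 LD2_c29 LD3_c18) Lrfl Lrfl
theorem f470578 : Led Lsl_ct (LP (LK LD1_c13 LD2_c29 LD3_c18)) = (LP (LK LD1_c22 LD2_c49 LD3_c39)) :=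
  Lre_c IH (LK LD1_c13 LD2_c29 LD3_c18) (LK LD1_c22 LD2_c49 LD3_c39) Lrfl Lrfl
theorem f470525 : Led Lsl_cf (LP (LK LD1_c6 LD2_c58 LD3_c31)) = (LP (LK LD1_c3 LD2_c56 LD3_c7)) :=
  Lgr Lrot1 (Lpr_at (K28.f465632 IH) (Lpr_ct (K28.f470523 IH) (Lpr_at (K28.f462560 IH) (Lpn (LP (LK LD1_c3 LD2_c56 LD3_c7))))))
theorem f470568 : Led Lsl_ct (LP (LK LD1_c22 LD2_c29 LD3_c22)) = (LP (LK LD1_c13 LD2_c14 LD3_c34)) :=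
  Lre_c IH (LK LD1_c22 LD2_c29 LD3_c22) (LK LD1_c13 LD2_c14 LD3_c34) Lrfl Lrfl
theorem f470579 : Led Lsl_gt (LP (LK LD1_c22 LD2_c49 LD3_c39)) = (LP (LK LD1_c22 LD2_c29 LD3_c22)) :=
  Lgr Lrot150 (Lpe (f470578 IH) (Lpe (f470366 IH) (Lpe (f11736 IH) (Lpr_gt (f11747 IH) (Lpr_ct (f470572 IH) (Lpr_gt (f452017 IH) (Lpe (f470525 IH) (Lpe (K28.f470567 IH) (Lpe (f470568 IH) (Lpn (LP (LK LD1_c22 LD2_c29 LD3_c22))))))))))))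
theorem f160232 : Led Lsl_bt (LP (LK LD1_c3 LD2_c33 LD3_c11)) = (LP (LK LD1_c7 LD2_c7 LD3_c4)) :=
  Lre_b IH (LK LD1_c3 LD2_c33 LD3_c11) (LK LD1_c7 LD2_c7 LD3_c4) Lrfl Lrfl
theorem f11584 : Led Lsl_ct (LP (LK LD1_c3 LD2_c33 LD3_c11)) = (LP (LK LD1_c7 LD2_c7 LD3_c19)) :=
  Lre_c IH (LK LD1_c3 LD2_c33 LD3_c11) (LK LD1_c7 LD2_c7 LD3_c19) Lrfl Lrfl
theorem f160283 : Led Lsl_gt (LP (LK LD1_c13 LD2_c29 LD3_c42)) = (LP (LK LD1_c7 LD2_c7 LD3_c19)) :=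
  Lre_g IH (LK LD1_c13 LD2_c29 LD3_c42) (LK LD1_c7 LD2_c7 LD3_c19) Lrfl Lrfl
theorem f470821 : Led Lsl_ct (LP (LK LD1_c7 LD2_c7 LD3_c61)) = (LP (LK LD1_c13 LD2_c29 LD3_c42)) :=
  Lgr Lrot64 (Lpr_bt (f470797 IH) (Lpe (K28.f470629 IH) (Lpe (K28.f470601 IH) (Lpr_ct (f470600 IH) (Lpe (f470579 IH) (Lpe (f470578 IH) (Lpe (f470366 IH) (Lpe (f160232 IH) (Lpr_ct (f11584 IH) (Lpe (f160283 IH) (Lpn (LP (LK LD1_c13 LD2_c29 LD3_c42)))))))))))))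
theorem f425311 : Led Lsl_dt (LP (LK LD1_c7 LD2_c14 LD3_c26)) = (LP (LK LD1_c3 LD2_c37 LD3_c2)) :=
  Lre_d IH (LK LD1_c7 LD2_c14 LD3_c26) (LK LD1_c3 LD2_c37 LD3_c2) Lrfl Lrfl
theorem f160203 : Led Lsl_ct (LP (LK LD1_c7 LD2_c7 LD3_c19)) = (LP (LK LD1_c3 LD2_c33 LD3_c11)) :=
  Lre_c IH (LK LD1_c7 LD2_c7 LD3_c19) (LK LD1_c3 LD2_c33 LD3_c11) Lrfl Lrfl
theorem f470831 : Led Lsl_gt (LP (LK LD1_c3 LD2_c37 LD3_c2)) = (LP (LK LD1_c1 LD2_c54 LD3_c45)) :=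
  Lgr Lrot9 (Lpe (f425311 IH) (Lpr_gt (K28.f425533 IH) (Lpr_ct (f470821 IH) (Lpr_gt (f160283 IH) (Lpr_ct (f160203 IH) (Lpe (K8.f11553 IH) (Lpe (K28.f11580 IH) (Lpr_gf (K28.f455824 IH) (Lpq (K28.f470373 IH) (Lpe (K28.f451228 IH) (Lpn (LP (LK LD1_c1 LD2_c54 LD3_c45)))))))))))))
theorem f425426 : Led Lsl_bt (LP (LK LD1_c3 LD2_c37 LD3_c2)) = (LP (LK LD1_c7 LD2_c14 LD3_c22)) :=
  Lre_b IH (LK LD1_c3 LD2_c37 LD3_c2) (LK LD1_c7 LD2_c14 LD3_c22) Lrfl Lrfl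
theorem f12385 : Led Lsl_bt (LP (LK LD1_c7 LD2_c20 LD3_c28)) = (LP (LK LD1_c3 LD2_c40 LD3_c15)) :=
  Lre_b IH (LK LD1_c7 LD2_c20 LD3_c28) (LK LD1_c3 LD2_c40 LD3_c15) Lrfl Lrfl
theorem f425427 : Led Lsl_ct (LP (LK LD1_c7 LD2_c14 LD3_c22)) = (LP (LK LD1_c7 LD2_c20 LD3_c28)) :=
  Lgr Lrot83 (Lpe (f425426 IH) (Lpr_cf (f425309 IH) (Lpe (f12378 IH) (Lpe (K28.f12384 IH) (Lpe (f12385 IH) (Lpn (LP (LK LD1_c7 LD2_c20 LD3_c28))))))))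
theorem f18579 : Led Lsl_ct (LP (LK LD1_c1 LD2_c40 LD3_c42)) = (LP (LK LD1_c0 LD2_c46 LD3_c48)) :=
  Lre_c IH (LK LD1_c1 LD2_c40 LD3_c42) (LK LD1_c0 LD2_c46 LD3_c48) Lrfl Lrfl
theorem f160502 : Led Lsl_gt (LP (LK LD1_c3 LD2_c36 LD3_c38)) = (LP (LK LD1_c7 LD2_c13 LD3_c33)) :=
  Lre_g IH (LK LD1_c3 LD2_c36 LD3_c38) (LK LD1_c7 LD2_c13 LD3_c33) Lrfl Lrfl
theorem f470581 : Led Lsl_bt (LP (LK LD1_c7 LD2_c7 LD3_c2)) = (LP (LK LD1_c7 LD2_c13 LD3_c33)) :=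
  Lgr Lrot92 (Lpr_ct (f470572 IH) (Lpr_gt (f452017 IH) (Lpe (f470562 IH) (Lpr_bt (f455334 IH) (Lpr_gt (K28.f16741 IH) (Lpr_ct (f18579 IH) (Lpr_gt (K28.f455489 IH) (Lpq (K28.f461930 IH) (Lpe (K5.f106218 IH) (Lpr_bt (K28.f128167 IH) (Lpr_gt (f160502 IH) (Lpn (LP (LK LD1_c7 LD2_c13 LD3_c33))))))))))))))
theorem f470583 : Led Lsl_bf (LP (LK LD1_c7 LD2_c7 LD3_c2)) = (LP (LK LD1_c7 LD2_c13 LD3_c33)) :=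
  Lgr Lrot24 (Lpr_bt (f470581 IH) (Lpn (LP (LK LD1_c7 LD2_c13 LD3_c33))))
theorem f160611 : Led Lsl_ct (LP (LK LD1_c7 LD2_c13 LD3_c33)) = (LP (LK LD1_c13 LD2_c40 LD3_c36)) :=
  Lre_c IH (LK LD1_c7 LD2_c13 LD3_c33) (LK LD1_c13 LD2_c40 LD3_c36) Lrfl Lrfl
theorem f470837 : Led Lsl_gf (LP (LK LD1_c7 LD2_c20 LD3_c28)) = (LP (LK LD1_c13 LD2_c40 LD3_c36)) :=
  Lgr Lrot126 (Lpe (f425427 IH) (Lpr_bt (f425304 IH) (Lpr_gt (f470831 IH) (Lpr_ct (K28.f451228 IH) (Lpqs (K28.f470373 IH) (Lpe (K28.f455824 IH) (Lpe (K8.f11583 IH) (Lpr_bt (K28.f11659 IH) (Lpr_gt (f11747 IH) (Lpr_bf (f470583 IH) (Lpr_ct (f160611 IH) (Lpn (LP (LK LD1_c13 LD2_c40 LD3_c36))))))))))))))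
theorem f203930 : Led Lsl_at (LP (LK LD1_c13 LD2_c52 LD3_c48)) = (LP (LK LD1_c7 LD2_c20 LD3_c28)) :=
  Lre_a IH (LK LD1_c13 LD2_c52 LD3_c48) (LK LD1_c7 LD2_c20 LD3_c28) Lrfl Lrfl
theorem f472111 : Led Lsl_gt (LP (LK LD1_c7 LD2_c20 LD3_c23)) = (LP (LK LD1_c13 LD2_c40 LD3_c36)) :=
  Lgr Lrot5 (Lpr_ft (f159458 IH) (Lpr_at (f203930 IH) (Lpr_gf (f470837 IH) (Lpn (LP (LK LD1_c13 LD2_c40 LD3_c36))))))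
theorem f425473 : Led Lsl_bt (LP (LK LD1_c3 LD2_c36 LD3_c61)) = (LP (LK LD1_c3 LD2_c33 LD3_c28)) :=
  Lgr Lrot35 (Lpr_ff (f425471 IH) (Lpe (K28.f160379 IH) (Lpe (K8.f162841 IH) (Lpn (LP (LK LD1_c3 LD2_c33 LD3_c28))))))
theorem f425491 : Led Lsl_bf (LP (LK LD1_c7 LD2_c14 LD3_c19)) = (LP (LK LD1_c7 LD2_c7 LD3_c51)) :=
  Lgr Lrot96 (Lpr_et (f425470 IH) (Lpr_bt (f425473 IH) (Lpr_et (K28.f162839 IH) (Lpn (LP (LK LD1_c7 LD2_c7 LD3_c51))))))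
theorem f425480 : Led Lsl_gt (LP (LK LD1_c3 LD2_c36 LD3_c61)) = (LP (LK LD1_c3 LD2_c33 LD3_c35)) :=
  Lgr Lrot5 (Lpr_ft (f425477 IH) (Lpr_at (K28.f108082 IH) (Lpe (K8.f108028 IH) (Lpn (LP (LK LD1_c3 LD2_c33 LD3_c35))))))
theorem f203673 : Led Lsl_bt (LP (LK LD1_c3 LD2_c40 LD3_c7)) = (LP (LK LD1_c3 LD2_c42 LD3_c37)) :=
  Lgr Lrot127 (Lpr_bf (K28.f203671 IH) (Lpn (LP (LK LD1_c3 LD2_c42 LD3_c37))))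
theorem f88604 : Led Lsl_bt (LP (LK LD1_c3 LD2_c49 LD3_c17)) = (LP (LK LD1_c1 LD2_c51 LD3_c41)) :=
  Lre_b IH (LK LD1_c3 LD2_c49 LD3_c17) (LK LD1_c1 LD2_c51 LD3_c41) Lrfl Lrfl
theorem f425466 : Led Lsl_bf (LP (LK LD1_c3 LD2_c36 LD3_c61)) = (LP (LK LD1_c3 LD2_c33 LD3_c28)) :=
  Lgr Lrot90 (Lpr_ct (f425463 IH) (Lpr_bt (f203673 IH) (Lpe (K28.f162877 IH) (Lpr_bt (f88604 IH) (Lpe (K8.f162852 IH) (Lpn (LP (LK LD1_c3 LD2_c33 LD3_c28))))))))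
theorem f155668 : Led Lsl_cf (LP (LK LD1_c3 LD2_c55 LD3_c2)) = (LP (LK LD1_c3 LD2_c33 LD3_c35)) :=
  Lgr Lrot11 (Lpr_ct (K8.f155664 IH) (Lpn (LP (LK LD1_c3 LD2_c33 LD3_c35))))
theorem f425482 : Led Lsl_ct (LP (LK LD1_c3 LD2_c33 LD3_c28)) = (LP (LK LD1_c1 LD2_c51 LD3_c41)) :=
  Lgr Lrot10 (Lpe (f425466 IH) (Lpr_gt (f425480 IH) (Lpe (f155668 IH) (Lpr_gt (K8.f11771 IH) (Lpr_cf (K8.f11741 IH) (Lpr_bt (K8.f11540 IH) (Lpe (K2.f11529 IH) (Lpe (K3.f11545 IH) (Lpr_ct (K3.f11546 IH) (Lpr_gt (K3.f11547 IH) (Lpn (LP (LK LD1_c1 LD2_c51 LD3_c41)))))))))))))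
theorem f162846 : Led Lsl_et (LP (LK LD1_c7 LD2_c7 LD3_c51)) = (LP (LK LD1_c3 LD2_c33 LD3_c28)) :=
  Lre_e IH (LK LD1_c7 LD2_c7 LD3_c51) (LK LD1_c3 LD2_c33 LD3_c28) Lrfl Lrfl
theorem f425484 : Led Lsl_cf (LP (LK LD1_c7 LD2_c7 LD3_c51)) = (LP (LK LD1_c3 LD2_c49 LD3_c18)) :=
  Lgr Lrot39 (Lpr_et (f162846 IH) (Lpr_ct (f425482 IH) (Lpr_et (K28.f110247 IH) (Lpn (LP (LK LD1_c3 LD2_c49 LD3_c18))))))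
theorem f203675 : Led Lsl_et (LP (LK LD1_c7 LD2_c25 LD3_c51)) = (LP (LK LD1_c3 LD2_c42 LD3_c37)) :=
  Lre_e IH (LK LD1_c7 LD2_c25 LD3_c51) (LK LD1_c3 LD2_c42 LD3_c37) Lrfl Lrfl
theorem f203676 : Led Lsl_bt (LP (LK LD1_c7 LD2_c20 LD3_c23)) = (LP (LK LD1_c7 LD2_c25 LD3_c51)) :=
  Lgr Lrot119 (Lpe (f159450 IH) (Lpr_bf (K28.f203671 IH) (Lpe (f203675 IH) (Lpn (LP (LK LD1_c7 LD2_c25 LD3_c51))))))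
theorem f425498 : Led Lsl_ct (LP (LK LD1_c7 LD2_c14 LD3_c19)) = (LP (LK LD1_c7 LD2_c20 LD3_c23)) :=
  Lgr Lrot83 (Lpr_bf (f425491 IH) (Lpr_cf (f425484 IH) (Lpe (K28.f203778 IH) (Lpr_cf (K28.f203775 IH) (Lpe (f203676 IH) (Lpn (LP (LK LD1_c7 LD2_c20 LD3_c23))))))))
theorem f425294 : Led Lsl_at (LP (LK LD1_c3 LD2_c37 LD3_c0)) = (LP (LK LD1_c7 LD2_c14 LD3_c19)) :=
  Lre_a IH (LK LD1_c3 LD2_c37 LD3_c0) (LK LD1_c7 LD2_c14 LD3_c19) Lrfl Lrfl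
theorem f425295 : Led Lsl_at (LP (LK LD1_c7 LD2_c7 LD3_c51)) = (LP (LK LD1_c3 LD2_c33 LD3_c31)) :=
  Lre_a IH (LK LD1_c7 LD2_c7 LD3_c51) (LK LD1_c3 LD2_c33 LD3_c31) Lrfl Lrfl
theorem f425296 : Led Lsl_bt (LP (LK LD1_c7 LD2_c14 LD3_c19)) = (LP (LK LD1_c7 LD2_c7 LD3_c51)) :=
  Lgr Lrot62 (Lpe (f425294 IH) (Lpe (f425293 IH) (Lpr_af (K28.f425289 IH) (Lpe (K3.f96835 IH) (Lpe (f425295 IH) (Lpn (LP (LK LD1_c7 LD2_c7 LD3_c51))))))))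
theorem f425490 : Led Lsl_gt (LP (LK LD1_c13 LD2_c30 LD3_c24)) = (LP (LK LD1_c7 LD2_c7 LD3_c51)) :=
  Lre_g IH (LK LD1_c13 LD2_c30 LD3_c24) (LK LD1_c7 LD2_c7 LD3_c51) Lrfl Lrfl
theorem f11805 : Led Lsl_gt (LP (LK LD1_c7 LD2_c7 LD3_c2)) = (LP (LK LD1_c13 LD2_c29 LD3_c14)) :=
  Lre_g IH (LK LD1_c7 LD2_c7 LD3_c2) (LK LD1_c13 LD2_c29 LD3_c14) Lrfl Lrfl
theorem f11772 : Led Lsl_cf (LP (LK LD1_c3 LD2_c55 LD3_c3)) = (LP (LK LD1_c3 LD2_c33 LD3_c4)) :=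
  Lgr Lrot11 (Lpr_ct (K8.f11763 IH) (Lpn (LP (LK LD1_c3 LD2_c33 LD3_c4))))
theorem f11777 : Led Lsl_et (LP (LK LD1_c3 LD2_c55 LD3_c3)) = (LP (LK LD1_c7 LD2_c51 LD3_c46)) :=
  Lre_e IH (LK LD1_c3 LD2_c55 LD3_c3) (LK LD1_c7 LD2_c51 LD3_c46) Lrfl Lrfl
theorem f11779 : Led Lsl_ct (LP (LK LD1_c7 LD2_c51 LD3_c46)) = (LP (LK LD1_c7 LD2_c7 LD3_c1)) :=
  Lgr Lrot15 (Lpe (f11777 IH) (Lpr_cf (f11772 IH) (Lpe (K28.f11778 IH) (Lpn (LP (LK LD1_c7 LD2_c7 LD3_c1))))))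
theorem f11783 : Led Lsl_ft (LP (LK LD1_c14 LD2_c49 LD3_c47)) = (LP (LK LD1_c7 LD2_c51 LD3_c46)) :=
  Lre_f IH (LK LD1_c14 LD2_c49 LD3_c47) (LK LD1_c7 LD2_c51 LD3_c46) Lrfl Lrfl
theorem f11784 : Led Lsl_ft (LP (LK LD1_c7 LD2_c7 LD3_c1)) = (LP (LK LD1_c13 LD2_c29 LD3_c14)) :=
  Lre_f IH (LK LD1_c7 LD2_c7 LD3_c1) (LK LD1_c13 LD2_c29 LD3_c14) Lrfl Lrfl
theorem f11785 : Led Lsl_cf (LP (LK LD1_c14 LD2_c49 LD3_c47)) = (LP (LK LD1_c13 LD2_c29 LD3_c14)) :=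
  Lgr Lrot108 (Lpr_ft (f11783 IH) (Lpr_ct (f11779 IH) (Lpr_ft (f11784 IH) (Lpn (LP (LK LD1_c13 LD2_c29 LD3_c14))))))
theorem f11800 : Led Lsl_gt (LP (LK LD1_c14 LD2_c49 LD3_c47)) = (LP (LK LD1_c7 LD2_c51 LD3_c48)) :=
  Lre_g IH (LK LD1_c14 LD2_c49 LD3_c47) (LK LD1_c7 LD2_c51 LD3_c48) Lrfl Lrfl
theorem f129367 : Led Lsl_ft (LP (LK LD1_c7 LD2_c49 LD3_c44)) = (LP (LK LD1_c14 LD2_c46 LD3_c10)) :=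
  Lre_f IH (LK LD1_c7 LD2_c49 LD3_c44) (LK LD1_c14 LD2_c46 LD3_c10) Lrfl Lrfl
theorem f465500 : Led Lsl_cf (LP (LK LD1_c13 LD2_c7 LD3_c41)) = (LP (LK LD1_c14 LD2_c46 LD3_c10)) :=
  Lgr Lrot108 (Lpr_ft (K28.f465496 IH) (Lpe (K6.f129380 IH) (Lpr_ft (f129367 IH) (Lpn (LP (LK LD1_c14 LD2_c46 LD3_c10))))))
theorem f26205 : Led Lsl_bt (LP (LK LD1_c3 LD2_c42 LD3_c17)) = (LP (LK LD1_c1 LD2_c48 LD3_c8)) :=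
  Lre_b IH (LK LD1_c3 LD2_c42 LD3_c17) (LK LD1_c1 LD2_c48 LD3_c8) Lrfl Lrfl
theorem f108051 : Led Lsl_gt (LP (LK LD1_c7 LD2_c8 LD3_c5)) = (LP (LK LD1_c3 LD2_c33 LD3_c38)) :=
  Lre_g IH (LK LD1_c7 LD2_c8 LD3_c5) (LK LD1_c3 LD2_c33 LD3_c38) Lrfl Lrfl
theorem f465509 : Led Lsl_cf (LP (LK LD1_c7 LD2_c8 LD3_c5)) = (LP (LK LD1_c7 LD2_c51 LD3_c48)) :=
  Lgr Lrot125 (Lpr_gt (f108051 IH) (Lpr_cf (K8.f108044 IH) (Lpr_bt (f26205 IH) (Lpr_gt (K28.f26210 IH) (Lpe (K28.f108081 IH) (Lpe (K28.f462809 IH) (Lpr_gt (K28.f98799 IH) (Lpr_cf (f465500 IH) (Lpr_bt (K8.f160019 IH) (Lpr_gt (f11800 IH) (Lpn (LP (LK LD1_c7 LD2_c51 LD3_c48)))))))))))))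
theorem f465511 : Led Lsl_ct (LP (LK LD1_c7 LD2_c8 LD3_c5)) = (LP (LK LD1_c7 LD2_c51 LD3_c48)) :=
  Lgr Lrot59 (Lpr_cf (f465509 IH) (Lpn (LP (LK LD1_c7 LD2_c51 LD3_c48))))
theorem f472115 : Led Lsl_bf (LP (LK LD1_c13 LD2_c30 LD3_c24)) = (LP (LK LD1_c7 LD2_c8 LD3_c5)) :=
  Lgr Lrot156 (Lpr_gt (f425490 IH) (Lpe (f425296 IH) (Lpr_ct (f425498 IH) (Lpr_gt (f472111 IH) (Lpe (f160611 IH) (Lpe (f470583 IH) (Lpr_gt (f11805 IH) (Lpe (f11785 IH) (Lpr_gt (f11800 IH) (Lpe (f465511 IH) (Lpn (LP (LK LD1_c7 LD2_c8 LD3_c5)))))))))))))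
theorem f97349 : Led Lsl_gt (LP (LK LD1_c7 LD2_c7 LD3_c56)) = (LP (LK LD1_c13 LD2_c30 LD3_c24)) :=
  Lre_g IH (LK LD1_c7 LD2_c7 LD3_c56) (LK LD1_c13 LD2_c30 LD3_c24) Lrfl Lrfl
theorem f97347 : Led Lsl_bt (LP (LK LD1_c3 LD2_c33 LD3_c34)) = (LP (LK LD1_c7 LD2_c7 LD3_c56)) :=
  Lre_b IH (LK LD1_c3 LD2_c33 LD3_c34) (LK LD1_c7 LD2_c7 LD3_c56) Lrfl Lrfl
theorem f12400 : Led Lsl_gt (LP (LK LD1_c1 LD2_c46 LD3_c35)) = (LP (LK LD1_c3 LD2_c39 LD3_c14)) :=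
  Lre_g IH (LK LD1_c1 LD2_c46 LD3_c35) (LK LD1_c3 LD2_c39 LD3_c14) Lrfl Lrfl
theorem f425234 : Led Lsl_gt (LP (LK LD1_c3 LD2_c39 LD3_c14)) = (LP (LK LD1_c3 LD2_c38 LD3_c8)) :=
  Lgr Lrot46 (Lpe (f12400 IH) (Lpr_ft (f12390 IH) (Lpr_at (f425225 IH) (Lpn (LP (LK LD1_c3 LD2_c38 LD3_c8))))))
theorem f11681 : Led Lsl_gt (LP (LK LD1_c7 LD2_c51 LD3_c48)) = (LP (LK LD1_c3 LD2_c55 LD3_c4)) :=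
  Lre_g IH (LK LD1_c7 LD2_c51 LD3_c48) (LK LD1_c3 LD2_c55 LD3_c4) Lrfl Lrfl
theorem f472121 : Led Lsl_cf (LP (LK LD1_c3 LD2_c39 LD3_c14)) = (LP (LK LD1_c3 LD2_c33 LD3_c9)) :=
  Lgr Lrot125 (Lpr_gt (f425234 IH) (Lpr_cf (f97334 IH) (Lpr_bt (f97347 IH) (Lpr_gt (f97349 IH) (Lpr_bf (f472115 IH) (Lpr_ct (f465511 IH) (Lpr_gt (f11681 IH) (Lpr_cf (K28.f11660 IH) (Lpr_bt (K28.f11733 IH) (Lpr_gt (K8.f11605 IH) (Lpn (LP (LK LD1_c3 LD2_c33 LD3_c9)))))))))))))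
theorem f472123 : Led Lsl_ct (LP (LK LD1_c3 LD2_c39 LD3_c14)) = (LP (LK LD1_c3 LD2_c33 LD3_c9)) :=
  Lgr Lrot59 (Lpr_cf (f472121 IH) (Lpn (LP (LK LD1_c3 LD2_c33 LD3_c9))))
theorem f15730 : Led Lsl_gt (LP (LK LD1_c1 LD2_c49 LD3_c22)) = (LP (LK LD1_c0 LD2_c53 LD3_c13)) :=
  Lre_g IH (LK LD1_c1 LD2_c49 LD3_c22) (LK LD1_c0 LD2_c53 LD3_c13) Lrfl Lrfl
theorem f472143 : Led Lsl_bt (LP (LK LD1_c3 LD2_c39 LD3_c14)) = (LP (LK LD1_c1 LD2_c49 LD3_c22)) :=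
  Lgr Lrot22 (Lpr_ct (f472123 IH) (Lpe (K8.f11605 IH) (Lpe (K28.f11580 IH) (Lpr_gf (K28.f455824 IH) (Lpq (K28.f470373 IH) (Lpe (K28.f451213 IH) (Lpr_ct (K24.f451227 IH) (Lpq (K24.f457382 IH) (Lpe (K24.f15769 IH) (Lpe (K0.f15708 IH) (Lpr_bt (K28.f11163 IH) (Lpe (f15730 IH) (Lpn (LP (LK LD1_c1 LD2_c49 LD3_c22)))))))))))))))
theorem f11829 : Led Lsl_bt (LP (LK LD1_c7 LD2_c7 LD3_c12)) = (LP (LK LD1_c3 LD2_c33 LD3_c9)) :=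
  Lre_b IH (LK LD1_c7 LD2_c7 LD3_c12) (LK LD1_c3 LD2_c33 LD3_c9) Lrfl Lrfl
theorem f129761 : Led Lsl_ct (LP (LK LD1_c1 LD2_c49 LD3_c22)) = (LP (LK LD1_c3 LD2_c44 LD3_c40)) :=
  Lre_c IH (LK LD1_c1 LD2_c49 LD3_c22) (LK LD1_c3 LD2_c44 LD3_c40) Lrfl Lrfl
theorem f17066 : Led Lsl_bt (LP (LK LD1_c3 LD2_c44 LD3_c40)) = (LP (LK LD1_c7 LD2_c30 LD3_c27)) :=
  Lre_b IH (LK LD1_c3 LD2_c44 LD3_c40) (LK LD1_c7 LD2_c30 LD3_c27) Lrfl Lrfl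
theorem f472147 : Led Lsl_cf (LP (LK LD1_c7 LD2_c7 LD3_c12)) = (LP (LK LD1_c7 LD2_c30 LD3_c27)) :=
  Lgr Lrot97 (Lpr_bt (f11829 IH) (Lpe (f472121 IH) (Lpr_bt (f472143 IH) (Lpr_ct (f129761 IH) (Lpr_bt (f17066 IH) (Lpn (LP (LK LD1_c7 LD2_c30 LD3_c27))))))))
theorem f472150 : Led Lsl_ct (LP (LK LD1_c7 LD2_c7 LD3_c12)) = (LP (LK LD1_c7 LD2_c30 LD3_c27)) :=
  Lgr Lrot59 (Lpr_cf (f472147 IH) (Lpn (LP (LK LD1_c7 LD2_c30 LD3_c27))))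
theorem f472163 : Led Lsl_gt (LP (LK LD1_c3 LD2_c49 LD3_c19)) = (LP (LK LD1_c7 LD2_c30 LD3_c27)) :=
  Lgr Lrot65 (Lpe (K28.f96568 IH) (Lpr_bt (K8.f17491 IH) (Lpr_gf (K28.f464215 IH) (Lpe (K28.f458629 IH) (Lpr_ct (K28.f451228 IH) (Lpqs (K28.f470373 IH) (Lpe (K28.f455825 IH) (Lpe (K28.f17340 IH) (Lpr_gf (K8.f160225 IH) (Lpe (f11829 IH) (Lpr_ct (f472150 IH) (Lpn (LP (LK LD1_c7 LD2_c30 LD3_c27))))))))))))))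
theorem f17065 : Led Lsl_ct (LP (LK LD1_c3 LD2_c44 LD3_c40)) = (LP (LK LD1_c1 LD2_c49 LD3_c22)) :=
  Lre_c IH (LK LD1_c3 LD2_c44 LD3_c40) (LK LD1_c1 LD2_c49 LD3_c22) Lrfl Lrfl
theorem f15424 : Led Lsl_dt (LP (LK LD1_c3 LD2_c52 LD3_c25)) = (LP (LK LD1_c1 LD2_c52 LD3_c51)) :=
  Lre_d IH (LK LD1_c3 LD2_c52 LD3_c25) (LK LD1_c1 LD2_c52 LD3_c51) Lrfl Lrfl
theorem f15388 : Led Lsl_dt (LP (LK LD1_c1 LD2_c40 LD3_c21)) = (LP (LK LD1_c3 LD2_c27 LD3_c31)) :=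
  Lre_d IH (LK LD1_c1 LD2_c40 LD3_c21) (LK LD1_c3 LD2_c27 LD3_c31) Lrfl Lrfl
theorem f15425 : Led Lsl_bt (LP (LK LD1_c1 LD2_c52 LD3_c51)) = (LP (LK LD1_c1 LD2_c40 LD3_c21)) :=
  Lgr Lrot95 (Lpe (f15424 IH) (Lpr_bf (K0.f15402 IH) (Lpe (f15388 IH) (Lpn (LP (LK LD1_c1 LD2_c40 LD3_c21))))))
theorem f15760 : Led Lsl_gt (LP (LK LD1_c1 LD2_c40 LD3_c21)) = (LP (LK LD1_c3 LD2_c26 LD3_c14)) :=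
  Lre_g IH (LK LD1_c1 LD2_c40 LD3_c21) (LK LD1_c3 LD2_c26 LD3_c14) Lrfl Lrfl
theorem f472216 : Led Lsl_cf (LP (LK LD1_c3 LD2_c44 LD3_c44)) = (LP (LK LD1_c3 LD2_c26 LD3_c14)) :=
  Lgr Lrot125 (Lpr_gt (K28.f5743 IH) (Lpe (K24.f95136 IH) (Lpr_bt (K28.f96566 IH) (Lpr_gt (f472163 IH) (Lpe (f17066 IH) (Lpr_ct (f17065 IH) (Lpr_gt (f15730 IH) (Lpe (K0.f15705 IH) (Lpr_bt (f15425 IH) (Lpr_gt (f15760 IH) (Lpn (LP (LK LD1_c3 LD2_c26 LD3_c14)))))))))))))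
theorem f472219 : Led Lsl_ct (LP (LK LD1_c3 LD2_c44 LD3_c44)) = (LP (LK LD1_c3 LD2_c26 LD3_c14)) :=
  Lgr Lrot59 (Lpr_cf (f472216 IH) (Lpn (LP (LK LD1_c3 LD2_c26 LD3_c14))))
theorem f15901 : Led Lsl_gt (LP (LK LD1_c3 LD2_c26 LD3_c14)) = (LP (LK LD1_c1 LD2_c39 LD3_c49)) :=
  Lre_g IH (LK LD1_c3 LD2_c26 LD3_c14) (LK LD1_c1 LD2_c39 LD3_c49) Lrfl Lrfl
theorem f15810 : Led Lsl_gt (LP (LK LD1_c6 LD2_c51 LD3_c35)) = (LP (LK LD1_c3 LD2_c24 LD3_c29)) :=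
  Lre_g IH (LK LD1_c6 LD2_c51 LD3_c35) (LK LD1_c3 LD2_c24 LD3_c29) Lrfl Lrfl
theorem f446562 : Led Lsl_ct (LP (LK LD1_c0 LD2_c53 LD3_c5)) = (LP (LK LD1_c1 LD2_c52 LD3_c57)) :=
  Lre_c IH (LK LD1_c0 LD2_c53 LD3_c5) (LK LD1_c1 LD2_c52 LD3_c57) Lrfl Lrfl
theorem f446561 : Led Lsl_bt (LP (LK LD1_c0 LD2_c53 LD3_c5)) = (LP (LK LD1_c0 LD2_c23 LD3_c55)) :=
  Lre_b IH (LK LD1_c0 LD2_c53 LD3_c5) (LK LD1_c0 LD2_c23 LD3_c55) Lrfl Lrfl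
theorem f457980 : Led Lsl_gf (LP (LK LD1_c1 LD2_c52 LD3_c57)) = (LP (LK LD1_c1 LD2_c39 LD3_c49)) :=
  Lgr Lrot126 (Lpe (f446562 IH) (Lpr_bt (f446561 IH) (Lpr_gt (K1.f62769 IH) (Lpr_ct (K28.f14863 IH) (Lpr_gt (K28.f14877 IH) (Lpe (K24.f446560 IH) (Lpr_bt (K24.f457970 IH) (Lpr_gt (K2.f15903 IH) (Lpr_bf (K0.f15765 IH) (Lpr_ct (K0.f15884 IH) (Lpn (LP (LK LD1_c1 LD2_c39 LD3_c49)))))))))))))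
theorem f457982 : Led Lsl_gt (LP (LK LD1_c1 LD2_c52 LD3_c57)) = (LP (LK LD1_c1 LD2_c40 LD3_c21)) :=
  Lgr Lrot46 (Lpr_gf (f457980 IH) (Lpr_ft (K0.f15063 IH) (Lpr_at (K8.f15303 IH) (Lpn (LP (LK LD1_c1 LD2_c40 LD3_c21))))))
theorem f15394 : Led Lsl_gt (LP (LK LD1_c3 LD2_c27 LD3_c31)) = (LP (LK LD1_c6 LD2_c54 LD3_c27)) :=
  Lre_g IH (LK LD1_c3 LD2_c27 LD3_c31) (LK LD1_c6 LD2_c54 LD3_c27) Lrfl Lrfl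
theorem f19142 : Led Lsl_et (LP (LK LD1_c7 LD2_c1 LD3_c60)) = (LP (LK LD1_c3 LD2_c30 LD3_c8)) :=
  Lre_e IH (LK LD1_c7 LD2_c1 LD3_c60) (LK LD1_c3 LD2_c30 LD3_c8) Lrfl Lrfl
theorem f14653 : Led Lsl_et (LP (LK LD1_c1 LD2_c39 LD3_c49)) = (LP (LK LD1_c0 LD2_c46 LD3_c27)) :=
  Lre_e IH (LK LD1_c1 LD2_c39 LD3_c49) (LK LD1_c0 LD2_c46 LD3_c27) Lrfl Lrfl
theorem f14654 : Led Lsl_dt (LP (LK LD1_c1 LD2_c39 LD3_c49)) = (LP (LK LD1_c3 LD2_c26 LD3_c15)) :=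
  Lre_d IH (LK LD1_c1 LD2_c39 LD3_c49) (LK LD1_c3 LD2_c26 LD3_c15) Lrfl Lrfl
theorem f14655 : Led Lsl_gt (LP (LK LD1_c6 LD2_c54 LD3_c27)) = (LP (LK LD1_c3 LD2_c26 LD3_c15)) :=
  Lre_g IH (LK LD1_c6 LD2_c54 LD3_c27) (LK LD1_c3 LD2_c26 LD3_c15) Lrfl Lrfl
theorem f97583 : Led Lsl_dt (LP (LK LD1_c7 LD2_c1 LD3_c60)) = (LP (LK LD1_c6 LD2_c54 LD3_c27)) :=
  Lgr Lrot136 (Lpr_et (f19142 IH) (Lpe (K28.f97580 IH) (Lpe (K1.f18215 IH) (Lpr_dt (K1.f11441 IH) (Lpr_gf (K3.f97554 IH) (Lpe (K3.f11845 IH) (Lpe (K0.f14643 IH) (Lpe (f14653 IH) (Lpr_dt (f14654 IH) (Lpe (f14655 IH) (Lpn (LP (LK LD1_c6 LD2_c54 LD3_c27)))))))))))))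
theorem f97589 : Led Lsl_df (LP (LK LD1_c7 LD2_c1 LD3_c60)) = (LP (LK LD1_c6 LD2_c54 LD3_c27)) :=
  Lgr Lrot38 (Lpr_dt (f97583 IH) (Lpn (LP (LK LD1_c6 LD2_c54 LD3_c27))))
theorem f97591 : Led Lsl_et (LP (LK LD1_c3 LD2_c30 LD3_c8)) = (LP (LK LD1_c7 LD2_c1 LD3_c60)) :=
  Lre_e IH (LK LD1_c3 LD2_c30 LD3_c8) (LK LD1_c7 LD2_c1 LD3_c60) Lrfl Lrfl
theorem f108801 : Led Lsl_et (LP (LK LD1_c7 LD2_c22 LD3_c13)) = (LP (LK LD1_c3 LD2_c40 LD3_c59)) :=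
  Lre_e IH (LK LD1_c7 LD2_c22 LD3_c13) (LK LD1_c3 LD2_c40 LD3_c59) Lrfl Lrfl
theorem f466213 : Led Lsl_ct (LP (LK LD1_c7 LD2_c1 LD3_c60)) = (LP (LK LD1_c7 LD2_c22 LD3_c13)) :=
  Lgr Lrot15 (Lpe (f97591 IH) (Lpr_cf (K28.f466207 IH) (Lpe (f108801 IH) (Lpn (LP (LK LD1_c7 LD2_c22 LD3_c13))))))
theorem f17684 : Led Lsl_gt (LP (LK LD1_c6 LD2_c58 LD3_c54)) = (LP (LK LD1_c3 LD2_c28 LD3_c24)) :=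
  Lre_g IH (LK LD1_c6 LD2_c58 LD3_c54) (LK LD1_c3 LD2_c28 LD3_c24) Lrfl Lrfl
theorem f108802 : Led Lsl_df (LP (LK LD1_c6 LD2_c58 LD3_c54)) = (LP (LK LD1_c7 LD2_c22 LD3_c13)) :=
  Lgr Lrot170 (Lpr_gt (f17684 IH) (Lpr_df (K28.f106119 IH) (Lpr_et (K4.f5733 IH) (Lpr_gt (K0.f17291 IH) (Lpe (K5.f64287 IH) (Lpr_gt (K2.f84654 IH) (Lpr_df (K3.f108786 IH) (Lpr_et (K4.f108798 IH) (Lpr_gt (K28.f108800 IH) (Lpe (f108801 IH) (Lpn (LP (LK LD1_c7 LD2_c22 LD3_c13)))))))))))))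
theorem f108812 : Led Lsl_dt (LP (LK LD1_c6 LD2_c58 LD3_c54)) = (LP (LK LD1_c7 LD2_c22 LD3_c13)) :=
  Lgr Lrot42 (Lpr_df (f108802 IH) (Lpn (LP (LK LD1_c7 LD2_c22 LD3_c13))))
theorem f473438 : Led Lsl_gf (LP (LK LD1_c6 LD2_c58 LD3_c54)) = (LP (LK LD1_c3 LD2_c30 LD3_c35)) :=
  Lgr Lrot143 (Lpr_dt (f108812 IH) (Lpe (f466213 IH) (Lpr_df (f97589 IH) (Lpe (f15394 IH) (Lpe (f15388 IH) (Lpe (f457982 IH) (Lpe (f446562 IH) (Lpr_gt (K28.f63007 IH) (Lpr_dt (K28.f473436 IH) (Lpn (LP (LK LD1_c3 LD2_c30 LD3_c35))))))))))))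
theorem f473446 : Led Lsl_cf (LP (LK LD1_c6 LD2_c51 LD3_c35)) = (LP (LK LD1_c6 LD2_c58 LD3_c54)) :=
  Lgr Lrot188 (Lpr_gt (f15810 IH) (Lpr_ct (K24.f15793 IH) (Lpr_dt (K2.f15799 IH) (Lpe (K0.f15885 IH) (Lpe (f15901 IH) (Lpe (f472219 IH) (Lpe (K28.f473434 IH) (Lpr_dt (K28.f473436 IH) (Lpe (f473438 IH) (Lpn (LP (LK LD1_c6 LD2_c58 LD3_c54))))))))))))
theorem f15731 : Led Lsl_bt (LP (LK LD1_c0 LD2_c46 LD3_c41)) = (LP (LK LD1_c0 LD2_c20 LD3_c60)) :=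
  Lre_b IH (LK LD1_c0 LD2_c46 LD3_c41) (LK LD1_c0 LD2_c20 LD3_c60) Lrfl Lrfl
def v866 : LQ := Led Lsl_gf (LP (LK LD1_c0 LD2_c53 LD3_c5))
theorem f459884 : Led Lsl_gf (LP (LK LD1_c0 LD2_c53 LD3_c5)) = v866 :=
  Lrfl
theorem f464226 : (LP (LK LD1_c1 LD2_c49 LD3_c27)) = v866 :=
  (Llr Lrot130 (Lpr_bf (K4.f5735 IH) (Lpe (K28.f17475 IH) (Lpr_gf (K28.f464215 IH) (Lpe (K28.f15773 IH) (Lpr_bt (K24.f15772 IH) (Lpe (K24.f15769 IH) (Lpe (f15731 IH) (Lpr_ct (K0.f15706 IH) (Lpe (f457982 IH) (Lpe (f446562 IH) (Lpr_gf (f459884 IH) (Lpn v866))))))))))))).symm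
theorem f63008 : Led Lsl_dt (LP (LK LD1_c0 LD2_c53 LD3_c5)) = (LP (LK LD1_c1 LD2_c52 LD3_c58)) :=
  Lre_d IH (LK LD1_c0 LD2_c53 LD3_c5) (LK LD1_c1 LD2_c52 LD3_c58) Lrfl Lrfl
theorem f457986 : Led Lsl_ct (LP (LK LD1_c3 LD2_c52 LD3_c41)) = (LP (LK LD1_c1 LD2_c52 LD3_c58)) :=
  Lre_c IH (LK LD1_c3 LD2_c52 LD3_c41) (LK LD1_c1 LD2_c52 LD3_c58) Lrfl Lrfl
theorem f459885 : Led Lsl_dt (LP (LK LD1_c7 LD2_c47 LD3_c8)) = (LP (LK LD1_c3 LD2_c52 LD3_c41)) :=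
  Lre_d IH (LK LD1_c7 LD2_c47 LD3_c8) (LK LD1_c3 LD2_c52 LD3_c41) Lrfl Lrfl
theorem f473453 : Led Lsl_gt (LP (LK LD1_c6 LD2_c51 LD3_c36)) = (LP (LK LD1_c7 LD2_c47 LD3_c8)) :=
  Lgr Lrot49 (Lpe (K2.f19041 IH) (Lpe (f15810 IH) (Lpr_cf (f473446 IH) (Lpr_gt (f17684 IH) (Lpr_dt (K4.f106132 IH) (Lpqs (f464226 IH) (Lpe (f459884 IH) (Lpr_dt (f63008 IH) (Lpe (f457986 IH) (Lpe (f459885 IH) (Lpn (LP (LK LD1_c7 LD2_c47 LD3_c8)))))))))))))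
theorem f15808 : Led Lsl_dt (LP (LK LD1_c6 LD2_c51 LD3_c36)) = (LP (LK LD1_c3 LD2_c24 LD3_c29)) :=
  Lre_d IH (LK LD1_c6 LD2_c51 LD3_c36) (LK LD1_c3 LD2_c24 LD3_c29) Lrfl Lrfl
theorem f459894 : Led Lsl_ct (LP (LK LD1_c7 LD2_c47 LD3_c8)) = (LP (LK LD1_c14 LD2_c41 LD3_c26)) :=
  Lre_c IH (LK LD1_c7 LD2_c47 LD3_c8) (LK LD1_c14 LD2_c41 LD3_c26) Lrfl Lrfl
theorem f473508 : Led Lsl_gf (LP (LK LD1_c22 LD2_c14 LD3_c0)) = (LP (LK LD1_c14 LD2_c41 LD3_c26)) :=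
  Lgr Lrot104 (Lpr_ct (K28.f464406 IH) (Lpe (K28.f98758 IH) (Lpr_cf (K28.f468310 IH) (Lpe (K28.f457480 IH) (Lpe (K28.f457479 IH) (Lpr_gf (K24.f457477 IH) (Lpe (f15808 IH) (Lpr_gt (f473453 IH) (Lpr_ct (f459894 IH) (Lpn (LP (LK LD1_c14 LD2_c41 LD3_c26))))))))))))
theorem f473030 : Led Lsl_af (LP (LK LD1_c22 LD2_c14 LD3_c0)) = (LP (LK LD1_c22 LD2_c13 LD3_c43)) :=
  Lgr Lrot0 (Lpr_at (K28.f472965 IH) (Lpn (LP (LK LD1_c22 LD2_c13 LD3_c43))))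
theorem f473049 : Led Lsl_ft (LP (LK LD1_c22 LD2_c12 LD3_c43)) = (LP (LK LD1_c22 LD2_c13 LD3_c43)) :=
  Lgr Lrot48 (Lpr_ff (K28.f473035 IH) (Lpn (LP (LK LD1_c22 LD2_c13 LD3_c43))))
theorem f473517 : Led Lsl_gt (LP (LK LD1_c22 LD2_c12 LD3_c43)) = (LP (LK LD1_c14 LD2_c41 LD3_c26)) :=
  Lgr Lrot5 (Lpr_ft (f473049 IH) (Lpe (f473030 IH) (Lpr_gf (f473508 IH) (Lpn (LP (LK LD1_c14 LD2_c41 LD3_c26))))))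
theorem f457961 : Led Lsl_ct (LP (LK LD1_c6 LD2_c57 LD3_c21)) = (LP (LK LD1_c13 LD2_c12 LD3_c30)) :=
  Lre_c IH (LK LD1_c6 LD2_c57 LD3_c21) (LK LD1_c13 LD2_c12 LD3_c30) Lrfl Lrfl
theorem f473354 : Led Lsl_df (LP (LK LD1_c22 LD2_c12 LD3_c43)) = (LP (LK LD1_c13 LD2_c12 LD3_c30)) :=
  Lgr Lrot106 (Lpr_ct (K28.f91231 IH) (Lpr_dt (K28.f91137 IH) (Lpe (K3.f91228 IH) (Lpr_dt (K4.f106132 IH) (Lpe (K24.f95189 IH) (Lpe (K28.f425151 IH) (Lpr_ff (K28.f473291 IH) (Lpr_dt (K28.f92000 IH) (Lpr_ct (f457961 IH) (Lpn (LP (LK LD1_c13 LD2_c12 LD3_c30))))))))))))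
theorem f457984 : Led Lsl_ct (LP (LK LD1_c1 LD2_c52 LD3_c57)) = (LP (LK LD1_c0 LD2_c53 LD3_c5)) :=
  Lre_c IH (LK LD1_c1 LD2_c52 LD3_c57) (LK LD1_c0 LD2_c53 LD3_c5) Lrfl Lrfl
theorem f97718 : Led Lsl_gt (LP (LK LD1_c3 LD2_c26 LD3_c15)) = (LP (LK LD1_c6 LD2_c54 LD3_c26)) :=
  Lre_g IH (LK LD1_c3 LD2_c26 LD3_c15) (LK LD1_c6 LD2_c54 LD3_c26) Lrfl Lrfl
theorem f457985 : Led Lsl_ct (LP (LK LD1_c6 LD2_c54 LD3_c26)) = (LP (LK LD1_c13 LD2_c7 LD3_c31)) :=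
  Lre_c IH (LK LD1_c6 LD2_c54 LD3_c26) (LK LD1_c13 LD2_c7 LD3_c31) Lrfl Lrfl
theorem f473263 : Led Lsl_ct (LP (LK LD1_c13 LD2_c12 LD3_c30)) = (LP (LK LD1_c6 LD2_c57 LD3_c21)) :=
  Lre_c IH (LK LD1_c13 LD2_c12 LD3_c30) (LK LD1_c6 LD2_c57 LD3_c21) Lrfl Lrfl
theorem f473415 : Led Lsl_gt (LP (LK LD1_c13 LD2_c7 LD3_c31)) = (LP (LK LD1_c13 LD2_c12 LD3_c30)) :=
  Lgr Lrot150 (Lpe (f457985 IH) (Lpe (f97718 IH) (Lpe (f14654 IH) (Lpe (f457980 IH) (Lpr_ct (f457984 IH) (Lpr_gt (K28.f63007 IH) (Lpr_ct (K28.f473402 IH) (Lpe (K28.f473283 IH) (Lpe (f473263 IH) (Lpn (LP (LK LD1_c13 LD2_c12 LD3_c30))))))))))))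
theorem f90904 : Led Lsl_ct (LP (LK LD1_c13 LD2_c7 LD3_c31)) = (LP (LK LD1_c6 LD2_c54 LD3_c26)) :=
  Lre_c IH (LK LD1_c13 LD2_c7 LD3_c31) (LK LD1_c6 LD2_c54 LD3_c26) Lrfl Lrfl
theorem f15392 : Led Lsl_gt (LP (LK LD1_c6 LD2_c54 LD3_c26)) = (LP (LK LD1_c3 LD2_c27 LD3_c31)) :=
  Lre_g IH (LK LD1_c6 LD2_c54 LD3_c26) (LK LD1_c3 LD2_c27 LD3_c31) Lrfl Lrfl
theorem f15352 : Led Lsl_dt (LP (LK LD1_c3 LD2_c27 LD3_c31)) = (LP (LK LD1_c1 LD2_c40 LD3_c21)) :=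
  Lre_d IH (LK LD1_c3 LD2_c27 LD3_c31) (LK LD1_c1 LD2_c40 LD3_c21) Lrfl Lrfl
theorem f17061 : Led Lsl_dt (LP (LK LD1_c3 LD2_c26 LD3_c14)) = (LP (LK LD1_c6 LD2_c54 LD3_c25)) :=
  Lre_d IH (LK LD1_c3 LD2_c26 LD3_c14) (LK LD1_c6 LD2_c54 LD3_c25) Lrfl Lrfl
theorem f17062 : Led Lsl_ct (LP (LK LD1_c6 LD2_c54 LD3_c25)) = (LP (LK LD1_c13 LD2_c7 LD3_c28)) :=
  Lre_c IH (LK LD1_c6 LD2_c54 LD3_c25) (LK LD1_c13 LD2_c7 LD3_c28) Lrfl Lrfl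
theorem f473524 : Led Lsl_df (LP (LK LD1_c13 LD2_c7 LD3_c28)) = (LP (LK LD1_c14 LD2_c41 LD3_c26)) :=
  Lgr Lrot84 (Lpe (f17062 IH) (Lpe (f17061 IH) (Lpe (f15760 IH) (Lpe (f15352 IH) (Lpe (f15392 IH) (Lpe (f90904 IH) (Lpr_gt (f473415 IH) (Lpe (f473354 IH) (Lpr_gt (f473517 IH) (Lpn (LP (LK LD1_c14 LD2_c41 LD3_c26))))))))))))
theorem f464471 : Led Lsl_ct (LP (LK LD1_c13 LD2_c7 LD3_c28)) = (LP (LK LD1_c6 LD2_c54 LD3_c25)) :=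
  Lre_c IH (LK LD1_c13 LD2_c7 LD3_c28) (LK LD1_c6 LD2_c54 LD3_c25) Lrfl Lrfl
theorem f464468 : Led Lsl_dt (LP (LK LD1_c6 LD2_c54 LD3_c25)) = (LP (LK LD1_c3 LD2_c26 LD3_c14)) :=
  Lre_d IH (LK LD1_c6 LD2_c54 LD3_c25) (LK LD1_c3 LD2_c26 LD3_c14) Lrfl Lrfl
theorem f459893 : Led Lsl_dt (LP (LK LD1_c3 LD2_c52 LD3_c41)) = (LP (LK LD1_c7 LD2_c47 LD3_c8)) :=
  Lre_d IH (LK LD1_c3 LD2_c52 LD3_c41) (LK LD1_c7 LD2_c47 LD3_c8) Lrfl Lrfl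
theorem f458092 : Led Lsl_ct (LP (LK LD1_c1 LD2_c52 LD3_c58)) = (LP (LK LD1_c3 LD2_c52 LD3_c41)) :=
  Lre_c IH (LK LD1_c1 LD2_c52 LD3_c58) (LK LD1_c3 LD2_c52 LD3_c41) Lrfl Lrfl
def v867 : LQ := Led Lsl_ft (LP (LK LD1_c0 LD2_c53 LD3_c5))
theorem f459890 : Led Lsl_ft (LP (LK LD1_c0 LD2_c53 LD3_c5)) = v867 :=
  Lrfl
theorem f473548 : Led Lsl_af (LP (LK LD1_c3 LD2_c44 LD3_c44)) = v867 :=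
  Lgr Lrot109 (Lpr_cf (f472216 IH) (Lpe (f464468 IH) (Lpe (f464471 IH) (Lpr_df (f473524 IH) (Lpe (f459894 IH) (Lpe (f459893 IH) (Lpe (f458092 IH) (Lpe (f63008 IH) (Lpr_ft (f459890 IH) (Lpn v867))))))))))
theorem f459892 : Led Lsl_ff (LP (LK LD1_c0 LD2_c53 LD3_c5)) = v867 :=
  Lgr Lrot3 (Lpr_ft (f459890 IH) (Lpn v867))
def v211 : LQ := Led Lsl_ft (LP (LK LD1_c0 LD2_c23 LD3_c55))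
theorem f451119 : Led Lsl_ft (LP (LK LD1_c0 LD2_c23 LD3_c55)) = v211 :=
  Lrfl
theorem f459895 : Led Lsl_bt v211 = v867 :=
  Lgr Lrot35 (Lpe (f451119 IH) (Lpe (f446561 IH) (Lpr_ff (f459892 IH) (Lpn v867))))
theorem f451121 : Led Lsl_ff (LP (LK LD1_c0 LD2_c23 LD3_c55)) = v211 :=
  Lgr Lrot3 (Lpr_ft (f451119 IH) (Lpn v211))
theorem f451123 : Led Lsl_at (LP (LK LD1_c0 LD2_c23 LD3_c56)) = v211 :=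
  Lgr Lrot66 (Lpr_ff (K24.f451118 IH) (Lpe (K24.f451108 IH) (Lpr_ff (f451121 IH) (Lpn v211))))
theorem f451124 : Led Lsl_at (LP (LK LD1_c1 LD2_c53 LD3_c7)) = (LP (LK LD1_c0 LD2_c53 LD3_c9)) :=
  Lre_a IH (LK LD1_c1 LD2_c53 LD3_c7) (LK LD1_c0 LD2_c53 LD3_c9) Lrfl Lrfl
theorem f473551 : Led Lsl_bt (LP (LK LD1_c3 LD2_c44 LD3_c44)) = (LP (LK LD1_c1 LD2_c53 LD3_c7)) :=
  Lgr Lrot62 (Lpr_af (f473548 IH) (Lpe (f459895 IH) (Lpe (f451123 IH) (Lpe (K28.f446563 IH) (Lpe (f451124 IH) (Lpn (LP (LK LD1_c1 LD2_c53 LD3_c7))))))))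
theorem f473552 : Led Lsl_bt (LP (LK LD1_c3 LD2_c44 LD3_c44)) = (LP (LK LD1_c1 LD2_c53 LD3_c7)) :=
  Leop (Lpe (f473551 IH) (Lpn (LP (LK LD1_c3 LD2_c44 LD3_c44))))
theorem seed_67 : LEOK LG_b (LK LD1_c3 LD2_c44 LD3_c44) :=
  Leoe_b (LK LD1_c3 LD2_c44 LD3_c44) (f473552 IH)
def v709 : LQ := Led Lsl_gf (LP (LK LD1_c0 LD2_c49 LD3_c34))
theorem f456883 : Led Lsl_gf (LP (LK LD1_c0 LD2_c49 LD3_c34)) = v709 :=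
  Lrfl
def v712 : LQ := Led Lsl_ft (LP (LK LD1_c0 LD2_c49 LD3_c34))
theorem f456894 : Led Lsl_ft (LP (LK LD1_c0 LD2_c49 LD3_c34)) = v712 :=
  Lrfl
theorem f456896 : Led Lsl_ff (LP (LK LD1_c0 LD2_c49 LD3_c34)) = v712 :=
  Lgr Lrot3 (Lpr_ft (f456894 IH) (Lpn v712))
theorem f10148 : Led Lsl_bt (LP (LK LD1_c0 LD2_c49 LD3_c34)) = (LP (LK LD1_c0 LD2_c22 LD3_c13)) :=
  Lre_b IH (LK LD1_c0 LD2_c49 LD3_c34) (LK LD1_c0 LD2_c22 LD3_c13) Lrfl Lrfl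
theorem f456897 : Led Lsl_bt K24.v172 = v712 :=
  Lgr Lrot35 (Lpe (K24.f450905 IH) (Lpe (f10148 IH) (Lpr_ff (f456896 IH) (Lpn v712))))
theorem f450894 : Led Lsl_bt (LP (LK LD1_c0 LD2_c22 LD3_c14)) = (LP (LK LD1_c0 LD2_c49 LD3_c35)) :=
  Lre_b IH (LK LD1_c0 LD2_c22 LD3_c14) (LK LD1_c0 LD2_c49 LD3_c35) Lrfl Lrfl
theorem f457229 : v712 = (LP (LK LD1_c0 LD2_c49 LD3_c35)) :=
  Lefun (Lecon (f456897 IH) (K24.f457227 IH)) (f450894 IH)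
def v715 : LQ := Led Lsl_at (LP (LK LD1_c0 LD2_c49 LD3_c35))
theorem f456907 : Led Lsl_at (LP (LK LD1_c0 LD2_c49 LD3_c35)) = v715 :=
  Lrfl
theorem f456908 : Led Lsl_af (LP (LK LD1_c0 LD2_c49 LD3_c35)) = v715 :=
  Lgr Lrot0 (Lpr_at (f456907 IH) (Lpn v715))
theorem f450891 : Led Lsl_at (LP (LK LD1_c0 LD2_c49 LD3_c34)) = (LP (LK LD1_c1 LD2_c45 LD3_c51)) :=
  Lre_a IH (LK LD1_c0 LD2_c49 LD3_c34) (LK LD1_c1 LD2_c45 LD3_c51) Lrfl Lrfl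
theorem f457265 : Led Lsl_ff v715 = (LP (LK LD1_c1 LD2_c45 LD3_c51)) :=
  Lgr Lrot30 (Lpe (f456908 IH) (Lpq (f457229 IH) (Lpe (f456896 IH) (Lpr_at (f450891 IH) (Lpn (LP (LK LD1_c1 LD2_c45 LD3_c51)))))))
theorem f457324 : Led Lsl_ft v715 = (LP (LK LD1_c1 LD2_c45 LD3_c51)) :=
  Lgr Lrot48 (Lpr_ff (f457265 IH) (Lpn (LP (LK LD1_c1 LD2_c45 LD3_c51))))
theorem f450889 : Led Lsl_at (LP (LK LD1_c1 LD2_c45 LD3_c51)) = (LP (LK LD1_c0 LD2_c49 LD3_c34)) :=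
  Lre_a IH (LK LD1_c1 LD2_c45 LD3_c51) (LK LD1_c0 LD2_c49 LD3_c34) Lrfl Lrfl
theorem f457326 : Led Lsl_gt v715 = v709 :=
  Lgr Lrot5 (Lpr_ft (f457324 IH) (Lpr_at (f450889 IH) (Lpr_gf (f456883 IH) (Lpn v709))))
theorem f473242 : Led Lsl_at (LP (LK LD1_c3 LD2_c26 LD3_c57)) = (LP (LK LD1_c1 LD2_c45 LD3_c54)) :=
  Lgr Lrot51 (Lpe (K28.f91504 IH) (Lpr_af (K28.f473238 IH) (Lpe (K28.f456902 IH) (Lpn (LP (LK LD1_c1 LD2_c45 LD3_c54))))))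
theorem f91506 : Led Lsl_et (LP (LK LD1_c1 LD2_c40 LD3_c5)) = (LP (LK LD1_c3 LD2_c26 LD3_c57)) :=
  Lre_e IH (LK LD1_c1 LD2_c40 LD3_c5) (LK LD1_c3 LD2_c26 LD3_c57) Lrfl Lrfl
theorem f455989 : Led Lsl_et (LP (LK LD1_c1 LD2_c45 LD3_c54)) = (LP (LK LD1_c0 LD2_c49 LD3_c35)) :=
  Lre_e IH (LK LD1_c1 LD2_c45 LD3_c54) (LK LD1_c0 LD2_c49 LD3_c35) Lrfl Lrfl
theorem f476750 : (LP (LK LD1_c1 LD2_c40 LD3_c5)) = v715 :=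
  (Llr Lrot20 (Lpr_et (f91506 IH) (Lpr_at (f473242 IH) (Lpr_et (f455989 IH) (Lpr_at (f456907 IH) (Lpn v715)))))).symm
theorem f476756 : v709 = (LP (LK LD1_c0 LD2_c46 LD3_c34)) :=
  Lefun (Lecon (f457326 IH) (f476750 IH).symm) (K28.f91498 IH)
theorem f132267 : Led Lsl_ft (LP (LK LD1_c0 LD2_c46 LD3_c34)) = (LP (LK LD1_c1 LD2_c40 LD3_c7)) :=
  Lre_f IH (LK LD1_c0 LD2_c46 LD3_c34) (LK LD1_c1 LD2_c40 LD3_c7) Lrfl Lrfl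
theorem f450898 : Led Lsl_gt (LP (LK LD1_c0 LD2_c49 LD3_c34)) = (LP (LK LD1_c1 LD2_c45 LD3_c50)) :=
  Lre_g IH (LK LD1_c0 LD2_c49 LD3_c34) (LK LD1_c1 LD2_c45 LD3_c50) Lrfl Lrfl
theorem f476771 : Led Lsl_at (LP (LK LD1_c1 LD2_c40 LD3_c7)) = (LP (LK LD1_c1 LD2_c45 LD3_c50)) :=
  Lgr Lrot26 (Lpe (f132267 IH) (Lpq (f476756 IH) (Lpe (f456883 IH) (Lpr_gt (f450898 IH) (Lpn (LP (LK LD1_c1 LD2_c45 LD3_c50)))))))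
theorem f476779 : Led Lsl_ff (LP (LK LD1_c0 LD2_c53 LD3_c52)) = (LP (LK LD1_c1 LD2_c45 LD3_c50)) :=
  Lgr Lrot30 (Lpr_at (K5.f132259 IH) (Lpr_ft (f132267 IH) (Lpr_at (f476771 IH) (Lpn (LP (LK LD1_c1 LD2_c45 LD3_c50))))))
theorem f467411 : Led Lsl_df (LP (LK LD1_c3 LD2_c41 LD3_c46)) = (LP (LK LD1_c3 LD2_c49 LD3_c14)) :=
  Lgr Lrot38 (Lpr_dt (K28.f467407 IH) (Lpn (LP (LK LD1_c3 LD2_c49 LD3_c14))))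
theorem f92542 : Led Lsl_et (LP (LK LD1_c3 LD2_c38 LD3_c16)) = (LP (LK LD1_c7 LD2_c14 LD3_c60)) :=
  Lgr Lrot87 (Lpr_ef (K28.f92533 IH) (Lpn (LP (LK LD1_c7 LD2_c14 LD3_c60))))
theorem f456478 : Led Lsl_cf (LP (LK LD1_c3 LD2_c41 LD3_c46)) = (LP (LK LD1_c7 LD2_c14 LD3_c60)) :=
  Lgr Lrot39 (Lpr_et (K28.f456477 IH) (Lpr_ct (K28.f456468 IH) (Lpr_et (f92542 IH) (Lpn (LP (LK LD1_c7 LD2_c14 LD3_c60))))))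
theorem f10558 : Led Lsl_dt (LP (LK LD1_c3 LD2_c37 LD3_c14)) = (LP (LK LD1_c7 LD2_c14 LD3_c60)) :=
  Lre_d IH (LK LD1_c3 LD2_c37 LD3_c14) (LK LD1_c7 LD2_c14 LD3_c60) Lrfl Lrfl
theorem f10522 : Led Lsl_gt (LP (LK LD1_c1 LD2_c45 LD3_c27)) = (LP (LK LD1_c3 LD2_c36 LD3_c22)) :=
  Lre_g IH (LK LD1_c1 LD2_c45 LD3_c27) (LK LD1_c3 LD2_c36 LD3_c22) Lrfl Lrfl
theorem f467417 : Led Lsl_gt (LP (LK LD1_c1 LD2_c51 LD3_c37)) = (LP (LK LD1_c3 LD2_c49 LD3_c3)) :=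
  Lre_g IH (LK LD1_c1 LD2_c51 LD3_c37) (LK LD1_c3 LD2_c49 LD3_c3) Lrfl Lrfl
theorem f467435 : Led Lsl_cf (LP (LK LD1_c1 LD2_c45 LD3_c27)) = (LP (LK LD1_c1 LD2_c51 LD3_c37)) :=
  Lgr Lrot166 (Lpr_gt (f10522 IH) (Lpr_dt (K3.f10515 IH) (Lpr_gt (K28.f10554 IH) (Lpr_dt (f10558 IH) (Lpe (f456478 IH) (Lpr_df (f467411 IH) (Lpe (K28.f467413 IH) (Lpe (K28.f467414 IH) (Lpe (f467417 IH) (Lpn (LP (LK LD1_c1 LD2_c51 LD3_c37))))))))))))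
theorem f6591 : Led Lsl_ct (LP (LK LD1_c1 LD2_c45 LD3_c4)) = (LP (LK LD1_c3 LD2_c36 LD3_c22)) :=
  Lre_c IH (LK LD1_c1 LD2_c45 LD3_c4) (LK LD1_c3 LD2_c36 LD3_c22) Lrfl Lrfl
theorem f5945 : Led Lsl_bt (LP (LK LD1_c0 LD2_c49 LD3_c28)) = (LP (LK LD1_c0 LD2_c22 LD3_c16)) :=
  Lre_b IH (LK LD1_c0 LD2_c49 LD3_c28) (LK LD1_c0 LD2_c22 LD3_c16) Lrfl Lrfl
theorem f10141 : Led Lsl_at (LP (LK LD1_c1 LD2_c45 LD3_c4)) = (LP (LK LD1_c0 LD2_c49 LD3_c28)) :=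
  Lre_a IH (LK LD1_c1 LD2_c45 LD3_c4) (LK LD1_c0 LD2_c49 LD3_c28) Lrfl Lrfl
theorem f10142 : Led Lsl_bt (LP (LK LD1_c1 LD2_c45 LD3_c4)) = (LP (LK LD1_c1 LD2_c45 LD3_c4)) :=
  Lgr Lrot62 (Lpe (K2.f10140 IH) (Lpe (K0.f5956 IH) (Lpr_af (K0.f10138 IH) (Lpe (f5945 IH) (Lpe (f10141 IH) (Lpn (LP (LK LD1_c1 LD2_c45 LD3_c4))))))))
theorem f6618 : Led Lsl_gt (LP (LK LD1_c1 LD2_c45 LD3_c4)) = (LP (LK LD1_c0 LD2_c49 LD3_c26)) :=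
  Lre_g IH (LK LD1_c1 LD2_c45 LD3_c4) (LK LD1_c0 LD2_c49 LD3_c26) Lrfl Lrfl
theorem f6651 : Led Lsl_bt (LP (LK LD1_c1 LD2_c45 LD3_c33)) = (LP (LK LD1_c0 LD2_c49 LD3_c26)) :=
  Lre_b IH (LK LD1_c1 LD2_c45 LD3_c33) (LK LD1_c0 LD2_c49 LD3_c26) Lrfl Lrfl
theorem f87133 : Led Lsl_gt (LP (LK LD1_c0 LD2_c52 LD3_c38)) = (LP (LK LD1_c1 LD2_c51 LD3_c37)) :=
  Lre_g IH (LK LD1_c0 LD2_c52 LD3_c38) (LK LD1_c1 LD2_c51 LD3_c37) Lrfl Lrfl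
theorem f89197 : Led Lsl_bt (LP (LK LD1_c0 LD2_c23 LD3_c48)) = (LP (LK LD1_c0 LD2_c52 LD3_c38)) :=
  Lre_b IH (LK LD1_c0 LD2_c23 LD3_c48) (LK LD1_c0 LD2_c52 LD3_c38) Lrfl Lrfl
theorem f87813 : Led Lsl_gt (LP (LK LD1_c1 LD2_c51 LD3_c48)) = (LP (LK LD1_c0 LD2_c52 LD3_c41)) :=
  Lre_g IH (LK LD1_c1 LD2_c51 LD3_c48) (LK LD1_c0 LD2_c52 LD3_c41) Lrfl Lrfl
theorem f467448 : Led Lsl_ct (LP (LK LD1_c1 LD2_c45 LD3_c33)) = (LP (LK LD1_c1 LD2_c51 LD3_c48)) :=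
  Lgr Lrot64 (Lpr_bt (f6651 IH) (Lpe (f6618 IH) (Lpe (f10142 IH) (Lpr_ct (f6591 IH) (Lpe (f10522 IH) (Lpr_cf (f467435 IH) (Lpe (f87133 IH) (Lpe (f89197 IH) (Lpr_ct (K2.f87959 IH) (Lpe (f87813 IH) (Lpn (LP (LK LD1_c1 LD2_c51 LD3_c48)))))))))))))
theorem f467460 : Led Lsl_et (LP (LK LD1_c3 LD2_c37 LD3_c24)) = (LP (LK LD1_c1 LD2_c45 LD3_c33)) :=
  Lre_e IH (LK LD1_c3 LD2_c37 LD3_c24) (LK LD1_c1 LD2_c45 LD3_c33) Lrfl Lrfl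
theorem f461678 : Led Lsl_et (LP (LK LD1_c1 LD2_c51 LD3_c48)) = (LP (LK LD1_c3 LD2_c49 LD3_c39)) :=
  Lre_e IH (LK LD1_c1 LD2_c51 LD3_c48) (LK LD1_c3 LD2_c49 LD3_c39) Lrfl Lrfl
theorem f467461 : Led Lsl_cf (LP (LK LD1_c3 LD2_c37 LD3_c24)) = (LP (LK LD1_c3 LD2_c49 LD3_c39)) :=
  Lgr Lrot39 (Lpr_et (f467460 IH) (Lpr_ct (f467448 IH) (Lpr_et (f461678 IH) (Lpn (LP (LK LD1_c3 LD2_c49 LD3_c39))))))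
theorem f467472 : Led Lsl_dt (LP (LK LD1_c7 LD2_c15 LD3_c17)) = (LP (LK LD1_c3 LD2_c37 LD3_c24)) :=
  Lre_d IH (LK LD1_c7 LD2_c15 LD3_c17) (LK LD1_c3 LD2_c37 LD3_c24) Lrfl Lrfl
theorem f460520 : Led Lsl_ct (LP (LK LD1_c7 LD2_c2 LD3_c56)) = (LP (LK LD1_c3 LD2_c53 LD3_c23)) :=
  Lgr Lrot59 (Lpr_cf (K24.f460506 IH) (Lpn (LP (LK LD1_c3 LD2_c53 LD3_c23))))
theorem f425691 : Led Lsl_dt (LP (LK LD1_c3 LD2_c30 LD3_c29)) = (LP (LK LD1_c7 LD2_c2 LD3_c58)) :=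
  Lre_d IH (LK LD1_c3 LD2_c30 LD3_c29) (LK LD1_c7 LD2_c2 LD3_c58) Lrfl Lrfl
theorem f460445 : Led Lsl_gt (LP (LK LD1_c7 LD2_c2 LD3_c58)) = (LP (LK LD1_c3 LD2_c52 LD3_c20)) :=
  Lre_g IH (LK LD1_c7 LD2_c2 LD3_c58) (LK LD1_c3 LD2_c52 LD3_c20) Lrfl Lrfl
theorem f460436 : Led Lsl_ct (LP (LK LD1_c3 LD2_c30 LD3_c42)) = (LP (LK LD1_c7 LD2_c3 LD3_c26)) :=
  Lre_c IH (LK LD1_c3 LD2_c30 LD3_c42) (LK LD1_c7 LD2_c3 LD3_c26) Lrfl Lrfl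
theorem f460524 : Led Lsl_dt (LP (LK LD1_c1 LD2_c41 LD3_c56)) = (LP (LK LD1_c3 LD2_c30 LD3_c42)) :=
  Lre_d IH (LK LD1_c1 LD2_c41 LD3_c56) (LK LD1_c3 LD2_c30 LD3_c42) Lrfl Lrfl
theorem f460585 : Led Lsl_gt (LP (LK LD1_c3 LD2_c29 LD3_c23)) = (LP (LK LD1_c1 LD2_c41 LD3_c56)) :=
  Lgr Lrot49 (Lpe (K4.f64633 IH) (Lpr_gf (K24.f460583 IH) (Lpe (f460520 IH) (Lpr_gt (K24.f425692 IH) (Lpr_dt (f425691 IH) (Lpr_gt (f460445 IH) (Lpr_dt (K24.f460432 IH) (Lpe (f460436 IH) (Lpe (f460524 IH) (Lpn (LP (LK LD1_c1 LD2_c41 LD3_c56))))))))))))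
theorem f87812 : Led Lsl_et (LP (LK LD1_c0 LD2_c23 LD3_c47)) = (LP (LK LD1_c0 LD2_c52 LD3_c41)) :=
  Lre_e IH (LK LD1_c0 LD2_c23 LD3_c47) (LK LD1_c0 LD2_c52 LD3_c41) Lrfl Lrfl
theorem f87814 : Led Lsl_et (LP (LK LD1_c3 LD2_c49 LD3_c39)) = (LP (LK LD1_c1 LD2_c51 LD3_c48)) :=
  Lre_e IH (LK LD1_c3 LD2_c49 LD3_c39) (LK LD1_c1 LD2_c51 LD3_c48) Lrfl Lrfl
theorem f461023 : Led Lsl_gt (LP (LK LD1_c3 LD2_c30 LD3_c42)) = (LP (LK LD1_c7 LD2_c3 LD3_c24)) :=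
  Lre_g IH (LK LD1_c3 LD2_c30 LD3_c42) (LK LD1_c7 LD2_c3 LD3_c24) Lrfl Lrfl
theorem f461581 : Led Lsl_dt (LP (LK LD1_c3 LD2_c49 LD3_c39)) = (LP (LK LD1_c7 LD2_c3 LD3_c24)) :=
  Lgr Lrot56 (Lpr_et (f87814 IH) (Lpr_gt (f87813 IH) (Lpe (f87812 IH) (Lpr_dt (K2.f63504 IH) (Lpe (K3.f87804 IH) (Lpr_df (K3.f64620 IH) (Lpr_et (K5.f64648 IH) (Lpr_gt (f460585 IH) (Lpr_dt (f460524 IH) (Lpr_gt (f461023 IH) (Lpn (LP (LK LD1_c7 LD2_c3 LD3_c24)))))))))))))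
theorem f461676 : Led Lsl_df (LP (LK LD1_c3 LD2_c49 LD3_c39)) = (LP (LK LD1_c7 LD2_c3 LD3_c24)) :=
  Lgr Lrot38 (Lpr_dt (f461581 IH) (Lpn (LP (LK LD1_c7 LD2_c3 LD3_c24))))
theorem f458436 : Led Lsl_dt (LP (LK LD1_c3 LD2_c24 LD3_c49)) = (LP (LK LD1_c6 LD2_c52 LD3_c6)) :=
  Lre_d IH (LK LD1_c3 LD2_c24 LD3_c49) (LK LD1_c6 LD2_c52 LD3_c6) Lrfl Lrfl
theorem f467473 : Led Lsl_gf (LP (LK LD1_c7 LD2_c15 LD3_c17)) = (LP (LK LD1_c6 LD2_c52 LD3_c6)) :=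
  Lgr Lrot143 (Lpr_dt (f467472 IH) (Lpr_cf (f467461 IH) (Lpr_df (f461676 IH) (Lpe (f461023 IH) (Lpe (f460524 IH) (Lpe (f460585 IH) (Lpe (K5.f109303 IH) (Lpr_gt (K28.f463705 IH) (Lpr_dt (f458436 IH) (Lpn (LP (LK LD1_c6 LD2_c52 LD3_c6))))))))))))
theorem f467471 : Led Lsl_dt (LP (LK LD1_c3 LD2_c37 LD3_c24)) = (LP (LK LD1_c7 LD2_c15 LD3_c17)) :=
  Lre_d IH (LK LD1_c3 LD2_c37 LD3_c24) (LK LD1_c7 LD2_c15 LD3_c17) Lrfl Lrfl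
theorem f467479 : Led Lsl_gt (LP (LK LD1_c1 LD2_c45 LD3_c33)) = (LP (LK LD1_c3 LD2_c35 LD3_c55)) :=
  Lgr Lrot131 (Lpe (f467460 IH) (Lpr_dt (f467471 IH) (Lpr_gf (f467473 IH) (Lpe (f458436 IH) (Lpe (K28.f463705 IH) (Lpe (K3.f108754 IH) (Lpr_dt (K3.f108752 IH) (Lpr_gf (K4.f114420 IH) (Lpe (K4.f91240 IH) (Lpr_et (K5.f91241 IH) (Lpn (LP (LK LD1_c3 LD2_c35 LD3_c55)))))))))))))
theorem f97105 : Led Lsl_gt (LP (LK LD1_c3 LD2_c37 LD3_c21)) = (LP (LK LD1_c1 LD2_c45 LD3_c33)) :=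
  Lre_g IH (LK LD1_c3 LD2_c37 LD3_c21) (LK LD1_c1 LD2_c45 LD3_c33) Lrfl Lrfl
theorem f91277 : Led Lsl_et (LP (LK LD1_c3 LD2_c35 LD3_c55)) = (LP (LK LD1_c1 LD2_c44 LD3_c48)) :=
  Lre_e IH (LK LD1_c3 LD2_c35 LD3_c55) (LK LD1_c1 LD2_c44 LD3_c48) Lrfl Lrfl
theorem f12321 : Led Lsl_et (LP (LK LD1_c0 LD2_c52 LD3_c50)) = (LP (LK LD1_c1 LD2_c52 LD3_c12)) :=
  Lre_e IH (LK LD1_c0 LD2_c52 LD3_c50) (LK LD1_c1 LD2_c52 LD3_c12) Lrfl Lrfl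
theorem f110062 : Led Lsl_af (LP (LK LD1_c3 LD2_c35 LD3_c55)) = (LP (LK LD1_c1 LD2_c52 LD3_c12)) :=
  Lgr Lrot50 (Lpr_et (f91277 IH) (Lpr_at (K3.f110056 IH) (Lpr_et (f12321 IH) (Lpn (LP (LK LD1_c1 LD2_c52 LD3_c12))))))
theorem f467481 : Led Lsl_ft (LP (LK LD1_c3 LD2_c37 LD3_c21)) = (LP (LK LD1_c1 LD2_c52 LD3_c12)) :=
  Lgr Lrot2 (Lpr_gt (f97105 IH) (Lpr_gt (f467479 IH) (Lpr_af (f110062 IH) (Lpn (LP (LK LD1_c1 LD2_c52 LD3_c12))))))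
theorem f467488 : Led Lsl_ff (LP (LK LD1_c3 LD2_c37 LD3_c21)) = (LP (LK LD1_c1 LD2_c52 LD3_c12)) :=
  Lgr Lrot3 (Lpr_ft (f467481 IH) (Lpn (LP (LK LD1_c1 LD2_c52 LD3_c12))))
theorem f476781 : Led Lsl_bt (LP (LK LD1_c3 LD2_c37 LD3_c21)) = (LP (LK LD1_c1 LD2_c45 LD3_c50)) :=
  Lgr Lrot35 (Lpr_ff (f467488 IH) (Lpr_bf (K5.f12206 IH) (Lpr_ff (f476779 IH) (Lpn (LP (LK LD1_c1 LD2_c45 LD3_c50))))))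
theorem f12319 : Led Lsl_ct (LP (LK LD1_c0 LD2_c52 LD3_c52)) = (LP (LK LD1_c1 LD2_c52 LD3_c12)) :=
  Lre_c IH (LK LD1_c0 LD2_c52 LD3_c52) (LK LD1_c1 LD2_c52 LD3_c12) Lrfl Lrfl
theorem f110107 : Led Lsl_ft (LP (LK LD1_c1 LD2_c52 LD3_c15)) = (LP (LK LD1_c0 LD2_c52 LD3_c52)) :=
  Lre_f IH (LK LD1_c1 LD2_c52 LD3_c15) (LK LD1_c0 LD2_c52 LD3_c52) Lrfl Lrfl
theorem f467490 : Led Lsl_ct (LP (LK LD1_c3 LD2_c37 LD3_c21)) = (LP (LK LD1_c1 LD2_c52 LD3_c15)) :=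
  Lgr Lrot40 (Lpr_ff (f467488 IH) (Lpe (f12319 IH) (Lpe (f110107 IH) (Lpn (LP (LK LD1_c1 LD2_c52 LD3_c15))))))
theorem f450890 : Led Lsl_bt (LP (LK LD1_c0 LD2_c22 LD3_c13)) = (LP (LK LD1_c0 LD2_c49 LD3_c34)) :=
  Lre_b IH (LK LD1_c0 LD2_c22 LD3_c13) (LK LD1_c0 LD2_c49 LD3_c34) Lrfl Lrfl
theorem f437665 : Led Lsl_bt (LP (LK LD1_c0 LD2_c53 LD3_c46)) = (LP (LK LD1_c0 LD2_c24 LD3_c9)) :=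
  Lre_b IH (LK LD1_c0 LD2_c53 LD3_c46) (LK LD1_c0 LD2_c24 LD3_c9) Lrfl Lrfl
theorem f437666 : Led Lsl_ct (LP (LK LD1_c0 LD2_c53 LD3_c46)) = (LP (LK LD1_c1 LD2_c54 LD3_c24)) :=
  Lre_c IH (LK LD1_c0 LD2_c53 LD3_c46) (LK LD1_c1 LD2_c54 LD3_c24) Lrfl Lrfl
theorem f477159 : Led Lsl_gt (LP (LK LD1_c1 LD2_c52 LD3_c15)) = (LP (LK LD1_c1 LD2_c54 LD3_c24)) :=
  Lgr Lrot65 (Lpe (f467490 IH) (Lpr_bt (f476781 IH) (Lpe (f450898 IH) (Lpe (f450890 IH) (Lpr_ct (K24.f450896 IH) (Lpqs (K24.f455968 IH) (Lpe (K24.f123401 IH) (Lpr_cf (K24.f12187 IH) (Lpe (K24.f12124 IH) (Lpe (f437665 IH) (Lpr_ct (f437666 IH) (Lpn (LP (LK LD1_c1 LD2_c54 LD3_c24))))))))))))))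
theorem f477161 : Led Lsl_gf (LP (LK LD1_c1 LD2_c50 LD3_c50)) = (LP (LK LD1_c1 LD2_c54 LD3_c24)) :=
  Lgr Lrot76 (Lpr_af (K3.f110095 IH) (Lpe (f110107 IH) (Lpr_gt (f477159 IH) (Lpn (LP (LK LD1_c1 LD2_c54 LD3_c24))))))
theorem f63729 : Led Lsl_et (LP (LK LD1_c0 LD2_c52 LD3_c18)) = (LP (LK LD1_c1 LD2_c50 LD3_c50)) :=
  Lre_e IH (LK LD1_c0 LD2_c52 LD3_c18) (LK LD1_c1 LD2_c50 LD3_c50) Lrfl Lrfl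
theorem f18761 : Led Lsl_dt (LP (LK LD1_c3 LD2_c29 LD3_c6)) = (LP (LK LD1_c6 LD2_c59 LD3_c60)) :=
  Lre_d IH (LK LD1_c3 LD2_c29 LD3_c6) (LK LD1_c6 LD2_c59 LD3_c60) Lrfl Lrfl
theorem f459766 : Led Lsl_ff (LP (LK LD1_c0 LD2_c52 LD3_c23)) = K24.v849 :=
  Lgr Lrot3 (Lpr_ft (K24.f459727 IH) (Lpn K24.v849))
theorem f26200 : Led Lsl_bt (LP (LK LD1_c0 LD2_c50 LD3_c49)) = (LP (LK LD1_c1 LD2_c46 LD3_c4)) :=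
  Lgr Lrot127 (Lpr_bf (K8.f26193 IH) (Lpn (LP (LK LD1_c1 LD2_c46 LD3_c4))))
theorem f473567 : Led Lsl_gf (LP (LK LD1_c1 LD2_c46 LD3_c4)) = (LP (LK LD1_c1 LD2_c53 LD3_c7)) :=
  Lgr Lrot124 (Lpe (f26200 IH) (Lpr_ct (K8.f26202 IH) (Lpr_gt (K28.f26210 IH) (Lpe (K28.f462807 IH) (Lpr_bt (K28.f15902 IH) (Lpr_gt (K28.f15716 IH) (Lpr_ct (K0.f15706 IH) (Lpr_gt (f15760 IH) (Lpe (f472219 IH) (Lpr_bt (f473551 IH) (Lpn (LP (LK LD1_c1 LD2_c53 LD3_c7)))))))))))))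
theorem f473569 : Led Lsl_dt (LP (LK LD1_c3 LD2_c53 LD3_c2)) = (LP (LK LD1_c1 LD2_c53 LD3_c7)) :=
  Lre_d IH (LK LD1_c3 LD2_c53 LD3_c2) (LK LD1_c1 LD2_c53 LD3_c7) Lrfl Lrfl
theorem f473572 : Led Lsl_ef (LP (LK LD1_c3 LD2_c39 LD3_c12)) = (LP (LK LD1_c3 LD2_c53 LD3_c2)) :=
  Lgr Lrot17 (Lpe (K28.f5750 IH) (Lpe (K4.f5734 IH) (Lpr_dt (K0.f5711 IH) (Lpe (K2.f5758 IH) (Lpe (K2.f5763 IH) (Lpe (K2.f94450 IH) (Lpe (K5.f94480 IH) (Lpe (K28.f105961 IH) (Lpr_gf (f473567 IH) (Lpe (f473569 IH) (Lpn (LP (LK LD1_c3 LD2_c53 LD3_c2)))))))))))))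
theorem f473581 : Led Lsl_et (LP (LK LD1_c3 LD2_c39 LD3_c12)) = (LP (LK LD1_c3 LD2_c53 LD3_c2)) :=
  Lgr Lrot87 (Lpr_ef (f473572 IH) (Lpn (LP (LK LD1_c3 LD2_c53 LD3_c2))))
theorem f106125 : Led Lsl_dt (LP (LK LD1_c7 LD2_c18 LD3_c46)) = (LP (LK LD1_c3 LD2_c39 LD3_c12)) :=
  Lre_d IH (LK LD1_c7 LD2_c18 LD3_c46) (LK LD1_c3 LD2_c39 LD3_c12) Lrfl Lrfl
theorem f473564 : Led Lsl_et (LP (LK LD1_c1 LD2_c53 LD3_c7)) = (LP (LK LD1_c3 LD2_c53 LD3_c3)) :=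
  Lre_e IH (LK LD1_c1 LD2_c53 LD3_c7) (LK LD1_c3 LD2_c53 LD3_c3) Lrfl Lrfl
theorem f473571 : Led Lsl_dt (LP (LK LD1_c3 LD2_c53 LD3_c3)) = (LP (LK LD1_c7 LD2_c47 LD3_c56)) :=
  Lre_d IH (LK LD1_c3 LD2_c53 LD3_c3) (LK LD1_c7 LD2_c47 LD3_c56) Lrfl Lrfl
theorem f473587 : Led Lsl_ef (LP (LK LD1_c7 LD2_c18 LD3_c46)) = (LP (LK LD1_c7 LD2_c47 LD3_c56)) :=
  Lgr Lrot73 (Lpr_dt (f106125 IH) (Lpr_et (f473581 IH) (Lpr_dt (f473569 IH) (Lpr_et (f473564 IH) (Lpr_dt (f473571 IH) (Lpn (LP (LK LD1_c7 LD2_c47 LD3_c56))))))))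
theorem f129800 : Led Lsl_at (LP (LK LD1_c3 LD2_c53 LD3_c12)) = (LP (LK LD1_c7 LD2_c47 LD3_c56)) :=
  Lre_a IH (LK LD1_c3 LD2_c53 LD3_c12) (LK LD1_c7 LD2_c47 LD3_c56) Lrfl Lrfl
theorem f129791 : Led Lsl_et (LP (LK LD1_c0 LD2_c23 LD3_c56)) = (LP (LK LD1_c0 LD2_c53 LD3_c12)) :=
  Lre_e IH (LK LD1_c0 LD2_c23 LD3_c56) (LK LD1_c0 LD2_c53 LD3_c12) Lrfl Lrfl
theorem f129792 : Led Lsl_dt (LP (LK LD1_c0 LD2_c53 LD3_c12)) = (LP (LK LD1_c1 LD2_c53 LD3_c15)) :=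
  Lre_d IH (LK LD1_c0 LD2_c53 LD3_c12) (LK LD1_c1 LD2_c53 LD3_c15) Lrfl Lrfl
theorem f85282 : Led Lsl_dt (LP (LK LD1_c1 LD2_c51 LD3_c1)) = (LP (LK LD1_c0 LD2_c52 LD3_c22)) :=
  Lre_d IH (LK LD1_c1 LD2_c51 LD3_c1) (LK LD1_c0 LD2_c52 LD3_c22) Lrfl Lrfl
theorem f129793 : Led Lsl_et (LP (LK LD1_c1 LD2_c53 LD3_c15)) = (LP (LK LD1_c1 LD2_c51 LD3_c1)) :=
  Lgr Lrot71 (Lpe (f129792 IH) (Lpe (f129791 IH) (Lpe (K24.f64990 IH) (Lpr_ef (K24.f129667 IH) (Lpe (f85282 IH) (Lpn (LP (LK LD1_c1 LD2_c51 LD3_c1))))))))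
theorem f129795 : Led Lsl_bt (LP (LK LD1_c3 LD2_c53 LD3_c12)) = (LP (LK LD1_c1 LD2_c53 LD3_c15)) :=
  Lre_b IH (LK LD1_c3 LD2_c53 LD3_c12) (LK LD1_c1 LD2_c53 LD3_c15) Lrfl Lrfl
theorem f129796 : Led Lsl_bt (LP (LK LD1_c1 LD2_c51 LD3_c1)) = (LP (LK LD1_c3 LD2_c48 LD3_c0)) :=
  Lre_b IH (LK LD1_c1 LD2_c51 LD3_c1) (LK LD1_c3 LD2_c48 LD3_c0) Lrfl Lrfl
theorem f129797 : Led Lsl_ef (LP (LK LD1_c3 LD2_c53 LD3_c12)) = (LP (LK LD1_c3 LD2_c48 LD3_c0)) :=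
  Lgr Lrot29 (Lpr_bt (f129795 IH) (Lpr_et (f129793 IH) (Lpr_bt (f129796 IH) (Lpn (LP (LK LD1_c3 LD2_c48 LD3_c0))))))
theorem f473589 : Led Lsl_at (LP (LK LD1_c7 LD2_c18 LD3_c46)) = (LP (LK LD1_c3 LD2_c48 LD3_c0)) :=
  Lgr Lrot80 (Lpr_ef (f473587 IH) (Lpe (f129800 IH) (Lpr_ef (f129797 IH) (Lpn (LP (LK LD1_c3 LD2_c48 LD3_c0))))))
theorem f473591 : Led Lsl_af (LP (LK LD1_c7 LD2_c18 LD3_c46)) = (LP (LK LD1_c3 LD2_c48 LD3_c0)) :=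
  Lgr Lrot0 (Lpr_at (f473589 IH) (Lpn (LP (LK LD1_c3 LD2_c48 LD3_c0))))
theorem f455335 : Led Lsl_dt (LP (LK LD1_c6 LD2_c58 LD3_c32)) = (LP (LK LD1_c3 LD2_c28 LD3_c10)) :=
  Lre_d IH (LK LD1_c6 LD2_c58 LD3_c32) (LK LD1_c3 LD2_c28 LD3_c10) Lrfl Lrfl
theorem f439592 : Led Lsl_ct (LP (LK LD1_c7 LD2_c19 LD3_c12)) = (LP (LK LD1_c13 LD2_c41 LD3_c50)) :=
  Lgr Lrot59 (Lpr_cf (K28.f439590 IH) (Lpn (LP (LK LD1_c13 LD2_c41 LD3_c50))))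
theorem f208974 : Led Lsl_dt (LP (LK LD1_c3 LD2_c39 LD3_c30)) = (LP (LK LD1_c7 LD2_c19 LD3_c12)) :=
  Lre_d IH (LK LD1_c3 LD2_c39 LD3_c30) (LK LD1_c7 LD2_c19 LD3_c12) Lrfl Lrfl
theorem f463267 : Led Lsl_bt (LP (LK LD1_c7 LD2_c4 LD3_c25)) = (LP (LK LD1_c3 LD2_c31 LD3_c22)) :=
  Lre_b IH (LK LD1_c7 LD2_c4 LD3_c25) (LK LD1_c3 LD2_c31 LD3_c22) Lrfl Lrfl
theorem f463324 : Led Lsl_ef (LP (LK LD1_c3 LD2_c43 LD3_c42)) = (LP (LK LD1_c3 LD2_c31 LD3_c22)) :=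
  Lgr Lrot17 (Lpe (K28.f439188 IH) (Lpe (K28.f438049 IH) (Lpr_dt (K28.f438050 IH) (Lpr_gf (K28.f462237 IH) (Lpe (K28.f451979 IH) (Lpr_gf (K28.f462652 IH) (Lpe (K28.f462795 IH) (Lpr_dt (K28.f462788 IH) (Lpr_gf (K28.f463321 IH) (Lpe (K28.f459284 IH) (Lpn (LP (LK LD1_c3 LD2_c31 LD3_c22)))))))))))))
theorem f131886 : Led Lsl_et (LP (LK LD1_c7 LD2_c28 LD3_c2)) = (LP (LK LD1_c14 LD2_c5 LD3_c55)) :=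
  Lre_e IH (LK LD1_c7 LD2_c28 LD3_c2) (LK LD1_c14 LD2_c5 LD3_c55) Lrfl Lrfl
theorem f463334 : Led Lsl_dt (LP (LK LD1_c14 LD2_c5 LD3_c55)) = (LP (LK LD1_c13 LD2_c24 LD3_c38)) :=
  Lgr Lrot77 (Lpe (f131886 IH) (Lpe (K28.f131765 IH) (Lpr_ef (f463324 IH) (Lpe (K28.f459282 IH) (Lpe (K28.f463315 IH) (Lpn (LP (LK LD1_c13 LD2_c24 LD3_c38))))))))
theorem f463341 : Led Lsl_df (LP (LK LD1_c14 LD2_c5 LD3_c55)) = (LP (LK LD1_c13 LD2_c24 LD3_c38)) :=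
  Lgr Lrot38 (Lpr_dt (f463334 IH) (Lpn (LP (LK LD1_c13 LD2_c24 LD3_c38))))
theorem f439167 : Led Lsl_bt (LP (LK LD1_c14 LD2_c5 LD3_c55)) = (LP (LK LD1_c23 LD2_c38 LD3_c44)) :=
  Lre_b IH (LK LD1_c14 LD2_c5 LD3_c55) (LK LD1_c23 LD2_c38 LD3_c44) Lrfl Lrfl
theorem f463347 : Led Lsl_bt (LP (LK LD1_c22 LD2_c42 LD3_c50)) = (LP (LK LD1_c13 LD2_c24 LD3_c38)) :=
  Lre_b IH (LK LD1_c22 LD2_c42 LD3_c50) (LK LD1_c13 LD2_c24 LD3_c38) Lrfl Lrfl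
theorem f463348 : Led Lsl_dt (LP (LK LD1_c23 LD2_c38 LD3_c44)) = (LP (LK LD1_c22 LD2_c42 LD3_c50)) :=
  Lgr Lrot79 (Lpe (f439167 IH) (Lpr_df (f463341 IH) (Lpe (f463347 IH) (Lpn (LP (LK LD1_c22 LD2_c42 LD3_c50))))))
theorem f463352 : Led Lsl_et (LP (LK LD1_c14 LD2_c5 LD3_c25)) = (LP (LK LD1_c23 LD2_c38 LD3_c44)) :=
  Lre_e IH (LK LD1_c14 LD2_c5 LD3_c25) (LK LD1_c23 LD2_c38 LD3_c44) Lrfl Lrfl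
theorem f439561 : Led Lsl_dt (LP (LK LD1_c7 LD2_c27 LD3_c50)) = (LP (LK LD1_c14 LD2_c5 LD3_c25)) :=
  Lre_d IH (LK LD1_c7 LD2_c27 LD3_c50) (LK LD1_c14 LD2_c5 LD3_c25) Lrfl Lrfl
theorem f463353 : Led Lsl_et (LP (LK LD1_c22 LD2_c42 LD3_c50)) = (LP (LK LD1_c13 LD2_c24 LD3_c36)) :=
  Lre_e IH (LK LD1_c22 LD2_c42 LD3_c50) (LK LD1_c13 LD2_c24 LD3_c36) Lrfl Lrfl
theorem f463354 : Led Lsl_dt (LP (LK LD1_c13 LD2_c24 LD3_c36)) = (LP (LK LD1_c7 LD2_c4 LD3_c25)) :=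
  Lre_d IH (LK LD1_c13 LD2_c24 LD3_c36) (LK LD1_c7 LD2_c4 LD3_c25) Lrfl Lrfl
theorem f463355 : Led Lsl_ef (LP (LK LD1_c7 LD2_c27 LD3_c50)) = (LP (LK LD1_c7 LD2_c4 LD3_c25)) :=
  Lgr Lrot73 (Lpr_dt (f439561 IH) (Lpr_et (f463352 IH) (Lpr_dt (f463348 IH) (Lpr_et (f463353 IH) (Lpr_dt (f463354 IH) (Lpn (LP (LK LD1_c7 LD2_c4 LD3_c25))))))))
theorem f208982 : Led Lsl_bt (LP (LK LD1_c3 LD2_c38 LD3_c31)) = (LP (LK LD1_c7 LD2_c17 LD3_c20)) :=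
  Lre_b IH (LK LD1_c3 LD2_c38 LD3_c31) (LK LD1_c7 LD2_c17 LD3_c20) Lrfl Lrfl
theorem f131725 : Led Lsl_bt (LP (LK LD1_c7 LD2_c27 LD3_c50)) = (LP (LK LD1_c3 LD2_c43 LD3_c42)) :=
  Lre_b IH (LK LD1_c7 LD2_c27 LD3_c50) (LK LD1_c3 LD2_c43 LD3_c42) Lrfl Lrfl
theorem f439557 : Led Lsl_ct (LP (LK LD1_c7 LD2_c17 LD3_c20)) = (LP (LK LD1_c7 LD2_c27 LD3_c50)) :=
  Lgr Lrot83 (Lpe (f208982 IH) (Lpr_cf (K28.f439553 IH) (Lpr_bf (K5.f131715 IH) (Lpe (K28.f131724 IH) (Lpe (f131725 IH) (Lpn (LP (LK LD1_c7 LD2_c27 LD3_c50))))))))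
theorem f439559 : Led Lsl_cf (LP (LK LD1_c7 LD2_c17 LD3_c20)) = (LP (LK LD1_c7 LD2_c27 LD3_c50)) :=
  Lgr Lrot11 (Lpr_ct (f439557 IH) (Lpn (LP (LK LD1_c7 LD2_c27 LD3_c50))))
theorem f208956 : Led Lsl_ft (LP (LK LD1_c7 LD2_c19 LD3_c9)) = (LP (LK LD1_c3 LD2_c39 LD3_c28)) :=
  Lre_f IH (LK LD1_c7 LD2_c19 LD3_c9) (LK LD1_c3 LD2_c39 LD3_c28) Lrfl Lrfl
theorem f208957 : Led Lsl_et (LP (LK LD1_c1 LD2_c46 LD3_c13)) = (LP (LK LD1_c3 LD2_c38 LD3_c29)) :=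
  Lre_e IH (LK LD1_c1 LD2_c46 LD3_c13) (LK LD1_c3 LD2_c38 LD3_c29) Lrfl Lrfl
theorem f208958 : Led Lsl_ft (LP (LK LD1_c3 LD2_c38 LD3_c29)) = (LP (LK LD1_c7 LD2_c17 LD3_c20)) :=
  Lre_f IH (LK LD1_c3 LD2_c38 LD3_c29) (LK LD1_c7 LD2_c17 LD3_c20) Lrfl Lrfl
theorem f208959 : Led Lsl_ef (LP (LK LD1_c7 LD2_c19 LD3_c9)) = (LP (LK LD1_c7 LD2_c17 LD3_c20)) :=
  Lgr Lrot21 (Lpr_ft (f208956 IH) (Lpr_et (K28.f208955 IH) (Lpr_ft (K28.f208951 IH) (Lpr_et (f208957 IH) (Lpr_ft (f208958 IH) (Lpn (LP (LK LD1_c7 LD2_c17 LD3_c20))))))))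
theorem f463360 : Led Lsl_ct (LP (LK LD1_c7 LD2_c19 LD3_c9)) = (LP (LK LD1_c7 LD2_c4 LD3_c25)) :=
  Lgr Lrot15 (Lpr_ef (f208959 IH) (Lpr_cf (f439559 IH) (Lpr_ef (f463355 IH) (Lpn (LP (LK LD1_c7 LD2_c4 LD3_c25))))))
theorem f466546 : Led Lsl_ct (LP (LK LD1_c3 LD2_c30 LD3_c50)) = (LP (LK LD1_c3 LD2_c39 LD3_c30)) :=
  Lgr Lrot83 (Lpr_bf (K28.f466493 IH) (Lpe (K28.f459280 IH) (Lpe (f463267 IH) (Lpe (f463360 IH) (Lpe (K28.f208969 IH) (Lpn (LP (LK LD1_c3 LD2_c39 LD3_c30))))))))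
theorem f470631 : Led Lsl_ct (LP (LK LD1_c3 LD2_c28 LD3_c10)) = (LP (LK LD1_c1 LD2_c53 LD3_c6)) :=
  Lgr Lrot133 (Lpe (f455335 IH) (Lpr_ft (K28.f470611 IH) (Lpe (K8.f160343 IH) (Lpe (K28.f17488 IH) (Lpe (K28.f17492 IH) (Lpe (f439592 IH) (Lpe (f208974 IH) (Lpe (f466546 IH) (Lpr_df (K28.f466485 IH) (Lpn (LP (LK LD1_c1 LD2_c53 LD3_c6))))))))))))
theorem f455294 : Led Lsl_ct (LP (LK LD1_c1 LD2_c40 LD3_c36)) = (LP (LK LD1_c3 LD2_c27 LD3_c60)) :=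
  Lre_c IH (LK LD1_c1 LD2_c40 LD3_c36) (LK LD1_c3 LD2_c27 LD3_c60) Lrfl Lrfl
theorem f106222 : Led Lsl_gt (LP (LK LD1_c0 LD2_c49 LD3_c2)) = (LP (LK LD1_c1 LD2_c44 LD3_c46)) :=
  Lre_g IH (LK LD1_c0 LD2_c49 LD3_c2) (LK LD1_c1 LD2_c44 LD3_c46) Lrfl Lrfl
theorem f106226 : Led Lsl_ct (LP (LK LD1_c1 LD2_c44 LD3_c46)) = (LP (LK LD1_c3 LD2_c35 LD3_c52)) :=
  Lre_c IH (LK LD1_c1 LD2_c44 LD3_c46) (LK LD1_c3 LD2_c35 LD3_c52) Lrfl Lrfl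
theorem f466483 : Led Lsl_dt (LP (LK LD1_c3 LD2_c30 LD3_c50)) = (LP (LK LD1_c1 LD2_c53 LD3_c6)) :=
  Lgr Lrot6 (Lpr_gt (K28.f64670 IH) (Lpr_ct (K28.f18829 IH) (Lpr_gt (K28.f466466 IH) (Lpr_ct (K3.f92413 IH) (Lpr_df (K28.f128099 IH) (Lpe (K28.f128101 IH) (Lpr_gf (K28.f464841 IH) (Lpe (K28.f446564 IH) (Lpe (K28.f88019 IH) (Lpn (LP (LK LD1_c1 LD2_c53 LD3_c6))))))))))))
theorem f466558 : Led Lsl_cf (LP (LK LD1_c3 LD2_c30 LD3_c50)) = (LP (LK LD1_c3 LD2_c39 LD3_c30)) :=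
  Lgr Lrot108 (Lpr_ft (K28.f466552 IH) (Lpr_ct (K28.f94448 IH) (Lpr_ft (K28.f208984 IH) (Lpn (LP (LK LD1_c3 LD2_c39 LD3_c30))))))
theorem f470633 : Led Lsl_gt (LP (LK LD1_c3 LD2_c35 LD3_c52)) = (LP (LK LD1_c3 LD2_c39 LD3_c30)) :=
  Lgr Lrot150 (Lpe (f106226 IH) (Lpe (f106222 IH) (Lpr_df (K24.f106204 IH) (Lpqs (K28.f461930 IH) (Lpe (K28.f455490 IH) (Lpr_ct (f455294 IH) (Lpr_gt (K28.f455331 IH) (Lpr_ct (f470631 IH) (Lpe (f466483 IH) (Lpr_cf (f466558 IH) (Lpn (LP (LK LD1_c3 LD2_c39 LD3_c30)))))))))))))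
theorem f441627 : Led Lsl_ct (LP (LK LD1_c3 LD2_c35 LD3_c52)) = (LP (LK LD1_c1 LD2_c44 LD3_c46)) :=
  Lre_c IH (LK LD1_c3 LD2_c35 LD3_c52) (LK LD1_c1 LD2_c44 LD3_c46) Lrfl Lrfl
theorem f108628 : Led Lsl_at (LP (LK LD1_c1 LD2_c44 LD3_c47)) = (LP (LK LD1_c1 LD2_c43 LD3_c3)) :=
  Lgr Lrot107 (Lpe (K3.f108237 IH) (Lpr_af (K3.f108622 IH) (Lpe (K3.f108627 IH) (Lpn (LP (LK LD1_c1 LD2_c43 LD3_c3))))))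
theorem f441625 : Led Lsl_gt (LP (LK LD1_c1 LD2_c44 LD3_c46)) = (LP (LK LD1_c1 LD2_c43 LD3_c3)) :=
  Lgr Lrot46 (Lpe (f106222 IH) (Lpr_ft (K3.f106221 IH) (Lpr_at (f108628 IH) (Lpn (LP (LK LD1_c1 LD2_c43 LD3_c3))))))
theorem f446428 : Led Lsl_bt (LP (LK LD1_c1 LD2_c40 LD3_c39)) = (LP (LK LD1_c0 LD2_c46 LD3_c47)) :=
  Lre_b IH (LK LD1_c1 LD2_c40 LD3_c39) (LK LD1_c0 LD2_c46 LD3_c47) Lrfl Lrfl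
theorem f446430 : Led Lsl_df (LP (LK LD1_c1 LD2_c40 LD3_c39)) = (LP (LK LD1_c0 LD2_c46 LD3_c48)) :=
  Lgr Lrot12 (Lpr_bt (f446428 IH) (Lpr_dt (K24.f446426 IH) (Lpr_bt (K24.f446429 IH) (Lpn (LP (LK LD1_c0 LD2_c46 LD3_c48))))))
theorem f446480 : Led Lsl_ct (LP (LK LD1_c1 LD2_c40 LD3_c39)) = (LP (LK LD1_c3 LD2_c28 LD3_c3)) :=
  Lre_c IH (LK LD1_c1 LD2_c40 LD3_c39) (LK LD1_c3 LD2_c28 LD3_c3) Lrfl Lrfl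
theorem f446444 : Led Lsl_dt (LP (LK LD1_c6 LD2_c58 LD3_c21)) = (LP (LK LD1_c3 LD2_c28 LD3_c3)) :=
  Lre_d IH (LK LD1_c6 LD2_c58 LD3_c21) (LK LD1_c3 LD2_c28 LD3_c3) Lrfl Lrfl
theorem f470661 : Led Lsl_gf (LP (LK LD1_c6 LD2_c58 LD3_c21)) = (LP (LK LD1_c7 LD2_c19 LD3_c12)) :=
  Lgr Lrot143 (Lpr_dt (f446444 IH) (Lpe (f446480 IH) (Lpr_df (f446430 IH) (Lpe (K24.f446456 IH) (Lpq (K24.f461932 IH) (Lpe (K28.f455832 IH) (Lpe (f441625 IH) (Lpe (f441627 IH) (Lpr_gt (f470633 IH) (Lpr_dt (f208974 IH) (Lpn (LP (LK LD1_c7 LD2_c19 LD3_c12)))))))))))))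
theorem f446466 : Led Lsl_at (LP (LK LD1_c3 LD2_c28 LD3_c3)) = (LP (LK LD1_c6 LD2_c58 LD3_c12)) :=
  Lre_a IH (LK LD1_c3 LD2_c28 LD3_c3) (LK LD1_c6 LD2_c58 LD3_c12) Lrfl Lrfl
theorem f464191 : Led Lsl_at (LP (LK LD1_c7 LD2_c19 LD3_c10)) = (LP (LK LD1_c6 LD2_c58 LD3_c21)) :=
  Lgr Lrot51 (Lpr_df (K28.f464189 IH) (Lpe (f446466 IH) (Lpe (f446444 IH) (Lpn (LP (LK LD1_c6 LD2_c58 LD3_c21))))))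
theorem f439587 : Led Lsl_gt (LP (LK LD1_c3 LD2_c38 LD3_c27)) = (LP (LK LD1_c7 LD2_c17 LD3_c14)) :=
  Lre_g IH (LK LD1_c3 LD2_c38 LD3_c27) (LK LD1_c7 LD2_c17 LD3_c14) Lrfl Lrfl
theorem f439588 : Led Lsl_gf (LP (LK LD1_c7 LD2_c19 LD3_c12)) = (LP (LK LD1_c7 LD2_c17 LD3_c14)) :=
  Lgr Lrot76 (Lpr_af (K28.f439443 IH) (Lpe (K28.f18049 IH) (Lpr_gt (f439587 IH) (Lpn (LP (LK LD1_c7 LD2_c17 LD3_c14))))))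
theorem f470753 : Led Lsl_ff (LP (LK LD1_c7 LD2_c19 LD3_c10)) = (LP (LK LD1_c7 LD2_c17 LD3_c14)) :=
  Lgr Lrot52 (Lpr_at (f464191 IH) (Lpr_gf (f470661 IH) (Lpr_gf (f439588 IH) (Lpn (LP (LK LD1_c7 LD2_c17 LD3_c14))))))
theorem f455366 : Led Lsl_ft (LP (LK LD1_c3 LD2_c27 LD3_c61)) = (LP (LK LD1_c3 LD2_c28 LD3_c0)) :=
  Lgr Lrot48 (Lpr_ff (K28.f455352 IH) (Lpn (LP (LK LD1_c3 LD2_c28 LD3_c0))))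
theorem f455368 : Led Lsl_ct (LP (LK LD1_c6 LD2_c58 LD3_c13)) = (LP (LK LD1_c3 LD2_c27 LD3_c61)) :=
  Lre_c IH (LK LD1_c6 LD2_c58 LD3_c13) (LK LD1_c3 LD2_c27 LD3_c61) Lrfl Lrfl
theorem f455369 : Led Lsl_ff (LP (LK LD1_c6 LD2_c58 LD3_c13)) = (LP (LK LD1_c6 LD2_c58 LD3_c12)) :=
  Lgr Lrot23 (Lpr_ct (f455368 IH) (Lpr_ft (f455366 IH) (Lpr_ct (K28.f446457 IH) (Lpn (LP (LK LD1_c6 LD2_c58 LD3_c12))))))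
theorem f470759 : Led Lsl_dt (LP (LK LD1_c6 LD2_c58 LD3_c13)) = (LP (LK LD1_c7 LD2_c17 LD3_c14)) :=
  Lgr Lrot60 (Lpr_ff (f455369 IH) (Lpe (K28.f464183 IH) (Lpr_ff (f470753 IH) (Lpn (LP (LK LD1_c7 LD2_c17 LD3_c14))))))
theorem f455356 : Led Lsl_ct (LP (LK LD1_c3 LD2_c27 LD3_c61)) = (LP (LK LD1_c6 LD2_c58 LD3_c13)) :=
  Lre_c IH (LK LD1_c3 LD2_c27 LD3_c61) (LK LD1_c6 LD2_c58 LD3_c13) Lrfl Lrfl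
theorem f446467 : Led Lsl_ct (LP (LK LD1_c6 LD2_c58 LD3_c12)) = (LP (LK LD1_c3 LD2_c28 LD3_c0)) :=
  Lre_c IH (LK LD1_c6 LD2_c58 LD3_c12) (LK LD1_c3 LD2_c28 LD3_c0) Lrfl Lrfl
theorem f455364 : Led Lsl_ft (LP (LK LD1_c6 LD2_c58 LD3_c13)) = (LP (LK LD1_c6 LD2_c58 LD3_c12)) :=
  Lgr Lrot4 (Lpe (f455356 IH) (Lpr_ff (K28.f455352 IH) (Lpe (f446467 IH) (Lpn (LP (LK LD1_c6 LD2_c58 LD3_c12))))))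
theorem f455382 : Led Lsl_at (LP (LK LD1_c3 LD2_c28 LD3_c5)) = (LP (LK LD1_c6 LD2_c58 LD3_c13)) :=
  Lre_a IH (LK LD1_c3 LD2_c28 LD3_c5) (LK LD1_c6 LD2_c58 LD3_c13) Lrfl Lrfl
theorem f446485 : Led Lsl_at (LP (LK LD1_c6 LD2_c58 LD3_c12)) = (LP (LK LD1_c3 LD2_c28 LD3_c3)) :=
  Lre_a IH (LK LD1_c6 LD2_c58 LD3_c12) (LK LD1_c3 LD2_c28 LD3_c3) Lrfl Lrfl
theorem f455383 : Led Lsl_ff (LP (LK LD1_c3 LD2_c28 LD3_c5)) = (LP (LK LD1_c3 LD2_c28 LD3_c3)) :=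
  Lgr Lrot30 (Lpr_at (f455382 IH) (Lpr_ft (f455364 IH) (Lpr_at (f446485 IH) (Lpn (LP (LK LD1_c3 LD2_c28 LD3_c3))))))
theorem f455207 : Led Lsl_gt (LP (LK LD1_c3 LD2_c28 LD3_c3)) = (LP (LK LD1_c6 LD2_c58 LD3_c20)) :=
  Lre_g IH (LK LD1_c3 LD2_c28 LD3_c3) (LK LD1_c6 LD2_c58 LD3_c20) Lrfl Lrfl
theorem f455389 : Led Lsl_gf (LP (LK LD1_c6 LD2_c58 LD3_c13)) = (LP (LK LD1_c6 LD2_c58 LD3_c20)) :=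
  Lgr Lrot76 (Lpe (f455382 IH) (Lpr_ff (f455383 IH) (Lpr_gt (f455207 IH) (Lpn (LP (LK LD1_c6 LD2_c58 LD3_c20))))))
theorem f5704 : Led Lsl_dt (LP (LK LD1_c1 LD2_c46 LD3_c41)) = (LP (LK LD1_c3 LD2_c39 LD3_c29)) :=
  Lre_d IH (LK LD1_c1 LD2_c46 LD3_c41) (LK LD1_c3 LD2_c39 LD3_c29) Lrfl Lrfl
theorem f17493 : Led Lsl_et (LP (LK LD1_c0 LD2_c49 LD3_c21)) = (LP (LK LD1_c1 LD2_c45 LD3_c20)) :=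
  Lre_e IH (LK LD1_c0 LD2_c49 LD3_c21) (LK LD1_c1 LD2_c45 LD3_c20) Lrfl Lrfl
theorem f464196 : Led Lsl_gt (LP (LK LD1_c1 LD2_c45 LD3_c20)) = (LP (LK LD1_c3 LD2_c27 LD3_c60)) :=
  Lgr Lrot131 (Lpe (f17493 IH) (Lpr_dt (K2.f6673 IH) (Lpe (K2.f92526 IH) (Lpe (K2.f4978 IH) (Lpe (K2.f5238 IH) (Lpe (K28.f5703 IH) (Lpr_dt (f5704 IH) (Lpe (K28.f92639 IH) (Lpr_df (K28.f464189 IH) (Lpr_et (K28.f455330 IH) (Lpn (LP (LK LD1_c3 LD2_c27 LD3_c60)))))))))))))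
theorem f446464 : Led Lsl_dt (LP (LK LD1_c1 LD2_c40 LD3_c36)) = (LP (LK LD1_c3 LD2_c27 LD3_c61)) :=
  Lre_d IH (LK LD1_c1 LD2_c40 LD3_c36) (LK LD1_c3 LD2_c27 LD3_c61) Lrfl Lrfl
theorem f129895 : Led Lsl_gt (LP (LK LD1_c1 LD2_c53 LD3_c9)) = (LP (LK LD1_c3 LD2_c53 LD3_c7)) :=
  Lre_g IH (LK LD1_c1 LD2_c53 LD3_c9) (LK LD1_c3 LD2_c53 LD3_c7) Lrfl Lrfl
theorem f468088 : Led Lsl_cf (LP (LK LD1_c6 LD2_c58 LD3_c20)) = (LP (LK LD1_c3 LD2_c53 LD3_c7)) :=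
  Lgr Lrot169 (Lpe (f455389 IH) (Lpr_ct (f455368 IH) (Lpe (f446464 IH) (Lpe (K24.f455160 IH) (Lpe (f464196 IH) (Lpr_cf (K28.f17475 IH) (Lpr_gf (K28.f468084 IH) (Lpe (K28.f129815 IH) (Lpr_gt (f129895 IH) (Lpn (LP (LK LD1_c3 LD2_c53 LD3_c7))))))))))))
theorem f470783 : Led Lsl_gt (LP (LK LD1_c3 LD2_c53 LD3_c7)) = (LP (LK LD1_c7 LD2_c18 LD3_c46)) :=
  Lgr Lrot180 (Lpe (f468088 IH) (Lpe (f455389 IH) (Lpr_dt (f470759 IH) (Lpe (f439588 IH) (Lpr_dt (K28.f208983 IH) (Lpe (f466558 IH) (Lpr_df (K28.f466485 IH) (Lpe (K28.f468863 IH) (Lpe (f106125 IH) (Lpn (LP (LK LD1_c7 LD2_c18 LD3_c46))))))))))))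
theorem f473593 : Led Lsl_ft (LP (LK LD1_c1 LD2_c53 LD3_c9)) = (LP (LK LD1_c3 LD2_c48 LD3_c0)) :=
  Lgr Lrot2 (Lpr_gt (f129895 IH) (Lpr_gt (f470783 IH) (Lpr_af (f473591 IH) (Lpn (LP (LK LD1_c3 LD2_c48 LD3_c0))))))
theorem f473603 : Led Lsl_ff (LP (LK LD1_c1 LD2_c53 LD3_c9)) = (LP (LK LD1_c3 LD2_c48 LD3_c0)) :=
  Lgr Lrot3 (Lpr_ft (f473593 IH) (Lpn (LP (LK LD1_c3 LD2_c48 LD3_c0))))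
theorem f129808 : Led Lsl_dt (LP (LK LD1_c3 LD2_c48 LD3_c0)) = (LP (LK LD1_c1 LD2_c50 LD3_c61)) :=
  Lre_d IH (LK LD1_c3 LD2_c48 LD3_c0) (LK LD1_c1 LD2_c50 LD3_c61) Lrfl Lrfl
theorem f473601 : Led Lsl_ff (LP (LK LD1_c0 LD2_c53 LD3_c9)) = (LP (LK LD1_c1 LD2_c50 LD3_c61)) :=
  Lgr Lrot19 (Lpr_dt (K28.f129804 IH) (Lpr_ft (f473593 IH) (Lpr_dt (f129808 IH) (Lpn (LP (LK LD1_c1 LD2_c50 LD3_c61))))))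
theorem f129814 : Led Lsl_et (LP (LK LD1_c0 LD2_c53 LD3_c9)) = (LP (LK LD1_c1 LD2_c53 LD3_c10)) :=
  Lre_e IH (LK LD1_c0 LD2_c53 LD3_c9) (LK LD1_c1 LD2_c53 LD3_c10) Lrfl Lrfl
theorem f129806 : Led Lsl_et (LP (LK LD1_c3 LD2_c53 LD3_c12)) = (LP (LK LD1_c3 LD2_c48 LD3_c0)) :=
  Lgr Lrot87 (Lpr_ef (f129797 IH) (Lpn (LP (LK LD1_c3 LD2_c48 LD3_c0))))
theorem f473613 : Led Lsl_ft (LP (LK LD1_c1 LD2_c53 LD3_c10)) = (LP (LK LD1_c3 LD2_c53 LD3_c12)) :=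
  Lgr Lrot86 (Lpe (f129814 IH) (Lpr_ff (f473601 IH) (Lpe (K28.f129785 IH) (Lpr_ff (f473603 IH) (Lpe (f129806 IH) (Lpn (LP (LK LD1_c3 LD2_c53 LD3_c12))))))))
theorem f473620 : Led Lsl_ff (LP (LK LD1_c1 LD2_c53 LD3_c10)) = (LP (LK LD1_c3 LD2_c53 LD3_c12)) :=
  Lgr Lrot3 (Lpr_ft (f473613 IH) (Lpn (LP (LK LD1_c3 LD2_c53 LD3_c12))))
theorem f468081 : Led Lsl_bt (LP (LK LD1_c1 LD2_c53 LD3_c10)) = (LP (LK LD1_c0 LD2_c53 LD3_c12)) :=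
  Lre_b IH (LK LD1_c1 LD2_c53 LD3_c10) (LK LD1_c0 LD2_c53 LD3_c12) Lrfl Lrfl
theorem f129810 : Led Lsl_bt (LP (LK LD1_c1 LD2_c53 LD3_c15)) = (LP (LK LD1_c3 LD2_c53 LD3_c12)) :=
  Lre_b IH (LK LD1_c1 LD2_c53 LD3_c15) (LK LD1_c3 LD2_c53 LD3_c12) Lrfl Lrfl
theorem f473631 : Led Lsl_ft (LP (LK LD1_c0 LD2_c53 LD3_c12)) = (LP (LK LD1_c1 LD2_c53 LD3_c15)) :=
  Lgr Lrot75 (Lpe (f468081 IH) (Lpr_ff (f473620 IH) (Lpe (f129810 IH) (Lpn (LP (LK LD1_c1 LD2_c53 LD3_c15))))))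
theorem f129811 : Led Lsl_bt (LP (LK LD1_c3 LD2_c48 LD3_c0)) = (LP (LK LD1_c1 LD2_c51 LD3_c1)) :=
  Lre_b IH (LK LD1_c3 LD2_c48 LD3_c0) (LK LD1_c1 LD2_c51 LD3_c1) Lrfl Lrfl
theorem f473597 : Led Lsl_ff (LP (LK LD1_c0 LD2_c53 LD3_c11)) = (LP (LK LD1_c1 LD2_c51 LD3_c1)) :=
  Lgr Lrot25 (Lpr_bt (K28.f129783 IH) (Lpr_ft (f473593 IH) (Lpr_bt (f129811 IH) (Lpn (LP (LK LD1_c1 LD2_c51 LD3_c1))))))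
theorem f473639 : K24.v210 = (LP (LK LD1_c0 LD2_c52 LD3_c22)) :=
  (Llr Lrot72 (Lpe (K24.f451118 IH) (Lpr_et (f129791 IH) (Lpr_ft (f473631 IH) (Lpr_et (f129793 IH) (Lpe (f473597 IH) (Lpr_et (K24.f129651 IH) (Lpn (LP (LK LD1_c0 LD2_c52 LD3_c22)))))))))).symm
theorem f473640 : (LP (LK LD1_c0 LD2_c23 LD3_c55)) = K24.v849 :=
  Lefun (Lecon (Lfl_af (K24.f451109 IH)) (f473639 IH)) (K24.f459725 IH)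
theorem f473651 : (LP (LK LD1_c0 LD2_c52 LD3_c23)) = v211 :=
  Lefun (Lecon (Lfl_ff (f459766 IH)) (f473640 IH).symm) (f451119 IH)
theorem f473656 : v867 = (LP (LK LD1_c1 LD2_c51 LD3_c2)) :=
  Lefun (Lecon (f459895 IH) (f473651 IH).symm) (K28.f62773 IH)
theorem f62995 : Led Lsl_dt (LP (LK LD1_c1 LD2_c52 LD3_c58)) = (LP (LK LD1_c0 LD2_c53 LD3_c5)) :=
  Lre_d IH (LK LD1_c1 LD2_c52 LD3_c58) (LK LD1_c0 LD2_c53 LD3_c5) Lrfl Lrfl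
theorem f62774 : Led Lsl_bt (LP (LK LD1_c1 LD2_c52 LD3_c59)) = (LP (LK LD1_c0 LD2_c53 LD3_c8)) :=
  Lre_b IH (LK LD1_c1 LD2_c52 LD3_c59) (LK LD1_c0 LD2_c53 LD3_c8) Lrfl Lrfl
theorem f62775 : Led Lsl_dt (LP (LK LD1_c1 LD2_c51 LD3_c2)) = (LP (LK LD1_c1 LD2_c52 LD3_c59)) :=
  Lgr Lrot79 (Lpe (K28.f62773 IH) (Lpr_df (K1.f62771 IH) (Lpe (f62774 IH) (Lpn (LP (LK LD1_c1 LD2_c52 LD3_c59))))))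
theorem f473663 : Led Lsl_ff (LP (LK LD1_c1 LD2_c52 LD3_c58)) = (LP (LK LD1_c1 LD2_c52 LD3_c59)) :=
  Lgr Lrot19 (Lpr_dt (f62995 IH) (Lpr_ft (f459890 IH) (Lpqs (f473656 IH) (Lpr_dt (f62775 IH) (Lpn (LP (LK LD1_c1 LD2_c52 LD3_c59)))))))
theorem f473674 : Led Lsl_ft (LP (LK LD1_c1 LD2_c52 LD3_c58)) = (LP (LK LD1_c1 LD2_c52 LD3_c59)) :=
  Lgr Lrot48 (Lpr_ff (f473663 IH) (Lpn (LP (LK LD1_c1 LD2_c52 LD3_c59))))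
theorem f63049 : Led Lsl_ct (LP (LK LD1_c1 LD2_c52 LD3_c59)) = (LP (LK LD1_c3 LD2_c52 LD3_c38)) :=
  Lre_c IH (LK LD1_c1 LD2_c52 LD3_c59) (LK LD1_c3 LD2_c52 LD3_c38) Lrfl Lrfl
theorem f473683 : Led Lsl_ff (LP (LK LD1_c3 LD2_c52 LD3_c41)) = (LP (LK LD1_c3 LD2_c52 LD3_c38)) :=
  Lgr Lrot23 (Lpr_ct (f457986 IH) (Lpr_ft (f473674 IH) (Lpr_ct (f63049 IH) (Lpn (LP (LK LD1_c3 LD2_c52 LD3_c38))))))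
theorem f457995 : Led Lsl_et (LP (LK LD1_c3 LD2_c52 LD3_c38)) = (LP (LK LD1_c1 LD2_c52 LD3_c57)) :=
  Lre_e IH (LK LD1_c3 LD2_c52 LD3_c38) (LK LD1_c1 LD2_c52 LD3_c57) Lrfl Lrfl
theorem f457996 : Led Lsl_dt (LP (LK LD1_c3 LD2_c52 LD3_c38)) = (LP (LK LD1_c6 LD2_c52 LD3_c3)) :=
  Lgr Lrot136 (Lpr_et (f457995 IH) (Lpr_gf (f457980 IH) (Lpe (K0.f15062 IH) (Lpr_dt (K0.f14639 IH) (Lpe (K2.f17137 IH) (Lpe (K2.f95357 IH) (Lpe (K2.f12781 IH) (Lpe (K1.f18217 IH) (Lpr_dt (K28.f18593 IH) (Lpe (K28.f18366 IH) (Lpn (LP (LK LD1_c6 LD2_c52 LD3_c3)))))))))))))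
theorem f458002 : Led Lsl_df (LP (LK LD1_c3 LD2_c52 LD3_c38)) = (LP (LK LD1_c6 LD2_c52 LD3_c3)) :=
  Lgr Lrot38 (Lpr_dt (f457996 IH) (Lpn (LP (LK LD1_c6 LD2_c52 LD3_c3))))
theorem f473714 : Led Lsl_ft (LP (LK LD1_c7 LD2_c47 LD3_c8)) = (LP (LK LD1_c6 LD2_c52 LD3_c3)) :=
  Lgr Lrot54 (Lpe (f459893 IH) (Lpr_ff (f473683 IH) (Lpr_df (f458002 IH) (Lpn (LP (LK LD1_c6 LD2_c52 LD3_c3))))))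
theorem f473505 : Led Lsl_ft (LP (LK LD1_c6 LD2_c51 LD3_c36)) = (LP (LK LD1_c13 LD2_c2 LD3_c57)) :=
  Lre_f IH (LK LD1_c6 LD2_c51 LD3_c36) (LK LD1_c13 LD2_c2 LD3_c57) Lrfl Lrfl
theorem f18376 : Led Lsl_at (LP (LK LD1_c13 LD2_c2 LD3_c57)) = (LP (LK LD1_c6 LD2_c52 LD3_c5)) :=
  Lre_a IH (LK LD1_c13 LD2_c2 LD3_c57) (LK LD1_c6 LD2_c52 LD3_c5) Lrfl Lrfl
theorem f473506 : Led Lsl_gf (LP (LK LD1_c6 LD2_c52 LD3_c5)) = (LP (LK LD1_c7 LD2_c47 LD3_c8)) :=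
  Lgr Lrot76 (Lpe (f18376 IH) (Lpe (f473505 IH) (Lpr_gt (f473453 IH) (Lpn (LP (LK LD1_c7 LD2_c47 LD3_c8))))))
theorem f473722 : Led Lsl_af (LP (LK LD1_c6 LD2_c56 LD3_c55)) = (LP (LK LD1_c6 LD2_c52 LD3_c3)) :=
  Lgr Lrot31 (Lpe (K2.f90900 IH) (Lpr_gf (f473506 IH) (Lpr_ft (f473714 IH) (Lpn (LP (LK LD1_c6 LD2_c52 LD3_c3))))))
theorem f90906 : Led Lsl_dt (LP (LK LD1_c6 LD2_c56 LD3_c55)) = (LP (LK LD1_c3 LD2_c27 LD3_c24)) :=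
  Lre_d IH (LK LD1_c6 LD2_c56 LD3_c55) (LK LD1_c3 LD2_c27 LD3_c24) Lrfl Lrfl
theorem f473730 : Led Lsl_at (LP (LK LD1_c3 LD2_c27 LD3_c24)) = (LP (LK LD1_c3 LD2_c52 LD3_c38)) :=
  Lgr Lrot51 (Lpe (f90906 IH) (Lpr_af (f473722 IH) (Lpe (f457996 IH) (Lpn (LP (LK LD1_c3 LD2_c52 LD3_c38))))))
theorem f473743 : Led Lsl_ft (LP (LK LD1_c6 LD2_c56 LD3_c56)) = (LP (LK LD1_c3 LD2_c27 LD3_c24)) :=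
  Lre_f IH (LK LD1_c6 LD2_c56 LD3_c56) (LK LD1_c3 LD2_c27 LD3_c24) Lrfl Lrfl
theorem f457796 : Led Lsl_ct (LP (LK LD1_c1 LD2_c40 LD3_c19)) = (LP (LK LD1_c1 LD2_c51 LD3_c2)) :=
  Lgr Lrot59 (Lpr_cf (K28.f457790 IH) (Lpn (LP (LK LD1_c1 LD2_c51 LD3_c2))))
theorem f473748 : Led Lsl_dt (LP (LK LD1_c6 LD2_c56 LD3_c56)) = (LP (LK LD1_c6 LD2_c52 LD3_c2)) :=
  Lgr Lrot159 (Lpr_ft (f473743 IH) (Lpr_at (f473730 IH) (Lpe (f63049 IH) (Lpe (f62775 IH) (Lpe (f457796 IH) (Lpe (K28.f457801 IH) (Lpe (K28.f457802 IH) (Lpr_df (K28.f472951 IH) (Lpe (K28.f18372 IH) (Lpn (LP (LK LD1_c6 LD2_c52 LD3_c2))))))))))))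
theorem f473550 : Led Lsl_at (LP (LK LD1_c3 LD2_c44 LD3_c44)) = v867 :=
  Lgr Lrot100 (Lpr_af (f473548 IH) (Lpn v867))
theorem f451110 : Led Lsl_at (LP (LK LD1_c1 LD2_c52 LD3_c56)) = (LP (LK LD1_c0 LD2_c53 LD3_c5)) :=
  Lre_a IH (LK LD1_c1 LD2_c52 LD3_c56) (LK LD1_c0 LD2_c53 LD3_c5) Lrfl Lrfl
theorem f473553 : Led Lsl_ft (LP (LK LD1_c3 LD2_c44 LD3_c44)) = (LP (LK LD1_c1 LD2_c52 LD3_c56)) :=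
  Lgr Lrot101 (Lpr_af (f473548 IH) (Lpe (f459890 IH) (Lpe (f451110 IH) (Lpn (LP (LK LD1_c1 LD2_c52 LD3_c56))))))
theorem f473557 : Led Lsl_ff (LP (LK LD1_c3 LD2_c44 LD3_c44)) = (LP (LK LD1_c1 LD2_c52 LD3_c56)) :=
  Lgr Lrot3 (Lpr_ft (f473553 IH) (Lpn (LP (LK LD1_c1 LD2_c52 LD3_c56))))
theorem f473555 : Led Lsl_dt (LP (LK LD1_c1 LD2_c52 LD3_c56)) = (LP (LK LD1_c3 LD2_c52 LD3_c34)) :=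
  Lre_d IH (LK LD1_c1 LD2_c52 LD3_c56) (LK LD1_c3 LD2_c52 LD3_c34) Lrfl Lrfl
theorem f473761 : Led Lsl_cf (LP (LK LD1_c6 LD2_c56 LD3_c56)) = (LP (LK LD1_c3 LD2_c52 LD3_c34)) :=
  Lgr Lrot118 (Lpr_dt (f473748 IH) (Lpr_ct (K28.f18372 IH) (Lpe (K28.f472951 IH) (Lpr_ct (K28.f457802 IH) (Lpr_dt (K28.f457801 IH) (Lpr_ct (f457796 IH) (Lpq (f473656 IH) (Lpe (f473550 IH) (Lpr_ff (f473557 IH) (Lpr_dt (f473555 IH) (Lpn (LP (LK LD1_c3 LD2_c52 LD3_c34)))))))))))))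
theorem f473755 : Led Lsl_df (LP (LK LD1_c6 LD2_c56 LD3_c56)) = (LP (LK LD1_c6 LD2_c52 LD3_c2)) :=
  Lgr Lrot38 (Lpr_dt (f473748 IH) (Lpn (LP (LK LD1_c6 LD2_c52 LD3_c2))))
theorem f473786 : Led Lsl_gt (LP (LK LD1_c1 LD2_c47 LD3_c10)) = (LP (LK LD1_c1 LD2_c52 LD3_c56)) :=
  Lgr Lrot49 (Lpr_df (K28.f124901 IH) (Lpr_gf (K28.f463584 IH) (Lpe (K28.f458366 IH) (Lpr_gt (K28.f18607 IH) (Lpr_dt (K28.f18593 IH) (Lpr_gt (K28.f18363 IH) (Lpe (f473755 IH) (Lpr_cf (f473761 IH) (Lpe (f473555 IH) (Lpn (LP (LK LD1_c1 LD2_c52 LD3_c56))))))))))))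
theorem f107326 : Led Lsl_df (LP (LK LD1_c0 LD2_c23 LD3_c21)) = (LP (LK LD1_c0 LD2_c47 LD3_c16)) :=
  Lgr Lrot84 (Lpr_cf (K3.f107299 IH) (Lpe (K2.f91958 IH) (Lpe (K2.f91950 IH) (Lpe (K1.f66831 IH) (Lpr_gf (K2.f66825 IH) (Lpr_cf (K2.f84685 IH) (Lpe (K2.f84679 IH) (Lpr_dt (K1.f17660 IH) (Lpr_gt (K1.f18055 IH) (Lpn (LP (LK LD1_c0 LD2_c47 LD3_c16))))))))))))
theorem f473560 : Led Lsl_et (LP (LK LD1_c3 LD2_c52 LD3_c35)) = (LP (LK LD1_c1 LD2_c52 LD3_c56)) :=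
  Lre_e IH (LK LD1_c3 LD2_c52 LD3_c35) (LK LD1_c1 LD2_c52 LD3_c56) Lrfl Lrfl
theorem f473795 : Led Lsl_df (LP (LK LD1_c3 LD2_c44 LD3_c44)) = (LP (LK LD1_c3 LD2_c52 LD3_c35)) :=
  Lgr Lrot170 (Lpr_gt (K28.f5743 IH) (Lpe (K4.f106132 IH) (Lpr_et (K3.f17674 IH) (Lpr_gt (K1.f18055 IH) (Lpe (f107326 IH) (Lpe (K3.f107274 IH) (Lpe (K5.f95912 IH) (Lpr_et (K28.f107286 IH) (Lpr_gt (f473786 IH) (Lpe (f473560 IH) (Lpn (LP (LK LD1_c3 LD2_c52 LD3_c35)))))))))))))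
theorem f473799 : Led Lsl_dt (LP (LK LD1_c3 LD2_c44 LD3_c44)) = (LP (LK LD1_c3 LD2_c52 LD3_c35)) :=
  Lgr Lrot42 (Lpr_df (f473795 IH) (Lpn (LP (LK LD1_c3 LD2_c52 LD3_c35))))
theorem f473561 : Led Lsl_bf (LP (LK LD1_c3 LD2_c44 LD3_c44)) = (LP (LK LD1_c1 LD2_c53 LD3_c7)) :=
  Lgr Lrot24 (Lpr_bt (f473551 IH) (Lpn (LP (LK LD1_c1 LD2_c53 LD3_c7))))
theorem f473922 : Led Lsl_bf (LP (LK LD1_c3 LD2_c53 LD3_c2)) = (LP (LK LD1_c3 LD2_c52 LD3_c35)) :=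
  Lgr Lrot93 (Lpr_dt (f473569 IH) (Lpe (f473561 IH) (Lpr_dt (f473799 IH) (Lpn (LP (LK LD1_c3 LD2_c52 LD3_c35))))))
theorem f129893 : Led Lsl_at (LP (LK LD1_c1 LD2_c53 LD3_c9)) = (LP (LK LD1_c3 LD2_c53 LD3_c2)) :=
  Lre_a IH (LK LD1_c1 LD2_c53 LD3_c9) (LK LD1_c3 LD2_c53 LD3_c2) Lrfl Lrfl
theorem f473605 : Led Lsl_ft (LP (LK LD1_c3 LD2_c53 LD3_c2)) = (LP (LK LD1_c7 LD2_c18 LD3_c46)) :=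
  Lgr Lrot101 (Lpe (f129893 IH) (Lpr_ff (f473603 IH) (Lpe (f473589 IH) (Lpn (LP (LK LD1_c7 LD2_c18 LD3_c46))))))
theorem f473665 : Led Lsl_at (LP (LK LD1_c1 LD2_c52 LD3_c58)) = (LP (LK LD1_c3 LD2_c52 LD3_c34)) :=
  Lre_a IH (LK LD1_c1 LD2_c52 LD3_c58) (LK LD1_c3 LD2_c52 LD3_c34) Lrfl Lrfl
theorem f63000 : Led Lsl_at (LP (LK LD1_c3 LD2_c52 LD3_c35)) = (LP (LK LD1_c1 LD2_c52 LD3_c59)) :=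
  Lre_a IH (LK LD1_c3 LD2_c52 LD3_c35) (LK LD1_c1 LD2_c52 LD3_c59) Lrfl Lrfl
theorem f473666 : Led Lsl_ft (LP (LK LD1_c3 LD2_c52 LD3_c34)) = (LP (LK LD1_c3 LD2_c52 LD3_c35)) :=
  Lgr Lrot101 (Lpe (f473665 IH) (Lpr_ff (f473663 IH) (Lpe (f63000 IH) (Lpn (LP (LK LD1_c3 LD2_c52 LD3_c35))))))
theorem f473926 : Led Lsl_bt (LP (LK LD1_c7 LD2_c18 LD3_c46)) = (LP (LK LD1_c3 LD2_c52 LD3_c34)) :=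
  Lgr Lrot35 (Lpe (f473605 IH) (Lpr_bf (f473922 IH) (Lpe (f473666 IH) (Lpn (LP (LK LD1_c3 LD2_c52 LD3_c34))))))
theorem f473930 : Led Lsl_bf (LP (LK LD1_c7 LD2_c18 LD3_c46)) = (LP (LK LD1_c3 LD2_c52 LD3_c34)) :=
  Lgr Lrot24 (Lpr_bt (f473926 IH) (Lpn (LP (LK LD1_c3 LD2_c52 LD3_c34))))
theorem f64688 : Led Lsl_bt (LP (LK LD1_c0 LD2_c53 LD3_c7)) = (LP (LK LD1_c1 LD2_c52 LD3_c58)) :=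
  Lre_b IH (LK LD1_c0 LD2_c53 LD3_c7) (LK LD1_c1 LD2_c52 LD3_c58) Lrfl Lrfl
theorem f473934 : Led Lsl_at (LP (LK LD1_c1 LD2_c51 LD3_c1)) = (LP (LK LD1_c0 LD2_c53 LD3_c7)) :=
  Lgr Lrot67 (Lpe (f129811 IH) (Lpe (f473589 IH) (Lpr_bf (f473930 IH) (Lpe (f473665 IH) (Lpe (f64688 IH) (Lpn (LP (LK LD1_c0 LD2_c53 LD3_c7))))))))
theorem f129654 : Led Lsl_bt (LP (LK LD1_c1 LD2_c53 LD3_c9)) = (LP (LK LD1_c0 LD2_c53 LD3_c11)) :=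
  Lre_b IH (LK LD1_c1 LD2_c53 LD3_c9) (LK LD1_c0 LD2_c53 LD3_c11) Lrfl Lrfl
theorem f473607 : Led Lsl_ft (LP (LK LD1_c0 LD2_c53 LD3_c11)) = (LP (LK LD1_c1 LD2_c51 LD3_c1)) :=
  Lgr Lrot75 (Lpe (f129654 IH) (Lpr_ff (f473603 IH) (Lpe (f129796 IH) (Lpn (LP (LK LD1_c1 LD2_c51 LD3_c1))))))
theorem f62990 : Led Lsl_gt (LP (LK LD1_c1 LD2_c53 LD3_c3)) = (LP (LK LD1_c0 LD2_c53 LD3_c7)) :=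
  Lre_g IH (LK LD1_c1 LD2_c53 LD3_c3) (LK LD1_c0 LD2_c53 LD3_c7) Lrfl Lrfl
theorem f473960 : Led Lsl_gt (LP (LK LD1_c0 LD2_c53 LD3_c11)) = (LP (LK LD1_c1 LD2_c53 LD3_c3)) :=
  Lgr Lrot5 (Lpr_ft (f473607 IH) (Lpr_at (f473934 IH) (Lpe (f62990 IH) (Lpn (LP (LK LD1_c1 LD2_c53 LD3_c3))))))
theorem f129894 : Led Lsl_ct (LP (LK LD1_c1 LD2_c53 LD3_c9)) = (LP (LK LD1_c3 LD2_c53 LD3_c9)) :=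
  Lre_c IH (LK LD1_c1 LD2_c53 LD3_c9) (LK LD1_c3 LD2_c53 LD3_c9) Lrfl Lrfl
theorem f473962 : Led Lsl_bt (LP (LK LD1_c0 LD2_c53 LD3_c47)) = (LP (LK LD1_c1 LD2_c53 LD3_c3)) :=
  Lgr Lrot92 (Lpr_ct (K24.f456054 IH) (Lpr_gt (K24.f456757 IH) (Lpqs (K24.f459342 IH) (Lpe (K24.f455180 IH) (Lpr_bt (K28.f455178 IH) (Lpr_gt (K28.f455146 IH) (Lpr_ct (K28.f455185 IH) (Lpe (K28.f458600 IH) (Lpe (f129894 IH) (Lpr_bt (f129654 IH) (Lpr_gt (f473960 IH) (Lpn (LP (LK LD1_c1 LD2_c53 LD3_c3))))))))))))))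
theorem f473970 : Led Lsl_ef (LP (LK LD1_c0 LD2_c53 LD3_c46)) = (LP (LK LD1_c1 LD2_c53 LD3_c3)) :=
  Lgr Lrot29 (Lpr_bt (f437665 IH) (Lpr_et (K24.f12133 IH) (Lpr_bt (f473962 IH) (Lpn (LP (LK LD1_c1 LD2_c53 LD3_c3))))))
theorem f473977 : Led Lsl_et (LP (LK LD1_c0 LD2_c53 LD3_c46)) = (LP (LK LD1_c1 LD2_c53 LD3_c3)) :=
  Lgr Lrot87 (Lpr_ef (f473970 IH) (Lpn (LP (LK LD1_c1 LD2_c53 LD3_c3))))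
theorem f451186 : Led Lsl_ct (LP (LK LD1_c1 LD2_c54 LD3_c24)) = (LP (LK LD1_c0 LD2_c53 LD3_c46)) :=
  Lre_c IH (LK LD1_c1 LD2_c54 LD3_c24) (LK LD1_c0 LD2_c53 LD3_c46) Lrfl Lrfl
theorem f461511 : Led Lsl_ct (LP (LK LD1_c1 LD2_c53 LD3_c3)) = (LP (LK LD1_c3 LD2_c52 LD3_c58)) :=
  Lre_c IH (LK LD1_c1 LD2_c53 LD3_c3) (LK LD1_c3 LD2_c52 LD3_c58) Lrfl Lrfl
theorem f473979 : Led Lsl_ef (LP (LK LD1_c1 LD2_c54 LD3_c24)) = (LP (LK LD1_c3 LD2_c52 LD3_c58)) :=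
  Lgr Lrot28 (Lpr_ct (f451186 IH) (Lpr_et (f473977 IH) (Lpr_ct (f461511 IH) (Lpn (LP (LK LD1_c3 LD2_c52 LD3_c58))))))
theorem f461510 : Led Lsl_dt (LP (LK LD1_c3 LD2_c52 LD3_c58)) = (LP (LK LD1_c7 LD2_c47 LD3_c45)) :=
  Lre_d IH (LK LD1_c3 LD2_c52 LD3_c58) (LK LD1_c7 LD2_c47 LD3_c45) Lrfl Lrfl
theorem f477168 : Led Lsl_gt (LP (LK LD1_c6 LD2_c59 LD3_c60)) = (LP (LK LD1_c7 LD2_c47 LD3_c45)) :=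
  Lgr Lrot139 (Lpe (f18761 IH) (Lpe (K3.f18760 IH) (Lpe (K3.f63713 IH) (Lpr_dt (K3.f62839 IH) (Lpr_gf (K3.f63714 IH) (Lpe (K3.f15628 IH) (Lpr_et (f63729 IH) (Lpr_gf (f477161 IH) (Lpr_ef (f473979 IH) (Lpr_dt (f461510 IH) (Lpn (LP (LK LD1_c7 LD2_c47 LD3_c45)))))))))))))
theorem f64167 : Led Lsl_ct (LP (LK LD1_c13 LD2_c16 LD3_c57)) = (LP (LK LD1_c6 LD2_c59 LD3_c60)) :=
  Lre_c IH (LK LD1_c13 LD2_c16 LD3_c57) (LK LD1_c6 LD2_c59 LD3_c60) Lrfl Lrfl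
theorem f466564 : Led Lsl_ff (LP (LK LD1_c3 LD2_c30 LD3_c50)) = (LP (LK LD1_c1 LD2_c42 LD3_c60)) :=
  Lgr Lrot3 (Lpr_ft (K28.f466552 IH) (Lpn (LP (LK LD1_c1 LD2_c42 LD3_c60))))
theorem f468352 : Led Lsl_gf (LP (LK LD1_c3 LD2_c35 LD3_c38)) = (LP (LK LD1_c3 LD2_c29 LD3_c10)) :=
  Lgr Lrot76 (Lpr_af (K28.f468322 IH) (Lpr_ff (f466564 IH) (Lpr_gt (K28.f468101 IH) (Lpn (LP (LK LD1_c3 LD2_c29 LD3_c10))))))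
theorem f464262 : Led Lsl_ct (LP (LK LD1_c6 LD2_c58 LD3_c55)) = (LP (LK LD1_c13 LD2_c2 LD3_c58)) :=
  Lgr Lrot59 (Lpr_cf (K28.f464258 IH) (Lpn (LP (LK LD1_c13 LD2_c2 LD3_c58))))
theorem f121909 : Led Lsl_af (LP (LK LD1_c3 LD2_c25 LD3_c36)) = (LP (LK LD1_c6 LD2_c51 LD3_c40)) :=
  Lgr Lrot0 (Lpr_at (K28.f121907 IH) (Lpn (LP (LK LD1_c6 LD2_c51 LD3_c40))))
theorem f464278 : Led Lsl_gf (LP (LK LD1_c6 LD2_c51 LD3_c39)) = (LP (LK LD1_c13 LD2_c2 LD3_c58)) :=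
  Lgr Lrot47 (Lpr_gt (K28.f463248 IH) (Lpr_af (f121909 IH) (Lpr_ff (K28.f464274 IH) (Lpn (LP (LK LD1_c13 LD2_c2 LD3_c58))))))
theorem f457647 : Led Lsl_bf (LP (LK LD1_c3 LD2_c30 LD3_c24)) = (LP (LK LD1_c3 LD2_c24 LD3_c31)) :=
  Lgr Lrot24 (Lpr_bt (K24.f457638 IH) (Lpn (LP (LK LD1_c3 LD2_c24 LD3_c31))))
theorem f17361 : Led Lsl_ft (LP (LK LD1_c7 LD2_c37 LD3_c53)) = (LP (LK LD1_c3 LD2_c48 LD3_c24)) :=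
  Lre_f IH (LK LD1_c7 LD2_c37 LD3_c53) (LK LD1_c3 LD2_c48 LD3_c24) Lrfl Lrfl
theorem f460208 : Led Lsl_gf (LP (LK LD1_c7 LD2_c34 LD3_c49)) = (LP (LK LD1_c13 LD2_c17 LD3_c14)) :=
  Lgr Lrot76 (Lpr_af (K6.f126441 IH) (Lpe (f17361 IH) (Lpr_gt (K28.f460206 IH) (Lpn (LP (LK LD1_c13 LD2_c17 LD3_c14))))))
theorem f460222 : Led Lsl_gt (LP (LK LD1_c1 LD2_c49 LD3_c59)) = (LP (LK LD1_c3 LD2_c29 LD3_c11)) :=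
  Lgr Lrot131 (Lpe (K4.f89131 IH) (Lpr_dt (K3.f88436 IH) (Lpe (K3.f89670 IH) (Lpe (K3.f12061 IH) (Lpr_gf (K3.f96132 IH) (Lpe (K5.f96129 IH) (Lpr_dt (K5.f96167 IH) (Lpr_gf (f460208 IH) (Lpe (K28.f63033 IH) (Lpr_et (K28.f63032 IH) (Lpn (LP (LK LD1_c3 LD2_c29 LD3_c11)))))))))))))
theorem f468356 : Led Lsl_gt (LP (LK LD1_c3 LD2_c30 LD3_c24)) = (LP (LK LD1_c1 LD2_c42 LD3_c59)) :=
  Lgr Lrot82 (Lpr_bf (f457647 IH) (Lpr_ct (K28.f18560 IH) (Lpr_gf (f464278 IH) (Lpe (f464262 IH) (Lpr_bt (K4.f17682 IH) (Lpr_gf (f468352 IH) (Lpe (K28.f460230 IH) (Lpr_ct (K24.f18792 IH) (Lpe (f460222 IH) (Lpr_cf (K4.f92402 IH) (Lpn (LP (LK LD1_c1 LD2_c42 LD3_c59)))))))))))))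
theorem f18979 : Led Lsl_ct (LP (LK LD1_c1 LD2_c41 LD3_c51)) = (LP (LK LD1_c3 LD2_c30 LD3_c24)) :=
  Lre_c IH (LK LD1_c1 LD2_c41 LD3_c51) (LK LD1_c3 LD2_c30 LD3_c24) Lrfl Lrfl
theorem f64978 : Led Lsl_ct (LP (LK LD1_c3 LD2_c30 LD3_c28)) = (LP (LK LD1_c7 LD2_c2 LD3_c53)) :=
  Lre_c IH (LK LD1_c3 LD2_c30 LD3_c28) (LK LD1_c7 LD2_c2 LD3_c53) Lrfl Lrfl
theorem f92404 : Led Lsl_dt (LP (LK LD1_c3 LD2_c45 LD3_c44)) = (LP (LK LD1_c1 LD2_c49 LD3_c59)) :=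
  Lre_d IH (LK LD1_c3 LD2_c45 LD3_c44) (LK LD1_c1 LD2_c49 LD3_c59) Lrfl Lrfl
theorem f468358 : Led Lsl_gt (LP (LK LD1_c7 LD2_c2 LD3_c53)) = (LP (LK LD1_c7 LD2_c32 LD3_c10)) :=
  Lgr Lrot150 (Lpe (f64978 IH) (Lpe (K1.f64971 IH) (Lpe (K1.f64970 IH) (Lpr_gt (K24.f18821 IH) (Lpr_ct (f18979 IH) (Lpr_gt (f468356 IH) (Lpe (K4.f92402 IH) (Lpe (f92404 IH) (Lpe (K24.f92405 IH) (Lpn (LP (LK LD1_c7 LD2_c32 LD3_c10))))))))))))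
theorem f459857 : Led Lsl_gt (LP (LK LD1_c7 LD2_c45 LD3_c52)) = (LP (LK LD1_c3 LD2_c52 LD3_c0)) :=
  Lre_g IH (LK LD1_c7 LD2_c45 LD3_c52) (LK LD1_c3 LD2_c52 LD3_c0) Lrfl Lrfl
theorem f460973 : Led Lsl_bt (LP (LK LD1_c13 LD2_c6 LD3_c39)) = (LP (LK LD1_c13 LD2_c22 LD3_c45)) :=
  Lgr Lrot35 (Lpe (K28.f103794 IH) (Lpe (K28.f111468 IH) (Lpr_ff (K28.f460967 IH) (Lpn (LP (LK LD1_c13 LD2_c22 LD3_c45))))))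
theorem f63039 : Led Lsl_bt (LP (LK LD1_c7 LD2_c0 LD3_c7)) = (LP (LK LD1_c13 LD2_c17 LD3_c8)) :=
  Lre_b IH (LK LD1_c7 LD2_c0 LD3_c7) (LK LD1_c13 LD2_c17 LD3_c8) Lrfl Lrfl
theorem f460999 : Led Lsl_at (LP (LK LD1_c3 LD2_c30 LD3_c40)) = (LP (LK LD1_c7 LD2_c0 LD3_c7)) :=
  Lgr Lrot67 (Lpe (K28.f460539 IH) (Lpe (K28.f460936 IH) (Lpe (f460973 IH) (Lpr_af (K28.f460995 IH) (Lpe (f63039 IH) (Lpn (LP (LK LD1_c7 LD2_c0 LD3_c7))))))))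
theorem f460551 : Led Lsl_ft (LP (LK LD1_c1 LD2_c49 LD3_c59)) = (LP (LK LD1_c3 LD2_c30 LD3_c40)) :=
  Lgr Lrot48 (Lpr_ff (K24.f460535 IH) (Lpn (LP (LK LD1_c3 LD2_c30 LD3_c40))))
theorem f464792 : Led Lsl_ct (LP (LK LD1_c3 LD2_c48 LD3_c1)) = (LP (LK LD1_c3 LD2_c51 LD3_c56)) :=
  Lgr Lrot59 (Lpr_cf (K28.f464788 IH) (Lpn (LP (LK LD1_c3 LD2_c51 LD3_c56))))
theorem f460685 : Led Lsl_dt (LP (LK LD1_c7 LD2_c37 LD3_c8)) = (LP (LK LD1_c3 LD2_c48 LD3_c1)) :=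
  Lre_d IH (LK LD1_c7 LD2_c37 LD3_c8) (LK LD1_c3 LD2_c48 LD3_c1) Lrfl Lrfl
theorem f458477 : Led Lsl_ct (LP (LK LD1_c0 LD2_c53 LD3_c0)) = (LP (LK LD1_c1 LD2_c52 LD3_c40)) :=
  Lre_c IH (LK LD1_c0 LD2_c53 LD3_c0) (LK LD1_c1 LD2_c52 LD3_c40) Lrfl Lrfl
theorem f451323 : Led Lsl_dt (LP (LK LD1_c0 LD2_c53 LD3_c2)) = (LP (LK LD1_c0 LD2_c23 LD3_c53)) :=
  Lre_d IH (LK LD1_c0 LD2_c53 LD3_c2) (LK LD1_c0 LD2_c23 LD3_c53) Lrfl Lrfl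
theorem f459876 : Led Lsl_gt (LP (LK LD1_c0 LD2_c53 LD3_c2)) = (LP (LK LD1_c1 LD2_c52 LD3_c47)) :=
  Lre_g IH (LK LD1_c0 LD2_c53 LD3_c2) (LK LD1_c1 LD2_c52 LD3_c47) Lrfl Lrfl
theorem f461388 : Led Lsl_ct (LP (LK LD1_c1 LD2_c52 LD3_c47)) = (LP (LK LD1_c3 LD2_c52 LD3_c12)) :=
  Lre_c IH (LK LD1_c1 LD2_c52 LD3_c47) (LK LD1_c3 LD2_c52 LD3_c12) Lrfl Lrfl
theorem f464796 : Led Lsl_gt (LP (LK LD1_c3 LD2_c52 LD3_c12)) = (LP (LK LD1_c7 LD2_c46 LD3_c10)) :=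
  Lre_g IH (LK LD1_c3 LD2_c52 LD3_c12) (LK LD1_c7 LD2_c46 LD3_c10) Lrfl Lrfl
theorem f464797 : Led Lsl_cf (LP (LK LD1_c7 LD2_c37 LD3_c8)) = (LP (LK LD1_c7 LD2_c46 LD3_c10)) :=
  Lgr Lrot99 (Lpe (K24.f129709 IH) (Lpr_cf (K28.f464788 IH) (Lpe (K28.f458478 IH) (Lpe (f458477 IH) (Lpe (K24.f64182 IH) (Lpe (f451323 IH) (Lpr_gt (f459876 IH) (Lpr_ct (f461388 IH) (Lpr_gt (f464796 IH) (Lpn (LP (LK LD1_c7 LD2_c46 LD3_c10))))))))))))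
theorem f464823 : Led Lsl_dt (LP (LK LD1_c7 LD2_c32 LD3_c10)) = (LP (LK LD1_c7 LD2_c46 LD3_c10)) :=
  Lgr Lrot32 (Lpe (K24.f92417 IH) (Lpe (K5.f92368 IH) (Lpr_ft (f460551 IH) (Lpr_at (f460999 IH) (Lpe (K28.f460104 IH) (Lpr_df (K28.f464820 IH) (Lpe (f464792 IH) (Lpe (f460685 IH) (Lpr_cf (f464797 IH) (Lpn (LP (LK LD1_c7 LD2_c46 LD3_c10))))))))))))
theorem f129845 : Led Lsl_gt (LP (LK LD1_c7 LD2_c37 LD3_c13)) = (LP (LK LD1_c3 LD2_c48 LD3_c3)) :=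
  Lre_g IH (LK LD1_c7 LD2_c37 LD3_c13) (LK LD1_c3 LD2_c48 LD3_c3) Lrfl Lrfl
theorem f468382 : Led Lsl_cf (LP (LK LD1_c7 LD2_c45 LD3_c52)) = (LP (LK LD1_c7 LD2_c37 LD3_c13)) :=
  Lgr Lrot166 (Lpr_gt (f459857 IH) (Lpr_dt (K24.f459851 IH) (Lpr_gt (f468358 IH) (Lpr_dt (f464823 IH) (Lpe (f464797 IH) (Lpe (K24.f129709 IH) (Lpe (K24.f129710 IH) (Lpe (K24.f129854 IH) (Lpe (f129845 IH) (Lpn (LP (LK LD1_c7 LD2_c37 LD3_c13))))))))))))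
theorem f468388 : Led Lsl_ct (LP (LK LD1_c7 LD2_c45 LD3_c52)) = (LP (LK LD1_c7 LD2_c37 LD3_c13)) :=
  Lgr Lrot59 (Lpr_cf (f468382 IH) (Lpn (LP (LK LD1_c7 LD2_c37 LD3_c13))))
theorem f468431 : Led Lsl_cf (LP (LK LD1_c7 LD2_c46 LD3_c10)) = (LP (LK LD1_c7 LD2_c37 LD3_c8)) :=
  Lgr Lrot14 (Lpe (f464823 IH) (Lpe (f468358 IH) (Lpe (K24.f459851 IH) (Lpe (f459857 IH) (Lpr_ct (f468388 IH) (Lpr_gt (f129845 IH) (Lpr_dt (K24.f129854 IH) (Lpr_gt (K24.f129710 IH) (Lpr_dt (K24.f129709 IH) (Lpn (LP (LK LD1_c7 LD2_c37 LD3_c8))))))))))))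
theorem f468441 : Led Lsl_dt (LP (LK LD1_c7 LD2_c46 LD3_c10)) = (LP (LK LD1_c7 LD2_c32 LD3_c10)) :=
  Lgr Lrot120 (Lpr_cf (f468431 IH) (Lpe (K24.f129709 IH) (Lpr_cf (K28.f464788 IH) (Lpe (K28.f464812 IH) (Lpr_cf (K28.f460110 IH) (Lpr_df (K24.f63027 IH) (Lpe (K24.f460082 IH) (Lpe (K24.f109293 IH) (Lpe (K24.f92405 IH) (Lpn (LP (LK LD1_c7 LD2_c32 LD3_c10))))))))))))
theorem f64658 : Led Lsl_ct (LP (LK LD1_c13 LD2_c17 LD3_c33)) = (LP (LK LD1_c7 LD2_c0 LD3_c23)) :=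
  Lre_c IH (LK LD1_c13 LD2_c17 LD3_c33) (LK LD1_c7 LD2_c0 LD3_c23) Lrfl Lrfl
theorem f460169 : Led Lsl_ct (LP (LK LD1_c3 LD2_c52 LD3_c46)) = (LP (LK LD1_c7 LD2_c47 LD3_c13)) :=
  Lre_c IH (LK LD1_c3 LD2_c52 LD3_c46) (LK LD1_c7 LD2_c47 LD3_c13) Lrfl Lrfl
theorem f460407 : Led Lsl_df (LP (LK LD1_c13 LD2_c17 LD3_c33)) = (LP (LK LD1_c7 LD2_c47 LD3_c13)) :=
  Lgr Lrot106 (Lpr_ct (f64658 IH) (Lpr_dt (K4.f64633 IH) (Lpe (K5.f109306 IH) (Lpe (K5.f128069 IH) (Lpr_ct (K5.f128079 IH) (Lpe (K5.f127754 IH) (Lpr_ff (K24.f460170 IH) (Lpr_dt (K24.f63036 IH) (Lpr_ct (f460169 IH) (Lpn (LP (LK LD1_c7 LD2_c47 LD3_c13))))))))))))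
theorem f460409 : Led Lsl_dt (LP (LK LD1_c13 LD2_c17 LD3_c33)) = (LP (LK LD1_c7 LD2_c47 LD3_c13)) :=
  Lgr Lrot42 (Lpr_df (f460407 IH) (Lpn (LP (LK LD1_c7 LD2_c47 LD3_c13))))
theorem f468447 : Led Lsl_af (LP (LK LD1_c7 LD2_c46 LD3_c10)) = (LP (LK LD1_c7 LD2_c47 LD3_c13)) :=
  Lgr Lrot117 (Lpr_dt (f468441 IH) (Lpr_at (K24.f109311 IH) (Lpr_dt (f460409 IH) (Lpn (LP (LK LD1_c7 LD2_c47 LD3_c13))))))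
theorem f468476 : Led Lsl_gt (LP (LK LD1_c7 LD2_c46 LD3_c11)) = (LP (LK LD1_c3 LD2_c52 LD3_c12)) :=
  Lre_g IH (LK LD1_c7 LD2_c46 LD3_c11) (LK LD1_c3 LD2_c52 LD3_c12) Lrfl Lrfl
theorem f468477 : Led Lsl_ft (LP (LK LD1_c7 LD2_c46 LD3_c11)) = (LP (LK LD1_c7 LD2_c47 LD3_c13)) :=
  Lgr Lrot2 (Lpr_gt (f468476 IH) (Lpr_gt (f464796 IH) (Lpr_af (f468447 IH) (Lpn (LP (LK LD1_c7 LD2_c47 LD3_c13))))))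
theorem f468484 : Led Lsl_ff (LP (LK LD1_c7 LD2_c46 LD3_c11)) = (LP (LK LD1_c7 LD2_c47 LD3_c13)) :=
  Lgr Lrot3 (Lpr_ft (f468477 IH) (Lpn (LP (LK LD1_c7 LD2_c47 LD3_c13))))
theorem f460694 : Led Lsl_at (LP (LK LD1_c3 LD2_c52 LD3_c46)) = (LP (LK LD1_c7 LD2_c37 LD3_c8)) :=
  Lgr Lrot66 (Lpe (K24.f460163 IH) (Lpr_af (K5.f127764 IH) (Lpr_ff (K24.f460692 IH) (Lpn (LP (LK LD1_c7 LD2_c37 LD3_c8))))))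
theorem f460157 : Led Lsl_ct (LP (LK LD1_c7 LD2_c47 LD3_c13)) = (LP (LK LD1_c3 LD2_c52 LD3_c46)) :=
  Lre_c IH (LK LD1_c7 LD2_c47 LD3_c13) (LK LD1_c3 LD2_c52 LD3_c46) Lrfl Lrfl
theorem f468433 : Led Lsl_at (LP (LK LD1_c7 LD2_c46 LD3_c10)) = (LP (LK LD1_c7 LD2_c47 LD3_c13)) :=
  Lgr Lrot107 (Lpr_cf (f468431 IH) (Lpe (f460694 IH) (Lpe (f460157 IH) (Lpn (LP (LK LD1_c7 LD2_c47 LD3_c13))))))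
theorem f468452 : Led Lsl_ff (LP (LK LD1_c7 LD2_c46 LD3_c10)) = (LP (LK LD1_c7 LD2_c37 LD3_c60)) :=
  Lgr Lrot19 (Lpr_dt (f468441 IH) (Lpr_ft (K24.f460571 IH) (Lpe (K24.f460554 IH) (Lpn (LP (LK LD1_c7 LD2_c37 LD3_c60))))))
theorem f468486 : Led Lsl_at (LP (LK LD1_c7 LD2_c46 LD3_c11)) = (LP (LK LD1_c7 LD2_c37 LD3_c60)) :=
  Lgr Lrot66 (Lpr_ff (f468484 IH) (Lpe (f468433 IH) (Lpr_ff (f468452 IH) (Lpn (LP (LK LD1_c7 LD2_c37 LD3_c60))))))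
theorem f11239 : Led Lsl_dt (LP (LK LD1_c1 LD2_c52 LD3_c50)) = (LP (LK LD1_c0 LD2_c53 LD3_c3)) :=
  Lre_d IH (LK LD1_c1 LD2_c52 LD3_c50) (LK LD1_c0 LD2_c53 LD3_c3) Lrfl Lrfl
theorem f443327 : Led Lsl_ct (LP (LK LD1_c3 LD2_c47 LD3_c59)) = (LP (LK LD1_c7 LD2_c37 LD3_c0)) :=
  Lre_c IH (LK LD1_c3 LD2_c47 LD3_c59) (LK LD1_c7 LD2_c37 LD3_c0) Lrfl Lrfl
theorem f463737 : Led Lsl_gf (LP (LK LD1_c7 LD2_c37 LD3_c60)) = (LP (LK LD1_c7 LD2_c37 LD3_c0)) :=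
  Lgr Lrot104 (Lpr_ct (K24.f87978 IH) (Lpe (K5.f87945 IH) (Lpe (K5.f128079 IH) (Lpr_gf (K28.f463733 IH) (Lpe (K28.f463732 IH) (Lpe (K28.f11213 IH) (Lpe (f11239 IH) (Lpr_gt (K24.f64996 IH) (Lpr_ct (f443327 IH) (Lpn (LP (LK LD1_c7 LD2_c37 LD3_c0))))))))))))
theorem f468491 : Led Lsl_gf (LP (LK LD1_c7 LD2_c37 LD3_c0)) = (LP (LK LD1_c7 LD2_c47 LD3_c13)) :=
  Lgr Lrot47 (Lpe (f463737 IH) (Lpe (f468486 IH) (Lpr_ff (f468484 IH) (Lpn (LP (LK LD1_c7 LD2_c47 LD3_c13))))))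
theorem f63671 : Led Lsl_dt (LP (LK LD1_c3 LD2_c30 LD3_c30)) = (LP (LK LD1_c1 LD2_c41 LD3_c53)) :=
  Lre_d IH (LK LD1_c3 LD2_c30 LD3_c30) (LK LD1_c1 LD2_c41 LD3_c53) Lrfl Lrfl
theorem f63673 : Led Lsl_ct (LP (LK LD1_c3 LD2_c52 LD3_c2)) = (LP (LK LD1_c7 LD2_c45 LD3_c59)) :=
  Lre_c IH (LK LD1_c3 LD2_c52 LD3_c2) (LK LD1_c7 LD2_c45 LD3_c59) Lrfl Lrfl
theorem f463950 : Led Lsl_gf (LP (LK LD1_c13 LD2_c17 LD3_c33)) = (LP (LK LD1_c7 LD2_c45 LD3_c59)) :=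
  Lgr Lrot104 (Lpr_ct (f64658 IH) (Lpe (K24.f64654 IH) (Lpe (K5.f109303 IH) (Lpe (K24.f108772 IH) (Lpr_cf (K28.f463831 IH) (Lpe (K28.f63672 IH) (Lpe (f63671 IH) (Lpr_gt (K3.f63658 IH) (Lpr_ct (f63673 IH) (Lpn (LP (LK LD1_c7 LD2_c45 LD3_c59))))))))))))
theorem f63661 : Led Lsl_ft (LP (LK LD1_c3 LD2_c30 LD3_c30)) = (LP (LK LD1_c1 LD2_c41 LD3_c52)) :=
  Lre_f IH (LK LD1_c3 LD2_c30 LD3_c30) (LK LD1_c1 LD2_c41 LD3_c52) Lrfl Lrfl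
theorem f63662 : Led Lsl_at (LP (LK LD1_c1 LD2_c41 LD3_c52)) = (LP (LK LD1_c3 LD2_c29 LD3_c8)) :=
  Lre_a IH (LK LD1_c1 LD2_c41 LD3_c52) (LK LD1_c3 LD2_c29 LD3_c8) Lrfl Lrfl
theorem f63663 : Led Lsl_gf (LP (LK LD1_c3 LD2_c29 LD3_c8)) = (LP (LK LD1_c3 LD2_c52 LD3_c2)) :=
  Lgr Lrot76 (Lpe (f63662 IH) (Lpe (f63661 IH) (Lpr_gt (K3.f63658 IH) (Lpn (LP (LK LD1_c3 LD2_c52 LD3_c2))))))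
theorem f18791 : Led Lsl_dt (LP (LK LD1_c3 LD2_c29 LD3_c8)) = (LP (LK LD1_c1 LD2_c41 LD3_c17)) :=
  Lre_d IH (LK LD1_c3 LD2_c29 LD3_c8) (LK LD1_c1 LD2_c41 LD3_c17) Lrfl Lrfl
theorem f468493 : Led Lsl_dt (LP (LK LD1_c7 LD2_c37 LD3_c0)) = (LP (LK LD1_c13 LD2_c16 LD3_c57)) :=
  Lgr Lrot105 (Lpr_gf (f468491 IH) (Lpe (f460409 IH) (Lpr_gf (f463950 IH) (Lpe (f63673 IH) (Lpe (f63663 IH) (Lpr_dt (f18791 IH) (Lpr_gt (K3.f18760 IH) (Lpr_dt (f18761 IH) (Lpe (f64167 IH) (Lpn (LP (LK LD1_c13 LD2_c16 LD3_c57))))))))))))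
theorem f468524 : Led Lsl_df (LP (LK LD1_c7 LD2_c37 LD3_c0)) = (LP (LK LD1_c13 LD2_c16 LD3_c57)) :=
  Lgr Lrot38 (Lpr_dt (f468493 IH) (Lpn (LP (LK LD1_c13 LD2_c16 LD3_c57))))
theorem f460559 : Led Lsl_dt (LP (LK LD1_c7 LD2_c37 LD3_c60)) = (LP (LK LD1_c13 LD2_c22 LD3_c47)) :=
  Lgr Lrot42 (Lpr_df (K24.f460554 IH) (Lpn (LP (LK LD1_c13 LD2_c22 LD3_c47))))
theorem f460437 : Led Lsl_gt (LP (LK LD1_c7 LD2_c3 LD3_c25)) = (LP (LK LD1_c3 LD2_c30 LD3_c42)) :=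
  Lre_g IH (LK LD1_c7 LD2_c3 LD3_c25) (LK LD1_c3 LD2_c30 LD3_c42) Lrfl Lrfl
theorem f461784 : Led Lsl_ct (LP (LK LD1_c7 LD2_c3 LD3_c25)) = (LP (LK LD1_c13 LD2_c22 LD3_c59)) :=
  Lre_c IH (LK LD1_c7 LD2_c3 LD3_c25) (LK LD1_c13 LD2_c22 LD3_c59) Lrfl Lrfl
theorem f468537 : Led Lsl_gt (LP (LK LD1_c13 LD2_c22 LD3_c59)) = (LP (LK LD1_c13 LD2_c16 LD3_c57)) :=
  Lgr Lrot94 (Lpe (f461784 IH) (Lpr_gt (f460437 IH) (Lpr_dt (K24.f455544 IH) (Lpr_gt (K24.f129831 IH) (Lpr_dt (K24.f129830 IH) (Lpe (K24.f460511 IH) (Lpe (f460559 IH) (Lpr_gf (f463737 IH) (Lpr_df (f468524 IH) (Lpn (LP (LK LD1_c13 LD2_c16 LD3_c57))))))))))))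
theorem f468489 : Led Lsl_ct (LP (LK LD1_c7 LD2_c46 LD3_c11)) = (LP (LK LD1_c7 LD2_c7 LD3_c32)) :=
  Lgr Lrot40 (Lpr_ff (f468484 IH) (Lpe (f460169 IH) (Lpe (K24.f460163 IH) (Lpn (LP (LK LD1_c7 LD2_c7 LD3_c32))))))
theorem f446557 : Led Lsl_dt (LP (LK LD1_c3 LD2_c47 LD3_c61)) = (LP (LK LD1_c1 LD2_c50 LD3_c60)) :=
  Lre_d IH (LK LD1_c3 LD2_c47 LD3_c61) (LK LD1_c1 LD2_c50 LD3_c60) Lrfl Lrfl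
theorem f458474 : Led Lsl_ct (LP (LK LD1_c1 LD2_c52 LD3_c48)) = (LP (LK LD1_c3 LD2_c52 LD3_c16)) :=
  Lre_c IH (LK LD1_c1 LD2_c52 LD3_c48) (LK LD1_c3 LD2_c52 LD3_c16) Lrfl Lrfl
theorem f468550 : Led Lsl_gf (LP (LK LD1_c7 LD2_c46 LD3_c11)) = (LP (LK LD1_c3 LD2_c52 LD3_c16)) :=
  Lgr Lrot104 (Lpr_ct (f468489 IH) (Lpe (K24.f12068 IH) (Lpe (K28.f108766 IH) (Lpr_gf (K28.f463707 IH) (Lpe (K28.f14880 IH) (Lpe (K28.f14877 IH) (Lpe (f446557 IH) (Lpr_gt (K3.f63648 IH) (Lpr_ct (f458474 IH) (Lpn (LP (LK LD1_c3 LD2_c52 LD3_c16))))))))))))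
theorem f460686 : Led Lsl_ft (LP (LK LD1_c3 LD2_c48 LD3_c29)) = (LP (LK LD1_c7 LD2_c37 LD3_c8)) :=
  Lgr Lrot54 (Lpe (K5.f87945 IH) (Lpr_ff (K24.f460680 IH) (Lpe (f460685 IH) (Lpn (LP (LK LD1_c7 LD2_c37 LD3_c8))))))
theorem f468439 : Led Lsl_ft (LP (LK LD1_c7 LD2_c46 LD3_c10)) = (LP (LK LD1_c7 LD2_c37 LD3_c60)) :=
  Lgr Lrot4 (Lpr_cf (f468431 IH) (Lpe (f460686 IH) (Lpe (K24.f87978 IH) (Lpn (LP (LK LD1_c7 LD2_c37 LD3_c60))))))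
theorem f468479 : Led Lsl_af (LP (LK LD1_c7 LD2_c46 LD3_c11)) = (LP (LK LD1_c7 LD2_c37 LD3_c60)) :=
  Lgr Lrot45 (Lpr_ft (f468477 IH) (Lpe (f468447 IH) (Lpr_ft (f468439 IH) (Lpn (LP (LK LD1_c7 LD2_c37 LD3_c60))))))
theorem f468553 : Led Lsl_gt (LP (LK LD1_c7 LD2_c46 LD3_c10)) = (LP (LK LD1_c3 LD2_c52 LD3_c16)) :=
  Lgr Lrot5 (Lpr_ft (f468439 IH) (Lpe (f468479 IH) (Lpr_gf (f468550 IH) (Lpn (LP (LK LD1_c3 LD2_c52 LD3_c16))))))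
theorem f458479 : Led Lsl_ct (LP (LK LD1_c3 LD2_c52 LD3_c16)) = (LP (LK LD1_c1 LD2_c52 LD3_c48)) :=
  Lre_c IH (LK LD1_c3 LD2_c52 LD3_c16) (LK LD1_c1 LD2_c52 LD3_c48) Lrfl Lrfl
theorem f459879 : Led Lsl_ct (LP (LK LD1_c0 LD2_c53 LD3_c2)) = (LP (LK LD1_c1 LD2_c52 LD3_c49)) :=
  Lre_c IH (LK LD1_c0 LD2_c53 LD3_c2) (LK LD1_c1 LD2_c52 LD3_c49) Lrfl Lrfl
theorem f460588 : Led Lsl_dt (LP (LK LD1_c3 LD2_c52 LD3_c22)) = (LP (LK LD1_c1 LD2_c52 LD3_c49)) :=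
  Lre_d IH (LK LD1_c3 LD2_c52 LD3_c22) (LK LD1_c1 LD2_c52 LD3_c49) Lrfl Lrfl
theorem f156651 : Led Lsl_ct (LP (LK LD1_c7 LD2_c0 LD3_c4)) = (LP (LK LD1_c3 LD2_c52 LD3_c22)) :=
  Lre_c IH (LK LD1_c7 LD2_c0 LD3_c4) (LK LD1_c3 LD2_c52 LD3_c22) Lrfl Lrfl
theorem f18812 : Led Lsl_gt (LP (LK LD1_c3 LD2_c30 LD3_c27)) = (LP (LK LD1_c7 LD2_c0 LD3_c4)) :=
  Lre_g IH (LK LD1_c3 LD2_c30 LD3_c27) (LK LD1_c7 LD2_c0 LD3_c4) Lrfl Lrfl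
theorem f468561 : Led Lsl_ct (LP (LK LD1_c7 LD2_c2 LD3_c50)) = (LP (LK LD1_c3 LD2_c30 LD3_c27)) :=
  Lre_c IH (LK LD1_c7 LD2_c2 LD3_c50) (LK LD1_c3 LD2_c30 LD3_c27) Lrfl Lrfl
theorem f468562 : Led Lsl_gt (LP (LK LD1_c7 LD2_c32 LD3_c10)) = (LP (LK LD1_c7 LD2_c2 LD3_c50)) :=
  Lgr Lrot9 (Lpe (f468441 IH) (Lpr_gt (f468553 IH) (Lpr_ct (f458479 IH) (Lpr_gt (K3.f63631 IH) (Lpr_ct (f459879 IH) (Lpe (f460588 IH) (Lpe (f156651 IH) (Lpe (f18812 IH) (Lpe (f468561 IH) (Lpn (LP (LK LD1_c7 LD2_c2 LD3_c50))))))))))))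
theorem f468454 : Led Lsl_ct (LP (LK LD1_c3 LD2_c52 LD3_c12)) = (LP (LK LD1_c1 LD2_c52 LD3_c47)) :=
  Lre_c IH (LK LD1_c3 LD2_c52 LD3_c12) (LK LD1_c1 LD2_c52 LD3_c47) Lrfl Lrfl
theorem f446558 : Led Lsl_gt (LP (LK LD1_c1 LD2_c52 LD3_c47)) = (LP (LK LD1_c3 LD2_c47 LD3_c61)) :=
  Lre_g IH (LK LD1_c1 LD2_c52 LD3_c47) (LK LD1_c3 LD2_c47 LD3_c61) Lrfl Lrfl
theorem f14878 : Led Lsl_dt (LP (LK LD1_c0 LD2_c53 LD3_c1)) = (LP (LK LD1_c1 LD2_c52 LD3_c45)) :=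
  Lre_d IH (LK LD1_c0 LD2_c53 LD3_c1) (LK LD1_c1 LD2_c52 LD3_c45) Lrfl Lrfl
theorem f14879 : Led Lsl_ct (LP (LK LD1_c1 LD2_c52 LD3_c45)) = (LP (LK LD1_c3 LD2_c52 LD3_c8)) :=
  Lre_c IH (LK LD1_c1 LD2_c52 LD3_c45) (LK LD1_c3 LD2_c52 LD3_c8) Lrfl Lrfl
theorem f468576 : Led Lsl_df (LP (LK LD1_c3 LD2_c52 LD3_c8)) = (LP (LK LD1_c7 LD2_c2 LD3_c50)) :=
  Lgr Lrot84 (Lpe (f14879 IH) (Lpe (f14878 IH) (Lpe (K28.f14877 IH) (Lpe (f446557 IH) (Lpe (f446558 IH) (Lpe (f468454 IH) (Lpr_gt (f464796 IH) (Lpr_dt (f468441 IH) (Lpr_gt (f468562 IH) (Lpn (LP (LK LD1_c7 LD2_c2 LD3_c50))))))))))))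
theorem f460678 : Led Lsl_af (LP (LK LD1_c3 LD2_c52 LD3_c46)) = (LP (LK LD1_c7 LD2_c37 LD3_c8)) :=
  Lgr Lrot117 (Lpr_dt (K24.f460165 IH) (Lpr_at (K24.f460595 IH) (Lpr_dt (K24.f129709 IH) (Lpn (LP (LK LD1_c7 LD2_c37 LD3_c8))))))
theorem f461120 : Led Lsl_gt (LP (LK LD1_c7 LD2_c3 LD3_c34)) = (LP (LK LD1_c3 LD2_c52 LD3_c46)) :=
  Lgr Lrot46 (Lpr_gf (K5.f87974 IH) (Lpr_ft (f460686 IH) (Lpe (f460678 IH) (Lpn (LP (LK LD1_c3 LD2_c52 LD3_c46))))))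
theorem f460587 : Led Lsl_gt (LP (LK LD1_c1 LD2_c52 LD3_c49)) = (LP (LK LD1_c3 LD2_c52 LD3_c19)) :=
  Lre_g IH (LK LD1_c1 LD2_c52 LD3_c49) (LK LD1_c3 LD2_c52 LD3_c19) Lrfl Lrfl
theorem f461122 : Led Lsl_cf (LP (LK LD1_c7 LD2_c3 LD3_c34)) = (LP (LK LD1_c3 LD2_c52 LD3_c19)) :=
  Lgr Lrot169 (Lpr_gt (f461120 IH) (Lpr_ct (f460169 IH) (Lpe (f460409 IH) (Lpe (K24.f64660 IH) (Lpr_gf (K24.f460583 IH) (Lpe (f460520 IH) (Lpe (K24.f443459 IH) (Lpe (K24.f156645 IH) (Lpr_gt (f460587 IH) (Lpn (LP (LK LD1_c3 LD2_c52 LD3_c19))))))))))))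
theorem f88007 : Led Lsl_dt (LP (LK LD1_c0 LD2_c53 LD3_c10)) = (LP (LK LD1_c1 LD2_c53 LD3_c12)) :=
  Lre_d IH (LK LD1_c0 LD2_c53 LD3_c10) (LK LD1_c1 LD2_c53 LD3_c12) Lrfl Lrfl
theorem f459918 : Led Lsl_ct (LP (LK LD1_c1 LD2_c53 LD3_c12)) = (LP (LK LD1_c3 LD2_c53 LD3_c17)) :=
  Lre_c IH (LK LD1_c1 LD2_c53 LD3_c12) (LK LD1_c3 LD2_c53 LD3_c17) Lrfl Lrfl
theorem f459900 : Led Lsl_gt (LP (LK LD1_c3 LD2_c52 LD3_c19)) = (LP (LK LD1_c7 LD2_c2 LD3_c58)) :=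
  Lre_g IH (LK LD1_c3 LD2_c52 LD3_c19) (LK LD1_c7 LD2_c2 LD3_c58) Lrfl Lrfl
theorem f460567 : Led Lsl_dt (LP (LK LD1_c7 LD2_c2 LD3_c58)) = (LP (LK LD1_c3 LD2_c30 LD3_c29)) :=
  Lre_d IH (LK LD1_c7 LD2_c2 LD3_c58) (LK LD1_c3 LD2_c30 LD3_c29) Lrfl Lrfl
theorem f64994 : Led Lsl_gt (LP (LK LD1_c3 LD2_c30 LD3_c29)) = (LP (LK LD1_c7 LD2_c2 LD3_c55)) :=
  Lre_g IH (LK LD1_c3 LD2_c30 LD3_c29) (LK LD1_c7 LD2_c2 LD3_c55) Lrfl Lrfl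
theorem f461150 : Led Lsl_df (LP (LK LD1_c3 LD2_c53 LD3_c17)) = (LP (LK LD1_c7 LD2_c2 LD3_c55)) :=
  Lgr Lrot84 (Lpe (f459918 IH) (Lpe (f88007 IH) (Lpr_gf (K24.f460405 IH) (Lpe (K24.f460165 IH) (Lpe (f461120 IH) (Lpr_cf (f461122 IH) (Lpr_gt (f459900 IH) (Lpr_dt (f460567 IH) (Lpr_gt (f64994 IH) (Lpn (LP (LK LD1_c7 LD2_c2 LD3_c55))))))))))))
theorem f461157 : Led Lsl_dt (LP (LK LD1_c3 LD2_c53 LD3_c17)) = (LP (LK LD1_c7 LD2_c2 LD3_c55)) :=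
  Lgr Lrot42 (Lpr_df (f461150 IH) (Lpn (LP (LK LD1_c7 LD2_c2 LD3_c55))))
theorem f461177 : Led Lsl_gt (LP (LK LD1_c7 LD2_c45 LD3_c47)) = (LP (LK LD1_c3 LD2_c53 LD3_c17)) :=
  Lre_g IH (LK LD1_c7 LD2_c45 LD3_c47) (LK LD1_c3 LD2_c53 LD3_c17) Lrfl Lrfl
theorem f461256 : Led Lsl_ct (LP (LK LD1_c7 LD2_c45 LD3_c47)) = (LP (LK LD1_c3 LD2_c51 LD3_c60)) :=
  Lre_c IH (LK LD1_c7 LD2_c45 LD3_c47) (LK LD1_c3 LD2_c51 LD3_c60) Lrfl Lrfl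
theorem f156652 : Led Lsl_gt (LP (LK LD1_c7 LD2_c2 LD3_c55)) = (LP (LK LD1_c3 LD2_c52 LD3_c22)) :=
  Lre_g IH (LK LD1_c7 LD2_c2 LD3_c55) (LK LD1_c3 LD2_c52 LD3_c22) Lrfl Lrfl
theorem f457979 : Led Lsl_dt (LP (LK LD1_c1 LD2_c52 LD3_c45)) = (LP (LK LD1_c0 LD2_c53 LD3_c1)) :=
  Lre_d IH (LK LD1_c1 LD2_c52 LD3_c45) (LK LD1_c0 LD2_c53 LD3_c1) Lrfl Lrfl
theorem f461257 : Led Lsl_gt (LP (LK LD1_c3 LD2_c51 LD3_c60)) = (LP (LK LD1_c1 LD2_c52 LD3_c45)) :=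
  Lgr Lrot94 (Lpe (f461256 IH) (Lpr_gt (f461177 IH) (Lpr_dt (f461157 IH) (Lpr_gt (f156652 IH) (Lpr_dt (f460588 IH) (Lpe (f459879 IH) (Lpe (K3.f63630 IH) (Lpe (K24.f443237 IH) (Lpe (f457979 IH) (Lpn (LP (LK LD1_c1 LD2_c52 LD3_c45))))))))))))
theorem f460510 : Led Lsl_ct (LP (LK LD1_c3 LD2_c30 LD3_c27)) = (LP (LK LD1_c7 LD2_c2 LD3_c50)) :=
  Lre_c IH (LK LD1_c3 LD2_c30 LD3_c27) (LK LD1_c7 LD2_c2 LD3_c50) Lrfl Lrfl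
theorem f460509 : Led Lsl_gt (LP (LK LD1_c1 LD2_c41 LD3_c52)) = (LP (LK LD1_c3 LD2_c30 LD3_c27)) :=
  Lre_g IH (LK LD1_c1 LD2_c41 LD3_c52) (LK LD1_c3 LD2_c30 LD3_c27) Lrfl Lrfl
theorem f460502 : Led Lsl_df (LP (LK LD1_c7 LD2_c2 LD3_c56)) = (LP (LK LD1_c3 LD2_c52 LD3_c53)) :=
  Lgr Lrot38 (Lpr_dt (K24.f460434 IH) (Lpn (LP (LK LD1_c3 LD2_c52 LD3_c53))))
theorem f468584 : Led Lsl_gf (LP (LK LD1_c7 LD2_c45 LD3_c47)) = (LP (LK LD1_c3 LD2_c52 LD3_c53)) :=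
  Lgr Lrot147 (Lpr_ct (f461256 IH) (Lpr_gt (f461257 IH) (Lpr_ct (f14879 IH) (Lpr_df (f468576 IH) (Lpe (f460510 IH) (Lpe (f460509 IH) (Lpe (K24.f460508 IH) (Lpe (K24.f425692 IH) (Lpr_df (f460502 IH) (Lpn (LP (LK LD1_c3 LD2_c52 LD3_c53))))))))))))
theorem f464013 : Led Lsl_dt (LP (LK LD1_c7 LD2_c45 LD3_c47)) = (LP (LK LD1_c14 LD2_c38 LD3_c30)) :=
  Lre_d IH (LK LD1_c7 LD2_c45 LD3_c47) (LK LD1_c14 LD2_c38 LD3_c30) Lrfl Lrfl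
theorem f156644 : Led Lsl_ct (LP (LK LD1_c3 LD2_c52 LD3_c22)) = (LP (LK LD1_c7 LD2_c0 LD3_c4)) :=
  Lre_c IH (LK LD1_c3 LD2_c52 LD3_c22) (LK LD1_c7 LD2_c0 LD3_c4) Lrfl Lrfl
theorem f129658 : Led Lsl_ct (LP (LK LD1_c1 LD2_c53 LD3_c14)) = (LP (LK LD1_c0 LD2_c53 LD3_c11)) :=
  Lre_c IH (LK LD1_c1 LD2_c53 LD3_c14) (LK LD1_c0 LD2_c53 LD3_c11) Lrfl Lrfl
theorem f129822 : Led Lsl_dt (LP (LK LD1_c3 LD2_c53 LD3_c23)) = (LP (LK LD1_c1 LD2_c53 LD3_c14)) :=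
  Lre_d IH (LK LD1_c3 LD2_c53 LD3_c23) (LK LD1_c1 LD2_c53 LD3_c14) Lrfl Lrfl
theorem f459899 : Led Lsl_ct (LP (LK LD1_c1 LD2_c53 LD3_c0)) = (LP (LK LD1_c3 LD2_c52 LD3_c53)) :=
  Lre_c IH (LK LD1_c1 LD2_c53 LD3_c0) (LK LD1_c3 LD2_c52 LD3_c53) Lrfl Lrfl
theorem f64659 : Led Lsl_ct (LP (LK LD1_c1 LD2_c53 LD3_c4)) = (LP (LK LD1_c0 LD2_c53 LD3_c7)) :=
  Lre_c IH (LK LD1_c1 LD2_c53 LD3_c4) (LK LD1_c0 LD2_c53 LD3_c7) Lrfl Lrfl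
theorem f64653 : Led Lsl_dt (LP (LK LD1_c3 LD2_c53 LD3_c0)) = (LP (LK LD1_c1 LD2_c53 LD3_c4)) :=
  Lre_d IH (LK LD1_c3 LD2_c53 LD3_c0) (LK LD1_c1 LD2_c53 LD3_c4) Lrfl Lrfl
theorem f461254 : Led Lsl_cf (LP (LK LD1_c3 LD2_c53 LD3_c0)) = (LP (LK LD1_c7 LD2_c2 LD3_c55)) :=
  Lgr Lrot55 (Lpr_dt (f64653 IH) (Lpr_ct (f64659 IH) (Lpr_dt (K28.f62723 IH) (Lpr_ct (K24.f451114 IH) (Lpr_dt (K24.f459897 IH) (Lpr_ct (f459899 IH) (Lpe (f460502 IH) (Lpr_ct (f460520 IH) (Lpr_dt (f129822 IH) (Lpr_ct (f129658 IH) (Lpr_dt (K24.f64990 IH) (Lpr_ct (K5.f64663 IH) (Lpr_dt (f88007 IH) (Lpr_ct (f459918 IH) (Lpr_dt (f461157 IH) (Lpn (LP (LK LD1_c7 LD2_c2 LD3_c55))))))))))))))))))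
theorem f64652 : Led Lsl_ct (LP (LK LD1_c0 LD2_c53 LD3_c7)) = (LP (LK LD1_c1 LD2_c53 LD3_c4)) :=
  Lre_c IH (LK LD1_c0 LD2_c53 LD3_c7) (LK LD1_c1 LD2_c53 LD3_c4) Lrfl Lrfl
theorem f461300 : Led Lsl_ct (LP (LK LD1_c3 LD2_c52 LD3_c58)) = (LP (LK LD1_c1 LD2_c53 LD3_c3)) :=
  Lre_c IH (LK LD1_c3 LD2_c52 LD3_c58) (LK LD1_c1 LD2_c53 LD3_c3) Lrfl Lrfl
theorem f64993 : Led Lsl_ct (LP (LK LD1_c1 LD2_c41 LD3_c52)) = (LP (LK LD1_c3 LD2_c30 LD3_c29)) :=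
  Lre_c IH (LK LD1_c1 LD2_c41 LD3_c52) (LK LD1_c3 LD2_c30 LD3_c29) Lrfl Lrfl
theorem f461301 : Led Lsl_gf (LP (LK LD1_c3 LD2_c52 LD3_c58)) = (LP (LK LD1_c3 LD2_c47 LD3_c53)) :=
  Lgr Lrot147 (Lpr_ct (f461300 IH) (Lpr_gt (f62990 IH) (Lpr_ct (f64652 IH) (Lpe (f64653 IH) (Lpr_cf (f461254 IH) (Lpe (f64994 IH) (Lpe (f64993 IH) (Lpe (K1.f64986 IH) (Lpe (K1.f64972 IH) (Lpn (LP (LK LD1_c3 LD2_c47 LD3_c53))))))))))))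
theorem f468592 : Led Lsl_cf (LP (LK LD1_c14 LD2_c38 LD3_c30)) = (LP (LK LD1_c7 LD2_c47 LD3_c45)) :=
  Lgr Lrot14 (Lpe (f464013 IH) (Lpr_gf (f468584 IH) (Lpe (K24.f460434 IH) (Lpe (K24.f443459 IH) (Lpr_ct (f156644 IH) (Lpr_gt (K1.f64971 IH) (Lpe (K24.f64979 IH) (Lpe (f461301 IH) (Lpr_dt (f461510 IH) (Lpn (LP (LK LD1_c7 LD2_c47 LD3_c45))))))))))))
theorem f461178 : Led Lsl_dt (LP (LK LD1_c14 LD2_c38 LD3_c30)) = (LP (LK LD1_c7 LD2_c45 LD3_c47)) :=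
  Lre_d IH (LK LD1_c14 LD2_c38 LD3_c30) (LK LD1_c7 LD2_c45 LD3_c47) Lrfl Lrfl
theorem f461260 : Led Lsl_ct (LP (LK LD1_c3 LD2_c51 LD3_c60)) = (LP (LK LD1_c7 LD2_c45 LD3_c47)) :=
  Lre_c IH (LK LD1_c3 LD2_c51 LD3_c60) (LK LD1_c7 LD2_c45 LD3_c47) Lrfl Lrfl
theorem f65782 : Led Lsl_gt (LP (LK LD1_c1 LD2_c52 LD3_c41)) = (LP (LK LD1_c3 LD2_c51 LD3_c60)) :=
  Lre_g IH (LK LD1_c1 LD2_c52 LD3_c41) (LK LD1_c3 LD2_c51 LD3_c60) Lrfl Lrfl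
theorem f459868 : Led Lsl_ct (LP (LK LD1_c3 LD2_c52 LD3_c0)) = (LP (LK LD1_c1 LD2_c52 LD3_c41)) :=
  Lre_c IH (LK LD1_c3 LD2_c52 LD3_c0) (LK LD1_c1 LD2_c52 LD3_c41) Lrfl Lrfl
theorem f477176 : Led Lsl_df (LP (LK LD1_c13 LD2_c22 LD3_c59)) = (LP (LK LD1_c7 LD2_c45 LD3_c52)) :=
  Lgr Lrot155 (Lpr_gt (f468537 IH) (Lpr_ct (f64167 IH) (Lpr_gt (f477168 IH) (Lpe (f468592 IH) (Lpr_dt (f461178 IH) (Lpe (f461260 IH) (Lpe (f65782 IH) (Lpe (f459868 IH) (Lpe (f459857 IH) (Lpn (LP (LK LD1_c7 LD2_c45 LD3_c52))))))))))))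
theorem f443335 : Led Lsl_ct (LP (LK LD1_c7 LD2_c37 LD3_c0)) = (LP (LK LD1_c3 LD2_c47 LD3_c59)) :=
  Lre_c IH (LK LD1_c7 LD2_c37 LD3_c0) (LK LD1_c3 LD2_c47 LD3_c59) Lrfl Lrfl
theorem f468573 : Led Lsl_gt (LP (LK LD1_c7 LD2_c2 LD3_c50)) = (LP (LK LD1_c13 LD2_c21 LD3_c56)) :=
  Lre_g IH (LK LD1_c7 LD2_c2 LD3_c50) (LK LD1_c13 LD2_c21 LD3_c56) Lrfl Lrfl
theorem f468574 : Led Lsl_at (LP (LK LD1_c13 LD2_c22 LD3_c47)) = (LP (LK LD1_c13 LD2_c21 LD3_c56)) :=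
  Lgr Lrot26 (Lpe (K24.f460571 IH) (Lpr_gt (f468562 IH) (Lpr_gt (f468573 IH) (Lpn (LP (LK LD1_c13 LD2_c21 LD3_c56))))))
theorem f468614 : Led Lsl_cf (LP (LK LD1_c7 LD2_c47 LD3_c41)) = (LP (LK LD1_c13 LD2_c21 LD3_c56)) :=
  Lgr Lrot1 (Lpr_at (K28.f460578 IH) (Lpr_ct (K24.f460553 IH) (Lpr_at (f468574 IH) (Lpn (LP (LK LD1_c13 LD2_c21 LD3_c56))))))
theorem f459739 : Led Lsl_ct (LP (LK LD1_c3 LD2_c48 LD3_c3)) = (LP (LK LD1_c7 LD2_c37 LD3_c14)) :=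
  Lre_c IH (LK LD1_c3 LD2_c48 LD3_c3) (LK LD1_c7 LD2_c37 LD3_c14) Lrfl Lrfl
theorem f468582 : Led Lsl_dt (LP (LK LD1_c3 LD2_c52 LD3_c8)) = (LP (LK LD1_c7 LD2_c2 LD3_c50)) :=
  Lgr Lrot42 (Lpr_df (f468576 IH) (Lpn (LP (LK LD1_c7 LD2_c2 LD3_c50))))
theorem f468821 : Led Lsl_gf (LP (LK LD1_c7 LD2_c45 LD3_c52)) = (LP (LK LD1_c3 LD2_c52 LD3_c8)) :=
  Lgr Lrot147 (Lpr_ct (f468388 IH) (Lpr_gt (f129845 IH) (Lpr_ct (f459739 IH) (Lpr_df (K24.f459729 IH) (Lpe (K24.f63015 IH) (Lpe (K24.f63017 IH) (Lpr_cf (f468614 IH) (Lpe (f468573 IH) (Lpe (f468582 IH) (Lpn (LP (LK LD1_c3 LD2_c52 LD3_c8))))))))))))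
theorem f458091 : Led Lsl_bt (LP (LK LD1_c1 LD2_c52 LD3_c58)) = (LP (LK LD1_c0 LD2_c53 LD3_c7)) :=
  Lre_b IH (LK LD1_c1 LD2_c52 LD3_c58) (LK LD1_c0 LD2_c53 LD3_c7) Lrfl Lrfl
theorem f63002 : Led Lsl_bt (LP (LK LD1_c0 LD2_c53 LD3_c8)) = (LP (LK LD1_c1 LD2_c52 LD3_c59)) :=
  Lre_b IH (LK LD1_c0 LD2_c53 LD3_c8) (LK LD1_c1 LD2_c52 LD3_c59) Lrfl Lrfl
theorem f473668 : Led Lsl_ft (LP (LK LD1_c0 LD2_c53 LD3_c7)) = (LP (LK LD1_c0 LD2_c53 LD3_c8)) :=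
  Lgr Lrot75 (Lpe (f458091 IH) (Lpr_ff (f473663 IH) (Lpe (f63002 IH) (Lpn (LP (LK LD1_c0 LD2_c53 LD3_c8))))))
theorem f473958 : Led Lsl_af (LP (LK LD1_c0 LD2_c53 LD3_c11)) = (LP (LK LD1_c0 LD2_c53 LD3_c8)) :=
  Lgr Lrot45 (Lpr_ft (f473607 IH) (Lpr_at (f473934 IH) (Lpr_ft (f473668 IH) (Lpn (LP (LK LD1_c0 LD2_c53 LD3_c8))))))
theorem f474034 : Led Lsl_at (LP (LK LD1_c1 LD2_c53 LD3_c14)) = (LP (LK LD1_c1 LD2_c53 LD3_c1)) :=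
  Lgr Lrot107 (Lpe (K24.f129787 IH) (Lpr_af (f473958 IH) (Lpe (K24.f62780 IH) (Lpn (LP (LK LD1_c1 LD2_c53 LD3_c1))))))
theorem f62793 : Led Lsl_gt (LP (LK LD1_c3 LD2_c52 LD3_c55)) = (LP (LK LD1_c1 LD2_c53 LD3_c1)) :=
  Lre_g IH (LK LD1_c3 LD2_c52 LD3_c55) (LK LD1_c1 LD2_c53 LD3_c1) Lrfl Lrfl
theorem f468620 : Led Lsl_ct (LP (LK LD1_c7 LD2_c47 LD3_c41)) = (LP (LK LD1_c13 LD2_c21 LD3_c56)) :=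
  Lgr Lrot98 (Lpe (K24.f63018 IH) (Lpe (K28.f460104 IH) (Lpr_df (K28.f464820 IH) (Lpe (f464792 IH) (Lpe (f460685 IH) (Lpr_cf (f464797 IH) (Lpe (f464823 IH) (Lpr_ft (K24.f460571 IH) (Lpr_at (f468574 IH) (Lpn (LP (LK LD1_c13 LD2_c21 LD3_c56))))))))))))
theorem f460993 : Led Lsl_af (LP (LK LD1_c22 LD2_c17 LD3_c59)) = (LP (LK LD1_c14 LD2_c42 LD3_c34)) :=
  Lgr Lrot0 (Lpr_at (K28.f460989 IH) (Lpn (LP (LK LD1_c14 LD2_c42 LD3_c34))))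
theorem f460991 : Led Lsl_bt (LP (LK LD1_c22 LD2_c17 LD3_c59)) = (LP (LK LD1_c22 LD2_c40 LD3_c18)) :=
  Lgr Lrot127 (Lpr_bf (K28.f460983 IH) (Lpn (LP (LK LD1_c22 LD2_c40 LD3_c18))))
theorem f460980 : Led Lsl_at (LP (LK LD1_c22 LD2_c40 LD3_c18)) = (LP (LK LD1_c13 LD2_c22 LD3_c46)) :=
  Lre_a IH (LK LD1_c22 LD2_c40 LD3_c18) (LK LD1_c13 LD2_c22 LD3_c46) Lrfl Lrfl
theorem f460529 : Led Lsl_bt (LP (LK LD1_c13 LD2_c22 LD3_c46)) = (LP (LK LD1_c7 LD2_c3 LD3_c21)) :=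
  Lre_b IH (LK LD1_c13 LD2_c22 LD3_c46) (LK LD1_c7 LD2_c3 LD3_c21) Lrfl Lrfl
theorem f461008 : Led Lsl_at (LP (LK LD1_c7 LD2_c3 LD3_c21)) = (LP (LK LD1_c7 LD2_c47 LD3_c41)) :=
  Lgr Lrot67 (Lpe (f460529 IH) (Lpe (f460980 IH) (Lpe (f460991 IH) (Lpr_af (f460993 IH) (Lpe (K28.f63024 IH) (Lpn (LP (LK LD1_c7 LD2_c47 LD3_c41))))))))
theorem f460547 : Led Lsl_ft (LP (LK LD1_c3 LD2_c45 LD3_c44)) = (LP (LK LD1_c7 LD2_c3 LD3_c21)) :=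
  Lgr Lrot54 (Lpe (K5.f92368 IH) (Lpr_ff (K24.f460535 IH) (Lpe (K28.f460527 IH) (Lpn (LP (LK LD1_c7 LD2_c3 LD3_c21))))))
theorem f460084 : Led Lsl_gt (LP (LK LD1_c3 LD2_c45 LD3_c44)) = (LP (LK LD1_c7 LD2_c32 LD3_c9)) :=
  Lre_g IH (LK LD1_c3 LD2_c45 LD3_c44) (LK LD1_c7 LD2_c32 LD3_c9) Lrfl Lrfl
theorem f461010 : Led Lsl_gt (LP (LK LD1_c7 LD2_c32 LD3_c9)) = (LP (LK LD1_c7 LD2_c47 LD3_c41)) :=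
  Lgr Lrot46 (Lpe (f460084 IH) (Lpr_ft (f460547 IH) (Lpr_at (f461008 IH) (Lpn (LP (LK LD1_c7 LD2_c47 LD3_c41))))))
theorem f63669 : Led Lsl_ct (LP (LK LD1_c7 LD2_c2 LD3_c59)) = (LP (LK LD1_c3 LD2_c30 LD3_c30)) :=
  Lre_c IH (LK LD1_c7 LD2_c2 LD3_c59) (LK LD1_c3 LD2_c30 LD3_c30) Lrfl Lrfl
theorem f63674 : Led Lsl_gt (LP (LK LD1_c13 LD2_c17 LD3_c5)) = (LP (LK LD1_c7 LD2_c2 LD3_c59)) :=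
  Lre_g IH (LK LD1_c13 LD2_c17 LD3_c5) (LK LD1_c7 LD2_c2 LD3_c59) Lrfl Lrfl
theorem f460227 : Led Lsl_ct (LP (LK LD1_c7 LD2_c32 LD3_c9)) = (LP (LK LD1_c13 LD2_c17 LD3_c5)) :=
  Lgr Lrot152 (Lpe (f460084 IH) (Lpe (K5.f92368 IH) (Lpr_gt (f460222 IH) (Lpr_ct (K28.f63020 IH) (Lpr_gt (K24.f62798 IH) (Lpr_ct (K28.f446520 IH) (Lpe (f63671 IH) (Lpe (f63669 IH) (Lpe (f63674 IH) (Lpn (LP (LK LD1_c13 LD2_c17 LD3_c5))))))))))))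
theorem f460253 : Led Lsl_cf (LP (LK LD1_c7 LD2_c32 LD3_c9)) = (LP (LK LD1_c13 LD2_c17 LD3_c5)) :=
  Lgr Lrot11 (Lpr_ct (f460227 IH) (Lpn (LP (LK LD1_c13 LD2_c17 LD3_c5))))
theorem f64169 : Led Lsl_gt (LP (LK LD1_c7 LD2_c0 LD3_c3)) = (LP (LK LD1_c13 LD2_c17 LD3_c5)) :=
  Lre_g IH (LK LD1_c7 LD2_c0 LD3_c3) (LK LD1_c13 LD2_c17 LD3_c5) Lrfl Lrfl
theorem f64173 : Led Lsl_dt (LP (LK LD1_c3 LD2_c52 LD3_c23)) = (LP (LK LD1_c7 LD2_c0 LD3_c3)) :=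
  Lre_d IH (LK LD1_c3 LD2_c52 LD3_c23) (LK LD1_c7 LD2_c0 LD3_c3) Lrfl Lrfl
theorem f443421 : Led Lsl_gt (LP (LK LD1_c3 LD2_c52 LD3_c23)) = (LP (LK LD1_c7 LD2_c37 LD3_c3)) :=
  Lre_g IH (LK LD1_c3 LD2_c52 LD3_c23) (LK LD1_c7 LD2_c37 LD3_c3) Lrfl Lrfl
theorem f468616 : Led Lsl_df (LP (LK LD1_c7 LD2_c46 LD3_c11)) = (LP (LK LD1_c13 LD2_c21 LD3_c56)) :=
  Lgr Lrot18 (Lpr_at (f468486 IH) (Lpr_dt (f460559 IH) (Lpr_at (f468574 IH) (Lpn (LP (LK LD1_c13 LD2_c21 LD3_c56))))))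
theorem f468482 : Led Lsl_cf (LP (LK LD1_c7 LD2_c46 LD3_c11)) = (LP (LK LD1_c7 LD2_c7 LD3_c32)) :=
  Lgr Lrot108 (Lpr_ft (f468477 IH) (Lpr_ct (f460157 IH) (Lpe (K24.f460131 IH) (Lpn (LP (LK LD1_c7 LD2_c7 LD3_c32))))))
theorem f468622 : Led Lsl_ct (LP (LK LD1_c7 LD2_c37 LD3_c3)) = (LP (LK LD1_c13 LD2_c17 LD3_c20)) :=
  Lgr Lrot186 (Lpe (f443421 IH) (Lpr_dt (f64173 IH) (Lpr_gt (f64169 IH) (Lpe (f460253 IH) (Lpr_gt (f461010 IH) (Lpr_ct (f468620 IH) (Lpe (f468616 IH) (Lpr_cf (f468482 IH) (Lpr_gf (K24.f460701 IH) (Lpn (LP (LK LD1_c13 LD2_c17 LD3_c20))))))))))))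
theorem f64170 : Led Lsl_dt (LP (LK LD1_c7 LD2_c0 LD3_c3)) = (LP (LK LD1_c3 LD2_c52 LD3_c23)) :=
  Lre_d IH (LK LD1_c7 LD2_c0 LD3_c3) (LK LD1_c3 LD2_c52 LD3_c23) Lrfl Lrfl
theorem f468632 : Led Lsl_df (LP (LK LD1_c13 LD2_c21 LD3_c56)) = (LP (LK LD1_c7 LD2_c46 LD3_c11)) :=
  Lgr Lrot162 (Lpe (f468620 IH) (Lpe (f461010 IH) (Lpr_cf (f460253 IH) (Lpe (f64169 IH) (Lpr_dt (f64170 IH) (Lpr_gt (f443421 IH) (Lpr_ct (f468622 IH) (Lpe (K24.f460701 IH) (Lpe (f468482 IH) (Lpn (LP (LK LD1_c7 LD2_c46 LD3_c11))))))))))))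
theorem f459854 : Led Lsl_df (LP (LK LD1_c3 LD2_c52 LD3_c0)) = (LP (LK LD1_c7 LD2_c2 LD3_c53)) :=
  Lgr Lrot38 (Lpr_dt (K24.f459851 IH) (Lpn (LP (LK LD1_c7 LD2_c2 LD3_c53))))
theorem f468637 : Led Lsl_gt (LP (LK LD1_c13 LD2_c21 LD3_c56)) = (LP (LK LD1_c7 LD2_c2 LD3_c53)) :=
  Lgr Lrot49 (Lpr_df (f468632 IH) (Lpr_gf (f468550 IH) (Lpe (f458474 IH) (Lpr_gt (K3.f63631 IH) (Lpr_dt (f451323 IH) (Lpr_gt (K24.f64182 IH) (Lpr_dt (K24.f65781 IH) (Lpe (f459868 IH) (Lpr_df (f459854 IH) (Lpn (LP (LK LD1_c7 LD2_c2 LD3_c53))))))))))))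
theorem f129653 : Led Lsl_dt (LP (LK LD1_c0 LD2_c52 LD3_c22)) = (LP (LK LD1_c1 LD2_c51 LD3_c1)) :=
  Lre_d IH (LK LD1_c0 LD2_c52 LD3_c22) (LK LD1_c1 LD2_c51 LD3_c1) Lrfl Lrfl
theorem f129891 : Led Lsl_ct (LP (LK LD1_c3 LD2_c48 LD3_c4)) = (LP (LK LD1_c1 LD2_c51 LD3_c1)) :=
  Lre_c IH (LK LD1_c3 LD2_c48 LD3_c4) (LK LD1_c1 LD2_c51 LD3_c1) Lrfl Lrfl
theorem f464167 : Led Lsl_dt (LP (LK LD1_c7 LD2_c32 LD3_c9)) = (LP (LK LD1_c3 LD2_c48 LD3_c4)) :=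
  Lgr Lrot105 (Lpe (f460084 IH) (Lpe (K5.f92368 IH) (Lpr_gf (K28.f464147 IH) (Lpe (K28.f18965 IH) (Lpr_gt (K28.f18795 IH) (Lpr_dt (K1.f18779 IH) (Lpr_gt (K24.f85281 IH) (Lpr_dt (f129653 IH) (Lpe (f129891 IH) (Lpn (LP (LK LD1_c3 LD2_c48 LD3_c4))))))))))))
theorem f457906 : Led Lsl_ct (LP (LK LD1_c3 LD2_c27 LD3_c34)) = (LP (LK LD1_c3 LD2_c47 LD3_c53)) :=
  Lgr Lrot59 (Lpr_cf (K24.f457785 IH) (Lpn (LP (LK LD1_c3 LD2_c47 LD3_c53))))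
theorem f457908 : Led Lsl_gt (LP (LK LD1_c6 LD2_c57 LD3_c19)) = (LP (LK LD1_c3 LD2_c27 LD3_c34)) :=
  Lre_g IH (LK LD1_c6 LD2_c57 LD3_c19) (LK LD1_c3 LD2_c27 LD3_c34) Lrfl Lrfl
theorem f463709 : Led Lsl_ct (LP (LK LD1_c3 LD2_c52 LD3_c55)) = (LP (LK LD1_c6 LD2_c57 LD3_c19)) :=
  Lgr Lrot8 (Lpr_gt (f62793 IH) (Lpr_dt (K24.f63014 IH) (Lpe (K24.f459921 IH) (Lpr_dt (f92404 IH) (Lpr_cf (K4.f92402 IH) (Lpr_df (K28.f440179 IH) (Lpr_gf (K28.f463707 IH) (Lpr_df (K24.f457977 IH) (Lpe (f457908 IH) (Lpn (LP (LK LD1_c6 LD2_c57 LD3_c19))))))))))))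
theorem f468639 : Led Lsl_gt (LP (LK LD1_c3 LD2_c48 LD3_c4)) = (LP (LK LD1_c3 LD2_c52 LD3_c55)) :=
  Lgr Lrot9 (Lpe (f464167 IH) (Lpr_gt (f461010 IH) (Lpr_ct (f468620 IH) (Lpr_gt (f468637 IH) (Lpr_ct (K24.f64991 IH) (Lpe (K1.f64972 IH) (Lpe (f457906 IH) (Lpe (f457908 IH) (Lpe (f463709 IH) (Lpn (LP (LK LD1_c3 LD2_c52 LD3_c55))))))))))))
theorem f474042 : Led Lsl_ff (LP (LK LD1_c1 LD2_c53 LD3_c14)) = (LP (LK LD1_c3 LD2_c48 LD3_c4)) :=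
  Lgr Lrot52 (Lpr_at (f474034 IH) (Lpe (f62793 IH) (Lpe (f468639 IH) (Lpn (LP (LK LD1_c3 LD2_c48 LD3_c4))))))
theorem f474053 : Led Lsl_ft (LP (LK LD1_c1 LD2_c53 LD3_c14)) = (LP (LK LD1_c3 LD2_c48 LD3_c4)) :=
  Lgr Lrot48 (Lpr_ff (f474042 IH) (Lpn (LP (LK LD1_c3 LD2_c48 LD3_c4))))
theorem f63949 : Led Lsl_gt (LP (LK LD1_c3 LD2_c47 LD3_c59)) = (LP (LK LD1_c1 LD2_c50 LD3_c59)) :=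
  Lre_g IH (LK LD1_c3 LD2_c47 LD3_c59) (LK LD1_c1 LD2_c50 LD3_c59) Lrfl Lrfl
theorem f443336 : Led Lsl_ct (LP (LK LD1_c1 LD2_c50 LD3_c59)) = (LP (LK LD1_c3 LD2_c47 LD3_c60)) :=
  Lre_c IH (LK LD1_c1 LD2_c50 LD3_c59) (LK LD1_c3 LD2_c47 LD3_c60) Lrfl Lrfl
theorem f91735 : Led Lsl_dt (LP (LK LD1_c3 LD2_c47 LD3_c60)) = (LP (LK LD1_c7 LD2_c2 LD3_c59)) :=
  Lre_d IH (LK LD1_c3 LD2_c47 LD3_c60) (LK LD1_c7 LD2_c2 LD3_c59) Lrfl Lrfl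
theorem f63665 : Led Lsl_ct (LP (LK LD1_c3 LD2_c30 LD3_c30)) = (LP (LK LD1_c7 LD2_c2 LD3_c59)) :=
  Lre_c IH (LK LD1_c3 LD2_c30 LD3_c30) (LK LD1_c7 LD2_c2 LD3_c59) Lrfl Lrfl
theorem f63660 : Led Lsl_gt (LP (LK LD1_c7 LD2_c0 LD3_c2)) = (LP (LK LD1_c3 LD2_c30 LD3_c30)) :=
  Lre_g IH (LK LD1_c7 LD2_c0 LD3_c2) (LK LD1_c3 LD2_c30 LD3_c30) Lrfl Lrfl
theorem f463923 : Led Lsl_ct (LP (LK LD1_c13 LD2_c17 LD3_c3)) = (LP (LK LD1_c7 LD2_c0 LD3_c2)) :=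
  Lre_c IH (LK LD1_c13 LD2_c17 LD3_c3) (LK LD1_c7 LD2_c0 LD3_c2) Lrfl Lrfl
theorem f468495 : Led Lsl_gf (LP (LK LD1_c13 LD2_c17 LD3_c3)) = (LP (LK LD1_c13 LD2_c17 LD3_c33)) :=
  Lgr Lrot147 (Lpr_ct (f463923 IH) (Lpr_gt (f63660 IH) (Lpr_ct (f63665 IH) (Lpe (f91735 IH) (Lpe (f443336 IH) (Lpe (f63949 IH) (Lpe (f443335 IH) (Lpr_gf (f468491 IH) (Lpe (f460409 IH) (Lpn (LP (LK LD1_c13 LD2_c17 LD3_c33))))))))))))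
theorem f457957 : Led Lsl_dt (LP (LK LD1_c1 LD2_c40 LD3_c22)) = (LP (LK LD1_c3 LD2_c27 LD3_c33)) :=
  Lre_d IH (LK LD1_c1 LD2_c40 LD3_c22) (LK LD1_c3 LD2_c27 LD3_c33) Lrfl Lrfl
theorem f457783 : Led Lsl_ct (LP (LK LD1_c6 LD2_c57 LD3_c17)) = (LP (LK LD1_c3 LD2_c27 LD3_c33)) :=
  Lre_c IH (LK LD1_c6 LD2_c57 LD3_c17) (LK LD1_c3 LD2_c27 LD3_c33) Lrfl Lrfl
theorem f62847 : Led Lsl_dt (LP (LK LD1_c1 LD2_c41 LD3_c17)) = (LP (LK LD1_c3 LD2_c29 LD3_c8)) :=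
  Lre_d IH (LK LD1_c1 LD2_c41 LD3_c17) (LK LD1_c3 LD2_c29 LD3_c8) Lrfl Lrfl
theorem f62848 : Led Lsl_gt (LP (LK LD1_c3 LD2_c29 LD3_c8)) = (LP (LK LD1_c7 LD2_c0 LD3_c2)) :=
  Lre_g IH (LK LD1_c3 LD2_c29 LD3_c8) (LK LD1_c7 LD2_c0 LD3_c2) Lrfl Lrfl
theorem f463835 : Led Lsl_df (LP (LK LD1_c6 LD2_c57 LD3_c17)) = (LP (LK LD1_c7 LD2_c0 LD3_c2)) :=
  Lgr Lrot174 (Lpr_ct (f457783 IH) (Lpe (f457957 IH) (Lpe (K28.f463693 IH) (Lpr_df (K5.f128069 IH) (Lpe (K24.f108772 IH) (Lpr_ct (K28.f463744 IH) (Lpr_gt (K28.f18766 IH) (Lpr_dt (f62847 IH) (Lpr_gt (f62848 IH) (Lpn (LP (LK LD1_c7 LD2_c0 LD3_c2))))))))))))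
theorem f457890 : Led Lsl_ct (LP (LK LD1_c3 LD2_c27 LD3_c33)) = (LP (LK LD1_c6 LD2_c57 LD3_c17)) :=
  Lre_c IH (LK LD1_c3 LD2_c27 LD3_c33) (LK LD1_c6 LD2_c57 LD3_c17) Lrfl Lrfl
theorem f457788 : Led Lsl_gt (LP (LK LD1_c6 LD2_c57 LD3_c16)) = (LP (LK LD1_c3 LD2_c27 LD3_c33)) :=
  Lre_g IH (LK LD1_c6 LD2_c57 LD3_c16) (LK LD1_c3 LD2_c27 LD3_c33) Lrfl Lrfl
theorem f457782 : Led Lsl_dt (LP (LK LD1_c3 LD2_c27 LD3_c33)) = (LP (LK LD1_c1 LD2_c40 LD3_c22)) :=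
  Lre_d IH (LK LD1_c3 LD2_c27 LD3_c33) (LK LD1_c1 LD2_c40 LD3_c22) Lrfl Lrfl
theorem f460427 : Led Lsl_ct (LP (LK LD1_c3 LD2_c52 LD3_c20)) = (LP (LK LD1_c7 LD2_c3 LD3_c56)) :=
  Lgr Lrot59 (Lpr_cf (K24.f460415 IH) (Lpn (LP (LK LD1_c7 LD2_c3 LD3_c56))))
theorem f87986 : Led Lsl_ct (LP (LK LD1_c3 LD2_c48 LD3_c29)) = (LP (LK LD1_c7 LD2_c37 LD3_c60)) :=
  Lre_c IH (LK LD1_c3 LD2_c48 LD3_c29) (LK LD1_c7 LD2_c37 LD3_c60) Lrfl Lrfl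
theorem f461303 : Led Lsl_gt (LP (LK LD1_c3 LD2_c53 LD3_c0)) = (LP (LK LD1_c7 LD2_c3 LD3_c21)) :=
  Lgr Lrot150 (Lpr_cf (f461254 IH) (Lpe (f64994 IH) (Lpe (f460567 IH) (Lpr_gt (f460445 IH) (Lpr_ct (f460427 IH) (Lpe (K24.f460129 IH) (Lpr_ct (f87986 IH) (Lpr_df (K24.f460554 IH) (Lpe (K24.f460553 IH) (Lpn (LP (LK LD1_c7 LD2_c3 LD3_c21))))))))))))
theorem f64671 : Led Lsl_dt (LP (LK LD1_c1 LD2_c53 LD3_c4)) = (LP (LK LD1_c3 LD2_c53 LD3_c0)) :=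
  Lre_d IH (LK LD1_c1 LD2_c53 LD3_c4) (LK LD1_c3 LD2_c53 LD3_c0) Lrfl Lrfl
theorem f459901 : Led Lsl_gt (LP (LK LD1_c3 LD2_c52 LD3_c60)) = (LP (LK LD1_c1 LD2_c53 LD3_c4)) :=
  Lre_g IH (LK LD1_c3 LD2_c52 LD3_c60) (LK LD1_c1 LD2_c53 LD3_c4) Lrfl Lrfl
theorem f461911 : Led Lsl_cf (LP (LK LD1_c6 LD2_c57 LD3_c16)) = (LP (LK LD1_c3 LD2_c52 LD3_c60)) :=
  Lgr Lrot166 (Lpr_gt (f457788 IH) (Lpr_dt (f457782 IH) (Lpr_gt (K24.f457787 IH) (Lpr_dt (K24.f461898 IH) (Lpr_ct (K24.f460545 IH) (Lpe (K28.f460527 IH) (Lpe (f461303 IH) (Lpe (f64671 IH) (Lpe (f459901 IH) (Lpn (LP (LK LD1_c3 LD2_c52 LD3_c60))))))))))))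
theorem f468504 : Led Lsl_gf (LP (LK LD1_c3 LD2_c52 LD3_c60)) = (LP (LK LD1_c1 LD2_c53 LD3_c14)) :=
  Lgr Lrot147 (Lpe (f461911 IH) (Lpr_gt (f457788 IH) (Lpr_ct (f457890 IH) (Lpr_df (f463835 IH) (Lpe (f463923 IH) (Lpr_gf (f468495 IH) (Lpe (K24.f64660 IH) (Lpr_gf (K24.f460583 IH) (Lpe (K24.f129828 IH) (Lpn (LP (LK LD1_c1 LD2_c53 LD3_c14))))))))))))
theorem f474061 : Led Lsl_af (LP (LK LD1_c1 LD2_c53 LD3_c4)) = (LP (LK LD1_c3 LD2_c48 LD3_c4)) :=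
  Lgr Lrot31 (Lpe (f459901 IH) (Lpr_gf (f468504 IH) (Lpr_ft (f474053 IH) (Lpn (LP (LK LD1_c3 LD2_c48 LD3_c4))))))
theorem f474036 : Led Lsl_af (LP (LK LD1_c1 LD2_c53 LD3_c14)) = (LP (LK LD1_c1 LD2_c53 LD3_c1)) :=
  Lgr Lrot0 (Lpr_at (f474034 IH) (Lpn (LP (LK LD1_c1 LD2_c53 LD3_c1))))
theorem f474070 : Led Lsl_ft (LP (LK LD1_c1 LD2_c53 LD3_c4)) = (LP (LK LD1_c1 LD2_c53 LD3_c1)) :=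
  Lgr Lrot101 (Lpr_af (f474061 IH) (Lpe (f474053 IH) (Lpr_af (f474036 IH) (Lpn (LP (LK LD1_c1 LD2_c53 LD3_c1))))))
theorem f473711 : Led Lsl_et (LP (LK LD1_c3 LD2_c53 LD3_c1)) = (LP (LK LD1_c1 LD2_c53 LD3_c4)) :=
  Lre_e IH (LK LD1_c3 LD2_c53 LD3_c1) (LK LD1_c1 LD2_c53 LD3_c4) Lrfl Lrfl
theorem f62994 : Led Lsl_et (LP (LK LD1_c3 LD2_c52 LD3_c42)) = (LP (LK LD1_c1 LD2_c52 LD3_c58)) :=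
  Lre_e IH (LK LD1_c3 LD2_c52 LD3_c42) (LK LD1_c1 LD2_c52 LD3_c58) Lrfl Lrfl
theorem f63006 : Led Lsl_et (LP (LK LD1_c1 LD2_c52 LD3_c59)) = (LP (LK LD1_c0 LD2_c53 LD3_c5)) :=
  Lre_e IH (LK LD1_c1 LD2_c52 LD3_c59) (LK LD1_c0 LD2_c53 LD3_c5) Lrfl Lrfl
theorem f62993 : Led Lsl_et (LP (LK LD1_c1 LD2_c51 LD3_c2)) = (LP (LK LD1_c3 LD2_c48 LD3_c5)) :=
  Lre_e IH (LK LD1_c1 LD2_c51 LD3_c2) (LK LD1_c3 LD2_c48 LD3_c5) Lrfl Lrfl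
theorem f473685 : Led Lsl_ff (LP (LK LD1_c3 LD2_c52 LD3_c42)) = (LP (LK LD1_c3 LD2_c48 LD3_c5)) :=
  Lgr Lrot72 (Lpr_et (f62994 IH) (Lpr_ft (f473674 IH) (Lpr_et (f63006 IH) (Lpr_ft (f459890 IH) (Lpqs (f473656 IH) (Lpr_et (f62993 IH) (Lpn (LP (LK LD1_c3 LD2_c48 LD3_c5)))))))))
theorem f62731 : Led Lsl_bt (LP (LK LD1_c3 LD2_c52 LD3_c42)) = (LP (LK LD1_c1 LD2_c53 LD3_c5)) :=
  Lre_b IH (LK LD1_c3 LD2_c52 LD3_c42) (LK LD1_c1 LD2_c53 LD3_c5) Lrfl Lrfl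
theorem f62983 : Led Lsl_bt (LP (LK LD1_c1 LD2_c51 LD3_c4)) = (LP (LK LD1_c3 LD2_c48 LD3_c5)) :=
  Lre_b IH (LK LD1_c1 LD2_c51 LD3_c4) (LK LD1_c3 LD2_c48 LD3_c5) Lrfl Lrfl
theorem f473689 : Led Lsl_ft (LP (LK LD1_c1 LD2_c53 LD3_c5)) = (LP (LK LD1_c1 LD2_c51 LD3_c4)) :=
  Lgr Lrot75 (Lpe (f62731 IH) (Lpr_ff (f473685 IH) (Lpe (f62983 IH) (Lpn (LP (LK LD1_c1 LD2_c51 LD3_c4))))))
theorem f62729 : Led Lsl_ct (LP (LK LD1_c3 LD2_c53 LD3_c1)) = (LP (LK LD1_c1 LD2_c53 LD3_c5)) :=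
  Lre_c IH (LK LD1_c3 LD2_c53 LD3_c1) (LK LD1_c1 LD2_c53 LD3_c5) Lrfl Lrfl
theorem f62986 : Led Lsl_ct (LP (LK LD1_c1 LD2_c51 LD3_c4)) = (LP (LK LD1_c3 LD2_c48 LD3_c8)) :=
  Lre_c IH (LK LD1_c1 LD2_c51 LD3_c4) (LK LD1_c3 LD2_c48 LD3_c8) Lrfl Lrfl
theorem f473691 : Led Lsl_ff (LP (LK LD1_c3 LD2_c53 LD3_c1)) = (LP (LK LD1_c3 LD2_c48 LD3_c8)) :=
  Lgr Lrot23 (Lpr_ct (f62729 IH) (Lpr_ft (f473689 IH) (Lpr_ct (f62986 IH) (Lpn (LP (LK LD1_c3 LD2_c48 LD3_c8))))))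
theorem f468404 : Led Lsl_et (LP (LK LD1_c1 LD2_c51 LD3_c3)) = (LP (LK LD1_c3 LD2_c48 LD3_c8)) :=
  Lre_e IH (LK LD1_c1 LD2_c51 LD3_c3) (LK LD1_c3 LD2_c48 LD3_c8) Lrfl Lrfl
theorem f474077 : Led Lsl_ff (LP (LK LD1_c1 LD2_c51 LD3_c3)) = (LP (LK LD1_c0 LD2_c53 LD3_c6)) :=
  Lgr Lrot72 (Lpr_et (f468404 IH) (Lpe (f473691 IH) (Lpr_et (f473711 IH) (Lpr_ft (f474070 IH) (Lpr_et (K24.f63034 IH) (Lpn (LP (LK LD1_c0 LD2_c53 LD3_c6))))))))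
theorem f474090 : Led Lsl_ft (LP (LK LD1_c1 LD2_c51 LD3_c3)) = (LP (LK LD1_c0 LD2_c53 LD3_c6)) :=
  Lgr Lrot48 (Lpr_ff (f474077 IH) (Lpn (LP (LK LD1_c0 LD2_c53 LD3_c6))))
theorem f62790 : Led Lsl_dt (LP (LK LD1_c3 LD2_c48 LD3_c7)) = (LP (LK LD1_c1 LD2_c51 LD3_c3)) :=
  Lre_d IH (LK LD1_c3 LD2_c48 LD3_c7) (LK LD1_c1 LD2_c51 LD3_c3) Lrfl Lrfl
theorem f474096 : Led Lsl_ff (LP (LK LD1_c3 LD2_c48 LD3_c7)) = (LP (LK LD1_c1 LD2_c53 LD3_c0)) :=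
  Lgr Lrot19 (Lpr_dt (f62790 IH) (Lpr_ft (f474090 IH) (Lpr_dt (K24.f459897 IH) (Lpn (LP (LK LD1_c1 LD2_c53 LD3_c0))))))
theorem f62988 : Led Lsl_dt (LP (LK LD1_c0 LD2_c23 LD3_c55)) = (LP (LK LD1_c0 LD2_c53 LD3_c7)) :=
  Lre_d IH (LK LD1_c0 LD2_c23 LD3_c55) (LK LD1_c0 LD2_c53 LD3_c7) Lrfl Lrfl
theorem f451122 : Led Lsl_ct (LP (LK LD1_c3 LD2_c53 LD3_c17)) = (LP (LK LD1_c1 LD2_c53 LD3_c12)) :=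
  Lre_c IH (LK LD1_c3 LD2_c53 LD3_c17) (LK LD1_c1 LD2_c53 LD3_c12) Lrfl Lrfl
theorem f88006 : Led Lsl_dt (LP (LK LD1_c1 LD2_c53 LD3_c12)) = (LP (LK LD1_c0 LD2_c53 LD3_c10)) :=
  Lre_d IH (LK LD1_c1 LD2_c53 LD3_c12) (LK LD1_c0 LD2_c53 LD3_c10) Lrfl Lrfl
theorem f461155 : Led Lsl_ct (LP (LK LD1_c3 LD2_c53 LD3_c0)) = (LP (LK LD1_c7 LD2_c2 LD3_c55)) :=
  Lgr Lrot176 (Lpe (f64671 IH) (Lpe (f64652 IH) (Lpe (f62988 IH) (Lpe (K24.f451111 IH) (Lpe (K24.f451116 IH) (Lpe (K24.f451117 IH) (Lpe (K24.f460434 IH) (Lpr_cf (K24.f460506 IH) (Lpe (K24.f129828 IH) (Lpe (K24.f129787 IH) (Lpe (K24.f129662 IH) (Lpe (K24.f87985 IH) (Lpe (f88006 IH) (Lpe (f451122 IH) (Lpr_df (f461150 IH) (Lpn (LP (LK LD1_c7 LD2_c2 LD3_c55))))))))))))))))))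
theorem f474106 : Led Lsl_at (LP (LK LD1_c3 LD2_c48 LD3_c7)) = (LP (LK LD1_c1 LD2_c53 LD3_c12)) :=
  Lgr Lrot33 (Lpr_ff (f474096 IH) (Lpr_dt (K24.f451116 IH) (Lpr_ct (K24.f451111 IH) (Lpr_dt (f62988 IH) (Lpr_ct (f64652 IH) (Lpr_dt (f64671 IH) (Lpr_ct (f461155 IH) (Lpe (f461150 IH) (Lpr_ct (f451122 IH) (Lpn (LP (LK LD1_c1 LD2_c53 LD3_c12))))))))))))
theorem f468401 : Led Lsl_et (LP (LK LD1_c7 LD2_c37 LD3_c22)) = (LP (LK LD1_c3 LD2_c48 LD3_c7)) :=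
  Lre_e IH (LK LD1_c7 LD2_c37 LD3_c22) (LK LD1_c3 LD2_c48 LD3_c7) Lrfl Lrfl
theorem f88021 : Led Lsl_et (LP (LK LD1_c1 LD2_c53 LD3_c12)) = (LP (LK LD1_c3 LD2_c53 LD3_c18)) :=
  Lre_e IH (LK LD1_c1 LD2_c53 LD3_c12) (LK LD1_c3 LD2_c53 LD3_c18) Lrfl Lrfl
theorem f474116 : Led Lsl_af (LP (LK LD1_c7 LD2_c37 LD3_c22)) = (LP (LK LD1_c3 LD2_c53 LD3_c18)) :=
  Lgr Lrot50 (Lpr_et (f468401 IH) (Lpr_at (f474106 IH) (Lpr_et (f88021 IH) (Lpn (LP (LK LD1_c3 LD2_c53 LD3_c18))))))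
theorem f474138 : Led Lsl_ct (LP (LK LD1_c14 LD2_c22 LD3_c15)) = (LP (LK LD1_c7 LD2_c37 LD3_c22)) :=
  Lre_c IH (LK LD1_c14 LD2_c22 LD3_c15) (LK LD1_c7 LD2_c37 LD3_c22) Lrfl Lrfl
theorem f468665 : Led Lsl_dt (LP (LK LD1_c24 LD2_c0 LD3_c25)) = (LP (LK LD1_c14 LD2_c22 LD3_c15)) :=
  Lre_d IH (LK LD1_c24 LD2_c0 LD3_c25) (LK LD1_c14 LD2_c22 LD3_c15) Lrfl Lrfl
theorem f468662 : Led Lsl_ct (LP (LK LD1_c31 LD2_c19 LD3_c11)) = (LP (LK LD1_c24 LD2_c0 LD3_c25)) :=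
  Lre_c IH (LK LD1_c31 LD2_c19 LD3_c11) (LK LD1_c24 LD2_c0 LD3_c25) Lrfl Lrfl
theorem f474139 : Led Lsl_dt (LP (LK LD1_c32 LD2_c56 LD3_c28)) = (LP (LK LD1_c31 LD2_c19 LD3_c11)) :=
  Lre_d IH (LK LD1_c32 LD2_c56 LD3_c28) (LK LD1_c31 LD2_c19 LD3_c11) Lrfl Lrfl
theorem f474133 : Led Lsl_ft (LP (LK LD1_c7 LD2_c48 LD3_c20)) = (LP (LK LD1_c3 LD2_c53 LD3_c18)) :=
  Lre_f IH (LK LD1_c7 LD2_c48 LD3_c20) (LK LD1_c3 LD2_c53 LD3_c18) Lrfl Lrfl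
theorem f474140 : Led Lsl_dt (LP (LK LD1_c7 LD2_c48 LD3_c20)) = (LP (LK LD1_c14 LD2_c43 LD3_c49)) :=
  Lre_d IH (LK LD1_c7 LD2_c48 LD3_c20) (LK LD1_c14 LD2_c43 LD3_c49) Lrfl Lrfl
theorem f474141 : Led Lsl_ct (LP (LK LD1_c14 LD2_c43 LD3_c49)) = (LP (LK LD1_c24 LD2_c29 LD3_c33)) :=
  Lre_c IH (LK LD1_c14 LD2_c43 LD3_c49) (LK LD1_c24 LD2_c29 LD3_c33) Lrfl Lrfl
theorem f474142 : Led Lsl_dt (LP (LK LD1_c24 LD2_c29 LD3_c33)) = (LP (LK LD1_c31 LD2_c32 LD3_c60)) :=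
  Lre_d IH (LK LD1_c24 LD2_c29 LD3_c33) (LK LD1_c31 LD2_c32 LD3_c60) Lrfl Lrfl
theorem f474143 : Led Lsl_cf (LP (LK LD1_c32 LD2_c56 LD3_c28)) = (LP (LK LD1_c31 LD2_c32 LD3_c60)) :=
  Lgr Lrot116 (Lpr_dt (f474139 IH) (Lpr_ct (f468662 IH) (Lpr_dt (f468665 IH) (Lpr_ct (f474138 IH) (Lpr_af (f474116 IH) (Lpe (f474133 IH) (Lpr_dt (f474140 IH) (Lpr_ct (f474141 IH) (Lpr_dt (f474142 IH) (Lpn (LP (LK LD1_c31 LD2_c32 LD3_c60))))))))))))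
theorem f474147 : Led Lsl_ct (LP (LK LD1_c14 LD2_c43 LD3_c39)) = (LP (LK LD1_c7 LD2_c48 LD3_c20)) :=
  Lre_c IH (LK LD1_c14 LD2_c43 LD3_c39) (LK LD1_c7 LD2_c48 LD3_c20) Lrfl Lrfl
theorem f474148 : Led Lsl_dt (LP (LK LD1_c24 LD2_c29 LD3_c18)) = (LP (LK LD1_c14 LD2_c43 LD3_c39)) :=
  Lre_d IH (LK LD1_c24 LD2_c29 LD3_c18) (LK LD1_c14 LD2_c43 LD3_c39) Lrfl Lrfl
theorem f461214 : Led Lsl_ft (LP (LK LD1_c24 LD2_c29 LD3_c18)) = (LP (LK LD1_c14 LD2_c43 LD3_c38)) :=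
  Lre_f IH (LK LD1_c24 LD2_c29 LD3_c18) (LK LD1_c14 LD2_c43 LD3_c38) Lrfl Lrfl
theorem f474155 : Led Lsl_af (LP (LK LD1_c24 LD2_c0 LD3_c25)) = (LP (LK LD1_c14 LD2_c43 LD3_c38)) :=
  Lgr Lrot109 (Lpe (f468662 IH) (Lpe (f474139 IH) (Lpr_cf (f474143 IH) (Lpe (f474142 IH) (Lpe (f474141 IH) (Lpe (f474140 IH) (Lpe (f474147 IH) (Lpe (f474148 IH) (Lpr_ft (f461214 IH) (Lpn (LP (LK LD1_c14 LD2_c43 LD3_c38))))))))))))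
theorem f468641 : Led Lsl_df (LP (LK LD1_c7 LD2_c32 LD3_c9)) = (LP (LK LD1_c3 LD2_c48 LD3_c4)) :=
  Lgr Lrot155 (Lpr_gt (f461010 IH) (Lpr_ct (f468620 IH) (Lpr_gt (f468637 IH) (Lpr_ct (K24.f64991 IH) (Lpe (K24.f64979 IH) (Lpe (f457906 IH) (Lpe (f457908 IH) (Lpe (f463709 IH) (Lpe (f468639 IH) (Lpn (LP (LK LD1_c3 LD2_c48 LD3_c4))))))))))))
theorem f129799 : Led Lsl_ct (LP (LK LD1_c1 LD2_c51 LD3_c1)) = (LP (LK LD1_c3 LD2_c48 LD3_c4)) :=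
  Lre_c IH (LK LD1_c1 LD2_c51 LD3_c1) (LK LD1_c3 LD2_c48 LD3_c4) Lrfl Lrfl
theorem f62792 : Led Lsl_ct (LP (LK LD1_c1 LD2_c51 LD3_c3)) = (LP (LK LD1_c0 LD2_c52 LD3_c23)) :=
  Lre_c IH (LK LD1_c1 LD2_c51 LD3_c3) (LK LD1_c0 LD2_c52 LD3_c23) Lrfl Lrfl
theorem f63012 : Led Lsl_ct (LP (LK LD1_c7 LD2_c37 LD3_c21)) = (LP (LK LD1_c3 LD2_c48 LD3_c7)) :=
  Lre_c IH (LK LD1_c7 LD2_c37 LD3_c21) (LK LD1_c3 LD2_c48 LD3_c7) Lrfl Lrfl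
theorem f468644 : Led Lsl_dt (LP (LK LD1_c13 LD2_c17 LD3_c5)) = (LP (LK LD1_c7 LD2_c37 LD3_c21)) :=
  Lgr Lrot173 (Lpe (f460227 IH) (Lpr_df (f468641 IH) (Lpe (f129799 IH) (Lpe (f129653 IH) (Lpe (K24.f129788 IH) (Lpe (K24.f129854 IH) (Lpe (K24.f459728 IH) (Lpr_df (K24.f459729 IH) (Lpe (K24.f63015 IH) (Lpe (K24.f63014 IH) (Lpe (K24.f63013 IH) (Lpe (K24.f62783 IH) (Lpe (f62792 IH) (Lpe (f62790 IH) (Lpe (f63012 IH) (Lpn (LP (LK LD1_c7 LD2_c37 LD3_c21))))))))))))))))))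
theorem f460274 : Led Lsl_et (LP (LK LD1_c22 LD2_c32 LD3_c47)) = (LP (LK LD1_c13 LD2_c17 LD3_c5)) :=
  Lre_e IH (LK LD1_c22 LD2_c32 LD3_c47) (LK LD1_c13 LD2_c17 LD3_c5) Lrfl Lrfl
theorem f460271 : Led Lsl_dt (LP (LK LD1_c30 LD2_c34 LD3_c5)) = (LP (LK LD1_c22 LD2_c32 LD3_c47)) :=
  Lre_d IH (LK LD1_c30 LD2_c34 LD3_c5) (LK LD1_c22 LD2_c32 LD3_c47) Lrfl Lrfl
theorem f468648 : Led Lsl_et (LP (LK LD1_c7 LD2_c37 LD3_c21)) = (LP (LK LD1_c14 LD2_c22 LD3_c15)) :=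
  Lre_e IH (LK LD1_c7 LD2_c37 LD3_c21) (LK LD1_c14 LD2_c22 LD3_c15) Lrfl Lrfl
theorem f468649 : Led Lsl_dt (LP (LK LD1_c14 LD2_c22 LD3_c15)) = (LP (LK LD1_c24 LD2_c0 LD3_c25)) :=
  Lre_d IH (LK LD1_c14 LD2_c22 LD3_c15) (LK LD1_c24 LD2_c0 LD3_c25) Lrfl Lrfl
theorem f468650 : Led Lsl_ef (LP (LK LD1_c30 LD2_c34 LD3_c5)) = (LP (LK LD1_c24 LD2_c0 LD3_c25)) :=
  Lgr Lrot73 (Lpr_dt (f460271 IH) (Lpr_et (f460274 IH) (Lpr_dt (f468644 IH) (Lpr_et (f468648 IH) (Lpr_dt (f468649 IH) (Lpn (LP (LK LD1_c24 LD2_c0 LD3_c25))))))))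
theorem f461159 : Led Lsl_et (LP (LK LD1_c3 LD2_c53 LD3_c17)) = (LP (LK LD1_c7 LD2_c48 LD3_c16)) :=
  Lre_e IH (LK LD1_c3 LD2_c53 LD3_c17) (LK LD1_c7 LD2_c48 LD3_c16) Lrfl Lrfl
theorem f461160 : Led Lsl_dt (LP (LK LD1_c7 LD2_c48 LD3_c16)) = (LP (LK LD1_c14 LD2_c43 LD3_c38)) :=
  Lre_d IH (LK LD1_c7 LD2_c48 LD3_c16) (LK LD1_c14 LD2_c43 LD3_c38) Lrfl Lrfl
theorem f461161 : Led Lsl_et (LP (LK LD1_c13 LD2_c22 LD3_c5)) = (LP (LK LD1_c7 LD2_c2 LD3_c55)) :=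
  Lre_e IH (LK LD1_c13 LD2_c22 LD3_c5) (LK LD1_c7 LD2_c2 LD3_c55) Lrfl Lrfl
theorem f461162 : Led Lsl_dt (LP (LK LD1_c22 LD2_c39 LD3_c10)) = (LP (LK LD1_c13 LD2_c22 LD3_c5)) :=
  Lre_d IH (LK LD1_c22 LD2_c39 LD3_c10) (LK LD1_c13 LD2_c22 LD3_c5) Lrfl Lrfl
theorem f461163 : Led Lsl_et (LP (LK LD1_c14 LD2_c43 LD3_c38)) = (LP (LK LD1_c22 LD2_c39 LD3_c10)) :=
  Lgr Lrot71 (Lpe (f461160 IH) (Lpe (f461159 IH) (Lpr_df (f461150 IH) (Lpe (f461161 IH) (Lpe (f461162 IH) (Lpn (LP (LK LD1_c22 LD2_c39 LD3_c10))))))))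
theorem f461212 : Led Lsl_ef (LP (LK LD1_c14 LD2_c43 LD3_c38)) = (LP (LK LD1_c22 LD2_c39 LD3_c10)) :=
  Lgr Lrot88 (Lpr_et (f461163 IH) (Lpn (LP (LK LD1_c22 LD2_c39 LD3_c10))))
theorem f474163 : Led Lsl_at (LP (LK LD1_c30 LD2_c34 LD3_c5)) = (LP (LK LD1_c22 LD2_c39 LD3_c10)) :=
  Lgr Lrot80 (Lpr_ef (f468650 IH) (Lpr_af (f474155 IH) (Lpr_ef (f461212 IH) (Lpn (LP (LK LD1_c22 LD2_c39 LD3_c10))))))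
theorem f460272 : Led Lsl_dt (LP (LK LD1_c22 LD2_c32 LD3_c47)) = (LP (LK LD1_c30 LD2_c34 LD3_c5)) :=
  Lre_d IH (LK LD1_c22 LD2_c32 LD3_c47) (LK LD1_c30 LD2_c34 LD3_c5) Lrfl Lrfl
theorem f474167 : Led Lsl_af (LP (LK LD1_c22 LD2_c32 LD3_c47)) = (LP (LK LD1_c13 LD2_c22 LD3_c5)) :=
  Lgr Lrot117 (Lpr_dt (f460272 IH) (Lpr_at (f474163 IH) (Lpr_dt (f461162 IH) (Lpn (LP (LK LD1_c13 LD2_c22 LD3_c5))))))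
theorem f461176 : Led Lsl_et (LP (LK LD1_c7 LD2_c2 LD3_c55)) = (LP (LK LD1_c13 LD2_c22 LD3_c5)) :=
  Lre_e IH (LK LD1_c7 LD2_c2 LD3_c55) (LK LD1_c13 LD2_c22 LD3_c5) Lrfl Lrfl
theorem f474173 : Led Lsl_at (LP (LK LD1_c13 LD2_c17 LD3_c5)) = (LP (LK LD1_c7 LD2_c2 LD3_c55)) :=
  Lgr Lrot80 (Lpe (f460274 IH) (Lpr_af (f474167 IH) (Lpe (f461176 IH) (Lpn (LP (LK LD1_c7 LD2_c2 LD3_c55))))))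
theorem f474177 : Led Lsl_ff (LP (LK LD1_c13 LD2_c17 LD3_c5)) = (LP (LK LD1_c7 LD2_c2 LD3_c56)) :=
  Lgr Lrot52 (Lpr_at (f474173 IH) (Lpe (f64994 IH) (Lpe (K24.f425692 IH) (Lpn (LP (LK LD1_c7 LD2_c2 LD3_c56))))))
theorem f474179 : Led Lsl_ft (LP (LK LD1_c13 LD2_c17 LD3_c5)) = (LP (LK LD1_c7 LD2_c2 LD3_c56)) :=
  Lgr Lrot48 (Lpr_ff (f474177 IH) (Lpn (LP (LK LD1_c7 LD2_c2 LD3_c56))))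
theorem f91736 : Led Lsl_gt (LP (LK LD1_c7 LD2_c37 LD3_c3)) = (LP (LK LD1_c3 LD2_c47 LD3_c60)) :=
  Lre_g IH (LK LD1_c7 LD2_c37 LD3_c3) (LK LD1_c3 LD2_c47 LD3_c60) Lrfl Lrfl
theorem f129824 : Led Lsl_dt (LP (LK LD1_c1 LD2_c51 LD3_c0)) = (LP (LK LD1_c3 LD2_c48 LD3_c3)) :=
  Lre_d IH (LK LD1_c1 LD2_c51 LD3_c0) (LK LD1_c3 LD2_c48 LD3_c3) Lrfl Lrfl
theorem f468630 : Led Lsl_gt (LP (LK LD1_c7 LD2_c2 LD3_c59)) = (LP (LK LD1_c7 LD2_c47 LD3_c42)) :=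
  Lgr Lrot189 (Lpe (f91735 IH) (Lpe (f91736 IH) (Lpr_ct (f468622 IH) (Lpe (K24.f460701 IH) (Lpr_dt (K5.f103953 IH) (Lpr_gt (K24.f460592 IH) (Lpr_dt (f129824 IH) (Lpr_ct (f459739 IH) (Lpr_df (K24.f459729 IH) (Lpn (LP (LK LD1_c7 LD2_c47 LD3_c42))))))))))))
theorem f474183 : Led Lsl_af (LP (LK LD1_c7 LD2_c47 LD3_c42)) = (LP (LK LD1_c7 LD2_c2 LD3_c56)) :=
  Lgr Lrot31 (Lpe (f468630 IH) (Lpe (f63674 IH) (Lpr_ft (f474179 IH) (Lpn (LP (LK LD1_c7 LD2_c2 LD3_c56))))))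
theorem f474175 : Led Lsl_af (LP (LK LD1_c13 LD2_c17 LD3_c5)) = (LP (LK LD1_c7 LD2_c2 LD3_c55)) :=
  Lgr Lrot0 (Lpr_at (f474173 IH) (Lpn (LP (LK LD1_c7 LD2_c2 LD3_c55))))
theorem f474191 : Led Lsl_ft (LP (LK LD1_c7 LD2_c47 LD3_c42)) = (LP (LK LD1_c7 LD2_c2 LD3_c55)) :=
  Lgr Lrot101 (Lpr_af (f474183 IH) (Lpe (f474179 IH) (Lpr_af (f474175 IH) (Lpn (LP (LK LD1_c7 LD2_c2 LD3_c55))))))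
theorem f459735 : Led Lsl_dt (LP (LK LD1_c7 LD2_c37 LD3_c14)) = (LP (LK LD1_c7 LD2_c47 LD3_c42)) :=
  Lgr Lrot42 (Lpr_df (K24.f459729 IH) (Lpn (LP (LK LD1_c7 LD2_c47 LD3_c42))))
theorem f474197 : Led Lsl_ff (LP (LK LD1_c7 LD2_c37 LD3_c14)) = (LP (LK LD1_c3 LD2_c53 LD3_c17)) :=
  Lgr Lrot19 (Lpr_dt (f459735 IH) (Lpr_ft (f474191 IH) (Lpe (f461150 IH) (Lpn (LP (LK LD1_c3 LD2_c53 LD3_c17))))))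
theorem f474187 : Led Lsl_at (LP (LK LD1_c7 LD2_c37 LD3_c14)) = (LP (LK LD1_c3 LD2_c52 LD3_c53)) :=
  Lgr Lrot51 (Lpr_df (K24.f459729 IH) (Lpr_af (f474183 IH) (Lpr_df (f460502 IH) (Lpn (LP (LK LD1_c3 LD2_c52 LD3_c53))))))
theorem f459859 : Led Lsl_gt (LP (LK LD1_c3 LD2_c51 LD3_c61)) = (LP (LK LD1_c1 LD2_c52 LD3_c41)) :=
  Lre_g IH (LK LD1_c3 LD2_c51 LD3_c61) (LK LD1_c1 LD2_c52 LD3_c41) Lrfl Lrfl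
theorem f459860 : Led Lsl_ct (LP (LK LD1_c7 LD2_c45 LD3_c49)) = (LP (LK LD1_c3 LD2_c51 LD3_c61)) :=
  Lre_c IH (LK LD1_c7 LD2_c45 LD3_c49) (LK LD1_c3 LD2_c51 LD3_c61) Lrfl Lrfl
theorem f461165 : Led Lsl_gt (LP (LK LD1_c3 LD2_c53 LD3_c17)) = (LP (LK LD1_c7 LD2_c45 LD3_c49)) :=
  Lgr Lrot9 (Lpr_df (f461150 IH) (Lpr_gt (f156652 IH) (Lpr_ct (f156644 IH) (Lpr_gt (K1.f64971 IH) (Lpr_ct (f64978 IH) (Lpe (K24.f459851 IH) (Lpe (K24.f459850 IH) (Lpe (f459859 IH) (Lpe (f459860 IH) (Lpn (LP (LK LD1_c7 LD2_c45 LD3_c49))))))))))))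
theorem f476318 : Led Lsl_gf (LP (LK LD1_c3 LD2_c52 LD3_c53)) = (LP (LK LD1_c7 LD2_c45 LD3_c49)) :=
  Lgr Lrot76 (Lpe (f474187 IH) (Lpr_ff (f474197 IH) (Lpr_gt (f461165 IH) (Lpn (LP (LK LD1_c7 LD2_c45 LD3_c49))))))
theorem f461190 : Led Lsl_ct (LP (LK LD1_c3 LD2_c51 LD3_c61)) = (LP (LK LD1_c7 LD2_c45 LD3_c49)) :=
  Lre_c IH (LK LD1_c3 LD2_c51 LD3_c61) (LK LD1_c7 LD2_c45 LD3_c49) Lrfl Lrfl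
theorem f476320 : Led Lsl_gt (LP (LK LD1_c1 LD2_c52 LD3_c45)) = (LP (LK LD1_c3 LD2_c51 LD3_c61)) :=
  Lgr Lrot9 (Lpe (f14878 IH) (Lpr_gt (K24.f443237 IH) (Lpr_ct (K28.f451106 IH) (Lpr_gt (K1.f62722 IH) (Lpr_ct (K24.f451114 IH) (Lpe (K24.f451116 IH) (Lpe (K24.f451117 IH) (Lpr_gf (f476318 IH) (Lpe (f461190 IH) (Lpn (LP (LK LD1_c3 LD2_c51 LD3_c61))))))))))))
theorem f12135 : Led Lsl_bt (LP (LK LD1_c3 LD2_c31 LD3_c36)) = (LP (LK LD1_c1 LD2_c42 LD3_c22)) :=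
  Lre_b IH (LK LD1_c3 LD2_c31 LD3_c36) (LK LD1_c1 LD2_c42 LD3_c22) Lrfl Lrfl
theorem f473968 : Led Lsl_df (LP (LK LD1_c3 LD2_c31 LD3_c36)) = (LP (LK LD1_c1 LD2_c53 LD3_c3)) :=
  Lgr Lrot12 (Lpr_bt (f12135 IH) (Lpe (K24.f12131 IH) (Lpr_bt (f473962 IH) (Lpn (LP (LK LD1_c1 LD2_c53 LD3_c3))))))
theorem f455722 : Led Lsl_ct (LP (LK LD1_c3 LD2_c31 LD3_c36)) = (LP (LK LD1_c7 LD2_c4 LD3_c50)) :=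
  Lre_c IH (LK LD1_c3 LD2_c31 LD3_c36) (LK LD1_c7 LD2_c4 LD3_c50) Lrfl Lrfl
theorem f476323 : Led Lsl_df (LP (LK LD1_c7 LD2_c4 LD3_c50)) = (LP (LK LD1_c3 LD2_c51 LD3_c61)) :=
  Lgr Lrot84 (Lpe (f455722 IH) (Lpr_df (f473968 IH) (Lpe (f473960 IH) (Lpe (K24.f129662 IH) (Lpe (K5.f64662 IH) (Lpe (K28.f14864 IH) (Lpr_gt (K28.f14877 IH) (Lpr_dt (f14878 IH) (Lpr_gt (f476320 IH) (Lpn (LP (LK LD1_c3 LD2_c51 LD3_c61))))))))))))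
theorem f477181 : Led Lsl_gf (LP (LK LD1_c7 LD2_c3 LD3_c2)) = (LP (LK LD1_c7 LD2_c4 LD3_c50)) :=
  Lgr Lrot143 (Lpe (K24.f64999 IH) (Lpe (f443335 IH) (Lpr_df (f468524 IH) (Lpe (f468537 IH) (Lpr_df (f477176 IH) (Lpr_gf (f468821 IH) (Lpe (f14879 IH) (Lpr_gt (f476320 IH) (Lpe (f476323 IH) (Lpn (LP (LK LD1_c7 LD2_c4 LD3_c50))))))))))))
theorem f459858 : Led Lsl_gt (LP (LK LD1_c3 LD2_c52 LD3_c0)) = (LP (LK LD1_c7 LD2_c45 LD3_c51)) :=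
  Lre_g IH (LK LD1_c3 LD2_c52 LD3_c0) (LK LD1_c7 LD2_c45 LD3_c51) Lrfl Lrfl
theorem f474199 : Led Lsl_ff (LP (LK LD1_c7 LD2_c47 LD3_c42)) = (LP (LK LD1_c7 LD2_c2 LD3_c55)) :=
  Lgr Lrot3 (Lpr_ft (f474191 IH) (Lpn (LP (LK LD1_c7 LD2_c2 LD3_c55))))
theorem f474203 : Led Lsl_ft (LP (LK LD1_c7 LD2_c37 LD3_c14)) = (LP (LK LD1_c3 LD2_c53 LD3_c17)) :=
  Lgr Lrot54 (Lpr_df (K24.f459729 IH) (Lpr_ff (f474199 IH) (Lpe (f461157 IH) (Lpn (LP (LK LD1_c3 LD2_c53 LD3_c17))))))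
theorem f474209 : Led Lsl_ff (LP (LK LD1_c3 LD2_c48 LD3_c3)) = (LP (LK LD1_c1 LD2_c53 LD3_c12)) :=
  Lgr Lrot23 (Lpr_ct (f459739 IH) (Lpr_ft (f474203 IH) (Lpr_ct (f451122 IH) (Lpn (LP (LK LD1_c1 LD2_c53 LD3_c12))))))
theorem f474218 : Led Lsl_ft (LP (LK LD1_c3 LD2_c48 LD3_c3)) = (LP (LK LD1_c1 LD2_c53 LD3_c12)) :=
  Lgr Lrot48 (Lpr_ff (f474209 IH) (Lpn (LP (LK LD1_c1 LD2_c53 LD3_c12))))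
theorem f129849 : Led Lsl_gt (LP (LK LD1_c3 LD2_c48 LD3_c3)) = (LP (LK LD1_c7 LD2_c37 LD3_c12)) :=
  Lre_g IH (LK LD1_c3 LD2_c48 LD3_c3) (LK LD1_c7 LD2_c37 LD3_c12) Lrfl Lrfl
theorem f474108 : Led Lsl_af (LP (LK LD1_c3 LD2_c48 LD3_c7)) = (LP (LK LD1_c1 LD2_c53 LD3_c12)) :=
  Lgr Lrot0 (Lpr_at (f474106 IH) (Lpn (LP (LK LD1_c1 LD2_c53 LD3_c12))))
theorem f474227 : Led Lsl_gt (LP (LK LD1_c7 LD2_c37 LD3_c12)) = (LP (LK LD1_c3 LD2_c48 LD3_c7)) :=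
  Lgr Lrot46 (Lpe (f129849 IH) (Lpr_ft (f474218 IH) (Lpe (f474108 IH) (Lpn (LP (LK LD1_c3 LD2_c48 LD3_c7))))))
theorem f62779 : Led Lsl_ct (LP (LK LD1_c3 LD2_c48 LD3_c7)) = (LP (LK LD1_c7 LD2_c37 LD3_c21)) :=
  Lre_c IH (LK LD1_c3 LD2_c48 LD3_c7) (LK LD1_c7 LD2_c37 LD3_c21) Lrfl Lrfl
theorem f474229 : Led Lsl_cf (LP (LK LD1_c7 LD2_c37 LD3_c12)) = (LP (LK LD1_c7 LD2_c45 LD3_c51)) :=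
  Lgr Lrot169 (Lpr_gt (f474227 IH) (Lpr_ct (f62779 IH) (Lpe (f468644 IH) (Lpe (f460227 IH) (Lpe (f460084 IH) (Lpe (K24.f92405 IH) (Lpe (f468358 IH) (Lpe (K24.f459851 IH) (Lpr_gt (f459858 IH) (Lpn (LP (LK LD1_c7 LD2_c45 LD3_c51))))))))))))
theorem f96180 : Led Lsl_et (LP (LK LD1_c0 LD2_c47 LD3_c17)) = (LP (LK LD1_c1 LD2_c41 LD3_c28)) :=
  Lre_e IH (LK LD1_c0 LD2_c47 LD3_c17) (LK LD1_c1 LD2_c41 LD3_c28) Lrfl Lrfl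
theorem f103961 : Led Lsl_gt (LP (LK LD1_c3 LD2_c29 LD3_c28)) = (LP (LK LD1_c1 LD2_c41 LD3_c28)) :=
  Lre_g IH (LK LD1_c3 LD2_c29 LD3_c28) (LK LD1_c1 LD2_c41 LD3_c28) Lrfl Lrfl
theorem f103962 : Led Lsl_et (LP (LK LD1_c7 LD2_c0 LD3_c36)) = (LP (LK LD1_c3 LD2_c29 LD3_c28)) :=
  Lre_e IH (LK LD1_c7 LD2_c0 LD3_c36) (LK LD1_c3 LD2_c29 LD3_c28) Lrfl Lrfl
theorem f460598 : Led Lsl_dt (LP (LK LD1_c7 LD2_c0 LD3_c36)) = (LP (LK LD1_c7 LD2_c37 LD3_c12)) :=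
  Lgr Lrot56 (Lpr_et (f103962 IH) (Lpr_gt (f103961 IH) (Lpe (f96180 IH) (Lpr_dt (K3.f17799 IH) (Lpr_gt (K3.f17798 IH) (Lpe (K3.f103946 IH) (Lpr_et (K5.f103960 IH) (Lpr_gt (K24.f460592 IH) (Lpr_dt (f129824 IH) (Lpr_gt (f129849 IH) (Lpn (LP (LK LD1_c7 LD2_c37 LD3_c12)))))))))))))
theorem f65931 : Led Lsl_et (LP (LK LD1_c0 LD2_c44 LD3_c1)) = (LP (LK LD1_c1 LD2_c34 LD3_c39)) :=
  Lre_e IH (LK LD1_c0 LD2_c44 LD3_c1) (LK LD1_c1 LD2_c34 LD3_c39) Lrfl Lrfl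
theorem f65929 : Led Lsl_gt (LP (LK LD1_c3 LD2_c15 LD3_c49)) = (LP (LK LD1_c1 LD2_c34 LD3_c39)) :=
  Lre_g IH (LK LD1_c3 LD2_c15 LD3_c49) (LK LD1_c1 LD2_c34 LD3_c39) Lrfl Lrfl
theorem f104111 : Led Lsl_et (LP (LK LD1_c6 LD2_c34 LD3_c56)) = (LP (LK LD1_c3 LD2_c15 LD3_c49)) :=
  Lre_e IH (LK LD1_c6 LD2_c34 LD3_c56) (LK LD1_c3 LD2_c15 LD3_c49) Lrfl Lrfl
theorem f459869 : Led Lsl_dt (LP (LK LD1_c1 LD2_c52 LD3_c40)) = (LP (LK LD1_c3 LD2_c51 LD3_c58)) :=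
  Lre_d IH (LK LD1_c1 LD2_c52 LD3_c40) (LK LD1_c3 LD2_c51 LD3_c58) Lrfl Lrfl
theorem f463711 : Led Lsl_cf (LP (LK LD1_c3 LD2_c52 LD3_c55)) = (LP (LK LD1_c6 LD2_c57 LD3_c19)) :=
  Lgr Lrot166 (Lpr_gt (f62793 IH) (Lpr_dt (K24.f63014 IH) (Lpe (K24.f459921 IH) (Lpr_dt (f92404 IH) (Lpr_ct (K4.f92355 IH) (Lpr_df (K28.f440179 IH) (Lpr_gf (K28.f463707 IH) (Lpr_df (K24.f457977 IH) (Lpe (f457908 IH) (Lpn (LP (LK LD1_c6 LD2_c57 LD3_c19))))))))))))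
theorem f459841 : Led Lsl_dt (LP (LK LD1_c3 LD2_c51 LD3_c58)) = (LP (LK LD1_c1 LD2_c52 LD3_c40)) :=
  Lre_d IH (LK LD1_c3 LD2_c51 LD3_c58) (LK LD1_c1 LD2_c52 LD3_c40) Lrfl Lrfl
theorem f464799 : Led Lsl_gf (LP (LK LD1_c6 LD2_c57 LD3_c19)) = (LP (LK LD1_c3 LD2_c51 LD3_c58)) :=
  Lgr Lrot147 (Lpe (f463711 IH) (Lpr_gt (f62793 IH) (Lpr_ct (K24.f62780 IH) (Lpe (K24.f62783 IH) (Lpe (f62792 IH) (Lpe (K28.f464142 IH) (Lpr_cf (K28.f464788 IH) (Lpe (K28.f458478 IH) (Lpe (f459841 IH) (Lpn (LP (LK LD1_c3 LD2_c51 LD3_c58))))))))))))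
theorem f464845 : Led Lsl_dt (LP (LK LD1_c6 LD2_c34 LD3_c56)) = (LP (LK LD1_c6 LD2_c57 LD3_c19)) :=
  Lgr Lrot56 (Lpr_et (f104111 IH) (Lpr_gt (f65929 IH) (Lpe (f65931 IH) (Lpr_dt (K3.f62961 IH) (Lpe (K3.f104100 IH) (Lpr_df (K3.f107188 IH) (Lpr_et (K28.f107195 IH) (Lpr_gt (K28.f464834 IH) (Lpr_dt (f459869 IH) (Lpe (f464799 IH) (Lpn (LP (LK LD1_c6 LD2_c57 LD3_c19)))))))))))))
theorem f464850 : Led Lsl_df (LP (LK LD1_c6 LD2_c34 LD3_c56)) = (LP (LK LD1_c6 LD2_c57 LD3_c19)) :=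
  Lgr Lrot38 (Lpr_dt (f464845 IH) (Lpn (LP (LK LD1_c6 LD2_c57 LD3_c19))))
theorem f460605 : Led Lsl_df (LP (LK LD1_c7 LD2_c0 LD3_c36)) = (LP (LK LD1_c7 LD2_c37 LD3_c12)) :=
  Lgr Lrot38 (Lpr_dt (f460598 IH) (Lpn (LP (LK LD1_c7 LD2_c37 LD3_c12))))
theorem f464855 : Led Lsl_ct (LP (LK LD1_c6 LD2_c34 LD3_c56)) = (LP (LK LD1_c7 LD2_c0 LD3_c36)) :=
  Lgr Lrot7 (Lpr_df (f464850 IH) (Lpr_gf (f464799 IH) (Lpe (f459869 IH) (Lpe (K28.f464834 IH) (Lpe (K5.f128081 IH) (Lpr_gt (K24.f460592 IH) (Lpr_dt (f129824 IH) (Lpr_gt (f129849 IH) (Lpe (f460605 IH) (Lpn (LP (LK LD1_c7 LD2_c0 LD3_c36))))))))))))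
theorem f477185 : Led Lsl_gt (LP (LK LD1_c7 LD2_c12 LD3_c26)) = (LP (LK LD1_c6 LD2_c34 LD3_c56)) :=
  Lgr Lrot150 (Lpe (K24.f461811 IH) (Lpr_gf (f477181 IH) (Lpr_df (f476323 IH) (Lpr_gt (f459859 IH) (Lpr_ct (K24.f459850 IH) (Lpr_gt (f459858 IH) (Lpe (f474229 IH) (Lpe (f460598 IH) (Lpe (f464855 IH) (Lpn (LP (LK LD1_c6 LD2_c34 LD3_c56))))))))))))
theorem f477191 : Led Lsl_gf (LP (LK LD1_c3 LD2_c30 LD3_c45)) = (LP (LK LD1_c7 LD2_c0 LD3_c36)) :=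
  Lgr Lrot104 (Lpr_ct (K5.f87979 IH) (Lpe (K5.f87980 IH) (Lpe (K24.f455538 IH) (Lpe (f460585 IH) (Lpe (K5.f109303 IH) (Lpe (K24.f108772 IH) (Lpe (K24.f440181 IH) (Lpr_gt (f477185 IH) (Lpr_ct (f464855 IH) (Lpn (LP (LK LD1_c7 LD2_c0 LD3_c36))))))))))))
theorem f443498 : Led Lsl_gt (LP (LK LD1_c1 LD2_c41 LD3_c57)) = (LP (LK LD1_c3 LD2_c30 LD3_c44)) :=
  Lre_g IH (LK LD1_c1 LD2_c41 LD3_c57) (LK LD1_c3 LD2_c30 LD3_c44) Lrfl Lrfl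
theorem f443502 : Led Lsl_ct (LP (LK LD1_c3 LD2_c30 LD3_c44)) = (LP (LK LD1_c7 LD2_c3 LD3_c31)) :=
  Lre_c IH (LK LD1_c3 LD2_c30 LD3_c44) (LK LD1_c7 LD2_c3 LD3_c31) Lrfl Lrfl
theorem f463961 : Led Lsl_gt (LP (LK LD1_c13 LD2_c22 LD3_c47)) = (LP (LK LD1_c7 LD2_c45 LD3_c59)) :=
  Lgr Lrot5 (Lpe (K24.f460565 IH) (Lpr_at (K24.f109311 IH) (Lpr_gf (f463950 IH) (Lpn (LP (LK LD1_c7 LD2_c45 LD3_c59))))))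
theorem f63934 : Led Lsl_dt (LP (LK LD1_c1 LD2_c50 LD3_c59)) = (LP (LK LD1_c0 LD2_c52 LD3_c21)) :=
  Lre_d IH (LK LD1_c1 LD2_c50 LD3_c59) (LK LD1_c0 LD2_c52 LD3_c21) Lrfl Lrfl
theorem f14966 : Led Lsl_dt (LP (LK LD1_c1 LD2_c50 LD3_c57)) = (LP (LK LD1_c3 LD2_c47 LD3_c52)) :=
  Lre_d IH (LK LD1_c1 LD2_c50 LD3_c57) (LK LD1_c3 LD2_c47 LD3_c52) Lrfl Lrfl
theorem f14967 : Led Lsl_ct (LP (LK LD1_c3 LD2_c47 LD3_c52)) = (LP (LK LD1_c7 LD2_c36 LD3_c51)) :=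
  Lre_c IH (LK LD1_c3 LD2_c47 LD3_c52) (LK LD1_c7 LD2_c36 LD3_c51) Lrfl Lrfl
theorem f463968 : Led Lsl_df (LP (LK LD1_c7 LD2_c36 LD3_c51)) = (LP (LK LD1_c7 LD2_c45 LD3_c59)) :=
  Lgr Lrot84 (Lpe (f14967 IH) (Lpe (f14966 IH) (Lpe (K1.f14965 IH) (Lpe (f63934 IH) (Lpe (f63949 IH) (Lpe (f443335 IH) (Lpe (f463737 IH) (Lpr_dt (f460559 IH) (Lpr_gt (f463961 IH) (Lpn (LP (LK LD1_c7 LD2_c45 LD3_c59))))))))))))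
theorem f463973 : Led Lsl_dt (LP (LK LD1_c7 LD2_c36 LD3_c51)) = (LP (LK LD1_c7 LD2_c45 LD3_c59)) :=
  Lgr Lrot42 (Lpr_df (f463968 IH) (Lpn (LP (LK LD1_c7 LD2_c45 LD3_c59))))
theorem f443453 : Led Lsl_gt (LP (LK LD1_c7 LD2_c36 LD3_c50)) = (LP (LK LD1_c3 LD2_c47 LD3_c52)) :=
  Lre_g IH (LK LD1_c7 LD2_c36 LD3_c50) (LK LD1_c3 LD2_c47 LD3_c52) Lrfl Lrfl
theorem f463978 : Led Lsl_ct (LP (LK LD1_c14 LD2_c21 LD3_c17)) = (LP (LK LD1_c7 LD2_c36 LD3_c50)) :=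
  Lre_c IH (LK LD1_c14 LD2_c21 LD3_c17) (LK LD1_c7 LD2_c36 LD3_c50) Lrfl Lrfl
theorem f468652 : Led Lsl_gf (LP (LK LD1_c14 LD2_c21 LD3_c17)) = (LP (LK LD1_c7 LD2_c37 LD3_c21)) :=
  Lgr Lrot179 (Lpr_ct (f463978 IH) (Lpr_gt (f443453 IH) (Lpr_ct (f14967 IH) (Lpr_dt (f463973 IH) (Lpe (f63673 IH) (Lpe (K3.f63658 IH) (Lpe (f63669 IH) (Lpe (f63674 IH) (Lpr_dt (f468644 IH) (Lpn (LP (LK LD1_c7 LD2_c37 LD3_c21))))))))))))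
theorem f477219 : Led Lsl_df (LP (LK LD1_c7 LD2_c3 LD3_c31)) = (LP (LK LD1_c7 LD2_c36 LD3_c50)) :=
  Lgr Lrot162 (Lpe (f443502 IH) (Lpe (f443498 IH) (Lpe (K5.f87979 IH) (Lpr_gf (f477191 IH) (Lpr_dt (f460598 IH) (Lpr_gt (f474227 IH) (Lpr_ct (f62779 IH) (Lpe (f468652 IH) (Lpr_ct (f463978 IH) (Lpn (LP (LK LD1_c7 LD2_c36 LD3_c50))))))))))))
theorem f458470 : Led Lsl_cf (LP (LK LD1_c7 LD2_c2 LD3_c45)) = (LP (LK LD1_c3 LD2_c52 LD3_c17)) :=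
  Lgr Lrot11 (Lpr_ct (K28.f458464 IH) (Lpn (LP (LK LD1_c3 LD2_c52 LD3_c17))))
theorem f458485 : Led Lsl_gt (LP (LK LD1_c7 LD2_c3 LD3_c31)) = (LP (LK LD1_c3 LD2_c52 LD3_c17)) :=
  Lgr Lrot150 (Lpe (f443502 IH) (Lpe (f443498 IH) (Lpe (K5.f87980 IH) (Lpr_gt (K24.f18823 IH) (Lpr_ct (K24.f18804 IH) (Lpr_gt (K24.f18821 IH) (Lpr_ct (f18979 IH) (Lpe (K28.f457652 IH) (Lpr_cf (f458470 IH) (Lpn (LP (LK LD1_c3 LD2_c52 LD3_c17))))))))))))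
theorem f18811 : Led Lsl_dt (LP (LK LD1_c7 LD2_c0 LD3_c4)) = (LP (LK LD1_c3 LD2_c29 LD3_c9)) :=
  Lre_d IH (LK LD1_c7 LD2_c0 LD3_c4) (LK LD1_c3 LD2_c29 LD3_c9) Lrfl Lrfl
theorem f18972 : Led Lsl_dt (LP (LK LD1_c1 LD2_c41 LD3_c51)) = (LP (LK LD1_c3 LD2_c30 LD3_c25)) :=
  Lre_d IH (LK LD1_c1 LD2_c41 LD3_c51) (LK LD1_c3 LD2_c30 LD3_c25) Lrfl Lrfl
theorem f458473 : Led Lsl_ct (LP (LK LD1_c7 LD2_c2 LD3_c46)) = (LP (LK LD1_c3 LD2_c30 LD3_c25)) :=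
  Lre_c IH (LK LD1_c7 LD2_c2 LD3_c46) (LK LD1_c3 LD2_c30 LD3_c25) Lrfl Lrfl
theorem f468743 : Led Lsl_dt (LP (LK LD1_c3 LD2_c52 LD3_c12)) = (LP (LK LD1_c7 LD2_c2 LD3_c46)) :=
  Lgr Lrot105 (Lpe (f468476 IH) (Lpr_df (f468616 IH) (Lpe (f468573 IH) (Lpe (f460510 IH) (Lpr_gt (f18812 IH) (Lpr_dt (f18811 IH) (Lpr_gt (K24.f18821 IH) (Lpr_dt (f18972 IH) (Lpe (f458473 IH) (Lpn (LP (LK LD1_c7 LD2_c2 LD3_c46))))))))))))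
theorem f468747 : Led Lsl_dt (LP (LK LD1_c3 LD2_c52 LD3_c13)) = (LP (LK LD1_c1 LD2_c52 LD3_c47)) :=
  Lre_d IH (LK LD1_c3 LD2_c52 LD3_c13) (LK LD1_c1 LD2_c52 LD3_c47) Lrfl Lrfl
theorem f457655 : Led Lsl_dt (LP (LK LD1_c3 LD2_c30 LD3_c25)) = (LP (LK LD1_c1 LD2_c41 LD3_c51)) :=
  Lre_d IH (LK LD1_c3 LD2_c30 LD3_c25) (LK LD1_c1 LD2_c41 LD3_c51) Lrfl Lrfl
theorem f458472 : Led Lsl_dt (LP (LK LD1_c3 LD2_c30 LD3_c24)) = (LP (LK LD1_c7 LD2_c2 LD3_c45)) :=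
  Lre_d IH (LK LD1_c3 LD2_c30 LD3_c24) (LK LD1_c7 LD2_c2 LD3_c45) Lrfl Lrfl
theorem f64936 : Led Lsl_dt (LP (LK LD1_c1 LD2_c41 LD3_c50)) = (LP (LK LD1_c3 LD2_c30 LD3_c21)) :=
  Lre_d IH (LK LD1_c1 LD2_c41 LD3_c50) (LK LD1_c3 LD2_c30 LD3_c21) Lrfl Lrfl
theorem f443530 : Led Lsl_ct (LP (LK LD1_c3 LD2_c30 LD3_c21)) = (LP (LK LD1_c7 LD2_c2 LD3_c35)) :=
  Lre_c IH (LK LD1_c3 LD2_c30 LD3_c21) (LK LD1_c7 LD2_c2 LD3_c35) Lrfl Lrfl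
theorem f468559 : Led Lsl_df (LP (LK LD1_c7 LD2_c2 LD3_c35)) = (LP (LK LD1_c3 LD2_c52 LD3_c16)) :=
  Lgr Lrot84 (Lpe (f443530 IH) (Lpe (f64936 IH) (Lpe (K1.f64929 IH) (Lpe (K24.f64987 IH) (Lpe (K1.f64986 IH) (Lpe (K24.f64991 IH) (Lpr_gt (f468358 IH) (Lpr_dt (f464823 IH) (Lpr_gt (f468553 IH) (Lpn (LP (LK LD1_c3 LD2_c52 LD3_c16))))))))))))
theorem f443528 : Led Lsl_ct (LP (LK LD1_c7 LD2_c2 LD3_c35)) = (LP (LK LD1_c3 LD2_c30 LD3_c21)) :=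
  Lre_c IH (LK LD1_c7 LD2_c2 LD3_c35) (LK LD1_c3 LD2_c30 LD3_c21) Lrfl Lrfl
theorem f443440 : Led Lsl_dt (LP (LK LD1_c3 LD2_c30 LD3_c21)) = (LP (LK LD1_c1 LD2_c41 LD3_c50)) :=
  Lre_d IH (LK LD1_c3 LD2_c30 LD3_c21) (LK LD1_c1 LD2_c41 LD3_c50) Lrfl Lrfl
theorem f443460 : Led Lsl_ct (LP (LK LD1_c1 LD2_c41 LD3_c50)) = (LP (LK LD1_c3 LD2_c30 LD3_c20)) :=
  Lre_c IH (LK LD1_c1 LD2_c41 LD3_c50) (LK LD1_c3 LD2_c30 LD3_c20) Lrfl Lrfl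
theorem f468748 : Led Lsl_dt (LP (LK LD1_c3 LD2_c30 LD3_c20)) = (LP (LK LD1_c7 LD2_c2 LD3_c31)) :=
  Lre_d IH (LK LD1_c3 LD2_c30 LD3_c20) (LK LD1_c7 LD2_c2 LD3_c31) Lrfl Lrfl
theorem f468749 : Led Lsl_cf (LP (LK LD1_c3 LD2_c52 LD3_c13)) = (LP (LK LD1_c7 LD2_c2 LD3_c31)) :=
  Lgr Lrot55 (Lpr_dt (f468747 IH) (Lpr_ct (f461388 IH) (Lpr_dt (f468743 IH) (Lpr_ct (f458473 IH) (Lpr_dt (f457655 IH) (Lpr_ct (f18979 IH) (Lpr_dt (f458472 IH) (Lpr_ct (K28.f458464 IH) (Lpr_dt (K3.f63632 IH) (Lpr_ct (f458474 IH) (Lpe (f468559 IH) (Lpr_ct (f443528 IH) (Lpr_dt (f443440 IH) (Lpr_ct (f443460 IH) (Lpr_dt (f468748 IH) (Lpn (LP (LK LD1_c7 LD2_c2 LD3_c31))))))))))))))))))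
theorem f468778 : Led Lsl_ct (LP (LK LD1_c3 LD2_c52 LD3_c13)) = (LP (LK LD1_c7 LD2_c2 LD3_c31)) :=
  Lgr Lrot59 (Lpr_cf (f468749 IH) (Lpn (LP (LK LD1_c7 LD2_c2 LD3_c31))))
theorem f461315 : Led Lsl_dt (LP (LK LD1_c1 LD2_c52 LD3_c47)) = (LP (LK LD1_c3 LD2_c52 LD3_c13)) :=
  Lre_d IH (LK LD1_c1 LD2_c52 LD3_c47) (LK LD1_c3 LD2_c52 LD3_c13) Lrfl Lrfl
theorem f468751 : Led Lsl_df (LP (LK LD1_c3 LD2_c52 LD3_c12)) = (LP (LK LD1_c7 LD2_c2 LD3_c46)) :=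
  Lgr Lrot38 (Lpr_dt (f468743 IH) (Lpn (LP (LK LD1_c7 LD2_c2 LD3_c46))))
theorem f18973 : Led Lsl_ct (LP (LK LD1_c3 LD2_c30 LD3_c25)) = (LP (LK LD1_c7 LD2_c2 LD3_c46)) :=
  Lre_c IH (LK LD1_c3 LD2_c30 LD3_c25) (LK LD1_c7 LD2_c2 LD3_c46) Lrfl Lrfl
theorem f63641 : Led Lsl_dt (LP (LK LD1_c1 LD2_c52 LD3_c48)) = (LP (LK LD1_c3 LD2_c52 LD3_c17)) :=
  Lre_d IH (LK LD1_c1 LD2_c52 LD3_c48) (LK LD1_c3 LD2_c52 LD3_c17) Lrfl Lrfl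
theorem f464827 : Led Lsl_dt (LP (LK LD1_c7 LD2_c2 LD3_c31)) = (LP (LK LD1_c3 LD2_c30 LD3_c20)) :=
  Lre_d IH (LK LD1_c7 LD2_c2 LD3_c31) (LK LD1_c3 LD2_c30 LD3_c20) Lrfl Lrfl
theorem f468781 : Led Lsl_df (LP (LK LD1_c3 LD2_c52 LD3_c16)) = (LP (LK LD1_c7 LD2_c2 LD3_c35)) :=
  Lgr Lrot43 (Lpr_ct (f458479 IH) (Lpr_dt (f63641 IH) (Lpe (f458470 IH) (Lpr_dt (K28.f457652 IH) (Lpr_ct (K24.f18822 IH) (Lpr_dt (f18972 IH) (Lpr_ct (f18973 IH) (Lpe (f468751 IH) (Lpr_ct (f468454 IH) (Lpr_dt (f461315 IH) (Lpr_ct (f468778 IH) (Lpr_dt (f464827 IH) (Lpr_ct (K28.f18827 IH) (Lpr_dt (f64936 IH) (Lpr_ct (f443530 IH) (Lpn (LP (LK LD1_c7 LD2_c2 LD3_c35))))))))))))))))))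
theorem f468793 : Led Lsl_gt (LP (LK LD1_c13 LD2_c21 LD3_c25)) = (LP (LK LD1_c7 LD2_c2 LD3_c35)) :=
  Lre_g IH (LK LD1_c13 LD2_c21 LD3_c25) (LK LD1_c7 LD2_c2 LD3_c35) Lrfl Lrfl
theorem f468676 : Led Lsl_ft (LP (LK LD1_c7 LD2_c2 LD3_c59)) = (LP (LK LD1_c3 LD2_c30 LD3_c29)) :=
  Lre_f IH (LK LD1_c7 LD2_c2 LD3_c59) (LK LD1_c3 LD2_c30 LD3_c29) Lrfl Lrfl
theorem f468677 : Led Lsl_at (LP (LK LD1_c3 LD2_c30 LD3_c29)) = (LP (LK LD1_c7 LD2_c0 LD3_c3)) :=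
  Lre_a IH (LK LD1_c3 LD2_c30 LD3_c29) (LK LD1_c7 LD2_c0 LD3_c3) Lrfl Lrfl
theorem f468678 : Led Lsl_gf (LP (LK LD1_c7 LD2_c0 LD3_c3)) = (LP (LK LD1_c7 LD2_c47 LD3_c42)) :=
  Lgr Lrot76 (Lpe (f468677 IH) (Lpe (f468676 IH) (Lpr_gt (f468630 IH) (Lpn (LP (LK LD1_c7 LD2_c47 LD3_c42))))))
theorem f91104 : Led Lsl_ct (LP (LK LD1_c3 LD2_c52 LD3_c23)) = (LP (LK LD1_c1 LD2_c52 LD3_c50)) :=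
  Lre_c IH (LK LD1_c3 LD2_c52 LD3_c23) (LK LD1_c1 LD2_c52 LD3_c50) Lrfl Lrfl
theorem f63935 : Led Lsl_dt (LP (LK LD1_c3 LD2_c47 LD3_c52)) = (LP (LK LD1_c1 LD2_c50 LD3_c57)) :=
  Lre_d IH (LK LD1_c3 LD2_c47 LD3_c52) (LK LD1_c1 LD2_c50 LD3_c57) Lrfl Lrfl
theorem f468659 : Led Lsl_ct (LP (LK LD1_c7 LD2_c36 LD3_c50)) = (LP (LK LD1_c14 LD2_c21 LD3_c17)) :=
  Lre_c IH (LK LD1_c7 LD2_c36 LD3_c50) (LK LD1_c14 LD2_c21 LD3_c17) Lrfl Lrfl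
theorem f468688 : Led Lsl_gt (LP (LK LD1_c14 LD2_c21 LD3_c17)) = (LP (LK LD1_c7 LD2_c37 LD3_c14)) :=
  Lgr Lrot94 (Lpe (f468659 IH) (Lpr_gt (f443453 IH) (Lpr_dt (f63935 IH) (Lpr_gt (K1.f11242 IH) (Lpr_dt (K24.f64995 IH) (Lpe (f91104 IH) (Lpe (f64170 IH) (Lpr_gf (f468678 IH) (Lpe (f459735 IH) (Lpn (LP (LK LD1_c7 LD2_c37 LD3_c14))))))))))))
theorem f463746 : Led Lsl_dt (LP (LK LD1_c3 LD2_c47 LD3_c56)) = (LP (LK LD1_c1 LD2_c50 LD3_c58)) :=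
  Lre_d IH (LK LD1_c3 LD2_c47 LD3_c56) (LK LD1_c1 LD2_c50 LD3_c58) Lrfl Lrfl
theorem f468694 : Led Lsl_gf (LP (LK LD1_c7 LD2_c36 LD3_c50)) = (LP (LK LD1_c3 LD2_c47 LD3_c56)) :=
  Lgr Lrot147 (Lpr_ct (f468659 IH) (Lpr_gt (f468688 IH) (Lpr_ct (K24.f459728 IH) (Lpe (f129824 IH) (Lpe (K28.f129659 IH) (Lpe (K24.f85281 IH) (Lpe (K28.f14951 IH) (Lpe (K28.f14971 IH) (Lpe (f463746 IH) (Lpn (LP (LK LD1_c3 LD2_c47 LD3_c56))))))))))))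
theorem f463747 : Led Lsl_ct (LP (LK LD1_c7 LD2_c36 LD3_c57)) = (LP (LK LD1_c3 LD2_c47 LD3_c56)) :=
  Lre_c IH (LK LD1_c7 LD2_c36 LD3_c57) (LK LD1_c3 LD2_c47 LD3_c56) Lrfl Lrfl
theorem f457780 : Led Lsl_cf (LP (LK LD1_c1 LD2_c40 LD3_c22)) = (LP (LK LD1_c1 LD2_c50 LD3_c57)) :=
  Lgr Lrot11 (Lpr_ct (K24.f457774 IH) (Lpn (LP (LK LD1_c1 LD2_c50 LD3_c57))))
theorem f93486 : Led Lsl_dt (LP (LK LD1_c0 LD2_c52 LD3_c21)) = (LP (LK LD1_c1 LD2_c50 LD3_c59)) :=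
  Lre_d IH (LK LD1_c0 LD2_c52 LD3_c21) (LK LD1_c1 LD2_c50 LD3_c59) Lrfl Lrfl
theorem f457958 : Led Lsl_gt (LP (LK LD1_c1 LD2_c50 LD3_c59)) = (LP (LK LD1_c3 LD2_c47 LD3_c58)) :=
  Lre_g IH (LK LD1_c1 LD2_c50 LD3_c59) (LK LD1_c3 LD2_c47 LD3_c58) Lrfl Lrfl
theorem f457959 : Led Lsl_ct (LP (LK LD1_c3 LD2_c47 LD3_c58)) = (LP (LK LD1_c7 LD2_c36 LD3_c59)) :=
  Lre_c IH (LK LD1_c3 LD2_c47 LD3_c58) (LK LD1_c7 LD2_c36 LD3_c59) Lrfl Lrfl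
theorem f461927 : Led Lsl_gt (LP (LK LD1_c7 LD2_c36 LD3_c59)) = (LP (LK LD1_c7 LD2_c47 LD3_c13)) :=
  Lgr Lrot150 (Lpe (f457959 IH) (Lpe (f457958 IH) (Lpe (f93486 IH) (Lpr_gt (K1.f14965 IH) (Lpe (f457780 IH) (Lpr_gt (K24.f457787 IH) (Lpr_ct (K24.f461923 IH) (Lpe (K24.f460165 IH) (Lpe (f460157 IH) (Lpn (LP (LK LD1_c7 LD2_c47 LD3_c13))))))))))))
theorem f11240 : Led Lsl_gt (LP (LK LD1_c3 LD2_c47 LD3_c58)) = (LP (LK LD1_c1 LD2_c52 LD3_c50)) :=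
  Lre_g IH (LK LD1_c3 LD2_c47 LD3_c58) (LK LD1_c1 LD2_c52 LD3_c50) Lrfl Lrfl
theorem f63016 : Led Lsl_dt (LP (LK LD1_c1 LD2_c50 LD3_c58)) = (LP (LK LD1_c3 LD2_c47 LD3_c56)) :=
  Lre_d IH (LK LD1_c1 LD2_c50 LD3_c58) (LK LD1_c3 LD2_c47 LD3_c56) Lrfl Lrfl
theorem f468502 : Led Lsl_dt (LP (LK LD1_c13 LD2_c17 LD3_c3)) = (LP (LK LD1_c7 LD2_c36 LD3_c57)) :=
  Lgr Lrot105 (Lpr_gf (f468495 IH) (Lpr_df (f460407 IH) (Lpe (f461927 IH) (Lpe (f457959 IH) (Lpr_gt (f11240 IH) (Lpr_dt (f11239 IH) (Lpr_gt (K28.f11213 IH) (Lpr_dt (f63016 IH) (Lpe (f463747 IH) (Lpn (LP (LK LD1_c7 LD2_c36 LD3_c57))))))))))))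
theorem f458437 : Led Lsl_ct (LP (LK LD1_c7 LD2_c0 LD3_c2)) = (LP (LK LD1_c13 LD2_c17 LD3_c3)) :=
  Lre_c IH (LK LD1_c7 LD2_c0 LD3_c2) (LK LD1_c13 LD2_c17 LD3_c3) Lrfl Lrfl
theorem f464048 : Led Lsl_gf (LP (LK LD1_c13 LD2_c22 LD3_c47)) = (LP (LK LD1_c13 LD2_c17 LD3_c3)) :=
  Lgr Lrot104 (Lpr_ct (K24.f460511 IH) (Lpe (K24.f129830 IH) (Lpe (K24.f460545 IH) (Lpr_gf (K28.f464044 IH) (Lpr_cf (K28.f458356 IH) (Lpe (K3.f18760 IH) (Lpe (f18791 IH) (Lpr_gt (f62848 IH) (Lpr_ct (f458437 IH) (Lpn (LP (LK LD1_c13 LD2_c17 LD3_c3))))))))))))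
theorem f460411 : Led Lsl_gt (LP (LK LD1_c3 LD2_c52 LD3_c52)) = (LP (LK LD1_c1 LD2_c53 LD3_c0)) :=
  Lre_g IH (LK LD1_c3 LD2_c52 LD3_c52) (LK LD1_c1 LD2_c53 LD3_c0) Lrfl Lrfl
theorem f460412 : Led Lsl_ct (LP (LK LD1_c7 LD2_c47 LD3_c31)) = (LP (LK LD1_c3 LD2_c52 LD3_c52)) :=
  Lre_c IH (LK LD1_c7 LD2_c47 LD3_c31) (LK LD1_c3 LD2_c52 LD3_c52) Lrfl Lrfl
theorem f468517 : Led Lsl_gf (LP (LK LD1_c7 LD2_c47 LD3_c31)) = (LP (LK LD1_c7 LD2_c36 LD3_c57)) :=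
  Lgr Lrot179 (Lpr_ct (f460412 IH) (Lpr_gt (f460411 IH) (Lpr_ct (f459899 IH) (Lpe (f460502 IH) (Lpr_cf (K24.f460506 IH) (Lpe (K24.f129829 IH) (Lpe (K24.f460511 IH) (Lpr_gf (f464048 IH) (Lpr_dt (f468502 IH) (Lpn (LP (LK LD1_c7 LD2_c36 LD3_c57))))))))))))
theorem f477238 : Led Lsl_df (LP (LK LD1_c13 LD2_c21 LD3_c25)) = (LP (LK LD1_c7 LD2_c47 LD3_c31)) :=
  Lgr Lrot153 (Lpr_gt (f468793 IH) (Lpe (f468781 IH) (Lpe (f458474 IH) (Lpe (K3.f63632 IH) (Lpe (f458485 IH) (Lpr_df (f477219 IH) (Lpr_gf (f468694 IH) (Lpe (f463747 IH) (Lpe (f468517 IH) (Lpn (LP (LK LD1_c7 LD2_c47 LD3_c31))))))))))))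
theorem f64655 : Led Lsl_gf (LP (LK LD1_c3 LD2_c53 LD3_c0)) = (LP (LK LD1_c7 LD2_c0 LD3_c23)) :=
  Lgr Lrot143 (Lpr_dt (f64653 IH) (Lpe (f64652 IH) (Lpe (f62988 IH) (Lpe (K1.f62722 IH) (Lpe (K24.f62721 IH) (Lpe (K1.f62683 IH) (Lpe (K24.f64651 IH) (Lpr_gt (K5.f64649 IH) (Lpr_dt (K24.f64654 IH) (Lpn (LP (LK LD1_c7 LD2_c0 LD3_c23))))))))))))
theorem f64686 : Led Lsl_gt (LP (LK LD1_c1 LD2_c53 LD3_c4)) = (LP (LK LD1_c3 LD2_c52 LD3_c59)) :=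
  Lre_g IH (LK LD1_c1 LD2_c53 LD3_c4) (LK LD1_c3 LD2_c52 LD3_c59) Lrfl Lrfl
theorem f64687 : Led Lsl_dt (LP (LK LD1_c3 LD2_c52 LD3_c59)) = (LP (LK LD1_c7 LD2_c47 LD3_c47)) :=
  Lre_d IH (LK LD1_c3 LD2_c52 LD3_c59) (LK LD1_c7 LD2_c47 LD3_c47) Lrfl Lrfl
theorem f477250 : Led Lsl_cf (LP (LK LD1_c13 LD2_c21 LD3_c25)) = (LP (LK LD1_c7 LD2_c47 LD3_c47)) :=
  Lgr Lrot14 (Lpr_df (f477238 IH) (Lpr_gf (f468517 IH) (Lpe (f468502 IH) (Lpr_gf (f468495 IH) (Lpr_ct (f64658 IH) (Lpe (f64655 IH) (Lpr_dt (f64653 IH) (Lpr_gt (f64686 IH) (Lpr_dt (f64687 IH) (Lpn (LP (LK LD1_c7 LD2_c47 LD3_c47))))))))))))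
theorem f460413 : Led Lsl_ct (LP (LK LD1_c3 LD2_c52 LD3_c52)) = (LP (LK LD1_c7 LD2_c47 LD3_c31)) :=
  Lre_c IH (LK LD1_c3 LD2_c52 LD3_c52) (LK LD1_c7 LD2_c47 LD3_c31) Lrfl Lrfl
theorem f463999 : Led Lsl_gf (LP (LK LD1_c7 LD2_c36 LD3_c51)) = (LP (LK LD1_c7 LD2_c47 LD3_c31)) :=
  Lgr Lrot144 (Lpr_dt (f463973 IH) (Lpe (f463950 IH) (Lpr_dt (f460409 IH) (Lpe (f460169 IH) (Lpe (K24.f63036 IH) (Lpe (K24.f63035 IH) (Lpe (K24.f451116 IH) (Lpe (f460411 IH) (Lpe (f460412 IH) (Lpn (LP (LK LD1_c7 LD2_c47 LD3_c31))))))))))))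
theorem f457789 : Led Lsl_ct (LP (LK LD1_c7 LD2_c36 LD3_c51)) = (LP (LK LD1_c3 LD2_c47 LD3_c52)) :=
  Lre_c IH (LK LD1_c7 LD2_c36 LD3_c51) (LK LD1_c3 LD2_c47 LD3_c52) Lrfl Lrfl
theorem f464005 : Led Lsl_gt (LP (LK LD1_c1 LD2_c53 LD3_c12)) = (LP (LK LD1_c3 LD2_c52 LD3_c52)) :=
  Lgr Lrot9 (Lpe (f88007 IH) (Lpr_gt (K5.f87982 IH) (Lpe (K5.f128073 IH) (Lpr_gt (K28.f463693 IH) (Lpr_ct (K24.f457774 IH) (Lpe (f63935 IH) (Lpe (f457789 IH) (Lpr_gf (f463999 IH) (Lpe (f460413 IH) (Lpn (LP (LK LD1_c3 LD2_c52 LD3_c52))))))))))))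
theorem f63702 : Led Lsl_dt (LP (LK LD1_c6 LD2_c59 LD3_c60)) = (LP (LK LD1_c3 LD2_c29 LD3_c6)) :=
  Lre_d IH (LK LD1_c6 LD2_c59 LD3_c60) (LK LD1_c3 LD2_c29 LD3_c6) Lrfl Lrfl
theorem f464169 : Led Lsl_dt (LP (LK LD1_c3 LD2_c29 LD3_c15)) = (LP (LK LD1_c7 LD2_c0 LD3_c13)) :=
  Lre_d IH (LK LD1_c3 LD2_c29 LD3_c15) (LK LD1_c7 LD2_c0 LD3_c13) Lrfl Lrfl
theorem f468700 : Led Lsl_ct (LP (LK LD1_c13 LD2_c17 LD3_c17)) = (LP (LK LD1_c7 LD2_c0 LD3_c13)) :=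
  Lre_c IH (LK LD1_c13 LD2_c17 LD3_c17) (LK LD1_c7 LD2_c0 LD3_c13) Lrfl Lrfl
theorem f477172 : Led Lsl_gf (LP (LK LD1_c13 LD2_c17 LD3_c17)) = (LP (LK LD1_c14 LD2_c38 LD3_c30)) :=
  Lgr Lrot104 (Lpr_ct (f468700 IH) (Lpe (f464169 IH) (Lpe (K28.f18965 IH) (Lpe (K24.f18963 IH) (Lpe (K28.f446518 IH) (Lpe (K3.f63667 IH) (Lpe (f63702 IH) (Lpr_gt (f477168 IH) (Lpe (f468592 IH) (Lpn (LP (LK LD1_c14 LD2_c38 LD3_c30))))))))))))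
theorem f477252 : Led Lsl_gf (LP (LK LD1_c7 LD2_c47 LD3_c47)) = (LP (LK LD1_c7 LD2_c0 LD3_c13)) :=
  Lgr Lrot104 (Lpe (f477250 IH) (Lpr_df (f477238 IH) (Lpe (f460413 IH) (Lpe (f464005 IH) (Lpe (f451122 IH) (Lpe (f461177 IH) (Lpe (f461178 IH) (Lpe (f477172 IH) (Lpr_ct (f468700 IH) (Lpn (LP (LK LD1_c7 LD2_c0 LD3_c13))))))))))))
theorem f64691 : Led Lsl_dt (LP (LK LD1_c7 LD2_c47 LD3_c47)) = (LP (LK LD1_c3 LD2_c52 LD3_c59)) :=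
  Lre_d IH (LK LD1_c7 LD2_c47 LD3_c47) (LK LD1_c3 LD2_c52 LD3_c59) Lrfl Lrfl
theorem f474079 : Led Lsl_gt (LP (LK LD1_c3 LD2_c52 LD3_c59)) = (LP (LK LD1_c1 LD2_c53 LD3_c14)) :=
  Lgr Lrot46 (Lpe (f64686 IH) (Lpr_ft (f474070 IH) (Lpe (f474036 IH) (Lpn (LP (LK LD1_c1 LD2_c53 LD3_c14))))))
theorem f461174 : Led Lsl_dt (LP (LK LD1_c14 LD2_c38 LD3_c36)) = (LP (LK LD1_c7 LD2_c45 LD3_c49)) :=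
  Lre_d IH (LK LD1_c14 LD2_c38 LD3_c36) (LK LD1_c7 LD2_c45 LD3_c49) Lrfl Lrfl
theorem f477257 : Led Lsl_gf (LP (LK LD1_c14 LD2_c38 LD3_c36)) = (LP (LK LD1_c13 LD2_c17 LD3_c17)) :=
  Lgr Lrot144 (Lpr_dt (f461174 IH) (Lpe (f476318 IH) (Lpe (f460502 IH) (Lpr_cf (K24.f460506 IH) (Lpe (K24.f129828 IH) (Lpe (f474079 IH) (Lpe (f64691 IH) (Lpr_gf (f477252 IH) (Lpe (f468700 IH) (Lpn (LP (LK LD1_c13 LD2_c17 LD3_c17))))))))))))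
theorem f476329 : Led Lsl_dt (LP (LK LD1_c7 LD2_c4 LD3_c50)) = (LP (LK LD1_c3 LD2_c51 LD3_c61)) :=
  Lgr Lrot42 (Lpr_df (f476323 IH) (Lpn (LP (LK LD1_c3 LD2_c51 LD3_c61))))
theorem f461512 : Led Lsl_dt (LP (LK LD1_c7 LD2_c47 LD3_c45)) = (LP (LK LD1_c3 LD2_c52 LD3_c58)) :=
  Lre_d IH (LK LD1_c7 LD2_c47 LD3_c45) (LK LD1_c3 LD2_c52 LD3_c58) Lrfl Lrfl
theorem f468590 : Led Lsl_ct (LP (LK LD1_c14 LD2_c38 LD3_c30)) = (LP (LK LD1_c7 LD2_c47 LD3_c45)) :=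
  Lgr Lrot7 (Lpe (f464013 IH) (Lpr_gf (f468584 IH) (Lpe (K24.f460434 IH) (Lpe (K24.f443459 IH) (Lpe (f156651 IH) (Lpr_gt (K1.f64971 IH) (Lpe (K24.f64979 IH) (Lpe (f461301 IH) (Lpr_dt (f461510 IH) (Lpn (LP (LK LD1_c7 LD2_c47 LD3_c45))))))))))))
theorem f65783 : Led Lsl_dt (LP (LK LD1_c3 LD2_c46 LD3_c58)) = (LP (LK LD1_c3 LD2_c51 LD3_c60)) :=
  Lre_d IH (LK LD1_c3 LD2_c46 LD3_c58) (LK LD1_c3 LD2_c51 LD3_c60) Lrfl Lrfl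
theorem f468594 : Led Lsl_ct (LP (LK LD1_c1 LD2_c50 LD3_c34)) = (LP (LK LD1_c3 LD2_c46 LD3_c58)) :=
  Lre_c IH (LK LD1_c1 LD2_c50 LD3_c34) (LK LD1_c3 LD2_c46 LD3_c58) Lrfl Lrfl
theorem f62992 : Led Lsl_dt (LP (LK LD1_c1 LD2_c53 LD3_c2)) = (LP (LK LD1_c1 LD2_c50 LD3_c34)) :=
  Lre_d IH (LK LD1_c1 LD2_c53 LD3_c2) (LK LD1_c1 LD2_c50 LD3_c34) Lrfl Lrfl
theorem f458085 : Led Lsl_ct (LP (LK LD1_c3 LD2_c52 LD3_c57)) = (LP (LK LD1_c1 LD2_c53 LD3_c2)) :=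
  Lre_c IH (LK LD1_c3 LD2_c52 LD3_c57) (LK LD1_c1 LD2_c53 LD3_c2) Lrfl Lrfl
theorem f458088 : Led Lsl_dt (LP (LK LD1_c7 LD2_c47 LD3_c44)) = (LP (LK LD1_c3 LD2_c52 LD3_c57)) :=
  Lre_d IH (LK LD1_c7 LD2_c47 LD3_c44) (LK LD1_c3 LD2_c52 LD3_c57) Lrfl Lrfl
theorem f461180 : Led Lsl_dt (LP (LK LD1_c7 LD2_c45 LD3_c49)) = (LP (LK LD1_c14 LD2_c38 LD3_c36)) :=
  Lre_d IH (LK LD1_c7 LD2_c45 LD3_c49) (LK LD1_c14 LD2_c38 LD3_c36) Lrfl Lrfl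
theorem f476332 : Led Lsl_cf (LP (LK LD1_c7 LD2_c47 LD3_c44)) = (LP (LK LD1_c14 LD2_c38 LD3_c36)) :=
  Lgr Lrot55 (Lpr_dt (f458088 IH) (Lpr_ct (f458085 IH) (Lpr_dt (f62992 IH) (Lpr_ct (f468594 IH) (Lpr_dt (f65783 IH) (Lpr_ct (f461260 IH) (Lpr_dt (f464013 IH) (Lpr_ct (f468590 IH) (Lpr_dt (f461512 IH) (Lpr_ct (f461300 IH) (Lpe (f473968 IH) (Lpr_ct (f455722 IH) (Lpr_dt (f476329 IH) (Lpr_ct (f461190 IH) (Lpr_dt (f461180 IH) (Lpn (LP (LK LD1_c14 LD2_c38 LD3_c36))))))))))))))))))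
theorem f458081 : Led Lsl_ct (LP (LK LD1_c1 LD2_c53 LD3_c2)) = (LP (LK LD1_c3 LD2_c52 LD3_c57)) :=
  Lre_c IH (LK LD1_c1 LD2_c53 LD3_c2) (LK LD1_c3 LD2_c52 LD3_c57) Lrfl Lrfl
theorem f62991 : Led Lsl_gt (LP (LK LD1_c0 LD2_c53 LD3_c7)) = (LP (LK LD1_c1 LD2_c53 LD3_c2)) :=
  Lre_g IH (LK LD1_c0 LD2_c53 LD3_c7) (LK LD1_c1 LD2_c53 LD3_c2) Lrfl Lrfl
theorem f461919 : Led Lsl_dt (LP (LK LD1_c3 LD2_c52 LD3_c60)) = (LP (LK LD1_c7 LD2_c47 LD3_c49)) :=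
  Lre_d IH (LK LD1_c3 LD2_c52 LD3_c60) (LK LD1_c7 LD2_c47 LD3_c49) Lrfl Lrfl
theorem f466326 : Led Lsl_ct (LP (LK LD1_c7 LD2_c0 LD3_c13)) = (LP (LK LD1_c13 LD2_c17 LD3_c17)) :=
  Lre_c IH (LK LD1_c7 LD2_c0 LD3_c13) (LK LD1_c13 LD2_c17 LD3_c17) Lrfl Lrfl
theorem f477265 : Led Lsl_gt (LP (LK LD1_c7 LD2_c47 LD3_c49)) = (LP (LK LD1_c7 LD2_c0 LD3_c13)) :=
  Lgr Lrot9 (Lpe (f461919 IH) (Lpr_gt (f459901 IH) (Lpr_ct (f64659 IH) (Lpr_gt (f62991 IH) (Lpr_ct (f458081 IH) (Lpe (f458088 IH) (Lpr_cf (f476332 IH) (Lpr_gf (f477257 IH) (Lpe (f466326 IH) (Lpn (LP (LK LD1_c7 LD2_c0 LD3_c13))))))))))))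
theorem f17265 : Led Lsl_gt (LP (LK LD1_c0 LD2_c53 LD3_c58)) = (LP (LK LD1_c0 LD2_c24 LD3_c15)) :=
  Lre_g IH (LK LD1_c0 LD2_c53 LD3_c58) (LK LD1_c0 LD2_c24 LD3_c15) Lrfl Lrfl
theorem f14860 : Led Lsl_bt (LP (LK LD1_c1 LD2_c54 LD3_c39)) = (LP (LK LD1_c0 LD2_c53 LD3_c58)) :=
  Lre_b IH (LK LD1_c1 LD2_c54 LD3_c39) (LK LD1_c0 LD2_c53 LD3_c58) Lrfl Lrfl
def v791 : LQ := Led Lsl_gt (LP (LK LD1_c0 LD2_c50 LD3_c56))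
theorem f459401 : Led Lsl_gt (LP (LK LD1_c0 LD2_c50 LD3_c56)) = v791 :=
  Lrfl
theorem f203909 : Led Lsl_ft (LP (LK LD1_c0 LD2_c50 LD3_c56)) = (LP (LK LD1_c1 LD2_c48 LD3_c23)) :=
  Lre_f IH (LK LD1_c0 LD2_c50 LD3_c56) (LK LD1_c1 LD2_c48 LD3_c23) Lrfl Lrfl
theorem f203882 : Led Lsl_at (LP (LK LD1_c1 LD2_c48 LD3_c23)) = (LP (LK LD1_c1 LD2_c47 LD3_c6)) :=
  Lgr Lrot100 (Lpr_af (K28.f203874 IH) (Lpn (LP (LK LD1_c1 LD2_c47 LD3_c6))))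
theorem f459402 : Led Lsl_gf (LP (LK LD1_c1 LD2_c47 LD3_c6)) = v791 :=
  Lgr Lrot76 (Lpe (f203882 IH) (Lpe (f203909 IH) (Lpr_gt (f459401 IH) (Lpn v791))))
theorem f446531 : Led Lsl_ct (LP (LK LD1_c0 LD2_c54 LD3_c1)) = (LP (LK LD1_c1 LD2_c54 LD3_c45)) :=
  Lre_c IH (LK LD1_c0 LD2_c54 LD3_c1) (LK LD1_c1 LD2_c54 LD3_c45) Lrfl Lrfl
theorem f470839 : v791 = (LP (LK LD1_c0 LD2_c54 LD3_c9)) :=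
  (Llr Lrot124 (Lpe (f459402 IH) (Lpr_bf (f12382 IH) (Lpe (f425309 IH) (Lpr_gt (f470831 IH) (Lpe (f446531 IH) (Lpr_bt (K28.f446530 IH) (Lpr_gt (K24.f11890 IH) (Lpr_ct (K24.f11223 IH) (Lpr_gt (K11.f4474 IH) (Lpe (K24.f11194 IH) (Lpr_bt (K28.f11211 IH) (Lpn (LP (LK LD1_c0 LD2_c54 LD3_c9))))))))))))))).symm
theorem f12396 : Led Lsl_dt (LP (LK LD1_c3 LD2_c40 LD3_c14)) = (LP (LK LD1_c1 LD2_c47 LD3_c3)) :=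
  Lre_d IH (LK LD1_c3 LD2_c40 LD3_c14) (LK LD1_c1 LD2_c47 LD3_c3) Lrfl Lrfl
theorem f203826 : Led Lsl_af (LP (LK LD1_c1 LD2_c48 LD3_c20)) = (LP (LK LD1_c1 LD2_c47 LD3_c3)) :=
  Lgr Lrot117 (Lpr_dt (K28.f120997 IH) (Lpr_at (K28.f203814 IH) (Lpr_dt (f12396 IH) (Lpn (LP (LK LD1_c1 LD2_c47 LD3_c3))))))
theorem f203948 : Led Lsl_gt (LP (LK LD1_c3 LD2_c42 LD3_c42)) = (LP (LK LD1_c1 LD2_c48 LD3_c20)) :=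
  Lre_g IH (LK LD1_c3 LD2_c42 LD3_c42) (LK LD1_c1 LD2_c48 LD3_c20) Lrfl Lrfl
theorem f159378 : Led Lsl_ft (LP (LK LD1_c3 LD2_c40 LD3_c15)) = (LP (LK LD1_c1 LD2_c47 LD3_c3)) :=
  Lre_f IH (LK LD1_c3 LD2_c40 LD3_c15) (LK LD1_c1 LD2_c47 LD3_c3) Lrfl Lrfl
theorem f203949 : Led Lsl_gf (LP (LK LD1_c3 LD2_c42 LD3_c42)) = (LP (LK LD1_c3 LD2_c40 LD3_c15)) :=
  Lgr Lrot47 (Lpr_gt (f203948 IH) (Lpr_af (f203826 IH) (Lpe (f159378 IH) (Lpn (LP (LK LD1_c3 LD2_c40 LD3_c15))))))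
theorem f471174 : Led Lsl_ct (LP (LK LD1_c1 LD2_c54 LD3_c39)) = (LP (LK LD1_c3 LD2_c42 LD3_c42)) :=
  Lgr Lrot63 (Lpr_bt (f14860 IH) (Lpr_gt (f17265 IH) (Lpe (K28.f14907 IH) (Lpr_ct (K24.f11223 IH) (Lpr_gt (K11.f4474 IH) (Lpe (K24.f11194 IH) (Lpr_bt (K28.f11211 IH) (Lpq (f470839 IH) (Lpe (f459402 IH) (Lpr_ct (f12387 IH) (Lpe (f203949 IH) (Lpn (LP (LK LD1_c3 LD2_c42 LD3_c42))))))))))))))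
theorem f471176 : Led Lsl_bt (LP (LK LD1_c0 LD2_c53 LD3_c58)) = (LP (LK LD1_c1 LD2_c54 LD3_c39)) :=
  Lre_b IH (LK LD1_c0 LD2_c53 LD3_c58) (LK LD1_c1 LD2_c54 LD3_c39) Lrfl Lrfl
theorem f471177 : Led Lsl_ct (LP (LK LD1_c1 LD2_c54 LD3_c40)) = (LP (LK LD1_c0 LD2_c53 LD3_c58)) :=
  Lre_c IH (LK LD1_c1 LD2_c54 LD3_c40) (LK LD1_c0 LD2_c53 LD3_c58) Lrfl Lrfl
theorem f471178 : Led Lsl_bt (LP (LK LD1_c3 LD2_c55 LD3_c59)) = (LP (LK LD1_c1 LD2_c54 LD3_c40)) :=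
  Lre_b IH (LK LD1_c3 LD2_c55 LD3_c59) (LK LD1_c1 LD2_c54 LD3_c40) Lrfl Lrfl
theorem f471179 : Led Lsl_bt (LP (LK LD1_c3 LD2_c42 LD3_c42)) = (LP (LK LD1_c7 LD2_c26 LD3_c2)) :=
  Lre_b IH (LK LD1_c3 LD2_c42 LD3_c42) (LK LD1_c7 LD2_c26 LD3_c2) Lrfl Lrfl
theorem f471180 : Led Lsl_cf (LP (LK LD1_c3 LD2_c55 LD3_c59)) = (LP (LK LD1_c7 LD2_c26 LD3_c2)) :=
  Lgr Lrot97 (Lpr_bt (f471178 IH) (Lpr_ct (f471177 IH) (Lpr_bt (f471176 IH) (Lpr_ct (f471174 IH) (Lpr_bt (f471179 IH) (Lpn (LP (LK LD1_c7 LD2_c26 LD3_c2))))))))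
theorem f203954 : Led Lsl_bt (LP (LK LD1_c7 LD2_c26 LD3_c2)) = (LP (LK LD1_c3 LD2_c42 LD3_c42)) :=
  Lre_b IH (LK LD1_c7 LD2_c26 LD3_c2) (LK LD1_c3 LD2_c42 LD3_c42) Lrfl Lrfl
theorem f451274 : Led Lsl_ct (LP (LK LD1_c1 LD2_c54 LD3_c52)) = (LP (LK LD1_c0 LD2_c54 LD3_c9)) :=
  Lre_c IH (LK LD1_c1 LD2_c54 LD3_c52) (LK LD1_c0 LD2_c54 LD3_c9) Lrfl Lrfl
theorem f451830 : Led Lsl_bt (LP (LK LD1_c1 LD2_c54 LD3_c52)) = (LP (LK LD1_c0 LD2_c54 LD3_c6)) :=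
  Lre_b IH (LK LD1_c1 LD2_c54 LD3_c52) (LK LD1_c0 LD2_c54 LD3_c6) Lrfl Lrfl
theorem f463111 : Led Lsl_at (LP (LK LD1_c7 LD2_c54 LD3_c6)) = (LP (LK LD1_c3 LD2_c56 LD3_c13)) :=
  Lre_a IH (LK LD1_c7 LD2_c54 LD3_c6) (LK LD1_c3 LD2_c56 LD3_c13) Lrfl Lrfl
theorem f463169 : Led Lsl_ct (LP (LK LD1_c3 LD2_c56 LD3_c13)) = (LP (LK LD1_c7 LD2_c37 LD3_c7)) :=
  Lgr Lrot111 (Lpe (f463111 IH) (Lpr_cf (K28.f463165 IH) (Lpe (K28.f460675 IH) (Lpn (LP (LK LD1_c7 LD2_c37 LD3_c7))))))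
theorem f471240 : Led Lsl_gf (LP (LK LD1_c3 LD2_c55 LD3_c59)) = (LP (LK LD1_c7 LD2_c37 LD3_c7)) :=
  Lgr Lrot126 (Lpr_cf (f471180 IH) (Lpr_bt (f203954 IH) (Lpr_gt (f203948 IH) (Lpr_ct (K28.f142382 IH) (Lpr_gt (f459401 IH) (Lpqs (f470839 IH) (Lpe (f451274 IH) (Lpr_bt (f451830 IH) (Lpr_gt (K28.f451257 IH) (Lpe (K28.f451837 IH) (Lpr_ct (f463169 IH) (Lpn (LP (LK LD1_c7 LD2_c37 LD3_c7))))))))))))))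
theorem f460690 : Led Lsl_ff (LP (LK LD1_c3 LD2_c48 LD3_c28)) = (LP (LK LD1_c7 LD2_c37 LD3_c7)) :=
  Lgr Lrot25 (Lpr_bt (K28.f88017 IH) (Lpr_ft (K24.f460688 IH) (Lpr_bt (K28.f460674 IH) (Lpn (LP (LK LD1_c7 LD2_c37 LD3_c7))))))
theorem f127761 : Led Lsl_at (LP (LK LD1_c3 LD2_c48 LD3_c28)) = (LP (LK LD1_c7 LD2_c37 LD3_c56)) :=
  Lre_a IH (LK LD1_c3 LD2_c48 LD3_c28) (LK LD1_c7 LD2_c37 LD3_c56) Lrfl Lrfl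
theorem f471242 : Led Lsl_gt (LP (LK LD1_c3 LD2_c55 LD3_c59)) = (LP (LK LD1_c7 LD2_c37 LD3_c56)) :=
  Lgr Lrot46 (Lpr_gf (f471240 IH) (Lpe (f460690 IH) (Lpr_at (f127761 IH) (Lpn (LP (LK LD1_c7 LD2_c37 LD3_c56))))))
theorem f471221 : Led Lsl_bt (LP (LK LD1_c1 LD2_c54 LD3_c40)) = (LP (LK LD1_c3 LD2_c55 LD3_c59)) :=
  Lre_b IH (LK LD1_c1 LD2_c54 LD3_c40) (LK LD1_c3 LD2_c55 LD3_c59) Lrfl Lrfl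
theorem f14857 : Led Lsl_gt (LP (LK LD1_c1 LD2_c54 LD3_c35)) = (LP (LK LD1_c0 LD2_c53 LD3_c58)) :=
  Lre_g IH (LK LD1_c1 LD2_c54 LD3_c35) (LK LD1_c0 LD2_c53 LD3_c58) Lrfl Lrfl
theorem f14815 : Led Lsl_ct (LP (LK LD1_c3 LD2_c50 LD3_c57)) = (LP (LK LD1_c1 LD2_c54 LD3_c35)) :=
  Lre_c IH (LK LD1_c3 LD2_c50 LD3_c57) (LK LD1_c1 LD2_c54 LD3_c35) Lrfl Lrfl
theorem f14816 : Led Lsl_bt (LP (LK LD1_c3 LD2_c50 LD3_c57)) = (LP (LK LD1_c7 LD2_c36 LD3_c9)) :=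
  Lre_b IH (LK LD1_c3 LD2_c50 LD3_c57) (LK LD1_c7 LD2_c36 LD3_c9) Lrfl Lrfl
theorem f14842 : Led Lsl_bt (LP (LK LD1_c7 LD2_c36 LD3_c24)) = (LP (LK LD1_c3 LD2_c47 LD3_c43)) :=
  Lre_b IH (LK LD1_c7 LD2_c36 LD3_c24) (LK LD1_c3 LD2_c47 LD3_c43) Lrfl Lrfl
theorem f129551 : Led Lsl_cf (LP (LK LD1_c7 LD2_c51 LD3_c37)) = (LP (LK LD1_c7 LD2_c37 LD3_c56)) :=
  Lgr Lrot11 (Lpr_ct (K28.f129374 IH) (Lpn (LP (LK LD1_c7 LD2_c37 LD3_c56))))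
theorem f463107 : Led Lsl_gt (LP (LK LD1_c7 LD2_c54 LD3_c5)) = (LP (LK LD1_c3 LD2_c56 LD3_c13)) :=
  Lre_g IH (LK LD1_c7 LD2_c54 LD3_c5) (LK LD1_c3 LD2_c56 LD3_c13) Lrfl Lrfl
theorem f463149 : Led Lsl_gf (LP (LK LD1_c7 LD2_c54 LD3_c5)) = (LP (LK LD1_c7 LD2_c51 LD3_c37)) :=
  Lgr Lrot47 (Lpr_gt (f463107 IH) (Lpe (f463111 IH) (Lpr_ff (K28.f463143 IH) (Lpn (LP (LK LD1_c7 LD2_c51 LD3_c37))))))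
theorem f471245 : Led Lsl_ct (LP (LK LD1_c7 LD2_c36 LD3_c24)) = (LP (LK LD1_c7 LD2_c54 LD3_c5)) :=
  Lgr Lrot63 (Lpr_bt (f14842 IH) (Lpr_gt (K7.f14830 IH) (Lpe (f14816 IH) (Lpr_ct (f14815 IH) (Lpr_gt (f14857 IH) (Lpe (f471177 IH) (Lpr_bt (f471221 IH) (Lpr_gt (f471242 IH) (Lpe (f129551 IH) (Lpe (f463149 IH) (Lpn (LP (LK LD1_c7 LD2_c54 LD3_c5)))))))))))))
theorem f14828 : Led Lsl_gt (LP (LK LD1_c7 LD2_c36 LD3_c9)) = (LP (LK LD1_c3 LD2_c47 LD3_c44)) :=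
  Lre_g IH (LK LD1_c7 LD2_c36 LD3_c9) (LK LD1_c3 LD2_c47 LD3_c44) Lrfl Lrfl
theorem f14841 : Led Lsl_ct (LP (LK LD1_c7 LD2_c36 LD3_c29)) = (LP (LK LD1_c3 LD2_c47 LD3_c44)) :=
  Lre_c IH (LK LD1_c7 LD2_c36 LD3_c29) (LK LD1_c3 LD2_c47 LD3_c44) Lrfl Lrfl
theorem f127758 : Led Lsl_bt (LP (LK LD1_c7 LD2_c7 LD3_c31)) = (LP (LK LD1_c3 LD2_c33 LD3_c18)) :=
  Lre_b IH (LK LD1_c7 LD2_c7 LD3_c31) (LK LD1_c3 LD2_c33 LD3_c18) Lrfl Lrfl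
theorem f127759 : Led Lsl_at (LP (LK LD1_c13 LD2_c29 LD3_c59)) = (LP (LK LD1_c7 LD2_c7 LD3_c31)) :=
  Lre_a IH (LK LD1_c13 LD2_c29 LD3_c59) (LK LD1_c7 LD2_c7 LD3_c31) Lrfl Lrfl
theorem f127762 : Led Lsl_bf (LP (LK LD1_c13 LD2_c29 LD3_c59)) = (LP (LK LD1_c7 LD2_c37 LD3_c56)) :=
  Lgr Lrot81 (Lpr_at (f127759 IH) (Lpr_bt (f127758 IH) (Lpr_at (K5.f127754 IH) (Lpr_bt (K28.f127760 IH) (Lpr_at (f127761 IH) (Lpn (LP (LK LD1_c7 LD2_c37 LD3_c56))))))))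
theorem f160494 : Led Lsl_at (LP (LK LD1_c7 LD2_c7 LD3_c31)) = (LP (LK LD1_c13 LD2_c29 LD3_c59)) :=
  Lre_a IH (LK LD1_c7 LD2_c7 LD3_c31) (LK LD1_c13 LD2_c29 LD3_c59) Lrfl Lrfl
theorem f460288 : Led Lsl_gt (LP (LK LD1_c3 LD2_c52 LD3_c45)) = (LP (LK LD1_c7 LD2_c47 LD3_c9)) :=
  Lre_g IH (LK LD1_c3 LD2_c52 LD3_c45) (LK LD1_c7 LD2_c47 LD3_c9) Lrfl Lrfl
theorem f460297 : Led Lsl_gf (LP (LK LD1_c13 LD2_c29 LD3_c59)) = (LP (LK LD1_c7 LD2_c47 LD3_c9)) :=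
  Lgr Lrot76 (Lpe (f160494 IH) (Lpr_ff (K28.f460285 IH) (Lpr_gt (f460288 IH) (Lpn (LP (LK LD1_c7 LD2_c47 LD3_c9))))))
theorem f471261 : Led Lsl_bt (LP (LK LD1_c7 LD2_c36 LD3_c29)) = (LP (LK LD1_c7 LD2_c47 LD3_c9)) :=
  Lgr Lrot22 (Lpr_ct (f14841 IH) (Lpe (f14828 IH) (Lpr_cf (K8.f14791 IH) (Lpe (K7.f14830 IH) (Lpe (f14842 IH) (Lpr_ct (f471245 IH) (Lpr_gf (f463149 IH) (Lpr_cf (f129551 IH) (Lpe (f127762 IH) (Lpr_gf (f460297 IH) (Lpn (LP (LK LD1_c7 LD2_c47 LD3_c9)))))))))))))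
theorem f14832 : Led Lsl_ct (LP (LK LD1_c3 LD2_c47 LD3_c44)) = (LP (LK LD1_c7 LD2_c36 LD3_c29)) :=
  Lre_c IH (LK LD1_c3 LD2_c47 LD3_c44) (LK LD1_c7 LD2_c36 LD3_c29) Lrfl Lrfl
theorem f14970 : Led Lsl_bt (LP (LK LD1_c7 LD2_c36 LD3_c28)) = (LP (LK LD1_c3 LD2_c47 LD3_c44)) :=
  Lre_b IH (LK LD1_c7 LD2_c36 LD3_c28) (LK LD1_c3 LD2_c47 LD3_c44) Lrfl Lrfl
theorem f124278 : Led Lsl_gt (LP (LK LD1_c1 LD2_c48 LD3_c21)) = (LP (LK LD1_c0 LD2_c50 LD3_c56)) :=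
  Lre_g IH (LK LD1_c1 LD2_c48 LD3_c21) (LK LD1_c0 LD2_c50 LD3_c56) Lrfl Lrfl
theorem f12389 : Led Lsl_ft (LP (LK LD1_c1 LD2_c47 LD3_c6)) = (LP (LK LD1_c0 LD2_c50 LD3_c19)) :=
  Lre_f IH (LK LD1_c1 LD2_c47 LD3_c6) (LK LD1_c0 LD2_c50 LD3_c19) Lrfl Lrfl
theorem f203910 : Led Lsl_gf (LP (LK LD1_c1 LD2_c48 LD3_c21)) = (LP (LK LD1_c1 LD2_c47 LD3_c6)) :=
  Lgr Lrot47 (Lpr_gt (f124278 IH) (Lpr_af (K28.f203894 IH) (Lpe (f12389 IH) (Lpn (LP (LK LD1_c1 LD2_c47 LD3_c6))))))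
theorem f470842 : Led Lsl_at (LP (LK LD1_c0 LD2_c54 LD3_c14)) = (LP (LK LD1_c1 LD2_c48 LD3_c21)) :=
  Lgr Lrot26 (Lpr_ff (K28.f451613 IH) (Lpq (f470839 IH) (Lpe (f459402 IH) (Lpe (f203910 IH) (Lpn (LP (LK LD1_c1 LD2_c48 LD3_c21)))))))
theorem f203912 : Led Lsl_ct (LP (LK LD1_c1 LD2_c48 LD3_c21)) = (LP (LK LD1_c3 LD2_c42 LD3_c45)) :=
  Lre_c IH (LK LD1_c1 LD2_c48 LD3_c21) (LK LD1_c3 LD2_c42 LD3_c45) Lrfl Lrfl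
theorem f470848 : Led Lsl_af (LP (LK LD1_c1 LD2_c55 LD3_c1)) = (LP (LK LD1_c3 LD2_c42 LD3_c45)) :=
  Lgr Lrot68 (Lpr_ct (K28.f451290 IH) (Lpr_at (f470842 IH) (Lpr_ct (f203912 IH) (Lpn (LP (LK LD1_c3 LD2_c42 LD3_c45))))))
theorem f470850 : Led Lsl_at (LP (LK LD1_c1 LD2_c55 LD3_c1)) = (LP (LK LD1_c3 LD2_c42 LD3_c45)) :=
  Lgr Lrot100 (Lpr_af (f470848 IH) (Lpn (LP (LK LD1_c3 LD2_c42 LD3_c45))))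
theorem f11701 : Led Lsl_ft (LP (LK LD1_c1 LD2_c54 LD3_c8)) = (LP (LK LD1_c3 LD2_c55 LD3_c6)) :=
  Lre_f IH (LK LD1_c1 LD2_c54 LD3_c8) (LK LD1_c3 LD2_c55 LD3_c6) Lrfl Lrfl
theorem f470371 : Led Lsl_gt (LP (LK LD1_c1 LD2_c54 LD3_c52)) = (LP (LK LD1_c3 LD2_c54 LD3_c7)) :=
  Lgr Lrot46 (Lpr_gf (K28.f470369 IH) (Lpr_ft (f11701 IH) (Lpe (K8.f160024 IH) (Lpn (LP (LK LD1_c3 LD2_c54 LD3_c7))))))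
theorem f470894 : Led Lsl_gt (LP (LK LD1_c3 LD2_c54 LD3_c7)) = (LP (LK LD1_c3 LD2_c42 LD3_c45)) :=
  Lgr Lrot46 (Lpe (f470371 IH) (Lpe (K28.f451621 IH) (Lpr_at (f470850 IH) (Lpn (LP (LK LD1_c3 LD2_c42 LD3_c45))))))
theorem f107177 : Led Lsl_gf (LP (LK LD1_c6 LD2_c34 LD3_c0)) = (LP (LK LD1_c3 LD2_c36 LD3_c42)) :=
  Lgr Lrot76 (Lpr_af (K28.f107173 IH) (Lpe (K3.f17329 IH) (Lpr_gt (K28.f17334 IH) (Lpn (LP (LK LD1_c3 LD2_c36 LD3_c42))))))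
theorem f465250 : Led Lsl_bt (LP (LK LD1_c6 LD2_c30 LD3_c42)) = (LP (LK LD1_c3 LD2_c36 LD3_c42)) :=
  Lgr Lrot127 (Lpr_bf (K28.f465248 IH) (Lpn (LP (LK LD1_c3 LD2_c36 LD3_c42))))
theorem f11244 : Led Lsl_bt (LP (LK LD1_c0 LD2_c24 LD3_c25)) = (LP (LK LD1_c0 LD2_c54 LD3_c14)) :=
  Lre_b IH (LK LD1_c0 LD2_c24 LD3_c25) (LK LD1_c0 LD2_c54 LD3_c14) Lrfl Lrfl
theorem f470844 : Led Lsl_af (LP (LK LD1_c0 LD2_c54 LD3_c14)) = (LP (LK LD1_c1 LD2_c48 LD3_c21)) :=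
  Lgr Lrot0 (Lpr_at (f470842 IH) (Lpn (LP (LK LD1_c1 LD2_c48 LD3_c21))))
theorem f470846 : Led Lsl_bf (LP (LK LD1_c1 LD2_c48 LD3_c21)) = (LP (LK LD1_c1 LD2_c48 LD3_c21)) :=
  Lgr Lrot81 (Lpe (f470844 IH) (Lpr_bt (K28.f451287 IH) (Lpq (K28.f451604 IH) (Lpe (K28.f451300 IH) (Lpr_bt (f11244 IH) (Lpr_at (f470842 IH) (Lpn (LP (LK LD1_c1 LD2_c48 LD3_c21)))))))))
theorem f142384 : Led Lsl_ct (LP (LK LD1_c0 LD2_c50 LD3_c56)) = (LP (LK LD1_c1 LD2_c48 LD3_c20)) :=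
  Lre_c IH (LK LD1_c0 LD2_c50 LD3_c56) (LK LD1_c1 LD2_c48 LD3_c20) Lrfl Lrfl
theorem f470898 : Led Lsl_ct (LP (LK LD1_c6 LD2_c30 LD3_c42)) = (LP (LK LD1_c3 LD2_c42 LD3_c41)) :=
  Lgr Lrot63 (Lpr_bt (f465250 IH) (Lpe (f107177 IH) (Lpe (K28.f95845 IH) (Lpr_ct (K8.f95866 IH) (Lpr_gt (f470894 IH) (Lpe (f203912 IH) (Lpe (f470846 IH) (Lpr_gt (f124278 IH) (Lpr_ct (f142384 IH) (Lpr_gt (K28.f142394 IH) (Lpn (LP (LK LD1_c3 LD2_c42 LD3_c41)))))))))))))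
theorem f470910 : Led Lsl_gf (LP (LK LD1_c1 LD2_c53 LD3_c20)) = (LP (LK LD1_c3 LD2_c39 LD3_c16)) :=
  Lgr Lrot124 (Lpe (K28.f465230 IH) (Lpr_ct (K28.f446568 IH) (Lpe (K28.f465254 IH) (Lpe (K28.f96130 IH) (Lpe (K4.f95836 IH) (Lpr_gt (K28.f95847 IH) (Lpr_ct (f470898 IH) (Lpr_gt (K28.f203876 IH) (Lpe (f12387 IH) (Lpr_bt (f12378 IH) (Lpn (LP (LK LD1_c3 LD2_c39 LD3_c16)))))))))))))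
theorem f470912 : Led Lsl_gt (LP (LK LD1_c1 LD2_c53 LD3_c20)) = (LP (LK LD1_c1 LD2_c46 LD3_c0)) :=
  Lgr Lrot46 (Lpr_gf (f470910 IH) (Lpr_ft (f12377 IH) (Lpr_at (K28.f425221 IH) (Lpn (LP (LK LD1_c1 LD2_c46 LD3_c0))))))
theorem f457721 : Led Lsl_bt (LP (LK LD1_c0 LD2_c53 LD3_c57)) = (LP (LK LD1_c1 LD2_c54 LD3_c36)) :=
  Lre_b IH (LK LD1_c0 LD2_c53 LD3_c57) (LK LD1_c1 LD2_c54 LD3_c36) Lrfl Lrfl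
theorem f452057 : Led Lsl_ct (LP (LK LD1_c0 LD2_c53 LD3_c57)) = (LP (LK LD1_c1 LD2_c54 LD3_c37)) :=
  Lre_c IH (LK LD1_c0 LD2_c53 LD3_c57) (LK LD1_c1 LD2_c54 LD3_c37) Lrfl Lrfl
theorem f470920 : Led Lsl_gf (LP (LK LD1_c1 LD2_c54 LD3_c37)) = (LP (LK LD1_c3 LD2_c55 LD3_c40)) :=
  Lgr Lrot126 (Lpe (f452057 IH) (Lpr_bt (f457721 IH) (Lpe (K28.f465429 IH) (Lpr_ct (K3.f17331 IH) (Lpr_gt (K28.f465256 IH) (Lpe (K28.f446568 IH) (Lpr_bt (K28.f465230 IH) (Lpr_gt (f470912 IH) (Lpe (K28.f86826 IH) (Lpr_ct (K3.f97354 IH) (Lpn (LP (LK LD1_c3 LD2_c55 LD3_c40)))))))))))))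
theorem f457722 : Led Lsl_ct (LP (LK LD1_c1 LD2_c54 LD3_c37)) = (LP (LK LD1_c0 LD2_c53 LD3_c57)) :=
  Lre_c IH (LK LD1_c1 LD2_c54 LD3_c37) (LK LD1_c0 LD2_c53 LD3_c57) Lrfl Lrfl
theorem f14858 : Led Lsl_gt (LP (LK LD1_c0 LD2_c53 LD3_c57)) = (LP (LK LD1_c1 LD2_c54 LD3_c35)) :=
  Lre_g IH (LK LD1_c0 LD2_c53 LD3_c57) (LK LD1_c1 LD2_c54 LD3_c35) Lrfl Lrfl
theorem f96861 : Led Lsl_gt (LP (LK LD1_c7 LD2_c7 LD3_c54)) = (LP (LK LD1_c3 LD2_c33 LD3_c31)) :=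
  Lre_g IH (LK LD1_c7 LD2_c7 LD3_c54) (LK LD1_c3 LD2_c33 LD3_c31) Lrfl Lrfl
theorem f470928 : Led Lsl_ct (LP (LK LD1_c7 LD2_c36 LD3_c28)) = (LP (LK LD1_c7 LD2_c7 LD3_c54)) :=
  Lgr Lrot64 (Lpr_bt (f14970 IH) (Lpe (f14828 IH) (Lpe (f14816 IH) (Lpr_ct (f14815 IH) (Lpe (f14858 IH) (Lpe (f457722 IH) (Lpr_gf (f470920 IH) (Lpe (K28.f96832 IH) (Lpr_ct (K3.f96834 IH) (Lpe (f96861 IH) (Lpn (LP (LK LD1_c7 LD2_c7 LD3_c54)))))))))))))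
theorem f470939 : Led Lsl_cf (LP (LK LD1_c7 LD2_c36 LD3_c28)) = (LP (LK LD1_c7 LD2_c7 LD3_c54)) :=
  Lgr Lrot11 (Lpr_ct (f470928 IH) (Lpn (LP (LK LD1_c7 LD2_c7 LD3_c54))))
theorem f97359 : Led Lsl_bt (LP (LK LD1_c13 LD2_c30 LD3_c30)) = (LP (LK LD1_c7 LD2_c7 LD3_c54)) :=
  Lre_b IH (LK LD1_c13 LD2_c30 LD3_c30) (LK LD1_c7 LD2_c7 LD3_c54) Lrfl Lrfl
theorem f471265 : Led Lsl_cf (LP (LK LD1_c13 LD2_c30 LD3_c30)) = (LP (LK LD1_c7 LD2_c47 LD3_c9)) :=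
  Lgr Lrot97 (Lpr_bt (f97359 IH) (Lpe (f470939 IH) (Lpr_bt (f14970 IH) (Lpr_ct (f14832 IH) (Lpr_bt (f471261 IH) (Lpn (LP (LK LD1_c7 LD2_c47 LD3_c9))))))))
theorem f471268 : Led Lsl_ct (LP (LK LD1_c13 LD2_c30 LD3_c30)) = (LP (LK LD1_c7 LD2_c47 LD3_c9)) :=
  Lgr Lrot59 (Lpr_cf (f471265 IH) (Lpn (LP (LK LD1_c7 LD2_c47 LD3_c9))))
theorem f425505 : Led Lsl_gt (LP (LK LD1_c13 LD2_c30 LD3_c25)) = (LP (LK LD1_c7 LD2_c7 LD3_c54)) :=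
  Lre_g IH (LK LD1_c13 LD2_c30 LD3_c25) (LK LD1_c7 LD2_c7 LD3_c54) Lrfl Lrfl
theorem f425476 : Led Lsl_ft (LP (LK LD1_c7 LD2_c14 LD3_c19)) = (LP (LK LD1_c13 LD2_c41 LD3_c52)) :=
  Lre_f IH (LK LD1_c7 LD2_c14 LD3_c19) (LK LD1_c13 LD2_c41 LD3_c52) Lrfl Lrfl
theorem f162847 : Led Lsl_ft (LP (LK LD1_c13 LD2_c30 LD3_c25)) = (LP (LK LD1_c7 LD2_c7 LD3_c51)) :=
  Lre_f IH (LK LD1_c13 LD2_c30 LD3_c25) (LK LD1_c7 LD2_c7 LD3_c51) Lrfl Lrfl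
theorem f425500 : Led Lsl_bt (LP (LK LD1_c13 LD2_c41 LD3_c52)) = (LP (LK LD1_c13 LD2_c30 LD3_c25)) :=
  Lgr Lrot35 (Lpe (f425476 IH) (Lpr_bf (f425491 IH) (Lpe (f162847 IH) (Lpn (LP (LK LD1_c13 LD2_c30 LD3_c25))))))
theorem f425508 : Led Lsl_cf (LP (LK LD1_c13 LD2_c41 LD3_c52)) = (LP (LK LD1_c13 LD2_c52 LD3_c48)) :=
  Lgr Lrot108 (Lpr_ft (f425479 IH) (Lpr_ct (f425498 IH) (Lpr_ft (f159458 IH) (Lpn (LP (LK LD1_c13 LD2_c52 LD3_c48))))))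
theorem f425511 : Led Lsl_ct (LP (LK LD1_c13 LD2_c41 LD3_c52)) = (LP (LK LD1_c13 LD2_c52 LD3_c48)) :=
  Lgr Lrot59 (Lpr_cf (f425508 IH) (Lpn (LP (LK LD1_c13 LD2_c52 LD3_c48))))
theorem f425517 : Led Lsl_gt (LP (LK LD1_c7 LD2_c20 LD3_c25)) = (LP (LK LD1_c13 LD2_c52 LD3_c48)) :=
  Lre_g IH (LK LD1_c7 LD2_c20 LD3_c25) (LK LD1_c13 LD2_c52 LD3_c48) Lrfl Lrfl
theorem f160483 : Led Lsl_ct (LP (LK LD1_c7 LD2_c7 LD3_c34)) = (LP (LK LD1_c13 LD2_c29 LD3_c59)) :=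
  Lre_c IH (LK LD1_c7 LD2_c7 LD3_c34) (LK LD1_c13 LD2_c29 LD3_c59) Lrfl Lrfl
theorem f160472 : Led Lsl_ct (LP (LK LD1_c3 LD2_c36 LD3_c37)) = (LP (LK LD1_c3 LD2_c54 LD3_c10)) :=
  Lgr Lrot40 (Lpr_ff (K8.f160470 IH) (Lpe (K8.f11763 IH) (Lpe (K8.f159781 IH) (Lpn (LP (LK LD1_c3 LD2_c54 LD3_c10))))))
theorem f160469 : Led Lsl_et (LP (LK LD1_c7 LD2_c13 LD3_c32)) = (LP (LK LD1_c3 LD2_c36 LD3_c37)) :=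
  Lre_e IH (LK LD1_c7 LD2_c13 LD3_c32) (LK LD1_c3 LD2_c36 LD3_c37) Lrfl Lrfl
theorem f160478 : Led Lsl_cf (LP (LK LD1_c7 LD2_c13 LD3_c32)) = (LP (LK LD1_c7 LD2_c49 LD3_c54)) :=
  Lgr Lrot39 (Lpr_et (f160469 IH) (Lpr_ct (f160472 IH) (Lpr_et (K8.f159864 IH) (Lpn (LP (LK LD1_c7 LD2_c49 LD3_c54))))))
theorem f160486 : Led Lsl_ct (LP (LK LD1_c7 LD2_c13 LD3_c32)) = (LP (LK LD1_c7 LD2_c49 LD3_c54)) :=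
  Lgr Lrot59 (Lpr_cf (f160478 IH) (Lpn (LP (LK LD1_c7 LD2_c49 LD3_c54))))
theorem f129550 : Led Lsl_ct (LP (LK LD1_c13 LD2_c29 LD3_c59)) = (LP (LK LD1_c7 LD2_c7 LD3_c34)) :=
  Lre_c IH (LK LD1_c13 LD2_c29 LD3_c59) (LK LD1_c7 LD2_c7 LD3_c34) Lrfl Lrfl
theorem f160488 : Led Lsl_bf (LP (LK LD1_c7 LD2_c13 LD3_c32)) = (LP (LK LD1_c7 LD2_c7 LD3_c34)) :=
  Lgr Lrot90 (Lpr_ct (f160486 IH) (Lpe (K8.f159987 IH) (Lpr_ct (K28.f129374 IH) (Lpe (f127762 IH) (Lpr_ct (f129550 IH) (Lpn (LP (LK LD1_c7 LD2_c7 LD3_c34))))))))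
theorem f455432 : Led Lsl_gt (LP (LK LD1_c13 LD2_c13 LD3_c57)) = (LP (LK LD1_c6 LD2_c58 LD3_c8)) :=
  Lre_g IH (LK LD1_c13 LD2_c13 LD3_c57) (LK LD1_c6 LD2_c58 LD3_c8) Lrfl Lrfl
theorem f464991 : Led Lsl_gt (LP (LK LD1_c7 LD2_c13 LD3_c32)) = (LP (LK LD1_c13 LD2_c13 LD3_c57)) :=
  Lgr Lrot5 (Lpr_ft (K28.f464981 IH) (Lpr_at (K28.f464971 IH) (Lpe (f455432 IH) (Lpn (LP (LK LD1_c13 LD2_c13 LD3_c57))))))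
theorem f471277 : Led Lsl_cf (LP (LK LD1_c7 LD2_c20 LD3_c25)) = (LP (LK LD1_c13 LD2_c13 LD3_c57)) :=
  Lgr Lrot125 (Lpr_gt (f425517 IH) (Lpe (f425511 IH) (Lpr_bt (f425500 IH) (Lpr_gt (f425505 IH) (Lpe (f97359 IH) (Lpr_ct (f471268 IH) (Lpe (f460297 IH) (Lpe (f160483 IH) (Lpe (f160488 IH) (Lpr_gt (f464991 IH) (Lpn (LP (LK LD1_c13 LD2_c13 LD3_c57)))))))))))))
theorem f471279 : Led Lsl_ct (LP (LK LD1_c7 LD2_c20 LD3_c25)) = (LP (LK LD1_c13 LD2_c13 LD3_c57)) :=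
  Lgr Lrot59 (Lpr_cf (f471277 IH) (Lpn (LP (LK LD1_c13 LD2_c13 LD3_c57))))
theorem f425453 : Led Lsl_gt (LP (LK LD1_c3 LD2_c40 LD3_c9)) = (LP (LK LD1_c7 LD2_c20 LD3_c25)) :=
  Lre_g IH (LK LD1_c3 LD2_c40 LD3_c9) (LK LD1_c7 LD2_c20 LD3_c25) Lrfl Lrfl
theorem f12374 : Led Lsl_bt (LP (LK LD1_c1 LD2_c47 LD3_c3)) = (LP (LK LD1_c3 LD2_c40 LD3_c9)) :=
  Lre_b IH (LK LD1_c1 LD2_c47 LD3_c3) (LK LD1_c3 LD2_c40 LD3_c9) Lrfl Lrfl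
def v763 : LQ := Led Lsl_gf (LP (LK LD1_c0 LD2_c50 LD3_c19))
theorem f457136 : Led Lsl_gf (LP (LK LD1_c0 LD2_c50 LD3_c19)) = v763 :=
  Lrfl
theorem f451353 : Led Lsl_bt (LP (LK LD1_c3 LD2_c56 LD3_c34)) = (LP (LK LD1_c1 LD2_c55 LD3_c0)) :=
  Lre_b IH (LK LD1_c3 LD2_c56 LD3_c34) (LK LD1_c1 LD2_c55 LD3_c0) Lrfl Lrfl
theorem f451623 : Led Lsl_bt (LP (LK LD1_c1 LD2_c55 LD3_c1)) = (LP (LK LD1_c0 LD2_c54 LD3_c12)) :=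
  Lre_b IH (LK LD1_c1 LD2_c55 LD3_c1) (LK LD1_c0 LD2_c54 LD3_c12) Lrfl Lrfl
theorem f471297 : v763 = (LP (LK LD1_c0 LD2_c54 LD3_c14)) :=
  (Llr Lrot126 (Lpe (f457136 IH) (Lpe (f12391 IH) (Lpr_bt (f12374 IH) (Lpr_gt (f425453 IH) (Lpr_ct (f471279 IH) (Lpr_gt (f455432 IH) (Lpr_cf (K28.f464696 IH) (Lpr_bt (f451353 IH) (Lpr_gt (K28.f11351 IH) (Lpe (f451623 IH) (Lpr_ct (K28.f451290 IH) (Lpn (LP (LK LD1_c0 LD2_c54 LD3_c14))))))))))))))).symm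
theorem f471714 : Led Lsl_bt (LP (LK LD1_c7 LD2_c25 LD3_c15)) = (LP (LK LD1_c7 LD2_c20 LD3_c25)) :=
  Lgr Lrot92 (Lpe (K28.f465122 IH) (Lpr_gt (K28.f11724 IH) (Lpe (K28.f11686 IH) (Lpr_bt (K8.f11696 IH) (Lpr_gt (K28.f465128 IH) (Lpr_ct (K28.f451290 IH) (Lpq (f471297 IH) (Lpe (f457136 IH) (Lpe (f12391 IH) (Lpr_bt (f12374 IH) (Lpr_gt (f425453 IH) (Lpn (LP (LK LD1_c7 LD2_c20 LD3_c25))))))))))))))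
theorem f160010 : Led Lsl_bf (LP (LK LD1_c7 LD2_c49 LD3_c44)) = (LP (LK LD1_c7 LD2_c51 LD3_c46)) :=
  Lgr Lrot24 (Lpr_bt (K8.f160006 IH) (Lpn (LP (LK LD1_c7 LD2_c51 LD3_c46))))
theorem f129364 : Led Lsl_gt (LP (LK LD1_c14 LD2_c46 LD3_c9)) = (LP (LK LD1_c7 LD2_c49 LD3_c44)) :=
  Lre_g IH (LK LD1_c14 LD2_c46 LD3_c9) (LK LD1_c7 LD2_c49 LD3_c44) Lrfl Lrfl
theorem f425514 : Led Lsl_gt (LP (LK LD1_c13 LD2_c41 LD3_c52)) = (LP (LK LD1_c7 LD2_c14 LD3_c21)) :=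
  Lre_g IH (LK LD1_c13 LD2_c41 LD3_c52) (LK LD1_c7 LD2_c14 LD3_c21) Lrfl Lrfl
theorem f14963 : Led Lsl_gt (LP (LK LD1_c3 LD2_c47 LD3_c44)) = (LP (LK LD1_c1 LD2_c50 LD3_c55)) :=
  Lre_g IH (LK LD1_c3 LD2_c47 LD3_c44) (LK LD1_c1 LD2_c50 LD3_c55) Lrfl Lrfl
theorem f14953 : Led Lsl_bt (LP (LK LD1_c0 LD2_c52 LD3_c21)) = (LP (LK LD1_c1 LD2_c50 LD3_c55)) :=
  Lre_b IH (LK LD1_c0 LD2_c52 LD3_c21) (LK LD1_c1 LD2_c50 LD3_c55) Lrfl Lrfl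
theorem f129819 : Led Lsl_bt (LP (LK LD1_c1 LD2_c51 LD3_c0)) = (LP (LK LD1_c3 LD2_c48 LD3_c2)) :=
  Lre_b IH (LK LD1_c1 LD2_c51 LD3_c0) (LK LD1_c3 LD2_c48 LD3_c2) Lrfl Lrfl
theorem f129883 : Led Lsl_gt (LP (LK LD1_c3 LD2_c48 LD3_c2)) = (LP (LK LD1_c7 LD2_c37 LD3_c9)) :=
  Lre_g IH (LK LD1_c3 LD2_c48 LD3_c2) (LK LD1_c7 LD2_c37 LD3_c9) Lrfl Lrfl
theorem f470948 : Led Lsl_ct (LP (LK LD1_c7 LD2_c37 LD3_c9)) = (LP (LK LD1_c13 LD2_c30 LD3_c25)) :=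
  Lgr Lrot91 (Lpe (f129883 IH) (Lpe (f129819 IH) (Lpr_ct (K24.f129788 IH) (Lpe (K24.f85281 IH) (Lpe (K28.f14951 IH) (Lpr_bt (f14953 IH) (Lpe (f14963 IH) (Lpe (f14970 IH) (Lpr_ct (f470928 IH) (Lpe (f425505 IH) (Lpn (LP (LK LD1_c13 LD2_c30 LD3_c25)))))))))))))
theorem f470951 : Led Lsl_cf (LP (LK LD1_c7 LD2_c37 LD3_c9)) = (LP (LK LD1_c13 LD2_c30 LD3_c25)) :=
  Lgr Lrot11 (Lpr_ct (f470948 IH) (Lpn (LP (LK LD1_c13 LD2_c30 LD3_c25))))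
theorem f129879 : Led Lsl_bt (LP (LK LD1_c3 LD2_c48 LD3_c2)) = (LP (LK LD1_c1 LD2_c51 LD3_c0)) :=
  Lre_b IH (LK LD1_c3 LD2_c48 LD3_c2) (LK LD1_c1 LD2_c51 LD3_c0) Lrfl Lrfl
theorem f461963 : Led Lsl_bt (LP (LK LD1_c3 LD2_c36 LD3_c39)) = (LP (LK LD1_c7 LD2_c13 LD3_c35)) :=
  Lre_b IH (LK LD1_c3 LD2_c36 LD3_c39) (LK LD1_c7 LD2_c13 LD3_c35) Lrfl Lrfl
theorem f461976 : Led Lsl_cf (LP (LK LD1_c3 LD2_c48 LD3_c2)) = (LP (LK LD1_c7 LD2_c13 LD3_c35)) :=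
  Lgr Lrot97 (Lpr_bt (f129879 IH) (Lpr_ct (K24.f129788 IH) (Lpr_bt (K28.f129655 IH) (Lpr_ct (K28.f461973 IH) (Lpr_bt (f461963 IH) (Lpn (LP (LK LD1_c7 LD2_c13 LD3_c35))))))))
theorem f160516 : Led Lsl_bt (LP (LK LD1_c7 LD2_c13 LD3_c35)) = (LP (LK LD1_c3 LD2_c36 LD3_c39)) :=
  Lre_b IH (LK LD1_c7 LD2_c13 LD3_c35) (LK LD1_c3 LD2_c36 LD3_c39) Lrfl Lrfl
theorem f160480 : Led Lsl_at (LP (LK LD1_c7 LD2_c13 LD3_c32)) = (LP (LK LD1_c3 LD2_c36 LD3_c38)) :=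
  Lre_a IH (LK LD1_c7 LD2_c13 LD3_c32) (LK LD1_c3 LD2_c36 LD3_c38) Lrfl Lrfl
theorem f160481 : Led Lsl_ct (LP (LK LD1_c3 LD2_c36 LD3_c38)) = (LP (LK LD1_c3 LD2_c54 LD3_c11)) :=
  Lgr Lrot111 (Lpe (f160480 IH) (Lpr_cf (f160478 IH) (Lpe (K28.f159989 IH) (Lpn (LP (LK LD1_c3 LD2_c54 LD3_c11))))))
theorem f160515 : Led Lsl_gt (LP (LK LD1_c7 LD2_c49 LD3_c56)) = (LP (LK LD1_c3 LD2_c54 LD3_c11)) :=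
  Lre_g IH (LK LD1_c7 LD2_c49 LD3_c56) (LK LD1_c3 LD2_c54 LD3_c11) Lrfl Lrfl
theorem f425307 : Led Lsl_bf (LP (LK LD1_c13 LD2_c41 LD3_c52)) = (LP (LK LD1_c13 LD2_c30 LD3_c25)) :=
  Lgr Lrot81 (Lpr_at (f425305 IH) (Lpr_bt (f425304 IH) (Lpr_at (K28.f425300 IH) (Lpr_bt (f97347 IH) (Lpr_at (K28.f425306 IH) (Lpn (LP (LK LD1_c13 LD2_c30 LD3_c25))))))))
theorem f470973 : Led Lsl_cf (LP (LK LD1_c7 LD2_c49 LD3_c56)) = (LP (LK LD1_c7 LD2_c14 LD3_c21)) :=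
  Lgr Lrot125 (Lpr_gt (f160515 IH) (Lpe (f160481 IH) (Lpr_bt (K28.f160490 IH) (Lpr_gt (K28.f94439 IH) (Lpe (f160516 IH) (Lpe (f461976 IH) (Lpr_gt (f129883 IH) (Lpr_cf (f470951 IH) (Lpe (f425307 IH) (Lpr_gt (f425514 IH) (Lpn (LP (LK LD1_c7 LD2_c14 LD3_c21)))))))))))))
theorem f470975 : Led Lsl_ct (LP (LK LD1_c7 LD2_c49 LD3_c56)) = (LP (LK LD1_c7 LD2_c14 LD3_c21)) :=
  Lgr Lrot59 (Lpr_cf (f470973 IH) (Lpn (LP (LK LD1_c7 LD2_c14 LD3_c21))))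
theorem f471722 : Led Lsl_bf (LP (LK LD1_c14 LD2_c46 LD3_c9)) = (LP (LK LD1_c7 LD2_c49 LD3_c56)) :=
  Lgr Lrot156 (Lpr_gt (f129364 IH) (Lpr_bf (f160010 IH) (Lpr_ct (f11779 IH) (Lpr_gt (K28.f11793 IH) (Lpr_cf (K28.f465122 IH) (Lpr_bt (f471714 IH) (Lpr_gt (f425517 IH) (Lpe (f425508 IH) (Lpr_gt (f425514 IH) (Lpe (f470975 IH) (Lpn (LP (LK LD1_c7 LD2_c49 LD3_c56)))))))))))))
theorem f95881 : Led Lsl_gt (LP (LK LD1_c7 LD2_c49 LD3_c48)) = (LP (LK LD1_c14 LD2_c46 LD3_c9)) :=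
  Lre_g IH (LK LD1_c7 LD2_c49 LD3_c48) (LK LD1_c14 LD2_c46 LD3_c9) Lrfl Lrfl
theorem f11672 : Led Lsl_gt (LP (LK LD1_c1 LD2_c43 LD3_c15)) = (LP (LK LD1_c3 LD2_c32 LD3_c61)) :=
  Lre_g IH (LK LD1_c1 LD2_c43 LD3_c15) (LK LD1_c3 LD2_c32 LD3_c61) Lrfl Lrfl
theorem f160090 : Led Lsl_gf (LP (LK LD1_c6 LD2_c30 LD3_c44)) = (LP (LK LD1_c3 LD2_c32 LD3_c61)) :=
  Lgr Lrot76 (Lpr_af (K8.f160084 IH) (Lpe (K8.f11668 IH) (Lpr_gt (f11672 IH) (Lpn (LP (LK LD1_c3 LD2_c32 LD3_c61))))))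
theorem f425456 : Led Lsl_gt (LP (LK LD1_c7 LD2_c14 LD3_c21)) = (LP (LK LD1_c3 LD2_c37 LD3_c0)) :=
  Lre_g IH (LK LD1_c7 LD2_c14 LD3_c21) (LK LD1_c3 LD2_c37 LD3_c0) Lrfl Lrfl
theorem f425443 : Led Lsl_cf (LP (LK LD1_c3 LD2_c37 LD3_c0)) = (LP (LK LD1_c3 LD2_c40 LD3_c9)) :=
  Lgr Lrot11 (Lpr_ct (f425436 IH) (Lpn (LP (LK LD1_c3 LD2_c40 LD3_c9))))
theorem f471728 : Led Lsl_cf (LP (LK LD1_c3 LD2_c32 LD3_c61)) = (LP (LK LD1_c3 LD2_c40 LD3_c12)) :=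
  Lgr Lrot125 (Lpe (f160090 IH) (Lpr_cf (K8.f95875 IH) (Lpr_bt (K8.f95874 IH) (Lpr_gt (f95881 IH) (Lpr_bf (f471722 IH) (Lpr_ct (f470975 IH) (Lpr_gt (f425456 IH) (Lpr_cf (f425443 IH) (Lpr_bt (f12392 IH) (Lpr_gt (K28.f12401 IH) (Lpn (LP (LK LD1_c3 LD2_c40 LD3_c12)))))))))))))
theorem f471730 : Led Lsl_ct (LP (LK LD1_c3 LD2_c32 LD3_c61)) = (LP (LK LD1_c3 LD2_c40 LD3_c12)) :=
  Lgr Lrot59 (Lpr_cf (f471728 IH) (Lpn (LP (LK LD1_c3 LD2_c40 LD3_c12))))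
theorem f471738 : Led Lsl_bt (LP (LK LD1_c3 LD2_c40 LD3_c12)) = (LP (LK LD1_c7 LD2_c20 LD3_c35)) :=
  Lre_b IH (LK LD1_c3 LD2_c40 LD3_c12) (LK LD1_c7 LD2_c20 LD3_c35) Lrfl Lrfl
theorem f457137 : Led Lsl_gt (LP (LK LD1_c1 LD2_c48 LD3_c23)) = v763 :=
  Lgr Lrot5 (Lpr_ft (K28.f203884 IH) (Lpr_at (K28.f203885 IH) (Lpr_gf (f457136 IH) (Lpn v763))))
theorem f203835 : Led Lsl_ct (LP (LK LD1_c3 LD2_c42 LD3_c44)) = (LP (LK LD1_c1 LD2_c48 LD3_c23)) :=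
  Lre_c IH (LK LD1_c3 LD2_c42 LD3_c44) (LK LD1_c1 LD2_c48 LD3_c23) Lrfl Lrfl
theorem f203933 : Led Lsl_bt (LP (LK LD1_c7 LD2_c20 LD3_c35)) = (LP (LK LD1_c3 LD2_c40 LD3_c12)) :=
  Lre_b IH (LK LD1_c7 LD2_c20 LD3_c35) (LK LD1_c3 LD2_c40 LD3_c12) Lrfl Lrfl
theorem f471712 : Led Lsl_cf (LP (LK LD1_c7 LD2_c37 LD3_c57)) = (LP (LK LD1_c7 LD2_c20 LD3_c35)) :=
  Lgr Lrot58 (Lpe (K28.f88239 IH) (Lpe (K28.f128077 IH) (Lpr_bt (K28.f121202 IH) (Lpr_gf (K28.f463653 IH) (Lpe (f451623 IH) (Lpr_ct (K28.f451290 IH) (Lpq (f471297 IH) (Lpe (f457137 IH) (Lpe (f203835 IH) (Lpr_gf (K28.f203931 IH) (Lpe (f203933 IH) (Lpn (LP (LK LD1_c7 LD2_c20 LD3_c35))))))))))))))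
theorem f463727 : Led Lsl_bt (LP (LK LD1_c7 LD2_c37 LD3_c57)) = (LP (LK LD1_c3 LD2_c55 LD3_c52)) :=
  Lgr Lrot127 (Lpr_bf (K28.f463725 IH) (Lpn (LP (LK LD1_c3 LD2_c55 LD3_c52))))
theorem f471753 : Led Lsl_bf (LP (LK LD1_c3 LD2_c32 LD3_c61)) = (LP (LK LD1_c1 LD2_c54 LD3_c33)) :=
  Lgr Lrot90 (Lpr_ct (f471730 IH) (Lpr_bt (f471738 IH) (Lpe (f471712 IH) (Lpr_bt (f463727 IH) (Lpr_ct (K28.f463724 IH) (Lpn (LP (LK LD1_c1 LD2_c54 LD3_c33))))))))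
theorem f203896 : Led Lsl_bt (LP (LK LD1_c1 LD2_c48 LD3_c11)) = (LP (LK LD1_c0 LD2_c50 LD3_c56)) :=
  Lre_b IH (LK LD1_c1 LD2_c48 LD3_c11) (LK LD1_c0 LD2_c50 LD3_c56) Lrfl Lrfl
theorem f14919 : Led Lsl_ct (LP (LK LD1_c1 LD2_c54 LD3_c33)) = (LP (LK LD1_c3 LD2_c55 LD3_c52)) :=
  Lre_c IH (LK LD1_c1 LD2_c54 LD3_c33) (LK LD1_c3 LD2_c55 LD3_c52) Lrfl Lrfl
theorem f471769 : Led Lsl_gt (LP (LK LD1_c3 LD2_c26 LD3_c25)) = (LP (LK LD1_c3 LD2_c55 LD3_c52)) :=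
  Lgr Lrot65 (Lpe (K28.f425199 IH) (Lpr_bt (f203896 IH) (Lpe (f124278 IH) (Lpr_bf (f470846 IH) (Lpr_ct (f203912 IH) (Lpe (f470894 IH) (Lpe (K8.f95866 IH) (Lpr_gf (f160090 IH) (Lpr_bf (f471753 IH) (Lpr_ct (f14919 IH) (Lpn (LP (LK LD1_c3 LD2_c55 LD3_c52)))))))))))))
theorem f102561 : Led Lsl_gt (LP (LK LD1_c6 LD2_c54 LD3_c43)) = (LP (LK LD1_c13 LD2_c7 LD3_c57)) :=
  Lre_g IH (LK LD1_c6 LD2_c54 LD3_c43) (LK LD1_c13 LD2_c7 LD3_c57) Lrfl Lrfl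
theorem f17107 : Led Lsl_ct (LP (LK LD1_c0 LD2_c53 LD3_c60)) = (LP (LK LD1_c1 LD2_c52 LD3_c27)) :=
  Lre_c IH (LK LD1_c0 LD2_c53 LD3_c60) (LK LD1_c1 LD2_c52 LD3_c27) Lrfl Lrfl
theorem f15387 : Led Lsl_dt (LP (LK LD1_c3 LD2_c51 LD3_c13)) = (LP (LK LD1_c1 LD2_c52 LD3_c27)) :=
  Lre_d IH (LK LD1_c3 LD2_c51 LD3_c13) (LK LD1_c1 LD2_c52 LD3_c27) Lrfl Lrfl
theorem f91102 : Led Lsl_ct (LP (LK LD1_c7 LD2_c43 LD3_c52)) = (LP (LK LD1_c3 LD2_c51 LD3_c13)) :=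
  Lre_c IH (LK LD1_c7 LD2_c43 LD3_c52) (LK LD1_c3 LD2_c51 LD3_c13) Lrfl Lrfl
theorem f463742 : Led Lsl_gt (LP (LK LD1_c14 LD2_c32 LD3_c50)) = (LP (LK LD1_c7 LD2_c43 LD3_c52)) :=
  Lre_g IH (LK LD1_c14 LD2_c32 LD3_c50) (LK LD1_c7 LD2_c43 LD3_c52) Lrfl Lrfl
theorem f471771 : Led Lsl_ct (LP (LK LD1_c13 LD2_c7 LD3_c57)) = (LP (LK LD1_c14 LD2_c32 LD3_c50)) :=
  Lgr Lrot152 (Lpe (f102561 IH) (Lpe (K8.f102560 IH) (Lpr_gt (f471769 IH) (Lpr_ct (K28.f463724 IH) (Lpr_gt (K28.f11247 IH) (Lpr_ct (f17107 IH) (Lpe (f15387 IH) (Lpe (f91102 IH) (Lpe (f463742 IH) (Lpn (LP (LK LD1_c14 LD2_c32 LD3_c50))))))))))))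
theorem f91006 : Led Lsl_gt (LP (LK LD1_c7 LD2_c43 LD3_c1)) = (LP (LK LD1_c14 LD2_c32 LD3_c50)) :=
  Lre_g IH (LK LD1_c7 LD2_c43 LD3_c1) (LK LD1_c14 LD2_c32 LD3_c50) Lrfl Lrfl
theorem f91005 : Led Lsl_ct (LP (LK LD1_c3 LD2_c50 LD3_c56)) = (LP (LK LD1_c7 LD2_c43 LD3_c1)) :=
  Lre_c IH (LK LD1_c3 LD2_c50 LD3_c56) (LK LD1_c7 LD2_c43 LD3_c1) Lrfl Lrfl
theorem f461571 : Led Lsl_bt (LP (LK LD1_c3 LD2_c50 LD3_c56)) = (LP (LK LD1_c7 LD2_c36 LD3_c8)) :=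
  Lre_b IH (LK LD1_c3 LD2_c50 LD3_c56) (LK LD1_c7 LD2_c36 LD3_c8) Lrfl Lrfl
theorem f14802 : Led Lsl_bt (LP (LK LD1_c23 LD2_c57 LD3_c60)) = (LP (LK LD1_c14 LD2_c19 LD3_c60)) :=
  Lre_b IH (LK LD1_c23 LD2_c57 LD3_c60) (LK LD1_c14 LD2_c19 LD3_c60) Lrfl Lrfl
theorem f461144 : Led Lsl_ct (LP (LK LD1_c7 LD2_c3 LD3_c34)) = (LP (LK LD1_c3 LD2_c52 LD3_c19)) :=
  Lgr Lrot59 (Lpr_cf (f461122 IH) (Lpn (LP (LK LD1_c3 LD2_c52 LD3_c19))))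
theorem f87993 : Led Lsl_ct (LP (LK LD1_c7 LD2_c37 LD3_c59)) = (LP (LK LD1_c14 LD2_c23 LD3_c3)) :=
  Lre_c IH (LK LD1_c7 LD2_c37 LD3_c59) (LK LD1_c14 LD2_c23 LD3_c3) Lrfl Lrfl
theorem f87994 : Led Lsl_gt (LP (LK LD1_c24 LD2_c1 LD3_c25)) = (LP (LK LD1_c14 LD2_c23 LD3_c3)) :=
  Lre_g IH (LK LD1_c24 LD2_c1 LD3_c25) (LK LD1_c14 LD2_c23 LD3_c3) Lrfl Lrfl
theorem f460446 : Led Lsl_ct (LP (LK LD1_c3 LD2_c47 LD3_c61)) = (LP (LK LD1_c7 LD2_c2 LD3_c58)) :=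
  Lre_c IH (LK LD1_c3 LD2_c47 LD3_c61) (LK LD1_c7 LD2_c2 LD3_c58) Lrfl Lrfl
theorem f425689 : Led Lsl_bt (LP (LK LD1_c3 LD2_c47 LD3_c61)) = (LP (LK LD1_c7 LD2_c36 LD3_c34)) :=
  Lre_b IH (LK LD1_c3 LD2_c47 LD3_c61) (LK LD1_c7 LD2_c36 LD3_c34) Lrfl Lrfl
theorem f461566 : Led Lsl_cf (LP (LK LD1_c24 LD2_c1 LD3_c25)) = (LP (LK LD1_c23 LD2_c57 LD3_c60)) :=
  Lgr Lrot160 (Lpr_gt (f87994 IH) (Lpe (f87993 IH) (Lpr_bt (K5.f87990 IH) (Lpe (K5.f87974 IH) (Lpr_ct (f461144 IH) (Lpr_gt (f459900 IH) (Lpe (f460446 IH) (Lpr_bt (f425689 IH) (Lpr_gt (K8.f16055 IH) (Lpe (f14802 IH) (Lpn (LP (LK LD1_c23 LD2_c57 LD3_c60)))))))))))))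
theorem f88285 : Led Lsl_dt (LP (LK LD1_c3 LD2_c48 LD3_c28)) = (LP (LK LD1_c7 LD2_c37 LD3_c59)) :=
  Lre_d IH (LK LD1_c3 LD2_c48 LD3_c28) (LK LD1_c7 LD2_c37 LD3_c59) Lrfl Lrfl
theorem f88274 : Led Lsl_at (LP (LK LD1_c24 LD2_c1 LD3_c18)) = (LP (LK LD1_c14 LD2_c23 LD3_c3)) :=
  Lre_a IH (LK LD1_c24 LD2_c1 LD3_c18) (LK LD1_c14 LD2_c23 LD3_c3) Lrfl Lrfl
theorem f461080 : Led Lsl_ff (LP (LK LD1_c24 LD2_c1 LD3_c18)) = (LP (LK LD1_c31 LD2_c18 LD3_c37)) :=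
  Lgr Lrot103 (Lpr_at (f88274 IH) (Lpe (f87993 IH) (Lpe (f88285 IH) (Lpe (K28.f128077 IH) (Lpe (K28.f121117 IH) (Lpe (K28.f121106 IH) (Lpe (K28.f121175 IH) (Lpe (K28.f440178 IH) (Lpr_df (K28.f461072 IH) (Lpn (LP (LK LD1_c31 LD2_c18 LD3_c37))))))))))))
theorem f461089 : Led Lsl_gf (LP (LK LD1_c24 LD2_c1 LD3_c25)) = (LP (LK LD1_c31 LD2_c18 LD3_c37)) :=
  Lgr Lrot47 (Lpr_gt (f87994 IH) (Lpe (f88274 IH) (Lpr_ff (f461080 IH) (Lpn (LP (LK LD1_c31 LD2_c18 LD3_c37))))))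
theorem f88221 : Led Lsl_gt (LP (LK LD1_c7 LD2_c37 LD3_c59)) = (LP (LK LD1_c14 LD2_c23 LD3_c1)) :=
  Lre_g IH (LK LD1_c7 LD2_c37 LD3_c59) (LK LD1_c14 LD2_c23 LD3_c1) Lrfl Lrfl
theorem f461065 : Led Lsl_gt (LP (LK LD1_c14 LD2_c23 LD3_c1)) = (LP (LK LD1_c23 LD2_c59 LD3_c44)) :=
  Lgr Lrot46 (Lpe (f88221 IH) (Lpr_ft (K28.f460697 IH) (Lpr_at (K28.f461055 IH) (Lpn (LP (LK LD1_c23 LD2_c59 LD3_c44))))))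
theorem f471786 : Led Lsl_bt (LP (LK LD1_c13 LD2_c7 LD3_c57)) = (LP (LK LD1_c14 LD2_c23 LD3_c1)) :=
  Lgr Lrot130 (Lpr_ct (f471771 IH) (Lpe (f91006 IH) (Lpe (f91005 IH) (Lpr_bt (f461571 IH) (Lpe (K8.f14799 IH) (Lpe (f14802 IH) (Lpe (f461566 IH) (Lpr_gf (f461089 IH) (Lpe (K28.f461074 IH) (Lpe (f461065 IH) (Lpn (LP (LK LD1_c14 LD2_c23 LD3_c1)))))))))))))
theorem f88277 : Led Lsl_ct (LP (LK LD1_c24 LD2_c1 LD3_c18)) = (LP (LK LD1_c14 LD2_c22 LD3_c61)) :=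
  Lre_c IH (LK LD1_c24 LD2_c1 LD3_c18) (LK LD1_c14 LD2_c22 LD3_c61) Lrfl Lrfl
theorem f461085 : Led Lsl_ft (LP (LK LD1_c14 LD2_c22 LD3_c61)) = (LP (LK LD1_c23 LD2_c59 LD3_c44)) :=
  Lgr Lrot4 (Lpe (f88277 IH) (Lpr_ff (f461080 IH) (Lpe (K28.f461074 IH) (Lpn (LP (LK LD1_c23 LD2_c59 LD3_c44))))))
theorem f104025 : Led Lsl_bt (LP (LK LD1_c7 LD2_c7 LD3_c32)) = (LP (LK LD1_c13 LD2_c30 LD3_c0)) :=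
  Lre_b IH (LK LD1_c7 LD2_c7 LD3_c32) (LK LD1_c13 LD2_c30 LD3_c0) Lrfl Lrfl
theorem f104040 : Led Lsl_at (LP (LK LD1_c13 LD2_c30 LD3_c0)) = (LP (LK LD1_c22 LD2_c50 LD3_c45)) :=
  Lre_a IH (LK LD1_c13 LD2_c30 LD3_c0) (LK LD1_c22 LD2_c50 LD3_c45) Lrfl Lrfl
theorem f88261 : Led Lsl_at (LP (LK LD1_c14 LD2_c22 LD3_c61)) = (LP (LK LD1_c7 LD2_c37 LD3_c59)) :=
  Lre_a IH (LK LD1_c14 LD2_c22 LD3_c61) (LK LD1_c7 LD2_c37 LD3_c59) Lrfl Lrfl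
theorem f127768 : Led Lsl_bt (LP (LK LD1_c22 LD2_c50 LD3_c45)) = (LP (LK LD1_c14 LD2_c22 LD3_c61)) :=
  Lgr Lrot62 (Lpe (f104040 IH) (Lpe (f104025 IH) (Lpr_af (K5.f127764 IH) (Lpe (K5.f87990 IH) (Lpe (f88261 IH) (Lpn (LP (LK LD1_c14 LD2_c22 LD3_c61))))))))
theorem f460302 : Led Lsl_ff (LP (LK LD1_c13 LD2_c29 LD3_c59)) = (LP (LK LD1_c7 LD2_c47 LD3_c11)) :=
  Lgr Lrot30 (Lpr_at (f127759 IH) (Lpr_ft (K28.f460295 IH) (Lpr_at (K28.f460278 IH) (Lpn (LP (LK LD1_c7 LD2_c47 LD3_c11))))))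
theorem f104071 : Led Lsl_dt (LP (LK LD1_c13 LD2_c29 LD3_c59)) = (LP (LK LD1_c22 LD2_c50 LD3_c45)) :=
  Lre_d IH (LK LD1_c13 LD2_c29 LD3_c59) (LK LD1_c22 LD2_c50 LD3_c45) Lrfl Lrfl
theorem f460312 : Led Lsl_dt (LP (LK LD1_c14 LD2_c41 LD3_c30)) = (LP (LK LD1_c7 LD2_c47 LD3_c11)) :=
  Lre_d IH (LK LD1_c14 LD2_c41 LD3_c30) (LK LD1_c7 LD2_c47 LD3_c11) Lrfl Lrfl
theorem f460314 : Led Lsl_ft (LP (LK LD1_c22 LD2_c50 LD3_c45)) = (LP (LK LD1_c14 LD2_c41 LD3_c30)) :=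
  Lgr Lrot54 (Lpe (f104071 IH) (Lpr_ff (f460302 IH) (Lpe (f460312 IH) (Lpn (LP (LK LD1_c14 LD2_c41 LD3_c30))))))
theorem f460366 : Led Lsl_ff (LP (LK LD1_c22 LD2_c50 LD3_c45)) = (LP (LK LD1_c14 LD2_c41 LD3_c30)) :=
  Lgr Lrot3 (Lpr_ft (f460314 IH) (Lpn (LP (LK LD1_c14 LD2_c41 LD3_c30))))
theorem f461093 : Led Lsl_bf (LP (LK LD1_c14 LD2_c41 LD3_c30)) = (LP (LK LD1_c23 LD2_c59 LD3_c44)) :=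
  Lgr Lrot61 (Lpe (f460366 IH) (Lpr_bt (f127768 IH) (Lpr_ft (f461085 IH) (Lpn (LP (LK LD1_c23 LD2_c59 LD3_c44))))))
theorem f461100 : Led Lsl_bt (LP (LK LD1_c14 LD2_c41 LD3_c30)) = (LP (LK LD1_c23 LD2_c59 LD3_c44)) :=
  Lgr Lrot127 (Lpr_bf (f461093 IH) (Lpn (LP (LK LD1_c23 LD2_c59 LD3_c44))))
theorem f460310 : Led Lsl_ct (LP (LK LD1_c14 LD2_c41 LD3_c30)) = (LP (LK LD1_c24 LD2_c26 LD3_c6)) :=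
  Lre_c IH (LK LD1_c14 LD2_c41 LD3_c30) (LK LD1_c24 LD2_c26 LD3_c6) Lrfl Lrfl
theorem f14915 : Led Lsl_gt (LP (LK LD1_c7 LD2_c43 LD3_c0)) = (LP (LK LD1_c3 LD2_c50 LD3_c56)) :=
  Lre_g IH (LK LD1_c7 LD2_c43 LD3_c0) (LK LD1_c3 LD2_c50 LD3_c56) Lrfl Lrfl
theorem f14916 : Led Lsl_bt (LP (LK LD1_c14 LD2_c32 LD3_c47)) = (LP (LK LD1_c7 LD2_c43 LD3_c0)) :=
  Lre_b IH (LK LD1_c14 LD2_c32 LD3_c47) (LK LD1_c7 LD2_c43 LD3_c0) Lrfl Lrfl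
theorem f91078 : Led Lsl_ct (LP (LK LD1_c14 LD2_c32 LD3_c47)) = (LP (LK LD1_c24 LD2_c15 LD3_c11)) :=
  Lre_c IH (LK LD1_c14 LD2_c32 LD3_c47) (LK LD1_c24 LD2_c15 LD3_c11) Lrfl Lrfl
theorem f471788 : Led Lsl_gt (LP (LK LD1_c24 LD2_c26 LD3_c6)) = (LP (LK LD1_c24 LD2_c15 LD3_c11)) :=
  Lgr Lrot65 (Lpe (f460310 IH) (Lpr_bt (f461100 IH) (Lpe (f461065 IH) (Lpe (f471786 IH) (Lpr_ct (f471771 IH) (Lpe (f91006 IH) (Lpe (f91005 IH) (Lpe (f14915 IH) (Lpe (f14916 IH) (Lpr_ct (f91078 IH) (Lpn (LP (LK LD1_c24 LD2_c15 LD3_c11)))))))))))))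
theorem f459878 : Led Lsl_bt (LP (LK LD1_c0 LD2_c53 LD3_c2)) = (LP (LK LD1_c1 LD2_c52 LD3_c26)) :=
  Lre_b IH (LK LD1_c0 LD2_c53 LD3_c2) (LK LD1_c1 LD2_c52 LD3_c26) Lrfl Lrfl
theorem f11869 : Led Lsl_gt (LP (LK LD1_c1 LD2_c52 LD3_c26)) = (LP (LK LD1_c3 LD2_c51 LD3_c10)) :=
  Lre_g IH (LK LD1_c1 LD2_c52 LD3_c26) (LK LD1_c3 LD2_c51 LD3_c10) Lrfl Lrfl
theorem f14853 : Led Lsl_bt (LP (LK LD1_c7 LD2_c43 LD3_c42)) = (LP (LK LD1_c3 LD2_c51 LD3_c10)) :=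
  Lre_b IH (LK LD1_c7 LD2_c43 LD3_c42) (LK LD1_c3 LD2_c51 LD3_c10) Lrfl Lrfl
theorem f460439 : Led Lsl_ct (LP (LK LD1_c7 LD2_c43 LD3_c42)) = (LP (LK LD1_c14 LD2_c34 LD3_c14)) :=
  Lre_c IH (LK LD1_c7 LD2_c43 LD3_c42) (LK LD1_c14 LD2_c34 LD3_c14) Lrfl Lrfl
theorem f460154 : Led Lsl_bt (LP (LK LD1_c7 LD2_c47 LD3_c12)) = (LP (LK LD1_c3 LD2_c52 LD3_c46)) :=
  Lre_b IH (LK LD1_c7 LD2_c47 LD3_c12) (LK LD1_c3 LD2_c52 LD3_c46) Lrfl Lrfl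
theorem f460299 : Led Lsl_ct (LP (LK LD1_c7 LD2_c47 LD3_c12)) = (LP (LK LD1_c14 LD2_c41 LD3_c33)) :=
  Lre_c IH (LK LD1_c7 LD2_c47 LD3_c12) (LK LD1_c14 LD2_c41 LD3_c33) Lrfl Lrfl
theorem f460440 : Led Lsl_gt (LP (LK LD1_c14 LD2_c34 LD3_c14)) = (LP (LK LD1_c14 LD2_c41 LD3_c33)) :=
  Lgr Lrot65 (Lpe (f460439 IH) (Lpr_bt (f14853 IH) (Lpe (f11869 IH) (Lpe (f459878 IH) (Lpr_ct (f459879 IH) (Lpe (K24.f156646 IH) (Lpr_cf (K24.f460415 IH) (Lpe (K24.f63037 IH) (Lpe (f460154 IH) (Lpr_ct (f460299 IH) (Lpn (LP (LK LD1_c14 LD2_c41 LD3_c33)))))))))))))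
theorem f460447 : Led Lsl_gt (LP (LK LD1_c24 LD2_c16 LD3_c48)) = (LP (LK LD1_c14 LD2_c34 LD3_c14)) :=
  Lre_g IH (LK LD1_c24 LD2_c16 LD3_c48) (LK LD1_c14 LD2_c34 LD3_c14) Lrfl Lrfl
theorem f460339 : Led Lsl_at (LP (LK LD1_c24 LD2_c26 LD3_c6)) = (LP (LK LD1_c14 LD2_c41 LD3_c33)) :=
  Lre_a IH (LK LD1_c24 LD2_c26 LD3_c6) (LK LD1_c14 LD2_c41 LD3_c33) Lrfl Lrfl
theorem f460448 : Led Lsl_ft (LP (LK LD1_c24 LD2_c16 LD3_c48)) = (LP (LK LD1_c24 LD2_c26 LD3_c6)) :=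
  Lgr Lrot2 (Lpr_gt (f460447 IH) (Lpr_gt (f460440 IH) (Lpe (f460339 IH) (Lpn (LP (LK LD1_c24 LD2_c26 LD3_c6))))))
theorem f460462 : Led Lsl_ff (LP (LK LD1_c24 LD2_c16 LD3_c48)) = (LP (LK LD1_c24 LD2_c26 LD3_c6)) :=
  Lgr Lrot3 (Lpr_ft (f460448 IH) (Lpn (LP (LK LD1_c24 LD2_c26 LD3_c6))))
theorem f460326 : Led Lsl_at (LP (LK LD1_c14 LD2_c41 LD3_c33)) = (LP (LK LD1_c24 LD2_c26 LD3_c6)) :=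
  Lre_a IH (LK LD1_c14 LD2_c41 LD3_c33) (LK LD1_c24 LD2_c26 LD3_c6) Lrfl Lrfl
theorem f460304 : Led Lsl_ct (LP (LK LD1_c3 LD2_c33 LD3_c22)) = (LP (LK LD1_c7 LD2_c7 LD3_c31)) :=
  Lre_c IH (LK LD1_c3 LD2_c33 LD3_c22) (LK LD1_c7 LD2_c7 LD3_c31) Lrfl Lrfl
theorem f460320 : Led Lsl_dt (LP (LK LD1_c7 LD2_c7 LD3_c37)) = (LP (LK LD1_c3 LD2_c33 LD3_c22)) :=
  Lre_d IH (LK LD1_c7 LD2_c7 LD3_c37) (LK LD1_c3 LD2_c33 LD3_c22) Lrfl Lrfl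
theorem f460321 : Led Lsl_ct (LP (LK LD1_c13 LD2_c30 LD3_c5)) = (LP (LK LD1_c7 LD2_c7 LD3_c37)) :=
  Lre_c IH (LK LD1_c13 LD2_c30 LD3_c5) (LK LD1_c7 LD2_c7 LD3_c37) Lrfl Lrfl
theorem f460322 : Led Lsl_dt (LP (LK LD1_c22 LD2_c50 LD3_c60)) = (LP (LK LD1_c13 LD2_c30 LD3_c5)) :=
  Lre_d IH (LK LD1_c22 LD2_c50 LD3_c60) (LK LD1_c13 LD2_c30 LD3_c5) Lrfl Lrfl
theorem f460323 : Led Lsl_ct (LP (LK LD1_c30 LD2_c45 LD3_c31)) = (LP (LK LD1_c22 LD2_c50 LD3_c60)) :=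
  Lre_c IH (LK LD1_c30 LD2_c45 LD3_c31) (LK LD1_c22 LD2_c50 LD3_c60) Lrfl Lrfl
theorem f460308 : Led Lsl_dt (LP (LK LD1_c7 LD2_c47 LD3_c11)) = (LP (LK LD1_c14 LD2_c41 LD3_c30)) :=
  Lre_d IH (LK LD1_c7 LD2_c47 LD3_c11) (LK LD1_c14 LD2_c41 LD3_c30) Lrfl Lrfl
theorem f460324 : Led Lsl_df (LP (LK LD1_c30 LD2_c45 LD3_c31)) = (LP (LK LD1_c24 LD2_c26 LD3_c6)) :=
  Lgr Lrot106 (Lpr_ct (f460323 IH) (Lpr_dt (f460322 IH) (Lpr_ct (f460321 IH) (Lpr_dt (f460320 IH) (Lpr_ct (f460304 IH) (Lpe (f127759 IH) (Lpr_ff (f460302 IH) (Lpr_dt (f460308 IH) (Lpr_ct (f460310 IH) (Lpn (LP (LK LD1_c24 LD2_c26 LD3_c6))))))))))))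
theorem f460331 : Led Lsl_dt (LP (LK LD1_c30 LD2_c45 LD3_c31)) = (LP (LK LD1_c24 LD2_c26 LD3_c6)) :=
  Lgr Lrot42 (Lpr_df (f460324 IH) (Lpn (LP (LK LD1_c24 LD2_c26 LD3_c6))))
theorem f460300 : Led Lsl_dt (LP (LK LD1_c14 LD2_c41 LD3_c33)) = (LP (LK LD1_c24 LD2_c26 LD3_c12)) :=
  Lre_d IH (LK LD1_c14 LD2_c41 LD3_c33) (LK LD1_c24 LD2_c26 LD3_c12) Lrfl Lrfl
theorem f460340 : Led Lsl_af (LP (LK LD1_c30 LD2_c45 LD3_c31)) = (LP (LK LD1_c24 LD2_c26 LD3_c12)) :=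
  Lgr Lrot117 (Lpr_dt (f460331 IH) (Lpr_at (f460339 IH) (Lpr_dt (f460300 IH) (Lpn (LP (LK LD1_c24 LD2_c26 LD3_c12))))))
theorem f460336 : Led Lsl_ct (LP (LK LD1_c22 LD2_c50 LD3_c60)) = (LP (LK LD1_c30 LD2_c45 LD3_c31)) :=
  Lre_c IH (LK LD1_c22 LD2_c50 LD3_c60) (LK LD1_c30 LD2_c45 LD3_c31) Lrfl Lrfl
theorem f460333 : Led Lsl_dt (LP (LK LD1_c13 LD2_c30 LD3_c5)) = (LP (LK LD1_c22 LD2_c50 LD3_c60)) :=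
  Lre_d IH (LK LD1_c13 LD2_c30 LD3_c5) (LK LD1_c22 LD2_c50 LD3_c60) Lrfl Lrfl
theorem f460342 : Led Lsl_ct (LP (LK LD1_c7 LD2_c7 LD3_c37)) = (LP (LK LD1_c13 LD2_c30 LD3_c5)) :=
  Lre_c IH (LK LD1_c7 LD2_c7 LD3_c37) (LK LD1_c13 LD2_c30 LD3_c5) Lrfl Lrfl
theorem f460293 : Led Lsl_ct (LP (LK LD1_c7 LD2_c7 LD3_c31)) = (LP (LK LD1_c3 LD2_c33 LD3_c22)) :=
  Lre_c IH (LK LD1_c7 LD2_c7 LD3_c31) (LK LD1_c3 LD2_c33 LD3_c22) Lrfl Lrfl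
theorem f104086 : Led Lsl_ct (LP (LK LD1_c22 LD2_c50 LD3_c50)) = (LP (LK LD1_c13 LD2_c30 LD3_c0)) :=
  Lre_c IH (LK LD1_c22 LD2_c50 LD3_c50) (LK LD1_c13 LD2_c30 LD3_c0) Lrfl Lrfl
theorem f460343 : Led Lsl_dt (LP (LK LD1_c30 LD2_c45 LD3_c12)) = (LP (LK LD1_c22 LD2_c50 LD3_c50)) :=
  Lre_d IH (LK LD1_c30 LD2_c45 LD3_c12) (LK LD1_c22 LD2_c50 LD3_c50) Lrfl Lrfl
theorem f460345 : Led Lsl_ft (LP (LK LD1_c30 LD2_c45 LD3_c12)) = (LP (LK LD1_c24 LD2_c26 LD3_c12)) :=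
  Lgr Lrot142 (Lpr_dt (f460343 IH) (Lpr_ct (f104086 IH) (Lpr_dt (K5.f104045 IH) (Lpr_ct (f460293 IH) (Lpr_dt (K28.f89725 IH) (Lpr_ct (f460342 IH) (Lpr_dt (f460333 IH) (Lpr_ct (f460336 IH) (Lpr_af (f460340 IH) (Lpn (LP (LK LD1_c24 LD2_c26 LD3_c12))))))))))))
theorem f460349 : Led Lsl_ff (LP (LK LD1_c30 LD2_c45 LD3_c12)) = (LP (LK LD1_c24 LD2_c26 LD3_c12)) :=
  Lgr Lrot3 (Lpr_ft (f460345 IH) (Lpn (LP (LK LD1_c24 LD2_c26 LD3_c12))))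
theorem f460351 : Led Lsl_ft (LP (LK LD1_c22 LD2_c50 LD3_c50)) = (LP (LK LD1_c14 LD2_c41 LD3_c33)) :=
  Lgr Lrot54 (Lpe (f460343 IH) (Lpr_ff (f460349 IH) (Lpe (f460300 IH) (Lpn (LP (LK LD1_c14 LD2_c41 LD3_c33))))))
theorem f460464 : Led Lsl_at (LP (LK LD1_c24 LD2_c16 LD3_c48)) = (LP (LK LD1_c22 LD2_c50 LD3_c50)) :=
  Lgr Lrot66 (Lpr_ff (f460462 IH) (Lpe (f460326 IH) (Lpe (f460351 IH) (Lpn (LP (LK LD1_c22 LD2_c50 LD3_c50))))))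
theorem f471790 : Led Lsl_gf (LP (LK LD1_c22 LD2_c50 LD3_c50)) = (LP (LK LD1_c24 LD2_c15 LD3_c11)) :=
  Lgr Lrot76 (Lpe (f460464 IH) (Lpr_ff (f460462 IH) (Lpr_gt (f471788 IH) (Lpn (LP (LK LD1_c24 LD2_c15 LD3_c11))))))
theorem f104044 : Led Lsl_ct (LP (LK LD1_c13 LD2_c30 LD3_c0)) = (LP (LK LD1_c22 LD2_c50 LD3_c50)) :=
  Lre_c IH (LK LD1_c13 LD2_c30 LD3_c0) (LK LD1_c22 LD2_c50 LD3_c50) Lrfl Lrfl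
theorem f18780 : Led Lsl_dt (LP (LK LD1_c0 LD2_c23 LD3_c42)) = (LP (LK LD1_c0 LD2_c47 LD3_c15)) :=
  Lre_d IH (LK LD1_c0 LD2_c23 LD3_c42) (LK LD1_c0 LD2_c47 LD3_c15) Lrfl Lrfl
theorem f18788 : Led Lsl_dt (LP (LK LD1_c1 LD2_c41 LD3_c18)) = (LP (LK LD1_c3 LD2_c29 LD3_c12)) :=
  Lre_d IH (LK LD1_c1 LD2_c41 LD3_c18) (LK LD1_c3 LD2_c29 LD3_c12) Lrfl Lrfl
theorem f460229 : Led Lsl_ct (LP (LK LD1_c7 LD2_c0 LD3_c11)) = (LP (LK LD1_c3 LD2_c29 LD3_c12)) :=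
  Lre_c IH (LK LD1_c7 LD2_c0 LD3_c11) (LK LD1_c3 LD2_c29 LD3_c12) Lrfl Lrfl
theorem f464144 : Led Lsl_dt (LP (LK LD1_c13 LD2_c17 LD3_c16)) = (LP (LK LD1_c7 LD2_c0 LD3_c11)) :=
  Lre_d IH (LK LD1_c13 LD2_c17 LD3_c16) (LK LD1_c7 LD2_c0 LD3_c11) Lrfl Lrfl
theorem f464145 : Led Lsl_gt (LP (LK LD1_c7 LD2_c7 LD3_c32)) = (LP (LK LD1_c13 LD2_c17 LD3_c16)) :=
  Lgr Lrot49 (Lpe (K24.f12068 IH) (Lpr_gf (K28.f464140 IH) (Lpe (K28.f62777 IH) (Lpr_gt (K1.f62791 IH) (Lpr_dt (f18780 IH) (Lpr_gt (K28.f18787 IH) (Lpr_dt (f18788 IH) (Lpe (f460229 IH) (Lpe (f464144 IH) (Lpn (LP (LK LD1_c13 LD2_c17 LD3_c16))))))))))))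
theorem f15371 : Led Lsl_gt (LP (LK LD1_c3 LD2_c51 LD3_c13)) = (LP (LK LD1_c7 LD2_c43 LD3_c0)) :=
  Lre_g IH (LK LD1_c3 LD2_c51 LD3_c13) (LK LD1_c7 LD2_c43 LD3_c0) Lrfl Lrfl
theorem f91103 : Led Lsl_bt (LP (LK LD1_c1 LD2_c52 LD3_c50)) = (LP (LK LD1_c3 LD2_c51 LD3_c13)) :=
  Lre_b IH (LK LD1_c1 LD2_c52 LD3_c50) (LK LD1_c3 LD2_c51 LD3_c13) Lrfl Lrfl
theorem f64171 : Led Lsl_ct (LP (LK LD1_c1 LD2_c52 LD3_c50)) = (LP (LK LD1_c3 LD2_c52 LD3_c23)) :=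
  Lre_c IH (LK LD1_c1 LD2_c52 LD3_c50) (LK LD1_c3 LD2_c52 LD3_c23) Lrfl Lrfl
theorem f460597 : Led Lsl_gt (LP (LK LD1_c7 LD2_c37 LD3_c2)) = (LP (LK LD1_c3 LD2_c52 LD3_c23)) :=
  Lre_g IH (LK LD1_c7 LD2_c37 LD3_c2) (LK LD1_c3 LD2_c52 LD3_c23) Lrfl Lrfl
theorem f471797 : Led Lsl_ct (LP (LK LD1_c13 LD2_c17 LD3_c16)) = (LP (LK LD1_c7 LD2_c37 LD3_c2)) :=
  Lgr Lrot91 (Lpe (f464145 IH) (Lpe (K5.f104033 IH) (Lpr_ct (f104044 IH) (Lpr_gf (f471790 IH) (Lpe (f91078 IH) (Lpr_bt (f14916 IH) (Lpe (f15371 IH) (Lpe (f91103 IH) (Lpr_ct (f64171 IH) (Lpe (f460597 IH) (Lpn (LP (LK LD1_c7 LD2_c37 LD3_c2)))))))))))))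
theorem f464149 : Led Lsl_dt (LP (LK LD1_c7 LD2_c0 LD3_c11)) = (LP (LK LD1_c13 LD2_c17 LD3_c16)) :=
  Lre_d IH (LK LD1_c7 LD2_c0 LD3_c11) (LK LD1_c13 LD2_c17 LD3_c16) Lrfl Lrfl
theorem f18789 : Led Lsl_ct (LP (LK LD1_c3 LD2_c29 LD3_c12)) = (LP (LK LD1_c7 LD2_c0 LD3_c11)) :=
  Lre_c IH (LK LD1_c3 LD2_c29 LD3_c12) (LK LD1_c7 LD2_c0 LD3_c11) Lrfl Lrfl
theorem f63030 : Led Lsl_dt (LP (LK LD1_c7 LD2_c0 LD3_c9)) = (LP (LK LD1_c3 LD2_c29 LD3_c11)) :=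
  Lre_d IH (LK LD1_c7 LD2_c0 LD3_c9) (LK LD1_c3 LD2_c29 LD3_c11) Lrfl Lrfl
theorem f460225 : Led Lsl_ct (LP (LK LD1_c13 LD2_c17 LD3_c11)) = (LP (LK LD1_c7 LD2_c0 LD3_c9)) :=
  Lre_c IH (LK LD1_c13 LD2_c17 LD3_c11) (LK LD1_c7 LD2_c0 LD3_c9) Lrfl Lrfl
theorem f460224 : Led Lsl_dt (LP (LK LD1_c3 LD2_c29 LD3_c11)) = (LP (LK LD1_c7 LD2_c0 LD3_c9)) :=
  Lre_d IH (LK LD1_c3 LD2_c29 LD3_c11) (LK LD1_c7 LD2_c0 LD3_c9) Lrfl Lrfl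
theorem f468686 : Led Lsl_dt (LP (LK LD1_c7 LD2_c37 LD3_c3)) = (LP (LK LD1_c13 LD2_c17 LD3_c11)) :=
  Lgr Lrot105 (Lpe (f443421 IH) (Lpe (f64170 IH) (Lpr_gf (f468678 IH) (Lpe (K24.f63015 IH) (Lpe (K24.f459921 IH) (Lpr_dt (f92404 IH) (Lpr_gt (f460222 IH) (Lpr_dt (f460224 IH) (Lpe (f460225 IH) (Lpn (LP (LK LD1_c13 LD2_c17 LD3_c11))))))))))))
theorem f468625 : Led Lsl_cf (LP (LK LD1_c7 LD2_c37 LD3_c3)) = (LP (LK LD1_c13 LD2_c17 LD3_c20)) :=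
  Lgr Lrot11 (Lpr_ct (f468622 IH) (Lpn (LP (LK LD1_c13 LD2_c17 LD3_c20))))
theorem f129686 : Led Lsl_dt (LP (LK LD1_c1 LD2_c41 LD3_c19)) = (LP (LK LD1_c3 LD2_c29 LD3_c16)) :=
  Lre_d IH (LK LD1_c1 LD2_c41 LD3_c19) (LK LD1_c3 LD2_c29 LD3_c16) Lrfl Lrfl
theorem f457454 : Led Lsl_ct (LP (LK LD1_c3 LD2_c29 LD3_c15)) = (LP (LK LD1_c1 LD2_c41 LD3_c19)) :=
  Lre_c IH (LK LD1_c3 LD2_c29 LD3_c15) (LK LD1_c1 LD2_c41 LD3_c19) Lrfl Lrfl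
theorem f463590 : Led Lsl_dt (LP (LK LD1_c7 LD2_c0 LD3_c13)) = (LP (LK LD1_c3 LD2_c29 LD3_c15)) :=
  Lre_d IH (LK LD1_c7 LD2_c0 LD3_c13) (LK LD1_c3 LD2_c29 LD3_c15) Lrfl Lrfl
theorem f471804 : Led Lsl_df (LP (LK LD1_c13 LD2_c17 LD3_c17)) = (LP (LK LD1_c7 LD2_c37 LD3_c2)) :=
  Lgr Lrot43 (Lpr_ct (f468700 IH) (Lpr_dt (f463590 IH) (Lpr_ct (f457454 IH) (Lpr_dt (f129686 IH) (Lpr_ct (K24.f129694 IH) (Lpr_dt (K24.f129707 IH) (Lpe (f468625 IH) (Lpr_dt (f468686 IH) (Lpr_ct (f460225 IH) (Lpr_dt (f63030 IH) (Lpr_ct (K28.f63020 IH) (Lpr_dt (f18788 IH) (Lpr_ct (f18789 IH) (Lpr_dt (f464149 IH) (Lpr_ct (f471797 IH) (Lpn (LP (LK LD1_c7 LD2_c37 LD3_c2))))))))))))))))))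
theorem f443529 : Led Lsl_gt (LP (LK LD1_c7 LD2_c2 LD3_c35)) = (LP (LK LD1_c13 LD2_c21 LD3_c24)) :=
  Lre_g IH (LK LD1_c7 LD2_c2 LD3_c35) (LK LD1_c13 LD2_c21 LD3_c24) Lrfl Lrfl
theorem f477271 : Led Lsl_cf (LP (LK LD1_c7 LD2_c47 LD3_c49)) = (LP (LK LD1_c13 LD2_c21 LD3_c24)) :=
  Lgr Lrot169 (Lpr_gt (f477265 IH) (Lpr_ct (f466326 IH) (Lpr_df (f471804 IH) (Lpe (f471797 IH) (Lpe (f464145 IH) (Lpe (f468489 IH) (Lpr_gf (f468550 IH) (Lpr_df (f468781 IH) (Lpr_gt (f443529 IH) (Lpn (LP (LK LD1_c13 LD2_c21 LD3_c24))))))))))))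
theorem f459898 : Led Lsl_gt (LP (LK LD1_c1 LD2_c53 LD3_c0)) = (LP (LK LD1_c3 LD2_c52 LD3_c51)) :=
  Lre_g IH (LK LD1_c1 LD2_c53 LD3_c0) (LK LD1_c3 LD2_c52 LD3_c51) Lrfl Lrfl
theorem f474118 : Led Lsl_gt (LP (LK LD1_c3 LD2_c52 LD3_c51)) = (LP (LK LD1_c1 LD2_c53 LD3_c12)) :=
  Lgr Lrot46 (Lpe (f459898 IH) (Lpe (f474096 IH) (Lpr_at (f474106 IH) (Lpn (LP (LK LD1_c1 LD2_c53 LD3_c12))))))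
theorem f459937 : Led Lsl_ct (LP (LK LD1_c7 LD2_c47 LD3_c28)) = (LP (LK LD1_c3 LD2_c52 LD3_c51)) :=
  Lre_c IH (LK LD1_c7 LD2_c47 LD3_c28) (LK LD1_c3 LD2_c52 LD3_c51) Lrfl Lrfl
theorem f474120 : Led Lsl_gf (LP (LK LD1_c7 LD2_c47 LD3_c28)) = (LP (LK LD1_c7 LD2_c36 LD3_c51)) :=
  Lgr Lrot147 (Lpr_ct (f459937 IH) (Lpr_gt (f474118 IH) (Lpr_ct (f459918 IH) (Lpr_df (f461150 IH) (Lpe (f461155 IH) (Lpr_gf (f64655 IH) (Lpe (f64658 IH) (Lpr_gf (f463950 IH) (Lpe (f463973 IH) (Lpn (LP (LK LD1_c7 LD2_c36 LD3_c51))))))))))))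
theorem f477284 : Led Lsl_dt (LP (LK LD1_c7 LD2_c47 LD3_c28)) = (LP (LK LD1_c13 LD2_c21 LD3_c24)) :=
  Lgr Lrot105 (Lpr_gf (f474120 IH) (Lpr_df (f463968 IH) (Lpe (f463961 IH) (Lpe (K24.f460553 IH) (Lpr_gt (K24.f129829 IH) (Lpr_dt (f129822 IH) (Lpe (f468504 IH) (Lpr_dt (f461919 IH) (Lpr_cf (f477271 IH) (Lpn (LP (LK LD1_c13 LD2_c21 LD3_c24))))))))))))
theorem f461901 : Led Lsl_cf (LP (LK LD1_c3 LD2_c27 LD3_c32)) = (LP (LK LD1_c1 LD2_c52 LD3_c60)) :=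
  Lgr Lrot55 (Lpr_dt (K24.f461898 IH) (Lpr_ct (K24.f460545 IH) (Lpr_dt (K24.f129830 IH) (Lpr_ct (K24.f460553 IH) (Lpe (K24.f460554 IH) (Lpr_ct (K24.f87978 IH) (Lpr_dt (K5.f87987 IH) (Lpe (K5.f128073 IH) (Lpr_dt (K24.f128071 IH) (Lpr_ct (K5.f109303 IH) (Lpr_dt (K24.f64654 IH) (Lpr_ct (K24.f64660 IH) (Lpr_dt (f460409 IH) (Lpr_ct (f460157 IH) (Lpr_dt (K24.f460165 IH) (Lpn (LP (LK LD1_c1 LD2_c52 LD3_c60))))))))))))))))))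
theorem f459929 : Led Lsl_ct (LP (LK LD1_c3 LD2_c52 LD3_c51)) = (LP (LK LD1_c7 LD2_c47 LD3_c28)) :=
  Lre_c IH (LK LD1_c3 LD2_c52 LD3_c51) (LK LD1_c7 LD2_c47 LD3_c28) Lrfl Lrfl
theorem f463748 : Led Lsl_gt (LP (LK LD1_c7 LD2_c47 LD3_c28)) = (LP (LK LD1_c7 LD2_c36 LD3_c57)) :=
  Lgr Lrot150 (Lpe (f459929 IH) (Lpe (f459898 IH) (Lpe (K24.f459897 IH) (Lpr_gt (K24.f63035 IH) (Lpe (f461901 IH) (Lpr_gt (K28.f463735 IH) (Lpr_ct (K28.f11214 IH) (Lpe (f463746 IH) (Lpe (f463747 IH) (Lpn (LP (LK LD1_c7 LD2_c36 LD3_c57))))))))))))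
theorem f477282 : Led Lsl_gf (LP (LK LD1_c7 LD2_c2 LD3_c46)) = (LP (LK LD1_c13 LD2_c21 LD3_c24)) :=
  Lgr Lrot144 (Lpe (f468751 IH) (Lpr_gt (f464796 IH) (Lpr_dt (f468441 IH) (Lpe (K24.f92417 IH) (Lpe (K5.f92368 IH) (Lpr_gf (K28.f464147 IH) (Lpe (f463590 IH) (Lpe (f477265 IH) (Lpr_cf (f477271 IH) (Lpn (LP (LK LD1_c13 LD2_c21 LD3_c24))))))))))))
theorem f64661 : Led Lsl_dt (LP (LK LD1_c1 LD2_c41 LD3_c60)) = (LP (LK LD1_c3 LD2_c30 LD3_c56)) :=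
  Lre_d IH (LK LD1_c1 LD2_c41 LD3_c60) (LK LD1_c3 LD2_c30 LD3_c56) Lrfl Lrfl
theorem f455551 : Led Lsl_ct (LP (LK LD1_c7 LD2_c3 LD3_c51)) = (LP (LK LD1_c3 LD2_c30 LD3_c56)) :=
  Lre_c IH (LK LD1_c7 LD2_c3 LD3_c51) (LK LD1_c3 LD2_c30 LD3_c56) Lrfl Lrfl
theorem f461307 : Led Lsl_dt (LP (LK LD1_c3 LD2_c52 LD3_c19)) = (LP (LK LD1_c7 LD2_c3 LD3_c51)) :=
  Lgr Lrot105 (Lpe (f460587 IH) (Lpe (f460588 IH) (Lpe (f156652 IH) (Lpe (f461155 IH) (Lpr_gt (f461303 IH) (Lpr_dt (K28.f460527 IH) (Lpe (K24.f460525 IH) (Lpr_dt (f64661 IH) (Lpe (f455551 IH) (Lpn (LP (LK LD1_c7 LD2_c3 LD3_c51))))))))))))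
theorem f461311 : Led Lsl_df (LP (LK LD1_c3 LD2_c52 LD3_c19)) = (LP (LK LD1_c7 LD2_c3 LD3_c51)) :=
  Lgr Lrot38 (Lpr_dt (f461307 IH) (Lpn (LP (LK LD1_c7 LD2_c3 LD3_c51))))
theorem f455539 : Led Lsl_dt (LP (LK LD1_c1 LD2_c41 LD3_c57)) = (LP (LK LD1_c0 LD2_c47 LD3_c28)) :=
  Lre_d IH (LK LD1_c1 LD2_c41 LD3_c57) (LK LD1_c0 LD2_c47 LD3_c28) Lrfl Lrfl
theorem f460537 : Led Lsl_ct (LP (LK LD1_c3 LD2_c30 LD3_c56)) = (LP (LK LD1_c7 LD2_c3 LD3_c51)) :=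
  Lre_c IH (LK LD1_c3 LD2_c30 LD3_c56) (LK LD1_c7 LD2_c3 LD3_c51) Lrfl Lrfl
theorem f62760 : Led Lsl_ct (LP (LK LD1_c3 LD2_c30 LD3_c58)) = (LP (LK LD1_c1 LD2_c41 LD3_c61)) :=
  Lre_c IH (LK LD1_c3 LD2_c30 LD3_c58) (LK LD1_c1 LD2_c41 LD3_c61) Lrfl Lrfl
theorem f63061 : Led Lsl_dt (LP (LK LD1_c7 LD2_c3 LD3_c56)) = (LP (LK LD1_c3 LD2_c30 LD3_c58)) :=
  Lre_d IH (LK LD1_c7 LD2_c3 LD3_c56) (LK LD1_c3 LD2_c30 LD3_c58) Lrfl Lrfl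
theorem f461329 : Led Lsl_dt (LP (LK LD1_c7 LD2_c3 LD3_c26)) = (LP (LK LD1_c3 LD2_c52 LD3_c20)) :=
  Lgr Lrot173 (Lpe (f460436 IH) (Lpe (f460524 IH) (Lpe (K24.f455542 IH) (Lpe (f455539 IH) (Lpe (K5.f87979 IH) (Lpe (K5.f87976 IH) (Lpr_cf (f461122 IH) (Lpr_df (f461311 IH) (Lpe (f460537 IH) (Lpe (f64661 IH) (Lpe (K5.f18831 IH) (Lpe (K1.f62684 IH) (Lpe (f62760 IH) (Lpe (f63061 IH) (Lpe (f460427 IH) (Lpn (LP (LK LD1_c3 LD2_c52 LD3_c20))))))))))))))))))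
theorem f461383 : Led Lsl_gt (LP (LK LD1_c7 LD2_c2 LD3_c34)) = (LP (LK LD1_c3 LD2_c30 LD3_c21)) :=
  Lre_g IH (LK LD1_c7 LD2_c2 LD3_c34) (LK LD1_c3 LD2_c30 LD3_c21) Lrfl Lrfl
theorem f461384 : Led Lsl_ct (LP (LK LD1_c13 LD2_c21 LD3_c22)) = (LP (LK LD1_c7 LD2_c2 LD3_c34)) :=
  Lre_c IH (LK LD1_c13 LD2_c21 LD3_c22) (LK LD1_c7 LD2_c2 LD3_c34) Lrfl Lrfl
theorem f461385 : Led Lsl_gf (LP (LK LD1_c7 LD2_c3 LD3_c26)) = (LP (LK LD1_c13 LD2_c21 LD3_c22)) :=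
  Lgr Lrot144 (Lpr_dt (f461329 IH) (Lpr_gt (K24.f156646 IH) (Lpr_dt (K24.f156645 IH) (Lpe (f156651 IH) (Lpe (K1.f64970 IH) (Lpe (K1.f18826 IH) (Lpe (f443440 IH) (Lpe (f461383 IH) (Lpe (f461384 IH) (Lpn (LP (LK LD1_c13 LD2_c21 LD3_c22))))))))))))
theorem f461387 : Led Lsl_ct (LP (LK LD1_c7 LD2_c2 LD3_c34)) = (LP (LK LD1_c13 LD2_c21 LD3_c22)) :=
  Lre_c IH (LK LD1_c7 LD2_c2 LD3_c34) (LK LD1_c13 LD2_c21 LD3_c22) Lrfl Lrfl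
theorem f461392 : Led Lsl_gt (LP (LK LD1_c3 LD2_c30 LD3_c25)) = (LP (LK LD1_c7 LD2_c2 LD3_c34)) :=
  Lgr Lrot9 (Lpe (f18972 IH) (Lpr_gt (K24.f64272 IH) (Lpr_ct (K28.f64992 IH) (Lpr_gt (K5.f87981 IH) (Lpr_ct (K24.f455542 IH) (Lpe (K24.f455544 IH) (Lpe (K24.f455545 IH) (Lpr_gf (f461385 IH) (Lpe (f461387 IH) (Lpn (LP (LK LD1_c7 LD2_c2 LD3_c34))))))))))))
theorem f477291 : Led Lsl_df (LP (LK LD1_c14 LD2_c21 LD3_c17)) = (LP (LK LD1_c13 LD2_c21 LD3_c22)) :=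
  Lgr Lrot162 (Lpe (f468659 IH) (Lpr_gf (f468694 IH) (Lpe (f463747 IH) (Lpe (f463748 IH) (Lpr_dt (f477284 IH) (Lpe (f477282 IH) (Lpr_ct (f458473 IH) (Lpr_gt (f461392 IH) (Lpr_ct (f461387 IH) (Lpn (LP (LK LD1_c13 LD2_c21 LD3_c22))))))))))))
theorem f474973 : Led Lsl_ct (LP (LK LD1_c7 LD2_c37 LD3_c12)) = (LP (LK LD1_c7 LD2_c45 LD3_c51)) :=
  Lgr Lrot59 (Lpr_cf (f474229 IH) (Lpn (LP (LK LD1_c7 LD2_c45 LD3_c51))))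
theorem f461024 : Led Lsl_ct (LP (LK LD1_c7 LD2_c3 LD3_c24)) = (LP (LK LD1_c13 LD2_c22 LD3_c57)) :=
  Lre_c IH (LK LD1_c7 LD2_c3 LD3_c24) (LK LD1_c13 LD2_c22 LD3_c57) Lrfl Lrfl
theorem f477299 : Led Lsl_dt (LP (LK LD1_c7 LD2_c45 LD3_c51)) = (LP (LK LD1_c13 LD2_c22 LD3_c57)) :=
  Lgr Lrot27 (Lpe (f474973 IH) (Lpe (f129849 IH) (Lpe (K24.f459728 IH) (Lpe (f468688 IH) (Lpr_df (f477291 IH) (Lpe (f461385 IH) (Lpr_ct (K24.f455545 IH) (Lpr_gt (f461023 IH) (Lpr_ct (f461024 IH) (Lpn (LP (LK LD1_c13 LD2_c22 LD3_c57))))))))))))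
theorem f474978 : Led Lsl_gf (LP (LK LD1_c3 LD2_c52 LD3_c8)) = (LP (LK LD1_c7 LD2_c45 LD3_c51)) :=
  Lgr Lrot144 (Lpr_dt (f468582 IH) (Lpr_gt (f468573 IH) (Lpe (f468616 IH) (Lpr_cf (f468482 IH) (Lpe (K24.f12068 IH) (Lpr_gf (K28.f464140 IH) (Lpe (f62790 IH) (Lpe (f474227 IH) (Lpr_cf (f474229 IH) (Lpn (LP (LK LD1_c7 LD2_c45 LD3_c51))))))))))))
theorem f458098 : Led Lsl_ct (LP (LK LD1_c3 LD2_c52 LD3_c8)) = (LP (LK LD1_c1 LD2_c52 LD3_c45)) :=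
  Lre_c IH (LK LD1_c3 LD2_c52 LD3_c8) (LK LD1_c1 LD2_c52 LD3_c45) Lrfl Lrfl
theorem f455721 : Led Lsl_ct (LP (LK LD1_c7 LD2_c4 LD3_c50)) = (LP (LK LD1_c3 LD2_c31 LD3_c36)) :=
  Lre_c IH (LK LD1_c7 LD2_c4 LD3_c50) (LK LD1_c3 LD2_c31 LD3_c36) Lrfl Lrfl
theorem f474016 : Led Lsl_dt (LP (LK LD1_c3 LD2_c31 LD3_c36)) = (LP (LK LD1_c1 LD2_c53 LD3_c3)) :=
  Lgr Lrot42 (Lpr_df (f473968 IH) (Lpn (LP (LK LD1_c1 LD2_c53 LD3_c3))))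
theorem f461289 : Led Lsl_dt (LP (LK LD1_c3 LD2_c51 LD3_c60)) = (LP (LK LD1_c3 LD2_c46 LD3_c58)) :=
  Lre_d IH (LK LD1_c3 LD2_c51 LD3_c60) (LK LD1_c3 LD2_c46 LD3_c58) Lrfl Lrfl
theorem f468602 : Led Lsl_ct (LP (LK LD1_c3 LD2_c46 LD3_c58)) = (LP (LK LD1_c1 LD2_c50 LD3_c34)) :=
  Lre_c IH (LK LD1_c3 LD2_c46 LD3_c58) (LK LD1_c1 LD2_c50 LD3_c34) Lrfl Lrfl
theorem f451072 : Led Lsl_dt (LP (LK LD1_c1 LD2_c50 LD3_c34)) = (LP (LK LD1_c1 LD2_c53 LD3_c2)) :=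
  Lre_d IH (LK LD1_c1 LD2_c50 LD3_c34) (LK LD1_c1 LD2_c53 LD3_c2) Lrfl Lrfl
theorem f458089 : Led Lsl_dt (LP (LK LD1_c3 LD2_c52 LD3_c57)) = (LP (LK LD1_c7 LD2_c47 LD3_c44)) :=
  Lre_d IH (LK LD1_c3 LD2_c52 LD3_c57) (LK LD1_c7 LD2_c47 LD3_c44) Lrfl Lrfl
theorem f476327 : Led Lsl_ct (LP (LK LD1_c7 LD2_c47 LD3_c44)) = (LP (LK LD1_c14 LD2_c38 LD3_c36)) :=
  Lgr Lrot176 (Lpe (f458089 IH) (Lpe (f458081 IH) (Lpe (f451072 IH) (Lpe (f468602 IH) (Lpe (f461289 IH) (Lpe (f461256 IH) (Lpe (f461178 IH) (Lpr_cf (f468592 IH) (Lpe (f461510 IH) (Lpe (f461511 IH) (Lpe (f474016 IH) (Lpe (f455721 IH) (Lpr_df (f476323 IH) (Lpe (f459860 IH) (Lpe (f461174 IH) (Lpn (LP (LK LD1_c14 LD2_c38 LD3_c36))))))))))))))))))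
theorem f463837 : Led Lsl_dt (LP (LK LD1_c7 LD2_c0 LD3_c1)) = (LP (LK LD1_c3 LD2_c29 LD3_c7)) :=
  Lre_d IH (LK LD1_c7 LD2_c0 LD3_c1) (LK LD1_c3 LD2_c29 LD3_c7) Lrfl Lrfl
theorem f463838 : Led Lsl_ct (LP (LK LD1_c13 LD2_c17 LD3_c0)) = (LP (LK LD1_c7 LD2_c0 LD3_c1)) :=
  Lre_c IH (LK LD1_c13 LD2_c17 LD3_c0) (LK LD1_c7 LD2_c0 LD3_c1) Lrfl Lrfl
theorem f463839 : Led Lsl_gt (LP (LK LD1_c13 LD2_c22 LD3_c57)) = (LP (LK LD1_c13 LD2_c17 LD3_c0)) :=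
  Lgr Lrot150 (Lpe (f461024 IH) (Lpe (f461023 IH) (Lpe (f460524 IH) (Lpr_gt (K24.f129831 IH) (Lpe (K28.f460946 IH) (Lpe (K24.f441547 IH) (Lpr_ct (K28.f463744 IH) (Lpe (f463837 IH) (Lpe (f463838 IH) (Lpn (LP (LK LD1_c13 LD2_c17 LD3_c0))))))))))))
theorem f477308 : Led Lsl_gf (LP (LK LD1_c7 LD2_c47 LD3_c44)) = (LP (LK LD1_c7 LD2_c0 LD3_c1)) :=
  Lgr Lrot172 (Lpr_ct (f476327 IH) (Lpr_dt (f461174 IH) (Lpe (f461190 IH) (Lpe (f476320 IH) (Lpe (f458098 IH) (Lpr_gf (f474978 IH) (Lpr_dt (f477299 IH) (Lpr_gt (f463839 IH) (Lpr_ct (f463838 IH) (Lpn (LP (LK LD1_c7 LD2_c0 LD3_c1))))))))))))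
theorem f463833 : Led Lsl_dt (LP (LK LD1_c3 LD2_c29 LD3_c7)) = (LP (LK LD1_c7 LD2_c0 LD3_c1)) :=
  Lre_d IH (LK LD1_c3 LD2_c29 LD3_c7) (LK LD1_c7 LD2_c0 LD3_c1) Lrfl Lrfl
theorem f477315 : Led Lsl_gt (LP (LK LD1_c14 LD2_c38 LD3_c36)) = (LP (LK LD1_c13 LD2_c17 LD3_c11)) :=
  Lgr Lrot150 (Lpe (f476327 IH) (Lpr_gf (f477308 IH) (Lpe (f463833 IH) (Lpr_gt (K28.f18766 IH) (Lpr_ct (K3.f18744 IH) (Lpr_gt (K28.f18787 IH) (Lpr_ct (K24.f18792 IH) (Lpe (f63030 IH) (Lpe (f460225 IH) (Lpn (LP (LK LD1_c13 LD2_c17 LD3_c11))))))))))))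
theorem f477277 : Led Lsl_ct (LP (LK LD1_c7 LD2_c47 LD3_c49)) = (LP (LK LD1_c13 LD2_c21 LD3_c24)) :=
  Lgr Lrot59 (Lpr_cf (f477271 IH) (Lpn (LP (LK LD1_c13 LD2_c21 LD3_c24))))
theorem f477321 : Led Lsl_gf (LP (LK LD1_c7 LD2_c47 LD3_c49)) = (LP (LK LD1_c7 LD2_c0 LD3_c9)) :=
  Lgr Lrot104 (Lpr_ct (f477277 IH) (Lpe (f477284 IH) (Lpe (f459929 IH) (Lpe (f459898 IH) (Lpe (K24.f451117 IH) (Lpr_gf (f476318 IH) (Lpe (f461174 IH) (Lpr_gt (f477315 IH) (Lpr_ct (f460225 IH) (Lpn (LP (LK LD1_c7 LD2_c0 LD3_c9))))))))))))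
theorem f461259 : Led Lsl_dt (LP (LK LD1_c7 LD2_c47 LD3_c49)) = (LP (LK LD1_c3 LD2_c52 LD3_c60)) :=
  Lre_d IH (LK LD1_c7 LD2_c47 LD3_c49) (LK LD1_c3 LD2_c52 LD3_c60) Lrfl Lrfl
theorem f477324 : Led Lsl_gf (LP (LK LD1_c14 LD2_c38 LD3_c30)) = (LP (LK LD1_c13 LD2_c17 LD3_c11)) :=
  Lgr Lrot144 (Lpr_dt (f461178 IH) (Lpr_gt (f461177 IH) (Lpr_dt (f461157 IH) (Lpe (f461155 IH) (Lpe (f64671 IH) (Lpe (f459901 IH) (Lpe (f461259 IH) (Lpr_gf (f477321 IH) (Lpe (f460225 IH) (Lpn (LP (LK LD1_c13 LD2_c17 LD3_c11))))))))))))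
theorem f460226 : Led Lsl_ct (LP (LK LD1_c7 LD2_c0 LD3_c9)) = (LP (LK LD1_c13 LD2_c17 LD3_c11)) :=
  Lre_c IH (LK LD1_c7 LD2_c0 LD3_c9) (LK LD1_c13 LD2_c17 LD3_c11) Lrfl Lrfl
theorem f477391 : Led Lsl_gt (LP (LK LD1_c7 LD2_c47 LD3_c47)) = (LP (LK LD1_c7 LD2_c0 LD3_c9)) :=
  Lgr Lrot9 (Lpe (f64687 IH) (Lpr_gt (f474079 IH) (Lpr_ct (f129658 IH) (Lpr_gt (f473960 IH) (Lpr_ct (f461511 IH) (Lpe (f461512 IH) (Lpe (f468590 IH) (Lpr_gf (f477324 IH) (Lpe (f460226 IH) (Lpn (LP (LK LD1_c7 LD2_c0 LD3_c9))))))))))))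
theorem f62979 : Led Lsl_dt (LP (LK LD1_c3 LD2_c29 LD3_c12)) = (LP (LK LD1_c1 LD2_c41 LD3_c18)) :=
  Lre_d IH (LK LD1_c3 LD2_c29 LD3_c12) (LK LD1_c1 LD2_c41 LD3_c18) Lrfl Lrfl
theorem f477394 : Led Lsl_gt (LP (LK LD1_c1 LD2_c50 LD3_c34)) = (LP (LK LD1_c3 LD2_c29 LD3_c12)) :=
  Lgr Lrot49 (Lpe (f62992 IH) (Lpe (f62991 IH) (Lpe (f64659 IH) (Lpr_gt (f64686 IH) (Lpr_dt (f64687 IH) (Lpr_gt (f477391 IH) (Lpr_dt (f63030 IH) (Lpe (K24.f18792 IH) (Lpe (f62979 IH) (Lpn (LP (LK LD1_c3 LD2_c29 LD3_c12))))))))))))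
theorem f62976 : Led Lsl_df (LP (LK LD1_c1 LD2_c51 LD3_c4)) = (LP (LK LD1_c1 LD2_c53 LD3_c5)) :=
  Lgr Lrot38 (Lpr_dt (K28.f62788 IH) (Lpn (LP (LK LD1_c1 LD2_c53 LD3_c5))))
def v837 : LQ := Led Lsl_ft (LP (LK LD1_c0 LD2_c52 LD3_c9))
theorem f459645 : Led Lsl_ft (LP (LK LD1_c0 LD2_c52 LD3_c9)) = v837 :=
  Lrfl
theorem f459648 : Led Lsl_ff (LP (LK LD1_c0 LD2_c52 LD3_c9)) = v837 :=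
  Lgr Lrot3 (Lpr_ft (f459645 IH) (Lpn v837))
theorem f120543 : Led Lsl_at (LP (LK LD1_c0 LD2_c52 LD3_c9)) = (LP (LK LD1_c1 LD2_c41 LD3_c28)) :=
  Lgr Lrot100 (Lpr_af (K28.f120541 IH) (Lpn (LP (LK LD1_c1 LD2_c41 LD3_c28))))
theorem f459651 : Led Lsl_gf (LP (LK LD1_c3 LD2_c29 LD3_c28)) = v837 :=
  Lgr Lrot47 (Lpr_gt (f103961 IH) (Lpe (f120543 IH) (Lpr_ff (f459648 IH) (Lpn v837))))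
theorem f92373 : Led Lsl_et (LP (LK LD1_c0 LD2_c52 LD3_c9)) = (LP (LK LD1_c0 LD2_c23 LD3_c36)) :=
  Lre_e IH (LK LD1_c0 LD2_c52 LD3_c9) (LK LD1_c0 LD2_c23 LD3_c36) Lrfl Lrfl
theorem f120355 : Led Lsl_ft (LP (LK LD1_c0 LD2_c23 LD3_c27)) = (LP (LK LD1_c0 LD2_c47 LD3_c17)) :=
  Lgr Lrot75 (Lpe (K3.f91842 IH) (Lpr_ff (K4.f120353 IH) (Lpe (K28.f11452 IH) (Lpn (LP (LK LD1_c0 LD2_c47 LD3_c17))))))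
theorem f109014 : Led Lsl_af (LP (LK LD1_c0 LD2_c23 LD3_c27)) = (LP (LK LD1_c0 LD2_c47 LD3_c20)) :=
  Lgr Lrot36 (Lpr_bt (K3.f6702 IH) (Lpr_at (K3.f108986 IH) (Lpr_bt (K3.f109009 IH) (Lpr_at (K3.f108995 IH) (Lpr_bt (K28.f64639 IH) (Lpn (LP (LK LD1_c0 LD2_c47 LD3_c20))))))))
theorem f105556 : Led Lsl_af (LP (LK LD1_c0 LD2_c23 LD3_c36)) = (LP (LK LD1_c0 LD2_c47 LD3_c17)) :=
  Lgr Lrot117 (Lpr_dt (K1.f62805 IH) (Lpr_at (K3.f105551 IH) (Lpr_dt (K3.f17797 IH) (Lpn (LP (LK LD1_c0 LD2_c47 LD3_c17))))))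
theorem f440768 : Led Lsl_ff (LP (LK LD1_c0 LD2_c47 LD3_c20)) = (LP (LK LD1_c0 LD2_c23 LD3_c36)) :=
  Lgr Lrot30 (Lpe (f109014 IH) (Lpr_ft (f120355 IH) (Lpe (f105556 IH) (Lpn (LP (LK LD1_c0 LD2_c23 LD3_c36))))))
theorem f103963 : Led Lsl_et (LP (LK LD1_c0 LD2_c47 LD3_c20)) = (LP (LK LD1_c1 LD2_c41 LD3_c34)) :=
  Lre_e IH (LK LD1_c0 LD2_c47 LD3_c20) (LK LD1_c1 LD2_c41 LD3_c34) Lrfl Lrfl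
theorem f459650 : Led Lsl_et (LP (LK LD1_c3 LD2_c29 LD3_c46)) = v837 :=
  Lgr Lrot69 (Lpe (K3.f109645 IH) (Lpe (f103963 IH) (Lpr_ff (f440768 IH) (Lpe (f92373 IH) (Lpr_ff (f459648 IH) (Lpn v837))))))
theorem f109671 : Led Lsl_dt (LP (LK LD1_c3 LD2_c29 LD3_c46)) = (LP (LK LD1_c7 LD2_c1 LD3_c9)) :=
  Lre_d IH (LK LD1_c3 LD2_c29 LD3_c46) (LK LD1_c7 LD2_c1 LD3_c9) Lrfl Lrfl
theorem f109642 : Led Lsl_dt (LP (LK LD1_c7 LD2_c1 LD3_c9)) = (LP (LK LD1_c3 LD2_c29 LD3_c46)) :=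
  Lre_d IH (LK LD1_c7 LD2_c1 LD3_c9) (LK LD1_c3 LD2_c29 LD3_c46) Lrfl Lrfl
theorem f85235 : Led Lsl_dt (LP (LK LD1_c1 LD2_c50 LD3_c10)) = (LP (LK LD1_c3 LD2_c46 LD3_c14)) :=
  Lre_d IH (LK LD1_c1 LD2_c50 LD3_c10) (LK LD1_c3 LD2_c46 LD3_c14) Lrfl Lrfl
theorem f109643 : Led Lsl_af (LP (LK LD1_c7 LD2_c1 LD3_c9)) = (LP (LK LD1_c3 LD2_c46 LD3_c14)) :=
  Lgr Lrot117 (Lpr_dt (f109642 IH) (Lpr_at (K3.f109630 IH) (Lpr_dt (f85235 IH) (Lpn (LP (LK LD1_c3 LD2_c46 LD3_c14))))))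
theorem f85268 : Led Lsl_ft (LP (LK LD1_c1 LD2_c50 LD3_c9)) = (LP (LK LD1_c3 LD2_c46 LD3_c14)) :=
  Lre_f IH (LK LD1_c1 LD2_c50 LD3_c9) (LK LD1_c3 LD2_c46 LD3_c14) Lrfl Lrfl
theorem f441393 : Led Lsl_gt (LP (LK LD1_c1 LD2_c50 LD3_c9)) = (LP (LK LD1_c3 LD2_c46 LD3_c11)) :=
  Lre_g IH (LK LD1_c1 LD2_c50 LD3_c9) (LK LD1_c3 LD2_c46 LD3_c11) Lrfl Lrfl
theorem f441394 : Led Lsl_gf (LP (LK LD1_c7 LD2_c1 LD3_c9)) = (LP (LK LD1_c3 LD2_c46 LD3_c11)) :=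
  Lgr Lrot76 (Lpr_af (f109643 IH) (Lpe (f85268 IH) (Lpr_gt (f441393 IH) (Lpn (LP (LK LD1_c3 LD2_c46 LD3_c11))))))
theorem f441397 : Led Lsl_dt (LP (LK LD1_c7 LD2_c33 LD3_c23)) = (LP (LK LD1_c3 LD2_c46 LD3_c11)) :=
  Lre_d IH (LK LD1_c7 LD2_c33 LD3_c23) (LK LD1_c3 LD2_c46 LD3_c11) Lrfl Lrfl
theorem f62778 : Led Lsl_dt (LP (LK LD1_c1 LD2_c51 LD3_c3)) = (LP (LK LD1_c3 LD2_c48 LD3_c7)) :=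
  Lre_d IH (LK LD1_c1 LD2_c51 LD3_c3) (LK LD1_c3 LD2_c48 LD3_c7) Lrfl Lrfl
theorem f474239 : Led Lsl_gf (LP (LK LD1_c7 LD2_c33 LD3_c23)) = (LP (LK LD1_c3 LD2_c48 LD3_c8)) :=
  Lgr Lrot138 (Lpr_dt (f441397 IH) (Lpe (f441394 IH) (Lpe (f109671 IH) (Lpr_et (f459650 IH) (Lpe (f459651 IH) (Lpe (f103962 IH) (Lpr_dt (f460598 IH) (Lpr_gt (f474227 IH) (Lpe (f62778 IH) (Lpr_et (f468404 IH) (Lpn (LP (LK LD1_c3 LD2_c48 LD3_c8)))))))))))))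
theorem f440678 : Led Lsl_ct (LP (LK LD1_c3 LD2_c29 LD3_c46)) = (LP (LK LD1_c1 LD2_c41 LD3_c36)) :=
  Lre_c IH (LK LD1_c3 LD2_c29 LD3_c46) (LK LD1_c1 LD2_c41 LD3_c36) Lrfl Lrfl
theorem f440651 : Led Lsl_bt (LP (LK LD1_c1 LD2_c41 LD3_c36)) = (LP (LK LD1_c3 LD2_c29 LD3_c36)) :=
  Lre_b IH (LK LD1_c1 LD2_c41 LD3_c36) (LK LD1_c3 LD2_c29 LD3_c36) Lrfl Lrfl
theorem f440664 : Led Lsl_bt (LP (LK LD1_c3 LD2_c29 LD3_c36)) = (LP (LK LD1_c1 LD2_c41 LD3_c36)) :=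
  Lre_b IH (LK LD1_c3 LD2_c29 LD3_c36) (LK LD1_c1 LD2_c41 LD3_c36) Lrfl Lrfl
theorem f440665 : Led Lsl_df (LP (LK LD1_c1 LD2_c41 LD3_c36)) = (LP (LK LD1_c1 LD2_c41 LD3_c36)) :=
  Lgr Lrot12 (Lpr_bt (f440651 IH) (Lpr_dt (K28.f440657 IH) (Lpr_bt (f440664 IH) (Lpn (LP (LK LD1_c1 LD2_c41 LD3_c36))))))
theorem f109639 : Led Lsl_ct (LP (LK LD1_c1 LD2_c41 LD3_c36)) = (LP (LK LD1_c3 LD2_c29 LD3_c46)) :=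
  Lre_c IH (LK LD1_c1 LD2_c41 LD3_c36) (LK LD1_c3 LD2_c29 LD3_c46) Lrfl Lrfl
theorem f109640 : Led Lsl_af (LP (LK LD1_c1 LD2_c41 LD3_c36)) = (LP (LK LD1_c0 LD2_c51 LD3_c57)) :=
  Lgr Lrot68 (Lpr_ct (f109639 IH) (Lpr_at (K3.f109630 IH) (Lpr_ct (K3.f85237 IH) (Lpn (LP (LK LD1_c0 LD2_c51 LD3_c57))))))
theorem f85241 : Led Lsl_ft (LP (LK LD1_c0 LD2_c23 LD3_c28)) = (LP (LK LD1_c0 LD2_c51 LD3_c57)) :=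
  Lre_f IH (LK LD1_c0 LD2_c23 LD3_c28) (LK LD1_c0 LD2_c51 LD3_c57) Lrfl Lrfl
theorem f85269 : Led Lsl_gt (LP (LK LD1_c0 LD2_c23 LD3_c28)) = (LP (LK LD1_c0 LD2_c51 LD3_c56)) :=
  Lre_g IH (LK LD1_c0 LD2_c23 LD3_c28) (LK LD1_c0 LD2_c51 LD3_c56) Lrfl Lrfl
theorem f441408 : Led Lsl_gf (LP (LK LD1_c1 LD2_c41 LD3_c36)) = (LP (LK LD1_c0 LD2_c51 LD3_c56)) :=
  Lgr Lrot76 (Lpr_af (f109640 IH) (Lpe (f85241 IH) (Lpr_gt (f85269 IH) (Lpn (LP (LK LD1_c0 LD2_c51 LD3_c56))))))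
theorem f85283 : Led Lsl_dt (LP (LK LD1_c1 LD2_c50 LD3_c12)) = (LP (LK LD1_c0 LD2_c51 LD3_c56)) :=
  Lre_d IH (LK LD1_c1 LD2_c50 LD3_c12) (LK LD1_c0 LD2_c51 LD3_c56) Lrfl Lrfl
theorem f474243 : Led Lsl_gf (LP (LK LD1_c1 LD2_c50 LD3_c12)) = (LP (LK LD1_c1 LD2_c51 LD3_c4)) :=
  Lgr Lrot144 (Lpr_dt (f85283 IH) (Lpe (f441408 IH) (Lpe (f440665 IH) (Lpe (f440678 IH) (Lpe (f109642 IH) (Lpr_gf (f441394 IH) (Lpe (f441397 IH) (Lpr_gf (f474239 IH) (Lpe (f62986 IH) (Lpn (LP (LK LD1_c1 LD2_c51 LD3_c4))))))))))))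
def v822 : LQ := Led Lsl_at (LP (LK LD1_c0 LD2_c51 LD3_c56))
theorem f459566 : Led Lsl_at (LP (LK LD1_c0 LD2_c51 LD3_c56)) = v822 :=
  Lrfl
def v776 : LQ := Led Lsl_at (LP (LK LD1_c0 LD2_c50 LD3_c40))
theorem f457182 : Led Lsl_at (LP (LK LD1_c0 LD2_c50 LD3_c40)) = v776 :=
  Lrfl
theorem f457183 : Led Lsl_af (LP (LK LD1_c0 LD2_c50 LD3_c40)) = v776 :=
  Lgr Lrot0 (Lpr_at (f457182 IH) (Lpn v776))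
def v782 : LQ := Led Lsl_gt (LP (LK LD1_c0 LD2_c50 LD3_c43))
theorem f459355 : Led Lsl_gt (LP (LK LD1_c0 LD2_c50 LD3_c43)) = v782 :=
  Lrfl
theorem f459356 : Led Lsl_gf v776 = v782 :=
  Lgr Lrot76 (Lpe (f457182 IH) (Lpr_ff (K28.f457186 IH) (Lpqs (K28.f457215 IH) (Lpr_gt (f459355 IH) (Lpn v782)))))
theorem f459368 : Led Lsl_df (LP (LK LD1_c0 LD2_c50 LD3_c43)) = K28.v785 :=
  Lgr Lrot38 (Lpr_dt (K28.f459366 IH) (Lpn K28.v785))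
def v844 : LQ := Led Lsl_ft (LP (LK LD1_c0 LD2_c52 LD3_c13))
theorem f459675 : Led Lsl_ft (LP (LK LD1_c0 LD2_c52 LD3_c13)) = v844 :=
  Lrfl
def v842 : LQ := Led Lsl_gt (LP (LK LD1_c0 LD2_c52 LD3_c13))
theorem f459668 : Led Lsl_gt (LP (LK LD1_c0 LD2_c52 LD3_c13)) = v842 :=
  Lrfl
theorem f87674 : Led Lsl_af (LP (LK LD1_c0 LD2_c52 LD3_c13)) = (LP (LK LD1_c0 LD2_c23 LD3_c45)) :=
  Lgr Lrot0 (Lpr_at (K2.f87672 IH) (Lpn (LP (LK LD1_c0 LD2_c23 LD3_c45))))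
theorem f442346 : Led Lsl_ft (LP (LK LD1_c0 LD2_c52 LD3_c35)) = (LP (LK LD1_c0 LD2_c23 LD3_c45)) :=
  Lre_f IH (LK LD1_c0 LD2_c52 LD3_c35) (LK LD1_c0 LD2_c23 LD3_c45) Lrfl Lrfl
theorem f459676 : Led Lsl_af (LP (LK LD1_c0 LD2_c52 LD3_c35)) = v844 :=
  Lgr Lrot45 (Lpr_ft (f442346 IH) (Lpe (f87674 IH) (Lpr_ft (f459675 IH) (Lpn v844))))
theorem f459679 : Led Lsl_gt v842 = (LP (LK LD1_c0 LD2_c52 LD3_c35)) :=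
  Lgr Lrot46 (Lpe (f459668 IH) (Lpr_ft (f459675 IH) (Lpe (f459676 IH) (Lpn (LP (LK LD1_c0 LD2_c52 LD3_c35))))))
theorem f450897 : Led Lsl_cf (LP (LK LD1_c0 LD2_c22 LD3_c13)) = K24.v169 :=
  Lgr Lrot11 (Lpr_ct (K24.f450896 IH) (Lpn K24.v169))
theorem f466709 : v842 = (LP (LK LD1_c0 LD2_c53 LD3_c32)) :=
  (Llr Lrot181 (Lpr_gt (f459679 IH) (Lpr_ct (K28.f442352 IH) (Lpr_gt (K28.f466691 IH) (Lpe (K28.f5938 IH) (Lpr_bt (K28.f5937 IH) (Lpr_gt (K28.f5936 IH) (Lpe (K24.f5935 IH) (Lpe (K0.f5896 IH) (Lpr_gt (K24.f5921 IH) (Lpr_cf (f450897 IH) (Lpqs (K24.f455968 IH) (Lpr_bt (K28.f451016 IH) (Lpn (LP (LK LD1_c0 LD2_c53 LD3_c32)))))))))))))))).symm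
theorem f85020 : Led Lsl_et (LP (LK LD1_c0 LD2_c10 LD3_c31)) = (LP (LK LD1_c0 LD2_c23 LD3_c28)) :=
  Lre_e IH (LK LD1_c0 LD2_c10 LD3_c31) (LK LD1_c0 LD2_c23 LD3_c28) Lrfl Lrfl
theorem f85021 : Led Lsl_dt (LP (LK LD1_c0 LD2_c23 LD3_c28)) = (LP (LK LD1_c0 LD2_c23 LD3_c28)) :=
  Lgr Lrot77 (Lpe (f85020 IH) (Lpe (K2.f6700 IH) (Lpr_ef (K2.f85012 IH) (Lpe (K2.f65238 IH) (Lpe (K28.f65954 IH) (Lpn (LP (LK LD1_c0 LD2_c23 LD3_c28))))))))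
theorem f466750 : v782 = (LP (LK LD1_c0 LD2_c23 LD3_c28)) :=
  (Llr Lrot112 (Lpe (f459355 IH) (Lpr_df (f459368 IH) (Lpe (K28.f459372 IH) (Lpq (f466709 IH) (Lpe (f459668 IH) (Lpe (K2.f87671 IH) (Lpr_dt (K3.f87669 IH) (Lpr_gf (K2.f87569 IH) (Lpe (K2.f58193 IH) (Lpe (K2.f65637 IH) (Lpe (K28.f65954 IH) (Lpr_dt (f85021 IH) (Lpn (LP (LK LD1_c0 LD2_c23 LD3_c28)))))))))))))))).symm
theorem f466751 : v776 = (LP (LK LD1_c0 LD2_c51 LD3_c56)) :=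
  Lefun (Lecon (Lfl_gf (f459356 IH)) (f466750 IH)) (f85269 IH)
theorem f466756 : (LP (LK LD1_c0 LD2_c50 LD3_c40)) = v822 :=
  Lefun (Lecon (Lfl_af (f457183 IH)) (f466751 IH)) (f459566 IH)
theorem f466923 : Led Lsl_af (LP (LK LD1_c1 LD2_c50 LD3_c12)) = (LP (LK LD1_c1 LD2_c47 LD3_c55)) :=
  Lgr Lrot117 (Lpr_dt (f85283 IH) (Lpr_at (f459566 IH) (Lpq (f466756 IH) (Lpr_dt (K28.f451585 IH) (Lpn (LP (LK LD1_c1 LD2_c47 LD3_c55)))))))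
theorem f474262 : Led Lsl_gt K28.v785 = (LP (LK LD1_c1 LD2_c51 LD3_c4)) :=
  Lgr Lrot5 (Lpe (K28.f459369 IH) (Lpe (f466923 IH) (Lpr_gf (f474243 IH) (Lpn (LP (LK LD1_c1 LD2_c51 LD3_c4))))))
theorem f456450 : Led Lsl_et (LP (LK LD1_c0 LD2_c50 LD3_c43)) = (LP (LK LD1_c1 LD2_c47 LD3_c58)) :=
  Lre_e IH (LK LD1_c0 LD2_c50 LD3_c43) (LK LD1_c1 LD2_c47 LD3_c58) Lrfl Lrfl
theorem f477418 : Led Lsl_et (LP (LK LD1_c1 LD2_c41 LD3_c18)) = (LP (LK LD1_c3 LD2_c29 LD3_c13)) :=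
  Lre_e IH (LK LD1_c1 LD2_c41 LD3_c18) (LK LD1_c3 LD2_c29 LD3_c13) Lrfl Lrfl
theorem f477419 : Led Lsl_gf (LP (LK LD1_c1 LD2_c47 LD3_c58)) = (LP (LK LD1_c3 LD2_c29 LD3_c13)) :=
  Lgr Lrot141 (Lpe (f456450 IH) (Lpr_dt (K28.f459366 IH) (Lpr_gt (f474262 IH) (Lpr_df (f62976 IH) (Lpr_et (K28.f62787 IH) (Lpr_gt (f62991 IH) (Lpr_dt (f62992 IH) (Lpr_gt (f477394 IH) (Lpe (f18788 IH) (Lpr_et (f477418 IH) (Lpn (LP (LK LD1_c3 LD2_c29 LD3_c13)))))))))))))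
theorem f477420 : Led Lsl_gt (LP (LK LD1_c3 LD2_c29 LD3_c13)) = (LP (LK LD1_c1 LD2_c47 LD3_c58)) :=
  Leop (Lpr_gf (f477419 IH) (Lpn (LP (LK LD1_c3 LD2_c29 LD3_c13))))
theorem seed_68 : LEOK LG_g (LK LD1_c3 LD2_c29 LD3_c13) :=
  Leoe_g (LK LD1_c3 LD2_c29 LD3_c13) (f477420 IH)
theorem f91276 : Led Lsl_bt (LP (LK LD1_c3 LD2_c47 LD3_c26)) = (LP (LK LD1_c1 LD2_c50 LD3_c50)) :=
  Lre_b IH (LK LD1_c3 LD2_c47 LD3_c26) (LK LD1_c1 LD2_c50 LD3_c50) Lrfl Lrfl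
theorem f132189 : Led Lsl_bt (LP (LK LD1_c3 LD2_c42 LD3_c12)) = (LP (LK LD1_c7 LD2_c25 LD3_c4)) :=
  Lre_b IH (LK LD1_c3 LD2_c42 LD3_c12) (LK LD1_c7 LD2_c25 LD3_c4) Lrfl Lrfl
theorem f132183 : Led Lsl_ct (LP (LK LD1_c3 LD2_c26 LD3_c39)) = (LP (LK LD1_c3 LD2_c42 LD3_c12)) :=
  Lgr Lrot59 (Lpr_cf (K5.f132176 IH) (Lpn (LP (LK LD1_c3 LD2_c42 LD3_c12))))
theorem f132235 : Led Lsl_bt (LP (LK LD1_c3 LD2_c35 LD3_c55)) = (LP (LK LD1_c3 LD2_c26 LD3_c39)) :=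
  Lgr Lrot128 (Lpr_cf (K5.f91268 IH) (Lpe (f91276 IH) (Lpr_cf (K5.f132233 IH) (Lpe (f132189 IH) (Lpe (f132183 IH) (Lpn (LP (LK LD1_c3 LD2_c26 LD3_c39))))))))
theorem f123367 : Led Lsl_ct (LP (LK LD1_c0 LD2_c53 LD3_c45)) = (LP (LK LD1_c1 LD2_c54 LD3_c14)) :=
  Lre_c IH (LK LD1_c0 LD2_c53 LD3_c45) (LK LD1_c1 LD2_c54 LD3_c14) Lrfl Lrfl
theorem f5912 : Led Lsl_ct (LP (LK LD1_c0 LD2_c9 LD3_c61)) = (LP (LK LD1_c0 LD2_c9 LD3_c48)) :=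
  Lgr Lrot59 (Lpr_cf (K0.f5896 IH) (Lpn (LP (LK LD1_c0 LD2_c9 LD3_c48))))
theorem f5906 : Led Lsl_bt (LP (LK LD1_c0 LD2_c9 LD3_c61)) = (LP (LK LD1_c0 LD2_c22 LD3_c9)) :=
  Lre_b IH (LK LD1_c0 LD2_c9 LD3_c61) (LK LD1_c0 LD2_c22 LD3_c9) Lrfl Lrfl
theorem f5931 : Led Lsl_gt (LP (LK LD1_c0 LD2_c22 LD3_c9)) = (LP (LK LD1_c0 LD2_c49 LD3_c25)) :=
  Lre_g IH (LK LD1_c0 LD2_c22 LD3_c9) (LK LD1_c0 LD2_c49 LD3_c25) Lrfl Lrfl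
theorem f6646 : Led Lsl_bt (LP (LK LD1_c1 LD2_c45 LD3_c31)) = (LP (LK LD1_c0 LD2_c49 LD3_c25)) :=
  Lre_b IH (LK LD1_c1 LD2_c45 LD3_c31) (LK LD1_c0 LD2_c49 LD3_c25) Lrfl Lrfl
theorem f6647 : Led Lsl_ct (LP (LK LD1_c1 LD2_c45 LD3_c31)) = (LP (LK LD1_c3 LD2_c37 LD3_c17)) :=
  Lre_c IH (LK LD1_c1 LD2_c45 LD3_c31) (LK LD1_c3 LD2_c37 LD3_c17) Lrfl Lrfl
theorem f456230 : Led Lsl_gt (LP (LK LD1_c3 LD2_c37 LD3_c17)) = (LP (LK LD1_c1 LD2_c54 LD3_c14)) :=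
  Lgr Lrot65 (Lpe (f6647 IH) (Lpr_bt (f6646 IH) (Lpe (f5931 IH) (Lpe (f5906 IH) (Lpr_ct (f5912 IH) (Lpe (K24.f5928 IH) (Lpq (K24.f456044 IH) (Lpe (K24.f451185 IH) (Lpr_gf (K24.f437663 IH) (Lpe (K6.f122803 IH) (Lpr_ct (f123367 IH) (Lpn (LP (LK LD1_c1 LD2_c54 LD3_c14))))))))))))))
theorem f477166 : Led Lsl_gt (LP (LK LD1_c3 LD2_c26 LD3_c39)) = (LP (LK LD1_c1 LD2_c45 LD3_c31)) :=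
  Lgr Lrot82 (Lpe (f132235 IH) (Lpr_ct (K5.f91260 IH) (Lpr_gf (f477161 IH) (Lpe (f437666 IH) (Lpr_bt (f437665 IH) (Lpr_gf (K24.f437663 IH) (Lpe (K6.f122803 IH) (Lpr_ct (f123367 IH) (Lpe (f456230 IH) (Lpe (f6647 IH) (Lpn (LP (LK LD1_c1 LD2_c45 LD3_c31)))))))))))))
theorem f456854 : Led Lsl_bt (LP (LK LD1_c0 LD2_c49 LD3_c25)) = (LP (LK LD1_c1 LD2_c45 LD3_c31)) :=
  Lre_b IH (LK LD1_c0 LD2_c49 LD3_c25) (LK LD1_c1 LD2_c45 LD3_c31) Lrfl Lrfl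
theorem f6644 : Led Lsl_ct (LP (LK LD1_c0 LD2_c49 LD3_c25)) = (LP (LK LD1_c1 LD2_c45 LD3_c32)) :=
  Lre_c IH (LK LD1_c0 LD2_c49 LD3_c25) (LK LD1_c1 LD2_c45 LD3_c32) Lrfl Lrfl
theorem f6645 : Led Lsl_gt (LP (LK LD1_c1 LD2_c45 LD3_c32)) = (LP (LK LD1_c3 LD2_c37 LD3_c18)) :=
  Lre_g IH (LK LD1_c1 LD2_c45 LD3_c32) (LK LD1_c3 LD2_c37 LD3_c18) Lrfl Lrfl
theorem f477170 : Led Lsl_gt (LP (LK LD1_c3 LD2_c29 LD3_c12)) = (LP (LK LD1_c3 LD2_c31 LD3_c36)) :=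
  Lgr Lrot49 (Lpe (f18788 IH) (Lpe (K28.f18787 IH) (Lpe (K3.f18744 IH) (Lpr_gt (K3.f18760 IH) (Lpr_dt (f18761 IH) (Lpr_gt (f477168 IH) (Lpr_dt (f461512 IH) (Lpe (f461511 IH) (Lpe (f474016 IH) (Lpn (LP (LK LD1_c3 LD2_c31 LD3_c36))))))))))))
theorem f18782 : Led Lsl_et (LP (LK LD1_c0 LD2_c21 LD3_c9)) = (LP (LK LD1_c0 LD2_c47 LD3_c15)) :=
  Lre_e IH (LK LD1_c0 LD2_c21 LD3_c9) (LK LD1_c0 LD2_c47 LD3_c15) Lrfl Lrfl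
def v846 : LQ := Led Lsl_gf (LP (LK LD1_c0 LD2_c52 LD3_c16))
theorem f459697 : Led Lsl_gf (LP (LK LD1_c0 LD2_c52 LD3_c16)) = v846 :=
  Lrfl
theorem f477946 : v846 = (LP (LK LD1_c0 LD2_c53 LD3_c46)) :=
  (Llr Lrot141 (Lpe (f459697 IH) (Lpe (K2.f87619 IH) (Lpr_dt (K3.f87617 IH) (Lpe (K4.f110027 IH) (Lpe (K2.f58193 IH) (Lpr_et (f18782 IH) (Lpr_gt (K28.f18787 IH) (Lpr_dt (f18788 IH) (Lpr_gt (f477170 IH) (Lpr_df (f473968 IH) (Lpe (f473970 IH) (Lpn (LP (LK LD1_c0 LD2_c53 LD3_c46))))))))))))))).symm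
theorem f89195 : Led Lsl_af (LP (LK LD1_c0 LD2_c52 LD3_c16)) = (LP (LK LD1_c0 LD2_c23 LD3_c48)) :=
  Lgr Lrot0 (Lpr_at (K2.f89193 IH) (Lpn (LP (LK LD1_c0 LD2_c23 LD3_c48))))
theorem f88470 : Led Lsl_ft (LP (LK LD1_c0 LD2_c52 LD3_c44)) = (LP (LK LD1_c0 LD2_c23 LD3_c48)) :=
  Lre_f IH (LK LD1_c0 LD2_c52 LD3_c44) (LK LD1_c0 LD2_c23 LD3_c48) Lrfl Lrfl
theorem f459698 : Led Lsl_gt (LP (LK LD1_c0 LD2_c52 LD3_c44)) = v846 :=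
  Lgr Lrot5 (Lpr_ft (f88470 IH) (Lpe (f89195 IH) (Lpr_gf (f459697 IH) (Lpn v846))))
theorem f459690 : Led Lsl_bt (LP (LK LD1_c1 LD2_c51 LD3_c40)) = (LP (LK LD1_c0 LD2_c52 LD3_c44)) :=
  Lre_b IH (LK LD1_c1 LD2_c51 LD3_c40) (LK LD1_c0 LD2_c52 LD3_c44) Lrfl Lrfl
theorem f477949 : Led Lsl_cf (LP (LK LD1_c3 LD2_c37 LD3_c18)) = (LP (LK LD1_c1 LD2_c51 LD3_c40)) :=
  Lgr Lrot58 (Lpe (f6645 IH) (Lpe (f6644 IH) (Lpr_bt (f456854 IH) (Lpe (f477166 IH) (Lpe (f132235 IH) (Lpr_ct (K5.f91260 IH) (Lpr_gf (f477161 IH) (Lpe (f437666 IH) (Lpq (f477946 IH) (Lpe (f459698 IH) (Lpe (f459690 IH) (Lpn (LP (LK LD1_c1 LD2_c51 LD3_c40))))))))))))))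
theorem f88476 : Led Lsl_ft (LP (LK LD1_c0 LD2_c52 LD3_c38)) = (LP (LK LD1_c1 LD2_c51 LD3_c40)) :=
  Lre_f IH (LK LD1_c0 LD2_c52 LD3_c38) (LK LD1_c1 LD2_c51 LD3_c40) Lrfl Lrfl
theorem f98006 : Led Lsl_ct (LP (LK LD1_c1 LD2_c51 LD3_c36)) = (LP (LK LD1_c0 LD2_c52 LD3_c38)) :=
  Lre_c IH (LK LD1_c1 LD2_c51 LD3_c36) (LK LD1_c0 LD2_c52 LD3_c38) Lrfl Lrfl
theorem f477960 : Led Lsl_ft (LP (LK LD1_c3 LD2_c37 LD3_c18)) = (LP (LK LD1_c1 LD2_c51 LD3_c36)) :=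
  Lgr Lrot4 (Lpr_cf (f477949 IH) (Lpe (f88476 IH) (Lpe (f98006 IH) (Lpn (LP (LK LD1_c1 LD2_c51 LD3_c36))))))
theorem f97998 : Led Lsl_dt (LP (LK LD1_c3 LD2_c49 LD3_c10)) = (LP (LK LD1_c1 LD2_c51 LD3_c36)) :=
  Lre_d IH (LK LD1_c3 LD2_c49 LD3_c10) (LK LD1_c1 LD2_c51 LD3_c36) Lrfl Lrfl
theorem f97999 : Led Lsl_af (LP (LK LD1_c3 LD2_c36 LD3_c34)) = (LP (LK LD1_c1 LD2_c51 LD3_c36)) :=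
  Lgr Lrot117 (Lpr_dt (K28.f97038 IH) (Lpr_at (K28.f97980 IH) (Lpr_dt (f97998 IH) (Lpn (LP (LK LD1_c1 LD2_c51 LD3_c36))))))
theorem f97024 : Led Lsl_et (LP (LK LD1_c1 LD2_c45 LD3_c8)) = (LP (LK LD1_c3 LD2_c36 LD3_c34)) :=
  Lre_e IH (LK LD1_c1 LD2_c45 LD3_c8) (LK LD1_c3 LD2_c36 LD3_c34) Lrfl Lrfl
theorem f97056 : Led Lsl_dt (LP (LK LD1_c3 LD2_c35 LD3_c48)) = (LP (LK LD1_c7 LD2_c12 LD3_c13)) :=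
  Lre_d IH (LK LD1_c3 LD2_c35 LD3_c48) (LK LD1_c7 LD2_c12 LD3_c13) Lrfl Lrfl
theorem f97086 : Led Lsl_gt (LP (LK LD1_c7 LD2_c12 LD3_c13)) = (LP (LK LD1_c7 LD2_c15 LD3_c25)) :=
  Lre_g IH (LK LD1_c7 LD2_c12 LD3_c13) (LK LD1_c7 LD2_c15 LD3_c25) Lrfl Lrfl
theorem f97087 : Led Lsl_dt (LP (LK LD1_c3 LD2_c37 LD3_c27)) = (LP (LK LD1_c7 LD2_c15 LD3_c25)) :=
  Lre_d IH (LK LD1_c3 LD2_c37 LD3_c27) (LK LD1_c7 LD2_c15 LD3_c25) Lrfl Lrfl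
theorem f97088 : Led Lsl_et (LP (LK LD1_c3 LD2_c37 LD3_c27)) = (LP (LK LD1_c1 LD2_c45 LD3_c34)) :=
  Lre_e IH (LK LD1_c3 LD2_c37 LD3_c27) (LK LD1_c1 LD2_c45 LD3_c34) Lrfl Lrfl
theorem f97089 : Led Lsl_gf (LP (LK LD1_c3 LD2_c36 LD3_c34)) = (LP (LK LD1_c1 LD2_c45 LD3_c34)) :=
  Lgr Lrot141 (Lpe (f97024 IH) (Lpr_dt (K3.f97030 IH) (Lpr_gt (K3.f97029 IH) (Lpe (K3.f18020 IH) (Lpr_et (K3.f97032 IH) (Lpr_gt (K28.f97033 IH) (Lpr_dt (f97056 IH) (Lpr_gt (f97086 IH) (Lpe (f97087 IH) (Lpr_et (f97088 IH) (Lpn (LP (LK LD1_c1 LD2_c45 LD3_c34)))))))))))))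
theorem f477976 : Led Lsl_gt (LP (LK LD1_c3 LD2_c37 LD3_c18)) = (LP (LK LD1_c1 LD2_c45 LD3_c34)) :=
  Lgr Lrot5 (Lpr_ft (f477960 IH) (Lpe (f97999 IH) (Lpr_gf (f97089 IH) (Lpn (LP (LK LD1_c1 LD2_c45 LD3_c34))))))
theorem f477969 : Led Lsl_bt (LP (LK LD1_c7 LD2_c15 LD3_c8)) = (LP (LK LD1_c3 LD2_c37 LD3_c18)) :=
  Lre_b IH (LK LD1_c7 LD2_c15 LD3_c8) (LK LD1_c3 LD2_c37 LD3_c18) Lrfl Lrfl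
theorem f477953 : Led Lsl_bt (LP (LK LD1_c3 LD2_c37 LD3_c18)) = (LP (LK LD1_c7 LD2_c15 LD3_c8)) :=
  Lre_b IH (LK LD1_c3 LD2_c37 LD3_c18) (LK LD1_c7 LD2_c15 LD3_c8) Lrfl Lrfl
theorem f89219 : Led Lsl_bt (LP (LK LD1_c0 LD2_c52 LD3_c44)) = (LP (LK LD1_c1 LD2_c51 LD3_c40)) :=
  Lre_b IH (LK LD1_c0 LD2_c52 LD3_c44) (LK LD1_c1 LD2_c51 LD3_c40) Lrfl Lrfl
theorem f89217 : Led Lsl_ct (LP (LK LD1_c1 LD2_c51 LD3_c50)) = (LP (LK LD1_c0 LD2_c52 LD3_c44)) :=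
  Lre_c IH (LK LD1_c1 LD2_c51 LD3_c50) (LK LD1_c0 LD2_c52 LD3_c44) Lrfl Lrfl
theorem f89218 : Led Lsl_bt (LP (LK LD1_c3 LD2_c49 LD3_c29)) = (LP (LK LD1_c1 LD2_c51 LD3_c50)) :=
  Lre_b IH (LK LD1_c3 LD2_c49 LD3_c29) (LK LD1_c1 LD2_c51 LD3_c50) Lrfl Lrfl
theorem f477954 : Led Lsl_ct (LP (LK LD1_c7 LD2_c15 LD3_c8)) = (LP (LK LD1_c3 LD2_c49 LD3_c29)) :=
  Lgr Lrot83 (Lpe (f477953 IH) (Lpr_cf (f477949 IH) (Lpe (f89219 IH) (Lpe (f89217 IH) (Lpe (f89218 IH) (Lpn (LP (LK LD1_c3 LD2_c49 LD3_c29))))))))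
theorem f6619 : Led Lsl_ct (LP (LK LD1_c1 LD2_c45 LD3_c34)) = (LP (LK LD1_c0 LD2_c49 LD3_c26)) :=
  Lre_c IH (LK LD1_c1 LD2_c45 LD3_c34) (LK LD1_c0 LD2_c49 LD3_c26) Lrfl Lrfl
theorem f6650 : Led Lsl_gt (LP (LK LD1_c0 LD2_c49 LD3_c26)) = (LP (LK LD1_c0 LD2_c22 LD3_c9)) :=
  Lre_g IH (LK LD1_c0 LD2_c49 LD3_c26) (LK LD1_c0 LD2_c22 LD3_c9) Lrfl Lrfl
theorem f6004 : Led Lsl_ct (LP (LK LD1_c0 LD2_c49 LD3_c24)) = (LP (LK LD1_c0 LD2_c22 LD3_c9)) :=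
  Lre_c IH (LK LD1_c0 LD2_c49 LD3_c24) (LK LD1_c0 LD2_c22 LD3_c9) Lrfl Lrfl
theorem f5907 : Led Lsl_ct (LP (LK LD1_c0 LD2_c22 LD3_c9)) = (LP (LK LD1_c0 LD2_c49 LD3_c24)) :=
  Lre_c IH (LK LD1_c0 LD2_c22 LD3_c9) (LK LD1_c0 LD2_c49 LD3_c24) Lrfl Lrfl
theorem f5909 : Led Lsl_ct (LP (LK LD1_c0 LD2_c48 LD3_c26)) = (LP (LK LD1_c0 LD2_c21 LD3_c41)) :=
  Lre_c IH (LK LD1_c0 LD2_c48 LD3_c26) (LK LD1_c0 LD2_c21 LD3_c41) Lrfl Lrfl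
theorem f5910 : Led Lsl_bt (LP (LK LD1_c0 LD2_c49 LD3_c24)) = (LP (LK LD1_c0 LD2_c48 LD3_c26)) :=
  Lgr Lrot128 (Lpe (f5907 IH) (Lpe (f5906 IH) (Lpr_cf (K0.f5896 IH) (Lpe (K24.f5908 IH) (Lpe (f5909 IH) (Lpn (LP (LK LD1_c0 LD2_c48 LD3_c26))))))))
theorem f6662 : Led Lsl_bt (LP (LK LD1_c3 LD2_c33 LD3_c49)) = (LP (LK LD1_c1 LD2_c43 LD3_c38)) :=
  Lre_b IH (LK LD1_c3 LD2_c33 LD3_c49) (LK LD1_c1 LD2_c43 LD3_c38) Lrfl Lrfl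
theorem f6663 : Led Lsl_ct (LP (LK LD1_c3 LD2_c33 LD3_c49)) = (LP (LK LD1_c7 LD2_c8 LD3_c33)) :=
  Lre_c IH (LK LD1_c3 LD2_c33 LD3_c49) (LK LD1_c7 LD2_c8 LD3_c33) Lrfl Lrfl
theorem f477981 : Led Lsl_gf (LP (LK LD1_c3 LD2_c49 LD3_c29)) = (LP (LK LD1_c7 LD2_c8 LD3_c33)) :=
  Lgr Lrot126 (Lpe (f477954 IH) (Lpr_bt (f477969 IH) (Lpr_gt (f477976 IH) (Lpr_ct (f6619 IH) (Lpr_gt (f6650 IH) (Lpe (f6004 IH) (Lpr_bt (f5910 IH) (Lpr_gt (K24.f6657 IH) (Lpe (f6662 IH) (Lpr_ct (f6663 IH) (Lpn (LP (LK LD1_c7 LD2_c8 LD3_c33)))))))))))))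
theorem f477988 : Led Lsl_at (LP (LK LD1_c7 LD2_c39 LD3_c33)) = (LP (LK LD1_c3 LD2_c49 LD3_c29)) :=
  Lre_a IH (LK LD1_c7 LD2_c39 LD3_c33) (LK LD1_c3 LD2_c49 LD3_c29) Lrfl Lrfl
theorem f88588 : Led Lsl_ft (LP (LK LD1_c3 LD2_c49 LD3_c21)) = (LP (LK LD1_c7 LD2_c39 LD3_c33)) :=
  Lre_f IH (LK LD1_c3 LD2_c49 LD3_c21) (LK LD1_c7 LD2_c39 LD3_c33) Lrfl Lrfl
theorem f477989 : Led Lsl_gt (LP (LK LD1_c3 LD2_c49 LD3_c21)) = (LP (LK LD1_c7 LD2_c8 LD3_c33)) :=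
  Lgr Lrot5 (Lpr_ft (f88588 IH) (Lpr_at (f477988 IH) (Lpr_gf (f477981 IH) (Lpn (LP (LK LD1_c7 LD2_c8 LD3_c33))))))
theorem f96885 : Led Lsl_bt (LP (LK LD1_c7 LD2_c39 LD3_c13)) = (LP (LK LD1_c7 LD2_c7 LD3_c33)) :=
  Lgr Lrot127 (Lpr_bf (K28.f96876 IH) (Lpn (LP (LK LD1_c7 LD2_c7 LD3_c33))))
theorem f6379 : Led Lsl_ct (LP (LK LD1_c3 LD2_c32 LD3_c52)) = (LP (LK LD1_c1 LD2_c43 LD3_c10)) :=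
  Lre_c IH (LK LD1_c3 LD2_c32 LD3_c52) (LK LD1_c1 LD2_c43 LD3_c10) Lrfl Lrfl
theorem f6020 : Led Lsl_bt (LP (LK LD1_c1 LD2_c43 LD3_c47)) = (LP (LK LD1_c3 LD2_c34 LD3_c13)) :=
  Lre_b IH (LK LD1_c1 LD2_c43 LD3_c47) (LK LD1_c3 LD2_c34 LD3_c13) Lrfl Lrfl
theorem f478009 : Led Lsl_gf (LP (LK LD1_c7 LD2_c7 LD3_c33)) = (LP (LK LD1_c3 LD2_c34 LD3_c13)) :=
  Lgr Lrot124 (Lpe (f96885 IH) (Lpr_ct (K28.f89804 IH) (Lpr_gt (f477989 IH) (Lpe (f6663 IH) (Lpr_bt (f6662 IH) (Lpr_gt (K28.f10652 IH) (Lpr_ct (f6379 IH) (Lpr_gt (K28.f6380 IH) (Lpe (K28.f6019 IH) (Lpr_bt (f6020 IH) (Lpn (LP (LK LD1_c3 LD2_c34 LD3_c13)))))))))))))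
theorem f97963 : Led Lsl_at (LP (LK LD1_c7 LD2_c13 LD3_c27)) = (LP (LK LD1_c7 LD2_c7 LD3_c33)) :=
  Lgr Lrot100 (Lpr_af (K28.f97934 IH) (Lpn (LP (LK LD1_c7 LD2_c7 LD3_c33))))
theorem f6021 : Led Lsl_gt (LP (LK LD1_c7 LD2_c9 LD3_c36)) = (LP (LK LD1_c3 LD2_c34 LD3_c13)) :=
  Lre_g IH (LK LD1_c7 LD2_c9 LD3_c36) (LK LD1_c3 LD2_c34 LD3_c13) Lrfl Lrfl
theorem f478018 : Led Lsl_ff (LP (LK LD1_c7 LD2_c13 LD3_c27)) = (LP (LK LD1_c7 LD2_c9 LD3_c36)) :=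
  Lgr Lrot52 (Lpr_at (f97963 IH) (Lpr_gf (f478009 IH) (Lpe (f6021 IH) (Lpn (LP (LK LD1_c7 LD2_c9 LD3_c36))))))
theorem f478033 : Led Lsl_ft (LP (LK LD1_c7 LD2_c13 LD3_c27)) = (LP (LK LD1_c7 LD2_c9 LD3_c36)) :=
  Lgr Lrot48 (Lpr_ff (f478018 IH) (Lpn (LP (LK LD1_c7 LD2_c9 LD3_c36))))
theorem f461290 : Led Lsl_gt (LP (LK LD1_c3 LD2_c46 LD3_c58)) = (LP (LK LD1_c7 LD2_c34 LD3_c47)) :=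
  Lre_g IH (LK LD1_c3 LD2_c46 LD3_c58) (LK LD1_c7 LD2_c34 LD3_c47) Lrfl Lrfl
theorem f477414 : Led Lsl_dt (LP (LK LD1_c7 LD2_c34 LD3_c47)) = (LP (LK LD1_c3 LD2_c47 LD3_c58)) :=
  Lgr Lrot57 (Lpe (f461290 IH) (Lpe (f468594 IH) (Lpr_gt (f477394 IH) (Lpr_dt (f62979 IH) (Lpr_gt (K24.f62798 IH) (Lpr_dt (K1.f62768 IH) (Lpe (K28.f11238 IH) (Lpe (f11239 IH) (Lpe (f11240 IH) (Lpn (LP (LK LD1_c3 LD2_c47 LD3_c58))))))))))))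
theorem f129703 : Led Lsl_dt (LP (LK LD1_c13 LD2_c17 LD3_c20)) = (LP (LK LD1_c7 LD2_c0 LD3_c14)) :=
  Lre_d IH (LK LD1_c13 LD2_c17 LD3_c20) (LK LD1_c7 LD2_c0 LD3_c14) Lrfl Lrfl
theorem f477183 : Led Lsl_gf (LP (LK LD1_c3 LD2_c29 LD3_c16)) = (LP (LK LD1_c3 LD2_c31 LD3_c36)) :=
  Lgr Lrot144 (Lpr_dt (K24.f129675 IH) (Lpr_gt (K28.f18795 IH) (Lpr_dt (K1.f18779 IH) (Lpe (K28.f14951 IH) (Lpe (f63934 IH) (Lpe (f63949 IH) (Lpr_df (K24.f64999 IH) (Lpr_gf (f477181 IH) (Lpe (f455722 IH) (Lpn (LP (LK LD1_c3 LD2_c31 LD3_c36))))))))))))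
theorem f477429 : Led Lsl_gt (LP (LK LD1_c7 LD2_c34 LD3_c47)) = (LP (LK LD1_c7 LD2_c4 LD3_c50)) :=
  Lgr Lrot146 (Lpr_dt (f477414 IH) (Lpr_gt (f11240 IH) (Lpr_ct (f64171 IH) (Lpr_gt (f443421 IH) (Lpr_ct (f468622 IH) (Lpr_dt (f129703 IH) (Lpe (K24.f129694 IH) (Lpr_gf (f477183 IH) (Lpe (f455721 IH) (Lpn (LP (LK LD1_c7 LD2_c4 LD3_c50))))))))))))
theorem f458358 : Led Lsl_dt (LP (LK LD1_c6 LD2_c52 LD3_c6)) = (LP (LK LD1_c3 LD2_c24 LD3_c49)) :=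
  Lre_d IH (LK LD1_c6 LD2_c52 LD3_c6) (LK LD1_c3 LD2_c24 LD3_c49) Lrfl Lrfl
theorem f477215 : Led Lsl_gf (LP (LK LD1_c6 LD2_c52 LD3_c6)) = (LP (LK LD1_c6 LD2_c34 LD3_c56)) :=
  Lgr Lrot144 (Lpr_dt (f458358 IH) (Lpe (K28.f464044 IH) (Lpe (K28.f461903 IH) (Lpr_cf (f461901 IH) (Lpe (K24.f460165 IH) (Lpe (f461120 IH) (Lpe (K5.f87973 IH) (Lpr_gf (f477191 IH) (Lpe (f464855 IH) (Lpn (LP (LK LD1_c6 LD2_c34 LD3_c56))))))))))))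
theorem f477433 : Led Lsl_cf (LP (LK LD1_c7 LD2_c34 LD3_c47)) = (LP (LK LD1_c6 LD2_c52 LD3_c6)) :=
  Lgr Lrot169 (Lpr_gt (f477429 IH) (Lpr_ct (f455721 IH) (Lpr_df (f473968 IH) (Lpe (f461300 IH) (Lpr_gf (f461301 IH) (Lpe (f457906 IH) (Lpe (f457908 IH) (Lpe (f464845 IH) (Lpe (f477215 IH) (Lpn (LP (LK LD1_c6 LD2_c52 LD3_c6))))))))))))
theorem f64172 : Led Lsl_ct (LP (LK LD1_c7 LD2_c36 LD3_c59)) = (LP (LK LD1_c3 LD2_c47 LD3_c58)) :=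
  Lre_c IH (LK LD1_c7 LD2_c36 LD3_c59) (LK LD1_c3 LD2_c47 LD3_c58) Lrfl Lrfl
theorem f63678 : Led Lsl_ct (LP (LK LD1_c7 LD2_c45 LD3_c59)) = (LP (LK LD1_c3 LD2_c52 LD3_c2)) :=
  Lre_c IH (LK LD1_c7 LD2_c45 LD3_c59) (LK LD1_c3 LD2_c52 LD3_c2) Lrfl Lrfl
theorem f64168 : Led Lsl_ct (LP (LK LD1_c3 LD2_c29 LD3_c8)) = (LP (LK LD1_c7 LD2_c0 LD3_c3)) :=
  Lre_c IH (LK LD1_c3 LD2_c29 LD3_c8) (LK LD1_c7 LD2_c0 LD3_c3) Lrfl Lrfl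
theorem f463970 : Led Lsl_gt (LP (LK LD1_c7 LD2_c37 LD3_c60)) = (LP (LK LD1_c7 LD2_c36 LD3_c59)) :=
  Lgr Lrot9 (Lpr_df (K24.f460554 IH) (Lpr_gt (f463961 IH) (Lpr_ct (f63678 IH) (Lpe (f63663 IH) (Lpr_ct (f64168 IH) (Lpe (f64173 IH) (Lpe (f64171 IH) (Lpe (f11240 IH) (Lpe (f64172 IH) (Lpn (LP (LK LD1_c7 LD2_c36 LD3_c59))))))))))))
theorem f464857 : Led Lsl_cf (LP (LK LD1_c6 LD2_c34 LD3_c56)) = (LP (LK LD1_c7 LD2_c0 LD3_c36)) :=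
  Lgr Lrot14 (Lpr_df (f464850 IH) (Lpr_gf (f464799 IH) (Lpe (f459869 IH) (Lpe (K28.f464834 IH) (Lpr_ct (K28.f108766 IH) (Lpr_gt (K24.f460592 IH) (Lpr_dt (f129824 IH) (Lpr_gt (f129849 IH) (Lpe (f460605 IH) (Lpn (LP (LK LD1_c7 LD2_c0 LD3_c36))))))))))))
theorem f477458 : Led Lsl_gt (LP (LK LD1_c3 LD2_c30 LD3_c58)) = (LP (LK LD1_c7 LD2_c0 LD3_c36)) :=
  Lgr Lrot9 (Lpe (f63061 IH) (Lpe (K24.f460129 IH) (Lpr_ct (f87986 IH) (Lpr_gt (f463970 IH) (Lpr_ct (f64172 IH) (Lpe (f477414 IH) (Lpr_cf (f477433 IH) (Lpr_gf (f477215 IH) (Lpr_cf (f464857 IH) (Lpn (LP (LK LD1_c7 LD2_c0 LD3_c36))))))))))))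
theorem f443506 : Led Lsl_ct (LP (LK LD1_c7 LD2_c3 LD3_c31)) = (LP (LK LD1_c3 LD2_c30 LD3_c44)) :=
  Lre_c IH (LK LD1_c7 LD2_c3 LD3_c31) (LK LD1_c3 LD2_c30 LD3_c44) Lrfl Lrfl
theorem f458488 : Led Lsl_gt (LP (LK LD1_c3 LD2_c30 LD3_c44)) = (LP (LK LD1_c1 LD2_c41 LD3_c61)) :=
  Lgr Lrot94 (Lpe (f443506 IH) (Lpr_gt (f458485 IH) (Lpr_dt (K3.f63632 IH) (Lpr_gt (K3.f63631 IH) (Lpr_dt (f451323 IH) (Lpe (K24.f448755 IH) (Lpe (K24.f62721 IH) (Lpe (K1.f62683 IH) (Lpe (K1.f62684 IH) (Lpn (LP (LK LD1_c1 LD2_c41 LD3_c61))))))))))))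
theorem f86925 : Led Lsl_gt (LP (LK LD1_c0 LD2_c52 LD3_c42)) = (LP (LK LD1_c0 LD2_c23 LD3_c48)) :=
  Lre_g IH (LK LD1_c0 LD2_c52 LD3_c42) (LK LD1_c0 LD2_c23 LD3_c48) Lrfl Lrfl
theorem f443497 : Led Lsl_et (LP (LK LD1_c1 LD2_c51 LD3_c52)) = (LP (LK LD1_c0 LD2_c52 LD3_c42)) :=
  Lre_e IH (LK LD1_c1 LD2_c51 LD3_c52) (LK LD1_c0 LD2_c52 LD3_c42) Lrfl Lrfl
theorem f443499 : Led Lsl_dt (LP (LK LD1_c1 LD2_c51 LD3_c52)) = (LP (LK LD1_c3 LD2_c30 LD3_c44)) :=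
  Lgr Lrot56 (Lpr_et (f443497 IH) (Lpr_gt (f86925 IH) (Lpe (K3.f84977 IH) (Lpr_dt (K2.f64909 IH) (Lpr_gt (K1.f10017 IH) (Lpe (K0.f17779 IH) (Lpr_et (K5.f62693 IH) (Lpr_gt (K5.f87981 IH) (Lpr_dt (K5.f87980 IH) (Lpr_gt (f443498 IH) (Lpn (LP (LK LD1_c3 LD2_c30 LD3_c44)))))))))))))
theorem f443503 : Led Lsl_df (LP (LK LD1_c1 LD2_c51 LD3_c52)) = (LP (LK LD1_c3 LD2_c30 LD3_c44)) :=
  Lgr Lrot38 (Lpr_dt (f443499 IH) (Lpn (LP (LK LD1_c3 LD2_c30 LD3_c44))))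
theorem f477490 : Led Lsl_gt (LP (LK LD1_c1 LD2_c51 LD3_c52)) = (LP (LK LD1_c1 LD2_c51 LD3_c1)) :=
  Lgr Lrot9 (Lpr_df (f443503 IH) (Lpr_gt (f458488 IH) (Lpr_ct (K24.f18818 IH) (Lpr_gt (f477458 IH) (Lpe (f464857 IH) (Lpr_df (f464850 IH) (Lpe (f463709 IH) (Lpe (f468639 IH) (Lpe (f129799 IH) (Lpn (LP (LK LD1_c1 LD2_c51 LD3_c1))))))))))))
theorem f87984 : Led Lsl_ct (LP (LK LD1_c1 LD2_c41 LD3_c57)) = (LP (LK LD1_c3 LD2_c30 LD3_c45)) :=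
  Lre_c IH (LK LD1_c1 LD2_c41 LD3_c57) (LK LD1_c3 LD2_c30 LD3_c45) Lrfl Lrfl
theorem f87977 : Led Lsl_gt (LP (LK LD1_c3 LD2_c30 LD3_c45)) = (LP (LK LD1_c7 LD2_c3 LD3_c32)) :=
  Lre_g IH (LK LD1_c3 LD2_c30 LD3_c45) (LK LD1_c7 LD2_c3 LD3_c32) Lrfl Lrfl
theorem f477495 : Led Lsl_dt (LP (LK LD1_c7 LD2_c3 LD3_c32)) = (LP (LK LD1_c7 LD2_c37 LD3_c13)) :=
  Lgr Lrot57 (Lpe (f87977 IH) (Lpe (f87984 IH) (Lpr_gt (f443498 IH) (Lpe (f443503 IH) (Lpr_gt (f477490 IH) (Lpr_dt (f85282 IH) (Lpe (K24.f129788 IH) (Lpe (K24.f129854 IH) (Lpe (f129845 IH) (Lpn (LP (LK LD1_c7 LD2_c37 LD3_c13))))))))))))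
theorem f477519 : Led Lsl_df (LP (LK LD1_c7 LD2_c3 LD3_c32)) = (LP (LK LD1_c7 LD2_c37 LD3_c13)) :=
  Lgr Lrot38 (Lpr_dt (f477495 IH) (Lpn (LP (LK LD1_c7 LD2_c37 LD3_c13))))
theorem f477174 : Led Lsl_dt (LP (LK LD1_c13 LD2_c22 LD3_c59)) = (LP (LK LD1_c7 LD2_c45 LD3_c52)) :=
  Lgr Lrot6 (Lpr_gt (f468537 IH) (Lpr_ct (f64167 IH) (Lpr_gt (f477168 IH) (Lpe (f468592 IH) (Lpe (f464013 IH) (Lpe (f461260 IH) (Lpe (f65782 IH) (Lpe (f459868 IH) (Lpe (f459857 IH) (Lpn (LP (LK LD1_c7 LD2_c45 LD3_c52))))))))))))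
theorem f460438 : Led Lsl_ct (LP (LK LD1_c13 LD2_c22 LD3_c59)) = (LP (LK LD1_c7 LD2_c3 LD3_c25)) :=
  Lre_c IH (LK LD1_c13 LD2_c22 LD3_c59) (LK LD1_c7 LD2_c3 LD3_c25) Lrfl Lrfl
theorem f477179 : Led Lsl_df (LP (LK LD1_c7 LD2_c3 LD3_c25)) = (LP (LK LD1_c3 LD2_c52 LD3_c55)) :=
  Lgr Lrot84 (Lpe (f460438 IH) (Lpr_df (f477176 IH) (Lpr_gf (f468821 IH) (Lpr_df (f468576 IH) (Lpe (f468562 IH) (Lpe (K24.f92417 IH) (Lpr_gt (f460084 IH) (Lpr_dt (f464167 IH) (Lpr_gt (f468639 IH) (Lpn (LP (LK LD1_c3 LD2_c52 LD3_c55))))))))))))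
theorem f477303 : Led Lsl_df (LP (LK LD1_c7 LD2_c45 LD3_c51)) = (LP (LK LD1_c13 LD2_c22 LD3_c57)) :=
  Lgr Lrot38 (Lpr_dt (f477299 IH) (Lpn (LP (LK LD1_c13 LD2_c22 LD3_c57))))
theorem f467469 : Led Lsl_ct (LP (LK LD1_c3 LD2_c37 LD3_c24)) = (LP (LK LD1_c3 LD2_c49 LD3_c39)) :=
  Lgr Lrot59 (Lpr_cf (f467461 IH) (Lpn (LP (LK LD1_c3 LD2_c49 LD3_c39))))
theorem f477533 : Led Lsl_ct (LP (LK LD1_c7 LD2_c3 LD3_c32)) = (LP (LK LD1_c7 LD2_c15 LD3_c17)) :=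
  Lgr Lrot176 (Lpr_df (f477519 IH) (Lpe (f468388 IH) (Lpe (f477174 IH) (Lpe (f461784 IH) (Lpr_df (f477179 IH) (Lpr_cf (f463711 IH) (Lpe (f464845 IH) (Lpr_cf (f464857 IH) (Lpr_df (f460605 IH) (Lpr_cf (f474229 IH) (Lpr_df (f477303 IH) (Lpe (f461024 IH) (Lpe (f461581 IH) (Lpe (f467469 IH) (Lpe (f467472 IH) (Lpn (LP (LK LD1_c7 LD2_c15 LD3_c17))))))))))))))))))
theorem f459836 : Led Lsl_dt (LP (LK LD1_c1 LD2_c52 LD3_c41)) = (LP (LK LD1_c0 LD2_c53 LD3_c0)) :=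
  Lre_d IH (LK LD1_c1 LD2_c52 LD3_c41) (LK LD1_c0 LD2_c53 LD3_c0) Lrfl Lrfl
theorem f468393 : Led Lsl_gt (LP (LK LD1_c3 LD2_c48 LD3_c7)) = (LP (LK LD1_c7 LD2_c37 LD3_c13)) :=
  Lgr Lrot9 (Lpe (f62778 IH) (Lpe (K28.f464140 IH) (Lpr_ct (K5.f128081 IH) (Lpr_gt (K28.f464834 IH) (Lpr_ct (K28.f88015 IH) (Lpe (f459836 IH) (Lpe (f459868 IH) (Lpe (f459857 IH) (Lpr_cf (f468382 IH) (Lpn (LP (LK LD1_c7 LD2_c37 LD3_c13))))))))))))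
theorem f458078 : Led Lsl_dt (LP (LK LD1_c1 LD2_c52 LD3_c44)) = (LP (LK LD1_c3 LD2_c27 LD3_c34)) :=
  Lgr Lrot42 (Lpr_df (K24.f457977 IH) (Lpn (LP (LK LD1_c3 LD2_c27 LD3_c34))))
theorem f477537 : Led Lsl_gf (LP (LK LD1_c3 LD2_c37 LD3_c24)) = (LP (LK LD1_c3 LD2_c27 LD3_c34)) :=
  Lgr Lrot143 (Lpr_dt (f467471 IH) (Lpe (f477533 IH) (Lpr_df (f477519 IH) (Lpe (f468393 IH) (Lpe (f62778 IH) (Lpe (K28.f464142 IH) (Lpr_cf (K28.f464788 IH) (Lpe (K28.f464814 IH) (Lpr_dt (f458078 IH) (Lpn (LP (LK LD1_c3 LD2_c27 LD3_c34))))))))))))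
theorem f467497 : Led Lsl_bt (LP (LK LD1_c1 LD2_c45 LD3_c36)) = (LP (LK LD1_c3 LD2_c37 LD3_c24)) :=
  Lre_b IH (LK LD1_c1 LD2_c45 LD3_c36) (LK LD1_c3 LD2_c37 LD3_c24) Lrfl Lrfl
theorem f467465 : Led Lsl_ct (LP (LK LD1_c1 LD2_c45 LD3_c36)) = (LP (LK LD1_c3 LD2_c37 LD3_c27)) :=
  Lre_c IH (LK LD1_c1 LD2_c45 LD3_c36) (LK LD1_c3 LD2_c37 LD3_c27) Lrfl Lrfl
theorem f467513 : Led Lsl_gt (LP (LK LD1_c3 LD2_c37 LD3_c27)) = (LP (LK LD1_c7 LD2_c15 LD3_c24)) :=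
  Lre_g IH (LK LD1_c3 LD2_c37 LD3_c27) (LK LD1_c7 LD2_c15 LD3_c24) Lrfl Lrfl
theorem f91986 : Led Lsl_ct (LP (LK LD1_c1 LD2_c40 LD3_c25)) = (LP (LK LD1_c3 LD2_c27 LD3_c38)) :=
  Lre_c IH (LK LD1_c1 LD2_c40 LD3_c25) (LK LD1_c3 LD2_c27 LD3_c38) Lrfl Lrfl
theorem f90880 : Led Lsl_gt (LP (LK LD1_c6 LD2_c57 LD3_c29)) = (LP (LK LD1_c3 LD2_c27 LD3_c38)) :=
  Lre_g IH (LK LD1_c6 LD2_c57 LD3_c29) (LK LD1_c3 LD2_c27 LD3_c38) Lrfl Lrfl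
theorem f95921 : Led Lsl_gt (LP (LK LD1_c7 LD2_c21 LD3_c4)) = (LP (LK LD1_c13 LD2_c53 LD3_c58)) :=
  Lre_g IH (LK LD1_c7 LD2_c21 LD3_c4) (LK LD1_c13 LD2_c53 LD3_c58) Lrfl Lrfl
theorem f473284 : Led Lsl_af (LP (LK LD1_c13 LD2_c7 LD3_c40)) = (LP (LK LD1_c6 LD2_c57 LD3_c21)) :=
  Lgr Lrot45 (Lpe (K28.f464103 IH) (Lpe (K28.f425159 IH) (Lpr_ft (K28.f473281 IH) (Lpn (LP (LK LD1_c6 LD2_c57 LD3_c21))))))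
theorem f473294 : Led Lsl_gt (LP (LK LD1_c13 LD2_c53 LD3_c58)) = (LP (LK LD1_c13 LD2_c7 LD3_c40)) :=
  Lgr Lrot46 (Lpe (f95921 IH) (Lpr_ft (K28.f473281 IH) (Lpe (f473284 IH) (Lpn (LP (LK LD1_c13 LD2_c7 LD3_c40))))))
theorem f15420 : Led Lsl_ct (LP (LK LD1_c6 LD2_c57 LD3_c14)) = (LP (LK LD1_c3 LD2_c27 LD3_c31)) :=
  Lre_c IH (LK LD1_c6 LD2_c57 LD3_c14) (LK LD1_c3 LD2_c27 LD3_c31) Lrfl Lrfl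
theorem f15433 : Led Lsl_gt (LP (LK LD1_c13 LD2_c7 LD3_c36)) = (LP (LK LD1_c6 LD2_c57 LD3_c14)) :=
  Lre_g IH (LK LD1_c13 LD2_c7 LD3_c36) (LK LD1_c6 LD2_c57 LD3_c14) Lrfl Lrfl
theorem f420092 : Led Lsl_dt (LP (LK LD1_c7 LD2_c21 LD3_c4)) = (LP (LK LD1_c3 LD2_c40 LD3_c26)) :=
  Lre_d IH (LK LD1_c7 LD2_c21 LD3_c4) (LK LD1_c3 LD2_c40 LD3_c26) Lrfl Lrfl
theorem f464423 : Led Lsl_cf (LP (LK LD1_c13 LD2_c7 LD3_c36)) = (LP (LK LD1_c13 LD2_c53 LD3_c58)) :=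
  Lgr Lrot169 (Lpr_gt (f15433 IH) (Lpr_ct (f15420 IH) (Lpe (f15388 IH) (Lpe (K0.f15706 IH) (Lpe (K28.f15716 IH) (Lpe (K28.f15717 IH) (Lpr_gf (K28.f464417 IH) (Lpe (f420092 IH) (Lpr_gt (f95921 IH) (Lpn (LP (LK LD1_c13 LD2_c53 LD3_c58))))))))))))
theorem f464441 : Led Lsl_ct (LP (LK LD1_c13 LD2_c7 LD3_c36)) = (LP (LK LD1_c13 LD2_c53 LD3_c58)) :=
  Lgr Lrot59 (Lpr_cf (f464423 IH) (Lpn (LP (LK LD1_c13 LD2_c53 LD3_c58))))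
theorem f97599 : Led Lsl_gt (LP (LK LD1_c6 LD2_c54 LD3_c28)) = (LP (LK LD1_c13 LD2_c7 LD3_c36)) :=
  Lre_g IH (LK LD1_c6 LD2_c54 LD3_c28) (LK LD1_c13 LD2_c7 LD3_c36) Lrfl Lrfl
theorem f18395 : Led Lsl_dt (LP (LK LD1_c6 LD2_c54 LD3_c28)) = (LP (LK LD1_c13 LD2_c3 LD3_c47)) :=
  Lre_d IH (LK LD1_c6 LD2_c54 LD3_c28) (LK LD1_c13 LD2_c3 LD3_c47) Lrfl Lrfl
theorem f19140 : Led Lsl_ct (LP (LK LD1_c6 LD2_c51 LD3_c39)) = (LP (LK LD1_c3 LD2_c24 LD3_c31)) :=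
  Lre_c IH (LK LD1_c6 LD2_c51 LD3_c39) (LK LD1_c3 LD2_c24 LD3_c31) Lrfl Lrfl
theorem f90912 : Led Lsl_ct (LP (LK LD1_c13 LD2_c2 LD3_c56)) = (LP (LK LD1_c6 LD2_c51 LD3_c36)) :=
  Lre_c IH (LK LD1_c13 LD2_c2 LD3_c56) (LK LD1_c6 LD2_c51 LD3_c36) Lrfl Lrfl
theorem f91988 : Led Lsl_ct (LP (LK LD1_c6 LD2_c57 LD3_c30)) = (LP (LK LD1_c13 LD2_c12 LD3_c49)) :=
  Lre_c IH (LK LD1_c6 LD2_c57 LD3_c30) (LK LD1_c13 LD2_c12 LD3_c49) Lrfl Lrfl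
theorem f464280 : Led Lsl_gf (LP (LK LD1_c13 LD2_c2 LD3_c56)) = (LP (LK LD1_c13 LD2_c12 LD3_c49)) :=
  Lgr Lrot104 (Lpr_ct (f90912 IH) (Lpe (K2.f19041 IH) (Lpe (K24.f15795 IH) (Lpe (K24.f15809 IH) (Lpe (f19140 IH) (Lpr_gf (f464278 IH) (Lpr_df (K28.f91996 IH) (Lpr_gt (K28.f91990 IH) (Lpr_ct (f91988 IH) (Lpn (LP (LK LD1_c13 LD2_c12 LD3_c49))))))))))))
theorem f464282 : Led Lsl_at (LP (LK LD1_c6 LD2_c52 LD3_c4)) = (LP (LK LD1_c13 LD2_c2 LD3_c56)) :=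
  Lre_a IH (LK LD1_c6 LD2_c52 LD3_c4) (LK LD1_c13 LD2_c2 LD3_c56) Lrfl Lrfl
theorem f464283 : Led Lsl_ft (LP (LK LD1_c13 LD2_c3 LD3_c47)) = (LP (LK LD1_c6 LD2_c52 LD3_c4)) :=
  Lre_f IH (LK LD1_c13 LD2_c3 LD3_c47) (LK LD1_c6 LD2_c52 LD3_c4) Lrfl Lrfl
theorem f464284 : Led Lsl_gt (LP (LK LD1_c13 LD2_c3 LD3_c47)) = (LP (LK LD1_c13 LD2_c12 LD3_c49)) :=
  Lgr Lrot5 (Lpr_ft (f464283 IH) (Lpr_at (f464282 IH) (Lpr_gf (f464280 IH) (Lpn (LP (LK LD1_c13 LD2_c12 LD3_c49))))))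
theorem f90874 : Led Lsl_ct (LP (LK LD1_c13 LD2_c12 LD3_c49)) = (LP (LK LD1_c6 LD2_c57 LD3_c30)) :=
  Lre_c IH (LK LD1_c13 LD2_c12 LD3_c49) (LK LD1_c6 LD2_c57 LD3_c30) Lrfl Lrfl
theorem f465305 : Led Lsl_dt (LP (LK LD1_c13 LD2_c5 LD3_c20)) = (LP (LK LD1_c13 LD2_c11 LD3_c59)) :=
  Lgr Lrot42 (Lpr_df (K28.f465299 IH) (Lpn (LP (LK LD1_c13 LD2_c11 LD3_c59))))
theorem f473298 : Led Lsl_gt (LP (LK LD1_c6 LD2_c57 LD3_c30)) = (LP (LK LD1_c6 LD2_c53 LD3_c10)) :=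
  Lgr Lrot150 (Lpe (f90874 IH) (Lpe (f464284 IH) (Lpe (f18395 IH) (Lpr_gt (f97599 IH) (Lpr_ct (f464441 IH) (Lpr_gt (f473294 IH) (Lpr_ct (K28.f465289 IH) (Lpe (f465305 IH) (Lpe (K28.f121918 IH) (Lpn (LP (LK LD1_c6 LD2_c53 LD3_c10))))))))))))
theorem f62984 : Led Lsl_dt (LP (LK LD1_c3 LD2_c48 LD3_c5)) = (LP (LK LD1_c3 LD2_c52 LD3_c42)) :=
  Lgr Lrot79 (Lpe (f62983 IH) (Lpr_df (f62976 IH) (Lpe (f62731 IH) (Lpn (LP (LK LD1_c3 LD2_c52 LD3_c42))))))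
theorem f62996 : Led Lsl_et (LP (LK LD1_c0 LD2_c53 LD3_c5)) = (LP (LK LD1_c1 LD2_c52 LD3_c59)) :=
  Lre_e IH (LK LD1_c0 LD2_c53 LD3_c5) (LK LD1_c1 LD2_c52 LD3_c59) Lrfl Lrfl
theorem f62997 : Led Lsl_df (LP (LK LD1_c1 LD2_c51 LD3_c2)) = (LP (LK LD1_c1 LD2_c52 LD3_c59)) :=
  Lgr Lrot70 (Lpr_et (f62993 IH) (Lpr_dt (f62984 IH) (Lpr_et (f62994 IH) (Lpr_dt (f62995 IH) (Lpr_et (f62996 IH) (Lpn (LP (LK LD1_c1 LD2_c52 LD3_c59))))))))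
theorem f63004 : Led Lsl_gt (LP (LK LD1_c3 LD2_c52 LD3_c44)) = (LP (LK LD1_c1 LD2_c52 LD3_c59)) :=
  Lre_g IH (LK LD1_c3 LD2_c52 LD3_c44) (LK LD1_c1 LD2_c52 LD3_c59) Lrfl Lrfl
theorem f473302 : Led Lsl_cf (LP (LK LD1_c6 LD2_c57 LD3_c29)) = (LP (LK LD1_c3 LD2_c52 LD3_c44)) :=
  Lgr Lrot166 (Lpr_gt (f90880 IH) (Lpr_dt (K28.f91987 IH) (Lpr_gt (f473298 IH) (Lpr_dt (K28.f121912 IH) (Lpr_ct (K28.f420077 IH) (Lpe (K28.f124909 IH) (Lpe (K28.f464230 IH) (Lpr_df (f62997 IH) (Lpe (f63004 IH) (Lpn (LP (LK LD1_c3 LD2_c52 LD3_c44))))))))))))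
theorem f473411 : Led Lsl_df (LP (LK LD1_c1 LD2_c52 LD3_c55)) = (LP (LK LD1_c3 LD2_c30 LD3_c35)) :=
  Lgr Lrot43 (Lpr_ct (K28.f473402 IH) (Lpr_dt (K28.f92000 IH) (Lpr_ct (f457961 IH) (Lpe (f473354 IH) (Lpr_ct (K28.f91231 IH) (Lpr_dt (K28.f91137 IH) (Lpe (K3.f91228 IH) (Lpr_dt (K4.f106132 IH) (Lpe (K24.f95189 IH) (Lpr_dt (K28.f94990 IH) (Lpr_ct (K28.f95192 IH) (Lpe (K28.f464398 IH) (Lpr_ct (K28.f464406 IH) (Lpr_dt (K28.f98767 IH) (Lpr_ct (K28.f468303 IH) (Lpn (LP (LK LD1_c3 LD2_c30 LD3_c35))))))))))))))))))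
theorem f468312 : Led Lsl_ef (LP (LK LD1_c3 LD2_c40 LD3_c61)) = (LP (LK LD1_c3 LD2_c30 LD3_c35)) :=
  Lgr Lrot28 (Lpe (K28.f464368 IH) (Lpe (K28.f98769 IH) (Lpr_ct (K28.f468303 IH) (Lpn (LP (LK LD1_c3 LD2_c30 LD3_c35))))))
theorem f473805 : Led Lsl_gf (LP (LK LD1_c3 LD2_c44 LD3_c45)) = (LP (LK LD1_c1 LD2_c52 LD3_c56)) :=
  Lgr Lrot138 (Lpe (K4.f106130 IH) (Lpr_gt (K28.f463586 IH) (Lpe (K28.f129749 IH) (Lpe (K28.f129692 IH) (Lpe (K28.f463578 IH) (Lpr_ef (f468312 IH) (Lpe (f473411 IH) (Lpr_gt (K28.f473434 IH) (Lpr_df (f473795 IH) (Lpr_et (f473560 IH) (Lpn (LP (LK LD1_c1 LD2_c52 LD3_c56)))))))))))))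
theorem f15722 : Led Lsl_ct (LP (LK LD1_c3 LD2_c26 LD3_c20)) = (LP (LK LD1_c1 LD2_c39 LD3_c51)) :=
  Lre_c IH (LK LD1_c3 LD2_c26 LD3_c20) (LK LD1_c1 LD2_c39 LD3_c51) Lrfl Lrfl
theorem f473559 : Led Lsl_dt (LP (LK LD1_c3 LD2_c52 LD3_c34)) = (LP (LK LD1_c1 LD2_c52 LD3_c56)) :=
  Lre_d IH (LK LD1_c3 LD2_c52 LD3_c34) (LK LD1_c1 LD2_c52 LD3_c56) Lrfl Lrfl
theorem f473809 : Led Lsl_gf (LP (LK LD1_c3 LD2_c52 LD3_c44)) = (LP (LK LD1_c3 LD2_c52 LD3_c34)) :=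
  Lgr Lrot147 (Lpe (f473302 IH) (Lpr_gt (f90880 IH) (Lpr_ct (K28.f90872 IH) (Lpe (K24.f90875 IH) (Lpe (f15722 IH) (Lpr_gf (K28.f464121 IH) (Lpe (K28.f464119 IH) (Lpr_gf (f473805 IH) (Lpe (f473559 IH) (Lpn (LP (LK LD1_c3 LD2_c52 LD3_c34))))))))))))
theorem f477556 : Led Lsl_cf (LP (LK LD1_c7 LD2_c15 LD3_c24)) = (LP (LK LD1_c7 LD2_c18 LD3_c46)) :=
  Lgr Lrot58 (Lpe (f467513 IH) (Lpe (f467465 IH) (Lpr_bt (f467497 IH) (Lpr_gf (f477537 IH) (Lpe (K24.f91984 IH) (Lpr_ct (f91986 IH) (Lpe (f90880 IH) (Lpr_cf (f473302 IH) (Lpr_gf (f473809 IH) (Lpe (f473926 IH) (Lpn (LP (LK LD1_c7 LD2_c18 LD3_c46)))))))))))))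
theorem f5751 : Led Lsl_dt (LP (LK LD1_c3 LD2_c39 LD3_c12)) = (LP (LK LD1_c7 LD2_c18 LD3_c46)) :=
  Lre_d IH (LK LD1_c3 LD2_c39 LD3_c12) (LK LD1_c7 LD2_c18 LD3_c46) Lrfl Lrfl
theorem f97471 : Led Lsl_gt (LP (LK LD1_c3 LD2_c32 LD3_c41)) = (LP (LK LD1_c7 LD2_c6 LD3_c13)) :=
  Lre_g IH (LK LD1_c3 LD2_c32 LD3_c41) (LK LD1_c7 LD2_c6 LD3_c13) Lrfl Lrfl
theorem f477572 : Led Lsl_df (LP (LK LD1_c7 LD2_c15 LD3_c24)) = (LP (LK LD1_c7 LD2_c6 LD3_c13)) :=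
  Lgr Lrot84 (Lpr_cf (f477556 IH) (Lpe (f5751 IH) (Lpe (K28.f5750 IH) (Lpe (K4.f106117 IH) (Lpe (K28.f466566 IH) (Lpe (K28.f466471 IH) (Lpr_gt (K28.f466466 IH) (Lpr_dt (K28.f94436 IH) (Lpr_gt (f97471 IH) (Lpn (LP (LK LD1_c7 LD2_c6 LD3_c13))))))))))))
theorem f477576 : Led Lsl_dt (LP (LK LD1_c7 LD2_c15 LD3_c24)) = (LP (LK LD1_c7 LD2_c6 LD3_c13)) :=
  Lgr Lrot42 (Lpr_df (f477572 IH) (Lpn (LP (LK LD1_c7 LD2_c6 LD3_c13))))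
theorem f467498 : Led Lsl_ct (LP (LK LD1_c3 LD2_c37 LD3_c27)) = (LP (LK LD1_c1 LD2_c45 LD3_c36)) :=
  Lre_c IH (LK LD1_c3 LD2_c37 LD3_c27) (LK LD1_c1 LD2_c45 LD3_c36) Lrfl Lrfl
theorem f441553 : Led Lsl_af (LP (LK LD1_c7 LD2_c12 LD3_c20)) = (LP (LK LD1_c7 LD2_c6 LD3_c16)) :=
  Lgr Lrot0 (Lpr_at (K28.f108631 IH) (Lpn (LP (LK LD1_c7 LD2_c6 LD3_c16))))
theorem f441607 : Led Lsl_ft (LP (LK LD1_c3 LD2_c32 LD3_c41)) = (LP (LK LD1_c7 LD2_c6 LD3_c16)) :=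
  Lre_f IH (LK LD1_c3 LD2_c32 LD3_c41) (LK LD1_c7 LD2_c6 LD3_c16) Lrfl Lrfl
theorem f441622 : Led Lsl_gf (LP (LK LD1_c7 LD2_c12 LD3_c20)) = (LP (LK LD1_c7 LD2_c6 LD3_c13)) :=
  Lgr Lrot76 (Lpr_af (f441553 IH) (Lpe (f441607 IH) (Lpr_gt (f97471 IH) (Lpn (LP (LK LD1_c7 LD2_c6 LD3_c13))))))
theorem f108259 : Led Lsl_dt (LP (LK LD1_c7 LD2_c12 LD3_c20)) = (LP (LK LD1_c3 LD2_c35 LD3_c51)) :=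
  Lre_d IH (LK LD1_c7 LD2_c12 LD3_c20) (LK LD1_c3 LD2_c35 LD3_c51) Lrfl Lrfl
theorem f477584 : Led Lsl_gt (LP (LK LD1_c1 LD2_c45 LD3_c36)) = (LP (LK LD1_c1 LD2_c40 LD3_c38)) :=
  Lgr Lrot94 (Lpe (f467498 IH) (Lpr_gt (f467513 IH) (Lpr_dt (f477576 IH) (Lpe (f441622 IH) (Lpr_dt (f108259 IH) (Lpe (K28.f108257 IH) (Lpr_df (K28.f456841 IH) (Lpq (K24.f461944 IH) (Lpe (K24.f446455 IH) (Lpe (K28.f446448 IH) (Lpn (LP (LK LD1_c1 LD2_c40 LD3_c38)))))))))))))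
theorem f477587 : Led Lsl_gf (LP (LK LD1_c1 LD2_c45 LD3_c36)) = (LP (LK LD1_c3 LD2_c28 LD3_c0)) :=
  Lgr Lrot47 (Lpr_gt (f477584 IH) (Lpe (K28.f455172 IH) (Lpr_ff (K28.f455352 IH) (Lpn (LP (LK LD1_c3 LD2_c28 LD3_c0))))))
theorem f10817 : Led Lsl_dt (LP (LK LD1_c1 LD2_c45 LD3_c36)) = (LP (LK LD1_c3 LD2_c37 LD3_c29)) :=
  Lre_d IH (LK LD1_c1 LD2_c45 LD3_c36) (LK LD1_c3 LD2_c37 LD3_c29) Lrfl Lrfl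
theorem f441629 : Led Lsl_ct (LP (LK LD1_c3 LD2_c37 LD3_c29)) = (LP (LK LD1_c7 LD2_c15 LD3_c28)) :=
  Lre_c IH (LK LD1_c3 LD2_c37 LD3_c29) (LK LD1_c7 LD2_c15 LD3_c28) Lrfl Lrfl
theorem f458594 : Led Lsl_dt (LP (LK LD1_c1 LD2_c53 LD3_c8)) = (LP (LK LD1_c3 LD2_c53 LD3_c5)) :=
  Lre_d IH (LK LD1_c1 LD2_c53 LD3_c8) (LK LD1_c3 LD2_c53 LD3_c5) Lrfl Lrfl
theorem f458595 : Led Lsl_gt (LP (LK LD1_c3 LD2_c53 LD3_c5)) = (LP (LK LD1_c7 LD2_c47 LD3_c61)) :=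
  Lre_g IH (LK LD1_c3 LD2_c53 LD3_c5) (LK LD1_c7 LD2_c47 LD3_c61) Lrfl Lrfl
theorem f477589 : Led Lsl_df (LP (LK LD1_c7 LD2_c15 LD3_c28)) = (LP (LK LD1_c7 LD2_c47 LD3_c61)) :=
  Lgr Lrot84 (Lpe (f441629 IH) (Lpe (f10817 IH) (Lpr_gf (f477587 IH) (Lpr_df (K24.f446441 IH) (Lpe (K24.f455243 IH) (Lpe (K28.f455406 IH) (Lpe (K28.f458592 IH) (Lpr_dt (f458594 IH) (Lpr_gt (f458595 IH) (Lpn (LP (LK LD1_c7 LD2_c47 LD3_c61))))))))))))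
theorem f477595 : Led Lsl_dt (LP (LK LD1_c7 LD2_c15 LD3_c28)) = (LP (LK LD1_c7 LD2_c47 LD3_c61)) :=
  Lgr Lrot42 (Lpr_df (f477589 IH) (Lpn (LP (LK LD1_c7 LD2_c47 LD3_c61))))
theorem f477294 : Led Lsl_dt (LP (LK LD1_c14 LD2_c21 LD3_c17)) = (LP (LK LD1_c13 LD2_c21 LD3_c22)) :=
  Lgr Lrot42 (Lpr_df (f477291 IH) (Lpn (LP (LK LD1_c13 LD2_c21 LD3_c22))))
theorem f477539 : Led Lsl_gt (LP (LK LD1_c7 LD2_c3 LD3_c32)) = (LP (LK LD1_c3 LD2_c30 LD3_c58)) :=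
  Lgr Lrot49 (Lpr_df (f477519 IH) (Lpe (f468393 IH) (Lpe (f63012 IH) (Lpe (f468652 IH) (Lpr_dt (f477294 IH) (Lpe (f461385 IH) (Lpr_dt (f461329 IH) (Lpr_cf (K24.f460415 IH) (Lpe (K24.f63038 IH) (Lpn (LP (LK LD1_c3 LD2_c30 LD3_c58))))))))))))
theorem f477543 : Led Lsl_gt (LP (LK LD1_c7 LD2_c15 LD3_c17)) = (LP (LK LD1_c7 LD2_c12 LD3_c26)) :=
  Lgr Lrot94 (Lpe (f477533 IH) (Lpr_gt (f477539 IH) (Lpr_dt (K24.f63038 IH) (Lpe (K24.f460129 IH) (Lpr_dt (K5.f87987 IH) (Lpe (K5.f128079 IH) (Lpr_df (K5.f128069 IH) (Lpe (K24.f108772 IH) (Lpe (K24.f440181 IH) (Lpn (LP (LK LD1_c7 LD2_c12 LD3_c26))))))))))))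
theorem f467478 : Led Lsl_bt (LP (LK LD1_c3 LD2_c37 LD3_c29)) = (LP (LK LD1_c7 LD2_c15 LD3_c17)) :=
  Lre_b IH (LK LD1_c3 LD2_c37 LD3_c29) (LK LD1_c7 LD2_c15 LD3_c17) Lrfl Lrfl
theorem f461896 : Led Lsl_cf (LP (LK LD1_c7 LD2_c3 LD3_c2)) = (LP (LK LD1_c7 LD2_c12 LD3_c26)) :=
  Lgr Lrot11 (Lpr_ct (K24.f461811 IH) (Lpn (LP (LK LD1_c7 LD2_c12 LD3_c26))))
theorem f477187 : Led Lsl_gt (LP (LK LD1_c7 LD2_c3 LD3_c2)) = (LP (LK LD1_c3 LD2_c46 LD3_c58)) :=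
  Lgr Lrot94 (Lpr_cf (f461896 IH) (Lpr_gt (f477185 IH) (Lpr_dt (f464845 IH) (Lpr_gt (f457908 IH) (Lpe (K24.f457977 IH) (Lpe (K28.f14880 IH) (Lpe (f457979 IH) (Lpe (f461257 IH) (Lpe (f65783 IH) (Lpn (LP (LK LD1_c3 LD2_c46 LD3_c58))))))))))))
theorem f91516 : Led Lsl_bt (LP (LK LD1_c6 LD2_c52 LD3_c6)) = (LP (LK LD1_c3 LD2_c24 LD3_c51)) :=
  Lre_b IH (LK LD1_c6 LD2_c52 LD3_c6) (LK LD1_c3 LD2_c24 LD3_c51) Lrfl Lrfl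
theorem f457441 : Led Lsl_cf (LP (LK LD1_c6 LD2_c57 LD3_c8)) = (LP (LK LD1_c7 LD2_c0 LD3_c12)) :=
  Lgr Lrot11 (Lpr_ct (K28.f457437 IH) (Lpn (LP (LK LD1_c7 LD2_c0 LD3_c12))))
theorem f129679 : Led Lsl_bt (LP (LK LD1_c7 LD2_c0 LD3_c12)) = (LP (LK LD1_c3 LD2_c29 LD3_c16)) :=
  Lre_b IH (LK LD1_c7 LD2_c0 LD3_c12) (LK LD1_c3 LD2_c29 LD3_c16) Lrfl Lrfl
theorem f477313 : Led Lsl_gf (LP (LK LD1_c1 LD2_c50 LD3_c34)) = (LP (LK LD1_c3 LD2_c29 LD3_c16)) :=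
  Lgr Lrot143 (Lpr_dt (f451072 IH) (Lpe (f458085 IH) (Lpe (f458088 IH) (Lpr_gf (f477308 IH) (Lpe (f463833 IH) (Lpe (K28.f63672 IH) (Lpe (K28.f446520 IH) (Lpr_gt (K24.f18963 IH) (Lpr_dt (f129686 IH) (Lpn (LP (LK LD1_c3 LD2_c29 LD3_c16))))))))))))
theorem f477460 : Led Lsl_bt (LP (LK LD1_c1 LD2_c50 LD3_c34)) = (LP (LK LD1_c1 LD2_c50 LD3_c34)) :=
  Lgr Lrot92 (Lpr_ct (f468594 IH) (Lpr_gt (f461290 IH) (Lpr_cf (f477433 IH) (Lpr_bt (f91516 IH) (Lpr_gt (K28.f91496 IH) (Lpr_ct (K28.f91502 IH) (Lpr_gt (K28.f458371 IH) (Lpr_cf (f457441 IH) (Lpr_bt (f129679 IH) (Lpe (f477313 IH) (Lpn (LP (LK LD1_c1 LD2_c50 LD3_c34)))))))))))))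
theorem f475165 : Led Lsl_bt (LP (LK LD1_c7 LD2_c0 LD3_c5)) = (LP (LK LD1_c3 LD2_c29 LD3_c12)) :=
  Lre_b IH (LK LD1_c7 LD2_c0 LD3_c5) (LK LD1_c3 LD2_c29 LD3_c12) Lrfl Lrfl
theorem f463880 : Led Lsl_ct (LP (LK LD1_c7 LD2_c0 LD3_c5)) = (LP (LK LD1_c13 LD2_c17 LD3_c7)) :=
  Lre_c IH (LK LD1_c7 LD2_c0 LD3_c5) (LK LD1_c13 LD2_c17 LD3_c7) Lrfl Lrfl
theorem f477548 : Led Lsl_gf (LP (LK LD1_c7 LD2_c15 LD3_c28)) = (LP (LK LD1_c13 LD2_c17 LD3_c7)) :=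
  Lgr Lrot126 (Lpe (f441629 IH) (Lpr_bt (f467478 IH) (Lpr_gt (f477543 IH) (Lpe (f461896 IH) (Lpr_gt (f477187 IH) (Lpe (f468594 IH) (Lpr_bt (f477460 IH) (Lpr_gt (f477394 IH) (Lpe (f475165 IH) (Lpr_ct (f463880 IH) (Lpn (LP (LK LD1_c13 LD2_c17 LD3_c7)))))))))))))
theorem f463851 : Led Lsl_ct (LP (LK LD1_c13 LD2_c17 LD3_c7)) = (LP (LK LD1_c7 LD2_c0 LD3_c5)) :=
  Lre_c IH (LK LD1_c13 LD2_c17 LD3_c7) (LK LD1_c7 LD2_c0 LD3_c5) Lrfl Lrfl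
theorem f460669 : Led Lsl_bt (LP (LK LD1_c7 LD2_c37 LD3_c11)) = (LP (LK LD1_c3 LD2_c48 LD3_c3)) :=
  Lre_b IH (LK LD1_c7 LD2_c37 LD3_c11) (LK LD1_c3 LD2_c48 LD3_c3) Lrfl Lrfl
theorem f461167 : Led Lsl_bt (LP (LK LD1_c1 LD2_c53 LD3_c12)) = (LP (LK LD1_c3 LD2_c53 LD3_c15)) :=
  Lre_b IH (LK LD1_c1 LD2_c53 LD3_c12) (LK LD1_c3 LD2_c53 LD3_c15) Lrfl Lrfl
theorem f474222 : Led Lsl_ff (LP (LK LD1_c7 LD2_c37 LD3_c11)) = (LP (LK LD1_c3 LD2_c53 LD3_c15)) :=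
  Lgr Lrot25 (Lpr_bt (f460669 IH) (Lpr_ft (f474218 IH) (Lpr_bt (f461167 IH) (Lpn (LP (LK LD1_c3 LD2_c53 LD3_c15))))))
theorem f129864 : Led Lsl_dt (LP (LK LD1_c7 LD2_c37 LD3_c11)) = (LP (LK LD1_c3 LD2_c48 LD3_c2)) :=
  Lre_d IH (LK LD1_c7 LD2_c37 LD3_c11) (LK LD1_c3 LD2_c48 LD3_c2) Lrfl Lrfl
theorem f471469 : Led Lsl_dt (LP (LK LD1_c1 LD2_c53 LD3_c11)) = (LP (LK LD1_c3 LD2_c53 LD3_c15)) :=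
  Lre_d IH (LK LD1_c1 LD2_c53 LD3_c11) (LK LD1_c3 LD2_c53 LD3_c15) Lrfl Lrfl
theorem f475018 : Led Lsl_ft (LP (LK LD1_c3 LD2_c48 LD3_c2)) = (LP (LK LD1_c1 LD2_c53 LD3_c11)) :=
  Lgr Lrot54 (Lpe (f129864 IH) (Lpr_ff (f474222 IH) (Lpe (f471469 IH) (Lpn (LP (LK LD1_c1 LD2_c53 LD3_c11))))))
theorem f474937 : Led Lsl_at (LP (LK LD1_c1 LD2_c53 LD3_c11)) = (LP (LK LD1_c3 LD2_c53 LD3_c14)) :=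
  Lre_a IH (LK LD1_c1 LD2_c53 LD3_c11) (LK LD1_c3 LD2_c53 LD3_c14) Lrfl Lrfl
theorem f475039 : Led Lsl_gt (LP (LK LD1_c7 LD2_c37 LD3_c9)) = (LP (LK LD1_c3 LD2_c53 LD3_c14)) :=
  Lgr Lrot46 (Lpe (f129883 IH) (Lpr_ft (f475018 IH) (Lpr_at (f474937 IH) (Lpn (LP (LK LD1_c3 LD2_c53 LD3_c14))))))
theorem f425130 : Led Lsl_at (LP (LK LD1_c3 LD2_c33 LD3_c31)) = (LP (LK LD1_c7 LD2_c7 LD3_c51)) :=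
  Lre_a IH (LK LD1_c3 LD2_c33 LD3_c31) (LK LD1_c7 LD2_c7 LD3_c51) Lrfl Lrfl
theorem f425131 : Led Lsl_ct (LP (LK LD1_c7 LD2_c7 LD3_c51)) = (LP (LK LD1_c3 LD2_c49 LD3_c18)) :=
  Lgr Lrot111 (Lpe (f425130 IH) (Lpe (K3.f96834 IH) (Lpr_af (K28.f425123 IH) (Lpn (LP (LK LD1_c3 LD2_c49 LD3_c18))))))
theorem f470954 : Led Lsl_ff (LP (LK LD1_c7 LD2_c37 LD3_c9)) = (LP (LK LD1_c3 LD2_c49 LD3_c18)) :=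
  Lgr Lrot23 (Lpr_ct (f470948 IH) (Lpr_ft (f162847 IH) (Lpr_ct (f425131 IH) (Lpn (LP (LK LD1_c3 LD2_c49 LD3_c18))))))
theorem f470963 : Led Lsl_ft (LP (LK LD1_c7 LD2_c37 LD3_c9)) = (LP (LK LD1_c3 LD2_c49 LD3_c18)) :=
  Lgr Lrot48 (Lpr_ff (f470954 IH) (Lpn (LP (LK LD1_c3 LD2_c49 LD3_c18))))
theorem f475041 : Led Lsl_gf (LP (LK LD1_c7 LD2_c7 LD3_c52)) = (LP (LK LD1_c3 LD2_c53 LD3_c14)) :=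
  Lgr Lrot76 (Lpr_af (K28.f425123 IH) (Lpe (f470963 IH) (Lpr_gt (f475039 IH) (Lpn (LP (LK LD1_c3 LD2_c53 LD3_c14))))))
theorem f96852 : Led Lsl_ct (LP (LK LD1_c3 LD2_c33 LD3_c31)) = (LP (LK LD1_c7 LD2_c7 LD3_c52)) :=
  Lre_c IH (LK LD1_c3 LD2_c33 LD3_c31) (LK LD1_c7 LD2_c7 LD3_c52) Lrfl Lrfl
theorem f160428 : Led Lsl_af (LP (LK LD1_c1 LD2_c45 LD3_c17)) = (LP (LK LD1_c1 LD2_c43 LD3_c22)) :=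
  Lgr Lrot68 (Lpr_ct (K3.f17354 IH) (Lpr_at (K28.f160220 IH) (Lpr_ct (K28.f11684 IH) (Lpn (LP (LK LD1_c1 LD2_c43 LD3_c22))))))
theorem f160433 : Led Lsl_ft (LP (LK LD1_c0 LD2_c48 LD3_c19)) = (LP (LK LD1_c1 LD2_c43 LD3_c22)) :=
  Lre_f IH (LK LD1_c0 LD2_c48 LD3_c19) (LK LD1_c1 LD2_c43 LD3_c22) Lrfl Lrfl
theorem f11677 : Led Lsl_gt (LP (LK LD1_c0 LD2_c48 LD3_c19)) = (LP (LK LD1_c1 LD2_c43 LD3_c20)) :=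
  Lre_g IH (LK LD1_c0 LD2_c48 LD3_c19) (LK LD1_c1 LD2_c43 LD3_c20) Lrfl Lrfl
theorem f160434 : Led Lsl_gf (LP (LK LD1_c1 LD2_c45 LD3_c17)) = (LP (LK LD1_c1 LD2_c43 LD3_c20)) :=
  Lgr Lrot76 (Lpr_af (f160428 IH) (Lpe (f160433 IH) (Lpr_gt (f11677 IH) (Lpn (LP (LK LD1_c1 LD2_c43 LD3_c20))))))
theorem f470376 : Led Lsl_at (LP (LK LD1_c0 LD2_c53 LD3_c61)) = (LP (LK LD1_c1 LD2_c43 LD3_c20)) :=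
  Lgr Lrot26 (Lpe (K28.f458625 IH) (Lpqs (K28.f470373 IH) (Lpe (K28.f455824 IH) (Lpr_gt (f11677 IH) (Lpn (LP (LK LD1_c1 LD2_c43 LD3_c20)))))))
theorem f470379 : Led Lsl_af (LP (LK LD1_c0 LD2_c53 LD3_c61)) = (LP (LK LD1_c1 LD2_c43 LD3_c20)) :=
  Lgr Lrot0 (Lpr_at (f470376 IH) (Lpn (LP (LK LD1_c1 LD2_c43 LD3_c20))))
theorem f470381 : Led Lsl_bf (LP (LK LD1_c1 LD2_c43 LD3_c20)) = (LP (LK LD1_c1 LD2_c43 LD3_c20)) :=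
  Lgr Lrot81 (Lpe (f470379 IH) (Lpr_bt (K28.f446551 IH) (Lpqs (K24.f457386 IH) (Lpe (K24.f451208 IH) (Lpr_bt (K28.f451209 IH) (Lpr_at (f470376 IH) (Lpn (LP (LK LD1_c1 LD2_c43 LD3_c20)))))))))
theorem f11816 : Led Lsl_ct (LP (LK LD1_c1 LD2_c43 LD3_c20)) = (LP (LK LD1_c3 LD2_c33 LD3_c13)) :=
  Lre_c IH (LK LD1_c1 LD2_c43 LD3_c20) (LK LD1_c3 LD2_c33 LD3_c13) Lrfl Lrfl
theorem f470916 : Led Lsl_gf (LP (LK LD1_c3 LD2_c33 LD3_c13)) = (LP (LK LD1_c1 LD2_c43 LD3_c30)) :=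
  Lgr Lrot129 (Lpe (f11816 IH) (Lpe (f470381 IH) (Lpe (f160434 IH) (Lpe (K3.f17353 IH) (Lpr_ct (K3.f17331 IH) (Lpr_gt (K28.f465256 IH) (Lpe (K28.f446568 IH) (Lpr_bt (K28.f465230 IH) (Lpr_gt (f470912 IH) (Lpr_ct (K3.f97325 IH) (Lpn (LP (LK LD1_c1 LD2_c43 LD3_c30)))))))))))))
theorem f470402 : Led Lsl_bt (LP (LK LD1_c7 LD2_c7 LD3_c21)) = (LP (LK LD1_c3 LD2_c33 LD3_c13)) :=
  Lre_b IH (LK LD1_c7 LD2_c7 LD3_c21) (LK LD1_c3 LD2_c33 LD3_c13) Lrfl Lrfl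
theorem f17442 : Led Lsl_gt (LP (LK LD1_c1 LD2_c45 LD3_c16)) = (LP (LK LD1_c0 LD2_c49 LD3_c20)) :=
  Lre_g IH (LK LD1_c1 LD2_c45 LD3_c16) (LK LD1_c0 LD2_c49 LD3_c20) Lrfl Lrfl
theorem f160105 : Led Lsl_ft (LP (LK LD1_c1 LD2_c43 LD3_c22)) = (LP (LK LD1_c0 LD2_c48 LD3_c19)) :=
  Lre_f IH (LK LD1_c1 LD2_c43 LD3_c22) (LK LD1_c0 LD2_c48 LD3_c19) Lrfl Lrfl
theorem f160106 : Led Lsl_gf (LP (LK LD1_c1 LD2_c45 LD3_c16)) = (LP (LK LD1_c1 LD2_c43 LD3_c22)) :=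
  Lgr Lrot47 (Lpr_gt (f17442 IH) (Lpr_af (K8.f160094 IH) (Lpe (f160105 IH) (Lpn (LP (LK LD1_c1 LD2_c43 LD3_c22))))))
theorem f465136 : Led Lsl_at (LP (LK LD1_c0 LD2_c54 LD3_c1)) = (LP (LK LD1_c1 LD2_c45 LD3_c16)) :=
  Lgr Lrot26 (Lpr_ff (K28.f458617 IH) (Lpq (K28.f465133 IH) (Lpe (K28.f456851 IH) (Lpe (f160106 IH) (Lpn (LP (LK LD1_c1 LD2_c45 LD3_c16)))))))
theorem f465138 : Led Lsl_af (LP (LK LD1_c0 LD2_c54 LD3_c1)) = (LP (LK LD1_c1 LD2_c45 LD3_c16)) :=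
  Lgr Lrot0 (Lpr_at (f465136 IH) (Lpn (LP (LK LD1_c1 LD2_c45 LD3_c16))))
theorem f470386 : Led Lsl_ff (LP (LK LD1_c1 LD2_c45 LD3_c16)) = (LP (LK LD1_c1 LD2_c43 LD3_c20)) :=
  Lgr Lrot30 (Lpe (f465138 IH) (Lpr_ft (K28.f458625 IH) (Lpr_at (f470376 IH) (Lpn (LP (LK LD1_c1 LD2_c43 LD3_c20))))))
theorem f107952 : Led Lsl_ct (LP (LK LD1_c1 LD2_c45 LD3_c16)) = (LP (LK LD1_c3 LD2_c36 LD3_c53)) :=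
  Lre_c IH (LK LD1_c1 LD2_c45 LD3_c16) (LK LD1_c3 LD2_c36 LD3_c53) Lrfl Lrfl
theorem f160436 : Led Lsl_ct (LP (LK LD1_c3 LD2_c33 LD3_c13)) = (LP (LK LD1_c1 LD2_c43 LD3_c20)) :=
  Lre_c IH (LK LD1_c3 LD2_c33 LD3_c13) (LK LD1_c1 LD2_c43 LD3_c20) Lrfl Lrfl
theorem f470390 : Led Lsl_ft (LP (LK LD1_c3 LD2_c36 LD3_c53)) = (LP (LK LD1_c3 LD2_c33 LD3_c13)) :=
  Lgr Lrot4 (Lpe (f107952 IH) (Lpr_ff (f470386 IH) (Lpe (f160436 IH) (Lpn (LP (LK LD1_c3 LD2_c33 LD3_c13))))))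
theorem f470398 : Led Lsl_ff (LP (LK LD1_c3 LD2_c36 LD3_c53)) = (LP (LK LD1_c3 LD2_c33 LD3_c13)) :=
  Lgr Lrot3 (Lpr_ft (f470390 IH) (Lpn (LP (LK LD1_c3 LD2_c33 LD3_c13))))
theorem f160108 : Led Lsl_dt (LP (LK LD1_c3 LD2_c36 LD3_c53)) = (LP (LK LD1_c7 LD2_c13 LD3_c61)) :=
  Lre_d IH (LK LD1_c3 LD2_c36 LD3_c53) (LK LD1_c7 LD2_c13 LD3_c61) Lrfl Lrfl
theorem f470378 : Led Lsl_dt (LP (LK LD1_c7 LD2_c7 LD3_c22)) = (LP (LK LD1_c3 LD2_c33 LD3_c13)) :=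
  Lre_d IH (LK LD1_c7 LD2_c7 LD3_c22) (LK LD1_c3 LD2_c33 LD3_c13) Lrfl Lrfl
theorem f470405 : Led Lsl_ft (LP (LK LD1_c7 LD2_c13 LD3_c61)) = (LP (LK LD1_c7 LD2_c7 LD3_c22)) :=
  Lgr Lrot54 (Lpe (f160108 IH) (Lpr_ff (f470398 IH) (Lpe (f470378 IH) (Lpn (LP (LK LD1_c7 LD2_c7 LD3_c22))))))
theorem f465165 : Led Lsl_bt (LP (LK LD1_c13 LD2_c41 LD3_c20)) = (LP (LK LD1_c7 LD2_c13 LD3_c61)) :=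
  Lre_b IH (LK LD1_c13 LD2_c41 LD3_c20) (LK LD1_c7 LD2_c13 LD3_c61) Lrfl Lrfl
theorem f470410 : Led Lsl_bt (LP (LK LD1_c7 LD2_c7 LD3_c22)) = (LP (LK LD1_c13 LD2_c29 LD3_c46)) :=
  Lre_b IH (LK LD1_c7 LD2_c7 LD3_c22) (LK LD1_c13 LD2_c29 LD3_c46) Lrfl Lrfl
theorem f470411 : Led Lsl_ff (LP (LK LD1_c13 LD2_c41 LD3_c20)) = (LP (LK LD1_c13 LD2_c29 LD3_c46)) :=
  Lgr Lrot25 (Lpr_bt (f465165 IH) (Lpr_ft (f470405 IH) (Lpr_bt (f470410 IH) (Lpn (LP (LK LD1_c13 LD2_c29 LD3_c46))))))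
theorem f470426 : Led Lsl_ft (LP (LK LD1_c13 LD2_c41 LD3_c20)) = (LP (LK LD1_c13 LD2_c29 LD3_c46)) :=
  Lgr Lrot48 (Lpr_ff (f470411 IH) (Lpn (LP (LK LD1_c13 LD2_c29 LD3_c46))))
theorem f465214 : Led Lsl_ct (LP (LK LD1_c23 LD2_c6 LD3_c59)) = (LP (LK LD1_c13 LD2_c41 LD3_c20)) :=
  Lre_c IH (LK LD1_c23 LD2_c6 LD3_c59) (LK LD1_c13 LD2_c41 LD3_c20) Lrfl Lrfl
theorem f470431 : Led Lsl_ct (LP (LK LD1_c13 LD2_c29 LD3_c46)) = (LP (LK LD1_c22 LD2_c50 LD3_c29)) :=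
  Lre_c IH (LK LD1_c13 LD2_c29 LD3_c46) (LK LD1_c22 LD2_c50 LD3_c29) Lrfl Lrfl
theorem f470436 : Led Lsl_ff (LP (LK LD1_c23 LD2_c6 LD3_c59)) = (LP (LK LD1_c22 LD2_c50 LD3_c29)) :=
  Lgr Lrot23 (Lpr_ct (f465214 IH) (Lpr_ft (f470426 IH) (Lpr_ct (f470431 IH) (Lpn (LP (LK LD1_c22 LD2_c50 LD3_c29))))))
theorem f465142 : Led Lsl_af (LP (LK LD1_c1 LD2_c54 LD3_c45)) = (LP (LK LD1_c3 LD2_c36 LD3_c53)) :=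
  Lgr Lrot68 (Lpr_ct (K28.f451228 IH) (Lpr_at (f465136 IH) (Lpr_ct (f107952 IH) (Lpn (LP (LK LD1_c3 LD2_c36 LD3_c53))))))
theorem f458631 : Led Lsl_dt (LP (LK LD1_c1 LD2_c54 LD3_c45)) = (LP (LK LD1_c3 LD2_c56 LD3_c5)) :=
  Lre_d IH (LK LD1_c1 LD2_c54 LD3_c45) (LK LD1_c3 LD2_c56 LD3_c5) Lrfl Lrfl
theorem f160110 : Led Lsl_dt (LP (LK LD1_c7 LD2_c13 LD3_c61)) = (LP (LK LD1_c3 LD2_c36 LD3_c53)) :=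
  Lre_d IH (LK LD1_c7 LD2_c13 LD3_c61) (LK LD1_c3 LD2_c36 LD3_c53) Lrfl Lrfl
theorem f465149 : Led Lsl_at (LP (LK LD1_c3 LD2_c56 LD3_c5)) = (LP (LK LD1_c7 LD2_c13 LD3_c61)) :=
  Lgr Lrot51 (Lpe (f458631 IH) (Lpr_af (f465142 IH) (Lpe (f160110 IH) (Lpn (LP (LK LD1_c7 LD2_c13 LD3_c61))))))
theorem f458639 : Led Lsl_et (LP (LK LD1_c7 LD2_c53 LD3_c54)) = (LP (LK LD1_c3 LD2_c56 LD3_c5)) :=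
  Lre_e IH (LK LD1_c7 LD2_c53 LD3_c54) (LK LD1_c3 LD2_c56 LD3_c5) Lrfl Lrfl
theorem f465159 : Led Lsl_et (LP (LK LD1_c7 LD2_c13 LD3_c61)) = (LP (LK LD1_c13 LD2_c41 LD3_c22)) :=
  Lre_e IH (LK LD1_c7 LD2_c13 LD3_c61) (LK LD1_c13 LD2_c41 LD3_c22) Lrfl Lrfl
theorem f465160 : Led Lsl_af (LP (LK LD1_c7 LD2_c53 LD3_c54)) = (LP (LK LD1_c13 LD2_c41 LD3_c22)) :=
  Lgr Lrot50 (Lpr_et (f458639 IH) (Lpr_at (f465149 IH) (Lpr_et (f465159 IH) (Lpn (LP (LK LD1_c13 LD2_c41 LD3_c22))))))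
theorem f446553 : Led Lsl_dt (LP (LK LD1_c3 LD2_c56 LD3_c4)) = (LP (LK LD1_c1 LD2_c54 LD3_c44)) :=
  Lre_d IH (LK LD1_c3 LD2_c56 LD3_c4) (LK LD1_c1 LD2_c54 LD3_c44) Lrfl Lrfl
theorem f458632 : Led Lsl_ft (LP (LK LD1_c3 LD2_c56 LD3_c5)) = (LP (LK LD1_c3 LD2_c56 LD3_c4)) :=
  Lgr Lrot54 (Lpe (f458631 IH) (Lpr_ff (K28.f458627 IH) (Lpe (f446553 IH) (Lpn (LP (LK LD1_c3 LD2_c56 LD3_c4))))))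
theorem f458643 : Led Lsl_ff (LP (LK LD1_c3 LD2_c56 LD3_c5)) = (LP (LK LD1_c3 LD2_c56 LD3_c4)) :=
  Lgr Lrot3 (Lpr_ft (f458632 IH) (Lpn (LP (LK LD1_c3 LD2_c56 LD3_c4))))
theorem f458564 : Led Lsl_dt (LP (LK LD1_c1 LD2_c54 LD3_c44)) = (LP (LK LD1_c3 LD2_c56 LD3_c4)) :=
  Lre_d IH (LK LD1_c1 LD2_c54 LD3_c44) (LK LD1_c3 LD2_c56 LD3_c4) Lrfl Lrfl
theorem f458565 : Led Lsl_bt (LP (LK LD1_c3 LD2_c56 LD3_c4)) = (LP (LK LD1_c3 LD2_c28 LD3_c2)) :=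
  Lgr Lrot95 (Lpe (f458564 IH) (Lpr_bf (K28.f457397 IH) (Lpe (K24.f15755 IH) (Lpn (LP (LK LD1_c3 LD2_c28 LD3_c2))))))
theorem f458568 : Led Lsl_bf (LP (LK LD1_c3 LD2_c56 LD3_c4)) = (LP (LK LD1_c3 LD2_c28 LD3_c2)) :=
  Lgr Lrot24 (Lpr_bt (f458565 IH) (Lpn (LP (LK LD1_c3 LD2_c28 LD3_c2))))
theorem f458646 : Led Lsl_bt (LP (LK LD1_c3 LD2_c56 LD3_c5)) = (LP (LK LD1_c3 LD2_c28 LD3_c11)) :=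
  Lgr Lrot35 (Lpr_ff (f458643 IH) (Lpr_bf (f458568 IH) (Lpr_ff (K24.f455264 IH) (Lpn (LP (LK LD1_c3 LD2_c28 LD3_c11))))))
theorem f455262 : Led Lsl_et (LP (LK LD1_c3 LD2_c28 LD3_c11)) = (LP (LK LD1_c6 LD2_c58 LD3_c36)) :=
  Lre_e IH (LK LD1_c3 LD2_c28 LD3_c11) (LK LD1_c6 LD2_c58 LD3_c36) Lrfl Lrfl
theorem f458673 : Led Lsl_bf (LP (LK LD1_c7 LD2_c53 LD3_c54)) = (LP (LK LD1_c6 LD2_c58 LD3_c36)) :=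
  Lgr Lrot96 (Lpr_et (f458639 IH) (Lpr_bt (f458646 IH) (Lpr_et (f455262 IH) (Lpn (LP (LK LD1_c6 LD2_c58 LD3_c36))))))
theorem f458677 : Led Lsl_bt (LP (LK LD1_c7 LD2_c53 LD3_c54)) = (LP (LK LD1_c6 LD2_c58 LD3_c36)) :=
  Lgr Lrot127 (Lpr_bf (f458673 IH) (Lpn (LP (LK LD1_c6 LD2_c58 LD3_c36))))
theorem f458697 : Led Lsl_at (LP (LK LD1_c6 LD2_c58 LD3_c36)) = (LP (LK LD1_c13 LD2_c14 LD3_c30)) :=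
  Lre_a IH (LK LD1_c6 LD2_c58 LD3_c36) (LK LD1_c13 LD2_c14 LD3_c30) Lrfl Lrfl
theorem f458698 : Led Lsl_bt (LP (LK LD1_c13 LD2_c14 LD3_c30)) = (LP (LK LD1_c22 LD2_c29 LD3_c13)) :=
  Lre_b IH (LK LD1_c13 LD2_c14 LD3_c30) (LK LD1_c22 LD2_c29 LD3_c13) Lrfl Lrfl
theorem f465171 : Led Lsl_bt (LP (LK LD1_c23 LD2_c6 LD3_c60)) = (LP (LK LD1_c13 LD2_c41 LD3_c22)) :=
  Lre_b IH (LK LD1_c23 LD2_c6 LD3_c60) (LK LD1_c13 LD2_c41 LD3_c22) Lrfl Lrfl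
theorem f465172 : Led Lsl_at (LP (LK LD1_c22 LD2_c29 LD3_c13)) = (LP (LK LD1_c23 LD2_c6 LD3_c60)) :=
  Lgr Lrot67 (Lpe (f458698 IH) (Lpe (f458697 IH) (Lpe (f458677 IH) (Lpr_af (f465160 IH) (Lpe (f465171 IH) (Lpn (LP (LK LD1_c23 LD2_c6 LD3_c60))))))))
theorem f465200 : Led Lsl_af (LP (LK LD1_c22 LD2_c29 LD3_c13)) = (LP (LK LD1_c23 LD2_c6 LD3_c60)) :=
  Lgr Lrot0 (Lpr_at (f465172 IH) (Lpn (LP (LK LD1_c23 LD2_c6 LD3_c60))))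
theorem f455351 : Led Lsl_et (LP (LK LD1_c22 LD2_c29 LD3_c13)) = (LP (LK LD1_c13 LD2_c14 LD3_c27)) :=
  Lre_e IH (LK LD1_c22 LD2_c29 LD3_c13) (LK LD1_c13 LD2_c14 LD3_c27) Lrfl Lrfl
theorem f465204 : Led Lsl_et (LP (LK LD1_c13 LD2_c41 LD3_c20)) = (LP (LK LD1_c23 LD2_c6 LD3_c60)) :=
  Lre_e IH (LK LD1_c13 LD2_c41 LD3_c20) (LK LD1_c23 LD2_c6 LD3_c60) Lrfl Lrfl
theorem f465205 : Led Lsl_at (LP (LK LD1_c13 LD2_c14 LD3_c27)) = (LP (LK LD1_c13 LD2_c41 LD3_c20)) :=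
  Lgr Lrot80 (Lpe (f455351 IH) (Lpr_af (f465200 IH) (Lpe (f465204 IH) (Lpn (LP (LK LD1_c13 LD2_c41 LD3_c20))))))
theorem f455350 : Led Lsl_ct (LP (LK LD1_c22 LD2_c29 LD3_c12)) = (LP (LK LD1_c13 LD2_c14 LD3_c27)) :=
  Lre_c IH (LK LD1_c22 LD2_c29 LD3_c12) (LK LD1_c13 LD2_c14 LD3_c27) Lrfl Lrfl
theorem f465166 : Led Lsl_ct (LP (LK LD1_c13 LD2_c41 LD3_c20)) = (LP (LK LD1_c23 LD2_c6 LD3_c59)) :=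
  Lre_c IH (LK LD1_c13 LD2_c41 LD3_c20) (LK LD1_c23 LD2_c6 LD3_c59) Lrfl Lrfl
theorem f465207 : Led Lsl_af (LP (LK LD1_c22 LD2_c29 LD3_c12)) = (LP (LK LD1_c23 LD2_c6 LD3_c59)) :=
  Lgr Lrot68 (Lpr_ct (f455350 IH) (Lpr_at (f465205 IH) (Lpr_ct (f465166 IH) (Lpn (LP (LK LD1_c23 LD2_c6 LD3_c59))))))
theorem f455275 : Led Lsl_ct (LP (LK LD1_c13 LD2_c14 LD3_c27)) = (LP (LK LD1_c22 LD2_c29 LD3_c12)) :=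
  Lre_c IH (LK LD1_c13 LD2_c14 LD3_c27) (LK LD1_c22 LD2_c29 LD3_c12) Lrfl Lrfl
theorem f455342 : Led Lsl_dt (LP (LK LD1_c6 LD2_c58 LD3_c28)) = (LP (LK LD1_c13 LD2_c14 LD3_c27)) :=
  Lre_d IH (LK LD1_c6 LD2_c58 LD3_c28) (LK LD1_c13 LD2_c14 LD3_c27) Lrfl Lrfl
theorem f446479 : Led Lsl_bt (LP (LK LD1_c3 LD2_c28 LD3_c8)) = (LP (LK LD1_c6 LD2_c58 LD3_c28)) :=
  Lre_b IH (LK LD1_c3 LD2_c28 LD3_c8) (LK LD1_c6 LD2_c58 LD3_c28) Lrfl Lrfl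
theorem f455314 : Led Lsl_bt (LP (LK LD1_c6 LD2_c58 LD3_c28)) = (LP (LK LD1_c3 LD2_c28 LD3_c8)) :=
  Lre_b IH (LK LD1_c6 LD2_c58 LD3_c28) (LK LD1_c3 LD2_c28 LD3_c8) Lrfl Lrfl
theorem f455446 : Led Lsl_ct (LP (LK LD1_c6 LD2_c58 LD3_c28)) = (LP (LK LD1_c6 LD2_c58 LD3_c28)) :=
  Lgr Lrot83 (Lpe (f446479 IH) (Lpe (K24.f446472 IH) (Lpr_bf (K28.f455444 IH) (Lpe (K24.f446458 IH) (Lpe (f455314 IH) (Lpn (LP (LK LD1_c6 LD2_c58 LD3_c28))))))))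
theorem f455337 : Led Lsl_dt (LP (LK LD1_c13 LD2_c14 LD3_c27)) = (LP (LK LD1_c6 LD2_c58 LD3_c28)) :=
  Lre_d IH (LK LD1_c13 LD2_c14 LD3_c27) (LK LD1_c6 LD2_c58 LD3_c28) Lrfl Lrfl
theorem f455422 : Led Lsl_dt (LP (LK LD1_c30 LD2_c31 LD3_c56)) = (LP (LK LD1_c22 LD2_c29 LD3_c12)) :=
  Lre_d IH (LK LD1_c30 LD2_c31 LD3_c56) (LK LD1_c22 LD2_c29 LD3_c12) Lrfl Lrfl
theorem f470445 : Led Lsl_dt (LP (LK LD1_c22 LD2_c50 LD3_c29)) = (LP (LK LD1_c30 LD2_c45 LD3_c2)) :=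
  Lre_d IH (LK LD1_c22 LD2_c50 LD3_c29) (LK LD1_c30 LD2_c45 LD3_c2) Lrfl Lrfl
theorem f470446 : Led Lsl_cf (LP (LK LD1_c30 LD2_c31 LD3_c56)) = (LP (LK LD1_c30 LD2_c45 LD3_c2)) :=
  Lgr Lrot118 (Lpr_dt (f455422 IH) (Lpr_ct (f455350 IH) (Lpr_dt (f455337 IH) (Lpr_ct (f455446 IH) (Lpr_dt (f455342 IH) (Lpr_ct (f455275 IH) (Lpr_af (f465207 IH) (Lpr_ff (f470436 IH) (Lpr_dt (f470445 IH) (Lpn (LP (LK LD1_c30 LD2_c45 LD3_c2))))))))))))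
theorem f455343 : Led Lsl_dt (LP (LK LD1_c22 LD2_c29 LD3_c12)) = (LP (LK LD1_c30 LD2_c31 LD3_c56)) :=
  Lre_d IH (LK LD1_c22 LD2_c29 LD3_c12) (LK LD1_c30 LD2_c31 LD3_c56) Lrfl Lrfl
theorem f470448 : Led Lsl_ct (LP (LK LD1_c30 LD2_c31 LD3_c56)) = (LP (LK LD1_c30 LD2_c45 LD3_c2)) :=
  Lgr Lrot59 (Lpr_cf (f470446 IH) (Lpn (LP (LK LD1_c30 LD2_c45 LD3_c2))))
theorem f470442 : Led Lsl_dt (LP (LK LD1_c30 LD2_c45 LD3_c2)) = (LP (LK LD1_c22 LD2_c50 LD3_c29)) :=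
  Lre_d IH (LK LD1_c30 LD2_c45 LD3_c2) (LK LD1_c22 LD2_c50 LD3_c29) Lrfl Lrfl
theorem f470422 : Led Lsl_ct (LP (LK LD1_c22 LD2_c50 LD3_c29)) = (LP (LK LD1_c13 LD2_c29 LD3_c46)) :=
  Lre_c IH (LK LD1_c22 LD2_c50 LD3_c29) (LK LD1_c13 LD2_c29 LD3_c46) Lrfl Lrfl
theorem f470430 : Led Lsl_dt (LP (LK LD1_c13 LD2_c29 LD3_c46)) = (LP (LK LD1_c7 LD2_c7 LD3_c21)) :=
  Lre_d IH (LK LD1_c13 LD2_c29 LD3_c46) (LK LD1_c7 LD2_c7 LD3_c21) Lrfl Lrfl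
theorem f470425 : Led Lsl_dt (LP (LK LD1_c7 LD2_c7 LD3_c21)) = (LP (LK LD1_c13 LD2_c29 LD3_c46)) :=
  Lre_d IH (LK LD1_c7 LD2_c7 LD3_c21) (LK LD1_c13 LD2_c29 LD3_c46) Lrfl Lrfl
theorem f470450 : Led Lsl_ct (LP (LK LD1_c7 LD2_c7 LD3_c21)) = (LP (LK LD1_c7 LD2_c7 LD3_c21)) :=
  Lgr Lrot176 (Lpe (f470430 IH) (Lpe (f470422 IH) (Lpe (f470442 IH) (Lpe (f470448 IH) (Lpe (f455343 IH) (Lpe (f455275 IH) (Lpe (f455342 IH) (Lpe (f455446 IH) (Lpe (f455337 IH) (Lpe (f455350 IH) (Lpe (f455422 IH) (Lpr_cf (f470446 IH) (Lpe (f470445 IH) (Lpe (f470431 IH) (Lpe (f470425 IH) (Lpn (LP (LK LD1_c7 LD2_c7 LD3_c21))))))))))))))))))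
theorem f465146 : Led Lsl_bt (LP (LK LD1_c7 LD2_c13 LD3_c60)) = (LP (LK LD1_c3 LD2_c36 LD3_c53)) :=
  Lre_b IH (LK LD1_c7 LD2_c13 LD3_c60) (LK LD1_c3 LD2_c36 LD3_c53) Lrfl Lrfl
theorem f160437 : Led Lsl_bt (LP (LK LD1_c3 LD2_c33 LD3_c13)) = (LP (LK LD1_c7 LD2_c7 LD3_c21)) :=
  Lre_b IH (LK LD1_c3 LD2_c33 LD3_c13) (LK LD1_c7 LD2_c7 LD3_c21) Lrfl Lrfl
theorem f470392 : Led Lsl_ff (LP (LK LD1_c7 LD2_c13 LD3_c60)) = (LP (LK LD1_c7 LD2_c7 LD3_c21)) :=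
  Lgr Lrot25 (Lpr_bt (f465146 IH) (Lpr_ft (f470390 IH) (Lpr_bt (f160437 IH) (Lpn (LP (LK LD1_c7 LD2_c7 LD3_c21))))))
theorem f465209 : Led Lsl_dt (LP (LK LD1_c13 LD2_c41 LD3_c20)) = (LP (LK LD1_c7 LD2_c13 LD3_c60)) :=
  Lre_d IH (LK LD1_c13 LD2_c41 LD3_c20) (LK LD1_c7 LD2_c13 LD3_c60) Lrfl Lrfl
theorem f465210 : Led Lsl_af (LP (LK LD1_c6 LD2_c58 LD3_c28)) = (LP (LK LD1_c7 LD2_c13 LD3_c60)) :=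
  Lgr Lrot117 (Lpr_dt (f455342 IH) (Lpr_at (f465205 IH) (Lpr_dt (f465209 IH) (Lpn (LP (LK LD1_c7 LD2_c13 LD3_c60))))))
theorem f455439 : Led Lsl_gt (LP (LK LD1_c13 LD2_c14 LD3_c26)) = (LP (LK LD1_c6 LD2_c58 LD3_c28)) :=
  Lre_g IH (LK LD1_c13 LD2_c14 LD3_c26) (LK LD1_c6 LD2_c58 LD3_c28) Lrfl Lrfl
theorem f470500 : Led Lsl_gf (LP (LK LD1_c13 LD2_c14 LD3_c26)) = (LP (LK LD1_c7 LD2_c7 LD3_c21)) :=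
  Lgr Lrot47 (Lpr_gt (f455439 IH) (Lpr_af (f465210 IH) (Lpr_ff (f470392 IH) (Lpn (LP (LK LD1_c7 LD2_c7 LD3_c21))))))
theorem f455473 : Led Lsl_ct (LP (LK LD1_c22 LD2_c29 LD3_c9)) = (LP (LK LD1_c13 LD2_c14 LD3_c26)) :=
  Lre_c IH (LK LD1_c22 LD2_c29 LD3_c9) (LK LD1_c13 LD2_c14 LD3_c26) Lrfl Lrfl
theorem f129656 : Led Lsl_ef (LP (LK LD1_c1 LD2_c53 LD3_c9)) = (LP (LK LD1_c1 LD2_c50 LD3_c61)) :=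
  Lgr Lrot29 (Lpr_bt (f129654 IH) (Lpr_et (K24.f129651 IH) (Lpr_bt (K28.f129655 IH) (Lpn (LP (LK LD1_c1 LD2_c50 LD3_c61))))))
theorem f461966 : Led Lsl_cf (LP (LK LD1_c1 LD2_c50 LD3_c61)) = (LP (LK LD1_c3 LD2_c36 LD3_c39)) :=
  Lgr Lrot39 (Lpe (f129656 IH) (Lpr_ct (f129894 IH) (Lpr_et (K28.f461961 IH) (Lpn (LP (LK LD1_c3 LD2_c36 LD3_c39))))))
theorem f461978 : Led Lsl_gt (LP (LK LD1_c7 LD2_c13 LD3_c35)) = (LP (LK LD1_c13 LD2_c40 LD3_c43)) :=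
  Lre_g IH (LK LD1_c7 LD2_c13 LD3_c35) (LK LD1_c13 LD2_c40 LD3_c43) Lrfl Lrfl
theorem f468103 : Led Lsl_bt (LP (LK LD1_c22 LD2_c29 LD3_c9)) = (LP (LK LD1_c13 LD2_c40 LD3_c43)) :=
  Lgr Lrot92 (Lpr_ct (f455473 IH) (Lpr_gt (f455439 IH) (Lpe (f455446 IH) (Lpr_bt (f455314 IH) (Lpr_gt (K28.f462037 IH) (Lpr_ct (K8.f108032 IH) (Lpr_gt (K28.f468097 IH) (Lpr_cf (f461966 IH) (Lpr_bt (f461963 IH) (Lpr_gt (f461978 IH) (Lpn (LP (LK LD1_c13 LD2_c40 LD3_c43)))))))))))))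
theorem f474938 : Led Lsl_ct (LP (LK LD1_c7 LD2_c47 LD3_c58)) = (LP (LK LD1_c3 LD2_c53 LD3_c14)) :=
  Lre_c IH (LK LD1_c7 LD2_c47 LD3_c58) (LK LD1_c3 LD2_c53 LD3_c14) Lrfl Lrfl
theorem f475045 : Led Lsl_gt (LP (LK LD1_c13 LD2_c40 LD3_c43)) = (LP (LK LD1_c7 LD2_c47 LD3_c58)) :=
  Lgr Lrot82 (Lpe (f468103 IH) (Lpr_ct (f455473 IH) (Lpr_gf (f470500 IH) (Lpe (f470450 IH) (Lpr_bt (f470402 IH) (Lpr_gf (f470916 IH) (Lpe (K3.f96835 IH) (Lpr_ct (f96852 IH) (Lpr_gf (f475041 IH) (Lpe (f474938 IH) (Lpn (LP (LK LD1_c7 LD2_c47 LD3_c58)))))))))))))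
theorem f475064 : Led Lsl_at (LP (LK LD1_c3 LD2_c53 LD3_c4)) = (LP (LK LD1_c7 LD2_c47 LD3_c58)) :=
  Lre_a IH (LK LD1_c3 LD2_c53 LD3_c4) (LK LD1_c7 LD2_c47 LD3_c58) Lrfl Lrfl
theorem f475065 : Led Lsl_ft (LP (LK LD1_c7 LD2_c13 LD3_c35)) = (LP (LK LD1_c3 LD2_c53 LD3_c4)) :=
  Lgr Lrot2 (Lpr_gt (f461978 IH) (Lpr_gt (f475045 IH) (Lpe (f475064 IH) (Lpn (LP (LK LD1_c3 LD2_c53 LD3_c4))))))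
theorem f461986 : Led Lsl_dt (LP (LK LD1_c13 LD2_c40 LD3_c45)) = (LP (LK LD1_c7 LD2_c13 LD3_c35)) :=
  Lre_d IH (LK LD1_c13 LD2_c40 LD3_c45) (LK LD1_c7 LD2_c13 LD3_c35) Lrfl Lrfl
theorem f468068 : Led Lsl_dt (LP (LK LD1_c3 LD2_c53 LD3_c4)) = (LP (LK LD1_c7 LD2_c47 LD3_c59)) :=
  Lre_d IH (LK LD1_c3 LD2_c53 LD3_c4) (LK LD1_c7 LD2_c47 LD3_c59) Lrfl Lrfl
theorem f475073 : Led Lsl_ff (LP (LK LD1_c13 LD2_c40 LD3_c45)) = (LP (LK LD1_c7 LD2_c47 LD3_c59)) :=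
  Lgr Lrot19 (Lpr_dt (f461986 IH) (Lpr_ft (f475065 IH) (Lpr_dt (f468068 IH) (Lpn (LP (LK LD1_c7 LD2_c47 LD3_c59))))))
theorem f475080 : Led Lsl_ft (LP (LK LD1_c13 LD2_c40 LD3_c45)) = (LP (LK LD1_c7 LD2_c47 LD3_c59)) :=
  Lgr Lrot48 (Lpr_ff (f475073 IH) (Lpn (LP (LK LD1_c7 LD2_c47 LD3_c59))))
theorem f475084 : Led Lsl_bt (LP (LK LD1_c7 LD2_c13 LD3_c36)) = (LP (LK LD1_c13 LD2_c40 LD3_c45)) :=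
  Lre_b IH (LK LD1_c7 LD2_c13 LD3_c36) (LK LD1_c13 LD2_c40 LD3_c45) Lrfl Lrfl
theorem f464880 : Led Lsl_bt (LP (LK LD1_c7 LD2_c47 LD3_c59)) = (LP (LK LD1_c3 LD2_c53 LD3_c5)) :=
  Lre_b IH (LK LD1_c7 LD2_c47 LD3_c59) (LK LD1_c3 LD2_c53 LD3_c5) Lrfl Lrfl
theorem f475085 : Led Lsl_ff (LP (LK LD1_c7 LD2_c13 LD3_c36)) = (LP (LK LD1_c3 LD2_c53 LD3_c5)) :=
  Lgr Lrot25 (Lpr_bt (f475084 IH) (Lpr_ft (f475080 IH) (Lpr_bt (f464880 IH) (Lpn (LP (LK LD1_c3 LD2_c53 LD3_c5))))))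
theorem f441663 : Led Lsl_dt (LP (LK LD1_c7 LD2_c13 LD3_c36)) = (LP (LK LD1_c3 LD2_c36 LD3_c39)) :=
  Lre_d IH (LK LD1_c7 LD2_c13 LD3_c36) (LK LD1_c3 LD2_c36 LD3_c39) Lrfl Lrfl
theorem f475091 : Led Lsl_ft (LP (LK LD1_c3 LD2_c36 LD3_c39)) = (LP (LK LD1_c1 LD2_c53 LD3_c8)) :=
  Lgr Lrot54 (Lpe (f441663 IH) (Lpr_ff (f475085 IH) (Lpe (f458594 IH) (Lpn (LP (LK LD1_c1 LD2_c53 LD3_c8))))))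
theorem f98533 : Led Lsl_gt (LP (LK LD1_c3 LD2_c36 LD3_c40)) = (LP (LK LD1_c1 LD2_c45 LD3_c11)) :=
  Lre_g IH (LK LD1_c3 LD2_c36 LD3_c40) (LK LD1_c1 LD2_c45 LD3_c11) Lrfl Lrfl
theorem f463771 : Led Lsl_gt (LP (LK LD1_c3 LD2_c28 LD3_c7)) = (LP (LK LD1_c3 LD2_c36 LD3_c40)) :=
  Lgr Lrot5 (Lpr_ft (K28.f463763 IH) (Lpe (K5.f128097 IH) (Lpe (f98533 IH) (Lpn (LP (LK LD1_c3 LD2_c36 LD3_c40))))))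
theorem f475093 : Led Lsl_af (LP (LK LD1_c3 LD2_c36 LD3_c40)) = (LP (LK LD1_c1 LD2_c53 LD3_c8)) :=
  Lgr Lrot31 (Lpe (f463771 IH) (Lpr_gf (K28.f463750 IH) (Lpr_ft (f475091 IH) (Lpn (LP (LK LD1_c1 LD2_c53 LD3_c8))))))
theorem f475106 : Led Lsl_et (LP (LK LD1_c3 LD2_c36 LD3_c40)) = (LP (LK LD1_c7 LD2_c13 LD3_c39)) :=
  Lre_e IH (LK LD1_c3 LD2_c36 LD3_c40) (LK LD1_c7 LD2_c13 LD3_c39) Lrfl Lrfl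
theorem f475107 : Led Lsl_at (LP (LK LD1_c7 LD2_c13 LD3_c39)) = (LP (LK LD1_c3 LD2_c53 LD3_c6)) :=
  Lgr Lrot80 (Lpe (f475106 IH) (Lpr_af (f475093 IH) (Lpe (K28.f458610 IH) (Lpn (LP (LK LD1_c3 LD2_c53 LD3_c6))))))
theorem f468074 : Led Lsl_ct (LP (LK LD1_c3 LD2_c53 LD3_c6)) = (LP (LK LD1_c1 LD2_c53 LD3_c10)) :=
  Lre_c IH (LK LD1_c3 LD2_c53 LD3_c6) (LK LD1_c1 LD2_c53 LD3_c10) Lrfl Lrfl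
theorem f473628 : Led Lsl_at (LP (LK LD1_c1 LD2_c53 LD3_c10)) = (LP (LK LD1_c3 LD2_c53 LD3_c3)) :=
  Lre_a IH (LK LD1_c1 LD2_c53 LD3_c10) (LK LD1_c3 LD2_c53 LD3_c3) Lrfl Lrfl
theorem f475112 : Led Lsl_cf (LP (LK LD1_c7 LD2_c13 LD3_c39)) = (LP (LK LD1_c3 LD2_c53 LD3_c3)) :=
  Lgr Lrot1 (Lpr_at (f475107 IH) (Lpr_ct (f468074 IH) (Lpr_at (f473628 IH) (Lpn (LP (LK LD1_c3 LD2_c53 LD3_c3))))))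
theorem f475142 : Led Lsl_ct (LP (LK LD1_c7 LD2_c13 LD3_c39)) = (LP (LK LD1_c3 LD2_c53 LD3_c3)) :=
  Lgr Lrot59 (Lpr_cf (f475112 IH) (Lpn (LP (LK LD1_c3 LD2_c53 LD3_c3))))
theorem f473570 : Led Lsl_et (LP (LK LD1_c3 LD2_c53 LD3_c3)) = (LP (LK LD1_c1 LD2_c53 LD3_c7)) :=
  Lre_e IH (LK LD1_c3 LD2_c53 LD3_c3) (LK LD1_c1 LD2_c53 LD3_c7) Lrfl Lrfl
theorem f475151 : Led Lsl_cf (LP (LK LD1_c3 LD2_c36 LD3_c40)) = (LP (LK LD1_c1 LD2_c53 LD3_c7)) :=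
  Lgr Lrot39 (Lpr_et (f475106 IH) (Lpr_ct (f475142 IH) (Lpr_et (f473570 IH) (Lpn (LP (LK LD1_c1 LD2_c53 LD3_c7))))))
theorem f468865 : Led Lsl_ft (LP (LK LD1_c3 LD2_c39 LD3_c12)) = (LP (LK LD1_c1 LD2_c53 LD3_c7)) :=
  Lgr Lrot2 (Lpr_gt (K28.f468863 IH) (Lpr_gt (K28.f88019 IH) (Lpe (f451124 IH) (Lpn (LP (LK LD1_c1 LD2_c53 LD3_c7))))))
theorem f475155 : Led Lsl_ft (LP (LK LD1_c3 LD2_c36 LD3_c40)) = (LP (LK LD1_c3 LD2_c33 LD3_c24)) :=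
  Lgr Lrot4 (Lpr_cf (f475151 IH) (Lpe (f468865 IH) (Lpr_cf (K28.f468869 IH) (Lpn (LP (LK LD1_c3 LD2_c33 LD3_c24))))))
theorem f475186 : Led Lsl_ff (LP (LK LD1_c3 LD2_c36 LD3_c40)) = (LP (LK LD1_c3 LD2_c33 LD3_c24)) :=
  Lgr Lrot3 (Lpr_ft (f475155 IH) (Lpn (LP (LK LD1_c3 LD2_c33 LD3_c24))))
theorem f456836 : Led Lsl_dt (LP (LK LD1_c3 LD2_c36 LD3_c40)) = (LP (LK LD1_c7 LD2_c13 LD3_c38)) :=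
  Lre_d IH (LK LD1_c3 LD2_c36 LD3_c40) (LK LD1_c7 LD2_c13 LD3_c38) Lrfl Lrfl
theorem f98524 : Led Lsl_dt (LP (LK LD1_c7 LD2_c7 LD3_c42)) = (LP (LK LD1_c3 LD2_c33 LD3_c24)) :=
  Lre_d IH (LK LD1_c7 LD2_c7 LD3_c42) (LK LD1_c3 LD2_c33 LD3_c24) Lrfl Lrfl
theorem f475194 : Led Lsl_ft (LP (LK LD1_c7 LD2_c13 LD3_c38)) = (LP (LK LD1_c7 LD2_c7 LD3_c42)) :=
  Lgr Lrot54 (Lpe (f456836 IH) (Lpr_ff (f475186 IH) (Lpe (f98524 IH) (Lpn (LP (LK LD1_c7 LD2_c7 LD3_c42))))))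
theorem f475114 : Led Lsl_dt (LP (LK LD1_c13 LD2_c40 LD3_c50)) = (LP (LK LD1_c7 LD2_c13 LD3_c39)) :=
  Lre_d IH (LK LD1_c13 LD2_c40 LD3_c50) (LK LD1_c7 LD2_c13 LD3_c39) Lrfl Lrfl
theorem f475115 : Led Lsl_af (LP (LK LD1_c13 LD2_c40 LD3_c50)) = (LP (LK LD1_c7 LD2_c18 LD3_c12)) :=
  Lgr Lrot117 (Lpr_dt (f475114 IH) (Lpr_at (f475107 IH) (Lpe (K28.f467982 IH) (Lpn (LP (LK LD1_c7 LD2_c18 LD3_c12))))))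
theorem f475119 : Led Lsl_et (LP (LK LD1_c13 LD2_c40 LD3_c50)) = (LP (LK LD1_c23 LD2_c6 LD3_c20)) :=
  Lre_e IH (LK LD1_c13 LD2_c40 LD3_c50) (LK LD1_c23 LD2_c6 LD3_c20) Lrfl Lrfl
theorem f468025 : Led Lsl_et (LP (LK LD1_c13 LD2_c49 LD3_c14)) = (LP (LK LD1_c7 LD2_c18 LD3_c12)) :=
  Lre_e IH (LK LD1_c13 LD2_c49 LD3_c14) (LK LD1_c7 LD2_c18 LD3_c12) Lrfl Lrfl
theorem f475120 : Led Lsl_at (LP (LK LD1_c23 LD2_c6 LD3_c20)) = (LP (LK LD1_c13 LD2_c49 LD3_c14)) :=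
  Lgr Lrot80 (Lpe (f475119 IH) (Lpr_af (f475115 IH) (Lpe (f468025 IH) (Lpn (LP (LK LD1_c13 LD2_c49 LD3_c14))))))
theorem f475124 : Led Lsl_dt (LP (LK LD1_c13 LD2_c40 LD3_c49)) = (LP (LK LD1_c23 LD2_c6 LD3_c20)) :=
  Lre_d IH (LK LD1_c13 LD2_c40 LD3_c49) (LK LD1_c23 LD2_c6 LD3_c20) Lrfl Lrfl
theorem f468001 : Led Lsl_et (LP (LK LD1_c7 LD2_c18 LD3_c12)) = (LP (LK LD1_c13 LD2_c49 LD3_c14)) :=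
  Lre_e IH (LK LD1_c7 LD2_c18 LD3_c12) (LK LD1_c13 LD2_c49 LD3_c14) Lrfl Lrfl
theorem f468002 : Led Lsl_et (LP (LK LD1_c1 LD2_c53 LD3_c8)) = (LP (LK LD1_c3 LD2_c53 LD3_c6)) :=
  Lre_e IH (LK LD1_c1 LD2_c53 LD3_c8) (LK LD1_c3 LD2_c53 LD3_c6) Lrfl Lrfl
theorem f458606 : Led Lsl_dt (LP (LK LD1_c3 LD2_c53 LD3_c5)) = (LP (LK LD1_c1 LD2_c53 LD3_c8)) :=
  Lre_d IH (LK LD1_c3 LD2_c53 LD3_c5) (LK LD1_c1 LD2_c53 LD3_c8) Lrfl Lrfl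
theorem f468003 : Led Lsl_et (LP (LK LD1_c7 LD2_c48 LD3_c2)) = (LP (LK LD1_c3 LD2_c53 LD3_c5)) :=
  Lre_e IH (LK LD1_c7 LD2_c48 LD3_c2) (LK LD1_c3 LD2_c53 LD3_c5) Lrfl Lrfl
theorem f468004 : Led Lsl_dt (LP (LK LD1_c13 LD2_c49 LD3_c14)) = (LP (LK LD1_c7 LD2_c48 LD3_c2)) :=
  Lgr Lrot77 (Lpe (f468001 IH) (Lpr_df (K28.f467982 IH) (Lpe (f468002 IH) (Lpe (f458606 IH) (Lpe (f468003 IH) (Lpn (LP (LK LD1_c7 LD2_c48 LD3_c2))))))))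
theorem f475125 : Led Lsl_af (LP (LK LD1_c13 LD2_c40 LD3_c49)) = (LP (LK LD1_c7 LD2_c48 LD3_c2)) :=
  Lgr Lrot117 (Lpr_dt (f475124 IH) (Lpr_at (f475120 IH) (Lpr_dt (f468004 IH) (Lpn (LP (LK LD1_c7 LD2_c48 LD3_c2))))))
theorem f475127 : Led Lsl_at (LP (LK LD1_c13 LD2_c40 LD3_c49)) = (LP (LK LD1_c7 LD2_c48 LD3_c2)) :=
  Lgr Lrot100 (Lpr_af (f475125 IH) (Lpn (LP (LK LD1_c7 LD2_c48 LD3_c2))))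
theorem f463817 : Led Lsl_et (LP (LK LD1_c7 LD2_c13 LD3_c38)) = (LP (LK LD1_c13 LD2_c40 LD3_c49)) :=
  Lre_e IH (LK LD1_c7 LD2_c13 LD3_c38) (LK LD1_c13 LD2_c40 LD3_c49) Lrfl Lrfl
theorem f475131 : Led Lsl_af (LP (LK LD1_c7 LD2_c13 LD3_c38)) = (LP (LK LD1_c3 LD2_c53 LD3_c5)) :=
  Lgr Lrot50 (Lpr_et (f463817 IH) (Lpr_at (f475127 IH) (Lpr_et (f468003 IH) (Lpn (LP (LK LD1_c3 LD2_c53 LD3_c5))))))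
theorem f475076 : Led Lsl_bt (LP (LK LD1_c13 LD2_c40 LD3_c45)) = (LP (LK LD1_c7 LD2_c13 LD3_c36)) :=
  Lre_b IH (LK LD1_c13 LD2_c40 LD3_c45) (LK LD1_c7 LD2_c13 LD3_c36) Lrfl Lrfl
theorem f475077 : Led Lsl_bt (LP (LK LD1_c3 LD2_c53 LD3_c5)) = (LP (LK LD1_c7 LD2_c47 LD3_c59)) :=
  Lre_b IH (LK LD1_c3 LD2_c53 LD3_c5) (LK LD1_c7 LD2_c47 LD3_c59) Lrfl Lrfl
theorem f475078 : Led Lsl_ft (LP (LK LD1_c7 LD2_c13 LD3_c36)) = (LP (LK LD1_c3 LD2_c53 LD3_c5)) :=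
  Lgr Lrot75 (Lpe (f475076 IH) (Lpr_ff (f475073 IH) (Lpe (f475077 IH) (Lpn (LP (LK LD1_c3 LD2_c53 LD3_c5))))))
theorem f475196 : Led Lsl_af (LP (LK LD1_c7 LD2_c13 LD3_c36)) = (LP (LK LD1_c7 LD2_c7 LD3_c42)) :=
  Lgr Lrot45 (Lpr_ft (f475078 IH) (Lpe (f475131 IH) (Lpr_ft (f475194 IH) (Lpn (LP (LK LD1_c7 LD2_c7 LD3_c42))))))
theorem f475200 : Led Lsl_at (LP (LK LD1_c7 LD2_c13 LD3_c36)) = (LP (LK LD1_c7 LD2_c7 LD3_c42)) :=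
  Lgr Lrot100 (Lpr_af (f475196 IH) (Lpn (LP (LK LD1_c7 LD2_c7 LD3_c42))))
theorem f475202 : Led Lsl_gt (LP (LK LD1_c7 LD2_c47 LD3_c61)) = (LP (LK LD1_c7 LD2_c7 LD3_c42)) :=
  Lgr Lrot46 (Lpe (f458595 IH) (Lpe (f475085 IH) (Lpr_at (f475200 IH) (Lpn (LP (LK LD1_c7 LD2_c7 LD3_c42))))))
theorem f470785 : Led Lsl_dt (LP (LK LD1_c7 LD2_c48 LD3_c3)) = (LP (LK LD1_c3 LD2_c53 LD3_c7)) :=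
  Lre_d IH (LK LD1_c7 LD2_c48 LD3_c3) (LK LD1_c3 LD2_c53 LD3_c7) Lrfl Lrfl
theorem f477599 : Led Lsl_gt (LP (LK LD1_c7 LD2_c0 LD3_c5)) = (LP (LK LD1_c7 LD2_c48 LD3_c3)) :=
  Lgr Lrot94 (Lpe (f463851 IH) (Lpe (f477548 IH) (Lpr_dt (f477595 IH) (Lpr_gt (f475202 IH) (Lpr_dt (f98524 IH) (Lpe (K28.f468867 IH) (Lpe (f106125 IH) (Lpe (f470783 IH) (Lpe (f470785 IH) (Lpn (LP (LK LD1_c7 LD2_c48 LD3_c3))))))))))))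
theorem f463879 : Led Lsl_dt (LP (LK LD1_c3 LD2_c29 LD3_c10)) = (LP (LK LD1_c7 LD2_c0 LD3_c5)) :=
  Lre_d IH (LK LD1_c3 LD2_c29 LD3_c10) (LK LD1_c7 LD2_c0 LD3_c5) Lrfl Lrfl
theorem f458558 : Led Lsl_dt (LP (LK LD1_c3 LD2_c24 LD3_c57)) = (LP (LK LD1_c6 LD2_c52 LD3_c20)) :=
  Lre_d IH (LK LD1_c3 LD2_c24 LD3_c57) (LK LD1_c6 LD2_c52 LD3_c20) Lrfl Lrfl
theorem f458546 : Led Lsl_gt (LP (LK LD1_c6 LD2_c52 LD3_c20)) = (LP (LK LD1_c13 LD2_c4 LD3_c13)) :=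
  Lre_g IH (LK LD1_c6 LD2_c52 LD3_c20) (LK LD1_c13 LD2_c4 LD3_c13) Lrfl Lrfl
theorem f470786 : Led Lsl_cf (LP (LK LD1_c3 LD2_c53 LD3_c7)) = (LP (LK LD1_c6 LD2_c58 LD3_c20)) :=
  Lgr Lrot166 (Lpr_gt (f470783 IH) (Lpr_dt (f106125 IH) (Lpr_gt (K28.f468863 IH) (Lpe (K28.f466485 IH) (Lpr_ct (f466546 IH) (Lpe (K28.f208983 IH) (Lpr_gf (f439588 IH) (Lpe (f470759 IH) (Lpr_gf (f455389 IH) (Lpn (LP (LK LD1_c6 LD2_c58 LD3_c20))))))))))))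
theorem f477601 : Led Lsl_dt (LP (LK LD1_c13 LD2_c4 LD3_c13)) = (LP (LK LD1_c6 LD2_c58 LD3_c20)) :=
  Lgr Lrot105 (Lpe (f458546 IH) (Lpe (f458558 IH) (Lpe (K28.f463598 IH) (Lpe (K28.f94448 IH) (Lpr_gt (K28.f468101 IH) (Lpr_dt (f463879 IH) (Lpr_gt (f477599 IH) (Lpr_dt (f470785 IH) (Lpr_cf (f470786 IH) (Lpn (LP (LK LD1_c6 LD2_c58 LD3_c20))))))))))))
theorem f477610 : Led Lsl_df (LP (LK LD1_c13 LD2_c4 LD3_c13)) = (LP (LK LD1_c6 LD2_c58 LD3_c20)) :=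
  Lgr Lrot38 (Lpr_dt (f477601 IH) (Lpn (LP (LK LD1_c6 LD2_c58 LD3_c20))))
theorem f10664 : Led Lsl_gt (LP (LK LD1_c3 LD2_c36 LD3_c20)) = (LP (LK LD1_c1 LD2_c45 LD3_c0)) :=
  Lre_g IH (LK LD1_c3 LD2_c36 LD3_c20) (LK LD1_c1 LD2_c45 LD3_c0) Lrfl Lrfl
theorem f477615 : Led Lsl_ef (LP (LK LD1_c3 LD2_c36 LD3_c20)) = (LP (LK LD1_c6 LD2_c58 LD3_c20)) :=
  Lgr Lrot114 (Lpr_gt (f10664 IH) (Lpe (K28.f10474 IH) (Lpr_dt (K3.f98049 IH) (Lpe (K3.f98045 IH) (Lpe (K3.f92482 IH) (Lpr_et (K24.f93153 IH) (Lpr_gt (K28.f463598 IH) (Lpr_dt (f458558 IH) (Lpr_gt (f458546 IH) (Lpr_df (f477610 IH) (Lpn (LP (LK LD1_c6 LD2_c58 LD3_c20)))))))))))))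
theorem f87149 : Led Lsl_gt (LP (LK LD1_c3 LD2_c49 LD3_c1)) = (LP (LK LD1_c1 LD2_c51 LD3_c33)) :=
  Lre_g IH (LK LD1_c3 LD2_c49 LD3_c1) (LK LD1_c1 LD2_c51 LD3_c33) Lrfl Lrfl
theorem f129896 : Led Lsl_dt (LP (LK LD1_c3 LD2_c53 LD3_c7)) = (LP (LK LD1_c7 LD2_c48 LD3_c3)) :=
  Lre_d IH (LK LD1_c3 LD2_c53 LD3_c7) (LK LD1_c7 LD2_c48 LD3_c3) Lrfl Lrfl
theorem f477603 : Led Lsl_ef (LP (LK LD1_c3 LD2_c49 LD3_c1)) = (LP (LK LD1_c3 LD2_c53 LD3_c7)) :=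
  Lgr Lrot114 (Lpr_gt (f87149 IH) (Lpe (K3.f87145 IH) (Lpe (K3.f87136 IH) (Lpe (K2.f84689 IH) (Lpe (K2.f10783 IH) (Lpr_et (K28.f84699 IH) (Lpr_gt (K28.f468101 IH) (Lpr_dt (f463879 IH) (Lpr_gt (f477599 IH) (Lpe (f129896 IH) (Lpn (LP (LK LD1_c3 LD2_c53 LD3_c7)))))))))))))
theorem f477605 : Led Lsl_et (LP (LK LD1_c3 LD2_c49 LD3_c1)) = (LP (LK LD1_c3 LD2_c53 LD3_c7)) :=
  Lgr Lrot87 (Lpr_ef (f477603 IH) (Lpn (LP (LK LD1_c3 LD2_c53 LD3_c7))))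
theorem f477619 : Led Lsl_ct (LP (LK LD1_c3 LD2_c36 LD3_c20)) = (LP (LK LD1_c3 LD2_c49 LD3_c1)) :=
  Lgr Lrot15 (Lpr_ef (f477615 IH) (Lpr_cf (f468088 IH) (Lpe (f477605 IH) (Lpn (LP (LK LD1_c3 LD2_c49 LD3_c1))))))
theorem f6623 : Led Lsl_gt (LP (LK LD1_c1 LD2_c45 LD3_c30)) = (LP (LK LD1_c3 LD2_c36 LD3_c20)) :=
  Lre_g IH (LK LD1_c1 LD2_c45 LD3_c30) (LK LD1_c3 LD2_c36 LD3_c20) Lrfl Lrfl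
theorem f5946 : Led Lsl_ct (LP (LK LD1_c1 LD2_c45 LD3_c30)) = (LP (LK LD1_c0 LD2_c49 LD3_c28)) :=
  Lre_c IH (LK LD1_c1 LD2_c45 LD3_c30) (LK LD1_c0 LD2_c49 LD3_c28) Lrfl Lrfl
theorem f5949 : Led Lsl_bf (LP (LK LD1_c1 LD2_c45 LD3_c30)) = (LP (LK LD1_c1 LD2_c43 LD3_c41)) :=
  Lgr Lrot90 (Lpr_ct (f5946 IH) (Lpr_bt (f5945 IH) (Lpr_ct (K0.f5919 IH) (Lpr_bt (K24.f5947 IH) (Lpr_ct (K28.f5948 IH) (Lpn (LP (LK LD1_c1 LD2_c43 LD3_c41))))))))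
theorem f6627 : Led Lsl_bt (LP (LK LD1_c3 LD2_c32 LD3_c53)) = (LP (LK LD1_c7 LD2_c6 LD3_c44)) :=
  Lre_b IH (LK LD1_c3 LD2_c32 LD3_c53) (LK LD1_c7 LD2_c6 LD3_c44) Lrfl Lrfl
theorem f97994 : Led Lsl_ct (LP (LK LD1_c0 LD2_c52 LD3_c38)) = (LP (LK LD1_c1 LD2_c51 LD3_c36)) :=
  Lre_c IH (LK LD1_c0 LD2_c52 LD3_c38) (LK LD1_c1 LD2_c51 LD3_c36) Lrfl Lrfl
theorem f98002 : Led Lsl_at (LP (LK LD1_c1 LD2_c51 LD3_c33)) = (LP (LK LD1_c0 LD2_c52 LD3_c38)) :=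
  Lre_a IH (LK LD1_c1 LD2_c51 LD3_c33) (LK LD1_c0 LD2_c52 LD3_c38) Lrfl Lrfl
theorem f98003 : Led Lsl_ct (LP (LK LD1_c3 LD2_c36 LD3_c34)) = (LP (LK LD1_c1 LD2_c51 LD3_c33)) :=
  Lgr Lrot111 (Lpr_af (f97999 IH) (Lpe (f97994 IH) (Lpe (f98002 IH) (Lpn (LP (LK LD1_c1 LD2_c51 LD3_c33))))))
theorem f97936 : Led Lsl_bt (LP (LK LD1_c3 LD2_c36 LD3_c34)) = (LP (LK LD1_c7 LD2_c13 LD3_c27)) :=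
  Lre_b IH (LK LD1_c3 LD2_c36 LD3_c34) (LK LD1_c7 LD2_c13 LD3_c27) Lrfl Lrfl
theorem f477648 : Led Lsl_gf (LP (LK LD1_c7 LD2_c6 LD3_c44)) = (LP (LK LD1_c7 LD2_c13 LD3_c27)) :=
  Lgr Lrot124 (Lpe (f6627 IH) (Lpr_ct (K28.f6626 IH) (Lpr_gt (K3.f5969 IH) (Lpe (K3.f5963 IH) (Lpe (f5949 IH) (Lpr_gt (f6623 IH) (Lpr_ct (f477619 IH) (Lpr_gt (f87149 IH) (Lpe (f98003 IH) (Lpr_bt (f97936 IH) (Lpn (LP (LK LD1_c7 LD2_c13 LD3_c27)))))))))))))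
theorem f442172 : Led Lsl_gt (LP (LK LD1_c7 LD2_c6 LD3_c44)) = (LP (LK LD1_c13 LD2_c28 LD3_c36)) :=
  Lre_g IH (LK LD1_c7 LD2_c6 LD3_c44) (LK LD1_c13 LD2_c28 LD3_c36) Lrfl Lrfl
theorem f478041 : Led Lsl_af (LP (LK LD1_c13 LD2_c28 LD3_c36)) = (LP (LK LD1_c7 LD2_c9 LD3_c36)) :=
  Lgr Lrot31 (Lpe (f442172 IH) (Lpr_gf (f477648 IH) (Lpr_ft (f478033 IH) (Lpn (LP (LK LD1_c7 LD2_c9 LD3_c36))))))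
theorem f478052 : Led Lsl_ft (LP (LK LD1_c13 LD2_c28 LD3_c36)) = (LP (LK LD1_c7 LD2_c7 LD3_c33)) :=
  Lgr Lrot101 (Lpr_af (f478041 IH) (Lpe (f478033 IH) (Lpr_af (K28.f97934 IH) (Lpn (LP (LK LD1_c7 LD2_c7 LD3_c33))))))
theorem f478057 : Led Lsl_ff (LP (LK LD1_c13 LD2_c28 LD3_c36)) = (LP (LK LD1_c7 LD2_c7 LD3_c33)) :=
  Lgr Lrot3 (Lpr_ft (f478052 IH) (Lpn (LP (LK LD1_c7 LD2_c7 LD3_c33))))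
theorem f145393 : Led Lsl_ct (LP (LK LD1_c1 LD2_c53 LD3_c58)) = (LP (LK LD1_c0 LD2_c53 LD3_c32)) :=
  Lre_c IH (LK LD1_c1 LD2_c53 LD3_c58) (LK LD1_c0 LD2_c53 LD3_c32) Lrfl Lrfl
theorem f10153 : Led Lsl_ct (LP (LK LD1_c0 LD2_c49 LD3_c34)) = (LP (LK LD1_c1 LD2_c45 LD3_c52)) :=
  Lre_c IH (LK LD1_c0 LD2_c49 LD3_c34) (LK LD1_c1 LD2_c45 LD3_c52) Lrfl Lrfl
theorem f456649 : Led Lsl_bf (LP (LK LD1_c1 LD2_c53 LD3_c58)) = (LP (LK LD1_c1 LD2_c45 LD3_c52)) :=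
  Lgr Lrot90 (Lpr_ct (f145393 IH) (Lpr_bt (K28.f145392 IH) (Lpq (K24.f455968 IH) (Lpe (f450897 IH) (Lpr_bt (f450890 IH) (Lpr_ct (f10153 IH) (Lpn (LP (LK LD1_c1 LD2_c45 LD3_c52)))))))))
theorem f456653 : Led Lsl_bt (LP (LK LD1_c1 LD2_c53 LD3_c58)) = (LP (LK LD1_c1 LD2_c45 LD3_c52)) :=
  Lgr Lrot127 (Lpr_bf (f456649 IH) (Lpn (LP (LK LD1_c1 LD2_c45 LD3_c52))))
theorem f456722 : Led Lsl_gt (LP (LK LD1_c1 LD2_c45 LD3_c52)) = (LP (LK LD1_c3 LD2_c37 LD3_c60)) :=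
  Lre_g IH (LK LD1_c1 LD2_c45 LD3_c52) (LK LD1_c3 LD2_c37 LD3_c60) Lrfl Lrfl
theorem f456725 : Led Lsl_bt (LP (LK LD1_c7 LD2_c16 LD3_c23)) = (LP (LK LD1_c3 LD2_c37 LD3_c60)) :=
  Lre_b IH (LK LD1_c7 LD2_c16 LD3_c23) (LK LD1_c3 LD2_c37 LD3_c60) Lrfl Lrfl
theorem f466703 : Led Lsl_bt (LP (LK LD1_c7 LD2_c9 LD3_c30)) = (LP (LK LD1_c3 LD2_c34 LD3_c10)) :=
  Lre_b IH (LK LD1_c7 LD2_c9 LD3_c30) (LK LD1_c3 LD2_c34 LD3_c10) Lrfl Lrfl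
theorem f466645 : Led Lsl_ct (LP (LK LD1_c7 LD2_c9 LD3_c30)) = (LP (LK LD1_c3 LD2_c34 LD3_c13)) :=
  Lre_c IH (LK LD1_c7 LD2_c9 LD3_c30) (LK LD1_c3 LD2_c34 LD3_c13) Lrfl Lrfl
theorem f467100 : Led Lsl_ct (LP (LK LD1_c7 LD2_c16 LD3_c23)) = (LP (LK LD1_c7 LD2_c9 LD3_c36)) :=
  Lgr Lrot64 (Lpr_bt (f456725 IH) (Lpe (f456722 IH) (Lpe (f456653 IH) (Lpr_ct (f145393 IH) (Lpq (f466709 IH) (Lpe (f459668 IH) (Lpe (K2.f87679 IH) (Lpr_gf (K28.f466693 IH) (Lpe (f466703 IH) (Lpr_ct (f466645 IH) (Lpe (f6021 IH) (Lpn (LP (LK LD1_c7 LD2_c9 LD3_c36))))))))))))))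
theorem f467102 : Led Lsl_at (LP (LK LD1_c13 LD2_c45 LD3_c49)) = (LP (LK LD1_c7 LD2_c16 LD3_c23)) :=
  Lre_a IH (LK LD1_c13 LD2_c45 LD3_c49) (LK LD1_c7 LD2_c16 LD3_c23) Lrfl Lrfl
theorem f478048 : Led Lsl_ct (LP (LK LD1_c13 LD2_c28 LD3_c36)) = (LP (LK LD1_c13 LD2_c45 LD3_c49)) :=
  Lgr Lrot111 (Lpr_af (f478041 IH) (Lpe (f467100 IH) (Lpe (f467102 IH) (Lpn (LP (LK LD1_c13 LD2_c45 LD3_c49))))))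
theorem f478117 : Led Lsl_ft (LP (LK LD1_c13 LD2_c45 LD3_c49)) = (LP (LK LD1_c7 LD2_c42 LD3_c42)) :=
  Lgr Lrot4 (Lpe (f478048 IH) (Lpr_ff (f478057 IH) (Lpr_cf (K28.f97855 IH) (Lpn (LP (LK LD1_c7 LD2_c42 LD3_c42))))))
theorem f478123 : Led Lsl_ff (LP (LK LD1_c13 LD2_c45 LD3_c49)) = (LP (LK LD1_c7 LD2_c42 LD3_c42)) :=
  Lgr Lrot3 (Lpr_ft (f478117 IH) (Lpn (LP (LK LD1_c7 LD2_c42 LD3_c42))))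
theorem f467116 : Led Lsl_gt (LP (LK LD1_c13 LD2_c45 LD3_c48)) = (LP (LK LD1_c7 LD2_c16 LD3_c23)) :=
  Lre_g IH (LK LD1_c13 LD2_c45 LD3_c48) (LK LD1_c7 LD2_c16 LD3_c23) Lrfl Lrfl
theorem f478231 : Led Lsl_gf (LP (LK LD1_c13 LD2_c45 LD3_c48)) = (LP (LK LD1_c7 LD2_c42 LD3_c42)) :=
  Lgr Lrot47 (Lpr_gt (f467116 IH) (Lpe (f467102 IH) (Lpr_ff (f478123 IH) (Lpn (LP (LK LD1_c7 LD2_c42 LD3_c42))))))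
theorem f97937 : Led Lsl_cf (LP (LK LD1_c7 LD2_c13 LD3_c27)) = (LP (LK LD1_c3 LD2_c50 LD3_c50)) :=
  Lgr Lrot11 (Lpr_ct (K28.f97920 IH) (Lpn (LP (LK LD1_c3 LD2_c50 LD3_c50))))
theorem f98007 : Led Lsl_cf (LP (LK LD1_c7 LD2_c42 LD3_c42)) = (LP (LK LD1_c7 LD2_c7 LD3_c33)) :=
  Lgr Lrot1 (Lpr_at (K3.f97850 IH) (Lpe (f97937 IH) (Lpr_at (f97963 IH) (Lpn (LP (LK LD1_c7 LD2_c7 LD3_c33))))))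
theorem f5975 : Led Lsl_bt (LP (LK LD1_c3 LD2_c32 LD3_c52)) = (LP (LK LD1_c7 LD2_c6 LD3_c29)) :=
  Lre_b IH (LK LD1_c3 LD2_c32 LD3_c52) (LK LD1_c7 LD2_c6 LD3_c29) Lrfl Lrfl
theorem f6122 : Led Lsl_bt (LP (LK LD1_c1 LD2_c45 LD3_c26)) = (LP (LK LD1_c1 LD2_c43 LD3_c37)) :=
  Lgr Lrot119 (Lpe (K3.f6120 IH) (Lpr_bf (K4.f6098 IH) (Lpe (K3.f6121 IH) (Lpn (LP (LK LD1_c1 LD2_c43 LD3_c37))))))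
theorem f6137 : Led Lsl_ft (LP (LK LD1_c3 LD2_c37 LD3_c7)) = (LP (LK LD1_c1 LD2_c45 LD3_c26)) :=
  Lre_f IH (LK LD1_c3 LD2_c37 LD3_c7) (LK LD1_c1 LD2_c45 LD3_c26) Lrfl Lrfl
theorem f6138 : Led Lsl_ft (LP (LK LD1_c1 LD2_c43 LD3_c37)) = (LP (LK LD1_c3 LD2_c33 LD3_c48)) :=
  Lre_f IH (LK LD1_c1 LD2_c43 LD3_c37) (LK LD1_c3 LD2_c33 LD3_c48) Lrfl Lrfl
theorem f6139 : Led Lsl_bf (LP (LK LD1_c3 LD2_c37 LD3_c7)) = (LP (LK LD1_c3 LD2_c33 LD3_c48)) :=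
  Lgr Lrot61 (Lpr_ft (f6137 IH) (Lpr_bt (f6122 IH) (Lpr_ft (f6138 IH) (Lpn (LP (LK LD1_c3 LD2_c33 LD3_c48))))))
theorem f6155 : Led Lsl_dt (LP (LK LD1_c3 LD2_c37 LD3_c7)) = (LP (LK LD1_c7 LD2_c14 LD3_c38)) :=
  Lre_d IH (LK LD1_c3 LD2_c37 LD3_c7) (LK LD1_c7 LD2_c14 LD3_c38) Lrfl Lrfl
theorem f6156 : Led Lsl_dt (LP (LK LD1_c7 LD2_c8 LD3_c30)) = (LP (LK LD1_c3 LD2_c33 LD3_c48)) :=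
  Lre_d IH (LK LD1_c7 LD2_c8 LD3_c30) (LK LD1_c3 LD2_c33 LD3_c48) Lrfl Lrfl
theorem f6157 : Led Lsl_bt (LP (LK LD1_c7 LD2_c14 LD3_c38)) = (LP (LK LD1_c7 LD2_c8 LD3_c30)) :=
  Lgr Lrot95 (Lpe (f6155 IH) (Lpr_bf (f6139 IH) (Lpe (f6156 IH) (Lpn (LP (LK LD1_c7 LD2_c8 LD3_c30))))))
theorem f6169 : Led Lsl_bf (LP (LK LD1_c13 LD2_c42 LD3_c17)) = (LP (LK LD1_c13 LD2_c31 LD3_c32)) :=
  Lgr Lrot96 (Lpr_et (K3.f6167 IH) (Lpr_bt (f6157 IH) (Lpr_et (K3.f6168 IH) (Lpn (LP (LK LD1_c13 LD2_c31 LD3_c32))))))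
theorem f6183 : Led Lsl_bt (LP (LK LD1_c7 LD2_c15 LD3_c5)) = (LP (LK LD1_c7 LD2_c9 LD3_c6)) :=
  Lgr Lrot35 (Lpe (K3.f6181 IH) (Lpr_bf (f6169 IH) (Lpe (K3.f6182 IH) (Lpn (LP (LK LD1_c7 LD2_c9 LD3_c6))))))
theorem f6195 : Led Lsl_ct (LP (LK LD1_c13 LD2_c43 LD3_c22)) = (LP (LK LD1_c7 LD2_c15 LD3_c5)) :=
  Lre_c IH (LK LD1_c13 LD2_c43 LD3_c22) (LK LD1_c7 LD2_c15 LD3_c5) Lrfl Lrfl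
theorem f6196 : Led Lsl_bt (LP (LK LD1_c23 LD2_c9 LD3_c45)) = (LP (LK LD1_c13 LD2_c43 LD3_c22)) :=
  Lre_b IH (LK LD1_c23 LD2_c9 LD3_c45) (LK LD1_c13 LD2_c43 LD3_c22) Lrfl Lrfl
theorem f6197 : Led Lsl_ct (LP (LK LD1_c7 LD2_c9 LD3_c6)) = (LP (LK LD1_c13 LD2_c32 LD3_c50)) :=
  Lre_c IH (LK LD1_c7 LD2_c9 LD3_c6) (LK LD1_c13 LD2_c32 LD3_c50) Lrfl Lrfl
theorem f6198 : Led Lsl_bt (LP (LK LD1_c13 LD2_c32 LD3_c50)) = (LP (LK LD1_c22 LD2_c54 LD3_c59)) :=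
  Lre_b IH (LK LD1_c13 LD2_c32 LD3_c50) (LK LD1_c22 LD2_c54 LD3_c59) Lrfl Lrfl
theorem f6199 : Led Lsl_cf (LP (LK LD1_c23 LD2_c9 LD3_c45)) = (LP (LK LD1_c22 LD2_c54 LD3_c59)) :=
  Lgr Lrot97 (Lpr_bt (f6196 IH) (Lpr_ct (f6195 IH) (Lpr_bt (f6183 IH) (Lpr_ct (f6197 IH) (Lpr_bt (f6198 IH) (Lpn (LP (LK LD1_c22 LD2_c54 LD3_c59))))))))
theorem f6215 : Led Lsl_et (LP (LK LD1_c23 LD2_c9 LD3_c45)) = (LP (LK LD1_c13 LD2_c43 LD3_c19)) :=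
  Lre_e IH (LK LD1_c23 LD2_c9 LD3_c45) (LK LD1_c13 LD2_c43 LD3_c19) Lrfl Lrfl
theorem f6216 : Led Lsl_et (LP (LK LD1_c13 LD2_c32 LD3_c46)) = (LP (LK LD1_c22 LD2_c54 LD3_c59)) :=
  Lre_e IH (LK LD1_c13 LD2_c32 LD3_c46) (LK LD1_c22 LD2_c54 LD3_c59) Lrfl Lrfl
theorem f6217 : Led Lsl_ct (LP (LK LD1_c13 LD2_c43 LD3_c19)) = (LP (LK LD1_c13 LD2_c32 LD3_c46)) :=
  Lgr Lrot15 (Lpe (f6215 IH) (Lpr_cf (f6199 IH) (Lpe (f6216 IH) (Lpn (LP (LK LD1_c13 LD2_c32 LD3_c46))))))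
theorem f6232 : Led Lsl_ft (LP (LK LD1_c7 LD2_c15 LD3_c2)) = (LP (LK LD1_c13 LD2_c43 LD3_c19)) :=
  Lre_f IH (LK LD1_c7 LD2_c15 LD3_c2) (LK LD1_c13 LD2_c43 LD3_c19) Lrfl Lrfl
theorem f6233 : Led Lsl_ft (LP (LK LD1_c13 LD2_c32 LD3_c46)) = (LP (LK LD1_c7 LD2_c9 LD3_c3)) :=
  Lre_f IH (LK LD1_c13 LD2_c32 LD3_c46) (LK LD1_c7 LD2_c9 LD3_c3) Lrfl Lrfl
theorem f6234 : Led Lsl_cf (LP (LK LD1_c7 LD2_c15 LD3_c2)) = (LP (LK LD1_c7 LD2_c9 LD3_c3)) :=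
  Lgr Lrot108 (Lpr_ft (f6232 IH) (Lpr_ct (f6217 IH) (Lpr_ft (f6233 IH) (Lpn (LP (LK LD1_c7 LD2_c9 LD3_c3))))))
theorem f6248 : Led Lsl_ct (LP (LK LD1_c7 LD2_c15 LD3_c2)) = (LP (LK LD1_c7 LD2_c9 LD3_c3)) :=
  Lgr Lrot59 (Lpr_cf (f6234 IH) (Lpn (LP (LK LD1_c7 LD2_c9 LD3_c3))))
theorem f6277 : Led Lsl_bt (LP (LK LD1_c3 LD2_c37 LD3_c15)) = (LP (LK LD1_c7 LD2_c15 LD3_c2)) :=
  Lre_b IH (LK LD1_c3 LD2_c37 LD3_c15) (LK LD1_c7 LD2_c15 LD3_c2) Lrfl Lrfl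
theorem f6278 : Led Lsl_ct (LP (LK LD1_c1 LD2_c45 LD3_c29)) = (LP (LK LD1_c3 LD2_c37 LD3_c15)) :=
  Lre_c IH (LK LD1_c1 LD2_c45 LD3_c29) (LK LD1_c3 LD2_c37 LD3_c15) Lrfl Lrfl
theorem f6268 : Led Lsl_bt (LP (LK LD1_c7 LD2_c9 LD3_c3)) = (LP (LK LD1_c3 LD2_c33 LD3_c59)) :=
  Lre_b IH (LK LD1_c7 LD2_c9 LD3_c3) (LK LD1_c3 LD2_c33 LD3_c59) Lrfl Lrfl
theorem f6279 : Led Lsl_ct (LP (LK LD1_c3 LD2_c33 LD3_c59)) = (LP (LK LD1_c1 LD2_c43 LD3_c40)) :=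
  Lre_c IH (LK LD1_c3 LD2_c33 LD3_c59) (LK LD1_c1 LD2_c43 LD3_c40) Lrfl Lrfl
theorem f6280 : Led Lsl_bf (LP (LK LD1_c1 LD2_c45 LD3_c29)) = (LP (LK LD1_c1 LD2_c43 LD3_c40)) :=
  Lgr Lrot90 (Lpr_ct (f6278 IH) (Lpr_bt (f6277 IH) (Lpr_ct (f6248 IH) (Lpr_bt (f6268 IH) (Lpr_ct (f6279 IH) (Lpn (LP (LK LD1_c1 LD2_c43 LD3_c40))))))))
theorem f6307 : Led Lsl_ft (LP (LK LD1_c1 LD2_c45 LD3_c29)) = (LP (LK LD1_c3 LD2_c37 LD3_c16)) :=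
  Lre_f IH (LK LD1_c1 LD2_c45 LD3_c29) (LK LD1_c3 LD2_c37 LD3_c16) Lrfl Lrfl
theorem f6308 : Led Lsl_ft (LP (LK LD1_c3 LD2_c33 LD3_c60)) = (LP (LK LD1_c1 LD2_c43 LD3_c40)) :=
  Lre_f IH (LK LD1_c3 LD2_c33 LD3_c60) (LK LD1_c1 LD2_c43 LD3_c40) Lrfl Lrfl
theorem f6309 : Led Lsl_bt (LP (LK LD1_c3 LD2_c37 LD3_c16)) = (LP (LK LD1_c3 LD2_c33 LD3_c60)) :=
  Lgr Lrot35 (Lpe (f6307 IH) (Lpr_bf (f6280 IH) (Lpe (f6308 IH) (Lpn (LP (LK LD1_c3 LD2_c33 LD3_c60))))))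
theorem f6322 : Led Lsl_at (LP (LK LD1_c7 LD2_c13 LD3_c7)) = (LP (LK LD1_c3 LD2_c37 LD3_c16)) :=
  Lre_a IH (LK LD1_c7 LD2_c13 LD3_c7) (LK LD1_c3 LD2_c37 LD3_c16) Lrfl Lrfl
theorem f6323 : Led Lsl_bt (LP (LK LD1_c13 LD2_c39 LD3_c36)) = (LP (LK LD1_c7 LD2_c13 LD3_c7)) :=
  Lre_b IH (LK LD1_c13 LD2_c39 LD3_c36) (LK LD1_c7 LD2_c13 LD3_c7) Lrfl Lrfl
theorem f6324 : Led Lsl_at (LP (LK LD1_c3 LD2_c33 LD3_c60)) = (LP (LK LD1_c7 LD2_c6 LD3_c42)) :=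
  Lre_a IH (LK LD1_c3 LD2_c33 LD3_c60) (LK LD1_c7 LD2_c6 LD3_c42) Lrfl Lrfl
theorem f6325 : Led Lsl_bt (LP (LK LD1_c7 LD2_c6 LD3_c42)) = (LP (LK LD1_c13 LD2_c28 LD3_c9)) :=
  Lre_b IH (LK LD1_c7 LD2_c6 LD3_c42) (LK LD1_c13 LD2_c28 LD3_c9) Lrfl Lrfl
theorem f6326 : Led Lsl_af (LP (LK LD1_c13 LD2_c39 LD3_c36)) = (LP (LK LD1_c13 LD2_c28 LD3_c9)) :=
  Lgr Lrot36 (Lpr_bt (f6323 IH) (Lpr_at (f6322 IH) (Lpr_bt (f6309 IH) (Lpr_at (f6324 IH) (Lpr_bt (f6325 IH) (Lpn (LP (LK LD1_c13 LD2_c28 LD3_c9))))))))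
theorem f6344 : Led Lsl_dt (LP (LK LD1_c13 LD2_c39 LD3_c36)) = (LP (LK LD1_c7 LD2_c12 LD3_c61)) :=
  Lre_d IH (LK LD1_c13 LD2_c39 LD3_c36) (LK LD1_c7 LD2_c12 LD3_c61) Lrfl Lrfl
theorem f6345 : Led Lsl_dt (LP (LK LD1_c7 LD2_c6 LD3_c29)) = (LP (LK LD1_c13 LD2_c28 LD3_c9)) :=
  Lre_d IH (LK LD1_c7 LD2_c6 LD3_c29) (LK LD1_c13 LD2_c28 LD3_c9) Lrfl Lrfl
theorem f6346 : Led Lsl_at (LP (LK LD1_c7 LD2_c12 LD3_c61)) = (LP (LK LD1_c7 LD2_c6 LD3_c29)) :=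
  Lgr Lrot51 (Lpe (f6344 IH) (Lpr_af (f6326 IH) (Lpe (f6345 IH) (Lpn (LP (LK LD1_c7 LD2_c6 LD3_c29))))))
theorem f6364 : Led Lsl_ft (LP (LK LD1_c3 LD2_c36 LD3_c18)) = (LP (LK LD1_c7 LD2_c12 LD3_c61)) :=
  Lre_f IH (LK LD1_c3 LD2_c36 LD3_c18) (LK LD1_c7 LD2_c12 LD3_c61) Lrfl Lrfl
theorem f6368 : Led Lsl_gt (LP (LK LD1_c3 LD2_c36 LD3_c18)) = (LP (LK LD1_c7 LD2_c12 LD3_c58)) :=
  Lre_g IH (LK LD1_c3 LD2_c36 LD3_c18) (LK LD1_c7 LD2_c12 LD3_c58) Lrfl Lrfl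
theorem f6369 : Led Lsl_gt (LP (LK LD1_c7 LD2_c12 LD3_c58)) = (LP (LK LD1_c7 LD2_c6 LD3_c29)) :=
  Lgr Lrot46 (Lpe (f6368 IH) (Lpr_ft (f6364 IH) (Lpr_at (f6346 IH) (Lpn (LP (LK LD1_c7 LD2_c6 LD3_c29))))))
theorem f6378 : Led Lsl_bt (LP (LK LD1_c13 LD2_c39 LD3_c27)) = (LP (LK LD1_c7 LD2_c12 LD3_c58)) :=
  Lre_b IH (LK LD1_c13 LD2_c39 LD3_c27) (LK LD1_c7 LD2_c12 LD3_c58) Lrfl Lrfl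
theorem f478233 : Led Lsl_cf (LP (LK LD1_c13 LD2_c45 LD3_c48)) = (LP (LK LD1_c13 LD2_c39 LD3_c27)) :=
  Lgr Lrot163 (Lpr_gf (f478231 IH) (Lpr_cf (f98007 IH) (Lpr_gf (f478009 IH) (Lpe (f6020 IH) (Lpr_ct (K28.f6019 IH) (Lpe (K28.f6380 IH) (Lpe (f6379 IH) (Lpr_bt (f5975 IH) (Lpe (f6369 IH) (Lpe (f6378 IH) (Lpn (LP (LK LD1_c13 LD2_c39 LD3_c27)))))))))))))
theorem f467104 : Led Lsl_cf (LP (LK LD1_c7 LD2_c16 LD3_c23)) = (LP (LK LD1_c7 LD2_c9 LD3_c36)) :=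
  Lgr Lrot11 (Lpr_ct (f467100 IH) (Lpn (LP (LK LD1_c7 LD2_c9 LD3_c36))))
theorem f478035 : Led Lsl_bf (LP (LK LD1_c7 LD2_c13 LD3_c8)) = (LP (LK LD1_c7 LD2_c9 LD3_c36)) :=
  Lgr Lrot61 (Lpr_ft (K28.f467962 IH) (Lpr_bt (f97936 IH) (Lpr_ft (f478033 IH) (Lpn (LP (LK LD1_c7 LD2_c9 LD3_c36))))))
theorem f5999 : Led Lsl_bt (LP (LK LD1_c1 LD2_c45 LD3_c0)) = (LP (LK LD1_c3 LD2_c36 LD3_c18)) :=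
  Lre_b IH (LK LD1_c1 LD2_c45 LD3_c0) (LK LD1_c3 LD2_c36 LD3_c18) Lrfl Lrfl
theorem f10656 : Led Lsl_ct (LP (LK LD1_c1 LD2_c45 LD3_c0)) = (LP (LK LD1_c0 LD2_c49 LD3_c13)) :=
  Lre_c IH (LK LD1_c1 LD2_c45 LD3_c0) (LK LD1_c0 LD2_c49 LD3_c13) Lrfl Lrfl
theorem f10695 : Led Lsl_gt (LP (LK LD1_c1 LD2_c45 LD3_c2)) = (LP (LK LD1_c0 LD2_c49 LD3_c13)) :=
  Lre_g IH (LK LD1_c1 LD2_c45 LD3_c2) (LK LD1_c0 LD2_c49 LD3_c13) Lrfl Lrfl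
theorem f5991 : Led Lsl_ct (LP (LK LD1_c3 LD2_c36 LD3_c25)) = (LP (LK LD1_c1 LD2_c45 LD3_c2)) :=
  Lre_c IH (LK LD1_c3 LD2_c36 LD3_c25) (LK LD1_c1 LD2_c45 LD3_c2) Lrfl Lrfl
theorem f478240 : Led Lsl_gt (LP (LK LD1_c7 LD2_c13 LD3_c8)) = (LP (LK LD1_c3 LD2_c36 LD3_c25)) :=
  Lgr Lrot82 (Lpr_bf (f478035 IH) (Lpe (f467104 IH) (Lpe (f467116 IH) (Lpr_cf (f478233 IH) (Lpr_bt (f6378 IH) (Lpe (f6368 IH) (Lpe (f5999 IH) (Lpr_ct (f10656 IH) (Lpe (f10695 IH) (Lpe (f5991 IH) (Lpn (LP (LK LD1_c3 LD2_c36 LD3_c25)))))))))))))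
theorem f467964 : Led Lsl_cf (LP (LK LD1_c7 LD2_c13 LD3_c8)) = (LP (LK LD1_c3 LD2_c49 LD3_c3)) :=
  Lgr Lrot108 (Lpr_ft (K28.f467962 IH) (Lpr_ct (f98003 IH) (Lpr_ft (K28.f87158 IH) (Lpn (LP (LK LD1_c3 LD2_c49 LD3_c3))))))
theorem f467438 : Led Lsl_bt (LP (LK LD1_c3 LD2_c49 LD3_c11)) = (LP (LK LD1_c1 LD2_c51 LD3_c37)) :=
  Lre_b IH (LK LD1_c3 LD2_c49 LD3_c11) (LK LD1_c1 LD2_c51 LD3_c37) Lrfl Lrfl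
theorem f476787 : Led Lsl_ft (LP (LK LD1_c0 LD2_c53 LD3_c52)) = (LP (LK LD1_c1 LD2_c45 LD3_c50)) :=
  Lgr Lrot48 (Lpr_ff (f476779 IH) (Lpn (LP (LK LD1_c1 LD2_c45 LD3_c50))))
theorem f14608 : Led Lsl_et (LP (LK LD1_c0 LD2_c46 LD3_c31)) = (LP (LK LD1_c0 LD2_c20 LD3_c53)) :=
  Lre_e IH (LK LD1_c0 LD2_c46 LD3_c31) (LK LD1_c0 LD2_c20 LD3_c53) Lrfl Lrfl
theorem f126009 : Led Lsl_ft (LP (LK LD1_c1 LD2_c39 LD3_c60)) = (LP (LK LD1_c0 LD2_c46 LD3_c31)) :=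
  Lre_f IH (LK LD1_c1 LD2_c39 LD3_c60) (LK LD1_c0 LD2_c46 LD3_c31) Lrfl Lrfl
theorem f476793 : Led Lsl_ef (LP (LK LD1_c1 LD2_c39 LD3_c60)) = (LP (LK LD1_c1 LD2_c45 LD3_c50)) :=
  Lgr Lrot21 (Lpr_ft (f126009 IH) (Lpr_et (f14608 IH) (Lpe (K5.f132283 IH) (Lpr_et (K5.f12205 IH) (Lpr_ft (f476787 IH) (Lpn (LP (LK LD1_c1 LD2_c45 LD3_c50))))))))
theorem f456658 : Led Lsl_ct (LP (LK LD1_c3 LD2_c37 LD3_c58)) = (LP (LK LD1_c1 LD2_c45 LD3_c50)) :=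
  Lre_c IH (LK LD1_c3 LD2_c37 LD3_c58) (LK LD1_c1 LD2_c45 LD3_c50) Lrfl Lrfl
theorem f476795 : Led Lsl_et (LP (LK LD1_c3 LD2_c26 LD3_c36)) = (LP (LK LD1_c3 LD2_c37 LD3_c58)) :=
  Lgr Lrot158 (Lpe (K4.f15127 IH) (Lpr_ef (f476793 IH) (Lpe (f456658 IH) (Lpn (LP (LK LD1_c3 LD2_c37 LD3_c58))))))
theorem f476802 : Led Lsl_ef (LP (LK LD1_c3 LD2_c26 LD3_c36)) = (LP (LK LD1_c3 LD2_c37 LD3_c58)) :=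
  Lgr Lrot88 (Lpr_et (f476795 IH) (Lpn (LP (LK LD1_c3 LD2_c37 LD3_c58))))
theorem f476804 : Led Lsl_bt (LP (LK LD1_c7 LD2_c16 LD3_c19)) = (LP (LK LD1_c3 LD2_c37 LD3_c58)) :=
  Lre_b IH (LK LD1_c7 LD2_c16 LD3_c19) (LK LD1_c3 LD2_c37 LD3_c58) Lrfl Lrfl
theorem f476805 : Led Lsl_et (LP (LK LD1_c6 LD2_c54 LD3_c52)) = (LP (LK LD1_c7 LD2_c16 LD3_c19)) :=
  Lgr Lrot74 (Lpe (K4.f15128 IH) (Lpr_ef (f476802 IH) (Lpe (f476804 IH) (Lpn (LP (LK LD1_c7 LD2_c16 LD3_c19))))))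
theorem f15260 : Led Lsl_et (LP (LK LD1_c1 LD2_c39 LD3_c56)) = (LP (LK LD1_c3 LD2_c26 LD3_c30)) :=
  Lre_e IH (LK LD1_c1 LD2_c39 LD3_c56) (LK LD1_c3 LD2_c26 LD3_c30) Lrfl Lrfl
theorem f12292 : Led Lsl_et (LP (LK LD1_c3 LD2_c50 LD3_c31)) = (LP (LK LD1_c1 LD2_c52 LD3_c9)) :=
  Lre_e IH (LK LD1_c3 LD2_c50 LD3_c31) (LK LD1_c1 LD2_c52 LD3_c9) Lrfl Lrfl
theorem f476829 : Led Lsl_ff (LP (LK LD1_c3 LD2_c50 LD3_c31)) = (LP (LK LD1_c7 LD2_c16 LD3_c19)) :=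
  Lgr Lrot72 (Lpr_et (f12292 IH) (Lpr_ft (K5.f132298 IH) (Lpr_et (f15260 IH) (Lpr_ft (K4.f15141 IH) (Lpr_et (f476805 IH) (Lpn (LP (LK LD1_c7 LD2_c16 LD3_c19))))))))
theorem f12317 : Led Lsl_at (LP (LK LD1_c3 LD2_c50 LD3_c31)) = (LP (LK LD1_c7 LD2_c41 LD3_c60)) :=
  Lre_a IH (LK LD1_c3 LD2_c50 LD3_c31) (LK LD1_c7 LD2_c41 LD3_c60) Lrfl Lrfl
theorem f136663 : Led Lsl_ct (LP (LK LD1_c3 LD2_c50 LD3_c28)) = (LP (LK LD1_c7 LD2_c41 LD3_c60)) :=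
  Lre_c IH (LK LD1_c3 LD2_c50 LD3_c28) (LK LD1_c7 LD2_c41 LD3_c60) Lrfl Lrfl
theorem f136665 : Led Lsl_dt (LP (LK LD1_c7 LD2_c42 LD3_c1)) = (LP (LK LD1_c3 LD2_c50 LD3_c28)) :=
  Lre_d IH (LK LD1_c7 LD2_c42 LD3_c1) (LK LD1_c3 LD2_c50 LD3_c28) Lrfl Lrfl
theorem f428794 : Led Lsl_ct (LP (LK LD1_c14 LD2_c30 LD3_c52)) = (LP (LK LD1_c7 LD2_c42 LD3_c1)) :=
  Lre_c IH (LK LD1_c14 LD2_c30 LD3_c52) (LK LD1_c7 LD2_c42 LD3_c1) Lrfl Lrfl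
theorem f428782 : Led Lsl_dt (LP (LK LD1_c24 LD2_c12 LD3_c18)) = (LP (LK LD1_c14 LD2_c30 LD3_c52)) :=
  Lre_d IH (LK LD1_c24 LD2_c12 LD3_c18) (LK LD1_c14 LD2_c30 LD3_c52) Lrfl Lrfl
theorem f476828 : Led Lsl_dt (LP (LK LD1_c7 LD2_c16 LD3_c19)) = (LP (LK LD1_c13 LD2_c45 LD3_c40)) :=
  Lre_d IH (LK LD1_c7 LD2_c16 LD3_c19) (LK LD1_c13 LD2_c45 LD3_c40) Lrfl Lrfl
theorem f476842 : Led Lsl_ct (LP (LK LD1_c13 LD2_c45 LD3_c40)) = (LP (LK LD1_c23 LD2_c12 LD3_c48)) :=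
  Lre_c IH (LK LD1_c13 LD2_c45 LD3_c40) (LK LD1_c23 LD2_c12 LD3_c48) Lrfl Lrfl
theorem f476843 : Led Lsl_dt (LP (LK LD1_c23 LD2_c12 LD3_c48)) = (LP (LK LD1_c30 LD2_c56 LD3_c40)) :=
  Lre_d IH (LK LD1_c23 LD2_c12 LD3_c48) (LK LD1_c30 LD2_c56 LD3_c40) Lrfl Lrfl
theorem f476844 : Led Lsl_cf (LP (LK LD1_c24 LD2_c12 LD3_c18)) = (LP (LK LD1_c30 LD2_c56 LD3_c40)) :=
  Lgr Lrot116 (Lpr_dt (f428782 IH) (Lpr_ct (f428794 IH) (Lpr_dt (f136665 IH) (Lpr_ct (f136663 IH) (Lpe (f12317 IH) (Lpr_ff (f476829 IH) (Lpr_dt (f476828 IH) (Lpr_ct (f476842 IH) (Lpr_dt (f476843 IH) (Lpn (LP (LK LD1_c30 LD2_c56 LD3_c40))))))))))))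
theorem f136563 : Led Lsl_ct (LP (LK LD1_c14 LD2_c30 LD3_c47)) = (LP (LK LD1_c24 LD2_c12 LD3_c8)) :=
  Lre_c IH (LK LD1_c14 LD2_c30 LD3_c47) (LK LD1_c24 LD2_c12 LD3_c8) Lrfl Lrfl
theorem f476862 : Led Lsl_at (LP (LK LD1_c14 LD2_c30 LD3_c58)) = (LP (LK LD1_c24 LD2_c12 LD3_c8)) :=
  Lre_a IH (LK LD1_c14 LD2_c30 LD3_c58) (LK LD1_c24 LD2_c12 LD3_c8) Lrfl Lrfl
theorem f476863 : Led Lsl_ff (LP (LK LD1_c14 LD2_c30 LD3_c58)) = (LP (LK LD1_c23 LD2_c12 LD3_c48)) :=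
  Lgr Lrot103 (Lpr_at (f476862 IH) (Lpe (f136563 IH) (Lpe (K8.f132305 IH) (Lpe (f136663 IH) (Lpe (f136665 IH) (Lpe (f428794 IH) (Lpe (f428782 IH) (Lpr_cf (f476844 IH) (Lpe (f476843 IH) (Lpn (LP (LK LD1_c23 LD2_c12 LD3_c48))))))))))))
theorem f476869 : Led Lsl_ft (LP (LK LD1_c14 LD2_c30 LD3_c58)) = (LP (LK LD1_c23 LD2_c12 LD3_c48)) :=
  Lgr Lrot48 (Lpr_ff (f476863 IH) (Lpn (LP (LK LD1_c23 LD2_c12 LD3_c48))))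
theorem f12246 : Led Lsl_ct (LP (LK LD1_c7 LD2_c42 LD3_c6)) = (LP (LK LD1_c14 LD2_c30 LD3_c58)) :=
  Lre_c IH (LK LD1_c7 LD2_c42 LD3_c6) (LK LD1_c14 LD2_c30 LD3_c58) Lrfl Lrfl
theorem f476872 : Led Lsl_ct (LP (LK LD1_c23 LD2_c12 LD3_c48)) = (LP (LK LD1_c13 LD2_c45 LD3_c40)) :=
  Lre_c IH (LK LD1_c23 LD2_c12 LD3_c48) (LK LD1_c13 LD2_c45 LD3_c40) Lrfl Lrfl
theorem f476873 : Led Lsl_ff (LP (LK LD1_c7 LD2_c42 LD3_c6)) = (LP (LK LD1_c13 LD2_c45 LD3_c40)) :=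
  Lgr Lrot23 (Lpr_ct (f12246 IH) (Lpr_ft (f476869 IH) (Lpr_ct (f476872 IH) (Lpn (LP (LK LD1_c13 LD2_c45 LD3_c40))))))
theorem f476884 : Led Lsl_bt (LP (LK LD1_c7 LD2_c16 LD3_c20)) = (LP (LK LD1_c13 LD2_c45 LD3_c40)) :=
  Lre_b IH (LK LD1_c7 LD2_c16 LD3_c20) (LK LD1_c13 LD2_c45 LD3_c40) Lrfl Lrfl
theorem f476885 : Led Lsl_ft (LP (LK LD1_c3 LD2_c55 LD3_c45)) = (LP (LK LD1_c7 LD2_c16 LD3_c20)) :=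
  Lgr Lrot75 (Lpe (K8.f12244 IH) (Lpr_ff (f476873 IH) (Lpe (f476884 IH) (Lpn (LP (LK LD1_c7 LD2_c16 LD3_c20))))))
theorem f12243 : Led Lsl_at (LP (LK LD1_c7 LD2_c42 LD3_c6)) = (LP (LK LD1_c14 LD2_c30 LD3_c47)) :=
  Lre_a IH (LK LD1_c7 LD2_c42 LD3_c6) (LK LD1_c14 LD2_c30 LD3_c47) Lrfl Lrfl
theorem f136555 : Led Lsl_at (LP (LK LD1_c13 LD2_c9 LD3_c0)) = (LP (LK LD1_c6 LD2_c55 LD3_c27)) :=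
  Lre_a IH (LK LD1_c13 LD2_c9 LD3_c0) (LK LD1_c6 LD2_c55 LD3_c27) Lrfl Lrfl
theorem f136556 : Led Lsl_bt (LP (LK LD1_c6 LD2_c55 LD3_c27)) = (LP (LK LD1_c3 LD2_c26 LD3_c54)) :=
  Lre_b IH (LK LD1_c6 LD2_c55 LD3_c27) (LK LD1_c3 LD2_c26 LD3_c54) Lrfl Lrfl
theorem f136557 : Led Lsl_af (LP (LK LD1_c3 LD2_c55 LD3_c45)) = (LP (LK LD1_c3 LD2_c26 LD3_c54)) :=
  Lgr Lrot36 (Lpe (K5.f12230 IH) (Lpr_at (f12243 IH) (Lpr_bt (K8.f136551 IH) (Lpr_at (f136555 IH) (Lpr_bt (f136556 IH) (Lpn (LP (LK LD1_c3 LD2_c26 LD3_c54))))))))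
theorem f136645 : Led Lsl_ft (LP (LK LD1_c6 LD2_c55 LD3_c41)) = (LP (LK LD1_c3 LD2_c26 LD3_c54)) :=
  Lre_f IH (LK LD1_c6 LD2_c55 LD3_c41) (LK LD1_c3 LD2_c26 LD3_c54) Lrfl Lrfl
theorem f476887 : Led Lsl_af (LP (LK LD1_c6 LD2_c55 LD3_c41)) = (LP (LK LD1_c7 LD2_c16 LD3_c20)) :=
  Lgr Lrot45 (Lpr_ft (f136645 IH) (Lpe (f136557 IH) (Lpr_ft (f476885 IH) (Lpn (LP (LK LD1_c7 LD2_c16 LD3_c20))))))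
theorem f136648 : Led Lsl_dt (LP (LK LD1_c6 LD2_c55 LD3_c41)) = (LP (LK LD1_c3 LD2_c26 LD3_c55)) :=
  Lre_d IH (LK LD1_c6 LD2_c55 LD3_c41) (LK LD1_c3 LD2_c26 LD3_c55) Lrfl Lrfl
theorem f457330 : Led Lsl_dt (LP (LK LD1_c3 LD2_c37 LD3_c58)) = (LP (LK LD1_c7 LD2_c16 LD3_c20)) :=
  Lre_d IH (LK LD1_c3 LD2_c37 LD3_c58) (LK LD1_c7 LD2_c16 LD3_c20) Lrfl Lrfl
theorem f476940 : Led Lsl_at (LP (LK LD1_c3 LD2_c26 LD3_c55)) = (LP (LK LD1_c3 LD2_c37 LD3_c58)) :=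
  Lgr Lrot51 (Lpe (f136648 IH) (Lpr_af (f476887 IH) (Lpe (f457330 IH) (Lpn (LP (LK LD1_c3 LD2_c37 LD3_c58))))))
theorem f136668 : Led Lsl_ft (LP (LK LD1_c1 LD2_c40 LD3_c4)) = (LP (LK LD1_c3 LD2_c26 LD3_c55)) :=
  Lre_f IH (LK LD1_c1 LD2_c40 LD3_c4) (LK LD1_c3 LD2_c26 LD3_c55) Lrfl Lrfl
theorem f95076 : Led Lsl_gt (LP (LK LD1_c1 LD2_c40 LD3_c4)) = (LP (LK LD1_c3 LD2_c26 LD3_c52)) :=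
  Lre_g IH (LK LD1_c1 LD2_c40 LD3_c4) (LK LD1_c3 LD2_c26 LD3_c52) Lrfl Lrfl
theorem f476942 : Led Lsl_gt (LP (LK LD1_c3 LD2_c26 LD3_c52)) = (LP (LK LD1_c3 LD2_c37 LD3_c58)) :=
  Lgr Lrot46 (Lpe (f95076 IH) (Lpr_ft (f136668 IH) (Lpr_at (f476940 IH) (Lpn (LP (LK LD1_c3 LD2_c37 LD3_c58))))))
theorem f450899 : Led Lsl_ct (LP (LK LD1_c1 LD2_c45 LD3_c50)) = (LP (LK LD1_c3 LD2_c37 LD3_c58)) :=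
  Lre_c IH (LK LD1_c1 LD2_c45 LD3_c50) (LK LD1_c3 LD2_c37 LD3_c58) Lrfl Lrfl
theorem f476789 : Led Lsl_bf (LP (LK LD1_c3 LD2_c37 LD3_c21)) = (LP (LK LD1_c1 LD2_c45 LD3_c50)) :=
  Lgr Lrot61 (Lpr_ft (f467481 IH) (Lpr_bt (K5.f12212 IH) (Lpr_ft (f476787 IH) (Lpn (LP (LK LD1_c1 LD2_c45 LD3_c50))))))
theorem f97104 : Led Lsl_bt (LP (LK LD1_c0 LD2_c49 LD3_c26)) = (LP (LK LD1_c1 LD2_c45 LD3_c33)) :=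
  Lre_b IH (LK LD1_c0 LD2_c49 LD3_c26) (LK LD1_c1 LD2_c45 LD3_c33) Lrfl Lrfl
theorem f10840 : Led Lsl_ct (LP (LK LD1_c0 LD2_c49 LD3_c26)) = (LP (LK LD1_c1 LD2_c45 LD3_c34)) :=
  Lre_c IH (LK LD1_c0 LD2_c49 LD3_c26) (LK LD1_c1 LD2_c45 LD3_c34) Lrfl Lrfl
theorem f97025 : Led Lsl_cf (LP (LK LD1_c3 LD2_c36 LD3_c34)) = (LP (LK LD1_c1 LD2_c51 LD3_c33)) :=
  Lgr Lrot39 (Lpr_et (K28.f97014 IH) (Lpr_ct (K3.f97022 IH) (Lpr_et (K3.f87145 IH) (Lpn (LP (LK LD1_c1 LD2_c51 LD3_c33))))))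
theorem f64398 : Led Lsl_et (LP (LK LD1_c0 LD2_c52 LD3_c53)) = (LP (LK LD1_c1 LD2_c52 LD3_c18)) :=
  Lre_e IH (LK LD1_c0 LD2_c52 LD3_c53) (LK LD1_c1 LD2_c52 LD3_c18) Lrfl Lrfl
theorem f120936 : Led Lsl_et (LP (LK LD1_c3 LD2_c42 LD3_c25)) = (LP (LK LD1_c1 LD2_c48 LD3_c10)) :=
  Lre_e IH (LK LD1_c3 LD2_c42 LD3_c25) (LK LD1_c1 LD2_c48 LD3_c10) Lrfl Lrfl
theorem f120956 : Led Lsl_ct (LP (LK LD1_c1 LD2_c52 LD3_c18)) = (LP (LK LD1_c3 LD2_c42 LD3_c25)) :=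
  Lgr Lrot15 (Lpe (f64398 IH) (Lpr_cf (K4.f120950 IH) (Lpe (f120936 IH) (Lpn (LP (LK LD1_c3 LD2_c42 LD3_c25))))))
theorem f440574 : Led Lsl_cf (LP (LK LD1_c1 LD2_c52 LD3_c18)) = (LP (LK LD1_c3 LD2_c42 LD3_c25)) :=
  Lgr Lrot11 (Lpr_ct (f120956 IH) (Lpn (LP (LK LD1_c3 LD2_c42 LD3_c25))))
theorem f97955 : Led Lsl_bt (LP (LK LD1_c1 LD2_c52 LD3_c18)) = (LP (LK LD1_c3 LD2_c50 LD3_c50)) :=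
  Lre_b IH (LK LD1_c1 LD2_c52 LD3_c18) (LK LD1_c3 LD2_c50 LD3_c50) Lrfl Lrfl
theorem f97106 : Led Lsl_bt (LP (LK LD1_c7 LD2_c13 LD3_c27)) = (LP (LK LD1_c3 LD2_c36 LD3_c34)) :=
  Lre_b IH (LK LD1_c7 LD2_c13 LD3_c27) (LK LD1_c3 LD2_c36 LD3_c34) Lrfl Lrfl
theorem f440578 : Led Lsl_bt (LP (LK LD1_c1 LD2_c51 LD3_c33)) = (LP (LK LD1_c3 LD2_c42 LD3_c25)) :=
  Lgr Lrot128 (Lpe (f98003 IH) (Lpe (f97106 IH) (Lpr_cf (f97937 IH) (Lpe (f97955 IH) (Lpr_cf (f440574 IH) (Lpn (LP (LK LD1_c3 LD2_c42 LD3_c25))))))))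
theorem f467450 : Led Lsl_bt (LP (LK LD1_c1 LD2_c51 LD3_c37)) = (LP (LK LD1_c3 LD2_c49 LD3_c11)) :=
  Lre_b IH (LK LD1_c1 LD2_c51 LD3_c37) (LK LD1_c3 LD2_c49 LD3_c11) Lrfl Lrfl
theorem f467451 : Led Lsl_gt (LP (LK LD1_c3 LD2_c42 LD3_c25)) = (LP (LK LD1_c3 LD2_c49 LD3_c11)) :=
  Lgr Lrot164 (Lpe (f440578 IH) (Lpe (f97025 IH) (Lpr_gf (f97089 IH) (Lpe (f10840 IH) (Lpe (f6618 IH) (Lpe (f10142 IH) (Lpr_ct (f6591 IH) (Lpe (f10522 IH) (Lpr_cf (f467435 IH) (Lpr_bt (f467450 IH) (Lpn (LP (LK LD1_c3 LD2_c49 LD3_c11)))))))))))))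
theorem f476945 : Led Lsl_cf (LP (LK LD1_c3 LD2_c26 LD3_c52)) = (LP (LK LD1_c3 LD2_c49 LD3_c11)) :=
  Lgr Lrot125 (Lpr_gt (f476942 IH) (Lpe (f450899 IH) (Lpe (f476789 IH) (Lpr_gt (f97105 IH) (Lpe (f97104 IH) (Lpr_ct (f10840 IH) (Lpe (f97089 IH) (Lpr_cf (f97025 IH) (Lpr_bt (f440578 IH) (Lpr_gt (f467451 IH) (Lpn (LP (LK LD1_c3 LD2_c49 LD3_c11)))))))))))))
theorem f95057 : Led Lsl_ct (LP (LK LD1_c0 LD2_c46 LD3_c34)) = (LP (LK LD1_c1 LD2_c40 LD3_c4)) :=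
  Lre_c IH (LK LD1_c0 LD2_c46 LD3_c34) (LK LD1_c1 LD2_c40 LD3_c4) Lrfl Lrfl
theorem f91710 : Led Lsl_gt (LP (LK LD1_c3 LD2_c26 LD3_c44)) = (LP (LK LD1_c1 LD2_c40 LD3_c1)) :=
  Lre_g IH (LK LD1_c3 LD2_c26 LD3_c44) (LK LD1_c1 LD2_c40 LD3_c1) Lrfl Lrfl
theorem f5958 : Led Lsl_ct (LP (LK LD1_c1 LD2_c45 LD3_c2)) = (LP (LK LD1_c3 LD2_c36 LD3_c25)) :=
  Lre_c IH (LK LD1_c1 LD2_c45 LD3_c2) (LK LD1_c3 LD2_c36 LD3_c25) Lrfl Lrfl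
theorem f478249 : Led Lsl_bf (LP (LK LD1_c3 LD2_c26 LD3_c44)) = (LP (LK LD1_c1 LD2_c45 LD3_c2)) :=
  Lgr Lrot156 (Lpr_gt (f91710 IH) (Lpe (K5.f132258 IH) (Lpr_ct (f95057 IH) (Lpr_gt (f95076 IH) (Lpr_cf (f476945 IH) (Lpr_bt (f467438 IH) (Lpr_gt (f467417 IH) (Lpe (f467964 IH) (Lpr_gt (f478240 IH) (Lpe (f5958 IH) (Lpn (LP (LK LD1_c1 LD2_c45 LD3_c2)))))))))))))
theorem f478255 : Led Lsl_bt (LP (LK LD1_c3 LD2_c26 LD3_c44)) = (LP (LK LD1_c1 LD2_c45 LD3_c2)) :=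
  Lgr Lrot127 (Lpr_bf (f478249 IH) (Lpn (LP (LK LD1_c1 LD2_c45 LD3_c2))))
theorem f5957 : Led Lsl_gt (LP (LK LD1_c0 LD2_c49 LD3_c28)) = (LP (LK LD1_c1 LD2_c45 LD3_c2)) :=
  Lre_g IH (LK LD1_c0 LD2_c49 LD3_c28) (LK LD1_c1 LD2_c45 LD3_c2) Lrfl Lrfl
def v152 : LQ := Led Lsl_ct (LP (LK LD1_c0 LD2_c21 LD3_c46))
theorem f450773 : Led Lsl_ct (LP (LK LD1_c0 LD2_c21 LD3_c46)) = v152 :=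
  Lrfl
theorem f450774 : Led Lsl_cf (LP (LK LD1_c0 LD2_c21 LD3_c46)) = v152 :=
  Lgr Lrot11 (Lpr_ct (f450773 IH) (Lpn v152))
theorem f456041 : K24.v101 = v152 :=
  Lefun (Lecon (Lfl_cf (K24.f452111 IH)) (K24.f456040 IH)) (f450773 IH)
theorem f123414 : Led Lsl_bt (LP (LK LD1_c0 LD2_c24 LD3_c8)) = (LP (LK LD1_c0 LD2_c10 LD3_c47)) :=
  Lre_b IH (LK LD1_c0 LD2_c24 LD3_c8) (LK LD1_c0 LD2_c10 LD3_c47) Lrfl Lrfl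
theorem f123422 : Led Lsl_gt (LP (LK LD1_c1 LD2_c54 LD3_c12)) = (LP (LK LD1_c0 LD2_c53 LD3_c41)) :=
  Lre_g IH (LK LD1_c1 LD2_c54 LD3_c12) (LK LD1_c0 LD2_c53 LD3_c41) Lrfl Lrfl
theorem f478258 : Led Lsl_ct (LP (LK LD1_c3 LD2_c26 LD3_c44)) = (LP (LK LD1_c1 LD2_c54 LD3_c12)) :=
  Lgr Lrot64 (Lpr_bt (f478255 IH) (Lpe (f5957 IH) (Lpe (K0.f5956 IH) (Lpr_ct (K0.f5919 IH) (Lpe (K24.f10160 IH) (Lpr_cf (f450774 IH) (Lpq (f456041 IH) (Lpe (K24.f448764 IH) (Lpe (f123414 IH) (Lpr_ct (K24.f122766 IH) (Lpe (f123422 IH) (Lpn (LP (LK LD1_c1 LD2_c54 LD3_c12))))))))))))))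
theorem f96987 : Led Lsl_gt (LP (LK LD1_c6 LD2_c55 LD3_c9)) = (LP (LK LD1_c3 LD2_c26 LD3_c44)) :=
  Lre_g IH (LK LD1_c6 LD2_c55 LD3_c9) (LK LD1_c3 LD2_c26 LD3_c44) Lrfl Lrfl
theorem f96986 : Led Lsl_dt (LP (LK LD1_c6 LD2_c55 LD3_c9)) = (LP (LK LD1_c13 LD2_c8 LD3_c46)) :=
  Lre_d IH (LK LD1_c6 LD2_c55 LD3_c9) (LK LD1_c13 LD2_c8 LD3_c46) Lrfl Lrfl
theorem f96991 : Led Lsl_gt (LP (LK LD1_c13 LD2_c8 LD3_c46)) = (LP (LK LD1_c6 LD2_c55 LD3_c19)) :=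
  Lre_g IH (LK LD1_c13 LD2_c8 LD3_c46) (LK LD1_c6 LD2_c55 LD3_c19) Lrfl Lrfl
theorem f122785 : Led Lsl_ct (LP (LK LD1_c0 LD2_c53 LD3_c41)) = (LP (LK LD1_c0 LD2_c24 LD3_c8)) :=
  Lre_c IH (LK LD1_c0 LD2_c53 LD3_c41) (LK LD1_c0 LD2_c24 LD3_c8) Lrfl Lrfl
theorem f84789 : Led Lsl_dt (LP (LK LD1_c0 LD2_c53 LD3_c44)) = (LP (LK LD1_c0 LD2_c24 LD3_c8)) :=
  Lre_d IH (LK LD1_c0 LD2_c53 LD3_c44) (LK LD1_c0 LD2_c24 LD3_c8) Lrfl Lrfl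
theorem f84783 : Led Lsl_ct (LP (LK LD1_c1 LD2_c54 LD3_c22)) = (LP (LK LD1_c0 LD2_c53 LD3_c44)) :=
  Lre_c IH (LK LD1_c1 LD2_c54 LD3_c22) (LK LD1_c0 LD2_c53 LD3_c44) Lrfl Lrfl
theorem f84915 : Led Lsl_gt (LP (LK LD1_c3 LD2_c55 LD3_c34)) = (LP (LK LD1_c1 LD2_c54 LD3_c22)) :=
  Lre_g IH (LK LD1_c3 LD2_c55 LD3_c34) (LK LD1_c1 LD2_c54 LD3_c22) Lrfl Lrfl
theorem f478267 : Led Lsl_ct (LP (LK LD1_c6 LD2_c55 LD3_c19)) = (LP (LK LD1_c3 LD2_c55 LD3_c34)) :=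
  Lgr Lrot152 (Lpe (f96991 IH) (Lpe (f96986 IH) (Lpr_gt (f96987 IH) (Lpr_ct (f478258 IH) (Lpr_gt (f123422 IH) (Lpr_ct (f122785 IH) (Lpe (f84789 IH) (Lpe (f84783 IH) (Lpe (f84915 IH) (Lpn (LP (LK LD1_c3 LD2_c55 LD3_c34))))))))))))
theorem f84798 : Led Lsl_ct (LP (LK LD1_c0 LD2_c53 LD3_c44)) = (LP (LK LD1_c1 LD2_c54 LD3_c22)) :=
  Lre_c IH (LK LD1_c0 LD2_c53 LD3_c44) (LK LD1_c1 LD2_c54 LD3_c22) Lrfl Lrfl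
theorem f84796 : Led Lsl_bt (LP (LK LD1_c0 LD2_c53 LD3_c44)) = (LP (LK LD1_c0 LD2_c24 LD3_c10)) :=
  Lre_b IH (LK LD1_c0 LD2_c53 LD3_c44) (LK LD1_c0 LD2_c24 LD3_c10) Lrfl Lrfl
theorem f11270 : Led Lsl_gt (LP (LK LD1_c0 LD2_c24 LD3_c10)) = (LP (LK LD1_c0 LD2_c53 LD3_c48)) :=
  Lre_g IH (LK LD1_c0 LD2_c24 LD3_c10) (LK LD1_c0 LD2_c53 LD3_c48) Lrfl Lrfl
def v729 : LQ := Led Lsl_ft (LP (LK LD1_c0 LD2_c49 LD3_c38))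
theorem f456956 : Led Lsl_ft (LP (LK LD1_c0 LD2_c49 LD3_c38)) = v729 :=
  Lrfl
theorem f456958 : Led Lsl_ff (LP (LK LD1_c0 LD2_c49 LD3_c38)) = v729 :=
  Lgr Lrot3 (Lpr_ft (f456956 IH) (Lpn v729))
theorem f5915 : Led Lsl_ct (LP (LK LD1_c0 LD2_c22 LD3_c15)) = (LP (LK LD1_c0 LD2_c49 LD3_c38)) :=
  Lre_c IH (LK LD1_c0 LD2_c22 LD3_c15) (LK LD1_c0 LD2_c49 LD3_c38) Lrfl Lrfl
theorem f5927 : Led Lsl_ct (LP (LK LD1_c0 LD2_c49 LD3_c38)) = (LP (LK LD1_c0 LD2_c22 LD3_c15)) :=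
  Lre_c IH (LK LD1_c0 LD2_c49 LD3_c38) (LK LD1_c0 LD2_c22 LD3_c15) Lrfl Lrfl
theorem f10120 : Led Lsl_at (LP (LK LD1_c0 LD2_c49 LD3_c38)) = (LP (LK LD1_c0 LD2_c49 LD3_c38)) :=
  Lgr Lrot107 (Lpe (f5915 IH) (Lpr_af (K0.f10097 IH) (Lpe (f5927 IH) (Lpn (LP (LK LD1_c0 LD2_c49 LD3_c38))))))
theorem f456959 : Led Lsl_at v729 = v729 :=
  Lgr Lrot66 (Lpe (f456956 IH) (Lpe (f10120 IH) (Lpr_ff (f456958 IH) (Lpn v729))))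
def v726 : LQ := Led Lsl_gt (LP (LK LD1_c0 LD2_c49 LD3_c38))
theorem f456941 : Led Lsl_gt (LP (LK LD1_c0 LD2_c49 LD3_c38)) = v726 :=
  Lrfl
theorem f456962 : Led Lsl_gt v726 = v729 :=
  Lgr Lrot46 (Lpe (f456941 IH) (Lpr_ft (f456956 IH) (Lpr_at (f456959 IH) (Lpn v729))))
theorem f456957 : Led Lsl_cf (LP (LK LD1_c0 LD2_c49 LD3_c39)) = v729 :=
  Lgr Lrot108 (Lpr_ft (K0.f5954 IH) (Lpr_ct (f5915 IH) (Lpr_ft (f456956 IH) (Lpn v729))))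
theorem f456963 : Led Lsl_cf v726 = (LP (LK LD1_c0 LD2_c53 LD3_c48)) :=
  Lgr Lrot169 (Lpr_gt (f456962 IH) (Lpe (f456957 IH) (Lpe (K0.f5966 IH) (Lpr_cf (K0.f5951 IH) (Lpe (K24.f10160 IH) (Lpr_cf (f450774 IH) (Lpq (f456041 IH) (Lpe (K24.f448764 IH) (Lpe (K24.f12179 IH) (Lpr_gt (f11270 IH) (Lpn (LP (LK LD1_c0 LD2_c53 LD3_c48)))))))))))))
theorem f456960 : Led Lsl_ct (LP (LK LD1_c0 LD2_c49 LD3_c39)) = v729 :=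
  Lgr Lrot40 (Lpe (K0.f6636 IH) (Lpe (f5927 IH) (Lpr_ff (f456958 IH) (Lpn v729))))
theorem f10134 : Led Lsl_bt (LP (LK LD1_c0 LD2_c49 LD3_c39)) = (LP (LK LD1_c1 LD2_c45 LD3_c40)) :=
  Lre_b IH (LK LD1_c0 LD2_c49 LD3_c39) (LK LD1_c1 LD2_c45 LD3_c40) Lrfl Lrfl
theorem f478275 : Led Lsl_bt (LP (LK LD1_c6 LD2_c55 LD3_c19)) = (LP (LK LD1_c3 LD2_c36 LD3_c26)) :=
  Lgr Lrot92 (Lpr_ct (f478267 IH) (Lpr_gt (f84915 IH) (Lpe (f84798 IH) (Lpr_bt (f84796 IH) (Lpr_gt (f11270 IH) (Lpe (f456963 IH) (Lpr_gt (f456962 IH) (Lpe (f456960 IH) (Lpr_bt (f10134 IH) (Lpr_gt (K3.f10209 IH) (Lpn (LP (LK LD1_c3 LD2_c36 LD3_c26)))))))))))))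
theorem f478276 : Led Lsl_bt (LP (LK LD1_c6 LD2_c55 LD3_c19)) = (LP (LK LD1_c3 LD2_c36 LD3_c26)) :=
  Leop (Lpe (f478275 IH) (Lpn (LP (LK LD1_c6 LD2_c55 LD3_c19))))
theorem seed_69 : LEOK LG_b (LK LD1_c6 LD2_c55 LD3_c19) :=
  Leoe_b (LK LD1_c6 LD2_c55 LD3_c19) (f478276 IH)
theorem f442093 : Led Lsl_bt (LP (LK LD1_c1 LD2_c46 LD3_c24)) = (LP (LK LD1_c3 LD2_c38 LD3_c52)) :=
  Lre_b IH (LK LD1_c1 LD2_c46 LD3_c24) (LK LD1_c3 LD2_c38 LD3_c52) Lrfl Lrfl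
theorem f478281 : Led Lsl_df (LP (LK LD1_c6 LD2_c55 LD3_c19)) = (LP (LK LD1_c3 LD2_c38 LD3_c52)) :=
  Lgr Lrot12 (Lpr_bt (f478275 IH) (Lpe (K28.f97300 IH) (Lpr_bt (f442093 IH) (Lpn (LP (LK LD1_c3 LD2_c38 LD3_c52))))))
theorem f91705 : Led Lsl_gt (LP (LK LD1_c6 LD2_c55 LD3_c19)) = (LP (LK LD1_c3 LD2_c26 LD3_c45)) :=
  Lre_g IH (LK LD1_c6 LD2_c55 LD3_c19) (LK LD1_c3 LD2_c26 LD3_c45) Lrfl Lrfl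
theorem f91716 : Led Lsl_dt (LP (LK LD1_c1 LD2_c40 LD3_c1)) = (LP (LK LD1_c3 LD2_c26 LD3_c45)) :=
  Lre_d IH (LK LD1_c1 LD2_c40 LD3_c1) (LK LD1_c3 LD2_c26 LD3_c45) Lrfl Lrfl
theorem f91700 : Led Lsl_et (LP (LK LD1_c1 LD2_c40 LD3_c1)) = (LP (LK LD1_c0 LD2_c46 LD3_c32)) :=
  Lre_e IH (LK LD1_c1 LD2_c40 LD3_c1) (LK LD1_c0 LD2_c46 LD3_c32) Lrfl Lrfl
theorem f65534 : Led Lsl_et (LP (LK LD1_c1 LD2_c34 LD3_c23)) = (LP (LK LD1_c3 LD2_c15 LD3_c21)) :=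
  Lre_e IH (LK LD1_c1 LD2_c34 LD3_c23) (LK LD1_c3 LD2_c15 LD3_c21) Lrfl Lrfl
theorem f478288 : Led Lsl_et (LP (LK LD1_c3 LD2_c38 LD3_c52)) = (LP (LK LD1_c1 LD2_c46 LD3_c21)) :=
  Lre_e IH (LK LD1_c3 LD2_c38 LD3_c52) (LK LD1_c1 LD2_c46 LD3_c21) Lrfl Lrfl
theorem f478289 : Led Lsl_gt (LP (LK LD1_c3 LD2_c15 LD3_c21)) = (LP (LK LD1_c1 LD2_c46 LD3_c21)) :=
  Lgr Lrot131 (Lpe (f65534 IH) (Lpr_dt (K5.f65532 IH) (Lpe (K4.f121231 IH) (Lpe (K4.f109453 IH) (Lpr_gf (K5.f128047 IH) (Lpe (f91700 IH) (Lpr_dt (f91716 IH) (Lpe (f91705 IH) (Lpr_df (f478281 IH) (Lpr_et (f478288 IH) (Lpn (LP (LK LD1_c1 LD2_c46 LD3_c21)))))))))))))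
theorem f65512 : Led Lsl_ct (LP (LK LD1_c1 LD2_c34 LD3_c26)) = (LP (LK LD1_c3 LD2_c15 LD3_c24)) :=
  Lre_c IH (LK LD1_c1 LD2_c34 LD3_c26) (LK LD1_c3 LD2_c15 LD3_c24) Lrfl Lrfl
theorem f5284 : Led Lsl_ct (LP (LK LD1_c1 LD2_c46 LD3_c21)) = (LP (LK LD1_c3 LD2_c38 LD3_c50)) :=
  Lre_c IH (LK LD1_c1 LD2_c46 LD3_c21) (LK LD1_c3 LD2_c38 LD3_c50) Lrfl Lrfl
theorem f4507 : Led Lsl_ct (LP (LK LD1_c0 LD2_c50 LD3_c39)) = (LP (LK LD1_c1 LD2_c47 LD3_c45)) :=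
  Lre_c IH (LK LD1_c0 LD2_c50 LD3_c39) (LK LD1_c1 LD2_c47 LD3_c45) Lrfl Lrfl
theorem f4422 : Led Lsl_bt (LP (LK LD1_c1 LD2_c46 LD3_c21)) = (LP (LK LD1_c0 LD2_c49 LD3_c55)) :=
  Lre_b IH (LK LD1_c1 LD2_c46 LD3_c21) (LK LD1_c0 LD2_c49 LD3_c55) Lrfl Lrfl
theorem f456429 : Led Lsl_gf (LP (LK LD1_c1 LD2_c47 LD3_c45)) = (LP (LK LD1_c3 LD2_c38 LD3_c50)) :=
  Lgr Lrot126 (Lpe (f4507 IH) (Lpr_bt (K11.f4499 IH) (Lpr_gt (K24.f436821 IH) (Lpq (K24.f456262 IH) (Lpe (K24.f450984 IH) (Lpr_gt (K24.f4034 IH) (Lpe (K2.f5318 IH) (Lpr_bt (K2.f4026 IH) (Lpr_gt (K3.f4445 IH) (Lpe (f4422 IH) (Lpr_ct (f5284 IH) (Lpn (LP (LK LD1_c3 LD2_c38 LD3_c50))))))))))))))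
theorem f4494 : Led Lsl_bt (LP (LK LD1_c0 LD2_c50 LD3_c43)) = (LP (LK LD1_c0 LD2_c22 LD3_c54)) :=
  Lre_b IH (LK LD1_c0 LD2_c50 LD3_c43) (LK LD1_c0 LD2_c22 LD3_c54) Lrfl Lrfl
theorem f12854 : Led Lsl_ct (LP (LK LD1_c0 LD2_c50 LD3_c43)) = (LP (LK LD1_c1 LD2_c47 LD3_c57)) :=
  Lre_c IH (LK LD1_c0 LD2_c50 LD3_c43) (LK LD1_c1 LD2_c47 LD3_c57) Lrfl Lrfl
theorem f478295 : Led Lsl_gf (LP (LK LD1_c3 LD2_c15 LD3_c24)) = (LP (LK LD1_c1 LD2_c47 LD3_c57)) :=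
  Lgr Lrot126 (Lpe (f65512 IH) (Lpr_bt (K4.f65506 IH) (Lpr_gt (f478289 IH) (Lpr_ct (f5284 IH) (Lpe (f456429 IH) (Lpe (f4507 IH) (Lpr_bt (K11.f4499 IH) (Lpr_gt (K24.f436821 IH) (Lpe (f4494 IH) (Lpr_ct (f12854 IH) (Lpn (LP (LK LD1_c1 LD2_c47 LD3_c57)))))))))))))
theorem f115771 : Led Lsl_af (LP (LK LD1_c3 LD2_c15 LD3_c24)) = (LP (LK LD1_c1 LD2_c41 LD3_c42)) :=
  Lgr Lrot0 (Lpr_at (K4.f115767 IH) (Lpn (LP (LK LD1_c1 LD2_c41 LD3_c42))))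
theorem f115982 : Led Lsl_ft (LP (LK LD1_c3 LD2_c30 LD3_c2)) = (LP (LK LD1_c1 LD2_c41 LD3_c42)) :=
  Lre_f IH (LK LD1_c3 LD2_c30 LD3_c2) (LK LD1_c1 LD2_c41 LD3_c42) Lrfl Lrfl
theorem f478298 : Led Lsl_gt (LP (LK LD1_c3 LD2_c30 LD3_c2)) = (LP (LK LD1_c1 LD2_c47 LD3_c57)) :=
  Lgr Lrot5 (Lpr_ft (f115982 IH) (Lpe (f115771 IH) (Lpr_gf (f478295 IH) (Lpn (LP (LK LD1_c1 LD2_c47 LD3_c57))))))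
def v293 : LQ := Led Lsl_ct K24.v94
theorem f451561 : Led Lsl_ct K24.v94 = v293 :=
  Lrfl
theorem f451562 : Led Lsl_cf K24.v94 = v293 :=
  Lgr Lrot11 (Lpr_ct (f451561 IH) (Lpn v293))
theorem f451492 : Led Lsl_cf K24.v87 = K24.v275 :=
  Lgr Lrot11 (Lpr_ct (K24.f451491 IH) (Lpn K24.v275))
theorem f455963 : K24.v87 = v293 :=
  Lefun (Lecon (Lfl_cf (f451492 IH)) (K24.f455962 IH)) (f451561 IH)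
def v274 : LQ := Led Lsl_bt K24.v87
theorem f451489 : Led Lsl_bt K24.v87 = v274 :=
  Lrfl
theorem f478475 : Led Lsl_gf (LP (LK LD1_c1 LD2_c39 LD3_c32)) = v274 :=
  Lgr Lrot124 (Lpe (K4.f94316 IH) (Lpr_ct (K4.f115937 IH) (Lpr_gt (f478298 IH) (Lpe (f12854 IH) (Lpr_bt (f4494 IH) (Lpr_gt (K24.f4491 IH) (Lpe (K4.f12758 IH) (Lpr_gt (K24.f447675 IH) (Lpr_cf (f451562 IH) (Lpq (f455963 IH) (Lpr_bt (f451489 IH) (Lpn v274))))))))))))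
theorem f4883 : Led Lsl_gt (LP (LK LD1_c0 LD2_c50 LD3_c38)) = (LP (LK LD1_c0 LD2_c22 LD3_c52)) :=
  Lre_g IH (LK LD1_c0 LD2_c50 LD3_c38) (LK LD1_c0 LD2_c22 LD3_c52) Lrfl Lrfl
theorem f4890 : Led Lsl_bt (LP (LK LD1_c1 LD2_c47 LD3_c50)) = (LP (LK LD1_c0 LD2_c50 LD3_c38)) :=
  Lre_b IH (LK LD1_c1 LD2_c47 LD3_c50) (LK LD1_c0 LD2_c50 LD3_c38) Lrfl Lrfl
theorem f12855 : Led Lsl_ct (LP (LK LD1_c1 LD2_c47 LD3_c50)) = (LP (LK LD1_c3 LD2_c41 LD3_c53)) :=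
  Lre_c IH (LK LD1_c1 LD2_c47 LD3_c50) (LK LD1_c3 LD2_c41 LD3_c53) Lrfl Lrfl
theorem f478477 : Led Lsl_gt (LP (LK LD1_c3 LD2_c25 LD3_c50)) = (LP (LK LD1_c3 LD2_c41 LD3_c53)) :=
  Lgr Lrot149 (Lpe (K4.f94319 IH) (Lpr_gf (f478475 IH) (Lpe (f451489 IH) (Lpr_ct (K24.f451491 IH) (Lpqs (K24.f455962 IH) (Lpe (K24.f447675 IH) (Lpr_cf (K4.f12758 IH) (Lpr_bt (K4.f4483 IH) (Lpe (f4883 IH) (Lpe (f4890 IH) (Lpr_ct (f12855 IH) (Lpn (LP (LK LD1_c3 LD2_c41 LD3_c53))))))))))))))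
theorem f478478 : Led Lsl_gt (LP (LK LD1_c3 LD2_c25 LD3_c50)) = (LP (LK LD1_c3 LD2_c41 LD3_c53)) :=
  Leop (Lpe (f478477 IH) (Lpn (LP (LK LD1_c3 LD2_c25 LD3_c50))))
theorem seed_70 : LEOK LG_g (LK LD1_c3 LD2_c25 LD3_c50) :=
  Leoe_g (LK LD1_c3 LD2_c25 LD3_c50) (f478478 IH)
def v739 : LQ := Led Lsl_ft (LP (LK LD1_c0 LD2_c49 LD3_c58))
theorem f457006 : Led Lsl_ft (LP (LK LD1_c0 LD2_c49 LD3_c58)) = v739 :=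
  Lrfl
theorem f457008 : Led Lsl_ff (LP (LK LD1_c0 LD2_c49 LD3_c58)) = v739 :=
  Lgr Lrot3 (Lpr_ft (f457006 IH) (Lpn v739))
theorem f457009 : Led Lsl_bt K24.v179 = v739 :=
  Lgr Lrot35 (Lpe (K24.f450939 IH) (Lpe (K28.f4035 IH) (Lpr_ff (f457008 IH) (Lpn v739))))
theorem f450935 : Led Lsl_ff K24.v87 = K24.v177 :=
  Lgr Lrot3 (Lpr_ft (K24.f450934 IH) (Lpn K24.v177))
def v740 : LQ := Led Lsl_at (LP (LK LD1_c0 LD2_c49 LD3_c59))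
theorem f457013 : Led Lsl_at (LP (LK LD1_c0 LD2_c49 LD3_c59)) = v740 :=
  Lrfl
theorem f457016 : Led Lsl_ef K24.v177 = v740 :=
  Lgr Lrot20 (Lpe (K24.f450931 IH) (Lpr_et (K24.f450780 IH) (Lpr_at (f457013 IH) (Lpn v740))))
def v675 : LQ := Led Lsl_at (LP (LK LD1_c0 LD2_c48 LD3_c40))
theorem f455925 : Led Lsl_at (LP (LK LD1_c0 LD2_c48 LD3_c40)) = v675 :=
  Lrfl
def v678 : LQ := Led Lsl_ft (LP (LK LD1_c0 LD2_c48 LD3_c40))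
theorem f456730 : Led Lsl_ft (LP (LK LD1_c0 LD2_c48 LD3_c40)) = v678 :=
  Lrfl
theorem f456733 : Led Lsl_ff (LP (LK LD1_c0 LD2_c48 LD3_c40)) = v678 :=
  Lgr Lrot3 (Lpr_ft (f456730 IH) (Lpn v678))
theorem f455927 : Led Lsl_df K24.v151 = v675 :=
  Lgr Lrot18 (Lpe (K24.f450767 IH) (Lpr_dt (K24.f5923 IH) (Lpr_at (f455925 IH) (Lpn v675))))
theorem f5930 : Led Lsl_dt (LP (LK LD1_c0 LD2_c21 LD3_c47)) = (LP (LK LD1_c0 LD2_c48 LD3_c42)) :=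
  Lre_d IH (LK LD1_c0 LD2_c21 LD3_c47) (LK LD1_c0 LD2_c48 LD3_c42) Lrfl Lrfl
theorem f455929 : Led Lsl_ft (LP (LK LD1_c0 LD2_c48 LD3_c42)) = v675 :=
  Lgr Lrot54 (Lpe (f5930 IH) (Lpr_ff (K24.f450770 IH) (Lpr_df (f455927 IH) (Lpn v675))))
theorem f456735 : Led Lsl_dt K24.v154 = v678 :=
  Lgr Lrot60 (Lpe (K24.f450782 IH) (Lpe (K24.f10162 IH) (Lpr_ff (f456733 IH) (Lpn v678))))
theorem f456043 : Led Lsl_ct K24.v221 = K24.v154 :=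
  Lgr Lrot59 (Lpr_cf (K24.f456042 IH) (Lpn K24.v154))
def v857 : LQ := Led Lsl_at (LP (LK LD1_c0 LD2_c52 LD3_c42))
theorem f459804 : Led Lsl_at (LP (LK LD1_c0 LD2_c52 LD3_c42)) = v857 :=
  Lrfl
theorem f459805 : Led Lsl_af (LP (LK LD1_c0 LD2_c52 LD3_c42)) = v857 :=
  Lgr Lrot0 (Lpr_at (f459804 IH) (Lpn v857))
def v848 : LQ := Led Lsl_ft (LP (LK LD1_c0 LD2_c52 LD3_c16))
theorem f459708 : Led Lsl_ft (LP (LK LD1_c0 LD2_c52 LD3_c16)) = v848 :=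
  Lrfl
theorem f459711 : Led Lsl_ff (LP (LK LD1_c0 LD2_c52 LD3_c16)) = v848 :=
  Lgr Lrot3 (Lpr_ft (f459708 IH) (Lpn v848))
theorem f459717 : Led Lsl_gf (LP (LK LD1_c0 LD2_c52 LD3_c42)) = v848 :=
  Lgr Lrot47 (Lpr_gt (f86925 IH) (Lpe (K2.f89193 IH) (Lpr_ff (f459711 IH) (Lpn v848))))
theorem f88465 : Led Lsl_ft (LP (LK LD1_c0 LD2_c23 LD3_c48)) = (LP (LK LD1_c0 LD2_c52 LD3_c44)) :=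
  Lre_f IH (LK LD1_c0 LD2_c23 LD3_c48) (LK LD1_c0 LD2_c52 LD3_c44) Lrfl Lrfl
theorem f459715 : Led Lsl_at (LP (LK LD1_c0 LD2_c52 LD3_c44)) = v848 :=
  Lgr Lrot66 (Lpe (f88465 IH) (Lpe (K2.f89193 IH) (Lpr_ff (f459711 IH) (Lpn v848))))
def v209 : LQ := Led Lsl_gt (LP (LK LD1_c0 LD2_c23 LD3_c48))
theorem f451097 : Led Lsl_gt (LP (LK LD1_c0 LD2_c23 LD3_c48)) = v209 :=
  Lrfl
theorem f459720 : Led Lsl_gt v209 = v848 :=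
  Lgr Lrot46 (Lpe (f451097 IH) (Lpr_ft (f88465 IH) (Lpr_at (f459715 IH) (Lpn v848))))
theorem f459806 : Led Lsl_ft v209 = v857 :=
  Lgr Lrot2 (Lpr_gt (f459720 IH) (Lpe (f459717 IH) (Lpr_af (f459805 IH) (Lpn v857))))
theorem f459807 : Led Lsl_ff v209 = v857 :=
  Lgr Lrot3 (Lpr_ft (f459806 IH) (Lpn v857))
theorem f96905 : Led Lsl_at (LP (LK LD1_c3 LD2_c49 LD3_c8)) = (LP (LK LD1_c7 LD2_c39 LD3_c13)) :=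
  Lre_a IH (LK LD1_c3 LD2_c49 LD3_c8) (LK LD1_c7 LD2_c39 LD3_c13) Lrfl Lrfl
theorem f96906 : Led Lsl_bt (LP (LK LD1_c1 LD2_c51 LD3_c36)) = (LP (LK LD1_c3 LD2_c49 LD3_c8)) :=
  Lre_b IH (LK LD1_c1 LD2_c51 LD3_c36) (LK LD1_c3 LD2_c49 LD3_c8) Lrfl Lrfl
theorem f97965 : Led Lsl_at (LP (LK LD1_c3 LD2_c36 LD3_c34)) = (LP (LK LD1_c1 LD2_c51 LD3_c36)) :=
  Lgr Lrot67 (Lpe (f97106 IH) (Lpr_af (K28.f97934 IH) (Lpe (f96885 IH) (Lpe (f96905 IH) (Lpe (f96906 IH) (Lpn (LP (LK LD1_c1 LD2_c51 LD3_c36))))))))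
theorem f478242 : Led Lsl_gf (LP (LK LD1_c1 LD2_c51 LD3_c36)) = (LP (LK LD1_c3 LD2_c36 LD3_c25)) :=
  Lgr Lrot76 (Lpe (f97965 IH) (Lpe (K28.f467962 IH) (Lpr_gt (f478240 IH) (Lpn (LP (LK LD1_c3 LD2_c36 LD3_c25))))))
theorem f440583 : Led Lsl_bt (LP (LK LD1_c0 LD2_c52 LD3_c38)) = (LP (LK LD1_c0 LD2_c23 LD3_c48)) :=
  Lre_b IH (LK LD1_c0 LD2_c52 LD3_c38) (LK LD1_c0 LD2_c23 LD3_c48) Lrfl Lrfl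
def v310 : LQ := Led Lsl_bt K24.v101
theorem f452108 : Led Lsl_bt K24.v101 = v310 :=
  Lrfl
theorem f478680 : v209 = v310 :=
  (Llr Lrot164 (Lpe (f451097 IH) (Lpe (f440583 IH) (Lpr_ct (f97994 IH) (Lpr_gf (f478242 IH) (Lpe (f5958 IH) (Lpe (f5957 IH) (Lpe (K0.f5956 IH) (Lpr_ct (K0.f5919 IH) (Lpe (K24.f10160 IH) (Lpr_cf (f450774 IH) (Lpq (f456041 IH) (Lpr_bt (f452108 IH) (Lpn v310)))))))))))))).symm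
theorem f452109 : Led Lsl_bf K24.v101 = v310 :=
  Lgr Lrot24 (Lpr_bt (f452108 IH) (Lpn v310))
theorem f478681 : Led Lsl_bf v857 = K24.v221 :=
  Lgr Lrot61 (Lpe (f459807 IH) (Lpqs (f478680 IH) (Lpe (f452109 IH) (Lpr_ft (K24.f451183 IH) (Lpn K24.v221)))))
theorem f478682 : Led Lsl_bt v857 = K24.v221 :=
  Lgr Lrot127 (Lpr_bf (f478681 IH) (Lpn K24.v221))
def v858 : LQ := Led Lsl_bt (LP (LK LD1_c0 LD2_c52 LD3_c42))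
theorem f459808 : Led Lsl_bt (LP (LK LD1_c0 LD2_c52 LD3_c42)) = v858 :=
  Lrfl
theorem f443509 : Led Lsl_ct (LP (LK LD1_c1 LD2_c51 LD3_c52)) = (LP (LK LD1_c3 LD2_c49 LD3_c46)) :=
  Lre_c IH (LK LD1_c1 LD2_c51 LD3_c52) (LK LD1_c3 LD2_c49 LD3_c46) Lrfl Lrfl
theorem f463924 : Led Lsl_dt (LP (LK LD1_c6 LD2_c57 LD3_c17)) = (LP (LK LD1_c7 LD2_c0 LD3_c2)) :=
  Lgr Lrot42 (Lpr_df (f463835 IH) (Lpn (LP (LK LD1_c7 LD2_c0 LD3_c2))))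
theorem f477493 : Led Lsl_gt (LP (LK LD1_c3 LD2_c49 LD3_c46)) = (LP (LK LD1_c6 LD2_c57 LD3_c17)) :=
  Lgr Lrot94 (Lpe (f443509 IH) (Lpr_gt (f477490 IH) (Lpr_dt (f85282 IH) (Lpr_gt (K24.f129671 IH) (Lpr_dt (K24.f129674 IH) (Lpe (K28.f446518 IH) (Lpe (f63671 IH) (Lpe (f63660 IH) (Lpe (f463924 IH) (Lpn (LP (LK LD1_c6 LD2_c57 LD3_c17))))))))))))
theorem f457889 : Led Lsl_bt (LP (LK LD1_c3 LD2_c27 LD3_c33)) = (LP (LK LD1_c1 LD2_c40 LD3_c24)) :=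
  Lre_b IH (LK LD1_c3 LD2_c27 LD3_c33) (LK LD1_c1 LD2_c40 LD3_c24) Lrfl Lrfl
theorem f455085 : Led Lsl_gt (LP (LK LD1_c1 LD2_c40 LD3_c24)) = (LP (LK LD1_c3 LD2_c27 LD3_c39)) :=
  Lre_g IH (LK LD1_c1 LD2_c40 LD3_c24) (LK LD1_c3 LD2_c27 LD3_c39) Lrfl Lrfl
theorem f457881 : Led Lsl_ct (LP (LK LD1_c3 LD2_c27 LD3_c39)) = (LP (LK LD1_c6 LD2_c57 LD3_c31)) :=
  Lre_c IH (LK LD1_c3 LD2_c27 LD3_c39) (LK LD1_c6 LD2_c57 LD3_c31) Lrfl Lrfl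
theorem f63003 : Led Lsl_ct (LP (LK LD1_c3 LD2_c52 LD3_c38)) = (LP (LK LD1_c1 LD2_c52 LD3_c59)) :=
  Lre_c IH (LK LD1_c3 LD2_c52 LD3_c38) (LK LD1_c1 LD2_c52 LD3_c59) Lrfl Lrfl
theorem f457882 : Led Lsl_gt (LP (LK LD1_c6 LD2_c57 LD3_c31)) = (LP (LK LD1_c3 LD2_c52 LD3_c38)) :=
  Lgr Lrot150 (Lpe (f457881 IH) (Lpe (f455085 IH) (Lpe (K28.f91989 IH) (Lpr_gt (K2.f16719 IH) (Lpr_ct (K28.f15284 IH) (Lpr_gt (K28.f15323 IH) (Lpr_ct (f457796 IH) (Lpr_df (f62997 IH) (Lpe (f63003 IH) (Lpn (LP (LK LD1_c3 LD2_c52 LD3_c38))))))))))))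
theorem f477236 : Led Lsl_gf (LP (LK LD1_c1 LD2_c51 LD3_c52)) = (LP (LK LD1_c0 LD2_c53 LD3_c8)) :=
  Lgr Lrot143 (Lpr_dt (f443499 IH) (Lpe (f443506 IH) (Lpr_df (f477219 IH) (Lpr_gf (f468694 IH) (Lpe (f63016 IH) (Lpe (K28.f11213 IH) (Lpe (K24.f11212 IH) (Lpr_gt (K1.f14947 IH) (Lpr_dt (K24.f62783 IH) (Lpn (LP (LK LD1_c0 LD2_c53 LD3_c8))))))))))))
theorem f477699 : Led Lsl_bt (LP (LK LD1_c1 LD2_c51 LD3_c52)) = (LP (LK LD1_c1 LD2_c51 LD3_c52)) :=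
  Lgr Lrot92 (Lpr_ct (f443509 IH) (Lpr_gt (f477493 IH) (Lpe (f457890 IH) (Lpr_bt (f457889 IH) (Lpr_gt (f455085 IH) (Lpr_ct (f457881 IH) (Lpr_gt (f457882 IH) (Lpe (f63049 IH) (Lpr_bt (f62774 IH) (Lpe (f477236 IH) (Lpn (LP (LK LD1_c1 LD2_c51 LD3_c52)))))))))))))
theorem f443505 : Led Lsl_et (LP (LK LD1_c0 LD2_c52 LD3_c42)) = (LP (LK LD1_c1 LD2_c51 LD3_c52)) :=
  Lre_e IH (LK LD1_c0 LD2_c52 LD3_c42) (LK LD1_c1 LD2_c51 LD3_c52) Lrfl Lrfl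
theorem f459809 : Led Lsl_bf (LP (LK LD1_c0 LD2_c52 LD3_c42)) = v858 :=
  Lgr Lrot24 (Lpr_bt (f459808 IH) (Lpn v858))
theorem f477705 : v858 = (LP (LK LD1_c0 LD2_c52 LD3_c42)) :=
  (Llr Lrot96 (Lpe (f459809 IH) (Lpr_et (f443505 IH) (Lpr_bt (f477699 IH) (Lpr_et (f443497 IH) (Lpn (LP (LK LD1_c0 LD2_c52 LD3_c42)))))))).symm
theorem f478683 : v857 = (LP (LK LD1_c0 LD2_c53 LD3_c46)) :=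
  (Llr Lrot67 (Lpe (f459804 IH) (Lpq (f477705 IH) (Lpe (f459808 IH) (Lpr_af (f459805 IH) (Lpr_bf (f478681 IH) (Lpe (K24.f451180 IH) (Lpe (f437665 IH) (Lpn (LP (LK LD1_c0 LD2_c53 LD3_c46))))))))))).symm
theorem f478686 : K24.v221 = (LP (LK LD1_c0 LD2_c24 LD3_c9)) :=
  Lefun (Lecon (f478682 IH) (f478683 IH)) (f437665 IH)
theorem f478688 : K24.v154 = K24.v222 :=
  Lefun (Lecon (f456043 IH) (f478686 IH)) (K24.f451185 IH)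
theorem f478692 : v678 = (LP (LK LD1_c0 LD2_c48 LD3_c42)) :=
  Lefun (Lecon (f456735 IH) ((f478688 IH).trans (K24.f456044 IH))) (f5930 IH)
theorem f478703 : (LP (LK LD1_c0 LD2_c48 LD3_c40)) = v675 :=
  Lefun (Lecon (Lfl_ff (f456733 IH)) (f478692 IH)) (f455929 IH)
theorem f478881 : Led Lsl_af K24.v677 = K24.v677 :=
  Lgr Lrot50 (Lpe (K24.f455942 IH) (Lpr_at (f455925 IH) (Lpq (f478703 IH) (Lpr_et (K24.f455940 IH) (Lpn K24.v677)))))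
theorem f478882 : v740 = (LP (LK LD1_c0 LD2_c49 LD3_c59)) :=
  (Llr Lrot51 (Lpe (f457013 IH) (Lpr_df (K24.f455941 IH) (Lpr_af (f478881 IH) (Lpe (K24.f455944 IH) (Lpn (LP (LK LD1_c0 LD2_c49 LD3_c59)))))))).symm
theorem f478884 : K24.v177 = (LP (LK LD1_c0 LD2_c22 LD3_c27)) :=
  Lefun (Lecon (Lfl_ef (f457016 IH)) (f478882 IH)) (K24.f4038 IH)
theorem f478887 : K24.v87 = K24.v179 :=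
  Lefun (Lecon (Lfl_ff (f450935 IH)) (f478884 IH)) (K24.f450939 IH)
theorem f478889 : v739 = v274 :=
  Lefun (Lecon (f457009 IH) (f478887 IH).symm) (f451489 IH)
theorem f450933 : Led Lsl_at (LP (LK LD1_c0 LD2_c49 LD3_c58)) = (LP (LK LD1_c1 LD2_c46 LD3_c30)) :=
  Lre_a IH (LK LD1_c0 LD2_c49 LD3_c58) (LK LD1_c1 LD2_c46 LD3_c30) Lrfl Lrfl
theorem f478890 : Led Lsl_gf (LP (LK LD1_c1 LD2_c46 LD3_c30)) = (LP (LK LD1_c1 LD2_c39 LD3_c32)) :=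
  Lgr Lrot76 (Lpe (f450933 IH) (Lpr_ff (f457008 IH) (Lpqs (f478889 IH) (Lpe (f478475 IH) (Lpn (LP (LK LD1_c1 LD2_c39 LD3_c32)))))))
theorem f478891 : Led Lsl_gt (LP (LK LD1_c1 LD2_c39 LD3_c32)) = (LP (LK LD1_c1 LD2_c46 LD3_c30)) :=
  Leop (Lpr_gf (f478890 IH) (Lpn (LP (LK LD1_c1 LD2_c39 LD3_c32))))
theorem seed_71 : LEOK LG_g (LK LD1_c1 LD2_c39 LD3_c32) :=
  Leoe_g (LK LD1_c1 LD2_c39 LD3_c32) (f478891 IH)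
def v722 : LQ := Led Lsl_at (LP (LK LD1_c0 LD2_c49 LD3_c37))
theorem f456928 : Led Lsl_at (LP (LK LD1_c0 LD2_c49 LD3_c37)) = v722 :=
  Lrfl
def v296 : LQ := Led Lsl_ft K24.v94
theorem f451567 : Led Lsl_ft K24.v94 = v296 :=
  Lrfl
theorem f451569 : Led Lsl_ff K24.v94 = v296 :=
  Lgr Lrot3 (Lpr_ft (f451567 IH) (Lpn v296))
theorem f455964 : Led Lsl_cf K24.v177 = v296 :=
  Lgr Lrot108 (Lpe (f450935 IH) (Lpr_ct (K24.f451491 IH) (Lpqs (K24.f455962 IH) (Lpr_ft (f451567 IH) (Lpn v296)))))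
theorem f455965 : Led Lsl_ct K24.v177 = v296 :=
  Lgr Lrot59 (Lpr_cf (f455964 IH) (Lpn v296))
theorem f478886 : v296 = K24.v178 :=
  Lefun (Lecon (f455965 IH) (f478884 IH)) (K24.f450936 IH)
theorem f478888 : K24.v94 = K24.v291 :=
  Lefun (Lecon (Lfl_ff (f451569 IH)) ((f478886 IH).trans (K24.f455958 IH))) (K24.f451557 IH)
theorem f479068 : Led Lsl_af K24.v295 = K24.v295 :=
  Lgr Lrot50 (Lpe (K24.f451566 IH) (Lpr_at (K24.f451555 IH) (Lpq (f478888 IH) (Lpr_et (K24.f451565 IH) (Lpn K24.v295)))))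
theorem f457709 : Led Lsl_gt K24.v654 = K24.v295 :=
  Lgr Lrot137 (Lpr_ef (K24.f457677 IH) (Lpr_dt (K24.f457704 IH) (Lpe (K24.f446400 IH) (Lpe (K0.f11146 IH) (Lpr_et (K24.f11156 IH) (Lpr_gf (K0.f12701 IH) (Lpe (K6.f12186 IH) (Lpr_dt (K24.f448759 IH) (Lpr_gf (K24.f452099 IH) (Lpe (K24.f452101 IH) (Lpn K24.v295)))))))))))
theorem f479071 : Led Lsl_ft K24.v651 = K24.v295 :=
  Lgr Lrot2 (Lpr_gt (K24.f458771 IH) (Lpr_gt (f457709 IH) (Lpr_af (f479068 IH) (Lpn K24.v295))))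
theorem f479074 : Led Lsl_ff K24.v651 = K24.v295 :=
  Lgr Lrot3 (Lpr_ft (f479071 IH) (Lpn K24.v295))
theorem f455793 : Led Lsl_ef (LP (LK LD1_c1 LD2_c42 LD3_c22)) = K24.v651 :=
  Lgr Lrot167 (Lpr_gt (K24.f455719 IH) (Lpr_dt (K24.f12715 IH) (Lpr_gt (K24.f12714 IH) (Lpe (K24.f11192 IH) (Lpr_et (K0.f11230 IH) (Lpr_gt (K0.f11511 IH) (Lpe (K6.f12186 IH) (Lpr_dt (K24.f448759 IH) (Lpr_gt (K24.f452095 IH) (Lpr_df (K24.f455790 IH) (Lpn K24.v651)))))))))))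
theorem f479077 : Led Lsl_ft (LP (LK LD1_c1 LD2_c42 LD3_c22)) = K11.v300 :=
  Lgr Lrot86 (Lpr_ef (f455793 IH) (Lpr_ff (f479074 IH) (Lpe (K24.f451565 IH) (Lpr_ff (f451569 IH) (Lpqs (f478886 IH) (Lpqs (K24.f455958 IH) (Lpr_ef (K11.f451578 IH) (Lpn K11.v300))))))))
theorem f479080 : Led Lsl_af K24.v638 = K11.v300 :=
  Lgr Lrot31 (Lpe (K24.f455702 IH) (Lpe (K24.f455719 IH) (Lpr_ft (f479077 IH) (Lpn K11.v300))))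
theorem f479073 : Led Lsl_ff (LP (LK LD1_c1 LD2_c42 LD3_c22)) = K11.v300 :=
  Lgr Lrot72 (Lpr_et (K24.f455792 IH) (Lpr_ft (f479071 IH) (Lpe (K24.f451566 IH) (Lpr_ft (f451567 IH) (Lpqs (f478886 IH) (Lpqs (K24.f455958 IH) (Lpr_et (K11.f451577 IH) (Lpn K11.v300))))))))
theorem f479082 : Led Lsl_at (LP (LK LD1_c1 LD2_c42 LD3_c22)) = (LP (LK LD1_c1 LD2_c42 LD3_c22)) :=
  Lgr Lrot66 (Lpr_ff (f479073 IH) (Lpqs (K24.f455957 IH) (Lpr_af (f479080 IH) (Lpe (f479077 IH) (Lpn (LP (LK LD1_c1 LD2_c42 LD3_c22)))))))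
theorem f479084 : Led Lsl_af (LP (LK LD1_c0 LD2_c53 LD3_c47)) = (LP (LK LD1_c0 LD2_c53 LD3_c47)) :=
  Lgr Lrot117 (Lpr_dt (K24.f12128 IH) (Lpr_at (f479082 IH) (Lpe (K24.f12131 IH) (Lpn (LP (LK LD1_c0 LD2_c53 LD3_c47))))))
theorem f479079 : Led Lsl_ff (LP (LK LD1_c0 LD2_c53 LD3_c47)) = K11.v243 :=
  Lgr Lrot19 (Lpr_dt (K24.f12128 IH) (Lpr_ft (f479077 IH) (Lpe (K11.f451579 IH) (Lpn K11.v243))))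
theorem f479081 : Led Lsl_at K11.v243 = K11.v243 :=
  Lgr Lrot51 (Lpr_df (K11.f451579 IH) (Lpqs (K24.f455957 IH) (Lpr_af (f479080 IH) (Lpe (K24.f452065 IH) (Lpn K11.v243)))))
theorem f479086 : Led Lsl_ft (LP (LK LD1_c0 LD2_c53 LD3_c47)) = K11.v243 :=
  Lgr Lrot101 (Lpr_af (f479084 IH) (Lpr_ff (f479079 IH) (Lpe (f479081 IH) (Lpn K11.v243))))
def v687 : LQ := Led Lsl_ft (LP (LK LD1_c0 LD2_c48 LD3_c43))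
theorem f456771 : Led Lsl_ft (LP (LK LD1_c0 LD2_c48 LD3_c43)) = v687 :=
  Lrfl
theorem f456772 : Led Lsl_ff (LP (LK LD1_c0 LD2_c48 LD3_c43)) = v687 :=
  Lgr Lrot3 (Lpr_ft (f456771 IH) (Lpn v687))
theorem f479087 : Led Lsl_cf v687 = K11.v243 :=
  Lgr Lrot108 (Lpe (f456772 IH) (Lpe (K24.f456050 IH) (Lpr_ft (f479086 IH) (Lpn K11.v243))))
theorem f455483 : Led Lsl_cf (LP (LK LD1_c0 LD2_c46 LD3_c47)) = K24.v611 :=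
  Lgr Lrot11 (Lpr_ct (K24.f455482 IH) (Lpn K24.v611))
theorem f479089 : Led Lsl_gt v687 = K24.v611 :=
  Lgr Lrot150 (Lpr_cf (f479087 IH) (Lpe (K11.f451306 IH) (Lpe (K11.f11199 IH) (Lpe (K28.f11189 IH) (Lpr_ct (K0.f11177 IH) (Lpe (K28.f446525 IH) (Lpr_ct (K24.f451227 IH) (Lpq (K24.f457382 IH) (Lpe (K24.f446426 IH) (Lpr_cf (f455483 IH) (Lpn K24.v611)))))))))))
theorem f479091 : Led Lsl_ef v687 = K24.v276 :=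
  Lgr Lrot114 (Lpr_gt (f479089 IH) (Lpqs (K24.f457393 IH) (Lpe (K24.f451210 IH) (Lpr_dt (K24.f451216 IH) (Lpr_gt (K24.f455956 IH) (Lpe (K24.f455944 IH) (Lpr_et (K24.f4038 IH) (Lpr_gt (K24.f4033 IH) (Lpr_dt (K2.f4023 IH) (Lpr_gt (K24.f447638 IH) (Lpr_df (K24.f451494 IH) (Lpn K24.v276))))))))))))
theorem f479093 : Led Lsl_et v687 = K24.v276 :=
  Lgr Lrot87 (Lpr_ef (f479091 IH) (Lpn K24.v276))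
def v724 : LQ := Led Lsl_et (LP (LK LD1_c0 LD2_c49 LD3_c37))
theorem f456935 : Led Lsl_et (LP (LK LD1_c0 LD2_c49 LD3_c37)) = v724 :=
  Lrfl
theorem f479106 : Led Lsl_df v687 = v724 :=
  Lgr Lrot70 (Lpr_et (f479093 IH) (Lpe (K24.f451494 IH) (Lpr_et (K24.f451495 IH) (Lpe (K24.f451497 IH) (Lpr_et (f456935 IH) (Lpn v724))))))
theorem f10179 : Led Lsl_et (LP (LK LD1_c0 LD2_c48 LD3_c43)) = (LP (LK LD1_c0 LD2_c21 LD3_c47)) :=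
  Lre_e IH (LK LD1_c0 LD2_c48 LD3_c43) (LK LD1_c0 LD2_c21 LD3_c47) Lrfl Lrfl
theorem f478696 : (LP (LK LD1_c0 LD2_c21 LD3_c46)) = K24.v151 :=
  Lefun (Lecon (Lfl_ff (K24.f450784 IH)) ((f478688 IH).trans (K24.f456044 IH))) (K24.f450769 IH)
theorem f479094 : Led Lsl_ft K24.v153 = K24.v276 :=
  Lgr Lrot86 (Lpe (K24.f450775 IH) (Lpqs (f478696 IH) (Lpe (K24.f450769 IH) (Lpe (f10179 IH) (Lpr_ff (f456772 IH) (Lpr_ef (f479091 IH) (Lpn K24.v276)))))))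
theorem f479096 : Led Lsl_af K24.v276 = K24.v276 :=
  Lgr Lrot31 (Lpr_gf (K24.f455208 IH) (Lpe (K24.f455480 IH) (Lpr_ft (f479094 IH) (Lpn K24.v276))))
theorem f479097 : Led Lsl_at v687 = v687 :=
  Lgr Lrot80 (Lpr_ef (f479091 IH) (Lpr_af (f479096 IH) (Lpe (f479093 IH) (Lpn v687))))
theorem f456936 : Led Lsl_ef (LP (LK LD1_c0 LD2_c49 LD3_c37)) = v724 :=
  Lgr Lrot88 (Lpr_et (f456935 IH) (Lpn v724))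
theorem f479092 : Led Lsl_dt v687 = v724 :=
  Lgr Lrot77 (Lpr_ef (f479091 IH) (Lpe (K24.f451493 IH) (Lpr_ef (K24.f451496 IH) (Lpe (K24.f451499 IH) (Lpr_ef (f456936 IH) (Lpn v724))))))
theorem f479110 : Led Lsl_at v724 = v724 :=
  Lgr Lrot51 (Lpe (f479092 IH) (Lpe (f479097 IH) (Lpr_df (f479106 IH) (Lpn v724))))
theorem f456929 : Led Lsl_af (LP (LK LD1_c0 LD2_c49 LD3_c37)) = v722 :=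
  Lgr Lrot0 (Lpr_at (f456928 IH) (Lpn v722))
theorem f479114 : v722 = (LP (LK LD1_c0 LD2_c49 LD3_c37)) :=
  (Llr Lrot50 (Lpe (f456929 IH) (Lpr_et (f456935 IH) (Lpr_at (f479110 IH) (Lpe (f456936 IH) (Lpn (LP (LK LD1_c0 LD2_c49 LD3_c37)))))))).symm
theorem f479115 : Led Lsl_at (LP (LK LD1_c0 LD2_c49 LD3_c37)) = (LP (LK LD1_c0 LD2_c49 LD3_c37)) :=
  Leop (Lpq (f479114 IH) (Lpe (f456928 IH) (Lpn (LP (LK LD1_c0 LD2_c49 LD3_c37)))))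
theorem seed_72 : LEOK LG_a (LK LD1_c0 LD2_c49 LD3_c37) :=
  Leoe_a (LK LD1_c0 LD2_c49 LD3_c37) (f479115 IH)
theorem f476775 : Led Lsl_bt (LP (LK LD1_c3 LD2_c26 LD3_c46)) = (LP (LK LD1_c1 LD2_c40 LD3_c7)) :=
  Lre_b IH (LK LD1_c3 LD2_c26 LD3_c46) (LK LD1_c1 LD2_c40 LD3_c7) Lrfl Lrfl
def v155 : LQ := Led Lsl_ct (LP (LK LD1_c0 LD2_c21 LD3_c47))
theorem f450788 : Led Lsl_ct (LP (LK LD1_c0 LD2_c21 LD3_c47)) = v155 :=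
  Lrfl
theorem f450790 : Led Lsl_cf (LP (LK LD1_c0 LD2_c21 LD3_c47)) = v155 :=
  Lgr Lrot11 (Lpr_ct (f450788 IH) (Lpn v155))
theorem f451187 : Led Lsl_cf (LP (LK LD1_c0 LD2_c24 LD3_c9)) = K24.v222 :=
  Lgr Lrot11 (Lpr_ct (K24.f451185 IH) (Lpn K24.v222))
theorem f456045 : (LP (LK LD1_c0 LD2_c24 LD3_c9)) = v155 :=
  Lefun (Lecon (Lfl_cf (f451187 IH)) (K24.f456044 IH)) (f450788 IH)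
theorem f451182 : Led Lsl_bt (LP (LK LD1_c0 LD2_c24 LD3_c9)) = (LP (LK LD1_c0 LD2_c53 LD3_c46)) :=
  Lre_b IH (LK LD1_c0 LD2_c24 LD3_c9) (LK LD1_c0 LD2_c53 LD3_c46) Lrfl Lrfl
theorem f11981 : Led Lsl_bt (LP (LK LD1_c1 LD2_c50 LD3_c41)) = (LP (LK LD1_c0 LD2_c52 LD3_c16)) :=
  Lre_b IH (LK LD1_c1 LD2_c50 LD3_c41) (LK LD1_c0 LD2_c52 LD3_c16) Lrfl Lrfl
theorem f10177 : Led Lsl_gf (LP (LK LD1_c0 LD2_c21 LD3_c47)) = (LP (LK LD1_c0 LD2_c21 LD3_c49)) :=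
  Lgr Lrot47 (Lpr_gt (K24.f5928 IH) (Lpr_af (K0.f10158 IH) (Lpe (K0.f5918 IH) (Lpn (LP (LK LD1_c0 LD2_c21 LD3_c49))))))
theorem f479171 : Led Lsl_gt (LP (LK LD1_c1 LD2_c40 LD3_c13)) = (LP (LK LD1_c1 LD2_c45 LD3_c52)) :=
  Lgr Lrot65 (Lpe (K3.f11987 IH) (Lpr_bt (f11981 IH) (Lpr_gf (f459697 IH) (Lpqs (f477946 IH) (Lpe (f451182 IH) (Lpqs (f456045 IH) (Lpe (f450790 IH) (Lpr_gf (f10177 IH) (Lpe (K0.f5919 IH) (Lpr_gf (K24.f10146 IH) (Lpe (f10148 IH) (Lpr_ct (f10153 IH) (Lpn (LP (LK LD1_c1 LD2_c45 LD3_c52)))))))))))))))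
theorem f12012 : Led Lsl_ft (LP (LK LD1_c1 LD2_c40 LD3_c13)) = (LP (LK LD1_c3 LD2_c27 LD3_c15)) :=
  Lre_f IH (LK LD1_c1 LD2_c40 LD3_c13) (LK LD1_c3 LD2_c27 LD3_c15) Lrfl Lrfl
theorem f479175 : Led Lsl_at (LP (LK LD1_c3 LD2_c27 LD3_c15)) = (LP (LK LD1_c3 LD2_c37 LD3_c60)) :=
  Lgr Lrot26 (Lpe (f12012 IH) (Lpr_gt (f479171 IH) (Lpr_gt (f456722 IH) (Lpn (LP (LK LD1_c3 LD2_c37 LD3_c60))))))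
theorem f479208 : Led Lsl_ff (LP (LK LD1_c1 LD2_c52 LD3_c18)) = (LP (LK LD1_c3 LD2_c37 LD3_c60)) :=
  Lgr Lrot30 (Lpe (K3.f97841 IH) (Lpr_ft (f12012 IH) (Lpr_at (f479175 IH) (Lpn (LP (LK LD1_c3 LD2_c37 LD3_c60))))))
theorem f19067 : Led Lsl_et (LP (LK LD1_c0 LD2_c45 LD3_c48)) = (LP (LK LD1_c1 LD2_c38 LD3_c49)) :=
  Lre_e IH (LK LD1_c0 LD2_c45 LD3_c48) (LK LD1_c1 LD2_c38 LD3_c49) Lrfl Lrfl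
theorem f91524 : Led Lsl_et (LP (LK LD1_c6 LD2_c55 LD3_c44)) = (LP (LK LD1_c3 LD2_c26 LD3_c56)) :=
  Lre_e IH (LK LD1_c6 LD2_c55 LD3_c44) (LK LD1_c3 LD2_c26 LD3_c56) Lrfl Lrfl
theorem f91581 : Led Lsl_gf (LP (LK LD1_c1 LD2_c40 LD3_c13)) = (LP (LK LD1_c3 LD2_c26 LD3_c56)) :=
  Lgr Lrot141 (Lpe (K3.f11967 IH) (Lpr_dt (K2.f11965 IH) (Lpr_gt (K2.f90979 IH) (Lpe (K2.f18149 IH) (Lpr_et (f19067 IH) (Lpr_gt (K28.f18599 IH) (Lpr_dt (K28.f18600 IH) (Lpr_gt (K28.f90990 IH) (Lpr_df (K28.f91522 IH) (Lpr_et (f91524 IH) (Lpn (LP (LK LD1_c3 LD2_c26 LD3_c56)))))))))))))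
theorem f479217 : Led Lsl_gf (LP (LK LD1_c3 LD2_c26 LD3_c56)) = (LP (LK LD1_c3 LD2_c37 LD3_c60)) :=
  Lgr Lrot47 (Lpe (f91581 IH) (Lpr_af (K3.f97841 IH) (Lpr_ff (f479208 IH) (Lpn (LP (LK LD1_c3 LD2_c37 LD3_c60))))))
theorem f450910 : Led Lsl_ct (LP (LK LD1_c1 LD2_c45 LD3_c53)) = (LP (LK LD1_c0 LD2_c49 LD3_c35)) :=
  Lre_c IH (LK LD1_c1 LD2_c45 LD3_c53) (LK LD1_c0 LD2_c49 LD3_c35) Lrfl Lrfl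
theorem f457266 : Led Lsl_ff (LP (LK LD1_c1 LD2_c45 LD3_c53)) = (LP (LK LD1_c1 LD2_c45 LD3_c52)) :=
  Lgr Lrot23 (Lpr_ct (f450910 IH) (Lpq (f457229 IH) (Lpe (f456896 IH) (Lpr_ct (f10153 IH) (Lpn (LP (LK LD1_c1 LD2_c45 LD3_c52)))))))
theorem f479219 : Led Lsl_af (LP (LK LD1_c3 LD2_c26 LD3_c56)) = (LP (LK LD1_c1 LD2_c45 LD3_c53)) :=
  Lgr Lrot31 (Lpr_gf (f479217 IH) (Lpe (f456722 IH) (Lpe (f457266 IH) (Lpn (LP (LK LD1_c1 LD2_c45 LD3_c53))))))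
theorem f91559 : Led Lsl_et (LP (LK LD1_c3 LD2_c26 LD3_c56)) = (LP (LK LD1_c6 LD2_c55 LD3_c44)) :=
  Lre_e IH (LK LD1_c3 LD2_c26 LD3_c56) (LK LD1_c6 LD2_c55 LD3_c44) Lrfl Lrfl
theorem f457283 : Led Lsl_et (LP (LK LD1_c3 LD2_c38 LD3_c1)) = (LP (LK LD1_c1 LD2_c45 LD3_c53)) :=
  Lre_e IH (LK LD1_c3 LD2_c38 LD3_c1) (LK LD1_c1 LD2_c45 LD3_c53) Lrfl Lrfl
theorem f479228 : Led Lsl_at (LP (LK LD1_c6 LD2_c55 LD3_c44)) = (LP (LK LD1_c3 LD2_c38 LD3_c1)) :=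
  Lgr Lrot80 (Lpe (f91559 IH) (Lpr_af (f479219 IH) (Lpe (f457283 IH) (Lpn (LP (LK LD1_c3 LD2_c38 LD3_c1))))))
theorem f472833 : Led Lsl_dt (LP (LK LD1_c13 LD2_c11 LD3_c29)) = (LP (LK LD1_c13 LD2_c46 LD3_c12)) :=
  Lgr Lrot42 (Lpr_df (K28.f472826 IH) (Lpn (LP (LK LD1_c13 LD2_c46 LD3_c12))))
theorem f458194 : Led Lsl_ct (LP (LK LD1_c13 LD2_c46 LD3_c12)) = (LP (LK LD1_c7 LD2_c16 LD3_c33)) :=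
  Lre_c IH (LK LD1_c13 LD2_c46 LD3_c12) (LK LD1_c7 LD2_c16 LD3_c33) Lrfl Lrfl
theorem f19062 : Led Lsl_ct (LP (LK LD1_c13 LD2_c2 LD3_c57)) = (LP (LK LD1_c6 LD2_c57 LD3_c13)) :=
  Lre_c IH (LK LD1_c13 LD2_c2 LD3_c57) (LK LD1_c6 LD2_c57 LD3_c13) Lrfl Lrfl
theorem f472945 : Led Lsl_gf (LP (LK LD1_c3 LD2_c38 LD3_c1)) = (LP (LK LD1_c3 LD2_c52 LD3_c38)) :=
  Lgr Lrot143 (Lpr_dt (K28.f457372 IH) (Lpe (f458194 IH) (Lpe (f472833 IH) (Lpr_gf (K28.f472935 IH) (Lpr_df (K28.f472703 IH) (Lpe (K28.f19063 IH) (Lpe (f19062 IH) (Lpr_gt (K28.f19143 IH) (Lpe (f458002 IH) (Lpn (LP (LK LD1_c3 LD2_c52 LD3_c38))))))))))))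
theorem f479232 : Led Lsl_ff (LP (LK LD1_c6 LD2_c55 LD3_c44)) = (LP (LK LD1_c6 LD2_c57 LD3_c31)) :=
  Lgr Lrot52 (Lpr_at (f479228 IH) (Lpr_gf (f472945 IH) (Lpe (f457882 IH) (Lpn (LP (LK LD1_c6 LD2_c57 LD3_c31))))))
theorem f479240 : Led Lsl_ft (LP (LK LD1_c6 LD2_c55 LD3_c44)) = (LP (LK LD1_c6 LD2_c57 LD3_c31)) :=
  Lgr Lrot48 (Lpr_ff (f479232 IH) (Lpn (LP (LK LD1_c6 LD2_c57 LD3_c31))))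
theorem f457887 : Led Lsl_dt (LP (LK LD1_c6 LD2_c57 LD3_c31)) = (LP (LK LD1_c13 LD2_c12 LD3_c51)) :=
  Lre_d IH (LK LD1_c6 LD2_c57 LD3_c31) (LK LD1_c13 LD2_c12 LD3_c51) Lrfl Lrfl
theorem f479244 : Led Lsl_ff (LP (LK LD1_c13 LD2_c3 LD3_c29)) = (LP (LK LD1_c13 LD2_c12 LD3_c51)) :=
  Lgr Lrot19 (Lpr_dt (K28.f91513 IH) (Lpr_ft (f479240 IH) (Lpr_dt (f457887 IH) (Lpn (LP (LK LD1_c13 LD2_c12 LD3_c51))))))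
theorem f479252 : Led Lsl_at (LP (LK LD1_c13 LD2_c3 LD3_c29)) = (LP (LK LD1_c7 LD2_c16 LD3_c33)) :=
  Lgr Lrot33 (Lpr_ff (f479244 IH) (Lpr_dt (K28.f457886 IH) (Lpr_ct (K28.f457885 IH) (Lpr_dt (K28.f458007 IH) (Lpr_ct (K28.f463927 IH) (Lpr_dt (K28.f90898 IH) (Lpr_ct (K28.f469055 IH) (Lpr_dt (f472833 IH) (Lpr_ct (f458194 IH) (Lpn (LP (LK LD1_c7 LD2_c16 LD3_c33))))))))))))
theorem f91091 : Led Lsl_et (LP (LK LD1_c22 LD2_c13 LD3_c24)) = (LP (LK LD1_c13 LD2_c3 LD3_c29)) :=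
  Lre_e IH (LK LD1_c22 LD2_c13 LD3_c24) (LK LD1_c13 LD2_c3 LD3_c29) Lrfl Lrfl
theorem f467871 : Led Lsl_et (LP (LK LD1_c7 LD2_c16 LD3_c33)) = (LP (LK LD1_c13 LD2_c46 LD3_c10)) :=
  Lre_e IH (LK LD1_c7 LD2_c16 LD3_c33) (LK LD1_c13 LD2_c46 LD3_c10) Lrfl Lrfl
theorem f479254 : Led Lsl_af (LP (LK LD1_c22 LD2_c13 LD3_c24)) = (LP (LK LD1_c13 LD2_c46 LD3_c10)) :=
  Lgr Lrot50 (Lpr_et (f91091 IH) (Lpr_at (f479252 IH) (Lpr_et (f467871 IH) (Lpn (LP (LK LD1_c13 LD2_c46 LD3_c10))))))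
theorem f91541 : Led Lsl_ft (LP (LK LD1_c22 LD2_c13 LD3_c24)) = (LP (LK LD1_c30 LD2_c21 LD3_c42)) :=
  Lre_f IH (LK LD1_c22 LD2_c13 LD3_c24) (LK LD1_c30 LD2_c21 LD3_c42) Lrfl Lrfl
theorem f467873 : Led Lsl_ft (LP (LK LD1_c23 LD2_c13 LD3_c21)) = (LP (LK LD1_c13 LD2_c46 LD3_c10)) :=
  Lre_f IH (LK LD1_c23 LD2_c13 LD3_c21) (LK LD1_c13 LD2_c46 LD3_c10) Lrfl Lrfl
theorem f479260 : Led Lsl_at (LP (LK LD1_c30 LD2_c21 LD3_c42)) = (LP (LK LD1_c23 LD2_c13 LD3_c21)) :=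
  Lgr Lrot66 (Lpe (f91541 IH) (Lpr_af (f479254 IH) (Lpe (f467873 IH) (Lpn (LP (LK LD1_c23 LD2_c13 LD3_c21))))))
theorem f91525 : Led Lsl_dt (LP (LK LD1_c3 LD2_c26 LD3_c56)) = (LP (LK LD1_c6 LD2_c55 LD3_c43)) :=
  Lre_d IH (LK LD1_c3 LD2_c26 LD3_c56) (LK LD1_c6 LD2_c55 LD3_c43) Lrfl Lrfl
theorem f91526 : Led Lsl_et (LP (LK LD1_c6 LD2_c55 LD3_c43)) = (LP (LK LD1_c13 LD2_c9 LD3_c33)) :=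
  Lre_e IH (LK LD1_c6 LD2_c55 LD3_c43) (LK LD1_c13 LD2_c9 LD3_c33) Lrfl Lrfl
theorem f91527 : Led Lsl_df (LP (LK LD1_c22 LD2_c13 LD3_c24)) = (LP (LK LD1_c13 LD2_c9 LD3_c33)) :=
  Lgr Lrot70 (Lpr_et (f91091 IH) (Lpr_dt (K28.f91513 IH) (Lpr_et (f91524 IH) (Lpr_dt (f91525 IH) (Lpr_et (f91526 IH) (Lpn (LP (LK LD1_c13 LD2_c9 LD3_c33))))))))
theorem f91542 : Led Lsl_ft (LP (LK LD1_c22 LD2_c22 LD3_c11)) = (LP (LK LD1_c13 LD2_c9 LD3_c33)) :=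
  Lre_f IH (LK LD1_c22 LD2_c22 LD3_c11) (LK LD1_c13 LD2_c9 LD3_c33) Lrfl Lrfl
theorem f91543 : Led Lsl_dt (LP (LK LD1_c30 LD2_c21 LD3_c42)) = (LP (LK LD1_c22 LD2_c22 LD3_c11)) :=
  Lgr Lrot60 (Lpe (f91541 IH) (Lpr_df (f91527 IH) (Lpe (f91542 IH) (Lpn (LP (LK LD1_c22 LD2_c22 LD3_c11))))))
theorem f91551 : Led Lsl_df (LP (LK LD1_c30 LD2_c21 LD3_c42)) = (LP (LK LD1_c22 LD2_c22 LD3_c11)) :=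
  Lgr Lrot38 (Lpr_dt (f91543 IH) (Lpn (LP (LK LD1_c22 LD2_c22 LD3_c11))))
theorem f457290 : Led Lsl_dt (LP (LK LD1_c23 LD2_c13 LD3_c21)) = (LP (LK LD1_c13 LD2_c46 LD3_c11)) :=
  Lre_d IH (LK LD1_c23 LD2_c13 LD3_c21) (LK LD1_c13 LD2_c46 LD3_c11) Lrfl Lrfl
theorem f479264 : Led Lsl_af (LP (LK LD1_c22 LD2_c22 LD3_c11)) = (LP (LK LD1_c13 LD2_c46 LD3_c11)) :=
  Lgr Lrot117 (Lpe (f91551 IH) (Lpr_at (f479260 IH) (Lpr_dt (f457290 IH) (Lpn (LP (LK LD1_c13 LD2_c46 LD3_c11))))))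
theorem f457279 : Led Lsl_ft (LP (LK LD1_c1 LD2_c45 LD3_c53)) = (LP (LK LD1_c1 LD2_c45 LD3_c52)) :=
  Lgr Lrot48 (Lpr_ff (f457266 IH) (Lpn (LP (LK LD1_c1 LD2_c45 LD3_c52))))
theorem f456647 : Led Lsl_dt (LP (LK LD1_c3 LD2_c38 LD3_c0)) = (LP (LK LD1_c1 LD2_c45 LD3_c53)) :=
  Lre_d IH (LK LD1_c3 LD2_c38 LD3_c0) (LK LD1_c1 LD2_c45 LD3_c53) Lrfl Lrfl
theorem f456715 : Led Lsl_dt (LP (LK LD1_c1 LD2_c45 LD3_c52)) = (LP (LK LD1_c3 LD2_c37 LD3_c61)) :=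
  Lre_d IH (LK LD1_c1 LD2_c45 LD3_c52) (LK LD1_c3 LD2_c37 LD3_c61) Lrfl Lrfl
theorem f457281 : Led Lsl_ff (LP (LK LD1_c3 LD2_c38 LD3_c0)) = (LP (LK LD1_c3 LD2_c37 LD3_c61)) :=
  Lgr Lrot19 (Lpr_dt (f456647 IH) (Lpr_ft (f457279 IH) (Lpr_dt (f456715 IH) (Lpn (LP (LK LD1_c3 LD2_c37 LD3_c61))))))
theorem f457286 : Led Lsl_et (LP (LK LD1_c3 LD2_c38 LD3_c0)) = (LP (LK LD1_c7 LD2_c16 LD3_c32)) :=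
  Lre_e IH (LK LD1_c3 LD2_c38 LD3_c0) (LK LD1_c7 LD2_c16 LD3_c32) Lrfl Lrfl
theorem f457287 : Led Lsl_ft (LP (LK LD1_c7 LD2_c16 LD3_c32)) = (LP (LK LD1_c13 LD2_c46 LD3_c11)) :=
  Lre_f IH (LK LD1_c7 LD2_c16 LD3_c32) (LK LD1_c13 LD2_c46 LD3_c11) Lrfl Lrfl
theorem f456705 : Led Lsl_et (LP (LK LD1_c7 LD2_c16 LD3_c28)) = (LP (LK LD1_c3 LD2_c37 LD3_c61)) :=
  Lre_e IH (LK LD1_c7 LD2_c16 LD3_c28) (LK LD1_c3 LD2_c37 LD3_c61) Lrfl Lrfl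
theorem f456681 : Led Lsl_ft (LP (LK LD1_c13 LD2_c46 LD3_c1)) = (LP (LK LD1_c7 LD2_c16 LD3_c28)) :=
  Lre_f IH (LK LD1_c13 LD2_c46 LD3_c1) (LK LD1_c7 LD2_c16 LD3_c28) Lrfl Lrfl
theorem f457288 : Led Lsl_et (LP (LK LD1_c13 LD2_c46 LD3_c11)) = (LP (LK LD1_c13 LD2_c46 LD3_c1)) :=
  Lgr Lrot69 (Lpe (f457287 IH) (Lpe (f457286 IH) (Lpr_ff (f457281 IH) (Lpe (f456705 IH) (Lpe (f456681 IH) (Lpn (LP (LK LD1_c13 LD2_c46 LD3_c1))))))))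
theorem f457291 : Led Lsl_ef (LP (LK LD1_c13 LD2_c46 LD3_c11)) = (LP (LK LD1_c13 LD2_c46 LD3_c1)) :=
  Lgr Lrot88 (Lpr_et (f457288 IH) (Lpn (LP (LK LD1_c13 LD2_c46 LD3_c1))))
theorem f456698 : Led Lsl_at (LP (LK LD1_c23 LD2_c12 LD3_c57)) = (LP (LK LD1_c13 LD2_c46 LD3_c1)) :=
  Lre_a IH (LK LD1_c23 LD2_c12 LD3_c57) (LK LD1_c13 LD2_c46 LD3_c1) Lrfl Lrfl
theorem f479270 : Led Lsl_et (LP (LK LD1_c22 LD2_c22 LD3_c11)) = (LP (LK LD1_c23 LD2_c12 LD3_c57)) :=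
  Lgr Lrot123 (Lpr_af (f479264 IH) (Lpr_ef (f457291 IH) (Lpe (f456698 IH) (Lpn (LP (LK LD1_c23 LD2_c12 LD3_c57))))))
theorem f91545 : Led Lsl_ft (LP (LK LD1_c13 LD2_c9 LD3_c33)) = (LP (LK LD1_c22 LD2_c22 LD3_c11)) :=
  Lre_f IH (LK LD1_c13 LD2_c9 LD3_c33) (LK LD1_c22 LD2_c22 LD3_c11) Lrfl Lrfl
theorem f479281 : Led Lsl_ft (LP (LK LD1_c23 LD2_c12 LD3_c57)) = (LP (LK LD1_c13 LD2_c45 LD3_c46)) :=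
  Lre_f IH (LK LD1_c23 LD2_c12 LD3_c57) (LK LD1_c13 LD2_c45 LD3_c46) Lrfl Lrfl
theorem f457323 : Led Lsl_et (LP (LK LD1_c13 LD2_c45 LD3_c46)) = (LP (LK LD1_c7 LD2_c16 LD3_c22)) :=
  Lre_e IH (LK LD1_c13 LD2_c45 LD3_c46) (LK LD1_c7 LD2_c16 LD3_c22) Lrfl Lrfl
theorem f479282 : Led Lsl_ff (LP (LK LD1_c6 LD2_c55 LD3_c43)) = (LP (LK LD1_c7 LD2_c16 LD3_c22)) :=
  Lgr Lrot72 (Lpr_et (f91526 IH) (Lpr_ft (f91545 IH) (Lpr_et (f479270 IH) (Lpr_ft (f479281 IH) (Lpr_et (f457323 IH) (Lpn (LP (LK LD1_c7 LD2_c16 LD3_c22))))))))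
theorem f479226 : Led Lsl_at (LP (LK LD1_c6 LD2_c55 LD3_c43)) = (LP (LK LD1_c3 LD2_c38 LD3_c0)) :=
  Lgr Lrot51 (Lpe (f91525 IH) (Lpr_af (f479219 IH) (Lpe (f456647 IH) (Lpn (LP (LK LD1_c3 LD2_c38 LD3_c0))))))
theorem f456648 : Led Lsl_gt (LP (LK LD1_c7 LD2_c16 LD3_c30)) = (LP (LK LD1_c3 LD2_c38 LD3_c0)) :=
  Lre_g IH (LK LD1_c7 LD2_c16 LD3_c30) (LK LD1_c3 LD2_c38 LD3_c0) Lrfl Lrfl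
theorem f479292 : Led Lsl_gf (LP (LK LD1_c7 LD2_c16 LD3_c30)) = (LP (LK LD1_c7 LD2_c16 LD3_c22)) :=
  Lgr Lrot47 (Lpr_gt (f456648 IH) (Lpe (f479226 IH) (Lpr_ff (f479282 IH) (Lpn (LP (LK LD1_c7 LD2_c16 LD3_c22))))))
theorem f19149 : Led Lsl_dt (LP (LK LD1_c1 LD2_c40 LD3_c24)) = (LP (LK LD1_c0 LD2_c46 LD3_c39)) :=
  Lre_d IH (LK LD1_c1 LD2_c40 LD3_c24) (LK LD1_c0 LD2_c46 LD3_c39) Lrfl Lrfl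
theorem f455988 : Led Lsl_ct (LP (LK LD1_c3 LD2_c38 LD3_c1)) = (LP (LK LD1_c1 LD2_c45 LD3_c54)) :=
  Lre_c IH (LK LD1_c3 LD2_c38 LD3_c1) (LK LD1_c1 LD2_c45 LD3_c54) Lrfl Lrfl
theorem f18469 : Led Lsl_gt (LP (LK LD1_c6 LD2_c52 LD3_c4)) = (LP (LK LD1_c13 LD2_c3 LD3_c43)) :=
  Lre_g IH (LK LD1_c6 LD2_c52 LD3_c4) (LK LD1_c13 LD2_c3 LD3_c43) Lrfl Lrfl
theorem f468970 : Led Lsl_ct (LP (LK LD1_c13 LD2_c3 LD3_c43)) = (LP (LK LD1_c6 LD2_c57 LD3_c35)) :=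
  Lgr Lrot59 (Lpr_cf (K28.f468959 IH) (Lpn (LP (LK LD1_c6 LD2_c57 LD3_c35))))
theorem f473175 : Led Lsl_gt (LP (LK LD1_c1 LD2_c45 LD3_c54)) = (LP (LK LD1_c1 LD2_c40 LD3_c24)) :=
  Lgr Lrot150 (Lpe (f455988 IH) (Lpr_gf (f472945 IH) (Lpr_df (f458002 IH) (Lpr_gt (K28.f18366 IH) (Lpr_ct (K28.f18350 IH) (Lpr_gt (f18469 IH) (Lpr_ct (f468970 IH) (Lpe (K28.f455123 IH) (Lpe (K28.f446573 IH) (Lpn (LP (LK LD1_c1 LD2_c40 LD3_c24))))))))))))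
theorem f473763 : Led Lsl_gf (LP (LK LD1_c6 LD2_c56 LD3_c56)) = (LP (LK LD1_c3 LD2_c38 LD3_c1)) :=
  Lgr Lrot144 (Lpr_dt (f473748 IH) (Lpr_gt (K28.f15829 IH) (Lpr_dt (K28.f15828 IH) (Lpe (K2.f15816 IH) (Lpe (K2.f15823 IH) (Lpe (K2.f16719 IH) (Lpe (f19149 IH) (Lpe (f473175 IH) (Lpe (f455988 IH) (Lpn (LP (LK LD1_c3 LD2_c38 LD3_c1))))))))))))
theorem f457278 : Led Lsl_et (LP (LK LD1_c1 LD2_c45 LD3_c53)) = (LP (LK LD1_c3 LD2_c38 LD3_c1)) :=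
  Lre_e IH (LK LD1_c1 LD2_c45 LD3_c53) (LK LD1_c3 LD2_c38 LD3_c1) Lrfl Lrfl
theorem f456904 : Led Lsl_dt (LP (LK LD1_c1 LD2_c45 LD3_c53)) = (LP (LK LD1_c3 LD2_c38 LD3_c0)) :=
  Lre_d IH (LK LD1_c1 LD2_c45 LD3_c53) (LK LD1_c3 LD2_c38 LD3_c0) Lrfl Lrfl
theorem f18200 : Led Lsl_at (LP (LK LD1_c7 LD2_c1 LD3_c56)) = (LP (LK LD1_c3 LD2_c30 LD3_c11)) :=
  Lre_a IH (LK LD1_c7 LD2_c1 LD3_c56) (LK LD1_c3 LD2_c30 LD3_c11) Lrfl Lrfl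
theorem f18202 : Led Lsl_ef (LP (LK LD1_c7 LD2_c1 LD3_c56)) = (LP (LK LD1_c6 LD2_c51 LD3_c37)) :=
  Lgr Lrot20 (Lpr_at (f18200 IH) (Lpr_et (K1.f18192 IH) (Lpr_at (K24.f18201 IH) (Lpn (LP (LK LD1_c6 LD2_c51 LD3_c37))))))
theorem f19141 : Led Lsl_et (LP (LK LD1_c7 LD2_c2 LD3_c1)) = (LP (LK LD1_c3 LD2_c30 LD3_c9)) :=
  Lre_e IH (LK LD1_c7 LD2_c2 LD3_c1) (LK LD1_c3 LD2_c30 LD3_c9) Lrfl Lrfl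
theorem f473765 : Led Lsl_df (LP (LK LD1_c7 LD2_c16 LD3_c30)) = (LP (LK LD1_c7 LD2_c2 LD3_c1)) :=
  Lgr Lrot170 (Lpr_gt (f456648 IH) (Lpe (f456904 IH) (Lpr_et (f457278 IH) (Lpe (f473763 IH) (Lpr_dt (f473748 IH) (Lpr_gt (K28.f15829 IH) (Lpe (K28.f18982 IH) (Lpe (f18202 IH) (Lpr_gt (K28.f18701 IH) (Lpe (f19141 IH) (Lpn (LP (LK LD1_c7 LD2_c2 LD3_c1)))))))))))))
theorem f64403 : Led Lsl_gt (LP (LK LD1_c3 LD2_c30 LD3_c9)) = (LP (LK LD1_c1 LD2_c41 LD3_c46)) :=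
  Lre_g IH (LK LD1_c3 LD2_c30 LD3_c9) (LK LD1_c1 LD2_c41 LD3_c46) Lrfl Lrfl
theorem f457271 : Led Lsl_dt (LP (LK LD1_c3 LD2_c37 LD3_c59)) = (LP (LK LD1_c7 LD2_c16 LD3_c22)) :=
  Lre_d IH (LK LD1_c3 LD2_c37 LD3_c59) (LK LD1_c7 LD2_c16 LD3_c22) Lrfl Lrfl
theorem f479294 : Led Lsl_gt (LP (LK LD1_c1 LD2_c52 LD3_c18)) = (LP (LK LD1_c3 LD2_c37 LD3_c59)) :=
  Lgr Lrot137 (Lpe (f64398 IH) (Lpr_dt (K3.f64384 IH) (Lpe (K3.f64390 IH) (Lpe (K1.f11441 IH) (Lpr_et (K1.f18215 IH) (Lpe (f64403 IH) (Lpe (f19141 IH) (Lpe (f473765 IH) (Lpr_gf (f479292 IH) (Lpe (f457271 IH) (Lpn (LP (LK LD1_c3 LD2_c37 LD3_c59)))))))))))))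
theorem f456719 : Led Lsl_at (LP (LK LD1_c1 LD2_c45 LD3_c52)) = (LP (LK LD1_c3 LD2_c37 LD3_c59)) :=
  Lre_a IH (LK LD1_c1 LD2_c45 LD3_c52) (LK LD1_c3 LD2_c37 LD3_c59) Lrfl Lrfl
theorem f479296 : Led Lsl_gf (LP (LK LD1_c1 LD2_c52 LD3_c18)) = (LP (LK LD1_c1 LD2_c45 LD3_c53)) :=
  Lgr Lrot47 (Lpr_gt (f479294 IH) (Lpe (f456719 IH) (Lpe (f457279 IH) (Lpn (LP (LK LD1_c1 LD2_c45 LD3_c53))))))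
theorem f19134 : Led Lsl_et (LP (LK LD1_c1 LD2_c38 LD3_c40)) = (LP (LK LD1_c3 LD2_c24 LD3_c29)) :=
  Lre_e IH (LK LD1_c1 LD2_c38 LD3_c40) (LK LD1_c3 LD2_c24 LD3_c29) Lrfl Lrfl
theorem f457482 : Led Lsl_dt (LP (LK LD1_c3 LD2_c30 LD3_c37)) = (LP (LK LD1_c7 LD2_c3 LD3_c12)) :=
  Lre_d IH (LK LD1_c3 LD2_c30 LD3_c37) (LK LD1_c7 LD2_c3 LD3_c12) Lrfl Lrfl
theorem f479307 : Led Lsl_gt (LP (LK LD1_c7 LD2_c3 LD3_c12)) = (LP (LK LD1_c7 LD2_c16 LD3_c33)) :=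
  Lgr Lrot139 (Lpe (f457482 IH) (Lpr_gf (K24.f457477 IH) (Lpe (f19134 IH) (Lpr_dt (K2.f19040 IH) (Lpr_gf (K3.f64385 IH) (Lpe (K3.f64384 IH) (Lpr_et (f64398 IH) (Lpr_gf (f479296 IH) (Lpe (f457283 IH) (Lpr_dt (K28.f457372 IH) (Lpn (LP (LK LD1_c7 LD2_c16 LD3_c33)))))))))))))
theorem f457634 : Led Lsl_ct (LP (LK LD1_c13 LD2_c22 LD3_c39)) = (LP (LK LD1_c7 LD2_c3 LD3_c12)) :=
  Lre_c IH (LK LD1_c13 LD2_c22 LD3_c39) (LK LD1_c7 LD2_c3 LD3_c12) Lrfl Lrfl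
theorem f473442 : Led Lsl_cf (LP (LK LD1_c7 LD2_c1 LD3_c60)) = (LP (LK LD1_c7 LD2_c22 LD3_c13)) :=
  Lgr Lrot14 (Lpr_df (f97589 IH) (Lpe (f15394 IH) (Lpe (f15388 IH) (Lpe (f457982 IH) (Lpr_ct (f457984 IH) (Lpr_gt (K28.f63007 IH) (Lpr_dt (K28.f473436 IH) (Lpe (f473438 IH) (Lpr_dt (f108812 IH) (Lpn (LP (LK LD1_c7 LD2_c22 LD3_c13))))))))))))
theorem f17073 : Led Lsl_ct (LP (LK LD1_c6 LD2_c54 LD3_c27)) = (LP (LK LD1_c13 LD2_c7 LD3_c34)) :=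
  Lre_c IH (LK LD1_c6 LD2_c54 LD3_c27) (LK LD1_c13 LD2_c7 LD3_c34) Lrfl Lrfl
theorem f468324 : Led Lsl_gt (LP (LK LD1_c3 LD2_c28 LD3_c24)) = (LP (LK LD1_c1 LD2_c41 LD3_c55)) :=
  Lgr Lrot5 (Lpr_ft (K4.f17680 IH) (Lpr_at (K28.f468316 IH) (Lpe (K28.f457480 IH) (Lpn (LP (LK LD1_c1 LD2_c41 LD3_c55))))))
theorem f455537 : Led Lsl_at (LP (LK LD1_c3 LD2_c30 LD3_c36)) = (LP (LK LD1_c1 LD2_c41 LD3_c55)) :=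
  Lre_a IH (LK LD1_c3 LD2_c30 LD3_c36) (LK LD1_c1 LD2_c41 LD3_c55) Lrfl Lrfl
theorem f468326 : Led Lsl_ft (LP (LK LD1_c6 LD2_c58 LD3_c54)) = (LP (LK LD1_c3 LD2_c30 LD3_c36)) :=
  Lgr Lrot2 (Lpr_gt (f17684 IH) (Lpr_gt (f468324 IH) (Lpe (f455537 IH) (Lpn (LP (LK LD1_c3 LD2_c30 LD3_c36))))))
theorem f457481 : Led Lsl_dt (LP (LK LD1_c7 LD2_c3 LD3_c12)) = (LP (LK LD1_c3 LD2_c30 LD3_c37)) :=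
  Lre_d IH (LK LD1_c7 LD2_c3 LD3_c12) (LK LD1_c3 LD2_c30 LD3_c37) Lrfl Lrfl
theorem f476579 : Led Lsl_dt (LP (LK LD1_c13 LD2_c7 LD3_c34)) = (LP (LK LD1_c13 LD2_c22 LD3_c39)) :=
  Lgr Lrot140 (Lpe (f17073 IH) (Lpe (f97583 IH) (Lpr_cf (f473442 IH) (Lpe (f108812 IH) (Lpr_ft (f468326 IH) (Lpr_at (f455537 IH) (Lpe (K28.f457479 IH) (Lpe (f457481 IH) (Lpe (f457634 IH) (Lpn (LP (LK LD1_c13 LD2_c22 LD3_c39))))))))))))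
theorem f476583 : Led Lsl_df (LP (LK LD1_c13 LD2_c7 LD3_c34)) = (LP (LK LD1_c13 LD2_c22 LD3_c39)) :=
  Lgr Lrot38 (Lpr_dt (f476579 IH) (Lpn (LP (LK LD1_c13 LD2_c22 LD3_c39))))
theorem f472223 : Led Lsl_gf (LP (LK LD1_c13 LD2_c7 LD3_c59)) = (LP (LK LD1_c13 LD2_c7 LD3_c34)) :=
  Lgr Lrot104 (Lpr_ct (K28.f95191 IH) (Lpe (K28.f94990 IH) (Lpr_cf (K24.f95189 IH) (Lpe (K28.f5743 IH) (Lpr_cf (f472216 IH) (Lpe (f15760 IH) (Lpe (f15352 IH) (Lpr_gt (f15394 IH) (Lpr_ct (f17073 IH) (Lpn (LP (LK LD1_c13 LD2_c7 LD3_c34))))))))))))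
theorem f18586 : Led Lsl_gt (LP (LK LD1_c3 LD2_c24 LD3_c50)) = (LP (LK LD1_c6 LD2_c52 LD3_c8)) :=
  Lre_g IH (LK LD1_c3 LD2_c24 LD3_c50) (LK LD1_c6 LD2_c52 LD3_c8) Lrfl Lrfl
theorem f464050 : Led Lsl_dt (LP (LK LD1_c6 LD2_c52 LD3_c10)) = (LP (LK LD1_c3 LD2_c24 LD3_c50)) :=
  Lre_d IH (LK LD1_c6 LD2_c52 LD3_c10) (LK LD1_c3 LD2_c24 LD3_c50) Lrfl Lrfl
theorem f464051 : Led Lsl_gt (LP (LK LD1_c13 LD2_c3 LD3_c56)) = (LP (LK LD1_c6 LD2_c52 LD3_c10)) :=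
  Lre_g IH (LK LD1_c13 LD2_c3 LD3_c56) (LK LD1_c6 LD2_c52 LD3_c10) Lrfl Lrfl
theorem f472227 : Led Lsl_ct (LP (LK LD1_c13 LD2_c3 LD3_c56)) = (LP (LK LD1_c22 LD2_c14 LD3_c13)) :=
  Lre_c IH (LK LD1_c13 LD2_c3 LD3_c56) (LK LD1_c22 LD2_c14 LD3_c13) Lrfl Lrfl
theorem f476592 : Led Lsl_gt (LP (LK LD1_c22 LD2_c14 LD3_c13)) = (LP (LK LD1_c13 LD2_c22 LD3_c39)) :=
  Lgr Lrot94 (Lpe (f472227 IH) (Lpr_gt (f464051 IH) (Lpr_dt (f464050 IH) (Lpr_gt (f18586 IH) (Lpr_dt (K28.f98758 IH) (Lpe (K28.f464406 IH) (Lpr_df (K28.f464398 IH) (Lpr_gf (f472223 IH) (Lpr_df (f476583 IH) (Lpn (LP (LK LD1_c13 LD2_c22 LD3_c39))))))))))))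
theorem f472839 : Led Lsl_ct (LP (LK LD1_c6 LD2_c56 LD3_c53)) = (LP (LK LD1_c3 LD2_c27 LD3_c23)) :=
  Lre_c IH (LK LD1_c6 LD2_c56 LD3_c53) (LK LD1_c3 LD2_c27 LD3_c23) Lrfl Lrfl
theorem f472840 : Led Lsl_gt (LP (LK LD1_c13 LD2_c11 LD3_c34)) = (LP (LK LD1_c6 LD2_c56 LD3_c53)) :=
  Lre_g IH (LK LD1_c13 LD2_c11 LD3_c34) (LK LD1_c6 LD2_c56 LD3_c53) Lrfl Lrfl
theorem f479313 : Led Lsl_df (LP (LK LD1_c22 LD2_c14 LD3_c13)) = (LP (LK LD1_c13 LD2_c11 LD3_c34)) :=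
  Lgr Lrot155 (Lpr_gt (f476592 IH) (Lpr_ct (f457634 IH) (Lpr_gt (f479307 IH) (Lpr_ct (K28.f457373 IH) (Lpe (K28.f472826 IH) (Lpe (K28.f469055 IH) (Lpe (K28.f90897 IH) (Lpe (f472839 IH) (Lpe (f472840 IH) (Lpn (LP (LK LD1_c13 LD2_c11 LD3_c34))))))))))))
theorem f458380 : Led Lsl_dt (LP (LK LD1_c6 LD2_c52 LD3_c17)) = (LP (LK LD1_c3 LD2_c24 LD3_c54)) :=
  Lre_d IH (LK LD1_c6 LD2_c52 LD3_c17) (LK LD1_c3 LD2_c24 LD3_c54) Lrfl Lrfl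
theorem f476595 : Led Lsl_gf (LP (LK LD1_c13 LD2_c3 LD3_c56)) = (LP (LK LD1_c6 LD2_c52 LD3_c17)) :=
  Lgr Lrot147 (Lpr_ct (f472227 IH) (Lpr_gt (f476592 IH) (Lpr_ct (f457634 IH) (Lpe (f457482 IH) (Lpe (K24.f18825 IH) (Lpe (f468324 IH) (Lpr_cf (K3.f91228 IH) (Lpr_gf (K28.f468877 IH) (Lpe (f458380 IH) (Lpn (LP (LK LD1_c6 LD2_c52 LD3_c17))))))))))))
theorem f465292 : Led Lsl_cf (LP (LK LD1_c13 LD2_c7 LD3_c40)) = (LP (LK LD1_c13 LD2_c11 LD3_c59)) :=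
  Lgr Lrot11 (Lpr_ct (K28.f465289 IH) (Lpn (LP (LK LD1_c13 LD2_c11 LD3_c59))))
theorem f473037 : Led Lsl_ct (LP (LK LD1_c13 LD2_c12 LD3_c48)) = (LP (LK LD1_c22 LD2_c13 LD3_c43)) :=
  Lgr Lrot98 (Lpe (K28.f91991 IH) (Lpe (f464262 IH) (Lpr_df (K4.f106130 IH) (Lpr_cf (K28.f464228 IH) (Lpe (K28.f98738 IH) (Lpr_cf (f465292 IH) (Lpe (f465305 IH) (Lpe (K28.f464404 IH) (Lpr_at (K28.f472965 IH) (Lpn (LP (LK LD1_c22 LD2_c13 LD3_c43))))))))))))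
theorem f473063 : Led Lsl_ct (LP (LK LD1_c13 LD2_c11 LD3_c60)) = (LP (LK LD1_c7 LD2_c21 LD3_c4)) :=
  Lgr Lrot176 (Lpr_df (K28.f473056 IH) (Lpe (f473037 IH) (Lpe (K28.f91991 IH) (Lpe (f464262 IH) (Lpr_df (K4.f106130 IH) (Lpr_cf (K28.f464228 IH) (Lpe (K28.f98738 IH) (Lpr_cf (f465292 IH) (Lpe (f465305 IH) (Lpe (K28.f121918 IH) (Lpe (K28.f121931 IH) (Lpr_cf (K28.f420088 IH) (Lpe (K28.f124909 IH) (Lpe (K28.f420091 IH) (Lpe (f420092 IH) (Lpn (LP (LK LD1_c7 LD2_c21 LD3_c4))))))))))))))))))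
theorem f16045 : Led Lsl_ct (LP (LK LD1_c3 LD2_c27 LD3_c29)) = (LP (LK LD1_c6 LD2_c57 LD3_c7)) :=
  Lre_c IH (LK LD1_c3 LD2_c27 LD3_c29) (LK LD1_c6 LD2_c57 LD3_c7) Lrfl Lrfl
theorem f473080 : Led Lsl_gf (LP (LK LD1_c13 LD2_c11 LD3_c60)) = (LP (LK LD1_c6 LD2_c57 LD3_c7)) :=
  Lgr Lrot104 (Lpr_ct (f473063 IH) (Lpe (K28.f95920 IH) (Lpe (K28.f420090 IH) (Lpe (K28.f464230 IH) (Lpe (f457796 IH) (Lpe (K28.f15323 IH) (Lpe (K28.f15289 IH) (Lpr_gt (K2.f15300 IH) (Lpr_ct (f16045 IH) (Lpn (LP (LK LD1_c6 LD2_c57 LD3_c7))))))))))))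
theorem f473054 : Led Lsl_dt (LP (LK LD1_c13 LD2_c11 LD3_c60)) = (LP (LK LD1_c22 LD2_c13 LD3_c43)) :=
  Lgr Lrot6 (Lpr_gt (K28.f473053 IH) (Lpr_ct (K28.f465310 IH) (Lpr_gt (K28.f15296 IH) (Lpr_ct (K28.f17052 IH) (Lpe (K28.f17048 IH) (Lpe (K28.f18350 IH) (Lpe (K28.f18366 IH) (Lpe (K28.f458006 IH) (Lpr_gf (K28.f473051 IH) (Lpn (LP (LK LD1_c22 LD2_c13 LD3_c43))))))))))))
theorem f15686 : Led Lsl_dt (LP (LK LD1_c1 LD2_c40 LD3_c18)) = (LP (LK LD1_c3 LD2_c27 LD3_c23)) :=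
  Lre_d IH (LK LD1_c1 LD2_c40 LD3_c18) (LK LD1_c3 LD2_c27 LD3_c23) Lrfl Lrfl
theorem f473082 : Led Lsl_dt (LP (LK LD1_c13 LD2_c3 LD3_c42)) = (LP (LK LD1_c6 LD2_c56 LD3_c53)) :=
  Lgr Lrot105 (Lpr_gf (K28.f473051 IH) (Lpe (f473054 IH) (Lpr_gf (f473080 IH) (Lpe (f16045 IH) (Lpr_gt (K2.f15464 IH) (Lpr_dt (K28.f15452 IH) (Lpr_gt (K2.f15685 IH) (Lpr_dt (f15686 IH) (Lpe (f472839 IH) (Lpn (LP (LK LD1_c6 LD2_c56 LD3_c53))))))))))))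
theorem f473084 : Led Lsl_df (LP (LK LD1_c13 LD2_c3 LD3_c42)) = (LP (LK LD1_c6 LD2_c56 LD3_c53)) :=
  Lgr Lrot38 (Lpr_dt (f473082 IH) (Lpn (LP (LK LD1_c6 LD2_c56 LD3_c53))))
theorem f98813 : Led Lsl_dt (LP (LK LD1_c6 LD2_c54 LD3_c33)) = (LP (LK LD1_c3 LD2_c26 LD3_c18)) :=
  Lre_d IH (LK LD1_c6 LD2_c54 LD3_c33) (LK LD1_c3 LD2_c26 LD3_c18) Lrfl Lrfl
theorem f98814 : Led Lsl_gt (LP (LK LD1_c13 LD2_c7 LD3_c45)) = (LP (LK LD1_c6 LD2_c54 LD3_c33)) :=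
  Lre_g IH (LK LD1_c13 LD2_c7 LD3_c45) (LK LD1_c6 LD2_c54 LD3_c33) Lrfl Lrfl
theorem f473099 : Led Lsl_ct (LP (LK LD1_c13 LD2_c7 LD3_c45)) = (LP (LK LD1_c13 LD2_c11 LD3_c34)) :=
  Lgr Lrot8 (Lpr_gt (f98814 IH) (Lpr_dt (f98813 IH) (Lpr_gt (K28.f15900 IH) (Lpr_dt (K28.f98734 IH) (Lpr_cf (f465292 IH) (Lpe (f465305 IH) (Lpr_gf (K28.f463588 IH) (Lpr_df (f473084 IH) (Lpe (f472840 IH) (Lpn (LP (LK LD1_c13 LD2_c11 LD3_c34))))))))))))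
theorem f15740 : Led Lsl_at (LP (LK LD1_c0 LD2_c46 LD3_c41)) = (LP (LK LD1_c1 LD2_c39 LD3_c52)) :=
  Lre_a IH (LK LD1_c0 LD2_c46 LD3_c41) (LK LD1_c1 LD2_c39 LD3_c52) Lrfl Lrfl
theorem f15741 : Led Lsl_at (LP (LK LD1_c1 LD2_c39 LD3_c52)) = (LP (LK LD1_c0 LD2_c46 LD3_c41)) :=
  Lre_a IH (LK LD1_c1 LD2_c39 LD3_c52) (LK LD1_c0 LD2_c46 LD3_c41) Lrfl Lrfl
theorem f15742 : Led Lsl_bt (LP (LK LD1_c1 LD2_c39 LD3_c52)) = (LP (LK LD1_c1 LD2_c39 LD3_c52)) :=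
  Lgr Lrot62 (Lpe (f15740 IH) (Lpe (K0.f15707 IH) (Lpr_af (K0.f15737 IH) (Lpe (f15731 IH) (Lpe (f15741 IH) (Lpn (LP (LK LD1_c1 LD2_c39 LD3_c52))))))))
theorem f473788 : Led Lsl_cf (LP (LK LD1_c1 LD2_c40 LD3_c18)) = (LP (LK LD1_c1 LD2_c52 LD3_c56)) :=
  Lgr Lrot125 (Lpr_gt (K2.f15320 IH) (Lpe (K28.f15284 IH) (Lpr_bt (f15742 IH) (Lpr_gt (K28.f16712 IH) (Lpe (K24.f16721 IH) (Lpr_ct (K24.f16722 IH) (Lpe (K28.f462420 IH) (Lpe (K28.f132099 IH) (Lpr_bt (K28.f159494 IH) (Lpr_gt (f473786 IH) (Lpn (LP (LK LD1_c1 LD2_c52 LD3_c56)))))))))))))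
theorem f90879 : Led Lsl_dt (LP (LK LD1_c6 LD2_c54 LD3_c35)) = (LP (LK LD1_c3 LD2_c26 LD3_c20)) :=
  Lre_d IH (LK LD1_c6 LD2_c54 LD3_c35) (LK LD1_c3 LD2_c26 LD3_c20) Lrfl Lrfl
theorem f476395 : Led Lsl_gf (LP (LK LD1_c13 LD2_c7 LD3_c45)) = (LP (LK LD1_c6 LD2_c54 LD3_c35)) :=
  Lgr Lrot147 (Lpr_ct (f473099 IH) (Lpr_gt (f472840 IH) (Lpr_ct (f472839 IH) (Lpe (f15686 IH) (Lpr_cf (f473788 IH) (Lpe (f473786 IH) (Lpe (K28.f420091 IH) (Lpe (K28.f463246 IH) (Lpe (f90879 IH) (Lpn (LP (LK LD1_c6 LD2_c54 LD3_c35))))))))))))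
theorem f91985 : Led Lsl_ct (LP (LK LD1_c13 LD2_c7 LD3_c48)) = (LP (LK LD1_c6 LD2_c54 LD3_c35)) :=
  Lre_c IH (LK LD1_c13 LD2_c7 LD3_c48) (LK LD1_c6 LD2_c54 LD3_c35) Lrfl Lrfl
theorem f479335 : Led Lsl_gt (LP (LK LD1_c13 LD2_c52 LD3_c20)) = (LP (LK LD1_c13 LD2_c7 LD3_c48)) :=
  Lgr Lrot9 (Lpe (K28.f473197 IH) (Lpr_gt (K28.f468995 IH) (Lpr_ct (K28.f468977 IH) (Lpe (f476595 IH) (Lpr_ct (f472227 IH) (Lpr_df (f479313 IH) (Lpe (f473099 IH) (Lpr_gf (f476395 IH) (Lpe (f91985 IH) (Lpn (LP (LK LD1_c13 LD2_c7 LD3_c48))))))))))))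
theorem f90870 : Led Lsl_dt (LP (LK LD1_c3 LD2_c26 LD3_c20)) = (LP (LK LD1_c6 LD2_c54 LD3_c35)) :=
  Lre_d IH (LK LD1_c3 LD2_c26 LD3_c20) (LK LD1_c6 LD2_c54 LD3_c35) Lrfl Lrfl
theorem f15715 : Led Lsl_ct (LP (LK LD1_c1 LD2_c40 LD3_c21)) = (LP (LK LD1_c0 LD2_c46 LD3_c41)) :=
  Lre_c IH (LK LD1_c1 LD2_c40 LD3_c21) (LK LD1_c0 LD2_c46 LD3_c41) Lrfl Lrfl
theorem f457994 : Led Lsl_dt (LP (LK LD1_c3 LD2_c52 LD3_c37)) = (LP (LK LD1_c1 LD2_c52 LD3_c57)) :=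
  Lre_d IH (LK LD1_c3 LD2_c52 LD3_c37) (LK LD1_c1 LD2_c52 LD3_c57) Lrfl Lrfl
theorem f479339 : Led Lsl_gf (LP (LK LD1_c7 LD2_c19 LD3_c60)) = (LP (LK LD1_c3 LD2_c52 LD3_c37)) :=
  Lgr Lrot147 (Lpr_ct (K28.f456364 IH) (Lpr_gt (f479335 IH) (Lpr_ct (f91985 IH) (Lpe (f90870 IH) (Lpe (K24.f16725 IH) (Lpe (K2.f15721 IH) (Lpe (f15715 IH) (Lpe (f457982 IH) (Lpe (f457994 IH) (Lpn (LP (LK LD1_c3 LD2_c52 LD3_c37))))))))))))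
theorem f472932 : Led Lsl_at (LP (LK LD1_c6 LD2_c56 LD3_c51)) = (LP (LK LD1_c7 LD2_c19 LD3_c60)) :=
  Lgr Lrot107 (Lpe (K28.f469058 IH) (Lpr_af (K28.f472930 IH) (Lpe (K28.f456364 IH) (Lpn (LP (LK LD1_c7 LD2_c19 LD3_c60))))))
theorem f458069 : Led Lsl_gt (LP (LK LD1_c7 LD2_c47 LD3_c5)) = (LP (LK LD1_c3 LD2_c52 LD3_c37)) :=
  Lre_g IH (LK LD1_c7 LD2_c47 LD3_c5) (LK LD1_c3 LD2_c52 LD3_c37) Lrfl Lrfl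
theorem f479341 : Led Lsl_ff (LP (LK LD1_c6 LD2_c56 LD3_c51)) = (LP (LK LD1_c7 LD2_c47 LD3_c5)) :=
  Lgr Lrot52 (Lpr_at (f472932 IH) (Lpr_gf (f479339 IH) (Lpe (f458069 IH) (Lpn (LP (LK LD1_c7 LD2_c47 LD3_c5))))))
theorem f479358 : Led Lsl_df (LP (LK LD1_c13 LD2_c3 LD3_c61)) = (LP (LK LD1_c7 LD2_c47 LD3_c5)) :=
  Lgr Lrot157 (Lpr_ct (K28.f91507 IH) (Lpr_dt (K28.f91504 IH) (Lpr_ct (K28.f91510 IH) (Lpe (K28.f91522 IH) (Lpr_ct (K28.f91580 IH) (Lpr_dt (K28.f473197 IH) (Lpr_ct (K28.f456378 IH) (Lpe (f472932 IH) (Lpr_ff (f479341 IH) (Lpn (LP (LK LD1_c7 LD2_c47 LD3_c5))))))))))))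
theorem f98755 : Led Lsl_dt (LP (LK LD1_c3 LD2_c26 LD3_c18)) = (LP (LK LD1_c6 LD2_c54 LD3_c33)) :=
  Lre_d IH (LK LD1_c3 LD2_c26 LD3_c18) (LK LD1_c6 LD2_c54 LD3_c33) Lrfl Lrfl
theorem f464420 : Led Lsl_ct (LP (LK LD1_c13 LD2_c7 LD3_c46)) = (LP (LK LD1_c6 LD2_c54 LD3_c33)) :=
  Lre_c IH (LK LD1_c13 LD2_c7 LD3_c46) (LK LD1_c6 LD2_c54 LD3_c33) Lrfl Lrfl
theorem f464123 : Led Lsl_ct (LP (LK LD1_c6 LD2_c54 LD3_c28)) = (LP (LK LD1_c3 LD2_c26 LD3_c15)) :=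
  Lre_c IH (LK LD1_c6 LD2_c54 LD3_c28) (LK LD1_c3 LD2_c26 LD3_c15) Lrfl Lrfl
theorem f18396 : Led Lsl_gt (LP (LK LD1_c13 LD2_c7 LD3_c37)) = (LP (LK LD1_c6 LD2_c54 LD3_c28)) :=
  Lre_g IH (LK LD1_c13 LD2_c7 LD3_c37) (LK LD1_c6 LD2_c54 LD3_c28) Lrfl Lrfl
theorem f464124 : Led Lsl_cf (LP (LK LD1_c13 LD2_c7 LD3_c37)) = (LP (LK LD1_c13 LD2_c24 LD3_c22)) :=
  Lgr Lrot169 (Lpr_gt (f18396 IH) (Lpr_ct (f464123 IH) (Lpe (f14654 IH) (Lpe (K0.f15884 IH) (Lpe (K2.f15903 IH) (Lpe (f15722 IH) (Lpr_gf (K28.f464121 IH) (Lpe (K28.f98738 IH) (Lpe (K28.f98735 IH) (Lpn (LP (LK LD1_c13 LD2_c24 LD3_c22))))))))))))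
theorem f464421 : Led Lsl_df (LP (LK LD1_c13 LD2_c7 LD3_c46)) = (LP (LK LD1_c13 LD2_c12 LD3_c49)) :=
  Lgr Lrot174 (Lpr_ct (f464420 IH) (Lpe (f98755 IH) (Lpr_gf (K28.f464417 IH) (Lpe (f420092 IH) (Lpr_gf (K28.f464101 IH) (Lpe (f464124 IH) (Lpr_gt (f18396 IH) (Lpr_dt (f18395 IH) (Lpr_gt (f464284 IH) (Lpn (LP (LK LD1_c13 LD2_c12 LD3_c49))))))))))))
theorem f464445 : Led Lsl_dt (LP (LK LD1_c13 LD2_c7 LD3_c46)) = (LP (LK LD1_c13 LD2_c12 LD3_c49)) :=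
  Lgr Lrot42 (Lpr_df (f464421 IH) (Lpn (LP (LK LD1_c13 LD2_c12 LD3_c49))))
theorem f15431 : Led Lsl_dt (LP (LK LD1_c13 LD2_c2 LD3_c56)) = (LP (LK LD1_c6 LD2_c57 LD3_c14)) :=
  Lre_d IH (LK LD1_c13 LD2_c2 LD3_c56) (LK LD1_c6 LD2_c57 LD3_c14) Lrfl Lrfl
theorem f15432 : Led Lsl_ct (LP (LK LD1_c3 LD2_c27 LD3_c31)) = (LP (LK LD1_c6 LD2_c57 LD3_c14)) :=
  Lre_c IH (LK LD1_c3 LD2_c27 LD3_c31) (LK LD1_c6 LD2_c57 LD3_c14) Lrfl Lrfl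
theorem f458071 : Led Lsl_ct (LP (LK LD1_c14 LD2_c41 LD3_c21)) = (LP (LK LD1_c7 LD2_c47 LD3_c5)) :=
  Lre_c IH (LK LD1_c14 LD2_c41 LD3_c21) (LK LD1_c7 LD2_c47 LD3_c5) Lrfl Lrfl
theorem f464462 : Led Lsl_gf (LP (LK LD1_c13 LD2_c7 LD3_c46)) = (LP (LK LD1_c14 LD2_c41 LD3_c21)) :=
  Lgr Lrot144 (Lpr_dt (f464445 IH) (Lpe (f464280 IH) (Lpr_dt (f15431 IH) (Lpe (f15432 IH) (Lpe (f15388 IH) (Lpe (f457982 IH) (Lpe (f457994 IH) (Lpe (f458069 IH) (Lpe (f458071 IH) (Lpn (LP (LK LD1_c14 LD2_c41 LD3_c21))))))))))))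
theorem f458070 : Led Lsl_ct (LP (LK LD1_c7 LD2_c47 LD3_c5)) = (LP (LK LD1_c14 LD2_c41 LD3_c21)) :=
  Lre_c IH (LK LD1_c7 LD2_c47 LD3_c5) (LK LD1_c14 LD2_c41 LD3_c21) Lrfl Lrfl
theorem f464466 : Led Lsl_gt (LP (LK LD1_c6 LD2_c54 LD3_c25)) = (LP (LK LD1_c7 LD2_c47 LD3_c5)) :=
  Lgr Lrot9 (Lpe (f17061 IH) (Lpr_gt (f15901 IH) (Lpr_ct (K0.f15885 IH) (Lpr_gt (K28.f15892 IH) (Lpr_ct (K28.f15899 IH) (Lpe (f98813 IH) (Lpe (f464420 IH) (Lpr_gf (f464462 IH) (Lpe (f458070 IH) (Lpn (LP (LK LD1_c7 LD2_c47 LD3_c5))))))))))))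
theorem f479362 : Led Lsl_gf (LP (LK LD1_c3 LD2_c26 LD3_c57)) = (LP (LK LD1_c1 LD2_c40 LD3_c25)) :=
  Lgr Lrot143 (Lpe (K28.f91500 IH) (Lpe (K28.f91507 IH) (Lpr_df (f479358 IH) (Lpe (f464466 IH) (Lpe (f17061 IH) (Lpe (f15760 IH) (Lpe (K0.f15706 IH) (Lpr_gt (K2.f15721 IH) (Lpr_dt (K24.f90875 IH) (Lpn (LP (LK LD1_c1 LD2_c40 LD3_c25))))))))))))
theorem f479368 : Led Lsl_dt (LP (LK LD1_c13 LD2_c3 LD3_c56)) = (LP (LK LD1_c6 LD2_c57 LD3_c29)) :=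
  Lgr Lrot6 (Lpr_gt (f464051 IH) (Lpr_ct (K28.f472748 IH) (Lpr_gt (K28.f473069 IH) (Lpr_ct (K28.f91521 IH) (Lpr_df (K28.f91522 IH) (Lpe (K28.f91510 IH) (Lpr_gf (f479362 IH) (Lpe (K28.f90872 IH) (Lpe (f90880 IH) (Lpn (LP (LK LD1_c6 LD2_c57 LD3_c29))))))))))))
theorem f107339 : Led Lsl_et (LP (LK LD1_c0 LD2_c47 LD3_c16)) = (LP (LK LD1_c1 LD2_c41 LD3_c23)) :=
  Lre_e IH (LK LD1_c0 LD2_c47 LD3_c16) (LK LD1_c1 LD2_c41 LD3_c23) Lrfl Lrfl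
theorem f441696 : Led Lsl_gt (LP (LK LD1_c3 LD2_c29 LD3_c19)) = (LP (LK LD1_c1 LD2_c41 LD3_c23)) :=
  Lre_g IH (LK LD1_c3 LD2_c29 LD3_c19) (LK LD1_c1 LD2_c41 LD3_c23) Lrfl Lrfl
theorem f441697 : Led Lsl_et (LP (LK LD1_c7 LD2_c0 LD3_c15)) = (LP (LK LD1_c3 LD2_c29 LD3_c19)) :=
  Lre_e IH (LK LD1_c7 LD2_c0 LD3_c15) (LK LD1_c3 LD2_c29 LD3_c19) Lrfl Lrfl
theorem f473813 : Led Lsl_df (LP (LK LD1_c3 LD2_c52 LD3_c44)) = (LP (LK LD1_c7 LD2_c0 LD3_c15)) :=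
  Lgr Lrot132 (Lpr_gf (f473809 IH) (Lpe (f473555 IH) (Lpe (f473786 IH) (Lpe (K28.f107286 IH) (Lpr_dt (K5.f95912 IH) (Lpr_gf (K3.f107274 IH) (Lpr_df (f107326 IH) (Lpr_et (f107339 IH) (Lpe (f441696 IH) (Lpe (f441697 IH) (Lpn (LP (LK LD1_c7 LD2_c0 LD3_c15)))))))))))))
theorem f479372 : Led Lsl_gt (LP (LK LD1_c7 LD2_c22 LD3_c13)) = (LP (LK LD1_c7 LD2_c0 LD3_c15)) :=
  Lgr Lrot49 (Lpe (f108812 IH) (Lpr_gf (f473438 IH) (Lpe (K28.f468303 IH) (Lpr_gt (K28.f468919 IH) (Lpr_dt (K28.f468925 IH) (Lpe (f476595 IH) (Lpr_dt (f479368 IH) (Lpr_cf (f473302 IH) (Lpr_df (f473813 IH) (Lpn (LP (LK LD1_c7 LD2_c0 LD3_c15))))))))))))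
theorem f479377 : Led Lsl_gt (LP (LK LD1_c7 LD2_c1 LD3_c60)) = (LP (LK LD1_c6 LD2_c54 LD3_c18)) :=
  Lgr Lrot94 (Lpr_cf (f473442 IH) (Lpr_gt (f479372 IH) (Lpe (f473813 IH) (Lpr_gt (f63004 IH) (Lpe (f62997 IH) (Lpe (f457796 IH) (Lpe (K28.f457801 IH) (Lpr_gf (K28.f469056 IH) (Lpe (K28.f90898 IH) (Lpn (LP (LK LD1_c6 LD2_c54 LD3_c18))))))))))))
theorem f15436 : Led Lsl_gt (LP (LK LD1_c6 LD2_c57 LD3_c14)) = (LP (LK LD1_c13 LD2_c7 LD3_c37)) :=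
  Lre_g IH (LK LD1_c6 LD2_c57 LD3_c14) (LK LD1_c13 LD2_c7 LD3_c37) Lrfl Lrfl
theorem f90905 : Led Lsl_dt (LP (LK LD1_c6 LD2_c57 LD3_c14)) = (LP (LK LD1_c13 LD2_c2 LD3_c56)) :=
  Lre_d IH (LK LD1_c6 LD2_c57 LD3_c14) (LK LD1_c13 LD2_c2 LD3_c56) Lrfl Lrfl
theorem f90903 : Led Lsl_gt (LP (LK LD1_c13 LD2_c2 LD3_c56)) = (LP (LK LD1_c22 LD2_c12 LD3_c39)) :=
  Lre_g IH (LK LD1_c13 LD2_c2 LD3_c56) (LK LD1_c22 LD2_c12 LD3_c39) Lrfl Lrfl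
theorem f473296 : Led Lsl_dt (LP (LK LD1_c22 LD2_c12 LD3_c39)) = (LP (LK LD1_c13 LD2_c7 LD3_c48)) :=
  Lgr Lrot105 (Lpe (f90903 IH) (Lpe (f90905 IH) (Lpe (f15433 IH) (Lpr_cf (f464423 IH) (Lpr_gt (f473294 IH) (Lpr_dt (K28.f98738 IH) (Lpe (K28.f464121 IH) (Lpr_dt (f90870 IH) (Lpe (f91985 IH) (Lpn (LP (LK LD1_c13 LD2_c7 LD3_c48))))))))))))
theorem f473310 : Led Lsl_df (LP (LK LD1_c22 LD2_c12 LD3_c39)) = (LP (LK LD1_c13 LD2_c7 LD3_c48)) :=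
  Lgr Lrot38 (Lpr_dt (f473296 IH) (Lpn (LP (LK LD1_c13 LD2_c7 LD3_c48))))
theorem f90871 : Led Lsl_ct (LP (LK LD1_c6 LD2_c54 LD3_c35)) = (LP (LK LD1_c13 LD2_c7 LD3_c48)) :=
  Lre_c IH (LK LD1_c6 LD2_c54 LD3_c35) (LK LD1_c13 LD2_c7 LD3_c48) Lrfl Lrfl
theorem f464419 : Led Lsl_ct (LP (LK LD1_c6 LD2_c54 LD3_c33)) = (LP (LK LD1_c13 LD2_c7 LD3_c46)) :=
  Lre_c IH (LK LD1_c6 LD2_c54 LD3_c33) (LK LD1_c13 LD2_c7 LD3_c46) Lrfl Lrfl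
theorem f18198 : Led Lsl_dt (LP (LK LD1_c3 LD2_c26 LD3_c19)) = (LP (LK LD1_c1 LD2_c39 LD3_c50)) :=
  Lre_d IH (LK LD1_c3 LD2_c26 LD3_c19) (LK LD1_c1 LD2_c39 LD3_c50) Lrfl Lrfl
theorem f462844 : Led Lsl_ct (LP (LK LD1_c6 LD2_c54 LD3_c34)) = (LP (LK LD1_c3 LD2_c26 LD3_c19)) :=
  Lre_c IH (LK LD1_c6 LD2_c54 LD3_c34) (LK LD1_c3 LD2_c26 LD3_c19) Lrfl Lrfl
theorem f15893 : Led Lsl_dt (LP (LK LD1_c1 LD2_c39 LD3_c50)) = (LP (LK LD1_c3 LD2_c26 LD3_c19)) :=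
  Lre_d IH (LK LD1_c1 LD2_c39 LD3_c50) (LK LD1_c3 LD2_c26 LD3_c19) Lrfl Lrfl
theorem f15894 : Led Lsl_ct (LP (LK LD1_c3 LD2_c26 LD3_c19)) = (LP (LK LD1_c6 LD2_c54 LD3_c34)) :=
  Lre_c IH (LK LD1_c3 LD2_c26 LD3_c19) (LK LD1_c6 LD2_c54 LD3_c34) Lrfl Lrfl
theorem f463250 : Led Lsl_gt (LP (LK LD1_c6 LD2_c53 LD3_c10)) = (LP (LK LD1_c13 LD2_c5 LD3_c19)) :=
  Lre_g IH (LK LD1_c6 LD2_c53 LD3_c10) (LK LD1_c13 LD2_c5 LD3_c19) Lrfl Lrfl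
theorem f463251 : Led Lsl_df (LP (LK LD1_c6 LD2_c54 LD3_c34)) = (LP (LK LD1_c13 LD2_c5 LD3_c19)) :=
  Lgr Lrot84 (Lpe (f15894 IH) (Lpe (f15893 IH) (Lpe (K28.f15892 IH) (Lpe (K2.f15799 IH) (Lpe (K24.f15809 IH) (Lpe (f19140 IH) (Lpr_gt (K28.f463248 IH) (Lpr_dt (K28.f121931 IH) (Lpr_gt (f463250 IH) (Lpn (LP (LK LD1_c13 LD2_c5 LD3_c19))))))))))))
theorem f473316 : Led Lsl_ct (LP (LK LD1_c22 LD2_c12 LD3_c39)) = (LP (LK LD1_c13 LD2_c5 LD3_c19)) :=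
  Lgr Lrot176 (Lpr_df (f473310 IH) (Lpe (f90871 IH) (Lpe (f90870 IH) (Lpe (K24.f16725 IH) (Lpr_df (K2.f90867 IH) (Lpe (K28.f90872 IH) (Lpe (K28.f90873 IH) (Lpe (f90874 IH) (Lpe (f464445 IH) (Lpe (f464419 IH) (Lpe (f98755 IH) (Lpe (K28.f15899 IH) (Lpe (f18198 IH) (Lpe (f462844 IH) (Lpr_df (f463251 IH) (Lpn (LP (LK LD1_c13 LD2_c5 LD3_c19))))))))))))))))))
theorem f473320 : Led Lsl_cf (LP (LK LD1_c22 LD2_c12 LD3_c39)) = (LP (LK LD1_c13 LD2_c5 LD3_c19)) :=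
  Lgr Lrot11 (Lpr_ct (f473316 IH) (Lpn (LP (LK LD1_c13 LD2_c5 LD3_c19))))
theorem f18398 : Led Lsl_gt (LP (LK LD1_c22 LD2_c12 LD3_c39)) = (LP (LK LD1_c13 LD2_c3 LD3_c47)) :=
  Lre_g IH (LK LD1_c22 LD2_c12 LD3_c39) (LK LD1_c13 LD2_c3 LD3_c47) Lrfl Lrfl
theorem f18384 : Led Lsl_ct (LP (LK LD1_c13 LD2_c3 LD3_c47)) = (LP (LK LD1_c6 LD2_c52 LD3_c5)) :=
  Lre_c IH (LK LD1_c13 LD2_c3 LD3_c47) (LK LD1_c6 LD2_c52 LD3_c5) Lrfl Lrfl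
theorem f15788 : Led Lsl_dt (LP (LK LD1_c6 LD2_c52 LD3_c5)) = (LP (LK LD1_c3 LD2_c24 LD3_c48)) :=
  Lre_d IH (LK LD1_c6 LD2_c52 LD3_c5) (LK LD1_c3 LD2_c24 LD3_c48) Lrfl Lrfl
theorem f473331 : Led Lsl_gf (LP (LK LD1_c6 LD2_c51 LD3_c38)) = (LP (LK LD1_c3 LD2_c25 LD3_c36)) :=
  Lgr Lrot147 (Lpr_ct (K28.f19138 IH) (Lpr_gt (K28.f15714 IH) (Lpr_ct (K2.f15789 IH) (Lpe (f15788 IH) (Lpe (f18384 IH) (Lpe (f18398 IH) (Lpr_cf (f473320 IH) (Lpe (f463250 IH) (Lpe (K28.f121931 IH) (Lpn (LP (LK LD1_c3 LD2_c25 LD3_c36))))))))))))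
theorem f460894 : Led Lsl_dt (LP (LK LD1_c6 LD2_c51 LD3_c38)) = (LP (LK LD1_c13 LD2_c2 LD3_c59)) :=
  Lre_d IH (LK LD1_c6 LD2_c51 LD3_c38) (LK LD1_c13 LD2_c2 LD3_c59) Lrfl Lrfl
theorem f460874 : Led Lsl_ct (LP (LK LD1_c13 LD2_c2 LD3_c59)) = (LP (LK LD1_c22 LD2_c12 LD3_c41)) :=
  Lre_c IH (LK LD1_c13 LD2_c2 LD3_c59) (LK LD1_c22 LD2_c12 LD3_c41) Lrfl Lrfl
theorem f473333 : Led Lsl_df (LP (LK LD1_c22 LD2_c12 LD3_c41)) = (LP (LK LD1_c13 LD2_c7 LD3_c37)) :=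
  Lgr Lrot84 (Lpe (f460874 IH) (Lpe (f460894 IH) (Lpr_gf (f473331 IH) (Lpe (K28.f121912 IH) (Lpe (f473298 IH) (Lpe (f90874 IH) (Lpe (f464280 IH) (Lpr_dt (f15431 IH) (Lpr_gt (f15436 IH) (Lpn (LP (LK LD1_c13 LD2_c7 LD3_c37))))))))))))
theorem f480689 : Led Lsl_gt (LP (LK LD1_c22 LD2_c12 LD3_c41)) = (LP (LK LD1_c13 LD2_c46 LD3_c12)) :=
  Lgr Lrot49 (Lpr_df (f473333 IH) (Lpe (f15436 IH) (Lpe (f15432 IH) (Lpr_gt (f15394 IH) (Lpe (f97589 IH) (Lpr_gt (f479377 IH) (Lpr_dt (K28.f90898 IH) (Lpe (K28.f469058 IH) (Lpr_df (K28.f472826 IH) (Lpn (LP (LK LD1_c13 LD2_c46 LD3_c12))))))))))))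
theorem f460893 : Led Lsl_ct (LP (LK LD1_c22 LD2_c12 LD3_c41)) = (LP (LK LD1_c13 LD2_c2 LD3_c59)) :=
  Lre_c IH (LK LD1_c22 LD2_c12 LD3_c41) (LK LD1_c13 LD2_c2 LD3_c59) Lrfl Lrfl
theorem f468980 : Led Lsl_gt (LP (LK LD1_c6 LD2_c57 LD3_c33)) = (LP (LK LD1_c3 LD2_c27 LD3_c40)) :=
  Lre_g IH (LK LD1_c6 LD2_c57 LD3_c33) (LK LD1_c3 LD2_c27 LD3_c40) Lrfl Lrfl
theorem f468981 : Led Lsl_dt (LP (LK LD1_c13 LD2_c12 LD3_c55)) = (LP (LK LD1_c6 LD2_c57 LD3_c33)) :=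
  Lre_d IH (LK LD1_c13 LD2_c12 LD3_c55) (LK LD1_c6 LD2_c57 LD3_c33) Lrfl Lrfl
theorem f480700 : Led Lsl_gt (LP (LK LD1_c13 LD2_c2 LD3_c59)) = (LP (LK LD1_c13 LD2_c12 LD3_c55)) :=
  Lgr Lrot94 (Lpe (f460893 IH) (Lpr_gt (f480689 IH) (Lpe (K28.f472826 IH) (Lpr_gt (K28.f469045 IH) (Lpe (K28.f469039 IH) (Lpr_cf (K28.f468959 IH) (Lpe (K28.f455123 IH) (Lpe (f468980 IH) (Lpe (f468981 IH) (Lpn (LP (LK LD1_c13 LD2_c12 LD3_c55))))))))))))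
theorem f121941 : Led Lsl_dt (LP (LK LD1_c3 LD2_c25 LD3_c35)) = (LP (LK LD1_c1 LD2_c39 LD3_c26)) :=
  Lre_d IH (LK LD1_c3 LD2_c25 LD3_c35) (LK LD1_c1 LD2_c39 LD3_c26) Lrfl Lrfl
theorem f121963 : Led Lsl_gf (LP (LK LD1_c3 LD2_c25 LD3_c35)) = (LP (LK LD1_c1 LD2_c54 LD3_c27)) :=
  Lgr Lrot144 (Lpr_dt (f121941 IH) (Lpr_gt (K5.f121961 IH) (Lpr_dt (K3.f90888 IH) (Lpe (K2.f94693 IH) (Lpr_df (K2.f94684 IH) (Lpe (K2.f91955 IH) (Lpe (K3.f66667 IH) (Lpr_gf (K3.f97662 IH) (Lpe (K3.f12282 IH) (Lpn (LP (LK LD1_c1 LD2_c54 LD3_c27))))))))))))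
theorem f12293 : Led Lsl_et (LP (LK LD1_c0 LD2_c53 LD3_c51)) = (LP (LK LD1_c1 LD2_c54 LD3_c28)) :=
  Lre_e IH (LK LD1_c0 LD2_c53 LD3_c51) (LK LD1_c1 LD2_c54 LD3_c28) Lrfl Lrfl
theorem f12223 : Led Lsl_gt (LP (LK LD1_c3 LD2_c55 LD3_c44)) = (LP (LK LD1_c1 LD2_c54 LD3_c28)) :=
  Lre_g IH (LK LD1_c3 LD2_c55 LD3_c44) (LK LD1_c1 LD2_c54 LD3_c28) Lrfl Lrfl
theorem f472943 : Led Lsl_dt (LP (LK LD1_c6 LD2_c57 LD3_c33)) = (LP (LK LD1_c13 LD2_c12 LD3_c55)) :=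
  Lre_d IH (LK LD1_c6 LD2_c57 LD3_c33) (LK LD1_c13 LD2_c12 LD3_c55) Lrfl Lrfl
theorem f480704 : Led Lsl_ef (LP (LK LD1_c3 LD2_c55 LD3_c44)) = (LP (LK LD1_c6 LD2_c57 LD3_c33)) :=
  Lgr Lrot114 (Lpr_gt (f12223 IH) (Lpe (f12293 IH) (Lpr_dt (K5.f11842 IH) (Lpe (f121963 IH) (Lpe (K5.f115895 IH) (Lpr_et (K28.f121906 IH) (Lpe (f473331 IH) (Lpr_dt (f460894 IH) (Lpr_gt (f480700 IH) (Lpe (f472943 IH) (Lpn (LP (LK LD1_c6 LD2_c57 LD3_c33)))))))))))))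
theorem f480712 : Led Lsl_et (LP (LK LD1_c3 LD2_c55 LD3_c44)) = (LP (LK LD1_c6 LD2_c57 LD3_c33)) :=
  Lgr Lrot87 (Lpr_ef (f480704 IH) (Lpn (LP (LK LD1_c6 LD2_c57 LD3_c33))))
theorem f63010 : Led Lsl_gt (LP (LK LD1_c3 LD2_c52 LD3_c40)) = (LP (LK LD1_c1 LD2_c52 LD3_c58)) :=
  Lre_g IH (LK LD1_c3 LD2_c52 LD3_c40) (LK LD1_c1 LD2_c52 LD3_c58) Lrfl Lrfl
theorem f473444 : Led Lsl_cf (LP (LK LD1_c3 LD2_c52 LD3_c40)) = (LP (LK LD1_c6 LD2_c57 LD3_c33)) :=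
  Lgr Lrot166 (Lpr_gt (f63010 IH) (Lpr_dt (f62995 IH) (Lpr_gt (K28.f63007 IH) (Lpr_dt (K28.f473436 IH) (Lpe (K28.f468310 IH) (Lpe (K28.f98767 IH) (Lpr_gf (K28.f468957 IH) (Lpe (K28.f455123 IH) (Lpe (f468980 IH) (Lpn (LP (LK LD1_c6 LD2_c57 LD3_c33))))))))))))
theorem f12000 : Led Lsl_gt (LP (LK LD1_c3 LD2_c47 LD3_c9)) = (LP (LK LD1_c1 LD2_c50 LD3_c41)) :=
  Lre_g IH (LK LD1_c3 LD2_c47 LD3_c9) (LK LD1_c1 LD2_c50 LD3_c41) Lrfl Lrfl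
theorem f477621 : Led Lsl_et (LP (LK LD1_c3 LD2_c36 LD3_c20)) = (LP (LK LD1_c6 LD2_c58 LD3_c20)) :=
  Lgr Lrot87 (Lpr_ef (f477615 IH) (Lpn (LP (LK LD1_c6 LD2_c58 LD3_c20))))
theorem f477625 : Led Lsl_cf (LP (LK LD1_c3 LD2_c36 LD3_c20)) = (LP (LK LD1_c3 LD2_c49 LD3_c1)) :=
  Lgr Lrot39 (Lpr_et (f477621 IH) (Lpe (f470786 IH) (Lpe (f477603 IH) (Lpn (LP (LK LD1_c3 LD2_c49 LD3_c1))))))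
theorem f479179 : Led Lsl_bf (LP (LK LD1_c3 LD2_c47 LD3_c9)) = (LP (LK LD1_c3 LD2_c49 LD3_c1)) :=
  Lgr Lrot165 (Lpr_gt (f12000 IH) (Lpr_ct (K3.f11987 IH) (Lpr_gt (f479171 IH) (Lpe (f10153 IH) (Lpr_bt (f10148 IH) (Lpe (K24.f10146 IH) (Lpe (f5945 IH) (Lpr_ct (K3.f5961 IH) (Lpr_gt (f6623 IH) (Lpr_cf (f477625 IH) (Lpn (LP (LK LD1_c3 LD2_c49 LD3_c1)))))))))))))
theorem f473746 : Led Lsl_gt (LP (LK LD1_c6 LD2_c56 LD3_c56)) = (LP (LK LD1_c6 LD2_c57 LD3_c31)) :=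
  Lgr Lrot5 (Lpr_ft (f473743 IH) (Lpr_at (f473730 IH) (Lpe (f457882 IH) (Lpn (LP (LK LD1_c6 LD2_c57 LD3_c31))))))
theorem f472845 : Led Lsl_bt (LP (LK LD1_c3 LD2_c26 LD3_c11)) = (LP (LK LD1_c3 LD2_c26 LD3_c11)) :=
  Lgr Lrot62 (Lpr_af (K28.f472837 IH) (Lpe (K28.f455167 IH) (Lpr_af (K24.f457111 IH) (Lpqs (K24.f457218 IH) (Lpe (K28.f455165 IH) (Lpe (K28.f472843 IH) (Lpn (LP (LK LD1_c3 LD2_c26 LD3_c11)))))))))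
theorem f455084 : Led Lsl_dt (LP (LK LD1_c3 LD2_c26 LD3_c11)) = (LP (LK LD1_c3 LD2_c27 LD3_c39)) :=
  Lre_d IH (LK LD1_c3 LD2_c26 LD3_c11) (LK LD1_c3 LD2_c27 LD3_c39) Lrfl Lrfl
theorem f473187 : Led Lsl_bf (LP (LK LD1_c3 LD2_c27 LD3_c39)) = (LP (LK LD1_c3 LD2_c27 LD3_c39)) :=
  Lgr Lrot93 (Lpr_dt (K28.f458007 IH) (Lpr_bt (f472845 IH) (Lpr_dt (f455084 IH) (Lpn (LP (LK LD1_c3 LD2_c27 LD3_c39))))))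
theorem f458004 : Led Lsl_gt (LP (LK LD1_c3 LD2_c27 LD3_c39)) = (LP (LK LD1_c1 LD2_c40 LD3_c28)) :=
  Lgr Lrot94 (Lpe (K28.f457885 IH) (Lpr_gt (f457882 IH) (Lpr_dt (f457996 IH) (Lpr_gt (K28.f18366 IH) (Lpr_dt (K28.f18355 IH) (Lpe (K28.f19065 IH) (Lpe (K2.f19071 IH) (Lpe (K24.f16742 IH) (Lpe (K28.f19151 IH) (Lpn (LP (LK LD1_c1 LD2_c40 LD3_c28))))))))))))
theorem f98754 : Led Lsl_dt (LP (LK LD1_c6 LD2_c57 LD3_c55)) = (LP (LK LD1_c3 LD2_c27 LD3_c50)) :=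
  Lre_d IH (LK LD1_c6 LD2_c57 LD3_c55) (LK LD1_c3 LD2_c27 LD3_c50) Lrfl Lrfl
theorem f473512 : Led Lsl_ct (LP (LK LD1_c14 LD2_c41 LD3_c26)) = (LP (LK LD1_c7 LD2_c47 LD3_c8)) :=
  Lre_c IH (LK LD1_c14 LD2_c41 LD3_c26) (LK LD1_c7 LD2_c47 LD3_c8) Lrfl Lrfl
theorem f473528 : Led Lsl_gt (LP (LK LD1_c3 LD2_c27 LD3_c50)) = (LP (LK LD1_c6 LD2_c57 LD3_c33)) :=
  Lgr Lrot9 (Lpe (f98754 IH) (Lpr_gt (K28.f464414 IH) (Lpr_ct (K28.f91230 IH) (Lpr_gt (f473517 IH) (Lpr_ct (f473512 IH) (Lpe (f459893 IH) (Lpe (f458092 IH) (Lpe (f63010 IH) (Lpr_cf (f473444 IH) (Lpn (LP (LK LD1_c6 LD2_c57 LD3_c33))))))))))))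
theorem f473440 : Led Lsl_ct (LP (LK LD1_c3 LD2_c52 LD3_c40)) = (LP (LK LD1_c6 LD2_c57 LD3_c33)) :=
  Lgr Lrot8 (Lpr_gt (f63010 IH) (Lpr_dt (f62995 IH) (Lpr_gt (K28.f63007 IH) (Lpr_dt (K28.f473436 IH) (Lpe (K28.f468303 IH) (Lpe (K28.f98767 IH) (Lpr_gf (K28.f468957 IH) (Lpe (K28.f455123 IH) (Lpe (f468980 IH) (Lpn (LP (LK LD1_c6 LD2_c57 LD3_c33))))))))))))
theorem f473936 : Led Lsl_bf (LP (LK LD1_c3 LD2_c53 LD3_c7)) = (LP (LK LD1_c3 LD2_c52 LD3_c40)) :=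
  Lgr Lrot156 (Lpr_gt (f470783 IH) (Lpr_bf (f473930 IH) (Lpe (f473761 IH) (Lpr_gt (f473746 IH) (Lpe (f457881 IH) (Lpe (f473187 IH) (Lpr_gt (f458004 IH) (Lpr_ct (K28.f16714 IH) (Lpr_gt (f473528 IH) (Lpe (f473440 IH) (Lpn (LP (LK LD1_c3 LD2_c52 LD3_c40)))))))))))))
theorem f479193 : Led Lsl_et (LP (LK LD1_c3 LD2_c47 LD3_c9)) = (LP (LK LD1_c3 LD2_c52 LD3_c40)) :=
  Lgr Lrot74 (Lpr_bf (f479179 IH) (Lpr_ef (f477603 IH) (Lpr_bf (f473936 IH) (Lpn (LP (LK LD1_c3 LD2_c52 LD3_c40))))))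
theorem f479195 : Led Lsl_ef (LP (LK LD1_c3 LD2_c47 LD3_c9)) = (LP (LK LD1_c3 LD2_c52 LD3_c40)) :=
  Lgr Lrot88 (Lpr_et (f479193 IH) (Lpn (LP (LK LD1_c3 LD2_c52 LD3_c40))))
theorem f480716 : Led Lsl_cf (LP (LK LD1_c3 LD2_c55 LD3_c44)) = (LP (LK LD1_c3 LD2_c47 LD3_c9)) :=
  Lgr Lrot39 (Lpr_et (f480712 IH) (Lpe (f473444 IH) (Lpe (f479195 IH) (Lpn (LP (LK LD1_c3 LD2_c47 LD3_c9))))))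
theorem f132263 : Led Lsl_af (LP (LK LD1_c1 LD2_c54 LD3_c28)) = (LP (LK LD1_c1 LD2_c40 LD3_c4)) :=
  Lgr Lrot68 (Lpr_ct (K5.f12217 IH) (Lpr_at (K5.f132259 IH) (Lpr_ct (f95057 IH) (Lpn (LP (LK LD1_c1 LD2_c40 LD3_c4))))))
theorem f125875 : Led Lsl_ft (LP (LK LD1_c3 LD2_c26 LD3_c55)) = (LP (LK LD1_c1 LD2_c40 LD3_c4)) :=
  Lre_f IH (LK LD1_c3 LD2_c26 LD3_c55) (LK LD1_c1 LD2_c40 LD3_c4) Lrfl Lrfl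
theorem f439088 : Led Lsl_gf (LP (LK LD1_c3 LD2_c55 LD3_c44)) = (LP (LK LD1_c3 LD2_c26 LD3_c55)) :=
  Lgr Lrot47 (Lpr_gt (f12223 IH) (Lpr_af (f132263 IH) (Lpe (f125875 IH) (Lpn (LP (LK LD1_c3 LD2_c26 LD3_c55))))))
theorem f439091 : Led Lsl_ct (LP (LK LD1_c1 LD2_c40 LD3_c7)) = (LP (LK LD1_c3 LD2_c26 LD3_c55)) :=
  Lre_c IH (LK LD1_c1 LD2_c40 LD3_c7) (LK LD1_c3 LD2_c26 LD3_c55) Lrfl Lrfl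
theorem f479191 : Led Lsl_bt (LP (LK LD1_c3 LD2_c47 LD3_c9)) = (LP (LK LD1_c3 LD2_c49 LD3_c1)) :=
  Lgr Lrot127 (Lpr_bf (f479179 IH) (Lpn (LP (LK LD1_c3 LD2_c49 LD3_c1))))
theorem f440572 : Led Lsl_bf (LP (LK LD1_c1 LD2_c51 LD3_c33)) = (LP (LK LD1_c3 LD2_c42 LD3_c25)) :=
  Lgr Lrot90 (Lpe (f97025 IH) (Lpr_bt (f97936 IH) (Lpr_ct (K28.f97920 IH) (Lpr_bt (K3.f97849 IH) (Lpr_ct (f120956 IH) (Lpn (LP (LK LD1_c3 LD2_c42 LD3_c25))))))))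
theorem f457270 : Led Lsl_ct (LP (LK LD1_c1 LD2_c45 LD3_c51)) = (LP (LK LD1_c3 LD2_c37 LD3_c59)) :=
  Lre_c IH (LK LD1_c1 LD2_c45 LD3_c51) (LK LD1_c3 LD2_c37 LD3_c59) Lrfl Lrfl
theorem f457232 : (LP (LK LD1_c0 LD2_c22 LD3_c13)) = K24.v168 :=
  Lefun (Lecon (Lfl_ff (K24.f450907 IH)) (K24.f457227 IH)) (K24.f450892 IH)
theorem f457331 : Led Lsl_bf (LP (LK LD1_c1 LD2_c45 LD3_c51)) = (LP (LK LD1_c1 LD2_c45 LD3_c51)) :=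
  Lgr Lrot81 (Lpr_at (f450889 IH) (Lpr_bt (f10148 IH) (Lpqs (f457232 IH) (Lpe (K24.f450888 IH) (Lpr_bt (f450890 IH) (Lpr_at (f450891 IH) (Lpn (LP (LK LD1_c1 LD2_c45 LD3_c51)))))))))
def v714 : LQ := Led Lsl_gf (LP (LK LD1_c0 LD2_c49 LD3_c35))
theorem f456903 : Led Lsl_gf (LP (LK LD1_c0 LD2_c49 LD3_c35)) = v714 :=
  Lrfl
theorem f457325 : Led Lsl_gf v714 = (LP (LK LD1_c1 LD2_c45 LD3_c51)) :=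
  Lgr Lrot47 (Lpe (f456903 IH) (Lpr_af (f456908 IH) (Lpr_ff (f457265 IH) (Lpn (LP (LK LD1_c1 LD2_c45 LD3_c51))))))
theorem f480729 : (LP (LK LD1_c1 LD2_c40 LD3_c7)) = v714 :=
  (Llr Lrot125 (Lpr_ct (f439091 IH) (Lpe (f439088 IH) (Lpr_cf (f480716 IH) (Lpr_bt (f479191 IH) (Lpr_gt (f87149 IH) (Lpr_bf (f440572 IH) (Lpe (f440574 IH) (Lpr_gt (f479294 IH) (Lpe (f457270 IH) (Lpe (f457331 IH) (Lpe (f457325 IH) (Lpn v714))))))))))))).symm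
theorem f84790 : Led Lsl_gt (LP (LK LD1_c0 LD2_c24 LD3_c8)) = (LP (LK LD1_c0 LD2_c53 LD3_c42)) :=
  Lre_g IH (LK LD1_c0 LD2_c24 LD3_c8) (LK LD1_c0 LD2_c53 LD3_c42) Lrfl Lrfl
theorem f446416 : Led Lsl_ct (LP (LK LD1_c0 LD2_c53 LD3_c42)) = (LP (LK LD1_c1 LD2_c54 LD3_c16)) :=
  Lre_c IH (LK LD1_c0 LD2_c53 LD3_c42) (LK LD1_c1 LD2_c54 LD3_c16) Lrfl Lrfl
theorem f446417 : Led Lsl_gt (LP (LK LD1_c1 LD2_c54 LD3_c16)) = (LP (LK LD1_c3 LD2_c55 LD3_c22)) :=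
  Lre_g IH (LK LD1_c1 LD2_c54 LD3_c16) (LK LD1_c3 LD2_c55 LD3_c22) Lrfl Lrfl
theorem f480805 : Led Lsl_ct (LP (LK LD1_c3 LD2_c26 LD3_c46)) = (LP (LK LD1_c3 LD2_c55 LD3_c22)) :=
  Lgr Lrot63 (Lpr_bt (f476775 IH) (Lpqs (f480729 IH) (Lpe (f456903 IH) (Lpe (f450894 IH) (Lpr_ct (K24.f450909 IH) (Lpqs (K24.f455974 IH) (Lpr_gt (K24.f12712 IH) (Lpr_cf (K24.f12187 IH) (Lpr_bt (K24.f122767 IH) (Lpr_gt (f84790 IH) (Lpr_ct (f446416 IH) (Lpr_gt (f446417 IH) (Lpn (LP (LK LD1_c3 LD2_c55 LD3_c22)))))))))))))))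
theorem f132227 : Led Lsl_ft (LP (LK LD1_c1 LD2_c40 LD3_c1)) = (LP (LK LD1_c3 LD2_c26 LD3_c46)) :=
  Lre_f IH (LK LD1_c1 LD2_c40 LD3_c1) (LK LD1_c3 LD2_c26 LD3_c46) Lrfl Lrfl
theorem f132190 : Led Lsl_ct (LP (LK LD1_c3 LD2_c26 LD3_c42)) = (LP (LK LD1_c1 LD2_c40 LD3_c1)) :=
  Lre_c IH (LK LD1_c3 LD2_c26 LD3_c42) (LK LD1_c1 LD2_c40 LD3_c1) Lrfl Lrfl
theorem f480814 : Led Lsl_ff (LP (LK LD1_c3 LD2_c26 LD3_c42)) = (LP (LK LD1_c3 LD2_c55 LD3_c22)) :=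
  Lgr Lrot23 (Lpr_ct (f132190 IH) (Lpr_ft (f132227 IH) (Lpr_ct (f480805 IH) (Lpn (LP (LK LD1_c3 LD2_c55 LD3_c22))))))
theorem f132178 : Led Lsl_at (LP (LK LD1_c3 LD2_c26 LD3_c39)) = (LP (LK LD1_c1 LD2_c40 LD3_c1)) :=
  Lre_a IH (LK LD1_c3 LD2_c26 LD3_c39) (LK LD1_c1 LD2_c40 LD3_c1) Lrfl Lrfl
theorem f132179 : Led Lsl_ct (LP (LK LD1_c1 LD2_c40 LD3_c1)) = (LP (LK LD1_c3 LD2_c26 LD3_c42)) :=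
  Lre_c IH (LK LD1_c1 LD2_c40 LD3_c1) (LK LD1_c3 LD2_c26 LD3_c42) Lrfl Lrfl
theorem f132180 : Led Lsl_at (LP (LK LD1_c3 LD2_c26 LD3_c42)) = (LP (LK LD1_c3 LD2_c42 LD3_c12)) :=
  Lgr Lrot107 (Lpe (f132179 IH) (Lpe (f132178 IH) (Lpr_cf (K5.f132176 IH) (Lpn (LP (LK LD1_c3 LD2_c42 LD3_c12))))))
theorem f480835 : Led Lsl_at (LP (LK LD1_c7 LD2_c25 LD3_c6)) = (LP (LK LD1_c3 LD2_c55 LD3_c22)) :=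
  Lgr Lrot66 (Lpe (K5.f132169 IH) (Lpe (f132180 IH) (Lpr_ff (f480814 IH) (Lpn (LP (LK LD1_c3 LD2_c55 LD3_c22))))))
theorem f480903 : Led Lsl_gt (LP (LK LD1_c3 LD2_c42 LD3_c12)) = (LP (LK LD1_c1 LD2_c54 LD3_c16)) :=
  Lgr Lrot5 (Lpr_ft (K5.f132169 IH) (Lpr_at (f480835 IH) (Lpe (f446417 IH) (Lpn (LP (LK LD1_c1 LD2_c54 LD3_c16))))))
theorem f456617 : Led Lsl_bt (LP (LK LD1_c0 LD2_c53 LD3_c42)) = (LP (LK LD1_c1 LD2_c54 LD3_c15)) :=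
  Lre_b IH (LK LD1_c0 LD2_c53 LD3_c42) (LK LD1_c1 LD2_c54 LD3_c15) Lrfl Lrfl
theorem f480912 : Led Lsl_gf (LP (LK LD1_c1 LD2_c51 LD3_c40)) = (LP (LK LD1_c1 LD2_c54 LD3_c15)) :=
  Lgr Lrot181 (Lpe (f477949 IH) (Lpr_gt (f477976 IH) (Lpe (f10840 IH) (Lpr_bt (f97104 IH) (Lpr_gt (f467479 IH) (Lpr_bf (K5.f132251 IH) (Lpr_ct (f132183 IH) (Lpr_gt (f480903 IH) (Lpe (f446416 IH) (Lpr_bt (f456617 IH) (Lpn (LP (LK LD1_c1 LD2_c54 LD3_c15)))))))))))))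
theorem f477956 : Led Lsl_ct (LP (LK LD1_c3 LD2_c37 LD3_c18)) = (LP (LK LD1_c1 LD2_c51 LD3_c40)) :=
  Lgr Lrot59 (Lpr_cf (f477949 IH) (Lpn (LP (LK LD1_c1 LD2_c51 LD3_c40))))
theorem f477964 : Led Lsl_gt (LP (LK LD1_c7 LD2_c15 LD3_c8)) = (LP (LK LD1_c13 LD2_c43 LD3_c27)) :=
  Lre_g IH (LK LD1_c7 LD2_c15 LD3_c8) (LK LD1_c13 LD2_c43 LD3_c27) Lrfl Lrfl
theorem f437652 : Led Lsl_bt (LP (LK LD1_c1 LD2_c54 LD3_c15)) = (LP (LK LD1_c0 LD2_c53 LD3_c42)) :=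
  Lre_b IH (LK LD1_c1 LD2_c54 LD3_c15) (LK LD1_c0 LD2_c53 LD3_c42) Lrfl Lrfl
theorem f6629 : Led Lsl_gt (LP (LK LD1_c3 LD2_c36 LD3_c19)) = (LP (LK LD1_c1 LD2_c45 LD3_c30)) :=
  Lre_g IH (LK LD1_c3 LD2_c36 LD3_c19) (LK LD1_c1 LD2_c45 LD3_c30) Lrfl Lrfl
theorem f456615 : Led Lsl_ct (LP (LK LD1_c1 LD2_c54 LD3_c15)) = (LP (LK LD1_c3 LD2_c36 LD3_c19)) :=
  Lgr Lrot64 (Lpr_bt (f437652 IH) (Lpe (f84790 IH) (Lpe (K24.f122767 IH) (Lpe (K24.f12187 IH) (Lpe (K24.f12712 IH) (Lpq (K24.f455974 IH) (Lpe (K24.f450909 IH) (Lpe (K28.f10898 IH) (Lpe (f5945 IH) (Lpr_ct (K3.f5961 IH) (Lpe (f6629 IH) (Lpn (LP (LK LD1_c3 LD2_c36 LD3_c19))))))))))))))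
theorem f456622 : Led Lsl_cf (LP (LK LD1_c1 LD2_c54 LD3_c15)) = (LP (LK LD1_c3 LD2_c36 LD3_c19)) :=
  Lgr Lrot11 (Lpr_ct (f456615 IH) (Lpn (LP (LK LD1_c3 LD2_c36 LD3_c19))))
theorem f10660 : Led Lsl_gt (LP (LK LD1_c1 LD2_c45 LD3_c0)) = (LP (LK LD1_c3 LD2_c36 LD3_c19)) :=
  Lre_g IH (LK LD1_c1 LD2_c45 LD3_c0) (LK LD1_c3 LD2_c36 LD3_c19) Lrfl Lrfl
theorem f6383 : Led Lsl_bt (LP (LK LD1_c3 LD2_c36 LD3_c18)) = (LP (LK LD1_c1 LD2_c45 LD3_c0)) :=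
  Lre_b IH (LK LD1_c3 LD2_c36 LD3_c18) (LK LD1_c1 LD2_c45 LD3_c0) Lrfl Lrfl
theorem f10491 : Led Lsl_ft (LP (LK LD1_c1 LD2_c43 LD3_c4)) = (LP (LK LD1_c1 LD2_c44 LD3_c61)) :=
  Lgr Lrot75 (Lpe (K3.f6090 IH) (Lpr_ff (K3.f10478 IH) (Lpe (K3.f6088 IH) (Lpn (LP (LK LD1_c1 LD2_c44 LD3_c61))))))
theorem f10620 : Led Lsl_cf (LP (LK LD1_c1 LD2_c43 LD3_c4)) = (LP (LK LD1_c1 LD2_c43 LD3_c4)) :=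
  Lgr Lrot108 (Lpr_ft (f10491 IH) (Lpe (K3.f10448 IH) (Lpe (K3.f10470 IH) (Lpn (LP (LK LD1_c1 LD2_c43 LD3_c4))))))
theorem f6388 : Led Lsl_et (LP (LK LD1_c1 LD2_c43 LD3_c4)) = (LP (LK LD1_c3 LD2_c32 LD3_c47)) :=
  Lre_e IH (LK LD1_c1 LD2_c43 LD3_c4) (LK LD1_c3 LD2_c32 LD3_c47) Lrfl Lrfl
theorem f6568 : Led Lsl_et (LP (LK LD1_c3 LD2_c32 LD3_c47)) = (LP (LK LD1_c1 LD2_c43 LD3_c4)) :=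
  Lre_e IH (LK LD1_c3 LD2_c32 LD3_c47) (LK LD1_c1 LD2_c43 LD3_c4) Lrfl Lrfl
theorem f10632 : Led Lsl_ct (LP (LK LD1_c3 LD2_c32 LD3_c47)) = (LP (LK LD1_c3 LD2_c32 LD3_c47)) :=
  Lgr Lrot15 (Lpe (f6388 IH) (Lpr_cf (f10620 IH) (Lpe (f6568 IH) (Lpn (LP (LK LD1_c3 LD2_c32 LD3_c47))))))
theorem f5998 : Led Lsl_at (LP (LK LD1_c0 LD2_c49 LD3_c24)) = (LP (LK LD1_c1 LD2_c45 LD3_c0)) :=
  Lre_a IH (LK LD1_c0 LD2_c49 LD3_c24) (LK LD1_c1 LD2_c45 LD3_c0) Lrfl Lrfl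
theorem f6000 : Led Lsl_at (LP (LK LD1_c1 LD2_c43 LD3_c6)) = (LP (LK LD1_c0 LD2_c48 LD3_c26)) :=
  Lre_a IH (LK LD1_c1 LD2_c43 LD3_c6) (LK LD1_c0 LD2_c48 LD3_c26) Lrfl Lrfl
theorem f6001 : Led Lsl_bt (LP (LK LD1_c3 LD2_c32 LD3_c47)) = (LP (LK LD1_c1 LD2_c43 LD3_c6)) :=
  Lre_b IH (LK LD1_c3 LD2_c32 LD3_c47) (LK LD1_c1 LD2_c43 LD3_c6) Lrfl Lrfl
theorem f6002 : Led Lsl_at (LP (LK LD1_c3 LD2_c36 LD3_c18)) = (LP (LK LD1_c3 LD2_c32 LD3_c47)) :=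
  Lgr Lrot67 (Lpe (f5999 IH) (Lpe (f5998 IH) (Lpr_bf (K3.f5984 IH) (Lpe (f6000 IH) (Lpe (f6001 IH) (Lpn (LP (LK LD1_c3 LD2_c32 LD3_c47))))))))
theorem f6365 : Led Lsl_ft (LP (LK LD1_c7 LD2_c6 LD3_c29)) = (LP (LK LD1_c3 LD2_c32 LD3_c47)) :=
  Lre_f IH (LK LD1_c7 LD2_c6 LD3_c29) (LK LD1_c3 LD2_c32 LD3_c47) Lrfl Lrfl
theorem f6366 : Led Lsl_af (LP (LK LD1_c3 LD2_c36 LD3_c18)) = (LP (LK LD1_c3 LD2_c32 LD3_c47)) :=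
  Lgr Lrot45 (Lpr_ft (f6364 IH) (Lpr_at (f6346 IH) (Lpr_ft (f6365 IH) (Lpn (LP (LK LD1_c3 LD2_c32 LD3_c47))))))
theorem f10634 : Led Lsl_cf (LP (LK LD1_c3 LD2_c36 LD3_c18)) = (LP (LK LD1_c3 LD2_c36 LD3_c18)) :=
  Lgr Lrot1 (Lpr_at (f6002 IH) (Lpr_ct (f10632 IH) (Lpe (f6366 IH) (Lpn (LP (LK LD1_c3 LD2_c36 LD3_c18))))))
theorem f6391 : Led Lsl_gt (LP (LK LD1_c7 LD2_c12 LD3_c59)) = (LP (LK LD1_c3 LD2_c36 LD3_c18)) :=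
  Lre_g IH (LK LD1_c7 LD2_c12 LD3_c59) (LK LD1_c3 LD2_c36 LD3_c18) Lrfl Lrfl
theorem f6403 : Led Lsl_ct (LP (LK LD1_c13 LD2_c39 LD3_c30)) = (LP (LK LD1_c7 LD2_c12 LD3_c59)) :=
  Lre_c IH (LK LD1_c13 LD2_c39 LD3_c30) (LK LD1_c7 LD2_c12 LD3_c59) Lrfl Lrfl
theorem f481012 : Led Lsl_bf (LP (LK LD1_c13 LD2_c43 LD3_c27)) = (LP (LK LD1_c13 LD2_c39 LD3_c30)) :=
  Lgr Lrot34 (Lpe (f477964 IH) (Lpe (f477953 IH) (Lpr_ct (f477956 IH) (Lpr_gf (f480912 IH) (Lpr_cf (f456622 IH) (Lpe (f10660 IH) (Lpe (f6383 IH) (Lpe (f10634 IH) (Lpe (f6391 IH) (Lpe (f6403 IH) (Lpn (LP (LK LD1_c13 LD2_c39 LD3_c30)))))))))))))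
theorem f6392 : Led Lsl_gf (LP (LK LD1_c7 LD2_c12 LD3_c59)) = (LP (LK LD1_c7 LD2_c6 LD3_c29)) :=
  Lgr Lrot47 (Lpr_gt (f6391 IH) (Lpr_af (f6366 IH) (Lpe (f6365 IH) (Lpn (LP (LK LD1_c7 LD2_c6 LD3_c29))))))
theorem f6583 : Led Lsl_ft (LP (LK LD1_c3 LD2_c32 LD3_c47)) = (LP (LK LD1_c7 LD2_c6 LD3_c29)) :=
  Lre_f IH (LK LD1_c3 LD2_c32 LD3_c47) (LK LD1_c7 LD2_c6 LD3_c29) Lrfl Lrfl
theorem f10638 : Led Lsl_cf (LP (LK LD1_c7 LD2_c6 LD3_c29)) = (LP (LK LD1_c7 LD2_c6 LD3_c29)) :=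
  Lgr Lrot108 (Lpr_ft (f6365 IH) (Lpr_ct (f10632 IH) (Lpr_ft (f6583 IH) (Lpn (LP (LK LD1_c7 LD2_c6 LD3_c29))))))
theorem f6363 : Led Lsl_bt (LP (LK LD1_c7 LD2_c6 LD3_c29)) = (LP (LK LD1_c3 LD2_c32 LD3_c52)) :=
  Lre_b IH (LK LD1_c7 LD2_c6 LD3_c29) (LK LD1_c3 LD2_c32 LD3_c52) Lrfl Lrfl
theorem f481019 : Led Lsl_gt (LP (LK LD1_c13 LD2_c43 LD3_c27)) = (LP (LK LD1_c7 LD2_c39 LD3_c13)) :=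
  Lgr Lrot82 (Lpr_bf (f481012 IH) (Lpr_ct (f6403 IH) (Lpr_gf (f6392 IH) (Lpr_cf (f10638 IH) (Lpr_bt (f6363 IH) (Lpe (K28.f10652 IH) (Lpe (f6662 IH) (Lpr_ct (f6663 IH) (Lpe (f477989 IH) (Lpe (K28.f89804 IH) (Lpn (LP (LK LD1_c7 LD2_c39 LD3_c13)))))))))))))
theorem f481021 : Led Lsl_ft (LP (LK LD1_c7 LD2_c15 LD3_c8)) = (LP (LK LD1_c3 LD2_c49 LD3_c8)) :=
  Lgr Lrot2 (Lpr_gt (f477964 IH) (Lpr_gt (f481019 IH) (Lpe (f96905 IH) (Lpn (LP (LK LD1_c3 LD2_c49 LD3_c8))))))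
theorem f481042 : Led Lsl_dt (LP (LK LD1_c13 LD2_c43 LD3_c30)) = (LP (LK LD1_c7 LD2_c15 LD3_c8)) :=
  Lre_d IH (LK LD1_c13 LD2_c43 LD3_c30) (LK LD1_c7 LD2_c15 LD3_c8) Lrfl Lrfl
theorem f481043 : Led Lsl_dt (LP (LK LD1_c3 LD2_c49 LD3_c8)) = (LP (LK LD1_c7 LD2_c39 LD3_c17)) :=
  Lre_d IH (LK LD1_c3 LD2_c49 LD3_c8) (LK LD1_c7 LD2_c39 LD3_c17) Lrfl Lrfl
theorem f481044 : Led Lsl_ff (LP (LK LD1_c13 LD2_c43 LD3_c30)) = (LP (LK LD1_c7 LD2_c39 LD3_c17)) :=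
  Lgr Lrot19 (Lpr_dt (f481042 IH) (Lpr_ft (f481021 IH) (Lpr_dt (f481043 IH) (Lpn (LP (LK LD1_c7 LD2_c39 LD3_c17))))))
theorem f481051 : Led Lsl_bt (LP (LK LD1_c13 LD2_c43 LD3_c30)) = (LP (LK LD1_c7 LD2_c15 LD3_c9)) :=
  Lre_b IH (LK LD1_c13 LD2_c43 LD3_c30) (LK LD1_c7 LD2_c15 LD3_c9) Lrfl Lrfl
theorem f96891 : Led Lsl_bt (LP (LK LD1_c3 LD2_c49 LD3_c10)) = (LP (LK LD1_c7 LD2_c39 LD3_c17)) :=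
  Lre_b IH (LK LD1_c3 LD2_c49 LD3_c10) (LK LD1_c7 LD2_c39 LD3_c17) Lrfl Lrfl
theorem f481052 : Led Lsl_ft (LP (LK LD1_c7 LD2_c15 LD3_c9)) = (LP (LK LD1_c3 LD2_c49 LD3_c10)) :=
  Lgr Lrot75 (Lpe (f481051 IH) (Lpr_ff (f481044 IH) (Lpe (f96891 IH) (Lpn (LP (LK LD1_c3 LD2_c49 LD3_c10))))))
theorem f97986 : Led Lsl_gt (LP (LK LD1_c13 LD2_c40 LD3_c32)) = (LP (LK LD1_c7 LD2_c13 LD3_c28)) :=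
  Lre_g IH (LK LD1_c13 LD2_c40 LD3_c32) (LK LD1_c7 LD2_c13 LD3_c28) Lrfl Lrfl
theorem f481203 : Led Lsl_gt (LP (LK LD1_c7 LD2_c15 LD3_c9)) = (LP (LK LD1_c13 LD2_c40 LD3_c32)) :=
  Lgr Lrot5 (Lpr_ft (f481052 IH) (Lpe (K28.f97972 IH) (Lpe (f97986 IH) (Lpn (LP (LK LD1_c13 LD2_c40 LD3_c32))))))
theorem f477962 : Led Lsl_dt (LP (LK LD1_c7 LD2_c15 LD3_c9)) = (LP (LK LD1_c3 LD2_c37 LD3_c18)) :=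
  Lre_d IH (LK LD1_c7 LD2_c15 LD3_c9) (LK LD1_c3 LD2_c37 LD3_c18) Lrfl Lrfl
theorem f6245 : Led Lsl_ct (LP (LK LD1_c3 LD2_c37 LD3_c15)) = (LP (LK LD1_c1 LD2_c45 LD3_c29)) :=
  Lre_c IH (LK LD1_c3 LD2_c37 LD3_c15) (LK LD1_c1 LD2_c45 LD3_c29) Lrfl Lrfl
theorem f6293 : Led Lsl_gt (LP (LK LD1_c7 LD2_c15 LD3_c1)) = (LP (LK LD1_c3 LD2_c37 LD3_c15)) :=
  Lre_g IH (LK LD1_c7 LD2_c15 LD3_c1) (LK LD1_c3 LD2_c37 LD3_c15) Lrfl Lrfl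
theorem f481207 : Led Lsl_cf (LP (LK LD1_c7 LD2_c15 LD3_c1)) = (LP (LK LD1_c13 LD2_c40 LD3_c32)) :=
  Lgr Lrot169 (Lpr_gt (f6293 IH) (Lpr_ct (f6245 IH) (Lpe (K28.f6007 IH) (Lpe (f5907 IH) (Lpe (f6650 IH) (Lpe (f6619 IH) (Lpe (f477976 IH) (Lpe (f477962 IH) (Lpr_gt (f481203 IH) (Lpn (LP (LK LD1_c13 LD2_c40 LD3_c32))))))))))))
theorem f478210 : Led Lsl_dt (LP (LK LD1_c3 LD2_c37 LD3_c15)) = (LP (LK LD1_c7 LD2_c15 LD3_c3)) :=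
  Lre_d IH (LK LD1_c3 LD2_c37 LD3_c15) (LK LD1_c7 LD2_c15 LD3_c3) Lrfl Lrfl
theorem f478211 : Led Lsl_gt (LP (LK LD1_c7 LD2_c15 LD3_c3)) = (LP (LK LD1_c13 LD2_c43 LD3_c20)) :=
  Lre_g IH (LK LD1_c7 LD2_c15 LD3_c3) (LK LD1_c13 LD2_c43 LD3_c20) Lrfl Lrfl
theorem f97082 : Led Lsl_dt (LP (LK LD1_c7 LD2_c13 LD3_c28)) = (LP (LK LD1_c3 LD2_c36 LD3_c34)) :=
  Lre_d IH (LK LD1_c7 LD2_c13 LD3_c28) (LK LD1_c3 LD2_c36 LD3_c34) Lrfl Lrfl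
theorem f97953 : Led Lsl_gt (LP (LK LD1_c7 LD2_c42 LD3_c46)) = (LP (LK LD1_c3 LD2_c50 LD3_c50)) :=
  Lre_g IH (LK LD1_c7 LD2_c42 LD3_c46) (LK LD1_c3 LD2_c50 LD3_c50) Lrfl Lrfl
theorem f478125 : Led Lsl_gt (LP (LK LD1_c13 LD2_c45 LD3_c49)) = (LP (LK LD1_c7 LD2_c42 LD3_c46)) :=
  Lgr Lrot5 (Lpr_ft (f478117 IH) (Lpr_at (K3.f97850 IH) (Lpe (f97953 IH) (Lpn (LP (LK LD1_c7 LD2_c42 LD3_c46))))))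
theorem f10637 : Led Lsl_ct (LP (LK LD1_c1 LD2_c43 LD3_c6)) = (LP (LK LD1_c0 LD2_c48 LD3_c12)) :=
  Lre_c IH (LK LD1_c1 LD2_c43 LD3_c6) (LK LD1_c0 LD2_c48 LD3_c12) Lrfl Lrfl
theorem f6386 : Led Lsl_bt (LP (LK LD1_c1 LD2_c43 LD3_c6)) = (LP (LK LD1_c3 LD2_c32 LD3_c47)) :=
  Lre_b IH (LK LD1_c1 LD2_c43 LD3_c6) (LK LD1_c3 LD2_c32 LD3_c47) Lrfl Lrfl
theorem f6584 : Led Lsl_gt (LP (LK LD1_c7 LD2_c6 LD3_c27)) = (LP (LK LD1_c3 LD2_c32 LD3_c47)) :=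
  Lre_g IH (LK LD1_c7 LD2_c6 LD3_c27) (LK LD1_c3 LD2_c32 LD3_c47) Lrfl Lrfl
theorem f6598 : Led Lsl_bt (LP (LK LD1_c13 LD2_c28 LD3_c2)) = (LP (LK LD1_c7 LD2_c6 LD3_c27)) :=
  Lre_b IH (LK LD1_c13 LD2_c28 LD3_c2) (LK LD1_c7 LD2_c6 LD3_c27) Lrfl Lrfl
theorem f478127 : Led Lsl_ct (LP (LK LD1_c13 LD2_c28 LD3_c2)) = (LP (LK LD1_c7 LD2_c42 LD3_c46)) :=
  Lgr Lrot63 (Lpr_bt (f6598 IH) (Lpr_gt (f6584 IH) (Lpe (f6386 IH) (Lpr_ct (f10637 IH) (Lpr_gt (K3.f10305 IH) (Lpe (K28.f6626 IH) (Lpr_bt (f6627 IH) (Lpr_gt (f442172 IH) (Lpr_ct (f478048 IH) (Lpr_gt (f478125 IH) (Lpn (LP (LK LD1_c7 LD2_c42 LD3_c46)))))))))))))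
theorem f6582 : Led Lsl_ft (LP (LK LD1_c7 LD2_c12 LD3_c61)) = (LP (LK LD1_c3 LD2_c36 LD3_c18)) :=
  Lre_f IH (LK LD1_c7 LD2_c12 LD3_c61) (LK LD1_c3 LD2_c36 LD3_c18) Lrfl Lrfl
theorem f6585 : Led Lsl_gt (LP (LK LD1_c7 LD2_c12 LD3_c61)) = (LP (LK LD1_c7 LD2_c6 LD3_c27)) :=
  Lgr Lrot5 (Lpr_ft (f6582 IH) (Lpr_at (f6002 IH) (Lpe (f6584 IH) (Lpn (LP (LK LD1_c7 LD2_c6 LD3_c27))))))
theorem f6360 : Led Lsl_bt (LP (LK LD1_c3 LD2_c36 LD3_c22)) = (LP (LK LD1_c7 LD2_c12 LD3_c61)) :=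
  Lre_b IH (LK LD1_c3 LD2_c36 LD3_c22) (LK LD1_c7 LD2_c12 LD3_c61) Lrfl Lrfl
theorem f6595 : Led Lsl_ct (LP (LK LD1_c3 LD2_c36 LD3_c22)) = (LP (LK LD1_c1 LD2_c45 LD3_c4)) :=
  Lre_c IH (LK LD1_c3 LD2_c36 LD3_c22) (LK LD1_c1 LD2_c45 LD3_c4) Lrfl Lrfl
theorem f6596 : Led Lsl_gt (LP (LK LD1_c0 LD2_c49 LD3_c25)) = (LP (LK LD1_c1 LD2_c45 LD3_c4)) :=
  Lre_g IH (LK LD1_c0 LD2_c49 LD3_c25) (LK LD1_c1 LD2_c45 LD3_c4) Lrfl Lrfl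
theorem f6049 : Led Lsl_ct (LP (LK LD1_c1 LD2_c45 LD3_c32)) = (LP (LK LD1_c0 LD2_c49 LD3_c25)) :=
  Lre_c IH (LK LD1_c1 LD2_c45 LD3_c32) (LK LD1_c0 LD2_c49 LD3_c25) Lrfl Lrfl
theorem f478142 : Led Lsl_gf (LP (LK LD1_c1 LD2_c45 LD3_c32)) = (LP (LK LD1_c3 LD2_c36 LD3_c34)) :=
  Lgr Lrot181 (Lpr_ct (f6049 IH) (Lpr_gt (f6596 IH) (Lpe (f6595 IH) (Lpr_bt (f6360 IH) (Lpr_gt (f6585 IH) (Lpe (f6598 IH) (Lpr_ct (f478127 IH) (Lpr_gt (f97953 IH) (Lpe (K28.f97920 IH) (Lpr_bt (f97106 IH) (Lpn (LP (LK LD1_c3 LD2_c36 LD3_c34)))))))))))))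
theorem f456864 : Led Lsl_dt (LP (LK LD1_c1 LD2_c45 LD3_c32)) = (LP (LK LD1_c3 LD2_c37 LD3_c20)) :=
  Lre_d IH (LK LD1_c1 LD2_c45 LD3_c32) (LK LD1_c3 LD2_c37 LD3_c20) Lrfl Lrfl
theorem f456857 : Led Lsl_ct (LP (LK LD1_c7 LD2_c15 LD3_c15)) = (LP (LK LD1_c3 LD2_c37 LD3_c20)) :=
  Lre_c IH (LK LD1_c7 LD2_c15 LD3_c15) (LK LD1_c3 LD2_c37 LD3_c20) Lrfl Lrfl
theorem f481265 : Led Lsl_dt (LP (LK LD1_c13 LD2_c43 LD3_c20)) = (LP (LK LD1_c7 LD2_c15 LD3_c15)) :=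
  Lgr Lrot105 (Lpe (f478211 IH) (Lpe (f478210 IH) (Lpe (f6293 IH) (Lpr_cf (f481207 IH) (Lpr_gt (f97986 IH) (Lpr_dt (f97082 IH) (Lpe (f478142 IH) (Lpr_dt (f456864 IH) (Lpe (f456857 IH) (Lpn (LP (LK LD1_c7 LD2_c15 LD3_c15))))))))))))
theorem f456856 : Led Lsl_dt (LP (LK LD1_c3 LD2_c37 LD3_c20)) = (LP (LK LD1_c1 LD2_c45 LD3_c32)) :=
  Lre_d IH (LK LD1_c3 LD2_c37 LD3_c20) (LK LD1_c1 LD2_c45 LD3_c32) Lrfl Lrfl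
def v704 : LQ := Led Lsl_at (LP (LK LD1_c0 LD2_c49 LD3_c25))
theorem f456852 : Led Lsl_at (LP (LK LD1_c0 LD2_c49 LD3_c25)) = v704 :=
  Lrfl
theorem f456853 : Led Lsl_af (LP (LK LD1_c0 LD2_c49 LD3_c25)) = v704 :=
  Lgr Lrot0 (Lpr_at (f456852 IH) (Lpn v704))
theorem f456855 : Led Lsl_ft (LP (LK LD1_c0 LD2_c49 LD3_c26)) = v704 :=
  Lgr Lrot2 (Lpr_gt (f6650 IH) (Lpr_gt (f5931 IH) (Lpr_af (f456853 IH) (Lpn v704))))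
theorem f10818 : Led Lsl_dt (LP (LK LD1_c0 LD2_c49 LD3_c26)) = (LP (LK LD1_c1 LD2_c45 LD3_c35)) :=
  Lre_d IH (LK LD1_c0 LD2_c49 LD3_c26) (LK LD1_c1 LD2_c45 LD3_c35) Lrfl Lrfl
theorem f10837 : Led Lsl_ct (LP (LK LD1_c1 LD2_c45 LD3_c35)) = (LP (LK LD1_c3 LD2_c37 LD3_c28)) :=
  Lre_c IH (LK LD1_c1 LD2_c45 LD3_c35) (LK LD1_c3 LD2_c37 LD3_c28) Lrfl Lrfl
theorem f456858 : Led Lsl_dt (LP (LK LD1_c3 LD2_c37 LD3_c28)) = (LP (LK LD1_c7 LD2_c15 LD3_c27)) :=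
  Lre_d IH (LK LD1_c3 LD2_c37 LD3_c28) (LK LD1_c7 LD2_c15 LD3_c27) Lrfl Lrfl
theorem f481271 : Led Lsl_cf (LP (LK LD1_c13 LD2_c43 LD3_c20)) = (LP (LK LD1_c7 LD2_c15 LD3_c27)) :=
  Lgr Lrot116 (Lpr_dt (f481265 IH) (Lpr_ct (f456857 IH) (Lpr_dt (f456856 IH) (Lpr_ct (f6049 IH) (Lpr_af (f456853 IH) (Lpe (f456855 IH) (Lpr_dt (f10818 IH) (Lpr_ct (f10837 IH) (Lpr_dt (f456858 IH) (Lpn (LP (LK LD1_c7 LD2_c15 LD3_c27))))))))))))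
theorem f481272 : Led Lsl_ct (LP (LK LD1_c7 LD2_c15 LD3_c27)) = (LP (LK LD1_c13 LD2_c43 LD3_c20)) :=
  Leop (Lpr_cf (f481271 IH) (Lpn (LP (LK LD1_c7 LD2_c15 LD3_c27))))
theorem seed_73 : LEOK LG_c (LK LD1_c7 LD2_c15 LD3_c27) :=
  Leoe_c (LK LD1_c7 LD2_c15 LD3_c27) (f481272 IH)
theorem f459788 : Led Lsl_et (LP (LK LD1_c0 LD2_c52 LD3_c34)) = (LP (LK LD1_c1 LD2_c51 LD3_c32)) :=
  Lre_e IH (LK LD1_c0 LD2_c52 LD3_c34) (LK LD1_c1 LD2_c51 LD3_c32) Lrfl Lrfl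
theorem f467701 : Led Lsl_bf (LP (LK LD1_c0 LD2_c53 LD3_c35)) = (LP (LK LD1_c1 LD2_c51 LD3_c32)) :=
  Lgr Lrot96 (Lpr_et (K24.f12713 IH) (Lpr_bt (K28.f451171 IH) (Lpq (K28.f467690 IH) (Lpr_et (f459788 IH) (Lpn (LP (LK LD1_c1 LD2_c51 LD3_c32)))))))
theorem f467705 : Led Lsl_ct (LP (LK LD1_c3 LD2_c48 LD3_c61)) = (LP (LK LD1_c1 LD2_c51 LD3_c32)) :=
  Lre_c IH (LK LD1_c3 LD2_c48 LD3_c61) (LK LD1_c1 LD2_c51 LD3_c32) Lrfl Lrfl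
theorem f467706 : Led Lsl_bt (LP (LK LD1_c3 LD2_c38 LD3_c1)) = (LP (LK LD1_c3 LD2_c48 LD3_c61)) :=
  Lgr Lrot128 (Lpe (K28.f455985 IH) (Lpe (K24.f455984 IH) (Lpr_cf (K24.f455982 IH) (Lpr_bf (f467701 IH) (Lpe (f467705 IH) (Lpn (LP (LK LD1_c3 LD2_c48 LD3_c61))))))))
theorem f467715 : Led Lsl_et (LP (LK LD1_c3 LD2_c48 LD3_c61)) = (LP (LK LD1_c1 LD2_c51 LD3_c30)) :=
  Lre_e IH (LK LD1_c3 LD2_c48 LD3_c61) (LK LD1_c1 LD2_c51 LD3_c30) Lrfl Lrfl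
theorem f467716 : Led Lsl_bf (LP (LK LD1_c1 LD2_c45 LD3_c53)) = (LP (LK LD1_c1 LD2_c51 LD3_c30)) :=
  Lgr Lrot96 (Lpr_et (f457278 IH) (Lpr_bt (f467706 IH) (Lpr_et (f467715 IH) (Lpn (LP (LK LD1_c1 LD2_c51 LD3_c30))))))
theorem f467722 : Led Lsl_ft (LP (LK LD1_c1 LD2_c53 LD3_c58)) = (LP (LK LD1_c1 LD2_c51 LD3_c30)) :=
  Lgr Lrot75 (Lpr_bf (f456649 IH) (Lpe (f457279 IH) (Lpr_bf (f467716 IH) (Lpn (LP (LK LD1_c1 LD2_c51 LD3_c30))))))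
theorem f467728 : Led Lsl_ff (LP (LK LD1_c1 LD2_c53 LD3_c58)) = (LP (LK LD1_c1 LD2_c51 LD3_c30)) :=
  Lgr Lrot3 (Lpr_ft (f467722 IH) (Lpn (LP (LK LD1_c1 LD2_c51 LD3_c30))))
theorem f456655 : Led Lsl_dt (LP (LK LD1_c1 LD2_c53 LD3_c58)) = (LP (LK LD1_c3 LD2_c54 LD3_c45)) :=
  Lre_d IH (LK LD1_c1 LD2_c53 LD3_c58) (LK LD1_c3 LD2_c54 LD3_c45) Lrfl Lrfl
theorem f459689 : Led Lsl_dt (LP (LK LD1_c3 LD2_c48 LD3_c60)) = (LP (LK LD1_c1 LD2_c51 LD3_c30)) :=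
  Lre_d IH (LK LD1_c3 LD2_c48 LD3_c60) (LK LD1_c1 LD2_c51 LD3_c30) Lrfl Lrfl
theorem f467730 : Led Lsl_ft (LP (LK LD1_c3 LD2_c54 LD3_c45)) = (LP (LK LD1_c3 LD2_c48 LD3_c60)) :=
  Lgr Lrot54 (Lpe (f456655 IH) (Lpr_ff (f467728 IH) (Lpe (f459689 IH) (Lpn (LP (LK LD1_c3 LD2_c48 LD3_c60))))))
theorem f145394 : Led Lsl_dt (LP (LK LD1_c3 LD2_c54 LD3_c45)) = (LP (LK LD1_c1 LD2_c53 LD3_c58)) :=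
  Lre_d IH (LK LD1_c3 LD2_c54 LD3_c45) (LK LD1_c1 LD2_c53 LD3_c58) Lrfl Lrfl
theorem f456726 : Led Lsl_dt (LP (LK LD1_c0 LD2_c53 LD3_c32)) = (LP (LK LD1_c1 LD2_c53 LD3_c59)) :=
  Lre_d IH (LK LD1_c0 LD2_c53 LD3_c32) (LK LD1_c1 LD2_c53 LD3_c59) Lrfl Lrfl
theorem f446409 : Led Lsl_ct (LP (LK LD1_c1 LD2_c53 LD3_c59)) = (LP (LK LD1_c3 LD2_c54 LD3_c46)) :=
  Lre_c IH (LK LD1_c1 LD2_c53 LD3_c59) (LK LD1_c3 LD2_c54 LD3_c46) Lrfl Lrfl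
theorem f457249 : Led Lsl_dt (LP (LK LD1_c3 LD2_c54 LD3_c46)) = (LP (LK LD1_c7 LD2_c51 LD3_c12)) :=
  Lre_d IH (LK LD1_c3 LD2_c54 LD3_c46) (LK LD1_c7 LD2_c51 LD3_c12) Lrfl Lrfl
theorem f457250 : Led Lsl_ct (LP (LK LD1_c7 LD2_c51 LD3_c12)) = (LP (LK LD1_c14 LD2_c48 LD3_c49)) :=
  Lre_c IH (LK LD1_c7 LD2_c51 LD3_c12) (LK LD1_c14 LD2_c48 LD3_c49) Lrfl Lrfl
theorem f88618 : Led Lsl_gt (LP (LK LD1_c1 LD2_c50 LD3_c40)) = (LP (LK LD1_c0 LD2_c52 LD3_c13)) :=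
  Lre_g IH (LK LD1_c1 LD2_c50 LD3_c40) (LK LD1_c0 LD2_c52 LD3_c13) Lrfl Lrfl
theorem f442347 : Led Lsl_gf (LP (LK LD1_c1 LD2_c50 LD3_c40)) = (LP (LK LD1_c0 LD2_c52 LD3_c35)) :=
  Lgr Lrot47 (Lpr_gt (f88618 IH) (Lpr_af (f87674 IH) (Lpe (f442346 IH) (Lpn (LP (LK LD1_c0 LD2_c52 LD3_c35))))))
theorem f466712 : Led Lsl_at K28.v218 = (LP (LK LD1_c1 LD2_c50 LD3_c40)) :=
  Lgr Lrot26 (Lpr_ff (K28.f457243 IH) (Lpq (f466709 IH) (Lpr_gt (f459679 IH) (Lpe (f442347 IH) (Lpn (LP (LK LD1_c1 LD2_c50 LD3_c40)))))))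
theorem f442359 : Led Lsl_ct (LP (LK LD1_c3 LD2_c47 LD3_c6)) = (LP (LK LD1_c1 LD2_c50 LD3_c40)) :=
  Lre_c IH (LK LD1_c3 LD2_c47 LD3_c6) (LK LD1_c1 LD2_c50 LD3_c40) Lrfl Lrfl
theorem f442356 : Led Lsl_dt (LP (LK LD1_c7 LD2_c35 LD3_c5)) = (LP (LK LD1_c3 LD2_c47 LD3_c6)) :=
  Lre_d IH (LK LD1_c7 LD2_c35 LD3_c5) (LK LD1_c3 LD2_c47 LD3_c6) Lrfl Lrfl
theorem f442355 : Led Lsl_ct (LP (LK LD1_c14 LD2_c18 LD3_c3)) = (LP (LK LD1_c7 LD2_c35 LD3_c5)) :=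
  Lre_c IH (LK LD1_c14 LD2_c18 LD3_c3) (LK LD1_c7 LD2_c35 LD3_c5) Lrfl Lrfl
theorem f466713 : Led Lsl_df (LP (LK LD1_c14 LD2_c18 LD3_c3)) = (LP (LK LD1_c14 LD2_c48 LD3_c49)) :=
  Lgr Lrot13 (Lpr_ct (f442355 IH) (Lpr_dt (f442356 IH) (Lpr_ct (f442359 IH) (Lpe (f466712 IH) (Lpr_ff (K28.f457243 IH) (Lpr_dt (f456726 IH) (Lpr_ct (f446409 IH) (Lpr_dt (f457249 IH) (Lpr_ct (f457250 IH) (Lpn (LP (LK LD1_c14 LD2_c48 LD3_c49))))))))))))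
theorem f467741 : Led Lsl_af (LP (LK LD1_c7 LD2_c35 LD3_c5)) = (LP (LK LD1_c3 LD2_c48 LD3_c60)) :=
  Lgr Lrot109 (Lpe (f442355 IH) (Lpr_df (f466713 IH) (Lpe (f457250 IH) (Lpe (f457249 IH) (Lpe (f446409 IH) (Lpe (f456726 IH) (Lpe (f145393 IH) (Lpe (f145394 IH) (Lpr_ft (f467730 IH) (Lpn (LP (LK LD1_c3 LD2_c48 LD3_c60))))))))))))
theorem f459687 : Led Lsl_dt (LP (LK LD1_c1 LD2_c51 LD3_c30)) = (LP (LK LD1_c3 LD2_c48 LD3_c60)) :=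
  Lre_d IH (LK LD1_c1 LD2_c51 LD3_c30) (LK LD1_c3 LD2_c48 LD3_c60) Lrfl Lrfl
theorem f467747 : Led Lsl_at (LP (LK LD1_c3 LD2_c47 LD3_c6)) = (LP (LK LD1_c1 LD2_c51 LD3_c30)) :=
  Lgr Lrot51 (Lpe (f442356 IH) (Lpr_af (f467741 IH) (Lpe (f459687 IH) (Lpn (LP (LK LD1_c1 LD2_c51 LD3_c30))))))
theorem f467816 : Led Lsl_af (LP (LK LD1_c3 LD2_c47 LD3_c6)) = (LP (LK LD1_c1 LD2_c51 LD3_c30)) :=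
  Lgr Lrot0 (Lpr_at (f467747 IH) (Lpn (LP (LK LD1_c1 LD2_c51 LD3_c30))))
theorem f98005 : Led Lsl_dt (LP (LK LD1_c1 LD2_c51 LD3_c40)) = (LP (LK LD1_c3 LD2_c49 LD3_c16)) :=
  Lre_d IH (LK LD1_c1 LD2_c51 LD3_c40) (LK LD1_c3 LD2_c49 LD3_c16) Lrfl Lrfl
theorem f107244 : Led Lsl_gt (LP (LK LD1_c3 LD2_c49 LD3_c16)) = (LP (LK LD1_c7 LD2_c39 LD3_c9)) :=
  Lre_g IH (LK LD1_c3 LD2_c49 LD3_c16) (LK LD1_c7 LD2_c39 LD3_c9) Lrfl Lrfl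
theorem f107235 : Led Lsl_et (LP (LK LD1_c0 LD2_c47 LD3_c19)) = (LP (LK LD1_c1 LD2_c41 LD3_c31)) :=
  Lre_e IH (LK LD1_c0 LD2_c47 LD3_c19) (LK LD1_c1 LD2_c41 LD3_c31) Lrfl Lrfl
theorem f107236 : Led Lsl_gt (LP (LK LD1_c1 LD2_c41 LD3_c31)) = (LP (LK LD1_c3 LD2_c29 LD3_c34)) :=
  Lre_g IH (LK LD1_c1 LD2_c41 LD3_c31) (LK LD1_c3 LD2_c29 LD3_c34) Lrfl Lrfl
theorem f107237 : Led Lsl_et (LP (LK LD1_c7 LD2_c0 LD3_c47)) = (LP (LK LD1_c3 LD2_c29 LD3_c34)) :=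
  Lre_e IH (LK LD1_c7 LD2_c0 LD3_c47) (LK LD1_c3 LD2_c29 LD3_c34) Lrfl Lrfl
theorem f87141 : Led Lsl_gt (LP (LK LD1_c7 LD2_c39 LD3_c9)) = (LP (LK LD1_c3 LD2_c49 LD3_c2)) :=
  Lre_g IH (LK LD1_c7 LD2_c39 LD3_c9) (LK LD1_c3 LD2_c49 LD3_c2) Lrfl Lrfl
theorem f107238 : Led Lsl_dt (LP (LK LD1_c7 LD2_c0 LD3_c47)) = (LP (LK LD1_c7 LD2_c39 LD3_c9)) :=
  Lgr Lrot136 (Lpr_et (f107237 IH) (Lpe (f107236 IH) (Lpe (f107235 IH) (Lpr_dt (K3.f95975 IH) (Lpr_gf (K3.f107229 IH) (Lpe (K3.f5259 IH) (Lpr_gf (K3.f97312 IH) (Lpe (K3.f87135 IH) (Lpr_dt (K3.f87144 IH) (Lpe (f87141 IH) (Lpn (LP (LK LD1_c7 LD2_c39 LD3_c9)))))))))))))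
theorem f107240 : Led Lsl_df (LP (LK LD1_c7 LD2_c0 LD3_c47)) = (LP (LK LD1_c7 LD2_c39 LD3_c9)) :=
  Lgr Lrot38 (Lpr_dt (f107238 IH) (Lpn (LP (LK LD1_c7 LD2_c39 LD3_c9))))
theorem f6331 : Led Lsl_dt (LP (LK LD1_c1 LD2_c45 LD3_c30)) = (LP (LK LD1_c3 LD2_c37 LD3_c16)) :=
  Lre_d IH (LK LD1_c1 LD2_c45 LD3_c30) (LK LD1_c3 LD2_c37 LD3_c16) Lrfl Lrfl
theorem f6602 : Led Lsl_gt (LP (LK LD1_c3 LD2_c37 LD3_c16)) = (LP (LK LD1_c7 LD2_c13 LD3_c5)) :=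
  Lre_g IH (LK LD1_c3 LD2_c37 LD3_c16) (LK LD1_c7 LD2_c13 LD3_c5) Lrfl Lrfl
theorem f5643 : Led Lsl_et (LP (LK LD1_c0 LD2_c22 LD3_c25)) = (LP (LK LD1_c0 LD2_c49 LD3_c54)) :=
  Lre_e IH (LK LD1_c0 LD2_c22 LD3_c25) (LK LD1_c0 LD2_c49 LD3_c54) Lrfl Lrfl
theorem f5343 : Led Lsl_gt (LP (LK LD1_c0 LD2_c49 LD3_c54)) = (LP (LK LD1_c1 LD2_c46 LD3_c17)) :=
  Lre_g IH (LK LD1_c0 LD2_c49 LD3_c54) (LK LD1_c1 LD2_c46 LD3_c17) Lrfl Lrfl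
theorem f441997 : Led Lsl_et (LP (LK LD1_c3 LD2_c38 LD3_c40)) = (LP (LK LD1_c1 LD2_c46 LD3_c17)) :=
  Lre_e IH (LK LD1_c3 LD2_c38 LD3_c40) (LK LD1_c1 LD2_c46 LD3_c17) Lrfl Lrfl
theorem f10502 : Led Lsl_dt (LP (LK LD1_c1 LD2_c45 LD3_c0)) = (LP (LK LD1_c3 LD2_c36 LD3_c21)) :=
  Lre_d IH (LK LD1_c1 LD2_c45 LD3_c0) (LK LD1_c3 LD2_c36 LD3_c21) Lrfl Lrfl
theorem f10503 : Led Lsl_gt (LP (LK LD1_c7 LD2_c13 LD3_c5)) = (LP (LK LD1_c3 LD2_c36 LD3_c21)) :=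
  Lre_g IH (LK LD1_c7 LD2_c13 LD3_c5) (LK LD1_c3 LD2_c36 LD3_c21) Lrfl Lrfl
theorem f441998 : Led Lsl_dt (LP (LK LD1_c3 LD2_c38 LD3_c40)) = (LP (LK LD1_c7 LD2_c13 LD3_c5)) :=
  Lgr Lrot136 (Lpr_et (f441997 IH) (Lpe (f5343 IH) (Lpe (f5643 IH) (Lpr_dt (K0.f376 IH) (Lpr_gf (K3.f97314 IH) (Lpe (K3.f10501 IH) (Lpr_gf (K3.f10499 IH) (Lpe (K3.f10495 IH) (Lpr_dt (f10502 IH) (Lpe (f10503 IH) (Lpn (LP (LK LD1_c7 LD2_c13 LD3_c5)))))))))))))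
theorem f442004 : Led Lsl_df (LP (LK LD1_c3 LD2_c38 LD3_c40)) = (LP (LK LD1_c7 LD2_c13 LD3_c5)) :=
  Lgr Lrot38 (Lpr_dt (f441998 IH) (Lpn (LP (LK LD1_c7 LD2_c13 LD3_c5))))
theorem f481006 : Led Lsl_cf (LP (LK LD1_c7 LD2_c0 LD3_c47)) = (LP (LK LD1_c3 LD2_c38 LD3_c40)) :=
  Lgr Lrot14 (Lpr_df (f107240 IH) (Lpe (f107244 IH) (Lpe (f98005 IH) (Lpr_gf (f480912 IH) (Lpr_ct (f456615 IH) (Lpr_gt (f6629 IH) (Lpr_dt (f6331 IH) (Lpr_gt (f6602 IH) (Lpe (f442004 IH) (Lpn (LP (LK LD1_c3 LD2_c38 LD3_c40))))))))))))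
theorem f442006 : Led Lsl_et (LP (LK LD1_c1 LD2_c46 LD3_c17)) = (LP (LK LD1_c3 LD2_c38 LD3_c40)) :=
  Lre_e IH (LK LD1_c1 LD2_c46 LD3_c17) (LK LD1_c3 LD2_c38 LD3_c40) Lrfl Lrfl
theorem f481449 : Led Lsl_ct (LP (LK LD1_c3 LD2_c29 LD3_c34)) = (LP (LK LD1_c1 LD2_c46 LD3_c17)) :=
  Lgr Lrot15 (Lpe (f107237 IH) (Lpr_cf (f481006 IH) (Lpe (f442006 IH) (Lpn (LP (LK LD1_c1 LD2_c46 LD3_c17))))))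
theorem f4123 : Led Lsl_ct (LP (LK LD1_c0 LD2_c22 LD3_c26)) = (LP (LK LD1_c0 LD2_c49 LD3_c54)) :=
  Lre_c IH (LK LD1_c0 LD2_c22 LD3_c26) (LK LD1_c0 LD2_c49 LD3_c54) Lrfl Lrfl
theorem f85233 : Led Lsl_gt (LP (LK LD1_c3 LD2_c44 LD3_c46)) = (LP (LK LD1_c1 LD2_c49 LD3_c38)) :=
  Lre_g IH (LK LD1_c3 LD2_c44 LD3_c46) (LK LD1_c1 LD2_c49 LD3_c38) Lrfl Lrfl
theorem f481456 : Led Lsl_bt (LP (LK LD1_c3 LD2_c29 LD3_c34)) = (LP (LK LD1_c3 LD2_c44 LD3_c46)) :=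
  Lgr Lrot130 (Lpr_ct (f481449 IH) (Lpe (f5343 IH) (Lpe (f4123 IH) (Lpr_bt (K2.f4025 IH) (Lpe (K24.f4033 IH) (Lpe (K28.f4035 IH) (Lpr_ct (K28.f5323 IH) (Lpe (K28.f5329 IH) (Lpr_cf (K28.f467638 IH) (Lpe (f85233 IH) (Lpn (LP (LK LD1_c3 LD2_c44 LD3_c46)))))))))))))
theorem f85212 : Led Lsl_gt (LP (LK LD1_c1 LD2_c49 LD3_c28)) = (LP (LK LD1_c3 LD2_c44 LD3_c46)) :=
  Lre_g IH (LK LD1_c1 LD2_c49 LD3_c28) (LK LD1_c3 LD2_c44 LD3_c46) Lrfl Lrfl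
theorem f440645 : Led Lsl_bt (LP (LK LD1_c3 LD2_c29 LD3_c30)) = (LP (LK LD1_c1 LD2_c49 LD3_c28)) :=
  Lgr Lrot127 (Lpr_bf (K28.f440642 IH) (Lpn (LP (LK LD1_c1 LD2_c49 LD3_c28))))
theorem f4270 : Led Lsl_gt (LP (LK LD1_c1 LD2_c46 LD3_c17)) = (LP (LK LD1_c3 LD2_c38 LD3_c19)) :=
  Lre_g IH (LK LD1_c1 LD2_c46 LD3_c17) (LK LD1_c3 LD2_c38 LD3_c19) Lrfl Lrfl
theorem f4263 : Led Lsl_ct (LP (LK LD1_c1 LD2_c46 LD3_c10)) = (LP (LK LD1_c3 LD2_c38 LD3_c19)) :=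
  Lre_c IH (LK LD1_c1 LD2_c46 LD3_c10) (LK LD1_c3 LD2_c38 LD3_c19) Lrfl Lrfl
theorem f4420 : Led Lsl_ct (LP (LK LD1_c0 LD2_c49 LD3_c56)) = (LP (LK LD1_c1 LD2_c46 LD3_c26)) :=
  Lre_c IH (LK LD1_c0 LD2_c49 LD3_c56) (LK LD1_c1 LD2_c46 LD3_c26) Lrfl Lrfl
theorem f481460 : Led Lsl_gf (LP (LK LD1_c3 LD2_c35 LD3_c40)) = (LP (LK LD1_c1 LD2_c46 LD3_c26)) :=
  Lgr Lrot129 (Lpe (K28.f109481 IH) (Lpr_bt (f440645 IH) (Lpr_gt (f85212 IH) (Lpe (f481456 IH) (Lpr_ct (f481449 IH) (Lpr_gt (f4270 IH) (Lpe (f4263 IH) (Lpe (K24.f5272 IH) (Lpr_gt (K3.f4410 IH) (Lpr_ct (f4420 IH) (Lpn (LP (LK LD1_c1 LD2_c46 LD3_c26)))))))))))))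
theorem f98532 : Led Lsl_et (LP (LK LD1_c1 LD2_c41 LD3_c30)) = (LP (LK LD1_c3 LD2_c29 LD3_c33)) :=
  Lre_e IH (LK LD1_c1 LD2_c41 LD3_c30) (LK LD1_c3 LD2_c29 LD3_c33) Lrfl Lrfl
theorem f109097 : Led Lsl_af (LP (LK LD1_c3 LD2_c35 LD3_c40)) = (LP (LK LD1_c3 LD2_c29 LD3_c33)) :=
  Lgr Lrot50 (Lpr_et (K28.f108552 IH) (Lpr_at (K3.f109088 IH) (Lpr_et (f98532 IH) (Lpn (LP (LK LD1_c3 LD2_c29 LD3_c33))))))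
def v201 : LQ := Led Lsl_gf (LP (LK LD1_c0 LD2_c23 LD3_c28))
theorem f451050 : Led Lsl_gf (LP (LK LD1_c0 LD2_c23 LD3_c28)) = v201 :=
  Lrfl
theorem f440644 : Led Lsl_ft (LP (LK LD1_c1 LD2_c41 LD3_c36)) = (LP (LK LD1_c0 LD2_c47 LD3_c21)) :=
  Lre_f IH (LK LD1_c1 LD2_c41 LD3_c36) (LK LD1_c0 LD2_c47 LD3_c21) Lrfl Lrfl
theorem f451051 : Led Lsl_gt (LP (LK LD1_c1 LD2_c41 LD3_c36)) = v201 :=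
  Lgr Lrot5 (Lpr_ft (f440644 IH) (Lpr_at (K28.f440636 IH) (Lpr_gf (f451050 IH) (Lpn v201))))
theorem f466752 : (LP (LK LD1_c0 LD2_c50 LD3_c43)) = v201 :=
  Lefun (Lecon (Lfl_gt (f459355 IH)) (f466750 IH)) (f451050 IH)
theorem f4419 : Led Lsl_ct (LP (LK LD1_c0 LD2_c49 LD3_c55)) = (LP (LK LD1_c1 LD2_c46 LD3_c22)) :=
  Lre_c IH (LK LD1_c0 LD2_c49 LD3_c55) (LK LD1_c1 LD2_c46 LD3_c22) Lrfl Lrfl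
theorem f466979 : Led Lsl_ct (LP (LK LD1_c3 LD2_c29 LD3_c36)) = (LP (LK LD1_c3 LD2_c38 LD3_c53)) :=
  Lgr Lrot63 (Lpr_bt (f440664 IH) (Lpr_gt (f451051 IH) (Lpq (f466752 IH) (Lpe (K28.f451003 IH) (Lpr_ct (K24.f451011 IH) (Lpq (K24.f456263 IH) (Lpr_gt (K24.f4034 IH) (Lpe (K2.f5318 IH) (Lpr_bt (K2.f4026 IH) (Lpr_gt (K3.f4445 IH) (Lpr_ct (f4419 IH) (Lpr_gt (K28.f4414 IH) (Lpn (LP (LK LD1_c3 LD2_c38 LD3_c53)))))))))))))))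
theorem f440667 : Led Lsl_ft (LP (LK LD1_c1 LD2_c41 LD3_c31)) = (LP (LK LD1_c3 LD2_c29 LD3_c36)) :=
  Lre_f IH (LK LD1_c1 LD2_c41 LD3_c31) (LK LD1_c3 LD2_c29 LD3_c36) Lrfl Lrfl
theorem f440660 : Led Lsl_ct (LP (LK LD1_c3 LD2_c29 LD3_c33)) = (LP (LK LD1_c1 LD2_c41 LD3_c31)) :=
  Lre_c IH (LK LD1_c3 LD2_c29 LD3_c33) (LK LD1_c1 LD2_c41 LD3_c31) Lrfl Lrfl
theorem f466986 : Led Lsl_ff (LP (LK LD1_c3 LD2_c29 LD3_c33)) = (LP (LK LD1_c3 LD2_c38 LD3_c53)) :=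
  Lgr Lrot23 (Lpr_ct (f440660 IH) (Lpr_ft (f440667 IH) (Lpr_ct (f466979 IH) (Lpn (LP (LK LD1_c3 LD2_c38 LD3_c53))))))
theorem f481462 : Led Lsl_gt (LP (LK LD1_c3 LD2_c38 LD3_c53)) = (LP (LK LD1_c1 LD2_c46 LD3_c26)) :=
  Lgr Lrot5 (Lpe (f466986 IH) (Lpe (f109097 IH) (Lpr_gf (f481460 IH) (Lpn (LP (LK LD1_c1 LD2_c46 LD3_c26))))))
def v823 : LQ := Led Lsl_bt (LP (LK LD1_c0 LD2_c51 LD3_c56))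
theorem f459573 : Led Lsl_bt (LP (LK LD1_c0 LD2_c51 LD3_c56)) = v823 :=
  Lrfl
theorem f459574 : Led Lsl_bf (LP (LK LD1_c0 LD2_c51 LD3_c56)) = v823 :=
  Lgr Lrot24 (Lpr_bt (f459573 IH) (Lpn v823))
theorem f458758 : Led Lsl_bf v776 = v776 :=
  Lgr Lrot81 (Lpe (f457183 IH) (Lpr_bt (K28.f436800 IH) (Lpr_at (K24.f450997 IH) (Lpqs (K24.f457205 IH) (Lpr_bt (K28.f450999 IH) (Lpr_at (f457182 IH) (Lpn v776)))))))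
theorem f466759 : v776 = v823 :=
  Lefun (Lecon (Lfl_bf (f458758 IH)) (f466751 IH)) (f459573 IH)
theorem f85276 : Led Lsl_ct (LP (LK LD1_c0 LD2_c51 LD3_c56)) = (LP (LK LD1_c1 LD2_c50 LD3_c11)) :=
  Lre_c IH (LK LD1_c0 LD2_c51 LD3_c56) (LK LD1_c1 LD2_c50 LD3_c11) Lrfl Lrfl
theorem f436801 : Led Lsl_ct (LP (LK LD1_c1 LD2_c47 LD3_c54)) = (LP (LK LD1_c0 LD2_c50 LD3_c40)) :=
  Lre_c IH (LK LD1_c1 LD2_c47 LD3_c54) (LK LD1_c0 LD2_c50 LD3_c40) Lrfl Lrfl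
theorem f458713 : Led Lsl_ff (LP (LK LD1_c1 LD2_c47 LD3_c54)) = (LP (LK LD1_c1 LD2_c47 LD3_c57)) :=
  Lgr Lrot23 (Lpr_ct (f436801 IH) (Lpr_ft (K28.f457184 IH) (Lpqs (K28.f457215 IH) (Lpr_ct (f12854 IH) (Lpn (LP (LK LD1_c1 LD2_c47 LD3_c57)))))))
theorem f441412 : Led Lsl_et (LP (LK LD1_c1 LD2_c50 LD3_c13)) = (LP (LK LD1_c0 LD2_c51 LD3_c56)) :=
  Lre_e IH (LK LD1_c1 LD2_c50 LD3_c13) (LK LD1_c0 LD2_c51 LD3_c56) Lrfl Lrfl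
theorem f459568 : Led Lsl_et (LP (LK LD1_c0 LD2_c51 LD3_c56)) = (LP (LK LD1_c1 LD2_c50 LD3_c13)) :=
  Lre_e IH (LK LD1_c0 LD2_c51 LD3_c56) (LK LD1_c1 LD2_c50 LD3_c13) Lrfl Lrfl
theorem f466764 : Led Lsl_bf (LP (LK LD1_c1 LD2_c50 LD3_c13)) = (LP (LK LD1_c1 LD2_c50 LD3_c13)) :=
  Lgr Lrot96 (Lpr_et (f441412 IH) (Lpr_bt (f459573 IH) (Lpq (f466759 IH) (Lpqs (f466751 IH) (Lpr_et (f459568 IH) (Lpn (LP (LK LD1_c1 LD2_c50 LD3_c13))))))))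
theorem f456562 : Led Lsl_et (LP (LK LD1_c0 LD2_c50 LD3_c40)) = (LP (LK LD1_c1 LD2_c47 LD3_c56)) :=
  Lre_e IH (LK LD1_c0 LD2_c50 LD3_c40) (LK LD1_c1 LD2_c47 LD3_c56) Lrfl Lrfl
theorem f466762 : Led Lsl_af (LP (LK LD1_c1 LD2_c50 LD3_c13)) = (LP (LK LD1_c1 LD2_c47 LD3_c56)) :=
  Lgr Lrot50 (Lpr_et (f441412 IH) (Lpr_at (f459566 IH) (Lpq (f466756 IH) (Lpr_et (f456562 IH) (Lpn (LP (LK LD1_c1 LD2_c47 LD3_c56)))))))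
theorem f456257 : Led Lsl_bt (LP (LK LD1_c0 LD2_c50 LD3_c42)) = (LP (LK LD1_c1 LD2_c47 LD3_c56)) :=
  Lre_b IH (LK LD1_c0 LD2_c50 LD3_c42) (LK LD1_c1 LD2_c47 LD3_c56) Lrfl Lrfl
def v170 : LQ := Led Lsl_dt (LP (LK LD1_c0 LD2_c22 LD3_c13))
theorem f450900 : Led Lsl_dt (LP (LK LD1_c0 LD2_c22 LD3_c13)) = v170 :=
  Lrfl
theorem f450901 : Led Lsl_df (LP (LK LD1_c0 LD2_c22 LD3_c13)) = v170 :=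
  Lgr Lrot38 (Lpr_dt (f450900 IH) (Lpn v170))
theorem f457343 : Led Lsl_af v170 = v170 :=
  Lgr Lrot117 (Lpe (f450901 IH) (Lpr_at (K24.f450887 IH) (Lpq (f457232 IH) (Lpr_dt (f450900 IH) (Lpn v170)))))
def v716 : LQ := Led Lsl_dt (LP (LK LD1_c0 LD2_c49 LD3_c35))
theorem f456909 : Led Lsl_dt (LP (LK LD1_c0 LD2_c49 LD3_c35)) = v716 :=
  Lrfl
theorem f456911 : Led Lsl_df (LP (LK LD1_c0 LD2_c49 LD3_c35)) = v716 :=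
  Lgr Lrot38 (Lpr_dt (f456909 IH) (Lpn v716))
def v710 : LQ := Led Lsl_dt (LP (LK LD1_c0 LD2_c49 LD3_c34))
theorem f456884 : Led Lsl_dt (LP (LK LD1_c0 LD2_c49 LD3_c34)) = v710 :=
  Lrfl
theorem f457268 : Led Lsl_ff v716 = v710 :=
  Lgr Lrot19 (Lpe (f456911 IH) (Lpq (f457229 IH) (Lpe (f456896 IH) (Lpr_dt (f456884 IH) (Lpn v710)))))
theorem f457274 : Led Lsl_ft v716 = v710 :=
  Lgr Lrot48 (Lpr_ff (f457268 IH) (Lpn v710))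
theorem f6648 : Led Lsl_bt (LP (LK LD1_c0 LD2_c49 LD3_c35)) = (LP (LK LD1_c0 LD2_c22 LD3_c14)) :=
  Lre_b IH (LK LD1_c0 LD2_c49 LD3_c35) (LK LD1_c0 LD2_c22 LD3_c14) Lrfl Lrfl
def v174 : LQ := Led Lsl_dt (LP (LK LD1_c0 LD2_c22 LD3_c14))
theorem f450912 : Led Lsl_dt (LP (LK LD1_c0 LD2_c22 LD3_c14)) = v174 :=
  Lrfl
theorem f456913 : Led Lsl_bt v174 = v716 :=
  Lgr Lrot95 (Lpe (f450912 IH) (Lpe (f6648 IH) (Lpr_df (f456911 IH) (Lpn v716))))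
theorem f456885 : Led Lsl_bf v170 = v710 :=
  Lgr Lrot93 (Lpe (f450901 IH) (Lpr_bt (f450890 IH) (Lpr_dt (f456884 IH) (Lpn v710))))
theorem f457275 : Led Lsl_ff v174 = v170 :=
  Lgr Lrot25 (Lpr_bt (f456913 IH) (Lpr_ft (f457274 IH) (Lpe (f456885 IH) (Lpn v170))))
theorem f450913 : Led Lsl_df (LP (LK LD1_c0 LD2_c22 LD3_c14)) = v174 :=
  Lgr Lrot38 (Lpr_dt (f450912 IH) (Lpn v174))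
theorem f456910 : Led Lsl_bf v174 = v716 :=
  Lgr Lrot93 (Lpe (f450913 IH) (Lpr_bt (f450894 IH) (Lpr_dt (f456909 IH) (Lpn v716))))
theorem f456886 : Led Lsl_df (LP (LK LD1_c0 LD2_c49 LD3_c34)) = v710 :=
  Lgr Lrot38 (Lpr_dt (f456884 IH) (Lpn v710))
theorem f456887 : Led Lsl_bt v170 = v710 :=
  Lgr Lrot95 (Lpe (f450900 IH) (Lpe (f10148 IH) (Lpr_df (f456886 IH) (Lpn v710))))
theorem f457273 : Led Lsl_ft v174 = v170 :=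
  Lgr Lrot75 (Lpr_bf (f456910 IH) (Lpr_ff (f457268 IH) (Lpe (f456887 IH) (Lpn v170))))
theorem f457344 : Led Lsl_at v174 = v174 :=
  Lgr Lrot66 (Lpr_ff (f457275 IH) (Lpr_af (f457343 IH) (Lpe (f457273 IH) (Lpn v174))))
theorem f10389 : Led Lsl_et (LP (LK LD1_c0 LD2_c9 LD3_c51)) = (LP (LK LD1_c0 LD2_c21 LD3_c48)) :=
  Lre_e IH (LK LD1_c0 LD2_c9 LD3_c51) (LK LD1_c0 LD2_c21 LD3_c48) Lrfl Lrfl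
def v156 : LQ := Led Lsl_gt (LP (LK LD1_c0 LD2_c21 LD3_c48))
theorem f450792 : Led Lsl_gt (LP (LK LD1_c0 LD2_c21 LD3_c48)) = v156 :=
  Lrfl
theorem f450914 : Led Lsl_ef v156 = v174 :=
  Lgr Lrot17 (Lpe (f450792 IH) (Lpe (f10389 IH) (Lpr_dt (K0.f9948 IH) (Lpe (K6.f9962 IH) (Lpe (K7.f10919 IH) (Lpe (K7.f10932 IH) (Lpe (K0.f10095 IH) (Lpr_dt (K28.f5925 IH) (Lpe (K24.f5939 IH) (Lpr_df (f450913 IH) (Lpn v174)))))))))))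
theorem f450915 : Led Lsl_et v156 = v174 :=
  Lgr Lrot87 (Lpr_ef (f450914 IH) (Lpn v174))
theorem f457345 : Led Lsl_af v156 = v156 :=
  Lgr Lrot50 (Lpr_et (f450915 IH) (Lpr_at (f457344 IH) (Lpe (f450914 IH) (Lpn v156))))
theorem f457346 : Led Lsl_ft K24.v157 = v156 :=
  Lgr Lrot2 (Lpe (K24.f450794 IH) (Lpr_gt (f450792 IH) (Lpr_af (f457345 IH) (Lpn v156))))
theorem f457347 : Led Lsl_ff K24.v157 = v156 :=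
  Lgr Lrot3 (Lpr_ft (f457346 IH) (Lpn v156))
theorem f457348 : Led Lsl_at K24.v157 = K24.v157 :=
  Lgr Lrot66 (Lpr_ff (f457347 IH) (Lpr_af (f457345 IH) (Lpe (f457346 IH) (Lpn K24.v157))))
theorem f457349 : Led Lsl_af K24.v281 = K24.v281 :=
  Lgr Lrot117 (Lpe (K24.f451508 IH) (Lpr_at (f457348 IH) (Lpr_dt (K24.f451509 IH) (Lpn K24.v281))))
theorem f456256 : Led Lsl_ct K24.v281 = (LP (LK LD1_c0 LD2_c50 LD3_c42)) :=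
  Lgr Lrot59 (Lpr_cf (K24.f456254 IH) (Lpn (LP (LK LD1_c0 LD2_c50 LD3_c42))))
theorem f457350 : Led Lsl_at (LP (LK LD1_c0 LD2_c50 LD3_c42)) = (LP (LK LD1_c0 LD2_c50 LD3_c42)) :=
  Lgr Lrot107 (Lpe (f456256 IH) (Lpr_af (f457349 IH) (Lpr_cf (K24.f456254 IH) (Lpn (LP (LK LD1_c0 LD2_c50 LD3_c42))))))
theorem f455712 : Led Lsl_bt (LP (LK LD1_c1 LD2_c47 LD3_c56)) = (LP (LK LD1_c0 LD2_c50 LD3_c42)) :=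
  Lre_b IH (LK LD1_c1 LD2_c47 LD3_c56) (LK LD1_c0 LD2_c50 LD3_c42) Lrfl Lrfl
theorem f466769 : Led Lsl_at (LP (LK LD1_c1 LD2_c50 LD3_c13)) = (LP (LK LD1_c1 LD2_c47 LD3_c56)) :=
  Lgr Lrot67 (Lpr_bf (f466764 IH) (Lpr_af (f466762 IH) (Lpe (f456257 IH) (Lpe (f457350 IH) (Lpe (f455712 IH) (Lpn (LP (LK LD1_c1 LD2_c47 LD3_c56))))))))
theorem f466766 : Led Lsl_ct (LP (LK LD1_c3 LD2_c46 LD3_c17)) = (LP (LK LD1_c1 LD2_c50 LD3_c13)) :=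
  Lre_c IH (LK LD1_c3 LD2_c46 LD3_c17) (LK LD1_c1 LD2_c50 LD3_c13) Lrfl Lrfl
theorem f455713 : Led Lsl_ct (LP (LK LD1_c1 LD2_c47 LD3_c56)) = (LP (LK LD1_c3 LD2_c41 LD3_c61)) :=
  Lre_c IH (LK LD1_c1 LD2_c47 LD3_c56) (LK LD1_c3 LD2_c41 LD3_c61) Lrfl Lrfl
theorem f466823 : Led Lsl_af (LP (LK LD1_c3 LD2_c46 LD3_c17)) = (LP (LK LD1_c3 LD2_c41 LD3_c61)) :=
  Lgr Lrot68 (Lpr_ct (f466766 IH) (Lpr_at (f466769 IH) (Lpr_ct (f455713 IH) (Lpn (LP (LK LD1_c3 LD2_c41 LD3_c61))))))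
theorem f466840 : Led Lsl_et (LP (LK LD1_c3 LD2_c46 LD3_c17)) = (LP (LK LD1_c1 LD2_c50 LD3_c11)) :=
  Lre_e IH (LK LD1_c3 LD2_c46 LD3_c17) (LK LD1_c1 LD2_c50 LD3_c11) Lrfl Lrfl
theorem f458717 : Led Lsl_et (LP (LK LD1_c1 LD2_c47 LD3_c54)) = (LP (LK LD1_c3 LD2_c41 LD3_c61)) :=
  Lre_e IH (LK LD1_c1 LD2_c47 LD3_c54) (LK LD1_c3 LD2_c41 LD3_c61) Lrfl Lrfl
theorem f466841 : Led Lsl_at (LP (LK LD1_c1 LD2_c50 LD3_c11)) = (LP (LK LD1_c1 LD2_c47 LD3_c54)) :=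
  Lgr Lrot80 (Lpe (f466840 IH) (Lpr_af (f466823 IH) (Lpe (f458717 IH) (Lpn (LP (LK LD1_c1 LD2_c47 LD3_c54))))))
theorem f466843 : Led Lsl_af (LP (LK LD1_c1 LD2_c50 LD3_c11)) = (LP (LK LD1_c1 LD2_c47 LD3_c54)) :=
  Lgr Lrot0 (Lpr_at (f466841 IH) (Lpn (LP (LK LD1_c1 LD2_c47 LD3_c54))))
theorem f478300 : Led Lsl_gt (LP (LK LD1_c3 LD2_c15 LD3_c24)) = (LP (LK LD1_c1 LD2_c50 LD3_c11)) :=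
  Lgr Lrot46 (Lpr_gf (f478295 IH) (Lpe (f458713 IH) (Lpe (f466843 IH) (Lpn (LP (LK LD1_c1 LD2_c50 LD3_c11))))))
theorem f456995 : Led Lsl_bt (LP (LK LD1_c0 LD2_c49 LD3_c56)) = (LP (LK LD1_c1 LD2_c46 LD3_c25)) :=
  Lre_b IH (LK LD1_c0 LD2_c49 LD3_c56) (LK LD1_c1 LD2_c46 LD3_c25) Lrfl Lrfl
theorem f481678 : Led Lsl_gf (LP (LK LD1_c1 LD2_c34 LD3_c26)) = (LP (LK LD1_c1 LD2_c46 LD3_c25)) :=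
  Lgr Lrot181 (Lpr_ct (f65512 IH) (Lpr_gt (f478300 IH) (Lpe (f85276 IH) (Lpq (f466751 IH) (Lpqs (f466759 IH) (Lpe (f459574 IH) (Lpe (f441408 IH) (Lpe (f440664 IH) (Lpr_ct (f466979 IH) (Lpr_gt (f481462 IH) (Lpe (f4420 IH) (Lpr_bt (f456995 IH) (Lpn (LP (LK LD1_c1 LD2_c46 LD3_c25)))))))))))))))
theorem f65499 : Led Lsl_et (LP (LK LD1_c0 LD2_c43 LD3_c54)) = (LP (LK LD1_c1 LD2_c34 LD3_c26)) :=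
  Lre_e IH (LK LD1_c0 LD2_c43 LD3_c54) (LK LD1_c1 LD2_c34 LD3_c26) Lrfl Lrfl
theorem f65501 : Led Lsl_dt (LP (LK LD1_c1 LD2_c34 LD3_c26)) = (LP (LK LD1_c1 LD2_c34 LD3_c26)) :=
  Lgr Lrot77 (Lpe (f65499 IH) (Lpe (K2.f62820 IH) (Lpr_ef (K3.f65405 IH) (Lpe (K1.f62816 IH) (Lpe (K4.f65500 IH) (Lpn (LP (LK LD1_c1 LD2_c34 LD3_c26))))))))
theorem f15253 : Led Lsl_et (LP (LK LD1_c0 LD2_c46 LD3_c29)) = (LP (LK LD1_c1 LD2_c39 LD3_c53)) :=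
  Lre_e IH (LK LD1_c0 LD2_c46 LD3_c29) (LK LD1_c1 LD2_c39 LD3_c53) Lrfl Lrfl
theorem f15105 : Led Lsl_gt (LP (LK LD1_c1 LD2_c39 LD3_c53)) = (LP (LK LD1_c3 LD2_c26 LD3_c21)) :=
  Lre_g IH (LK LD1_c1 LD2_c39 LD3_c53) (LK LD1_c3 LD2_c26 LD3_c21) Lrfl Lrfl
theorem f481686 : Led Lsl_dt (LP (LK LD1_c3 LD2_c38 LD3_c58)) = (LP (LK LD1_c1 LD2_c46 LD3_c25)) :=
  Lre_d IH (LK LD1_c3 LD2_c38 LD3_c58) (LK LD1_c1 LD2_c46 LD3_c25) Lrfl Lrfl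
theorem f481693 : Led Lsl_ef (LP (LK LD1_c3 LD2_c26 LD3_c21)) = (LP (LK LD1_c3 LD2_c38 LD3_c58)) :=
  Lgr Lrot17 (Lpe (f15105 IH) (Lpe (f15253 IH) (Lpe (K3.f92026 IH) (Lpr_gf (K3.f109353 IH) (Lpe (K3.f108752 IH) (Lpe (K3.f62834 IH) (Lpe (K4.f65500 IH) (Lpr_dt (f65501 IH) (Lpr_gf (f481678 IH) (Lpe (f481686 IH) (Lpn (LP (LK LD1_c3 LD2_c38 LD3_c58)))))))))))))
theorem f481701 : Led Lsl_et (LP (LK LD1_c3 LD2_c26 LD3_c21)) = (LP (LK LD1_c3 LD2_c38 LD3_c58)) :=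
  Lgr Lrot87 (Lpr_ef (f481693 IH) (Lpn (LP (LK LD1_c3 LD2_c38 LD3_c58))))
theorem f97289 : Led Lsl_bt (LP (LK LD1_c3 LD2_c38 LD3_c58)) = (LP (LK LD1_c1 LD2_c46 LD3_c27)) :=
  Lre_b IH (LK LD1_c3 LD2_c38 LD3_c58) (LK LD1_c1 LD2_c46 LD3_c27) Lrfl Lrfl
theorem f481703 : Led Lsl_bf (LP (LK LD1_c3 LD2_c26 LD3_c21)) = (LP (LK LD1_c1 LD2_c43 LD3_c7)) :=
  Lgr Lrot96 (Lpr_et (f481701 IH) (Lpr_bt (f97289 IH) (Lpr_et (K3.f97286 IH) (Lpn (LP (LK LD1_c1 LD2_c43 LD3_c7))))))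
theorem f117336 : Led Lsl_af (LP (LK LD1_c3 LD2_c50 LD3_c12)) = (LP (LK LD1_c3 LD2_c26 LD3_c23)) :=
  Lgr Lrot68 (Lpr_ct (K7.f84951 IH) (Lpr_at (K4.f117324 IH) (Lpe (K4.f15123 IH) (Lpn (LP (LK LD1_c3 LD2_c26 LD3_c23))))))
theorem f440835 : Led Lsl_gf (LP (LK LD1_c3 LD2_c50 LD3_c12)) = (LP (LK LD1_c3 LD2_c26 LD3_c21)) :=
  Lgr Lrot76 (Lpr_af (f117336 IH) (Lpe (K4.f15101 IH) (Lpr_gt (f15105 IH) (Lpn (LP (LK LD1_c3 LD2_c26 LD3_c21))))))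
theorem f466984 : Led Lsl_cf (LP (LK LD1_c3 LD2_c29 LD3_c36)) = (LP (LK LD1_c3 LD2_c38 LD3_c53)) :=
  Lgr Lrot11 (Lpr_ct (f466979 IH) (Lpn (LP (LK LD1_c3 LD2_c38 LD3_c53))))
theorem f4429 : Led Lsl_dt (LP (LK LD1_c7 LD2_c18 LD3_c7)) = (LP (LK LD1_c3 LD2_c38 LD3_c53)) :=
  Lre_d IH (LK LD1_c7 LD2_c18 LD3_c7) (LK LD1_c3 LD2_c38 LD3_c53) Lrfl Lrfl
theorem f4428 : Led Lsl_ct (LP (LK LD1_c7 LD2_c18 LD3_c7)) = (LP (LK LD1_c13 LD2_c49 LD3_c1)) :=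
  Lre_c IH (LK LD1_c7 LD2_c18 LD3_c7) (LK LD1_c13 LD2_c49 LD3_c1) Lrfl Lrfl
theorem f441471 : Led Lsl_dt (LP (LK LD1_c7 LD2_c11 LD3_c60)) = (LP (LK LD1_c3 LD2_c35 LD3_c40)) :=
  Lre_d IH (LK LD1_c7 LD2_c11 LD3_c60) (LK LD1_c3 LD2_c35 LD3_c40) Lrfl Lrfl
theorem f441472 : Led Lsl_ct (LP (LK LD1_c13 LD2_c38 LD3_c7)) = (LP (LK LD1_c7 LD2_c11 LD3_c60)) :=
  Lre_c IH (LK LD1_c13 LD2_c38 LD3_c7) (LK LD1_c7 LD2_c11 LD3_c60) Lrfl Lrfl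
theorem f466988 : Led Lsl_df (LP (LK LD1_c13 LD2_c38 LD3_c7)) = (LP (LK LD1_c13 LD2_c49 LD3_c1)) :=
  Lgr Lrot13 (Lpr_ct (f441472 IH) (Lpr_dt (f441471 IH) (Lpe (K28.f441469 IH) (Lpe (K28.f440671 IH) (Lpe (K28.f440668 IH) (Lpr_dt (K28.f440657 IH) (Lpr_ct (f466979 IH) (Lpr_dt (K28.f4415 IH) (Lpr_ct (f4428 IH) (Lpn (LP (LK LD1_c13 LD2_c49 LD3_c1))))))))))))
theorem f441467 : Led Lsl_af (LP (LK LD1_c3 LD2_c29 LD3_c33)) = (LP (LK LD1_c3 LD2_c35 LD3_c40)) :=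
  Lgr Lrot68 (Lpr_ct (f440660 IH) (Lpr_at (K28.f440671 IH) (Lpr_ct (K28.f109481 IH) (Lpn (LP (LK LD1_c3 LD2_c35 LD3_c40))))))
theorem f97459 : Led Lsl_dt (LP (LK LD1_c3 LD2_c29 LD3_c33)) = (LP (LK LD1_c7 LD2_c0 LD3_c46)) :=
  Lre_d IH (LK LD1_c3 LD2_c29 LD3_c33) (LK LD1_c7 LD2_c0 LD3_c46) Lrfl Lrfl
theorem f441474 : Led Lsl_at (LP (LK LD1_c7 LD2_c0 LD3_c46)) = (LP (LK LD1_c7 LD2_c11 LD3_c60)) :=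
  Lgr Lrot51 (Lpe (f97459 IH) (Lpr_af (f441467 IH) (Lpe (f441471 IH) (Lpn (LP (LK LD1_c7 LD2_c11 LD3_c60))))))
theorem f466990 : Led Lsl_ft (LP (LK LD1_c7 LD2_c18 LD3_c7)) = (LP (LK LD1_c7 LD2_c0 LD3_c46)) :=
  Lgr Lrot142 (Lpr_dt (f4429 IH) (Lpe (f466984 IH) (Lpr_dt (K28.f440657 IH) (Lpr_ct (f466979 IH) (Lpr_dt (K28.f4415 IH) (Lpr_ct (f4428 IH) (Lpe (f466988 IH) (Lpr_ct (f441472 IH) (Lpe (f441474 IH) (Lpn (LP (LK LD1_c7 LD2_c0 LD3_c46))))))))))))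
theorem f467003 : Led Lsl_gt (LP (LK LD1_c7 LD2_c18 LD3_c31)) = (LP (LK LD1_c7 LD2_c11 LD3_c60)) :=
  Lgr Lrot46 (Lpr_gf (K28.f4416 IH) (Lpr_ft (f466990 IH) (Lpr_at (f441474 IH) (Lpn (LP (LK LD1_c7 LD2_c11 LD3_c60))))))
theorem f98487 : Led Lsl_dt (LP (LK LD1_c3 LD2_c35 LD3_c40)) = (LP (LK LD1_c7 LD2_c11 LD3_c60)) :=
  Lre_d IH (LK LD1_c3 LD2_c35 LD3_c40) (LK LD1_c7 LD2_c11 LD3_c60) Lrfl Lrfl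
theorem f88501 : Led Lsl_et (LP (LK LD1_c1 LD2_c45 LD3_c7)) = (LP (LK LD1_c3 LD2_c36 LD3_c32)) :=
  Lre_e IH (LK LD1_c1 LD2_c45 LD3_c7) (LK LD1_c3 LD2_c36 LD3_c32) Lrfl Lrfl
theorem f467005 : Led Lsl_gf (LP (LK LD1_c3 LD2_c32 LD3_c53)) = (LP (LK LD1_c3 LD2_c36 LD3_c32)) :=
  Lgr Lrot141 (Lpe (K28.f442108 IH) (Lpr_dt (K28.f4438 IH) (Lpr_gt (f467003 IH) (Lpe (f98487 IH) (Lpr_et (K28.f108552 IH) (Lpr_gt (K3.f19355 IH) (Lpr_dt (K3.f18020 IH) (Lpr_gt (K3.f97128 IH) (Lpe (K3.f97133 IH) (Lpr_et (f88501 IH) (Lpn (LP (LK LD1_c3 LD2_c36 LD3_c32)))))))))))))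
theorem f88489 : Led Lsl_et (LP (LK LD1_c3 LD2_c36 LD3_c32)) = (LP (LK LD1_c1 LD2_c45 LD3_c7)) :=
  Lre_e IH (LK LD1_c3 LD2_c36 LD3_c32) (LK LD1_c1 LD2_c45 LD3_c7) Lrfl Lrfl
theorem f88490 : Led Lsl_ct (LP (LK LD1_c1 LD2_c50 LD3_c35)) = (LP (LK LD1_c3 LD2_c36 LD3_c32)) :=
  Lgr Lrot15 (Lpe (K28.f88481 IH) (Lpr_cf (K3.f88482 IH) (Lpe (f88489 IH) (Lpn (LP (LK LD1_c3 LD2_c36 LD3_c32))))))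
theorem f451168 : Led Lsl_af (LP (LK LD1_c0 LD2_c24 LD3_c4)) = K24.v217 :=
  Lgr Lrot45 (Lpr_ft (K24.f451162 IH) (Lpe (K24.f451161 IH) (Lpr_ft (K24.f451167 IH) (Lpn K24.v217))))
theorem f466735 : Led Lsl_af K28.v218 = (LP (LK LD1_c1 LD2_c50 LD3_c40)) :=
  Lgr Lrot0 (Lpr_at (f466712 IH) (Lpn (LP (LK LD1_c1 LD2_c50 LD3_c40))))
theorem f466736 : Led Lsl_bf (LP (LK LD1_c1 LD2_c50 LD3_c40)) = (LP (LK LD1_c1 LD2_c50 LD3_c40)) :=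
  Lgr Lrot81 (Lpe (f466735 IH) (Lpe (K28.f451172 IH) (Lpq (K24.f455974 IH) (Lpq (K24.f457230 IH) (Lpe (f451168 IH) (Lpr_bt (K28.f451171 IH) (Lpr_at (f466712 IH) (Lpn (LP (LK LD1_c1 LD2_c50 LD3_c40))))))))))
theorem f442353 : Led Lsl_ct (LP (LK LD1_c1 LD2_c50 LD3_c40)) = (LP (LK LD1_c3 LD2_c47 LD3_c6)) :=
  Lre_c IH (LK LD1_c1 LD2_c50 LD3_c40) (LK LD1_c3 LD2_c47 LD3_c6) Lrfl Lrfl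
theorem f481705 : Led Lsl_gt (LP (LK LD1_c1 LD2_c52 LD3_c5)) = (LP (LK LD1_c3 LD2_c47 LD3_c6)) :=
  Lgr Lrot149 (Lpe (K7.f84951 IH) (Lpr_gf (f440835 IH) (Lpr_bf (f481703 IH) (Lpr_ct (K28.f10827 IH) (Lpr_gf (f467005 IH) (Lpe (f88490 IH) (Lpr_bt (K2.f87676 IH) (Lpe (f88618 IH) (Lpr_bf (f466736 IH) (Lpr_ct (f442353 IH) (Lpn (LP (LK LD1_c3 LD2_c47 LD3_c6)))))))))))))
theorem f482301 : Led Lsl_gt (LP (LK LD1_c1 LD2_c53 LD3_c58)) = (LP (LK LD1_c1 LD2_c52 LD3_c5)) :=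
  Lgr Lrot5 (Lpr_ft (f467722 IH) (Lpe (f467816 IH) (Lpe (f481705 IH) (Lpn (LP (LK LD1_c1 LD2_c52 LD3_c5))))))
theorem f145395 : Led Lsl_ct (LP (LK LD1_c0 LD2_c53 LD3_c32)) = (LP (LK LD1_c1 LD2_c53 LD3_c58)) :=
  Lre_c IH (LK LD1_c0 LD2_c53 LD3_c32) (LK LD1_c1 LD2_c53 LD3_c58) Lrfl Lrfl
def v216 : LQ := Led Lsl_ct (LP (LK LD1_c0 LD2_c24 LD3_c3))
theorem f451165 : Led Lsl_ct (LP (LK LD1_c0 LD2_c24 LD3_c3)) = v216 :=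
  Lrfl
theorem f455969 : (LP (LK LD1_c0 LD2_c22 LD3_c13)) = v216 :=
  Lefun (Lecon (Lfl_cf (f450897 IH)) (K24.f455968 IH)) (f451165 IH)
theorem f5955 : Led Lsl_gt (LP (LK LD1_c0 LD2_c48 LD3_c30)) = (LP (LK LD1_c1 LD2_c43 LD3_c8)) :=
  Lre_g IH (LK LD1_c0 LD2_c48 LD3_c30) (LK LD1_c1 LD2_c43 LD3_c8) Lrfl Lrfl
theorem f5971 : Led Lsl_ct (LP (LK LD1_c1 LD2_c43 LD3_c8)) = (LP (LK LD1_c3 LD2_c32 LD3_c55)) :=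
  Lre_c IH (LK LD1_c1 LD2_c43 LD3_c8) (LK LD1_c3 LD2_c32 LD3_c55) Lrfl Lrfl
theorem f467124 : Led Lsl_gt (LP (LK LD1_c3 LD2_c32 LD3_c55)) = (LP (LK LD1_c3 LD2_c36 LD3_c32)) :=
  Lgr Lrot149 (Lpe (f5971 IH) (Lpe (f5955 IH) (Lpe (K24.f5947 IH) (Lpe (K0.f5951 IH) (Lpr_gf (K24.f10146 IH) (Lpqs (f455969 IH) (Lpe (f451165 IH) (Lpr_bt (K28.f451016 IH) (Lpq (f466709 IH) (Lpe (f459668 IH) (Lpe (K2.f87676 IH) (Lpr_ct (f88490 IH) (Lpn (LP (LK LD1_c3 LD2_c36 LD3_c32)))))))))))))))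
theorem f456074 : Led Lsl_bt (LP (LK LD1_c1 LD2_c43 LD3_c8)) = (LP (LK LD1_c3 LD2_c32 LD3_c54)) :=
  Lre_b IH (LK LD1_c1 LD2_c43 LD3_c8) (LK LD1_c3 LD2_c32 LD3_c54) Lrfl Lrfl
theorem f482306 : Led Lsl_gf (LP (LK LD1_c3 LD2_c32 LD3_c54)) = (LP (LK LD1_c7 LD2_c5 LD3_c27)) :=
  Lgr Lrot124 (Lpe (f456074 IH) (Lpr_ct (f5971 IH) (Lpr_gt (f467124 IH) (Lpe (f88490 IH) (Lpr_bt (K2.f87676 IH) (Lpr_gt (f459668 IH) (Lpqs (f466709 IH) (Lpr_ct (f145395 IH) (Lpr_gt (f482301 IH) (Lpe (K7.f84951 IH) (Lpe (K7.f84942 IH) (Lpn (LP (LK LD1_c7 LD2_c5 LD3_c27))))))))))))))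
theorem f123507 : Led Lsl_bt (LP (LK LD1_c3 LD2_c42 LD3_c10)) = (LP (LK LD1_c7 LD2_c25 LD3_c2)) :=
  Lre_b IH (LK LD1_c3 LD2_c42 LD3_c10) (LK LD1_c7 LD2_c25 LD3_c2) Lrfl Lrfl
theorem f123508 : Led Lsl_bt (LP (LK LD1_c3 LD2_c55 LD3_c47)) = (LP (LK LD1_c1 LD2_c54 LD3_c32)) :=
  Lre_b IH (LK LD1_c3 LD2_c55 LD3_c47) (LK LD1_c1 LD2_c54 LD3_c32) Lrfl Lrfl
theorem f123510 : Led Lsl_bt (LP (LK LD1_c0 LD2_c53 LD3_c55)) = (LP (LK LD1_c1 LD2_c54 LD3_c29)) :=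
  Lre_b IH (LK LD1_c0 LD2_c53 LD3_c55) (LK LD1_c1 LD2_c54 LD3_c29) Lrfl Lrfl
theorem f123511 : Led Lsl_cf (LP (LK LD1_c3 LD2_c42 LD3_c10)) = (LP (LK LD1_c1 LD2_c54 LD3_c29)) :=
  Lgr Lrot97 (Lpr_bt (f123507 IH) (Lpr_ct (K5.f122702 IH) (Lpr_bt (f123508 IH) (Lpr_ct (K5.f123509 IH) (Lpr_bt (f123510 IH) (Lpn (LP (LK LD1_c1 LD2_c54 LD3_c29))))))))
theorem f132062 : Led Lsl_at (LP (LK LD1_c3 LD2_c31 LD3_c60)) = (LP (LK LD1_c1 LD2_c54 LD3_c29)) :=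
  Lgr Lrot107 (Lpe (K5.f96342 IH) (Lpr_af (K7.f132058 IH) (Lpr_cf (f123511 IH) (Lpn (LP (LK LD1_c1 LD2_c54 LD3_c29))))))
theorem f482312 : Led Lsl_gt (LP (LK LD1_c3 LD2_c32 LD3_c54)) = (LP (LK LD1_c1 LD2_c54 LD3_c29)) :=
  Lgr Lrot46 (Lpr_gf (f482306 IH) (Lpr_ft (K7.f84940 IH) (Lpr_at (f132062 IH) (Lpn (LP (LK LD1_c1 LD2_c54 LD3_c29))))))
theorem f88628 : Led Lsl_at (LP (LK LD1_c1 LD2_c50 LD3_c35)) = (LP (LK LD1_c3 LD2_c35 LD3_c35)) :=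
  Lgr Lrot100 (Lpr_af (K2.f88626 IH) (Lpn (LP (LK LD1_c3 LD2_c35 LD3_c35))))
theorem f87686 : Led Lsl_bt (LP (LK LD1_c1 LD2_c50 LD3_c39)) = (LP (LK LD1_c3 LD2_c47 LD3_c2)) :=
  Lre_b IH (LK LD1_c1 LD2_c50 LD3_c39) (LK LD1_c3 LD2_c47 LD3_c2) Lrfl Lrfl
theorem f88538 : Led Lsl_bt (LP (LK LD1_c7 LD2_c13 LD3_c25)) = (LP (LK LD1_c3 LD2_c36 LD3_c32)) :=
  Lre_b IH (LK LD1_c7 LD2_c13 LD3_c25) (LK LD1_c3 LD2_c36 LD3_c32) Lrfl Lrfl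
theorem f88539 : Led Lsl_cf (LP (LK LD1_c1 LD2_c50 LD3_c35)) = (LP (LK LD1_c3 LD2_c36 LD3_c32)) :=
  Lgr Lrot97 (Lpr_bt (K2.f87676 IH) (Lpr_ct (K28.f87697 IH) (Lpr_bt (f87686 IH) (Lpr_ct (K3.f88528 IH) (Lpr_bt (f88538 IH) (Lpn (LP (LK LD1_c3 LD2_c36 LD3_c32))))))))
theorem f96957 : Led Lsl_af (LP (LK LD1_c3 LD2_c36 LD3_c32)) = (LP (LK LD1_c3 LD2_c33 LD3_c3)) :=
  Lgr Lrot68 (Lpe (f88539 IH) (Lpr_at (f88628 IH) (Lpr_ct (K3.f96945 IH) (Lpn (LP (LK LD1_c3 LD2_c33 LD3_c3))))))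
theorem f467953 : Led Lsl_gt (LP (LK LD1_c7 LD2_c6 LD3_c43)) = (LP (LK LD1_c3 LD2_c32 LD3_c55)) :=
  Lgr Lrot5 (Lpr_ft (K28.f467938 IH) (Lpe (f96957 IH) (Lpe (f467124 IH) (Lpn (LP (LK LD1_c3 LD2_c32 LD3_c55))))))
theorem f466680 : Led Lsl_bt (LP (LK LD1_c3 LD2_c48 LD3_c9)) = (LP (LK LD1_c3 LD2_c33 LD3_c50)) :=
  Lgr Lrot127 (Lpr_bf (K28.f466650 IH) (Lpn (LP (LK LD1_c3 LD2_c33 LD3_c50))))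
theorem f123524 : Led Lsl_ct (LP (LK LD1_c0 LD2_c53 LD3_c55)) = (LP (LK LD1_c1 LD2_c54 LD3_c32)) :=
  Lre_c IH (LK LD1_c0 LD2_c53 LD3_c55) (LK LD1_c1 LD2_c54 LD3_c32) Lrfl Lrfl
theorem f121975 : Led Lsl_gt (LP (LK LD1_c1 LD2_c54 LD3_c32)) = (LP (LK LD1_c3 LD2_c55 LD3_c50)) :=
  Lre_g IH (LK LD1_c1 LD2_c54 LD3_c32) (LK LD1_c3 LD2_c55 LD3_c50) Lrfl Lrfl
theorem f482316 : Led Lsl_ct (LP (LK LD1_c3 LD2_c48 LD3_c9)) = (LP (LK LD1_c3 LD2_c55 LD3_c50)) :=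
  Lgr Lrot10 (Lpr_bt (f466680 IH) (Lpr_gt (K28.f6666 IH) (Lpe (K28.f467932 IH) (Lpr_gt (f467953 IH) (Lpe (f5971 IH) (Lpr_bt (f456074 IH) (Lpr_gt (f482312 IH) (Lpe (f123510 IH) (Lpr_ct (f123524 IH) (Lpr_gt (f121975 IH) (Lpn (LP (LK LD1_c3 LD2_c55 LD3_c50)))))))))))))
theorem f482320 : Led Lsl_cf (LP (LK LD1_c3 LD2_c48 LD3_c9)) = (LP (LK LD1_c3 LD2_c55 LD3_c50)) :=
  Lgr Lrot11 (Lpr_ct (f482316 IH) (Lpn (LP (LK LD1_c3 LD2_c55 LD3_c50))))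
theorem f90030 : Led Lsl_bt (LP (LK LD1_c1 LD2_c40 LD3_c10)) = (LP (LK LD1_c3 LD2_c27 LD3_c4)) :=
  Lre_b IH (LK LD1_c1 LD2_c40 LD3_c10) (LK LD1_c3 LD2_c27 LD3_c4) Lrfl Lrfl
theorem f90060 : Led Lsl_gt (LP (LK LD1_c6 LD2_c56 LD3_c2)) = (LP (LK LD1_c3 LD2_c27 LD3_c4)) :=
  Lre_g IH (LK LD1_c6 LD2_c56 LD3_c2) (LK LD1_c3 LD2_c27 LD3_c4) Lrfl Lrfl
theorem f90061 : Led Lsl_bt (LP (LK LD1_c13 LD2_c10 LD3_c6)) = (LP (LK LD1_c6 LD2_c56 LD3_c2)) :=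
  Lre_b IH (LK LD1_c13 LD2_c10 LD3_c6) (LK LD1_c6 LD2_c56 LD3_c2) Lrfl Lrfl
theorem f6665 : Led Lsl_ct (LP (LK LD1_c1 LD2_c43 LD3_c38)) = (LP (LK LD1_c3 LD2_c33 LD3_c50)) :=
  Lre_c IH (LK LD1_c1 LD2_c43 LD3_c38) (LK LD1_c3 LD2_c33 LD3_c50) Lrfl Lrfl
theorem f466682 : Led Lsl_ct (LP (LK LD1_c7 LD2_c8 LD3_c33)) = (LP (LK LD1_c3 LD2_c33 LD3_c49)) :=
  Lre_c IH (LK LD1_c7 LD2_c8 LD3_c33) (LK LD1_c3 LD2_c33 LD3_c49) Lrfl Lrfl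
theorem f482318 : Led Lsl_bf (LP (LK LD1_c7 LD2_c8 LD3_c33)) = (LP (LK LD1_c3 LD2_c55 LD3_c50)) :=
  Lgr Lrot90 (Lpr_ct (f466682 IH) (Lpr_bt (f6662 IH) (Lpr_ct (f6665 IH) (Lpe (K28.f466650 IH) (Lpr_ct (f482316 IH) (Lpn (LP (LK LD1_c3 LD2_c55 LD3_c50))))))))
theorem f157578 : Led Lsl_ct (LP (LK LD1_c3 LD2_c49 LD3_c8)) = (LP (LK LD1_c1 LD2_c51 LD3_c45)) :=
  Lre_c IH (LK LD1_c3 LD2_c49 LD3_c8) (LK LD1_c1 LD2_c51 LD3_c45) Lrfl Lrfl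
theorem f442298 : Led Lsl_ft (LP (LK LD1_c1 LD2_c51 LD3_c45)) = (LP (LK LD1_c3 LD2_c49 LD3_c29)) :=
  Lre_f IH (LK LD1_c1 LD2_c51 LD3_c45) (LK LD1_c3 LD2_c49 LD3_c29) Lrfl Lrfl
theorem f481040 : Led Lsl_cf (LP (LK LD1_c7 LD2_c15 LD3_c8)) = (LP (LK LD1_c3 LD2_c49 LD3_c29)) :=
  Lgr Lrot108 (Lpr_ft (f481021 IH) (Lpr_ct (f157578 IH) (Lpr_ft (f442298 IH) (Lpn (LP (LK LD1_c3 LD2_c49 LD3_c29))))))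
theorem f482338 : Led Lsl_ct (LP (LK LD1_c13 LD2_c10 LD3_c6)) = (LP (LK LD1_c13 LD2_c43 LD3_c27)) :=
  Lgr Lrot63 (Lpr_bt (f90061 IH) (Lpr_gt (f90060 IH) (Lpe (f90030 IH) (Lpr_ct (K2.f90032 IH) (Lpr_gt (K28.f88642 IH) (Lpr_cf (f482320 IH) (Lpe (f482318 IH) (Lpe (f477981 IH) (Lpe (f481040 IH) (Lpr_gt (f477964 IH) (Lpn (LP (LK LD1_c13 LD2_c43 LD3_c27)))))))))))))
theorem f482343 : Led Lsl_cf (LP (LK LD1_c13 LD2_c10 LD3_c6)) = (LP (LK LD1_c13 LD2_c43 LD3_c27)) :=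
  Lgr Lrot11 (Lpr_ct (f482338 IH) (Lpn (LP (LK LD1_c13 LD2_c43 LD3_c27))))
theorem f482349 : Led Lsl_ct (LP (LK LD1_c6 LD2_c56 LD3_c2)) = (LP (LK LD1_c13 LD2_c10 LD3_c7)) :=
  Lre_c IH (LK LD1_c6 LD2_c56 LD3_c2) (LK LD1_c13 LD2_c10 LD3_c7) Lrfl Lrfl
theorem f6397 : Led Lsl_ct (LP (LK LD1_c7 LD2_c12 LD3_c59)) = (LP (LK LD1_c13 LD2_c39 LD3_c30)) :=
  Lre_c IH (LK LD1_c7 LD2_c12 LD3_c59) (LK LD1_c13 LD2_c39 LD3_c30) Lrfl Lrfl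
theorem f482350 : Led Lsl_bt (LP (LK LD1_c13 LD2_c10 LD3_c7)) = (LP (LK LD1_c7 LD2_c12 LD3_c59)) :=
  Lgr Lrot128 (Lpe (f482349 IH) (Lpe (f90061 IH) (Lpr_cf (f482343 IH) (Lpr_bf (f481012 IH) (Lpe (f6397 IH) (Lpn (LP (LK LD1_c7 LD2_c12 LD3_c59))))))))
theorem f442180 : Led Lsl_ct (LP (LK LD1_c13 LD2_c10 LD3_c7)) = (LP (LK LD1_c6 LD2_c56 LD3_c2)) :=
  Lre_c IH (LK LD1_c13 LD2_c10 LD3_c7) (LK LD1_c6 LD2_c56 LD3_c2) Lrfl Lrfl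
theorem f96943 : Led Lsl_bt (LP (LK LD1_c6 LD2_c55 LD3_c58)) = (LP (LK LD1_c3 LD2_c33 LD3_c3)) :=
  Lgr Lrot127 (Lpr_bf (K3.f96939 IH) (Lpn (LP (LK LD1_c3 LD2_c33 LD3_c3))))
theorem f6026 : Led Lsl_ct (LP (LK LD1_c1 LD2_c43 LD3_c43)) = (LP (LK LD1_c0 LD2_c48 LD3_c27)) :=
  Lre_c IH (LK LD1_c1 LD2_c43 LD3_c43) (LK LD1_c0 LD2_c48 LD3_c27) Lrfl Lrfl
theorem f482363 : Led Lsl_gt (LP (LK LD1_c3 LD2_c33 LD3_c3)) = (LP (LK LD1_c1 LD2_c43 LD3_c43)) :=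
  Lgr Lrot82 (Lpe (f96943 IH) (Lpr_ct (K3.f90055 IH) (Lpe (f90060 IH) (Lpe (f442180 IH) (Lpr_bt (f482350 IH) (Lpr_gf (f6392 IH) (Lpe (f5975 IH) (Lpr_ct (f6379 IH) (Lpe (K2.f6402 IH) (Lpe (f6026 IH) (Lpn (LP (LK LD1_c1 LD2_c43 LD3_c43)))))))))))))
theorem f97458 : Led Lsl_et (LP (LK LD1_c3 LD2_c29 LD3_c33)) = (LP (LK LD1_c1 LD2_c41 LD3_c30)) :=
  Lre_e IH (LK LD1_c3 LD2_c29 LD3_c33) (LK LD1_c1 LD2_c41 LD3_c30) Lrfl Lrfl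
theorem f482419 : Led Lsl_et (LP (LK LD1_c3 LD2_c34 LD3_c7)) = (LP (LK LD1_c1 LD2_c43 LD3_c43)) :=
  Lre_e IH (LK LD1_c3 LD2_c34 LD3_c7) (LK LD1_c1 LD2_c43 LD3_c43) Lrfl Lrfl
theorem f93136 : Led Lsl_dt (LP (LK LD1_c3 LD2_c34 LD3_c7)) = (LP (LK LD1_c7 LD2_c9 LD3_c25)) :=
  Lre_d IH (LK LD1_c3 LD2_c34 LD3_c7) (LK LD1_c7 LD2_c9 LD3_c25) Lrfl Lrfl
theorem f482420 : Led Lsl_gf (LP (LK LD1_c7 LD2_c0 LD3_c46)) = (LP (LK LD1_c7 LD2_c9 LD3_c25)) :=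
  Lgr Lrot145 (Lpe (f97459 IH) (Lpr_et (f97458 IH) (Lpr_gt (K3.f97456 IH) (Lpr_dt (K3.f11548 IH) (Lpe (K3.f97414 IH) (Lpr_df (K3.f97374 IH) (Lpr_et (K3.f96938 IH) (Lpr_gt (f482363 IH) (Lpe (f482419 IH) (Lpr_dt (f93136 IH) (Lpn (LP (LK LD1_c7 LD2_c9 LD3_c25)))))))))))))
theorem f92501 : Led Lsl_gt (LP (LK LD1_c7 LD2_c9 LD3_c24)) = (LP (LK LD1_c3 LD2_c34 LD3_c7)) :=
  Lre_g IH (LK LD1_c7 LD2_c9 LD3_c24) (LK LD1_c3 LD2_c34 LD3_c7) Lrfl Lrfl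
theorem f482438 : Led Lsl_et (LP (LK LD1_c7 LD2_c15 LD3_c24)) = (LP (LK LD1_c7 LD2_c9 LD3_c24)) :=
  Lgr Lrot121 (Lpr_dt (f477576 IH) (Lpe (f97471 IH) (Lpe (K28.f94436 IH) (Lpr_et (K3.f94435 IH) (Lpe (K3.f97456 IH) (Lpe (f97458 IH) (Lpr_dt (f97459 IH) (Lpr_gf (f482420 IH) (Lpe (f93136 IH) (Lpe (f92501 IH) (Lpn (LP (LK LD1_c7 LD2_c9 LD3_c24)))))))))))))
theorem f475095 : Led Lsl_at (LP (LK LD1_c3 LD2_c36 LD3_c40)) = (LP (LK LD1_c1 LD2_c53 LD3_c8)) :=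
  Lgr Lrot100 (Lpr_af (f475093 IH) (Lpn (LP (LK LD1_c1 LD2_c53 LD3_c8))))
theorem f458605 : Led Lsl_bt (LP (LK LD1_c3 LD2_c53 LD3_c4)) = (LP (LK LD1_c1 LD2_c53 LD3_c8)) :=
  Lre_b IH (LK LD1_c3 LD2_c53 LD3_c4) (LK LD1_c1 LD2_c53 LD3_c8) Lrfl Lrfl
theorem f475071 : Led Lsl_ff (LP (LK LD1_c3 LD2_c36 LD3_c39)) = (LP (LK LD1_c1 LD2_c53 LD3_c8)) :=
  Lgr Lrot25 (Lpr_bt (f461963 IH) (Lpr_ft (f475065 IH) (Lpr_bt (f458605 IH) (Lpn (LP (LK LD1_c1 LD2_c53 LD3_c8))))))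
theorem f475188 : Led Lsl_at (LP (LK LD1_c3 LD2_c36 LD3_c39)) = (LP (LK LD1_c3 LD2_c33 LD3_c24)) :=
  Lgr Lrot66 (Lpr_ff (f475071 IH) (Lpe (f475095 IH) (Lpr_ff (f475186 IH) (Lpn (LP (LK LD1_c3 LD2_c33 LD3_c24))))))
theorem f98523 : Led Lsl_et (LP (LK LD1_c3 LD2_c33 LD3_c24)) = (LP (LK LD1_c7 LD2_c7 LD3_c43)) :=
  Lre_e IH (LK LD1_c3 LD2_c33 LD3_c24) (LK LD1_c7 LD2_c7 LD3_c43) Lrfl Lrfl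
theorem f475207 : Led Lsl_af (LP (LK LD1_c3 LD2_c53 LD3_c9)) = (LP (LK LD1_c7 LD2_c7 LD3_c43)) :=
  Lgr Lrot50 (Lpr_et (K28.f461961 IH) (Lpr_at (f475188 IH) (Lpr_et (f98523 IH) (Lpn (LP (LK LD1_c7 LD2_c7 LD3_c43))))))
theorem f98521 : Led Lsl_dt (LP (LK LD1_c7 LD2_c12 LD3_c18)) = (LP (LK LD1_c7 LD2_c7 LD3_c43)) :=
  Lgr Lrot42 (Lpr_df (K28.f98518 IH) (Lpn (LP (LK LD1_c7 LD2_c7 LD3_c43))))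
theorem f475211 : Led Lsl_at (LP (LK LD1_c7 LD2_c6 LD3_c14)) = (LP (LK LD1_c7 LD2_c12 LD3_c18)) :=
  Lgr Lrot51 (Lpe (K28.f461957 IH) (Lpr_af (f475207 IH) (Lpe (f98521 IH) (Lpn (LP (LK LD1_c7 LD2_c12 LD3_c18))))))
theorem f441561 : Led Lsl_gt (LP (LK LD1_c3 LD2_c35 LD3_c50)) = (LP (LK LD1_c7 LD2_c12 LD3_c17)) :=
  Lre_g IH (LK LD1_c3 LD2_c35 LD3_c50) (LK LD1_c7 LD2_c12 LD3_c17) Lrfl Lrfl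
theorem f441562 : Led Lsl_gt (LP (LK LD1_c7 LD2_c12 LD3_c17)) = (LP (LK LD1_c7 LD2_c6 LD3_c16)) :=
  Lgr Lrot46 (Lpe (f441561 IH) (Lpr_ft (K28.f441559 IH) (Lpr_at (K28.f108631 IH) (Lpn (LP (LK LD1_c7 LD2_c6 LD3_c16))))))
theorem f475215 : Led Lsl_ff (LP (LK LD1_c7 LD2_c6 LD3_c14)) = (LP (LK LD1_c7 LD2_c12 LD3_c17)) :=
  Lgr Lrot52 (Lpr_at (f475211 IH) (Lpr_gf (K28.f441633 IH) (Lpe (f441562 IH) (Lpn (LP (LK LD1_c7 LD2_c12 LD3_c17))))))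
theorem f475217 : Led Lsl_ft (LP (LK LD1_c7 LD2_c6 LD3_c14)) = (LP (LK LD1_c7 LD2_c12 LD3_c17)) :=
  Lgr Lrot48 (Lpr_ff (f475215 IH) (Lpn (LP (LK LD1_c7 LD2_c12 LD3_c17))))
theorem f475219 : Led Lsl_af (LP (LK LD1_c7 LD2_c6 LD3_c13)) = (LP (LK LD1_c7 LD2_c12 LD3_c17)) :=
  Lgr Lrot31 (Lpe (f97471 IH) (Lpe (K28.f94437 IH) (Lpr_ft (f475217 IH) (Lpn (LP (LK LD1_c7 LD2_c12 LD3_c17))))))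
theorem f475213 : Led Lsl_af (LP (LK LD1_c7 LD2_c6 LD3_c14)) = (LP (LK LD1_c7 LD2_c12 LD3_c18)) :=
  Lgr Lrot0 (Lpr_at (f475211 IH) (Lpn (LP (LK LD1_c7 LD2_c12 LD3_c18))))
theorem f475226 : Led Lsl_ft (LP (LK LD1_c7 LD2_c6 LD3_c13)) = (LP (LK LD1_c7 LD2_c12 LD3_c18)) :=
  Lgr Lrot101 (Lpr_af (f475219 IH) (Lpe (f475217 IH) (Lpr_af (f475213 IH) (Lpn (LP (LK LD1_c7 LD2_c12 LD3_c18))))))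
theorem f477582 : Led Lsl_ff (LP (LK LD1_c7 LD2_c15 LD3_c24)) = (LP (LK LD1_c7 LD2_c7 LD3_c43)) :=
  Lgr Lrot19 (Lpr_dt (f477576 IH) (Lpr_ft (f475226 IH) (Lpr_dt (f98521 IH) (Lpn (LP (LK LD1_c7 LD2_c7 LD3_c43))))))
theorem f98534 : Led Lsl_et (LP (LK LD1_c7 LD2_c13 LD3_c39)) = (LP (LK LD1_c3 LD2_c36 LD3_c40)) :=
  Lre_e IH (LK LD1_c7 LD2_c13 LD3_c39) (LK LD1_c3 LD2_c36 LD3_c40) Lrfl Lrfl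
theorem f482442 : Led Lsl_ff (LP (LK LD1_c7 LD2_c13 LD3_c39)) = (LP (LK LD1_c7 LD2_c9 LD3_c24)) :=
  Lgr Lrot72 (Lpr_et (f98534 IH) (Lpr_ft (f475155 IH) (Lpr_et (f98523 IH) (Lpe (f477582 IH) (Lpr_et (f482438 IH) (Lpn (LP (LK LD1_c7 LD2_c9 LD3_c24))))))))
theorem f482447 : Led Lsl_ft (LP (LK LD1_c7 LD2_c13 LD3_c39)) = (LP (LK LD1_c7 LD2_c9 LD3_c24)) :=
  Lgr Lrot48 (Lpr_ff (f482442 IH) (Lpn (LP (LK LD1_c7 LD2_c9 LD3_c24))))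
theorem f468105 : Led Lsl_gf (LP (LK LD1_c7 LD2_c8 LD3_c38)) = (LP (LK LD1_c3 LD2_c53 LD3_c12)) :=
  Lgr Lrot138 (Lpe (K28.f467366 IH) (Lpr_gt (K28.f467372 IH) (Lpe (K28.f109469 IH) (Lpr_et (K28.f109464 IH) (Lpr_gt (K8.f109475 IH) (Lpe (K5.f94480 IH) (Lpe (K28.f105961 IH) (Lpr_gt (K28.f468097 IH) (Lpe (f129808 IH) (Lpe (f129797 IH) (Lpn (LP (LK LD1_c3 LD2_c53 LD3_c12)))))))))))))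
theorem f473633 : Led Lsl_gf (LP (LK LD1_c3 LD2_c53 LD3_c3)) = (LP (LK LD1_c7 LD2_c8 LD3_c38)) :=
  Lgr Lrot76 (Lpe (f473628 IH) (Lpr_ff (f473620 IH) (Lpe (f468105 IH) (Lpn (LP (LK LD1_c7 LD2_c8 LD3_c38))))))
theorem f4409 : Led Lsl_dt (LP (LK LD1_c1 LD2_c46 LD3_c23)) = (LP (LK LD1_c0 LD2_c49 LD3_c55)) :=
  Lre_d IH (LK LD1_c1 LD2_c46 LD3_c23) (LK LD1_c0 LD2_c49 LD3_c55) Lrfl Lrfl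
theorem f4450 : Led Lsl_ct (LP (LK LD1_c3 LD2_c38 LD3_c57)) = (LP (LK LD1_c1 LD2_c46 LD3_c23)) :=
  Lre_c IH (LK LD1_c3 LD2_c38 LD3_c57) (LK LD1_c1 LD2_c46 LD3_c23) Lrfl Lrfl
theorem f475144 : Led Lsl_gt (LP (LK LD1_c7 LD2_c13 LD3_c39)) = (LP (LK LD1_c3 LD2_c38 LD3_c57)) :=
  Lgr Lrot150 (Lpr_cf (f475112 IH) (Lpr_gf (f473633 IH) (Lpe (K28.f467368 IH) (Lpr_gt (K28.f467372 IH) (Lpr_ct (K28.f109481 IH) (Lpe (K28.f467976 IH) (Lpr_ct (K28.f4274 IH) (Lpe (f4409 IH) (Lpe (f4450 IH) (Lpn (LP (LK LD1_c3 LD2_c38 LD3_c57))))))))))))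
theorem f475147 : Led Lsl_gt (LP (LK LD1_c3 LD2_c38 LD3_c57)) = (LP (LK LD1_c7 LD2_c18 LD3_c18)) :=
  Lre_g IH (LK LD1_c3 LD2_c38 LD3_c57) (LK LD1_c7 LD2_c18 LD3_c18) Lrfl Lrfl
theorem f482614 : Led Lsl_af (LP (LK LD1_c7 LD2_c18 LD3_c18)) = (LP (LK LD1_c7 LD2_c9 LD3_c24)) :=
  Lgr Lrot31 (Lpe (f475147 IH) (Lpe (f475144 IH) (Lpr_ft (f482447 IH) (Lpn (LP (LK LD1_c7 LD2_c9 LD3_c24))))))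
theorem f475109 : Led Lsl_af (LP (LK LD1_c7 LD2_c13 LD3_c39)) = (LP (LK LD1_c3 LD2_c53 LD3_c6)) :=
  Lgr Lrot0 (Lpr_at (f475107 IH) (Lpn (LP (LK LD1_c3 LD2_c53 LD3_c6))))
theorem f482625 : Led Lsl_ft (LP (LK LD1_c7 LD2_c18 LD3_c18)) = (LP (LK LD1_c3 LD2_c53 LD3_c6)) :=
  Lgr Lrot101 (Lpr_af (f482614 IH) (Lpe (f482447 IH) (Lpr_af (f475109 IH) (Lpn (LP (LK LD1_c3 LD2_c53 LD3_c6))))))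
theorem f482630 : Led Lsl_cf (LP (LK LD1_c7 LD2_c18 LD3_c18)) = (LP (LK LD1_c3 LD2_c53 LD3_c12)) :=
  Lgr Lrot108 (Lpr_ft (f482625 IH) (Lpr_ct (f468074 IH) (Lpr_ft (f473613 IH) (Lpn (LP (LK LD1_c3 LD2_c53 LD3_c12))))))
theorem f4447 : Led Lsl_ct (LP (LK LD1_c1 LD2_c46 LD3_c23)) = (LP (LK LD1_c3 LD2_c38 LD3_c57)) :=
  Lre_c IH (LK LD1_c1 LD2_c46 LD3_c23) (LK LD1_c3 LD2_c38 LD3_c57) Lrfl Lrfl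
theorem f129663 : Led Lsl_et (LP (LK LD1_c0 LD2_c53 LD3_c12)) = (LP (LK LD1_c0 LD2_c23 LD3_c56)) :=
  Lre_e IH (LK LD1_c0 LD2_c53 LD3_c12) (LK LD1_c0 LD2_c23 LD3_c56) Lrfl Lrfl
theorem f129664 : Led Lsl_dt (LP (LK LD1_c1 LD2_c53 LD3_c15)) = (LP (LK LD1_c0 LD2_c53 LD3_c12)) :=
  Lre_d IH (LK LD1_c1 LD2_c53 LD3_c15) (LK LD1_c0 LD2_c53 LD3_c12) Lrfl Lrfl
theorem f129665 : Led Lsl_ef (LP (LK LD1_c1 LD2_c53 LD3_c15)) = (LP (LK LD1_c1 LD2_c51 LD3_c1)) :=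
  Lgr Lrot73 (Lpr_dt (f129664 IH) (Lpr_et (f129663 IH) (Lpr_dt (K24.f129662 IH) (Lpr_et (K24.f129651 IH) (Lpr_dt (f129653 IH) (Lpn (LP (LK LD1_c1 LD2_c51 LD3_c1))))))))
theorem f467095 : Led Lsl_gf K28.v785 = (LP (LK LD1_c1 LD2_c53 LD3_c15)) :=
  Lgr Lrot138 (Lpe (f459368 IH) (Lpr_gt (f459355 IH) (Lpqs (f466750 IH) (Lpe (f85021 IH) (Lpr_et (K28.f65954 IH) (Lpr_gt (K2.f65637 IH) (Lpe (K1.f18781 IH) (Lpr_dt (K1.f18779 IH) (Lpr_gt (K24.f85281 IH) (Lpe (f85282 IH) (Lpe (f129665 IH) (Lpn (LP (LK LD1_c1 LD2_c53 LD3_c15))))))))))))))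
theorem f457239 : (LP (LK LD1_c0 LD2_c24 LD3_c3)) = K24.v215 :=
  Lefun (Lecon (Lfl_ff (K24.f451169 IH)) ((K24.f457230 IH).trans (K24.f455974 IH))) (K24.f451162 IH)
theorem f457251 : Led Lsl_af K24.v195 = K24.v195 :=
  Lgr Lrot50 (Lpe (K24.f451015 IH) (Lpr_at (K24.f451160 IH) (Lpq (f457239 IH) (Lpr_et (K24.f451017 IH) (Lpn K24.v195)))))
theorem f456455 : Led Lsl_cf K24.v195 = K24.v171 :=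
  Lgr Lrot14 (Lpe (K24.f451013 IH) (Lpe (K24.f436821 IH) (Lpe (K11.f4489 IH) (Lpr_gf (K11.f436798 IH) (Lpr_ct (K24.f451005 IH) (Lpq (K24.f456259 IH) (Lpr_gt (K24.f447658 IH) (Lpr_dt (K24.f451525 IH) (Lpe (K24.f451527 IH) (Lpe (K24.f451515 IH) (Lpn K24.v171)))))))))))
theorem f457252 : Led Lsl_at K24.v171 = K24.v171 :=
  Lgr Lrot107 (Lpe (K24.f456454 IH) (Lpr_af (f457251 IH) (Lpr_cf (f456455 IH) (Lpn K24.v171))))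
theorem f457202 : Led Lsl_ff K24.v171 = K24.v779 :=
  Lgr Lrot3 (Lpr_ft (K24.f457200 IH) (Lpn K24.v779))
theorem f457254 : Led Lsl_af K24.v779 = K24.v779 :=
  Lgr Lrot45 (Lpe (f457202 IH) (Lpr_at (f457252 IH) (Lpr_ft (K24.f457200 IH) (Lpn K24.v779))))
theorem f457377 : Led Lsl_gt K24.v171 = K24.v232 :=
  Lgr Lrot5 (Lpr_ft (K24.f457200 IH) (Lpe (f457254 IH) (Lpr_gf (K24.f457376 IH) (Lpn K24.v232))))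
theorem f455201 : Led Lsl_bt (LP (LK LD1_c0 LD2_c46 LD3_c49)) = (LP (LK LD1_c1 LD2_c40 LD3_c43)) :=
  Lre_b IH (LK LD1_c0 LD2_c46 LD3_c49) (LK LD1_c1 LD2_c40 LD3_c43) Lrfl Lrfl
theorem f482675 : Led Lsl_gf (LP (LK LD1_c1 LD2_c46 LD3_c23)) = (LP (LK LD1_c1 LD2_c40 LD3_c43)) :=
  Lgr Lrot181 (Lpr_ct (f4447 IH) (Lpr_gt (f475147 IH) (Lpr_cf (f482630 IH) (Lpr_bt (f129795 IH) (Lpe (f467095 IH) (Lpe (K28.f459370 IH) (Lpr_ct (K24.f456454 IH) (Lpr_gt (f457377 IH) (Lpq (K24.f457378 IH) (Lpe (K24.f455491 IH) (Lpr_bt (f455201 IH) (Lpn (LP (LK LD1_c1 LD2_c40 LD3_c43))))))))))))))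
theorem f482676 : Led Lsl_gt (LP (LK LD1_c1 LD2_c40 LD3_c43)) = (LP (LK LD1_c1 LD2_c46 LD3_c23)) :=
  Leop (Lpr_gf (f482675 IH) (Lpn (LP (LK LD1_c1 LD2_c40 LD3_c43))))
theorem seed_74 : LEOK LG_g (LK LD1_c1 LD2_c40 LD3_c43) :=
  Leoe_g (LK LD1_c1 LD2_c40 LD3_c43) (f482676 IH)
theorem f4265 : Led Lsl_dt (LP (LK LD1_c7 LD2_c16 LD3_c61)) = (LP (LK LD1_c3 LD2_c38 LD3_c19)) :=
  Lre_d IH (LK LD1_c7 LD2_c16 LD3_c61) (LK LD1_c3 LD2_c38 LD3_c19) Lrfl Lrfl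
theorem f4128 : Led Lsl_gt (LP (LK LD1_c3 LD2_c38 LD3_c44)) = (LP (LK LD1_c7 LD2_c16 LD3_c61)) :=
  Lre_g IH (LK LD1_c3 LD2_c38 LD3_c44) (LK LD1_c7 LD2_c16 LD3_c61) Lrfl Lrfl
theorem f455209 : Led Lsl_ct (LP (LK LD1_c3 LD2_c28 LD3_c12)) = (LP (LK LD1_c1 LD2_c40 LD3_c43)) :=
  Lre_c IH (LK LD1_c3 LD2_c28 LD3_c12) (LK LD1_c1 LD2_c40 LD3_c43) Lrfl Lrfl
theorem f455481 : Led Lsl_gt (LP (LK LD1_c3 LD2_c28 LD3_c12)) = (LP (LK LD1_c6 LD2_c58 LD3_c37)) :=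
  Lre_g IH (LK LD1_c3 LD2_c28 LD3_c12) (LK LD1_c6 LD2_c58 LD3_c37) Lrfl Lrfl
theorem f482677 : Led Lsl_df (LP (LK LD1_c3 LD2_c38 LD3_c44)) = (LP (LK LD1_c6 LD2_c58 LD3_c37)) :=
  Lgr Lrot153 (Lpr_gt (f4128 IH) (Lpr_dt (f4265 IH) (Lpe (f4263 IH) (Lpr_df (K3.f4045 IH) (Lpe (K3.f4273 IH) (Lpe (f4409 IH) (Lpr_gf (f482675 IH) (Lpe (f455209 IH) (Lpr_gt (f455481 IH) (Lpn (LP (LK LD1_c6 LD2_c58 LD3_c37))))))))))))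
theorem f482787 : Led Lsl_dt (LP (LK LD1_c3 LD2_c38 LD3_c44)) = (LP (LK LD1_c6 LD2_c58 LD3_c37)) :=
  Lgr Lrot42 (Lpr_df (f482677 IH) (Lpn (LP (LK LD1_c6 LD2_c58 LD3_c37))))
theorem f4278 : Led Lsl_ct (LP (LK LD1_c7 LD2_c17 LD3_c54)) = (LP (LK LD1_c3 LD2_c38 LD3_c44)) :=
  Lre_c IH (LK LD1_c7 LD2_c17 LD3_c54) (LK LD1_c3 LD2_c38 LD3_c44) Lrfl Lrfl
theorem f5507 : Led Lsl_gt (LP (LK LD1_c1 LD2_c46 LD3_c19)) = (LP (LK LD1_c3 LD2_c38 LD3_c44)) :=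
  Lre_g IH (LK LD1_c1 LD2_c46 LD3_c19) (LK LD1_c3 LD2_c38 LD3_c44) Lrfl Lrfl
theorem f4124 : Led Lsl_dt (LP (LK LD1_c0 LD2_c49 LD3_c54)) = (LP (LK LD1_c1 LD2_c46 LD3_c19)) :=
  Lre_d IH (LK LD1_c0 LD2_c49 LD3_c54) (LK LD1_c1 LD2_c46 LD3_c19) Lrfl Lrfl
theorem f4399 : Led Lsl_gt (LP (LK LD1_c1 LD2_c46 LD3_c18)) = (LP (LK LD1_c0 LD2_c49 LD3_c54)) :=
  Lre_g IH (LK LD1_c1 LD2_c46 LD3_c18) (LK LD1_c0 LD2_c49 LD3_c54) Lrfl Lrfl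
theorem f468075 : Led Lsl_at (LP (LK LD1_c3 LD2_c53 LD3_c3)) = (LP (LK LD1_c1 LD2_c53 LD3_c10)) :=
  Lre_a IH (LK LD1_c3 LD2_c53 LD3_c3) (LK LD1_c1 LD2_c53 LD3_c10) Lrfl Lrfl
theorem f473615 : Led Lsl_ff (LP (LK LD1_c3 LD2_c53 LD3_c3)) = (LP (LK LD1_c7 LD2_c47 LD3_c56)) :=
  Lgr Lrot30 (Lpr_at (f468075 IH) (Lpr_ft (f473613 IH) (Lpr_at (f129800 IH) (Lpn (LP (LK LD1_c7 LD2_c47 LD3_c56))))))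
theorem f129817 : Led Lsl_gt (LP (LK LD1_c3 LD2_c53 LD3_c11)) = (LP (LK LD1_c1 LD2_c53 LD3_c10)) :=
  Lre_g IH (LK LD1_c3 LD2_c53 LD3_c11) (LK LD1_c1 LD2_c53 LD3_c10) Lrfl Lrfl
theorem f476412 : Led Lsl_gf (LP (LK LD1_c3 LD2_c53 LD3_c11)) = (LP (LK LD1_c7 LD2_c47 LD3_c56)) :=
  Lgr Lrot47 (Lpr_gt (f129817 IH) (Lpe (f468075 IH) (Lpr_ff (f473615 IH) (Lpn (LP (LK LD1_c7 LD2_c47 LD3_c56))))))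
theorem f473563 : Led Lsl_dt (LP (LK LD1_c1 LD2_c53 LD3_c7)) = (LP (LK LD1_c3 LD2_c53 LD3_c2)) :=
  Lre_d IH (LK LD1_c1 LD2_c53 LD3_c7) (LK LD1_c3 LD2_c53 LD3_c2) Lrfl Lrfl
theorem f473578 : Led Lsl_dt (LP (LK LD1_c7 LD2_c47 LD3_c56)) = (LP (LK LD1_c3 LD2_c53 LD3_c3)) :=
  Lre_d IH (LK LD1_c7 LD2_c47 LD3_c56) (LK LD1_c3 LD2_c53 LD3_c3) Lrfl Lrfl
theorem f473579 : Led Lsl_et (LP (LK LD1_c7 LD2_c18 LD3_c46)) = (LP (LK LD1_c7 LD2_c47 LD3_c56)) :=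
  Lgr Lrot71 (Lpe (f5751 IH) (Lpr_ef (f473572 IH) (Lpe (f473563 IH) (Lpe (f473570 IH) (Lpe (f473578 IH) (Lpn (LP (LK LD1_c7 LD2_c47 LD3_c56))))))))
theorem f466572 : Led Lsl_et (LP (LK LD1_c3 LD2_c30 LD3_c54)) = (LP (LK LD1_c1 LD2_c41 LD3_c59)) :=
  Lre_e IH (LK LD1_c3 LD2_c30 LD3_c54) (LK LD1_c1 LD2_c41 LD3_c59) Lrfl Lrfl
theorem f466573 : Led Lsl_dt (LP (LK LD1_c3 LD2_c30 LD3_c54)) = (LP (LK LD1_c7 LD2_c3 LD3_c46)) :=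
  Lre_d IH (LK LD1_c3 LD2_c30 LD3_c54) (LK LD1_c7 LD2_c3 LD3_c46) Lrfl Lrfl
theorem f5932 : Led Lsl_bt (LP (LK LD1_c0 LD2_c48 LD3_c41)) = (LP (LK LD1_c0 LD2_c21 LD3_c47)) :=
  Lre_b IH (LK LD1_c0 LD2_c48 LD3_c41) (LK LD1_c0 LD2_c21 LD3_c47) Lrfl Lrfl
theorem f5933 : Led Lsl_ct (LP (LK LD1_c0 LD2_c48 LD3_c41)) = (LP (LK LD1_c1 LD2_c44 LD3_c16)) :=
  Lre_c IH (LK LD1_c0 LD2_c48 LD3_c41) (LK LD1_c1 LD2_c44 LD3_c16) Lrfl Lrfl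
theorem f5934 : Led Lsl_gt (LP (LK LD1_c3 LD2_c35 LD3_c0)) = (LP (LK LD1_c1 LD2_c44 LD3_c16)) :=
  Lre_g IH (LK LD1_c3 LD2_c35 LD3_c0) (LK LD1_c1 LD2_c44 LD3_c16) Lrfl Lrfl
theorem f466689 : Led Lsl_ct (LP (LK LD1_c1 LD2_c51 LD3_c11)) = (LP (LK LD1_c3 LD2_c35 LD3_c0)) :=
  Lgr Lrot91 (Lpe (K28.f124895 IH) (Lpr_bf (K28.f466650 IH) (Lpr_ct (K28.f10835 IH) (Lpe (K24.f6657 IH) (Lpe (K24.f6006 IH) (Lpr_bt (K24.f5908 IH) (Lpe (K24.f5928 IH) (Lpe (f5932 IH) (Lpr_ct (f5933 IH) (Lpe (f5934 IH) (Lpn (LP (LK LD1_c3 LD2_c35 LD3_c0)))))))))))))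
theorem f90046 : Led Lsl_ft (LP (LK LD1_c0 LD2_c52 LD3_c27)) = (LP (LK LD1_c1 LD2_c51 LD3_c11)) :=
  Lre_f IH (LK LD1_c0 LD2_c52 LD3_c27) (LK LD1_c1 LD2_c51 LD3_c11) Lrfl Lrfl
theorem f467232 : Led Lsl_ff (LP (LK LD1_c1 LD2_c51 LD3_c8)) = (LP (LK LD1_c3 LD2_c35 LD3_c0)) :=
  Lgr Lrot23 (Lpr_ct (K2.f89859 IH) (Lpr_ft (f90046 IH) (Lpr_ct (f466689 IH) (Lpn (LP (LK LD1_c3 LD2_c35 LD3_c0))))))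
theorem f89854 : Led Lsl_af (LP (LK LD1_c1 LD2_c40 LD3_c10)) = (LP (LK LD1_c1 LD2_c51 LD3_c8)) :=
  Lgr Lrot0 (Lpr_at (K2.f89852 IH) (Lpn (LP (LK LD1_c1 LD2_c51 LD3_c8))))
theorem f467245 : Led Lsl_gf (LP (LK LD1_c1 LD2_c40 LD3_c10)) = (LP (LK LD1_c1 LD2_c44 LD3_c16)) :=
  Lgr Lrot76 (Lpr_af (f89854 IH) (Lpr_ff (f467232 IH) (Lpr_gt (f5934 IH) (Lpn (LP (LK LD1_c1 LD2_c44 LD3_c16))))))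
theorem f5993 : Led Lsl_gt (LP (LK LD1_c3 LD2_c32 LD3_c49)) = (LP (LK LD1_c1 LD2_c43 LD3_c41)) :=
  Lre_g IH (LK LD1_c3 LD2_c32 LD3_c49) (LK LD1_c1 LD2_c43 LD3_c41) Lrfl Lrfl
theorem f123406 : Led Lsl_bt (LP (LK LD1_c0 LD2_c10 LD3_c45)) = (LP (LK LD1_c0 LD2_c24 LD3_c2)) :=
  Lre_b IH (LK LD1_c0 LD2_c10 LD3_c45) (LK LD1_c0 LD2_c24 LD3_c2) Lrfl Lrfl
theorem f123410 : Led Lsl_gt (LP (LK LD1_c0 LD2_c24 LD3_c2)) = (LP (LK LD1_c0 LD2_c53 LD3_c29)) :=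
  Lre_g IH (LK LD1_c0 LD2_c24 LD3_c2) (LK LD1_c0 LD2_c53 LD3_c29) Lrfl Lrfl
theorem f123411 : Led Lsl_bt (LP (LK LD1_c1 LD2_c53 LD3_c50)) = (LP (LK LD1_c0 LD2_c53 LD3_c29)) :=
  Lre_b IH (LK LD1_c1 LD2_c53 LD3_c50) (LK LD1_c0 LD2_c53 LD3_c29) Lrfl Lrfl
theorem f456061 : Led Lsl_cf (LP (LK LD1_c3 LD2_c32 LD3_c49)) = (LP (LK LD1_c1 LD2_c53 LD3_c50)) :=
  Lgr Lrot160 (Lpr_gt (f5993 IH) (Lpe (K28.f5948 IH) (Lpr_bt (K0.f5962 IH) (Lpe (f10177 IH) (Lpq (K24.f456044 IH) (Lpe (f451187 IH) (Lpr_gt (K24.f12124 IH) (Lpr_cf (K24.f122770 IH) (Lpr_bt (f123406 IH) (Lpr_gt (f123410 IH) (Lpe (f123411 IH) (Lpn (LP (LK LD1_c1 LD2_c53 LD3_c50))))))))))))))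
theorem f467249 : Led Lsl_gt (LP (LK LD1_c3 LD2_c35 LD3_c35)) = (LP (LK LD1_c1 LD2_c53 LD3_c50)) :=
  Lgr Lrot82 (Lpe (K2.f88630 IH) (Lpe (K2.f89860 IH) (Lpr_gf (f467245 IH) (Lpe (f5933 IH) (Lpr_bt (f5932 IH) (Lpr_gf (f10177 IH) (Lpe (K0.f5962 IH) (Lpr_ct (K28.f5948 IH) (Lpe (f5993 IH) (Lpr_cf (f456061 IH) (Lpn (LP (LK LD1_c1 LD2_c53 LD3_c50)))))))))))))
theorem f456114 : Led Lsl_dt (LP (LK LD1_c1 LD2_c53 LD3_c50)) = (LP (LK LD1_c3 LD2_c54 LD3_c29)) :=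
  Lre_d IH (LK LD1_c1 LD2_c53 LD3_c50) (LK LD1_c3 LD2_c54 LD3_c29) Lrfl Lrfl
theorem f467259 : Led Lsl_gf (LP (LK LD1_c7 LD2_c3 LD3_c46)) = (LP (LK LD1_c3 LD2_c54 LD3_c29)) :=
  Lgr Lrot134 (Lpe (f466573 IH) (Lpr_et (f466572 IH) (Lpr_gt (K28.f466566 IH) (Lpe (K3.f17675 IH) (Lpr_dt (K1.f17643 IH) (Lpr_gt (K2.f10297 IH) (Lpe (K2.f17498 IH) (Lpr_et (K2.f87154 IH) (Lpr_gt (f467249 IH) (Lpr_dt (f456114 IH) (Lpn (LP (LK LD1_c3 LD2_c54 LD3_c29)))))))))))))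
theorem f476416 : Led Lsl_ef (LP (LK LD1_c3 LD2_c53 LD3_c11)) = (LP (LK LD1_c1 LD2_c53 LD3_c50)) :=
  Lgr Lrot17 (Lpr_gf (f476412 IH) (Lpe (f473579 IH) (Lpr_dt (f106125 IH) (Lpe (K28.f5750 IH) (Lpe (K4.f106117 IH) (Lpe (K28.f466566 IH) (Lpe (f466572 IH) (Lpr_dt (f466573 IH) (Lpr_gf (f467259 IH) (Lpe (f456114 IH) (Lpn (LP (LK LD1_c1 LD2_c53 LD3_c50)))))))))))))
theorem f476421 : Led Lsl_et (LP (LK LD1_c3 LD2_c53 LD3_c11)) = (LP (LK LD1_c1 LD2_c53 LD3_c50)) :=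
  Lgr Lrot87 (Lpr_ef (f476416 IH) (Lpn (LP (LK LD1_c1 LD2_c53 LD3_c50))))
theorem f148249 : Led Lsl_et (LP (LK LD1_c0 LD2_c53 LD3_c29)) = (LP (LK LD1_c1 LD2_c53 LD3_c53)) :=
  Lre_e IH (LK LD1_c0 LD2_c53 LD3_c29) (LK LD1_c1 LD2_c53 LD3_c53) Lrfl Lrfl
theorem f476423 : Led Lsl_bf (LP (LK LD1_c3 LD2_c53 LD3_c11)) = (LP (LK LD1_c1 LD2_c53 LD3_c53)) :=
  Lgr Lrot96 (Lpr_et (f476421 IH) (Lpr_bt (f123411 IH) (Lpr_et (f148249 IH) (Lpn (LP (LK LD1_c1 LD2_c53 LD3_c53))))))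
theorem f89663 : Led Lsl_et (LP (LK LD1_c1 LD2_c41 LD3_c31)) = (LP (LK LD1_c0 LD2_c47 LD3_c19)) :=
  Lre_e IH (LK LD1_c1 LD2_c41 LD3_c31) (LK LD1_c0 LD2_c47 LD3_c19) Lrfl Lrfl
theorem f440669 : Led Lsl_df (LP (LK LD1_c1 LD2_c41 LD3_c31)) = (LP (LK LD1_c1 LD2_c41 LD3_c31)) :=
  Lgr Lrot78 (Lpr_ft (f440667 IH) (Lpr_dt (K28.f440657 IH) (Lpr_ft (K28.f440668 IH) (Lpn (LP (LK LD1_c1 LD2_c41 LD3_c31))))))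
theorem f440675 : Led Lsl_gt (LP (LK LD1_c3 LD2_c29 LD3_c35)) = (LP (LK LD1_c1 LD2_c41 LD3_c31)) :=
  Lre_g IH (LK LD1_c3 LD2_c29 LD3_c35) (LK LD1_c1 LD2_c41 LD3_c31) Lrfl Lrfl
theorem f476414 : Led Lsl_dt (LP (LK LD1_c3 LD2_c53 LD3_c11)) = (LP (LK LD1_c3 LD2_c29 LD3_c35)) :=
  Lgr Lrot171 (Lpr_gf (f476412 IH) (Lpe (f473579 IH) (Lpr_dt (f106125 IH) (Lpe (K28.f5750 IH) (Lpe (K4.f106117 IH) (Lpr_et (K28.f17690 IH) (Lpe (K2.f89658 IH) (Lpe (f89663 IH) (Lpe (f440669 IH) (Lpe (f440675 IH) (Lpn (LP (LK LD1_c3 LD2_c29 LD3_c35)))))))))))))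
theorem f131680 : Led Lsl_et (LP (LK LD1_c0 LD2_c10 LD3_c44)) = (LP (LK LD1_c0 LD2_c24 LD3_c2)) :=
  Lre_e IH (LK LD1_c0 LD2_c10 LD3_c44) (LK LD1_c0 LD2_c24 LD3_c2) Lrfl Lrfl
theorem f148240 : Led Lsl_et (LP (LK LD1_c1 LD2_c53 LD3_c53)) = (LP (LK LD1_c0 LD2_c53 LD3_c29)) :=
  Lre_e IH (LK LD1_c1 LD2_c53 LD3_c53) (LK LD1_c0 LD2_c53 LD3_c29) Lrfl Lrfl
theorem f4501 : Led Lsl_df (LP (LK LD1_c0 LD2_c50 LD3_c39)) = (LP (LK LD1_c0 LD2_c50 LD3_c39)) :=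
  Lgr Lrot12 (Lpr_bt (K11.f4499 IH) (Lpr_dt (K11.f4489 IH) (Lpr_bt (K11.f4500 IH) (Lpn (LP (LK LD1_c0 LD2_c50 LD3_c39))))))
theorem f4508 : Led Lsl_dt (LP (LK LD1_c1 LD2_c47 LD3_c45)) = (LP (LK LD1_c3 LD2_c41 LD3_c44)) :=
  Lre_d IH (LK LD1_c1 LD2_c47 LD3_c45) (LK LD1_c3 LD2_c41 LD3_c44) Lrfl Lrfl
theorem f4509 : Led Lsl_ct (LP (LK LD1_c3 LD2_c41 LD3_c44)) = (LP (LK LD1_c7 LD2_c24 LD3_c12)) :=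
  Lre_c IH (LK LD1_c3 LD2_c41 LD3_c44) (LK LD1_c7 LD2_c24 LD3_c12) Lrfl Lrfl
theorem f4510 : Led Lsl_ct (LP (LK LD1_c1 LD2_c47 LD3_c45)) = (LP (LK LD1_c0 LD2_c50 LD3_c39)) :=
  Lre_c IH (LK LD1_c1 LD2_c47 LD3_c45) (LK LD1_c0 LD2_c50 LD3_c39) Lrfl Lrfl
theorem f4511 : Led Lsl_dt (LP (LK LD1_c3 LD2_c41 LD3_c44)) = (LP (LK LD1_c1 LD2_c47 LD3_c45)) :=
  Lre_d IH (LK LD1_c3 LD2_c41 LD3_c44) (LK LD1_c1 LD2_c47 LD3_c45) Lrfl Lrfl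
theorem f4521 : Led Lsl_ft (LP (LK LD1_c3 LD2_c41 LD3_c44)) = (LP (LK LD1_c1 LD2_c47 LD3_c44)) :=
  Lre_f IH (LK LD1_c3 LD2_c41 LD3_c44) (LK LD1_c1 LD2_c47 LD3_c44) Lrfl Lrfl
theorem f4522 : Led Lsl_at (LP (LK LD1_c1 LD2_c47 LD3_c44)) = (LP (LK LD1_c3 LD2_c40 LD3_c41)) :=
  Lre_a IH (LK LD1_c1 LD2_c47 LD3_c44) (LK LD1_c3 LD2_c40 LD3_c41) Lrfl Lrfl
theorem f4523 : Led Lsl_ct (LP (LK LD1_c7 LD2_c21 LD3_c40)) = (LP (LK LD1_c3 LD2_c40 LD3_c41)) :=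
  Lre_c IH (LK LD1_c7 LD2_c21 LD3_c40) (LK LD1_c3 LD2_c40 LD3_c41) Lrfl Lrfl
theorem f4524 : Led Lsl_dt (LP (LK LD1_c7 LD2_c24 LD3_c12)) = (LP (LK LD1_c7 LD2_c21 LD3_c40)) :=
  Lgr Lrot120 (Lpe (f4509 IH) (Lpe (f4508 IH) (Lpe (f4507 IH) (Lpr_df (f4501 IH) (Lpe (f4510 IH) (Lpe (f4511 IH) (Lpr_ft (f4521 IH) (Lpr_at (f4522 IH) (Lpe (f4523 IH) (Lpn (LP (LK LD1_c7 LD2_c21 LD3_c40))))))))))))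
theorem f4512 : Led Lsl_ct (LP (LK LD1_c7 LD2_c24 LD3_c12)) = (LP (LK LD1_c3 LD2_c41 LD3_c44)) :=
  Lre_c IH (LK LD1_c7 LD2_c24 LD3_c12) (LK LD1_c3 LD2_c41 LD3_c44) Lrfl Lrfl
theorem f4515 : Led Lsl_at (LP (LK LD1_c3 LD2_c40 LD3_c42)) = (LP (LK LD1_c1 LD2_c47 LD3_c45)) :=
  Lre_a IH (LK LD1_c3 LD2_c40 LD3_c42) (LK LD1_c1 LD2_c47 LD3_c45) Lrfl Lrfl
theorem f4516 : Led Lsl_ft (LP (LK LD1_c1 LD2_c47 LD3_c17)) = (LP (LK LD1_c3 LD2_c40 LD3_c42)) :=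
  Lre_f IH (LK LD1_c1 LD2_c47 LD3_c17) (LK LD1_c3 LD2_c40 LD3_c42) Lrfl Lrfl
theorem f4517 : Led Lsl_dt (LP (LK LD1_c1 LD2_c47 LD3_c17)) = (LP (LK LD1_c3 LD2_c40 LD3_c41)) :=
  Lre_d IH (LK LD1_c1 LD2_c47 LD3_c17) (LK LD1_c3 LD2_c40 LD3_c41) Lrfl Lrfl
theorem f4518 : Led Lsl_ct (LP (LK LD1_c3 LD2_c40 LD3_c41)) = (LP (LK LD1_c7 LD2_c21 LD3_c40)) :=
  Lre_c IH (LK LD1_c3 LD2_c40 LD3_c41) (LK LD1_c7 LD2_c21 LD3_c40) Lrfl Lrfl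
theorem f4519 : Led Lsl_dt (LP (LK LD1_c7 LD2_c21 LD3_c40)) = (LP (LK LD1_c7 LD2_c24 LD3_c12)) :=
  Lgr Lrot32 (Lpe (f4518 IH) (Lpe (f4517 IH) (Lpr_ft (f4516 IH) (Lpr_at (f4515 IH) (Lpe (f4507 IH) (Lpr_df (f4501 IH) (Lpe (f4510 IH) (Lpe (f4511 IH) (Lpe (f4512 IH) (Lpn (LP (LK LD1_c7 LD2_c24 LD3_c12))))))))))))
theorem f4545 : Led Lsl_ct (LP (LK LD1_c0 LD2_c50 LD3_c27)) = (LP (LK LD1_c1 LD2_c47 LD3_c17)) :=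
  Lre_c IH (LK LD1_c0 LD2_c50 LD3_c27) (LK LD1_c1 LD2_c47 LD3_c17) Lrfl Lrfl
theorem f4526 : Led Lsl_dt (LP (LK LD1_c3 LD2_c40 LD3_c41)) = (LP (LK LD1_c1 LD2_c47 LD3_c17)) :=
  Lre_d IH (LK LD1_c3 LD2_c40 LD3_c41) (LK LD1_c1 LD2_c47 LD3_c17) Lrfl Lrfl
theorem f4527 : Led Lsl_ct (LP (LK LD1_c1 LD2_c47 LD3_c17)) = (LP (LK LD1_c0 LD2_c50 LD3_c27)) :=
  Lre_c IH (LK LD1_c1 LD2_c47 LD3_c17) (LK LD1_c0 LD2_c50 LD3_c27) Lrfl Lrfl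
theorem f4546 : Led Lsl_df (LP (LK LD1_c0 LD2_c50 LD3_c27)) = (LP (LK LD1_c0 LD2_c50 LD3_c27)) :=
  Lgr Lrot43 (Lpr_ct (f4545 IH) (Lpr_dt (f4517 IH) (Lpr_ct (f4518 IH) (Lpr_dt (f4519 IH) (Lpr_ct (f4512 IH) (Lpr_dt (f4511 IH) (Lpr_ct (f4510 IH) (Lpe (f4501 IH) (Lpr_ct (f4507 IH) (Lpr_dt (f4508 IH) (Lpr_ct (f4509 IH) (Lpr_dt (f4524 IH) (Lpr_ct (f4523 IH) (Lpr_dt (f4526 IH) (Lpr_ct (f4527 IH) (Lpn (LP (LK LD1_c0 LD2_c50 LD3_c27))))))))))))))))))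
theorem f4835 : Led Lsl_gt (LP (LK LD1_c1 LD2_c47 LD3_c19)) = (LP (LK LD1_c0 LD2_c50 LD3_c27)) :=
  Lre_g IH (LK LD1_c1 LD2_c47 LD3_c19) (LK LD1_c0 LD2_c50 LD3_c27) Lrfl Lrfl
theorem f148241 : Led Lsl_dt (LP (LK LD1_c1 LD2_c53 LD3_c53)) = (LP (LK LD1_c1 LD2_c47 LD3_c19)) :=
  Lgr Lrot136 (Lpr_et (f148240 IH) (Lpe (f123410 IH) (Lpe (f131680 IH) (Lpr_dt (K6.f12745 IH) (Lpe (K5.f12693 IH) (Lpr_df (K7.f123592 IH) (Lpr_gf (K7.f148158 IH) (Lpe (K11.f4828 IH) (Lpe (f4546 IH) (Lpe (f4835 IH) (Lpn (LP (LK LD1_c1 LD2_c47 LD3_c19)))))))))))))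
theorem f148247 : Led Lsl_df (LP (LK LD1_c1 LD2_c53 LD3_c53)) = (LP (LK LD1_c1 LD2_c47 LD3_c19)) :=
  Lgr Lrot38 (Lpr_dt (f148241 IH) (Lpn (LP (LK LD1_c1 LD2_c47 LD3_c19))))
theorem f476426 : Led Lsl_bt (LP (LK LD1_c3 LD2_c29 LD3_c35)) = (LP (LK LD1_c1 LD2_c47 LD3_c19)) :=
  Lgr Lrot95 (Lpe (f476414 IH) (Lpr_bf (f476423 IH) (Lpr_df (f148247 IH) (Lpn (LP (LK LD1_c1 LD2_c47 LD3_c19))))))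
theorem f4531 : Led Lsl_gt (LP (LK LD1_c0 LD2_c50 LD3_c39)) = (LP (LK LD1_c1 LD2_c47 LD3_c19)) :=
  Lre_g IH (LK LD1_c0 LD2_c50 LD3_c39) (LK LD1_c1 LD2_c47 LD3_c19) Lrfl Lrfl
theorem f447687 : Led Lsl_ct (LP (LK LD1_c0 LD2_c22 LD3_c55)) = K11.v97 :=
  Lgr Lrot40 (Lpe (K11.f4487 IH) (Lpe (K4.f12851 IH) (Lpr_ff (K11.f447685 IH) (Lpn K11.v97))))
theorem f447686 : Led Lsl_at K11.v97 = K11.v97 :=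
  Lgr Lrot66 (Lpe (K11.f447682 IH) (Lpr_af (K11.f436819 IH) (Lpr_ff (K11.f447685 IH) (Lpn K11.v97))))
theorem f447690 : Led Lsl_gt K24.v94 = K11.v97 :=
  Lgr Lrot46 (Lpe (K24.f447675 IH) (Lpr_ft (K11.f447682 IH) (Lpr_at (f447686 IH) (Lpn K11.v97))))
theorem f476430 : Led Lsl_ct (LP (LK LD1_c3 LD2_c29 LD3_c35)) = (LP (LK LD1_c1 LD2_c46 LD3_c18)) :=
  Lgr Lrot64 (Lpr_bt (f476426 IH) (Lpe (f4531 IH) (Lpe (K11.f4500 IH) (Lpr_ct (f447687 IH) (Lpe (f447690 IH) (Lpr_cf (f451562 IH) (Lpq (f455963 IH) (Lpe (K24.f447638 IH) (Lpe (K2.f4025 IH) (Lpr_ct (f4123 IH) (Lpe (f4399 IH) (Lpn (LP (LK LD1_c1 LD2_c46 LD3_c18))))))))))))))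
theorem f476435 : Led Lsl_cf (LP (LK LD1_c3 LD2_c29 LD3_c35)) = (LP (LK LD1_c1 LD2_c46 LD3_c18)) :=
  Lgr Lrot11 (Lpr_ct (f476430 IH) (Lpn (LP (LK LD1_c1 LD2_c46 LD3_c18))))
theorem f129816 : Led Lsl_gt (LP (LK LD1_c1 LD2_c53 LD3_c10)) = (LP (LK LD1_c3 LD2_c53 LD3_c10)) :=
  Lre_g IH (LK LD1_c1 LD2_c53 LD3_c10) (LK LD1_c3 LD2_c53 LD3_c10) Lrfl Lrfl
theorem f473622 : Led Lsl_gt (LP (LK LD1_c3 LD2_c53 LD3_c10)) = (LP (LK LD1_c7 LD2_c47 LD3_c56)) :=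
  Lgr Lrot46 (Lpe (f129816 IH) (Lpr_ft (f473613 IH) (Lpr_at (f129800 IH) (Lpn (LP (LK LD1_c7 LD2_c47 LD3_c56))))))
theorem f473624 : Led Lsl_df (LP (LK LD1_c3 LD2_c53 LD3_c10)) = (LP (LK LD1_c3 LD2_c29 LD3_c34)) :=
  Lgr Lrot135 (Lpr_gt (f473622 IH) (Lpe (f473571 IH) (Lpr_et (f473570 IH) (Lpe (f473567 IH) (Lpe (K5.f26192 IH) (Lpr_dt (K3.f5259 IH) (Lpe (K3.f107229 IH) (Lpe (K3.f95975 IH) (Lpr_et (f107235 IH) (Lpr_gt (f107236 IH) (Lpn (LP (LK LD1_c3 LD2_c29 LD3_c34)))))))))))))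
theorem f482796 : Led Lsl_ct (LP (LK LD1_c3 LD2_c53 LD3_c10)) = (LP (LK LD1_c6 LD2_c58 LD3_c37)) :=
  Lgr Lrot7 (Lpr_df (f473624 IH) (Lpe (f107236 IH) (Lpr_df (f440669 IH) (Lpe (f440675 IH) (Lpr_cf (f476435 IH) (Lpr_gt (f4399 IH) (Lpr_dt (f4124 IH) (Lpr_gt (f5507 IH) (Lpr_dt (f482787 IH) (Lpn (LP (LK LD1_c6 LD2_c58 LD3_c37))))))))))))
theorem f482449 : Led Lsl_gf (LP (LK LD1_c3 LD2_c53 LD3_c6)) = (LP (LK LD1_c3 LD2_c34 LD3_c7)) :=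
  Lgr Lrot76 (Lpe (f475107 IH) (Lpr_ff (f482442 IH) (Lpr_gt (f92501 IH) (Lpn (LP (LK LD1_c3 LD2_c34 LD3_c7))))))
theorem f440674 : Led Lsl_ct (LP (LK LD1_c7 LD2_c0 LD3_c46)) = (LP (LK LD1_c13 LD2_c18 LD3_c9)) :=
  Lre_c IH (LK LD1_c7 LD2_c0 LD3_c46) (LK LD1_c13 LD2_c18 LD3_c9) Lrfl Lrfl
theorem f482800 : Led Lsl_gf (LP (LK LD1_c7 LD2_c17 LD3_c54)) = (LP (LK LD1_c13 LD2_c18 LD3_c9)) :=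
  Lgr Lrot172 (Lpr_ct (f4278 IH) (Lpr_dt (f482787 IH) (Lpe (f482796 IH) (Lpe (f129816 IH) (Lpe (f468074 IH) (Lpr_gf (f482449 IH) (Lpr_dt (f93136 IH) (Lpe (f482420 IH) (Lpr_ct (f440674 IH) (Lpn (LP (LK LD1_c13 LD2_c18 LD3_c9))))))))))))
theorem f5509 : Led Lsl_gt (LP (LK LD1_c7 LD2_c17 LD3_c54)) = (LP (LK LD1_c13 LD2_c48 LD3_c30)) :=
  Lre_g IH (LK LD1_c7 LD2_c17 LD3_c54) (LK LD1_c13 LD2_c48 LD3_c30) Lrfl Lrfl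
theorem f4427 : Led Lsl_ct (LP (LK LD1_c13 LD2_c49 LD3_c1)) = (LP (LK LD1_c7 LD2_c18 LD3_c7)) :=
  Lre_c IH (LK LD1_c13 LD2_c49 LD3_c1) (LK LD1_c7 LD2_c18 LD3_c7) Lrfl Lrfl
theorem f466996 : Led Lsl_ff (LP (LK LD1_c13 LD2_c49 LD3_c1)) = (LP (LK LD1_c13 LD2_c18 LD3_c9)) :=
  Lgr Lrot23 (Lpr_ct (f4427 IH) (Lpr_ft (f466990 IH) (Lpr_ct (f440674 IH) (Lpn (LP (LK LD1_c13 LD2_c18 LD3_c9))))))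
theorem f482832 : Led Lsl_af (LP (LK LD1_c13 LD2_c48 LD3_c30)) = (LP (LK LD1_c13 LD2_c49 LD3_c1)) :=
  Lgr Lrot31 (Lpe (f5509 IH) (Lpr_gf (f482800 IH) (Lpe (f466996 IH) (Lpn (LP (LK LD1_c13 LD2_c49 LD3_c1))))))
theorem f440662 : Led Lsl_ct (LP (LK LD1_c13 LD2_c18 LD3_c9)) = (LP (LK LD1_c7 LD2_c0 LD3_c46)) :=
  Lre_c IH (LK LD1_c13 LD2_c18 LD3_c9) (LK LD1_c7 LD2_c0 LD3_c46) Lrfl Lrfl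
theorem f441473 : Led Lsl_ct (LP (LK LD1_c7 LD2_c11 LD3_c60)) = (LP (LK LD1_c13 LD2_c38 LD3_c7)) :=
  Lre_c IH (LK LD1_c7 LD2_c11 LD3_c60) (LK LD1_c13 LD2_c38 LD3_c7) Lrfl Lrfl
theorem f441478 : Led Lsl_af (LP (LK LD1_c13 LD2_c18 LD3_c9)) = (LP (LK LD1_c13 LD2_c38 LD3_c7)) :=
  Lgr Lrot68 (Lpr_ct (f440662 IH) (Lpr_at (f441474 IH) (Lpr_ct (f441473 IH) (Lpn (LP (LK LD1_c13 LD2_c38 LD3_c7))))))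
theorem f482847 : Led Lsl_ft (LP (LK LD1_c13 LD2_c48 LD3_c30)) = (LP (LK LD1_c13 LD2_c38 LD3_c7)) :=
  Lgr Lrot101 (Lpr_af (f482832 IH) (Lpr_ff (f466996 IH) (Lpr_af (f441478 IH) (Lpn (LP (LK LD1_c13 LD2_c38 LD3_c7))))))
theorem f440673 : Led Lsl_ct (LP (LK LD1_c1 LD2_c41 LD3_c31)) = (LP (LK LD1_c3 LD2_c29 LD3_c33)) :=
  Lre_c IH (LK LD1_c1 LD2_c41 LD3_c31) (LK LD1_c3 LD2_c29 LD3_c33) Lrfl Lrfl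
theorem f5285 : Led Lsl_gt (LP (LK LD1_c3 LD2_c38 LD3_c19)) = (LP (LK LD1_c1 LD2_c46 LD3_c18)) :=
  Lre_g IH (LK LD1_c3 LD2_c38 LD3_c19) (LK LD1_c1 LD2_c46 LD3_c18) Lrfl Lrfl
theorem f4126 : Led Lsl_gt (LP (LK LD1_c7 LD2_c16 LD3_c61)) = (LP (LK LD1_c3 LD2_c38 LD3_c45)) :=
  Lre_g IH (LK LD1_c7 LD2_c16 LD3_c61) (LK LD1_c3 LD2_c38 LD3_c45) Lrfl Lrfl
theorem f4272 : Led Lsl_ct (LP (LK LD1_c3 LD2_c38 LD3_c45)) = (LP (LK LD1_c7 LD2_c17 LD3_c57)) :=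
  Lre_c IH (LK LD1_c3 LD2_c38 LD3_c45) (LK LD1_c7 LD2_c17 LD3_c57) Lrfl Lrfl
theorem f476451 : Led Lsl_gf (LP (LK LD1_c13 LD2_c18 LD3_c9)) = (LP (LK LD1_c7 LD2_c17 LD3_c57)) :=
  Lgr Lrot104 (Lpr_ct (f440662 IH) (Lpe (f97459 IH) (Lpe (f440673 IH) (Lpe (f440675 IH) (Lpr_cf (f476435 IH) (Lpe (f5285 IH) (Lpe (f4265 IH) (Lpr_gt (f4126 IH) (Lpr_ct (f4272 IH) (Lpn (LP (LK LD1_c7 LD2_c17 LD3_c57))))))))))))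
theorem f482857 : Led Lsl_gt (LP (LK LD1_c13 LD2_c48 LD3_c30)) = (LP (LK LD1_c7 LD2_c17 LD3_c57)) :=
  Lgr Lrot5 (Lpr_ft (f482847 IH) (Lpe (f441478 IH) (Lpr_gf (f476451 IH) (Lpn (LP (LK LD1_c7 LD2_c17 LD3_c57))))))
theorem f467082 : Led Lsl_dt (LP (LK LD1_c13 LD2_c38 LD3_c7)) = (LP (LK LD1_c13 LD2_c49 LD3_c1)) :=
  Lgr Lrot173 (Lpe (f441473 IH) (Lpe (f98487 IH) (Lpe (K28.f109481 IH) (Lpe (K28.f109469 IH) (Lpr_cf (K28.f441469 IH) (Lpe (f441471 IH) (Lpe (f441472 IH) (Lpr_df (f466988 IH) (Lpe (f4428 IH) (Lpe (K28.f4415 IH) (Lpe (f466979 IH) (Lpe (K28.f440657 IH) (Lpr_cf (f466984 IH) (Lpe (f4429 IH) (Lpe (f4427 IH) (Lpn (LP (LK LD1_c13 LD2_c49 LD3_c1))))))))))))))))))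
theorem f467001 : Led Lsl_ff (LP (LK LD1_c7 LD2_c18 LD3_c7)) = (LP (LK LD1_c7 LD2_c0 LD3_c46)) :=
  Lgr Lrot3 (Lpr_ft (f466990 IH) (Lpn (LP (LK LD1_c7 LD2_c0 LD3_c46))))
theorem f467026 : Led Lsl_ft (LP (LK LD1_c13 LD2_c49 LD3_c1)) = (LP (LK LD1_c13 LD2_c18 LD3_c9)) :=
  Lgr Lrot4 (Lpe (f4428 IH) (Lpr_ff (f467001 IH) (Lpe (f440662 IH) (Lpn (LP (LK LD1_c13 LD2_c18 LD3_c9))))))
theorem f482852 : Led Lsl_df (LP (LK LD1_c13 LD2_c48 LD3_c30)) = (LP (LK LD1_c13 LD2_c18 LD3_c9)) :=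
  Lgr Lrot78 (Lpr_ft (f482847 IH) (Lpr_dt (f467082 IH) (Lpr_ft (f467026 IH) (Lpn (LP (LK LD1_c13 LD2_c18 LD3_c9))))))
theorem f4280 : Led Lsl_ct (LP (LK LD1_c7 LD2_c17 LD3_c57)) = (LP (LK LD1_c3 LD2_c38 LD3_c45)) :=
  Lre_c IH (LK LD1_c7 LD2_c17 LD3_c57) (LK LD1_c3 LD2_c38 LD3_c45) Lrfl Lrfl
theorem f4374 : Led Lsl_gt (LP (LK LD1_c3 LD2_c38 LD3_c45)) = (LP (LK LD1_c1 LD2_c46 LD3_c19)) :=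
  Lre_g IH (LK LD1_c3 LD2_c38 LD3_c45) (LK LD1_c1 LD2_c46 LD3_c19) Lrfl Lrfl
theorem f4121 : Led Lsl_dt (LP (LK LD1_c1 LD2_c46 LD3_c19)) = (LP (LK LD1_c0 LD2_c49 LD3_c54)) :=
  Lre_d IH (LK LD1_c1 LD2_c46 LD3_c19) (LK LD1_c0 LD2_c49 LD3_c54) Lrfl Lrfl
theorem f5344 : Led Lsl_dt (LP (LK LD1_c1 LD2_c46 LD3_c17)) = (LP (LK LD1_c3 LD2_c38 LD3_c39)) :=
  Lre_d IH (LK LD1_c1 LD2_c46 LD3_c17) (LK LD1_c3 LD2_c38 LD3_c39) Lrfl Lrfl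
theorem f5345 : Led Lsl_ct (LP (LK LD1_c3 LD2_c38 LD3_c39)) = (LP (LK LD1_c7 LD2_c17 LD3_c41)) :=
  Lre_c IH (LK LD1_c3 LD2_c38 LD3_c39) (LK LD1_c7 LD2_c17 LD3_c41) Lrfl Lrfl
theorem f482859 : Led Lsl_df (LP (LK LD1_c7 LD2_c17 LD3_c41)) = (LP (LK LD1_c7 LD2_c17 LD3_c57)) :=
  Lgr Lrot84 (Lpe (f5345 IH) (Lpe (f5344 IH) (Lpe (f5343 IH) (Lpe (f4121 IH) (Lpe (f4374 IH) (Lpe (f4280 IH) (Lpe (f476451 IH) (Lpe (f482852 IH) (Lpr_gt (f482857 IH) (Lpn (LP (LK LD1_c7 LD2_c17 LD3_c57))))))))))))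
theorem f482866 : Led Lsl_dt (LP (LK LD1_c7 LD2_c17 LD3_c41)) = (LP (LK LD1_c7 LD2_c17 LD3_c57)) :=
  Lgr Lrot42 (Lpr_df (f482859 IH) (Lpn (LP (LK LD1_c7 LD2_c17 LD3_c57))))
theorem f473626 : Led Lsl_dt (LP (LK LD1_c3 LD2_c53 LD3_c10)) = (LP (LK LD1_c3 LD2_c29 LD3_c34)) :=
  Lgr Lrot42 (Lpr_df (f473624 IH) (Lpn (LP (LK LD1_c3 LD2_c29 LD3_c34))))
theorem f482798 : Led Lsl_cf (LP (LK LD1_c3 LD2_c53 LD3_c10)) = (LP (LK LD1_c6 LD2_c58 LD3_c37)) :=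
  Lgr Lrot14 (Lpr_df (f473624 IH) (Lpe (f107236 IH) (Lpr_df (f440669 IH) (Lpe (f440675 IH) (Lpr_ct (f476430 IH) (Lpr_gt (f4399 IH) (Lpr_dt (f4124 IH) (Lpr_gt (f5507 IH) (Lpr_dt (f482787 IH) (Lpn (LP (LK LD1_c6 LD2_c58 LD3_c37))))))))))))
theorem f457000 : Led Lsl_dt (LP (LK LD1_c3 LD2_c38 LD3_c57)) = (LP (LK LD1_c7 LD2_c18 LD3_c20)) :=
  Lre_d IH (LK LD1_c3 LD2_c38 LD3_c57) (LK LD1_c7 LD2_c18 LD3_c20) Lrfl Lrfl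
theorem f4446 : Led Lsl_dt (LP (LK LD1_c0 LD2_c49 LD3_c55)) = (LP (LK LD1_c1 LD2_c46 LD3_c23)) :=
  Lre_d IH (LK LD1_c0 LD2_c49 LD3_c55) (LK LD1_c1 LD2_c46 LD3_c23) Lrfl Lrfl
theorem f4448 : Led Lsl_dt (LP (LK LD1_c7 LD2_c18 LD3_c20)) = (LP (LK LD1_c3 LD2_c38 LD3_c57)) :=
  Lre_d IH (LK LD1_c7 LD2_c18 LD3_c20) (LK LD1_c3 LD2_c38 LD3_c57) Lrfl Lrfl
theorem f481464 : Led Lsl_gt (LP (LK LD1_c7 LD2_c11 LD3_c60)) = (LP (LK LD1_c7 LD2_c18 LD3_c20)) :=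
  Lgr Lrot49 (Lpe (f98487 IH) (Lpr_gf (f481460 IH) (Lpe (f4420 IH) (Lpr_gt (K3.f4444 IH) (Lpe (K3.f4027 IH) (Lpr_gt (K3.f4445 IH) (Lpr_dt (f4446 IH) (Lpe (f4450 IH) (Lpe (f4448 IH) (Lpn (LP (LK LD1_c7 LD2_c18 LD3_c20))))))))))))
theorem f4262 : Led Lsl_dt (LP (LK LD1_c3 LD2_c38 LD3_c19)) = (LP (LK LD1_c7 LD2_c16 LD3_c61)) :=
  Lre_d IH (LK LD1_c3 LD2_c38 LD3_c19) (LK LD1_c7 LD2_c16 LD3_c61) Lrfl Lrfl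
theorem f4090 : Led Lsl_ft (LP (LK LD1_c7 LD2_c18 LD3_c1)) = (LP (LK LD1_c3 LD2_c38 LD3_c46)) :=
  Lre_f IH (LK LD1_c7 LD2_c18 LD3_c1) (LK LD1_c3 LD2_c38 LD3_c46) Lrfl Lrfl
theorem f4091 : Led Lsl_dt (LP (LK LD1_c3 LD2_c38 LD3_c46)) = (LP (LK LD1_c7 LD2_c18 LD3_c0)) :=
  Lre_d IH (LK LD1_c3 LD2_c38 LD3_c46) (LK LD1_c7 LD2_c18 LD3_c0) Lrfl Lrfl
theorem f4092 : Led Lsl_ft (LP (LK LD1_c7 LD2_c18 LD3_c0)) = (LP (LK LD1_c7 LD2_c16 LD3_c60)) :=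
  Lgr Lrot54 (Lpe (f4091 IH) (Lpe (f4090 IH) (Lpr_df (K2.f4067 IH) (Lpn (LP (LK LD1_c7 LD2_c16 LD3_c60))))))
theorem f4115 : Led Lsl_ff (LP (LK LD1_c7 LD2_c18 LD3_c0)) = (LP (LK LD1_c7 LD2_c16 LD3_c60)) :=
  Lgr Lrot3 (Lpr_ft (f4092 IH) (Lpn (LP (LK LD1_c7 LD2_c16 LD3_c60))))
theorem f4148 : Led Lsl_ft (LP (LK LD1_c7 LD2_c16 LD3_c61)) = (LP (LK LD1_c3 LD2_c38 LD3_c18)) :=
  Lre_f IH (LK LD1_c7 LD2_c16 LD3_c61) (LK LD1_c3 LD2_c38 LD3_c18) Lrfl Lrfl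
theorem f4149 : Led Lsl_ct (LP (LK LD1_c7 LD2_c18 LD3_c0)) = (LP (LK LD1_c7 LD2_c16 LD3_c61)) :=
  Lgr Lrot40 (Lpr_ff (f4115 IH) (Lpe (K2.f4066 IH) (Lpe (f4148 IH) (Lpn (LP (LK LD1_c7 LD2_c16 LD3_c61))))))
theorem f4076 : Led Lsl_at (LP (LK LD1_c3 LD2_c38 LD3_c46)) = (LP (LK LD1_c7 LD2_c16 LD3_c60)) :=
  Lre_a IH (LK LD1_c3 LD2_c38 LD3_c46) (LK LD1_c7 LD2_c16 LD3_c60) Lrfl Lrfl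
theorem f4077 : Led Lsl_dt (LP (LK LD1_c7 LD2_c18 LD3_c0)) = (LP (LK LD1_c3 LD2_c38 LD3_c46)) :=
  Lre_d IH (LK LD1_c7 LD2_c18 LD3_c0) (LK LD1_c3 LD2_c38 LD3_c46) Lrfl Lrfl
theorem f4078 : Led Lsl_at (LP (LK LD1_c7 LD2_c18 LD3_c1)) = (LP (LK LD1_c7 LD2_c18 LD3_c0)) :=
  Lgr Lrot51 (Lpr_df (K2.f4067 IH) (Lpe (f4076 IH) (Lpe (f4077 IH) (Lpn (LP (LK LD1_c7 LD2_c18 LD3_c0))))))
theorem f4102 : Led Lsl_ft (LP (LK LD1_c3 LD2_c38 LD3_c46)) = (LP (LK LD1_c7 LD2_c18 LD3_c1)) :=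
  Lre_f IH (LK LD1_c3 LD2_c38 LD3_c46) (LK LD1_c7 LD2_c18 LD3_c1) Lrfl Lrfl
theorem f4127 : Led Lsl_gt (LP (LK LD1_c3 LD2_c38 LD3_c46)) = (LP (LK LD1_c7 LD2_c17 LD3_c59)) :=
  Lre_g IH (LK LD1_c3 LD2_c38 LD3_c46) (LK LD1_c7 LD2_c17 LD3_c59) Lrfl Lrfl
theorem f4397 : Led Lsl_gt (LP (LK LD1_c7 LD2_c17 LD3_c59)) = (LP (LK LD1_c7 LD2_c18 LD3_c0)) :=
  Lgr Lrot46 (Lpe (f4127 IH) (Lpr_ft (f4102 IH) (Lpr_at (f4078 IH) (Lpn (LP (LK LD1_c7 LD2_c18 LD3_c0))))))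
theorem f481501 : Led Lsl_cf (LP (LK LD1_c7 LD2_c17 LD3_c59)) = (LP (LK LD1_c7 LD2_c18 LD3_c20)) :=
  Lgr Lrot169 (Lpr_gt (f4397 IH) (Lpr_ct (f4149 IH) (Lpe (f4262 IH) (Lpe (f4263 IH) (Lpe (K3.f4273 IH) (Lpe (K28.f4274 IH) (Lpr_gf (K28.f467976 IH) (Lpe (f441471 IH) (Lpr_gt (f481464 IH) (Lpn (LP (LK LD1_c7 LD2_c18 LD3_c20))))))))))))
theorem f481506 : Led Lsl_ct (LP (LK LD1_c7 LD2_c17 LD3_c59)) = (LP (LK LD1_c7 LD2_c18 LD3_c20)) :=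
  Lgr Lrot59 (Lpr_cf (f481501 IH) (Lpn (LP (LK LD1_c7 LD2_c18 LD3_c20))))
theorem f455212 : Led Lsl_gt (LP (LK LD1_c6 LD2_c58 LD3_c38)) = (LP (LK LD1_c3 LD2_c28 LD3_c12)) :=
  Lre_g IH (LK LD1_c6 LD2_c58 LD3_c38) (LK LD1_c3 LD2_c28 LD3_c12) Lrfl Lrfl
theorem f482679 : Led Lsl_dt (LP (LK LD1_c3 LD2_c38 LD3_c45)) = (LP (LK LD1_c6 LD2_c58 LD3_c38)) :=
  Lgr Lrot6 (Lpr_gt (f4374 IH) (Lpr_ct (K24.f4125 IH) (Lpr_gt (f4127 IH) (Lpr_ct (f481506 IH) (Lpe (f457000 IH) (Lpe (f4447 IH) (Lpr_gf (f482675 IH) (Lpe (f455209 IH) (Lpe (f455212 IH) (Lpn (LP (LK LD1_c6 LD2_c58 LD3_c38))))))))))))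
theorem f482681 : Led Lsl_df (LP (LK LD1_c3 LD2_c38 LD3_c45)) = (LP (LK LD1_c6 LD2_c58 LD3_c38)) :=
  Lgr Lrot155 (Lpr_gt (f4374 IH) (Lpr_ct (K24.f4125 IH) (Lpr_gt (f4127 IH) (Lpr_ct (f481506 IH) (Lpr_dt (f4448 IH) (Lpe (f4447 IH) (Lpr_gf (f482675 IH) (Lpe (f455209 IH) (Lpe (f455212 IH) (Lpn (LP (LK LD1_c6 LD2_c58 LD3_c38))))))))))))
theorem f97279 : Led Lsl_dt (LP (LK LD1_c0 LD2_c49 LD3_c51)) = (LP (LK LD1_c1 LD2_c45 LD3_c24)) :=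
  Lgr Lrot57 (Lpe (K1.f5812 IH) (Lpe (K0.f375 IH) (Lpr_gt (K3.f97194 IH) (Lpr_dt (K3.f10299 IH) (Lpe (K2.f10294 IH) (Lpr_dt (K2.f10244 IH) (Lpe (K3.f10230 IH) (Lpe (K3.f10231 IH) (Lpr_gf (K3.f10600 IH) (Lpn (LP (LK LD1_c1 LD2_c45 LD3_c24))))))))))))
theorem f10602 : Led Lsl_gt (LP (LK LD1_c1 LD2_c43 LD3_c6)) = (LP (LK LD1_c3 LD2_c32 LD3_c49)) :=
  Lre_g IH (LK LD1_c1 LD2_c43 LD3_c6) (LK LD1_c3 LD2_c32 LD3_c49) Lrfl Lrfl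
theorem f482688 : Led Lsl_ef (LP (LK LD1_c3 LD2_c32 LD3_c49)) = (LP (LK LD1_c6 LD2_c58 LD3_c38)) :=
  Lgr Lrot17 (Lpe (f10602 IH) (Lpe (K3.f10493 IH) (Lpr_dt (K3.f10235 IH) (Lpr_gf (K3.f10600 IH) (Lpe (f97279 IH) (Lpe (K1.f5812 IH) (Lpe (K2.f5339 IH) (Lpr_dt (f4124 IH) (Lpe (f4374 IH) (Lpr_df (f482681 IH) (Lpn (LP (LK LD1_c6 LD2_c58 LD3_c38)))))))))))))
theorem f482697 : Led Lsl_et (LP (LK LD1_c3 LD2_c32 LD3_c49)) = (LP (LK LD1_c6 LD2_c58 LD3_c38)) :=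
  Lgr Lrot87 (Lpr_ef (f482688 IH) (Lpn (LP (LK LD1_c6 LD2_c58 LD3_c38))))
theorem f482702 : Led Lsl_cf (LP (LK LD1_c3 LD2_c53 LD3_c11)) = (LP (LK LD1_c6 LD2_c58 LD3_c38)) :=
  Lgr Lrot39 (Lpr_et (f476421 IH) (Lpe (f456061 IH) (Lpr_et (f482697 IH) (Lpn (LP (LK LD1_c6 LD2_c58 LD3_c38))))))
theorem f5289 : Led Lsl_dt (LP (LK LD1_c1 LD2_c46 LD3_c18)) = (LP (LK LD1_c3 LD2_c38 LD3_c42)) :=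
  Lre_d IH (LK LD1_c1 LD2_c46 LD3_c18) (LK LD1_c3 LD2_c38 LD3_c42) Lrfl Lrfl
theorem f5290 : Led Lsl_ct (LP (LK LD1_c3 LD2_c38 LD3_c42)) = (LP (LK LD1_c7 LD2_c17 LD3_c48)) :=
  Lre_c IH (LK LD1_c3 LD2_c38 LD3_c42) (LK LD1_c7 LD2_c17 LD3_c48) Lrfl Lrfl
theorem f482879 : Led Lsl_df (LP (LK LD1_c7 LD2_c17 LD3_c54)) = (LP (LK LD1_c7 LD2_c17 LD3_c48)) :=
  Lgr Lrot43 (Lpr_ct (f4278 IH) (Lpr_dt (f482787 IH) (Lpe (f482798 IH) (Lpr_dt (f473626 IH) (Lpr_ct (f481449 IH) (Lpr_dt (f5344 IH) (Lpr_ct (f5345 IH) (Lpr_dt (f482866 IH) (Lpr_ct (f4280 IH) (Lpr_dt (f482679 IH) (Lpe (f482702 IH) (Lpr_dt (f476414 IH) (Lpr_ct (f476430 IH) (Lpr_dt (f5289 IH) (Lpr_ct (f5290 IH) (Lpn (LP (LK LD1_c7 LD2_c17 LD3_c48))))))))))))))))))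
theorem f5508 : Led Lsl_ct (LP (LK LD1_c3 LD2_c38 LD3_c44)) = (LP (LK LD1_c7 LD2_c17 LD3_c54)) :=
  Lre_c IH (LK LD1_c3 LD2_c38 LD3_c44) (LK LD1_c7 LD2_c17 LD3_c54) Lrfl Lrfl
theorem f4120 : Led Lsl_ct (LP (LK LD1_c3 LD2_c38 LD3_c46)) = (LP (LK LD1_c1 LD2_c46 LD3_c19)) :=
  Lre_c IH (LK LD1_c3 LD2_c38 LD3_c46) (LK LD1_c1 LD2_c46 LD3_c19) Lrfl Lrfl
theorem f4117 : Led Lsl_gt (LP (LK LD1_c7 LD2_c17 LD3_c60)) = (LP (LK LD1_c3 LD2_c38 LD3_c46)) :=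
  Lre_g IH (LK LD1_c7 LD2_c17 LD3_c60) (LK LD1_c3 LD2_c38 LD3_c46) Lrfl Lrfl
theorem f4103 : Led Lsl_at (LP (LK LD1_c7 LD2_c16 LD3_c60)) = (LP (LK LD1_c3 LD2_c38 LD3_c46)) :=
  Lre_a IH (LK LD1_c7 LD2_c16 LD3_c60) (LK LD1_c3 LD2_c38 LD3_c46) Lrfl Lrfl
theorem f4118 : Led Lsl_gt (LP (LK LD1_c7 LD2_c18 LD3_c0)) = (LP (LK LD1_c7 LD2_c17 LD3_c60)) :=
  Lgr Lrot5 (Lpr_ft (f4092 IH) (Lpr_at (f4103 IH) (Lpe (f4117 IH) (Lpn (LP (LK LD1_c7 LD2_c17 LD3_c60))))))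
theorem f129809 : Led Lsl_at (LP (LK LD1_c7 LD2_c47 LD3_c56)) = (LP (LK LD1_c3 LD2_c53 LD3_c12)) :=
  Lre_a IH (LK LD1_c7 LD2_c47 LD3_c56) (LK LD1_c3 LD2_c53 LD3_c12) Lrfl Lrfl
theorem f473629 : Led Lsl_ft (LP (LK LD1_c3 LD2_c53 LD3_c3)) = (LP (LK LD1_c7 LD2_c47 LD3_c56)) :=
  Lgr Lrot101 (Lpe (f473628 IH) (Lpr_ff (f473620 IH) (Lpe (f129809 IH) (Lpn (LP (LK LD1_c7 LD2_c47 LD3_c56))))))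
theorem f476404 : Led Lsl_gt (LP (LK LD1_c3 LD2_c53 LD3_c3)) = (LP (LK LD1_c3 LD2_c41 LD3_c45)) :=
  Lgr Lrot5 (Lpr_ft (f473629 IH) (Lpr_at (f129809 IH) (Lpe (K28.f468076 IH) (Lpn (LP (LK LD1_c3 LD2_c41 LD3_c45))))))
theorem f456476 : Led Lsl_dt (LP (LK LD1_c3 LD2_c41 LD3_c45)) = (LP (LK LD1_c1 LD2_c47 LD3_c46)) :=
  Lre_d IH (LK LD1_c3 LD2_c41 LD3_c45) (LK LD1_c1 LD2_c47 LD3_c46) Lrfl Lrfl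
theorem f476406 : Led Lsl_gt (LP (LK LD1_c7 LD2_c18 LD3_c20)) = (LP (LK LD1_c7 LD2_c18 LD3_c7)) :=
  Lgr Lrot49 (Lpe (f457000 IH) (Lpe (f475144 IH) (Lpr_cf (f475112 IH) (Lpr_gt (f476404 IH) (Lpr_dt (f456476 IH) (Lpr_gt (K28.f467378 IH) (Lpr_dt (K28.f440657 IH) (Lpr_cf (f466984 IH) (Lpe (f4429 IH) (Lpn (LP (LK LD1_c7 LD2_c18 LD3_c7))))))))))))
theorem f481616 : Led Lsl_ct (LP (LK LD1_c7 LD2_c17 LD3_c60)) = (LP (LK LD1_c7 LD2_c18 LD3_c31)) :=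
  Lgr Lrot152 (Lpe (f4118 IH) (Lpe (f4091 IH) (Lpr_gt (f4127 IH) (Lpr_ct (f481506 IH) (Lpr_gt (f476406 IH) (Lpr_ct (f4428 IH) (Lpe (f467082 IH) (Lpe (f441473 IH) (Lpe (f467003 IH) (Lpn (LP (LK LD1_c7 LD2_c18 LD3_c31))))))))))))
theorem f467978 : Led Lsl_ct (LP (LK LD1_c3 LD2_c38 LD3_c55)) = (LP (LK LD1_c7 LD2_c18 LD3_c14)) :=
  Lre_c IH (LK LD1_c3 LD2_c38 LD3_c55) (LK LD1_c7 LD2_c18 LD3_c14) Lrfl Lrfl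
theorem f481632 : Led Lsl_dt (LP (LK LD1_c7 LD2_c17 LD3_c60)) = (LP (LK LD1_c7 LD2_c18 LD3_c14)) :=
  Lgr Lrot113 (Lpe (f4118 IH) (Lpe (f4091 IH) (Lpe (f4117 IH) (Lpr_ct (f481616 IH) (Lpr_gt (f467003 IH) (Lpr_dt (f441471 IH) (Lpe (K28.f467976 IH) (Lpr_dt (K28.f467091 IH) (Lpr_ct (f467978 IH) (Lpn (LP (LK LD1_c7 LD2_c18 LD3_c14))))))))))))
def v737 : LQ := Led Lsl_ft (LP (LK LD1_c0 LD2_c49 LD3_c55))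
theorem f456997 : Led Lsl_ft (LP (LK LD1_c0 LD2_c49 LD3_c55)) = v737 :=
  Lrfl
def v736 : LQ := Led Lsl_at (LP (LK LD1_c0 LD2_c49 LD3_c55))
theorem f456985 : Led Lsl_at (LP (LK LD1_c0 LD2_c49 LD3_c55)) = v736 :=
  Lrfl
theorem f456986 : Led Lsl_af (LP (LK LD1_c0 LD2_c49 LD3_c55)) = v736 :=
  Lgr Lrot0 (Lpr_at (f456985 IH) (Lpn v736))
theorem f456990 : Led Lsl_ft (LP (LK LD1_c0 LD2_c49 LD3_c56)) = v736 :=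
  Lgr Lrot2 (Lpr_gt (K3.f4444 IH) (Lpr_gt (K3.f4445 IH) (Lpr_af (f456986 IH) (Lpn v736))))
theorem f456998 : Led Lsl_af (LP (LK LD1_c0 LD2_c49 LD3_c56)) = v737 :=
  Lgr Lrot45 (Lpr_ft (f456990 IH) (Lpe (f456986 IH) (Lpr_ft (f456997 IH) (Lpn v737))))
theorem f4449 : Led Lsl_ct (LP (LK LD1_c1 LD2_c46 LD3_c26)) = (LP (LK LD1_c0 LD2_c49 LD3_c56)) :=
  Lre_c IH (LK LD1_c1 LD2_c46 LD3_c26) (LK LD1_c0 LD2_c49 LD3_c56) Lrfl Lrfl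
theorem f457001 : Led Lsl_dt (LP (LK LD1_c3 LD2_c38 LD3_c61)) = (LP (LK LD1_c1 LD2_c46 LD3_c26)) :=
  Lre_d IH (LK LD1_c3 LD2_c38 LD3_c61) (LK LD1_c1 LD2_c46 LD3_c26) Lrfl Lrfl
theorem f457002 : Led Lsl_ct (LP (LK LD1_c7 LD2_c18 LD3_c25)) = (LP (LK LD1_c3 LD2_c38 LD3_c61)) :=
  Lre_c IH (LK LD1_c7 LD2_c18 LD3_c25) (LK LD1_c3 LD2_c38 LD3_c61) Lrfl Lrfl
theorem f481511 : Led Lsl_dt (LP (LK LD1_c7 LD2_c17 LD3_c59)) = (LP (LK LD1_c7 LD2_c18 LD3_c25)) :=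
  Lgr Lrot140 (Lpr_cf (f481501 IH) (Lpe (f457000 IH) (Lpe (f4447 IH) (Lpe (f4446 IH) (Lpr_ft (f456997 IH) (Lpe (f456998 IH) (Lpe (f4449 IH) (Lpe (f457001 IH) (Lpe (f457002 IH) (Lpn (LP (LK LD1_c7 LD2_c18 LD3_c25))))))))))))
theorem f481519 : Led Lsl_df (LP (LK LD1_c7 LD2_c17 LD3_c59)) = (LP (LK LD1_c7 LD2_c18 LD3_c25)) :=
  Lgr Lrot38 (Lpr_dt (f481511 IH) (Lpn (LP (LK LD1_c7 LD2_c18 LD3_c25))))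
theorem f4400 : Led Lsl_dt (LP (LK LD1_c3 LD2_c38 LD3_c42)) = (LP (LK LD1_c1 LD2_c46 LD3_c18)) :=
  Lre_d IH (LK LD1_c3 LD2_c38 LD3_c42) (LK LD1_c1 LD2_c46 LD3_c18) Lrfl Lrfl
theorem f481528 : Led Lsl_gt (LP (LK LD1_c13 LD2_c47 LD3_c60)) = (LP (LK LD1_c7 LD2_c18 LD3_c25)) :=
  Lre_g IH (LK LD1_c13 LD2_c47 LD3_c60) (LK LD1_c7 LD2_c18 LD3_c25) Lrfl Lrfl
theorem f462055 : Led Lsl_ct (LP (LK LD1_c7 LD2_c17 LD3_c40)) = (LP (LK LD1_c13 LD2_c47 LD3_c60)) :=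
  Lre_c IH (LK LD1_c7 LD2_c17 LD3_c40) (LK LD1_c13 LD2_c47 LD3_c60) Lrfl Lrfl
theorem f481541 : Led Lsl_gf (LP (LK LD1_c3 LD2_c38 LD3_c42)) = (LP (LK LD1_c7 LD2_c17 LD3_c40)) :=
  Lgr Lrot144 (Lpr_dt (f4400 IH) (Lpr_gt (f4399 IH) (Lpr_dt (f4124 IH) (Lpe (f4120 IH) (Lpe (f4077 IH) (Lpe (f4397 IH) (Lpr_df (f481519 IH) (Lpe (f481528 IH) (Lpe (f462055 IH) (Lpn (LP (LK LD1_c7 LD2_c17 LD3_c40))))))))))))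
theorem f462061 : Led Lsl_ct (LP (LK LD1_c13 LD2_c47 LD3_c60)) = (LP (LK LD1_c7 LD2_c17 LD3_c40)) :=
  Lre_c IH (LK LD1_c13 LD2_c47 LD3_c60) (LK LD1_c7 LD2_c17 LD3_c40) Lrfl Lrfl
theorem f482891 : Led Lsl_gt (LP (LK LD1_c7 LD2_c18 LD3_c14)) = (LP (LK LD1_c13 LD2_c47 LD3_c60)) :=
  Lgr Lrot9 (Lpe (f481632 IH) (Lpr_gt (f4117 IH) (Lpr_ct (f4120 IH) (Lpr_gt (f5507 IH) (Lpr_ct (f5508 IH) (Lpr_df (f482879 IH) (Lpe (f5290 IH) (Lpr_gf (f481541 IH) (Lpe (f462061 IH) (Lpn (LP (LK LD1_c13 LD2_c47 LD3_c60))))))))))))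
theorem f462121 : Led Lsl_dt (LP (LK LD1_c3 LD2_c28 LD3_c12)) = (LP (LK LD1_c6 LD2_c58 LD3_c39)) :=
  Lre_d IH (LK LD1_c3 LD2_c28 LD3_c12) (LK LD1_c6 LD2_c58 LD3_c39) Lrfl Lrfl
theorem f462129 : Led Lsl_ct (LP (LK LD1_c6 LD2_c58 LD3_c39)) = (LP (LK LD1_c13 LD2_c14 LD3_c49)) :=
  Lre_c IH (LK LD1_c6 LD2_c58 LD3_c39) (LK LD1_c13 LD2_c14 LD3_c49) Lrfl Lrfl
theorem f482895 : Led Lsl_df (LP (LK LD1_c13 LD2_c14 LD3_c49)) = (LP (LK LD1_c13 LD2_c47 LD3_c60)) :=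
  Lgr Lrot84 (Lpe (f462129 IH) (Lpe (f462121 IH) (Lpe (f455212 IH) (Lpe (f482679 IH) (Lpe (f4126 IH) (Lpe (f4149 IH) (Lpr_gt (f4118 IH) (Lpr_dt (f481632 IH) (Lpr_gt (f482891 IH) (Lpn (LP (LK LD1_c13 LD2_c47 LD3_c60))))))))))))
theorem f482900 : Led Lsl_dt (LP (LK LD1_c13 LD2_c14 LD3_c49)) = (LP (LK LD1_c13 LD2_c47 LD3_c60)) :=
  Lgr Lrot42 (Lpr_df (f482895 IH) (Lpn (LP (LK LD1_c13 LD2_c47 LD3_c60))))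
theorem f477958 : Led Lsl_dt (LP (LK LD1_c3 LD2_c37 LD3_c18)) = (LP (LK LD1_c7 LD2_c15 LD3_c9)) :=
  Lre_d IH (LK LD1_c3 LD2_c37 LD3_c18) (LK LD1_c7 LD2_c15 LD3_c9) Lrfl Lrfl
theorem f10849 : Led Lsl_dt (LP (LK LD1_c1 LD2_c45 LD3_c38)) = (LP (LK LD1_c3 LD2_c37 LD3_c35)) :=
  Lre_d IH (LK LD1_c1 LD2_c45 LD3_c38) (LK LD1_c3 LD2_c37 LD3_c35) Lrfl Lrfl
theorem f10850 : Led Lsl_ct (LP (LK LD1_c3 LD2_c37 LD3_c35)) = (LP (LK LD1_c7 LD2_c15 LD3_c39)) :=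
  Lre_c IH (LK LD1_c3 LD2_c37 LD3_c35) (LK LD1_c7 LD2_c15 LD3_c39) Lrfl Lrfl
theorem f481205 : Led Lsl_df (LP (LK LD1_c7 LD2_c15 LD3_c39)) = (LP (LK LD1_c13 LD2_c40 LD3_c32)) :=
  Lgr Lrot84 (Lpe (f10850 IH) (Lpe (f10849 IH) (Lpe (K2.f10814 IH) (Lpe (K2.f10810 IH) (Lpe (f6596 IH) (Lpe (f6049 IH) (Lpr_gt (f6645 IH) (Lpr_dt (f477958 IH) (Lpr_gt (f481203 IH) (Lpn (LP (LK LD1_c13 LD2_c40 LD3_c32))))))))))))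
theorem f481317 : Led Lsl_dt (LP (LK LD1_c7 LD2_c15 LD3_c39)) = (LP (LK LD1_c13 LD2_c40 LD3_c32)) :=
  Lgr Lrot42 (Lpr_df (f481205 IH) (Lpn (LP (LK LD1_c13 LD2_c40 LD3_c32))))
theorem f92509 : Led Lsl_et (LP (LK LD1_c1 LD2_c46 LD3_c8)) = (LP (LK LD1_c3 LD2_c37 LD3_c35)) :=
  Lgr Lrot87 (Lpr_ef (K2.f92503 IH) (Lpn (LP (LK LD1_c3 LD2_c37 LD3_c35))))
theorem f4073 : Led Lsl_ct (LP (LK LD1_c3 LD2_c38 LD3_c20)) = (LP (LK LD1_c1 LD2_c46 LD3_c8)) :=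
  Lre_c IH (LK LD1_c3 LD2_c38 LD3_c20) (LK LD1_c1 LD2_c46 LD3_c8) Lrfl Lrfl
theorem f93112 : Led Lsl_ef (LP (LK LD1_c3 LD2_c38 LD3_c20)) = (LP (LK LD1_c7 LD2_c15 LD3_c39)) :=
  Lgr Lrot28 (Lpr_ct (f4073 IH) (Lpr_et (f92509 IH) (Lpr_ct (f10850 IH) (Lpn (LP (LK LD1_c7 LD2_c15 LD3_c39))))))
theorem f98510 : Led Lsl_gf (LP (LK LD1_c3 LD2_c29 LD3_c32)) = (LP (LK LD1_c1 LD2_c45 LD3_c10)) :=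
  Lgr Lrot147 (Lpe (K3.f98508 IH) (Lpr_gt (K3.f98498 IH) (Lpe (K3.f98081 IH) (Lpe (K3.f6104 IH) (Lpe (K3.f97322 IH) (Lpe (K3.f98009 IH) (Lpr_cf (K3.f88482 IH) (Lpe (K3.f5902 IH) (Lpe (K3.f17506 IH) (Lpn (LP (LK LD1_c1 LD2_c45 LD3_c10))))))))))))
theorem f481343 : Led Lsl_gf (LP (LK LD1_c3 LD2_c38 LD3_c20)) = (LP (LK LD1_c3 LD2_c29 LD3_c33)) :=
  Lgr Lrot141 (Lpr_ef (f93112 IH) (Lpr_dt (f481317 IH) (Lpr_gt (f97986 IH) (Lpe (K28.f97038 IH) (Lpr_et (K28.f97014 IH) (Lpr_gt (K3.f10236 IH) (Lpr_dt (K3.f17503 IH) (Lpe (f98510 IH) (Lpe (K3.f97460 IH) (Lpr_et (f98532 IH) (Lpn (LP (LK LD1_c3 LD2_c29 LD3_c33)))))))))))))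
theorem f93119 : Led Lsl_dt (LP (LK LD1_c3 LD2_c38 LD3_c20)) = (LP (LK LD1_c7 LD2_c17 LD3_c1)) :=
  Lre_d IH (LK LD1_c3 LD2_c38 LD3_c20) (LK LD1_c7 LD2_c17 LD3_c1) Lrfl Lrfl
theorem f481345 : Led Lsl_gt (LP (LK LD1_c7 LD2_c17 LD3_c1)) = (LP (LK LD1_c13 LD2_c40 LD3_c50)) :=
  Lgr Lrot49 (Lpe (f93119 IH) (Lpr_gf (f481343 IH) (Lpe (f440673 IH) (Lpr_gt (f107236 IH) (Lpe (f473624 IH) (Lpr_gt (f473622 IH) (Lpr_dt (f473578 IH) (Lpe (f475142 IH) (Lpe (f475114 IH) (Lpn (LP (LK LD1_c13 LD2_c40 LD3_c50))))))))))))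
theorem f481348 : Led Lsl_ct (LP (LK LD1_c13 LD2_c46 LD3_c59)) = (LP (LK LD1_c7 LD2_c17 LD3_c1)) :=
  Lre_c IH (LK LD1_c13 LD2_c46 LD3_c59) (LK LD1_c7 LD2_c17 LD3_c1) Lrfl Lrfl
theorem f482902 : Led Lsl_gf (LP (LK LD1_c13 LD2_c14 LD3_c49)) = (LP (LK LD1_c13 LD2_c46 LD3_c59)) :=
  Lgr Lrot144 (Lpr_dt (f482900 IH) (Lpr_gt (f481528 IH) (Lpe (f481519 IH) (Lpr_cf (f481501 IH) (Lpe (f457000 IH) (Lpe (f475144 IH) (Lpe (f475114 IH) (Lpe (f481345 IH) (Lpe (f481348 IH) (Lpn (LP (LK LD1_c13 LD2_c46 LD3_c59))))))))))))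
theorem f462118 : Led Lsl_ct (LP (LK LD1_c13 LD2_c14 LD3_c49)) = (LP (LK LD1_c6 LD2_c58 LD3_c39)) :=
  Lre_c IH (LK LD1_c13 LD2_c14 LD3_c49) (LK LD1_c6 LD2_c58 LD3_c39) Lrfl Lrfl
theorem f455210 : Led Lsl_dt (LP (LK LD1_c6 LD2_c58 LD3_c39)) = (LP (LK LD1_c3 LD2_c28 LD3_c12)) :=
  Lre_d IH (LK LD1_c6 LD2_c58 LD3_c39) (LK LD1_c3 LD2_c28 LD3_c12) Lrfl Lrfl
theorem f455211 : Led Lsl_ct (LP (LK LD1_c1 LD2_c40 LD3_c43)) = (LP (LK LD1_c3 LD2_c28 LD3_c12)) :=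
  Lre_c IH (LK LD1_c1 LD2_c40 LD3_c43) (LK LD1_c3 LD2_c28 LD3_c12) Lrfl Lrfl
theorem f481347 : Led Lsl_ct (LP (LK LD1_c7 LD2_c17 LD3_c1)) = (LP (LK LD1_c13 LD2_c46 LD3_c59)) :=
  Lre_c IH (LK LD1_c7 LD2_c17 LD3_c1) (LK LD1_c13 LD2_c46 LD3_c59) Lrfl Lrfl
theorem f93130 : Led Lsl_gt (LP (LK LD1_c13 LD2_c46 LD3_c58)) = (LP (LK LD1_c7 LD2_c17 LD3_c1)) :=
  Lre_g IH (LK LD1_c13 LD2_c46 LD3_c58) (LK LD1_c7 LD2_c17 LD3_c1) Lrfl Lrfl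
theorem f98535 : Led Lsl_dt (LP (LK LD1_c7 LD2_c13 LD3_c39)) = (LP (LK LD1_c13 LD2_c40 LD3_c50)) :=
  Lre_d IH (LK LD1_c7 LD2_c13 LD3_c39) (LK LD1_c13 LD2_c40 LD3_c50) Lrfl Lrfl
theorem f475117 : Led Lsl_at (LP (LK LD1_c13 LD2_c40 LD3_c50)) = (LP (LK LD1_c7 LD2_c18 LD3_c12)) :=
  Lgr Lrot100 (Lpr_af (f475115 IH) (Lpn (LP (LK LD1_c7 LD2_c18 LD3_c12))))
theorem f467086 : Led Lsl_gt (LP (LK LD1_c7 LD2_c18 LD3_c13)) = (LP (LK LD1_c3 LD2_c38 LD3_c55)) :=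
  Lre_g IH (LK LD1_c7 LD2_c18 LD3_c13) (LK LD1_c3 LD2_c38 LD3_c55) Lrfl Lrfl
theorem f475134 : Led Lsl_ff (LP (LK LD1_c13 LD2_c40 LD3_c50)) = (LP (LK LD1_c7 LD2_c18 LD3_c13)) :=
  Lgr Lrot52 (Lpr_at (f475117 IH) (Lpe (K28.f467089 IH) (Lpe (f467086 IH) (Lpn (LP (LK LD1_c7 LD2_c18 LD3_c13))))))
theorem f475138 : Led Lsl_ft (LP (LK LD1_c13 LD2_c40 LD3_c50)) = (LP (LK LD1_c7 LD2_c18 LD3_c13)) :=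
  Lgr Lrot48 (Lpr_ff (f475134 IH) (Lpn (LP (LK LD1_c7 LD2_c18 LD3_c13))))
theorem f482445 : Led Lsl_dt (LP (LK LD1_c7 LD2_c18 LD3_c13)) = (LP (LK LD1_c7 LD2_c9 LD3_c24)) :=
  Lgr Lrot60 (Lpe (f475138 IH) (Lpe (f98535 IH) (Lpr_ff (f482442 IH) (Lpn (LP (LK LD1_c7 LD2_c9 LD3_c24))))))
theorem f481351 : Led Lsl_ft (LP (LK LD1_c13 LD2_c46 LD3_c58)) = (LP (LK LD1_c7 LD2_c18 LD3_c12)) :=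
  Lgr Lrot2 (Lpr_gt (f93130 IH) (Lpr_gt (f481345 IH) (Lpr_af (f475115 IH) (Lpn (LP (LK LD1_c7 LD2_c18 LD3_c12))))))
theorem f481362 : Led Lsl_ff (LP (LK LD1_c13 LD2_c46 LD3_c58)) = (LP (LK LD1_c7 LD2_c18 LD3_c12)) :=
  Lgr Lrot3 (Lpr_ft (f481351 IH) (Lpn (LP (LK LD1_c7 LD2_c18 LD3_c12))))
theorem f481364 : Led Lsl_at (LP (LK LD1_c13 LD2_c46 LD3_c58)) = (LP (LK LD1_c7 LD2_c18 LD3_c13)) :=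
  Lgr Lrot66 (Lpr_ff (f481362 IH) (Lpe (f475117 IH) (Lpr_ff (f475134 IH) (Lpn (LP (LK LD1_c7 LD2_c18 LD3_c13))))))
theorem f482621 : Led Lsl_dt (LP (LK LD1_c7 LD2_c18 LD3_c18)) = (LP (LK LD1_c13 LD2_c46 LD3_c58)) :=
  Lgr Lrot44 (Lpr_af (f482614 IH) (Lpe (f482445 IH) (Lpe (f481364 IH) (Lpn (LP (LK LD1_c13 LD2_c46 LD3_c58))))))
theorem f129801 : Led Lsl_ct (LP (LK LD1_c7 LD2_c37 LD3_c6)) = (LP (LK LD1_c3 LD2_c48 LD3_c0)) :=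
  Lre_c IH (LK LD1_c7 LD2_c37 LD3_c6) (LK LD1_c3 LD2_c48 LD3_c0) Lrfl Lrfl
theorem f473609 : Led Lsl_ft (LP (LK LD1_c3 LD2_c53 LD3_c9)) = (LP (LK LD1_c7 LD2_c37 LD3_c6)) :=
  Lgr Lrot4 (Lpe (f129894 IH) (Lpr_ff (f473603 IH) (Lpe (f129801 IH) (Lpn (LP (LK LD1_c7 LD2_c37 LD3_c6))))))
theorem f482634 : Led Lsl_ef (LP (LK LD1_c7 LD2_c18 LD3_c18)) = (LP (LK LD1_c7 LD2_c37 LD3_c6)) :=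
  Lgr Lrot21 (Lpr_ft (f482625 IH) (Lpr_et (K28.f458610 IH) (Lpe (f475071 IH) (Lpe (K28.f461968 IH) (Lpr_ft (f473609 IH) (Lpn (LP (LK LD1_c7 LD2_c37 LD3_c6))))))))
theorem f129805 : Led Lsl_dt (LP (LK LD1_c1 LD2_c50 LD3_c61)) = (LP (LK LD1_c3 LD2_c48 LD3_c0)) :=
  Lre_d IH (LK LD1_c1 LD2_c50 LD3_c61) (LK LD1_c3 LD2_c48 LD3_c0) Lrfl Lrfl
theorem f446452 : Led Lsl_gt (LP (LK LD1_c1 LD2_c40 LD3_c39)) = (LP (LK LD1_c3 LD2_c28 LD3_c6)) :=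
  Lre_g IH (LK LD1_c1 LD2_c40 LD3_c39) (LK LD1_c3 LD2_c28 LD3_c6) Lrfl Lrfl
theorem f446453 : Led Lsl_ct (LP (LK LD1_c3 LD2_c28 LD3_c6)) = (LP (LK LD1_c6 LD2_c58 LD3_c25)) :=
  Lre_c IH (LK LD1_c3 LD2_c28 LD3_c6) (LK LD1_c6 LD2_c58 LD3_c25) Lrfl Lrfl
theorem f462006 : Led Lsl_gf (LP (LK LD1_c7 LD2_c37 LD3_c6)) = (LP (LK LD1_c6 LD2_c58 LD3_c25)) :=
  Lgr Lrot104 (Lpr_ct (f129801 IH) (Lpe (f129805 IH) (Lpr_cf (f461966 IH) (Lpe (K28.f94439 IH) (Lpe (K28.f128179 IH) (Lpr_gf (K24.f456837 IH) (Lpqs (K24.f461929 IH) (Lpe (K24.f446437 IH) (Lpr_gt (f446452 IH) (Lpr_ct (f446453 IH) (Lpn (LP (LK LD1_c6 LD2_c58 LD3_c25)))))))))))))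
theorem f455241 : Led Lsl_ff (LP (LK LD1_c1 LD2_c40 LD3_c38)) = (LP (LK LD1_c1 LD2_c40 LD3_c39)) :=
  Lgr Lrot19 (Lpr_dt (K28.f446448 IH) (Lpr_ft (K24.f455154 IH) (Lpqs (K24.f455234 IH) (Lpe (f446430 IH) (Lpn (LP (LK LD1_c1 LD2_c40 LD3_c39)))))))
theorem f455179 : Led Lsl_at (LP (LK LD1_c1 LD2_c40 LD3_c38)) = (LP (LK LD1_c3 LD2_c27 LD3_c61)) :=
  Lre_a IH (LK LD1_c1 LD2_c40 LD3_c38) (LK LD1_c3 LD2_c27 LD3_c61) Lrfl Lrfl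
theorem f455434 : Led Lsl_gf (LP (LK LD1_c3 LD2_c27 LD3_c61)) = (LP (LK LD1_c3 LD2_c28 LD3_c6)) :=
  Lgr Lrot76 (Lpe (f455179 IH) (Lpr_ff (f455241 IH) (Lpr_gt (f446452 IH) (Lpn (LP (LK LD1_c3 LD2_c28 LD3_c6))))))
theorem f462010 : Led Lsl_dt (LP (LK LD1_c7 LD2_c37 LD3_c6)) = (LP (LK LD1_c7 LD2_c12 LD3_c17)) :=
  Lgr Lrot57 (Lpr_gf (f462006 IH) (Lpe (f446453 IH) (Lpe (f455434 IH) (Lpr_dt (K28.f446476 IH) (Lpr_gt (K24.f455354 IH) (Lpq (K24.f461932 IH) (Lpe (K24.f455829 IH) (Lpe (K28.f108642 IH) (Lpe (K28.f108630 IH) (Lpe (f441562 IH) (Lpn (LP (LK LD1_c7 LD2_c12 LD3_c17)))))))))))))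
theorem f482654 : Led Lsl_gt (LP (LK LD1_c7 LD2_c18 LD3_c18)) = (LP (LK LD1_c3 LD2_c39 LD3_c1)) :=
  Lgr Lrot137 (Lpr_ef (f482634 IH) (Lpr_dt (f462010 IH) (Lpe (f441561 IH) (Lpe (K28.f98514 IH) (Lpr_et (K28.f98513 IH) (Lpe (K3.f19355 IH) (Lpe (K28.f108552 IH) (Lpr_dt (f98487 IH) (Lpe (f467003 IH) (Lpe (K28.f4438 IH) (Lpn (LP (LK LD1_c3 LD2_c39 LD3_c1)))))))))))))
theorem f4418 : Led Lsl_ct (LP (LK LD1_c3 LD2_c39 LD3_c1)) = (LP (LK LD1_c1 LD2_c46 LD3_c27)) :=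
  Lre_c IH (LK LD1_c3 LD2_c39 LD3_c1) (LK LD1_c1 LD2_c46 LD3_c27) Lrfl Lrfl
theorem f482906 : Led Lsl_gf (LP (LK LD1_c1 LD2_c40 LD3_c43)) = (LP (LK LD1_c1 LD2_c46 LD3_c27)) :=
  Lgr Lrot104 (Lpr_ct (f455211 IH) (Lpe (f455210 IH) (Lpe (f462118 IH) (Lpr_gf (f482902 IH) (Lpe (f481347 IH) (Lpe (f93130 IH) (Lpe (f482621 IH) (Lpr_gt (f482654 IH) (Lpr_ct (f4418 IH) (Lpn (LP (LK LD1_c1 LD2_c46 LD3_c27))))))))))))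
theorem f451582 : Led Lsl_bt (LP (LK LD1_c0 LD2_c50 LD3_c41)) = (LP (LK LD1_c1 LD2_c47 LD3_c55)) :=
  Lre_b IH (LK LD1_c0 LD2_c50 LD3_c41) (LK LD1_c1 LD2_c47 LD3_c55) Lrfl Lrfl
theorem f62728 : Led Lsl_ct (LP (LK LD1_c1 LD2_c53 LD3_c5)) = (LP (LK LD1_c3 LD2_c53 LD3_c1)) :=
  Lre_c IH (LK LD1_c1 LD2_c53 LD3_c5) (LK LD1_c3 LD2_c53 LD3_c1) Lrfl Lrfl
theorem f62753 : Led Lsl_et (LP (LK LD1_c1 LD2_c51 LD3_c23)) = (LP (LK LD1_c3 LD2_c48 LD3_c48)) :=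
  Lre_e IH (LK LD1_c1 LD2_c51 LD3_c23) (LK LD1_c3 LD2_c48 LD3_c48) Lrfl Lrfl
theorem f64672 : Led Lsl_et (LP (LK LD1_c1 LD2_c53 LD3_c4)) = (LP (LK LD1_c3 LD2_c53 LD3_c1)) :=
  Lre_e IH (LK LD1_c1 LD2_c53 LD3_c4) (LK LD1_c3 LD2_c53 LD3_c1) Lrfl Lrfl
theorem f64673 : Led Lsl_gf (LP (LK LD1_c3 LD2_c48 LD3_c48)) = (LP (LK LD1_c3 LD2_c53 LD3_c1)) :=
  Lgr Lrot141 (Lpe (f62753 IH) (Lpr_dt (K5.f62706 IH) (Lpe (K5.f62707 IH) (Lpe (K5.f62751 IH) (Lpr_et (K5.f62752 IH) (Lpr_gt (K5.f64649 IH) (Lpr_dt (K24.f64654 IH) (Lpe (f64655 IH) (Lpe (f64671 IH) (Lpr_et (f64672 IH) (Lpn (LP (LK LD1_c3 LD2_c53 LD3_c1)))))))))))))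
theorem f482909 : Led Lsl_cf (LP (LK LD1_c3 LD2_c48 LD3_c48)) = (LP (LK LD1_c3 LD2_c38 LD3_c58)) :=
  Lgr Lrot163 (Lpr_gf (f64673 IH) (Lpe (f62728 IH) (Lpr_gf (K28.f467679 IH) (Lpe (f451582 IH) (Lpr_ct (K24.f457194 IH) (Lpr_gf (K24.f457376 IH) (Lpq (K24.f457378 IH) (Lpe (K24.f455491 IH) (Lpr_bt (f455201 IH) (Lpr_gf (f482906 IH) (Lpe (f97289 IH) (Lpn (LP (LK LD1_c3 LD2_c38 LD3_c58))))))))))))))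
theorem f64642 : Led Lsl_et (LP (LK LD1_c3 LD2_c48 LD3_c48)) = (LP (LK LD1_c1 LD2_c51 LD3_c23)) :=
  Lre_e IH (LK LD1_c3 LD2_c48 LD3_c48) (LK LD1_c1 LD2_c51 LD3_c23) Lrfl Lrfl
theorem f64643 : Led Lsl_et (LP (LK LD1_c1 LD2_c41 LD3_c34)) = (LP (LK LD1_c0 LD2_c47 LD3_c20)) :=
  Lre_e IH (LK LD1_c1 LD2_c41 LD3_c34) (LK LD1_c0 LD2_c47 LD3_c20) Lrfl Lrfl
theorem f64645 : Led Lsl_gt (LP (LK LD1_c7 LD2_c1 LD3_c7)) = (LP (LK LD1_c3 LD2_c29 LD3_c45)) :=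
  Lre_g IH (LK LD1_c7 LD2_c1 LD3_c7) (LK LD1_c3 LD2_c29 LD3_c45) Lrfl Lrfl
theorem f64646 : Led Lsl_dt (LP (LK LD1_c3 LD2_c48 LD3_c48)) = (LP (LK LD1_c7 LD2_c1 LD3_c7)) :=
  Lgr Lrot136 (Lpr_et (f64642 IH) (Lpe (K5.f62705 IH) (Lpe (K5.f62757 IH) (Lpr_dt (K1.f17460 IH) (Lpe (K3.f62758 IH) (Lpr_df (K3.f64620 IH) (Lpe (K3.f64636 IH) (Lpe (f64643 IH) (Lpr_dt (K3.f64644 IH) (Lpe (f64645 IH) (Lpn (LP (LK LD1_c7 LD2_c1 LD3_c7)))))))))))))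
theorem f64698 : Led Lsl_df (LP (LK LD1_c3 LD2_c48 LD3_c48)) = (LP (LK LD1_c7 LD2_c1 LD3_c7)) :=
  Lgr Lrot38 (Lpr_dt (f64646 IH) (Lpn (LP (LK LD1_c7 LD2_c1 LD3_c7))))
theorem f109697 : Led Lsl_gf (LP (LK LD1_c7 LD2_c1 LD3_c7)) = (LP (LK LD1_c3 LD2_c46 LD3_c14)) :=
  Lgr Lrot47 (Lpr_gt (f64645 IH) (Lpr_af (K3.f109672 IH) (Lpe (K3.f85242 IH) (Lpn (LP (LK LD1_c3 LD2_c46 LD3_c14))))))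
theorem f64727 : Led Lsl_gt (LP (LK LD1_c1 LD2_c41 LD3_c34)) = (LP (LK LD1_c3 LD2_c29 LD3_c43)) :=
  Lre_g IH (LK LD1_c1 LD2_c41 LD3_c34) (LK LD1_c3 LD2_c29 LD3_c43) Lrfl Lrfl
theorem f109649 : Led Lsl_gt (LP (LK LD1_c3 LD2_c29 LD3_c43)) = (LP (LK LD1_c1 LD2_c50 LD3_c10)) :=
  Lgr Lrot46 (Lpe (f64727 IH) (Lpr_ft (K3.f109645 IH) (Lpr_at (K3.f109630 IH) (Lpn (LP (LK LD1_c1 LD2_c50 LD3_c10))))))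
theorem f481689 : Led Lsl_dt (LP (LK LD1_c1 LD2_c46 LD3_c25)) = (LP (LK LD1_c3 LD2_c38 LD3_c58)) :=
  Lre_d IH (LK LD1_c1 LD2_c46 LD3_c25) (LK LD1_c3 LD2_c38 LD3_c58) Lrfl Lrfl
theorem f481684 : Led Lsl_gt (LP (LK LD1_c3 LD2_c25 LD3_c28)) = (LP (LK LD1_c1 LD2_c46 LD3_c25)) :=
  Lgr Lrot5 (Lpr_ft (K4.f94330 IH) (Lpr_at (K4.f115983 IH) (Lpr_gf (f481678 IH) (Lpn (LP (LK LD1_c1 LD2_c46 LD3_c25))))))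
theorem f65515 : Led Lsl_ft (LP (LK LD1_c1 LD2_c34 LD3_c26)) = (LP (LK LD1_c3 LD2_c15 LD3_c26)) :=
  Lre_f IH (LK LD1_c1 LD2_c34 LD3_c26) (LK LD1_c3 LD2_c15 LD3_c26) Lrfl Lrfl
theorem f115992 : Led Lsl_af (LP (LK LD1_c3 LD2_c25 LD3_c28)) = (LP (LK LD1_c3 LD2_c15 LD3_c26)) :=
  Lgr Lrot45 (Lpr_ft (K4.f94330 IH) (Lpr_at (K4.f115983 IH) (Lpr_ft (f65515 IH) (Lpn (LP (LK LD1_c3 LD2_c15 LD3_c26))))))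
theorem f65518 : Led Lsl_gt (LP (LK LD1_c1 LD2_c34 LD3_c26)) = (LP (LK LD1_c3 LD2_c15 LD3_c25)) :=
  Lre_g IH (LK LD1_c1 LD2_c34 LD3_c26) (LK LD1_c3 LD2_c15 LD3_c25) Lrfl Lrfl
theorem f115996 : Led Lsl_gf (LP (LK LD1_c3 LD2_c25 LD3_c28)) = (LP (LK LD1_c3 LD2_c15 LD3_c25)) :=
  Lgr Lrot76 (Lpr_af (f115992 IH) (Lpe (f65515 IH) (Lpr_gt (f65518 IH) (Lpn (LP (LK LD1_c3 LD2_c15 LD3_c25))))))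
theorem f482917 : Led Lsl_ct (LP (LK LD1_c3 LD2_c29 LD3_c43)) = (LP (LK LD1_c3 LD2_c15 LD3_c25)) :=
  Lgr Lrot8 (Lpr_gt (f109649 IH) (Lpr_dt (f85235 IH) (Lpe (f109697 IH) (Lpe (f64698 IH) (Lpr_cf (f482909 IH) (Lpe (f481689 IH) (Lpe (f481684 IH) (Lpe (K4.f94317 IH) (Lpr_gf (f115996 IH) (Lpn (LP (LK LD1_c3 LD2_c15 LD3_c25))))))))))))
theorem f89661 : Led Lsl_gt (LP (LK LD1_c3 LD2_c29 LD3_c45)) = (LP (LK LD1_c7 LD2_c1 LD3_c6)) :=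
  Lre_g IH (LK LD1_c3 LD2_c29 LD3_c45) (LK LD1_c7 LD2_c1 LD3_c6) Lrfl Lrfl
theorem f109676 : Led Lsl_ct (LP (LK LD1_c7 LD2_c1 LD3_c6)) = (LP (LK LD1_c13 LD2_c18 LD3_c49)) :=
  Lre_c IH (LK LD1_c7 LD2_c1 LD3_c6) (LK LD1_c13 LD2_c18 LD3_c49) Lrfl Lrfl
theorem f115965 : Led Lsl_ct (LP (LK LD1_c13 LD2_c20 LD3_c2)) = (LP (LK LD1_c7 LD2_c1 LD3_c48)) :=
  Lre_c IH (LK LD1_c13 LD2_c20 LD3_c2) (LK LD1_c7 LD2_c1 LD3_c48) Lrfl Lrfl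
theorem f482930 : Led Lsl_gt (LP (LK LD1_c13 LD2_c18 LD3_c49)) = (LP (LK LD1_c13 LD2_c20 LD3_c2)) :=
  Lgr Lrot150 (Lpe (f109676 IH) (Lpe (f89661 IH) (Lpe (K3.f64644 IH) (Lpr_gt (f64727 IH) (Lpr_ct (f482917 IH) (Lpe (f115996 IH) (Lpr_ct (K4.f115937 IH) (Lpe (K4.f115770 IH) (Lpe (f115965 IH) (Lpn (LP (LK LD1_c13 LD2_c20 LD3_c2))))))))))))
theorem f65513 : Led Lsl_ct (LP (LK LD1_c6 LD2_c34 LD3_c9)) = (LP (LK LD1_c12 LD2_c34 LD3_c57)) :=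
  Lre_c IH (LK LD1_c6 LD2_c34 LD3_c9) (LK LD1_c12 LD2_c34 LD3_c57) Lrfl Lrfl
theorem f115764 : Led Lsl_ct (LP (LK LD1_c7 LD2_c1 LD3_c47)) = (LP (LK LD1_c3 LD2_c30 LD3_c1)) :=
  Lre_c IH (LK LD1_c7 LD2_c1 LD3_c47) (LK LD1_c3 LD2_c30 LD3_c1) Lrfl Lrfl
theorem f115765 : Led Lsl_at (LP (LK LD1_c12 LD2_c34 LD3_c57)) = (LP (LK LD1_c7 LD2_c1 LD3_c47)) :=
  Lgr Lrot107 (Lpe (f65513 IH) (Lpr_af (K4.f115752 IH) (Lpe (f115764 IH) (Lpn (LP (LK LD1_c7 LD2_c1 LD3_c47))))))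
theorem f115970 : Led Lsl_dt (LP (LK LD1_c7 LD2_c1 LD3_c47)) = (LP (LK LD1_c13 LD2_c20 LD3_c1)) :=
  Lre_d IH (LK LD1_c7 LD2_c1 LD3_c47) (LK LD1_c13 LD2_c20 LD3_c1) Lrfl Lrfl
theorem f115971 : Led Lsl_af (LP (LK LD1_c13 LD2_c20 LD3_c2)) = (LP (LK LD1_c13 LD2_c20 LD3_c1)) :=
  Lgr Lrot117 (Lpr_dt (K4.f115968 IH) (Lpr_at (f115765 IH) (Lpr_dt (f115970 IH) (Lpn (LP (LK LD1_c13 LD2_c20 LD3_c1))))))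
theorem f115975 : Led Lsl_ft (LP (LK LD1_c7 LD2_c1 LD3_c47)) = (LP (LK LD1_c13 LD2_c20 LD3_c2)) :=
  Lre_f IH (LK LD1_c7 LD2_c1 LD3_c47) (LK LD1_c13 LD2_c20 LD3_c2) Lrfl Lrfl
theorem f115976 : Led Lsl_dt (LP (LK LD1_c13 LD2_c20 LD3_c1)) = (LP (LK LD1_c7 LD2_c1 LD3_c47)) :=
  Lre_d IH (LK LD1_c13 LD2_c20 LD3_c1) (LK LD1_c7 LD2_c1 LD3_c47) Lrfl Lrfl
theorem f115977 : Led Lsl_ff (LP (LK LD1_c13 LD2_c20 LD3_c1)) = (LP (LK LD1_c12 LD2_c34 LD3_c57)) :=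
  Lgr Lrot19 (Lpr_dt (f115976 IH) (Lpr_ft (f115975 IH) (Lpr_dt (K4.f115968 IH) (Lpn (LP (LK LD1_c12 LD2_c34 LD3_c57))))))
theorem f482934 : Led Lsl_gf (LP (LK LD1_c13 LD2_c18 LD3_c49)) = (LP (LK LD1_c12 LD2_c34 LD3_c57)) :=
  Lgr Lrot47 (Lpr_gt (f482930 IH) (Lpr_af (f115971 IH) (Lpr_ff (f115977 IH) (Lpn (LP (LK LD1_c12 LD2_c34 LD3_c57))))))
theorem f109677 : Led Lsl_ct (LP (LK LD1_c13 LD2_c18 LD3_c49)) = (LP (LK LD1_c7 LD2_c1 LD3_c6)) :=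
  Lre_c IH (LK LD1_c13 LD2_c18 LD3_c49) (LK LD1_c7 LD2_c1 LD3_c6) Lrfl Lrfl
theorem f109674 : Led Lsl_gt (LP (LK LD1_c7 LD2_c1 LD3_c6)) = (LP (LK LD1_c3 LD2_c46 LD3_c14)) :=
  Lgr Lrot46 (Lpe (f89661 IH) (Lpr_ft (K3.f109664 IH) (Lpr_at (K3.f109665 IH) (Lpn (LP (LK LD1_c3 LD2_c46 LD3_c14))))))
theorem f85236 : Led Lsl_ct (LP (LK LD1_c3 LD2_c46 LD3_c14)) = (LP (LK LD1_c7 LD2_c33 LD3_c33)) :=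
  Lre_c IH (LK LD1_c3 LD2_c46 LD3_c14) (LK LD1_c7 LD2_c33 LD3_c33) Lrfl Lrfl
theorem f109654 : Led Lsl_ct (LP (LK LD1_c7 LD2_c1 LD3_c8)) = (LP (LK LD1_c3 LD2_c29 LD3_c45)) :=
  Lre_c IH (LK LD1_c7 LD2_c1 LD3_c8) (LK LD1_c3 LD2_c29 LD3_c45) Lrfl Lrfl
theorem f109655 : Led Lsl_df (LP (LK LD1_c7 LD2_c1 LD3_c8)) = (LP (LK LD1_c7 LD2_c33 LD3_c33)) :=
  Lgr Lrot43 (Lpr_ct (f109654 IH) (Lpr_dt (K3.f64677 IH) (Lpr_ct (K3.f64678 IH) (Lpr_dt (K3.f95977 IH) (Lpr_ct (K3.f64681 IH) (Lpr_dt (K3.f64644 IH) (Lpr_ct (K3.f64703 IH) (Lpr_dt (K3.f109651 IH) (Lpr_ct (K3.f85239 IH) (Lpr_dt (K3.f85238 IH) (Lpr_ct (K3.f85237 IH) (Lpe (K3.f85229 IH) (Lpr_ct (K3.f85234 IH) (Lpr_dt (f85235 IH) (Lpr_ct (f85236 IH) (Lpn (LP (LK LD1_c7 LD2_c33 LD3_c33))))))))))))))))))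
theorem f64680 : Led Lsl_ct (LP (LK LD1_c13 LD2_c18 LD3_c52)) = (LP (LK LD1_c7 LD2_c1 LD3_c7)) :=
  Lre_c IH (LK LD1_c13 LD2_c18 LD3_c52) (LK LD1_c7 LD2_c1 LD3_c7) Lrfl Lrfl
theorem f482940 : Led Lsl_gf (LP (LK LD1_c13 LD2_c18 LD3_c52)) = (LP (LK LD1_c13 LD2_c20 LD3_c2)) :=
  Lgr Lrot147 (Lpr_ct (f64680 IH) (Lpr_gt (f64645 IH) (Lpr_ct (K3.f64703 IH) (Lpr_df (f109655 IH) (Lpe (f85236 IH) (Lpe (f109674 IH) (Lpe (f109677 IH) (Lpr_gf (f482934 IH) (Lpe (K4.f115968 IH) (Lpn (LP (LK LD1_c13 LD2_c20 LD3_c2))))))))))))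
theorem f115979 : Led Lsl_ft (LP (LK LD1_c13 LD2_c20 LD3_c2)) = (LP (LK LD1_c7 LD2_c1 LD3_c47)) :=
  Lre_f IH (LK LD1_c13 LD2_c20 LD3_c2) (LK LD1_c7 LD2_c1 LD3_c47) Lrfl Lrfl
theorem f115980 : Led Lsl_at (LP (LK LD1_c7 LD2_c1 LD3_c47)) = (LP (LK LD1_c12 LD2_c34 LD3_c57)) :=
  Lgr Lrot33 (Lpe (f115979 IH) (Lpr_dt (K4.f115968 IH) (Lpr_ct (K4.f65511 IH) (Lpr_dt (K4.f65510 IH) (Lpr_ct (K4.f65509 IH) (Lpr_dt (f65501 IH) (Lpr_ct (f65512 IH) (Lpr_dt (K4.f62837 IH) (Lpr_ct (f65513 IH) (Lpn (LP (LK LD1_c12 LD2_c34 LD3_c57))))))))))))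
theorem f482942 : Led Lsl_gt (LP (LK LD1_c13 LD2_c18 LD3_c52)) = (LP (LK LD1_c12 LD2_c34 LD3_c57)) :=
  Lgr Lrot46 (Lpr_gf (f482940 IH) (Lpr_ft (f115979 IH) (Lpr_at (f115980 IH) (Lpn (LP (LK LD1_c12 LD2_c34 LD3_c57))))))
theorem f473617 : Led Lsl_bt (LP (LK LD1_c0 LD2_c53 LD3_c12)) = (LP (LK LD1_c1 LD2_c53 LD3_c10)) :=
  Lre_b IH (LK LD1_c0 LD2_c53 LD3_c12) (LK LD1_c1 LD2_c53 LD3_c10) Lrfl Lrfl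
theorem f473618 : Led Lsl_ff (LP (LK LD1_c0 LD2_c53 LD3_c12)) = (LP (LK LD1_c1 LD2_c53 LD3_c15)) :=
  Lgr Lrot25 (Lpr_bt (f473617 IH) (Lpr_ft (f473613 IH) (Lpr_bt (f129795 IH) (Lpn (LP (LK LD1_c1 LD2_c53 LD3_c15))))))
theorem f474277 : Led Lsl_at (LP (LK LD1_c0 LD2_c53 LD3_c12)) = (LP (LK LD1_c1 LD2_c51 LD3_c4)) :=
  Lgr Lrot26 (Lpr_ff (f473618 IH) (Lpe (f467095 IH) (Lpr_gt (f474262 IH) (Lpn (LP (LK LD1_c1 LD2_c51 LD3_c4))))))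
theorem f466944 : Led Lsl_ct (LP (LK LD1_c1 LD2_c53 LD3_c13)) = (LP (LK LD1_c0 LD2_c53 LD3_c12)) :=
  Lre_c IH (LK LD1_c1 LD2_c53 LD3_c13) (LK LD1_c0 LD2_c53 LD3_c12) Lrfl Lrfl
theorem f474281 : Led Lsl_af (LP (LK LD1_c1 LD2_c53 LD3_c13)) = (LP (LK LD1_c3 LD2_c48 LD3_c8)) :=
  Lgr Lrot68 (Lpr_ct (f466944 IH) (Lpr_at (f474277 IH) (Lpr_ct (f62986 IH) (Lpn (LP (LK LD1_c3 LD2_c48 LD3_c8))))))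
theorem f88004 : Led Lsl_dt (LP (LK LD1_c1 LD2_c53 LD3_c13)) = (LP (LK LD1_c3 LD2_c53 LD3_c20)) :=
  Lre_d IH (LK LD1_c1 LD2_c53 LD3_c13) (LK LD1_c3 LD2_c53 LD3_c20) Lrfl Lrfl
theorem f62975 : Led Lsl_dt (LP (LK LD1_c7 LD2_c37 LD3_c23)) = (LP (LK LD1_c3 LD2_c48 LD3_c8)) :=
  Lre_d IH (LK LD1_c7 LD2_c37 LD3_c23) (LK LD1_c3 LD2_c48 LD3_c8) Lrfl Lrfl
theorem f474288 : Led Lsl_at (LP (LK LD1_c3 LD2_c53 LD3_c20)) = (LP (LK LD1_c7 LD2_c37 LD3_c23)) :=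
  Lgr Lrot51 (Lpe (f88004 IH) (Lpr_af (f474281 IH) (Lpe (f62975 IH) (Lpn (LP (LK LD1_c7 LD2_c37 LD3_c23))))))
theorem f474301 : Led Lsl_af (LP (LK LD1_c3 LD2_c53 LD3_c20)) = (LP (LK LD1_c7 LD2_c37 LD3_c23)) :=
  Lgr Lrot0 (Lpr_at (f474288 IH) (Lpn (LP (LK LD1_c7 LD2_c37 LD3_c23))))
theorem f88003 : Led Lsl_gt (LP (LK LD1_c3 LD2_c46 LD3_c6)) = (LP (LK LD1_c3 LD2_c53 LD3_c20)) :=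
  Lre_g IH (LK LD1_c3 LD2_c46 LD3_c6) (LK LD1_c3 LD2_c53 LD3_c20) Lrfl Lrfl
theorem f88090 : Led Lsl_gt (LP (LK LD1_c7 LD2_c33 LD3_c11)) = (LP (LK LD1_c3 LD2_c46 LD3_c6)) :=
  Lre_g IH (LK LD1_c7 LD2_c33 LD3_c11) (LK LD1_c3 LD2_c46 LD3_c6) Lrfl Lrfl
theorem f474316 : Led Lsl_ft (LP (LK LD1_c7 LD2_c33 LD3_c11)) = (LP (LK LD1_c7 LD2_c37 LD3_c23)) :=
  Lgr Lrot2 (Lpr_gt (f88090 IH) (Lpr_gt (f88003 IH) (Lpr_af (f474301 IH) (Lpn (LP (LK LD1_c7 LD2_c37 LD3_c23))))))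
theorem f474322 : Led Lsl_ff (LP (LK LD1_c7 LD2_c33 LD3_c11)) = (LP (LK LD1_c7 LD2_c37 LD3_c23)) :=
  Lgr Lrot3 (Lpr_ft (f474316 IH) (Lpn (LP (LK LD1_c7 LD2_c37 LD3_c23))))
theorem f62987 : Led Lsl_dt (LP (LK LD1_c3 LD2_c48 LD3_c8)) = (LP (LK LD1_c7 LD2_c37 LD3_c23)) :=
  Lre_d IH (LK LD1_c3 LD2_c48 LD3_c8) (LK LD1_c7 LD2_c37 LD3_c23) Lrfl Lrfl
theorem f473693 : Led Lsl_ff (LP (LK LD1_c1 LD2_c53 LD3_c5)) = (LP (LK LD1_c1 LD2_c51 LD3_c4)) :=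
  Lgr Lrot3 (Lpr_ft (f473689 IH) (Lpn (LP (LK LD1_c1 LD2_c51 LD3_c4))))
theorem f62974 : Led Lsl_ct (LP (LK LD1_c3 LD2_c48 LD3_c8)) = (LP (LK LD1_c1 LD2_c51 LD3_c4)) :=
  Lre_c IH (LK LD1_c3 LD2_c48 LD3_c8) (LK LD1_c1 LD2_c51 LD3_c4) Lrfl Lrfl
theorem f473695 : Led Lsl_ft (LP (LK LD1_c3 LD2_c53 LD3_c1)) = (LP (LK LD1_c3 LD2_c48 LD3_c8)) :=
  Lgr Lrot4 (Lpe (f62728 IH) (Lpr_ff (f473693 IH) (Lpe (f62974 IH) (Lpn (LP (LK LD1_c3 LD2_c48 LD3_c8))))))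
theorem f474326 : Led Lsl_dt (LP (LK LD1_c7 LD2_c33 LD3_c11)) = (LP (LK LD1_c3 LD2_c53 LD3_c1)) :=
  Lgr Lrot60 (Lpr_ff (f474322 IH) (Lpe (f62987 IH) (Lpe (f473695 IH) (Lpn (LP (LK LD1_c3 LD2_c53 LD3_c1))))))
def v783 : LQ := Led Lsl_gf (LP (LK LD1_c0 LD2_c50 LD3_c43))
theorem f459357 : Led Lsl_gf (LP (LK LD1_c0 LD2_c50 LD3_c43)) = v783 :=
  Lrfl
theorem f459361 : Led Lsl_ff v776 = K28.v784 :=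
  Lgr Lrot30 (Lpe (f457183 IH) (Lpr_ft (K28.f457184 IH) (Lpqs (K28.f457215 IH) (Lpr_at (K28.f459358 IH) (Lpn K28.v784)))))
theorem f451008 : Led Lsl_af (LP (LK LD1_c0 LD2_c22 LD3_c54)) = K24.v193 :=
  Lgr Lrot45 (Lpr_ft (K24.f451001 IH) (Lpe (K24.f450998 IH) (Lpr_ft (K24.f451007 IH) (Lpn K24.v193))))
theorem f459360 : Led Lsl_bf K28.v784 = K28.v784 :=
  Lgr Lrot81 (Lpe (K28.f459359 IH) (Lpr_bt (f4494 IH) (Lpqs (K28.f457208 IH) (Lpe (f451008 IH) (Lpr_bt (K28.f451003 IH) (Lpr_at (K28.f459358 IH) (Lpn K28.v784)))))))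
theorem f459363 : Led Lsl_ft v776 = K28.v784 :=
  Lgr Lrot75 (Lpr_bf (f458758 IH) (Lpr_ff (f459361 IH) (Lpr_bf (f459360 IH) (Lpn K28.v784))))
theorem f459365 : Led Lsl_gt v776 = v783 :=
  Lgr Lrot5 (Lpr_ft (f459363 IH) (Lpe (K28.f459359 IH) (Lpr_gf (f459357 IH) (Lpn v783))))
theorem f466754 : v783 = (LP (LK LD1_c1 LD2_c41 LD3_c36)) :=
  Lefun (Lecon (f459365 IH) (f466751 IH)) (Lfl_gf (f441408 IH))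
theorem f109604 : Led Lsl_at (LP (LK LD1_c7 LD2_c0 LD3_c52)) = (LP (LK LD1_c3 LD2_c29 LD3_c41)) :=
  Lre_a IH (LK LD1_c7 LD2_c0 LD3_c52) (LK LD1_c3 LD2_c29 LD3_c41) Lrfl Lrfl
theorem f109605 : Led Lsl_bt (LP (LK LD1_c3 LD2_c29 LD3_c41)) = (LP (LK LD1_c1 LD2_c41 LD3_c34)) :=
  Lre_b IH (LK LD1_c3 LD2_c29 LD3_c41) (LK LD1_c1 LD2_c41 LD3_c34) Lrfl Lrfl
theorem f109606 : Led Lsl_at (LP (LK LD1_c1 LD2_c50 LD3_c3)) = (LP (LK LD1_c3 LD2_c45 LD3_c54)) :=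
  Lre_a IH (LK LD1_c1 LD2_c50 LD3_c3) (LK LD1_c3 LD2_c45 LD3_c54) Lrfl Lrfl
theorem f85278 : Led Lsl_bt (LP (LK LD1_c0 LD2_c51 LD3_c55)) = (LP (LK LD1_c1 LD2_c50 LD3_c3)) :=
  Lre_b IH (LK LD1_c0 LD2_c51 LD3_c55) (LK LD1_c1 LD2_c50 LD3_c3) Lrfl Lrfl
theorem f109607 : Led Lsl_at (LP (LK LD1_c1 LD2_c41 LD3_c34)) = (LP (LK LD1_c0 LD2_c51 LD3_c55)) :=
  Lgr Lrot67 (Lpe (f109605 IH) (Lpe (f109604 IH) (Lpr_bf (K3.f109602 IH) (Lpe (f109606 IH) (Lpe (f85278 IH) (Lpn (LP (LK LD1_c0 LD2_c51 LD3_c55))))))))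
theorem f440692 : Led Lsl_ft (LP (LK LD1_c3 LD2_c29 LD3_c46)) = (LP (LK LD1_c1 LD2_c41 LD3_c34)) :=
  Lre_f IH (LK LD1_c3 LD2_c29 LD3_c46) (LK LD1_c1 LD2_c41 LD3_c34) Lrfl Lrfl
theorem f85277 : Led Lsl_gt (LP (LK LD1_c1 LD2_c50 LD3_c8)) = (LP (LK LD1_c0 LD2_c51 LD3_c55)) :=
  Lre_g IH (LK LD1_c1 LD2_c50 LD3_c8) (LK LD1_c0 LD2_c51 LD3_c55) Lrfl Lrfl
theorem f441418 : Led Lsl_gt (LP (LK LD1_c3 LD2_c29 LD3_c46)) = (LP (LK LD1_c1 LD2_c50 LD3_c8)) :=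
  Lgr Lrot5 (Lpr_ft (f440692 IH) (Lpr_at (f109607 IH) (Lpe (f85277 IH) (Lpn (LP (LK LD1_c1 LD2_c50 LD3_c8))))))
theorem f441420 : Led Lsl_dt (LP (LK LD1_c1 LD2_c50 LD3_c8)) = (LP (LK LD1_c3 LD2_c46 LD3_c9)) :=
  Lre_d IH (LK LD1_c1 LD2_c50 LD3_c8) (LK LD1_c3 LD2_c46 LD3_c9) Lrfl Lrfl
theorem f474328 : Led Lsl_gf (LP (LK LD1_c7 LD2_c33 LD3_c11)) = (LP (LK LD1_c3 LD2_c46 LD3_c9)) :=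
  Lgr Lrot143 (Lpr_dt (f474326 IH) (Lpe (f62728 IH) (Lpe (K28.f62788 IH) (Lpe (f474262 IH) (Lpe (K28.f459366 IH) (Lpr_gf (f459357 IH) (Lpqs (f466754 IH) (Lpe (f440678 IH) (Lpr_gt (f441418 IH) (Lpr_dt (f441420 IH) (Lpn (LP (LK LD1_c3 LD2_c46 LD3_c9)))))))))))))
theorem f474315 : Led Lsl_ft (LP (LK LD1_c3 LD2_c53 LD3_c20)) = (LP (LK LD1_c7 LD2_c48 LD3_c22)) :=
  Lre_f IH (LK LD1_c3 LD2_c53 LD3_c20) (LK LD1_c7 LD2_c48 LD3_c22) Lrfl Lrfl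
theorem f474318 : Led Lsl_af (LP (LK LD1_c7 LD2_c33 LD3_c11)) = (LP (LK LD1_c7 LD2_c48 LD3_c22)) :=
  Lgr Lrot45 (Lpr_ft (f474316 IH) (Lpe (f474301 IH) (Lpr_ft (f474315 IH) (Lpn (LP (LK LD1_c7 LD2_c48 LD3_c22))))))
theorem f474337 : Led Lsl_gt (LP (LK LD1_c3 LD2_c53 LD3_c20)) = (LP (LK LD1_c3 LD2_c46 LD3_c9)) :=
  Lgr Lrot5 (Lpr_ft (f474315 IH) (Lpe (f474318 IH) (Lpr_gf (f474328 IH) (Lpn (LP (LK LD1_c3 LD2_c46 LD3_c9))))))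
theorem f441415 : Led Lsl_ct (LP (LK LD1_c3 LD2_c53 LD3_c20)) = (LP (LK LD1_c7 LD2_c48 LD3_c21)) :=
  Lre_c IH (LK LD1_c3 LD2_c53 LD3_c20) (LK LD1_c7 LD2_c48 LD3_c21) Lrfl Lrfl
theorem f109614 : Led Lsl_at (LP (LK LD1_c7 LD2_c0 LD3_c57)) = (LP (LK LD1_c13 LD2_c18 LD3_c17)) :=
  Lre_a IH (LK LD1_c7 LD2_c0 LD3_c57) (LK LD1_c13 LD2_c18 LD3_c17) Lrfl Lrfl
theorem f109615 : Led Lsl_bt (LP (LK LD1_c3 LD2_c29 LD3_c46)) = (LP (LK LD1_c7 LD2_c0 LD3_c57)) :=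
  Lre_b IH (LK LD1_c3 LD2_c29 LD3_c46) (LK LD1_c7 LD2_c0 LD3_c57) Lrfl Lrfl
theorem f109616 : Led Lsl_at (LP (LK LD1_c7 LD2_c32 LD3_c35)) = (LP (LK LD1_c3 LD2_c45 LD3_c58)) :=
  Lre_a IH (LK LD1_c7 LD2_c32 LD3_c35) (LK LD1_c3 LD2_c45 LD3_c58) Lrfl Lrfl
theorem f109617 : Led Lsl_bt (LP (LK LD1_c3 LD2_c45 LD3_c58)) = (LP (LK LD1_c1 LD2_c50 LD3_c10)) :=
  Lre_b IH (LK LD1_c3 LD2_c45 LD3_c58) (LK LD1_c1 LD2_c50 LD3_c10) Lrfl Lrfl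
theorem f109618 : Led Lsl_af (LP (LK LD1_c3 LD2_c29 LD3_c46)) = (LP (LK LD1_c1 LD2_c50 LD3_c10)) :=
  Lgr Lrot36 (Lpr_bt (f109615 IH) (Lpr_at (f109614 IH) (Lpr_bt (K3.f109612 IH) (Lpr_at (f109616 IH) (Lpr_bt (f109617 IH) (Lpn (LP (LK LD1_c1 LD2_c50 LD3_c10))))))))
theorem f440629 : Led Lsl_ft (LP (LK LD1_c0 LD2_c51 LD3_c55)) = (LP (LK LD1_c1 LD2_c50 LD3_c10)) :=
  Lre_f IH (LK LD1_c0 LD2_c51 LD3_c55) (LK LD1_c1 LD2_c50 LD3_c10) Lrfl Lrfl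
theorem f441413 : Led Lsl_gf (LP (LK LD1_c3 LD2_c29 LD3_c46)) = (LP (LK LD1_c1 LD2_c50 LD3_c7)) :=
  Lgr Lrot76 (Lpr_af (f109618 IH) (Lpe (f440629 IH) (Lpr_gt (K5.f87936 IH) (Lpn (LP (LK LD1_c1 LD2_c50 LD3_c7))))))
theorem f88002 : Led Lsl_dt (LP (LK LD1_c1 LD2_c50 LD3_c7)) = (LP (LK LD1_c3 LD2_c46 LD3_c6)) :=
  Lre_d IH (LK LD1_c1 LD2_c50 LD3_c7) (LK LD1_c3 LD2_c46 LD3_c6) Lrfl Lrfl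
theorem f4496 : Led Lsl_dt (LP (LK LD1_c3 LD2_c42 LD3_c1)) = (LP (LK LD1_c1 LD2_c47 LD3_c57)) :=
  Lre_d IH (LK LD1_c3 LD2_c42 LD3_c1) (LK LD1_c1 LD2_c47 LD3_c57) Lrfl Lrfl
theorem f456298 : Led Lsl_ct (LP (LK LD1_c7 LD2_c24 LD3_c52)) = (LP (LK LD1_c3 LD2_c42 LD3_c1)) :=
  Lre_c IH (LK LD1_c7 LD2_c24 LD3_c52) (LK LD1_c3 LD2_c42 LD3_c1) Lrfl Lrfl
theorem f466946 : Led Lsl_gt (LP (LK LD1_c7 LD2_c48 LD3_c21)) = (LP (LK LD1_c7 LD2_c24 LD3_c52)) :=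
  Lgr Lrot150 (Lpe (f441415 IH) (Lpe (f88003 IH) (Lpe (f88002 IH) (Lpe (f441413 IH) (Lpr_ct (f440678 IH) (Lpr_gt (f451051 IH) (Lpq (f466752 IH) (Lpr_ct (f12854 IH) (Lpe (f4496 IH) (Lpe (f456298 IH) (Lpn (LP (LK LD1_c7 LD2_c24 LD3_c52)))))))))))))
theorem f440702 : Led Lsl_dt (LP (LK LD1_c3 LD2_c46 LD3_c9)) = (LP (LK LD1_c1 LD2_c50 LD3_c8)) :=
  Lre_d IH (LK LD1_c3 LD2_c46 LD3_c9) (LK LD1_c1 LD2_c50 LD3_c8) Lrfl Lrfl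
theorem f85265 : Led Lsl_dt (LP (LK LD1_c0 LD2_c51 LD3_c55)) = (LP (LK LD1_c1 LD2_c50 LD3_c9)) :=
  Lre_d IH (LK LD1_c0 LD2_c51 LD3_c55) (LK LD1_c1 LD2_c50 LD3_c9) Lrfl Lrfl
theorem f85262 : Led Lsl_ct (LP (LK LD1_c3 LD2_c46 LD3_c13)) = (LP (LK LD1_c1 LD2_c50 LD3_c9)) :=
  Lre_c IH (LK LD1_c3 LD2_c46 LD3_c13) (LK LD1_c1 LD2_c50 LD3_c9) Lrfl Lrfl
theorem f85263 : Led Lsl_dt (LP (LK LD1_c7 LD2_c33 LD3_c32)) = (LP (LK LD1_c3 LD2_c46 LD3_c13)) :=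
  Lre_d IH (LK LD1_c7 LD2_c33 LD3_c32) (LK LD1_c3 LD2_c46 LD3_c13) Lrfl Lrfl
theorem f440682 : Led Lsl_ft (LP (LK LD1_c7 LD2_c1 LD3_c9)) = (LP (LK LD1_c3 LD2_c29 LD3_c45)) :=
  Lre_f IH (LK LD1_c7 LD2_c1 LD3_c9) (LK LD1_c3 LD2_c29 LD3_c45) Lrfl Lrfl
theorem f109686 : Led Lsl_at (LP (LK LD1_c3 LD2_c29 LD3_c45)) = (LP (LK LD1_c1 LD2_c50 LD3_c9)) :=
  Lgr Lrot100 (Lpr_af (K3.f109672 IH) (Lpn (LP (LK LD1_c1 LD2_c50 LD3_c9))))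
theorem f440683 : Led Lsl_ct (LP (LK LD1_c7 LD2_c1 LD3_c9)) = (LP (LK LD1_c7 LD2_c33 LD3_c32)) :=
  Lgr Lrot53 (Lpe (f109671 IH) (Lpe (f109639 IH) (Lpr_df (f440665 IH) (Lpe (f440678 IH) (Lpe (f109642 IH) (Lpr_ft (f440682 IH) (Lpr_at (f109686 IH) (Lpe (f85262 IH) (Lpe (f85263 IH) (Lpn (LP (LK LD1_c7 LD2_c33 LD3_c32))))))))))))
theorem f85266 : Led Lsl_ct (LP (LK LD1_c1 LD2_c50 LD3_c9)) = (LP (LK LD1_c3 LD2_c46 LD3_c13)) :=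
  Lre_c IH (LK LD1_c1 LD2_c50 LD3_c9) (LK LD1_c3 LD2_c46 LD3_c13) Lrfl Lrfl
theorem f85267 : Led Lsl_dt (LP (LK LD1_c3 LD2_c46 LD3_c13)) = (LP (LK LD1_c7 LD2_c33 LD3_c32)) :=
  Lre_d IH (LK LD1_c3 LD2_c46 LD3_c13) (LK LD1_c7 LD2_c33 LD3_c32) Lrfl Lrfl
theorem f440679 : Led Lsl_ct (LP (LK LD1_c7 LD2_c33 LD3_c32)) = (LP (LK LD1_c7 LD2_c1 LD3_c9)) :=
  Lgr Lrot41 (Lpe (f85267 IH) (Lpe (f85266 IH) (Lpe (f85265 IH) (Lpr_ft (f440629 IH) (Lpe (f109618 IH) (Lpe (f109639 IH) (Lpr_df (f440665 IH) (Lpe (f440678 IH) (Lpe (f109642 IH) (Lpn (LP (LK LD1_c7 LD2_c1 LD3_c9))))))))))))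
theorem f440681 : Led Lsl_ft (LP (LK LD1_c3 LD2_c46 LD3_c13)) = (LP (LK LD1_c7 LD2_c33 LD3_c33)) :=
  Lre_f IH (LK LD1_c3 LD2_c46 LD3_c13) (LK LD1_c7 LD2_c33 LD3_c33) Lrfl Lrfl
theorem f440690 : Led Lsl_at (LP (LK LD1_c7 LD2_c33 LD3_c33)) = (LP (LK LD1_c7 LD2_c33 LD3_c32)) :=
  Lgr Lrot33 (Lpe (f440681 IH) (Lpr_dt (f85267 IH) (Lpr_ct (f440679 IH) (Lpr_dt (f109642 IH) (Lpr_ct (f440678 IH) (Lpe (f440665 IH) (Lpr_ct (f109639 IH) (Lpr_dt (f109671 IH) (Lpr_ct (f440683 IH) (Lpn (LP (LK LD1_c7 LD2_c33 LD3_c32))))))))))))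
theorem f440699 : Led Lsl_gt (LP (LK LD1_c3 LD2_c46 LD3_c13)) = (LP (LK LD1_c7 LD2_c33 LD3_c29)) :=
  Lre_g IH (LK LD1_c3 LD2_c46 LD3_c13) (LK LD1_c7 LD2_c33 LD3_c29) Lrfl Lrfl
theorem f440700 : Led Lsl_gt (LP (LK LD1_c7 LD2_c33 LD3_c29)) = (LP (LK LD1_c7 LD2_c33 LD3_c32)) :=
  Lgr Lrot46 (Lpe (f440699 IH) (Lpr_ft (f440681 IH) (Lpr_at (f440690 IH) (Lpn (LP (LK LD1_c7 LD2_c33 LD3_c32))))))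
theorem f474342 : Led Lsl_dt (LP (LK LD1_c7 LD2_c24 LD3_c52)) = (LP (LK LD1_c7 LD2_c33 LD3_c29)) :=
  Lgr Lrot57 (Lpe (f466946 IH) (Lpe (f441415 IH) (Lpr_gt (f474337 IH) (Lpr_dt (f440702 IH) (Lpr_gt (f85277 IH) (Lpr_dt (f85265 IH) (Lpe (f85262 IH) (Lpe (f85263 IH) (Lpe (f440700 IH) (Lpn (LP (LK LD1_c7 LD2_c33 LD3_c29))))))))))))
theorem f458718 : Led Lsl_ft (LP (LK LD1_c1 LD2_c47 LD3_c54)) = (LP (LK LD1_c1 LD2_c47 LD3_c57)) :=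
  Lgr Lrot48 (Lpr_ff (f458713 IH) (Lpn (LP (LK LD1_c1 LD2_c47 LD3_c57))))
theorem f436802 : Led Lsl_dt (LP (LK LD1_c3 LD2_c41 LD3_c60)) = (LP (LK LD1_c1 LD2_c47 LD3_c54)) :=
  Lre_d IH (LK LD1_c3 LD2_c41 LD3_c60) (LK LD1_c1 LD2_c47 LD3_c54) Lrfl Lrfl
theorem f456291 : Led Lsl_dt (LP (LK LD1_c1 LD2_c47 LD3_c57)) = (LP (LK LD1_c3 LD2_c42 LD3_c1)) :=
  Lre_d IH (LK LD1_c1 LD2_c47 LD3_c57) (LK LD1_c3 LD2_c42 LD3_c1) Lrfl Lrfl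
theorem f458720 : Led Lsl_ff (LP (LK LD1_c3 LD2_c41 LD3_c60)) = (LP (LK LD1_c3 LD2_c42 LD3_c1)) :=
  Lgr Lrot19 (Lpr_dt (f436802 IH) (Lpr_ft (f458718 IH) (Lpr_dt (f456291 IH) (Lpn (LP (LK LD1_c3 LD2_c42 LD3_c1))))))
theorem f458723 : Led Lsl_ct (LP (LK LD1_c3 LD2_c41 LD3_c60)) = (LP (LK LD1_c7 LD2_c24 LD3_c45)) :=
  Lre_c IH (LK LD1_c3 LD2_c41 LD3_c60) (LK LD1_c7 LD2_c24 LD3_c45) Lrfl Lrfl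
theorem f458724 : Led Lsl_ft (LP (LK LD1_c7 LD2_c24 LD3_c45)) = (LP (LK LD1_c7 LD2_c24 LD3_c52)) :=
  Lgr Lrot4 (Lpe (f458723 IH) (Lpr_ff (f458720 IH) (Lpe (f456298 IH) (Lpn (LP (LK LD1_c7 LD2_c24 LD3_c52))))))
theorem f458740 : Led Lsl_ff (LP (LK LD1_c7 LD2_c24 LD3_c45)) = (LP (LK LD1_c7 LD2_c24 LD3_c52)) :=
  Lgr Lrot3 (Lpr_ft (f458724 IH) (Lpn (LP (LK LD1_c7 LD2_c24 LD3_c52))))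
theorem f459570 : Led Lsl_dt (LP (LK LD1_c3 LD2_c46 LD3_c16)) = (LP (LK LD1_c1 LD2_c50 LD3_c11)) :=
  Lre_d IH (LK LD1_c3 LD2_c46 LD3_c16) (LK LD1_c1 LD2_c50 LD3_c11) Lrfl Lrfl
theorem f457179 : Led Lsl_dt (LP (LK LD1_c1 LD2_c47 LD3_c54)) = (LP (LK LD1_c3 LD2_c41 LD3_c60)) :=
  Lre_d IH (LK LD1_c1 LD2_c47 LD3_c54) (LK LD1_c3 LD2_c41 LD3_c60) Lrfl Lrfl
theorem f466845 : Led Lsl_af (LP (LK LD1_c3 LD2_c46 LD3_c16)) = (LP (LK LD1_c3 LD2_c41 LD3_c60)) :=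
  Lgr Lrot117 (Lpr_dt (f459570 IH) (Lpr_at (f466841 IH) (Lpr_dt (f457179 IH) (Lpn (LP (LK LD1_c3 LD2_c41 LD3_c60))))))
theorem f466853 : Led Lsl_et (LP (LK LD1_c3 LD2_c46 LD3_c16)) = (LP (LK LD1_c7 LD2_c33 LD3_c38)) :=
  Lre_e IH (LK LD1_c3 LD2_c46 LD3_c16) (LK LD1_c7 LD2_c33 LD3_c38) Lrfl Lrfl
theorem f458733 : Led Lsl_et (LP (LK LD1_c7 LD2_c24 LD3_c46)) = (LP (LK LD1_c3 LD2_c41 LD3_c60)) :=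
  Lre_e IH (LK LD1_c7 LD2_c24 LD3_c46) (LK LD1_c3 LD2_c41 LD3_c60) Lrfl Lrfl
theorem f466854 : Led Lsl_at (LP (LK LD1_c7 LD2_c33 LD3_c38)) = (LP (LK LD1_c7 LD2_c24 LD3_c46)) :=
  Lgr Lrot80 (Lpe (f466853 IH) (Lpr_af (f466845 IH) (Lpe (f458733 IH) (Lpn (LP (LK LD1_c7 LD2_c24 LD3_c46))))))
theorem f466869 : Led Lsl_ct (LP (LK LD1_c14 LD2_c15 LD3_c32)) = (LP (LK LD1_c7 LD2_c33 LD3_c38)) :=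
  Lre_c IH (LK LD1_c14 LD2_c15 LD3_c32) (LK LD1_c7 LD2_c33 LD3_c38) Lrfl Lrfl
theorem f466870 : Led Lsl_ct (LP (LK LD1_c7 LD2_c24 LD3_c46)) = (LP (LK LD1_c14 LD2_c1 LD3_c16)) :=
  Lre_c IH (LK LD1_c7 LD2_c24 LD3_c46) (LK LD1_c14 LD2_c1 LD3_c16) Lrfl Lrfl
theorem f466871 : Led Lsl_af (LP (LK LD1_c14 LD2_c15 LD3_c32)) = (LP (LK LD1_c14 LD2_c1 LD3_c16)) :=
  Lgr Lrot68 (Lpr_ct (f466869 IH) (Lpr_at (f466854 IH) (Lpr_ct (f466870 IH) (Lpn (LP (LK LD1_c14 LD2_c1 LD3_c16))))))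
theorem f466904 : Led Lsl_at (LP (LK LD1_c14 LD2_c15 LD3_c32)) = (LP (LK LD1_c14 LD2_c1 LD3_c16)) :=
  Lgr Lrot100 (Lpr_af (f466871 IH) (Lpn (LP (LK LD1_c14 LD2_c1 LD3_c16))))
theorem f466908 : Led Lsl_et (LP (LK LD1_c7 LD2_c33 LD3_c37)) = (LP (LK LD1_c14 LD2_c15 LD3_c32)) :=
  Lre_e IH (LK LD1_c7 LD2_c33 LD3_c37) (LK LD1_c14 LD2_c15 LD3_c32) Lrfl Lrfl
theorem f458737 : Led Lsl_et (LP (LK LD1_c14 LD2_c1 LD3_c16)) = (LP (LK LD1_c7 LD2_c24 LD3_c45)) :=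
  Lre_e IH (LK LD1_c14 LD2_c1 LD3_c16) (LK LD1_c7 LD2_c24 LD3_c45) Lrfl Lrfl
theorem f466909 : Led Lsl_af (LP (LK LD1_c7 LD2_c33 LD3_c37)) = (LP (LK LD1_c7 LD2_c24 LD3_c45)) :=
  Lgr Lrot50 (Lpr_et (f466908 IH) (Lpr_at (f466904 IH) (Lpr_et (f458737 IH) (Lpn (LP (LK LD1_c7 LD2_c24 LD3_c45))))))
theorem f466850 : Led Lsl_ct (LP (LK LD1_c3 LD2_c46 LD3_c16)) = (LP (LK LD1_c7 LD2_c33 LD3_c37)) :=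
  Lre_c IH (LK LD1_c3 LD2_c46 LD3_c16) (LK LD1_c7 LD2_c33 LD3_c37) Lrfl Lrfl
theorem f466864 : Led Lsl_dt (LP (LK LD1_c1 LD2_c50 LD3_c11)) = (LP (LK LD1_c3 LD2_c46 LD3_c16)) :=
  Lre_d IH (LK LD1_c1 LD2_c50 LD3_c11) (LK LD1_c3 LD2_c46 LD3_c16) Lrfl Lrfl
theorem f85271 : Led Lsl_ct (LP (LK LD1_c3 LD2_c46 LD3_c18)) = (LP (LK LD1_c1 LD2_c50 LD3_c12)) :=
  Lre_c IH (LK LD1_c3 LD2_c46 LD3_c18) (LK LD1_c1 LD2_c50 LD3_c12) Lrfl Lrfl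
theorem f85272 : Led Lsl_dt (LP (LK LD1_c7 LD2_c33 LD3_c41)) = (LP (LK LD1_c3 LD2_c46 LD3_c18)) :=
  Lre_d IH (LK LD1_c7 LD2_c33 LD3_c41) (LK LD1_c3 LD2_c46 LD3_c18) Lrfl Lrfl
theorem f474392 : Led Lsl_cf (LP (LK LD1_c7 LD2_c33 LD3_c41)) = (LP (LK LD1_c7 LD2_c33 LD3_c29)) :=
  Lgr Lrot118 (Lpr_dt (f85272 IH) (Lpr_ct (f85271 IH) (Lpr_dt (f85283 IH) (Lpr_ct (f85276 IH) (Lpr_dt (f466864 IH) (Lpr_ct (f466850 IH) (Lpr_af (f466909 IH) (Lpr_ff (f458740 IH) (Lpr_dt (f474342 IH) (Lpn (LP (LK LD1_c7 LD2_c33 LD3_c29))))))))))))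
theorem f85275 : Led Lsl_ct (LP (LK LD1_c1 LD2_c50 LD3_c12)) = (LP (LK LD1_c3 LD2_c46 LD3_c18)) :=
  Lre_c IH (LK LD1_c1 LD2_c50 LD3_c12) (LK LD1_c3 LD2_c46 LD3_c18) Lrfl Lrfl
theorem f85273 : Led Lsl_gt (LP (LK LD1_c3 LD2_c46 LD3_c12)) = (LP (LK LD1_c1 LD2_c50 LD3_c9)) :=
  Lre_g IH (LK LD1_c3 LD2_c46 LD3_c12) (LK LD1_c1 LD2_c50 LD3_c9) Lrfl Lrfl
theorem f85274 : Led Lsl_dt (LP (LK LD1_c7 LD2_c33 LD3_c27)) = (LP (LK LD1_c3 LD2_c46 LD3_c12)) :=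
  Lre_d IH (LK LD1_c7 LD2_c33 LD3_c27) (LK LD1_c3 LD2_c46 LD3_c12) Lrfl Lrfl
theorem f474400 : Led Lsl_gf (LP (LK LD1_c3 LD2_c48 LD3_c8)) = (LP (LK LD1_c7 LD2_c33 LD3_c27)) :=
  Lgr Lrot147 (Lpr_ct (f62974 IH) (Lpe (f474243 IH) (Lpr_ct (f85275 IH) (Lpe (f85272 IH) (Lpr_cf (f474392 IH) (Lpe (f440699 IH) (Lpe (f85266 IH) (Lpe (f85273 IH) (Lpe (f85274 IH) (Lpn (LP (LK LD1_c7 LD2_c33 LD3_c27))))))))))))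
theorem f474283 : Led Lsl_at (LP (LK LD1_c1 LD2_c53 LD3_c13)) = (LP (LK LD1_c3 LD2_c48 LD3_c8)) :=
  Lgr Lrot100 (Lpr_af (f474281 IH) (Lpn (LP (LK LD1_c3 LD2_c48 LD3_c8))))
theorem f459916 : Led Lsl_ft (LP (LK LD1_c3 LD2_c53 LD3_c21)) = (LP (LK LD1_c1 LD2_c53 LD3_c13)) :=
  Lre_f IH (LK LD1_c3 LD2_c53 LD3_c21) (LK LD1_c1 LD2_c53 LD3_c13) Lrfl Lrfl
theorem f474403 : Led Lsl_gt (LP (LK LD1_c3 LD2_c53 LD3_c21)) = (LP (LK LD1_c7 LD2_c33 LD3_c27)) :=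
  Lgr Lrot5 (Lpr_ft (f459916 IH) (Lpr_at (f474283 IH) (Lpr_gf (f474400 IH) (Lpn (LP (LK LD1_c7 LD2_c33 LD3_c27))))))
theorem f85261 : Led Lsl_dt (LP (LK LD1_c1 LD2_c50 LD3_c9)) = (LP (LK LD1_c0 LD2_c51 LD3_c55)) :=
  Lre_d IH (LK LD1_c1 LD2_c50 LD3_c9) (LK LD1_c0 LD2_c51 LD3_c55) Lrfl Lrfl
theorem f85264 : Led Lsl_ct (LP (LK LD1_c0 LD2_c23 LD3_c28)) = (LP (LK LD1_c0 LD2_c51 LD3_c55)) :=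
  Lre_c IH (LK LD1_c0 LD2_c23 LD3_c28) (LK LD1_c0 LD2_c51 LD3_c55) Lrfl Lrfl
theorem f474405 : Led Lsl_ct (LP (LK LD1_c3 LD2_c53 LD3_c21)) = (LP (LK LD1_c1 LD2_c53 LD3_c15)) :=
  Lgr Lrot8 (Lpr_gt (f474403 IH) (Lpr_dt (f85274 IH) (Lpr_gt (f85273 IH) (Lpr_dt (f85261 IH) (Lpe (f85264 IH) (Lpe (f85021 IH) (Lpr_gf (f451050 IH) (Lpq (f466752 IH) (Lpr_df (f459368 IH) (Lpr_gf (f467095 IH) (Lpn (LP (LK LD1_c1 LD2_c53 LD3_c15)))))))))))))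
theorem f459914 : Led Lsl_ct K24.v210 = K24.v869 :=
  Lgr Lrot59 (Lpr_cf (K24.f459913 IH) (Lpn K24.v869))
theorem f473643 : K24.v869 = (LP (LK LD1_c1 LD2_c51 LD3_c0)) :=
  Lefun (Lecon (f459914 IH) (f473639 IH)) (K28.f129659 IH)
theorem f459917 : Led Lsl_ff (LP (LK LD1_c0 LD2_c53 LD3_c10)) = K24.v869 :=
  Lgr Lrot3 (Lpr_ft (K24.f459915 IH) (Lpn K24.v869))
theorem f464027 : Led Lsl_et (LP (LK LD1_c0 LD2_c53 LD3_c10)) = (LP (LK LD1_c1 LD2_c53 LD3_c13)) :=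
  Lre_e IH (LK LD1_c0 LD2_c53 LD3_c10) (LK LD1_c1 LD2_c53 LD3_c13) Lrfl Lrfl
theorem f474050 : Led Lsl_ft (LP (LK LD1_c1 LD2_c53 LD3_c13)) = (LP (LK LD1_c3 LD2_c53 LD3_c21)) :=
  Lre_f IH (LK LD1_c1 LD2_c53 LD3_c13) (LK LD1_c3 LD2_c53 LD3_c21) Lrfl Lrfl
theorem f474051 : Led Lsl_et (LP (LK LD1_c3 LD2_c53 LD3_c21)) = (LP (LK LD1_c3 LD2_c48 LD3_c4)) :=
  Lgr Lrot69 (Lpe (f474050 IH) (Lpe (f464027 IH) (Lpr_ff (f459917 IH) (Lpqs (f473643 IH) (Lpe (K24.f129789 IH) (Lpr_ff (f474042 IH) (Lpn (LP (LK LD1_c3 LD2_c48 LD3_c4)))))))))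
theorem f474068 : Led Lsl_at (LP (LK LD1_c3 LD2_c53 LD3_c1)) = (LP (LK LD1_c3 LD2_c53 LD3_c21)) :=
  Lgr Lrot80 (Lpe (f64672 IH) (Lpr_af (f474061 IH) (Lpe (f474051 IH) (Lpn (LP (LK LD1_c3 LD2_c53 LD3_c21))))))
theorem f474409 : Led Lsl_af (LP (LK LD1_c1 LD2_c53 LD3_c5)) = (LP (LK LD1_c1 LD2_c53 LD3_c15)) :=
  Lgr Lrot68 (Lpr_ct (f62728 IH) (Lpr_at (f474068 IH) (Lpr_ct (f474405 IH) (Lpn (LP (LK LD1_c1 LD2_c53 LD3_c15))))))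
theorem f474412 : Led Lsl_gf (LP (LK LD1_c1 LD2_c47 LD3_c55)) = (LP (LK LD1_c0 LD2_c53 LD3_c12)) :=
  Lgr Lrot47 (Lpe (K28.f467679 IH) (Lpr_af (f474409 IH) (Lpe (f473631 IH) (Lpn (LP (LK LD1_c0 LD2_c53 LD3_c12))))))
theorem f85270 : Led Lsl_dt (LP (LK LD1_c0 LD2_c51 LD3_c56)) = (LP (LK LD1_c1 LD2_c50 LD3_c12)) :=
  Lre_d IH (LK LD1_c0 LD2_c51 LD3_c56) (LK LD1_c1 LD2_c50 LD3_c12) Lrfl Lrfl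
theorem f466925 : Led Lsl_bf (LP (LK LD1_c1 LD2_c50 LD3_c12)) = (LP (LK LD1_c1 LD2_c50 LD3_c12)) :=
  Lgr Lrot93 (Lpr_dt (f85283 IH) (Lpr_bt (f459573 IH) (Lpq (f466759 IH) (Lpqs (f466751 IH) (Lpr_dt (f85270 IH) (Lpn (LP (LK LD1_c1 LD2_c50 LD3_c12))))))))
theorem f457189 : Led Lsl_af (LP (LK LD1_c0 LD2_c50 LD3_c41)) = K24.v778 :=
  Lgr Lrot0 (Lpr_at (K24.f457188 IH) (Lpn K24.v778))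
theorem f466927 : Led Lsl_at (LP (LK LD1_c1 LD2_c50 LD3_c12)) = (LP (LK LD1_c1 LD2_c47 LD3_c55)) :=
  Lgr Lrot67 (Lpr_bf (f466925 IH) (Lpr_af (f466923 IH) (Lpe (f451582 IH) (Lpr_af (f457189 IH) (Lpqs (K24.f457203 IH) (Lpe (K28.f451334 IH) (Lpn (LP (LK LD1_c1 LD2_c47 LD3_c55)))))))))
theorem f467685 : Led Lsl_ft (LP (LK LD1_c1 LD2_c51 LD3_c29)) = (LP (LK LD1_c1 LD2_c50 LD3_c12)) :=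
  Lgr Lrot101 (Lpr_af (K28.f467681 IH) (Lpe (K28.f459371 IH) (Lpe (f466927 IH) (Lpn (LP (LK LD1_c1 LD2_c50 LD3_c12))))))
theorem f474414 : Led Lsl_gt (LP (LK LD1_c1 LD2_c51 LD3_c29)) = (LP (LK LD1_c0 LD2_c53 LD3_c12)) :=
  Lgr Lrot5 (Lpr_ft (f467685 IH) (Lpr_at (f466927 IH) (Lpr_gf (f474412 IH) (Lpn (LP (LK LD1_c0 LD2_c53 LD3_c12))))))
theorem f442184 : Led Lsl_df (LP (LK LD1_c1 LD2_c41 LD3_c35)) = (LP (LK LD1_c1 LD2_c51 LD3_c29)) :=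
  Lgr Lrot153 (Lpr_gt (K28.f95971 IH) (Lpr_dt (K3.f95977 IH) (Lpe (K3.f64678 IH) (Lpe (K3.f64677 IH) (Lpe (f64645 IH) (Lpe (f64646 IH) (Lpr_gf (f64673 IH) (Lpe (f62728 IH) (Lpr_gt (K28.f62726 IH) (Lpn (LP (LK LD1_c1 LD2_c51 LD3_c29))))))))))))
theorem f442188 : Led Lsl_dt (LP (LK LD1_c1 LD2_c41 LD3_c35)) = (LP (LK LD1_c1 LD2_c51 LD3_c29)) :=
  Lgr Lrot42 (Lpr_df (f442184 IH) (Lpn (LP (LK LD1_c1 LD2_c51 LD3_c29))))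
theorem f109646 : Led Lsl_ft (LP (LK LD1_c1 LD2_c50 LD3_c10)) = (LP (LK LD1_c0 LD2_c51 LD3_c55)) :=
  Lre_f IH (LK LD1_c1 LD2_c50 LD3_c10) (LK LD1_c0 LD2_c51 LD3_c55) Lrfl Lrfl
theorem f109647 : Led Lsl_af (LP (LK LD1_c1 LD2_c41 LD3_c34)) = (LP (LK LD1_c0 LD2_c51 LD3_c55)) :=
  Lgr Lrot45 (Lpr_ft (K3.f109645 IH) (Lpr_at (K3.f109630 IH) (Lpr_ft (f109646 IH) (Lpn (LP (LK LD1_c0 LD2_c51 LD3_c55))))))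
theorem f105566 : Led Lsl_gt (LP (LK LD1_c3 LD2_c29 LD3_c44)) = (LP (LK LD1_c1 LD2_c41 LD3_c34)) :=
  Lre_g IH (LK LD1_c3 LD2_c29 LD3_c44) (LK LD1_c1 LD2_c41 LD3_c34) Lrfl Lrfl
theorem f441373 : Led Lsl_gf (LP (LK LD1_c3 LD2_c29 LD3_c44)) = (LP (LK LD1_c1 LD2_c50 LD3_c10)) :=
  Lgr Lrot47 (Lpr_gt (f105566 IH) (Lpr_af (f109647 IH) (Lpe (f109646 IH) (Lpn (LP (LK LD1_c1 LD2_c50 LD3_c10))))))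
theorem f441375 : Led Lsl_dt (LP (LK LD1_c3 LD2_c29 LD3_c44)) = (LP (LK LD1_c7 LD2_c1 LD3_c4)) :=
  Lre_d IH (LK LD1_c3 LD2_c29 LD3_c44) (LK LD1_c7 LD2_c1 LD3_c4) Lrfl Lrfl
theorem f474298 : Led Lsl_dt (LP (LK LD1_c7 LD2_c48 LD3_c22)) = (LP (LK LD1_c3 LD2_c53 LD3_c21)) :=
  Lre_d IH (LK LD1_c7 LD2_c48 LD3_c22) (LK LD1_c3 LD2_c53 LD3_c21) Lrfl Lrfl
theorem f474430 : Led Lsl_gt (LP (LK LD1_c7 LD2_c1 LD3_c4)) = (LP (LK LD1_c7 LD2_c48 LD3_c22)) :=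
  Lgr Lrot49 (Lpe (f441375 IH) (Lpr_gf (f441373 IH) (Lpe (K3.f85234 IH) (Lpe (K28.f440739 IH) (Lpr_dt (f442188 IH) (Lpr_gt (f474414 IH) (Lpr_dt (f129792 IH) (Lpe (f474405 IH) (Lpe (f474298 IH) (Lpn (LP (LK LD1_c7 LD2_c48 LD3_c22))))))))))))
theorem f440723 : Led Lsl_dt (LP (LK LD1_c7 LD2_c1 LD3_c4)) = (LP (LK LD1_c3 LD2_c29 LD3_c44)) :=
  Lre_d IH (LK LD1_c7 LD2_c1 LD3_c4) (LK LD1_c3 LD2_c29 LD3_c44) Lrfl Lrfl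
theorem f436804 : Led Lsl_ct (LP (LK LD1_c0 LD2_c50 LD3_c40)) = (LP (LK LD1_c1 LD2_c47 LD3_c54)) :=
  Lre_c IH (LK LD1_c0 LD2_c50 LD3_c40) (LK LD1_c1 LD2_c47 LD3_c54) Lrfl Lrfl
theorem f457180 : Led Lsl_ct (LP (LK LD1_c7 LD2_c24 LD3_c45)) = (LP (LK LD1_c3 LD2_c41 LD3_c60)) :=
  Lre_c IH (LK LD1_c7 LD2_c24 LD3_c45) (LK LD1_c3 LD2_c41 LD3_c60) Lrfl Lrfl
theorem f457181 : Led Lsl_gt (LP (LK LD1_c14 LD2_c1 LD3_c14)) = (LP (LK LD1_c7 LD2_c24 LD3_c45)) :=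
  Lre_g IH (LK LD1_c14 LD2_c1 LD3_c14) (LK LD1_c7 LD2_c24 LD3_c45) Lrfl Lrfl
theorem f474434 : Led Lsl_cf (LP (LK LD1_c14 LD2_c1 LD3_c14)) = (LP (LK LD1_c7 LD2_c48 LD3_c22)) :=
  Lgr Lrot169 (Lpr_gt (f457181 IH) (Lpr_ct (f457180 IH) (Lpe (f457179 IH) (Lpe (f436804 IH) (Lpqs (K28.f467674 IH) (Lpe (K28.f455530 IH) (Lpe (K3.f64678 IH) (Lpe (f105566 IH) (Lpe (f440723 IH) (Lpr_gt (f474430 IH) (Lpn (LP (LK LD1_c7 LD2_c48 LD3_c22)))))))))))))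
theorem f474305 : Led Lsl_ft (LP (LK LD1_c7 LD2_c48 LD3_c22)) = (LP (LK LD1_c3 LD2_c53 LD3_c20)) :=
  Lre_f IH (LK LD1_c7 LD2_c48 LD3_c22) (LK LD1_c3 LD2_c53 LD3_c20) Lrfl Lrfl
theorem f103967 : Led Lsl_dt (LP (LK LD1_c3 LD2_c29 LD3_c43)) = (LP (LK LD1_c7 LD2_c1 LD3_c1)) :=
  Lre_d IH (LK LD1_c3 LD2_c29 LD3_c43) (LK LD1_c7 LD2_c1 LD3_c1) Lrfl Lrfl
theorem f464150 : Led Lsl_et (LP (LK LD1_c3 LD2_c48 LD3_c8)) = (LP (LK LD1_c1 LD2_c51 LD3_c3)) :=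
  Lre_e IH (LK LD1_c3 LD2_c48 LD3_c8) (LK LD1_c1 LD2_c51 LD3_c3) Lrfl Lrfl
theorem f464153 : Led Lsl_gt (LP (LK LD1_c7 LD2_c1 LD3_c1)) = (LP (LK LD1_c7 LD2_c37 LD3_c23)) :=
  Lgr Lrot139 (Lpe (f103967 IH) (Lpe (f64727 IH) (Lpe (f103963 IH) (Lpr_dt (K3.f64793 IH) (Lpr_gf (K3.f103958 IH) (Lpe (K3.f103946 IH) (Lpr_et (K5.f103960 IH) (Lpr_gf (K28.f464140 IH) (Lpe (f464150 IH) (Lpr_dt (f62987 IH) (Lpn (LP (LK LD1_c7 LD2_c37 LD3_c23)))))))))))))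
theorem f474306 : Led Lsl_gt (LP (LK LD1_c7 LD2_c48 LD3_c22)) = (LP (LK LD1_c7 LD2_c1 LD3_c1)) :=
  Lgr Lrot5 (Lpr_ft (f474305 IH) (Lpr_at (f474288 IH) (Lpe (f464153 IH) (Lpn (LP (LK LD1_c7 LD2_c1 LD3_c1))))))
theorem f64728 : Led Lsl_dt (LP (LK LD1_c7 LD2_c1 LD3_c1)) = (LP (LK LD1_c3 LD2_c29 LD3_c43)) :=
  Lre_d IH (LK LD1_c7 LD2_c1 LD3_c1) (LK LD1_c3 LD2_c29 LD3_c43) Lrfl Lrfl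
theorem f109667 : Led Lsl_gt (LP (LK LD1_c13 LD2_c18 LD3_c55)) = (LP (LK LD1_c7 LD2_c1 LD3_c8)) :=
  Lre_g IH (LK LD1_c13 LD2_c18 LD3_c55) (LK LD1_c7 LD2_c1 LD3_c8) Lrfl Lrfl
theorem f474445 : Led Lsl_dt (LP (LK LD1_c7 LD2_c24 LD3_c45)) = (LP (LK LD1_c13 LD2_c18 LD3_c55)) :=
  Lgr Lrot57 (Lpe (f457181 IH) (Lpr_cf (f474434 IH) (Lpr_gt (f474306 IH) (Lpr_dt (f64728 IH) (Lpr_gt (f109649 IH) (Lpr_dt (f85235 IH) (Lpe (K3.f85239 IH) (Lpe (K3.f109651 IH) (Lpe (f109667 IH) (Lpn (LP (LK LD1_c13 LD2_c18 LD3_c55))))))))))))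
theorem f474451 : Led Lsl_df (LP (LK LD1_c7 LD2_c24 LD3_c45)) = (LP (LK LD1_c13 LD2_c18 LD3_c55)) :=
  Lgr Lrot38 (Lpr_dt (f474445 IH) (Lpn (LP (LK LD1_c13 LD2_c18 LD3_c55))))
theorem f458742 : Led Lsl_gt (LP (LK LD1_c7 LD2_c24 LD3_c45)) = (LP (LK LD1_c14 LD2_c1 LD3_c13)) :=
  Lre_g IH (LK LD1_c7 LD2_c24 LD3_c45) (LK LD1_c14 LD2_c1 LD3_c13) Lrfl Lrfl
theorem f440697 : Led Lsl_af (LP (LK LD1_c7 LD2_c1 LD3_c8)) = (LP (LK LD1_c3 LD2_c46 LD3_c13)) :=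
  Lgr Lrot117 (Lpr_dt (K3.f109651 IH) (Lpr_at (f440690 IH) (Lpr_dt (f85263 IH) (Lpn (LP (LK LD1_c3 LD2_c46 LD3_c13))))))
theorem f109658 : Led Lsl_ft (LP (LK LD1_c7 LD2_c33 LD3_c33)) = (LP (LK LD1_c3 LD2_c46 LD3_c13)) :=
  Lre_f IH (LK LD1_c7 LD2_c33 LD3_c33) (LK LD1_c3 LD2_c46 LD3_c13) Lrfl Lrfl
theorem f440717 : Led Lsl_gf (LP (LK LD1_c13 LD2_c18 LD3_c55)) = (LP (LK LD1_c7 LD2_c33 LD3_c33)) :=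
  Lgr Lrot47 (Lpr_gt (f109667 IH) (Lpr_af (f440697 IH) (Lpe (f109658 IH) (Lpn (LP (LK LD1_c7 LD2_c33 LD3_c33))))))
theorem f474292 : Led Lsl_gf (LP (LK LD1_c1 LD2_c53 LD3_c13)) = (LP (LK LD1_c3 LD2_c48 LD3_c48)) :=
  Lgr Lrot76 (Lpr_af (f474281 IH) (Lpe (f473695 IH) (Lpe (f64673 IH) (Lpn (LP (LK LD1_c3 LD2_c48 LD3_c48))))))
theorem f466948 : Led Lsl_ct (LP (LK LD1_c7 LD2_c48 LD3_c21)) = (LP (LK LD1_c3 LD2_c53 LD3_c20)) :=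
  Lre_c IH (LK LD1_c7 LD2_c48 LD3_c21) (LK LD1_c3 LD2_c53 LD3_c20) Lrfl Lrfl
theorem f474509 : Led Lsl_dt (LP (LK LD1_c14 LD2_c1 LD3_c13)) = (LP (LK LD1_c7 LD2_c48 LD3_c21)) :=
  Lgr Lrot105 (Lpe (f458742 IH) (Lpr_df (f474451 IH) (Lpr_gf (f440717 IH) (Lpe (f85236 IH) (Lpe (f109697 IH) (Lpe (f64698 IH) (Lpe (f474292 IH) (Lpr_dt (f88004 IH) (Lpe (f466948 IH) (Lpn (LP (LK LD1_c7 LD2_c48 LD3_c21))))))))))))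
theorem f88084 : Led Lsl_dt (LP (LK LD1_c3 LD2_c53 LD3_c20)) = (LP (LK LD1_c1 LD2_c53 LD3_c13)) :=
  Lre_d IH (LK LD1_c3 LD2_c53 LD3_c20) (LK LD1_c1 LD2_c53 LD3_c13) Lrfl Lrfl
theorem f473636 : Led Lsl_cf (LP (LK LD1_c3 LD2_c53 LD3_c21)) = (LP (LK LD1_c1 LD2_c53 LD3_c15)) :=
  Lgr Lrot108 (Lpr_ft (f459916 IH) (Lpr_ct (f466944 IH) (Lpr_ft (f473631 IH) (Lpn (LP (LK LD1_c1 LD2_c53 LD3_c15))))))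
theorem f474518 : Led Lsl_cf (LP (LK LD1_c14 LD2_c1 LD3_c13)) = (LP (LK LD1_c7 LD2_c37 LD3_c23)) :=
  Lgr Lrot118 (Lpr_dt (f474509 IH) (Lpr_ct (f466948 IH) (Lpr_dt (f88084 IH) (Lpr_ct (f466944 IH) (Lpr_dt (f129792 IH) (Lpe (f473636 IH) (Lpe (f474068 IH) (Lpr_ff (f473691 IH) (Lpr_dt (f62987 IH) (Lpn (LP (LK LD1_c7 LD2_c37 LD3_c23))))))))))))
theorem f440741 : Led Lsl_ct (LP (LK LD1_c1 LD2_c41 LD3_c35)) = (LP (LK LD1_c3 LD2_c29 LD3_c47)) :=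
  Lre_c IH (LK LD1_c1 LD2_c41 LD3_c35) (LK LD1_c3 LD2_c29 LD3_c47) Lrfl Lrfl
theorem f440744 : Led Lsl_dt (LP (LK LD1_c7 LD2_c1 LD3_c11)) = (LP (LK LD1_c3 LD2_c29 LD3_c47)) :=
  Lre_d IH (LK LD1_c7 LD2_c1 LD3_c11) (LK LD1_c3 LD2_c29 LD3_c47) Lrfl Lrfl
theorem f440743 : Led Lsl_ct (LP (LK LD1_c13 LD2_c18 LD3_c59)) = (LP (LK LD1_c7 LD2_c1 LD3_c11)) :=
  Lre_c IH (LK LD1_c13 LD2_c18 LD3_c59) (LK LD1_c7 LD2_c1 LD3_c11) Lrfl Lrfl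
theorem f474529 : Led Lsl_gt (LP (LK LD1_c14 LD2_c1 LD3_c13)) = (LP (LK LD1_c13 LD2_c18 LD3_c59)) :=
  Lgr Lrot150 (Lpr_cf (f474518 IH) (Lpe (f464153 IH) (Lpe (f103967 IH) (Lpr_gt (f109649 IH) (Lpr_ct (K3.f85237 IH) (Lpe (K28.f440739 IH) (Lpr_ct (f440741 IH) (Lpe (f440744 IH) (Lpe (f440743 IH) (Lpn (LP (LK LD1_c13 LD2_c18 LD3_c59))))))))))))
theorem f474523 : Led Lsl_ct (LP (LK LD1_c14 LD2_c1 LD3_c13)) = (LP (LK LD1_c7 LD2_c37 LD3_c23)) :=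
  Lgr Lrot59 (Lpr_cf (f474518 IH) (Lpn (LP (LK LD1_c7 LD2_c37 LD3_c23))))
theorem f474324 : Led Lsl_at (LP (LK LD1_c7 LD2_c33 LD3_c11)) = (LP (LK LD1_c7 LD2_c48 LD3_c22)) :=
  Lgr Lrot66 (Lpr_ff (f474322 IH) (Lpe (f474288 IH) (Lpe (f474305 IH) (Lpn (LP (LK LD1_c7 LD2_c48 LD3_c22))))))
theorem f474432 : Led Lsl_gf (LP (LK LD1_c7 LD2_c1 LD3_c4)) = (LP (LK LD1_c7 LD2_c37 LD3_c23)) :=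
  Lgr Lrot47 (Lpr_gt (f474430 IH) (Lpe (f474324 IH) (Lpr_ff (f474322 IH) (Lpn (LP (LK LD1_c7 LD2_c37 LD3_c23))))))
theorem f440686 : Led Lsl_af (LP (LK LD1_c7 LD2_c33 LD3_c33)) = (LP (LK LD1_c7 LD2_c33 LD3_c32)) :=
  Lgr Lrot68 (Lpr_ct (K3.f85239 IH) (Lpe (f109643 IH) (Lpr_ct (f440683 IH) (Lpn (LP (LK LD1_c7 LD2_c33 LD3_c32))))))
theorem f440715 : Led Lsl_ft (LP (LK LD1_c7 LD2_c1 LD3_c8)) = (LP (LK LD1_c7 LD2_c33 LD3_c32)) :=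
  Lgr Lrot101 (Lpr_af (f440697 IH) (Lpe (f109658 IH) (Lpr_af (f440686 IH) (Lpn (LP (LK LD1_c7 LD2_c33 LD3_c32))))))
theorem f64704 : Led Lsl_gt (LP (LK LD1_c7 LD2_c1 LD3_c8)) = (LP (LK LD1_c13 LD2_c18 LD3_c54)) :=
  Lre_g IH (LK LD1_c7 LD2_c1 LD3_c8) (LK LD1_c13 LD2_c18 LD3_c54) Lrfl Lrfl
theorem f440721 : Led Lsl_gt (LP (LK LD1_c13 LD2_c18 LD3_c54)) = (LP (LK LD1_c7 LD2_c33 LD3_c33)) :=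
  Lgr Lrot46 (Lpe (f64704 IH) (Lpr_ft (f440715 IH) (Lpe (f440686 IH) (Lpn (LP (LK LD1_c7 LD2_c33 LD3_c33))))))
theorem f474534 : Led Lsl_df (LP (LK LD1_c13 LD2_c18 LD3_c54)) = (LP (LK LD1_c13 LD2_c18 LD3_c59)) :=
  Lgr Lrot153 (Lpr_gt (f440721 IH) (Lpe (f109655 IH) (Lpe (K3.f64703 IH) (Lpe (K3.f64644 IH) (Lpe (f105566 IH) (Lpe (f440723 IH) (Lpr_gf (f474432 IH) (Lpe (f474523 IH) (Lpr_gt (f474529 IH) (Lpn (LP (LK LD1_c13 LD2_c18 LD3_c59))))))))))))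
theorem f474389 : Led Lsl_df (LP (LK LD1_c7 LD2_c24 LD3_c52)) = (LP (LK LD1_c7 LD2_c33 LD3_c29)) :=
  Lgr Lrot38 (Lpr_dt (f474342 IH) (Lpn (LP (LK LD1_c7 LD2_c33 LD3_c29))))
theorem f474453 : Led Lsl_ff (LP (LK LD1_c7 LD2_c33 LD3_c29)) = (LP (LK LD1_c13 LD2_c18 LD3_c55)) :=
  Lgr Lrot19 (Lpe (f474389 IH) (Lpe (f458740 IH) (Lpr_dt (f474445 IH) (Lpn (LP (LK LD1_c13 LD2_c18 LD3_c55))))))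
theorem f474460 : Led Lsl_at (LP (LK LD1_c7 LD2_c33 LD3_c29)) = (LP (LK LD1_c13 LD2_c18 LD3_c54)) :=
  Lgr Lrot26 (Lpr_ff (f474453 IH) (Lpr_gt (f109667 IH) (Lpr_gt (f64704 IH) (Lpn (LP (LK LD1_c13 LD2_c18 LD3_c54))))))
theorem f474462 : Led Lsl_af (LP (LK LD1_c7 LD2_c33 LD3_c29)) = (LP (LK LD1_c13 LD2_c18 LD3_c54)) :=
  Lgr Lrot0 (Lpr_at (f474460 IH) (Lpn (LP (LK LD1_c13 LD2_c18 LD3_c54))))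
theorem f474395 : Led Lsl_ct (LP (LK LD1_c7 LD2_c33 LD3_c41)) = (LP (LK LD1_c7 LD2_c33 LD3_c29)) :=
  Lgr Lrot59 (Lpr_cf (f474392 IH) (Lpn (LP (LK LD1_c7 LD2_c33 LD3_c29))))
theorem f459579 : Led Lsl_dt (LP (LK LD1_c3 LD2_c46 LD3_c18)) = (LP (LK LD1_c7 LD2_c33 LD3_c41)) :=
  Lre_d IH (LK LD1_c3 LD2_c46 LD3_c18) (LK LD1_c7 LD2_c33 LD3_c41) Lrfl Lrfl
theorem f441410 : Led Lsl_ct (LP (LK LD1_c1 LD2_c50 LD3_c11)) = (LP (LK LD1_c0 LD2_c51 LD3_c56)) :=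
  Lre_c IH (LK LD1_c1 LD2_c50 LD3_c11) (LK LD1_c0 LD2_c51 LD3_c56) Lrfl Lrfl
theorem f459571 : Led Lsl_ct (LP (LK LD1_c7 LD2_c33 LD3_c37)) = (LP (LK LD1_c3 LD2_c46 LD3_c16)) :=
  Lre_c IH (LK LD1_c7 LD2_c33 LD3_c37) (LK LD1_c3 LD2_c46 LD3_c16) Lrfl Lrfl
theorem f440693 : Led Lsl_gt (LP (LK LD1_c7 LD2_c33 LD3_c30)) = (LP (LK LD1_c3 LD2_c46 LD3_c13)) :=
  Lre_g IH (LK LD1_c7 LD2_c33 LD3_c30) (LK LD1_c3 LD2_c46 LD3_c13) Lrfl Lrfl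
theorem f474472 : Led Lsl_ft (LP (LK LD1_c7 LD2_c33 LD3_c30)) = (LP (LK LD1_c13 LD2_c18 LD3_c54)) :=
  Lgr Lrot2 (Lpr_gt (f440693 IH) (Lpr_gt (f440699 IH) (Lpr_af (f474462 IH) (Lpn (LP (LK LD1_c13 LD2_c18 LD3_c54))))))
theorem f474474 : Led Lsl_df (LP (LK LD1_c7 LD2_c33 LD3_c37)) = (LP (LK LD1_c7 LD2_c33 LD3_c30)) :=
  Lgr Lrot157 (Lpr_ct (f459571 IH) (Lpr_dt (f459570 IH) (Lpr_ct (f441410 IH) (Lpr_dt (f85270 IH) (Lpr_ct (f85275 IH) (Lpr_dt (f459579 IH) (Lpr_ct (f474395 IH) (Lpr_af (f474462 IH) (Lpe (f474472 IH) (Lpn (LP (LK LD1_c7 LD2_c33 LD3_c30))))))))))))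
theorem f474480 : Led Lsl_dt (LP (LK LD1_c7 LD2_c33 LD3_c37)) = (LP (LK LD1_c7 LD2_c33 LD3_c30)) :=
  Lgr Lrot42 (Lpr_df (f474474 IH) (Lpn (LP (LK LD1_c7 LD2_c33 LD3_c30))))
theorem f474483 : Led Lsl_af (LP (LK LD1_c13 LD2_c18 LD3_c55)) = (LP (LK LD1_c7 LD2_c33 LD3_c30)) :=
  Lgr Lrot117 (Lpe (f474451 IH) (Lpe (f466909 IH) (Lpr_dt (f474480 IH) (Lpn (LP (LK LD1_c7 LD2_c33 LD3_c30))))))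
theorem f474491 : Led Lsl_ft (LP (LK LD1_c13 LD2_c18 LD3_c54)) = (LP (LK LD1_c7 LD2_c33 LD3_c30)) :=
  Lgr Lrot101 (Lpe (f474460 IH) (Lpr_ff (f474453 IH) (Lpr_af (f474483 IH) (Lpn (LP (LK LD1_c7 LD2_c33 LD3_c30))))))
theorem f474545 : Led Lsl_ft (LP (LK LD1_c7 LD2_c33 LD3_c37)) = (LP (LK LD1_c13 LD2_c18 LD3_c59)) :=
  Lgr Lrot54 (Lpr_df (f474474 IH) (Lpe (f474491 IH) (Lpr_df (f474534 IH) (Lpn (LP (LK LD1_c13 LD2_c18 LD3_c59))))))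
theorem f474555 : Led Lsl_ff (LP (LK LD1_c7 LD2_c33 LD3_c37)) = (LP (LK LD1_c13 LD2_c18 LD3_c59)) :=
  Lgr Lrot3 (Lpr_ft (f474545 IH) (Lpn (LP (LK LD1_c13 LD2_c18 LD3_c59))))
theorem f466851 : Led Lsl_at (LP (LK LD1_c7 LD2_c33 LD3_c37)) = (LP (LK LD1_c7 LD2_c24 LD3_c45)) :=
  Lgr Lrot107 (Lpe (f466850 IH) (Lpr_af (f466845 IH) (Lpe (f457180 IH) (Lpn (LP (LK LD1_c7 LD2_c24 LD3_c45))))))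
theorem f474561 : Led Lsl_gf (LP (LK LD1_c14 LD2_c1 LD3_c14)) = (LP (LK LD1_c13 LD2_c18 LD3_c59)) :=
  Lgr Lrot47 (Lpr_gt (f457181 IH) (Lpe (f466851 IH) (Lpr_ff (f474555 IH) (Lpn (LP (LK LD1_c13 LD2_c18 LD3_c59))))))
theorem f474441 : Led Lsl_ct (LP (LK LD1_c14 LD2_c1 LD3_c14)) = (LP (LK LD1_c7 LD2_c48 LD3_c22)) :=
  Lgr Lrot59 (Lpr_cf (f474434 IH) (Lpn (LP (LK LD1_c7 LD2_c48 LD3_c22))))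
theorem f464155 : Led Lsl_ct (LP (LK LD1_c7 LD2_c1 LD3_c1)) = (LP (LK LD1_c13 LD2_c18 LD3_c40)) :=
  Lre_c IH (LK LD1_c7 LD2_c1 LD3_c1) (LK LD1_c13 LD2_c18 LD3_c40) Lrfl Lrfl
theorem f474542 : Led Lsl_dt (LP (LK LD1_c13 LD2_c18 LD3_c54)) = (LP (LK LD1_c13 LD2_c18 LD3_c59)) :=
  Lgr Lrot42 (Lpr_df (f474534 IH) (Lpn (LP (LK LD1_c13 LD2_c18 LD3_c59))))
theorem f64679 : Led Lsl_ct (LP (LK LD1_c7 LD2_c1 LD3_c7)) = (LP (LK LD1_c13 LD2_c18 LD3_c52)) :=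
  Lre_c IH (LK LD1_c7 LD2_c1 LD3_c7) (LK LD1_c13 LD2_c18 LD3_c52) Lrfl Lrfl
theorem f474563 : Led Lsl_dt (LP (LK LD1_c13 LD2_c18 LD3_c40)) = (LP (LK LD1_c13 LD2_c18 LD3_c52)) :=
  Lgr Lrot27 (Lpe (f464155 IH) (Lpe (f474306 IH) (Lpe (f474441 IH) (Lpr_gf (f474561 IH) (Lpe (f474542 IH) (Lpr_gt (f440721 IH) (Lpr_ct (K3.f85239 IH) (Lpe (f109697 IH) (Lpr_ct (f64679 IH) (Lpn (LP (LK LD1_c13 LD2_c18 LD3_c52))))))))))))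
theorem f115973 : Led Lsl_df (LP (LK LD1_c13 LD2_c20 LD3_c2)) = (LP (LK LD1_c12 LD2_c34 LD3_c57)) :=
  Lgr Lrot43 (Lpr_ct (f115965 IH) (Lpr_dt (K4.f115770 IH) (Lpe (K4.f115957 IH) (Lpr_dt (K4.f94317 IH) (Lpr_ct (K4.f115937 IH) (Lpr_dt (K4.f115963 IH) (Lpr_ct (K4.f115964 IH) (Lpr_dt (K4.f115968 IH) (Lpr_ct (K4.f65511 IH) (Lpr_dt (K4.f65510 IH) (Lpr_ct (K4.f65509 IH) (Lpr_dt (f65501 IH) (Lpr_ct (f65512 IH) (Lpr_dt (K4.f62837 IH) (Lpr_ct (f65513 IH) (Lpn (LP (LK LD1_c12 LD2_c34 LD3_c57))))))))))))))))))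
theorem f442187 : Led Lsl_ct (LP (LK LD1_c7 LD2_c1 LD3_c11)) = (LP (LK LD1_c13 LD2_c18 LD3_c59)) :=
  Lre_c IH (LK LD1_c7 LD2_c1 LD3_c11) (LK LD1_c13 LD2_c18 LD3_c59) Lrfl Lrfl
theorem f474559 : Led Lsl_ft (LP (LK LD1_c3 LD2_c46 LD3_c16)) = (LP (LK LD1_c7 LD2_c1 LD3_c11)) :=
  Lgr Lrot4 (Lpe (f459571 IH) (Lpr_ff (f474555 IH) (Lpe (f442187 IH) (Lpn (LP (LK LD1_c7 LD2_c1 LD3_c11))))))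
theorem f466865 : Led Lsl_et (LP (LK LD1_c7 LD2_c33 LD3_c38)) = (LP (LK LD1_c3 LD2_c46 LD3_c16)) :=
  Lre_e IH (LK LD1_c7 LD2_c33 LD3_c38) (LK LD1_c3 LD2_c46 LD3_c16) Lrfl Lrfl
theorem f466874 : Led Lsl_ft (LP (LK LD1_c14 LD2_c15 LD3_c35)) = (LP (LK LD1_c7 LD2_c33 LD3_c38)) :=
  Lre_f IH (LK LD1_c14 LD2_c15 LD3_c35) (LK LD1_c7 LD2_c33 LD3_c38) Lrfl Lrfl
theorem f474592 : Led Lsl_et (LP (LK LD1_c7 LD2_c1 LD3_c11)) = (LP (LK LD1_c13 LD2_c18 LD3_c60)) :=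
  Lre_e IH (LK LD1_c7 LD2_c1 LD3_c11) (LK LD1_c13 LD2_c18 LD3_c60) Lrfl Lrfl
theorem f474593 : Led Lsl_ft (LP (LK LD1_c13 LD2_c18 LD3_c60)) = (LP (LK LD1_c22 LD2_c35 LD3_c20)) :=
  Lre_f IH (LK LD1_c13 LD2_c18 LD3_c60) (LK LD1_c22 LD2_c35 LD3_c20) Lrfl Lrfl
theorem f474594 : Led Lsl_ef (LP (LK LD1_c14 LD2_c15 LD3_c35)) = (LP (LK LD1_c22 LD2_c35 LD3_c20)) :=
  Lgr Lrot21 (Lpr_ft (f466874 IH) (Lpr_et (f466865 IH) (Lpr_ft (f474559 IH) (Lpr_et (f474592 IH) (Lpr_ft (f474593 IH) (Lpn (LP (LK LD1_c22 LD2_c35 LD3_c20))))))))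
theorem f474598 : Led Lsl_et (LP (LK LD1_c14 LD2_c15 LD3_c35)) = (LP (LK LD1_c22 LD2_c35 LD3_c20)) :=
  Lgr Lrot87 (Lpr_ef (f474594 IH) (Lpn (LP (LK LD1_c22 LD2_c35 LD3_c20))))
theorem f458727 : Led Lsl_ft (LP (LK LD1_c7 LD2_c24 LD3_c46)) = (LP (LK LD1_c14 LD2_c1 LD3_c20)) :=
  Lre_f IH (LK LD1_c7 LD2_c24 LD3_c46) (LK LD1_c14 LD2_c1 LD3_c20) Lrfl Lrfl
theorem f466875 : Led Lsl_af (LP (LK LD1_c14 LD2_c15 LD3_c35)) = (LP (LK LD1_c14 LD2_c1 LD3_c20)) :=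
  Lgr Lrot45 (Lpr_ft (f466874 IH) (Lpr_at (f466854 IH) (Lpr_ft (f458727 IH) (Lpn (LP (LK LD1_c14 LD2_c1 LD3_c20))))))
theorem f458726 : Led Lsl_et (LP (LK LD1_c3 LD2_c41 LD3_c60)) = (LP (LK LD1_c7 LD2_c24 LD3_c46)) :=
  Lre_e IH (LK LD1_c3 LD2_c41 LD3_c60) (LK LD1_c7 LD2_c24 LD3_c46) Lrfl Lrfl
theorem f456303 : Led Lsl_et (LP (LK LD1_c7 LD2_c24 LD3_c53)) = (LP (LK LD1_c3 LD2_c42 LD3_c1)) :=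
  Lre_e IH (LK LD1_c7 LD2_c24 LD3_c53) (LK LD1_c3 LD2_c42 LD3_c1) Lrfl Lrfl
theorem f456344 : Led Lsl_ft (LP (LK LD1_c14 LD2_c1 LD3_c32)) = (LP (LK LD1_c7 LD2_c24 LD3_c53)) :=
  Lre_f IH (LK LD1_c14 LD2_c1 LD3_c32) (LK LD1_c7 LD2_c24 LD3_c53) Lrfl Lrfl
theorem f458728 : Led Lsl_et (LP (LK LD1_c14 LD2_c1 LD3_c20)) = (LP (LK LD1_c14 LD2_c1 LD3_c32)) :=
  Lgr Lrot69 (Lpe (f458727 IH) (Lpe (f458726 IH) (Lpr_ff (f458720 IH) (Lpe (f456303 IH) (Lpe (f456344 IH) (Lpn (LP (LK LD1_c14 LD2_c1 LD3_c32))))))))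
theorem f458730 : Led Lsl_ef (LP (LK LD1_c14 LD2_c1 LD3_c20)) = (LP (LK LD1_c14 LD2_c1 LD3_c32)) :=
  Lgr Lrot88 (Lpr_et (f458728 IH) (Lpn (LP (LK LD1_c14 LD2_c1 LD3_c32))))
theorem f474600 : Led Lsl_af (LP (LK LD1_c14 LD2_c1 LD3_c32)) = (LP (LK LD1_c22 LD2_c35 LD3_c20)) :=
  Lgr Lrot50 (Lpe (f458730 IH) (Lpe (f466875 IH) (Lpr_et (f474598 IH) (Lpn (LP (LK LD1_c22 LD2_c35 LD3_c20))))))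
theorem f474604 : Led Lsl_at (LP (LK LD1_c7 LD2_c24 LD3_c53)) = (LP (LK LD1_c13 LD2_c18 LD3_c60)) :=
  Lgr Lrot66 (Lpe (f456344 IH) (Lpr_af (f474600 IH) (Lpe (f474593 IH) (Lpn (LP (LK LD1_c13 LD2_c18 LD3_c60))))))
theorem f456277 : Led Lsl_bt (LP (LK LD1_c0 LD2_c50 LD3_c44)) = (LP (LK LD1_c1 LD2_c47 LD3_c58)) :=
  Lre_b IH (LK LD1_c0 LD2_c50 LD3_c44) (LK LD1_c1 LD2_c47 LD3_c58) Lrfl Lrfl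
theorem f456278 : Led Lsl_ct (LP (LK LD1_c1 LD2_c47 LD3_c58)) = (LP (LK LD1_c3 LD2_c42 LD3_c2)) :=
  Lre_c IH (LK LD1_c1 LD2_c47 LD3_c58) (LK LD1_c3 LD2_c42 LD3_c2) Lrfl Lrfl
theorem f456279 : Led Lsl_bf (LP (LK LD1_c3 LD2_c39 LD3_c53)) = (LP (LK LD1_c3 LD2_c42 LD3_c2)) :=
  Lgr Lrot90 (Lpr_ct (K28.f455952 IH) (Lpr_bt (K28.f455165 IH) (Lpr_ct (K24.f456275 IH) (Lpr_bt (f456277 IH) (Lpr_ct (f456278 IH) (Lpn (LP (LK LD1_c3 LD2_c42 LD3_c2))))))))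
theorem f456285 : Led Lsl_et (LP (LK LD1_c3 LD2_c39 LD3_c53)) = (LP (LK LD1_c1 LD2_c46 LD3_c53)) :=
  Lre_e IH (LK LD1_c3 LD2_c39 LD3_c53) (LK LD1_c1 LD2_c46 LD3_c53) Lrfl Lrfl
theorem f456286 : Led Lsl_et (LP (LK LD1_c1 LD2_c47 LD3_c57)) = (LP (LK LD1_c3 LD2_c42 LD3_c2)) :=
  Lre_e IH (LK LD1_c1 LD2_c47 LD3_c57) (LK LD1_c3 LD2_c42 LD3_c2) Lrfl Lrfl
theorem f456287 : Led Lsl_bt (LP (LK LD1_c1 LD2_c46 LD3_c53)) = (LP (LK LD1_c1 LD2_c47 LD3_c57)) :=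
  Lgr Lrot119 (Lpe (f456285 IH) (Lpr_bf (f456279 IH) (Lpe (f456286 IH) (Lpn (LP (LK LD1_c1 LD2_c47 LD3_c57))))))
theorem f456292 : Led Lsl_bf (LP (LK LD1_c3 LD2_c39 LD3_c52)) = (LP (LK LD1_c3 LD2_c42 LD3_c1)) :=
  Lgr Lrot93 (Lpr_dt (K28.f447647 IH) (Lpr_bt (f456287 IH) (Lpr_dt (f456291 IH) (Lpn (LP (LK LD1_c3 LD2_c42 LD3_c1))))))
theorem f456304 : Led Lsl_bt (LP (LK LD1_c7 LD2_c19 LD3_c59)) = (LP (LK LD1_c7 LD2_c24 LD3_c53)) :=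
  Lgr Lrot119 (Lpe (K28.f456302 IH) (Lpr_bf (f456292 IH) (Lpe (f456303 IH) (Lpn (LP (LK LD1_c7 LD2_c24 LD3_c53))))))
theorem f472886 : Led Lsl_at (LP (LK LD1_c13 LD2_c7 LD3_c12)) = (LP (LK LD1_c7 LD2_c19 LD3_c59)) :=
  Lgr Lrot100 (Lpr_af (K28.f472884 IH) (Lpn (LP (LK LD1_c7 LD2_c19 LD3_c59))))
theorem f473180 : Led Lsl_bt (LP (LK LD1_c22 LD2_c18 LD3_c58)) = (LP (LK LD1_c13 LD2_c7 LD3_c12)) :=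
  Lre_b IH (LK LD1_c22 LD2_c18 LD3_c58) (LK LD1_c13 LD2_c7 LD3_c12) Lrfl Lrfl
theorem f474613 : Led Lsl_bt (LP (LK LD1_c13 LD2_c18 LD3_c60)) = (LP (LK LD1_c22 LD2_c35 LD3_c15)) :=
  Lre_b IH (LK LD1_c13 LD2_c18 LD3_c60) (LK LD1_c22 LD2_c35 LD3_c15) Lrfl Lrfl
theorem f474614 : Led Lsl_af (LP (LK LD1_c22 LD2_c18 LD3_c58)) = (LP (LK LD1_c22 LD2_c35 LD3_c15)) :=
  Lgr Lrot36 (Lpr_bt (f473180 IH) (Lpr_at (f472886 IH) (Lpr_bt (f456304 IH) (Lpr_at (f474604 IH) (Lpr_bt (f474613 IH) (Lpn (LP (LK LD1_c22 LD2_c35 LD3_c15))))))))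
theorem f474633 : Led Lsl_et (LP (LK LD1_c22 LD2_c18 LD3_c58)) = (LP (LK LD1_c13 LD2_c7 LD3_c10)) :=
  Lre_e IH (LK LD1_c22 LD2_c18 LD3_c58) (LK LD1_c13 LD2_c7 LD3_c10) Lrfl Lrfl
theorem f474634 : Led Lsl_et (LP (LK LD1_c13 LD2_c18 LD3_c57)) = (LP (LK LD1_c22 LD2_c35 LD3_c15)) :=
  Lre_e IH (LK LD1_c13 LD2_c18 LD3_c57) (LK LD1_c22 LD2_c35 LD3_c15) Lrfl Lrfl
theorem f474635 : Led Lsl_at (LP (LK LD1_c13 LD2_c7 LD3_c10)) = (LP (LK LD1_c13 LD2_c18 LD3_c57)) :=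
  Lgr Lrot80 (Lpe (f474633 IH) (Lpr_af (f474614 IH) (Lpe (f474634 IH) (Lpn (LP (LK LD1_c13 LD2_c18 LD3_c57))))))
theorem f472862 : Led Lsl_dt (LP (LK LD1_c6 LD2_c54 LD3_c16)) = (LP (LK LD1_c13 LD2_c7 LD3_c10)) :=
  Lre_d IH (LK LD1_c6 LD2_c54 LD3_c16) (LK LD1_c13 LD2_c7 LD3_c10) Lrfl Lrfl
theorem f474646 : Led Lsl_dt (LP (LK LD1_c13 LD2_c18 LD3_c57)) = (LP (LK LD1_c7 LD2_c1 LD3_c10)) :=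
  Lre_d IH (LK LD1_c13 LD2_c18 LD3_c57) (LK LD1_c7 LD2_c1 LD3_c10) Lrfl Lrfl
theorem f474647 : Led Lsl_af (LP (LK LD1_c6 LD2_c54 LD3_c16)) = (LP (LK LD1_c7 LD2_c1 LD3_c10)) :=
  Lgr Lrot117 (Lpr_dt (f472862 IH) (Lpr_at (f474635 IH) (Lpr_dt (f474646 IH) (Lpn (LP (LK LD1_c7 LD2_c1 LD3_c10))))))
theorem f472866 : Led Lsl_et (LP (LK LD1_c6 LD2_c54 LD3_c16)) = (LP (LK LD1_c13 LD2_c7 LD3_c11)) :=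
  Lre_e IH (LK LD1_c6 LD2_c54 LD3_c16) (LK LD1_c13 LD2_c7 LD3_c11) Lrfl Lrfl
theorem f474656 : Led Lsl_et (LP (LK LD1_c13 LD2_c18 LD3_c58)) = (LP (LK LD1_c7 LD2_c1 LD3_c10)) :=
  Lre_e IH (LK LD1_c13 LD2_c18 LD3_c58) (LK LD1_c7 LD2_c1 LD3_c10) Lrfl Lrfl
theorem f474657 : Led Lsl_at (LP (LK LD1_c13 LD2_c7 LD3_c11)) = (LP (LK LD1_c13 LD2_c18 LD3_c58)) :=
  Lgr Lrot80 (Lpe (f472866 IH) (Lpr_af (f474647 IH) (Lpe (f474656 IH) (Lpn (LP (LK LD1_c13 LD2_c18 LD3_c58))))))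
theorem f463928 : Led Lsl_bt (LP (LK LD1_c6 LD2_c54 LD3_c18)) = (LP (LK LD1_c13 LD2_c7 LD3_c11)) :=
  Lre_b IH (LK LD1_c6 LD2_c54 LD3_c18) (LK LD1_c13 LD2_c7 LD3_c11) Lrfl Lrfl
theorem f474661 : Led Lsl_bt (LP (LK LD1_c13 LD2_c18 LD3_c58)) = (LP (LK LD1_c7 LD2_c1 LD3_c12)) :=
  Lre_b IH (LK LD1_c13 LD2_c18 LD3_c58) (LK LD1_c7 LD2_c1 LD3_c12) Lrfl Lrfl
theorem f474662 : Led Lsl_af (LP (LK LD1_c3 LD2_c42 LD3_c2)) = (LP (LK LD1_c7 LD2_c1 LD3_c12)) :=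
  Lgr Lrot36 (Lpe (f456279 IH) (Lpe (K28.f472941 IH) (Lpr_bt (f463928 IH) (Lpr_at (f474657 IH) (Lpr_bt (f474661 IH) (Lpn (LP (LK LD1_c7 LD2_c1 LD3_c12))))))))
theorem f474672 : Led Lsl_at (LP (LK LD1_c3 LD2_c42 LD3_c2)) = (LP (LK LD1_c7 LD2_c1 LD3_c12)) :=
  Lgr Lrot100 (Lpr_af (f474662 IH) (Lpn (LP (LK LD1_c7 LD2_c1 LD3_c12))))
theorem f474679 : Led Lsl_et (LP (LK LD1_c7 LD2_c1 LD3_c12)) = (LP (LK LD1_c3 LD2_c29 LD3_c47)) :=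
  Lre_e IH (LK LD1_c7 LD2_c1 LD3_c12) (LK LD1_c3 LD2_c29 LD3_c47) Lrfl Lrfl
theorem f474680 : Led Lsl_af (LP (LK LD1_c1 LD2_c47 LD3_c57)) = (LP (LK LD1_c3 LD2_c29 LD3_c47)) :=
  Lgr Lrot50 (Lpr_et (f456286 IH) (Lpr_at (f474672 IH) (Lpr_et (f474679 IH) (Lpn (LP (LK LD1_c3 LD2_c29 LD3_c47))))))
theorem f474685 : Led Lsl_ft (LP (LK LD1_c1 LD2_c50 LD3_c11)) = (LP (LK LD1_c3 LD2_c29 LD3_c47)) :=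
  Lgr Lrot101 (Lpr_af (f466843 IH) (Lpr_ff (f458713 IH) (Lpr_af (f474680 IH) (Lpn (LP (LK LD1_c3 LD2_c29 LD3_c47))))))
theorem f478469 : Led Lsl_gf (LP (LK LD1_c3 LD2_c30 LD3_c2)) = (LP (LK LD1_c1 LD2_c50 LD3_c11)) :=
  Lgr Lrot47 (Lpr_gt (f478298 IH) (Lpr_af (f474680 IH) (Lpe (f474685 IH) (Lpn (LP (LK LD1_c1 LD2_c50 LD3_c11))))))
theorem f456422 : Led Lsl_gt (LP (LK LD1_c3 LD2_c42 LD3_c1)) = (LP (LK LD1_c7 LD2_c24 LD3_c51)) :=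
  Lre_g IH (LK LD1_c3 LD2_c42 LD3_c1) (LK LD1_c7 LD2_c24 LD3_c51) Lrfl Lrfl
theorem f466856 : Led Lsl_gf (LP (LK LD1_c3 LD2_c46 LD3_c16)) = (LP (LK LD1_c7 LD2_c24 LD3_c51)) :=
  Lgr Lrot76 (Lpr_af (f466845 IH) (Lpr_ff (f458720 IH) (Lpr_gt (f456422 IH) (Lpn (LP (LK LD1_c7 LD2_c24 LD3_c51))))))
theorem f466858 : Led Lsl_ct (LP (LK LD1_c14 LD2_c1 LD3_c26)) = (LP (LK LD1_c7 LD2_c24 LD3_c51)) :=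
  Lre_c IH (LK LD1_c14 LD2_c1 LD3_c26) (LK LD1_c7 LD2_c24 LD3_c51) Lrfl Lrfl
theorem f482944 : Led Lsl_gf (LP (LK LD1_c13 LD2_c18 LD3_c40)) = (LP (LK LD1_c14 LD2_c1 LD3_c26)) :=
  Lgr Lrot144 (Lpr_dt (f474563 IH) (Lpr_gt (f482942 IH) (Lpe (f115973 IH) (Lpe (K4.f115964 IH) (Lpe (K4.f115963 IH) (Lpr_gf (f478469 IH) (Lpe (f459570 IH) (Lpr_gf (f466856 IH) (Lpe (f466858 IH) (Lpn (LP (LK LD1_c14 LD2_c1 LD3_c26))))))))))))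
theorem f464156 : Led Lsl_ct (LP (LK LD1_c13 LD2_c18 LD3_c40)) = (LP (LK LD1_c7 LD2_c1 LD3_c1)) :=
  Lre_c IH (LK LD1_c13 LD2_c18 LD3_c40) (LK LD1_c7 LD2_c1 LD3_c1) Lrfl Lrfl
theorem f474422 : Led Lsl_ct (LP (LK LD1_c7 LD2_c33 LD3_c12)) = (LP (LK LD1_c3 LD2_c46 LD3_c6)) :=
  Lre_c IH (LK LD1_c7 LD2_c33 LD3_c12) (LK LD1_c3 LD2_c46 LD3_c6) Lrfl Lrfl
theorem f474553 : Led Lsl_ff (LP (LK LD1_c3 LD2_c46 LD3_c16)) = (LP (LK LD1_c7 LD2_c1 LD3_c11)) :=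
  Lgr Lrot23 (Lpr_ct (f466850 IH) (Lpr_ft (f474545 IH) (Lpr_ct (f440743 IH) (Lpn (LP (LK LD1_c7 LD2_c1 LD3_c11))))))
theorem f466847 : Led Lsl_at (LP (LK LD1_c3 LD2_c46 LD3_c16)) = (LP (LK LD1_c3 LD2_c41 LD3_c60)) :=
  Lgr Lrot100 (Lpr_af (f466845 IH) (Lpn (LP (LK LD1_c3 LD2_c41 LD3_c60))))
theorem f436803 : Led Lsl_gt (LP (LK LD1_c7 LD2_c24 LD3_c44)) = (LP (LK LD1_c3 LD2_c41 LD3_c60)) :=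
  Lre_g IH (LK LD1_c7 LD2_c24 LD3_c44) (LK LD1_c3 LD2_c41 LD3_c60) Lrfl Lrfl
theorem f474735 : Led Lsl_gf (LP (LK LD1_c7 LD2_c24 LD3_c44)) = (LP (LK LD1_c7 LD2_c1 LD3_c11)) :=
  Lgr Lrot47 (Lpr_gt (f436803 IH) (Lpe (f466847 IH) (Lpr_ff (f474553 IH) (Lpn (LP (LK LD1_c7 LD2_c1 LD3_c11))))))
theorem f474737 : Led Lsl_ct (LP (LK LD1_c7 LD2_c24 LD3_c44)) = (LP (LK LD1_c14 LD2_c1 LD3_c11)) :=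
  Lre_c IH (LK LD1_c7 LD2_c24 LD3_c44) (LK LD1_c14 LD2_c1 LD3_c11) Lrfl Lrfl
theorem f474511 : Led Lsl_df (LP (LK LD1_c14 LD2_c1 LD3_c13)) = (LP (LK LD1_c7 LD2_c48 LD3_c21)) :=
  Lgr Lrot38 (Lpr_dt (f474509 IH) (Lpn (LP (LK LD1_c7 LD2_c48 LD3_c21))))
theorem f456425 : Led Lsl_ct (LP (LK LD1_c7 LD2_c24 LD3_c51)) = (LP (LK LD1_c14 LD2_c1 LD3_c26)) :=
  Lre_c IH (LK LD1_c7 LD2_c24 LD3_c51) (LK LD1_c14 LD2_c1 LD3_c26) Lrfl Lrfl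
theorem f474738 : Led Lsl_dt (LP (LK LD1_c14 LD2_c1 LD3_c11)) = (LP (LK LD1_c14 LD2_c1 LD3_c26)) :=
  Lgr Lrot27 (Lpe (f474737 IH) (Lpr_gf (f474735 IH) (Lpe (f440743 IH) (Lpe (f474529 IH) (Lpr_df (f474511 IH) (Lpr_gt (f466946 IH) (Lpr_ct (f456298 IH) (Lpr_gt (f456422 IH) (Lpr_ct (f456425 IH) (Lpn (LP (LK LD1_c14 LD2_c1 LD3_c26))))))))))))
theorem f483012 : Led Lsl_gf (LP (LK LD1_c7 LD2_c33 LD3_c12)) = (LP (LK LD1_c14 LD2_c1 LD3_c11)) :=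
  Lgr Lrot147 (Lpr_ct (f474422 IH) (Lpr_gt (f88003 IH) (Lpr_ct (f441415 IH) (Lpe (f474509 IH) (Lpr_cf (f474518 IH) (Lpe (f464153 IH) (Lpe (f464156 IH) (Lpr_gf (f482944 IH) (Lpe (f474738 IH) (Lpn (LP (LK LD1_c14 LD2_c1 LD3_c11))))))))))))
theorem f87954 : Led Lsl_dt (LP (LK LD1_c3 LD2_c46 LD3_c6)) = (LP (LK LD1_c1 LD2_c50 LD3_c7)) :=
  Lre_d IH (LK LD1_c3 LD2_c46 LD3_c6) (LK LD1_c1 LD2_c50 LD3_c7) Lrfl Lrfl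
theorem f440742 : Led Lsl_dt (LP (LK LD1_c3 LD2_c29 LD3_c47)) = (LP (LK LD1_c7 LD2_c1 LD3_c11)) :=
  Lre_d IH (LK LD1_c3 LD2_c29 LD3_c47) (LK LD1_c7 LD2_c1 LD3_c11) Lrfl Lrfl
theorem f94286 : Led Lsl_bt (LP (LK LD1_c1 LD2_c39 LD3_c21)) = (LP (LK LD1_c0 LD2_c46 LD3_c15)) :=
  Lre_b IH (LK LD1_c1 LD2_c39 LD3_c21) (LK LD1_c0 LD2_c46 LD3_c15) Lrfl Lrfl
theorem f115779 : Led Lsl_ft (LP (LK LD1_c1 LD2_c41 LD3_c42)) = (LP (LK LD1_c3 LD2_c30 LD3_c2)) :=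
  Lre_f IH (LK LD1_c1 LD2_c41 LD3_c42) (LK LD1_c3 LD2_c30 LD3_c2) Lrfl Lrfl
theorem f115966 : Led Lsl_ct (LP (LK LD1_c1 LD2_c39 LD3_c21)) = (LP (LK LD1_c1 LD2_c41 LD3_c42)) :=
  Lgr Lrot40 (Lpe (K4.f94330 IH) (Lpr_cf (K4.f115957 IH) (Lpe (f115779 IH) (Lpn (LP (LK LD1_c1 LD2_c41 LD3_c42))))))
def v585 : LQ := Led Lsl_gf (LP (LK LD1_c0 LD2_c46 LD3_c15))
theorem f455034 : Led Lsl_gf (LP (LK LD1_c0 LD2_c46 LD3_c15)) = v585 :=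
  Lrfl
theorem f90260 : Led Lsl_et (LP (LK LD1_c0 LD2_c24 LD3_c13)) = (LP (LK LD1_c0 LD2_c53 LD3_c55)) :=
  Lre_e IH (LK LD1_c0 LD2_c24 LD3_c13) (LK LD1_c0 LD2_c53 LD3_c55) Lrfl Lrfl
theorem f467243 : Led Lsl_ft (LP (LK LD1_c1 LD2_c51 LD3_c8)) = (LP (LK LD1_c3 LD2_c35 LD3_c0)) :=
  Lgr Lrot48 (Lpr_ff (f467232 IH) (Lpn (LP (LK LD1_c3 LD2_c35 LD3_c0))))
theorem f90041 : Led Lsl_at (LP (LK LD1_c3 LD2_c48 LD3_c10)) = (LP (LK LD1_c1 LD2_c51 LD3_c11)) :=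
  Lre_a IH (LK LD1_c3 LD2_c48 LD3_c10) (LK LD1_c1 LD2_c51 LD3_c11) Lrfl Lrfl
theorem f90035 : Led Lsl_ft (LP (LK LD1_c1 LD2_c40 LD3_c10)) = (LP (LK LD1_c3 LD2_c27 LD3_c8)) :=
  Lre_f IH (LK LD1_c1 LD2_c40 LD3_c10) (LK LD1_c3 LD2_c27 LD3_c8) Lrfl Lrfl
theorem f90036 : Led Lsl_ct (LP (LK LD1_c3 LD2_c27 LD3_c8)) = (LP (LK LD1_c3 LD2_c48 LD3_c10)) :=
  Lgr Lrot40 (Lpe (f90035 IH) (Lpr_cf (K2.f89860 IH) (Lpe (K28.f88635 IH) (Lpn (LP (LK LD1_c3 LD2_c48 LD3_c10))))))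
theorem f467224 : Led Lsl_af (LP (LK LD1_c3 LD2_c27 LD3_c8)) = (LP (LK LD1_c3 LD2_c35 LD3_c0)) :=
  Lgr Lrot68 (Lpr_ct (f90036 IH) (Lpr_at (f90041 IH) (Lpr_ct (f466689 IH) (Lpn (LP (LK LD1_c3 LD2_c35 LD3_c0))))))
theorem f467909 : Led Lsl_gt (LP (LK LD1_c1 LD2_c44 LD3_c11)) = (LP (LK LD1_c3 LD2_c27 LD3_c8)) :=
  Lgr Lrot46 (Lpr_gf (K28.f467907 IH) (Lpr_ft (f467243 IH) (Lpe (f467224 IH) (Lpn (LP (LK LD1_c3 LD2_c27 LD3_c8))))))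
theorem f90043 : Led Lsl_cf (LP (LK LD1_c3 LD2_c27 LD3_c8)) = (LP (LK LD1_c3 LD2_c48 LD3_c10)) :=
  Lgr Lrot11 (Lpr_ct (f90036 IH) (Lpn (LP (LK LD1_c3 LD2_c48 LD3_c10))))
theorem f88641 : Led Lsl_ft (LP (LK LD1_c1 LD2_c51 LD3_c5)) = (LP (LK LD1_c3 LD2_c48 LD3_c10)) :=
  Lre_f IH (LK LD1_c1 LD2_c51 LD3_c5) (LK LD1_c3 LD2_c48 LD3_c10) Lrfl Lrfl
theorem f467424 : Led Lsl_bf (LP (LK LD1_c7 LD2_c8 LD3_c36)) = (LP (LK LD1_c3 LD2_c48 LD3_c10)) :=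
  Lgr Lrot61 (Lpr_ft (K28.f467421 IH) (Lpe (K2.f88632 IH) (Lpr_ft (f88641 IH) (Lpn (LP (LK LD1_c3 LD2_c48 LD3_c10))))))
theorem f479128 : Led Lsl_gt (LP (LK LD1_c7 LD2_c8 LD3_c36)) = (LP (LK LD1_c3 LD2_c33 LD3_c54)) :=
  Lgr Lrot82 (Lpr_bf (f467424 IH) (Lpe (f90043 IH) (Lpe (f467909 IH) (Lpe (K28.f10168 IH) (Lpr_bt (K28.f10163 IH) (Lpe (K24.f5922 IH) (Lpe (K24.f5908 IH) (Lpr_ct (K24.f6006 IH) (Lpe (K24.f6071 IH) (Lpe (K24.f10836 IH) (Lpn (LP (LK LD1_c3 LD2_c33 LD3_c54)))))))))))))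
theorem f479130 : Led Lsl_gf (LP (LK LD1_c1 LD2_c50 LD3_c35)) = (LP (LK LD1_c3 LD2_c33 LD3_c54)) :=
  Lgr Lrot76 (Lpr_af (K2.f88626 IH) (Lpe (K28.f467421 IH) (Lpr_gt (f479128 IH) (Lpn (LP (LK LD1_c3 LD2_c33 LD3_c54))))))
theorem f456027 : Led Lsl_bt (LP (LK LD1_c1 LD2_c53 LD3_c38)) = (LP (LK LD1_c3 LD2_c33 LD3_c54)) :=
  Lgr Lrot127 (Lpr_bf (K24.f456011 IH) (Lpn (LP (LK LD1_c3 LD2_c33 LD3_c54))))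
theorem f123372 : Led Lsl_ct (LP (LK LD1_c1 LD2_c53 LD3_c38)) = (LP (LK LD1_c3 LD2_c53 LD3_c61)) :=
  Lre_c IH (LK LD1_c1 LD2_c53 LD3_c38) (LK LD1_c3 LD2_c53 LD3_c61) Lrfl Lrfl
theorem f481707 : Led Lsl_gt (LP (LK LD1_c7 LD2_c20 LD3_c17)) = (LP (LK LD1_c3 LD2_c53 LD3_c61)) :=
  Lgr Lrot65 (Lpr_cf (K5.f96351 IH) (Lpr_bt (K7.f84945 IH) (Lpr_gf (f440835 IH) (Lpr_bf (f481703 IH) (Lpr_ct (K28.f10827 IH) (Lpr_gf (f467005 IH) (Lpe (f88490 IH) (Lpr_gf (f479130 IH) (Lpe (f456027 IH) (Lpr_ct (f123372 IH) (Lpn (LP (LK LD1_c3 LD2_c53 LD3_c61)))))))))))))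
theorem f84949 : Led Lsl_ct (LP (LK LD1_c7 LD2_c41 LD3_c7)) = (LP (LK LD1_c3 LD2_c50 LD3_c10)) :=
  Lre_c IH (LK LD1_c7 LD2_c41 LD3_c7) (LK LD1_c3 LD2_c50 LD3_c10) Lrfl Lrfl
theorem f96372 : Led Lsl_gt (LP (LK LD1_c7 LD2_c40 LD3_c60)) = (LP (LK LD1_c3 LD2_c50 LD3_c10)) :=
  Lre_g IH (LK LD1_c7 LD2_c40 LD3_c60) (LK LD1_c3 LD2_c50 LD3_c10) Lrfl Lrfl
theorem f96373 : Led Lsl_ct (LP (LK LD1_c14 LD2_c28 LD3_c60)) = (LP (LK LD1_c7 LD2_c40 LD3_c60)) :=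
  Lre_c IH (LK LD1_c14 LD2_c28 LD3_c60) (LK LD1_c7 LD2_c40 LD3_c60) Lrfl Lrfl
theorem f122820 : Led Lsl_ct (LP (LK LD1_c3 LD2_c53 LD3_c61)) = (LP (LK LD1_c1 LD2_c53 LD3_c38)) :=
  Lre_c IH (LK LD1_c3 LD2_c53 LD3_c61) (LK LD1_c1 LD2_c53 LD3_c38) Lrfl Lrfl
theorem f142299 : Led Lsl_ct (LP (LK LD1_c1 LD2_c53 LD3_c36)) = (LP (LK LD1_c0 LD2_c53 LD3_c24)) :=
  Lre_c IH (LK LD1_c1 LD2_c53 LD3_c36) (LK LD1_c0 LD2_c53 LD3_c24) Lrfl Lrfl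
theorem f122761 : Led Lsl_bt (LP (LK LD1_c1 LD2_c53 LD3_c36)) = (LP (LK LD1_c3 LD2_c53 LD3_c55)) :=
  Lre_b IH (LK LD1_c1 LD2_c53 LD3_c36) (LK LD1_c3 LD2_c53 LD3_c55) Lrfl Lrfl
theorem f123180 : Led Lsl_gt (LP (LK LD1_c3 LD2_c53 LD3_c55)) = (LP (LK LD1_c7 LD2_c49 LD3_c23)) :=
  Lre_g IH (LK LD1_c3 LD2_c53 LD3_c55) (LK LD1_c7 LD2_c49 LD3_c23) Lrfl Lrfl
theorem f481797 : Led Lsl_bt (LP (LK LD1_c14 LD2_c28 LD3_c60)) = (LP (LK LD1_c7 LD2_c49 LD3_c23)) :=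
  Lgr Lrot92 (Lpr_ct (f96373 IH) (Lpr_gt (f96372 IH) (Lpe (f84949 IH) (Lpe (K7.f96360 IH) (Lpr_gt (f481707 IH) (Lpr_ct (f122820 IH) (Lpr_gt (K24.f134853 IH) (Lpe (f142299 IH) (Lpr_bt (f122761 IH) (Lpr_gt (f123180 IH) (Lpn (LP (LK LD1_c7 LD2_c49 LD3_c23)))))))))))))
theorem f117155 : Led Lsl_gt (LP (LK LD1_c3 LD2_c50 LD3_c1)) = (LP (LK LD1_c7 LD2_c40 LD3_c60)) :=
  Lre_g IH (LK LD1_c3 LD2_c50 LD3_c1) (LK LD1_c7 LD2_c40 LD3_c60) Lrfl Lrfl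
theorem f123145 : Led Lsl_ft (LP (LK LD1_c7 LD2_c51 LD3_c18)) = (LP (LK LD1_c14 LD2_c49 LD3_c4)) :=
  Lre_f IH (LK LD1_c7 LD2_c51 LD3_c18) (LK LD1_c14 LD2_c49 LD3_c4) Lrfl Lrfl
theorem f123146 : Led Lsl_ft (LP (LK LD1_c14 LD2_c45 LD3_c48)) = (LP (LK LD1_c7 LD2_c49 LD3_c25)) :=
  Lre_f IH (LK LD1_c14 LD2_c45 LD3_c48) (LK LD1_c7 LD2_c49 LD3_c25) Lrfl Lrfl
theorem f123147 : Led Lsl_at (LP (LK LD1_c14 LD2_c49 LD3_c4)) = (LP (LK LD1_c14 LD2_c45 LD3_c48)) :=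
  Lgr Lrot66 (Lpe (f123145 IH) (Lpr_af (K28.f123117 IH) (Lpe (f123146 IH) (Lpn (LP (LK LD1_c14 LD2_c45 LD3_c48))))))
theorem f123163 : Led Lsl_dt (LP (LK LD1_c7 LD2_c51 LD3_c19)) = (LP (LK LD1_c14 LD2_c49 LD3_c4)) :=
  Lre_d IH (LK LD1_c7 LD2_c51 LD3_c19) (LK LD1_c14 LD2_c49 LD3_c4) Lrfl Lrfl
theorem f123154 : Led Lsl_dt (LP (LK LD1_c14 LD2_c45 LD3_c48)) = (LP (LK LD1_c7 LD2_c49 LD3_c26)) :=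
  Lre_d IH (LK LD1_c14 LD2_c45 LD3_c48) (LK LD1_c7 LD2_c49 LD3_c26) Lrfl Lrfl
theorem f123164 : Led Lsl_af (LP (LK LD1_c7 LD2_c51 LD3_c19)) = (LP (LK LD1_c7 LD2_c49 LD3_c26)) :=
  Lgr Lrot117 (Lpr_dt (f123163 IH) (Lpr_at (f123147 IH) (Lpr_dt (f123154 IH) (Lpn (LP (LK LD1_c7 LD2_c49 LD3_c26))))))
theorem f123179 : Led Lsl_ft (LP (LK LD1_c3 LD2_c53 LD3_c55)) = (LP (LK LD1_c7 LD2_c49 LD3_c26)) :=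
  Lre_f IH (LK LD1_c3 LD2_c53 LD3_c55) (LK LD1_c7 LD2_c49 LD3_c26) Lrfl Lrfl
theorem f123181 : Led Lsl_gf (LP (LK LD1_c7 LD2_c51 LD3_c19)) = (LP (LK LD1_c7 LD2_c49 LD3_c23)) :=
  Lgr Lrot76 (Lpr_af (f123164 IH) (Lpe (f123179 IH) (Lpr_gt (f123180 IH) (Lpn (LP (LK LD1_c7 LD2_c49 LD3_c23))))))
theorem f122795 : Led Lsl_bt (LP (LK LD1_c3 LD2_c54 LD3_c53)) = (LP (LK LD1_c7 LD2_c51 LD3_c19)) :=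
  Lre_b IH (LK LD1_c3 LD2_c54 LD3_c53) (LK LD1_c7 LD2_c51 LD3_c19) Lrfl Lrfl
theorem f123191 : Led Lsl_ct (LP (LK LD1_c3 LD2_c54 LD3_c53)) = (LP (LK LD1_c1 LD2_c54 LD3_c4)) :=
  Lre_c IH (LK LD1_c3 LD2_c54 LD3_c53) (LK LD1_c1 LD2_c54 LD3_c4) Lrfl Lrfl
theorem f123192 : Led Lsl_gt (LP (LK LD1_c1 LD2_c54 LD3_c4)) = (LP (LK LD1_c0 LD2_c53 LD3_c43)) :=
  Lre_g IH (LK LD1_c1 LD2_c54 LD3_c4) (LK LD1_c0 LD2_c53 LD3_c43) Lrfl Lrfl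
theorem f122791 : Led Lsl_ct (LP (LK LD1_c1 LD2_c54 LD3_c18)) = (LP (LK LD1_c0 LD2_c53 LD3_c43)) :=
  Lre_c IH (LK LD1_c1 LD2_c54 LD3_c18) (LK LD1_c0 LD2_c53 LD3_c43) Lrfl Lrfl
theorem f122793 : Led Lsl_bt (LP (LK LD1_c1 LD2_c54 LD3_c18)) = (LP (LK LD1_c3 LD2_c55 LD3_c25)) :=
  Lre_b IH (LK LD1_c1 LD2_c54 LD3_c18) (LK LD1_c3 LD2_c55 LD3_c25) Lrfl Lrfl
theorem f481805 : Led Lsl_gf (LP (LK LD1_c7 LD2_c25 LD3_c49)) = (LP (LK LD1_c3 LD2_c55 LD3_c25)) :=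
  Lgr Lrot181 (Lpr_ct (K8.f142559 IH) (Lpr_gt (f117155 IH) (Lpe (f96373 IH) (Lpr_bt (f481797 IH) (Lpe (f123181 IH) (Lpe (f122795 IH) (Lpr_ct (f123191 IH) (Lpr_gt (f123192 IH) (Lpe (f122791 IH) (Lpr_bt (f122793 IH) (Lpn (LP (LK LD1_c3 LD2_c55 LD3_c25)))))))))))))
theorem f117154 : Led Lsl_et (LP (LK LD1_c1 LD2_c51 LD3_c59)) = (LP (LK LD1_c3 LD2_c50 LD3_c1)) :=
  Lre_e IH (LK LD1_c1 LD2_c51 LD3_c59) (LK LD1_c3 LD2_c50 LD3_c1) Lrfl Lrfl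
theorem f142528 : Led Lsl_cf (LP (LK LD1_c7 LD2_c25 LD3_c49)) = (LP (LK LD1_c3 LD2_c50 LD3_c1)) :=
  Lgr Lrot39 (Lpr_et (K8.f142527 IH) (Lpr_ct (K6.f142521 IH) (Lpr_et (f117154 IH) (Lpn (LP (LK LD1_c3 LD2_c50 LD3_c1))))))
theorem f15229 : Led Lsl_gt (LP (LK LD1_c7 LD2_c35 LD3_c24)) = (LP (LK LD1_c14 LD2_c18 LD3_c34)) :=
  Lre_g IH (LK LD1_c7 LD2_c35 LD3_c24) (LK LD1_c14 LD2_c18 LD3_c34) Lrfl Lrfl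
theorem f476791 : Led Lsl_ff (LP (LK LD1_c1 LD2_c54 LD3_c28)) = (LP (LK LD1_c3 LD2_c37 LD3_c58)) :=
  Lgr Lrot23 (Lpr_ct (K5.f12217 IH) (Lpr_ft (f476787 IH) (Lpr_ct (f450899 IH) (Lpn (LP (LK LD1_c3 LD2_c37 LD3_c58))))))
theorem f12225 : Led Lsl_at (LP (LK LD1_c7 LD2_c41 LD3_c60)) = (LP (LK LD1_c3 LD2_c50 LD3_c31)) :=
  Lre_a IH (LK LD1_c7 LD2_c41 LD3_c60) (LK LD1_c3 LD2_c50 LD3_c31) Lrfl Lrfl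
theorem f136542 : Led Lsl_at (LP (LK LD1_c3 LD2_c26 LD3_c50)) = (LP (LK LD1_c6 LD2_c55 LD3_c23)) :=
  Lre_a IH (LK LD1_c3 LD2_c26 LD3_c50) (LK LD1_c6 LD2_c55 LD3_c23) Lrfl Lrfl
theorem f136543 : Led Lsl_bt (LP (LK LD1_c1 LD2_c40 LD3_c4)) = (LP (LK LD1_c3 LD2_c26 LD3_c50)) :=
  Lre_b IH (LK LD1_c1 LD2_c40 LD3_c4) (LK LD1_c3 LD2_c26 LD3_c50) Lrfl Lrfl
theorem f136544 : Led Lsl_at (LP (LK LD1_c1 LD2_c54 LD3_c28)) = (LP (LK LD1_c1 LD2_c40 LD3_c4)) :=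
  Lgr Lrot67 (Lpe (K5.f12218 IH) (Lpe (f12225 IH) (Lpr_bf (K8.f136535 IH) (Lpe (f136542 IH) (Lpe (f136543 IH) (Lpn (LP (LK LD1_c1 LD2_c40 LD3_c4))))))))
theorem f102360 : Led Lsl_gt (LP (LK LD1_c3 LD2_c26 LD3_c53)) = (LP (LK LD1_c1 LD2_c40 LD3_c4)) :=
  Lre_g IH (LK LD1_c3 LD2_c26 LD3_c53) (LK LD1_c1 LD2_c40 LD3_c4) Lrfl Lrfl
theorem f477000 : Led Lsl_gf (LP (LK LD1_c3 LD2_c26 LD3_c53)) = (LP (LK LD1_c3 LD2_c37 LD3_c58)) :=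
  Lgr Lrot47 (Lpr_gt (f102360 IH) (Lpe (f136544 IH) (Lpr_ff (f476791 IH) (Lpn (LP (LK LD1_c3 LD2_c37 LD3_c58))))))
theorem f84791 : Led Lsl_gt (LP (LK LD1_c0 LD2_c53 LD3_c43)) = (LP (LK LD1_c0 LD2_c24 LD3_c8)) :=
  Lre_g IH (LK LD1_c0 LD2_c53 LD3_c43) (LK LD1_c0 LD2_c24 LD3_c8) Lrfl Lrfl
theorem f437651 : Led Lsl_bt (LP (LK LD1_c1 LD2_c54 LD3_c17)) = (LP (LK LD1_c0 LD2_c53 LD3_c43)) :=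
  Lre_b IH (LK LD1_c1 LD2_c54 LD3_c17) (LK LD1_c0 LD2_c53 LD3_c43) Lrfl Lrfl
theorem f477002 : Led Lsl_cf (LP (LK LD1_c3 LD2_c26 LD3_c53)) = (LP (LK LD1_c1 LD2_c54 LD3_c17)) :=
  Lgr Lrot163 (Lpr_gf (f477000 IH) (Lpe (f450899 IH) (Lpe (f450898 IH) (Lpe (f450890 IH) (Lpr_ct (K24.f450896 IH) (Lpqs (K24.f455968 IH) (Lpe (K24.f123401 IH) (Lpr_cf (K24.f12187 IH) (Lpr_bt (K24.f122767 IH) (Lpe (f84791 IH) (Lpe (f437651 IH) (Lpn (LP (LK LD1_c1 LD2_c54 LD3_c17))))))))))))))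
theorem f477006 : Led Lsl_bt (LP (LK LD1_c3 LD2_c26 LD3_c53)) = (LP (LK LD1_c6 LD2_c55 LD3_c35)) :=
  Lre_b IH (LK LD1_c3 LD2_c26 LD3_c53) (LK LD1_c6 LD2_c55 LD3_c35) Lrfl Lrfl
theorem f463684 : Led Lsl_bt (LP (LK LD1_c0 LD2_c53 LD3_c43)) = (LP (LK LD1_c1 LD2_c54 LD3_c17)) :=
  Lre_b IH (LK LD1_c0 LD2_c53 LD3_c43) (LK LD1_c1 LD2_c54 LD3_c17) Lrfl Lrfl
theorem f463683 : Led Lsl_bt (LP (LK LD1_c3 LD2_c55 LD3_c25)) = (LP (LK LD1_c1 LD2_c54 LD3_c18)) :=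
  Lre_b IH (LK LD1_c3 LD2_c55 LD3_c25) (LK LD1_c1 LD2_c54 LD3_c18) Lrfl Lrfl
theorem f477007 : Led Lsl_ct (LP (LK LD1_c6 LD2_c55 LD3_c35)) = (LP (LK LD1_c3 LD2_c55 LD3_c25)) :=
  Lgr Lrot83 (Lpe (f477006 IH) (Lpr_cf (f477002 IH) (Lpe (f463684 IH) (Lpe (f122791 IH) (Lpe (f463683 IH) (Lpn (LP (LK LD1_c3 LD2_c55 LD3_c25))))))))
theorem f455111 : Led Lsl_bt (LP (LK LD1_c6 LD2_c55 LD3_c35)) = (LP (LK LD1_c3 LD2_c26 LD3_c53)) :=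
  Lre_b IH (LK LD1_c6 LD2_c55 LD3_c35) (LK LD1_c3 LD2_c26 LD3_c53) Lrfl Lrfl
theorem f15117 : Led Lsl_bt (LP (LK LD1_c1 LD2_c39 LD3_c60)) = (LP (LK LD1_c3 LD2_c26 LD3_c23)) :=
  Lre_b IH (LK LD1_c1 LD2_c39 LD3_c60) (LK LD1_c3 LD2_c26 LD3_c23) Lrfl Lrfl
theorem f15118 : Led Lsl_ct (LP (LK LD1_c3 LD2_c26 LD3_c36)) = (LP (LK LD1_c1 LD2_c39 LD3_c60)) :=
  Lre_c IH (LK LD1_c3 LD2_c26 LD3_c36) (LK LD1_c1 LD2_c39 LD3_c60) Lrfl Lrfl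
theorem f15119 : Led Lsl_bt (LP (LK LD1_c6 LD2_c54 LD3_c52)) = (LP (LK LD1_c3 LD2_c26 LD3_c36)) :=
  Lre_b IH (LK LD1_c6 LD2_c54 LD3_c52) (LK LD1_c3 LD2_c26 LD3_c36) Lrfl Lrfl
theorem f15121 : Led Lsl_cf (LP (LK LD1_c6 LD2_c54 LD3_c52)) = (LP (LK LD1_c7 LD2_c35 LD3_c28)) :=
  Lgr Lrot97 (Lpr_bt (f15119 IH) (Lpr_ct (f15118 IH) (Lpr_bt (f15117 IH) (Lpr_ct (K4.f15103 IH) (Lpr_bt (K4.f15120 IH) (Lpn (LP (LK LD1_c7 LD2_c35 LD3_c28))))))))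
theorem f136523 : Led Lsl_et (LP (LK LD1_c3 LD2_c50 LD3_c28)) = (LP (LK LD1_c1 LD2_c52 LD3_c8)) :=
  Lre_e IH (LK LD1_c3 LD2_c50 LD3_c28) (LK LD1_c1 LD2_c52 LD3_c8) Lrfl Lrfl
theorem f136524 : Led Lsl_ft (LP (LK LD1_c7 LD2_c42 LD3_c2)) = (LP (LK LD1_c3 LD2_c50 LD3_c28)) :=
  Lre_f IH (LK LD1_c7 LD2_c42 LD3_c2) (LK LD1_c3 LD2_c50 LD3_c28) Lrfl Lrfl
theorem f15146 : Led Lsl_ft (LP (LK LD1_c7 LD2_c35 LD3_c24)) = (LP (LK LD1_c14 LD2_c18 LD3_c37)) :=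
  Lre_f IH (LK LD1_c7 LD2_c35 LD3_c24) (LK LD1_c14 LD2_c18 LD3_c37) Lrfl Lrfl
theorem f136525 : Led Lsl_ef (LP (LK LD1_c7 LD2_c42 LD3_c2)) = (LP (LK LD1_c14 LD2_c18 LD3_c37)) :=
  Lgr Lrot21 (Lpr_ft (f136524 IH) (Lpr_et (f136523 IH) (Lpr_ft (K6.f136521 IH) (Lpr_et (K4.f15214 IH) (Lpr_ft (f15146 IH) (Lpn (LP (LK LD1_c14 LD2_c18 LD3_c37))))))))
theorem f136669 : Led Lsl_at (LP (LK LD1_c7 LD2_c42 LD3_c2)) = (LP (LK LD1_c3 LD2_c50 LD3_c38)) :=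
  Lre_a IH (LK LD1_c7 LD2_c42 LD3_c2) (LK LD1_c3 LD2_c50 LD3_c38) Lrfl Lrfl
theorem f136670 : Led Lsl_et (LP (LK LD1_c3 LD2_c50 LD3_c38)) = (LP (LK LD1_c7 LD2_c35 LD3_c28)) :=
  Lgr Lrot123 (Lpe (f136669 IH) (Lpr_ef (f136525 IH) (Lpe (K4.f15136 IH) (Lpn (LP (LK LD1_c7 LD2_c35 LD3_c28))))))
theorem f476826 : Led Lsl_cf (LP (LK LD1_c3 LD2_c50 LD3_c38)) = (LP (LK LD1_c7 LD2_c16 LD3_c19)) :=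
  Lgr Lrot39 (Lpr_et (f136670 IH) (Lpe (f15121 IH) (Lpr_et (f476805 IH) (Lpn (LP (LK LD1_c7 LD2_c16 LD3_c19))))))
theorem f136696 : Led Lsl_gt (LP (LK LD1_c7 LD2_c41 LD3_c61)) = (LP (LK LD1_c3 LD2_c50 LD3_c38)) :=
  Lre_g IH (LK LD1_c7 LD2_c41 LD3_c61) (LK LD1_c3 LD2_c50 LD3_c38) Lrfl Lrfl
theorem f481810 : Led Lsl_ct (LP (LK LD1_c14 LD2_c18 LD3_c34)) = (LP (LK LD1_c7 LD2_c41 LD3_c61)) :=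
  Lgr Lrot91 (Lpe (f15229 IH) (Lpe (K8.f117307 IH) (Lpe (f142528 IH) (Lpr_gf (f481805 IH) (Lpe (f477007 IH) (Lpr_bt (f455111 IH) (Lpr_gf (f477000 IH) (Lpe (f476804 IH) (Lpe (f476826 IH) (Lpe (f136696 IH) (Lpn (LP (LK LD1_c7 LD2_c41 LD3_c61)))))))))))))
theorem f481834 : Led Lsl_cf (LP (LK LD1_c14 LD2_c18 LD3_c34)) = (LP (LK LD1_c7 LD2_c41 LD3_c61)) :=
  Lgr Lrot11 (Lpr_ct (f481810 IH) (Lpn (LP (LK LD1_c7 LD2_c41 LD3_c61))))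
theorem f15134 : Led Lsl_gt (LP (LK LD1_c14 LD2_c18 LD3_c34)) = (LP (LK LD1_c7 LD2_c35 LD3_c28)) :=
  Lre_g IH (LK LD1_c14 LD2_c18 LD3_c34) (LK LD1_c7 LD2_c35 LD3_c28) Lrfl Lrfl
theorem f136666 : Led Lsl_gt (LP (LK LD1_c3 LD2_c50 LD3_c28)) = (LP (LK LD1_c7 LD2_c41 LD3_c61)) :=
  Lre_g IH (LK LD1_c3 LD2_c50 LD3_c28) (LK LD1_c7 LD2_c41 LD3_c61) Lrfl Lrfl
theorem f110099 : Led Lsl_at (LP (LK LD1_c3 LD2_c47 LD3_c26)) = (LP (LK LD1_c7 LD2_c35 LD3_c39)) :=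
  Lre_a IH (LK LD1_c3 LD2_c47 LD3_c26) (LK LD1_c7 LD2_c35 LD3_c39) Lrfl Lrfl
theorem f12318 : Led Lsl_bt (LP (LK LD1_c1 LD2_c52 LD3_c11)) = (LP (LK LD1_c0 LD2_c52 LD3_c52)) :=
  Lre_b IH (LK LD1_c1 LD2_c52 LD3_c11) (LK LD1_c0 LD2_c52 LD3_c52) Lrfl Lrfl
theorem f110100 : Led Lsl_at (LP (LK LD1_c3 LD2_c50 LD3_c28)) = (LP (LK LD1_c1 LD2_c52 LD3_c11)) :=
  Lre_a IH (LK LD1_c3 LD2_c50 LD3_c28) (LK LD1_c1 LD2_c52 LD3_c11) Lrfl Lrfl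
theorem f110101 : Led Lsl_bt (LP (LK LD1_c7 LD2_c35 LD3_c39)) = (LP (LK LD1_c3 LD2_c50 LD3_c28)) :=
  Lgr Lrot62 (Lpe (f110099 IH) (Lpe (K5.f91267 IH) (Lpr_af (K3.f110095 IH) (Lpe (f12318 IH) (Lpe (f110100 IH) (Lpn (LP (LK LD1_c3 LD2_c50 LD3_c28))))))))
theorem f136707 : Led Lsl_et (LP (LK LD1_c7 LD2_c35 LD3_c39)) = (LP (LK LD1_c3 LD2_c47 LD3_c24)) :=
  Lre_e IH (LK LD1_c7 LD2_c35 LD3_c39) (LK LD1_c3 LD2_c47 LD3_c24) Lrfl Lrfl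
theorem f136780 : Led Lsl_et (LP (LK LD1_c3 LD2_c40 LD3_c29)) = (LP (LK LD1_c7 LD2_c21 LD3_c7)) :=
  Lre_e IH (LK LD1_c3 LD2_c40 LD3_c29) (LK LD1_c7 LD2_c21 LD3_c7) Lrfl Lrfl
theorem f136781 : Led Lsl_cf (LP (LK LD1_c7 LD2_c35 LD3_c39)) = (LP (LK LD1_c7 LD2_c21 LD3_c7)) :=
  Lgr Lrot39 (Lpr_et (f136707 IH) (Lpr_ct (K6.f136771 IH) (Lpr_et (f136780 IH) (Lpn (LP (LK LD1_c7 LD2_c21 LD3_c7))))))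
theorem f136788 : Led Lsl_ct (LP (LK LD1_c7 LD2_c35 LD3_c39)) = (LP (LK LD1_c7 LD2_c21 LD3_c7)) :=
  Lgr Lrot59 (Lpr_cf (f136781 IH) (Lpn (LP (LK LD1_c7 LD2_c21 LD3_c7))))
theorem f91712 : Led Lsl_gt (LP (LK LD1_c1 LD2_c40 LD3_c1)) = (LP (LK LD1_c3 LD2_c26 LD3_c43)) :=
  Lre_g IH (LK LD1_c1 LD2_c40 LD3_c1) (LK LD1_c3 LD2_c26 LD3_c43) Lrfl Lrfl
theorem f145349 : Led Lsl_at (LP (LK LD1_c1 LD2_c54 LD3_c4)) = (LP (LK LD1_c0 LD2_c53 LD3_c45)) :=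
  Lre_a IH (LK LD1_c1 LD2_c54 LD3_c4) (LK LD1_c0 LD2_c53 LD3_c45) Lrfl Lrfl
theorem f145396 : Led Lsl_at (LP (LK LD1_c0 LD2_c53 LD3_c45)) = (LP (LK LD1_c1 LD2_c54 LD3_c4)) :=
  Lre_a IH (LK LD1_c0 LD2_c53 LD3_c45) (LK LD1_c1 LD2_c54 LD3_c4) Lrfl Lrfl
theorem f145397 : Led Lsl_bf (LP (LK LD1_c1 LD2_c54 LD3_c4)) = (LP (LK LD1_c1 LD2_c54 LD3_c4)) :=
  Lgr Lrot81 (Lpr_at (f145349 IH) (Lpr_bt (K6.f122803 IH) (Lpr_at (K6.f145387 IH) (Lpr_bt (K6.f123363 IH) (Lpr_at (f145396 IH) (Lpn (LP (LK LD1_c1 LD2_c54 LD3_c4))))))))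
theorem f123214 : Led Lsl_ct (LP (LK LD1_c1 LD2_c54 LD3_c4)) = (LP (LK LD1_c3 LD2_c54 LD3_c53)) :=
  Lre_c IH (LK LD1_c1 LD2_c54 LD3_c4) (LK LD1_c3 LD2_c54 LD3_c53) Lrfl Lrfl
theorem f437638 : Led Lsl_gt (LP (LK LD1_c1 LD2_c54 LD3_c11)) = (LP (LK LD1_c3 LD2_c54 LD3_c53)) :=
  Lre_g IH (LK LD1_c1 LD2_c54 LD3_c11) (LK LD1_c3 LD2_c54 LD3_c53) Lrfl Lrfl
theorem f477012 : Led Lsl_ct (LP (LK LD1_c3 LD2_c26 LD3_c43)) = (LP (LK LD1_c1 LD2_c54 LD3_c11)) :=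
  Lgr Lrot91 (Lpe (f91712 IH) (Lpe (K5.f132258 IH) (Lpr_ct (f95057 IH) (Lpe (f102360 IH) (Lpr_cf (f477002 IH) (Lpr_bt (f437651 IH) (Lpe (f123192 IH) (Lpr_bf (f145397 IH) (Lpr_ct (f123214 IH) (Lpe (f437638 IH) (Lpn (LP (LK LD1_c1 LD2_c54 LD3_c11)))))))))))))
theorem f477015 : Led Lsl_cf (LP (LK LD1_c3 LD2_c26 LD3_c43)) = (LP (LK LD1_c1 LD2_c54 LD3_c11)) :=
  Lgr Lrot11 (Lpr_ct (f477012 IH) (Lpn (LP (LK LD1_c1 LD2_c54 LD3_c11))))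
theorem f96988 : Led Lsl_gt (LP (LK LD1_c3 LD2_c26 LD3_c43)) = (LP (LK LD1_c6 LD2_c55 LD3_c9)) :=
  Lre_g IH (LK LD1_c3 LD2_c26 LD3_c43) (LK LD1_c6 LD2_c55 LD3_c9) Lrfl Lrfl
theorem f132174 : Led Lsl_cf (LP (LK LD1_c6 LD2_c55 LD3_c9)) = (LP (LK LD1_c7 LD2_c25 LD3_c6)) :=
  Lgr Lrot11 (Lpr_ct (K5.f132172 IH) (Lpn (LP (LK LD1_c7 LD2_c25 LD3_c6))))
theorem f123417 : Led Lsl_gt (LP (LK LD1_c0 LD2_c53 LD3_c41)) = (LP (LK LD1_c1 LD2_c54 LD3_c11)) :=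
  Lre_g IH (LK LD1_c0 LD2_c53 LD3_c41) (LK LD1_c1 LD2_c54 LD3_c11) Lrfl Lrfl
theorem f122764 : Led Lsl_bf (LP (LK LD1_c0 LD2_c53 LD3_c41)) = (LP (LK LD1_c0 LD2_c53 LD3_c28)) :=
  Lgr Lrot24 (Lpr_bt (K6.f122756 IH) (Lpn (LP (LK LD1_c0 LD2_c53 LD3_c28))))
theorem f123407 : Led Lsl_gt (LP (LK LD1_c0 LD2_c53 LD3_c30)) = (LP (LK LD1_c0 LD2_c24 LD3_c2)) :=
  Lre_g IH (LK LD1_c0 LD2_c53 LD3_c30) (LK LD1_c0 LD2_c24 LD3_c2) Lrfl Lrfl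
theorem f123393 : Led Lsl_ct (LP (LK LD1_c1 LD2_c53 LD3_c55)) = (LP (LK LD1_c0 LD2_c53 LD3_c30)) :=
  Lre_c IH (LK LD1_c1 LD2_c53 LD3_c55) (LK LD1_c0 LD2_c53 LD3_c30) Lrfl Lrfl
theorem f123394 : Led Lsl_bt (LP (LK LD1_c1 LD2_c53 LD3_c55)) = (LP (LK LD1_c3 LD2_c54 LD3_c39)) :=
  Lre_b IH (LK LD1_c1 LD2_c53 LD3_c55) (LK LD1_c3 LD2_c54 LD3_c39) Lrfl Lrfl
theorem f123420 : Led Lsl_gt (LP (LK LD1_c7 LD2_c50 LD3_c60)) = (LP (LK LD1_c3 LD2_c54 LD3_c39)) :=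
  Lre_g IH (LK LD1_c7 LD2_c50 LD3_c60) (LK LD1_c3 LD2_c54 LD3_c39) Lrfl Lrfl
theorem f477051 : Led Lsl_bt (LP (LK LD1_c7 LD2_c25 LD3_c6)) = (LP (LK LD1_c7 LD2_c50 LD3_c60)) :=
  Lgr Lrot22 (Lpe (f132174 IH) (Lpe (f96988 IH) (Lpr_cf (f477015 IH) (Lpe (f123417 IH) (Lpr_bf (f122764 IH) (Lpr_ct (K24.f122768 IH) (Lpe (f123407 IH) (Lpe (f123393 IH) (Lpr_bt (f123394 IH) (Lpe (f123420 IH) (Lpn (LP (LK LD1_c7 LD2_c50 LD3_c60)))))))))))))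
theorem f477060 : Led Lsl_ff (LP (LK LD1_c7 LD2_c25 LD3_c4)) = (LP (LK LD1_c7 LD2_c50 LD3_c60)) :=
  Lgr Lrot25 (Lpr_bt (K5.f132182 IH) (Lpr_ft (K5.f132169 IH) (Lpr_bt (f477051 IH) (Lpn (LP (LK LD1_c7 LD2_c50 LD3_c60))))))
theorem f132242 : Led Lsl_at (LP (LK LD1_c7 LD2_c35 LD3_c39)) = (LP (LK LD1_c3 LD2_c47 LD3_c26)) :=
  Lre_a IH (LK LD1_c7 LD2_c35 LD3_c39) (LK LD1_c3 LD2_c47 LD3_c26) Lrfl Lrfl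
theorem f136784 : Led Lsl_at (LP (LK LD1_c7 LD2_c25 LD3_c4)) = (LP (LK LD1_c7 LD2_c21 LD3_c7)) :=
  Lgr Lrot107 (Lpe (K5.f132237 IH) (Lpe (f132242 IH) (Lpr_cf (f136781 IH) (Lpn (LP (LK LD1_c7 LD2_c21 LD3_c7))))))
theorem f477074 : Led Lsl_gf (LP (LK LD1_c7 LD2_c21 LD3_c7)) = (LP (LK LD1_c3 LD2_c54 LD3_c39)) :=
  Lgr Lrot76 (Lpe (f136784 IH) (Lpr_ff (f477060 IH) (Lpr_gt (f123420 IH) (Lpn (LP (LK LD1_c3 LD2_c54 LD3_c39))))))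
theorem f477076 : Led Lsl_ct (LP (LK LD1_c7 LD2_c50 LD3_c57)) = (LP (LK LD1_c3 LD2_c54 LD3_c39)) :=
  Lre_c IH (LK LD1_c7 LD2_c50 LD3_c57) (LK LD1_c3 LD2_c54 LD3_c39) Lrfl Lrfl
theorem f477082 : Led Lsl_bt (LP (LK LD1_c7 LD2_c50 LD3_c57)) = (LP (LK LD1_c3 LD2_c54 LD3_c36)) :=
  Lre_b IH (LK LD1_c7 LD2_c50 LD3_c57) (LK LD1_c3 LD2_c54 LD3_c36) Lrfl Lrfl
theorem f481845 : Led Lsl_gt (LP (LK LD1_c3 LD2_c26 LD3_c36)) = (LP (LK LD1_c3 LD2_c54 LD3_c36)) :=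
  Lgr Lrot164 (Lpe (f15119 IH) (Lpr_ct (K4.f15130 IH) (Lpe (f15134 IH) (Lpr_cf (f481834 IH) (Lpe (f136666 IH) (Lpe (f110101 IH) (Lpr_ct (f136788 IH) (Lpr_gf (f477074 IH) (Lpe (f477076 IH) (Lpr_bt (f477082 IH) (Lpn (LP (LK LD1_c3 LD2_c54 LD3_c36)))))))))))))
theorem f123409 : Led Lsl_ct (LP (LK LD1_c1 LD2_c53 LD3_c54)) = (LP (LK LD1_c3 LD2_c54 LD3_c36)) :=
  Lre_c IH (LK LD1_c1 LD2_c53 LD3_c54) (LK LD1_c3 LD2_c54 LD3_c36) Lrfl Lrfl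
theorem f123408 : Led Lsl_bt (LP (LK LD1_c1 LD2_c53 LD3_c54)) = (LP (LK LD1_c0 LD2_c53 LD3_c30)) :=
  Lre_b IH (LK LD1_c1 LD2_c53 LD3_c54) (LK LD1_c0 LD2_c53 LD3_c30) Lrfl Lrfl
theorem f450768 : Led Lsl_bt (LP (LK LD1_c0 LD2_c21 LD3_c46)) = (LP (LK LD1_c0 LD2_c48 LD3_c39)) :=
  Lre_b IH (LK LD1_c0 LD2_c21 LD3_c46) (LK LD1_c0 LD2_c48 LD3_c39) Lrfl Lrfl
def v669 : LQ := Led Lsl_gt (LP (LK LD1_c0 LD2_c48 LD3_c39))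
theorem f455886 : Led Lsl_gt (LP (LK LD1_c0 LD2_c48 LD3_c39)) = v669 :=
  Lrfl
theorem f481858 : (LP (LK LD1_c1 LD2_c39 LD3_c60)) = v669 :=
  (Llr Lrot125 (Lpr_ct (K4.f15127 IH) (Lpr_gt (f481845 IH) (Lpe (f123409 IH) (Lpr_bt (f123408 IH) (Lpr_gt (f123407 IH) (Lpe (f123406 IH) (Lpe (K24.f122770 IH) (Lpr_gt (K24.f448764 IH) (Lpr_cf (K24.f452111 IH) (Lpqs (K24.f456040 IH) (Lpr_bt (f450768 IH) (Lpr_gt (f455886 IH) (Lpn v669)))))))))))))).symm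
def v673 : LQ := Led Lsl_ft (LP (LK LD1_c0 LD2_c48 LD3_c39))
theorem f455917 : Led Lsl_ft (LP (LK LD1_c0 LD2_c48 LD3_c39)) = v673 :=
  Lrfl
theorem f455919 : Led Lsl_ff (LP (LK LD1_c0 LD2_c48 LD3_c39)) = v673 :=
  Lgr Lrot3 (Lpr_ft (f455917 IH) (Lpn v673))
theorem f455922 : Led Lsl_bt K24.v154 = v673 :=
  Lgr Lrot35 (Lpe (K24.f450782 IH) (Lpe (K28.f10163 IH) (Lpr_ff (f455919 IH) (Lpn v673))))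
theorem f450771 : Led Lsl_bt (LP (LK LD1_c0 LD2_c21 LD3_c47)) = (LP (LK LD1_c0 LD2_c48 LD3_c41)) :=
  Lre_b IH (LK LD1_c0 LD2_c21 LD3_c47) (LK LD1_c0 LD2_c48 LD3_c41) Lrfl Lrfl
theorem f478691 : v673 = (LP (LK LD1_c0 LD2_c48 LD3_c41)) :=
  Lefun (Lecon (f455922 IH) ((f478688 IH).trans (K24.f456044 IH))) (f450771 IH)
theorem f450787 : Led Lsl_at (LP (LK LD1_c0 LD2_c48 LD3_c41)) = (LP (LK LD1_c1 LD2_c44 LD3_c15)) :=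
  Lre_a IH (LK LD1_c0 LD2_c48 LD3_c41) (LK LD1_c1 LD2_c44 LD3_c15) Lrfl Lrfl
theorem f479127 : Led Lsl_gf (LP (LK LD1_c1 LD2_c44 LD3_c15)) = v669 :=
  Lgr Lrot76 (Lpe (f450787 IH) (Lpq (f478691 IH) (Lpe (f455917 IH) (Lpr_gt (f455886 IH) (Lpn v669)))))
theorem f454982 : Led Lsl_bt (LP (LK LD1_c1 LD2_c44 LD3_c17)) = (LP (LK LD1_c0 LD2_c48 LD3_c42)) :=
  Lre_b IH (LK LD1_c1 LD2_c44 LD3_c17) (LK LD1_c0 LD2_c48 LD3_c42) Lrfl Lrfl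
theorem f455936 : Led Lsl_bt (LP (LK LD1_c0 LD2_c48 LD3_c40)) = (LP (LK LD1_c1 LD2_c44 LD3_c12)) :=
  Lre_b IH (LK LD1_c0 LD2_c48 LD3_c40) (LK LD1_c1 LD2_c44 LD3_c12) Lrfl Lrfl
theorem f478707 : Led Lsl_ff (LP (LK LD1_c1 LD2_c44 LD3_c17)) = (LP (LK LD1_c1 LD2_c44 LD3_c12)) :=
  Lgr Lrot25 (Lpr_bt (f454982 IH) (Lpq (f478692 IH) (Lpe (f456733 IH) (Lpr_bt (f455936 IH) (Lpn (LP (LK LD1_c1 LD2_c44 LD3_c12)))))))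
theorem f456737 : Led Lsl_at (LP (LK LD1_c1 LD2_c44 LD3_c17)) = (LP (LK LD1_c3 LD2_c34 LD3_c60)) :=
  Lre_a IH (LK LD1_c1 LD2_c44 LD3_c17) (LK LD1_c3 LD2_c34 LD3_c60) Lrfl Lrfl
theorem f478717 : Led Lsl_ct (LP (LK LD1_c7 LD2_c11 LD3_c7)) = (LP (LK LD1_c3 LD2_c34 LD3_c60)) :=
  Lre_c IH (LK LD1_c7 LD2_c11 LD3_c7) (LK LD1_c3 LD2_c34 LD3_c60) Lrfl Lrfl
theorem f478718 : Led Lsl_dt (LP (LK LD1_c13 LD2_c36 LD3_c48)) = (LP (LK LD1_c7 LD2_c11 LD3_c7)) :=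
  Lre_d IH (LK LD1_c13 LD2_c36 LD3_c48) (LK LD1_c7 LD2_c11 LD3_c7) Lrfl Lrfl
theorem f455887 : Led Lsl_dt (LP (LK LD1_c1 LD2_c44 LD3_c12)) = (LP (LK LD1_c0 LD2_c48 LD3_c39)) :=
  Lre_d IH (LK LD1_c1 LD2_c44 LD3_c12) (LK LD1_c0 LD2_c48 LD3_c39) Lrfl Lrfl
theorem f455896 : Led Lsl_dt (LP (LK LD1_c1 LD2_c44 LD3_c11)) = (LP (LK LD1_c3 LD2_c34 LD3_c53)) :=
  Lre_d IH (LK LD1_c1 LD2_c44 LD3_c11) (LK LD1_c3 LD2_c34 LD3_c53) Lrfl Lrfl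
theorem f467912 : Led Lsl_ct (LP (LK LD1_c3 LD2_c34 LD3_c53)) = (LP (LK LD1_c7 LD2_c10 LD3_c56)) :=
  Lre_c IH (LK LD1_c3 LD2_c34 LD3_c53) (LK LD1_c7 LD2_c10 LD3_c56) Lrfl Lrfl
theorem f478719 : Led Lsl_dt (LP (LK LD1_c7 LD2_c10 LD3_c56)) = (LP (LK LD1_c13 LD2_c36 LD3_c28)) :=
  Lre_d IH (LK LD1_c7 LD2_c10 LD3_c56) (LK LD1_c13 LD2_c36 LD3_c28) Lrfl Lrfl
theorem f478720 : Led Lsl_cf (LP (LK LD1_c13 LD2_c36 LD3_c48)) = (LP (LK LD1_c13 LD2_c36 LD3_c28)) :=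
  Lgr Lrot161 (Lpr_dt (f478718 IH) (Lpr_ct (f478717 IH) (Lpe (f456737 IH) (Lpr_ff (f478707 IH) (Lpr_dt (f455887 IH) (Lpr_ct (K28.f10168 IH) (Lpr_dt (f455896 IH) (Lpr_ct (f467912 IH) (Lpr_dt (f478719 IH) (Lpn (LP (LK LD1_c13 LD2_c36 LD3_c28))))))))))))
theorem f478726 : Led Lsl_ct (LP (LK LD1_c13 LD2_c36 LD3_c48)) = (LP (LK LD1_c13 LD2_c36 LD3_c28)) :=
  Lgr Lrot59 (Lpr_cf (f478720 IH) (Lpn (LP (LK LD1_c13 LD2_c36 LD3_c28))))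
theorem f478744 : Led Lsl_dt (LP (LK LD1_c7 LD2_c11 LD3_c7)) = (LP (LK LD1_c13 LD2_c36 LD3_c48)) :=
  Lre_d IH (LK LD1_c7 LD2_c11 LD3_c7) (LK LD1_c13 LD2_c36 LD3_c48) Lrfl Lrfl
theorem f478745 : Led Lsl_ct (LP (LK LD1_c3 LD2_c34 LD3_c60)) = (LP (LK LD1_c7 LD2_c11 LD3_c7)) :=
  Lre_c IH (LK LD1_c3 LD2_c34 LD3_c60) (LK LD1_c7 LD2_c11 LD3_c7) Lrfl Lrfl
theorem f478789 : Led Lsl_dt (LP (LK LD1_c1 LD2_c44 LD3_c15)) = (LP (LK LD1_c3 LD2_c34 LD3_c60)) :=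
  Lre_d IH (LK LD1_c1 LD2_c44 LD3_c15) (LK LD1_c3 LD2_c34 LD3_c60) Lrfl Lrfl
theorem f455901 : Led Lsl_dt (LP (LK LD1_c13 LD2_c36 LD3_c28)) = (LP (LK LD1_c7 LD2_c10 LD3_c56)) :=
  Lre_d IH (LK LD1_c13 LD2_c36 LD3_c28) (LK LD1_c7 LD2_c10 LD3_c56) Lrfl Lrfl
theorem f455897 : Led Lsl_ct (LP (LK LD1_c7 LD2_c10 LD3_c56)) = (LP (LK LD1_c3 LD2_c34 LD3_c53)) :=
  Lre_c IH (LK LD1_c7 LD2_c10 LD3_c56) (LK LD1_c3 LD2_c34 LD3_c53) Lrfl Lrfl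
theorem f10165 : Led Lsl_dt (LP (LK LD1_c3 LD2_c34 LD3_c53)) = (LP (LK LD1_c1 LD2_c44 LD3_c11)) :=
  Lre_d IH (LK LD1_c3 LD2_c34 LD3_c53) (LK LD1_c1 LD2_c44 LD3_c11) Lrfl Lrfl
theorem f10164 : Led Lsl_ct (LP (LK LD1_c1 LD2_c44 LD3_c11)) = (LP (LK LD1_c0 LD2_c48 LD3_c39)) :=
  Lre_c IH (LK LD1_c1 LD2_c44 LD3_c11) (LK LD1_c0 LD2_c48 LD3_c39) Lrfl Lrfl
def v671 : LQ := Led Lsl_at (LP (LK LD1_c0 LD2_c48 LD3_c39))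
theorem f455899 : Led Lsl_at (LP (LK LD1_c0 LD2_c48 LD3_c39)) = v671 :=
  Lrfl
theorem f455900 : Led Lsl_af (LP (LK LD1_c0 LD2_c48 LD3_c39)) = v671 :=
  Lgr Lrot0 (Lpr_at (f455899 IH) (Lpn v671))
theorem f478866 : Led Lsl_ft (LP (LK LD1_c1 LD2_c44 LD3_c15)) = v671 :=
  Lgr Lrot142 (Lpr_dt (f478789 IH) (Lpr_ct (f478745 IH) (Lpr_dt (f478744 IH) (Lpr_ct (f478726 IH) (Lpr_dt (f455901 IH) (Lpr_ct (f455897 IH) (Lpr_dt (f10165 IH) (Lpr_ct (f10164 IH) (Lpr_af (f455900 IH) (Lpn v671))))))))))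
def v670 : LQ := Led Lsl_gf (LP (LK LD1_c0 LD2_c48 LD3_c39))
theorem f455894 : Led Lsl_gf (LP (LK LD1_c0 LD2_c48 LD3_c39)) = v670 :=
  Lrfl
theorem f478870 : Led Lsl_gt (LP (LK LD1_c1 LD2_c44 LD3_c15)) = v670 :=
  Lgr Lrot5 (Lpr_ft (f478866 IH) (Lpe (f455900 IH) (Lpr_gf (f455894 IH) (Lpn v670))))
theorem f481861 : (LP (LK LD1_c0 LD2_c53 LD3_c55)) = v670 :=
  (Llr Lrot26 (Lpr_af (K5.f126002 IH) (Lpe (f126009 IH) (Lpqs (f481858 IH) (Lpe (f479127 IH) (Lpr_gt (f478870 IH) (Lpn v670))))))).symm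
def v672 : LQ := Led Lsl_et (LP (LK LD1_c0 LD2_c48 LD3_c39))
theorem f455902 : Led Lsl_et (LP (LK LD1_c0 LD2_c48 LD3_c39)) = v672 :=
  Lrfl
theorem f455904 : Led Lsl_ef (LP (LK LD1_c0 LD2_c48 LD3_c39)) = v672 :=
  Lgr Lrot88 (Lpr_et (f455902 IH) (Lpn v672))
theorem f455905 : Led Lsl_bt K24.v153 = v672 :=
  Lgr Lrot119 (Lpe (K24.f450775 IH) (Lpe (K28.f10163 IH) (Lpr_ef (f455904 IH) (Lpn v672))))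
theorem f455906 : Led Lsl_df (LP (LK LD1_c0 LD2_c49 LD3_c58)) = v672 :=
  Lgr Lrot12 (Lpr_bt (K28.f4035 IH) (Lpr_dt (K24.f450779 IH) (Lpr_bt (f455905 IH) (Lpn v672))))
theorem f481864 : v585 = (LP (LK LD1_c0 LD2_c49 LD3_c58)) :=
  (Llr Lrot145 (Lpe (f455034 IH) (Lpe (K4.f94241 IH) (Lpr_et (K4.f94231 IH) (Lpe (K2.f94216 IH) (Lpr_dt (K1.f15857 IH) (Lpe (K2.f19164 IH) (Lpe (K4.f90258 IH) (Lpr_et (f90260 IH) (Lpqs (f481861 IH) (Lpe (f455894 IH) (Lpr_ef (f455904 IH) (Lpe (f455906 IH) (Lpn (LP (LK LD1_c0 LD2_c49 LD3_c58)))))))))))))))).symm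
theorem f450778 : Led Lsl_bt (LP (LK LD1_c0 LD2_c22 LD3_c27)) = (LP (LK LD1_c0 LD2_c49 LD3_c58)) :=
  Lre_b IH (LK LD1_c0 LD2_c22 LD3_c27) (LK LD1_c0 LD2_c49 LD3_c58) Lrfl Lrfl
theorem f481878 : Led Lsl_gt (LP (LK LD1_c1 LD2_c41 LD3_c42)) = (LP (LK LD1_c1 LD2_c47 LD3_c54)) :=
  Lgr Lrot65 (Lpe (f115966 IH) (Lpr_bt (f94286 IH) (Lpr_gf (f455034 IH) (Lpqs (f481864 IH) (Lpe (f450778 IH) (Lpr_ct (K24.f450936 IH) (Lpqs (K24.f455958 IH) (Lpr_gf (K11.f447689 IH) (Lpe (f447687 IH) (Lpr_gf (K11.f436798 IH) (Lpe (K28.f436800 IH) (Lpr_ct (f436804 IH) (Lpn (LP (LK LD1_c1 LD2_c47 LD3_c54)))))))))))))))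
theorem f474590 : Led Lsl_ff (LP (LK LD1_c1 LD2_c50 LD3_c11)) = (LP (LK LD1_c3 LD2_c29 LD3_c47)) :=
  Lgr Lrot19 (Lpr_dt (f466864 IH) (Lpr_ft (f474559 IH) (Lpr_dt (f440744 IH) (Lpn (LP (LK LD1_c3 LD2_c29 LD3_c47))))))
theorem f481880 : Led Lsl_gf (LP (LK LD1_c1 LD2_c41 LD3_c42)) = (LP (LK LD1_c3 LD2_c29 LD3_c47)) :=
  Lgr Lrot47 (Lpr_gt (f481878 IH) (Lpe (f466841 IH) (Lpr_ff (f474590 IH) (Lpn (LP (LK LD1_c3 LD2_c29 LD3_c47))))))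
theorem f94311 : Led Lsl_bt (LP (LK LD1_c1 LD2_c39 LD3_c30)) = (LP (LK LD1_c3 LD2_c25 LD3_c43)) :=
  Lre_b IH (LK LD1_c1 LD2_c39 LD3_c30) (LK LD1_c3 LD2_c25 LD3_c43) Lrfl Lrfl
theorem f94294 : Led Lsl_ct (LP (LK LD1_c0 LD2_c46 LD3_c15)) = (LP (LK LD1_c1 LD2_c39 LD3_c30)) :=
  Lre_c IH (LK LD1_c0 LD2_c46 LD3_c15) (LK LD1_c1 LD2_c39 LD3_c30) Lrfl Lrfl
theorem f115901 : Led Lsl_bt (LP (LK LD1_c3 LD2_c29 LD3_c61)) = (LP (LK LD1_c1 LD2_c41 LD3_c42)) :=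
  Lre_b IH (LK LD1_c3 LD2_c29 LD3_c61) (LK LD1_c1 LD2_c41 LD3_c42) Lrfl Lrfl
theorem f115902 : Led Lsl_cf (LP (LK LD1_c1 LD2_c39 LD3_c21)) = (LP (LK LD1_c1 LD2_c41 LD3_c42)) :=
  Lgr Lrot97 (Lpr_bt (f94286 IH) (Lpr_ct (f94294 IH) (Lpr_bt (f94311 IH) (Lpr_ct (K4.f115893 IH) (Lpr_bt (f115901 IH) (Lpn (LP (LK LD1_c1 LD2_c41 LD3_c42))))))))
theorem f94337 : Led Lsl_gt (LP (LK LD1_c1 LD2_c39 LD3_c21)) = (LP (LK LD1_c3 LD2_c25 LD3_c26)) :=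
  Lre_g IH (LK LD1_c1 LD2_c39 LD3_c21) (LK LD1_c3 LD2_c25 LD3_c26) Lrfl Lrfl
theorem f483014 : Led Lsl_cf (LP (LK LD1_c1 LD2_c50 LD3_c7)) = (LP (LK LD1_c3 LD2_c25 LD3_c26)) :=
  Lgr Lrot99 (Lpe (f87954 IH) (Lpe (f474422 IH) (Lpr_gf (f483012 IH) (Lpe (f474737 IH) (Lpr_gf (f474735 IH) (Lpe (f440742 IH) (Lpe (f481880 IH) (Lpe (f115902 IH) (Lpr_gt (f94337 IH) (Lpn (LP (LK LD1_c3 LD2_c25 LD3_c26))))))))))))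
theorem f441357 : Led Lsl_gt (LP (LK LD1_c7 LD2_c1 LD3_c9)) = (LP (LK LD1_c3 LD2_c46 LD3_c12)) :=
  Lgr Lrot5 (Lpr_ft (f440682 IH) (Lpr_at (f109686 IH) (Lpe (f85273 IH) (Lpn (LP (LK LD1_c3 LD2_c46 LD3_c12))))))
theorem f89136 : Led Lsl_dt (LP (LK LD1_c3 LD2_c46 LD3_c12)) = (LP (LK LD1_c7 LD2_c33 LD3_c27)) :=
  Lre_d IH (LK LD1_c3 LD2_c46 LD3_c12) (LK LD1_c7 LD2_c33 LD3_c27) Lrfl Lrfl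
theorem f115994 : Led Lsl_at (LP (LK LD1_c3 LD2_c25 LD3_c28)) = (LP (LK LD1_c3 LD2_c15 LD3_c26)) :=
  Lgr Lrot100 (Lpr_af (f115992 IH) (Lpn (LP (LK LD1_c3 LD2_c15 LD3_c26))))
theorem f94329 : Led Lsl_ft (LP (LK LD1_c1 LD2_c39 LD3_c21)) = (LP (LK LD1_c3 LD2_c25 LD3_c28)) :=
  Lre_f IH (LK LD1_c1 LD2_c39 LD3_c21) (LK LD1_c3 LD2_c25 LD3_c28) Lrfl Lrfl
theorem f115998 : Led Lsl_gt (LP (LK LD1_c3 LD2_c25 LD3_c26)) = (LP (LK LD1_c3 LD2_c15 LD3_c26)) :=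
  Lgr Lrot46 (Lpe (f94337 IH) (Lpr_ft (f94329 IH) (Lpr_at (f115994 IH) (Lpn (LP (LK LD1_c3 LD2_c15 LD3_c26))))))
theorem f65514 : Led Lsl_ft (LP (LK LD1_c3 LD2_c15 LD3_c26)) = (LP (LK LD1_c1 LD2_c34 LD3_c26)) :=
  Lre_f IH (LK LD1_c3 LD2_c15 LD3_c26) (LK LD1_c1 LD2_c34 LD3_c26) Lrfl Lrfl
theorem f65516 : Led Lsl_df (LP (LK LD1_c3 LD2_c15 LD3_c26)) = (LP (LK LD1_c3 LD2_c15 LD3_c26)) :=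
  Lgr Lrot78 (Lpr_ft (f65514 IH) (Lpr_dt (f65501 IH) (Lpr_ft (f65515 IH) (Lpn (LP (LK LD1_c3 LD2_c15 LD3_c26))))))
theorem f115986 : Led Lsl_af (LP (LK LD1_c1 LD2_c39 LD3_c21)) = (LP (LK LD1_c1 LD2_c34 LD3_c26)) :=
  Lgr Lrot0 (Lpr_at (K4.f115983 IH) (Lpn (LP (LK LD1_c1 LD2_c34 LD3_c26))))
theorem f94335 : Led Lsl_gt (LP (LK LD1_c3 LD2_c25 LD3_c27)) = (LP (LK LD1_c1 LD2_c39 LD3_c21)) :=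
  Lre_g IH (LK LD1_c3 LD2_c25 LD3_c27) (LK LD1_c1 LD2_c39 LD3_c21) Lrfl Lrfl
theorem f441015 : Led Lsl_gf (LP (LK LD1_c3 LD2_c25 LD3_c27)) = (LP (LK LD1_c3 LD2_c15 LD3_c26)) :=
  Lgr Lrot47 (Lpr_gt (f94335 IH) (Lpr_af (f115986 IH) (Lpe (f65514 IH) (Lpn (LP (LK LD1_c3 LD2_c15 LD3_c26))))))
theorem f94634 : Led Lsl_dt (LP (LK LD1_c3 LD2_c25 LD3_c27)) = (LP (LK LD1_c6 LD2_c53 LD3_c2)) :=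
  Lre_d IH (LK LD1_c3 LD2_c25 LD3_c27) (LK LD1_c6 LD2_c53 LD3_c2) Lrfl Lrfl
theorem f483026 : Led Lsl_ct (LP (LK LD1_c7 LD2_c33 LD3_c27)) = (LP (LK LD1_c6 LD2_c53 LD3_c2)) :=
  Lgr Lrot7 (Lpe (f89136 IH) (Lpe (f441357 IH) (Lpe (f109671 IH) (Lpr_gf (f441413 IH) (Lpr_cf (f483014 IH) (Lpr_gt (f115998 IH) (Lpe (f65516 IH) (Lpe (f441015 IH) (Lpr_dt (f94634 IH) (Lpn (LP (LK LD1_c6 LD2_c53 LD3_c2))))))))))))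
theorem f129892 : Led Lsl_gt (LP (LK LD1_c1 LD2_c50 LD3_c12)) = (LP (LK LD1_c1 LD2_c53 LD3_c15)) :=
  Lre_g IH (LK LD1_c1 LD2_c50 LD3_c12) (LK LD1_c1 LD2_c53 LD3_c15) Lrfl Lrfl
theorem f483333 : Led Lsl_ct (LP (LK LD1_c1 LD2_c50 LD3_c8)) = (LP (LK LD1_c3 LD2_c25 LD3_c27)) :=
  Lgr Lrot110 (Lpe (f441418 IH) (Lpe (f109639 IH) (Lpr_gf (f441408 IH) (Lpe (f85283 IH) (Lpr_gt (f129892 IH) (Lpe (f473636 IH) (Lpr_gt (f474403 IH) (Lpr_ct (f483026 IH) (Lpe (f94634 IH) (Lpn (LP (LK LD1_c3 LD2_c25 LD3_c27))))))))))))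
theorem f483335 : Led Lsl_cf (LP (LK LD1_c1 LD2_c50 LD3_c8)) = (LP (LK LD1_c3 LD2_c25 LD3_c27)) :=
  Lgr Lrot11 (Lpr_ct (f483333 IH) (Lpn (LP (LK LD1_c3 LD2_c25 LD3_c27))))
theorem f65535 : Led Lsl_gt (LP (LK LD1_c6 LD2_c34 LD3_c1)) = (LP (LK LD1_c3 LD2_c15 LD3_c21)) :=
  Lre_g IH (LK LD1_c6 LD2_c34 LD3_c1) (LK LD1_c3 LD2_c15 LD3_c21) Lrfl Lrfl
theorem f483450 : Led Lsl_bf (LP (LK LD1_c6 LD2_c34 LD3_c1)) = (LP (LK LD1_c3 LD2_c25 LD3_c27)) :=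
  Lgr Lrot156 (Lpr_gt (f65535 IH) (Lpe (K4.f65506 IH) (Lpr_ct (f65512 IH) (Lpr_gt (f478300 IH) (Lpe (f85276 IH) (Lpq (f466751 IH) (Lpqs (f466759 IH) (Lpe (f459574 IH) (Lpe (f441408 IH) (Lpr_ct (f109639 IH) (Lpr_gt (f441418 IH) (Lpr_cf (f483335 IH) (Lpn (LP (LK LD1_c3 LD2_c25 LD3_c27)))))))))))))))
theorem f483452 : Led Lsl_bt (LP (LK LD1_c6 LD2_c34 LD3_c1)) = (LP (LK LD1_c3 LD2_c25 LD3_c27)) :=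
  Lgr Lrot127 (Lpr_bf (f483450 IH) (Lpn (LP (LK LD1_c3 LD2_c25 LD3_c27))))
theorem f148259 : Led Lsl_gt (LP (LK LD1_c1 LD2_c47 LD3_c45)) = (LP (LK LD1_c3 LD2_c40 LD3_c40)) :=
  Lre_g IH (LK LD1_c1 LD2_c47 LD3_c45) (LK LD1_c3 LD2_c40 LD3_c40) Lrfl Lrfl
theorem f483454 : Led Lsl_ct (LP (LK LD1_c6 LD2_c34 LD3_c1)) = (LP (LK LD1_c3 LD2_c40 LD3_c40)) :=
  Lgr Lrot10 (Lpr_bt (f483452 IH) (Lpr_gt (f94335 IH) (Lpr_ct (f115966 IH) (Lpr_gt (f481878 IH) (Lpe (f436804 IH) (Lpr_bt (K28.f436800 IH) (Lpe (K11.f436798 IH) (Lpe (K11.f4499 IH) (Lpr_ct (f4507 IH) (Lpr_gt (f148259 IH) (Lpn (LP (LK LD1_c3 LD2_c40 LD3_c40)))))))))))))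
theorem f65526 : Led Lsl_bt (LP (LK LD1_c6 LD2_c34 LD3_c2)) = (LP (LK LD1_c3 LD2_c15 LD3_c26)) :=
  Lre_b IH (LK LD1_c6 LD2_c34 LD3_c2) (LK LD1_c3 LD2_c15 LD3_c26) Lrfl Lrfl
theorem f4560 : Led Lsl_gt (LP (LK LD1_c3 LD2_c40 LD3_c40)) = (LP (LK LD1_c1 LD2_c47 LD3_c17)) :=
  Lre_g IH (LK LD1_c3 LD2_c40 LD3_c40) (LK LD1_c1 LD2_c47 LD3_c17) Lrfl Lrfl
theorem f4836 : Led Lsl_gt (LP (LK LD1_c0 LD2_c50 LD3_c27)) = (LP (LK LD1_c1 LD2_c47 LD3_c18)) :=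
  Lre_g IH (LK LD1_c0 LD2_c50 LD3_c27) (LK LD1_c1 LD2_c47 LD3_c18) Lrfl Lrfl
theorem f4535 : Led Lsl_ct (LP (LK LD1_c1 LD2_c47 LD3_c18)) = (LP (LK LD1_c3 LD2_c40 LD3_c43)) :=
  Lre_c IH (LK LD1_c1 LD2_c47 LD3_c18) (LK LD1_c3 LD2_c40 LD3_c43) Lrfl Lrfl
theorem f4533 : Led Lsl_gt (LP (LK LD1_c3 LD2_c40 LD3_c43)) = (LP (LK LD1_c7 LD2_c21 LD3_c42)) :=
  Lre_g IH (LK LD1_c3 LD2_c40 LD3_c43) (LK LD1_c7 LD2_c21 LD3_c42) Lrfl Lrfl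
theorem f483462 : Led Lsl_ct (LP (LK LD1_c6 LD2_c34 LD3_c2)) = (LP (LK LD1_c7 LD2_c21 LD3_c42)) :=
  Lgr Lrot63 (Lpr_bt (f65526 IH) (Lpe (f441015 IH) (Lpe (f483452 IH) (Lpr_ct (f483454 IH) (Lpr_gt (f4560 IH) (Lpe (f4545 IH) (Lpe (K11.f148278 IH) (Lpr_gt (f4836 IH) (Lpr_ct (f4535 IH) (Lpr_gt (f4533 IH) (Lpn (LP (LK LD1_c7 LD2_c21 LD3_c42)))))))))))))
theorem f65529 : Led Lsl_ft (LP (LK LD1_c3 LD2_c15 LD3_c21)) = (LP (LK LD1_c6 LD2_c34 LD3_c2)) :=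
  Lre_f IH (LK LD1_c3 LD2_c15 LD3_c21) (LK LD1_c6 LD2_c34 LD3_c2) Lrfl Lrfl
theorem f483466 : Led Lsl_ff (LP (LK LD1_c3 LD2_c40 LD3_c46)) = (LP (LK LD1_c7 LD2_c21 LD3_c42)) :=
  Lgr Lrot23 (Lpr_ct (K4.f122619 IH) (Lpr_ft (f65529 IH) (Lpr_ct (f483462 IH) (Lpn (LP (LK LD1_c7 LD2_c21 LD3_c42))))))
theorem f483512 : Led Lsl_ft (LP (LK LD1_c3 LD2_c40 LD3_c46)) = (LP (LK LD1_c7 LD2_c21 LD3_c42)) :=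
  Lgr Lrot48 (Lpr_ff (f483466 IH) (Lpn (LP (LK LD1_c7 LD2_c21 LD3_c42))))
theorem f65505 : Led Lsl_bt (LP (LK LD1_c3 LD2_c15 LD3_c21)) = (LP (LK LD1_c1 LD2_c34 LD3_c26)) :=
  Lre_b IH (LK LD1_c3 LD2_c15 LD3_c21) (LK LD1_c1 LD2_c34 LD3_c26) Lrfl Lrfl
theorem f456470 : Led Lsl_bt (LP (LK LD1_c0 LD2_c50 LD3_c37)) = (LP (LK LD1_c1 LD2_c47 LD3_c46)) :=
  Lre_b IH (LK LD1_c0 LD2_c50 LD3_c37) (LK LD1_c1 LD2_c47 LD3_c46) Lrfl Lrfl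
theorem f4845 : Led Lsl_ct (LP (LK LD1_c0 LD2_c50 LD3_c37)) = (LP (LK LD1_c1 LD2_c47 LD3_c47)) :=
  Lre_c IH (LK LD1_c0 LD2_c50 LD3_c37) (LK LD1_c1 LD2_c47 LD3_c47) Lrfl Lrfl
theorem f481690 : Led Lsl_gt (LP (LK LD1_c3 LD2_c40 LD3_c46)) = (LP (LK LD1_c1 LD2_c47 LD3_c47)) :=
  Lgr Lrot65 (Lpr_cf (K4.f123540 IH) (Lpr_bt (f65505 IH) (Lpr_gf (f481678 IH) (Lpe (f456995 IH) (Lpr_ct (f4420 IH) (Lpe (f481462 IH) (Lpe (f466979 IH) (Lpe (K28.f467378 IH) (Lpe (f456470 IH) (Lpr_ct (f4845 IH) (Lpn (LP (LK LD1_c1 LD2_c47 LD3_c47)))))))))))))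
theorem f4846 : Led Lsl_gt (LP (LK LD1_c1 LD2_c47 LD3_c47)) = (LP (LK LD1_c3 LD2_c41 LD3_c47)) :=
  Lre_g IH (LK LD1_c1 LD2_c47 LD3_c47) (LK LD1_c3 LD2_c41 LD3_c47) Lrfl Lrfl
theorem f483516 : Led Lsl_af (LP (LK LD1_c3 LD2_c41 LD3_c47)) = (LP (LK LD1_c7 LD2_c21 LD3_c42)) :=
  Lgr Lrot31 (Lpe (f4846 IH) (Lpe (f481690 IH) (Lpr_ft (f483512 IH) (Lpn (LP (LK LD1_c7 LD2_c21 LD3_c42))))))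
theorem f94287 : Led Lsl_bt (LP (LK LD1_c0 LD2_c46 LD3_c15)) = (LP (LK LD1_c1 LD2_c39 LD3_c21)) :=
  Lre_b IH (LK LD1_c0 LD2_c46 LD3_c15) (LK LD1_c1 LD2_c39 LD3_c21) Lrfl Lrfl
theorem f102696 : Led Lsl_af (LP (LK LD1_c0 LD2_c46 LD3_c15)) = (LP (LK LD1_c1 LD2_c38 LD3_c46)) :=
  Lgr Lrot68 (Lpr_ct (f94294 IH) (Lpr_at (K6.f102690 IH) (Lpr_ct (K4.f12795 IH) (Lpn (LP (LK LD1_c1 LD2_c38 LD3_c46))))))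
theorem f12783 : Led Lsl_bt (LP (LK LD1_c3 LD2_c24 LD3_c37)) = (LP (LK LD1_c1 LD2_c38 LD3_c46)) :=
  Lre_b IH (LK LD1_c3 LD2_c24 LD3_c37) (LK LD1_c1 LD2_c38 LD3_c46) Lrfl Lrfl
theorem f115988 : Led Lsl_af (LP (LK LD1_c3 LD2_c24 LD3_c37)) = (LP (LK LD1_c3 LD2_c15 LD3_c21)) :=
  Lgr Lrot36 (Lpr_bt (f12783 IH) (Lpe (f102696 IH) (Lpr_bt (f94287 IH) (Lpr_at (K4.f115983 IH) (Lpr_bt (K4.f65506 IH) (Lpn (LP (LK LD1_c3 LD2_c15 LD3_c21))))))))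
theorem f123535 : Led Lsl_af (LP (LK LD1_c3 LD2_c40 LD3_c46)) = (LP (LK LD1_c3 LD2_c43 LD3_c31)) :=
  Lgr Lrot68 (Lpr_ct (K4.f122619 IH) (Lpe (f115988 IH) (Lpe (K4.f12788 IH) (Lpn (LP (LK LD1_c3 LD2_c43 LD3_c31))))))
theorem f483526 : Led Lsl_ft (LP (LK LD1_c3 LD2_c41 LD3_c47)) = (LP (LK LD1_c3 LD2_c43 LD3_c31)) :=
  Lgr Lrot101 (Lpr_af (f483516 IH) (Lpe (f483512 IH) (Lpr_af (f123535 IH) (Lpn (LP (LK LD1_c3 LD2_c43 LD3_c31))))))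
theorem f4847 : Led Lsl_dt (LP (LK LD1_c3 LD2_c41 LD3_c47)) = (LP (LK LD1_c7 LD2_c24 LD3_c15)) :=
  Lre_d IH (LK LD1_c3 LD2_c41 LD3_c47) (LK LD1_c7 LD2_c24 LD3_c15) Lrfl Lrfl
theorem f4862 : Led Lsl_ct (LP (LK LD1_c7 LD2_c24 LD3_c15)) = (LP (LK LD1_c14 LD2_c0 LD3_c27)) :=
  Lre_c IH (LK LD1_c7 LD2_c24 LD3_c15) (LK LD1_c14 LD2_c0 LD3_c27) Lrfl Lrfl
theorem f65507 : Led Lsl_df (LP (LK LD1_c3 LD2_c15 LD3_c21)) = (LP (LK LD1_c3 LD2_c15 LD3_c21)) :=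
  Lgr Lrot12 (Lpr_bt (f65505 IH) (Lpr_dt (f65501 IH) (Lpr_bt (K4.f65506 IH) (Lpn (LP (LK LD1_c3 LD2_c15 LD3_c21))))))
theorem f123542 : Led Lsl_dt (LP (LK LD1_c7 LD2_c21 LD3_c47)) = (LP (LK LD1_c3 LD2_c40 LD3_c46)) :=
  Lre_d IH (LK LD1_c7 LD2_c21 LD3_c47) (LK LD1_c3 LD2_c40 LD3_c46) Lrfl Lrfl
theorem f123543 : Led Lsl_ct (LP (LK LD1_c13 LD2_c55 LD3_c16)) = (LP (LK LD1_c7 LD2_c21 LD3_c47)) :=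
  Lre_c IH (LK LD1_c13 LD2_c55 LD3_c16) (LK LD1_c7 LD2_c21 LD3_c47) Lrfl Lrfl
theorem f483536 : Led Lsl_dt (LP (LK LD1_c14 LD2_c0 LD3_c27)) = (LP (LK LD1_c13 LD2_c55 LD3_c16)) :=
  Lgr Lrot32 (Lpe (f4862 IH) (Lpe (f4847 IH) (Lpr_ft (f483526 IH) (Lpe (f123535 IH) (Lpr_cf (K4.f123540 IH) (Lpr_df (f65507 IH) (Lpe (K4.f122619 IH) (Lpe (f123542 IH) (Lpe (f123543 IH) (Lpn (LP (LK LD1_c13 LD2_c55 LD3_c16))))))))))))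
theorem f456433 : Led Lsl_gt (LP (LK LD1_c1 LD2_c46 LD3_c21)) = (LP (LK LD1_c3 LD2_c38 LD3_c48)) :=
  Lre_g IH (LK LD1_c1 LD2_c46 LD3_c21) (LK LD1_c3 LD2_c38 LD3_c48) Lrfl Lrfl
theorem f478293 : Led Lsl_at (LP (LK LD1_c6 LD2_c34 LD3_c2)) = (LP (LK LD1_c3 LD2_c38 LD3_c48)) :=
  Lgr Lrot26 (Lpe (f65529 IH) (Lpr_gt (f478289 IH) (Lpr_gt (f456433 IH) (Lpn (LP (LK LD1_c3 LD2_c38 LD3_c48))))))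
theorem f115780 : Led Lsl_bt (LP (LK LD1_c12 LD2_c34 LD3_c53)) = (LP (LK LD1_c7 LD2_c1 LD3_c35)) :=
  Lgr Lrot127 (Lpr_bf (K4.f115777 IH) (Lpn (LP (LK LD1_c7 LD2_c1 LD3_c35))))
theorem f115899 : Led Lsl_cf (LP (LK LD1_c6 LD2_c53 LD3_c16)) = (LP (LK LD1_c7 LD2_c1 LD3_c35)) :=
  Lgr Lrot1 (Lpr_at (K6.f102695 IH) (Lpr_ct (K4.f115893 IH) (Lpr_at (K4.f115776 IH) (Lpn (LP (LK LD1_c7 LD2_c1 LD3_c35))))))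
theorem f136995 : Led Lsl_bf (LP (LK LD1_c7 LD2_c28 LD3_c9)) = (LP (LK LD1_c14 LD2_c5 LD3_c3)) :=
  Lgr Lrot90 (Lpr_ct (K6.f136966 IH) (Lpr_bt (f115780 IH) (Lpe (f115899 IH) (Lpr_bt (K4.f103730 IH) (Lpe (K4.f103676 IH) (Lpn (LP (LK LD1_c14 LD2_c5 LD3_c3))))))))
theorem f12830 : Led Lsl_at (LP (LK LD1_c7 LD2_c27 LD3_c38)) = (LP (LK LD1_c14 LD2_c5 LD3_c3)) :=
  Lre_a IH (LK LD1_c7 LD2_c27 LD3_c38) (LK LD1_c14 LD2_c5 LD3_c3) Lrfl Lrfl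
theorem f123537 : Led Lsl_bt (LP (LK LD1_c7 LD2_c21 LD3_c46)) = (LP (LK LD1_c3 LD2_c40 LD3_c46)) :=
  Lre_b IH (LK LD1_c7 LD2_c21 LD3_c46) (LK LD1_c3 LD2_c40 LD3_c46) Lrfl Lrfl
theorem f137017 : Led Lsl_af (LP (LK LD1_c3 LD2_c43 LD3_c31)) = (LP (LK LD1_c3 LD2_c40 LD3_c46)) :=
  Lgr Lrot36 (Lpr_bt (K4.f12791 IH) (Lpr_at (f12830 IH) (Lpe (f136995 IH) (Lpr_at (K7.f137001 IH) (Lpr_bt (f123537 IH) (Lpn (LP (LK LD1_c3 LD2_c40 LD3_c46))))))))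
theorem f137042 : Led Lsl_at (LP (LK LD1_c3 LD2_c24 LD3_c37)) = (LP (LK LD1_c3 LD2_c15 LD3_c21)) :=
  Lgr Lrot107 (Lpe (K4.f12778 IH) (Lpr_af (f137017 IH) (Lpr_cf (K4.f123540 IH) (Lpn (LP (LK LD1_c3 LD2_c15 LD3_c21))))))
theorem f478589 : Led Lsl_ff (LP (LK LD1_c3 LD2_c24 LD3_c37)) = (LP (LK LD1_c3 LD2_c38 LD3_c48)) :=
  Lgr Lrot30 (Lpr_at (f137042 IH) (Lpr_ft (f65529 IH) (Lpr_at (f478293 IH) (Lpn (LP (LK LD1_c3 LD2_c38 LD3_c48))))))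
theorem f19161 : Led Lsl_et (LP (LK LD1_c1 LD2_c38 LD3_c46)) = (LP (LK LD1_c0 LD2_c45 LD3_c47)) :=
  Lre_e IH (LK LD1_c1 LD2_c38 LD3_c46) (LK LD1_c0 LD2_c45 LD3_c47) Lrfl Lrfl
theorem f98680 : Led Lsl_at (LP (LK LD1_c0 LD2_c46 LD3_c15)) = (LP (LK LD1_c1 LD2_c38 LD3_c46)) :=
  Lgr Lrot80 (Lpe (K4.f94240 IH) (Lpr_af (K3.f98674 IH) (Lpe (f19161 IH) (Lpn (LP (LK LD1_c1 LD2_c38 LD3_c46))))))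
theorem f102702 : Led Lsl_dt (LP (LK LD1_c1 LD2_c38 LD3_c46)) = (LP (LK LD1_c1 LD2_c38 LD3_c46)) :=
  Lgr Lrot44 (Lpe (f98680 IH) (Lpe (K4.f94241 IH) (Lpr_af (f102696 IH) (Lpn (LP (LK LD1_c1 LD2_c38 LD3_c46))))))
theorem f102704 : Led Lsl_df (LP (LK LD1_c3 LD2_c24 LD3_c37)) = (LP (LK LD1_c3 LD2_c24 LD3_c37)) :=
  Lgr Lrot12 (Lpr_bt (f12783 IH) (Lpr_dt (f102702 IH) (Lpr_bt (K4.f12794 IH) (Lpn (LP (LK LD1_c3 LD2_c24 LD3_c37))))))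
theorem f65525 : Led Lsl_bt (LP (LK LD1_c3 LD2_c15 LD3_c26)) = (LP (LK LD1_c6 LD2_c34 LD3_c2)) :=
  Lre_b IH (LK LD1_c3 LD2_c15 LD3_c26) (LK LD1_c6 LD2_c34 LD3_c2) Lrfl Lrfl
theorem f65527 : Led Lsl_dt (LP (LK LD1_c6 LD2_c34 LD3_c2)) = (LP (LK LD1_c6 LD2_c34 LD3_c2)) :=
  Lgr Lrot79 (Lpe (f65525 IH) (Lpr_df (f65516 IH) (Lpe (f65526 IH) (Lpn (LP (LK LD1_c6 LD2_c34 LD3_c2))))))
theorem f478585 : Led Lsl_af (LP (LK LD1_c6 LD2_c34 LD3_c2)) = (LP (LK LD1_c3 LD2_c38 LD3_c48)) :=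
  Lgr Lrot0 (Lpr_at (f478293 IH) (Lpn (LP (LK LD1_c3 LD2_c38 LD3_c48))))
theorem f478587 : Led Lsl_df (LP (LK LD1_c3 LD2_c38 LD3_c48)) = (LP (LK LD1_c3 LD2_c38 LD3_c48)) :=
  Lgr Lrot18 (Lpe (f478585 IH) (Lpr_dt (f65527 IH) (Lpr_at (f478293 IH) (Lpn (LP (LK LD1_c3 LD2_c38 LD3_c48))))))
theorem f478591 : Led Lsl_ft (LP (LK LD1_c3 LD2_c24 LD3_c37)) = (LP (LK LD1_c3 LD2_c38 LD3_c48)) :=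
  Lgr Lrot54 (Lpr_df (f102704 IH) (Lpr_ff (f478589 IH) (Lpr_df (f478587 IH) (Lpn (LP (LK LD1_c3 LD2_c38 LD3_c48))))))
theorem f483530 : Led Lsl_cf (LP (LK LD1_c3 LD2_c41 LD3_c47)) = (LP (LK LD1_c3 LD2_c38 LD3_c48)) :=
  Lgr Lrot108 (Lpr_ft (f483526 IH) (Lpr_ct (K4.f12778 IH) (Lpr_ft (f478591 IH) (Lpn (LP (LK LD1_c3 LD2_c38 LD3_c48))))))
theorem f483522 : Led Lsl_ct (LP (LK LD1_c3 LD2_c41 LD3_c47)) = (LP (LK LD1_c3 LD2_c38 LD3_c48)) :=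
  Lgr Lrot111 (Lpr_af (f483516 IH) (Lpe (f483462 IH) (Lpr_af (f478585 IH) (Lpn (LP (LK LD1_c3 LD2_c38 LD3_c48))))))
theorem f4864 : Led Lsl_dt (LP (LK LD1_c7 LD2_c24 LD3_c15)) = (LP (LK LD1_c3 LD2_c41 LD3_c47)) :=
  Lre_d IH (LK LD1_c7 LD2_c24 LD3_c15) (LK LD1_c3 LD2_c41 LD3_c47) Lrfl Lrfl
theorem f102878 : Led Lsl_dt (LP (LK LD1_c14 LD2_c5 LD3_c3)) = (LP (LK LD1_c23 LD2_c38 LD3_c13)) :=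
  Lre_d IH (LK LD1_c14 LD2_c5 LD3_c3) (LK LD1_c23 LD2_c38 LD3_c13) Lrfl Lrfl
theorem f137007 : Led Lsl_bf (LP (LK LD1_c14 LD2_c6 LD3_c2)) = (LP (LK LD1_c23 LD2_c38 LD3_c13)) :=
  Lgr Lrot93 (Lpr_dt (K7.f136999 IH) (Lpr_bt (K6.f137003 IH) (Lpr_dt (f102878 IH) (Lpn (LP (LK LD1_c23 LD2_c38 LD3_c13))))))
theorem f137013 : Led Lsl_bt (LP (LK LD1_c14 LD2_c6 LD3_c2)) = (LP (LK LD1_c23 LD2_c38 LD3_c13)) :=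
  Lgr Lrot127 (Lpr_bf (f137007 IH) (Lpn (LP (LK LD1_c23 LD2_c38 LD3_c13))))
theorem f137015 : Led Lsl_at (LP (LK LD1_c23 LD2_c38 LD3_c13)) = (LP (LK LD1_c14 LD2_c5 LD3_c6)) :=
  Lre_a IH (LK LD1_c23 LD2_c38 LD3_c13) (LK LD1_c14 LD2_c5 LD3_c6) Lrfl Lrfl
theorem f137016 : Led Lsl_bt (LP (LK LD1_c14 LD2_c5 LD3_c6)) = (LP (LK LD1_c7 LD2_c27 LD3_c39)) :=
  Lre_b IH (LK LD1_c14 LD2_c5 LD3_c6) (LK LD1_c7 LD2_c27 LD3_c39) Lrfl Lrfl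
theorem f137030 : Led Lsl_bt (LP (LK LD1_c7 LD2_c21 LD3_c47)) = (LP (LK LD1_c13 LD2_c55 LD3_c15)) :=
  Lre_b IH (LK LD1_c7 LD2_c21 LD3_c47) (LK LD1_c13 LD2_c55 LD3_c15) Lrfl Lrfl
theorem f137031 : Led Lsl_at (LP (LK LD1_c7 LD2_c27 LD3_c39)) = (LP (LK LD1_c7 LD2_c21 LD3_c47)) :=
  Lgr Lrot67 (Lpe (f137016 IH) (Lpe (f137015 IH) (Lpe (f137013 IH) (Lpr_af (K7.f137019 IH) (Lpe (f137030 IH) (Lpn (LP (LK LD1_c7 LD2_c21 LD3_c47))))))))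
theorem f483544 : Led Lsl_ft (LP (LK LD1_c7 LD2_c24 LD3_c15)) = (LP (LK LD1_c7 LD2_c27 LD3_c39)) :=
  Lgr Lrot142 (Lpr_dt (f4864 IH) (Lpr_ct (f483522 IH) (Lpe (f478587 IH) (Lpe (f483530 IH) (Lpr_dt (f4847 IH) (Lpr_ct (f4862 IH) (Lpr_dt (f483536 IH) (Lpr_ct (f123543 IH) (Lpe (f137031 IH) (Lpn (LP (LK LD1_c7 LD2_c27 LD3_c39))))))))))))
theorem f4505 : Led Lsl_dt (LP (LK LD1_c1 LD2_c47 LD3_c20)) = (LP (LK LD1_c1 LD2_c47 LD3_c20)) :=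
  Lgr Lrot44 (Lpe (K11.f4503 IH) (Lpr_df (f4501 IH) (Lpe (K11.f4504 IH) (Lpn (LP (LK LD1_c1 LD2_c47 LD3_c20))))))
theorem f4848 : Led Lsl_gt (LP (LK LD1_c1 LD2_c47 LD3_c20)) = (LP (LK LD1_c0 LD2_c50 LD3_c38)) :=
  Lre_g IH (LK LD1_c1 LD2_c47 LD3_c20) (LK LD1_c0 LD2_c50 LD3_c38) Lrfl Lrfl
theorem f4849 : Led Lsl_dt (LP (LK LD1_c0 LD2_c50 LD3_c38)) = (LP (LK LD1_c1 LD2_c47 LD3_c52)) :=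
  Lre_d IH (LK LD1_c0 LD2_c50 LD3_c38) (LK LD1_c1 LD2_c47 LD3_c52) Lrfl Lrfl
theorem f4850 : Led Lsl_ct (LP (LK LD1_c3 LD2_c41 LD3_c59)) = (LP (LK LD1_c1 LD2_c47 LD3_c52)) :=
  Lre_c IH (LK LD1_c3 LD2_c41 LD3_c59) (LK LD1_c1 LD2_c47 LD3_c52) Lrfl Lrfl
theorem f4851 : Led Lsl_dt (LP (LK LD1_c7 LD2_c24 LD3_c42)) = (LP (LK LD1_c3 LD2_c41 LD3_c59)) :=
  Lre_d IH (LK LD1_c7 LD2_c24 LD3_c42) (LK LD1_c3 LD2_c41 LD3_c59) Lrfl Lrfl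
theorem f4852 : Led Lsl_gt (LP (LK LD1_c7 LD2_c24 LD3_c15)) = (LP (LK LD1_c7 LD2_c24 LD3_c42)) :=
  Lgr Lrot49 (Lpe (f4847 IH) (Lpe (f4846 IH) (Lpe (f4845 IH) (Lpr_gt (K28.f4812 IH) (Lpr_dt (f4505 IH) (Lpr_gt (f4848 IH) (Lpr_dt (f4849 IH) (Lpe (f4850 IH) (Lpe (f4851 IH) (Lpn (LP (LK LD1_c7 LD2_c24 LD3_c42))))))))))))
theorem f483554 : Led Lsl_gt (LP (LK LD1_c7 LD2_c24 LD3_c42)) = (LP (LK LD1_c7 LD2_c21 LD3_c47)) :=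
  Lgr Lrot46 (Lpe (f4852 IH) (Lpr_ft (f483544 IH) (Lpr_at (f137031 IH) (Lpn (LP (LK LD1_c7 LD2_c21 LD3_c47))))))
theorem f4877 : Led Lsl_dt (LP (LK LD1_c3 LD2_c41 LD3_c59)) = (LP (LK LD1_c7 LD2_c24 LD3_c42)) :=
  Lre_d IH (LK LD1_c3 LD2_c41 LD3_c59) (LK LD1_c7 LD2_c24 LD3_c42) Lrfl Lrfl
theorem f4879 : Led Lsl_et (LP (LK LD1_c0 LD2_c10 LD3_c18)) = (LP (LK LD1_c0 LD2_c22 LD3_c52)) :=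
  Lre_e IH (LK LD1_c0 LD2_c10 LD3_c18) (LK LD1_c0 LD2_c22 LD3_c52) Lrfl Lrfl
theorem f4884 : Led Lsl_gt (LP (LK LD1_c0 LD2_c22 LD3_c52)) = (LP (LK LD1_c0 LD2_c50 LD3_c37)) :=
  Lre_g IH (LK LD1_c0 LD2_c22 LD3_c52) (LK LD1_c0 LD2_c50 LD3_c37) Lrfl Lrfl
theorem f4859 : Led Lsl_et (LP (LK LD1_c1 LD2_c47 LD3_c49)) = (LP (LK LD1_c0 LD2_c50 LD3_c37)) :=
  Lre_e IH (LK LD1_c1 LD2_c47 LD3_c49) (LK LD1_c0 LD2_c50 LD3_c37) Lrfl Lrfl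
theorem f4860 : Led Lsl_dt (LP (LK LD1_c1 LD2_c47 LD3_c49)) = (LP (LK LD1_c3 LD2_c41 LD3_c52)) :=
  Lre_d IH (LK LD1_c1 LD2_c47 LD3_c49) (LK LD1_c3 LD2_c41 LD3_c52) Lrfl Lrfl
theorem f84919 : Led Lsl_et (LP (LK LD1_c0 LD2_c53 LD3_c37)) = (LP (LK LD1_c0 LD2_c24 LD3_c6)) :=
  Lre_e IH (LK LD1_c0 LD2_c53 LD3_c37) (LK LD1_c0 LD2_c24 LD3_c6) Lrfl Lrfl
theorem f437909 : Led Lsl_gt (LP (LK LD1_c3 LD2_c41 LD3_c52)) = (LP (LK LD1_c1 LD2_c54 LD3_c3)) :=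
  Lgr Lrot112 (Lpe (f4860 IH) (Lpr_et (f4859 IH) (Lpe (f4884 IH) (Lpe (f4879 IH) (Lpr_dt (K6.f4881 IH) (Lpe (K3.f4902 IH) (Lpe (K4.f23678 IH) (Lpr_gf (K6.f143194 IH) (Lpe (f84919 IH) (Lpr_dt (K5.f84894 IH) (Lpn (LP (LK LD1_c1 LD2_c54 LD3_c3)))))))))))))
theorem f84788 : Led Lsl_ft (LP (LK LD1_c1 LD2_c54 LD3_c23)) = (LP (LK LD1_c0 LD2_c53 LD3_c44)) :=
  Lre_f IH (LK LD1_c1 LD2_c54 LD3_c23) (LK LD1_c0 LD2_c53 LD3_c44) Lrfl Lrfl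
theorem f437911 : Led Lsl_gf (LP (LK LD1_c3 LD2_c41 LD3_c52)) = (LP (LK LD1_c1 LD2_c54 LD3_c23)) :=
  Lgr Lrot47 (Lpr_gt (f437909 IH) (Lpe (K5.f84792 IH) (Lpe (f84788 IH) (Lpn (LP (LK LD1_c1 LD2_c54 LD3_c23))))))
theorem f4861 : Led Lsl_dt (LP (LK LD1_c1 LD2_c47 LD3_c52)) = (LP (LK LD1_c0 LD2_c50 LD3_c38)) :=
  Lre_d IH (LK LD1_c1 LD2_c47 LD3_c52) (LK LD1_c0 LD2_c50 LD3_c38) Lrfl Lrfl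
theorem f145357 : Led Lsl_dt (LP (LK LD1_c0 LD2_c53 LD3_c45)) = (LP (LK LD1_c1 LD2_c54 LD3_c23)) :=
  Lre_d IH (LK LD1_c0 LD2_c53 LD3_c45) (LK LD1_c1 LD2_c54 LD3_c23) Lrfl Lrfl
theorem f122815 : Led Lsl_gt (LP (LK LD1_c1 LD2_c53 LD3_c37)) = (LP (LK LD1_c0 LD2_c53 LD3_c31)) :=
  Lre_g IH (LK LD1_c1 LD2_c53 LD3_c37) (LK LD1_c0 LD2_c53 LD3_c31) Lrfl Lrfl
theorem f437922 : Led Lsl_et (LP (LK LD1_c1 LD2_c47 LD3_c52)) = (LP (LK LD1_c1 LD2_c53 LD3_c37)) :=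
  Lgr Lrot185 (Lpr_dt (f4861 IH) (Lpe (f4848 IH) (Lpe (f4505 IH) (Lpe (K28.f4812 IH) (Lpe (f4859 IH) (Lpr_dt (f4860 IH) (Lpr_gf (f437911 IH) (Lpe (f145357 IH) (Lpr_et (K6.f145347 IH) (Lpe (f122815 IH) (Lpn (LP (LK LD1_c1 LD2_c53 LD3_c37)))))))))))))
theorem f437927 : Led Lsl_ef (LP (LK LD1_c1 LD2_c47 LD3_c52)) = (LP (LK LD1_c1 LD2_c53 LD3_c37)) :=
  Lgr Lrot88 (Lpr_et (f437922 IH) (Lpn (LP (LK LD1_c1 LD2_c53 LD3_c37))))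
theorem f4855 : Led Lsl_ct (LP (LK LD1_c1 LD2_c47 LD3_c52)) = (LP (LK LD1_c3 LD2_c41 LD3_c59)) :=
  Lre_c IH (LK LD1_c1 LD2_c47 LD3_c52) (LK LD1_c3 LD2_c41 LD3_c59) Lrfl Lrfl
theorem f122816 : Led Lsl_ct (LP (LK LD1_c3 LD2_c53 LD3_c60)) = (LP (LK LD1_c1 LD2_c53 LD3_c37)) :=
  Lre_c IH (LK LD1_c3 LD2_c53 LD3_c60) (LK LD1_c1 LD2_c53 LD3_c37) Lrfl Lrfl
theorem f437929 : Led Lsl_et (LP (LK LD1_c3 LD2_c41 LD3_c59)) = (LP (LK LD1_c3 LD2_c53 LD3_c60)) :=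
  Lgr Lrot158 (Lpe (f4855 IH) (Lpr_ef (f437927 IH) (Lpe (f122816 IH) (Lpn (LP (LK LD1_c3 LD2_c53 LD3_c60))))))
theorem f122495 : Led Lsl_dt (LP (LK LD1_c3 LD2_c40 LD3_c46)) = (LP (LK LD1_c7 LD2_c21 LD3_c47)) :=
  Lre_d IH (LK LD1_c3 LD2_c40 LD3_c46) (LK LD1_c7 LD2_c21 LD3_c47) Lrfl Lrfl
theorem f122494 : Led Lsl_et (LP (LK LD1_c3 LD2_c40 LD3_c46)) = (LP (LK LD1_c1 LD2_c47 LD3_c21)) :=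
  Lre_e IH (LK LD1_c3 LD2_c40 LD3_c46) (LK LD1_c1 LD2_c47 LD3_c21) Lrfl Lrfl
theorem f483560 : Led Lsl_gf (LP (LK LD1_c3 LD2_c53 LD3_c60)) = (LP (LK LD1_c3 LD2_c42 LD3_c10)) :=
  Lgr Lrot141 (Lpe (f437929 IH) (Lpr_dt (f4877 IH) (Lpr_gt (f483554 IH) (Lpe (f122495 IH) (Lpr_et (f122494 IH) (Lpr_gt (K4.f12581 IH) (Lpr_dt (K4.f12588 IH) (Lpr_gt (K5.f12589 IH) (Lpr_df (K5.f122626 IH) (Lpr_et (K7.f120972 IH) (Lpn (LP (LK LD1_c3 LD2_c42 LD3_c10)))))))))))))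
theorem f437668 : Led Lsl_ct (LP (LK LD1_c1 LD2_c53 LD3_c37)) = (LP (LK LD1_c3 LD2_c53 LD3_c60)) :=
  Lre_c IH (LK LD1_c1 LD2_c53 LD3_c37) (LK LD1_c3 LD2_c53 LD3_c60) Lrfl Lrfl
theorem f123523 : Led Lsl_bt (LP (LK LD1_c1 LD2_c54 LD3_c29)) = (LP (LK LD1_c0 LD2_c53 LD3_c55)) :=
  Lre_b IH (LK LD1_c1 LD2_c54 LD3_c29) (LK LD1_c0 LD2_c53 LD3_c55) Lrfl Lrfl
theorem f479140 : Led Lsl_bf v671 = v671 :=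
  Lgr Lrot81 (Lpe (f455900 IH) (Lpr_bt (K28.f10163 IH) (Lpqs (f478696 IH) (Lpe (K24.f450767 IH) (Lpr_bt (f450768 IH) (Lpr_at (f455899 IH) (Lpn v671)))))))
theorem f478869 : Led Lsl_ff (LP (LK LD1_c1 LD2_c44 LD3_c15)) = v671 :=
  Lgr Lrot3 (Lpr_ft (f478866 IH) (Lpn v671))
theorem f479141 : Led Lsl_bt (LP (LK LD1_c1 LD2_c44 LD3_c15)) = (LP (LK LD1_c1 LD2_c44 LD3_c15)) :=
  Lgr Lrot35 (Lpr_ff (f478869 IH) (Lpr_bf (f479140 IH) (Lpe (f478866 IH) (Lpn (LP (LK LD1_c1 LD2_c44 LD3_c15))))))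
theorem f478729 : Led Lsl_ct (LP (LK LD1_c1 LD2_c44 LD3_c15)) = (LP (LK LD1_c3 LD2_c34 LD3_c59)) :=
  Lre_c IH (LK LD1_c1 LD2_c44 LD3_c15) (LK LD1_c3 LD2_c34 LD3_c59) Lrfl Lrfl
theorem f478728 : Led Lsl_dt (LP (LK LD1_c3 LD2_c34 LD3_c60)) = (LP (LK LD1_c1 LD2_c44 LD3_c15)) :=
  Lre_d IH (LK LD1_c3 LD2_c34 LD3_c60) (LK LD1_c1 LD2_c44 LD3_c15) Lrfl Lrfl
theorem f456128 : Led Lsl_at (LP (LK LD1_c1 LD2_c44 LD3_c16)) = (LP (LK LD1_c3 LD2_c34 LD3_c59)) :=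
  Lre_a IH (LK LD1_c1 LD2_c44 LD3_c16) (LK LD1_c3 LD2_c34 LD3_c59) Lrfl Lrfl
theorem f478739 : Led Lsl_ff (LP (LK LD1_c1 LD2_c44 LD3_c16)) = (LP (LK LD1_c1 LD2_c44 LD3_c11)) :=
  Lgr Lrot103 (Lpr_at (f456128 IH) (Lpe (f478729 IH) (Lpe (f478728 IH) (Lpe (f478717 IH) (Lpe (f478718 IH) (Lpr_cf (f478720 IH) (Lpe (f478719 IH) (Lpe (f467912 IH) (Lpe (f455896 IH) (Lpn (LP (LK LD1_c1 LD2_c44 LD3_c11))))))))))))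
theorem f478827 : Led Lsl_gf (LP (LK LD1_c3 LD2_c34 LD3_c59)) = (LP (LK LD1_c3 LD2_c27 LD3_c8)) :=
  Lgr Lrot76 (Lpe (f456128 IH) (Lpr_ff (f478739 IH) (Lpr_gt (f467909 IH) (Lpn (LP (LK LD1_c3 LD2_c27 LD3_c8))))))
theorem f90050 : Led Lsl_gt (LP (LK LD1_c1 LD2_c51 LD3_c9)) = (LP (LK LD1_c3 LD2_c48 LD3_c10)) :=
  Lre_g IH (LK LD1_c1 LD2_c51 LD3_c9) (LK LD1_c3 LD2_c48 LD3_c10) Lrfl Lrfl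
theorem f483566 : Led Lsl_bt (LP (LK LD1_c1 LD2_c53 LD3_c37)) = (LP (LK LD1_c1 LD2_c51 LD3_c9)) :=
  Lgr Lrot130 (Lpr_ct (f437668 IH) (Lpr_gf (f483560 IH) (Lpr_cf (f123511 IH) (Lpr_bt (f123523 IH) (Lpqs (f481861 IH) (Lpe (f478870 IH) (Lpe (f479141 IH) (Lpr_ct (f478729 IH) (Lpr_gf (f478827 IH) (Lpr_cf (f90043 IH) (Lpe (f90050 IH) (Lpn (LP (LK LD1_c1 LD2_c51 LD3_c9))))))))))))))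
theorem f437924 : Led Lsl_bt (LP (LK LD1_c3 LD2_c41 LD3_c54)) = (LP (LK LD1_c1 LD2_c47 LD3_c52)) :=
  Lre_b IH (LK LD1_c3 LD2_c41 LD3_c54) (LK LD1_c1 LD2_c47 LD3_c52) Lrfl Lrfl
theorem f483570 : Led Lsl_ef (LP (LK LD1_c3 LD2_c41 LD3_c54)) = (LP (LK LD1_c1 LD2_c51 LD3_c9)) :=
  Lgr Lrot29 (Lpr_bt (f437924 IH) (Lpr_et (f437922 IH) (Lpr_bt (f483566 IH) (Lpn (LP (LK LD1_c1 LD2_c51 LD3_c9))))))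
theorem f483573 : Led Lsl_et (LP (LK LD1_c3 LD2_c41 LD3_c54)) = (LP (LK LD1_c1 LD2_c51 LD3_c9)) :=
  Lgr Lrot87 (Lpr_ef (f483570 IH) (Lpn (LP (LK LD1_c1 LD2_c51 LD3_c9))))
theorem f478484 : Led Lsl_dt (LP (LK LD1_c3 LD2_c41 LD3_c54)) = (LP (LK LD1_c1 LD2_c47 LD3_c50)) :=
  Lre_d IH (LK LD1_c3 LD2_c41 LD3_c54) (LK LD1_c1 LD2_c47 LD3_c50) Lrfl Lrfl
theorem f97551 : Led Lsl_gt (LP (LK LD1_c0 LD2_c52 LD3_c27)) = (LP (LK LD1_c1 LD2_c51 LD3_c9)) :=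
  Lre_g IH (LK LD1_c0 LD2_c52 LD3_c27) (LK LD1_c1 LD2_c51 LD3_c9) Lrfl Lrfl
theorem f483576 : Led Lsl_gt (LP (LK LD1_c1 LD2_c47 LD3_c50)) = (LP (LK LD1_c1 LD2_c49 LD3_c28)) :=
  Lgr Lrot112 (Lpe (f478484 IH) (Lpr_et (f483573 IH) (Lpe (f97551 IH) (Lpe (K24.f84663 IH) (Lpe (K5.f64287 IH) (Lpe (K1.f17649 IH) (Lpe (K1.f17659 IH) (Lpe (K3.f97545 IH) (Lpe (K3.f85200 IH) (Lpr_dt (K3.f85201 IH) (Lpn (LP (LK LD1_c1 LD2_c49 LD3_c28)))))))))))))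
theorem f457168 : Led Lsl_bt (LP (LK LD1_c0 LD2_c50 LD3_c38)) = (LP (LK LD1_c1 LD2_c47 LD3_c50)) :=
  Lre_b IH (LK LD1_c0 LD2_c50 LD3_c38) (LK LD1_c1 LD2_c47 LD3_c50) Lrfl Lrfl
theorem f4856 : Led Lsl_ct (LP (LK LD1_c0 LD2_c50 LD3_c38)) = (LP (LK LD1_c1 LD2_c47 LD3_c51)) :=
  Lre_c IH (LK LD1_c0 LD2_c50 LD3_c38) (LK LD1_c1 LD2_c47 LD3_c51) Lrfl Lrfl
theorem f456988 : Led Lsl_bt (LP (LK LD1_c0 LD2_c49 LD3_c55)) = (LP (LK LD1_c1 LD2_c46 LD3_c21)) :=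
  Lre_b IH (LK LD1_c0 LD2_c49 LD3_c55) (LK LD1_c1 LD2_c46 LD3_c21) Lrfl Lrfl
theorem f483582 : Led Lsl_gf (LP (LK LD1_c1 LD2_c47 LD3_c51)) = (LP (LK LD1_c3 LD2_c41 LD3_c47)) :=
  Lgr Lrot129 (Lpe (f4856 IH) (Lpr_bt (f457168 IH) (Lpr_gt (f483576 IH) (Lpe (f440645 IH) (Lpr_ct (K28.f109481 IH) (Lpe (K28.f467976 IH) (Lpe (f4419 IH) (Lpr_bt (f456988 IH) (Lpr_gt (f456433 IH) (Lpe (f483530 IH) (Lpn (LP (LK LD1_c3 LD2_c41 LD3_c47)))))))))))))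
theorem f483588 : Led Lsl_gt (LP (LK LD1_c1 LD2_c47 LD3_c51)) = (LP (LK LD1_c3 LD2_c40 LD3_c46)) :=
  Lgr Lrot46 (Lpr_gf (f483582 IH) (Lpr_ft (f483526 IH) (Lpe (f123535 IH) (Lpn (LP (LK LD1_c3 LD2_c40 LD3_c46))))))
theorem f4888 : Led Lsl_ct (LP (LK LD1_c1 LD2_c47 LD3_c51)) = (LP (LK LD1_c0 LD2_c50 LD3_c38)) :=
  Lre_c IH (LK LD1_c1 LD2_c47 LD3_c51) (LK LD1_c0 LD2_c50 LD3_c38) Lrfl Lrfl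
theorem f4485 : Led Lsl_dt (LP (LK LD1_c0 LD2_c22 LD3_c52)) = (LP (LK LD1_c0 LD2_c22 LD3_c52)) :=
  Lgr Lrot79 (Lpe (K4.f4483 IH) (Lpr_df (K11.f4481 IH) (Lpe (K11.f4484 IH) (Lpn (LP (LK LD1_c0 LD2_c22 LD3_c52))))))
theorem f4885 : Led Lsl_dt (LP (LK LD1_c0 LD2_c50 LD3_c37)) = (LP (LK LD1_c1 LD2_c47 LD3_c48)) :=
  Lre_d IH (LK LD1_c0 LD2_c50 LD3_c37) (LK LD1_c1 LD2_c47 LD3_c48) Lrfl Lrfl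
theorem f4889 : Led Lsl_ct (LP (LK LD1_c1 LD2_c47 LD3_c48)) = (LP (LK LD1_c3 LD2_c41 LD3_c51)) :=
  Lre_c IH (LK LD1_c1 LD2_c47 LD3_c48) (LK LD1_c3 LD2_c41 LD3_c51) Lrfl Lrfl
theorem f4887 : Led Lsl_dt (LP (LK LD1_c7 LD2_c24 LD3_c28)) = (LP (LK LD1_c3 LD2_c41 LD3_c51)) :=
  Lre_d IH (LK LD1_c7 LD2_c24 LD3_c28) (LK LD1_c3 LD2_c41 LD3_c51) Lrfl Lrfl
theorem f483648 : Led Lsl_gf (LP (LK LD1_c7 LD2_c24 LD3_c28)) = (LP (LK LD1_c7 LD2_c21 LD3_c47)) :=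
  Lgr Lrot143 (Lpr_dt (f4887 IH) (Lpe (f4889 IH) (Lpe (f4885 IH) (Lpe (f4884 IH) (Lpe (f4485 IH) (Lpe (f4883 IH) (Lpe (f4888 IH) (Lpr_gt (f483588 IH) (Lpr_dt (f122495 IH) (Lpn (LP (LK LD1_c7 LD2_c21 LD3_c47))))))))))))
theorem f4813 : Led Lsl_ct (LP (LK LD1_c1 LD2_c47 LD3_c47)) = (LP (LK LD1_c0 LD2_c50 LD3_c37)) :=
  Lre_c IH (LK LD1_c1 LD2_c47 LD3_c47) (LK LD1_c0 LD2_c50 LD3_c37) Lrfl Lrfl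
theorem f4637 : Led Lsl_dt (LP (LK LD1_c7 LD2_c21 LD3_c41)) = (LP (LK LD1_c3 LD2_c40 LD3_c42)) :=
  Lre_d IH (LK LD1_c7 LD2_c21 LD3_c41) (LK LD1_c3 LD2_c40 LD3_c42) Lrfl Lrfl
theorem f4551 : Led Lsl_ft (LP (LK LD1_c3 LD2_c41 LD3_c43)) = (LP (LK LD1_c7 LD2_c24 LD3_c12)) :=
  Lre_f IH (LK LD1_c3 LD2_c41 LD3_c43) (LK LD1_c7 LD2_c24 LD3_c12) Lrfl Lrfl
theorem f4552 : Led Lsl_dt (LP (LK LD1_c7 LD2_c24 LD3_c11)) = (LP (LK LD1_c3 LD2_c41 LD3_c43)) :=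
  Lre_d IH (LK LD1_c7 LD2_c24 LD3_c11) (LK LD1_c3 LD2_c41 LD3_c43) Lrfl Lrfl
theorem f4553 : Led Lsl_ff (LP (LK LD1_c7 LD2_c24 LD3_c11)) = (LP (LK LD1_c7 LD2_c21 LD3_c40)) :=
  Lgr Lrot19 (Lpr_dt (f4552 IH) (Lpr_ft (f4551 IH) (Lpr_dt (f4524 IH) (Lpn (LP (LK LD1_c7 LD2_c21 LD3_c40))))))
theorem f4577 : Led Lsl_ft (LP (LK LD1_c7 LD2_c21 LD3_c41)) = (LP (LK LD1_c3 LD2_c40 LD3_c41)) :=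
  Lre_f IH (LK LD1_c7 LD2_c21 LD3_c41) (LK LD1_c3 LD2_c40 LD3_c41) Lrfl Lrfl
theorem f4578 : Led Lsl_ct (LP (LK LD1_c7 LD2_c24 LD3_c11)) = (LP (LK LD1_c7 LD2_c21 LD3_c41)) :=
  Lgr Lrot40 (Lpr_ff (f4553 IH) (Lpe (f4518 IH) (Lpe (f4577 IH) (Lpn (LP (LK LD1_c7 LD2_c21 LD3_c41))))))
theorem f4583 : Led Lsl_ft (LP (LK LD1_c7 LD2_c24 LD3_c11)) = (LP (LK LD1_c7 LD2_c21 LD3_c40)) :=
  Lgr Lrot48 (Lpr_ff (f4553 IH) (Lpn (LP (LK LD1_c7 LD2_c21 LD3_c40))))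
theorem f4537 : Led Lsl_at (LP (LK LD1_c7 LD2_c21 LD3_c40)) = (LP (LK LD1_c3 LD2_c41 LD3_c43)) :=
  Lre_a IH (LK LD1_c7 LD2_c21 LD3_c40) (LK LD1_c3 LD2_c41 LD3_c43) Lrfl Lrfl
theorem f4596 : Led Lsl_af (LP (LK LD1_c7 LD2_c24 LD3_c11)) = (LP (LK LD1_c7 LD2_c24 LD3_c12)) :=
  Lgr Lrot45 (Lpr_ft (f4583 IH) (Lpr_at (f4537 IH) (Lpr_ft (f4551 IH) (Lpn (LP (LK LD1_c7 LD2_c24 LD3_c12))))))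
theorem f4616 : Led Lsl_gt (LP (LK LD1_c3 LD2_c41 LD3_c43)) = (LP (LK LD1_c7 LD2_c24 LD3_c8)) :=
  Lre_g IH (LK LD1_c3 LD2_c41 LD3_c43) (LK LD1_c7 LD2_c24 LD3_c8) Lrfl Lrfl
theorem f4807 : Led Lsl_gf (LP (LK LD1_c7 LD2_c24 LD3_c11)) = (LP (LK LD1_c7 LD2_c24 LD3_c8)) :=
  Lgr Lrot76 (Lpr_af (f4596 IH) (Lpe (f4551 IH) (Lpr_gt (f4616 IH) (Lpn (LP (LK LD1_c7 LD2_c24 LD3_c8))))))
theorem f483660 : Led Lsl_ct (LP (LK LD1_c7 LD2_c24 LD3_c28)) = (LP (LK LD1_c7 LD2_c24 LD3_c8)) :=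
  Lgr Lrot152 (Lpr_gf (f483648 IH) (Lpe (f122495 IH) (Lpr_gt (f481690 IH) (Lpr_ct (f4813 IH) (Lpr_gt (K28.f4812 IH) (Lpr_ct (K28.f4639 IH) (Lpe (f4637 IH) (Lpe (f4578 IH) (Lpr_gf (f4807 IH) (Lpn (LP (LK LD1_c7 LD2_c24 LD3_c8))))))))))))
theorem f457172 : Led Lsl_dt (LP (LK LD1_c3 LD2_c41 LD3_c51)) = (LP (LK LD1_c7 LD2_c24 LD3_c28)) :=
  Lre_d IH (LK LD1_c3 LD2_c41 LD3_c51) (LK LD1_c7 LD2_c24 LD3_c28) Lrfl Lrfl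
theorem f457165 : Led Lsl_dt (LP (LK LD1_c3 LD2_c41 LD3_c49)) = (LP (LK LD1_c1 LD2_c47 LD3_c47)) :=
  Lre_d IH (LK LD1_c3 LD2_c41 LD3_c49) (LK LD1_c1 LD2_c47 LD3_c47) Lrfl Lrfl
theorem f457166 : Led Lsl_ct (LP (LK LD1_c7 LD2_c24 LD3_c22)) = (LP (LK LD1_c3 LD2_c41 LD3_c49)) :=
  Lre_c IH (LK LD1_c7 LD2_c24 LD3_c22) (LK LD1_c3 LD2_c41 LD3_c49) Lrfl Lrfl
theorem f4613 : Led Lsl_dt (LP (LK LD1_c0 LD2_c50 LD3_c36)) = (LP (LK LD1_c1 LD2_c47 LD3_c44)) :=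
  Lre_d IH (LK LD1_c0 LD2_c50 LD3_c36) (LK LD1_c1 LD2_c47 LD3_c44) Lrfl Lrfl
theorem f4609 : Led Lsl_ct (LP (LK LD1_c3 LD2_c41 LD3_c43)) = (LP (LK LD1_c1 LD2_c47 LD3_c44)) :=
  Lre_c IH (LK LD1_c3 LD2_c41 LD3_c43) (LK LD1_c1 LD2_c47 LD3_c44) Lrfl Lrfl
theorem f4606 : Led Lsl_gt (LP (LK LD1_c7 LD2_c24 LD3_c9)) = (LP (LK LD1_c3 LD2_c41 LD3_c43)) :=
  Lre_g IH (LK LD1_c7 LD2_c24 LD3_c9) (LK LD1_c3 LD2_c41 LD3_c43) Lrfl Lrfl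
theorem f483592 : Led Lsl_cf (LP (LK LD1_c7 LD2_c24 LD3_c9)) = (LP (LK LD1_c7 LD2_c24 LD3_c42)) :=
  Lgr Lrot169 (Lpr_gt (f4606 IH) (Lpr_ct (f4609 IH) (Lpe (f4613 IH) (Lpe (K4.f4612 IH) (Lpe (f4883 IH) (Lpe (f4888 IH) (Lpr_gf (f483582 IH) (Lpe (f4864 IH) (Lpr_gt (f4852 IH) (Lpn (LP (LK LD1_c7 LD2_c24 LD3_c42))))))))))))
def v772 : LQ := Led Lsl_at (LP (LK LD1_c0 LD2_c50 LD3_c37))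
theorem f457161 : Led Lsl_at (LP (LK LD1_c0 LD2_c50 LD3_c37)) = v772 :=
  Lrfl
theorem f457162 : Led Lsl_af (LP (LK LD1_c0 LD2_c50 LD3_c37)) = v772 :=
  Lgr Lrot0 (Lpr_at (f457161 IH) (Lpn v772))
theorem f457164 : Led Lsl_ft (LP (LK LD1_c0 LD2_c50 LD3_c38)) = v772 :=
  Lgr Lrot2 (Lpr_gt (f4883 IH) (Lpr_gt (f4884 IH) (Lpr_af (f457162 IH) (Lpn v772))))
theorem f483612 : Led Lsl_dt (LP (LK LD1_c7 LD2_c24 LD3_c9)) = (LP (LK LD1_c7 LD2_c24 LD3_c22)) :=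
  Lgr Lrot140 (Lpr_cf (f483592 IH) (Lpe (f4877 IH) (Lpe (f4855 IH) (Lpe (f4849 IH) (Lpr_ft (f457164 IH) (Lpe (f457162 IH) (Lpe (f4813 IH) (Lpe (f457165 IH) (Lpe (f457166 IH) (Lpn (LP (LK LD1_c7 LD2_c24 LD3_c22))))))))))))
theorem f457173 : Led Lsl_dt (LP (LK LD1_c3 LD2_c41 LD3_c57)) = (LP (LK LD1_c1 LD2_c47 LD3_c51)) :=
  Lre_d IH (LK LD1_c3 LD2_c41 LD3_c57) (LK LD1_c1 LD2_c47 LD3_c51) Lrfl Lrfl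
theorem f457174 : Led Lsl_ct (LP (LK LD1_c7 LD2_c24 LD3_c37)) = (LP (LK LD1_c3 LD2_c41 LD3_c57)) :=
  Lre_c IH (LK LD1_c7 LD2_c24 LD3_c37) (LK LD1_c3 LD2_c41 LD3_c57) Lrfl Lrfl
theorem f483667 : Led Lsl_df (LP (LK LD1_c7 LD2_c24 LD3_c37)) = (LP (LK LD1_c7 LD2_c24 LD3_c8)) :=
  Lgr Lrot43 (Lpr_ct (f457174 IH) (Lpr_dt (f457173 IH) (Lpr_ct (f4888 IH) (Lpr_dt (f4849 IH) (Lpr_ct (f4855 IH) (Lpr_dt (f4877 IH) (Lpe (f483592 IH) (Lpr_dt (f483612 IH) (Lpr_ct (f457166 IH) (Lpr_dt (f457165 IH) (Lpr_ct (f4813 IH) (Lpr_dt (f4885 IH) (Lpr_ct (f4889 IH) (Lpr_dt (f457172 IH) (Lpr_ct (f483660 IH) (Lpn (LP (LK LD1_c7 LD2_c24 LD3_c8))))))))))))))))))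
theorem f483695 : Led Lsl_dt (LP (LK LD1_c7 LD2_c24 LD3_c37)) = (LP (LK LD1_c7 LD2_c24 LD3_c8)) :=
  Lgr Lrot42 (Lpr_df (f483667 IH) (Lpn (LP (LK LD1_c7 LD2_c24 LD3_c8))))
theorem f483704 : Led Lsl_gt (LP (LK LD1_c13 LD2_c59 LD3_c30)) = (LP (LK LD1_c7 LD2_c24 LD3_c37)) :=
  Lre_g IH (LK LD1_c13 LD2_c59 LD3_c30) (LK LD1_c7 LD2_c24 LD3_c37) Lrfl Lrfl
theorem f462960 : Led Lsl_ct (LP (LK LD1_c13 LD2_c59 LD3_c30)) = (LP (LK LD1_c7 LD2_c23 LD3_c53)) :=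
  Lre_c IH (LK LD1_c13 LD2_c59 LD3_c30) (LK LD1_c7 LD2_c23 LD3_c53) Lrfl Lrfl
theorem f4614 : Led Lsl_ct (LP (LK LD1_c1 LD2_c47 LD3_c44)) = (LP (LK LD1_c3 LD2_c41 LD3_c43)) :=
  Lre_c IH (LK LD1_c1 LD2_c47 LD3_c44) (LK LD1_c3 LD2_c41 LD3_c43) Lrfl Lrfl
theorem f4810 : Led Lsl_dt (LP (LK LD1_c3 LD2_c41 LD3_c39)) = (LP (LK LD1_c1 LD2_c47 LD3_c43)) :=
  Lre_d IH (LK LD1_c3 LD2_c41 LD3_c39) (LK LD1_c1 LD2_c47 LD3_c43) Lrfl Lrfl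
theorem f483712 : Led Lsl_gt (LP (LK LD1_c7 LD2_c23 LD3_c53)) = (LP (LK LD1_c3 LD2_c41 LD3_c39)) :=
  Lgr Lrot94 (Lpe (f462960 IH) (Lpr_gt (f483704 IH) (Lpr_dt (f483695 IH) (Lpe (f4807 IH) (Lpr_dt (f4552 IH) (Lpe (f4614 IH) (Lpe (f4613 IH) (Lpe (K24.f4809 IH) (Lpe (f4810 IH) (Lpn (LP (LK LD1_c3 LD2_c41 LD3_c39))))))))))))
theorem f451845 : Led Lsl_et (LP (LK LD1_c3 LD2_c56 LD3_c33)) = (LP (LK LD1_c1 LD2_c54 LD3_c60)) :=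
  Lre_e IH (LK LD1_c3 LD2_c56 LD3_c33) (LK LD1_c1 LD2_c54 LD3_c60) Lrfl Lrfl
theorem f13408 : Led Lsl_gt (LP (LK LD1_c0 LD2_c50 LD3_c36)) = (LP (LK LD1_c1 LD2_c47 LD3_c42)) :=
  Lre_g IH (LK LD1_c0 LD2_c50 LD3_c36) (LK LD1_c1 LD2_c47 LD3_c42) Lrfl Lrfl
theorem f13409 : Led Lsl_dt (LP (LK LD1_c1 LD2_c47 LD3_c42)) = (LP (LK LD1_c3 LD2_c41 LD3_c36)) :=
  Lre_d IH (LK LD1_c1 LD2_c47 LD3_c42) (LK LD1_c3 LD2_c41 LD3_c36) Lrfl Lrfl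
theorem f437015 : Led Lsl_gt (LP (LK LD1_c3 LD2_c41 LD3_c36)) = (LP (LK LD1_c7 LD2_c23 LD3_c53)) :=
  Lre_g IH (LK LD1_c3 LD2_c41 LD3_c36) (LK LD1_c7 LD2_c23 LD3_c53) Lrfl Lrfl
theorem f462945 : Led Lsl_dt (LP (LK LD1_c3 LD2_c56 LD3_c33)) = (LP (LK LD1_c7 LD2_c23 LD3_c53)) :=
  Lgr Lrot56 (Lpr_et (f451845 IH) (Lpr_gt (K28.f462868 IH) (Lpe (K8.f142707 IH) (Lpr_dt (K7.f147574 IH) (Lpr_gt (K7.f4459 IH) (Lpe (K4.f12895 IH) (Lpr_et (K4.f12875 IH) (Lpr_gt (f13408 IH) (Lpr_dt (f13409 IH) (Lpr_gt (f437015 IH) (Lpn (LP (LK LD1_c7 LD2_c23 LD3_c53)))))))))))))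
theorem f458324 : Led Lsl_ft (LP (LK LD1_c3 LD2_c31 LD3_c29)) = (LP (LK LD1_c7 LD2_c4 LD3_c42)) :=
  Lre_f IH (LK LD1_c3 LD2_c31 LD3_c29) (LK LD1_c7 LD2_c4 LD3_c42) Lrfl Lrfl
theorem f470311 : Led Lsl_dt (LP (LK LD1_c7 LD2_c4 LD3_c42)) = (LP (LK LD1_c7 LD2_c51 LD3_c51)) :=
  Lgr Lrot60 (Lpe (f458324 IH) (Lpe (K28.f455729 IH) (Lpr_ff (K28.f470307 IH) (Lpn (LP (LK LD1_c7 LD2_c51 LD3_c51))))))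
theorem f436795 : Led Lsl_dt (LP (LK LD1_c1 LD2_c47 LD3_c43)) = (LP (LK LD1_c3 LD2_c41 LD3_c39)) :=
  Lre_d IH (LK LD1_c1 LD2_c47 LD3_c43) (LK LD1_c3 LD2_c41 LD3_c39) Lrfl Lrfl
theorem f456464 : Led Lsl_et (LP (LK LD1_c1 LD2_c47 LD3_c43)) = (LP (LK LD1_c3 LD2_c41 LD3_c40)) :=
  Lre_e IH (LK LD1_c1 LD2_c47 LD3_c43) (LK LD1_c3 LD2_c41 LD3_c40) Lrfl Lrfl
theorem f483720 : Led Lsl_gf (LP (LK LD1_c7 LD2_c4 LD3_c42)) = (LP (LK LD1_c3 LD2_c41 LD3_c40)) :=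
  Lgr Lrot138 (Lpr_dt (f470311 IH) (Lpe (K28.f160536 IH) (Lpe (K8.f95877 IH) (Lpe (K28.f463017 IH) (Lpe (K28.f451833 IH) (Lpe (f451845 IH) (Lpr_dt (f462945 IH) (Lpr_gt (f483712 IH) (Lpe (f436795 IH) (Lpr_et (f456464 IH) (Lpn (LP (LK LD1_c3 LD2_c41 LD3_c40)))))))))))))
theorem f455744 : Led Lsl_ct (LP (LK LD1_c3 LD2_c31 LD3_c34)) = (LP (LK LD1_c7 LD2_c4 LD3_c42)) :=
  Lre_c IH (LK LD1_c3 LD2_c31 LD3_c34) (LK LD1_c7 LD2_c4 LD3_c42) Lrfl Lrfl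
theorem f455640 : Led Lsl_ft (LP (LK LD1_c1 LD2_c42 LD3_c19)) = (LP (LK LD1_c3 LD2_c31 LD3_c34)) :=
  Lre_f IH (LK LD1_c1 LD2_c42 LD3_c19) (LK LD1_c3 LD2_c31 LD3_c34) Lrfl Lrfl
theorem f455742 : Led Lsl_bt (LP (LK LD1_c3 LD2_c31 LD3_c34)) = K24.v645 :=
  Lgr Lrot35 (Lpe (f455640 IH) (Lpe (K24.f451398 IH) (Lpr_ff (K24.f455741 IH) (Lpn K24.v645))))
theorem f457403 : Led Lsl_ct (LP (LK LD1_c1 LD2_c38 LD3_c55)) = (LP (LK LD1_c1 LD2_c38 LD3_c57)) :=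
  Lgr Lrot59 (Lpr_cf (K24.f457399 IH) (Lpn (LP (LK LD1_c1 LD2_c38 LD3_c57))))
theorem f451242 : Led Lsl_bt (LP (LK LD1_c1 LD2_c38 LD3_c55)) = (LP (LK LD1_c3 LD2_c24 LD3_c59)) :=
  Lre_b IH (LK LD1_c1 LD2_c38 LD3_c55) (LK LD1_c3 LD2_c24 LD3_c59) Lrfl Lrfl
theorem f93148 : Led Lsl_et (LP (LK LD1_c7 LD2_c17 LD3_c2)) = (LP (LK LD1_c3 LD2_c38 LD3_c21)) :=
  Lre_e IH (LK LD1_c7 LD2_c17 LD3_c2) (LK LD1_c3 LD2_c38 LD3_c21) Lrfl Lrfl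
theorem f456465 : Led Lsl_ct (LP (LK LD1_c3 LD2_c41 LD3_c40)) = (LP (LK LD1_c7 LD2_c17 LD3_c2)) :=
  Lgr Lrot15 (Lpe (f456464 IH) (Lpr_cf (K24.f456456 IH) (Lpe (f93148 IH) (Lpn (LP (LK LD1_c7 LD2_c17 LD3_c2))))))
theorem f456524 : Led Lsl_cf (LP (LK LD1_c3 LD2_c41 LD3_c40)) = (LP (LK LD1_c7 LD2_c17 LD3_c2)) :=
  Lgr Lrot11 (Lpr_ct (f456465 IH) (Lpn (LP (LK LD1_c7 LD2_c17 LD3_c2))))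
theorem f456519 : Led Lsl_bt (LP (LK LD1_c7 LD2_c17 LD3_c2)) = (LP (LK LD1_c3 LD2_c38 LD3_c23)) :=
  Lre_b IH (LK LD1_c7 LD2_c17 LD3_c2) (LK LD1_c3 LD2_c38 LD3_c23) Lrfl Lrfl
theorem f483722 : Led Lsl_gt (LP (LK LD1_c3 LD2_c24 LD3_c59)) = (LP (LK LD1_c3 LD2_c38 LD3_c23)) :=
  Lgr Lrot164 (Lpe (f451242 IH) (Lpr_ct (f457403 IH) (Lpq (K24.f457406 IH) (Lpe (K24.f457123 IH) (Lpr_cf (K24.f457423 IH) (Lpr_gf (K24.f457681 IH) (Lpq (K24.f458774 IH) (Lpe (f455742 IH) (Lpr_ct (f455744 IH) (Lpr_gf (f483720 IH) (Lpr_cf (f456524 IH) (Lpr_bt (f456519 IH) (Lpn (LP (LK LD1_c3 LD2_c38 LD3_c23)))))))))))))))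
theorem f483723 : Led Lsl_gt (LP (LK LD1_c3 LD2_c24 LD3_c59)) = (LP (LK LD1_c3 LD2_c38 LD3_c23)) :=
  Leop (Lpe (f483722 IH) (Lpn (LP (LK LD1_c3 LD2_c24 LD3_c59))))
theorem seed_75 : LEOK LG_g (LK LD1_c3 LD2_c24 LD3_c59) :=
  Leoe_g (LK LD1_c3 LD2_c24 LD3_c59) (f483723 IH)
theorem f456563 : Led Lsl_et (LP (LK LD1_c1 LD2_c47 LD3_c56)) = (LP (LK LD1_c0 LD2_c50 LD3_c40)) :=
  Lre_e IH (LK LD1_c1 LD2_c47 LD3_c56) (LK LD1_c0 LD2_c50 LD3_c40) Lrfl Lrfl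
theorem f457177 : Led Lsl_dt (LP (LK LD1_c1 LD2_c47 LD3_c56)) = (LP (LK LD1_c1 LD2_c54 LD3_c25)) :=
  Lre_d IH (LK LD1_c1 LD2_c47 LD3_c56) (LK LD1_c1 LD2_c54 LD3_c25) Lrfl Lrfl
theorem f459678 : Led Lsl_ff (LP (LK LD1_c0 LD2_c52 LD3_c13)) = v844 :=
  Lgr Lrot3 (Lpr_ft (f459675 IH) (Lpn v844))
theorem f87657 : Led Lsl_ft (LP (LK LD1_c0 LD2_c23 LD3_c45)) = (LP (LK LD1_c0 LD2_c52 LD3_c35)) :=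
  Lre_f IH (LK LD1_c0 LD2_c23 LD3_c45) (LK LD1_c0 LD2_c52 LD3_c35) Lrfl Lrfl
theorem f459681 : Led Lsl_at (LP (LK LD1_c0 LD2_c52 LD3_c35)) = v844 :=
  Lgr Lrot66 (Lpe (f87657 IH) (Lpe (K2.f87672 IH) (Lpr_ff (f459678 IH) (Lpn v844))))
theorem f459692 : Led Lsl_gt (LP (LK LD1_c0 LD2_c52 LD3_c33)) = v844 :=
  Lgr Lrot46 (Lpe (K5.f62691 IH) (Lpr_ft (f87657 IH) (Lpr_at (f459681 IH) (Lpn v844))))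
theorem f88464 : Led Lsl_et (LP (LK LD1_c0 LD2_c52 LD3_c13)) = (LP (LK LD1_c0 LD2_c23 LD3_c39)) :=
  Lre_e IH (LK LD1_c0 LD2_c52 LD3_c13) (LK LD1_c0 LD2_c23 LD3_c39) Lrfl Lrfl
theorem f459682 : Led Lsl_et (LP (LK LD1_c0 LD2_c52 LD3_c44)) = v844 :=
  Lgr Lrot69 (Lpe (f88465 IH) (Lpe (K3.f84977 IH) (Lpe (K2.f87923 IH) (Lpe (f88464 IH) (Lpr_ff (f459678 IH) (Lpn v844))))))
theorem f442290 : Led Lsl_dt (LP (LK LD1_c0 LD2_c52 LD3_c44)) = (LP (LK LD1_c1 LD2_c51 LD3_c56)) :=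
  Lre_d IH (LK LD1_c0 LD2_c52 LD3_c44) (LK LD1_c1 LD2_c51 LD3_c56) Lrfl Lrfl
theorem f487085 : Led Lsl_gf (LP (LK LD1_c1 LD2_c54 LD3_c25)) = (LP (LK LD1_c1 LD2_c51 LD3_c56)) :=
  Lgr Lrot145 (Lpe (f457177 IH) (Lpr_et (f456563 IH) (Lpqs (K28.f467674 IH) (Lpe (K28.f455531 IH) (Lpe (K3.f85229 IH) (Lpe (K28.f440739 IH) (Lpr_df (f442184 IH) (Lpr_et (K28.f62692 IH) (Lpr_gt (f459692 IH) (Lpe (f459682 IH) (Lpr_dt (f442290 IH) (Lpn (LP (LK LD1_c1 LD2_c51 LD3_c56))))))))))))))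
theorem f487086 : Led Lsl_gt (LP (LK LD1_c1 LD2_c51 LD3_c56)) = (LP (LK LD1_c1 LD2_c54 LD3_c25)) :=
  Leop (Lpr_gf (f487085 IH) (Lpn (LP (LK LD1_c1 LD2_c51 LD3_c56))))
theorem seed_76 : LEOK LG_g (LK LD1_c1 LD2_c51 LD3_c56) :=
  Leoe_g (LK LD1_c1 LD2_c51 LD3_c56) (f487086 IH)
theorem f480812 : Led Lsl_cf (LP (LK LD1_c3 LD2_c26 LD3_c46)) = (LP (LK LD1_c3 LD2_c55 LD3_c22)) :=
  Lgr Lrot11 (Lpr_ct (f480805 IH) (Lpn (LP (LK LD1_c3 LD2_c55 LD3_c22))))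
theorem f132188 : Led Lsl_dt (LP (LK LD1_c3 LD2_c26 LD3_c46)) = (LP (LK LD1_c6 LD2_c55 LD3_c21)) :=
  Lre_d IH (LK LD1_c3 LD2_c26 LD3_c46) (LK LD1_c6 LD2_c55 LD3_c21) Lrfl Lrfl
theorem f84803 : Led Lsl_gt (LP (LK LD1_c0 LD2_c53 LD3_c44)) = (LP (LK LD1_c1 LD2_c54 LD3_c20)) :=
  Lre_g IH (LK LD1_c0 LD2_c53 LD3_c44) (LK LD1_c1 LD2_c54 LD3_c20) Lrfl Lrfl
theorem f451201 : Led Lsl_ct (LP (LK LD1_c1 LD2_c54 LD3_c20)) = (LP (LK LD1_c3 LD2_c55 LD3_c29)) :=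
  Lre_c IH (LK LD1_c1 LD2_c54 LD3_c20) (LK LD1_c3 LD2_c55 LD3_c29) Lrfl Lrfl
theorem f451202 : Led Lsl_gt (LP (LK LD1_c3 LD2_c55 LD3_c29)) = (LP (LK LD1_c7 LD2_c52 LD3_c49)) :=
  Lre_g IH (LK LD1_c3 LD2_c55 LD3_c29) (LK LD1_c7 LD2_c52 LD3_c49) Lrfl Lrfl
theorem f487407 : Led Lsl_cf (LP (LK LD1_c6 LD2_c55 LD3_c21)) = (LP (LK LD1_c7 LD2_c52 LD3_c49)) :=
  Lgr Lrot99 (Lpe (f132188 IH) (Lpr_cf (f480812 IH) (Lpe (f446417 IH) (Lpe (f446416 IH) (Lpe (f84790 IH) (Lpe (f84789 IH) (Lpr_gt (f84803 IH) (Lpr_ct (f451201 IH) (Lpr_gt (f451202 IH) (Lpn (LP (LK LD1_c7 LD2_c52 LD3_c49))))))))))))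
theorem f487413 : Led Lsl_ct (LP (LK LD1_c6 LD2_c55 LD3_c21)) = (LP (LK LD1_c7 LD2_c52 LD3_c49)) :=
  Lgr Lrot59 (Lpr_cf (f487407 IH) (Lpn (LP (LK LD1_c7 LD2_c52 LD3_c49))))
theorem f480789 : Led Lsl_bt (LP (LK LD1_c6 LD2_c55 LD3_c21)) = (LP (LK LD1_c3 LD2_c26 LD3_c60)) :=
  Lre_b IH (LK LD1_c6 LD2_c55 LD3_c21) (LK LD1_c3 LD2_c26 LD3_c60) Lrfl Lrfl
def v225 : LQ := Led Lsl_ct (LP (LK LD1_c0 LD2_c24 LD3_c10))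
theorem f451194 : Led Lsl_ct (LP (LK LD1_c0 LD2_c24 LD3_c10)) = v225 :=
  Lrfl
def v723 : LQ := Led Lsl_ct (LP (LK LD1_c0 LD2_c49 LD3_c37))
theorem f456932 : Led Lsl_ct (LP (LK LD1_c0 LD2_c49 LD3_c37)) = v723 :=
  Lrfl
theorem f451195 : Led Lsl_cf (LP (LK LD1_c0 LD2_c24 LD3_c10)) = v225 :=
  Lgr Lrot11 (Lpr_ct (f451194 IH) (Lpn v225))
theorem f456934 : Led Lsl_gf v225 = v723 :=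
  Lgr Lrot104 (Lpe (f451195 IH) (Lpe (K6.f11269 IH) (Lpr_cf (K24.f122770 IH) (Lpe (K24.f12712 IH) (Lpq (K24.f455974 IH) (Lpe (K24.f450909 IH) (Lpe (K28.f10898 IH) (Lpe (K0.f5953 IH) (Lpe (K24.f10126 IH) (Lpr_ct (f456932 IH) (Lpn v723)))))))))))
theorem f451498 : Led Lsl_bt (LP (LK LD1_c0 LD2_c49 LD3_c37)) = (LP (LK LD1_c1 LD2_c45 LD3_c56)) :=
  Lre_b IH (LK LD1_c0 LD2_c49 LD3_c37) (LK LD1_c1 LD2_c45 LD3_c56) Lrfl Lrfl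
theorem f487439 : Led Lsl_gt (LP (LK LD1_c3 LD2_c26 LD3_c60)) = (LP (LK LD1_c1 LD2_c45 LD3_c56)) :=
  Lgr Lrot164 (Lpe (f480789 IH) (Lpr_ct (f487413 IH) (Lpe (f451202 IH) (Lpe (f451201 IH) (Lpe (f84803 IH) (Lpe (K6.f84780 IH) (Lpr_ct (f451194 IH) (Lpr_gf (f456934 IH) (Lpe (f456932 IH) (Lpr_bt (f451498 IH) (Lpn (LP (LK LD1_c1 LD2_c45 LD3_c56)))))))))))))
theorem f487440 : Led Lsl_gt (LP (LK LD1_c3 LD2_c26 LD3_c60)) = (LP (LK LD1_c1 LD2_c45 LD3_c56)) :=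
  Leop (Lpe (f487439 IH) (Lpn (LP (LK LD1_c3 LD2_c26 LD3_c60))))
theorem seed_77 : LEOK LG_g (LK LD1_c3 LD2_c26 LD3_c60) :=
  Leoe_g (LK LD1_c3 LD2_c26 LD3_c60) (f487440 IH)
theorem f87074 : Led Lsl_ct (LP (LK LD1_c3 LD2_c49 LD3_c15)) = (LP (LK LD1_c1 LD2_c51 LD3_c39)) :=
  Lre_c IH (LK LD1_c3 LD2_c49 LD3_c15) (LK LD1_c1 LD2_c51 LD3_c39) Lrfl Lrfl
theorem f5986 : Led Lsl_dt (LP (LK LD1_c1 LD2_c45 LD3_c40)) = (LP (LK LD1_c0 LD2_c49 LD3_c28)) :=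
  Lre_d IH (LK LD1_c1 LD2_c45 LD3_c40) (LK LD1_c0 LD2_c49 LD3_c28) Lrfl Lrfl
theorem f97299 : Led Lsl_ct (LP (LK LD1_c3 LD2_c36 LD3_c26)) = (LP (LK LD1_c7 LD2_c13 LD3_c13)) :=
  Lre_c IH (LK LD1_c3 LD2_c36 LD3_c26) (LK LD1_c7 LD2_c13 LD3_c13) Lrfl Lrfl
theorem f478677 : Led Lsl_gf (LP (LK LD1_c3 LD2_c49 LD3_c15)) = (LP (LK LD1_c7 LD2_c13 LD3_c13)) :=
  Lgr Lrot104 (Lpr_ct (f87074 IH) (Lpe (K28.f87128 IH) (Lpe (f98006 IH) (Lpr_gf (f478242 IH) (Lpe (f5958 IH) (Lpe (f5957 IH) (Lpe (f5986 IH) (Lpr_gt (K3.f10209 IH) (Lpr_ct (f97299 IH) (Lpn (LP (LK LD1_c7 LD2_c13 LD3_c13))))))))))))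
theorem f87093 : Led Lsl_ct (LP (LK LD1_c1 LD2_c51 LD3_c39)) = (LP (LK LD1_c3 LD2_c49 LD3_c15)) :=
  Lre_c IH (LK LD1_c1 LD2_c51 LD3_c39) (LK LD1_c3 LD2_c49 LD3_c15) Lrfl Lrfl
theorem f86915 : Led Lsl_bt (LP (LK LD1_c1 LD2_c51 LD3_c39)) = (LP (LK LD1_c0 LD2_c52 LD3_c43)) :=
  Lre_b IH (LK LD1_c1 LD2_c51 LD3_c39) (LK LD1_c0 LD2_c52 LD3_c43) Lrfl Lrfl
theorem f86937 : Led Lsl_gt (LP (LK LD1_c0 LD2_c52 LD3_c43)) = (LP (LK LD1_c1 LD2_c51 LD3_c53)) :=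
  Lre_g IH (LK LD1_c0 LD2_c52 LD3_c43) (LK LD1_c1 LD2_c51 LD3_c53) Lrfl Lrfl
theorem f487766 : Led Lsl_bf (LP (LK LD1_c1 LD2_c51 LD3_c53)) = (LP (LK LD1_c0 LD2_c53 LD3_c48)) :=
  Lgr Lrot34 (Lpe (f86937 IH) (Lpe (f86915 IH) (Lpr_ct (f87093 IH) (Lpr_gf (f478677 IH) (Lpe (f97299 IH) (Lpe (K3.f10209 IH) (Lpe (f10134 IH) (Lpr_ct (f456960 IH) (Lpe (f456962 IH) (Lpr_cf (f456963 IH) (Lpn (LP (LK LD1_c0 LD2_c53 LD3_c48)))))))))))))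
theorem f487767 : Led Lsl_bt (LP (LK LD1_c0 LD2_c53 LD3_c48)) = (LP (LK LD1_c1 LD2_c51 LD3_c53)) :=
  Leop (Lpr_bf (f487766 IH) (Lpn (LP (LK LD1_c0 LD2_c53 LD3_c48))))
theorem seed_78 : LEOK LG_b (LK LD1_c0 LD2_c53 LD3_c48) :=
  Leoe_b (LK LD1_c0 LD2_c53 LD3_c48) (f487767 IH)
theorem f452013 : Led Lsl_gf (LP (LK LD1_c0 LD2_c54 LD3_c11)) = (LP (LK LD1_c0 LD2_c54 LD3_c4)) :=
  Lgr Lrot76 (Lpe (K28.f11329 IH) (Lpq (K28.f451603 IH) (Lpe (K28.f451264 IH) (Lpr_gt (K24.f11356 IH) (Lpn (LP (LK LD1_c0 LD2_c54 LD3_c4)))))))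
theorem f463476 : Led Lsl_gf (LP (LK LD1_c1 LD2_c49 LD3_c5)) = (LP (LK LD1_c3 LD2_c31 LD3_c38)) :=
  Lgr Lrot172 (Lpe (K4.f116138 IH) (Lpr_dt (K5.f106199 IH) (Lpr_cf (K28.f142708 IH) (Lpe (K28.f462868 IH) (Lpe (K28.f11371 IH) (Lpr_gf (f452013 IH) (Lpq (K28.f462401 IH) (Lpe (K28.f459388 IH) (Lpqs (K28.f463258 IH) (Lpe (K28.f459278 IH) (Lpr_ct (K28.f458972 IH) (Lpn (LP (LK LD1_c3 LD2_c31 LD3_c38))))))))))))))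
theorem f123416 : Led Lsl_et (LP (LK LD1_c0 LD2_c24 LD3_c1)) = (LP (LK LD1_c0 LD2_c53 LD3_c28)) :=
  Lre_e IH (LK LD1_c0 LD2_c24 LD3_c1) (LK LD1_c0 LD2_c53 LD3_c28) Lrfl Lrfl
theorem f122781 : Led Lsl_gt (LP (LK LD1_c0 LD2_c53 LD3_c28)) = (LP (LK LD1_c1 LD2_c53 LD3_c46)) :=
  Lre_g IH (LK LD1_c0 LD2_c53 LD3_c28) (LK LD1_c1 LD2_c53 LD3_c46) Lrfl Lrfl
theorem f122782 : Led Lsl_dt (LP (LK LD1_c1 LD2_c53 LD3_c46)) = (LP (LK LD1_c3 LD2_c54 LD3_c20)) :=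
  Lre_d IH (LK LD1_c1 LD2_c53 LD3_c46) (LK LD1_c3 LD2_c54 LD3_c20) Lrfl Lrfl
theorem f148160 : Led Lsl_gt (LP (LK LD1_c3 LD2_c54 LD3_c20)) = (LP (LK LD1_c7 LD2_c50 LD3_c18)) :=
  Lre_g IH (LK LD1_c3 LD2_c54 LD3_c20) (LK LD1_c7 LD2_c50 LD3_c18) Lrfl Lrfl
theorem f459192 : Led Lsl_et (LP (LK LD1_c7 LD2_c4 LD3_c55)) = (LP (LK LD1_c3 LD2_c31 LD3_c38)) :=
  Lre_e IH (LK LD1_c7 LD2_c4 LD3_c55) (LK LD1_c3 LD2_c31 LD3_c38) Lrfl Lrfl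
theorem f489990 : Led Lsl_df (LP (LK LD1_c7 LD2_c50 LD3_c18)) = (LP (LK LD1_c7 LD2_c4 LD3_c55)) :=
  Lgr Lrot132 (Lpe (f148160 IH) (Lpe (f122782 IH) (Lpe (f122781 IH) (Lpe (f123416 IH) (Lpr_dt (K6.f95897 IH) (Lpr_gf (K7.f148154 IH) (Lpe (K4.f116073 IH) (Lpr_et (K4.f116151 IH) (Lpr_gf (f463476 IH) (Lpe (f459192 IH) (Lpn (LP (LK LD1_c7 LD2_c4 LD3_c55)))))))))))))
theorem f489999 : Led Lsl_dt (LP (LK LD1_c7 LD2_c50 LD3_c18)) = (LP (LK LD1_c7 LD2_c4 LD3_c55)) :=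
  Lgr Lrot42 (Lpr_df (f489990 IH) (Lpn (LP (LK LD1_c7 LD2_c4 LD3_c55))))
theorem f148256 : Led Lsl_dt (LP (LK LD1_c0 LD2_c53 LD3_c29)) = (LP (LK LD1_c1 LD2_c53 LD3_c52)) :=
  Lre_d IH (LK LD1_c0 LD2_c53 LD3_c29) (LK LD1_c1 LD2_c53 LD3_c52) Lrfl Lrfl
theorem f440373 : Led Lsl_gt (LP (LK LD1_c1 LD2_c53 LD3_c52)) = (LP (LK LD1_c3 LD2_c54 LD3_c34)) :=
  Lre_g IH (LK LD1_c1 LD2_c53 LD3_c52) (LK LD1_c3 LD2_c54 LD3_c34) Lrfl Lrfl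
theorem f459301 : Led Lsl_ct (LP (LK LD1_c3 LD2_c31 LD3_c40)) = (LP (LK LD1_c7 LD2_c4 LD3_c55)) :=
  Lre_c IH (LK LD1_c3 LD2_c31 LD3_c40) (LK LD1_c7 LD2_c4 LD3_c55) Lrfl Lrfl
theorem f490055 : Led Lsl_dt (LP (LK LD1_c3 LD2_c54 LD3_c34)) = (LP (LK LD1_c3 LD2_c31 LD3_c40)) :=
  Lgr Lrot105 (Lpe (f440373 IH) (Lpe (f148256 IH) (Lpe (f123410 IH) (Lpe (K24.f122768 IH) (Lpr_gt (f122781 IH) (Lpr_dt (f122782 IH) (Lpr_gt (f148160 IH) (Lpr_dt (f489999 IH) (Lpe (f459301 IH) (Lpn (LP (LK LD1_c3 LD2_c31 LD3_c40))))))))))))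
theorem f458996 : Led Lsl_et (LP (LK LD1_c3 LD2_c31 LD3_c40)) = (LP (LK LD1_c1 LD2_c42 LD3_c25)) :=
  Lre_e IH (LK LD1_c3 LD2_c31 LD3_c40) (LK LD1_c1 LD2_c42 LD3_c25) Lrfl Lrfl
theorem f131682 : Led Lsl_dt (LP (LK LD1_c1 LD2_c48 LD3_c55)) = (LP (LK LD1_c3 LD2_c43 LD3_c44)) :=
  Lre_d IH (LK LD1_c1 LD2_c48 LD3_c55) (LK LD1_c3 LD2_c43 LD3_c44) Lrfl Lrfl
theorem f490064 : Led Lsl_ef (LP (LK LD1_c3 LD2_c54 LD3_c34)) = (LP (LK LD1_c3 LD2_c43 LD3_c44)) :=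
  Lgr Lrot73 (Lpr_dt (f490055 IH) (Lpr_et (f458996 IH) (Lpr_dt (K28.f458946 IH) (Lpe (K28.f463478 IH) (Lpr_dt (f131682 IH) (Lpn (LP (LK LD1_c3 LD2_c43 LD3_c44))))))))
theorem f131667 : Led Lsl_dt (LP (LK LD1_c1 LD2_c48 LD3_c56)) = (LP (LK LD1_c0 LD2_c51 LD3_c14)) :=
  Lre_d IH (LK LD1_c1 LD2_c48 LD3_c56) (LK LD1_c0 LD2_c51 LD3_c14) Lrfl Lrfl
theorem f106111 : Led Lsl_dt (LP (LK LD1_c3 LD2_c36 LD3_c1)) = (LP (LK LD1_c1 LD2_c44 LD3_c53)) :=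
  Lre_d IH (LK LD1_c3 LD2_c36 LD3_c1) (LK LD1_c1 LD2_c44 LD3_c53) Lrfl Lrfl
theorem f131712 : Led Lsl_bf (LP (LK LD1_c3 LD2_c36 LD3_c1)) = (LP (LK LD1_c1 LD2_c48 LD3_c56)) :=
  Lgr Lrot93 (Lpr_dt (f106111 IH) (Lpr_bt (K5.f131703 IH) (Lpr_dt (K5.f131711 IH) (Lpn (LP (LK LD1_c1 LD2_c48 LD3_c56))))))
theorem f439195 : Led Lsl_bt (LP (LK LD1_c3 LD2_c36 LD3_c1)) = (LP (LK LD1_c1 LD2_c48 LD3_c56)) :=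
  Lgr Lrot127 (Lpr_bf (f131712 IH) (Lpn (LP (LK LD1_c1 LD2_c48 LD3_c56))))
theorem f439199 : Led Lsl_ef (LP (LK LD1_c1 LD2_c38 LD3_c60)) = (LP (LK LD1_c1 LD2_c48 LD3_c56)) :=
  Lgr Lrot29 (Lpr_bt (K5.f17712 IH) (Lpr_et (K4.f17721 IH) (Lpr_bt (f439195 IH) (Lpn (LP (LK LD1_c1 LD2_c48 LD3_c56))))))
def v214 : LQ := Led Lsl_dt (LP (LK LD1_c0 LD2_c24 LD3_c2))
theorem f451146 : Led Lsl_dt (LP (LK LD1_c0 LD2_c24 LD3_c2)) = v214 :=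
  Lrfl
theorem f451149 : Led Lsl_ef (LP (LK LD1_c0 LD2_c45 LD3_c59)) = v214 :=
  Lgr Lrot73 (Lpr_dt (K5.f21074 IH) (Lpr_et (K6.f21147 IH) (Lpr_dt (K5.f124866 IH) (Lpr_et (f131680 IH) (Lpr_dt (f451146 IH) (Lpn v214))))))
theorem f451148 : Led Lsl_df (LP (LK LD1_c0 LD2_c24 LD3_c2)) = v214 :=
  Lgr Lrot38 (Lpr_dt (f451146 IH) (Lpn v214))
theorem f451150 : Led Lsl_dt (LP (LK LD1_c1 LD2_c53 LD3_c56)) = (LP (LK LD1_c0 LD2_c53 LD3_c30)) :=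
  Lre_d IH (LK LD1_c1 LD2_c53 LD3_c56) (LK LD1_c0 LD2_c53 LD3_c30) Lrfl Lrfl
theorem f490074 : Led Lsl_gt (LP (LK LD1_c3 LD2_c54 LD3_c34)) = (LP (LK LD1_c1 LD2_c53 LD3_c56)) :=
  Lgr Lrot137 (Lpr_ef (f490064 IH) (Lpr_dt (K28.f209153 IH) (Lpe (K28.f131679 IH) (Lpe (f131667 IH) (Lpe (f439199 IH) (Lpr_gf (K6.f143200 IH) (Lpr_ef (f451149 IH) (Lpe (f451148 IH) (Lpe (f123407 IH) (Lpe (f451150 IH) (Lpn (LP (LK LD1_c1 LD2_c53 LD3_c56)))))))))))))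
theorem f490075 : Led Lsl_gt (LP (LK LD1_c3 LD2_c54 LD3_c34)) = (LP (LK LD1_c1 LD2_c53 LD3_c56)) :=
  Leop (Lpe (f490074 IH) (Lpn (LP (LK LD1_c3 LD2_c54 LD3_c34))))
theorem seed_79 : LEOK LG_g (LK LD1_c3 LD2_c54 LD3_c34) :=
  Leoe_g (LK LD1_c3 LD2_c54 LD3_c34) (f490075 IH)
def v879 : LQ := Led Lsl_dt (LP (LK LD1_c0 LD2_c53 LD3_c24))
theorem f490220 : Led Lsl_dt (LP (LK LD1_c0 LD2_c53 LD3_c24)) = v879 :=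
  Lrfl
theorem f134781 : Led Lsl_et (LP (LK LD1_c0 LD2_c24 LD3_c0)) = (LP (LK LD1_c0 LD2_c53 LD3_c24)) :=
  Lre_e IH (LK LD1_c0 LD2_c24 LD3_c0) (LK LD1_c0 LD2_c53 LD3_c24) Lrfl Lrfl
theorem f490223 : Led Lsl_ef (LP (LK LD1_c1 LD2_c39 LD3_c0)) = v879 :=
  Lgr Lrot73 (Lpr_dt (K5.f21113 IH) (Lpr_et (K5.f21105 IH) (Lpr_dt (K5.f134775 IH) (Lpr_et (f134781 IH) (Lpr_dt (f490220 IH) (Lpn v879))))))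
def v771 : LQ := Led Lsl_dt (LP (LK LD1_c0 LD2_c50 LD3_c32))
theorem f457154 : Led Lsl_dt (LP (LK LD1_c0 LD2_c50 LD3_c32)) = v771 :=
  Lrfl
theorem f109443 : Led Lsl_et (LP (LK LD1_c0 LD2_c22 LD3_c50)) = (LP (LK LD1_c0 LD2_c50 LD3_c32)) :=
  Lre_e IH (LK LD1_c0 LD2_c22 LD3_c50) (LK LD1_c0 LD2_c50 LD3_c32) Lrfl Lrfl
theorem f457157 : Led Lsl_ef (LP (LK LD1_c1 LD2_c39 LD3_c14)) = v771 :=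
  Lgr Lrot73 (Lpr_dt (K5.f108873 IH) (Lpr_et (K5.f84774 IH) (Lpr_dt (K3.f108793 IH) (Lpr_et (f109443 IH) (Lpr_dt (f457154 IH) (Lpn v771))))))
theorem f457156 : Led Lsl_df (LP (LK LD1_c0 LD2_c50 LD3_c32)) = v771 :=
  Lgr Lrot38 (Lpr_dt (f457154 IH) (Lpn v771))
theorem f458302 : Led Lsl_dt (LP (LK LD1_c3 LD2_c31 LD3_c35)) = (LP (LK LD1_c1 LD2_c42 LD3_c20)) :=
  Lre_d IH (LK LD1_c3 LD2_c31 LD3_c35) (LK LD1_c1 LD2_c42 LD3_c20) Lrfl Lrfl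
theorem f458262 : Led Lsl_et (LP (LK LD1_c1 LD2_c42 LD3_c27)) = (LP (LK LD1_c1 LD2_c42 LD3_c20)) :=
  Lgr Lrot158 (Lpe (K24.f455703 IH) (Lpr_ef (K28.f458259 IH) (Lpe (K24.f455650 IH) (Lpn (LP (LK LD1_c1 LD2_c42 LD3_c20))))))
theorem f455760 : Led Lsl_et (LP (LK LD1_c1 LD2_c42 LD3_c28)) = (LP (LK LD1_c0 LD2_c47 LD3_c43)) :=
  Lre_e IH (LK LD1_c1 LD2_c42 LD3_c28) (LK LD1_c0 LD2_c47 LD3_c43) Lrfl Lrfl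
theorem f458290 : Led Lsl_dt (LP (LK LD1_c3 LD2_c31 LD3_c49)) = (LP (LK LD1_c1 LD2_c42 LD3_c28)) :=
  Lre_d IH (LK LD1_c3 LD2_c31 LD3_c49) (LK LD1_c1 LD2_c42 LD3_c28) Lrfl Lrfl
theorem f458291 : Led Lsl_dt (LP (LK LD1_c1 LD2_c42 LD3_c20)) = (LP (LK LD1_c3 LD2_c31 LD3_c35)) :=
  Lre_d IH (LK LD1_c1 LD2_c42 LD3_c20) (LK LD1_c3 LD2_c31 LD3_c35) Lrfl Lrfl
theorem f458292 : Led Lsl_ef (LP (LK LD1_c3 LD2_c31 LD3_c49)) = (LP (LK LD1_c3 LD2_c31 LD3_c35)) :=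
  Lgr Lrot73 (Lpr_dt (f458290 IH) (Lpr_et (f455760 IH) (Lpr_dt (K24.f455752 IH) (Lpr_et (f458262 IH) (Lpr_dt (f458291 IH) (Lpn (LP (LK LD1_c3 LD2_c31 LD3_c35))))))))
theorem f490222 : Led Lsl_df (LP (LK LD1_c0 LD2_c53 LD3_c24)) = v879 :=
  Lgr Lrot38 (Lpr_dt (f490220 IH) (Lpn v879))
theorem f456009 : Led Lsl_dt (LP (LK LD1_c3 LD2_c54 LD3_c0)) = (LP (LK LD1_c1 LD2_c53 LD3_c38)) :=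
  Lre_d IH (LK LD1_c3 LD2_c54 LD3_c0) (LK LD1_c1 LD2_c53 LD3_c38) Lrfl Lrfl
theorem f490227 : Led Lsl_gt (LP (LK LD1_c3 LD2_c31 LD3_c49)) = (LP (LK LD1_c3 LD2_c54 LD3_c0)) :=
  Lgr Lrot137 (Lpr_ef (f458292 IH) (Lpr_dt (f458302 IH) (Lpq (K28.f466161 IH) (Lpe (K28.f457152 IH) (Lpr_df (f457156 IH) (Lpe (f457157 IH) (Lpr_gf (K5.f134856 IH) (Lpr_ef (f490223 IH) (Lpe (f490222 IH) (Lpe (K24.f134853 IH) (Lpe (f456009 IH) (Lpn (LP (LK LD1_c3 LD2_c54 LD3_c0))))))))))))))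
theorem f490228 : Led Lsl_gt (LP (LK LD1_c3 LD2_c31 LD3_c49)) = (LP (LK LD1_c3 LD2_c54 LD3_c0)) :=
  Leop (Lpe (f490227 IH) (Lpn (LP (LK LD1_c3 LD2_c31 LD3_c49))))
theorem seed_80 : LEOK LG_g (LK LD1_c3 LD2_c31 LD3_c49) :=
  Leoe_g (LK LD1_c3 LD2_c31 LD3_c49) (f490228 IH)
def v899 : LQ := Led Lsl_dt (LP (LK LD1_c0 LD2_c53 LD3_c55))
theorem f490325 : Led Lsl_dt (LP (LK LD1_c0 LD2_c53 LD3_c55)) = v899 :=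
  Lrfl
theorem f64374 : Led Lsl_dt (LP (LK LD1_c1 LD2_c42 LD3_c34)) = (LP (LK LD1_c0 LD2_c47 LD3_c51)) :=
  Lre_d IH (LK LD1_c1 LD2_c42 LD3_c34) (LK LD1_c0 LD2_c47 LD3_c51) Lrfl Lrfl
theorem f490328 : Led Lsl_ef (LP (LK LD1_c1 LD2_c42 LD3_c34)) = v899 :=
  Lgr Lrot73 (Lpr_dt (f64374 IH) (Lpr_et (K2.f18139 IH) (Lpe (K4.f90242 IH) (Lpr_et (f90260 IH) (Lpr_dt (f490325 IH) (Lpn v899))))))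
def v623 : LQ := Led Lsl_dt (LP (LK LD1_c0 LD2_c47 LD3_c35))
theorem f455570 : Led Lsl_dt (LP (LK LD1_c0 LD2_c47 LD3_c35)) = v623 :=
  Lrfl
theorem f455577 : Led Lsl_ef (LP (LK LD1_c0 LD2_c47 LD3_c55)) = v623 :=
  Lgr Lrot73 (Lpr_dt (K7.f18134 IH) (Lpr_et (K2.f18133 IH) (Lpr_dt (K1.f18058 IH) (Lpr_et (K1.f18070 IH) (Lpr_dt (f455570 IH) (Lpn v623))))))
theorem f455576 : Led Lsl_df (LP (LK LD1_c0 LD2_c47 LD3_c35)) = v623 :=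
  Lgr Lrot38 (Lpr_dt (f455570 IH) (Lpn v623))
theorem f98730 : Led Lsl_dt (LP (LK LD1_c3 LD2_c31 LD3_c15)) = (LP (LK LD1_c1 LD2_c42 LD3_c9)) :=
  Lre_d IH (LK LD1_c3 LD2_c31 LD3_c15) (LK LD1_c1 LD2_c42 LD3_c9) Lrfl Lrfl
theorem f490327 : Led Lsl_df (LP (LK LD1_c0 LD2_c53 LD3_c55)) = v899 :=
  Lgr Lrot38 (Lpr_dt (f490325 IH) (Lpn v899))
theorem f455892 : Led Lsl_gt (LP (LK LD1_c1 LD2_c44 LD3_c12)) = (LP (LK LD1_c3 LD2_c34 LD3_c54)) :=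
  Lre_g IH (LK LD1_c1 LD2_c44 LD3_c12) (LK LD1_c3 LD2_c34 LD3_c54) Lrfl Lrfl
theorem f478715 : Led Lsl_gf (LP (LK LD1_c3 LD2_c34 LD3_c60)) = (LP (LK LD1_c3 LD2_c34 LD3_c54)) :=
  Lgr Lrot76 (Lpe (f456737 IH) (Lpr_ff (f478707 IH) (Lpr_gt (f455892 IH) (Lpn (LP (LK LD1_c3 LD2_c34 LD3_c54))))))
theorem f490331 : Led Lsl_et (LP (LK LD1_c3 LD2_c31 LD3_c15)) = (LP (LK LD1_c3 LD2_c34 LD3_c54)) :=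
  Lgr Lrot121 (Lpr_dt (f98730 IH) (Lpe (K24.f18073 IH) (Lpr_df (f455576 IH) (Lpe (f455577 IH) (Lpr_gf (K2.f64365 IH) (Lpr_ef (f490328 IH) (Lpe (f490327 IH) (Lpqs (f481861 IH) (Lpe (f478870 IH) (Lpe (f478728 IH) (Lpr_gf (f478715 IH) (Lpn (LP (LK LD1_c3 LD2_c34 LD3_c54))))))))))))))
theorem f490332 : Led Lsl_et (LP (LK LD1_c3 LD2_c31 LD3_c15)) = (LP (LK LD1_c3 LD2_c34 LD3_c54)) :=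
  Leop (Lpe (f490331 IH) (Lpn (LP (LK LD1_c3 LD2_c31 LD3_c15))))
theorem seed_81 : LEOK LG_e (LK LD1_c3 LD2_c31 LD3_c15) :=
  Leoe_e (LK LD1_c3 LD2_c31 LD3_c15) (f490332 IH)
def v917 : LQ := Led Lsl_et (LP (LK LD1_c0 LD2_c54 LD3_c7))
theorem f490425 : Led Lsl_et (LP (LK LD1_c0 LD2_c54 LD3_c7)) = v917 :=
  Lrfl
theorem f11340 : Led Lsl_dt (LP (LK LD1_c0 LD2_c54 LD3_c7)) = (LP (LK LD1_c0 LD2_c24 LD3_c20)) :=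
  Lre_d IH (LK LD1_c0 LD2_c54 LD3_c7) (LK LD1_c0 LD2_c24 LD3_c20) Lrfl Lrfl
def v807 : LQ := Led Lsl_gf (LP (LK LD1_c0 LD2_c51 LD3_c17))
theorem f459483 : Led Lsl_gf (LP (LK LD1_c0 LD2_c51 LD3_c17)) = v807 :=
  Lrfl
theorem f458997 : Led Lsl_gt (LP (LK LD1_c1 LD2_c42 LD3_c25)) = K24.v631 :=
  Lgr Lrot5 (Lpr_ft (K28.f458987 IH) (Lpr_at (K28.f450712 IH) (Lpr_gf (K24.f455619 IH) (Lpn K24.v631))))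
theorem f463256 : (LP (LK LD1_c1 LD2_c42 LD3_c25)) = v807 :=
  Lefun (Lecon (Lfl_gt (f458997 IH)) (K28.f463253 IH)) (f459483 IH)
theorem f490062 : Led Lsl_df (LP (LK LD1_c3 LD2_c54 LD3_c34)) = (LP (LK LD1_c3 LD2_c31 LD3_c40)) :=
  Lgr Lrot38 (Lpr_dt (f490055 IH) (Lpn (LP (LK LD1_c3 LD2_c31 LD3_c40))))
theorem f490430 : Led Lsl_gf (LP (LK LD1_c1 LD2_c53 LD3_c53)) = v917 :=
  Lgr Lrot141 (Lpe (f148249 IH) (Lpr_dt (f148256 IH) (Lpr_gt (f440373 IH) (Lpr_df (f490062 IH) (Lpr_et (f458996 IH) (Lpqs (f463256 IH) (Lpe (f459483 IH) (Lpr_dt (K28.f159492 IH) (Lpq (K28.f462396 IH) (Lpe (K24.f451252 IH) (Lpe (f11340 IH) (Lpr_et (f490425 IH) (Lpn v917)))))))))))))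
theorem f11339 : Led Lsl_et (LP (LK LD1_c0 LD2_c24 LD3_c20)) = (LP (LK LD1_c0 LD2_c54 LD3_c8)) :=
  Lre_e IH (LK LD1_c0 LD2_c24 LD3_c20) (LK LD1_c0 LD2_c54 LD3_c8) Lrfl Lrfl
theorem f11381 : Led Lsl_et (LP (LK LD1_c0 LD2_c54 LD3_c13)) = (LP (LK LD1_c0 LD2_c24 LD3_c24)) :=
  Lre_e IH (LK LD1_c0 LD2_c54 LD3_c13) (LK LD1_c0 LD2_c24 LD3_c24) Lrfl Lrfl
theorem f490429 : Led Lsl_ff (LP (LK LD1_c0 LD2_c54 LD3_c13)) = v917 :=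
  Lgr Lrot72 (Lpr_et (f11381 IH) (Lpq (K28.f451603 IH) (Lpe (K28.f451266 IH) (Lpr_et (f11339 IH) (Lpr_ft (K28.f451909 IH) (Lpr_et (f490425 IH) (Lpn v917)))))))
theorem f451377 : Led Lsl_at (LP (LK LD1_c0 LD2_c54 LD3_c13)) = (LP (LK LD1_c1 LD2_c54 LD3_c61)) :=
  Lre_a IH (LK LD1_c0 LD2_c54 LD3_c13) (LK LD1_c1 LD2_c54 LD3_c61) Lrfl Lrfl
theorem f490431 : Led Lsl_gt (LP (LK LD1_c1 LD2_c53 LD3_c53)) = (LP (LK LD1_c1 LD2_c54 LD3_c61)) :=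
  Lgr Lrot46 (Lpr_gf (f490430 IH) (Lpe (f490429 IH) (Lpr_at (f451377 IH) (Lpn (LP (LK LD1_c1 LD2_c54 LD3_c61))))))
theorem f490432 : Led Lsl_gt (LP (LK LD1_c1 LD2_c53 LD3_c53)) = (LP (LK LD1_c1 LD2_c54 LD3_c61)) :=
  Leop (Lpe (f490431 IH) (Lpn (LP (LK LD1_c1 LD2_c53 LD3_c53))))
theorem seed_82 : LEOK LG_g (LK LD1_c1 LD2_c53 LD3_c53) :=
  Leoe_g (LK LD1_c1 LD2_c53 LD3_c53) (f490432 IH)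
theorem f452039 : Led Lsl_ct (LP (LK LD1_c3 LD2_c56 LD3_c33)) = (LP (LK LD1_c1 LD2_c54 LD3_c61)) :=
  Lre_c IH (LK LD1_c3 LD2_c56 LD3_c33) (LK LD1_c1 LD2_c54 LD3_c61) Lrfl Lrfl
theorem f462955 : Led Lsl_df (LP (LK LD1_c3 LD2_c56 LD3_c33)) = (LP (LK LD1_c7 LD2_c23 LD3_c53)) :=
  Lgr Lrot38 (Lpr_dt (f462945 IH) (Lpn (LP (LK LD1_c7 LD2_c23 LD3_c53))))
theorem f11318 : Led Lsl_dt (LP (LK LD1_c0 LD2_c24 LD3_c24)) = (LP (LK LD1_c0 LD2_c54 LD3_c8)) :=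
  Lgr Lrot79 (Lpe (K28.f11316 IH) (Lpr_df (K11.f11314 IH) (Lpe (K28.f11317 IH) (Lpn (LP (LK LD1_c0 LD2_c54 LD3_c8))))))
theorem f490427 : Led Lsl_df (LP (LK LD1_c0 LD2_c54 LD3_c13)) = v917 :=
  Lgr Lrot70 (Lpr_et (f11381 IH) (Lpr_dt (f11318 IH) (Lpr_et (K24.f11354 IH) (Lpr_dt (K24.f11382 IH) (Lpr_et (f490425 IH) (Lpn v917))))))
theorem f451365 : Led Lsl_ct (LP (LK LD1_c0 LD2_c54 LD3_c13)) = (LP (LK LD1_c1 LD2_c55 LD3_c3)) :=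
  Lre_c IH (LK LD1_c0 LD2_c54 LD3_c13) (LK LD1_c1 LD2_c55 LD3_c3) Lrfl Lrfl
theorem f462990 : Led Lsl_dt (LP (LK LD1_c1 LD2_c55 LD3_c3)) = (LP (LK LD1_c3 LD2_c56 LD3_c43)) :=
  Lre_d IH (LK LD1_c1 LD2_c55 LD3_c3) (LK LD1_c3 LD2_c56 LD3_c43) Lrfl Lrfl
theorem f462996 : Led Lsl_ct (LP (LK LD1_c3 LD2_c56 LD3_c43)) = (LP (LK LD1_c7 LD2_c55 LD3_c12)) :=
  Lre_c IH (LK LD1_c3 LD2_c56 LD3_c43) (LK LD1_c7 LD2_c55 LD3_c12) Lrfl Lrfl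
theorem f490435 : Led Lsl_df (LP (LK LD1_c13 LD2_c59 LD3_c30)) = (LP (LK LD1_c7 LD2_c55 LD3_c12)) :=
  Lgr Lrot13 (Lpr_ct (f462960 IH) (Lpe (f462955 IH) (Lpr_ct (f452039 IH) (Lpe (f451377 IH) (Lpr_ff (f490429 IH) (Lpe (f490427 IH) (Lpr_ct (f451365 IH) (Lpr_dt (f462990 IH) (Lpr_ct (f462996 IH) (Lpn (LP (LK LD1_c7 LD2_c55 LD3_c12))))))))))))
theorem f490436 : Led Lsl_dt (LP (LK LD1_c7 LD2_c55 LD3_c12)) = (LP (LK LD1_c13 LD2_c59 LD3_c30)) :=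
  Leop (Lpr_df (f490435 IH) (Lpn (LP (LK LD1_c7 LD2_c55 LD3_c12))))
theorem seed_83 : LEOK LG_d (LK LD1_c7 LD2_c55 LD3_c12) :=
  Leoe_d (LK LD1_c7 LD2_c55 LD3_c12) (f490436 IH)
def v930 : LQ := Led Lsl_dt (LP (LK LD1_c0 LD2_c54 LD3_c19))
theorem f490567 : Led Lsl_dt (LP (LK LD1_c0 LD2_c54 LD3_c19)) = v930 :=
  Lrfl
theorem f490570 : Led Lsl_df (LP (LK LD1_c0 LD2_c54 LD3_c19)) = v930 :=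
  Lgr Lrot38 (Lpr_dt (f490567 IH) (Lpn v930))
theorem f11898 : Led Lsl_bt (LP (LK LD1_c0 LD2_c54 LD3_c19)) = (LP (LK LD1_c0 LD2_c24 LD3_c31)) :=
  Lre_b IH (LK LD1_c0 LD2_c54 LD3_c19) (LK LD1_c0 LD2_c24 LD3_c31) Lrfl Lrfl
def v148 : LQ := Led Lsl_ct (LP (LK LD1_c0 LD2_c21 LD3_c22))
theorem f450740 : Led Lsl_ct (LP (LK LD1_c0 LD2_c21 LD3_c22)) = v148 :=
  Lrfl
theorem f9979 : Led Lsl_ct (LP (LK LD1_c0 LD2_c48 LD3_c51)) = (LP (LK LD1_c0 LD2_c21 LD3_c54)) :=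
  Lre_c IH (LK LD1_c0 LD2_c48 LD3_c51) (LK LD1_c0 LD2_c21 LD3_c54) Lrfl Lrfl
theorem f450744 : Led Lsl_gf (LP (LK LD1_c0 LD2_c48 LD3_c51)) = v148 :=
  Lgr Lrot104 (Lpr_ct (f9979 IH) (Lpe (K0.f9967 IH) (Lpe (K0.f9966 IH) (Lpe (K6.f10353 IH) (Lpe (K6.f4936 IH) (Lpr_gf (K6.f143286 IH) (Lpe (K7.f12718 IH) (Lpe (K3.f12716 IH) (Lpr_ct (f450740 IH) (Lpn v148))))))))))
theorem f450747 : Led Lsl_dt (LP (LK LD1_c0 LD2_c24 LD3_c31)) = v148 :=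
  Lgr Lrot57 (Lpr_gf (K3.f11893 IH) (Lpe (K0.f9968 IH) (Lpe (K0.f11474 IH) (Lpr_dt (K7.f9869 IH) (Lpr_gt (K0.f11929 IH) (Lpr_dt (K7.f9945 IH) (Lpe (K0.f9982 IH) (Lpe (K0.f10068 IH) (Lpr_gf (f450744 IH) (Lpn v148))))))))))
theorem f490571 : Led Lsl_bt v148 = v930 :=
  Lgr Lrot95 (Lpe (f450747 IH) (Lpe (f11898 IH) (Lpr_df (f490570 IH) (Lpn v930))))
theorem f450741 : Led Lsl_cf (LP (LK LD1_c0 LD2_c21 LD3_c22)) = v148 :=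
  Lgr Lrot11 (Lpr_ct (f450740 IH) (Lpn v148))
theorem f11120 : Led Lsl_at (LP (LK LD1_c0 LD2_c24 LD3_c31)) = (LP (LK LD1_c0 LD2_c24 LD3_c31)) :=
  Lgr Lrot107 (Lpe (K3.f7418 IH) (Lpr_af (K0.f11105 IH) (Lpe (K3.f7421 IH) (Lpn (LP (LK LD1_c0 LD2_c24 LD3_c31))))))
theorem f450743 : Led Lsl_df (LP (LK LD1_c0 LD2_c24 LD3_c31)) = v148 :=
  Lgr Lrot106 (Lpr_ct (K3.f7421 IH) (Lpr_dt (K0.f7420 IH) (Lpr_ct (K2.f7419 IH) (Lpe (K0.f7404 IH) (Lpr_ct (K0.f7416 IH) (Lpe (K0.f11098 IH) (Lpe (K0.f11096 IH) (Lpr_dt (K3.f7401 IH) (Lpr_ct (f450740 IH) (Lpn v148))))))))))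
theorem f450748 : Led Lsl_af v148 = v148 :=
  Lgr Lrot117 (Lpe (f450743 IH) (Lpr_at (f11120 IH) (Lpr_dt (f450747 IH) (Lpn v148))))
theorem f450749 : Led Lsl_ft (LP (LK LD1_c0 LD2_c24 LD3_c31)) = v148 :=
  Lgr Lrot142 (Lpr_dt (f450747 IH) (Lpe (f450741 IH) (Lpr_dt (K3.f7399 IH) (Lpr_ct (K0.f7398 IH) (Lpr_dt (K0.f7392 IH) (Lpr_ct (K0.f7400 IH) (Lpr_dt (K3.f7401 IH) (Lpr_ct (f450740 IH) (Lpr_af (f450748 IH) (Lpn v148))))))))))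
theorem f490576 : Led Lsl_ff (LP (LK LD1_c0 LD2_c54 LD3_c19)) = v930 :=
  Lgr Lrot25 (Lpr_bt (f11898 IH) (Lpr_ft (f450749 IH) (Lpr_bt (f490571 IH) (Lpn v930))))
theorem f85711 : Led Lsl_at (LP (LK LD1_c0 LD2_c54 LD3_c19)) = (LP (LK LD1_c1 LD2_c55 LD3_c9)) :=
  Lre_a IH (LK LD1_c0 LD2_c54 LD3_c19) (LK LD1_c1 LD2_c55 LD3_c9) Lrfl Lrfl
theorem f85706 : Led Lsl_ct (LP (LK LD1_c3 LD2_c53 LD3_c50)) = (LP (LK LD1_c1 LD2_c55 LD3_c9)) :=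
  Lre_c IH (LK LD1_c3 LD2_c53 LD3_c50) (LK LD1_c1 LD2_c55 LD3_c9) Lrfl Lrfl
theorem f85712 : Led Lsl_dt (LP (LK LD1_c7 LD2_c49 LD3_c13)) = (LP (LK LD1_c3 LD2_c53 LD3_c50)) :=
  Lre_d IH (LK LD1_c7 LD2_c49 LD3_c13) (LK LD1_c3 LD2_c53 LD3_c50) Lrfl Lrfl
theorem f490578 : Led Lsl_ct (LP (LK LD1_c14 LD2_c45 LD3_c18)) = (LP (LK LD1_c7 LD2_c49 LD3_c13)) :=
  Lre_c IH (LK LD1_c14 LD2_c45 LD3_c18) (LK LD1_c7 LD2_c49 LD3_c13) Lrfl Lrfl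
theorem f11899 : Led Lsl_ct (LP (LK LD1_c0 LD2_c54 LD3_c19)) = (LP (LK LD1_c1 LD2_c53 LD3_c32)) :=
  Lre_c IH (LK LD1_c0 LD2_c54 LD3_c19) (LK LD1_c1 LD2_c53 LD3_c32) Lrfl Lrfl
theorem f490572 : Led Lsl_dt (LP (LK LD1_c1 LD2_c53 LD3_c32)) = (LP (LK LD1_c3 LD2_c53 LD3_c51)) :=
  Lre_d IH (LK LD1_c1 LD2_c53 LD3_c32) (LK LD1_c3 LD2_c53 LD3_c51) Lrfl Lrfl
theorem f490573 : Led Lsl_ct (LP (LK LD1_c3 LD2_c53 LD3_c51)) = (LP (LK LD1_c7 LD2_c49 LD3_c14)) :=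
  Lre_c IH (LK LD1_c3 LD2_c53 LD3_c51) (LK LD1_c7 LD2_c49 LD3_c14) Lrfl Lrfl
theorem f490579 : Led Lsl_df (LP (LK LD1_c14 LD2_c45 LD3_c18)) = (LP (LK LD1_c7 LD2_c49 LD3_c14)) :=
  Lgr Lrot13 (Lpr_ct (f490578 IH) (Lpr_dt (f85712 IH) (Lpr_ct (f85706 IH) (Lpe (f85711 IH) (Lpr_ff (f490576 IH) (Lpe (f490570 IH) (Lpr_ct (f11899 IH) (Lpr_dt (f490572 IH) (Lpr_ct (f490573 IH) (Lpn (LP (LK LD1_c7 LD2_c49 LD3_c14))))))))))))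
theorem f490580 : Led Lsl_dt (LP (LK LD1_c7 LD2_c49 LD3_c14)) = (LP (LK LD1_c14 LD2_c45 LD3_c18)) :=
  Leop (Lpr_df (f490579 IH) (Lpn (LP (LK LD1_c7 LD2_c49 LD3_c14))))
theorem seed_84 : LEOK LG_d (LK LD1_c7 LD2_c49 LD3_c14) :=
  Leoe_d (LK LD1_c7 LD2_c49 LD3_c14) (f490580 IH)
def v149 : LQ := Led Lsl_ct (LP (LK LD1_c0 LD2_c21 LD3_c28))
def v980 : LQ := Led Lsl_bt v149
theorem f490825 : Led Lsl_bt v149 = v980 :=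
  Lrfl
theorem f450750 : Led Lsl_ct (LP (LK LD1_c0 LD2_c21 LD3_c28)) = v149 :=
  Lrfl
theorem f9949 : Led Lsl_ct (LP (LK LD1_c0 LD2_c21 LD3_c53)) = (LP (LK LD1_c0 LD2_c9 LD3_c51)) :=
  Lre_c IH (LK LD1_c0 LD2_c21 LD3_c53) (LK LD1_c0 LD2_c9 LD3_c51) Lrfl Lrfl
theorem f450754 : Led Lsl_dt (LP (LK LD1_c0 LD2_c46 LD3_c50)) = v149 :=
  Lgr Lrot27 (Lpe (K6.f9865 IH) (Lpr_gf (K0.f11474 IH) (Lpe (f9979 IH) (Lpr_gf (f450744 IH) (Lpe (f450747 IH) (Lpr_gt (K3.f11896 IH) (Lpr_ct (f9949 IH) (Lpr_gt (K24.f11493 IH) (Lpr_ct (f450750 IH) (Lpn v149))))))))))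
theorem f450751 : Led Lsl_cf (LP (LK LD1_c0 LD2_c21 LD3_c28)) = v149 :=
  Lgr Lrot11 (Lpr_ct (f450750 IH) (Lpn v149))
theorem f7336 : Led Lsl_df (LP (LK LD1_c0 LD2_c9 LD3_c14)) = (LP (LK LD1_c0 LD2_c9 LD3_c14)) :=
  Lgr Lrot12 (Lpr_bt (K0.f7334 IH) (Lpr_dt (K0.f7326 IH) (Lpr_bt (K3.f7335 IH) (Lpn (LP (LK LD1_c0 LD2_c9 LD3_c14))))))
theorem f9833 : Led Lsl_bt (LP (LK LD1_c3 LD2_c25 LD3_c23)) = (LP (LK LD1_c6 LD2_c52 LD3_c59)) :=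
  Lre_b IH (LK LD1_c3 LD2_c25 LD3_c23) (LK LD1_c6 LD2_c52 LD3_c59) Lrfl Lrfl
theorem f9835 : Led Lsl_bt (LP (LK LD1_c6 LD2_c52 LD3_c59)) = (LP (LK LD1_c3 LD2_c25 LD3_c23)) :=
  Lre_b IH (LK LD1_c6 LD2_c52 LD3_c59) (LK LD1_c3 LD2_c25 LD3_c23) Lrfl Lrfl
theorem f9836 : Led Lsl_ct (LP (LK LD1_c6 LD2_c52 LD3_c59)) = (LP (LK LD1_c6 LD2_c52 LD3_c59)) :=
  Lgr Lrot83 (Lpe (f9833 IH) (Lpe (K3.f9832 IH) (Lpr_bf (K3.f9824 IH) (Lpe (K2.f9834 IH) (Lpe (f9835 IH) (Lpn (LP (LK LD1_c6 LD2_c52 LD3_c59))))))))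
theorem f9839 : Led Lsl_at (LP (LK LD1_c13 LD2_c5 LD3_c8)) = (LP (LK LD1_c6 LD2_c52 LD3_c59)) :=
  Lre_a IH (LK LD1_c13 LD2_c5 LD3_c8) (LK LD1_c6 LD2_c52 LD3_c59) Lrfl Lrfl
theorem f9840 : Led Lsl_at (LP (LK LD1_c6 LD2_c52 LD3_c59)) = (LP (LK LD1_c13 LD2_c5 LD3_c8)) :=
  Lre_a IH (LK LD1_c6 LD2_c52 LD3_c59) (LK LD1_c13 LD2_c5 LD3_c8) Lrfl Lrfl
theorem f9841 : Led Lsl_cf (LP (LK LD1_c13 LD2_c5 LD3_c8)) = (LP (LK LD1_c13 LD2_c5 LD3_c8)) :=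
  Lgr Lrot1 (Lpr_at (f9839 IH) (Lpr_ct (f9836 IH) (Lpr_at (f9840 IH) (Lpn (LP (LK LD1_c13 LD2_c5 LD3_c8))))))
theorem f9851 : Led Lsl_bt (LP (LK LD1_c13 LD2_c5 LD3_c8)) = (LP (LK LD1_c6 LD2_c58 LD3_c4)) :=
  Lre_b IH (LK LD1_c13 LD2_c5 LD3_c8) (LK LD1_c6 LD2_c58 LD3_c4) Lrfl Lrfl
theorem f9852 : Led Lsl_ct (LP (LK LD1_c6 LD2_c58 LD3_c4)) = (LP (LK LD1_c3 LD2_c28 LD3_c14)) :=
  Lre_c IH (LK LD1_c6 LD2_c58 LD3_c4) (LK LD1_c3 LD2_c28 LD3_c14) Lrfl Lrfl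
theorem f9853 : Led Lsl_bt (LP (LK LD1_c6 LD2_c58 LD3_c4)) = (LP (LK LD1_c13 LD2_c5 LD3_c8)) :=
  Lre_b IH (LK LD1_c6 LD2_c58 LD3_c4) (LK LD1_c13 LD2_c5 LD3_c8) Lrfl Lrfl
theorem f9854 : Led Lsl_ct (LP (LK LD1_c3 LD2_c28 LD3_c14)) = (LP (LK LD1_c6 LD2_c58 LD3_c4)) :=
  Lre_c IH (LK LD1_c3 LD2_c28 LD3_c14) (LK LD1_c6 LD2_c58 LD3_c4) Lrfl Lrfl
theorem f9855 : Led Lsl_bt (LP (LK LD1_c3 LD2_c28 LD3_c14)) = (LP (LK LD1_c3 LD2_c28 LD3_c14)) :=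
  Lgr Lrot128 (Lpe (f9852 IH) (Lpe (f9851 IH) (Lpr_cf (f9841 IH) (Lpe (f9853 IH) (Lpe (f9854 IH) (Lpn (LP (LK LD1_c3 LD2_c28 LD3_c14))))))))
theorem f9857 : Led Lsl_at (LP (LK LD1_c1 LD2_c40 LD3_c44)) = (LP (LK LD1_c3 LD2_c28 LD3_c14)) :=
  Lre_a IH (LK LD1_c1 LD2_c40 LD3_c44) (LK LD1_c3 LD2_c28 LD3_c14) Lrfl Lrfl
theorem f9858 : Led Lsl_bt (LP (LK LD1_c0 LD2_c46 LD3_c50)) = (LP (LK LD1_c1 LD2_c40 LD3_c44)) :=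
  Lre_b IH (LK LD1_c0 LD2_c46 LD3_c50) (LK LD1_c1 LD2_c40 LD3_c44) Lrfl Lrfl
theorem f9859 : Led Lsl_at (LP (LK LD1_c3 LD2_c28 LD3_c14)) = (LP (LK LD1_c1 LD2_c40 LD3_c44)) :=
  Lre_a IH (LK LD1_c3 LD2_c28 LD3_c14) (LK LD1_c1 LD2_c40 LD3_c44) Lrfl Lrfl
theorem f9860 : Led Lsl_bt (LP (LK LD1_c1 LD2_c40 LD3_c44)) = (LP (LK LD1_c0 LD2_c46 LD3_c50)) :=
  Lre_b IH (LK LD1_c1 LD2_c40 LD3_c44) (LK LD1_c0 LD2_c46 LD3_c50) Lrfl Lrfl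
theorem f9861 : Led Lsl_af (LP (LK LD1_c0 LD2_c46 LD3_c50)) = (LP (LK LD1_c0 LD2_c46 LD3_c50)) :=
  Lgr Lrot36 (Lpr_bt (f9858 IH) (Lpr_at (f9857 IH) (Lpr_bt (f9855 IH) (Lpr_at (f9859 IH) (Lpr_bt (f9860 IH) (Lpn (LP (LK LD1_c0 LD2_c46 LD3_c50))))))))
theorem f9864 : Led Lsl_ct (LP (LK LD1_c0 LD2_c46 LD3_c50)) = (LP (LK LD1_c0 LD2_c20 LD3_c61)) :=
  Lre_c IH (LK LD1_c0 LD2_c46 LD3_c50) (LK LD1_c0 LD2_c20 LD3_c61) Lrfl Lrfl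
theorem f450753 : Led Lsl_df (LP (LK LD1_c0 LD2_c46 LD3_c50)) = v149 :=
  Lgr Lrot106 (Lpr_ct (f9864 IH) (Lpr_dt (K7.f9869 IH) (Lpr_ct (K0.f9868 IH) (Lpr_dt (K7.f7316 IH) (Lpr_ct (K1.f9867 IH) (Lpr_af (K0.f9818 IH) (Lpr_ff (K0.f11891 IH) (Lpr_dt (K0.f11490 IH) (Lpr_ct (f450750 IH) (Lpn v149))))))))))
theorem f450757 : Led Lsl_af v149 = v149 :=
  Lgr Lrot117 (Lpe (f450753 IH) (Lpe (f9861 IH) (Lpr_dt (f450754 IH) (Lpn v149))))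
theorem f450758 : Led Lsl_ft (LP (LK LD1_c0 LD2_c46 LD3_c50)) = v149 :=
  Lgr Lrot142 (Lpr_dt (f450754 IH) (Lpe (f450751 IH) (Lpr_dt (K3.f11499 IH) (Lpe (K4.f11925 IH) (Lpe (f7336 IH) (Lpr_ct (K0.f11911 IH) (Lpr_dt (K0.f11490 IH) (Lpr_ct (f450750 IH) (Lpr_af (f450757 IH) (Lpn v149))))))))))
theorem f490828 : Led Lsl_ff (LP (LK LD1_c1 LD2_c40 LD3_c44)) = v980 :=
  Lgr Lrot25 (Lpr_bt (f9860 IH) (Lpr_ft (f450758 IH) (Lpr_bt (f490825 IH) (Lpn v980))))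
theorem f9863 : Led Lsl_dt (LP (LK LD1_c13 LD2_c13 LD3_c48)) = (LP (LK LD1_c6 LD2_c58 LD3_c4)) :=
  Lre_d IH (LK LD1_c13 LD2_c13 LD3_c48) (LK LD1_c6 LD2_c58 LD3_c4) Lrfl Lrfl
theorem f490830 : Led Lsl_ct (LP (LK LD1_c22 LD2_c28 LD3_c18)) = (LP (LK LD1_c13 LD2_c13 LD3_c48)) :=
  Lre_c IH (LK LD1_c22 LD2_c28 LD3_c18) (LK LD1_c13 LD2_c13 LD3_c48) Lrfl Lrfl
theorem f490827 : Led Lsl_df (LP (LK LD1_c1 LD2_c40 LD3_c44)) = v980 :=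
  Lgr Lrot12 (Lpr_bt (f9860 IH) (Lpr_dt (f450754 IH) (Lpr_bt (f490825 IH) (Lpn v980))))
theorem f143227 : Led Lsl_ct (LP (LK LD1_c1 LD2_c40 LD3_c44)) = (LP (LK LD1_c3 LD2_c27 LD3_c57)) :=
  Lre_c IH (LK LD1_c1 LD2_c40 LD3_c44) (LK LD1_c3 LD2_c27 LD3_c57) Lrfl Lrfl
theorem f490831 : Led Lsl_dt (LP (LK LD1_c3 LD2_c27 LD3_c57)) = (LP (LK LD1_c6 LD2_c58 LD3_c5)) :=
  Lre_d IH (LK LD1_c3 LD2_c27 LD3_c57) (LK LD1_c6 LD2_c58 LD3_c5) Lrfl Lrfl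
theorem f490832 : Led Lsl_ct (LP (LK LD1_c6 LD2_c58 LD3_c5)) = (LP (LK LD1_c13 LD2_c13 LD3_c49)) :=
  Lre_c IH (LK LD1_c6 LD2_c58 LD3_c5) (LK LD1_c13 LD2_c13 LD3_c49) Lrfl Lrfl
theorem f490833 : Led Lsl_df (LP (LK LD1_c22 LD2_c28 LD3_c18)) = (LP (LK LD1_c13 LD2_c13 LD3_c49)) :=
  Lgr Lrot13 (Lpr_ct (f490830 IH) (Lpr_dt (f9863 IH) (Lpr_ct (f9852 IH) (Lpe (f9857 IH) (Lpr_ff (f490828 IH) (Lpe (f490827 IH) (Lpr_ct (f143227 IH) (Lpr_dt (f490831 IH) (Lpr_ct (f490832 IH) (Lpn (LP (LK LD1_c13 LD2_c13 LD3_c49))))))))))))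
theorem f490834 : Led Lsl_dt (LP (LK LD1_c13 LD2_c13 LD3_c49)) = (LP (LK LD1_c22 LD2_c28 LD3_c18)) :=
  Leop (Lpr_df (f490833 IH) (Lpn (LP (LK LD1_c13 LD2_c13 LD3_c49))))
theorem seed_85 : LEOK LG_d (LK LD1_c13 LD2_c13 LD3_c49) :=
  Leoe_d (LK LD1_c13 LD2_c13 LD3_c49) (f490834 IH)
def v1084 : LQ := Led Lsl_ct K24.v233
theorem f491335 : Led Lsl_ct K24.v233 = v1084 :=
  Lrfl
theorem f14939 : Led Lsl_bt (LP (LK LD1_c1 LD2_c54 LD3_c43)) = (LP (LK LD1_c0 LD2_c54 LD3_c3)) :=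
  Lre_b IH (LK LD1_c1 LD2_c54 LD3_c43) (LK LD1_c0 LD2_c54 LD3_c3) Lrfl Lrfl
theorem f14949 : Led Lsl_ct (LP (LK LD1_c1 LD2_c54 LD3_c43)) = (LP (LK LD1_c3 LD2_c56 LD3_c3)) :=
  Lre_c IH (LK LD1_c1 LD2_c54 LD3_c43) (LK LD1_c3 LD2_c56 LD3_c3) Lrfl Lrfl
def v258 : LQ := Led Lsl_ct (LP (LK LD1_c0 LD2_c24 LD3_c28))
theorem f451399 : Led Lsl_ct (LP (LK LD1_c0 LD2_c24 LD3_c28)) = v258 :=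
  Lrfl
theorem f451401 : Led Lsl_cf (LP (LK LD1_c0 LD2_c24 LD3_c28)) = v258 :=
  Lgr Lrot11 (Lpr_ct (f451399 IH) (Lpn v258))
theorem f491337 : Led Lsl_gf v258 = v1084 :=
  Lgr Lrot104 (Lpe (f451401 IH) (Lpe (K0.f11146 IH) (Lpr_cf (K24.f15676 IH) (Lpe (K24.f11058 IH) (Lpqs (K24.f457382 IH) (Lpe (K24.f451227 IH) (Lpr_gf (K28.f446525 IH) (Lpe (K24.f11191 IH) (Lpr_gt (K24.f451235 IH) (Lpr_ct (f491335 IH) (Lpn v1084)))))))))))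
theorem f11142 : Led Lsl_bt (LP (LK LD1_c0 LD2_c24 LD3_c28)) = (LP (LK LD1_c0 LD2_c53 LD3_c16)) :=
  Lre_b IH (LK LD1_c0 LD2_c24 LD3_c28) (LK LD1_c0 LD2_c53 LD3_c16) Lrfl Lrfl
theorem f451144 : Led Lsl_gt (LP (LK LD1_c0 LD2_c53 LD3_c16)) = (LP (LK LD1_c1 LD2_c53 LD3_c22)) :=
  Lre_g IH (LK LD1_c0 LD2_c53 LD3_c16) (LK LD1_c1 LD2_c53 LD3_c22) Lrfl Lrfl
theorem f451404 : Led Lsl_bt (LP (LK LD1_c3 LD2_c53 LD3_c31)) = (LP (LK LD1_c1 LD2_c53 LD3_c22)) :=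
  Lre_b IH (LK LD1_c3 LD2_c53 LD3_c31) (LK LD1_c1 LD2_c53 LD3_c22) Lrfl Lrfl
theorem f451405 : Led Lsl_ct (LP (LK LD1_c3 LD2_c53 LD3_c31)) = (LP (LK LD1_c7 LD2_c48 LD3_c38)) :=
  Lre_c IH (LK LD1_c3 LD2_c53 LD3_c31) (LK LD1_c7 LD2_c48 LD3_c38) Lrfl Lrfl
theorem f491338 : Led Lsl_gf (LP (LK LD1_c3 LD2_c56 LD3_c3)) = (LP (LK LD1_c7 LD2_c48 LD3_c38)) :=
  Lgr Lrot126 (Lpe (f14949 IH) (Lpr_bt (f14939 IH) (Lpr_gt (K24.f451235 IH) (Lpr_ct (f491335 IH) (Lpe (f491337 IH) (Lpe (f451399 IH) (Lpr_bt (f11142 IH) (Lpr_gt (f451144 IH) (Lpe (f451404 IH) (Lpr_ct (f451405 IH) (Lpn (LP (LK LD1_c7 LD2_c48 LD3_c38)))))))))))))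
theorem f491339 : Led Lsl_gt (LP (LK LD1_c7 LD2_c48 LD3_c38)) = (LP (LK LD1_c3 LD2_c56 LD3_c3)) :=
  Leop (Lpr_gf (f491338 IH) (Lpn (LP (LK LD1_c7 LD2_c48 LD3_c38))))
theorem seed_86 : LEOK LG_g (LK LD1_c7 LD2_c48 LD3_c38) :=
  Leoe_g (LK LD1_c7 LD2_c48 LD3_c38) (f491339 IH)
def v1097 : LQ := Led Lsl_ct K24.v256
theorem f491421 : Led Lsl_ct K24.v256 = v1097 :=
  Lrfl
theorem f451387 : Led Lsl_bt (LP (LK LD1_c1 LD2_c55 LD3_c4)) = (LP (LK LD1_c0 LD2_c54 LD3_c15)) :=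
  Lre_b IH (LK LD1_c1 LD2_c55 LD3_c4) (LK LD1_c0 LD2_c54 LD3_c15) Lrfl Lrfl
theorem f451390 : Led Lsl_ct (LP (LK LD1_c1 LD2_c55 LD3_c4)) = (LP (LK LD1_c3 LD2_c56 LD3_c44)) :=
  Lre_c IH (LK LD1_c1 LD2_c55 LD3_c4) (LK LD1_c3 LD2_c56 LD3_c44) Lrfl Lrfl
theorem f457707 : Led Lsl_df (LP (LK LD1_c1 LD2_c42 LD3_c23)) = (LP (LK LD1_c0 LD2_c54 LD3_c15)) :=
  Lgr Lrot38 (Lpr_dt (K24.f457704 IH) (Lpn (LP (LK LD1_c0 LD2_c54 LD3_c15))))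
theorem f491336 : Led Lsl_cf K24.v233 = v1084 :=
  Lgr Lrot11 (Lpr_ct (f491335 IH) (Lpn v1084))
theorem f491425 : Led Lsl_gf v1084 = v1097 :=
  Lgr Lrot104 (Lpe (f491336 IH) (Lpe (K24.f451239 IH) (Lpr_cf (K24.f457399 IH) (Lpq (K24.f457406 IH) (Lpe (K24.f457123 IH) (Lpr_cf (K24.f457423 IH) (Lpr_gf (K24.f457681 IH) (Lpr_df (f457707 IH) (Lpr_gt (K24.f451386 IH) (Lpr_ct (f491421 IH) (Lpn v1097)))))))))))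
def v1083 : LQ := Led Lsl_bt K24.v233
theorem f491329 : Led Lsl_bt K24.v233 = v1083 :=
  Lrfl
theorem f451240 : Led Lsl_bt (LP (LK LD1_c3 LD2_c24 LD3_c59)) = (LP (LK LD1_c1 LD2_c38 LD3_c55)) :=
  Lre_b IH (LK LD1_c3 LD2_c24 LD3_c59) (LK LD1_c1 LD2_c38 LD3_c55) Lrfl Lrfl
theorem f491331 : Led Lsl_df (LP (LK LD1_c3 LD2_c24 LD3_c59)) = v1083 :=
  Lgr Lrot12 (Lpr_bt (f451240 IH) (Lpr_dt (K24.f451239 IH) (Lpr_bt (f491329 IH) (Lpn v1083))))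
theorem f455948 : Led Lsl_ct (LP (LK LD1_c3 LD2_c24 LD3_c59)) = (LP (LK LD1_c6 LD2_c52 LD3_c21)) :=
  Lre_c IH (LK LD1_c3 LD2_c24 LD3_c59) (LK LD1_c6 LD2_c52 LD3_c21) Lrfl Lrfl
theorem f470817 : Led Lsl_bf (LP (LK LD1_c7 LD2_c7 LD3_c61)) = (LP (LK LD1_c7 LD2_c14 LD3_c17)) :=
  Lgr Lrot24 (Lpr_bt (f470797 IH) (Lpn (LP (LK LD1_c7 LD2_c14 LD3_c17))))
theorem f97201 : Led Lsl_et (LP (LK LD1_c0 LD2_c49 LD3_c52)) = (LP (LK LD1_c1 LD2_c46 LD3_c14)) :=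
  Lre_e IH (LK LD1_c0 LD2_c49 LD3_c52) (LK LD1_c1 LD2_c46 LD3_c14) Lrfl Lrfl
theorem f446497 : Led Lsl_et (LP (LK LD1_c6 LD2_c52 LD3_c25)) = (LP (LK LD1_c3 LD2_c31 LD3_c20)) :=
  Lgr Lrot87 (Lpr_ef (f446492 IH) (Lpn (LP (LK LD1_c3 LD2_c31 LD3_c20))))
theorem f464331 : Led Lsl_df (LP (LK LD1_c7 LD2_c14 LD3_c17)) = (LP (LK LD1_c6 LD2_c52 LD3_c25)) :=
  Lgr Lrot170 (Lpr_gt (K28.f10683 IH) (Lpe (K28.f10682 IH) (Lpr_et (K28.f10681 IH) (Lpe (K3.f10678 IH) (Lpr_dt (K3.f10235 IH) (Lpr_gt (K3.f97186 IH) (Lpr_df (K3.f97196 IH) (Lpr_et (f97201 IH) (Lpr_gt (K28.f464322 IH) (Lpe (f446497 IH) (Lpn (LP (LK LD1_c6 LD2_c52 LD3_c25)))))))))))))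
theorem f446420 : Led Lsl_bt (LP (LK LD1_c3 LD2_c24 LD3_c61)) = (LP (LK LD1_c1 LD2_c38 LD3_c57)) :=
  Lre_b IH (LK LD1_c3 LD2_c24 LD3_c61) (LK LD1_c1 LD2_c38 LD3_c57) Lrfl Lrfl
theorem f457401 : Led Lsl_bt (LP (LK LD1_c6 LD2_c52 LD3_c21)) = (LP (LK LD1_c6 LD2_c52 LD3_c25)) :=
  Lgr Lrot128 (Lpe (f455948 IH) (Lpe (f451242 IH) (Lpr_cf (K24.f457399 IH) (Lpe (f446420 IH) (Lpe (f446491 IH) (Lpn (LP (LK LD1_c6 LD2_c52 LD3_c25))))))))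
theorem f472499 : Led Lsl_dt (LP (LK LD1_c7 LD2_c7 LD3_c61)) = (LP (LK LD1_c6 LD2_c52 LD3_c21)) :=
  Lgr Lrot79 (Lpr_bf (f470817 IH) (Lpr_df (f464331 IH) (Lpe (f457401 IH) (Lpn (LP (LK LD1_c6 LD2_c52 LD3_c21))))))
theorem f470833 : Led Lsl_gf (LP (LK LD1_c3 LD2_c37 LD3_c2)) = (LP (LK LD1_c3 LD2_c33 LD3_c13)) :=
  Lgr Lrot47 (Lpr_gt (f470831 IH) (Lpr_af (f465142 IH) (Lpr_ff (f470398 IH) (Lpn (LP (LK LD1_c3 LD2_c33 LD3_c13))))))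
theorem f106440 : Led Lsl_et (LP (LK LD1_c1 LD2_c44 LD3_c4)) = (LP (LK LD1_c0 LD2_c48 LD3_c36)) :=
  Lre_e IH (LK LD1_c1 LD2_c44 LD3_c4) (LK LD1_c0 LD2_c48 LD3_c36) Lrfl Lrfl
theorem f17473 : Led Lsl_et (LP (LK LD1_c0 LD2_c22 LD3_c7)) = (LP (LK LD1_c0 LD2_c49 LD3_c20)) :=
  Lre_e IH (LK LD1_c0 LD2_c22 LD3_c7) (LK LD1_c0 LD2_c49 LD3_c20) Lrfl Lrfl
theorem f107839 : Led Lsl_df (LP (LK LD1_c1 LD2_c44 LD3_c4)) = (LP (LK LD1_c0 LD2_c49 LD3_c20)) :=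
  Lgr Lrot70 (Lpr_et (f106440 IH) (Lpr_dt (K3.f107796 IH) (Lpr_et (K3.f105740 IH) (Lpe (K0.f17465 IH) (Lpr_et (f17473 IH) (Lpn (LP (LK LD1_c0 LD2_c49 LD3_c20))))))))
theorem f106451 : Led Lsl_ft (LP (LK LD1_c1 LD2_c44 LD3_c4)) = (LP (LK LD1_c3 LD2_c34 LD3_c36)) :=
  Lre_f IH (LK LD1_c1 LD2_c44 LD3_c4) (LK LD1_c3 LD2_c34 LD3_c36) Lrfl Lrfl
theorem f107945 : Led Lsl_dt (LP (LK LD1_c3 LD2_c34 LD3_c36)) = (LP (LK LD1_c1 LD2_c45 LD3_c17)) :=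
  Lgr Lrot60 (Lpe (f106451 IH) (Lpr_df (f107839 IH) (Lpe (K24.f107944 IH) (Lpn (LP (LK LD1_c1 LD2_c45 LD3_c17))))))
theorem f107975 : Led Lsl_df (LP (LK LD1_c3 LD2_c34 LD3_c36)) = (LP (LK LD1_c1 LD2_c45 LD3_c17)) :=
  Lgr Lrot38 (Lpr_dt (f107945 IH) (Lpn (LP (LK LD1_c1 LD2_c45 LD3_c17))))
theorem f491333 : Led Lsl_gt (LP (LK LD1_c3 LD2_c34 LD3_c36)) = v1083 :=
  Lgr Lrot49 (Lpr_df (f107975 IH) (Lpr_gf (f160434 IH) (Lpe (f160436 IH) (Lpe (f470833 IH) (Lpr_dt (K28.f425337 IH) (Lpr_gt (K28.f425533 IH) (Lpr_dt (f472499 IH) (Lpe (f455948 IH) (Lpr_df (f491331 IH) (Lpn v1083))))))))))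
theorem f106441 : Led Lsl_ft (LP (LK LD1_c3 LD2_c34 LD3_c36)) = (LP (LK LD1_c1 LD2_c44 LD3_c4)) :=
  Lre_f IH (LK LD1_c3 LD2_c34 LD3_c36) (LK LD1_c1 LD2_c44 LD3_c4) Lrfl Lrfl
theorem f11581 : Led Lsl_dt (LP (LK LD1_c1 LD2_c43 LD3_c21)) = (LP (LK LD1_c0 LD2_c48 LD3_c19)) :=
  Lre_d IH (LK LD1_c1 LD2_c43 LD3_c21) (LK LD1_c0 LD2_c48 LD3_c19) Lrfl Lrfl
theorem f160102 : Led Lsl_at (LP (LK LD1_c1 LD2_c44 LD3_c4)) = (LP (LK LD1_c1 LD2_c43 LD3_c21)) :=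
  Lgr Lrot51 (Lpr_df (f107839 IH) (Lpr_af (K8.f160094 IH) (Lpe (f11581 IH) (Lpn (LP (LK LD1_c1 LD2_c43 LD3_c21))))))
theorem f491334 : Led Lsl_gf (LP (LK LD1_c1 LD2_c43 LD3_c21)) = v1083 :=
  Lgr Lrot76 (Lpe (f160102 IH) (Lpe (f106441 IH) (Lpr_gt (f491333 IH) (Lpn v1083))))
theorem f491426 : Led Lsl_gf (LP (LK LD1_c3 LD2_c56 LD3_c44)) = (LP (LK LD1_c6 LD2_c52 LD3_c39)) :=
  Lgr Lrot126 (Lpe (f451390 IH) (Lpr_bt (f451387 IH) (Lpr_gt (K24.f451386 IH) (Lpr_ct (f491421 IH) (Lpe (f491425 IH) (Lpe (f491335 IH) (Lpr_bt (f491329 IH) (Lpe (f491334 IH) (Lpe (K3.f107588 IH) (Lpe (K8.f107591 IH) (Lpn (LP (LK LD1_c6 LD2_c52 LD3_c39)))))))))))))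
theorem f491427 : Led Lsl_gt (LP (LK LD1_c6 LD2_c52 LD3_c39)) = (LP (LK LD1_c3 LD2_c56 LD3_c44)) :=
  Leop (Lpr_gf (f491426 IH) (Lpn (LP (LK LD1_c6 LD2_c52 LD3_c39))))
theorem seed_87 : LEOK LG_g (LK LD1_c6 LD2_c52 LD3_c39) :=
  Leoe_g (LK LD1_c6 LD2_c52 LD3_c39) (f491427 IH)
def v1098 : LQ := Led Lsl_bt K24.v257
theorem f491433 : Led Lsl_bt K24.v257 = v1098 :=
  Lrfl
theorem f459330 : Led Lsl_ff (LP (LK LD1_c0 LD2_c54 LD3_c15)) = K24.v257 :=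
  Lgr Lrot19 (Lpe (f457707 IH) (Lpq (K24.f458774 IH) (Lpe (K24.f455741 IH) (Lpr_dt (K24.f451395 IH) (Lpn K24.v257)))))
theorem f459331 : Led Lsl_ft (LP (LK LD1_c0 LD2_c54 LD3_c15)) = K24.v257 :=
  Lgr Lrot48 (Lpr_ff (f459330 IH) (Lpn K24.v257))
theorem f491436 : Led Lsl_ff (LP (LK LD1_c1 LD2_c55 LD3_c4)) = v1098 :=
  Lgr Lrot25 (Lpr_bt (f451387 IH) (Lpr_ft (f459331 IH) (Lpr_bt (f491433 IH) (Lpn v1098))))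
theorem f459335 : Led Lsl_df (LP (LK LD1_c1 LD2_c55 LD3_c4)) = (LP (LK LD1_c3 LD2_c31 LD3_c34)) :=
  Lgr Lrot12 (Lpr_bt (f451387 IH) (Lpe (f457707 IH) (Lpq (K24.f458774 IH) (Lpe (K24.f455740 IH) (Lpn (LP (LK LD1_c3 LD2_c31 LD3_c34)))))))
theorem f459339 : Led Lsl_dt (LP (LK LD1_c1 LD2_c55 LD3_c4)) = (LP (LK LD1_c3 LD2_c31 LD3_c34)) :=
  Lgr Lrot42 (Lpr_df (f459335 IH) (Lpn (LP (LK LD1_c3 LD2_c31 LD3_c34))))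
theorem f491437 : Led Lsl_dt (LP (LK LD1_c1 LD2_c42 LD3_c19)) = v1098 :=
  Lgr Lrot60 (Lpe (K24.f455635 IH) (Lpe (f459339 IH) (Lpr_ff (f491436 IH) (Lpn v1098))))
theorem f455631 : Led Lsl_et (LP (LK LD1_c1 LD2_c42 LD3_c19)) = (LP (LK LD1_c0 LD2_c47 LD3_c39)) :=
  Lre_e IH (LK LD1_c1 LD2_c42 LD3_c19) (LK LD1_c0 LD2_c47 LD3_c39) Lrfl Lrfl
theorem f134707 : Led Lsl_gt (LP (LK LD1_c0 LD2_c20 LD3_c39)) = (LP (LK LD1_c0 LD2_c20 LD3_c32)) :=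
  Lgr Lrot5 (Lpr_ft (K5.f134701 IH) (Lpr_at (K5.f21100 IH) (Lpe (K5.f12693 IH) (Lpn (LP (LK LD1_c0 LD2_c20 LD3_c32))))))
theorem f12375 : Led Lsl_dt (LP (LK LD1_c0 LD2_c50 LD3_c19)) = (LP (LK LD1_c1 LD2_c47 LD3_c5)) :=
  Lre_d IH (LK LD1_c0 LD2_c50 LD3_c19) (LK LD1_c1 LD2_c47 LD3_c5) Lrfl Lrfl
theorem f491440 : Led Lsl_gf (LP (LK LD1_c1 LD2_c47 LD3_c5)) = v1098 :=
  Lgr Lrot145 (Lpe (f12375 IH) (Lpr_et (K28.f12361 IH) (Lpr_gt (K6.f142719 IH) (Lpr_dt (K6.f84766 IH) (Lpr_gt (f134707 IH) (Lpr_df (K7.f123592 IH) (Lpr_et (K28.f122331 IH) (Lpq (K28.f463253 IH) (Lpe (K24.f455619 IH) (Lpe (f455631 IH) (Lpr_dt (f491437 IH) (Lpn v1098))))))))))))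
theorem f90084 : Led Lsl_gt (LP (LK LD1_c1 LD2_c47 LD3_c5)) = (LP (LK LD1_c3 LD2_c40 LD3_c18)) :=
  Lre_g IH (LK LD1_c1 LD2_c47 LD3_c5) (LK LD1_c3 LD2_c40 LD3_c18) Lrfl Lrfl
theorem f491441 : Led Lsl_af (LP (LK LD1_c3 LD2_c40 LD3_c18)) = (LP (LK LD1_c1 LD2_c55 LD3_c4)) :=
  Lgr Lrot31 (Lpe (f90084 IH) (Lpr_gf (f491440 IH) (Lpe (f491436 IH) (Lpn (LP (LK LD1_c1 LD2_c55 LD3_c4))))))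
theorem f491442 : Led Lsl_at (LP (LK LD1_c1 LD2_c55 LD3_c4)) = (LP (LK LD1_c3 LD2_c40 LD3_c18)) :=
  Leop (Lpr_af (f491441 IH) (Lpn (LP (LK LD1_c1 LD2_c55 LD3_c4))))
theorem seed_88 : LEOK LG_a (LK LD1_c1 LD2_c55 LD3_c4) :=
  Leoe_a (LK LD1_c1 LD2_c55 LD3_c4) (f491442 IH)
theorem f12393 : Led Lsl_dt (LP (LK LD1_c1 LD2_c47 LD3_c5)) = (LP (LK LD1_c0 LD2_c50 LD3_c19)) :=
  Lre_d IH (LK LD1_c1 LD2_c47 LD3_c5) (LK LD1_c0 LD2_c50 LD3_c19) Lrfl Lrfl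
theorem f12373 : Led Lsl_ct (LP (LK LD1_c0 LD2_c50 LD3_c19)) = (LP (LK LD1_c1 LD2_c47 LD3_c3)) :=
  Lre_c IH (LK LD1_c0 LD2_c50 LD3_c19) (LK LD1_c1 LD2_c47 LD3_c3) Lrfl Lrfl
theorem f458245 : Led Lsl_ct (LP (LK LD1_c7 LD2_c4 LD3_c48)) = (LP (LK LD1_c3 LD2_c31 LD3_c33)) :=
  Lre_c IH (LK LD1_c7 LD2_c4 LD3_c48) (LK LD1_c3 LD2_c31 LD3_c33) Lrfl Lrfl
theorem f491443 : Led Lsl_gf (LP (LK LD1_c7 LD2_c28 LD3_c20)) = (LP (LK LD1_c7 LD2_c4 LD3_c48)) :=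
  Lgr Lrot144 (Lpr_dt (K28.f132017 IH) (Lpr_gt (K28.f12397 IH) (Lpr_dt (f12396 IH) (Lpe (f12373 IH) (Lpe (f12393 IH) (Lpr_gf (f491440 IH) (Lpe (f491437 IH) (Lpe (K24.f455672 IH) (Lpe (f458245 IH) (Lpn (LP (LK LD1_c7 LD2_c4 LD3_c48))))))))))))
theorem f491444 : Led Lsl_gt (LP (LK LD1_c7 LD2_c4 LD3_c48)) = (LP (LK LD1_c7 LD2_c28 LD3_c20)) :=
  Leop (Lpr_gf (f491443 IH) (Lpn (LP (LK LD1_c7 LD2_c4 LD3_c48))))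
theorem seed_89 : LEOK LG_g (LK LD1_c7 LD2_c4 LD3_c48) :=
  Leoe_g (LK LD1_c7 LD2_c4 LD3_c48) (f491444 IH)
theorem f425223 : Led Lsl_at (LP (LK LD1_c0 LD2_c50 LD3_c0)) = (LP (LK LD1_c0 LD2_c49 LD3_c44)) :=
  Lgr Lrot80 (Lpe (K28.f12395 IH) (Lpr_af (K28.f425213 IH) (Lpe (K3.f97324 IH) (Lpn (LP (LK LD1_c0 LD2_c49 LD3_c44))))))
theorem f425241 : Led Lsl_af (LP (LK LD1_c0 LD2_c22 LD3_c32)) = (LP (LK LD1_c0 LD2_c22 LD3_c20)) :=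
  Lgr Lrot117 (Lpr_dt (K3.f5246 IH) (Lpr_at (f425223 IH) (Lpr_dt (K5.f388 IH) (Lpn (LP (LK LD1_c0 LD2_c22 LD3_c20))))))
theorem f105772 : Led Lsl_et (LP (LK LD1_c0 LD2_c49 LD3_c45)) = (LP (LK LD1_c0 LD2_c22 LD3_c20)) :=
  Lre_e IH (LK LD1_c0 LD2_c49 LD3_c45) (LK LD1_c0 LD2_c22 LD3_c20) Lrfl Lrfl
theorem f425251 : Led Lsl_at (LP (LK LD1_c0 LD2_c49 LD3_c30)) = (LP (LK LD1_c0 LD2_c49 LD3_c45)) :=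
  Lgr Lrot80 (Lpe (K3.f106766 IH) (Lpr_af (f425241 IH) (Lpe (f105772 IH) (Lpn (LP (LK LD1_c0 LD2_c49 LD3_c45))))))
theorem f425257 : Led Lsl_ff (LP (LK LD1_c0 LD2_c49 LD3_c30)) = (LP (LK LD1_c0 LD2_c49 LD3_c8)) :=
  Lgr Lrot52 (Lpr_at (f425251 IH) (Lpe (K3.f105934 IH) (Lpe (K5.f105932 IH) (Lpn (LP (LK LD1_c0 LD2_c49 LD3_c8))))))
theorem f425261 : Led Lsl_ft (LP (LK LD1_c0 LD2_c49 LD3_c30)) = (LP (LK LD1_c0 LD2_c49 LD3_c8)) :=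
  Lgr Lrot48 (Lpr_ff (f425257 IH) (Lpn (LP (LK LD1_c0 LD2_c49 LD3_c8))))
theorem f425263 : Led Lsl_ff (LP (LK LD1_c1 LD2_c45 LD3_c41)) = (LP (LK LD1_c1 LD2_c44 LD3_c54)) :=
  Lgr Lrot19 (Lpr_dt (K3.f94366 IH) (Lpr_ft (f425261 IH) (Lpr_dt (K3.f17707 IH) (Lpn (LP (LK LD1_c1 LD2_c44 LD3_c54))))))
theorem f425267 : Led Lsl_bt (LP (LK LD1_c1 LD2_c45 LD3_c41)) = (LP (LK LD1_c0 LD2_c50 LD3_c20)) :=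
  Lgr Lrot35 (Lpr_ff (f425263 IH) (Lpe (K5.f17712 IH) (Lpr_ff (K5.f131031 IH) (Lpn (LP (LK LD1_c0 LD2_c50 LD3_c20))))))
theorem f105952 : Led Lsl_et (LP (LK LD1_c3 LD2_c37 LD3_c42)) = (LP (LK LD1_c1 LD2_c45 LD3_c41)) :=
  Lre_e IH (LK LD1_c3 LD2_c37 LD3_c42) (LK LD1_c1 LD2_c45 LD3_c41) Lrfl Lrfl
theorem f121396 : Led Lsl_et (LP (LK LD1_c0 LD2_c50 LD3_c20)) = (LP (LK LD1_c1 LD2_c47 LD3_c5)) :=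
  Lre_e IH (LK LD1_c0 LD2_c50 LD3_c20) (LK LD1_c1 LD2_c47 LD3_c5) Lrfl Lrfl
theorem f425271 : Led Lsl_bf (LP (LK LD1_c3 LD2_c37 LD3_c42)) = (LP (LK LD1_c1 LD2_c47 LD3_c5)) :=
  Lgr Lrot96 (Lpr_et (f105952 IH) (Lpr_bt (f425267 IH) (Lpr_et (f121396 IH) (Lpn (LP (LK LD1_c1 LD2_c47 LD3_c5))))))
theorem f425275 : Led Lsl_bt (LP (LK LD1_c3 LD2_c37 LD3_c42)) = (LP (LK LD1_c1 LD2_c47 LD3_c5)) :=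
  Lgr Lrot127 (Lpr_bf (f425271 IH) (Lpn (LP (LK LD1_c1 LD2_c47 LD3_c5))))
theorem f106019 : Led Lsl_gt (LP (LK LD1_c1 LD2_c44 LD3_c6)) = (LP (LK LD1_c0 LD2_c48 LD3_c37)) :=
  Lre_g IH (LK LD1_c1 LD2_c44 LD3_c6) (LK LD1_c0 LD2_c48 LD3_c37) Lrfl Lrfl
theorem f105982 : Led Lsl_gt (LP (LK LD1_c3 LD2_c32 LD3_c13)) = (LP (LK LD1_c1 LD2_c45 LD3_c41)) :=
  Lgr Lrot5 (Lpr_ft (K3.f105976 IH) (Lpe (K3.f19393 IH) (Lpe (K3.f105938 IH) (Lpn (LP (LK LD1_c1 LD2_c45 LD3_c41))))))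
theorem f429061 : Led Lsl_cf (LP (LK LD1_c1 LD2_c44 LD3_c6)) = (LP (LK LD1_c1 LD2_c45 LD3_c41)) :=
  Lgr Lrot169 (Lpr_gt (f106019 IH) (Lpr_ct (K3.f19734 IH) (Lpe (K3.f19732 IH) (Lpe (K7.f19427 IH) (Lpe (K7.f106010 IH) (Lpe (K7.f106011 IH) (Lpr_gf (K11.f429055 IH) (Lpr_df (K3.f106753 IH) (Lpr_gt (f105982 IH) (Lpn (LP (LK LD1_c1 LD2_c45 LD3_c41))))))))))))
theorem f429086 : Led Lsl_gf (LP (LK LD1_c1 LD2_c44 LD3_c6)) = (LP (LK LD1_c3 LD2_c32 LD3_c29)) :=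
  Lgr Lrot129 (Lpr_cf (f429061 IH) (Lpr_bt (f425267 IH) (Lpr_gt (K5.f134851 IH) (Lpe (K5.f134943 IH) (Lpr_ct (K5.f21064 IH) (Lpr_gt (K5.f134956 IH) (Lpe (K3.f87486 IH) (Lpr_bt (K3.f106028 IH) (Lpr_gt (K3.f94398 IH) (Lpr_ct (K3.f106610 IH) (Lpn (LP (LK LD1_c3 LD2_c32 LD3_c29)))))))))))))
theorem f106021 : Led Lsl_dt (LP (LK LD1_c1 LD2_c44 LD3_c6)) = (LP (LK LD1_c3 LD2_c34 LD3_c41)) :=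
  Lre_d IH (LK LD1_c1 LD2_c44 LD3_c6) (LK LD1_c3 LD2_c34 LD3_c41) Lrfl Lrfl
theorem f10941 : Led Lsl_dt (LP (LK LD1_c1 LD2_c45 LD3_c47)) = (LP (LK LD1_c0 LD2_c49 LD3_c32)) :=
  Lre_d IH (LK LD1_c1 LD2_c45 LD3_c47) (LK LD1_c0 LD2_c49 LD3_c32) Lrfl Lrfl
theorem f429088 : Led Lsl_gt (LP (LK LD1_c3 LD2_c34 LD3_c41)) = (LP (LK LD1_c1 LD2_c45 LD3_c47)) :=
  Lgr Lrot49 (Lpe (f106021 IH) (Lpr_gf (f429086 IH) (Lpe (K3.f106610 IH) (Lpr_gt (K3.f106474 IH) (Lpr_dt (K3.f107796 IH) (Lpr_gt (K3.f93081 IH) (Lpr_dt (K7.f19982 IH) (Lpe (K11.f10940 IH) (Lpe (f10941 IH) (Lpn (LP (LK LD1_c1 LD2_c45 LD3_c47))))))))))))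
theorem f19803 : Led Lsl_ff (LP (LK LD1_c3 LD2_c36 LD3_c30)) = (LP (LK LD1_c3 LD2_c37 LD3_c54)) :=
  Lgr Lrot3 (Lpr_ft (K3.f19789 IH) (Lpn (LP (LK LD1_c3 LD2_c37 LD3_c54))))
theorem f429097 : Led Lsl_gf (LP (LK LD1_c3 LD2_c34 LD3_c41)) = (LP (LK LD1_c3 LD2_c37 LD3_c54)) :=
  Lgr Lrot47 (Lpr_gt (f429088 IH) (Lpe (K3.f19773 IH) (Lpr_ff (f19803 IH) (Lpn (LP (LK LD1_c3 LD2_c37 LD3_c54))))))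
theorem f106020 : Led Lsl_dt (LP (LK LD1_c3 LD2_c34 LD3_c41)) = (LP (LK LD1_c1 LD2_c44 LD3_c6)) :=
  Lre_d IH (LK LD1_c3 LD2_c34 LD3_c41) (LK LD1_c1 LD2_c44 LD3_c6) Lrfl Lrfl
theorem f429121 : Led Lsl_gf (LP (LK LD1_c3 LD2_c34 LD3_c38)) = (LP (LK LD1_c1 LD2_c45 LD3_c47)) :=
  Lgr Lrot144 (Lpr_dt (K3.f106589 IH) (Lpr_gt (K3.f106646 IH) (Lpe (K3.f106632 IH) (Lpe (K3.f19438 IH) (Lpe (K3.f19731 IH) (Lpe (f106019 IH) (Lpe (f106020 IH) (Lpr_gf (f429097 IH) (Lpe (K3.f19774 IH) (Lpn (LP (LK LD1_c1 LD2_c45 LD3_c47))))))))))))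
theorem f19805 : Led Lsl_at (LP (LK LD1_c3 LD2_c37 LD3_c56)) = (LP (LK LD1_c3 LD2_c37 LD3_c54)) :=
  Lgr Lrot66 (Lpe (K3.f19787 IH) (Lpe (K3.f19773 IH) (Lpr_ff (f19803 IH) (Lpn (LP (LK LD1_c3 LD2_c37 LD3_c54))))))
theorem f429134 : Led Lsl_gt (LP (LK LD1_c3 LD2_c34 LD3_c38)) = (LP (LK LD1_c3 LD2_c37 LD3_c54)) :=
  Lgr Lrot46 (Lpr_gf (f429121 IH) (Lpr_ft (K3.f19787 IH) (Lpr_at (f19805 IH) (Lpn (LP (LK LD1_c3 LD2_c37 LD3_c54))))))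
theorem f106479 : Led Lsl_bt (LP (LK LD1_c7 LD2_c10 LD3_c23)) = (LP (LK LD1_c3 LD2_c34 LD3_c38)) :=
  Lre_b IH (LK LD1_c7 LD2_c10 LD3_c23) (LK LD1_c3 LD2_c34 LD3_c38) Lrfl Lrfl
theorem f105781 : Led Lsl_bt (LP (LK LD1_c7 LD2_c6 LD3_c53)) = (LP (LK LD1_c13 LD2_c28 LD3_c56)) :=
  Lre_b IH (LK LD1_c7 LD2_c6 LD3_c53) (LK LD1_c13 LD2_c28 LD3_c56) Lrfl Lrfl
theorem f121648 : Led Lsl_ft (LP (LK LD1_c3 LD2_c34 LD3_c38)) = (LP (LK LD1_c7 LD2_c6 LD3_c53)) :=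
  Lgr Lrot75 (Lpe (f106479 IH) (Lpr_ff (K4.f121638 IH) (Lpe (f105781 IH) (Lpn (LP (LK LD1_c7 LD2_c6 LD3_c53))))))
theorem f429220 : Led Lsl_at (LP (LK LD1_c7 LD2_c6 LD3_c53)) = (LP (LK LD1_c3 LD2_c34 LD3_c41)) :=
  Lgr Lrot26 (Lpe (f121648 IH) (Lpr_gt (f429134 IH) (Lpe (f429097 IH) (Lpn (LP (LK LD1_c3 LD2_c34 LD3_c41))))))
theorem f429232 : Led Lsl_ct (LP (LK LD1_c3 LD2_c32 LD3_c33)) = (LP (LK LD1_c3 LD2_c34 LD3_c41)) :=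
  Lgr Lrot98 (Lpe (K3.f106018 IH) (Lpe (K3.f94399 IH) (Lpe (K3.f10276 IH) (Lpe (K2.f87498 IH) (Lpe (K3.f94371 IH) (Lpe (K3.f107790 IH) (Lpe (K3.f106589 IH) (Lpr_ft (f121648 IH) (Lpr_at (f429220 IH) (Lpn (LP (LK LD1_c3 LD2_c34 LD3_c41))))))))))))
theorem f107711 : Led Lsl_et (LP (LK LD1_c7 LD2_c6 LD3_c3)) = (LP (LK LD1_c3 LD2_c32 LD3_c33)) :=
  Lre_e IH (LK LD1_c7 LD2_c6 LD3_c3) (LK LD1_c3 LD2_c32 LD3_c33) Lrfl Lrfl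
theorem f429092 : Led Lsl_et (LP (LK LD1_c3 LD2_c34 LD3_c41)) = (LP (LK LD1_c7 LD2_c10 LD3_c32)) :=
  Lre_e IH (LK LD1_c3 LD2_c34 LD3_c41) (LK LD1_c7 LD2_c10 LD3_c32) Lrfl Lrfl
theorem f429234 : Led Lsl_cf (LP (LK LD1_c7 LD2_c6 LD3_c3)) = (LP (LK LD1_c7 LD2_c10 LD3_c32)) :=
  Lgr Lrot39 (Lpr_et (f107711 IH) (Lpr_ct (f429232 IH) (Lpr_et (f429092 IH) (Lpn (LP (LK LD1_c7 LD2_c10 LD3_c32))))))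
theorem f107696 : Led Lsl_ft (LP (LK LD1_c7 LD2_c6 LD3_c3)) = (LP (LK LD1_c13 LD2_c27 LD3_c33)) :=
  Lre_f IH (LK LD1_c7 LD2_c6 LD3_c3) (LK LD1_c13 LD2_c27 LD3_c33) Lrfl Lrfl
theorem f429245 : Led Lsl_ft (LP (LK LD1_c13 LD2_c35 LD3_c32)) = (LP (LK LD1_c7 LD2_c10 LD3_c32)) :=
  Lre_f IH (LK LD1_c13 LD2_c35 LD3_c32) (LK LD1_c7 LD2_c10 LD3_c32) Lrfl Lrfl
theorem f429246 : Led Lsl_ct (LP (LK LD1_c13 LD2_c27 LD3_c33)) = (LP (LK LD1_c13 LD2_c35 LD3_c32)) :=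
  Lgr Lrot40 (Lpe (f107696 IH) (Lpr_cf (f429234 IH) (Lpe (f429245 IH) (Lpn (LP (LK LD1_c13 LD2_c35 LD3_c32))))))
theorem f429261 : Led Lsl_cf (LP (LK LD1_c13 LD2_c27 LD3_c33)) = (LP (LK LD1_c13 LD2_c35 LD3_c32)) :=
  Lgr Lrot11 (Lpr_ct (f429246 IH) (Lpn (LP (LK LD1_c13 LD2_c35 LD3_c32))))
theorem f107695 : Led Lsl_et (LP (LK LD1_c3 LD2_c32 LD3_c33)) = (LP (LK LD1_c7 LD2_c6 LD3_c3)) :=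
  Lre_e IH (LK LD1_c3 LD2_c32 LD3_c33) (LK LD1_c7 LD2_c6 LD3_c3) Lrfl Lrfl
theorem f107697 : Led Lsl_ef (LP (LK LD1_c13 LD2_c46 LD3_c23)) = (LP (LK LD1_c13 LD2_c27 LD3_c33)) :=
  Lgr Lrot21 (Lpr_ft (K4.f105894 IH) (Lpr_et (K4.f105918 IH) (Lpr_ft (K3.f107687 IH) (Lpr_et (f107695 IH) (Lpr_ft (f107696 IH) (Lpn (LP (LK LD1_c13 LD2_c27 LD3_c33))))))))
theorem f105912 : Led Lsl_ct (LP (LK LD1_c13 LD2_c46 LD3_c23)) = (LP (LK LD1_c22 LD2_c48 LD3_c53)) :=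
  Lgr Lrot59 (Lpr_cf (K4.f105896 IH) (Lpn (LP (LK LD1_c22 LD2_c48 LD3_c53))))
theorem f429271 : Led Lsl_et (LP (LK LD1_c22 LD2_c48 LD3_c53)) = (LP (LK LD1_c13 LD2_c35 LD3_c32)) :=
  Lgr Lrot158 (Lpe (f105912 IH) (Lpr_ef (f107697 IH) (Lpr_cf (f429261 IH) (Lpn (LP (LK LD1_c13 LD2_c35 LD3_c32))))))
theorem f429277 : Led Lsl_ef (LP (LK LD1_c22 LD2_c48 LD3_c53)) = (LP (LK LD1_c13 LD2_c35 LD3_c32)) :=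
  Lgr Lrot88 (Lpr_et (f429271 IH) (Lpn (LP (LK LD1_c13 LD2_c35 LD3_c32))))
theorem f105916 : Led Lsl_ft (LP (LK LD1_c22 LD2_c48 LD3_c53)) = (LP (LK LD1_c13 LD2_c28 LD3_c52)) :=
  Lre_f IH (LK LD1_c22 LD2_c48 LD3_c53) (LK LD1_c13 LD2_c28 LD3_c52) Lrfl Lrfl
theorem f429273 : Led Lsl_ft (LP (LK LD1_c7 LD2_c10 LD3_c32)) = (LP (LK LD1_c13 LD2_c35 LD3_c32)) :=
  Lre_f IH (LK LD1_c7 LD2_c10 LD3_c32) (LK LD1_c13 LD2_c35 LD3_c32) Lrfl Lrfl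
theorem f429283 : Led Lsl_ft (LP (LK LD1_c7 LD2_c6 LD3_c51)) = (LP (LK LD1_c3 LD2_c34 LD3_c41)) :=
  Lgr Lrot86 (Lpe (K4.f105851 IH) (Lpe (f105916 IH) (Lpr_ef (f429277 IH) (Lpe (f429273 IH) (Lpe (f429092 IH) (Lpn (LP (LK LD1_c3 LD2_c34 LD3_c41))))))))
theorem f105848 : Led Lsl_bt (LP (LK LD1_c13 LD2_c28 LD3_c51)) = (LP (LK LD1_c7 LD2_c6 LD3_c51)) :=
  Lre_b IH (LK LD1_c13 LD2_c28 LD3_c51) (LK LD1_c7 LD2_c6 LD3_c51) Lrfl Lrfl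
theorem f429226 : Led Lsl_bt (LP (LK LD1_c3 LD2_c34 LD3_c41)) = (LP (LK LD1_c7 LD2_c10 LD3_c30)) :=
  Lre_b IH (LK LD1_c3 LD2_c34 LD3_c41) (LK LD1_c7 LD2_c10 LD3_c30) Lrfl Lrfl
theorem f429285 : Led Lsl_ff (LP (LK LD1_c13 LD2_c28 LD3_c51)) = (LP (LK LD1_c7 LD2_c10 LD3_c30)) :=
  Lgr Lrot25 (Lpr_bt (f105848 IH) (Lpr_ft (f429283 IH) (Lpr_bt (f429226 IH) (Lpn (LP (LK LD1_c7 LD2_c10 LD3_c30))))))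
theorem f143234 : Led Lsl_dt (LP (LK LD1_c13 LD2_c28 LD3_c51)) = (LP (LK LD1_c7 LD2_c6 LD3_c50)) :=
  Lre_d IH (LK LD1_c13 LD2_c28 LD3_c51) (LK LD1_c7 LD2_c6 LD3_c50) Lrfl Lrfl
theorem f429293 : Led Lsl_dt (LP (LK LD1_c3 LD2_c34 LD3_c40)) = (LP (LK LD1_c7 LD2_c10 LD3_c30)) :=
  Lre_d IH (LK LD1_c3 LD2_c34 LD3_c40) (LK LD1_c7 LD2_c10 LD3_c30) Lrfl Lrfl
theorem f429294 : Led Lsl_ft (LP (LK LD1_c7 LD2_c6 LD3_c50)) = (LP (LK LD1_c3 LD2_c34 LD3_c40)) :=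
  Lgr Lrot54 (Lpe (f143234 IH) (Lpr_ff (f429285 IH) (Lpe (f429293 IH) (Lpn (LP (LK LD1_c3 LD2_c34 LD3_c40))))))
theorem f17715 : Led Lsl_bt (LP (LK LD1_c3 LD2_c25 LD3_c2)) = (LP (LK LD1_c6 LD2_c52 LD3_c27)) :=
  Lre_b IH (LK LD1_c3 LD2_c25 LD3_c2) (LK LD1_c6 LD2_c52 LD3_c27) Lrfl Lrfl
theorem f10723 : Led Lsl_bt (LP (LK LD1_c7 LD2_c6 LD3_c50)) = (LP (LK LD1_c3 LD2_c32 LD3_c57)) :=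
  Lre_b IH (LK LD1_c7 LD2_c6 LD3_c50) (LK LD1_c3 LD2_c32 LD3_c57) Lrfl Lrfl
theorem f105926 : Led Lsl_ct (LP (LK LD1_c6 LD2_c52 LD3_c27)) = (LP (LK LD1_c7 LD2_c6 LD3_c50)) :=
  Lgr Lrot83 (Lpe (f17715 IH) (Lpe (K5.f17714 IH) (Lpr_bf (K5.f17708 IH) (Lpr_cf (K3.f105923 IH) (Lpe (f10723 IH) (Lpn (LP (LK LD1_c7 LD2_c6 LD3_c50))))))))
theorem f429067 : Led Lsl_bt (LP (LK LD1_c1 LD2_c44 LD3_c6)) = (LP (LK LD1_c3 LD2_c34 LD3_c40)) :=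
  Lre_b IH (LK LD1_c1 LD2_c44 LD3_c6) (LK LD1_c3 LD2_c34 LD3_c40) Lrfl Lrfl
theorem f425269 : Led Lsl_bf (LP (LK LD1_c1 LD2_c45 LD3_c41)) = (LP (LK LD1_c0 LD2_c50 LD3_c20)) :=
  Lgr Lrot24 (Lpr_bt (f425267 IH) (Lpn (LP (LK LD1_c0 LD2_c50 LD3_c20))))
theorem f131122 : Led Lsl_bt (LP (LK LD1_c3 LD2_c40 LD3_c22)) = (LP (LK LD1_c1 LD2_c47 LD3_c7)) :=
  Lre_b IH (LK LD1_c3 LD2_c40 LD3_c22) (LK LD1_c1 LD2_c47 LD3_c7) Lrfl Lrfl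
theorem f429068 : Led Lsl_ct (LP (LK LD1_c3 LD2_c34 LD3_c40)) = (LP (LK LD1_c3 LD2_c40 LD3_c22)) :=
  Lgr Lrot83 (Lpe (f429067 IH) (Lpr_cf (f429061 IH) (Lpr_bf (f425269 IH) (Lpe (K5.f106791 IH) (Lpe (f131122 IH) (Lpn (LP (LK LD1_c3 LD2_c40 LD3_c22))))))))
theorem f429381 : Led Lsl_ff (LP (LK LD1_c6 LD2_c52 LD3_c27)) = (LP (LK LD1_c3 LD2_c40 LD3_c22)) :=
  Lgr Lrot23 (Lpr_ct (f105926 IH) (Lpr_ft (f429294 IH) (Lpr_ct (f429068 IH) (Lpn (LP (LK LD1_c3 LD2_c40 LD3_c22))))))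
theorem f429390 : Led Lsl_ft (LP (LK LD1_c6 LD2_c52 LD3_c27)) = (LP (LK LD1_c3 LD2_c40 LD3_c22)) :=
  Lgr Lrot48 (Lpr_ff (f429381 IH) (Lpn (LP (LK LD1_c3 LD2_c40 LD3_c22))))
theorem f17718 : Led Lsl_bt (LP (LK LD1_c6 LD2_c52 LD3_c27)) = (LP (LK LD1_c3 LD2_c25 LD3_c2)) :=
  Lre_b IH (LK LD1_c6 LD2_c52 LD3_c27) (LK LD1_c3 LD2_c25 LD3_c2) Lrfl Lrfl
theorem f105920 : Led Lsl_bt (LP (LK LD1_c3 LD2_c32 LD3_c57)) = (LP (LK LD1_c7 LD2_c6 LD3_c50)) :=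
  Lre_b IH (LK LD1_c3 LD2_c32 LD3_c57) (LK LD1_c7 LD2_c6 LD3_c50) Lrfl Lrfl
theorem f105921 : Led Lsl_cf (LP (LK LD1_c6 LD2_c52 LD3_c27)) = (LP (LK LD1_c7 LD2_c6 LD3_c50)) :=
  Lgr Lrot97 (Lpr_bt (f17718 IH) (Lpr_ct (K5.f17717 IH) (Lpr_bt (K5.f17712 IH) (Lpr_ct (K3.f105883 IH) (Lpr_bt (f105920 IH) (Lpn (LP (LK LD1_c7 LD2_c6 LD3_c50))))))))
theorem f429300 : Led Lsl_ft (LP (LK LD1_c13 LD2_c28 LD3_c51)) = (LP (LK LD1_c7 LD2_c10 LD3_c30)) :=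
  Lgr Lrot48 (Lpr_ff (f429285 IH) (Lpn (LP (LK LD1_c7 LD2_c10 LD3_c30))))
theorem f429317 : Led Lsl_dt (LP (LK LD1_c7 LD2_c6 LD3_c50)) = (LP (LK LD1_c13 LD2_c28 LD3_c51)) :=
  Lre_d IH (LK LD1_c7 LD2_c6 LD3_c50) (LK LD1_c13 LD2_c28 LD3_c51) Lrfl Lrfl
theorem f429304 : Led Lsl_dt (LP (LK LD1_c7 LD2_c10 LD3_c30)) = (LP (LK LD1_c3 LD2_c34 LD3_c40)) :=
  Lre_d IH (LK LD1_c7 LD2_c10 LD3_c30) (LK LD1_c3 LD2_c34 LD3_c40) Lrfl Lrfl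
theorem f429318 : Led Lsl_ff (LP (LK LD1_c7 LD2_c6 LD3_c50)) = (LP (LK LD1_c3 LD2_c34 LD3_c40)) :=
  Lgr Lrot19 (Lpr_dt (f429317 IH) (Lpr_ft (f429300 IH) (Lpr_dt (f429304 IH) (Lpn (LP (LK LD1_c3 LD2_c34 LD3_c40))))))
theorem f429392 : Led Lsl_cf (LP (LK LD1_c3 LD2_c34 LD3_c40)) = (LP (LK LD1_c3 LD2_c40 LD3_c22)) :=
  Lgr Lrot108 (Lpe (f429318 IH) (Lpe (f105921 IH) (Lpr_ft (f429390 IH) (Lpn (LP (LK LD1_c3 LD2_c40 LD3_c22))))))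
theorem f429383 : Led Lsl_et (LP (LK LD1_c3 LD2_c34 LD3_c40)) = (LP (LK LD1_c7 LD2_c10 LD3_c31)) :=
  Lre_e IH (LK LD1_c3 LD2_c34 LD3_c40) (LK LD1_c7 LD2_c10 LD3_c31) Lrfl Lrfl
theorem f429389 : Led Lsl_et (LP (LK LD1_c7 LD2_c20 LD3_c49)) = (LP (LK LD1_c3 LD2_c40 LD3_c22)) :=
  Lre_e IH (LK LD1_c7 LD2_c20 LD3_c49) (LK LD1_c3 LD2_c40 LD3_c22) Lrfl Lrfl
theorem f429400 : Led Lsl_ct (LP (LK LD1_c7 LD2_c10 LD3_c31)) = (LP (LK LD1_c7 LD2_c20 LD3_c49)) :=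
  Lgr Lrot15 (Lpe (f429383 IH) (Lpr_cf (f429392 IH) (Lpe (f429389 IH) (Lpn (LP (LK LD1_c7 LD2_c20 LD3_c49))))))
theorem f429432 : Led Lsl_bt (LP (LK LD1_c3 LD2_c34 LD3_c42)) = (LP (LK LD1_c7 LD2_c10 LD3_c31)) :=
  Lre_b IH (LK LD1_c3 LD2_c34 LD3_c42) (LK LD1_c7 LD2_c10 LD3_c31) Lrfl Lrfl
theorem f142940 : Led Lsl_bt (LP (LK LD1_c7 LD2_c20 LD3_c49)) = (LP (LK LD1_c3 LD2_c40 LD3_c19)) :=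
  Lre_b IH (LK LD1_c7 LD2_c20 LD3_c49) (LK LD1_c3 LD2_c40 LD3_c19) Lrfl Lrfl
theorem f203900 : Led Lsl_ct (LP (LK LD1_c3 LD2_c40 LD3_c19)) = (LP (LK LD1_c1 LD2_c47 LD3_c5)) :=
  Lre_c IH (LK LD1_c3 LD2_c40 LD3_c19) (LK LD1_c1 LD2_c47 LD3_c5) Lrfl Lrfl
theorem f429433 : Led Lsl_cf (LP (LK LD1_c3 LD2_c34 LD3_c42)) = (LP (LK LD1_c3 LD2_c37 LD3_c42)) :=
  Lgr Lrot97 (Lpr_bt (f429432 IH) (Lpr_ct (f429400 IH) (Lpr_bt (f142940 IH) (Lpr_ct (f203900 IH) (Lpe (f425271 IH) (Lpn (LP (LK LD1_c3 LD2_c37 LD3_c42))))))))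
def v234 : LQ := Led Lsl_ct (LP (LK LD1_c0 LD2_c24 LD3_c18))
def v1085 : LQ := Led Lsl_gf v234
theorem f491349 : Led Lsl_gf v234 = v1085 :=
  Lrfl
theorem f451244 : Led Lsl_ct (LP (LK LD1_c0 LD2_c24 LD3_c18)) = v234 :=
  Lrfl
theorem f451245 : Led Lsl_cf (LP (LK LD1_c0 LD2_c24 LD3_c18)) = v234 :=
  Lgr Lrot11 (Lpr_ct (f451244 IH) (Lpn v234))
theorem f451392 : Led Lsl_gt K24.v256 = K24.v257 :=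
  Lgr Lrot5 (Lpe (K24.f451381 IH) (Lpr_at (K0.f11124 IH) (Lpr_gf (K24.f451391 IH) (Lpn K24.v257))))
theorem f491352 : Led Lsl_ct K24.v257 = v1085 :=
  Lgr Lrot152 (Lpe (f451392 IH) (Lpe (K24.f451378 IH) (Lpqs (K24.f457688 IH) (Lpr_gt (K28.f451303 IH) (Lpr_ct (K28.f11243 IH) (Lpr_gt (K11.f11233 IH) (Lpr_ct (K24.f11224 IH) (Lpe (K24.f11236 IH) (Lpr_cf (f451245 IH) (Lpr_gf (f491349 IH) (Lpn v1085)))))))))))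
theorem f451246 : Led Lsl_ef (LP (LK LD1_c0 LD2_c46 LD3_c50)) = v234 :=
  Lgr Lrot28 (Lpr_ct (f9864 IH) (Lpe (K24.f17256 IH) (Lpr_ct (f451244 IH) (Lpn v234))))
theorem f451250 : Led Lsl_et (LP (LK LD1_c0 LD2_c46 LD3_c50)) = v234 :=
  Lgr Lrot87 (Lpr_ef (f451246 IH) (Lpn v234))
theorem f451251 : Led Lsl_af v234 = v234 :=
  Lgr Lrot50 (Lpe (f451246 IH) (Lpe (f9861 IH) (Lpr_et (f451250 IH) (Lpn v234))))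
def v916 : LQ := Led Lsl_ct (LP (LK LD1_c0 LD2_c54 LD3_c3))
theorem f490420 : Led Lsl_ct (LP (LK LD1_c0 LD2_c54 LD3_c3)) = v916 :=
  Lrfl
theorem f490422 : Led Lsl_ff v234 = v916 :=
  Lgr Lrot23 (Lpe (f451245 IH) (Lpr_ft (K24.f14935 IH) (Lpr_ct (f490420 IH) (Lpn v916))))
theorem f491350 : Led Lsl_gt v916 = v1085 :=
  Lgr Lrot5 (Lpe (f490422 IH) (Lpe (f451251 IH) (Lpr_gf (f491349 IH) (Lpn v1085))))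
theorem f14944 : Led Lsl_bt (LP (LK LD1_c1 LD2_c54 LD3_c46)) = (LP (LK LD1_c0 LD2_c54 LD3_c2)) :=
  Lre_b IH (LK LD1_c1 LD2_c54 LD3_c46) (LK LD1_c0 LD2_c54 LD3_c2) Lrfl Lrfl
theorem f14948 : Led Lsl_ct (LP (LK LD1_c1 LD2_c54 LD3_c46)) = (LP (LK LD1_c3 LD2_c56 LD3_c6)) :=
  Lre_c IH (LK LD1_c1 LD2_c54 LD3_c46) (LK LD1_c3 LD2_c56 LD3_c6) Lrfl Lrfl
theorem f491445 : Led Lsl_gt (LP (LK LD1_c3 LD2_c34 LD3_c42)) = (LP (LK LD1_c3 LD2_c56 LD3_c6)) :=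
  Lgr Lrot65 (Lpr_cf (f429433 IH) (Lpr_bt (f425275 IH) (Lpr_gf (f491440 IH) (Lpe (f491433 IH) (Lpr_ct (f491352 IH) (Lpe (f491350 IH) (Lpe (f490420 IH) (Lpe (K24.f14942 IH) (Lpe (f14944 IH) (Lpr_ct (f14948 IH) (Lpn (LP (LK LD1_c3 LD2_c56 LD3_c6)))))))))))))
theorem f491446 : Led Lsl_gt (LP (LK LD1_c3 LD2_c34 LD3_c42)) = (LP (LK LD1_c3 LD2_c56 LD3_c6)) :=
  Leop (Lpe (f491445 IH) (Lpn (LP (LK LD1_c3 LD2_c34 LD3_c42))))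
theorem seed_90 : LEOK LG_g (LK LD1_c3 LD2_c34 LD3_c42) :=
  Leoe_g (LK LD1_c3 LD2_c34 LD3_c42) (f491446 IH)
def v81 : LQ := Led Lsl_et (LP (LK LD1_c0 LD2_c8 LD3_c38))
def v266 : LQ := Led Lsl_gt v81
def v1115 : LQ := Led Lsl_et v266
theorem f491574 : Led Lsl_et v266 = v1115 :=
  Lrfl
theorem f491575 : Led Lsl_ef v266 = v1115 :=
  Lgr Lrot88 (Lpr_et (f491574 IH) (Lpn v1115))
def v349 : LQ := Led Lsl_ft (LP (LK LD1_c0 LD2_c30 LD3_c48))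
theorem f452341 : Led Lsl_ft (LP (LK LD1_c0 LD2_c30 LD3_c48)) = v349 :=
  Lrfl
theorem f452345 : Led Lsl_ff (LP (LK LD1_c0 LD2_c30 LD3_c48)) = v349 :=
  Lgr Lrot3 (Lpr_ft (f452341 IH) (Lpn v349))
theorem f446807 : Led Lsl_et (LP (LK LD1_c0 LD2_c8 LD3_c38)) = v81 :=
  Lrfl
theorem f446810 : Led Lsl_ef (LP (LK LD1_c0 LD2_c8 LD3_c38)) = v81 :=
  Lgr Lrot88 (Lpr_et (f446807 IH) (Lpn v81))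
theorem f71323 : Led Lsl_af (LP (LK LD1_c0 LD2_c13 LD3_c38)) = (LP (LK LD1_c0 LD2_c8 LD3_c36)) :=
  Lgr Lrot68 (Lpe (K0.f26345 IH) (Lpr_at (K2.f71315 IH) (Lpe (K1.f37929 IH) (Lpn (LP (LK LD1_c0 LD2_c8 LD3_c36))))))
theorem f71310 : Led Lsl_ft (LP (LK LD1_c0 LD2_c13 LD3_c38)) = (LP (LK LD1_c0 LD2_c8 LD3_c38)) :=
  Lgr Lrot4 (Lpe (K2.f26351 IH) (Lpr_ff (K2.f71308 IH) (Lpr_cf (K1.f59479 IH) (Lpn (LP (LK LD1_c0 LD2_c8 LD3_c38))))))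
theorem f82241 : Led Lsl_af (LP (LK LD1_c0 LD2_c13 LD3_c40)) = (LP (LK LD1_c0 LD2_c8 LD3_c38)) :=
  Lgr Lrot45 (Lpr_ft (K2.f82237 IH) (Lpe (f71323 IH) (Lpr_ft (f71310 IH) (Lpn (LP (LK LD1_c0 LD2_c8 LD3_c38))))))
theorem f27169 : Led Lsl_et (LP (LK LD1_c0 LD2_c13 LD3_c40)) = (LP (LK LD1_c0 LD2_c30 LD3_c48)) :=
  Lre_e IH (LK LD1_c0 LD2_c13 LD3_c40) (LK LD1_c0 LD2_c30 LD3_c48) Lrfl Lrfl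
theorem f446811 : Led Lsl_at (LP (LK LD1_c0 LD2_c30 LD3_c48)) = v81 :=
  Lgr Lrot80 (Lpe (f27169 IH) (Lpr_af (f82241 IH) (Lpr_ef (f446810 IH) (Lpn v81))))
def v269 : LQ := Led Lsl_ft v81
theorem f451471 : Led Lsl_ft v81 = v269 :=
  Lrfl
theorem f452347 : Led Lsl_at v269 = v349 :=
  Lgr Lrot66 (Lpe (f451471 IH) (Lpe (f446811 IH) (Lpr_ff (f452345 IH) (Lpn v349))))
theorem f451465 : Led Lsl_gt v81 = v266 :=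
  Lrfl
theorem f452351 : Led Lsl_gt v266 = v349 :=
  Lgr Lrot46 (Lpe (f451465 IH) (Lpr_ft (f451471 IH) (Lpr_at (f452347 IH) (Lpn v349))))
theorem f61677 : Led Lsl_et (LP (LK LD1_c0 LD2_c30 LD3_c48)) = (LP (LK LD1_c0 LD2_c13 LD3_c40)) :=
  Lre_e IH (LK LD1_c0 LD2_c30 LD3_c48) (LK LD1_c0 LD2_c13 LD3_c40) Lrfl Lrfl
theorem f452349 : Led Lsl_et (LP (LK LD1_c0 LD2_c43 LD3_c2)) = v349 :=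
  Lgr Lrot69 (Lpe (K24.f82248 IH) (Lpe (K4.f13557 IH) (Lpe (K2.f82237 IH) (Lpe (f61677 IH) (Lpr_ff (f452345 IH) (Lpn v349))))))
theorem f61072 : Led Lsl_ct (LP (LK LD1_c2 LD2_c18 LD3_c26)) = (LP (LK LD1_c1 LD2_c6 LD3_c13)) :=
  Lre_c IH (LK LD1_c2 LD2_c18 LD3_c26) (LK LD1_c1 LD2_c6 LD3_c13) Lrfl Lrfl
theorem f153497 : Led Lsl_af (LP (LK LD1_c0 LD2_c41 LD3_c48)) = (LP (LK LD1_c1 LD2_c6 LD3_c13)) :=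
  Lgr Lrot68 (Lpr_ct (K11.f153496 IH) (Lpr_at (K7.f153486 IH) (Lpr_ct (f61072 IH) (Lpn (LP (LK LD1_c1 LD2_c6 LD3_c13))))))
theorem f416969 : Led Lsl_gt (LP (LK LD1_c1 LD2_c30 LD3_c34)) = (LP (LK LD1_c0 LD2_c41 LD3_c48)) :=
  Lre_g IH (LK LD1_c1 LD2_c30 LD3_c34) (LK LD1_c0 LD2_c41 LD3_c48) Lrfl Lrfl
theorem f61118 : Led Lsl_ft (LP (LK LD1_c2 LD2_c18 LD3_c27)) = (LP (LK LD1_c1 LD2_c6 LD3_c13)) :=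
  Lre_f IH (LK LD1_c2 LD2_c18 LD3_c27) (LK LD1_c1 LD2_c6 LD3_c13) Lrfl Lrfl
theorem f435678 : Led Lsl_gf (LP (LK LD1_c1 LD2_c30 LD3_c34)) = (LP (LK LD1_c2 LD2_c18 LD3_c27)) :=
  Lgr Lrot47 (Lpr_gt (f416969 IH) (Lpr_af (f153497 IH) (Lpe (f61118 IH) (Lpn (LP (LK LD1_c2 LD2_c18 LD3_c27))))))
theorem f491576 : Led Lsl_df (LP (LK LD1_c1 LD2_c30 LD3_c34)) = v1115 :=
  Lgr Lrot132 (Lpr_gf (f435678 IH) (Lpe (K11.f61102 IH) (Lpe (K24.f435550 IH) (Lpe (K24.f82573 IH) (Lpr_dt (K24.f82574 IH) (Lpr_gf (K24.f82886 IH) (Lpe (K24.f82678 IH) (Lpr_et (f452349 IH) (Lpe (f452351 IH) (Lpr_ef (f491575 IH) (Lpn v1115)))))))))))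
theorem f154399 : Led Lsl_gt (LP (LK LD1_c1 LD2_c30 LD3_c35)) = (LP (LK LD1_c3 LD2_c8 LD3_c53)) :=
  Lre_g IH (LK LD1_c1 LD2_c30 LD3_c35) (LK LD1_c3 LD2_c8 LD3_c53) Lrfl Lrfl
theorem f24628 : Led Lsl_et (LP (LK LD1_c0 LD2_c8 LD3_c56)) = (LP (LK LD1_c0 LD2_c3 LD3_c61)) :=
  Lre_e IH (LK LD1_c0 LD2_c8 LD3_c56) (LK LD1_c0 LD2_c3 LD3_c61) Lrfl Lrfl
theorem f24693 : Led Lsl_dt (LP (LK LD1_c0 LD2_c19 LD3_c50)) = (LP (LK LD1_c0 LD2_c44 LD3_c35)) :=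
  Lre_d IH (LK LD1_c0 LD2_c19 LD3_c50) (LK LD1_c0 LD2_c44 LD3_c35) Lrfl Lrfl
theorem f24683 : Led Lsl_gt (LP (LK LD1_c0 LD2_c44 LD3_c35)) = (LP (LK LD1_c1 LD2_c36 LD3_c11)) :=
  Lre_g IH (LK LD1_c0 LD2_c44 LD3_c35) (LK LD1_c1 LD2_c36 LD3_c11) Lrfl Lrfl
theorem f416935 : Led Lsl_dt (LP (LK LD1_c3 LD2_c19 LD3_c35)) = (LP (LK LD1_c1 LD2_c36 LD3_c11)) :=
  Lre_d IH (LK LD1_c3 LD2_c19 LD3_c35) (LK LD1_c1 LD2_c36 LD3_c11) Lrfl Lrfl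
theorem f416936 : Led Lsl_et (LP (LK LD1_c3 LD2_c19 LD3_c35)) = (LP (LK LD1_c3 LD2_c2 LD3_c51)) :=
  Lgr Lrot121 (Lpr_dt (f416935 IH) (Lpe (f24683 IH) (Lpe (f24693 IH) (Lpr_et (K5.f24610 IH) (Lpe (K0.f24598 IH) (Lpe (f24628 IH) (Lpr_dt (K17.f24629 IH) (Lpe (K9.f22958 IH) (Lpe (K24.f22959 IH) (Lpr_gf (K24.f416793 IH) (Lpn (LP (LK LD1_c3 LD2_c2 LD3_c51)))))))))))))
theorem f416940 : Led Lsl_ef (LP (LK LD1_c3 LD2_c19 LD3_c35)) = (LP (LK LD1_c3 LD2_c2 LD3_c51)) :=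
  Lgr Lrot88 (Lpr_et (f416936 IH) (Lpn (LP (LK LD1_c3 LD2_c2 LD3_c51))))
theorem f416942 : Led Lsl_et (LP (LK LD1_c1 LD2_c36 LD3_c11)) = (LP (LK LD1_c1 LD2_c36 LD3_c26)) :=
  Lgr Lrot71 (Lpe (f416935 IH) (Lpr_ef (f416940 IH) (Lpe (K16.f415413 IH) (Lpe (K24.f415417 IH) (Lpe (K24.f57142 IH) (Lpn (LP (LK LD1_c1 LD2_c36 LD3_c26))))))))
theorem f69105 : Led Lsl_dt (LP (LK LD1_c1 LD2_c32 LD3_c8)) = (LP (LK LD1_c3 LD2_c11 LD3_c35)) :=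
  Lre_d IH (LK LD1_c1 LD2_c32 LD3_c8) (LK LD1_c3 LD2_c11 LD3_c35) Lrfl Lrfl
theorem f415471 : Led Lsl_et (LP (LK LD1_c3 LD2_c20 LD3_c4)) = (LP (LK LD1_c3 LD2_c8 LD3_c53)) :=
  Lgr Lrot122 (Lpr_dt (K17.f415458 IH) (Lpr_gt (K16.f154029 IH) (Lpe (f69105 IH) (Lpr_et (K7.f152804 IH) (Lpe (K7.f154383 IH) (Lpr_dt (K7.f154388 IH) (Lpr_gt (K16.f154390 IH) (Lpe (K7.f84014 IH) (Lpr_et (K7.f153485 IH) (Lpr_gt (f154399 IH) (Lpn (LP (LK LD1_c3 LD2_c8 LD3_c53)))))))))))))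
theorem f416962 : Led Lsl_cf (LP (LK LD1_c1 LD2_c36 LD3_c11)) = (LP (LK LD1_c3 LD2_c8 LD3_c53)) :=
  Lgr Lrot39 (Lpr_et (f416942 IH) (Lpr_ct (K17.f415439 IH) (Lpr_et (f415471 IH) (Lpn (LP (LK LD1_c3 LD2_c8 LD3_c53))))))
theorem f24684 : Led Lsl_dt (LP (LK LD1_c1 LD2_c36 LD3_c11)) = (LP (LK LD1_c3 LD2_c19 LD3_c35)) :=
  Lre_d IH (LK LD1_c1 LD2_c36 LD3_c11) (LK LD1_c3 LD2_c19 LD3_c35) Lrfl Lrfl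
theorem f58344 : Led Lsl_at (LP (LK LD1_c3 LD2_c2 LD3_c22)) = (LP (LK LD1_c6 LD2_c9 LD3_c53)) :=
  Lre_a IH (LK LD1_c3 LD2_c2 LD3_c22) (LK LD1_c6 LD2_c9 LD3_c53) Lrfl Lrfl
theorem f58345 : Led Lsl_bt (LP (LK LD1_c1 LD2_c27 LD3_c27)) = (LP (LK LD1_c3 LD2_c2 LD3_c22)) :=
  Lre_b IH (LK LD1_c1 LD2_c27 LD3_c27) (LK LD1_c3 LD2_c2 LD3_c22) Lrfl Lrfl
theorem f58306 : Led Lsl_at (LP (LK LD1_c6 LD2_c17 LD3_c23)) = (LP (LK LD1_c3 LD2_c5 LD3_c61)) :=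
  Lre_a IH (LK LD1_c6 LD2_c17 LD3_c23) (LK LD1_c3 LD2_c5 LD3_c61) Lrfl Lrfl
theorem f58346 : Led Lsl_bt (LP (LK LD1_c3 LD2_c5 LD3_c61)) = (LP (LK LD1_c1 LD2_c29 LD3_c10)) :=
  Lre_b IH (LK LD1_c3 LD2_c5 LD3_c61) (LK LD1_c1 LD2_c29 LD3_c10) Lrfl Lrfl
theorem f58347 : Led Lsl_af (LP (LK LD1_c1 LD2_c27 LD3_c27)) = (LP (LK LD1_c1 LD2_c29 LD3_c10)) :=
  Lgr Lrot36 (Lpr_bt (f58345 IH) (Lpr_at (f58344 IH) (Lpr_bt (K1.f58332 IH) (Lpr_at (f58306 IH) (Lpr_bt (f58346 IH) (Lpn (LP (LK LD1_c1 LD2_c29 LD3_c10))))))))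
theorem f58469 : Led Lsl_ft (LP (LK LD1_c0 LD2_c41 LD3_c13)) = (LP (LK LD1_c1 LD2_c29 LD3_c10)) :=
  Lre_f IH (LK LD1_c0 LD2_c41 LD3_c13) (LK LD1_c1 LD2_c29 LD3_c10) Lrfl Lrfl
theorem f57673 : Led Lsl_gt (LP (LK LD1_c0 LD2_c41 LD3_c13)) = (LP (LK LD1_c1 LD2_c29 LD3_c7)) :=
  Lre_g IH (LK LD1_c0 LD2_c41 LD3_c13) (LK LD1_c1 LD2_c29 LD3_c7) Lrfl Lrfl
theorem f443948 : Led Lsl_gf (LP (LK LD1_c1 LD2_c27 LD3_c27)) = (LP (LK LD1_c1 LD2_c29 LD3_c7)) :=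
  Lgr Lrot76 (Lpr_af (f58347 IH) (Lpe (f58469 IH) (Lpr_gt (f57673 IH) (Lpn (LP (LK LD1_c1 LD2_c29 LD3_c7))))))
theorem f25533 : Led Lsl_dt (LP (LK LD1_c3 LD2_c3 LD3_c5)) = (LP (LK LD1_c1 LD2_c27 LD3_c27)) :=
  Lre_d IH (LK LD1_c3 LD2_c3 LD3_c5) (LK LD1_c1 LD2_c27 LD3_c27) Lrfl Lrfl
theorem f146076 : Led Lsl_ft (LP (LK LD1_c0 LD2_c31 LD3_c15)) = (LP (LK LD1_c1 LD2_c8 LD3_c16)) :=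
  Lre_f IH (LK LD1_c0 LD2_c31 LD3_c15) (LK LD1_c1 LD2_c8 LD3_c16) Lrfl Lrfl
theorem f23280 : Led Lsl_gt (LP (LK LD1_c0 LD2_c31 LD3_c15)) = (LP (LK LD1_c1 LD2_c8 LD3_c13)) :=
  Lre_g IH (LK LD1_c0 LD2_c31 LD3_c15) (LK LD1_c1 LD2_c8 LD3_c13) Lrfl Lrfl
theorem f438792 : Led Lsl_gf (LP (LK LD1_c0 LD2_c44 LD3_c43)) = (LP (LK LD1_c1 LD2_c8 LD3_c13)) :=
  Lgr Lrot76 (Lpr_af (K6.f135411 IH) (Lpe (f146076 IH) (Lpr_gt (f23280 IH) (Lpn (LP (LK LD1_c1 LD2_c8 LD3_c13))))))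
theorem f57182 : Led Lsl_dt (LP (LK LD1_c1 LD2_c36 LD3_c31)) = (LP (LK LD1_c0 LD2_c44 LD3_c43)) :=
  Lre_d IH (LK LD1_c1 LD2_c36 LD3_c31) (LK LD1_c0 LD2_c44 LD3_c43) Lrfl Lrfl
theorem f121424 : Led Lsl_gt (LP (LK LD1_c4 LD2_c50 LD3_c21)) = (LP (LK LD1_c2 LD2_c22 LD3_c58)) :=
  Lre_g IH (LK LD1_c4 LD2_c50 LD3_c21) (LK LD1_c2 LD2_c22 LD3_c58) Lrfl Lrfl
theorem f146183 : Led Lsl_gt (LP (LK LD1_c3 LD2_c20 LD3_c14)) = (LP (LK LD1_c4 LD2_c50 LD3_c21)) :=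
  Lgr Lrot5 (Lpe (K6.f146181 IH) (Lpr_at (K6.f146125 IH) (Lpe (f121424 IH) (Lpn (LP (LK LD1_c4 LD2_c50 LD3_c21))))))
theorem f20171 : Led Lsl_et (LP (LK LD1_c6 LD2_c12 LD3_c58)) = (LP (LK LD1_c3 LD2_c3 LD3_c12)) :=
  Lre_e IH (LK LD1_c6 LD2_c12 LD3_c58) (LK LD1_c3 LD2_c3 LD3_c12) Lrfl Lrfl
theorem f23808 : Led Lsl_et (LP (LK LD1_c3 LD2_c3 LD3_c12)) = (LP (LK LD1_c6 LD2_c12 LD3_c58)) :=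
  Lre_e IH (LK LD1_c3 LD2_c3 LD3_c12) (LK LD1_c6 LD2_c12 LD3_c58) Lrfl Lrfl
theorem f23809 : Led Lsl_dt (LP (LK LD1_c2 LD2_c22 LD3_c50)) = (LP (LK LD1_c1 LD2_c8 LD3_c32)) :=
  Lre_d IH (LK LD1_c2 LD2_c22 LD3_c50) (LK LD1_c1 LD2_c8 LD3_c32) Lrfl Lrfl
theorem f23810 : Led Lsl_et (LP (LK LD1_c4 LD2_c50 LD3_c6)) = (LP (LK LD1_c2 LD2_c22 LD3_c50)) :=
  Lre_e IH (LK LD1_c4 LD2_c50 LD3_c6) (LK LD1_c2 LD2_c22 LD3_c50) Lrfl Lrfl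
theorem f23811 : Led Lsl_dt (LP (LK LD1_c6 LD2_c12 LD3_c58)) = (LP (LK LD1_c4 LD2_c50 LD3_c6)) :=
  Lgr Lrot77 (Lpe (f23808 IH) (Lpr_df (K0.f23802 IH) (Lpe (K0.f23796 IH) (Lpe (f23809 IH) (Lpe (f23810 IH) (Lpn (LP (LK LD1_c4 LD2_c50 LD3_c6))))))))
theorem f62601 : Led Lsl_et (LP (LK LD1_c3 LD2_c20 LD3_c6)) = (LP (LK LD1_c1 LD2_c36 LD3_c28)) :=
  Lre_e IH (LK LD1_c3 LD2_c20 LD3_c6) (LK LD1_c1 LD2_c36 LD3_c28) Lrfl Lrfl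
theorem f146102 : Led Lsl_df (LP (LK LD1_c4 LD2_c50 LD3_c21)) = (LP (LK LD1_c3 LD2_c20 LD3_c6)) :=
  Lgr Lrot170 (Lpr_gt (f121424 IH) (Lpr_df (K6.f146094 IH) (Lpr_et (K6.f62602 IH) (Lpr_gt (K3.f7471 IH) (Lpr_dt (K0.f7456 IH) (Lpr_gt (K3.f57544 IH) (Lpe (K6.f57536 IH) (Lpe (K6.f62357 IH) (Lpr_gt (K16.f62598 IH) (Lpe (f62601 IH) (Lpn (LP (LK LD1_c3 LD2_c20 LD3_c6)))))))))))))
theorem f25667 : Led Lsl_et (LP (LK LD1_c1 LD2_c8 LD3_c34)) = (LP (LK LD1_c0 LD2_c31 LD3_c23)) :=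
  Lre_e IH (LK LD1_c1 LD2_c8 LD3_c34) (LK LD1_c0 LD2_c31 LD3_c23) Lrfl Lrfl
theorem f135596 : Led Lsl_dt (LP (LK LD1_c1 LD2_c8 LD3_c34)) = (LP (LK LD1_c0 LD2_c31 LD3_c21)) :=
  Lre_d IH (LK LD1_c1 LD2_c8 LD3_c34) (LK LD1_c0 LD2_c31 LD3_c21) Lrfl Lrfl
theorem f23819 : Led Lsl_gt (LP (LK LD1_c0 LD2_c31 LD3_c21)) = (LP (LK LD1_c1 LD2_c8 LD3_c32)) :=
  Lre_g IH (LK LD1_c0 LD2_c31 LD3_c21) (LK LD1_c1 LD2_c8 LD3_c32) Lrfl Lrfl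
theorem f23833 : Led Lsl_et (LP (LK LD1_c2 LD2_c22 LD3_c50)) = (LP (LK LD1_c4 LD2_c50 LD3_c6)) :=
  Lre_e IH (LK LD1_c2 LD2_c22 LD3_c50) (LK LD1_c4 LD2_c50 LD3_c6) Lrfl Lrfl
theorem f146107 : Led Lsl_gt (LP (LK LD1_c4 LD2_c50 LD3_c6)) = (LP (LK LD1_c3 LD2_c20 LD3_c6)) :=
  Lgr Lrot137 (Lpe (f23833 IH) (Lpr_dt (f23809 IH) (Lpe (f23819 IH) (Lpe (f135596 IH) (Lpr_et (f25667 IH) (Lpe (K3.f7471 IH) (Lpe (K6.f62602 IH) (Lpe (K6.f146094 IH) (Lpe (f121424 IH) (Lpr_df (f146102 IH) (Lpn (LP (LK LD1_c3 LD2_c20 LD3_c6)))))))))))))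
theorem f146104 : Led Lsl_dt (LP (LK LD1_c4 LD2_c50 LD3_c21)) = (LP (LK LD1_c3 LD2_c20 LD3_c6)) :=
  Lgr Lrot42 (Lpr_df (f146102 IH) (Lpn (LP (LK LD1_c3 LD2_c20 LD3_c6))))
theorem f25604 : Led Lsl_dt (LP (LK LD1_c2 LD2_c22 LD3_c49)) = (LP (LK LD1_c1 LD2_c8 LD3_c31)) :=
  Lre_d IH (LK LD1_c2 LD2_c22 LD3_c49) (LK LD1_c1 LD2_c8 LD3_c31) Lrfl Lrfl
theorem f25517 : Led Lsl_dt (LP (LK LD1_c1 LD2_c37 LD3_c17)) = (LP (LK LD1_c0 LD2_c44 LD3_c61)) :=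
  Lre_d IH (LK LD1_c1 LD2_c37 LD3_c17) (LK LD1_c0 LD2_c44 LD3_c61) Lrfl Lrfl
theorem f25606 : Led Lsl_gt (LP (LK LD1_c3 LD2_c22 LD3_c0)) = (LP (LK LD1_c1 LD2_c37 LD3_c17)) :=
  Lre_g IH (LK LD1_c3 LD2_c22 LD3_c0) (LK LD1_c1 LD2_c37 LD3_c17) Lrfl Lrfl
theorem f415333 : Led Lsl_et (LP (LK LD1_c4 LD2_c50 LD3_c21)) = (LP (LK LD1_c3 LD2_c22 LD3_c0)) :=
  Lgr Lrot121 (Lpr_dt (f146104 IH) (Lpe (f146107 IH) (Lpe (f23811 IH) (Lpr_et (f20171 IH) (Lpr_gf (K24.f415329 IH) (Lpr_ef (K0.f25574 IH) (Lpr_dt (f25604 IH) (Lpe (K0.f23255 IH) (Lpe (f25517 IH) (Lpe (f25606 IH) (Lpn (LP (LK LD1_c3 LD2_c22 LD3_c0)))))))))))))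
theorem f415343 : Led Lsl_ef (LP (LK LD1_c4 LD2_c50 LD3_c21)) = (LP (LK LD1_c3 LD2_c22 LD3_c0)) :=
  Lgr Lrot88 (Lpr_et (f415333 IH) (Lpn (LP (LK LD1_c3 LD2_c22 LD3_c0))))
theorem f415345 : Led Lsl_dt (LP (LK LD1_c3 LD2_c2 LD3_c54)) = (LP (LK LD1_c3 LD2_c22 LD3_c0)) :=
  Lgr Lrot77 (Lpe (K16.f415327 IH) (Lpe (K16.f62599 IH) (Lpe (f62601 IH) (Lpe (f146104 IH) (Lpr_ef (f415343 IH) (Lpn (LP (LK LD1_c3 LD2_c22 LD3_c0))))))))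
theorem f415347 : Led Lsl_df (LP (LK LD1_c3 LD2_c2 LD3_c54)) = (LP (LK LD1_c3 LD2_c22 LD3_c0)) :=
  Lgr Lrot38 (Lpr_dt (f415345 IH) (Lpn (LP (LK LD1_c3 LD2_c22 LD3_c0))))
theorem f84347 : Led Lsl_dt (LP (LK LD1_c2 LD2_c22 LD3_c8)) = (LP (LK LD1_c1 LD2_c8 LD3_c13)) :=
  Lre_d IH (LK LD1_c2 LD2_c22 LD3_c8) (LK LD1_c1 LD2_c8 LD3_c13) Lrfl Lrfl
theorem f417083 : Led Lsl_gt (LP (LK LD1_c4 LD2_c48 LD3_c30)) = (LP (LK LD1_c2 LD2_c22 LD3_c8)) :=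
  Lre_g IH (LK LD1_c4 LD2_c48 LD3_c30) (LK LD1_c2 LD2_c22 LD3_c8) Lrfl Lrfl
theorem f438800 : Led Lsl_et (LP (LK LD1_c2 LD2_c22 LD3_c55)) = (LP (LK LD1_c4 LD2_c48 LD3_c30)) :=
  Lgr Lrot121 (Lpr_dt (K24.f415317 IH) (Lpe (K16.f413498 IH) (Lpr_df (f415347 IH) (Lpe (f415343 IH) (Lpe (f146183 IH) (Lpe (K6.f62597 IH) (Lpr_dt (f57182 IH) (Lpr_gf (f438792 IH) (Lpe (f84347 IH) (Lpe (f417083 IH) (Lpn (LP (LK LD1_c4 LD2_c48 LD3_c30)))))))))))))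
theorem f438806 : Led Lsl_ef (LP (LK LD1_c2 LD2_c22 LD3_c55)) = (LP (LK LD1_c4 LD2_c48 LD3_c30)) :=
  Lgr Lrot88 (Lpr_et (f438800 IH) (Lpn (LP (LK LD1_c4 LD2_c48 LD3_c30))))
theorem f413468 : Led Lsl_dt (LP (LK LD1_c1 LD2_c27 LD3_c21)) = (LP (LK LD1_c0 LD2_c40 LD3_c25)) :=
  Lre_d IH (LK LD1_c1 LD2_c27 LD3_c21) (LK LD1_c0 LD2_c40 LD3_c25) Lrfl Lrfl
theorem f57159 : Led Lsl_et (LP (LK LD1_c3 LD2_c2 LD3_c53)) = (LP (LK LD1_c1 LD2_c27 LD3_c21)) :=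
  Lre_e IH (LK LD1_c3 LD2_c2 LD3_c53) (LK LD1_c1 LD2_c27 LD3_c21) Lrfl Lrfl
theorem f438804 : Led Lsl_df (LP (LK LD1_c3 LD2_c2 LD3_c53)) = (LP (LK LD1_c4 LD2_c48 LD3_c30)) :=
  Lgr Lrot70 (Lpr_et (f57159 IH) (Lpr_dt (f413468 IH) (Lpr_et (K16.f415319 IH) (Lpe (K16.f415309 IH) (Lpr_et (f438800 IH) (Lpn (LP (LK LD1_c4 LD2_c48 LD3_c30))))))))
theorem f57137 : Led Lsl_gt (LP (LK LD1_c3 LD2_c2 LD3_c53)) = (LP (LK LD1_c1 LD2_c33 LD3_c45)) :=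
  Lre_g IH (LK LD1_c3 LD2_c2 LD3_c53) (LK LD1_c1 LD2_c33 LD3_c45) Lrfl Lrfl
theorem f135429 : Led Lsl_dt (LP (LK LD1_c1 LD2_c36 LD3_c29)) = (LP (LK LD1_c1 LD2_c33 LD3_c45)) :=
  Lre_d IH (LK LD1_c1 LD2_c36 LD3_c29) (LK LD1_c1 LD2_c33 LD3_c45) Lrfl Lrfl
theorem f416167 : Led Lsl_et (LP (LK LD1_c1 LD2_c36 LD3_c29)) = (LP (LK LD1_c3 LD2_c20 LD3_c8)) :=
  Lre_e IH (LK LD1_c1 LD2_c36 LD3_c29) (LK LD1_c3 LD2_c20 LD3_c8) Lrfl Lrfl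
theorem f57674 : Led Lsl_dt (LP (LK LD1_c3 LD2_c6 LD3_c5)) = (LP (LK LD1_c1 LD2_c29 LD3_c7)) :=
  Lre_d IH (LK LD1_c3 LD2_c6 LD3_c5) (LK LD1_c1 LD2_c29 LD3_c7) Lrfl Lrfl
theorem f443962 : Led Lsl_gt (LP (LK LD1_c3 LD2_c20 LD3_c8)) = (LP (LK LD1_c3 LD2_c6 LD3_c5)) :=
  Lgr Lrot137 (Lpe (f416167 IH) (Lpr_dt (f135429 IH) (Lpe (f57137 IH) (Lpr_df (f438804 IH) (Lpe (f438806 IH) (Lpe (K16.f23821 IH) (Lpe (K0.f25572 IH) (Lpr_dt (f25533 IH) (Lpr_gf (f443948 IH) (Lpe (f57674 IH) (Lpn (LP (LK LD1_c3 LD2_c6 LD3_c5)))))))))))))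
theorem f57166 : Led Lsl_et (LP (LK LD1_c1 LD2_c27 LD3_c21)) = (LP (LK LD1_c3 LD2_c2 LD3_c53)) :=
  Lre_e IH (LK LD1_c1 LD2_c27 LD3_c21) (LK LD1_c3 LD2_c2 LD3_c53) Lrfl Lrfl
theorem f438810 : Led Lsl_dt (LP (LK LD1_c3 LD2_c2 LD3_c53)) = (LP (LK LD1_c4 LD2_c48 LD3_c30)) :=
  Lgr Lrot77 (Lpe (f57166 IH) (Lpe (K16.f59834 IH) (Lpe (K16.f415308 IH) (Lpe (K24.f415317 IH) (Lpr_ef (f438806 IH) (Lpn (LP (LK LD1_c4 LD2_c48 LD3_c30))))))))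
theorem f416681 : Led Lsl_gt (LP (LK LD1_c0 LD2_c44 LD3_c58)) = (LP (LK LD1_c1 LD2_c37 LD3_c0)) :=
  Lgr Lrot49 (Lpe (K16.f140981 IH) (Lpe (K16.f139931 IH) (Lpe (K9.f98994 IH) (Lpr_gt (K17.f186139 IH) (Lpr_dt (K24.f414619 IH) (Lpr_gt (K24.f415141 IH) (Lpr_dt (K24.f415146 IH) (Lpr_cf (K24.f416660 IH) (Lpe (K24.f416665 IH) (Lpn (LP (LK LD1_c1 LD2_c37 LD3_c0))))))))))))
theorem f135526 : Led Lsl_dt (LP (LK LD1_c1 LD2_c8 LD3_c14)) = (LP (LK LD1_c2 LD2_c22 LD3_c10)) :=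
  Lre_d IH (LK LD1_c1 LD2_c8 LD3_c14) (LK LD1_c2 LD2_c22 LD3_c10) Lrfl Lrfl
theorem f438814 : Led Lsl_gt (LP (LK LD1_c2 LD2_c22 LD3_c10)) = (LP (LK LD1_c4 LD2_c48 LD3_c30)) :=
  Lgr Lrot112 (Lpe (f135526 IH) (Lpr_et (K24.f416669 IH) (Lpe (f416681 IH) (Lpe (K24.f415237 IH) (Lpr_dt (K24.f76974 IH) (Lpe (K24.f416552 IH) (Lpr_df (K16.f415415 IH) (Lpe (K16.f59835 IH) (Lpe (f57159 IH) (Lpr_dt (f438810 IH) (Lpn (LP (LK LD1_c4 LD2_c48 LD3_c30)))))))))))))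
theorem f416805 : Led Lsl_ef (LP (LK LD1_c3 LD2_c21 LD3_c35)) = (LP (LK LD1_c3 LD2_c3 LD3_c2)) :=
  Lgr Lrot88 (Lpr_et (K24.f416801 IH) (Lpn (LP (LK LD1_c3 LD2_c3 LD3_c2))))
theorem f416807 : Led Lsl_dt (LP (LK LD1_c2 LD2_c21 LD3_c58)) = (LP (LK LD1_c3 LD2_c3 LD3_c2)) :=
  Lgr Lrot77 (Lpr_ef (K24.f135519 IH) (Lpe (f135526 IH) (Lpr_ef (K24.f416666 IH) (Lpe (K24.f416652 IH) (Lpr_ef (f416805 IH) (Lpn (LP (LK LD1_c3 LD2_c3 LD3_c2))))))))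
theorem f443969 : Led Lsl_et (LP (LK LD1_c3 LD2_c3 LD3_c3)) = (LP (LK LD1_c3 LD2_c6 LD3_c5)) :=
  Lgr Lrot122 (Lpr_dt (K9.f24635 IH) (Lpr_gt (K24.f24636 IH) (Lpe (f416807 IH) (Lpr_et (K24.f135527 IH) (Lpr_gt (f438814 IH) (Lpe (f438804 IH) (Lpr_gt (f57137 IH) (Lpe (f135429 IH) (Lpr_et (f416167 IH) (Lpr_gt (f443962 IH) (Lpn (LP (LK LD1_c3 LD2_c6 LD3_c5)))))))))))))
theorem f443975 : Led Lsl_ef (LP (LK LD1_c1 LD2_c27 LD3_c25)) = (LP (LK LD1_c1 LD2_c29 LD3_c7)) :=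
  Lgr Lrot73 (Lpr_dt (K24.f22959 IH) (Lpr_et (K24.f416800 IH) (Lpr_dt (K9.f24624 IH) (Lpr_et (f443969 IH) (Lpr_dt (f57674 IH) (Lpn (LP (LK LD1_c1 LD2_c29 LD3_c7))))))))
theorem f24630 : Led Lsl_gt (LP (LK LD1_c0 LD2_c44 LD3_c34)) = (LP (LK LD1_c0 LD2_c19 LD3_c50)) :=
  Lre_g IH (LK LD1_c0 LD2_c44 LD3_c34) (LK LD1_c0 LD2_c19 LD3_c50) Lrfl Lrfl
theorem f24631 : Led Lsl_et (LP (LK LD1_c1 LD2_c36 LD3_c10)) = (LP (LK LD1_c0 LD2_c44 LD3_c34)) :=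
  Lre_e IH (LK LD1_c1 LD2_c36 LD3_c10) (LK LD1_c0 LD2_c44 LD3_c34) Lrfl Lrfl
theorem f24632 : Led Lsl_dt (LP (LK LD1_c1 LD2_c36 LD3_c10)) = (LP (LK LD1_c3 LD2_c19 LD3_c32)) :=
  Lre_d IH (LK LD1_c1 LD2_c36 LD3_c10) (LK LD1_c3 LD2_c19 LD3_c32) Lrfl Lrfl
theorem f58489 : Led Lsl_dt (LP (LK LD1_c1 LD2_c29 LD3_c7)) = (LP (LK LD1_c3 LD2_c6 LD3_c5)) :=
  Lre_d IH (LK LD1_c1 LD2_c29 LD3_c7) (LK LD1_c3 LD2_c6 LD3_c5) Lrfl Lrfl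
theorem f443977 : Led Lsl_gf (LP (LK LD1_c3 LD2_c19 LD3_c32)) = (LP (LK LD1_c3 LD2_c6 LD3_c5)) :=
  Lgr Lrot145 (Lpe (f24632 IH) (Lpr_et (f24631 IH) (Lpr_gt (f24630 IH) (Lpr_dt (f24693 IH) (Lpr_gt (f24683 IH) (Lpe (f416935 IH) (Lpr_et (f416936 IH) (Lpe (K24.f416793 IH) (Lpr_ef (f443975 IH) (Lpr_dt (f58489 IH) (Lpn (LP (LK LD1_c3 LD2_c6 LD3_c5)))))))))))))
theorem f57699 : Led Lsl_dt (LP (LK LD1_c3 LD2_c19 LD3_c32)) = (LP (LK LD1_c1 LD2_c36 LD3_c10)) :=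
  Lre_d IH (LK LD1_c3 LD2_c19 LD3_c32) (LK LD1_c1 LD2_c36 LD3_c10) Lrfl Lrfl
theorem f25168 : Led Lsl_ct (LP (LK LD1_c0 LD2_c41 LD3_c13)) = (LP (LK LD1_c0 LD2_c39 LD3_c49)) :=
  Lgr Lrot15 (Lpe (K24.f25167 IH) (Lpr_cf (K0.f25156 IH) (Lpe (K0.f22997 IH) (Lpn (LP (LK LD1_c0 LD2_c39 LD3_c49))))))
theorem f22979 : Led Lsl_gt (LP (LK LD1_c0 LD2_c39 LD3_c49)) = (LP (LK LD1_c1 LD2_c26 LD3_c11)) :=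
  Lre_g IH (LK LD1_c0 LD2_c39 LD3_c49) (LK LD1_c1 LD2_c26 LD3_c11) Lrfl Lrfl
theorem f23079 : Led Lsl_dt (LP (LK LD1_c1 LD2_c26 LD3_c11)) = (LP (LK LD1_c3 LD2_c0 LD3_c47)) :=
  Lre_d IH (LK LD1_c1 LD2_c26 LD3_c11) (LK LD1_c3 LD2_c0 LD3_c47) Lrfl Lrfl
theorem f22980 : Led Lsl_et (LP (LK LD1_c0 LD2_c17 LD3_c50)) = (LP (LK LD1_c0 LD2_c39 LD3_c49)) :=
  Lre_e IH (LK LD1_c0 LD2_c17 LD3_c50) (LK LD1_c0 LD2_c39 LD3_c49) Lrfl Lrfl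
theorem f68641 : Led Lsl_gt (LP (LK LD1_c1 LD2_c24 LD3_c26)) = (LP (LK LD1_c0 LD2_c38 LD3_c56)) :=
  Lre_g IH (LK LD1_c1 LD2_c24 LD3_c26) (LK LD1_c0 LD2_c38 LD3_c56) Lrfl Lrfl
theorem f411204 : Led Lsl_et (LP (LK LD1_c2 LD2_c57 LD3_c25)) = (LP (LK LD1_c1 LD2_c24 LD3_c26)) :=
  Lre_e IH (LK LD1_c2 LD2_c57 LD3_c25) (LK LD1_c1 LD2_c24 LD3_c26) Lrfl Lrfl
theorem f411195 : Led Lsl_dt (LP (LK LD1_c2 LD2_c57 LD3_c25)) = (LP (LK LD1_c6 LD2_c2 LD3_c40)) :=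
  Lre_d IH (LK LD1_c2 LD2_c57 LD3_c25) (LK LD1_c6 LD2_c2 LD3_c40) Lrfl Lrfl
theorem f443717 : Led Lsl_gt (LP (LK LD1_c3 LD2_c0 LD3_c47)) = (LP (LK LD1_c6 LD2_c2 LD3_c40)) :=
  Lgr Lrot139 (Lpe (f23079 IH) (Lpe (f22979 IH) (Lpe (f22980 IH) (Lpr_dt (K2.f20602 IH) (Lpr_gf (K5.f59808 IH) (Lpr_df (K2.f61867 IH) (Lpr_et (K11.f61869 IH) (Lpe (f68641 IH) (Lpe (f411204 IH) (Lpr_dt (f411195 IH) (Lpn (LP (LK LD1_c6 LD2_c2 LD3_c40)))))))))))))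
theorem f411196 : Led Lsl_dt (LP (LK LD1_c6 LD2_c2 LD3_c40)) = (LP (LK LD1_c2 LD2_c57 LD3_c25)) :=
  Lre_d IH (LK LD1_c6 LD2_c2 LD3_c40) (LK LD1_c2 LD2_c57 LD3_c25) Lrfl Lrfl
theorem f443981 : Led Lsl_cf (LP (LK LD1_c1 LD2_c36 LD3_c10)) = (LP (LK LD1_c2 LD2_c57 LD3_c25)) :=
  Lgr Lrot14 (Lpe (f57699 IH) (Lpr_gf (f443977 IH) (Lpe (f58489 IH) (Lpe (f57673 IH) (Lpr_ct (f25168 IH) (Lpr_gt (f22979 IH) (Lpr_dt (f23079 IH) (Lpr_gt (f443717 IH) (Lpr_dt (f411196 IH) (Lpn (LP (LK LD1_c2 LD2_c57 LD3_c25))))))))))))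
theorem f443740 : Led Lsl_et (LP (LK LD1_c1 LD2_c24 LD3_c26)) = (LP (LK LD1_c2 LD2_c57 LD3_c25)) :=
  Lre_e IH (LK LD1_c1 LD2_c24 LD3_c26) (LK LD1_c2 LD2_c57 LD3_c25) Lrfl Lrfl
theorem f443997 : Led Lsl_ct (LP (LK LD1_c0 LD2_c44 LD3_c34)) = (LP (LK LD1_c1 LD2_c24 LD3_c26)) :=
  Lgr Lrot15 (Lpe (f24631 IH) (Lpr_cf (f443981 IH) (Lpe (f443740 IH) (Lpn (LP (LK LD1_c1 LD2_c24 LD3_c26))))))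
theorem f22977 : Led Lsl_gt (LP (LK LD1_c1 LD2_c24 LD3_c27)) = (LP (LK LD1_c2 LD2_c57 LD3_c26)) :=
  Lre_g IH (LK LD1_c1 LD2_c24 LD3_c27) (LK LD1_c2 LD2_c57 LD3_c26) Lrfl Lrfl
theorem f68942 : Led Lsl_dt (LP (LK LD1_c2 LD2_c57 LD3_c26)) = (LP (LK LD1_c6 LD2_c2 LD3_c41)) :=
  Lre_d IH (LK LD1_c2 LD2_c57 LD3_c26) (LK LD1_c6 LD2_c2 LD3_c41) Lrfl Lrfl
theorem f444003 : Led Lsl_cf (LP (LK LD1_c3 LD2_c19 LD3_c35)) = (LP (LK LD1_c6 LD2_c2 LD3_c41)) :=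
  Lgr Lrot14 (Lpe (f24684 IH) (Lpe (f24683 IH) (Lpe (f24693 IH) (Lpe (f24630 IH) (Lpr_ct (f443997 IH) (Lpr_gt (f68641 IH) (Lpr_dt (K11.f22976 IH) (Lpr_gt (f22977 IH) (Lpr_dt (f68942 IH) (Lpn (LP (LK LD1_c6 LD2_c2 LD3_c41))))))))))))
theorem f204244 : Led Lsl_dt (LP (LK LD1_c1 LD2_c24 LD3_c28)) = (LP (LK LD1_c2 LD2_c57 LD3_c29)) :=
  Lre_d IH (LK LD1_c1 LD2_c24 LD3_c28) (LK LD1_c2 LD2_c57 LD3_c29) Lrfl Lrfl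
theorem f204245 : Led Lsl_at (LP (LK LD1_c2 LD2_c57 LD3_c29)) = (LP (LK LD1_c4 LD2_c38 LD3_c60)) :=
  Lgr Lrot51 (Lpe (f204244 IH) (Lpr_af (K11.f204224 IH) (Lpe (K11.f61100 IH) (Lpn (LP (LK LD1_c4 LD2_c38 LD3_c60))))))
theorem f68937 : Led Lsl_ft (LP (LK LD1_c1 LD2_c24 LD3_c27)) = (LP (LK LD1_c2 LD2_c57 LD3_c29)) :=
  Lre_f IH (LK LD1_c1 LD2_c24 LD3_c27) (LK LD1_c2 LD2_c57 LD3_c29) Lrfl Lrfl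
theorem f419115 : Led Lsl_gt (LP (LK LD1_c2 LD2_c57 LD3_c26)) = (LP (LK LD1_c4 LD2_c38 LD3_c60)) :=
  Lgr Lrot46 (Lpe (f22977 IH) (Lpr_ft (f68937 IH) (Lpr_at (f204245 IH) (Lpn (LP (LK LD1_c4 LD2_c38 LD3_c60))))))
theorem f22978 : Led Lsl_dt (LP (LK LD1_c6 LD2_c2 LD3_c41)) = (LP (LK LD1_c2 LD2_c57 LD3_c26)) :=
  Lre_d IH (LK LD1_c6 LD2_c2 LD3_c41) (LK LD1_c2 LD2_c57 LD3_c26) Lrfl Lrfl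
theorem f61112 : Led Lsl_dt (LP (LK LD1_c2 LD2_c16 LD3_c30)) = (LP (LK LD1_c4 LD2_c38 LD3_c60)) :=
  Lre_d IH (LK LD1_c2 LD2_c16 LD3_c30) (LK LD1_c4 LD2_c38 LD3_c60) Lrfl Lrfl
theorem f69098 : Led Lsl_ft (LP (LK LD1_c1 LD2_c24 LD3_c21)) = (LP (LK LD1_c0 LD2_c38 LD3_c54)) :=
  Lre_f IH (LK LD1_c1 LD2_c24 LD3_c21) (LK LD1_c0 LD2_c38 LD3_c54) Lrfl Lrfl
theorem f210130 : Led Lsl_gf (LP (LK LD1_c2 LD2_c16 LD3_c21)) = (LP (LK LD1_c1 LD2_c24 LD3_c21)) :=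
  Lgr Lrot47 (Lpr_gt (K24.f26768 IH) (Lpr_af (K16.f210107 IH) (Lpe (f69098 IH) (Lpn (LP (LK LD1_c1 LD2_c24 LD3_c21))))))
theorem f27037 : Led Lsl_et (LP (LK LD1_c2 LD2_c17 LD3_c31)) = (LP (LK LD1_c4 LD2_c40 LD3_c59)) :=
  Lre_e IH (LK LD1_c2 LD2_c17 LD3_c31) (LK LD1_c4 LD2_c40 LD3_c59) Lrfl Lrfl
theorem f419117 : Led Lsl_gf (LP (LK LD1_c6 LD2_c2 LD3_c41)) = (LP (LK LD1_c4 LD2_c40 LD3_c59)) :=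
  Lgr Lrot138 (Lpr_dt (f22978 IH) (Lpr_gt (f419115 IH) (Lpe (f61112 IH) (Lpe (K11.f204639 IH) (Lpe (f210130 IH) (Lpr_ef (K24.f416692 IH) (Lpr_dt (K24.f416683 IH) (Lpe (K24.f416710 IH) (Lpe (K24.f27045 IH) (Lpr_et (f27037 IH) (Lpn (LP (LK LD1_c4 LD2_c40 LD3_c59)))))))))))))
theorem f491578 : Led Lsl_gf (LP (LK LD1_c3 LD2_c12 LD3_c45)) = v1115 :=
  Lgr Lrot147 (Lpe (K8.f61032 IH) (Lpe (f419117 IH) (Lpe (f444003 IH) (Lpe (f24684 IH) (Lpr_cf (f416962 IH) (Lpe (f154399 IH) (Lpe (K11.f153496 IH) (Lpe (f416969 IH) (Lpr_df (f491576 IH) (Lpn v1115))))))))))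
theorem f61023 : Led Lsl_ct (LP (LK LD1_c4 LD2_c42 LD3_c2)) = (LP (LK LD1_c9 LD2_c18 LD3_c31)) :=
  Lre_c IH (LK LD1_c4 LD2_c42 LD3_c2) (LK LD1_c9 LD2_c18 LD3_c31) Lrfl Lrfl
theorem f445906 : Led Lsl_cf (LP (LK LD1_c3 LD2_c12 LD3_c56)) = (LP (LK LD1_c4 LD2_c40 LD3_c8)) :=
  Lgr Lrot14 (Lpe (K11.f59491 IH) (Lpe (K11.f26312 IH) (Lpe (K11.f26311 IH) (Lpe (K11.f26310 IH) (Lpe (K24.f26370 IH) (Lpr_gt (K11.f26813 IH) (Lpr_dt (K11.f59499 IH) (Lpr_gt (K11.f59500 IH) (Lpr_dt (K11.f445898 IH) (Lpn (LP (LK LD1_c4 LD2_c40 LD3_c8))))))))))))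
theorem f445910 : Led Lsl_ct (LP (LK LD1_c1 LD2_c32 LD3_c55)) = (LP (LK LD1_c2 LD2_c17 LD3_c5)) :=
  Lgr Lrot15 (Lpe (K11.f59483 IH) (Lpr_cf (f445906 IH) (Lpe (K16.f421006 IH) (Lpn (LP (LK LD1_c2 LD2_c17 LD3_c5))))))
theorem f438348 : Led Lsl_gf (LP (LK LD1_c1 LD2_c32 LD3_c55)) = (LP (LK LD1_c1 LD2_c29 LD3_c29)) :=
  Lgr Lrot141 (Lpe (K11.f59483 IH) (Lpe (K11.f59484 IH) (Lpe (K24.f435268 IH) (Lpe (K24.f152216 IH) (Lpr_et (K24.f152224 IH) (Lpr_gt (K24.f438340 IH) (Lpr_dt (K24.f73754 IH) (Lpr_gt (K9.f73753 IH) (Lpe (K9.f73748 IH) (Lpr_et (K9.f68293 IH) (Lpn (LP (LK LD1_c1 LD2_c29 LD3_c29)))))))))))))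
theorem f67431 : Led Lsl_at (LP (LK LD1_c1 LD2_c29 LD3_c28)) = (LP (LK LD1_c1 LD2_c32 LD3_c14)) :=
  Lgr Lrot100 (Lpr_af (K2.f67429 IH) (Lpn (LP (LK LD1_c1 LD2_c32 LD3_c14))))
theorem f68055 : Led Lsl_ft (LP (LK LD1_c3 LD2_c6 LD3_c47)) = (LP (LK LD1_c1 LD2_c29 LD3_c28)) :=
  Lre_f IH (LK LD1_c3 LD2_c6 LD3_c47) (LK LD1_c1 LD2_c29 LD3_c28) Lrfl Lrfl
theorem f68066 : Led Lsl_gt (LP (LK LD1_c3 LD2_c11 LD3_c47)) = (LP (LK LD1_c1 LD2_c32 LD3_c14)) :=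
  Lre_g IH (LK LD1_c3 LD2_c11 LD3_c47) (LK LD1_c1 LD2_c32 LD3_c14) Lrfl Lrfl
theorem f68067 : Led Lsl_gt (LP (LK LD1_c3 LD2_c6 LD3_c47)) = (LP (LK LD1_c3 LD2_c11 LD3_c47)) :=
  Lgr Lrot5 (Lpr_ft (f68055 IH) (Lpr_at (f67431 IH) (Lpe (f68066 IH) (Lpn (LP (LK LD1_c3 LD2_c11 LD3_c47))))))
theorem f25549 : Led Lsl_ct (LP (LK LD1_c3 LD2_c3 LD3_c13)) = (LP (LK LD1_c1 LD2_c27 LD3_c30)) :=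
  Lre_c IH (LK LD1_c3 LD2_c3 LD3_c13) (LK LD1_c1 LD2_c27 LD3_c30) Lrfl Lrfl
theorem f7506 : Led Lsl_gt (LP (LK LD1_c6 LD2_c12 LD3_c60)) = (LP (LK LD1_c3 LD2_c3 LD3_c13)) :=
  Lre_g IH (LK LD1_c6 LD2_c12 LD3_c60) (LK LD1_c3 LD2_c3 LD3_c13) Lrfl Lrfl
theorem f445918 : Led Lsl_ct (LP (LK LD1_c3 LD2_c11 LD3_c47)) = (LP (LK LD1_c6 LD2_c12 LD3_c60)) :=
  Lgr Lrot152 (Lpe (f68067 IH) (Lpe (K2.f67464 IH) (Lpe (f438348 IH) (Lpr_ct (f445910 IH) (Lpr_gt (K11.f198670 IH) (Lpr_ct (K0.f20109 IH) (Lpe (K0.f20168 IH) (Lpe (f25549 IH) (Lpe (f7506 IH) (Lpn (LP (LK LD1_c6 LD2_c12 LD3_c60))))))))))))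
theorem f59489 : Led Lsl_dt (LP (LK LD1_c1 LD2_c32 LD3_c54)) = (LP (LK LD1_c3 LD2_c12 LD3_c53)) :=
  Lre_d IH (LK LD1_c1 LD2_c32 LD3_c54) (LK LD1_c3 LD2_c12 LD3_c53) Lrfl Lrfl
theorem f68251 : Led Lsl_ct (LP (LK LD1_c6 LD2_c29 LD3_c50)) = (LP (LK LD1_c3 LD2_c12 LD3_c53)) :=
  Lre_c IH (LK LD1_c6 LD2_c29 LD3_c50) (LK LD1_c3 LD2_c12 LD3_c53) Lrfl Lrfl
theorem f58563 : Led Lsl_dt (LP (LK LD1_c3 LD2_c3 LD3_c13)) = (LP (LK LD1_c6 LD2_c13 LD3_c0)) :=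
  Lre_d IH (LK LD1_c3 LD2_c3 LD3_c13) (LK LD1_c6 LD2_c13 LD3_c0) Lrfl Lrfl
theorem f7520 : Led Lsl_gt (LP (LK LD1_c6 LD2_c13 LD3_c0)) = (LP (LK LD1_c12 LD2_c4 LD3_c58)) :=
  Lre_g IH (LK LD1_c6 LD2_c13 LD3_c0) (LK LD1_c12 LD2_c4 LD3_c58) Lrfl Lrfl
theorem f445925 : Led Lsl_df (LP (LK LD1_c6 LD2_c29 LD3_c50)) = (LP (LK LD1_c12 LD2_c4 LD3_c58)) :=
  Lgr Lrot174 (Lpr_ct (f68251 IH) (Lpe (f59489 IH) (Lpe (K9.f59486 IH) (Lpr_df (K2.f68231 IH) (Lpe (f68066 IH) (Lpr_ct (f445918 IH) (Lpr_gt (f7506 IH) (Lpr_dt (f58563 IH) (Lpr_gt (f7520 IH) (Lpn (LP (LK LD1_c12 LD2_c4 LD3_c58))))))))))))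
theorem f445928 : Led Lsl_dt (LP (LK LD1_c6 LD2_c29 LD3_c50)) = (LP (LK LD1_c12 LD2_c4 LD3_c58)) :=
  Lgr Lrot42 (Lpr_df (f445925 IH) (Lpn (LP (LK LD1_c12 LD2_c4 LD3_c58))))
theorem f79712 : Led Lsl_ef (LP (LK LD1_c3 LD2_c12 LD3_c44)) = (LP (LK LD1_c1 LD2_c32 LD3_c54)) :=
  Lgr Lrot88 (Lpr_et (K9.f79708 IH) (Lpn (LP (LK LD1_c1 LD2_c32 LD3_c54))))
theorem f68254 : Led Lsl_dt (LP (LK LD1_c3 LD2_c12 LD3_c53)) = (LP (LK LD1_c1 LD2_c32 LD3_c54)) :=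
  Lre_d IH (LK LD1_c3 LD2_c12 LD3_c53) (LK LD1_c1 LD2_c32 LD3_c54) Lrfl Lrfl
theorem f79718 : Led Lsl_et (LP (LK LD1_c4 LD2_c42 LD3_c2)) = (LP (LK LD1_c3 LD2_c12 LD3_c53)) :=
  Lgr Lrot71 (Lpr_df (K8.f61019 IH) (Lpe (K17.f61026 IH) (Lpe (K9.f61027 IH) (Lpr_ef (f79712 IH) (Lpe (f68254 IH) (Lpn (LP (LK LD1_c3 LD2_c12 LD3_c53))))))))
theorem f61028 : Led Lsl_ct (LP (LK LD1_c9 LD2_c18 LD3_c31)) = (LP (LK LD1_c4 LD2_c42 LD3_c2)) :=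
  Lre_c IH (LK LD1_c9 LD2_c18 LD3_c31) (LK LD1_c4 LD2_c42 LD3_c2) Lrfl Lrfl
theorem f68250 : Led Lsl_ct (LP (LK LD1_c3 LD2_c12 LD3_c53)) = (LP (LK LD1_c6 LD2_c29 LD3_c50)) :=
  Lre_c IH (LK LD1_c3 LD2_c12 LD3_c53) (LK LD1_c6 LD2_c29 LD3_c50) Lrfl Lrfl
theorem f79720 : Led Lsl_ef (LP (LK LD1_c9 LD2_c18 LD3_c31)) = (LP (LK LD1_c6 LD2_c29 LD3_c50)) :=
  Lgr Lrot28 (Lpr_ct (f61028 IH) (Lpr_et (f79718 IH) (Lpr_ct (f68250 IH) (Lpn (LP (LK LD1_c6 LD2_c29 LD3_c50))))))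
theorem f58526 : Led Lsl_dt (LP (LK LD1_c12 LD2_c12 LD3_c12)) = (LP (LK LD1_c6 LD2_c17 LD3_c60)) :=
  Lre_d IH (LK LD1_c12 LD2_c12 LD3_c12) (LK LD1_c6 LD2_c17 LD3_c60) Lrfl Lrfl
theorem f58527 : Led Lsl_at (LP (LK LD1_c11 LD2_c58 LD3_c36)) = (LP (LK LD1_c12 LD2_c12 LD3_c12)) :=
  Lgr Lrot51 (Lpe (K1.f7533 IH) (Lpr_af (K1.f58517 IH) (Lpe (f58526 IH) (Lpn (LP (LK LD1_c12 LD2_c12 LD3_c12))))))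
theorem f443937 : Led Lsl_gt (LP (LK LD1_c12 LD2_c4 LD3_c58)) = (LP (LK LD1_c12 LD2_c12 LD3_c12)) :=
  Lgr Lrot46 (Lpe (f7520 IH) (Lpr_ft (K0.f7514 IH) (Lpr_at (f58527 IH) (Lpn (LP (LK LD1_c12 LD2_c12 LD3_c12))))))
theorem f25590 : Led Lsl_ct (LP (LK LD1_c4 LD2_c50 LD3_c3)) = (LP (LK LD1_c2 LD2_c22 LD3_c49)) :=
  Lre_c IH (LK LD1_c4 LD2_c50 LD3_c3) (LK LD1_c2 LD2_c22 LD3_c49) Lrfl Lrfl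
theorem f25591 : Led Lsl_et (LP (LK LD1_c6 LD2_c17 LD3_c60)) = (LP (LK LD1_c4 LD2_c50 LD3_c3)) :=
  Lgr Lrot158 (Lpe (K1.f25589 IH) (Lpr_ef (K0.f25574 IH) (Lpe (f25590 IH) (Lpn (LP (LK LD1_c4 LD2_c50 LD3_c3))))))
theorem f416145 : Led Lsl_gt (LP (LK LD1_c4 LD2_c50 LD3_c3)) = (LP (LK LD1_c3 LD2_c22 LD3_c10)) :=
  Lre_g IH (LK LD1_c4 LD2_c50 LD3_c3) (LK LD1_c3 LD2_c22 LD3_c10) Lrfl Lrfl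
theorem f416146 : Led Lsl_dt (LP (LK LD1_c3 LD2_c22 LD3_c10)) = (LP (LK LD1_c6 LD2_c47 LD3_c58)) :=
  Lre_d IH (LK LD1_c3 LD2_c22 LD3_c10) (LK LD1_c6 LD2_c47 LD3_c58) Lrfl Lrfl
theorem f68408 : Led Lsl_ct (LP (LK LD1_c3 LD2_c14 LD3_c34)) = (LP (LK LD1_c6 LD2_c32 LD3_c41)) :=
  Lre_c IH (LK LD1_c3 LD2_c14 LD3_c34) (LK LD1_c6 LD2_c32 LD3_c41) Lrfl Lrfl
theorem f68410 : Led Lsl_dt (LP (LK LD1_c12 LD2_c32 LD3_c54)) = (LP (LK LD1_c6 LD2_c32 LD3_c41)) :=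
  Lre_d IH (LK LD1_c12 LD2_c32 LD3_c54) (LK LD1_c6 LD2_c32 LD3_c41) Lrfl Lrfl
theorem f416147 : Led Lsl_gf (LP (LK LD1_c12 LD2_c32 LD3_c54)) = (LP (LK LD1_c6 LD2_c47 LD3_c58)) :=
  Lgr Lrot143 (Lpr_dt (f68410 IH) (Lpe (f68408 IH) (Lpe (K0.f23793 IH) (Lpr_gf (K24.f416143 IH) (Lpr_df (K24.f23234 IH) (Lpe (K0.f23221 IH) (Lpe (f25590 IH) (Lpr_gt (f416145 IH) (Lpr_dt (f416146 IH) (Lpn (LP (LK LD1_c6 LD2_c47 LD3_c58))))))))))))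
theorem f68400 : Led Lsl_dt (LP (LK LD1_c6 LD2_c32 LD3_c41)) = (LP (LK LD1_c12 LD2_c32 LD3_c54)) :=
  Lre_d IH (LK LD1_c6 LD2_c32 LD3_c41) (LK LD1_c12 LD2_c32 LD3_c54) Lrfl Lrfl
theorem f68392 : Led Lsl_ct (LP (LK LD1_c6 LD2_c32 LD3_c41)) = (LP (LK LD1_c3 LD2_c14 LD3_c34)) :=
  Lre_c IH (LK LD1_c6 LD2_c32 LD3_c41) (LK LD1_c3 LD2_c14 LD3_c34) Lrfl Lrfl
theorem f68393 : Led Lsl_ct (LP (LK LD1_c2 LD2_c21 LD3_c55)) = (LP (LK LD1_c4 LD2_c48 LD3_c4)) :=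
  Lre_c IH (LK LD1_c2 LD2_c21 LD3_c55) (LK LD1_c4 LD2_c48 LD3_c4) Lrfl Lrfl
theorem f68394 : Led Lsl_ef (LP (LK LD1_c6 LD2_c32 LD3_c41)) = (LP (LK LD1_c4 LD2_c48 LD3_c4)) :=
  Lgr Lrot28 (Lpr_ct (f68392 IH) (Lpr_et (K24.f68385 IH) (Lpr_ct (f68393 IH) (Lpn (LP (LK LD1_c4 LD2_c48 LD3_c4))))))
theorem f68401 : Led Lsl_et (LP (LK LD1_c6 LD2_c32 LD3_c41)) = (LP (LK LD1_c4 LD2_c48 LD3_c4)) :=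
  Lgr Lrot87 (Lpr_ef (f68394 IH) (Lpn (LP (LK LD1_c4 LD2_c48 LD3_c4))))
theorem f445932 : Led Lsl_gf (LP (LK LD1_c9 LD2_c18 LD3_c31)) = (LP (LK LD1_c4 LD2_c48 LD3_c4)) :=
  Lgr Lrot141 (Lpr_ef (f79720 IH) (Lpr_dt (f445928 IH) (Lpr_gt (f443937 IH) (Lpe (K1.f58536 IH) (Lpr_et (f25591 IH) (Lpr_gt (f416145 IH) (Lpr_dt (f416146 IH) (Lpe (f416147 IH) (Lpe (f68400 IH) (Lpr_et (f68401 IH) (Lpn (LP (LK LD1_c4 LD2_c48 LD3_c4)))))))))))))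
theorem f416679 : Led Lsl_gf (LP (LK LD1_c2 LD2_c17 LD3_c40)) = (LP (LK LD1_c3 LD2_c21 LD3_c35)) :=
  Lgr Lrot144 (Lpr_dt (K24.f20093 IH) (Lpr_gt (K17.f20092 IH) (Lpr_dt (K0.f23177 IH) (Lpe (K17.f27105 IH) (Lpe (K17.f27104 IH) (Lpe (K0.f27059 IH) (Lpr_df (K0.f27062 IH) (Lpr_gf (K24.f416620 IH) (Lpr_cf (K24.f416660 IH) (Lpn (LP (LK LD1_c3 LD2_c21 LD3_c35))))))))))))
theorem f20142 : Led Lsl_et (LP (LK LD1_c1 LD2_c5 LD3_c43)) = (LP (LK LD1_c2 LD2_c17 LD3_c41)) :=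
  Lre_e IH (LK LD1_c1 LD2_c5 LD3_c43) (LK LD1_c2 LD2_c17 LD3_c41) Lrfl Lrfl
theorem f416944 : Led Lsl_gf (LP (LK LD1_c3 LD2_c19 LD3_c35)) = (LP (LK LD1_c2 LD2_c17 LD3_c41)) :=
  Lgr Lrot141 (Lpr_ef (f416940 IH) (Lpe (K16.f415415 IH) (Lpr_gt (K24.f416552 IH) (Lpe (K24.f76974 IH) (Lpr_et (K24.f415237 IH) (Lpr_gt (f416681 IH) (Lpr_dt (K24.f416665 IH) (Lpe (f416679 IH) (Lpe (K24.f20128 IH) (Lpr_et (f20142 IH) (Lpn (LP (LK LD1_c2 LD2_c17 LD3_c41)))))))))))))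
theorem f415482 : Led Lsl_dt (LP (LK LD1_c6 LD2_c22 LD3_c20)) = (LP (LK LD1_c3 LD2_c8 LD3_c53)) :=
  Lre_d IH (LK LD1_c6 LD2_c22 LD3_c20) (LK LD1_c3 LD2_c8 LD3_c53) Lrfl Lrfl
theorem f415483 : Led Lsl_gt (LP (LK LD1_c12 LD2_c18 LD3_c10)) = (LP (LK LD1_c6 LD2_c22 LD3_c20)) :=
  Lre_g IH (LK LD1_c12 LD2_c18 LD3_c10) (LK LD1_c6 LD2_c22 LD3_c20) Lrfl Lrfl
theorem f445934 : Led Lsl_dt (LP (LK LD1_c9 LD2_c18 LD3_c31)) = (LP (LK LD1_c12 LD2_c18 LD3_c10)) :=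
  Lgr Lrot57 (Lpr_gf (f445932 IH) (Lpe (f68393 IH) (Lpr_gt (K24.f416139 IH) (Lpr_dt (K24.f20130 IH) (Lpe (f416944 IH) (Lpr_dt (f416935 IH) (Lpr_cf (f416962 IH) (Lpe (f415482 IH) (Lpe (f415483 IH) (Lpn (LP (LK LD1_c12 LD2_c18 LD3_c10))))))))))))
theorem f445937 : Led Lsl_df (LP (LK LD1_c9 LD2_c18 LD3_c31)) = (LP (LK LD1_c12 LD2_c18 LD3_c10)) :=
  Lgr Lrot38 (Lpr_dt (f445934 IH) (Lpn (LP (LK LD1_c12 LD2_c18 LD3_c10))))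
theorem f491577 : Led Lsl_dt (LP (LK LD1_c1 LD2_c30 LD3_c34)) = v1115 :=
  Lgr Lrot42 (Lpr_df (f491576 IH) (Lpn v1115))
theorem f61107 : Led Lsl_ct (LP (LK LD1_c4 LD2_c42 LD3_c15)) = (LP (LK LD1_c2 LD2_c18 LD3_c27)) :=
  Lre_c IH (LK LD1_c4 LD2_c42 LD3_c15) (LK LD1_c2 LD2_c18 LD3_c27) Lrfl Lrfl
theorem f153488 : Led Lsl_af (LP (LK LD1_c1 LD2_c30 LD3_c35)) = (LP (LK LD1_c2 LD2_c18 LD3_c26)) :=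
  Lgr Lrot0 (Lpr_at (K7.f153486 IH) (Lpn (LP (LK LD1_c2 LD2_c18 LD3_c26))))
theorem f154645 : Led Lsl_gt (LP (LK LD1_c3 LD2_c8 LD3_c54)) = (LP (LK LD1_c1 LD2_c30 LD3_c35)) :=
  Lre_g IH (LK LD1_c3 LD2_c8 LD3_c54) (LK LD1_c1 LD2_c30 LD3_c35) Lrfl Lrfl
theorem f435743 : Led Lsl_gf (LP (LK LD1_c3 LD2_c8 LD3_c54)) = (LP (LK LD1_c4 LD2_c42 LD3_c15)) :=
  Lgr Lrot47 (Lpr_gt (f154645 IH) (Lpr_af (f153488 IH) (Lpe (K16.f154417 IH) (Lpn (LP (LK LD1_c4 LD2_c42 LD3_c15))))))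
theorem f435745 : Led Lsl_dt (LP (LK LD1_c3 LD2_c8 LD3_c54)) = (LP (LK LD1_c6 LD2_c22 LD3_c22)) :=
  Lre_d IH (LK LD1_c3 LD2_c8 LD3_c54) (LK LD1_c6 LD2_c22 LD3_c22) Lrfl Lrfl
theorem f491579 : Led Lsl_gf (LP (LK LD1_c12 LD2_c18 LD3_c10)) = (LP (LK LD1_c6 LD2_c22 LD3_c22)) :=
  Lgr Lrot143 (Lpe (f445937 IH) (Lpe (f61023 IH) (Lpr_df (K8.f61019 IH) (Lpr_gf (f491578 IH) (Lpe (f491577 IH) (Lpr_gf (f435678 IH) (Lpe (f61107 IH) (Lpe (f435743 IH) (Lpr_dt (f435745 IH) (Lpn (LP (LK LD1_c6 LD2_c22 LD3_c22))))))))))))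
theorem f491580 : Led Lsl_gt (LP (LK LD1_c6 LD2_c22 LD3_c22)) = (LP (LK LD1_c12 LD2_c18 LD3_c10)) :=
  Leop (Lpr_gf (f491579 IH) (Lpn (LP (LK LD1_c6 LD2_c22 LD3_c22))))
theorem seed_91 : LEOK LG_g (LK LD1_c6 LD2_c22 LD3_c22) :=
  Leoe_g (LK LD1_c6 LD2_c22 LD3_c22) (f491580 IH)
def v1133 : LQ := Led Lsl_dt v274
theorem f491646 : Led Lsl_dt v274 = v1133 :=
  Lrfl
theorem f491650 : Led Lsl_ff v672 = v1133 :=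
  Lgr Lrot19 (Lpe (f455906 IH) (Lpr_ft (f457006 IH) (Lpqs (f478889 IH) (Lpr_dt (f491646 IH) (Lpn v1133)))))
theorem f455903 : Led Lsl_bf K24.v153 = v672 :=
  Lgr Lrot96 (Lpe (K24.f450776 IH) (Lpr_bt (f450768 IH) (Lpr_et (f455902 IH) (Lpn v672))))
theorem f491654 : Led Lsl_bt K24.v276 = v1133 :=
  Lgr Lrot35 (Lpe (f479094 IH) (Lpr_bf (f455903 IH) (Lpr_ff (f491650 IH) (Lpn v1133))))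
def v1091 : LQ := Led Lsl_et K11.v243
theorem f491384 : Led Lsl_et K11.v243 = v1091 :=
  Lrfl
def v224 : LQ := Led Lsl_ft (LP (LK LD1_c0 LD2_c24 LD3_c9))
theorem f451190 : Led Lsl_ft (LP (LK LD1_c0 LD2_c24 LD3_c9)) = v224 :=
  Lrfl
theorem f451192 : Led Lsl_ff (LP (LK LD1_c0 LD2_c24 LD3_c9)) = v224 :=
  Lgr Lrot3 (Lpr_ft (f451190 IH) (Lpn v224))
theorem f478690 : K24.v101 = v224 :=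
  Lefun (Lecon (Lfl_ff (K24.f451184 IH)) (f478686 IH)) (f451190 IH)
def v313 : LQ := Led Lsl_et K24.v101
theorem f452114 : Led Lsl_et K24.v101 = v313 :=
  Lrfl
theorem f452115 : Led Lsl_ef K24.v101 = v313 :=
  Lgr Lrot88 (Lpr_et (f452114 IH) (Lpn v313))
theorem f491388 : Led Lsl_ff v313 = v1091 :=
  Lgr Lrot72 (Lpe (f452115 IH) (Lpqs (f478690 IH) (Lpe (f451192 IH) (Lpr_et (K24.f12133 IH) (Lpr_ft (f479086 IH) (Lpr_et (f491384 IH) (Lpn v1091)))))))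
theorem f456252 : Led Lsl_cf v313 = K24.v153 :=
  Lgr Lrot39 (Lpe (f452115 IH) (Lpr_ct (K24.f452110 IH) (Lpqs (K24.f456040 IH) (Lpr_et (K24.f450775 IH) (Lpn K24.v153)))))
theorem f456253 : Led Lsl_ct v313 = K24.v153 :=
  Lgr Lrot59 (Lpr_cf (f456252 IH) (Lpn K24.v153))
theorem f491390 : Led Lsl_ct K24.v276 = v1091 :=
  Lgr Lrot40 (Lpe (f479094 IH) (Lpe (f456253 IH) (Lpr_ff (f491388 IH) (Lpn v1091))))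
def v786 : LQ := Led Lsl_dt (LP (LK LD1_c0 LD2_c50 LD3_c44))
theorem f459374 : Led Lsl_dt (LP (LK LD1_c0 LD2_c50 LD3_c44)) = v786 :=
  Lrfl
def v251 : LQ := Led Lsl_dt (LP (LK LD1_c0 LD2_c24 LD3_c25))
theorem f451358 : Led Lsl_dt (LP (LK LD1_c0 LD2_c24 LD3_c25)) = v251 :=
  Lrfl
theorem f451359 : Led Lsl_df (LP (LK LD1_c0 LD2_c24 LD3_c25)) = v251 :=
  Lgr Lrot38 (Lpr_dt (f451358 IH) (Lpn v251))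
theorem f459377 : Led Lsl_gf v251 = v786 :=
  Lgr Lrot143 (Lpe (f451359 IH) (Lpe (K24.f11237 IH) (Lpr_df (K11.f11314 IH) (Lpe (K11.f451342 IH) (Lpr_df (K11.f451579 IH) (Lpqs (K24.f455957 IH) (Lpe (K24.f455702 IH) (Lpqs (K24.f457665 IH) (Lpe (K24.f455668 IH) (Lpr_gt (K24.f455728 IH) (Lpq (K24.f456452 IH) (Lpr_dt (f459374 IH) (Lpn v786)))))))))))))
def v252 : LQ := Led Lsl_et (LP (LK LD1_c0 LD2_c24 LD3_c25))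
theorem f451360 : Led Lsl_et (LP (LK LD1_c0 LD2_c24 LD3_c25)) = v252 :=
  Lrfl
theorem f491389 : Led Lsl_gt v252 = v1091 :=
  Lgr Lrot131 (Lpe (f451360 IH) (Lpr_dt (f451358 IH) (Lpr_gf (f459377 IH) (Lpe (f459374 IH) (Lpqs (K24.f456452 IH) (Lpe (K24.f455728 IH) (Lpe (K24.f12134 IH) (Lpr_dt (K24.f12126 IH) (Lpr_gf (K24.f455683 IH) (Lpq (K24.f455957 IH) (Lpe (K24.f452065 IH) (Lpr_et (f491384 IH) (Lpn v1091)))))))))))))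
theorem f451362 : Led Lsl_ef (LP (LK LD1_c0 LD2_c24 LD3_c25)) = v252 :=
  Lgr Lrot88 (Lpr_et (f451360 IH) (Lpn v252))
theorem f451363 : Led Lsl_ct (LP (LK LD1_c0 LD2_c24 LD3_c26)) = v252 :=
  Lgr Lrot15 (Lpe (K11.f11322 IH) (Lpe (K28.f11243 IH) (Lpr_ef (f451362 IH) (Lpn v252))))
theorem f451337 : Led Lsl_bt (LP (LK LD1_c0 LD2_c24 LD3_c26)) = (LP (LK LD1_c0 LD2_c54 LD3_c13)) :=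
  Lre_b IH (LK LD1_c0 LD2_c24 LD3_c26) (LK LD1_c0 LD2_c54 LD3_c13) Lrfl Lrfl
def v920 : LQ := Led Lsl_gf (LP (LK LD1_c0 LD2_c54 LD3_c13))
theorem f490528 : Led Lsl_gf (LP (LK LD1_c0 LD2_c54 LD3_c13)) = v920 :=
  Lrfl
theorem f4891 : Led Lsl_ct (LP (LK LD1_c3 LD2_c41 LD3_c53)) = (LP (LK LD1_c1 LD2_c47 LD3_c50)) :=
  Lre_c IH (LK LD1_c3 LD2_c41 LD3_c53) (LK LD1_c1 LD2_c47 LD3_c50) Lrfl Lrfl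
def v298 : LQ := Led Lsl_ct K11.v95
theorem f451573 : Led Lsl_ct K11.v95 = v298 :=
  Lrfl
theorem f451574 : Led Lsl_cf K11.v95 = v298 :=
  Lgr Lrot11 (Lpr_ct (f451573 IH) (Lpn v298))
theorem f450937 : Led Lsl_cf (LP (LK LD1_c0 LD2_c22 LD3_c27)) = K24.v178 :=
  Lgr Lrot11 (Lpr_ct (K24.f450936 IH) (Lpn K24.v178))
theorem f455959 : (LP (LK LD1_c0 LD2_c22 LD3_c27)) = v298 :=
  Lefun (Lecon (Lfl_cf (f450937 IH)) (K24.f455958 IH)) (f451573 IH)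
theorem f450938 : Led Lsl_gt (LP (LK LD1_c1 LD2_c46 LD3_c29)) = (LP (LK LD1_c0 LD2_c49 LD3_c58)) :=
  Lre_g IH (LK LD1_c1 LD2_c46 LD3_c29) (LK LD1_c0 LD2_c49 LD3_c58) Lrfl Lrfl
theorem f484007 : Led Lsl_bf (LP (LK LD1_c1 LD2_c46 LD3_c29)) = (LP (LK LD1_c3 LD2_c38 LD3_c48)) :=
  Lgr Lrot156 (Lpr_gt (f450938 IH) (Lpe (f450778 IH) (Lpqs (f455959 IH) (Lpe (f451574 IH) (Lpe (K11.f447676 IH) (Lpr_cf (K4.f12758 IH) (Lpr_bt (K4.f4483 IH) (Lpr_gt (f4884 IH) (Lpr_ct (f4845 IH) (Lpr_gt (f4846 IH) (Lpr_cf (f483530 IH) (Lpn (LP (LK LD1_c3 LD2_c38 LD3_c48))))))))))))))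
theorem f484015 : Led Lsl_ft (LP (LK LD1_c1 LD2_c46 LD3_c29)) = (LP (LK LD1_c1 LD2_c38 LD3_c46)) :=
  Lgr Lrot75 (Lpr_bf (f484007 IH) (Lpe (f478591 IH) (Lpe (K4.f12794 IH) (Lpn (LP (LK LD1_c1 LD2_c38 LD3_c46))))))
theorem f467616 : Led Lsl_dt (LP (LK LD1_c1 LD2_c46 LD3_c29)) = (LP (LK LD1_c1 LD2_c46 LD3_c29)) :=
  Lgr Lrot6 (Lpr_gt (f450938 IH) (Lpr_ct (K28.f5323 IH) (Lpr_gt (K28.f467405 IH) (Lpr_ct (K2.f95334 IH) (Lpe (K3.f85201 IH) (Lpe (K2.f95334 IH) (Lpe (K28.f467405 IH) (Lpe (K28.f5323 IH) (Lpe (f450938 IH) (Lpn (LP (LK LD1_c1 LD2_c46 LD3_c29))))))))))))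
theorem f455915 : Led Lsl_ct (LP (LK LD1_c1 LD2_c46 LD3_c29)) = (LP (LK LD1_c3 LD2_c39 LD3_c4)) :=
  Lre_c IH (LK LD1_c1 LD2_c46 LD3_c29) (LK LD1_c3 LD2_c39 LD3_c4) Lrfl Lrfl
theorem f467634 : Led Lsl_dt (LP (LK LD1_c3 LD2_c39 LD3_c4)) = (LP (LK LD1_c7 LD2_c18 LD3_c33)) :=
  Lre_d IH (LK LD1_c3 LD2_c39 LD3_c4) (LK LD1_c7 LD2_c18 LD3_c33) Lrfl Lrfl
theorem f94290 : Led Lsl_ct (LP (LK LD1_c1 LD2_c39 LD3_c30)) = (LP (LK LD1_c0 LD2_c46 LD3_c15)) :=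
  Lre_c IH (LK LD1_c1 LD2_c39 LD3_c30) (LK LD1_c0 LD2_c46 LD3_c15) Lrfl Lrfl
theorem f94292 : Led Lsl_ct (LP (LK LD1_c6 LD2_c53 LD3_c35)) = (LP (LK LD1_c3 LD2_c25 LD3_c49)) :=
  Lre_c IH (LK LD1_c6 LD2_c53 LD3_c35) (LK LD1_c3 LD2_c25 LD3_c49) Lrfl Lrfl
theorem f94293 : Led Lsl_dt (LP (LK LD1_c13 LD2_c6 LD3_c7)) = (LP (LK LD1_c6 LD2_c53 LD3_c35)) :=
  Lre_d IH (LK LD1_c13 LD2_c6 LD3_c7) (LK LD1_c6 LD2_c53 LD3_c35) Lrfl Lrfl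
theorem f484024 : Led Lsl_ct (LP (LK LD1_c7 LD2_c18 LD3_c33)) = (LP (LK LD1_c13 LD2_c6 LD3_c7)) :=
  Lgr Lrot41 (Lpe (f467634 IH) (Lpe (f455915 IH) (Lpe (f467616 IH) (Lpr_ft (f484015 IH) (Lpe (f102696 IH) (Lpe (f94290 IH) (Lpe (K6.f94291 IH) (Lpe (f94292 IH) (Lpe (f94293 IH) (Lpn (LP (LK LD1_c13 LD2_c6 LD3_c7))))))))))))
theorem f455916 : Led Lsl_ct (LP (LK LD1_c3 LD2_c39 LD3_c4)) = (LP (LK LD1_c1 LD2_c46 LD3_c29)) :=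
  Lre_c IH (LK LD1_c3 LD2_c39 LD3_c4) (LK LD1_c1 LD2_c46 LD3_c29) Lrfl Lrfl
theorem f467633 : Led Lsl_dt (LP (LK LD1_c7 LD2_c18 LD3_c33)) = (LP (LK LD1_c3 LD2_c39 LD3_c4)) :=
  Lre_d IH (LK LD1_c7 LD2_c18 LD3_c33) (LK LD1_c3 LD2_c39 LD3_c4) Lrfl Lrfl
theorem f484041 : Led Lsl_ft (LP (LK LD1_c7 LD2_c18 LD3_c33)) = (LP (LK LD1_c6 LD2_c51 LD3_c50)) :=
  Lgr Lrot142 (Lpr_dt (f467633 IH) (Lpr_ct (f455916 IH) (Lpr_dt (f467616 IH) (Lpr_ct (f455915 IH) (Lpr_dt (f467634 IH) (Lpr_ct (f484024 IH) (Lpr_dt (f94293 IH) (Lpr_ct (f94292 IH) (Lpr_af (K4.f102677 IH) (Lpn (LP (LK LD1_c6 LD2_c51 LD3_c50))))))))))))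
theorem f484034 : Led Lsl_et (LP (LK LD1_c13 LD2_c49 LD3_c48)) = (LP (LK LD1_c7 LD2_c18 LD3_c33)) :=
  Lre_e IH (LK LD1_c13 LD2_c49 LD3_c48) (LK LD1_c7 LD2_c18 LD3_c33) Lrfl Lrfl
theorem f484047 : Led Lsl_ft (LP (LK LD1_c23 LD2_c18 LD3_c55)) = (LP (LK LD1_c13 LD2_c49 LD3_c48)) :=
  Lre_f IH (LK LD1_c23 LD2_c18 LD3_c55) (LK LD1_c13 LD2_c49 LD3_c48) Lrfl Lrfl
theorem f102824 : Led Lsl_et (LP (LK LD1_c6 LD2_c51 LD3_c50)) = (LP (LK LD1_c13 LD2_c3 LD3_c9)) :=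
  Lre_e IH (LK LD1_c6 LD2_c51 LD3_c50) (LK LD1_c13 LD2_c3 LD3_c9) Lrfl Lrfl
theorem f484048 : Led Lsl_ef (LP (LK LD1_c23 LD2_c18 LD3_c55)) = (LP (LK LD1_c22 LD2_c12 LD3_c51)) :=
  Lgr Lrot21 (Lpr_ft (f484047 IH) (Lpr_et (f484034 IH) (Lpr_ft (f484041 IH) (Lpr_et (f102824 IH) (Lpr_ft (K4.f102666 IH) (Lpn (LP (LK LD1_c22 LD2_c12 LD3_c51))))))))
theorem f484061 : Led Lsl_et (LP (LK LD1_c23 LD2_c18 LD3_c55)) = (LP (LK LD1_c22 LD2_c12 LD3_c51)) :=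
  Lgr Lrot87 (Lpr_ef (f484048 IH) (Lpn (LP (LK LD1_c22 LD2_c12 LD3_c51))))
theorem f102643 : Led Lsl_et (LP (LK LD1_c13 LD2_c5 LD3_c52)) = (LP (LK LD1_c22 LD2_c16 LD3_c53)) :=
  Lre_e IH (LK LD1_c13 LD2_c5 LD3_c52) (LK LD1_c22 LD2_c16 LD3_c53) Lrfl Lrfl
theorem f484063 : Led Lsl_af (LP (LK LD1_c23 LD2_c18 LD3_c55)) = (LP (LK LD1_c22 LD2_c16 LD3_c53)) :=
  Lgr Lrot50 (Lpr_et (f484061 IH) (Lpe (K4.f102651 IH) (Lpr_et (f102643 IH) (Lpn (LP (LK LD1_c22 LD2_c16 LD3_c53))))))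
theorem f484067 : Led Lsl_ft (LP (LK LD1_c13 LD2_c6 LD3_c9)) = (LP (LK LD1_c22 LD2_c16 LD3_c53)) :=
  Lre_f IH (LK LD1_c13 LD2_c6 LD3_c9) (LK LD1_c22 LD2_c16 LD3_c53) Lrfl Lrfl
theorem f484068 : Led Lsl_at (LP (LK LD1_c13 LD2_c49 LD3_c48)) = (LP (LK LD1_c13 LD2_c6 LD3_c9)) :=
  Lgr Lrot66 (Lpe (f484047 IH) (Lpr_af (f484063 IH) (Lpe (f484067 IH) (Lpn (LP (LK LD1_c13 LD2_c6 LD3_c9))))))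
theorem f484074 : Led Lsl_af (LP (LK LD1_c13 LD2_c49 LD3_c48)) = (LP (LK LD1_c13 LD2_c6 LD3_c9)) :=
  Lgr Lrot0 (Lpr_at (f484068 IH) (Lpn (LP (LK LD1_c13 LD2_c6 LD3_c9))))
theorem f478492 : Led Lsl_et (LP (LK LD1_c6 LD2_c53 LD3_c36)) = (LP (LK LD1_c13 LD2_c6 LD3_c9)) :=
  Lre_e IH (LK LD1_c6 LD2_c53 LD3_c36) (LK LD1_c13 LD2_c6 LD3_c9) Lrfl Lrfl
theorem f484084 : Led Lsl_at (LP (LK LD1_c7 LD2_c18 LD3_c33)) = (LP (LK LD1_c6 LD2_c53 LD3_c36)) :=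
  Lgr Lrot80 (Lpe (f484034 IH) (Lpr_af (f484074 IH) (Lpe (f478492 IH) (Lpn (LP (LK LD1_c6 LD2_c53 LD3_c36))))))
theorem f94323 : Led Lsl_dt (LP (LK LD1_c6 LD2_c53 LD3_c36)) = (LP (LK LD1_c3 LD2_c25 LD3_c50)) :=
  Lre_d IH (LK LD1_c6 LD2_c53 LD3_c36) (LK LD1_c3 LD2_c25 LD3_c50) Lrfl Lrfl
theorem f484090 : Led Lsl_af (LP (LK LD1_c3 LD2_c39 LD3_c4)) = (LP (LK LD1_c3 LD2_c25 LD3_c50)) :=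
  Lgr Lrot117 (Lpr_dt (f467634 IH) (Lpr_at (f484084 IH) (Lpr_dt (f94323 IH) (Lpn (LP (LK LD1_c3 LD2_c25 LD3_c50))))))
theorem f484097 : Led Lsl_at (LP (LK LD1_c3 LD2_c39 LD3_c4)) = (LP (LK LD1_c3 LD2_c25 LD3_c50)) :=
  Lgr Lrot100 (Lpr_af (f484090 IH) (Lpn (LP (LK LD1_c3 LD2_c25 LD3_c50))))
theorem f12784 : Led Lsl_ct (LP (LK LD1_c1 LD2_c38 LD3_c46)) = (LP (LK LD1_c3 LD2_c24 LD3_c40)) :=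
  Lre_c IH (LK LD1_c1 LD2_c38 LD3_c46) (LK LD1_c3 LD2_c24 LD3_c40) Lrfl Lrfl
theorem f484019 : Led Lsl_ff (LP (LK LD1_c3 LD2_c39 LD3_c4)) = (LP (LK LD1_c3 LD2_c24 LD3_c40)) :=
  Lgr Lrot23 (Lpr_ct (f455916 IH) (Lpr_ft (f484015 IH) (Lpr_ct (f12784 IH) (Lpn (LP (LK LD1_c3 LD2_c24 LD3_c40))))))
theorem f12820 : Led Lsl_gt (LP (LK LD1_c3 LD2_c24 LD3_c40)) = (LP (LK LD1_c6 LD2_c51 LD3_c49)) :=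
  Lre_g IH (LK LD1_c3 LD2_c24 LD3_c40) (LK LD1_c6 LD2_c51 LD3_c49) Lrfl Lrfl
theorem f484114 : Led Lsl_gt (LP (LK LD1_c6 LD2_c51 LD3_c49)) = (LP (LK LD1_c3 LD2_c25 LD3_c50)) :=
  Lgr Lrot46 (Lpe (f12820 IH) (Lpe (f484019 IH) (Lpr_at (f484097 IH) (Lpn (LP (LK LD1_c3 LD2_c25 LD3_c50))))))
theorem f484116 : Led Lsl_cf (LP (LK LD1_c6 LD2_c51 LD3_c49)) = (LP (LK LD1_c3 LD2_c44 LD3_c46)) :=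
  Lgr Lrot125 (Lpr_gt (f484114 IH) (Lpe (K4.f94319 IH) (Lpr_bt (K4.f94315 IH) (Lpr_gt (f481684 IH) (Lpe (f456995 IH) (Lpr_ct (f4420 IH) (Lpe (f481460 IH) (Lpe (K28.f109481 IH) (Lpr_bt (f440645 IH) (Lpr_gt (f85212 IH) (Lpn (LP (LK LD1_c3 LD2_c44 LD3_c46)))))))))))))
theorem f94320 : Led Lsl_dt (LP (LK LD1_c3 LD2_c25 LD3_c50)) = (LP (LK LD1_c6 LD2_c53 LD3_c36)) :=
  Lre_d IH (LK LD1_c3 LD2_c25 LD3_c50) (LK LD1_c6 LD2_c53 LD3_c36) Lrfl Lrfl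
theorem f102682 : Led Lsl_at (LP (LK LD1_c3 LD2_c25 LD3_c49)) = (LP (LK LD1_c6 LD2_c51 LD3_c50)) :=
  Lgr Lrot100 (Lpr_af (K4.f102677 IH) (Lpn (LP (LK LD1_c6 LD2_c51 LD3_c50))))
theorem f94325 : Led Lsl_ft (LP (LK LD1_c6 LD2_c53 LD3_c36)) = (LP (LK LD1_c3 LD2_c25 LD3_c49)) :=
  Lre_f IH (LK LD1_c6 LD2_c53 LD3_c36) (LK LD1_c3 LD2_c25 LD3_c49) Lrfl Lrfl
theorem f91144 : Led Lsl_gt (LP (LK LD1_c13 LD2_c3 LD3_c13)) = (LP (LK LD1_c6 LD2_c51 LD3_c50)) :=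
  Lre_g IH (LK LD1_c13 LD2_c3 LD3_c13) (LK LD1_c6 LD2_c51 LD3_c50) Lrfl Lrfl
theorem f102825 : Led Lsl_gt (LP (LK LD1_c6 LD2_c53 LD3_c36)) = (LP (LK LD1_c13 LD2_c3 LD3_c13)) :=
  Lgr Lrot5 (Lpr_ft (f94325 IH) (Lpr_at (f102682 IH) (Lpe (f91144 IH) (Lpn (LP (LK LD1_c13 LD2_c3 LD3_c13))))))
theorem f15189 : Led Lsl_gt (LP (LK LD1_c1 LD2_c39 LD3_c58)) = (LP (LK LD1_c3 LD2_c26 LD3_c33)) :=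
  Lre_g IH (LK LD1_c1 LD2_c39 LD3_c58) (LK LD1_c3 LD2_c26 LD3_c33) Lrfl Lrfl
theorem f91141 : Led Lsl_et (LP (LK LD1_c6 LD2_c54 LD3_c59)) = (LP (LK LD1_c3 LD2_c26 LD3_c33)) :=
  Lre_e IH (LK LD1_c6 LD2_c54 LD3_c59) (LK LD1_c3 LD2_c26 LD3_c33) Lrfl Lrfl
theorem f91142 : Led Lsl_et (LP (LK LD1_c3 LD2_c24 LD3_c40)) = (LP (LK LD1_c1 LD2_c38 LD3_c45)) :=
  Lre_e IH (LK LD1_c3 LD2_c24 LD3_c40) (LK LD1_c1 LD2_c38 LD3_c45) Lrfl Lrfl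
theorem f91145 : Led Lsl_dt (LP (LK LD1_c6 LD2_c54 LD3_c59)) = (LP (LK LD1_c13 LD2_c3 LD3_c13)) :=
  Lgr Lrot136 (Lpr_et (f91141 IH) (Lpe (f15189 IH) (Lpe (K5.f91140 IH) (Lpr_dt (K2.f90985 IH) (Lpe (K2.f91111 IH) (Lpr_df (K2.f91134 IH) (Lpe (K2.f91138 IH) (Lpe (f91142 IH) (Lpr_dt (K6.f91143 IH) (Lpe (f91144 IH) (Lpn (LP (LK LD1_c13 LD2_c3 LD3_c13)))))))))))))
theorem f91153 : Led Lsl_df (LP (LK LD1_c6 LD2_c54 LD3_c59)) = (LP (LK LD1_c13 LD2_c3 LD3_c13)) :=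
  Lgr Lrot38 (Lpr_dt (f91145 IH) (Lpn (LP (LK LD1_c13 LD2_c3 LD3_c13))))
theorem f85232 : Led Lsl_ft (LP (LK LD1_c1 LD2_c49 LD3_c38)) = (LP (LK LD1_c0 LD2_c51 LD3_c38)) :=
  Lre_f IH (LK LD1_c1 LD2_c49 LD3_c38) (LK LD1_c0 LD2_c51 LD3_c38) Lrfl Lrfl
theorem f483578 : Led Lsl_gf (LP (LK LD1_c1 LD2_c47 LD3_c50)) = (LP (LK LD1_c1 LD2_c49 LD3_c38)) :=
  Lgr Lrot47 (Lpr_gt (f483576 IH) (Lpe (K28.f85203 IH) (Lpe (f85232 IH) (Lpn (LP (LK LD1_c1 LD2_c49 LD3_c38))))))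
theorem f478485 : Led Lsl_dt (LP (LK LD1_c1 LD2_c47 LD3_c50)) = (LP (LK LD1_c3 LD2_c41 LD3_c54)) :=
  Lre_d IH (LK LD1_c1 LD2_c47 LD3_c50) (LK LD1_c3 LD2_c41 LD3_c54) Lrfl Lrfl
theorem f484121 : Led Lsl_ct (LP (LK LD1_c6 LD2_c54 LD3_c59)) = (LP (LK LD1_c3 LD2_c41 LD3_c54)) :=
  Lgr Lrot7 (Lpr_df (f91153 IH) (Lpe (f102825 IH) (Lpe (f94320 IH) (Lpe (f484114 IH) (Lpr_cf (f484116 IH) (Lpr_gt (f85233 IH) (Lpr_dt (K3.f85216 IH) (Lpe (f483578 IH) (Lpr_dt (f478485 IH) (Lpn (LP (LK LD1_c3 LD2_c41 LD3_c54))))))))))))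
theorem f15190 : Led Lsl_dt (LP (LK LD1_c3 LD2_c26 LD3_c33)) = (LP (LK LD1_c6 LD2_c54 LD3_c58)) :=
  Lre_d IH (LK LD1_c3 LD2_c26 LD3_c33) (LK LD1_c6 LD2_c54 LD3_c58) Lrfl Lrfl
theorem f468929 : Led Lsl_et (LP (LK LD1_c6 LD2_c52 LD3_c18)) = (LP (LK LD1_c3 LD2_c24 LD3_c54)) :=
  Lre_e IH (LK LD1_c6 LD2_c52 LD3_c18) (LK LD1_c3 LD2_c24 LD3_c54) Lrfl Lrfl
theorem f468930 : Led Lsl_dt (LP (LK LD1_c6 LD2_c52 LD3_c18)) = (LP (LK LD1_c13 LD2_c4 LD3_c10)) :=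
  Lre_d IH (LK LD1_c6 LD2_c52 LD3_c18) (LK LD1_c13 LD2_c4 LD3_c10) Lrfl Lrfl
theorem f468933 : Led Lsl_gt (LP (LK LD1_c6 LD2_c54 LD3_c58)) = (LP (LK LD1_c13 LD2_c4 LD3_c10)) :=
  Lgr Lrot139 (Lpe (f15190 IH) (Lpe (f15189 IH) (Lpe (K5.f91140 IH) (Lpr_dt (K2.f90985 IH) (Lpe (K2.f91111 IH) (Lpr_df (K2.f91134 IH) (Lpr_et (K28.f91147 IH) (Lpr_gf (K28.f468877 IH) (Lpe (f468929 IH) (Lpr_dt (f468930 IH) (Lpn (LP (LK LD1_c13 LD2_c4 LD3_c10)))))))))))))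
theorem f91155 : Led Lsl_et (LP (LK LD1_c3 LD2_c26 LD3_c33)) = (LP (LK LD1_c6 LD2_c54 LD3_c59)) :=
  Lre_e IH (LK LD1_c3 LD2_c26 LD3_c33) (LK LD1_c6 LD2_c54 LD3_c59) Lrfl Lrfl
theorem f468928 : Led Lsl_et (LP (LK LD1_c3 LD2_c27 LD3_c40)) = (LP (LK LD1_c6 LD2_c57 LD3_c36)) :=
  Lre_e IH (LK LD1_c3 LD2_c27 LD3_c40) (LK LD1_c6 LD2_c57 LD3_c36) Lrfl Lrfl
theorem f468943 : Led Lsl_gf (LP (LK LD1_c6 LD2_c54 LD3_c59)) = (LP (LK LD1_c6 LD2_c57 LD3_c36)) :=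
  Lgr Lrot141 (Lpe (f91155 IH) (Lpr_dt (f15190 IH) (Lpr_gt (f468933 IH) (Lpe (f468930 IH) (Lpr_et (f468929 IH) (Lpe (K28.f468877 IH) (Lpr_dt (K28.f91165 IH) (Lpr_gt (K28.f468923 IH) (Lpe (K28.f455123 IH) (Lpr_et (f468928 IH) (Lpn (LP (LK LD1_c6 LD2_c57 LD3_c36)))))))))))))
theorem f468945 : Led Lsl_ct (LP (LK LD1_c3 LD2_c27 LD3_c41)) = (LP (LK LD1_c6 LD2_c57 LD3_c36)) :=
  Lre_c IH (LK LD1_c3 LD2_c27 LD3_c41) (LK LD1_c6 LD2_c57 LD3_c36) Lrfl Lrfl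
theorem f491651 : Led Lsl_gf (LP (LK LD1_c3 LD2_c27 LD3_c41)) = v1133 :=
  Lgr Lrot179 (Lpr_ct (f468945 IH) (Lpe (f468943 IH) (Lpr_ct (f484121 IH) (Lpr_dt (f478484 IH) (Lpe (f4891 IH) (Lpe (f478477 IH) (Lpe (K4.f94319 IH) (Lpr_gf (f478475 IH) (Lpr_dt (f491646 IH) (Lpn v1133))))))))))
theorem f484128 : Led Lsl_cf (LP (LK LD1_c6 LD2_c54 LD3_c59)) = (LP (LK LD1_c3 LD2_c41 LD3_c54)) :=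
  Lgr Lrot11 (Lpr_ct (f484121 IH) (Lpn (LP (LK LD1_c3 LD2_c41 LD3_c54))))
theorem f491657 : v920 = (LP (LK LD1_c1 LD2_c47 LD3_c52)) :=
  (Llr Lrot124 (Lpe (f490528 IH) (Lpe (f451337 IH) (Lpr_ct (f451363 IH) (Lpr_gt (f491389 IH) (Lpe (f491390 IH) (Lpr_bt (f491654 IH) (Lpe (f491651 IH) (Lpr_ct (f468945 IH) (Lpe (f468943 IH) (Lpr_cf (f484128 IH) (Lpr_bt (f437924 IH) (Lpn (LP (LK LD1_c1 LD2_c47 LD3_c52))))))))))))))).symm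
theorem f491658 : Led Lsl_gt (LP (LK LD1_c1 LD2_c47 LD3_c52)) = (LP (LK LD1_c0 LD2_c54 LD3_c13)) :=
  Leop (Lpr_gf (f490528 IH) (Lpqs (f491657 IH) (Lpn (LP (LK LD1_c1 LD2_c47 LD3_c52)))))
theorem seed_92 : LEOK LG_g (LK LD1_c1 LD2_c47 LD3_c52) :=
  Leoe_g (LK LD1_c1 LD2_c47 LD3_c52) (f491658 IH)
theorem f437931 : Led Lsl_et (LP (LK LD1_c0 LD2_c50 LD3_c38)) = (LP (LK LD1_c1 LD2_c47 LD3_c53)) :=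
  Lre_e IH (LK LD1_c0 LD2_c50 LD3_c38) (LK LD1_c1 LD2_c47 LD3_c53) Lrfl Lrfl
theorem f490428 : Led Lsl_ef (LP (LK LD1_c0 LD2_c54 LD3_c7)) = v917 :=
  Lgr Lrot88 (Lpr_et (f490425 IH) (Lpn v917))
theorem f473815 : Led Lsl_dt (LP (LK LD1_c3 LD2_c52 LD3_c44)) = (LP (LK LD1_c7 LD2_c0 LD3_c15)) :=
  Lgr Lrot42 (Lpr_df (f473813 IH) (Lpn (LP (LK LD1_c7 LD2_c0 LD3_c15))))
theorem f98815 : Led Lsl_gt (LP (LK LD1_c6 LD2_c54 LD3_c33)) = (LP (LK LD1_c13 LD2_c7 LD3_c44)) :=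
  Lre_g IH (LK LD1_c6 LD2_c54 LD3_c33) (LK LD1_c13 LD2_c7 LD3_c44) Lrfl Lrfl
theorem f65928 : Led Lsl_gt (LP (LK LD1_c6 LD2_c51 LD3_c44)) = (LP (LK LD1_c3 LD2_c24 LD3_c36)) :=
  Lre_g IH (LK LD1_c6 LD2_c51 LD3_c44) (LK LD1_c3 LD2_c24 LD3_c36) Lrfl Lrfl
theorem f425550 : Led Lsl_et (LP (LK LD1_c13 LD2_c3 LD3_c4)) = (LP (LK LD1_c6 LD2_c51 LD3_c44)) :=
  Lre_e IH (LK LD1_c13 LD2_c3 LD3_c4) (LK LD1_c6 LD2_c51 LD3_c44) Lrfl Lrfl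
theorem f464427 : Led Lsl_df (LP (LK LD1_c13 LD2_c7 LD3_c44)) = (LP (LK LD1_c13 LD2_c3 LD3_c4)) :=
  Lgr Lrot132 (Lpe (f98815 IH) (Lpe (f98755 IH) (Lpr_gf (K28.f464417 IH) (Lpe (K28.f425166 IH) (Lpr_dt (K28.f95911 IH) (Lpe (K28.f425546 IH) (Lpe (K3.f65872 IH) (Lpr_et (K4.f91871 IH) (Lpe (f65928 IH) (Lpe (f425550 IH) (Lpn (LP (LK LD1_c13 LD2_c3 LD3_c4)))))))))))))
theorem f464429 : Led Lsl_dt (LP (LK LD1_c13 LD2_c7 LD3_c44)) = (LP (LK LD1_c13 LD2_c3 LD3_c4)) :=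
  Lgr Lrot42 (Lpr_df (f464427 IH) (Lpn (LP (LK LD1_c13 LD2_c3 LD3_c4))))
theorem f473820 : Led Lsl_cf (LP (LK LD1_c13 LD2_c3 LD3_c4)) = (LP (LK LD1_c7 LD2_c0 LD3_c15)) :=
  Lgr Lrot14 (Lpe (f464429 IH) (Lpe (f98815 IH) (Lpe (f98755 IH) (Lpr_gf (K28.f464417 IH) (Lpr_ct (K28.f420091 IH) (Lpr_gt (f473786 IH) (Lpr_dt (f473555 IH) (Lpe (f473809 IH) (Lpr_dt (f473815 IH) (Lpn (LP (LK LD1_c7 LD2_c0 LD3_c15))))))))))))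
theorem f479379 : Led Lsl_gf (LP (LK LD1_c6 LD2_c52 LD3_c13)) = (LP (LK LD1_c13 LD2_c3 LD3_c4)) :=
  Lgr Lrot104 (Lpr_ct (K28.f91515 IH) (Lpe (K28.f91495 IH) (Lpe (K28.f19051 IH) (Lpr_gf (K28.f466569 IH) (Lpe (K3.f91226 IH) (Lpe (f17684 IH) (Lpr_df (f108802 IH) (Lpr_gt (f479372 IH) (Lpe (f473820 IH) (Lpn (LP (LK LD1_c13 LD2_c3 LD3_c4))))))))))))
theorem f473251 : Led Lsl_ct (LP (LK LD1_c13 LD2_c4 LD3_c2)) = (LP (LK LD1_c6 LD2_c57 LD3_c10)) :=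
  Lgr Lrot59 (Lpr_cf (K28.f473248 IH) (Lpn (LP (LK LD1_c6 LD2_c57 LD3_c10))))
theorem f473201 : Led Lsl_df (LP (LK LD1_c22 LD2_c13 LD3_c23)) = (LP (LK LD1_c13 LD2_c52 LD3_c20)) :=
  Lgr Lrot38 (Lpr_dt (K28.f473197 IH) (Lpn (LP (LK LD1_c13 LD2_c52 LD3_c20))))
theorem f479381 : Led Lsl_gf (LP (LK LD1_c13 LD2_c52 LD3_c20)) = (LP (LK LD1_c13 LD2_c7 LD3_c46)) :=
  Lgr Lrot144 (Lpe (f473201 IH) (Lpr_gt (K28.f468995 IH) (Lpe (K28.f468989 IH) (Lpe (f473251 IH) (Lpe (K28.f468884 IH) (Lpr_gf (f479379 IH) (Lpe (f464429 IH) (Lpe (f98815 IH) (Lpe (f464420 IH) (Lpn (LP (LK LD1_c13 LD2_c7 LD3_c46))))))))))))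
theorem f455954 : Led Lsl_ct (LP (LK LD1_c1 LD2_c46 LD3_c54)) = (LP (LK LD1_c3 LD2_c39 LD3_c53)) :=
  Lre_c IH (LK LD1_c1 LD2_c46 LD3_c54) (LK LD1_c3 LD2_c39 LD3_c53) Lrfl Lrfl
theorem f455726 : Led Lsl_at (LP (LK LD1_c3 LD2_c31 LD3_c39)) = (LP (LK LD1_c1 LD2_c42 LD3_c27)) :=
  Lre_a IH (LK LD1_c3 LD2_c31 LD3_c39) (LK LD1_c1 LD2_c42 LD3_c27) Lrfl Lrfl
theorem f455748 : Led Lsl_gt (LP (LK LD1_c3 LD2_c31 LD3_c46)) = (LP (LK LD1_c1 LD2_c42 LD3_c27)) :=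
  Lre_g IH (LK LD1_c3 LD2_c31 LD3_c46) (LK LD1_c1 LD2_c42 LD3_c27) Lrfl Lrfl
theorem f458989 : Led Lsl_gf (LP (LK LD1_c3 LD2_c31 LD3_c46)) = (LP (LK LD1_c3 LD2_c31 LD3_c24)) :=
  Lgr Lrot47 (Lpr_gt (f455748 IH) (Lpe (f455726 IH) (Lpr_ff (K28.f458985 IH) (Lpn (LP (LK LD1_c3 LD2_c31 LD3_c24))))))
theorem f455749 : Led Lsl_ct (LP (LK LD1_c3 LD2_c31 LD3_c46)) = (LP (LK LD1_c7 LD2_c5 LD3_c6)) :=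
  Lre_c IH (LK LD1_c3 LD2_c31 LD3_c46) (LK LD1_c7 LD2_c5 LD3_c6) Lrfl Lrfl
theorem f469646 : Led Lsl_gt (LP (LK LD1_c7 LD2_c5 LD3_c6)) = (LP (LK LD1_c7 LD2_c22 LD3_c29)) :=
  Lgr Lrot150 (Lpe (f455749 IH) (Lpr_gf (f458989 IH) (Lpe (K24.f458906 IH) (Lpe (K28.f459182 IH) (Lpr_ct (K28.f459184 IH) (Lpr_gt (K28.f469134 IH) (Lpr_ct (K28.f469637 IH) (Lpe (K28.f106210 IH) (Lpe (K28.f464548 IH) (Lpn (LP (LK LD1_c7 LD2_c22 LD3_c29))))))))))))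
theorem f87988 : Led Lsl_bt (LP (LK LD1_c1 LD2_c41 LD3_c57)) = (LP (LK LD1_c3 LD2_c30 LD3_c38)) :=
  Lre_b IH (LK LD1_c1 LD2_c41 LD3_c57) (LK LD1_c3 LD2_c30 LD3_c38) Lrfl Lrfl
theorem f87989 : Led Lsl_gt (LP (LK LD1_c3 LD2_c30 LD3_c38)) = (LP (LK LD1_c7 LD2_c3 LD3_c14)) :=
  Lre_g IH (LK LD1_c3 LD2_c30 LD3_c38) (LK LD1_c7 LD2_c3 LD3_c14) Lrfl Lrfl
theorem f477193 : Led Lsl_bt (LP (LK LD1_c3 LD2_c31 LD3_c46)) = (LP (LK LD1_c7 LD2_c3 LD3_c14)) :=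
  Lgr Lrot92 (Lpr_ct (f455749 IH) (Lpr_gt (f469646 IH) (Lpr_cf (K28.f468139 IH) (Lpr_bt (K28.f461820 IH) (Lpr_gt (f477185 IH) (Lpr_ct (f464855 IH) (Lpe (f477191 IH) (Lpe (f87984 IH) (Lpr_bt (f87988 IH) (Lpr_gt (f87989 IH) (Lpn (LP (LK LD1_c7 LD2_c3 LD3_c14)))))))))))))
theorem f477195 : Led Lsl_bf (LP (LK LD1_c3 LD2_c31 LD3_c46)) = (LP (LK LD1_c7 LD2_c3 LD3_c14)) :=
  Lgr Lrot24 (Lpr_bt (f477193 IH) (Lpn (LP (LK LD1_c7 LD2_c3 LD3_c14))))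
theorem f450732 : Led Lsl_bt (LP (LK LD1_c0 LD2_c47 LD3_c45)) = (LP (LK LD1_c1 LD2_c42 LD3_c27)) :=
  Lre_b IH (LK LD1_c0 LD2_c47 LD3_c45) (LK LD1_c1 LD2_c42 LD3_c27) Lrfl Lrfl
def v650 : LQ := Led Lsl_ct (LP (LK LD1_c0 LD2_c47 LD3_c45))
theorem f455785 : Led Lsl_ct (LP (LK LD1_c0 LD2_c47 LD3_c45)) = v650 :=
  Lrfl
theorem f457668 : (LP (LK LD1_c0 LD2_c47 LD3_c42)) = v650 :=
  Lefun (Lecon (Lfl_cf (K24.f455666 IH)) (K24.f457665 IH).symm) (f455785 IH)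
theorem f91512 : Led Lsl_gt (LP (LK LD1_c6 LD2_c52 LD3_c13)) = (LP (LK LD1_c13 LD2_c4 LD3_c0)) :=
  Lre_g IH (LK LD1_c6 LD2_c52 LD3_c13) (LK LD1_c13 LD2_c4 LD3_c0) Lrfl Lrfl
theorem f477197 : Led Lsl_cf (LP (LK LD1_c13 LD2_c4 LD3_c0)) = (LP (LK LD1_c7 LD2_c3 LD3_c14)) :=
  Lgr Lrot163 (Lpe (f91512 IH) (Lpe (K28.f91511 IH) (Lpr_gf (K28.f473244 IH) (Lpe (K28.f455167 IH) (Lpr_ct (K24.f456275 IH) (Lpqs (K24.f456452 IH) (Lpe (K24.f455728 IH) (Lpqs (f457668 IH) (Lpe (f455785 IH) (Lpr_bt (f450732 IH) (Lpe (f455748 IH) (Lpr_bf (f477195 IH) (Lpn (LP (LK LD1_c7 LD2_c3 LD3_c14)))))))))))))))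
theorem f457635 : Led Lsl_dt (LP (LK LD1_c1 LD2_c41 LD3_c55)) = (LP (LK LD1_c3 LD2_c30 LD3_c38)) :=
  Lre_d IH (LK LD1_c1 LD2_c41 LD3_c55) (LK LD1_c3 LD2_c30 LD3_c38) Lrfl Lrfl
theorem f477204 : Led Lsl_gt (LP (LK LD1_c13 LD2_c4 LD3_c0)) = (LP (LK LD1_c6 LD2_c52 LD3_c19)) :=
  Lgr Lrot150 (Lpr_cf (f477197 IH) (Lpe (f87989 IH) (Lpe (f457635 IH) (Lpr_gt (K28.f457480 IH) (Lpe (K28.f468310 IH) (Lpr_gt (K28.f468919 IH) (Lpr_ct (K28.f18999 IH) (Lpe (K2.f17093 IH) (Lpe (K28.f90862 IH) (Lpn (LP (LK LD1_c6 LD2_c52 LD3_c19))))))))))))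
theorem f479428 : Led Lsl_df (LP (LK LD1_c13 LD2_c4 LD3_c0)) = (LP (LK LD1_c13 LD2_c7 LD3_c45)) :=
  Lgr Lrot155 (Lpr_gt (f477204 IH) (Lpr_ct (K28.f90862 IH) (Lpe (K28.f464358 IH) (Lpr_ct (f455954 IH) (Lpr_dt (K28.f456281 IH) (Lpe (K28.f456378 IH) (Lpr_gf (f479381 IH) (Lpe (f464419 IH) (Lpe (f98814 IH) (Lpn (LP (LK LD1_c13 LD2_c7 LD3_c45))))))))))))
theorem f443514 : Led Lsl_ct (LP (LK LD1_c7 LD2_c3 LD3_c15)) = (LP (LK LD1_c3 LD2_c30 LD3_c38)) :=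
  Lre_c IH (LK LD1_c7 LD2_c3 LD3_c15) (LK LD1_c3 LD2_c30 LD3_c38) Lrfl Lrfl
theorem f473101 : Led Lsl_cf (LP (LK LD1_c13 LD2_c7 LD3_c45)) = (LP (LK LD1_c13 LD2_c11 LD3_c34)) :=
  Lgr Lrot166 (Lpr_gt (f98814 IH) (Lpr_dt (f98813 IH) (Lpr_gt (K28.f15900 IH) (Lpr_dt (K28.f98734 IH) (Lpr_ct (K28.f465289 IH) (Lpe (f465305 IH) (Lpr_gf (K28.f463588 IH) (Lpr_df (f473084 IH) (Lpe (f472840 IH) (Lpn (LP (LK LD1_c13 LD2_c11 LD3_c34))))))))))))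
theorem f473033 : Led Lsl_cf (LP (LK LD1_c13 LD2_c12 LD3_c48)) = (LP (LK LD1_c22 LD2_c13 LD3_c43)) :=
  Lgr Lrot1 (Lpe (K28.f464409 IH) (Lpr_ct (K28.f458441 IH) (Lpr_at (K28.f472965 IH) (Lpn (LP (LK LD1_c22 LD2_c13 LD3_c43))))))
theorem f473110 : Led Lsl_gt (LP (LK LD1_c6 LD2_c56 LD3_c61)) = (LP (LK LD1_c13 LD2_c11 LD3_c34)) :=
  Lgr Lrot9 (Lpr_df (K28.f472951 IH) (Lpr_gt (K28.f18373 IH) (Lpe (f473033 IH) (Lpr_gt (K28.f91990 IH) (Lpr_ct (f91988 IH) (Lpe (f464445 IH) (Lpe (f464419 IH) (Lpe (f98814 IH) (Lpr_cf (f473101 IH) (Lpn (LP (LK LD1_c13 LD2_c11 LD3_c34))))))))))))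
theorem f479434 : Led Lsl_gf (LP (LK LD1_c7 LD2_c3 LD3_c15)) = (LP (LK LD1_c6 LD2_c54 LD3_c18)) :=
  Lgr Lrot147 (Lpr_ct (f443514 IH) (Lpr_gt (f87989 IH) (Lpe (f477197 IH) (Lpr_df (f479428 IH) (Lpr_cf (f473101 IH) (Lpe (f473110 IH) (Lpe (K28.f15960 IH) (Lpr_gf (K28.f469056 IH) (Lpe (K28.f90898 IH) (Lpn (LP (LK LD1_c6 LD2_c54 LD3_c18))))))))))))
theorem f457636 : Led Lsl_dt (LP (LK LD1_c3 LD2_c30 LD3_c38)) = (LP (LK LD1_c1 LD2_c41 LD3_c55)) :=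
  Lre_d IH (LK LD1_c3 LD2_c30 LD3_c38) (LK LD1_c1 LD2_c41 LD3_c55) Lrfl Lrfl
theorem f479438 : Led Lsl_gt (LP (LK LD1_c3 LD2_c31 LD3_c16)) = (LP (LK LD1_c3 LD2_c26 LD3_c11)) :=
  Lgr Lrot9 (Lpr_df (K28.f98727 IH) (Lpr_gt (K24.f15809 IH) (Lpr_ct (K24.f15795 IH) (Lpe (K24.f457477 IH) (Lpr_ct (K28.f457479 IH) (Lpe (f457636 IH) (Lpe (f443514 IH) (Lpr_gf (f479434 IH) (Lpe (K28.f463927 IH) (Lpn (LP (LK LD1_c3 LD2_c26 LD3_c11))))))))))))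
theorem f16709 : Led Lsl_gt (LP (LK LD1_c3 LD2_c24 LD3_c48)) = (LP (LK LD1_c6 LD2_c51 LD3_c35)) :=
  Lre_g IH (LK LD1_c3 LD2_c24 LD3_c48) (LK LD1_c6 LD2_c51 LD3_c35) Lrfl Lrfl
theorem f18221 : Led Lsl_dt (LP (LK LD1_c6 LD2_c51 LD3_c35)) = (LP (LK LD1_c13 LD2_c2 LD3_c55)) :=
  Lre_d IH (LK LD1_c6 LD2_c51 LD3_c35) (LK LD1_c13 LD2_c2 LD3_c55) Lrfl Lrfl
theorem f479443 : Led Lsl_gt (LP (LK LD1_c13 LD2_c2 LD3_c55)) = (LP (LK LD1_c13 LD2_c12 LD3_c51)) :=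
  Lgr Lrot49 (Lpe (f18221 IH) (Lpe (f16709 IH) (Lpe (K2.f15789 IH) (Lpr_gt (K24.f17290 IH) (Lpe (K28.f98727 IH) (Lpr_gt (f479438 IH) (Lpr_dt (f455084 IH) (Lpe (K28.f457885 IH) (Lpe (K28.f457886 IH) (Lpn (LP (LK LD1_c13 LD2_c12 LD3_c51))))))))))))
theorem f473455 : Led Lsl_dt (LP (LK LD1_c13 LD2_c2 LD3_c55)) = (LP (LK LD1_c6 LD2_c51 LD3_c35)) :=
  Lre_d IH (LK LD1_c13 LD2_c2 LD3_c55) (LK LD1_c6 LD2_c51 LD3_c35) Lrfl Lrfl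
theorem f472795 : Led Lsl_dt (LP (LK LD1_c22 LD2_c24 LD3_c18)) = (LP (LK LD1_c13 LD2_c11 LD3_c31)) :=
  Lre_d IH (LK LD1_c22 LD2_c24 LD3_c18) (LK LD1_c13 LD2_c11 LD3_c31) Lrfl Lrfl
theorem f472831 : Led Lsl_ct (LP (LK LD1_c13 LD2_c12 LD3_c51)) = (LP (LK LD1_c22 LD2_c24 LD3_c18)) :=
  Lgr Lrot176 (Lpe (f457887 IH) (Lpe (f457881 IH) (Lpe (f455084 IH) (Lpe (K28.f472830 IH) (Lpe (K28.f469064 IH) (Lpe (K28.f469058 IH) (Lpr_df (K28.f472826 IH) (Lpe (K28.f457373 IH) (Lpe (K28.f457372 IH) (Lpe (K28.f455985 IH) (Lpe (K28.f456912 IH) (Lpe (K28.f457124 IH) (Lpr_df (K28.f472805 IH) (Lpe (K28.f472792 IH) (Lpe (f472795 IH) (Lpn (LP (LK LD1_c22 LD2_c24 LD3_c18))))))))))))))))))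
theorem f479452 : Led Lsl_gf (LP (LK LD1_c22 LD2_c12 LD3_c41)) = (LP (LK LD1_c22 LD2_c24 LD3_c18)) :=
  Lgr Lrot104 (Lpr_ct (f460893 IH) (Lpe (f460894 IH) (Lpe (K28.f15811 IH) (Lpe (K28.f14647 IH) (Lpe (K24.f15793 IH) (Lpe (f15810 IH) (Lpe (f473455 IH) (Lpr_gt (f479443 IH) (Lpr_ct (f472831 IH) (Lpn (LP (LK LD1_c22 LD2_c24 LD3_c18))))))))))))
theorem f473337 : Led Lsl_dt (LP (LK LD1_c22 LD2_c12 LD3_c41)) = (LP (LK LD1_c13 LD2_c7 LD3_c37)) :=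
  Lgr Lrot42 (Lpr_df (f473333 IH) (Lpn (LP (LK LD1_c13 LD2_c7 LD3_c37))))
theorem f464447 : Led Lsl_cf (LP (LK LD1_c13 LD2_c24 LD3_c22)) = (LP (LK LD1_c13 LD2_c7 LD3_c37)) :=
  Lgr Lrot166 (Lpe (K28.f464101 IH) (Lpr_dt (f420092 IH) (Lpe (K28.f464417 IH) (Lpr_dt (f98755 IH) (Lpr_ct (f464419 IH) (Lpr_df (f464421 IH) (Lpe (f464284 IH) (Lpe (f18395 IH) (Lpe (f18396 IH) (Lpn (LP (LK LD1_c13 LD2_c7 LD3_c37))))))))))))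
theorem f461913 : Led Lsl_gt (LP (LK LD1_c6 LD2_c57 LD3_c27)) = (LP (LK LD1_c3 LD2_c27 LD3_c37)) :=
  Lre_g IH (LK LD1_c6 LD2_c57 LD3_c27) (LK LD1_c3 LD2_c27 LD3_c37) Lrfl Lrfl
theorem f472949 : Led Lsl_dt (LP (LK LD1_c13 LD2_c12 LD3_c45)) = (LP (LK LD1_c6 LD2_c57 LD3_c27)) :=
  Lre_d IH (LK LD1_c13 LD2_c12 LD3_c45) (LK LD1_c6 LD2_c57 LD3_c27) Lrfl Lrfl
theorem f479445 : Led Lsl_gf (LP (LK LD1_c7 LD2_c4 LD3_c18)) = (LP (LK LD1_c13 LD2_c12 LD3_c45)) :=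
  Lgr Lrot147 (Lpr_ct (K28.f98724 IH) (Lpr_gt (f479438 IH) (Lpr_ct (K28.f463927 IH) (Lpe (K28.f469064 IH) (Lpe (K28.f469058 IH) (Lpr_gf (K28.f472935 IH) (Lpe (K28.f469052 IH) (Lpe (f461913 IH) (Lpe (f472949 IH) (Lpn (LP (LK LD1_c13 LD2_c12 LD3_c45))))))))))))
theorem f472950 : Led Lsl_dt (LP (LK LD1_c6 LD2_c57 LD3_c27)) = (LP (LK LD1_c13 LD2_c12 LD3_c45)) :=
  Lre_d IH (LK LD1_c6 LD2_c57 LD3_c27) (LK LD1_c13 LD2_c12 LD3_c45) Lrfl Lrfl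
theorem f15687 : Led Lsl_ct (LP (LK LD1_c3 LD2_c27 LD3_c23)) = (LP (LK LD1_c6 LD2_c56 LD3_c53)) :=
  Lre_c IH (LK LD1_c3 LD2_c27 LD3_c23) (LK LD1_c6 LD2_c56 LD3_c53) Lrfl Lrfl
theorem f473086 : Led Lsl_gt (LP (LK LD1_c6 LD2_c57 LD3_c50)) = (LP (LK LD1_c13 LD2_c11 LD3_c31)) :=
  Lgr Lrot146 (Lpe (K28.f469039 IH) (Lpr_gt (K28.f17035 IH) (Lpr_ct (K28.f162349 IH) (Lpr_gt (K28.f19143 IH) (Lpr_ct (K28.f458001 IH) (Lpr_dt (f473082 IH) (Lpe (f15687 IH) (Lpe (K28.f472791 IH) (Lpe (K28.f472792 IH) (Lpn (LP (LK LD1_c13 LD2_c11 LD3_c31))))))))))))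
theorem f468982 : Led Lsl_ct (LP (LK LD1_c3 LD2_c27 LD3_c48)) = (LP (LK LD1_c6 LD2_c57 LD3_c50)) :=
  Lre_c IH (LK LD1_c3 LD2_c27 LD3_c48) (LK LD1_c6 LD2_c57 LD3_c50) Lrfl Lrfl
theorem f479457 : Led Lsl_gf (LP (LK LD1_c6 LD2_c57 LD3_c27)) = (LP (LK LD1_c3 LD2_c27 LD3_c48)) :=
  Lgr Lrot144 (Lpr_dt (f472950 IH) (Lpe (f479445 IH) (Lpr_dt (K28.f98733 IH) (Lpr_cf (f464447 IH) (Lpe (f473337 IH) (Lpr_gf (f479452 IH) (Lpe (K28.f472803 IH) (Lpe (f473086 IH) (Lpe (f468982 IH) (Lpn (LP (LK LD1_c3 LD2_c27 LD3_c48))))))))))))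
theorem f468879 : Led Lsl_dt (LP (LK LD1_c1 LD2_c40 LD3_c27)) = (LP (LK LD1_c3 LD2_c27 LD3_c48)) :=
  Lre_d IH (LK LD1_c1 LD2_c40 LD3_c27) (LK LD1_c3 LD2_c27 LD3_c48) Lrfl Lrfl
theorem f473409 : Led Lsl_cf (LP (LK LD1_c1 LD2_c52 LD3_c55)) = (LP (LK LD1_c3 LD2_c27 LD3_c35)) :=
  Lgr Lrot11 (Lpr_ct (K28.f473402 IH) (Lpn (LP (LK LD1_c3 LD2_c27 LD3_c35))))
theorem f473803 : Led Lsl_gf (LP (LK LD1_c3 LD2_c52 LD3_c40)) = (LP (LK LD1_c3 LD2_c52 LD3_c35)) :=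
  Lgr Lrot147 (Lpr_ct (f473440 IH) (Lpr_gt (f468980 IH) (Lpr_ct (K28.f468921 IH) (Lpe (K28.f91989 IH) (Lpe (K28.f16755 IH) (Lpe (K28.f468093 IH) (Lpr_cf (K24.f95189 IH) (Lpe (K28.f5743 IH) (Lpr_df (f473795 IH) (Lpn (LP (LK LD1_c3 LD2_c52 LD3_c35))))))))))))
theorem f473533 : Led Lsl_dt (LP (LK LD1_c3 LD2_c52 LD3_c40)) = (LP (LK LD1_c7 LD2_c47 LD3_c6)) :=
  Lre_d IH (LK LD1_c3 LD2_c52 LD3_c40) (LK LD1_c7 LD2_c47 LD3_c6) Lrfl Lrfl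
theorem f479461 : Led Lsl_cf (LP (LK LD1_c13 LD2_c12 LD3_c45)) = (LP (LK LD1_c7 LD2_c47 LD3_c6)) :=
  Lgr Lrot14 (Lpe (f472950 IH) (Lpr_gf (f479457 IH) (Lpe (f468879 IH) (Lpr_gf (K28.f473352 IH) (Lpe (f473409 IH) (Lpr_gt (K28.f473434 IH) (Lpr_dt (f473799 IH) (Lpe (f473803 IH) (Lpr_dt (f473533 IH) (Lpn (LP (LK LD1_c7 LD2_c47 LD3_c6))))))))))))
theorem f479472 : Led Lsl_gf (LP (LK LD1_c7 LD2_c0 LD3_c12)) = (LP (LK LD1_c7 LD2_c47 LD3_c6)) :=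
  Lgr Lrot144 (Lpr_dt (K28.f129749 IH) (Lpe (K28.f463584 IH) (Lpe (K28.f124901 IH) (Lpe (K28.f420091 IH) (Lpe (f420092 IH) (Lpr_gf (K28.f464101 IH) (Lpe (K28.f98733 IH) (Lpr_gf (f479445 IH) (Lpr_cf (f479461 IH) (Lpn (LP (LK LD1_c7 LD2_c47 LD3_c6))))))))))))
theorem f11042 : Led Lsl_bt (LP (LK LD1_c3 LD2_c24 LD3_c58)) = (LP (LK LD1_c1 LD2_c38 LD3_c54)) :=
  Lre_b IH (LK LD1_c3 LD2_c24 LD3_c58) (LK LD1_c1 LD2_c38 LD3_c54) Lrfl Lrfl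
theorem f11044 : Led Lsl_ct (LP (LK LD1_c3 LD2_c24 LD3_c58)) = (LP (LK LD1_c6 LD2_c52 LD3_c23)) :=
  Lre_c IH (LK LD1_c3 LD2_c24 LD3_c58) (LK LD1_c6 LD2_c52 LD3_c23) Lrfl Lrfl
theorem f455955 : Led Lsl_gt (LP (LK LD1_c6 LD2_c52 LD3_c23)) = (LP (LK LD1_c13 LD2_c4 LD3_c16)) :=
  Lre_g IH (LK LD1_c6 LD2_c52 LD3_c23) (LK LD1_c13 LD2_c4 LD3_c16) Lrfl Lrfl
theorem f473532 : Led Lsl_dt (LP (LK LD1_c7 LD2_c47 LD3_c6)) = (LP (LK LD1_c3 LD2_c52 LD3_c40)) :=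
  Lre_d IH (LK LD1_c7 LD2_c47 LD3_c6) (LK LD1_c3 LD2_c52 LD3_c40) Lrfl Lrfl
theorem f473942 : Led Lsl_bt (LP (LK LD1_c7 LD2_c48 LD3_c3)) = (LP (LK LD1_c7 LD2_c47 LD3_c6)) :=
  Lgr Lrot95 (Lpe (f129896 IH) (Lpr_bf (f473936 IH) (Lpe (f473532 IH) (Lpn (LP (LK LD1_c7 LD2_c47 LD3_c6))))))
theorem f479474 : Led Lsl_cf (LP (LK LD1_c13 LD2_c4 LD3_c16)) = (LP (LK LD1_c7 LD2_c48 LD3_c3)) :=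
  Lgr Lrot58 (Lpe (f455955 IH) (Lpe (f11044 IH) (Lpr_bt (f11042 IH) (Lpr_gf (K24.f455950 IH) (Lpe (K28.f455165 IH) (Lpr_ct (f455954 IH) (Lpe (K28.f473205 IH) (Lpr_cf (f457441 IH) (Lpr_gf (f479472 IH) (Lpe (f473942 IH) (Lpn (LP (LK LD1_c7 LD2_c48 LD3_c3)))))))))))))
theorem f439437 : Led Lsl_gf (LP (LK LD1_c3 LD2_c32 LD3_c43)) = (LP (LK LD1_c3 LD2_c38 LD3_c28)) :=
  Lgr Lrot47 (Lpe (K24.f93157 IH) (Lpr_af (K28.f439424 IH) (Lpe (K28.f18046 IH) (Lpn (LP (LK LD1_c3 LD2_c38 LD3_c28))))))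
theorem f93163 : Led Lsl_ct (LP (LK LD1_c3 LD2_c32 LD3_c43)) = (LP (LK LD1_c1 LD2_c43 LD3_c2)) :=
  Lre_c IH (LK LD1_c3 LD2_c32 LD3_c43) (LK LD1_c1 LD2_c43 LD3_c2) Lrfl Lrfl
theorem f128113 : Led Lsl_ct (LP (LK LD1_c7 LD2_c5 LD3_c54)) = (LP (LK LD1_c3 LD2_c32 LD3_c27)) :=
  Lre_c IH (LK LD1_c7 LD2_c5 LD3_c54) (LK LD1_c3 LD2_c32 LD3_c27) Lrfl Lrfl
theorem f479483 : Led Lsl_gt (LP (LK LD1_c13 LD2_c4 LD3_c16)) = (LP (LK LD1_c7 LD2_c5 LD3_c54)) :=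
  Lgr Lrot150 (Lpr_cf (f479474 IH) (Lpe (f477599 IH) (Lpe (f463879 IH) (Lpe (f468352 IH) (Lpr_ct (K28.f18040 IH) (Lpe (f439437 IH) (Lpr_ct (f93163 IH) (Lpr_df (K28.f128110 IH) (Lpe (f128113 IH) (Lpn (LP (LK LD1_c7 LD2_c5 LD3_c54))))))))))))
theorem f6653 : Led Lsl_et (LP (LK LD1_c0 LD2_c48 LD3_c26)) = (LP (LK LD1_c0 LD2_c21 LD3_c40)) :=
  Lre_e IH (LK LD1_c0 LD2_c48 LD3_c26) (LK LD1_c0 LD2_c21 LD3_c40) Lrfl Lrfl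
theorem f6302 : Led Lsl_dt (LP (LK LD1_c0 LD2_c48 LD3_c26)) = (LP (LK LD1_c1 LD2_c43 LD3_c40)) :=
  Lre_d IH (LK LD1_c0 LD2_c48 LD3_c26) (LK LD1_c1 LD2_c43 LD3_c40) Lrfl Lrfl
theorem f6572 : Led Lsl_gt (LP (LK LD1_c1 LD2_c43 LD3_c40)) = (LP (LK LD1_c3 LD2_c33 LD3_c57)) :=
  Lre_g IH (LK LD1_c1 LD2_c43 LD3_c40) (LK LD1_c3 LD2_c33 LD3_c57) Lrfl Lrfl
theorem f10524 : Led Lsl_dt (LP (LK LD1_c7 LD2_c8 LD3_c57)) = (LP (LK LD1_c3 LD2_c33 LD3_c57)) :=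
  Lre_d IH (LK LD1_c7 LD2_c8 LD3_c57) (LK LD1_c3 LD2_c33 LD3_c57) Lrfl Lrfl
theorem f479486 : Led Lsl_ef (LP (LK LD1_c13 LD2_c4 LD3_c16)) = (LP (LK LD1_c7 LD2_c8 LD3_c57)) :=
  Lgr Lrot167 (Lpr_gt (f479483 IH) (Lpr_dt (K28.f465660 IH) (Lpr_gt (K28.f108036 IH) (Lpe (K8.f10509 IH) (Lpr_et (K8.f10508 IH) (Lpr_gt (K3.f6108 IH) (Lpe (f6653 IH) (Lpr_dt (f6302 IH) (Lpr_gt (f6572 IH) (Lpe (f10524 IH) (Lpn (LP (LK LD1_c7 LD2_c8 LD3_c57)))))))))))))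
theorem f479493 : Led Lsl_et (LP (LK LD1_c13 LD2_c4 LD3_c16)) = (LP (LK LD1_c7 LD2_c8 LD3_c57)) :=
  Lgr Lrot87 (Lpr_ef (f479486 IH) (Lpn (LP (LK LD1_c7 LD2_c8 LD3_c57))))
theorem f455291 : Led Lsl_gt (LP (LK LD1_c3 LD2_c28 LD3_c11)) = (LP (LK LD1_c6 LD2_c58 LD3_c33)) :=
  Lre_g IH (LK LD1_c3 LD2_c28 LD3_c11) (LK LD1_c6 LD2_c58 LD3_c33) Lrfl Lrfl
theorem f479481 : Led Lsl_df (LP (LK LD1_c13 LD2_c4 LD3_c16)) = (LP (LK LD1_c6 LD2_c58 LD3_c33)) :=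
  Lgr Lrot84 (Lpr_cf (f479474 IH) (Lpe (f129896 IH) (Lpe (f129895 IH) (Lpe (K28.f129804 IH) (Lpe (K28.f88019 IH) (Lpe (f470631 IH) (Lpr_gt (K28.f16741 IH) (Lpr_dt (K24.f446445 IH) (Lpr_gt (f455291 IH) (Lpn (LP (LK LD1_c6 LD2_c58 LD3_c33))))))))))))
theorem f455301 : Led Lsl_et (LP (LK LD1_c13 LD2_c14 LD3_c36)) = (LP (LK LD1_c6 LD2_c58 LD3_c33)) :=
  Lre_e IH (LK LD1_c13 LD2_c14 LD3_c36) (LK LD1_c6 LD2_c58 LD3_c33) Lrfl Lrfl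
theorem f479498 : Led Lsl_et (LP (LK LD1_c3 LD2_c33 LD3_c57)) = (LP (LK LD1_c7 LD2_c8 LD3_c58)) :=
  Lre_e IH (LK LD1_c3 LD2_c33 LD3_c57) (LK LD1_c7 LD2_c8 LD3_c58) Lrfl Lrfl
theorem f479499 : Led Lsl_df (LP (LK LD1_c13 LD2_c14 LD3_c36)) = (LP (LK LD1_c7 LD2_c8 LD3_c58)) :=
  Lgr Lrot70 (Lpr_et (f455301 IH) (Lpe (f479481 IH) (Lpr_et (f479493 IH) (Lpr_dt (f10524 IH) (Lpr_et (f479498 IH) (Lpn (LP (LK LD1_c7 LD2_c8 LD3_c58))))))))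
theorem f479506 : Led Lsl_dt (LP (LK LD1_c13 LD2_c14 LD3_c36)) = (LP (LK LD1_c7 LD2_c8 LD3_c58)) :=
  Lgr Lrot42 (Lpr_df (f479499 IH) (Lpn (LP (LK LD1_c7 LD2_c8 LD3_c58))))
theorem f479488 : Led Lsl_et (LP (LK LD1_c6 LD2_c58 LD3_c33)) = (LP (LK LD1_c13 LD2_c14 LD3_c36)) :=
  Lre_e IH (LK LD1_c6 LD2_c58 LD3_c33) (LK LD1_c13 LD2_c14 LD3_c36) Lrfl Lrfl
theorem f10571 : Led Lsl_et (LP (LK LD1_c7 LD2_c8 LD3_c58)) = (LP (LK LD1_c3 LD2_c33 LD3_c57)) :=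
  Lre_e IH (LK LD1_c7 LD2_c8 LD3_c58) (LK LD1_c3 LD2_c33 LD3_c57) Lrfl Lrfl
theorem f6573 : Led Lsl_dt (LP (LK LD1_c3 LD2_c33 LD3_c57)) = (LP (LK LD1_c7 LD2_c8 LD3_c57)) :=
  Lre_d IH (LK LD1_c3 LD2_c33 LD3_c57) (LK LD1_c7 LD2_c8 LD3_c57) Lrfl Lrfl
theorem f479543 : Led Lsl_df (LP (LK LD1_c6 LD2_c58 LD3_c33)) = (LP (LK LD1_c13 LD2_c4 LD3_c16)) :=
  Lgr Lrot70 (Lpr_et (f479488 IH) (Lpr_dt (f479506 IH) (Lpr_et (f10571 IH) (Lpr_dt (f6573 IH) (Lpe (f479486 IH) (Lpn (LP (LK LD1_c13 LD2_c4 LD3_c16))))))))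
theorem f455279 : Led Lsl_at (LP (LK LD1_c3 LD2_c28 LD3_c2)) = (LP (LK LD1_c6 LD2_c58 LD3_c11)) :=
  Lre_a IH (LK LD1_c3 LD2_c28 LD3_c2) (LK LD1_c6 LD2_c58 LD3_c11) Lrfl Lrfl
theorem f455292 : Led Lsl_gf (LP (LK LD1_c6 LD2_c58 LD3_c11)) = (LP (LK LD1_c6 LD2_c58 LD3_c33)) :=
  Lgr Lrot76 (Lpe (f455279 IH) (Lpr_ff (K24.f455264 IH) (Lpr_gt (f455291 IH) (Lpn (LP (LK LD1_c6 LD2_c58 LD3_c33))))))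
theorem f455161 : Led Lsl_dt (LP (LK LD1_c6 LD2_c58 LD3_c11)) = (LP (LK LD1_c3 LD2_c27 LD3_c60)) :=
  Lre_d IH (LK LD1_c6 LD2_c58 LD3_c11) (LK LD1_c3 LD2_c27 LD3_c60) Lrfl Lrfl
theorem f479551 : Led Lsl_df (LP (LK LD1_c3 LD2_c28 LD3_c6)) = (LP (LK LD1_c6 LD2_c52 LD3_c22)) :=
  Lgr Lrot153 (Lpe (f455434 IH) (Lpr_dt (K28.f446476 IH) (Lpe (K24.f455160 IH) (Lpe (f455161 IH) (Lpr_gf (f455292 IH) (Lpr_df (f479543 IH) (Lpe (f455955 IH) (Lpe (f11044 IH) (Lpr_gt (K28.f458347 IH) (Lpn (LP (LK LD1_c6 LD2_c52 LD3_c22))))))))))))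
theorem f462012 : Led Lsl_dt (LP (LK LD1_c13 LD2_c14 LD3_c21)) = (LP (LK LD1_c6 LD2_c58 LD3_c25)) :=
  Lre_d IH (LK LD1_c13 LD2_c14 LD3_c21) (LK LD1_c6 LD2_c58 LD3_c25) Lrfl Lrfl
theorem f458527 : Led Lsl_dt (LP (LK LD1_c1 LD2_c38 LD3_c53)) = (LP (LK LD1_c3 LD2_c24 LD3_c58)) :=
  Lre_d IH (LK LD1_c1 LD2_c38 LD3_c53) (LK LD1_c3 LD2_c24 LD3_c58) Lrfl Lrfl
theorem f11614 : Led Lsl_dt (LP (LK LD1_c3 LD2_c32 LD3_c40)) = (LP (LK LD1_c7 LD2_c6 LD3_c11)) :=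
  Lre_d IH (LK LD1_c3 LD2_c32 LD3_c40) (LK LD1_c7 LD2_c6 LD3_c11) Lrfl Lrfl
theorem f479555 : Led Lsl_gf (LP (LK LD1_c13 LD2_c14 LD3_c21)) = (LP (LK LD1_c7 LD2_c6 LD3_c11)) :=
  Lgr Lrot143 (Lpr_dt (f462012 IH) (Lpe (f446453 IH) (Lpr_df (f479551 IH) (Lpe (K28.f458347 IH) (Lpe (f458527 IH) (Lpq (K28.f464172 IH) (Lpe (K28.f455822 IH) (Lpe (K3.f92413 IH) (Lpr_gt (K8.f11550 IH) (Lpr_dt (f11614 IH) (Lpn (LP (LK LD1_c7 LD2_c6 LD3_c11)))))))))))))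
theorem f462013 : Led Lsl_dt (LP (LK LD1_c6 LD2_c58 LD3_c25)) = (LP (LK LD1_c13 LD2_c14 LD3_c21)) :=
  Lre_d IH (LK LD1_c6 LD2_c58 LD3_c25) (LK LD1_c13 LD2_c14 LD3_c21) Lrfl Lrfl
theorem f11644 : Led Lsl_et (LP (LK LD1_c0 LD2_c52 LD3_c37)) = (LP (LK LD1_c1 LD2_c51 LD3_c36)) :=
  Lre_e IH (LK LD1_c0 LD2_c52 LD3_c37) (LK LD1_c1 LD2_c51 LD3_c36) Lrfl Lrfl
theorem f479565 : Led Lsl_et (LP (LK LD1_c6 LD2_c58 LD3_c25)) = (LP (LK LD1_c3 LD2_c36 LD3_c25)) :=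
  Lgr Lrot185 (Lpr_dt (f462013 IH) (Lpr_gf (f479555 IH) (Lpe (f11614 IH) (Lpe (K8.f11550 IH) (Lpe (K8.f11549 IH) (Lpr_dt (K3.f11548 IH) (Lpe (K3.f11534 IH) (Lpe (K3.f11533 IH) (Lpr_et (f11644 IH) (Lpr_gf (f478242 IH) (Lpn (LP (LK LD1_c3 LD2_c36 LD3_c25)))))))))))))
theorem f479573 : Led Lsl_ef (LP (LK LD1_c6 LD2_c58 LD3_c25)) = (LP (LK LD1_c3 LD2_c36 LD3_c25)) :=
  Lgr Lrot88 (Lpr_et (f479565 IH) (Lpn (LP (LK LD1_c3 LD2_c36 LD3_c25))))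
theorem f455436 : Led Lsl_ct (LP (LK LD1_c6 LD2_c58 LD3_c25)) = (LP (LK LD1_c3 LD2_c28 LD3_c6)) :=
  Lre_c IH (LK LD1_c6 LD2_c58 LD3_c25) (LK LD1_c3 LD2_c28 LD3_c6) Lrfl Lrfl
theorem f479577 : Led Lsl_et (LP (LK LD1_c3 LD2_c28 LD3_c6)) = (LP (LK LD1_c1 LD2_c45 LD3_c2)) :=
  Lgr Lrot158 (Lpe (f455436 IH) (Lpr_ef (f479573 IH) (Lpe (f5958 IH) (Lpn (LP (LK LD1_c1 LD2_c45 LD3_c2))))))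
theorem f478257 : Led Lsl_et (LP (LK LD1_c3 LD2_c26 LD3_c44)) = (LP (LK LD1_c6 LD2_c55 LD3_c17)) :=
  Lre_e IH (LK LD1_c3 LD2_c26 LD3_c44) (LK LD1_c6 LD2_c55 LD3_c17) Lrfl Lrfl
theorem f479593 : Led Lsl_bf (LP (LK LD1_c3 LD2_c28 LD3_c6)) = (LP (LK LD1_c6 LD2_c55 LD3_c17)) :=
  Lgr Lrot96 (Lpr_et (f479577 IH) (Lpe (f478249 IH) (Lpr_et (f478257 IH) (Lpn (LP (LK LD1_c6 LD2_c55 LD3_c17))))))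
theorem f451307 : Led Lsl_bt (LP (LK LD1_c0 LD2_c54 LD3_c7)) = (LP (LK LD1_c0 LD2_c24 LD3_c22)) :=
  Lre_b IH (LK LD1_c0 LD2_c54 LD3_c7) (LK LD1_c0 LD2_c24 LD3_c22) Lrfl Lrfl
theorem f91711 : Led Lsl_et (LP (LK LD1_c6 LD2_c55 LD3_c17)) = (LP (LK LD1_c3 LD2_c26 LD3_c44)) :=
  Lre_e IH (LK LD1_c6 LD2_c55 LD3_c17) (LK LD1_c3 LD2_c26 LD3_c44) Lrfl Lrfl
theorem f472558 : Led Lsl_et (LP (LK LD1_c1 LD2_c54 LD3_c12)) = (LP (LK LD1_c3 LD2_c55 LD3_c17)) :=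
  Lre_e IH (LK LD1_c1 LD2_c54 LD3_c12) (LK LD1_c3 LD2_c55 LD3_c17) Lrfl Lrfl
theorem f478265 : Led Lsl_cf (LP (LK LD1_c6 LD2_c55 LD3_c17)) = (LP (LK LD1_c3 LD2_c55 LD3_c17)) :=
  Lgr Lrot39 (Lpr_et (f91711 IH) (Lpr_ct (f478258 IH) (Lpr_et (f472558 IH) (Lpn (LP (LK LD1_c3 LD2_c55 LD3_c17))))))
theorem f478614 : Led Lsl_ct (LP (LK LD1_c6 LD2_c55 LD3_c17)) = (LP (LK LD1_c3 LD2_c55 LD3_c17)) :=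
  Lgr Lrot59 (Lpr_cf (f478265 IH) (Lpn (LP (LK LD1_c3 LD2_c55 LD3_c17))))
theorem f479601 : Led Lsl_gf (LP (LK LD1_c1 LD2_c54 LD3_c56)) = (LP (LK LD1_c3 LD2_c55 LD3_c17)) :=
  Lgr Lrot126 (Lpe (K28.f451254 IH) (Lpr_bt (f451307 IH) (Lpr_gt (K11.f451306 IH) (Lpe (f479087 IH) (Lpr_gt (f479089 IH) (Lpe (K24.f455482 IH) (Lpr_bt (K24.f446436 IH) (Lpr_gt (f446452 IH) (Lpr_bf (f479593 IH) (Lpr_ct (f478614 IH) (Lpn (LP (LK LD1_c3 LD2_c55 LD3_c17)))))))))))))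
theorem f451256 : Led Lsl_ct (LP (LK LD1_c1 LD2_c54 LD3_c56)) = (LP (LK LD1_c0 LD2_c54 LD3_c7)) :=
  Lre_c IH (LK LD1_c1 LD2_c54 LD3_c56) (LK LD1_c0 LD2_c54 LD3_c7) Lrfl Lrfl
theorem f458187 : Led Lsl_dt (LP (LK LD1_c3 LD2_c56 LD3_c24)) = (LP (LK LD1_c7 LD2_c54 LD3_c31)) :=
  Lre_d IH (LK LD1_c3 LD2_c56 LD3_c24) (LK LD1_c7 LD2_c54 LD3_c31) Lrfl Lrfl
theorem f458883 : Led Lsl_at (LP (LK LD1_c7 LD2_c4 LD3_c54)) = (LP (LK LD1_c3 LD2_c31 LD3_c43)) :=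
  Lre_a IH (LK LD1_c7 LD2_c4 LD3_c54) (LK LD1_c3 LD2_c31 LD3_c43) Lrfl Lrfl
theorem f458885 : Led Lsl_ff (LP (LK LD1_c7 LD2_c4 LD3_c54)) = (LP (LK LD1_c7 LD2_c4 LD3_c28)) :=
  Lgr Lrot30 (Lpr_at (f458883 IH) (Lpr_ft (K24.f458838 IH) (Lpr_at (K24.f458884 IH) (Lpn (LP (LK LD1_c7 LD2_c4 LD3_c28))))))
theorem f459250 : Led Lsl_gt (LP (LK LD1_c7 LD2_c4 LD3_c61)) = (LP (LK LD1_c3 LD2_c31 LD3_c43)) :=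
  Lre_g IH (LK LD1_c7 LD2_c4 LD3_c61) (LK LD1_c3 LD2_c31 LD3_c43) Lrfl Lrfl
theorem f459251 : Led Lsl_gf (LP (LK LD1_c7 LD2_c4 LD3_c61)) = (LP (LK LD1_c7 LD2_c4 LD3_c28)) :=
  Lgr Lrot47 (Lpr_gt (f459250 IH) (Lpe (f458883 IH) (Lpr_ff (f458885 IH) (Lpn (LP (LK LD1_c7 LD2_c4 LD3_c28))))))
theorem f437062 : Led Lsl_et (LP (LK LD1_c3 LD2_c55 LD3_c17)) = (LP (LK LD1_c1 LD2_c54 LD3_c12)) :=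
  Lre_e IH (LK LD1_c3 LD2_c55 LD3_c17) (LK LD1_c1 LD2_c54 LD3_c12) Lrfl Lrfl
theorem f469136 : Led Lsl_df (LP (LK LD1_c7 LD2_c4 LD3_c61)) = (LP (LK LD1_c3 LD2_c55 LD3_c17)) :=
  Lgr Lrot132 (Lpr_gf (f459251 IH) (Lpe (K28.f458915 IH) (Lpr_gf (K28.f469128 IH) (Lpe (K28.f124012 IH) (Lpr_dt (K6.f12900 IH) (Lpe (K7.f146876 IH) (Lpe (K6.f11654 IH) (Lpr_et (K6.f122754 IH) (Lpe (f123422 IH) (Lpe (f437062 IH) (Lpn (LP (LK LD1_c3 LD2_c55 LD3_c17)))))))))))))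
theorem f472555 : Led Lsl_dt (LP (LK LD1_c7 LD2_c4 LD3_c61)) = (LP (LK LD1_c3 LD2_c55 LD3_c17)) :=
  Lgr Lrot42 (Lpr_df (f469136 IH) (Lpn (LP (LK LD1_c3 LD2_c55 LD3_c17))))
theorem f459051 : Led Lsl_ct (LP (LK LD1_c3 LD2_c31 LD3_c43)) = (LP (LK LD1_c7 LD2_c5 LD3_c0)) :=
  Lre_c IH (LK LD1_c3 LD2_c31 LD3_c43) (LK LD1_c7 LD2_c5 LD3_c0) Lrfl Lrfl
theorem f459168 : Led Lsl_gt (LP (LK LD1_c7 LD2_c5 LD3_c0)) = (LP (LK LD1_c13 LD2_c25 LD3_c43)) :=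
  Lre_g IH (LK LD1_c7 LD2_c5 LD3_c0) (LK LD1_c13 LD2_c25 LD3_c43) Lrfl Lrfl
theorem f479607 : Led Lsl_cf (LP (LK LD1_c7 LD2_c54 LD3_c31)) = (LP (LK LD1_c13 LD2_c25 LD3_c43)) :=
  Lgr Lrot99 (Lpe (f458187 IH) (Lpe (K24.f451326 IH) (Lpe (K24.f451253 IH) (Lpe (f451256 IH) (Lpr_gf (f479601 IH) (Lpe (f472555 IH) (Lpr_gt (f459250 IH) (Lpr_ct (f459051 IH) (Lpr_gt (f459168 IH) (Lpn (LP (LK LD1_c13 LD2_c25 LD3_c43))))))))))))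
theorem f479616 : Led Lsl_ct (LP (LK LD1_c7 LD2_c54 LD3_c31)) = (LP (LK LD1_c13 LD2_c25 LD3_c43)) :=
  Lgr Lrot59 (Lpr_cf (f479607 IH) (Lpn (LP (LK LD1_c13 LD2_c25 LD3_c43))))
theorem f459006 : Led Lsl_ft (LP (LK LD1_c7 LD2_c4 LD3_c54)) = (LP (LK LD1_c7 LD2_c4 LD3_c28)) :=
  Lgr Lrot54 (Lpe (K28.f458961 IH) (Lpr_ff (K28.f458994 IH) (Lpe (K24.f455642 IH) (Lpn (LP (LK LD1_c7 LD2_c4 LD3_c28))))))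
theorem f459025 : Led Lsl_ff (LP (LK LD1_c13 LD2_c25 LD3_c26)) = (LP (LK LD1_c13 LD2_c24 LD3_c42)) :=
  Lgr Lrot23 (Lpr_ct (K28.f455771 IH) (Lpr_ft (f459006 IH) (Lpr_ct (K28.f458914 IH) (Lpn (LP (LK LD1_c13 LD2_c24 LD3_c42))))))
theorem f458949 : Led Lsl_at (LP (LK LD1_c13 LD2_c25 LD3_c26)) = (LP (LK LD1_c7 LD2_c5 LD3_c0)) :=
  Lre_a IH (LK LD1_c13 LD2_c25 LD3_c26) (LK LD1_c7 LD2_c5 LD3_c0) Lrfl Lrfl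
theorem f459039 : Led Lsl_at (LP (LK LD1_c7 LD2_c4 LD3_c37)) = (LP (LK LD1_c13 LD2_c24 LD3_c42)) :=
  Lre_a IH (LK LD1_c7 LD2_c4 LD3_c37) (LK LD1_c13 LD2_c24 LD3_c42) Lrfl Lrfl
theorem f459040 : Led Lsl_ft (LP (LK LD1_c7 LD2_c5 LD3_c0)) = (LP (LK LD1_c7 LD2_c4 LD3_c37)) :=
  Lgr Lrot101 (Lpe (f458949 IH) (Lpr_ff (f459025 IH) (Lpe (f459039 IH) (Lpn (LP (LK LD1_c7 LD2_c4 LD3_c37))))))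
theorem f459169 : Led Lsl_gt (LP (LK LD1_c13 LD2_c25 LD3_c43)) = (LP (LK LD1_c13 LD2_c24 LD3_c42)) :=
  Lgr Lrot46 (Lpe (f459168 IH) (Lpr_ft (f459040 IH) (Lpr_at (f459039 IH) (Lpn (LP (LK LD1_c13 LD2_c24 LD3_c42))))))
theorem f457146 : Led Lsl_dt (LP (LK LD1_c7 LD2_c22 LD3_c5)) = (LP (LK LD1_c3 LD2_c40 LD3_c55)) :=
  Lre_d IH (LK LD1_c7 LD2_c22 LD3_c5) (LK LD1_c3 LD2_c40 LD3_c55) Lrfl Lrfl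
theorem f479628 : Led Lsl_gf (LP (LK LD1_c7 LD2_c54 LD3_c31)) = (LP (LK LD1_c7 LD2_c22 LD3_c5)) :=
  Lgr Lrot147 (Lpr_ct (f479616 IH) (Lpr_gt (f459169 IH) (Lpr_ct (K24.f455643 IH) (Lpe (K28.f458915 IH) (Lpe (K28.f458991 IH) (Lpe (K24.f459276 IH) (Lpq (K28.f463621 IH) (Lpe (K4.f122347 IH) (Lpe (K28.f122361 IH) (Lpe (f457146 IH) (Lpn (LP (LK LD1_c7 LD2_c22 LD3_c5)))))))))))))
theorem f458186 : Led Lsl_dt (LP (LK LD1_c7 LD2_c54 LD3_c31)) = (LP (LK LD1_c3 LD2_c56 LD3_c24)) :=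
  Lre_d IH (LK LD1_c7 LD2_c54 LD3_c31) (LK LD1_c3 LD2_c56 LD3_c24) Lrfl Lrfl
theorem f451966 : Led Lsl_ct (LP (LK LD1_c3 LD2_c56 LD3_c24)) = (LP (LK LD1_c1 LD2_c54 LD3_c55)) :=
  Lre_c IH (LK LD1_c3 LD2_c56 LD3_c24) (LK LD1_c1 LD2_c54 LD3_c55) Lrfl Lrfl
theorem f457145 : Led Lsl_dt (LP (LK LD1_c3 LD2_c40 LD3_c55)) = (LP (LK LD1_c7 LD2_c22 LD3_c5)) :=
  Lre_d IH (LK LD1_c3 LD2_c40 LD3_c55) (LK LD1_c7 LD2_c22 LD3_c5) Lrfl Lrfl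
theorem f455753 : Led Lsl_gt (LP (LK LD1_c1 LD2_c42 LD3_c27)) = (LP (LK LD1_c3 LD2_c31 LD3_c45)) :=
  Lre_g IH (LK LD1_c1 LD2_c42 LD3_c27) (LK LD1_c3 LD2_c31 LD3_c45) Lrfl Lrfl
theorem f479638 : Led Lsl_df (LP (LK LD1_c1 LD2_c54 LD3_c55)) = (LP (LK LD1_c3 LD2_c31 LD3_c45)) :=
  Lgr Lrot84 (Lpe (f451966 IH) (Lpe (f458186 IH) (Lpr_gf (f479628 IH) (Lpe (f457145 IH) (Lpe (K28.f469134 IH) (Lpe (K28.f459184 IH) (Lpr_gt (K28.f455664 IH) (Lpr_dt (K24.f455752 IH) (Lpr_gt (f455753 IH) (Lpn (LP (LK LD1_c3 LD2_c31 LD3_c45))))))))))))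
theorem f479642 : Led Lsl_dt (LP (LK LD1_c1 LD2_c54 LD3_c55)) = (LP (LK LD1_c3 LD2_c31 LD3_c45)) :=
  Lgr Lrot42 (Lpr_df (f479638 IH) (Lpn (LP (LK LD1_c3 LD2_c31 LD3_c45))))
theorem f455622 : Led Lsl_ct (LP (LK LD1_c1 LD2_c42 LD3_c18)) = (LP (LK LD1_c3 LD2_c31 LD3_c31)) :=
  Lre_c IH (LK LD1_c1 LD2_c42 LD3_c18) (LK LD1_c3 LD2_c31 LD3_c31) Lrfl Lrfl
theorem f458939 : Led Lsl_ft (LP (LK LD1_c1 LD2_c42 LD3_c27)) = (LP (LK LD1_c1 LD2_c42 LD3_c18)) :=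
  Lgr Lrot4 (Lpe (K24.f455703 IH) (Lpr_ff (K24.f458927 IH) (Lpe (f455622 IH) (Lpn (LP (LK LD1_c1 LD2_c42 LD3_c18))))))
theorem f455708 : Led Lsl_at (LP (LK LD1_c1 LD2_c42 LD3_c18)) = (LP (LK LD1_c3 LD2_c31 LD3_c24)) :=
  Lre_a IH (LK LD1_c1 LD2_c42 LD3_c18) (LK LD1_c3 LD2_c31 LD3_c24) Lrfl Lrfl
theorem f459207 : Led Lsl_gt (LP (LK LD1_c3 LD2_c31 LD3_c45)) = (LP (LK LD1_c3 LD2_c31 LD3_c24)) :=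
  Lgr Lrot46 (Lpe (f455753 IH) (Lpr_ft (f458939 IH) (Lpr_at (f455708 IH) (Lpn (LP (LK LD1_c3 LD2_c31 LD3_c24))))))
theorem f458993 : Led Lsl_et (LP (LK LD1_c1 LD2_c42 LD3_c16)) = (LP (LK LD1_c3 LD2_c31 LD3_c25)) :=
  Lre_e IH (LK LD1_c1 LD2_c42 LD3_c16) (LK LD1_c3 LD2_c31 LD3_c25) Lrfl Lrfl
theorem f491659 : Led Lsl_gf (LP (LK LD1_c1 LD2_c47 LD3_c53)) = (LP (LK LD1_c3 LD2_c31 LD3_c25)) :=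
  Lgr Lrot141 (Lpe (f437931 IH) (Lpr_dt (f4849 IH) (Lpq (f491657 IH) (Lpe (f490528 IH) (Lpr_df (f490427 IH) (Lpe (f490428 IH) (Lpr_gt (K24.f451253 IH) (Lpr_dt (f479642 IH) (Lpr_gt (f459207 IH) (Lpe (K24.f458906 IH) (Lpr_et (f458993 IH) (Lpn (LP (LK LD1_c3 LD2_c31 LD3_c25))))))))))))))
theorem f491660 : Led Lsl_gt (LP (LK LD1_c3 LD2_c31 LD3_c25)) = (LP (LK LD1_c1 LD2_c47 LD3_c53)) :=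
  Leop (Lpr_gf (f491659 IH) (Lpn (LP (LK LD1_c3 LD2_c31 LD3_c25))))
theorem seed_93 : LEOK LG_g (LK LD1_c3 LD2_c31 LD3_c25) :=
  Leoe_g (LK LD1_c3 LD2_c31 LD3_c25) (f491660 IH)
def v1134 : LQ := Led Lsl_et v274
theorem f491663 : Led Lsl_et v274 = v1134 :=
  Lrfl
theorem f491666 : Led Lsl_ef v274 = v1134 :=
  Lgr Lrot88 (Lpr_et (f491663 IH) (Lpn v1134))
theorem f483031 : Led Lsl_bf (LP (LK LD1_c1 LD2_c46 LD3_c8)) = (LP (LK LD1_c3 LD2_c25 LD3_c26)) :=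
  Lgr Lrot156 (Lpr_gt (K2.f4069 IH) (Lpe (K2.f4039 IH) (Lpr_ct (K24.f447655 IH) (Lpe (K24.f447657 IH) (Lpqs (K24.f456263 IH) (Lpe (K24.f451011 IH) (Lpr_bt (K28.f451003 IH) (Lpqs (f466752 IH) (Lpe (f451050 IH) (Lpr_ct (f85264 IH) (Lpr_gt (K5.f87936 IH) (Lpr_cf (f483014 IH) (Lpn (LP (LK LD1_c3 LD2_c25 LD3_c26)))))))))))))))
theorem f483257 : Led Lsl_bt (LP (LK LD1_c1 LD2_c46 LD3_c8)) = (LP (LK LD1_c3 LD2_c25 LD3_c26)) :=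
  Lgr Lrot127 (Lpr_bf (f483031 IH) (Lpn (LP (LK LD1_c3 LD2_c25 LD3_c26))))
theorem f4070 : Led Lsl_ct (LP (LK LD1_c1 LD2_c46 LD3_c8)) = (LP (LK LD1_c3 LD2_c38 LD3_c20)) :=
  Lre_c IH (LK LD1_c1 LD2_c46 LD3_c8) (LK LD1_c3 LD2_c38 LD3_c20) Lrfl Lrfl
theorem f476428 : Led Lsl_bf (LP (LK LD1_c3 LD2_c29 LD3_c35)) = (LP (LK LD1_c1 LD2_c47 LD3_c19)) :=
  Lgr Lrot24 (Lpr_bt (f476426 IH) (Lpn (LP (LK LD1_c1 LD2_c47 LD3_c19))))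
theorem f4536 : Led Lsl_ct (LP (LK LD1_c1 LD2_c47 LD3_c19)) = (LP (LK LD1_c3 LD2_c40 LD3_c44)) :=
  Lre_c IH (LK LD1_c1 LD2_c47 LD3_c19) (LK LD1_c3 LD2_c40 LD3_c44) Lrfl Lrfl
theorem f483470 : Led Lsl_gf (LP (LK LD1_c3 LD2_c40 LD3_c44)) = (LP (LK LD1_c7 LD2_c21 LD3_c42)) :=
  Lgr Lrot126 (Lpe (f4536 IH) (Lpe (f476428 IH) (Lpr_gt (f440675 IH) (Lpr_ct (f440673 IH) (Lpe (f481343 IH) (Lpe (f4070 IH) (Lpr_bt (f483257 IH) (Lpr_gt (f115998 IH) (Lpe (f65526 IH) (Lpr_ct (f483462 IH) (Lpn (LP (LK LD1_c7 LD2_c21 LD3_c42)))))))))))))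
theorem f483472 : Led Lsl_gt (LP (LK LD1_c3 LD2_c40 LD3_c44)) = (LP (LK LD1_c3 LD2_c43 LD3_c31)) :=
  Lgr Lrot46 (Lpr_gf (f483470 IH) (Lpe (f483466 IH) (Lpe (f137017 IH) (Lpn (LP (LK LD1_c3 LD2_c43 LD3_c31))))))
theorem f483486 : Led Lsl_gf v274 = (LP (LK LD1_c1 LD2_c38 LD3_c46)) :=
  Lgr Lrot124 (Lpe (f451489 IH) (Lpqs (f455963 IH) (Lpe (f451562 IH) (Lpr_gt (f447690 IH) (Lpe (f447687 IH) (Lpr_bt (K11.f4500 IH) (Lpr_gt (f4531 IH) (Lpr_ct (f4536 IH) (Lpr_gt (f483472 IH) (Lpr_cf (K4.f12788 IH) (Lpr_bt (f12783 IH) (Lpn (LP (LK LD1_c1 LD2_c38 LD3_c46))))))))))))))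
theorem f98673 : Led Lsl_et (LP (LK LD1_c0 LD2_c45 LD3_c47)) = (LP (LK LD1_c1 LD2_c38 LD3_c46)) :=
  Lre_e IH (LK LD1_c0 LD2_c45 LD3_c47) (LK LD1_c1 LD2_c38 LD3_c46) Lrfl Lrfl
theorem f12322 : Led Lsl_et (LP (LK LD1_c0 LD2_c53 LD3_c52)) = (LP (LK LD1_c0 LD2_c24 LD3_c12)) :=
  Lre_e IH (LK LD1_c0 LD2_c53 LD3_c52) (LK LD1_c0 LD2_c24 LD3_c12) Lrfl Lrfl
def v898 : LQ := Led Lsl_dt (LP (LK LD1_c0 LD2_c53 LD3_c52))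
theorem f490317 : Led Lsl_dt (LP (LK LD1_c0 LD2_c53 LD3_c52)) = v898 :=
  Lrfl
def v601 : LQ := Led Lsl_dt (LP (LK LD1_c0 LD2_c46 LD3_c42))
theorem f455129 : Led Lsl_dt (LP (LK LD1_c0 LD2_c46 LD3_c42)) = v601 :=
  Lrfl
theorem f455131 : Led Lsl_df (LP (LK LD1_c0 LD2_c46 LD3_c42)) = v601 :=
  Lgr Lrot38 (Lpr_dt (f455129 IH) (Lpn v601))
theorem f490320 : Led Lsl_ef v601 = v898 :=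
  Lgr Lrot73 (Lpe (f455131 IH) (Lpr_et (K4.f90270 IH) (Lpr_dt (K1.f64346 IH) (Lpr_et (K5.f12205 IH) (Lpr_dt (f490317 IH) (Lpn v898))))))
theorem f132273 : Led Lsl_at (LP (LK LD1_c0 LD2_c21 LD3_c23)) = (LP (LK LD1_c0 LD2_c20 LD3_c24)) :=
  Lgr Lrot51 (Lpr_df (K2.f64363 IH) (Lpr_af (K5.f132265 IH) (Lpe (K2.f90845 IH) (Lpn (LP (LK LD1_c0 LD2_c20 LD3_c24))))))
theorem f439086 : Led Lsl_af (LP (LK LD1_c0 LD2_c46 LD3_c42)) = (LP (LK LD1_c0 LD2_c45 LD3_c44)) :=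
  Lgr Lrot50 (Lpr_et (K4.f90270 IH) (Lpr_at (f132273 IH) (Lpr_et (K2.f91305 IH) (Lpn (LP (LK LD1_c0 LD2_c45 LD3_c44))))))
theorem f455130 : Led Lsl_af (LP (LK LD1_c1 LD2_c38 LD3_c39)) = v601 :=
  Lgr Lrot117 (Lpr_dt (K7.f91600 IH) (Lpe (f439086 IH) (Lpr_dt (f455129 IH) (Lpn v601))))
theorem f91492 : Led Lsl_dt (LP (LK LD1_c1 LD2_c40 LD3_c6)) = (LP (LK LD1_c0 LD2_c46 LD3_c34)) :=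
  Lre_d IH (LK LD1_c1 LD2_c40 LD3_c6) (LK LD1_c0 LD2_c46 LD3_c34) Lrfl Lrfl
theorem f91493 : Led Lsl_et (LP (LK LD1_c1 LD2_c38 LD3_c39)) = (LP (LK LD1_c1 LD2_c40 LD3_c6)) :=
  Lgr Lrot71 (Lpe (K7.f19347 IH) (Lpe (K2.f91305 IH) (Lpr_df (K2.f91301 IH) (Lpe (K5.f91306 IH) (Lpe (f91492 IH) (Lpn (LP (LK LD1_c1 LD2_c40 LD3_c6))))))))
theorem f490321 : Led Lsl_at (LP (LK LD1_c1 LD2_c40 LD3_c6)) = v898 :=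
  Lgr Lrot80 (Lpe (f91493 IH) (Lpr_af (f455130 IH) (Lpr_ef (f490320 IH) (Lpn v898))))
theorem f91611 : Led Lsl_ft (LP (LK LD1_c3 LD2_c26 LD3_c60)) = (LP (LK LD1_c1 LD2_c40 LD3_c6)) :=
  Lre_f IH (LK LD1_c3 LD2_c26 LD3_c60) (LK LD1_c1 LD2_c40 LD3_c6) Lrfl Lrfl
theorem f490323 : Led Lsl_gt (LP (LK LD1_c1 LD2_c45 LD3_c56)) = v898 :=
  Lgr Lrot46 (Lpe (f487439 IH) (Lpr_ft (f91611 IH) (Lpr_at (f490321 IH) (Lpn v898))))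
theorem f491669 : Led Lsl_df (LP (LK LD1_c1 LD2_c45 LD3_c56)) = v1134 :=
  Lgr Lrot170 (Lpr_gt (f490323 IH) (Lpe (f490317 IH) (Lpr_et (f12322 IH) (Lpe (K0.f14630 IH) (Lpr_dt (K0.f9771 IH) (Lpe (K4.f98707 IH) (Lpr_df (K3.f98671 IH) (Lpr_et (f98673 IH) (Lpe (f483486 IH) (Lpr_ef (f491666 IH) (Lpn v1134)))))))))))
theorem f484017 : Led Lsl_af (LP (LK LD1_c1 LD2_c46 LD3_c29)) = (LP (LK LD1_c1 LD2_c39 LD3_c32)) :=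
  Lgr Lrot45 (Lpr_ft (f484015 IH) (Lpe (f102696 IH) (Lpr_ft (K4.f94299 IH) (Lpn (LP (LK LD1_c1 LD2_c39 LD3_c32))))))
theorem f94303 : Led Lsl_gt (LP (LK LD1_c0 LD2_c46 LD3_c15)) = (LP (LK LD1_c1 LD2_c39 LD3_c31)) :=
  Lre_g IH (LK LD1_c0 LD2_c46 LD3_c15) (LK LD1_c1 LD2_c39 LD3_c31) Lrfl Lrfl
theorem f485764 : Led Lsl_gf (LP (LK LD1_c1 LD2_c46 LD3_c29)) = (LP (LK LD1_c1 LD2_c39 LD3_c31)) :=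
  Lgr Lrot76 (Lpr_af (f484017 IH) (Lpe (K4.f94299 IH) (Lpr_gt (f94303 IH) (Lpn (LP (LK LD1_c1 LD2_c39 LD3_c31))))))
theorem f450932 : Led Lsl_at (LP (LK LD1_c1 LD2_c46 LD3_c30)) = (LP (LK LD1_c0 LD2_c49 LD3_c58)) :=
  Lre_a IH (LK LD1_c1 LD2_c46 LD3_c30) (LK LD1_c0 LD2_c49 LD3_c58) Lrfl Lrfl
theorem f485766 : Led Lsl_ff (LP (LK LD1_c1 LD2_c46 LD3_c30)) = (LP (LK LD1_c1 LD2_c39 LD3_c31)) :=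
  Lgr Lrot52 (Lpr_at (f450932 IH) (Lpe (f450938 IH) (Lpr_gf (f485764 IH) (Lpn (LP (LK LD1_c1 LD2_c39 LD3_c31))))))
theorem f485768 : Led Lsl_at v739 = (LP (LK LD1_c1 LD2_c39 LD3_c31)) :=
  Lgr Lrot66 (Lpe (f457006 IH) (Lpe (f450932 IH) (Lpr_ff (f485766 IH) (Lpn (LP (LK LD1_c1 LD2_c39 LD3_c31))))))
theorem f485778 : Led Lsl_et (LP (LK LD1_c1 LD2_c39 LD3_c31)) = (LP (LK LD1_c3 LD2_c25 LD3_c53)) :=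
  Lre_e IH (LK LD1_c1 LD2_c39 LD3_c31) (LK LD1_c3 LD2_c25 LD3_c53) Lrfl Lrfl
theorem f491667 : Led Lsl_at (LP (LK LD1_c3 LD2_c25 LD3_c53)) = v1134 :=
  Lgr Lrot80 (Lpe (f485778 IH) (Lpe (f485768 IH) (Lpqs (f478889 IH) (Lpr_ef (f491666 IH) (Lpn v1134)))))
theorem f485844 : Led Lsl_dt (LP (LK LD1_c3 LD2_c26 LD3_c58)) = (LP (LK LD1_c3 LD2_c25 LD3_c53)) :=
  Lre_d IH (LK LD1_c3 LD2_c26 LD3_c58) (LK LD1_c3 LD2_c25 LD3_c53) Lrfl Lrfl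
theorem f491670 : Led Lsl_at (LP (LK LD1_c1 LD2_c45 LD3_c56)) = (LP (LK LD1_c3 LD2_c26 LD3_c58)) :=
  Lgr Lrot51 (Lpr_df (f491669 IH) (Lpe (f491667 IH) (Lpe (f485844 IH) (Lpn (LP (LK LD1_c3 LD2_c26 LD3_c58))))))
theorem f491671 : Led Lsl_at (LP (LK LD1_c1 LD2_c45 LD3_c56)) = (LP (LK LD1_c3 LD2_c26 LD3_c58)) :=
  Leop (Lpe (f491670 IH) (Lpn (LP (LK LD1_c1 LD2_c45 LD3_c56))))
theorem seed_94 : LEOK LG_a (LK LD1_c1 LD2_c45 LD3_c56) :=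
  Leoe_a (LK LD1_c1 LD2_c45 LD3_c56) (f491671 IH)
def v278 : LQ := Led Lsl_bt K24.v88
def v1136 : LQ := Led Lsl_gt v278
theorem f491707 : Led Lsl_gt v278 = v1136 :=
  Lrfl
def v759 : LQ := Led Lsl_ft (LP (LK LD1_c0 LD2_c50 LD3_c13))
theorem f457105 : Led Lsl_ft (LP (LK LD1_c0 LD2_c50 LD3_c13)) = v759 :=
  Lrfl
theorem f457107 : Led Lsl_ff (LP (LK LD1_c0 LD2_c50 LD3_c13)) = v759 :=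
  Lgr Lrot3 (Lpr_ft (f457105 IH) (Lpn v759))
theorem f5820 : Led Lsl_bt (LP (LK LD1_c0 LD2_c50 LD3_c13)) = (LP (LK LD1_c0 LD2_c22 LD3_c40)) :=
  Lre_b IH (LK LD1_c0 LD2_c50 LD3_c13) (LK LD1_c0 LD2_c22 LD3_c40) Lrfl Lrfl
theorem f457108 : Led Lsl_bt K24.v189 = v759 :=
  Lgr Lrot35 (Lpe (K24.f450987 IH) (Lpe (f5820 IH) (Lpr_ff (f457107 IH) (Lpn v759))))
theorem f451500 : Led Lsl_bt K24.v88 = v278 :=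
  Lrfl
theorem f457212 : v759 = v278 :=
  Lefun (Lecon (f457108 IH) ((K24.f457207 IH).trans (K24.f456259 IH).symm)) (f451500 IH)
theorem f491708 : Led Lsl_gf K28.v757 = v1136 :=
  Lgr Lrot76 (Lpe (K28.f457099 IH) (Lpr_ff (f457107 IH) (Lpqs (f457212 IH) (Lpr_gt (f491707 IH) (Lpn v1136)))))
theorem f441957 : Led Lsl_gt (LP (LK LD1_c1 LD2_c39 LD3_c46)) = (LP (LK LD1_c0 LD2_c46 LD3_c25)) :=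
  Lre_g IH (LK LD1_c1 LD2_c39 LD3_c46) (LK LD1_c0 LD2_c46 LD3_c25) Lrfl Lrfl
theorem f90890 : Led Lsl_et (LP (LK LD1_c0 LD2_c46 LD3_c25)) = (LP (LK LD1_c0 LD2_c20 LD3_c50)) :=
  Lre_e IH (LK LD1_c0 LD2_c46 LD3_c25) (LK LD1_c0 LD2_c20 LD3_c50) Lrfl Lrfl
theorem f65852 : Led Lsl_et (LP (LK LD1_c0 LD2_c45 LD3_c46)) = (LP (LK LD1_c1 LD2_c38 LD3_c43)) :=
  Lre_e IH (LK LD1_c0 LD2_c45 LD3_c46) (LK LD1_c1 LD2_c38 LD3_c43) Lrfl Lrfl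
theorem f98655 : Led Lsl_af (LP (LK LD1_c0 LD2_c46 LD3_c25)) = (LP (LK LD1_c1 LD2_c38 LD3_c43)) :=
  Lgr Lrot50 (Lpr_et (f90890 IH) (Lpr_at (K3.f98649 IH) (Lpr_et (f65852 IH) (Lpn (LP (LK LD1_c1 LD2_c38 LD3_c43))))))
theorem f491709 : Led Lsl_ff (LP (LK LD1_c1 LD2_c38 LD3_c43)) = v1136 :=
  Lgr Lrot52 (Lpe (f98655 IH) (Lpe (f441957 IH) (Lpqs (K28.f472849 IH) (Lpr_gf (f491708 IH) (Lpn v1136)))))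
theorem f18176 : Led Lsl_et (LP (LK LD1_c1 LD2_c38 LD3_c43)) = (LP (LK LD1_c0 LD2_c45 LD3_c46)) :=
  Lre_e IH (LK LD1_c1 LD2_c38 LD3_c43) (LK LD1_c0 LD2_c45 LD3_c46) Lrfl Lrfl
theorem f491711 : Led Lsl_et (LP (LK LD1_c1 LD2_c39 LD3_c32)) = v1136 :=
  Lgr Lrot69 (Lpe (K4.f94299 IH) (Lpe (K4.f94240 IH) (Lpr_ff (K3.f98688 IH) (Lpe (f18176 IH) (Lpr_ff (f491709 IH) (Lpn v1136))))))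
theorem f491649 : Led Lsl_df v274 = v1133 :=
  Lgr Lrot38 (Lpr_dt (f491646 IH) (Lpn v1133))
theorem f98750 : Led Lsl_et (LP (LK LD1_c0 LD2_c46 LD3_c40)) = (LP (LK LD1_c1 LD2_c40 LD3_c29)) :=
  Lre_e IH (LK LD1_c0 LD2_c46 LD3_c40) (LK LD1_c1 LD2_c40 LD3_c29) Lrfl Lrfl
theorem f491715 : Led Lsl_gf v1133 = (LP (LK LD1_c1 LD2_c40 LD3_c29)) :=
  Lgr Lrot138 (Lpe (f491649 IH) (Lpe (f478475 IH) (Lpr_df (K4.f94300 IH) (Lpr_et (f491711 IH) (Lpe (f491708 IH) (Lpq (K28.f472849 IH) (Lpe (K28.f455083 IH) (Lpr_dt (f455084 IH) (Lpr_gt (f458004 IH) (Lpe (K28.f16713 IH) (Lpr_et (f98750 IH) (Lpn (LP (LK LD1_c1 LD2_c40 LD3_c29))))))))))))))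
theorem f91161 : Led Lsl_dt (LP (LK LD1_c6 LD2_c51 LD3_c50)) = (LP (LK LD1_c3 LD2_c24 LD3_c40)) :=
  Lre_d IH (LK LD1_c6 LD2_c51 LD3_c50) (LK LD1_c3 LD2_c24 LD3_c40) Lrfl Lrfl
theorem f102687 : Led Lsl_ct (LP (LK LD1_c13 LD2_c3 LD3_c14)) = (LP (LK LD1_c6 LD2_c51 LD3_c50)) :=
  Lre_c IH (LK LD1_c13 LD2_c3 LD3_c14) (LK LD1_c6 LD2_c51 LD3_c50) Lrfl Lrfl
theorem f91163 : Led Lsl_ct (LP (LK LD1_c6 LD2_c51 LD3_c50)) = (LP (LK LD1_c13 LD2_c3 LD3_c14)) :=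
  Lre_c IH (LK LD1_c6 LD2_c51 LD3_c50) (LK LD1_c13 LD2_c3 LD3_c14) Lrfl Lrfl
theorem f94296 : Led Lsl_ct (LP (LK LD1_c3 LD2_c25 LD3_c49)) = (LP (LK LD1_c6 LD2_c53 LD3_c35)) :=
  Lre_c IH (LK LD1_c3 LD2_c25 LD3_c49) (LK LD1_c6 LD2_c53 LD3_c35) Lrfl Lrfl
theorem f102688 : Led Lsl_at (LP (LK LD1_c6 LD2_c53 LD3_c35)) = (LP (LK LD1_c13 LD2_c3 LD3_c14)) :=
  Lgr Lrot107 (Lpe (f94296 IH) (Lpr_af (K4.f102677 IH) (Lpe (f102687 IH) (Lpn (LP (LK LD1_c13 LD2_c3 LD3_c14))))))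
theorem f102706 : Led Lsl_ft (LP (LK LD1_c13 LD2_c6 LD3_c8)) = (LP (LK LD1_c6 LD2_c53 LD3_c35)) :=
  Lre_f IH (LK LD1_c13 LD2_c6 LD3_c8) (LK LD1_c6 LD2_c53 LD3_c35) Lrfl Lrfl
theorem f102707 : Led Lsl_df (LP (LK LD1_c13 LD2_c3 LD3_c14)) = (LP (LK LD1_c13 LD2_c6 LD3_c8)) :=
  Lgr Lrot157 (Lpr_ct (f102687 IH) (Lpr_dt (f91161 IH) (Lpr_ct (K4.f12795 IH) (Lpr_dt (f102702 IH) (Lpr_ct (f12784 IH) (Lpr_dt (K6.f91143 IH) (Lpr_ct (f91163 IH) (Lpe (f102688 IH) (Lpe (f102706 IH) (Lpn (LP (LK LD1_c13 LD2_c6 LD3_c8))))))))))))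
theorem f102717 : Led Lsl_ft (LP (LK LD1_c6 LD2_c53 LD3_c35)) = (LP (LK LD1_c13 LD2_c6 LD3_c8)) :=
  Lre_f IH (LK LD1_c6 LD2_c53 LD3_c35) (LK LD1_c13 LD2_c6 LD3_c8) Lrfl Lrfl
theorem f102718 : Led Lsl_ft (LP (LK LD1_c13 LD2_c3 LD3_c14)) = (LP (LK LD1_c13 LD2_c6 LD3_c7)) :=
  Lgr Lrot54 (Lpr_df (f102707 IH) (Lpe (f102717 IH) (Lpe (f94293 IH) (Lpn (LP (LK LD1_c13 LD2_c6 LD3_c7))))))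
theorem f102730 : Led Lsl_ff (LP (LK LD1_c13 LD2_c3 LD3_c14)) = (LP (LK LD1_c13 LD2_c6 LD3_c7)) :=
  Lgr Lrot3 (Lpr_ft (f102718 IH) (Lpn (LP (LK LD1_c13 LD2_c6 LD3_c7))))
theorem f484037 : Led Lsl_ff (LP (LK LD1_c7 LD2_c18 LD3_c33)) = (LP (LK LD1_c6 LD2_c51 LD3_c50)) :=
  Lgr Lrot23 (Lpr_ct (f484024 IH) (Lpe (f102730 IH) (Lpr_ct (f102687 IH) (Lpn (LP (LK LD1_c6 LD2_c51 LD3_c50))))))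

end

end K29

end

end Cfsg.Agent.Helper28.S1692
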