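import Cfsg.Agent.Lib.Helper28.S1692.Seeds2

set_option autoImplicit false
set_option maxRecDepth 100000
set_option linter.all false

namespace Cfsg.Agent.Helper28.S1692

open Cfsg.Agent.Helper28
open Cfsg.Spor.ON (Gen)

noncomputable section

namespace K3
abbrev LD1_c0 := D1.c0
abbrev LD1_c1 := D1.c1
abbrev LD1_c2 := D1.c2
abbrev LD1_c3 := D1.c3
abbrev LD1_c4 := D1.c4
abbrev LD1_c5 := D1.c5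
abbrev LD1_c6 := D1.c6
abbrev LD1_c7 := D1.c7
abbrev LD1_c8 := D1.c8
abbrev LD1_c9 := D1.c9
abbrev LD1_c10 := D1.c10
abbrev LD1_c11 := D1.c11
abbrev LD1_c12 := D1.c12
abbrev LD1_c13 := D1.c13
abbrev LD1_c14 := D1.c14
abbrev LD1_c15 := D1.c15
abbrev LD1_c16 := D1.c16
abbrev LD1_c17 := D1.c17
abbrev LD1_c18 := D1.c18
abbrev LD1_c19 := D1.c19
abbrev LD1_c20 := D1.c20
abbrev LD1_c21 := D1.c21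
abbrev LD1_c22 := D1.c22
abbrev LD1_c23 := D1.c23
abbrev LD1_c24 := D1.c24
abbrev LD1_c25 := D1.c25
abbrev LD1_c26 := D1.c26
abbrev LD1_c27 := D1.c27
abbrev LD1_c28 := D1.c28
abbrev LD1_c29 := D1.c29
abbrev LD1_c30 := D1.c30
abbrev LD1_c31 := D1.c31
abbrev LD1_c32 := D1.c32
abbrev LD2_c0 := D2.c0
abbrev LD2_c1 := D2.c1
abbrev LD2_c2 := D2.c2
abbrev LD2_c3 := D2.c3
abbrev LD2_c4 := D2.c4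
abbrev LD2_c5 := D2.c5
abbrev LD2_c6 := D2.c6
abbrev LD2_c7 := D2.c7
abbrev LD2_c8 := D2.c8
abbrev LD2_c9 := D2.c9
abbrev LD2_c10 := D2.c10
abbrev LD2_c11 := D2.c11
abbrev LD2_c12 := D2.c12
abbrev LD2_c13 := D2.c13
abbrev LD2_c14 := D2.c14
abbrev LD2_c15 := D2.c15
abbrev LD2_c16 := D2.c16
abbrev LD2_c17 := D2.c17
abbrev LD2_c18 := D2.c18
abbrev LD2_c19 := D2.c19
abbrev LD2_c20 := D2.c20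
abbrev LD2_c21 := D2.c21
abbrev LD2_c22 := D2.c22
abbrev LD2_c23 := D2.c23
abbrev LD2_c24 := D2.c24
abbrev LD2_c25 := D2.c25
abbrev LD2_c26 := D2.c26
abbrev LD2_c27 := D2.c27
abbrev LD2_c28 := D2.c28
abbrev LD2_c29 := D2.c29
abbrev LD2_c30 := D2.c30
abbrev LD2_c31 := D2.c31
abbrev LD2_c32 := D2.c32
abbrev LD2_c33 := D2.c33
abbrev LD2_c34 := D2.c34
abbrev LD2_c35 := D2.c35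
abbrev LD2_c36 := D2.c36
abbrev LD2_c37 := D2.c37
abbrev LD2_c38 := D2.c38
abbrev LD2_c39 := D2.c39
abbrev LD2_c40 := D2.c40
abbrev LD2_c41 := D2.c41
abbrev LD2_c42 := D2.c42
abbrev LD2_c43 := D2.c43
abbrev LD2_c44 := D2.c44
abbrev LD2_c45 := D2.c45
abbrev LD2_c46 := D2.c46
abbrev LD2_c47 := D2.c47
abbrev LD2_c48 := D2.c48
abbrev LD2_c49 := D2.c49
abbrev LD2_c50 := D2.c50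
abbrev LD2_c51 := D2.c51
abbrev LD2_c52 := D2.c52
abbrev LD2_c53 := D2.c53
abbrev LD2_c54 := D2.c54
abbrev LD2_c55 := D2.c55
abbrev LD2_c56 := D2.c56
abbrev LD2_c57 := D2.c57
abbrev LD2_c58 := D2.c58
abbrev LD2_c59 := D2.c59
abbrev LD3_c0 := D3.c0
abbrev LD3_c1 := D3.c1
abbrev LD3_c2 := D3.c2
abbrev LD3_c3 := D3.c3
abbrev LD3_c4 := D3.c4
abbrev LD3_c5 := D3.c5
abbrev LD3_c6 := D3.c6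
abbrev LD3_c7 := D3.c7
abbrev LD3_c8 := D3.c8
abbrev LD3_c9 := D3.c9
abbrev LD3_c10 := D3.c10
abbrev LD3_c11 := D3.c11
abbrev LD3_c12 := D3.c12
abbrev LD3_c13 := D3.c13
abbrev LD3_c14 := D3.c14
abbrev LD3_c15 := D3.c15
abbrev LD3_c16 := D3.c16
abbrev LD3_c17 := D3.c17
abbrev LD3_c18 := D3.c18
abbrev LD3_c19 := D3.c19
abbrev LD3_c20 := D3.c20
abbrev LD3_c21 := D3.c21
abbrev LD3_c22 := D3.c22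
abbrev LD3_c23 := D3.c23
abbrev LD3_c24 := D3.c24
abbrev LD3_c25 := D3.c25
abbrev LD3_c26 := D3.c26
abbrev LD3_c27 := D3.c27
abbrev LD3_c28 := D3.c28
abbrev LD3_c29 := D3.c29
abbrev LD3_c30 := D3.c30
abbrev LD3_c31 := D3.c31
abbrev LD3_c32 := D3.c32
abbrev LD3_c33 := D3.c33
abbrev LD3_c34 := D3.c34
abbrev LD3_c35 := D3.c35
abbrev LD3_c36 := D3.c36
abbrev LD3_c37 := D3.c37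
abbrev LD3_c38 := D3.c38
abbrev LD3_c39 := D3.c39
abbrev LD3_c40 := D3.c40
abbrev LD3_c41 := D3.c41
abbrev LD3_c42 := D3.c42
abbrev LD3_c43 := D3.c43
abbrev LD3_c44 := D3.c44
abbrev LD3_c45 := D3.c45
abbrev LD3_c46 := D3.c46
abbrev LD3_c47 := D3.c47
abbrev LD3_c48 := D3.c48
abbrev LD3_c49 := D3.c49
abbrev LD3_c50 := D3.c50
abbrev LD3_c51 := D3.c51
abbrev LD3_c52 := D3.c52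
abbrev LD3_c53 := D3.c53
abbrev LD3_c54 := D3.c54
abbrev LD3_c55 := D3.c55
abbrev LD3_c56 := D3.c56
abbrev LD3_c57 := D3.c57
abbrev LD3_c58 := D3.c58
abbrev LD3_c59 := D3.c59
abbrev LD3_c60 := D3.c60
abbrev LD3_c61 := D3.c61
abbrev LG_g := Gen.g
abbrev Lsl_gt : Gen × Bool := sl_gt
alias Lfl_gt := fl_gt
alias Lpr_gt := pr_gt
abbrev Lsl_gf : Gen × Bool := sl_gf
alias Lfl_gf := fl_gf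
alias Lpr_gf := pr_gf
alias Lre_g := re_g
alias Leoe_g := eoe_g
abbrev LG_a := Gen.a
abbrev Lsl_at : Gen × Bool := sl_at
alias Lfl_at := fl_at
alias Lpr_at := pr_at
abbrev Lsl_af : Gen × Bool := sl_af
alias Lfl_af := fl_af
alias Lpr_af := pr_af
alias Lre_a := re_a
alias Leoe_a := eoe_a
abbrev LG_b := Gen.b
abbrev Lsl_bt : Gen × Bool := sl_bt
alias Lfl_bt := fl_bt
alias Lpr_bt := pr_bt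
abbrev Lsl_bf : Gen × Bool := sl_bf
alias Lfl_bf := fl_bf
alias Lpr_bf := pr_bf
alias Lre_b := re_b
alias Leoe_b := eoe_b
abbrev LG_c := Gen.c
abbrev Lsl_ct : Gen × Bool := sl_ct
alias Lfl_ct := fl_ct
alias Lpr_ct := pr_ct
abbrev Lsl_cf : Gen × Bool := sl_cf
alias Lfl_cf := fl_cf
alias Lpr_cf := pr_cf
alias Lre_c := re_c
alias Leoe_c := eoe_c
abbrev LG_d := Gen.d
abbrev Lsl_dt : Gen × Bool := sl_dt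
alias Lfl_dt := fl_dt
alias Lpr_dt := pr_dt
abbrev Lsl_df : Gen × Bool := sl_df
alias Lfl_df := fl_df
alias Lpr_df := pr_df
alias Lre_d := re_d
alias Leoe_d := eoe_d
abbrev LG_e := Gen.e
abbrev Lsl_et : Gen × Bool := sl_et
alias Lfl_et := fl_et
alias Lpr_et := pr_et
abbrev Lsl_ef : Gen × Bool := sl_ef
alias Lfl_ef := fl_ef
alias Lpr_ef := pr_ef
alias Lre_e := re_e
alias Leoe_e := eoe_e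
abbrev LG_f := Gen.f
abbrev Lsl_ft : Gen × Bool := sl_ft
alias Lfl_ft := fl_ft
alias Lpr_ft := pr_ft
abbrev Lsl_ff : Gen × Bool := sl_ff
alias Lfl_ff := fl_ff
alias Lpr_ff := pr_ff
alias Lre_f := re_f
alias Leoe_f := eoe_f
abbrev LK := Pt.mk
abbrev LQ : Type := Qt rels S
abbrev LP (p : Pt) : LQ := P p
abbrev Led (l : Gen × Bool) (c : LQ) : LQ := ed l c
abbrev LEOK (x : Gen) (p : Pt) : Prop := EntryOK rels S fwd inv o plet idx x p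
alias Lpe := pe
alias Lpn := pn
alias Lgr := gr
alias Lpq := pq
alias Lpqs := pqs
alias Llr := lr
alias Leop := eop
alias Lefun := efun
alias Lecon := econ
theorem Lrfl {α : Sort _} {a : α} : a = a := rfl
alias Lrot0 := rot0
alias Lrot1 := rot1
alias Lrot2 := rot2
alias Lrot3 := rot3
alias Lrot4 := rot4
alias Lrot5 := rot5
alias Lrot6 := rot6
alias Lrot7 := rot7
alias Lrot8 := rot8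
alias Lrot9 := rot9
alias Lrot10 := rot10
alias Lrot11 := rot11
alias Lrot12 := rot12
alias Lrot13 := rot13
alias Lrot14 := rot14
alias Lrot15 := rot15
alias Lrot17 := rot17
alias Lrot18 := rot18
alias Lrot19 := rot19
alias Lrot20 := rot20
alias Lrot21 := rot21
alias Lrot22 := rot22
alias Lrot23 := rot23
alias Lrot24 := rot24
alias Lrot25 := rot25
alias Lrot26 := rot26
alias Lrot27 := rot27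
alias Lrot28 := rot28
alias Lrot29 := rot29
alias Lrot30 := rot30
alias Lrot31 := rot31
alias Lrot32 := rot32
alias Lrot33 := rot33
alias Lrot34 := rot34
alias Lrot35 := rot35
alias Lrot36 := rot36
alias Lrot37 := rot37
alias Lrot38 := rot38
alias Lrot39 := rot39
alias Lrot40 := rot40
alias Lrot41 := rot41
alias Lrot42 := rot42
alias Lrot43 := rot43
alias Lrot44 := rot44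
alias Lrot45 := rot45
alias Lrot46 := rot46
alias Lrot47 := rot47
alias Lrot48 := rot48
alias Lrot49 := rot49
alias Lrot50 := rot50
alias Lrot51 := rot51
alias Lrot52 := rot52
alias Lrot53 := rot53
alias Lrot54 := rot54
alias Lrot55 := rot55
alias Lrot56 := rot56
alias Lrot57 := rot57
alias Lrot58 := rot58
alias Lrot59 := rot59
alias Lrot60 := rot60
alias Lrot61 := rot61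
alias Lrot62 := rot62
alias Lrot63 := rot63
alias Lrot64 := rot64
alias Lrot65 := rot65
alias Lrot66 := rot66
alias Lrot67 := rot67
alias Lrot68 := rot68
alias Lrot69 := rot69
alias Lrot70 := rot70
alias Lrot71 := rot71
alias Lrot72 := rot72
alias Lrot73 := rot73
alias Lrot74 := rot74
alias Lrot75 := rot75
alias Lrot76 := rot76
alias Lrot77 := rot77
alias Lrot78 := rot78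
alias Lrot79 := rot79
alias Lrot80 := rot80
alias Lrot81 := rot81
alias Lrot82 := rot82
alias Lrot83 := rot83
alias Lrot84 := rot84
alias Lrot85 := rot85
alias Lrot86 := rot86
alias Lrot87 := rot87
alias Lrot88 := rot88
alias Lrot90 := rot90
alias Lrot91 := rot91
alias Lrot92 := rot92
alias Lrot93 := rot93
alias Lrot94 := rot94
alias Lrot95 := rot95
alias Lrot96 := rot96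
alias Lrot97 := rot97
alias Lrot98 := rot98
alias Lrot99 := rot99
alias Lrot100 := rot100
alias Lrot101 := rot101
alias Lrot102 := rot102
alias Lrot103 := rot103
alias Lrot104 := rot104
alias Lrot105 := rot105
alias Lrot107 := rot107
alias Lrot108 := rot108
alias Lrot109 := rot109
alias Lrot110 := rot110
alias Lrot111 := rot111
alias Lrot112 := rot112
alias Lrot114 := rot114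
alias Lrot116 := rot116
alias Lrot117 := rot117
alias Lrot118 := rot118
alias Lrot119 := rot119
alias Lrot121 := rot121
alias Lrot122 := rot122
alias Lrot123 := rot123
alias Lrot124 := rot124
alias Lrot125 := rot125
alias Lrot126 := rot126
alias Lrot127 := rot127
alias Lrot128 := rot128
alias Lrot129 := rot129
alias Lrot130 := rot130
alias Lrot131 := rot131
alias Lrot133 := rot133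
alias Lrot134 := rot134
alias Lrot135 := rot135
alias Lrot137 := rot137
alias Lrot138 := rot138
alias Lrot139 := rot139
alias Lrot141 := rot141
alias Lrot142 := rot142
alias Lrot143 := rot143
alias Lrot144 := rot144
alias Lrot145 := rot145
alias Lrot146 := rot146
alias Lrot147 := rot147
alias Lrot148 := rot148
alias Lrot149 := rot149
alias Lrot150 := rot150
alias Lrot151 := rot151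
alias Lrot152 := rot152
alias Lrot153 := rot153
alias Lrot154 := rot154
alias Lrot155 := rot155
alias Lrot156 := rot156
alias Lrot157 := rot157
alias Lrot158 := rot158
alias Lrot160 := rot160
alias Lrot161 := rot161
alias Lrot162 := rot162
alias Lrot163 := rot163
alias Lrot164 := rot164
alias Lrot165 := rot165
alias Lrot166 := rot166
alias Lrot167 := rot167
alias Lrot168 := rot168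
alias Lrot169 := rot169
alias Lrot170 := rot170
alias Lrot171 := rot171
alias Lrot172 := rot172
alias Lrot173 := rot173
alias Lrot174 := rot174
alias Lrot176 := rot176
alias Lrot180 := rot180
alias Lrot181 := rot181
alias Lrot183 := rot183
alias Lrot184 := rot184
alias Lrot185 := rot185
alias Lrot188 := rot188
alias Lrot189 := rot189
alias Lrot190 := rot190

section
variable (IH : IHT)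
include IH

theorem f94783 : Led Lsl_bf (LP (LK LD1_c1 LD2_c5 LD3_c36)) = (LP (LK LD1_c0 LD2_c46 LD3_c22)) :=
  Lgr Lrot34 (Lpe (K2.f23924 IH) (Lpe (K2.f22843 IH) (Lpr_ct (K0.f22834 IH) (Lpe (K0.f23906 IH) (Lpr_cf (K1.f59511 IH) (Lpe (K1.f20981 IH) (Lpe (K1.f59444 IH) (Lpr_ct (K1.f59462 IH) (Lpr_gf (K2.f94778 IH) (Lpe (K2.f26119 IH) (Lpn (LP (LK LD1_c0 LD2_c46 LD3_c22)))))))))))))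
theorem f58762 : Led Lsl_ft (LP (LK LD1_c0 LD2_c30 LD3_c0)) = (LP (LK LD1_c0 LD2_c41 LD3_c11)) :=
  Lgr Lrot48 (Lpr_ff (K1.f58750 IH) (Lpn (LP (LK LD1_c0 LD2_c41 LD3_c11))))
theorem f58451 : Led Lsl_at (LP (LK LD1_c0 LD2_c41 LD3_c11)) = (LP (LK LD1_c1 LD2_c29 LD3_c1)) :=
  Lre_a IH (LK LD1_c0 LD2_c41 LD3_c11) (LK LD1_c1 LD2_c29 LD3_c1) Lrfl Lrfl
theorem f58768 : Led Lsl_gt (LP (LK LD1_c1 LD2_c5 LD3_c36)) = (LP (LK LD1_c1 LD2_c29 LD3_c1)) :=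
  Lgr Lrot46 (Lpe (K2.f23924 IH) (Lpr_ft (f58762 IH) (Lpr_at (f58451 IH) (Lpn (LP (LK LD1_c1 LD2_c29 LD3_c1))))))
theorem f58380 : Led Lsl_et (LP (LK LD1_c3 LD2_c1 LD3_c23)) = (LP (LK LD1_c1 LD2_c26 LD3_c39)) :=
  Lre_e IH (LK LD1_c3 LD2_c1 LD3_c23) (LK LD1_c1 LD2_c26 LD3_c39) Lrfl Lrfl
theorem f58338 : Led Lsl_et (LP (LK LD1_c1 LD2_c29 LD3_c1)) = (LP (LK LD1_c3 LD2_c5 LD3_c54)) :=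
  Lre_e IH (LK LD1_c1 LD2_c29 LD3_c1) (LK LD1_c3 LD2_c5 LD3_c54) Lrfl Lrfl
theorem f58381 : Led Lsl_bt (LP (LK LD1_c1 LD2_c26 LD3_c39)) = (LP (LK LD1_c1 LD2_c29 LD3_c1)) :=
  Lgr Lrot119 (Lpe (f58380 IH) (Lpr_bf (K1.f58355 IH) (Lpe (f58338 IH) (Lpn (LP (LK LD1_c1 LD2_c29 LD3_c1))))))
theorem f58399 : Led Lsl_gt (LP (LK LD1_c3 LD2_c1 LD3_c22)) = (LP (LK LD1_c1 LD2_c27 LD3_c2)) :=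
  Lre_g IH (LK LD1_c3 LD2_c1 LD3_c22) (LK LD1_c1 LD2_c27 LD3_c2) Lrfl Lrfl
theorem f95715 : Led Lsl_cf (LP (LK LD1_c1 LD2_c27 LD3_c2)) = (LP (LK LD1_c0 LD2_c51 LD3_c31)) :=
  Lgr Lrot58 (Lpe (f58399 IH) (Lpe (K1.f58398 IH) (Lpr_bt (f58381 IH) (Lpe (f58768 IH) (Lpr_bf (f94783 IH) (Lpr_ct (K2.f26119 IH) (Lpe (K2.f94775 IH) (Lpe (K1.f66832 IH) (Lpe (K2.f94682 IH) (Lpr_bf (K2.f95711 IH) (Lpn (LP (LK LD1_c0 LD2_c51 LD3_c31)))))))))))))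
theorem f59459 : Led Lsl_gt (LP (LK LD1_c1 LD2_c27 LD3_c2)) = (LP (LK LD1_c0 LD2_c40 LD3_c19)) :=
  Lre_g IH (LK LD1_c1 LD2_c27 LD3_c2) (LK LD1_c0 LD2_c40 LD3_c19) Lrfl Lrfl
theorem f62008 : Led Lsl_ct (LP (LK LD1_c0 LD2_c40 LD3_c19)) = (LP (LK LD1_c0 LD2_c18 LD3_c2)) :=
  Lre_c IH (LK LD1_c0 LD2_c40 LD3_c19) (LK LD1_c0 LD2_c18 LD3_c2) Lrfl Lrfl
theorem f12750 : Led Lsl_dt (LP (LK LD1_c0 LD2_c18 LD3_c2)) = (LP (LK LD1_c0 LD2_c8 LD3_c5)) :=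
  Lre_d IH (LK LD1_c0 LD2_c18 LD3_c2) (LK LD1_c0 LD2_c8 LD3_c5) Lrfl Lrfl
theorem f17792 : Led Lsl_dt (LP (LK LD1_c0 LD2_c46 LD3_c61)) = (LP (LK LD1_c1 LD2_c40 LD3_c59)) :=
  Lre_d IH (LK LD1_c0 LD2_c46 LD3_c61) (LK LD1_c1 LD2_c40 LD3_c59) Lrfl Lrfl
theorem f95730 : Led Lsl_gt (LP (LK LD1_c1 LD2_c40 LD3_c59)) = (LP (LK LD1_c0 LD2_c51 LD3_c31)) :=
  Lgr Lrot9 (Lpe (f17792 IH) (Lpr_gt (K2.f10767 IH) (Lpr_ct (K1.f19356 IH) (Lpr_gt (K1.f10017 IH) (Lpr_ct (K1.f12117 IH) (Lpe (f12750 IH) (Lpe (f62008 IH) (Lpe (f59459 IH) (Lpr_cf (f95715 IH) (Lpn (LP (LK LD1_c0 LD2_c51 LD3_c31))))))))))))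
theorem f17766 : Led Lsl_et (LP (LK LD1_c0 LD2_c46 LD3_c61)) = (LP (LK LD1_c1 LD2_c40 LD3_c60)) :=
  Lre_e IH (LK LD1_c0 LD2_c46 LD3_c61) (LK LD1_c1 LD2_c40 LD3_c60) Lrfl Lrfl
theorem f4020 : Led Lsl_et (LP (LK LD1_c0 LD2_c4 LD3_c45)) = (LP (LK LD1_c0 LD2_c4 LD3_c45)) :=
  Lgr Lrot74 (Lpe (K0.f336 IH) (Lpr_ef (K0.f3971 IH) (Lpe (K0.f364 IH) (Lpn (LP (LK LD1_c0 LD2_c4 LD3_c45))))))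
theorem f337 : Led Lsl_gt (LP (LK LD1_c0 LD2_c4 LD3_c45)) = (LP (LK LD1_c0 LD2_c10 LD3_c2)) :=
  Lre_g IH (LK LD1_c0 LD2_c4 LD3_c45) (LK LD1_c0 LD2_c10 LD3_c2) Lrfl Lrfl
theorem f4453 : Led Lsl_et (LP (LK LD1_c0 LD2_c22 LD3_c21)) = (LP (LK LD1_c0 LD2_c10 LD3_c2)) :=
  Lre_e IH (LK LD1_c0 LD2_c22 LD3_c21) (LK LD1_c0 LD2_c10 LD3_c2) Lrfl Lrfl
theorem f4454 : Led Lsl_dt (LP (LK LD1_c0 LD2_c22 LD3_c21)) = (LP (LK LD1_c0 LD2_c49 LD3_c46)) :=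
  Lre_d IH (LK LD1_c0 LD2_c22 LD3_c21) (LK LD1_c0 LD2_c49 LD3_c46) Lrfl Lrfl
theorem f17965 : Led Lsl_gf (LP (LK LD1_c0 LD2_c48 LD3_c15)) = (LP (LK LD1_c0 LD2_c49 LD3_c46)) :=
  Lgr Lrot145 (Lpe (K0.f10308 IH) (Lpr_et (K0.f10307 IH) (Lpr_gt (K0.f10755 IH) (Lpr_dt (K0.f10757 IH) (Lpr_gt (K0.f17956 IH) (Lpe (K0.f374 IH) (Lpr_et (f4020 IH) (Lpr_gt (f337 IH) (Lpe (f4453 IH) (Lpr_dt (f4454 IH) (Lpn (LP (LK LD1_c0 LD2_c49 LD3_c46)))))))))))))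
theorem f17968 : Led Lsl_ft (LP (LK LD1_c0 LD2_c48 LD3_c38)) = (LP (LK LD1_c0 LD2_c21 LD3_c44)) :=
  Lre_f IH (LK LD1_c0 LD2_c48 LD3_c38) (LK LD1_c0 LD2_c21 LD3_c44) Lrfl Lrfl
theorem f17969 : Led Lsl_gt (LP (LK LD1_c0 LD2_c48 LD3_c38)) = (LP (LK LD1_c0 LD2_c49 LD3_c46)) :=
  Lgr Lrot5 (Lpr_ft (f17968 IH) (Lpr_at (K2.f10384 IH) (Lpr_gf (f17965 IH) (Lpn (LP (LK LD1_c0 LD2_c49 LD3_c46))))))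
theorem f4959 : Led Lsl_dt (LP (LK LD1_c0 LD2_c4 LD3_c47)) = (LP (LK LD1_c0 LD2_c10 LD3_c10)) :=
  Lre_d IH (LK LD1_c0 LD2_c4 LD3_c47) (LK LD1_c0 LD2_c10 LD3_c10) Lrfl Lrfl
theorem f4960 : Led Lsl_ft (LP (LK LD1_c0 LD2_c4 LD3_c45)) = (LP (LK LD1_c0 LD2_c4 LD3_c47)) :=
  Lgr Lrot54 (Lpe (K0.f378 IH) (Lpr_ff (K0.f4951 IH) (Lpe (f4959 IH) (Lpn (LP (LK LD1_c0 LD2_c4 LD3_c47))))))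
theorem f5806 : Led Lsl_gt (LP (LK LD1_c0 LD2_c10 LD3_c2)) = (LP (LK LD1_c0 LD2_c10 LD3_c9)) :=
  Lgr Lrot46 (Lpe (f337 IH) (Lpr_ft (f4960 IH) (Lpr_at (K0.f4906 IH) (Lpn (LP (LK LD1_c0 LD2_c10 LD3_c9))))))
theorem f17967 : Led Lsl_et (LP (LK LD1_c0 LD2_c9 LD3_c57)) = (LP (LK LD1_c0 LD2_c22 LD3_c3)) :=
  Lre_e IH (LK LD1_c0 LD2_c9 LD3_c57) (LK LD1_c0 LD2_c22 LD3_c3) Lrfl Lrfl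
theorem f18002 : Led Lsl_gf (LP (LK LD1_c0 LD2_c22 LD3_c12)) = (LP (LK LD1_c0 LD2_c22 LD3_c3)) :=
  Lgr Lrot141 (Lpe (K0.f10292 IH) (Lpr_dt (K0.f10318 IH) (Lpr_gt (f17969 IH) (Lpe (f4454 IH) (Lpr_et (f4453 IH) (Lpr_gt (f5806 IH) (Lpr_dt (K0.f4012 IH) (Lpe (K2.f17958 IH) (Lpe (K0.f10757 IH) (Lpr_et (f17967 IH) (Lpn (LP (LK LD1_c0 LD2_c22 LD3_c3)))))))))))))
theorem f18006 : Led Lsl_gt (LP (LK LD1_c0 LD2_c53 LD3_c18)) = (LP (LK LD1_c1 LD2_c40 LD3_c60)) :=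
  Lgr Lrot149 (Lpe (K2.f10993 IH) (Lpe (K2.f7426 IH) (Lpe (K2.f7425 IH) (Lpr_ct (K2.f7419 IH) (Lpe (K0.f10066 IH) (Lpe (K0.f9964 IH) (Lpr_bt (K0.f9981 IH) (Lpr_gf (f18002 IH) (Lpe (K0.f17724 IH) (Lpr_ct (K0.f17762 IH) (Lpn (LP (LK LD1_c1 LD2_c40 LD3_c60)))))))))))))
theorem f87663 : Led Lsl_dt (LP (LK LD1_c0 LD2_c47 LD3_c4)) = (LP (LK LD1_c1 LD2_c41 LD3_c3)) :=
  Lre_d IH (LK LD1_c0 LD2_c47 LD3_c4) (LK LD1_c1 LD2_c41 LD3_c3) Lrfl Lrfl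
theorem f9806 : Led Lsl_bt (LP (LK LD1_c1 LD2_c37 LD3_c61)) = (LP (LK LD1_c0 LD2_c45 LD3_c27)) :=
  Lre_b IH (LK LD1_c1 LD2_c37 LD3_c61) (LK LD1_c0 LD2_c45 LD3_c27) Lrfl Lrfl
theorem f90101 : Led Lsl_bt (LP (LK LD1_c0 LD2_c41 LD3_c22)) = (LP (LK LD1_c0 LD2_c46 LD3_c54)) :=
  Lgr Lrot128 (Lpr_cf (K2.f90094 IH) (Lpr_bf (K2.f19366 IH) (Lpe (K2.f87577 IH) (Lpe (K2.f19363 IH) (Lpe (K2.f87565 IH) (Lpn (LP (LK LD1_c0 LD2_c46 LD3_c54))))))))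
theorem f90565 : Led Lsl_df (LP (LK LD1_c1 LD2_c37 LD3_c61)) = (LP (LK LD1_c0 LD2_c46 LD3_c54)) :=
  Lgr Lrot12 (Lpr_bt (f9806 IH) (Lpr_dt (K2.f90561 IH) (Lpr_bt (f90101 IH) (Lpn (LP (LK LD1_c0 LD2_c46 LD3_c54))))))
theorem f18741 : Led Lsl_bt (LP (LK LD1_c1 LD2_c41 LD3_c17)) = (LP (LK LD1_c3 LD2_c29 LD3_c4)) :=
  Lre_b IH (LK LD1_c1 LD2_c41 LD3_c17) (LK LD1_c3 LD2_c29 LD3_c4) Lrfl Lrfl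
theorem f18742 : Led Lsl_ct (LP (LK LD1_c0 LD2_c47 LD3_c15)) = (LP (LK LD1_c1 LD2_c41 LD3_c17)) :=
  Lre_c IH (LK LD1_c0 LD2_c47 LD3_c15) (LK LD1_c1 LD2_c41 LD3_c17) Lrfl Lrfl
theorem f18743 : Led Lsl_bt (LP (LK LD1_c3 LD2_c29 LD3_c4)) = (LP (LK LD1_c1 LD2_c41 LD3_c17)) :=
  Lre_b IH (LK LD1_c3 LD2_c29 LD3_c4) (LK LD1_c1 LD2_c41 LD3_c17) Lrfl Lrfl
theorem f18744 : Led Lsl_ct (LP (LK LD1_c1 LD2_c41 LD3_c17)) = (LP (LK LD1_c0 LD2_c47 LD3_c15)) :=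
  Lre_c IH (LK LD1_c1 LD2_c41 LD3_c17) (LK LD1_c0 LD2_c47 LD3_c15) Lrfl Lrfl
theorem f18745 : Led Lsl_bf (LP (LK LD1_c0 LD2_c47 LD3_c15)) = (LP (LK LD1_c0 LD2_c47 LD3_c15)) :=
  Lgr Lrot90 (Lpr_ct (f18742 IH) (Lpr_bt (f18741 IH) (Lpr_ct (K2.f18711 IH) (Lpr_bt (f18743 IH) (Lpr_ct (f18744 IH) (Lpn (LP (LK LD1_c0 LD2_c47 LD3_c15))))))))
theorem f18783 : Led Lsl_ft (LP (LK LD1_c0 LD2_c47 LD3_c15)) = (LP (LK LD1_c1 LD2_c41 LD3_c20)) :=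
  Lre_f IH (LK LD1_c0 LD2_c47 LD3_c15) (LK LD1_c1 LD2_c41 LD3_c20) Lrfl Lrfl
theorem f18784 : Led Lsl_ft (LP (LK LD1_c1 LD2_c41 LD3_c20)) = (LP (LK LD1_c0 LD2_c47 LD3_c15)) :=
  Lre_f IH (LK LD1_c1 LD2_c41 LD3_c20) (LK LD1_c0 LD2_c47 LD3_c15) Lrfl Lrfl
theorem f18785 : Led Lsl_bt (LP (LK LD1_c1 LD2_c41 LD3_c20)) = (LP (LK LD1_c1 LD2_c41 LD3_c20)) :=
  Lgr Lrot35 (Lpe (f18783 IH) (Lpr_bf (f18745 IH) (Lpe (f18784 IH) (Lpn (LP (LK LD1_c1 LD2_c41 LD3_c20))))))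
theorem f18807 : Led Lsl_et (LP (LK LD1_c3 LD2_c28 LD3_c19)) = (LP (LK LD1_c1 LD2_c41 LD3_c20)) :=
  Lre_e IH (LK LD1_c3 LD2_c28 LD3_c19) (LK LD1_c1 LD2_c41 LD3_c20) Lrfl Lrfl
theorem f18808 : Led Lsl_et (LP (LK LD1_c1 LD2_c41 LD3_c20)) = (LP (LK LD1_c3 LD2_c28 LD3_c19)) :=
  Lre_e IH (LK LD1_c1 LD2_c41 LD3_c20) (LK LD1_c3 LD2_c28 LD3_c19) Lrfl Lrfl
theorem f18809 : Led Lsl_bf (LP (LK LD1_c3 LD2_c28 LD3_c19)) = (LP (LK LD1_c3 LD2_c28 LD3_c19)) :=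
  Lgr Lrot96 (Lpr_et (f18807 IH) (Lpr_bt (f18785 IH) (Lpr_et (f18808 IH) (Lpn (LP (LK LD1_c3 LD2_c28 LD3_c19))))))
theorem f18839 : Led Lsl_ft (LP (LK LD1_c3 LD2_c28 LD3_c19)) = (LP (LK LD1_c1 LD2_c40 LD3_c46)) :=
  Lre_f IH (LK LD1_c3 LD2_c28 LD3_c19) (LK LD1_c1 LD2_c40 LD3_c46) Lrfl Lrfl
theorem f18840 : Led Lsl_ft (LP (LK LD1_c1 LD2_c40 LD3_c46)) = (LP (LK LD1_c3 LD2_c28 LD3_c19)) :=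
  Lre_f IH (LK LD1_c1 LD2_c40 LD3_c46) (LK LD1_c3 LD2_c28 LD3_c19) Lrfl Lrfl
theorem f18841 : Led Lsl_bt (LP (LK LD1_c1 LD2_c40 LD3_c46)) = (LP (LK LD1_c1 LD2_c40 LD3_c46)) :=
  Lgr Lrot35 (Lpe (f18839 IH) (Lpr_bf (f18809 IH) (Lpe (f18840 IH) (Lpn (LP (LK LD1_c1 LD2_c40 LD3_c46))))))
theorem f18863 : Led Lsl_et (LP (LK LD1_c1 LD2_c40 LD3_c46)) = (LP (LK LD1_c0 LD2_c46 LD3_c51)) :=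
  Lre_e IH (LK LD1_c1 LD2_c40 LD3_c46) (LK LD1_c0 LD2_c46 LD3_c51) Lrfl Lrfl
theorem f18864 : Led Lsl_bf (LP (LK LD1_c0 LD2_c46 LD3_c51)) = (LP (LK LD1_c0 LD2_c46 LD3_c51)) :=
  Lgr Lrot96 (Lpr_et (K1.f18862 IH) (Lpr_bt (f18841 IH) (Lpr_et (f18863 IH) (Lpn (LP (LK LD1_c0 LD2_c46 LD3_c51))))))
theorem f18879 : Led Lsl_bt (LP (LK LD1_c0 LD2_c21 LD3_c0)) = (LP (LK LD1_c0 LD2_c21 LD3_c0)) :=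
  Lgr Lrot95 (Lpe (K1.f18877 IH) (Lpr_bf (f18864 IH) (Lpe (K1.f18878 IH) (Lpn (LP (LK LD1_c0 LD2_c21 LD3_c0))))))
theorem f84694 : Led Lsl_gt (LP (LK LD1_c0 LD2_c21 LD3_c33)) = (LP (LK LD1_c0 LD2_c40 LD3_c10)) :=
  Lgr Lrot82 (Lpe (K2.f84693 IH) (Lpr_ct (K2.f10781 IH) (Lpr_gf (K2.f84689 IH) (Lpe (K2.f84687 IH) (Lpr_bt (K2.f10018 IH) (Lpe (K1.f18901 IH) (Lpe (f18879 IH) (Lpr_ct (K1.f18891 IH) (Lpe (K1.f18905 IH) (Lpe (K2.f12118 IH) (Lpn (LP (LK LD1_c0 LD2_c40 LD3_c10)))))))))))))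
theorem f65774 : Led Lsl_df (LP (LK LD1_c1 LD2_c34 LD3_c38)) = (LP (LK LD1_c0 LD2_c52 LD3_c58)) :=
  Lgr Lrot38 (Lpr_dt (K2.f65708 IH) (Lpn (LP (LK LD1_c0 LD2_c52 LD3_c58))))
theorem f65959 : Led Lsl_dt (LP (LK LD1_c1 LD2_c34 LD3_c21)) = (LP (LK LD1_c0 LD2_c43 LD3_c52)) :=
  Lre_d IH (LK LD1_c1 LD2_c34 LD3_c21) (LK LD1_c0 LD2_c43 LD3_c52) Lrfl Lrfl
theorem f65960 : Led Lsl_gf (LP (LK LD1_c1 LD2_c34 LD3_c21)) = (LP (LK LD1_c0 LD2_c52 LD3_c46)) :=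
  Lgr Lrot144 (Lpr_dt (f65959 IH) (Lpr_gt (K0.f23662 IH) (Lpr_dt (K2.f23663 IH) (Lpe (K2.f65787 IH) (Lpr_df (f65774 IH) (Lpe (K2.f64004 IH) (Lpe (K1.f64257 IH) (Lpe (K1.f14680 IH) (Lpe (K2.f11543 IH) (Lpn (LP (LK LD1_c0 LD2_c52 LD3_c46))))))))))))
theorem f79130 : Led Lsl_dt (LP (LK LD1_c1 LD2_c31 LD3_c46)) = (LP (LK LD1_c0 LD2_c43 LD3_c4)) :=
  Lgr Lrot27 (Lpr_cf (K2.f79120 IH) (Lpe (K2.f79090 IH) (Lpe (K2.f64252 IH) (Lpe (K2.f57109 IH) (Lpe (K1.f62960 IH) (Lpr_gt (K0.f7157 IH) (Lpr_ct (K1.f23461 IH) (Lpr_gt (K2.f23460 IH) (Lpr_ct (K0.f23598 IH) (Lpn (LP (LK LD1_c0 LD2_c43 LD3_c4))))))))))))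
theorem f94119 : Led Lsl_gt (LP (LK LD1_c1 LD2_c37 LD3_c61)) = (LP (LK LD1_c1 LD2_c31 LD3_c46)) :=
  Lgr Lrot49 (Lpr_df (f90565 IH) (Lpr_gf (K2.f87559 IH) (Lpe (K2.f10787 IH) (Lpr_gt (f84694 IH) (Lpr_dt (K2.f84930 IH) (Lpe (f65960 IH) (Lpr_dt (f65959 IH) (Lpe (K2.f23459 IH) (Lpe (f79130 IH) (Lpn (LP (LK LD1_c1 LD2_c31 LD3_c46))))))))))))
theorem f91377 : Led Lsl_et (LP (LK LD1_c1 LD2_c38 LD3_c0)) = (LP (LK LD1_c3 LD2_c23 LD3_c15)) :=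
  Lre_e IH (LK LD1_c1 LD2_c38 LD3_c0) (LK LD1_c3 LD2_c23 LD3_c15) Lrfl Lrfl
theorem f93272 : Led Lsl_et (LP (LK LD1_c6 LD2_c49 LD3_c33)) = (LP (LK LD1_c3 LD2_c23 LD3_c1)) :=
  Lre_e IH (LK LD1_c6 LD2_c49 LD3_c33) (LK LD1_c3 LD2_c23 LD3_c1) Lrfl Lrfl
theorem f93273 : Led Lsl_at (LP (LK LD1_c3 LD2_c23 LD3_c15)) = (LP (LK LD1_c6 LD2_c49 LD3_c33)) :=
  Lgr Lrot80 (Lpe (f91377 IH) (Lpr_af (K2.f93258 IH) (Lpe (f93272 IH) (Lpn (LP (LK LD1_c6 LD2_c49 LD3_c33))))))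
theorem f69286 : Led Lsl_ct (LP (LK LD1_c1 LD2_c38 LD3_c1)) = (LP (LK LD1_c3 LD2_c23 LD3_c15)) :=
  Lre_c IH (LK LD1_c1 LD2_c38 LD3_c1) (LK LD1_c3 LD2_c23 LD3_c15) Lrfl Lrfl
theorem f93282 : Led Lsl_ct (LP (LK LD1_c6 LD2_c49 LD3_c33)) = (LP (LK LD1_c3 LD2_c23 LD3_c2)) :=
  Lre_c IH (LK LD1_c6 LD2_c49 LD3_c33) (LK LD1_c3 LD2_c23 LD3_c2) Lrfl Lrfl
theorem f93283 : Led Lsl_af (LP (LK LD1_c1 LD2_c38 LD3_c1)) = (LP (LK LD1_c3 LD2_c23 LD3_c2)) :=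
  Lgr Lrot68 (Lpr_ct (f69286 IH) (Lpr_at (f93273 IH) (Lpr_ct (f93282 IH) (Lpn (LP (LK LD1_c3 LD2_c23 LD3_c2))))))
theorem f69310 : Led Lsl_bt (LP (LK LD1_c1 LD2_c38 LD3_c1)) = (LP (LK LD1_c3 LD2_c23 LD3_c11)) :=
  Lre_b IH (LK LD1_c1 LD2_c38 LD3_c1) (LK LD1_c3 LD2_c23 LD3_c11) Lrfl Lrfl
theorem f90466 : Led Lsl_bt (LP (LK LD1_c6 LD2_c49 LD3_c31)) = (LP (LK LD1_c3 LD2_c23 LD3_c2)) :=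
  Lre_b IH (LK LD1_c6 LD2_c49 LD3_c31) (LK LD1_c3 LD2_c23 LD3_c2) Lrfl Lrfl
theorem f66630 : Led Lsl_et (LP (LK LD1_c1 LD2_c37 LD3_c58)) = (LP (LK LD1_c3 LD2_c23 LD3_c4)) :=
  Lre_e IH (LK LD1_c1 LD2_c37 LD3_c58) (LK LD1_c3 LD2_c23 LD3_c4) Lrfl Lrfl
theorem f77086 : Led Lsl_et (LP (LK LD1_c1 LD2_c38 LD3_c4)) = (LP (LK LD1_c0 LD2_c45 LD3_c28)) :=
  Lre_e IH (LK LD1_c1 LD2_c38 LD3_c4) (LK LD1_c0 LD2_c45 LD3_c28) Lrfl Lrfl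
theorem f90307 : Led Lsl_at (LP (LK LD1_c3 LD2_c23 LD3_c4)) = (LP (LK LD1_c1 LD2_c38 LD3_c4)) :=
  Lgr Lrot80 (Lpe (f66630 IH) (Lpr_af (K2.f90299 IH) (Lpe (f77086 IH) (Lpn (LP (LK LD1_c1 LD2_c38 LD3_c4))))))
theorem f66623 : Led Lsl_dt (LP (LK LD1_c6 LD2_c49 LD3_c35)) = (LP (LK LD1_c3 LD2_c23 LD3_c4)) :=
  Lre_d IH (LK LD1_c6 LD2_c49 LD3_c35) (LK LD1_c3 LD2_c23 LD3_c4) Lrfl Lrfl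
theorem f77087 : Led Lsl_dt (LP (LK LD1_c1 LD2_c38 LD3_c4)) = (LP (LK LD1_c3 LD2_c23 LD3_c26)) :=
  Lre_d IH (LK LD1_c1 LD2_c38 LD3_c4) (LK LD1_c3 LD2_c23 LD3_c26) Lrfl Lrfl
theorem f90317 : Led Lsl_af (LP (LK LD1_c6 LD2_c49 LD3_c35)) = (LP (LK LD1_c3 LD2_c23 LD3_c26)) :=
  Lgr Lrot117 (Lpr_dt (f66623 IH) (Lpr_at (f90307 IH) (Lpr_dt (f77087 IH) (Lpn (LP (LK LD1_c3 LD2_c23 LD3_c26))))))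
theorem f64599 : Led Lsl_et (LP (LK LD1_c0 LD2_c47 LD3_c11)) = (LP (LK LD1_c1 LD2_c41 LD3_c12)) :=
  Lre_e IH (LK LD1_c0 LD2_c47 LD3_c11) (LK LD1_c1 LD2_c41 LD3_c12) Lrfl Lrfl
theorem f66584 : Led Lsl_et (LP (LK LD1_c3 LD2_c23 LD3_c4)) = (LP (LK LD1_c1 LD2_c37 LD3_c58)) :=
  Lre_e IH (LK LD1_c3 LD2_c23 LD3_c4) (LK LD1_c1 LD2_c37 LD3_c58) Lrfl Lrfl
theorem f66585 : Led Lsl_bt (LP (LK LD1_c1 LD2_c41 LD3_c12)) = (LP (LK LD1_c3 LD2_c23 LD3_c4)) :=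
  Lgr Lrot119 (Lpe (f64599 IH) (Lpr_bf (K1.f66573 IH) (Lpe (f66584 IH) (Lpn (LP (LK LD1_c3 LD2_c23 LD3_c4))))))
theorem f66591 : Led Lsl_dt (LP (LK LD1_c3 LD2_c28 LD3_c56)) = (LP (LK LD1_c1 LD2_c41 LD3_c12)) :=
  Lre_d IH (LK LD1_c3 LD2_c28 LD3_c56) (LK LD1_c1 LD2_c41 LD3_c12) Lrfl Lrfl
theorem f66592 : Led Lsl_dt (LP (LK LD1_c3 LD2_c23 LD3_c4)) = (LP (LK LD1_c6 LD2_c49 LD3_c35)) :=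
  Lre_d IH (LK LD1_c3 LD2_c23 LD3_c4) (LK LD1_c6 LD2_c49 LD3_c35) Lrfl Lrfl
theorem f66593 : Led Lsl_bf (LP (LK LD1_c3 LD2_c28 LD3_c56)) = (LP (LK LD1_c6 LD2_c49 LD3_c35)) :=
  Lgr Lrot93 (Lpr_dt (f66591 IH) (Lpr_bt (f66585 IH) (Lpr_dt (f66592 IH) (Lpn (LP (LK LD1_c6 LD2_c49 LD3_c35))))))
theorem f18012 : Led Lsl_dt (LP (LK LD1_c0 LD2_c53 LD3_c18)) = (LP (LK LD1_c1 LD2_c53 LD3_c25)) :=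
  Lre_d IH (LK LD1_c0 LD2_c53 LD3_c18) (LK LD1_c1 LD2_c53 LD3_c25) Lrfl Lrfl
theorem f18017 : Led Lsl_et (LP (LK LD1_c1 LD2_c53 LD3_c25)) = (LP (LK LD1_c3 LD2_c53 LD3_c37)) :=
  Lre_e IH (LK LD1_c1 LD2_c53 LD3_c25) (LK LD1_c3 LD2_c53 LD3_c37) Lrfl Lrfl
theorem f87616 : Led Lsl_dt (LP (LK LD1_c1 LD2_c41 LD3_c3)) = (LP (LK LD1_c0 LD2_c47 LD3_c4)) :=
  Lre_d IH (LK LD1_c1 LD2_c41 LD3_c3) (LK LD1_c0 LD2_c47 LD3_c4) Lrfl Lrfl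
theorem f88676 : Led Lsl_et (LP (LK LD1_c3 LD2_c28 LD3_c43)) = (LP (LK LD1_c1 LD2_c41 LD3_c3)) :=
  Lre_e IH (LK LD1_c3 LD2_c28 LD3_c43) (LK LD1_c1 LD2_c41 LD3_c3) Lrfl Lrfl
theorem f88677 : Led Lsl_dt (LP (LK LD1_c3 LD2_c53 LD3_c37)) = (LP (LK LD1_c3 LD2_c28 LD3_c43)) :=
  Lgr Lrot77 (Lpe (f18017 IH) (Lpe (f18012 IH) (Lpr_ef (K2.f88666 IH) (Lpe (f87616 IH) (Lpe (f88676 IH) (Lpn (LP (LK LD1_c3 LD2_c28 LD3_c43))))))))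
theorem f66587 : Led Lsl_at (LP (LK LD1_c3 LD2_c28 LD3_c43)) = (LP (LK LD1_c1 LD2_c41 LD3_c12)) :=
  Lre_a IH (LK LD1_c3 LD2_c28 LD3_c43) (LK LD1_c1 LD2_c41 LD3_c12) Lrfl Lrfl
theorem f66457 : Led Lsl_dt (LP (LK LD1_c1 LD2_c41 LD3_c12)) = (LP (LK LD1_c3 LD2_c28 LD3_c56)) :=
  Lre_d IH (LK LD1_c1 LD2_c41 LD3_c12) (LK LD1_c3 LD2_c28 LD3_c56) Lrfl Lrfl
theorem f88681 : Led Lsl_af (LP (LK LD1_c3 LD2_c53 LD3_c37)) = (LP (LK LD1_c3 LD2_c28 LD3_c56)) :=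
  Lgr Lrot117 (Lpr_dt (f88677 IH) (Lpr_at (f66587 IH) (Lpr_dt (f66457 IH) (Lpn (LP (LK LD1_c3 LD2_c28 LD3_c56))))))
theorem f88691 : Led Lsl_bt (LP (LK LD1_c3 LD2_c53 LD3_c37)) = (LP (LK LD1_c7 LD2_c48 LD3_c46)) :=
  Lre_b IH (LK LD1_c3 LD2_c53 LD3_c37) (LK LD1_c7 LD2_c48 LD3_c46) Lrfl Lrfl
theorem f83817 : Led Lsl_bt (LP (LK LD1_c6 LD2_c50 LD3_c0)) = (LP (LK LD1_c3 LD2_c23 LD3_c26)) :=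
  Lre_b IH (LK LD1_c6 LD2_c50 LD3_c0) (LK LD1_c3 LD2_c23 LD3_c26) Lrfl Lrfl
theorem f90322 : Led Lsl_at (LP (LK LD1_c7 LD2_c48 LD3_c46)) = (LP (LK LD1_c6 LD2_c50 LD3_c0)) :=
  Lgr Lrot67 (Lpe (f88691 IH) (Lpr_af (f88681 IH) (Lpr_bf (f66593 IH) (Lpr_af (f90317 IH) (Lpe (f83817 IH) (Lpn (LP (LK LD1_c6 LD2_c50 LD3_c0))))))))
theorem f88771 : Led Lsl_et (LP (LK LD1_c3 LD2_c53 LD3_c35)) = (LP (LK LD1_c7 LD2_c48 LD3_c46)) :=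
  Lre_e IH (LK LD1_c3 LD2_c53 LD3_c35) (LK LD1_c7 LD2_c48 LD3_c46) Lrfl Lrfl
theorem f68357 : Led Lsl_dt (LP (LK LD1_c1 LD2_c29 LD3_c33)) = (LP (LK LD1_c3 LD2_c6 LD3_c51)) :=
  Lre_d IH (LK LD1_c1 LD2_c29 LD3_c33) (LK LD1_c3 LD2_c6 LD3_c51) Lrfl Lrfl
theorem f77092 : Led Lsl_dt (LP (LK LD1_c3 LD2_c23 LD3_c26)) = (LP (LK LD1_c1 LD2_c38 LD3_c4)) :=
  Lre_d IH (LK LD1_c3 LD2_c23 LD3_c26) (LK LD1_c1 LD2_c38 LD3_c4) Lrfl Lrfl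
theorem f83730 : Led Lsl_et (LP (LK LD1_c3 LD2_c6 LD3_c51)) = (LP (LK LD1_c3 LD2_c23 LD3_c26)) :=
  Lgr Lrot71 (Lpe (f68357 IH) (Lpe (K2.f83729 IH) (Lpr_df (K2.f83720 IH) (Lpe (f77086 IH) (Lpe (f77092 IH) (Lpn (LP (LK LD1_c3 LD2_c23 LD3_c26))))))))
theorem f83804 : Led Lsl_bt (LP (LK LD1_c6 LD2_c18 LD3_c60)) = (LP (LK LD1_c3 LD2_c6 LD3_c51)) :=
  Lre_b IH (LK LD1_c6 LD2_c18 LD3_c60) (LK LD1_c3 LD2_c6 LD3_c51) Lrfl Lrfl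
theorem f83805 : Led Lsl_bt (LP (LK LD1_c3 LD2_c23 LD3_c26)) = (LP (LK LD1_c6 LD2_c50 LD3_c0)) :=
  Lre_b IH (LK LD1_c3 LD2_c23 LD3_c26) (LK LD1_c6 LD2_c50 LD3_c0) Lrfl Lrfl
theorem f83806 : Led Lsl_ef (LP (LK LD1_c6 LD2_c18 LD3_c60)) = (LP (LK LD1_c6 LD2_c50 LD3_c0)) :=
  Lgr Lrot29 (Lpr_bt (f83804 IH) (Lpr_et (f83730 IH) (Lpr_bt (f83805 IH) (Lpn (LP (LK LD1_c6 LD2_c50 LD3_c0))))))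
theorem f90348 : Led Lsl_af (LP (LK LD1_c3 LD2_c53 LD3_c35)) = (LP (LK LD1_c6 LD2_c18 LD3_c60)) :=
  Lgr Lrot50 (Lpr_et (f88771 IH) (Lpr_at (f90322 IH) (Lpe (f83806 IH) (Lpn (LP (LK LD1_c6 LD2_c18 LD3_c60))))))
theorem f88763 : Led Lsl_dt (LP (LK LD1_c3 LD2_c53 LD3_c35)) = (LP (LK LD1_c1 LD2_c53 LD3_c24)) :=
  Lre_d IH (LK LD1_c3 LD2_c53 LD3_c35) (LK LD1_c1 LD2_c53 LD3_c24) Lrfl Lrfl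
theorem f83897 : Led Lsl_dt (LP (LK LD1_c3 LD2_c6 LD3_c50)) = (LP (LK LD1_c6 LD2_c18 LD3_c60)) :=
  Lre_d IH (LK LD1_c3 LD2_c6 LD3_c50) (LK LD1_c6 LD2_c18 LD3_c60) Lrfl Lrfl
theorem f90356 : Led Lsl_at (LP (LK LD1_c1 LD2_c53 LD3_c24)) = (LP (LK LD1_c3 LD2_c6 LD3_c50)) :=
  Lgr Lrot51 (Lpe (f88763 IH) (Lpr_af (f90348 IH) (Lpe (f83897 IH) (Lpn (LP (LK LD1_c3 LD2_c6 LD3_c50))))))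
theorem f90358 : Led Lsl_af (LP (LK LD1_c1 LD2_c53 LD3_c24)) = (LP (LK LD1_c3 LD2_c6 LD3_c50)) :=
  Lgr Lrot0 (Lpr_at (f90356 IH) (Lpn (LP (LK LD1_c3 LD2_c6 LD3_c50))))
theorem f83898 : Led Lsl_et (LP (LK LD1_c1 LD2_c29 LD3_c32)) = (LP (LK LD1_c3 LD2_c6 LD3_c50)) :=
  Lre_e IH (LK LD1_c1 LD2_c29 LD3_c32) (LK LD1_c3 LD2_c6 LD3_c50) Lrfl Lrfl
theorem f90360 : Led Lsl_at (LP (LK LD1_c1 LD2_c41 LD3_c1)) = (LP (LK LD1_c1 LD2_c29 LD3_c32)) :=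
  Lgr Lrot80 (Lpe (K2.f88674 IH) (Lpr_af (f90358 IH) (Lpe (f83898 IH) (Lpn (LP (LK LD1_c1 LD2_c29 LD3_c32))))))
theorem f25031 : Led Lsl_ft (LP (LK LD1_c0 LD2_c47 LD3_c1)) = (LP (LK LD1_c1 LD2_c41 LD3_c1)) :=
  Lre_f IH (LK LD1_c0 LD2_c47 LD3_c1) (LK LD1_c1 LD2_c41 LD3_c1) Lrfl Lrfl
theorem f90364 : Led Lsl_af (LP (LK LD1_c0 LD2_c47 LD3_c1)) = (LP (LK LD1_c1 LD2_c40 LD3_c53)) :=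
  Lgr Lrot45 (Lpr_ft (f25031 IH) (Lpr_at (f90360 IH) (Lpe (K2.f90188 IH) (Lpn (LP (LK LD1_c1 LD2_c40 LD3_c53))))))
theorem f90232 : Led Lsl_bt (LP (LK LD1_c1 LD2_c37 LD3_c57)) = (LP (LK LD1_c3 LD2_c23 LD3_c0)) :=
  Lre_b IH (LK LD1_c1 LD2_c37 LD3_c57) (LK LD1_c3 LD2_c23 LD3_c0) Lrfl Lrfl
theorem f90233 : Led Lsl_dt (LP (LK LD1_c3 LD2_c23 LD3_c0)) = (LP (LK LD1_c1 LD2_c40 LD3_c53)) :=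
  Lgr Lrot79 (Lpe (f90232 IH) (Lpr_df (K2.f90230 IH) (Lpe (K2.f17662 IH) (Lpn (LP (LK LD1_c1 LD2_c40 LD3_c53))))))
theorem f90369 : Led Lsl_at (LP (LK LD1_c1 LD2_c40 LD3_c61)) = (LP (LK LD1_c3 LD2_c23 LD3_c0)) :=
  Lgr Lrot51 (Lpe (K2.f25033 IH) (Lpr_af (f90364 IH) (Lpe (f90233 IH) (Lpn (LP (LK LD1_c3 LD2_c23 LD3_c0))))))
theorem f62322 : Led Lsl_et (LP (LK LD1_c3 LD2_c28 LD3_c35)) = (LP (LK LD1_c1 LD2_c40 LD3_c61)) :=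
  Lre_e IH (LK LD1_c3 LD2_c28 LD3_c35) (LK LD1_c1 LD2_c40 LD3_c61) Lrfl Lrfl
theorem f90459 : Led Lsl_et (LP (LK LD1_c3 LD2_c23 LD3_c0)) = (LP (LK LD1_c6 LD2_c49 LD3_c31)) :=
  Lre_e IH (LK LD1_c3 LD2_c23 LD3_c0) (LK LD1_c6 LD2_c49 LD3_c31) Lrfl Lrfl
theorem f90460 : Led Lsl_af (LP (LK LD1_c3 LD2_c28 LD3_c35)) = (LP (LK LD1_c6 LD2_c49 LD3_c31)) :=
  Lgr Lrot50 (Lpr_et (f62322 IH) (Lpr_at (f90369 IH) (Lpr_et (f90459 IH) (Lpn (LP (LK LD1_c6 LD2_c49 LD3_c31))))))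
theorem f90462 : Led Lsl_at (LP (LK LD1_c3 LD2_c28 LD3_c35)) = (LP (LK LD1_c6 LD2_c49 LD3_c31)) :=
  Lgr Lrot100 (Lpr_af (f90460 IH) (Lpn (LP (LK LD1_c6 LD2_c49 LD3_c31))))
theorem f62234 : Led Lsl_bt (LP (LK LD1_c1 LD2_c41 LD3_c2)) = (LP (LK LD1_c3 LD2_c28 LD3_c35)) :=
  Lre_b IH (LK LD1_c1 LD2_c41 LD3_c2) (LK LD1_c3 LD2_c28 LD3_c35) Lrfl Lrfl
theorem f93288 : Led Lsl_at (LP (LK LD1_c3 LD2_c23 LD3_c11)) = (LP (LK LD1_c1 LD2_c41 LD3_c2)) :=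
  Lgr Lrot67 (Lpe (f69310 IH) (Lpr_af (f93283 IH) (Lpe (f90466 IH) (Lpe (f90462 IH) (Lpe (f62234 IH) (Lpn (LP (LK LD1_c1 LD2_c41 LD3_c2))))))))
theorem f69309 : Led Lsl_ft (LP (LK LD1_c6 LD2_c49 LD3_c45)) = (LP (LK LD1_c3 LD2_c23 LD3_c11)) :=
  Lre_f IH (LK LD1_c6 LD2_c49 LD3_c45) (LK LD1_c3 LD2_c23 LD3_c11) Lrfl Lrfl
theorem f62256 : Led Lsl_ft (LP (LK LD1_c1 LD2_c41 LD3_c2)) = (LP (LK LD1_c3 LD2_c28 LD3_c42)) :=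
  Lre_f IH (LK LD1_c1 LD2_c41 LD3_c2) (LK LD1_c3 LD2_c28 LD3_c42) Lrfl Lrfl
theorem f93300 : Led Lsl_af (LP (LK LD1_c6 LD2_c49 LD3_c45)) = (LP (LK LD1_c3 LD2_c28 LD3_c42)) :=
  Lgr Lrot45 (Lpr_ft (f69309 IH) (Lpr_at (f93288 IH) (Lpr_ft (f62256 IH) (Lpn (LP (LK LD1_c3 LD2_c28 LD3_c42))))))
theorem f23011 : Led Lsl_ct (LP (LK LD1_c0 LD2_c13 LD3_c3)) = (LP (LK LD1_c0 LD2_c8 LD3_c57)) :=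
  Lre_c IH (LK LD1_c0 LD2_c13 LD3_c3) (LK LD1_c0 LD2_c8 LD3_c57) Lrfl Lrfl
theorem f21212 : Led Lsl_ct (LP (LK LD1_c0 LD2_c13 LD3_c16)) = (LP (LK LD1_c0 LD2_c6 LD3_c2)) :=
  Lre_c IH (LK LD1_c0 LD2_c13 LD3_c16) (LK LD1_c0 LD2_c6 LD3_c2) Lrfl Lrfl
theorem f27048 : Led Lsl_ct (LP (LK LD1_c0 LD2_c13 LD3_c52)) = (LP (LK LD1_c0 LD2_c29 LD3_c13)) :=
  Lgr Lrot110 (Lpe (K0.f23259 IH) (Lpe (f23011 IH) (Lpe (K0.f20190 IH) (Lpe (K0.f26772 IH) (Lpr_gt (K0.f27020 IH) (Lpr_ct (f21212 IH) (Lpr_gt (K0.f21204 IH) (Lpr_ct (K1.f16644 IH) (Lpe (K2.f21213 IH) (Lpn (LP (LK LD1_c0 LD2_c29 LD3_c13))))))))))))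
theorem f23274 : Led Lsl_bt (LP (LK LD1_c0 LD2_c19 LD3_c47)) = (LP (LK LD1_c0 LD2_c8 LD3_c57)) :=
  Lre_b IH (LK LD1_c0 LD2_c19 LD3_c47) (LK LD1_c0 LD2_c8 LD3_c57) Lrfl Lrfl
theorem f65011 : Led Lsl_ct (LP (LK LD1_c0 LD2_c19 LD3_c47)) = (LP (LK LD1_c0 LD2_c44 LD3_c22)) :=
  Lre_c IH (LK LD1_c0 LD2_c19 LD3_c47) (LK LD1_c0 LD2_c44 LD3_c22) Lrfl Lrfl
theorem f63733 : Led Lsl_gt (LP (LK LD1_c1 LD2_c34 LD3_c50)) = (LP (LK LD1_c0 LD2_c44 LD3_c22)) :=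
  Lre_g IH (LK LD1_c1 LD2_c34 LD3_c50) (LK LD1_c0 LD2_c44 LD3_c22) Lrfl Lrfl
theorem f59567 : Led Lsl_bt (LP (LK LD1_c0 LD2_c9 LD3_c9)) = (LP (LK LD1_c0 LD2_c20 LD3_c17)) :=
  Lre_b IH (LK LD1_c0 LD2_c9 LD3_c9) (LK LD1_c0 LD2_c20 LD3_c17) Lrfl Lrfl
theorem f69267 : Led Lsl_cf (LP (LK LD1_c1 LD2_c34 LD3_c50)) = (LP (LK LD1_c1 LD2_c37 LD3_c61)) :=
  Lgr Lrot160 (Lpr_gt (f63733 IH) (Lpe (f65011 IH) (Lpr_bt (f23274 IH) (Lpr_gt (K0.f23259 IH) (Lpr_ct (f27048 IH) (Lpr_gt (K2.f68533 IH) (Lpe (K1.f13539 IH) (Lpr_bt (f59567 IH) (Lpr_gt (K2.f59568 IH) (Lpe (f9806 IH) (Lpn (LP (LK LD1_c1 LD2_c37 LD3_c61)))))))))))))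
theorem f69280 : Led Lsl_et (LP (LK LD1_c1 LD2_c34 LD3_c50)) = (LP (LK LD1_c3 LD2_c16 LD3_c9)) :=
  Lre_e IH (LK LD1_c1 LD2_c34 LD3_c50) (LK LD1_c3 LD2_c16 LD3_c9) Lrfl Lrfl
theorem f69281 : Led Lsl_et (LP (LK LD1_c3 LD2_c23 LD3_c11)) = (LP (LK LD1_c1 LD2_c37 LD3_c61)) :=
  Lre_e IH (LK LD1_c3 LD2_c23 LD3_c11) (LK LD1_c1 LD2_c37 LD3_c61) Lrfl Lrfl
theorem f69282 : Led Lsl_ct (LP (LK LD1_c3 LD2_c16 LD3_c9)) = (LP (LK LD1_c3 LD2_c23 LD3_c11)) :=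
  Lgr Lrot15 (Lpe (f69280 IH) (Lpr_cf (f69267 IH) (Lpe (f69281 IH) (Lpn (LP (LK LD1_c3 LD2_c23 LD3_c11))))))
theorem f69293 : Led Lsl_ft (LP (LK LD1_c6 LD2_c35 LD3_c36)) = (LP (LK LD1_c3 LD2_c16 LD3_c9)) :=
  Lre_f IH (LK LD1_c6 LD2_c35 LD3_c36) (LK LD1_c3 LD2_c16 LD3_c9) Lrfl Lrfl
theorem f69294 : Led Lsl_ft (LP (LK LD1_c3 LD2_c23 LD3_c11)) = (LP (LK LD1_c6 LD2_c49 LD3_c45)) :=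
  Lre_f IH (LK LD1_c3 LD2_c23 LD3_c11) (LK LD1_c6 LD2_c49 LD3_c45) Lrfl Lrfl
theorem f69295 : Led Lsl_cf (LP (LK LD1_c6 LD2_c35 LD3_c36)) = (LP (LK LD1_c6 LD2_c49 LD3_c45)) :=
  Lgr Lrot108 (Lpr_ft (f69293 IH) (Lpr_ct (f69282 IH) (Lpr_ft (f69294 IH) (Lpn (LP (LK LD1_c6 LD2_c49 LD3_c45))))))
theorem f62185 : Led Lsl_et (LP (LK LD1_c0 LD2_c47 LD3_c2)) = (LP (LK LD1_c1 LD2_c41 LD3_c2)) :=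
  Lre_e IH (LK LD1_c0 LD2_c47 LD3_c2) (LK LD1_c1 LD2_c41 LD3_c2) Lrfl Lrfl
theorem f62186 : Led Lsl_et (LP (LK LD1_c1 LD2_c35 LD3_c20)) = (LP (LK LD1_c0 LD2_c44 LD3_c17)) :=
  Lre_e IH (LK LD1_c1 LD2_c35 LD3_c20) (LK LD1_c0 LD2_c44 LD3_c17) Lrfl Lrfl
theorem f62187 : Led Lsl_ct (LP (LK LD1_c1 LD2_c41 LD3_c2)) = (LP (LK LD1_c1 LD2_c35 LD3_c20)) :=
  Lgr Lrot15 (Lpe (f62185 IH) (Lpr_cf (K1.f62010 IH) (Lpe (f62186 IH) (Lpn (LP (LK LD1_c1 LD2_c35 LD3_c20))))))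
theorem f62218 : Led Lsl_ft (LP (LK LD1_c3 LD2_c28 LD3_c42)) = (LP (LK LD1_c1 LD2_c41 LD3_c2)) :=
  Lre_f IH (LK LD1_c3 LD2_c28 LD3_c42) (LK LD1_c1 LD2_c41 LD3_c2) Lrfl Lrfl
theorem f62219 : Led Lsl_ft (LP (LK LD1_c1 LD2_c35 LD3_c20)) = (LP (LK LD1_c3 LD2_c17 LD3_c35)) :=
  Lre_f IH (LK LD1_c1 LD2_c35 LD3_c20) (LK LD1_c3 LD2_c17 LD3_c35) Lrfl Lrfl
theorem f62220 : Led Lsl_cf (LP (LK LD1_c3 LD2_c28 LD3_c42)) = (LP (LK LD1_c3 LD2_c17 LD3_c35)) :=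
  Lgr Lrot108 (Lpr_ft (f62218 IH) (Lpr_ct (f62187 IH) (Lpr_ft (f62219 IH) (Lpn (LP (LK LD1_c3 LD2_c17 LD3_c35))))))
theorem f93308 : Led Lsl_at (LP (LK LD1_c6 LD2_c35 LD3_c36)) = (LP (LK LD1_c3 LD2_c17 LD3_c35)) :=
  Lgr Lrot107 (Lpr_cf (f69295 IH) (Lpr_af (f93300 IH) (Lpr_cf (f62220 IH) (Lpn (LP (LK LD1_c3 LD2_c17 LD3_c35))))))
theorem f69308 : Led Lsl_ft (LP (LK LD1_c3 LD2_c16 LD3_c9)) = (LP (LK LD1_c6 LD2_c35 LD3_c36)) :=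
  Lre_f IH (LK LD1_c3 LD2_c16 LD3_c9) (LK LD1_c6 LD2_c35 LD3_c36) Lrfl Lrfl
theorem f63838 : Led Lsl_dt (LP (LK LD1_c3 LD2_c16 LD3_c9)) = (LP (LK LD1_c6 LD2_c35 LD3_c35)) :=
  Lre_d IH (LK LD1_c3 LD2_c16 LD3_c9) (LK LD1_c6 LD2_c35 LD3_c35) Lrfl Lrfl
theorem f69312 : Led Lsl_ct (LP (LK LD1_c6 LD2_c35 LD3_c35)) = (LP (LK LD1_c12 LD2_c37 LD3_c12)) :=
  Lre_c IH (LK LD1_c6 LD2_c35 LD3_c35) (LK LD1_c12 LD2_c37 LD3_c12) Lrfl Lrfl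
theorem f69313 : Led Lsl_dt (LP (LK LD1_c12 LD2_c37 LD3_c12)) = (LP (LK LD1_c21 LD2_c43 LD3_c35)) :=
  Lre_d IH (LK LD1_c12 LD2_c37 LD3_c12) (LK LD1_c21 LD2_c43 LD3_c35) Lrfl Lrfl
theorem f62238 : Led Lsl_ct (LP (LK LD1_c3 LD2_c28 LD3_c42)) = (LP (LK LD1_c3 LD2_c17 LD3_c35)) :=
  Lgr Lrot59 (Lpr_cf (f62220 IH) (Lpn (LP (LK LD1_c3 LD2_c17 LD3_c35))))
theorem f62246 : Led Lsl_dt (LP (LK LD1_c6 LD2_c59 LD3_c8)) = (LP (LK LD1_c3 LD2_c28 LD3_c42)) :=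
  Lre_d IH (LK LD1_c6 LD2_c59 LD3_c8) (LK LD1_c3 LD2_c28 LD3_c42) Lrfl Lrfl
theorem f85006 : Led Lsl_ct (LP (LK LD1_c0 LD2_c47 LD3_c12)) = (LP (LK LD1_c0 LD2_c21 LD3_c8)) :=
  Lre_c IH (LK LD1_c0 LD2_c47 LD3_c12) (LK LD1_c0 LD2_c21 LD3_c8) Lrfl Lrfl
theorem f88786 : Led Lsl_ft (LP (LK LD1_c0 LD2_c53 LD3_c20)) = (LP (LK LD1_c0 LD2_c47 LD3_c12)) :=
  Lgr Lrot4 (Lpe (K2.f84299 IH) (Lpr_ff (K2.f88782 IH) (Lpe (f85006 IH) (Lpn (LP (LK LD1_c0 LD2_c47 LD3_c12))))))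
theorem f88686 : Led Lsl_df (LP (LK LD1_c3 LD2_c53 LD3_c37)) = (LP (LK LD1_c3 LD2_c28 LD3_c43)) :=
  Lgr Lrot38 (Lpr_dt (f88677 IH) (Lpn (LP (LK LD1_c3 LD2_c28 LD3_c43))))
theorem f66627 : Led Lsl_at (LP (LK LD1_c1 LD2_c41 LD3_c12)) = (LP (LK LD1_c3 LD2_c28 LD3_c43)) :=
  Lre_a IH (LK LD1_c1 LD2_c41 LD3_c12) (LK LD1_c3 LD2_c28 LD3_c43) Lrfl Lrfl
theorem f88689 : Led Lsl_at (LP (LK LD1_c3 LD2_c53 LD3_c37)) = (LP (LK LD1_c3 LD2_c28 LD3_c56)) :=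
  Lgr Lrot51 (Lpr_df (f88686 IH) (Lpe (f66627 IH) (Lpe (f66591 IH) (Lpn (LP (LK LD1_c3 LD2_c28 LD3_c56))))))
theorem f66604 : Led Lsl_et (LP (LK LD1_c3 LD2_c28 LD3_c56)) = (LP (LK LD1_c1 LD2_c41 LD3_c13)) :=
  Lre_e IH (LK LD1_c3 LD2_c28 LD3_c56) (LK LD1_c1 LD2_c41 LD3_c13) Lrfl Lrfl
theorem f88698 : Led Lsl_af (LP (LK LD1_c1 LD2_c53 LD3_c25)) = (LP (LK LD1_c1 LD2_c41 LD3_c13)) :=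
  Lgr Lrot50 (Lpr_et (f18017 IH) (Lpr_at (f88689 IH) (Lpr_et (f66604 IH) (Lpn (LP (LK LD1_c1 LD2_c41 LD3_c13))))))
theorem f88701 : Led Lsl_at (LP (LK LD1_c1 LD2_c53 LD3_c25)) = (LP (LK LD1_c1 LD2_c41 LD3_c13)) :=
  Lgr Lrot100 (Lpr_af (f88698 IH) (Lpn (LP (LK LD1_c1 LD2_c41 LD3_c13))))
theorem f85000 : Led Lsl_dt (LP (LK LD1_c1 LD2_c41 LD3_c13)) = (LP (LK LD1_c0 LD2_c47 LD3_c12)) :=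
  Lre_d IH (LK LD1_c1 LD2_c41 LD3_c13) (LK LD1_c0 LD2_c47 LD3_c12) Lrfl Lrfl
theorem f88759 : Led Lsl_af (LP (LK LD1_c0 LD2_c53 LD3_c18)) = (LP (LK LD1_c0 LD2_c47 LD3_c12)) :=
  Lgr Lrot117 (Lpr_dt (f18012 IH) (Lpr_at (f88701 IH) (Lpr_dt (f85000 IH) (Lpn (LP (LK LD1_c0 LD2_c47 LD3_c12))))))
theorem f18892 : Led Lsl_et (LP (LK LD1_c0 LD2_c46 LD3_c52)) = (LP (LK LD1_c0 LD2_c21 LD3_c0)) :=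
  Lre_e IH (LK LD1_c0 LD2_c46 LD3_c52) (LK LD1_c0 LD2_c21 LD3_c0) Lrfl Lrfl
theorem f18009 : Led Lsl_dt (LP (LK LD1_c0 LD2_c46 LD3_c52)) = (LP (LK LD1_c1 LD2_c40 LD3_c47)) :=
  Lre_d IH (LK LD1_c0 LD2_c46 LD3_c52) (LK LD1_c1 LD2_c40 LD3_c47) Lrfl Lrfl
theorem f64289 : Led Lsl_et (LP (LK LD1_c0 LD2_c21 LD3_c4)) = (LP (LK LD1_c0 LD2_c9 LD3_c32)) :=
  Lre_e IH (LK LD1_c0 LD2_c21 LD3_c4) (LK LD1_c0 LD2_c9 LD3_c32) Lrfl Lrfl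
theorem f62670 : Led Lsl_dt (LP (LK LD1_c0 LD2_c21 LD3_c4)) = (LP (LK LD1_c0 LD2_c47 LD3_c6)) :=
  Lre_d IH (LK LD1_c0 LD2_c21 LD3_c4) (LK LD1_c0 LD2_c47 LD3_c6) Lrfl Lrfl
theorem f84985 : Led Lsl_gf (LP (LK LD1_c1 LD2_c40 LD3_c47)) = (LP (LK LD1_c0 LD2_c47 LD3_c6)) :=
  Lgr Lrot145 (Lpe (f18009 IH) (Lpr_et (f18892 IH) (Lpr_gt (K1.f18901 IH) (Lpr_dt (K2.f84971 IH) (Lpr_gt (K2.f11526 IH) (Lpe (K1.f17452 IH) (Lpr_et (K2.f64300 IH) (Lpr_gt (K0.f3946 IH) (Lpe (f64289 IH) (Lpr_dt (f62670 IH) (Lpn (LP (LK LD1_c0 LD2_c47 LD3_c6)))))))))))))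
theorem f85284 : Led Lsl_at (LP (LK LD1_c0 LD2_c47 LD3_c33)) = (LP (LK LD1_c1 LD2_c40 LD3_c47)) :=
  Lre_a IH (LK LD1_c0 LD2_c47 LD3_c33) (LK LD1_c1 LD2_c40 LD3_c47) Lrfl Lrfl
theorem f85285 : Led Lsl_ft (LP (LK LD1_c0 LD2_c23 LD3_c61)) = (LP (LK LD1_c0 LD2_c47 LD3_c33)) :=
  Lre_f IH (LK LD1_c0 LD2_c23 LD3_c61) (LK LD1_c0 LD2_c47 LD3_c33) Lrfl Lrfl
theorem f85286 : Led Lsl_gt (LP (LK LD1_c0 LD2_c23 LD3_c61)) = (LP (LK LD1_c0 LD2_c47 LD3_c6)) :=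
  Lgr Lrot5 (Lpr_ft (f85285 IH) (Lpr_at (f85284 IH) (Lpr_gf (f84985 IH) (Lpn (LP (LK LD1_c0 LD2_c47 LD3_c6))))))
theorem f11114 : Led Lsl_bt (LP (LK LD1_c0 LD2_c10 LD3_c55)) = (LP (LK LD1_c0 LD2_c23 LD3_c61)) :=
  Lre_b IH (LK LD1_c0 LD2_c10 LD3_c55) (LK LD1_c0 LD2_c23 LD3_c61) Lrfl Lrfl
theorem f7418 : Led Lsl_ct (LP (LK LD1_c0 LD2_c10 LD3_c55)) = (LP (LK LD1_c0 LD2_c24 LD3_c31)) :=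
  Lre_c IH (LK LD1_c0 LD2_c10 LD3_c55) (LK LD1_c0 LD2_c24 LD3_c31) Lrfl Lrfl
theorem f7421 : Led Lsl_ct (LP (LK LD1_c0 LD2_c24 LD3_c31)) = (LP (LK LD1_c0 LD2_c10 LD3_c55)) :=
  Lre_c IH (LK LD1_c0 LD2_c24 LD3_c31) (LK LD1_c0 LD2_c10 LD3_c55) Lrfl Lrfl
theorem f11499 : Led Lsl_dt (LP (LK LD1_c0 LD2_c21 LD3_c28)) = (LP (LK LD1_c0 LD2_c9 LD3_c42)) :=
  Lre_d IH (LK LD1_c0 LD2_c21 LD3_c28) (LK LD1_c0 LD2_c9 LD3_c42) Lrfl Lrfl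
theorem f11893 : Led Lsl_gf (LP (LK LD1_c0 LD2_c24 LD3_c31)) = (LP (LK LD1_c0 LD2_c48 LD3_c51)) :=
  Lgr Lrot104 (Lpr_ct (f7421 IH) (Lpe (K0.f7417 IH) (Lpe (K0.f7416 IH) (Lpe (K0.f10066 IH) (Lpe (K0.f9964 IH) (Lpr_gf (K0.f11887 IH) (Lpe (f11499 IH) (Lpe (K0.f11491 IH) (Lpr_ct (K0.f9968 IH) (Lpn (LP (LK LD1_c0 LD2_c48 LD3_c51))))))))))))
theorem f11500 : Led Lsl_bt (LP (LK LD1_c0 LD2_c47 LD3_c55)) = (LP (LK LD1_c0 LD2_c21 LD3_c28)) :=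
  Lre_b IH (LK LD1_c0 LD2_c47 LD3_c55) (LK LD1_c0 LD2_c21 LD3_c28) Lrfl Lrfl
theorem f11505 : Led Lsl_ct (LP (LK LD1_c0 LD2_c47 LD3_c55)) = (LP (LK LD1_c1 LD2_c42 LD3_c39)) :=
  Lre_c IH (LK LD1_c0 LD2_c47 LD3_c55) (LK LD1_c1 LD2_c42 LD3_c39) Lrfl Lrfl
theorem f76781 : Led Lsl_ct (LP (LK LD1_c1 LD2_c40 LD3_c57)) = (LP (LK LD1_c3 LD2_c28 LD3_c30)) :=
  Lre_c IH (LK LD1_c1 LD2_c40 LD3_c57) (LK LD1_c3 LD2_c28 LD3_c30) Lrfl Lrfl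
theorem f85608 : Led Lsl_gf (LP (LK LD1_c1 LD2_c42 LD3_c39)) = (LP (LK LD1_c3 LD2_c28 LD3_c30)) :=
  Lgr Lrot126 (Lpe (f11505 IH) (Lpr_bt (f11500 IH) (Lpe (K0.f11491 IH) (Lpr_ct (K0.f9968 IH) (Lpe (f11893 IH) (Lpe (f7418 IH) (Lpr_bt (f11114 IH) (Lpr_gt (f85286 IH) (Lpe (K2.f19397 IH) (Lpr_ct (f76781 IH) (Lpn (LP (LK LD1_c3 LD2_c28 LD3_c30)))))))))))))
theorem f19203 : Led Lsl_at (LP (LK LD1_c3 LD2_c31 LD3_c53)) = (LP (LK LD1_c1 LD2_c42 LD3_c39)) :=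
  Lre_a IH (LK LD1_c3 LD2_c31 LD3_c53) (LK LD1_c1 LD2_c42 LD3_c39) Lrfl Lrfl
theorem f19192 : Led Lsl_ff (LP (LK LD1_c3 LD2_c31 LD3_c53)) = (LP (LK LD1_c3 LD2_c25 LD3_c23)) :=
  Lgr Lrot3 (Lpr_ft (K2.f19182 IH) (Lpn (LP (LK LD1_c3 LD2_c25 LD3_c23))))
theorem f85614 : Led Lsl_gt (LP (LK LD1_c3 LD2_c25 LD3_c23)) = (LP (LK LD1_c3 LD2_c28 LD3_c30)) :=
  Lgr Lrot5 (Lpe (f19192 IH) (Lpr_at (f19203 IH) (Lpr_gf (f85608 IH) (Lpn (LP (LK LD1_c3 LD2_c28 LD3_c30))))))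
theorem f9832 : Led Lsl_ct (LP (LK LD1_c1 LD2_c39 LD3_c18)) = (LP (LK LD1_c3 LD2_c25 LD3_c23)) :=
  Lre_c IH (LK LD1_c1 LD2_c39 LD3_c18) (LK LD1_c3 LD2_c25 LD3_c23) Lrfl Lrfl
theorem f9824 : Led Lsl_bf (LP (LK LD1_c1 LD2_c39 LD3_c18)) = (LP (LK LD1_c1 LD2_c39 LD3_c18)) :=
  Lgr Lrot93 (Lpr_dt (K1.f9822 IH) (Lpr_bt (K0.f9795 IH) (Lpr_dt (K2.f9823 IH) (Lpn (LP (LK LD1_c1 LD2_c39 LD3_c18))))))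
theorem f9828 : Led Lsl_at (LP (LK LD1_c0 LD2_c46 LD3_c44)) = (LP (LK LD1_c1 LD2_c39 LD3_c18)) :=
  Lre_a IH (LK LD1_c0 LD2_c46 LD3_c44) (LK LD1_c1 LD2_c39 LD3_c18) Lrfl Lrfl
theorem f19178 : Led Lsl_ft (LP (LK LD1_c0 LD2_c47 LD3_c55)) = (LP (LK LD1_c0 LD2_c46 LD3_c44)) :=
  Lgr Lrot101 (Lpe (K2.f18106 IH) (Lpr_ff (K2.f19168 IH) (Lpe (f9828 IH) (Lpn (LP (LK LD1_c0 LD2_c46 LD3_c44))))))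
theorem f19330 : Led Lsl_gt (LP (LK LD1_c0 LD2_c47 LD3_c55)) = (LP (LK LD1_c1 LD2_c42 LD3_c38)) :=
  Lre_g IH (LK LD1_c0 LD2_c47 LD3_c55) (LK LD1_c1 LD2_c42 LD3_c38) Lrfl Lrfl
theorem f19331 : Led Lsl_gt (LP (LK LD1_c1 LD2_c42 LD3_c38)) = (LP (LK LD1_c1 LD2_c39 LD3_c18)) :=
  Lgr Lrot46 (Lpe (f19330 IH) (Lpr_ft (f19178 IH) (Lpr_at (f9828 IH) (Lpn (LP (LK LD1_c1 LD2_c39 LD3_c18))))))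
theorem f19335 : Led Lsl_bt (LP (LK LD1_c3 LD2_c31 LD3_c56)) = (LP (LK LD1_c1 LD2_c42 LD3_c38)) :=
  Lre_b IH (LK LD1_c3 LD2_c31 LD3_c56) (LK LD1_c1 LD2_c42 LD3_c38) Lrfl Lrfl
theorem f85296 : Led Lsl_ct (LP (LK LD1_c1 LD2_c40 LD3_c47)) = (LP (LK LD1_c3 LD2_c28 LD3_c20)) :=
  Lre_c IH (LK LD1_c1 LD2_c40 LD3_c47) (LK LD1_c3 LD2_c28 LD3_c20) Lrfl Lrfl
theorem f85297 : Led Lsl_gt (LP (LK LD1_c3 LD2_c28 LD3_c20)) = (LP (LK LD1_c1 LD2_c53 LD3_c31)) :=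
  Lre_g IH (LK LD1_c3 LD2_c28 LD3_c20) (LK LD1_c1 LD2_c53 LD3_c31) Lrfl Lrfl
theorem f85642 : Led Lsl_ct (LP (LK LD1_c3 LD2_c31 LD3_c56)) = (LP (LK LD1_c1 LD2_c53 LD3_c31)) :=
  Lgr Lrot63 (Lpr_bt (f19335 IH) (Lpr_gt (f19331 IH) (Lpr_bf (f9824 IH) (Lpr_ct (f9832 IH) (Lpr_gt (f85614 IH) (Lpe (f76781 IH) (Lpr_bt (K2.f19397 IH) (Lpe (f84985 IH) (Lpr_ct (f85296 IH) (Lpr_gt (f85297 IH) (Lpn (LP (LK LD1_c1 LD2_c53 LD3_c31)))))))))))))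
theorem f85653 : Led Lsl_bf (LP (LK LD1_c1 LD2_c40 LD3_c47)) = (LP (LK LD1_c1 LD2_c40 LD3_c47)) :=
  Lgr Lrot34 (Lpr_gf (f84985 IH) (Lpe (K2.f19397 IH) (Lpr_ct (f76781 IH) (Lpe (f85614 IH) (Lpe (f9832 IH) (Lpe (f19331 IH) (Lpe (f19335 IH) (Lpr_ct (f85642 IH) (Lpe (f85297 IH) (Lpe (f85296 IH) (Lpn (LP (LK LD1_c1 LD2_c40 LD3_c47)))))))))))))
theorem f85305 : Led Lsl_bt (LP (LK LD1_c3 LD2_c28 LD3_c20)) = (LP (LK LD1_c6 LD2_c58 LD3_c50)) :=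
  Lre_b IH (LK LD1_c3 LD2_c28 LD3_c20) (LK LD1_c6 LD2_c58 LD3_c50) Lrfl Lrfl
theorem f85304 : Led Lsl_ct (LP (LK LD1_c3 LD2_c28 LD3_c20)) = (LP (LK LD1_c1 LD2_c40 LD3_c47)) :=
  Lre_c IH (LK LD1_c3 LD2_c28 LD3_c20) (LK LD1_c1 LD2_c40 LD3_c47) Lrfl Lrfl
theorem f85657 : Led Lsl_bt (LP (LK LD1_c6 LD2_c58 LD3_c50)) = (LP (LK LD1_c3 LD2_c28 LD3_c20)) :=
  Lre_b IH (LK LD1_c6 LD2_c58 LD3_c50) (LK LD1_c3 LD2_c28 LD3_c20) Lrfl Lrfl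
theorem f85658 : Led Lsl_ct (LP (LK LD1_c6 LD2_c58 LD3_c50)) = (LP (LK LD1_c6 LD2_c58 LD3_c50)) :=
  Lgr Lrot83 (Lpe (f85305 IH) (Lpe (f85296 IH) (Lpr_bf (f85653 IH) (Lpe (f85304 IH) (Lpe (f85657 IH) (Lpn (LP (LK LD1_c6 LD2_c58 LD3_c50))))))))
theorem f85663 : Led Lsl_dt (LP (LK LD1_c12 LD2_c48 LD3_c51)) = (LP (LK LD1_c6 LD2_c58 LD3_c50)) :=
  Lre_d IH (LK LD1_c12 LD2_c48 LD3_c51) (LK LD1_c6 LD2_c58 LD3_c50) Lrfl Lrfl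
theorem f85673 : Led Lsl_ft (LP (LK LD1_c12 LD2_c48 LD3_c51)) = (LP (LK LD1_c7 LD2_c30 LD3_c33)) :=
  Lre_f IH (LK LD1_c12 LD2_c48 LD3_c51) (LK LD1_c7 LD2_c30 LD3_c33) Lrfl Lrfl
theorem f85674 : Led Lsl_at (LP (LK LD1_c7 LD2_c30 LD3_c33)) = (LP (LK LD1_c14 LD2_c10 LD3_c49)) :=
  Lre_a IH (LK LD1_c7 LD2_c30 LD3_c33) (LK LD1_c14 LD2_c10 LD3_c49) Lrfl Lrfl
theorem f85675 : Led Lsl_ct (LP (LK LD1_c23 LD2_c46 LD3_c19)) = (LP (LK LD1_c14 LD2_c10 LD3_c49)) :=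
  Lre_c IH (LK LD1_c23 LD2_c46 LD3_c19) (LK LD1_c14 LD2_c10 LD3_c49) Lrfl Lrfl
theorem f85676 : Led Lsl_dt (LP (LK LD1_c31 LD2_c12 LD3_c55)) = (LP (LK LD1_c23 LD2_c46 LD3_c19)) :=
  Lre_d IH (LK LD1_c31 LD2_c12 LD3_c55) (LK LD1_c23 LD2_c46 LD3_c19) Lrfl Lrfl
theorem f85666 : Led Lsl_dt (LP (LK LD1_c6 LD2_c58 LD3_c50)) = (LP (LK LD1_c12 LD2_c48 LD3_c51)) :=
  Lre_d IH (LK LD1_c6 LD2_c58 LD3_c50) (LK LD1_c12 LD2_c48 LD3_c51) Lrfl Lrfl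
theorem f85667 : Led Lsl_ct (LP (LK LD1_c12 LD2_c48 LD3_c51)) = (LP (LK LD1_c21 LD2_c56 LD3_c45)) :=
  Lre_c IH (LK LD1_c12 LD2_c48 LD3_c51) (LK LD1_c21 LD2_c56 LD3_c45) Lrfl Lrfl
theorem f85668 : Led Lsl_dt (LP (LK LD1_c21 LD2_c56 LD3_c45)) = (LP (LK LD1_c30 LD2_c13 LD3_c42)) :=
  Lre_d IH (LK LD1_c21 LD2_c56 LD3_c45) (LK LD1_c30 LD2_c13 LD3_c42) Lrfl Lrfl
theorem f85677 : Led Lsl_cf (LP (LK LD1_c31 LD2_c12 LD3_c55)) = (LP (LK LD1_c30 LD2_c13 LD3_c42)) :=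
  Lgr Lrot161 (Lpr_dt (f85676 IH) (Lpr_ct (f85675 IH) (Lpe (f85674 IH) (Lpe (f85673 IH) (Lpr_dt (f85663 IH) (Lpr_ct (f85658 IH) (Lpr_dt (f85666 IH) (Lpr_ct (f85667 IH) (Lpr_dt (f85668 IH) (Lpn (LP (LK LD1_c30 LD2_c13 LD3_c42))))))))))))
theorem f85690 : Led Lsl_ct (LP (LK LD1_c31 LD2_c12 LD3_c55)) = (LP (LK LD1_c30 LD2_c13 LD3_c42)) :=
  Lgr Lrot59 (Lpr_cf (f85677 IH) (Lpn (LP (LK LD1_c30 LD2_c13 LD3_c42))))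
theorem f57833 : Led Lsl_bt (LP (LK LD1_c30 LD2_c13 LD3_c42)) = (LP (LK LD1_c21 LD2_c56 LD3_c46)) :=
  Lre_b IH (LK LD1_c30 LD2_c13 LD3_c42) (LK LD1_c21 LD2_c56 LD3_c46) Lrfl Lrfl
theorem f57939 : Led Lsl_bt (LP (LK LD1_c17 LD2_c28 LD3_c12)) = (LP (LK LD1_c27 LD2_c7 LD3_c51)) :=
  Lre_b IH (LK LD1_c17 LD2_c28 LD3_c12) (LK LD1_c27 LD2_c7 LD3_c51) Lrfl Lrfl
theorem f57940 : Led Lsl_ct (LP (LK LD1_c27 LD2_c7 LD3_c51)) = (LP (LK LD1_c32 LD2_c21 LD3_c6)) :=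
  Lre_c IH (LK LD1_c27 LD2_c7 LD3_c51) (LK LD1_c32 LD2_c21 LD3_c6) Lrfl Lrfl
theorem f85713 : Led Lsl_bf (LP (LK LD1_c31 LD2_c12 LD3_c55)) = (LP (LK LD1_c32 LD2_c21 LD3_c6)) :=
  Lgr Lrot90 (Lpr_ct (f85690 IH) (Lpr_bt (f57833 IH) (Lpe (K1.f57933 IH) (Lpr_bt (f57939 IH) (Lpr_ct (f57940 IH) (Lpn (LP (LK LD1_c32 LD2_c21 LD3_c6))))))))
theorem f57824 : Led Lsl_at (LP (LK LD1_c31 LD2_c12 LD3_c55)) = (LP (LK LD1_c23 LD2_c46 LD3_c22)) :=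
  Lre_a IH (LK LD1_c31 LD2_c12 LD3_c55) (LK LD1_c23 LD2_c46 LD3_c22) Lrfl Lrfl
theorem f57823 : Led Lsl_bt (LP (LK LD1_c23 LD2_c46 LD3_c22)) = (LP (LK LD1_c29 LD2_c52 LD3_c19)) :=
  Lre_b IH (LK LD1_c23 LD2_c46 LD3_c22) (LK LD1_c29 LD2_c52 LD3_c19) Lrfl Lrfl
theorem f85715 : Led Lsl_at (LP (LK LD1_c27 LD2_c7 LD3_c54)) = (LP (LK LD1_c32 LD2_c21 LD3_c6)) :=
  Lre_a IH (LK LD1_c27 LD2_c7 LD3_c54) (LK LD1_c32 LD2_c21 LD3_c6) Lrfl Lrfl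
theorem f85716 : Led Lsl_bt (LP (LK LD1_c21 LD2_c17 LD3_c37)) = (LP (LK LD1_c27 LD2_c7 LD3_c54)) :=
  Lgr Lrot62 (Lpe (K1.f57810 IH) (Lpe (f57823 IH) (Lpe (f57824 IH) (Lpr_bf (f85713 IH) (Lpe (f85715 IH) (Lpn (LP (LK LD1_c27 LD2_c7 LD3_c54))))))))
theorem f57936 : Led Lsl_ct (LP (LK LD1_c9 LD2_c28 LD3_c23)) = (LP (LK LD1_c17 LD2_c28 LD3_c15)) :=
  Lre_c IH (LK LD1_c9 LD2_c28 LD3_c23) (LK LD1_c17 LD2_c28 LD3_c15) Lrfl Lrfl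
theorem f57965 : Led Lsl_ft (LP (LK LD1_c17 LD2_c28 LD3_c15)) = (LP (LK LD1_c21 LD2_c17 LD3_c37)) :=
  Lgr Lrot4 (Lpe (f57936 IH) (Lpr_ff (K1.f57951 IH) (Lpe (K1.f57749 IH) (Lpn (LP (LK LD1_c21 LD2_c17 LD3_c37))))))
theorem f85724 : Led Lsl_bt (LP (LK LD1_c27 LD2_c18 LD3_c31)) = (LP (LK LD1_c17 LD2_c28 LD3_c15)) :=
  Lre_b IH (LK LD1_c27 LD2_c18 LD3_c31) (LK LD1_c17 LD2_c28 LD3_c15) Lrfl Lrfl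
theorem f85725 : Led Lsl_ff (LP (LK LD1_c27 LD2_c18 LD3_c31)) = (LP (LK LD1_c27 LD2_c7 LD3_c54)) :=
  Lgr Lrot25 (Lpr_bt (f85724 IH) (Lpr_ft (f57965 IH) (Lpr_bt (f85716 IH) (Lpn (LP (LK LD1_c27 LD2_c7 LD3_c54))))))
theorem f85736 : Led Lsl_ft (LP (LK LD1_c27 LD2_c18 LD3_c31)) = (LP (LK LD1_c27 LD2_c7 LD3_c54)) :=
  Lgr Lrot48 (Lpr_ff (f85725 IH) (Lpn (LP (LK LD1_c27 LD2_c7 LD3_c54))))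
theorem f85748 : Led Lsl_ct (LP (LK LD1_c17 LD2_c28 LD3_c21)) = (LP (LK LD1_c27 LD2_c18 LD3_c31)) :=
  Lre_c IH (LK LD1_c17 LD2_c28 LD3_c21) (LK LD1_c27 LD2_c18 LD3_c31) Lrfl Lrfl
theorem f85721 : Led Lsl_ct (LP (LK LD1_c27 LD2_c7 LD3_c54)) = (LP (LK LD1_c17 LD2_c18 LD3_c4)) :=
  Lre_c IH (LK LD1_c27 LD2_c7 LD3_c54) (LK LD1_c17 LD2_c18 LD3_c4) Lrfl Lrfl
theorem f85749 : Led Lsl_ff (LP (LK LD1_c17 LD2_c28 LD3_c21)) = (LP (LK LD1_c17 LD2_c18 LD3_c4)) :=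
  Lgr Lrot23 (Lpr_ct (f85748 IH) (Lpr_ft (f85736 IH) (Lpr_ct (f85721 IH) (Lpn (LP (LK LD1_c17 LD2_c18 LD3_c4))))))
theorem f85766 : Led Lsl_dt (LP (LK LD1_c9 LD2_c21 LD3_c49)) = (LP (LK LD1_c17 LD2_c18 LD3_c4)) :=
  Lre_d IH (LK LD1_c9 LD2_c21 LD3_c49) (LK LD1_c17 LD2_c18 LD3_c4) Lrfl Lrfl
theorem f58081 : Led Lsl_bt (LP (LK LD1_c9 LD2_c21 LD3_c49)) = (LP (LK LD1_c4 LD2_c44 LD3_c31)) :=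
  Lre_b IH (LK LD1_c9 LD2_c21 LD3_c49) (LK LD1_c4 LD2_c44 LD3_c31) Lrfl Lrfl
theorem f58091 : Led Lsl_bt (LP (LK LD1_c6 LD2_c17 LD3_c24)) = (LP (LK LD1_c12 LD2_c11 LD3_c18)) :=
  Lre_b IH (LK LD1_c6 LD2_c17 LD3_c24) (LK LD1_c12 LD2_c11 LD3_c18) Lrfl Lrfl
theorem f58092 : Led Lsl_ff (LP (LK LD1_c9 LD2_c21 LD3_c49)) = (LP (LK LD1_c12 LD2_c11 LD3_c18)) :=
  Lgr Lrot25 (Lpr_bt (f58081 IH) (Lpr_ft (K1.f58068 IH) (Lpr_bt (f58091 IH) (Lpn (LP (LK LD1_c12 LD2_c11 LD3_c18))))))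
theorem f85767 : Led Lsl_dt (LP (LK LD1_c17 LD2_c28 LD3_c21)) = (LP (LK LD1_c12 LD2_c11 LD3_c18)) :=
  Lgr Lrot60 (Lpr_ff (f85749 IH) (Lpe (f85766 IH) (Lpr_ff (f58092 IH) (Lpn (LP (LK LD1_c12 LD2_c11 LD3_c18))))))
theorem f85787 : Led Lsl_df (LP (LK LD1_c17 LD2_c28 LD3_c21)) = (LP (LK LD1_c12 LD2_c11 LD3_c18)) :=
  Lgr Lrot38 (Lpr_dt (f85767 IH) (Lpn (LP (LK LD1_c12 LD2_c11 LD3_c18))))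
theorem f85733 : Led Lsl_ct (LP (LK LD1_c27 LD2_c18 LD3_c31)) = (LP (LK LD1_c17 LD2_c28 LD3_c21)) :=
  Lre_c IH (LK LD1_c27 LD2_c18 LD3_c31) (LK LD1_c17 LD2_c28 LD3_c21) Lrfl Lrfl
theorem f58033 : Led Lsl_ct (LP (LK LD1_c17 LD2_c18 LD3_c4)) = (LP (LK LD1_c27 LD2_c7 LD3_c54)) :=
  Lre_c IH (LK LD1_c17 LD2_c18 LD3_c4) (LK LD1_c27 LD2_c7 LD3_c54) Lrfl Lrfl
theorem f85734 : Led Lsl_ft (LP (LK LD1_c17 LD2_c28 LD3_c21)) = (LP (LK LD1_c17 LD2_c18 LD3_c4)) :=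
  Lgr Lrot4 (Lpe (f85733 IH) (Lpr_ff (f85725 IH) (Lpe (f58033 IH) (Lpn (LP (LK LD1_c17 LD2_c18 LD3_c4))))))
theorem f85775 : Led Lsl_dt (LP (LK LD1_c17 LD2_c18 LD3_c4)) = (LP (LK LD1_c9 LD2_c21 LD3_c49)) :=
  Lre_d IH (LK LD1_c17 LD2_c18 LD3_c4) (LK LD1_c9 LD2_c21 LD3_c49) Lrfl Lrfl
theorem f85808 : Led Lsl_ft (LP (LK LD1_c9 LD2_c21 LD3_c49)) = (LP (LK LD1_c12 LD2_c11 LD3_c18)) :=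
  Lgr Lrot54 (Lpe (f85775 IH) (Lpe (f85734 IH) (Lpr_df (f85787 IH) (Lpn (LP (LK LD1_c12 LD2_c11 LD3_c18))))))
theorem f58100 : Led Lsl_ct (LP (LK LD1_c6 LD2_c33 LD3_c51)) = (LP (LK LD1_c9 LD2_c21 LD3_c49)) :=
  Lre_c IH (LK LD1_c6 LD2_c33 LD3_c51) (LK LD1_c9 LD2_c21 LD3_c49) Lrfl Lrfl
theorem f85818 : Led Lsl_ft (LP (LK LD1_c12 LD2_c0 LD3_c44)) = (LP (LK LD1_c6 LD2_c33 LD3_c51)) :=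
  Lre_f IH (LK LD1_c12 LD2_c0 LD3_c44) (LK LD1_c6 LD2_c33 LD3_c51) Lrfl Lrfl
theorem f85819 : Led Lsl_cf (LP (LK LD1_c12 LD2_c0 LD3_c44)) = (LP (LK LD1_c12 LD2_c11 LD3_c18)) :=
  Lgr Lrot108 (Lpr_ft (f85818 IH) (Lpr_ct (f58100 IH) (Lpr_ft (f85808 IH) (Lpn (LP (LK LD1_c12 LD2_c11 LD3_c18))))))
theorem f85835 : Led Lsl_ct (LP (LK LD1_c12 LD2_c0 LD3_c44)) = (LP (LK LD1_c12 LD2_c11 LD3_c18)) :=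
  Lgr Lrot59 (Lpr_cf (f85819 IH) (Lpn (LP (LK LD1_c12 LD2_c11 LD3_c18))))
theorem f85840 : Led Lsl_at (LP (LK LD1_c21 LD2_c5 LD3_c57)) = (LP (LK LD1_c12 LD2_c0 LD3_c44)) :=
  Lre_a IH (LK LD1_c21 LD2_c5 LD3_c57) (LK LD1_c12 LD2_c0 LD3_c44) Lrfl Lrfl
theorem f85781 : Led Lsl_at (LP (LK LD1_c12 LD2_c11 LD3_c18)) = (LP (LK LD1_c21 LD2_c16 LD3_c36)) :=
  Lre_a IH (LK LD1_c12 LD2_c11 LD3_c18) (LK LD1_c21 LD2_c16 LD3_c36) Lrfl Lrfl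
theorem f85853 : Led Lsl_cf (LP (LK LD1_c21 LD2_c5 LD3_c57)) = (LP (LK LD1_c21 LD2_c16 LD3_c36)) :=
  Lgr Lrot1 (Lpr_at (f85840 IH) (Lpr_ct (f85835 IH) (Lpr_at (f85781 IH) (Lpn (LP (LK LD1_c21 LD2_c16 LD3_c36))))))
theorem f85863 : Led Lsl_bt (LP (LK LD1_c21 LD2_c5 LD3_c57)) = (LP (LK LD1_c12 LD2_c3 LD3_c28)) :=
  Lre_b IH (LK LD1_c21 LD2_c5 LD3_c57) (LK LD1_c12 LD2_c3 LD3_c28) Lrfl Lrfl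
theorem f57814 : Led Lsl_ct (LP (LK LD1_c12 LD2_c3 LD3_c28)) = (LP (LK LD1_c6 LD2_c13 LD3_c3)) :=
  Lre_c IH (LK LD1_c12 LD2_c3 LD3_c28) (LK LD1_c6 LD2_c13 LD3_c3) Lrfl Lrfl
theorem f57909 : Led Lsl_bt (LP (LK LD1_c12 LD2_c11 LD3_c53)) = (LP (LK LD1_c21 LD2_c16 LD3_c36)) :=
  Lre_b IH (LK LD1_c12 LD2_c11 LD3_c53) (LK LD1_c21 LD2_c16 LD3_c36) Lrfl Lrfl
theorem f57845 : Led Lsl_ct (LP (LK LD1_c6 LD2_c18 LD3_c1)) = (LP (LK LD1_c12 LD2_c11 LD3_c53)) :=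
  Lre_c IH (LK LD1_c6 LD2_c18 LD3_c1) (LK LD1_c12 LD2_c11 LD3_c53) Lrfl Lrfl
theorem f85864 : Led Lsl_bt (LP (LK LD1_c6 LD2_c13 LD3_c3)) = (LP (LK LD1_c6 LD2_c18 LD3_c1)) :=
  Lgr Lrot128 (Lpe (f57814 IH) (Lpe (f85863 IH) (Lpr_cf (f85853 IH) (Lpe (f57909 IH) (Lpe (f57845 IH) (Lpn (LP (LK LD1_c6 LD2_c18 LD3_c1))))))))
theorem f67575 : Led Lsl_ct (LP (LK LD1_c6 LD2_c27 LD3_c61)) = (LP (LK LD1_c12 LD2_c27 LD3_c13)) :=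
  Lre_c IH (LK LD1_c6 LD2_c27 LD3_c61) (LK LD1_c12 LD2_c27 LD3_c13) Lrfl Lrfl
theorem f67556 : Led Lsl_at (LP (LK LD1_c12 LD2_c13 LD3_c25)) = (LP (LK LD1_c6 LD2_c18 LD3_c47)) :=
  Lre_a IH (LK LD1_c12 LD2_c13 LD3_c25) (LK LD1_c6 LD2_c18 LD3_c47) Lrfl Lrfl
theorem f67557 : Led Lsl_at (LP (LK LD1_c6 LD2_c27 LD3_c57)) = (LP (LK LD1_c12 LD2_c27 LD3_c13)) :=
  Lre_a IH (LK LD1_c6 LD2_c27 LD3_c57) (LK LD1_c12 LD2_c27 LD3_c13) Lrfl Lrfl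
theorem f67558 : Led Lsl_ff (LP (LK LD1_c12 LD2_c13 LD3_c25)) = (LP (LK LD1_c12 LD2_c27 LD3_c13)) :=
  Lgr Lrot30 (Lpr_at (f67556 IH) (Lpr_ft (K2.f67535 IH) (Lpr_at (f67557 IH) (Lpn (LP (LK LD1_c12 LD2_c27 LD3_c13))))))
theorem f67966 : Led Lsl_gt (LP (LK LD1_c12 LD2_c13 LD3_c24)) = (LP (LK LD1_c6 LD2_c18 LD3_c47)) :=
  Lre_g IH (LK LD1_c12 LD2_c13 LD3_c24) (LK LD1_c6 LD2_c18 LD3_c47) Lrfl Lrfl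
theorem f67967 : Led Lsl_gf (LP (LK LD1_c12 LD2_c13 LD3_c24)) = (LP (LK LD1_c12 LD2_c27 LD3_c13)) :=
  Lgr Lrot47 (Lpr_gt (f67966 IH) (Lpe (f67556 IH) (Lpr_ff (f67558 IH) (Lpn (LP (LK LD1_c12 LD2_c27 LD3_c13))))))
theorem f57894 : Led Lsl_gt (LP (LK LD1_c2 LD2_c23 LD3_c0)) = (LP (LK LD1_c4 LD2_c50 LD3_c27)) :=
  Lre_g IH (LK LD1_c2 LD2_c23 LD3_c0) (LK LD1_c4 LD2_c50 LD3_c27) Lrfl Lrfl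
theorem f57895 : Led Lsl_gt (LP (LK LD1_c4 LD2_c50 LD3_c27)) = (LP (LK LD1_c6 LD2_c18 LD3_c1)) :=
  Lgr Lrot46 (Lpe (f57894 IH) (Lpr_ft (K1.f57878 IH) (Lpr_at (K1.f57877 IH) (Lpn (LP (LK LD1_c6 LD2_c18 LD3_c1))))))
theorem f57906 : Led Lsl_bt (LP (LK LD1_c9 LD2_c33 LD3_c8)) = (LP (LK LD1_c4 LD2_c50 LD3_c27)) :=
  Lre_b IH (LK LD1_c9 LD2_c33 LD3_c8) (LK LD1_c4 LD2_c50 LD3_c27) Lrfl Lrfl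
theorem f85995 : Led Lsl_cf (LP (LK LD1_c12 LD2_c13 LD3_c24)) = (LP (LK LD1_c9 LD2_c33 LD3_c8)) :=
  Lgr Lrot163 (Lpr_gf (f67967 IH) (Lpe (f67575 IH) (Lpe (K2.f67985 IH) (Lpe (K2.f67094 IH) (Lpe (K2.f84052 IH) (Lpe (K2.f84066 IH) (Lpe (K2.f25476 IH) (Lpr_bt (f85864 IH) (Lpe (f57895 IH) (Lpe (f57906 IH) (Lpn (LP (LK LD1_c9 LD2_c33 LD3_c8)))))))))))))
theorem f68089 : Led Lsl_df (LP (LK LD1_c6 LD2_c27 LD3_c61)) = (LP (LK LD1_c6 LD2_c27 LD3_c46)) :=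
  Lgr Lrot38 (Lpr_dt (K2.f68073 IH) (Lpn (LP (LK LD1_c6 LD2_c27 LD3_c46))))
theorem f83357 : Led Lsl_bt (LP (LK LD1_c6 LD2_c27 LD3_c61)) = (LP (LK LD1_c6 LD2_c23 LD3_c20)) :=
  Lgr Lrot95 (Lpr_df (f68089 IH) (Lpe (K2.f67988 IH) (Lpr_df (K2.f83354 IH) (Lpn (LP (LK LD1_c6 LD2_c23 LD3_c20))))))
theorem f83210 : Led Lsl_bt (LP (LK LD1_c3 LD2_c9 LD3_c17)) = (LP (LK LD1_c1 LD2_c30 LD3_c48)) :=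
  Lre_b IH (LK LD1_c3 LD2_c9 LD3_c17) (LK LD1_c1 LD2_c30 LD3_c48) Lrfl Lrfl
theorem f83224 : Led Lsl_ft (LP (LK LD1_c3 LD2_c11 LD3_c44)) = (LP (LK LD1_c3 LD2_c9 LD3_c17)) :=
  Lgr Lrot75 (Lpe (K2.f67415 IH) (Lpr_ff (K2.f83221 IH) (Lpe (f83210 IH) (Lpn (LP (LK LD1_c3 LD2_c9 LD3_c17))))))
theorem f68080 : Led Lsl_gt (LP (LK LD1_c3 LD2_c11 LD3_c44)) = (LP (LK LD1_c6 LD2_c27 LD3_c44)) :=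
  Lre_g IH (LK LD1_c3 LD2_c11 LD3_c44) (LK LD1_c6 LD2_c27 LD3_c44) Lrfl Lrfl
theorem f83356 : Led Lsl_at (LP (LK LD1_c3 LD2_c9 LD3_c17)) = (LP (LK LD1_c6 LD2_c23 LD3_c20)) :=
  Lre_a IH (LK LD1_c3 LD2_c9 LD3_c17) (LK LD1_c6 LD2_c23 LD3_c20) Lrfl Lrfl
theorem f83925 : Led Lsl_gt (LP (LK LD1_c6 LD2_c27 LD3_c44)) = (LP (LK LD1_c6 LD2_c23 LD3_c20)) :=
  Lgr Lrot46 (Lpe (f68080 IH) (Lpr_ft (f83224 IH) (Lpr_at (f83356 IH) (Lpn (LP (LK LD1_c6 LD2_c23 LD3_c20))))))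
theorem f82824 : Led Lsl_bt (LP (LK LD1_c12 LD2_c26 LD3_c49)) = (LP (LK LD1_c6 LD2_c27 LD3_c44)) :=
  Lre_b IH (LK LD1_c12 LD2_c26 LD3_c49) (LK LD1_c6 LD2_c27 LD3_c44) Lrfl Lrfl
theorem f85869 : Led Lsl_ft (LP (LK LD1_c21 LD2_c5 LD3_c57)) = (LP (LK LD1_c12 LD2_c34 LD3_c35)) :=
  Lre_f IH (LK LD1_c21 LD2_c5 LD3_c57) (LK LD1_c12 LD2_c34 LD3_c35) Lrfl Lrfl
theorem f84153 : Led Lsl_ct (LP (LK LD1_c12 LD2_c34 LD3_c35)) = (LP (LK LD1_c17 LD2_c18 LD3_c3)) :=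
  Lre_c IH (LK LD1_c12 LD2_c34 LD3_c35) (LK LD1_c17 LD2_c18 LD3_c3) Lrfl Lrfl
theorem f85870 : Led Lsl_ft (LP (LK LD1_c17 LD2_c18 LD3_c3)) = (LP (LK LD1_c21 LD2_c16 LD3_c36)) :=
  Lgr Lrot4 (Lpe (f84153 IH) (Lpe (f85869 IH) (Lpr_cf (f85853 IH) (Lpn (LP (LK LD1_c21 LD2_c16 LD3_c36))))))
theorem f85880 : Led Lsl_bt (LP (LK LD1_c9 LD2_c28 LD3_c22)) = (LP (LK LD1_c17 LD2_c18 LD3_c3)) :=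
  Lre_b IH (LK LD1_c9 LD2_c28 LD3_c22) (LK LD1_c17 LD2_c18 LD3_c3) Lrfl Lrfl
theorem f85878 : Led Lsl_bt (LP (LK LD1_c21 LD2_c16 LD3_c36)) = (LP (LK LD1_c12 LD2_c11 LD3_c53)) :=
  Lre_b IH (LK LD1_c21 LD2_c16 LD3_c36) (LK LD1_c12 LD2_c11 LD3_c53) Lrfl Lrfl
theorem f85881 : Led Lsl_ff (LP (LK LD1_c9 LD2_c28 LD3_c22)) = (LP (LK LD1_c12 LD2_c11 LD3_c53)) :=
  Lgr Lrot25 (Lpr_bt (f85880 IH) (Lpr_ft (f85870 IH) (Lpr_bt (f85878 IH) (Lpn (LP (LK LD1_c12 LD2_c11 LD3_c53))))))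
theorem f85892 : Led Lsl_at (LP (LK LD1_c9 LD2_c28 LD3_c22)) = (LP (LK LD1_c4 LD2_c47 LD3_c41)) :=
  Lre_a IH (LK LD1_c9 LD2_c28 LD3_c22) (LK LD1_c4 LD2_c47 LD3_c41) Lrfl Lrfl
theorem f79599 : Led Lsl_gt (LP (LK LD1_c9 LD2_c28 LD3_c21)) = (LP (LK LD1_c4 LD2_c47 LD3_c41)) :=
  Lre_g IH (LK LD1_c9 LD2_c28 LD3_c21) (LK LD1_c4 LD2_c47 LD3_c41) Lrfl Lrfl
theorem f85898 : Led Lsl_gf (LP (LK LD1_c9 LD2_c28 LD3_c21)) = (LP (LK LD1_c12 LD2_c11 LD3_c53)) :=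
  Lgr Lrot47 (Lpr_gt (f79599 IH) (Lpe (f85892 IH) (Lpr_ff (f85881 IH) (Lpn (LP (LK LD1_c12 LD2_c11 LD3_c53))))))
theorem f86010 : Led Lsl_ct (LP (LK LD1_c12 LD2_c26 LD3_c49)) = (LP (LK LD1_c9 LD2_c28 LD3_c21)) :=
  Lgr Lrot63 (Lpr_bt (f82824 IH) (Lpr_gt (f83925 IH) (Lpe (f83357 IH) (Lpr_ct (f67575 IH) (Lpe (f67967 IH) (Lpr_cf (f85995 IH) (Lpr_bt (f57906 IH) (Lpr_gt (f57895 IH) (Lpr_ct (f57845 IH) (Lpe (f85898 IH) (Lpn (LP (LK LD1_c9 LD2_c28 LD3_c21)))))))))))))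
theorem f82850 : Led Lsl_gt (LP (LK LD1_c21 LD2_c34 LD3_c4)) = (LP (LK LD1_c12 LD2_c26 LD3_c49)) :=
  Lre_g IH (LK LD1_c21 LD2_c34 LD3_c4) (LK LD1_c12 LD2_c26 LD3_c49) Lrfl Lrfl
theorem f82534 : Led Lsl_ff (LP (LK LD1_c0 LD2_c3 LD3_c57)) = (LP (LK LD1_c0 LD2_c3 LD3_c57)) :=
  Lgr Lrot72 (Lpr_et (K2.f7481 IH) (Lpr_ft (K2.f82275 IH) (Lpr_et (K2.f82528 IH) (Lpe (K2.f82281 IH) (Lpr_et (K2.f23583 IH) (Lpn (LP (LK LD1_c0 LD2_c3 LD3_c57))))))))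
theorem f23423 : Led Lsl_ct (LP (LK LD1_c0 LD2_c8 LD3_c39)) = (LP (LK LD1_c0 LD2_c3 LD3_c57)) :=
  Lre_c IH (LK LD1_c0 LD2_c8 LD3_c39) (LK LD1_c0 LD2_c3 LD3_c57) Lrfl Lrfl
theorem f82538 : Led Lsl_ft (LP (LK LD1_c0 LD2_c8 LD3_c39)) = (LP (LK LD1_c0 LD2_c8 LD3_c39)) :=
  Lgr Lrot4 (Lpe (K2.f23397 IH) (Lpr_ff (f82534 IH) (Lpe (f23423 IH) (Lpn (LP (LK LD1_c0 LD2_c8 LD3_c39))))))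
theorem f23416 : Led Lsl_bt (LP (LK LD1_c0 LD2_c19 LD3_c14)) = (LP (LK LD1_c0 LD2_c8 LD3_c39)) :=
  Lre_b IH (LK LD1_c0 LD2_c19 LD3_c14) (LK LD1_c0 LD2_c8 LD3_c39) Lrfl Lrfl
theorem f82546 : Led Lsl_ff (LP (LK LD1_c0 LD2_c19 LD3_c14)) = (LP (LK LD1_c0 LD2_c19 LD3_c14)) :=
  Lgr Lrot25 (Lpr_bt (f23416 IH) (Lpr_ft (f82538 IH) (Lpr_bt (K2.f23398 IH) (Lpn (LP (LK LD1_c0 LD2_c19 LD3_c14))))))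
theorem f82295 : Led Lsl_ft (LP (LK LD1_c0 LD2_c8 LD3_c37)) = (LP (LK LD1_c0 LD2_c13 LD3_c37)) :=
  Lgr Lrot48 (Lpr_ff (K2.f82289 IH) (Lpn (LP (LK LD1_c0 LD2_c13 LD3_c37))))
theorem f23410 : Led Lsl_et (LP (LK LD1_c0 LD2_c8 LD3_c37)) = (LP (LK LD1_c0 LD2_c19 LD3_c14)) :=
  Lre_e IH (LK LD1_c0 LD2_c8 LD3_c37) (LK LD1_c0 LD2_c19 LD3_c14) Lrfl Lrfl
theorem f82552 : Led Lsl_et (LP (LK LD1_c0 LD2_c13 LD3_c37)) = (LP (LK LD1_c0 LD2_c13 LD3_c37)) :=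
  Lgr Lrot69 (Lpe (f82295 IH) (Lpe (K2.f23425 IH) (Lpr_ff (f82546 IH) (Lpe (f23410 IH) (Lpr_ff (K2.f82289 IH) (Lpn (LP (LK LD1_c0 LD2_c13 LD3_c37))))))))
theorem f82556 : Led Lsl_ef (LP (LK LD1_c0 LD2_c8 LD3_c35)) = (LP (LK LD1_c0 LD2_c8 LD3_c35)) :=
  Lgr Lrot28 (Lpe (K2.f26068 IH) (Lpr_et (f82552 IH) (Lpr_ct (K2.f26074 IH) (Lpn (LP (LK LD1_c0 LD2_c8 LD3_c35))))))
theorem f13498 : Led Lsl_bt (LP (LK LD1_c0 LD2_c8 LD3_c35)) = (LP (LK LD1_c0 LD2_c3 LD3_c55)) :=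
  Lre_b IH (LK LD1_c0 LD2_c8 LD3_c35) (LK LD1_c0 LD2_c3 LD3_c55) Lrfl Lrfl
theorem f82652 : Led Lsl_et (LP (LK LD1_c0 LD2_c3 LD3_c55)) = (LP (LK LD1_c0 LD2_c3 LD3_c55)) :=
  Lgr Lrot74 (Lpe (f13498 IH) (Lpr_ef (f82556 IH) (Lpe (K2.f20984 IH) (Lpn (LP (LK LD1_c0 LD2_c3 LD3_c55))))))
theorem f82788 : Led Lsl_et (LP (LK LD1_c0 LD2_c13 LD3_c27)) = (LP (LK LD1_c0 LD2_c6 LD3_c7)) :=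
  Lre_e IH (LK LD1_c0 LD2_c13 LD3_c27) (LK LD1_c0 LD2_c6 LD3_c7) Lrfl Lrfl
theorem f25776 : Led Lsl_dt (LP (LK LD1_c0 LD2_c13 LD3_c27)) = (LP (LK LD1_c0 LD2_c30 LD3_c18)) :=
  Lre_d IH (LK LD1_c0 LD2_c13 LD3_c27) (LK LD1_c0 LD2_c30 LD3_c18) Lrfl Lrfl
theorem f77099 : Led Lsl_ef (LP (LK LD1_c0 LD2_c8 LD3_c34)) = (LP (LK LD1_c0 LD2_c18 LD3_c61)) :=
  Lgr Lrot29 (Lpr_bt (K0.f13455 IH) (Lpr_et (K2.f76728 IH) (Lpr_bt (K2.f67356 IH) (Lpn (LP (LK LD1_c0 LD2_c18 LD3_c61))))))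
theorem f82789 : Led Lsl_gf (LP (LK LD1_c0 LD2_c30 LD3_c18)) = (LP (LK LD1_c0 LD2_c42 LD3_c42)) :=
  Lgr Lrot145 (Lpe (f25776 IH) (Lpr_et (f82788 IH) (Lpr_gt (K0.f20963 IH) (Lpe (K1.f20982 IH) (Lpr_gt (K1.f20981 IH) (Lpe (K1.f13540 IH) (Lpr_et (f82652 IH) (Lpr_gt (K0.f13449 IH) (Lpr_ef (f77099 IH) (Lpr_dt (K2.f67359 IH) (Lpn (LP (LK LD1_c0 LD2_c42 LD3_c42)))))))))))))
theorem f82791 : Led Lsl_gt (LP (LK LD1_c0 LD2_c30 LD3_c18)) = (LP (LK LD1_c0 LD2_c42 LD3_c40)) :=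
  Lgr Lrot46 (Lpr_gf (f82789 IH) (Lpe (K2.f67368 IH) (Lpr_at (K2.f67419 IH) (Lpn (LP (LK LD1_c0 LD2_c42 LD3_c40))))))
theorem f82794 : Led Lsl_ct (LP (LK LD1_c1 LD2_c6 LD3_c18)) = (LP (LK LD1_c0 LD2_c30 LD3_c18)) :=
  Lre_c IH (LK LD1_c1 LD2_c6 LD3_c18) (LK LD1_c0 LD2_c30 LD3_c18) Lrfl Lrfl
theorem f82795 : Led Lsl_bt (LP (LK LD1_c1 LD2_c6 LD3_c18)) = (LP (LK LD1_c2 LD2_c18 LD3_c34)) :=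
  Lre_b IH (LK LD1_c1 LD2_c6 LD3_c18) (LK LD1_c2 LD2_c18 LD3_c34) Lrfl Lrfl
theorem f82825 : Led Lsl_gt (LP (LK LD1_c4 LD2_c42 LD3_c25)) = (LP (LK LD1_c2 LD2_c18 LD3_c34)) :=
  Lre_g IH (LK LD1_c4 LD2_c42 LD3_c25) (LK LD1_c2 LD2_c18 LD3_c34) Lrfl Lrfl
theorem f82826 : Led Lsl_bt (LP (LK LD1_c9 LD2_c19 LD3_c9)) = (LP (LK LD1_c4 LD2_c42 LD3_c25)) :=
  Lre_b IH (LK LD1_c9 LD2_c19 LD3_c9) (LK LD1_c4 LD2_c42 LD3_c25) Lrfl Lrfl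
theorem f82827 : Led Lsl_ct (LP (LK LD1_c9 LD2_c19 LD3_c9)) = (LP (LK LD1_c17 LD2_c14 LD3_c36)) :=
  Lre_c IH (LK LD1_c9 LD2_c19 LD3_c9) (LK LD1_c17 LD2_c14 LD3_c36) Lrfl Lrfl
theorem f68081 : Led Lsl_ct (LP (LK LD1_c6 LD2_c27 LD3_c44)) = (LP (LK LD1_c12 LD2_c26 LD3_c50)) :=
  Lre_c IH (LK LD1_c6 LD2_c27 LD3_c44) (LK LD1_c12 LD2_c26 LD3_c50) Lrfl Lrfl
theorem f82828 : Led Lsl_gf (LP (LK LD1_c17 LD2_c14 LD3_c36)) = (LP (LK LD1_c12 LD2_c26 LD3_c50)) :=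
  Lgr Lrot129 (Lpe (f82827 IH) (Lpr_bt (f82826 IH) (Lpr_gt (f82825 IH) (Lpe (f82795 IH) (Lpr_ct (f82794 IH) (Lpr_gt (f82791 IH) (Lpe (K2.f25817 IH) (Lpr_bt (K2.f67415 IH) (Lpr_gt (f68080 IH) (Lpr_ct (f68081 IH) (Lpn (LP (LK LD1_c12 LD2_c26 LD3_c50)))))))))))))
theorem f82846 : Led Lsl_ct (LP (LK LD1_c2 LD2_c18 LD3_c34)) = (LP (LK LD1_c4 LD2_c41 LD3_c60)) :=
  Lre_c IH (LK LD1_c2 LD2_c18 LD3_c34) (LK LD1_c4 LD2_c41 LD3_c60) Lrfl Lrfl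
theorem f82847 : Led Lsl_gt (LP (LK LD1_c4 LD2_c41 LD3_c60)) = (LP (LK LD1_c9 LD2_c18 LD3_c25)) :=
  Lre_g IH (LK LD1_c4 LD2_c41 LD3_c60) (LK LD1_c9 LD2_c18 LD3_c25) Lrfl Lrfl
theorem f82848 : Led Lsl_ct (LP (LK LD1_c17 LD2_c13 LD3_c34)) = (LP (LK LD1_c9 LD2_c18 LD3_c25)) :=
  Lre_c IH (LK LD1_c17 LD2_c13 LD3_c34) (LK LD1_c9 LD2_c18 LD3_c25) Lrfl Lrfl
theorem f82849 : Led Lsl_bt (LP (LK LD1_c6 LD2_c27 LD3_c44)) = (LP (LK LD1_c12 LD2_c26 LD3_c49)) :=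
  Lre_b IH (LK LD1_c6 LD2_c27 LD3_c44) (LK LD1_c12 LD2_c26 LD3_c49) Lrfl Lrfl
theorem f82851 : Led Lsl_bt (LP (LK LD1_c17 LD2_c13 LD3_c34)) = (LP (LK LD1_c21 LD2_c34 LD3_c4)) :=
  Lgr Lrot22 (Lpr_ct (f82848 IH) (Lpe (f82847 IH) (Lpe (f82846 IH) (Lpe (f82825 IH) (Lpe (f82826 IH) (Lpr_ct (f82827 IH) (Lpr_gf (f82828 IH) (Lpe (f68081 IH) (Lpr_bt (f82849 IH) (Lpe (f82850 IH) (Lpn (LP (LK LD1_c21 LD2_c34 LD3_c4)))))))))))))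
theorem f82861 : Led Lsl_bt (LP (LK LD1_c2 LD2_c18 LD3_c34)) = (LP (LK LD1_c1 LD2_c6 LD3_c18)) :=
  Lre_b IH (LK LD1_c2 LD2_c18 LD3_c34) (LK LD1_c1 LD2_c6 LD3_c18) Lrfl Lrfl
theorem f57920 : Led Lsl_ct (LP (LK LD1_c2 LD2_c23 LD3_c0)) = (LP (LK LD1_c4 LD2_c47 LD3_c41)) :=
  Lre_c IH (LK LD1_c2 LD2_c23 LD3_c0) (LK LD1_c4 LD2_c47 LD3_c41) Lrfl Lrfl
theorem f57919 : Led Lsl_bt (LP (LK LD1_c2 LD2_c23 LD3_c0)) = (LP (LK LD1_c1 LD2_c8 LD3_c37)) :=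
  Lre_b IH (LK LD1_c2 LD2_c23 LD3_c0) (LK LD1_c1 LD2_c8 LD3_c37) Lrfl Lrfl
theorem f86017 : Led Lsl_gf (LP (LK LD1_c1 LD2_c6 LD3_c18)) = (LP (LK LD1_c1 LD2_c8 LD3_c37)) :=
  Lgr Lrot124 (Lpe (f82861 IH) (Lpr_ct (f82846 IH) (Lpr_gt (f82847 IH) (Lpe (f82848 IH) (Lpr_bt (f82851 IH) (Lpr_gt (f82850 IH) (Lpr_ct (f86010 IH) (Lpr_gt (f79599 IH) (Lpe (f57920 IH) (Lpr_bt (f57919 IH) (Lpn (LP (LK LD1_c1 LD2_c8 LD3_c37)))))))))))))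
theorem f25615 : Led Lsl_ff (LP (LK LD1_c1 LD2_c29 LD3_c11)) = (LP (LK LD1_c1 LD2_c8 LD3_c37)) :=
  Lgr Lrot23 (Lpr_ct (K1.f25614 IH) (Lpr_ft (K0.f25602 IH) (Lpr_ct (K2.f7454 IH) (Lpn (LP (LK LD1_c1 LD2_c8 LD3_c37))))))
theorem f7504 : Led Lsl_et (LP (LK LD1_c1 LD2_c27 LD3_c31)) = (LP (LK LD1_c3 LD2_c3 LD3_c13)) :=
  Lre_e IH (LK LD1_c1 LD2_c27 LD3_c31) (LK LD1_c3 LD2_c3 LD3_c13) Lrfl Lrfl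
theorem f25693 : Led Lsl_et (LP (LK LD1_c3 LD2_c6 LD3_c11)) = (LP (LK LD1_c1 LD2_c29 LD3_c11)) :=
  Lre_e IH (LK LD1_c3 LD2_c6 LD3_c11) (LK LD1_c1 LD2_c29 LD3_c11) Lrfl Lrfl
theorem f58514 : Led Lsl_af (LP (LK LD1_c1 LD2_c27 LD3_c31)) = (LP (LK LD1_c1 LD2_c29 LD3_c11)) :=
  Lgr Lrot50 (Lpr_et (f7504 IH) (Lpr_at (K1.f58487 IH) (Lpr_et (f25693 IH) (Lpn (LP (LK LD1_c1 LD2_c29 LD3_c11))))))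
theorem f86019 : Led Lsl_gt (LP (LK LD1_c1 LD2_c6 LD3_c18)) = (LP (LK LD1_c1 LD2_c27 LD3_c31)) :=
  Lgr Lrot46 (Lpr_gf (f86017 IH) (Lpe (f25615 IH) (Lpe (f58514 IH) (Lpn (LP (LK LD1_c1 LD2_c27 LD3_c31))))))
theorem f25777 : Led Lsl_ct (LP (LK LD1_c0 LD2_c30 LD3_c18)) = (LP (LK LD1_c1 LD2_c6 LD3_c18)) :=
  Lre_c IH (LK LD1_c0 LD2_c30 LD3_c18) (LK LD1_c1 LD2_c6 LD3_c18) Lrfl Lrfl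
theorem f86029 : Led Lsl_gt (LP (LK LD1_c0 LD2_c3 LD3_c54)) = (LP (LK LD1_c0 LD2_c8 LD3_c8)) :=
  Lgr Lrot150 (Lpe (K1.f24986 IH) (Lpe (K1.f25787 IH) (Lpe (K2.f67361 IH) (Lpe (f82789 IH) (Lpr_ct (f25777 IH) (Lpr_gt (f86019 IH) (Lpr_ct (K2.f7489 IH) (Lpe (K0.f7465 IH) (Lpe (K1.f7486 IH) (Lpn (LP (LK LD1_c0 LD2_c8 LD3_c8))))))))))))
theorem f67365 : Led Lsl_gt (LP (LK LD1_c1 LD2_c32 LD3_c15)) = (LP (LK LD1_c0 LD2_c42 LD3_c41)) :=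
  Lre_g IH (LK LD1_c1 LD2_c32 LD3_c15) (LK LD1_c0 LD2_c42 LD3_c41) Lrfl Lrfl
theorem f64525 : Led Lsl_bt (LP (LK LD1_c0 LD2_c18 LD3_c7)) = (LP (LK LD1_c0 LD2_c40 LD3_c22)) :=
  Lre_b IH (LK LD1_c0 LD2_c18 LD3_c7) (LK LD1_c0 LD2_c40 LD3_c22) Lrfl Lrfl
theorem f12162 : Led Lsl_gt (LP (LK LD1_c0 LD2_c40 LD3_c22)) = (LP (LK LD1_c1 LD2_c27 LD3_c11)) :=
  Lre_g IH (LK LD1_c0 LD2_c40 LD3_c22) (LK LD1_c1 LD2_c27 LD3_c11) Lrfl Lrfl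
theorem f85008 : Led Lsl_bt (LP (LK LD1_c3 LD2_c2 LD3_c26)) = (LP (LK LD1_c1 LD2_c27 LD3_c11)) :=
  Lre_b IH (LK LD1_c3 LD2_c2 LD3_c26) (LK LD1_c1 LD2_c27 LD3_c11) Lrfl Lrfl
theorem f86063 : Led Lsl_cf (LP (LK LD1_c1 LD2_c32 LD3_c15)) = (LP (LK LD1_c3 LD2_c2 LD3_c26)) :=
  Lgr Lrot160 (Lpr_gt (f67365 IH) (Lpe (K2.f67357 IH) (Lpr_bt (K2.f67356 IH) (Lpr_gt (K1.f25787 IH) (Lpr_ct (K1.f24986 IH) (Lpr_gt (f86029 IH) (Lpe (K2.f7487 IH) (Lpr_bt (f64525 IH) (Lpr_gt (f12162 IH) (Lpe (f85008 IH) (Lpn (LP (LK LD1_c3 LD2_c2 LD3_c26)))))))))))))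
theorem f67721 : Led Lsl_at (LP (LK LD1_c1 LD2_c32 LD3_c16)) = (LP (LK LD1_c0 LD2_c42 LD3_c41)) :=
  Lre_a IH (LK LD1_c1 LD2_c32 LD3_c16) (LK LD1_c0 LD2_c42 LD3_c41) Lrfl Lrfl
theorem f67898 : Led Lsl_gt (LP (LK LD1_c1 LD2_c29 LD3_c19)) = (LP (LK LD1_c1 LD2_c32 LD3_c15)) :=
  Lgr Lrot5 (Lpr_ft (K2.f67888 IH) (Lpr_at (f67721 IH) (Lpe (f67365 IH) (Lpn (LP (LK LD1_c1 LD2_c32 LD3_c15))))))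
theorem f78757 : Led Lsl_at (LP (LK LD1_c1 LD2_c34 LD3_c58)) = (LP (LK LD1_c0 LD2_c44 LD3_c11)) :=
  Lre_a IH (LK LD1_c1 LD2_c34 LD3_c58) (LK LD1_c0 LD2_c44 LD3_c11) Lrfl Lrfl
theorem f78733 : Led Lsl_cf (LP (LK LD1_c3 LD2_c16 LD3_c32)) = (LP (LK LD1_c6 LD2_c18 LD3_c4)) :=
  Lgr Lrot11 (Lpr_ct (K2.f78730 IH) (Lpn (LP (LK LD1_c6 LD2_c18 LD3_c4))))
theorem f14703 : Led Lsl_dt (LP (LK LD1_c3 LD2_c16 LD3_c32)) = (LP (LK LD1_c1 LD2_c34 LD3_c59)) :=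
  Lre_d IH (LK LD1_c3 LD2_c16 LD3_c32) (LK LD1_c1 LD2_c34 LD3_c59) Lrfl Lrfl
theorem f78134 : Led Lsl_dt (LP (LK LD1_c3 LD2_c6 LD3_c16)) = (LP (LK LD1_c6 LD2_c18 LD3_c4)) :=
  Lre_d IH (LK LD1_c3 LD2_c6 LD3_c16) (LK LD1_c6 LD2_c18 LD3_c4) Lrfl Lrfl
theorem f25112 : Led Lsl_dt (LP (LK LD1_c3 LD2_c6 LD3_c14)) = (LP (LK LD1_c1 LD2_c29 LD3_c12)) :=
  Lre_d IH (LK LD1_c3 LD2_c6 LD3_c14) (LK LD1_c1 LD2_c29 LD3_c12) Lrfl Lrfl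
theorem f78758 : Led Lsl_ff (LP (LK LD1_c1 LD2_c34 LD3_c58)) = (LP (LK LD1_c3 LD2_c6 LD3_c14)) :=
  Lgr Lrot103 (Lpr_at (f78757 IH) (Lpe (K2.f14702 IH) (Lpe (f14703 IH) (Lpr_cf (f78733 IH) (Lpe (f78134 IH) (Lpe (K2.f25055 IH) (Lpe (K2.f25054 IH) (Lpe (K2.f25114 IH) (Lpe (f25112 IH) (Lpn (LP (LK LD1_c3 LD2_c6 LD3_c14))))))))))))
theorem f79252 : Led Lsl_gf (LP (LK LD1_c1 LD2_c34 LD3_c16)) = (LP (LK LD1_c3 LD2_c6 LD3_c14)) :=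
  Lgr Lrot47 (Lpr_gt (K2.f79091 IH) (Lpe (f78757 IH) (Lpr_ff (f78758 IH) (Lpn (LP (LK LD1_c3 LD2_c6 LD3_c14))))))
theorem f23343 : Led Lsl_dt (LP (LK LD1_c1 LD2_c34 LD3_c16)) = (LP (LK LD1_c0 LD2_c43 LD3_c48)) :=
  Lre_d IH (LK LD1_c1 LD2_c34 LD3_c16) (LK LD1_c0 LD2_c43 LD3_c48) Lrfl Lrfl
theorem f23561 : Led Lsl_dt (LP (LK LD1_c0 LD2_c19 LD3_c34)) = (LP (LK LD1_c0 LD2_c43 LD3_c50)) :=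
  Lre_d IH (LK LD1_c0 LD2_c19 LD3_c34) (LK LD1_c0 LD2_c43 LD3_c50) Lrfl Lrfl
theorem f23339 : Led Lsl_ct (LP (LK LD1_c1 LD2_c34 LD3_c18)) = (LP (LK LD1_c0 LD2_c43 LD3_c50)) :=
  Lre_c IH (LK LD1_c1 LD2_c34 LD3_c18) (LK LD1_c0 LD2_c43 LD3_c50) Lrfl Lrfl
theorem f23340 : Led Lsl_dt (LP (LK LD1_c3 LD2_c15 LD3_c17)) = (LP (LK LD1_c1 LD2_c34 LD3_c18)) :=
  Lre_d IH (LK LD1_c3 LD2_c15 LD3_c17) (LK LD1_c1 LD2_c34 LD3_c18) Lrfl Lrfl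
theorem f78764 : Led Lsl_ct (LP (LK LD1_c3 LD2_c16 LD3_c28)) = (LP (LK LD1_c1 LD2_c34 LD3_c58)) :=
  Lre_c IH (LK LD1_c3 LD2_c16 LD3_c28) (LK LD1_c1 LD2_c34 LD3_c58) Lrfl Lrfl
theorem f78762 : Led Lsl_ft (LP (LK LD1_c1 LD2_c34 LD3_c58)) = (LP (LK LD1_c3 LD2_c6 LD3_c14)) :=
  Lgr Lrot48 (Lpr_ff (f78758 IH) (Lpn (LP (LK LD1_c3 LD2_c6 LD3_c14))))
theorem f79027 : Led Lsl_ct (LP (LK LD1_c3 LD2_c6 LD3_c14)) = (LP (LK LD1_c3 LD2_c8 LD3_c14)) :=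
  Lgr Lrot40 (Lpe (f78762 IH) (Lpe (f78764 IH) (Lpr_ff (K2.f79023 IH) (Lpn (LP (LK LD1_c3 LD2_c8 LD3_c14))))))
theorem f79330 : Led Lsl_gf (LP (LK LD1_c3 LD2_c15 LD3_c17)) = (LP (LK LD1_c6 LD2_c21 LD3_c8)) :=
  Lgr Lrot154 (Lpr_dt (f23340 IH) (Lpr_ct (f23339 IH) (Lpe (f23561 IH) (Lpe (K2.f23342 IH) (Lpe (f23343 IH) (Lpr_gf (f79252 IH) (Lpr_ct (f79027 IH) (Lpe (K2.f79021 IH) (Lpr_dt (K2.f78718 IH) (Lpn (LP (LK LD1_c6 LD2_c21 LD3_c8))))))))))))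
theorem f77169 : Led Lsl_ct (LP (LK LD1_c6 LD2_c21 LD3_c5)) = (LP (LK LD1_c3 LD2_c22 LD3_c40)) :=
  Lgr Lrot59 (Lpr_cf (K2.f77160 IH) (Lpn (LP (LK LD1_c3 LD2_c22 LD3_c40))))
theorem f77171 : Led Lsl_dt (LP (LK LD1_c3 LD2_c8 LD3_c12)) = (LP (LK LD1_c6 LD2_c21 LD3_c5)) :=
  Lre_d IH (LK LD1_c3 LD2_c8 LD3_c12) (LK LD1_c6 LD2_c21 LD3_c5) Lrfl Lrfl
theorem f77172 : Led Lsl_ct (LP (LK LD1_c1 LD2_c30 LD3_c20)) = (LP (LK LD1_c3 LD2_c8 LD3_c12)) :=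
  Lre_c IH (LK LD1_c1 LD2_c30 LD3_c20) (LK LD1_c3 LD2_c8 LD3_c12) Lrfl Lrfl
theorem f77187 : Led Lsl_df (LP (LK LD1_c1 LD2_c30 LD3_c20)) = (LP (LK LD1_c0 LD2_c42 LD3_c47)) :=
  Lgr Lrot43 (Lpr_ct (f77172 IH) (Lpr_dt (f77171 IH) (Lpr_ct (f77169 IH) (Lpr_dt (K2.f9750 IH) (Lpr_ct (K2.f9749 IH) (Lpr_dt (K2.f9748 IH) (Lpr_ct (K0.f9737 IH) (Lpr_dt (K2.f9751 IH) (Lpr_ct (K2.f9752 IH) (Lpr_dt (K2.f9753 IH) (Lpe (K2.f77160 IH) (Lpr_dt (K2.f77159 IH) (Lpr_ct (K2.f77158 IH) (Lpr_dt (K2.f77180 IH) (Lpe (K2.f13493 IH) (Lpn (LP (LK LD1_c0 LD2_c42 LD3_c47))))))))))))))))))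
theorem f77197 : Led Lsl_at (LP (LK LD1_c1 LD2_c30 LD3_c21)) = (LP (LK LD1_c3 LD2_c8 LD3_c12)) :=
  Lre_a IH (LK LD1_c1 LD2_c30 LD3_c21) (LK LD1_c3 LD2_c8 LD3_c12) Lrfl Lrfl
theorem f77198 : Led Lsl_ft (LP (LK LD1_c1 LD2_c37 LD3_c36)) = (LP (LK LD1_c1 LD2_c30 LD3_c21)) :=
  Lgr Lrot142 (Lpr_dt (K2.f9753 IH) (Lpe (K2.f77160 IH) (Lpr_dt (K2.f77159 IH) (Lpr_ct (K2.f77158 IH) (Lpr_dt (K2.f77180 IH) (Lpe (K2.f13493 IH) (Lpe (f77187 IH) (Lpr_ct (f77172 IH) (Lpe (f77197 IH) (Lpn (LP (LK LD1_c1 LD2_c30 LD3_c21))))))))))))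
theorem f77205 : Led Lsl_dt (LP (LK LD1_c1 LD2_c30 LD3_c21)) = (LP (LK LD1_c3 LD2_c8 LD3_c15)) :=
  Lre_d IH (LK LD1_c1 LD2_c30 LD3_c21) (LK LD1_c3 LD2_c8 LD3_c15) Lrfl Lrfl
theorem f77206 : Led Lsl_ff (LP (LK LD1_c3 LD2_c22 LD3_c40)) = (LP (LK LD1_c3 LD2_c8 LD3_c15)) :=
  Lgr Lrot19 (Lpr_dt (K2.f9750 IH) (Lpr_ft (f77198 IH) (Lpr_dt (f77205 IH) (Lpn (LP (LK LD1_c3 LD2_c8 LD3_c15))))))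
theorem f77183 : Led Lsl_df (LP (LK LD1_c0 LD2_c41 LD3_c44)) = (LP (LK LD1_c0 LD2_c19 LD3_c2)) :=
  Lgr Lrot18 (Lpr_at (K2.f77147 IH) (Lpr_dt (K2.f77180 IH) (Lpr_at (K0.f13480 IH) (Lpn (LP (LK LD1_c0 LD2_c19 LD3_c2))))))
theorem f77218 : Led Lsl_at (LP (LK LD1_c3 LD2_c22 LD3_c40)) = (LP (LK LD1_c6 LD2_c21 LD3_c8)) :=
  Lgr Lrot33 (Lpr_ff (f77206 IH) (Lpr_dt (K2.f61632 IH) (Lpr_ct (K2.f58901 IH) (Lpe (K2.f58920 IH) (Lpr_ct (K0.f13483 IH) (Lpe (f77183 IH) (Lpr_ct (K2.f77151 IH) (Lpr_dt (f77205 IH) (Lpr_ct (K2.f77163 IH) (Lpn (LP (LK LD1_c6 LD2_c21 LD3_c8))))))))))))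
theorem f77226 : Led Lsl_ff (LP (LK LD1_c6 LD2_c21 LD3_c5)) = (LP (LK LD1_c6 LD2_c21 LD3_c8)) :=
  Lgr Lrot30 (Lpr_at (K2.f77162 IH) (Lpe (f77206 IH) (Lpr_at (f77218 IH) (Lpn (LP (LK LD1_c6 LD2_c21 LD3_c8))))))
theorem f79332 : Led Lsl_gt (LP (LK LD1_c3 LD2_c15 LD3_c17)) = (LP (LK LD1_c3 LD2_c8 LD3_c15)) :=
  Lgr Lrot46 (Lpr_gf (f79330 IH) (Lpe (f77226 IH) (Lpr_at (K2.f77162 IH) (Lpn (LP (LK LD1_c3 LD2_c8 LD3_c15))))))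
theorem f65548 : Led Lsl_dt (LP (LK LD1_c1 LD2_c34 LD3_c18)) = (LP (LK LD1_c3 LD2_c15 LD3_c17)) :=
  Lre_d IH (LK LD1_c1 LD2_c34 LD3_c18) (LK LD1_c3 LD2_c15 LD3_c17) Lrfl Lrfl
theorem f65393 : Led Lsl_bt (LP (LK LD1_c0 LD2_c43 LD3_c50)) = (LP (LK LD1_c0 LD2_c19 LD3_c36)) :=
  Lre_b IH (LK LD1_c0 LD2_c43 LD3_c50) (LK LD1_c0 LD2_c19 LD3_c36) Lrfl Lrfl
theorem f23562 : Led Lsl_ct (LP (LK LD1_c0 LD2_c43 LD3_c50)) = (LP (LK LD1_c1 LD2_c34 LD3_c18)) :=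
  Lre_c IH (LK LD1_c0 LD2_c43 LD3_c50) (LK LD1_c1 LD2_c34 LD3_c18) Lrfl Lrfl
theorem f22467 : Led Lsl_bt (LP (LK LD1_c0 LD2_c18 LD3_c6)) = (LP (LK LD1_c0 LD2_c40 LD3_c21)) :=
  Lre_b IH (LK LD1_c0 LD2_c18 LD3_c6) (LK LD1_c0 LD2_c40 LD3_c21) Lrfl Lrfl
theorem f65394 : Led Lsl_gt (LP (LK LD1_c1 LD2_c34 LD3_c18)) = (LP (LK LD1_c1 LD2_c32 LD3_c46)) :=
  Lgr Lrot65 (Lpe (f23562 IH) (Lpr_bt (f65393 IH) (Lpr_gf (K1.f65253 IH) (Lpe (f22467 IH) (Lpr_ct (K1.f20077 IH) (Lpr_gf (K0.f22445 IH) (Lpr_cf (K1.f59479 IH) (Lpr_gf (K1.f61009 IH) (Lpe (K2.f61001 IH) (Lpr_ct (K2.f61205 IH) (Lpn (LP (LK LD1_c1 LD2_c32 LD3_c46)))))))))))))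
theorem f76453 : Led Lsl_gf (LP (LK LD1_c1 LD2_c34 LD3_c18)) = (LP (LK LD1_c3 LD2_c6 LD3_c23)) :=
  Lgr Lrot47 (Lpr_gt (f65394 IH) (Lpe (K2.f61525 IH) (Lpr_ff (K2.f76440 IH) (Lpn (LP (LK LD1_c3 LD2_c6 LD3_c23))))))
theorem f13497 : Led Lsl_dt (LP (LK LD1_c1 LD2_c32 LD3_c24)) = (LP (LK LD1_c0 LD2_c42 LD3_c46)) :=
  Lre_d IH (LK LD1_c1 LD2_c32 LD3_c24) (LK LD1_c0 LD2_c42 LD3_c46) Lrfl Lrfl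
theorem f79379 : Led Lsl_gt (LP (LK LD1_c1 LD2_c29 LD3_c18)) = (LP (LK LD1_c1 LD2_c32 LD3_c24)) :=
  Lgr Lrot94 (Lpe (K2.f25118 IH) (Lpe (f76453 IH) (Lpr_dt (f65548 IH) (Lpr_gt (f79332 IH) (Lpr_dt (K2.f61632 IH) (Lpe (K2.f77151 IH) (Lpr_df (f77183 IH) (Lpe (K0.f13495 IH) (Lpe (f13497 IH) (Lpn (LP (LK LD1_c1 LD2_c32 LD3_c24))))))))))))
theorem f13496 : Led Lsl_dt (LP (LK LD1_c0 LD2_c42 LD3_c46)) = (LP (LK LD1_c1 LD2_c32 LD3_c24)) :=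
  Lre_d IH (LK LD1_c0 LD2_c42 LD3_c46) (LK LD1_c1 LD2_c32 LD3_c24) Lrfl Lrfl
theorem f62879 : Led Lsl_dt (LP (LK LD1_c0 LD2_c18 LD3_c3)) = (LP (LK LD1_c0 LD2_c40 LD3_c21)) :=
  Lre_d IH (LK LD1_c0 LD2_c18 LD3_c3) (LK LD1_c0 LD2_c40 LD3_c21) Lrfl Lrfl
theorem f62880 : Led Lsl_et (LP (LK LD1_c0 LD2_c18 LD3_c3)) = (LP (LK LD1_c0 LD2_c40 LD3_c22)) :=
  Lre_e IH (LK LD1_c0 LD2_c18 LD3_c3) (LK LD1_c0 LD2_c40 LD3_c22) Lrfl Lrfl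
theorem f64485 : Led Lsl_et (LP (LK LD1_c0 LD2_c3 LD3_c60)) = (LP (LK LD1_c0 LD2_c8 LD3_c5)) :=
  Lre_e IH (LK LD1_c0 LD2_c3 LD3_c60) (LK LD1_c0 LD2_c8 LD3_c5) Lrfl Lrfl
theorem f61953 : Led Lsl_bt (LP (LK LD1_c0 LD2_c19 LD3_c44)) = (LP (LK LD1_c0 LD2_c44 LD3_c14)) :=
  Lre_b IH (LK LD1_c0 LD2_c19 LD3_c44) (LK LD1_c0 LD2_c44 LD3_c14) Lrfl Lrfl
theorem f61954 : Led Lsl_dt (LP (LK LD1_c0 LD2_c18 LD3_c0)) = (LP (LK LD1_c0 LD2_c19 LD3_c44)) :=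
  Lgr Lrot79 (Lpe (K1.f24972 IH) (Lpr_df (K1.f61937 IH) (Lpe (f61953 IH) (Lpn (LP (LK LD1_c0 LD2_c19 LD3_c44))))))
theorem f64491 : Led Lsl_et (LP (LK LD1_c0 LD2_c19 LD3_c32)) = (LP (LK LD1_c0 LD2_c43 LD3_c46)) :=
  Lre_e IH (LK LD1_c0 LD2_c19 LD3_c32) (LK LD1_c0 LD2_c43 LD3_c46) Lrfl Lrfl
theorem f64492 : Led Lsl_gf (LP (LK LD1_c0 LD2_c40 LD3_c15)) = (LP (LK LD1_c0 LD2_c43 LD3_c46)) :=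
  Lgr Lrot141 (Lpe (K1.f61984 IH) (Lpr_dt (f61954 IH) (Lpr_gt (K1.f61875 IH) (Lpe (K1.f62960 IH) (Lpr_et (f64485 IH) (Lpr_gt (K1.f7106 IH) (Lpr_dt (K1.f64294 IH) (Lpr_gt (K1.f14700 IH) (Lpe (K1.f62000 IH) (Lpr_et (f64491 IH) (Lpn (LP (LK LD1_c0 LD2_c43 LD3_c46)))))))))))))
theorem f58152 : Led Lsl_ft (LP (LK LD1_c0 LD2_c43 LD3_c46)) = (LP (LK LD1_c1 LD2_c26 LD3_c40)) :=
  Lre_f IH (LK LD1_c0 LD2_c43 LD3_c46) (LK LD1_c1 LD2_c26 LD3_c40) Lrfl Lrfl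
theorem f64495 : Led Lsl_at (LP (LK LD1_c1 LD2_c26 LD3_c40)) = (LP (LK LD1_c0 LD2_c40 LD3_c22)) :=
  Lre_a IH (LK LD1_c1 LD2_c26 LD3_c40) (LK LD1_c0 LD2_c40 LD3_c22) Lrfl Lrfl
theorem f64496 : Led Lsl_gt (LP (LK LD1_c0 LD2_c40 LD3_c15)) = (LP (LK LD1_c0 LD2_c40 LD3_c22)) :=
  Lgr Lrot46 (Lpr_gf (f64492 IH) (Lpr_ft (f58152 IH) (Lpr_at (f64495 IH) (Lpn (LP (LK LD1_c0 LD2_c40 LD3_c22))))))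
theorem f13806 : Led Lsl_gt (LP (LK LD1_c0 LD2_c43 LD3_c45)) = (LP (LK LD1_c0 LD2_c19 LD3_c44)) :=
  Lre_g IH (LK LD1_c0 LD2_c43 LD3_c45) (LK LD1_c0 LD2_c19 LD3_c44) Lrfl Lrfl
theorem f65397 : Led Lsl_et (LP (LK LD1_c0 LD2_c8 LD3_c48)) = (LP (LK LD1_c0 LD2_c8 LD3_c48)) :=
  Lgr Lrot121 (Lpr_dt (K2.f7158 IH) (Lpr_gf (K1.f65253 IH) (Lpe (f62879 IH) (Lpr_et (f62880 IH) (Lpe (f64496 IH) (Lpe (K1.f61984 IH) (Lpr_dt (f61954 IH) (Lpe (f13806 IH) (Lpe (K1.f62000 IH) (Lpe (K0.f14705 IH) (Lpn (LP (LK LD1_c0 LD2_c8 LD3_c48)))))))))))))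
theorem f65403 : Led Lsl_ef (LP (LK LD1_c0 LD2_c19 LD3_c34)) = (LP (LK LD1_c0 LD2_c19 LD3_c34)) :=
  Lgr Lrot29 (Lpr_bt (K0.f23328 IH) (Lpr_et (f65397 IH) (Lpr_bt (K2.f23333 IH) (Lpn (LP (LK LD1_c0 LD2_c19 LD3_c34))))))
theorem f23335 : Led Lsl_ct (LP (LK LD1_c0 LD2_c42 LD3_c46)) = (LP (LK LD1_c0 LD2_c19 LD3_c34)) :=
  Lgr Lrot59 (Lpr_cf (K0.f23329 IH) (Lpn (LP (LK LD1_c0 LD2_c19 LD3_c34))))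
theorem f65541 : Led Lsl_et (LP (LK LD1_c0 LD2_c42 LD3_c46)) = (LP (LK LD1_c0 LD2_c42 LD3_c46)) :=
  Lgr Lrot158 (Lpr_cf (K0.f23329 IH) (Lpr_ef (f65403 IH) (Lpe (f23335 IH) (Lpn (LP (LK LD1_c0 LD2_c42 LD3_c46))))))
theorem f77973 : Led Lsl_et (LP (LK LD1_c0 LD2_c41 LD3_c15)) = (LP (LK LD1_c1 LD2_c29 LD3_c14)) :=
  Lre_e IH (LK LD1_c0 LD2_c41 LD3_c15) (LK LD1_c1 LD2_c29 LD3_c14) Lrfl Lrfl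
theorem f79387 : Led Lsl_gf (LP (LK LD1_c1 LD2_c29 LD3_c19)) = (LP (LK LD1_c1 LD2_c29 LD3_c14)) :=
  Lgr Lrot141 (Lpe (K2.f25124 IH) (Lpr_dt (K2.f25120 IH) (Lpr_gt (f79379 IH) (Lpe (f13496 IH) (Lpr_et (f65541 IH) (Lpr_gt (K0.f13495 IH) (Lpe (f77183 IH) (Lpe (K2.f78122 IH) (Lpe (K2.f25054 IH) (Lpr_et (f77973 IH) (Lpn (LP (LK LD1_c1 LD2_c29 LD3_c14)))))))))))))
theorem f77883 : Led Lsl_ct (LP (LK LD1_c2 LD2_c17 LD3_c13)) = (LP (LK LD1_c1 LD2_c5 LD3_c34)) :=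
  Lre_c IH (LK LD1_c2 LD2_c17 LD3_c13) (LK LD1_c1 LD2_c5 LD3_c34) Lrfl Lrfl
theorem f13800 : Led Lsl_gt (LP (LK LD1_c2 LD2_c20 LD3_c17)) = (LP (LK LD1_c1 LD2_c7 LD3_c53)) :=
  Lre_g IH (LK LD1_c2 LD2_c20 LD3_c17) (LK LD1_c1 LD2_c7 LD3_c53) Lrfl Lrfl
theorem f13802 : Led Lsl_gt (LP (LK LD1_c0 LD2_c31 LD3_c6)) = (LP (LK LD1_c1 LD2_c7 LD3_c27)) :=
  Lre_g IH (LK LD1_c0 LD2_c31 LD3_c6) (LK LD1_c1 LD2_c7 LD3_c27) Lrfl Lrfl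
theorem f78160 : Led Lsl_bt (LP (LK LD1_c1 LD2_c7 LD3_c46)) = (LP (LK LD1_c0 LD2_c31 LD3_c6)) :=
  Lre_b IH (LK LD1_c1 LD2_c7 LD3_c46) (LK LD1_c0 LD2_c31 LD3_c6) Lrfl Lrfl
theorem f78161 : Led Lsl_ct (LP (LK LD1_c1 LD2_c7 LD3_c46)) = (LP (LK LD1_c2 LD2_c20 LD3_c51)) :=
  Lre_c IH (LK LD1_c1 LD2_c7 LD3_c46) (LK LD1_c2 LD2_c20 LD3_c51) Lrfl Lrfl
theorem f17130 : Led Lsl_bt (LP (LK LD1_c0 LD2_c45 LD3_c26)) = (LP (LK LD1_c1 LD2_c37 LD3_c33)) :=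
  Lre_b IH (LK LD1_c0 LD2_c45 LD3_c26) (LK LD1_c1 LD2_c37 LD3_c33) Lrfl Lrfl
theorem f78162 : Led Lsl_gf (LP (LK LD1_c2 LD2_c20 LD3_c51)) = (LP (LK LD1_c1 LD2_c37 LD3_c59)) :=
  Lgr Lrot126 (Lpe (f78161 IH) (Lpr_bt (f78160 IH) (Lpr_gt (f13802 IH) (Lpr_ct (K0.f13771 IH) (Lpr_gt (f13800 IH) (Lpr_cf (K2.f78094 IH) (Lpr_bt (K2.f77903 IH) (Lpr_gt (K2.f78129 IH) (Lpe (f17130 IH) (Lpr_ct (K0.f15040 IH) (Lpn (LP (LK LD1_c1 LD2_c37 LD3_c59)))))))))))))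
theorem f78194 : Led Lsl_ct (LP (LK LD1_c2 LD2_c20 LD3_c51)) = (LP (LK LD1_c1 LD2_c7 LD3_c46)) :=
  Lre_c IH (LK LD1_c2 LD2_c20 LD3_c51) (LK LD1_c1 LD2_c7 LD3_c46) Lrfl Lrfl
theorem f66633 : Led Lsl_df (LP (LK LD1_c0 LD2_c47 LD3_c10)) = (LP (LK LD1_c1 LD2_c37 LD3_c58)) :=
  Lgr Lrot38 (Lpr_dt (K1.f66582 IH) (Lpn (LP (LK LD1_c1 LD2_c37 LD3_c58))))
theorem f78197 : Led Lsl_df (LP (LK LD1_c1 LD2_c7 LD3_c46)) = (LP (LK LD1_c0 LD2_c47 LD3_c50)) :=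
  Lgr Lrot162 (Lpe (f78194 IH) (Lpr_gf (f78162 IH) (Lpe (K0.f15040 IH) (Lpe (K1.f9784 IH) (Lpe (f66633 IH) (Lpe (K2.f66825 IH) (Lpr_ct (K2.f66829 IH) (Lpe (K2.f19164 IH) (Lpr_ct (K2.f12107 IH) (Lpn (LP (LK LD1_c0 LD2_c47 LD3_c50))))))))))))
theorem f78206 : Led Lsl_et (LP (LK LD1_c1 LD2_c7 LD3_c46)) = (LP (LK LD1_c2 LD2_c20 LD3_c52)) :=
  Lre_e IH (LK LD1_c1 LD2_c7 LD3_c46) (LK LD1_c2 LD2_c20 LD3_c52) Lrfl Lrfl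
theorem f78207 : Led Lsl_dt (LP (LK LD1_c2 LD2_c20 LD3_c52)) = (LP (LK LD1_c4 LD2_c45 LD3_c32)) :=
  Lre_d IH (LK LD1_c2 LD2_c20 LD3_c52) (LK LD1_c4 LD2_c45 LD3_c32) Lrfl Lrfl
theorem f66762 : Led Lsl_et (LP (LK LD1_c1 LD2_c42 LD3_c33)) = (LP (LK LD1_c0 LD2_c47 LD3_c50)) :=
  Lre_e IH (LK LD1_c1 LD2_c42 LD3_c33) (LK LD1_c0 LD2_c47 LD3_c50) Lrfl Lrfl
theorem f64378 : Led Lsl_dt (LP (LK LD1_c3 LD2_c31 LD3_c51)) = (LP (LK LD1_c1 LD2_c42 LD3_c33)) :=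
  Lre_d IH (LK LD1_c3 LD2_c31 LD3_c51) (LK LD1_c1 LD2_c42 LD3_c33) Lrfl Lrfl
theorem f78208 : Led Lsl_et (LP (LK LD1_c4 LD2_c45 LD3_c32)) = (LP (LK LD1_c3 LD2_c31 LD3_c51)) :=
  Lgr Lrot71 (Lpe (f78207 IH) (Lpe (f78206 IH) (Lpr_df (f78197 IH) (Lpe (f66762 IH) (Lpe (f64378 IH) (Lpn (LP (LK LD1_c3 LD2_c31 LD3_c51))))))))
theorem f78216 : Led Lsl_ef (LP (LK LD1_c4 LD2_c45 LD3_c32)) = (LP (LK LD1_c3 LD2_c31 LD3_c51)) :=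
  Lgr Lrot88 (Lpr_et (f78208 IH) (Lpn (LP (LK LD1_c3 LD2_c31 LD3_c51))))
theorem f78222 : Led Lsl_bt (LP (LK LD1_c4 LD2_c45 LD3_c32)) = (LP (LK LD1_c2 LD2_c20 LD3_c60)) :=
  Lre_b IH (LK LD1_c4 LD2_c45 LD3_c32) (LK LD1_c2 LD2_c20 LD3_c60) Lrfl Lrfl
theorem f66761 : Led Lsl_et (LP (LK LD1_c0 LD2_c29 LD3_c59)) = (LP (LK LD1_c1 LD2_c5 LD3_c31)) :=
  Lre_e IH (LK LD1_c0 LD2_c29 LD3_c59) (LK LD1_c1 LD2_c5 LD3_c31) Lrfl Lrfl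
theorem f66763 : Led Lsl_bt (LP (LK LD1_c1 LD2_c5 LD3_c31)) = (LP (LK LD1_c1 LD2_c42 LD3_c33)) :=
  Lgr Lrot119 (Lpe (f66761 IH) (Lpr_bf (K2.f66755 IH) (Lpe (f66762 IH) (Lpn (LP (LK LD1_c1 LD2_c42 LD3_c33))))))
theorem f66770 : Led Lsl_dt (LP (LK LD1_c2 LD2_c17 LD3_c10)) = (LP (LK LD1_c1 LD2_c5 LD3_c31)) :=
  Lre_d IH (LK LD1_c2 LD2_c17 LD3_c10) (LK LD1_c1 LD2_c5 LD3_c31) Lrfl Lrfl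
theorem f66771 : Led Lsl_dt (LP (LK LD1_c1 LD2_c42 LD3_c33)) = (LP (LK LD1_c3 LD2_c31 LD3_c51)) :=
  Lre_d IH (LK LD1_c1 LD2_c42 LD3_c33) (LK LD1_c3 LD2_c31 LD3_c51) Lrfl Lrfl
theorem f66772 : Led Lsl_bf (LP (LK LD1_c2 LD2_c17 LD3_c10)) = (LP (LK LD1_c3 LD2_c31 LD3_c51)) :=
  Lgr Lrot93 (Lpr_dt (f66770 IH) (Lpr_bt (f66763 IH) (Lpr_dt (f66771 IH) (Lpn (LP (LK LD1_c3 LD2_c31 LD3_c51))))))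
theorem f66777 : Led Lsl_bt (LP (LK LD1_c2 LD2_c17 LD3_c10)) = (LP (LK LD1_c3 LD2_c31 LD3_c51)) :=
  Lgr Lrot127 (Lpr_bf (f66772 IH) (Lpn (LP (LK LD1_c3 LD2_c31 LD3_c51))))
theorem f78223 : Led Lsl_et (LP (LK LD1_c2 LD2_c20 LD3_c60)) = (LP (LK LD1_c2 LD2_c17 LD3_c10)) :=
  Lgr Lrot74 (Lpe (f78222 IH) (Lpr_ef (f78216 IH) (Lpe (f66777 IH) (Lpn (LP (LK LD1_c2 LD2_c17 LD3_c10))))))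
theorem f78230 : Led Lsl_dt (LP (LK LD1_c1 LD2_c7 LD3_c48)) = (LP (LK LD1_c2 LD2_c20 LD3_c60)) :=
  Lre_d IH (LK LD1_c1 LD2_c7 LD3_c48) (LK LD1_c2 LD2_c20 LD3_c60) Lrfl Lrfl
theorem f78231 : Led Lsl_et (LP (LK LD1_c0 LD2_c31 LD3_c6)) = (LP (LK LD1_c1 LD2_c7 LD3_c48)) :=
  Lre_e IH (LK LD1_c0 LD2_c31 LD3_c6) (LK LD1_c1 LD2_c7 LD3_c48) Lrfl Lrfl
theorem f66796 : Led Lsl_et (LP (LK LD1_c1 LD2_c5 LD3_c31)) = (LP (LK LD1_c0 LD2_c29 LD3_c59)) :=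
  Lre_e IH (LK LD1_c1 LD2_c5 LD3_c31) (LK LD1_c0 LD2_c29 LD3_c59) Lrfl Lrfl
theorem f78232 : Led Lsl_df (LP (LK LD1_c0 LD2_c31 LD3_c6)) = (LP (LK LD1_c0 LD2_c29 LD3_c59)) :=
  Lgr Lrot70 (Lpr_et (f78231 IH) (Lpr_dt (f78230 IH) (Lpr_et (f78223 IH) (Lpr_dt (f66770 IH) (Lpr_et (f66796 IH) (Lpn (LP (LK LD1_c0 LD2_c29 LD3_c59))))))))
theorem f58211 : Led Lsl_et (LP (LK LD1_c0 LD2_c30 LD3_c57)) = (LP (LK LD1_c1 LD2_c7 LD3_c28)) :=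
  Lre_e IH (LK LD1_c0 LD2_c30 LD3_c57) (LK LD1_c1 LD2_c7 LD3_c28) Lrfl Lrfl
theorem f13662 : Led Lsl_et (LP (LK LD1_c0 LD2_c6 LD3_c18)) = (LP (LK LD1_c0 LD2_c13 LD3_c17)) :=
  Lre_e IH (LK LD1_c0 LD2_c6 LD3_c18) (LK LD1_c0 LD2_c13 LD3_c17) Lrfl Lrfl
theorem f77994 : Led Lsl_df (LP (LK LD1_c0 LD2_c31 LD3_c7)) = (LP (LK LD1_c0 LD2_c29 LD3_c60)) :=
  Lgr Lrot38 (Lpr_dt (K2.f77988 IH) (Lpn (LP (LK LD1_c0 LD2_c29 LD3_c60))))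
theorem f77998 : Led Lsl_et (LP (LK LD1_c0 LD2_c29 LD3_c60)) = (LP (LK LD1_c1 LD2_c5 LD3_c34)) :=
  Lre_e IH (LK LD1_c0 LD2_c29 LD3_c60) (LK LD1_c1 LD2_c5 LD3_c34) Lrfl Lrfl
theorem f78253 : Led Lsl_gt (LP (LK LD1_c1 LD2_c7 LD3_c28)) = (LP (LK LD1_c1 LD2_c5 LD3_c34)) :=
  Lgr Lrot131 (Lpe (f58211 IH) (Lpr_dt (K0.f13772 IH) (Lpe (f13802 IH) (Lpr_df (f78232 IH) (Lpe (K2.f13664 IH) (Lpe (f13662 IH) (Lpr_dt (K2.f13783 IH) (Lpe (K2.f25202 IH) (Lpr_df (f77994 IH) (Lpr_et (f77998 IH) (Lpn (LP (LK LD1_c1 LD2_c5 LD3_c34)))))))))))))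
theorem f64494 : Led Lsl_gt (LP (LK LD1_c1 LD2_c27 LD3_c11)) = (LP (LK LD1_c0 LD2_c43 LD3_c46)) :=
  Lre_g IH (LK LD1_c1 LD2_c27 LD3_c11) (LK LD1_c0 LD2_c43 LD3_c46) Lrfl Lrfl
theorem f58151 : Led Lsl_bt (LP (LK LD1_c1 LD2_c7 LD3_c28)) = (LP (LK LD1_c0 LD2_c43 LD3_c46)) :=
  Lre_b IH (LK LD1_c1 LD2_c7 LD3_c28) (LK LD1_c0 LD2_c43 LD3_c46) Lrfl Lrfl
theorem f86148 : Led Lsl_cf (LP (LK LD1_c1 LD2_c7 LD3_c28)) = (LP (LK LD1_c1 LD2_c7 LD3_c28)) :=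
  Lgr Lrot160 (Lpr_gt (f78253 IH) (Lpe (f77883 IH) (Lpr_bt (K2.f77892 IH) (Lpe (f79387 IH) (Lpe (K2.f25076 IH) (Lpr_gt (f67898 IH) (Lpr_cf (f86063 IH) (Lpr_bt (f85008 IH) (Lpr_gt (f64494 IH) (Lpe (f58151 IH) (Lpn (LP (LK LD1_c1 LD2_c7 LD3_c28)))))))))))))
theorem f58149 : Led Lsl_at (LP (LK LD1_c1 LD2_c7 LD3_c28)) = (LP (LK LD1_c0 LD2_c31 LD3_c11)) :=
  Lre_a IH (LK LD1_c1 LD2_c7 LD3_c28) (LK LD1_c0 LD2_c31 LD3_c11) Lrfl Lrfl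
theorem f86150 : Led Lsl_at (LP (LK LD1_c0 LD2_c31 LD3_c11)) = (LP (LK LD1_c1 LD2_c7 LD3_c28)) :=
  Lre_a IH (LK LD1_c0 LD2_c31 LD3_c11) (LK LD1_c1 LD2_c7 LD3_c28) Lrfl Lrfl
theorem f86151 : Led Lsl_ct (LP (LK LD1_c0 LD2_c31 LD3_c11)) = (LP (LK LD1_c0 LD2_c31 LD3_c11)) :=
  Lgr Lrot111 (Lpe (f58149 IH) (Lpr_cf (f86148 IH) (Lpe (f86150 IH) (Lpn (LP (LK LD1_c0 LD2_c31 LD3_c11))))))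
theorem f86162 : Led Lsl_bt (LP (LK LD1_c0 LD2_c31 LD3_c11)) = (LP (LK LD1_c0 LD2_c13 LD3_c56)) :=
  Lre_b IH (LK LD1_c0 LD2_c31 LD3_c11) (LK LD1_c0 LD2_c13 LD3_c56) Lrfl Lrfl
theorem f24952 : Led Lsl_et (LP (LK LD1_c0 LD2_c6 LD3_c20)) = (LP (LK LD1_c0 LD2_c13 LD3_c56)) :=
  Lre_e IH (LK LD1_c0 LD2_c6 LD3_c20) (LK LD1_c0 LD2_c13 LD3_c56) Lrfl Lrfl
theorem f57544 : Led Lsl_gt (LP (LK LD1_c0 LD2_c13 LD3_c56)) = (LP (LK LD1_c0 LD2_c17 LD3_c60)) :=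
  Lgr Lrot131 (Lpe (f24952 IH) (Lpr_dt (K1.f13546 IH) (Lpe (K0.f24025 IH) (Lpr_df (K0.f24608 IH) (Lpe (K0.f9933 IH) (Lpe (K1.f24953 IH) (Lpr_dt (K0.f22829 IH) (Lpe (K1.f350 IH) (Lpr_df (K1.f57530 IH) (Lpr_et (K1.f57543 IH) (Lpn (LP (LK LD1_c0 LD2_c17 LD3_c60)))))))))))))
theorem f57560 : Led Lsl_cf (LP (LK LD1_c0 LD2_c16 LD3_c51)) = (LP (LK LD1_c0 LD2_c17 LD3_c60)) :=
  Lgr Lrot11 (Lpr_ct (K1.f57554 IH) (Lpn (LP (LK LD1_c0 LD2_c17 LD3_c60))))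
theorem f25064 : Led Lsl_gt (LP (LK LD1_c0 LD2_c41 LD3_c19)) = (LP (LK LD1_c1 LD2_c29 LD3_c23)) :=
  Lre_g IH (LK LD1_c0 LD2_c41 LD3_c19) (LK LD1_c1 LD2_c29 LD3_c23) Lrfl Lrfl
theorem f24990 : Led Lsl_gt (LP (LK LD1_c1 LD2_c8 LD3_c1)) = (LP (LK LD1_c0 LD2_c31 LD3_c11)) :=
  Lre_g IH (LK LD1_c1 LD2_c8 LD3_c1) (LK LD1_c0 LD2_c31 LD3_c11) Lrfl Lrfl
theorem f24998 : Led Lsl_ct (LP (LK LD1_c2 LD2_c21 LD3_c40)) = (LP (LK LD1_c1 LD2_c8 LD3_c1)) :=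
  Lre_c IH (LK LD1_c2 LD2_c21 LD3_c40) (LK LD1_c1 LD2_c8 LD3_c1) Lrfl Lrfl
theorem f86316 : Led Lsl_bf (LP (LK LD1_c1 LD2_c29 LD3_c23)) = (LP (LK LD1_c2 LD2_c21 LD3_c40)) :=
  Lgr Lrot34 (Lpe (f25064 IH) (Lpe (K2.f25063 IH) (Lpr_ct (K1.f25050 IH) (Lpr_gf (K1.f20898 IH) (Lpr_cf (f57560 IH) (Lpe (f57544 IH) (Lpe (f86162 IH) (Lpr_ct (f86151 IH) (Lpe (f24990 IH) (Lpe (f24998 IH) (Lpn (LP (LK LD1_c2 LD2_c21 LD3_c40)))))))))))))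
theorem f25065 : Led Lsl_ct (LP (LK LD1_c1 LD2_c29 LD3_c23)) = (LP (LK LD1_c3 LD2_c6 LD3_c34)) :=
  Lre_c IH (LK LD1_c1 LD2_c29 LD3_c23) (LK LD1_c3 LD2_c6 LD3_c34) Lrfl Lrfl
theorem f25002 : Led Lsl_ct (LP (LK LD1_c1 LD2_c8 LD3_c1)) = (LP (LK LD1_c2 LD2_c21 LD3_c40)) :=
  Lre_c IH (LK LD1_c1 LD2_c8 LD3_c1) (LK LD1_c2 LD2_c21 LD3_c40) Lrfl Lrfl
theorem f24991 : Led Lsl_bt (LP (LK LD1_c2 LD2_c21 LD3_c39)) = (LP (LK LD1_c1 LD2_c8 LD3_c1)) :=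
  Lre_b IH (LK LD1_c2 LD2_c21 LD3_c39) (LK LD1_c1 LD2_c8 LD3_c1) Lrfl Lrfl
theorem f24978 : Led Lsl_gt (LP (LK LD1_c0 LD2_c6 LD3_c21)) = (LP (LK LD1_c0 LD2_c3 LD3_c54)) :=
  Lgr Lrot131 (Lpe (K0.f7460 IH) (Lpr_dt (K0.f7459 IH) (Lpe (K0.f7114 IH) (Lpe (K0.f7118 IH) (Lpr_gf (K0.f24948 IH) (Lpe (K1.f7166 IH) (Lpr_dt (K1.f7165 IH) (Lpe (K0.f1496 IH) (Lpe (K0.f7126 IH) (Lpr_et (K1.f7164 IH) (Lpn (LP (LK LD1_c0 LD2_c3 LD3_c54)))))))))))))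
theorem f7473 : Led Lsl_bt (LP (LK LD1_c0 LD2_c13 LD3_c56)) = (LP (LK LD1_c0 LD2_c31 LD3_c11)) :=
  Lre_b IH (LK LD1_c0 LD2_c13 LD3_c56) (LK LD1_c0 LD2_c31 LD3_c11) Lrfl Lrfl
theorem f24988 : Led Lsl_gt (LP (LK LD1_c0 LD2_c18 LD3_c58)) = (LP (LK LD1_c0 LD2_c42 LD3_c31)) :=
  Lre_g IH (LK LD1_c0 LD2_c18 LD3_c58) (LK LD1_c0 LD2_c42 LD3_c31) Lrfl Lrfl
theorem f24992 : Led Lsl_ct (LP (LK LD1_c0 LD2_c42 LD3_c31)) = (LP (LK LD1_c1 LD2_c31 LD3_c53)) :=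
  Lre_c IH (LK LD1_c0 LD2_c42 LD3_c31) (LK LD1_c1 LD2_c31 LD3_c53) Lrfl Lrfl
theorem f24993 : Led Lsl_gt (LP (LK LD1_c1 LD2_c31 LD3_c53)) = (LP (LK LD1_c3 LD2_c10 LD3_c55)) :=
  Lre_g IH (LK LD1_c1 LD2_c31 LD3_c53) (LK LD1_c3 LD2_c10 LD3_c55) Lrfl Lrfl
theorem f24994 : Led Lsl_ct (LP (LK LD1_c2 LD2_c21 LD3_c39)) = (LP (LK LD1_c3 LD2_c10 LD3_c55)) :=
  Lgr Lrot63 (Lpr_bt (f24991 IH) (Lpr_gt (f24990 IH) (Lpe (f7473 IH) (Lpr_ct (K0.f7455 IH) (Lpr_gt (f24978 IH) (Lpe (K1.f24986 IH) (Lpr_bt (K2.f24987 IH) (Lpr_gt (f24988 IH) (Lpr_ct (f24992 IH) (Lpr_gt (f24993 IH) (Lpn (LP (LK LD1_c3 LD2_c10 LD3_c55)))))))))))))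
theorem f24999 : Led Lsl_cf (LP (LK LD1_c2 LD2_c21 LD3_c39)) = (LP (LK LD1_c3 LD2_c10 LD3_c55)) :=
  Lgr Lrot11 (Lpr_ct (f24994 IH) (Lpn (LP (LK LD1_c3 LD2_c10 LD3_c55))))
theorem f86321 : Led Lsl_bt (LP (LK LD1_c3 LD2_c6 LD3_c34)) = (LP (LK LD1_c3 LD2_c10 LD3_c55)) :=
  Lgr Lrot128 (Lpe (f25065 IH) (Lpr_bf (f86316 IH) (Lpe (f25002 IH) (Lpe (f24991 IH) (Lpr_cf (f24999 IH) (Lpn (LP (LK LD1_c3 LD2_c10 LD3_c55))))))))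
theorem f25093 : Led Lsl_ct (LP (LK LD1_c3 LD2_c6 LD3_c34)) = (LP (LK LD1_c1 LD2_c29 LD3_c23)) :=
  Lre_c IH (LK LD1_c3 LD2_c6 LD3_c34) (LK LD1_c1 LD2_c29 LD3_c23) Lrfl Lrfl
theorem f82450 : Led Lsl_cf (LP (LK LD1_c0 LD2_c18 LD3_c58)) = (LP (LK LD1_c0 LD2_c30 LD3_c34)) :=
  Lgr Lrot11 (Lpr_ct (K2.f82395 IH) (Lpn (LP (LK LD1_c0 LD2_c30 LD3_c34))))
theorem f82461 : Led Lsl_gt (LP (LK LD1_c0 LD2_c42 LD3_c32)) = (LP (LK LD1_c0 LD2_c18 LD3_c58)) :=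
  Lre_g IH (LK LD1_c0 LD2_c42 LD3_c32) (LK LD1_c0 LD2_c18 LD3_c58) Lrfl Lrfl
theorem f82463 : Led Lsl_ct (LP (LK LD1_c1 LD2_c31 LD3_c56)) = (LP (LK LD1_c0 LD2_c42 LD3_c32)) :=
  Lre_c IH (LK LD1_c1 LD2_c31 LD3_c56) (LK LD1_c0 LD2_c42 LD3_c32) Lrfl Lrfl
theorem f86333 : Led Lsl_gf (LP (LK LD1_c1 LD2_c31 LD3_c56)) = (LP (LK LD1_c3 LD2_c10 LD3_c55)) :=
  Lgr Lrot181 (Lpr_ct (f82463 IH) (Lpr_gt (f82461 IH) (Lpr_cf (f82450 IH) (Lpr_bt (K2.f82447 IH) (Lpr_gt (K2.f83186 IH) (Lpe (K2.f25056 IH) (Lpr_ct (K2.f25067 IH) (Lpr_gt (f25064 IH) (Lpe (f25093 IH) (Lpr_bt (f86321 IH) (Lpn (LP (LK LD1_c3 LD2_c10 LD3_c55)))))))))))))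
theorem f86337 : Led Lsl_ct (LP (LK LD1_c0 LD2_c42 LD3_c32)) = (LP (LK LD1_c1 LD2_c31 LD3_c56)) :=
  Lre_c IH (LK LD1_c0 LD2_c42 LD3_c32) (LK LD1_c1 LD2_c31 LD3_c56) Lrfl Lrfl
theorem f86338 : Led Lsl_bt (LP (LK LD1_c0 LD2_c42 LD3_c32)) = (LP (LK LD1_c1 LD2_c31 LD3_c55)) :=
  Lre_b IH (LK LD1_c0 LD2_c42 LD3_c32) (LK LD1_c1 LD2_c31 LD3_c55) Lrfl Lrfl
theorem f58159 : Led Lsl_gf (LP (LK LD1_c1 LD2_c8 LD3_c1)) = (LP (LK LD1_c1 LD2_c29 LD3_c2)) :=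
  Lgr Lrot47 (Lpr_gt (f24990 IH) (Lpe (f58149 IH) (Lpr_ff (K1.f58146 IH) (Lpn (LP (LK LD1_c1 LD2_c29 LD3_c2))))))
theorem f58153 : Led Lsl_bt (LP (LK LD1_c1 LD2_c26 LD3_c40)) = (LP (LK LD1_c1 LD2_c29 LD3_c2)) :=
  Lgr Lrot35 (Lpe (f58152 IH) (Lpe (f58151 IH) (Lpr_ff (K1.f58146 IH) (Lpn (LP (LK LD1_c1 LD2_c29 LD3_c2))))))
theorem f58172 : Led Lsl_ct (LP (LK LD1_c1 LD2_c26 LD3_c40)) = (LP (LK LD1_c0 LD2_c46 LD3_c52)) :=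
  Lre_c IH (LK LD1_c1 LD2_c26 LD3_c40) (LK LD1_c0 LD2_c46 LD3_c52) Lrfl Lrfl
theorem f12641 : Led Lsl_gt (LP (LK LD1_c0 LD2_c23 LD3_c59)) = (LP (LK LD1_c0 LD2_c46 LD3_c52)) :=
  Lre_g IH (LK LD1_c0 LD2_c23 LD3_c59) (LK LD1_c0 LD2_c46 LD3_c52) Lrfl Lrfl
theorem f86339 : Led Lsl_gt (LP (LK LD1_c1 LD2_c31 LD3_c55)) = (LP (LK LD1_c0 LD2_c53 LD3_c18)) :=
  Lgr Lrot82 (Lpe (f86338 IH) (Lpr_ct (f86337 IH) (Lpr_gf (f86333 IH) (Lpe (f24994 IH) (Lpr_bt (f24991 IH) (Lpr_gf (f58159 IH) (Lpe (f58153 IH) (Lpr_ct (f58172 IH) (Lpe (f12641 IH) (Lpe (K2.f18008 IH) (Lpn (LP (LK LD1_c0 LD2_c53 LD3_c18)))))))))))))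
theorem f88970 : Led Lsl_gt (LP (LK LD1_c0 LD2_c53 LD3_c20)) = (LP (LK LD1_c1 LD2_c31 LD3_c55)) :=
  Lgr Lrot5 (Lpr_ft (f88786 IH) (Lpe (f88759 IH) (Lpe (f86339 IH) (Lpn (LP (LK LD1_c1 LD2_c31 LD3_c55))))))
theorem f18013 : Led Lsl_dt (LP (LK LD1_c0 LD2_c10 LD3_c43)) = (LP (LK LD1_c0 LD2_c23 LD3_c61)) :=
  Lre_d IH (LK LD1_c0 LD2_c10 LD3_c43) (LK LD1_c0 LD2_c23 LD3_c61) Lrfl Lrfl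
theorem f64290 : Led Lsl_dt (LP (LK LD1_c0 LD2_c47 LD3_c6)) = (LP (LK LD1_c0 LD2_c21 LD3_c4)) :=
  Lre_d IH (LK LD1_c0 LD2_c47 LD3_c6) (LK LD1_c0 LD2_c21 LD3_c4) Lrfl Lrfl
theorem f85327 : Led Lsl_ct (LP (LK LD1_c0 LD2_c21 LD3_c4)) = (LP (LK LD1_c0 LD2_c47 LD3_c3)) :=
  Lre_c IH (LK LD1_c0 LD2_c21 LD3_c4) (LK LD1_c0 LD2_c47 LD3_c3) Lrfl Lrfl
theorem f85365 : Led Lsl_dt (LP (LK LD1_c1 LD2_c41 LD3_c6)) = (LP (LK LD1_c0 LD2_c47 LD3_c3)) :=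
  Lre_d IH (LK LD1_c1 LD2_c41 LD3_c6) (LK LD1_c0 LD2_c47 LD3_c3) Lrfl Lrfl
theorem f86346 : Led Lsl_dt (LP (LK LD1_c1 LD2_c31 LD3_c55)) = (LP (LK LD1_c3 LD2_c10 LD3_c60)) :=
  Lre_d IH (LK LD1_c1 LD2_c31 LD3_c55) (LK LD1_c3 LD2_c10 LD3_c60) Lrfl Lrfl
theorem f88972 : Led Lsl_gf (LP (LK LD1_c1 LD2_c41 LD3_c6)) = (LP (LK LD1_c3 LD2_c10 LD3_c60)) :=
  Lgr Lrot143 (Lpr_dt (f85365 IH) (Lpe (f85327 IH) (Lpe (f64290 IH) (Lpe (f85286 IH) (Lpe (f18013 IH) (Lpe (K2.f10008 IH) (Lpe (K2.f84294 IH) (Lpr_gt (f88970 IH) (Lpr_dt (f86346 IH) (Lpn (LP (LK LD1_c3 LD2_c10 LD3_c60))))))))))))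
theorem f12640 : Led Lsl_ct (LP (LK LD1_c0 LD2_c46 LD3_c52)) = (LP (LK LD1_c1 LD2_c26 LD3_c40)) :=
  Lre_c IH (LK LD1_c0 LD2_c46 LD3_c52) (LK LD1_c1 LD2_c26 LD3_c40) Lrfl Lrfl
theorem f85294 : Led Lsl_dt (LP (LK LD1_c3 LD2_c1 LD3_c24)) = (LP (LK LD1_c1 LD2_c26 LD3_c40)) :=
  Lre_d IH (LK LD1_c3 LD2_c1 LD3_c24) (LK LD1_c1 LD2_c26 LD3_c40) Lrfl Lrfl
theorem f58124 : Led Lsl_ct (LP (LK LD1_c6 LD2_c9 LD3_c54)) = (LP (LK LD1_c3 LD2_c1 LD3_c24)) :=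
  Lre_c IH (LK LD1_c6 LD2_c9 LD3_c54) (LK LD1_c3 LD2_c1 LD3_c24) Lrfl Lrfl
theorem f58131 : Led Lsl_gt (LP (LK LD1_c3 LD2_c18 LD3_c53)) = (LP (LK LD1_c6 LD2_c9 LD3_c54)) :=
  Lre_g IH (LK LD1_c3 LD2_c18 LD3_c53) (LK LD1_c6 LD2_c9 LD3_c54) Lrfl Lrfl
theorem f88979 : Led Lsl_ct (LP (LK LD1_c1 LD2_c41 LD3_c6)) = (LP (LK LD1_c3 LD2_c18 LD3_c53)) :=
  Lgr Lrot152 (Lpr_gf (f88972 IH) (Lpe (f86346 IH) (Lpr_gt (f86339 IH) (Lpr_ct (K2.f18008 IH) (Lpr_gt (f12641 IH) (Lpr_ct (f12640 IH) (Lpe (f85294 IH) (Lpe (f58124 IH) (Lpe (f58131 IH) (Lpn (LP (LK LD1_c3 LD2_c18 LD3_c53))))))))))))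
theorem f88987 : Led Lsl_et (LP (LK LD1_c3 LD2_c28 LD3_c41)) = (LP (LK LD1_c1 LD2_c41 LD3_c6)) :=
  Lre_e IH (LK LD1_c3 LD2_c28 LD3_c41) (LK LD1_c1 LD2_c41 LD3_c6) Lrfl Lrfl
theorem f88992 : Led Lsl_et (LP (LK LD1_c3 LD2_c18 LD3_c53)) = (LP (LK LD1_c6 LD2_c41 LD3_c39)) :=
  Lre_e IH (LK LD1_c3 LD2_c18 LD3_c53) (LK LD1_c6 LD2_c41 LD3_c39) Lrfl Lrfl
theorem f88993 : Led Lsl_cf (LP (LK LD1_c3 LD2_c28 LD3_c41)) = (LP (LK LD1_c6 LD2_c41 LD3_c39)) :=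
  Lgr Lrot39 (Lpr_et (f88987 IH) (Lpr_ct (f88979 IH) (Lpr_et (f88992 IH) (Lpn (LP (LK LD1_c6 LD2_c41 LD3_c39))))))
theorem f62222 : Led Lsl_ft (LP (LK LD1_c3 LD2_c28 LD3_c41)) = (LP (LK LD1_c6 LD2_c59 LD3_c8)) :=
  Lre_f IH (LK LD1_c3 LD2_c28 LD3_c41) (LK LD1_c6 LD2_c59 LD3_c8) Lrfl Lrfl
theorem f89082 : Led Lsl_ft (LP (LK LD1_c12 LD2_c48 LD3_c27)) = (LP (LK LD1_c6 LD2_c41 LD3_c39)) :=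
  Lre_f IH (LK LD1_c12 LD2_c48 LD3_c27) (LK LD1_c6 LD2_c41 LD3_c39) Lrfl Lrfl
theorem f89083 : Led Lsl_ct (LP (LK LD1_c6 LD2_c59 LD3_c8)) = (LP (LK LD1_c12 LD2_c48 LD3_c27)) :=
  Lgr Lrot40 (Lpe (f62222 IH) (Lpr_cf (f88993 IH) (Lpe (f89082 IH) (Lpn (LP (LK LD1_c12 LD2_c48 LD3_c27))))))
theorem f89088 : Led Lsl_cf (LP (LK LD1_c6 LD2_c59 LD3_c8)) = (LP (LK LD1_c12 LD2_c48 LD3_c27)) :=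
  Lgr Lrot11 (Lpr_ct (f89083 IH) (Lpn (LP (LK LD1_c12 LD2_c48 LD3_c27))))
theorem f89091 : Led Lsl_dt (LP (LK LD1_c21 LD2_c56 LD3_c12)) = (LP (LK LD1_c12 LD2_c48 LD3_c27)) :=
  Lre_d IH (LK LD1_c21 LD2_c56 LD3_c12) (LK LD1_c12 LD2_c48 LD3_c27) Lrfl Lrfl
theorem f93315 : Led Lsl_ct (LP (LK LD1_c21 LD2_c43 LD3_c35)) = (LP (LK LD1_c21 LD2_c56 LD3_c12)) :=
  Lgr Lrot41 (Lpe (f69313 IH) (Lpe (f69312 IH) (Lpe (f63838 IH) (Lpr_ft (f69308 IH) (Lpr_at (f93308 IH) (Lpe (f62238 IH) (Lpe (f62246 IH) (Lpr_cf (f89088 IH) (Lpe (f89091 IH) (Lpn (LP (LK LD1_c21 LD2_c56 LD3_c12))))))))))))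
theorem f89094 : Led Lsl_ft (LP (LK LD1_c21 LD2_c56 LD3_c12)) = (LP (LK LD1_c12 LD2_c48 LD3_c26)) :=
  Lre_f IH (LK LD1_c21 LD2_c56 LD3_c12) (LK LD1_c12 LD2_c48 LD3_c26) Lrfl Lrfl
theorem f89097 : Led Lsl_ct (LP (LK LD1_c12 LD2_c48 LD3_c26)) = (LP (LK LD1_c21 LD2_c56 LD3_c11)) :=
  Lre_c IH (LK LD1_c12 LD2_c48 LD3_c26) (LK LD1_c21 LD2_c56 LD3_c11) Lrfl Lrfl
theorem f93321 : Led Lsl_ff (LP (LK LD1_c21 LD2_c43 LD3_c35)) = (LP (LK LD1_c21 LD2_c56 LD3_c11)) :=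
  Lgr Lrot23 (Lpr_ct (f93315 IH) (Lpr_ft (f89094 IH) (Lpr_ct (f89097 IH) (Lpn (LP (LK LD1_c21 LD2_c56 LD3_c11))))))
theorem f93325 : Led Lsl_ft (LP (LK LD1_c21 LD2_c43 LD3_c35)) = (LP (LK LD1_c21 LD2_c56 LD3_c11)) :=
  Lgr Lrot48 (Lpr_ff (f93321 IH) (Lpn (LP (LK LD1_c21 LD2_c56 LD3_c11))))
theorem f69291 : Led Lsl_dt (LP (LK LD1_c21 LD2_c43 LD3_c35)) = (LP (LK LD1_c12 LD2_c37 LD3_c12)) :=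
  Lre_d IH (LK LD1_c21 LD2_c43 LD3_c35) (LK LD1_c12 LD2_c37 LD3_c12) Lrfl Lrfl
theorem f69290 : Led Lsl_ct (LP (LK LD1_c12 LD2_c37 LD3_c12)) = (LP (LK LD1_c6 LD2_c35 LD3_c35)) :=
  Lre_c IH (LK LD1_c12 LD2_c37 LD3_c12) (LK LD1_c6 LD2_c35 LD3_c35) Lrfl Lrfl
theorem f69289 : Led Lsl_dt (LP (LK LD1_c6 LD2_c35 LD3_c35)) = (LP (LK LD1_c3 LD2_c16 LD3_c9)) :=
  Lre_d IH (LK LD1_c6 LD2_c35 LD3_c35) (LK LD1_c3 LD2_c16 LD3_c9) Lrfl Lrfl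
theorem f69292 : Led Lsl_dt (LP (LK LD1_c3 LD2_c23 LD3_c11)) = (LP (LK LD1_c6 LD2_c49 LD3_c44)) :=
  Lre_d IH (LK LD1_c3 LD2_c23 LD3_c11) (LK LD1_c6 LD2_c49 LD3_c44) Lrfl Lrfl
theorem f89078 : Led Lsl_ct (LP (LK LD1_c3 LD2_c28 LD3_c41)) = (LP (LK LD1_c6 LD2_c41 LD3_c39)) :=
  Lgr Lrot59 (Lpr_cf (f88993 IH) (Lpn (LP (LK LD1_c6 LD2_c41 LD3_c39))))
theorem f62264 : Led Lsl_dt (LP (LK LD1_c1 LD2_c41 LD3_c2)) = (LP (LK LD1_c3 LD2_c28 LD3_c41)) :=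
  Lre_d IH (LK LD1_c1 LD2_c41 LD3_c2) (LK LD1_c3 LD2_c28 LD3_c41) Lrfl Lrfl
theorem f62212 : Led Lsl_cf (LP (LK LD1_c1 LD2_c41 LD3_c2)) = (LP (LK LD1_c1 LD2_c35 LD3_c20)) :=
  Lgr Lrot11 (Lpr_ct (f62187 IH) (Lpn (LP (LK LD1_c1 LD2_c35 LD3_c20))))
theorem f62225 : Led Lsl_dt (LP (LK LD1_c3 LD2_c17 LD3_c34)) = (LP (LK LD1_c1 LD2_c35 LD3_c20)) :=
  Lre_d IH (LK LD1_c3 LD2_c17 LD3_c34) (LK LD1_c1 LD2_c35 LD3_c20) Lrfl Lrfl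
theorem f62229 : Led Lsl_ct (LP (LK LD1_c6 LD2_c38 LD3_c35)) = (LP (LK LD1_c3 LD2_c17 LD3_c34)) :=
  Lre_c IH (LK LD1_c6 LD2_c38 LD3_c35) (LK LD1_c3 LD2_c17 LD3_c34) Lrfl Lrfl
theorem f62265 : Led Lsl_dt (LP (LK LD1_c12 LD2_c42 LD3_c53)) = (LP (LK LD1_c6 LD2_c38 LD3_c35)) :=
  Lre_d IH (LK LD1_c12 LD2_c42 LD3_c53) (LK LD1_c6 LD2_c38 LD3_c35) Lrfl Lrfl
theorem f62268 : Led Lsl_ft (LP (LK LD1_c12 LD2_c42 LD3_c53)) = (LP (LK LD1_c21 LD2_c50 LD3_c12)) :=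
  Lre_f IH (LK LD1_c12 LD2_c42 LD3_c53) (LK LD1_c21 LD2_c50 LD3_c12) Lrfl Lrfl
theorem f89096 : Led Lsl_dt (LP (LK LD1_c6 LD2_c41 LD3_c39)) = (LP (LK LD1_c12 LD2_c48 LD3_c26)) :=
  Lre_d IH (LK LD1_c6 LD2_c41 LD3_c39) (LK LD1_c12 LD2_c48 LD3_c26) Lrfl Lrfl
theorem f89100 : Led Lsl_at (LP (LK LD1_c21 LD2_c50 LD3_c12)) = (LP (LK LD1_c21 LD2_c56 LD3_c11)) :=
  Lgr Lrot33 (Lpe (f62268 IH) (Lpr_dt (f62265 IH) (Lpr_ct (f62229 IH) (Lpr_dt (f62225 IH) (Lpe (f62212 IH) (Lpr_dt (f62264 IH) (Lpr_ct (f89078 IH) (Lpr_dt (f89096 IH) (Lpr_ct (f89097 IH) (Lpn (LP (LK LD1_c21 LD2_c56 LD3_c11))))))))))))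
theorem f89102 : Led Lsl_af (LP (LK LD1_c21 LD2_c50 LD3_c12)) = (LP (LK LD1_c21 LD2_c56 LD3_c11)) :=
  Lgr Lrot0 (Lpr_at (f89100 IH) (Lpn (LP (LK LD1_c21 LD2_c56 LD3_c11))))
theorem f83192 : Led Lsl_bt (LP (LK LD1_c0 LD2_c41 LD3_c54)) = (LP (LK LD1_c1 LD2_c30 LD3_c47)) :=
  Lre_b IH (LK LD1_c0 LD2_c41 LD3_c54) (LK LD1_c1 LD2_c30 LD3_c47) Lrfl Lrfl
theorem f7471 : Led Lsl_gt (LP (LK LD1_c1 LD2_c8 LD3_c36)) = (LP (LK LD1_c0 LD2_c31 LD3_c23)) :=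
  Lre_g IH (LK LD1_c1 LD2_c8 LD3_c36) (LK LD1_c0 LD2_c31 LD3_c23) Lrfl Lrfl
theorem f7502 : Led Lsl_ct (LP (LK LD1_c2 LD2_c22 LD3_c60)) = (LP (LK LD1_c1 LD2_c8 LD3_c36)) :=
  Lre_c IH (LK LD1_c2 LD2_c22 LD3_c60) (LK LD1_c1 LD2_c8 LD3_c36) Lrfl Lrfl
theorem f86008 : Led Lsl_gt (LP (LK LD1_c1 LD2_c29 LD3_c30)) = (LP (LK LD1_c2 LD2_c22 LD3_c60)) :=
  Lgr Lrot82 (Lpe (K2.f67515 IH) (Lpr_ct (K2.f67533 IH) (Lpe (f67966 IH) (Lpr_cf (f85995 IH) (Lpr_bt (f57906 IH) (Lpe (f57894 IH) (Lpe (K1.f7483 IH) (Lpr_ct (K0.f7457 IH) (Lpe (f7471 IH) (Lpe (f7502 IH) (Lpn (LP (LK LD1_c2 LD2_c22 LD3_c60)))))))))))))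
theorem f83208 : Led Lsl_at (LP (LK LD1_c1 LD2_c32 LD3_c18)) = (LP (LK LD1_c1 LD2_c30 LD3_c48)) :=
  Lgr Lrot51 (Lpr_df (K2.f67401 IH) (Lpe (K2.f67510 IH) (Lpr_df (K2.f83203 IH) (Lpn (LP (LK LD1_c1 LD2_c30 LD3_c48))))))
theorem f86357 : Led Lsl_gf (LP (LK LD1_c1 LD2_c30 LD3_c48)) = (LP (LK LD1_c2 LD2_c22 LD3_c60)) :=
  Lgr Lrot76 (Lpe (f83208 IH) (Lpe (K2.f67525 IH) (Lpr_gt (f86008 IH) (Lpn (LP (LK LD1_c2 LD2_c22 LD3_c60))))))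
theorem f86028 : Led Lsl_ct (LP (LK LD1_c1 LD2_c8 LD3_c36)) = (LP (LK LD1_c2 LD2_c22 LD3_c60)) :=
  Lre_c IH (LK LD1_c1 LD2_c8 LD3_c36) (LK LD1_c2 LD2_c22 LD3_c60) Lrfl Lrfl
theorem f20099 : Led Lsl_gt (LP (LK LD1_c0 LD2_c40 LD3_c29)) = (LP (LK LD1_c1 LD2_c8 LD3_c36)) :=
  Lre_g IH (LK LD1_c0 LD2_c40 LD3_c29) (LK LD1_c1 LD2_c8 LD3_c36) Lrfl Lrfl
theorem f86428 : Led Lsl_bt (LP (LK LD1_c1 LD2_c27 LD3_c12)) = (LP (LK LD1_c0 LD2_c40 LD3_c29)) :=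
  Lre_b IH (LK LD1_c1 LD2_c27 LD3_c12) (LK LD1_c0 LD2_c40 LD3_c29) Lrfl Lrfl
theorem f64515 : Led Lsl_ct (LP (LK LD1_c1 LD2_c27 LD3_c12)) = (LP (LK LD1_c3 LD2_c2 LD3_c28)) :=
  Lre_c IH (LK LD1_c1 LD2_c27 LD3_c12) (LK LD1_c3 LD2_c2 LD3_c28) Lrfl Lrfl
theorem f85010 : Led Lsl_gt (LP (LK LD1_c6 LD2_c11 LD3_c47)) = (LP (LK LD1_c3 LD2_c2 LD3_c28)) :=
  Lre_g IH (LK LD1_c6 LD2_c11 LD3_c47) (LK LD1_c3 LD2_c2 LD3_c28) Lrfl Lrfl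
theorem f62326 : Led Lsl_et (LP (LK LD1_c0 LD2_c47 LD3_c1)) = (LP (LK LD1_c1 LD2_c41 LD3_c0)) :=
  Lre_e IH (LK LD1_c0 LD2_c47 LD3_c1) (LK LD1_c1 LD2_c41 LD3_c0) Lrfl Lrfl
theorem f76787 : Led Lsl_et (LP (LK LD1_c3 LD2_c28 LD3_c27)) = (LP (LK LD1_c1 LD2_c40 LD3_c53)) :=
  Lre_e IH (LK LD1_c3 LD2_c28 LD3_c27) (LK LD1_c1 LD2_c40 LD3_c53) Lrfl Lrfl
theorem f90371 : Led Lsl_at (LP (LK LD1_c1 LD2_c41 LD3_c0)) = (LP (LK LD1_c3 LD2_c28 LD3_c27)) :=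
  Lgr Lrot80 (Lpe (f62326 IH) (Lpr_af (f90364 IH) (Lpe (f76787 IH) (Lpn (LP (LK LD1_c3 LD2_c28 LD3_c27))))))
theorem f76785 : Led Lsl_dt (LP (LK LD1_c3 LD2_c28 LD3_c37)) = (LP (LK LD1_c1 LD2_c41 LD3_c0)) :=
  Lre_d IH (LK LD1_c3 LD2_c28 LD3_c37) (LK LD1_c1 LD2_c41 LD3_c0) Lrfl Lrfl
theorem f76766 : Led Lsl_dt (LP (LK LD1_c3 LD2_c11 LD3_c41)) = (LP (LK LD1_c1 LD2_c40 LD3_c54)) :=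
  Lgr Lrot42 (Lpr_df (K2.f76756 IH) (Lpn (LP (LK LD1_c1 LD2_c40 LD3_c54))))
theorem f76775 : Led Lsl_bt (LP (LK LD1_c6 LD2_c27 LD3_c33)) = (LP (LK LD1_c3 LD2_c11 LD3_c41)) :=
  Lre_b IH (LK LD1_c6 LD2_c27 LD3_c33) (LK LD1_c3 LD2_c11 LD3_c41) Lrfl Lrfl
theorem f76776 : Led Lsl_bt (LP (LK LD1_c1 LD2_c40 LD3_c54)) = (LP (LK LD1_c3 LD2_c28 LD3_c27)) :=
  Lre_b IH (LK LD1_c1 LD2_c40 LD3_c54) (LK LD1_c3 LD2_c28 LD3_c27) Lrfl Lrfl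
theorem f76777 : Led Lsl_df (LP (LK LD1_c6 LD2_c27 LD3_c33)) = (LP (LK LD1_c3 LD2_c28 LD3_c27)) :=
  Lgr Lrot12 (Lpr_bt (f76775 IH) (Lpr_dt (f76766 IH) (Lpr_bt (f76776 IH) (Lpn (LP (LK LD1_c3 LD2_c28 LD3_c27))))))
theorem f90382 : Led Lsl_af (LP (LK LD1_c3 LD2_c28 LD3_c37)) = (LP (LK LD1_c6 LD2_c27 LD3_c33)) :=
  Lgr Lrot117 (Lpr_dt (f76785 IH) (Lpr_at (f90371 IH) (Lpe (f76777 IH) (Lpn (LP (LK LD1_c6 LD2_c27 LD3_c33))))))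
theorem f90384 : Led Lsl_at (LP (LK LD1_c3 LD2_c28 LD3_c37)) = (LP (LK LD1_c6 LD2_c27 LD3_c33)) :=
  Lgr Lrot100 (Lpr_af (f90382 IH) (Lpn (LP (LK LD1_c6 LD2_c27 LD3_c33))))
theorem f89003 : Led Lsl_bt (LP (LK LD1_c1 LD2_c41 LD3_c6)) = (LP (LK LD1_c3 LD2_c28 LD3_c37)) :=
  Lre_b IH (LK LD1_c1 LD2_c41 LD3_c6) (LK LD1_c3 LD2_c28 LD3_c37) Lrfl Lrfl
theorem f88978 : Led Lsl_at (LP (LK LD1_c3 LD2_c28 LD3_c22)) = (LP (LK LD1_c1 LD2_c41 LD3_c6)) :=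
  Lre_a IH (LK LD1_c3 LD2_c28 LD3_c22) (LK LD1_c1 LD2_c41 LD3_c6) Lrfl Lrfl
theorem f90129 : Led Lsl_dt (LP (LK LD1_c3 LD2_c6 LD3_c49)) = (LP (LK LD1_c1 LD2_c29 LD3_c31)) :=
  Lre_d IH (LK LD1_c3 LD2_c6 LD3_c49) (LK LD1_c1 LD2_c29 LD3_c31) Lrfl Lrfl
theorem f90136 : Led Lsl_af (LP (LK LD1_c3 LD2_c6 LD3_c49)) = (LP (LK LD1_c3 LD2_c11 LD3_c41)) :=
  Lgr Lrot117 (Lpr_dt (f90129 IH) (Lpr_at (K2.f90132 IH) (Lpe (K2.f76756 IH) (Lpn (LP (LK LD1_c3 LD2_c11 LD3_c41))))))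
theorem f90387 : Led Lsl_bf (LP (LK LD1_c3 LD2_c28 LD3_c22)) = (LP (LK LD1_c3 LD2_c6 LD3_c49)) :=
  Lgr Lrot81 (Lpr_at (f88978 IH) (Lpr_bt (f89003 IH) (Lpr_at (f90384 IH) (Lpr_bt (f76775 IH) (Lpe (f90136 IH) (Lpn (LP (LK LD1_c3 LD2_c6 LD3_c49))))))))
theorem f90390 : Led Lsl_bt (LP (LK LD1_c3 LD2_c28 LD3_c22)) = (LP (LK LD1_c3 LD2_c6 LD3_c49)) :=
  Lgr Lrot127 (Lpr_bf (f90387 IH) (Lpn (LP (LK LD1_c3 LD2_c6 LD3_c49))))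
theorem f90614 : Led Lsl_cf (LP (LK LD1_c6 LD2_c11 LD3_c47)) = (LP (LK LD1_c3 LD2_c28 LD3_c22)) :=
  Lgr Lrot160 (Lpr_gt (f85010 IH) (Lpe (f64515 IH) (Lpr_bt (f86428 IH) (Lpr_gt (f20099 IH) (Lpr_ct (f86028 IH) (Lpe (f86357 IH) (Lpe (K2.f83195 IH) (Lpr_bt (f83192 IH) (Lpr_gt (K2.f90610 IH) (Lpe (f90390 IH) (Lpn (LP (LK LD1_c3 LD2_c28 LD3_c22)))))))))))))
theorem f90621 : Led Lsl_ct (LP (LK LD1_c6 LD2_c11 LD3_c47)) = (LP (LK LD1_c3 LD2_c28 LD3_c22)) :=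
  Lgr Lrot59 (Lpr_cf (f90614 IH) (Lpn (LP (LK LD1_c3 LD2_c28 LD3_c22))))
theorem f90626 : Led Lsl_af (LP (LK LD1_c6 LD2_c11 LD3_c47)) = (LP (LK LD1_c3 LD2_c18 LD3_c53)) :=
  Lgr Lrot68 (Lpr_ct (f90621 IH) (Lpr_at (f88978 IH) (Lpr_ct (f88979 IH) (Lpn (LP (LK LD1_c3 LD2_c18 LD3_c53))))))
theorem f90623 : Led Lsl_et (LP (LK LD1_c6 LD2_c11 LD3_c47)) = (LP (LK LD1_c12 LD2_c3 LD3_c25)) :=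
  Lre_e IH (LK LD1_c6 LD2_c11 LD3_c47) (LK LD1_c12 LD2_c3 LD3_c25) Lrfl Lrfl
theorem f89099 : Led Lsl_et (LP (LK LD1_c6 LD2_c41 LD3_c39)) = (LP (LK LD1_c3 LD2_c18 LD3_c53)) :=
  Lre_e IH (LK LD1_c6 LD2_c41 LD3_c39) (LK LD1_c3 LD2_c18 LD3_c53) Lrfl Lrfl
theorem f90649 : Led Lsl_at (LP (LK LD1_c12 LD2_c3 LD3_c25)) = (LP (LK LD1_c6 LD2_c41 LD3_c39)) :=
  Lgr Lrot80 (Lpe (f90623 IH) (Lpr_af (f90626 IH) (Lpe (f89099 IH) (Lpn (LP (LK LD1_c6 LD2_c41 LD3_c39))))))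
theorem f90826 : Led Lsl_dt (LP (LK LD1_c21 LD2_c8 LD3_c48)) = (LP (LK LD1_c12 LD2_c3 LD3_c25)) :=
  Lre_d IH (LK LD1_c21 LD2_c8 LD3_c48) (LK LD1_c12 LD2_c3 LD3_c25) Lrfl Lrfl
theorem f90827 : Led Lsl_af (LP (LK LD1_c21 LD2_c8 LD3_c48)) = (LP (LK LD1_c12 LD2_c48 LD3_c26)) :=
  Lgr Lrot117 (Lpr_dt (f90826 IH) (Lpr_at (f90649 IH) (Lpr_dt (f89096 IH) (Lpn (LP (LK LD1_c12 LD2_c48 LD3_c26))))))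
theorem f89081 : Led Lsl_ct (LP (LK LD1_c21 LD2_c56 LD3_c11)) = (LP (LK LD1_c12 LD2_c48 LD3_c26)) :=
  Lre_c IH (LK LD1_c21 LD2_c56 LD3_c11) (LK LD1_c12 LD2_c48 LD3_c26) Lrfl Lrfl
theorem f90832 : Led Lsl_ct (LP (LK LD1_c21 LD2_c8 LD3_c48)) = (LP (LK LD1_c21 LD2_c50 LD3_c12)) :=
  Lgr Lrot111 (Lpr_af (f90827 IH) (Lpe (f89081 IH) (Lpe (f89100 IH) (Lpn (LP (LK LD1_c21 LD2_c50 LD3_c12))))))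
theorem f90838 : Led Lsl_dt (LP (LK LD1_c12 LD2_c3 LD3_c25)) = (LP (LK LD1_c21 LD2_c8 LD3_c48)) :=
  Lre_d IH (LK LD1_c12 LD2_c3 LD3_c25) (LK LD1_c21 LD2_c8 LD3_c48) Lrfl Lrfl
theorem f93332 : Led Lsl_ct (LP (LK LD1_c6 LD2_c49 LD3_c44)) = (LP (LK LD1_c12 LD2_c3 LD3_c25)) :=
  Lgr Lrot53 (Lpe (f69292 IH) (Lpe (f69282 IH) (Lpe (f69289 IH) (Lpe (f69290 IH) (Lpe (f69291 IH) (Lpr_ft (f93325 IH) (Lpe (f89102 IH) (Lpe (f90832 IH) (Lpe (f90838 IH) (Lpn (LP (LK LD1_c12 LD2_c3 LD3_c25))))))))))))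
theorem f90631 : Led Lsl_et (LP (LK LD1_c12 LD2_c3 LD3_c25)) = (LP (LK LD1_c6 LD2_c11 LD3_c47)) :=
  Lre_e IH (LK LD1_c12 LD2_c3 LD3_c25) (LK LD1_c6 LD2_c11 LD3_c47) Lrfl Lrfl
theorem f93339 : Led Lsl_ef (LP (LK LD1_c6 LD2_c49 LD3_c44)) = (LP (LK LD1_c3 LD2_c28 LD3_c22)) :=
  Lgr Lrot28 (Lpr_ct (f93332 IH) (Lpr_et (f90631 IH) (Lpr_ct (f90621 IH) (Lpn (LP (LK LD1_c3 LD2_c28 LD3_c22))))))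
theorem f69297 : Led Lsl_dt (LP (LK LD1_c6 LD2_c49 LD3_c44)) = (LP (LK LD1_c3 LD2_c23 LD3_c11)) :=
  Lre_d IH (LK LD1_c6 LD2_c49 LD3_c44) (LK LD1_c3 LD2_c23 LD3_c11) Lrfl Lrfl
theorem f85348 : Led Lsl_dt (LP (LK LD1_c1 LD2_c40 LD3_c49)) = (LP (LK LD1_c3 LD2_c28 LD3_c22)) :=
  Lre_d IH (LK LD1_c1 LD2_c40 LD3_c49) (LK LD1_c3 LD2_c28 LD3_c22) Lrfl Lrfl
theorem f88969 : Led Lsl_et (LP (LK LD1_c0 LD2_c46 LD3_c54)) = (LP (LK LD1_c1 LD2_c40 LD3_c49)) :=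
  Lre_e IH (LK LD1_c0 LD2_c46 LD3_c54) (LK LD1_c1 LD2_c40 LD3_c49) Lrfl Lrfl
theorem f93347 : Led Lsl_dt (LP (LK LD1_c1 LD2_c37 LD3_c61)) = (LP (LK LD1_c0 LD2_c46 LD3_c54)) :=
  Lgr Lrot77 (Lpe (f69281 IH) (Lpe (f69297 IH) (Lpr_ef (f93339 IH) (Lpe (f85348 IH) (Lpe (f88969 IH) (Lpn (LP (LK LD1_c0 LD2_c46 LD3_c54))))))))
theorem f89124 : Led Lsl_ft (LP (LK LD1_c0 LD2_c46 LD3_c54)) = (LP (LK LD1_c0 LD2_c21 LD3_c7)) :=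
  Lre_f IH (LK LD1_c0 LD2_c46 LD3_c54) (LK LD1_c0 LD2_c21 LD3_c7) Lrfl Lrfl
theorem f93351 : Led Lsl_ff (LP (LK LD1_c1 LD2_c37 LD3_c61)) = (LP (LK LD1_c0 LD2_c47 LD3_c11)) :=
  Lgr Lrot19 (Lpr_dt (f93347 IH) (Lpr_ft (f89124 IH) (Lpr_dt (K2.f17778 IH) (Lpn (LP (LK LD1_c0 LD2_c47 LD3_c11))))))
theorem f93361 : Led Lsl_ft (LP (LK LD1_c1 LD2_c37 LD3_c61)) = (LP (LK LD1_c0 LD2_c47 LD3_c11)) :=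
  Lgr Lrot48 (Lpr_ff (f93351 IH) (Lpn (LP (LK LD1_c0 LD2_c47 LD3_c11))))
theorem f64596 : Led Lsl_at (LP (LK LD1_c0 LD2_c47 LD3_c11)) = (LP (LK LD1_c1 LD2_c41 LD3_c3)) :=
  Lre_a IH (LK LD1_c0 LD2_c47 LD3_c11) (LK LD1_c1 LD2_c41 LD3_c3) Lrfl Lrfl
theorem f94121 : Led Lsl_gf (LP (LK LD1_c1 LD2_c41 LD3_c3)) = (LP (LK LD1_c1 LD2_c31 LD3_c46)) :=
  Lgr Lrot76 (Lpe (f64596 IH) (Lpe (f93361 IH) (Lpr_gt (f94119 IH) (Lpn (LP (LK LD1_c1 LD2_c31 LD3_c46))))))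
theorem f85138 : Led Lsl_dt (LP (LK LD1_c0 LD2_c23 LD3_c16)) = (LP (LK LD1_c0 LD2_c51 LD3_c31)) :=
  Lre_d IH (LK LD1_c0 LD2_c23 LD3_c16) (LK LD1_c0 LD2_c51 LD3_c31) Lrfl Lrfl
theorem f85069 : Led Lsl_et (LP (LK LD1_c0 LD2_c51 LD3_c43)) = (LP (LK LD1_c1 LD2_c49 LD3_c46)) :=
  Lre_e IH (LK LD1_c0 LD2_c51 LD3_c43) (LK LD1_c1 LD2_c49 LD3_c46) Lrfl Lrfl
theorem f24343 : Led Lsl_dt (LP (LK LD1_c0 LD2_c51 LD3_c43)) = (LP (LK LD1_c0 LD2_c23 LD3_c24)) :=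
  Lre_d IH (LK LD1_c0 LD2_c51 LD3_c43) (LK LD1_c0 LD2_c23 LD3_c24) Lrfl Lrfl
theorem f85070 : Led Lsl_dt (LP (LK LD1_c1 LD2_c49 LD3_c46)) = (LP (LK LD1_c1 LD2_c49 LD3_c46)) :=
  Lgr Lrot77 (Lpe (f85069 IH) (Lpe (K2.f24340 IH) (Lpr_ef (K2.f85065 IH) (Lpe (f24343 IH) (Lpe (K2.f62895 IH) (Lpn (LP (LK LD1_c1 LD2_c49 LD3_c46))))))))
theorem f85072 : Led Lsl_bt (LP (LK LD1_c0 LD2_c51 LD3_c48)) = (LP (LK LD1_c1 LD2_c49 LD3_c46)) :=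
  Lre_b IH (LK LD1_c0 LD2_c51 LD3_c48) (LK LD1_c1 LD2_c49 LD3_c46) Lrfl Lrfl
theorem f85074 : Led Lsl_df (LP (LK LD1_c0 LD2_c51 LD3_c48)) = (LP (LK LD1_c0 LD2_c51 LD3_c48)) :=
  Lgr Lrot12 (Lpr_bt (f85072 IH) (Lpr_dt (f85070 IH) (Lpr_bt (K2.f85073 IH) (Lpn (LP (LK LD1_c0 LD2_c51 LD3_c48))))))
theorem f85113 : Led Lsl_at (LP (LK LD1_c1 LD2_c49 LD3_c26)) = (LP (LK LD1_c0 LD2_c51 LD3_c48)) :=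
  Lre_a IH (LK LD1_c1 LD2_c49 LD3_c26) (LK LD1_c0 LD2_c51 LD3_c48) Lrfl Lrfl
theorem f85114 : Led Lsl_dt (LP (LK LD1_c1 LD2_c49 LD3_c26)) = (LP (LK LD1_c1 LD2_c49 LD3_c26)) :=
  Lgr Lrot44 (Lpe (K2.f85109 IH) (Lpr_df (f85074 IH) (Lpe (f85113 IH) (Lpn (LP (LK LD1_c1 LD2_c49 LD3_c26))))))
theorem f85137 : Led Lsl_et (LP (LK LD1_c0 LD2_c51 LD3_c31)) = (LP (LK LD1_c1 LD2_c49 LD3_c26)) :=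
  Lre_e IH (LK LD1_c0 LD2_c51 LD3_c31) (LK LD1_c1 LD2_c49 LD3_c26) Lrfl Lrfl
theorem f85140 : Led Lsl_dt (LP (LK LD1_c0 LD2_c51 LD3_c31)) = (LP (LK LD1_c0 LD2_c23 LD3_c16)) :=
  Lre_d IH (LK LD1_c0 LD2_c51 LD3_c31) (LK LD1_c0 LD2_c23 LD3_c16) Lrfl Lrfl
theorem f85141 : Led Lsl_ef (LP (LK LD1_c0 LD2_c23 LD3_c16)) = (LP (LK LD1_c0 LD2_c23 LD3_c16)) :=
  Lgr Lrot73 (Lpr_dt (f85138 IH) (Lpr_et (f85137 IH) (Lpr_dt (f85114 IH) (Lpr_et (K2.f85139 IH) (Lpr_dt (f85140 IH) (Lpn (LP (LK LD1_c0 LD2_c23 LD3_c16))))))))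
theorem f95739 : Led Lsl_gf (LP (LK LD1_c0 LD2_c43 LD3_c4)) = (LP (LK LD1_c0 LD2_c23 LD3_c16)) :=
  Lgr Lrot138 (Lpe (K2.f79132 IH) (Lpe (f94121 IH) (Lpe (f87663 IH) (Lpe (K2.f88666 IH) (Lpr_gt (f18006 IH) (Lpe (f17766 IH) (Lpr_dt (f17792 IH) (Lpr_gt (f95730 IH) (Lpe (f85138 IH) (Lpe (f85141 IH) (Lpn (LP (LK LD1_c0 LD2_c23 LD3_c16)))))))))))))
theorem f87615 : Led Lsl_ct (LP (LK LD1_c0 LD2_c47 LD3_c4)) = (LP (LK LD1_c0 LD2_c21 LD3_c5)) :=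
  Lre_c IH (LK LD1_c0 LD2_c47 LD3_c4) (LK LD1_c0 LD2_c21 LD3_c5) Lrfl Lrfl
theorem f87617 : Led Lsl_dt (LP (LK LD1_c0 LD2_c23 LD3_c40)) = (LP (LK LD1_c0 LD2_c21 LD3_c5)) :=
  Lgr Lrot42 (Lpr_df (K2.f87608 IH) (Lpn (LP (LK LD1_c0 LD2_c21 LD3_c5))))
theorem f85145 : Led Lsl_ct (LP (LK LD1_c0 LD2_c10 LD3_c28)) = (LP (LK LD1_c0 LD2_c23 LD3_c16)) :=
  Lre_c IH (LK LD1_c0 LD2_c10 LD3_c28) (LK LD1_c0 LD2_c23 LD3_c16) Lrfl Lrfl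
theorem f95743 : Led Lsl_gf (LP (LK LD1_c0 LD2_c4 LD3_c60)) = (LP (LK LD1_c0 LD2_c10 LD3_c28)) :=
  Lgr Lrot144 (Lpr_dt (K2.f12063 IH) (Lpr_gt (K2.f9901 IH) (Lpr_dt (f87617 IH) (Lpe (f87615 IH) (Lpe (f87616 IH) (Lpr_gf (f94121 IH) (Lpr_df (K2.f79132 IH) (Lpr_gf (f95739 IH) (Lpe (f85145 IH) (Lpn (LP (LK LD1_c0 LD2_c10 LD3_c28))))))))))))
theorem f18893 : Led Lsl_et (LP (LK LD1_c0 LD2_c21 LD3_c0)) = (LP (LK LD1_c0 LD2_c46 LD3_c52)) :=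
  Lre_e IH (LK LD1_c0 LD2_c21 LD3_c0) (LK LD1_c0 LD2_c46 LD3_c52) Lrfl Lrfl
theorem f18883 : Led Lsl_gt (LP (LK LD1_c0 LD2_c46 LD3_c51)) = (LP (LK LD1_c0 LD2_c21 LD3_c11)) :=
  Lre_g IH (LK LD1_c0 LD2_c46 LD3_c51) (LK LD1_c0 LD2_c21 LD3_c11) Lrfl Lrfl
theorem f5797 : Led Lsl_at (LP (LK LD1_c0 LD2_c10 LD3_c28)) = (LP (LK LD1_c0 LD2_c4 LD3_c56)) :=
  Lre_a IH (LK LD1_c0 LD2_c10 LD3_c28) (LK LD1_c0 LD2_c4 LD3_c56) Lrfl Lrfl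
theorem f85014 : Led Lsl_et (LP (LK LD1_c0 LD2_c10 LD3_c28)) = (LP (LK LD1_c0 LD2_c10 LD3_c28)) :=
  Lgr Lrot123 (Lpe (K2.f5775 IH) (Lpr_ef (K2.f85012 IH) (Lpe (f5797 IH) (Lpn (LP (LK LD1_c0 LD2_c10 LD3_c28))))))
theorem f95967 : Led Lsl_df (LP (LK LD1_c0 LD2_c21 LD3_c11)) = (LP (LK LD1_c0 LD2_c10 LD3_c28)) :=
  Lgr Lrot168 (Lpe (f18883 IH) (Lpe (K1.f18878 IH) (Lpr_et (f18893 IH) (Lpe (f12641 IH) (Lpr_ef (K2.f88650 IH) (Lpe (K2.f87608 IH) (Lpe (K2.f9901 IH) (Lpe (K2.f12063 IH) (Lpr_gf (f95743 IH) (Lpe (f85014 IH) (Lpn (LP (LK LD1_c0 LD2_c10 LD3_c28)))))))))))))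
theorem f64793 : Led Lsl_dt (LP (LK LD1_c0 LD2_c47 LD3_c20)) = (LP (LK LD1_c1 LD2_c41 LD3_c33)) :=
  Lre_d IH (LK LD1_c0 LD2_c47 LD3_c20) (LK LD1_c1 LD2_c41 LD3_c33) Lrfl Lrfl
theorem f63734 : Led Lsl_ct (LP (LK LD1_c0 LD2_c52 LD3_c20)) = (LP (LK LD1_c1 LD2_c35 LD3_c33)) :=
  Lre_c IH (LK LD1_c0 LD2_c52 LD3_c20) (LK LD1_c1 LD2_c35 LD3_c33) Lrfl Lrfl
theorem f63119 : Led Lsl_dt (LP (LK LD1_c1 LD2_c40 LD3_c45)) = (LP (LK LD1_c1 LD2_c52 LD3_c2)) :=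
  Lgr Lrot42 (Lpr_df (K1.f62676 IH) (Lpn (LP (LK LD1_c1 LD2_c52 LD3_c2))))
theorem f63121 : Led Lsl_et (LP (LK LD1_c1 LD2_c40 LD3_c45)) = (LP (LK LD1_c3 LD2_c28 LD3_c16)) :=
  Lre_e IH (LK LD1_c1 LD2_c40 LD3_c45) (LK LD1_c3 LD2_c28 LD3_c16) Lrfl Lrfl
theorem f18868 : Led Lsl_gt (LP (LK LD1_c3 LD2_c28 LD3_c16)) = (LP (LK LD1_c6 LD2_c58 LD3_c44)) :=
  Lre_g IH (LK LD1_c3 LD2_c28 LD3_c16) (LK LD1_c6 LD2_c58 LD3_c44) Lrfl Lrfl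
theorem f63629 : Led Lsl_et (LP (LK LD1_c0 LD2_c23 LD3_c53)) = (LP (LK LD1_c0 LD2_c10 LD3_c40)) :=
  Lre_e IH (LK LD1_c0 LD2_c23 LD3_c53) (LK LD1_c0 LD2_c10 LD3_c40) Lrfl Lrfl
theorem f63630 : Led Lsl_dt (LP (LK LD1_c0 LD2_c23 LD3_c53)) = (LP (LK LD1_c0 LD2_c53 LD3_c2)) :=
  Lre_d IH (LK LD1_c0 LD2_c23 LD3_c53) (LK LD1_c0 LD2_c53 LD3_c2) Lrfl Lrfl
theorem f63631 : Led Lsl_gt (LP (LK LD1_c1 LD2_c52 LD3_c48)) = (LP (LK LD1_c0 LD2_c53 LD3_c2)) :=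
  Lre_g IH (LK LD1_c1 LD2_c52 LD3_c48) (LK LD1_c0 LD2_c53 LD3_c2) Lrfl Lrfl
theorem f63632 : Led Lsl_dt (LP (LK LD1_c3 LD2_c52 LD3_c17)) = (LP (LK LD1_c1 LD2_c52 LD3_c48)) :=
  Lre_d IH (LK LD1_c3 LD2_c52 LD3_c17) (LK LD1_c1 LD2_c52 LD3_c48) Lrfl Lrfl
theorem f63633 : Led Lsl_ef (LP (LK LD1_c6 LD2_c58 LD3_c44)) = (LP (LK LD1_c3 LD2_c52 LD3_c17)) :=
  Lgr Lrot17 (Lpe (f18868 IH) (Lpe (f63121 IH) (Lpr_dt (f63119 IH) (Lpe (K1.f62675 IH) (Lpe (K1.f17293 IH) (Lpe (K1.f11542 IH) (Lpe (f63629 IH) (Lpr_dt (f63630 IH) (Lpe (f63631 IH) (Lpe (f63632 IH) (Lpn (LP (LK LD1_c3 LD2_c52 LD3_c17)))))))))))))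
theorem f19139 : Led Lsl_gt (LP (LK LD1_c6 LD2_c58 LD3_c44)) = (LP (LK LD1_c3 LD2_c30 LD3_c31)) :=
  Lre_g IH (LK LD1_c6 LD2_c58 LD3_c44) (LK LD1_c3 LD2_c30 LD3_c31) Lrfl Lrfl
theorem f18547 : Led Lsl_et (LP (LK LD1_c1 LD2_c41 LD3_c53)) = (LP (LK LD1_c3 LD2_c30 LD3_c31)) :=
  Lre_e IH (LK LD1_c1 LD2_c41 LD3_c53) (LK LD1_c3 LD2_c30 LD3_c31) Lrfl Lrfl
theorem f63655 : Led Lsl_dt (LP (LK LD1_c1 LD2_c41 LD3_c53)) = (LP (LK LD1_c3 LD2_c30 LD3_c30)) :=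
  Lre_d IH (LK LD1_c1 LD2_c41 LD3_c53) (LK LD1_c3 LD2_c30 LD3_c30) Lrfl Lrfl
theorem f63648 : Led Lsl_gt (LP (LK LD1_c3 LD2_c47 LD3_c61)) = (LP (LK LD1_c1 LD2_c52 LD3_c48)) :=
  Lre_g IH (LK LD1_c3 LD2_c47 LD3_c61) (LK LD1_c1 LD2_c52 LD3_c48) Lrfl Lrfl
theorem f63649 : Led Lsl_dt (LP (LK LD1_c1 LD2_c50 LD3_c60)) = (LP (LK LD1_c3 LD2_c47 LD3_c61)) :=
  Lre_d IH (LK LD1_c1 LD2_c50 LD3_c60) (LK LD1_c3 LD2_c47 LD3_c61) Lrfl Lrfl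
theorem f14884 : Led Lsl_gt (LP (LK LD1_c0 LD2_c53 LD3_c0)) = (LP (LK LD1_c1 LD2_c50 LD3_c60)) :=
  Lre_g IH (LK LD1_c0 LD2_c53 LD3_c0) (LK LD1_c1 LD2_c50 LD3_c60) Lrfl Lrfl
theorem f63656 : Led Lsl_et (LP (LK LD1_c1 LD2_c52 LD3_c42)) = (LP (LK LD1_c0 LD2_c53 LD3_c0)) :=
  Lre_e IH (LK LD1_c1 LD2_c52 LD3_c42) (LK LD1_c0 LD2_c53 LD3_c0) Lrfl Lrfl
theorem f63657 : Led Lsl_dt (LP (LK LD1_c1 LD2_c52 LD3_c42)) = (LP (LK LD1_c3 LD2_c52 LD3_c2)) :=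
  Lre_d IH (LK LD1_c1 LD2_c52 LD3_c42) (LK LD1_c3 LD2_c52 LD3_c2) Lrfl Lrfl
theorem f63658 : Led Lsl_gt (LP (LK LD1_c3 LD2_c30 LD3_c30)) = (LP (LK LD1_c3 LD2_c52 LD3_c2)) :=
  Lgr Lrot112 (Lpe (f63655 IH) (Lpr_et (f18547 IH) (Lpe (f19139 IH) (Lpr_ef (f63633 IH) (Lpr_dt (f63632 IH) (Lpe (f63648 IH) (Lpe (f63649 IH) (Lpe (f14884 IH) (Lpe (f63656 IH) (Lpr_dt (f63657 IH) (Lpn (LP (LK LD1_c3 LD2_c52 LD3_c2)))))))))))))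
theorem f63667 : Led Lsl_gt (LP (LK LD1_c3 LD2_c29 LD3_c6)) = (LP (LK LD1_c1 LD2_c41 LD3_c53)) :=
  Lre_g IH (LK LD1_c3 LD2_c29 LD3_c6) (LK LD1_c1 LD2_c41 LD3_c53) Lrfl Lrfl
theorem f63684 : Led Lsl_et (LP (LK LD1_c6 LD2_c59 LD3_c61)) = (LP (LK LD1_c3 LD2_c29 LD3_c6)) :=
  Lre_e IH (LK LD1_c6 LD2_c59 LD3_c61) (LK LD1_c3 LD2_c29 LD3_c6) Lrfl Lrfl
theorem f63685 : Led Lsl_et (LP (LK LD1_c3 LD2_c44 LD3_c39)) = (LP (LK LD1_c1 LD2_c50 LD3_c60)) :=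
  Lre_e IH (LK LD1_c3 LD2_c44 LD3_c39) (LK LD1_c1 LD2_c50 LD3_c60) Lrfl Lrfl
theorem f63686 : Led Lsl_dt (LP (LK LD1_c3 LD2_c44 LD3_c39)) = (LP (LK LD1_c7 LD2_c30 LD3_c26)) :=
  Lre_d IH (LK LD1_c3 LD2_c44 LD3_c39) (LK LD1_c7 LD2_c30 LD3_c26) Lrfl Lrfl
theorem f16038 : Led Lsl_gt (LP (LK LD1_c7 LD2_c30 LD3_c26)) = (LP (LK LD1_c3 LD2_c52 LD3_c32)) :=
  Lre_g IH (LK LD1_c7 LD2_c30 LD3_c26) (LK LD1_c3 LD2_c52 LD3_c32) Lrfl Lrfl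
theorem f63687 : Led Lsl_dt (LP (LK LD1_c6 LD2_c59 LD3_c61)) = (LP (LK LD1_c3 LD2_c52 LD3_c32)) :=
  Lgr Lrot37 (Lpr_et (f63684 IH) (Lpr_gt (f63667 IH) (Lpr_dt (f63655 IH) (Lpr_gt (f63658 IH) (Lpe (f63657 IH) (Lpr_et (f63656 IH) (Lpr_gt (f14884 IH) (Lpe (f63685 IH) (Lpr_dt (f63686 IH) (Lpr_gt (f16038 IH) (Lpn (LP (LK LD1_c3 LD2_c52 LD3_c32)))))))))))))
theorem f18760 : Led Lsl_gt (LP (LK LD1_c1 LD2_c41 LD3_c17)) = (LP (LK LD1_c3 LD2_c29 LD3_c6)) :=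
  Lre_g IH (LK LD1_c1 LD2_c41 LD3_c17) (LK LD1_c3 LD2_c29 LD3_c6) Lrfl Lrfl
theorem f63713 : Led Lsl_et (LP (LK LD1_c0 LD2_c47 LD3_c14)) = (LP (LK LD1_c1 LD2_c41 LD3_c17)) :=
  Lre_e IH (LK LD1_c0 LD2_c47 LD3_c14) (LK LD1_c1 LD2_c41 LD3_c17) Lrfl Lrfl
theorem f62839 : Led Lsl_dt (LP (LK LD1_c0 LD2_c47 LD3_c14)) = (LP (LK LD1_c1 LD2_c41 LD3_c16)) :=
  Lre_d IH (LK LD1_c0 LD2_c47 LD3_c14) (LK LD1_c1 LD2_c41 LD3_c16) Lrfl Lrfl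
theorem f17040 : Led Lsl_gt (LP (LK LD1_c3 LD2_c52 LD3_c32)) = (LP (LK LD1_c1 LD2_c52 LD3_c54)) :=
  Lre_g IH (LK LD1_c3 LD2_c52 LD3_c32) (LK LD1_c1 LD2_c52 LD3_c54) Lrfl Lrfl
theorem f15451 : Led Lsl_dt (LP (LK LD1_c0 LD2_c53 LD3_c4)) = (LP (LK LD1_c1 LD2_c52 LD3_c54)) :=
  Lre_d IH (LK LD1_c0 LD2_c53 LD3_c4) (LK LD1_c1 LD2_c52 LD3_c54) Lrfl Lrfl
theorem f17009 : Led Lsl_et (LP (LK LD1_c0 LD2_c53 LD3_c4)) = (LP (LK LD1_c0 LD2_c23 LD3_c54)) :=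
  Lre_e IH (LK LD1_c0 LD2_c53 LD3_c4) (LK LD1_c0 LD2_c23 LD3_c54) Lrfl Lrfl
theorem f15627 : Led Lsl_gt (LP (LK LD1_c0 LD2_c23 LD3_c54)) = (LP (LK LD1_c0 LD2_c52 LD3_c18)) :=
  Lre_g IH (LK LD1_c0 LD2_c23 LD3_c54) (LK LD1_c0 LD2_c52 LD3_c18) Lrfl Lrfl
theorem f15628 : Led Lsl_dt (LP (LK LD1_c0 LD2_c52 LD3_c18)) = (LP (LK LD1_c1 LD2_c50 LD3_c49)) :=
  Lre_d IH (LK LD1_c0 LD2_c52 LD3_c18) (LK LD1_c1 LD2_c50 LD3_c49) Lrfl Lrfl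
theorem f63714 : Led Lsl_gf (LP (LK LD1_c1 LD2_c41 LD3_c16)) = (LP (LK LD1_c1 LD2_c50 LD3_c49)) :=
  Lgr Lrot134 (Lpe (f62839 IH) (Lpr_et (f63713 IH) (Lpr_gt (f18760 IH) (Lpe (f63684 IH) (Lpr_dt (f63687 IH) (Lpr_gt (f17040 IH) (Lpe (f15451 IH) (Lpr_et (f17009 IH) (Lpr_gt (f15627 IH) (Lpr_dt (f15628 IH) (Lpn (LP (LK LD1_c1 LD2_c50 LD3_c49)))))))))))))
theorem f63409 : Led Lsl_at (LP (LK LD1_c0 LD2_c47 LD3_c25)) = (LP (LK LD1_c1 LD2_c41 LD3_c16)) :=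
  Lre_a IH (LK LD1_c0 LD2_c47 LD3_c25) (LK LD1_c1 LD2_c41 LD3_c16) Lrfl Lrfl
theorem f18238 : Led Lsl_ft (LP (LK LD1_c1 LD2_c41 LD3_c49)) = (LP (LK LD1_c0 LD2_c47 LD3_c25)) :=
  Lre_f IH (LK LD1_c1 LD2_c41 LD3_c49) (LK LD1_c0 LD2_c47 LD3_c25) Lrfl Lrfl
theorem f63716 : Led Lsl_gt (LP (LK LD1_c1 LD2_c41 LD3_c49)) = (LP (LK LD1_c1 LD2_c50 LD3_c49)) :=
  Lgr Lrot5 (Lpr_ft (f18238 IH) (Lpr_at (f63409 IH) (Lpr_gf (f63714 IH) (Lpn (LP (LK LD1_c1 LD2_c50 LD3_c49))))))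
theorem f19113 : Led Lsl_et (LP (LK LD1_c3 LD2_c30 LD3_c18)) = (LP (LK LD1_c1 LD2_c41 LD3_c49)) :=
  Lre_e IH (LK LD1_c3 LD2_c30 LD3_c18) (LK LD1_c1 LD2_c41 LD3_c49) Lrfl Lrfl
theorem f19103 : Led Lsl_dt (LP (LK LD1_c3 LD2_c30 LD3_c18)) = (LP (LK LD1_c7 LD2_c2 LD3_c24)) :=
  Lre_d IH (LK LD1_c3 LD2_c30 LD3_c18) (LK LD1_c7 LD2_c2 LD3_c24) Lrfl Lrfl
theorem f18338 : Led Lsl_gt (LP (LK LD1_c13 LD2_c21 LD3_c3)) = (LP (LK LD1_c7 LD2_c2 LD3_c24)) :=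
  Lre_g IH (LK LD1_c13 LD2_c21 LD3_c3) (LK LD1_c7 LD2_c2 LD3_c24) Lrfl Lrfl
theorem f63721 : Led Lsl_dt (LP (LK LD1_c1 LD2_c50 LD3_c49)) = (LP (LK LD1_c0 LD2_c52 LD3_c18)) :=
  Lre_d IH (LK LD1_c1 LD2_c50 LD3_c49) (LK LD1_c0 LD2_c52 LD3_c18) Lrfl Lrfl
theorem f17281 : Led Lsl_gt (LP (LK LD1_c0 LD2_c52 LD3_c18)) = (LP (LK LD1_c0 LD2_c23 LD3_c41)) :=
  Lre_g IH (LK LD1_c0 LD2_c52 LD3_c18) (LK LD1_c0 LD2_c23 LD3_c41) Lrfl Lrfl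
theorem f15271 : Led Lsl_dt (LP (LK LD1_c0 LD2_c52 LD3_c20)) = (LP (LK LD1_c0 LD2_c23 LD3_c41)) :=
  Lre_d IH (LK LD1_c0 LD2_c52 LD3_c20) (LK LD1_c0 LD2_c23 LD3_c41) Lrfl Lrfl
theorem f63735 : Led Lsl_et (LP (LK LD1_c0 LD2_c52 LD3_c20)) = (LP (LK LD1_c1 LD2_c50 LD3_c56)) :=
  Lre_e IH (LK LD1_c0 LD2_c52 LD3_c20) (LK LD1_c1 LD2_c50 LD3_c56) Lrfl Lrfl
theorem f63736 : Led Lsl_gt (LP (LK LD1_c1 LD2_c50 LD3_c56)) = (LP (LK LD1_c3 LD2_c47 LD3_c47)) :=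
  Lre_g IH (LK LD1_c1 LD2_c50 LD3_c56) (LK LD1_c3 LD2_c47 LD3_c47) Lrfl Lrfl
theorem f63737 : Led Lsl_et (LP (LK LD1_c7 LD2_c36 LD3_c38)) = (LP (LK LD1_c3 LD2_c47 LD3_c47)) :=
  Lre_e IH (LK LD1_c7 LD2_c36 LD3_c38) (LK LD1_c3 LD2_c47 LD3_c47) Lrfl Lrfl
theorem f63738 : Led Lsl_df (LP (LK LD1_c13 LD2_c21 LD3_c3)) = (LP (LK LD1_c7 LD2_c36 LD3_c38)) :=
  Lgr Lrot170 (Lpr_gt (f18338 IH) (Lpe (f19103 IH) (Lpr_et (f19113 IH) (Lpr_gt (f63716 IH) (Lpr_dt (f63721 IH) (Lpr_gt (f17281 IH) (Lpe (f15271 IH) (Lpr_et (f63735 IH) (Lpr_gt (f63736 IH) (Lpe (f63737 IH) (Lpn (LP (LK LD1_c7 LD2_c36 LD3_c38)))))))))))))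
theorem f18320 : Led Lsl_ct (LP (LK LD1_c7 LD2_c2 LD3_c24)) = (LP (LK LD1_c13 LD2_c21 LD3_c4)) :=
  Lre_c IH (LK LD1_c7 LD2_c2 LD3_c24) (LK LD1_c13 LD2_c21 LD3_c4) Lrfl Lrfl
theorem f63346 : Led Lsl_af (LP (LK LD1_c7 LD2_c2 LD3_c24)) = (LP (LK LD1_c7 LD2_c41 LD3_c32)) :=
  Lgr Lrot68 (Lpr_ct (f18320 IH) (Lpr_at (K2.f63333 IH) (Lpr_ct (K2.f63313 IH) (Lpn (LP (LK LD1_c7 LD2_c41 LD3_c32))))))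
theorem f63580 : Led Lsl_gf (LP (LK LD1_c13 LD2_c21 LD3_c3)) = (LP (LK LD1_c14 LD2_c30 LD3_c0)) :=
  Lgr Lrot47 (Lpr_gt (f18338 IH) (Lpr_af (f63346 IH) (Lpe (K2.f63285 IH) (Lpn (LP (LK LD1_c14 LD2_c30 LD3_c0))))))
theorem f63215 : Led Lsl_dt (LP (LK LD1_c7 LD2_c41 LD3_c33)) = (LP (LK LD1_c14 LD2_c30 LD3_c0)) :=
  Lre_d IH (LK LD1_c7 LD2_c41 LD3_c33) (LK LD1_c14 LD2_c30 LD3_c0) Lrfl Lrfl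
theorem f63244 : Led Lsl_gt (LP (LK LD1_c3 LD2_c30 LD3_c14)) = (LP (LK LD1_c6 LD2_c59 LD3_c58)) :=
  Lre_g IH (LK LD1_c3 LD2_c30 LD3_c14) (LK LD1_c6 LD2_c59 LD3_c58) Lrfl Lrfl
theorem f63245 : Led Lsl_et (LP (LK LD1_c7 LD2_c2 LD3_c12)) = (LP (LK LD1_c3 LD2_c30 LD3_c14)) :=
  Lre_e IH (LK LD1_c7 LD2_c2 LD3_c12) (LK LD1_c3 LD2_c30 LD3_c14) Lrfl Lrfl
theorem f14467 : Led Lsl_gt (LP (LK LD1_c3 LD2_c47 LD3_c47)) = (LP (LK LD1_c1 LD2_c52 LD3_c37)) :=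
  Lre_g IH (LK LD1_c3 LD2_c47 LD3_c47) (LK LD1_c1 LD2_c52 LD3_c37) Lrfl Lrfl
theorem f63761 : Led Lsl_dt (LP (LK LD1_c1 LD2_c52 LD3_c37)) = (LP (LK LD1_c3 LD2_c51 LD3_c46)) :=
  Lre_d IH (LK LD1_c1 LD2_c52 LD3_c37) (LK LD1_c3 LD2_c51 LD3_c46) Lrfl Lrfl
theorem f63762 : Led Lsl_gt (LP (LK LD1_c3 LD2_c51 LD3_c46)) = (LP (LK LD1_c7 LD2_c36 LD3_c44)) :=
  Lre_g IH (LK LD1_c3 LD2_c51 LD3_c46) (LK LD1_c7 LD2_c36 LD3_c44) Lrfl Lrfl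
theorem f63763 : Led Lsl_dt (LP (LK LD1_c7 LD2_c2 LD3_c12)) = (LP (LK LD1_c7 LD2_c36 LD3_c44)) :=
  Lgr Lrot56 (Lpr_et (f63245 IH) (Lpr_gt (f63244 IH) (Lpr_ef (K2.f63219 IH) (Lpr_dt (f63215 IH) (Lpe (f63580 IH) (Lpr_df (f63738 IH) (Lpr_et (f63737 IH) (Lpr_gt (f14467 IH) (Lpr_dt (f63761 IH) (Lpr_gt (f63762 IH) (Lpn (LP (LK LD1_c7 LD2_c36 LD3_c44)))))))))))))
theorem f63797 : Led Lsl_gt (LP (LK LD1_c1 LD2_c41 LD3_c48)) = (LP (LK LD1_c3 LD2_c30 LD3_c14)) :=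
  Lre_g IH (LK LD1_c1 LD2_c41 LD3_c48) (LK LD1_c3 LD2_c30 LD3_c14) Lrfl Lrfl
theorem f63798 : Led Lsl_et (LP (LK LD1_c0 LD2_c47 LD3_c25)) = (LP (LK LD1_c1 LD2_c41 LD3_c48)) :=
  Lre_e IH (LK LD1_c0 LD2_c47 LD3_c25) (LK LD1_c1 LD2_c41 LD3_c48) Lrfl Lrfl
theorem f11312 : Led Lsl_gt (LP (LK LD1_c0 LD2_c47 LD3_c23)) = (LP (LK LD1_c0 LD2_c21 LD3_c12)) :=
  Lre_g IH (LK LD1_c0 LD2_c47 LD3_c23) (LK LD1_c0 LD2_c21 LD3_c12) Lrfl Lrfl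
theorem f63141 : Led Lsl_dt (LP (LK LD1_c1 LD2_c41 LD3_c41)) = (LP (LK LD1_c0 LD2_c47 LD3_c23)) :=
  Lre_d IH (LK LD1_c1 LD2_c41 LD3_c41) (LK LD1_c0 LD2_c47 LD3_c23) Lrfl Lrfl
theorem f63782 : Led Lsl_gt (LP (LK LD1_c7 LD2_c36 LD3_c44)) = (LP (LK LD1_c3 LD2_c47 LD3_c49)) :=
  Lre_g IH (LK LD1_c7 LD2_c36 LD3_c44) (LK LD1_c3 LD2_c47 LD3_c49) Lrfl Lrfl
theorem f63795 : Led Lsl_dt (LP (LK LD1_c1 LD2_c50 LD3_c56)) = (LP (LK LD1_c3 LD2_c47 LD3_c49)) :=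
  Lre_d IH (LK LD1_c1 LD2_c50 LD3_c56) (LK LD1_c3 LD2_c47 LD3_c49) Lrfl Lrfl
theorem f63796 : Led Lsl_et (LP (LK LD1_c1 LD2_c50 LD3_c56)) = (LP (LK LD1_c0 LD2_c52 LD3_c20)) :=
  Lre_e IH (LK LD1_c1 LD2_c50 LD3_c56) (LK LD1_c0 LD2_c52 LD3_c20) Lrfl Lrfl
theorem f63799 : Led Lsl_gf (LP (LK LD1_c1 LD2_c41 LD3_c41)) = (LP (LK LD1_c0 LD2_c52 LD3_c20)) :=
  Lgr Lrot138 (Lpr_dt (f63141 IH) (Lpr_gt (f11312 IH) (Lpe (K2.f11311 IH) (Lpr_et (f63798 IH) (Lpr_gt (f63797 IH) (Lpe (f63245 IH) (Lpr_dt (f63763 IH) (Lpr_gt (f63782 IH) (Lpe (f63795 IH) (Lpr_et (f63796 IH) (Lpn (LP (LK LD1_c0 LD2_c52 LD3_c20)))))))))))))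
theorem f58400 : Led Lsl_gt (LP (LK LD1_c1 LD2_c27 LD3_c1)) = (LP (LK LD1_c3 LD2_c1 LD3_c22)) :=
  Lre_g IH (LK LD1_c1 LD2_c27 LD3_c1) (LK LD1_c3 LD2_c1 LD3_c22) Lrfl Lrfl
theorem f63804 : Led Lsl_dt (LP (LK LD1_c3 LD2_c1 LD3_c60)) = (LP (LK LD1_c1 LD2_c27 LD3_c1)) :=
  Lre_d IH (LK LD1_c3 LD2_c1 LD3_c60) (LK LD1_c1 LD2_c27 LD3_c1) Lrfl Lrfl
theorem f63731 : Led Lsl_ct (LP (LK LD1_c1 LD2_c35 LD3_c33)) = (LP (LK LD1_c0 LD2_c52 LD3_c20)) :=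
  Lre_c IH (LK LD1_c1 LD2_c35 LD3_c33) (LK LD1_c0 LD2_c52 LD3_c20) Lrfl Lrfl
theorem f63805 : Led Lsl_gf (LP (LK LD1_c3 LD2_c1 LD3_c60)) = (LP (LK LD1_c1 LD2_c35 LD3_c33)) :=
  Lgr Lrot144 (Lpr_dt (f63804 IH) (Lpr_gt (f58400 IH) (Lpr_dt (K1.f63114 IH) (Lpe (K1.f63495 IH) (Lpe (K1.f63494 IH) (Lpe (f11312 IH) (Lpe (f63141 IH) (Lpr_gf (f63799 IH) (Lpe (f63731 IH) (Lpn (LP (LK LD1_c1 LD2_c35 LD3_c33))))))))))))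
theorem f64638 : Led Lsl_dt (LP (LK LD1_c1 LD2_c41 LD3_c33)) = (LP (LK LD1_c0 LD2_c47 LD3_c20)) :=
  Lre_d IH (LK LD1_c1 LD2_c41 LD3_c33) (LK LD1_c0 LD2_c47 LD3_c20) Lrfl Lrfl
theorem f65009 : Led Lsl_ct (LP (LK LD1_c3 LD2_c1 LD3_c60)) = (LP (LK LD1_c1 LD2_c41 LD3_c33)) :=
  Lgr Lrot110 (Lpr_gf (f63805 IH) (Lpe (f63734 IH) (Lpr_gf (K1.f65003 IH) (Lpe (K1.f18138 IH) (Lpr_gt (K1.f18885 IH) (Lpr_ct (K1.f18876 IH) (Lpr_gt (f18883 IH) (Lpr_ct (K2.f18884 IH) (Lpe (f64638 IH) (Lpn (LP (LK LD1_c1 LD2_c41 LD3_c33))))))))))))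
theorem f65052 : Led Lsl_cf (LP (LK LD1_c3 LD2_c1 LD3_c60)) = (LP (LK LD1_c1 LD2_c41 LD3_c33)) :=
  Lgr Lrot11 (Lpr_ct (f65009 IH) (Lpn (LP (LK LD1_c1 LD2_c41 LD3_c33))))
theorem f85144 : Led Lsl_ct (LP (LK LD1_c0 LD2_c23 LD3_c16)) = (LP (LK LD1_c0 LD2_c10 LD3_c28)) :=
  Lre_c IH (LK LD1_c0 LD2_c23 LD3_c16) (LK LD1_c0 LD2_c10 LD3_c28) Lrfl Lrfl
theorem f95981 : Led Lsl_ft (LP (LK LD1_c0 LD2_c51 LD3_c31)) = (LP (LK LD1_c0 LD2_c23 LD3_c34)) :=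
  Lre_f IH (LK LD1_c0 LD2_c51 LD3_c31) (LK LD1_c0 LD2_c23 LD3_c34) Lrfl Lrfl
theorem f95982 : Led Lsl_at (LP (LK LD1_c0 LD2_c23 LD3_c34)) = (LP (LK LD1_c0 LD2_c51 LD3_c49)) :=
  Lre_a IH (LK LD1_c0 LD2_c23 LD3_c34) (LK LD1_c0 LD2_c51 LD3_c49) Lrfl Lrfl
theorem f95983 : Led Lsl_ct (LP (LK LD1_c1 LD2_c27 LD3_c1)) = (LP (LK LD1_c0 LD2_c51 LD3_c49)) :=
  Lgr Lrot98 (Lpe (f63804 IH) (Lpr_cf (f65052 IH) (Lpe (f64793 IH) (Lpe (K2.f18884 IH) (Lpr_df (f95967 IH) (Lpe (f85144 IH) (Lpe (f85140 IH) (Lpr_ft (f95981 IH) (Lpr_at (f95982 IH) (Lpn (LP (LK LD1_c0 LD2_c51 LD3_c49))))))))))))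
theorem f95732 : Led Lsl_ft (LP (LK LD1_c0 LD2_c51 LD3_c49)) = (LP (LK LD1_c0 LD2_c23 LD3_c25)) :=
  Lre_f IH (LK LD1_c0 LD2_c51 LD3_c49) (LK LD1_c0 LD2_c23 LD3_c25) Lrfl Lrfl
theorem f95995 : Led Lsl_ff (LP (LK LD1_c1 LD2_c27 LD3_c1)) = (LP (LK LD1_c0 LD2_c51 LD3_c47)) :=
  Lgr Lrot23 (Lpr_ct (f95983 IH) (Lpr_ft (f95732 IH) (Lpr_ct (K1.f62863 IH) (Lpn (LP (LK LD1_c0 LD2_c51 LD3_c47))))))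
theorem f96010 : Led Lsl_at (LP (LK LD1_c1 LD2_c27 LD3_c1)) = (LP (LK LD1_c0 LD2_c52 LD3_c2)) :=
  Lgr Lrot26 (Lpr_ff (f95995 IH) (Lpe (K2.f62929 IH) (Lpe (K1.f65640 IH) (Lpn (LP (LK LD1_c0 LD2_c52 LD3_c2))))))
theorem f95713 : Led Lsl_at (LP (LK LD1_c0 LD2_c23 LD3_c25)) = (LP (LK LD1_c0 LD2_c51 LD3_c31)) :=
  Lre_a IH (LK LD1_c0 LD2_c23 LD3_c25) (LK LD1_c0 LD2_c51 LD3_c31) Lrfl Lrfl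
theorem f95717 : Led Lsl_at (LP (LK LD1_c1 LD2_c27 LD3_c2)) = (LP (LK LD1_c0 LD2_c51 LD3_c47)) :=
  Lgr Lrot107 (Lpr_cf (f95715 IH) (Lpe (f95713 IH) (Lpe (K1.f62854 IH) (Lpn (LP (LK LD1_c0 LD2_c51 LD3_c47))))))
theorem f96020 : Led Lsl_ff (LP (LK LD1_c1 LD2_c27 LD3_c2)) = (LP (LK LD1_c0 LD2_c52 LD3_c2)) :=
  Lgr Lrot30 (Lpr_at (f95717 IH) (Lpe (f95995 IH) (Lpr_at (f96010 IH) (Lpn (LP (LK LD1_c0 LD2_c52 LD3_c2))))))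
theorem f58414 : Led Lsl_dt (LP (LK LD1_c1 LD2_c27 LD3_c2)) = (LP (LK LD1_c3 LD2_c2 LD3_c1)) :=
  Lre_d IH (LK LD1_c1 LD2_c27 LD3_c2) (LK LD1_c3 LD2_c2 LD3_c1) Lrfl Lrfl
theorem f96024 : Led Lsl_ft (LP (LK LD1_c3 LD2_c2 LD3_c1)) = (LP (LK LD1_c1 LD2_c35 LD3_c30)) :=
  Lgr Lrot54 (Lpe (f58414 IH) (Lpr_ff (f96020 IH) (Lpr_df (K1.f65689 IH) (Lpn (LP (LK LD1_c1 LD2_c35 LD3_c30))))))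
theorem f96016 : Led Lsl_af (LP (LK LD1_c3 LD2_c1 LD3_c60)) = (LP (LK LD1_c1 LD2_c35 LD3_c30)) :=
  Lgr Lrot117 (Lpr_dt (f63804 IH) (Lpr_at (f96010 IH) (Lpr_dt (K1.f65666 IH) (Lpn (LP (LK LD1_c1 LD2_c35 LD3_c30))))))
theorem f96036 : Led Lsl_gt (LP (LK LD1_c3 LD2_c2 LD3_c1)) = (LP (LK LD1_c1 LD2_c35 LD3_c33)) :=
  Lgr Lrot5 (Lpr_ft (f96024 IH) (Lpe (f96016 IH) (Lpr_gf (f63805 IH) (Lpn (LP (LK LD1_c1 LD2_c35 LD3_c33))))))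
theorem f63500 : Led Lsl_dt (LP (LK LD1_c3 LD2_c2 LD3_c1)) = (LP (LK LD1_c1 LD2_c27 LD3_c2)) :=
  Lre_d IH (LK LD1_c3 LD2_c2 LD3_c1) (LK LD1_c1 LD2_c27 LD3_c2) Lrfl Lrfl
theorem f23036 : Led Lsl_gt (LP (LK LD1_c0 LD2_c18 LD3_c2)) = (LP (LK LD1_c0 LD2_c40 LD3_c17)) :=
  Lre_g IH (LK LD1_c0 LD2_c18 LD3_c2) (LK LD1_c0 LD2_c40 LD3_c17) Lrfl Lrfl
theorem f23037 : Led Lsl_ct (LP (LK LD1_c0 LD2_c40 LD3_c17)) = (LP (LK LD1_c1 LD2_c26 LD3_c59)) :=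
  Lre_c IH (LK LD1_c0 LD2_c40 LD3_c17) (LK LD1_c1 LD2_c26 LD3_c59) Lrfl Lrfl
theorem f96042 : Led Lsl_dt (LP (LK LD1_c1 LD2_c26 LD3_c59)) = (LP (LK LD1_c3 LD2_c1 LD3_c50)) :=
  Lre_d IH (LK LD1_c1 LD2_c26 LD3_c59) (LK LD1_c3 LD2_c1 LD3_c50) Lrfl Lrfl
theorem f96043 : Led Lsl_cf (LP (LK LD1_c3 LD2_c1 LD3_c50)) = (LP (LK LD1_c1 LD2_c41 LD3_c41)) :=
  Lgr Lrot99 (Lpe (f96042 IH) (Lpe (f23037 IH) (Lpe (f23036 IH) (Lpe (f62008 IH) (Lpe (f59459 IH) (Lpe (f63500 IH) (Lpr_gt (f96036 IH) (Lpr_ct (f63731 IH) (Lpe (f63799 IH) (Lpn (LP (LK LD1_c1 LD2_c41 LD3_c41))))))))))))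
theorem f11980 : Led Lsl_gt (LP (LK LD1_c0 LD2_c23 LD3_c41)) = (LP (LK LD1_c0 LD2_c52 LD3_c17)) :=
  Lre_g IH (LK LD1_c0 LD2_c23 LD3_c41) (LK LD1_c0 LD2_c52 LD3_c17) Lrfl Lrfl
theorem f9906 : Led Lsl_bt (LP (LK LD1_c0 LD2_c46 LD3_c29)) = (LP (LK LD1_c0 LD2_c20 LD3_c53)) :=
  Lre_b IH (LK LD1_c0 LD2_c46 LD3_c29) (LK LD1_c0 LD2_c20 LD3_c53) Lrfl Lrfl
theorem f11250 : Led Lsl_at (LP (LK LD1_c0 LD2_c4 LD3_c59)) = (LP (LK LD1_c0 LD2_c10 LD3_c37)) :=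
  Lre_a IH (LK LD1_c0 LD2_c4 LD3_c59) (LK LD1_c0 LD2_c10 LD3_c37) Lrfl Lrfl
theorem f11252 : Led Lsl_at (LP (LK LD1_c0 LD2_c10 LD3_c37)) = (LP (LK LD1_c0 LD2_c4 LD3_c59)) :=
  Lre_a IH (LK LD1_c0 LD2_c10 LD3_c37) (LK LD1_c0 LD2_c4 LD3_c59) Lrfl Lrfl
theorem f11253 : Led Lsl_bt (LP (LK LD1_c0 LD2_c10 LD3_c37)) = (LP (LK LD1_c0 LD2_c10 LD3_c37)) :=
  Lgr Lrot62 (Lpe (f11250 IH) (Lpe (K0.f11249 IH) (Lpr_af (K0.f11231 IH) (Lpe (K0.f11251 IH) (Lpe (f11252 IH) (Lpn (LP (LK LD1_c0 LD2_c10 LD3_c37))))))))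
theorem f11979 : Led Lsl_ct (LP (LK LD1_c0 LD2_c10 LD3_c37)) = (LP (LK LD1_c0 LD2_c23 LD3_c41)) :=
  Lre_c IH (LK LD1_c0 LD2_c10 LD3_c37) (LK LD1_c0 LD2_c23 LD3_c41) Lrfl Lrfl
theorem f15068 : Led Lsl_ct (LP (LK LD1_c0 LD2_c46 LD3_c29)) = (LP (LK LD1_c0 LD2_c52 LD3_c17)) :=
  Lgr Lrot10 (Lpr_bt (f9906 IH) (Lpr_gt (K2.f14600 IH) (Lpr_ct (K0.f14581 IH) (Lpr_gt (K2.f15066 IH) (Lpe (K2.f11954 IH) (Lpr_bt (K2.f11952 IH) (Lpr_gt (K2.f11978 IH) (Lpe (f11253 IH) (Lpr_ct (f11979 IH) (Lpr_gt (f11980 IH) (Lpn (LP (LK LD1_c0 LD2_c52 LD3_c17)))))))))))))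
theorem f15081 : Led Lsl_cf (LP (LK LD1_c0 LD2_c46 LD3_c29)) = (LP (LK LD1_c0 LD2_c52 LD3_c17)) :=
  Lgr Lrot11 (Lpr_ct (f15068 IH) (Lpn (LP (LK LD1_c0 LD2_c52 LD3_c17))))
theorem f94780 : Led Lsl_ct (LP (LK LD1_c1 LD2_c39 LD3_c40)) = (LP (LK LD1_c0 LD2_c46 LD3_c22)) :=
  Lre_c IH (LK LD1_c1 LD2_c39 LD3_c40) (LK LD1_c0 LD2_c46 LD3_c22) Lrfl Lrfl
theorem f90887 : Led Lsl_dt (LP (LK LD1_c0 LD2_c46 LD3_c22)) = (LP (LK LD1_c0 LD2_c20 LD3_c49)) :=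
  Lre_d IH (LK LD1_c0 LD2_c46 LD3_c22) (LK LD1_c0 LD2_c20 LD3_c49) Lrfl Lrfl
theorem f13513 : Led Lsl_ct (LP (LK LD1_c0 LD2_c20 LD3_c49)) = (LP (LK LD1_c0 LD2_c9 LD3_c26)) :=
  Lre_c IH (LK LD1_c0 LD2_c20 LD3_c49) (LK LD1_c0 LD2_c9 LD3_c26) Lrfl Lrfl
theorem f9799 : Led Lsl_ct (LP (LK LD1_c0 LD2_c20 LD3_c50)) = (LP (LK LD1_c0 LD2_c46 LD3_c24)) :=
  Lre_c IH (LK LD1_c0 LD2_c20 LD3_c50) (LK LD1_c0 LD2_c46 LD3_c24) Lrfl Lrfl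
theorem f90888 : Led Lsl_dt (LP (LK LD1_c0 LD2_c46 LD3_c24)) = (LP (LK LD1_c1 LD2_c39 LD3_c44)) :=
  Lre_d IH (LK LD1_c0 LD2_c46 LD3_c24) (LK LD1_c1 LD2_c39 LD3_c44) Lrfl Lrfl
theorem f94739 : Led Lsl_cf (LP (LK LD1_c3 LD2_c23 LD3_c39)) = (LP (LK LD1_c1 LD2_c39 LD3_c44)) :=
  Lgr Lrot11 (Lpr_ct (K2.f94693 IH) (Lpn (LP (LK LD1_c1 LD2_c39 LD3_c44))))
theorem f93999 : Led Lsl_gf (LP (LK LD1_c1 LD2_c33 LD3_c25)) = (LP (LK LD1_c1 LD2_c38 LD3_c37)) :=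
  Lgr Lrot147 (Lpr_ct (K1.f23701 IH) (Lpr_gt (K2.f93997 IH) (Lpr_ct (K2.f17139 IH) (Lpr_df (K2.f90230 IH) (Lpe (K1.f9935 IH) (Lpe (K1.f17649 IH) (Lpr_cf (K2.f21163 IH) (Lpe (K2.f90110 IH) (Lpe (K2.f19343 IH) (Lpn (LP (LK LD1_c1 LD2_c38 LD3_c37))))))))))))
theorem f14576 : Led Lsl_gt (LP (LK LD1_c1 LD2_c38 LD3_c8)) = (LP (LK LD1_c3 LD2_c23 LD3_c39)) :=
  Lre_g IH (LK LD1_c1 LD2_c38 LD3_c8) (LK LD1_c3 LD2_c23 LD3_c39) Lrfl Lrfl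
theorem f94648 : Led Lsl_df (LP (LK LD1_c1 LD2_c39 LD3_c25)) = (LP (LK LD1_c3 LD2_c23 LD3_c39)) :=
  Lgr Lrot84 (Lpe (K2.f91962 IH) (Lpe (K2.f91957 IH) (Lpr_gf (K2.f94645 IH) (Lpe (K2.f23703 IH) (Lpr_gf (f93999 IH) (Lpe (K2.f90580 IH) (Lpr_gt (K2.f14577 IH) (Lpr_dt (K0.f14552 IH) (Lpr_gt (f14576 IH) (Lpn (LP (LK LD1_c3 LD2_c23 LD3_c39))))))))))))
theorem f94222 : Led Lsl_dt (LP (LK LD1_c0 LD2_c46 LD3_c14)) = (LP (LK LD1_c1 LD2_c39 LD3_c29)) :=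
  Lre_d IH (LK LD1_c0 LD2_c46 LD3_c14) (LK LD1_c1 LD2_c39 LD3_c29) Lrfl Lrfl
theorem f94921 : Led Lsl_cf (LP (LK LD1_c3 LD2_c23 LD3_c40)) = (LP (LK LD1_c1 LD2_c39 LD3_c29)) :=
  Lgr Lrot55 (Lpr_dt (K2.f94773 IH) (Lpr_ct (f94780 IH) (Lpr_dt (f90887 IH) (Lpr_ct (f13513 IH) (Lpr_dt (K2.f9798 IH) (Lpr_ct (f9799 IH) (Lpr_dt (f90888 IH) (Lpe (f94739 IH) (Lpe (f94648 IH) (Lpr_ct (K2.f91954 IH) (Lpr_dt (K2.f91953 IH) (Lpr_ct (K2.f13506 IH) (Lpr_dt (K2.f20201 IH) (Lpr_ct (K2.f20202 IH) (Lpr_dt (f94222 IH) (Lpn (LP (LK LD1_c1 LD2_c39 LD3_c29))))))))))))))))))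
theorem f14604 : Led Lsl_gt (LP (LK LD1_c1 LD2_c39 LD3_c55)) = (LP (LK LD1_c0 LD2_c46 LD3_c30)) :=
  Lre_g IH (LK LD1_c1 LD2_c39 LD3_c55) (LK LD1_c0 LD2_c46 LD3_c30) Lrfl Lrfl
theorem f94626 : Led Lsl_gt (LP (LK LD1_c3 LD2_c25 LD3_c45)) = (LP (LK LD1_c1 LD2_c39 LD3_c29)) :=
  Lre_g IH (LK LD1_c3 LD2_c25 LD3_c45) (LK LD1_c1 LD2_c39 LD3_c29) Lrfl Lrfl
theorem f94985 : Led Lsl_dt (LP (LK LD1_c1 LD2_c39 LD3_c55)) = (LP (LK LD1_c3 LD2_c25 LD3_c45)) :=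
  Lgr Lrot6 (Lpr_gt (f14604 IH) (Lpr_ct (K2.f12057 IH) (Lpr_gt (K2.f14600 IH) (Lpr_ct (K0.f14581 IH) (Lpe (K0.f14559 IH) (Lpe (K0.f14531 IH) (Lpe (K2.f14580 IH) (Lpr_cf (f94921 IH) (Lpe (f94626 IH) (Lpn (LP (LK LD1_c3 LD2_c25 LD3_c45))))))))))))
theorem f15629 : Led Lsl_ct (LP (LK LD1_c0 LD2_c46 LD3_c33)) = (LP (LK LD1_c0 LD2_c20 LD3_c54)) :=
  Lre_c IH (LK LD1_c0 LD2_c46 LD3_c33) (LK LD1_c0 LD2_c20 LD3_c54) Lrfl Lrfl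
theorem f95025 : Led Lsl_gf (LP (LK LD1_c1 LD2_c39 LD3_c55)) = (LP (LK LD1_c0 LD2_c46 LD3_c33)) :=
  Lgr Lrot144 (Lpr_dt (f94985 IH) (Lpr_gt (f94626 IH) (Lpr_dt (K2.f94219 IH) (Lpe (K2.f20202 IH) (Lpe (K2.f20201 IH) (Lpe (K2.f20200 IH) (Lpe (K0.f11976 IH) (Lpe (K2.f9907 IH) (Lpe (f15629 IH) (Lpn (LP (LK LD1_c0 LD2_c46 LD3_c33))))))))))))
theorem f90092 : Led Lsl_gt (LP (LK LD1_c0 LD2_c22 LD3_c1)) = (LP (LK LD1_c0 LD2_c21 LD3_c6)) :=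
  Lgr Lrot46 (Lpr_gf (K2.f90075 IH) (Lpe (K2.f19372 IH) (Lpr_at (K2.f19371 IH) (Lpn (LP (LK LD1_c0 LD2_c21 LD3_c6))))))
theorem f84728 : Led Lsl_df (LP (LK LD1_c0 LD2_c23 LD3_c46)) = (LP (LK LD1_c0 LD2_c21 LD3_c6)) :=
  Lgr Lrot162 (Lpe (K2.f11538 IH) (Lpr_gf (K2.f11529 IH) (Lpe (K2.f6671 IH) (Lpe (K2.f5898 IH) (Lpr_dt (K0.f10225 IH) (Lpr_gt (K2.f10015 IH) (Lpr_ct (K2.f10016 IH) (Lpr_gt (K2.f84720 IH) (Lpe (K2.f84683 IH) (Lpn (LP (LK LD1_c0 LD2_c21 LD3_c6))))))))))))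
theorem f92520 : Led Lsl_gf (LP (LK LD1_c0 LD2_c49 LD3_c61)) = (LP (LK LD1_c0 LD2_c23 LD3_c46)) :=
  Lgr Lrot143 (Lpr_dt (K0.f5711 IH) (Lpe (K2.f5710 IH) (Lpr_df (K2.f92512 IH) (Lpe (K2.f5900 IH) (Lpe (K0.f6100 IH) (Lpe (K0.f6101 IH) (Lpe (K0.f10766 IH) (Lpr_gt (f90092 IH) (Lpe (f84728 IH) (Lpn (LP (LK LD1_c0 LD2_c23 LD3_c46))))))))))))
theorem f88459 : Led Lsl_bt (LP (LK LD1_c0 LD2_c52 LD3_c11)) = (LP (LK LD1_c0 LD2_c23 LD3_c39)) :=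
  Lre_b IH (LK LD1_c0 LD2_c52 LD3_c11) (LK LD1_c0 LD2_c23 LD3_c39) Lrfl Lrfl
theorem f84973 : Led Lsl_bt (LP (LK LD1_c0 LD2_c10 LD3_c39)) = (LP (LK LD1_c0 LD2_c23 LD3_c46)) :=
  Lre_b IH (LK LD1_c0 LD2_c10 LD3_c39) (LK LD1_c0 LD2_c23 LD3_c46) Lrfl Lrfl
theorem f88460 : Led Lsl_ff (LP (LK LD1_c0 LD2_c52 LD3_c11)) = (LP (LK LD1_c0 LD2_c23 LD3_c46)) :=
  Lgr Lrot25 (Lpr_bt (f88459 IH) (Lpr_ft (K2.f87923 IH) (Lpr_bt (f84973 IH) (Lpn (LP (LK LD1_c0 LD2_c23 LD3_c46))))))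
theorem f92642 : Led Lsl_gt (LP (LK LD1_c0 LD2_c49 LD3_c61)) = (LP (LK LD1_c1 LD2_c44 LD3_c39)) :=
  Lgr Lrot46 (Lpr_gf (f92520 IH) (Lpe (f88460 IH) (Lpr_at (K2.f88477 IH) (Lpn (LP (LK LD1_c1 LD2_c44 LD3_c39))))))
theorem f95133 : Led Lsl_cf (LP (LK LD1_c1 LD2_c39 LD3_c55)) = (LP (LK LD1_c0 LD2_c51 LD3_c32)) :=
  Lgr Lrot163 (Lpr_gf (f95025 IH) (Lpe (K2.f91128 IH) (Lpe (K2.f91297 IH) (Lpe (K0.f14765 IH) (Lpr_ct (K0.f14581 IH) (Lpr_gf (K2.f91295 IH) (Lpr_cf (K2.f90056 IH) (Lpr_bt (K2.f88639 IH) (Lpe (f92642 IH) (Lpe (K0.f5725 IH) (Lpn (LP (LK LD1_c0 LD2_c51 LD3_c32)))))))))))))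
theorem f15076 : Led Lsl_bt (LP (LK LD1_c0 LD2_c20 LD3_c53)) = (LP (LK LD1_c0 LD2_c46 LD3_c29)) :=
  Lre_b IH (LK LD1_c0 LD2_c20 LD3_c53) (LK LD1_c0 LD2_c46 LD3_c29) Lrfl Lrfl
theorem f10436 : Led Lsl_bf (LP (LK LD1_c0 LD2_c9 LD3_c58)) = (LP (LK LD1_c0 LD2_c9 LD3_c58)) :=
  Lgr Lrot61 (Lpe (K2.f10251 IH) (Lpr_bt (K2.f10431 IH) (Lpr_ft (K0.f10285 IH) (Lpn (LP (LK LD1_c0 LD2_c9 LD3_c58))))))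
theorem f10266 : Led Lsl_dt (LP (LK LD1_c0 LD2_c9 LD3_c58)) = (LP (LK LD1_c0 LD2_c22 LD3_c4)) :=
  Lre_d IH (LK LD1_c0 LD2_c9 LD3_c58) (LK LD1_c0 LD2_c22 LD3_c4) Lrfl Lrfl
theorem f10277 : Led Lsl_dt (LP (LK LD1_c0 LD2_c22 LD3_c4)) = (LP (LK LD1_c0 LD2_c9 LD3_c58)) :=
  Lre_d IH (LK LD1_c0 LD2_c22 LD3_c4) (LK LD1_c0 LD2_c9 LD3_c58) Lrfl Lrfl
theorem f10438 : Led Lsl_bt (LP (LK LD1_c0 LD2_c22 LD3_c4)) = (LP (LK LD1_c0 LD2_c22 LD3_c4)) :=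
  Lgr Lrot95 (Lpe (f10266 IH) (Lpr_bf (f10436 IH) (Lpe (f10277 IH) (Lpn (LP (LK LD1_c0 LD2_c22 LD3_c4))))))
theorem f6094 : Led Lsl_bt (LP (LK LD1_c0 LD2_c9 LD3_c46)) = (LP (LK LD1_c0 LD2_c4 LD3_c36)) :=
  Lre_b IH (LK LD1_c0 LD2_c9 LD3_c46) (LK LD1_c0 LD2_c4 LD3_c36) Lrfl Lrfl
theorem f10180 : Led Lsl_at (LP (LK LD1_c0 LD2_c21 LD3_c36)) = (LP (LK LD1_c0 LD2_c9 LD3_c46)) :=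
  Lre_a IH (LK LD1_c0 LD2_c21 LD3_c36) (LK LD1_c0 LD2_c9 LD3_c46) Lrfl Lrfl
theorem f10182 : Led Lsl_bf (LP (LK LD1_c0 LD2_c21 LD3_c36)) = (LP (LK LD1_c0 LD2_c21 LD3_c36)) :=
  Lgr Lrot81 (Lpr_at (f10180 IH) (Lpr_bt (f6094 IH) (Lpr_at (K0.f10175 IH) (Lpr_bt (K2.f5888 IH) (Lpr_at (K2.f10181 IH) (Lpn (LP (LK LD1_c0 LD2_c21 LD3_c36))))))))
theorem f10453 : Led Lsl_ff (LP (LK LD1_c0 LD2_c21 LD3_c36)) = (LP (LK LD1_c0 LD2_c22 LD3_c4)) :=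
  Lgr Lrot25 (Lpe (f10182 IH) (Lpr_ft (K2.f10221 IH) (Lpr_bt (f10438 IH) (Lpn (LP (LK LD1_c0 LD2_c22 LD3_c4))))))
theorem f10234 : Led Lsl_ct (LP (LK LD1_c0 LD2_c21 LD3_c36)) = (LP (LK LD1_c0 LD2_c48 LD3_c11)) :=
  Lre_c IH (LK LD1_c0 LD2_c21 LD3_c36) (LK LD1_c0 LD2_c48 LD3_c11) Lrfl Lrfl
theorem f10268 : Led Lsl_ct (LP (LK LD1_c0 LD2_c49 LD3_c12)) = (LP (LK LD1_c0 LD2_c22 LD3_c4)) :=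
  Lre_c IH (LK LD1_c0 LD2_c49 LD3_c12) (LK LD1_c0 LD2_c22 LD3_c4) Lrfl Lrfl
theorem f10455 : Led Lsl_ft (LP (LK LD1_c0 LD2_c48 LD3_c11)) = (LP (LK LD1_c0 LD2_c49 LD3_c12)) :=
  Lgr Lrot4 (Lpe (f10234 IH) (Lpr_ff (f10453 IH) (Lpe (f10268 IH) (Lpn (LP (LK LD1_c0 LD2_c49 LD3_c12))))))
theorem f6089 : Led Lsl_at (LP (LK LD1_c0 LD2_c21 LD3_c40)) = (LP (LK LD1_c0 LD2_c48 LD3_c11)) :=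
  Lre_a IH (LK LD1_c0 LD2_c21 LD3_c40) (LK LD1_c0 LD2_c48 LD3_c11) Lrfl Lrfl
theorem f6087 : Led Lsl_at (LP (LK LD1_c0 LD2_c49 LD3_c12)) = (LP (LK LD1_c0 LD2_c22 LD3_c8)) :=
  Lre_a IH (LK LD1_c0 LD2_c49 LD3_c12) (LK LD1_c0 LD2_c22 LD3_c8) Lrfl Lrfl
theorem f10468 : Led Lsl_ff (LP (LK LD1_c0 LD2_c21 LD3_c40)) = (LP (LK LD1_c0 LD2_c22 LD3_c8)) :=
  Lgr Lrot30 (Lpr_at (f6089 IH) (Lpr_ft (f10455 IH) (Lpr_at (f6087 IH) (Lpn (LP (LK LD1_c0 LD2_c22 LD3_c8))))))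
theorem f10678 : Led Lsl_gf (LP (LK LD1_c0 LD2_c48 LD3_c11)) = (LP (LK LD1_c0 LD2_c49 LD3_c21)) :=
  Lgr Lrot76 (Lpe (f6089 IH) (Lpr_ff (f10468 IH) (Lpr_gt (K0.f6672 IH) (Lpn (LP (LK LD1_c0 LD2_c49 LD3_c21))))))
theorem f92644 : Led Lsl_gt (LP (LK LD1_c0 LD2_c52 LD3_c28)) = (LP (LK LD1_c0 LD2_c23 LD3_c47)) :=
  Lgr Lrot65 (Lpe (K0.f17303 IH) (Lpr_bt (K0.f5905 IH) (Lpe (K2.f10801 IH) (Lpr_bf (f10182 IH) (Lpr_ct (f10234 IH) (Lpr_gf (f10678 IH) (Lpe (K0.f17296 IH) (Lpr_gf (f92520 IH) (Lpe (f84973 IH) (Lpr_ct (K2.f14681 IH) (Lpn (LP (LK LD1_c0 LD2_c23 LD3_c47)))))))))))))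
theorem f95138 : Led Lsl_gt (LP (LK LD1_c0 LD2_c46 LD3_c29)) = (LP (LK LD1_c0 LD2_c49 LD3_c18)) :=
  Lgr Lrot82 (Lpe (f15076 IH) (Lpr_ct (K2.f9904 IH) (Lpe (f14604 IH) (Lpr_cf (f95133 IH) (Lpr_bt (K0.f5725 IH) (Lpr_gf (f92520 IH) (Lpe (f84973 IH) (Lpr_ct (K2.f14681 IH) (Lpe (f92644 IH) (Lpe (K0.f17303 IH) (Lpn (LP (LK LD1_c0 LD2_c49 LD3_c18)))))))))))))
theorem f62304 : Led Lsl_dt (LP (LK LD1_c0 LD2_c44 LD3_c17)) = (LP (LK LD1_c1 LD2_c35 LD3_c19)) :=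
  Lre_d IH (LK LD1_c0 LD2_c44 LD3_c17) (LK LD1_c1 LD2_c35 LD3_c19) Lrfl Lrfl
theorem f5766 : Led Lsl_dt (LP (LK LD1_c0 LD2_c23 LD3_c34)) = (LP (LK LD1_c0 LD2_c10 LD3_c34)) :=
  Lre_d IH (LK LD1_c0 LD2_c23 LD3_c34) (LK LD1_c0 LD2_c10 LD3_c34) Lrfl Lrfl
theorem f65228 : Led Lsl_cf (LP (LK LD1_c1 LD2_c35 LD3_c29)) = (LP (LK LD1_c0 LD2_c52 LD3_c8)) :=
  Lgr Lrot11 (Lpr_ct (K1.f65195 IH) (Lpn (LP (LK LD1_c0 LD2_c52 LD3_c8))))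
theorem f65245 : Led Lsl_dt (LP (LK LD1_c1 LD2_c35 LD3_c29)) = (LP (LK LD1_c0 LD2_c51 LD3_c47)) :=
  Lgr Lrot42 (Lpr_df (K1.f65236 IH) (Lpn (LP (LK LD1_c0 LD2_c51 LD3_c47))))
theorem f65698 : Led Lsl_dt (LP (LK LD1_c0 LD2_c23 LD3_c27)) = (LP (LK LD1_c0 LD2_c51 LD3_c54)) :=
  Lre_d IH (LK LD1_c0 LD2_c23 LD3_c27) (LK LD1_c0 LD2_c51 LD3_c54) Lrfl Lrfl
theorem f66417 : Led Lsl_ct (LP (LK LD1_c0 LD2_c51 LD3_c54)) = (LP (LK LD1_c1 LD2_c35 LD3_c30)) :=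
  Lgr Lrot176 (Lpe (f65698 IH) (Lpe (K2.f6701 IH) (Lpe (K2.f6700 IH) (Lpe (K1.f24322 IH) (Lpe (K1.f62853 IH) (Lpe (K1.f62854 IH) (Lpe (f65245 IH) (Lpr_cf (f65228 IH) (Lpe (K1.f62805 IH) (Lpe (K1.f14694 IH) (Lpe (K1.f14693 IH) (Lpe (K2.f5765 IH) (Lpe (f5766 IH) (Lpe (K1.f65639 IH) (Lpr_df (K1.f65689 IH) (Lpn (LP (LK LD1_c1 LD2_c35 LD3_c30))))))))))))))))))
theorem f87187 : Led Lsl_gt (LP (LK LD1_c0 LD2_c51 LD3_c54)) = (LP (LK LD1_c1 LD2_c50 LD3_c4)) :=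
  Lre_g IH (LK LD1_c0 LD2_c51 LD3_c54) (LK LD1_c1 LD2_c50 LD3_c4) Lrfl Lrfl
theorem f92646 : Led Lsl_df (LP (LK LD1_c0 LD2_c52 LD3_c28)) = (LP (LK LD1_c1 LD2_c50 LD3_c4)) :=
  Lgr Lrot153 (Lpr_gt (f92644 IH) (Lpr_dt (K2.f63504 IH) (Lpe (K2.f87181 IH) (Lpe (f62304 IH) (Lpe (K1.f61914 IH) (Lpe (K1.f24617 IH) (Lpe (K1.f24618 IH) (Lpe (f66417 IH) (Lpr_gt (f87187 IH) (Lpn (LP (LK LD1_c1 LD2_c50 LD3_c4))))))))))))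
theorem f93355 : Led Lsl_at (LP (LK LD1_c1 LD2_c37 LD3_c61)) = (LP (LK LD1_c0 LD2_c47 LD3_c2)) :=
  Lgr Lrot66 (Lpr_ff (f93351 IH) (Lpe (K1.f64293 IH) (Lpe (K1.f62189 IH) (Lpn (LP (LK LD1_c0 LD2_c47 LD3_c2))))))
theorem f93363 : Led Lsl_gf (LP (LK LD1_c0 LD2_c51 LD3_c42)) = (LP (LK LD1_c0 LD2_c47 LD3_c11)) :=
  Lgr Lrot47 (Lpe (K1.f62310 IH) (Lpe (f93355 IH) (Lpr_ff (f93351 IH) (Lpn (LP (LK LD1_c0 LD2_c47 LD3_c11))))))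
theorem f62654 : Led Lsl_ct (LP (LK LD1_c0 LD2_c51 LD3_c42)) = (LP (LK LD1_c1 LD2_c49 LD3_c42)) :=
  Lre_c IH (LK LD1_c0 LD2_c51 LD3_c42) (LK LD1_c1 LD2_c49 LD3_c42) Lrfl Lrfl
theorem f93365 : Led Lsl_dt (LP (LK LD1_c1 LD2_c49 LD3_c42)) = (LP (LK LD1_c3 LD2_c45 LD3_c10)) :=
  Lre_d IH (LK LD1_c1 LD2_c49 LD3_c42) (LK LD1_c3 LD2_c45 LD3_c10) Lrfl Lrfl
theorem f93366 : Led Lsl_cf (LP (LK LD1_c3 LD2_c45 LD3_c10)) = (LP (LK LD1_c1 LD2_c50 LD3_c4)) :=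
  Lgr Lrot99 (Lpe (f93365 IH) (Lpe (f62654 IH) (Lpr_gf (f93363 IH) (Lpr_cf (K1.f64478 IH) (Lpe (K1.f40583 IH) (Lpe (K1.f64605 IH) (Lpr_gt (K1.f62193 IH) (Lpe (K2.f65687 IH) (Lpr_gt (f87187 IH) (Lpn (LP (LK LD1_c1 LD2_c50 LD3_c4))))))))))))
theorem f93394 : Led Lsl_ct (LP (LK LD1_c3 LD2_c45 LD3_c10)) = (LP (LK LD1_c1 LD2_c50 LD3_c4)) :=
  Lgr Lrot59 (Lpr_cf (f93366 IH) (Lpn (LP (LK LD1_c1 LD2_c50 LD3_c4))))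
theorem f96057 : Led Lsl_gt (LP (LK LD1_c3 LD2_c1 LD3_c50)) = (LP (LK LD1_c3 LD2_c45 LD3_c10)) :=
  Lgr Lrot150 (Lpr_cf (f96043 IH) (Lpr_gf (f63799 IH) (Lpe (K1.f15272 IH) (Lpr_gt (f11980 IH) (Lpe (f15081 IH) (Lpr_gt (f95138 IH) (Lpr_ct (K0.f17303 IH) (Lpr_df (f92646 IH) (Lpe (f93394 IH) (Lpn (LP (LK LD1_c3 LD2_c45 LD3_c10))))))))))))
theorem f93368 : Led Lsl_dt (LP (LK LD1_c3 LD2_c45 LD3_c10)) = (LP (LK LD1_c1 LD2_c49 LD3_c42)) :=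
  Lre_d IH (LK LD1_c3 LD2_c45 LD3_c10) (LK LD1_c1 LD2_c49 LD3_c42) Lrfl Lrfl
theorem f5767 : Led Lsl_gt (LP (LK LD1_c0 LD2_c51 LD3_c45)) = (LP (LK LD1_c0 LD2_c23 LD3_c34)) :=
  Lre_g IH (LK LD1_c0 LD2_c51 LD3_c45) (LK LD1_c0 LD2_c23 LD3_c34) Lrfl Lrfl
theorem f62934 : Led Lsl_ct (LP (LK LD1_c1 LD2_c49 LD3_c49)) = (LP (LK LD1_c0 LD2_c51 LD3_c45)) :=
  Lre_c IH (LK LD1_c1 LD2_c49 LD3_c49) (LK LD1_c0 LD2_c51 LD3_c45) Lrfl Lrfl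
theorem f96062 : Led Lsl_gf (LP (LK LD1_c1 LD2_c26 LD3_c59)) = (LP (LK LD1_c1 LD2_c49 LD3_c49)) :=
  Lgr Lrot144 (Lpr_dt (f96042 IH) (Lpr_gt (f96057 IH) (Lpr_dt (f93368 IH) (Lpe (f62654 IH) (Lpe (K1.f62313 IH) (Lpe (K1.f14704 IH) (Lpe (f5766 IH) (Lpe (f5767 IH) (Lpe (f62934 IH) (Lpn (LP (LK LD1_c1 LD2_c49 LD3_c49))))))))))))
theorem f64912 : Led Lsl_ct (LP (LK LD1_c1 LD2_c26 LD3_c59)) = (LP (LK LD1_c0 LD2_c40 LD3_c17)) :=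
  Lre_c IH (LK LD1_c1 LD2_c26 LD3_c59) (LK LD1_c0 LD2_c40 LD3_c17) Lrfl Lrfl
theorem f18897 : Led Lsl_gt (LP (LK LD1_c0 LD2_c40 LD3_c17)) = (LP (LK LD1_c1 LD2_c26 LD3_c39)) :=
  Lre_g IH (LK LD1_c0 LD2_c40 LD3_c17) (LK LD1_c1 LD2_c26 LD3_c39) Lrfl Lrfl
theorem f58397 : Led Lsl_dt (LP (LK LD1_c1 LD2_c41 LD3_c47)) = (LP (LK LD1_c3 LD2_c1 LD3_c22)) :=
  Lre_d IH (LK LD1_c1 LD2_c41 LD3_c47) (LK LD1_c3 LD2_c1 LD3_c22) Lrfl Lrfl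
theorem f64473 : Led Lsl_ft (LP (LK LD1_c0 LD2_c17 LD3_c61)) = (LP (LK LD1_c0 LD2_c40 LD3_c12)) :=
  Lre_f IH (LK LD1_c0 LD2_c17 LD3_c61) (LK LD1_c0 LD2_c40 LD3_c12) Lrfl Lrfl
theorem f64474 : Led Lsl_at (LP (LK LD1_c0 LD2_c40 LD3_c12)) = (LP (LK LD1_c0 LD2_c18 LD3_c0)) :=
  Lre_a IH (LK LD1_c0 LD2_c40 LD3_c12) (LK LD1_c0 LD2_c18 LD3_c0) Lrfl Lrfl
theorem f14706 : Led Lsl_ct (LP (LK LD1_c0 LD2_c19 LD3_c35)) = (LP (LK LD1_c0 LD2_c8 LD3_c48)) :=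
  Lre_c IH (LK LD1_c0 LD2_c19 LD3_c35) (LK LD1_c0 LD2_c8 LD3_c48) Lrfl Lrfl
theorem f23655 : Led Lsl_dt (LP (LK LD1_c0 LD2_c43 LD3_c52)) = (LP (LK LD1_c1 LD2_c34 LD3_c21)) :=
  Lre_d IH (LK LD1_c0 LD2_c43 LD3_c52) (LK LD1_c1 LD2_c34 LD3_c21) Lrfl Lrfl
theorem f12331 : Led Lsl_gt (LP (LK LD1_c1 LD2_c34 LD3_c21)) = (LP (LK LD1_c0 LD2_c52 LD3_c50)) :=
  Lre_g IH (LK LD1_c1 LD2_c34 LD3_c21) (LK LD1_c0 LD2_c52 LD3_c50) Lrfl Lrfl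
theorem f62001 : Led Lsl_df (LP (LK LD1_c0 LD2_c40 LD3_c14)) = (LP (LK LD1_c0 LD2_c52 LD3_c50)) :=
  Lgr Lrot84 (Lpe (K2.f61996 IH) (Lpr_df (K1.f61987 IH) (Lpe (f13806 IH) (Lpe (K1.f62000 IH) (Lpe (K0.f14705 IH) (Lpe (f14706 IH) (Lpr_gt (K2.f23460 IH) (Lpr_dt (f23655 IH) (Lpr_gt (f12331 IH) (Lpn (LP (LK LD1_c0 LD2_c52 LD3_c50))))))))))))
theorem f12208 : Led Lsl_dt (LP (LK LD1_c0 LD2_c52 LD3_c51)) = (LP (LK LD1_c0 LD2_c23 LD3_c50)) :=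
  Lre_d IH (LK LD1_c0 LD2_c52 LD3_c51) (LK LD1_c0 LD2_c23 LD3_c50) Lrfl Lrfl
theorem f64253 : Led Lsl_dt (LP (LK LD1_c0 LD2_c44 LD3_c12)) = (LP (LK LD1_c1 LD2_c35 LD3_c2)) :=
  Lre_d IH (LK LD1_c0 LD2_c44 LD3_c12) (LK LD1_c1 LD2_c35 LD3_c2) Lrfl Lrfl
theorem f64475 : Led Lsl_cf (LP (LK LD1_c0 LD2_c52 LD3_c51)) = (LP (LK LD1_c1 LD2_c35 LD3_c2)) :=
  Lgr Lrot116 (Lpr_dt (f12208 IH) (Lpr_ct (K1.f12199 IH) (Lpe (f62001 IH) (Lpr_ct (K2.f18903 IH) (Lpe (f64474 IH) (Lpe (f64473 IH) (Lpr_dt (K1.f64294 IH) (Lpr_ct (K2.f64252 IH) (Lpr_dt (f64253 IH) (Lpn (LP (LK LD1_c1 LD2_c35 LD3_c2))))))))))))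
theorem f64477 : Led Lsl_gt (LP (LK LD1_c3 LD2_c16 LD3_c47)) = (LP (LK LD1_c1 LD2_c35 LD3_c2)) :=
  Lre_g IH (LK LD1_c3 LD2_c16 LD3_c47) (LK LD1_c1 LD2_c35 LD3_c2) Lrfl Lrfl
theorem f96089 : Led Lsl_df (LP (LK LD1_c3 LD2_c16 LD3_c47)) = (LP (LK LD1_c1 LD2_c49 LD3_c49)) :=
  Lgr Lrot155 (Lpr_gt (f64477 IH) (Lpe (f64475 IH) (Lpr_gt (K1.f64905 IH) (Lpr_ct (K1.f63495 IH) (Lpr_dt (f58397 IH) (Lpe (K1.f58398 IH) (Lpe (f18897 IH) (Lpe (f64912 IH) (Lpr_gf (f96062 IH) (Lpn (LP (LK LD1_c1 LD2_c49 LD3_c49))))))))))))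
theorem f62932 : Led Lsl_ct (LP (LK LD1_c0 LD2_c51 LD3_c45)) = (LP (LK LD1_c1 LD2_c49 LD3_c49)) :=
  Lre_c IH (LK LD1_c0 LD2_c51 LD3_c45) (LK LD1_c1 LD2_c49 LD3_c49) Lrfl Lrfl
theorem f62931 : Led Lsl_gt (LP (LK LD1_c0 LD2_c23 LD3_c25)) = (LP (LK LD1_c0 LD2_c51 LD3_c45)) :=
  Lre_g IH (LK LD1_c0 LD2_c23 LD3_c25) (LK LD1_c0 LD2_c51 LD3_c45) Lrfl Lrfl
theorem f62857 : Led Lsl_dt (LP (LK LD1_c3 LD2_c2 LD3_c9)) = (LP (LK LD1_c1 LD2_c27 LD3_c6)) :=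
  Lre_d IH (LK LD1_c3 LD2_c2 LD3_c9) (LK LD1_c1 LD2_c27 LD3_c6) Lrfl Lrfl
theorem f69278 : Led Lsl_ct (LP (LK LD1_c1 LD2_c34 LD3_c50)) = (LP (LK LD1_c1 LD2_c37 LD3_c61)) :=
  Lgr Lrot59 (Lpr_cf (f69267 IH) (Lpn (LP (LK LD1_c1 LD2_c37 LD3_c61))))
theorem f93427 : Led Lsl_ff (LP (LK LD1_c1 LD2_c34 LD3_c50)) = (LP (LK LD1_c0 LD2_c44 LD3_c18)) :=
  Lgr Lrot23 (Lpr_ct (f69278 IH) (Lpr_ft (f93361 IH) (Lpr_ct (K1.f64597 IH) (Lpn (LP (LK LD1_c0 LD2_c44 LD3_c18))))))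
theorem f93434 : Led Lsl_at (LP (LK LD1_c1 LD2_c34 LD3_c50)) = (LP (LK LD1_c0 LD2_c44 LD3_c17)) :=
  Lgr Lrot26 (Lpr_ff (f93427 IH) (Lpr_gt (K1.f36230 IH) (Lpr_gt (K1.f61914 IH) (Lpn (LP (LK LD1_c0 LD2_c44 LD3_c17))))))
theorem f93436 : Led Lsl_af (LP (LK LD1_c1 LD2_c34 LD3_c50)) = (LP (LK LD1_c0 LD2_c44 LD3_c17)) :=
  Lgr Lrot0 (Lpr_at (f93434 IH) (Lpn (LP (LK LD1_c0 LD2_c44 LD3_c17))))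
theorem f19421 : Led Lsl_at (LP (LK LD1_c0 LD2_c21 LD3_c1)) = (LP (LK LD1_c0 LD2_c9 LD3_c32)) :=
  Lre_a IH (LK LD1_c0 LD2_c21 LD3_c1) (LK LD1_c0 LD2_c9 LD3_c32) Lrfl Lrfl
theorem f87669 : Led Lsl_dt (LP (LK LD1_c0 LD2_c23 LD3_c39)) = (LP (LK LD1_c0 LD2_c21 LD3_c1)) :=
  Lgr Lrot44 (Lpr_af (K2.f87660 IH) (Lpe (K1.f62667 IH) (Lpe (f19421 IH) (Lpn (LP (LK LD1_c0 LD2_c21 LD3_c1))))))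
theorem f63720 : Led Lsl_dt (LP (LK LD1_c1 LD2_c50 LD3_c38)) = (LP (LK LD1_c0 LD2_c52 LD3_c12)) :=
  Lre_d IH (LK LD1_c1 LD2_c50 LD3_c38) (LK LD1_c0 LD2_c52 LD3_c12) Lrfl Lrfl
theorem f63841 : Led Lsl_gt (LP (LK LD1_c0 LD2_c44 LD3_c9)) = (LP (LK LD1_c1 LD2_c34 LD3_c50)) :=
  Lre_g IH (LK LD1_c0 LD2_c44 LD3_c9) (LK LD1_c1 LD2_c34 LD3_c50) Lrfl Lrfl
theorem f15615 : Led Lsl_gt (LP (LK LD1_c1 LD2_c34 LD3_c51)) = (LP (LK LD1_c0 LD2_c44 LD3_c9)) :=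
  Lre_g IH (LK LD1_c1 LD2_c34 LD3_c51) (LK LD1_c0 LD2_c44 LD3_c9) Lrfl Lrfl
theorem f93442 : Led Lsl_ft (LP (LK LD1_c1 LD2_c34 LD3_c51)) = (LP (LK LD1_c0 LD2_c44 LD3_c17)) :=
  Lgr Lrot2 (Lpr_gt (f15615 IH) (Lpr_gt (f63841 IH) (Lpr_af (f93436 IH) (Lpn (LP (LK LD1_c0 LD2_c44 LD3_c17))))))
theorem f93444 : Led Lsl_dt (LP (LK LD1_c1 LD2_c34 LD3_c51)) = (LP (LK LD1_c3 LD2_c16 LD3_c11)) :=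
  Lre_d IH (LK LD1_c1 LD2_c34 LD3_c51) (LK LD1_c3 LD2_c16 LD3_c11) Lrfl Lrfl
theorem f93445 : Led Lsl_cf (LP (LK LD1_c1 LD2_c50 LD3_c38)) = (LP (LK LD1_c3 LD2_c16 LD3_c11)) :=
  Lgr Lrot118 (Lpr_dt (f63720 IH) (Lpr_ct (K2.f63848 IH) (Lpr_dt (f87669 IH) (Lpr_ct (K2.f84705 IH) (Lpe (f90565 IH) (Lpe (f69267 IH) (Lpr_af (f93436 IH) (Lpe (f93442 IH) (Lpr_dt (f93444 IH) (Lpn (LP (LK LD1_c3 LD2_c16 LD3_c11))))))))))))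
theorem f63719 : Led Lsl_ct (LP (LK LD1_c0 LD2_c23 LD3_c39)) = (LP (LK LD1_c0 LD2_c52 LD3_c12)) :=
  Lre_c IH (LK LD1_c0 LD2_c23 LD3_c39) (LK LD1_c0 LD2_c52 LD3_c12) Lrfl Lrfl
theorem f17280 : Led Lsl_ct (LP (LK LD1_c0 LD2_c23 LD3_c41)) = (LP (LK LD1_c0 LD2_c10 LD3_c37)) :=
  Lre_c IH (LK LD1_c0 LD2_c23 LD3_c41) (LK LD1_c0 LD2_c10 LD3_c37) Lrfl Lrfl
theorem f62840 : Led Lsl_ct (LP (LK LD1_c1 LD2_c41 LD3_c16)) = (LP (LK LD1_c3 LD2_c2 LD3_c9)) :=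
  Lre_c IH (LK LD1_c1 LD2_c41 LD3_c16) (LK LD1_c3 LD2_c2 LD3_c9) Lrfl Lrfl
theorem f93458 : Led Lsl_gt (LP (LK LD1_c3 LD2_c2 LD3_c9)) = (LP (LK LD1_c3 LD2_c16 LD3_c11)) :=
  Lgr Lrot150 (Lpe (f62840 IH) (Lpr_gf (f63714 IH) (Lpe (f15628 IH) (Lpr_gt (f17281 IH) (Lpr_ct (f17280 IH) (Lpr_gt (K2.f63718 IH) (Lpr_ct (f63719 IH) (Lpe (f63720 IH) (Lpr_cf (f93445 IH) (Lpn (LP (LK LD1_c3 LD2_c16 LD3_c11))))))))))))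
theorem f63199 : Led Lsl_ft (LP (LK LD1_c3 LD2_c2 LD3_c9)) = (LP (LK LD1_c1 LD2_c27 LD3_c4)) :=
  Lre_f IH (LK LD1_c3 LD2_c2 LD3_c9) (LK LD1_c1 LD2_c27 LD3_c4) Lrfl Lrfl
theorem f63490 : Led Lsl_at (LP (LK LD1_c1 LD2_c27 LD3_c4)) = (LP (LK LD1_c3 LD2_c1 LD3_c43)) :=
  Lre_a IH (LK LD1_c1 LD2_c27 LD3_c4) (LK LD1_c3 LD2_c1 LD3_c43) Lrfl Lrfl
theorem f93463 : Led Lsl_gf (LP (LK LD1_c3 LD2_c1 LD3_c43)) = (LP (LK LD1_c3 LD2_c16 LD3_c11)) :=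
  Lgr Lrot76 (Lpe (f63490 IH) (Lpe (f63199 IH) (Lpr_gt (f93458 IH) (Lpn (LP (LK LD1_c3 LD2_c16 LD3_c11))))))
theorem f62957 : Led Lsl_dt (LP (LK LD1_c3 LD2_c1 LD3_c43)) = (LP (LK LD1_c1 LD2_c26 LD3_c56)) :=
  Lre_d IH (LK LD1_c3 LD2_c1 LD3_c43) (LK LD1_c1 LD2_c26 LD3_c56) Lrfl Lrfl
theorem f65699 : Led Lsl_gt (LP (LK LD1_c0 LD2_c51 LD3_c52)) = (LP (LK LD1_c0 LD2_c23 LD3_c27)) :=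
  Lre_g IH (LK LD1_c0 LD2_c51 LD3_c52) (LK LD1_c0 LD2_c23 LD3_c27) Lrfl Lrfl
theorem f65700 : Led Lsl_dt (LP (LK LD1_c1 LD2_c49 LD3_c61)) = (LP (LK LD1_c0 LD2_c51 LD3_c52)) :=
  Lre_d IH (LK LD1_c1 LD2_c49 LD3_c61) (LK LD1_c0 LD2_c51 LD3_c52) Lrfl Lrfl
theorem f93449 : Led Lsl_ct (LP (LK LD1_c1 LD2_c50 LD3_c38)) = (LP (LK LD1_c3 LD2_c16 LD3_c11)) :=
  Lgr Lrot59 (Lpr_cf (f93445 IH) (Lpn (LP (LK LD1_c3 LD2_c16 LD3_c11))))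
theorem f93515 : Led Lsl_gf (LP (LK LD1_c1 LD2_c49 LD3_c61)) = (LP (LK LD1_c1 LD2_c50 LD3_c38)) :=
  Lgr Lrot144 (Lpr_dt (f65700 IH) (Lpr_gt (f65699 IH) (Lpr_dt (f65698 IH) (Lpr_cf (K2.f65687 IH) (Lpe (K1.f65666 IH) (Lpr_gf (K1.f65640 IH) (Lpe (f62957 IH) (Lpr_gf (f93463 IH) (Lpe (f93449 IH) (Lpn (LP (LK LD1_c1 LD2_c50 LD3_c38))))))))))))
theorem f96105 : Led Lsl_cf (LP (LK LD1_c3 LD2_c16 LD3_c47)) = (LP (LK LD1_c1 LD2_c49 LD3_c61)) :=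
  Lgr Lrot99 (Lpr_df (f96089 IH) (Lpe (f62932 IH) (Lpe (f62931 IH) (Lpe (K1.f62854 IH) (Lpe (K1.f62855 IH) (Lpe (f62857 IH) (Lpr_gt (f93458 IH) (Lpe (f93445 IH) (Lpe (f93515 IH) (Lpn (LP (LK LD1_c1 LD2_c49 LD3_c61))))))))))))
theorem f88533 : Led Lsl_gt (LP (LK LD1_c0 LD2_c52 LD3_c12)) = (LP (LK LD1_c1 LD2_c50 LD3_c36)) :=
  Lre_g IH (LK LD1_c0 LD2_c52 LD3_c12) (LK LD1_c1 LD2_c50 LD3_c36) Lrfl Lrfl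
theorem f96122 : Led Lsl_cf (LP (LK LD1_c1 LD2_c34 LD3_c21)) = (LP (LK LD1_c1 LD2_c50 LD3_c36)) :=
  Lgr Lrot169 (Lpr_gt (f12331 IH) (Lpr_ct (K0.f12193 IH) (Lpe (f12208 IH) (Lpr_cf (f64475 IH) (Lpe (f64477 IH) (Lpr_cf (f96105 IH) (Lpr_gf (f93515 IH) (Lpe (K2.f63722 IH) (Lpr_gt (f88533 IH) (Lpn (LP (LK LD1_c1 LD2_c50 LD3_c36))))))))))))
theorem f84712 : Led Lsl_dt (LP (LK LD1_c0 LD2_c21 LD3_c33)) = (LP (LK LD1_c0 LD2_c48 LD3_c7)) :=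
  Lre_d IH (LK LD1_c0 LD2_c21 LD3_c33) (LK LD1_c0 LD2_c48 LD3_c7) Lrfl Lrfl
theorem f89125 : Led Lsl_dt (LP (LK LD1_c1 LD2_c49 LD3_c58)) = (LP (LK LD1_c0 LD2_c51 LD3_c51)) :=
  Lre_d IH (LK LD1_c1 LD2_c49 LD3_c58) (LK LD1_c0 LD2_c51 LD3_c51) Lrfl Lrfl
theorem f89293 : Led Lsl_ft (LP (LK LD1_c1 LD2_c50 LD3_c43)) = (LP (LK LD1_c0 LD2_c52 LD3_c31)) :=
  Lgr Lrot48 (Lpr_ff (K2.f89287 IH) (Lpn (LP (LK LD1_c0 LD2_c52 LD3_c31))))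
theorem f87787 : Led Lsl_af (LP (LK LD1_c1 LD2_c50 LD3_c38)) = (LP (LK LD1_c0 LD2_c52 LD3_c31)) :=
  Lgr Lrot0 (Lpr_at (K2.f87773 IH) (Lpn (LP (LK LD1_c0 LD2_c52 LD3_c31))))
theorem f88436 : Led Lsl_dt (LP (LK LD1_c0 LD2_c51 LD3_c51)) = (LP (LK LD1_c1 LD2_c49 LD3_c58)) :=
  Lre_d IH (LK LD1_c0 LD2_c51 LD3_c51) (LK LD1_c1 LD2_c49 LD3_c58) Lrfl Lrfl
theorem f88648 : Led Lsl_gf (LP (LK LD1_c1 LD2_c50 LD3_c38)) = (LP (LK LD1_c1 LD2_c49 LD3_c58)) :=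
  Lgr Lrot143 (Lpr_dt (f63720 IH) (Lpe (f63719 IH) (Lpr_df (K2.f88462 IH) (Lpr_gf (K2.f87569 IH) (Lpe (K2.f58193 IH) (Lpe (K2.f65637 IH) (Lpe (K2.f58788 IH) (Lpr_gt (K2.f65953 IH) (Lpr_dt (f88436 IH) (Lpn (LP (LK LD1_c1 LD2_c49 LD3_c58))))))))))))
theorem f89670 : Led Lsl_gt (LP (LK LD1_c1 LD2_c50 LD3_c43)) = (LP (LK LD1_c1 LD2_c49 LD3_c58)) :=
  Lgr Lrot5 (Lpr_ft (f89293 IH) (Lpe (f87787 IH) (Lpr_gf (f88648 IH) (Lpn (LP (LK LD1_c1 LD2_c49 LD3_c58))))))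
theorem f12061 : Led Lsl_dt (LP (LK LD1_c0 LD2_c52 LD3_c15)) = (LP (LK LD1_c1 LD2_c50 LD3_c43)) :=
  Lre_d IH (LK LD1_c0 LD2_c52 LD3_c15) (LK LD1_c1 LD2_c50 LD3_c43) Lrfl Lrfl
theorem f96132 : Led Lsl_gf (LP (LK LD1_c0 LD2_c52 LD3_c15)) = (LP (LK LD1_c1 LD2_c50 LD3_c36)) :=
  Lgr Lrot144 (Lpr_dt (f12061 IH) (Lpr_gt (f89670 IH) (Lpr_dt (f89125 IH) (Lpr_cf (K2.f92345 IH) (Lpe (f84712 IH) (Lpr_gf (K2.f84709 IH) (Lpr_df (f62001 IH) (Lpe (f12331 IH) (Lpr_cf (f96122 IH) (Lpn (LP (LK LD1_c1 LD2_c50 LD3_c36))))))))))))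
theorem f62758 : Led Lsl_gt (LP (LK LD1_c1 LD2_c51 LD3_c21)) = (LP (LK LD1_c0 LD2_c52 LD3_c31)) :=
  Lre_g IH (LK LD1_c1 LD2_c51 LD3_c21) (LK LD1_c0 LD2_c52 LD3_c31) Lrfl Lrfl
theorem f87804 : Led Lsl_gf (LP (LK LD1_c1 LD2_c51 LD3_c21)) = (LP (LK LD1_c0 LD2_c52 LD3_c40)) :=
  Lgr Lrot47 (Lpr_gt (f62758 IH) (Lpe (K2.f87773 IH) (Lpr_ff (K2.f87792 IH) (Lpn (LP (LK LD1_c0 LD2_c52 LD3_c40))))))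
theorem f62003 : Led Lsl_dt (LP (LK LD1_c0 LD2_c8 LD3_c5)) = (LP (LK LD1_c0 LD2_c18 LD3_c2)) :=
  Lre_d IH (LK LD1_c0 LD2_c8 LD3_c5) (LK LD1_c0 LD2_c18 LD3_c2) Lrfl Lrfl
theorem f59458 : Led Lsl_ct (LP (LK LD1_c0 LD2_c18 LD3_c2)) = (LP (LK LD1_c0 LD2_c40 LD3_c19)) :=
  Lre_c IH (LK LD1_c0 LD2_c18 LD3_c2) (LK LD1_c0 LD2_c40 LD3_c19) Lrfl Lrfl
theorem f62004 : Led Lsl_dt (LP (LK LD1_c1 LD2_c27 LD3_c4)) = (LP (LK LD1_c0 LD2_c40 LD3_c19)) :=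
  Lre_d IH (LK LD1_c1 LD2_c27 LD3_c4) (LK LD1_c0 LD2_c40 LD3_c19) Lrfl Lrfl
theorem f62006 : Led Lsl_gf (LP (LK LD1_c1 LD2_c27 LD3_c4)) = (LP (LK LD1_c1 LD2_c35 LD3_c22)) :=
  Lgr Lrot143 (Lpr_dt (f62004 IH) (Lpe (f59458 IH) (Lpe (f62003 IH) (Lpe (K1.f21160 IH) (Lpr_df (K1.f61987 IH) (Lpe (f13806 IH) (Lpe (K1.f62005 IH) (Lpr_gt (K1.f40583 IH) (Lpr_dt (K2.f40584 IH) (Lpn (LP (LK LD1_c1 LD2_c35 LD3_c22))))))))))))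
theorem f11310 : Led Lsl_ct (LP (LK LD1_c0 LD2_c21 LD3_c12)) = (LP (LK LD1_c0 LD2_c9 LD3_c35)) :=
  Lre_c IH (LK LD1_c0 LD2_c21 LD3_c12) (LK LD1_c0 LD2_c9 LD3_c35) Lrfl Lrfl
theorem f63116 : Led Lsl_dt (LP (LK LD1_c0 LD2_c40 LD3_c19)) = (LP (LK LD1_c1 LD2_c27 LD3_c4)) :=
  Lre_d IH (LK LD1_c0 LD2_c40 LD3_c19) (LK LD1_c1 LD2_c27 LD3_c4) Lrfl Lrfl
theorem f63117 : Led Lsl_ct (LP (LK LD1_c1 LD2_c27 LD3_c4)) = (LP (LK LD1_c1 LD2_c52 LD3_c2)) :=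
  Lgr Lrot176 (Lpe (f63116 IH) (Lpe (f59458 IH) (Lpe (f62003 IH) (Lpe (K1.f12117 IH) (Lpe (K0.f17779 IH) (Lpe (f11310 IH) (Lpe (K2.f11311 IH) (Lpe (K1.f63115 IH) (Lpe (K1.f63114 IH) (Lpe (K1.f58398 IH) (Lpe (K1.f58394 IH) (Lpe (K1.f18891 IH) (Lpe (K1.f18877 IH) (Lpe (K1.f18876 IH) (Lpr_df (K1.f62676 IH) (Lpn (LP (LK LD1_c1 LD2_c52 LD3_c2))))))))))))))))))
theorem f11451 : Led Lsl_ct (LP (LK LD1_c0 LD2_c47 LD3_c17)) = (LP (LK LD1_c0 LD2_c21 LD3_c10)) :=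
  Lre_c IH (LK LD1_c0 LD2_c47 LD3_c17) (LK LD1_c0 LD2_c21 LD3_c10) Lrfl Lrfl
theorem f63138 : Led Lsl_gt (LP (LK LD1_c1 LD2_c41 LD3_c25)) = (LP (LK LD1_c0 LD2_c47 LD3_c17)) :=
  Lre_g IH (LK LD1_c1 LD2_c41 LD3_c25) (LK LD1_c0 LD2_c47 LD3_c17) Lrfl Lrfl
theorem f64618 : Led Lsl_dt (LP (LK LD1_c1 LD2_c51 LD3_c21)) = (LP (LK LD1_c1 LD2_c41 LD3_c25)) :=
  Lgr Lrot6 (Lpr_gt (f62758 IH) (Lpr_ct (K1.f64603 IH) (Lpe (f62006 IH) (Lpr_ct (f63117 IH) (Lpe (f63119 IH) (Lpe (K1.f18874 IH) (Lpe (K2.f18886 IH) (Lpe (f11451 IH) (Lpe (f63138 IH) (Lpn (LP (LK LD1_c1 LD2_c41 LD3_c25))))))))))))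
theorem f17799 : Led Lsl_dt (LP (LK LD1_c0 LD2_c47 LD3_c17)) = (LP (LK LD1_c1 LD2_c41 LD3_c27)) :=
  Lre_d IH (LK LD1_c0 LD2_c47 LD3_c17) (LK LD1_c1 LD2_c41 LD3_c27) Lrfl Lrfl
theorem f87806 : Led Lsl_ct (LP (LK LD1_c1 LD2_c41 LD3_c27)) = (LP (LK LD1_c3 LD2_c2 LD3_c1)) :=
  Lgr Lrot7 (Lpe (f17799 IH) (Lpe (f63138 IH) (Lpe (f64618 IH) (Lpr_gf (f87804 IH) (Lpe (K2.f87181 IH) (Lpr_gt (K2.f87353 IH) (Lpr_dt (f58397 IH) (Lpr_gt (f58399 IH) (Lpr_dt (f58414 IH) (Lpn (LP (LK LD1_c3 LD2_c2 LD3_c1))))))))))))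
theorem f87853 : Led Lsl_gt (LP (LK LD1_c3 LD2_c29 LD3_c26)) = (LP (LK LD1_c1 LD2_c41 LD3_c27)) :=
  Lre_g IH (LK LD1_c3 LD2_c29 LD3_c26) (LK LD1_c1 LD2_c41 LD3_c27) Lrfl Lrfl
theorem f96165 : Led Lsl_df (LP (LK LD1_c3 LD2_c29 LD3_c26)) = (LP (LK LD1_c1 LD2_c50 LD3_c36)) :=
  Lgr Lrot155 (Lpr_gt (f87853 IH) (Lpr_ct (f87806 IH) (Lpr_gt (f96036 IH) (Lpr_ct (f63731 IH) (Lpr_dt (f15271 IH) (Lpe (f11979 IH) (Lpe (K2.f11978 IH) (Lpe (K2.f11958 IH) (Lpr_gf (f96132 IH) (Lpn (LP (LK LD1_c1 LD2_c50 LD3_c36))))))))))))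
theorem f96127 : Led Lsl_ct (LP (LK LD1_c1 LD2_c34 LD3_c21)) = (LP (LK LD1_c1 LD2_c50 LD3_c36)) :=
  Lgr Lrot59 (Lpr_cf (f96122 IH) (Lpn (LP (LK LD1_c1 LD2_c50 LD3_c36))))
theorem f65706 : Led Lsl_ct (LP (LK LD1_c1 LD2_c34 LD3_c32)) = (LP (LK LD1_c0 LD2_c52 LD3_c58)) :=
  Lgr Lrot59 (Lpr_cf (K2.f65701 IH) (Lpn (LP (LK LD1_c0 LD2_c52 LD3_c58))))
theorem f65714 : Led Lsl_gt (LP (LK LD1_c3 LD2_c15 LD3_c37)) = (LP (LK LD1_c1 LD2_c34 LD3_c32)) :=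
  Lre_g IH (LK LD1_c3 LD2_c15 LD3_c37) (LK LD1_c1 LD2_c34 LD3_c32) Lrfl Lrfl
theorem f57110 : Led Lsl_ct (LP (LK LD1_c0 LD2_c44 LD3_c12)) = (LP (LK LD1_c0 LD2_c19 LD3_c43)) :=
  Lre_c IH (LK LD1_c0 LD2_c44 LD3_c12) (LK LD1_c0 LD2_c19 LD3_c43) Lrfl Lrfl
theorem f64480 : Led Lsl_gt (LP (LK LD1_c1 LD2_c35 LD3_c0)) = (LP (LK LD1_c0 LD2_c44 LD3_c12)) :=
  Lre_g IH (LK LD1_c1 LD2_c35 LD3_c0) (LK LD1_c0 LD2_c44 LD3_c12) Lrfl Lrfl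
theorem f65990 : Led Lsl_dt (LP (LK LD1_c3 LD2_c15 LD3_c37)) = (LP (LK LD1_c1 LD2_c35 LD3_c0)) :=
  Lgr Lrot6 (Lpr_gt (f65714 IH) (Lpr_ct (f65706 IH) (Lpr_gt (K2.f20837 IH) (Lpr_ct (K2.f65193 IH) (Lpe (K1.f62192 IH) (Lpe (K1.f62009 IH) (Lpe (K1.f14700 IH) (Lpe (f57110 IH) (Lpe (f64480 IH) (Lpn (LP (LK LD1_c1 LD2_c35 LD3_c0))))))))))))
theorem f14674 : Led Lsl_dt (LP (LK LD1_c1 LD2_c35 LD3_c31)) = (LP (LK LD1_c0 LD2_c51 LD3_c28)) :=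
  Lre_d IH (LK LD1_c1 LD2_c35 LD3_c31) (LK LD1_c0 LD2_c51 LD3_c28) Lrfl Lrfl
theorem f66120 : Led Lsl_gf (LP (LK LD1_c3 LD2_c15 LD3_c37)) = (LP (LK LD1_c1 LD2_c34 LD3_c42)) :=
  Lgr Lrot148 (Lpr_dt (f65990 IH) (Lpr_gt (f64480 IH) (Lpr_dt (f64253 IH) (Lpe (f64475 IH) (Lpe (K1.f14742 IH) (Lpe (K0.f12209 IH) (Lpe (f14674 IH) (Lpe (K1.f14675 IH) (Lpr_ct (K2.f65255 IH) (Lpn (LP (LK LD1_c1 LD2_c34 LD3_c42))))))))))))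
theorem f96178 : Led Lsl_cf (LP (LK LD1_c3 LD2_c29 LD3_c26)) = (LP (LK LD1_c3 LD2_c15 LD3_c37)) :=
  Lgr Lrot99 (Lpr_df (f96165 IH) (Lpe (f96127 IH) (Lpr_gf (f65960 IH) (Lpe (K2.f64262 IH) (Lpe (K1.f11542 IH) (Lpe (K2.f20836 IH) (Lpr_gt (K1.f15048 IH) (Lpr_ct (K2.f65255 IH) (Lpe (f66120 IH) (Lpn (LP (LK LD1_c3 LD2_c15 LD3_c37))))))))))))
theorem f17797 : Led Lsl_dt (LP (LK LD1_c1 LD2_c41 LD3_c27)) = (LP (LK LD1_c0 LD2_c47 LD3_c17)) :=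
  Lre_d IH (LK LD1_c1 LD2_c41 LD3_c27) (LK LD1_c0 LD2_c47 LD3_c17) Lrfl Lrfl
theorem f65389 : Led Lsl_gt (LP (LK LD1_c0 LD2_c43 LD3_c56)) = (LP (LK LD1_c1 LD2_c34 LD3_c29)) :=
  Lre_g IH (LK LD1_c0 LD2_c43 LD3_c56) (LK LD1_c1 LD2_c34 LD3_c29) Lrfl Lrfl
theorem f65566 : Led Lsl_dt (LP (LK LD1_c1 LD2_c34 LD3_c29)) = (LP (LK LD1_c3 LD2_c15 LD3_c28)) :=
  Lre_d IH (LK LD1_c1 LD2_c34 LD3_c29) (LK LD1_c3 LD2_c15 LD3_c28) Lrfl Lrfl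
theorem f96186 : Led Lsl_ct (LP (LK LD1_c1 LD2_c51 LD3_c20)) = (LP (LK LD1_c3 LD2_c15 LD3_c28)) :=
  Lgr Lrot7 (Lpe (K2.f89297 IH) (Lpe (K0.f11439 IH) (Lpe (f17797 IH) (Lpe (f87853 IH) (Lpr_cf (f96178 IH) (Lpr_gt (f65714 IH) (Lpr_dt (K2.f65271 IH) (Lpr_gt (f65389 IH) (Lpr_dt (f65566 IH) (Lpn (LP (LK LD1_c3 LD2_c15 LD3_c28))))))))))))
theorem f95720 : Led Lsl_ct (LP (LK LD1_c1 LD2_c27 LD3_c2)) = (LP (LK LD1_c0 LD2_c51 LD3_c31)) :=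
  Lgr Lrot59 (Lpr_cf (f95715 IH) (Lpn (LP (LK LD1_c0 LD2_c51 LD3_c31))))
theorem f59507 : Led Lsl_bt (LP (LK LD1_c0 LD2_c8 LD3_c38)) = (LP (LK LD1_c0 LD2_c19 LD3_c13)) :=
  Lre_b IH (LK LD1_c0 LD2_c8 LD3_c38) (LK LD1_c0 LD2_c19 LD3_c13) Lrfl Lrfl
theorem f23446 : Led Lsl_gt (LP (LK LD1_c0 LD2_c43 LD3_c7)) = (LP (LK LD1_c0 LD2_c19 LD3_c13)) :=
  Lre_g IH (LK LD1_c0 LD2_c43 LD3_c7) (LK LD1_c0 LD2_c19 LD3_c13) Lrfl Lrfl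
theorem f23456 : Led Lsl_bt (LP (LK LD1_c1 LD2_c33 LD3_c9)) = (LP (LK LD1_c0 LD2_c43 LD3_c7)) :=
  Lre_b IH (LK LD1_c1 LD2_c33 LD3_c9) (LK LD1_c0 LD2_c43 LD3_c7) Lrfl Lrfl
theorem f65391 : Led Lsl_cf (LP (LK LD1_c1 LD2_c34 LD3_c29)) = (LP (LK LD1_c1 LD2_c33 LD3_c9)) :=
  Lgr Lrot163 (Lpe (f65389 IH) (Lpe (K2.f7159 IH) (Lpr_gf (K1.f65253 IH) (Lpe (f22467 IH) (Lpr_ct (K1.f20077 IH) (Lpr_gf (K0.f22445 IH) (Lpr_cf (K1.f59479 IH) (Lpr_bt (f59507 IH) (Lpe (f23446 IH) (Lpe (f23456 IH) (Lpn (LP (LK LD1_c1 LD2_c33 LD3_c9)))))))))))))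
theorem f96719 : Led Lsl_gt (LP (LK LD1_c0 LD2_c51 LD3_c31)) = (LP (LK LD1_c1 LD2_c33 LD3_c9)) :=
  Lgr Lrot150 (Lpe (f95720 IH) (Lpe (f58399 IH) (Lpe (f58397 IH) (Lpr_gt (K1.f64259 IH) (Lpe (K1.f64611 IH) (Lpr_gt (K2.f17456 IH) (Lpr_ct (f96186 IH) (Lpe (f65566 IH) (Lpr_cf (f65391 IH) (Lpn (LP (LK LD1_c1 LD2_c33 LD3_c9))))))))))))
theorem f96725 : Led Lsl_gf (LP (LK LD1_c0 LD2_c44 LD3_c3)) = (LP (LK LD1_c1 LD2_c34 LD3_c29)) :=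
  Lgr Lrot104 (Lpr_ct (K2.f62851 IH) (Lpe (K1.f62813 IH) (Lpe (K0.f12347 IH) (Lpe (K0.f23662 IH) (Lpe (K2.f23459 IH) (Lpr_gf (f95739 IH) (Lpe (f85140 IH) (Lpr_gt (f96719 IH) (Lpe (f65391 IH) (Lpn (LP (LK LD1_c1 LD2_c34 LD3_c29))))))))))))
theorem f62841 : Led Lsl_dt (LP (LK LD1_c1 LD2_c27 LD3_c6)) = (LP (LK LD1_c3 LD2_c2 LD3_c9)) :=
  Lre_d IH (LK LD1_c1 LD2_c27 LD3_c6) (LK LD1_c3 LD2_c2 LD3_c9) Lrfl Lrfl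
theorem f18276 : Led Lsl_ct (LP (LK LD1_c3 LD2_c1 LD3_c43)) = (LP (LK LD1_c1 LD2_c41 LD3_c49)) :=
  Lre_c IH (LK LD1_c3 LD2_c1 LD3_c43) (LK LD1_c1 LD2_c41 LD3_c49) Lrfl Lrfl
theorem f63845 : Led Lsl_ct (LP (LK LD1_c0 LD2_c44 LD3_c9)) = (LP (LK LD1_c0 LD2_c19 LD3_c42)) :=
  Lre_c IH (LK LD1_c0 LD2_c44 LD3_c9) (LK LD1_c0 LD2_c19 LD3_c42) Lrfl Lrfl
theorem f93517 : Led Lsl_gt (LP (LK LD1_c0 LD2_c19 LD3_c42)) = (LP (LK LD1_c0 LD2_c44 LD3_c7)) :=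
  Lre_g IH (LK LD1_c0 LD2_c19 LD3_c42) (LK LD1_c0 LD2_c44 LD3_c7) Lrfl Lrfl
theorem f93518 : Led Lsl_ct (LP (LK LD1_c0 LD2_c44 LD3_c7)) = (LP (LK LD1_c1 LD2_c34 LD3_c45)) :=
  Lre_c IH (LK LD1_c0 LD2_c44 LD3_c7) (LK LD1_c1 LD2_c34 LD3_c45) Lrfl Lrfl
theorem f93519 : Led Lsl_dt (LP (LK LD1_c3 LD2_c15 LD3_c60)) = (LP (LK LD1_c1 LD2_c34 LD3_c45)) :=
  Lre_d IH (LK LD1_c3 LD2_c15 LD3_c60) (LK LD1_c1 LD2_c34 LD3_c45) Lrfl Lrfl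
theorem f93520 : Led Lsl_ct (LP (LK LD1_c1 LD2_c50 LD3_c49)) = (LP (LK LD1_c3 LD2_c15 LD3_c60)) :=
  Lgr Lrot110 (Lpe (f63716 IH) (Lpe (f18276 IH) (Lpr_gf (f93463 IH) (Lpe (f93444 IH) (Lpr_gt (f15615 IH) (Lpr_ct (f63845 IH) (Lpr_gt (f93517 IH) (Lpr_ct (f93518 IH) (Lpe (f93519 IH) (Lpn (LP (LK LD1_c3 LD2_c15 LD3_c60))))))))))))
theorem f93545 : Led Lsl_cf (LP (LK LD1_c1 LD2_c50 LD3_c49)) = (LP (LK LD1_c3 LD2_c15 LD3_c60)) :=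
  Lgr Lrot11 (Lpr_ct (f93520 IH) (Lpn (LP (LK LD1_c3 LD2_c15 LD3_c60))))
theorem f65571 : Led Lsl_dt (LP (LK LD1_c3 LD2_c15 LD3_c28)) = (LP (LK LD1_c1 LD2_c34 LD3_c29)) :=
  Lre_d IH (LK LD1_c3 LD2_c15 LD3_c28) (LK LD1_c1 LD2_c34 LD3_c29) Lrfl Lrfl
theorem f96731 : Led Lsl_gf (LP (LK LD1_c3 LD2_c15 LD3_c60)) = (LP (LK LD1_c3 LD2_c15 LD3_c28)) :=
  Lgr Lrot147 (Lpe (f93545 IH) (Lpe (f63714 IH) (Lpr_ct (f62840 IH) (Lpe (f62841 IH) (Lpe (K1.f22502 IH) (Lpr_gf (K1.f62814 IH) (Lpe (K2.f62851 IH) (Lpr_gf (f96725 IH) (Lpe (f65571 IH) (Lpn (LP (LK LD1_c3 LD2_c15 LD3_c28))))))))))))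
theorem f17743 : Led Lsl_dt (LP (LK LD1_c0 LD2_c49 LD3_c5)) = (LP (LK LD1_c0 LD2_c22 LD3_c0)) :=
  Lre_d IH (LK LD1_c0 LD2_c49 LD3_c5) (LK LD1_c0 LD2_c22 LD3_c0) Lrfl Lrfl
theorem f17776 : Led Lsl_gt (LP (LK LD1_c0 LD2_c22 LD3_c0)) = (LP (LK LD1_c0 LD2_c49 LD3_c3)) :=
  Lre_g IH (LK LD1_c0 LD2_c22 LD3_c0) (LK LD1_c0 LD2_c49 LD3_c3) Lrfl Lrfl
theorem f17777 : Led Lsl_dt (LP (LK LD1_c0 LD2_c49 LD3_c3)) = (LP (LK LD1_c1 LD2_c44 LD3_c48)) :=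
  Lre_d IH (LK LD1_c0 LD2_c49 LD3_c3) (LK LD1_c1 LD2_c44 LD3_c48) Lrfl Lrfl
theorem f91234 : Led Lsl_ct (LP (LK LD1_c1 LD2_c44 LD3_c48)) = (LP (LK LD1_c0 LD2_c52 LD3_c18)) :=
  Lgr Lrot7 (Lpe (f17777 IH) (Lpe (f17776 IH) (Lpe (f17743 IH) (Lpr_gf (K2.f91232 IH) (Lpe (K2.f65787 IH) (Lpr_gt (K2.f65785 IH) (Lpr_dt (K1.f18615 IH) (Lpr_gt (f63716 IH) (Lpr_dt (f63721 IH) (Lpn (LP (LK LD1_c0 LD2_c52 LD3_c18))))))))))))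
theorem f96758 : Led Lsl_gf (LP (LK LD1_c1 LD2_c44 LD3_c48)) = (LP (LK LD1_c0 LD2_c49 LD3_c18)) :=
  Lgr Lrot104 (Lpr_ct (f91234 IH) (Lpe (f63721 IH) (Lpr_cf (f93545 IH) (Lpr_gf (f96731 IH) (Lpe (f96186 IH) (Lpe (K2.f17456 IH) (Lpe (K1.f17460 IH) (Lpr_gt (K0.f17302 IH) (Lpe (K0.f17311 IH) (Lpn (LP (LK LD1_c0 LD2_c49 LD3_c18))))))))))))
theorem f5901 : Led Lsl_ct (LP (LK LD1_c0 LD2_c22 LD3_c6)) = (LP (LK LD1_c0 LD2_c49 LD3_c16)) :=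
  Lre_c IH (LK LD1_c0 LD2_c22 LD3_c6) (LK LD1_c0 LD2_c49 LD3_c16) Lrfl Lrfl
theorem f5902 : Led Lsl_gt (LP (LK LD1_c0 LD2_c49 LD3_c16)) = (LP (LK LD1_c1 LD2_c45 LD3_c7)) :=
  Lre_g IH (LK LD1_c0 LD2_c49 LD3_c16) (LK LD1_c1 LD2_c45 LD3_c7) Lrfl Lrfl
theorem f88482 : Led Lsl_cf (LP (LK LD1_c0 LD2_c52 LD3_c11)) = (LP (LK LD1_c1 LD2_c45 LD3_c7)) :=
  Lgr Lrot99 (Lpr_df (K2.f88473 IH) (Lpr_cf (K2.f84718 IH) (Lpe (K2.f10297 IH) (Lpe (K1.f10300 IH) (Lpe (K1.f5856 IH) (Lpe (K0.f10232 IH) (Lpr_gt (K2.f5900 IH) (Lpr_ct (f5901 IH) (Lpr_gt (f5902 IH) (Lpn (LP (LK LD1_c1 LD2_c45 LD3_c7))))))))))))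
theorem f88487 : Led Lsl_ct (LP (LK LD1_c0 LD2_c52 LD3_c11)) = (LP (LK LD1_c1 LD2_c45 LD3_c7)) :=
  Lgr Lrot59 (Lpr_cf (f88482 IH) (Lpn (LP (LK LD1_c1 LD2_c45 LD3_c7))))
theorem f17306 : Led Lsl_bt (LP (LK LD1_c0 LD2_c22 LD3_c7)) = (LP (LK LD1_c0 LD2_c49 LD3_c18)) :=
  Lre_b IH (LK LD1_c0 LD2_c22 LD3_c7) (LK LD1_c0 LD2_c49 LD3_c18) Lrfl Lrfl
theorem f10803 : Led Lsl_ct (LP (LK LD1_c0 LD2_c22 LD3_c7)) = (LP (LK LD1_c0 LD2_c49 LD3_c19)) :=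
  Lre_c IH (LK LD1_c0 LD2_c22 LD3_c7) (LK LD1_c0 LD2_c49 LD3_c19) Lrfl Lrfl
theorem f96765 : Led Lsl_gt (LP (LK LD1_c1 LD2_c45 LD3_c7)) = (LP (LK LD1_c0 LD2_c49 LD3_c19)) :=
  Lgr Lrot65 (Lpe (f88487 IH) (Lpr_bt (f88459 IH) (Lpe (K2.f63718 IH) (Lpe (f11253 IH) (Lpr_ct (f11979 IH) (Lpe (f17281 IH) (Lpe (f91234 IH) (Lpr_gf (f96758 IH) (Lpe (f17306 IH) (Lpr_ct (f10803 IH) (Lpn (LP (LK LD1_c0 LD2_c49 LD3_c19)))))))))))))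
theorem f88484 : Led Lsl_bt (LP (LK LD1_c3 LD2_c36 LD3_c31)) = (LP (LK LD1_c1 LD2_c45 LD3_c7)) :=
  Lre_b IH (LK LD1_c3 LD2_c36 LD3_c31) (LK LD1_c1 LD2_c45 LD3_c7) Lrfl Lrfl
theorem f88492 : Led Lsl_ft (LP (LK LD1_c0 LD2_c52 LD3_c37)) = (LP (LK LD1_c1 LD2_c45 LD3_c7)) :=
  Lgr Lrot4 (Lpe (K2.f11528 IH) (Lpe (K2.f88468 IH) (Lpr_cf (f88482 IH) (Lpn (LP (LK LD1_c1 LD2_c45 LD3_c7))))))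
theorem f88502 : Led Lsl_ff (LP (LK LD1_c0 LD2_c52 LD3_c37)) = (LP (LK LD1_c1 LD2_c45 LD3_c7)) :=
  Lgr Lrot3 (Lpr_ft (f88492 IH) (Lpn (LP (LK LD1_c1 LD2_c45 LD3_c7))))
theorem f87161 : Led Lsl_bt (LP (LK LD1_c0 LD2_c52 LD3_c37)) = (LP (LK LD1_c1 LD2_c51 LD3_c34)) :=
  Lre_b IH (LK LD1_c0 LD2_c52 LD3_c37) (LK LD1_c1 LD2_c51 LD3_c34) Lrfl Lrfl
theorem f88504 : Led Lsl_ft (LP (LK LD1_c1 LD2_c51 LD3_c34)) = (LP (LK LD1_c3 LD2_c36 LD3_c31)) :=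
  Lgr Lrot75 (Lpe (f87161 IH) (Lpr_ff (f88502 IH) (Lpe (f88484 IH) (Lpn (LP (LK LD1_c3 LD2_c36 LD3_c31))))))
theorem f87933 : Led Lsl_ct (LP (LK LD1_c0 LD2_c52 LD3_c39)) = (LP (LK LD1_c1 LD2_c51 LD3_c34)) :=
  Lre_c IH (LK LD1_c0 LD2_c52 LD3_c39) (LK LD1_c1 LD2_c51 LD3_c34) Lrfl Lrfl
theorem f87919 : Led Lsl_bt (LP (LK LD1_c0 LD2_c52 LD3_c12)) = (LP (LK LD1_c1 LD2_c50 LD3_c37)) :=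
  Lre_b IH (LK LD1_c0 LD2_c52 LD3_c12) (LK LD1_c1 LD2_c50 LD3_c37) Lrfl Lrfl
theorem f87920 : Led Lsl_bt (LP (LK LD1_c0 LD2_c52 LD3_c39)) = (LP (LK LD1_c0 LD2_c23 LD3_c47)) :=
  Lre_b IH (LK LD1_c0 LD2_c52 LD3_c39) (LK LD1_c0 LD2_c23 LD3_c47) Lrfl Lrfl
theorem f87921 : Led Lsl_ft (LP (LK LD1_c1 LD2_c50 LD3_c37)) = (LP (LK LD1_c0 LD2_c52 LD3_c39)) :=
  Lgr Lrot75 (Lpe (f87919 IH) (Lpr_ff (K2.f87878 IH) (Lpe (f87920 IH) (Lpn (LP (LK LD1_c0 LD2_c52 LD3_c39))))))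
theorem f88510 : Led Lsl_cf (LP (LK LD1_c1 LD2_c50 LD3_c37)) = (LP (LK LD1_c3 LD2_c36 LD3_c31)) :=
  Lgr Lrot108 (Lpr_ft (f87921 IH) (Lpr_ct (f87933 IH) (Lpr_ft (f88504 IH) (Lpn (LP (LK LD1_c3 LD2_c36 LD3_c31))))))
theorem f6110 : Led Lsl_ct (LP (LK LD1_c0 LD2_c49 LD3_c19)) = (LP (LK LD1_c0 LD2_c22 LD3_c7)) :=
  Lre_c IH (LK LD1_c0 LD2_c49 LD3_c19) (LK LD1_c0 LD2_c22 LD3_c7) Lrfl Lrfl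
theorem f5961 : Led Lsl_ct (LP (LK LD1_c0 LD2_c49 LD3_c28)) = (LP (LK LD1_c1 LD2_c45 LD3_c30)) :=
  Lre_c IH (LK LD1_c0 LD2_c49 LD3_c28) (LK LD1_c1 LD2_c45 LD3_c30) Lrfl Lrfl
theorem f5963 : Led Lsl_ct (LP (LK LD1_c1 LD2_c43 LD3_c41)) = (LP (LK LD1_c0 LD2_c48 LD3_c30)) :=
  Lre_c IH (LK LD1_c1 LD2_c43 LD3_c41) (LK LD1_c0 LD2_c48 LD3_c30) Lrfl Lrfl
theorem f5964 : Led Lsl_bt (LP (LK LD1_c1 LD2_c45 LD3_c30)) = (LP (LK LD1_c1 LD2_c43 LD3_c41)) :=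
  Lgr Lrot128 (Lpe (f5961 IH) (Lpe (K0.f5956 IH) (Lpr_cf (K0.f5951 IH) (Lpe (K0.f5962 IH) (Lpe (f5963 IH) (Lpn (LP (LK LD1_c1 LD2_c43 LD3_c41))))))))
theorem f5982 : Led Lsl_ft (LP (LK LD1_c0 LD2_c49 LD3_c24)) = (LP (LK LD1_c1 LD2_c45 LD3_c30)) :=
  Lre_f IH (LK LD1_c0 LD2_c49 LD3_c24) (LK LD1_c1 LD2_c45 LD3_c30) Lrfl Lrfl
theorem f5983 : Led Lsl_ft (LP (LK LD1_c1 LD2_c43 LD3_c41)) = (LP (LK LD1_c0 LD2_c48 LD3_c26)) :=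
  Lre_f IH (LK LD1_c1 LD2_c43 LD3_c41) (LK LD1_c0 LD2_c48 LD3_c26) Lrfl Lrfl
theorem f5984 : Led Lsl_bf (LP (LK LD1_c0 LD2_c49 LD3_c24)) = (LP (LK LD1_c0 LD2_c48 LD3_c26)) :=
  Lgr Lrot61 (Lpr_ft (f5982 IH) (Lpr_bt (f5964 IH) (Lpr_ft (f5983 IH) (Lpn (LP (LK LD1_c0 LD2_c48 LD3_c26))))))
theorem f6011 : Led Lsl_et (LP (LK LD1_c0 LD2_c49 LD3_c24)) = (LP (LK LD1_c0 LD2_c22 LD3_c8)) :=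
  Lre_e IH (LK LD1_c0 LD2_c49 LD3_c24) (LK LD1_c0 LD2_c22 LD3_c8) Lrfl Lrfl
theorem f6012 : Led Lsl_et (LP (LK LD1_c0 LD2_c21 LD3_c40)) = (LP (LK LD1_c0 LD2_c48 LD3_c26)) :=
  Lre_e IH (LK LD1_c0 LD2_c21 LD3_c40) (LK LD1_c0 LD2_c48 LD3_c26) Lrfl Lrfl
theorem f6013 : Led Lsl_bt (LP (LK LD1_c0 LD2_c22 LD3_c8)) = (LP (LK LD1_c0 LD2_c21 LD3_c40)) :=
  Lgr Lrot119 (Lpe (f6011 IH) (Lpr_bf (f5984 IH) (Lpe (f6012 IH) (Lpn (LP (LK LD1_c0 LD2_c21 LD3_c40))))))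
theorem f6103 : Led Lsl_gt (LP (LK LD1_c0 LD2_c21 LD3_c40)) = (LP (LK LD1_c0 LD2_c48 LD3_c23)) :=
  Lre_g IH (LK LD1_c0 LD2_c21 LD3_c40) (LK LD1_c0 LD2_c48 LD3_c23) Lrfl Lrfl
theorem f6111 : Led Lsl_bt (LP (LK LD1_c1 LD2_c43 LD3_c28)) = (LP (LK LD1_c0 LD2_c48 LD3_c23)) :=
  Lre_b IH (LK LD1_c1 LD2_c43 LD3_c28) (LK LD1_c0 LD2_c48 LD3_c23) Lrfl Lrfl
theorem f6112 : Led Lsl_ct (LP (LK LD1_c1 LD2_c43 LD3_c28)) = (LP (LK LD1_c3 LD2_c33 LD3_c29)) :=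
  Lre_c IH (LK LD1_c1 LD2_c43 LD3_c28) (LK LD1_c3 LD2_c33 LD3_c29) Lrfl Lrfl
theorem f96767 : Led Lsl_gf (LP (LK LD1_c1 LD2_c50 LD3_c37)) = (LP (LK LD1_c3 LD2_c33 LD3_c29)) :=
  Lgr Lrot126 (Lpr_cf (f88510 IH) (Lpr_bt (f88484 IH) (Lpr_gt (f96765 IH) (Lpr_ct (f6110 IH) (Lpr_gt (K0.f5904 IH) (Lpe (K2.f5887 IH) (Lpr_bt (f6013 IH) (Lpr_gt (f6103 IH) (Lpe (f6111 IH) (Lpr_ct (f6112 IH) (Lpn (LP (LK LD1_c3 LD2_c33 LD3_c29)))))))))))))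
theorem f88530 : Led Lsl_at (LP (LK LD1_c3 LD2_c47 LD3_c0)) = (LP (LK LD1_c1 LD2_c50 LD3_c37)) :=
  Lre_a IH (LK LD1_c3 LD2_c47 LD3_c0) (LK LD1_c1 LD2_c50 LD3_c37) Lrfl Lrfl
theorem f88520 : Led Lsl_at (LP (LK LD1_c1 LD2_c50 LD3_c37)) = (LP (LK LD1_c3 LD2_c47 LD3_c0)) :=
  Lre_a IH (LK LD1_c1 LD2_c50 LD3_c37) (LK LD1_c3 LD2_c47 LD3_c0) Lrfl Lrfl
theorem f88521 : Led Lsl_at (LP (LK LD1_c7 LD2_c13 LD3_c24)) = (LP (LK LD1_c3 LD2_c36 LD3_c31)) :=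
  Lre_a IH (LK LD1_c7 LD2_c13 LD3_c24) (LK LD1_c3 LD2_c36 LD3_c31) Lrfl Lrfl
theorem f88522 : Led Lsl_ct (LP (LK LD1_c3 LD2_c47 LD3_c0)) = (LP (LK LD1_c7 LD2_c13 LD3_c24)) :=
  Lgr Lrot111 (Lpe (f88520 IH) (Lpr_cf (f88510 IH) (Lpe (f88521 IH) (Lpn (LP (LK LD1_c7 LD2_c13 LD3_c24))))))
theorem f88506 : Led Lsl_at (LP (LK LD1_c3 LD2_c49 LD3_c6)) = (LP (LK LD1_c1 LD2_c51 LD3_c34)) :=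
  Lre_a IH (LK LD1_c3 LD2_c49 LD3_c6) (LK LD1_c1 LD2_c51 LD3_c34) Lrfl Lrfl
theorem f88507 : Led Lsl_at (LP (LK LD1_c3 LD2_c36 LD3_c31)) = (LP (LK LD1_c7 LD2_c13 LD3_c24)) :=
  Lre_a IH (LK LD1_c3 LD2_c36 LD3_c31) (LK LD1_c7 LD2_c13 LD3_c24) Lrfl Lrfl
theorem f88508 : Led Lsl_ff (LP (LK LD1_c3 LD2_c49 LD3_c6)) = (LP (LK LD1_c7 LD2_c13 LD3_c24)) :=
  Lgr Lrot30 (Lpr_at (f88506 IH) (Lpr_ft (f88504 IH) (Lpr_at (f88507 IH) (Lpn (LP (LK LD1_c7 LD2_c13 LD3_c24))))))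
theorem f87916 : Led Lsl_ct (LP (LK LD1_c3 LD2_c49 LD3_c6)) = (LP (LK LD1_c1 LD2_c51 LD3_c43)) :=
  Lre_c IH (LK LD1_c3 LD2_c49 LD3_c6) (LK LD1_c1 LD2_c51 LD3_c43) Lrfl Lrfl
theorem f88573 : Led Lsl_ff (LP (LK LD1_c3 LD2_c47 LD3_c0)) = (LP (LK LD1_c1 LD2_c51 LD3_c43)) :=
  Lgr Lrot23 (Lpr_ct (f88522 IH) (Lpe (f88508 IH) (Lpr_ct (f87916 IH) (Lpn (LP (LK LD1_c1 LD2_c51 LD3_c43))))))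
theorem f96862 : Led Lsl_gt (LP (LK LD1_c1 LD2_c51 LD3_c43)) = (LP (LK LD1_c3 LD2_c33 LD3_c29)) :=
  Lgr Lrot5 (Lpe (f88573 IH) (Lpr_at (f88530 IH) (Lpr_gf (f96767 IH) (Lpn (LP (LK LD1_c3 LD2_c33 LD3_c29))))))
theorem f11545 : Led Lsl_bt (LP (LK LD1_c1 LD2_c51 LD3_c34)) = (LP (LK LD1_c0 LD2_c52 LD3_c37)) :=
  Lre_b IH (LK LD1_c1 LD2_c51 LD3_c34) (LK LD1_c0 LD2_c52 LD3_c37) Lrfl Lrfl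
theorem f88496 : Led Lsl_bt (LP (LK LD1_c1 LD2_c45 LD3_c7)) = (LP (LK LD1_c3 LD2_c36 LD3_c31)) :=
  Lre_b IH (LK LD1_c1 LD2_c45 LD3_c7) (LK LD1_c3 LD2_c36 LD3_c31) Lrfl Lrfl
theorem f88499 : Led Lsl_ff (LP (LK LD1_c1 LD2_c51 LD3_c34)) = (LP (LK LD1_c3 LD2_c36 LD3_c31)) :=
  Lgr Lrot25 (Lpr_bt (f11545 IH) (Lpr_ft (f88492 IH) (Lpr_bt (f88496 IH) (Lpn (LP (LK LD1_c3 LD2_c36 LD3_c31))))))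
theorem f88593 : Led Lsl_at (LP (LK LD1_c1 LD2_c51 LD3_c34)) = (LP (LK LD1_c3 LD2_c49 LD3_c6)) :=
  Lre_a IH (LK LD1_c1 LD2_c51 LD3_c34) (LK LD1_c3 LD2_c49 LD3_c6) Lrfl Lrfl
theorem f88498 : Led Lsl_gt (LP (LK LD1_c3 LD2_c36 LD3_c31)) = (LP (LK LD1_c7 LD2_c13 LD3_c22)) :=
  Lre_g IH (LK LD1_c3 LD2_c36 LD3_c31) (LK LD1_c7 LD2_c13 LD3_c22) Lrfl Lrfl
theorem f88613 : Led Lsl_gf (LP (LK LD1_c3 LD2_c49 LD3_c6)) = (LP (LK LD1_c7 LD2_c13 LD3_c22)) :=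
  Lgr Lrot76 (Lpe (f88593 IH) (Lpr_ff (f88499 IH) (Lpr_gt (f88498 IH) (Lpn (LP (LK LD1_c7 LD2_c13 LD3_c22))))))
theorem f5889 : Led Lsl_ct (LP (LK LD1_c0 LD2_c9 LD3_c46)) = (LP (LK LD1_c0 LD2_c21 LD3_c40)) :=
  Lre_c IH (LK LD1_c0 LD2_c9 LD3_c46) (LK LD1_c0 LD2_c21 LD3_c40) Lrfl Lrfl
theorem f10223 : Led Lsl_ft (LP (LK LD1_c0 LD2_c21 LD3_c40)) = (LP (LK LD1_c0 LD2_c22 LD3_c8)) :=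
  Lgr Lrot4 (Lpe (f5889 IH) (Lpr_ff (K0.f10218 IH) (Lpe (K2.f5887 IH) (Lpn (LP (LK LD1_c0 LD2_c22 LD3_c8))))))
theorem f6408 : Led Lsl_at (LP (LK LD1_c0 LD2_c22 LD3_c8)) = (LP (LK LD1_c0 LD2_c49 LD3_c12)) :=
  Lre_a IH (LK LD1_c0 LD2_c22 LD3_c8) (LK LD1_c0 LD2_c49 LD3_c12) Lrfl Lrfl
theorem f10790 : Led Lsl_gt (LP (LK LD1_c0 LD2_c48 LD3_c23)) = (LP (LK LD1_c0 LD2_c49 LD3_c12)) :=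
  Lgr Lrot46 (Lpe (f6103 IH) (Lpr_ft (f10223 IH) (Lpr_at (f6408 IH) (Lpn (LP (LK LD1_c0 LD2_c49 LD3_c12))))))
theorem f6088 : Led Lsl_bt (LP (LK LD1_c1 LD2_c44 LD3_c61)) = (LP (LK LD1_c0 LD2_c49 LD3_c12)) :=
  Lre_b IH (LK LD1_c1 LD2_c44 LD3_c61) (LK LD1_c0 LD2_c49 LD3_c12) Lrfl Lrfl
theorem f10270 : Led Lsl_ct (LP (LK LD1_c0 LD2_c22 LD3_c4)) = (LP (LK LD1_c0 LD2_c49 LD3_c12)) :=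
  Lre_c IH (LK LD1_c0 LD2_c22 LD3_c4) (LK LD1_c0 LD2_c49 LD3_c12) Lrfl Lrfl
theorem f6407 : Led Lsl_bt (LP (LK LD1_c0 LD2_c49 LD3_c12)) = (LP (LK LD1_c1 LD2_c44 LD3_c61)) :=
  Lre_b IH (LK LD1_c0 LD2_c49 LD3_c12) (LK LD1_c1 LD2_c44 LD3_c61) Lrfl Lrfl
theorem f10448 : Led Lsl_cf (LP (LK LD1_c1 LD2_c44 LD3_c61)) = (LP (LK LD1_c1 LD2_c44 LD3_c61)) :=
  Lgr Lrot97 (Lpr_bt (f6088 IH) (Lpr_ct (f10268 IH) (Lpr_bt (f10438 IH) (Lpr_ct (f10270 IH) (Lpr_bt (f6407 IH) (Lpn (LP (LK LD1_c1 LD2_c44 LD3_c61))))))))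
theorem f10272 : Led Lsl_gt (LP (LK LD1_c1 LD2_c44 LD3_c61)) = (LP (LK LD1_c3 LD2_c36 LD3_c17)) :=
  Lre_g IH (LK LD1_c1 LD2_c44 LD3_c61) (LK LD1_c3 LD2_c36 LD3_c17) Lrfl Lrfl
theorem f10673 : Led Lsl_ct (LP (LK LD1_c7 LD2_c12 LD3_c55)) = (LP (LK LD1_c3 LD2_c36 LD3_c17)) :=
  Lre_c IH (LK LD1_c7 LD2_c12 LD3_c55) (LK LD1_c3 LD2_c36 LD3_c17) Lrfl Lrfl
theorem f96866 : Led Lsl_bf (LP (LK LD1_c7 LD2_c13 LD3_c22)) = (LP (LK LD1_c7 LD2_c12 LD3_c55)) :=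
  Lgr Lrot165 (Lpe (f88613 IH) (Lpr_ct (f87916 IH) (Lpr_gt (f96862 IH) (Lpe (f6112 IH) (Lpr_bt (f6111 IH) (Lpr_gt (f10790 IH) (Lpe (f6088 IH) (Lpe (f10448 IH) (Lpr_gt (f10272 IH) (Lpe (f10673 IH) (Lpn (LP (LK LD1_c7 LD2_c12 LD3_c55)))))))))))))
theorem f11947 : Led Lsl_ct (LP (LK LD1_c0 LD2_c23 LD3_c40)) = (LP (LK LD1_c0 LD2_c52 LD3_c15)) :=
  Lre_c IH (LK LD1_c0 LD2_c23 LD3_c40) (LK LD1_c0 LD2_c52 LD3_c15) Lrfl Lrfl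
theorem f6667 : Led Lsl_gt (LP (LK LD1_c0 LD2_c21 LD3_c39)) = (LP (LK LD1_c0 LD2_c9 LD3_c46)) :=
  Lre_g IH (LK LD1_c0 LD2_c21 LD3_c39) (LK LD1_c0 LD2_c9 LD3_c46) Lrfl Lrfl
theorem f6668 : Led Lsl_bt (LP (LK LD1_c0 LD2_c48 LD3_c20)) = (LP (LK LD1_c0 LD2_c21 LD3_c39)) :=
  Lre_b IH (LK LD1_c0 LD2_c48 LD3_c20) (LK LD1_c0 LD2_c21 LD3_c39) Lrfl Lrfl
theorem f6669 : Led Lsl_ct (LP (LK LD1_c0 LD2_c48 LD3_c20)) = (LP (LK LD1_c1 LD2_c43 LD3_c23)) :=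
  Lre_c IH (LK LD1_c0 LD2_c48 LD3_c20) (LK LD1_c1 LD2_c43 LD3_c23) Lrfl Lrfl
theorem f11948 : Led Lsl_gt (LP (LK LD1_c0 LD2_c52 LD3_c15)) = (LP (LK LD1_c1 LD2_c43 LD3_c23)) :=
  Lgr Lrot149 (Lpe (f11947 IH) (Lpe (K2.f9901 IH) (Lpe (K2.f9879 IH) (Lpe (K0.f9883 IH) (Lpr_gf (K0.f11937 IH) (Lpr_cf (K0.f5892 IH) (Lpr_bt (K2.f5888 IH) (Lpe (f6667 IH) (Lpe (f6668 IH) (Lpr_ct (f6669 IH) (Lpn (LP (LK LD1_c1 LD2_c43 LD3_c23)))))))))))))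
theorem f87790 : Led Lsl_af (LP (LK LD1_c0 LD2_c52 LD3_c12)) = (LP (LK LD1_c0 LD2_c23 LD3_c44)) :=
  Lgr Lrot117 (Lpr_dt (K2.f63722 IH) (Lpr_at (K2.f87773 IH) (Lpr_dt (K1.f17455 IH) (Lpn (LP (LK LD1_c0 LD2_c23 LD3_c44))))))
theorem f89680 : Led Lsl_gt (LP (LK LD1_c1 LD2_c43 LD3_c23)) = (LP (LK LD1_c0 LD2_c52 LD3_c12)) :=
  Lgr Lrot46 (Lpe (f11948 IH) (Lpr_ft (K2.f89291 IH) (Lpe (f87790 IH) (Lpn (LP (LK LD1_c0 LD2_c52 LD3_c12))))))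
theorem f12039 : Led Lsl_bt (LP (LK LD1_c3 LD2_c33 LD3_c17)) = (LP (LK LD1_c1 LD2_c43 LD3_c23)) :=
  Lre_b IH (LK LD1_c3 LD2_c33 LD3_c17) (LK LD1_c1 LD2_c43 LD3_c23) Lrfl Lrfl
theorem f12040 : Led Lsl_ct (LP (LK LD1_c3 LD2_c33 LD3_c17)) = (LP (LK LD1_c1 LD2_c43 LD3_c25)) :=
  Lre_c IH (LK LD1_c3 LD2_c33 LD3_c17) (LK LD1_c1 LD2_c43 LD3_c25) Lrfl Lrfl
theorem f11262 : Led Lsl_ct (LP (LK LD1_c0 LD2_c23 LD3_c54)) = (LP (LK LD1_c0 LD2_c10 LD3_c42)) :=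
  Lre_c IH (LK LD1_c0 LD2_c23 LD3_c54) (LK LD1_c0 LD2_c10 LD3_c42) Lrfl Lrfl
theorem f9880 : Led Lsl_ct (LP (LK LD1_c0 LD2_c10 LD3_c42)) = (LP (LK LD1_c0 LD2_c23 LD3_c54)) :=
  Lre_c IH (LK LD1_c0 LD2_c10 LD3_c42) (LK LD1_c0 LD2_c23 LD3_c54) Lrfl Lrfl
theorem f9881 : Led Lsl_bf (LP (LK LD1_c0 LD2_c20 LD3_c55)) = (LP (LK LD1_c0 LD2_c23 LD3_c54)) :=
  Lgr Lrot90 (Lpr_ct (K0.f9878 IH) (Lpr_bt (K2.f9877 IH) (Lpr_ct (K0.f9875 IH) (Lpr_bt (K2.f9879 IH) (Lpr_ct (f9880 IH) (Lpn (LP (LK LD1_c0 LD2_c23 LD3_c54))))))))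
theorem f89686 : Led Lsl_bt (LP (LK LD1_c1 LD2_c40 LD3_c8)) = (LP (LK LD1_c0 LD2_c46 LD3_c35)) :=
  Lre_b IH (LK LD1_c1 LD2_c40 LD3_c8) (LK LD1_c0 LD2_c46 LD3_c35) Lrfl Lrfl
theorem f89687 : Led Lsl_ct (LP (LK LD1_c1 LD2_c40 LD3_c8)) = (LP (LK LD1_c3 LD2_c27 LD3_c2)) :=
  Lre_c IH (LK LD1_c1 LD2_c40 LD3_c8) (LK LD1_c3 LD2_c27 LD3_c2) Lrfl Lrfl
theorem f89688 : Led Lsl_gf (LP (LK LD1_c1 LD2_c43 LD3_c25)) = (LP (LK LD1_c3 LD2_c27 LD3_c2)) :=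
  Lgr Lrot126 (Lpe (f12040 IH) (Lpr_bt (f12039 IH) (Lpr_gt (f89680 IH) (Lpr_ct (K2.f63848 IH) (Lpr_gt (K2.f63847 IH) (Lpe (f11262 IH) (Lpe (f9881 IH) (Lpr_gt (K2.f11951 IH) (Lpe (f89686 IH) (Lpr_ct (f89687 IH) (Lpn (LP (LK LD1_c3 LD2_c27 LD3_c2)))))))))))))
theorem f89690 : Led Lsl_gt (LP (LK LD1_c3 LD2_c27 LD3_c0)) = (LP (LK LD1_c1 LD2_c40 LD3_c8)) :=
  Lre_g IH (LK LD1_c3 LD2_c27 LD3_c0) (LK LD1_c1 LD2_c40 LD3_c8) Lrfl Lrfl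
theorem f89691 : Led Lsl_bt (LP (LK LD1_c6 LD2_c55 LD3_c54)) = (LP (LK LD1_c3 LD2_c27 LD3_c0)) :=
  Lre_b IH (LK LD1_c6 LD2_c55 LD3_c54) (LK LD1_c3 LD2_c27 LD3_c0) Lrfl Lrfl
theorem f88524 : Led Lsl_bt (LP (LK LD1_c1 LD2_c50 LD3_c37)) = (LP (LK LD1_c0 LD2_c52 LD3_c12)) :=
  Lre_b IH (LK LD1_c1 LD2_c50 LD3_c37) (LK LD1_c0 LD2_c52 LD3_c12) Lrfl Lrfl
theorem f88485 : Led Lsl_ct (LP (LK LD1_c1 LD2_c50 LD3_c37)) = (LP (LK LD1_c3 LD2_c36 LD3_c31)) :=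
  Lgr Lrot83 (Lpe (f87919 IH) (Lpe (f63719 IH) (Lpe (f88459 IH) (Lpr_cf (f88482 IH) (Lpe (f88484 IH) (Lpn (LP (LK LD1_c3 LD2_c36 LD3_c31))))))))
theorem f89692 : Led Lsl_ct (LP (LK LD1_c6 LD2_c55 LD3_c54)) = (LP (LK LD1_c7 LD2_c13 LD3_c22)) :=
  Lgr Lrot10 (Lpr_bt (f89691 IH) (Lpr_gt (f89690 IH) (Lpr_ct (f89687 IH) (Lpe (f89688 IH) (Lpe (f12040 IH) (Lpr_bt (f12039 IH) (Lpr_gt (f89680 IH) (Lpe (f88524 IH) (Lpr_ct (f88485 IH) (Lpr_gt (f88498 IH) (Lpn (LP (LK LD1_c7 LD2_c13 LD3_c22)))))))))))))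
theorem f89697 : Led Lsl_cf (LP (LK LD1_c6 LD2_c55 LD3_c54)) = (LP (LK LD1_c7 LD2_c13 LD3_c22)) :=
  Lgr Lrot11 (Lpr_ct (f89692 IH) (Lpn (LP (LK LD1_c7 LD2_c13 LD3_c22))))
theorem f89713 : Led Lsl_ct (LP (LK LD1_c3 LD2_c27 LD3_c0)) = (LP (LK LD1_c6 LD2_c55 LD3_c55)) :=
  Lre_c IH (LK LD1_c3 LD2_c27 LD3_c0) (LK LD1_c6 LD2_c55 LD3_c55) Lrfl Lrfl
theorem f10675 : Led Lsl_ct (LP (LK LD1_c3 LD2_c36 LD3_c17)) = (LP (LK LD1_c7 LD2_c12 LD3_c55)) :=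
  Lre_c IH (LK LD1_c3 LD2_c36 LD3_c17) (LK LD1_c7 LD2_c12 LD3_c55) Lrfl Lrfl
theorem f96909 : Led Lsl_bt (LP (LK LD1_c6 LD2_c55 LD3_c55)) = (LP (LK LD1_c3 LD2_c36 LD3_c17)) :=
  Lgr Lrot128 (Lpe (f89713 IH) (Lpe (f89691 IH) (Lpr_cf (f89697 IH) (Lpr_bf (f96866 IH) (Lpe (f10675 IH) (Lpn (LP (LK LD1_c3 LD2_c36 LD3_c17))))))))
theorem f89696 : Led Lsl_ct (LP (LK LD1_c6 LD2_c55 LD3_c55)) = (LP (LK LD1_c3 LD2_c27 LD3_c0)) :=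
  Lre_c IH (LK LD1_c6 LD2_c55 LD3_c55) (LK LD1_c3 LD2_c27 LD3_c0) Lrfl Lrfl
theorem f89720 : Led Lsl_ct (LP (LK LD1_c3 LD2_c27 LD3_c2)) = (LP (LK LD1_c1 LD2_c40 LD3_c8)) :=
  Lre_c IH (LK LD1_c3 LD2_c27 LD3_c2) (LK LD1_c1 LD2_c40 LD3_c8) Lrfl Lrfl
theorem f10190 : Led Lsl_ft (LP (LK LD1_c0 LD2_c9 LD3_c46)) = (LP (LK LD1_c0 LD2_c9 LD3_c59)) :=
  Lgr Lrot75 (Lpe (K2.f5888 IH) (Lpr_ff (K0.f10186 IH) (Lpe (K0.f5886 IH) (Lpn (LP (LK LD1_c0 LD2_c9 LD3_c59))))))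
theorem f10447 : Led Lsl_at (LP (LK LD1_c0 LD2_c9 LD3_c59)) = (LP (LK LD1_c0 LD2_c22 LD3_c4)) :=
  Lre_a IH (LK LD1_c0 LD2_c9 LD3_c59) (LK LD1_c0 LD2_c22 LD3_c4) Lrfl Lrfl
theorem f10819 : Led Lsl_gt (LP (LK LD1_c0 LD2_c21 LD3_c38)) = (LP (LK LD1_c0 LD2_c22 LD3_c4)) :=
  Lgr Lrot46 (Lpe (K2.f5898 IH) (Lpr_ft (f10190 IH) (Lpr_at (f10447 IH) (Lpn (LP (LK LD1_c0 LD2_c22 LD3_c4))))))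
theorem f6683 : Led Lsl_ct (LP (LK LD1_c0 LD2_c48 LD3_c18)) = (LP (LK LD1_c0 LD2_c21 LD3_c38)) :=
  Lre_c IH (LK LD1_c0 LD2_c48 LD3_c18) (LK LD1_c0 LD2_c21 LD3_c38) Lrfl Lrfl
theorem f10821 : Led Lsl_gt (LP (LK LD1_c1 LD2_c43 LD3_c16)) = (LP (LK LD1_c0 LD2_c48 LD3_c18)) :=
  Lre_g IH (LK LD1_c1 LD2_c43 LD3_c16) (LK LD1_c0 LD2_c48 LD3_c18) Lrfl Lrfl
theorem f96932 : Led Lsl_bt (LP (LK LD1_c3 LD2_c27 LD3_c2)) = (LP (LK LD1_c1 LD2_c43 LD3_c16)) :=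
  Lgr Lrot130 (Lpr_ct (f89720 IH) (Lpe (f89690 IH) (Lpe (f89696 IH) (Lpr_bt (f96909 IH) (Lpe (f10272 IH) (Lpe (f6407 IH) (Lpr_ct (f10268 IH) (Lpe (f10819 IH) (Lpe (f6683 IH) (Lpe (f10821 IH) (Lpn (LP (LK LD1_c1 LD2_c43 LD3_c16)))))))))))))
theorem f89722 : Led Lsl_et (LP (LK LD1_c6 LD2_c55 LD3_c58)) = (LP (LK LD1_c3 LD2_c27 LD3_c2)) :=
  Lre_e IH (LK LD1_c6 LD2_c55 LD3_c58) (LK LD1_c3 LD2_c27 LD3_c2) Lrfl Lrfl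
theorem f96938 : Led Lsl_et (LP (LK LD1_c1 LD2_c43 LD3_c16)) = (LP (LK LD1_c3 LD2_c33 LD3_c3)) :=
  Lre_e IH (LK LD1_c1 LD2_c43 LD3_c16) (LK LD1_c3 LD2_c33 LD3_c3) Lrfl Lrfl
theorem f96939 : Led Lsl_bf (LP (LK LD1_c6 LD2_c55 LD3_c58)) = (LP (LK LD1_c3 LD2_c33 LD3_c3)) :=
  Lgr Lrot96 (Lpr_et (f89722 IH) (Lpr_bt (f96932 IH) (Lpr_et (f96938 IH) (Lpn (LP (LK LD1_c3 LD2_c33 LD3_c3))))))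
theorem f90055 : Led Lsl_ct (LP (LK LD1_c6 LD2_c55 LD3_c58)) = (LP (LK LD1_c3 LD2_c27 LD3_c4)) :=
  Lre_c IH (LK LD1_c6 LD2_c55 LD3_c58) (LK LD1_c3 LD2_c27 LD3_c4) Lrfl Lrfl
theorem f89856 : Led Lsl_bt (LP (LK LD1_c3 LD2_c27 LD3_c4)) = (LP (LK LD1_c1 LD2_c40 LD3_c10)) :=
  Lre_b IH (LK LD1_c3 LD2_c27 LD3_c4) (LK LD1_c1 LD2_c40 LD3_c10) Lrfl Lrfl
theorem f96945 : Led Lsl_ct (LP (LK LD1_c3 LD2_c35 LD3_c35)) = (LP (LK LD1_c3 LD2_c33 LD3_c3)) :=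
  Lgr Lrot83 (Lpe (K2.f88630 IH) (Lpe (K2.f90032 IH) (Lpe (f89856 IH) (Lpe (f90055 IH) (Lpr_bf (f96939 IH) (Lpn (LP (LK LD1_c3 LD2_c33 LD3_c3))))))))
theorem f96959 : Led Lsl_cf (LP (LK LD1_c3 LD2_c35 LD3_c35)) = (LP (LK LD1_c3 LD2_c33 LD3_c3)) :=
  Lgr Lrot11 (Lpr_ct (f96945 IH) (Lpn (LP (LK LD1_c3 LD2_c33 LD3_c3))))
theorem f17499 : Led Lsl_et (LP (LK LD1_c3 LD2_c35 LD3_c35)) = (LP (LK LD1_c1 LD2_c44 LD3_c39)) :=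
  Lre_e IH (LK LD1_c3 LD2_c35 LD3_c35) (LK LD1_c1 LD2_c44 LD3_c39) Lrfl Lrfl
theorem f96964 : Led Lsl_ct (LP (LK LD1_c1 LD2_c44 LD3_c39)) = (LP (LK LD1_c1 LD2_c43 LD3_c16)) :=
  Lgr Lrot15 (Lpe (f17499 IH) (Lpr_cf (f96959 IH) (Lpe (f96938 IH) (Lpn (LP (LK LD1_c1 LD2_c43 LD3_c16))))))
theorem f96966 : Led Lsl_af (LP (LK LD1_c1 LD2_c45 LD3_c7)) = (LP (LK LD1_c1 LD2_c43 LD3_c16)) :=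
  Lgr Lrot68 (Lpe (f88482 IH) (Lpr_at (K2.f88477 IH) (Lpr_ct (f96964 IH) (Lpn (LP (LK LD1_c1 LD2_c43 LD3_c16))))))
theorem f10236 : Led Lsl_gt (LP (LK LD1_c1 LD2_c45 LD3_c8)) = (LP (LK LD1_c0 LD2_c49 LD3_c16)) :=
  Lre_g IH (LK LD1_c1 LD2_c45 LD3_c8) (LK LD1_c0 LD2_c49 LD3_c16) Lrfl Lrfl
theorem f97006 : Led Lsl_ft (LP (LK LD1_c1 LD2_c45 LD3_c8)) = (LP (LK LD1_c1 LD2_c43 LD3_c16)) :=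
  Lgr Lrot2 (Lpr_gt (f10236 IH) (Lpr_gt (f5902 IH) (Lpr_af (f96966 IH) (Lpn (LP (LK LD1_c1 LD2_c43 LD3_c16))))))
theorem f97015 : Led Lsl_ff (LP (LK LD1_c1 LD2_c45 LD3_c8)) = (LP (LK LD1_c1 LD2_c43 LD3_c16)) :=
  Lgr Lrot3 (Lpr_ft (f97006 IH) (Lpn (LP (LK LD1_c1 LD2_c43 LD3_c16))))
theorem f84976 : Led Lsl_dt (LP (LK LD1_c0 LD2_c47 LD3_c13)) = (LP (LK LD1_c0 LD2_c21 LD3_c8)) :=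
  Lre_d IH (LK LD1_c0 LD2_c47 LD3_c13) (LK LD1_c0 LD2_c21 LD3_c8) Lrfl Lrfl
theorem f84977 : Led Lsl_et (LP (LK LD1_c0 LD2_c10 LD3_c39)) = (LP (LK LD1_c0 LD2_c23 LD3_c48)) :=
  Lre_e IH (LK LD1_c0 LD2_c10 LD3_c39) (LK LD1_c0 LD2_c23 LD3_c48) Lrfl Lrfl
theorem f84978 : Led Lsl_dt (LP (LK LD1_c0 LD2_c23 LD3_c48)) = (LP (LK LD1_c0 LD2_c52 LD3_c43)) :=
  Lre_d IH (LK LD1_c0 LD2_c23 LD3_c48) (LK LD1_c0 LD2_c52 LD3_c43) Lrfl Lrfl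
theorem f84979 : Led Lsl_ef (LP (LK LD1_c0 LD2_c47 LD3_c13)) = (LP (LK LD1_c0 LD2_c52 LD3_c43)) :=
  Lgr Lrot73 (Lpr_dt (f84976 IH) (Lpr_et (K2.f64301 IH) (Lpr_dt (K2.f84971 IH) (Lpr_et (f84977 IH) (Lpr_dt (f84978 IH) (Lpn (LP (LK LD1_c0 LD2_c52 LD3_c43))))))))
theorem f86921 : Led Lsl_et (LP (LK LD1_c0 LD2_c47 LD3_c13)) = (LP (LK LD1_c0 LD2_c52 LD3_c43)) :=
  Lgr Lrot87 (Lpr_ef (f84979 IH) (Lpn (LP (LK LD1_c0 LD2_c52 LD3_c43))))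
theorem f86926 : Led Lsl_bt (LP (LK LD1_c1 LD2_c41 LD3_c11)) = (LP (LK LD1_c0 LD2_c47 LD3_c13)) :=
  Lre_b IH (LK LD1_c1 LD2_c41 LD3_c11) (LK LD1_c0 LD2_c47 LD3_c13) Lrfl Lrfl
theorem f86927 : Led Lsl_bt (LP (LK LD1_c0 LD2_c52 LD3_c43)) = (LP (LK LD1_c1 LD2_c51 LD3_c39)) :=
  Lre_b IH (LK LD1_c0 LD2_c52 LD3_c43) (LK LD1_c1 LD2_c51 LD3_c39) Lrfl Lrfl
theorem f86928 : Led Lsl_ef (LP (LK LD1_c1 LD2_c41 LD3_c11)) = (LP (LK LD1_c1 LD2_c51 LD3_c39)) :=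
  Lgr Lrot29 (Lpr_bt (f86926 IH) (Lpr_et (f86921 IH) (Lpr_bt (f86927 IH) (Lpn (LP (LK LD1_c1 LD2_c51 LD3_c39))))))
theorem f87122 : Led Lsl_at (LP (LK LD1_c1 LD2_c41 LD3_c11)) = (LP (LK LD1_c3 LD2_c28 LD3_c52)) :=
  Lre_a IH (LK LD1_c1 LD2_c41 LD3_c11) (LK LD1_c3 LD2_c28 LD3_c52) Lrfl Lrfl
theorem f87123 : Led Lsl_at (LP (LK LD1_c3 LD2_c49 LD3_c2)) = (LP (LK LD1_c1 LD2_c51 LD3_c39)) :=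
  Lre_a IH (LK LD1_c3 LD2_c49 LD3_c2) (LK LD1_c1 LD2_c51 LD3_c39) Lrfl Lrfl
theorem f87124 : Led Lsl_et (LP (LK LD1_c3 LD2_c28 LD3_c52)) = (LP (LK LD1_c3 LD2_c49 LD3_c2)) :=
  Lgr Lrot123 (Lpe (f87122 IH) (Lpr_ef (f86928 IH) (Lpe (f87123 IH) (Lpn (LP (LK LD1_c3 LD2_c49 LD3_c2))))))
theorem f87138 : Led Lsl_ef (LP (LK LD1_c3 LD2_c28 LD3_c52)) = (LP (LK LD1_c3 LD2_c49 LD3_c2)) :=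
  Lgr Lrot88 (Lpr_et (f87124 IH) (Lpn (LP (LK LD1_c3 LD2_c49 LD3_c2))))
theorem f85011 : Led Lsl_dt (LP (LK LD1_c3 LD2_c28 LD3_c52)) = (LP (LK LD1_c1 LD2_c41 LD3_c10)) :=
  Lre_d IH (LK LD1_c3 LD2_c28 LD3_c52) (LK LD1_c1 LD2_c41 LD3_c10) Lrfl Lrfl
theorem f19380 : Led Lsl_et (LP (LK LD1_c1 LD2_c41 LD3_c10)) = (LP (LK LD1_c0 LD2_c47 LD3_c8)) :=
  Lre_e IH (LK LD1_c1 LD2_c41 LD3_c10) (LK LD1_c0 LD2_c47 LD3_c8) Lrfl Lrfl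
theorem f87144 : Led Lsl_dt (LP (LK LD1_c1 LD2_c51 LD3_c33)) = (LP (LK LD1_c3 LD2_c49 LD3_c2)) :=
  Lre_d IH (LK LD1_c1 LD2_c51 LD3_c33) (LK LD1_c3 LD2_c49 LD3_c2) Lrfl Lrfl
theorem f87145 : Led Lsl_et (LP (LK LD1_c0 LD2_c52 LD3_c36)) = (LP (LK LD1_c1 LD2_c51 LD3_c33)) :=
  Lre_e IH (LK LD1_c0 LD2_c52 LD3_c36) (LK LD1_c1 LD2_c51 LD3_c33) Lrfl Lrfl
theorem f87146 : Led Lsl_dt (LP (LK LD1_c0 LD2_c47 LD3_c8)) = (LP (LK LD1_c0 LD2_c52 LD3_c36)) :=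
  Lgr Lrot77 (Lpe (f19380 IH) (Lpe (f85011 IH) (Lpr_ef (f87138 IH) (Lpe (f87144 IH) (Lpe (f87145 IH) (Lpn (LP (LK LD1_c0 LD2_c52 LD3_c36))))))))
theorem f87151 : Led Lsl_ff (LP (LK LD1_c1 LD2_c44 LD3_c39)) = (LP (LK LD1_c0 LD2_c52 LD3_c36)) :=
  Lgr Lrot19 (Lpr_dt (K2.f17498 IH) (Lpe (K2.f19372 IH) (Lpr_dt (f87146 IH) (Lpn (LP (LK LD1_c0 LD2_c52 LD3_c36))))))
theorem f97022 : Led Lsl_ct (LP (LK LD1_c1 LD2_c45 LD3_c8)) = (LP (LK LD1_c0 LD2_c52 LD3_c36)) :=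
  Lgr Lrot40 (Lpr_ff (f97015 IH) (Lpe (f96964 IH) (Lpr_ff (f87151 IH) (Lpn (LP (LK LD1_c0 LD2_c52 LD3_c36))))))
theorem f10761 : Led Lsl_ct (LP (LK LD1_c0 LD2_c9 LD3_c57)) = (LP (LK LD1_c0 LD2_c22 LD3_c1)) :=
  Lre_c IH (LK LD1_c0 LD2_c9 LD3_c57) (LK LD1_c0 LD2_c22 LD3_c1) Lrfl Lrfl
theorem f10233 : Led Lsl_dt (LP (LK LD1_c0 LD2_c21 LD3_c36)) = (LP (LK LD1_c0 LD2_c9 LD3_c45)) :=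
  Lre_d IH (LK LD1_c0 LD2_c21 LD3_c36) (LK LD1_c0 LD2_c9 LD3_c45) Lrfl Lrfl
theorem f97027 : Led Lsl_gf (LP (LK LD1_c1 LD2_c45 LD3_c8)) = (LP (LK LD1_c0 LD2_c49 LD3_c19)) :=
  Lgr Lrot104 (Lpr_ct (f97022 IH) (Lpe (f87146 IH) (Lpe (K2.f84687 IH) (Lpe (f90092 IH) (Lpe (f10761 IH) (Lpe (K0.f10755 IH) (Lpe (f10233 IH) (Lpr_gt (K2.f10801 IH) (Lpr_ct (f10803 IH) (Lpn (LP (LK LD1_c0 LD2_c49 LD3_c19))))))))))))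
theorem f5857 : Led Lsl_dt (LP (LK LD1_c0 LD2_c9 LD3_c56)) = (LP (LK LD1_c0 LD2_c21 LD3_c61)) :=
  Lre_d IH (LK LD1_c0 LD2_c9 LD3_c56) (LK LD1_c0 LD2_c21 LD3_c61) Lrfl Lrfl
theorem f18053 : Led Lsl_ct (LP (LK LD1_c0 LD2_c49 LD3_c1)) = (LP (LK LD1_c0 LD2_c21 LD3_c61)) :=
  Lre_c IH (LK LD1_c0 LD2_c49 LD3_c1) (LK LD1_c0 LD2_c21 LD3_c61) Lrfl Lrfl
theorem f18054 : Led Lsl_dt (LP (LK LD1_c1 LD2_c44 LD3_c44)) = (LP (LK LD1_c0 LD2_c49 LD3_c1)) :=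
  Lre_d IH (LK LD1_c1 LD2_c44 LD3_c44) (LK LD1_c0 LD2_c49 LD3_c1) Lrfl Lrfl
theorem f97029 : Led Lsl_gt (LP (LK LD1_c3 LD2_c35 LD3_c46)) = (LP (LK LD1_c1 LD2_c44 LD3_c44)) :=
  Lre_g IH (LK LD1_c3 LD2_c35 LD3_c46) (LK LD1_c1 LD2_c44 LD3_c44) Lrfl Lrfl
theorem f97030 : Led Lsl_dt (LP (LK LD1_c1 LD2_c45 LD3_c8)) = (LP (LK LD1_c3 LD2_c35 LD3_c46)) :=
  Lgr Lrot57 (Lpr_gf (f97027 IH) (Lpe (f10803 IH) (Lpr_gt (K0.f5904 IH) (Lpr_dt (K0.f10232 IH) (Lpr_gt (K1.f5856 IH) (Lpr_dt (f5857 IH) (Lpe (f18053 IH) (Lpe (f18054 IH) (Lpe (f97029 IH) (Lpn (LP (LK LD1_c3 LD2_c35 LD3_c46))))))))))))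
theorem f6105 : Led Lsl_ct (LP (LK LD1_c0 LD2_c49 LD3_c16)) = (LP (LK LD1_c0 LD2_c22 LD3_c6)) :=
  Lre_c IH (LK LD1_c0 LD2_c49 LD3_c16) (LK LD1_c0 LD2_c22 LD3_c6) Lrfl Lrfl
theorem f10228 : Led Lsl_gf (LP (LK LD1_c0 LD2_c21 LD3_c36)) = (LP (LK LD1_c0 LD2_c22 LD3_c6)) :=
  Lgr Lrot76 (Lpe (K2.f10181 IH) (Lpr_ff (K0.f10218 IH) (Lpr_gt (K2.f5900 IH) (Lpn (LP (LK LD1_c0 LD2_c22 LD3_c6))))))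
theorem f10231 : Led Lsl_dt (LP (LK LD1_c1 LD2_c43 LD3_c5)) = (LP (LK LD1_c0 LD2_c48 LD3_c11)) :=
  Lre_d IH (LK LD1_c1 LD2_c43 LD3_c5) (LK LD1_c0 LD2_c48 LD3_c11) Lrfl Lrfl
theorem f10230 : Led Lsl_ct (LP (LK LD1_c0 LD2_c48 LD3_c11)) = (LP (LK LD1_c0 LD2_c21 LD3_c36)) :=
  Lre_c IH (LK LD1_c0 LD2_c48 LD3_c11) (LK LD1_c0 LD2_c21 LD3_c36) Lrfl Lrfl
theorem f6561 : Led Lsl_dt (LP (LK LD1_c0 LD2_c22 LD3_c8)) = (LP (LK LD1_c0 LD2_c49 LD3_c23)) :=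
  Lre_d IH (LK LD1_c0 LD2_c22 LD3_c8) (LK LD1_c0 LD2_c49 LD3_c23) Lrfl Lrfl
theorem f17641 : Led Lsl_cf (LP (LK LD1_c1 LD2_c43 LD3_c5)) = (LP (LK LD1_c0 LD2_c49 LD3_c23)) :=
  Lgr Lrot161 (Lpr_dt (f10231 IH) (Lpr_ct (f10230 IH) (Lpe (K2.f10181 IH) (Lpr_ff (K0.f10218 IH) (Lpr_dt (K0.f10232 IH) (Lpr_ct (K0.f17629 IH) (Lpr_dt (K0.f6100 IH) (Lpr_ct (K0.f6093 IH) (Lpr_dt (f6561 IH) (Lpn (LP (LK LD1_c0 LD2_c49 LD3_c23))))))))))))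
theorem f6126 : Led Lsl_gt (LP (LK LD1_c1 LD2_c45 LD3_c25)) = (LP (LK LD1_c0 LD2_c49 LD3_c23)) :=
  Lre_g IH (LK LD1_c1 LD2_c45 LD3_c25) (LK LD1_c0 LD2_c49 LD3_c23) Lrfl Lrfl
theorem f97084 : Led Lsl_cf (LP (LK LD1_c1 LD2_c45 LD3_c25)) = (LP (LK LD1_c1 LD2_c44 LD3_c44)) :=
  Lgr Lrot188 (Lpr_gt (f6126 IH) (Lpe (f17641 IH) (Lpr_dt (f10231 IH) (Lpe (f10234 IH) (Lpr_gf (f10228 IH) (Lpe (f6105 IH) (Lpe (f10236 IH) (Lpr_dt (f97030 IH) (Lpr_gt (f97029 IH) (Lpn (LP (LK LD1_c1 LD2_c44 LD3_c44))))))))))))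
theorem f6096 : Led Lsl_dt (LP (LK LD1_c0 LD2_c49 LD3_c23)) = (LP (LK LD1_c0 LD2_c22 LD3_c8)) :=
  Lre_d IH (LK LD1_c0 LD2_c49 LD3_c23) (LK LD1_c0 LD2_c22 LD3_c8) Lrfl Lrfl
theorem f17506 : Led Lsl_dt (LP (LK LD1_c1 LD2_c45 LD3_c10)) = (LP (LK LD1_c0 LD2_c49 LD3_c16)) :=
  Lre_d IH (LK LD1_c1 LD2_c45 LD3_c10) (LK LD1_c0 LD2_c49 LD3_c16) Lrfl Lrfl
theorem f10480 : Led Lsl_gt (LP (LK LD1_c0 LD2_c48 LD3_c11)) = (LP (LK LD1_c0 LD2_c49 LD3_c22)) :=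
  Lgr Lrot5 (Lpr_ft (f10455 IH) (Lpr_at (f6087 IH) (Lpe (K2.f6681 IH) (Lpn (LP (LK LD1_c0 LD2_c49 LD3_c22))))))
theorem f10482 : Led Lsl_dt (LP (LK LD1_c0 LD2_c49 LD3_c22)) = (LP (LK LD1_c1 LD2_c45 LD3_c22)) :=
  Lre_d IH (LK LD1_c0 LD2_c49 LD3_c22) (LK LD1_c1 LD2_c45 LD3_c22) Lrfl Lrfl
theorem f17467 : Led Lsl_gt (LP (LK LD1_c1 LD2_c45 LD3_c22)) = (LP (LK LD1_c0 LD2_c50 LD3_c5)) :=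
  Lgr Lrot49 (Lpe (f10482 IH) (Lpe (f10480 IH) (Lpe (f10234 IH) (Lpr_gt (K2.f10801 IH) (Lpr_dt (K0.f17463 IH) (Lpr_gt (K0.f5241 IH) (Lpr_dt (f4959 IH) (Lpe (K0.f4956 IH) (Lpe (K0.f5231 IH) (Lpn (LP (LK LD1_c0 LD2_c50 LD3_c5))))))))))))
theorem f10485 : Led Lsl_dt (LP (LK LD1_c1 LD2_c45 LD3_c22)) = (LP (LK LD1_c0 LD2_c49 LD3_c22)) :=
  Lre_d IH (LK LD1_c1 LD2_c45 LD3_c22) (LK LD1_c0 LD2_c49 LD3_c22) Lrfl Lrfl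
theorem f17503 : Led Lsl_dt (LP (LK LD1_c0 LD2_c49 LD3_c16)) = (LP (LK LD1_c1 LD2_c45 LD3_c10)) :=
  Lre_d IH (LK LD1_c0 LD2_c49 LD3_c16) (LK LD1_c1 LD2_c45 LD3_c10) Lrfl Lrfl
theorem f4979 : Led Lsl_af (LP (LK LD1_c1 LD2_c46 LD3_c15)) = (LP (LK LD1_c0 LD2_c50 LD3_c5)) :=
  Lgr Lrot117 (Lpr_dt (K0.f4975 IH) (Lpr_at (K2.f4977 IH) (Lpr_dt (K2.f4978 IH) (Lpn (LP (LK LD1_c0 LD2_c50 LD3_c5))))))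
theorem f5007 : Led Lsl_ft (LP (LK LD1_c0 LD2_c49 LD3_c53)) = (LP (LK LD1_c0 LD2_c50 LD3_c5)) :=
  Lgr Lrot101 (Lpe (K0.f5004 IH) (Lpr_ff (K0.f5005 IH) (Lpr_af (f4979 IH) (Lpn (LP (LK LD1_c0 LD2_c50 LD3_c5))))))
theorem f5026 : Led Lsl_cf (LP (LK LD1_c1 LD2_c46 LD3_c6)) = (LP (LK LD1_c0 LD2_c50 LD3_c5)) :=
  Lgr Lrot108 (Lpr_ft (K0.f5019 IH) (Lpr_ct (K0.f381 IH) (Lpr_ft (f5007 IH) (Lpn (LP (LK LD1_c0 LD2_c50 LD3_c5))))))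
theorem f5234 : Led Lsl_at (LP (LK LD1_c1 LD2_c46 LD3_c15)) = (LP (LK LD1_c0 LD2_c50 LD3_c5)) :=
  Lgr Lrot33 (Lpe (K0.f5019 IH) (Lpr_dt (K2.f395 IH) (Lpr_ct (K2.f394 IH) (Lpr_dt (K2.f393 IH) (Lpr_ct (K0.f372 IH) (Lpr_dt (K0.f396 IH) (Lpr_ct (K0.f397 IH) (Lpr_dt (K0.f398 IH) (Lpr_ct (K0.f5224 IH) (Lpn (LP (LK LD1_c0 LD2_c50 LD3_c5))))))))))))
theorem f17501 : Led Lsl_gf (LP (LK LD1_c1 LD2_c45 LD3_c22)) = (LP (LK LD1_c1 LD2_c46 LD3_c6)) :=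
  Lgr Lrot47 (Lpr_gt (f17467 IH) (Lpe (f5234 IH) (Lpe (K0.f5019 IH) (Lpn (LP (LK LD1_c1 LD2_c46 LD3_c6))))))
theorem f17504 : Led Lsl_cf (LP (LK LD1_c1 LD2_c45 LD3_c10)) = (LP (LK LD1_c1 LD2_c45 LD3_c22)) :=
  Lgr Lrot99 (Lpe (f17503 IH) (Lpe (f5901 IH) (Lpe (K2.f5900 IH) (Lpe (K2.f5887 IH) (Lpe (K2.f6681 IH) (Lpe (f10485 IH) (Lpr_gt (f17467 IH) (Lpe (f5026 IH) (Lpe (f17501 IH) (Lpn (LP (LK LD1_c1 LD2_c45 LD3_c22))))))))))))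
theorem f5246 : Led Lsl_dt (LP (LK LD1_c0 LD2_c22 LD3_c32)) = (LP (LK LD1_c0 LD2_c50 LD3_c0)) :=
  Lre_d IH (LK LD1_c0 LD2_c22 LD3_c32) (LK LD1_c0 LD2_c50 LD3_c0) Lrfl Lrfl
theorem f10804 : Led Lsl_dt (LP (LK LD1_c1 LD2_c45 LD3_c14)) = (LP (LK LD1_c0 LD2_c49 LD3_c19)) :=
  Lre_d IH (LK LD1_c1 LD2_c45 LD3_c14) (LK LD1_c0 LD2_c49 LD3_c19) Lrfl Lrfl
theorem f92516 : Led Lsl_ct (LP (LK LD1_c1 LD2_c45 LD3_c19)) = (LP (LK LD1_c1 LD2_c45 LD3_c14)) :=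
  Lgr Lrot176 (Lpe (K2.f6673 IH) (Lpe (K0.f17296 IH) (Lpe (K2.f5712 IH) (Lpe (K2.f5710 IH) (Lpr_df (K2.f92512 IH) (Lpe (f6105 IH) (Lpe (f17506 IH) (Lpr_cf (f17504 IH) (Lpe (f10482 IH) (Lpr_cf (K2.f90064 IH) (Lpe (f5246 IH) (Lpe (K1.f5244 IH) (Lpe (K0.f17463 IH) (Lpe (f6110 IH) (Lpe (f10804 IH) (Lpn (LP (LK LD1_c1 LD2_c45 LD3_c14))))))))))))))))))
theorem f10805 : Led Lsl_dt (LP (LK LD1_c0 LD2_c49 LD3_c19)) = (LP (LK LD1_c1 LD2_c45 LD3_c14)) :=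
  Lre_d IH (LK LD1_c0 LD2_c49 LD3_c19) (LK LD1_c1 LD2_c45 LD3_c14) Lrfl Lrfl
theorem f97128 : Led Lsl_gt (LP (LK LD1_c1 LD2_c44 LD3_c44)) = (LP (LK LD1_c3 LD2_c35 LD3_c45)) :=
  Lre_g IH (LK LD1_c1 LD2_c44 LD3_c44) (LK LD1_c3 LD2_c35 LD3_c45) Lrfl Lrfl
theorem f97129 : Led Lsl_df (LP (LK LD1_c1 LD2_c45 LD3_c7)) = (LP (LK LD1_c3 LD2_c35 LD3_c45)) :=
  Lgr Lrot153 (Lpr_gt (f96765 IH) (Lpr_dt (f10805 IH) (Lpe (f92516 IH) (Lpe (K2.f6673 IH) (Lpe (K0.f6672 IH) (Lpe (f6096 IH) (Lpe (f6126 IH) (Lpr_cf (f97084 IH) (Lpr_gt (f97128 IH) (Lpn (LP (LK LD1_c3 LD2_c35 LD3_c45))))))))))))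
theorem f87153 : Led Lsl_at (LP (LK LD1_c0 LD2_c23 LD3_c46)) = (LP (LK LD1_c0 LD2_c52 LD3_c36)) :=
  Lre_a IH (LK LD1_c0 LD2_c23 LD3_c46) (LK LD1_c0 LD2_c52 LD3_c36) Lrfl Lrfl
theorem f88471 : Led Lsl_af (LP (LK LD1_c0 LD2_c52 LD3_c11)) = (LP (LK LD1_c1 LD2_c44 LD3_c39)) :=
  Lgr Lrot45 (Lpr_ft (K2.f88468 IH) (Lpr_at (f87153 IH) (Lpe (f87151 IH) (Lpn (LP (LK LD1_c1 LD2_c44 LD3_c39))))))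
theorem f84698 : Led Lsl_dt (LP (LK LD1_c1 LD2_c41 LD3_c10)) = (LP (LK LD1_c3 LD2_c28 LD3_c52)) :=
  Lre_d IH (LK LD1_c1 LD2_c41 LD3_c10) (LK LD1_c3 LD2_c28 LD3_c52) Lrfl Lrfl
theorem f19374 : Led Lsl_et (LP (LK LD1_c0 LD2_c47 LD3_c8)) = (LP (LK LD1_c1 LD2_c41 LD3_c10)) :=
  Lre_e IH (LK LD1_c0 LD2_c47 LD3_c8) (LK LD1_c1 LD2_c41 LD3_c10) Lrfl Lrfl
theorem f87134 : Led Lsl_dt (LP (LK LD1_c3 LD2_c49 LD3_c2)) = (LP (LK LD1_c1 LD2_c51 LD3_c33)) :=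
  Lre_d IH (LK LD1_c3 LD2_c49 LD3_c2) (LK LD1_c1 LD2_c51 LD3_c33) Lrfl Lrfl
theorem f87135 : Led Lsl_et (LP (LK LD1_c1 LD2_c51 LD3_c33)) = (LP (LK LD1_c0 LD2_c52 LD3_c36)) :=
  Lre_e IH (LK LD1_c1 LD2_c51 LD3_c33) (LK LD1_c0 LD2_c52 LD3_c36) Lrfl Lrfl
theorem f87136 : Led Lsl_df (LP (LK LD1_c0 LD2_c47 LD3_c8)) = (LP (LK LD1_c0 LD2_c52 LD3_c36)) :=
  Lgr Lrot70 (Lpr_et (f19374 IH) (Lpr_dt (f84698 IH) (Lpr_et (f87124 IH) (Lpr_dt (f87134 IH) (Lpr_et (f87135 IH) (Lpn (LP (LK LD1_c0 LD2_c52 LD3_c36))))))))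
theorem f11533 : Led Lsl_dt (LP (LK LD1_c0 LD2_c52 LD3_c37)) = (LP (LK LD1_c1 LD2_c51 LD3_c35)) :=
  Lre_d IH (LK LD1_c0 LD2_c52 LD3_c37) (LK LD1_c1 LD2_c51 LD3_c35) Lrfl Lrfl
theorem f97141 : Led Lsl_ct (LP (LK LD1_c1 LD2_c51 LD3_c35)) = (LP (LK LD1_c3 LD2_c35 LD3_c45)) :=
  Lgr Lrot53 (Lpe (f11533 IH) (Lpe (K2.f11528 IH) (Lpr_df (f84728 IH) (Lpr_cf (K2.f84683 IH) (Lpr_df (f87136 IH) (Lpe (f87151 IH) (Lpe (f88471 IH) (Lpr_cf (f88482 IH) (Lpr_df (f97129 IH) (Lpn (LP (LK LD1_c3 LD2_c35 LD3_c45))))))))))))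
theorem f97145 : Led Lsl_cf (LP (LK LD1_c1 LD2_c51 LD3_c35)) = (LP (LK LD1_c3 LD2_c35 LD3_c45)) :=
  Lgr Lrot11 (Lpr_ct (f97141 IH) (Lpn (LP (LK LD1_c3 LD2_c35 LD3_c45))))
theorem f11557 : Led Lsl_dt (LP (LK LD1_c1 LD2_c51 LD3_c35)) = (LP (LK LD1_c0 LD2_c52 LD3_c37)) :=
  Lre_d IH (LK LD1_c1 LD2_c51 LD3_c35) (LK LD1_c0 LD2_c52 LD3_c37) Lrfl Lrfl
theorem f87156 : Led Lsl_ft (LP (LK LD1_c1 LD2_c44 LD3_c39)) = (LP (LK LD1_c0 LD2_c52 LD3_c36)) :=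
  Lgr Lrot48 (Lpr_ff (f87151 IH) (Lpn (LP (LK LD1_c0 LD2_c52 LD3_c36))))
theorem f87150 : Led Lsl_at (LP (LK LD1_c0 LD2_c52 LD3_c36)) = (LP (LK LD1_c0 LD2_c23 LD3_c46)) :=
  Lre_a IH (LK LD1_c0 LD2_c52 LD3_c36) (LK LD1_c0 LD2_c23 LD3_c46) Lrfl Lrfl
theorem f87159 : Led Lsl_gt (LP (LK LD1_c0 LD2_c50 LD3_c0)) = (LP (LK LD1_c0 LD2_c23 LD3_c46)) :=
  Lgr Lrot46 (Lpe (K2.f17469 IH) (Lpr_ft (f87156 IH) (Lpr_at (f87150 IH) (Lpn (LP (LK LD1_c0 LD2_c23 LD3_c46))))))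
theorem f90069 : Led Lsl_ct (LP (LK LD1_c0 LD2_c49 LD3_c22)) = (LP (LK LD1_c0 LD2_c50 LD3_c0)) :=
  Lgr Lrot59 (Lpr_cf (K2.f90064 IH) (Lpn (LP (LK LD1_c0 LD2_c50 LD3_c0))))
theorem f10235 : Led Lsl_dt (LP (LK LD1_c0 LD2_c48 LD3_c11)) = (LP (LK LD1_c1 LD2_c43 LD3_c5)) :=
  Lre_d IH (LK LD1_c0 LD2_c48 LD3_c11) (LK LD1_c1 LD2_c43 LD3_c5) Lrfl Lrfl
theorem f97122 : Led Lsl_ct (LP (LK LD1_c1 LD2_c45 LD3_c25)) = (LP (LK LD1_c1 LD2_c44 LD3_c44)) :=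
  Lgr Lrot59 (Lpr_cf (f97084 IH) (Lpn (LP (LK LD1_c1 LD2_c44 LD3_c44))))
theorem f97186 : Led Lsl_gt (LP (LK LD1_c1 LD2_c43 LD3_c5)) = (LP (LK LD1_c1 LD2_c45 LD3_c25)) :=
  Lgr Lrot9 (Lpe (f10235 IH) (Lpr_gt (f10480 IH) (Lpr_ct (f90069 IH) (Lpr_gt (f87159 IH) (Lpr_ct (K2.f11528 IH) (Lpe (f11557 IH) (Lpr_cf (f97145 IH) (Lpe (f97128 IH) (Lpe (f97122 IH) (Lpn (LP (LK LD1_c1 LD2_c45 LD3_c25))))))))))))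
theorem f17639 : Led Lsl_cf (LP (LK LD1_c0 LD2_c49 LD3_c23)) = (LP (LK LD1_c1 LD2_c43 LD3_c5)) :=
  Lgr Lrot116 (Lpr_dt (f6096 IH) (Lpr_ct (K2.f5887 IH) (Lpr_dt (K0.f10232 IH) (Lpr_ct (K0.f17629 IH) (Lpe (K0.f10284 IH) (Lpe (K0.f10285 IH) (Lpr_dt (K2.f10244 IH) (Lpr_ct (f10234 IH) (Lpr_dt (f10235 IH) (Lpn (LP (LK LD1_c1 LD2_c43 LD3_c5))))))))))))
theorem f6124 : Led Lsl_gt (LP (LK LD1_c0 LD2_c49 LD3_c23)) = (LP (LK LD1_c1 LD2_c45 LD3_c24)) :=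
  Lre_g IH (LK LD1_c0 LD2_c49 LD3_c23) (LK LD1_c1 LD2_c45 LD3_c24) Lrfl Lrfl
theorem f90073 : Led Lsl_dt (LP (LK LD1_c1 LD2_c45 LD3_c24)) = (LP (LK LD1_c0 LD2_c49 LD3_c51)) :=
  Lgr Lrot105 (Lpe (f6124 IH) (Lpe (f6561 IH) (Lpe (K2.f6681 IH) (Lpr_cf (K2.f90064 IH) (Lpr_gt (f87159 IH) (Lpr_dt (K2.f84726 IH) (Lpr_gt (K2.f19350 IH) (Lpr_dt (K1.f17644 IH) (Lpr_cf (K1.f17962 IH) (Lpn (LP (LK LD1_c0 LD2_c49 LD3_c51))))))))))))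
theorem f383 : Led Lsl_gt (LP (LK LD1_c0 LD2_c49 LD3_c52)) = (LP (LK LD1_c0 LD2_c22 LD3_c25)) :=
  Lre_g IH (LK LD1_c0 LD2_c49 LD3_c52) (LK LD1_c0 LD2_c22 LD3_c25) Lrfl Lrfl
theorem f97188 : Led Lsl_df (LP (LK LD1_c0 LD2_c49 LD3_c52)) = (LP (LK LD1_c1 LD2_c45 LD3_c25)) :=
  Lgr Lrot153 (Lpr_gt (f383 IH) (Lpr_dt (K0.f376 IH) (Lpe (K0.f381 IH) (Lpr_df (K0.f4986 IH) (Lpe (K2.f5813 IH) (Lpe (f90073 IH) (Lpe (f6124 IH) (Lpr_cf (f17639 IH) (Lpr_gt (f97186 IH) (Lpn (LP (LK LD1_c1 LD2_c45 LD3_c25))))))))))))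
theorem f18020 : Led Lsl_dt (LP (LK LD1_c0 LD2_c49 LD3_c1)) = (LP (LK LD1_c1 LD2_c44 LD3_c44)) :=
  Lre_d IH (LK LD1_c0 LD2_c49 LD3_c1) (LK LD1_c1 LD2_c44 LD3_c44) Lrfl Lrfl
theorem f5858 : Led Lsl_ct (LP (LK LD1_c0 LD2_c21 LD3_c61)) = (LP (LK LD1_c0 LD2_c49 LD3_c1)) :=
  Lre_c IH (LK LD1_c0 LD2_c21 LD3_c61) (LK LD1_c0 LD2_c49 LD3_c1) Lrfl Lrfl
theorem f97194 : Led Lsl_gt (LP (LK LD1_c0 LD2_c10 LD3_c5)) = (LP (LK LD1_c0 LD2_c21 LD3_c61)) :=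
  Lgr Lrot150 (Lpe (K2.f379 IH) (Lpe (f383 IH) (Lpr_df (f97188 IH) (Lpr_gt (f6126 IH) (Lpe (f17641 IH) (Lpr_gt (f97186 IH) (Lpr_ct (f97122 IH) (Lpe (f18020 IH) (Lpe (f5858 IH) (Lpn (LP (LK LD1_c0 LD2_c21 LD3_c61))))))))))))
theorem f4442 : Led Lsl_et (LP (LK LD1_c0 LD2_c22 LD3_c26)) = (LP (LK LD1_c0 LD2_c10 LD3_c5)) :=
  Lre_e IH (LK LD1_c0 LD2_c22 LD3_c26) (LK LD1_c0 LD2_c10 LD3_c5) Lrfl Lrfl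
theorem f4027 : Led Lsl_df (LP (LK LD1_c0 LD2_c22 LD3_c26)) = (LP (LK LD1_c0 LD2_c22 LD3_c26)) :=
  Lgr Lrot12 (Lpr_bt (K2.f4025 IH) (Lpr_dt (K2.f4023 IH) (Lpr_bt (K2.f4026 IH) (Lpn (LP (LK LD1_c0 LD2_c22 LD3_c26))))))
theorem f4444 : Led Lsl_gt (LP (LK LD1_c0 LD2_c49 LD3_c56)) = (LP (LK LD1_c0 LD2_c22 LD3_c26)) :=
  Lre_g IH (LK LD1_c0 LD2_c49 LD3_c56) (LK LD1_c0 LD2_c22 LD3_c26) Lrfl Lrfl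
theorem f4425 : Led Lsl_dt (LP (LK LD1_c1 LD2_c46 LD3_c27)) = (LP (LK LD1_c0 LD2_c49 LD3_c56)) :=
  Lre_d IH (LK LD1_c1 LD2_c46 LD3_c27) (LK LD1_c0 LD2_c49 LD3_c56) Lrfl Lrfl
theorem f10299 : Led Lsl_dt (LP (LK LD1_c0 LD2_c21 LD3_c61)) = (LP (LK LD1_c0 LD2_c9 LD3_c56)) :=
  Lre_d IH (LK LD1_c0 LD2_c21 LD3_c61) (LK LD1_c0 LD2_c9 LD3_c56) Lrfl Lrfl
theorem f10304 : Led Lsl_et (LP (LK LD1_c0 LD2_c21 LD3_c36)) = (LP (LK LD1_c0 LD2_c48 LD3_c12)) :=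
  Lre_e IH (LK LD1_c0 LD2_c21 LD3_c36) (LK LD1_c0 LD2_c48 LD3_c12) Lrfl Lrfl
theorem f10305 : Led Lsl_gt (LP (LK LD1_c0 LD2_c48 LD3_c12)) = (LP (LK LD1_c1 LD2_c43 LD3_c7)) :=
  Lre_g IH (LK LD1_c0 LD2_c48 LD3_c12) (LK LD1_c1 LD2_c43 LD3_c7) Lrfl Lrfl
theorem f97286 : Led Lsl_et (LP (LK LD1_c1 LD2_c46 LD3_c27)) = (LP (LK LD1_c1 LD2_c43 LD3_c7)) :=
  Lgr Lrot122 (Lpr_dt (f4425 IH) (Lpr_gt (f4444 IH) (Lpr_df (f4027 IH) (Lpr_et (f4442 IH) (Lpr_gt (f97194 IH) (Lpr_dt (f10299 IH) (Lpe (K2.f10294 IH) (Lpe (f10233 IH) (Lpr_et (f10304 IH) (Lpr_gt (f10305 IH) (Lpn (LP (LK LD1_c1 LD2_c43 LD3_c7)))))))))))))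
theorem f4410 : Led Lsl_gt (LP (LK LD1_c1 LD2_c46 LD3_c10)) = (LP (LK LD1_c0 LD2_c49 LD3_c56)) :=
  Lre_g IH (LK LD1_c1 LD2_c46 LD3_c10) (LK LD1_c0 LD2_c49 LD3_c56) Lrfl Lrfl
theorem f4043 : Led Lsl_at (LP (LK LD1_c1 LD2_c46 LD3_c10)) = (LP (LK LD1_c0 LD2_c49 LD3_c57)) :=
  Lre_a IH (LK LD1_c1 LD2_c46 LD3_c10) (LK LD1_c0 LD2_c49 LD3_c57) Lrfl Lrfl
theorem f4044 : Led Lsl_at (LP (LK LD1_c0 LD2_c49 LD3_c57)) = (LP (LK LD1_c1 LD2_c46 LD3_c10)) :=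
  Lre_a IH (LK LD1_c0 LD2_c49 LD3_c57) (LK LD1_c1 LD2_c46 LD3_c10) Lrfl Lrfl
theorem f4045 : Led Lsl_df (LP (LK LD1_c1 LD2_c46 LD3_c10)) = (LP (LK LD1_c1 LD2_c46 LD3_c10)) :=
  Lgr Lrot18 (Lpr_at (f4043 IH) (Lpr_dt (K2.f4041 IH) (Lpr_at (f4044 IH) (Lpn (LP (LK LD1_c1 LD2_c46 LD3_c10))))))
theorem f4273 : Led Lsl_gt (LP (LK LD1_c0 LD2_c49 LD3_c55)) = (LP (LK LD1_c1 LD2_c46 LD3_c10)) :=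
  Lre_g IH (LK LD1_c0 LD2_c49 LD3_c55) (LK LD1_c1 LD2_c46 LD3_c10) Lrfl Lrfl
theorem f4426 : Led Lsl_et (LP (LK LD1_c1 LD2_c46 LD3_c24)) = (LP (LK LD1_c0 LD2_c49 LD3_c55)) :=
  Lre_e IH (LK LD1_c1 LD2_c46 LD3_c24) (LK LD1_c0 LD2_c49 LD3_c55) Lrfl Lrfl
theorem f5969 : Led Lsl_gt (LP (LK LD1_c1 LD2_c43 LD3_c7)) = (LP (LK LD1_c0 LD2_c48 LD3_c30)) :=
  Lre_g IH (LK LD1_c1 LD2_c43 LD3_c7) (LK LD1_c0 LD2_c48 LD3_c30) Lrfl Lrfl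
theorem f10208 : Led Lsl_dt (LP (LK LD1_c0 LD2_c49 LD3_c28)) = (LP (LK LD1_c1 LD2_c45 LD3_c40)) :=
  Lre_d IH (LK LD1_c0 LD2_c49 LD3_c28) (LK LD1_c1 LD2_c45 LD3_c40) Lrfl Lrfl
theorem f10209 : Led Lsl_gt (LP (LK LD1_c1 LD2_c45 LD3_c40)) = (LP (LK LD1_c3 LD2_c36 LD3_c26)) :=
  Lre_g IH (LK LD1_c1 LD2_c45 LD3_c40) (LK LD1_c3 LD2_c36 LD3_c26) Lrfl Lrfl
theorem f97294 : Led Lsl_dt (LP (LK LD1_c1 LD2_c46 LD3_c24)) = (LP (LK LD1_c3 LD2_c36 LD3_c26)) :=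
  Lgr Lrot37 (Lpr_et (f4426 IH) (Lpr_gt (f4273 IH) (Lpe (f4045 IH) (Lpr_gt (f4410 IH) (Lpe (f4425 IH) (Lpr_et (f97286 IH) (Lpr_gt (f5969 IH) (Lpr_ef (K0.f10196 IH) (Lpr_dt (f10208 IH) (Lpr_gt (f10209 IH) (Lpn (LP (LK LD1_c3 LD2_c36 LD3_c26)))))))))))))
theorem f4445 : Led Lsl_gt (LP (LK LD1_c0 LD2_c22 LD3_c26)) = (LP (LK LD1_c0 LD2_c49 LD3_c55)) :=
  Lre_g IH (LK LD1_c0 LD2_c22 LD3_c26) (LK LD1_c0 LD2_c49 LD3_c55) Lrfl Lrfl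
theorem f4443 : Led Lsl_et (LP (LK LD1_c0 LD2_c10 LD3_c5)) = (LP (LK LD1_c0 LD2_c22 LD3_c26)) :=
  Lre_e IH (LK LD1_c0 LD2_c10 LD3_c5) (LK LD1_c0 LD2_c22 LD3_c26) Lrfl Lrfl
theorem f384 : Led Lsl_gt (LP (LK LD1_c0 LD2_c10 LD3_c3)) = (LP (LK LD1_c0 LD2_c4 LD3_c45)) :=
  Lre_g IH (LK LD1_c0 LD2_c10 LD3_c3) (LK LD1_c0 LD2_c4 LD3_c45) Lrfl Lrfl
theorem f10466 : Led Lsl_gt (LP (LK LD1_c3 LD2_c36 LD3_c26)) = (LP (LK LD1_c1 LD2_c45 LD3_c3)) :=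
  Lre_g IH (LK LD1_c3 LD2_c36 LD3_c26) (LK LD1_c1 LD2_c45 LD3_c3) Lrfl Lrfl
theorem f10465 : Led Lsl_dt (LP (LK LD1_c0 LD2_c49 LD3_c13)) = (LP (LK LD1_c1 LD2_c45 LD3_c3)) :=
  Lre_d IH (LK LD1_c0 LD2_c49 LD3_c13) (LK LD1_c1 LD2_c45 LD3_c3) Lrfl Lrfl
theorem f10450 : Led Lsl_et (LP (LK LD1_c0 LD2_c49 LD3_c13)) = (LP (LK LD1_c0 LD2_c22 LD3_c4)) :=
  Lre_e IH (LK LD1_c0 LD2_c49 LD3_c13) (LK LD1_c0 LD2_c22 LD3_c4) Lrfl Lrfl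
theorem f10459 : Led Lsl_gf (LP (LK LD1_c0 LD2_c21 LD3_c39)) = (LP (LK LD1_c0 LD2_c22 LD3_c4)) :=
  Lgr Lrot47 (Lpr_gt (f6667 IH) (Lpe (f10180 IH) (Lpr_ff (f10453 IH) (Lpn (LP (LK LD1_c0 LD2_c22 LD3_c4))))))
theorem f97306 : Led Lsl_df (LP (LK LD1_c0 LD2_c10 LD3_c3)) = (LP (LK LD1_c0 LD2_c21 LD3_c39)) :=
  Lgr Lrot135 (Lpr_gt (f384 IH) (Lpe (K0.f378 IH) (Lpr_et (f4443 IH) (Lpr_gt (f4445 IH) (Lpe (f4426 IH) (Lpr_dt (f97294 IH) (Lpr_gt (f10466 IH) (Lpe (f10465 IH) (Lpr_et (f10450 IH) (Lpe (f10459 IH) (Lpn (LP (LK LD1_c0 LD2_c21 LD3_c39)))))))))))))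
theorem f386 : Led Lsl_ct (LP (LK LD1_c0 LD2_c10 LD3_c2)) = (LP (LK LD1_c0 LD2_c22 LD3_c20)) :=
  Lre_c IH (LK LD1_c0 LD2_c10 LD3_c2) (LK LD1_c0 LD2_c22 LD3_c20) Lrfl Lrfl
theorem f387 : Led Lsl_dt (LP (LK LD1_c0 LD2_c22 LD3_c20)) = (LP (LK LD1_c0 LD2_c49 LD3_c44)) :=
  Lre_d IH (LK LD1_c0 LD2_c22 LD3_c20) (LK LD1_c0 LD2_c49 LD3_c44) Lrfl Lrfl
theorem f97316 : Led Lsl_cf (LP (LK LD1_c0 LD2_c49 LD3_c44)) = (LP (LK LD1_c0 LD2_c48 LD3_c23)) :=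
  Lgr Lrot99 (Lpe (f387 IH) (Lpe (f386 IH) (Lpe (f337 IH) (Lpr_cf (K0.f365 IH) (Lpe (f384 IH) (Lpr_df (f97306 IH) (Lpr_gt (f6667 IH) (Lpr_ct (f5889 IH) (Lpr_gt (f6103 IH) (Lpn (LP (LK LD1_c0 LD2_c48 LD3_c23))))))))))))
theorem f97324 : Led Lsl_et (LP (LK LD1_c0 LD2_c49 LD3_c44)) = (LP (LK LD1_c1 LD2_c46 LD3_c0)) :=
  Lre_e IH (LK LD1_c0 LD2_c49 LD3_c44) (LK LD1_c1 LD2_c46 LD3_c0) Lrfl Lrfl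
theorem f10794 : Led Lsl_et (LP (LK LD1_c1 LD2_c43 LD3_c30)) = (LP (LK LD1_c0 LD2_c48 LD3_c23)) :=
  Lre_e IH (LK LD1_c1 LD2_c43 LD3_c30) (LK LD1_c0 LD2_c48 LD3_c23) Lrfl Lrfl
theorem f97325 : Led Lsl_ct (LP (LK LD1_c1 LD2_c46 LD3_c0)) = (LP (LK LD1_c1 LD2_c43 LD3_c30)) :=
  Lgr Lrot15 (Lpe (f97324 IH) (Lpr_cf (f97316 IH) (Lpe (f10794 IH) (Lpn (LP (LK LD1_c1 LD2_c43 LD3_c30))))))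
theorem f97329 : Led Lsl_cf (LP (LK LD1_c1 LD2_c46 LD3_c0)) = (LP (LK LD1_c1 LD2_c43 LD3_c30)) :=
  Lgr Lrot11 (Lpr_ct (f97325 IH) (Lpn (LP (LK LD1_c1 LD2_c43 LD3_c30))))
theorem f86834 : Led Lsl_bt (LP (LK LD1_c1 LD2_c46 LD3_c0)) = (LP (LK LD1_c3 LD2_c38 LD3_c5)) :=
  Lre_b IH (LK LD1_c1 LD2_c46 LD3_c0) (LK LD1_c3 LD2_c38 LD3_c5) Lrfl Lrfl
theorem f96835 : Led Lsl_bt (LP (LK LD1_c3 LD2_c33 LD3_c31)) = (LP (LK LD1_c1 LD2_c43 LD3_c30)) :=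
  Lre_b IH (LK LD1_c3 LD2_c33 LD3_c31) (LK LD1_c1 LD2_c43 LD3_c30) Lrfl Lrfl
theorem f96834 : Led Lsl_ct (LP (LK LD1_c7 LD2_c7 LD3_c52)) = (LP (LK LD1_c3 LD2_c33 LD3_c31)) :=
  Lre_c IH (LK LD1_c7 LD2_c7 LD3_c52) (LK LD1_c3 LD2_c33 LD3_c31) Lrfl Lrfl
theorem f96769 : Led Lsl_gt (LP (LK LD1_c3 LD2_c33 LD3_c27)) = (LP (LK LD1_c1 LD2_c43 LD3_c28)) :=
  Lre_g IH (LK LD1_c3 LD2_c33 LD3_c27) (LK LD1_c1 LD2_c43 LD3_c28) Lrfl Lrfl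
theorem f96770 : Led Lsl_bt (LP (LK LD1_c7 LD2_c7 LD3_c49)) = (LP (LK LD1_c3 LD2_c33 LD3_c27)) :=
  Lre_b IH (LK LD1_c7 LD2_c7 LD3_c49) (LK LD1_c3 LD2_c33 LD3_c27) Lrfl Lrfl
theorem f17307 : Led Lsl_bt (LP (LK LD1_c1 LD2_c45 LD3_c13)) = (LP (LK LD1_c0 LD2_c49 LD3_c19)) :=
  Lre_b IH (LK LD1_c1 LD2_c45 LD3_c13) (LK LD1_c0 LD2_c49 LD3_c19) Lrfl Lrfl
theorem f17313 : Led Lsl_et (LP (LK LD1_c1 LD2_c45 LD3_c12)) = (LP (LK LD1_c0 LD2_c49 LD3_c18)) :=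
  Lre_e IH (LK LD1_c1 LD2_c45 LD3_c12) (LK LD1_c0 LD2_c49 LD3_c18) Lrfl Lrfl
theorem f17314 : Led Lsl_et (LP (LK LD1_c0 LD2_c52 LD3_c28)) = (LP (LK LD1_c1 LD2_c51 LD3_c13)) :=
  Lre_e IH (LK LD1_c0 LD2_c52 LD3_c28) (LK LD1_c1 LD2_c51 LD3_c13) Lrfl Lrfl
theorem f17315 : Led Lsl_cf (LP (LK LD1_c1 LD2_c45 LD3_c12)) = (LP (LK LD1_c1 LD2_c51 LD3_c13)) :=
  Lgr Lrot39 (Lpr_et (f17313 IH) (Lpr_ct (K0.f17303 IH) (Lpr_et (f17314 IH) (Lpn (LP (LK LD1_c1 LD2_c51 LD3_c13))))))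
theorem f17329 : Led Lsl_ft (LP (LK LD1_c1 LD2_c45 LD3_c12)) = (LP (LK LD1_c3 LD2_c36 LD3_c43)) :=
  Lre_f IH (LK LD1_c1 LD2_c45 LD3_c12) (LK LD1_c3 LD2_c36 LD3_c43) Lrfl Lrfl
theorem f17330 : Led Lsl_ft (LP (LK LD1_c3 LD2_c48 LD3_c25)) = (LP (LK LD1_c1 LD2_c51 LD3_c13)) :=
  Lre_f IH (LK LD1_c3 LD2_c48 LD3_c25) (LK LD1_c1 LD2_c51 LD3_c13) Lrfl Lrfl
theorem f17331 : Led Lsl_ct (LP (LK LD1_c3 LD2_c36 LD3_c43)) = (LP (LK LD1_c3 LD2_c48 LD3_c25)) :=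
  Lgr Lrot40 (Lpe (f17329 IH) (Lpr_cf (f17315 IH) (Lpe (f17330 IH) (Lpn (LP (LK LD1_c3 LD2_c48 LD3_c25))))))
theorem f17345 : Led Lsl_cf (LP (LK LD1_c3 LD2_c36 LD3_c43)) = (LP (LK LD1_c3 LD2_c48 LD3_c25)) :=
  Lgr Lrot11 (Lpr_ct (f17331 IH) (Lpn (LP (LK LD1_c3 LD2_c48 LD3_c25))))
theorem f17353 : Led Lsl_bt (LP (LK LD1_c3 LD2_c36 LD3_c43)) = (LP (LK LD1_c1 LD2_c45 LD3_c17)) :=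
  Lre_b IH (LK LD1_c3 LD2_c36 LD3_c43) (LK LD1_c1 LD2_c45 LD3_c17) Lrfl Lrfl
theorem f17354 : Led Lsl_ct (LP (LK LD1_c1 LD2_c45 LD3_c17)) = (LP (LK LD1_c3 LD2_c36 LD3_c52)) :=
  Lre_c IH (LK LD1_c1 LD2_c45 LD3_c17) (LK LD1_c3 LD2_c36 LD3_c52) Lrfl Lrfl
theorem f17355 : Led Lsl_bt (LP (LK LD1_c3 LD2_c36 LD3_c52)) = (LP (LK LD1_c7 LD2_c13 LD3_c48)) :=
  Lre_b IH (LK LD1_c3 LD2_c36 LD3_c52) (LK LD1_c7 LD2_c13 LD3_c48) Lrfl Lrfl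
theorem f17356 : Led Lsl_bt (LP (LK LD1_c7 LD2_c37 LD3_c50)) = (LP (LK LD1_c3 LD2_c48 LD3_c25)) :=
  Lre_b IH (LK LD1_c7 LD2_c37 LD3_c50) (LK LD1_c3 LD2_c48 LD3_c25) Lrfl Lrfl
theorem f17357 : Led Lsl_ct (LP (LK LD1_c7 LD2_c13 LD3_c48)) = (LP (LK LD1_c7 LD2_c37 LD3_c50)) :=
  Lgr Lrot83 (Lpe (f17355 IH) (Lpe (f17354 IH) (Lpe (f17353 IH) (Lpr_cf (f17345 IH) (Lpe (f17356 IH) (Lpn (LP (LK LD1_c7 LD2_c37 LD3_c50))))))))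
theorem f17365 : Led Lsl_ft (LP (LK LD1_c3 LD2_c36 LD3_c47)) = (LP (LK LD1_c7 LD2_c13 LD3_c48)) :=
  Lre_f IH (LK LD1_c3 LD2_c36 LD3_c47) (LK LD1_c7 LD2_c13 LD3_c48) Lrfl Lrfl
theorem f17366 : Led Lsl_ft (LP (LK LD1_c7 LD2_c37 LD3_c50)) = (LP (LK LD1_c3 LD2_c48 LD3_c23)) :=
  Lre_f IH (LK LD1_c7 LD2_c37 LD3_c50) (LK LD1_c3 LD2_c48 LD3_c23) Lrfl Lrfl
theorem f17367 : Led Lsl_cf (LP (LK LD1_c3 LD2_c36 LD3_c47)) = (LP (LK LD1_c3 LD2_c48 LD3_c23)) :=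
  Lgr Lrot108 (Lpr_ft (f17365 IH) (Lpr_ct (f17357 IH) (Lpr_ft (f17366 IH) (Lpn (LP (LK LD1_c3 LD2_c48 LD3_c23))))))
theorem f17385 : Led Lsl_et (LP (LK LD1_c3 LD2_c36 LD3_c47)) = (LP (LK LD1_c1 LD2_c45 LD3_c13)) :=
  Lre_e IH (LK LD1_c3 LD2_c36 LD3_c47) (LK LD1_c1 LD2_c45 LD3_c13) Lrfl Lrfl
theorem f17386 : Led Lsl_et (LP (LK LD1_c1 LD2_c51 LD3_c12)) = (LP (LK LD1_c3 LD2_c48 LD3_c23)) :=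
  Lre_e IH (LK LD1_c1 LD2_c51 LD3_c12) (LK LD1_c3 LD2_c48 LD3_c23) Lrfl Lrfl
theorem f17387 : Led Lsl_ct (LP (LK LD1_c1 LD2_c45 LD3_c13)) = (LP (LK LD1_c1 LD2_c51 LD3_c12)) :=
  Lgr Lrot15 (Lpe (f17385 IH) (Lpr_cf (f17367 IH) (Lpe (f17386 IH) (Lpn (LP (LK LD1_c1 LD2_c51 LD3_c12))))))
theorem f17317 : Led Lsl_gt (LP (LK LD1_c1 LD2_c51 LD3_c12)) = (LP (LK LD1_c3 LD2_c48 LD3_c20)) :=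
  Lre_g IH (LK LD1_c1 LD2_c51 LD3_c12) (LK LD1_c3 LD2_c48 LD3_c20) Lrfl Lrfl
theorem f96771 : Led Lsl_ct (LP (LK LD1_c7 LD2_c7 LD3_c49)) = (LP (LK LD1_c3 LD2_c48 LD3_c20)) :=
  Lgr Lrot10 (Lpr_bt (f96770 IH) (Lpr_gt (f96769 IH) (Lpr_ct (f6112 IH) (Lpe (f96767 IH) (Lpr_cf (f88510 IH) (Lpr_bt (f88484 IH) (Lpr_gt (f96765 IH) (Lpe (f17307 IH) (Lpr_ct (f17387 IH) (Lpr_gt (f17317 IH) (Lpn (LP (LK LD1_c3 LD2_c48 LD3_c20)))))))))))))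
theorem f96776 : Led Lsl_bt (LP (LK LD1_c3 LD2_c33 LD3_c27)) = (LP (LK LD1_c7 LD2_c7 LD3_c49)) :=
  Lre_b IH (LK LD1_c3 LD2_c33 LD3_c27) (LK LD1_c7 LD2_c7 LD3_c49) Lrfl Lrfl
theorem f15273 : Led Lsl_bt (LP (LK LD1_c0 LD2_c52 LD3_c19)) = (LP (LK LD1_c0 LD2_c23 LD3_c41)) :=
  Lre_b IH (LK LD1_c0 LD2_c52 LD3_c19) (LK LD1_c0 LD2_c23 LD3_c41) Lrfl Lrfl
theorem f15274 : Led Lsl_gt (LP (LK LD1_c1 LD2_c50 LD3_c52)) = (LP (LK LD1_c0 LD2_c52 LD3_c19)) :=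
  Lre_g IH (LK LD1_c1 LD2_c50 LD3_c52) (LK LD1_c0 LD2_c52 LD3_c19) Lrfl Lrfl
theorem f15275 : Led Lsl_ct (LP (LK LD1_c3 LD2_c47 LD3_c34)) = (LP (LK LD1_c1 LD2_c50 LD3_c52)) :=
  Lre_c IH (LK LD1_c3 LD2_c47 LD3_c34) (LK LD1_c1 LD2_c50 LD3_c52) Lrfl Lrfl
theorem f17308 : Led Lsl_bt (LP (LK LD1_c0 LD2_c52 LD3_c28)) = (LP (LK LD1_c1 LD2_c51 LD3_c12)) :=
  Lre_b IH (LK LD1_c0 LD2_c52 LD3_c28) (LK LD1_c1 LD2_c51 LD3_c12) Lrfl Lrfl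
theorem f95142 : Led Lsl_bt (LP (LK LD1_c3 LD2_c47 LD3_c34)) = (LP (LK LD1_c3 LD2_c48 LD3_c20)) :=
  Lgr Lrot92 (Lpr_ct (f15275 IH) (Lpr_gt (f15274 IH) (Lpe (K0.f14723 IH) (Lpr_bt (f15273 IH) (Lpr_gt (f11980 IH) (Lpe (f15081 IH) (Lpr_gt (f95138 IH) (Lpr_cf (K0.f17311 IH) (Lpr_bt (f17308 IH) (Lpr_gt (f17317 IH) (Lpn (LP (LK LD1_c3 LD2_c48 LD3_c20)))))))))))))
theorem f95144 : Led Lsl_bf (LP (LK LD1_c3 LD2_c47 LD3_c34)) = (LP (LK LD1_c3 LD2_c48 LD3_c20)) :=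
  Lgr Lrot24 (Lpr_bt (f95142 IH) (Lpn (LP (LK LD1_c3 LD2_c48 LD3_c20))))
theorem f15660 : Led Lsl_bt (LP (LK LD1_c1 LD2_c50 LD3_c52)) = (LP (LK LD1_c3 LD2_c47 LD3_c33)) :=
  Lre_b IH (LK LD1_c1 LD2_c50 LD3_c52) (LK LD1_c3 LD2_c47 LD3_c33) Lrfl Lrfl
theorem f96777 : Led Lsl_cf (LP (LK LD1_c3 LD2_c33 LD3_c27)) = (LP (LK LD1_c3 LD2_c47 LD3_c33)) :=
  Lgr Lrot97 (Lpr_bt (f96776 IH) (Lpr_ct (f96771 IH) (Lpe (f95144 IH) (Lpr_ct (f15275 IH) (Lpr_bt (f15660 IH) (Lpn (LP (LK LD1_c3 LD2_c47 LD3_c33))))))))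
theorem f10793 : Led Lsl_ct (LP (LK LD1_c3 LD2_c33 LD3_c29)) = (LP (LK LD1_c1 LD2_c43 LD3_c28)) :=
  Lre_c IH (LK LD1_c3 LD2_c33 LD3_c29) (LK LD1_c1 LD2_c43 LD3_c28) Lrfl Lrfl
theorem f17112 : Led Lsl_bt (LP (LK LD1_c3 LD2_c47 LD3_c33)) = (LP (LK LD1_c1 LD2_c50 LD3_c52)) :=
  Lre_b IH (LK LD1_c3 LD2_c47 LD3_c33) (LK LD1_c1 LD2_c50 LD3_c52) Lrfl Lrfl
theorem f14642 : Led Lsl_bt (LP (LK LD1_c0 LD2_c46 LD3_c27)) = (LP (LK LD1_c1 LD2_c39 LD3_c47)) :=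
  Lre_b IH (LK LD1_c0 LD2_c46 LD3_c27) (LK LD1_c1 LD2_c39 LD3_c47) Lrfl Lrfl
theorem f15058 : Led Lsl_ff (LP (LK LD1_c1 LD2_c50 LD3_c53)) = (LP (LK LD1_c1 LD2_c39 LD3_c47)) :=
  Lgr Lrot25 (Lpr_bt (K0.f14764 IH) (Lpr_ft (K0.f15055 IH) (Lpr_bt (f14642 IH) (Lpn (LP (LK LD1_c1 LD2_c39 LD3_c47))))))
theorem f14763 : Led Lsl_at (LP (LK LD1_c1 LD2_c50 LD3_c53)) = (LP (LK LD1_c0 LD2_c52 LD3_c19)) :=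
  Lre_a IH (LK LD1_c1 LD2_c50 LD3_c53) (LK LD1_c0 LD2_c52 LD3_c19) Lrfl Lrfl
theorem f17110 : Led Lsl_gf (LP (LK LD1_c1 LD2_c50 LD3_c52)) = (LP (LK LD1_c1 LD2_c39 LD3_c47)) :=
  Lgr Lrot47 (Lpr_gt (f15274 IH) (Lpe (f14763 IH) (Lpr_ff (f15058 IH) (Lpn (LP (LK LD1_c1 LD2_c39 LD3_c47))))))
theorem f12297 : Led Lsl_gt (LP (LK LD1_c1 LD2_c54 LD3_c26)) = (LP (LK LD1_c0 LD2_c53 LD3_c51)) :=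
  Lre_g IH (LK LD1_c1 LD2_c54 LD3_c26) (LK LD1_c0 LD2_c53 LD3_c51) Lrfl Lrfl
theorem f96822 : Led Lsl_bt (LP (LK LD1_c3 LD2_c33 LD3_c29)) = (LP (LK LD1_c1 LD2_c54 LD3_c26)) :=
  Lgr Lrot130 (Lpr_ct (f10793 IH) (Lpe (f96769 IH) (Lpr_cf (f96777 IH) (Lpr_bt (f17112 IH) (Lpr_gf (f17110 IH) (Lpe (f14642 IH) (Lpr_ct (K0.f14632 IH) (Lpr_gf (K0.f14630 IH) (Lpe (K1.f11851 IH) (Lpe (f12297 IH) (Lpn (LP (LK LD1_c1 LD2_c54 LD3_c26)))))))))))))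
theorem f96826 : Led Lsl_et (LP (LK LD1_c7 LD2_c7 LD3_c52)) = (LP (LK LD1_c3 LD2_c33 LD3_c29)) :=
  Lre_e IH (LK LD1_c7 LD2_c7 LD3_c52) (LK LD1_c3 LD2_c33 LD3_c29) Lrfl Lrfl
theorem f91872 : Led Lsl_et (LP (LK LD1_c1 LD2_c54 LD3_c26)) = (LP (LK LD1_c3 LD2_c55 LD3_c40)) :=
  Lre_e IH (LK LD1_c1 LD2_c54 LD3_c26) (LK LD1_c3 LD2_c55 LD3_c40) Lrfl Lrfl
theorem f96827 : Led Lsl_bf (LP (LK LD1_c7 LD2_c7 LD3_c52)) = (LP (LK LD1_c3 LD2_c55 LD3_c40)) :=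
  Lgr Lrot96 (Lpr_et (f96826 IH) (Lpr_bt (f96822 IH) (Lpr_et (f91872 IH) (Lpn (LP (LK LD1_c3 LD2_c55 LD3_c40))))))
theorem f97354 : Led Lsl_ct (LP (LK LD1_c3 LD2_c38 LD3_c5)) = (LP (LK LD1_c3 LD2_c55 LD3_c40)) :=
  Lgr Lrot83 (Lpe (f86834 IH) (Lpr_cf (f97329 IH) (Lpe (f96835 IH) (Lpe (f96834 IH) (Lpr_bf (f96827 IH) (Lpn (LP (LK LD1_c3 LD2_c55 LD3_c40))))))))
theorem f86838 : Led Lsl_et (LP (LK LD1_c1 LD2_c45 LD3_c60)) = (LP (LK LD1_c3 LD2_c38 LD3_c5)) :=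
  Lre_e IH (LK LD1_c1 LD2_c45 LD3_c60) (LK LD1_c3 LD2_c38 LD3_c5) Lrfl Lrfl
theorem f96855 : Led Lsl_et (LP (LK LD1_c3 LD2_c55 LD3_c40)) = (LP (LK LD1_c1 LD2_c54 LD3_c26)) :=
  Lre_e IH (LK LD1_c3 LD2_c55 LD3_c40) (LK LD1_c1 LD2_c54 LD3_c26) Lrfl Lrfl
theorem f97361 : Led Lsl_cf (LP (LK LD1_c1 LD2_c45 LD3_c60)) = (LP (LK LD1_c1 LD2_c54 LD3_c26)) :=
  Lgr Lrot39 (Lpr_et (f86838 IH) (Lpr_ct (f97354 IH) (Lpr_et (f96855 IH) (Lpn (LP (LK LD1_c1 LD2_c54 LD3_c26))))))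
theorem f96824 : Led Lsl_bf (LP (LK LD1_c3 LD2_c33 LD3_c29)) = (LP (LK LD1_c1 LD2_c54 LD3_c26)) :=
  Lgr Lrot24 (Lpr_bt (f96822 IH) (Lpn (LP (LK LD1_c1 LD2_c54 LD3_c26))))
theorem f97366 : Led Lsl_gf (LP (LK LD1_c1 LD2_c45 LD3_c60)) = (LP (LK LD1_c0 LD2_c52 LD3_c25)) :=
  Lgr Lrot129 (Lpr_cf (f97361 IH) (Lpe (f96824 IH) (Lpe (f96767 IH) (Lpe (f87919 IH) (Lpr_ct (K2.f63848 IH) (Lpr_gt (K2.f63847 IH) (Lpe (f11262 IH) (Lpe (f9881 IH) (Lpr_gt (K2.f11951 IH) (Lpr_ct (K2.f89846 IH) (Lpn (LP (LK LD1_c0 LD2_c52 LD3_c25)))))))))))))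
theorem f97319 : Led Lsl_bt (LP (LK LD1_c0 LD2_c49 LD3_c44)) = (LP (LK LD1_c1 LD2_c45 LD3_c60)) :=
  Lre_b IH (LK LD1_c0 LD2_c49 LD3_c44) (LK LD1_c1 LD2_c45 LD3_c60) Lrfl Lrfl
theorem f97320 : Led Lsl_ct (LP (LK LD1_c1 LD2_c45 LD3_c60)) = (LP (LK LD1_c1 LD2_c54 LD3_c26)) :=
  Lgr Lrot83 (Lpe (f97319 IH) (Lpr_cf (f97316 IH) (Lpe (f6111 IH) (Lpe (f10793 IH) (Lpr_bf (f96824 IH) (Lpn (LP (LK LD1_c1 LD2_c54 LD3_c26))))))))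
theorem f12197 : Led Lsl_bf (LP (LK LD1_c0 LD2_c52 LD3_c50)) = (LP (LK LD1_c0 LD2_c24 LD3_c12)) :=
  Lgr Lrot24 (Lpr_bt (K0.f12195 IH) (Lpn (LP (LK LD1_c0 LD2_c24 LD3_c12))))
theorem f89682 : Led Lsl_gf (LP (LK LD1_c0 LD2_c48 LD3_c20)) = (LP (LK LD1_c0 LD2_c52 LD3_c50)) :=
  Lgr Lrot147 (Lpr_ct (f6669 IH) (Lpr_gt (f89680 IH) (Lpr_ct (K2.f63848 IH) (Lpr_df (K2.f88462 IH) (Lpe (K2.f87565 IH) (Lpr_gf (K2.f87559 IH) (Lpe (K2.f10787 IH) (Lpr_gf (K2.f84709 IH) (Lpr_df (f62001 IH) (Lpn (LP (LK LD1_c0 LD2_c52 LD3_c50))))))))))))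
theorem f89728 : Led Lsl_bt (LP (LK LD1_c0 LD2_c21 LD3_c39)) = (LP (LK LD1_c0 LD2_c48 LD3_c20)) :=
  Lre_b IH (LK LD1_c0 LD2_c21 LD3_c39) (LK LD1_c0 LD2_c48 LD3_c20) Lrfl Lrfl
theorem f10461 : Led Lsl_ct (LP (LK LD1_c0 LD2_c21 LD3_c39)) = (LP (LK LD1_c0 LD2_c48 LD3_c21)) :=
  Lre_c IH (LK LD1_c0 LD2_c21 LD3_c39) (LK LD1_c0 LD2_c48 LD3_c21) Lrfl Lrfl
theorem f88624 : Led Lsl_bf (LP (LK LD1_c0 LD2_c52 LD3_c25)) = (LP (LK LD1_c1 LD2_c44 LD3_c39)) :=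
  Lgr Lrot81 (Lpr_at (K2.f17295 IH) (Lpr_bt (K0.f11519 IH) (Lpe (K2.f87660 IH) (Lpr_bt (K2.f87666 IH) (Lpr_at (K2.f88477 IH) (Lpn (LP (LK LD1_c1 LD2_c44 LD3_c39))))))))
theorem f97371 : Led Lsl_gt (LP (LK LD1_c0 LD2_c48 LD3_c21)) = (LP (LK LD1_c1 LD2_c43 LD3_c16)) :=
  Lgr Lrot65 (Lpe (f10461 IH) (Lpr_bt (f89728 IH) (Lpr_gf (f89682 IH) (Lpr_bf (f12197 IH) (Lpr_ct (K1.f11841 IH) (Lpe (f12297 IH) (Lpe (f97320 IH) (Lpr_gf (f97366 IH) (Lpr_bf (f88624 IH) (Lpr_ct (f96964 IH) (Lpn (LP (LK LD1_c1 LD2_c43 LD3_c16)))))))))))))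
theorem f6678 : Led Lsl_ct (LP (LK LD1_c0 LD2_c48 LD3_c21)) = (LP (LK LD1_c0 LD2_c21 LD3_c39)) :=
  Lre_c IH (LK LD1_c0 LD2_c48 LD3_c21) (LK LD1_c0 LD2_c21 LD3_c39) Lrfl Lrfl
theorem f92336 : Led Lsl_ct (LP (LK LD1_c0 LD2_c21 LD3_c31)) = (LP (LK LD1_c0 LD2_c48 LD3_c1)) :=
  Lre_c IH (LK LD1_c0 LD2_c21 LD3_c31) (LK LD1_c0 LD2_c48 LD3_c1) Lrfl Lrfl
theorem f92290 : Led Lsl_dt (LP (LK LD1_c1 LD2_c42 LD3_c52)) = (LP (LK LD1_c0 LD2_c48 LD3_c1)) :=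
  Lre_d IH (LK LD1_c1 LD2_c42 LD3_c52) (LK LD1_c0 LD2_c48 LD3_c1) Lrfl Lrfl
theorem f97373 : Led Lsl_gt (LP (LK LD1_c3 LD2_c32 LD3_c20)) = (LP (LK LD1_c1 LD2_c42 LD3_c52)) :=
  Lre_g IH (LK LD1_c3 LD2_c32 LD3_c20) (LK LD1_c1 LD2_c42 LD3_c52) Lrfl Lrfl
theorem f97374 : Led Lsl_df (LP (LK LD1_c3 LD2_c32 LD3_c20)) = (LP (LK LD1_c1 LD2_c43 LD3_c16)) :=
  Lgr Lrot153 (Lpr_gt (f97373 IH) (Lpr_dt (f92290 IH) (Lpe (f92336 IH) (Lpe (K2.f10271 IH) (Lpe (K2.f10015 IH) (Lpe (K0.f10225 IH) (Lpe (f6667 IH) (Lpe (f6678 IH) (Lpr_gt (f97371 IH) (Lpn (LP (LK LD1_c1 LD2_c43 LD3_c16))))))))))))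
theorem f97080 : Led Lsl_df (LP (LK LD1_c1 LD2_c45 LD3_c8)) = (LP (LK LD1_c3 LD2_c35 LD3_c46)) :=
  Lgr Lrot38 (Lpr_dt (f97030 IH) (Lpn (LP (LK LD1_c3 LD2_c35 LD3_c46))))
theorem f97396 : Led Lsl_ft (LP (LK LD1_c3 LD2_c32 LD3_c20)) = (LP (LK LD1_c3 LD2_c35 LD3_c46)) :=
  Lgr Lrot54 (Lpr_df (f97374 IH) (Lpe (f97006 IH) (Lpr_df (f97080 IH) (Lpn (LP (LK LD1_c3 LD2_c35 LD3_c46))))))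
theorem f97008 : Led Lsl_af (LP (LK LD1_c1 LD2_c45 LD3_c8)) = (LP (LK LD1_c0 LD2_c52 LD3_c37)) :=
  Lgr Lrot45 (Lpr_ft (f97006 IH) (Lpe (f96966 IH) (Lpe (f88502 IH) (Lpn (LP (LK LD1_c0 LD2_c52 LD3_c37))))))
theorem f97075 : Led Lsl_af (LP (LK LD1_c1 LD2_c51 LD3_c35)) = (LP (LK LD1_c3 LD2_c35 LD3_c46)) :=
  Lgr Lrot117 (Lpr_dt (f11557 IH) (Lpe (f97008 IH) (Lpr_dt (f97030 IH) (Lpn (LP (LK LD1_c3 LD2_c35 LD3_c46))))))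
theorem f97139 : Led Lsl_ft (LP (LK LD1_c1 LD2_c51 LD3_c35)) = (LP (LK LD1_c3 LD2_c35 LD3_c45)) :=
  Lgr Lrot54 (Lpe (f11533 IH) (Lpr_ff (f88502 IH) (Lpr_df (f97129 IH) (Lpn (LP (LK LD1_c3 LD2_c35 LD3_c45))))))
theorem f97399 : Led Lsl_af (LP (LK LD1_c3 LD2_c32 LD3_c20)) = (LP (LK LD1_c3 LD2_c35 LD3_c45)) :=
  Lgr Lrot45 (Lpr_ft (f97396 IH) (Lpe (f97075 IH) (Lpr_ft (f97139 IH) (Lpn (LP (LK LD1_c3 LD2_c35 LD3_c45))))))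
theorem f10777 : Led Lsl_dt (LP (LK LD1_c0 LD2_c9 LD3_c44)) = (LP (LK LD1_c0 LD2_c21 LD3_c35)) :=
  Lre_d IH (LK LD1_c0 LD2_c9 LD3_c44) (LK LD1_c0 LD2_c21 LD3_c35) Lrfl Lrfl
theorem f10780 : Led Lsl_ct (LP (LK LD1_c0 LD2_c48 LD3_c9)) = (LP (LK LD1_c0 LD2_c21 LD3_c35)) :=
  Lre_c IH (LK LD1_c0 LD2_c48 LD3_c9) (LK LD1_c0 LD2_c21 LD3_c35) Lrfl Lrfl
theorem f10779 : Led Lsl_dt (LP (LK LD1_c1 LD2_c43 LD3_c0)) = (LP (LK LD1_c0 LD2_c48 LD3_c9)) :=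
  Lre_d IH (LK LD1_c1 LD2_c43 LD3_c0) (LK LD1_c0 LD2_c48 LD3_c9) Lrfl Lrfl
theorem f11534 : Led Lsl_gt (LP (LK LD1_c1 LD2_c51 LD3_c35)) = (LP (LK LD1_c1 LD2_c43 LD3_c0)) :=
  Lgr Lrot49 (Lpe (f11533 IH) (Lpr_gf (K2.f11529 IH) (Lpe (K2.f6671 IH) (Lpr_gt (f10819 IH) (Lpr_dt (f10277 IH) (Lpe (K2.f10775 IH) (Lpr_dt (f10777 IH) (Lpe (f10780 IH) (Lpe (f10779 IH) (Lpn (LP (LK LD1_c1 LD2_c43 LD3_c0))))))))))))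
theorem f97414 : Led Lsl_gf (LP (LK LD1_c3 LD2_c32 LD3_c20)) = (LP (LK LD1_c1 LD2_c43 LD3_c0)) :=
  Lgr Lrot76 (Lpr_af (f97399 IH) (Lpe (f97139 IH) (Lpr_gt (f11534 IH) (Lpn (LP (LK LD1_c1 LD2_c43 LD3_c0))))))
theorem f97390 : Led Lsl_dt (LP (LK LD1_c3 LD2_c32 LD3_c20)) = (LP (LK LD1_c1 LD2_c43 LD3_c16)) :=
  Lgr Lrot42 (Lpr_df (f97374 IH) (Lpn (LP (LK LD1_c1 LD2_c43 LD3_c16))))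
theorem f89703 : Led Lsl_bt (LP (LK LD1_c0 LD2_c46 LD3_c35)) = (LP (LK LD1_c1 LD2_c40 LD3_c8)) :=
  Lre_b IH (LK LD1_c0 LD2_c46 LD3_c35) (LK LD1_c1 LD2_c40 LD3_c8) Lrfl Lrfl
theorem f96936 : Led Lsl_cf (LP (LK LD1_c1 LD2_c44 LD3_c39)) = (LP (LK LD1_c1 LD2_c43 LD3_c16)) :=
  Lgr Lrot97 (Lpe (f88624 IH) (Lpe (K2.f90056 IH) (Lpr_bt (f89703 IH) (Lpr_ct (f89687 IH) (Lpr_bt (f96932 IH) (Lpn (LP (LK LD1_c1 LD2_c43 LD3_c16))))))))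
theorem f11470 : Led Lsl_ct (LP (LK LD1_c0 LD2_c47 LD3_c19)) = (LP (LK LD1_c1 LD2_c41 LD3_c30)) :=
  Lre_c IH (LK LD1_c0 LD2_c47 LD3_c19) (LK LD1_c1 LD2_c41 LD3_c30) Lrfl Lrfl
theorem f11548 : Led Lsl_dt (LP (LK LD1_c0 LD2_c48 LD3_c9)) = (LP (LK LD1_c1 LD2_c43 LD3_c0)) :=
  Lre_d IH (LK LD1_c0 LD2_c48 LD3_c9) (LK LD1_c1 LD2_c43 LD3_c0) Lrfl Lrfl
theorem f97456 : Led Lsl_gt (LP (LK LD1_c1 LD2_c41 LD3_c30)) = (LP (LK LD1_c0 LD2_c48 LD3_c9)) :=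
  Lgr Lrot94 (Lpe (f11470 IH) (Lpr_gt (K2.f89658 IH) (Lpr_dt (K1.f17643 IH) (Lpr_gt (K2.f10297 IH) (Lpr_dt (K2.f10298 IH) (Lpr_cf (f96936 IH) (Lpe (f97390 IH) (Lpr_gf (f97414 IH) (Lpe (f11548 IH) (Lpn (LP (LK LD1_c0 LD2_c48 LD3_c9))))))))))))
theorem f97465 : Led Lsl_bt (LP (LK LD1_c3 LD2_c29 LD3_c31)) = (LP (LK LD1_c1 LD2_c41 LD3_c30)) :=
  Lre_b IH (LK LD1_c3 LD2_c29 LD3_c31) (LK LD1_c1 LD2_c41 LD3_c30) Lrfl Lrfl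
theorem f64640 : Led Lsl_ct (LP (LK LD1_c3 LD2_c29 LD3_c31)) = (LP (LK LD1_c1 LD2_c41 LD3_c32)) :=
  Lre_c IH (LK LD1_c3 LD2_c29 LD3_c31) (LK LD1_c1 LD2_c41 LD3_c32) Lrfl Lrfl
theorem f95330 : Led Lsl_gt (LP (LK LD1_c3 LD2_c29 LD3_c38)) = (LP (LK LD1_c1 LD2_c41 LD3_c32)) :=
  Lre_g IH (LK LD1_c3 LD2_c29 LD3_c38) (LK LD1_c1 LD2_c41 LD3_c32) Lrfl Lrfl
theorem f3924 : Led Lsl_bf (LP (LK LD1_c0 LD2_c22 LD3_c25)) = (LP (LK LD1_c0 LD2_c22 LD3_c35)) :=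
  Lgr Lrot90 (Lpr_ct (K2.f379 IH) (Lpr_bt (K0.f3921 IH) (Lpr_ct (K0.f3919 IH) (Lpr_bt (K0.f3922 IH) (Lpr_ct (K2.f3923 IH) (Lpn (LP (LK LD1_c0 LD2_c22 LD3_c35))))))))
theorem f5815 : Led Lsl_bt (LP (LK LD1_c1 LD2_c46 LD3_c11)) = (LP (LK LD1_c0 LD2_c49 LD3_c51)) :=
  Lre_b IH (LK LD1_c1 LD2_c46 LD3_c11) (LK LD1_c0 LD2_c49 LD3_c51) Lrfl Lrfl
theorem f97467 : Led Lsl_cf (LP (LK LD1_c3 LD2_c29 LD3_c38)) = (LP (LK LD1_c1 LD2_c46 LD3_c11)) :=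
  Lgr Lrot160 (Lpr_gt (f95330 IH) (Lpe (f64640 IH) (Lpr_bt (f97465 IH) (Lpr_gt (f97456 IH) (Lpr_ct (f10780 IH) (Lpe (K2.f92338 IH) (Lpe (K0.f4956 IH) (Lpe (f3924 IH) (Lpr_gt (K1.f5812 IH) (Lpe (f5815 IH) (Lpn (LP (LK LD1_c1 LD2_c46 LD3_c11)))))))))))))
theorem f97504 : Led Lsl_et (LP (LK LD1_c3 LD2_c29 LD3_c38)) = (LP (LK LD1_c7 LD2_c0 LD3_c51)) :=
  Lre_e IH (LK LD1_c3 LD2_c29 LD3_c38) (LK LD1_c7 LD2_c0 LD3_c51) Lrfl Lrfl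
theorem f97505 : Led Lsl_et (LP (LK LD1_c3 LD2_c38 LD3_c26)) = (LP (LK LD1_c1 LD2_c46 LD3_c11)) :=
  Lre_e IH (LK LD1_c3 LD2_c38 LD3_c26) (LK LD1_c1 LD2_c46 LD3_c11) Lrfl Lrfl
theorem f97506 : Led Lsl_ct (LP (LK LD1_c7 LD2_c0 LD3_c51)) = (LP (LK LD1_c3 LD2_c38 LD3_c26)) :=
  Lgr Lrot15 (Lpe (f97504 IH) (Lpr_cf (f97467 IH) (Lpe (f97505 IH) (Lpn (LP (LK LD1_c3 LD2_c38 LD3_c26))))))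
theorem f97512 : Led Lsl_cf (LP (LK LD1_c7 LD2_c0 LD3_c51)) = (LP (LK LD1_c3 LD2_c38 LD3_c26)) :=
  Lgr Lrot11 (Lpr_ct (f97506 IH) (Lpn (LP (LK LD1_c3 LD2_c38 LD3_c26))))
theorem f18028 : Led Lsl_bt (LP (LK LD1_c1 LD2_c46 LD3_c12)) = (LP (LK LD1_c3 LD2_c38 LD3_c26)) :=
  Lre_b IH (LK LD1_c1 LD2_c46 LD3_c12) (LK LD1_c3 LD2_c38 LD3_c26) Lrfl Lrfl
theorem f17675 : Led Lsl_et (LP (LK LD1_c0 LD2_c49 LD3_c0)) = (LP (LK LD1_c1 LD2_c44 LD3_c41)) :=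
  Lre_e IH (LK LD1_c0 LD2_c49 LD3_c0) (LK LD1_c1 LD2_c44 LD3_c41) Lrfl Lrfl
theorem f5816 : Led Lsl_et (LP (LK LD1_c1 LD2_c46 LD3_c12)) = (LP (LK LD1_c0 LD2_c49 LD3_c51)) :=
  Lre_e IH (LK LD1_c1 LD2_c46 LD3_c12) (LK LD1_c0 LD2_c49 LD3_c51) Lrfl Lrfl
theorem f18021 : Led Lsl_ct (LP (LK LD1_c1 LD2_c44 LD3_c41)) = (LP (LK LD1_c1 LD2_c46 LD3_c12)) :=
  Lgr Lrot15 (Lpe (f17675 IH) (Lpr_cf (K1.f17962 IH) (Lpe (f5816 IH) (Lpn (LP (LK LD1_c1 LD2_c46 LD3_c12))))))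
theorem f17674 : Led Lsl_et (LP (LK LD1_c3 LD2_c28 LD3_c24)) = (LP (LK LD1_c1 LD2_c40 LD3_c51)) :=
  Lre_e IH (LK LD1_c3 LD2_c28 LD3_c24) (LK LD1_c1 LD2_c40 LD3_c51) Lrfl Lrfl
theorem f17676 : Led Lsl_bf (LP (LK LD1_c3 LD2_c28 LD3_c24)) = (LP (LK LD1_c1 LD2_c44 LD3_c41)) :=
  Lgr Lrot96 (Lpr_et (f17674 IH) (Lpr_bt (K1.f17670 IH) (Lpr_et (f17675 IH) (Lpn (LP (LK LD1_c1 LD2_c44 LD3_c41))))))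
theorem f17678 : Led Lsl_bt (LP (LK LD1_c3 LD2_c28 LD3_c24)) = (LP (LK LD1_c1 LD2_c44 LD3_c41)) :=
  Lgr Lrot127 (Lpr_bf (f17676 IH) (Lpn (LP (LK LD1_c1 LD2_c44 LD3_c41))))
theorem f17689 : Led Lsl_et (LP (LK LD1_c1 LD2_c40 LD3_c51)) = (LP (LK LD1_c3 LD2_c28 LD3_c24)) :=
  Lre_e IH (LK LD1_c1 LD2_c40 LD3_c51) (LK LD1_c3 LD2_c28 LD3_c24) Lrfl Lrfl
theorem f91136 : Led Lsl_et (LP (LK LD1_c6 LD2_c51 LD3_c40)) = (LP (LK LD1_c3 LD2_c24 LD3_c33)) :=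
  Lre_e IH (LK LD1_c6 LD2_c51 LD3_c40) (LK LD1_c3 LD2_c24 LD3_c33) Lrfl Lrfl
theorem f91226 : Led Lsl_ct (LP (LK LD1_c3 LD2_c28 LD3_c24)) = (LP (LK LD1_c6 LD2_c51 LD3_c40)) :=
  Lgr Lrot15 (Lpe (f17689 IH) (Lpr_cf (K2.f91220 IH) (Lpe (f91136 IH) (Lpn (LP (LK LD1_c6 LD2_c51 LD3_c40))))))
theorem f91228 : Led Lsl_cf (LP (LK LD1_c3 LD2_c28 LD3_c24)) = (LP (LK LD1_c6 LD2_c51 LD3_c40)) :=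
  Lgr Lrot11 (Lpr_ct (f91226 IH) (Lpn (LP (LK LD1_c6 LD2_c51 LD3_c40))))
theorem f97533 : Led Lsl_bt (LP (LK LD1_c7 LD2_c0 LD3_c51)) = (LP (LK LD1_c6 LD2_c51 LD3_c40)) :=
  Lgr Lrot128 (Lpr_cf (f97512 IH) (Lpe (f18028 IH) (Lpe (f18021 IH) (Lpe (f17678 IH) (Lpr_cf (f91228 IH) (Lpn (LP (LK LD1_c6 LD2_c51 LD3_c40))))))))
theorem f97543 : Led Lsl_bf (LP (LK LD1_c3 LD2_c29 LD3_c38)) = (LP (LK LD1_c3 LD2_c24 LD3_c33)) :=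
  Lgr Lrot96 (Lpr_et (f97504 IH) (Lpr_bt (f97533 IH) (Lpr_et (f91136 IH) (Lpn (LP (LK LD1_c3 LD2_c24 LD3_c33))))))
theorem f95329 : Led Lsl_bt (LP (LK LD1_c0 LD2_c47 LD3_c20)) = (LP (LK LD1_c1 LD2_c41 LD3_c32)) :=
  Lre_b IH (LK LD1_c0 LD2_c47 LD3_c20) (LK LD1_c1 LD2_c41 LD3_c32) Lrfl Lrfl
theorem f11450 : Led Lsl_bt (LP (LK LD1_c0 LD2_c21 LD3_c12)) = (LP (LK LD1_c0 LD2_c47 LD3_c24)) :=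
  Lre_b IH (LK LD1_c0 LD2_c21 LD3_c12) (LK LD1_c0 LD2_c47 LD3_c24) Lrfl Lrfl
theorem f97545 : Led Lsl_gt (LP (LK LD1_c0 LD2_c51 LD3_c33)) = (LP (LK LD1_c1 LD2_c40 LD3_c51)) :=
  Lgr Lrot149 (Lpe (K2.f95320 IH) (Lpe (K2.f11437 IH) (Lpe (f11450 IH) (Lpr_ct (f11310 IH) (Lpe (K2.f11468 IH) (Lpe (K2.f64296 IH) (Lpr_bt (f95329 IH) (Lpe (f95330 IH) (Lpr_bf (f97543 IH) (Lpe (K2.f91220 IH) (Lpn (LP (LK LD1_c1 LD2_c40 LD3_c51)))))))))))))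
theorem f95324 : Led Lsl_cf (LP (LK LD1_c1 LD2_c41 LD3_c43)) = (LP (LK LD1_c0 LD2_c51 LD3_c33)) :=
  Lgr Lrot11 (Lpr_ct (K2.f95320 IH) (Lpn (LP (LK LD1_c0 LD2_c51 LD3_c33))))
theorem f11837 : Led Lsl_dt (LP (LK LD1_c1 LD2_c51 LD3_c7)) = (LP (LK LD1_c0 LD2_c52 LD3_c26)) :=
  Lre_d IH (LK LD1_c1 LD2_c51 LD3_c7) (LK LD1_c0 LD2_c52 LD3_c26) Lrfl Lrfl
theorem f97549 : Led Lsl_gt (LP (LK LD1_c3 LD2_c24 LD3_c28)) = (LP (LK LD1_c1 LD2_c51 LD3_c7)) :=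
  Lgr Lrot49 (Lpe (K2.f19040 IH) (Lpe (K2.f19152 IH) (Lpr_cf (f95324 IH) (Lpr_gt (f97545 IH) (Lpr_dt (K1.f17659 IH) (Lpr_gt (K1.f17649 IH) (Lpr_dt (K2.f62665 IH) (Lpe (K2.f11839 IH) (Lpe (f11837 IH) (Lpn (LP (LK LD1_c1 LD2_c51 LD3_c7))))))))))))
theorem f90952 : Led Lsl_ft (LP (LK LD1_c3 LD2_c24 LD3_c28)) = (LP (LK LD1_c3 LD2_c27 LD3_c5)) :=
  Lgr Lrot48 (Lpr_ff (K2.f90943 IH) (Lpn (LP (LK LD1_c3 LD2_c27 LD3_c5))))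
theorem f90936 : Led Lsl_af (LP (LK LD1_c1 LD2_c41 LD3_c45)) = (LP (LK LD1_c3 LD2_c27 LD3_c5)) :=
  Lgr Lrot117 (Lpr_dt (K1.f11453 IH) (Lpr_at (K2.f18083 IH) (Lpr_dt (K2.f90934 IH) (Lpn (LP (LK LD1_c3 LD2_c27 LD3_c5))))))
theorem f97554 : Led Lsl_gf (LP (LK LD1_c1 LD2_c41 LD3_c45)) = (LP (LK LD1_c1 LD2_c51 LD3_c7)) :=
  Lgr Lrot76 (Lpr_af (f90936 IH) (Lpe (f90952 IH) (Lpr_gt (f97549 IH) (Lpn (LP (LK LD1_c1 LD2_c51 LD3_c7))))))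
theorem f11845 : Led Lsl_dt (LP (LK LD1_c0 LD2_c52 LD3_c26)) = (LP (LK LD1_c1 LD2_c51 LD3_c7)) :=
  Lre_d IH (LK LD1_c0 LD2_c52 LD3_c26) (LK LD1_c1 LD2_c51 LD3_c7) Lrfl Lrfl
theorem f11844 : Led Lsl_dt (LP (LK LD1_c1 LD2_c54 LD3_c27)) = (LP (LK LD1_c0 LD2_c53 LD3_c51)) :=
  Lre_d IH (LK LD1_c1 LD2_c54 LD3_c27) (LK LD1_c0 LD2_c53 LD3_c51) Lrfl Lrfl
theorem f11843 : Led Lsl_ct (LP (LK LD1_c3 LD2_c55 LD3_c41)) = (LP (LK LD1_c1 LD2_c54 LD3_c27)) :=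
  Lre_c IH (LK LD1_c3 LD2_c55 LD3_c41) (LK LD1_c1 LD2_c54 LD3_c27) Lrfl Lrfl
theorem f97578 : Led Lsl_gt (LP (LK LD1_c3 LD2_c30 LD3_c6)) = (LP (LK LD1_c3 LD2_c55 LD3_c41)) :=
  Lgr Lrot150 (Lpe (K2.f11442 IH) (Lpr_gf (f97554 IH) (Lpe (f11845 IH) (Lpe (K0.f11521 IH) (Lpr_ct (K0.f11515 IH) (Lpr_gt (K0.f11840 IH) (Lpr_ct (K1.f11841 IH) (Lpe (f11844 IH) (Lpe (f11843 IH) (Lpn (LP (LK LD1_c3 LD2_c55 LD3_c41))))))))))))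
theorem f97662 : Led Lsl_gf (LP (LK LD1_c3 LD2_c12 LD3_c48)) = (LP (LK LD1_c3 LD2_c55 LD3_c41)) :=
  Lgr Lrot76 (Lpr_af (K2.f66668 IH) (Lpe (K2.f18253 IH) (Lpr_gt (f97578 IH) (Lpn (LP (LK LD1_c3 LD2_c55 LD3_c41))))))
theorem f66667 : Led Lsl_dt (LP (LK LD1_c3 LD2_c12 LD3_c48)) = (LP (LK LD1_c1 LD2_c32 LD3_c52)) :=
  Lre_d IH (LK LD1_c3 LD2_c12 LD3_c48) (LK LD1_c1 LD2_c32 LD3_c52) Lrfl Lrfl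
theorem f90235 : Led Lsl_dt (LP (LK LD1_c1 LD2_c37 LD3_c57)) = (LP (LK LD1_c0 LD2_c46 LD3_c58)) :=
  Lgr Lrot42 (Lpr_df (K2.f90230 IH) (Lpn (LP (LK LD1_c0 LD2_c46 LD3_c58))))
theorem f23355 : Led Lsl_gt (LP (LK LD1_c0 LD2_c45 LD3_c26)) = (LP (LK LD1_c1 LD2_c37 LD3_c57)) :=
  Lre_g IH (LK LD1_c0 LD2_c45 LD3_c26) (LK LD1_c1 LD2_c37 LD3_c57) Lrfl Lrfl
theorem f97665 : Led Lsl_dt (LP (LK LD1_c2 LD2_c20 LD3_c51)) = (LP (LK LD1_c3 LD2_c55 LD3_c41)) :=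
  Lgr Lrot57 (Lpr_gf (f78162 IH) (Lpe (K0.f15040 IH) (Lpr_gt (f23355 IH) (Lpr_dt (f90235 IH) (Lpe (K1.f17653 IH) (Lpe (K1.f66642 IH) (Lpe (K2.f59445 IH) (Lpe (f66667 IH) (Lpr_gf (f97662 IH) (Lpn (LP (LK LD1_c3 LD2_c55 LD3_c41))))))))))))
theorem f97701 : Led Lsl_df (LP (LK LD1_c2 LD2_c20 LD3_c51)) = (LP (LK LD1_c3 LD2_c55 LD3_c41)) :=
  Lgr Lrot38 (Lpr_dt (f97665 IH) (Lpn (LP (LK LD1_c3 LD2_c55 LD3_c41))))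
theorem f14999 : Led Lsl_ft (LP (LK LD1_c1 LD2_c37 LD3_c59)) = (LP (LK LD1_c3 LD2_c22 LD3_c52)) :=
  Lre_f IH (LK LD1_c1 LD2_c37 LD3_c59) (LK LD1_c3 LD2_c22 LD3_c52) Lrfl Lrfl
theorem f15044 : Led Lsl_at (LP (LK LD1_c3 LD2_c22 LD3_c52)) = (LP (LK LD1_c1 LD2_c38 LD3_c10)) :=
  Lre_a IH (LK LD1_c3 LD2_c22 LD3_c52) (LK LD1_c1 LD2_c38 LD3_c10) Lrfl Lrfl
theorem f78192 : Led Lsl_gt (LP (LK LD1_c2 LD2_c20 LD3_c51)) = (LP (LK LD1_c1 LD2_c38 LD3_c10)) :=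
  Lgr Lrot46 (Lpr_gf (f78162 IH) (Lpr_ft (f14999 IH) (Lpr_at (f15044 IH) (Lpn (LP (LK LD1_c1 LD2_c38 LD3_c10))))))
theorem f14635 : Led Lsl_dt (LP (LK LD1_c1 LD2_c38 LD3_c10)) = (LP (LK LD1_c3 LD2_c23 LD3_c42)) :=
  Lre_d IH (LK LD1_c1 LD2_c38 LD3_c10) (LK LD1_c3 LD2_c23 LD3_c42) Lrfl Lrfl
theorem f14634 : Led Lsl_ct (LP (LK LD1_c3 LD2_c23 LD3_c42)) = (LP (LK LD1_c1 LD2_c39 LD3_c48)) :=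
  Lre_c IH (LK LD1_c3 LD2_c23 LD3_c42) (LK LD1_c1 LD2_c39 LD3_c48) Lrfl Lrfl
theorem f15858 : Led Lsl_dt (LP (LK LD1_c0 LD2_c20 LD3_c25)) = (LP (LK LD1_c0 LD2_c45 LD3_c45)) :=
  Lre_d IH (LK LD1_c0 LD2_c20 LD3_c25) (LK LD1_c0 LD2_c45 LD3_c45) Lrfl Lrfl
theorem f11833 : Led Lsl_gt (LP (LK LD1_c0 LD2_c23 LD3_c51)) = (LP (LK LD1_c0 LD2_c52 LD3_c53)) :=
  Lre_g IH (LK LD1_c0 LD2_c23 LD3_c51) (LK LD1_c0 LD2_c52 LD3_c53) Lrfl Lrfl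
theorem f64384 : Led Lsl_dt (LP (LK LD1_c0 LD2_c52 LD3_c53)) = (LP (LK LD1_c1 LD2_c52 LD3_c17)) :=
  Lre_d IH (LK LD1_c0 LD2_c52 LD3_c53) (LK LD1_c1 LD2_c52 LD3_c17) Lrfl Lrfl
theorem f64385 : Led Lsl_gf (LP (LK LD1_c3 LD2_c24 LD3_c28)) = (LP (LK LD1_c1 LD2_c52 LD3_c17)) :=
  Lgr Lrot143 (Lpr_dt (K1.f15859 IH) (Lpe (K2.f15851 IH) (Lpe (f15858 IH) (Lpe (K2.f18160 IH) (Lpr_df (K2.f64363 IH) (Lpe (K0.f11840 IH) (Lpe (K0.f11515 IH) (Lpr_gt (f11833 IH) (Lpr_dt (f64384 IH) (Lpn (LP (LK LD1_c1 LD2_c52 LD3_c17))))))))))))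
theorem f64390 : Led Lsl_gt (LP (LK LD1_c1 LD2_c41 LD3_c45)) = (LP (LK LD1_c1 LD2_c52 LD3_c17)) :=
  Lgr Lrot5 (Lpr_ft (K1.f18226 IH) (Lpr_at (K1.f18236 IH) (Lpr_gf (f64385 IH) (Lpn (LP (LK LD1_c1 LD2_c52 LD3_c17))))))
theorem f64392 : Led Lsl_dt (LP (LK LD1_c1 LD2_c52 LD3_c17)) = (LP (LK LD1_c0 LD2_c52 LD3_c53)) :=
  Lre_d IH (LK LD1_c1 LD2_c52 LD3_c17) (LK LD1_c0 LD2_c52 LD3_c53) Lrfl Lrfl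
theorem f97709 : Led Lsl_gf (LP (LK LD1_c0 LD2_c46 LD3_c27)) = (LP (LK LD1_c0 LD2_c52 LD3_c53)) :=
  Lgr Lrot143 (Lpr_dt (K0.f14639 IH) (Lpe (f14634 IH) (Lpe (f14635 IH) (Lpe (f78192 IH) (Lpr_df (f97701 IH) (Lpe (f97578 IH) (Lpe (K2.f11442 IH) (Lpr_gt (f64390 IH) (Lpr_dt (f64392 IH) (Lpn (LP (LK LD1_c0 LD2_c52 LD3_c53))))))))))))
theorem f89843 : Led Lsl_at (LP (LK LD1_c0 LD2_c46 LD3_c35)) = (LP (LK LD1_c0 LD2_c52 LD3_c26)) :=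
  Lgr Lrot100 (Lpr_af (K2.f89841 IH) (Lpn (LP (LK LD1_c0 LD2_c52 LD3_c26))))
theorem f97712 : Led Lsl_ff (LP (LK LD1_c0 LD2_c46 LD3_c35)) = (LP (LK LD1_c0 LD2_c52 LD3_c53)) :=
  Lgr Lrot52 (Lpr_at (f89843 IH) (Lpe (K0.f14643 IH) (Lpr_gf (f97709 IH) (Lpn (LP (LK LD1_c0 LD2_c52 LD3_c53))))))
theorem f97735 : Led Lsl_ft (LP (LK LD1_c0 LD2_c46 LD3_c35)) = (LP (LK LD1_c0 LD2_c52 LD3_c53)) :=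
  Lgr Lrot48 (Lpr_ff (f97712 IH) (Lpn (LP (LK LD1_c0 LD2_c52 LD3_c53))))
theorem f97739 : Led Lsl_bt (LP (LK LD1_c0 LD2_c52 LD3_c53)) = (LP (LK LD1_c1 LD2_c52 LD3_c16)) :=
  Lre_b IH (LK LD1_c0 LD2_c52 LD3_c53) (LK LD1_c1 LD2_c52 LD3_c16) Lrfl Lrfl
theorem f97740 : Led Lsl_ff (LP (LK LD1_c1 LD2_c40 LD3_c8)) = (LP (LK LD1_c1 LD2_c52 LD3_c16)) :=
  Lgr Lrot25 (Lpr_bt (f89686 IH) (Lpr_ft (f97735 IH) (Lpr_bt (f97739 IH) (Lpn (LP (LK LD1_c1 LD2_c52 LD3_c16))))))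
theorem f89714 : Led Lsl_dt (LP (LK LD1_c1 LD2_c40 LD3_c8)) = (LP (LK LD1_c3 LD2_c27 LD3_c3)) :=
  Lre_d IH (LK LD1_c1 LD2_c40 LD3_c8) (LK LD1_c3 LD2_c27 LD3_c3) Lrfl Lrfl
theorem f97747 : Led Lsl_dt (LP (LK LD1_c3 LD2_c50 LD3_c49)) = (LP (LK LD1_c1 LD2_c52 LD3_c16)) :=
  Lre_d IH (LK LD1_c3 LD2_c50 LD3_c49) (LK LD1_c1 LD2_c52 LD3_c16) Lrfl Lrfl
theorem f97748 : Led Lsl_ft (LP (LK LD1_c3 LD2_c27 LD3_c3)) = (LP (LK LD1_c3 LD2_c50 LD3_c49)) :=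
  Lgr Lrot54 (Lpe (f89714 IH) (Lpr_ff (f97740 IH) (Lpe (f97747 IH) (Lpn (LP (LK LD1_c3 LD2_c50 LD3_c49))))))
theorem f97762 : Led Lsl_ff (LP (LK LD1_c3 LD2_c27 LD3_c3)) = (LP (LK LD1_c3 LD2_c50 LD3_c49)) :=
  Lgr Lrot3 (Lpr_ft (f97748 IH) (Lpn (LP (LK LD1_c3 LD2_c50 LD3_c49))))
theorem f97767 : Led Lsl_et (LP (LK LD1_c3 LD2_c27 LD3_c3)) = (LP (LK LD1_c6 LD2_c56 LD3_c0)) :=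
  Lre_e IH (LK LD1_c3 LD2_c27 LD3_c3) (LK LD1_c6 LD2_c56 LD3_c0) Lrfl Lrfl
theorem f97768 : Led Lsl_ft (LP (LK LD1_c6 LD2_c56 LD3_c0)) = (LP (LK LD1_c13 LD2_c10 LD3_c2)) :=
  Lre_f IH (LK LD1_c6 LD2_c56 LD3_c0) (LK LD1_c13 LD2_c10 LD3_c2) Lrfl Lrfl
theorem f97769 : Led Lsl_et (LP (LK LD1_c7 LD2_c42 LD3_c44)) = (LP (LK LD1_c3 LD2_c50 LD3_c49)) :=
  Lre_e IH (LK LD1_c7 LD2_c42 LD3_c44) (LK LD1_c3 LD2_c50 LD3_c49) Lrfl Lrfl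
theorem f97770 : Led Lsl_ft (LP (LK LD1_c14 LD2_c32 LD3_c18)) = (LP (LK LD1_c7 LD2_c42 LD3_c44)) :=
  Lre_f IH (LK LD1_c14 LD2_c32 LD3_c18) (LK LD1_c7 LD2_c42 LD3_c44) Lrfl Lrfl
theorem f97771 : Led Lsl_et (LP (LK LD1_c13 LD2_c10 LD3_c2)) = (LP (LK LD1_c14 LD2_c32 LD3_c18)) :=
  Lgr Lrot69 (Lpe (f97768 IH) (Lpe (f97767 IH) (Lpr_ff (f97762 IH) (Lpe (f97769 IH) (Lpe (f97770 IH) (Lpn (LP (LK LD1_c14 LD2_c32 LD3_c18))))))))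
theorem f89948 : Led Lsl_bt (LP (LK LD1_c6 LD2_c56 LD3_c9)) = (LP (LK LD1_c13 LD2_c10 LD3_c2)) :=
  Lre_b IH (LK LD1_c6 LD2_c56 LD3_c9) (LK LD1_c13 LD2_c10 LD3_c2) Lrfl Lrfl
theorem f97773 : Led Lsl_bt (LP (LK LD1_c14 LD2_c32 LD3_c18)) = (LP (LK LD1_c7 LD2_c42 LD3_c50)) :=
  Lre_b IH (LK LD1_c14 LD2_c32 LD3_c18) (LK LD1_c7 LD2_c42 LD3_c50) Lrfl Lrfl
theorem f97774 : Led Lsl_ef (LP (LK LD1_c6 LD2_c56 LD3_c9)) = (LP (LK LD1_c7 LD2_c42 LD3_c50)) :=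
  Lgr Lrot29 (Lpr_bt (f89948 IH) (Lpr_et (f97771 IH) (Lpr_bt (f97773 IH) (Lpn (LP (LK LD1_c7 LD2_c42 LD3_c50))))))
theorem f97794 : Led Lsl_et (LP (LK LD1_c6 LD2_c56 LD3_c9)) = (LP (LK LD1_c7 LD2_c42 LD3_c50)) :=
  Lgr Lrot87 (Lpr_ef (f97774 IH) (Lpn (LP (LK LD1_c7 LD2_c42 LD3_c50))))
theorem f89862 : Led Lsl_dt (LP (LK LD1_c3 LD2_c27 LD3_c7)) = (LP (LK LD1_c1 LD2_c40 LD3_c10)) :=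
  Lre_d IH (LK LD1_c3 LD2_c27 LD3_c7) (LK LD1_c1 LD2_c40 LD3_c10) Lrfl Lrfl
theorem f11859 : Led Lsl_dt (LP (LK LD1_c1 LD2_c51 LD3_c8)) = (LP (LK LD1_c3 LD2_c48 LD3_c15)) :=
  Lre_d IH (LK LD1_c1 LD2_c51 LD3_c8) (LK LD1_c3 LD2_c48 LD3_c15) Lrfl Lrfl
theorem f89863 : Led Lsl_af (LP (LK LD1_c3 LD2_c27 LD3_c7)) = (LP (LK LD1_c3 LD2_c48 LD3_c15)) :=
  Lgr Lrot117 (Lpr_dt (f89862 IH) (Lpr_at (K2.f89852 IH) (Lpr_dt (f11859 IH) (Lpn (LP (LK LD1_c3 LD2_c48 LD3_c15))))))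
theorem f89878 : Led Lsl_et (LP (LK LD1_c3 LD2_c27 LD3_c7)) = (LP (LK LD1_c6 LD2_c56 LD3_c8)) :=
  Lre_e IH (LK LD1_c3 LD2_c27 LD3_c7) (LK LD1_c6 LD2_c56 LD3_c8) Lrfl Lrfl
theorem f89879 : Led Lsl_et (LP (LK LD1_c7 LD2_c37 LD3_c31)) = (LP (LK LD1_c3 LD2_c48 LD3_c15)) :=
  Lre_e IH (LK LD1_c7 LD2_c37 LD3_c31) (LK LD1_c3 LD2_c48 LD3_c15) Lrfl Lrfl
theorem f89880 : Led Lsl_at (LP (LK LD1_c6 LD2_c56 LD3_c8)) = (LP (LK LD1_c7 LD2_c37 LD3_c31)) :=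
  Lgr Lrot80 (Lpe (f89878 IH) (Lpr_af (f89863 IH) (Lpe (f89879 IH) (Lpn (LP (LK LD1_c7 LD2_c37 LD3_c31))))))
theorem f89895 : Led Lsl_ft (LP (LK LD1_c13 LD2_c10 LD3_c20)) = (LP (LK LD1_c6 LD2_c56 LD3_c8)) :=
  Lre_f IH (LK LD1_c13 LD2_c10 LD3_c20) (LK LD1_c6 LD2_c56 LD3_c8) Lrfl Lrfl
theorem f89896 : Led Lsl_ft (LP (LK LD1_c7 LD2_c37 LD3_c31)) = (LP (LK LD1_c14 LD2_c22 LD3_c33)) :=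
  Lre_f IH (LK LD1_c7 LD2_c37 LD3_c31) (LK LD1_c14 LD2_c22 LD3_c33) Lrfl Lrfl
theorem f89897 : Led Lsl_af (LP (LK LD1_c13 LD2_c10 LD3_c20)) = (LP (LK LD1_c14 LD2_c22 LD3_c33)) :=
  Lgr Lrot45 (Lpr_ft (f89895 IH) (Lpr_at (f89880 IH) (Lpr_ft (f89896 IH) (Lpn (LP (LK LD1_c14 LD2_c22 LD3_c33))))))
theorem f89902 : Led Lsl_dt (LP (LK LD1_c13 LD2_c10 LD3_c20)) = (LP (LK LD1_c6 LD2_c56 LD3_c9)) :=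
  Lre_d IH (LK LD1_c13 LD2_c10 LD3_c20) (LK LD1_c6 LD2_c56 LD3_c9) Lrfl Lrfl
theorem f89920 : Led Lsl_dt (LP (LK LD1_c7 LD2_c37 LD3_c32)) = (LP (LK LD1_c14 LD2_c22 LD3_c33)) :=
  Lre_d IH (LK LD1_c7 LD2_c37 LD3_c32) (LK LD1_c14 LD2_c22 LD3_c33) Lrfl Lrfl
theorem f89921 : Led Lsl_at (LP (LK LD1_c6 LD2_c56 LD3_c9)) = (LP (LK LD1_c7 LD2_c37 LD3_c32)) :=
  Lgr Lrot51 (Lpe (f89902 IH) (Lpr_af (f89897 IH) (Lpe (f89920 IH) (Lpn (LP (LK LD1_c7 LD2_c37 LD3_c32))))))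
theorem f89928 : Led Lsl_af (LP (LK LD1_c6 LD2_c56 LD3_c9)) = (LP (LK LD1_c7 LD2_c37 LD3_c32)) :=
  Lgr Lrot0 (Lpr_at (f89921 IH) (Lpn (LP (LK LD1_c7 LD2_c37 LD3_c32))))
theorem f89949 : Led Lsl_ft (LP (LK LD1_c6 LD2_c56 LD3_c9)) = (LP (LK LD1_c3 LD2_c27 LD3_c6)) :=
  Lre_f IH (LK LD1_c6 LD2_c56 LD3_c9) (LK LD1_c3 LD2_c27 LD3_c6) Lrfl Lrfl
theorem f89950 : Led Lsl_ft (LP (LK LD1_c3 LD2_c48 LD3_c14)) = (LP (LK LD1_c7 LD2_c37 LD3_c32)) :=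
  Lre_f IH (LK LD1_c3 LD2_c48 LD3_c14) (LK LD1_c7 LD2_c37 LD3_c32) Lrfl Lrfl
theorem f89951 : Led Lsl_at (LP (LK LD1_c3 LD2_c27 LD3_c6)) = (LP (LK LD1_c3 LD2_c48 LD3_c14)) :=
  Lgr Lrot66 (Lpe (f89949 IH) (Lpr_af (f89928 IH) (Lpe (f89950 IH) (Lpn (LP (LK LD1_c3 LD2_c48 LD3_c14))))))
theorem f89960 : Led Lsl_et (LP (LK LD1_c1 LD2_c40 LD3_c9)) = (LP (LK LD1_c3 LD2_c27 LD3_c6)) :=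
  Lre_e IH (LK LD1_c1 LD2_c40 LD3_c9) (LK LD1_c3 LD2_c27 LD3_c6) Lrfl Lrfl
theorem f89961 : Led Lsl_et (LP (LK LD1_c3 LD2_c48 LD3_c14)) = (LP (LK LD1_c1 LD2_c51 LD3_c7)) :=
  Lre_e IH (LK LD1_c3 LD2_c48 LD3_c14) (LK LD1_c1 LD2_c51 LD3_c7) Lrfl Lrfl
theorem f89962 : Led Lsl_af (LP (LK LD1_c1 LD2_c40 LD3_c9)) = (LP (LK LD1_c1 LD2_c51 LD3_c7)) :=
  Lgr Lrot50 (Lpr_et (f89960 IH) (Lpr_at (f89951 IH) (Lpr_et (f89961 IH) (Lpn (LP (LK LD1_c1 LD2_c51 LD3_c7))))))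
theorem f91293 : Led Lsl_ft (LP (LK LD1_c1 LD2_c40 LD3_c12)) = (LP (LK LD1_c1 LD2_c51 LD3_c7)) :=
  Lgr Lrot2 (Lpr_gt (K2.f90979 IH) (Lpr_gt (K2.f91291 IH) (Lpr_af (f89962 IH) (Lpn (LP (LK LD1_c1 LD2_c51 LD3_c7))))))
theorem f90983 : Led Lsl_et (LP (LK LD1_c3 LD2_c27 LD3_c13)) = (LP (LK LD1_c1 LD2_c40 LD3_c12)) :=
  Lre_e IH (LK LD1_c3 LD2_c27 LD3_c13) (LK LD1_c1 LD2_c40 LD3_c12) Lrfl Lrfl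
theorem f91722 : Led Lsl_ft (LP (LK LD1_c6 LD2_c56 LD3_c24)) = (LP (LK LD1_c3 LD2_c27 LD3_c13)) :=
  Lre_f IH (LK LD1_c6 LD2_c56 LD3_c24) (LK LD1_c3 LD2_c27 LD3_c13) Lrfl Lrfl
theorem f11865 : Led Lsl_et (LP (LK LD1_c1 LD2_c51 LD3_c7)) = (LP (LK LD1_c3 LD2_c48 LD3_c14)) :=
  Lre_e IH (LK LD1_c1 LD2_c51 LD3_c7) (LK LD1_c3 LD2_c48 LD3_c14) Lrfl Lrfl
theorem f91723 : Led Lsl_ef (LP (LK LD1_c6 LD2_c56 LD3_c24)) = (LP (LK LD1_c7 LD2_c37 LD3_c32)) :=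
  Lgr Lrot21 (Lpr_ft (f91722 IH) (Lpr_et (f90983 IH) (Lpr_ft (f91293 IH) (Lpr_et (f11865 IH) (Lpr_ft (f89950 IH) (Lpn (LP (LK LD1_c7 LD2_c37 LD3_c32))))))))
theorem f91725 : Led Lsl_et (LP (LK LD1_c6 LD2_c56 LD3_c24)) = (LP (LK LD1_c7 LD2_c37 LD3_c32)) :=
  Lgr Lrot87 (Lpr_ef (f91723 IH) (Lpn (LP (LK LD1_c7 LD2_c37 LD3_c32))))
theorem f97798 : Led Lsl_af (LP (LK LD1_c6 LD2_c56 LD3_c24)) = (LP (LK LD1_c7 LD2_c42 LD3_c50)) :=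
  Lgr Lrot50 (Lpr_et (f91725 IH) (Lpe (f89928 IH) (Lpr_et (f97794 IH) (Lpn (LP (LK LD1_c7 LD2_c42 LD3_c50))))))
theorem f97796 : Led Lsl_ft (LP (LK LD1_c3 LD2_c50 LD3_c51)) = (LP (LK LD1_c7 LD2_c42 LD3_c50)) :=
  Lre_f IH (LK LD1_c3 LD2_c50 LD3_c51) (LK LD1_c7 LD2_c42 LD3_c50) Lrfl Lrfl
theorem f97802 : Led Lsl_at (LP (LK LD1_c3 LD2_c27 LD3_c13)) = (LP (LK LD1_c3 LD2_c50 LD3_c51)) :=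
  Lgr Lrot66 (Lpe (f91722 IH) (Lpr_af (f97798 IH) (Lpe (f97796 IH) (Lpn (LP (LK LD1_c3 LD2_c50 LD3_c51))))))
theorem f93248 : Led Lsl_dt (LP (LK LD1_c6 LD2_c56 LD3_c23)) = (LP (LK LD1_c3 LD2_c27 LD3_c13)) :=
  Lre_d IH (LK LD1_c6 LD2_c56 LD3_c23) (LK LD1_c3 LD2_c27 LD3_c13) Lrfl Lrfl
theorem f64397 : Led Lsl_dt (LP (LK LD1_c3 LD2_c50 LD3_c51)) = (LP (LK LD1_c7 LD2_c42 LD3_c49)) :=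
  Lre_d IH (LK LD1_c3 LD2_c50 LD3_c51) (LK LD1_c7 LD2_c42 LD3_c49) Lrfl Lrfl
theorem f97814 : Led Lsl_af (LP (LK LD1_c6 LD2_c56 LD3_c23)) = (LP (LK LD1_c7 LD2_c42 LD3_c49)) :=
  Lgr Lrot117 (Lpr_dt (f93248 IH) (Lpr_at (f97802 IH) (Lpr_dt (f64397 IH) (Lpn (LP (LK LD1_c7 LD2_c42 LD3_c49))))))
theorem f97824 : Led Lsl_et (LP (LK LD1_c6 LD2_c56 LD3_c23)) = (LP (LK LD1_c3 LD2_c27 LD3_c14)) :=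
  Lre_e IH (LK LD1_c6 LD2_c56 LD3_c23) (LK LD1_c3 LD2_c27 LD3_c14) Lrfl Lrfl
theorem f97825 : Led Lsl_et (LP (LK LD1_c3 LD2_c50 LD3_c52)) = (LP (LK LD1_c7 LD2_c42 LD3_c49)) :=
  Lre_e IH (LK LD1_c3 LD2_c50 LD3_c52) (LK LD1_c7 LD2_c42 LD3_c49) Lrfl Lrfl
theorem f97826 : Led Lsl_at (LP (LK LD1_c3 LD2_c27 LD3_c14)) = (LP (LK LD1_c3 LD2_c50 LD3_c52)) :=
  Lgr Lrot80 (Lpe (f97824 IH) (Lpr_af (f97814 IH) (Lpe (f97825 IH) (Lpn (LP (LK LD1_c3 LD2_c50 LD3_c52))))))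
theorem f12008 : Led Lsl_dt (LP (LK LD1_c1 LD2_c40 LD3_c13)) = (LP (LK LD1_c3 LD2_c27 LD3_c14)) :=
  Lre_d IH (LK LD1_c1 LD2_c40 LD3_c13) (LK LD1_c3 LD2_c27 LD3_c14) Lrfl Lrfl
theorem f97840 : Led Lsl_dt (LP (LK LD1_c3 LD2_c50 LD3_c52)) = (LP (LK LD1_c1 LD2_c52 LD3_c18)) :=
  Lre_d IH (LK LD1_c3 LD2_c50 LD3_c52) (LK LD1_c1 LD2_c52 LD3_c18) Lrfl Lrfl
theorem f97841 : Led Lsl_af (LP (LK LD1_c1 LD2_c40 LD3_c13)) = (LP (LK LD1_c1 LD2_c52 LD3_c18)) :=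
  Lgr Lrot117 (Lpr_dt (f12008 IH) (Lpr_at (f97826 IH) (Lpr_dt (f97840 IH) (Lpn (LP (LK LD1_c1 LD2_c52 LD3_c18))))))
theorem f11998 : Led Lsl_bt (LP (LK LD1_c1 LD2_c40 LD3_c13)) = (LP (LK LD1_c3 LD2_c27 LD3_c12)) :=
  Lre_b IH (LK LD1_c1 LD2_c40 LD3_c13) (LK LD1_c3 LD2_c27 LD3_c12) Lrfl Lrfl
theorem f12041 : Led Lsl_at (LP (LK LD1_c3 LD2_c27 LD3_c12)) = (LP (LK LD1_c6 LD2_c56 LD3_c16)) :=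
  Lre_a IH (LK LD1_c3 LD2_c27 LD3_c12) (LK LD1_c6 LD2_c56 LD3_c16) Lrfl Lrfl
theorem f97849 : Led Lsl_bt (LP (LK LD1_c3 LD2_c50 LD3_c50)) = (LP (LK LD1_c1 LD2_c52 LD3_c18)) :=
  Lre_b IH (LK LD1_c3 LD2_c50 LD3_c50) (LK LD1_c1 LD2_c52 LD3_c18) Lrfl Lrfl
theorem f97850 : Led Lsl_at (LP (LK LD1_c7 LD2_c42 LD3_c42)) = (LP (LK LD1_c3 LD2_c50 LD3_c50)) :=
  Lre_a IH (LK LD1_c7 LD2_c42 LD3_c42) (LK LD1_c3 LD2_c50 LD3_c50) Lrfl Lrfl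
theorem f97851 : Led Lsl_bt (LP (LK LD1_c6 LD2_c56 LD3_c16)) = (LP (LK LD1_c7 LD2_c42 LD3_c42)) :=
  Lgr Lrot62 (Lpe (f12041 IH) (Lpe (f11998 IH) (Lpr_af (f97841 IH) (Lpe (f97849 IH) (Lpe (f97850 IH) (Lpn (LP (LK LD1_c7 LD2_c42 LD3_c42))))))))
theorem f89818 : Led Lsl_et (LP (LK LD1_c3 LD2_c27 LD3_c11)) = (LP (LK LD1_c6 LD2_c56 LD3_c16)) :=
  Lre_e IH (LK LD1_c3 LD2_c27 LD3_c11) (LK LD1_c6 LD2_c56 LD3_c16) Lrfl Lrfl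
theorem f97858 : Led Lsl_et (LP (LK LD1_c7 LD2_c42 LD3_c42)) = (LP (LK LD1_c3 LD2_c50 LD3_c48)) :=
  Lre_e IH (LK LD1_c7 LD2_c42 LD3_c42) (LK LD1_c3 LD2_c50 LD3_c48) Lrfl Lrfl
theorem f97859 : Led Lsl_bf (LP (LK LD1_c3 LD2_c27 LD3_c11)) = (LP (LK LD1_c3 LD2_c50 LD3_c48)) :=
  Lgr Lrot96 (Lpr_et (f89818 IH) (Lpr_bt (f97851 IH) (Lpr_et (f97858 IH) (Lpn (LP (LK LD1_c3 LD2_c50 LD3_c48))))))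
theorem f57467 : Led Lsl_gt (LP (LK LD1_c1 LD2_c36 LD3_c19)) = (LP (LK LD1_c3 LD2_c19 LD3_c49)) :=
  Lre_g IH (LK LD1_c1 LD2_c36 LD3_c19) (LK LD1_c3 LD2_c19 LD3_c49) Lrfl Lrfl
theorem f89761 : Led Lsl_at (LP (LK LD1_c1 LD2_c50 LD3_c42)) = (LP (LK LD1_c3 LD2_c19 LD3_c49)) :=
  Lgr Lrot26 (Lpr_ff (K2.f89677 IH) (Lpe (K1.f64297 IH) (Lpr_gt (f57467 IH) (Lpn (LP (LK LD1_c3 LD2_c19 LD3_c49))))))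
theorem f89755 : Led Lsl_at (LP (LK LD1_c1 LD2_c51 LD3_c17)) = (LP (LK LD1_c0 LD2_c52 LD3_c30)) :=
  Lre_a IH (LK LD1_c1 LD2_c51 LD3_c17) (LK LD1_c0 LD2_c52 LD3_c30) Lrfl Lrfl
theorem f89772 : Led Lsl_ff (LP (LK LD1_c1 LD2_c51 LD3_c17)) = (LP (LK LD1_c3 LD2_c19 LD3_c49)) :=
  Lgr Lrot30 (Lpr_at (f89755 IH) (Lpe (K2.f89677 IH) (Lpr_at (f89761 IH) (Lpn (LP (LK LD1_c3 LD2_c19 LD3_c49))))))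
theorem f89776 : Led Lsl_ft (LP (LK LD1_c1 LD2_c51 LD3_c17)) = (LP (LK LD1_c3 LD2_c19 LD3_c49)) :=
  Lgr Lrot48 (Lpr_ff (f89772 IH) (Lpn (LP (LK LD1_c3 LD2_c19 LD3_c49))))
theorem f12031 : Led Lsl_bt (LP (LK LD1_c0 LD2_c52 LD3_c15)) = (LP (LK LD1_c1 LD2_c50 LD3_c42)) :=
  Lre_b IH (LK LD1_c0 LD2_c52 LD3_c15) (LK LD1_c1 LD2_c50 LD3_c42) Lrfl Lrfl
theorem f87797 : Led Lsl_ft (LP (LK LD1_c0 LD2_c52 LD3_c12)) = (LP (LK LD1_c0 LD2_c23 LD3_c47)) :=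
  Lgr Lrot54 (Lpe (f63720 IH) (Lpr_ff (K2.f87792 IH) (Lpe (K2.f63504 IH) (Lpn (LP (LK LD1_c0 LD2_c23 LD3_c47))))))
theorem f89675 : Led Lsl_af (LP (LK LD1_c0 LD2_c52 LD3_c15)) = (LP (LK LD1_c0 LD2_c23 LD3_c47)) :=
  Lgr Lrot45 (Lpr_ft (K2.f89291 IH) (Lpe (f87790 IH) (Lpr_ft (f87797 IH) (Lpn (LP (LK LD1_c0 LD2_c23 LD3_c47))))))
theorem f88581 : Led Lsl_at (LP (LK LD1_c1 LD2_c51 LD3_c43)) = (LP (LK LD1_c0 LD2_c52 LD3_c39)) :=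
  Lre_a IH (LK LD1_c1 LD2_c51 LD3_c43) (LK LD1_c0 LD2_c52 LD3_c39) Lrfl Lrfl
theorem f89765 : Led Lsl_bf (LP (LK LD1_c1 LD2_c51 LD3_c43)) = (LP (LK LD1_c3 LD2_c19 LD3_c49)) :=
  Lgr Lrot81 (Lpr_at (f88581 IH) (Lpr_bt (f87920 IH) (Lpe (f89675 IH) (Lpr_bt (f12031 IH) (Lpr_at (f89761 IH) (Lpn (LP (LK LD1_c3 LD2_c19 LD3_c49))))))))
theorem f89781 : Led Lsl_bf (LP (LK LD1_c1 LD2_c51 LD3_c17)) = (LP (LK LD1_c3 LD2_c47 LD3_c0)) :=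
  Lgr Lrot61 (Lpr_ft (f89776 IH) (Lpe (f89765 IH) (Lpe (f88573 IH) (Lpn (LP (LK LD1_c3 LD2_c47 LD3_c0))))))
theorem f89784 : Led Lsl_bt (LP (LK LD1_c1 LD2_c51 LD3_c17)) = (LP (LK LD1_c3 LD2_c47 LD3_c0)) :=
  Lgr Lrot127 (Lpr_bf (f89781 IH) (Lpn (LP (LK LD1_c3 LD2_c47 LD3_c0))))
theorem f88579 : Led Lsl_ft (LP (LK LD1_c3 LD2_c47 LD3_c0)) = (LP (LK LD1_c1 LD2_c51 LD3_c43)) :=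
  Lgr Lrot48 (Lpr_ff (f88573 IH) (Lpn (LP (LK LD1_c1 LD2_c51 LD3_c43))))
theorem f89790 : Led Lsl_bf (LP (LK LD1_c3 LD2_c19 LD3_c49)) = (LP (LK LD1_c1 LD2_c51 LD3_c43)) :=
  Lgr Lrot61 (Lpe (f89772 IH) (Lpr_bt (f89784 IH) (Lpr_ft (f88579 IH) (Lpn (LP (LK LD1_c1 LD2_c51 LD3_c43))))))
theorem f89769 : Led Lsl_et (LP (LK LD1_c3 LD2_c19 LD3_c49)) = (LP (LK LD1_c6 LD2_c43 LD3_c24)) :=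
  Lre_e IH (LK LD1_c3 LD2_c19 LD3_c49) (LK LD1_c6 LD2_c43 LD3_c24) Lrfl Lrfl
theorem f88577 : Led Lsl_et (LP (LK LD1_c3 LD2_c49 LD3_c21)) = (LP (LK LD1_c1 LD2_c51 LD3_c43)) :=
  Lre_e IH (LK LD1_c3 LD2_c49 LD3_c21) (LK LD1_c1 LD2_c51 LD3_c43) Lrfl Lrfl
theorem f89792 : Led Lsl_bt (LP (LK LD1_c6 LD2_c43 LD3_c24)) = (LP (LK LD1_c3 LD2_c49 LD3_c21)) :=
  Lgr Lrot119 (Lpe (f89769 IH) (Lpr_bf (f89790 IH) (Lpe (f88577 IH) (Lpn (LP (LK LD1_c3 LD2_c49 LD3_c21))))))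
theorem f89205 : Led Lsl_at (LP (LK LD1_c3 LD2_c49 LD3_c21)) = (LP (LK LD1_c1 LD2_c51 LD3_c45)) :=
  Lre_a IH (LK LD1_c3 LD2_c49 LD3_c21) (LK LD1_c1 LD2_c51 LD3_c45) Lrfl Lrfl
theorem f89204 : Led Lsl_bt (LP (LK LD1_c1 LD2_c51 LD3_c45)) = (LP (LK LD1_c0 LD2_c52 LD3_c41)) :=
  Lre_b IH (LK LD1_c1 LD2_c51 LD3_c45) (LK LD1_c0 LD2_c52 LD3_c41) Lrfl Lrfl
theorem f11983 : Led Lsl_bt (LP (LK LD1_c1 LD2_c50 LD3_c44)) = (LP (LK LD1_c3 LD2_c47 LD3_c10)) :=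
  Lre_b IH (LK LD1_c1 LD2_c50 LD3_c44) (LK LD1_c3 LD2_c47 LD3_c10) Lrfl Lrfl
theorem f89794 : Led Lsl_af (LP (LK LD1_c6 LD2_c43 LD3_c24)) = (LP (LK LD1_c3 LD2_c47 LD3_c10)) :=
  Lgr Lrot36 (Lpr_bt (f89792 IH) (Lpr_at (f89205 IH) (Lpr_bt (f89204 IH) (Lpe (K2.f89199 IH) (Lpr_bt (f11983 IH) (Lpn (LP (LK LD1_c3 LD2_c47 LD3_c10))))))))
theorem f11966 : Led Lsl_et (LP (LK LD1_c1 LD2_c50 LD3_c41)) = (LP (LK LD1_c0 LD2_c52 LD3_c14)) :=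
  Lre_e IH (LK LD1_c1 LD2_c50 LD3_c41) (LK LD1_c0 LD2_c52 LD3_c14) Lrfl Lrfl
theorem f11967 : Led Lsl_et (LP (LK LD1_c0 LD2_c46 LD3_c36)) = (LP (LK LD1_c1 LD2_c40 LD3_c13)) :=
  Lre_e IH (LK LD1_c0 LD2_c46 LD3_c36) (LK LD1_c1 LD2_c40 LD3_c13) Lrfl Lrfl
theorem f11968 : Led Lsl_cf (LP (LK LD1_c1 LD2_c50 LD3_c41)) = (LP (LK LD1_c1 LD2_c40 LD3_c13)) :=
  Lgr Lrot39 (Lpr_et (f11966 IH) (Lpr_ct (K2.f11954 IH) (Lpr_et (f11967 IH) (Lpn (LP (LK LD1_c1 LD2_c40 LD3_c13))))))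
theorem f11987 : Led Lsl_ct (LP (LK LD1_c1 LD2_c50 LD3_c41)) = (LP (LK LD1_c1 LD2_c40 LD3_c13)) :=
  Lgr Lrot59 (Lpr_cf (f11968 IH) (Lpn (LP (LK LD1_c1 LD2_c40 LD3_c13))))
theorem f12003 : Led Lsl_bt (LP (LK LD1_c0 LD2_c52 LD3_c16)) = (LP (LK LD1_c1 LD2_c50 LD3_c41)) :=
  Lre_b IH (LK LD1_c0 LD2_c52 LD3_c16) (LK LD1_c1 LD2_c50 LD3_c41) Lrfl Lrfl
theorem f12005 : Led Lsl_bt (LP (LK LD1_c3 LD2_c47 LD3_c10)) = (LP (LK LD1_c1 LD2_c50 LD3_c44)) :=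
  Lre_b IH (LK LD1_c3 LD2_c47 LD3_c10) (LK LD1_c1 LD2_c50 LD3_c44) Lrfl Lrfl
theorem f12006 : Led Lsl_cf (LP (LK LD1_c3 LD2_c47 LD3_c10)) = (LP (LK LD1_c3 LD2_c27 LD3_c12)) :=
  Lgr Lrot97 (Lpr_bt (f12005 IH) (Lpr_ct (K2.f12004 IH) (Lpr_bt (f12003 IH) (Lpr_ct (f11987 IH) (Lpr_bt (f11998 IH) (Lpn (LP (LK LD1_c3 LD2_c27 LD3_c12))))))))
theorem f12013 : Led Lsl_at (LP (LK LD1_c6 LD2_c56 LD3_c16)) = (LP (LK LD1_c3 LD2_c27 LD3_c12)) :=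
  Lre_a IH (LK LD1_c6 LD2_c56 LD3_c16) (LK LD1_c3 LD2_c27 LD3_c12) Lrfl Lrfl
theorem f89807 : Led Lsl_ct (LP (LK LD1_c6 LD2_c43 LD3_c24)) = (LP (LK LD1_c6 LD2_c56 LD3_c16)) :=
  Lgr Lrot111 (Lpr_af (f89794 IH) (Lpr_cf (f12006 IH) (Lpe (f12013 IH) (Lpn (LP (LK LD1_c6 LD2_c56 LD3_c16))))))
theorem f89812 : Led Lsl_et (LP (LK LD1_c6 LD2_c56 LD3_c16)) = (LP (LK LD1_c3 LD2_c27 LD3_c11)) :=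
  Lre_e IH (LK LD1_c6 LD2_c56 LD3_c16) (LK LD1_c3 LD2_c27 LD3_c11) Lrfl Lrfl
theorem f89813 : Led Lsl_cf (LP (LK LD1_c3 LD2_c19 LD3_c49)) = (LP (LK LD1_c3 LD2_c27 LD3_c11)) :=
  Lgr Lrot39 (Lpr_et (f89769 IH) (Lpr_ct (f89807 IH) (Lpr_et (f89812 IH) (Lpn (LP (LK LD1_c3 LD2_c27 LD3_c11))))))
theorem f88584 : Led Lsl_ct (LP (LK LD1_c1 LD2_c51 LD3_c43)) = (LP (LK LD1_c3 LD2_c49 LD3_c6)) :=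
  Lre_c IH (LK LD1_c1 LD2_c51 LD3_c43) (LK LD1_c3 LD2_c49 LD3_c6) Lrfl Lrfl
theorem f6679 : Led Lsl_bt (LP (LK LD1_c0 LD2_c48 LD3_c21)) = (LP (LK LD1_c1 LD2_c43 LD3_c25)) :=
  Lre_b IH (LK LD1_c0 LD2_c48 LD3_c21) (LK LD1_c1 LD2_c43 LD3_c25) Lrfl Lrfl
theorem f10464 : Led Lsl_gt (LP (LK LD1_c1 LD2_c43 LD3_c25)) = (LP (LK LD1_c3 LD2_c33 LD3_c19)) :=
  Lre_g IH (LK LD1_c1 LD2_c43 LD3_c25) (LK LD1_c3 LD2_c33 LD3_c19) Lrfl Lrfl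
theorem f96868 : Led Lsl_bt (LP (LK LD1_c3 LD2_c49 LD3_c6)) = (LP (LK LD1_c3 LD2_c33 LD3_c19)) :=
  Lgr Lrot92 (Lpr_ct (f87916 IH) (Lpr_gt (f96862 IH) (Lpe (f6112 IH) (Lpr_bt (f6111 IH) (Lpr_gt (f10790 IH) (Lpr_ct (f10268 IH) (Lpe (f10459 IH) (Lpe (f6678 IH) (Lpr_bt (f6679 IH) (Lpr_gt (f10464 IH) (Lpn (LP (LK LD1_c3 LD2_c33 LD3_c19)))))))))))))
theorem f97864 : Led Lsl_ct (LP (LK LD1_c3 LD2_c33 LD3_c19)) = (LP (LK LD1_c3 LD2_c50 LD3_c48)) :=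
  Lgr Lrot83 (Lpe (f96868 IH) (Lpe (f88584 IH) (Lpr_bf (f89765 IH) (Lpr_cf (f89813 IH) (Lpr_bf (f97859 IH) (Lpn (LP (LK LD1_c3 LD2_c50 LD3_c48))))))))
theorem f6410 : Led Lsl_bt (LP (LK LD1_c1 LD2_c43 LD3_c4)) = (LP (LK LD1_c0 LD2_c48 LD3_c11)) :=
  Lre_b IH (LK LD1_c1 LD2_c43 LD3_c4) (LK LD1_c0 LD2_c48 LD3_c11) Lrfl Lrfl
theorem f10470 : Led Lsl_ff (LP (LK LD1_c1 LD2_c43 LD3_c4)) = (LP (LK LD1_c1 LD2_c44 LD3_c61)) :=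
  Lgr Lrot25 (Lpr_bt (f6410 IH) (Lpr_ft (f10455 IH) (Lpr_bt (f6407 IH) (Lpn (LP (LK LD1_c1 LD2_c44 LD3_c61))))))
theorem f6090 : Led Lsl_bt (LP (LK LD1_c0 LD2_c48 LD3_c11)) = (LP (LK LD1_c1 LD2_c43 LD3_c4)) :=
  Lre_b IH (LK LD1_c0 LD2_c48 LD3_c11) (LK LD1_c1 LD2_c43 LD3_c4) Lrfl Lrfl
theorem f6091 : Led Lsl_af (LP (LK LD1_c1 LD2_c44 LD3_c61)) = (LP (LK LD1_c1 LD2_c43 LD3_c4)) :=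
  Lgr Lrot36 (Lpr_bt (f6088 IH) (Lpr_at (f6087 IH) (Lpr_bt (f6013 IH) (Lpr_at (f6089 IH) (Lpr_bt (f6090 IH) (Lpn (LP (LK LD1_c1 LD2_c43 LD3_c4))))))))
theorem f10671 : Led Lsl_gf (LP (LK LD1_c1 LD2_c44 LD3_c61)) = (LP (LK LD1_c3 LD2_c36 LD3_c17)) :=
  Lgr Lrot76 (Lpr_af (f6091 IH) (Lpr_ff (f10470 IH) (Lpr_gt (f10272 IH) (Lpn (LP (LK LD1_c3 LD2_c36 LD3_c17))))))
theorem f97869 : Led Lsl_gf (LP (LK LD1_c3 LD2_c27 LD3_c0)) = (LP (LK LD1_c3 LD2_c50 LD3_c48)) :=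
  Lgr Lrot129 (Lpe (f89696 IH) (Lpr_bt (f96909 IH) (Lpe (f10671 IH) (Lpe (f6407 IH) (Lpr_ct (f10268 IH) (Lpe (f10459 IH) (Lpe (f6678 IH) (Lpr_bt (f6679 IH) (Lpr_gt (f10464 IH) (Lpr_ct (f97864 IH) (Lpn (LP (LK LD1_c3 LD2_c50 LD3_c48)))))))))))))
theorem f97871 : Led Lsl_at (LP (LK LD1_c3 LD2_c27 LD3_c1)) = (LP (LK LD1_c1 LD2_c40 LD3_c8)) :=
  Lre_a IH (LK LD1_c3 LD2_c27 LD3_c1) (LK LD1_c1 LD2_c40 LD3_c8) Lrfl Lrfl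
theorem f97872 : Led Lsl_ff (LP (LK LD1_c3 LD2_c27 LD3_c1)) = (LP (LK LD1_c3 LD2_c50 LD3_c48)) :=
  Lgr Lrot52 (Lpr_at (f97871 IH) (Lpe (f89690 IH) (Lpr_gf (f97869 IH) (Lpn (LP (LK LD1_c3 LD2_c50 LD3_c48))))))
theorem f93456 : Led Lsl_ct (LP (LK LD1_c1 LD2_c41 LD3_c3)) = (LP (LK LD1_c1 LD2_c34 LD3_c51)) :=
  Lgr Lrot53 (Lpe (f87663 IH) (Lpe (K2.f87662 IH) (Lpe (f87617 IH) (Lpe (K2.f11958 IH) (Lpe (K2.f12060 IH) (Lpr_ft (f89293 IH) (Lpe (f87787 IH) (Lpr_cf (f93445 IH) (Lpe (f93444 IH) (Lpn (LP (LK LD1_c1 LD2_c34 LD3_c51))))))))))))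
theorem f64254 : Led Lsl_dt (LP (LK LD1_c1 LD2_c35 LD3_c2)) = (LP (LK LD1_c0 LD2_c44 LD3_c12)) :=
  Lre_d IH (LK LD1_c1 LD2_c35 LD3_c2) (LK LD1_c0 LD2_c44 LD3_c12) Lrfl Lrfl
theorem f64911 : Led Lsl_gt (LP (LK LD1_c1 LD2_c35 LD3_c2)) = (LP (LK LD1_c3 LD2_c16 LD3_c46)) :=
  Lre_g IH (LK LD1_c1 LD2_c35 LD3_c2) (LK LD1_c3 LD2_c16 LD3_c46) Lrfl Lrfl
theorem f94132 : Led Lsl_cf (LP (LK LD1_c1 LD2_c49 LD3_c58)) = (LP (LK LD1_c3 LD2_c16 LD3_c46)) :=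
  Lgr Lrot169 (Lpe (f88648 IH) (Lpr_ct (f93449 IH) (Lpe (f93444 IH) (Lpe (f93456 IH) (Lpr_gf (f94121 IH) (Lpr_cf (K2.f79120 IH) (Lpe (K2.f79090 IH) (Lpe (f64254 IH) (Lpr_gt (f64911 IH) (Lpn (LP (LK LD1_c3 LD2_c16 LD3_c46))))))))))))
theorem f94139 : Led Lsl_ct (LP (LK LD1_c1 LD2_c49 LD3_c58)) = (LP (LK LD1_c3 LD2_c16 LD3_c46)) :=
  Lgr Lrot59 (Lpr_cf (f94132 IH) (Lpn (LP (LK LD1_c3 LD2_c16 LD3_c46))))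
theorem f65992 : Led Lsl_df (LP (LK LD1_c3 LD2_c15 LD3_c37)) = (LP (LK LD1_c1 LD2_c35 LD3_c0)) :=
  Lgr Lrot155 (Lpr_gt (f65714 IH) (Lpr_ct (f65706 IH) (Lpr_gt (K2.f20837 IH) (Lpr_ct (K2.f65193 IH) (Lpr_dt (K1.f64605 IH) (Lpe (K1.f62009 IH) (Lpe (K1.f14700 IH) (Lpe (f57110 IH) (Lpe (f64480 IH) (Lpn (LP (LK LD1_c1 LD2_c35 LD3_c0))))))))))))
theorem f66006 : Led Lsl_ct (LP (LK LD1_c0 LD2_c19 LD3_c44)) = (LP (LK LD1_c0 LD2_c44 LD3_c15)) :=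
  Lre_c IH (LK LD1_c0 LD2_c19 LD3_c44) (LK LD1_c0 LD2_c44 LD3_c15) Lrfl Lrfl
theorem f66007 : Led Lsl_gt (LP (LK LD1_c0 LD2_c44 LD3_c15)) = (LP (LK LD1_c1 LD2_c35 LD3_c0)) :=
  Lgr Lrot94 (Lpe (f66006 IH) (Lpr_gt (K1.f61875 IH) (Lpr_dt (K2.f62966 IH) (Lpr_gt (K0.f7157 IH) (Lpr_dt (K2.f7158 IH) (Lpe (K2.f65270 IH) (Lpe (K2.f65271 IH) (Lpe (f65714 IH) (Lpr_df (f65992 IH) (Lpn (LP (LK LD1_c1 LD2_c35 LD3_c0))))))))))))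
theorem f61998 : Led Lsl_dt (LP (LK LD1_c1 LD2_c35 LD3_c12)) = (LP (LK LD1_c0 LD2_c44 LD3_c15)) :=
  Lre_d IH (LK LD1_c1 LD2_c35 LD3_c12) (LK LD1_c0 LD2_c44 LD3_c15) Lrfl Lrfl
theorem f96188 : Led Lsl_gt (LP (LK LD1_c3 LD2_c16 LD3_c46)) = (LP (LK LD1_c1 LD2_c35 LD3_c12)) :=
  Lgr Lrot94 (Lpe (f94139 IH) (Lpe (f88648 IH) (Lpr_dt (f63720 IH) (Lpr_gt (f88533 IH) (Lpe (f96165 IH) (Lpr_cf (f96178 IH) (Lpr_df (f65992 IH) (Lpe (f66007 IH) (Lpe (f61998 IH) (Lpn (LP (LK LD1_c1 LD2_c35 LD3_c12))))))))))))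
theorem f12037 : Led Lsl_ct (LP (LK LD1_c1 LD2_c43 LD3_c23)) = (LP (LK LD1_c0 LD2_c48 LD3_c20)) :=
  Lre_c IH (LK LD1_c1 LD2_c43 LD3_c23) (LK LD1_c0 LD2_c48 LD3_c20) Lrfl Lrfl
theorem f66093 : Led Lsl_dt (LP (LK LD1_c0 LD2_c44 LD3_c15)) = (LP (LK LD1_c1 LD2_c35 LD3_c12)) :=
  Lre_d IH (LK LD1_c0 LD2_c44 LD3_c15) (LK LD1_c1 LD2_c35 LD3_c12) Lrfl Lrfl
theorem f84969 : Led Lsl_ct (LP (LK LD1_c1 LD2_c35 LD3_c12)) = (LP (LK LD1_c0 LD2_c52 LD3_c47)) :=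
  Lgr Lrot176 (Lpe (f66093 IH) (Lpe (f66006 IH) (Lpe (f61954 IH) (Lpe (K2.f18903 IH) (Lpr_df (f62001 IH) (Lpe (K1.f12199 IH) (Lpe (f12208 IH) (Lpr_cf (f64475 IH) (Lpe (f64253 IH) (Lpe (K2.f64252 IH) (Lpe (K1.f64294 IH) (Lpe (K2.f12118 IH) (Lpr_df (K2.f84963 IH) (Lpe (K2.f64262 IH) (Lpe (K1.f63503 IH) (Lpn (LP (LK LD1_c0 LD2_c52 LD3_c47))))))))))))))))))
theorem f96192 : Led Lsl_gt (LP (LK LD1_c0 LD2_c48 LD3_c20)) = (LP (LK LD1_c0 LD2_c52 LD3_c46)) :=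
  Lgr Lrot150 (Lpe (f12037 IH) (Lpe (f11948 IH) (Lpe (K2.f12060 IH) (Lpr_gt (f89670 IH) (Lpr_ct (f94139 IH) (Lpr_gt (f96188 IH) (Lpr_ct (f84969 IH) (Lpe (K1.f17293 IH) (Lpe (K2.f11543 IH) (Lpn (LP (LK LD1_c0 LD2_c52 LD3_c46))))))))))))
theorem f96329 : Led Lsl_gf (LP (LK LD1_c0 LD2_c48 LD3_c21)) = (LP (LK LD1_c0 LD2_c52 LD3_c37)) :=
  Lgr Lrot126 (Lpe (f10461 IH) (Lpr_bt (f89728 IH) (Lpr_gt (f96192 IH) (Lpr_ct (K2.f11543 IH) (Lpr_gt (K1.f14680 IH) (Lpe (K0.f12210 IH) (Lpr_bt (K0.f14651 IH) (Lpr_gt (K2.f14679 IH) (Lpe (K2.f11527 IH) (Lpr_ct (K2.f11528 IH) (Lpn (LP (LK LD1_c0 LD2_c52 LD3_c37)))))))))))))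
theorem f6095 : Led Lsl_ct (LP (LK LD1_c0 LD2_c21 LD3_c40)) = (LP (LK LD1_c0 LD2_c9 LD3_c46)) :=
  Lre_c IH (LK LD1_c0 LD2_c21 LD3_c40) (LK LD1_c0 LD2_c9 LD3_c46) Lrfl Lrfl
theorem f5890 : Led Lsl_bf (LP (LK LD1_c0 LD2_c22 LD3_c8)) = (LP (LK LD1_c0 LD2_c21 LD3_c40)) :=
  Lgr Lrot90 (Lpr_ct (K2.f5887 IH) (Lpr_bt (K0.f5886 IH) (Lpr_ct (K0.f5881 IH) (Lpr_bt (K2.f5888 IH) (Lpr_ct (f5889 IH) (Lpn (LP (LK LD1_c0 LD2_c21 LD3_c40))))))))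
theorem f6680 : Led Lsl_bt (LP (LK LD1_c1 LD2_c45 LD3_c18)) = (LP (LK LD1_c0 LD2_c49 LD3_c21)) :=
  Lre_b IH (LK LD1_c1 LD2_c45 LD3_c18) (LK LD1_c0 LD2_c49 LD3_c21) Lrfl Lrfl
theorem f11546 : Led Lsl_ct (LP (LK LD1_c1 LD2_c51 LD3_c34)) = (LP (LK LD1_c0 LD2_c52 LD3_c39)) :=
  Lre_c IH (LK LD1_c1 LD2_c51 LD3_c34) (LK LD1_c0 LD2_c52 LD3_c39) Lrfl Lrfl
theorem f87299 : Led Lsl_gt (LP (LK LD1_c1 LD2_c51 LD3_c42)) = (LP (LK LD1_c0 LD2_c52 LD3_c39)) :=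
  Lre_g IH (LK LD1_c1 LD2_c51 LD3_c42) (LK LD1_c0 LD2_c52 LD3_c39) Lrfl Lrfl
theorem f96468 : Led Lsl_ct (LP (LK LD1_c1 LD2_c45 LD3_c18)) = (LP (LK LD1_c1 LD2_c51 LD3_c42)) :=
  Lgr Lrot64 (Lpr_bt (f6680 IH) (Lpe (K0.f6672 IH) (Lpr_bf (f5890 IH) (Lpr_ct (f6095 IH) (Lpe (f6667 IH) (Lpe (f6678 IH) (Lpr_gf (f96329 IH) (Lpe (f11545 IH) (Lpr_ct (f11546 IH) (Lpe (f87299 IH) (Lpn (LP (LK LD1_c1 LD2_c51 LD3_c42)))))))))))))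
theorem f6113 : Led Lsl_bt (LP (LK LD1_c0 LD2_c49 LD3_c19)) = (LP (LK LD1_c1 LD2_c45 LD3_c13)) :=
  Lre_b IH (LK LD1_c0 LD2_c49 LD3_c19) (LK LD1_c1 LD2_c45 LD3_c13) Lrfl Lrfl
theorem f10806 : Led Lsl_gt (LP (LK LD1_c1 LD2_c45 LD3_c13)) = (LP (LK LD1_c3 LD2_c36 LD3_c44)) :=
  Lre_g IH (LK LD1_c1 LD2_c45 LD3_c13) (LK LD1_c3 LD2_c36 LD3_c44) Lrfl Lrfl
theorem f88589 : Led Lsl_gt (LP (LK LD1_c3 LD2_c47 LD3_c0)) = (LP (LK LD1_c1 LD2_c51 LD3_c42)) :=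
  Lgr Lrot5 (Lpr_ft (f88579 IH) (Lpr_at (f88581 IH) (Lpe (f87299 IH) (Lpn (LP (LK LD1_c1 LD2_c51 LD3_c42))))))
theorem f88526 : Led Lsl_et (LP (LK LD1_c1 LD2_c50 LD3_c37)) = (LP (LK LD1_c3 LD2_c47 LD3_c2)) :=
  Lre_e IH (LK LD1_c1 LD2_c50 LD3_c37) (LK LD1_c3 LD2_c47 LD3_c2) Lrfl Lrfl
theorem f88527 : Led Lsl_et (LP (LK LD1_c7 LD2_c13 LD3_c25)) = (LP (LK LD1_c3 LD2_c36 LD3_c31)) :=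
  Lre_e IH (LK LD1_c7 LD2_c13 LD3_c25) (LK LD1_c3 LD2_c36 LD3_c31) Lrfl Lrfl
theorem f88528 : Led Lsl_ct (LP (LK LD1_c3 LD2_c47 LD3_c2)) = (LP (LK LD1_c7 LD2_c13 LD3_c25)) :=
  Lgr Lrot15 (Lpe (f88526 IH) (Lpr_cf (f88510 IH) (Lpe (f88527 IH) (Lpn (LP (LK LD1_c7 LD2_c13 LD3_c25))))))
theorem f88541 : Led Lsl_cf (LP (LK LD1_c3 LD2_c47 LD3_c2)) = (LP (LK LD1_c7 LD2_c13 LD3_c25)) :=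
  Lgr Lrot11 (Lpr_ct (f88528 IH) (Lpn (LP (LK LD1_c7 LD2_c13 LD3_c25))))
theorem f87687 : Led Lsl_at (LP (LK LD1_c3 LD2_c47 LD3_c2)) = (LP (LK LD1_c7 LD2_c34 LD3_c51)) :=
  Lre_a IH (LK LD1_c3 LD2_c47 LD3_c2) (LK LD1_c7 LD2_c34 LD3_c51) Lrfl Lrfl
theorem f88545 : Led Lsl_at (LP (LK LD1_c13 LD2_c40 LD3_c26)) = (LP (LK LD1_c7 LD2_c13 LD3_c25)) :=
  Lre_a IH (LK LD1_c13 LD2_c40 LD3_c26) (LK LD1_c7 LD2_c13 LD3_c25) Lrfl Lrfl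
theorem f88555 : Led Lsl_ct (LP (LK LD1_c7 LD2_c34 LD3_c51)) = (LP (LK LD1_c13 LD2_c40 LD3_c26)) :=
  Lgr Lrot111 (Lpe (f87687 IH) (Lpr_cf (f88541 IH) (Lpe (f88545 IH) (Lpn (LP (LK LD1_c13 LD2_c40 LD3_c26))))))
theorem f88564 : Led Lsl_et (LP (LK LD1_c3 LD2_c47 LD3_c0)) = (LP (LK LD1_c7 LD2_c34 LD3_c51)) :=
  Lre_e IH (LK LD1_c3 LD2_c47 LD3_c0) (LK LD1_c7 LD2_c34 LD3_c51) Lrfl Lrfl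
theorem f88519 : Led Lsl_et (LP (LK LD1_c13 LD2_c40 LD3_c26)) = (LP (LK LD1_c7 LD2_c13 LD3_c24)) :=
  Lre_e IH (LK LD1_c13 LD2_c40 LD3_c26) (LK LD1_c7 LD2_c13 LD3_c24) Lrfl Lrfl
theorem f88565 : Led Lsl_cf (LP (LK LD1_c3 LD2_c47 LD3_c0)) = (LP (LK LD1_c7 LD2_c13 LD3_c24)) :=
  Lgr Lrot39 (Lpr_et (f88564 IH) (Lpr_ct (f88555 IH) (Lpr_et (f88519 IH) (Lpn (LP (LK LD1_c7 LD2_c13 LD3_c24))))))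
theorem f96537 : Led Lsl_bf (LP (LK LD1_c3 LD2_c36 LD3_c44)) = (LP (LK LD1_c7 LD2_c13 LD3_c24)) :=
  Lgr Lrot34 (Lpe (f10806 IH) (Lpe (f6113 IH) (Lpr_ct (f6110 IH) (Lpe (K2.f10801 IH) (Lpe (f10230 IH) (Lpr_gf (f10678 IH) (Lpe (f6680 IH) (Lpr_ct (f96468 IH) (Lpe (f88589 IH) (Lpr_cf (f88565 IH) (Lpn (LP (LK LD1_c7 LD2_c13 LD3_c24)))))))))))))
theorem f96557 : Led Lsl_bt (LP (LK LD1_c3 LD2_c36 LD3_c44)) = (LP (LK LD1_c7 LD2_c13 LD3_c24)) :=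
  Lgr Lrot127 (Lpr_bf (f96537 IH) (Lpn (LP (LK LD1_c7 LD2_c13 LD3_c24))))
theorem f96878 : Led Lsl_ff (LP (LK LD1_c3 LD2_c36 LD3_c44)) = (LP (LK LD1_c3 LD2_c33 LD3_c19)) :=
  Lgr Lrot25 (Lpr_bt (f96557 IH) (Lpe (f88508 IH) (Lpr_bt (f96868 IH) (Lpn (LP (LK LD1_c3 LD2_c33 LD3_c19))))))
theorem f96881 : Led Lsl_ft (LP (LK LD1_c3 LD2_c36 LD3_c44)) = (LP (LK LD1_c3 LD2_c33 LD3_c19)) :=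
  Lgr Lrot48 (Lpr_ff (f96878 IH) (Lpn (LP (LK LD1_c3 LD2_c33 LD3_c19))))
theorem f97876 : Led Lsl_ct (LP (LK LD1_c3 LD2_c27 LD3_c1)) = (LP (LK LD1_c3 LD2_c36 LD3_c44)) :=
  Lgr Lrot40 (Lpr_ff (f97872 IH) (Lpe (f97864 IH) (Lpe (f96881 IH) (Lpn (LP (LK LD1_c3 LD2_c36 LD3_c44))))))
theorem f97882 : Led Lsl_et (LP (LK LD1_c6 LD2_c55 LD3_c57)) = (LP (LK LD1_c3 LD2_c27 LD3_c1)) :=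
  Lre_e IH (LK LD1_c6 LD2_c55 LD3_c57) (LK LD1_c3 LD2_c27 LD3_c1) Lrfl Lrfl
theorem f96559 : Led Lsl_et (LP (LK LD1_c3 LD2_c36 LD3_c44)) = (LP (LK LD1_c7 LD2_c13 LD3_c44)) :=
  Lre_e IH (LK LD1_c3 LD2_c36 LD3_c44) (LK LD1_c7 LD2_c13 LD3_c44) Lrfl Lrfl
theorem f97883 : Led Lsl_cf (LP (LK LD1_c6 LD2_c55 LD3_c57)) = (LP (LK LD1_c7 LD2_c13 LD3_c44)) :=
  Lgr Lrot39 (Lpr_et (f97882 IH) (Lpr_ct (f97876 IH) (Lpr_et (f96559 IH) (Lpn (LP (LK LD1_c7 LD2_c13 LD3_c44))))))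
theorem f97887 : Led Lsl_ct (LP (LK LD1_c6 LD2_c55 LD3_c57)) = (LP (LK LD1_c7 LD2_c13 LD3_c44)) :=
  Lgr Lrot59 (Lpr_cf (f97883 IH) (Lpn (LP (LK LD1_c7 LD2_c13 LD3_c44))))
theorem f97890 : Led Lsl_at (LP (LK LD1_c3 LD2_c27 LD3_c4)) = (LP (LK LD1_c6 LD2_c55 LD3_c57)) :=
  Lre_a IH (LK LD1_c3 LD2_c27 LD3_c4) (LK LD1_c6 LD2_c55 LD3_c57) Lrfl Lrfl
theorem f97896 : Led Lsl_af (LP (LK LD1_c6 LD2_c55 LD3_c58)) = (LP (LK LD1_c7 LD2_c13 LD3_c44)) :=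
  Lgr Lrot68 (Lpr_ct (f90055 IH) (Lpr_at (f97890 IH) (Lpr_ct (f97887 IH) (Lpn (LP (LK LD1_c7 LD2_c13 LD3_c44))))))
theorem f97901 : Led Lsl_at (LP (LK LD1_c3 LD2_c27 LD3_c2)) = (LP (LK LD1_c3 LD2_c36 LD3_c44)) :=
  Lgr Lrot80 (Lpe (f89722 IH) (Lpr_af (f97896 IH) (Lpe (f96559 IH) (Lpn (LP (LK LD1_c3 LD2_c36 LD3_c44))))))
theorem f97019 : Led Lsl_bt (LP (LK LD1_c1 LD2_c45 LD3_c8)) = (LP (LK LD1_c3 LD2_c36 LD3_c33)) :=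
  Lre_b IH (LK LD1_c1 LD2_c45 LD3_c8) (LK LD1_c3 LD2_c36 LD3_c33) Lrfl Lrfl
theorem f97020 : Led Lsl_ft (LP (LK LD1_c3 LD2_c36 LD3_c33)) = (LP (LK LD1_c3 LD2_c27 LD3_c2)) :=
  Lgr Lrot75 (Lpe (f97019 IH) (Lpr_ff (f97015 IH) (Lpe (f96932 IH) (Lpn (LP (LK LD1_c3 LD2_c27 LD3_c2))))))
theorem f97907 : Led Lsl_gt (LP (LK LD1_c3 LD2_c36 LD3_c33)) = (LP (LK LD1_c1 LD2_c45 LD3_c13)) :=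
  Lgr Lrot5 (Lpr_ft (f97020 IH) (Lpr_at (f97901 IH) (Lpe (f10806 IH) (Lpn (LP (LK LD1_c1 LD2_c45 LD3_c13))))))
theorem f96784 : Led Lsl_bt (LP (LK LD1_c0 LD2_c48 LD3_c23)) = (LP (LK LD1_c1 LD2_c43 LD3_c28)) :=
  Lre_b IH (LK LD1_c0 LD2_c48 LD3_c23) (LK LD1_c1 LD2_c43 LD3_c28) Lrfl Lrfl
theorem f97909 : Led Lsl_gf (LP (LK LD1_c0 LD2_c52 LD3_c36)) = (LP (LK LD1_c0 LD2_c49 LD3_c44)) :=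
  Lgr Lrot126 (Lpe (f97022 IH) (Lpr_bt (f97019 IH) (Lpr_gt (f97907 IH) (Lpr_ct (f17387 IH) (Lpr_gt (f17317 IH) (Lpe (f96771 IH) (Lpr_bt (f96770 IH) (Lpr_gt (f96769 IH) (Lpe (f96784 IH) (Lpe (f97316 IH) (Lpn (LP (LK LD1_c0 LD2_c49 LD3_c44)))))))))))))
theorem f97012 : Led Lsl_cf (LP (LK LD1_c1 LD2_c45 LD3_c8)) = (LP (LK LD1_c0 LD2_c52 LD3_c36)) :=
  Lgr Lrot108 (Lpr_ft (f97006 IH) (Lpe (f96936 IH) (Lpr_ft (f87156 IH) (Lpn (LP (LK LD1_c0 LD2_c52 LD3_c36))))))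
theorem f88479 : Led Lsl_dt (LP (LK LD1_c0 LD2_c52 LD3_c11)) = (LP (LK LD1_c0 LD2_c46 LD3_c53)) :=
  Lgr Lrot42 (Lpr_df (K2.f88473 IH) (Lpn (LP (LK LD1_c0 LD2_c46 LD3_c53))))
theorem f97388 : Led Lsl_ct (LP (LK LD1_c3 LD2_c32 LD3_c20)) = (LP (LK LD1_c3 LD2_c35 LD3_c46)) :=
  Lgr Lrot176 (Lpr_df (f97374 IH) (Lpe (f96964 IH) (Lpe (K2.f10298 IH) (Lpe (K2.f87577 IH) (Lpe (f88479 IH) (Lpr_cf (f88482 IH) (Lpr_df (f97129 IH) (Lpe (f97141 IH) (Lpe (f11533 IH) (Lpe (K2.f11528 IH) (Lpr_df (f84728 IH) (Lpr_cf (K2.f84683 IH) (Lpr_df (f87136 IH) (Lpe (f97022 IH) (Lpr_df (f97080 IH) (Lpn (LP (LK LD1_c3 LD2_c35 LD3_c46))))))))))))))))))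
theorem f6562 : Led Lsl_dt (LP (LK LD1_c0 LD2_c48 LD3_c25)) = (LP (LK LD1_c0 LD2_c21 LD3_c40)) :=
  Lre_d IH (LK LD1_c0 LD2_c48 LD3_c25) (LK LD1_c0 LD2_c21 LD3_c40) Lrfl Lrfl
theorem f6563 : Led Lsl_gt (LP (LK LD1_c0 LD2_c48 LD3_c25)) = (LP (LK LD1_c1 LD2_c43 LD3_c34)) :=
  Lre_g IH (LK LD1_c0 LD2_c48 LD3_c25) (LK LD1_c1 LD2_c43 LD3_c34) Lrfl Lrfl
theorem f98013 : Led Lsl_cf (LP (LK LD1_c1 LD2_c43 LD3_c0)) = (LP (LK LD1_c1 LD2_c43 LD3_c34)) :=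
  Lgr Lrot169 (Lpe (f97414 IH) (Lpr_ct (f97388 IH) (Lpe (f97030 IH) (Lpr_cf (f97012 IH) (Lpr_gf (f97909 IH) (Lpr_cf (f97316 IH) (Lpe (f6103 IH) (Lpe (f6562 IH) (Lpr_gt (f6563 IH) (Lpn (LP (LK LD1_c1 LD2_c43 LD3_c34))))))))))))
theorem f98017 : Led Lsl_ct (LP (LK LD1_c1 LD2_c43 LD3_c0)) = (LP (LK LD1_c1 LD2_c43 LD3_c34)) :=
  Lgr Lrot59 (Lpr_cf (f98013 IH) (Lpn (LP (LK LD1_c1 LD2_c43 LD3_c34))))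
theorem f11060 : Led Lsl_bt (LP (LK LD1_c0 LD2_c9 LD3_c39)) = (LP (LK LD1_c0 LD2_c21 LD3_c14)) :=
  Lre_b IH (LK LD1_c0 LD2_c9 LD3_c39) (LK LD1_c0 LD2_c21 LD3_c14) Lrfl Lrfl
theorem f62809 : Led Lsl_bt (LP (LK LD1_c0 LD2_c23 LD3_c31)) = (LP (LK LD1_c0 LD2_c10 LD3_c35)) :=
  Lre_b IH (LK LD1_c0 LD2_c23 LD3_c31) (LK LD1_c0 LD2_c10 LD3_c35) Lrfl Lrfl
theorem f97281 : Led Lsl_gf (LP (LK LD1_c0 LD2_c51 LD3_c60)) = (LP (LK LD1_c0 LD2_c49 LD3_c1)) :=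
  Lgr Lrot129 (Lpe (K2.f5783 IH) (Lpr_bt (f62809 IH) (Lpe (K1.f62801 IH) (Lpe (f11060 IH) (Lpr_ct (K0.f11064 IH) (Lpr_gt (K0.f11030 IH) (Lpe (K0.f3919 IH) (Lpr_bt (K0.f3939 IH) (Lpr_gt (f97194 IH) (Lpr_ct (f5858 IH) (Lpn (LP (LK LD1_c0 LD2_c49 LD3_c1)))))))))))))
theorem f62821 : Led Lsl_ct (LP (LK LD1_c0 LD2_c51 LD3_c60)) = (LP (LK LD1_c0 LD2_c23 LD3_c31)) :=
  Lre_c IH (LK LD1_c0 LD2_c51 LD3_c60) (LK LD1_c0 LD2_c23 LD3_c31) Lrfl Lrfl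
theorem f98037 : Led Lsl_df (LP (LK LD1_c0 LD2_c50 LD3_c3)) = (LP (LK LD1_c1 LD2_c43 LD3_c34)) :=
  Lgr Lrot162 (Lpr_cf (K2.f92283 IH) (Lpe (K2.f92294 IH) (Lpe (f62821 IH) (Lpr_gf (f97281 IH) (Lpr_dt (f18020 IH) (Lpr_gt (f97128 IH) (Lpe (f97145 IH) (Lpr_gt (f11534 IH) (Lpr_ct (f98017 IH) (Lpn (LP (LK LD1_c1 LD2_c43 LD3_c34))))))))))))
theorem f6564 : Led Lsl_gt (LP (LK LD1_c1 LD2_c43 LD3_c35)) = (LP (LK LD1_c0 LD2_c48 LD3_c25)) :=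
  Lre_g IH (LK LD1_c1 LD2_c43 LD3_c35) (LK LD1_c0 LD2_c48 LD3_c25) Lrfl Lrfl
theorem f92482 : Led Lsl_dt (LP (LK LD1_c0 LD2_c50 LD3_c4)) = (LP (LK LD1_c1 LD2_c43 LD3_c35)) :=
  Lgr Lrot57 (Lpe (K2.f5701 IH) (Lpe (K0.f397 IH) (Lpr_gt (K2.f92342 IH) (Lpr_dt (K2.f10788 IH) (Lpr_gt (K2.f6675 IH) (Lpr_dt (K2.f6674 IH) (Lpe (f6095 IH) (Lpe (f6562 IH) (Lpe (f6564 IH) (Lpn (LP (LK LD1_c1 LD2_c43 LD3_c35))))))))))))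
theorem f93150 : Led Lsl_df (LP (LK LD1_c0 LD2_c50 LD3_c4)) = (LP (LK LD1_c1 LD2_c43 LD3_c35)) :=
  Lgr Lrot38 (Lpr_dt (f92482 IH) (Lpn (LP (LK LD1_c1 LD2_c43 LD3_c35))))
theorem f6118 : Led Lsl_ct (LP (LK LD1_c1 LD2_c43 LD3_c36)) = (LP (LK LD1_c0 LD2_c48 LD3_c25)) :=
  Lre_c IH (LK LD1_c1 LD2_c43 LD3_c36) (LK LD1_c0 LD2_c48 LD3_c25) Lrfl Lrfl
theorem f98045 : Led Lsl_gf (LP (LK LD1_c1 LD2_c43 LD3_c35)) = (LP (LK LD1_c1 LD2_c43 LD3_c36)) :=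
  Lgr Lrot144 (Lpe (f93150 IH) (Lpr_gt (K2.f5238 IH) (Lpr_dt (K2.f4978 IH) (Lpe (K0.f5224 IH) (Lpe (K0.f398 IH) (Lpr_gf (K2.f5800 IH) (Lpr_df (f98037 IH) (Lpe (f6563 IH) (Lpe (f6118 IH) (Lpn (LP (LK LD1_c1 LD2_c43 LD3_c36))))))))))))
theorem f97322 : Led Lsl_ct (LP (LK LD1_c0 LD2_c49 LD3_c44)) = (LP (LK LD1_c0 LD2_c48 LD3_c23)) :=
  Lgr Lrot59 (Lpr_cf (f97316 IH) (Lpn (LP (LK LD1_c0 LD2_c48 LD3_c23))))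
theorem f98049 : Led Lsl_dt (LP (LK LD1_c0 LD2_c49 LD3_c12)) = (LP (LK LD1_c1 LD2_c43 LD3_c36)) :=
  Lgr Lrot57 (Lpe (f10790 IH) (Lpe (f97322 IH) (Lpe (f97909 IH) (Lpe (f87136 IH) (Lpe (K2.f84689 IH) (Lpr_dt (K2.f10782 IH) (Lpr_cf (K2.f94416 IH) (Lpr_df (f93150 IH) (Lpr_gf (f98045 IH) (Lpn (LP (LK LD1_c1 LD2_c43 LD3_c36))))))))))))
theorem f6097 : Led Lsl_dt (LP (LK LD1_c0 LD2_c21 LD3_c40)) = (LP (LK LD1_c0 LD2_c48 LD3_c25)) :=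
  Lre_d IH (LK LD1_c0 LD2_c21 LD3_c40) (LK LD1_c0 LD2_c48 LD3_c25) Lrfl Lrfl
theorem f6125 : Led Lsl_ct (LP (LK LD1_c0 LD2_c48 LD3_c25)) = (LP (LK LD1_c1 LD2_c43 LD3_c36)) :=
  Lre_c IH (LK LD1_c0 LD2_c48 LD3_c25) (LK LD1_c1 LD2_c43 LD3_c36) Lrfl Lrfl
theorem f98116 : Led Lsl_df (LP (LK LD1_c0 LD2_c49 LD3_c12)) = (LP (LK LD1_c1 LD2_c43 LD3_c36)) :=
  Lgr Lrot43 (Lpr_ct (f10268 IH) (Lpr_dt (f10277 IH) (Lpe (K2.f17631 IH) (Lpr_dt (f10266 IH) (Lpr_ct (f10270 IH) (Lpr_dt (f98049 IH) (Lpr_ct (f6118 IH) (Lpr_dt (f6562 IH) (Lpr_ct (f6095 IH) (Lpr_dt (K0.f10225 IH) (Lpe (K2.f17637 IH) (Lpr_dt (K2.f6674 IH) (Lpr_ct (f5889 IH) (Lpr_dt (f6097 IH) (Lpr_ct (f6125 IH) (Lpn (LP (LK LD1_c1 LD2_c43 LD3_c36))))))))))))))))))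
theorem f10478 : Led Lsl_ff (LP (LK LD1_c0 LD2_c48 LD3_c11)) = (LP (LK LD1_c0 LD2_c49 LD3_c12)) :=
  Lgr Lrot3 (Lpr_ft (f10455 IH) (Lpn (LP (LK LD1_c0 LD2_c49 LD3_c12))))
theorem f6409 : Led Lsl_at (LP (LK LD1_c0 LD2_c48 LD3_c11)) = (LP (LK LD1_c0 LD2_c21 LD3_c40)) :=
  Lre_a IH (LK LD1_c0 LD2_c48 LD3_c11) (LK LD1_c0 LD2_c21 LD3_c40) Lrfl Lrfl
theorem f6108 : Led Lsl_gt (LP (LK LD1_c0 LD2_c48 LD3_c24)) = (LP (LK LD1_c0 LD2_c21 LD3_c40)) :=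
  Lre_g IH (LK LD1_c0 LD2_c48 LD3_c24) (LK LD1_c0 LD2_c21 LD3_c40) Lrfl Lrfl
theorem f10499 : Led Lsl_gf (LP (LK LD1_c0 LD2_c48 LD3_c24)) = (LP (LK LD1_c0 LD2_c49 LD3_c12)) :=
  Lgr Lrot47 (Lpr_gt (f6108 IH) (Lpe (f6409 IH) (Lpr_ff (f10478 IH) (Lpn (LP (LK LD1_c0 LD2_c49 LD3_c12))))))
theorem f10501 : Led Lsl_dt (LP (LK LD1_c0 LD2_c48 LD3_c24)) = (LP (LK LD1_c1 LD2_c43 LD3_c32)) :=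
  Lre_d IH (LK LD1_c0 LD2_c48 LD3_c24) (LK LD1_c1 LD2_c43 LD3_c32) Lrfl Lrfl
theorem f98033 : Led Lsl_gf (LP (LK LD1_c1 LD2_c43 LD3_c36)) = (LP (LK LD1_c1 LD2_c43 LD3_c34)) :=
  Lgr Lrot104 (Lpr_ct (f6118 IH) (Lpe (f6097 IH) (Lpe (f5889 IH) (Lpe (f6667 IH) (Lpe (f6678 IH) (Lpr_gf (f96329 IH) (Lpe (f11557 IH) (Lpr_gt (f11534 IH) (Lpr_ct (f98017 IH) (Lpn (LP (LK LD1_c1 LD2_c43 LD3_c34))))))))))))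
theorem f11539 : Led Lsl_dt (LP (LK LD1_c0 LD2_c48 LD3_c18)) = (LP (LK LD1_c1 LD2_c43 LD3_c18)) :=
  Lre_d IH (LK LD1_c0 LD2_c48 LD3_c18) (LK LD1_c1 LD2_c43 LD3_c18) Lrfl Lrfl
theorem f98469 : Led Lsl_cf (LP (LK LD1_c1 LD2_c43 LD3_c32)) = (LP (LK LD1_c1 LD2_c43 LD3_c18)) :=
  Lgr Lrot14 (Lpe (f10501 IH) (Lpr_gf (f10499 IH) (Lpr_df (f98116 IH) (Lpr_gf (f98033 IH) (Lpe (f98013 IH) (Lpe (f97414 IH) (Lpr_dt (f97390 IH) (Lpr_gt (f10821 IH) (Lpr_dt (f11539 IH) (Lpn (LP (LK LD1_c1 LD2_c43 LD3_c18))))))))))))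
theorem f380 : Led Lsl_dt (LP (LK LD1_c0 LD2_c49 LD3_c53)) = (LP (LK LD1_c0 LD2_c22 LD3_c25)) :=
  Lre_d IH (LK LD1_c0 LD2_c49 LD3_c53) (LK LD1_c0 LD2_c22 LD3_c25) Lrfl Lrfl
theorem f97314 : Led Lsl_gf (LP (LK LD1_c0 LD2_c49 LD3_c53)) = (LP (LK LD1_c1 LD2_c43 LD3_c32)) :=
  Lgr Lrot143 (Lpr_dt (f380 IH) (Lpe (K0.f375 IH) (Lpe (K0.f374 IH) (Lpe (f384 IH) (Lpr_df (f97306 IH) (Lpr_gf (f10459 IH) (Lpe (f10268 IH) (Lpe (f10499 IH) (Lpr_dt (f10501 IH) (Lpn (LP (LK LD1_c1 LD2_c43 LD3_c32))))))))))))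
theorem f97277 : Led Lsl_gf (LP (LK LD1_c0 LD2_c22 LD3_c33)) = (LP (LK LD1_c0 LD2_c21 LD3_c61)) :=
  Lgr Lrot76 (Lpe (K0.f4937 IH) (Lpe (K0.f4963 IH) (Lpr_gt (f97194 IH) (Lpn (LP (LK LD1_c0 LD2_c21 LD3_c61))))))
theorem f19355 : Led Lsl_gt (LP (LK LD1_c1 LD2_c44 LD3_c42)) = (LP (LK LD1_c0 LD2_c49 LD3_c1)) :=
  Lre_g IH (LK LD1_c1 LD2_c44 LD3_c42) (LK LD1_c0 LD2_c49 LD3_c1) Lrfl Lrfl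
theorem f11537 : Led Lsl_gt (LP (LK LD1_c3 LD2_c33 LD3_c7)) = (LP (LK LD1_c1 LD2_c43 LD3_c18)) :=
  Lre_g IH (LK LD1_c3 LD2_c33 LD3_c7) (LK LD1_c1 LD2_c43 LD3_c18) Lrfl Lrfl
theorem f98480 : Led Lsl_df (LP (LK LD1_c1 LD2_c44 LD3_c42)) = (LP (LK LD1_c3 LD2_c33 LD3_c7)) :=
  Lgr Lrot155 (Lpr_gt (f19355 IH) (Lpr_ct (f18053 IH) (Lpe (f97277 IH) (Lpr_ct (K0.f4995 IH) (Lpe (K0.f4986 IH) (Lpe (K0.f377 IH) (Lpr_gf (f97314 IH) (Lpr_cf (f98469 IH) (Lpe (f11537 IH) (Lpn (LP (LK LD1_c3 LD2_c33 LD3_c7))))))))))))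
theorem f97196 : Led Lsl_df (LP (LK LD1_c1 LD2_c45 LD3_c25)) = (LP (LK LD1_c0 LD2_c49 LD3_c52)) :=
  Lgr Lrot155 (Lpr_gt (f6126 IH) (Lpe (f17641 IH) (Lpr_gt (f97186 IH) (Lpr_ct (f97122 IH) (Lpr_dt (f18054 IH) (Lpe (f5858 IH) (Lpe (f97194 IH) (Lpe (K2.f379 IH) (Lpe (f383 IH) (Lpn (LP (LK LD1_c0 LD2_c49 LD3_c52))))))))))))
theorem f382 : Led Lsl_at (LP (LK LD1_c0 LD2_c49 LD3_c49)) = (LP (LK LD1_c0 LD2_c22 LD3_c25)) :=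
  Lre_a IH (LK LD1_c0 LD2_c49 LD3_c49) (LK LD1_c0 LD2_c22 LD3_c25) Lrfl Lrfl
theorem f5051 : Led Lsl_gf (LP (LK LD1_c0 LD2_c49 LD3_c52)) = (LP (LK LD1_c0 LD2_c50 LD3_c1)) :=
  Lgr Lrot47 (Lpr_gt (f383 IH) (Lpe (f382 IH) (Lpr_ff (K0.f5028 IH) (Lpn (LP (LK LD1_c0 LD2_c50 LD3_c1))))))
theorem f10462 : Led Lsl_dt (LP (LK LD1_c0 LD2_c48 LD3_c21)) = (LP (LK LD1_c1 LD2_c43 LD3_c26)) :=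
  Lre_d IH (LK LD1_c0 LD2_c48 LD3_c21) (LK LD1_c1 LD2_c43 LD3_c26) Lrfl Lrfl
theorem f17610 : Led Lsl_ct (LP (LK LD1_c1 LD2_c45 LD3_c10)) = (LP (LK LD1_c1 LD2_c45 LD3_c22)) :=
  Lgr Lrot59 (Lpr_cf (f17504 IH) (Lpn (LP (LK LD1_c1 LD2_c45 LD3_c22))))
theorem f92289 : Led Lsl_ct (LP (LK LD1_c0 LD2_c48 LD3_c1)) = (LP (LK LD1_c0 LD2_c21 LD3_c31)) :=
  Lre_c IH (LK LD1_c0 LD2_c48 LD3_c1) (LK LD1_c0 LD2_c21 LD3_c31) Lrfl Lrfl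
theorem f94418 : Led Lsl_gt (LP (LK LD1_c1 LD2_c42 LD3_c50)) = (LP (LK LD1_c0 LD2_c48 LD3_c1)) :=
  Lre_g IH (LK LD1_c1 LD2_c42 LD3_c50) (LK LD1_c0 LD2_c48 LD3_c1) Lrfl Lrfl
theorem f94419 : Led Lsl_dt (LP (LK LD1_c1 LD2_c42 LD3_c50)) = (LP (LK LD1_c3 LD2_c32 LD3_c15)) :=
  Lre_d IH (LK LD1_c1 LD2_c42 LD3_c50) (LK LD1_c3 LD2_c32 LD3_c15) Lrfl Lrfl
theorem f94420 : Led Lsl_gt (LP (LK LD1_c3 LD2_c32 LD3_c15)) = (LP (LK LD1_c1 LD2_c45 LD3_c10)) :=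
  Lgr Lrot9 (Lpe (f94419 IH) (Lpr_gt (f94418 IH) (Lpr_ct (f92289 IH) (Lpr_gt (K2.f94412 IH) (Lpr_ct (K0.f397 IH) (Lpe (K2.f395 IH) (Lpr_cf (f5026 IH) (Lpe (f17467 IH) (Lpe (f17610 IH) (Lpn (LP (LK LD1_c1 LD2_c45 LD3_c10))))))))))))
theorem f11536 : Led Lsl_dt (LP (LK LD1_c1 LD2_c43 LD3_c18)) = (LP (LK LD1_c0 LD2_c48 LD3_c18)) :=
  Lre_d IH (LK LD1_c1 LD2_c43 LD3_c18) (LK LD1_c0 LD2_c48 LD3_c18) Lrfl Lrfl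
theorem f97133 : Led Lsl_dt (LP (LK LD1_c1 LD2_c45 LD3_c7)) = (LP (LK LD1_c3 LD2_c35 LD3_c45)) :=
  Lgr Lrot42 (Lpr_df (f97129 IH) (Lpn (LP (LK LD1_c3 LD2_c35 LD3_c45))))
theorem f97149 : Led Lsl_cf (LP (LK LD1_c3 LD2_c33 LD3_c7)) = (LP (LK LD1_c3 LD2_c32 LD3_c15)) :=
  Lgr Lrot166 (Lpr_gt (f11537 IH) (Lpr_dt (f11536 IH) (Lpe (K2.f11529 IH) (Lpr_dt (f11533 IH) (Lpr_ct (f97141 IH) (Lpe (f97133 IH) (Lpe (f5902 IH) (Lpe (f17506 IH) (Lpe (f94420 IH) (Lpn (LP (LK LD1_c3 LD2_c32 LD3_c15))))))))))))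
theorem f97153 : Led Lsl_ct (LP (LK LD1_c3 LD2_c33 LD3_c7)) = (LP (LK LD1_c3 LD2_c32 LD3_c15)) :=
  Lgr Lrot59 (Lpr_cf (f97149 IH) (Lpn (LP (LK LD1_c3 LD2_c32 LD3_c15))))
theorem f97376 : Led Lsl_gt (LP (LK LD1_c1 LD2_c43 LD3_c26)) = (LP (LK LD1_c3 LD2_c33 LD3_c7)) :=
  Lgr Lrot9 (Lpe (f10462 IH) (Lpr_gt (f97371 IH) (Lpe (f96936 IH) (Lpr_gt (K2.f17469 IH) (Lpe (K2.f90064 IH) (Lpe (f10485 IH) (Lpe (f17610 IH) (Lpe (f94420 IH) (Lpe (f97153 IH) (Lpn (LP (LK LD1_c3 LD2_c33 LD3_c7))))))))))))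
theorem f94414 : Led Lsl_gf (LP (LK LD1_c0 LD2_c21 LD3_c31)) = (LP (LK LD1_c0 LD2_c10 LD3_c10)) :=
  Lgr Lrot47 (Lpr_gt (K2.f94412 IH) (Lpe (K2.f4953 IH) (Lpr_ff (K0.f4951 IH) (Lpn (LP (LK LD1_c0 LD2_c10 LD3_c10))))))
theorem f98051 : Led Lsl_ct (LP (LK LD1_c1 LD2_c43 LD3_c35)) = (LP (LK LD1_c1 LD2_c42 LD3_c52)) :=
  Lgr Lrot110 (Lpr_gf (f98045 IH) (Lpe (f6125 IH) (Lpe (f6564 IH) (Lpe (f92482 IH) (Lpr_gt (K2.f5238 IH) (Lpr_ct (K0.f4956 IH) (Lpe (f94414 IH) (Lpr_ct (f92336 IH) (Lpe (f92290 IH) (Lpn (LP (LK LD1_c1 LD2_c42 LD3_c52))))))))))))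
theorem f6104 : Led Lsl_dt (LP (LK LD1_c0 LD2_c48 LD3_c23)) = (LP (LK LD1_c1 LD2_c43 LD3_c29)) :=
  Lre_d IH (LK LD1_c0 LD2_c48 LD3_c23) (LK LD1_c1 LD2_c43 LD3_c29) Lrfl Lrfl
theorem f97405 : Led Lsl_gt (LP (LK LD1_c1 LD2_c42 LD3_c52)) = (LP (LK LD1_c1 LD2_c51 LD3_c35)) :=
  Lgr Lrot46 (Lpe (f97373 IH) (Lpr_ft (f97396 IH) (Lpe (f97075 IH) (Lpn (LP (LK LD1_c1 LD2_c51 LD3_c35))))))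
theorem f98081 : Led Lsl_cf (LP (LK LD1_c1 LD2_c43 LD3_c29)) = (LP (LK LD1_c1 LD2_c43 LD3_c26)) :=
  Lgr Lrot14 (Lpe (f6104 IH) (Lpe (f6103 IH) (Lpe (f6562 IH) (Lpe (f6564 IH) (Lpr_ct (f98051 IH) (Lpr_gt (f97405 IH) (Lpr_dt (f11557 IH) (Lpe (f96329 IH) (Lpr_dt (f10462 IH) (Lpn (LP (LK LD1_c1 LD2_c43 LD3_c26))))))))))))
theorem f98087 : Led Lsl_ct (LP (LK LD1_c1 LD2_c43 LD3_c29)) = (LP (LK LD1_c1 LD2_c43 LD3_c26)) :=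
  Lgr Lrot59 (Lpr_cf (f98081 IH) (Lpn (LP (LK LD1_c1 LD2_c43 LD3_c26))))
theorem f98490 : Led Lsl_gf (LP (LK LD1_c1 LD2_c46 LD3_c15)) = (LP (LK LD1_c1 LD2_c43 LD3_c29)) :=
  Lgr Lrot144 (Lpr_dt (K0.f4975 IH) (Lpe (f5051 IH) (Lpe (f97196 IH) (Lpr_cf (f97084 IH) (Lpe (f18020 IH) (Lpe (f19355 IH) (Lpr_df (f98480 IH) (Lpe (f97376 IH) (Lpe (f98087 IH) (Lpn (LP (LK LD1_c1 LD2_c43 LD3_c29))))))))))))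
theorem f5784 : Led Lsl_dt (LP (LK LD1_c0 LD2_c51 LD3_c60)) = (LP (LK LD1_c1 LD2_c50 LD3_c16)) :=
  Lre_d IH (LK LD1_c0 LD2_c51 LD3_c60) (LK LD1_c1 LD2_c50 LD3_c16) Lrfl Lrfl
theorem f98498 : Led Lsl_gt (LP (LK LD1_c1 LD2_c50 LD3_c16)) = (LP (LK LD1_c1 LD2_c43 LD3_c26)) :=
  Lgr Lrot9 (Lpe (f5784 IH) (Lpe (K2.f94478 IH) (Lpr_ct (K2.f10758 IH) (Lpr_gt (K0.f17956 IH) (Lpr_ct (K0.f375 IH) (Lpe (f380 IH) (Lpe (K0.f381 IH) (Lpr_gf (f98490 IH) (Lpr_cf (f98081 IH) (Lpn (LP (LK LD1_c1 LD2_c43 LD3_c26))))))))))))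
theorem f10463 : Led Lsl_dt (LP (LK LD1_c1 LD2_c43 LD3_c26)) = (LP (LK LD1_c0 LD2_c48 LD3_c21)) :=
  Lre_d IH (LK LD1_c1 LD2_c43 LD3_c26) (LK LD1_c0 LD2_c48 LD3_c21) Lrfl Lrfl
theorem f97460 : Led Lsl_dt (LP (LK LD1_c1 LD2_c41 LD3_c30)) = (LP (LK LD1_c3 LD2_c29 LD3_c32)) :=
  Lre_d IH (LK LD1_c1 LD2_c41 LD3_c30) (LK LD1_c3 LD2_c29 LD3_c32) Lrfl Lrfl
theorem f92518 : Led Lsl_dt (LP (LK LD1_c0 LD2_c10 LD3_c7)) = (LP (LK LD1_c0 LD2_c22 LD3_c6)) :=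
  Lgr Lrot42 (Lpr_df (K2.f92512 IH) (Lpn (LP (LK LD1_c0 LD2_c22 LD3_c6))))
theorem f17471 : Led Lsl_ct (LP (LK LD1_c0 LD2_c49 LD3_c21)) = (LP (LK LD1_c0 LD2_c49 LD3_c61)) :=
  Lgr Lrot151 (Lpe (K0.f6672 IH) (Lpe (K0.f6093 IH) (Lpe (K0.f5904 IH) (Lpr_dt (K0.f17463 IH) (Lpr_gt (K0.f5241 IH) (Lpr_ct (K0.f5000 IH) (Lpr_gt (K0.f5709 IH) (Lpr_ct (K2.f5710 IH) (Lpr_dt (K2.f5712 IH) (Lpn (LP (LK LD1_c0 LD2_c49 LD3_c61))))))))))))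
theorem f93079 : Led Lsl_cf (LP (LK LD1_c1 LD2_c45 LD3_c19)) = (LP (LK LD1_c1 LD2_c45 LD3_c14)) :=
  Lgr Lrot55 (Lpr_dt (K2.f10680 IH) (Lpr_ct (f17471 IH) (Lpr_dt (K0.f5711 IH) (Lpr_ct (K0.f5717 IH) (Lpr_dt (f92518 IH) (Lpr_ct (f5901 IH) (Lpr_dt (f17503 IH) (Lpr_ct (f17610 IH) (Lpr_dt (f10485 IH) (Lpr_ct (f90069 IH) (Lpr_dt (K2.f5245 IH) (Lpr_ct (K1.f5247 IH) (Lpe (K0.f17465 IH) (Lpr_ct (f10803 IH) (Lpr_dt (f10805 IH) (Lpn (LP (LK LD1_c1 LD2_c45 LD3_c14))))))))))))))))))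
theorem f97461 : Led Lsl_gt (LP (LK LD1_c3 LD2_c29 LD3_c32)) = (LP (LK LD1_c1 LD2_c45 LD3_c14)) :=
  Lgr Lrot9 (Lpe (f97460 IH) (Lpr_gt (f97456 IH) (Lpr_ct (f10780 IH) (Lpe (K2.f92338 IH) (Lpr_ct (K2.f3923 IH) (Lpe (K0.f5231 IH) (Lpe (K0.f5224 IH) (Lpr_gf (K2.f92522 IH) (Lpr_cf (f93079 IH) (Lpn (LP (LK LD1_c1 LD2_c45 LD3_c14))))))))))))
theorem f98508 : Led Lsl_cf (LP (LK LD1_c1 LD2_c50 LD3_c16)) = (LP (LK LD1_c3 LD2_c29 LD3_c32)) :=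
  Lgr Lrot166 (Lpr_gt (f98498 IH) (Lpr_dt (f10463 IH) (Lpr_gt (f97371 IH) (Lpe (f97374 IH) (Lpr_ct (f97388 IH) (Lpe (f97030 IH) (Lpr_gf (f97027 IH) (Lpe (f10804 IH) (Lpe (f97461 IH) (Lpn (LP (LK LD1_c3 LD2_c29 LD3_c32))))))))))))
theorem f97416 : Led Lsl_cf (LP (LK LD1_c3 LD2_c32 LD3_c20)) = (LP (LK LD1_c3 LD2_c35 LD3_c46)) :=
  Lgr Lrot102 (Lpr_af (f97399 IH) (Lpe (f97139 IH) (Lpr_dt (f11557 IH) (Lpr_ct (K2.f11538 IH) (Lpr_dt (K2.f84726 IH) (Lpr_ct (K2.f84687 IH) (Lpr_dt (f87146 IH) (Lpe (f97012 IH) (Lpr_dt (f97030 IH) (Lpn (LP (LK LD1_c3 LD2_c35 LD3_c46))))))))))))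
theorem f98540 : Led Lsl_gt (LP (LK LD1_c0 LD2_c48 LD3_c1)) = (LP (LK LD1_c1 LD2_c41 LD3_c30)) :=
  Lgr Lrot49 (Lpe (f92290 IH) (Lpe (f97373 IH) (Lpr_cf (f97416 IH) (Lpr_gt (f97029 IH) (Lpr_dt (f18054 IH) (Lpe (f97281 IH) (Lpr_dt (f5784 IH) (Lpr_cf (f98508 IH) (Lpe (f97460 IH) (Lpn (LP (LK LD1_c1 LD2_c41 LD3_c30))))))))))))
theorem f24950 : Led Lsl_ct (LP (LK LD1_c1 LD2_c41 LD3_c30)) = (LP (LK LD1_c0 LD2_c47 LD3_c19)) :=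
  Lre_c IH (LK LD1_c1 LD2_c41 LD3_c30) (LK LD1_c0 LD2_c47 LD3_c19) Lrfl Lrfl
theorem f5798 : Led Lsl_bt (LP (LK LD1_c0 LD2_c23 LD3_c15)) = (LP (LK LD1_c0 LD2_c10 LD3_c28)) :=
  Lre_b IH (LK LD1_c0 LD2_c23 LD3_c15) (LK LD1_c0 LD2_c10 LD3_c28) Lrfl Lrfl
theorem f95975 : Led Lsl_dt (LP (LK LD1_c0 LD2_c47 LD3_c19)) = (LP (LK LD1_c0 LD2_c23 LD3_c15)) :=
  Lgr Lrot79 (Lpe (K2.f64796 IH) (Lpr_df (f95967 IH) (Lpe (f5798 IH) (Lpn (LP (LK LD1_c0 LD2_c23 LD3_c15))))))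
theorem f98543 : Led Lsl_ct (LP (LK LD1_c0 LD2_c49 LD3_c60)) = (LP (LK LD1_c0 LD2_c23 LD3_c15)) :=
  Lgr Lrot151 (Lpe (K2.f5754 IH) (Lpe (K2.f5710 IH) (Lpe (K0.f5709 IH) (Lpr_dt (f4959 IH) (Lpe (f94414 IH) (Lpr_ct (f92336 IH) (Lpr_gt (f98540 IH) (Lpr_ct (f24950 IH) (Lpr_dt (f95975 IH) (Lpn (LP (LK LD1_c0 LD2_c23 LD3_c15))))))))))))
theorem f94659 : Led Lsl_bt (LP (LK LD1_c0 LD2_c9 LD3_c26)) = (LP (LK LD1_c0 LD2_c20 LD3_c48)) :=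
  Lre_b IH (LK LD1_c0 LD2_c9 LD3_c26) (LK LD1_c0 LD2_c20 LD3_c48) Lrfl Lrfl
theorem f9809 : Led Lsl_bt (LP (LK LD1_c0 LD2_c20 LD3_c48)) = (LP (LK LD1_c0 LD2_c9 LD3_c26)) :=
  Lre_b IH (LK LD1_c0 LD2_c20 LD3_c48) (LK LD1_c0 LD2_c9 LD3_c26) Lrfl Lrfl
theorem f9810 : Led Lsl_ct (LP (LK LD1_c0 LD2_c20 LD3_c48)) = (LP (LK LD1_c0 LD2_c46 LD3_c19)) :=
  Lre_c IH (LK LD1_c0 LD2_c20 LD3_c48) (LK LD1_c0 LD2_c46 LD3_c19) Lrfl Lrfl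
theorem f12341 : Led Lsl_gt (LP (LK LD1_c0 LD2_c22 LD3_c42)) = (LP (LK LD1_c0 LD2_c46 LD3_c19)) :=
  Lgr Lrot149 (Lpe (K1.f12339 IH) (Lpe (K1.f4898 IH) (Lpe (K0.f4477 IH) (Lpr_ct (K0.f12189 IH) (Lpe (K0.f59 IH) (Lpe (K0.f361 IH) (Lpr_bt (K1.f9766 IH) (Lpe (K2.f12340 IH) (Lpe (f9809 IH) (Lpr_ct (f9810 IH) (Lpn (LP (LK LD1_c0 LD2_c46 LD3_c19)))))))))))))
theorem f12350 : Led Lsl_bt (LP (LK LD1_c0 LD2_c10 LD3_c15)) = (LP (LK LD1_c0 LD2_c22 LD3_c32)) :=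
  Lgr Lrot127 (Lpr_bf (K1.f12343 IH) (Lpn (LP (LK LD1_c0 LD2_c22 LD3_c32))))
theorem f94668 : Led Lsl_gf (LP (LK LD1_c0 LD2_c22 LD3_c32)) = (LP (LK LD1_c0 LD2_c49 LD3_c60)) :=
  Lgr Lrot124 (Lpe (f12350 IH) (Lpr_ct (K1.f12339 IH) (Lpr_gt (f12341 IH) (Lpe (f9810 IH) (Lpr_bt (f9809 IH) (Lpr_gt (K2.f12340 IH) (Lpr_ct (K0.f12570 IH) (Lpr_gt (K2.f12571 IH) (Lpr_cf (K2.f94657 IH) (Lpr_bt (K2.f5793 IH) (Lpn (LP (LK LD1_c0 LD2_c49 LD3_c60)))))))))))))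
theorem f6732 : Led Lsl_bt (LP (LK LD1_c0 LD2_c2 LD3_c17)) = (LP (LK LD1_c0 LD2_c4 LD3_c60)) :=
  Lre_b IH (LK LD1_c0 LD2_c2 LD3_c17) (LK LD1_c0 LD2_c4 LD3_c60) Lrfl Lrfl
theorem f95965 : Led Lsl_cf (LP (LK LD1_c0 LD2_c49 LD3_c60)) = (LP (LK LD1_c0 LD2_c23 LD3_c15)) :=
  Lgr Lrot163 (Lpe (K2.f5754 IH) (Lpe (K2.f5710 IH) (Lpe (K0.f5709 IH) (Lpe (K2.f4905 IH) (Lpr_ct (K0.f3900 IH) (Lpr_gf (K0.f9922 IH) (Lpe (K0.f6731 IH) (Lpr_bt (f6732 IH) (Lpr_gf (f95743 IH) (Lpe (f5798 IH) (Lpn (LP (LK LD1_c0 LD2_c23 LD3_c15)))))))))))))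
theorem f98011 : Led Lsl_gt (LP (LK LD1_c0 LD2_c23 LD3_c15)) = (LP (LK LD1_c0 LD2_c22 LD3_c20)) :=
  Lgr Lrot180 (Lpe (f95965 IH) (Lpe (f94668 IH) (Lpr_dt (f5246 IH) (Lpr_gt (f87159 IH) (Lpr_dt (K2.f84726 IH) (Lpr_ct (K2.f84687 IH) (Lpr_df (f87136 IH) (Lpr_gf (f97909 IH) (Lpe (f387 IH) (Lpn (LP (LK LD1_c0 LD2_c22 LD3_c20))))))))))))
theorem f98608 : Led Lsl_bt (LP (LK LD1_c0 LD2_c10 LD3_c2)) = (LP (LK LD1_c0 LD2_c22 LD3_c19)) :=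
  Lre_b IH (LK LD1_c0 LD2_c10 LD3_c2) (LK LD1_c0 LD2_c22 LD3_c19) Lrfl Lrfl
theorem f98609 : Led Lsl_gf (LP (LK LD1_c0 LD2_c20 LD3_c48)) = (LP (LK LD1_c0 LD2_c22 LD3_c19)) :=
  Lgr Lrot124 (Lpe (f94659 IH) (Lpr_ct (K2.f9807 IH) (Lpr_gt (K2.f94653 IH) (Lpr_cf (K2.f23697 IH) (Lpr_bt (K2.f5721 IH) (Lpr_gt (K2.f5754 IH) (Lpr_ct (f98543 IH) (Lpr_gt (f98011 IH) (Lpe (f386 IH) (Lpr_bt (f98608 IH) (Lpn (LP (LK LD1_c0 LD2_c22 LD3_c19)))))))))))))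
theorem f98611 : Led Lsl_at (LP (LK LD1_c0 LD2_c46 LD3_c18)) = (LP (LK LD1_c0 LD2_c20 LD3_c48)) :=
  Lre_a IH (LK LD1_c0 LD2_c46 LD3_c18) (LK LD1_c0 LD2_c20 LD3_c48) Lrfl Lrfl
theorem f65390 : Led Lsl_gt (LP (LK LD1_c0 LD2_c43 LD3_c53)) = (LP (LK LD1_c0 LD2_c22 LD3_c19)) :=
  Lre_g IH (LK LD1_c0 LD2_c43 LD3_c53) (LK LD1_c0 LD2_c22 LD3_c19) Lrfl Lrfl
theorem f98612 : Led Lsl_ff (LP (LK LD1_c0 LD2_c46 LD3_c18)) = (LP (LK LD1_c0 LD2_c43 LD3_c53)) :=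
  Lgr Lrot52 (Lpr_at (f98611 IH) (Lpr_gf (f98609 IH) (Lpe (f65390 IH) (Lpn (LP (LK LD1_c0 LD2_c43 LD3_c53))))))
theorem f94281 : Led Lsl_et (LP (LK LD1_c0 LD2_c46 LD3_c18)) = (LP (LK LD1_c1 LD2_c39 LD3_c35)) :=
  Lre_e IH (LK LD1_c0 LD2_c46 LD3_c18) (LK LD1_c1 LD2_c39 LD3_c35) Lrfl Lrfl
theorem f94243 : Led Lsl_ft (LP (LK LD1_c0 LD2_c9 LD3_c25)) = (LP (LK LD1_c0 LD2_c20 LD3_c47)) :=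
  Lre_f IH (LK LD1_c0 LD2_c9 LD3_c25) (LK LD1_c0 LD2_c20 LD3_c47) Lrfl Lrfl
theorem f94244 : Led Lsl_et (LP (LK LD1_c0 LD2_c20 LD3_c47)) = (LP (LK LD1_c0 LD2_c46 LD3_c16)) :=
  Lre_e IH (LK LD1_c0 LD2_c20 LD3_c47) (LK LD1_c0 LD2_c46 LD3_c16) Lrfl Lrfl
theorem f94245 : Led Lsl_ft (LP (LK LD1_c0 LD2_c20 LD3_c47)) = (LP (LK LD1_c0 LD2_c9 LD3_c25)) :=
  Lre_f IH (LK LD1_c0 LD2_c20 LD3_c47) (LK LD1_c0 LD2_c9 LD3_c25) Lrfl Lrfl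
theorem f94246 : Led Lsl_et (LP (LK LD1_c0 LD2_c46 LD3_c16)) = (LP (LK LD1_c0 LD2_c20 LD3_c47)) :=
  Lre_e IH (LK LD1_c0 LD2_c46 LD3_c16) (LK LD1_c0 LD2_c20 LD3_c47) Lrfl Lrfl
theorem f94247 : Led Lsl_ft (LP (LK LD1_c0 LD2_c46 LD3_c16)) = (LP (LK LD1_c0 LD2_c46 LD3_c16)) :=
  Lgr Lrot86 (Lpe (f94244 IH) (Lpe (f94243 IH) (Lpr_ef (K2.f94229 IH) (Lpe (f94245 IH) (Lpe (f94246 IH) (Lpn (LP (LK LD1_c0 LD2_c46 LD3_c16))))))))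
theorem f94249 : Led Lsl_at (LP (LK LD1_c0 LD2_c20 LD3_c51)) = (LP (LK LD1_c0 LD2_c46 LD3_c16)) :=
  Lre_a IH (LK LD1_c0 LD2_c20 LD3_c51) (LK LD1_c0 LD2_c46 LD3_c16) Lrfl Lrfl
theorem f94250 : Led Lsl_at (LP (LK LD1_c0 LD2_c46 LD3_c16)) = (LP (LK LD1_c0 LD2_c20 LD3_c51)) :=
  Lre_a IH (LK LD1_c0 LD2_c46 LD3_c16) (LK LD1_c0 LD2_c20 LD3_c51) Lrfl Lrfl
theorem f94251 : Led Lsl_ff (LP (LK LD1_c0 LD2_c20 LD3_c51)) = (LP (LK LD1_c0 LD2_c20 LD3_c51)) :=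
  Lgr Lrot30 (Lpr_at (f94249 IH) (Lpr_ft (f94247 IH) (Lpr_at (f94250 IH) (Lpn (LP (LK LD1_c0 LD2_c20 LD3_c51))))))
theorem f94256 : Led Lsl_bt (LP (LK LD1_c0 LD2_c20 LD3_c51)) = (LP (LK LD1_c0 LD2_c46 LD3_c21)) :=
  Lre_b IH (LK LD1_c0 LD2_c20 LD3_c51) (LK LD1_c0 LD2_c46 LD3_c21) Lrfl Lrfl
theorem f94257 : Led Lsl_bt (LP (LK LD1_c0 LD2_c46 LD3_c21)) = (LP (LK LD1_c0 LD2_c20 LD3_c51)) :=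
  Lre_b IH (LK LD1_c0 LD2_c46 LD3_c21) (LK LD1_c0 LD2_c20 LD3_c51) Lrfl Lrfl
theorem f94258 : Led Lsl_ft (LP (LK LD1_c0 LD2_c46 LD3_c21)) = (LP (LK LD1_c0 LD2_c46 LD3_c21)) :=
  Lgr Lrot75 (Lpe (f94256 IH) (Lpr_ff (f94251 IH) (Lpe (f94257 IH) (Lpn (LP (LK LD1_c0 LD2_c46 LD3_c21))))))
theorem f94268 : Led Lsl_at (LP (LK LD1_c1 LD2_c39 LD3_c35)) = (LP (LK LD1_c0 LD2_c46 LD3_c21)) :=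
  Lre_a IH (LK LD1_c1 LD2_c39 LD3_c35) (LK LD1_c0 LD2_c46 LD3_c21) Lrfl Lrfl
theorem f94269 : Led Lsl_at (LP (LK LD1_c0 LD2_c46 LD3_c21)) = (LP (LK LD1_c1 LD2_c39 LD3_c35)) :=
  Lre_a IH (LK LD1_c0 LD2_c46 LD3_c21) (LK LD1_c1 LD2_c39 LD3_c35) Lrfl Lrfl
theorem f94270 : Led Lsl_ff (LP (LK LD1_c1 LD2_c39 LD3_c35)) = (LP (LK LD1_c1 LD2_c39 LD3_c35)) :=
  Lgr Lrot30 (Lpr_at (f94268 IH) (Lpr_ft (f94258 IH) (Lpr_at (f94269 IH) (Lpn (LP (LK LD1_c1 LD2_c39 LD3_c35))))))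
theorem f94285 : Led Lsl_et (LP (LK LD1_c1 LD2_c39 LD3_c35)) = (LP (LK LD1_c0 LD2_c46 LD3_c18)) :=
  Lre_e IH (LK LD1_c1 LD2_c39 LD3_c35) (LK LD1_c0 LD2_c46 LD3_c18) Lrfl Lrfl
theorem f65405 : Led Lsl_ef (LP (LK LD1_c0 LD2_c19 LD3_c35)) = (LP (LK LD1_c0 LD2_c19 LD3_c35)) :=
  Lgr Lrot28 (Lpr_ct (f14706 IH) (Lpr_et (f65397 IH) (Lpr_ct (K1.f23461 IH) (Lpn (LP (LK LD1_c0 LD2_c19 LD3_c35))))))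
theorem f14707 : Led Lsl_bt (LP (LK LD1_c0 LD2_c19 LD3_c35)) = (LP (LK LD1_c0 LD2_c43 LD3_c53)) :=
  Lre_b IH (LK LD1_c0 LD2_c19 LD3_c35) (LK LD1_c0 LD2_c43 LD3_c53) Lrfl Lrfl
theorem f23334 : Led Lsl_bt (LP (LK LD1_c0 LD2_c43 LD3_c53)) = (LP (LK LD1_c0 LD2_c19 LD3_c35)) :=
  Lre_b IH (LK LD1_c0 LD2_c43 LD3_c53) (LK LD1_c0 LD2_c19 LD3_c35) Lrfl Lrfl
theorem f65497 : Led Lsl_et (LP (LK LD1_c0 LD2_c43 LD3_c53)) = (LP (LK LD1_c0 LD2_c43 LD3_c53)) :=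
  Lgr Lrot74 (Lpe (f14707 IH) (Lpr_ef (f65405 IH) (Lpe (f23334 IH) (Lpn (LP (LK LD1_c0 LD2_c43 LD3_c53))))))
theorem f98627 : Led Lsl_ft (LP (LK LD1_c0 LD2_c46 LD3_c18)) = (LP (LK LD1_c0 LD2_c43 LD3_c53)) :=
  Lgr Lrot86 (Lpe (f94285 IH) (Lpr_ff (f94270 IH) (Lpe (f94281 IH) (Lpr_ff (f98612 IH) (Lpe (f65497 IH) (Lpn (LP (LK LD1_c0 LD2_c43 LD3_c53))))))))
theorem f98634 : Led Lsl_dt (LP (LK LD1_c1 LD2_c39 LD3_c34)) = (LP (LK LD1_c0 LD2_c46 LD3_c18)) :=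
  Lre_d IH (LK LD1_c1 LD2_c39 LD3_c34) (LK LD1_c0 LD2_c46 LD3_c18) Lrfl Lrfl
theorem f65533 : Led Lsl_dt (LP (LK LD1_c0 LD2_c43 LD3_c53)) = (LP (LK LD1_c1 LD2_c34 LD3_c23)) :=
  Lre_d IH (LK LD1_c0 LD2_c43 LD3_c53) (LK LD1_c1 LD2_c34 LD3_c23) Lrfl Lrfl
theorem f98635 : Led Lsl_ff (LP (LK LD1_c1 LD2_c39 LD3_c34)) = (LP (LK LD1_c1 LD2_c34 LD3_c23)) :=
  Lgr Lrot19 (Lpr_dt (f98634 IH) (Lpr_ft (f98627 IH) (Lpr_dt (f65533 IH) (Lpn (LP (LK LD1_c1 LD2_c34 LD3_c23))))))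
theorem f62824 : Led Lsl_bt (LP (LK LD1_c0 LD2_c43 LD3_c54)) = (LP (LK LD1_c1 LD2_c34 LD3_c23)) :=
  Lre_b IH (LK LD1_c0 LD2_c43 LD3_c54) (LK LD1_c1 LD2_c34 LD3_c23) Lrfl Lrfl
theorem f98638 : Led Lsl_ft (LP (LK LD1_c1 LD2_c34 LD3_c27)) = (LP (LK LD1_c0 LD2_c43 LD3_c54)) :=
  Lre_f IH (LK LD1_c1 LD2_c34 LD3_c27) (LK LD1_c0 LD2_c43 LD3_c54) Lrfl Lrfl
theorem f98639 : Led Lsl_bt (LP (LK LD1_c1 LD2_c39 LD3_c34)) = (LP (LK LD1_c1 LD2_c34 LD3_c27)) :=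
  Lgr Lrot35 (Lpr_ff (f98635 IH) (Lpe (f62824 IH) (Lpe (f98638 IH) (Lpn (LP (LK LD1_c1 LD2_c34 LD3_c27))))))
theorem f98645 : Led Lsl_bf (LP (LK LD1_c1 LD2_c39 LD3_c34)) = (LP (LK LD1_c1 LD2_c34 LD3_c27)) :=
  Lgr Lrot24 (Lpr_bt (f98639 IH) (Lpn (LP (LK LD1_c1 LD2_c34 LD3_c27))))
theorem f98637 : Led Lsl_at (LP (LK LD1_c1 LD2_c39 LD3_c34)) = (LP (LK LD1_c0 LD2_c46 LD3_c20)) :=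
  Lre_a IH (LK LD1_c1 LD2_c39 LD3_c34) (LK LD1_c0 LD2_c46 LD3_c20) Lrfl Lrfl
theorem f12594 : Led Lsl_bt (LP (LK LD1_c0 LD2_c46 LD3_c20)) = (LP (LK LD1_c0 LD2_c20 LD3_c50)) :=
  Lre_b IH (LK LD1_c0 LD2_c46 LD3_c20) (LK LD1_c0 LD2_c20 LD3_c50) Lrfl Lrfl
theorem f65951 : Led Lsl_at (LP (LK LD1_c0 LD2_c44 LD3_c1)) = (LP (LK LD1_c1 LD2_c34 LD3_c27)) :=
  Lre_a IH (LK LD1_c0 LD2_c44 LD3_c1) (LK LD1_c1 LD2_c34 LD3_c27) Lrfl Lrfl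
theorem f98649 : Led Lsl_at (LP (LK LD1_c0 LD2_c20 LD3_c50)) = (LP (LK LD1_c0 LD2_c45 LD3_c46)) :=
  Lgr Lrot67 (Lpe (f12594 IH) (Lpe (f98637 IH) (Lpr_bf (f98645 IH) (Lpe (f65951 IH) (Lpr_bf (K2.f65847 IH) (Lpn (LP (LK LD1_c0 LD2_c45 LD3_c46))))))))
theorem f98657 : Led Lsl_ff (LP (LK LD1_c0 LD2_c20 LD3_c50)) = (LP (LK LD1_c0 LD2_c45 LD3_c47)) :=
  Lgr Lrot52 (Lpr_at (f98649 IH) (Lpe (K2.f11078 IH) (Lpe (K2.f11076 IH) (Lpn (LP (LK LD1_c0 LD2_c45 LD3_c47))))))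
theorem f98665 : Led Lsl_ft (LP (LK LD1_c0 LD2_c20 LD3_c50)) = (LP (LK LD1_c0 LD2_c45 LD3_c47)) :=
  Lgr Lrot48 (Lpr_ff (f98657 IH) (Lpn (LP (LK LD1_c0 LD2_c45 LD3_c47))))
theorem f98674 : Led Lsl_af (LP (LK LD1_c0 LD2_c20 LD3_c46)) = (LP (LK LD1_c0 LD2_c45 LD3_c47)) :=
  Lgr Lrot31 (Lpe (K2.f94208 IH) (Lpr_gf (K2.f90883 IH) (Lpr_ft (f98665 IH) (Lpn (LP (LK LD1_c0 LD2_c45 LD3_c47))))))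
theorem f98642 : Led Lsl_at (LP (LK LD1_c0 LD2_c46 LD3_c20)) = (LP (LK LD1_c1 LD2_c39 LD3_c34)) :=
  Lre_a IH (LK LD1_c0 LD2_c46 LD3_c20) (LK LD1_c1 LD2_c39 LD3_c34) Lrfl Lrfl
theorem f97679 : Led Lsl_bt (LP (LK LD1_c0 LD2_c20 LD3_c50)) = (LP (LK LD1_c0 LD2_c46 LD3_c20)) :=
  Lre_b IH (LK LD1_c0 LD2_c20 LD3_c50) (LK LD1_c0 LD2_c46 LD3_c20) Lrfl Lrfl
theorem f65846 : Led Lsl_at (LP (LK LD1_c1 LD2_c34 LD3_c27)) = (LP (LK LD1_c0 LD2_c44 LD3_c1)) :=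
  Lre_a IH (LK LD1_c1 LD2_c34 LD3_c27) (LK LD1_c0 LD2_c44 LD3_c1) Lrfl Lrfl
theorem f98643 : Led Lsl_af (LP (LK LD1_c0 LD2_c20 LD3_c50)) = (LP (LK LD1_c0 LD2_c45 LD3_c46)) :=
  Lgr Lrot36 (Lpr_bt (f97679 IH) (Lpr_at (f98642 IH) (Lpr_bt (f98639 IH) (Lpr_at (f65846 IH) (Lpr_bt (K2.f65832 IH) (Lpn (LP (LK LD1_c0 LD2_c45 LD3_c46))))))))
theorem f98682 : Led Lsl_ft (LP (LK LD1_c0 LD2_c20 LD3_c46)) = (LP (LK LD1_c0 LD2_c45 LD3_c46)) :=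
  Lgr Lrot101 (Lpr_af (f98674 IH) (Lpe (f98665 IH) (Lpr_af (f98643 IH) (Lpn (LP (LK LD1_c0 LD2_c45 LD3_c46))))))
theorem f98688 : Led Lsl_ff (LP (LK LD1_c0 LD2_c20 LD3_c46)) = (LP (LK LD1_c0 LD2_c45 LD3_c46)) :=
  Lgr Lrot3 (Lpr_ft (f98682 IH) (Lpn (LP (LK LD1_c0 LD2_c45 LD3_c46))))
theorem f98694 : Led Lsl_dt (LP (LK LD1_c0 LD2_c20 LD3_c47)) = (LP (LK LD1_c0 LD2_c45 LD3_c46)) :=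
  Lgr Lrot60 (Lpe (f94243 IH) (Lpe (K2.f14988 IH) (Lpr_ff (f98688 IH) (Lpn (LP (LK LD1_c0 LD2_c45 LD3_c46))))))
theorem f98705 : Led Lsl_gt (LP (LK LD1_c0 LD2_c20 LD3_c47)) = (LP (LK LD1_c0 LD2_c9 LD3_c27)) :=
  Lgr Lrot146 (Lpr_dt (f98694 IH) (Lpe (K2.f18171 IH) (Lpr_ct (K2.f18077 IH) (Lpe (K2.f65855 IH) (Lpr_ct (K2.f65862 IH) (Lpr_dt (K2.f65863 IH) (Lpe (K2.f23708 IH) (Lpr_gf (K2.f95253 IH) (Lpe (K0.f9760 IH) (Lpn (LP (LK LD1_c0 LD2_c9 LD3_c27))))))))))))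
theorem f98700 : Led Lsl_ct (LP (LK LD1_c0 LD2_c46 LD3_c13)) = (LP (LK LD1_c0 LD2_c20 LD3_c47)) :=
  Lre_c IH (LK LD1_c0 LD2_c46 LD3_c13) (LK LD1_c0 LD2_c20 LD3_c47) Lrfl Lrfl
theorem f24324 : Led Lsl_gt (LP (LK LD1_c0 LD2_c23 LD3_c24)) = (LP (LK LD1_c0 LD2_c42 LD3_c48)) :=
  Lre_g IH (LK LD1_c0 LD2_c23 LD3_c24) (LK LD1_c0 LD2_c42 LD3_c48) Lrfl Lrfl
theorem f5884 : Led Lsl_ct (LP (LK LD1_c0 LD2_c3 LD3_c22)) = (LP (LK LD1_c0 LD2_c1 LD3_c23)) :=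
  Lre_c IH (LK LD1_c0 LD2_c3 LD3_c22) (LK LD1_c0 LD2_c1 LD3_c23) Lrfl Lrfl
theorem f20889 : Led Lsl_gt (LP (LK LD1_c0 LD2_c4 LD3_c15)) = (LP (LK LD1_c0 LD2_c8 LD3_c45)) :=
  Lgr Lrot9 (Lpe (K0.f7322 IH) (Lpr_gt (K0.f20886 IH) (Lpr_ct (f5884 IH) (Lpr_gt (K0.f5883 IH) (Lpr_ct (K1.f7065 IH) (Lpe (K1.f7165 IH) (Lpe (K0.f348 IH) (Lpe (K0.f368 IH) (Lpe (K0.f369 IH) (Lpn (LP (LK LD1_c0 LD2_c8 LD3_c45))))))))))))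
theorem f24213 : Led Lsl_dt (LP (LK LD1_c0 LD2_c8 LD3_c45)) = (LP (LK LD1_c0 LD2_c4 LD3_c7)) :=
  Lgr Lrot105 (Lpe (f20889 IH) (Lpe (K0.f7322 IH) (Lpe (K0.f20036 IH) (Lpr_cf (K0.f20259 IH) (Lpr_gt (K0.f16663 IH) (Lpr_dt (K0.f8321 IH) (Lpr_gt (K0.f20267 IH) (Lpr_dt (K0.f23917 IH) (Lpe (K0.f20079 IH) (Lpn (LP (LK LD1_c0 LD2_c4 LD3_c7))))))))))))
theorem f24266 : Led Lsl_bf (LP (LK LD1_c0 LD2_c8 LD3_c45)) = (LP (LK LD1_c0 LD2_c8 LD3_c45)) :=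
  Lgr Lrot93 (Lpr_dt (f24213 IH) (Lpr_bt (K0.f20175 IH) (Lpr_dt (K0.f23168 IH) (Lpn (LP (LK LD1_c0 LD2_c8 LD3_c45))))))
theorem f24270 : Led Lsl_bt (LP (LK LD1_c0 LD2_c3 LD3_c59)) = (LP (LK LD1_c0 LD2_c8 LD3_c44)) :=
  Lre_b IH (LK LD1_c0 LD2_c3 LD3_c59) (LK LD1_c0 LD2_c8 LD3_c44) Lrfl Lrfl
theorem f23170 : Led Lsl_ct (LP (LK LD1_c0 LD2_c3 LD3_c59)) = (LP (LK LD1_c0 LD2_c8 LD3_c45)) :=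
  Lre_c IH (LK LD1_c0 LD2_c3 LD3_c59) (LK LD1_c0 LD2_c8 LD3_c45) Lrfl Lrfl
theorem f24271 : Led Lsl_bt (LP (LK LD1_c0 LD2_c8 LD3_c44)) = (LP (LK LD1_c0 LD2_c3 LD3_c59)) :=
  Lre_b IH (LK LD1_c0 LD2_c8 LD3_c44) (LK LD1_c0 LD2_c3 LD3_c59) Lrfl Lrfl
theorem f24272 : Led Lsl_ct (LP (LK LD1_c0 LD2_c8 LD3_c44)) = (LP (LK LD1_c0 LD2_c8 LD3_c44)) :=
  Lgr Lrot83 (Lpe (f24270 IH) (Lpe (K0.f369 IH) (Lpr_bf (f24266 IH) (Lpe (f23170 IH) (Lpe (f24271 IH) (Lpn (LP (LK LD1_c0 LD2_c8 LD3_c44))))))))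
theorem f20985 : Led Lsl_gt (LP (LK LD1_c0 LD2_c8 LD3_c35)) = (LP (LK LD1_c0 LD2_c19 LD3_c3)) :=
  Lre_g IH (LK LD1_c0 LD2_c8 LD3_c35) (LK LD1_c0 LD2_c19 LD3_c3) Lrfl Lrfl
theorem f24319 : Led Lsl_bt (LP (LK LD1_c0 LD2_c42 LD3_c48)) = (LP (LK LD1_c0 LD2_c19 LD3_c3)) :=
  Lre_b IH (LK LD1_c0 LD2_c42 LD3_c48) (LK LD1_c0 LD2_c19 LD3_c3) Lrfl Lrfl
theorem f24141 : Led Lsl_gt (LP (LK LD1_c0 LD2_c19 LD3_c25)) = (LP (LK LD1_c0 LD2_c8 LD3_c44)) :=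
  Lre_g IH (LK LD1_c0 LD2_c19 LD3_c25) (LK LD1_c0 LD2_c8 LD3_c44) Lrfl Lrfl
theorem f24320 : Led Lsl_ct (LP (LK LD1_c0 LD2_c42 LD3_c48)) = (LP (LK LD1_c0 LD2_c19 LD3_c25)) :=
  Lgr Lrot64 (Lpr_bt (f24319 IH) (Lpe (f20985 IH) (Lpe (K2.f20984 IH) (Lpr_ct (K1.f13542 IH) (Lpe (K0.f1459 IH) (Lpe (K0.f348 IH) (Lpe (K0.f368 IH) (Lpe (f24271 IH) (Lpr_ct (f24272 IH) (Lpe (f24141 IH) (Lpn (LP (LK LD1_c0 LD2_c19 LD3_c25)))))))))))))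
theorem f24332 : Led Lsl_cf (LP (LK LD1_c0 LD2_c42 LD3_c48)) = (LP (LK LD1_c0 LD2_c19 LD3_c25)) :=
  Lgr Lrot11 (Lpr_ct (f24320 IH) (Lpn (LP (LK LD1_c0 LD2_c19 LD3_c25))))
theorem f24329 : Led Lsl_bt (LP (LK LD1_c0 LD2_c19 LD3_c25)) = (LP (LK LD1_c0 LD2_c43 LD3_c31)) :=
  Lre_b IH (LK LD1_c0 LD2_c19 LD3_c25) (LK LD1_c0 LD2_c43 LD3_c31) Lrfl Lrfl
theorem f13487 : Led Lsl_ct (LP (LK LD1_c1 LD2_c32 LD3_c21)) = (LP (LK LD1_c0 LD2_c42 LD3_c45)) :=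
  Lre_c IH (LK LD1_c1 LD2_c32 LD3_c21) (LK LD1_c0 LD2_c42 LD3_c45) Lrfl Lrfl
theorem f95259 : Led Lsl_gt (LP (LK LD1_c0 LD2_c43 LD3_c31)) = (LP (LK LD1_c1 LD2_c32 LD3_c21)) :=
  Lgr Lrot82 (Lpe (f24329 IH) (Lpe (f24332 IH) (Lpe (f24324 IH) (Lpe (K2.f24341 IH) (Lpr_bt (K2.f24399 IH) (Lpr_gf (K2.f95253 IH) (Lpe (K0.f9757 IH) (Lpe (K0.f9746 IH) (Lpr_gf (K0.f13485 IH) (Lpe (f13487 IH) (Lpn (LP (LK LD1_c1 LD2_c32 LD3_c21)))))))))))))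
theorem f79254 : Led Lsl_gf (LP (LK LD1_c0 LD2_c43 LD3_c48)) = (LP (LK LD1_c1 LD2_c32 LD3_c21)) :=
  Lgr Lrot144 (Lpr_dt (K2.f23344 IH) (Lpr_gt (K2.f79091 IH) (Lpe (K2.f64462 IH) (Lpe (K2.f61713 IH) (Lpe (K2.f25111 IH) (Lpr_gf (K2.f79040 IH) (Lpe (K2.f9763 IH) (Lpr_gf (K0.f13485 IH) (Lpe (f13487 IH) (Lpn (LP (LK LD1_c1 LD2_c32 LD3_c21))))))))))))
theorem f23332 : Led Lsl_at (LP (LK LD1_c0 LD2_c43 LD3_c49)) = (LP (LK LD1_c0 LD2_c19 LD3_c34)) :=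
  Lre_a IH (LK LD1_c0 LD2_c43 LD3_c49) (LK LD1_c0 LD2_c19 LD3_c34) Lrfl Lrfl
theorem f79257 : Led Lsl_ff (LP (LK LD1_c0 LD2_c43 LD3_c49)) = (LP (LK LD1_c1 LD2_c32 LD3_c21)) :=
  Lgr Lrot52 (Lpr_at (f23332 IH) (Lpe (K2.f23342 IH) (Lpr_gf (f79254 IH) (Lpn (LP (LK LD1_c1 LD2_c32 LD3_c21))))))
theorem f65448 : Led Lsl_ft (LP (LK LD1_c0 LD2_c19 LD3_c34)) = (LP (LK LD1_c0 LD2_c43 LD3_c51)) :=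
  Lre_f IH (LK LD1_c0 LD2_c19 LD3_c34) (LK LD1_c0 LD2_c43 LD3_c51) Lrfl Lrfl
theorem f79270 : Led Lsl_at (LP (LK LD1_c0 LD2_c43 LD3_c51)) = (LP (LK LD1_c1 LD2_c32 LD3_c21)) :=
  Lgr Lrot66 (Lpe (f65448 IH) (Lpe (f23332 IH) (Lpr_ff (f79257 IH) (Lpn (LP (LK LD1_c1 LD2_c32 LD3_c21))))))
theorem f95261 : Led Lsl_gf (LP (LK LD1_c0 LD2_c43 LD3_c31)) = (LP (LK LD1_c0 LD2_c19 LD3_c34)) :=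
  Lgr Lrot47 (Lpr_gt (f95259 IH) (Lpe (f79270 IH) (Lpe (f65448 IH) (Lpn (LP (LK LD1_c0 LD2_c19 LD3_c34))))))
theorem f24336 : Led Lsl_et (LP (LK LD1_c1 LD2_c32 LD3_c25)) = (LP (LK LD1_c0 LD2_c42 LD3_c48)) :=
  Lre_e IH (LK LD1_c1 LD2_c32 LD3_c25) (LK LD1_c0 LD2_c42 LD3_c48) Lrfl Lrfl
theorem f24337 : Led Lsl_et (LP (LK LD1_c0 LD2_c19 LD3_c25)) = (LP (LK LD1_c0 LD2_c43 LD3_c33)) :=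
  Lre_e IH (LK LD1_c0 LD2_c19 LD3_c25) (LK LD1_c0 LD2_c43 LD3_c33) Lrfl Lrfl
theorem f24338 : Led Lsl_cf (LP (LK LD1_c1 LD2_c32 LD3_c25)) = (LP (LK LD1_c0 LD2_c43 LD3_c33)) :=
  Lgr Lrot39 (Lpr_et (f24336 IH) (Lpr_ct (f24320 IH) (Lpr_et (f24337 IH) (Lpn (LP (LK LD1_c0 LD2_c43 LD3_c33))))))
theorem f24350 : Led Lsl_ct (LP (LK LD1_c1 LD2_c32 LD3_c25)) = (LP (LK LD1_c0 LD2_c43 LD3_c33)) :=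
  Lgr Lrot59 (Lpr_cf (f24338 IH) (Lpn (LP (LK LD1_c0 LD2_c43 LD3_c33))))
theorem f24365 : Led Lsl_bt (LP (LK LD1_c0 LD2_c42 LD3_c50)) = (LP (LK LD1_c1 LD2_c32 LD3_c25)) :=
  Lre_b IH (LK LD1_c0 LD2_c42 LD3_c50) (LK LD1_c1 LD2_c32 LD3_c25) Lrfl Lrfl
theorem f24366 : Led Lsl_ct (LP (LK LD1_c1 LD2_c32 LD3_c28)) = (LP (LK LD1_c0 LD2_c42 LD3_c50)) :=
  Lre_c IH (LK LD1_c1 LD2_c32 LD3_c28) (LK LD1_c0 LD2_c42 LD3_c50) Lrfl Lrfl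
theorem f24367 : Led Lsl_bt (LP (LK LD1_c3 LD2_c12 LD3_c1)) = (LP (LK LD1_c1 LD2_c32 LD3_c28)) :=
  Lre_b IH (LK LD1_c3 LD2_c12 LD3_c1) (LK LD1_c1 LD2_c32 LD3_c28) Lrfl Lrfl
theorem f24363 : Led Lsl_bt (LP (LK LD1_c0 LD2_c43 LD3_c33)) = (LP (LK LD1_c1 LD2_c33 LD3_c53)) :=
  Lre_b IH (LK LD1_c0 LD2_c43 LD3_c33) (LK LD1_c1 LD2_c33 LD3_c53) Lrfl Lrfl
theorem f24368 : Led Lsl_cf (LP (LK LD1_c3 LD2_c12 LD3_c1)) = (LP (LK LD1_c1 LD2_c33 LD3_c53)) :=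
  Lgr Lrot97 (Lpr_bt (f24367 IH) (Lpr_ct (f24366 IH) (Lpr_bt (f24365 IH) (Lpr_ct (f24350 IH) (Lpr_bt (f24363 IH) (Lpn (LP (LK LD1_c1 LD2_c33 LD3_c53))))))))
theorem f24379 : Led Lsl_et (LP (LK LD1_c3 LD2_c12 LD3_c1)) = (LP (LK LD1_c1 LD2_c32 LD3_c26)) :=
  Lre_e IH (LK LD1_c3 LD2_c12 LD3_c1) (LK LD1_c1 LD2_c32 LD3_c26) Lrfl Lrfl
theorem f24380 : Led Lsl_et (LP (LK LD1_c0 LD2_c43 LD3_c31)) = (LP (LK LD1_c1 LD2_c33 LD3_c53)) :=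
  Lre_e IH (LK LD1_c0 LD2_c43 LD3_c31) (LK LD1_c1 LD2_c33 LD3_c53) Lrfl Lrfl
theorem f24381 : Led Lsl_ct (LP (LK LD1_c1 LD2_c32 LD3_c26)) = (LP (LK LD1_c0 LD2_c43 LD3_c31)) :=
  Lgr Lrot15 (Lpe (f24379 IH) (Lpr_cf (f24368 IH) (Lpe (f24380 IH) (Lpn (LP (LK LD1_c0 LD2_c43 LD3_c31))))))
theorem f24328 : Led Lsl_bt (LP (LK LD1_c1 LD2_c32 LD3_c26)) = (LP (LK LD1_c0 LD2_c42 LD3_c49)) :=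
  Lre_b IH (LK LD1_c1 LD2_c32 LD3_c26) (LK LD1_c0 LD2_c42 LD3_c49) Lrfl Lrfl
theorem f24391 : Led Lsl_gt (LP (LK LD1_c0 LD2_c42 LD3_c49)) = (LP (LK LD1_c0 LD2_c43 LD3_c60)) :=
  Lre_g IH (LK LD1_c0 LD2_c42 LD3_c49) (LK LD1_c0 LD2_c43 LD3_c60) Lrfl Lrfl
theorem f98709 : Led Lsl_bt (LP (LK LD1_c0 LD2_c46 LD3_c13)) = (LP (LK LD1_c0 LD2_c43 LD3_c60)) :=
  Lgr Lrot92 (Lpr_ct (f98700 IH) (Lpr_gt (f98705 IH) (Lpe (K0.f9758 IH) (Lpr_bt (K0.f9759 IH) (Lpr_gt (K0.f13524 IH) (Lpr_ct (f23335 IH) (Lpe (f95261 IH) (Lpe (f24381 IH) (Lpr_bt (f24328 IH) (Lpr_gt (f24391 IH) (Lpn (LP (LK LD1_c0 LD2_c43 LD3_c60)))))))))))))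
theorem f66823 : Led Lsl_ft (LP (LK LD1_c0 LD2_c41 LD3_c25)) = (LP (LK LD1_c0 LD2_c42 LD3_c60)) :=
  Lgr Lrot54 (Lpe (K2.f66811 IH) (Lpr_ff (K1.f66806 IH) (Lpe (K2.f66661 IH) (Lpn (LP (LK LD1_c0 LD2_c42 LD3_c60))))))
theorem f68350 : Led Lsl_gt (LP (LK LD1_c0 LD2_c52 LD3_c0)) = (LP (LK LD1_c1 LD2_c32 LD3_c51)) :=
  Lgr Lrot46 (Lpr_gf (K2.f68335 IH) (Lpr_ft (f66823 IH) (Lpr_at (K2.f66657 IH) (Lpn (LP (LK LD1_c1 LD2_c32 LD3_c51))))))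
theorem f23351 : Led Lsl_at (LP (LK LD1_c0 LD2_c9 LD3_c8)) = (LP (LK LD1_c0 LD2_c20 LD3_c16)) :=
  Lre_a IH (LK LD1_c0 LD2_c9 LD3_c8) (LK LD1_c0 LD2_c20 LD3_c16) Lrfl Lrfl
theorem f23352 : Led Lsl_ft (LP (LK LD1_c0 LD2_c20 LD3_c18)) = (LP (LK LD1_c0 LD2_c9 LD3_c8)) :=
  Lre_f IH (LK LD1_c0 LD2_c20 LD3_c18) (LK LD1_c0 LD2_c9 LD3_c8) Lrfl Lrfl
theorem f23353 : Led Lsl_gt (LP (LK LD1_c0 LD2_c20 LD3_c18)) = (LP (LK LD1_c0 LD2_c23 LD3_c33)) :=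
  Lgr Lrot5 (Lpr_ft (f23352 IH) (Lpr_at (f23351 IH) (Lpr_gf (K2.f23349 IH) (Lpn (LP (LK LD1_c0 LD2_c23 LD3_c33))))))
theorem f98701 : Led Lsl_gf (LP (LK LD1_c0 LD2_c20 LD3_c47)) = (LP (LK LD1_c0 LD2_c9 LD3_c29)) :=
  Lgr Lrot144 (Lpr_dt (f98694 IH) (Lpe (K2.f18171 IH) (Lpe (K2.f18078 IH) (Lpe (K2.f18076 IH) (Lpe (K2.f66658 IH) (Lpe (f68350 IH) (Lpe (K2.f23357 IH) (Lpe (f23353 IH) (Lpe (K0.f11882 IH) (Lpn (LP (LK LD1_c0 LD2_c9 LD3_c29))))))))))))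
theorem f24140 : Led Lsl_dt (LP (LK LD1_c0 LD2_c8 LD3_c44)) = (LP (LK LD1_c0 LD2_c19 LD3_c27)) :=
  Lre_d IH (LK LD1_c0 LD2_c8 LD3_c44) (LK LD1_c0 LD2_c19 LD3_c27) Lrfl Lrfl
theorem f24308 : Led Lsl_gt (LP (LK LD1_c0 LD2_c8 LD3_c44)) = (LP (LK LD1_c0 LD2_c19 LD3_c24)) :=
  Lre_g IH (LK LD1_c0 LD2_c8 LD3_c44) (LK LD1_c0 LD2_c19 LD3_c24) Lrfl Lrfl
theorem f24311 : Led Lsl_ct (LP (LK LD1_c0 LD2_c19 LD3_c24)) = (LP (LK LD1_c0 LD2_c43 LD3_c29)) :=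
  Lre_c IH (LK LD1_c0 LD2_c19 LD3_c24) (LK LD1_c0 LD2_c43 LD3_c29) Lrfl Lrfl
theorem f93193 : Led Lsl_gf (LP (LK LD1_c0 LD2_c23 LD3_c24)) = (LP (LK LD1_c0 LD2_c43 LD3_c29)) :=
  Lgr Lrot104 (Lpr_ct (K2.f12421 IH) (Lpe (K2.f66444 IH) (Lpr_cf (K2.f93186 IH) (Lpe (K2.f24034 IH) (Lpe (K2.f24033 IH) (Lpe (K2.f24032 IH) (Lpe (f24140 IH) (Lpr_gt (f24308 IH) (Lpr_ct (f24311 IH) (Lpn (LP (LK LD1_c0 LD2_c43 LD3_c29))))))))))))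
theorem f26088 : Led Lsl_gt (LP (LK LD1_c0 LD2_c19 LD3_c4)) = (LP (LK LD1_c0 LD2_c8 LD3_c35)) :=
  Lre_g IH (LK LD1_c0 LD2_c19 LD3_c4) (LK LD1_c0 LD2_c8 LD3_c35) Lrfl Lrfl
theorem f26089 : Led Lsl_ct (LP (LK LD1_c0 LD2_c42 LD3_c52)) = (LP (LK LD1_c0 LD2_c19 LD3_c4)) :=
  Lre_c IH (LK LD1_c0 LD2_c42 LD3_c52) (LK LD1_c0 LD2_c19 LD3_c4) Lrfl Lrfl
theorem f26150 : Led Lsl_bf (LP (LK LD1_c0 LD2_c19 LD3_c24)) = (LP (LK LD1_c0 LD2_c42 LD3_c52)) :=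
  Lgr Lrot34 (Lpe (f24308 IH) (Lpe (f24270 IH) (Lpr_ct (f23170 IH) (Lpe (f20889 IH) (Lpe (K0.f13452 IH) (Lpe (K0.f26023 IH) (Lpe (K2.f26054 IH) (Lpr_ct (K2.f26074 IH) (Lpe (f26088 IH) (Lpe (f26089 IH) (Lpn (LP (LK LD1_c0 LD2_c42 LD3_c52)))))))))))))
theorem f26152 : Led Lsl_bt (LP (LK LD1_c0 LD2_c19 LD3_c24)) = (LP (LK LD1_c0 LD2_c42 LD3_c52)) :=
  Lgr Lrot127 (Lpr_bf (f26150 IH) (Lpn (LP (LK LD1_c0 LD2_c42 LD3_c52))))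
theorem f98830 : Led Lsl_gf (LP (LK LD1_c0 LD2_c42 LD3_c52)) = (LP (LK LD1_c0 LD2_c43 LD3_c60)) :=
  Lgr Lrot124 (Lpe (f26152 IH) (Lpr_ct (f24311 IH) (Lpe (f93193 IH) (Lpe (K2.f24341 IH) (Lpr_bt (K2.f24399 IH) (Lpe (K0.f11883 IH) (Lpr_ct (K0.f11878 IH) (Lpe (f98701 IH) (Lpe (f98700 IH) (Lpr_bt (f98709 IH) (Lpn (LP (LK LD1_c0 LD2_c43 LD3_c60)))))))))))))
theorem f26154 : Led Lsl_ct (LP (LK LD1_c0 LD2_c19 LD3_c4)) = (LP (LK LD1_c0 LD2_c42 LD3_c52)) :=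
  Lre_c IH (LK LD1_c0 LD2_c19 LD3_c4) (LK LD1_c0 LD2_c42 LD3_c52) Lrfl Lrfl
theorem f26168 : Led Lsl_bt (LP (LK LD1_c0 LD2_c19 LD3_c4)) = (LP (LK LD1_c0 LD2_c42 LD3_c51)) :=
  Lre_b IH (LK LD1_c0 LD2_c19 LD3_c4) (LK LD1_c0 LD2_c42 LD3_c51) Lrfl Lrfl
theorem f79288 : Led Lsl_ct (LP (LK LD1_c0 LD2_c19 LD3_c38)) = (LP (LK LD1_c0 LD2_c43 LD3_c60)) :=
  Lre_c IH (LK LD1_c0 LD2_c19 LD3_c38) (LK LD1_c0 LD2_c43 LD3_c60) Lrfl Lrfl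
theorem f79318 : Led Lsl_bt (LP (LK LD1_c0 LD2_c19 LD3_c38)) = (LP (LK LD1_c0 LD2_c8 LD3_c49)) :=
  Lre_b IH (LK LD1_c0 LD2_c19 LD3_c38) (LK LD1_c0 LD2_c8 LD3_c49) Lrfl Lrfl
theorem f78006 : Led Lsl_ct (LP (LK LD1_c0 LD2_c30 LD3_c60)) = (LP (LK LD1_c0 LD2_c13 LD3_c46)) :=
  Lre_c IH (LK LD1_c0 LD2_c30 LD3_c60) (LK LD1_c0 LD2_c13 LD3_c46) Lrfl Lrfl
theorem f98832 : Led Lsl_gt (LP (LK LD1_c0 LD2_c42 LD3_c51)) = (LP (LK LD1_c0 LD2_c30 LD3_c60)) :=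
  Lgr Lrot82 (Lpe (f26168 IH) (Lpr_ct (f26154 IH) (Lpr_gf (f98830 IH) (Lpe (f79288 IH) (Lpr_bt (f79318 IH) (Lpe (K1.f14710 IH) (Lpe (K0.f14686 IH) (Lpr_ct (K0.f13701 IH) (Lpe (K2.f13798 IH) (Lpe (f78006 IH) (Lpn (LP (LK LD1_c0 LD2_c30 LD3_c60)))))))))))))
theorem f98834 : Led Lsl_at (LP (LK LD1_c1 LD2_c7 LD3_c30)) = (LP (LK LD1_c0 LD2_c30 LD3_c60)) :=
  Lre_a IH (LK LD1_c1 LD2_c7 LD3_c30) (LK LD1_c0 LD2_c30 LD3_c60) Lrfl Lrfl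
theorem f98835 : Led Lsl_ft (LP (LK LD1_c0 LD2_c31 LD3_c2)) = (LP (LK LD1_c1 LD2_c7 LD3_c30)) :=
  Lre_f IH (LK LD1_c0 LD2_c31 LD3_c2) (LK LD1_c1 LD2_c7 LD3_c30) Lrfl Lrfl
theorem f98836 : Led Lsl_gf (LP (LK LD1_c0 LD2_c42 LD3_c51)) = (LP (LK LD1_c0 LD2_c31 LD3_c2)) :=
  Lgr Lrot47 (Lpr_gt (f98832 IH) (Lpe (f98834 IH) (Lpe (f98835 IH) (Lpn (LP (LK LD1_c0 LD2_c31 LD3_c2))))))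
theorem f91465 : Led Lsl_at (LP (LK LD1_c1 LD2_c32 LD3_c30)) = (LP (LK LD1_c0 LD2_c42 LD3_c51)) :=
  Lre_a IH (LK LD1_c1 LD2_c32 LD3_c30) (LK LD1_c0 LD2_c42 LD3_c51) Lrfl Lrfl
theorem f98871 : Led Lsl_ff (LP (LK LD1_c1 LD2_c32 LD3_c30)) = (LP (LK LD1_c1 LD2_c7 LD3_c32)) :=
  Lgr Lrot52 (Lpr_at (f91465 IH) (Lpr_gf (f98836 IH) (Lpe (K2.f23498 IH) (Lpn (LP (LK LD1_c1 LD2_c7 LD3_c32))))))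
theorem f98877 : Led Lsl_ft (LP (LK LD1_c1 LD2_c32 LD3_c30)) = (LP (LK LD1_c1 LD2_c7 LD3_c32)) :=
  Lgr Lrot48 (Lpr_ff (f98871 IH) (Lpn (LP (LK LD1_c1 LD2_c7 LD3_c32))))
theorem f26084 : Led Lsl_gt (LP (LK LD1_c0 LD2_c13 LD3_c37)) = (LP (LK LD1_c0 LD2_c30 LD3_c38)) :=
  Lre_g IH (LK LD1_c0 LD2_c13 LD3_c37) (LK LD1_c0 LD2_c30 LD3_c38) Lrfl Lrfl
theorem f26095 : Led Lsl_ct (LP (LK LD1_c1 LD2_c6 LD3_c57)) = (LP (LK LD1_c0 LD2_c30 LD3_c38)) :=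
  Lre_c IH (LK LD1_c1 LD2_c6 LD3_c57) (LK LD1_c0 LD2_c30 LD3_c38) Lrfl Lrfl
theorem f13553 : Led Lsl_gt (LP (LK LD1_c0 LD2_c46 LD3_c10)) = (LP (LK LD1_c0 LD2_c20 LD3_c49)) :=
  Lre_g IH (LK LD1_c0 LD2_c46 LD3_c10) (LK LD1_c0 LD2_c20 LD3_c49) Lrfl Lrfl
theorem f26097 : Led Lsl_bt (LP (LK LD1_c1 LD2_c6 LD3_c57)) = (LP (LK LD1_c0 LD2_c46 LD3_c10)) :=
  Lgr Lrot130 (Lpr_ct (f26095 IH) (Lpe (f26084 IH) (Lpr_cf (K2.f26068 IH) (Lpr_bt (f13498 IH) (Lpe (K0.f13536 IH) (Lpe (K2.f13547 IH) (Lpr_ct (K2.f11974 IH) (Lpe (K2.f12340 IH) (Lpe (f13513 IH) (Lpe (f13553 IH) (Lpn (LP (LK LD1_c0 LD2_c46 LD3_c10)))))))))))))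
theorem f26092 : Led Lsl_dt (LP (LK LD1_c2 LD2_c19 LD3_c37)) = (LP (LK LD1_c1 LD2_c6 LD3_c57)) :=
  Lre_d IH (LK LD1_c2 LD2_c19 LD3_c37) (LK LD1_c1 LD2_c6 LD3_c57) Lrfl Lrfl
theorem f26112 : Led Lsl_bf (LP (LK LD1_c2 LD2_c19 LD3_c37)) = (LP (LK LD1_c1 LD2_c39 LD3_c22)) :=
  Lgr Lrot93 (Lpr_dt (f26092 IH) (Lpr_bt (f26097 IH) (Lpr_dt (K2.f14990 IH) (Lpn (LP (LK LD1_c1 LD2_c39 LD3_c22))))))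
theorem f26132 : Led Lsl_bt (LP (LK LD1_c2 LD2_c19 LD3_c37)) = (LP (LK LD1_c1 LD2_c39 LD3_c22)) :=
  Lgr Lrot127 (Lpr_bf (f26112 IH) (Lpn (LP (LK LD1_c1 LD2_c39 LD3_c22))))
theorem f26137 : Led Lsl_dt (LP (LK LD1_c1 LD2_c39 LD3_c22)) = (LP (LK LD1_c0 LD2_c46 LD3_c10)) :=
  Lre_d IH (LK LD1_c1 LD2_c39 LD3_c22) (LK LD1_c0 LD2_c46 LD3_c10) Lrfl Lrfl
theorem f91308 : Led Lsl_cf (LP (LK LD1_c1 LD2_c38 LD3_c6)) = (LP (LK LD1_c1 LD2_c38 LD3_c37)) :=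
  Lgr Lrot169 (Lpr_gt (K2.f14577 IH) (Lpr_ct (K2.f14977 IH) (Lpe (K0.f14554 IH) (Lpe (K0.f12570 IH) (Lpe (K2.f12340 IH) (Lpe (f13513 IH) (Lpe (f13553 IH) (Lpe (f26137 IH) (Lpr_gt (K2.f91303 IH) (Lpn (LP (LK LD1_c1 LD2_c38 LD3_c37))))))))))))
theorem f61825 : Led Lsl_bt (LP (LK LD1_c0 LD2_c20 LD3_c17)) = (LP (LK LD1_c0 LD2_c9 LD3_c9)) :=
  Lre_b IH (LK LD1_c0 LD2_c20 LD3_c17) (LK LD1_c0 LD2_c9 LD3_c9) Lrfl Lrfl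
theorem f58914 : Led Lsl_bt (LP (LK LD1_c0 LD2_c18 LD3_c36)) = (LP (LK LD1_c0 LD2_c8 LD3_c22)) :=
  Lre_b IH (LK LD1_c0 LD2_c18 LD3_c36) (LK LD1_c0 LD2_c8 LD3_c22) Lrfl Lrfl
theorem f58915 : Led Lsl_ct (LP (LK LD1_c0 LD2_c18 LD3_c36)) = (LP (LK LD1_c0 LD2_c41 LD3_c38)) :=
  Lre_c IH (LK LD1_c0 LD2_c18 LD3_c36) (LK LD1_c0 LD2_c41 LD3_c38) Lrfl Lrfl
theorem f61831 : Led Lsl_gt (LP (LK LD1_c0 LD2_c41 LD3_c38)) = (LP (LK LD1_c1 LD2_c30 LD3_c3)) :=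
  Lre_g IH (LK LD1_c0 LD2_c41 LD3_c38) (LK LD1_c1 LD2_c30 LD3_c3) Lrfl Lrfl
theorem f91310 : Led Lsl_ct (LP (LK LD1_c2 LD2_c19 LD3_c37)) = (LP (LK LD1_c1 LD2_c30 LD3_c3)) :=
  Lgr Lrot10 (Lpr_bt (f26132 IH) (Lpr_gt (K2.f91303 IH) (Lpe (f91308 IH) (Lpr_gt (K2.f14577 IH) (Lpe (K0.f14553 IH) (Lpr_bt (f61825 IH) (Lpe (K1.f61818 IH) (Lpe (f58914 IH) (Lpr_ct (f58915 IH) (Lpr_gt (f61831 IH) (Lpn (LP (LK LD1_c1 LD2_c30 LD3_c3)))))))))))))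
theorem f91414 : Led Lsl_cf (LP (LK LD1_c2 LD2_c19 LD3_c37)) = (LP (LK LD1_c1 LD2_c30 LD3_c3)) :=
  Lgr Lrot11 (Lpr_ct (f91310 IH) (Lpn (LP (LK LD1_c1 LD2_c30 LD3_c3))))
theorem f26091 : Led Lsl_dt (LP (LK LD1_c1 LD2_c6 LD3_c57)) = (LP (LK LD1_c2 LD2_c19 LD3_c37)) :=
  Lre_d IH (LK LD1_c1 LD2_c6 LD3_c57) (LK LD1_c2 LD2_c19 LD3_c37) Lrfl Lrfl
theorem f26090 : Led Lsl_ct (LP (LK LD1_c0 LD2_c30 LD3_c38)) = (LP (LK LD1_c1 LD2_c6 LD3_c57)) :=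
  Lre_c IH (LK LD1_c0 LD2_c30 LD3_c38) (LK LD1_c1 LD2_c6 LD3_c57) Lrfl Lrfl
theorem f61883 : Led Lsl_gt (LP (LK LD1_c0 LD2_c41 LD3_c37)) = (LP (LK LD1_c0 LD2_c18 LD3_c36)) :=
  Lre_g IH (LK LD1_c0 LD2_c41 LD3_c37) (LK LD1_c0 LD2_c18 LD3_c36) Lrfl Lrfl
theorem f91439 : Led Lsl_df (LP (LK LD1_c0 LD2_c19 LD3_c4)) = (LP (LK LD1_c0 LD2_c41 LD3_c37)) :=
  Lgr Lrot155 (Lpr_gt (f26088 IH) (Lpe (K2.f26068 IH) (Lpr_gt (f26084 IH) (Lpr_ct (f26090 IH) (Lpr_dt (f26091 IH) (Lpr_cf (f91414 IH) (Lpe (f61831 IH) (Lpe (f58915 IH) (Lpe (f61883 IH) (Lpn (LP (LK LD1_c0 LD2_c41 LD3_c37))))))))))))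
theorem f61884 : Led Lsl_bt (LP (LK LD1_c1 LD2_c30 LD3_c0)) = (LP (LK LD1_c0 LD2_c41 LD3_c37)) :=
  Lre_b IH (LK LD1_c1 LD2_c30 LD3_c0) (LK LD1_c0 LD2_c41 LD3_c37) Lrfl Lrfl
theorem f91444 : Led Lsl_dt (LP (LK LD1_c0 LD2_c42 LD3_c51)) = (LP (LK LD1_c1 LD2_c30 LD3_c0)) :=
  Lgr Lrot79 (Lpe (f26168 IH) (Lpr_df (f91439 IH) (Lpe (f61884 IH) (Lpn (LP (LK LD1_c1 LD2_c30 LD3_c0))))))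
theorem f91466 : Led Lsl_at (LP (LK LD1_c1 LD2_c30 LD3_c0)) = (LP (LK LD1_c3 LD2_c7 LD3_c31)) :=
  Lre_a IH (LK LD1_c1 LD2_c30 LD3_c0) (LK LD1_c3 LD2_c7 LD3_c31) Lrfl Lrfl
theorem f91467 : Led Lsl_df (LP (LK LD1_c1 LD2_c32 LD3_c30)) = (LP (LK LD1_c3 LD2_c7 LD3_c31)) :=
  Lgr Lrot18 (Lpr_at (f91465 IH) (Lpr_dt (f91444 IH) (Lpr_at (f91466 IH) (Lpn (LP (LK LD1_c3 LD2_c7 LD3_c31))))))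
theorem f98879 : Led Lsl_ff (LP (LK LD1_c3 LD2_c7 LD3_c31)) = (LP (LK LD1_c2 LD2_c20 LD3_c23)) :=
  Lgr Lrot19 (Lpe (f91467 IH) (Lpr_ft (f98877 IH) (Lpr_dt (K2.f23490 IH) (Lpn (LP (LK LD1_c2 LD2_c20 LD3_c23))))))
theorem f91475 : Led Lsl_at (LP (LK LD1_c3 LD2_c7 LD3_c31)) = (LP (LK LD1_c1 LD2_c30 LD3_c0)) :=
  Lre_a IH (LK LD1_c3 LD2_c7 LD3_c31) (LK LD1_c1 LD2_c30 LD3_c0) Lrfl Lrfl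
theorem f98881 : Led Lsl_gf (LP (LK LD1_c1 LD2_c30 LD3_c0)) = (LP (LK LD1_c2 LD2_c17 LD3_c12)) :=
  Lgr Lrot76 (Lpe (f91475 IH) (Lpr_ff (f98879 IH) (Lpr_gt (K2.f78004 IH) (Lpn (LP (LK LD1_c2 LD2_c17 LD3_c12))))))
theorem f91469 : Led Lsl_df (LP (LK LD1_c0 LD2_c42 LD3_c51)) = (LP (LK LD1_c1 LD2_c30 LD3_c0)) :=
  Lgr Lrot38 (Lpr_dt (f91444 IH) (Lpn (LP (LK LD1_c1 LD2_c30 LD3_c0))))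
theorem f98838 : Led Lsl_dt (LP (LK LD1_c0 LD2_c30 LD3_c60)) = (LP (LK LD1_c1 LD2_c7 LD3_c33)) :=
  Lre_d IH (LK LD1_c0 LD2_c30 LD3_c60) (LK LD1_c1 LD2_c7 LD3_c33) Lrfl Lrfl
theorem f98841 : Led Lsl_ct (LP (LK LD1_c1 LD2_c7 LD3_c33)) = (LP (LK LD1_c2 LD2_c20 LD3_c26)) :=
  Lre_c IH (LK LD1_c1 LD2_c7 LD3_c33) (LK LD1_c2 LD2_c20 LD3_c26) Lrfl Lrfl
theorem f78248 : Led Lsl_ct (LP (LK LD1_c1 LD2_c7 LD3_c53)) = (LP (LK LD1_c2 LD2_c17 LD3_c12)) :=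
  Lgr Lrot110 (Lpe (f13800 IH) (Lpe (K0.f13771 IH) (Lpe (f13802 IH) (Lpr_df (f78232 IH) (Lpe (K2.f77796 IH) (Lpr_ct (K1.f58206 IH) (Lpe (K2.f58212 IH) (Lpr_ct (K2.f66649 IH) (Lpe (K2.f77802 IH) (Lpn (LP (LK LD1_c2 LD2_c17 LD3_c12))))))))))))
theorem f13785 : Led Lsl_dt (LP (LK LD1_c0 LD2_c31 LD3_c8)) = (LP (LK LD1_c1 LD2_c7 LD3_c55)) :=
  Lre_d IH (LK LD1_c0 LD2_c31 LD3_c8) (LK LD1_c1 LD2_c7 LD3_c55) Lrfl Lrfl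
theorem f78058 : Led Lsl_gt (LP (LK LD1_c1 LD2_c7 LD3_c55)) = (LP (LK LD1_c2 LD2_c21 LD3_c19)) :=
  Lre_g IH (LK LD1_c1 LD2_c7 LD3_c55) (LK LD1_c2 LD2_c21 LD3_c19) Lrfl Lrfl
theorem f98883 : Led Lsl_df (LP (LK LD1_c2 LD2_c20 LD3_c26)) = (LP (LK LD1_c2 LD2_c21 LD3_c19)) :=
  Lgr Lrot84 (Lpe (f98841 IH) (Lpe (f98838 IH) (Lpe (f98832 IH) (Lpr_df (f91469 IH) (Lpr_gf (f98881 IH) (Lpe (f78248 IH) (Lpr_gt (K2.f58946 IH) (Lpr_dt (f13785 IH) (Lpr_gt (f78058 IH) (Lpn (LP (LK LD1_c2 LD2_c21 LD3_c19))))))))))))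
theorem f98840 : Led Lsl_ct (LP (LK LD1_c2 LD2_c20 LD3_c26)) = (LP (LK LD1_c1 LD2_c7 LD3_c33)) :=
  Lre_c IH (LK LD1_c2 LD2_c20 LD3_c26) (LK LD1_c1 LD2_c7 LD3_c33) Lrfl Lrfl
theorem f98906 : Led Lsl_at (LP (LK LD1_c2 LD2_c20 LD3_c20)) = (LP (LK LD1_c1 LD2_c7 LD3_c33)) :=
  Lre_a IH (LK LD1_c2 LD2_c20 LD3_c20) (LK LD1_c1 LD2_c7 LD3_c33) Lrfl Lrfl
theorem f98907 : Led Lsl_ft (LP (LK LD1_c1 LD2_c7 LD3_c38)) = (LP (LK LD1_c2 LD2_c20 LD3_c20)) :=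
  Lre_f IH (LK LD1_c1 LD2_c7 LD3_c38) (LK LD1_c2 LD2_c20 LD3_c20) Lrfl Lrfl
theorem f23318 : Led Lsl_dt (LP (LK LD1_c1 LD2_c7 LD3_c38)) = (LP (LK LD1_c0 LD2_c31 LD3_c2)) :=
  Lre_d IH (LK LD1_c1 LD2_c7 LD3_c38) (LK LD1_c0 LD2_c31 LD3_c2) Lrfl Lrfl
theorem f97556 : Led Lsl_dt (LP (LK LD1_c0 LD2_c13 LD3_c47)) = (LP (LK LD1_c0 LD2_c31 LD3_c3)) :=
  Lre_d IH (LK LD1_c0 LD2_c13 LD3_c47) (LK LD1_c0 LD2_c31 LD3_c3) Lrfl Lrfl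
theorem f97557 : Led Lsl_ct (LP (LK LD1_c0 LD2_c31 LD3_c3)) = (LP (LK LD1_c1 LD2_c7 LD3_c40)) :=
  Lre_c IH (LK LD1_c0 LD2_c31 LD3_c3) (LK LD1_c1 LD2_c7 LD3_c40) Lrfl Lrfl
theorem f98908 : Led Lsl_dt (LP (LK LD1_c1 LD2_c7 LD3_c40)) = (LP (LK LD1_c2 LD2_c20 LD3_c38)) :=
  Lre_d IH (LK LD1_c1 LD2_c7 LD3_c40) (LK LD1_c2 LD2_c20 LD3_c38) Lrfl Lrfl
theorem f98909 : Led Lsl_ct (LP (LK LD1_c2 LD2_c20 LD3_c38)) = (LP (LK LD1_c2 LD2_c21 LD3_c19)) :=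
  Lgr Lrot53 (Lpe (f98908 IH) (Lpe (f97557 IH) (Lpe (f97556 IH) (Lpe (K0.f23307 IH) (Lpe (f23318 IH) (Lpr_ft (f98907 IH) (Lpr_at (f98906 IH) (Lpe (f98840 IH) (Lpr_df (f98883 IH) (Lpn (LP (LK LD1_c2 LD2_c21 LD3_c19))))))))))))
theorem f99006 : Led Lsl_cf (LP (LK LD1_c2 LD2_c20 LD3_c38)) = (LP (LK LD1_c2 LD2_c21 LD3_c19)) :=
  Lgr Lrot11 (Lpr_ct (f98909 IH) (Lpn (LP (LK LD1_c2 LD2_c21 LD3_c19))))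
theorem f98952 : Led Lsl_dt (LP (LK LD1_c2 LD2_c20 LD3_c38)) = (LP (LK LD1_c1 LD2_c7 LD3_c40)) :=
  Lre_d IH (LK LD1_c2 LD2_c20 LD3_c38) (LK LD1_c1 LD2_c7 LD3_c40) Lrfl Lrfl
theorem f78618 : Led Lsl_et (LP (LK LD1_c2 LD2_c21 LD3_c22)) = (LP (LK LD1_c1 LD2_c7 LD3_c55)) :=
  Lre_e IH (LK LD1_c2 LD2_c21 LD3_c22) (LK LD1_c1 LD2_c7 LD3_c55) Lrfl Lrfl
theorem f14258 : Led Lsl_dt (LP (LK LD1_c2 LD2_c21 LD3_c22)) = (LP (LK LD1_c4 LD2_c46 LD3_c58)) :=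
  Lre_d IH (LK LD1_c2 LD2_c21 LD3_c22) (LK LD1_c4 LD2_c46 LD3_c58) Lrfl Lrfl
theorem f78617 : Led Lsl_gt (LP (LK LD1_c9 LD2_c26 LD3_c49)) = (LP (LK LD1_c4 LD2_c46 LD3_c58)) :=
  Lre_g IH (LK LD1_c9 LD2_c26 LD3_c49) (LK LD1_c4 LD2_c46 LD3_c58) Lrfl Lrfl
theorem f78609 : Led Lsl_dt (LP (LK LD1_c17 LD2_c25 LD3_c11)) = (LP (LK LD1_c9 LD2_c26 LD3_c49)) :=
  Lre_d IH (LK LD1_c17 LD2_c25 LD3_c11) (LK LD1_c9 LD2_c26 LD3_c49) Lrfl Lrfl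
theorem f66757 : Led Lsl_bt (LP (LK LD1_c0 LD2_c29 LD3_c59)) = (LP (LK LD1_c0 LD2_c47 LD3_c50)) :=
  Lgr Lrot127 (Lpr_bf (K2.f66755 IH) (Lpn (LP (LK LD1_c0 LD2_c47 LD3_c50))))
theorem f78204 : Led Lsl_dt (LP (LK LD1_c0 LD2_c31 LD3_c6)) = (LP (LK LD1_c0 LD2_c29 LD3_c59)) :=
  Lgr Lrot79 (Lpe (f78160 IH) (Lpr_df (f78197 IH) (Lpe (f66757 IH) (Lpn (LP (LK LD1_c0 LD2_c29 LD3_c59))))))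
theorem f35343 : Led Lsl_gt (LP (LK LD1_c0 LD2_c13 LD3_c49)) = (LP (LK LD1_c0 LD2_c31 LD3_c6)) :=
  Lre_g IH (LK LD1_c0 LD2_c13 LD3_c49) (LK LD1_c0 LD2_c31 LD3_c6) Lrfl Lrfl
theorem f60998 : Led Lsl_gt (LP (LK LD1_c0 LD2_c31 LD3_c8)) = (LP (LK LD1_c1 LD2_c7 LD3_c52)) :=
  Lre_g IH (LK LD1_c0 LD2_c31 LD3_c8) (LK LD1_c1 LD2_c7 LD3_c52) Lrfl Lrfl
theorem f78092 : Led Lsl_dt (LP (LK LD1_c1 LD2_c7 LD3_c52)) = (LP (LK LD1_c2 LD2_c21 LD3_c9)) :=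
  Lre_d IH (LK LD1_c1 LD2_c7 LD3_c52) (LK LD1_c2 LD2_c21 LD3_c9) Lrfl Lrfl
theorem f78492 : Led Lsl_gt (LP (LK LD1_c2 LD2_c21 LD3_c9)) = (LP (LK LD1_c4 LD2_c40 LD3_c39)) :=
  Lgr Lrot49 (Lpe (f78092 IH) (Lpe (f60998 IH) (Lpe (K2.f13784 IH) (Lpr_gt (f35343 IH) (Lpr_dt (f78204 IH) (Lpe (K2.f77796 IH) (Lpr_dt (K1.f58174 IH) (Lpe (K1.f58224 IH) (Lpe (K1.f58225 IH) (Lpn (LP (LK LD1_c4 LD2_c40 LD3_c39))))))))))))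
theorem f13812 : Led Lsl_dt (LP (LK LD1_c2 LD2_c21 LD3_c9)) = (LP (LK LD1_c1 LD2_c7 LD3_c52)) :=
  Lre_d IH (LK LD1_c2 LD2_c21 LD3_c9) (LK LD1_c1 LD2_c7 LD3_c52) Lrfl Lrfl
theorem f13811 : Led Lsl_gt (LP (LK LD1_c1 LD2_c7 LD3_c52)) = (LP (LK LD1_c2 LD2_c20 LD3_c17)) :=
  Lre_g IH (LK LD1_c1 LD2_c7 LD3_c52) (LK LD1_c2 LD2_c20 LD3_c17) Lrfl Lrfl
theorem f62319 : Led Lsl_ct (LP (LK LD1_c0 LD2_c31 LD3_c7)) = (LP (LK LD1_c1 LD2_c7 LD3_c50)) :=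
  Lre_c IH (LK LD1_c0 LD2_c31 LD3_c7) (LK LD1_c1 LD2_c7 LD3_c50) Lrfl Lrfl
theorem f78340 : Led Lsl_dt (LP (LK LD1_c1 LD2_c7 LD3_c50)) = (LP (LK LD1_c2 LD2_c21 LD3_c3)) :=
  Lre_d IH (LK LD1_c1 LD2_c7 LD3_c50) (LK LD1_c2 LD2_c21 LD3_c3) Lrfl Lrfl
theorem f58234 : Led Lsl_ff (LP (LK LD1_c4 LD2_c40 LD3_c18)) = (LP (LK LD1_c4 LD2_c40 LD3_c39)) :=
  Lgr Lrot103 (Lpr_at (K2.f58233 IH) (Lpe (K1.f13660 IH) (Lpr_df (K1.f58215 IH) (Lpe (K1.f58214 IH) (Lpe (K1.f58174 IH) (Lpe (K1.f58206 IH) (Lpe (K1.f58208 IH) (Lpe (K1.f58224 IH) (Lpe (K1.f58225 IH) (Lpn (LP (LK LD1_c4 LD2_c40 LD3_c39))))))))))))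
theorem f58722 : Led Lsl_af (LP (LK LD1_c4 LD2_c40 LD3_c39)) = (LP (LK LD1_c3 LD2_c5 LD3_c56)) :=
  Lgr Lrot45 (Lpe (f58234 IH) (Lpr_at (K2.f58233 IH) (Lpr_ft (K1.f58719 IH) (Lpn (LP (LK LD1_c3 LD2_c5 LD3_c56))))))
theorem f78502 : Led Lsl_gf (LP (LK LD1_c2 LD2_c21 LD3_c9)) = (LP (LK LD1_c2 LD2_c17 LD3_c23)) :=
  Lgr Lrot47 (Lpr_gt (f78492 IH) (Lpr_af (f58722 IH) (Lpe (K1.f58719 IH) (Lpn (LP (LK LD1_c2 LD2_c17 LD3_c23))))))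
theorem f78504 : Led Lsl_cf (LP (LK LD1_c2 LD2_c21 LD3_c3)) = (LP (LK LD1_c2 LD2_c21 LD3_c9)) :=
  Lgr Lrot99 (Lpe (f78340 IH) (Lpe (f62319 IH) (Lpe (K2.f62318 IH) (Lpe (K0.f13774 IH) (Lpe (f13811 IH) (Lpe (f13812 IH) (Lpr_gt (f78492 IH) (Lpr_ct (K1.f13660 IH) (Lpe (f78502 IH) (Lpn (LP (LK LD1_c2 LD2_c21 LD3_c9))))))))))))
theorem f77993 : Led Lsl_dt (LP (LK LD1_c2 LD2_c21 LD3_c3)) = (LP (LK LD1_c1 LD2_c7 LD3_c50)) :=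
  Lre_d IH (LK LD1_c2 LD2_c21 LD3_c3) (LK LD1_c1 LD2_c7 LD3_c50) Lrfl Lrfl
theorem f77992 : Led Lsl_ct (LP (LK LD1_c1 LD2_c7 LD3_c50)) = (LP (LK LD1_c0 LD2_c31 LD3_c7)) :=
  Lre_c IH (LK LD1_c1 LD2_c7 LD3_c50) (LK LD1_c0 LD2_c31 LD3_c7) Lrfl Lrfl
theorem f13801 : Led Lsl_dt (LP (LK LD1_c1 LD2_c7 LD3_c53)) = (LP (LK LD1_c2 LD2_c21 LD3_c12)) :=
  Lre_d IH (LK LD1_c1 LD2_c7 LD3_c53) (LK LD1_c2 LD2_c21 LD3_c12) Lrfl Lrfl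
theorem f13670 : Led Lsl_dt (LP (LK LD1_c1 LD2_c5 LD3_c30)) = (LP (LK LD1_c2 LD2_c17 LD3_c8)) :=
  Lre_d IH (LK LD1_c1 LD2_c5 LD3_c30) (LK LD1_c2 LD2_c17 LD3_c8) Lrfl Lrfl
theorem f78007 : Led Lsl_ct (LP (LK LD1_c1 LD2_c7 LD3_c52)) = (LP (LK LD1_c2 LD2_c17 LD3_c8)) :=
  Lgr Lrot151 (Lpe (f60998 IH) (Lpe (K2.f13784 IH) (Lpe (K2.f25202 IH) (Lpr_dt (K2.f77988 IH) (Lpr_gt (K2.f13667 IH) (Lpe (K0.f13627 IH) (Lpr_gt (K2.f13664 IH) (Lpr_ct (K2.f13669 IH) (Lpr_dt (f13670 IH) (Lpn (LP (LK LD1_c2 LD2_c17 LD3_c8))))))))))))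
theorem f78053 : Led Lsl_cf (LP (LK LD1_c1 LD2_c7 LD3_c52)) = (LP (LK LD1_c2 LD2_c17 LD3_c8)) :=
  Lgr Lrot11 (Lpr_ct (f78007 IH) (Lpn (LP (LK LD1_c2 LD2_c17 LD3_c8))))
theorem f13803 : Led Lsl_ct (LP (LK LD1_c1 LD2_c7 LD3_c47)) = (LP (LK LD1_c0 LD2_c31 LD3_c6)) :=
  Lre_c IH (LK LD1_c1 LD2_c7 LD3_c47) (LK LD1_c0 LD2_c31 LD3_c6) Lrfl Lrfl
theorem f78244 : Led Lsl_dt (LP (LK LD1_c2 LD2_c20 LD3_c56)) = (LP (LK LD1_c1 LD2_c7 LD3_c47)) :=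
  Lre_d IH (LK LD1_c2 LD2_c20 LD3_c56) (LK LD1_c1 LD2_c7 LD3_c47) Lrfl Lrfl
theorem f78519 : Led Lsl_ct (LP (LK LD1_c2 LD2_c21 LD3_c12)) = (LP (LK LD1_c2 LD2_c20 LD3_c56)) :=
  Lgr Lrot176 (Lpe (f13801 IH) (Lpr_cf (K2.f78094 IH) (Lpe (K2.f77801 IH) (Lpe (K2.f66649 IH) (Lpe (K2.f77988 IH) (Lpe (f77992 IH) (Lpe (f77993 IH) (Lpr_cf (f78504 IH) (Lpe (f78092 IH) (Lpr_cf (f78053 IH) (Lpe (f13670 IH) (Lpe (K2.f13669 IH) (Lpe (f78204 IH) (Lpe (f13803 IH) (Lpe (f78244 IH) (Lpn (LP (LK LD1_c2 LD2_c20 LD3_c56))))))))))))))))))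
theorem f78243 : Led Lsl_dt (LP (LK LD1_c1 LD2_c7 LD3_c47)) = (LP (LK LD1_c2 LD2_c20 LD3_c56)) :=
  Lre_d IH (LK LD1_c1 LD2_c7 LD3_c47) (LK LD1_c2 LD2_c20 LD3_c56) Lrfl Lrfl
theorem f78242 : Led Lsl_ct (LP (LK LD1_c0 LD2_c31 LD3_c6)) = (LP (LK LD1_c1 LD2_c7 LD3_c47)) :=
  Lre_c IH (LK LD1_c0 LD2_c31 LD3_c6) (LK LD1_c1 LD2_c7 LD3_c47) Lrfl Lrfl
theorem f13807 : Led Lsl_dt (LP (LK LD1_c2 LD2_c21 LD3_c12)) = (LP (LK LD1_c1 LD2_c7 LD3_c53)) :=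
  Lre_d IH (LK LD1_c2 LD2_c21 LD3_c12) (LK LD1_c1 LD2_c7 LD3_c53) Lrfl Lrfl
theorem f78002 : Led Lsl_gt (LP (LK LD1_c2 LD2_c21 LD3_c12)) = (LP (LK LD1_c2 LD2_c17 LD3_c23)) :=
  Lgr Lrot49 (Lpe (f13801 IH) (Lpe (f13800 IH) (Lpe (K0.f13771 IH) (Lpr_gt (K2.f62318 IH) (Lpr_dt (K2.f77988 IH) (Lpr_gt (K2.f13667 IH) (Lpr_dt (K1.f13653 IH) (Lpe (K1.f13658 IH) (Lpe (K1.f13659 IH) (Lpn (LP (LK LD1_c2 LD2_c17 LD3_c23))))))))))))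
theorem f78590 : Led Lsl_gf (LP (LK LD1_c2 LD2_c21 LD3_c12)) = (LP (LK LD1_c4 LD2_c40 LD3_c39)) :=
  Lgr Lrot104 (Lpr_ct (f78519 IH) (Lpe (f78243 IH) (Lpe (f78242 IH) (Lpe (f35343 IH) (Lpe (K2.f13781 IH) (Lpe (K2.f58946 IH) (Lpe (f13807 IH) (Lpr_gt (f78002 IH) (Lpr_ct (K1.f13656 IH) (Lpn (LP (LK LD1_c4 LD2_c40 LD3_c39))))))))))))
theorem f13780 : Led Lsl_dt (LP (LK LD1_c1 LD2_c7 LD3_c55)) = (LP (LK LD1_c0 LD2_c31 LD3_c8)) :=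
  Lre_d IH (LK LD1_c1 LD2_c7 LD3_c55) (LK LD1_c0 LD2_c31 LD3_c8) Lrfl Lrfl
theorem f78594 : Led Lsl_et (LP (LK LD1_c1 LD2_c7 LD3_c55)) = (LP (LK LD1_c2 LD2_c21 LD3_c22)) :=
  Lre_e IH (LK LD1_c1 LD2_c7 LD3_c55) (LK LD1_c2 LD2_c21 LD3_c22) Lrfl Lrfl
theorem f78595 : Led Lsl_gt (LP (LK LD1_c2 LD2_c21 LD3_c22)) = (LP (LK LD1_c4 LD2_c46 LD3_c56)) :=
  Lre_g IH (LK LD1_c2 LD2_c21 LD3_c22) (LK LD1_c4 LD2_c46 LD3_c56) Lrfl Lrfl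
theorem f13980 : Led Lsl_et (LP (LK LD1_c9 LD2_c26 LD3_c44)) = (LP (LK LD1_c4 LD2_c46 LD3_c56)) :=
  Lre_e IH (LK LD1_c9 LD2_c26 LD3_c44) (LK LD1_c4 LD2_c46 LD3_c56) Lrfl Lrfl
theorem f13981 : Led Lsl_dt (LP (LK LD1_c9 LD2_c26 LD3_c44)) = (LP (LK LD1_c17 LD2_c25 LD3_c0)) :=
  Lre_d IH (LK LD1_c9 LD2_c26 LD3_c44) (LK LD1_c17 LD2_c25 LD3_c0) Lrfl Lrfl
theorem f74040 : Led Lsl_et (LP (LK LD1_c9 LD2_c16 LD3_c41)) = (LP (LK LD1_c4 LD2_c40 LD3_c39)) :=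
  Lre_e IH (LK LD1_c9 LD2_c16 LD3_c41) (LK LD1_c4 LD2_c40 LD3_c39) Lrfl Lrfl
theorem f58228 : Led Lsl_dt (LP (LK LD1_c9 LD2_c16 LD3_c41)) = (LP (LK LD1_c17 LD2_c11 LD3_c30)) :=
  Lre_d IH (LK LD1_c9 LD2_c16 LD3_c41) (LK LD1_c17 LD2_c11 LD3_c30) Lrfl Lrfl
theorem f78596 : Led Lsl_gt (LP (LK LD1_c17 LD2_c25 LD3_c0)) = (LP (LK LD1_c17 LD2_c11 LD3_c30)) :=
  Lgr Lrot112 (Lpe (f13981 IH) (Lpr_et (f13980 IH) (Lpe (f78595 IH) (Lpe (f78594 IH) (Lpr_dt (f13780 IH) (Lpe (K2.f58946 IH) (Lpe (f13807 IH) (Lpr_gf (f78590 IH) (Lpe (f74040 IH) (Lpr_dt (f58228 IH) (Lpn (LP (LK LD1_c17 LD2_c11 LD3_c30)))))))))))))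
theorem f58247 : Led Lsl_bt (LP (LK LD1_c2 LD2_c17 LD3_c15)) = (LP (LK LD1_c4 LD2_c40 LD3_c17)) :=
  Lre_b IH (LK LD1_c2 LD2_c17 LD3_c15) (LK LD1_c4 LD2_c40 LD3_c17) Lrfl Lrfl
theorem f58221 : Led Lsl_bt (LP (LK LD1_c6 LD2_c17 LD3_c20)) = (LP (LK LD1_c3 LD2_c5 LD3_c53)) :=
  Lre_b IH (LK LD1_c6 LD2_c17 LD3_c20) (LK LD1_c3 LD2_c5 LD3_c53) Lrfl Lrfl
theorem f58248 : Led Lsl_ft (LP (LK LD1_c4 LD2_c40 LD3_c17)) = (LP (LK LD1_c6 LD2_c17 LD3_c20)) :=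
  Lgr Lrot75 (Lpe (f58247 IH) (Lpr_ff (K1.f58237 IH) (Lpe (f58221 IH) (Lpn (LP (LK LD1_c6 LD2_c17 LD3_c20))))))
theorem f74013 : Led Lsl_dt (LP (LK LD1_c6 LD2_c17 LD3_c20)) = (LP (LK LD1_c9 LD2_c16 LD3_c40)) :=
  Lgr Lrot60 (Lpe (f58248 IH) (Lpe (K2.f19123 IH) (Lpr_ff (K2.f74009 IH) (Lpn (LP (LK LD1_c9 LD2_c16 LD3_c40))))))
theorem f58406 : Led Lsl_et (LP (LK LD1_c12 LD2_c11 LD3_c11)) = (LP (LK LD1_c6 LD2_c17 LD3_c20)) :=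
  Lre_e IH (LK LD1_c12 LD2_c11 LD3_c11) (LK LD1_c6 LD2_c17 LD3_c20) Lrfl Lrfl
theorem f58428 : Led Lsl_dt (LP (LK LD1_c21 LD2_c16 LD3_c27)) = (LP (LK LD1_c12 LD2_c11 LD3_c11)) :=
  Lre_d IH (LK LD1_c21 LD2_c16 LD3_c27) (LK LD1_c12 LD2_c11 LD3_c11) Lrfl Lrfl
theorem f74022 : Led Lsl_et (LP (LK LD1_c9 LD2_c16 LD3_c40)) = (LP (LK LD1_c17 LD2_c11 LD3_c27)) :=
  Lre_e IH (LK LD1_c9 LD2_c16 LD3_c40) (LK LD1_c17 LD2_c11 LD3_c27) Lrfl Lrfl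
theorem f74023 : Led Lsl_dt (LP (LK LD1_c17 LD2_c11 LD3_c27)) = (LP (LK LD1_c27 LD2_c2 LD3_c37)) :=
  Lre_d IH (LK LD1_c17 LD2_c11 LD3_c27) (LK LD1_c27 LD2_c2 LD3_c37) Lrfl Lrfl
theorem f74024 : Led Lsl_ef (LP (LK LD1_c21 LD2_c16 LD3_c27)) = (LP (LK LD1_c27 LD2_c2 LD3_c37)) :=
  Lgr Lrot73 (Lpr_dt (f58428 IH) (Lpr_et (f58406 IH) (Lpr_dt (f74013 IH) (Lpr_et (f74022 IH) (Lpr_dt (f74023 IH) (Lpn (LP (LK LD1_c27 LD2_c2 LD3_c37))))))))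
theorem f58628 : Led Lsl_bt (LP (LK LD1_c21 LD2_c16 LD3_c27)) = (LP (LK LD1_c12 LD2_c11 LD3_c14)) :=
  Lre_b IH (LK LD1_c21 LD2_c16 LD3_c27) (LK LD1_c12 LD2_c11 LD3_c14) Lrfl Lrfl
theorem f74028 : Led Lsl_bt (LP (LK LD1_c17 LD2_c11 LD3_c30)) = (LP (LK LD1_c27 LD2_c2 LD3_c37)) :=
  Lre_b IH (LK LD1_c17 LD2_c11 LD3_c30) (LK LD1_c27 LD2_c2 LD3_c37) Lrfl Lrfl
theorem f74029 : Led Lsl_et (LP (LK LD1_c12 LD2_c11 LD3_c14)) = (LP (LK LD1_c17 LD2_c11 LD3_c30)) :=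
  Lgr Lrot74 (Lpe (f58628 IH) (Lpr_ef (f74024 IH) (Lpe (f74028 IH) (Lpn (LP (LK LD1_c17 LD2_c11 LD3_c30))))))
theorem f74036 : Led Lsl_at (LP (LK LD1_c6 LD2_c17 LD3_c28)) = (LP (LK LD1_c12 LD2_c11 LD3_c14)) :=
  Lre_a IH (LK LD1_c6 LD2_c17 LD3_c28) (LK LD1_c12 LD2_c11 LD3_c14) Lrfl Lrfl
theorem f74037 : Led Lsl_af (LP (LK LD1_c12 LD2_c11 LD3_c21)) = (LP (LK LD1_c17 LD2_c11 LD3_c30)) :=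
  Lgr Lrot50 (Lpr_et (K1.f58634 IH) (Lpr_at (f74036 IH) (Lpr_et (f74029 IH) (Lpn (LP (LK LD1_c17 LD2_c11 LD3_c30))))))
theorem f74046 : Led Lsl_at (LP (LK LD1_c12 LD2_c11 LD3_c21)) = (LP (LK LD1_c17 LD2_c11 LD3_c30)) :=
  Lgr Lrot100 (Lpr_af (f74037 IH) (Lpn (LP (LK LD1_c17 LD2_c11 LD3_c30))))
theorem f74125 : Led Lsl_ft (LP (LK LD1_c21 LD2_c16 LD3_c43)) = (LP (LK LD1_c12 LD2_c11 LD3_c21)) :=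
  Lre_f IH (LK LD1_c21 LD2_c16 LD3_c43) (LK LD1_c12 LD2_c11 LD3_c21) Lrfl Lrfl
theorem f78600 : Led Lsl_gf (LP (LK LD1_c17 LD2_c25 LD3_c0)) = (LP (LK LD1_c21 LD2_c16 LD3_c43)) :=
  Lgr Lrot47 (Lpr_gt (f78596 IH) (Lpe (f74046 IH) (Lpe (f74125 IH) (Lpn (LP (LK LD1_c21 LD2_c16 LD3_c43))))))
theorem f13956 : Led Lsl_gt (LP (LK LD1_c4 LD2_c46 LD3_c56)) = (LP (LK LD1_c9 LD2_c23 LD3_c30)) :=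
  Lre_g IH (LK LD1_c4 LD2_c46 LD3_c56) (LK LD1_c9 LD2_c23 LD3_c30) Lrfl Lrfl
theorem f13976 : Led Lsl_dt (LP (LK LD1_c9 LD2_c23 LD3_c30)) = (LP (LK LD1_c17 LD2_c20 LD3_c16)) :=
  Lre_d IH (LK LD1_c9 LD2_c23 LD3_c30) (LK LD1_c17 LD2_c20 LD3_c16) Lrfl Lrfl
theorem f78608 : Led Lsl_gt (LP (LK LD1_c17 LD2_c20 LD3_c16)) = (LP (LK LD1_c9 LD2_c26 LD3_c49)) :=
  Lre_g IH (LK LD1_c17 LD2_c20 LD3_c16) (LK LD1_c9 LD2_c26 LD3_c49) Lrfl Lrfl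
theorem f58721 : Led Lsl_gt (LP (LK LD1_c17 LD2_c10 LD3_c35)) = (LP (LK LD1_c9 LD2_c16 LD3_c45)) :=
  Lre_g IH (LK LD1_c17 LD2_c10 LD3_c35) (LK LD1_c9 LD2_c16 LD3_c45) Lrfl Lrfl
theorem f78610 : Led Lsl_et (LP (LK LD1_c17 LD2_c25 LD3_c11)) = (LP (LK LD1_c17 LD2_c10 LD3_c35)) :=
  Lgr Lrot185 (Lpr_dt (f78609 IH) (Lpe (f78608 IH) (Lpe (f13976 IH) (Lpe (f13956 IH) (Lpe (f13980 IH) (Lpr_dt (f13981 IH) (Lpr_gf (f78600 IH) (Lpe (K1.f58661 IH) (Lpe (K1.f58701 IH) (Lpe (f58721 IH) (Lpn (LP (LK LD1_c17 LD2_c10 LD3_c35)))))))))))))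
theorem f74107 : Led Lsl_gt (LP (LK LD1_c9 LD2_c16 LD3_c2)) = (LP (LK LD1_c17 LD2_c10 LD3_c35)) :=
  Lre_g IH (LK LD1_c9 LD2_c16 LD3_c2) (LK LD1_c17 LD2_c10 LD3_c35) Lrfl Lrfl
theorem f74083 : Led Lsl_et (LP (LK LD1_c4 LD2_c40 LD3_c18)) = (LP (LK LD1_c9 LD2_c16 LD3_c2)) :=
  Lre_e IH (LK LD1_c4 LD2_c40 LD3_c18) (LK LD1_c9 LD2_c16 LD3_c2) Lrfl Lrfl
theorem f98915 : Led Lsl_gt (LP (LK LD1_c2 LD2_c20 LD3_c26)) = (LP (LK LD1_c2 LD2_c17 LD3_c15)) :=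
  Lgr Lrot139 (Lpr_df (f98883 IH) (Lpe (f78058 IH) (Lpe (f78618 IH) (Lpr_dt (f14258 IH) (Lpe (f78617 IH) (Lpe (f78609 IH) (Lpr_et (f78610 IH) (Lpe (f74107 IH) (Lpe (f74083 IH) (Lpr_dt (K1.f13680 IH) (Lpn (LP (LK LD1_c2 LD2_c17 LD3_c15)))))))))))))
theorem f13688 : Led Lsl_at (LP (LK LD1_c1 LD2_c5 LD3_c38)) = (LP (LK LD1_c2 LD2_c17 LD3_c15)) :=
  Lre_a IH (LK LD1_c1 LD2_c5 LD3_c38) (LK LD1_c2 LD2_c17 LD3_c15) Lrfl Lrfl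
theorem f58268 : Led Lsl_at (LP (LK LD1_c3 LD2_c5 LD3_c53)) = (LP (LK LD1_c1 LD2_c29 LD3_c3)) :=
  Lre_a IH (LK LD1_c3 LD2_c5 LD3_c53) (LK LD1_c1 LD2_c29 LD3_c3) Lrfl Lrfl
theorem f58269 : Led Lsl_ff (LP (LK LD1_c1 LD2_c5 LD3_c38)) = (LP (LK LD1_c1 LD2_c29 LD3_c3)) :=
  Lgr Lrot30 (Lpr_at (f13688 IH) (Lpr_ft (K1.f58257 IH) (Lpr_at (f58268 IH) (Lpn (LP (LK LD1_c1 LD2_c29 LD3_c3))))))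
theorem f98930 : Led Lsl_gf (LP (LK LD1_c2 LD2_c20 LD3_c26)) = (LP (LK LD1_c1 LD2_c29 LD3_c3)) :=
  Lgr Lrot47 (Lpr_gt (f98915 IH) (Lpe (f13688 IH) (Lpr_ff (f58269 IH) (Lpn (LP (LK LD1_c1 LD2_c29 LD3_c3))))))
theorem f98849 : Led Lsl_dt (LP (LK LD1_c1 LD2_c7 LD3_c33)) = (LP (LK LD1_c0 LD2_c30 LD3_c60)) :=
  Lre_d IH (LK LD1_c1 LD2_c7 LD3_c33) (LK LD1_c0 LD2_c30 LD3_c60) Lrfl Lrfl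
theorem f79297 : Led Lsl_gt (LP (LK LD1_c0 LD2_c6 LD3_c18)) = (LP (LK LD1_c0 LD2_c13 LD3_c46)) :=
  Lre_g IH (LK LD1_c0 LD2_c6 LD3_c18) (LK LD1_c0 LD2_c13 LD3_c46) Lrfl Lrfl
theorem f98935 : Led Lsl_gt (LP (LK LD1_c0 LD2_c31 LD3_c3)) = (LP (LK LD1_c0 LD2_c41 LD3_c11)) :=
  Lgr Lrot9 (Lpe (f97556 IH) (Lpr_gt (K0.f23306 IH) (Lpr_ct (K0.f13607 IH) (Lpr_gt (f79297 IH) (Lpr_ct (K2.f23592 IH) (Lpe (f98849 IH) (Lpe (f98840 IH) (Lpr_gf (f98930 IH) (Lpe (K1.f25162 IH) (Lpn (LP (LK LD1_c0 LD2_c41 LD3_c11))))))))))))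
theorem f58387 : Led Lsl_at (LP (LK LD1_c1 LD2_c29 LD3_c1)) = (LP (LK LD1_c0 LD2_c41 LD3_c11)) :=
  Lre_a IH (LK LD1_c1 LD2_c29 LD3_c1) (LK LD1_c0 LD2_c41 LD3_c11) Lrfl Lrfl
theorem f13681 : Led Lsl_dt (LP (LK LD1_c0 LD2_c29 LD3_c61)) = (LP (LK LD1_c1 LD2_c5 LD3_c35)) :=
  Lre_d IH (LK LD1_c0 LD2_c29 LD3_c61) (LK LD1_c1 LD2_c5 LD3_c35) Lrfl Lrfl
theorem f58209 : Led Lsl_ft (LP (LK LD1_c1 LD2_c5 LD3_c35)) = (LP (LK LD1_c1 LD2_c29 LD3_c1)) :=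
  Lgr Lrot54 (Lpe (f13681 IH) (Lpr_ff (K1.f58185 IH) (Lpe (K1.f58208 IH) (Lpn (LP (LK LD1_c1 LD2_c29 LD3_c1))))))
theorem f98945 : Led Lsl_gf (LP (LK LD1_c0 LD2_c31 LD3_c3)) = (LP (LK LD1_c1 LD2_c5 LD3_c35)) :=
  Lgr Lrot47 (Lpr_gt (f98935 IH) (Lpe (f58387 IH) (Lpe (f58209 IH) (Lpn (LP (LK LD1_c1 LD2_c5 LD3_c35))))))
theorem f98898 : Led Lsl_dt (LP (LK LD1_c2 LD2_c20 LD3_c26)) = (LP (LK LD1_c2 LD2_c21 LD3_c19)) :=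
  Lgr Lrot42 (Lpr_df (f98883 IH) (Lpn (LP (LK LD1_c2 LD2_c21 LD3_c19))))
theorem f99074 : Led Lsl_gt (LP (LK LD1_c2 LD2_c21 LD3_c19)) = (LP (LK LD1_c2 LD2_c21 LD3_c21)) :=
  Lgr Lrot9 (Lpe (f98898 IH) (Lpr_gt (f98915 IH) (Lpr_ct (K1.f13679 IH) (Lpe (f98945 IH) (Lpr_ct (f97557 IH) (Lpe (f98952 IH) (Lpr_cf (f99006 IH) (Lpe (f78058 IH) (Lpe (K0.f13720 IH) (Lpn (LP (LK LD1_c2 LD2_c21 LD3_c21))))))))))))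
theorem f13799 : Led Lsl_dt (LP (LK LD1_c0 LD2_c30 LD3_c61)) = (LP (LK LD1_c0 LD2_c13 LD3_c46)) :=
  Lre_d IH (LK LD1_c0 LD2_c30 LD3_c61) (LK LD1_c0 LD2_c13 LD3_c46) Lrfl Lrfl
theorem f99077 : Led Lsl_gt (LP (LK LD1_c0 LD2_c41 LD3_c11)) = (LP (LK LD1_c0 LD2_c30 LD3_c61)) :=
  Lgr Lrot94 (Lpe (K1.f25401 IH) (Lpe (f98930 IH) (Lpr_dt (f98898 IH) (Lpr_gt (f99074 IH) (Lpe (K0.f13775 IH) (Lpe (K0.f13771 IH) (Lpe (K0.f13772 IH) (Lpe (K2.f13798 IH) (Lpe (f13799 IH) (Lpn (LP (LK LD1_c0 LD2_c30 LD3_c61))))))))))))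
theorem f25165 : Led Lsl_ct (LP (LK LD1_c0 LD2_c18 LD3_c26)) = (LP (LK LD1_c0 LD2_c17 LD3_c50)) :=
  Lgr Lrot59 (Lpr_cf (K0.f25156 IH) (Lpn (LP (LK LD1_c0 LD2_c17 LD3_c50))))
theorem f26602 : Led Lsl_ct (LP (LK LD1_c0 LD2_c13 LD3_c40)) = (LP (LK LD1_c0 LD2_c29 LD3_c34)) :=
  Lgr Lrot176 (Lpe (K2.f22749 IH) (Lpe (K0.f20872 IH) (Lpe (K1.f23301 IH) (Lpe (K0.f20610 IH) (Lpe (K0.f20609 IH) (Lpr_cf (K0.f20607 IH) (Lpe (K0.f23001 IH) (Lpr_cf (K0.f26345 IH) (Lpe (K0.f26053 IH) (Lpe (K0.f13604 IH) (Lpe (K0.f26330 IH) (Lpqs (K0.f26331 IH) (Lpe (K0.f8171 IH) (Lpe (K1.f8235 IH) (Lpr_cf (K0.f26586 IH) (Lpe (K0.f25186 IH) (Lpn (LP (LK LD1_c0 LD2_c29 LD3_c34)))))))))))))))))))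
theorem f67041 : Led Lsl_gt (LP (LK LD1_c0 LD2_c18 LD3_c32)) = (LP (LK LD1_c0 LD2_c13 LD3_c40)) :=
  Lgr Lrot49 (Lpe (K1.f25180 IH) (Lpr_gf (K1.f67039 IH) (Lpe (K1.f7123 IH) (Lpr_gt (K0.f20999 IH) (Lpr_dt (K0.f7107 IH) (Lpr_gt (K0.f133 IH) (Lpr_dt (K1.f23301 IH) (Lpe (K0.f23435 IH) (Lpe (K0.f22750 IH) (Lpn (LP (LK LD1_c0 LD2_c13 LD3_c40))))))))))))
theorem f66941 : Led Lsl_bt (LP (LK LD1_c0 LD2_c41 LD3_c25)) = (LP (LK LD1_c0 LD2_c18 LD3_c32)) :=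
  Lre_b IH (LK LD1_c0 LD2_c41 LD3_c25) (LK LD1_c0 LD2_c18 LD3_c32) Lrfl Lrfl
theorem f99089 : Led Lsl_bt (LP (LK LD1_c1 LD2_c7 LD3_c31)) = (LP (LK LD1_c0 LD2_c30 LD3_c61)) :=
  Lre_b IH (LK LD1_c1 LD2_c7 LD3_c31) (LK LD1_c0 LD2_c30 LD3_c61) Lrfl Lrfl
theorem f99090 : Led Lsl_ct (LP (LK LD1_c1 LD2_c7 LD3_c31)) = (LP (LK LD1_c2 LD2_c20 LD3_c21)) :=
  Lre_c IH (LK LD1_c1 LD2_c7 LD3_c31) (LK LD1_c2 LD2_c20 LD3_c21) Lrfl Lrfl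
theorem f99091 : Led Lsl_gf (LP (LK LD1_c1 LD2_c29 LD3_c35)) = (LP (LK LD1_c2 LD2_c20 LD3_c21)) :=
  Lgr Lrot126 (Lpe (K2.f66812 IH) (Lpr_bt (f66941 IH) (Lpr_gt (f67041 IH) (Lpr_ct (f26602 IH) (Lpe (K2.f20604 IH) (Lpe (f25165 IH) (Lpr_bt (K1.f25161 IH) (Lpr_gt (f99077 IH) (Lpe (f99089 IH) (Lpr_ct (f99090 IH) (Lpn (LP (LK LD1_c2 LD2_c20 LD3_c21)))))))))))))
theorem f95291 : Led Lsl_dt (LP (LK LD1_c3 LD2_c44 LD3_c58)) = (LP (LK LD1_c1 LD2_c50 LD3_c20)) :=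
  Lgr Lrot42 (Lpr_df (K2.f95289 IH) (Lpn (LP (LK LD1_c1 LD2_c50 LD3_c20))))
theorem f15024 : Led Lsl_gt (LP (LK LD1_c1 LD2_c52 LD3_c22)) = (LP (LK LD1_c3 LD2_c50 LD3_c60)) :=
  Lre_g IH (LK LD1_c1 LD2_c52 LD3_c22) (LK LD1_c3 LD2_c50 LD3_c60) Lrfl Lrfl
theorem f15016 : Led Lsl_at (LP (LK LD1_c1 LD2_c40 LD3_c16)) = (LP (LK LD1_c3 LD2_c23 LD3_c42)) :=
  Lre_a IH (LK LD1_c1 LD2_c40 LD3_c16) (LK LD1_c3 LD2_c23 LD3_c42) Lrfl Lrfl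
theorem f15025 : Led Lsl_gt (LP (LK LD1_c3 LD2_c50 LD3_c60)) = (LP (LK LD1_c3 LD2_c23 LD3_c42)) :=
  Lgr Lrot46 (Lpe (f15024 IH) (Lpr_ft (K0.f15003 IH) (Lpr_at (f15016 IH) (Lpn (LP (LK LD1_c3 LD2_c23 LD3_c42))))))
theorem f102340 : Led Lsl_df (LP (LK LD1_c3 LD2_c50 LD3_c60)) = (LP (LK LD1_c2 LD2_c20 LD3_c21)) :=
  Lgr Lrot155 (Lpr_gt (f15025 IH) (Lpr_ct (f14634 IH) (Lpe (K2.f91754 IH) (Lpr_ct (K2.f65860 IH) (Lpr_dt (f95291 IH) (Lpe (K2.f23365 IH) (Lpr_gf (K2.f68335 IH) (Lpe (K2.f66847 IH) (Lpr_gf (f99091 IH) (Lpn (LP (LK LD1_c2 LD2_c20 LD3_c21))))))))))))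
theorem f65872 : Led Lsl_dt (LP (LK LD1_c1 LD2_c38 LD3_c42)) = (LP (LK LD1_c3 LD2_c24 LD3_c35)) :=
  Lre_d IH (LK LD1_c1 LD2_c38 LD3_c42) (LK LD1_c3 LD2_c24 LD3_c35) Lrfl Lrfl
theorem f11836 : Led Lsl_ct (LP (LK LD1_c0 LD2_c52 LD3_c55)) = (LP (LK LD1_c1 LD2_c52 LD3_c22)) :=
  Lre_c IH (LK LD1_c0 LD2_c52 LD3_c55) (LK LD1_c1 LD2_c52 LD3_c22) Lrfl Lrfl
theorem f91756 : Led Lsl_cf (LP (LK LD1_c3 LD2_c24 LD3_c35)) = (LP (LK LD1_c3 LD2_c50 LD3_c60)) :=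
  Lgr Lrot99 (Lpe (f65872 IH) (Lpe (K2.f11079 IH) (Lpe (K2.f11078 IH) (Lpe (K2.f11053 IH) (Lpe (K2.f65857 IH) (Lpe (K2.f65864 IH) (Lpr_gt (K2.f91752 IH) (Lpr_ct (f11836 IH) (Lpr_gt (f15024 IH) (Lpn (LP (LK LD1_c3 LD2_c50 LD3_c60))))))))))))
theorem f65870 : Led Lsl_dt (LP (LK LD1_c3 LD2_c24 LD3_c35)) = (LP (LK LD1_c1 LD2_c38 LD3_c42)) :=
  Lre_d IH (LK LD1_c3 LD2_c24 LD3_c35) (LK LD1_c1 LD2_c38 LD3_c42) Lrfl Lrfl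
theorem f94923 : Led Lsl_at (LP (LK LD1_c0 LD2_c20 LD3_c47)) = (LP (LK LD1_c0 LD2_c9 LD3_c26)) :=
  Lre_a IH (LK LD1_c0 LD2_c20 LD3_c47) (LK LD1_c0 LD2_c9 LD3_c26) Lrfl Lrfl
theorem f98653 : Led Lsl_df (LP (LK LD1_c0 LD2_c20 LD3_c47)) = (LP (LK LD1_c0 LD2_c45 LD3_c46)) :=
  Lgr Lrot18 (Lpr_at (f94923 IH) (Lpr_dt (K2.f9798 IH) (Lpr_at (f98649 IH) (Lpn (LP (LK LD1_c0 LD2_c45 LD3_c46))))))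
theorem f98696 : Led Lsl_ct (LP (LK LD1_c0 LD2_c20 LD3_c47)) = (LP (LK LD1_c0 LD2_c46 LD3_c13)) :=
  Lre_c IH (LK LD1_c0 LD2_c20 LD3_c47) (LK LD1_c0 LD2_c46 LD3_c13) Lrfl Lrfl
theorem f98823 : Led Lsl_at (LP (LK LD1_c0 LD2_c20 LD3_c49)) = (LP (LK LD1_c0 LD2_c46 LD3_c13)) :=
  Lre_a IH (LK LD1_c0 LD2_c20 LD3_c49) (LK LD1_c0 LD2_c46 LD3_c13) Lrfl Lrfl
theorem f102317 : Led Lsl_dt (LP (LK LD1_c0 LD2_c30 LD3_c59)) = (LP (LK LD1_c1 LD2_c7 LD3_c31)) :=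
  Lre_d IH (LK LD1_c0 LD2_c30 LD3_c59) (LK LD1_c1 LD2_c7 LD3_c31) Lrfl Lrfl
theorem f102352 : Led Lsl_ff (LP (LK LD1_c0 LD2_c20 LD3_c49)) = (LP (LK LD1_c0 LD2_c30 LD3_c59)) :=
  Lgr Lrot103 (Lpr_at (f98823 IH) (Lpe (f98696 IH) (Lpr_df (f98653 IH) (Lpe (K2.f18173 IH) (Lpe (f65870 IH) (Lpr_cf (f91756 IH) (Lpr_df (f102340 IH) (Lpe (f99090 IH) (Lpe (f102317 IH) (Lpn (LP (LK LD1_c0 LD2_c30 LD3_c59))))))))))))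
theorem f94265 : Led Lsl_et (LP (LK LD1_c0 LD2_c20 LD3_c49)) = (LP (LK LD1_c0 LD2_c46 LD3_c23)) :=
  Lre_e IH (LK LD1_c0 LD2_c20 LD3_c49) (LK LD1_c0 LD2_c46 LD3_c23) Lrfl Lrfl
theorem f94260 : Led Lsl_ct (LP (LK LD1_c0 LD2_c20 LD3_c51)) = (LP (LK LD1_c0 LD2_c46 LD3_c23)) :=
  Lre_c IH (LK LD1_c0 LD2_c20 LD3_c51) (LK LD1_c0 LD2_c46 LD3_c23) Lrfl Lrfl
theorem f94255 : Led Lsl_ct (LP (LK LD1_c0 LD2_c46 LD3_c23)) = (LP (LK LD1_c0 LD2_c20 LD3_c51)) :=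
  Lre_c IH (LK LD1_c0 LD2_c46 LD3_c23) (LK LD1_c0 LD2_c20 LD3_c51) Lrfl Lrfl
theorem f94261 : Led Lsl_ft (LP (LK LD1_c0 LD2_c46 LD3_c23)) = (LP (LK LD1_c0 LD2_c46 LD3_c23)) :=
  Lgr Lrot4 (Lpe (f94260 IH) (Lpr_ff (f94251 IH) (Lpe (f94255 IH) (Lpn (LP (LK LD1_c0 LD2_c46 LD3_c23))))))
theorem f94266 : Led Lsl_et (LP (LK LD1_c0 LD2_c46 LD3_c23)) = (LP (LK LD1_c0 LD2_c20 LD3_c49)) :=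
  Lre_e IH (LK LD1_c0 LD2_c46 LD3_c23) (LK LD1_c0 LD2_c20 LD3_c49) Lrfl Lrfl
theorem f58745 : Led Lsl_et (LP (LK LD1_c0 LD2_c18 LD3_c25)) = (LP (LK LD1_c0 LD2_c41 LD3_c12)) :=
  Lre_e IH (LK LD1_c0 LD2_c18 LD3_c25) (LK LD1_c0 LD2_c41 LD3_c12) Lrfl Lrfl
theorem f58078 : Led Lsl_dt (LP (LK LD1_c2 LD2_c20 LD3_c19)) = (LP (LK LD1_c1 LD2_c7 LD3_c28)) :=
  Lre_d IH (LK LD1_c2 LD2_c20 LD3_c19) (LK LD1_c1 LD2_c7 LD3_c28) Lrfl Lrfl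
theorem f58057 : Led Lsl_dt (LP (LK LD1_c1 LD2_c29 LD3_c2)) = (LP (LK LD1_c3 LD2_c5 LD3_c55)) :=
  Lre_d IH (LK LD1_c1 LD2_c29 LD3_c2) (LK LD1_c3 LD2_c5 LD3_c55) Lrfl Lrfl
theorem f58112 : Led Lsl_ft (LP (LK LD1_c1 LD2_c7 LD3_c28)) = (LP (LK LD1_c1 LD2_c29 LD3_c2)) :=
  Lgr Lrot54 (Lpe (f58078 IH) (Lpr_ff (K1.f58094 IH) (Lpe (f58057 IH) (Lpn (LP (LK LD1_c1 LD2_c29 LD3_c2))))))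
theorem f78257 : Led Lsl_at (LP (LK LD1_c1 LD2_c29 LD3_c2)) = (LP (LK LD1_c0 LD2_c41 LD3_c12)) :=
  Lre_a IH (LK LD1_c1 LD2_c29 LD3_c2) (LK LD1_c0 LD2_c41 LD3_c12) Lrfl Lrfl
theorem f78258 : Led Lsl_gf (LP (LK LD1_c0 LD2_c41 LD3_c12)) = (LP (LK LD1_c1 LD2_c5 LD3_c34)) :=
  Lgr Lrot76 (Lpe (f78257 IH) (Lpe (f58112 IH) (Lpr_gt (f78253 IH) (Lpn (LP (LK LD1_c1 LD2_c5 LD3_c34))))))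
theorem f98846 : Led Lsl_dt (LP (LK LD1_c0 LD2_c13 LD3_c46)) = (LP (LK LD1_c0 LD2_c30 LD3_c61)) :=
  Lre_d IH (LK LD1_c0 LD2_c13 LD3_c46) (LK LD1_c0 LD2_c30 LD3_c61) Lrfl Lrfl
theorem f99095 : Led Lsl_ef (LP (LK LD1_c0 LD2_c13 LD3_c46)) = (LP (LK LD1_c0 LD2_c13 LD3_c46)) :=
  Lgr Lrot167 (Lpr_gt (K2.f13798 IH) (Lpr_dt (K0.f13772 IH) (Lpr_gt (K2.f62318 IH) (Lpr_df (f77994 IH) (Lpr_et (f77998 IH) (Lpe (f78258 IH) (Lpe (f58745 IH) (Lpr_dt (K1.f58280 IH) (Lpr_gt (f99077 IH) (Lpe (f98846 IH) (Lpn (LP (LK LD1_c0 LD2_c13 LD3_c46)))))))))))))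
theorem f23593 : Led Lsl_bt (LP (LK LD1_c0 LD2_c13 LD3_c46)) = (LP (LK LD1_c0 LD2_c30 LD3_c59)) :=
  Lre_b IH (LK LD1_c0 LD2_c13 LD3_c46) (LK LD1_c0 LD2_c30 LD3_c59) Lrfl Lrfl
theorem f23331 : Led Lsl_bt (LP (LK LD1_c0 LD2_c30 LD3_c59)) = (LP (LK LD1_c0 LD2_c13 LD3_c46)) :=
  Lre_b IH (LK LD1_c0 LD2_c30 LD3_c59) (LK LD1_c0 LD2_c13 LD3_c46) Lrfl Lrfl
theorem f99100 : Led Lsl_et (LP (LK LD1_c0 LD2_c30 LD3_c59)) = (LP (LK LD1_c0 LD2_c30 LD3_c59)) :=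
  Lgr Lrot74 (Lpe (f23593 IH) (Lpr_ef (f99095 IH) (Lpe (f23331 IH) (Lpn (LP (LK LD1_c0 LD2_c30 LD3_c59))))))
theorem f102368 : Led Lsl_ft (LP (LK LD1_c0 LD2_c20 LD3_c49)) = (LP (LK LD1_c0 LD2_c30 LD3_c59)) :=
  Lgr Lrot86 (Lpe (f94266 IH) (Lpe (f94261 IH) (Lpe (f94265 IH) (Lpr_ff (f102352 IH) (Lpe (f99100 IH) (Lpn (LP (LK LD1_c0 LD2_c30 LD3_c59))))))))
theorem f102374 : Led Lsl_ff (LP (LK LD1_c0 LD2_c46 LD3_c22)) = (LP (LK LD1_c1 LD2_c7 LD3_c31)) :=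
  Lgr Lrot19 (Lpr_dt (f90887 IH) (Lpr_ft (f102368 IH) (Lpr_dt (f102317 IH) (Lpn (LP (LK LD1_c1 LD2_c7 LD3_c31))))))
theorem f102339 : Led Lsl_ct (LP (LK LD1_c2 LD2_c20 LD3_c21)) = (LP (LK LD1_c1 LD2_c7 LD3_c31)) :=
  Lre_c IH (LK LD1_c2 LD2_c20 LD3_c21) (LK LD1_c1 LD2_c7 LD3_c31) Lrfl Lrfl
theorem f102379 : Led Lsl_ft (LP (LK LD1_c1 LD2_c39 LD3_c40)) = (LP (LK LD1_c2 LD2_c20 LD3_c21)) :=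
  Lgr Lrot4 (Lpe (K2.f26119 IH) (Lpr_ff (f102374 IH) (Lpe (f102339 IH) (Lpn (LP (LK LD1_c2 LD2_c20 LD3_c21))))))
theorem f102386 : Led Lsl_ff (LP (LK LD1_c1 LD2_c39 LD3_c40)) = (LP (LK LD1_c2 LD2_c20 LD3_c21)) :=
  Lgr Lrot3 (Lpr_ft (f102379 IH) (Lpn (LP (LK LD1_c2 LD2_c20 LD3_c21))))
theorem f26120 : Led Lsl_bt (LP (LK LD1_c1 LD2_c39 LD3_c40)) = (LP (LK LD1_c3 LD2_c26 LD3_c0)) :=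
  Lre_b IH (LK LD1_c1 LD2_c39 LD3_c40) (LK LD1_c3 LD2_c26 LD3_c0) Lrfl Lrfl
theorem f102342 : Led Lsl_bt (LP (LK LD1_c4 LD2_c44 LD3_c32)) = (LP (LK LD1_c2 LD2_c20 LD3_c21)) :=
  Lre_b IH (LK LD1_c4 LD2_c44 LD3_c32) (LK LD1_c2 LD2_c20 LD3_c21) Lrfl Lrfl
theorem f102908 : Led Lsl_ft (LP (LK LD1_c3 LD2_c26 LD3_c0)) = (LP (LK LD1_c4 LD2_c44 LD3_c32)) :=
  Lgr Lrot75 (Lpe (f26120 IH) (Lpr_ff (f102386 IH) (Lpe (f102342 IH) (Lpn (LP (LK LD1_c4 LD2_c44 LD3_c32))))))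
theorem f23925 : Led Lsl_ct (LP (LK LD1_c1 LD2_c5 LD3_c36)) = (LP (LK LD1_c2 LD2_c17 LD3_c17)) :=
  Lre_c IH (LK LD1_c1 LD2_c5 LD3_c36) (LK LD1_c2 LD2_c17 LD3_c17) Lrfl Lrfl
theorem f58772 : Led Lsl_bt (LP (LK LD1_c2 LD2_c17 LD3_c17)) = (LP (LK LD1_c4 LD2_c40 LD3_c24)) :=
  Lre_b IH (LK LD1_c2 LD2_c17 LD3_c17) (LK LD1_c4 LD2_c40 LD3_c24) Lrfl Lrfl
theorem f94770 : Led Lsl_bt (LP (LK LD1_c3 LD2_c26 LD3_c0)) = (LP (LK LD1_c1 LD2_c39 LD3_c40)) :=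
  Lre_b IH (LK LD1_c3 LD2_c26 LD3_c0) (LK LD1_c1 LD2_c39 LD3_c40) Lrfl Lrfl
theorem f94788 : Led Lsl_ct (LP (LK LD1_c4 LD2_c40 LD3_c24)) = (LP (LK LD1_c3 LD2_c26 LD3_c0)) :=
  Lgr Lrot83 (Lpe (f58772 IH) (Lpe (f23925 IH) (Lpr_bf (f94783 IH) (Lpe (f94780 IH) (Lpe (f94770 IH) (Lpn (LP (LK LD1_c3 LD2_c26 LD3_c0))))))))
theorem f102345 : Led Lsl_ct (LP (LK LD1_c4 LD2_c44 LD3_c32)) = (LP (LK LD1_c2 LD2_c20 LD3_c32)) :=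
  Lre_c IH (LK LD1_c4 LD2_c44 LD3_c32) (LK LD1_c2 LD2_c20 LD3_c32) Lrfl Lrfl
theorem f102910 : Led Lsl_ff (LP (LK LD1_c4 LD2_c40 LD3_c24)) = (LP (LK LD1_c2 LD2_c20 LD3_c32)) :=
  Lgr Lrot23 (Lpr_ct (f94788 IH) (Lpr_ft (f102908 IH) (Lpr_ct (f102345 IH) (Lpn (LP (LK LD1_c2 LD2_c20 LD3_c32))))))
theorem f102919 : Led Lsl_ft (LP (LK LD1_c4 LD2_c40 LD3_c24)) = (LP (LK LD1_c2 LD2_c20 LD3_c32)) :=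
  Lgr Lrot48 (Lpr_ff (f102910 IH) (Lpn (LP (LK LD1_c2 LD2_c20 LD3_c32))))
theorem f102927 : Led Lsl_bt (LP (LK LD1_c2 LD2_c20 LD3_c32)) = (LP (LK LD1_c1 LD2_c7 LD3_c35)) :=
  Lre_b IH (LK LD1_c2 LD2_c20 LD3_c32) (LK LD1_c1 LD2_c7 LD3_c35) Lrfl Lrfl
theorem f102928 : Led Lsl_ff (LP (LK LD1_c2 LD2_c17 LD3_c17)) = (LP (LK LD1_c1 LD2_c7 LD3_c35)) :=
  Lgr Lrot25 (Lpr_bt (f58772 IH) (Lpr_ft (f102919 IH) (Lpr_bt (f102927 IH) (Lpn (LP (LK LD1_c1 LD2_c7 LD3_c35))))))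
theorem f99085 : Led Lsl_gt (LP (LK LD1_c1 LD2_c7 LD3_c35)) = (LP (LK LD1_c2 LD2_c20 LD3_c30)) :=
  Lre_g IH (LK LD1_c1 LD2_c7 LD3_c35) (LK LD1_c2 LD2_c20 LD3_c30) Lrfl Lrfl
theorem f58187 : Led Lsl_gt (LP (LK LD1_c0 LD2_c41 LD3_c9)) = (LP (LK LD1_c0 LD2_c18 LD3_c25)) :=
  Lre_g IH (LK LD1_c0 LD2_c41 LD3_c9) (LK LD1_c0 LD2_c18 LD3_c25) Lrfl Lrfl
theorem f58196 : Led Lsl_et (LP (LK LD1_c1 LD2_c29 LD3_c0)) = (LP (LK LD1_c0 LD2_c41 LD3_c9)) :=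
  Lre_e IH (LK LD1_c1 LD2_c29 LD3_c0) (LK LD1_c0 LD2_c41 LD3_c9) Lrfl Lrfl
theorem f58197 : Led Lsl_dt (LP (LK LD1_c1 LD2_c29 LD3_c0)) = (LP (LK LD1_c3 LD2_c5 LD3_c52)) :=
  Lre_d IH (LK LD1_c1 LD2_c29 LD3_c0) (LK LD1_c3 LD2_c5 LD3_c52) Lrfl Lrfl
theorem f99113 : Led Lsl_gt (LP (LK LD1_c2 LD2_c20 LD3_c19)) = (LP (LK LD1_c3 LD2_c5 LD3_c52)) :=
  Lgr Lrot112 (Lpe (K1.f58026 IH) (Lpr_et (K1.f58155 IH) (Lpe (K2.f13798 IH) (Lpr_ef (f99095 IH) (Lpr_dt (f98846 IH) (Lpe (f99077 IH) (Lpe (K1.f58280 IH) (Lpe (f58187 IH) (Lpe (f58196 IH) (Lpr_dt (f58197 IH) (Lpn (LP (LK LD1_c3 LD2_c5 LD3_c52)))))))))))))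
theorem f58141 : Led Lsl_at (LP (LK LD1_c3 LD2_c5 LD3_c55)) = (LP (LK LD1_c1 LD2_c29 LD3_c6)) :=
  Lre_a IH (LK LD1_c3 LD2_c5 LD3_c55) (LK LD1_c1 LD2_c29 LD3_c6) Lrfl Lrfl
theorem f99115 : Led Lsl_gf (LP (LK LD1_c1 LD2_c29 LD3_c6)) = (LP (LK LD1_c3 LD2_c5 LD3_c52)) :=
  Lgr Lrot76 (Lpe (f58141 IH) (Lpe (K1.f58115 IH) (Lpr_gt (f99113 IH) (Lpn (LP (LK LD1_c3 LD2_c5 LD3_c52))))))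
theorem f58098 : Led Lsl_dt (LP (LK LD1_c0 LD2_c41 LD3_c12)) = (LP (LK LD1_c1 LD2_c29 LD3_c6)) :=
  Lre_d IH (LK LD1_c0 LD2_c41 LD3_c12) (LK LD1_c1 LD2_c29 LD3_c6) Lrfl Lrfl
theorem f58746 : Led Lsl_et (LP (LK LD1_c0 LD2_c41 LD3_c12)) = (LP (LK LD1_c0 LD2_c18 LD3_c25)) :=
  Lre_e IH (LK LD1_c0 LD2_c41 LD3_c12) (LK LD1_c0 LD2_c18 LD3_c25) Lrfl Lrfl
theorem f26749 : Led Lsl_gt (LP (LK LD1_c0 LD2_c18 LD3_c25)) = (LP (LK LD1_c0 LD2_c41 LD3_c8)) :=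
  Lre_g IH (LK LD1_c0 LD2_c18 LD3_c25) (LK LD1_c0 LD2_c41 LD3_c8) Lrfl Lrfl
theorem f58177 : Led Lsl_at (LP (LK LD1_c0 LD2_c41 LD3_c10)) = (LP (LK LD1_c0 LD2_c18 LD3_c25)) :=
  Lre_a IH (LK LD1_c0 LD2_c41 LD3_c10) (LK LD1_c0 LD2_c18 LD3_c25) Lrfl Lrfl
theorem f58188 : Led Lsl_gt (LP (LK LD1_c0 LD2_c29 LD3_c61)) = (LP (LK LD1_c0 LD2_c41 LD3_c9)) :=
  Lgr Lrot5 (Lpr_ft (K1.f58157 IH) (Lpr_at (f58177 IH) (Lpe (f58187 IH) (Lpn (LP (LK LD1_c0 LD2_c41 LD3_c9))))))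
theorem f13717 : Led Lsl_gt (LP (LK LD1_c1 LD2_c7 LD3_c43)) = (LP (LK LD1_c0 LD2_c31 LD3_c5)) :=
  Lre_g IH (LK LD1_c1 LD2_c7 LD3_c43) (LK LD1_c0 LD2_c31 LD3_c5) Lrfl Lrfl
theorem f99126 : Led Lsl_dt (LP (LK LD1_c0 LD2_c41 LD3_c8)) = (LP (LK LD1_c1 LD2_c7 LD3_c43)) :=
  Lgr Lrot171 (Lpe (f26749 IH) (Lpe (f58746 IH) (Lpr_dt (f58098 IH) (Lpr_gf (f99115 IH) (Lpe (f58197 IH) (Lpr_et (f58196 IH) (Lpe (f58188 IH) (Lpe (K0.f13684 IH) (Lpr_dt (K0.f13693 IH) (Lpe (f13717 IH) (Lpn (LP (LK LD1_c1 LD2_c7 LD3_c43)))))))))))))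
theorem f61885 : Led Lsl_ct (LP (LK LD1_c1 LD2_c30 LD3_c0)) = (LP (LK LD1_c3 LD2_c7 LD3_c32)) :=
  Lre_c IH (LK LD1_c1 LD2_c30 LD3_c0) (LK LD1_c3 LD2_c7 LD3_c32) Lrfl Lrfl
theorem f61828 : Led Lsl_bt (LP (LK LD1_c0 LD2_c13 LD3_c55)) = (LP (LK LD1_c0 LD2_c31 LD3_c10)) :=
  Lre_b IH (LK LD1_c0 LD2_c13 LD3_c55) (LK LD1_c0 LD2_c31 LD3_c10) Lrfl Lrfl
theorem f61829 : Led Lsl_gt (LP (LK LD1_c0 LD2_c31 LD3_c10)) = (LP (LK LD1_c1 LD2_c7 LD3_c43)) :=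
  Lre_g IH (LK LD1_c0 LD2_c31 LD3_c10) (LK LD1_c1 LD2_c7 LD3_c43) Lrfl Lrfl
theorem f61886 : Led Lsl_ct (LP (LK LD1_c1 LD2_c7 LD3_c43)) = (LP (LK LD1_c2 LD2_c20 LD3_c42)) :=
  Lre_c IH (LK LD1_c1 LD2_c7 LD3_c43) (LK LD1_c2 LD2_c20 LD3_c42) Lrfl Lrfl
theorem f61887 : Led Lsl_gf (LP (LK LD1_c3 LD2_c7 LD3_c32)) = (LP (LK LD1_c2 LD2_c20 LD3_c42)) :=
  Lgr Lrot129 (Lpe (f61885 IH) (Lpr_bt (f61884 IH) (Lpr_gt (f61883 IH) (Lpe (K1.f61873 IH) (Lpr_ct (K1.f61823 IH) (Lpr_gt (K1.f13545 IH) (Lpe (K0.f23680 IH) (Lpr_bt (f61828 IH) (Lpr_gt (f61829 IH) (Lpr_ct (f61886 IH) (Lpn (LP (LK LD1_c2 LD2_c20 LD3_c42)))))))))))))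
theorem f91313 : Led Lsl_bt (LP (LK LD1_c1 LD2_c7 LD3_c43)) = (LP (LK LD1_c1 LD2_c38 LD3_c37)) :=
  Lgr Lrot92 (Lpr_ct (f61886 IH) (Lpe (f61887 IH) (Lpe (f61885 IH) (Lpr_bt (f61884 IH) (Lpr_gt (f61883 IH) (Lpr_ct (f58915 IH) (Lpr_gt (f61831 IH) (Lpe (f91310 IH) (Lpr_bt (f26132 IH) (Lpr_gt (K2.f91303 IH) (Lpn (LP (LK LD1_c1 LD2_c38 LD3_c37)))))))))))))
theorem f99131 : Led Lsl_bf (LP (LK LD1_c0 LD2_c41 LD3_c8)) = (LP (LK LD1_c0 LD2_c45 LD3_c43)) :=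
  Lgr Lrot93 (Lpr_dt (f99126 IH) (Lpr_bt (f91313 IH) (Lpr_dt (K2.f19343 IH) (Lpn (LP (LK LD1_c0 LD2_c45 LD3_c43))))))
theorem f68168 : Led Lsl_bt (LP (LK LD1_c0 LD2_c47 LD3_c52)) = (LP (LK LD1_c0 LD2_c41 LD3_c17)) :=
  Lgr Lrot119 (Lpr_ef (K2.f68164 IH) (Lpe (K2.f68070 IH) (Lpe (K2.f25124 IH) (Lpn (LP (LK LD1_c0 LD2_c41 LD3_c17))))))
theorem f76897 : Led Lsl_ft (LP (LK LD1_c1 LD2_c37 LD3_c37)) = (LP (LK LD1_c3 LD2_c22 LD3_c44)) :=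
  Lre_f IH (LK LD1_c1 LD2_c37 LD3_c37) (LK LD1_c3 LD2_c22 LD3_c44) Lrfl Lrfl
theorem f76631 : Led Lsl_ft (LP (LK LD1_c3 LD2_c12 LD3_c41)) = (LP (LK LD1_c1 LD2_c32 LD3_c47)) :=
  Lre_f IH (LK LD1_c3 LD2_c12 LD3_c41) (LK LD1_c1 LD2_c32 LD3_c47) Lrfl Lrfl
theorem f76898 : Led Lsl_df (LP (LK LD1_c1 LD2_c37 LD3_c37)) = (LP (LK LD1_c1 LD2_c32 LD3_c47)) :=
  Lgr Lrot78 (Lpr_ft (f76897 IH) (Lpr_dt (K2.f76894 IH) (Lpr_ft (f76631 IH) (Lpn (LP (LK LD1_c1 LD2_c32 LD3_c47))))))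
theorem f76905 : Led Lsl_et (LP (LK LD1_c0 LD2_c42 LD3_c58)) = (LP (LK LD1_c1 LD2_c32 LD3_c47)) :=
  Lre_e IH (LK LD1_c0 LD2_c42 LD3_c58) (LK LD1_c1 LD2_c32 LD3_c47) Lrfl Lrfl
theorem f76906 : Led Lsl_et (LP (LK LD1_c0 LD2_c20 LD3_c0)) = (LP (LK LD1_c0 LD2_c30 LD3_c9)) :=
  Lgr Lrot71 (Lpe (K2.f9748 IH) (Lpe (K2.f76904 IH) (Lpr_df (f76898 IH) (Lpe (f76905 IH) (Lpe (K2.f61002 IH) (Lpn (LP (LK LD1_c0 LD2_c30 LD3_c9))))))))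
theorem f76734 : Led Lsl_ef (LP (LK LD1_c0 LD2_c19 LD3_c2)) = (LP (LK LD1_c0 LD2_c42 LD3_c41)) :=
  Lgr Lrot20 (Lpr_at (K2.f13492 IH) (Lpr_et (K2.f76732 IH) (Lpr_at (f67721 IH) (Lpn (LP (LK LD1_c0 LD2_c42 LD3_c41))))))
theorem f67372 : Led Lsl_ft (LP (LK LD1_c0 LD2_c41 LD3_c19)) = (LP (LK LD1_c0 LD2_c42 LD3_c41)) :=
  Lgr Lrot75 (Lpe (K2.f25063 IH) (Lpr_ff (K1.f67370 IH) (Lpe (K2.f67356 IH) (Lpn (LP (LK LD1_c0 LD2_c42 LD3_c41))))))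
theorem f76913 : Led Lsl_ff (LP (LK LD1_c0 LD2_c18 LD3_c28)) = (LP (LK LD1_c0 LD2_c30 LD3_c9)) :=
  Lgr Lrot72 (Lpr_et (K2.f25086 IH) (Lpr_ft (f67372 IH) (Lpe (f76734 IH) (Lpe (K0.f13474 IH) (Lpr_et (f76906 IH) (Lpn (LP (LK LD1_c0 LD2_c30 LD3_c9))))))))
theorem f61222 : Led Lsl_gt (LP (LK LD1_c0 LD2_c30 LD3_c9)) = (LP (LK LD1_c1 LD2_c5 LD3_c58)) :=
  Lre_g IH (LK LD1_c0 LD2_c30 LD3_c9) (LK LD1_c1 LD2_c5 LD3_c58) Lrfl Lrfl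
theorem f76915 : Led Lsl_gf (LP (LK LD1_c0 LD2_c41 LD3_c17)) = (LP (LK LD1_c1 LD2_c5 LD3_c58)) :=
  Lgr Lrot76 (Lpe (K2.f25094 IH) (Lpr_ff (f76913 IH) (Lpr_gt (f61222 IH) (Lpn (LP (LK LD1_c1 LD2_c5 LD3_c58))))))
theorem f57575 : Led Lsl_bt (LP (LK LD1_c0 LD2_c18 LD3_c25)) = (LP (LK LD1_c0 LD2_c8 LD3_c17)) :=
  Lre_b IH (LK LD1_c0 LD2_c18 LD3_c25) (LK LD1_c0 LD2_c8 LD3_c17) Lrfl Lrfl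
theorem f58194 : Led Lsl_ct (LP (LK LD1_c1 LD2_c28 LD3_c61)) = (LP (LK LD1_c0 LD2_c41 LD3_c9)) :=
  Lre_c IH (LK LD1_c1 LD2_c28 LD3_c61) (LK LD1_c0 LD2_c41 LD3_c9) Lrfl Lrfl
theorem f61223 : Led Lsl_bf (LP (LK LD1_c1 LD2_c5 LD3_c58)) = (LP (LK LD1_c1 LD2_c28 LD3_c61)) :=
  Lgr Lrot34 (Lpe (f61222 IH) (Lpe (K2.f61000 IH) (Lpr_ct (K1.f61007 IH) (Lpr_gf (K0.f20895 IH) (Lpr_cf (K1.f57563 IH) (Lpe (K1.f57573 IH) (Lpe (f57575 IH) (Lpe (K1.f58743 IH) (Lpe (f58187 IH) (Lpe (f58194 IH) (Lpn (LP (LK LD1_c1 LD2_c28 LD3_c61)))))))))))))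
theorem f99151 : Led Lsl_gt (LP (LK LD1_c0 LD2_c41 LD3_c8)) = (LP (LK LD1_c0 LD2_c29 LD3_c61)) :=
  Lgr Lrot82 (Lpr_bf (f99131 IH) (Lpr_ct (K2.f19345 IH) (Lpe (K2.f19340 IH) (Lpe (K2.f18076 IH) (Lpr_bt (f68168 IH) (Lpr_gf (f76915 IH) (Lpr_bf (f61223 IH) (Lpr_ct (f58194 IH) (Lpe (f58188 IH) (Lpe (K0.f13651 IH) (Lpn (LP (LK LD1_c0 LD2_c29 LD3_c61)))))))))))))
theorem f99133 : Led Lsl_df (LP (LK LD1_c0 LD2_c41 LD3_c8)) = (LP (LK LD1_c1 LD2_c7 LD3_c43)) :=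
  Lgr Lrot38 (Lpr_dt (f99126 IH) (Lpn (LP (LK LD1_c1 LD2_c7 LD3_c43))))
theorem f13705 : Led Lsl_ct (LP (LK LD1_c0 LD2_c31 LD3_c10)) = (LP (LK LD1_c1 LD2_c7 LD3_c57)) :=
  Lre_c IH (LK LD1_c0 LD2_c31 LD3_c10) (LK LD1_c1 LD2_c7 LD3_c57) Lrfl Lrfl
theorem f72660 : Led Lsl_gt (LP (LK LD1_c1 LD2_c7 LD3_c57)) = (LP (LK LD1_c2 LD2_c20 LD3_c45)) :=
  Lre_g IH (LK LD1_c1 LD2_c7 LD3_c57) (LK LD1_c2 LD2_c20 LD3_c45) Lrfl Lrfl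
theorem f99142 : Led Lsl_dt (LP (LK LD1_c2 LD2_c20 LD3_c45)) = (LP (LK LD1_c4 LD2_c45 LD3_c14)) :=
  Lre_d IH (LK LD1_c2 LD2_c20 LD3_c45) (LK LD1_c4 LD2_c45 LD3_c14) Lrfl Lrfl
theorem f99153 : Led Lsl_gt (LP (LK LD1_c4 LD2_c45 LD3_c14)) = (LP (LK LD1_c4 LD2_c40 LD3_c18)) :=
  Lgr Lrot49 (Lpe (f99142 IH) (Lpe (f72660 IH) (Lpe (f13705 IH) (Lpr_gt (f61829 IH) (Lpe (f99133 IH) (Lpr_gt (f99151 IH) (Lpr_dt (f13681 IH) (Lpe (K1.f13679 IH) (Lpe (K1.f13680 IH) (Lpn (LP (LK LD1_c4 LD2_c40 LD3_c18))))))))))))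
theorem f101914 : Led Lsl_gf (LP (LK LD1_c4 LD2_c45 LD3_c14)) = (LP (LK LD1_c3 LD2_c5 LD3_c56)) :=
  Lgr Lrot47 (Lpr_gt (f99153 IH) (Lpe (K1.f58732 IH) (Lpr_ff (K1.f58730 IH) (Lpn (LP (LK LD1_c3 LD2_c5 LD3_c56))))))
theorem f13743 : Led Lsl_dt (LP (LK LD1_c4 LD2_c45 LD3_c14)) = (LP (LK LD1_c2 LD2_c20 LD3_c45)) :=
  Lre_d IH (LK LD1_c4 LD2_c45 LD3_c14) (LK LD1_c2 LD2_c20 LD3_c45) Lrfl Lrfl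
theorem f13718 : Led Lsl_gt (LP (LK LD1_c2 LD2_c20 LD3_c45)) = (LP (LK LD1_c1 LD2_c7 LD3_c44)) :=
  Lre_g IH (LK LD1_c2 LD2_c20 LD3_c45) (LK LD1_c1 LD2_c7 LD3_c44) Lrfl Lrfl
theorem f13706 : Led Lsl_dt (LP (LK LD1_c1 LD2_c7 LD3_c57)) = (LP (LK LD1_c2 LD2_c21 LD3_c23)) :=
  Lre_d IH (LK LD1_c1 LD2_c7 LD3_c57) (LK LD1_c2 LD2_c21 LD3_c23) Lrfl Lrfl
theorem f13744 : Led Lsl_gt (LP (LK LD1_c2 LD2_c20 LD3_c44)) = (LP (LK LD1_c1 LD2_c7 LD3_c57)) :=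
  Lre_g IH (LK LD1_c2 LD2_c20 LD3_c44) (LK LD1_c1 LD2_c7 LD3_c57) Lrfl Lrfl
theorem f13745 : Led Lsl_dt (LP (LK LD1_c4 LD2_c45 LD3_c11)) = (LP (LK LD1_c2 LD2_c20 LD3_c44)) :=
  Lre_d IH (LK LD1_c4 LD2_c45 LD3_c11) (LK LD1_c2 LD2_c20 LD3_c44) Lrfl Lrfl
theorem f58736 : Led Lsl_ct (LP (LK LD1_c4 LD2_c40 LD3_c18)) = (LP (LK LD1_c3 LD2_c5 LD3_c56)) :=
  Lgr Lrot40 (Lpr_ff (f58234 IH) (Lpe (K1.f13656 IH) (Lpr_ff (K1.f58730 IH) (Lpn (LP (LK LD1_c3 LD2_c5 LD3_c56))))))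
theorem f102001 : Led Lsl_gf (LP (LK LD1_c4 LD2_c45 LD3_c11)) = (LP (LK LD1_c4 LD2_c40 LD3_c18)) :=
  Lgr Lrot144 (Lpr_dt (f13745 IH) (Lpr_gt (f13744 IH) (Lpr_dt (f13706 IH) (Lpe (K0.f13715 IH) (Lpe (K0.f13695 IH) (Lpe (f13718 IH) (Lpe (f13743 IH) (Lpr_gf (f101914 IH) (Lpe (f58736 IH) (Lpn (LP (LK LD1_c4 LD2_c40 LD3_c18))))))))))))
theorem f58217 : Led Lsl_at (LP (LK LD1_c1 LD2_c29 LD3_c3)) = (LP (LK LD1_c3 LD2_c5 LD3_c53)) :=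
  Lre_a IH (LK LD1_c1 LD2_c29 LD3_c3) (LK LD1_c3 LD2_c5 LD3_c53) Lrfl Lrfl
theorem f58218 : Led Lsl_at (LP (LK LD1_c4 LD2_c40 LD3_c39)) = (LP (LK LD1_c3 LD2_c5 LD3_c56)) :=
  Lgr Lrot51 (Lpr_df (K1.f58215 IH) (Lpe (f58217 IH) (Lpe (K1.f25402 IH) (Lpn (LP (LK LD1_c3 LD2_c5 LD3_c56))))))
theorem f102038 : Led Lsl_gt (LP (LK LD1_c4 LD2_c45 LD3_c11)) = (LP (LK LD1_c3 LD2_c5 LD3_c56)) :=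
  Lgr Lrot46 (Lpr_gf (f102001 IH) (Lpr_ft (K1.f58250 IH) (Lpr_at (f58218 IH) (Lpn (LP (LK LD1_c3 LD2_c5 LD3_c56))))))
theorem f99198 : Led Lsl_dt (LP (LK LD1_c2 LD2_c20 LD3_c44)) = (LP (LK LD1_c4 LD2_c45 LD3_c11)) :=
  Lre_d IH (LK LD1_c2 LD2_c20 LD3_c44) (LK LD1_c4 LD2_c45 LD3_c11) Lrfl Lrfl
theorem f77326 : Led Lsl_gt (LP (LK LD1_c1 LD2_c7 LD3_c44)) = (LP (LK LD1_c2 LD2_c20 LD3_c44)) :=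
  Lre_g IH (LK LD1_c1 LD2_c7 LD3_c44) (LK LD1_c2 LD2_c20 LD3_c44) Lrfl Lrfl
theorem f13697 : Led Lsl_ct (LP (LK LD1_c1 LD2_c7 LD3_c44)) = (LP (LK LD1_c0 LD2_c31 LD3_c5)) :=
  Lre_c IH (LK LD1_c1 LD2_c7 LD3_c44) (LK LD1_c0 LD2_c31 LD3_c5) Lrfl Lrfl
theorem f63851 : Led Lsl_gt (LP (LK LD1_c0 LD2_c31 LD3_c5)) = (LP (LK LD1_c1 LD2_c7 LD3_c42)) :=
  Lre_g IH (LK LD1_c0 LD2_c31 LD3_c5) (LK LD1_c1 LD2_c7 LD3_c42) Lrfl Lrfl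
theorem f102069 : Led Lsl_dt (LP (LK LD1_c1 LD2_c7 LD3_c42)) = (LP (LK LD1_c0 LD2_c41 LD3_c9)) :=
  Lgr Lrot57 (Lpe (f63851 IH) (Lpe (f13697 IH) (Lpr_gt (f77326 IH) (Lpr_dt (f99198 IH) (Lpr_gt (f102038 IH) (Lpr_dt (K1.f25402 IH) (Lpe (K1.f25162 IH) (Lpe (K1.f58280 IH) (Lpe (f58187 IH) (Lpn (LP (LK LD1_c0 LD2_c41 LD3_c9))))))))))))
theorem f102111 : Led Lsl_df (LP (LK LD1_c1 LD2_c7 LD3_c42)) = (LP (LK LD1_c0 LD2_c41 LD3_c9)) :=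
  Lgr Lrot38 (Lpr_dt (f102069 IH) (Lpn (LP (LK LD1_c0 LD2_c41 LD3_c9))))
theorem f93666 : Led Lsl_ct (LP (LK LD1_c1 LD2_c7 LD3_c42)) = (LP (LK LD1_c2 LD2_c20 LD3_c40)) :=
  Lre_c IH (LK LD1_c1 LD2_c7 LD3_c42) (LK LD1_c2 LD2_c20 LD3_c40) Lrfl Lrfl
theorem f101919 : Led Lsl_dt (LP (LK LD1_c4 LD2_c45 LD3_c1)) = (LP (LK LD1_c2 LD2_c20 LD3_c40)) :=
  Lre_d IH (LK LD1_c4 LD2_c45 LD3_c1) (LK LD1_c2 LD2_c20 LD3_c40) Lrfl Lrfl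
theorem f13678 : Led Lsl_dt (LP (LK LD1_c1 LD2_c5 LD3_c35)) = (LP (LK LD1_c0 LD2_c29 LD3_c61)) :=
  Lre_d IH (LK LD1_c1 LD2_c5 LD3_c35) (LK LD1_c0 LD2_c29 LD3_c61) Lrfl Lrfl
theorem f99083 : Led Lsl_gf (LP (LK LD1_c1 LD2_c5 LD3_c35)) = (LP (LK LD1_c0 LD2_c30 LD3_c61)) :=
  Lgr Lrot76 (Lpe (K1.f58749 IH) (Lpr_ff (K1.f58750 IH) (Lpr_gt (f99077 IH) (Lpn (LP (LK LD1_c0 LD2_c30 LD3_c61))))))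
theorem f98844 : Led Lsl_ct (LP (LK LD1_c1 LD2_c7 LD3_c35)) = (LP (LK LD1_c0 LD2_c30 LD3_c61)) :=
  Lre_c IH (LK LD1_c1 LD2_c7 LD3_c35) (LK LD1_c0 LD2_c30 LD3_c61) Lrfl Lrfl
theorem f102167 : Led Lsl_dt (LP (LK LD1_c2 LD2_c20 LD3_c30)) = (LP (LK LD1_c4 LD2_c44 LD3_c41)) :=
  Lre_d IH (LK LD1_c2 LD2_c20 LD3_c30) (LK LD1_c4 LD2_c44 LD3_c41) Lrfl Lrfl
theorem f102168 : Led Lsl_gf (LP (LK LD1_c4 LD2_c45 LD3_c1)) = (LP (LK LD1_c4 LD2_c44 LD3_c41)) :=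
  Lgr Lrot143 (Lpr_dt (f101919 IH) (Lpe (f93666 IH) (Lpr_df (f102111 IH) (Lpe (f58188 IH) (Lpe (f13678 IH) (Lpr_gf (f99083 IH) (Lpe (f98844 IH) (Lpr_gt (f99085 IH) (Lpr_dt (f102167 IH) (Lpn (LP (LK LD1_c4 LD2_c44 LD3_c41))))))))))))
theorem f101916 : Led Lsl_dt (LP (LK LD1_c2 LD2_c20 LD3_c40)) = (LP (LK LD1_c4 LD2_c45 LD3_c1)) :=
  Lre_d IH (LK LD1_c2 LD2_c20 LD3_c40) (LK LD1_c4 LD2_c45 LD3_c1) Lrfl Lrfl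
theorem f101917 : Led Lsl_cf (LP (LK LD1_c4 LD2_c45 LD3_c1)) = (LP (LK LD1_c4 LD2_c45 LD3_c14)) :=
  Lgr Lrot99 (Lpe (f101916 IH) (Lpe (f93666 IH) (Lpe (f63851 IH) (Lpe (f13697 IH) (Lpe (f13718 IH) (Lpe (f13743 IH) (Lpr_gt (f99153 IH) (Lpr_ct (f58736 IH) (Lpe (f101914 IH) (Lpn (LP (LK LD1_c4 LD2_c45 LD3_c14))))))))))))
theorem f101983 : Led Lsl_ct (LP (LK LD1_c4 LD2_c45 LD3_c1)) = (LP (LK LD1_c4 LD2_c45 LD3_c14)) :=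
  Lgr Lrot59 (Lpr_cf (f101917 IH) (Lpn (LP (LK LD1_c4 LD2_c45 LD3_c14))))
theorem f98947 : Led Lsl_ct (LP (LK LD1_c1 LD2_c7 LD3_c40)) = (LP (LK LD1_c0 LD2_c31 LD3_c3)) :=
  Lre_c IH (LK LD1_c1 LD2_c7 LD3_c40) (LK LD1_c0 LD2_c31 LD3_c3) Lrfl Lrfl
theorem f102230 : Led Lsl_gf (LP (LK LD1_c1 LD2_c7 LD3_c40)) = (LP (LK LD1_c2 LD2_c20 LD3_c30)) :=
  Lgr Lrot147 (Lpr_ct (f98947 IH) (Lpr_gt (f98935 IH) (Lpr_ct (K1.f25162 IH) (Lpe (K1.f25402 IH) (Lpe (f58736 IH) (Lpe (f99153 IH) (Lpe (f101983 IH) (Lpr_gf (f102168 IH) (Lpe (f102167 IH) (Lpn (LP (LK LD1_c2 LD2_c20 LD3_c30))))))))))))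
theorem f102938 : Led Lsl_at (LP (LK LD1_c2 LD2_c17 LD3_c17)) = (LP (LK LD1_c1 LD2_c7 LD3_c40)) :=
  Lgr Lrot26 (Lpr_ff (f102928 IH) (Lpr_gt (f99085 IH) (Lpe (f102230 IH) (Lpn (LP (LK LD1_c1 LD2_c7 LD3_c40))))))
theorem f78655 : Led Lsl_dt (LP (LK LD1_c4 LD2_c40 LD3_c25)) = (LP (LK LD1_c2 LD2_c17 LD3_c17)) :=
  Lre_d IH (LK LD1_c4 LD2_c40 LD3_c25) (LK LD1_c2 LD2_c17 LD3_c17) Lrfl Lrfl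
theorem f102947 : Led Lsl_af (LP (LK LD1_c4 LD2_c40 LD3_c25)) = (LP (LK LD1_c2 LD2_c20 LD3_c38)) :=
  Lgr Lrot117 (Lpr_dt (f78655 IH) (Lpr_at (f102938 IH) (Lpr_dt (f98908 IH) (Lpn (LP (LK LD1_c2 LD2_c20 LD3_c38))))))
theorem f102949 : Led Lsl_at (LP (LK LD1_c4 LD2_c40 LD3_c25)) = (LP (LK LD1_c2 LD2_c20 LD3_c38)) :=
  Lgr Lrot100 (Lpr_af (f102947 IH) (Lpn (LP (LK LD1_c2 LD2_c20 LD3_c38))))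
theorem f99072 : Led Lsl_dt (LP (LK LD1_c2 LD2_c20 LD3_c33)) = (LP (LK LD1_c1 LD2_c7 LD3_c35)) :=
  Lre_d IH (LK LD1_c2 LD2_c20 LD3_c33) (LK LD1_c1 LD2_c7 LD3_c35) Lrfl Lrfl
theorem f102958 : Led Lsl_ff (LP (LK LD1_c4 LD2_c40 LD3_c25)) = (LP (LK LD1_c2 LD2_c20 LD3_c33)) :=
  Lgr Lrot103 (Lpr_at (f102949 IH) (Lpr_cf (f99006 IH) (Lpe (f98898 IH) (Lpe (f98841 IH) (Lpe (f98838 IH) (Lpe (K2.f23592 IH) (Lpe (f13799 IH) (Lpe (f98844 IH) (Lpe (f99072 IH) (Lpn (LP (LK LD1_c2 LD2_c20 LD3_c33))))))))))))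
theorem f102963 : Led Lsl_gt (LP (LK LD1_c2 LD2_c20 LD3_c33)) = (LP (LK LD1_c4 LD2_c44 LD3_c51)) :=
  Lre_g IH (LK LD1_c2 LD2_c20 LD3_c33) (LK LD1_c4 LD2_c44 LD3_c51) Lrfl Lrfl
theorem f102964 : Led Lsl_gf (LP (LK LD1_c2 LD2_c20 LD3_c38)) = (LP (LK LD1_c4 LD2_c44 LD3_c51)) :=
  Lgr Lrot76 (Lpe (f102949 IH) (Lpr_ff (f102958 IH) (Lpr_gt (f102963 IH) (Lpn (LP (LK LD1_c4 LD2_c44 LD3_c51))))))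
theorem f102966 : Led Lsl_gt (LP (LK LD1_c1 LD2_c7 LD3_c47)) = (LP (LK LD1_c2 LD2_c20 LD3_c53)) :=
  Lre_g IH (LK LD1_c1 LD2_c7 LD3_c47) (LK LD1_c2 LD2_c20 LD3_c53) Lrfl Lrfl
theorem f102967 : Led Lsl_dt (LP (LK LD1_c2 LD2_c20 LD3_c53)) = (LP (LK LD1_c4 LD2_c44 LD3_c51)) :=
  Lgr Lrot57 (Lpe (f102966 IH) (Lpe (f78242 IH) (Lpr_gt (f13802 IH) (Lpr_dt (K0.f13773 IH) (Lpr_gt (K0.f23327 IH) (Lpr_dt (f97556 IH) (Lpe (f98947 IH) (Lpe (f98952 IH) (Lpr_gf (f102964 IH) (Lpn (LP (LK LD1_c4 LD2_c44 LD3_c51))))))))))))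
theorem f102969 : Led Lsl_gf (LP (LK LD1_c1 LD2_c7 LD3_c50)) = (LP (LK LD1_c2 LD2_c20 LD3_c53)) :=
  Lgr Lrot147 (Lpr_ct (f77992 IH) (Lpr_gt (K2.f25202 IH) (Lpr_ct (K2.f13784 IH) (Lpe (f13780 IH) (Lpe (K0.f13720 IH) (Lpe (f99074 IH) (Lpe (f98909 IH) (Lpr_gf (f102964 IH) (Lpe (f102967 IH) (Lpn (LP (LK LD1_c2 LD2_c20 LD3_c53))))))))))))
theorem f102971 : Led Lsl_df (LP (LK LD1_c2 LD2_c20 LD3_c53)) = (LP (LK LD1_c4 LD2_c44 LD3_c51)) :=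
  Lgr Lrot155 (Lpe (f102969 IH) (Lpr_ct (f77992 IH) (Lpr_gt (K2.f25202 IH) (Lpr_ct (K2.f13784 IH) (Lpr_dt (f13785 IH) (Lpe (K0.f13720 IH) (Lpe (f99074 IH) (Lpe (f98909 IH) (Lpr_gf (f102964 IH) (Lpn (LP (LK LD1_c4 LD2_c44 LD3_c51))))))))))))
theorem f13768 : Led Lsl_gt (LP (LK LD1_c2 LD2_c21 LD3_c20)) = (LP (LK LD1_c1 LD2_c7 LD3_c55)) :=
  Lre_g IH (LK LD1_c2 LD2_c21 LD3_c20) (LK LD1_c1 LD2_c7 LD3_c55) Lrfl Lrfl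
theorem f102989 : Led Lsl_cf (LP (LK LD1_c2 LD2_c21 LD3_c20)) = (LP (LK LD1_c2 LD2_c20 LD3_c33)) :=
  Lgr Lrot166 (Lpr_gt (f13768 IH) (Lpr_dt (f13780 IH) (Lpr_gt (f60998 IH) (Lpr_dt (f78092 IH) (Lpe (f78504 IH) (Lpe (f78340 IH) (Lpr_gf (f102969 IH) (Lpr_df (f102971 IH) (Lpe (f102963 IH) (Lpn (LP (LK LD1_c2 LD2_c20 LD3_c33))))))))))))
theorem f98897 : Led Lsl_dt (LP (LK LD1_c1 LD2_c7 LD3_c35)) = (LP (LK LD1_c2 LD2_c20 LD3_c33)) :=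
  Lre_d IH (LK LD1_c1 LD2_c7 LD3_c35) (LK LD1_c2 LD2_c20 LD3_c33) Lrfl Lrfl
theorem f98896 : Led Lsl_ct (LP (LK LD1_c0 LD2_c30 LD3_c61)) = (LP (LK LD1_c1 LD2_c7 LD3_c35)) :=
  Lre_c IH (LK LD1_c0 LD2_c30 LD3_c61) (LK LD1_c1 LD2_c7 LD3_c35) Lrfl Lrfl
theorem f99008 : Led Lsl_ct (LP (LK LD1_c2 LD2_c20 LD3_c35)) = (LP (LK LD1_c1 LD2_c7 LD3_c38)) :=
  Lre_c IH (LK LD1_c2 LD2_c20 LD3_c35) (LK LD1_c1 LD2_c7 LD3_c38) Lrfl Lrfl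
theorem f102995 : Led Lsl_dt (LP (LK LD1_c2 LD2_c21 LD3_c20)) = (LP (LK LD1_c2 LD2_c20 LD3_c35)) :=
  Lgr Lrot173 (Lpr_cf (f102989 IH) (Lpe (f98897 IH) (Lpe (f98896 IH) (Lpe (f98846 IH) (Lpe (f78006 IH) (Lpe (f98849 IH) (Lpe (f98840 IH) (Lpr_df (f98883 IH) (Lpe (f98909 IH) (Lpe (f98908 IH) (Lpe (f97557 IH) (Lpe (f97556 IH) (Lpe (K0.f23307 IH) (Lpe (f23318 IH) (Lpe (f99008 IH) (Lpn (LP (LK LD1_c2 LD2_c20 LD3_c35))))))))))))))))))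
theorem f13769 : Led Lsl_gf (LP (LK LD1_c2 LD2_c21 LD3_c20)) = (LP (LK LD1_c2 LD2_c21 LD3_c21)) :=
  Lgr Lrot47 (Lpr_gt (f13768 IH) (Lpe (K0.f13753 IH) (Lpr_ff (K0.f13738 IH) (Lpn (LP (LK LD1_c2 LD2_c21 LD3_c21))))))
theorem f103113 : Led Lsl_gf (LP (LK LD1_c1 LD2_c29 LD3_c3)) = (LP (LK LD1_c2 LD2_c20 LD3_c35)) :=
  Lgr Lrot143 (Lpr_dt (K1.f58738 IH) (Lpe (f58736 IH) (Lpe (K1.f13683 IH) (Lpe (f98915 IH) (Lpr_df (f98883 IH) (Lpe (f78058 IH) (Lpe (K0.f13720 IH) (Lpe (f13769 IH) (Lpr_dt (f102995 IH) (Lpn (LP (LK LD1_c2 LD2_c20 LD3_c35))))))))))))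
theorem f103190 : Led Lsl_gt (LP (LK LD1_c2 LD2_c17 LD3_c15)) = (LP (LK LD1_c2 LD2_c20 LD3_c35)) :=
  Lgr Lrot5 (Lpr_ft (K1.f58257 IH) (Lpr_at (f58268 IH) (Lpr_gf (f103113 IH) (Lpn (LP (LK LD1_c2 LD2_c20 LD3_c35))))))
theorem f103111 : Led Lsl_df (LP (LK LD1_c2 LD2_c21 LD3_c20)) = (LP (LK LD1_c2 LD2_c20 LD3_c35)) :=
  Lgr Lrot38 (Lpr_dt (f102995 IH) (Lpn (LP (LK LD1_c2 LD2_c20 LD3_c35))))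
theorem f98845 : Led Lsl_gt (LP (LK LD1_c2 LD2_c20 LD3_c31)) = (LP (LK LD1_c1 LD2_c7 LD3_c35)) :=
  Lre_g IH (LK LD1_c2 LD2_c20 LD3_c31) (LK LD1_c1 LD2_c7 LD3_c35) Lrfl Lrfl
theorem f102055 : Led Lsl_dt (LP (LK LD1_c4 LD2_c44 LD3_c44)) = (LP (LK LD1_c2 LD2_c20 LD3_c31)) :=
  Lre_d IH (LK LD1_c4 LD2_c44 LD3_c44) (LK LD1_c2 LD2_c20 LD3_c31) Lrfl Lrfl
theorem f103197 : Led Lsl_gt (LP (LK LD1_c4 LD2_c45 LD3_c1)) = (LP (LK LD1_c4 LD2_c44 LD3_c44)) :=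
  Lgr Lrot94 (Lpr_cf (f101917 IH) (Lpr_gt (f99153 IH) (Lpr_dt (K1.f13680 IH) (Lpr_gt (f103190 IH) (Lpe (f103111 IH) (Lpr_cf (f102989 IH) (Lpe (f98897 IH) (Lpe (f98845 IH) (Lpe (f102055 IH) (Lpn (LP (LK LD1_c4 LD2_c44 LD3_c44))))))))))))
theorem f23500 : Led Lsl_ct (LP (LK LD1_c1 LD2_c7 LD3_c38)) = (LP (LK LD1_c2 LD2_c20 LD3_c35)) :=
  Lre_c IH (LK LD1_c1 LD2_c7 LD3_c38) (LK LD1_c2 LD2_c20 LD3_c35) Lrfl Lrfl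
theorem f23499 : Led Lsl_dt (LP (LK LD1_c0 LD2_c31 LD3_c2)) = (LP (LK LD1_c1 LD2_c7 LD3_c38)) :=
  Lre_d IH (LK LD1_c0 LD2_c31 LD3_c2) (LK LD1_c1 LD2_c7 LD3_c38) Lrfl Lrfl
theorem f103115 : Led Lsl_gt (LP (LK LD1_c2 LD2_c17 LD3_c8)) = (LP (LK LD1_c2 LD2_c20 LD3_c23)) :=
  Lgr Lrot94 (Lpe (f78007 IH) (Lpr_gt (f13811 IH) (Lpr_dt (K0.f13758 IH) (Lpe (f13769 IH) (Lpr_dt (f102995 IH) (Lpe (f23500 IH) (Lpe (f23499 IH) (Lpe (K2.f23498 IH) (Lpe (K2.f23539 IH) (Lpn (LP (LK LD1_c2 LD2_c20 LD3_c23))))))))))))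
theorem f13671 : Led Lsl_dt (LP (LK LD1_c2 LD2_c17 LD3_c8)) = (LP (LK LD1_c1 LD2_c5 LD3_c30)) :=
  Lre_d IH (LK LD1_c2 LD2_c17 LD3_c8) (LK LD1_c1 LD2_c5 LD3_c30) Lrfl Lrfl
theorem f61635 : Led Lsl_gt (LP (LK LD1_c1 LD2_c5 LD3_c30)) = (LP (LK LD1_c2 LD2_c17 LD3_c7)) :=
  Lre_g IH (LK LD1_c1 LD2_c5 LD3_c30) (LK LD1_c2 LD2_c17 LD3_c7) Lrfl Lrfl
theorem f61636 : Led Lsl_bt (LP (LK LD1_c0 LD2_c6 LD3_c11)) = (LP (LK LD1_c0 LD2_c13 LD3_c33)) :=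
  Lre_b IH (LK LD1_c0 LD2_c6 LD3_c11) (LK LD1_c0 LD2_c13 LD3_c33) Lrfl Lrfl
theorem f61637 : Led Lsl_gt (LP (LK LD1_c0 LD2_c30 LD3_c31)) = (LP (LK LD1_c0 LD2_c13 LD3_c33)) :=
  Lre_g IH (LK LD1_c0 LD2_c30 LD3_c31) (LK LD1_c0 LD2_c13 LD3_c33) Lrfl Lrfl
theorem f61638 : Led Lsl_bt (LP (LK LD1_c1 LD2_c6 LD3_c39)) = (LP (LK LD1_c0 LD2_c30 LD3_c31)) :=
  Lre_b IH (LK LD1_c1 LD2_c6 LD3_c39) (LK LD1_c0 LD2_c30 LD3_c31) Lrfl Lrfl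
theorem f61639 : Led Lsl_cf (LP (LK LD1_c2 LD2_c17 LD3_c7)) = (LP (LK LD1_c1 LD2_c6 LD3_c39)) :=
  Lgr Lrot163 (Lpe (f61635 IH) (Lpe (K2.f13669 IH) (Lpe (K2.f13664 IH) (Lpe (K0.f13626 IH) (Lpr_ct (K0.f13623 IH) (Lpr_gf (K1.f61246 IH) (Lpe (K0.f26052 IH) (Lpr_bt (f61636 IH) (Lpe (f61637 IH) (Lpe (f61638 IH) (Lpn (LP (LK LD1_c1 LD2_c6 LD3_c39)))))))))))))
theorem f61643 : Led Lsl_ct (LP (LK LD1_c2 LD2_c17 LD3_c7)) = (LP (LK LD1_c1 LD2_c6 LD3_c39)) :=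
  Lgr Lrot59 (Lpr_cf (f61639 IH) (Lpn (LP (LK LD1_c1 LD2_c6 LD3_c39))))
theorem f91318 : Led Lsl_bf (LP (LK LD1_c1 LD2_c7 LD3_c43)) = (LP (LK LD1_c1 LD2_c38 LD3_c37)) :=
  Lgr Lrot24 (Lpr_bt (f91313 IH) (Lpn (LP (LK LD1_c1 LD2_c38 LD3_c37))))
theorem f99140 : Led Lsl_bt (LP (LK LD1_c0 LD2_c41 LD3_c8)) = (LP (LK LD1_c0 LD2_c45 LD3_c43)) :=
  Lgr Lrot95 (Lpr_df (f99133 IH) (Lpr_bf (f91318 IH) (Lpe (K2.f19344 IH) (Lpn (LP (LK LD1_c0 LD2_c45 LD3_c43))))))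
theorem f58752 : Led Lsl_ct (LP (LK LD1_c0 LD2_c41 LD3_c8)) = (LP (LK LD1_c1 LD2_c28 LD3_c59)) :=
  Lre_c IH (LK LD1_c0 LD2_c41 LD3_c8) (LK LD1_c1 LD2_c28 LD3_c59) Lrfl Lrfl
theorem f12088 : Led Lsl_bt (LP (LK LD1_c0 LD2_c21 LD3_c24)) = (LP (LK LD1_c0 LD2_c47 LD3_c49)) :=
  Lre_b IH (LK LD1_c0 LD2_c21 LD3_c24) (LK LD1_c0 LD2_c47 LD3_c49) Lrfl Lrfl
theorem f87517 : Led Lsl_gf (LP (LK LD1_c0 LD2_c47 LD3_c49)) = (LP (LK LD1_c0 LD2_c21 LD3_c59)) :=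
  Lgr Lrot124 (Lpe (f12088 IH) (Lpr_ct (K2.f12107 IH) (Lpr_gt (K2.f87515 IH) (Lpe (K2.f87511 IH) (Lpr_bt (K2.f84730 IH) (Lpr_gt (K2.f84720 IH) (Lpe (K2.f84683 IH) (Lpr_gt (K2.f19350 IH) (Lpe (K1.f10300 IH) (Lpr_bt (K2.f17693 IH) (Lpn (LP (LK LD1_c0 LD2_c21 LD3_c59)))))))))))))
theorem f66767 : Led Lsl_ct (LP (LK LD1_c2 LD2_c17 LD3_c9)) = (LP (LK LD1_c1 LD2_c5 LD3_c31)) :=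
  Lre_c IH (LK LD1_c2 LD2_c17 LD3_c9) (LK LD1_c1 LD2_c5 LD3_c31) Lrfl Lrfl
theorem f12104 : Led Lsl_ct (LP (LK LD1_c1 LD2_c42 LD3_c33)) = (LP (LK LD1_c0 LD2_c47 LD3_c51)) :=
  Lre_c IH (LK LD1_c1 LD2_c42 LD3_c33) (LK LD1_c0 LD2_c47 LD3_c51) Lrfl Lrfl
theorem f12103 : Led Lsl_bt (LP (LK LD1_c0 LD2_c47 LD3_c51)) = (LP (LK LD1_c1 LD2_c42 LD3_c32)) :=
  Lre_b IH (LK LD1_c0 LD2_c47 LD3_c51) (LK LD1_c1 LD2_c42 LD3_c32) Lrfl Lrfl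
theorem f12092 : Led Lsl_et (LP (LK LD1_c1 LD2_c39 LD3_c9)) = (LP (LK LD1_c3 LD2_c25 LD3_c14)) :=
  Lre_e IH (LK LD1_c1 LD2_c39 LD3_c9) (LK LD1_c3 LD2_c25 LD3_c14) Lrfl Lrfl
theorem f12093 : Led Lsl_et (LP (LK LD1_c1 LD2_c42 LD3_c32)) = (LP (LK LD1_c0 LD2_c47 LD3_c49)) :=
  Lre_e IH (LK LD1_c1 LD2_c42 LD3_c32) (LK LD1_c0 LD2_c47 LD3_c49) Lrfl Lrfl
theorem f12094 : Led Lsl_ct (LP (LK LD1_c3 LD2_c25 LD3_c14)) = (LP (LK LD1_c1 LD2_c42 LD3_c32)) :=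
  Lgr Lrot15 (Lpe (f12092 IH) (Lpr_cf (K2.f12084 IH) (Lpe (f12093 IH) (Lpn (LP (LK LD1_c1 LD2_c42 LD3_c32))))))
theorem f12099 : Led Lsl_cf (LP (LK LD1_c3 LD2_c25 LD3_c14)) = (LP (LK LD1_c1 LD2_c42 LD3_c32)) :=
  Lgr Lrot11 (Lpr_ct (f12094 IH) (Lpn (LP (LK LD1_c1 LD2_c42 LD3_c32))))
theorem f66768 : Led Lsl_bf (LP (LK LD1_c2 LD2_c17 LD3_c9)) = (LP (LK LD1_c3 LD2_c25 LD3_c14)) :=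
  Lgr Lrot90 (Lpr_ct (f66767 IH) (Lpr_bt (f66763 IH) (Lpr_ct (f12104 IH) (Lpr_bt (f12103 IH) (Lpe (f12099 IH) (Lpn (LP (LK LD1_c3 LD2_c25 LD3_c14))))))))
theorem f66788 : Led Lsl_bt (LP (LK LD1_c2 LD2_c17 LD3_c9)) = (LP (LK LD1_c3 LD2_c25 LD3_c14)) :=
  Lgr Lrot127 (Lpr_bf (f66768 IH) (Lpn (LP (LK LD1_c3 LD2_c25 LD3_c14))))
theorem f66793 : Led Lsl_et (LP (LK LD1_c1 LD2_c5 LD3_c30)) = (LP (LK LD1_c2 LD2_c17 LD3_c9)) :=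
  Lre_e IH (LK LD1_c1 LD2_c5 LD3_c30) (LK LD1_c2 LD2_c17 LD3_c9) Lrfl Lrfl
theorem f12105 : Led Lsl_et (LP (LK LD1_c3 LD2_c25 LD3_c14)) = (LP (LK LD1_c1 LD2_c39 LD3_c9)) :=
  Lre_e IH (LK LD1_c3 LD2_c25 LD3_c14) (LK LD1_c1 LD2_c39 LD3_c9) Lrfl Lrfl
theorem f66794 : Led Lsl_bf (LP (LK LD1_c1 LD2_c5 LD3_c30)) = (LP (LK LD1_c1 LD2_c39 LD3_c9)) :=
  Lgr Lrot96 (Lpr_et (f66793 IH) (Lpr_bt (f66788 IH) (Lpr_et (f12105 IH) (Lpn (LP (LK LD1_c1 LD2_c39 LD3_c9))))))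
theorem f99148 : Led Lsl_gf (LP (LK LD1_c1 LD2_c28 LD3_c59)) = (LP (LK LD1_c1 LD2_c6 LD3_c39)) :=
  Lgr Lrot129 (Lpe (f58752 IH) (Lpr_bt (f99140 IH) (Lpr_gt (K2.f90110 IH) (Lpe (K2.f21162 IH) (Lpe (K2.f21165 IH) (Lpe (f87517 IH) (Lpe (K2.f12090 IH) (Lpe (f66794 IH) (Lpr_gt (f61635 IH) (Lpr_ct (f61643 IH) (Lpn (LP (LK LD1_c1 LD2_c6 LD3_c39)))))))))))))
theorem f58755 : Led Lsl_ct (LP (LK LD1_c1 LD2_c28 LD3_c59)) = (LP (LK LD1_c0 LD2_c41 LD3_c8)) :=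
  Lre_c IH (LK LD1_c1 LD2_c28 LD3_c59) (LK LD1_c0 LD2_c41 LD3_c8) Lrfl Lrfl
theorem f61891 : Led Lsl_ct (LP (LK LD1_c2 LD2_c20 LD3_c42)) = (LP (LK LD1_c1 LD2_c7 LD3_c43)) :=
  Lre_c IH (LK LD1_c2 LD2_c20 LD3_c42) (LK LD1_c1 LD2_c7 LD3_c43) Lrfl Lrfl
theorem f23537 : Led Lsl_ct (LP (LK LD1_c2 LD2_c20 LD3_c23)) = (LP (LK LD1_c4 LD2_c44 LD3_c34)) :=
  Lre_c IH (LK LD1_c2 LD2_c20 LD3_c23) (LK LD1_c4 LD2_c44 LD3_c34) Lrfl Lrfl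
theorem f103169 : Led Lsl_gf (LP (LK LD1_c2 LD2_c20 LD3_c42)) = (LP (LK LD1_c4 LD2_c44 LD3_c34)) :=
  Lgr Lrot104 (Lpr_ct (f61891 IH) (Lpe (f99126 IH) (Lpe (f58755 IH) (Lpr_gf (f99148 IH) (Lpe (f61643 IH) (Lpe (f61635 IH) (Lpe (f13671 IH) (Lpr_gt (f103115 IH) (Lpr_ct (f23537 IH) (Lpn (LP (LK LD1_c4 LD2_c44 LD3_c34))))))))))))
theorem f23363 : Led Lsl_ct (LP (LK LD1_c1 LD2_c37 LD3_c57)) = (LP (LK LD1_c3 LD2_c23 LD3_c1)) :=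
  Lre_c IH (LK LD1_c1 LD2_c37 LD3_c57) (LK LD1_c3 LD2_c23 LD3_c1) Lrfl Lrfl
theorem f23492 : Led Lsl_bt (LP (LK LD1_c2 LD2_c20 LD3_c23)) = (LP (LK LD1_c2 LD2_c19 LD3_c53)) :=
  Lgr Lrot95 (Lpe (K2.f23490 IH) (Lpr_bf (K2.f23475 IH) (Lpe (K2.f23491 IH) (Lpn (LP (LK LD1_c2 LD2_c19 LD3_c53))))))
theorem f103181 : Led Lsl_gt (LP (LK LD1_c3 LD2_c23 LD3_c0)) = (LP (LK LD1_c2 LD2_c19 LD3_c53)) :=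
  Lgr Lrot164 (Lpe (f90232 IH) (Lpr_ct (f23363 IH) (Lpe (K2.f93997 IH) (Lpe (K1.f23701 IH) (Lpr_gf (f93999 IH) (Lpe (f91313 IH) (Lpr_ct (f61886 IH) (Lpr_gf (f103169 IH) (Lpe (f23537 IH) (Lpr_bt (f23492 IH) (Lpn (LP (LK LD1_c2 LD2_c19 LD3_c53)))))))))))))
theorem f90457 : Led Lsl_af (LP (LK LD1_c1 LD2_c40 LD3_c61)) = (LP (LK LD1_c3 LD2_c23 LD3_c0)) :=
  Lgr Lrot0 (Lpr_at (f90369 IH) (Lpn (LP (LK LD1_c3 LD2_c23 LD3_c0))))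
theorem f11881 : Led Lsl_bt (LP (LK LD1_c3 LD2_c23 LD3_c0)) = (LP (LK LD1_c1 LD2_c37 LD3_c57)) :=
  Lre_b IH (LK LD1_c3 LD2_c23 LD3_c0) (LK LD1_c1 LD2_c37 LD3_c57) Lrfl Lrfl
theorem f83906 : Led Lsl_bt (LP (LK LD1_c0 LD2_c45 LD3_c28)) = (LP (LK LD1_c1 LD2_c38 LD3_c2)) :=
  Lre_b IH (LK LD1_c0 LD2_c45 LD3_c28) (LK LD1_c1 LD2_c38 LD3_c2) Lrfl Lrfl
theorem f90292 : Led Lsl_ff (LP (LK LD1_c3 LD2_c23 LD3_c0)) = (LP (LK LD1_c1 LD2_c38 LD3_c2)) :=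
  Lgr Lrot25 (Lpr_bt (f11881 IH) (Lpr_ft (K2.f90240 IH) (Lpr_bt (f83906 IH) (Lpn (LP (LK LD1_c1 LD2_c38 LD3_c2))))))
theorem f83904 : Led Lsl_at (LP (LK LD1_c3 LD2_c23 LD3_c19)) = (LP (LK LD1_c1 LD2_c38 LD3_c2)) :=
  Lre_a IH (LK LD1_c3 LD2_c23 LD3_c19) (LK LD1_c1 LD2_c38 LD3_c2) Lrfl Lrfl
theorem f90471 : Led Lsl_ft (LP (LK LD1_c1 LD2_c40 LD3_c61)) = (LP (LK LD1_c3 LD2_c23 LD3_c19)) :=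
  Lgr Lrot101 (Lpr_af (f90457 IH) (Lpr_ff (f90292 IH) (Lpe (f83904 IH) (Lpn (LP (LK LD1_c3 LD2_c23 LD3_c19))))))
theorem f90476 : Led Lsl_ff (LP (LK LD1_c1 LD2_c40 LD3_c61)) = (LP (LK LD1_c3 LD2_c23 LD3_c19)) :=
  Lgr Lrot3 (Lpr_ft (f90471 IH) (Lpn (LP (LK LD1_c3 LD2_c23 LD3_c19))))
theorem f83917 : Led Lsl_at (LP (LK LD1_c1 LD2_c38 LD3_c2)) = (LP (LK LD1_c3 LD2_c23 LD3_c19)) :=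
  Lre_a IH (LK LD1_c1 LD2_c38 LD3_c2) (LK LD1_c3 LD2_c23 LD3_c19) Lrfl Lrfl
theorem f90485 : Led Lsl_ft (LP (LK LD1_c3 LD2_c23 LD3_c0)) = (LP (LK LD1_c1 LD2_c38 LD3_c2)) :=
  Lgr Lrot101 (Lpe (f90369 IH) (Lpr_ff (f90476 IH) (Lpe (f83917 IH) (Lpn (LP (LK LD1_c1 LD2_c38 LD3_c2))))))
theorem f103184 : Led Lsl_gf (LP (LK LD1_c3 LD2_c23 LD3_c19)) = (LP (LK LD1_c2 LD2_c19 LD3_c53)) :=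
  Lgr Lrot76 (Lpe (f83917 IH) (Lpe (f90485 IH) (Lpr_gt (f103181 IH) (Lpn (LP (LK LD1_c2 LD2_c19 LD3_c53))))))
theorem f77322 : Led Lsl_bt (LP (LK LD1_c1 LD2_c38 LD3_c2)) = (LP (LK LD1_c0 LD2_c45 LD3_c28)) :=
  Lre_b IH (LK LD1_c1 LD2_c38 LD3_c2) (LK LD1_c0 LD2_c45 LD3_c28) Lrfl Lrfl
theorem f90303 : Led Lsl_bt (LP (LK LD1_c1 LD2_c41 LD3_c3)) = (LP (LK LD1_c3 LD2_c23 LD3_c19)) :=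
  Lgr Lrot62 (Lpe (f64596 IH) (Lpr_bf (K1.f66573 IH) (Lpr_af (K2.f90299 IH) (Lpe (f77322 IH) (Lpe (f83904 IH) (Lpn (LP (LK LD1_c3 LD2_c23 LD3_c19))))))))
theorem f63843 : Led Lsl_ct (LP (LK LD1_c0 LD2_c19 LD3_c42)) = (LP (LK LD1_c0 LD2_c44 LD3_c9)) :=
  Lre_c IH (LK LD1_c0 LD2_c19 LD3_c42) (LK LD1_c0 LD2_c44 LD3_c9) Lrfl Lrfl
theorem f63850 : Led Lsl_bt (LP (LK LD1_c0 LD2_c19 LD3_c42)) = (LP (LK LD1_c0 LD2_c31 LD3_c5)) :=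
  Lre_b IH (LK LD1_c0 LD2_c19 LD3_c42) (LK LD1_c0 LD2_c31 LD3_c5) Lrfl Lrfl
theorem f103186 : Led Lsl_gt (LP (LK LD1_c2 LD2_c20 LD3_c40)) = (LP (LK LD1_c4 LD2_c44 LD3_c34)) :=
  Lgr Lrot149 (Lpe (f93666 IH) (Lpe (f63851 IH) (Lpe (f63850 IH) (Lpr_ct (f63843 IH) (Lpe (f15615 IH) (Lpe (f93456 IH) (Lpr_bt (f90303 IH) (Lpr_gf (f103184 IH) (Lpe (f23492 IH) (Lpr_ct (f23537 IH) (Lpn (LP (LK LD1_c4 LD2_c44 LD3_c34)))))))))))))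
theorem f23550 : Led Lsl_ct (LP (LK LD1_c4 LD2_c44 LD3_c34)) = (LP (LK LD1_c2 LD2_c20 LD3_c23)) :=
  Lre_c IH (LK LD1_c4 LD2_c44 LD3_c34) (LK LD1_c2 LD2_c20 LD3_c23) Lrfl Lrfl
theorem f78582 : Led Lsl_cf (LP (LK LD1_c2 LD2_c21 LD3_c12)) = (LP (LK LD1_c2 LD2_c20 LD3_c56)) :=
  Lgr Lrot11 (Lpr_ct (f78519 IH) (Lpn (LP (LK LD1_c2 LD2_c20 LD3_c56))))
theorem f78245 : Led Lsl_gt (LP (LK LD1_c4 LD2_c45 LD3_c44)) = (LP (LK LD1_c2 LD2_c20 LD3_c56)) :=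
  Lre_g IH (LK LD1_c4 LD2_c45 LD3_c44) (LK LD1_c2 LD2_c20 LD3_c56) Lrfl Lrfl
theorem f103230 : Led Lsl_cf (LP (LK LD1_c4 LD2_c45 LD3_c44)) = (LP (LK LD1_c4 LD2_c44 LD3_c44)) :=
  Lgr Lrot169 (Lpr_gt (f78245 IH) (Lpe (f78582 IH) (Lpe (f13801 IH) (Lpr_cf (K2.f78094 IH) (Lpe (K2.f78004 IH) (Lpe (f23550 IH) (Lpe (f103186 IH) (Lpe (f101919 IH) (Lpr_gt (f103197 IH) (Lpn (LP (LK LD1_c4 LD2_c44 LD3_c44))))))))))))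
theorem f61890 : Led Lsl_dt (LP (LK LD1_c4 LD2_c45 LD3_c7)) = (LP (LK LD1_c2 LD2_c20 LD3_c42)) :=
  Lre_d IH (LK LD1_c4 LD2_c45 LD3_c7) (LK LD1_c2 LD2_c20 LD3_c42) Lrfl Lrfl
theorem f102040 : Led Lsl_ct (LP (LK LD1_c4 LD2_c45 LD3_c11)) = (LP (LK LD1_c4 LD2_c45 LD3_c7)) :=
  Lgr Lrot110 (Lpr_gf (f102001 IH) (Lpr_cf (K1.f58728 IH) (Lpe (f102038 IH) (Lpe (f99198 IH) (Lpr_gt (f13744 IH) (Lpr_ct (K0.f13713 IH) (Lpr_gt (f61829 IH) (Lpr_ct (f61886 IH) (Lpe (f61890 IH) (Lpn (LP (LK LD1_c4 LD2_c45 LD3_c7))))))))))))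
theorem f102044 : Led Lsl_cf (LP (LK LD1_c4 LD2_c45 LD3_c11)) = (LP (LK LD1_c4 LD2_c45 LD3_c7)) :=
  Lgr Lrot11 (Lpr_ct (f102040 IH) (Lpn (LP (LK LD1_c4 LD2_c45 LD3_c7))))
theorem f13682 : Led Lsl_ct (LP (LK LD1_c1 LD2_c5 LD3_c35)) = (LP (LK LD1_c2 LD2_c17 LD3_c15)) :=
  Lre_c IH (LK LD1_c1 LD2_c5 LD3_c35) (LK LD1_c2 LD2_c17 LD3_c15) Lrfl Lrfl
theorem f102052 : Led Lsl_dt (LP (LK LD1_c2 LD2_c20 LD3_c31)) = (LP (LK LD1_c4 LD2_c44 LD3_c44)) :=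
  Lre_d IH (LK LD1_c2 LD2_c20 LD3_c31) (LK LD1_c4 LD2_c44 LD3_c44) Lrfl Lrfl
theorem f102053 : Led Lsl_gt (LP (LK LD1_c4 LD2_c44 LD3_c44)) = (LP (LK LD1_c4 LD2_c45 LD3_c7)) :=
  Lgr Lrot9 (Lpe (f102052 IH) (Lpr_gt (f98845 IH) (Lpr_ct (f98844 IH) (Lpe (f99083 IH) (Lpr_ct (f13682 IH) (Lpe (K1.f13680 IH) (Lpr_cf (K1.f58728 IH) (Lpe (f102038 IH) (Lpr_cf (f102044 IH) (Lpn (LP (LK LD1_c4 LD2_c45 LD3_c7))))))))))))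
theorem f61889 : Led Lsl_dt (LP (LK LD1_c3 LD2_c7 LD3_c32)) = (LP (LK LD1_c6 LD2_c19 LD3_c58)) :=
  Lre_d IH (LK LD1_c3 LD2_c7 LD3_c32) (LK LD1_c6 LD2_c19 LD3_c58) Lrfl Lrfl
theorem f103256 : Led Lsl_ct (LP (LK LD1_c4 LD2_c44 LD3_c51)) = (LP (LK LD1_c6 LD2_c19 LD3_c58)) :=
  Lgr Lrot7 (Lpe (f102967 IH) (Lpe (f102966 IH) (Lpe (f78244 IH) (Lpe (f78245 IH) (Lpr_cf (f103230 IH) (Lpr_gt (f102053 IH) (Lpr_dt (f61890 IH) (Lpe (f61887 IH) (Lpr_dt (f61889 IH) (Lpn (LP (LK LD1_c6 LD2_c19 LD3_c58))))))))))))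
theorem f102057 : Led Lsl_gf (LP (LK LD1_c2 LD2_c20 LD3_c31)) = (LP (LK LD1_c1 LD2_c7 LD3_c40)) :=
  Lgr Lrot144 (Lpr_dt (f102052 IH) (Lpr_gt (f102053 IH) (Lpr_dt (f61890 IH) (Lpe (f61886 IH) (Lpe (f99126 IH) (Lpe (f26749 IH) (Lpe (K1.f58742 IH) (Lpe (f98935 IH) (Lpe (f98947 IH) (Lpn (LP (LK LD1_c1 LD2_c7 LD3_c40))))))))))))
theorem f103252 : Led Lsl_ct (LP (LK LD1_c4 LD2_c45 LD3_c44)) = (LP (LK LD1_c4 LD2_c44 LD3_c44)) :=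
  Lgr Lrot59 (Lpr_cf (f103230 IH) (Lpn (LP (LK LD1_c4 LD2_c44 LD3_c44))))
theorem f58770 : Led Lsl_ct (LP (LK LD1_c2 LD2_c17 LD3_c17)) = (LP (LK LD1_c1 LD2_c5 LD3_c36)) :=
  Lre_c IH (LK LD1_c2 LD2_c17 LD3_c17) (LK LD1_c1 LD2_c5 LD3_c36) Lrfl Lrfl
theorem f58771 : Led Lsl_gt (LP (LK LD1_c4 LD2_c40 LD3_c23)) = (LP (LK LD1_c2 LD2_c17 LD3_c17)) :=
  Lre_g IH (LK LD1_c4 LD2_c40 LD3_c23) (LK LD1_c2 LD2_c17 LD3_c17) Lrfl Lrfl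
theorem f78646 : Led Lsl_dt (LP (LK LD1_c4 LD2_c40 LD3_c23)) = (LP (LK LD1_c4 LD2_c45 LD3_c44)) :=
  Lgr Lrot6 (Lpr_gt (f58771 IH) (Lpr_ct (f58770 IH) (Lpr_gt (f58768 IH) (Lpr_ct (K1.f58214 IH) (Lpe (K1.f58225 IH) (Lpe (K1.f13656 IH) (Lpe (f78002 IH) (Lpr_cf (f78582 IH) (Lpe (f78245 IH) (Lpn (LP (LK LD1_c4 LD2_c45 LD3_c44))))))))))))
theorem f13665 : Led Lsl_gt (LP (LK LD1_c1 LD2_c5 LD3_c37)) = (LP (LK LD1_c0 LD2_c30 LD3_c0)) :=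
  Lre_g IH (LK LD1_c1 LD2_c5 LD3_c37) (LK LD1_c0 LD2_c30 LD3_c0) Lrfl Lrfl
theorem f78246 : Led Lsl_ct (LP (LK LD1_c2 LD2_c17 LD3_c18)) = (LP (LK LD1_c1 LD2_c5 LD3_c37)) :=
  Lre_c IH (LK LD1_c2 LD2_c17 LD3_c18) (LK LD1_c1 LD2_c5 LD3_c37) Lrfl Lrfl
theorem f78663 : Led Lsl_gf (LP (LK LD1_c4 LD2_c40 LD3_c23)) = (LP (LK LD1_c2 LD2_c17 LD3_c18)) :=
  Lgr Lrot144 (Lpr_dt (f78646 IH) (Lpr_gt (f78245 IH) (Lpr_dt (f78244 IH) (Lpe (f78242 IH) (Lpr_df (f78232 IH) (Lpe (K2.f13664 IH) (Lpe (K1.f13657 IH) (Lpe (f13665 IH) (Lpe (f78246 IH) (Lpn (LP (LK LD1_c2 LD2_c17 LD3_c18))))))))))))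
theorem f78665 : Led Lsl_dt (LP (LK LD1_c4 LD2_c40 LD3_c27)) = (LP (LK LD1_c2 LD2_c17 LD3_c18)) :=
  Lre_d IH (LK LD1_c4 LD2_c40 LD3_c27) (LK LD1_c2 LD2_c17 LD3_c18) Lrfl Lrfl
theorem f103264 : Led Lsl_gf (LP (LK LD1_c4 LD2_c40 LD3_c27)) = (LP (LK LD1_c6 LD2_c19 LD3_c58)) :=
  Lgr Lrot148 (Lpr_dt (f78665 IH) (Lpe (f78663 IH) (Lpr_dt (f78646 IH) (Lpr_ct (f103252 IH) (Lpe (f102052 IH) (Lpr_gf (f102057 IH) (Lpe (f98952 IH) (Lpr_gf (f102964 IH) (Lpr_ct (f103256 IH) (Lpn (LP (LK LD1_c6 LD2_c19 LD3_c58))))))))))))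
theorem f98839 : Led Lsl_gt (LP (LK LD1_c1 LD2_c7 LD3_c33)) = (LP (LK LD1_c2 LD2_c20 LD3_c25)) :=
  Lre_g IH (LK LD1_c1 LD2_c7 LD3_c33) (LK LD1_c2 LD2_c20 LD3_c25) Lrfl Lrfl
theorem f103232 : Led Lsl_ct (LP (LK LD1_c2 LD2_c20 LD3_c25)) = (LP (LK LD1_c4 LD2_c40 LD3_c23)) :=
  Lgr Lrot110 (Lpe (f98839 IH) (Lpe (f98840 IH) (Lpr_gf (f98930 IH) (Lpe (K1.f25402 IH) (Lpe (f101914 IH) (Lpe (f101917 IH) (Lpr_gt (f103197 IH) (Lpe (f103230 IH) (Lpe (f78646 IH) (Lpn (LP (LK LD1_c4 LD2_c40 LD3_c23))))))))))))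
theorem f98873 : Led Lsl_gt (LP (LK LD1_c2 LD2_c20 LD3_c25)) = (LP (LK LD1_c1 LD2_c7 LD3_c38)) :=
  Lre_g IH (LK LD1_c2 LD2_c20 LD3_c25) (LK LD1_c1 LD2_c7 LD3_c38) Lrfl Lrfl
theorem f61892 : Led Lsl_ct (LP (LK LD1_c3 LD2_c7 LD3_c32)) = (LP (LK LD1_c1 LD2_c30 LD3_c0)) :=
  Lre_c IH (LK LD1_c3 LD2_c7 LD3_c32) (LK LD1_c1 LD2_c30 LD3_c0) Lrfl Lrfl
theorem f61901 : Led Lsl_dt (LP (LK LD1_c6 LD2_c19 LD3_c58)) = (LP (LK LD1_c3 LD2_c7 LD3_c32)) :=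
  Lre_d IH (LK LD1_c6 LD2_c19 LD3_c58) (LK LD1_c3 LD2_c7 LD3_c32) Lrfl Lrfl
theorem f78654 : Led Lsl_dt (LP (LK LD1_c2 LD2_c17 LD3_c17)) = (LP (LK LD1_c4 LD2_c40 LD3_c25)) :=
  Lre_d IH (LK LD1_c2 LD2_c17 LD3_c17) (LK LD1_c4 LD2_c40 LD3_c25) Lrfl Lrfl
theorem f103239 : Led Lsl_gf (LP (LK LD1_c6 LD2_c19 LD3_c58)) = (LP (LK LD1_c4 LD2_c40 LD3_c25)) :=
  Lgr Lrot154 (Lpr_dt (f61901 IH) (Lpr_ct (f61892 IH) (Lpe (f91444 IH) (Lpr_gf (f98836 IH) (Lpe (f23318 IH) (Lpe (f98873 IH) (Lpr_ct (f103232 IH) (Lpr_gt (f58771 IH) (Lpr_dt (f78654 IH) (Lpn (LP (LK LD1_c4 LD2_c40 LD3_c25))))))))))))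
theorem f102936 : Led Lsl_ft (LP (LK LD1_c4 LD2_c40 LD3_c25)) = (LP (LK LD1_c2 LD2_c20 LD3_c33)) :=
  Lgr Lrot54 (Lpe (f78654 IH) (Lpr_ff (f102928 IH) (Lpe (f99072 IH) (Lpn (LP (LK LD1_c2 LD2_c20 LD3_c33))))))
theorem f103268 : Led Lsl_af (LP (LK LD1_c4 LD2_c40 LD3_c27)) = (LP (LK LD1_c2 LD2_c20 LD3_c33)) :=
  Lgr Lrot31 (Lpr_gf (f103264 IH) (Lpr_gf (f103239 IH) (Lpr_ft (f102936 IH) (Lpn (LP (LK LD1_c2 LD2_c20 LD3_c33))))))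
theorem f103282 : Led Lsl_ft (LP (LK LD1_c4 LD2_c40 LD3_c27)) = (LP (LK LD1_c2 LD2_c20 LD3_c38)) :=
  Lgr Lrot101 (Lpr_af (f103268 IH) (Lpe (f102936 IH) (Lpr_af (f102947 IH) (Lpn (LP (LK LD1_c2 LD2_c20 LD3_c38))))))
theorem f103291 : Led Lsl_ff (LP (LK LD1_c4 LD2_c40 LD3_c27)) = (LP (LK LD1_c2 LD2_c20 LD3_c38)) :=
  Lgr Lrot3 (Lpr_ft (f103282 IH) (Lpn (LP (LK LD1_c2 LD2_c20 LD3_c38))))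
theorem f103316 : Led Lsl_ft (LP (LK LD1_c2 LD2_c17 LD3_c18)) = (LP (LK LD1_c1 LD2_c7 LD3_c40)) :=
  Lgr Lrot54 (Lpe (f78665 IH) (Lpr_ff (f103291 IH) (Lpe (f98908 IH) (Lpn (LP (LK LD1_c1 LD2_c7 LD3_c40))))))
theorem f78247 : Led Lsl_ct (LP (LK LD1_c1 LD2_c5 LD3_c37)) = (LP (LK LD1_c2 LD2_c17 LD3_c18)) :=
  Lre_c IH (LK LD1_c1 LD2_c5 LD3_c37) (LK LD1_c2 LD2_c17 LD3_c18) Lrfl Lrfl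
theorem f103327 : Led Lsl_ff (LP (LK LD1_c1 LD2_c5 LD3_c37)) = (LP (LK LD1_c0 LD2_c31 LD3_c3)) :=
  Lgr Lrot23 (Lpr_ct (f78247 IH) (Lpr_ft (f103316 IH) (Lpr_ct (f98947 IH) (Lpn (LP (LK LD1_c0 LD2_c31 LD3_c3))))))
theorem f103334 : Led Lsl_at (LP (LK LD1_c1 LD2_c5 LD3_c37)) = (LP (LK LD1_c0 LD2_c30 LD3_c61)) :=
  Lgr Lrot26 (Lpr_ff (f103327 IH) (Lpr_gt (f98935 IH) (Lpr_gt (f99077 IH) (Lpn (LP (LK LD1_c0 LD2_c30 LD3_c61))))))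
theorem f99097 : Led Lsl_at (LP (LK LD1_c0 LD2_c13 LD3_c46)) = (LP (LK LD1_c0 LD2_c30 LD3_c58)) :=
  Lre_a IH (LK LD1_c0 LD2_c13 LD3_c46) (LK LD1_c0 LD2_c30 LD3_c58) Lrfl Lrfl
theorem f103338 : Led Lsl_df (LP (LK LD1_c1 LD2_c5 LD3_c37)) = (LP (LK LD1_c0 LD2_c30 LD3_c58)) :=
  Lgr Lrot18 (Lpr_at (f103334 IH) (Lpr_dt (f13799 IH) (Lpr_at (f99097 IH) (Lpn (LP (LK LD1_c0 LD2_c30 LD3_c58))))))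
theorem f103463 : Led Lsl_gt (LP (LK LD1_c0 LD2_c13 LD3_c48)) = (LP (LK LD1_c0 LD2_c30 LD3_c58)) :=
  Lgr Lrot49 (Lpe (K0.f13696 IH) (Lpe (f13717 IH) (Lpe (f61891 IH) (Lpe (f61887 IH) (Lpr_dt (f61889 IH) (Lpe (f103264 IH) (Lpr_dt (f78665 IH) (Lpe (f78247 IH) (Lpr_df (f103338 IH) (Lpn (LP (LK LD1_c0 LD2_c30 LD3_c58))))))))))))
theorem f99109 : Led Lsl_ft (LP (LK LD1_c0 LD2_c31 LD3_c0)) = (LP (LK LD1_c0 LD2_c13 LD3_c46)) :=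
  Lre_f IH (LK LD1_c0 LD2_c31 LD3_c0) (LK LD1_c0 LD2_c13 LD3_c46) Lrfl Lrfl
theorem f103467 : Led Lsl_gf (LP (LK LD1_c0 LD2_c13 LD3_c48)) = (LP (LK LD1_c0 LD2_c31 LD3_c0)) :=
  Lgr Lrot47 (Lpr_gt (f103463 IH) (Lpe (f99097 IH) (Lpe (f99109 IH) (Lpn (LP (LK LD1_c0 LD2_c31 LD3_c0))))))
theorem f102364 : Led Lsl_bt (LP (LK LD1_c0 LD2_c20 LD3_c49)) = (LP (LK LD1_c0 LD2_c31 LD3_c0)) :=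
  Lgr Lrot35 (Lpr_ff (f102352 IH) (Lpe (f23593 IH) (Lpe (f99109 IH) (Lpn (LP (LK LD1_c0 LD2_c31 LD3_c0))))))
theorem f9754 : Led Lsl_gt (LP (LK LD1_c0 LD2_c20 LD3_c0)) = (LP (LK LD1_c0 LD2_c45 LD3_c8)) :=
  Lre_g IH (LK LD1_c0 LD2_c20 LD3_c0) (LK LD1_c0 LD2_c45 LD3_c8) Lrfl Lrfl
theorem f13532 : Led Lsl_gt (LP (LK LD1_c0 LD2_c45 LD3_c8)) = (LP (LK LD1_c0 LD2_c42 LD3_c47)) :=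
  Lgr Lrot46 (Lpe (f9754 IH) (Lpr_ft (K0.f13467 IH) (Lpr_at (K2.f13492 IH) (Lpn (LP (LK LD1_c0 LD2_c42 LD3_c47))))))
theorem f79312 : Led Lsl_ct (LP (LK LD1_c1 LD2_c7 LD3_c30)) = (LP (LK LD1_c0 LD2_c30 LD3_c58)) :=
  Lre_c IH (LK LD1_c1 LD2_c7 LD3_c30) (LK LD1_c0 LD2_c30 LD3_c58) Lrfl Lrfl
theorem f103473 : Led Lsl_bf (LP (LK LD1_c0 LD2_c45 LD3_c8)) = (LP (LK LD1_c1 LD2_c7 LD3_c30)) :=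
  Lgr Lrot156 (Lpr_gt (f13532 IH) (Lpr_bf (K2.f13502 IH) (Lpr_ct (K0.f9792 IH) (Lpr_gt (K2.f9797 IH) (Lpe (f13513 IH) (Lpr_bt (f102364 IH) (Lpe (f103467 IH) (Lpe (K0.f13686 IH) (Lpr_gt (f103463 IH) (Lpe (f79312 IH) (Lpn (LP (LK LD1_c1 LD2_c7 LD3_c30)))))))))))))
theorem f23314 : Led Lsl_bt (LP (LK LD1_c0 LD2_c42 LD3_c45)) = (LP (LK LD1_c0 LD2_c31 LD3_c2)) :=
  Lgr Lrot127 (Lpr_bf (K0.f23308 IH) (Lpn (LP (LK LD1_c0 LD2_c31 LD3_c2))))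
theorem f103480 : Led Lsl_ft (LP (LK LD1_c0 LD2_c45 LD3_c8)) = (LP (LK LD1_c0 LD2_c42 LD3_c45)) :=
  Lgr Lrot75 (Lpr_bf (f103473 IH) (Lpe (f98835 IH) (Lpe (f23314 IH) (Lpn (LP (LK LD1_c0 LD2_c42 LD3_c45))))))
theorem f9756 : Led Lsl_gt (LP (LK LD1_c0 LD2_c45 LD3_c9)) = (LP (LK LD1_c0 LD2_c20 LD3_c0)) :=
  Lre_g IH (LK LD1_c0 LD2_c45 LD3_c9) (LK LD1_c0 LD2_c20 LD3_c0) Lrfl Lrfl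
theorem f13504 : Led Lsl_gt (LP (LK LD1_c0 LD2_c42 LD3_c47)) = (LP (LK LD1_c0 LD2_c45 LD3_c9)) :=
  Lgr Lrot5 (Lpr_ft (K2.f13499 IH) (Lpr_at (K0.f9744 IH) (Lpe (f9756 IH) (Lpn (LP (LK LD1_c0 LD2_c45 LD3_c9))))))
theorem f103486 : Led Lsl_af (LP (LK LD1_c0 LD2_c45 LD3_c9)) = (LP (LK LD1_c0 LD2_c42 LD3_c45)) :=
  Lgr Lrot31 (Lpe (f13504 IH) (Lpe (f13532 IH) (Lpr_ft (f103480 IH) (Lpn (LP (LK LD1_c0 LD2_c42 LD3_c45))))))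
theorem f103490 : Led Lsl_ct (LP (LK LD1_c0 LD2_c45 LD3_c9)) = (LP (LK LD1_c0 LD2_c43 LD3_c51)) :=
  Lgr Lrot111 (Lpr_af (f103486 IH) (Lpe (f13487 IH) (Lpe (f79270 IH) (Lpn (LP (LK LD1_c0 LD2_c43 LD3_c51))))))
theorem f23341 : Led Lsl_ft (LP (LK LD1_c0 LD2_c43 LD3_c51)) = (LP (LK LD1_c0 LD2_c19 LD3_c34)) :=
  Lre_f IH (LK LD1_c0 LD2_c43 LD3_c51) (LK LD1_c0 LD2_c19 LD3_c34) Lrfl Lrfl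
theorem f103495 : Led Lsl_ff (LP (LK LD1_c0 LD2_c45 LD3_c9)) = (LP (LK LD1_c0 LD2_c42 LD3_c46)) :=
  Lgr Lrot23 (Lpr_ct (f103490 IH) (Lpr_ft (f23341 IH) (Lpe (K0.f23329 IH) (Lpn (LP (LK LD1_c0 LD2_c42 LD3_c46))))))
theorem f103499 : Led Lsl_ft (LP (LK LD1_c0 LD2_c45 LD3_c9)) = (LP (LK LD1_c0 LD2_c42 LD3_c46)) :=
  Lgr Lrot48 (Lpr_ff (f103495 IH) (Lpn (LP (LK LD1_c0 LD2_c42 LD3_c46))))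
theorem f103501 : Led Lsl_af (LP (LK LD1_c0 LD2_c45 LD3_c8)) = (LP (LK LD1_c0 LD2_c42 LD3_c46)) :=
  Lgr Lrot45 (Lpr_ft (f103480 IH) (Lpe (f103486 IH) (Lpr_ft (f103499 IH) (Lpn (LP (LK LD1_c0 LD2_c42 LD3_c46))))))
theorem f103503 : Led Lsl_ct (LP (LK LD1_c0 LD2_c45 LD3_c8)) = (LP (LK LD1_c0 LD2_c43 LD3_c49)) :=
  Lgr Lrot111 (Lpr_af (f103501 IH) (Lpr_cf (K0.f23329 IH) (Lpe (f23332 IH) (Lpn (LP (LK LD1_c0 LD2_c43 LD3_c49))))))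
theorem f24142 : Led Lsl_bt (LP (LK LD1_c0 LD2_c43 LD3_c31)) = (LP (LK LD1_c0 LD2_c19 LD3_c25)) :=
  Lre_b IH (LK LD1_c0 LD2_c43 LD3_c31) (LK LD1_c0 LD2_c19 LD3_c25) Lrfl Lrfl
theorem f24326 : Led Lsl_bt (LP (LK LD1_c0 LD2_c19 LD3_c3)) = (LP (LK LD1_c0 LD2_c42 LD3_c48)) :=
  Lre_b IH (LK LD1_c0 LD2_c19 LD3_c3) (LK LD1_c0 LD2_c42 LD3_c48) Lrfl Lrfl
theorem f24327 : Led Lsl_ct (LP (LK LD1_c0 LD2_c42 LD3_c49)) = (LP (LK LD1_c0 LD2_c19 LD3_c3)) :=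
  Lre_c IH (LK LD1_c0 LD2_c42 LD3_c49) (LK LD1_c0 LD2_c19 LD3_c3) Lrfl Lrfl
theorem f24330 : Led Lsl_cf (LP (LK LD1_c1 LD2_c32 LD3_c26)) = (LP (LK LD1_c0 LD2_c43 LD3_c31)) :=
  Lgr Lrot97 (Lpr_bt (f24328 IH) (Lpr_ct (f24327 IH) (Lpr_bt (f24326 IH) (Lpr_ct (f24320 IH) (Lpr_bt (f24329 IH) (Lpn (LP (LK LD1_c0 LD2_c43 LD3_c31))))))))
theorem f103505 : Led Lsl_gf (LP (LK LD1_c1 LD2_c32 LD3_c26)) = (LP (LK LD1_c0 LD2_c43 LD3_c49)) :=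
  Lgr Lrot129 (Lpr_cf (f24330 IH) (Lpr_bt (f24142 IH) (Lpr_gt (f24141 IH) (Lpe (f24270 IH) (Lpr_ct (f23170 IH) (Lpr_gt (K0.f24595 IH) (Lpe (K0.f9735 IH) (Lpr_bt (K0.f9734 IH) (Lpr_gt (f9754 IH) (Lpr_ct (f103503 IH) (Lpn (LP (LK LD1_c0 LD2_c43 LD3_c49)))))))))))))
theorem f79272 : Led Lsl_ft (LP (LK LD1_c0 LD2_c43 LD3_c49)) = (LP (LK LD1_c1 LD2_c32 LD3_c21)) :=
  Lgr Lrot48 (Lpr_ff (f79257 IH) (Lpn (LP (LK LD1_c1 LD2_c32 LD3_c21))))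
theorem f65538 : Led Lsl_at (LP (LK LD1_c0 LD2_c19 LD3_c34)) = (LP (LK LD1_c0 LD2_c43 LD3_c49)) :=
  Lre_a IH (LK LD1_c0 LD2_c19 LD3_c34) (LK LD1_c0 LD2_c43 LD3_c49) Lrfl Lrfl
theorem f79274 : Led Lsl_af (LP (LK LD1_c0 LD2_c43 LD3_c51)) = (LP (LK LD1_c1 LD2_c32 LD3_c21)) :=
  Lgr Lrot45 (Lpr_ft (f23341 IH) (Lpr_at (f65538 IH) (Lpr_ft (f79272 IH) (Lpn (LP (LK LD1_c1 LD2_c32 LD3_c21))))))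
theorem f103507 : Led Lsl_gt (LP (LK LD1_c1 LD2_c32 LD3_c26)) = (LP (LK LD1_c0 LD2_c43 LD3_c51)) :=
  Lgr Lrot46 (Lpr_gf (f103505 IH) (Lpr_ft (f79272 IH) (Lpe (f79274 IH) (Lpn (LP (LK LD1_c0 LD2_c43 LD3_c51))))))
theorem f24383 : Led Lsl_bt (LP (LK LD1_c0 LD2_c42 LD3_c49)) = (LP (LK LD1_c1 LD2_c32 LD3_c26)) :=
  Lre_b IH (LK LD1_c0 LD2_c42 LD3_c49) (LK LD1_c1 LD2_c32 LD3_c26) Lrfl Lrfl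
theorem f26099 : Led Lsl_gt (LP (LK LD1_c0 LD2_c30 LD3_c39)) = (LP (LK LD1_c0 LD2_c13 LD3_c37)) :=
  Lre_g IH (LK LD1_c0 LD2_c30 LD3_c39) (LK LD1_c0 LD2_c13 LD3_c37) Lrfl Lrfl
theorem f79276 : Led Lsl_bt (LP (LK LD1_c0 LD2_c43 LD3_c51)) = (LP (LK LD1_c0 LD2_c19 LD3_c37)) :=
  Lre_b IH (LK LD1_c0 LD2_c43 LD3_c51) (LK LD1_c0 LD2_c19 LD3_c37) Lrfl Lrfl
theorem f65958 : Led Lsl_at (LP (LK LD1_c0 LD2_c19 LD3_c37)) = (LP (LK LD1_c0 LD2_c8 LD3_c49)) :=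
  Lre_a IH (LK LD1_c0 LD2_c19 LD3_c37) (LK LD1_c0 LD2_c8 LD3_c49) Lrfl Lrfl
theorem f79277 : Led Lsl_bt (LP (LK LD1_c0 LD2_c8 LD3_c49)) = (LP (LK LD1_c0 LD2_c19 LD3_c38)) :=
  Lre_b IH (LK LD1_c0 LD2_c8 LD3_c49) (LK LD1_c0 LD2_c19 LD3_c38) Lrfl Lrfl
theorem f79278 : Led Lsl_at (LP (LK LD1_c0 LD2_c19 LD3_c38)) = (LP (LK LD1_c0 LD2_c43 LD3_c59)) :=
  Lre_a IH (LK LD1_c0 LD2_c19 LD3_c38) (LK LD1_c0 LD2_c43 LD3_c59) Lrfl Lrfl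
theorem f79279 : Led Lsl_bt (LP (LK LD1_c0 LD2_c43 LD3_c59)) = (LP (LK LD1_c1 LD2_c32 LD3_c21)) :=
  Lgr Lrot62 (Lpe (f79278 IH) (Lpe (f79277 IH) (Lpe (f65958 IH) (Lpe (f79276 IH) (Lpr_af (f79274 IH) (Lpn (LP (LK LD1_c1 LD2_c32 LD3_c21))))))))
theorem f79281 : Led Lsl_bf (LP (LK LD1_c0 LD2_c43 LD3_c59)) = (LP (LK LD1_c1 LD2_c32 LD3_c21)) :=
  Lgr Lrot24 (Lpr_bt (f79279 IH) (Lpn (LP (LK LD1_c1 LD2_c32 LD3_c21))))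
theorem f13582 : Led Lsl_cf (LP (LK LD1_c0 LD2_c4 LD3_c13)) = (LP (LK LD1_c0 LD2_c6 LD3_c17)) :=
  Lgr Lrot11 (Lpr_ct (K0.f13554 IH) (Lpn (LP (LK LD1_c0 LD2_c6 LD3_c17))))
theorem f11292 : Led Lsl_bt (LP (LK LD1_c0 LD2_c4 LD3_c53)) = (LP (LK LD1_c0 LD2_c2 LD3_c14)) :=
  Lre_b IH (LK LD1_c0 LD2_c4 LD3_c53) (LK LD1_c0 LD2_c2 LD3_c14) Lrfl Lrfl
theorem f13439 : Led Lsl_ct (LP (LK LD1_c0 LD2_c10 LD3_c23)) = (LP (LK LD1_c0 LD2_c4 LD3_c53)) :=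
  Lre_c IH (LK LD1_c0 LD2_c10 LD3_c23) (LK LD1_c0 LD2_c4 LD3_c53) Lrfl Lrfl
theorem f13580 : Led Lsl_bf (LP (LK LD1_c0 LD2_c10 LD3_c23)) = (LP (LK LD1_c0 LD2_c6 LD3_c17)) :=
  Lgr Lrot90 (Lpr_ct (f13439 IH) (Lpr_bt (f11292 IH) (Lpr_ct (K0.f12651 IH) (Lpe (K0.f13437 IH) (Lpr_ct (K0.f13554 IH) (Lpn (LP (LK LD1_c0 LD2_c6 LD3_c17))))))))
theorem f11294 : Led Lsl_gt (LP (LK LD1_c0 LD2_c10 LD3_c23)) = (LP (LK LD1_c0 LD2_c23 LD3_c3)) :=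
  Lre_g IH (LK LD1_c0 LD2_c10 LD3_c23) (LK LD1_c0 LD2_c23 LD3_c3) Lrfl Lrfl
theorem f26100 : Led Lsl_bt (LP (LK LD1_c0 LD2_c51 LD3_c1)) = (LP (LK LD1_c0 LD2_c23 LD3_c3)) :=
  Lre_b IH (LK LD1_c0 LD2_c51 LD3_c1) (LK LD1_c0 LD2_c23 LD3_c3) Lrfl Lrfl
theorem f26101 : Led Lsl_cf (LP (LK LD1_c0 LD2_c30 LD3_c39)) = (LP (LK LD1_c0 LD2_c51 LD3_c1)) :=
  Lgr Lrot160 (Lpr_gt (f26099 IH) (Lpr_cf (K2.f26068 IH) (Lpr_bt (f13498 IH) (Lpr_gt (K0.f13449 IH) (Lpe (K0.f13456 IH) (Lpr_gt (K0.f7308 IH) (Lpr_cf (f13582 IH) (Lpe (f13580 IH) (Lpr_gt (f11294 IH) (Lpe (f26100 IH) (Lpn (LP (LK LD1_c0 LD2_c51 LD3_c1)))))))))))))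
theorem f79321 : Led Lsl_gt (LP (LK LD1_c0 LD2_c43 LD3_c59)) = (LP (LK LD1_c0 LD2_c51 LD3_c1)) :=
  Lgr Lrot82 (Lpr_bf (f79281 IH) (Lpr_ct (f13487 IH) (Lpe (K0.f13460 IH) (Lpe (K0.f13483 IH) (Lpr_bt (K0.f13466 IH) (Lpe (K0.f13449 IH) (Lpe (f13498 IH) (Lpe (K2.f26068 IH) (Lpe (f26099 IH) (Lpr_cf (f26101 IH) (Lpn (LP (LK LD1_c0 LD2_c51 LD3_c1)))))))))))))
theorem f79283 : Led Lsl_bt (LP (LK LD1_c0 LD2_c13 LD3_c47)) = (LP (LK LD1_c0 LD2_c31 LD3_c1)) :=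
  Lre_b IH (LK LD1_c0 LD2_c13 LD3_c47) (LK LD1_c0 LD2_c31 LD3_c1) Lrfl Lrfl
theorem f79284 : Led Lsl_cf (LP (LK LD1_c0 LD2_c43 LD3_c59)) = (LP (LK LD1_c0 LD2_c31 LD3_c1)) :=
  Lgr Lrot97 (Lpr_bt (f79279 IH) (Lpr_ct (f13487 IH) (Lpr_bt (f23314 IH) (Lpr_ct (K0.f23307 IH) (Lpr_bt (f79283 IH) (Lpn (LP (LK LD1_c0 LD2_c31 LD3_c1))))))))
theorem f23317 : Led Lsl_bt (LP (LK LD1_c0 LD2_c31 LD3_c1)) = (LP (LK LD1_c0 LD2_c13 LD3_c47)) :=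
  Lre_b IH (LK LD1_c0 LD2_c31 LD3_c1) (LK LD1_c0 LD2_c13 LD3_c47) Lrfl Lrfl
theorem f14685 : Led Lsl_bt (LP (LK LD1_c0 LD2_c19 LD3_c32)) = (LP (LK LD1_c0 LD2_c30 LD3_c57)) :=
  Lre_b IH (LK LD1_c0 LD2_c19 LD3_c32) (LK LD1_c0 LD2_c30 LD3_c57) Lrfl Lrfl
theorem f26104 : Led Lsl_ct (LP (LK LD1_c0 LD2_c30 LD3_c39)) = (LP (LK LD1_c0 LD2_c51 LD3_c1)) :=
  Lgr Lrot59 (Lpr_cf (f26101 IH) (Lpn (LP (LK LD1_c0 LD2_c51 LD3_c1))))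
theorem f79323 : Led Lsl_bf (LP (LK LD1_c0 LD2_c23 LD3_c23)) = (LP (LK LD1_c0 LD2_c30 LD3_c39)) :=
  Lgr Lrot165 (Lpr_gt (K1.f62308 IH) (Lpr_ct (K1.f24322 IH) (Lpr_gt (K1.f14709 IH) (Lpe (K1.f14687 IH) (Lpr_bt (f14685 IH) (Lpr_gt (K0.f23327 IH) (Lpe (f23317 IH) (Lpe (f79284 IH) (Lpr_gt (f79321 IH) (Lpe (f26104 IH) (Lpn (LP (LK LD1_c0 LD2_c30 LD3_c39)))))))))))))
theorem f79326 : Led Lsl_bt (LP (LK LD1_c0 LD2_c23 LD3_c23)) = (LP (LK LD1_c0 LD2_c30 LD3_c39)) :=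
  Lgr Lrot127 (Lpr_bf (f79323 IH) (Lpn (LP (LK LD1_c0 LD2_c30 LD3_c39))))
theorem f94333 : Led Lsl_dt (LP (LK LD1_c0 LD2_c20 LD3_c44)) = (LP (LK LD1_c0 LD2_c46 LD3_c9)) :=
  Lre_d IH (LK LD1_c0 LD2_c20 LD3_c44) (LK LD1_c0 LD2_c46 LD3_c9) Lrfl Lrfl
theorem f94617 : Led Lsl_gt (LP (LK LD1_c0 LD2_c46 LD3_c8)) = (LP (LK LD1_c0 LD2_c20 LD3_c44)) :=
  Lre_g IH (LK LD1_c0 LD2_c46 LD3_c8) (LK LD1_c0 LD2_c20 LD3_c44) Lrfl Lrfl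
theorem f84708 : Led Lsl_dt (LP (LK LD1_c0 LD2_c48 LD3_c7)) = (LP (LK LD1_c0 LD2_c21 LD3_c33)) :=
  Lre_d IH (LK LD1_c0 LD2_c48 LD3_c7) (LK LD1_c0 LD2_c21 LD3_c33) Lrfl Lrfl
theorem f87575 : Led Lsl_df (LP (LK LD1_c0 LD2_c48 LD3_c6)) = (LP (LK LD1_c0 LD2_c51 LD3_c45)) :=
  Lgr Lrot155 (Lpe (K2.f87559 IH) (Lpr_ct (K2.f87565 IH) (Lpr_gt (K2.f87566 IH) (Lpr_ct (K1.f12657 IH) (Lpr_dt (f62879 IH) (Lpe (K2.f62871 IH) (Lpe (K2.f65664 IH) (Lpe (K2.f12417 IH) (Lpe (f5767 IH) (Lpn (LP (LK LD1_c0 LD2_c51 LD3_c45))))))))))))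
theorem f94622 : Led Lsl_cf (LP (LK LD1_c0 LD2_c46 LD3_c8)) = (LP (LK LD1_c0 LD2_c23 LD3_c23)) :=
  Lgr Lrot166 (Lpr_gt (f94617 IH) (Lpr_dt (f94333 IH) (Lpr_gt (K2.f94615 IH) (Lpr_dt (f84708 IH) (Lpr_ct (K2.f10787 IH) (Lpr_df (f87575 IH) (Lpe (f62931 IH) (Lpe (K1.f62858 IH) (Lpe (K1.f62308 IH) (Lpn (LP (LK LD1_c0 LD2_c23 LD3_c23))))))))))))
theorem f79320 : Led Lsl_bt (LP (LK LD1_c0 LD2_c19 LD3_c37)) = (LP (LK LD1_c0 LD2_c43 LD3_c51)) :=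
  Lre_b IH (LK LD1_c0 LD2_c19 LD3_c37) (LK LD1_c0 LD2_c43 LD3_c51) Lrfl Lrfl
theorem f103492 : Led Lsl_ct (LP (LK LD1_c0 LD2_c19 LD3_c37)) = (LP (LK LD1_c0 LD2_c43 LD3_c55)) :=
  Lre_c IH (LK LD1_c0 LD2_c19 LD3_c37) (LK LD1_c0 LD2_c43 LD3_c55) Lrfl Lrfl
theorem f103560 : Led Lsl_gf (LP (LK LD1_c0 LD2_c46 LD3_c8)) = (LP (LK LD1_c0 LD2_c43 LD3_c55)) :=
  Lgr Lrot126 (Lpr_cf (f94622 IH) (Lpr_bt (f79326 IH) (Lpr_gt (f26099 IH) (Lpr_ct (K2.f26074 IH) (Lpr_gt (f20985 IH) (Lpe (f24327 IH) (Lpr_bt (f24383 IH) (Lpr_gt (f103507 IH) (Lpe (f79320 IH) (Lpr_ct (f103492 IH) (Lpn (LP (LK LD1_c0 LD2_c43 LD3_c55)))))))))))))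
theorem f58959 : Led Lsl_bt (LP (LK LD1_c0 LD2_c4 LD3_c0)) = (LP (LK LD1_c0 LD2_c8 LD3_c52)) :=
  Lre_b IH (LK LD1_c0 LD2_c4 LD3_c0) (LK LD1_c0 LD2_c8 LD3_c52) Lrfl Lrfl
theorem f103568 : Led Lsl_gt (LP (LK LD1_c0 LD2_c8 LD3_c52)) = (LP (LK LD1_c0 LD2_c19 LD3_c37)) :=
  Lgr Lrot82 (Lpe (f58959 IH) (Lpr_ct (K0.f11007 IH) (Lpe (K0.f7178 IH) (Lpe (K0.f26045 IH) (Lpr_bt (K2.f26142 IH) (Lpe (f26099 IH) (Lpe (f79326 IH) (Lpe (f94622 IH) (Lpr_gf (f103560 IH) (Lpe (f103492 IH) (Lpn (LP (LK LD1_c0 LD2_c19 LD3_c37)))))))))))))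
theorem f11291 : Led Lsl_ct (LP (LK LD1_c0 LD2_c4 LD3_c60)) = (LP (LK LD1_c0 LD2_c8 LD3_c52)) :=
  Lre_c IH (LK LD1_c0 LD2_c4 LD3_c60) (LK LD1_c0 LD2_c8 LD3_c52) Lrfl Lrfl
theorem f98647 : Led Lsl_dt (LP (LK LD1_c1 LD2_c34 LD3_c27)) = (LP (LK LD1_c0 LD2_c43 LD3_c55)) :=
  Lre_d IH (LK LD1_c1 LD2_c34 LD3_c27) (LK LD1_c0 LD2_c43 LD3_c55) Lrfl Lrfl
theorem f103582 : Led Lsl_ct (LP (LK LD1_c0 LD2_c47 LD3_c22)) = (LP (LK LD1_c1 LD2_c34 LD3_c27)) :=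
  Lgr Lrot110 (Lpe (K1.f4467 IH) (Lpe (K2.f4466 IH) (Lpe (K2.f11468 IH) (Lpr_df (f95967 IH) (Lpe (f95743 IH) (Lpr_ct (f11291 IH) (Lpr_gt (f103568 IH) (Lpr_ct (f103492 IH) (Lpe (f98647 IH) (Lpn (LP (LK LD1_c1 LD2_c34 LD3_c27))))))))))))
theorem f64464 : Led Lsl_df (LP (LK LD1_c0 LD2_c17 LD3_c61)) = (LP (LK LD1_c0 LD2_c19 LD3_c43)) :=
  Lgr Lrot38 (Lpr_dt (K1.f64294 IH) (Lpn (LP (LK LD1_c0 LD2_c19 LD3_c43))))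
theorem f65189 : Led Lsl_at (LP (LK LD1_c0 LD2_c19 LD3_c33)) = (LP (LK LD1_c0 LD2_c8 LD3_c48)) :=
  Lre_a IH (LK LD1_c0 LD2_c19 LD3_c33) (LK LD1_c0 LD2_c8 LD3_c48) Lrfl Lrfl
theorem f65190 : Led Lsl_ft (LP (LK LD1_c0 LD2_c8 LD3_c49)) = (LP (LK LD1_c0 LD2_c19 LD3_c33)) :=
  Lre_f IH (LK LD1_c0 LD2_c8 LD3_c49) (LK LD1_c0 LD2_c19 LD3_c33) Lrfl Lrfl
theorem f62946 : Led Lsl_dt (LP (LK LD1_c0 LD2_c44 LD3_c3)) = (LP (LK LD1_c1 LD2_c34 LD3_c42)) :=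
  Lre_d IH (LK LD1_c0 LD2_c44 LD3_c3) (LK LD1_c1 LD2_c34 LD3_c42) Lrfl Lrfl
theorem f65191 : Led Lsl_cf (LP (LK LD1_c0 LD2_c52 LD3_c57)) = (LP (LK LD1_c1 LD2_c34 LD3_c42)) :=
  Lgr Lrot116 (Lpr_dt (K1.f65175 IH) (Lpr_ct (K1.f62817 IH) (Lpr_dt (K1.f62816 IH) (Lpr_ct (f14706 IH) (Lpe (f65189 IH) (Lpe (f65190 IH) (Lpr_dt (K1.f62813 IH) (Lpr_ct (K2.f62852 IH) (Lpr_dt (f62946 IH) (Lpn (LP (LK LD1_c1 LD2_c34 LD3_c42))))))))))))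
theorem f66156 : Led Lsl_cf (LP (LK LD1_c1 LD2_c35 LD3_c2)) = (LP (LK LD1_c0 LD2_c52 LD3_c51)) :=
  Lgr Lrot14 (Lpe (f64253 IH) (Lpe (f64480 IH) (Lpe (f65990 IH) (Lpr_gf (f66120 IH) (Lpe (f65191 IH) (Lpr_gt (K1.f14675 IH) (Lpr_dt (f14674 IH) (Lpr_gt (K0.f12209 IH) (Lpr_dt (K1.f14742 IH) (Lpn (LP (LK LD1_c0 LD2_c52 LD3_c51))))))))))))
theorem f61997 : Led Lsl_ct (LP (LK LD1_c0 LD2_c44 LD3_c15)) = (LP (LK LD1_c0 LD2_c19 LD3_c44)) :=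
  Lre_c IH (LK LD1_c0 LD2_c44 LD3_c15) (LK LD1_c0 LD2_c19 LD3_c44) Lrfl Lrfl
theorem f84961 : Led Lsl_cf (LP (LK LD1_c1 LD2_c35 LD3_c12)) = (LP (LK LD1_c0 LD2_c52 LD3_c47)) :=
  Lgr Lrot55 (Lpr_dt (f61998 IH) (Lpr_ct (f61997 IH) (Lpe (K1.f61987 IH) (Lpr_ct (K2.f61996 IH) (Lpr_dt (K2.f62678 IH) (Lpr_ct (K0.f12193 IH) (Lpr_dt (K1.f14742 IH) (Lpe (f66156 IH) (Lpr_dt (f64254 IH) (Lpr_ct (f57110 IH) (Lpe (f64464 IH) (Lpr_ct (K2.f21011 IH) (Lpr_dt (K2.f84930 IH) (Lpr_ct (K2.f11543 IH) (Lpr_dt (K1.f17293 IH) (Lpn (LP (LK LD1_c0 LD2_c52 LD3_c47))))))))))))))))))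
theorem f94618 : Led Lsl_ct (LP (LK LD1_c0 LD2_c46 LD3_c8)) = (LP (LK LD1_c0 LD2_c23 LD3_c23)) :=
  Lgr Lrot8 (Lpr_gt (f94617 IH) (Lpr_dt (f94333 IH) (Lpr_gt (K2.f94615 IH) (Lpr_dt (f84708 IH) (Lpe (K2.f6677 IH) (Lpr_df (f87575 IH) (Lpe (f62931 IH) (Lpe (K1.f62858 IH) (Lpe (K1.f62308 IH) (Lpn (LP (LK LD1_c0 LD2_c23 LD3_c23))))))))))))
theorem f94339 : Led Lsl_gt (LP (LK LD1_c1 LD2_c39 LD3_c20)) = (LP (LK LD1_c0 LD2_c46 LD3_c9)) :=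
  Lre_g IH (LK LD1_c1 LD2_c39 LD3_c20) (LK LD1_c0 LD2_c46 LD3_c9) Lrfl Lrfl
theorem f94641 : Led Lsl_ct (LP (LK LD1_c1 LD2_c39 LD3_c20)) = (LP (LK LD1_c0 LD2_c51 LD3_c52)) :=
  Lgr Lrot8 (Lpr_gt (f94339 IH) (Lpr_dt (K2.f94332 IH) (Lpr_gt (K2.f94624 IH) (Lpe (K0.f17458 IH) (Lpr_cf (K0.f17311 IH) (Lpr_df (f92646 IH) (Lpe (f87187 IH) (Lpe (f65698 IH) (Lpe (f65699 IH) (Lpn (LP (LK LD1_c0 LD2_c51 LD3_c52))))))))))))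
theorem f103566 : Led Lsl_gf (LP (LK LD1_c1 LD2_c39 LD3_c20)) = (LP (LK LD1_c1 LD2_c34 LD3_c27)) :=
  Lgr Lrot147 (Lpr_ct (f94641 IH) (Lpr_gt (f65699 IH) (Lpr_ct (K2.f58788 IH) (Lpe (K2.f6700 IH) (Lpe (K1.f24322 IH) (Lpe (K1.f62308 IH) (Lpe (f94618 IH) (Lpr_gf (f103560 IH) (Lpe (f98647 IH) (Lpn (LP (LK LD1_c1 LD2_c34 LD3_c27))))))))))))
theorem f96116 : Led Lsl_ct (LP (LK LD1_c3 LD2_c16 LD3_c47)) = (LP (LK LD1_c1 LD2_c49 LD3_c61)) :=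
  Lgr Lrot59 (Lpr_cf (f96105 IH) (Lpn (LP (LK LD1_c1 LD2_c49 LD3_c61))))
theorem f103614 : Led Lsl_gt (LP (LK LD1_c1 LD2_c35 LD3_c12)) = (LP (LK LD1_c3 LD2_c16 LD3_c47)) :=
  Lgr Lrot150 (Lpr_cf (f84961 IH) (Lpe (K1.f64255 IH) (Lpe (K1.f63494 IH) (Lpr_gt (K1.f4467 IH) (Lpr_ct (f103582 IH) (Lpe (f103566 IH) (Lpr_ct (f94641 IH) (Lpe (f65700 IH) (Lpe (f96116 IH) (Lpn (LP (LK LD1_c3 LD2_c16 LD3_c47))))))))))))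
theorem f96087 : Led Lsl_dt (LP (LK LD1_c3 LD2_c16 LD3_c47)) = (LP (LK LD1_c1 LD2_c49 LD3_c49)) :=
  Lgr Lrot6 (Lpr_gt (f64477 IH) (Lpe (f64475 IH) (Lpr_gt (K1.f64905 IH) (Lpr_ct (K1.f63495 IH) (Lpe (K1.f63114 IH) (Lpe (K1.f58398 IH) (Lpe (f18897 IH) (Lpe (f64912 IH) (Lpr_gf (f96062 IH) (Lpn (LP (LK LD1_c1 LD2_c49 LD3_c49))))))))))))
theorem f87573 : Led Lsl_dt (LP (LK LD1_c0 LD2_c48 LD3_c6)) = (LP (LK LD1_c0 LD2_c51 LD3_c45)) :=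
  Lgr Lrot6 (Lpe (K2.f87559 IH) (Lpr_ct (K2.f87565 IH) (Lpr_gt (K2.f87566 IH) (Lpr_ct (K1.f12657 IH) (Lpe (K1.f12153 IH) (Lpe (K2.f62871 IH) (Lpe (K2.f65664 IH) (Lpe (K2.f12417 IH) (Lpe (f5767 IH) (Lpn (LP (LK LD1_c0 LD2_c51 LD3_c45))))))))))))
theorem f87561 : Led Lsl_at (LP (LK LD1_c0 LD2_c21 LD3_c3)) = (LP (LK LD1_c0 LD2_c46 LD3_c54)) :=
  Lre_a IH (LK LD1_c0 LD2_c21 LD3_c3) (LK LD1_c0 LD2_c46 LD3_c54) Lrfl Lrfl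
theorem f87562 : Led Lsl_ft (LP (LK LD1_c0 LD2_c47 LD3_c4)) = (LP (LK LD1_c0 LD2_c21 LD3_c3)) :=
  Lre_f IH (LK LD1_c0 LD2_c47 LD3_c4) (LK LD1_c0 LD2_c21 LD3_c3) Lrfl Lrfl
theorem f87563 : Led Lsl_gt (LP (LK LD1_c0 LD2_c47 LD3_c4)) = (LP (LK LD1_c0 LD2_c48 LD3_c6)) :=
  Lgr Lrot5 (Lpr_ft (f87562 IH) (Lpr_at (f87561 IH) (Lpr_gf (K2.f87559 IH) (Lpn (LP (LK LD1_c0 LD2_c48 LD3_c6))))))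
theorem f103812 : Led Lsl_gf (LP (LK LD1_c0 LD2_c44 LD3_c15)) = (LP (LK LD1_c1 LD2_c34 LD3_c61)) :=
  Lgr Lrot144 (Lpr_dt (f66093 IH) (Lpr_gt (f103614 IH) (Lpr_dt (f96087 IH) (Lpe (f62932 IH) (Lpe (f87573 IH) (Lpe (f87563 IH) (Lpe (f87616 IH) (Lpr_gf (f94121 IH) (Lpr_cf (K2.f79120 IH) (Lpn (LP (LK LD1_c1 LD2_c34 LD3_c61))))))))))))
theorem f65631 : Led Lsl_gt (LP (LK LD1_c1 LD2_c34 LD3_c32)) = (LP (LK LD1_c3 LD2_c15 LD3_c36)) :=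
  Lre_g IH (LK LD1_c1 LD2_c34 LD3_c32) (LK LD1_c3 LD2_c15 LD3_c36) Lrfl Lrfl
theorem f103828 : Led Lsl_dt (LP (LK LD1_c3 LD2_c15 LD3_c36)) = (LP (LK LD1_c1 LD2_c34 LD3_c61)) :=
  Lgr Lrot57 (Lpe (f65631 IH) (Lpr_cf (K2.f65701 IH) (Lpr_gt (K2.f20837 IH) (Lpr_dt (K2.f20836 IH) (Lpr_gt (K1.f11542 IH) (Lpr_dt (K1.f17293 IH) (Lpe (f84969 IH) (Lpe (f66093 IH) (Lpr_gf (f103812 IH) (Lpn (LP (LK LD1_c1 LD2_c34 LD3_c61))))))))))))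
theorem f103830 : Led Lsl_gf (LP (LK LD1_c1 LD2_c34 LD3_c42)) = (LP (LK LD1_c3 LD2_c15 LD3_c36)) :=
  Lgr Lrot147 (Lpe (f65191 IH) (Lpr_gt (K1.f14675 IH) (Lpr_ct (K1.f64261 IH) (Lpe (K1.f62196 IH) (Lpe (K1.f36229 IH) (Lpe (K1.f61875 IH) (Lpe (f61997 IH) (Lpr_gf (f103812 IH) (Lpe (f103828 IH) (Lpn (LP (LK LD1_c3 LD2_c15 LD3_c36))))))))))))
theorem f103832 : Led Lsl_df (LP (LK LD1_c3 LD2_c15 LD3_c36)) = (LP (LK LD1_c1 LD2_c34 LD3_c61)) :=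
  Lgr Lrot155 (Lpe (f103830 IH) (Lpe (f65191 IH) (Lpr_gt (K1.f14675 IH) (Lpr_ct (K1.f64261 IH) (Lpr_dt (K1.f24617 IH) (Lpe (K1.f36229 IH) (Lpe (K1.f61875 IH) (Lpe (f61997 IH) (Lpr_gf (f103812 IH) (Lpn (LP (LK LD1_c1 LD2_c34 LD3_c61))))))))))))
theorem f63840 : Led Lsl_dt (LP (LK LD1_c1 LD2_c34 LD3_c53)) = (LP (LK LD1_c0 LD2_c44 LD3_c9)) :=
  Lre_d IH (LK LD1_c1 LD2_c34 LD3_c53) (LK LD1_c0 LD2_c44 LD3_c9) Lrfl Lrfl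
theorem f15203 : Led Lsl_ct (LP (LK LD1_c0 LD2_c52 LD3_c61)) = (LP (LK LD1_c1 LD2_c34 LD3_c53)) :=
  Lre_c IH (LK LD1_c0 LD2_c52 LD3_c61) (LK LD1_c1 LD2_c34 LD3_c53) Lrfl Lrfl
theorem f65102 : Led Lsl_gt (LP (LK LD1_c1 LD2_c34 LD3_c53)) = (LP (LK LD1_c3 LD2_c2 LD3_c1)) :=
  Lgr Lrot94 (Lpe (f15203 IH) (Lpr_gt (K1.f65006 IH) (Lpr_dt (K1.f63157 IH) (Lpr_gt (K1.f18885 IH) (Lpr_dt (f63119 IH) (Lpe (f63117 IH) (Lpe (f63116 IH) (Lpe (f59459 IH) (Lpe (f63500 IH) (Lpn (LP (LK LD1_c3 LD2_c2 LD3_c1))))))))))))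
theorem f87808 : Led Lsl_cf (LP (LK LD1_c1 LD2_c41 LD3_c27)) = (LP (LK LD1_c3 LD2_c2 LD3_c1)) :=
  Lgr Lrot14 (Lpe (f17799 IH) (Lpe (f63138 IH) (Lpe (f64618 IH) (Lpr_gf (f87804 IH) (Lpe (K2.f84974 IH) (Lpr_gt (K2.f87353 IH) (Lpr_dt (f58397 IH) (Lpr_gt (f58399 IH) (Lpr_dt (f58414 IH) (Lpn (LP (LK LD1_c3 LD2_c2 LD3_c1))))))))))))
theorem f17798 : Led Lsl_gt (LP (LK LD1_c1 LD2_c41 LD3_c27)) = (LP (LK LD1_c3 LD2_c29 LD3_c25)) :=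
  Lre_g IH (LK LD1_c1 LD2_c41 LD3_c27) (LK LD1_c3 LD2_c29 LD3_c25) Lrfl Lrfl
theorem f103930 : Led Lsl_cf (LP (LK LD1_c3 LD2_c15 LD3_c36)) = (LP (LK LD1_c3 LD2_c29 LD3_c25)) :=
  Lgr Lrot99 (Lpr_df (f103832 IH) (Lpe (K2.f79113 IH) (Lpe (f94119 IH) (Lpe (f69278 IH) (Lpe (f63841 IH) (Lpe (f63840 IH) (Lpr_gt (f65102 IH) (Lpe (f87808 IH) (Lpr_gt (f17798 IH) (Lpn (LP (LK LD1_c3 LD2_c29 LD3_c25))))))))))))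
theorem f89667 : Led Lsl_af (LP (LK LD1_c1 LD2_c50 LD3_c43)) = (LP (LK LD1_c0 LD2_c52 LD3_c40)) :=
  Lgr Lrot45 (Lpr_ft (f89293 IH) (Lpe (f87787 IH) (Lpr_ft (K2.f87802 IH) (Lpn (LP (LK LD1_c0 LD2_c52 LD3_c40))))))
theorem f93593 : Led Lsl_gt (LP (LK LD1_c1 LD2_c49 LD3_c61)) = (LP (LK LD1_c1 LD2_c50 LD3_c43)) :=
  Lgr Lrot46 (Lpr_gf (f93515 IH) (Lpr_ft (K2.f87802 IH) (Lpe (f89667 IH) (Lpn (LP (LK LD1_c1 LD2_c50 LD3_c43))))))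
theorem f103946 : Led Lsl_dt (LP (LK LD1_c1 LD2_c43 LD3_c23)) = (LP (LK LD1_c3 LD2_c29 LD3_c25)) :=
  Lgr Lrot105 (Lpe (f11948 IH) (Lpe (K2.f12060 IH) (Lpe (f93593 IH) (Lpe (f96116 IH) (Lpr_gt (f64477 IH) (Lpr_dt (f64254 IH) (Lpr_gt (K2.f79090 IH) (Lpe (f103832 IH) (Lpr_cf (f103930 IH) (Lpn (LP (LK LD1_c3 LD2_c29 LD3_c25))))))))))))
theorem f26248 : Led Lsl_bt (LP (LK LD1_c0 LD2_c10 LD3_c3)) = (LP (LK LD1_c0 LD2_c22 LD3_c22)) :=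
  Lre_b IH (LK LD1_c0 LD2_c10 LD3_c3) (LK LD1_c0 LD2_c22 LD3_c22) Lrfl Lrfl
theorem f97308 : Led Lsl_dt (LP (LK LD1_c0 LD2_c22 LD3_c22)) = (LP (LK LD1_c0 LD2_c48 LD3_c20)) :=
  Lgr Lrot79 (Lpe (f26248 IH) (Lpr_df (f97306 IH) (Lpe (f6668 IH) (Lpn (LP (LK LD1_c0 LD2_c48 LD3_c20))))))
theorem f5392 : Led Lsl_ct (LP (LK LD1_c0 LD2_c49 LD3_c47)) = (LP (LK LD1_c0 LD2_c22 LD3_c22)) :=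
  Lre_c IH (LK LD1_c0 LD2_c49 LD3_c47) (LK LD1_c0 LD2_c22 LD3_c22) Lrfl Lrfl
theorem f5393 : Led Lsl_dt (LP (LK LD1_c1 LD2_c46 LD3_c3)) = (LP (LK LD1_c0 LD2_c49 LD3_c47)) :=
  Lre_d IH (LK LD1_c1 LD2_c46 LD3_c3) (LK LD1_c0 LD2_c49 LD3_c47) Lrfl Lrfl
theorem f96182 : Led Lsl_ct (LP (LK LD1_c3 LD2_c29 LD3_c26)) = (LP (LK LD1_c3 LD2_c15 LD3_c37)) :=
  Lgr Lrot59 (Lpr_cf (f96178 IH) (Lpn (LP (LK LD1_c3 LD2_c15 LD3_c37))))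
theorem f103951 : Led Lsl_cf (LP (LK LD1_c1 LD2_c46 LD3_c3)) = (LP (LK LD1_c1 LD2_c35 LD3_c0)) :=
  Lgr Lrot55 (Lpr_dt (f5393 IH) (Lpr_ct (f5392 IH) (Lpr_dt (f97308 IH) (Lpr_ct (f6669 IH) (Lpr_dt (f103946 IH) (Lpe (f103930 IH) (Lpr_dt (f103828 IH) (Lpe (K2.f79120 IH) (Lpr_dt (f79130 IH) (Lpr_ct (K2.f23459 IH) (Lpr_dt (f23655 IH) (Lpr_ct (f96127 IH) (Lpe (f96165 IH) (Lpr_ct (f96182 IH) (Lpr_dt (f65990 IH) (Lpn (LP (LK LD1_c1 LD2_c35 LD3_c0))))))))))))))))))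
theorem f392 : Led Lsl_ct (LP (LK LD1_c0 LD2_c22 LD3_c22)) = (LP (LK LD1_c0 LD2_c49 LD3_c47)) :=
  Lre_c IH (LK LD1_c0 LD2_c22 LD3_c22) (LK LD1_c0 LD2_c49 LD3_c47) Lrfl Lrfl
theorem f104100 : Led Lsl_gf (LP (LK LD1_c0 LD2_c22 LD3_c22)) = (LP (LK LD1_c0 LD2_c19 LD3_c39)) :=
  Lgr Lrot104 (Lpr_ct (f392 IH) (Lpe (f5393 IH) (Lpr_cf (f103951 IH) (Lpe (f66007 IH) (Lpe (f66006 IH) (Lpe (f13806 IH) (Lpe (K1.f62000 IH) (Lpr_gt (K1.f14710 IH) (Lpr_ct (K2.f62963 IH) (Lpn (LP (LK LD1_c0 LD2_c19 LD3_c39))))))))))))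
theorem f26177 : Led Lsl_bt (LP (LK LD1_c0 LD2_c2 LD3_c14)) = (LP (LK LD1_c0 LD2_c4 LD3_c53)) :=
  Lre_b IH (LK LD1_c0 LD2_c2 LD3_c14) (LK LD1_c0 LD2_c4 LD3_c53) Lrfl Lrfl
theorem f12839 : Led Lsl_gt (LP (LK LD1_c0 LD2_c4 LD3_c53)) = (LP (LK LD1_c0 LD2_c10 LD3_c20)) :=
  Lre_g IH (LK LD1_c0 LD2_c4 LD3_c53) (LK LD1_c0 LD2_c10 LD3_c20) Lrfl Lrfl
theorem f5864 : Led Lsl_ct (LP (LK LD1_c0 LD2_c4 LD3_c28)) = (LP (LK LD1_c0 LD2_c2 LD3_c3)) :=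
  Lre_c IH (LK LD1_c0 LD2_c4 LD3_c28) (LK LD1_c0 LD2_c2 LD3_c3) Lrfl Lrfl
theorem f385 : Led Lsl_ct (LP (LK LD1_c0 LD2_c22 LD3_c23)) = (LP (LK LD1_c0 LD2_c10 LD3_c3)) :=
  Lre_c IH (LK LD1_c0 LD2_c22 LD3_c23) (LK LD1_c0 LD2_c10 LD3_c3) Lrfl Lrfl
theorem f26178 : Led Lsl_bf (LP (LK LD1_c0 LD2_c10 LD3_c20)) = (LP (LK LD1_c0 LD2_c22 LD3_c23)) :=
  Lgr Lrot34 (Lpe (f12839 IH) (Lpe (f26177 IH) (Lpr_ct (K0.f12651 IH) (Lpr_gf (K2.f26055 IH) (Lpe (f5864 IH) (Lpe (K0.f11458 IH) (Lpe (K0.f364 IH) (Lpe (K0.f365 IH) (Lpe (f384 IH) (Lpe (f385 IH) (Lpn (LP (LK LD1_c0 LD2_c22 LD3_c23)))))))))))))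
theorem f12840 : Led Lsl_ct (LP (LK LD1_c0 LD2_c10 LD3_c20)) = (LP (LK LD1_c0 LD2_c22 LD3_c56)) :=
  Lre_c IH (LK LD1_c0 LD2_c10 LD3_c20) (LK LD1_c0 LD2_c22 LD3_c56) Lrfl Lrfl
theorem f5257 : Led Lsl_ct (LP (LK LD1_c0 LD2_c10 LD3_c3)) = (LP (LK LD1_c0 LD2_c22 LD3_c23)) :=
  Lre_c IH (LK LD1_c0 LD2_c10 LD3_c3) (LK LD1_c0 LD2_c22 LD3_c23) Lrfl Lrfl
theorem f391 : Led Lsl_bt (LP (LK LD1_c0 LD2_c22 LD3_c22)) = (LP (LK LD1_c0 LD2_c10 LD3_c3)) :=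
  Lre_b IH (LK LD1_c0 LD2_c22 LD3_c22) (LK LD1_c0 LD2_c10 LD3_c3) Lrfl Lrfl
theorem f26182 : Led Lsl_bt (LP (LK LD1_c0 LD2_c22 LD3_c56)) = (LP (LK LD1_c0 LD2_c49 LD3_c47)) :=
  Lgr Lrot128 (Lpe (f12840 IH) (Lpr_bf (f26178 IH) (Lpe (f5257 IH) (Lpe (f391 IH) (Lpe (f5392 IH) (Lpn (LP (LK LD1_c0 LD2_c49 LD3_c47))))))))
theorem f26214 : Led Lsl_bf (LP (LK LD1_c0 LD2_c22 LD3_c56)) = (LP (LK LD1_c0 LD2_c49 LD3_c47)) :=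
  Lgr Lrot24 (Lpr_bt (f26182 IH) (Lpn (LP (LK LD1_c0 LD2_c49 LD3_c47))))
theorem f12841 : Led Lsl_gt (LP (LK LD1_c0 LD2_c22 LD3_c56)) = (LP (LK LD1_c0 LD2_c50 LD3_c45)) :=
  Lre_g IH (LK LD1_c0 LD2_c22 LD3_c56) (LK LD1_c0 LD2_c50 LD3_c45) Lrfl Lrfl
theorem f104109 : Led Lsl_bf (LP (LK LD1_c0 LD2_c50 LD3_c45)) = (LP (LK LD1_c0 LD2_c30 LD3_c60)) :=
  Lgr Lrot34 (Lpe (f12841 IH) (Lpr_bf (f26214 IH) (Lpr_ct (f5392 IH) (Lpr_gf (f104100 IH) (Lpe (K2.f62963 IH) (Lpe (K1.f14710 IH) (Lpe (K0.f14686 IH) (Lpr_ct (K0.f13701 IH) (Lpe (K2.f13798 IH) (Lpe (f78006 IH) (Lpn (LP (LK LD1_c0 LD2_c30 LD3_c60)))))))))))))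
theorem f94264 : Led Lsl_ft (LP (LK LD1_c0 LD2_c20 LD3_c43)) = (LP (LK LD1_c0 LD2_c9 LD3_c26)) :=
  Lre_f IH (LK LD1_c0 LD2_c20 LD3_c43) (LK LD1_c0 LD2_c9 LD3_c26) Lrfl Lrfl
theorem f98671 : Led Lsl_df (LP (LK LD1_c0 LD2_c20 LD3_c43)) = (LP (LK LD1_c0 LD2_c45 LD3_c47)) :=
  Lgr Lrot78 (Lpr_ft (f94264 IH) (Lpr_dt (K2.f9798 IH) (Lpr_ft (f98665 IH) (Lpn (LP (LK LD1_c0 LD2_c45 LD3_c47))))))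
theorem f102350 : Led Lsl_ct (LP (LK LD1_c0 LD2_c20 LD3_c43)) = (LP (LK LD1_c0 LD2_c30 LD3_c59)) :=
  Lgr Lrot133 (Lpr_df (f98671 IH) (Lpe (f98657 IH) (Lpr_at (f98649 IH) (Lpe (K2.f18173 IH) (Lpe (f65870 IH) (Lpr_cf (f91756 IH) (Lpr_df (f102340 IH) (Lpe (f99090 IH) (Lpe (f102317 IH) (Lpn (LP (LK LD1_c0 LD2_c30 LD3_c59))))))))))))
theorem f94283 : Led Lsl_bt (LP (LK LD1_c0 LD2_c46 LD3_c7)) = (LP (LK LD1_c0 LD2_c20 LD3_c43)) :=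
  Lre_b IH (LK LD1_c0 LD2_c46 LD3_c7) (LK LD1_c0 LD2_c20 LD3_c43) Lrfl Lrfl
theorem f104114 : Led Lsl_ct (LP (LK LD1_c0 LD2_c50 LD3_c45)) = (LP (LK LD1_c0 LD2_c46 LD3_c7)) :=
  Lgr Lrot83 (Lpr_bf (f104109 IH) (Lpe (K2.f23592 IH) (Lpe (f23331 IH) (Lpe (f102350 IH) (Lpe (f94283 IH) (Lpn (LP (LK LD1_c0 LD2_c46 LD3_c7))))))))
theorem f104112 : Led Lsl_bt (LP (LK LD1_c0 LD2_c50 LD3_c45)) = (LP (LK LD1_c0 LD2_c30 LD3_c60)) :=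
  Lgr Lrot127 (Lpr_bf (f104109 IH) (Lpn (LP (LK LD1_c0 LD2_c30 LD3_c60))))
theorem f5753 : Led Lsl_bt (LP (LK LD1_c0 LD2_c10 LD3_c7)) = (LP (LK LD1_c0 LD2_c22 LD3_c29)) :=
  Lre_b IH (LK LD1_c0 LD2_c10 LD3_c7) (LK LD1_c0 LD2_c22 LD3_c29) Lrfl Lrfl
theorem f103565 : Led Lsl_ct (LP (LK LD1_c0 LD2_c43 LD3_c55)) = (LP (LK LD1_c0 LD2_c19 LD3_c37)) :=
  Lre_c IH (LK LD1_c0 LD2_c43 LD3_c55) (LK LD1_c0 LD2_c19 LD3_c37) Lrfl Lrfl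
theorem f65275 : Led Lsl_ft (LP (LK LD1_c0 LD2_c19 LD3_c35)) = (LP (LK LD1_c0 LD2_c43 LD3_c55)) :=
  Lre_f IH (LK LD1_c0 LD2_c19 LD3_c35) (LK LD1_c0 LD2_c43 LD3_c55) Lrfl Lrfl
theorem f98632 : Led Lsl_bf (LP (LK LD1_c0 LD2_c46 LD3_c18)) = (LP (LK LD1_c0 LD2_c43 LD3_c55)) :=
  Lgr Lrot61 (Lpr_ft (f98627 IH) (Lpr_bt (f23334 IH) (Lpr_ft (f65275 IH) (Lpn (LP (LK LD1_c0 LD2_c43 LD3_c55))))))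
theorem f103587 : Led Lsl_gf (LP (LK LD1_c0 LD2_c22 LD3_c29)) = (LP (LK LD1_c0 LD2_c46 LD3_c18)) :=
  Lgr Lrot124 (Lpe (f5753 IH) (Lpr_ct (K2.f5710 IH) (Lpr_gt (K2.f5754 IH) (Lpr_cf (f95965 IH) (Lpr_bt (f5798 IH) (Lpe (f95743 IH) (Lpr_ct (f11291 IH) (Lpr_gt (f103568 IH) (Lpe (f103565 IH) (Lpe (f98632 IH) (Lpn (LP (LK LD1_c0 LD2_c46 LD3_c18)))))))))))))
theorem f98629 : Led Lsl_at (LP (LK LD1_c0 LD2_c20 LD3_c48)) = (LP (LK LD1_c0 LD2_c46 LD3_c18)) :=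
  Lre_a IH (LK LD1_c0 LD2_c20 LD3_c48) (LK LD1_c0 LD2_c46 LD3_c18) Lrfl Lrfl
theorem f94273 : Led Lsl_ft (LP (LK LD1_c0 LD2_c46 LD3_c7)) = (LP (LK LD1_c0 LD2_c20 LD3_c48)) :=
  Lre_f IH (LK LD1_c0 LD2_c46 LD3_c7) (LK LD1_c0 LD2_c20 LD3_c48) Lrfl Lrfl
theorem f98630 : Led Lsl_af (LP (LK LD1_c0 LD2_c46 LD3_c7)) = (LP (LK LD1_c0 LD2_c43 LD3_c53)) :=
  Lgr Lrot45 (Lpr_ft (f94273 IH) (Lpr_at (f98629 IH) (Lpr_ft (f98627 IH) (Lpn (LP (LK LD1_c0 LD2_c43 LD3_c53))))))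
theorem f103596 : Led Lsl_gt (LP (LK LD1_c0 LD2_c22 LD3_c29)) = (LP (LK LD1_c0 LD2_c46 LD3_c7)) :=
  Lgr Lrot46 (Lpr_gf (f103587 IH) (Lpr_ft (f98627 IH) (Lpe (f98630 IH) (Lpn (LP (LK LD1_c0 LD2_c46 LD3_c7))))))
theorem f23687 : Led Lsl_bt (LP (LK LD1_c0 LD2_c19 LD3_c20)) = (LP (LK LD1_c0 LD2_c43 LD3_c19)) :=
  Lre_b IH (LK LD1_c0 LD2_c19 LD3_c20) (LK LD1_c0 LD2_c43 LD3_c19) Lrfl Lrfl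
theorem f79287 : Led Lsl_at (LP (LK LD1_c0 LD2_c43 LD3_c59)) = (LP (LK LD1_c0 LD2_c19 LD3_c38)) :=
  Lre_a IH (LK LD1_c0 LD2_c43 LD3_c59) (LK LD1_c0 LD2_c19 LD3_c38) Lrfl Lrfl
theorem f79289 : Led Lsl_at (LP (LK LD1_c0 LD2_c43 LD3_c60)) = (LP (LK LD1_c0 LD2_c31 LD3_c1)) :=
  Lgr Lrot107 (Lpe (f79288 IH) (Lpe (f79287 IH) (Lpr_cf (f79284 IH) (Lpn (LP (LK LD1_c0 LD2_c31 LD3_c1))))))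
theorem f79317 : Led Lsl_at (LP (LK LD1_c0 LD2_c13 LD3_c47)) = (LP (LK LD1_c0 LD2_c31 LD3_c0)) :=
  Lre_a IH (LK LD1_c0 LD2_c13 LD3_c47) (LK LD1_c0 LD2_c31 LD3_c0) Lrfl Lrfl
theorem f98824 : Led Lsl_bf (LP (LK LD1_c0 LD2_c20 LD3_c49)) = (LP (LK LD1_c0 LD2_c31 LD3_c0)) :=
  Lgr Lrot81 (Lpr_at (f98823 IH) (Lpr_bt (f98709 IH) (Lpr_at (f79289 IH) (Lpr_bt (f23317 IH) (Lpr_at (f79317 IH) (Lpn (LP (LK LD1_c0 LD2_c31 LD3_c0))))))))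
theorem f103598 : Led Lsl_ct (LP (LK LD1_c0 LD2_c31 LD3_c0)) = (LP (LK LD1_c1 LD2_c7 LD3_c34)) :=
  Lre_c IH (LK LD1_c0 LD2_c31 LD3_c0) (LK LD1_c1 LD2_c7 LD3_c34) Lrfl Lrfl
theorem f104142 : Led Lsl_gt (LP (LK LD1_c1 LD2_c7 LD3_c4)) = (LP (LK LD1_c1 LD2_c7 LD3_c34)) :=
  Lgr Lrot149 (Lpe (K2.f23474 IH) (Lpe (K2.f23504 IH) (Lpe (f104112 IH) (Lpr_ct (f104114 IH) (Lpe (f103596 IH) (Lpe (K2.f23690 IH) (Lpr_bt (f23687 IH) (Lpe (K2.f94653 IH) (Lpr_bf (f98824 IH) (Lpr_ct (f103598 IH) (Lpn (LP (LK LD1_c1 LD2_c7 LD3_c34)))))))))))))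
theorem f23488 : Led Lsl_bt (LP (LK LD1_c1 LD2_c7 LD3_c32)) = (LP (LK LD1_c1 LD2_c7 LD3_c11)) :=
  Lgr Lrot127 (Lpr_bf (K2.f23475 IH) (Lpn (LP (LK LD1_c1 LD2_c7 LD3_c11))))
theorem f23688 : Led Lsl_ct (LP (LK LD1_c0 LD2_c43 LD3_c19)) = (LP (LK LD1_c0 LD2_c23 LD3_c17)) :=
  Lgr Lrot83 (Lpe (f23687 IH) (Lpr_cf (K2.f23685 IH) (Lpe (f5753 IH) (Lpe (K0.f5717 IH) (Lpe (K2.f5721 IH) (Lpn (LP (LK LD1_c0 LD2_c23 LD3_c17))))))))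
theorem f104148 : Led Lsl_gf (LP (LK LD1_c1 LD2_c7 LD3_c11)) = (LP (LK LD1_c0 LD2_c51 LD3_c34)) :=
  Lgr Lrot124 (Lpe (f23488 IH) (Lpr_ct (K2.f23474 IH) (Lpr_gt (f104142 IH) (Lpe (f103598 IH) (Lpe (f98824 IH) (Lpr_gt (K2.f94653 IH) (Lpr_ct (f23688 IH) (Lpr_gt (K0.f5716 IH) (Lpe (K2.f23708 IH) (Lpr_bt (K2.f23709 IH) (Lpn (LP (LK LD1_c0 LD2_c51 LD3_c34)))))))))))))
theorem f23470 : Led Lsl_bf (LP (LK LD1_c1 LD2_c7 LD3_c5)) = (LP (LK LD1_c0 LD2_c30 LD3_c50)) :=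
  Lgr Lrot24 (Lpr_bt (K2.f23468 IH) (Lpn (LP (LK LD1_c0 LD2_c30 LD3_c50))))
theorem f12420 : Led Lsl_bt (LP (LK LD1_c0 LD2_c23 LD3_c24)) = (LP (LK LD1_c0 LD2_c10 LD3_c30)) :=
  Lre_b IH (LK LD1_c0 LD2_c23 LD3_c24) (LK LD1_c0 LD2_c10 LD3_c30) Lrfl Lrfl
theorem f104154 : Led Lsl_gt (LP (LK LD1_c1 LD2_c7 LD3_c5)) = (LP (LK LD1_c0 LD2_c31 LD3_c1)) :=
  Lgr Lrot82 (Lpr_bf (f23470 IH) (Lpr_ct (K2.f23312 IH) (Lpr_gf (f104148 IH) (Lpe (K2.f12421 IH) (Lpr_bt (f12420 IH) (Lpe (K1.f62308 IH) (Lpr_bf (f79323 IH) (Lpr_ct (f26104 IH) (Lpe (f79321 IH) (Lpr_cf (f79284 IH) (Lpn (LP (LK LD1_c0 LD2_c31 LD3_c1)))))))))))))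
theorem f23553 : Led Lsl_bt (LP (LK LD1_c0 LD2_c30 LD3_c44)) = (LP (LK LD1_c1 LD2_c7 LD3_c4)) :=
  Lre_b IH (LK LD1_c0 LD2_c30 LD3_c44) (LK LD1_c1 LD2_c7 LD3_c4) Lrfl Lrfl
theorem f23552 : Led Lsl_ct (LP (LK LD1_c1 LD2_c7 LD3_c4)) = (LP (LK LD1_c1 LD2_c7 LD3_c32)) :=
  Lre_c IH (LK LD1_c1 LD2_c7 LD3_c4) (LK LD1_c1 LD2_c7 LD3_c32) Lrfl Lrfl
theorem f79314 : Led Lsl_ct (LP (LK LD1_c0 LD2_c30 LD3_c58)) = (LP (LK LD1_c1 LD2_c7 LD3_c30)) :=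
  Lre_c IH (LK LD1_c0 LD2_c30 LD3_c58) (LK LD1_c1 LD2_c7 LD3_c30) Lrfl Lrfl
theorem f103471 : Led Lsl_gf (LP (LK LD1_c1 LD2_c7 LD3_c4)) = (LP (LK LD1_c1 LD2_c7 LD3_c30)) :=
  Lgr Lrot104 (Lpr_ct (f23552 IH) (Lpe (K2.f23539 IH) (Lpe (f23550 IH) (Lpe (f103186 IH) (Lpe (f93666 IH) (Lpe (f63851 IH) (Lpe (K0.f13693 IH) (Lpr_gt (f103463 IH) (Lpr_ct (f79314 IH) (Lpn (LP (LK LD1_c1 LD2_c7 LD3_c30))))))))))))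
theorem f103476 : Led Lsl_bt (LP (LK LD1_c0 LD2_c45 LD3_c8)) = (LP (LK LD1_c1 LD2_c7 LD3_c30)) :=
  Lgr Lrot127 (Lpr_bf (f103473 IH) (Lpn (LP (LK LD1_c1 LD2_c7 LD3_c30))))
theorem f79291 : Led Lsl_ct (LP (LK LD1_c0 LD2_c43 LD3_c59)) = (LP (LK LD1_c0 LD2_c31 LD3_c1)) :=
  Lgr Lrot59 (Lpr_cf (f79284 IH) (Lpn (LP (LK LD1_c0 LD2_c31 LD3_c1))))
theorem f13489 : Led Lsl_ct (LP (LK LD1_c0 LD2_c42 LD3_c45)) = (LP (LK LD1_c1 LD2_c32 LD3_c21)) :=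
  Lre_c IH (LK LD1_c0 LD2_c42 LD3_c45) (LK LD1_c1 LD2_c32 LD3_c21) Lrfl Lrfl
theorem f78117 : Led Lsl_ct (LP (LK LD1_c4 LD2_c44 LD3_c2)) = (LP (LK LD1_c2 LD2_c19 LD3_c58)) :=
  Lre_c IH (LK LD1_c4 LD2_c44 LD3_c2) (LK LD1_c2 LD2_c19 LD3_c58) Lrfl Lrfl
theorem f78135 : Led Lsl_dt (LP (LK LD1_c1 LD2_c7 LD3_c14)) = (LP (LK LD1_c2 LD2_c19 LD3_c58)) :=
  Lre_d IH (LK LD1_c1 LD2_c7 LD3_c14) (LK LD1_c2 LD2_c19 LD3_c58) Lrfl Lrfl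
theorem f79259 : Led Lsl_ct (LP (LK LD1_c0 LD2_c43 LD3_c48)) = (LP (LK LD1_c1 LD2_c7 LD3_c14)) :=
  Lgr Lrot110 (Lpr_gf (f79254 IH) (Lpe (f13489 IH) (Lpe (K0.f13460 IH) (Lpr_df (K2.f58920 IH) (Lpe (K2.f78122 IH) (Lpr_ct (K2.f25055 IH) (Lpe (K2.f78120 IH) (Lpr_ct (f78117 IH) (Lpe (f78135 IH) (Lpn (LP (LK LD1_c1 LD2_c7 LD3_c14))))))))))))
theorem f104160 : Led Lsl_gf (LP (LK LD1_c0 LD2_c43 LD3_c49)) = (LP (LK LD1_c1 LD2_c7 LD3_c14)) :=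
  Lgr Lrot129 (Lpe (f103503 IH) (Lpr_bt (f103476 IH) (Lpe (f103471 IH) (Lpe (f23553 IH) (Lpr_ct (K2.f23472 IH) (Lpr_gt (f104154 IH) (Lpe (f79291 IH) (Lpr_bt (f79279 IH) (Lpe (f79254 IH) (Lpr_ct (f79259 IH) (Lpn (LP (LK LD1_c1 LD2_c7 LD3_c14)))))))))))))
theorem f104162 : Led Lsl_gt (LP (LK LD1_c0 LD2_c43 LD3_c51)) = (LP (LK LD1_c1 LD2_c7 LD3_c14)) :=
  Lgr Lrot5 (Lpr_ft (f23341 IH) (Lpr_at (f65538 IH) (Lpr_gf (f104160 IH) (Lpn (LP (LK LD1_c1 LD2_c7 LD3_c14))))))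
theorem f13507 : Led Lsl_bt (LP (LK LD1_c0 LD2_c20 LD3_c45)) = (LP (LK LD1_c0 LD2_c46 LD3_c11)) :=
  Lre_b IH (LK LD1_c0 LD2_c20 LD3_c45) (LK LD1_c0 LD2_c46 LD3_c11) Lrfl Lrfl
theorem f23556 : Led Lsl_bf (LP (LK LD1_c1 LD2_c7 LD3_c3)) = (LP (LK LD1_c0 LD2_c43 LD3_c48)) :=
  Lgr Lrot24 (Lpr_bt (K2.f23462 IH) (Lpn (LP (LK LD1_c0 LD2_c43 LD3_c48))))
theorem f104173 : Led Lsl_gf (LP (LK LD1_c0 LD2_c46 LD3_c11)) = (LP (LK LD1_c1 LD2_c7 LD3_c3)) :=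
  Lgr Lrot124 (Lpe (f13507 IH) (Lpr_ct (K2.f13506 IH) (Lpr_gt (K2.f9811 IH) (Lpe (K0.f9792 IH) (Lpe (K2.f13502 IH) (Lpr_gt (f13504 IH) (Lpr_ct (f103490 IH) (Lpr_gt (f104162 IH) (Lpe (f79259 IH) (Lpe (f23556 IH) (Lpn (LP (LK LD1_c1 LD2_c7 LD3_c3)))))))))))))
theorem f23451 : Led Lsl_ct (LP (LK LD1_c0 LD2_c30 LD3_c43)) = (LP (LK LD1_c1 LD2_c7 LD3_c3)) :=
  Lre_c IH (LK LD1_c0 LD2_c30 LD3_c43) (LK LD1_c1 LD2_c7 LD3_c3) Lrfl Lrfl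
theorem f79319 : Led Lsl_at (LP (LK LD1_c0 LD2_c8 LD3_c49)) = (LP (LK LD1_c0 LD2_c19 LD3_c37)) :=
  Lre_a IH (LK LD1_c0 LD2_c8 LD3_c49) (LK LD1_c0 LD2_c19 LD3_c37) Lrfl Lrfl
theorem f65456 : Led Lsl_ft (LP (LK LD1_c0 LD2_c19 LD3_c33)) = (LP (LK LD1_c0 LD2_c8 LD3_c49)) :=
  Lre_f IH (LK LD1_c0 LD2_c19 LD3_c33) (LK LD1_c0 LD2_c8 LD3_c49) Lrfl Lrfl
theorem f103572 : Led Lsl_gf (LP (LK LD1_c0 LD2_c8 LD3_c52)) = (LP (LK LD1_c0 LD2_c19 LD3_c33)) :=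
  Lgr Lrot47 (Lpr_gt (f103568 IH) (Lpe (f79319 IH) (Lpe (f65456 IH) (Lpn (LP (LK LD1_c0 LD2_c19 LD3_c33))))))
theorem f65464 : Led Lsl_bt (LP (LK LD1_c0 LD2_c43 LD3_c47)) = (LP (LK LD1_c0 LD2_c19 LD3_c33)) :=
  Lre_b IH (LK LD1_c0 LD2_c43 LD3_c47) (LK LD1_c0 LD2_c19 LD3_c33) Lrfl Lrfl
theorem f104177 : Led Lsl_cf (LP (LK LD1_c0 LD2_c46 LD3_c11)) = (LP (LK LD1_c0 LD2_c43 LD3_c47)) :=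
  Lgr Lrot163 (Lpr_gf (f104173 IH) (Lpe (f23451 IH) (Lpe (K2.f23443 IH) (Lpe (K0.f23384 IH) (Lpr_ct (K0.f23435 IH) (Lpe (K0.f7177 IH) (Lpe (K0.f11007 IH) (Lpr_bt (f58959 IH) (Lpr_gf (f103572 IH) (Lpe (f65464 IH) (Lpn (LP (LK LD1_c0 LD2_c43 LD3_c47)))))))))))))
theorem f23572 : Led Lsl_bt (LP (LK LD1_c0 LD2_c30 LD3_c43)) = (LP (LK LD1_c1 LD2_c7 LD3_c2)) :=
  Lre_b IH (LK LD1_c0 LD2_c30 LD3_c43) (LK LD1_c1 LD2_c7 LD3_c2) Lrfl Lrfl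
theorem f11286 : Led Lsl_ct (LP (LK LD1_c0 LD2_c8 LD3_c52)) = (LP (LK LD1_c0 LD2_c4 LD3_c60)) :=
  Lre_c IH (LK LD1_c0 LD2_c8 LD3_c52) (LK LD1_c0 LD2_c4 LD3_c60) Lrfl Lrfl
theorem f85187 : Led Lsl_ft (LP (LK LD1_c0 LD2_c10 LD3_c28)) = (LP (LK LD1_c0 LD2_c4 LD3_c57)) :=
  Lre_f IH (LK LD1_c0 LD2_c10 LD3_c28) (LK LD1_c0 LD2_c4 LD3_c57) Lrfl Lrfl
theorem f95962 : Led Lsl_at (LP (LK LD1_c0 LD2_c4 LD3_c57)) = (LP (LK LD1_c0 LD2_c10 LD3_c32)) :=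
  Lre_a IH (LK LD1_c0 LD2_c4 LD3_c57) (LK LD1_c0 LD2_c10 LD3_c32) Lrfl Lrfl
theorem f95963 : Led Lsl_gt (LP (LK LD1_c0 LD2_c4 LD3_c60)) = (LP (LK LD1_c0 LD2_c10 LD3_c32)) :=
  Lgr Lrot46 (Lpr_gf (f95743 IH) (Lpr_ft (f85187 IH) (Lpr_at (f95962 IH) (Lpn (LP (LK LD1_c0 LD2_c10 LD3_c32))))))
theorem f95986 : Led Lsl_ct (LP (LK LD1_c0 LD2_c23 LD3_c26)) = (LP (LK LD1_c0 LD2_c10 LD3_c32)) :=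
  Lre_c IH (LK LD1_c0 LD2_c23 LD3_c26) (LK LD1_c0 LD2_c10 LD3_c32) Lrfl Lrfl
theorem f95553 : Led Lsl_bt (LP (LK LD1_c0 LD2_c23 LD3_c26)) = (LP (LK LD1_c0 LD2_c51 LD3_c44)) :=
  Lre_b IH (LK LD1_c0 LD2_c23 LD3_c26) (LK LD1_c0 LD2_c51 LD3_c44) Lrfl Lrfl
theorem f104188 : Led Lsl_gf (LP (LK LD1_c1 LD2_c7 LD3_c2)) = (LP (LK LD1_c0 LD2_c51 LD3_c44)) :=
  Lgr Lrot124 (Lpe (f23572 IH) (Lpr_ct (f23451 IH) (Lpe (f104173 IH) (Lpr_cf (f104177 IH) (Lpr_bt (f65464 IH) (Lpe (f103572 IH) (Lpr_ct (f11286 IH) (Lpr_gt (f95963 IH) (Lpe (f95986 IH) (Lpr_bt (f95553 IH) (Lpn (LP (LK LD1_c0 LD2_c51 LD3_c44)))))))))))))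
theorem f23503 : Led Lsl_ct (LP (LK LD1_c1 LD2_c7 LD3_c11)) = (LP (LK LD1_c0 LD2_c30 LD3_c50)) :=
  Lre_c IH (LK LD1_c1 LD2_c7 LD3_c11) (LK LD1_c0 LD2_c30 LD3_c50) Lrfl Lrfl
theorem f23311 : Led Lsl_bt (LP (LK LD1_c1 LD2_c7 LD3_c14)) = (LP (LK LD1_c0 LD2_c30 LD3_c51)) :=
  Lre_b IH (LK LD1_c1 LD2_c7 LD3_c14) (LK LD1_c0 LD2_c30 LD3_c51) Lrfl Lrfl
theorem f79261 : Led Lsl_cf (LP (LK LD1_c0 LD2_c43 LD3_c48)) = (LP (LK LD1_c1 LD2_c7 LD3_c14)) :=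
  Lgr Lrot58 (Lpr_gf (f79254 IH) (Lpe (f13489 IH) (Lpr_bt (f23314 IH) (Lpe (K2.f23498 IH) (Lpr_bf (K2.f23475 IH) (Lpr_ct (f23503 IH) (Lpe (K2.f20947 IH) (Lpe (K2.f23297 IH) (Lpe (K2.f23310 IH) (Lpe (f23311 IH) (Lpn (LP (LK LD1_c1 LD2_c7 LD3_c14)))))))))))))
theorem f79263 : Led Lsl_bt (LP (LK LD1_c0 LD2_c30 LD3_c51)) = (LP (LK LD1_c1 LD2_c7 LD3_c14)) :=
  Lre_b IH (LK LD1_c0 LD2_c30 LD3_c51) (LK LD1_c1 LD2_c7 LD3_c14) Lrfl Lrfl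
theorem f79264 : Led Lsl_ct (LP (LK LD1_c1 LD2_c7 LD3_c2)) = (LP (LK LD1_c0 LD2_c30 LD3_c51)) :=
  Lgr Lrot83 (Lpe (f23572 IH) (Lpe (K2.f23457 IH) (Lpr_bf (f23556 IH) (Lpr_cf (f79261 IH) (Lpe (f79263 IH) (Lpn (LP (LK LD1_c0 LD2_c30 LD3_c51))))))))
theorem f79266 : Led Lsl_cf (LP (LK LD1_c1 LD2_c7 LD3_c2)) = (LP (LK LD1_c0 LD2_c30 LD3_c51)) :=
  Lgr Lrot11 (Lpr_ct (f79264 IH) (Lpn (LP (LK LD1_c0 LD2_c30 LD3_c51))))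
theorem f103482 : Led Lsl_cf (LP (LK LD1_c0 LD2_c45 LD3_c8)) = (LP (LK LD1_c0 LD2_c43 LD3_c49)) :=
  Lgr Lrot108 (Lpr_ft (f103480 IH) (Lpr_ct (f13489 IH) (Lpe (f79257 IH) (Lpn (LP (LK LD1_c0 LD2_c43 LD3_c49))))))
theorem f104193 : Led Lsl_ct (LP (LK LD1_c0 LD2_c45 LD3_c23)) = (LP (LK LD1_c0 LD2_c51 LD3_c44)) :=
  Lgr Lrot64 (Lpr_bt (K2.f13523 IH) (Lpe (K2.f9813 IH) (Lpe (K2.f13510 IH) (Lpe (K2.f13493 IH) (Lpe (f13532 IH) (Lpr_cf (f103482 IH) (Lpr_gf (f104160 IH) (Lpe (f79263 IH) (Lpe (f79266 IH) (Lpr_gf (f104188 IH) (Lpn (LP (LK LD1_c0 LD2_c51 LD3_c44)))))))))))))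
theorem f95557 : Led Lsl_gf (LP (LK LD1_c0 LD2_c45 LD3_c23)) = (LP (LK LD1_c0 LD2_c42 LD3_c48)) :=
  Lgr Lrot76 (Lpr_af (K2.f95549 IH) (Lpe (K2.f85062 IH) (Lpr_gt (f24324 IH) (Lpn (LP (LK LD1_c0 LD2_c42 LD3_c48))))))
theorem f78115 : Led Lsl_ct (LP (LK LD1_c2 LD2_c19 LD3_c59)) = (LP (LK LD1_c1 LD2_c7 LD3_c15)) :=
  Lre_c IH (LK LD1_c2 LD2_c19 LD3_c59) (LK LD1_c1 LD2_c7 LD3_c15) Lrfl Lrfl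
theorem f23540 : Led Lsl_dt (LP (LK LD1_c1 LD2_c7 LD3_c11)) = (LP (LK LD1_c2 LD2_c19 LD3_c53)) :=
  Lre_d IH (LK LD1_c1 LD2_c7 LD3_c11) (LK LD1_c2 LD2_c19 LD3_c53) Lrfl Lrfl
theorem f83723 : Led Lsl_dt (LP (LK LD1_c1 LD2_c29 LD3_c32)) = (LP (LK LD1_c1 LD2_c38 LD3_c2)) :=
  Lgr Lrot79 (Lpe (K2.f83722 IH) (Lpr_df (K2.f83720 IH) (Lpe (f77322 IH) (Lpn (LP (LK LD1_c1 LD2_c38 LD3_c2))))))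
theorem f90362 : Led Lsl_df (LP (LK LD1_c1 LD2_c41 LD3_c1)) = (LP (LK LD1_c3 LD2_c23 LD3_c19)) :=
  Lgr Lrot18 (Lpr_at (f90360 IH) (Lpr_dt (f83723 IH) (Lpr_at (f83917 IH) (Lpn (LP (LK LD1_c3 LD2_c23 LD3_c19))))))
theorem f88770 : Led Lsl_bt (LP (LK LD1_c0 LD2_c47 LD3_c4)) = (LP (LK LD1_c1 LD2_c41 LD3_c1)) :=
  Lre_b IH (LK LD1_c0 LD2_c47 LD3_c4) (LK LD1_c1 LD2_c41 LD3_c1) Lrfl Lrfl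
theorem f83905 : Led Lsl_bt (LP (LK LD1_c1 LD2_c29 LD3_c32)) = (LP (LK LD1_c0 LD2_c41 LD3_c23)) :=
  Lre_b IH (LK LD1_c1 LD2_c29 LD3_c32) (LK LD1_c0 LD2_c41 LD3_c23) Lrfl Lrfl
theorem f90178 : Led Lsl_ct (LP (LK LD1_c1 LD2_c41 LD3_c1)) = (LP (LK LD1_c1 LD2_c29 LD3_c32)) :=
  Lgr Lrot83 (Lpe (f88770 IH) (Lpe (K2.f87662 IH) (Lpe (K2.f87612 IH) (Lpr_cf (K2.f90173 IH) (Lpe (f83905 IH) (Lpn (LP (LK LD1_c1 LD2_c29 LD3_c32))))))))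
theorem f83812 : Led Lsl_ef (LP (LK LD1_c3 LD2_c6 LD3_c51)) = (LP (LK LD1_c3 LD2_c23 LD3_c26)) :=
  Lgr Lrot88 (Lpr_et (f83730 IH) (Lpn (LP (LK LD1_c3 LD2_c23 LD3_c26))))
theorem f83816 : Led Lsl_bt (LP (LK LD1_c3 LD2_c6 LD3_c51)) = (LP (LK LD1_c6 LD2_c18 LD3_c60)) :=
  Lre_b IH (LK LD1_c3 LD2_c6 LD3_c51) (LK LD1_c6 LD2_c18 LD3_c60) Lrfl Lrfl
theorem f83818 : Led Lsl_et (LP (LK LD1_c6 LD2_c18 LD3_c60)) = (LP (LK LD1_c6 LD2_c50 LD3_c0)) :=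
  Lgr Lrot74 (Lpe (f83816 IH) (Lpr_ef (f83812 IH) (Lpe (f83817 IH) (Lpn (LP (LK LD1_c6 LD2_c50 LD3_c0))))))
theorem f83899 : Led Lsl_dt (LP (LK LD1_c6 LD2_c50 LD3_c0)) = (LP (LK LD1_c3 LD2_c23 LD3_c21)) :=
  Lre_d IH (LK LD1_c6 LD2_c50 LD3_c0) (LK LD1_c3 LD2_c23 LD3_c21) Lrfl Lrfl
theorem f83900 : Led Lsl_et (LP (LK LD1_c3 LD2_c23 LD3_c21)) = (LP (LK LD1_c1 LD2_c38 LD3_c2)) :=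
  Lre_e IH (LK LD1_c3 LD2_c23 LD3_c21) (LK LD1_c1 LD2_c38 LD3_c2) Lrfl Lrfl
theorem f83901 : Led Lsl_df (LP (LK LD1_c1 LD2_c29 LD3_c32)) = (LP (LK LD1_c1 LD2_c38 LD3_c2)) :=
  Lgr Lrot70 (Lpr_et (f83898 IH) (Lpr_dt (f83897 IH) (Lpr_et (f83818 IH) (Lpr_dt (f83899 IH) (Lpr_et (f83900 IH) (Lpn (LP (LK LD1_c1 LD2_c38 LD3_c2))))))))
theorem f90478 : Led Lsl_gt (LP (LK LD1_c1 LD2_c29 LD3_c59)) = (LP (LK LD1_c1 LD2_c38 LD3_c2)) :=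
  Lgr Lrot46 (Lpe (K2.f62315 IH) (Lpr_ft (f90471 IH) (Lpr_at (f83904 IH) (Lpn (LP (LK LD1_c1 LD2_c38 LD3_c2))))))
theorem f104152 : Led Lsl_df (LP (LK LD1_c1 LD2_c29 LD3_c59)) = (LP (LK LD1_c0 LD2_c42 LD3_c48)) :=
  Lgr Lrot153 (Lpr_gt (f90478 IH) (Lpe (f83901 IH) (Lpe (f90178 IH) (Lpr_df (f90362 IH) (Lpr_gf (f103184 IH) (Lpe (f23540 IH) (Lpr_gf (f104148 IH) (Lpe (K2.f12421 IH) (Lpr_gt (f24324 IH) (Lpn (LP (LK LD1_c0 LD2_c42 LD3_c48))))))))))))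
theorem f77323 : Led Lsl_ct (LP (LK LD1_c1 LD2_c38 LD3_c2)) = (LP (LK LD1_c3 LD2_c23 LD3_c20)) :=
  Lre_c IH (LK LD1_c1 LD2_c38 LD3_c2) (LK LD1_c3 LD2_c23 LD3_c20) Lrfl Lrfl
theorem f78111 : Led Lsl_dt (LP (LK LD1_c1 LD2_c7 LD3_c15)) = (LP (LK LD1_c0 LD2_c30 LD3_c51)) :=
  Lre_d IH (LK LD1_c1 LD2_c7 LD3_c15) (LK LD1_c0 LD2_c30 LD3_c51) Lrfl Lrfl
theorem f104198 : Led Lsl_gt (LP (LK LD1_c3 LD2_c23 LD3_c20)) = (LP (LK LD1_c2 LD2_c19 LD3_c59)) :=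
  Lgr Lrot150 (Lpe (f77323 IH) (Lpe (f90478 IH) (Lpr_df (f104152 IH) (Lpe (f95557 IH) (Lpr_ct (f104193 IH) (Lpe (f104188 IH) (Lpr_ct (f79264 IH) (Lpe (f78111 IH) (Lpe (f78115 IH) (Lpn (LP (LK LD1_c2 LD2_c19 LD3_c59))))))))))))
theorem f104200 : Led Lsl_df (LP (LK LD1_c0 LD2_c42 LD3_c48)) = (LP (LK LD1_c1 LD2_c29 LD3_c59)) :=
  Lgr Lrot155 (Lpe (f95557 IH) (Lpr_ct (f104193 IH) (Lpe (f104188 IH) (Lpr_ct (f79264 IH) (Lpr_dt (K2.f78108 IH) (Lpe (f78115 IH) (Lpe (f104198 IH) (Lpe (f77323 IH) (Lpe (f90478 IH) (Lpn (LP (LK LD1_c1 LD2_c29 LD3_c59))))))))))))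
theorem f61906 : Led Lsl_bt (LP (LK LD1_c0 LD2_c41 LD3_c36)) = (LP (LK LD1_c1 LD2_c29 LD3_c59)) :=
  Lre_b IH (LK LD1_c0 LD2_c41 LD3_c36) (LK LD1_c1 LD2_c29 LD3_c59) Lrfl Lrfl
theorem f104202 : Led Lsl_dt (LP (LK LD1_c0 LD2_c19 LD3_c3)) = (LP (LK LD1_c0 LD2_c41 LD3_c36)) :=
  Lgr Lrot79 (Lpe (f24319 IH) (Lpr_df (f104200 IH) (Lpe (f61906 IH) (Lpn (LP (LK LD1_c0 LD2_c41 LD3_c36))))))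
theorem f104229 : Led Lsl_bf (LP (LK LD1_c1 LD2_c35 LD3_c30)) = (LP (LK LD1_c1 LD2_c29 LD3_c60)) :=
  Lgr Lrot184 (Lpr_gt (K1.f24618 IH) (Lpr_dt (K1.f24617 IH) (Lpr_ct (K1.f24616 IH) (Lpr_bt (K1.f24615 IH) (Lpr_gt (K0.f24598 IH) (Lpr_dt (K0.f24599 IH) (Lpe (K0.f21004 IH) (Lpr_bt (K0.f12689 IH) (Lpe (K0.f12681 IH) (Lpr_dt (K0.f168 IH) (Lpe (K0.f117 IH) (Lpr_bt (K0.f160 IH) (Lpe (K0.f20972 IH) (Lpr_dt (K0.f20979 IH) (Lpr_ct (K0.f13448 IH) (Lpr_bt (K2.f20984 IH) (Lpr_gt (f20985 IH) (Lpr_dt (f104202 IH) (Lpr_ct (K1.f25019 IH) (Lpn (LP (LK LD1_c1 LD2_c29 LD3_c60))))))))))))))))))))))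
theorem f61908 : Led Lsl_cf (LP (LK LD1_c1 LD2_c29 LD3_c59)) = (LP (LK LD1_c1 LD2_c36 LD3_c18)) :=
  Lgr Lrot11 (Lpr_ct (K2.f61881 IH) (Lpn (LP (LK LD1_c1 LD2_c36 LD3_c18))))
theorem f104234 : Led Lsl_bt (LP (LK LD1_c0 LD2_c51 LD3_c54)) = (LP (LK LD1_c1 LD2_c36 LD3_c18)) :=
  Lgr Lrot128 (Lpr_cf (K2.f65687 IH) (Lpr_bf (f104229 IH) (Lpe (K1.f25019 IH) (Lpe (K2.f61880 IH) (Lpr_cf (f61908 IH) (Lpn (LP (LK LD1_c1 LD2_c36 LD3_c18))))))))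
theorem f15533 : Led Lsl_bt (LP (LK LD1_c0 LD2_c23 LD3_c52)) = (LP (LK LD1_c0 LD2_c52 LD3_c55)) :=
  Lre_b IH (LK LD1_c0 LD2_c23 LD3_c52) (LK LD1_c0 LD2_c52 LD3_c55) Lrfl Lrfl
theorem f11516 : Led Lsl_dt (LP (LK LD1_c0 LD2_c52 LD3_c55)) = (LP (LK LD1_c0 LD2_c23 LD3_c51)) :=
  Lre_d IH (LK LD1_c0 LD2_c52 LD3_c55) (LK LD1_c0 LD2_c23 LD3_c51) Lrfl Lrfl
theorem f17633 : Led Lsl_bf (LP (LK LD1_c0 LD2_c0 LD3_c56)) = (LP (LK LD1_c0 LD2_c0 LD3_c56)) :=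
  Lgr Lrot90 (Lpr_ct (K0.f359 IH) (Lpr_bt (K0.f5855 IH) (Lpr_ct (K0.f17629 IH) (Lpr_bt (K0.f10253 IH) (Lpr_ct (K0.f356 IH) (Lpn (LP (LK LD1_c0 LD2_c0 LD3_c56))))))))
theorem f24309 : Led Lsl_dt (LP (LK LD1_c0 LD2_c19 LD3_c24)) = (LP (LK LD1_c0 LD2_c43 LD3_c30)) :=
  Lre_d IH (LK LD1_c0 LD2_c19 LD3_c24) (LK LD1_c0 LD2_c43 LD3_c30) Lrfl Lrfl
theorem f26162 : Led Lsl_ct (LP (LK LD1_c0 LD2_c43 LD3_c30)) = (LP (LK LD1_c1 LD2_c33 LD3_c50)) :=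
  Lre_c IH (LK LD1_c0 LD2_c43 LD3_c30) (LK LD1_c1 LD2_c33 LD3_c50) Lrfl Lrfl
theorem f91758 : Led Lsl_bf (LP (LK LD1_c1 LD2_c49 LD3_c34)) = (LP (LK LD1_c1 LD2_c33 LD3_c50)) :=
  Lgr Lrot184 (Lpr_gt (K2.f91752 IH) (Lpr_dt (f11516 IH) (Lpr_ct (K0.f11515 IH) (Lpr_bt (K0.f11514 IH) (Lpr_gt (K0.f11507 IH) (Lpr_dt (K0.f357 IH) (Lpr_ct (K0.f356 IH) (Lpe (f17633 IH) (Lpe (K0.f9926 IH) (Lpr_dt (K0.f108 IH) (Lpr_ct (K0.f90 IH) (Lpr_bt (K0.f103 IH) (Lpr_gt (K0.f131 IH) (Lpr_dt (K0.f23168 IH) (Lpr_ct (K0.f369 IH) (Lpr_bt (f24270 IH) (Lpr_gt (f24308 IH) (Lpr_dt (f24309 IH) (Lpr_ct (f26162 IH) (Lpn (LP (LK LD1_c1 LD2_c33 LD3_c50))))))))))))))))))))))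
theorem f26160 : Led Lsl_ct (LP (LK LD1_c1 LD2_c33 LD3_c50)) = (LP (LK LD1_c0 LD2_c43 LD3_c30)) :=
  Lre_c IH (LK LD1_c1 LD2_c33 LD3_c50) (LK LD1_c0 LD2_c43 LD3_c30) Lrfl Lrfl
theorem f104287 : Led Lsl_gf (LP (LK LD1_c0 LD2_c43 LD3_c30)) = (LP (LK LD1_c0 LD2_c19 LD3_c51)) :=
  Lgr Lrot129 (Lpe (f26160 IH) (Lpe (f91758 IH) (Lpr_gt (K2.f91752 IH) (Lpe (f15533 IH) (Lpr_ct (K2.f65193 IH) (Lpr_gt (K1.f62193 IH) (Lpe (f66417 IH) (Lpr_bt (f104234 IH) (Lpr_gt (K2.f57260 IH) (Lpr_ct (K1.f352 IH) (Lpn (LP (LK LD1_c0 LD2_c19 LD3_c51)))))))))))))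
theorem f26155 : Led Lsl_dt (LP (LK LD1_c1 LD2_c32 LD3_c31)) = (LP (LK LD1_c0 LD2_c42 LD3_c52)) :=
  Lre_d IH (LK LD1_c1 LD2_c32 LD3_c31) (LK LD1_c0 LD2_c42 LD3_c52) Lrfl Lrfl
theorem f26156 : Led Lsl_bt (LP (LK LD1_c0 LD2_c43 LD3_c30)) = (LP (LK LD1_c1 LD2_c32 LD3_c31)) :=
  Lgr Lrot95 (Lpe (f24309 IH) (Lpr_bf (f26150 IH) (Lpe (f26155 IH) (Lpn (LP (LK LD1_c1 LD2_c32 LD3_c31))))))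
theorem f26158 : Led Lsl_bf (LP (LK LD1_c0 LD2_c43 LD3_c30)) = (LP (LK LD1_c1 LD2_c32 LD3_c31)) :=
  Lgr Lrot24 (Lpr_bt (f26156 IH) (Lpn (LP (LK LD1_c1 LD2_c32 LD3_c31))))
theorem f57541 : Led Lsl_gf (LP (LK LD1_c0 LD2_c20 LD3_c21)) = (LP (LK LD1_c0 LD2_c13 LD3_c26)) :=
  Lgr Lrot147 (Lpr_ct (K1.f36242 IH) (Lpr_gt (K2.f56667 IH) (Lpe (K1.f56671 IH) (Lpr_df (K1.f57530 IH) (Lpr_cf (K0.f20940 IH) (Lpe (K0.f20926 IH) (Lpr_cf (K1.f26302 IH) (Lpe (K0.f20963 IH) (Lpe (K0.f25731 IH) (Lpn (LP (LK LD1_c0 LD2_c13 LD3_c26))))))))))))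
theorem f26005 : Led Lsl_bt (LP (LK LD1_c0 LD2_c30 LD3_c13)) = (LP (LK LD1_c0 LD2_c13 LD3_c26)) :=
  Lre_b IH (LK LD1_c0 LD2_c30 LD3_c13) (LK LD1_c0 LD2_c13 LD3_c26) Lrfl Lrfl
theorem f26006 : Led Lsl_ct (LP (LK LD1_c0 LD2_c30 LD3_c13)) = (LP (LK LD1_c1 LD2_c6 LD3_c5)) :=
  Lre_c IH (LK LD1_c0 LD2_c30 LD3_c13) (LK LD1_c1 LD2_c6 LD3_c5) Lrfl Lrfl
theorem f90251 : Led Lsl_gt (LP (LK LD1_c2 LD2_c18 LD3_c7)) = (LP (LK LD1_c1 LD2_c6 LD3_c5)) :=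
  Lre_g IH (LK LD1_c2 LD2_c18 LD3_c7) (LK LD1_c1 LD2_c6 LD3_c5) Lrfl Lrfl
theorem f104299 : Led Lsl_ct (LP (LK LD1_c1 LD2_c32 LD3_c31)) = (LP (LK LD1_c2 LD2_c18 LD3_c7)) :=
  Lgr Lrot64 (Lpe (f26158 IH) (Lpr_gf (f104287 IH) (Lpe (K2.f56679 IH) (Lpr_ct (K1.f56669 IH) (Lpe (K2.f56667 IH) (Lpe (K1.f36242 IH) (Lpr_gf (f57541 IH) (Lpe (f26005 IH) (Lpr_ct (f26006 IH) (Lpe (f90251 IH) (Lpn (LP (LK LD1_c2 LD2_c18 LD3_c7)))))))))))))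
theorem f104304 : Led Lsl_cf (LP (LK LD1_c1 LD2_c32 LD3_c31)) = (LP (LK LD1_c2 LD2_c18 LD3_c7)) :=
  Lgr Lrot11 (Lpr_ct (f104299 IH) (Lpn (LP (LK LD1_c2 LD2_c18 LD3_c7))))
theorem f104723 : Led Lsl_bt (LP (LK LD1_c3 LD2_c44 LD3_c58)) = (LP (LK LD1_c2 LD2_c18 LD3_c7)) :=
  Lgr Lrot128 (Lpe (K2.f65860 IH) (Lpr_bf (f91758 IH) (Lpe (f26162 IH) (Lpr_bf (f26158 IH) (Lpr_cf (f104304 IH) (Lpn (LP (LK LD1_c2 LD2_c18 LD3_c7))))))))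
theorem f68342 : Led Lsl_bt (LP (LK LD1_c3 LD2_c46 LD3_c28)) = (LP (LK LD1_c1 LD2_c50 LD3_c20)) :=
  Lre_b IH (LK LD1_c3 LD2_c46 LD3_c28) (LK LD1_c1 LD2_c50 LD3_c20) Lrfl Lrfl
theorem f104725 : Led Lsl_df (LP (LK LD1_c3 LD2_c46 LD3_c28)) = (LP (LK LD1_c2 LD2_c18 LD3_c7)) :=
  Lgr Lrot12 (Lpr_bt (f68342 IH) (Lpe (K2.f95289 IH) (Lpr_bt (f104723 IH) (Lpn (LP (LK LD1_c2 LD2_c18 LD3_c7))))))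
theorem f68343 : Led Lsl_ct (LP (LK LD1_c3 LD2_c46 LD3_c28)) = (LP (LK LD1_c1 LD2_c50 LD3_c21)) :=
  Lre_c IH (LK LD1_c3 LD2_c46 LD3_c28) (LK LD1_c1 LD2_c50 LD3_c21) Lrfl Lrfl
theorem f104275 : Led Lsl_at (LP (LK LD1_c3 LD2_c46 LD3_c29)) = (LP (LK LD1_c1 LD2_c50 LD3_c21)) :=
  Lre_a IH (LK LD1_c3 LD2_c46 LD3_c29) (LK LD1_c1 LD2_c50 LD3_c21) Lrfl Lrfl
theorem f26166 : Led Lsl_dt (LP (LK LD1_c0 LD2_c42 LD3_c52)) = (LP (LK LD1_c1 LD2_c32 LD3_c31)) :=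
  Lre_d IH (LK LD1_c0 LD2_c42 LD3_c52) (LK LD1_c1 LD2_c32 LD3_c31) Lrfl Lrfl
theorem f89460 : Led Lsl_ct (LP (LK LD1_c1 LD2_c30 LD3_c1)) = (LP (LK LD1_c0 LD2_c41 LD3_c37)) :=
  Lre_c IH (LK LD1_c1 LD2_c30 LD3_c1) (LK LD1_c0 LD2_c41 LD3_c37) Lrfl Lrfl
theorem f91446 : Led Lsl_dt (LP (LK LD1_c3 LD2_c7 LD3_c35)) = (LP (LK LD1_c1 LD2_c30 LD3_c1)) :=
  Lre_d IH (LK LD1_c3 LD2_c7 LD3_c35) (LK LD1_c1 LD2_c30 LD3_c1) Lrfl Lrfl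
theorem f105186 : Led Lsl_ff (LP (LK LD1_c3 LD2_c46 LD3_c29)) = (LP (LK LD1_c3 LD2_c7 LD3_c35)) :=
  Lgr Lrot103 (Lpr_at (f104275 IH) (Lpe (f68343 IH) (Lpr_df (f104725 IH) (Lpe (f104299 IH) (Lpe (f26166 IH) (Lpe (f26154 IH) (Lpr_df (f91439 IH) (Lpe (f89460 IH) (Lpe (f91446 IH) (Lpn (LP (LK LD1_c3 LD2_c7 LD3_c35))))))))))))
theorem f105190 : Led Lsl_ft (LP (LK LD1_c3 LD2_c46 LD3_c29)) = (LP (LK LD1_c3 LD2_c7 LD3_c35)) :=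
  Lgr Lrot48 (Lpr_ff (f105186 IH) (Lpn (LP (LK LD1_c3 LD2_c7 LD3_c35))))
theorem f96013 : Led Lsl_at (LP (LK LD1_c1 LD2_c50 LD3_c21)) = (LP (LK LD1_c3 LD2_c46 LD3_c29)) :=
  Lre_a IH (LK LD1_c1 LD2_c50 LD3_c21) (LK LD1_c3 LD2_c46 LD3_c29) Lrfl Lrfl
theorem f95719 : Led Lsl_bt (LP (LK LD1_c1 LD2_c27 LD3_c2)) = (LP (LK LD1_c3 LD2_c2 LD3_c0)) :=
  Lre_b IH (LK LD1_c1 LD2_c27 LD3_c2) (LK LD1_c3 LD2_c2 LD3_c0) Lrfl Lrfl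
theorem f65675 : Led Lsl_bt (LP (LK LD1_c1 LD2_c50 LD3_c21)) = (LP (LK LD1_c0 LD2_c52 LD3_c2)) :=
  Lre_b IH (LK LD1_c1 LD2_c50 LD3_c21) (LK LD1_c0 LD2_c52 LD3_c2) Lrfl Lrfl
theorem f96022 : Led Lsl_ft (LP (LK LD1_c3 LD2_c2 LD3_c0)) = (LP (LK LD1_c1 LD2_c50 LD3_c21)) :=
  Lgr Lrot75 (Lpe (f95719 IH) (Lpr_ff (f96020 IH) (Lpe (f65675 IH) (Lpn (LP (LK LD1_c1 LD2_c50 LD3_c21))))))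
theorem f105192 : Led Lsl_af (LP (LK LD1_c3 LD2_c2 LD3_c0)) = (LP (LK LD1_c3 LD2_c7 LD3_c35)) :=
  Lgr Lrot45 (Lpr_ft (f96022 IH) (Lpr_at (f96013 IH) (Lpr_ft (f105190 IH) (Lpn (LP (LK LD1_c3 LD2_c7 LD3_c35))))))
theorem f58421 : Led Lsl_bt (LP (LK LD1_c3 LD2_c2 LD3_c0)) = (LP (LK LD1_c1 LD2_c27 LD3_c2)) :=
  Lre_b IH (LK LD1_c3 LD2_c2 LD3_c0) (LK LD1_c1 LD2_c27 LD3_c2) Lrfl Lrfl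
theorem f79328 : Led Lsl_bt (LP (LK LD1_c0 LD2_c51 LD3_c47)) = (LP (LK LD1_c1 LD2_c49 LD3_c53)) :=
  Lre_b IH (LK LD1_c0 LD2_c51 LD3_c47) (LK LD1_c1 LD2_c49 LD3_c53) Lrfl Lrfl
theorem f105197 : Led Lsl_at (LP (LK LD1_c1 LD2_c49 LD3_c53)) = (LP (LK LD1_c3 LD2_c45 LD3_c31)) :=
  Lre_a IH (LK LD1_c1 LD2_c49 LD3_c53) (LK LD1_c3 LD2_c45 LD3_c31) Lrfl Lrfl
theorem f105198 : Led Lsl_bt (LP (LK LD1_c3 LD2_c45 LD3_c31)) = (LP (LK LD1_c3 LD2_c7 LD3_c35)) :=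
  Lgr Lrot62 (Lpe (f105197 IH) (Lpe (f79328 IH) (Lpe (f95717 IH) (Lpe (f58421 IH) (Lpr_af (f105192 IH) (Lpn (LP (LK LD1_c3 LD2_c7 LD3_c35))))))))
theorem f58422 : Led Lsl_bt (LP (LK LD1_c3 LD2_c1 LD3_c59)) = (LP (LK LD1_c1 LD2_c27 LD3_c1)) :=
  Lre_b IH (LK LD1_c3 LD2_c1 LD3_c59) (LK LD1_c1 LD2_c27 LD3_c1) Lrfl Lrfl
theorem f96012 : Led Lsl_at (LP (LK LD1_c6 LD2_c10 LD3_c41)) = (LP (LK LD1_c3 LD2_c1 LD3_c59)) :=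
  Lre_a IH (LK LD1_c6 LD2_c10 LD3_c41) (LK LD1_c3 LD2_c1 LD3_c59) Lrfl Lrfl
theorem f12418 : Led Lsl_bt (LP (LK LD1_c0 LD2_c52 LD3_c2)) = (LP (LK LD1_c1 LD2_c50 LD3_c21)) :=
  Lre_b IH (LK LD1_c0 LD2_c52 LD3_c2) (LK LD1_c1 LD2_c50 LD3_c21) Lrfl Lrfl
theorem f96014 : Led Lsl_bf (LP (LK LD1_c6 LD2_c10 LD3_c41)) = (LP (LK LD1_c3 LD2_c46 LD3_c29)) :=
  Lgr Lrot81 (Lpr_at (f96012 IH) (Lpr_bt (f58422 IH) (Lpr_at (f96010 IH) (Lpr_bt (f12418 IH) (Lpr_at (f96013 IH) (Lpn (LP (LK LD1_c3 LD2_c46 LD3_c29))))))))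
theorem f105218 : Led Lsl_ff (LP (LK LD1_c3 LD2_c45 LD3_c31)) = (LP (LK LD1_c6 LD2_c10 LD3_c41)) :=
  Lgr Lrot25 (Lpr_bt (f105198 IH) (Lpe (f105186 IH) (Lpe (f96014 IH) (Lpn (LP (LK LD1_c6 LD2_c10 LD3_c41))))))
theorem f105227 : Led Lsl_ft (LP (LK LD1_c3 LD2_c45 LD3_c31)) = (LP (LK LD1_c6 LD2_c10 LD3_c41)) :=
  Lgr Lrot48 (Lpr_ff (f105218 IH) (Lpn (LP (LK LD1_c6 LD2_c10 LD3_c41))))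
theorem f105210 : Led Lsl_bf (LP (LK LD1_c3 LD2_c45 LD3_c31)) = (LP (LK LD1_c3 LD2_c7 LD3_c35)) :=
  Lgr Lrot24 (Lpr_bt (f105198 IH) (Lpn (LP (LK LD1_c3 LD2_c7 LD3_c35))))
theorem f105236 : Led Lsl_bf (LP (LK LD1_c3 LD2_c46 LD3_c29)) = (LP (LK LD1_c6 LD2_c10 LD3_c41)) :=
  Lgr Lrot61 (Lpr_ft (f105190 IH) (Lpe (f105210 IH) (Lpr_ft (f105227 IH) (Lpn (LP (LK LD1_c6 LD2_c10 LD3_c41))))))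
theorem f105188 : Led Lsl_et (LP (LK LD1_c3 LD2_c46 LD3_c29)) = (LP (LK LD1_c7 LD2_c33 LD3_c53)) :=
  Lre_e IH (LK LD1_c3 LD2_c46 LD3_c29) (LK LD1_c7 LD2_c33 LD3_c53) Lrfl Lrfl
theorem f105226 : Led Lsl_et (LP (LK LD1_c12 LD2_c1 LD3_c56)) = (LP (LK LD1_c6 LD2_c10 LD3_c41)) :=
  Lre_e IH (LK LD1_c12 LD2_c1 LD3_c56) (LK LD1_c6 LD2_c10 LD3_c41) Lrfl Lrfl
theorem f105245 : Led Lsl_bt (LP (LK LD1_c7 LD2_c33 LD3_c53)) = (LP (LK LD1_c12 LD2_c1 LD3_c56)) :=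
  Lgr Lrot119 (Lpe (f105188 IH) (Lpr_bf (f105236 IH) (Lpe (f105226 IH) (Lpn (LP (LK LD1_c12 LD2_c1 LD3_c56))))))
theorem f105247 : Led Lsl_at (LP (LK LD1_c3 LD2_c46 LD3_c30)) = (LP (LK LD1_c7 LD2_c33 LD3_c53)) :=
  Lre_a IH (LK LD1_c3 LD2_c46 LD3_c30) (LK LD1_c7 LD2_c33 LD3_c53) Lrfl Lrfl
theorem f105248 : Led Lsl_bt (LP (LK LD1_c1 LD2_c50 LD3_c22)) = (LP (LK LD1_c3 LD2_c46 LD3_c30)) :=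
  Lre_b IH (LK LD1_c1 LD2_c50 LD3_c22) (LK LD1_c3 LD2_c46 LD3_c30) Lrfl Lrfl
theorem f105249 : Led Lsl_at (LP (LK LD1_c12 LD2_c1 LD3_c56)) = (LP (LK LD1_c6 LD2_c10 LD3_c44)) :=
  Lre_a IH (LK LD1_c12 LD2_c1 LD3_c56) (LK LD1_c6 LD2_c10 LD3_c44) Lrfl Lrfl
theorem f105250 : Led Lsl_bt (LP (LK LD1_c6 LD2_c10 LD3_c44)) = (LP (LK LD1_c3 LD2_c1 LD3_c61)) :=
  Lre_b IH (LK LD1_c6 LD2_c10 LD3_c44) (LK LD1_c3 LD2_c1 LD3_c61) Lrfl Lrfl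
theorem f105251 : Led Lsl_af (LP (LK LD1_c1 LD2_c50 LD3_c22)) = (LP (LK LD1_c3 LD2_c1 LD3_c61)) :=
  Lgr Lrot36 (Lpr_bt (f105248 IH) (Lpr_at (f105247 IH) (Lpr_bt (f105245 IH) (Lpr_at (f105249 IH) (Lpr_bt (f105250 IH) (Lpn (LP (LK LD1_c3 LD2_c1 LD3_c61))))))))
theorem f65681 : Led Lsl_dt (LP (LK LD1_c1 LD2_c50 LD3_c22)) = (LP (LK LD1_c3 LD2_c46 LD3_c31)) :=
  Lre_d IH (LK LD1_c1 LD2_c50 LD3_c22) (LK LD1_c3 LD2_c46 LD3_c31) Lrfl Lrfl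
theorem f105262 : Led Lsl_dt (LP (LK LD1_c6 LD2_c10 LD3_c46)) = (LP (LK LD1_c3 LD2_c1 LD3_c61)) :=
  Lre_d IH (LK LD1_c6 LD2_c10 LD3_c46) (LK LD1_c3 LD2_c1 LD3_c61) Lrfl Lrfl
theorem f105263 : Led Lsl_at (LP (LK LD1_c3 LD2_c46 LD3_c31)) = (LP (LK LD1_c6 LD2_c10 LD3_c46)) :=
  Lgr Lrot51 (Lpe (f65681 IH) (Lpr_af (f105251 IH) (Lpe (f105262 IH) (Lpn (LP (LK LD1_c6 LD2_c10 LD3_c46))))))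
theorem f65680 : Led Lsl_et (LP (LK LD1_c1 LD2_c50 LD3_c22)) = (LP (LK LD1_c0 LD2_c52 LD3_c2)) :=
  Lre_e IH (LK LD1_c1 LD2_c50 LD3_c22) (LK LD1_c0 LD2_c52 LD3_c2) Lrfl Lrfl
theorem f65691 : Led Lsl_dt (LP (LK LD1_c3 LD2_c46 LD3_c31)) = (LP (LK LD1_c1 LD2_c50 LD3_c22)) :=
  Lre_d IH (LK LD1_c3 LD2_c46 LD3_c31) (LK LD1_c1 LD2_c50 LD3_c22) Lrfl Lrfl
theorem f65692 : Led Lsl_et (LP (LK LD1_c1 LD2_c35 LD3_c30)) = (LP (LK LD1_c3 LD2_c17 LD3_c60)) :=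
  Lre_e IH (LK LD1_c1 LD2_c35 LD3_c30) (LK LD1_c3 LD2_c17 LD3_c60) Lrfl Lrfl
theorem f65693 : Led Lsl_dt (LP (LK LD1_c3 LD2_c17 LD3_c60)) = (LP (LK LD1_c6 LD2_c39 LD3_c42)) :=
  Lre_d IH (LK LD1_c3 LD2_c17 LD3_c60) (LK LD1_c6 LD2_c39 LD3_c42) Lrfl Lrfl
theorem f65694 : Led Lsl_ef (LP (LK LD1_c3 LD2_c46 LD3_c31)) = (LP (LK LD1_c6 LD2_c39 LD3_c42)) :=
  Lgr Lrot73 (Lpr_dt (f65691 IH) (Lpr_et (f65680 IH) (Lpr_dt (K1.f65666 IH) (Lpr_et (f65692 IH) (Lpr_dt (f65693 IH) (Lpn (LP (LK LD1_c6 LD2_c39 LD3_c42))))))))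
theorem f105268 : Led Lsl_et (LP (LK LD1_c6 LD2_c10 LD3_c46)) = (LP (LK LD1_c12 LD2_c1 LD3_c60)) :=
  Lre_e IH (LK LD1_c6 LD2_c10 LD3_c46) (LK LD1_c12 LD2_c1 LD3_c60) Lrfl Lrfl
theorem f105269 : Led Lsl_af (LP (LK LD1_c6 LD2_c39 LD3_c42)) = (LP (LK LD1_c12 LD2_c1 LD3_c60)) :=
  Lgr Lrot50 (Lpe (f65694 IH) (Lpr_at (f105263 IH) (Lpr_et (f105268 IH) (Lpn (LP (LK LD1_c12 LD2_c1 LD3_c60))))))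
theorem f66406 : Led Lsl_dt (LP (LK LD1_c6 LD2_c39 LD3_c42)) = (LP (LK LD1_c3 LD2_c17 LD3_c60)) :=
  Lre_d IH (LK LD1_c6 LD2_c39 LD3_c42) (LK LD1_c3 LD2_c17 LD3_c60) Lrfl Lrfl
theorem f63835 : Led Lsl_dt (LP (LK LD1_c6 LD2_c10 LD3_c45)) = (LP (LK LD1_c12 LD2_c1 LD3_c60)) :=
  Lre_d IH (LK LD1_c6 LD2_c10 LD3_c45) (LK LD1_c12 LD2_c1 LD3_c60) Lrfl Lrfl
theorem f105273 : Led Lsl_at (LP (LK LD1_c3 LD2_c17 LD3_c60)) = (LP (LK LD1_c6 LD2_c10 LD3_c45)) :=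
  Lgr Lrot51 (Lpe (f66406 IH) (Lpr_af (f105269 IH) (Lpe (f63835 IH) (Lpn (LP (LK LD1_c6 LD2_c10 LD3_c45))))))
theorem f63834 : Led Lsl_et (LP (LK LD1_c6 LD2_c10 LD3_c45)) = (LP (LK LD1_c3 LD2_c1 LD3_c60)) :=
  Lre_e IH (LK LD1_c6 LD2_c10 LD3_c45) (LK LD1_c3 LD2_c1 LD3_c60) Lrfl Lrfl
theorem f105305 : Led Lsl_af (LP (LK LD1_c1 LD2_c35 LD3_c30)) = (LP (LK LD1_c3 LD2_c1 LD3_c60)) :=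
  Lgr Lrot50 (Lpr_et (f65692 IH) (Lpr_at (f105273 IH) (Lpr_et (f63834 IH) (Lpn (LP (LK LD1_c3 LD2_c1 LD3_c60))))))
theorem f105311 : Led Lsl_ft (LP (LK LD1_c1 LD2_c35 LD3_c29)) = (LP (LK LD1_c3 LD2_c1 LD3_c60)) :=
  Lgr Lrot2 (Lpr_gt (K1.f64617 IH) (Lpr_gt (K1.f62193 IH) (Lpr_af (f105305 IH) (Lpn (LP (LK LD1_c3 LD2_c1 LD3_c60))))))
theorem f65230 : Led Lsl_et (LP (LK LD1_c3 LD2_c17 LD3_c59)) = (LP (LK LD1_c1 LD2_c35 LD3_c29)) :=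
  Lre_e IH (LK LD1_c3 LD2_c17 LD3_c59) (LK LD1_c1 LD2_c35 LD3_c29) Lrfl Lrfl
theorem f105319 : Led Lsl_ft (LP (LK LD1_c6 LD2_c39 LD3_c39)) = (LP (LK LD1_c3 LD2_c17 LD3_c59)) :=
  Lre_f IH (LK LD1_c6 LD2_c39 LD3_c39) (LK LD1_c3 LD2_c17 LD3_c59) Lrfl Lrfl
theorem f65095 : Led Lsl_et (LP (LK LD1_c3 LD2_c1 LD3_c60)) = (LP (LK LD1_c6 LD2_c10 LD3_c45)) :=
  Lre_e IH (LK LD1_c3 LD2_c1 LD3_c60) (LK LD1_c6 LD2_c10 LD3_c45) Lrfl Lrfl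
theorem f65063 : Led Lsl_ft (LP (LK LD1_c6 LD2_c10 LD3_c45)) = (LP (LK LD1_c12 LD2_c1 LD3_c61)) :=
  Lre_f IH (LK LD1_c6 LD2_c10 LD3_c45) (LK LD1_c12 LD2_c1 LD3_c61) Lrfl Lrfl
theorem f105320 : Led Lsl_ef (LP (LK LD1_c6 LD2_c39 LD3_c39)) = (LP (LK LD1_c12 LD2_c1 LD3_c61)) :=
  Lgr Lrot21 (Lpr_ft (f105319 IH) (Lpr_et (f65230 IH) (Lpr_ft (f105311 IH) (Lpr_et (f65095 IH) (Lpr_ft (f65063 IH) (Lpn (LP (LK LD1_c12 LD2_c1 LD3_c61))))))))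
theorem f105324 : Led Lsl_et (LP (LK LD1_c6 LD2_c39 LD3_c39)) = (LP (LK LD1_c12 LD2_c1 LD3_c61)) :=
  Lgr Lrot87 (Lpr_ef (f105320 IH) (Lpn (LP (LK LD1_c12 LD2_c1 LD3_c61))))
theorem f66414 : Led Lsl_ft (LP (LK LD1_c6 LD2_c39 LD3_c42)) = (LP (LK LD1_c12 LD2_c45 LD3_c17)) :=
  Lre_f IH (LK LD1_c6 LD2_c39 LD3_c42) (LK LD1_c12 LD2_c45 LD3_c17) Lrfl Lrfl
theorem f65085 : Led Lsl_ft (LP (LK LD1_c21 LD2_c7 LD3_c23)) = (LP (LK LD1_c12 LD2_c1 LD3_c60)) :=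
  Lre_f IH (LK LD1_c21 LD2_c7 LD3_c23) (LK LD1_c12 LD2_c1 LD3_c60) Lrfl Lrfl
theorem f105275 : Led Lsl_at (LP (LK LD1_c12 LD2_c45 LD3_c17)) = (LP (LK LD1_c21 LD2_c7 LD3_c23)) :=
  Lgr Lrot66 (Lpe (f66414 IH) (Lpr_af (f105269 IH) (Lpe (f65085 IH) (Lpn (LP (LK LD1_c21 LD2_c7 LD3_c23))))))
theorem f105284 : Led Lsl_dt (LP (LK LD1_c6 LD2_c39 LD3_c43)) = (LP (LK LD1_c12 LD2_c45 LD3_c17)) :=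
  Lre_d IH (LK LD1_c6 LD2_c39 LD3_c43) (LK LD1_c12 LD2_c45 LD3_c17) Lrfl Lrfl
theorem f65083 : Led Lsl_dt (LP (LK LD1_c21 LD2_c7 LD3_c23)) = (LP (LK LD1_c12 LD2_c1 LD3_c61)) :=
  Lre_d IH (LK LD1_c21 LD2_c7 LD3_c23) (LK LD1_c12 LD2_c1 LD3_c61) Lrfl Lrfl
theorem f105285 : Led Lsl_af (LP (LK LD1_c6 LD2_c39 LD3_c43)) = (LP (LK LD1_c12 LD2_c1 LD3_c61)) :=
  Lgr Lrot117 (Lpr_dt (f105284 IH) (Lpr_at (f105275 IH) (Lpr_dt (f65083 IH) (Lpn (LP (LK LD1_c12 LD2_c1 LD3_c61))))))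
theorem f87850 : Led Lsl_et (LP (LK LD1_c6 LD2_c10 LD3_c48)) = (LP (LK LD1_c3 LD2_c2 LD3_c1)) :=
  Lre_e IH (LK LD1_c6 LD2_c10 LD3_c48) (LK LD1_c3 LD2_c2 LD3_c1) Lrfl Lrfl
theorem f87870 : Led Lsl_ft (LP (LK LD1_c12 LD2_c2 LD3_c6)) = (LP (LK LD1_c6 LD2_c10 LD3_c48)) :=
  Lre_f IH (LK LD1_c12 LD2_c2 LD3_c6) (LK LD1_c6 LD2_c10 LD3_c48) Lrfl Lrfl
theorem f96031 : Led Lsl_ft (LP (LK LD1_c3 LD2_c17 LD3_c60)) = (LP (LK LD1_c6 LD2_c39 LD3_c43)) :=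
  Lre_f IH (LK LD1_c3 LD2_c17 LD3_c60) (LK LD1_c6 LD2_c39 LD3_c43) Lrfl Lrfl
theorem f96032 : Led Lsl_ef (LP (LK LD1_c12 LD2_c2 LD3_c6)) = (LP (LK LD1_c6 LD2_c39 LD3_c43)) :=
  Lgr Lrot21 (Lpr_ft (f87870 IH) (Lpr_et (f87850 IH) (Lpr_ft (f96024 IH) (Lpr_et (f65692 IH) (Lpr_ft (f96031 IH) (Lpn (LP (LK LD1_c6 LD2_c39 LD3_c43))))))))
theorem f105326 : Led Lsl_af (LP (LK LD1_c6 LD2_c39 LD3_c39)) = (LP (LK LD1_c12 LD2_c2 LD3_c6)) :=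
  Lgr Lrot50 (Lpr_et (f105324 IH) (Lpe (f105285 IH) (Lpe (f96032 IH) (Lpn (LP (LK LD1_c12 LD2_c2 LD3_c6))))))
theorem f87858 : Led Lsl_ft (LP (LK LD1_c6 LD2_c10 LD3_c48)) = (LP (LK LD1_c12 LD2_c2 LD3_c6)) :=
  Lre_f IH (LK LD1_c6 LD2_c10 LD3_c48) (LK LD1_c12 LD2_c2 LD3_c6) Lrfl Lrfl
theorem f105336 : Led Lsl_at (LP (LK LD1_c3 LD2_c17 LD3_c59)) = (LP (LK LD1_c6 LD2_c10 LD3_c48)) :=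
  Lgr Lrot66 (Lpe (f105319 IH) (Lpr_af (f105326 IH) (Lpe (f87858 IH) (Lpn (LP (LK LD1_c6 LD2_c10 LD3_c48))))))
theorem f65231 : Led Lsl_et (LP (LK LD1_c0 LD2_c52 LD3_c8)) = (LP (LK LD1_c1 LD2_c50 LD3_c29)) :=
  Lre_e IH (LK LD1_c0 LD2_c52 LD3_c8) (LK LD1_c1 LD2_c50 LD3_c29) Lrfl Lrfl
theorem f65232 : Led Lsl_cf (LP (LK LD1_c3 LD2_c17 LD3_c59)) = (LP (LK LD1_c1 LD2_c50 LD3_c29)) :=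
  Lgr Lrot39 (Lpr_et (f65230 IH) (Lpr_ct (K1.f65195 IH) (Lpr_et (f65231 IH) (Lpn (LP (LK LD1_c1 LD2_c50 LD3_c29))))))
theorem f64831 : Led Lsl_et (LP (LK LD1_c1 LD2_c41 LD3_c27)) = (LP (LK LD1_c3 LD2_c29 LD3_c27)) :=
  Lre_e IH (LK LD1_c1 LD2_c41 LD3_c27) (LK LD1_c3 LD2_c29 LD3_c27) Lrfl Lrfl
theorem f87851 : Led Lsl_ct (LP (LK LD1_c3 LD2_c29 LD3_c27)) = (LP (LK LD1_c6 LD2_c10 LD3_c48)) :=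
  Lgr Lrot15 (Lpe (f64831 IH) (Lpr_cf (f87808 IH) (Lpe (f87850 IH) (Lpn (LP (LK LD1_c6 LD2_c10 LD3_c48))))))
theorem f87854 : Led Lsl_cf (LP (LK LD1_c3 LD2_c29 LD3_c27)) = (LP (LK LD1_c6 LD2_c10 LD3_c48)) :=
  Lgr Lrot11 (Lpr_ct (f87851 IH) (Lpn (LP (LK LD1_c6 LD2_c10 LD3_c48))))
theorem f105343 : Led Lsl_af (LP (LK LD1_c1 LD2_c50 LD3_c29)) = (LP (LK LD1_c3 LD2_c29 LD3_c27)) :=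
  Lgr Lrot68 (Lpe (f65232 IH) (Lpr_at (f105336 IH) (Lpe (f87854 IH) (Lpn (LP (LK LD1_c3 LD2_c29 LD3_c27))))))
theorem f88296 : Led Lsl_et (LP (LK LD1_c1 LD2_c50 LD3_c29)) = (LP (LK LD1_c0 LD2_c52 LD3_c8)) :=
  Lre_e IH (LK LD1_c1 LD2_c50 LD3_c29) (LK LD1_c0 LD2_c52 LD3_c8) Lrfl Lrfl
theorem f105551 : Led Lsl_at (LP (LK LD1_c0 LD2_c52 LD3_c8)) = (LP (LK LD1_c1 LD2_c41 LD3_c27)) :=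
  Lgr Lrot80 (Lpe (f88296 IH) (Lpr_af (f105343 IH) (Lpe (f64831 IH) (Lpn (LP (LK LD1_c1 LD2_c41 LD3_c27))))))
theorem f105317 : Led Lsl_ff (LP (LK LD1_c0 LD2_c52 LD3_c8)) = (LP (LK LD1_c1 LD2_c41 LD3_c33)) :=
  Lgr Lrot23 (Lpe (f65228 IH) (Lpr_ft (f105311 IH) (Lpr_ct (f65009 IH) (Lpn (LP (LK LD1_c1 LD2_c41 LD3_c33))))))
theorem f105560 : Led Lsl_gt (LP (LK LD1_c1 LD2_c41 LD3_c33)) = (LP (LK LD1_c3 LD2_c29 LD3_c26)) :=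
  Lgr Lrot5 (Lpe (f105317 IH) (Lpr_at (f105551 IH) (Lpe (f87853 IH) (Lpn (LP (LK LD1_c3 LD2_c29 LD3_c26))))))
theorem f23276 : Led Lsl_dt (LP (LK LD1_c1 LD2_c35 LD3_c33)) = (LP (LK LD1_c0 LD2_c44 LD3_c22)) :=
  Lre_d IH (LK LD1_c1 LD2_c35 LD3_c33) (LK LD1_c0 LD2_c44 LD3_c22) Lrfl Lrfl
theorem f63820 : Led Lsl_gt (LP (LK LD1_c0 LD2_c44 LD3_c22)) = (LP (LK LD1_c1 LD2_c34 LD3_c51)) :=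
  Lre_g IH (LK LD1_c0 LD2_c44 LD3_c22) (LK LD1_c1 LD2_c34 LD3_c51) Lrfl Lrfl
theorem f93660 : Led Lsl_cf (LP (LK LD1_c1 LD2_c41 LD3_c3)) = (LP (LK LD1_c1 LD2_c34 LD3_c51)) :=
  Lgr Lrot11 (Lpr_ct (f93456 IH) (Lpn (LP (LK LD1_c1 LD2_c34 LD3_c51))))
theorem f104094 : Led Lsl_ct (LP (LK LD1_c1 LD2_c46 LD3_c3)) = (LP (LK LD1_c1 LD2_c35 LD3_c0)) :=
  Lgr Lrot59 (Lpr_cf (f103951 IH) (Lpn (LP (LK LD1_c1 LD2_c35 LD3_c0))))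
theorem f105562 : Led Lsl_gt (LP (LK LD1_c1 LD2_c41 LD3_c3)) = (LP (LK LD1_c1 LD2_c46 LD3_c3)) :=
  Lgr Lrot150 (Lpr_cf (f93660 IH) (Lpe (f63820 IH) (Lpe (f23276 IH) (Lpe (f63805 IH) (Lpr_ct (f65009 IH) (Lpr_gt (f105560 IH) (Lpr_ct (f96182 IH) (Lpr_df (f65992 IH) (Lpe (f104094 IH) (Lpn (LP (LK LD1_c1 LD2_c46 LD3_c3))))))))))))
theorem f88679 : Led Lsl_et (LP (LK LD1_c0 LD2_c47 LD3_c3)) = (LP (LK LD1_c0 LD2_c21 LD3_c3)) :=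
  Lre_e IH (LK LD1_c0 LD2_c47 LD3_c3) (LK LD1_c0 LD2_c21 LD3_c3) Lrfl Lrfl
theorem f85328 : Led Lsl_dt (LP (LK LD1_c0 LD2_c47 LD3_c3)) = (LP (LK LD1_c1 LD2_c41 LD3_c6)) :=
  Lre_d IH (LK LD1_c0 LD2_c47 LD3_c3) (LK LD1_c1 LD2_c41 LD3_c6) Lrfl Lrfl
theorem f95745 : Led Lsl_ef (LP (LK LD1_c0 LD2_c43 LD3_c4)) = (LP (LK LD1_c1 LD2_c31 LD3_c55)) :=
  Lgr Lrot17 (Lpr_gf (f95739 IH) (Lpr_ef (f85141 IH) (Lpr_dt (f85138 IH) (Lpe (f95730 IH) (Lpe (f17792 IH) (Lpe (K0.f9929 IH) (Lpe (f88679 IH) (Lpr_dt (f85328 IH) (Lpr_gf (f88972 IH) (Lpe (f86346 IH) (Lpn (LP (LK LD1_c1 LD2_c31 LD3_c55)))))))))))))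
theorem f95751 : Led Lsl_et (LP (LK LD1_c0 LD2_c43 LD3_c4)) = (LP (LK LD1_c1 LD2_c31 LD3_c55)) :=
  Lgr Lrot87 (Lpr_ef (f95745 IH) (Lpn (LP (LK LD1_c1 LD2_c31 LD3_c55))))
theorem f26217 : Led Lsl_dt (LP (LK LD1_c0 LD2_c49 LD3_c47)) = (LP (LK LD1_c1 LD2_c46 LD3_c3)) :=
  Lre_d IH (LK LD1_c0 LD2_c49 LD3_c47) (LK LD1_c1 LD2_c46 LD3_c3) Lrfl Lrfl
theorem f105609 : Led Lsl_ef (LP (LK LD1_c0 LD2_c48 LD3_c6)) = (LP (LK LD1_c0 LD2_c49 LD3_c47)) :=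
  Lgr Lrot167 (Lpe (K2.f87559 IH) (Lpe (f90565 IH) (Lpr_gt (f94119 IH) (Lpr_df (K2.f79132 IH) (Lpr_et (f95751 IH) (Lpr_gt (f86339 IH) (Lpr_ef (K2.f88666 IH) (Lpr_dt (f87663 IH) (Lpr_gt (f105562 IH) (Lpe (f26217 IH) (Lpn (LP (LK LD1_c0 LD2_c49 LD3_c47)))))))))))))
theorem f105617 : Led Lsl_et (LP (LK LD1_c0 LD2_c48 LD3_c6)) = (LP (LK LD1_c0 LD2_c49 LD3_c47)) :=
  Lgr Lrot87 (Lpr_ef (f105609 IH) (Lpn (LP (LK LD1_c0 LD2_c49 LD3_c47))))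
theorem f62961 : Led Lsl_dt (LP (LK LD1_c0 LD2_c44 LD3_c1)) = (LP (LK LD1_c0 LD2_c19 LD3_c39)) :=
  Lre_d IH (LK LD1_c0 LD2_c44 LD3_c1) (LK LD1_c0 LD2_c19 LD3_c39) Lrfl Lrfl
theorem f104106 : Led Lsl_gt (LP (LK LD1_c0 LD2_c49 LD3_c47)) = (LP (LK LD1_c0 LD2_c23 LD3_c16)) :=
  Lgr Lrot150 (Lpe (f392 IH) (Lpr_gf (f104100 IH) (Lpe (f62961 IH) (Lpe (K2.f91232 IH) (Lpr_ct (K0.f17790 IH) (Lpe (K2.f89299 IH) (Lpr_ct (K2.f64296 IH) (Lpr_df (f95967 IH) (Lpe (f85144 IH) (Lpn (LP (LK LD1_c0 LD2_c23 LD3_c16))))))))))))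
theorem f15032 : Led Lsl_bt (LP (LK LD1_c0 LD2_c45 LD3_c31)) = (LP (LK LD1_c0 LD2_c20 LD3_c21)) :=
  Lre_b IH (LK LD1_c0 LD2_c45 LD3_c31) (LK LD1_c0 LD2_c20 LD3_c21) Lrfl Lrfl
theorem f15029 : Led Lsl_gt (LP (LK LD1_c1 LD2_c38 LD3_c10)) = (LP (LK LD1_c3 LD2_c23 LD3_c5)) :=
  Lre_g IH (LK LD1_c1 LD2_c38 LD3_c10) (LK LD1_c3 LD2_c23 LD3_c5) Lrfl Lrfl
theorem f17661 : Led Lsl_dt (LP (LK LD1_c1 LD2_c42 LD3_c31)) = (LP (LK LD1_c0 LD2_c47 LD3_c48)) :=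
  Lre_d IH (LK LD1_c1 LD2_c42 LD3_c31) (LK LD1_c0 LD2_c47 LD3_c48) Lrfl Lrfl
theorem f90244 : Led Lsl_ct (LP (LK LD1_c3 LD2_c23 LD3_c5)) = (LP (LK LD1_c1 LD2_c42 LD3_c31)) :=
  Lgr Lrot110 (Lpe (f15029 IH) (Lpe (K2.f14636 IH) (Lpe (K2.f11880 IH) (Lpr_df (K2.f90230 IH) (Lpe (K1.f17653 IH) (Lpr_ct (K1.f17657 IH) (Lpr_gt (K1.f12690 IH) (Lpr_ct (K2.f12691 IH) (Lpe (f17661 IH) (Lpn (LP (LK LD1_c1 LD2_c42 LD3_c31))))))))))))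
theorem f90247 : Led Lsl_cf (LP (LK LD1_c3 LD2_c23 LD3_c5)) = (LP (LK LD1_c1 LD2_c42 LD3_c31)) :=
  Lgr Lrot11 (Lpr_ct (f90244 IH) (Lpn (LP (LK LD1_c1 LD2_c42 LD3_c31))))
theorem f77985 : Led Lsl_at (LP (LK LD1_c1 LD2_c7 LD3_c49)) = (LP (LK LD1_c2 LD2_c21 LD3_c0)) :=
  Lre_a IH (LK LD1_c1 LD2_c7 LD3_c49) (LK LD1_c2 LD2_c21 LD3_c0) Lrfl Lrfl
theorem f77852 : Led Lsl_at (LP (LK LD1_c1 LD2_c26 LD3_c53)) = (LP (LK LD1_c3 LD2_c1 LD3_c38)) :=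
  Lre_a IH (LK LD1_c1 LD2_c26 LD3_c53) (LK LD1_c3 LD2_c1 LD3_c38) Lrfl Lrfl
theorem f64521 : Led Lsl_ct (LP (LK LD1_c3 LD2_c1 LD3_c39)) = (LP (LK LD1_c1 LD2_c26 LD3_c53)) :=
  Lre_c IH (LK LD1_c3 LD2_c1 LD3_c39) (LK LD1_c1 LD2_c26 LD3_c53) Lrfl Lrfl
theorem f77889 : Led Lsl_at (LP (LK LD1_c2 LD2_c17 LD3_c11)) = (LP (LK LD1_c3 LD2_c1 LD3_c39)) :=
  Lgr Lrot107 (Lpr_cf (K2.f77886 IH) (Lpe (f77852 IH) (Lpe (f64521 IH) (Lpn (LP (LK LD1_c3 LD2_c1 LD3_c39))))))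
theorem f25029 : Led Lsl_et (LP (LK LD1_c3 LD2_c1 LD3_c39)) = (LP (LK LD1_c1 LD2_c26 LD3_c52)) :=
  Lre_e IH (LK LD1_c3 LD2_c1 LD3_c39) (LK LD1_c1 LD2_c26 LD3_c52) Lrfl Lrfl
theorem f77970 : Led Lsl_af (LP (LK LD1_c1 LD2_c5 LD3_c32)) = (LP (LK LD1_c1 LD2_c26 LD3_c52)) :=
  Lgr Lrot50 (Lpr_et (K2.f77877 IH) (Lpr_at (f77889 IH) (Lpr_et (f25029 IH) (Lpn (LP (LK LD1_c1 LD2_c26 LD3_c52))))))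
theorem f77986 : Led Lsl_dt (LP (LK LD1_c2 LD2_c21 LD3_c0)) = (LP (LK LD1_c1 LD2_c26 LD3_c52)) :=
  Lgr Lrot44 (Lpe (f77985 IH) (Lpr_df (K2.f77983 IH) (Lpr_af (f77970 IH) (Lpn (LP (LK LD1_c1 LD2_c26 LD3_c52))))))
theorem f17658 : Led Lsl_dt (LP (LK LD1_c0 LD2_c47 LD3_c48)) = (LP (LK LD1_c1 LD2_c42 LD3_c31)) :=
  Lre_d IH (LK LD1_c0 LD2_c47 LD3_c48) (LK LD1_c1 LD2_c42 LD3_c31) Lrfl Lrfl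
theorem f79606 : Led Lsl_bf (LP (LK LD1_c2 LD2_c21 LD3_c0)) = (LP (LK LD1_c1 LD2_c42 LD3_c31)) :=
  Lgr Lrot93 (Lpr_dt (f77986 IH) (Lpe (K2.f64404 IH) (Lpr_dt (f17658 IH) (Lpn (LP (LK LD1_c1 LD2_c42 LD3_c31))))))
theorem f104308 : Led Lsl_gf (LP (LK LD1_c1 LD2_c32 LD3_c31)) = (LP (LK LD1_c2 LD2_c21 LD3_c0)) :=
  Lgr Lrot181 (Lpr_ct (f104299 IH) (Lpr_gt (f90251 IH) (Lpe (f26006 IH) (Lpr_bt (f26005 IH) (Lpe (f57541 IH) (Lpe (f15032 IH) (Lpr_ct (K2.f14636 IH) (Lpr_gt (f15029 IH) (Lpr_cf (f90247 IH) (Lpe (f79606 IH) (Lpn (LP (LK LD1_c2 LD2_c21 LD3_c0)))))))))))))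
theorem f60957 : Led Lsl_ct (LP (LK LD1_c1 LD2_c6 LD3_c5)) = (LP (LK LD1_c0 LD2_c30 LD3_c13)) :=
  Lre_c IH (LK LD1_c1 LD2_c6 LD3_c5) (LK LD1_c0 LD2_c30 LD3_c13) Lrfl Lrfl
theorem f79608 : Led Lsl_df (LP (LK LD1_c2 LD2_c21 LD3_c0)) = (LP (LK LD1_c1 LD2_c26 LD3_c52)) :=
  Lgr Lrot38 (Lpr_dt (f77986 IH) (Lpn (LP (LK LD1_c1 LD2_c26 LD3_c52))))
theorem f57581 : Led Lsl_gt (LP (LK LD1_c0 LD2_c17 LD3_c59)) = (LP (LK LD1_c0 LD2_c40 LD3_c2)) :=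
  Lre_g IH (LK LD1_c0 LD2_c17 LD3_c59) (LK LD1_c0 LD2_c40 LD3_c2) Lrfl Lrfl
theorem f57584 : Led Lsl_ct (LP (LK LD1_c0 LD2_c40 LD3_c2)) = (LP (LK LD1_c1 LD2_c26 LD3_c32)) :=
  Lre_c IH (LK LD1_c0 LD2_c40 LD3_c2) (LK LD1_c1 LD2_c26 LD3_c32) Lrfl Lrfl
theorem f66644 : Led Lsl_gt (LP (LK LD1_c1 LD2_c26 LD3_c32)) = (LP (LK LD1_c0 LD2_c47 LD3_c1)) :=
  Lgr Lrot149 (Lpe (f57584 IH) (Lpe (f57581 IH) (Lpe (K2.f57570 IH) (Lpe (K1.f57563 IH) (Lpe (K0.f20926 IH) (Lpr_cf (K1.f26302 IH) (Lpr_bt (K1.f66638 IH) (Lpr_gf (K1.f17653 IH) (Lpe (K2.f17662 IH) (Lpr_ct (K2.f17666 IH) (Lpn (LP (LK LD1_c0 LD2_c47 LD3_c1)))))))))))))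
theorem f57578 : Led Lsl_bt (LP (LK LD1_c0 LD2_c13 LD3_c25)) = (LP (LK LD1_c0 LD2_c6 LD3_c7)) :=
  Lre_b IH (LK LD1_c0 LD2_c13 LD3_c25) (LK LD1_c0 LD2_c6 LD3_c7) Lrfl Lrfl
theorem f25116 : Led Lsl_bt (LP (LK LD1_c0 LD2_c8 LD3_c21)) = (LP (LK LD1_c0 LD2_c3 LD3_c49)) :=
  Lre_b IH (LK LD1_c0 LD2_c8 LD3_c21) (LK LD1_c0 LD2_c3 LD3_c49) Lrfl Lrfl
theorem f25761 : Led Lsl_ct (LP (LK LD1_c0 LD2_c13 LD3_c25)) = (LP (LK LD1_c0 LD2_c8 LD3_c21)) :=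
  Lgr Lrot83 (Lpe (K2.f7011 IH) (Lpe (K0.f7010 IH) (Lpr_bf (K0.f25735 IH) (Lpe (K1.f24968 IH) (Lpe (f25116 IH) (Lpn (LP (LK LD1_c0 LD2_c8 LD3_c21))))))))
theorem f57579 : Led Lsl_gt (LP (LK LD1_c0 LD2_c18 LD3_c34)) = (LP (LK LD1_c0 LD2_c8 LD3_c21)) :=
  Lre_g IH (LK LD1_c0 LD2_c18 LD3_c34) (LK LD1_c0 LD2_c8 LD3_c21) Lrfl Lrfl
theorem f57580 : Led Lsl_ct (LP (LK LD1_c0 LD2_c41 LD3_c32)) = (LP (LK LD1_c0 LD2_c18 LD3_c34)) :=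
  Lre_c IH (LK LD1_c0 LD2_c41 LD3_c32) (LK LD1_c0 LD2_c18 LD3_c34) Lrfl Lrfl
theorem f57582 : Led Lsl_bt (LP (LK LD1_c0 LD2_c41 LD3_c32)) = (LP (LK LD1_c0 LD2_c40 LD3_c2)) :=
  Lgr Lrot92 (Lpr_ct (f57580 IH) (Lpr_gt (f57579 IH) (Lpe (f25761 IH) (Lpr_bt (f57578 IH) (Lpr_gt (K0.f20963 IH) (Lpe (K1.f26302 IH) (Lpr_gt (K0.f20926 IH) (Lpr_cf (K1.f57563 IH) (Lpr_bt (K2.f57570 IH) (Lpr_gt (f57581 IH) (Lpn (LP (LK LD1_c0 LD2_c40 LD3_c2)))))))))))))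
theorem f57585 : Led Lsl_bf (LP (LK LD1_c0 LD2_c41 LD3_c32)) = (LP (LK LD1_c0 LD2_c40 LD3_c2)) :=
  Lgr Lrot24 (Lpr_bt (f57582 IH) (Lpn (LP (LK LD1_c0 LD2_c40 LD3_c2))))
theorem f66650 : Led Lsl_gf (LP (LK LD1_c0 LD2_c41 LD3_c32)) = (LP (LK LD1_c1 LD2_c26 LD3_c52)) :=
  Lgr Lrot124 (Lpr_bf (f57585 IH) (Lpr_ct (f57584 IH) (Lpr_gt (f66644 IH) (Lpe (K2.f17666 IH) (Lpr_bt (K2.f17662 IH) (Lpe (K1.f17653 IH) (Lpr_ct (K1.f17657 IH) (Lpr_gt (K1.f12690 IH) (Lpe (K2.f17665 IH) (Lpr_bt (K2.f64406 IH) (Lpn (LP (LK LD1_c1 LD2_c26 LD3_c52)))))))))))))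
theorem f104310 : Led Lsl_cf (LP (LK LD1_c0 LD2_c13 LD3_c25)) = (LP (LK LD1_c0 LD2_c8 LD3_c21)) :=
  Lgr Lrot99 (Lpe (K2.f60991 IH) (Lpe (f60957 IH) (Lpe (f90251 IH) (Lpe (f104299 IH) (Lpr_gf (f104308 IH) (Lpr_df (f79608 IH) (Lpe (f66650 IH) (Lpr_ct (f57580 IH) (Lpr_gt (f57579 IH) (Lpn (LP (LK LD1_c0 LD2_c8 LD3_c21))))))))))))
theorem f20970 : Led Lsl_gt (LP (LK LD1_c0 LD2_c30 LD3_c11)) = (LP (LK LD1_c0 LD2_c13 LD3_c25)) :=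
  Lre_g IH (LK LD1_c0 LD2_c30 LD3_c11) (LK LD1_c0 LD2_c13 LD3_c25) Lrfl Lrfl
theorem f104325 : Led Lsl_ct (LP (LK LD1_c1 LD2_c6 LD3_c0)) = (LP (LK LD1_c0 LD2_c30 LD3_c11)) :=
  Lre_c IH (LK LD1_c1 LD2_c6 LD3_c0) (LK LD1_c0 LD2_c30 LD3_c11) Lrfl Lrfl
theorem f104326 : Led Lsl_gf (LP (LK LD1_c1 LD2_c6 LD3_c0)) = (LP (LK LD1_c1 LD2_c26 LD3_c51)) :=
  Lgr Lrot181 (Lpr_ct (f104325 IH) (Lpr_gt (f20970 IH) (Lpr_cf (f104310 IH) (Lpr_bt (f25116 IH) (Lpr_gt (K0.f24960 IH) (Lpe (K2.f25098 IH) (Lpe (K2.f25088 IH) (Lpr_gt (K2.f25053 IH) (Lpe (K2.f25114 IH) (Lpr_bt (K2.f77822 IH) (Lpn (LP (LK LD1_c1 LD2_c26 LD3_c51)))))))))))))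
theorem f104332 : Led Lsl_ct (LP (LK LD1_c0 LD2_c30 LD3_c11)) = (LP (LK LD1_c1 LD2_c6 LD3_c0)) :=
  Lre_c IH (LK LD1_c0 LD2_c30 LD3_c11) (LK LD1_c1 LD2_c6 LD3_c0) Lrfl Lrfl
theorem f13677 : Led Lsl_bt (LP (LK LD1_c0 LD2_c29 LD3_c61)) = (LP (LK LD1_c0 LD2_c18 LD3_c1)) :=
  Lre_b IH (LK LD1_c0 LD2_c29 LD3_c61) (LK LD1_c0 LD2_c18 LD3_c1) Lrfl Lrfl
theorem f58203 : Led Lsl_ft (LP (LK LD1_c0 LD2_c18 LD3_c1)) = (LP (LK LD1_c0 LD2_c40 LD3_c7)) :=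
  Lre_f IH (LK LD1_c0 LD2_c18 LD3_c1) (LK LD1_c0 LD2_c40 LD3_c7) Lrfl Lrfl
theorem f58204 : Led Lsl_bt (LP (LK LD1_c0 LD2_c40 LD3_c7)) = (LP (LK LD1_c0 LD2_c41 LD3_c10)) :=
  Lgr Lrot35 (Lpe (f58203 IH) (Lpe (f13677 IH) (Lpr_ff (K1.f58185 IH) (Lpn (LP (LK LD1_c0 LD2_c41 LD3_c10))))))
theorem f62194 : Led Lsl_gt (LP (LK LD1_c0 LD2_c47 LD3_c0)) = (LP (LK LD1_c0 LD2_c21 LD3_c3)) :=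
  Lre_g IH (LK LD1_c0 LD2_c47 LD3_c0) (LK LD1_c0 LD2_c21 LD3_c3) Lrfl Lrfl
theorem f104333 : Led Lsl_bt (LP (LK LD1_c0 LD2_c30 LD3_c11)) = (LP (LK LD1_c0 LD2_c47 LD3_c0)) :=
  Lgr Lrot130 (Lpr_ct (f104332 IH) (Lpr_gf (f104326 IH) (Lpe (K2.f77875 IH) (Lpr_bt (K2.f13673 IH) (Lpr_gf (K2.f58212 IH) (Lpe (f58204 IH) (Lpr_ct (K1.f18890 IH) (Lpe (K1.f18904 IH) (Lpe (K1.f25023 IH) (Lpe (f62194 IH) (Lpn (LP (LK LD1_c0 LD2_c47 LD3_c0)))))))))))))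
theorem f104335 : Led Lsl_bf (LP (LK LD1_c0 LD2_c30 LD3_c11)) = (LP (LK LD1_c0 LD2_c47 LD3_c0)) :=
  Lgr Lrot24 (Lpr_bt (f104333 IH) (Lpn (LP (LK LD1_c0 LD2_c47 LD3_c0))))
theorem f96723 : Led Lsl_df (LP (LK LD1_c0 LD2_c47 LD3_c0)) = (LP (LK LD1_c1 LD2_c33 LD3_c9)) :=
  Lgr Lrot153 (Lpr_gt (f62194 IH) (Lpr_dt (K1.f17784 IH) (Lpr_cf (K1.f62010 IH) (Lpe (K2.f62184 IH) (Lpr_gf (K2.f87350 IH) (Lpe (f63116 IH) (Lpe (f59459 IH) (Lpr_cf (f95715 IH) (Lpr_gt (f96719 IH) (Lpn (LP (LK LD1_c1 LD2_c33 LD3_c9))))))))))))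
theorem f65559 : Led Lsl_bt (LP (LK LD1_c0 LD2_c43 LD3_c7)) = (LP (LK LD1_c1 LD2_c33 LD3_c9)) :=
  Lre_b IH (LK LD1_c0 LD2_c43 LD3_c7) (LK LD1_c1 LD2_c33 LD3_c9) Lrfl Lrfl
theorem f104337 : Led Lsl_dt (LP (LK LD1_c0 LD2_c30 LD3_c11)) = (LP (LK LD1_c0 LD2_c43 LD3_c7)) :=
  Lgr Lrot79 (Lpr_bf (f104335 IH) (Lpr_df (f96723 IH) (Lpe (f65559 IH) (Lpn (LP (LK LD1_c0 LD2_c43 LD3_c7))))))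
theorem f104340 : Led Lsl_df (LP (LK LD1_c0 LD2_c30 LD3_c11)) = (LP (LK LD1_c0 LD2_c43 LD3_c7)) :=
  Lgr Lrot38 (Lpr_dt (f104337 IH) (Lpn (LP (LK LD1_c0 LD2_c43 LD3_c7))))
theorem f104344 : Led Lsl_dt (LP (LK LD1_c0 LD2_c47 LD3_c0)) = (LP (LK LD1_c1 LD2_c33 LD3_c9)) :=
  Lgr Lrot79 (Lpe (f104333 IH) (Lpr_df (f104340 IH) (Lpe (f23456 IH) (Lpn (LP (LK LD1_c1 LD2_c33 LD3_c9))))))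
theorem f105625 : Led Lsl_ef (LP (LK LD1_c0 LD2_c23 LD3_c23)) = (LP (LK LD1_c0 LD2_c47 LD3_c0)) :=
  Lgr Lrot167 (Lpr_gt (K1.f62308 IH) (Lpr_dt (K1.f62858 IH) (Lpr_gt (f62931 IH) (Lpe (f87573 IH) (Lpr_et (f105617 IH) (Lpr_gt (f104106 IH) (Lpr_ef (f85141 IH) (Lpr_dt (f85138 IH) (Lpr_gt (f96719 IH) (Lpe (f104344 IH) (Lpn (LP (LK LD1_c0 LD2_c47 LD3_c0)))))))))))))
theorem f105632 : Led Lsl_et (LP (LK LD1_c0 LD2_c23 LD3_c23)) = (LP (LK LD1_c0 LD2_c47 LD3_c0)) :=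
  Lgr Lrot87 (Lpr_ef (f105625 IH) (Lpn (LP (LK LD1_c0 LD2_c47 LD3_c0))))
theorem f66455 : Led Lsl_et (LP (LK LD1_c0 LD2_c21 LD3_c7)) = (LP (LK LD1_c0 LD2_c47 LD3_c12)) :=
  Lre_e IH (LK LD1_c0 LD2_c21 LD3_c7) (LK LD1_c0 LD2_c47 LD3_c12) Lrfl Lrfl
theorem f12409 : Led Lsl_dt (LP (LK LD1_c0 LD2_c23 LD3_c22)) = (LP (LK LD1_c0 LD2_c51 LD3_c40)) :=
  Lre_d IH (LK LD1_c0 LD2_c23 LD3_c22) (LK LD1_c0 LD2_c51 LD3_c40) Lrfl Lrfl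
theorem f105642 : Led Lsl_gf (LP (LK LD1_c0 LD2_c47 LD3_c12)) = (LP (LK LD1_c0 LD2_c51 LD3_c41)) :=
  Lgr Lrot141 (Lpe (f66455 IH) (Lpr_dt (K2.f17778 IH) (Lpe (f93363 IH) (Lpe (K1.f62313 IH) (Lpr_et (f105632 IH) (Lpr_gt (f62194 IH) (Lpr_dt (K1.f17784 IH) (Lpe (K1.f66423 IH) (Lpe (f12409 IH) (Lpr_et (K1.f12413 IH) (Lpn (LP (LK LD1_c0 LD2_c51 LD3_c41)))))))))))))
theorem f88669 : Led Lsl_at (LP (LK LD1_c0 LD2_c21 LD3_c7)) = (LP (LK LD1_c0 LD2_c47 LD3_c4)) :=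
  Lre_a IH (LK LD1_c0 LD2_c21 LD3_c7) (LK LD1_c0 LD2_c47 LD3_c4) Lrfl Lrfl
theorem f88670 : Led Lsl_et (LP (LK LD1_c0 LD2_c47 LD3_c12)) = (LP (LK LD1_c0 LD2_c21 LD3_c7)) :=
  Lre_e IH (LK LD1_c0 LD2_c47 LD3_c12) (LK LD1_c0 LD2_c21 LD3_c7) Lrfl Lrfl
theorem f88671 : Led Lsl_at (LP (LK LD1_c0 LD2_c53 LD3_c18)) = (LP (LK LD1_c0 LD2_c47 LD3_c12)) :=
  Lgr Lrot80 (Lpr_ef (K2.f88666 IH) (Lpe (f88669 IH) (Lpe (f88670 IH) (Lpn (LP (LK LD1_c0 LD2_c47 LD3_c12))))))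
theorem f84998 : Led Lsl_ct (LP (LK LD1_c3 LD2_c28 LD3_c58)) = (LP (LK LD1_c1 LD2_c41 LD3_c13)) :=
  Lre_c IH (LK LD1_c3 LD2_c28 LD3_c58) (LK LD1_c1 LD2_c41 LD3_c13) Lrfl Lrfl
theorem f88757 : Led Lsl_dt (LP (LK LD1_c6 LD2_c59 LD3_c31)) = (LP (LK LD1_c3 LD2_c28 LD3_c58)) :=
  Lre_d IH (LK LD1_c6 LD2_c59 LD3_c31) (LK LD1_c3 LD2_c28 LD3_c58) Lrfl Lrfl
theorem f7409 : Led Lsl_dt (LP (LK LD1_c0 LD2_c47 LD3_c32)) = (LP (LK LD1_c1 LD2_c42 LD3_c6)) :=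
  Lre_d IH (LK LD1_c0 LD2_c47 LD3_c32) (LK LD1_c1 LD2_c42 LD3_c6) Lrfl Lrfl
theorem f7410 : Led Lsl_ct (LP (LK LD1_c1 LD2_c42 LD3_c6)) = (LP (LK LD1_c3 LD2_c31 LD3_c5)) :=
  Lre_c IH (LK LD1_c1 LD2_c42 LD3_c6) (LK LD1_c3 LD2_c31 LD3_c5) Lrfl Lrfl
theorem f88806 : Led Lsl_dt (LP (LK LD1_c3 LD2_c31 LD3_c5)) = (LP (LK LD1_c7 LD2_c4 LD3_c5)) :=
  Lre_d IH (LK LD1_c3 LD2_c31 LD3_c5) (LK LD1_c7 LD2_c4 LD3_c5) Lrfl Lrfl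
theorem f88807 : Led Lsl_cf (LP (LK LD1_c6 LD2_c59 LD3_c31)) = (LP (LK LD1_c7 LD2_c4 LD3_c5)) :=
  Lgr Lrot116 (Lpr_dt (f88757 IH) (Lpr_ct (f84998 IH) (Lpr_dt (f85000 IH) (Lpr_ct (f85006 IH) (Lpe (K2.f88653 IH) (Lpr_ff (K2.f88796 IH) (Lpr_dt (f7409 IH) (Lpr_ct (f7410 IH) (Lpr_dt (f88806 IH) (Lpn (LP (LK LD1_c7 LD2_c4 LD3_c5))))))))))))
theorem f57557 : Led Lsl_ct (LP (LK LD1_c1 LD2_c42 LD3_c5)) = (LP (LK LD1_c0 LD2_c47 LD3_c32)) :=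
  Lre_c IH (LK LD1_c1 LD2_c42 LD3_c5) (LK LD1_c0 LD2_c47 LD3_c32) Lrfl Lrfl
theorem f64517 : Led Lsl_dt (LP (LK LD1_c3 LD2_c31 LD3_c4)) = (LP (LK LD1_c1 LD2_c42 LD3_c5)) :=
  Lre_d IH (LK LD1_c3 LD2_c31 LD3_c4) (LK LD1_c1 LD2_c42 LD3_c5) Lrfl Lrfl
theorem f88818 : Led Lsl_ff (LP (LK LD1_c1 LD2_c53 LD3_c25)) = (LP (LK LD1_c3 LD2_c31 LD3_c4)) :=
  Lgr Lrot103 (Lpr_at (f88701 IH) (Lpe (f84998 IH) (Lpe (f88757 IH) (Lpr_cf (f88807 IH) (Lpe (f88806 IH) (Lpe (f7410 IH) (Lpe (f7409 IH) (Lpe (f57557 IH) (Lpe (f64517 IH) (Lpn (LP (LK LD1_c3 LD2_c31 LD3_c4))))))))))))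
theorem f88822 : Led Lsl_ft (LP (LK LD1_c1 LD2_c53 LD3_c25)) = (LP (LK LD1_c3 LD2_c31 LD3_c4)) :=
  Lgr Lrot48 (Lpr_ff (f88818 IH) (Lpn (LP (LK LD1_c3 LD2_c31 LD3_c4))))
theorem f88824 : Led Lsl_ff (LP (LK LD1_c0 LD2_c53 LD3_c18)) = (LP (LK LD1_c1 LD2_c42 LD3_c5)) :=
  Lgr Lrot19 (Lpr_dt (f18012 IH) (Lpr_ft (f88822 IH) (Lpr_dt (f64517 IH) (Lpn (LP (LK LD1_c1 LD2_c42 LD3_c5))))))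
theorem f105644 : Led Lsl_gt (LP (LK LD1_c1 LD2_c42 LD3_c5)) = (LP (LK LD1_c0 LD2_c51 LD3_c41)) :=
  Lgr Lrot5 (Lpe (f88824 IH) (Lpr_at (f88671 IH) (Lpr_gf (f105642 IH) (Lpn (LP (LK LD1_c0 LD2_c51 LD3_c41))))))
theorem f64516 : Led Lsl_ct (LP (LK LD1_c0 LD2_c47 LD3_c32)) = (LP (LK LD1_c1 LD2_c42 LD3_c5)) :=
  Lre_c IH (LK LD1_c0 LD2_c47 LD3_c32) (LK LD1_c1 LD2_c42 LD3_c5) Lrfl Lrfl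
theorem f93081 : Led Lsl_gt (LP (LK LD1_c0 LD2_c22 LD3_c10)) = (LP (LK LD1_c0 LD2_c9 LD3_c60)) :=
  Lre_g IH (LK LD1_c0 LD2_c22 LD3_c10) (LK LD1_c0 LD2_c9 LD3_c60) Lrfl Lrfl
theorem f94407 : Led Lsl_bt (LP (LK LD1_c0 LD2_c49 LD3_c29)) = (LP (LK LD1_c0 LD2_c22 LD3_c10)) :=
  Lre_b IH (LK LD1_c0 LD2_c49 LD3_c29) (LK LD1_c0 LD2_c22 LD3_c10) Lrfl Lrfl
theorem f105732 : Led Lsl_ct (LP (LK LD1_c0 LD2_c49 LD3_c29)) = (LP (LK LD1_c0 LD2_c51 LD3_c41)) :=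
  Lgr Lrot63 (Lpr_bt (f94407 IH) (Lpr_gt (f93081 IH) (Lpe (K2.f9963 IH) (Lpr_ct (K0.f9960 IH) (Lpe (K0.f10996 IH) (Lpe (K0.f7398 IH) (Lpr_bt (K2.f7407 IH) (Lpr_gt (K2.f7408 IH) (Lpr_ct (f64516 IH) (Lpr_gt (f105644 IH) (Lpn (LP (LK LD1_c0 LD2_c51 LD3_c41)))))))))))))
theorem f12558 : Led Lsl_et (LP (LK LD1_c0 LD2_c51 LD3_c41)) = (LP (LK LD1_c0 LD2_c23 LD3_c22)) :=
  Lre_e IH (LK LD1_c0 LD2_c51 LD3_c41) (LK LD1_c0 LD2_c23 LD3_c22) Lrfl Lrfl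
theorem f105738 : Led Lsl_ef (LP (LK LD1_c0 LD2_c49 LD3_c29)) = (LP (LK LD1_c0 LD2_c22 LD3_c31)) :=
  Lgr Lrot28 (Lpr_ct (f105732 IH) (Lpr_et (f12558 IH) (Lpr_ct (K0.f5827 IH) (Lpn (LP (LK LD1_c0 LD2_c22 LD3_c31))))))
theorem f105742 : Led Lsl_et (LP (LK LD1_c0 LD2_c49 LD3_c29)) = (LP (LK LD1_c0 LD2_c22 LD3_c31)) :=
  Lgr Lrot87 (Lpr_ef (f105738 IH) (Lpn (LP (LK LD1_c0 LD2_c22 LD3_c31))))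
theorem f94365 : Led Lsl_bt (LP (LK LD1_c0 LD2_c22 LD3_c10)) = (LP (LK LD1_c0 LD2_c49 LD3_c29)) :=
  Lre_b IH (LK LD1_c0 LD2_c22 LD3_c10) (LK LD1_c0 LD2_c49 LD3_c29) Lrfl Lrfl
theorem f105744 : Led Lsl_ef (LP (LK LD1_c0 LD2_c22 LD3_c10)) = (LP (LK LD1_c0 LD2_c10 LD3_c8)) :=
  Lgr Lrot29 (Lpr_bt (f94365 IH) (Lpr_et (f105742 IH) (Lpr_bt (K0.f5248 IH) (Lpn (LP (LK LD1_c0 LD2_c10 LD3_c8))))))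
theorem f105748 : Led Lsl_et (LP (LK LD1_c0 LD2_c10 LD3_c7)) = (LP (LK LD1_c0 LD2_c9 LD3_c56)) :=
  Lgr Lrot121 (Lpr_dt (f92518 IH) (Lpe (K2.f5900 IH) (Lpe (K0.f6100 IH) (Lpr_et (K0.f10258 IH) (Lpe (f93081 IH) (Lpr_ef (f105744 IH) (Lpe (K0.f17465 IH) (Lpe (K2.f10801 IH) (Lpe (K2.f10244 IH) (Lpr_gf (K2.f10294 IH) (Lpn (LP (LK LD1_c0 LD2_c9 LD3_c56)))))))))))))
theorem f10772 : Led Lsl_et (LP (LK LD1_c0 LD2_c22 LD3_c3)) = (LP (LK LD1_c0 LD2_c9 LD3_c57)) :=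
  Lre_e IH (LK LD1_c0 LD2_c22 LD3_c3) (LK LD1_c0 LD2_c9 LD3_c57) Lrfl Lrfl
theorem f10773 : Led Lsl_dt (LP (LK LD1_c0 LD2_c22 LD3_c3)) = (LP (LK LD1_c0 LD2_c49 LD3_c11)) :=
  Lre_d IH (LK LD1_c0 LD2_c22 LD3_c3) (LK LD1_c0 LD2_c49 LD3_c11) Lrfl Lrfl
theorem f105758 : Led Lsl_gf (LP (LK LD1_c0 LD2_c49 LD3_c11)) = (LP (LK LD1_c0 LD2_c48 LD3_c15)) :=
  Lgr Lrot145 (Lpe (f10773 IH) (Lpr_et (f10772 IH) (Lpr_gt (K0.f6101 IH) (Lpr_dt (K0.f6100 IH) (Lpr_gt (K2.f5900 IH) (Lpe (f92518 IH) (Lpr_et (f105748 IH) (Lpe (K2.f10294 IH) (Lpe (K0.f10307 IH) (Lpr_dt (K0.f10308 IH) (Lpn (LP (LK LD1_c0 LD2_c48 LD3_c15)))))))))))))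
theorem f17727 : Led Lsl_dt (LP (LK LD1_c0 LD2_c49 LD3_c11)) = (LP (LK LD1_c0 LD2_c22 LD3_c3)) :=
  Lre_d IH (LK LD1_c0 LD2_c49 LD3_c11) (LK LD1_c0 LD2_c22 LD3_c3) Lrfl Lrfl
theorem f10939 : Led Lsl_ct (LP (LK LD1_c0 LD2_c49 LD3_c33)) = (LP (LK LD1_c1 LD2_c45 LD3_c48)) :=
  Lre_c IH (LK LD1_c0 LD2_c49 LD3_c33) (LK LD1_c1 LD2_c45 LD3_c48) Lrfl Lrfl
theorem f18004 : Led Lsl_dt (LP (LK LD1_c3 LD2_c37 LD3_c56)) = (LP (LK LD1_c1 LD2_c45 LD3_c48)) :=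
  Lre_d IH (LK LD1_c3 LD2_c37 LD3_c56) (LK LD1_c1 LD2_c45 LD3_c48) Lrfl Lrfl
theorem f10405 : Led Lsl_gt (LP (LK LD1_c1 LD2_c43 LD3_c14)) = (LP (LK LD1_c3 LD2_c32 LD3_c57)) :=
  Lre_g IH (LK LD1_c1 LD2_c43 LD3_c14) (LK LD1_c3 LD2_c32 LD3_c57) Lrfl Lrfl
theorem f10718 : Led Lsl_dt (LP (LK LD1_c3 LD2_c32 LD3_c57)) = (LP (LK LD1_c7 LD2_c6 LD3_c51)) :=
  Lre_d IH (LK LD1_c3 LD2_c32 LD3_c57) (LK LD1_c7 LD2_c6 LD3_c51) Lrfl Lrfl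
theorem f105760 : Led Lsl_gf (LP (LK LD1_c3 LD2_c37 LD3_c56)) = (LP (LK LD1_c7 LD2_c6 LD3_c51)) :=
  Lgr Lrot143 (Lpr_dt (f18004 IH) (Lpe (f10939 IH) (Lpe (K0.f10314 IH) (Lpr_gf (f18002 IH) (Lpe (f17727 IH) (Lpr_gf (f105758 IH) (Lpe (K0.f10391 IH) (Lpr_gt (f10405 IH) (Lpr_dt (f10718 IH) (Lpn (LP (LK LD1_c7 LD2_c6 LD3_c51))))))))))))
theorem f10337 : Led Lsl_dt (LP (LK LD1_c0 LD2_c49 LD3_c33)) = (LP (LK LD1_c0 LD2_c22 LD3_c12)) :=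
  Lre_d IH (LK LD1_c0 LD2_c49 LD3_c33) (LK LD1_c0 LD2_c22 LD3_c12) Lrfl Lrfl
theorem f19760 : Led Lsl_ft (LP (LK LD1_c0 LD2_c49 LD3_c33)) = (LP (LK LD1_c0 LD2_c22 LD3_c11)) :=
  Lre_f IH (LK LD1_c0 LD2_c49 LD3_c33) (LK LD1_c0 LD2_c22 LD3_c11) Lrfl Lrfl
theorem f10090 : Led Lsl_at (LP (LK LD1_c0 LD2_c22 LD3_c11)) = (LP (LK LD1_c0 LD2_c49 LD3_c14)) :=
  Lre_a IH (LK LD1_c0 LD2_c22 LD3_c11) (LK LD1_c0 LD2_c49 LD3_c14) Lrfl Lrfl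
theorem f10883 : Led Lsl_ct (LP (LK LD1_c1 LD2_c45 LD3_c5)) = (LP (LK LD1_c0 LD2_c49 LD3_c14)) :=
  Lre_c IH (LK LD1_c1 LD2_c45 LD3_c5) (LK LD1_c0 LD2_c49 LD3_c14) Lrfl Lrfl
theorem f10910 : Led Lsl_dt (LP (LK LD1_c3 LD2_c36 LD3_c30)) = (LP (LK LD1_c1 LD2_c45 LD3_c5)) :=
  Lre_d IH (LK LD1_c3 LD2_c36 LD3_c30) (LK LD1_c1 LD2_c45 LD3_c5) Lrfl Lrfl
theorem f19759 : Led Lsl_dt (LP (LK LD1_c1 LD2_c45 LD3_c48)) = (LP (LK LD1_c3 LD2_c37 LD3_c56)) :=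
  Lre_d IH (LK LD1_c1 LD2_c45 LD3_c48) (LK LD1_c3 LD2_c37 LD3_c56) Lrfl Lrfl
theorem f19761 : Led Lsl_cf (LP (LK LD1_c3 LD2_c36 LD3_c30)) = (LP (LK LD1_c3 LD2_c37 LD3_c56)) :=
  Lgr Lrot161 (Lpr_dt (f10910 IH) (Lpr_ct (f10883 IH) (Lpe (f10090 IH) (Lpe (f19760 IH) (Lpr_dt (f10337 IH) (Lpr_ct (K0.f19755 IH) (Lpr_dt (K0.f10314 IH) (Lpr_ct (f10939 IH) (Lpr_dt (f19759 IH) (Lpn (LP (LK LD1_c3 LD2_c37 LD3_c56))))))))))))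
theorem f19773 : Led Lsl_at (LP (LK LD1_c3 LD2_c36 LD3_c30)) = (LP (LK LD1_c1 LD2_c45 LD3_c47)) :=
  Lre_a IH (LK LD1_c3 LD2_c36 LD3_c30) (LK LD1_c1 LD2_c45 LD3_c47) Lrfl Lrfl
theorem f19774 : Led Lsl_ct (LP (LK LD1_c1 LD2_c45 LD3_c47)) = (LP (LK LD1_c3 LD2_c37 LD3_c54)) :=
  Lre_c IH (LK LD1_c1 LD2_c45 LD3_c47) (LK LD1_c3 LD2_c37 LD3_c54) Lrfl Lrfl
theorem f19775 : Led Lsl_at (LP (LK LD1_c3 LD2_c37 LD3_c54)) = (LP (LK LD1_c3 LD2_c37 LD3_c56)) :=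
  Lgr Lrot107 (Lpe (f19774 IH) (Lpe (f19773 IH) (Lpr_cf (f19761 IH) (Lpn (LP (LK LD1_c3 LD2_c37 LD3_c56))))))
theorem f19787 : Led Lsl_ft (LP (LK LD1_c1 LD2_c45 LD3_c47)) = (LP (LK LD1_c3 LD2_c37 LD3_c56)) :=
  Lre_f IH (LK LD1_c1 LD2_c45 LD3_c47) (LK LD1_c3 LD2_c37 LD3_c56) Lrfl Lrfl
theorem f19788 : Led Lsl_ct (LP (LK LD1_c3 LD2_c37 LD3_c54)) = (LP (LK LD1_c1 LD2_c45 LD3_c47)) :=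
  Lre_c IH (LK LD1_c3 LD2_c37 LD3_c54) (LK LD1_c1 LD2_c45 LD3_c47) Lrfl Lrfl
theorem f19789 : Led Lsl_ft (LP (LK LD1_c3 LD2_c36 LD3_c30)) = (LP (LK LD1_c3 LD2_c37 LD3_c54)) :=
  Lgr Lrot4 (Lpr_cf (f19761 IH) (Lpe (f19787 IH) (Lpe (f19788 IH) (Lpn (LP (LK LD1_c3 LD2_c37 LD3_c54))))))
theorem f105845 : Led Lsl_gt (LP (LK LD1_c3 LD2_c36 LD3_c30)) = (LP (LK LD1_c7 LD2_c6 LD3_c51)) :=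
  Lgr Lrot5 (Lpr_ft (f19789 IH) (Lpr_at (f19775 IH) (Lpr_gf (f105760 IH) (Lpn (LP (LK LD1_c7 LD2_c6 LD3_c51))))))
theorem f105847 : Led Lsl_dt (LP (LK LD1_c7 LD2_c6 LD3_c51)) = (LP (LK LD1_c3 LD2_c32 LD3_c57)) :=
  Lre_d IH (LK LD1_c7 LD2_c6 LD3_c51) (LK LD1_c3 LD2_c32 LD3_c57) Lrfl Lrfl
theorem f19778 : Led Lsl_ct (LP (LK LD1_c3 LD2_c36 LD3_c30)) = (LP (LK LD1_c3 LD2_c37 LD3_c56)) :=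
  Lgr Lrot59 (Lpr_cf (f19761 IH) (Lpn (LP (LK LD1_c3 LD2_c37 LD3_c56))))
theorem f18014 : Led Lsl_dt (LP (LK LD1_c0 LD2_c23 LD3_c61)) = (LP (LK LD1_c0 LD2_c10 LD3_c43)) :=
  Lre_d IH (LK LD1_c0 LD2_c23 LD3_c61) (LK LD1_c0 LD2_c10 LD3_c43) Lrfl Lrfl
theorem f17764 : Led Lsl_dt (LP (LK LD1_c0 LD2_c49 LD3_c6)) = (LP (LK LD1_c1 LD2_c44 LD3_c52)) :=
  Lre_d IH (LK LD1_c0 LD2_c49 LD3_c6) (LK LD1_c1 LD2_c44 LD3_c52) Lrfl Lrfl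
theorem f85295 : Led Lsl_ct (LP (LK LD1_c0 LD2_c47 LD3_c6)) = (LP (LK LD1_c1 LD2_c41 LD3_c8)) :=
  Lre_c IH (LK LD1_c0 LD2_c47 LD3_c6) (LK LD1_c1 LD2_c41 LD3_c8) Lrfl Lrfl
theorem f85292 : Led Lsl_gt (LP (LK LD1_c1 LD2_c41 LD3_c8)) = (LP (LK LD1_c3 LD2_c28 LD3_c47)) :=
  Lre_g IH (LK LD1_c1 LD2_c41 LD3_c8) (LK LD1_c3 LD2_c28 LD3_c47) Lrfl Lrfl
theorem f85601 : Led Lsl_cf (LP (LK LD1_c1 LD2_c44 LD3_c52)) = (LP (LK LD1_c3 LD2_c28 LD3_c47)) :=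
  Lgr Lrot99 (Lpe (f17764 IH) (Lpr_cf (K0.f17746 IH) (Lpe (f18006 IH) (Lpe (K2.f10993 IH) (Lpe (K2.f7426 IH) (Lpe (f18014 IH) (Lpr_gt (f85286 IH) (Lpr_ct (f85295 IH) (Lpr_gt (f85292 IH) (Lpn (LP (LK LD1_c3 LD2_c28 LD3_c47))))))))))))
theorem f86695 : Led Lsl_ct (LP (LK LD1_c1 LD2_c44 LD3_c52)) = (LP (LK LD1_c3 LD2_c28 LD3_c47)) :=
  Lgr Lrot59 (Lpr_cf (f85601 IH) (Lpn (LP (LK LD1_c3 LD2_c28 LD3_c47))))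
theorem f86690 : Led Lsl_bt (LP (LK LD1_c1 LD2_c44 LD3_c52)) = (LP (LK LD1_c0 LD2_c49 LD3_c11)) :=
  Lre_b IH (LK LD1_c1 LD2_c44 LD3_c52) (LK LD1_c0 LD2_c49 LD3_c11) Lrfl Lrfl
theorem f10378 : Led Lsl_bt (LP (LK LD1_c0 LD2_c21 LD3_c54)) = (LP (LK LD1_c0 LD2_c48 LD3_c38)) :=
  Lre_b IH (LK LD1_c0 LD2_c21 LD3_c54) (LK LD1_c0 LD2_c48 LD3_c38) Lrfl Lrfl
theorem f86709 : Led Lsl_gt (LP (LK LD1_c0 LD2_c49 LD3_c11)) = (LP (LK LD1_c0 LD2_c48 LD3_c38)) :=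
  Lgr Lrot164 (Lpe (f86690 IH) (Lpr_ct (f86695 IH) (Lpe (f85292 IH) (Lpe (f85295 IH) (Lpe (f85286 IH) (Lpe (f11114 IH) (Lpr_ct (f7418 IH) (Lpr_gf (f11893 IH) (Lpe (K0.f9968 IH) (Lpr_bt (f10378 IH) (Lpn (LP (LK LD1_c0 LD2_c48 LD3_c38)))))))))))))
theorem f86715 : Led Lsl_gf (LP (LK LD1_c0 LD2_c22 LD3_c21)) = (LP (LK LD1_c0 LD2_c22 LD3_c12)) :=
  Lgr Lrot138 (Lpr_dt (f4454 IH) (Lpe (f17965 IH) (Lpe (K0.f10308 IH) (Lpr_et (K0.f10307 IH) (Lpr_gt (K0.f10755 IH) (Lpe (f10772 IH) (Lpr_dt (f10773 IH) (Lpr_gt (f86709 IH) (Lpe (K0.f10318 IH) (Lpr_et (K0.f10292 IH) (Lpn (LP (LK LD1_c0 LD2_c22 LD3_c12)))))))))))))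
theorem f10443 : Led Lsl_at (LP (LK LD1_c0 LD2_c9 LD3_c60)) = (LP (LK LD1_c0 LD2_c22 LD3_c5)) :=
  Lre_a IH (LK LD1_c0 LD2_c9 LD3_c60) (LK LD1_c0 LD2_c22 LD3_c5) Lrfl Lrfl
theorem f86717 : Led Lsl_gt (LP (LK LD1_c0 LD2_c22 LD3_c21)) = (LP (LK LD1_c0 LD2_c22 LD3_c5)) :=
  Lgr Lrot46 (Lpr_gf (f86715 IH) (Lpr_ft (K0.f10291 IH) (Lpr_at (f10443 IH) (Lpn (LP (LK LD1_c0 LD2_c22 LD3_c5))))))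
theorem f17974 : Led Lsl_dt (LP (LK LD1_c0 LD2_c49 LD3_c46)) = (LP (LK LD1_c0 LD2_c22 LD3_c21)) :=
  Lre_d IH (LK LD1_c0 LD2_c49 LD3_c46) (LK LD1_c0 LD2_c22 LD3_c21) Lrfl Lrfl
theorem f10987 : Led Lsl_gt (LP (LK LD1_c1 LD2_c44 LD3_c9)) = (LP (LK LD1_c3 LD2_c32 LD3_c58)) :=
  Lre_g IH (LK LD1_c1 LD2_c44 LD3_c9) (LK LD1_c3 LD2_c32 LD3_c58) Lrfl Lrfl
theorem f10988 : Led Lsl_dt (LP (LK LD1_c3 LD2_c32 LD3_c58)) = (LP (LK LD1_c7 LD2_c6 LD3_c53)) :=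
  Lre_d IH (LK LD1_c3 LD2_c32 LD3_c58) (LK LD1_c7 LD2_c6 LD3_c53) Lrfl Lrfl
theorem f10281 : Led Lsl_dt (LP (LK LD1_c0 LD2_c22 LD3_c5)) = (LP (LK LD1_c0 LD2_c49 LD3_c14)) :=
  Lre_d IH (LK LD1_c0 LD2_c22 LD3_c5) (LK LD1_c0 LD2_c49 LD3_c14) Lrfl Lrfl
theorem f86863 : Led Lsl_gt (LP (LK LD1_c7 LD2_c6 LD3_c53)) = (LP (LK LD1_c3 LD2_c36 LD3_c30)) :=
  Lgr Lrot49 (Lpe (f10988 IH) (Lpe (f10987 IH) (Lpe (K0.f11506 IH) (Lpr_gt (f17969 IH) (Lpr_dt (f17974 IH) (Lpr_gt (f86717 IH) (Lpr_dt (f10281 IH) (Lpe (f10883 IH) (Lpe (f10910 IH) (Lpn (LP (LK LD1_c3 LD2_c36 LD3_c30))))))))))))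
theorem f19764 : Led Lsl_at (LP (LK LD1_c1 LD2_c45 LD3_c47)) = (LP (LK LD1_c3 LD2_c36 LD3_c30)) :=
  Lre_a IH (LK LD1_c1 LD2_c45 LD3_c47) (LK LD1_c3 LD2_c36 LD3_c30) Lrfl Lrfl
theorem f19763 : Led Lsl_ft (LP (LK LD1_c3 LD2_c37 LD3_c56)) = (LP (LK LD1_c1 LD2_c45 LD3_c47)) :=
  Lre_f IH (LK LD1_c3 LD2_c37 LD3_c56) (LK LD1_c1 LD2_c45 LD3_c47) Lrfl Lrfl
theorem f86865 : Led Lsl_gf (LP (LK LD1_c7 LD2_c6 LD3_c53)) = (LP (LK LD1_c3 LD2_c37 LD3_c56)) :=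
  Lgr Lrot47 (Lpr_gt (f86863 IH) (Lpe (f19764 IH) (Lpe (f19763 IH) (Lpn (LP (LK LD1_c3 LD2_c37 LD3_c56))))))
theorem f19460 : Led Lsl_dt (LP (LK LD1_c7 LD2_c6 LD3_c53)) = (LP (LK LD1_c3 LD2_c32 LD3_c58)) :=
  Lre_d IH (LK LD1_c7 LD2_c6 LD3_c53) (LK LD1_c3 LD2_c32 LD3_c58) Lrfl Lrfl
theorem f10406 : Led Lsl_gt (LP (LK LD1_c3 LD2_c32 LD3_c58)) = (LP (LK LD1_c1 LD2_c43 LD3_c14)) :=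
  Lre_g IH (LK LD1_c3 LD2_c32 LD3_c58) (LK LD1_c1 LD2_c43 LD3_c14) Lrfl Lrfl
theorem f105855 : Led Lsl_gf (LP (LK LD1_c1 LD2_c44 LD3_c9)) = (LP (LK LD1_c3 LD2_c32 LD3_c57)) :=
  Lgr Lrot143 (Lpr_dt (K0.f19431 IH) (Lpr_cf (K0.f19445 IH) (Lpe (K0.f17973 IH) (Lpe (f10406 IH) (Lpe (f19460 IH) (Lpr_gf (f86865 IH) (Lpe (f19778 IH) (Lpr_gt (f105845 IH) (Lpr_dt (f105847 IH) (Lpn (LP (LK LD1_c3 LD2_c32 LD3_c57))))))))))))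
theorem f17972 : Led Lsl_ct (LP (LK LD1_c0 LD2_c49 LD3_c46)) = (LP (LK LD1_c1 LD2_c46 LD3_c2)) :=
  Lre_c IH (LK LD1_c0 LD2_c49 LD3_c46) (LK LD1_c1 LD2_c46 LD3_c2) Lrfl Lrfl
theorem f17997 : Led Lsl_dt (LP (LK LD1_c1 LD2_c46 LD3_c2)) = (LP (LK LD1_c3 LD2_c38 LD3_c10)) :=
  Lre_d IH (LK LD1_c1 LD2_c46 LD3_c2) (LK LD1_c3 LD2_c38 LD3_c10) Lrfl Lrfl
theorem f105857 : Led Lsl_cf (LP (LK LD1_c3 LD2_c38 LD3_c10)) = (LP (LK LD1_c7 LD2_c6 LD3_c51)) :=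
  Lgr Lrot99 (Lpe (f17997 IH) (Lpe (f17972 IH) (Lpe (f17969 IH) (Lpe (K0.f17994 IH) (Lpr_gf (f105855 IH) (Lpe (f105847 IH) (Lpe (f105760 IH) (Lpe (f19761 IH) (Lpr_gt (f105845 IH) (Lpn (LP (LK LD1_c7 LD2_c6 LD3_c51))))))))))))
theorem f17996 : Led Lsl_dt (LP (LK LD1_c3 LD2_c38 LD3_c10)) = (LP (LK LD1_c1 LD2_c46 LD3_c2)) :=
  Lre_d IH (LK LD1_c3 LD2_c38 LD3_c10) (LK LD1_c1 LD2_c46 LD3_c2) Lrfl Lrfl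
theorem f17971 : Led Lsl_ct (LP (LK LD1_c1 LD2_c46 LD3_c2)) = (LP (LK LD1_c0 LD2_c49 LD3_c46)) :=
  Lre_c IH (LK LD1_c1 LD2_c46 LD3_c2) (LK LD1_c0 LD2_c49 LD3_c46) Lrfl Lrfl
theorem f17995 : Led Lsl_ct (LP (LK LD1_c0 LD2_c22 LD3_c21)) = (LP (LK LD1_c0 LD2_c49 LD3_c45)) :=
  Lre_c IH (LK LD1_c0 LD2_c22 LD3_c21) (LK LD1_c0 LD2_c49 LD3_c45) Lrfl Lrfl
theorem f86719 : Led Lsl_dt (LP (LK LD1_c0 LD2_c49 LD3_c45)) = (LP (LK LD1_c1 LD2_c46 LD3_c1)) :=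
  Lre_d IH (LK LD1_c0 LD2_c49 LD3_c45) (LK LD1_c1 LD2_c46 LD3_c1) Lrfl Lrfl
theorem f86722 : Led Lsl_bt (LP (LK LD1_c0 LD2_c49 LD3_c42)) = (LP (LK LD1_c0 LD2_c22 LD3_c21)) :=
  Lre_b IH (LK LD1_c0 LD2_c49 LD3_c42) (LK LD1_c0 LD2_c22 LD3_c21) Lrfl Lrfl
theorem f86723 : Led Lsl_ct (LP (LK LD1_c0 LD2_c49 LD3_c42)) = (LP (LK LD1_c0 LD2_c51 LD3_c5)) :=
  Lre_c IH (LK LD1_c0 LD2_c49 LD3_c42) (LK LD1_c0 LD2_c51 LD3_c5) Lrfl Lrfl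
theorem f12161 : Led Lsl_bt (LP (LK LD1_c0 LD2_c20 LD3_c40)) = (LP (LK LD1_c0 LD2_c9 LD3_c22)) :=
  Lre_b IH (LK LD1_c0 LD2_c20 LD3_c40) (LK LD1_c0 LD2_c9 LD3_c22) Lrfl Lrfl
theorem f86724 : Led Lsl_gt (LP (LK LD1_c0 LD2_c51 LD3_c5)) = (LP (LK LD1_c0 LD2_c45 LD3_c2)) :=
  Lgr Lrot65 (Lpe (f86723 IH) (Lpr_bt (f86722 IH) (Lpr_gf (f86715 IH) (Lpe (K0.f9981 IH) (Lpr_ct (K0.f9964 IH) (Lpr_gf (K0.f10989 IH) (Lpe (K0.f7398 IH) (Lpe (K0.f12155 IH) (Lpe (f12161 IH) (Lpe (K2.f84285 IH) (Lpn (LP (LK LD1_c0 LD2_c45 LD3_c2)))))))))))))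
theorem f86731 : Led Lsl_bt (LP (LK LD1_c1 LD2_c48 LD3_c35)) = (LP (LK LD1_c0 LD2_c51 LD3_c5)) :=
  Lre_b IH (LK LD1_c1 LD2_c48 LD3_c35) (LK LD1_c0 LD2_c51 LD3_c5) Lrfl Lrfl
theorem f86730 : Led Lsl_ct (LP (LK LD1_c1 LD2_c48 LD3_c35)) = (LP (LK LD1_c1 LD2_c45 LD3_c61)) :=
  Lre_c IH (LK LD1_c1 LD2_c48 LD3_c35) (LK LD1_c1 LD2_c45 LD3_c61) Lrfl Lrfl
theorem f84326 : Led Lsl_et (LP (LK LD1_c0 LD2_c19 LD3_c59)) = (LP (LK LD1_c0 LD2_c9 LD3_c5)) :=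
  Lgr Lrot87 (Lpr_ef (K2.f84290 IH) (Lpn (LP (LK LD1_c0 LD2_c9 LD3_c5))))
theorem f7369 : Led Lsl_bt (LP (LK LD1_c0 LD2_c9 LD3_c5)) = (LP (LK LD1_c0 LD2_c20 LD3_c10)) :=
  Lre_b IH (LK LD1_c0 LD2_c9 LD3_c5) (LK LD1_c0 LD2_c20 LD3_c10) Lrfl Lrfl
theorem f84333 : Led Lsl_ef (LP (LK LD1_c0 LD2_c45 LD3_c2)) = (LP (LK LD1_c0 LD2_c20 LD3_c10)) :=
  Lgr Lrot29 (Lpr_bt (K2.f84284 IH) (Lpr_et (f84326 IH) (Lpr_bt (f7369 IH) (Lpn (LP (LK LD1_c0 LD2_c20 LD3_c10))))))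
theorem f84606 : Led Lsl_et (LP (LK LD1_c0 LD2_c20 LD3_c40)) = (LP (LK LD1_c0 LD2_c9 LD3_c21)) :=
  Lre_e IH (LK LD1_c0 LD2_c20 LD3_c40) (LK LD1_c0 LD2_c9 LD3_c21) Lrfl Lrfl
theorem f84607 : Led Lsl_ct (LP (LK LD1_c0 LD2_c45 LD3_c2)) = (LP (LK LD1_c0 LD2_c20 LD3_c40)) :=
  Lgr Lrot15 (Lpr_ef (f84333 IH) (Lpe (K2.f20019 IH) (Lpe (f84606 IH) (Lpn (LP (LK LD1_c0 LD2_c20 LD3_c40))))))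
theorem f7387 : Led Lsl_et (LP (LK LD1_c0 LD2_c4 LD3_c18)) = (LP (LK LD1_c0 LD2_c9 LD3_c14)) :=
  Lre_e IH (LK LD1_c0 LD2_c4 LD3_c18) (LK LD1_c0 LD2_c9 LD3_c14) Lrfl Lrfl
theorem f12621 : Led Lsl_gt (LP (LK LD1_c0 LD2_c4 LD3_c23)) = (LP (LK LD1_c0 LD2_c9 LD3_c14)) :=
  Lgr Lrot131 (Lpe (K0.f12619 IH) (Lpr_dt (K0.f3827 IH) (Lpr_gf (K0.f12337 IH) (Lpe (K0.f5863 IH) (Lpr_gf (K0.f11874 IH) (Lpr_ef (K1.f3955 IH) (Lpe (K0.f3818 IH) (Lpe (K0.f11013 IH) (Lpe (K0.f168 IH) (Lpr_et (f7387 IH) (Lpn (LP (LK LD1_c0 LD2_c9 LD3_c14)))))))))))))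
theorem f7335 : Led Lsl_bt (LP (LK LD1_c0 LD2_c20 LD3_c3)) = (LP (LK LD1_c0 LD2_c9 LD3_c14)) :=
  Lre_b IH (LK LD1_c0 LD2_c20 LD3_c3) (LK LD1_c0 LD2_c9 LD3_c14) Lrfl Lrfl
theorem f9711 : Led Lsl_af (LP (LK LD1_c0 LD2_c9 LD3_c14)) = (LP (LK LD1_c0 LD2_c9 LD3_c14)) :=
  Lgr Lrot36 (Lpr_bt (K0.f7334 IH) (Lpe (K0.f9677 IH) (Lpr_bt (K0.f9709 IH) (Lpr_at (K0.f9679 IH) (Lpr_bt (f7335 IH) (Lpn (LP (LK LD1_c0 LD2_c9 LD3_c14))))))))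
theorem f12623 : Led Lsl_gf (LP (LK LD1_c0 LD2_c4 LD3_c23)) = (LP (LK LD1_c0 LD2_c4 LD3_c29)) :=
  Lgr Lrot47 (Lpr_gt (f12621 IH) (Lpr_af (f9711 IH) (Lpe (K0.f11910 IH) (Lpn (LP (LK LD1_c0 LD2_c4 LD3_c29))))))
theorem f12159 : Led Lsl_ct (LP (LK LD1_c0 LD2_c9 LD3_c22)) = (LP (LK LD1_c0 LD2_c4 LD3_c23)) :=
  Lre_c IH (LK LD1_c0 LD2_c9 LD3_c22) (LK LD1_c0 LD2_c4 LD3_c23) Lrfl Lrfl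
theorem f17704 : Led Lsl_ct (LP (LK LD1_c0 LD2_c49 LD3_c8)) = (LP (LK LD1_c0 LD2_c22 LD3_c3)) :=
  Lre_c IH (LK LD1_c0 LD2_c49 LD3_c8) (LK LD1_c0 LD2_c22 LD3_c3) Lrfl Lrfl
theorem f19765 : Led Lsl_gt (LP (LK LD1_c0 LD2_c20 LD3_c40)) = (LP (LK LD1_c0 LD2_c45 LD3_c54)) :=
  Lgr Lrot164 (Lpe (K2.f12632 IH) (Lpr_ct (f12159 IH) (Lpr_gf (f12623 IH) (Lpe (K0.f9868 IH) (Lpr_gf (K0.f11476 IH) (Lpe (K0.f10111 IH) (Lpr_ct (K0.f19755 IH) (Lpr_gf (f18002 IH) (Lpe (f17704 IH) (Lpe (K0.f17701 IH) (Lpn (LP (LK LD1_c0 LD2_c45 LD3_c54)))))))))))))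
theorem f17703 : Led Lsl_ct (LP (LK LD1_c1 LD2_c38 LD3_c59)) = (LP (LK LD1_c0 LD2_c45 LD3_c54)) :=
  Lre_c IH (LK LD1_c1 LD2_c38 LD3_c59) (LK LD1_c0 LD2_c45 LD3_c54) Lrfl Lrfl
theorem f84615 : Led Lsl_gf (LP (LK LD1_c0 LD2_c53 LD3_c20)) = (LP (LK LD1_c1 LD2_c40 LD3_c60)) :=
  Lgr Lrot181 (Lpr_ct (K2.f84294 IH) (Lpr_gt (K2.f10008 IH) (Lpe (K2.f12165 IH) (Lpr_bt (K2.f84293 IH) (Lpr_gt (K2.f10992 IH) (Lpe (K2.f84284 IH) (Lpr_ct (f84607 IH) (Lpr_gt (f19765 IH) (Lpe (f17703 IH) (Lpr_bt (K0.f17741 IH) (Lpn (LP (LK LD1_c1 LD2_c40 LD3_c60)))))))))))))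
theorem f84297 : Led Lsl_bf (LP (LK LD1_c0 LD2_c53 LD3_c20)) = (LP (LK LD1_c1 LD2_c32 LD3_c10)) :=
  Lgr Lrot24 (Lpr_bt (K2.f84295 IH) (Lpn (LP (LK LD1_c1 LD2_c32 LD3_c10))))
theorem f86739 : Led Lsl_gf (LP (LK LD1_c1 LD2_c45 LD3_c61)) = (LP (LK LD1_c3 LD2_c11 LD3_c38)) :=
  Lgr Lrot126 (Lpe (f86730 IH) (Lpr_bt (f86731 IH) (Lpr_gt (f86724 IH) (Lpr_ct (f84607 IH) (Lpr_gt (f19765 IH) (Lpe (f17703 IH) (Lpr_bt (K0.f17741 IH) (Lpe (f84615 IH) (Lpr_bf (f84297 IH) (Lpr_ct (K2.f83506 IH) (Lpn (LP (LK LD1_c3 LD2_c11 LD3_c38)))))))))))))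
theorem f76763 : Led Lsl_ct (LP (LK LD1_c0 LD2_c46 LD3_c59)) = (LP (LK LD1_c1 LD2_c40 LD3_c54)) :=
  Lre_c IH (LK LD1_c0 LD2_c46 LD3_c59) (LK LD1_c1 LD2_c40 LD3_c54) Lrfl Lrfl
theorem f76764 : Led Lsl_dt (LP (LK LD1_c1 LD2_c40 LD3_c57)) = (LP (LK LD1_c0 LD2_c46 LD3_c59)) :=
  Lre_d IH (LK LD1_c1 LD2_c40 LD3_c57) (LK LD1_c0 LD2_c46 LD3_c59) Lrfl Lrfl
theorem f76783 : Led Lsl_gt (LP (LK LD1_c3 LD2_c28 LD3_c29)) = (LP (LK LD1_c1 LD2_c40 LD3_c57)) :=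
  Lre_g IH (LK LD1_c3 LD2_c28 LD3_c29) (LK LD1_c1 LD2_c40 LD3_c57) Lrfl Lrfl
theorem f86745 : Led Lsl_dt (LP (LK LD1_c1 LD2_c45 LD3_c61)) = (LP (LK LD1_c3 LD2_c28 LD3_c29)) :=
  Lgr Lrot57 (Lpr_gf (f86739 IH) (Lpe (K2.f83506 IH) (Lpe (K2.f68108 IH) (Lpr_dt (K2.f83497 IH) (Lpe (K2.f83503 IH) (Lpr_dt (f76766 IH) (Lpe (f76763 IH) (Lpe (f76764 IH) (Lpe (f76783 IH) (Lpn (LP (LK LD1_c3 LD2_c28 LD3_c29))))))))))))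
theorem f86732 : Led Lsl_et (LP (LK LD1_c0 LD2_c49 LD3_c43)) = (LP (LK LD1_c1 LD2_c45 LD3_c61)) :=
  Lre_e IH (LK LD1_c0 LD2_c49 LD3_c43) (LK LD1_c1 LD2_c45 LD3_c61) Lrfl Lrfl
theorem f86820 : Led Lsl_dt (LP (LK LD1_c1 LD2_c45 LD3_c60)) = (LP (LK LD1_c0 LD2_c49 LD3_c43)) :=
  Lre_d IH (LK LD1_c1 LD2_c45 LD3_c60) (LK LD1_c0 LD2_c49 LD3_c43) Lrfl Lrfl
theorem f86821 : Led Lsl_et (LP (LK LD1_c3 LD2_c38 LD3_c5)) = (LP (LK LD1_c1 LD2_c45 LD3_c60)) :=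
  Lre_e IH (LK LD1_c3 LD2_c38 LD3_c5) (LK LD1_c1 LD2_c45 LD3_c60) Lrfl Lrfl
theorem f86822 : Led Lsl_et (LP (LK LD1_c3 LD2_c28 LD3_c29)) = (LP (LK LD1_c6 LD2_c58 LD3_c56)) :=
  Lre_e IH (LK LD1_c3 LD2_c28 LD3_c29) (LK LD1_c6 LD2_c58 LD3_c56) Lrfl Lrfl
theorem f86823 : Led Lsl_df (LP (LK LD1_c3 LD2_c38 LD3_c5)) = (LP (LK LD1_c6 LD2_c58 LD3_c56)) :=
  Lgr Lrot70 (Lpr_et (f86821 IH) (Lpr_dt (f86820 IH) (Lpr_et (f86732 IH) (Lpr_dt (f86745 IH) (Lpr_et (f86822 IH) (Lpn (LP (LK LD1_c6 LD2_c58 LD3_c56))))))))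
theorem f86830 : Led Lsl_dt (LP (LK LD1_c3 LD2_c38 LD3_c5)) = (LP (LK LD1_c6 LD2_c58 LD3_c56)) :=
  Lgr Lrot42 (Lpr_df (f86823 IH) (Lpn (LP (LK LD1_c6 LD2_c58 LD3_c56))))
theorem f86835 : Led Lsl_dt (LP (LK LD1_c3 LD2_c38 LD3_c7)) = (LP (LK LD1_c1 LD2_c46 LD3_c0)) :=
  Lre_d IH (LK LD1_c3 LD2_c38 LD3_c7) (LK LD1_c1 LD2_c46 LD3_c0) Lrfl Lrfl
theorem f86836 : Led Lsl_bf (LP (LK LD1_c3 LD2_c38 LD3_c7)) = (LP (LK LD1_c6 LD2_c58 LD3_c56)) :=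
  Lgr Lrot93 (Lpr_dt (f86835 IH) (Lpr_bt (f86834 IH) (Lpr_dt (f86830 IH) (Lpn (LP (LK LD1_c6 LD2_c58 LD3_c56))))))
theorem f86839 : Led Lsl_et (LP (LK LD1_c3 LD2_c38 LD3_c7)) = (LP (LK LD1_c1 LD2_c46 LD3_c1)) :=
  Lre_e IH (LK LD1_c3 LD2_c38 LD3_c7) (LK LD1_c1 LD2_c46 LD3_c1) Lrfl Lrfl
theorem f86840 : Led Lsl_bt (LP (LK LD1_c1 LD2_c46 LD3_c1)) = (LP (LK LD1_c3 LD2_c28 LD3_c29)) :=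
  Lgr Lrot119 (Lpe (f86839 IH) (Lpr_bf (f86836 IH) (Lpe (f86822 IH) (Lpn (LP (LK LD1_c3 LD2_c28 LD3_c29))))))
theorem f19406 : Led Lsl_bt (LP (LK LD1_c0 LD2_c47 LD3_c6)) = (LP (LK LD1_c1 LD2_c40 LD3_c57)) :=
  Lre_b IH (LK LD1_c0 LD2_c47 LD3_c6) (LK LD1_c1 LD2_c40 LD3_c57) Lrfl Lrfl
theorem f86844 : Led Lsl_ct (LP (LK LD1_c1 LD2_c46 LD3_c1)) = (LP (LK LD1_c3 LD2_c32 LD3_c58)) :=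
  Lgr Lrot63 (Lpr_bt (f86840 IH) (Lpr_gt (f76783 IH) (Lpe (f19406 IH) (Lpr_ct (f85295 IH) (Lpr_gt (f85292 IH) (Lpe (f86695 IH) (Lpr_bt (f86690 IH) (Lpr_gt (f86709 IH) (Lpr_ct (K0.f11506 IH) (Lpr_gt (f10987 IH) (Lpn (LP (LK LD1_c3 LD2_c32 LD3_c58)))))))))))))
theorem f86691 : Led Lsl_ct (LP (LK LD1_c0 LD2_c49 LD3_c11)) = (LP (LK LD1_c1 LD2_c44 LD3_c60)) :=
  Lre_c IH (LK LD1_c0 LD2_c49 LD3_c11) (LK LD1_c1 LD2_c44 LD3_c60) Lrfl Lrfl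
theorem f105762 : Led Lsl_dt (LP (LK LD1_c1 LD2_c44 LD3_c60)) = (LP (LK LD1_c3 LD2_c36 LD3_c16)) :=
  Lre_d IH (LK LD1_c1 LD2_c44 LD3_c60) (LK LD1_c3 LD2_c36 LD3_c16) Lrfl Lrfl
theorem f105763 : Led Lsl_cf (LP (LK LD1_c3 LD2_c36 LD3_c16)) = (LP (LK LD1_c7 LD2_c6 LD3_c53)) :=
  Lgr Lrot99 (Lpe (f105762 IH) (Lpe (f86691 IH) (Lpr_gf (f105758 IH) (Lpe (K0.f10391 IH) (Lpe (f10406 IH) (Lpe (f19460 IH) (Lpr_gt (f86863 IH) (Lpr_ct (f19778 IH) (Lpe (f86865 IH) (Lpn (LP (LK LD1_c7 LD2_c6 LD3_c53))))))))))))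
theorem f105765 : Led Lsl_dt (LP (LK LD1_c3 LD2_c36 LD3_c16)) = (LP (LK LD1_c1 LD2_c44 LD3_c60)) :=
  Lre_d IH (LK LD1_c3 LD2_c36 LD3_c16) (LK LD1_c1 LD2_c44 LD3_c60) Lrfl Lrfl
theorem f86705 : Led Lsl_ct (LP (LK LD1_c1 LD2_c44 LD3_c60)) = (LP (LK LD1_c0 LD2_c49 LD3_c11)) :=
  Lre_c IH (LK LD1_c1 LD2_c44 LD3_c60) (LK LD1_c0 LD2_c49 LD3_c11) Lrfl Lrfl
theorem f17707 : Led Lsl_dt (LP (LK LD1_c0 LD2_c49 LD3_c8)) = (LP (LK LD1_c1 LD2_c44 LD3_c54)) :=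
  Lre_d IH (LK LD1_c0 LD2_c49 LD3_c8) (LK LD1_c1 LD2_c44 LD3_c54) Lrfl Lrfl
theorem f105883 : Led Lsl_ct (LP (LK LD1_c1 LD2_c44 LD3_c54)) = (LP (LK LD1_c3 LD2_c32 LD3_c57)) :=
  Lgr Lrot176 (Lpe (f17707 IH) (Lpe (K0.f17723 IH) (Lpe (f17727 IH) (Lpe (f86705 IH) (Lpe (f105765 IH) (Lpr_cf (f105763 IH) (Lpe (f10988 IH) (Lpe (f86844 IH) (Lpe (f86719 IH) (Lpe (f17995 IH) (Lpe (f17974 IH) (Lpe (f17971 IH) (Lpe (f17996 IH) (Lpr_cf (f105857 IH) (Lpe (f10718 IH) (Lpn (LP (LK LD1_c3 LD2_c32 LD3_c57))))))))))))))))))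
theorem f105923 : Led Lsl_cf (LP (LK LD1_c1 LD2_c44 LD3_c54)) = (LP (LK LD1_c3 LD2_c32 LD3_c57)) :=
  Lgr Lrot11 (Lpr_ct (f105883 IH) (Lpn (LP (LK LD1_c3 LD2_c32 LD3_c57))))
theorem f17720 : Led Lsl_dt (LP (LK LD1_c1 LD2_c44 LD3_c54)) = (LP (LK LD1_c0 LD2_c49 LD3_c8)) :=
  Lre_d IH (LK LD1_c1 LD2_c44 LD3_c54) (LK LD1_c0 LD2_c49 LD3_c8) Lrfl Lrfl
theorem f10446 : Led Lsl_dt (LP (LK LD1_c0 LD2_c49 LD3_c14)) = (LP (LK LD1_c0 LD2_c22 LD3_c5)) :=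
  Lre_d IH (LK LD1_c0 LD2_c49 LD3_c14) (LK LD1_c0 LD2_c22 LD3_c5) Lrfl Lrfl
theorem f18005 : Led Lsl_ct (LP (LK LD1_c1 LD2_c45 LD3_c48)) = (LP (LK LD1_c0 LD2_c49 LD3_c33)) :=
  Lre_c IH (LK LD1_c1 LD2_c45 LD3_c48) (LK LD1_c0 LD2_c49 LD3_c33) Lrfl Lrfl
theorem f19780 : Led Lsl_dt (LP (LK LD1_c1 LD2_c45 LD3_c5)) = (LP (LK LD1_c3 LD2_c36 LD3_c30)) :=
  Lre_d IH (LK LD1_c1 LD2_c45 LD3_c5) (LK LD1_c3 LD2_c36 LD3_c30) Lrfl Lrfl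
theorem f10882 : Led Lsl_ct (LP (LK LD1_c0 LD2_c49 LD3_c14)) = (LP (LK LD1_c1 LD2_c45 LD3_c5)) :=
  Lre_c IH (LK LD1_c0 LD2_c49 LD3_c14) (LK LD1_c1 LD2_c45 LD3_c5) Lrfl Lrfl
theorem f19781 : Led Lsl_ct (LP (LK LD1_c0 LD2_c22 LD3_c5)) = (LP (LK LD1_c0 LD2_c22 LD3_c5)) :=
  Lgr Lrot176 (Lpe (f10446 IH) (Lpe (f10883 IH) (Lpe (f10910 IH) (Lpr_cf (f19761 IH) (Lpe (f19759 IH) (Lpe (f10939 IH) (Lpe (K0.f10314 IH) (Lpe (K0.f19755 IH) (Lpe (f10337 IH) (Lpe (f18005 IH) (Lpe (f18004 IH) (Lpe (f19778 IH) (Lpe (f19780 IH) (Lpe (f10882 IH) (Lpe (f10281 IH) (Lpn (LP (LK LD1_c0 LD2_c22 LD3_c5))))))))))))))))))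
theorem f105928 : Led Lsl_gf (LP (LK LD1_c0 LD2_c22 LD3_c3)) = (LP (LK LD1_c0 LD2_c22 LD3_c5)) :=
  Lgr Lrot104 (Lpr_ct (K0.f17723 IH) (Lpe (f17720 IH) (Lpr_cf (f105923 IH) (Lpe (f10405 IH) (Lpe (K0.f10393 IH) (Lpr_gf (f17965 IH) (Lpe (f4454 IH) (Lpr_gt (f86717 IH) (Lpr_ct (f19781 IH) (Lpn (LP (LK LD1_c0 LD2_c22 LD3_c5))))))))))))
theorem f84319 : Led Lsl_bt (LP (LK LD1_c0 LD2_c23 LD3_c60)) = (LP (LK LD1_c0 LD2_c53 LD3_c19)) :=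
  Lre_b IH (LK LD1_c0 LD2_c23 LD3_c60) (LK LD1_c0 LD2_c53 LD3_c19) Lrfl Lrfl
theorem f10440 : Led Lsl_et (LP (LK LD1_c0 LD2_c9 LD3_c58)) = (LP (LK LD1_c0 LD2_c22 LD3_c5)) :=
  Lre_e IH (LK LD1_c0 LD2_c9 LD3_c58) (LK LD1_c0 LD2_c22 LD3_c5) Lrfl Lrfl
theorem f10280 : Led Lsl_et (LP (LK LD1_c0 LD2_c22 LD3_c5)) = (LP (LK LD1_c0 LD2_c9 LD3_c58)) :=
  Lre_e IH (LK LD1_c0 LD2_c22 LD3_c5) (LK LD1_c0 LD2_c9 LD3_c58) Lrfl Lrfl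
theorem f10441 : Led Lsl_bt (LP (LK LD1_c0 LD2_c22 LD3_c5)) = (LP (LK LD1_c0 LD2_c22 LD3_c5)) :=
  Lgr Lrot119 (Lpe (f10440 IH) (Lpr_bf (f10436 IH) (Lpe (f10280 IH) (Lpn (LP (LK LD1_c0 LD2_c22 LD3_c5))))))
theorem f17992 : Led Lsl_ct (LP (LK LD1_c0 LD2_c49 LD3_c45)) = (LP (LK LD1_c0 LD2_c22 LD3_c21)) :=
  Lre_c IH (LK LD1_c0 LD2_c49 LD3_c45) (LK LD1_c0 LD2_c22 LD3_c21) Lrfl Lrfl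
theorem f105934 : Led Lsl_gt (LP (LK LD1_c0 LD2_c53 LD3_c19)) = (LP (LK LD1_c0 LD2_c49 LD3_c45)) :=
  Lgr Lrot82 (Lpe (f84319 IH) (Lpr_ct (K2.f84299 IH) (Lpr_gf (f84615 IH) (Lpe (K0.f17762 IH) (Lpr_bt (K0.f17724 IH) (Lpr_gf (f105928 IH) (Lpe (f10441 IH) (Lpr_ct (f19781 IH) (Lpe (f86717 IH) (Lpe (f17992 IH) (Lpn (LP (LK LD1_c0 LD2_c49 LD3_c45)))))))))))))
theorem f85007 : Led Lsl_bt (LP (LK LD1_c0 LD2_c47 LD3_c9)) = (LP (LK LD1_c0 LD2_c21 LD3_c8)) :=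
  Lre_b IH (LK LD1_c0 LD2_c47 LD3_c9) (LK LD1_c0 LD2_c21 LD3_c8) Lrfl Lrfl
theorem f88784 : Led Lsl_ft (LP (LK LD1_c0 LD2_c53 LD3_c19)) = (LP (LK LD1_c0 LD2_c47 LD3_c9)) :=
  Lgr Lrot75 (Lpe (f84319 IH) (Lpr_ff (K2.f88782 IH) (Lpe (f85007 IH) (Lpn (LP (LK LD1_c0 LD2_c47 LD3_c9))))))
theorem f89123 : Led Lsl_at (LP (LK LD1_c0 LD2_c47 LD3_c9)) = (LP (LK LD1_c1 LD2_c41 LD3_c10)) :=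
  Lre_a IH (LK LD1_c0 LD2_c47 LD3_c9) (LK LD1_c1 LD2_c41 LD3_c10) Lrfl Lrfl
theorem f105936 : Led Lsl_gf (LP (LK LD1_c1 LD2_c41 LD3_c10)) = (LP (LK LD1_c0 LD2_c49 LD3_c45)) :=
  Lgr Lrot76 (Lpe (f89123 IH) (Lpe (f88784 IH) (Lpr_gt (f105934 IH) (Lpn (LP (LK LD1_c0 LD2_c49 LD3_c45))))))
theorem f5259 : Led Lsl_dt (LP (LK LD1_c0 LD2_c49 LD3_c48)) = (LP (LK LD1_c0 LD2_c22 LD3_c23)) :=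
  Lre_d IH (LK LD1_c0 LD2_c49 LD3_c48) (LK LD1_c0 LD2_c22 LD3_c23) Lrfl Lrfl
theorem f10269 : Led Lsl_ct (LP (LK LD1_c0 LD2_c21 LD3_c30)) = (LP (LK LD1_c0 LD2_c9 LD3_c43)) :=
  Lre_c IH (LK LD1_c0 LD2_c21 LD3_c30) (LK LD1_c0 LD2_c9 LD3_c43) Lrfl Lrfl
theorem f97312 : Led Lsl_gf (LP (LK LD1_c0 LD2_c49 LD3_c48)) = (LP (LK LD1_c0 LD2_c52 LD3_c36)) :=
  Lgr Lrot143 (Lpr_dt (f5259 IH) (Lpe (f5257 IH) (Lpr_df (f97306 IH) (Lpr_gf (f10459 IH) (Lpe (f10266 IH) (Lpe (K2.f10264 IH) (Lpe (f10269 IH) (Lpr_gt (K2.f84720 IH) (Lpr_dt (f87146 IH) (Lpn (LP (LK LD1_c0 LD2_c52 LD3_c36))))))))))))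
theorem f5258 : Led Lsl_dt (LP (LK LD1_c0 LD2_c22 LD3_c23)) = (LP (LK LD1_c0 LD2_c49 LD3_c48)) :=
  Lre_d IH (LK LD1_c0 LD2_c22 LD3_c23) (LK LD1_c0 LD2_c49 LD3_c48) Lrfl Lrfl
theorem f98015 : Led Lsl_et (LP (LK LD1_c0 LD2_c22 LD3_c20)) = (LP (LK LD1_c0 LD2_c49 LD3_c45)) :=
  Lre_e IH (LK LD1_c0 LD2_c22 LD3_c20) (LK LD1_c0 LD2_c49 LD3_c45) Lrfl Lrfl
theorem f98009 : Led Lsl_gt (LP (LK LD1_c0 LD2_c52 LD3_c11)) = (LP (LK LD1_c0 LD2_c49 LD3_c44)) :=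
  Lgr Lrot5 (Lpr_ft (K2.f88468 IH) (Lpr_at (f87153 IH) (Lpr_gf (f97909 IH) (Lpn (LP (LK LD1_c0 LD2_c49 LD3_c44))))))
theorem f105955 : Led Lsl_et (LP (LK LD1_c0 LD2_c22 LD3_c23)) = (LP (LK LD1_c0 LD2_c21 LD3_c34)) :=
  Lgr Lrot121 (Lpr_dt (f5258 IH) (Lpr_gf (f97312 IH) (Lpe (f87146 IH) (Lpr_et (f19374 IH) (Lpr_gf (f105936 IH) (Lpe (f98015 IH) (Lpr_dt (f387 IH) (Lpe (f98009 IH) (Lpr_df (K2.f88473 IH) (Lpe (K2.f84691 IH) (Lpn (LP (LK LD1_c0 LD2_c21 LD3_c34)))))))))))))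
theorem f105963 : Led Lsl_ef (LP (LK LD1_c0 LD2_c22 LD3_c23)) = (LP (LK LD1_c0 LD2_c21 LD3_c34)) :=
  Lgr Lrot88 (Lpr_et (f105955 IH) (Lpn (LP (LK LD1_c0 LD2_c21 LD3_c34))))
theorem f105995 : Led Lsl_et (LP (LK LD1_c0 LD2_c10 LD3_c3)) = (LP (LK LD1_c0 LD2_c9 LD3_c44)) :=
  Lgr Lrot158 (Lpe (f385 IH) (Lpr_ef (f105963 IH) (Lpe (K2.f10781 IH) (Lpn (LP (LK LD1_c0 LD2_c9 LD3_c44))))))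
theorem f97310 : Led Lsl_dt (LP (LK LD1_c0 LD2_c10 LD3_c3)) = (LP (LK LD1_c0 LD2_c21 LD3_c39)) :=
  Lgr Lrot42 (Lpr_df (f97306 IH) (Lpn (LP (LK LD1_c0 LD2_c21 LD3_c39))))
theorem f10275 : Led Lsl_et (LP (LK LD1_c0 LD2_c21 LD3_c32)) = (LP (LK LD1_c0 LD2_c9 LD3_c43)) :=
  Lre_e IH (LK LD1_c0 LD2_c21 LD3_c32) (LK LD1_c0 LD2_c9 LD3_c43) Lrfl Lrfl
theorem f10276 : Led Lsl_dt (LP (LK LD1_c0 LD2_c21 LD3_c32)) = (LP (LK LD1_c0 LD2_c48 LD3_c4)) :=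
  Lre_d IH (LK LD1_c0 LD2_c21 LD3_c32) (LK LD1_c0 LD2_c48 LD3_c4) Lrfl Lrfl
theorem f19732 : Led Lsl_dt (LP (LK LD1_c0 LD2_c9 LD3_c47)) = (LP (LK LD1_c0 LD2_c21 LD3_c44)) :=
  Lre_d IH (LK LD1_c0 LD2_c9 LD3_c47) (LK LD1_c0 LD2_c21 LD3_c44) Lrfl Lrfl
theorem f106004 : Led Lsl_gf (LP (LK LD1_c0 LD2_c48 LD3_c4)) = (LP (LK LD1_c0 LD2_c21 LD3_c44)) :=
  Lgr Lrot145 (Lpe (f10276 IH) (Lpr_et (f10275 IH) (Lpr_gt (K2.f10264 IH) (Lpr_dt (f10266 IH) (Lpe (f10459 IH) (Lpe (f97310 IH) (Lpr_et (f105995 IH) (Lpr_gt (K2.f6675 IH) (Lpe (K0.f10256 IH) (Lpr_dt (f19732 IH) (Lpn (LP (LK LD1_c0 LD2_c21 LD3_c44)))))))))))))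
theorem f94399 : Led Lsl_ct (LP (LK LD1_c0 LD2_c48 LD3_c4)) = (LP (LK LD1_c1 LD2_c42 LD3_c58)) :=
  Lre_c IH (LK LD1_c0 LD2_c48 LD3_c4) (LK LD1_c1 LD2_c42 LD3_c58) Lrfl Lrfl
theorem f106014 : Led Lsl_gt (LP (LK LD1_c1 LD2_c42 LD3_c58)) = (LP (LK LD1_c3 LD2_c32 LD3_c30)) :=
  Lre_g IH (LK LD1_c1 LD2_c42 LD3_c58) (LK LD1_c3 LD2_c32 LD3_c30) Lrfl Lrfl
theorem f9985 : Led Lsl_ct (LP (LK LD1_c0 LD2_c9 LD3_c51)) = (LP (LK LD1_c0 LD2_c21 LD3_c53)) :=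
  Lre_c IH (LK LD1_c0 LD2_c9 LD3_c51) (LK LD1_c0 LD2_c21 LD3_c53) Lrfl Lrfl
theorem f10078 : Led Lsl_ft (LP (LK LD1_c0 LD2_c48 LD3_c51)) = (LP (LK LD1_c0 LD2_c21 LD3_c53)) :=
  Lre_f IH (LK LD1_c0 LD2_c48 LD3_c51) (LK LD1_c0 LD2_c21 LD3_c53) Lrfl Lrfl
theorem f10079 : Led Lsl_at (LP (LK LD1_c0 LD2_c21 LD3_c53)) = (LP (LK LD1_c0 LD2_c21 LD3_c53)) :=
  Lgr Lrot33 (Lpe (f10078 IH) (Lpr_dt (K0.f10068 IH) (Lpr_ct (K0.f9982 IH) (Lpr_dt (K0.f9958 IH) (Lpr_ct (K0.f9960 IH) (Lpr_dt (K0.f9950 IH) (Lpr_ct (K0.f9983 IH) (Lpr_dt (K0.f9984 IH) (Lpr_ct (f9985 IH) (Lpn (LP (LK LD1_c0 LD2_c21 LD3_c53))))))))))))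
theorem f11896 : Led Lsl_gt (LP (LK LD1_c0 LD2_c24 LD3_c31)) = (LP (LK LD1_c0 LD2_c21 LD3_c53)) :=
  Lgr Lrot46 (Lpr_gf (f11893 IH) (Lpr_ft (f10078 IH) (Lpr_at (f10079 IH) (Lpn (LP (LK LD1_c0 LD2_c21 LD3_c53))))))
theorem f11906 : Led Lsl_gt (LP (LK LD1_c0 LD2_c53 LD3_c21)) = (LP (LK LD1_c0 LD2_c23 LD3_c61)) :=
  Lre_g IH (LK LD1_c0 LD2_c53 LD3_c21) (LK LD1_c0 LD2_c23 LD3_c61) Lrfl Lrfl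
theorem f11907 : Led Lsl_bt (LP (LK LD1_c1 LD2_c53 LD3_c27)) = (LP (LK LD1_c0 LD2_c53 LD3_c21)) :=
  Lre_b IH (LK LD1_c1 LD2_c53 LD3_c27) (LK LD1_c0 LD2_c53 LD3_c21) Lrfl Lrfl
theorem f106022 : Led Lsl_cf (LP (LK LD1_c3 LD2_c32 LD3_c30)) = (LP (LK LD1_c1 LD2_c53 LD3_c27)) :=
  Lgr Lrot163 (Lpe (f106014 IH) (Lpe (f94399 IH) (Lpr_gf (f106004 IH) (Lpe (K2.f10383 IH) (Lpr_ct (f9985 IH) (Lpe (f11896 IH) (Lpe (f7418 IH) (Lpr_bt (f11114 IH) (Lpe (f11906 IH) (Lpe (f11907 IH) (Lpn (LP (LK LD1_c1 LD2_c53 LD3_c27)))))))))))))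
theorem f106061 : Led Lsl_ct (LP (LK LD1_c3 LD2_c32 LD3_c30)) = (LP (LK LD1_c1 LD2_c53 LD3_c27)) :=
  Lgr Lrot59 (Lpr_cf (f106022 IH) (Lpn (LP (LK LD1_c1 LD2_c53 LD3_c27))))
theorem f9988 : Led Lsl_gt (LP (LK LD1_c0 LD2_c9 LD3_c47)) = (LP (LK LD1_c0 LD2_c21 LD3_c42)) :=
  Lre_g IH (LK LD1_c0 LD2_c9 LD3_c47) (LK LD1_c0 LD2_c21 LD3_c42) Lrfl Lrfl
theorem f106015 : Led Lsl_ct (LP (LK LD1_c0 LD2_c21 LD3_c42)) = (LP (LK LD1_c0 LD2_c48 LD3_c32)) :=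
  Lre_c IH (LK LD1_c0 LD2_c21 LD3_c42) (LK LD1_c0 LD2_c48 LD3_c32) Lrfl Lrfl
theorem f106016 : Led Lsl_gt (LP (LK LD1_c0 LD2_c48 LD3_c32)) = (LP (LK LD1_c1 LD2_c43 LD3_c55)) :=
  Lre_g IH (LK LD1_c0 LD2_c48 LD3_c32) (LK LD1_c1 LD2_c43 LD3_c55) Lrfl Lrfl
theorem f106017 : Led Lsl_ct (LP (LK LD1_c1 LD2_c43 LD3_c55)) = (LP (LK LD1_c1 LD2_c44 LD3_c33)) :=
  Lre_c IH (LK LD1_c1 LD2_c43 LD3_c55) (LK LD1_c1 LD2_c44 LD3_c33) Lrfl Lrfl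
theorem f106072 : Led Lsl_df (LP (LK LD1_c1 LD2_c44 LD3_c33)) = (LP (LK LD1_c1 LD2_c53 LD3_c27)) :=
  Lgr Lrot162 (Lpe (f106017 IH) (Lpe (f106016 IH) (Lpe (f106015 IH) (Lpe (f9988 IH) (Lpr_dt (f19732 IH) (Lpe (f106004 IH) (Lpr_ct (f94399 IH) (Lpr_gt (f106014 IH) (Lpr_ct (f106061 IH) (Lpn (LP (LK LD1_c1 LD2_c53 LD3_c27))))))))))))
theorem f18010 : Led Lsl_gt (LP (LK LD1_c1 LD2_c40 LD3_c47)) = (LP (LK LD1_c0 LD2_c53 LD3_c21)) :=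
  Lre_g IH (LK LD1_c1 LD2_c40 LD3_c47) (LK LD1_c0 LD2_c53 LD3_c21) Lrfl Lrfl
theorem f85288 : Led Lsl_ft (LP (LK LD1_c0 LD2_c47 LD3_c6)) = (LP (LK LD1_c1 LD2_c41 LD3_c9)) :=
  Lre_f IH (LK LD1_c0 LD2_c47 LD3_c6) (LK LD1_c1 LD2_c41 LD3_c9) Lrfl Lrfl
theorem f85289 : Led Lsl_af (LP (LK LD1_c0 LD2_c53 LD3_c21)) = (LP (LK LD1_c1 LD2_c41 LD3_c9)) :=
  Lgr Lrot31 (Lpe (f18010 IH) (Lpr_gf (f84985 IH) (Lpr_ft (f85288 IH) (Lpn (LP (LK LD1_c1 LD2_c41 LD3_c9))))))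
theorem f19407 : Led Lsl_at (LP (LK LD1_c1 LD2_c40 LD3_c50)) = (LP (LK LD1_c0 LD2_c47 LD3_c6)) :=
  Lre_a IH (LK LD1_c1 LD2_c40 LD3_c50) (LK LD1_c0 LD2_c47 LD3_c6) Lrfl Lrfl
theorem f85323 : Led Lsl_ft (LP (LK LD1_c0 LD2_c53 LD3_c21)) = (LP (LK LD1_c1 LD2_c40 LD3_c50)) :=
  Lgr Lrot101 (Lpr_af (f85289 IH) (Lpe (f85288 IH) (Lpe (f19407 IH) (Lpn (LP (LK LD1_c1 LD2_c40 LD3_c50))))))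
theorem f85336 : Led Lsl_ff (LP (LK LD1_c0 LD2_c53 LD3_c21)) = (LP (LK LD1_c1 LD2_c40 LD3_c50)) :=
  Lgr Lrot3 (Lpr_ft (f85323 IH) (Lpn (LP (LK LD1_c1 LD2_c40 LD3_c50))))
theorem f85317 : Led Lsl_ct (LP (LK LD1_c0 LD2_c53 LD3_c21)) = (LP (LK LD1_c1 LD2_c53 LD3_c28)) :=
  Lre_c IH (LK LD1_c0 LD2_c53 LD3_c21) (LK LD1_c1 LD2_c53 LD3_c28) Lrfl Lrfl
theorem f85342 : Led Lsl_ct (LP (LK LD1_c3 LD2_c28 LD3_c23)) = (LP (LK LD1_c1 LD2_c40 LD3_c50)) :=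
  Lre_c IH (LK LD1_c3 LD2_c28 LD3_c23) (LK LD1_c1 LD2_c40 LD3_c50) Lrfl Lrfl
theorem f85343 : Led Lsl_ft (LP (LK LD1_c1 LD2_c53 LD3_c28)) = (LP (LK LD1_c3 LD2_c28 LD3_c23)) :=
  Lgr Lrot4 (Lpe (f85317 IH) (Lpr_ff (f85336 IH) (Lpe (f85342 IH) (Lpn (LP (LK LD1_c3 LD2_c28 LD3_c23))))))
theorem f85349 : Led Lsl_at (LP (LK LD1_c3 LD2_c28 LD3_c23)) = (LP (LK LD1_c1 LD2_c41 LD3_c8)) :=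
  Lre_a IH (LK LD1_c3 LD2_c28 LD3_c23) (LK LD1_c1 LD2_c41 LD3_c8) Lrfl Lrfl
theorem f85350 : Led Lsl_ft (LP (LK LD1_c1 LD2_c41 LD3_c8)) = (LP (LK LD1_c3 LD2_c28 LD3_c51)) :=
  Lre_f IH (LK LD1_c1 LD2_c41 LD3_c8) (LK LD1_c3 LD2_c28 LD3_c51) Lrfl Lrfl
theorem f85351 : Led Lsl_af (LP (LK LD1_c1 LD2_c53 LD3_c28)) = (LP (LK LD1_c3 LD2_c28 LD3_c51)) :=
  Lgr Lrot45 (Lpr_ft (f85343 IH) (Lpr_at (f85349 IH) (Lpr_ft (f85350 IH) (Lpn (LP (LK LD1_c3 LD2_c28 LD3_c51))))))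
theorem f85579 : Led Lsl_gf (LP (LK LD1_c1 LD2_c53 LD3_c28)) = (LP (LK LD1_c3 LD2_c28 LD3_c47)) :=
  Lgr Lrot76 (Lpr_af (f85351 IH) (Lpe (f85350 IH) (Lpr_gt (f85292 IH) (Lpn (LP (LK LD1_c3 LD2_c28 LD3_c47))))))
theorem f85315 : Led Lsl_bt (LP (LK LD1_c0 LD2_c53 LD3_c21)) = (LP (LK LD1_c1 LD2_c53 LD3_c27)) :=
  Lre_b IH (LK LD1_c0 LD2_c53 LD3_c21) (LK LD1_c1 LD2_c53 LD3_c27) Lrfl Lrfl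
theorem f105766 : Led Lsl_gt (LP (LK LD1_c1 LD2_c53 LD3_c27)) = (LP (LK LD1_c1 LD2_c46 LD3_c1)) :=
  Lgr Lrot82 (Lpe (f85315 IH) (Lpr_ct (f85317 IH) (Lpr_gf (f85579 IH) (Lpe (f86695 IH) (Lpr_bt (f86690 IH) (Lpr_gf (f105758 IH) (Lpe (K2.f10387 IH) (Lpr_ct (K0.f10393 IH) (Lpe (f10406 IH) (Lpe (f86844 IH) (Lpn (LP (LK LD1_c1 LD2_c46 LD3_c1)))))))))))))
theorem f10435 : Led Lsl_gt (LP (LK LD1_c0 LD2_c48 LD3_c14)) = (LP (LK LD1_c0 LD2_c21 LD3_c37)) :=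
  Lre_g IH (LK LD1_c0 LD2_c48 LD3_c14) (LK LD1_c0 LD2_c21 LD3_c37) Lrfl Lrfl
theorem f19436 : Led Lsl_ct (LP (LK LD1_c1 LD2_c43 LD3_c13)) = (LP (LK LD1_c0 LD2_c48 LD3_c14)) :=
  Lre_c IH (LK LD1_c1 LD2_c43 LD3_c13) (LK LD1_c0 LD2_c48 LD3_c14) Lrfl Lrfl
theorem f106085 : Led Lsl_gt (LP (LK LD1_c1 LD2_c44 LD3_c33)) = (LP (LK LD1_c1 LD2_c43 LD3_c13)) :=
  Lgr Lrot9 (Lpr_df (f106072 IH) (Lpr_gt (f105766 IH) (Lpr_ct (f86844 IH) (Lpr_gt (f10406 IH) (Lpr_ct (K0.f10391 IH) (Lpe (K0.f10308 IH) (Lpr_cf (K0.f19348 IH) (Lpe (f10435 IH) (Lpe (f19436 IH) (Lpn (LP (LK LD1_c1 LD2_c43 LD3_c13))))))))))))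
theorem f85329 : Led Lsl_ff (LP (LK LD1_c1 LD2_c53 LD3_c27)) = (LP (LK LD1_c3 LD2_c28 LD3_c21)) :=
  Lgr Lrot25 (Lpr_bt (f11907 IH) (Lpr_ft (f85323 IH) (Lpr_bt (K2.f19395 IH) (Lpn (LP (LK LD1_c3 LD2_c28 LD3_c21))))))
theorem f106083 : Led Lsl_ft (LP (LK LD1_c1 LD2_c44 LD3_c33)) = (LP (LK LD1_c1 LD2_c40 LD3_c48)) :=
  Lgr Lrot54 (Lpr_df (f106072 IH) (Lpr_ff (f85329 IH) (Lpe (K2.f19389 IH) (Lpn (LP (LK LD1_c1 LD2_c40 LD3_c48))))))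
theorem f19381 : Led Lsl_at (LP (LK LD1_c1 LD2_c40 LD3_c48)) = (LP (LK LD1_c1 LD2_c44 LD3_c40)) :=
  Lgr Lrot100 (Lpr_af (K2.f19369 IH) (Lpn (LP (LK LD1_c1 LD2_c44 LD3_c40))))
theorem f106087 : Led Lsl_gf (LP (LK LD1_c1 LD2_c44 LD3_c40)) = (LP (LK LD1_c1 LD2_c43 LD3_c13)) :=
  Lgr Lrot76 (Lpe (f19381 IH) (Lpe (f106083 IH) (Lpr_gt (f106085 IH) (Lpn (LP (LK LD1_c1 LD2_c43 LD3_c13))))))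
theorem f19404 : Led Lsl_dt (LP (LK LD1_c1 LD2_c44 LD3_c40)) = (LP (LK LD1_c3 LD2_c35 LD3_c36)) :=
  Lre_d IH (LK LD1_c1 LD2_c44 LD3_c40) (LK LD1_c3 LD2_c35 LD3_c36) Lrfl Lrfl
theorem f10359 : Led Lsl_ct (LP (LK LD1_c0 LD2_c48 LD3_c14)) = (LP (LK LD1_c1 LD2_c43 LD3_c13)) :=
  Lre_c IH (LK LD1_c0 LD2_c48 LD3_c14) (LK LD1_c1 LD2_c43 LD3_c13) Lrfl Lrfl
theorem f106097 : Led Lsl_gt (LP (LK LD1_c3 LD2_c35 LD3_c36)) = (LP (LK LD1_c1 LD2_c44 LD3_c54)) :=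
  Lgr Lrot49 (Lpe (f19404 IH) (Lpr_gf (f106087 IH) (Lpe (f10359 IH) (Lpr_gt (f10435 IH) (Lpr_dt (K0.f10308 IH) (Lpe (f105758 IH) (Lpr_dt (f17727 IH) (Lpe (f17704 IH) (Lpe (f17720 IH) (Lpn (LP (LK LD1_c1 LD2_c44 LD3_c54))))))))))))
theorem f10377 : Led Lsl_bt (LP (LK LD1_c0 LD2_c48 LD3_c38)) = (LP (LK LD1_c0 LD2_c21 LD3_c54)) :=
  Lre_b IH (LK LD1_c0 LD2_c48 LD3_c38) (LK LD1_c0 LD2_c21 LD3_c54) Lrfl Lrfl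
theorem f9827 : Led Lsl_bt (LP (LK LD1_c0 LD2_c46 LD3_c44)) = (LP (LK LD1_c0 LD2_c20 LD3_c61)) :=
  Lre_b IH (LK LD1_c0 LD2_c46 LD3_c44) (LK LD1_c0 LD2_c20 LD3_c61) Lrfl Lrfl
theorem f11480 : Led Lsl_ct (LP (LK LD1_c0 LD2_c46 LD3_c44)) = (LP (LK LD1_c1 LD2_c40 LD3_c34)) :=
  Lre_c IH (LK LD1_c0 LD2_c46 LD3_c44) (LK LD1_c1 LD2_c40 LD3_c34) Lrfl Lrfl
theorem f17271 : Led Lsl_gt (LP (LK LD1_c1 LD2_c40 LD3_c34)) = (LP (LK LD1_c3 LD2_c27 LD3_c55)) :=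
  Lre_g IH (LK LD1_c1 LD2_c40 LD3_c34) (LK LD1_c3 LD2_c27 LD3_c55) Lrfl Lrfl
theorem f106109 : Led Lsl_ct (LP (LK LD1_c3 LD2_c28 LD3_c25)) = (LP (LK LD1_c3 LD2_c27 LD3_c55)) :=
  Lgr Lrot10 (Lpr_bt (K2.f19401 IH) (Lpr_gt (f106097 IH) (Lpr_ct (f105883 IH) (Lpe (f105855 IH) (Lpe (K0.f11506 IH) (Lpr_bt (f10377 IH) (Lpe (K0.f11474 IH) (Lpe (f9827 IH) (Lpr_ct (f11480 IH) (Lpr_gt (f17271 IH) (Lpn (LP (LK LD1_c3 LD2_c27 LD3_c55)))))))))))))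
theorem f106237 : Led Lsl_cf (LP (LK LD1_c3 LD2_c28 LD3_c25)) = (LP (LK LD1_c3 LD2_c27 LD3_c55)) :=
  Lgr Lrot11 (Lpr_ct (f106109 IH) (Lpn (LP (LK LD1_c3 LD2_c27 LD3_c55))))
theorem f106240 : Led Lsl_at (LP (LK LD1_c3 LD2_c28 LD3_c30)) = (LP (LK LD1_c3 LD2_c27 LD3_c55)) :=
  Lgr Lrot107 (Lpe (f76781 IH) (Lpe (K2.f19398 IH) (Lpr_cf (f106237 IH) (Lpn (LP (LK LD1_c3 LD2_c27 LD3_c55))))))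
theorem f11481 : Led Lsl_gt (LP (LK LD1_c3 LD2_c27 LD3_c56)) = (LP (LK LD1_c1 LD2_c40 LD3_c34)) :=
  Lre_g IH (LK LD1_c3 LD2_c27 LD3_c56) (LK LD1_c1 LD2_c40 LD3_c34) Lrfl Lrfl
theorem f106251 : Led Lsl_ff (LP (LK LD1_c3 LD2_c28 LD3_c30)) = (LP (LK LD1_c3 LD2_c27 LD3_c56)) :=
  Lgr Lrot52 (Lpr_at (f106240 IH) (Lpe (f17271 IH) (Lpe (f11481 IH) (Lpn (LP (LK LD1_c3 LD2_c27 LD3_c56))))))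
theorem f19196 : Led Lsl_dt (LP (LK LD1_c3 LD2_c27 LD3_c56)) = (LP (LK LD1_c6 LD2_c58 LD3_c2)) :=
  Lre_d IH (LK LD1_c3 LD2_c27 LD3_c56) (LK LD1_c6 LD2_c58 LD3_c2) Lrfl Lrfl
theorem f90130 : Led Lsl_ct (LP (LK LD1_c6 LD2_c18 LD3_c59)) = (LP (LK LD1_c3 LD2_c6 LD3_c49)) :=
  Lre_c IH (LK LD1_c6 LD2_c18 LD3_c59) (LK LD1_c3 LD2_c6 LD3_c49) Lrfl Lrfl
theorem f90131 : Led Lsl_dt (LP (LK LD1_c12 LD2_c13 LD3_c46)) = (LP (LK LD1_c6 LD2_c18 LD3_c59)) :=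
  Lre_d IH (LK LD1_c12 LD2_c13 LD3_c46) (LK LD1_c6 LD2_c18 LD3_c59) Lrfl Lrfl
theorem f106253 : Led Lsl_ct (LP (LK LD1_c6 LD2_c58 LD3_c2)) = (LP (LK LD1_c12 LD2_c13 LD3_c46)) :=
  Lgr Lrot133 (Lpe (f19196 IH) (Lpe (f106251 IH) (Lpr_at (f106240 IH) (Lpe (f106109 IH) (Lpe (K2.f19409 IH) (Lpe (K2.f90106 IH) (Lpe (f90129 IH) (Lpe (f90130 IH) (Lpe (f90131 IH) (Lpn (LP (LK LD1_c12 LD2_c13 LD3_c46))))))))))))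
theorem f88773 : Led Lsl_ft (LP (LK LD1_c1 LD2_c40 LD3_c58)) = (LP (LK LD1_c0 LD2_c46 LD3_c59)) :=
  Lre_f IH (LK LD1_c1 LD2_c40 LD3_c58) (LK LD1_c0 LD2_c46 LD3_c59) Lrfl Lrfl
theorem f88853 : Led Lsl_dt (LP (LK LD1_c1 LD2_c40 LD3_c58)) = (LP (LK LD1_c3 LD2_c28 LD3_c31)) :=
  Lre_d IH (LK LD1_c1 LD2_c40 LD3_c58) (LK LD1_c3 LD2_c28 LD3_c31) Lrfl Lrfl
theorem f106262 : Led Lsl_cf (LP (LK LD1_c3 LD2_c27 LD3_c56)) = (LP (LK LD1_c3 LD2_c28 LD3_c31)) :=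
  Lgr Lrot118 (Lpr_dt (f19196 IH) (Lpr_ct (f106253 IH) (Lpr_dt (f90131 IH) (Lpr_ct (f90130 IH) (Lpr_dt (f90129 IH) (Lpr_ct (K2.f90106 IH) (Lpe (K2.f19386 IH) (Lpe (f88773 IH) (Lpr_dt (f88853 IH) (Lpn (LP (LK LD1_c3 LD2_c28 LD3_c31))))))))))))
theorem f19194 : Led Lsl_gt (LP (LK LD1_c3 LD2_c31 LD3_c53)) = (LP (LK LD1_c3 LD2_c27 LD3_c56)) :=
  Lgr Lrot5 (Lpr_ft (K2.f19182 IH) (Lpr_at (K2.f17179 IH) (Lpe (f11481 IH) (Lpn (LP (LK LD1_c3 LD2_c27 LD3_c56))))))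
theorem f18153 : Led Lsl_et (LP (LK LD1_c0 LD2_c45 LD3_c41)) = (LP (LK LD1_c0 LD2_c20 LD3_c23)) :=
  Lre_e IH (LK LD1_c0 LD2_c45 LD3_c41) (LK LD1_c0 LD2_c20 LD3_c23) Lrfl Lrfl
theorem f18154 : Led Lsl_dt (LP (LK LD1_c0 LD2_c45 LD3_c41)) = (LP (LK LD1_c1 LD2_c38 LD3_c35)) :=
  Lre_d IH (LK LD1_c0 LD2_c45 LD3_c41) (LK LD1_c1 LD2_c38 LD3_c35) Lrfl Lrfl
theorem f92249 : Led Lsl_gf (LP (LK LD1_c1 LD2_c42 LD3_c35)) = (LP (LK LD1_c1 LD2_c38 LD3_c35)) :=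
  Lgr Lrot145 (Lpe (K2.f18091 IH) (Lpr_et (K2.f18080 IH) (Lpr_gt (K2.f19340 IH) (Lpr_dt (K2.f90845 IH) (Lpr_gt (K2.f9907 IH) (Lpe (K2.f11973 IH) (Lpr_et (K2.f18143 IH) (Lpr_gt (K2.f3960 IH) (Lpe (f18153 IH) (Lpr_dt (f18154 IH) (Lpn (LP (LK LD1_c1 LD2_c38 LD3_c35)))))))))))))
theorem f92257 : Led Lsl_bt (LP (LK LD1_c3 LD2_c24 LD3_c17)) = (LP (LK LD1_c1 LD2_c38 LD3_c35)) :=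
  Lre_b IH (LK LD1_c3 LD2_c24 LD3_c17) (LK LD1_c1 LD2_c38 LD3_c35) Lrfl Lrfl
theorem f85316 : Led Lsl_bt (LP (LK LD1_c3 LD2_c28 LD3_c31)) = (LP (LK LD1_c1 LD2_c41 LD3_c9)) :=
  Lre_b IH (LK LD1_c3 LD2_c28 LD3_c31) (LK LD1_c1 LD2_c41 LD3_c9) Lrfl Lrfl
theorem f85339 : Led Lsl_ft (LP (LK LD1_c1 LD2_c41 LD3_c9)) = (LP (LK LD1_c0 LD2_c47 LD3_c6)) :=
  Lre_f IH (LK LD1_c1 LD2_c41 LD3_c9) (LK LD1_c0 LD2_c47 LD3_c6) Lrfl Lrfl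
theorem f87586 : Led Lsl_gt (LP (LK LD1_c1 LD2_c41 LD3_c9)) = (LP (LK LD1_c0 LD2_c51 LD3_c30)) :=
  Lgr Lrot5 (Lpr_ft (f85339 IH) (Lpr_at (K2.f19396 IH) (Lpr_gf (K2.f87582 IH) (Lpn (LP (LK LD1_c0 LD2_c51 LD3_c30))))))
theorem f11115 : Led Lsl_at (LP (LK LD1_c0 LD2_c23 LD3_c61)) = (LP (LK LD1_c0 LD2_c51 LD3_c30)) :=
  Lre_a IH (LK LD1_c0 LD2_c23 LD3_c61) (LK LD1_c0 LD2_c51 LD3_c30) Lrfl Lrfl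
theorem f11116 : Led Lsl_bt (LP (LK LD1_c0 LD2_c23 LD3_c61)) = (LP (LK LD1_c0 LD2_c10 LD3_c55)) :=
  Lre_b IH (LK LD1_c0 LD2_c23 LD3_c61) (LK LD1_c0 LD2_c10 LD3_c55) Lrfl Lrfl
theorem f11117 : Led Lsl_at (LP (LK LD1_c0 LD2_c51 LD3_c30)) = (LP (LK LD1_c0 LD2_c23 LD3_c61)) :=
  Lre_a IH (LK LD1_c0 LD2_c51 LD3_c30) (LK LD1_c0 LD2_c23 LD3_c61) Lrfl Lrfl
theorem f11118 : Led Lsl_bt (LP (LK LD1_c0 LD2_c51 LD3_c30)) = (LP (LK LD1_c0 LD2_c51 LD3_c30)) :=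
  Lgr Lrot62 (Lpe (f11115 IH) (Lpe (f11114 IH) (Lpr_af (K0.f11105 IH) (Lpe (f11116 IH) (Lpe (f11117 IH) (Lpn (LP (LK LD1_c0 LD2_c51 LD3_c30))))))))
theorem f86594 : Led Lsl_ct (LP (LK LD1_c0 LD2_c51 LD3_c30)) = (LP (LK LD1_c1 LD2_c49 LD3_c25)) :=
  Lre_c IH (LK LD1_c0 LD2_c51 LD3_c30) (LK LD1_c1 LD2_c49 LD3_c25) Lrfl Lrfl
theorem f86615 : Led Lsl_gt (LP (LK LD1_c1 LD2_c49 LD3_c25)) = (LP (LK LD1_c3 LD2_c31 LD3_c8)) :=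
  Lre_g IH (LK LD1_c1 LD2_c49 LD3_c25) (LK LD1_c3 LD2_c31 LD3_c8) Lrfl Lrfl
theorem f106276 : Led Lsl_ct (LP (LK LD1_c3 LD2_c24 LD3_c17)) = (LP (LK LD1_c3 LD2_c31 LD3_c8)) :=
  Lgr Lrot10 (Lpr_bt (f92257 IH) (Lpe (f92249 IH) (Lpr_ct (K2.f18111 IH) (Lpr_gt (f19194 IH) (Lpr_cf (f106262 IH) (Lpr_bt (f85316 IH) (Lpr_gt (f87586 IH) (Lpe (f11118 IH) (Lpr_ct (f86594 IH) (Lpr_gt (f86615 IH) (Lpn (LP (LK LD1_c3 LD2_c31 LD3_c8)))))))))))))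
theorem f90851 : Led Lsl_bt (LP (LK LD1_c0 LD2_c20 LD3_c23)) = (LP (LK LD1_c0 LD2_c45 LD3_c39)) :=
  Lre_b IH (LK LD1_c0 LD2_c20 LD3_c23) (LK LD1_c0 LD2_c45 LD3_c39) Lrfl Lrfl
theorem f90852 : Led Lsl_dt (LP (LK LD1_c0 LD2_c45 LD3_c39)) = (LP (LK LD1_c0 LD2_c46 LD3_c29)) :=
  Lgr Lrot79 (Lpe (f90851 IH) (Lpr_df (K2.f90849 IH) (Lpe (f9906 IH) (Lpn (LP (LK LD1_c0 LD2_c46 LD3_c29))))))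
theorem f92026 : Led Lsl_df (LP (LK LD1_c0 LD2_c45 LD3_c39)) = (LP (LK LD1_c0 LD2_c46 LD3_c29)) :=
  Lgr Lrot38 (Lpr_dt (f90852 IH) (Lpn (LP (LK LD1_c0 LD2_c46 LD3_c29))))
theorem f95140 : Led Lsl_gt (LP (LK LD1_c0 LD2_c45 LD3_c39)) = (LP (LK LD1_c0 LD2_c22 LD3_c0)) :=
  Lgr Lrot9 (Lpr_df (f92026 IH) (Lpr_gt (f95138 IH) (Lpr_ct (K0.f17303 IH) (Lpr_gt (f92644 IH) (Lpr_ct (K2.f84982 IH) (Lpe (K2.f84971 IH) (Lpe (K1.f19356 IH) (Lpe (K2.f10767 IH) (Lpr_cf (K0.f9930 IH) (Lpn (LP (LK LD1_c0 LD2_c22 LD3_c0))))))))))))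
theorem f92028 : Led Lsl_et (LP (LK LD1_c1 LD2_c38 LD3_c30)) = (LP (LK LD1_c0 LD2_c45 LD3_c39)) :=
  Lre_e IH (LK LD1_c1 LD2_c38 LD3_c30) (LK LD1_c0 LD2_c45 LD3_c39) Lrfl Lrfl
theorem f92031 : Led Lsl_dt (LP (LK LD1_c1 LD2_c38 LD3_c30)) = (LP (LK LD1_c3 LD2_c24 LD3_c17)) :=
  Lre_d IH (LK LD1_c1 LD2_c38 LD3_c30) (LK LD1_c3 LD2_c24 LD3_c17) Lrfl Lrfl
theorem f17906 : Led Lsl_bt (LP (LK LD1_c0 LD2_c22 LD3_c2)) = (LP (LK LD1_c0 LD2_c49 LD3_c5)) :=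
  Lre_b IH (LK LD1_c0 LD2_c22 LD3_c2) (LK LD1_c0 LD2_c49 LD3_c5) Lrfl Lrfl
theorem f4465 : Led Lsl_bt (LP (LK LD1_c0 LD2_c9 LD3_c35)) = (LP (LK LD1_c0 LD2_c4 LD3_c31)) :=
  Lre_b IH (LK LD1_c0 LD2_c9 LD3_c35) (LK LD1_c0 LD2_c4 LD3_c31) Lrfl Lrfl
theorem f11395 : Led Lsl_at (LP (LK LD1_c0 LD2_c21 LD3_c9)) = (LP (LK LD1_c0 LD2_c9 LD3_c35)) :=
  Lre_a IH (LK LD1_c0 LD2_c21 LD3_c9) (LK LD1_c0 LD2_c9 LD3_c35) Lrfl Lrfl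
theorem f11397 : Led Lsl_at (LP (LK LD1_c0 LD2_c9 LD3_c35)) = (LP (LK LD1_c0 LD2_c21 LD3_c9)) :=
  Lre_a IH (LK LD1_c0 LD2_c9 LD3_c35) (LK LD1_c0 LD2_c21 LD3_c9) Lrfl Lrfl
theorem f11398 : Led Lsl_bf (LP (LK LD1_c0 LD2_c21 LD3_c9)) = (LP (LK LD1_c0 LD2_c21 LD3_c9)) :=
  Lgr Lrot81 (Lpr_at (f11395 IH) (Lpr_bt (f4465 IH) (Lpr_at (K0.f11391 IH) (Lpr_bt (K0.f11396 IH) (Lpr_at (f11397 IH) (Lpn (LP (LK LD1_c0 LD2_c21 LD3_c9))))))))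
theorem f94487 : Led Lsl_gt (LP (LK LD1_c0 LD2_c49 LD3_c5)) = (LP (LK LD1_c0 LD2_c43 LD3_c54)) :=
  Lgr Lrot82 (Lpe (f17906 IH) (Lpr_ct (K2.f10760 IH) (Lpr_gf (K2.f94478 IH) (Lpe (K2.f5783 IH) (Lpr_bt (f62809 IH) (Lpe (K1.f62796 IH) (Lpr_bf (f11398 IH) (Lpr_ct (K2.f18770 IH) (Lpr_gf (K1.f62832 IH) (Lpe (K2.f62823 IH) (Lpn (LP (LK LD1_c0 LD2_c43 LD3_c54)))))))))))))
theorem f65503 : Led Lsl_et (LP (LK LD1_c1 LD2_c34 LD3_c22)) = (LP (LK LD1_c0 LD2_c43 LD3_c52)) :=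
  Lre_e IH (LK LD1_c1 LD2_c34 LD3_c22) (LK LD1_c0 LD2_c43 LD3_c52) Lrfl Lrfl
theorem f65504 : Led Lsl_dt (LP (LK LD1_c1 LD2_c34 LD3_c22)) = (LP (LK LD1_c3 LD2_c15 LD3_c20)) :=
  Lre_d IH (LK LD1_c1 LD2_c34 LD3_c22) (LK LD1_c3 LD2_c15 LD3_c20) Lrfl Lrfl
theorem f95180 : Led Lsl_gf (LP (LK LD1_c3 LD2_c24 LD3_c17)) = (LP (LK LD1_c3 LD2_c15 LD3_c20)) :=
  Lgr Lrot145 (Lpe (f92031 IH) (Lpr_et (f92028 IH) (Lpr_gt (f95140 IH) (Lpr_dt (K0.f17774 IH) (Lpr_gt (f94487 IH) (Lpe (K2.f62820 IH) (Lpe (f65405 IH) (Lpr_gt (K2.f23460 IH) (Lpe (f65503 IH) (Lpr_dt (f65504 IH) (Lpn (LP (LK LD1_c3 LD2_c15 LD3_c20)))))))))))))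
theorem f95183 : Led Lsl_dt (LP (LK LD1_c3 LD2_c15 LD3_c20)) = (LP (LK LD1_c1 LD2_c34 LD3_c22)) :=
  Lre_d IH (LK LD1_c3 LD2_c15 LD3_c20) (LK LD1_c1 LD2_c34 LD3_c22) Lrfl Lrfl
theorem f11135 : Led Lsl_gt (LP (LK LD1_c3 LD2_c31 LD3_c8)) = (LP (LK LD1_c1 LD2_c42 LD3_c7)) :=
  Lre_g IH (LK LD1_c3 LD2_c31 LD3_c8) (LK LD1_c1 LD2_c42 LD3_c7) Lrfl Lrfl
theorem f11129 : Led Lsl_ct (LP (LK LD1_c1 LD2_c42 LD3_c7)) = (LP (LK LD1_c0 LD2_c47 LD3_c33)) :=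
  Lre_c IH (LK LD1_c1 LD2_c42 LD3_c7) (LK LD1_c0 LD2_c47 LD3_c33) Lrfl Lrfl
theorem f11111 : Led Lsl_ct (LP (LK LD1_c0 LD2_c40 LD3_c22)) = (LP (LK LD1_c0 LD2_c21 LD3_c15)) :=
  Lre_c IH (LK LD1_c0 LD2_c40 LD3_c22) (LK LD1_c0 LD2_c21 LD3_c15) Lrfl Lrfl
theorem f64508 : Led Lsl_ct (LP (LK LD1_c1 LD2_c26 LD3_c54)) = (LP (LK LD1_c0 LD2_c40 LD3_c15)) :=
  Lre_c IH (LK LD1_c1 LD2_c26 LD3_c54) (LK LD1_c0 LD2_c40 LD3_c15) Lrfl Lrfl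
theorem f106284 : Led Lsl_gt (LP (LK LD1_c1 LD2_c34 LD3_c22)) = (LP (LK LD1_c1 LD2_c26 LD3_c54)) :=
  Lgr Lrot9 (Lpe (f95183 IH) (Lpe (f95180 IH) (Lpr_ct (f106276 IH) (Lpr_gt (f11135 IH) (Lpr_ct (f11129 IH) (Lpe (K2.f64520 IH) (Lpe (f11111 IH) (Lpe (f64496 IH) (Lpe (f64508 IH) (Lpn (LP (LK LD1_c1 LD2_c26 LD3_c54))))))))))))
theorem f63108 : Led Lsl_et (LP (LK LD1_c0 LD2_c40 LD3_c14)) = (LP (LK LD1_c1 LD2_c26 LD3_c54)) :=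
  Lre_e IH (LK LD1_c0 LD2_c40 LD3_c14) (LK LD1_c1 LD2_c26 LD3_c54) Lrfl Lrfl
theorem f94536 : Led Lsl_gf (LP (LK LD1_c0 LD2_c49 LD3_c6)) = (LP (LK LD1_c1 LD2_c26 LD3_c54)) :=
  Lgr Lrot141 (Lpe (K0.f17770 IH) (Lpr_dt (K0.f17774 IH) (Lpr_gt (f94487 IH) (Lpe (K2.f62820 IH) (Lpe (f65405 IH) (Lpr_gt (K2.f23460 IH) (Lpr_dt (f23655 IH) (Lpr_gt (f12331 IH) (Lpe (K2.f62678 IH) (Lpr_et (f63108 IH) (Lpn (LP (LK LD1_c1 LD2_c26 LD3_c54)))))))))))))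
theorem f17767 : Led Lsl_at (LP (LK LD1_c1 LD2_c44 LD3_c49)) = (LP (LK LD1_c0 LD2_c49 LD3_c6)) :=
  Lre_a IH (LK LD1_c1 LD2_c44 LD3_c49) (LK LD1_c0 LD2_c49 LD3_c6) Lrfl Lrfl
theorem f106319 : Led Lsl_ft (LP (LK LD1_c1 LD2_c34 LD3_c22)) = (LP (LK LD1_c1 LD2_c44 LD3_c49)) :=
  Lgr Lrot2 (Lpr_gt (f106284 IH) (Lpe (f94536 IH) (Lpe (f17767 IH) (Lpn (LP (LK LD1_c1 LD2_c44 LD3_c49))))))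
theorem f106332 : Led Lsl_ff (LP (LK LD1_c1 LD2_c34 LD3_c22)) = (LP (LK LD1_c1 LD2_c44 LD3_c49)) :=
  Lgr Lrot3 (Lpr_ft (f106319 IH) (Lpn (LP (LK LD1_c1 LD2_c44 LD3_c49))))
theorem f106336 : Led Lsl_dt (LP (LK LD1_c3 LD2_c35 LD3_c56)) = (LP (LK LD1_c1 LD2_c44 LD3_c49)) :=
  Lre_d IH (LK LD1_c3 LD2_c35 LD3_c56) (LK LD1_c1 LD2_c44 LD3_c49) Lrfl Lrfl
theorem f106337 : Led Lsl_ft (LP (LK LD1_c3 LD2_c15 LD3_c20)) = (LP (LK LD1_c3 LD2_c35 LD3_c56)) :=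
  Lgr Lrot54 (Lpe (f65504 IH) (Lpr_ff (f106332 IH) (Lpe (f106336 IH) (Lpn (LP (LK LD1_c3 LD2_c35 LD3_c56))))))
theorem f95755 : Led Lsl_cf (LP (LK LD1_c1 LD2_c34 LD3_c22)) = (LP (LK LD1_c1 LD2_c31 LD3_c55)) :=
  Lgr Lrot39 (Lpr_et (f65503 IH) (Lpr_ct (K0.f23598 IH) (Lpr_et (f95751 IH) (Lpn (LP (LK LD1_c1 LD2_c31 LD3_c55))))))
theorem f23658 : Led Lsl_et (LP (LK LD1_c1 LD2_c33 LD3_c20)) = (LP (LK LD1_c0 LD2_c43 LD3_c16)) :=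
  Lre_e IH (LK LD1_c1 LD2_c33 LD3_c20) (LK LD1_c0 LD2_c43 LD3_c16) Lrfl Lrfl
theorem f23659 : Led Lsl_et (LP (LK LD1_c0 LD2_c43 LD3_c52)) = (LP (LK LD1_c1 LD2_c34 LD3_c22)) :=
  Lre_e IH (LK LD1_c0 LD2_c43 LD3_c52) (LK LD1_c1 LD2_c34 LD3_c22) Lrfl Lrfl
theorem f23660 : Led Lsl_bf (LP (LK LD1_c1 LD2_c33 LD3_c20)) = (LP (LK LD1_c1 LD2_c34 LD3_c22)) :=
  Lgr Lrot96 (Lpr_et (f23658 IH) (Lpr_bt (K0.f23599 IH) (Lpr_et (f23659 IH) (Lpn (LP (LK LD1_c1 LD2_c34 LD3_c22))))))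
theorem f95757 : Led Lsl_ct (LP (LK LD1_c1 LD2_c33 LD3_c20)) = (LP (LK LD1_c0 LD2_c43 LD3_c18)) :=
  Lre_c IH (LK LD1_c1 LD2_c33 LD3_c20) (LK LD1_c0 LD2_c43 LD3_c18) Lrfl Lrfl
theorem f95758 : Led Lsl_bt (LP (LK LD1_c0 LD2_c43 LD3_c18)) = (LP (LK LD1_c1 LD2_c31 LD3_c56)) :=
  Lgr Lrot128 (Lpe (f95757 IH) (Lpr_bf (f23660 IH) (Lpr_cf (f95755 IH) (Lpe (f86338 IH) (Lpe (f82463 IH) (Lpn (LP (LK LD1_c1 LD2_c31 LD3_c56))))))))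
theorem f95776 : Led Lsl_bf (LP (LK LD1_c0 LD2_c43 LD3_c18)) = (LP (LK LD1_c1 LD2_c31 LD3_c56)) :=
  Lgr Lrot24 (Lpr_bt (f95758 IH) (Lpn (LP (LK LD1_c1 LD2_c31 LD3_c56))))
theorem f95784 : Led Lsl_ct (LP (LK LD1_c0 LD2_c43 LD3_c18)) = (LP (LK LD1_c1 LD2_c33 LD3_c20)) :=
  Lre_c IH (LK LD1_c0 LD2_c43 LD3_c18) (LK LD1_c1 LD2_c33 LD3_c20) Lrfl Lrfl
theorem f82467 : Led Lsl_bt (LP (LK LD1_c1 LD2_c31 LD3_c55)) = (LP (LK LD1_c0 LD2_c42 LD3_c32)) :=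
  Lre_b IH (LK LD1_c1 LD2_c31 LD3_c55) (LK LD1_c0 LD2_c42 LD3_c32) Lrfl Lrfl
theorem f95749 : Led Lsl_ct (LP (LK LD1_c1 LD2_c34 LD3_c22)) = (LP (LK LD1_c1 LD2_c31 LD3_c55)) :=
  Lgr Lrot15 (Lpe (f23659 IH) (Lpe (K2.f23459 IH) (Lpr_ef (f95745 IH) (Lpn (LP (LK LD1_c1 LD2_c31 LD3_c55))))))
theorem f95818 : Led Lsl_bt (LP (LK LD1_c1 LD2_c33 LD3_c20)) = (LP (LK LD1_c1 LD2_c34 LD3_c22)) :=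
  Lgr Lrot128 (Lpe (f95784 IH) (Lpr_bf (f95776 IH) (Lpe (f86337 IH) (Lpe (f82467 IH) (Lpe (f95749 IH) (Lpn (LP (LK LD1_c1 LD2_c34 LD3_c22))))))))
theorem f95783 : Led Lsl_dt (LP (LK LD1_c3 LD2_c13 LD3_c32)) = (LP (LK LD1_c1 LD2_c33 LD3_c20)) :=
  Lre_d IH (LK LD1_c3 LD2_c13 LD3_c32) (LK LD1_c1 LD2_c33 LD3_c20) Lrfl Lrfl
theorem f95825 : Led Lsl_bf (LP (LK LD1_c3 LD2_c13 LD3_c32)) = (LP (LK LD1_c3 LD2_c15 LD3_c20)) :=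
  Lgr Lrot93 (Lpr_dt (f95783 IH) (Lpr_bt (f95818 IH) (Lpr_dt (f65504 IH) (Lpn (LP (LK LD1_c3 LD2_c15 LD3_c20))))))
theorem f95828 : Led Lsl_bt (LP (LK LD1_c3 LD2_c13 LD3_c32)) = (LP (LK LD1_c3 LD2_c15 LD3_c20)) :=
  Lgr Lrot127 (Lpr_bf (f95825 IH) (Lpn (LP (LK LD1_c3 LD2_c15 LD3_c20))))
theorem f84301 : Led Lsl_gt (LP (LK LD1_c0 LD2_c46 LD3_c52)) = (LP (LK LD1_c0 LD2_c23 LD3_c60)) :=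
  Lre_g IH (LK LD1_c0 LD2_c46 LD3_c52) (LK LD1_c0 LD2_c23 LD3_c60) Lrfl Lrfl
theorem f11087 : Led Lsl_at (LP (LK LD1_c0 LD2_c21 LD3_c15)) = (LP (LK LD1_c0 LD2_c46 LD3_c52)) :=
  Lre_a IH (LK LD1_c0 LD2_c21 LD3_c15) (LK LD1_c0 LD2_c46 LD3_c52) Lrfl Lrfl
theorem f11088 : Led Lsl_bt (LP (LK LD1_c0 LD2_c21 LD3_c15)) = (LP (LK LD1_c0 LD2_c9 LD3_c40)) :=
  Lre_b IH (LK LD1_c0 LD2_c21 LD3_c15) (LK LD1_c0 LD2_c9 LD3_c40) Lrfl Lrfl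
theorem f11090 : Led Lsl_bt (LP (LK LD1_c0 LD2_c46 LD3_c52)) = (LP (LK LD1_c0 LD2_c46 LD3_c52)) :=
  Lgr Lrot62 (Lpe (f11087 IH) (Lpe (K2.f7407 IH) (Lpr_af (K0.f11085 IH) (Lpe (f11088 IH) (Lpe (K2.f11089 IH) (Lpn (LP (LK LD1_c0 LD2_c46 LD3_c52))))))))
theorem f84302 : Led Lsl_gt (LP (LK LD1_c0 LD2_c44 LD3_c27)) = (LP (LK LD1_c1 LD2_c26 LD3_c40)) :=
  Lre_g IH (LK LD1_c0 LD2_c44 LD3_c27) (LK LD1_c1 LD2_c26 LD3_c40) Lrfl Lrfl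
theorem f84307 : Led Lsl_ct (LP (LK LD1_c1 LD2_c35 LD3_c51)) = (LP (LK LD1_c0 LD2_c44 LD3_c27)) :=
  Lre_c IH (LK LD1_c1 LD2_c35 LD3_c51) (LK LD1_c0 LD2_c44 LD3_c27) Lrfl Lrfl
theorem f87496 : Led Lsl_gt (LP (LK LD1_c1 LD2_c42 LD3_c44)) = (LP (LK LD1_c0 LD2_c47 LD3_c59)) :=
  Lre_g IH (LK LD1_c1 LD2_c42 LD3_c44) (LK LD1_c0 LD2_c47 LD3_c59) Lrfl Lrfl
theorem f12168 : Led Lsl_ct (LP (LK LD1_c0 LD2_c10 LD3_c43)) = (LP (LK LD1_c0 LD2_c19 LD3_c48)) :=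
  Lre_c IH (LK LD1_c0 LD2_c10 LD3_c43) (LK LD1_c0 LD2_c19 LD3_c48) Lrfl Lrfl
theorem f7445 : Led Lsl_gt (LP (LK LD1_c0 LD2_c19 LD3_c48)) = (LP (LK LD1_c0 LD2_c44 LD3_c27)) :=
  Lre_g IH (LK LD1_c0 LD2_c19 LD3_c48) (LK LD1_c0 LD2_c44 LD3_c27) Lrfl Lrfl
theorem f94378 : Led Lsl_bf (LP (LK LD1_c1 LD2_c42 LD3_c44)) = (LP (LK LD1_c1 LD2_c35 LD3_c51)) :=
  Lgr Lrot156 (Lpr_gt (f87496 IH) (Lpe (K2.f87497 IH) (Lpr_ct (K2.f87478 IH) (Lpr_gt (K2.f87514 IH) (Lpr_cf (K2.f94368 IH) (Lpr_bt (K2.f10009 IH) (Lpr_gt (K2.f10008 IH) (Lpr_ct (f12168 IH) (Lpr_gt (f7445 IH) (Lpe (f84307 IH) (Lpn (LP (LK LD1_c1 LD2_c35 LD3_c51)))))))))))))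
theorem f95926 : Led Lsl_gt (LP (LK LD1_c1 LD2_c33 LD3_c20)) = (LP (LK LD1_c1 LD2_c42 LD3_c44)) :=
  Lgr Lrot164 (Lpr_bf (f23660 IH) (Lpr_ct (f95749 IH) (Lpe (f88970 IH) (Lpe (K2.f84299 IH) (Lpe (f84301 IH) (Lpe (f11090 IH) (Lpr_ct (f12640 IH) (Lpe (f84302 IH) (Lpe (f84307 IH) (Lpe (f94378 IH) (Lpn (LP (LK LD1_c1 LD2_c42 LD3_c44)))))))))))))
theorem f87491 : Led Lsl_at (LP (LK LD1_c1 LD2_c42 LD3_c42)) = (LP (LK LD1_c0 LD2_c47 LD3_c59)) :=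
  Lre_a IH (LK LD1_c1 LD2_c42 LD3_c42) (LK LD1_c0 LD2_c47 LD3_c59) Lrfl Lrfl
theorem f95928 : Led Lsl_ft (LP (LK LD1_c1 LD2_c33 LD3_c20)) = (LP (LK LD1_c1 LD2_c42 LD3_c42)) :=
  Lgr Lrot2 (Lpr_gt (f95926 IH) (Lpr_gt (f87496 IH) (Lpe (f87491 IH) (Lpn (LP (LK LD1_c1 LD2_c42 LD3_c42))))))
theorem f95930 : Led Lsl_dt (LP (LK LD1_c1 LD2_c42 LD3_c42)) = (LP (LK LD1_c3 LD2_c32 LD3_c2)) :=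
  Lre_d IH (LK LD1_c1 LD2_c42 LD3_c42) (LK LD1_c3 LD2_c32 LD3_c2) Lrfl Lrfl
theorem f95931 : Led Lsl_ff (LP (LK LD1_c3 LD2_c13 LD3_c32)) = (LP (LK LD1_c3 LD2_c32 LD3_c2)) :=
  Lgr Lrot19 (Lpr_dt (f95783 IH) (Lpr_ft (f95928 IH) (Lpr_dt (f95930 IH) (Lpn (LP (LK LD1_c3 LD2_c32 LD3_c2))))))
theorem f106340 : Led Lsl_bf (LP (LK LD1_c3 LD2_c32 LD3_c2)) = (LP (LK LD1_c3 LD2_c35 LD3_c56)) :=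
  Lgr Lrot61 (Lpe (f95931 IH) (Lpr_bt (f95828 IH) (Lpr_ft (f106337 IH) (Lpn (LP (LK LD1_c3 LD2_c35 LD3_c56))))))
theorem f106424 : Led Lsl_bt (LP (LK LD1_c3 LD2_c32 LD3_c2)) = (LP (LK LD1_c3 LD2_c35 LD3_c56)) :=
  Lgr Lrot127 (Lpr_bf (f106340 IH) (Lpn (LP (LK LD1_c3 LD2_c35 LD3_c56))))
theorem f95959 : Led Lsl_at (LP (LK LD1_c1 LD2_c42 LD3_c45)) = (LP (LK LD1_c3 LD2_c32 LD3_c2)) :=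
  Lre_a IH (LK LD1_c1 LD2_c42 LD3_c45) (LK LD1_c3 LD2_c32 LD3_c2) Lrfl Lrfl
theorem f106064 : Led Lsl_bt (LP (LK LD1_c0 LD2_c48 LD3_c4)) = (LP (LK LD1_c1 LD2_c42 LD3_c45)) :=
  Lre_b IH (LK LD1_c0 LD2_c48 LD3_c4) (LK LD1_c1 LD2_c42 LD3_c45) Lrfl Lrfl
theorem f86697 : Led Lsl_at (LP (LK LD1_c3 LD2_c35 LD3_c56)) = (LP (LK LD1_c1 LD2_c44 LD3_c52)) :=
  Lre_a IH (LK LD1_c3 LD2_c35 LD3_c56) (LK LD1_c1 LD2_c44 LD3_c52) Lrfl Lrfl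
theorem f106426 : Led Lsl_af (LP (LK LD1_c0 LD2_c48 LD3_c4)) = (LP (LK LD1_c0 LD2_c49 LD3_c11)) :=
  Lgr Lrot36 (Lpr_bt (f106064 IH) (Lpr_at (f95959 IH) (Lpr_bt (f106424 IH) (Lpr_at (f86697 IH) (Lpr_bt (f86690 IH) (Lpn (LP (LK LD1_c0 LD2_c49 LD3_c11))))))))
theorem f94430 : Led Lsl_gt (LP (LK LD1_c0 LD2_c48 LD3_c36)) = (LP (LK LD1_c0 LD2_c21 LD3_c44)) :=
  Lre_g IH (LK LD1_c0 LD2_c48 LD3_c36) (LK LD1_c0 LD2_c21 LD3_c44) Lrfl Lrfl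
theorem f106432 : Led Lsl_ft (LP (LK LD1_c0 LD2_c48 LD3_c36)) = (LP (LK LD1_c0 LD2_c49 LD3_c11)) :=
  Lgr Lrot2 (Lpr_gt (f94430 IH) (Lpe (f106004 IH) (Lpr_af (f106426 IH) (Lpn (LP (LK LD1_c0 LD2_c49 LD3_c11))))))
theorem f106442 : Led Lsl_ff (LP (LK LD1_c0 LD2_c48 LD3_c36)) = (LP (LK LD1_c0 LD2_c49 LD3_c11)) :=
  Lgr Lrot3 (Lpr_ft (f106432 IH) (Lpn (LP (LK LD1_c0 LD2_c49 LD3_c11))))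
theorem f106452 : Led Lsl_at (LP (LK LD1_c0 LD2_c48 LD3_c36)) = (LP (LK LD1_c0 LD2_c49 LD3_c46)) :=
  Lgr Lrot26 (Lpr_ff (f106442 IH) (Lpr_gt (f86709 IH) (Lpr_gt (f17969 IH) (Lpn (LP (LK LD1_c0 LD2_c49 LD3_c46))))))
theorem f95940 : Led Lsl_at (LP (LK LD1_c3 LD2_c32 LD3_c2)) = (LP (LK LD1_c1 LD2_c42 LD3_c45)) :=
  Lre_a IH (LK LD1_c3 LD2_c32 LD3_c2) (LK LD1_c1 LD2_c42 LD3_c45) Lrfl Lrfl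
theorem f106028 : Led Lsl_bt (LP (LK LD1_c1 LD2_c42 LD3_c45)) = (LP (LK LD1_c0 LD2_c48 LD3_c4)) :=
  Lre_b IH (LK LD1_c1 LD2_c42 LD3_c45) (LK LD1_c0 LD2_c48 LD3_c4) Lrfl Lrfl
theorem f86689 : Led Lsl_at (LP (LK LD1_c1 LD2_c44 LD3_c52)) = (LP (LK LD1_c3 LD2_c35 LD3_c56)) :=
  Lre_a IH (LK LD1_c1 LD2_c44 LD3_c52) (LK LD1_c3 LD2_c35 LD3_c56) Lrfl Lrfl
theorem f86704 : Led Lsl_bt (LP (LK LD1_c0 LD2_c49 LD3_c11)) = (LP (LK LD1_c1 LD2_c44 LD3_c52)) :=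
  Lre_b IH (LK LD1_c0 LD2_c49 LD3_c11) (LK LD1_c1 LD2_c44 LD3_c52) Lrfl Lrfl
theorem f106422 : Led Lsl_at (LP (LK LD1_c0 LD2_c48 LD3_c4)) = (LP (LK LD1_c0 LD2_c49 LD3_c11)) :=
  Lgr Lrot67 (Lpe (f106028 IH) (Lpe (f95940 IH) (Lpr_bf (f106340 IH) (Lpe (f86689 IH) (Lpe (f86704 IH) (Lpn (LP (LK LD1_c0 LD2_c49 LD3_c11))))))))
theorem f106458 : Led Lsl_ff (LP (LK LD1_c0 LD2_c48 LD3_c4)) = (LP (LK LD1_c0 LD2_c49 LD3_c46)) :=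
  Lgr Lrot30 (Lpr_at (f106422 IH) (Lpe (f106442 IH) (Lpr_at (f106452 IH) (Lpn (LP (LK LD1_c0 LD2_c49 LD3_c46))))))
theorem f106466 : Led Lsl_ft (LP (LK LD1_c0 LD2_c48 LD3_c4)) = (LP (LK LD1_c0 LD2_c49 LD3_c46)) :=
  Lgr Lrot48 (Lpr_ff (f106458 IH) (Lpn (LP (LK LD1_c0 LD2_c49 LD3_c46))))
theorem f94398 : Led Lsl_gt (LP (LK LD1_c0 LD2_c48 LD3_c4)) = (LP (LK LD1_c1 LD2_c42 LD3_c57)) :=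
  Lre_g IH (LK LD1_c0 LD2_c48 LD3_c4) (LK LD1_c1 LD2_c42 LD3_c57) Lrfl Lrfl
theorem f106454 : Led Lsl_af (LP (LK LD1_c0 LD2_c48 LD3_c36)) = (LP (LK LD1_c0 LD2_c49 LD3_c46)) :=
  Lgr Lrot0 (Lpr_at (f106452 IH) (Lpn (LP (LK LD1_c0 LD2_c49 LD3_c46))))
theorem f106474 : Led Lsl_gt (LP (LK LD1_c1 LD2_c42 LD3_c57)) = (LP (LK LD1_c0 LD2_c48 LD3_c36)) :=
  Lgr Lrot46 (Lpe (f94398 IH) (Lpr_ft (f106466 IH) (Lpe (f106454 IH) (Lpn (LP (LK LD1_c0 LD2_c48 LD3_c36))))))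
theorem f106608 : Led Lsl_ft (LP (LK LD1_c1 LD2_c42 LD3_c57)) = (LP (LK LD1_c0 LD2_c48 LD3_c15)) :=
  Lgr Lrot2 (Lpr_gt (f106474 IH) (Lpr_gt (f94430 IH) (Lpe (K2.f10386 IH) (Lpn (LP (LK LD1_c0 LD2_c48 LD3_c15))))))
theorem f106622 : Led Lsl_ff (LP (LK LD1_c1 LD2_c42 LD3_c57)) = (LP (LK LD1_c0 LD2_c48 LD3_c15)) :=
  Lgr Lrot3 (Lpr_ft (f106608 IH) (Lpn (LP (LK LD1_c0 LD2_c48 LD3_c15))))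
theorem f10434 : Led Lsl_ft (LP (LK LD1_c0 LD2_c48 LD3_c16)) = (LP (LK LD1_c0 LD2_c21 LD3_c37)) :=
  Lre_f IH (LK LD1_c0 LD2_c48 LD3_c16) (LK LD1_c0 LD2_c21 LD3_c37) Lrfl Lrfl
theorem f106630 : Led Lsl_dt (LP (LK LD1_c1 LD2_c42 LD3_c57)) = (LP (LK LD1_c0 LD2_c48 LD3_c16)) :=
  Lgr Lrot60 (Lpr_ff (f106622 IH) (Lpe (K0.f10308 IH) (Lpe (f10434 IH) (Lpn (LP (LK LD1_c0 LD2_c48 LD3_c16))))))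
theorem f106492 : Led Lsl_ct (LP (LK LD1_c3 LD2_c32 LD3_c29)) = (LP (LK LD1_c1 LD2_c42 LD3_c57)) :=
  Lre_c IH (LK LD1_c3 LD2_c32 LD3_c29) (LK LD1_c1 LD2_c42 LD3_c57) Lrfl Lrfl
theorem f10433 : Led Lsl_ft (LP (LK LD1_c0 LD2_c21 LD3_c37)) = (LP (LK LD1_c0 LD2_c48 LD3_c16)) :=
  Lre_f IH (LK LD1_c0 LD2_c21 LD3_c37) (LK LD1_c0 LD2_c48 LD3_c16) Lrfl Lrfl
theorem f19429 : Led Lsl_ct (LP (LK LD1_c0 LD2_c48 LD3_c16)) = (LP (LK LD1_c0 LD2_c48 LD3_c16)) :=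
  Lgr Lrot40 (Lpe (f10433 IH) (Lpr_cf (K0.f19348 IH) (Lpe (f10434 IH) (Lpn (LP (LK LD1_c0 LD2_c48 LD3_c16))))))
theorem f106620 : Led Lsl_df (LP (LK LD1_c1 LD2_c42 LD3_c57)) = (LP (LK LD1_c0 LD2_c48 LD3_c16)) :=
  Lgr Lrot78 (Lpr_ft (f106608 IH) (Lpr_dt (K0.f10397 IH) (Lpr_ft (f10433 IH) (Lpn (LP (LK LD1_c0 LD2_c48 LD3_c16))))))
theorem f106610 : Led Lsl_ct (LP (LK LD1_c1 LD2_c42 LD3_c57)) = (LP (LK LD1_c3 LD2_c32 LD3_c29)) :=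
  Lre_c IH (LK LD1_c1 LD2_c42 LD3_c57) (LK LD1_c3 LD2_c32 LD3_c29) Lrfl Lrfl
theorem f19734 : Led Lsl_ct (LP (LK LD1_c0 LD2_c48 LD3_c37)) = (LP (LK LD1_c0 LD2_c21 LD3_c44)) :=
  Lre_c IH (LK LD1_c0 LD2_c48 LD3_c37) (LK LD1_c0 LD2_c21 LD3_c44) Lrfl Lrfl
theorem f19735 : Led Lsl_dt (LP (LK LD1_c1 LD2_c44 LD3_c8)) = (LP (LK LD1_c0 LD2_c48 LD3_c37)) :=
  Lre_d IH (LK LD1_c1 LD2_c44 LD3_c8) (LK LD1_c0 LD2_c48 LD3_c37) Lrfl Lrfl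
theorem f19455 : Led Lsl_ct (LP (LK LD1_c3 LD2_c34 LD3_c49)) = (LP (LK LD1_c1 LD2_c44 LD3_c8)) :=
  Lre_c IH (LK LD1_c3 LD2_c34 LD3_c49) (LK LD1_c1 LD2_c44 LD3_c8) Lrfl Lrfl
theorem f106632 : Led Lsl_df (LP (LK LD1_c3 LD2_c34 LD3_c49)) = (LP (LK LD1_c3 LD2_c32 LD3_c29)) :=
  Lgr Lrot13 (Lpr_ct (f19455 IH) (Lpr_dt (f19735 IH) (Lpr_ct (f19734 IH) (Lpe (K2.f10386 IH) (Lpe (f106608 IH) (Lpr_dt (f106630 IH) (Lpr_ct (f19429 IH) (Lpe (f106620 IH) (Lpr_ct (f106610 IH) (Lpn (LP (LK LD1_c3 LD2_c32 LD3_c29))))))))))))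
theorem f19437 : Led Lsl_at (LP (LK LD1_c3 LD2_c32 LD3_c60)) = (LP (LK LD1_c1 LD2_c44 LD3_c8)) :=
  Lre_a IH (LK LD1_c3 LD2_c32 LD3_c60) (LK LD1_c1 LD2_c44 LD3_c8) Lrfl Lrfl
theorem f19454 : Led Lsl_ft (LP (LK LD1_c1 LD2_c44 LD3_c8)) = (LP (LK LD1_c3 LD2_c34 LD3_c51)) :=
  Lre_f IH (LK LD1_c1 LD2_c44 LD3_c8) (LK LD1_c3 LD2_c34 LD3_c51) Lrfl Lrfl
theorem f19456 : Led Lsl_ff (LP (LK LD1_c3 LD2_c34 LD3_c49)) = (LP (LK LD1_c3 LD2_c32 LD3_c60)) :=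
  Lgr Lrot23 (Lpr_ct (f19455 IH) (Lpr_ft (f19454 IH) (Lpr_ct (K0.f19432 IH) (Lpn (LP (LK LD1_c3 LD2_c32 LD3_c60))))))
theorem f19472 : Led Lsl_ft (LP (LK LD1_c3 LD2_c34 LD3_c49)) = (LP (LK LD1_c3 LD2_c32 LD3_c60)) :=
  Lgr Lrot48 (Lpr_ff (f19456 IH) (Lpn (LP (LK LD1_c3 LD2_c32 LD3_c60))))
theorem f106634 : Led Lsl_df (LP (LK LD1_c3 LD2_c32 LD3_c29)) = (LP (LK LD1_c3 LD2_c34 LD3_c49)) :=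
  Lgr Lrot157 (Lpr_ct (f106492 IH) (Lpr_dt (f106630 IH) (Lpr_ct (f19429 IH) (Lpe (f106620 IH) (Lpr_ct (f106610 IH) (Lpe (f106632 IH) (Lpr_ct (f19455 IH) (Lpe (f19437 IH) (Lpe (f19472 IH) (Lpn (LP (LK LD1_c3 LD2_c34 LD3_c49))))))))))))
theorem f19438 : Led Lsl_ct (LP (LK LD1_c1 LD2_c44 LD3_c8)) = (LP (LK LD1_c3 LD2_c34 LD3_c49)) :=
  Lre_c IH (LK LD1_c1 LD2_c44 LD3_c8) (LK LD1_c3 LD2_c34 LD3_c49) Lrfl Lrfl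
theorem f19731 : Led Lsl_dt (LP (LK LD1_c0 LD2_c48 LD3_c37)) = (LP (LK LD1_c1 LD2_c44 LD3_c8)) :=
  Lre_d IH (LK LD1_c0 LD2_c48 LD3_c37) (LK LD1_c1 LD2_c44 LD3_c8) Lrfl Lrfl
theorem f106636 : Led Lsl_ft (LP (LK LD1_c0 LD2_c48 LD3_c37)) = (LP (LK LD1_c1 LD2_c44 LD3_c9)) :=
  Lre_f IH (LK LD1_c0 LD2_c48 LD3_c37) (LK LD1_c1 LD2_c44 LD3_c9) Lrfl Lrfl
theorem f106637 : Led Lsl_at (LP (LK LD1_c1 LD2_c44 LD3_c9)) = (LP (LK LD1_c3 LD2_c32 LD3_c29)) :=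
  Lgr Lrot33 (Lpe (f106636 IH) (Lpr_dt (f19731 IH) (Lpr_ct (f19438 IH) (Lpe (f106634 IH) (Lpr_ct (f106492 IH) (Lpr_dt (f106630 IH) (Lpr_ct (f19429 IH) (Lpe (f106620 IH) (Lpr_ct (f106610 IH) (Lpn (LP (LK LD1_c3 LD2_c32 LD3_c29))))))))))))
theorem f11485 : Led Lsl_gt (LP (LK LD1_c0 LD2_c48 LD3_c37)) = (LP (LK LD1_c1 LD2_c44 LD3_c5)) :=
  Lre_g IH (LK LD1_c0 LD2_c48 LD3_c37) (LK LD1_c1 LD2_c44 LD3_c5) Lrfl Lrfl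
theorem f106646 : Led Lsl_gt (LP (LK LD1_c1 LD2_c44 LD3_c5)) = (LP (LK LD1_c3 LD2_c32 LD3_c29)) :=
  Lgr Lrot46 (Lpe (f11485 IH) (Lpr_ft (f106636 IH) (Lpr_at (f106637 IH) (Lpn (LP (LK LD1_c3 LD2_c32 LD3_c29))))))
theorem f11484 : Led Lsl_ct (LP (LK LD1_c0 LD2_c21 LD3_c44)) = (LP (LK LD1_c0 LD2_c48 LD3_c37)) :=
  Lre_c IH (LK LD1_c0 LD2_c21 LD3_c44) (LK LD1_c0 LD2_c48 LD3_c37) Lrfl Lrfl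
theorem f11478 : Led Lsl_ct (LP (LK LD1_c1 LD2_c40 LD3_c34)) = (LP (LK LD1_c0 LD2_c46 LD3_c44)) :=
  Lre_c IH (LK LD1_c1 LD2_c40 LD3_c34) (LK LD1_c0 LD2_c46 LD3_c44) Lrfl Lrfl
theorem f17260 : Led Lsl_dt (LP (LK LD1_c0 LD2_c46 LD3_c44)) = (LP (LK LD1_c0 LD2_c20 LD3_c57)) :=
  Lre_d IH (LK LD1_c0 LD2_c46 LD3_c44) (LK LD1_c0 LD2_c20 LD3_c57) Lrfl Lrfl
theorem f11931 : Led Lsl_ct (LP (LK LD1_c0 LD2_c45 LD3_c32)) = (LP (LK LD1_c0 LD2_c20 LD3_c57)) :=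
  Lre_c IH (LK LD1_c0 LD2_c45 LD3_c32) (LK LD1_c0 LD2_c20 LD3_c57) Lrfl Lrfl
theorem f17635 : Led Lsl_cf (LP (LK LD1_c0 LD2_c9 LD3_c60)) = (LP (LK LD1_c0 LD2_c9 LD3_c60)) :=
  Lgr Lrot39 (Lpr_et (K0.f10290 IH) (Lpr_ct (K0.f17629 IH) (Lpr_et (K0.f10258 IH) (Lpn (LP (LK LD1_c0 LD2_c9 LD3_c60))))))
theorem f10444 : Led Lsl_bt (LP (LK LD1_c0 LD2_c9 LD3_c60)) = (LP (LK LD1_c0 LD2_c4 LD3_c43)) :=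
  Lre_b IH (LK LD1_c0 LD2_c9 LD3_c60) (LK LD1_c0 LD2_c4 LD3_c43) Lrfl Lrfl
theorem f94405 : Led Lsl_gt (LP (LK LD1_c1 LD2_c42 LD3_c46)) = (LP (LK LD1_c1 LD2_c42 LD3_c4)) :=
  Lgr Lrot82 (Lpe (K2.f87479 IH) (Lpr_ct (K2.f87498 IH) (Lpr_gf (K2.f94376 IH) (Lpr_cf (f17635 IH) (Lpr_bt (f10444 IH) (Lpe (K0.f11929 IH) (Lpe (K0.f9817 IH) (Lpr_ct (K2.f11932 IH) (Lpe (K2.f11933 IH) (Lpr_cf (K2.f11935 IH) (Lpn (LP (LK LD1_c1 LD2_c42 LD3_c4)))))))))))))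
theorem f87508 : Led Lsl_dt (LP (LK LD1_c1 LD2_c42 LD3_c46)) = (LP (LK LD1_c3 LD2_c32 LD3_c9)) :=
  Lre_d IH (LK LD1_c1 LD2_c42 LD3_c46) (LK LD1_c3 LD2_c32 LD3_c9) Lrfl Lrfl
theorem f106270 : Led Lsl_gt (LP (LK LD1_c3 LD2_c32 LD3_c9)) = (LP (LK LD1_c3 LD2_c28 LD3_c31)) :=
  Lgr Lrot9 (Lpe (f87508 IH) (Lpr_gt (f94405 IH) (Lpe (K2.f11935 IH) (Lpr_gt (K2.f11933 IH) (Lpr_ct (f11931 IH) (Lpe (f17260 IH) (Lpe (f11478 IH) (Lpe (f11481 IH) (Lpr_cf (f106262 IH) (Lpn (LP (LK LD1_c3 LD2_c28 LD3_c31))))))))))))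
theorem f106273 : Led Lsl_bt (LP (LK LD1_c1 LD2_c42 LD3_c49)) = (LP (LK LD1_c3 LD2_c32 LD3_c9)) :=
  Lre_b IH (LK LD1_c1 LD2_c42 LD3_c49) (LK LD1_c3 LD2_c32 LD3_c9) Lrfl Lrfl
theorem f106274 : Led Lsl_cf (LP (LK LD1_c1 LD2_c44 LD3_c5)) = (LP (LK LD1_c1 LD2_c42 LD3_c49)) :=
  Lgr Lrot58 (Lpe (f11485 IH) (Lpe (f11484 IH) (Lpr_bt (K2.f10385 IH) (Lpe (K0.f11472 IH) (Lpe (f9827 IH) (Lpr_ct (f11480 IH) (Lpe (f11481 IH) (Lpr_cf (f106262 IH) (Lpe (f106270 IH) (Lpe (f106273 IH) (Lpn (LP (LK LD1_c1 LD2_c42 LD3_c49)))))))))))))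
theorem f84735 : Led Lsl_et (LP (LK LD1_c0 LD2_c48 LD3_c0)) = (LP (LK LD1_c0 LD2_c21 LD3_c30)) :=
  Lre_e IH (LK LD1_c0 LD2_c48 LD3_c0) (LK LD1_c0 LD2_c21 LD3_c30) Lrfl Lrfl
theorem f84736 : Led Lsl_dt (LP (LK LD1_c0 LD2_c48 LD3_c0)) = (LP (LK LD1_c1 LD2_c42 LD3_c49)) :=
  Lre_d IH (LK LD1_c0 LD2_c48 LD3_c0) (LK LD1_c1 LD2_c42 LD3_c49) Lrfl Lrfl
theorem f105965 : Led Lsl_gf (LP (LK LD1_c1 LD2_c42 LD3_c49)) = (LP (LK LD1_c3 LD2_c28 LD3_c21)) :=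
  Lgr Lrot145 (Lpe (f84736 IH) (Lpr_et (f84735 IH) (Lpr_gt (K2.f84720 IH) (Lpr_dt (f87146 IH) (Lpe (f97312 IH) (Lpe (f5258 IH) (Lpr_et (f105955 IH) (Lpr_gt (K2.f84691 IH) (Lpe (K2.f19368 IH) (Lpr_dt (K2.f19389 IH) (Lpn (LP (LK LD1_c3 LD2_c28 LD3_c21)))))))))))))
theorem f85331 : Led Lsl_ct (LP (LK LD1_c1 LD2_c40 LD3_c50)) = (LP (LK LD1_c3 LD2_c28 LD3_c23)) :=
  Lre_c IH (LK LD1_c1 LD2_c40 LD3_c50) (LK LD1_c3 LD2_c28 LD3_c23) Lrfl Lrfl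
theorem f106626 : Led Lsl_bt (LP (LK LD1_c1 LD2_c42 LD3_c57)) = (LP (LK LD1_c1 LD2_c42 LD3_c57)) :=
  Lgr Lrot35 (Lpr_ff (f106622 IH) (Lpe (K2.f10387 IH) (Lpe (f106608 IH) (Lpn (LP (LK LD1_c1 LD2_c42 LD3_c57))))))
theorem f106434 : Led Lsl_bt (LP (LK LD1_c1 LD2_c44 LD3_c2)) = (LP (LK LD1_c0 LD2_c48 LD3_c36)) :=
  Lre_b IH (LK LD1_c1 LD2_c44 LD3_c2) (LK LD1_c0 LD2_c48 LD3_c36) Lrfl Lrfl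
theorem f106614 : Led Lsl_ct (LP (LK LD1_c1 LD2_c44 LD3_c2)) = (LP (LK LD1_c3 LD2_c34 LD3_c30)) :=
  Lre_c IH (LK LD1_c1 LD2_c44 LD3_c2) (LK LD1_c3 LD2_c34 LD3_c30) Lrfl Lrfl
theorem f106658 : Led Lsl_gf (LP (LK LD1_c3 LD2_c28 LD3_c23)) = (LP (LK LD1_c3 LD2_c34 LD3_c30)) :=
  Lgr Lrot126 (Lpe (f85331 IH) (Lpr_bt (K2.f19395 IH) (Lpe (f105965 IH) (Lpe (f106274 IH) (Lpr_gt (f106646 IH) (Lpe (f106610 IH) (Lpr_bt (f106626 IH) (Lpr_gt (f106474 IH) (Lpe (f106434 IH) (Lpr_ct (f106614 IH) (Lpn (LP (LK LD1_c3 LD2_c34 LD3_c30)))))))))))))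
theorem f85590 : Led Lsl_at (LP (LK LD1_c1 LD2_c41 LD3_c8)) = (LP (LK LD1_c3 LD2_c28 LD3_c23)) :=
  Lre_a IH (LK LD1_c1 LD2_c41 LD3_c8) (LK LD1_c3 LD2_c28 LD3_c23) Lrfl Lrfl
theorem f85589 : Led Lsl_ft (LP (LK LD1_c3 LD2_c28 LD3_c51)) = (LP (LK LD1_c1 LD2_c41 LD3_c8)) :=
  Lre_f IH (LK LD1_c3 LD2_c28 LD3_c51) (LK LD1_c1 LD2_c41 LD3_c8) Lrfl Lrfl
theorem f106665 : Led Lsl_gt (LP (LK LD1_c3 LD2_c28 LD3_c51)) = (LP (LK LD1_c3 LD2_c34 LD3_c30)) :=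
  Lgr Lrot5 (Lpr_ft (f85589 IH) (Lpr_at (f85590 IH) (Lpr_gf (f106658 IH) (Lpn (LP (LK LD1_c3 LD2_c34 LD3_c30))))))
theorem f85578 : Led Lsl_ct (LP (LK LD1_c1 LD2_c41 LD3_c9)) = (LP (LK LD1_c3 LD2_c28 LD3_c51)) :=
  Lre_c IH (LK LD1_c1 LD2_c41 LD3_c9) (LK LD1_c3 LD2_c28 LD3_c51) Lrfl Lrfl
theorem f85313 : Led Lsl_at (LP (LK LD1_c0 LD2_c53 LD3_c21)) = (LP (LK LD1_c1 LD2_c41 LD3_c9)) :=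
  Lgr Lrot100 (Lpr_af (f85289 IH) (Lpn (LP (LK LD1_c1 LD2_c41 LD3_c9))))
theorem f87597 : Led Lsl_gf (LP (LK LD1_c1 LD2_c41 LD3_c9)) = (LP (LK LD1_c0 LD2_c47 LD3_c33)) :=
  Lgr Lrot76 (Lpe (f85313 IH) (Lpr_ff (f85336 IH) (Lpr_gt (K2.f87588 IH) (Lpn (LP (LK LD1_c0 LD2_c47 LD3_c33))))))
theorem f105736 : Led Lsl_cf (LP (LK LD1_c0 LD2_c49 LD3_c29)) = (LP (LK LD1_c0 LD2_c51 LD3_c41)) :=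
  Lgr Lrot11 (Lpr_ct (f105732 IH) (Lpn (LP (LK LD1_c0 LD2_c51 LD3_c41))))
theorem f106667 : Led Lsl_ct (LP (LK LD1_c3 LD2_c34 LD3_c30)) = (LP (LK LD1_c1 LD2_c44 LD3_c2)) :=
  Lre_c IH (LK LD1_c3 LD2_c34 LD3_c30) (LK LD1_c1 LD2_c44 LD3_c2) Lrfl Lrfl
theorem f106677 : Led Lsl_df (LP (LK LD1_c0 LD2_c49 LD3_c29)) = (LP (LK LD1_c1 LD2_c44 LD3_c2)) :=
  Lgr Lrot162 (Lpr_cf (f105736 IH) (Lpe (f105644 IH) (Lpe (f64516 IH) (Lpe (K2.f7408 IH) (Lpr_dt (K2.f64520 IH) (Lpe (f87597 IH) (Lpr_ct (f85578 IH) (Lpr_gt (f106665 IH) (Lpr_ct (f106667 IH) (Lpn (LP (LK LD1_c1 LD2_c44 LD3_c2))))))))))))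
theorem f106435 : Led Lsl_ff (LP (LK LD1_c1 LD2_c44 LD3_c2)) = (LP (LK LD1_c1 LD2_c44 LD3_c52)) :=
  Lgr Lrot25 (Lpr_bt (f106434 IH) (Lpr_ft (f106432 IH) (Lpr_bt (f86704 IH) (Lpn (LP (LK LD1_c1 LD2_c44 LD3_c52))))))
theorem f106685 : Led Lsl_ft (LP (LK LD1_c0 LD2_c49 LD3_c29)) = (LP (LK LD1_c0 LD2_c49 LD3_c6)) :=
  Lgr Lrot54 (Lpr_df (f106677 IH) (Lpr_ff (f106435 IH) (Lpe (f17764 IH) (Lpn (LP (LK LD1_c0 LD2_c49 LD3_c6))))))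
theorem f106695 : Led Lsl_ff (LP (LK LD1_c0 LD2_c49 LD3_c29)) = (LP (LK LD1_c0 LD2_c49 LD3_c6)) :=
  Lgr Lrot3 (Lpr_ft (f106685 IH) (Lpn (LP (LK LD1_c0 LD2_c49 LD3_c6))))
theorem f106699 : Led Lsl_at (LP (LK LD1_c0 LD2_c49 LD3_c29)) = (LP (LK LD1_c1 LD2_c34 LD3_c22)) :=
  Lgr Lrot66 (Lpr_ff (f106695 IH) (Lpe (f17767 IH) (Lpe (f106319 IH) (Lpn (LP (LK LD1_c1 LD2_c34 LD3_c22))))))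
theorem f17768 : Led Lsl_gt (LP (LK LD1_c0 LD2_c49 LD3_c6)) = (LP (LK LD1_c1 LD2_c44 LD3_c51)) :=
  Lre_g IH (LK LD1_c0 LD2_c49 LD3_c6) (LK LD1_c1 LD2_c44 LD3_c51) Lrfl Lrfl
theorem f106705 : Led Lsl_gf (LP (LK LD1_c1 LD2_c34 LD3_c22)) = (LP (LK LD1_c1 LD2_c44 LD3_c51)) :=
  Lgr Lrot76 (Lpe (f106699 IH) (Lpr_ff (f106695 IH) (Lpr_gt (f17768 IH) (Lpn (LP (LK LD1_c1 LD2_c44 LD3_c51))))))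
theorem f106707 : Led Lsl_ct (LP (LK LD1_c1 LD2_c27 LD3_c11)) = (LP (LK LD1_c1 LD2_c44 LD3_c51)) :=
  Lgr Lrot91 (Lpe (f12162 IH) (Lpe (f64525 IH) (Lpr_ct (K2.f7487 IH) (Lpe (f86029 IH) (Lpe (K1.f24986 IH) (Lpr_bt (K2.f24987 IH) (Lpe (f82461 IH) (Lpe (f82467 IH) (Lpe (f95755 IH) (Lpr_gf (f106705 IH) (Lpn (LP (LK LD1_c1 LD2_c44 LD3_c51)))))))))))))
theorem f106709 : Led Lsl_cf (LP (LK LD1_c1 LD2_c27 LD3_c11)) = (LP (LK LD1_c1 LD2_c44 LD3_c51)) :=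
  Lgr Lrot11 (Lpr_ct (f106707 IH) (Lpn (LP (LK LD1_c1 LD2_c44 LD3_c51))))
theorem f64498 : Led Lsl_ct (LP (LK LD1_c0 LD2_c23 LD3_c14)) = (LP (LK LD1_c0 LD2_c43 LD3_c46)) :=
  Lre_c IH (LK LD1_c0 LD2_c23 LD3_c14) (LK LD1_c0 LD2_c43 LD3_c46) Lrfl Lrfl
theorem f11100 : Led Lsl_bt (LP (LK LD1_c0 LD2_c10 LD3_c43)) = (LP (LK LD1_c0 LD2_c5 LD3_c4)) :=
  Lre_b IH (LK LD1_c0 LD2_c10 LD3_c43) (LK LD1_c0 LD2_c5 LD3_c4) Lrfl Lrfl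
theorem f11101 : Led Lsl_at (LP (LK LD1_c0 LD2_c23 LD3_c14)) = (LP (LK LD1_c0 LD2_c10 LD3_c43)) :=
  Lre_a IH (LK LD1_c0 LD2_c23 LD3_c14) (LK LD1_c0 LD2_c10 LD3_c43) Lrfl Lrfl
theorem f11102 : Led Lsl_at (LP (LK LD1_c0 LD2_c10 LD3_c43)) = (LP (LK LD1_c0 LD2_c23 LD3_c14)) :=
  Lre_a IH (LK LD1_c0 LD2_c10 LD3_c43) (LK LD1_c0 LD2_c23 LD3_c14) Lrfl Lrfl
theorem f11103 : Led Lsl_bf (LP (LK LD1_c0 LD2_c23 LD3_c14)) = (LP (LK LD1_c0 LD2_c23 LD3_c14)) :=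
  Lgr Lrot81 (Lpr_at (f11101 IH) (Lpr_bt (f11100 IH) (Lpr_at (K0.f11098 IH) (Lpr_bt (K2.f7425 IH) (Lpr_at (f11102 IH) (Lpn (LP (LK LD1_c0 LD2_c23 LD3_c14))))))))
theorem f105953 : Led Lsl_cf (LP (LK LD1_c1 LD2_c41 LD3_c10)) = (LP (LK LD1_c0 LD2_c47 LD3_c9)) :=
  Lgr Lrot163 (Lpr_gf (f105936 IH) (Lpe (f17995 IH) (Lpr_gf (f86715 IH) (Lpe (K0.f9981 IH) (Lpr_ct (K0.f9964 IH) (Lpr_gf (K0.f10989 IH) (Lpe (K0.f7398 IH) (Lpr_bt (K2.f7407 IH) (Lpe (K2.f84990 IH) (Lpe (f85007 IH) (Lpn (LP (LK LD1_c0 LD2_c47 LD3_c9)))))))))))))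
theorem f17705 : Led Lsl_bt (LP (LK LD1_c0 LD2_c22 LD3_c3)) = (LP (LK LD1_c0 LD2_c49 LD3_c6)) :=
  Lre_b IH (LK LD1_c0 LD2_c22 LD3_c3) (LK LD1_c0 LD2_c49 LD3_c6) Lrfl Lrfl
theorem f106715 : Led Lsl_gt (LP (LK LD1_c1 LD2_c41 LD3_c10)) = (LP (LK LD1_c0 LD2_c49 LD3_c8)) :=
  Lgr Lrot65 (Lpr_cf (f105953 IH) (Lpr_bt (f85007 IH) (Lpr_gf (K2.f84987 IH) (Lpr_bf (f11103 IH) (Lpr_ct (f64498 IH) (Lpe (f64494 IH) (Lpr_cf (f106709 IH) (Lpe (f17768 IH) (Lpe (f17705 IH) (Lpr_ct (K0.f17723 IH) (Lpn (LP (LK LD1_c0 LD2_c49 LD3_c8)))))))))))))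
theorem f94370 : Led Lsl_gt (LP (LK LD1_c1 LD2_c42 LD3_c49)) = (LP (LK LD1_c3 LD2_c32 LD3_c13)) :=
  Lre_g IH (LK LD1_c1 LD2_c42 LD3_c49) (LK LD1_c3 LD2_c32 LD3_c13) Lrfl Lrfl
theorem f105967 : Led Lsl_af (LP (LK LD1_c3 LD2_c32 LD3_c13)) = (LP (LK LD1_c1 LD2_c53 LD3_c27)) :=
  Lgr Lrot31 (Lpe (f94370 IH) (Lpr_gf (f105965 IH) (Lpe (f85329 IH) (Lpn (LP (LK LD1_c1 LD2_c53 LD3_c27))))))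
theorem f19393 : Led Lsl_af (LP (LK LD1_c3 LD2_c28 LD3_c21)) = (LP (LK LD1_c3 LD2_c35 LD3_c36)) :=
  Lgr Lrot0 (Lpr_at (K2.f19391 IH) (Lpn (LP (LK LD1_c3 LD2_c35 LD3_c36))))
theorem f105976 : Led Lsl_ft (LP (LK LD1_c3 LD2_c32 LD3_c13)) = (LP (LK LD1_c3 LD2_c35 LD3_c36)) :=
  Lgr Lrot101 (Lpr_af (f105967 IH) (Lpr_ff (f85329 IH) (Lpr_af (f19393 IH) (Lpn (LP (LK LD1_c3 LD2_c35 LD3_c36))))))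
theorem f105980 : Led Lsl_ff (LP (LK LD1_c3 LD2_c32 LD3_c13)) = (LP (LK LD1_c3 LD2_c35 LD3_c36)) :=
  Lgr Lrot3 (Lpr_ft (f105976 IH) (Lpn (LP (LK LD1_c3 LD2_c35 LD3_c36))))
theorem f105972 : Led Lsl_at (LP (LK LD1_c3 LD2_c32 LD3_c13)) = (LP (LK LD1_c1 LD2_c53 LD3_c27)) :=
  Lgr Lrot100 (Lpr_af (f105967 IH) (Lpn (LP (LK LD1_c1 LD2_c53 LD3_c27))))
theorem f106107 : Led Lsl_gf (LP (LK LD1_c1 LD2_c53 LD3_c27)) = (LP (LK LD1_c1 LD2_c44 LD3_c54)) :=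
  Lgr Lrot76 (Lpe (f105972 IH) (Lpr_ff (f105980 IH) (Lpr_gt (f106097 IH) (Lpn (LP (LK LD1_c1 LD2_c44 LD3_c54))))))
theorem f19733 : Led Lsl_dt (LP (LK LD1_c0 LD2_c21 LD3_c44)) = (LP (LK LD1_c0 LD2_c9 LD3_c47)) :=
  Lre_d IH (LK LD1_c0 LD2_c21 LD3_c44) (LK LD1_c0 LD2_c9 LD3_c47) Lrfl Lrfl
theorem f106070 : Led Lsl_dt (LP (LK LD1_c1 LD2_c44 LD3_c33)) = (LP (LK LD1_c1 LD2_c53 LD3_c27)) :=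
  Lgr Lrot27 (Lpe (f106017 IH) (Lpe (f106016 IH) (Lpe (f106015 IH) (Lpe (f9988 IH) (Lpe (f19733 IH) (Lpe (f106004 IH) (Lpr_ct (f94399 IH) (Lpr_gt (f106014 IH) (Lpr_ct (f106061 IH) (Lpn (LP (LK LD1_c1 LD2_c53 LD3_c27))))))))))))
theorem f106723 : Led Lsl_ef (LP (LK LD1_c0 LD2_c53 LD3_c19)) = (LP (LK LD1_c1 LD2_c44 LD3_c33)) :=
  Lgr Lrot114 (Lpr_gt (f105934 IH) (Lpe (f98015 IH) (Lpr_dt (f387 IH) (Lpe (f97909 IH) (Lpe (f87146 IH) (Lpr_et (f19374 IH) (Lpr_gt (f106715 IH) (Lpr_dt (f17707 IH) (Lpe (f106107 IH) (Lpe (f106070 IH) (Lpn (LP (LK LD1_c1 LD2_c44 LD3_c33)))))))))))))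
theorem f19358 : Led Lsl_et (LP (LK LD1_c0 LD2_c47 LD3_c9)) = (LP (LK LD1_c0 LD2_c21 LD3_c6)) :=
  Lre_e IH (LK LD1_c0 LD2_c47 LD3_c9) (LK LD1_c0 LD2_c21 LD3_c6) Lrfl Lrfl
theorem f19426 : Led Lsl_et (LP (LK LD1_c0 LD2_c46 LD3_c53)) = (LP (LK LD1_c1 LD2_c40 LD3_c48)) :=
  Lre_e IH (LK LD1_c0 LD2_c46 LD3_c53) (LK LD1_c1 LD2_c40 LD3_c48) Lrfl Lrfl
theorem f106731 : Led Lsl_ft (LP (LK LD1_c1 LD2_c40 LD3_c48)) = (LP (LK LD1_c1 LD2_c44 LD3_c33)) :=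
  Lgr Lrot86 (Lpe (f19426 IH) (Lpe (K2.f19352 IH) (Lpe (f19358 IH) (Lpe (f88784 IH) (Lpr_ef (f106723 IH) (Lpn (LP (LK LD1_c1 LD2_c44 LD3_c33))))))))
theorem f19423 : Led Lsl_dt (LP (LK LD1_c3 LD2_c28 LD3_c21)) = (LP (LK LD1_c1 LD2_c40 LD3_c48)) :=
  Lre_d IH (LK LD1_c3 LD2_c28 LD3_c21) (LK LD1_c1 LD2_c40 LD3_c48) Lrfl Lrfl
theorem f10747 : Led Lsl_gt (LP (LK LD1_c0 LD2_c21 LD3_c42)) = (LP (LK LD1_c0 LD2_c48 LD3_c16)) :=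
  Lre_g IH (LK LD1_c0 LD2_c21 LD3_c42) (LK LD1_c0 LD2_c48 LD3_c16) Lrfl Lrfl
theorem f106641 : Led Lsl_ct (LP (LK LD1_c0 LD2_c48 LD3_c32)) = (LP (LK LD1_c0 LD2_c21 LD3_c42)) :=
  Lre_c IH (LK LD1_c0 LD2_c48 LD3_c32) (LK LD1_c0 LD2_c21 LD3_c42) Lrfl Lrfl
theorem f106648 : Led Lsl_gt (LP (LK LD1_c1 LD2_c40 LD3_c48)) = (LP (LK LD1_c0 LD2_c48 LD3_c32)) :=
  Lgr Lrot9 (Lpe (f19423 IH) (Lpe (f105965 IH) (Lpe (f106274 IH) (Lpr_gt (f106646 IH) (Lpr_ct (f106492 IH) (Lpr_df (f106620 IH) (Lpe (f19429 IH) (Lpe (f10747 IH) (Lpe (f106641 IH) (Lpn (LP (LK LD1_c0 LD2_c48 LD3_c32))))))))))))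
theorem f106737 : Led Lsl_af (LP (LK LD1_c1 LD2_c43 LD3_c55)) = (LP (LK LD1_c1 LD2_c44 LD3_c33)) :=
  Lgr Lrot31 (Lpe (f106016 IH) (Lpe (f106648 IH) (Lpr_ft (f106731 IH) (Lpn (LP (LK LD1_c1 LD2_c44 LD3_c33))))))
theorem f106729 : Led Lsl_et (LP (LK LD1_c0 LD2_c53 LD3_c19)) = (LP (LK LD1_c1 LD2_c44 LD3_c33)) :=
  Lgr Lrot87 (Lpr_ef (f106723 IH) (Lpn (LP (LK LD1_c1 LD2_c44 LD3_c33))))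
theorem f90567 : Led Lsl_df (LP (LK LD1_c0 LD2_c45 LD3_c27)) = (LP (LK LD1_c0 LD2_c41 LD3_c22)) :=
  Lgr Lrot38 (Lpr_dt (K2.f90561 IH) (Lpn (LP (LK LD1_c0 LD2_c41 LD3_c22))))
theorem f94034 : Led Lsl_gt (LP (LK LD1_c1 LD2_c37 LD3_c49)) = (LP (LK LD1_c1 LD2_c29 LD3_c33)) :=
  Lgr Lrot131 (Lpe (K2.f13517 IH) (Lpr_dt (K0.f13516 IH) (Lpe (K2.f9805 IH) (Lpr_df (f90567 IH) (Lpe (K2.f66808 IH) (Lpe (K2.f76873 IH) (Lpr_dt (K0.f14554 IH) (Lpe (K2.f76892 IH) (Lpe (K2.f83727 IH) (Lpr_et (K2.f83729 IH) (Lpn (LP (LK LD1_c1 LD2_c29 LD3_c33)))))))))))))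
theorem f68102 : Led Lsl_ft (LP (LK LD1_c1 LD2_c37 LD3_c49)) = (LP (LK LD1_c1 LD2_c32 LD3_c11)) :=
  Lgr Lrot101 (Lpe (K1.f68101 IH) (Lpr_ff (K1.f68099 IH) (Lpe (K2.f68072 IH) (Lpn (LP (LK LD1_c1 LD2_c32 LD3_c11))))))
theorem f94038 : Led Lsl_gf (LP (LK LD1_c0 LD2_c42 LD3_c39)) = (LP (LK LD1_c1 LD2_c29 LD3_c33)) :=
  Lgr Lrot76 (Lpe (K2.f68072 IH) (Lpe (f68102 IH) (Lpr_gt (f94034 IH) (Lpn (LP (LK LD1_c1 LD2_c29 LD3_c33))))))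
theorem f90210 : Led Lsl_ff (LP (LK LD1_c1 LD2_c38 LD3_c16)) = (LP (LK LD1_c1 LD2_c29 LD3_c33)) :=
  Lgr Lrot3 (Lpr_ft (K2.f90206 IH) (Lpn (LP (LK LD1_c1 LD2_c29 LD3_c33))))
theorem f94075 : Led Lsl_af (LP (LK LD1_c1 LD2_c32 LD3_c10)) = (LP (LK LD1_c1 LD2_c38 LD3_c16)) :=
  Lgr Lrot31 (Lpe (K2.f68107 IH) (Lpr_gf (f94038 IH) (Lpe (f90210 IH) (Lpn (LP (LK LD1_c1 LD2_c38 LD3_c16))))))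
theorem f94079 : Led Lsl_at (LP (LK LD1_c3 LD2_c11 LD3_c38)) = (LP (LK LD1_c1 LD2_c42 LD3_c4)) :=
  Lgr Lrot107 (Lpe (K2.f83506 IH) (Lpr_af (f94075 IH) (Lpr_cf (K2.f11935 IH) (Lpn (LP (LK LD1_c1 LD2_c42 LD3_c4))))))
theorem f94081 : Led Lsl_af (LP (LK LD1_c3 LD2_c11 LD3_c38)) = (LP (LK LD1_c1 LD2_c42 LD3_c4)) :=
  Lgr Lrot0 (Lpr_at (f94079 IH) (Lpn (LP (LK LD1_c1 LD2_c42 LD3_c4))))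
theorem f88793 : Led Lsl_bt (LP (LK LD1_c0 LD2_c47 LD3_c32)) = (LP (LK LD1_c1 LD2_c42 LD3_c4)) :=
  Lre_b IH (LK LD1_c0 LD2_c47 LD3_c32) (LK LD1_c1 LD2_c42 LD3_c4) Lrfl Lrfl
theorem f94354 : Led Lsl_at (LP (LK LD1_c1 LD2_c42 LD3_c48)) = (LP (LK LD1_c0 LD2_c53 LD3_c19)) :=
  Lgr Lrot67 (Lpr_bf (K2.f94352 IH) (Lpr_af (f94081 IH) (Lpe (f88793 IH) (Lpe (K2.f88788 IH) (Lpe (K2.f10009 IH) (Lpn (LP (LK LD1_c0 LD2_c53 LD3_c19))))))))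
theorem f106743 : Led Lsl_et (LP (LK LD1_c1 LD2_c43 LD3_c55)) = (LP (LK LD1_c1 LD2_c42 LD3_c48)) :=
  Lgr Lrot123 (Lpr_af (f106737 IH) (Lpe (f106729 IH) (Lpe (f94354 IH) (Lpn (LP (LK LD1_c1 LD2_c42 LD3_c48))))))
theorem f88777 : Led Lsl_bt (LP (LK LD1_c0 LD2_c21 LD3_c8)) = (LP (LK LD1_c0 LD2_c47 LD3_c9)) :=
  Lre_b IH (LK LD1_c0 LD2_c21 LD3_c8) (LK LD1_c0 LD2_c47 LD3_c9) Lrfl Lrfl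
theorem f88778 : Led Lsl_ff (LP (LK LD1_c0 LD2_c53 LD3_c19)) = (LP (LK LD1_c0 LD2_c47 LD3_c9)) :=
  Lgr Lrot25 (Lpr_bt (K2.f10009 IH) (Lpr_ft (K2.f88775 IH) (Lpr_bt (f88777 IH) (Lpn (LP (LK LD1_c0 LD2_c47 LD3_c9))))))
theorem f84716 : Led Lsl_cf (LP (LK LD1_c0 LD2_c47 LD3_c9)) = (LP (LK LD1_c1 LD2_c41 LD3_c10)) :=
  Lgr Lrot39 (Lpr_et (f19358 IH) (Lpr_ct (K2.f84687 IH) (Lpr_et (f19374 IH) (Lpn (LP (LK LD1_c1 LD2_c41 LD3_c10))))))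
theorem f94372 : Led Lsl_ft (LP (LK LD1_c1 LD2_c42 LD3_c48)) = (LP (LK LD1_c1 LD2_c41 LD3_c10)) :=
  Lgr Lrot4 (Lpr_cf (K2.f94368 IH) (Lpr_ff (f88778 IH) (Lpr_cf (f84716 IH) (Lpn (LP (LK LD1_c1 LD2_c41 LD3_c10))))))
theorem f106747 : Led Lsl_ff (LP (LK LD1_c1 LD2_c43 LD3_c55)) = (LP (LK LD1_c1 LD2_c44 LD3_c40)) :=
  Lgr Lrot72 (Lpr_et (f106743 IH) (Lpr_ft (f94372 IH) (Lpr_et (f19380 IH) (Lpr_ft (K2.f19376 IH) (Lpr_et (K2.f17500 IH) (Lpn (LP (LK LD1_c1 LD2_c44 LD3_c40))))))))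
theorem f19383 : Led Lsl_bt (LP (LK LD1_c1 LD2_c40 LD3_c48)) = (LP (LK LD1_c0 LD2_c46 LD3_c55)) :=
  Lre_b IH (LK LD1_c1 LD2_c40 LD3_c48) (LK LD1_c0 LD2_c46 LD3_c55) Lrfl Lrfl
theorem f19384 : Led Lsl_at (LP (LK LD1_c0 LD2_c46 LD3_c55)) = (LP (LK LD1_c0 LD2_c21 LD3_c4)) :=
  Lre_a IH (LK LD1_c0 LD2_c46 LD3_c55) (LK LD1_c0 LD2_c21 LD3_c4) Lrfl Lrfl
theorem f19385 : Led Lsl_bt (LP (LK LD1_c0 LD2_c21 LD3_c4)) = (LP (LK LD1_c0 LD2_c46 LD3_c59)) :=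
  Lre_b IH (LK LD1_c0 LD2_c21 LD3_c4) (LK LD1_c0 LD2_c46 LD3_c59) Lrfl Lrfl
theorem f19387 : Led Lsl_bt (LP (LK LD1_c1 LD2_c40 LD3_c52)) = (LP (LK LD1_c1 LD2_c44 LD3_c40)) :=
  Lgr Lrot62 (Lpe (K2.f19386 IH) (Lpe (f19385 IH) (Lpe (f19384 IH) (Lpe (f19383 IH) (Lpr_af (K2.f19369 IH) (Lpn (LP (LK LD1_c1 LD2_c44 LD3_c40))))))))
theorem f19425 : Led Lsl_ft (LP (LK LD1_c3 LD2_c28 LD3_c26)) = (LP (LK LD1_c1 LD2_c40 LD3_c52)) :=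
  Lre_f IH (LK LD1_c3 LD2_c28 LD3_c26) (LK LD1_c1 LD2_c40 LD3_c52) Lrfl Lrfl
theorem f106749 : Led Lsl_bt (LP (LK LD1_c1 LD2_c43 LD3_c55)) = (LP (LK LD1_c3 LD2_c28 LD3_c26)) :=
  Lgr Lrot35 (Lpr_ff (f106747 IH) (Lpe (f19387 IH) (Lpe (f19425 IH) (Lpn (LP (LK LD1_c3 LD2_c28 LD3_c26))))))
theorem f88657 : Led Lsl_et (LP (LK LD1_c0 LD2_c53 LD3_c18)) = (LP (LK LD1_c0 LD2_c47 LD3_c4)) :=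
  Lgr Lrot158 (Lpe (K2.f10993 IH) (Lpr_ef (K2.f88650 IH) (Lpe (f87615 IH) (Lpn (LP (LK LD1_c0 LD2_c47 LD3_c4))))))
theorem f62659 : Led Lsl_et (LP (LK LD1_c0 LD2_c21 LD3_c3)) = (LP (LK LD1_c0 LD2_c47 LD3_c3)) :=
  Lre_e IH (LK LD1_c0 LD2_c21 LD3_c3) (LK LD1_c0 LD2_c47 LD3_c3) Lrfl Lrfl
theorem f88829 : Led Lsl_ft (LP (LK LD1_c0 LD2_c47 LD3_c3)) = (LP (LK LD1_c1 LD2_c41 LD3_c7)) :=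
  Lre_f IH (LK LD1_c0 LD2_c47 LD3_c3) (LK LD1_c1 LD2_c41 LD3_c7) Lrfl Lrfl
theorem f88830 : Led Lsl_et (LP (LK LD1_c1 LD2_c41 LD3_c7)) = (LP (LK LD1_c1 LD2_c42 LD3_c5)) :=
  Lgr Lrot69 (Lpe (f88829 IH) (Lpe (f62659 IH) (Lpe (f87562 IH) (Lpe (f88657 IH) (Lpr_ff (f88824 IH) (Lpn (LP (LK LD1_c1 LD2_c42 LD3_c5))))))))
theorem f88833 : Led Lsl_ct (LP (LK LD1_c0 LD2_c47 LD3_c7)) = (LP (LK LD1_c1 LD2_c41 LD3_c7)) :=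
  Lre_c IH (LK LD1_c0 LD2_c47 LD3_c7) (LK LD1_c1 LD2_c41 LD3_c7) Lrfl Lrfl
theorem f88834 : Led Lsl_ef (LP (LK LD1_c0 LD2_c47 LD3_c7)) = (LP (LK LD1_c0 LD2_c47 LD3_c32)) :=
  Lgr Lrot28 (Lpr_ct (f88833 IH) (Lpr_et (f88830 IH) (Lpr_ct (f57557 IH) (Lpn (LP (LK LD1_c0 LD2_c47 LD3_c32))))))
theorem f88840 : Led Lsl_bt (LP (LK LD1_c0 LD2_c47 LD3_c7)) = (LP (LK LD1_c1 LD2_c40 LD3_c58)) :=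
  Lre_b IH (LK LD1_c0 LD2_c47 LD3_c7) (LK LD1_c1 LD2_c40 LD3_c58) Lrfl Lrfl
theorem f88841 : Led Lsl_et (LP (LK LD1_c1 LD2_c40 LD3_c58)) = (LP (LK LD1_c1 LD2_c42 LD3_c4)) :=
  Lgr Lrot74 (Lpe (f88840 IH) (Lpr_ef (f88834 IH) (Lpe (K2.f11934 IH) (Lpn (LP (LK LD1_c1 LD2_c42 LD3_c4))))))
theorem f88846 : Led Lsl_ef (LP (LK LD1_c1 LD2_c40 LD3_c58)) = (LP (LK LD1_c1 LD2_c42 LD3_c4)) :=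
  Lgr Lrot88 (Lpr_et (f88841 IH) (Lpn (LP (LK LD1_c1 LD2_c42 LD3_c4))))
theorem f88854 : Led Lsl_at (LP (LK LD1_c1 LD2_c40 LD3_c58)) = (LP (LK LD1_c3 LD2_c28 LD3_c26)) :=
  Lre_a IH (LK LD1_c1 LD2_c40 LD3_c58) (LK LD1_c3 LD2_c28 LD3_c26) Lrfl Lrfl
theorem f94083 : Led Lsl_ef (LP (LK LD1_c3 LD2_c11 LD3_c38)) = (LP (LK LD1_c3 LD2_c28 LD3_c26)) :=
  Lgr Lrot20 (Lpr_at (f94079 IH) (Lpe (f88846 IH) (Lpr_at (f88854 IH) (Lpn (LP (LK LD1_c3 LD2_c28 LD3_c26))))))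
theorem f76780 : Led Lsl_dt (LP (LK LD1_c0 LD2_c46 LD3_c59)) = (LP (LK LD1_c1 LD2_c40 LD3_c57)) :=
  Lre_d IH (LK LD1_c0 LD2_c46 LD3_c59) (LK LD1_c1 LD2_c40 LD3_c57) Lrfl Lrfl
theorem f84659 : Led Lsl_et (LP (LK LD1_c0 LD2_c46 LD3_c59)) = (LP (LK LD1_c0 LD2_c21 LD3_c2)) :=
  Lre_e IH (LK LD1_c0 LD2_c46 LD3_c59) (LK LD1_c0 LD2_c21 LD3_c2) Lrfl Lrfl
theorem f84660 : Led Lsl_et (LP (LK LD1_c1 LD2_c39 LD3_c13)) = (LP (LK LD1_c0 LD2_c46 LD3_c1)) :=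
  Lre_e IH (LK LD1_c1 LD2_c39 LD3_c13) (LK LD1_c0 LD2_c46 LD3_c1) Lrfl Lrfl
theorem f84661 : Led Lsl_dt (LP (LK LD1_c1 LD2_c39 LD3_c13)) = (LP (LK LD1_c3 LD2_c25 LD3_c16)) :=
  Lre_d IH (LK LD1_c1 LD2_c39 LD3_c13) (LK LD1_c3 LD2_c25 LD3_c16) Lrfl Lrfl
theorem f84662 : Led Lsl_gt (LP (LK LD1_c3 LD2_c25 LD3_c16)) = (LP (LK LD1_c6 LD2_c52 LD3_c46)) :=
  Lre_g IH (LK LD1_c3 LD2_c25 LD3_c16) (LK LD1_c6 LD2_c52 LD3_c46) Lrfl Lrfl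
theorem f94087 : Led Lsl_df (LP (LK LD1_c6 LD2_c52 LD3_c46)) = (LP (LK LD1_c3 LD2_c28 LD3_c26)) :=
  Lgr Lrot168 (Lpe (f84662 IH) (Lpe (f84661 IH) (Lpr_et (f84660 IH) (Lpe (K2.f84654 IH) (Lpe (f84659 IH) (Lpr_dt (f76780 IH) (Lpe (f76783 IH) (Lpe (f86745 IH) (Lpr_gf (f86739 IH) (Lpr_ef (f94083 IH) (Lpn (LP (LK LD1_c3 LD2_c28 LD3_c26)))))))))))))
theorem f19419 : Led Lsl_ft (LP (LK LD1_c1 LD2_c40 LD3_c52)) = (LP (LK LD1_c3 LD2_c28 LD3_c26)) :=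
  Lre_f IH (LK LD1_c1 LD2_c40 LD3_c52) (LK LD1_c3 LD2_c28 LD3_c26) Lrfl Lrfl
theorem f19403 : Led Lsl_dt (LP (LK LD1_c3 LD2_c28 LD3_c25)) = (LP (LK LD1_c1 LD2_c40 LD3_c52)) :=
  Lre_d IH (LK LD1_c3 LD2_c28 LD3_c25) (LK LD1_c1 LD2_c40 LD3_c52) Lrfl Lrfl
theorem f94094 : Led Lsl_ft (LP (LK LD1_c6 LD2_c52 LD3_c46)) = (LP (LK LD1_c3 LD2_c28 LD3_c25)) :=
  Lgr Lrot54 (Lpr_df (f94087 IH) (Lpe (f19419 IH) (Lpe (f19403 IH) (Lpn (LP (LK LD1_c3 LD2_c28 LD3_c25))))))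
theorem f94100 : Led Lsl_ff (LP (LK LD1_c6 LD2_c52 LD3_c46)) = (LP (LK LD1_c3 LD2_c28 LD3_c25)) :=
  Lgr Lrot3 (Lpr_ft (f94094 IH) (Lpn (LP (LK LD1_c3 LD2_c28 LD3_c25))))
theorem f105978 : Led Lsl_bf (LP (LK LD1_c3 LD2_c32 LD3_c13)) = (LP (LK LD1_c6 LD2_c52 LD3_c46)) :=
  Lgr Lrot61 (Lpr_ft (f105976 IH) (Lpe (K2.f19399 IH) (Lpe (f94100 IH) (Lpn (LP (LK LD1_c6 LD2_c52 LD3_c46))))))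
theorem f106753 : Led Lsl_df (LP (LK LD1_c1 LD2_c43 LD3_c55)) = (LP (LK LD1_c3 LD2_c32 LD3_c13)) :=
  Lgr Lrot12 (Lpr_bt (f106749 IH) (Lpe (f94087 IH) (Lpe (f105978 IH) (Lpn (LP (LK LD1_c3 LD2_c32 LD3_c13))))))
theorem f106755 : Led Lsl_gt (LP (LK LD1_c0 LD2_c47 LD3_c9)) = (LP (LK LD1_c0 LD2_c48 LD3_c0)) :=
  Lgr Lrot94 (Lpr_cf (f84716 IH) (Lpr_gt (f106715 IH) (Lpr_dt (f17707 IH) (Lpe (f106107 IH) (Lpe (f106072 IH) (Lpe (f106017 IH) (Lpr_df (f106753 IH) (Lpe (f94370 IH) (Lpe (f84736 IH) (Lpn (LP (LK LD1_c0 LD2_c48 LD3_c0))))))))))))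
theorem f87163 : Led Lsl_et (LP (LK LD1_c0 LD2_c21 LD3_c6)) = (LP (LK LD1_c0 LD2_c47 LD3_c9)) :=
  Lre_e IH (LK LD1_c0 LD2_c21 LD3_c6) (LK LD1_c0 LD2_c47 LD3_c9) Lrfl Lrfl
theorem f106741 : Led Lsl_dt (LP (LK LD1_c1 LD2_c43 LD3_c55)) = (LP (LK LD1_c3 LD2_c32 LD3_c13)) :=
  Lgr Lrot44 (Lpr_af (f106737 IH) (Lpr_df (f106072 IH) (Lpe (f105972 IH) (Lpn (LP (LK LD1_c3 LD2_c32 LD3_c13))))))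
theorem f11895 : Led Lsl_bt (LP (LK LD1_c0 LD2_c21 LD3_c27)) = (LP (LK LD1_c0 LD2_c9 LD3_c42)) :=
  Lre_b IH (LK LD1_c0 LD2_c21 LD3_c27) (LK LD1_c0 LD2_c9 LD3_c42) Lrfl Lrfl
theorem f11908 : Led Lsl_ft (LP (LK LD1_c0 LD2_c20 LD3_c57)) = (LP (LK LD1_c0 LD2_c21 LD3_c27)) :=
  Lgr Lrot75 (Lpe (K0.f9815 IH) (Lpr_ff (K0.f11891 IH) (Lpe (f11895 IH) (Lpn (LP (LK LD1_c0 LD2_c21 LD3_c27))))))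
theorem f68104 : Led Lsl_ct (LP (LK LD1_c0 LD2_c21 LD3_c27)) = (LP (LK LD1_c0 LD2_c42 LD3_c39)) :=
  Lgr Lrot40 (Lpe (f11908 IH) (Lpe (f11931 IH) (Lpr_ff (K1.f68099 IH) (Lpn (LP (LK LD1_c0 LD2_c42 LD3_c39))))))
theorem f94360 : Led Lsl_ct (LP (LK LD1_c0 LD2_c49 LD3_c30)) = (LP (LK LD1_c0 LD2_c22 LD3_c10)) :=
  Lre_c IH (LK LD1_c0 LD2_c49 LD3_c30) (LK LD1_c0 LD2_c22 LD3_c10) Lrfl Lrfl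
theorem f94361 : Led Lsl_gt (LP (LK LD1_c1 LD2_c42 LD3_c48)) = (LP (LK LD1_c0 LD2_c49 LD3_c30)) :=
  Lgr Lrot82 (Lpr_bf (K2.f94352 IH) (Lpr_ct (K2.f83505 IH) (Lpe (K2.f68107 IH) (Lpe (f68104 IH) (Lpr_bt (f11895 IH) (Lpe (K0.f11497 IH) (Lpe (f10444 IH) (Lpe (f17635 IH) (Lpe (f93081 IH) (Lpe (f94360 IH) (Lpn (LP (LK LD1_c0 LD2_c49 LD3_c30)))))))))))))
theorem f106766 : Led Lsl_et (LP (LK LD1_c0 LD2_c22 LD3_c32)) = (LP (LK LD1_c0 LD2_c49 LD3_c30)) :=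
  Lgr Lrot122 (Lpr_dt (f5246 IH) (Lpr_gt (f87159 IH) (Lpr_df (f84728 IH) (Lpr_et (f87163 IH) (Lpr_gt (f106755 IH) (Lpr_dt (f84736 IH) (Lpr_gt (f94370 IH) (Lpe (f106741 IH) (Lpr_et (f106743 IH) (Lpr_gt (f94361 IH) (Lpn (LP (LK LD1_c0 LD2_c49 LD3_c30)))))))))))))
theorem f19375 : Led Lsl_et (LP (LK LD1_c1 LD2_c44 LD3_c40)) = (LP (LK LD1_c0 LD2_c48 LD3_c61)) :=
  Lre_e IH (LK LD1_c1 LD2_c44 LD3_c40) (LK LD1_c0 LD2_c48 LD3_c61) Lrfl Lrfl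
theorem f106113 : Led Lsl_ef (LP (LK LD1_c0 LD2_c21 LD3_c60)) = (LP (LK LD1_c0 LD2_c22 LD3_c30)) :=
  Lgr Lrot114 (Lpr_gt (K2.f10297 IH) (Lpe (f19375 IH) (Lpr_dt (f19404 IH) (Lpr_gt (f106097 IH) (Lpe (f17707 IH) (Lpr_et (K0.f17698 IH) (Lpr_gt (f90092 IH) (Lpe (f84728 IH) (Lpe (f92520 IH) (Lpe (K2.f5712 IH) (Lpn (LP (LK LD1_c0 LD2_c22 LD3_c30)))))))))))))
theorem f106773 : Led Lsl_gf (LP (LK LD1_c0 LD2_c47 LD3_c9)) = (LP (LK LD1_c0 LD2_c49 LD3_c30)) :=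
  Lgr Lrot141 (Lpe (f87163 IH) (Lpe (f84728 IH) (Lpe (f92520 IH) (Lpe (K2.f5712 IH) (Lpe (f106113 IH) (Lpr_gt (K2.f10297 IH) (Lpr_dt (K2.f10298 IH) (Lpr_gt (K2.f17469 IH) (Lpe (f5246 IH) (Lpr_et (f106766 IH) (Lpn (LP (LK LD1_c0 LD2_c49 LD3_c30)))))))))))))
theorem f86712 : Led Lsl_gt (LP (LK LD1_c3 LD2_c36 LD3_c14)) = (LP (LK LD1_c1 LD2_c44 LD3_c60)) :=
  Lre_g IH (LK LD1_c3 LD2_c36 LD3_c14) (LK LD1_c1 LD2_c44 LD3_c60) Lrfl Lrfl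
theorem f94366 : Led Lsl_dt (LP (LK LD1_c1 LD2_c45 LD3_c41)) = (LP (LK LD1_c0 LD2_c49 LD3_c30)) :=
  Lre_d IH (LK LD1_c1 LD2_c45 LD3_c41) (LK LD1_c0 LD2_c49 LD3_c30) Lrfl Lrfl
theorem f94363 : Led Lsl_dt (LP (LK LD1_c0 LD2_c49 LD3_c30)) = (LP (LK LD1_c1 LD2_c45 LD3_c41)) :=
  Lre_d IH (LK LD1_c0 LD2_c49 LD3_c30) (LK LD1_c1 LD2_c45 LD3_c41) Lrfl Lrfl
theorem f19408 : Led Lsl_bt (LP (LK LD1_c3 LD2_c28 LD3_c21)) = (LP (LK LD1_c1 LD2_c40 LD3_c50)) :=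
  Lre_b IH (LK LD1_c3 LD2_c28 LD3_c21) (LK LD1_c1 LD2_c40 LD3_c50) Lrfl Lrfl
theorem f85340 : Led Lsl_ft (LP (LK LD1_c1 LD2_c53 LD3_c27)) = (LP (LK LD1_c3 LD2_c28 LD3_c21)) :=
  Lgr Lrot75 (Lpe (f85315 IH) (Lpr_ff (f85336 IH) (Lpe (f19408 IH) (Lpn (LP (LK LD1_c3 LD2_c28 LD3_c21))))))
theorem f105769 : Led Lsl_gf (LP (LK LD1_c3 LD2_c35 LD3_c36)) = (LP (LK LD1_c1 LD2_c46 LD3_c1)) :=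
  Lgr Lrot76 (Lpe (K2.f19391 IH) (Lpe (f85340 IH) (Lpr_gt (f105766 IH) (Lpn (LP (LK LD1_c1 LD2_c46 LD3_c1))))))
theorem f87590 : Led Lsl_dt (LP (LK LD1_c3 LD2_c28 LD3_c22)) = (LP (LK LD1_c1 LD2_c40 LD3_c49)) :=
  Lre_d IH (LK LD1_c3 LD2_c28 LD3_c22) (LK LD1_c1 LD2_c40 LD3_c49) Lrfl Lrfl
theorem f90393 : Led Lsl_bt (LP (LK LD1_c1 LD2_c40 LD3_c49)) = (LP (LK LD1_c1 LD2_c29 LD3_c31)) :=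
  Lgr Lrot95 (Lpe (f87590 IH) (Lpr_bf (f90387 IH) (Lpe (K2.f66815 IH) (Lpn (LP (LK LD1_c1 LD2_c29 LD3_c31))))))
theorem f85347 : Led Lsl_ct (LP (LK LD1_c0 LD2_c46 LD3_c55)) = (LP (LK LD1_c1 LD2_c40 LD3_c49)) :=
  Lre_c IH (LK LD1_c0 LD2_c46 LD3_c55) (LK LD1_c1 LD2_c40 LD3_c49) Lrfl Lrfl
theorem f90397 : Led Lsl_cf (LP (LK LD1_c1 LD2_c40 LD3_c48)) = (LP (LK LD1_c1 LD2_c44 LD3_c40)) :=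
  Lgr Lrot97 (Lpr_bt (f19383 IH) (Lpr_ct (f85347 IH) (Lpr_bt (f90393 IH) (Lpr_ct (K2.f90106 IH) (Lpr_bt (f19387 IH) (Lpn (LP (LK LD1_c1 LD2_c44 LD3_c40))))))))
theorem f90399 : Led Lsl_ct (LP (LK LD1_c1 LD2_c40 LD3_c48)) = (LP (LK LD1_c1 LD2_c44 LD3_c40)) :=
  Lgr Lrot59 (Lpr_cf (f90397 IH) (Lpn (LP (LK LD1_c1 LD2_c44 LD3_c40))))
theorem f105938 : Led Lsl_gt (LP (LK LD1_c1 LD2_c45 LD3_c41)) = (LP (LK LD1_c3 LD2_c28 LD3_c21)) :=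
  Lgr Lrot49 (Lpe (f94363 IH) (Lpe (f94361 IH) (Lpr_cf (K2.f94368 IH) (Lpr_gt (f105934 IH) (Lpr_dt (f86719 IH) (Lpe (f105769 IH) (Lpr_dt (K2.f19390 IH) (Lpe (f90399 IH) (Lpe (f19423 IH) (Lpn (LP (LK LD1_c3 LD2_c28 LD3_c21))))))))))))
theorem f106777 : Led Lsl_cf (LP (LK LD1_c3 LD2_c36 LD3_c14)) = (LP (LK LD1_c3 LD2_c28 LD3_c21)) :=
  Lgr Lrot169 (Lpr_gt (f86712 IH) (Lpr_ct (f86705 IH) (Lpe (f10773 IH) (Lpe (f17704 IH) (Lpe (f106715 IH) (Lpr_cf (f105953 IH) (Lpr_gf (f106773 IH) (Lpe (f94366 IH) (Lpr_gt (f105938 IH) (Lpn (LP (LK LD1_c3 LD2_c28 LD3_c21))))))))))))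
theorem f106802 : Led Lsl_ct (LP (LK LD1_c3 LD2_c36 LD3_c14)) = (LP (LK LD1_c3 LD2_c28 LD3_c21)) :=
  Lgr Lrot59 (Lpr_cf (f106777 IH) (Lpn (LP (LK LD1_c3 LD2_c28 LD3_c21))))
theorem f9976 : Led Lsl_gt (LP (LK LD1_c0 LD2_c21 LD3_c45)) = (LP (LK LD1_c0 LD2_c48 LD3_c14)) :=
  Lre_g IH (LK LD1_c0 LD2_c21 LD3_c45) (LK LD1_c0 LD2_c48 LD3_c14) Lrfl Lrfl
theorem f106847 : Led Lsl_gf (LP (LK LD1_c3 LD2_c36 LD3_c14)) = (LP (LK LD1_c1 LD2_c46 LD3_c2)) :=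
  Lgr Lrot104 (Lpr_ct (f106802 IH) (Lpe (K2.f19389 IH) (Lpr_cf (f90397 IH) (Lpr_gf (f106087 IH) (Lpe (f10359 IH) (Lpe (f9976 IH) (Lpe (K0.f10312 IH) (Lpr_gt (f17969 IH) (Lpr_ct (f17972 IH) (Lpn (LP (LK LD1_c1 LD2_c46 LD3_c2))))))))))))
theorem f11134 : Led Lsl_ct (LP (LK LD1_c0 LD2_c47 LD3_c33)) = (LP (LK LD1_c1 LD2_c42 LD3_c7)) :=
  Lre_c IH (LK LD1_c0 LD2_c47 LD3_c33) (LK LD1_c1 LD2_c42 LD3_c7) Lrfl Lrfl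
theorem f12742 : Led Lsl_gt (LP (LK LD1_c1 LD2_c42 LD3_c7)) = (LP (LK LD1_c3 LD2_c31 LD3_c7)) :=
  Lre_g IH (LK LD1_c1 LD2_c42 LD3_c7) (LK LD1_c3 LD2_c31 LD3_c7) Lrfl Lrfl
theorem f64502 : Led Lsl_ct (LP (LK LD1_c0 LD2_c43 LD3_c46)) = (LP (LK LD1_c0 LD2_c23 LD3_c14)) :=
  Lre_c IH (LK LD1_c0 LD2_c43 LD3_c46) (LK LD1_c0 LD2_c23 LD3_c14) Lrfl Lrfl
theorem f86593 : Led Lsl_ct (LP (LK LD1_c1 LD2_c49 LD3_c25)) = (LP (LK LD1_c0 LD2_c51 LD3_c30)) :=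
  Lre_c IH (LK LD1_c1 LD2_c49 LD3_c25) (LK LD1_c0 LD2_c51 LD3_c30) Lrfl Lrfl
theorem f86618 : Led Lsl_gt (LP (LK LD1_c3 LD2_c31 LD3_c7)) = (LP (LK LD1_c1 LD2_c49 LD3_c25)) :=
  Lre_g IH (LK LD1_c3 LD2_c31 LD3_c7) (LK LD1_c1 LD2_c49 LD3_c25) Lrfl Lrfl
theorem f17769 : Led Lsl_dt (LP (LK LD1_c1 LD2_c44 LD3_c52)) = (LP (LK LD1_c0 LD2_c49 LD3_c6)) :=
  Lre_d IH (LK LD1_c1 LD2_c44 LD3_c52) (LK LD1_c0 LD2_c49 LD3_c6) Lrfl Lrfl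
theorem f86698 : Led Lsl_gt (LP (LK LD1_c1 LD2_c44 LD3_c52)) = (LP (LK LD1_c3 LD2_c35 LD3_c60)) :=
  Lre_g IH (LK LD1_c1 LD2_c44 LD3_c52) (LK LD1_c3 LD2_c35 LD3_c60) Lrfl Lrfl
theorem f106713 : Led Lsl_cf (LP (LK LD1_c3 LD2_c31 LD3_c7)) = (LP (LK LD1_c3 LD2_c35 LD3_c60)) :=
  Lgr Lrot169 (Lpr_gt (f86618 IH) (Lpr_ct (f86593 IH) (Lpe (K2.f62830 IH) (Lpe (f64502 IH) (Lpe (f64494 IH) (Lpr_cf (f106709 IH) (Lpe (f17768 IH) (Lpe (f17769 IH) (Lpr_gt (f86698 IH) (Lpn (LP (LK LD1_c3 LD2_c35 LD3_c60))))))))))))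
theorem f105991 : Led Lsl_bt (LP (LK LD1_c0 LD2_c49 LD3_c46)) = (LP (LK LD1_c1 LD2_c45 LD3_c59)) :=
  Lre_b IH (LK LD1_c0 LD2_c49 LD3_c46) (LK LD1_c1 LD2_c45 LD3_c59) Lrfl Lrfl
theorem f86811 : Led Lsl_gt (LP (LK LD1_c3 LD2_c38 LD3_c4)) = (LP (LK LD1_c1 LD2_c45 LD3_c59)) :=
  Lre_g IH (LK LD1_c3 LD2_c38 LD3_c4) (LK LD1_c1 LD2_c45 LD3_c59) Lrfl Lrfl
theorem f106851 : Led Lsl_bt (LP (LK LD1_c3 LD2_c35 LD3_c60)) = (LP (LK LD1_c3 LD2_c38 LD3_c4)) :=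
  Lgr Lrot22 (Lpe (f106713 IH) (Lpe (f12742 IH) (Lpe (f11134 IH) (Lpe (K2.f87588 IH) (Lpe (f19408 IH) (Lpe (f106777 IH) (Lpr_gf (f106847 IH) (Lpe (f17972 IH) (Lpr_bt (f105991 IH) (Lpe (f86811 IH) (Lpn (LP (LK LD1_c3 LD2_c38 LD3_c4)))))))))))))
theorem f11128 : Led Lsl_bt (LP (LK LD1_c0 LD2_c47 LD3_c33)) = (LP (LK LD1_c0 LD2_c21 LD3_c22)) :=
  Lre_b IH (LK LD1_c0 LD2_c47 LD3_c33) (LK LD1_c0 LD2_c21 LD3_c22) Lrfl Lrfl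
theorem f11108 : Led Lsl_et (LP (LK LD1_c0 LD2_c5 LD3_c4)) = (LP (LK LD1_c0 LD2_c2 LD3_c17)) :=
  Lre_e IH (LK LD1_c0 LD2_c5 LD3_c4) (LK LD1_c0 LD2_c2 LD3_c17) Lrfl Lrfl
theorem f12707 : Led Lsl_et (LP (LK LD1_c0 LD2_c9 LD3_c17)) = (LP (LK LD1_c0 LD2_c4 LD3_c20)) :=
  Lre_e IH (LK LD1_c0 LD2_c9 LD3_c17) (LK LD1_c0 LD2_c4 LD3_c20) Lrfl Lrfl
theorem f12708 : Led Lsl_dt (LP (LK LD1_c0 LD2_c9 LD3_c17)) = (LP (LK LD1_c0 LD2_c20 LD3_c35)) :=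
  Lre_d IH (LK LD1_c0 LD2_c9 LD3_c17) (LK LD1_c0 LD2_c20 LD3_c35) Lrfl Lrfl
theorem f12709 : Led Lsl_gt (LP (LK LD1_c0 LD2_c10 LD3_c55)) = (LP (LK LD1_c0 LD2_c20 LD3_c35)) :=
  Lgr Lrot112 (Lpe (K0.f7417 IH) (Lpr_et (f11108 IH) (Lpr_gf (K0.f11464 IH) (Lpe (K0.f4470 IH) (Lpr_dt (K0.f345 IH) (Lpe (K0.f11403 IH) (Lpe (K0.f167 IH) (Lpr_gf (K0.f12684 IH) (Lpe (f12707 IH) (Lpr_dt (f12708 IH) (Lpn (LP (LK LD1_c0 LD2_c20 LD3_c35)))))))))))))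
theorem f7422 : Led Lsl_ft (LP (LK LD1_c0 LD2_c10 LD3_c55)) = (LP (LK LD1_c0 LD2_c21 LD3_c22)) :=
  Lre_f IH (LK LD1_c0 LD2_c10 LD3_c55) (LK LD1_c0 LD2_c21 LD3_c22) Lrfl Lrfl
theorem f7401 : Led Lsl_dt (LP (LK LD1_c0 LD2_c9 LD3_c40)) = (LP (LK LD1_c0 LD2_c21 LD3_c22)) :=
  Lre_d IH (LK LD1_c0 LD2_c9 LD3_c40) (LK LD1_c0 LD2_c21 LD3_c22) Lrfl Lrfl
theorem f7399 : Led Lsl_dt (LP (LK LD1_c0 LD2_c21 LD3_c22)) = (LP (LK LD1_c0 LD2_c9 LD3_c40)) :=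
  Lre_d IH (LK LD1_c0 LD2_c21 LD3_c22) (LK LD1_c0 LD2_c9 LD3_c40) Lrfl Lrfl
theorem f11092 : Led Lsl_at (LP (LK LD1_c0 LD2_c21 LD3_c22)) = (LP (LK LD1_c0 LD2_c21 LD3_c22)) :=
  Lgr Lrot51 (Lpe (f7401 IH) (Lpr_af (K0.f11085 IH) (Lpe (f7399 IH) (Lpn (LP (LK LD1_c0 LD2_c21 LD3_c22))))))
theorem f12716 : Led Lsl_gf (LP (LK LD1_c0 LD2_c21 LD3_c22)) = (LP (LK LD1_c0 LD2_c20 LD3_c35)) :=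
  Lgr Lrot76 (Lpe (f11092 IH) (Lpe (f7422 IH) (Lpr_gt (f12709 IH) (Lpn (LP (LK LD1_c0 LD2_c20 LD3_c35))))))
theorem f12730 : Led Lsl_bt (LP (LK LD1_c0 LD2_c45 LD3_c59)) = (LP (LK LD1_c0 LD2_c20 LD3_c35)) :=
  Lre_b IH (LK LD1_c0 LD2_c45 LD3_c59) (LK LD1_c0 LD2_c20 LD3_c35) Lrfl Lrfl
theorem f12731 : Led Lsl_ct (LP (LK LD1_c0 LD2_c45 LD3_c59)) = (LP (LK LD1_c1 LD2_c39 LD3_c7)) :=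
  Lre_c IH (LK LD1_c0 LD2_c45 LD3_c59) (LK LD1_c1 LD2_c39 LD3_c7) Lrfl Lrfl
theorem f12741 : Led Lsl_gt (LP (LK LD1_c3 LD2_c25 LD3_c11)) = (LP (LK LD1_c1 LD2_c39 LD3_c7)) :=
  Lre_g IH (LK LD1_c3 LD2_c25 LD3_c11) (LK LD1_c1 LD2_c39 LD3_c7) Lrfl Lrfl
theorem f106858 : Led Lsl_cf (LP (LK LD1_c3 LD2_c25 LD3_c11)) = (LP (LK LD1_c1 LD2_c45 LD3_c59)) :=
  Lgr Lrot125 (Lpr_gt (f12741 IH) (Lpe (f12731 IH) (Lpr_bt (f12730 IH) (Lpe (f12716 IH) (Lpe (f11128 IH) (Lpr_ct (f11134 IH) (Lpr_gt (f12742 IH) (Lpr_cf (f106713 IH) (Lpr_bt (f106851 IH) (Lpr_gt (f86811 IH) (Lpn (LP (LK LD1_c1 LD2_c45 LD3_c59)))))))))))))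
theorem f17975 : Led Lsl_bt (LP (LK LD1_c1 LD2_c45 LD3_c59)) = (LP (LK LD1_c0 LD2_c49 LD3_c46)) :=
  Lre_b IH (LK LD1_c1 LD2_c45 LD3_c59) (LK LD1_c0 LD2_c49 LD3_c46) Lrfl Lrfl
theorem f106460 : Led Lsl_ft (LP (LK LD1_c1 LD2_c42 LD3_c45)) = (LP (LK LD1_c1 LD2_c45 LD3_c59)) :=
  Lgr Lrot75 (Lpe (f106064 IH) (Lpr_ff (f106458 IH) (Lpe (f17975 IH) (Lpn (LP (LK LD1_c1 LD2_c45 LD3_c59))))))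
theorem f87493 : Led Lsl_ct (LP (LK LD1_c3 LD2_c32 LD3_c8)) = (LP (LK LD1_c1 LD2_c42 LD3_c45)) :=
  Lre_c IH (LK LD1_c3 LD2_c32 LD3_c8) (LK LD1_c1 LD2_c42 LD3_c45) Lrfl Lrfl
theorem f106867 : Led Lsl_ft (LP (LK LD1_c3 LD2_c25 LD3_c11)) = (LP (LK LD1_c3 LD2_c32 LD3_c8)) :=
  Lgr Lrot4 (Lpr_cf (f106858 IH) (Lpe (f106460 IH) (Lpe (f87493 IH) (Lpn (LP (LK LD1_c3 LD2_c32 LD3_c8))))))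
theorem f12732 : Led Lsl_gt (LP (LK LD1_c1 LD2_c39 LD3_c7)) = (LP (LK LD1_c3 LD2_c25 LD3_c10)) :=
  Lre_g IH (LK LD1_c1 LD2_c39 LD3_c7) (LK LD1_c3 LD2_c25 LD3_c10) Lrfl Lrfl
theorem f106879 : Led Lsl_af (LP (LK LD1_c3 LD2_c25 LD3_c10)) = (LP (LK LD1_c3 LD2_c32 LD3_c8)) :=
  Lgr Lrot31 (Lpe (f12732 IH) (Lpe (f12741 IH) (Lpr_ft (f106867 IH) (Lpn (LP (LK LD1_c3 LD2_c32 LD3_c8))))))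
theorem f87486 : Led Lsl_ct (LP (LK LD1_c1 LD2_c42 LD3_c45)) = (LP (LK LD1_c3 LD2_c32 LD3_c8)) :=
  Lre_c IH (LK LD1_c1 LD2_c42 LD3_c45) (LK LD1_c3 LD2_c32 LD3_c8) Lrfl Lrfl
theorem f106888 : Led Lsl_ct (LP (LK LD1_c3 LD2_c25 LD3_c10)) = (LP (LK LD1_c3 LD2_c32 LD3_c2)) :=
  Lgr Lrot111 (Lpr_af (f106879 IH) (Lpe (f87486 IH) (Lpe (f95940 IH) (Lpn (LP (LK LD1_c3 LD2_c32 LD3_c2))))))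
theorem f106907 : Led Lsl_dt (LP (LK LD1_c6 LD2_c52 LD3_c36)) = (LP (LK LD1_c3 LD2_c25 LD3_c10)) :=
  Lre_d IH (LK LD1_c6 LD2_c52 LD3_c36) (LK LD1_c3 LD2_c25 LD3_c10) Lrfl Lrfl
theorem f106468 : Led Lsl_ff (LP (LK LD1_c1 LD2_c42 LD3_c45)) = (LP (LK LD1_c1 LD2_c45 LD3_c59)) :=
  Lgr Lrot25 (Lpr_bt (f106028 IH) (Lpr_ft (f106466 IH) (Lpr_bt (f105991 IH) (Lpn (LP (LK LD1_c1 LD2_c45 LD3_c59))))))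
theorem f86810 : Led Lsl_dt (LP (LK LD1_c1 LD2_c45 LD3_c59)) = (LP (LK LD1_c0 LD2_c49 LD3_c42)) :=
  Lre_d IH (LK LD1_c1 LD2_c45 LD3_c59) (LK LD1_c0 LD2_c49 LD3_c42) Lrfl Lrfl
theorem f86737 : Led Lsl_dt (LP (LK LD1_c0 LD2_c51 LD3_c5)) = (LP (LK LD1_c1 LD2_c48 LD3_c38)) :=
  Lre_d IH (LK LD1_c0 LD2_c51 LD3_c5) (LK LD1_c1 LD2_c48 LD3_c38) Lrfl Lrfl
theorem f86768 : Led Lsl_ct (LP (LK LD1_c1 LD2_c48 LD3_c38)) = (LP (LK LD1_c3 LD2_c43 LD3_c9)) :=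
  Lre_c IH (LK LD1_c1 LD2_c48 LD3_c38) (LK LD1_c3 LD2_c43 LD3_c9) Lrfl Lrfl
theorem f106914 : Led Lsl_dt (LP (LK LD1_c3 LD2_c43 LD3_c9)) = (LP (LK LD1_c7 LD2_c26 LD3_c58)) :=
  Lre_d IH (LK LD1_c3 LD2_c43 LD3_c9) (LK LD1_c7 LD2_c26 LD3_c58) Lrfl Lrfl
theorem f106915 : Led Lsl_cf (LP (LK LD1_c6 LD2_c52 LD3_c36)) = (LP (LK LD1_c7 LD2_c26 LD3_c58)) :=
  Lgr Lrot161 (Lpr_dt (f106907 IH) (Lpr_ct (f106888 IH) (Lpe (f95959 IH) (Lpr_ff (f106468 IH) (Lpr_dt (f86810 IH) (Lpr_ct (f86723 IH) (Lpr_dt (f86737 IH) (Lpr_ct (f86768 IH) (Lpr_dt (f106914 IH) (Lpn (LP (LK LD1_c7 LD2_c26 LD3_c58))))))))))))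
theorem f106903 : Led Lsl_et (LP (LK LD1_c6 LD2_c52 LD3_c36)) = (LP (LK LD1_c13 LD2_c4 LD3_c32)) :=
  Lre_e IH (LK LD1_c6 LD2_c52 LD3_c36) (LK LD1_c13 LD2_c4 LD3_c32) Lrfl Lrfl
theorem f106932 : Led Lsl_et (LP (LK LD1_c14 LD2_c4 LD3_c38)) = (LP (LK LD1_c7 LD2_c26 LD3_c58)) :=
  Lre_e IH (LK LD1_c14 LD2_c4 LD3_c38) (LK LD1_c7 LD2_c26 LD3_c58) Lrfl Lrfl
theorem f106933 : Led Lsl_ct (LP (LK LD1_c13 LD2_c4 LD3_c32)) = (LP (LK LD1_c14 LD2_c4 LD3_c38)) :=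
  Lgr Lrot15 (Lpe (f106903 IH) (Lpr_cf (f106915 IH) (Lpe (f106932 IH) (Lpn (LP (LK LD1_c14 LD2_c4 LD3_c38))))))
theorem f106945 : Led Lsl_cf (LP (LK LD1_c13 LD2_c4 LD3_c32)) = (LP (LK LD1_c14 LD2_c4 LD3_c38)) :=
  Lgr Lrot11 (Lpr_ct (f106933 IH) (Lpn (LP (LK LD1_c14 LD2_c4 LD3_c38))))
theorem f106890 : Led Lsl_dt (LP (LK LD1_c3 LD2_c25 LD3_c10)) = (LP (LK LD1_c6 LD2_c52 LD3_c36)) :=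
  Lre_d IH (LK LD1_c3 LD2_c25 LD3_c10) (LK LD1_c6 LD2_c52 LD3_c36) Lrfl Lrfl
theorem f87502 : Led Lsl_dt (LP (LK LD1_c7 LD2_c5 LD3_c31)) = (LP (LK LD1_c3 LD2_c32 LD3_c8)) :=
  Lre_d IH (LK LD1_c7 LD2_c5 LD3_c31) (LK LD1_c3 LD2_c32 LD3_c8) Lrfl Lrfl
theorem f106891 : Led Lsl_at (LP (LK LD1_c6 LD2_c52 LD3_c36)) = (LP (LK LD1_c7 LD2_c5 LD3_c31)) :=
  Lgr Lrot51 (Lpe (f106890 IH) (Lpr_af (f106879 IH) (Lpe (f87502 IH) (Lpn (LP (LK LD1_c7 LD2_c5 LD3_c31))))))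
theorem f106897 : Led Lsl_et (LP (LK LD1_c13 LD2_c4 LD3_c32)) = (LP (LK LD1_c6 LD2_c52 LD3_c36)) :=
  Lre_e IH (LK LD1_c13 LD2_c4 LD3_c32) (LK LD1_c6 LD2_c52 LD3_c36) Lrfl Lrfl
theorem f95948 : Led Lsl_et (LP (LK LD1_c7 LD2_c5 LD3_c31)) = (LP (LK LD1_c13 LD2_c26 LD3_c35)) :=
  Lre_e IH (LK LD1_c7 LD2_c5 LD3_c31) (LK LD1_c13 LD2_c26 LD3_c35) Lrfl Lrfl
theorem f106898 : Led Lsl_af (LP (LK LD1_c13 LD2_c4 LD3_c32)) = (LP (LK LD1_c13 LD2_c26 LD3_c35)) :=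
  Lgr Lrot50 (Lpr_et (f106897 IH) (Lpr_at (f106891 IH) (Lpr_et (f95948 IH) (Lpn (LP (LK LD1_c13 LD2_c26 LD3_c35))))))
theorem f106900 : Led Lsl_at (LP (LK LD1_c13 LD2_c4 LD3_c32)) = (LP (LK LD1_c13 LD2_c26 LD3_c35)) :=
  Lgr Lrot100 (Lpr_af (f106898 IH) (Lpn (LP (LK LD1_c13 LD2_c26 LD3_c35))))
theorem f95934 : Led Lsl_ff (LP (LK LD1_c1 LD2_c33 LD3_c20)) = (LP (LK LD1_c1 LD2_c42 LD3_c42)) :=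
  Lgr Lrot3 (Lpr_ft (f95928 IH) (Lpn (LP (LK LD1_c1 LD2_c42 LD3_c42))))
theorem f95923 : Led Lsl_dt (LP (LK LD1_c1 LD2_c33 LD3_c20)) = (LP (LK LD1_c3 LD2_c13 LD3_c32)) :=
  Lre_d IH (LK LD1_c1 LD2_c33 LD3_c20) (LK LD1_c3 LD2_c13 LD3_c32) Lrfl Lrfl
theorem f95936 : Led Lsl_dt (LP (LK LD1_c3 LD2_c32 LD3_c2)) = (LP (LK LD1_c1 LD2_c42 LD3_c42)) :=
  Lre_d IH (LK LD1_c3 LD2_c32 LD3_c2) (LK LD1_c1 LD2_c42 LD3_c42) Lrfl Lrfl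
theorem f95937 : Led Lsl_ft (LP (LK LD1_c3 LD2_c13 LD3_c32)) = (LP (LK LD1_c3 LD2_c32 LD3_c2)) :=
  Lgr Lrot54 (Lpe (f95923 IH) (Lpr_ff (f95934 IH) (Lpe (f95936 IH) (Lpn (LP (LK LD1_c3 LD2_c32 LD3_c2))))))
theorem f23719 : Led Lsl_dt (LP (LK LD1_c0 LD2_c43 LD3_c18)) = (LP (LK LD1_c1 LD2_c33 LD3_c24)) :=
  Lre_d IH (LK LD1_c0 LD2_c43 LD3_c18) (LK LD1_c1 LD2_c33 LD3_c24) Lrfl Lrfl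
theorem f95814 : Led Lsl_ct (LP (LK LD1_c1 LD2_c33 LD3_c24)) = (LP (LK LD1_c3 LD2_c13 LD3_c42)) :=
  Lre_c IH (LK LD1_c1 LD2_c33 LD3_c24) (LK LD1_c3 LD2_c13 LD3_c42) Lrfl Lrfl
theorem f95941 : Led Lsl_dt (LP (LK LD1_c3 LD2_c13 LD3_c42)) = (LP (LK LD1_c6 LD2_c31 LD3_c4)) :=
  Lre_d IH (LK LD1_c3 LD2_c13 LD3_c42) (LK LD1_c6 LD2_c31 LD3_c4) Lrfl Lrfl
theorem f95942 : Led Lsl_ct (LP (LK LD1_c6 LD2_c31 LD3_c4)) = (LP (LK LD1_c7 LD2_c5 LD3_c31)) :=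
  Lgr Lrot53 (Lpe (f95941 IH) (Lpe (f95814 IH) (Lpe (f23719 IH) (Lpe (f95757 IH) (Lpe (f95783 IH) (Lpr_ft (f95937 IH) (Lpr_at (f95940 IH) (Lpe (f87493 IH) (Lpe (f87502 IH) (Lpn (LP (LK LD1_c7 LD2_c5 LD3_c31))))))))))))
theorem f95947 : Led Lsl_et (LP (LK LD1_c12 LD2_c30 LD3_c49)) = (LP (LK LD1_c6 LD2_c31 LD3_c4)) :=
  Lre_e IH (LK LD1_c12 LD2_c30 LD3_c49) (LK LD1_c6 LD2_c31 LD3_c4) Lrfl Lrfl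
theorem f95949 : Led Lsl_cf (LP (LK LD1_c12 LD2_c30 LD3_c49)) = (LP (LK LD1_c13 LD2_c26 LD3_c35)) :=
  Lgr Lrot39 (Lpr_et (f95947 IH) (Lpr_ct (f95942 IH) (Lpr_et (f95948 IH) (Lpn (LP (LK LD1_c13 LD2_c26 LD3_c35))))))
theorem f106947 : Led Lsl_at (LP (LK LD1_c12 LD2_c30 LD3_c49)) = (LP (LK LD1_c14 LD2_c4 LD3_c38)) :=
  Lgr Lrot107 (Lpr_cf (f95949 IH) (Lpe (f106900 IH) (Lpr_cf (f106945 IH) (Lpn (LP (LK LD1_c14 LD2_c4 LD3_c38))))))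
theorem f95957 : Led Lsl_et (LP (LK LD1_c6 LD2_c31 LD3_c4)) = (LP (LK LD1_c12 LD2_c30 LD3_c49)) :=
  Lre_e IH (LK LD1_c6 LD2_c31 LD3_c4) (LK LD1_c12 LD2_c30 LD3_c49) Lrfl Lrfl
theorem f106951 : Led Lsl_af (LP (LK LD1_c6 LD2_c31 LD3_c4)) = (LP (LK LD1_c7 LD2_c26 LD3_c58)) :=
  Lgr Lrot50 (Lpr_et (f95957 IH) (Lpr_at (f106947 IH) (Lpr_et (f106932 IH) (Lpn (LP (LK LD1_c7 LD2_c26 LD3_c58))))))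
theorem f95945 : Led Lsl_cf (LP (LK LD1_c6 LD2_c31 LD3_c4)) = (LP (LK LD1_c7 LD2_c5 LD3_c31)) :=
  Lgr Lrot11 (Lpr_ct (f95942 IH) (Lpn (LP (LK LD1_c7 LD2_c5 LD3_c31))))
theorem f87487 : Led Lsl_dt (LP (LK LD1_c3 LD2_c32 LD3_c8)) = (LP (LK LD1_c7 LD2_c5 LD3_c31)) :=
  Lre_d IH (LK LD1_c3 LD2_c32 LD3_c8) (LK LD1_c7 LD2_c5 LD3_c31) Lrfl Lrfl
theorem f87485 : Led Lsl_dt (LP (LK LD1_c0 LD2_c47 LD3_c59)) = (LP (LK LD1_c1 LD2_c42 LD3_c45)) :=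
  Lre_d IH (LK LD1_c0 LD2_c47 LD3_c59) (LK LD1_c1 LD2_c42 LD3_c45) Lrfl Lrfl
theorem f87488 : Led Lsl_dt (LP (LK LD1_c3 LD2_c22 LD3_c51)) = (LP (LK LD1_c1 LD2_c37 LD3_c47)) :=
  Lre_d IH (LK LD1_c3 LD2_c22 LD3_c51) (LK LD1_c1 LD2_c37 LD3_c47) Lrfl Lrfl
theorem f87489 : Led Lsl_ct (LP (LK LD1_c6 LD2_c49 LD3_c15)) = (LP (LK LD1_c3 LD2_c22 LD3_c51)) :=
  Lre_c IH (LK LD1_c6 LD2_c49 LD3_c15) (LK LD1_c3 LD2_c22 LD3_c51) Lrfl Lrfl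
theorem f87490 : Led Lsl_dt (LP (LK LD1_c13 LD2_c0 LD3_c46)) = (LP (LK LD1_c6 LD2_c49 LD3_c15)) :=
  Lre_d IH (LK LD1_c13 LD2_c0 LD3_c46) (LK LD1_c6 LD2_c49 LD3_c15) Lrfl Lrfl
theorem f106956 : Led Lsl_ft (LP (LK LD1_c13 LD2_c0 LD3_c46)) = (LP (LK LD1_c7 LD2_c26 LD3_c58)) :=
  Lgr Lrot142 (Lpr_dt (f87490 IH) (Lpr_ct (f87489 IH) (Lpr_dt (f87488 IH) (Lpe (K2.f84758 IH) (Lpr_dt (f87485 IH) (Lpr_ct (f87486 IH) (Lpr_dt (f87487 IH) (Lpe (f95945 IH) (Lpr_af (f106951 IH) (Lpn (LP (LK LD1_c7 LD2_c26 LD3_c58))))))))))))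
theorem f106963 : Led Lsl_ff (LP (LK LD1_c13 LD2_c0 LD3_c46)) = (LP (LK LD1_c7 LD2_c26 LD3_c58)) :=
  Lgr Lrot3 (Lpr_ft (f106956 IH) (Lpn (LP (LK LD1_c7 LD2_c26 LD3_c58))))
theorem f106971 : Led Lsl_ft (LP (LK LD1_c6 LD2_c49 LD3_c15)) = (LP (LK LD1_c3 LD2_c43 LD3_c9)) :=
  Lgr Lrot54 (Lpe (f87490 IH) (Lpr_ff (f106963 IH) (Lpe (f106914 IH) (Lpn (LP (LK LD1_c3 LD2_c43 LD3_c9))))))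
theorem f87503 : Led Lsl_ct (LP (LK LD1_c3 LD2_c22 LD3_c51)) = (LP (LK LD1_c6 LD2_c49 LD3_c15)) :=
  Lre_c IH (LK LD1_c3 LD2_c22 LD3_c51) (LK LD1_c6 LD2_c49 LD3_c15) Lrfl Lrfl
theorem f86770 : Led Lsl_ct (LP (LK LD1_c3 LD2_c43 LD3_c9)) = (LP (LK LD1_c1 LD2_c48 LD3_c38)) :=
  Lre_c IH (LK LD1_c3 LD2_c43 LD3_c9) (LK LD1_c1 LD2_c48 LD3_c38) Lrfl Lrfl
theorem f106976 : Led Lsl_ff (LP (LK LD1_c3 LD2_c22 LD3_c51)) = (LP (LK LD1_c1 LD2_c48 LD3_c38)) :=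
  Lgr Lrot23 (Lpr_ct (f87503 IH) (Lpr_ft (f106971 IH) (Lpr_ct (f86770 IH) (Lpn (LP (LK LD1_c1 LD2_c48 LD3_c38))))))
theorem f106983 : Led Lsl_ft (LP (LK LD1_c3 LD2_c22 LD3_c51)) = (LP (LK LD1_c1 LD2_c48 LD3_c38)) :=
  Lgr Lrot48 (Lpr_ff (f106976 IH) (Lpn (LP (LK LD1_c1 LD2_c48 LD3_c38))))
theorem f95811 : Led Lsl_dt (LP (LK LD1_c6 LD2_c31 LD3_c4)) = (LP (LK LD1_c3 LD2_c13 LD3_c42)) :=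
  Lre_d IH (LK LD1_c6 LD2_c31 LD3_c4) (LK LD1_c3 LD2_c13 LD3_c42) Lrfl Lrfl
theorem f95809 : Led Lsl_ct (LP (LK LD1_c3 LD2_c13 LD3_c42)) = (LP (LK LD1_c1 LD2_c33 LD3_c24)) :=
  Lre_c IH (LK LD1_c3 LD2_c13 LD3_c42) (LK LD1_c1 LD2_c33 LD3_c24) Lrfl Lrfl
theorem f106988 : Led Lsl_af (LP (LK LD1_c1 LD2_c33 LD3_c24)) = (LP (LK LD1_c1 LD2_c48 LD3_c38)) :=
  Lgr Lrot109 (Lpe (f95809 IH) (Lpe (f95811 IH) (Lpr_cf (f95945 IH) (Lpe (f87487 IH) (Lpe (f87486 IH) (Lpe (f87485 IH) (Lpr_cf (K2.f84758 IH) (Lpe (f87488 IH) (Lpr_ft (f106983 IH) (Lpn (LP (LK LD1_c1 LD2_c48 LD3_c38))))))))))))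
theorem f95798 : Led Lsl_et (LP (LK LD1_c1 LD2_c33 LD3_c24)) = (LP (LK LD1_c3 LD2_c13 LD3_c39)) :=
  Lre_e IH (LK LD1_c1 LD2_c33 LD3_c24) (LK LD1_c3 LD2_c13 LD3_c39) Lrfl Lrfl
theorem f86776 : Led Lsl_et (LP (LK LD1_c3 LD2_c43 LD3_c6)) = (LP (LK LD1_c1 LD2_c48 LD3_c38)) :=
  Lre_e IH (LK LD1_c3 LD2_c43 LD3_c6) (LK LD1_c1 LD2_c48 LD3_c38) Lrfl Lrfl
theorem f106994 : Led Lsl_at (LP (LK LD1_c3 LD2_c13 LD3_c39)) = (LP (LK LD1_c3 LD2_c43 LD3_c6)) :=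
  Lgr Lrot80 (Lpe (f95798 IH) (Lpr_af (f106988 IH) (Lpe (f86776 IH) (Lpn (LP (LK LD1_c3 LD2_c43 LD3_c6))))))
theorem f95799 : Led Lsl_ft (LP (LK LD1_c6 LD2_c30 LD3_c61)) = (LP (LK LD1_c3 LD2_c13 LD3_c39)) :=
  Lre_f IH (LK LD1_c6 LD2_c30 LD3_c61) (LK LD1_c3 LD2_c13 LD3_c39) Lrfl Lrfl
theorem f106987 : Led Lsl_ft (LP (LK LD1_c3 LD2_c43 LD3_c6)) = (LP (LK LD1_c7 LD2_c26 LD3_c56)) :=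
  Lre_f IH (LK LD1_c3 LD2_c43 LD3_c6) (LK LD1_c7 LD2_c26 LD3_c56) Lrfl Lrfl
theorem f107004 : Led Lsl_af (LP (LK LD1_c6 LD2_c30 LD3_c61)) = (LP (LK LD1_c7 LD2_c26 LD3_c56)) :=
  Lgr Lrot45 (Lpr_ft (f95799 IH) (Lpr_at (f106994 IH) (Lpr_ft (f106987 IH) (Lpn (LP (LK LD1_c7 LD2_c26 LD3_c56))))))
theorem f107012 : Led Lsl_ct (LP (LK LD1_c12 LD2_c30 LD3_c38)) = (LP (LK LD1_c6 LD2_c30 LD3_c61)) :=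
  Lre_c IH (LK LD1_c12 LD2_c30 LD3_c38) (LK LD1_c6 LD2_c30 LD3_c61) Lrfl Lrfl
theorem f107021 : Led Lsl_dt (LP (LK LD1_c21 LD2_c37 LD3_c1)) = (LP (LK LD1_c12 LD2_c30 LD3_c38)) :=
  Lre_d IH (LK LD1_c21 LD2_c37 LD3_c1) (LK LD1_c12 LD2_c30 LD3_c38) Lrfl Lrfl
theorem f86777 : Led Lsl_dt (LP (LK LD1_c3 LD2_c43 LD3_c6)) = (LP (LK LD1_c1 LD2_c48 LD3_c37)) :=
  Lre_d IH (LK LD1_c3 LD2_c43 LD3_c6) (LK LD1_c1 LD2_c48 LD3_c37) Lrfl Lrfl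
theorem f107022 : Led Lsl_ct (LP (LK LD1_c1 LD2_c48 LD3_c37)) = (LP (LK LD1_c3 LD2_c43 LD3_c5)) :=
  Lre_c IH (LK LD1_c1 LD2_c48 LD3_c37) (LK LD1_c3 LD2_c43 LD3_c5) Lrfl Lrfl
theorem f107023 : Led Lsl_dt (LP (LK LD1_c3 LD2_c43 LD3_c5)) = (LP (LK LD1_c7 LD2_c26 LD3_c53)) :=
  Lre_d IH (LK LD1_c3 LD2_c43 LD3_c5) (LK LD1_c7 LD2_c26 LD3_c53) Lrfl Lrfl
theorem f107024 : Led Lsl_ct (LP (LK LD1_c7 LD2_c26 LD3_c53)) = (LP (LK LD1_c14 LD2_c4 LD3_c30)) :=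
  Lre_c IH (LK LD1_c7 LD2_c26 LD3_c53) (LK LD1_c14 LD2_c4 LD3_c30) Lrfl Lrfl
theorem f107025 : Led Lsl_dt (LP (LK LD1_c14 LD2_c4 LD3_c30)) = (LP (LK LD1_c23 LD2_c37 LD3_c51)) :=
  Lre_d IH (LK LD1_c14 LD2_c4 LD3_c30) (LK LD1_c23 LD2_c37 LD3_c51) Lrfl Lrfl
theorem f107026 : Led Lsl_cf (LP (LK LD1_c21 LD2_c37 LD3_c1)) = (LP (LK LD1_c23 LD2_c37 LD3_c51)) :=
  Lgr Lrot161 (Lpr_dt (f107021 IH) (Lpr_ct (f107012 IH) (Lpr_af (f107004 IH) (Lpe (f106987 IH) (Lpr_dt (f86777 IH) (Lpr_ct (f107022 IH) (Lpr_dt (f107023 IH) (Lpr_ct (f107024 IH) (Lpr_dt (f107025 IH) (Lpn (LP (LK LD1_c23 LD2_c37 LD3_c51))))))))))))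
theorem f107028 : Led Lsl_ct (LP (LK LD1_c21 LD2_c37 LD3_c1)) = (LP (LK LD1_c23 LD2_c37 LD3_c51)) :=
  Lgr Lrot59 (Lpr_cf (f107026 IH) (Lpn (LP (LK LD1_c23 LD2_c37 LD3_c51))))
theorem f107031 : Led Lsl_dt (LP (LK LD1_c12 LD2_c30 LD3_c38)) = (LP (LK LD1_c21 LD2_c37 LD3_c1)) :=
  Lre_d IH (LK LD1_c12 LD2_c30 LD3_c38) (LK LD1_c21 LD2_c37 LD3_c1) Lrfl Lrfl
theorem f107011 : Led Lsl_ct (LP (LK LD1_c6 LD2_c30 LD3_c61)) = (LP (LK LD1_c12 LD2_c30 LD3_c38)) :=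
  Lre_c IH (LK LD1_c6 LD2_c30 LD3_c61) (LK LD1_c12 LD2_c30 LD3_c38) Lrfl Lrfl
theorem f23640 : Led Lsl_dt (LP (LK LD1_c3 LD2_c13 LD3_c40)) = (LP (LK LD1_c6 LD2_c30 LD3_c61)) :=
  Lre_d IH (LK LD1_c3 LD2_c13 LD3_c40) (LK LD1_c6 LD2_c30 LD3_c61) Lrfl Lrfl
theorem f23641 : Led Lsl_ft (LP (LK LD1_c3 LD2_c13 LD3_c40)) = (LP (LK LD1_c1 LD2_c33 LD3_c22)) :=
  Lre_f IH (LK LD1_c3 LD2_c13 LD3_c40) (LK LD1_c1 LD2_c33 LD3_c22) Lrfl Lrfl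
theorem f107032 : Led Lsl_dt (LP (LK LD1_c23 LD2_c37 LD3_c51)) = (LP (LK LD1_c14 LD2_c4 LD3_c30)) :=
  Lre_d IH (LK LD1_c23 LD2_c37 LD3_c51) (LK LD1_c14 LD2_c4 LD3_c30) Lrfl Lrfl
theorem f107033 : Led Lsl_ct (LP (LK LD1_c14 LD2_c4 LD3_c30)) = (LP (LK LD1_c7 LD2_c26 LD3_c53)) :=
  Lre_c IH (LK LD1_c14 LD2_c4 LD3_c30) (LK LD1_c7 LD2_c26 LD3_c53) Lrfl Lrfl
theorem f107034 : Led Lsl_dt (LP (LK LD1_c7 LD2_c26 LD3_c53)) = (LP (LK LD1_c3 LD2_c43 LD3_c5)) :=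
  Lre_d IH (LK LD1_c7 LD2_c26 LD3_c53) (LK LD1_c3 LD2_c43 LD3_c5) Lrfl Lrfl
theorem f107035 : Led Lsl_ct (LP (LK LD1_c3 LD2_c43 LD3_c5)) = (LP (LK LD1_c1 LD2_c48 LD3_c37)) :=
  Lre_c IH (LK LD1_c3 LD2_c43 LD3_c5) (LK LD1_c1 LD2_c48 LD3_c37) Lrfl Lrfl
theorem f107043 : Led Lsl_at (LP (LK LD1_c1 LD2_c33 LD3_c22)) = (LP (LK LD1_c1 LD2_c48 LD3_c37)) :=
  Lgr Lrot33 (Lpe (f23641 IH) (Lpr_dt (f23640 IH) (Lpr_ct (f107011 IH) (Lpr_dt (f107031 IH) (Lpr_ct (f107028 IH) (Lpr_dt (f107032 IH) (Lpr_ct (f107033 IH) (Lpr_dt (f107034 IH) (Lpr_ct (f107035 IH) (Lpn (LP (LK LD1_c1 LD2_c48 LD3_c37))))))))))))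
theorem f23646 : Led Lsl_et (LP (LK LD1_c0 LD2_c43 LD3_c17)) = (LP (LK LD1_c1 LD2_c33 LD3_c22)) :=
  Lre_e IH (LK LD1_c0 LD2_c43 LD3_c17) (LK LD1_c1 LD2_c33 LD3_c22) Lrfl Lrfl
theorem f107049 : Led Lsl_et (LP (LK LD1_c1 LD2_c48 LD3_c37)) = (LP (LK LD1_c0 LD2_c51 LD3_c4)) :=
  Lre_e IH (LK LD1_c1 LD2_c48 LD3_c37) (LK LD1_c0 LD2_c51 LD3_c4) Lrfl Lrfl
theorem f107050 : Led Lsl_af (LP (LK LD1_c0 LD2_c43 LD3_c17)) = (LP (LK LD1_c0 LD2_c51 LD3_c4)) :=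
  Lgr Lrot50 (Lpr_et (f23646 IH) (Lpr_at (f107043 IH) (Lpr_et (f107049 IH) (Lpn (LP (LK LD1_c0 LD2_c51 LD3_c4))))))
theorem f23650 : Led Lsl_dt (LP (LK LD1_c0 LD2_c43 LD3_c17)) = (LP (LK LD1_c0 LD2_c19 LD3_c19)) :=
  Lre_d IH (LK LD1_c0 LD2_c43 LD3_c17) (LK LD1_c0 LD2_c19 LD3_c19) Lrfl Lrfl
theorem f86742 : Led Lsl_dt (LP (LK LD1_c0 LD2_c23 LD3_c4)) = (LP (LK LD1_c0 LD2_c51 LD3_c4)) :=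
  Lre_d IH (LK LD1_c0 LD2_c23 LD3_c4) (LK LD1_c0 LD2_c51 LD3_c4) Lrfl Lrfl
theorem f107062 : Led Lsl_at (LP (LK LD1_c0 LD2_c19 LD3_c19)) = (LP (LK LD1_c0 LD2_c23 LD3_c4)) :=
  Lgr Lrot51 (Lpe (f23650 IH) (Lpr_af (f107050 IH) (Lpe (f86742 IH) (Lpn (LP (LK LD1_c0 LD2_c23 LD3_c4))))))
theorem f23718 : Led Lsl_et (LP (LK LD1_c0 LD2_c43 LD3_c18)) = (LP (LK LD1_c0 LD2_c19 LD3_c19)) :=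
  Lre_e IH (LK LD1_c0 LD2_c43 LD3_c18) (LK LD1_c0 LD2_c19 LD3_c19) Lrfl Lrfl
theorem f86741 : Led Lsl_et (LP (LK LD1_c0 LD2_c23 LD3_c4)) = (LP (LK LD1_c0 LD2_c51 LD3_c5)) :=
  Lre_e IH (LK LD1_c0 LD2_c23 LD3_c4) (LK LD1_c0 LD2_c51 LD3_c5) Lrfl Lrfl
theorem f107068 : Led Lsl_af (LP (LK LD1_c0 LD2_c43 LD3_c18)) = (LP (LK LD1_c0 LD2_c51 LD3_c5)) :=
  Lgr Lrot50 (Lpr_et (f23718 IH) (Lpr_at (f107062 IH) (Lpr_et (f86741 IH) (Lpn (LP (LK LD1_c0 LD2_c51 LD3_c5))))))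
theorem f107070 : Led Lsl_at (LP (LK LD1_c1 LD2_c33 LD3_c20)) = (LP (LK LD1_c0 LD2_c49 LD3_c42)) :=
  Lgr Lrot107 (Lpe (f95784 IH) (Lpr_af (f107068 IH) (Lpe (f86723 IH) (Lpn (LP (LK LD1_c0 LD2_c49 LD3_c42))))))
theorem f65537 : Led Lsl_dt (LP (LK LD1_c0 LD2_c49 LD3_c42)) = (LP (LK LD1_c1 LD2_c45 LD3_c59)) :=
  Lre_d IH (LK LD1_c0 LD2_c49 LD3_c42) (LK LD1_c1 LD2_c45 LD3_c59) Lrfl Lrfl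
theorem f107076 : Led Lsl_af (LP (LK LD1_c3 LD2_c13 LD3_c32)) = (LP (LK LD1_c1 LD2_c45 LD3_c59)) :=
  Lgr Lrot117 (Lpr_dt (f95783 IH) (Lpr_at (f107070 IH) (Lpr_dt (f65537 IH) (Lpn (LP (LK LD1_c1 LD2_c45 LD3_c59))))))
theorem f107090 : Led Lsl_at (LP (LK LD1_c3 LD2_c15 LD3_c20)) = (LP (LK LD1_c1 LD2_c44 LD3_c2)) :=
  Lgr Lrot67 (Lpe (f95828 IH) (Lpr_af (f107076 IH) (Lpe (f105991 IH) (Lpe (f106452 IH) (Lpe (f106434 IH) (Lpn (LP (LK LD1_c1 LD2_c44 LD3_c2))))))))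
theorem f95185 : Led Lsl_et (LP (LK LD1_c6 LD2_c33 LD3_c61)) = (LP (LK LD1_c3 LD2_c15 LD3_c20)) :=
  Lre_e IH (LK LD1_c6 LD2_c33 LD3_c61) (LK LD1_c3 LD2_c15 LD3_c20) Lrfl Lrfl
theorem f106687 : Led Lsl_et (LP (LK LD1_c1 LD2_c44 LD3_c2)) = (LP (LK LD1_c3 LD2_c34 LD3_c31)) :=
  Lre_e IH (LK LD1_c1 LD2_c44 LD3_c2) (LK LD1_c3 LD2_c34 LD3_c31) Lrfl Lrfl
theorem f107158 : Led Lsl_af (LP (LK LD1_c6 LD2_c33 LD3_c61)) = (LP (LK LD1_c3 LD2_c34 LD3_c31)) :=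
  Lgr Lrot50 (Lpr_et (f95185 IH) (Lpr_at (f107090 IH) (Lpr_et (f106687 IH) (Lpn (LP (LK LD1_c3 LD2_c34 LD3_c31))))))
theorem f95186 : Led Lsl_dt (LP (LK LD1_c6 LD2_c33 LD3_c61)) = (LP (LK LD1_c3 LD2_c15 LD3_c19)) :=
  Lre_d IH (LK LD1_c6 LD2_c33 LD3_c61) (LK LD1_c3 LD2_c15 LD3_c19) Lrfl Lrfl
theorem f17438 : Led Lsl_et (LP (LK LD1_c0 LD2_c49 LD3_c18)) = (LP (LK LD1_c1 LD2_c45 LD3_c12)) :=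
  Lre_e IH (LK LD1_c0 LD2_c49 LD3_c18) (LK LD1_c1 LD2_c45 LD3_c12) Lrfl Lrfl
theorem f106682 : Led Lsl_et (LP (LK LD1_c3 LD2_c34 LD3_c31)) = (LP (LK LD1_c1 LD2_c44 LD3_c2)) :=
  Lre_e IH (LK LD1_c3 LD2_c34 LD3_c31) (LK LD1_c1 LD2_c44 LD3_c2) Lrfl Lrfl
theorem f106683 : Led Lsl_dt (LP (LK LD1_c1 LD2_c45 LD3_c12)) = (LP (LK LD1_c3 LD2_c34 LD3_c31)) :=
  Lgr Lrot77 (Lpe (f17438 IH) (Lpr_df (K0.f17458 IH) (Lpe (f105742 IH) (Lpr_df (f106677 IH) (Lpe (f106682 IH) (Lpn (LP (LK LD1_c3 LD2_c34 LD3_c31))))))))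
theorem f107166 : Led Lsl_at (LP (LK LD1_c3 LD2_c15 LD3_c19)) = (LP (LK LD1_c1 LD2_c45 LD3_c12)) :=
  Lgr Lrot51 (Lpe (f95186 IH) (Lpr_af (f107158 IH) (Lpe (f106683 IH) (Lpn (LP (LK LD1_c1 LD2_c45 LD3_c12))))))
theorem f94535 : Led Lsl_et (LP (LK LD1_c1 LD2_c34 LD3_c21)) = (LP (LK LD1_c3 LD2_c15 LD3_c19)) :=
  Lre_e IH (LK LD1_c1 LD2_c34 LD3_c21) (LK LD1_c3 LD2_c15 LD3_c19) Lrfl Lrfl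
theorem f107171 : Led Lsl_af (LP (LK LD1_c1 LD2_c34 LD3_c21)) = (LP (LK LD1_c0 LD2_c49 LD3_c18)) :=
  Lgr Lrot50 (Lpr_et (f94535 IH) (Lpr_at (f107166 IH) (Lpr_et (f17313 IH) (Lpn (LP (LK LD1_c0 LD2_c49 LD3_c18))))))
theorem f96163 : Led Lsl_dt (LP (LK LD1_c3 LD2_c29 LD3_c26)) = (LP (LK LD1_c1 LD2_c50 LD3_c36)) :=
  Lgr Lrot6 (Lpr_gt (f87853 IH) (Lpr_ct (f87806 IH) (Lpr_gt (f96036 IH) (Lpr_ct (f63731 IH) (Lpe (K1.f15272 IH) (Lpe (f11979 IH) (Lpe (K2.f11978 IH) (Lpe (K2.f11958 IH) (Lpr_gf (f96132 IH) (Lpn (LP (LK LD1_c1 LD2_c50 LD3_c36))))))))))))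
theorem f107186 : Led Lsl_ft (LP (LK LD1_c0 LD2_c48 LD3_c20)) = (LP (LK LD1_c0 LD2_c49 LD3_c18)) :=
  Lgr Lrot2 (Lpr_gt (f96192 IH) (Lpe (f65960 IH) (Lpr_af (f107171 IH) (Lpn (LP (LK LD1_c0 LD2_c49 LD3_c18))))))
theorem f107188 : Led Lsl_df (LP (LK LD1_c0 LD2_c22 LD3_c22)) = (LP (LK LD1_c0 LD2_c48 LD3_c20)) :=
  Lgr Lrot157 (Lpr_ct (f392 IH) (Lpr_dt (f26217 IH) (Lpr_ct (f104094 IH) (Lpe (f65992 IH) (Lpe (f96178 IH) (Lpr_dt (f96163 IH) (Lpe (f96122 IH) (Lpr_af (f107171 IH) (Lpe (f107186 IH) (Lpn (LP (LK LD1_c0 LD2_c48 LD3_c20))))))))))))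
theorem f64184 : Led Lsl_dt (LP (LK LD1_c0 LD2_c10 LD3_c40)) = (LP (LK LD1_c0 LD2_c23 LD3_c52)) :=
  Lre_d IH (LK LD1_c0 LD2_c10 LD3_c40) (LK LD1_c0 LD2_c23 LD3_c52) Lrfl Lrfl
theorem f107192 : Led Lsl_gt (LP (LK LD1_c0 LD2_c22 LD3_c22)) = (LP (LK LD1_c0 LD2_c19 LD3_c35)) :=
  Lgr Lrot49 (Lpr_df (f107188 IH) (Lpr_gf (f89682 IH) (Lpe (K1.f12199 IH) (Lpr_gt (K0.f12192 IH) (Lpr_dt (f64184 IH) (Lpr_gt (K1.f15048 IH) (Lpr_dt (K1.f65175 IH) (Lpe (K2.f62823 IH) (Lpe (K2.f62820 IH) (Lpn (LP (LK LD1_c0 LD2_c19 LD3_c35))))))))))))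
theorem f26250 : Led Lsl_gt (LP (LK LD1_c0 LD2_c50 LD3_c46)) = (LP (LK LD1_c0 LD2_c22 LD3_c56)) :=
  Lre_g IH (LK LD1_c0 LD2_c50 LD3_c46) (LK LD1_c0 LD2_c22 LD3_c56) Lrfl Lrfl
theorem f107202 : Led Lsl_bf (LP (LK LD1_c0 LD2_c50 LD3_c46)) = (LP (LK LD1_c0 LD2_c45 LD3_c9)) :=
  Lgr Lrot156 (Lpr_gt (f26250 IH) (Lpr_bf (f26214 IH) (Lpr_ct (f5392 IH) (Lpr_gt (f107192 IH) (Lpe (K1.f23461 IH) (Lpr_bt (K2.f23333 IH) (Lpe (f95261 IH) (Lpe (f24330 IH) (Lpr_gt (f103507 IH) (Lpe (f103490 IH) (Lpn (LP (LK LD1_c0 LD2_c45 LD3_c9)))))))))))))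
theorem f103493 : Led Lsl_cf (LP (LK LD1_c0 LD2_c45 LD3_c9)) = (LP (LK LD1_c0 LD2_c43 LD3_c51)) :=
  Lgr Lrot11 (Lpr_ct (f103490 IH) (Lpn (LP (LK LD1_c0 LD2_c43 LD3_c51))))
theorem f65437 : Led Lsl_ft (LP (LK LD1_c0 LD2_c43 LD3_c55)) = (LP (LK LD1_c0 LD2_c19 LD3_c35)) :=
  Lre_f IH (LK LD1_c0 LD2_c43 LD3_c55) (LK LD1_c0 LD2_c19 LD3_c35) Lrfl Lrfl
theorem f98623 : Led Lsl_bt (LP (LK LD1_c0 LD2_c46 LD3_c18)) = (LP (LK LD1_c0 LD2_c43 LD3_c55)) :=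
  Lgr Lrot35 (Lpr_ff (f98612 IH) (Lpe (f14707 IH) (Lpe (f65437 IH) (Lpn (LP (LK LD1_c0 LD2_c43 LD3_c55))))))
theorem f107208 : Led Lsl_ct (LP (LK LD1_c0 LD2_c50 LD3_c46)) = (LP (LK LD1_c0 LD2_c46 LD3_c18)) :=
  Lgr Lrot83 (Lpr_bf (f107202 IH) (Lpr_cf (f103493 IH) (Lpe (f79320 IH) (Lpe (f103565 IH) (Lpe (f98623 IH) (Lpn (LP (LK LD1_c0 LD2_c46 LD3_c18))))))))
theorem f107206 : Led Lsl_bt (LP (LK LD1_c0 LD2_c50 LD3_c46)) = (LP (LK LD1_c0 LD2_c45 LD3_c9)) :=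
  Lgr Lrot127 (Lpr_bf (f107202 IH) (Lpn (LP (LK LD1_c0 LD2_c45 LD3_c9))))
theorem f107223 : Led Lsl_gt (LP (LK LD1_c0 LD2_c43 LD3_c16)) = (LP (LK LD1_c0 LD2_c46 LD3_c18)) :=
  Lgr Lrot149 (Lpe (K0.f20871 IH) (Lpe (K0.f20870 IH) (Lpe (K0.f12332 IH) (Lpe (K0.f20074 IH) (Lpr_gf (K0.f20863 IH) (Lpe (K0.f9735 IH) (Lpr_bt (K0.f9734 IH) (Lpe (f9756 IH) (Lpe (f107206 IH) (Lpr_ct (f107208 IH) (Lpn (LP (LK LD1_c0 LD2_c46 LD3_c18)))))))))))))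
theorem f23652 : Led Lsl_bf (LP (LK LD1_c0 LD2_c43 LD3_c16)) = (LP (LK LD1_c0 LD2_c43 LD3_c52)) :=
  Lgr Lrot24 (Lpr_bt (K0.f23599 IH) (Lpn (LP (LK LD1_c0 LD2_c43 LD3_c52))))
theorem f107215 : Led Lsl_cf (LP (LK LD1_c0 LD2_c50 LD3_c46)) = (LP (LK LD1_c0 LD2_c46 LD3_c18)) :=
  Lgr Lrot11 (Lpr_ct (f107208 IH) (Lpn (LP (LK LD1_c0 LD2_c46 LD3_c18))))
theorem f26180 : Led Lsl_bt (LP (LK LD1_c0 LD2_c10 LD3_c20)) = (LP (LK LD1_c0 LD2_c22 LD3_c23)) :=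
  Lgr Lrot127 (Lpr_bf (f26178 IH) (Lpn (LP (LK LD1_c0 LD2_c22 LD3_c23))))
theorem f107229 : Led Lsl_gf (LP (LK LD1_c0 LD2_c23 LD3_c15)) = (LP (LK LD1_c0 LD2_c22 LD3_c23)) :=
  Lgr Lrot124 (Lpe (K2.f5774 IH) (Lpr_ct (f85145 IH) (Lpe (f95739 IH) (Lpe (K0.f23598 IH) (Lpe (f23652 IH) (Lpr_gt (f107223 IH) (Lpe (f107215 IH) (Lpr_gt (f26250 IH) (Lpe (f12840 IH) (Lpr_bt (f26180 IH) (Lpn (LP (LK LD1_c0 LD2_c22 LD3_c23)))))))))))))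
theorem f5255 : Led Lsl_gf (LP (LK LD1_c0 LD2_c10 LD3_c3)) = (LP (LK LD1_c0 LD2_c10 LD3_c9)) :=
  Lgr Lrot47 (Lpr_gt (f384 IH) (Lpe (K0.f371 IH) (Lpr_ff (K2.f5239 IH) (Lpn (LP (LK LD1_c0 LD2_c10 LD3_c9))))))
theorem f389 : Led Lsl_ct (LP (LK LD1_c0 LD2_c22 LD3_c20)) = (LP (LK LD1_c0 LD2_c10 LD3_c2)) :=
  Lre_c IH (LK LD1_c0 LD2_c22 LD3_c20) (LK LD1_c0 LD2_c10 LD3_c2) Lrfl Lrfl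
theorem f390 : Led Lsl_bt (LP (LK LD1_c0 LD2_c22 LD3_c20)) = (LP (LK LD1_c0 LD2_c49 LD3_c43)) :=
  Lre_b IH (LK LD1_c0 LD2_c22 LD3_c20) (LK LD1_c0 LD2_c49 LD3_c43) Lrfl Lrfl
theorem f107233 : Led Lsl_gt (LP (LK LD1_c0 LD2_c23 LD3_c18)) = (LP (LK LD1_c0 LD2_c49 LD3_c43)) :=
  Lgr Lrot164 (Lpr_bf (K2.f5778 IH) (Lpr_ct (f98543 IH) (Lpr_gf (f107229 IH) (Lpe (f5257 IH) (Lpr_gf (f5255 IH) (Lpr_bf (K2.f4907 IH) (Lpe (K0.f4996 IH) (Lpe (f5806 IH) (Lpe (f389 IH) (Lpr_bt (f390 IH) (Lpn (LP (LK LD1_c0 LD2_c49 LD3_c43)))))))))))))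
theorem f97364 : Led Lsl_ct (LP (LK LD1_c0 LD2_c49 LD3_c43)) = (LP (LK LD1_c0 LD2_c51 LD3_c3)) :=
  Lre_c IH (LK LD1_c0 LD2_c49 LD3_c43) (LK LD1_c0 LD2_c51 LD3_c3) Lrfl Lrfl
theorem f5795 : Led Lsl_dt (LP (LK LD1_c0 LD2_c23 LD3_c18)) = (LP (LK LD1_c0 LD2_c51 LD3_c33)) :=
  Lre_d IH (LK LD1_c0 LD2_c23 LD3_c18) (LK LD1_c0 LD2_c51 LD3_c33) Lrfl Lrfl
theorem f107250 : Led Lsl_gf (LP (LK LD1_c0 LD2_c46 LD3_c13)) = (LP (LK LD1_c0 LD2_c51 LD3_c3)) :=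
  Lgr Lrot104 (Lpr_ct (f98700 IH) (Lpr_df (f98653 IH) (Lpe (K2.f18173 IH) (Lpe (K2.f18174 IH) (Lpe (K2.f91224 IH) (Lpe (f97545 IH) (Lpe (f5795 IH) (Lpr_gt (f107233 IH) (Lpr_ct (f97364 IH) (Lpn (LP (LK LD1_c0 LD2_c51 LD3_c3))))))))))))
theorem f107254 : Led Lsl_bf (LP (LK LD1_c0 LD2_c19 LD3_c39)) = (LP (LK LD1_c0 LD2_c20 LD3_c47)) :=
  Lgr Lrot156 (Lpe (f104100 IH) (Lpe (f26248 IH) (Lpr_ct (f5257 IH) (Lpe (f107229 IH) (Lpe (f98543 IH) (Lpe (K2.f5778 IH) (Lpr_gt (f107233 IH) (Lpr_ct (f97364 IH) (Lpe (f107250 IH) (Lpe (f98696 IH) (Lpn (LP (LK LD1_c0 LD2_c20 LD3_c47)))))))))))))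
theorem f4902 : Led Lsl_gt (LP (LK LD1_c0 LD2_c10 LD3_c16)) = (LP (LK LD1_c0 LD2_c4 LD3_c51)) :=
  Lre_g IH (LK LD1_c0 LD2_c10 LD3_c16) (LK LD1_c0 LD2_c4 LD3_c51) Lrfl Lrfl
theorem f12348 : Led Lsl_bt (LP (LK LD1_c0 LD2_c22 LD3_c45)) = (LP (LK LD1_c0 LD2_c10 LD3_c16)) :=
  Lre_b IH (LK LD1_c0 LD2_c22 LD3_c45) (LK LD1_c0 LD2_c10 LD3_c16) Lrfl Lrfl
theorem f12349 : Led Lsl_ct (LP (LK LD1_c0 LD2_c22 LD3_c45)) = (LP (LK LD1_c0 LD2_c50 LD3_c21)) :=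
  Lre_c IH (LK LD1_c0 LD2_c22 LD3_c45) (LK LD1_c0 LD2_c50 LD3_c21) Lrfl Lrfl
theorem f107261 : Led Lsl_gf (LP (LK LD1_c0 LD2_c50 LD3_c21)) = (LP (LK LD1_c0 LD2_c46 LD3_c13)) :=
  Lgr Lrot126 (Lpe (f12349 IH) (Lpr_bt (f12348 IH) (Lpr_gt (f4902 IH) (Lpe (K0.f23667 IH) (Lpr_gt (K0.f20870 IH) (Lpe (K0.f23666 IH) (Lpr_bt (K0.f23599 IH) (Lpr_gt (K0.f23662 IH) (Lpr_bf (f107254 IH) (Lpr_ct (f98696 IH) (Lpn (LP (LK LD1_c0 LD2_c46 LD3_c13)))))))))))))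
theorem f94343 : Led Lsl_ft (LP (LK LD1_c0 LD2_c46 LD3_c13)) = (LP (LK LD1_c0 LD2_c20 LD3_c45)) :=
  Lre_f IH (LK LD1_c0 LD2_c46 LD3_c13) (LK LD1_c0 LD2_c20 LD3_c45) Lrfl Lrfl
theorem f102362 : Led Lsl_at (LP (LK LD1_c0 LD2_c20 LD3_c45)) = (LP (LK LD1_c0 LD2_c30 LD3_c59)) :=
  Lgr Lrot66 (Lpe (f94343 IH) (Lpe (f98823 IH) (Lpr_ff (f102352 IH) (Lpn (LP (LK LD1_c0 LD2_c30 LD3_c59))))))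
theorem f107263 : Led Lsl_gt (LP (LK LD1_c0 LD2_c50 LD3_c21)) = (LP (LK LD1_c0 LD2_c30 LD3_c59)) :=
  Lgr Lrot46 (Lpr_gf (f107261 IH) (Lpr_ft (f94343 IH) (Lpr_at (f102362 IH) (Lpn (LP (LK LD1_c0 LD2_c30 LD3_c59))))))
theorem f94284 : Led Lsl_bt (LP (LK LD1_c0 LD2_c20 LD3_c43)) = (LP (LK LD1_c0 LD2_c46 LD3_c7)) :=
  Lre_b IH (LK LD1_c0 LD2_c20 LD3_c43) (LK LD1_c0 LD2_c46 LD3_c7) Lrfl Lrfl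
theorem f107225 : Led Lsl_gf (LP (LK LD1_c0 LD2_c43 LD3_c16)) = (LP (LK LD1_c0 LD2_c46 LD3_c7)) :=
  Lgr Lrot47 (Lpr_gt (f107223 IH) (Lpe (f98629 IH) (Lpe (f94273 IH) (Lpn (LP (LK LD1_c0 LD2_c46 LD3_c7))))))
theorem f85146 : Led Lsl_ft (LP (LK LD1_c0 LD2_c23 LD3_c16)) = (LP (LK LD1_c0 LD2_c10 LD3_c34)) :=
  Lre_f IH (LK LD1_c0 LD2_c23 LD3_c16) (LK LD1_c0 LD2_c10 LD3_c34) Lrfl Lrfl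
theorem f95552 : Led Lsl_at (LP (LK LD1_c0 LD2_c10 LD3_c34)) = (LP (LK LD1_c0 LD2_c23 LD3_c26)) :=
  Lre_a IH (LK LD1_c0 LD2_c10 LD3_c34) (LK LD1_c0 LD2_c23 LD3_c26) Lrfl Lrfl
theorem f95741 : Led Lsl_gt (LP (LK LD1_c0 LD2_c43 LD3_c4)) = (LP (LK LD1_c0 LD2_c23 LD3_c26)) :=
  Lgr Lrot46 (Lpr_gf (f95739 IH) (Lpr_ft (f85146 IH) (Lpr_at (f95552 IH) (Lpn (LP (LK LD1_c0 LD2_c23 LD3_c26))))))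
theorem f95727 : Led Lsl_ct (LP (LK LD1_c0 LD2_c10 LD3_c32)) = (LP (LK LD1_c0 LD2_c23 LD3_c26)) :=
  Lre_c IH (LK LD1_c0 LD2_c10 LD3_c32) (LK LD1_c0 LD2_c23 LD3_c26) Lrfl Lrfl
theorem f104195 : Led Lsl_bt (LP (LK LD1_c0 LD2_c10 LD3_c32)) = (LP (LK LD1_c0 LD2_c23 LD3_c21)) :=
  Lre_b IH (LK LD1_c0 LD2_c10 LD3_c32) (LK LD1_c0 LD2_c23 LD3_c21) Lrfl Lrfl
theorem f107274 : Led Lsl_gf (LP (LK LD1_c0 LD2_c22 LD3_c45)) = (LP (LK LD1_c0 LD2_c23 LD3_c21)) :=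
  Lgr Lrot181 (Lpr_ct (f12349 IH) (Lpr_gt (f107263 IH) (Lpe (f102350 IH) (Lpr_bt (f94284 IH) (Lpe (f107225 IH) (Lpr_bf (f23652 IH) (Lpr_ct (K0.f23598 IH) (Lpr_gt (f95741 IH) (Lpe (f95727 IH) (Lpr_bt (f104195 IH) (Lpn (LP (LK LD1_c0 LD2_c23 LD3_c21)))))))))))))
theorem f95914 : Led Lsl_dt (LP (LK LD1_c0 LD2_c22 LD3_c45)) = (LP (LK LD1_c0 LD2_c50 LD3_c22)) :=
  Lre_d IH (LK LD1_c0 LD2_c22 LD3_c45) (LK LD1_c0 LD2_c50 LD3_c22) Lrfl Lrfl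
theorem f85180 : Led Lsl_ft (LP (LK LD1_c0 LD2_c10 LD3_c29)) = (LP (LK LD1_c0 LD2_c23 LD3_c21)) :=
  Lre_f IH (LK LD1_c0 LD2_c10 LD3_c29) (LK LD1_c0 LD2_c23 LD3_c21) Lrfl Lrfl
theorem f95314 : Led Lsl_cf (LP (LK LD1_c0 LD2_c20 LD3_c15)) = (LP (LK LD1_c0 LD2_c23 LD3_c21)) :=
  Lgr Lrot108 (Lpr_ft (K2.f95310 IH) (Lpr_ct (K2.f23708 IH) (Lpr_ft (f85180 IH) (Lpn (LP (LK LD1_c0 LD2_c23 LD3_c21))))))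
theorem f107278 : Led Lsl_gt (LP (LK LD1_c0 LD2_c50 LD3_c22)) = (LP (LK LD1_c0 LD2_c52 LD3_c25)) :=
  Lgr Lrot189 (Lpe (f95914 IH) (Lpr_gf (f107274 IH) (Lpe (f95314 IH) (Lpr_gt (K2.f11975 IH) (Lpr_dt (K0.f14554 IH) (Lpr_gt (K2.f59568 IH) (Lpr_dt (K2.f90561 IH) (Lpr_ct (K2.f90103 IH) (Lpe (K2.f88646 IH) (Lpn (LP (LK LD1_c0 LD2_c52 LD3_c25))))))))))))
theorem f107299 : Led Lsl_cf (LP (LK LD1_c0 LD2_c23 LD3_c21)) = (LP (LK LD1_c0 LD2_c20 LD3_c15)) :=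
  Lgr Lrot166 (Lpe (f107274 IH) (Lpr_dt (f95914 IH) (Lpr_gt (f107278 IH) (Lpr_dt (K2.f88646 IH) (Lpe (K2.f90094 IH) (Lpe (K2.f90561 IH) (Lpe (K2.f59568 IH) (Lpe (K0.f14554 IH) (Lpe (K2.f11975 IH) (Lpn (LP (LK LD1_c0 LD2_c20 LD3_c15))))))))))))
theorem f11444 : Led Lsl_ct (LP (LK LD1_c1 LD2_c41 LD3_c22)) = (LP (LK LD1_c0 LD2_c47 LD3_c16)) :=
  Lre_c IH (LK LD1_c1 LD2_c41 LD3_c22) (LK LD1_c0 LD2_c47 LD3_c16) Lrfl Lrfl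
theorem f107328 : Led Lsl_dt (LP (LK LD1_c0 LD2_c23 LD3_c21)) = (LP (LK LD1_c0 LD2_c47 LD3_c16)) :=
  Lgr Lrot27 (Lpr_cf (f107299 IH) (Lpe (K2.f9813 IH) (Lpe (K0.f9791 IH) (Lpe (K2.f9811 IH) (Lpe (K2.f14988 IH) (Lpe (K2.f94216 IH) (Lpr_ct (K2.f15851 IH) (Lpe (K2.f19038 IH) (Lpr_ct (f11444 IH) (Lpn (LP (LK LD1_c0 LD2_c47 LD3_c16))))))))))))
theorem f95431 : Led Lsl_ft (LP (LK LD1_c1 LD2_c41 LD3_c43)) = (LP (LK LD1_c1 LD2_c38 LD3_c47)) :=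
  Lgr Lrot54 (Lpr_df (K2.f94781 IH) (Lpr_ff (K2.f95425 IH) (Lpe (K2.f95357 IH) (Lpn (LP (LK LD1_c1 LD2_c38 LD3_c47))))))
theorem f107342 : Led Lsl_at (LP (LK LD1_c1 LD2_c38 LD3_c47)) = (LP (LK LD1_c1 LD2_c41 LD3_c22)) :=
  Lgr Lrot33 (Lpe (f95431 IH) (Lpr_dt (K2.f94807 IH) (Lpr_ct (K2.f94695 IH) (Lpr_dt (K2.f91983 IH) (Lpr_ct (K2.f91952 IH) (Lpr_dt (K2.f91958 IH) (Lpe (f107299 IH) (Lpr_dt (f107328 IH) (Lpr_ct (K1.f11434 IH) (Lpn (LP (LK LD1_c1 LD2_c41 LD3_c22))))))))))))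
theorem f95293 : Led Lsl_at (LP (LK LD1_c0 LD2_c51 LD3_c33)) = (LP (LK LD1_c0 LD2_c23 LD3_c20)) :=
  Lre_a IH (LK LD1_c0 LD2_c51 LD3_c33) (LK LD1_c0 LD2_c23 LD3_c20) Lrfl Lrfl
theorem f95322 : Led Lsl_af (LP (LK LD1_c1 LD2_c41 LD3_c43)) = (LP (LK LD1_c0 LD2_c51 LD3_c37)) :=
  Lgr Lrot68 (Lpr_ct (K2.f95320 IH) (Lpr_at (f95293 IH) (Lpr_ct (K2.f5728 IH) (Lpn (LP (LK LD1_c0 LD2_c51 LD3_c37))))))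
theorem f107350 : Led Lsl_ff (LP (LK LD1_c0 LD2_c51 LD3_c37)) = (LP (LK LD1_c1 LD2_c41 LD3_c22)) :=
  Lgr Lrot30 (Lpe (f95322 IH) (Lpr_ft (f95431 IH) (Lpr_at (f107342 IH) (Lpn (LP (LK LD1_c1 LD2_c41 LD3_c22))))))
theorem f107358 : Led Lsl_ft (LP (LK LD1_c0 LD2_c51 LD3_c37)) = (LP (LK LD1_c1 LD2_c41 LD3_c22)) :=
  Lgr Lrot48 (Lpr_ff (f107350 IH) (Lpn (LP (LK LD1_c1 LD2_c41 LD3_c22))))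
theorem f107362 : Led Lsl_ff (LP (LK LD1_c1 LD2_c49 LD3_c34)) = (LP (LK LD1_c1 LD2_c40 LD3_c15)) :=
  Lgr Lrot19 (Lpr_dt (K2.f65864 IH) (Lpr_ft (f107358 IH) (Lpr_dt (K2.f90885 IH) (Lpn (LP (LK LD1_c1 LD2_c40 LD3_c15))))))
theorem f91769 : Led Lsl_bt (LP (LK LD1_c1 LD2_c49 LD3_c34)) = (LP (LK LD1_c1 LD2_c33 LD3_c50)) :=
  Lgr Lrot127 (Lpr_bf (f91758 IH) (Lpn (LP (LK LD1_c1 LD2_c33 LD3_c50))))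
theorem f20948 : Led Lsl_dt (LP (LK LD1_c0 LD2_c30 LD3_c50)) = (LP (LK LD1_c1 LD2_c7 LD3_c12)) :=
  Lre_d IH (LK LD1_c0 LD2_c30 LD3_c50) (LK LD1_c1 LD2_c7 LD3_c12) Lrfl Lrfl
theorem f20949 : Led Lsl_ct (LP (LK LD1_c1 LD2_c7 LD3_c12)) = (LP (LK LD1_c2 LD2_c19 LD3_c55)) :=
  Lre_c IH (LK LD1_c1 LD2_c7 LD3_c12) (LK LD1_c2 LD2_c19 LD3_c55) Lrfl Lrfl
theorem f20950 : Led Lsl_bf (LP (LK LD1_c1 LD2_c40 LD3_c15)) = (LP (LK LD1_c2 LD2_c19 LD3_c55)) :=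
  Lgr Lrot184 (Lpr_gt (K2.f15010 IH) (Lpr_dt (K0.f14555 IH) (Lpr_ct (K0.f9878 IH) (Lpr_bt (K2.f9877 IH) (Lpr_gt (K0.f11941 IH) (Lpr_dt (K0.f5880 IH) (Lpr_ct (K0.f5879 IH) (Lpr_bt (K0.f20942 IH) (Lpe (K0.f10994 IH) (Lpr_dt (K0.f170 IH) (Lpr_ct (K0.f163 IH) (Lpr_bt (K0.f172 IH) (Lpr_gt (K0.f20613 IH) (Lpr_dt (K0.f7356 IH) (Lpe (K0.f20049 IH) (Lpr_bt (K2.f20946 IH) (Lpr_gt (K2.f20947 IH) (Lpr_dt (f20948 IH) (Lpr_ct (f20949 IH) (Lpn (LP (LK LD1_c2 LD2_c19 LD3_c55))))))))))))))))))))))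
theorem f107366 : Led Lsl_ft (LP (LK LD1_c1 LD2_c33 LD3_c50)) = (LP (LK LD1_c2 LD2_c19 LD3_c55)) :=
  Lgr Lrot75 (Lpe (f91769 IH) (Lpr_ff (f107362 IH) (Lpr_bf (f20950 IH) (Lpn (LP (LK LD1_c2 LD2_c19 LD3_c55))))))
theorem f65865 : Led Lsl_et (LP (LK LD1_c1 LD2_c49 LD3_c34)) = (LP (LK LD1_c3 LD2_c44 LD3_c59)) :=
  Lre_e IH (LK LD1_c1 LD2_c49 LD3_c34) (LK LD1_c3 LD2_c44 LD3_c59) Lrfl Lrfl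
theorem f91773 : Led Lsl_et (LP (LK LD1_c3 LD2_c14 LD3_c38)) = (LP (LK LD1_c1 LD2_c33 LD3_c50)) :=
  Lre_e IH (LK LD1_c3 LD2_c14 LD3_c38) (LK LD1_c1 LD2_c33 LD3_c50) Lrfl Lrfl
theorem f91774 : Led Lsl_bt (LP (LK LD1_c3 LD2_c44 LD3_c59)) = (LP (LK LD1_c3 LD2_c14 LD3_c38)) :=
  Lgr Lrot119 (Lpe (f65865 IH) (Lpr_bf (f91758 IH) (Lpe (f91773 IH) (Lpn (LP (LK LD1_c3 LD2_c14 LD3_c38))))))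
theorem f91779 : Led Lsl_dt (LP (LK LD1_c7 LD2_c30 LD3_c52)) = (LP (LK LD1_c3 LD2_c44 LD3_c59)) :=
  Lre_d IH (LK LD1_c7 LD2_c30 LD3_c52) (LK LD1_c3 LD2_c44 LD3_c59) Lrfl Lrfl
theorem f91780 : Led Lsl_dt (LP (LK LD1_c3 LD2_c14 LD3_c38)) = (LP (LK LD1_c6 LD2_c32 LD3_c47)) :=
  Lre_d IH (LK LD1_c3 LD2_c14 LD3_c38) (LK LD1_c6 LD2_c32 LD3_c47) Lrfl Lrfl
theorem f91781 : Led Lsl_bf (LP (LK LD1_c7 LD2_c30 LD3_c52)) = (LP (LK LD1_c6 LD2_c32 LD3_c47)) :=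
  Lgr Lrot93 (Lpr_dt (f91779 IH) (Lpr_bt (f91774 IH) (Lpr_dt (f91780 IH) (Lpn (LP (LK LD1_c6 LD2_c32 LD3_c47))))))
theorem f91791 : Led Lsl_et (LP (LK LD1_c7 LD2_c30 LD3_c52)) = (LP (LK LD1_c3 LD2_c44 LD3_c60)) :=
  Lre_e IH (LK LD1_c7 LD2_c30 LD3_c52) (LK LD1_c3 LD2_c44 LD3_c60) Lrfl Lrfl
theorem f91792 : Led Lsl_bt (LP (LK LD1_c3 LD2_c44 LD3_c60)) = (LP (LK LD1_c7 LD2_c30 LD3_c49)) :=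
  Lre_b IH (LK LD1_c3 LD2_c44 LD3_c60) (LK LD1_c7 LD2_c30 LD3_c49) Lrfl Lrfl
theorem f91793 : Led Lsl_et (LP (LK LD1_c7 LD2_c30 LD3_c49)) = (LP (LK LD1_c6 LD2_c32 LD3_c47)) :=
  Lgr Lrot74 (Lpe (f91792 IH) (Lpe (f91791 IH) (Lpr_bf (f91781 IH) (Lpn (LP (LK LD1_c6 LD2_c32 LD3_c47))))))
theorem f91803 : Led Lsl_dt (LP (LK LD1_c3 LD2_c44 LD3_c57)) = (LP (LK LD1_c7 LD2_c30 LD3_c49)) :=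
  Lre_d IH (LK LD1_c3 LD2_c44 LD3_c57) (LK LD1_c7 LD2_c30 LD3_c49) Lrfl Lrfl
theorem f91804 : Led Lsl_et (LP (LK LD1_c1 LD2_c49 LD3_c33)) = (LP (LK LD1_c3 LD2_c44 LD3_c57)) :=
  Lre_e IH (LK LD1_c1 LD2_c49 LD3_c33) (LK LD1_c3 LD2_c44 LD3_c57) Lrfl Lrfl
theorem f91805 : Led Lsl_dt (LP (LK LD1_c6 LD2_c32 LD3_c47)) = (LP (LK LD1_c3 LD2_c14 LD3_c38)) :=
  Lre_d IH (LK LD1_c6 LD2_c32 LD3_c47) (LK LD1_c3 LD2_c14 LD3_c38) Lrfl Lrfl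
theorem f91806 : Led Lsl_df (LP (LK LD1_c1 LD2_c49 LD3_c33)) = (LP (LK LD1_c1 LD2_c33 LD3_c50)) :=
  Lgr Lrot70 (Lpr_et (f91804 IH) (Lpr_dt (f91803 IH) (Lpr_et (f91793 IH) (Lpr_dt (f91805 IH) (Lpr_et (f91773 IH) (Lpn (LP (LK LD1_c1 LD2_c33 LD3_c50))))))))
theorem f58785 : Led Lsl_ct (LP (LK LD1_c1 LD2_c49 LD3_c33)) = (LP (LK LD1_c0 LD2_c51 LD3_c53)) :=
  Lre_c IH (LK LD1_c1 LD2_c49 LD3_c33) (LK LD1_c0 LD2_c51 LD3_c53) Lrfl Lrfl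
theorem f58786 : Led Lsl_ct (LP (LK LD1_c0 LD2_c51 LD3_c53)) = (LP (LK LD1_c1 LD2_c49 LD3_c33)) :=
  Lre_c IH (LK LD1_c0 LD2_c51 LD3_c53) (LK LD1_c1 LD2_c49 LD3_c33) Lrfl Lrfl
theorem f58782 : Led Lsl_gt (LP (LK LD1_c1 LD2_c50 LD3_c1)) = (LP (LK LD1_c0 LD2_c51 LD3_c53)) :=
  Lre_g IH (LK LD1_c1 LD2_c50 LD3_c1) (LK LD1_c0 LD2_c51 LD3_c53) Lrfl Lrfl
theorem f58789 : Led Lsl_bt (LP (LK LD1_c1 LD2_c49 LD3_c33)) = (LP (LK LD1_c0 LD2_c51 LD3_c37)) :=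
  Lre_b IH (LK LD1_c1 LD2_c49 LD3_c33) (LK LD1_c0 LD2_c51 LD3_c37) Lrfl Lrfl
theorem f11062 : Led Lsl_bt (LP (LK LD1_c0 LD2_c47 LD3_c27)) = (LP (LK LD1_c0 LD2_c45 LD3_c48)) :=
  Lgr Lrot128 (Lpe (K1.f11061 IH) (Lpe (f11060 IH) (Lpr_cf (K0.f11050 IH) (Lpe (K1.f11052 IH) (Lpe (K2.f11053 IH) (Lpn (LP (LK LD1_c0 LD2_c45 LD3_c48))))))))
theorem f6702 : Led Lsl_bt (LP (LK LD1_c0 LD2_c23 LD3_c27)) = (LP (LK LD1_c0 LD2_c51 LD3_c53)) :=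
  Lre_b IH (LK LD1_c0 LD2_c23 LD3_c27) (LK LD1_c0 LD2_c51 LD3_c53) Lrfl Lrfl
theorem f23172 : Led Lsl_bt (LP (LK LD1_c0 LD2_c19 LD3_c27)) = (LP (LK LD1_c0 LD2_c8 LD3_c46)) :=
  Lre_b IH (LK LD1_c0 LD2_c19 LD3_c27) (LK LD1_c0 LD2_c8 LD3_c46) Lrfl Lrfl
theorem f24017 : Led Lsl_ct (LP (LK LD1_c0 LD2_c43 LD3_c38)) = (LP (LK LD1_c0 LD2_c19 LD3_c27)) :=
  Lre_c IH (LK LD1_c0 LD2_c43 LD3_c38) (LK LD1_c0 LD2_c19 LD3_c27) Lrfl Lrfl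
theorem f24136 : Led Lsl_dt (LP (LK LD1_c1 LD2_c34 LD3_c4)) = (LP (LK LD1_c0 LD2_c43 LD3_c38)) :=
  Lre_d IH (LK LD1_c1 LD2_c34 LD3_c4) (LK LD1_c0 LD2_c43 LD3_c38) Lrfl Lrfl
theorem f58780 : Led Lsl_gf (LP (LK LD1_c1 LD2_c34 LD3_c4)) = (LP (LK LD1_c0 LD2_c51 LD3_c53)) :=
  Lgr Lrot85 (Lpr_dt (f24136 IH) (Lpr_ct (f24017 IH) (Lpr_bt (f23172 IH) (Lpr_gt (K1.f58776 IH) (Lpr_dt (K1.f11026 IH) (Lpr_ct (K0.f11025 IH) (Lpr_bt (K0.f11024 IH) (Lpr_gt (K0.f11017 IH) (Lpr_dt (K0.f355 IH) (Lpr_ct (K0.f341 IH) (Lpr_bt (K0.f6696 IH) (Lpqs (K0.f20034 IH) (Lpqs (K0.f9936 IH) (Lpr_gt (K0.f338 IH) (Lpr_dt (K0.f314 IH) (Lpr_ct (K0.f346 IH) (Lpr_bt (K0.f6698 IH) (Lpr_gt (K0.f6699 IH) (Lpr_dt (K2.f6700 IH) (Lpr_ct (K2.f6701 IH) (Lpr_bt (f6702 IH) (Lpn (LP (LK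 LD1_c0 LD2_c51 LD3_c53))))))))))))))))))))))))
theorem f65873 : Led Lsl_cf (LP (LK LD1_c1 LD2_c50 LD3_c1)) = (LP (LK LD1_c1 LD2_c34 LD3_c4)) :=
  Lgr Lrot125 (Lpr_gt (f58782 IH) (Lpe (f58785 IH) (Lpr_bt (f58789 IH) (Lpr_gt (K2.f65857 IH) (Lpe (f11062 IH) (Lpr_ct (K2.f11405 IH) (Lpe (K2.f65830 IH) (Lpe (K2.f58788 IH) (Lpr_bt (f6702 IH) (Lpe (f58780 IH) (Lpn (LP (LK LD1_c1 LD2_c34 LD3_c4)))))))))))))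
theorem f104293 : Led Lsl_dt (LP (LK LD1_c0 LD2_c51 LD3_c53)) = (LP (LK LD1_c1 LD2_c36 LD3_c18)) :=
  Lgr Lrot6 (Lpe (f58780 IH) (Lpe (f65873 IH) (Lpr_gt (f58782 IH) (Lpr_ct (f58786 IH) (Lpr_df (f91806 IH) (Lpe (f26162 IH) (Lpr_gf (f104287 IH) (Lpe (K1.f352 IH) (Lpe (K2.f57260 IH) (Lpn (LP (LK LD1_c1 LD2_c36 LD3_c18))))))))))))
theorem f24310 : Led Lsl_dt (LP (LK LD1_c0 LD2_c19 LD3_c25)) = (LP (LK LD1_c0 LD2_c43 LD3_c32)) :=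
  Lre_d IH (LK LD1_c0 LD2_c19 LD3_c25) (LK LD1_c0 LD2_c43 LD3_c32) Lrfl Lrfl
theorem f24334 : Led Lsl_ct (LP (LK LD1_c0 LD2_c43 LD3_c32)) = (LP (LK LD1_c1 LD2_c33 LD3_c54)) :=
  Lre_c IH (LK LD1_c0 LD2_c43 LD3_c32) (LK LD1_c1 LD2_c33 LD3_c54) Lrfl Lrfl
theorem f107372 : Led Lsl_af (LP (LK LD1_c1 LD2_c33 LD3_c54)) = (LP (LK LD1_c2 LD2_c19 LD3_c55)) :=
  Lgr Lrot109 (Lpe (f24334 IH) (Lpe (f24310 IH) (Lpe (f24320 IH) (Lpr_df (f104200 IH) (Lpr_cf (f61908 IH) (Lpe (f104293 IH) (Lpe (f58785 IH) (Lpr_df (f91806 IH) (Lpr_ft (f107366 IH) (Lpn (LP (LK LD1_c2 LD2_c19 LD3_c55))))))))))))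
theorem f107382 : Led Lsl_et (LP (LK LD1_c1 LD2_c33 LD3_c54)) = (LP (LK LD1_c3 LD2_c14 LD3_c44)) :=
  Lre_e IH (LK LD1_c1 LD2_c33 LD3_c54) (LK LD1_c3 LD2_c14 LD3_c44) Lrfl Lrfl
theorem f91918 : Led Lsl_et (LP (LK LD1_c4 LD2_c43 LD3_c60)) = (LP (LK LD1_c2 LD2_c19 LD3_c55)) :=
  Lre_e IH (LK LD1_c4 LD2_c43 LD3_c60) (LK LD1_c2 LD2_c19 LD3_c55) Lrfl Lrfl
theorem f107383 : Led Lsl_at (LP (LK LD1_c3 LD2_c14 LD3_c44)) = (LP (LK LD1_c4 LD2_c43 LD3_c60)) :=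
  Lgr Lrot80 (Lpe (f107382 IH) (Lpr_af (f107372 IH) (Lpe (f91918 IH) (Lpn (LP (LK LD1_c4 LD2_c43 LD3_c60))))))
theorem f107407 : Led Lsl_ct (LP (LK LD1_c1 LD2_c33 LD3_c55)) = (LP (LK LD1_c3 LD2_c14 LD3_c44)) :=
  Lre_c IH (LK LD1_c1 LD2_c33 LD3_c55) (LK LD1_c3 LD2_c14 LD3_c44) Lrfl Lrfl
theorem f91930 : Led Lsl_ct (LP (LK LD1_c4 LD2_c43 LD3_c60)) = (LP (LK LD1_c2 LD2_c19 LD3_c56)) :=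
  Lre_c IH (LK LD1_c4 LD2_c43 LD3_c60) (LK LD1_c2 LD2_c19 LD3_c56) Lrfl Lrfl
theorem f107408 : Led Lsl_af (LP (LK LD1_c1 LD2_c33 LD3_c55)) = (LP (LK LD1_c2 LD2_c19 LD3_c56)) :=
  Lgr Lrot68 (Lpr_ct (f107407 IH) (Lpr_at (f107383 IH) (Lpr_ct (f91930 IH) (Lpn (LP (LK LD1_c2 LD2_c19 LD3_c56))))))
theorem f103526 : Led Lsl_dt (LP (LK LD1_c1 LD2_c33 LD3_c55)) = (LP (LK LD1_c3 LD2_c14 LD3_c45)) :=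
  Lre_d IH (LK LD1_c1 LD2_c33 LD3_c55) (LK LD1_c3 LD2_c14 LD3_c45) Lrfl Lrfl
theorem f91929 : Led Lsl_dt (LP (LK LD1_c4 LD2_c44 LD3_c0)) = (LP (LK LD1_c2 LD2_c19 LD3_c56)) :=
  Lre_d IH (LK LD1_c4 LD2_c44 LD3_c0) (LK LD1_c2 LD2_c19 LD3_c56) Lrfl Lrfl
theorem f107421 : Led Lsl_at (LP (LK LD1_c3 LD2_c14 LD3_c45)) = (LP (LK LD1_c4 LD2_c44 LD3_c0)) :=
  Lgr Lrot51 (Lpe (f103526 IH) (Lpr_af (f107408 IH) (Lpe (f91929 IH) (Lpn (LP (LK LD1_c4 LD2_c44 LD3_c0))))))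
theorem f107431 : Led Lsl_et (LP (LK LD1_c1 LD2_c33 LD3_c57)) = (LP (LK LD1_c3 LD2_c14 LD3_c45)) :=
  Lre_e IH (LK LD1_c1 LD2_c33 LD3_c57) (LK LD1_c3 LD2_c14 LD3_c45) Lrfl Lrfl
theorem f107432 : Led Lsl_et (LP (LK LD1_c4 LD2_c44 LD3_c0)) = (LP (LK LD1_c2 LD2_c19 LD3_c57)) :=
  Lre_e IH (LK LD1_c4 LD2_c44 LD3_c0) (LK LD1_c2 LD2_c19 LD3_c57) Lrfl Lrfl
theorem f107433 : Led Lsl_af (LP (LK LD1_c1 LD2_c33 LD3_c57)) = (LP (LK LD1_c2 LD2_c19 LD3_c57)) :=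
  Lgr Lrot50 (Lpr_et (f107431 IH) (Lpr_at (f107421 IH) (Lpr_et (f107432 IH) (Lpn (LP (LK LD1_c2 LD2_c19 LD3_c57))))))
theorem f24354 : Led Lsl_dt (LP (LK LD1_c1 LD2_c33 LD3_c57)) = (LP (LK LD1_c0 LD2_c43 LD3_c33)) :=
  Lre_d IH (LK LD1_c1 LD2_c33 LD3_c57) (LK LD1_c0 LD2_c43 LD3_c33) Lrfl Lrfl
theorem f107441 : Led Lsl_dt (LP (LK LD1_c1 LD2_c7 LD3_c13)) = (LP (LK LD1_c2 LD2_c19 LD3_c57)) :=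
  Lre_d IH (LK LD1_c1 LD2_c7 LD3_c13) (LK LD1_c2 LD2_c19 LD3_c57) Lrfl Lrfl
theorem f107442 : Led Lsl_at (LP (LK LD1_c0 LD2_c43 LD3_c33)) = (LP (LK LD1_c1 LD2_c7 LD3_c13)) :=
  Lgr Lrot51 (Lpe (f24354 IH) (Lpr_af (f107433 IH) (Lpe (f107441 IH) (Lpn (LP (LK LD1_c1 LD2_c7 LD3_c13))))))
theorem f23554 : Led Lsl_et (LP (LK LD1_c1 LD2_c7 LD3_c13)) = (LP (LK LD1_c0 LD2_c30 LD3_c50)) :=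
  Lre_e IH (LK LD1_c1 LD2_c7 LD3_c13) (LK LD1_c0 LD2_c30 LD3_c50) Lrfl Lrfl
theorem f107448 : Led Lsl_af (LP (LK LD1_c0 LD2_c19 LD3_c25)) = (LP (LK LD1_c0 LD2_c30 LD3_c50)) :=
  Lgr Lrot50 (Lpr_et (f24337 IH) (Lpr_at (f107442 IH) (Lpr_et (f23554 IH) (Lpn (LP (LK LD1_c0 LD2_c30 LD3_c50))))))
theorem f107454 : Led Lsl_ft (LP (LK LD1_c0 LD2_c19 LD3_c24)) = (LP (LK LD1_c0 LD2_c30 LD3_c50)) :=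
  Lgr Lrot142 (Lpr_dt (f24309 IH) (Lpr_ct (f26162 IH) (Lpe (f91806 IH) (Lpr_ct (f58785 IH) (Lpr_dt (f104293 IH) (Lpe (f61908 IH) (Lpe (f104200 IH) (Lpr_ct (f24320 IH) (Lpr_af (f107448 IH) (Lpn (LP (LK LD1_c0 LD2_c30 LD3_c50))))))))))))
theorem f107460 : Led Lsl_ff (LP (LK LD1_c0 LD2_c19 LD3_c24)) = (LP (LK LD1_c0 LD2_c30 LD3_c50)) :=
  Lgr Lrot3 (Lpr_ft (f107454 IH) (Lpn (LP (LK LD1_c0 LD2_c30 LD3_c50))))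
theorem f107464 : Led Lsl_ft (LP (LK LD1_c0 LD2_c43 LD3_c29)) = (LP (LK LD1_c1 LD2_c7 LD3_c11)) :=
  Lgr Lrot4 (Lpe (f24311 IH) (Lpr_ff (f107460 IH) (Lpe (f23503 IH) (Lpn (LP (LK LD1_c1 LD2_c7 LD3_c11))))))
theorem f107476 : Led Lsl_af (LP (LK LD1_c0 LD2_c42 LD3_c48)) = (LP (LK LD1_c1 LD2_c7 LD3_c11)) :=
  Lgr Lrot31 (Lpe (f24324 IH) (Lpr_gf (f93193 IH) (Lpr_ft (f107464 IH) (Lpn (LP (LK LD1_c1 LD2_c7 LD3_c11))))))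
theorem f24373 : Led Lsl_et (LP (LK LD1_c0 LD2_c42 LD3_c48)) = (LP (LK LD1_c1 LD2_c32 LD3_c25)) :=
  Lre_e IH (LK LD1_c0 LD2_c42 LD3_c48) (LK LD1_c1 LD2_c32 LD3_c25) Lrfl Lrfl
theorem f107480 : Led Lsl_at (LP (LK LD1_c1 LD2_c32 LD3_c25)) = (LP (LK LD1_c2 LD2_c19 LD3_c54)) :=
  Lgr Lrot80 (Lpe (f24373 IH) (Lpr_af (f107476 IH) (Lpe (K2.f23495 IH) (Lpn (LP (LK LD1_c2 LD2_c19 LD3_c54))))))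
theorem f24357 : Led Lsl_dt (LP (LK LD1_c3 LD2_c11 LD3_c61)) = (LP (LK LD1_c1 LD2_c32 LD3_c25)) :=
  Lre_d IH (LK LD1_c3 LD2_c11 LD3_c61) (LK LD1_c1 LD2_c32 LD3_c25) Lrfl Lrfl
theorem f107482 : Led Lsl_af (LP (LK LD1_c3 LD2_c11 LD3_c61)) = (LP (LK LD1_c4 LD2_c43 LD3_c59)) :=
  Lgr Lrot117 (Lpr_dt (f24357 IH) (Lpr_at (f107480 IH) (Lpr_dt (K2.f23509 IH) (Lpn (LP (LK LD1_c4 LD2_c43 LD3_c59))))))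
theorem f24352 : Led Lsl_dt (LP (LK LD1_c1 LD2_c32 LD3_c25)) = (LP (LK LD1_c3 LD2_c11 LD3_c61)) :=
  Lre_d IH (LK LD1_c1 LD2_c32 LD3_c25) (LK LD1_c3 LD2_c11 LD3_c61) Lrfl Lrfl
theorem f61910 : Led Lsl_et (LP (LK LD1_c3 LD2_c7 LD3_c27)) = (LP (LK LD1_c1 LD2_c29 LD3_c59)) :=
  Lre_e IH (LK LD1_c3 LD2_c7 LD3_c27) (LK LD1_c1 LD2_c29 LD3_c59) Lrfl Lrfl
theorem f61922 : Led Lsl_dt (LP (LK LD1_c6 LD2_c19 LD3_c49)) = (LP (LK LD1_c3 LD2_c7 LD3_c27)) :=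
  Lre_d IH (LK LD1_c6 LD2_c19 LD3_c49) (LK LD1_c3 LD2_c7 LD3_c27) Lrfl Lrfl
theorem f104204 : Led Lsl_et (LP (LK LD1_c3 LD2_c11 LD3_c61)) = (LP (LK LD1_c6 LD2_c19 LD3_c49)) :=
  Lgr Lrot71 (Lpe (f24352 IH) (Lpe (f24373 IH) (Lpr_df (f104200 IH) (Lpe (f61910 IH) (Lpe (f61922 IH) (Lpn (LP (LK LD1_c6 LD2_c19 LD3_c49))))))))
theorem f107487 : Led Lsl_at (LP (LK LD1_c6 LD2_c19 LD3_c49)) = (LP (LK LD1_c9 LD2_c20 LD3_c48)) :=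
  Lgr Lrot80 (Lpe (f104204 IH) (Lpr_af (f107482 IH) (Lpe (K2.f23515 IH) (Lpn (LP (LK LD1_c9 LD2_c20 LD3_c48))))))
theorem f61919 : Led Lsl_dt (LP (LK LD1_c3 LD2_c7 LD3_c27)) = (LP (LK LD1_c6 LD2_c19 LD3_c49)) :=
  Lre_d IH (LK LD1_c3 LD2_c7 LD3_c27) (LK LD1_c6 LD2_c19 LD3_c49) Lrfl Lrfl
theorem f107491 : Led Lsl_af (LP (LK LD1_c3 LD2_c7 LD3_c27)) = (LP (LK LD1_c4 LD2_c43 LD3_c58)) :=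
  Lgr Lrot117 (Lpr_dt (f61919 IH) (Lpr_at (f107487 IH) (Lpr_dt (K2.f23521 IH) (Lpn (LP (LK LD1_c4 LD2_c43 LD3_c58))))))
theorem f107493 : Led Lsl_at (LP (LK LD1_c3 LD2_c7 LD3_c27)) = (LP (LK LD1_c4 LD2_c43 LD3_c58)) :=
  Lgr Lrot100 (Lpr_af (f107491 IH) (Lpn (LP (LK LD1_c4 LD2_c43 LD3_c58))))
theorem f61927 : Led Lsl_et (LP (LK LD1_c1 LD2_c29 LD3_c59)) = (LP (LK LD1_c3 LD2_c7 LD3_c27)) :=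
  Lre_e IH (LK LD1_c1 LD2_c29 LD3_c59) (LK LD1_c3 LD2_c7 LD3_c27) Lrfl Lrfl
theorem f107495 : Led Lsl_af (LP (LK LD1_c1 LD2_c29 LD3_c59)) = (LP (LK LD1_c2 LD2_c19 LD3_c53)) :=
  Lgr Lrot50 (Lpr_et (f61927 IH) (Lpr_at (f107493 IH) (Lpr_et (K2.f23533 IH) (Lpn (LP (LK LD1_c2 LD2_c19 LD3_c53))))))
theorem f24325 : Led Lsl_ct (LP (LK LD1_c0 LD2_c43 LD3_c29)) = (LP (LK LD1_c0 LD2_c19 LD3_c24)) :=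
  Lre_c IH (LK LD1_c0 LD2_c43 LD3_c29) (LK LD1_c0 LD2_c19 LD3_c24) Lrfl Lrfl
theorem f24312 : Led Lsl_dt (LP (LK LD1_c1 LD2_c33 LD3_c49)) = (LP (LK LD1_c0 LD2_c43 LD3_c29)) :=
  Lre_d IH (LK LD1_c1 LD2_c33 LD3_c49) (LK LD1_c0 LD2_c43 LD3_c29) Lrfl Lrfl
theorem f107499 : Led Lsl_ft (LP (LK LD1_c1 LD2_c33 LD3_c49)) = (LP (LK LD1_c2 LD2_c19 LD3_c53)) :=
  Lgr Lrot142 (Lpr_dt (f24312 IH) (Lpr_ct (f24325 IH) (Lpr_dt (f24309 IH) (Lpr_ct (f26162 IH) (Lpe (f91806 IH) (Lpr_ct (f58785 IH) (Lpr_dt (f104293 IH) (Lpe (f61908 IH) (Lpr_af (f107495 IH) (Lpn (LP (LK LD1_c2 LD2_c19 LD3_c53))))))))))))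
theorem f107505 : Led Lsl_gt (LP (LK LD1_c1 LD2_c33 LD3_c49)) = (LP (LK LD1_c1 LD2_c40 LD3_c61)) :=
  Lgr Lrot5 (Lpr_ft (f107499 IH) (Lpe (f107495 IH) (Lpe (K2.f62315 IH) (Lpn (LP (LK LD1_c1 LD2_c40 LD3_c61))))))
theorem f107501 : Led Lsl_bf (LP (LK LD1_c1 LD2_c33 LD3_c49)) = (LP (LK LD1_c3 LD2_c7 LD3_c31)) :=
  Lgr Lrot61 (Lpr_ft (f107499 IH) (Lpe (K2.f23534 IH) (Lpe (f98879 IH) (Lpn (LP (LK LD1_c3 LD2_c7 LD3_c31))))))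
theorem f62177 : Led Lsl_ct (LP (LK LD1_c1 LD2_c40 LD3_c61)) = (LP (LK LD1_c3 LD2_c28 LD3_c34)) :=
  Lre_c IH (LK LD1_c1 LD2_c40 LD3_c61) (LK LD1_c3 LD2_c28 LD3_c34) Lrfl Lrfl
theorem f23483 : Led Lsl_ct (LP (LK LD1_c2 LD2_c19 LD3_c55)) = (LP (LK LD1_c1 LD2_c7 LD3_c12)) :=
  Lre_c IH (LK LD1_c2 LD2_c19 LD3_c55) (LK LD1_c1 LD2_c7 LD3_c12) Lrfl Lrfl
theorem f107507 : Led Lsl_gf (LP (LK LD1_c2 LD2_c19 LD3_c55)) = (LP (LK LD1_c3 LD2_c28 LD3_c34)) :=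
  Lgr Lrot104 (Lpr_ct (f23483 IH) (Lpe (f20948 IH) (Lpe (f23503 IH) (Lpr_gf (f104148 IH) (Lpe (K2.f12421 IH) (Lpr_gf (f93193 IH) (Lpe (f24312 IH) (Lpr_gt (f107505 IH) (Lpr_ct (f62177 IH) (Lpn (LP (LK LD1_c3 LD2_c28 LD3_c34))))))))))))
theorem f23477 : Led Lsl_dt (LP (LK LD1_c2 LD2_c19 LD3_c47)) = (LP (LK LD1_c1 LD2_c7 LD3_c5)) :=
  Lre_d IH (LK LD1_c2 LD2_c19 LD3_c47) (LK LD1_c1 LD2_c7 LD3_c5) Lrfl Lrfl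
theorem f23478 : Led Lsl_bf (LP (LK LD1_c2 LD2_c19 LD3_c47)) = (LP (LK LD1_c1 LD2_c7 LD3_c12)) :=
  Lgr Lrot93 (Lpr_dt (f23477 IH) (Lpr_bt (K2.f23468 IH) (Lpr_dt (f20948 IH) (Lpn (LP (LK LD1_c1 LD2_c7 LD3_c12))))))
theorem f23466 : Led Lsl_gf (LP (LK LD1_c1 LD2_c7 LD3_c5)) = (LP (LK LD1_c0 LD2_c46 LD3_c11)) :=
  Lgr Lrot181 (Lpr_ct (K2.f23465 IH) (Lpr_gt (K2.f23464 IH) (Lpr_cf (K2.f23426 IH) (Lpr_bt (K0.f23379 IH) (Lpe (K2.f23373 IH) (Lpe (K2.f13547 IH) (Lpr_ct (K2.f11974 IH) (Lpr_gt (K2.f20200 IH) (Lpe (K2.f13506 IH) (Lpr_bt (f13507 IH) (Lpn (LP (LK LD1_c0 LD2_c46 LD3_c11)))))))))))))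
theorem f23485 : Led Lsl_dt (LP (LK LD1_c1 LD2_c7 LD3_c5)) = (LP (LK LD1_c2 LD2_c19 LD3_c47)) :=
  Lre_d IH (LK LD1_c1 LD2_c7 LD3_c5) (LK LD1_c2 LD2_c19 LD3_c47) Lrfl Lrfl
theorem f79295 : Led Lsl_gf (LP (LK LD1_c0 LD2_c43 LD3_c59)) = (LP (LK LD1_c1 LD2_c6 LD3_c57)) :=
  Lgr Lrot129 (Lpr_cf (f79284 IH) (Lpr_bt (f23317 IH) (Lpr_gt (K0.f23306 IH) (Lpe (K0.f13605 IH) (Lpr_ct (K0.f13594 IH) (Lpr_gt (K0.f1472 IH) (Lpe (K0.f26045 IH) (Lpr_bt (K2.f26142 IH) (Lpr_gt (f26084 IH) (Lpr_ct (f26090 IH) (Lpn (LP (LK LD1_c1 LD2_c6 LD3_c57)))))))))))))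
theorem f65460 : Led Lsl_ft (LP (LK LD1_c0 LD2_c43 LD3_c47)) = (LP (LK LD1_c0 LD2_c19 LD3_c38)) :=
  Lre_f IH (LK LD1_c0 LD2_c43 LD3_c47) (LK LD1_c0 LD2_c19 LD3_c38) Lrfl Lrfl
theorem f79298 : Led Lsl_gt (LP (LK LD1_c0 LD2_c43 LD3_c47)) = (LP (LK LD1_c1 LD2_c6 LD3_c57)) :=
  Lgr Lrot5 (Lpr_ft (f65460 IH) (Lpr_at (f79278 IH) (Lpr_gf (f79295 IH) (Lpn (LP (LK LD1_c1 LD2_c6 LD3_c57))))))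
theorem f94924 : Led Lsl_gt (LP (LK LD1_c1 LD2_c38 LD3_c33)) = (LP (LK LD1_c1 LD2_c39 LD3_c22)) :=
  Lgr Lrot94 (Lpr_cf (K2.f83736 IH) (Lpr_gt (K2.f15008 IH) (Lpr_dt (K0.f14557 IH) (Lpe (K2.f15005 IH) (Lpr_dt (K2.f94773 IH) (Lpe (K2.f26119 IH) (Lpe (K2.f26118 IH) (Lpe (f13553 IH) (Lpe (f26137 IH) (Lpn (LP (LK LD1_c1 LD2_c39 LD3_c22))))))))))))
theorem f26136 : Led Lsl_ct (LP (LK LD1_c1 LD2_c39 LD3_c22)) = (LP (LK LD1_c3 LD2_c25 LD3_c29)) :=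
  Lre_c IH (LK LD1_c1 LD2_c39 LD3_c22) (LK LD1_c3 LD2_c25 LD3_c29) Lrfl Lrfl
theorem f94926 : Led Lsl_gf (LP (LK LD1_c3 LD2_c23 LD3_c3)) = (LP (LK LD1_c3 LD2_c25 LD3_c29)) :=
  Lgr Lrot104 (Lpr_ct (K2.f15046 IH) (Lpe (K1.f66582 IH) (Lpr_cf (K2.f84685 IH) (Lpe (K2.f84653 IH) (Lpe (K2.f84649 IH) (Lpe (K2.f12663 IH) (Lpe (K2.f83743 IH) (Lpr_gt (f94924 IH) (Lpr_ct (f26136 IH) (Lpn (LP (LK LD1_c3 LD2_c25 LD3_c29))))))))))))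
theorem f66629 : Led Lsl_ct (LP (LK LD1_c6 LD2_c49 LD3_c34)) = (LP (LK LD1_c3 LD2_c23 LD3_c4)) :=
  Lre_c IH (LK LD1_c6 LD2_c49 LD3_c34) (LK LD1_c3 LD2_c23 LD3_c4) Lrfl Lrfl
theorem f77093 : Led Lsl_ct (LP (LK LD1_c1 LD2_c38 LD3_c4)) = (LP (LK LD1_c3 LD2_c23 LD3_c24)) :=
  Lre_c IH (LK LD1_c1 LD2_c38 LD3_c4) (LK LD1_c3 LD2_c23 LD3_c24) Lrfl Lrfl
theorem f90315 : Led Lsl_af (LP (LK LD1_c6 LD2_c49 LD3_c34)) = (LP (LK LD1_c3 LD2_c23 LD3_c24)) :=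
  Lgr Lrot68 (Lpr_ct (f66629 IH) (Lpr_at (f90307 IH) (Lpr_ct (f77093 IH) (Lpn (LP (LK LD1_c3 LD2_c23 LD3_c24))))))
theorem f90542 : Led Lsl_at (LP (LK LD1_c6 LD2_c49 LD3_c34)) = (LP (LK LD1_c3 LD2_c23 LD3_c24)) :=
  Lgr Lrot100 (Lpr_af (f90315 IH) (Lpn (LP (LK LD1_c3 LD2_c23 LD3_c24))))
theorem f90549 : Led Lsl_et (LP (LK LD1_c3 LD2_c23 LD3_c3)) = (LP (LK LD1_c6 LD2_c49 LD3_c34)) :=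
  Lre_e IH (LK LD1_c3 LD2_c23 LD3_c3) (LK LD1_c6 LD2_c49 LD3_c34) Lrfl Lrfl
theorem f90550 : Led Lsl_et (LP (LK LD1_c3 LD2_c23 LD3_c24)) = (LP (LK LD1_c1 LD2_c38 LD3_c3)) :=
  Lre_e IH (LK LD1_c3 LD2_c23 LD3_c24) (LK LD1_c1 LD2_c38 LD3_c3) Lrfl Lrfl
theorem f90551 : Led Lsl_af (LP (LK LD1_c3 LD2_c23 LD3_c3)) = (LP (LK LD1_c1 LD2_c38 LD3_c3)) :=
  Lgr Lrot50 (Lpr_et (f90549 IH) (Lpr_at (f90542 IH) (Lpr_et (f90550 IH) (Lpn (LP (LK LD1_c1 LD2_c38 LD3_c3))))))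
theorem f93995 : Led Lsl_ff (LP (LK LD1_c1 LD2_c38 LD3_c3)) = (LP (LK LD1_c3 LD2_c23 LD3_c1)) :=
  Lgr Lrot30 (Lpe (f90551 IH) (Lpe (K2.f93260 IH) (Lpr_at (K2.f93267 IH) (Lpn (LP (LK LD1_c3 LD2_c23 LD3_c1))))))
theorem f94931 : Led Lsl_gt (LP (LK LD1_c3 LD2_c23 LD3_c1)) = (LP (LK LD1_c3 LD2_c25 LD3_c29)) :=
  Lgr Lrot5 (Lpe (f93995 IH) (Lpe (f90551 IH) (Lpr_gf (f94926 IH) (Lpn (LP (LK LD1_c3 LD2_c25 LD3_c29))))))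
theorem f77765 : Led Lsl_bt (LP (LK LD1_c1 LD2_c37 LD3_c33)) = (LP (LK LD1_c0 LD2_c45 LD3_c26)) :=
  Lre_b IH (LK LD1_c1 LD2_c37 LD3_c33) (LK LD1_c0 LD2_c45 LD3_c26) Lrfl Lrfl
theorem f61949 : Led Lsl_at (LP (LK LD1_c0 LD2_c40 LD3_c13)) = (LP (LK LD1_c1 LD2_c26 LD3_c51)) :=
  Lre_a IH (LK LD1_c0 LD2_c40 LD3_c13) (LK LD1_c1 LD2_c26 LD3_c51) Lrfl Lrfl
theorem f61950 : Led Lsl_at (LP (LK LD1_c1 LD2_c35 LD3_c8)) = (LP (LK LD1_c0 LD2_c44 LD3_c14)) :=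
  Lre_a IH (LK LD1_c1 LD2_c35 LD3_c8) (LK LD1_c0 LD2_c44 LD3_c14) Lrfl Lrfl
theorem f61951 : Led Lsl_dt (LP (LK LD1_c1 LD2_c26 LD3_c51)) = (LP (LK LD1_c1 LD2_c35 LD3_c8)) :=
  Lgr Lrot44 (Lpe (f61949 IH) (Lpr_df (K1.f61937 IH) (Lpe (f61950 IH) (Lpn (LP (LK LD1_c1 LD2_c35 LD3_c8))))))
theorem f77847 : Led Lsl_bf (LP (LK LD1_c3 LD2_c6 LD3_c14)) = (LP (LK LD1_c1 LD2_c35 LD3_c8)) :=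
  Lgr Lrot93 (Lpr_dt (f25112 IH) (Lpr_bt (K2.f77822 IH) (Lpr_dt (f61951 IH) (Lpn (LP (LK LD1_c1 LD2_c35 LD3_c8))))))
theorem f77863 : Led Lsl_bt (LP (LK LD1_c3 LD2_c6 LD3_c14)) = (LP (LK LD1_c1 LD2_c35 LD3_c8)) :=
  Lgr Lrot127 (Lpr_bf (f77847 IH) (Lpn (LP (LK LD1_c1 LD2_c35 LD3_c8))))
theorem f94933 : Led Lsl_gf (LP (LK LD1_c1 LD2_c35 LD3_c8)) = (LP (LK LD1_c2 LD2_c19 LD3_c37)) :=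
  Lgr Lrot124 (Lpe (f77863 IH) (Lpr_ct (f79027 IH) (Lpe (K2.f79021 IH) (Lpr_cf (K2.f78157 IH) (Lpr_bt (f77765 IH) (Lpr_gt (f23355 IH) (Lpr_ct (f23363 IH) (Lpr_gt (f94931 IH) (Lpe (f26136 IH) (Lpe (f26112 IH) (Lpn (LP (LK LD1_c2 LD2_c19 LD3_c37)))))))))))))
theorem f25110 : Led Lsl_dt (LP (LK LD1_c1 LD2_c29 LD3_c12)) = (LP (LK LD1_c3 LD2_c6 LD3_c14)) :=
  Lre_d IH (LK LD1_c1 LD2_c29 LD3_c12) (LK LD1_c3 LD2_c6 LD3_c14) Lrfl Lrfl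
theorem f77843 : Led Lsl_bf (LP (LK LD1_c1 LD2_c29 LD3_c12)) = (LP (LK LD1_c1 LD2_c26 LD3_c51)) :=
  Lgr Lrot24 (Lpr_bt (K2.f77822 IH) (Lpn (LP (LK LD1_c1 LD2_c26 LD3_c51))))
theorem f77870 : Led Lsl_df (LP (LK LD1_c1 LD2_c26 LD3_c51)) = (LP (LK LD1_c1 LD2_c35 LD3_c8)) :=
  Lgr Lrot12 (Lpe (f77843 IH) (Lpr_dt (f25110 IH) (Lpr_bt (f77863 IH) (Lpn (LP (LK LD1_c1 LD2_c35 LD3_c8))))))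
theorem f60992 : Led Lsl_dt (LP (LK LD1_c0 LD2_c13 LD3_c25)) = (LP (LK LD1_c0 LD2_c30 LD3_c13)) :=
  Lre_d IH (LK LD1_c0 LD2_c13 LD3_c25) (LK LD1_c0 LD2_c30 LD3_c13) Lrfl Lrfl
theorem f77981 : Led Lsl_dt (LP (LK LD1_c1 LD2_c7 LD3_c49)) = (LP (LK LD1_c1 LD2_c5 LD3_c32)) :=
  Lgr Lrot27 (Lpe (K2.f25204 IH) (Lpe (K2.f60966 IH) (Lpe (K2.f60964 IH) (Lpe (K2.f26939 IH) (Lpe (f60992 IH) (Lpr_gt (K2.f7012 IH) (Lpr_ct (K2.f25734 IH) (Lpr_gt (K2.f77976 IH) (Lpe (K2.f77845 IH) (Lpn (LP (LK LD1_c1 LD2_c5 LD3_c32))))))))))))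
theorem f104183 : Led Lsl_gt (LP (LK LD1_c2 LD2_c19 LD3_c47)) = (LP (LK LD1_c1 LD2_c7 LD3_c49)) :=
  Lgr Lrot49 (Lpe (f23485 IH) (Lpr_gf (f23466 IH) (Lpr_cf (f104177 IH) (Lpr_gt (f79298 IH) (Lpr_dt (f26091 IH) (Lpe (f94933 IH) (Lpe (f77870 IH) (Lpe (K2.f77875 IH) (Lpe (f77981 IH) (Lpn (LP (LK LD1_c1 LD2_c7 LD3_c49))))))))))))
theorem f79565 : Led Lsl_bt (LP (LK LD1_c0 LD2_c31 LD3_c7)) = (LP (LK LD1_c1 LD2_c7 LD3_c49)) :=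
  Lre_b IH (LK LD1_c0 LD2_c31 LD3_c7) (LK LD1_c1 LD2_c7 LD3_c49) Lrfl Lrfl
theorem f13804 : Led Lsl_gt (LP (LK LD1_c2 LD2_c20 LD3_c54)) = (LP (LK LD1_c1 LD2_c7 LD3_c47)) :=
  Lre_g IH (LK LD1_c2 LD2_c20 LD3_c54) (LK LD1_c1 LD2_c7 LD3_c47) Lrfl Lrfl
theorem f103002 : Led Lsl_gt (LP (LK LD1_c4 LD2_c44 LD3_c52)) = (LP (LK LD1_c2 LD2_c20 LD3_c33)) :=
  Lre_g IH (LK LD1_c4 LD2_c44 LD3_c52) (LK LD1_c2 LD2_c20 LD3_c33) Lrfl Lrfl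
theorem f103003 : Led Lsl_dt (LP (LK LD1_c2 LD2_c20 LD3_c54)) = (LP (LK LD1_c4 LD2_c44 LD3_c52)) :=
  Lgr Lrot6 (Lpr_gt (f13804 IH) (Lpr_ct (f13803 IH) (Lpr_gt (f13802 IH) (Lpr_ct (K0.f13771 IH) (Lpr_df (K0.f13775 IH) (Lpe (K0.f13737 IH) (Lpe (f13768 IH) (Lpr_cf (f102989 IH) (Lpe (f103002 IH) (Lpn (LP (LK LD1_c4 LD2_c44 LD3_c52))))))))))))
theorem f13782 : Led Lsl_dt (LP (LK LD1_c0 LD2_c13 LD3_c49)) = (LP (LK LD1_c0 LD2_c6 LD3_c18)) :=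
  Lre_d IH (LK LD1_c0 LD2_c13 LD3_c49) (LK LD1_c0 LD2_c6 LD3_c18) Lrfl Lrfl
theorem f103056 : Led Lsl_gf (LP (LK LD1_c2 LD2_c20 LD3_c54)) = (LP (LK LD1_c1 LD2_c7 LD3_c50)) :=
  Lgr Lrot144 (Lpr_dt (f103003 IH) (Lpr_gt (f103002 IH) (Lpr_dt (f99072 IH) (Lpe (f98896 IH) (Lpe (f98846 IH) (Lpe (f79297 IH) (Lpe (f13782 IH) (Lpe (K2.f25202 IH) (Lpe (f77992 IH) (Lpn (LP (LK LD1_c1 LD2_c7 LD3_c50))))))))))))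
theorem f107509 : Led Lsl_ct (LP (LK LD1_c3 LD2_c7 LD3_c31)) = (LP (LK LD1_c2 LD2_c20 LD3_c54)) :=
  Lgr Lrot10 (Lpe (f107501 IH) (Lpr_gt (f107505 IH) (Lpr_ct (f62177 IH) (Lpe (f107507 IH) (Lpe (f20949 IH) (Lpe (f23478 IH) (Lpr_gt (f104183 IH) (Lpe (f79565 IH) (Lpr_ct (f62319 IH) (Lpe (f103056 IH) (Lpn (LP (LK LD1_c2 LD2_c20 LD3_c54)))))))))))))
theorem f91474 : Led Lsl_at (LP (LK LD1_c0 LD2_c42 LD3_c51)) = (LP (LK LD1_c1 LD2_c32 LD3_c30)) :=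
  Lre_a IH (LK LD1_c0 LD2_c42 LD3_c51) (LK LD1_c1 LD2_c32 LD3_c30) Lrfl Lrfl
theorem f91476 : Led Lsl_dt (LP (LK LD1_c1 LD2_c32 LD3_c30)) = (LP (LK LD1_c3 LD2_c7 LD3_c31)) :=
  Lgr Lrot44 (Lpe (f91474 IH) (Lpr_df (f91469 IH) (Lpe (f91475 IH) (Lpn (LP (LK LD1_c3 LD2_c7 LD3_c31))))))
theorem f94803 : Led Lsl_gt (LP (LK LD1_c9 LD2_c16 LD3_c12)) = (LP (LK LD1_c4 LD2_c40 LD3_c25)) :=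
  Lre_g IH (LK LD1_c9 LD2_c16 LD3_c12) (LK LD1_c4 LD2_c40 LD3_c25) Lrfl Lrfl
theorem f103293 : Led Lsl_gt (LP (LK LD1_c4 LD2_c40 LD3_c27)) = (LP (LK LD1_c9 LD2_c16 LD3_c12)) :=
  Lgr Lrot5 (Lpr_ft (f103282 IH) (Lpe (f102947 IH) (Lpe (f94803 IH) (Lpn (LP (LK LD1_c9 LD2_c16 LD3_c12))))))
theorem f103235 : Led Lsl_cf (LP (LK LD1_c2 LD2_c20 LD3_c25)) = (LP (LK LD1_c4 LD2_c40 LD3_c23)) :=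
  Lgr Lrot11 (Lpr_ct (f103232 IH) (Lpn (LP (LK LD1_c4 LD2_c40 LD3_c23))))
theorem f103295 : Led Lsl_cf (LP (LK LD1_c4 LD2_c44 LD3_c52)) = (LP (LK LD1_c9 LD2_c16 LD3_c12)) :=
  Lgr Lrot169 (Lpr_gt (f103002 IH) (Lpe (f102989 IH) (Lpr_df (f103111 IH) (Lpe (f23500 IH) (Lpe (f98873 IH) (Lpr_cf (f103235 IH) (Lpr_gf (f78663 IH) (Lpe (f78665 IH) (Lpr_gt (f103293 IH) (Lpn (LP (LK LD1_c9 LD2_c16 LD3_c12))))))))))))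
theorem f103299 : Led Lsl_ct (LP (LK LD1_c4 LD2_c44 LD3_c52)) = (LP (LK LD1_c9 LD2_c16 LD3_c12)) :=
  Lgr Lrot59 (Lpr_cf (f103295 IH) (Lpn (LP (LK LD1_c9 LD2_c16 LD3_c12))))
theorem f103005 : Led Lsl_df (LP (LK LD1_c2 LD2_c20 LD3_c54)) = (LP (LK LD1_c4 LD2_c44 LD3_c52)) :=
  Lgr Lrot155 (Lpr_gt (f13804 IH) (Lpr_ct (f13803 IH) (Lpr_gt (f13802 IH) (Lpr_ct (K0.f13771 IH) (Lpr_dt (K0.f13758 IH) (Lpe (K0.f13737 IH) (Lpe (f13768 IH) (Lpr_cf (f102989 IH) (Lpe (f103002 IH) (Lpn (LP (LK LD1_c4 LD2_c44 LD3_c52))))))))))))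
theorem f103018 : Led Lsl_gt (LP (LK LD1_c2 LD2_c20 LD3_c38)) = (LP (LK LD1_c4 LD2_c44 LD3_c52)) :=
  Lgr Lrot94 (Lpr_cf (f99006 IH) (Lpr_gt (f99074 IH) (Lpe (K0.f13775 IH) (Lpr_gt (f13800 IH) (Lpr_dt (f13801 IH) (Lpr_cf (f78582 IH) (Lpe (f78243 IH) (Lpe (f13804 IH) (Lpr_df (f103005 IH) (Lpn (LP (LK LD1_c4 LD2_c44 LD3_c52))))))))))))
theorem f103312 : Led Lsl_df (LP (LK LD1_c4 LD2_c44 LD3_c34)) = (LP (LK LD1_c9 LD2_c16 LD3_c12)) :=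
  Lgr Lrot162 (Lpe (f23537 IH) (Lpe (f103115 IH) (Lpe (f78007 IH) (Lpe (f60998 IH) (Lpr_dt (f13785 IH) (Lpr_gt (f78058 IH) (Lpe (f99006 IH) (Lpr_gt (f103018 IH) (Lpr_ct (f103299 IH) (Lpn (LP (LK LD1_c9 LD2_c16 LD3_c12))))))))))))
theorem f107519 : Led Lsl_at (LP (LK LD1_c1 LD2_c7 LD3_c32)) = (LP (LK LD1_c1 LD2_c7 LD3_c4)) :=
  Lgr Lrot33 (Lpe (f98877 IH) (Lpr_dt (f91476 IH) (Lpr_ct (f107509 IH) (Lpr_dt (f103003 IH) (Lpr_ct (f103299 IH) (Lpe (f103312 IH) (Lpr_ct (f23550 IH) (Lpr_dt (K2.f23539 IH) (Lpr_ct (K2.f23474 IH) (Lpn (LP (LK LD1_c1 LD2_c7 LD3_c4))))))))))))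
theorem f107527 : Led Lsl_gt (LP (LK LD1_c1 LD2_c32 LD3_c30)) = (LP (LK LD1_c1 LD2_c7 LD3_c30)) :=
  Lgr Lrot5 (Lpr_ft (f98877 IH) (Lpr_at (f107519 IH) (Lpr_gf (f103471 IH) (Lpn (LP (LK LD1_c1 LD2_c7 LD3_c30))))))
theorem f79311 : Led Lsl_bt (LP (LK LD1_c0 LD2_c30 LD3_c58)) = (LP (LK LD1_c1 LD2_c7 LD3_c29)) :=
  Lre_b IH (LK LD1_c0 LD2_c30 LD3_c58) (LK LD1_c1 LD2_c7 LD3_c29) Lrfl Lrfl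
theorem f24392 : Led Lsl_ct (LP (LK LD1_c0 LD2_c43 LD3_c60)) = (LP (LK LD1_c0 LD2_c19 LD3_c38)) :=
  Lre_c IH (LK LD1_c0 LD2_c43 LD3_c60) (LK LD1_c0 LD2_c19 LD3_c38) Lrfl Lrfl
theorem f79300 : Led Lsl_af (LP (LK LD1_c0 LD2_c43 LD3_c60)) = (LP (LK LD1_c0 LD2_c31 LD3_c1)) :=
  Lgr Lrot68 (Lpr_ct (f24392 IH) (Lpr_at (f79278 IH) (Lpr_ct (f79291 IH) (Lpn (LP (LK LD1_c0 LD2_c31 LD3_c1))))))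
theorem f79294 : Led Lsl_ft (LP (LK LD1_c1 LD2_c7 LD3_c29)) = (LP (LK LD1_c0 LD2_c31 LD3_c1)) :=
  Lre_f IH (LK LD1_c1 LD2_c7 LD3_c29) (LK LD1_c0 LD2_c31 LD3_c1) Lrfl Lrfl
theorem f79308 : Led Lsl_gf (LP (LK LD1_c0 LD2_c42 LD3_c49)) = (LP (LK LD1_c1 LD2_c7 LD3_c29)) :=
  Lgr Lrot47 (Lpr_gt (f24391 IH) (Lpr_af (f79300 IH) (Lpe (f79294 IH) (Lpn (LP (LK LD1_c1 LD2_c7 LD3_c29))))))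
theorem f107535 : Led Lsl_cf (LP (LK LD1_c1 LD2_c32 LD3_c30)) = (LP (LK LD1_c0 LD2_c42 LD3_c51)) :=
  Lgr Lrot125 (Lpr_gt (f107527 IH) (Lpe (f79314 IH) (Lpr_bt (f79311 IH) (Lpe (f79308 IH) (Lpe (f24328 IH) (Lpr_ct (f24381 IH) (Lpr_gt (f95259 IH) (Lpe (f13489 IH) (Lpr_bt (f23314 IH) (Lpe (f98836 IH) (Lpn (LP (LK LD1_c0 LD2_c42 LD3_c51)))))))))))))
theorem f102295 : Led Lsl_at (LP (LK LD1_c0 LD2_c30 LD3_c60)) = (LP (LK LD1_c1 LD2_c7 LD3_c30)) :=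
  Lre_a IH (LK LD1_c0 LD2_c30 LD3_c60) (LK LD1_c1 LD2_c7 LD3_c30) Lrfl Lrfl
theorem f102285 : Led Lsl_ft (LP (LK LD1_c1 LD2_c7 LD3_c34)) = (LP (LK LD1_c0 LD2_c30 LD3_c60)) :=
  Lre_f IH (LK LD1_c1 LD2_c7 LD3_c34) (LK LD1_c0 LD2_c30 LD3_c60) Lrfl Lrfl
theorem f107529 : Led Lsl_gf (LP (LK LD1_c1 LD2_c32 LD3_c30)) = (LP (LK LD1_c1 LD2_c7 LD3_c34)) :=
  Lgr Lrot47 (Lpr_gt (f107527 IH) (Lpe (f102295 IH) (Lpe (f102285 IH) (Lpn (LP (LK LD1_c1 LD2_c7 LD3_c34))))))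
theorem f26096 : Led Lsl_bt (LP (LK LD1_c0 LD2_c42 LD3_c51)) = (LP (LK LD1_c0 LD2_c19 LD3_c4)) :=
  Lre_b IH (LK LD1_c0 LD2_c42 LD3_c51) (LK LD1_c0 LD2_c19 LD3_c4) Lrfl Lrfl
theorem f7135 : Led Lsl_bt (LP (LK LD1_c0 LD2_c6 LD3_c20)) = (LP (LK LD1_c0 LD2_c13 LD3_c50)) :=
  Lre_b IH (LK LD1_c0 LD2_c6 LD3_c20) (LK LD1_c0 LD2_c13 LD3_c50) Lrfl Lrfl
theorem f107554 : Led Lsl_gf (LP (LK LD1_c0 LD2_c31 LD3_c0)) = (LP (LK LD1_c0 LD2_c13 LD3_c50)) :=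
  Lgr Lrot181 (Lpr_ct (f103598 IH) (Lpe (f107529 IH) (Lpr_cf (f107535 IH) (Lpr_bt (f26096 IH) (Lpr_gt (f26088 IH) (Lpe (K2.f20984 IH) (Lpr_ct (K1.f13542 IH) (Lpr_gt (K0.f7480 IH) (Lpe (K0.f13550 IH) (Lpr_bt (f7135 IH) (Lpn (LP (LK LD1_c0 LD2_c13 LD3_c50)))))))))))))
theorem f103461 : Led Lsl_ct (LP (LK LD1_c1 LD2_c7 LD3_c34)) = (LP (LK LD1_c0 LD2_c31 LD3_c0)) :=
  Lre_c IH (LK LD1_c1 LD2_c7 LD3_c34) (LK LD1_c0 LD2_c31 LD3_c0) Lrfl Lrfl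
theorem f99102 : Led Lsl_et (LP (LK LD1_c0 LD2_c30 LD3_c60)) = (LP (LK LD1_c0 LD2_c30 LD3_c60)) :=
  Lgr Lrot158 (Lpe (K2.f23592 IH) (Lpr_ef (f99095 IH) (Lpe (f78006 IH) (Lpn (LP (LK LD1_c0 LD2_c30 LD3_c60))))))
theorem f104118 : Led Lsl_et (LP (LK LD1_c0 LD2_c50 LD3_c45)) = (LP (LK LD1_c0 LD2_c50 LD3_c45)) :=
  Lgr Lrot74 (Lpr_bf (f104109 IH) (Lpe (f99102 IH) (Lpe (f104112 IH) (Lpn (LP (LK LD1_c0 LD2_c50 LD3_c45))))))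
theorem f94272 : Led Lsl_et (LP (LK LD1_c0 LD2_c20 LD3_c48)) = (LP (LK LD1_c0 LD2_c46 LD3_c21)) :=
  Lre_e IH (LK LD1_c0 LD2_c20 LD3_c48) (LK LD1_c0 LD2_c46 LD3_c21) Lrfl Lrfl
theorem f94274 : Led Lsl_et (LP (LK LD1_c0 LD2_c46 LD3_c21)) = (LP (LK LD1_c0 LD2_c20 LD3_c48)) :=
  Lre_e IH (LK LD1_c0 LD2_c46 LD3_c21) (LK LD1_c0 LD2_c20 LD3_c48) Lrfl Lrfl
theorem f94275 : Led Lsl_ft (LP (LK LD1_c0 LD2_c20 LD3_c48)) = (LP (LK LD1_c0 LD2_c46 LD3_c7)) :=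
  Lre_f IH (LK LD1_c0 LD2_c20 LD3_c48) (LK LD1_c0 LD2_c46 LD3_c7) Lrfl Lrfl
theorem f94276 : Led Lsl_ef (LP (LK LD1_c0 LD2_c46 LD3_c7)) = (LP (LK LD1_c0 LD2_c46 LD3_c7)) :=
  Lgr Lrot21 (Lpr_ft (f94273 IH) (Lpr_et (f94272 IH) (Lpr_ft (f94258 IH) (Lpr_et (f94274 IH) (Lpr_ft (f94275 IH) (Lpn (LP (LK LD1_c0 LD2_c46 LD3_c7))))))))
theorem f104120 : Led Lsl_cf (LP (LK LD1_c0 LD2_c50 LD3_c45)) = (LP (LK LD1_c0 LD2_c46 LD3_c7)) :=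
  Lgr Lrot39 (Lpr_et (f104118 IH) (Lpr_ct (f104114 IH) (Lpe (f94276 IH) (Lpn (LP (LK LD1_c0 LD2_c46 LD3_c7))))))
theorem f12567 : Led Lsl_ct (LP (LK LD1_c0 LD2_c46 LD3_c19)) = (LP (LK LD1_c0 LD2_c20 LD3_c48)) :=
  Lre_c IH (LK LD1_c0 LD2_c46 LD3_c19) (LK LD1_c0 LD2_c20 LD3_c48) Lrfl Lrfl
theorem f104123 : Led Lsl_ft (LP (LK LD1_c0 LD2_c50 LD3_c45)) = (LP (LK LD1_c0 LD2_c46 LD3_c19)) :=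
  Lgr Lrot4 (Lpr_cf (f104120 IH) (Lpe (f94275 IH) (Lpe (f12567 IH) (Lpn (LP (LK LD1_c0 LD2_c46 LD3_c19))))))
theorem f104129 : Led Lsl_ff (LP (LK LD1_c0 LD2_c50 LD3_c45)) = (LP (LK LD1_c0 LD2_c46 LD3_c19)) :=
  Lgr Lrot3 (Lpr_ft (f104123 IH) (Lpn (LP (LK LD1_c0 LD2_c46 LD3_c19))))
theorem f99073 : Led Lsl_ft (LP (LK LD1_c0 LD2_c30 LD3_c60)) = (LP (LK LD1_c1 LD2_c7 LD3_c34)) :=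
  Lre_f IH (LK LD1_c0 LD2_c30 LD3_c60) (LK LD1_c1 LD2_c7 LD3_c34) Lrfl Lrfl
theorem f104131 : Led Lsl_bt (LP (LK LD1_c1 LD2_c7 LD3_c34)) = (LP (LK LD1_c0 LD2_c46 LD3_c19)) :=
  Lgr Lrot35 (Lpe (f99073 IH) (Lpe (f104112 IH) (Lpr_ff (f104129 IH) (Lpn (LP (LK LD1_c0 LD2_c46 LD3_c19))))))
theorem f13690 : Led Lsl_at (LP (LK LD1_c0 LD2_c6 LD3_c18)) = (LP (LK LD1_c0 LD2_c13 LD3_c48)) :=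
  Lre_a IH (LK LD1_c0 LD2_c6 LD3_c18) (LK LD1_c0 LD2_c13 LD3_c48) Lrfl Lrfl
theorem f13703 : Led Lsl_ft (LP (LK LD1_c0 LD2_c13 LD3_c50)) = (LP (LK LD1_c0 LD2_c6 LD3_c18)) :=
  Lre_f IH (LK LD1_c0 LD2_c13 LD3_c50) (LK LD1_c0 LD2_c6 LD3_c18) Lrfl Lrfl
theorem f13704 : Led Lsl_dt (LP (LK LD1_c0 LD2_c13 LD3_c50)) = (LP (LK LD1_c0 LD2_c31 LD3_c10)) :=
  Lre_d IH (LK LD1_c0 LD2_c13 LD3_c50) (LK LD1_c0 LD2_c31 LD3_c10) Lrfl Lrfl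
theorem f13707 : Led Lsl_ct (LP (LK LD1_c2 LD2_c21 LD3_c23)) = (LP (LK LD1_c2 LD2_c20 LD3_c47)) :=
  Lgr Lrot41 (Lpe (f13706 IH) (Lpe (f13705 IH) (Lpe (f13704 IH) (Lpr_ft (f13703 IH) (Lpr_at (f13690 IH) (Lpr_cf (K0.f13686 IH) (Lpe (K0.f13696 IH) (Lpe (f13697 IH) (Lpe (K0.f13698 IH) (Lpn (LP (LK LD1_c2 LD2_c20 LD3_c47))))))))))))
theorem f13729 : Led Lsl_dt (LP (LK LD1_c0 LD2_c31 LD3_c10)) = (LP (LK LD1_c0 LD2_c13 LD3_c50)) :=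
  Lre_d IH (LK LD1_c0 LD2_c31 LD3_c10) (LK LD1_c0 LD2_c13 LD3_c50) Lrfl Lrfl
theorem f13730 : Led Lsl_cf (LP (LK LD1_c0 LD2_c13 LD3_c50)) = (LP (LK LD1_c0 LD2_c13 LD3_c50)) :=
  Lgr Lrot55 (Lpr_dt (f13704 IH) (Lpr_ct (f13705 IH) (Lpr_dt (f13706 IH) (Lpr_ct (f13707 IH) (Lpr_dt (K0.f13698 IH) (Lpr_ct (f13697 IH) (Lpr_dt (K0.f13696 IH) (Lpe (K0.f13686 IH) (Lpr_dt (K0.f13693 IH) (Lpr_ct (K0.f13694 IH) (Lpr_dt (K0.f13695 IH) (Lpr_ct (K0.f13715 IH) (Lpr_dt (K0.f13714 IH) (Lpr_ct (K0.f13713 IH) (Lpr_dt (f13729 IH) (Lpn (LP (LK LD1_c0 LD2_c13 LD3_c50))))))))))))))))))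
theorem f24026 : Led Lsl_bt (LP (LK LD1_c0 LD2_c13 LD3_c50)) = (LP (LK LD1_c0 LD2_c6 LD3_c20)) :=
  Lre_b IH (LK LD1_c0 LD2_c13 LD3_c50) (LK LD1_c0 LD2_c6 LD3_c20) Lrfl Lrfl
theorem f23676 : Led Lsl_ct (LP (LK LD1_c0 LD2_c22 LD3_c46)) = (LP (LK LD1_c0 LD2_c10 LD3_c16)) :=
  Lre_c IH (LK LD1_c0 LD2_c22 LD3_c46) (LK LD1_c0 LD2_c10 LD3_c16) Lrfl Lrfl
theorem f107558 : Led Lsl_gt (LP (LK LD1_c0 LD2_c46 LD3_c19)) = (LP (LK LD1_c0 LD2_c22 LD3_c46)) :=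
  Lgr Lrot82 (Lpe (f104131 IH) (Lpr_ct (f103461 IH) (Lpr_gf (f107554 IH) (Lpr_cf (f13730 IH) (Lpr_bt (f24026 IH) (Lpe (K0.f20862 IH) (Lpe (K1.f12425 IH) (Lpe (K0.f12333 IH) (Lpe (f4902 IH) (Lpe (f23676 IH) (Lpn (LP (LK LD1_c0 LD2_c22 LD3_c46)))))))))))))
theorem f23679 : Led Lsl_dt (LP (LK LD1_c0 LD2_c10 LD3_c16)) = (LP (LK LD1_c0 LD2_c22 LD3_c47)) :=
  Lre_d IH (LK LD1_c0 LD2_c10 LD3_c16) (LK LD1_c0 LD2_c22 LD3_c47) Lrfl Lrfl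
theorem f95902 : Led Lsl_ct (LP (LK LD1_c0 LD2_c50 LD3_c24)) = (LP (LK LD1_c0 LD2_c22 LD3_c47)) :=
  Lre_c IH (LK LD1_c0 LD2_c50 LD3_c24) (LK LD1_c0 LD2_c22 LD3_c47) Lrfl Lrfl
theorem f107301 : Led Lsl_bt (LP (LK LD1_c0 LD2_c22 LD3_c47)) = (LP (LK LD1_c0 LD2_c50 LD3_c22)) :=
  Lre_b IH (LK LD1_c0 LD2_c22 LD3_c47) (LK LD1_c0 LD2_c50 LD3_c22) Lrfl Lrfl
theorem f95901 : Led Lsl_ct (LP (LK LD1_c0 LD2_c22 LD3_c47)) = (LP (LK LD1_c0 LD2_c50 LD3_c24)) :=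
  Lre_c IH (LK LD1_c0 LD2_c22 LD3_c47) (LK LD1_c0 LD2_c50 LD3_c24) Lrfl Lrfl
theorem f9908 : Led Lsl_bt (LP (LK LD1_c0 LD2_c46 LD3_c32)) = (LP (LK LD1_c0 LD2_c20 LD3_c54)) :=
  Lre_b IH (LK LD1_c0 LD2_c46 LD3_c32) (LK LD1_c0 LD2_c20 LD3_c54) Lrfl Lrfl
theorem f9909 : Led Lsl_ct (LP (LK LD1_c0 LD2_c46 LD3_c32)) = (LP (LK LD1_c1 LD2_c40 LD3_c0)) :=
  Lre_c IH (LK LD1_c0 LD2_c46 LD3_c32) (LK LD1_c1 LD2_c40 LD3_c0) Lrfl Lrfl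
theorem f107303 : Led Lsl_gf (LP (LK LD1_c0 LD2_c50 LD3_c24)) = (LP (LK LD1_c1 LD2_c40 LD3_c0)) :=
  Lgr Lrot126 (Lpe (f95901 IH) (Lpr_bt (f107301 IH) (Lpr_gt (f107278 IH) (Lpe (K2.f90056 IH) (Lpe (K2.f91295 IH) (Lpe (K0.f14581 IH) (Lpr_bt (K0.f14765 IH) (Lpr_gt (K2.f91297 IH) (Lpe (f9908 IH) (Lpr_ct (f9909 IH) (Lpn (LP (LK LD1_c1 LD2_c40 LD3_c0)))))))))))))
theorem f91708 : Led Lsl_bt (LP (LK LD1_c0 LD2_c20 LD3_c54)) = (LP (LK LD1_c0 LD2_c46 LD3_c32)) :=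
  Lre_b IH (LK LD1_c0 LD2_c20 LD3_c54) (LK LD1_c0 LD2_c46 LD3_c32) Lrfl Lrfl
theorem f11544 : Led Lsl_bt (LP (LK LD1_c0 LD2_c21 LD3_c38)) = (LP (LK LD1_c0 LD2_c48 LD3_c17)) :=
  Lre_b IH (LK LD1_c0 LD2_c21 LD3_c38) (LK LD1_c0 LD2_c48 LD3_c17) Lrfl Lrfl
theorem f96970 : Led Lsl_gf (LP (LK LD1_c0 LD2_c46 LD3_c32)) = (LP (LK LD1_c0 LD2_c48 LD3_c17)) :=
  Lgr Lrot124 (Lpe (f91708 IH) (Lpr_ct (K2.f91128 IH) (Lpe (f95025 IH) (Lpr_cf (f95133 IH) (Lpr_bt (K0.f5725 IH) (Lpr_gt (f92642 IH) (Lpr_ct (f96964 IH) (Lpr_gt (f10821 IH) (Lpe (K2.f6671 IH) (Lpr_bt (f11544 IH) (Lpn (LP (LK LD1_c0 LD2_c48 LD3_c17)))))))))))))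
theorem f107566 : Led Lsl_df (LP (LK LD1_c0 LD2_c22 LD3_c19)) = (LP (LK LD1_c0 LD2_c48 LD3_c17)) :=
  Lgr Lrot155 (Lpe (f98609 IH) (Lpr_ct (f9810 IH) (Lpr_gt (f107558 IH) (Lpr_ct (f23676 IH) (Lpr_dt (f23679 IH) (Lpe (f95902 IH) (Lpr_gf (f107303 IH) (Lpe (f9909 IH) (Lpr_gf (f96970 IH) (Lpn (LP (LK LD1_c0 LD2_c48 LD3_c17))))))))))))
theorem f105951 : Led Lsl_et (LP (LK LD1_c0 LD2_c22 LD3_c19)) = (LP (LK LD1_c0 LD2_c49 LD3_c42)) :=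
  Lre_e IH (LK LD1_c0 LD2_c22 LD3_c19) (LK LD1_c0 LD2_c49 LD3_c42) Lrfl Lrfl
theorem f11651 : Led Lsl_et (LP (LK LD1_c1 LD2_c43 LD3_c15)) = (LP (LK LD1_c0 LD2_c48 LD3_c17)) :=
  Lre_e IH (LK LD1_c1 LD2_c43 LD3_c15) (LK LD1_c0 LD2_c48 LD3_c17) Lrfl Lrfl
theorem f11674 : Led Lsl_dt (LP (LK LD1_c3 LD2_c33 LD3_c1)) = (LP (LK LD1_c1 LD2_c43 LD3_c15)) :=
  Lre_d IH (LK LD1_c3 LD2_c33 LD3_c1) (LK LD1_c1 LD2_c43 LD3_c15) Lrfl Lrfl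
theorem f107572 : Led Lsl_et (LP (LK LD1_c1 LD2_c45 LD3_c59)) = (LP (LK LD1_c3 LD2_c33 LD3_c1)) :=
  Lgr Lrot71 (Lpe (f65537 IH) (Lpe (f105951 IH) (Lpr_df (f107566 IH) (Lpe (f11651 IH) (Lpe (f11674 IH) (Lpn (LP (LK LD1_c3 LD2_c33 LD3_c1))))))))
theorem f107593 : Led Lsl_ef (LP (LK LD1_c1 LD2_c45 LD3_c59)) = (LP (LK LD1_c3 LD2_c33 LD3_c1)) :=
  Lgr Lrot88 (Lpr_et (f107572 IH) (Lpn (LP (LK LD1_c3 LD2_c33 LD3_c1))))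
theorem f106866 : Led Lsl_et (LP (LK LD1_c3 LD2_c25 LD3_c11)) = (LP (LK LD1_c6 LD2_c52 LD3_c39)) :=
  Lre_e IH (LK LD1_c3 LD2_c25 LD3_c11) (LK LD1_c6 LD2_c52 LD3_c39) Lrfl Lrfl
theorem f107601 : Led Lsl_ct (LP (LK LD1_c6 LD2_c52 LD3_c39)) = (LP (LK LD1_c3 LD2_c33 LD3_c1)) :=
  Lgr Lrot15 (Lpe (f106866 IH) (Lpr_cf (f106858 IH) (Lpr_ef (f107593 IH) (Lpn (LP (LK LD1_c3 LD2_c33 LD3_c1))))))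
theorem f107604 : Led Lsl_bt (LP (LK LD1_c13 LD2_c4 LD3_c36)) = (LP (LK LD1_c6 LD2_c52 LD3_c39)) :=
  Lre_b IH (LK LD1_c13 LD2_c4 LD3_c36) (LK LD1_c6 LD2_c52 LD3_c39) Lrfl Lrfl
theorem f107588 : Led Lsl_bt (LP (LK LD1_c3 LD2_c33 LD3_c1)) = (LP (LK LD1_c1 LD2_c43 LD3_c21)) :=
  Lre_b IH (LK LD1_c3 LD2_c33 LD3_c1) (LK LD1_c1 LD2_c43 LD3_c21) Lrfl Lrfl
theorem f107605 : Led Lsl_ct (LP (LK LD1_c1 LD2_c43 LD3_c21)) = (LP (LK LD1_c3 LD2_c33 LD3_c16)) :=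
  Lre_c IH (LK LD1_c1 LD2_c43 LD3_c21) (LK LD1_c3 LD2_c33 LD3_c16) Lrfl Lrfl
theorem f107606 : Led Lsl_bt (LP (LK LD1_c3 LD2_c33 LD3_c16)) = (LP (LK LD1_c7 LD2_c7 LD3_c26)) :=
  Lre_b IH (LK LD1_c3 LD2_c33 LD3_c16) (LK LD1_c7 LD2_c7 LD3_c26) Lrfl Lrfl
theorem f107607 : Led Lsl_cf (LP (LK LD1_c13 LD2_c4 LD3_c36)) = (LP (LK LD1_c7 LD2_c7 LD3_c26)) :=
  Lgr Lrot97 (Lpr_bt (f107604 IH) (Lpr_ct (f107601 IH) (Lpr_bt (f107588 IH) (Lpr_ct (f107605 IH) (Lpr_bt (f107606 IH) (Lpn (LP (LK LD1_c7 LD2_c7 LD3_c26))))))))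
theorem f107141 : Led Lsl_et (LP (LK LD1_c13 LD2_c4 LD3_c36)) = (LP (LK LD1_c6 LD2_c52 LD3_c37)) :=
  Lre_e IH (LK LD1_c13 LD2_c4 LD3_c36) (LK LD1_c6 LD2_c52 LD3_c37) Lrfl Lrfl
theorem f106860 : Led Lsl_bt (LP (LK LD1_c3 LD2_c25 LD3_c11)) = (LP (LK LD1_c6 LD2_c52 LD3_c37)) :=
  Lre_b IH (LK LD1_c3 LD2_c25 LD3_c11) (LK LD1_c6 LD2_c52 LD3_c37) Lrfl Lrfl
theorem f105992 : Led Lsl_bt (LP (LK LD1_c3 LD2_c38 LD3_c9)) = (LP (LK LD1_c1 LD2_c46 LD3_c2)) :=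
  Lre_b IH (LK LD1_c3 LD2_c38 LD3_c9) (LK LD1_c1 LD2_c46 LD3_c2) Lrfl Lrfl
theorem f106861 : Led Lsl_ct (LP (LK LD1_c6 LD2_c52 LD3_c37)) = (LP (LK LD1_c3 LD2_c38 LD3_c9)) :=
  Lgr Lrot83 (Lpe (f106860 IH) (Lpr_cf (f106858 IH) (Lpe (f105991 IH) (Lpe (f17971 IH) (Lpe (f105992 IH) (Lpn (LP (LK LD1_c3 LD2_c38 LD3_c9))))))))
theorem f107622 : Led Lsl_et (LP (LK LD1_c3 LD2_c38 LD3_c9)) = (LP (LK LD1_c7 LD2_c7 LD3_c26)) :=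
  Lgr Lrot158 (Lpe (f106861 IH) (Lpe (f107141 IH) (Lpr_cf (f107607 IH) (Lpn (LP (LK LD1_c7 LD2_c7 LD3_c26))))))
theorem f107638 : Led Lsl_ef (LP (LK LD1_c3 LD2_c38 LD3_c9)) = (LP (LK LD1_c7 LD2_c7 LD3_c26)) :=
  Lgr Lrot88 (Lpr_et (f107622 IH) (Lpn (LP (LK LD1_c7 LD2_c7 LD3_c26))))
theorem f107618 : Led Lsl_ct (LP (LK LD1_c13 LD2_c4 LD3_c36)) = (LP (LK LD1_c7 LD2_c7 LD3_c26)) :=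
  Lgr Lrot59 (Lpr_cf (f107607 IH) (Lpn (LP (LK LD1_c7 LD2_c7 LD3_c26))))
theorem f107645 : Led Lsl_et (LP (LK LD1_c6 LD2_c52 LD3_c37)) = (LP (LK LD1_c13 LD2_c4 LD3_c36)) :=
  Lre_e IH (LK LD1_c6 LD2_c52 LD3_c37) (LK LD1_c13 LD2_c4 LD3_c36) Lrfl Lrfl
theorem f107646 : Led Lsl_ct (LP (LK LD1_c3 LD2_c38 LD3_c9)) = (LP (LK LD1_c6 LD2_c52 LD3_c37)) :=
  Lgr Lrot15 (Lpr_ef (f107638 IH) (Lpe (f107618 IH) (Lpe (f107645 IH) (Lpn (LP (LK LD1_c6 LD2_c52 LD3_c37))))))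
theorem f7423 : Led Lsl_gt (LP (LK LD1_c0 LD2_c24 LD3_c30)) = (LP (LK LD1_c0 LD2_c10 LD3_c55)) :=
  Lre_g IH (LK LD1_c0 LD2_c24 LD3_c30) (LK LD1_c0 LD2_c10 LD3_c55) Lrfl Lrfl
theorem f7406 : Led Lsl_ft (LP (LK LD1_c0 LD2_c21 LD3_c22)) = (LP (LK LD1_c0 LD2_c10 LD3_c55)) :=
  Lre_f IH (LK LD1_c0 LD2_c21 LD3_c22) (LK LD1_c0 LD2_c10 LD3_c55) Lrfl Lrfl
theorem f11126 : Led Lsl_gf (LP (LK LD1_c0 LD2_c24 LD3_c30)) = (LP (LK LD1_c0 LD2_c21 LD3_c22)) :=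
  Lgr Lrot47 (Lpr_gt (f7423 IH) (Lpr_af (K0.f11105 IH) (Lpe (f7406 IH) (Lpn (LP (LK LD1_c0 LD2_c21 LD3_c22))))))
theorem f11136 : Led Lsl_bt (LP (LK LD1_c0 LD2_c54 LD3_c17)) = (LP (LK LD1_c0 LD2_c24 LD3_c30)) :=
  Lre_b IH (LK LD1_c0 LD2_c54 LD3_c17) (LK LD1_c0 LD2_c24 LD3_c30) Lrfl Lrfl
theorem f11137 : Led Lsl_ct (LP (LK LD1_c0 LD2_c54 LD3_c17)) = (LP (LK LD1_c1 LD2_c55 LD3_c6)) :=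
  Lre_c IH (LK LD1_c0 LD2_c54 LD3_c17) (LK LD1_c1 LD2_c55 LD3_c6) Lrfl Lrfl
theorem f11138 : Led Lsl_gt (LP (LK LD1_c1 LD2_c55 LD3_c6)) = (LP (LK LD1_c3 LD2_c56 LD3_c47)) :=
  Lre_g IH (LK LD1_c1 LD2_c55 LD3_c6) (LK LD1_c3 LD2_c56 LD3_c47) Lrfl Lrfl
theorem f106288 : Led Lsl_ct (LP (LK LD1_c3 LD2_c13 LD3_c32)) = (LP (LK LD1_c3 LD2_c56 LD3_c47)) :=
  Lgr Lrot10 (Lpr_bt (f95828 IH) (Lpe (f95180 IH) (Lpr_ct (f106276 IH) (Lpr_gt (f11135 IH) (Lpe (f11134 IH) (Lpr_bt (f11128 IH) (Lpe (f11126 IH) (Lpe (f11136 IH) (Lpr_ct (f11137 IH) (Lpr_gt (f11138 IH) (Lpn (LP (LK LD1_c3 LD2_c56 LD3_c47)))))))))))))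
theorem f106863 : Led Lsl_ct (LP (LK LD1_c3 LD2_c25 LD3_c11)) = (LP (LK LD1_c1 LD2_c45 LD3_c59)) :=
  Lgr Lrot59 (Lpr_cf (f106858 IH) (Lpn (LP (LK LD1_c1 LD2_c45 LD3_c59))))
theorem f107092 : Led Lsl_at (LP (LK LD1_c3 LD2_c56 LD3_c47)) = (LP (LK LD1_c3 LD2_c25 LD3_c11)) :=
  Lgr Lrot107 (Lpe (f106288 IH) (Lpr_af (f107076 IH) (Lpe (f106863 IH) (Lpn (LP (LK LD1_c3 LD2_c25 LD3_c11))))))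
theorem f107099 : Led Lsl_ff (LP (LK LD1_c3 LD2_c56 LD3_c47)) = (LP (LK LD1_c3 LD2_c25 LD3_c10)) :=
  Lgr Lrot30 (Lpr_at (f107092 IH) (Lpr_ft (f106867 IH) (Lpe (f106879 IH) (Lpn (LP (LK LD1_c3 LD2_c25 LD3_c10))))))
theorem f106290 : Led Lsl_bt (LP (LK LD1_c3 LD2_c56 LD3_c47)) = (LP (LK LD1_c7 LD2_c55 LD3_c19)) :=
  Lre_b IH (LK LD1_c3 LD2_c56 LD3_c47) (LK LD1_c7 LD2_c55 LD3_c19) Lrfl Lrfl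
theorem f106908 : Led Lsl_bt (LP (LK LD1_c6 LD2_c52 LD3_c35)) = (LP (LK LD1_c3 LD2_c25 LD3_c10)) :=
  Lre_b IH (LK LD1_c6 LD2_c52 LD3_c35) (LK LD1_c3 LD2_c25 LD3_c10) Lrfl Lrfl
theorem f107101 : Led Lsl_ft (LP (LK LD1_c7 LD2_c55 LD3_c19)) = (LP (LK LD1_c6 LD2_c52 LD3_c35)) :=
  Lgr Lrot75 (Lpe (f106290 IH) (Lpr_ff (f107099 IH) (Lpe (f106908 IH) (Lpn (LP (LK LD1_c6 LD2_c52 LD3_c35))))))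
theorem f107109 : Led Lsl_ff (LP (LK LD1_c7 LD2_c55 LD3_c19)) = (LP (LK LD1_c6 LD2_c52 LD3_c35)) :=
  Lgr Lrot3 (Lpr_ft (f107101 IH) (Lpn (LP (LK LD1_c6 LD2_c52 LD3_c35))))
theorem f106300 : Led Lsl_at (LP (LK LD1_c7 LD2_c55 LD3_c19)) = (LP (LK LD1_c14 LD2_c56 LD3_c48)) :=
  Lre_a IH (LK LD1_c7 LD2_c55 LD3_c19) (LK LD1_c14 LD2_c56 LD3_c48) Lrfl Lrfl
theorem f107111 : Led Lsl_at (LP (LK LD1_c13 LD2_c4 LD3_c29)) = (LP (LK LD1_c6 LD2_c52 LD3_c35)) :=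
  Lre_a IH (LK LD1_c13 LD2_c4 LD3_c29) (LK LD1_c6 LD2_c52 LD3_c35) Lrfl Lrfl
theorem f107112 : Led Lsl_ft (LP (LK LD1_c14 LD2_c56 LD3_c48)) = (LP (LK LD1_c13 LD2_c4 LD3_c29)) :=
  Lgr Lrot101 (Lpe (f106300 IH) (Lpr_ff (f107109 IH) (Lpe (f107111 IH) (Lpn (LP (LK LD1_c13 LD2_c4 LD3_c29))))))
theorem f106295 : Led Lsl_bt (LP (LK LD1_c7 LD2_c55 LD3_c19)) = (LP (LK LD1_c3 LD2_c56 LD3_c47)) :=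
  Lre_b IH (LK LD1_c7 LD2_c55 LD3_c19) (LK LD1_c3 LD2_c56 LD3_c47) Lrfl Lrfl
theorem f106305 : Led Lsl_at (LP (LK LD1_c14 LD2_c56 LD3_c48)) = (LP (LK LD1_c7 LD2_c55 LD3_c19)) :=
  Lre_a IH (LK LD1_c14 LD2_c56 LD3_c48) (LK LD1_c7 LD2_c55 LD3_c19) Lrfl Lrfl
theorem f107096 : Led Lsl_at (LP (LK LD1_c6 LD2_c52 LD3_c37)) = (LP (LK LD1_c13 LD2_c4 LD3_c35)) :=
  Lre_a IH (LK LD1_c6 LD2_c52 LD3_c37) (LK LD1_c13 LD2_c4 LD3_c35) Lrfl Lrfl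
theorem f107097 : Led Lsl_bf (LP (LK LD1_c14 LD2_c56 LD3_c48)) = (LP (LK LD1_c13 LD2_c4 LD3_c35)) :=
  Lgr Lrot81 (Lpr_at (f106305 IH) (Lpr_bt (f106295 IH) (Lpr_at (f107092 IH) (Lpr_bt (f106860 IH) (Lpr_at (f107096 IH) (Lpn (LP (LK LD1_c13 LD2_c4 LD3_c35))))))))
theorem f106883 : Led Lsl_bt (LP (LK LD1_c3 LD2_c25 LD3_c10)) = (LP (LK LD1_c6 LD2_c52 LD3_c35)) :=
  Lre_b IH (LK LD1_c3 LD2_c25 LD3_c10) (LK LD1_c6 LD2_c52 LD3_c35) Lrfl Lrfl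
theorem f106884 : Led Lsl_at (LP (LK LD1_c6 LD2_c52 LD3_c35)) = (LP (LK LD1_c13 LD2_c4 LD3_c29)) :=
  Lre_a IH (LK LD1_c6 LD2_c52 LD3_c35) (LK LD1_c13 LD2_c4 LD3_c29) Lrfl Lrfl
theorem f106041 : Led Lsl_bt (LP (LK LD1_c7 LD2_c5 LD3_c30)) = (LP (LK LD1_c3 LD2_c32 LD3_c8)) :=
  Lre_b IH (LK LD1_c7 LD2_c5 LD3_c30) (LK LD1_c3 LD2_c32 LD3_c8) Lrfl Lrfl
theorem f106885 : Led Lsl_at (LP (LK LD1_c13 LD2_c26 LD3_c34)) = (LP (LK LD1_c7 LD2_c5 LD3_c30)) :=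
  Lre_a IH (LK LD1_c13 LD2_c26 LD3_c34) (LK LD1_c7 LD2_c5 LD3_c30) Lrfl Lrfl
theorem f106886 : Led Lsl_bt (LP (LK LD1_c13 LD2_c4 LD3_c29)) = (LP (LK LD1_c13 LD2_c26 LD3_c34)) :=
  Lgr Lrot62 (Lpe (f106884 IH) (Lpe (f106883 IH) (Lpr_af (f106879 IH) (Lpe (f106041 IH) (Lpe (f106885 IH) (Lpn (LP (LK LD1_c13 LD2_c26 LD3_c34))))))))
theorem f107121 : Led Lsl_ff (LP (LK LD1_c13 LD2_c4 LD3_c35)) = (LP (LK LD1_c13 LD2_c26 LD3_c34)) :=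
  Lgr Lrot25 (Lpe (f107097 IH) (Lpr_ft (f107112 IH) (Lpr_bt (f106886 IH) (Lpn (LP (LK LD1_c13 LD2_c26 LD3_c34))))))
theorem f107126 : Led Lsl_at (LP (LK LD1_c13 LD2_c4 LD3_c35)) = (LP (LK LD1_c6 LD2_c52 LD3_c37)) :=
  Lre_a IH (LK LD1_c13 LD2_c4 LD3_c35) (LK LD1_c6 LD2_c52 LD3_c37) Lrfl Lrfl
theorem f107127 : Led Lsl_at (LP (LK LD1_c7 LD2_c5 LD3_c30)) = (LP (LK LD1_c13 LD2_c26 LD3_c34)) :=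
  Lre_a IH (LK LD1_c7 LD2_c5 LD3_c30) (LK LD1_c13 LD2_c26 LD3_c34) Lrfl Lrfl
theorem f107128 : Led Lsl_ft (LP (LK LD1_c6 LD2_c52 LD3_c37)) = (LP (LK LD1_c7 LD2_c5 LD3_c30)) :=
  Lgr Lrot101 (Lpe (f107126 IH) (Lpr_ff (f107121 IH) (Lpe (f107127 IH) (Lpn (LP (LK LD1_c7 LD2_c5 LD3_c30))))))
theorem f106048 : Led Lsl_ct (LP (LK LD1_c7 LD2_c5 LD3_c30)) = (LP (LK LD1_c3 LD2_c32 LD3_c32)) :=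
  Lre_c IH (LK LD1_c7 LD2_c5 LD3_c30) (LK LD1_c3 LD2_c32 LD3_c32) Lrfl Lrfl
theorem f107651 : Led Lsl_ff (LP (LK LD1_c3 LD2_c38 LD3_c9)) = (LP (LK LD1_c3 LD2_c32 LD3_c32)) :=
  Lgr Lrot23 (Lpr_ct (f107646 IH) (Lpr_ft (f107128 IH) (Lpr_ct (f106048 IH) (Lpn (LP (LK LD1_c3 LD2_c32 LD3_c32))))))
theorem f107660 : Led Lsl_ft (LP (LK LD1_c3 LD2_c38 LD3_c9)) = (LP (LK LD1_c3 LD2_c32 LD3_c32)) :=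
  Lgr Lrot48 (Lpr_ff (f107651 IH) (Lpn (LP (LK LD1_c3 LD2_c32 LD3_c32))))
theorem f107636 : Led Lsl_dt (LP (LK LD1_c7 LD2_c16 LD3_c42)) = (LP (LK LD1_c3 LD2_c38 LD3_c9)) :=
  Lre_d IH (LK LD1_c7 LD2_c16 LD3_c42) (LK LD1_c3 LD2_c38 LD3_c9) Lrfl Lrfl
theorem f107664 : Led Lsl_dt (LP (LK LD1_c3 LD2_c32 LD3_c32)) = (LP (LK LD1_c7 LD2_c6 LD3_c2)) :=
  Lre_d IH (LK LD1_c3 LD2_c32 LD3_c32) (LK LD1_c7 LD2_c6 LD3_c2) Lrfl Lrfl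
theorem f107674 : Led Lsl_ff (LP (LK LD1_c7 LD2_c16 LD3_c42)) = (LP (LK LD1_c7 LD2_c6 LD3_c2)) :=
  Lgr Lrot19 (Lpr_dt (f107636 IH) (Lpr_ft (f107660 IH) (Lpr_dt (f107664 IH) (Lpn (LP (LK LD1_c7 LD2_c6 LD3_c2))))))
theorem f107685 : Led Lsl_bt (LP (LK LD1_c7 LD2_c16 LD3_c42)) = (LP (LK LD1_c3 LD2_c38 LD3_c10)) :=
  Lre_b IH (LK LD1_c7 LD2_c16 LD3_c42) (LK LD1_c3 LD2_c38 LD3_c10) Lrfl Lrfl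
theorem f107686 : Led Lsl_bt (LP (LK LD1_c3 LD2_c32 LD3_c33)) = (LP (LK LD1_c7 LD2_c6 LD3_c2)) :=
  Lre_b IH (LK LD1_c3 LD2_c32 LD3_c33) (LK LD1_c7 LD2_c6 LD3_c2) Lrfl Lrfl
theorem f107687 : Led Lsl_ft (LP (LK LD1_c3 LD2_c38 LD3_c10)) = (LP (LK LD1_c3 LD2_c32 LD3_c33)) :=
  Lgr Lrot75 (Lpe (f107685 IH) (Lpr_ff (f107674 IH) (Lpe (f107686 IH) (Lpn (LP (LK LD1_c3 LD2_c32 LD3_c33))))))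
theorem f107701 : Led Lsl_af (LP (LK LD1_c3 LD2_c36 LD3_c16)) = (LP (LK LD1_c3 LD2_c32 LD3_c33)) :=
  Lgr Lrot109 (Lpr_cf (f105763 IH) (Lpe (f10988 IH) (Lpe (f86844 IH) (Lpe (f86719 IH) (Lpe (f17995 IH) (Lpe (f17974 IH) (Lpe (f17971 IH) (Lpe (f17996 IH) (Lpr_ft (f107687 IH) (Lpn (LP (LK LD1_c3 LD2_c32 LD3_c33))))))))))))
theorem f106018 : Led Lsl_dt (LP (LK LD1_c1 LD2_c42 LD3_c58)) = (LP (LK LD1_c3 LD2_c32 LD3_c33)) :=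
  Lre_d IH (LK LD1_c1 LD2_c42 LD3_c58) (LK LD1_c3 LD2_c32 LD3_c33) Lrfl Lrfl
theorem f107709 : Led Lsl_at (LP (LK LD1_c1 LD2_c44 LD3_c60)) = (LP (LK LD1_c1 LD2_c42 LD3_c58)) :=
  Lgr Lrot51 (Lpe (f105765 IH) (Lpr_af (f107701 IH) (Lpe (f106018 IH) (Lpn (LP (LK LD1_c1 LD2_c42 LD3_c58))))))
theorem f106447 : Led Lsl_ct (LP (LK LD1_c0 LD2_c48 LD3_c36)) = (LP (LK LD1_c1 LD2_c44 LD3_c3)) :=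
  Lre_c IH (LK LD1_c0 LD2_c48 LD3_c36) (LK LD1_c1 LD2_c44 LD3_c3) Lrfl Lrfl
theorem f106448 : Led Lsl_ft (LP (LK LD1_c1 LD2_c44 LD3_c3)) = (LP (LK LD1_c1 LD2_c44 LD3_c60)) :=
  Lgr Lrot4 (Lpe (f106447 IH) (Lpr_ff (f106442 IH) (Lpe (f86705 IH) (Lpn (LP (LK LD1_c1 LD2_c44 LD3_c60))))))
theorem f106491 : Led Lsl_dt (LP (LK LD1_c1 LD2_c44 LD3_c3)) = (LP (LK LD1_c3 LD2_c34 LD3_c33)) :=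
  Lre_d IH (LK LD1_c1 LD2_c44 LD3_c3) (LK LD1_c3 LD2_c34 LD3_c33) Lrfl Lrfl
theorem f94408 : Led Lsl_dt (LP (LK LD1_c0 LD2_c48 LD3_c4)) = (LP (LK LD1_c0 LD2_c21 LD3_c32)) :=
  Lre_d IH (LK LD1_c0 LD2_c48 LD3_c4) (LK LD1_c0 LD2_c21 LD3_c32) Lrfl Lrfl
theorem f106009 : Led Lsl_dt (LP (LK LD1_c1 LD2_c44 LD3_c5)) = (LP (LK LD1_c3 LD2_c34 LD3_c38)) :=
  Lre_d IH (LK LD1_c1 LD2_c44 LD3_c5) (LK LD1_c3 LD2_c34 LD3_c38) Lrfl Lrfl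
theorem f106437 : Led Lsl_ct (LP (LK LD1_c1 LD2_c44 LD3_c3)) = (LP (LK LD1_c0 LD2_c48 LD3_c36)) :=
  Lre_c IH (LK LD1_c1 LD2_c44 LD3_c3) (LK LD1_c0 LD2_c48 LD3_c36) Lrfl Lrfl
theorem f106476 : Led Lsl_dt (LP (LK LD1_c3 LD2_c34 LD3_c33)) = (LP (LK LD1_c1 LD2_c44 LD3_c3)) :=
  Lre_d IH (LK LD1_c3 LD2_c34 LD3_c33) (LK LD1_c1 LD2_c44 LD3_c3) Lrfl Lrfl
theorem f106477 : Led Lsl_ct (LP (LK LD1_c3 LD2_c34 LD3_c38)) = (LP (LK LD1_c3 LD2_c34 LD3_c33)) :=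
  Lgr Lrot53 (Lpe (f106009 IH) (Lpr_cf (f106274 IH) (Lpe (f84736 IH) (Lpe (K2.f87478 IH) (Lpe (f94408 IH) (Lpr_ft (f106466 IH) (Lpe (f106454 IH) (Lpe (f106437 IH) (Lpe (f106476 IH) (Lpn (LP (LK LD1_c3 LD2_c34 LD3_c33))))))))))))
theorem f106485 : Led Lsl_cf (LP (LK LD1_c3 LD2_c34 LD3_c38)) = (LP (LK LD1_c3 LD2_c34 LD3_c33)) :=
  Lgr Lrot11 (Lpr_ct (f106477 IH) (Lpn (LP (LK LD1_c3 LD2_c34 LD3_c33))))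
theorem f106589 : Led Lsl_dt (LP (LK LD1_c3 LD2_c34 LD3_c38)) = (LP (LK LD1_c1 LD2_c44 LD3_c5)) :=
  Lre_d IH (LK LD1_c3 LD2_c34 LD3_c38) (LK LD1_c1 LD2_c44 LD3_c5) Lrfl Lrfl
theorem f94371 : Led Lsl_dt (LP (LK LD1_c1 LD2_c42 LD3_c49)) = (LP (LK LD1_c0 LD2_c48 LD3_c0)) :=
  Lre_d IH (LK LD1_c1 LD2_c42 LD3_c49) (LK LD1_c0 LD2_c48 LD3_c0) Lrfl Lrfl
theorem f107790 : Led Lsl_ct (LP (LK LD1_c1 LD2_c44 LD3_c5)) = (LP (LK LD1_c1 LD2_c42 LD3_c49)) :=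
  Lgr Lrot41 (Lpe (f106589 IH) (Lpr_cf (f106485 IH) (Lpe (f106491 IH) (Lpr_ft (f106448 IH) (Lpr_at (f107709 IH) (Lpe (f94399 IH) (Lpe (f10276 IH) (Lpe (K2.f87498 IH) (Lpe (f94371 IH) (Lpn (LP (LK LD1_c1 LD2_c42 LD3_c49))))))))))))
theorem f107796 : Led Lsl_dt (LP (LK LD1_c0 LD2_c48 LD3_c36)) = (LP (LK LD1_c0 LD2_c22 LD3_c10)) :=
  Lgr Lrot6 (Lpr_gt (f94430 IH) (Lpr_ct (f11484 IH) (Lpr_gt (f11485 IH) (Lpr_ct (f107790 IH) (Lpe (f84736 IH) (Lpe (K2.f87478 IH) (Lpr_gf (K2.f94376 IH) (Lpr_cf (f17635 IH) (Lpe (f93081 IH) (Lpn (LP (LK LD1_c0 LD2_c22 LD3_c10))))))))))))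
theorem f107837 : Led Lsl_af (LP (LK LD1_c0 LD2_c22 LD3_c21)) = (LP (LK LD1_c0 LD2_c22 LD3_c10)) :=
  Lgr Lrot117 (Lpr_dt (f4454 IH) (Lpe (f106454 IH) (Lpr_dt (f107796 IH) (Lpn (LP (LK LD1_c0 LD2_c22 LD3_c10))))))
theorem f107991 : Led Lsl_at (LP (LK LD1_c0 LD2_c10 LD3_c2)) = (LP (LK LD1_c0 LD2_c10 LD3_c8)) :=
  Lgr Lrot80 (Lpe (f4453 IH) (Lpr_af (f107837 IH) (Lpr_ef (f105744 IH) (Lpn (LP (LK LD1_c0 LD2_c10 LD3_c8))))))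
theorem f107999 : Led Lsl_ff (LP (LK LD1_c0 LD2_c10 LD3_c2)) = (LP (LK LD1_c0 LD2_c10 LD3_c7)) :=
  Lgr Lrot52 (Lpr_at (f107991 IH) (Lpe (K0.f5242 IH) (Lpr_gf (K2.f5756 IH) (Lpn (LP (LK LD1_c0 LD2_c10 LD3_c7))))))
theorem f108009 : Led Lsl_ft (LP (LK LD1_c0 LD2_c10 LD3_c2)) = (LP (LK LD1_c0 LD2_c10 LD3_c7)) :=
  Lgr Lrot48 (Lpr_ff (f107999 IH) (Lpn (LP (LK LD1_c0 LD2_c10 LD3_c7))))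
theorem f108019 : Led Lsl_af (LP (LK LD1_c0 LD2_c10 LD3_c3)) = (LP (LK LD1_c0 LD2_c10 LD3_c7)) :=
  Lgr Lrot31 (Lpr_gf (f5255 IH) (Lpe (f5806 IH) (Lpr_ft (f108009 IH) (Lpn (LP (LK LD1_c0 LD2_c10 LD3_c7))))))
theorem f107993 : Led Lsl_af (LP (LK LD1_c0 LD2_c10 LD3_c2)) = (LP (LK LD1_c0 LD2_c10 LD3_c8)) :=
  Lgr Lrot0 (Lpr_at (f107991 IH) (Lpn (LP (LK LD1_c0 LD2_c10 LD3_c8))))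
theorem f108161 : Led Lsl_ft (LP (LK LD1_c0 LD2_c10 LD3_c3)) = (LP (LK LD1_c0 LD2_c10 LD3_c8)) :=
  Lgr Lrot101 (Lpr_af (f108019 IH) (Lpe (f108009 IH) (Lpr_af (f107993 IH) (Lpn (LP (LK LD1_c0 LD2_c10 LD3_c8))))))
theorem f108171 : Led Lsl_ff (LP (LK LD1_c0 LD2_c10 LD3_c3)) = (LP (LK LD1_c0 LD2_c10 LD3_c8)) :=
  Lgr Lrot3 (Lpr_ft (f108161 IH) (Lpn (LP (LK LD1_c0 LD2_c10 LD3_c8))))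
theorem f105740 : Led Lsl_et (LP (LK LD1_c0 LD2_c22 LD3_c10)) = (LP (LK LD1_c0 LD2_c10 LD3_c8)) :=
  Lgr Lrot74 (Lpe (f94407 IH) (Lpr_ef (f105738 IH) (Lpe (K0.f12566 IH) (Lpn (LP (LK LD1_c0 LD2_c10 LD3_c8))))))
theorem f106691 : Led Lsl_ff (LP (LK LD1_c0 LD2_c22 LD3_c10)) = (LP (LK LD1_c0 LD2_c22 LD3_c3)) :=
  Lgr Lrot25 (Lpr_bt (f94365 IH) (Lpr_ft (f106685 IH) (Lpr_bt (K0.f17724 IH) (Lpn (LP (LK LD1_c0 LD2_c22 LD3_c3))))))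
theorem f108179 : Led Lsl_ft (LP (LK LD1_c0 LD2_c9 LD3_c44)) = (LP (LK LD1_c0 LD2_c9 LD3_c57)) :=
  Lgr Lrot86 (Lpe (f105995 IH) (Lpr_ff (f108171 IH) (Lpe (f105740 IH) (Lpr_ff (f106691 IH) (Lpe (f17967 IH) (Lpn (LP (LK LD1_c0 LD2_c9 LD3_c57))))))))
theorem f108187 : Led Lsl_af (LP (LK LD1_c0 LD2_c9 LD3_c43)) = (LP (LK LD1_c0 LD2_c9 LD3_c57)) :=
  Lgr Lrot31 (Lpe (K2.f10015 IH) (Lpe (K2.f6675 IH) (Lpr_ft (f108179 IH) (Lpn (LP (LK LD1_c0 LD2_c9 LD3_c57))))))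
theorem f86728 : Led Lsl_et (LP (LK LD1_c0 LD2_c10 LD3_c2)) = (LP (LK LD1_c0 LD2_c22 LD3_c21)) :=
  Lre_e IH (LK LD1_c0 LD2_c10 LD3_c2) (LK LD1_c0 LD2_c22 LD3_c21) Lrfl Lrfl
theorem f106472 : Led Lsl_ff (LP (LK LD1_c0 LD2_c21 LD3_c32)) = (LP (LK LD1_c0 LD2_c22 LD3_c21)) :=
  Lgr Lrot19 (Lpr_dt (f10276 IH) (Lpr_ft (f106466 IH) (Lpr_dt (f17974 IH) (Lpn (LP (LK LD1_c0 LD2_c22 LD3_c21))))))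
theorem f105756 : Led Lsl_ef (LP (LK LD1_c0 LD2_c10 LD3_c7)) = (LP (LK LD1_c0 LD2_c9 LD3_c56)) :=
  Lgr Lrot88 (Lpr_et (f105748 IH) (Lpn (LP (LK LD1_c0 LD2_c9 LD3_c56))))
theorem f108007 : Led Lsl_ft (LP (LK LD1_c0 LD2_c9 LD3_c43)) = (LP (LK LD1_c0 LD2_c9 LD3_c56)) :=
  Lgr Lrot86 (Lpe (f10275 IH) (Lpr_ff (f106472 IH) (Lpe (f86728 IH) (Lpr_ff (f107999 IH) (Lpr_ef (f105756 IH) (Lpn (LP (LK LD1_c0 LD2_c9 LD3_c56))))))))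
theorem f108197 : Led Lsl_at (LP (LK LD1_c0 LD2_c9 LD3_c56)) = (LP (LK LD1_c0 LD2_c9 LD3_c44)) :=
  Lgr Lrot66 (Lpe (f108007 IH) (Lpr_af (f108187 IH) (Lpe (f108179 IH) (Lpn (LP (LK LD1_c0 LD2_c9 LD3_c44))))))
theorem f108204 : Led Lsl_af (LP (LK LD1_c0 LD2_c21 LD3_c61)) = (LP (LK LD1_c0 LD2_c21 LD3_c35)) :=
  Lgr Lrot117 (Lpr_dt (f10299 IH) (Lpr_at (f108197 IH) (Lpr_dt (f10777 IH) (Lpn (LP (LK LD1_c0 LD2_c21 LD3_c35))))))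
theorem f108185 : Led Lsl_ff (LP (LK LD1_c0 LD2_c21 LD3_c35)) = (LP (LK LD1_c0 LD2_c22 LD3_c2)) :=
  Lgr Lrot19 (Lpr_dt (K2.f10788 IH) (Lpr_ft (f108179 IH) (Lpr_dt (K0.f10757 IH) (Lpn (LP (LK LD1_c0 LD2_c22 LD3_c2))))))
theorem f108195 : Led Lsl_at (LP (LK LD1_c0 LD2_c21 LD3_c31)) = (LP (LK LD1_c0 LD2_c22 LD3_c2)) :=
  Lgr Lrot51 (Lpe (K2.f10271 IH) (Lpr_af (f108187 IH) (Lpe (K1.f10770 IH) (Lpn (LP (LK LD1_c0 LD2_c22 LD3_c2))))))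
theorem f108214 : Led Lsl_ft (LP (LK LD1_c0 LD2_c21 LD3_c61)) = (LP (LK LD1_c0 LD2_c21 LD3_c31)) :=
  Lgr Lrot101 (Lpr_af (f108204 IH) (Lpr_ff (f108185 IH) (Lpe (f108195 IH) (Lpn (LP (LK LD1_c0 LD2_c21 LD3_c31))))))
theorem f108224 : Led Lsl_ff (LP (LK LD1_c0 LD2_c21 LD3_c61)) = (LP (LK LD1_c0 LD2_c21 LD3_c31)) :=
  Lgr Lrot3 (Lpr_ft (f108214 IH) (Lpn (LP (LK LD1_c0 LD2_c21 LD3_c31))))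
theorem f108228 : Led Lsl_ft (LP (LK LD1_c0 LD2_c49 LD3_c1)) = (LP (LK LD1_c0 LD2_c48 LD3_c1)) :=
  Lgr Lrot4 (Lpe (f5858 IH) (Lpr_ff (f108224 IH) (Lpe (f92289 IH) (Lpn (LP (LK LD1_c0 LD2_c48 LD3_c1))))))
theorem f108299 : Led Lsl_af (LP (LK LD1_c0 LD2_c49 LD3_c9)) = (LP (LK LD1_c0 LD2_c48 LD3_c1)) :=
  Lgr Lrot31 (Lpr_gf (K2.f94478 IH) (Lpr_gf (f97281 IH) (Lpr_ft (f108228 IH) (Lpn (LP (LK LD1_c0 LD2_c48 LD3_c1))))))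
theorem f94481 : Led Lsl_dt (LP (LK LD1_c0 LD2_c49 LD3_c9)) = (LP (LK LD1_c1 LD2_c44 LD3_c56)) :=
  Lre_d IH (LK LD1_c0 LD2_c49 LD3_c9) (LK LD1_c1 LD2_c44 LD3_c56) Lrfl Lrfl
theorem f108305 : Led Lsl_at (LP (LK LD1_c1 LD2_c44 LD3_c56)) = (LP (LK LD1_c1 LD2_c42 LD3_c52)) :=
  Lgr Lrot51 (Lpe (f94481 IH) (Lpr_af (f108299 IH) (Lpe (f92290 IH) (Lpn (LP (LK LD1_c1 LD2_c42 LD3_c52))))))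
theorem f108499 : Led Lsl_ff (LP (LK LD1_c1 LD2_c44 LD3_c56)) = (LP (LK LD1_c1 LD2_c43 LD3_c0)) :=
  Lgr Lrot52 (Lpr_at (f108305 IH) (Lpe (f97373 IH) (Lpr_gf (f97414 IH) (Lpn (LP (LK LD1_c1 LD2_c43 LD3_c0))))))
theorem f108508 : Led Lsl_ft (LP (LK LD1_c1 LD2_c44 LD3_c56)) = (LP (LK LD1_c1 LD2_c43 LD3_c0)) :=
  Lgr Lrot48 (Lpr_ff (f108499 IH) (Lpn (LP (LK LD1_c1 LD2_c43 LD3_c0))))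
theorem f10759 : Led Lsl_dt (LP (LK LD1_c1 LD2_c44 LD3_c56)) = (LP (LK LD1_c0 LD2_c49 LD3_c9)) :=
  Lre_d IH (LK LD1_c1 LD2_c44 LD3_c56) (LK LD1_c0 LD2_c49 LD3_c9) Lrfl Lrfl
theorem f10763 : Led Lsl_dt (LP (LK LD1_c0 LD2_c22 LD3_c1)) = (LP (LK LD1_c0 LD2_c49 LD3_c7)) :=
  Lre_d IH (LK LD1_c0 LD2_c22 LD3_c1) (LK LD1_c0 LD2_c49 LD3_c7) Lrfl Lrfl
theorem f97190 : Led Lsl_ct (LP (LK LD1_c0 LD2_c49 LD3_c7)) = (LP (LK LD1_c0 LD2_c49 LD3_c52)) :=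
  Lgr Lrot7 (Lpe (f10763 IH) (Lpr_gf (K2.f90075 IH) (Lpe (K2.f17498 IH) (Lpe (f92642 IH) (Lpe (f17471 IH) (Lpe (f10678 IH) (Lpr_dt (f10235 IH) (Lpr_gt (f97186 IH) (Lpe (f97188 IH) (Lpn (LP (LK LD1_c0 LD2_c49 LD3_c52))))))))))))
theorem f108516 : Led Lsl_af (LP (LK LD1_c1 LD2_c44 LD3_c44)) = (LP (LK LD1_c1 LD2_c43 LD3_c0)) :=
  Lgr Lrot109 (Lpe (f97122 IH) (Lpr_df (f97196 IH) (Lpe (f97190 IH) (Lpe (f10763 IH) (Lpe (f10761 IH) (Lpe (K1.f10770 IH) (Lpe (K2.f10758 IH) (Lpe (f10759 IH) (Lpr_ft (f108508 IH) (Lpn (LP (LK LD1_c1 LD2_c43 LD3_c0))))))))))))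
theorem f108524 : Led Lsl_gf (LP (LK LD1_c3 LD2_c35 LD3_c46)) = (LP (LK LD1_c1 LD2_c44 LD3_c56)) :=
  Lgr Lrot47 (Lpr_gt (f97029 IH) (Lpr_af (f108516 IH) (Lpe (f108508 IH) (Lpn (LP (LK LD1_c1 LD2_c44 LD3_c56))))))
theorem f10493 : Led Lsl_et (LP (LK LD1_c0 LD2_c48 LD3_c11)) = (LP (LK LD1_c1 LD2_c43 LD3_c6)) :=
  Lre_e IH (LK LD1_c0 LD2_c48 LD3_c11) (LK LD1_c1 LD2_c43 LD3_c6) Lrfl Lrfl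
theorem f10494 : Led Lsl_ft (LP (LK LD1_c1 LD2_c43 LD3_c6)) = (LP (LK LD1_c3 LD2_c32 LD3_c52)) :=
  Lre_f IH (LK LD1_c1 LD2_c43 LD3_c6) (LK LD1_c3 LD2_c32 LD3_c52) Lrfl Lrfl
theorem f10495 : Led Lsl_et (LP (LK LD1_c1 LD2_c45 LD3_c0)) = (LP (LK LD1_c0 LD2_c49 LD3_c12)) :=
  Lre_e IH (LK LD1_c1 LD2_c45 LD3_c0) (LK LD1_c0 LD2_c49 LD3_c12) Lrfl Lrfl
theorem f10496 : Led Lsl_ft (LP (LK LD1_c3 LD2_c36 LD3_c22)) = (LP (LK LD1_c1 LD2_c45 LD3_c0)) :=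
  Lre_f IH (LK LD1_c3 LD2_c36 LD3_c22) (LK LD1_c1 LD2_c45 LD3_c0) Lrfl Lrfl
theorem f10497 : Led Lsl_et (LP (LK LD1_c3 LD2_c32 LD3_c52)) = (LP (LK LD1_c3 LD2_c36 LD3_c22)) :=
  Lgr Lrot69 (Lpe (f10494 IH) (Lpe (f10493 IH) (Lpr_ff (f10478 IH) (Lpe (f10495 IH) (Lpe (f10496 IH) (Lpn (LP (LK LD1_c3 LD2_c36 LD3_c22))))))))
theorem f10513 : Led Lsl_dt (LP (LK LD1_c7 LD2_c6 LD3_c42)) = (LP (LK LD1_c3 LD2_c32 LD3_c52)) :=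
  Lre_d IH (LK LD1_c7 LD2_c6 LD3_c42) (LK LD1_c3 LD2_c32 LD3_c52) Lrfl Lrfl
theorem f10514 : Led Lsl_et (LP (LK LD1_c13 LD2_c28 LD3_c34)) = (LP (LK LD1_c7 LD2_c6 LD3_c42)) :=
  Lre_e IH (LK LD1_c13 LD2_c28 LD3_c34) (LK LD1_c7 LD2_c6 LD3_c42) Lrfl Lrfl
theorem f10515 : Led Lsl_dt (LP (LK LD1_c3 LD2_c36 LD3_c22)) = (LP (LK LD1_c7 LD2_c13 LD3_c7)) :=
  Lre_d IH (LK LD1_c3 LD2_c36 LD3_c22) (LK LD1_c7 LD2_c13 LD3_c7) Lrfl Lrfl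
theorem f10516 : Led Lsl_et (LP (LK LD1_c7 LD2_c13 LD3_c7)) = (LP (LK LD1_c13 LD2_c39 LD3_c57)) :=
  Lre_e IH (LK LD1_c7 LD2_c13 LD3_c7) (LK LD1_c13 LD2_c39 LD3_c57) Lrfl Lrfl
theorem f10517 : Led Lsl_df (LP (LK LD1_c13 LD2_c28 LD3_c34)) = (LP (LK LD1_c13 LD2_c39 LD3_c57)) :=
  Lgr Lrot70 (Lpr_et (f10514 IH) (Lpr_dt (f10513 IH) (Lpr_et (f10497 IH) (Lpr_dt (f10515 IH) (Lpr_et (f10516 IH) (Lpn (LP (LK LD1_c13 LD2_c39 LD3_c57))))))))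
theorem f10534 : Led Lsl_dt (LP (LK LD1_c13 LD2_c28 LD3_c34)) = (LP (LK LD1_c13 LD2_c39 LD3_c57)) :=
  Lgr Lrot42 (Lpr_df (f10517 IH) (Lpn (LP (LK LD1_c13 LD2_c39 LD3_c57))))
theorem f6192 : Led Lsl_at (LP (LK LD1_c7 LD2_c9 LD3_c6)) = (LP (LK LD1_c13 LD2_c28 LD3_c34)) :=
  Lre_a IH (LK LD1_c7 LD2_c9 LD3_c6) (LK LD1_c13 LD2_c28 LD3_c34) Lrfl Lrfl
theorem f6191 : Led Lsl_at (LP (LK LD1_c13 LD2_c39 LD3_c57)) = (LP (LK LD1_c7 LD2_c15 LD3_c5)) :=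
  Lre_a IH (LK LD1_c13 LD2_c39 LD3_c57) (LK LD1_c7 LD2_c15 LD3_c5) Lrfl Lrfl
theorem f10559 : Led Lsl_df (LP (LK LD1_c7 LD2_c9 LD3_c6)) = (LP (LK LD1_c7 LD2_c15 LD3_c5)) :=
  Lgr Lrot18 (Lpr_at (f6192 IH) (Lpr_dt (f10534 IH) (Lpr_at (f6191 IH) (Lpn (LP (LK LD1_c7 LD2_c15 LD3_c5))))))
theorem f6182 : Led Lsl_ft (LP (LK LD1_c7 LD2_c9 LD3_c6)) = (LP (LK LD1_c13 LD2_c31 LD3_c32)) :=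
  Lre_f IH (LK LD1_c7 LD2_c9 LD3_c6) (LK LD1_c13 LD2_c31 LD3_c32) Lrfl Lrfl
theorem f6181 : Led Lsl_ft (LP (LK LD1_c13 LD2_c42 LD3_c17)) = (LP (LK LD1_c7 LD2_c15 LD3_c5)) :=
  Lre_f IH (LK LD1_c13 LD2_c42 LD3_c17) (LK LD1_c7 LD2_c15 LD3_c5) Lrfl Lrfl
theorem f10574 : Led Lsl_dt (LP (LK LD1_c13 LD2_c31 LD3_c32)) = (LP (LK LD1_c13 LD2_c42 LD3_c17)) :=
  Lgr Lrot60 (Lpe (f6182 IH) (Lpr_df (f10559 IH) (Lpe (f6181 IH) (Lpn (LP (LK LD1_c13 LD2_c42 LD3_c17))))))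
theorem f6168 : Led Lsl_et (LP (LK LD1_c7 LD2_c8 LD3_c30)) = (LP (LK LD1_c13 LD2_c31 LD3_c32)) :=
  Lre_e IH (LK LD1_c7 LD2_c8 LD3_c30) (LK LD1_c13 LD2_c31 LD3_c32) Lrfl Lrfl
theorem f6518 : Led Lsl_dt (LP (LK LD1_c3 LD2_c33 LD3_c48)) = (LP (LK LD1_c7 LD2_c8 LD3_c30)) :=
  Lre_d IH (LK LD1_c3 LD2_c33 LD3_c48) (LK LD1_c7 LD2_c8 LD3_c30) Lrfl Lrfl
theorem f6167 : Led Lsl_et (LP (LK LD1_c13 LD2_c42 LD3_c17)) = (LP (LK LD1_c7 LD2_c14 LD3_c38)) :=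
  Lre_e IH (LK LD1_c13 LD2_c42 LD3_c17) (LK LD1_c7 LD2_c14 LD3_c38) Lrfl Lrfl
theorem f6517 : Led Lsl_dt (LP (LK LD1_c7 LD2_c14 LD3_c38)) = (LP (LK LD1_c3 LD2_c37 LD3_c7)) :=
  Lre_d IH (LK LD1_c7 LD2_c14 LD3_c38) (LK LD1_c3 LD2_c37 LD3_c7) Lrfl Lrfl
theorem f10590 : Led Lsl_ef (LP (LK LD1_c3 LD2_c33 LD3_c48)) = (LP (LK LD1_c3 LD2_c37 LD3_c7)) :=
  Lgr Lrot73 (Lpr_dt (f6518 IH) (Lpr_et (f6168 IH) (Lpr_dt (f10574 IH) (Lpr_et (f6167 IH) (Lpr_dt (f6517 IH) (Lpn (LP (LK LD1_c3 LD2_c37 LD3_c7))))))))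
theorem f6524 : Led Lsl_ft (LP (LK LD1_c3 LD2_c33 LD3_c48)) = (LP (LK LD1_c1 LD2_c43 LD3_c37)) :=
  Lre_f IH (LK LD1_c3 LD2_c33 LD3_c48) (LK LD1_c1 LD2_c43 LD3_c37) Lrfl Lrfl
theorem f6121 : Led Lsl_et (LP (LK LD1_c1 LD2_c43 LD3_c37)) = (LP (LK LD1_c0 LD2_c48 LD3_c25)) :=
  Lre_e IH (LK LD1_c1 LD2_c43 LD3_c37) (LK LD1_c0 LD2_c48 LD3_c25) Lrfl Lrfl
theorem f6523 : Led Lsl_ft (LP (LK LD1_c1 LD2_c45 LD3_c26)) = (LP (LK LD1_c3 LD2_c37 LD3_c7)) :=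
  Lre_f IH (LK LD1_c1 LD2_c45 LD3_c26) (LK LD1_c3 LD2_c37 LD3_c7) Lrfl Lrfl
theorem f6120 : Led Lsl_et (LP (LK LD1_c0 LD2_c49 LD3_c23)) = (LP (LK LD1_c1 LD2_c45 LD3_c26)) :=
  Lre_e IH (LK LD1_c0 LD2_c49 LD3_c23) (LK LD1_c1 LD2_c45 LD3_c26) Lrfl Lrfl
theorem f10596 : Led Lsl_ft (LP (LK LD1_c0 LD2_c48 LD3_c25)) = (LP (LK LD1_c0 LD2_c49 LD3_c23)) :=
  Lgr Lrot86 (Lpe (f6121 IH) (Lpe (f6524 IH) (Lpr_ef (f10590 IH) (Lpe (f6523 IH) (Lpe (f6120 IH) (Lpn (LP (LK LD1_c0 LD2_c49 LD3_c23))))))))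
theorem f10598 : Led Lsl_ff (LP (LK LD1_c0 LD2_c48 LD3_c25)) = (LP (LK LD1_c0 LD2_c49 LD3_c23)) :=
  Lgr Lrot3 (Lpr_ft (f10596 IH) (Lpn (LP (LK LD1_c0 LD2_c49 LD3_c23))))
theorem f6558 : Led Lsl_at (LP (LK LD1_c0 LD2_c48 LD3_c25)) = (LP (LK LD1_c1 LD2_c43 LD3_c5)) :=
  Lre_a IH (LK LD1_c0 LD2_c48 LD3_c25) (LK LD1_c1 LD2_c43 LD3_c5) Lrfl Lrfl
theorem f10600 : Led Lsl_gf (LP (LK LD1_c1 LD2_c43 LD3_c5)) = (LP (LK LD1_c1 LD2_c45 LD3_c24)) :=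
  Lgr Lrot76 (Lpe (f6558 IH) (Lpr_ff (f10598 IH) (Lpr_gt (f6124 IH) (Lpn (LP (LK LD1_c1 LD2_c45 LD3_c24))))))
theorem f108528 : Led Lsl_cf (LP (LK LD1_c1 LD2_c45 LD3_c24)) = (LP (LK LD1_c1 LD2_c44 LD3_c56)) :=
  Lgr Lrot166 (Lpe (f10600 IH) (Lpr_dt (f10231 IH) (Lpr_gt (f10480 IH) (Lpr_dt (f10482 IH) (Lpe (f17504 IH) (Lpe (f17503 IH) (Lpe (f10236 IH) (Lpr_df (f97080 IH) (Lpr_gf (f108524 IH) (Lpn (LP (LK LD1_c1 LD2_c44 LD3_c56))))))))))))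
theorem f108506 : Led Lsl_ft (LP (LK LD1_c0 LD2_c49 LD3_c9)) = (LP (LK LD1_c0 LD2_c48 LD3_c9)) :=
  Lgr Lrot54 (Lpe (f10759 IH) (Lpr_ff (f108499 IH) (Lpe (f11548 IH) (Lpn (LP (LK LD1_c0 LD2_c48 LD3_c9))))))
theorem f108537 : Led Lsl_af (LP (LK LD1_c0 LD2_c49 LD3_c1)) = (LP (LK LD1_c0 LD2_c48 LD3_c9)) :=
  Lgr Lrot109 (Lpe (f5858 IH) (Lpe (f5857 IH) (Lpe (K1.f10296 IH) (Lpe (K1.f17643 IH) (Lpr_cf (K1.f17962 IH) (Lpe (f90073 IH) (Lpr_cf (f108528 IH) (Lpe (f94481 IH) (Lpr_ft (f108506 IH) (Lpn (LP (LK LD1_c0 LD2_c48 LD3_c9))))))))))))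
theorem f97032 : Led Lsl_et (LP (LK LD1_c0 LD2_c49 LD3_c1)) = (LP (LK LD1_c1 LD2_c44 LD3_c45)) :=
  Lre_e IH (LK LD1_c0 LD2_c49 LD3_c1) (LK LD1_c1 LD2_c44 LD3_c45) Lrfl Lrfl
theorem f94435 : Led Lsl_et (LP (LK LD1_c1 LD2_c43 LD3_c1)) = (LP (LK LD1_c0 LD2_c48 LD3_c9)) :=
  Lre_e IH (LK LD1_c1 LD2_c43 LD3_c1) (LK LD1_c0 LD2_c48 LD3_c9) Lrfl Lrfl
theorem f108545 : Led Lsl_at (LP (LK LD1_c1 LD2_c44 LD3_c45)) = (LP (LK LD1_c1 LD2_c43 LD3_c1)) :=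
  Lgr Lrot80 (Lpe (f97032 IH) (Lpr_af (f108537 IH) (Lpe (f94435 IH) (Lpn (LP (LK LD1_c1 LD2_c43 LD3_c1))))))
theorem f108250 : Led Lsl_ft (LP (LK LD1_c3 LD2_c35 LD3_c51)) = (LP (LK LD1_c1 LD2_c44 LD3_c45)) :=
  Lre_f IH (LK LD1_c3 LD2_c35 LD3_c51) (LK LD1_c1 LD2_c44 LD3_c45) Lrfl Lrfl
theorem f108621 : Led Lsl_ft (LP (LK LD1_c1 LD2_c43 LD3_c1)) = (LP (LK LD1_c3 LD2_c32 LD3_c42)) :=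
  Lre_f IH (LK LD1_c1 LD2_c43 LD3_c1) (LK LD1_c3 LD2_c32 LD3_c42) Lrfl Lrfl
theorem f108622 : Led Lsl_af (LP (LK LD1_c3 LD2_c35 LD3_c51)) = (LP (LK LD1_c3 LD2_c32 LD3_c42)) :=
  Lgr Lrot45 (Lpr_ft (f108250 IH) (Lpr_at (f108545 IH) (Lpr_ft (f108621 IH) (Lpn (LP (LK LD1_c3 LD2_c32 LD3_c42))))))
theorem f10306 : Led Lsl_et (LP (LK LD1_c0 LD2_c21 LD3_c61)) = (LP (LK LD1_c0 LD2_c49 LD3_c2)) :=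
  Lre_e IH (LK LD1_c0 LD2_c21 LD3_c61) (LK LD1_c0 LD2_c49 LD3_c2) Lrfl Lrfl
theorem f106221 : Led Lsl_ft (LP (LK LD1_c0 LD2_c49 LD3_c2)) = (LP (LK LD1_c1 LD2_c44 LD3_c47)) :=
  Lre_f IH (LK LD1_c0 LD2_c49 LD3_c2) (LK LD1_c1 LD2_c44 LD3_c47) Lrfl Lrfl
theorem f94428 : Led Lsl_et (LP (LK LD1_c0 LD2_c48 LD3_c2)) = (LP (LK LD1_c0 LD2_c21 LD3_c31)) :=
  Lre_e IH (LK LD1_c0 LD2_c48 LD3_c2) (LK LD1_c0 LD2_c21 LD3_c31) Lrfl Lrfl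
theorem f108230 : Led Lsl_ft (LP (LK LD1_c1 LD2_c42 LD3_c56)) = (LP (LK LD1_c0 LD2_c48 LD3_c2)) :=
  Lre_f IH (LK LD1_c1 LD2_c42 LD3_c56) (LK LD1_c0 LD2_c48 LD3_c2) Lrfl Lrfl
theorem f108231 : Led Lsl_et (LP (LK LD1_c1 LD2_c44 LD3_c47)) = (LP (LK LD1_c1 LD2_c42 LD3_c56)) :=
  Lgr Lrot69 (Lpe (f106221 IH) (Lpe (f10306 IH) (Lpr_ff (f108224 IH) (Lpe (f94428 IH) (Lpe (f108230 IH) (Lpn (LP (LK LD1_c1 LD2_c42 LD3_c56))))))))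
theorem f108237 : Led Lsl_ct (LP (LK LD1_c3 LD2_c35 LD3_c51)) = (LP (LK LD1_c1 LD2_c44 LD3_c47)) :=
  Lre_c IH (LK LD1_c3 LD2_c35 LD3_c51) (LK LD1_c1 LD2_c44 LD3_c47) Lrfl Lrfl
theorem f108238 : Led Lsl_ct (LP (LK LD1_c1 LD2_c42 LD3_c56)) = (LP (LK LD1_c3 LD2_c32 LD3_c24)) :=
  Lre_c IH (LK LD1_c1 LD2_c42 LD3_c56) (LK LD1_c3 LD2_c32 LD3_c24) Lrfl Lrfl
theorem f108239 : Led Lsl_ef (LP (LK LD1_c3 LD2_c35 LD3_c51)) = (LP (LK LD1_c3 LD2_c32 LD3_c24)) :=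
  Lgr Lrot28 (Lpr_ct (f108237 IH) (Lpr_et (f108231 IH) (Lpr_ct (f108238 IH) (Lpn (LP (LK LD1_c3 LD2_c32 LD3_c24))))))
theorem f108248 : Led Lsl_et (LP (LK LD1_c3 LD2_c35 LD3_c51)) = (LP (LK LD1_c3 LD2_c32 LD3_c24)) :=
  Lgr Lrot87 (Lpr_ef (f108239 IH) (Lpn (LP (LK LD1_c3 LD2_c32 LD3_c24))))
theorem f108307 : Led Lsl_et (LP (LK LD1_c0 LD2_c49 LD3_c9)) = (LP (LK LD1_c1 LD2_c44 LD3_c57)) :=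
  Lre_e IH (LK LD1_c0 LD2_c49 LD3_c9) (LK LD1_c1 LD2_c44 LD3_c57) Lrfl Lrfl
theorem f98546 : Led Lsl_et (LP (LK LD1_c1 LD2_c42 LD3_c53)) = (LP (LK LD1_c0 LD2_c48 LD3_c1)) :=
  Lre_e IH (LK LD1_c1 LD2_c42 LD3_c53) (LK LD1_c0 LD2_c48 LD3_c1) Lrfl Lrfl
theorem f108308 : Led Lsl_at (LP (LK LD1_c1 LD2_c44 LD3_c57)) = (LP (LK LD1_c1 LD2_c42 LD3_c53)) :=
  Lgr Lrot80 (Lpe (f108307 IH) (Lpr_af (f108299 IH) (Lpe (f98546 IH) (Lpn (LP (LK LD1_c1 LD2_c42 LD3_c53))))))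
theorem f108318 : Led Lsl_ft (LP (LK LD1_c3 LD2_c36 LD3_c11)) = (LP (LK LD1_c1 LD2_c44 LD3_c57)) :=
  Lre_f IH (LK LD1_c3 LD2_c36 LD3_c11) (LK LD1_c1 LD2_c44 LD3_c57) Lrfl Lrfl
theorem f108251 : Led Lsl_ft (LP (LK LD1_c1 LD2_c42 LD3_c53)) = (LP (LK LD1_c3 LD2_c32 LD3_c24)) :=
  Lre_f IH (LK LD1_c1 LD2_c42 LD3_c53) (LK LD1_c3 LD2_c32 LD3_c24) Lrfl Lrfl
theorem f108319 : Led Lsl_af (LP (LK LD1_c3 LD2_c36 LD3_c11)) = (LP (LK LD1_c3 LD2_c32 LD3_c24)) :=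
  Lgr Lrot45 (Lpr_ft (f108318 IH) (Lpr_at (f108308 IH) (Lpr_ft (f108251 IH) (Lpn (LP (LK LD1_c3 LD2_c32 LD3_c24))))))
theorem f108633 : Led Lsl_et (LP (LK LD1_c3 LD2_c36 LD3_c11)) = (LP (LK LD1_c3 LD2_c32 LD3_c42)) :=
  Lgr Lrot123 (Lpr_af (f108319 IH) (Lpe (f108248 IH) (Lpr_af (f108622 IH) (Lpn (LP (LK LD1_c3 LD2_c32 LD3_c42))))))
theorem f108649 : Led Lsl_ef (LP (LK LD1_c3 LD2_c36 LD3_c11)) = (LP (LK LD1_c3 LD2_c32 LD3_c42)) :=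
  Lgr Lrot88 (Lpr_et (f108633 IH) (Lpn (LP (LK LD1_c3 LD2_c32 LD3_c42))))
theorem f17843 : Led Lsl_ct (LP (LK LD1_c3 LD2_c36 LD3_c11)) = (LP (LK LD1_c1 LD2_c44 LD3_c59)) :=
  Lre_c IH (LK LD1_c3 LD2_c36 LD3_c11) (LK LD1_c1 LD2_c44 LD3_c59) Lrfl Lrfl
theorem f108627 : Led Lsl_ct (LP (LK LD1_c1 LD2_c43 LD3_c3)) = (LP (LK LD1_c3 LD2_c32 LD3_c42)) :=
  Lre_c IH (LK LD1_c1 LD2_c43 LD3_c3) (LK LD1_c3 LD2_c32 LD3_c42) Lrfl Lrfl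
theorem f108654 : Led Lsl_et (LP (LK LD1_c1 LD2_c44 LD3_c59)) = (LP (LK LD1_c1 LD2_c43 LD3_c3)) :=
  Lgr Lrot158 (Lpe (f17843 IH) (Lpr_ef (f108649 IH) (Lpe (f108627 IH) (Lpn (LP (LK LD1_c1 LD2_c43 LD3_c3))))))
theorem f108435 : Led Lsl_ft (LP (LK LD1_c0 LD2_c49 LD3_c10)) = (LP (LK LD1_c1 LD2_c44 LD3_c59)) :=
  Lre_f IH (LK LD1_c0 LD2_c49 LD3_c10) (LK LD1_c1 LD2_c44 LD3_c59) Lrfl Lrfl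
theorem f10771 : Led Lsl_et (LP (LK LD1_c0 LD2_c22 LD3_c2)) = (LP (LK LD1_c0 LD2_c49 LD3_c10)) :=
  Lre_e IH (LK LD1_c0 LD2_c22 LD3_c2) (LK LD1_c0 LD2_c49 LD3_c10) Lrfl Lrfl
theorem f108666 : Led Lsl_ft (LP (LK LD1_c1 LD2_c43 LD3_c3)) = (LP (LK LD1_c0 LD2_c48 LD3_c10)) :=
  Lre_f IH (LK LD1_c1 LD2_c43 LD3_c3) (LK LD1_c0 LD2_c48 LD3_c10) Lrfl Lrfl
theorem f92347 : Led Lsl_et (LP (LK LD1_c0 LD2_c48 LD3_c10)) = (LP (LK LD1_c0 LD2_c21 LD3_c35)) :=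
  Lre_e IH (LK LD1_c0 LD2_c48 LD3_c10) (LK LD1_c0 LD2_c21 LD3_c35) Lrfl Lrfl
theorem f108667 : Led Lsl_ff (LP (LK LD1_c0 LD2_c22 LD3_c2)) = (LP (LK LD1_c0 LD2_c21 LD3_c35)) :=
  Lgr Lrot72 (Lpr_et (f10771 IH) (Lpr_ft (f108435 IH) (Lpr_et (f108654 IH) (Lpr_ft (f108666 IH) (Lpr_et (f92347 IH) (Lpn (LP (LK LD1_c0 LD2_c21 LD3_c35))))))))
theorem f108669 : Led Lsl_ft (LP (LK LD1_c0 LD2_c49 LD3_c5)) = (LP (LK LD1_c0 LD2_c48 LD3_c7)) :=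
  Lgr Lrot75 (Lpe (f17906 IH) (Lpr_ff (f108667 IH) (Lpe (K2.f92344 IH) (Lpn (LP (LK LD1_c0 LD2_c48 LD3_c7))))))
theorem f62834 : Led Lsl_gt (LP (LK LD1_c0 LD2_c43 LD3_c54)) = (LP (LK LD1_c1 LD2_c34 LD3_c24)) :=
  Lre_g IH (LK LD1_c0 LD2_c43 LD3_c54) (LK LD1_c1 LD2_c34 LD3_c24) Lrfl Lrfl
theorem f108677 : Led Lsl_af (LP (LK LD1_c1 LD2_c34 LD3_c24)) = (LP (LK LD1_c0 LD2_c48 LD3_c7)) :=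
  Lgr Lrot31 (Lpe (f62834 IH) (Lpe (f94487 IH) (Lpr_ft (f108669 IH) (Lpn (LP (LK LD1_c0 LD2_c48 LD3_c7))))))
theorem f108754 : Led Lsl_et (LP (LK LD1_c1 LD2_c34 LD3_c24)) = (LP (LK LD1_c3 LD2_c15 LD3_c22)) :=
  Lre_e IH (LK LD1_c1 LD2_c34 LD3_c24) (LK LD1_c3 LD2_c15 LD3_c22) Lrfl Lrfl
theorem f92354 : Led Lsl_et (LP (LK LD1_c1 LD2_c42 LD3_c59)) = (LP (LK LD1_c0 LD2_c48 LD3_c7)) :=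
  Lre_e IH (LK LD1_c1 LD2_c42 LD3_c59) (LK LD1_c0 LD2_c48 LD3_c7) Lrfl Lrfl
theorem f108755 : Led Lsl_at (LP (LK LD1_c3 LD2_c15 LD3_c22)) = (LP (LK LD1_c1 LD2_c42 LD3_c59)) :=
  Lgr Lrot80 (Lpe (f108754 IH) (Lpr_af (f108677 IH) (Lpe (f92354 IH) (Lpn (LP (LK LD1_c1 LD2_c42 LD3_c59))))))
theorem f92397 : Led Lsl_bt (LP (LK LD1_c1 LD2_c42 LD3_c59)) = (LP (LK LD1_c0 LD2_c48 LD3_c10)) :=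
  Lre_b IH (LK LD1_c1 LD2_c42 LD3_c59) (LK LD1_c0 LD2_c48 LD3_c10) Lrfl Lrfl
theorem f98527 : Led Lsl_ct (LP (LK LD1_c0 LD2_c49 LD3_c2)) = (LP (LK LD1_c1 LD2_c44 LD3_c45)) :=
  Lre_c IH (LK LD1_c0 LD2_c49 LD3_c2) (LK LD1_c1 LD2_c44 LD3_c45) Lrfl Lrfl
theorem f92413 : Led Lsl_ct (LP (LK LD1_c1 LD2_c43 LD3_c1)) = (LP (LK LD1_c0 LD2_c48 LD3_c10)) :=
  Lre_c IH (LK LD1_c1 LD2_c43 LD3_c1) (LK LD1_c0 LD2_c48 LD3_c10) Lrfl Lrfl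
theorem f108617 : Led Lsl_af (LP (LK LD1_c0 LD2_c49 LD3_c2)) = (LP (LK LD1_c0 LD2_c48 LD3_c10)) :=
  Lgr Lrot68 (Lpr_ct (f98527 IH) (Lpr_at (f108545 IH) (Lpr_ct (f92413 IH) (Lpn (LP (LK LD1_c0 LD2_c48 LD3_c10))))))
theorem f106202 : Led Lsl_bt (LP (LK LD1_c0 LD2_c49 LD3_c2)) = (LP (LK LD1_c1 LD2_c44 LD3_c38)) :=
  Lre_b IH (LK LD1_c0 LD2_c49 LD3_c2) (LK LD1_c1 LD2_c44 LD3_c38) Lrfl Lrfl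
theorem f106213 : Led Lsl_at (LP (LK LD1_c1 LD2_c44 LD3_c38)) = (LP (LK LD1_c3 LD2_c35 LD3_c31)) :=
  Lre_a IH (LK LD1_c1 LD2_c44 LD3_c38) (LK LD1_c3 LD2_c35 LD3_c31) Lrfl Lrfl
theorem f108759 : Led Lsl_bf (LP (LK LD1_c3 LD2_c15 LD3_c22)) = (LP (LK LD1_c3 LD2_c35 LD3_c31)) :=
  Lgr Lrot81 (Lpr_at (f108755 IH) (Lpr_bt (f92397 IH) (Lpe (f108617 IH) (Lpr_bt (f106202 IH) (Lpr_at (f106213 IH) (Lpn (LP (LK LD1_c3 LD2_c35 LD3_c31))))))))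
theorem f108769 : Led Lsl_bt (LP (LK LD1_c3 LD2_c15 LD3_c22)) = (LP (LK LD1_c3 LD2_c35 LD3_c31)) :=
  Lgr Lrot127 (Lpr_bf (f108759 IH) (Lpn (LP (LK LD1_c3 LD2_c35 LD3_c31))))
theorem f108773 : Led Lsl_et (LP (LK LD1_c3 LD2_c35 LD3_c31)) = (LP (LK LD1_c1 LD2_c44 LD3_c37)) :=
  Lre_e IH (LK LD1_c3 LD2_c35 LD3_c31) (LK LD1_c1 LD2_c44 LD3_c37) Lrfl Lrfl
theorem f108774 : Led Lsl_bf (LP (LK LD1_c1 LD2_c34 LD3_c24)) = (LP (LK LD1_c1 LD2_c44 LD3_c37)) :=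
  Lgr Lrot96 (Lpr_et (f108754 IH) (Lpr_bt (f108769 IH) (Lpr_et (f108773 IH) (Lpn (LP (LK LD1_c1 LD2_c44 LD3_c37))))))
theorem f62962 : Led Lsl_gt (LP (LK LD1_c1 LD2_c34 LD3_c24)) = (LP (LK LD1_c0 LD2_c44 LD3_c1)) :=
  Lre_g IH (LK LD1_c1 LD2_c34 LD3_c24) (LK LD1_c0 LD2_c44 LD3_c1) Lrfl Lrfl
theorem f4456 : Led Lsl_bt (LP (LK LD1_c0 LD2_c10 LD3_c18)) = (LP (LK LD1_c0 LD2_c4 LD3_c52)) :=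
  Lre_b IH (LK LD1_c0 LD2_c10 LD3_c18) (LK LD1_c0 LD2_c4 LD3_c52) Lrfl Lrfl
theorem f4462 : Led Lsl_ct (LP (LK LD1_c0 LD2_c10 LD3_c18)) = (LP (LK LD1_c0 LD2_c22 LD3_c51)) :=
  Lre_c IH (LK LD1_c0 LD2_c10 LD3_c18) (LK LD1_c0 LD2_c22 LD3_c51) Lrfl Lrfl
theorem f11407 : Led Lsl_gt (LP (LK LD1_c0 LD2_c22 LD3_c51)) = (LP (LK LD1_c0 LD2_c50 LD3_c33)) :=
  Lre_g IH (LK LD1_c0 LD2_c22 LD3_c51) (LK LD1_c0 LD2_c50 LD3_c33) Lrfl Lrfl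
theorem f108777 : Led Lsl_cf (LP (LK LD1_c0 LD2_c50 LD3_c33)) = (LP (LK LD1_c1 LD2_c44 LD3_c37)) :=
  Lgr Lrot58 (Lpe (f11407 IH) (Lpe (f4462 IH) (Lpr_bt (f4456 IH) (Lpe (K0.f11403 IH) (Lpe (K2.f11306 IH) (Lpr_ct (K1.f11061 IH) (Lpe (K2.f65785 IH) (Lpe (K2.f23664 IH) (Lpe (f62962 IH) (Lpr_bf (f108774 IH) (Lpn (LP (LK LD1_c1 LD2_c44 LD3_c37)))))))))))))
theorem f4896 : Led Lsl_gt (LP (LK LD1_c0 LD2_c22 LD3_c50)) = (LP (LK LD1_c0 LD2_c10 LD3_c18)) :=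
  Lre_g IH (LK LD1_c0 LD2_c22 LD3_c50) (LK LD1_c0 LD2_c10 LD3_c18) Lrfl Lrfl
theorem f23683 : Led Lsl_bt (LP (LK LD1_c0 LD2_c50 LD3_c30)) = (LP (LK LD1_c0 LD2_c22 LD3_c50)) :=
  Lre_b IH (LK LD1_c0 LD2_c50 LD3_c30) (LK LD1_c0 LD2_c22 LD3_c50) Lrfl Lrfl
theorem f108779 : Led Lsl_ct (LP (LK LD1_c0 LD2_c50 LD3_c30)) = (LP (LK LD1_c1 LD2_c47 LD3_c25)) :=
  Lre_c IH (LK LD1_c0 LD2_c50 LD3_c30) (LK LD1_c1 LD2_c47 LD3_c25) Lrfl Lrfl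
theorem f108780 : Led Lsl_gt (LP (LK LD1_c1 LD2_c38 LD3_c42)) = (LP (LK LD1_c1 LD2_c47 LD3_c25)) :=
  Lgr Lrot65 (Lpe (K2.f11079 IH) (Lpe (K2.f65847 IH) (Lpe (f62962 IH) (Lpr_bf (f108774 IH) (Lpe (f108777 IH) (Lpe (f11407 IH) (Lpe (f4462 IH) (Lpe (f4896 IH) (Lpe (f23683 IH) (Lpr_ct (f108779 IH) (Lpn (LP (LK LD1_c1 LD2_c47 LD3_c25)))))))))))))
theorem f23684 : Led Lsl_ct (LP (LK LD1_c1 LD2_c47 LD3_c25)) = (LP (LK LD1_c0 LD2_c50 LD3_c30)) :=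
  Lre_c IH (LK LD1_c1 LD2_c47 LD3_c25) (LK LD1_c0 LD2_c50 LD3_c30) Lrfl Lrfl
theorem f108786 : Led Lsl_df (LP (LK LD1_c0 LD2_c46 LD3_c1)) = (LP (LK LD1_c0 LD2_c50 LD3_c30)) :=
  Lgr Lrot162 (Lpe (K2.f84649 IH) (Lpe (K2.f12663 IH) (Lpe (K2.f12662 IH) (Lpe (K2.f3960 IH) (Lpr_dt (K1.f18148 IH) (Lpr_gt (K2.f11078 IH) (Lpr_ct (K2.f11079 IH) (Lpr_gt (f108780 IH) (Lpr_ct (f23684 IH) (Lpn (LP (LK LD1_c0 LD2_c50 LD3_c30))))))))))))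
theorem f108796 : Led Lsl_gf (LP (LK LD1_c0 LD2_c51 LD3_c33)) = (LP (LK LD1_c0 LD2_c50 LD3_c30)) :=
  Lgr Lrot147 (Lpe (f95324 IH) (Lpr_gt (K2.f19152 IH) (Lpr_ct (K1.f15853 IH) (Lpe (f15858 IH) (Lpe (K2.f66829 IH) (Lpr_gf (K2.f66825 IH) (Lpr_cf (K2.f84685 IH) (Lpe (K2.f84653 IH) (Lpr_df (f108786 IH) (Lpn (LP (LK LD1_c0 LD2_c50 LD3_c30))))))))))))
theorem f86733 : Led Lsl_dt (LP (LK LD1_c0 LD2_c49 LD3_c43)) = (LP (LK LD1_c1 LD2_c45 LD3_c60)) :=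
  Lre_d IH (LK LD1_c0 LD2_c49 LD3_c43) (LK LD1_c1 LD2_c45 LD3_c60) Lrfl Lrfl
theorem f107248 : Led Lsl_gf (LP (LK LD1_c0 LD2_c52 LD3_c14)) = (LP (LK LD1_c1 LD2_c45 LD3_c60)) :=
  Lgr Lrot143 (Lpr_dt (K2.f87613 IH) (Lpr_cf (K2.f90173 IH) (Lpr_df (K2.f83720 IH) (Lpe (K2.f77319 IH) (Lpe (K0.f13516 IH) (Lpe (K2.f9808 IH) (Lpr_cf (K2.f94657 IH) (Lpr_gt (f107233 IH) (Lpr_dt (f86733 IH) (Lpn (LP (LK LD1_c1 LD2_c45 LD3_c60))))))))))))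
theorem f88664 : Led Lsl_ef (LP (LK LD1_c0 LD2_c53 LD3_c17)) = (LP (LK LD1_c0 LD2_c46 LD3_c60)) :=
  Lgr Lrot29 (Lpr_bt (K2.f10991 IH) (Lpr_et (K2.f88659 IH) (Lpr_bt (K2.f84669 IH) (Lpn (LP (LK LD1_c0 LD2_c46 LD3_c60))))))
theorem f108784 : Led Lsl_dt (LP (LK LD1_c0 LD2_c46 LD3_c1)) = (LP (LK LD1_c0 LD2_c50 LD3_c30)) :=
  Lgr Lrot27 (Lpe (K2.f84649 IH) (Lpe (K2.f12663 IH) (Lpe (K2.f12662 IH) (Lpe (K2.f3960 IH) (Lpe (K1.f12844 IH) (Lpr_gt (K2.f11078 IH) (Lpr_ct (K2.f11079 IH) (Lpr_gt (f108780 IH) (Lpr_ct (f23684 IH) (Lpn (LP (LK LD1_c0 LD2_c50 LD3_c30))))))))))))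
theorem f84652 : Led Lsl_et (LP (LK LD1_c0 LD2_c46 LD3_c1)) = (LP (LK LD1_c1 LD2_c39 LD3_c13)) :=
  Lre_e IH (LK LD1_c0 LD2_c46 LD3_c1) (LK LD1_c1 LD2_c39 LD3_c13) Lrfl Lrfl
theorem f108823 : Led Lsl_gt (LP (LK LD1_c0 LD2_c53 LD3_c17)) = (LP (LK LD1_c1 LD2_c39 LD3_c13)) :=
  Lgr Lrot131 (Lpr_ef (f88664 IH) (Lpe (K2.f90576 IH) (Lpr_gf (f107248 IH) (Lpe (f86733 IH) (Lpe (f107233 IH) (Lpr_ef (K2.f85197 IH) (Lpr_dt (f5795 IH) (Lpr_gf (f108796 IH) (Lpe (f108784 IH) (Lpr_et (f84652 IH) (Lpn (LP (LK LD1_c1 LD2_c39 LD3_c13)))))))))))))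
theorem f108825 : Led Lsl_gf (LP (LK LD1_c3 LD2_c11 LD3_c38)) = (LP (LK LD1_c1 LD2_c39 LD3_c13)) :=
  Lgr Lrot76 (Lpr_af (f94081 IH) (Lpe (K2.f88798 IH) (Lpr_gt (f108823 IH) (Lpn (LP (LK LD1_c1 LD2_c39 LD3_c13))))))
theorem f94102 : Led Lsl_gt (LP (LK LD1_c6 LD2_c52 LD3_c46)) = (LP (LK LD1_c3 LD2_c28 LD3_c29)) :=
  Lgr Lrot5 (Lpr_ft (f94094 IH) (Lpr_at (K2.f19398 IH) (Lpe (f76783 IH) (Lpn (LP (LK LD1_c3 LD2_c28 LD3_c29))))))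
theorem f86825 : Led Lsl_et (LP (LK LD1_c1 LD2_c45 LD3_c61)) = (LP (LK LD1_c0 LD2_c49 LD3_c43)) :=
  Lre_e IH (LK LD1_c1 LD2_c45 LD3_c61) (LK LD1_c0 LD2_c49 LD3_c43) Lrfl Lrfl
theorem f95328 : Led Lsl_at (LP (LK LD1_c0 LD2_c23 LD3_c20)) = (LP (LK LD1_c0 LD2_c51 LD3_c33)) :=
  Lre_a IH (LK LD1_c0 LD2_c23 LD3_c20) (LK LD1_c0 LD2_c51 LD3_c33) Lrfl Lrfl
theorem f107340 : Led Lsl_ff (LP (LK LD1_c0 LD2_c23 LD3_c20)) = (LP (LK LD1_c0 LD2_c47 LD3_c16)) :=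
  Lgr Lrot19 (Lpr_dt (K2.f65863 IH) (Lpr_ft (f85180 IH) (Lpr_dt (f107328 IH) (Lpn (LP (LK LD1_c0 LD2_c47 LD3_c16))))))
theorem f108814 : Led Lsl_gt (LP (LK LD1_c0 LD2_c47 LD3_c16)) = (LP (LK LD1_c0 LD2_c50 LD3_c30)) :=
  Lgr Lrot5 (Lpe (f107340 IH) (Lpr_at (f95328 IH) (Lpr_gf (f108796 IH) (Lpn (LP (LK LD1_c0 LD2_c50 LD3_c30))))))
theorem f108880 : Led Lsl_gt (LP (LK LD1_c0 LD2_c49 LD3_c43)) = (LP (LK LD1_c0 LD2_c23 LD3_c21)) :=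
  Lgr Lrot137 (Lpe (f86825 IH) (Lpr_dt (f86745 IH) (Lpe (f94102 IH) (Lpr_df (f94087 IH) (Lpe (f94083 IH) (Lpr_gf (f108825 IH) (Lpe (f84652 IH) (Lpr_dt (f108784 IH) (Lpe (f108814 IH) (Lpe (f107328 IH) (Lpn (LP (LK LD1_c0 LD2_c23 LD3_c21)))))))))))))
theorem f98496 : Led Lsl_df (LP (LK LD1_c0 LD2_c10 LD3_c2)) = (LP (LK LD1_c0 LD2_c21 LD3_c38)) :=
  Lgr Lrot153 (Lpr_gt (f5806 IH) (Lpr_dt (K0.f4012 IH) (Lpe (K0.f4974 IH) (Lpe (K0.f4975 IH) (Lpr_gf (f98490 IH) (Lpe (f6104 IH) (Lpe (f6103 IH) (Lpe (f5889 IH) (Lpr_gt (K2.f5898 IH) (Lpn (LP (LK LD1_c0 LD2_c21 LD3_c38))))))))))))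
theorem f91959 : Led Lsl_bt (LP (LK LD1_c1 LD2_c37 LD3_c52)) = (LP (LK LD1_c0 LD2_c45 LD3_c24)) :=
  Lre_b IH (LK LD1_c1 LD2_c37 LD3_c52) (LK LD1_c0 LD2_c45 LD3_c24) Lrfl Lrfl
theorem f91960 : Led Lsl_ct (LP (LK LD1_c3 LD2_c22 LD3_c58)) = (LP (LK LD1_c1 LD2_c37 LD3_c52)) :=
  Lre_c IH (LK LD1_c3 LD2_c22 LD3_c58) (LK LD1_c1 LD2_c37 LD3_c52) Lrfl Lrfl
theorem f91961 : Led Lsl_dt (LP (LK LD1_c6 LD2_c49 LD3_c26)) = (LP (LK LD1_c3 LD2_c22 LD3_c58)) :=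
  Lre_d IH (LK LD1_c6 LD2_c49 LD3_c26) (LK LD1_c3 LD2_c22 LD3_c58) Lrfl Lrfl
theorem f18062 : Led Lsl_bt (LP (LK LD1_c1 LD2_c41 LD3_c22)) = (LP (LK LD1_c3 LD2_c29 LD3_c18)) :=
  Lre_b IH (LK LD1_c1 LD2_c41 LD3_c22) (LK LD1_c3 LD2_c29 LD3_c18) Lrfl Lrfl
theorem f108884 : Led Lsl_gf (LP (LK LD1_c6 LD2_c49 LD3_c26)) = (LP (LK LD1_c3 LD2_c29 LD3_c18)) :=
  Lgr Lrot85 (Lpr_dt (f91961 IH) (Lpr_ct (f91960 IH) (Lpr_bt (f91959 IH) (Lpe (K2.f91947 IH) (Lpr_dt (K2.f66661 IH) (Lpr_ct (K1.f17657 IH) (Lpr_bt (K1.f17652 IH) (Lpe (K0.f11462 IH) (Lpr_dt (K0.f360 IH) (Lpr_ct (K0.f5881 IH) (Lpr_bt (K2.f5888 IH) (Lpr_gt (K2.f5898 IH) (Lpe (f98496 IH) (Lpr_ct (f386 IH) (Lpr_bt (f390 IH) (Lpr_gt (f108880 IH) (Lpr_dt (f107328 IH) (Lpr_ct (K1.f11434 IH) (Lpr_bt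 (f18062 IH) (Lpn (LP (LK LD1_c3 LD2_c29 LD3_c18))))))))))))))))))))))
theorem f107360 : Led Lsl_ff (LP (LK LD1_c1 LD2_c49 LD3_c33)) = (LP (LK LD1_c3 LD2_c29 LD3_c18)) :=
  Lgr Lrot25 (Lpr_bt (f58789 IH) (Lpr_ft (f107358 IH) (Lpr_bt (f18062 IH) (Lpn (LP (LK LD1_c3 LD2_c29 LD3_c18))))))
theorem f91840 : Led Lsl_at (LP (LK LD1_c1 LD2_c49 LD3_c33)) = (LP (LK LD1_c3 LD2_c44 LD3_c56)) :=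
  Lre_a IH (LK LD1_c1 LD2_c49 LD3_c33) (LK LD1_c3 LD2_c44 LD3_c56) Lrfl Lrfl
theorem f108896 : Led Lsl_gt (LP (LK LD1_c6 LD2_c49 LD3_c26)) = (LP (LK LD1_c3 LD2_c44 LD3_c56)) :=
  Lgr Lrot46 (Lpr_gf (f108884 IH) (Lpe (f107360 IH) (Lpr_at (f91840 IH) (Lpn (LP (LK LD1_c3 LD2_c44 LD3_c56))))))
theorem f95584 : Led Lsl_cf (LP (LK LD1_c6 LD2_c49 LD3_c26)) = (LP (LK LD1_c3 LD2_c44 LD3_c54)) :=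
  Lgr Lrot11 (Lpr_ct (K2.f95581 IH) (Lpn (LP (LK LD1_c3 LD2_c44 LD3_c54))))
theorem f26163 : Led Lsl_gt (LP (LK LD1_c1 LD2_c33 LD3_c50)) = (LP (LK LD1_c3 LD2_c14 LD3_c36)) :=
  Lre_g IH (LK LD1_c1 LD2_c33 LD3_c50) (LK LD1_c3 LD2_c14 LD3_c36) Lrfl Lrfl
theorem f17664 : Led Lsl_dt (LP (LK LD1_c1 LD2_c40 LD3_c61)) = (LP (LK LD1_c0 LD2_c47 LD3_c1)) :=
  Lre_d IH (LK LD1_c1 LD2_c40 LD3_c61) (LK LD1_c0 LD2_c47 LD3_c1) Lrfl Lrfl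
theorem f62336 : Led Lsl_df (LP (LK LD1_c0 LD2_c19 LD3_c51)) = (LP (LK LD1_c0 LD2_c17 LD3_c59)) :=
  Lgr Lrot162 (Lpe (K1.f352 IH) (Lpe (K2.f57260 IH) (Lpe (K2.f61881 IH) (Lpe (K2.f62315 IH) (Lpr_dt (f17664 IH) (Lpe (K2.f25025 IH) (Lpr_ct (K2.f62320 IH) (Lpr_gt (K2.f57576 IH) (Lpr_ct (K2.f57571 IH) (Lpn (LP (LK LD1_c0 LD2_c17 LD3_c59))))))))))))
theorem f104291 : Led Lsl_ct (LP (LK LD1_c3 LD2_c14 LD3_c36)) = (LP (LK LD1_c3 LD2_c23 LD3_c0)) :=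
  Lgr Lrot110 (Lpe (f26163 IH) (Lpe (f26162 IH) (Lpr_gf (f104287 IH) (Lpr_df (f62336 IH) (Lpr_gt (f57581 IH) (Lpr_ct (f57584 IH) (Lpr_gt (f66644 IH) (Lpr_ct (K2.f17663 IH) (Lpe (f90233 IH) (Lpn (LP (LK LD1_c3 LD2_c23 LD3_c0))))))))))))
theorem f95512 : Led Lsl_ct (LP (LK LD1_c3 LD2_c44 LD3_c56)) = (LP (LK LD1_c1 LD2_c50 LD3_c2)) :=
  Lre_c IH (LK LD1_c3 LD2_c44 LD3_c56) (LK LD1_c1 LD2_c50 LD3_c2) Lrfl Lrfl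
theorem f108982 : Led Lsl_df (LP (LK LD1_c2 LD2_c21 LD3_c46)) = (LP (LK LD1_c1 LD2_c50 LD3_c2)) :=
  Lgr Lrot162 (Lpe (K2.f78098 IH) (Lpe (f103181 IH) (Lpe (f104291 IH) (Lpe (f26163 IH) (Lpe (f91806 IH) (Lpr_gt (K2.f5730 IH) (Lpe (f95584 IH) (Lpr_gt (f108896 IH) (Lpr_ct (f95512 IH) (Lpn (LP (LK LD1_c1 LD2_c50 LD3_c2))))))))))))
theorem f108986 : Led Lsl_at (LP (LK LD1_c0 LD2_c51 LD3_c53)) = (LP (LK LD1_c1 LD2_c50 LD3_c2)) :=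
  Lre_a IH (LK LD1_c0 LD2_c51 LD3_c53) (LK LD1_c1 LD2_c50 LD3_c2) Lrfl Lrfl
theorem f91842 : Led Lsl_bt (LP (LK LD1_c0 LD2_c51 LD3_c53)) = (LP (LK LD1_c0 LD2_c23 LD3_c27)) :=
  Lre_b IH (LK LD1_c0 LD2_c51 LD3_c53) (LK LD1_c0 LD2_c23 LD3_c27) Lrfl Lrfl
theorem f104280 : Led Lsl_df (LP (LK LD1_c0 LD2_c51 LD3_c53)) = (LP (LK LD1_c1 LD2_c36 LD3_c18)) :=
  Lgr Lrot12 (Lpr_bt (f91842 IH) (Lpr_dt (f65698 IH) (Lpr_bt (f104234 IH) (Lpn (LP (LK LD1_c1 LD2_c36 LD3_c18))))))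
theorem f108987 : Led Lsl_at (LP (LK LD1_c2 LD2_c21 LD3_c46)) = (LP (LK LD1_c1 LD2_c36 LD3_c18)) :=
  Lgr Lrot51 (Lpr_df (f108982 IH) (Lpe (f108986 IH) (Lpr_df (f104280 IH) (Lpn (LP (LK LD1_c1 LD2_c36 LD3_c18))))))
theorem f78105 : Led Lsl_bt (LP (LK LD1_c4 LD2_c47 LD3_c47)) = (LP (LK LD1_c2 LD2_c21 LD3_c46)) :=
  Lre_b IH (LK LD1_c4 LD2_c47 LD3_c47) (LK LD1_c2 LD2_c21 LD3_c46) Lrfl Lrfl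
theorem f104278 : Led Lsl_bf (LP (LK LD1_c0 LD2_c51 LD3_c54)) = (LP (LK LD1_c1 LD2_c36 LD3_c18)) :=
  Lgr Lrot24 (Lpr_bt (f104234 IH) (Lpn (LP (LK LD1_c1 LD2_c36 LD3_c18))))
theorem f105309 : Led Lsl_at (LP (LK LD1_c0 LD2_c51 LD3_c54)) = (LP (LK LD1_c1 LD2_c41 LD3_c33)) :=
  Lgr Lrot107 (Lpr_cf (K2.f65687 IH) (Lpr_af (f105305 IH) (Lpr_cf (f65052 IH) (Lpn (LP (LK LD1_c1 LD2_c41 LD3_c33))))))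
theorem f65051 : Led Lsl_bt (LP (LK LD1_c1 LD2_c41 LD3_c33)) = (LP (LK LD1_c3 LD2_c29 LD3_c40)) :=
  Lre_b IH (LK LD1_c1 LD2_c41 LD3_c33) (LK LD1_c3 LD2_c29 LD3_c40) Lrfl Lrfl
theorem f108991 : Led Lsl_af (LP (LK LD1_c4 LD2_c47 LD3_c47)) = (LP (LK LD1_c3 LD2_c29 LD3_c40)) :=
  Lgr Lrot36 (Lpr_bt (f78105 IH) (Lpr_at (f108987 IH) (Lpe (f104278 IH) (Lpr_at (f105309 IH) (Lpr_bt (f65051 IH) (Lpn (LP (LK LD1_c3 LD2_c29 LD3_c40))))))))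
theorem f97508 : Led Lsl_dt (LP (LK LD1_c1 LD2_c41 LD3_c32)) = (LP (LK LD1_c3 LD2_c29 LD3_c40)) :=
  Lre_d IH (LK LD1_c1 LD2_c41 LD3_c32) (LK LD1_c3 LD2_c29 LD3_c40) Lrfl Lrfl
theorem f108995 : Led Lsl_at (LP (LK LD1_c3 LD2_c29 LD3_c39)) = (LP (LK LD1_c1 LD2_c41 LD3_c32)) :=
  Lre_a IH (LK LD1_c3 LD2_c29 LD3_c39) (LK LD1_c1 LD2_c41 LD3_c32) Lrfl Lrfl
theorem f108996 : Led Lsl_dt (LP (LK LD1_c4 LD2_c47 LD3_c47)) = (LP (LK LD1_c3 LD2_c29 LD3_c39)) :=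
  Lgr Lrot44 (Lpr_af (f108991 IH) (Lpe (f97508 IH) (Lpe (f108995 IH) (Lpn (LP (LK LD1_c3 LD2_c29 LD3_c39))))))
theorem f109002 : Led Lsl_df (LP (LK LD1_c4 LD2_c47 LD3_c47)) = (LP (LK LD1_c3 LD2_c29 LD3_c39)) :=
  Lgr Lrot38 (Lpr_dt (f108996 IH) (Lpn (LP (LK LD1_c3 LD2_c29 LD3_c39))))
theorem f91771 : Led Lsl_dt (LP (LK LD1_c1 LD2_c49 LD3_c33)) = (LP (LK LD1_c1 LD2_c33 LD3_c50)) :=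
  Lgr Lrot79 (Lpe (K2.f5729 IH) (Lpe (K2.f65864 IH) (Lpr_bf (f91758 IH) (Lpn (LP (LK LD1_c1 LD2_c33 LD3_c50))))))
theorem f108980 : Led Lsl_dt (LP (LK LD1_c2 LD2_c21 LD3_c46)) = (LP (LK LD1_c1 LD2_c50 LD3_c2)) :=
  Lgr Lrot27 (Lpe (K2.f78098 IH) (Lpe (f103181 IH) (Lpe (f104291 IH) (Lpe (f26163 IH) (Lpe (f91771 IH) (Lpr_gt (K2.f5730 IH) (Lpe (f95584 IH) (Lpr_gt (f108896 IH) (Lpr_ct (f95512 IH) (Lpn (LP (LK LD1_c1 LD2_c50 LD3_c2))))))))))))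
theorem f109009 : Led Lsl_bt (LP (LK LD1_c1 LD2_c50 LD3_c2)) = (LP (LK LD1_c3 LD2_c29 LD3_c39)) :=
  Lgr Lrot95 (Lpe (f108980 IH) (Lpe (f78105 IH) (Lpr_df (f109002 IH) (Lpn (LP (LK LD1_c3 LD2_c29 LD3_c39))))))
theorem f108984 : Led Lsl_ct (LP (LK LD1_c1 LD2_c50 LD3_c2)) = (LP (LK LD1_c3 LD2_c44 LD3_c56)) :=
  Lre_c IH (LK LD1_c1 LD2_c50 LD3_c2) (LK LD1_c3 LD2_c44 LD3_c56) Lrfl Lrfl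
theorem f92286 : Led Lsl_bt (LP (LK LD1_c0 LD2_c50 LD3_c3)) = (LP (LK LD1_c1 LD2_c46 LD3_c38)) :=
  Lre_b IH (LK LD1_c0 LD2_c50 LD3_c3) (LK LD1_c1 LD2_c46 LD3_c38) Lrfl Lrfl
theorem f94570 : Led Lsl_ct (LP (LK LD1_c1 LD2_c39 LD3_c27)) = (LP (LK LD1_c0 LD2_c51 LD3_c36)) :=
  Lgr Lrot83 (Lpr_bf (K2.f94566 IH) (Lpe (K2.f94485 IH) (Lpe (f92286 IH) (Lpr_cf (K2.f92283 IH) (Lpe (K2.f92270 IH) (Lpn (LP (LK LD1_c0 LD2_c51 LD3_c36))))))))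
theorem f94568 : Led Lsl_bt (LP (LK LD1_c1 LD2_c39 LD3_c27)) = (LP (LK LD1_c1 LD2_c50 LD3_c25)) :=
  Lgr Lrot127 (Lpr_bf (K2.f94566 IH) (Lpn (LP (LK LD1_c1 LD2_c50 LD3_c25))))
theorem f109018 : Led Lsl_gf (LP (LK LD1_c1 LD2_c50 LD3_c25)) = (LP (LK LD1_c3 LD2_c29 LD3_c39)) :=
  Lgr Lrot124 (Lpe (f94568 IH) (Lpr_ct (f94570 IH) (Lpr_gt (K2.f65871 IH) (Lpe (K2.f65862 IH) (Lpr_bt (K2.f5729 IH) (Lpr_gt (K2.f5730 IH) (Lpe (f95584 IH) (Lpr_gt (f108896 IH) (Lpe (f108984 IH) (Lpr_bt (f109009 IH) (Lpn (LP (LK LD1_c3 LD2_c29 LD3_c39)))))))))))))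
theorem f5064 : Led Lsl_bt (LP (LK LD1_c1 LD2_c46 LD3_c5)) = (LP (LK LD1_c0 LD2_c49 LD3_c49)) :=
  Lre_b IH (LK LD1_c1 LD2_c46 LD3_c5) (LK LD1_c0 LD2_c49 LD3_c49) Lrfl Lrfl
theorem f5263 : Led Lsl_ct (LP (LK LD1_c1 LD2_c46 LD3_c5)) = (LP (LK LD1_c1 LD2_c46 LD3_c5)) :=
  Lgr Lrot83 (Lpe (K0.f5045 IH) (Lpe (K0.f397 IH) (Lpr_bf (K2.f5261 IH) (Lpe (K2.f394 IH) (Lpe (f5064 IH) (Lpn (LP (LK LD1_c1 LD2_c46 LD3_c5))))))))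
theorem f5062 : Led Lsl_gt (LP (LK LD1_c1 LD2_c46 LD3_c5)) = (LP (LK LD1_c3 LD2_c38 LD3_c12)) :=
  Lre_g IH (LK LD1_c1 LD2_c46 LD3_c5) (LK LD1_c3 LD2_c38 LD3_c12) Lrfl Lrfl
theorem f5631 : Led Lsl_ct (LP (LK LD1_c7 LD2_c16 LD3_c45)) = (LP (LK LD1_c3 LD2_c38 LD3_c12)) :=
  Lre_c IH (LK LD1_c7 LD2_c16 LD3_c45) (LK LD1_c3 LD2_c38 LD3_c12) Lrfl Lrfl
theorem f92298 : Led Lsl_bt (LP (LK LD1_c0 LD2_c51 LD3_c60)) = (LP (LK LD1_c1 LD2_c50 LD3_c15)) :=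
  Lre_b IH (LK LD1_c0 LD2_c51 LD3_c60) (LK LD1_c1 LD2_c50 LD3_c15) Lrfl Lrfl
theorem f92365 : Led Lsl_gt (LP (LK LD1_c1 LD2_c50 LD3_c15)) = (LP (LK LD1_c3 LD2_c46 LD3_c19)) :=
  Lre_g IH (LK LD1_c1 LD2_c50 LD3_c15) (LK LD1_c3 LD2_c46 LD3_c19) Lrfl Lrfl
theorem f4982 : Led Lsl_bt (LP (LK LD1_c0 LD2_c50 LD3_c1)) = (LP (LK LD1_c1 LD2_c46 LD3_c36)) :=
  Lre_b IH (LK LD1_c0 LD2_c50 LD3_c1) (LK LD1_c1 LD2_c46 LD3_c36) Lrfl Lrfl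
theorem f5388 : Led Lsl_af (LP (LK LD1_c1 LD2_c46 LD3_c5)) = (LP (LK LD1_c1 LD2_c46 LD3_c36)) :=
  Lgr Lrot36 (Lpr_bt (f5064 IH) (Lpr_at (f382 IH) (Lpr_bt (K2.f5341 IH) (Lpr_at (K0.f4994 IH) (Lpr_bt (f4982 IH) (Lpn (LP (LK LD1_c1 LD2_c46 LD3_c36))))))))
theorem f5629 : Led Lsl_gf (LP (LK LD1_c1 LD2_c46 LD3_c5)) = (LP (LK LD1_c3 LD2_c38 LD3_c12)) :=
  Lgr Lrot76 (Lpr_af (f5388 IH) (Lpe (K0.f5047 IH) (Lpr_gt (f5062 IH) (Lpn (LP (LK LD1_c3 LD2_c38 LD3_c12))))))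
theorem f94452 : Led Lsl_bf (LP (LK LD1_c3 LD2_c46 LD3_c19)) = (LP (LK LD1_c7 LD2_c16 LD3_c45)) :=
  Lgr Lrot34 (Lpe (f92365 IH) (Lpe (f92298 IH) (Lpr_ct (f62821 IH) (Lpe (K2.f94450 IH) (Lpr_cf (K2.f94416 IH) (Lpe (K2.f5701 IH) (Lpe (f5064 IH) (Lpr_ct (f5263 IH) (Lpr_gf (f5629 IH) (Lpe (f5631 IH) (Lpn (LP (LK LD1_c7 LD2_c16 LD3_c45)))))))))))))
theorem f109007 : Led Lsl_ct (LP (LK LD1_c7 LD2_c0 LD3_c42)) = (LP (LK LD1_c3 LD2_c29 LD3_c39)) :=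
  Lre_c IH (LK LD1_c7 LD2_c0 LD3_c42) (LK LD1_c3 LD2_c29 LD3_c39) Lrfl Lrfl
theorem f109025 : Led Lsl_gt (LP (LK LD1_c3 LD2_c46 LD3_c19)) = (LP (LK LD1_c7 LD2_c0 LD3_c42)) :=
  Lgr Lrot82 (Lpr_bf (f94452 IH) (Lpr_ct (f5631 IH) (Lpe (f5062 IH) (Lpe (f5263 IH) (Lpr_bt (f5064 IH) (Lpr_gf (K2.f5800 IH) (Lpe (K2.f5396 IH) (Lpr_ct (K2.f94485 IH) (Lpr_gf (f109018 IH) (Lpe (f109007 IH) (Lpn (LP (LK LD1_c7 LD2_c0 LD3_c42)))))))))))))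
theorem f109006 : Led Lsl_at (LP (LK LD1_c3 LD2_c29 LD3_c31)) = (LP (LK LD1_c7 LD2_c0 LD3_c42)) :=
  Lre_a IH (LK LD1_c3 LD2_c29 LD3_c31) (LK LD1_c7 LD2_c0 LD3_c42) Lrfl Lrfl
theorem f109028 : Led Lsl_ft (LP (LK LD1_c1 LD2_c50 LD3_c15)) = (LP (LK LD1_c3 LD2_c29 LD3_c31)) :=
  Lgr Lrot2 (Lpr_gt (f92365 IH) (Lpr_gt (f109025 IH) (Lpe (f109006 IH) (Lpn (LP (LK LD1_c3 LD2_c29 LD3_c31))))))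
theorem f109043 : Led Lsl_ff (LP (LK LD1_c1 LD2_c50 LD3_c15)) = (LP (LK LD1_c3 LD2_c29 LD3_c31)) :=
  Lgr Lrot3 (Lpr_ft (f109028 IH) (Lpn (LP (LK LD1_c3 LD2_c29 LD3_c31))))
theorem f94546 : Led Lsl_dt (LP (LK LD1_c1 LD2_c50 LD3_c15)) = (LP (LK LD1_c3 LD2_c46 LD3_c22)) :=
  Lre_d IH (LK LD1_c1 LD2_c50 LD3_c15) (LK LD1_c3 LD2_c46 LD3_c22) Lrfl Lrfl
theorem f64641 : Led Lsl_dt (LP (LK LD1_c7 LD2_c0 LD3_c43)) = (LP (LK LD1_c3 LD2_c29 LD3_c31)) :=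
  Lre_d IH (LK LD1_c7 LD2_c0 LD3_c43) (LK LD1_c3 LD2_c29 LD3_c31) Lrfl Lrfl
theorem f109053 : Led Lsl_ft (LP (LK LD1_c3 LD2_c46 LD3_c22)) = (LP (LK LD1_c7 LD2_c0 LD3_c43)) :=
  Lgr Lrot54 (Lpe (f94546 IH) (Lpr_ff (f109043 IH) (Lpe (f64641 IH) (Lpn (LP (LK LD1_c7 LD2_c0 LD3_c43))))))
theorem f98529 : Led Lsl_bt (LP (LK LD1_c1 LD2_c50 LD3_c16)) = (LP (LK LD1_c3 LD2_c46 LD3_c22)) :=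
  Lre_b IH (LK LD1_c1 LD2_c50 LD3_c16) (LK LD1_c3 LD2_c46 LD3_c22) Lrfl Lrfl
theorem f98531 : Led Lsl_bt (LP (LK LD1_c7 LD2_c0 LD3_c43)) = (LP (LK LD1_c3 LD2_c29 LD3_c32)) :=
  Lre_b IH (LK LD1_c7 LD2_c0 LD3_c43) (LK LD1_c3 LD2_c29 LD3_c32) Lrfl Lrfl
theorem f109062 : Led Lsl_ff (LP (LK LD1_c1 LD2_c50 LD3_c16)) = (LP (LK LD1_c3 LD2_c29 LD3_c32)) :=
  Lgr Lrot25 (Lpr_bt (f98529 IH) (Lpr_ft (f109053 IH) (Lpr_bt (f98531 IH) (Lpn (LP (LK LD1_c3 LD2_c29 LD3_c32))))))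
theorem f92337 : Led Lsl_dt (LP (LK LD1_c0 LD2_c48 LD3_c1)) = (LP (LK LD1_c1 LD2_c42 LD3_c52)) :=
  Lre_d IH (LK LD1_c0 LD2_c48 LD3_c1) (LK LD1_c1 LD2_c42 LD3_c52) Lrfl Lrfl
theorem f94422 : Led Lsl_dt (LP (LK LD1_c3 LD2_c32 LD3_c15)) = (LP (LK LD1_c1 LD2_c42 LD3_c50)) :=
  Lre_d IH (LK LD1_c3 LD2_c32 LD3_c15) (LK LD1_c1 LD2_c42 LD3_c50) Lrfl Lrfl
theorem f98083 : Led Lsl_gt (LP (LK LD1_c1 LD2_c45 LD3_c14)) = (LP (LK LD1_c3 LD2_c32 LD3_c15)) :=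
  Lgr Lrot180 (Lpe (f93079 IH) (Lpe (K2.f92522 IH) (Lpr_dt (K2.f395 IH) (Lpr_gt (K2.f5701 IH) (Lpr_dt (f92482 IH) (Lpr_ct (f98051 IH) (Lpe (f92337 IH) (Lpe (f94418 IH) (Lpe (f94422 IH) (Lpn (LP (LK LD1_c3 LD2_c32 LD3_c15))))))))))))
theorem f109066 : Led Lsl_at (LP (LK LD1_c1 LD2_c50 LD3_c16)) = (LP (LK LD1_c3 LD2_c32 LD3_c15)) :=
  Lgr Lrot26 (Lpr_ff (f109062 IH) (Lpr_gt (f97461 IH) (Lpr_gt (f98083 IH) (Lpn (LP (LK LD1_c3 LD2_c32 LD3_c15))))))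
theorem f109070 : Led Lsl_af (LP (LK LD1_c3 LD2_c29 LD3_c32)) = (LP (LK LD1_c3 LD2_c33 LD3_c7)) :=
  Lgr Lrot68 (Lpe (f98508 IH) (Lpr_at (f109066 IH) (Lpe (f97149 IH) (Lpn (LP (LK LD1_c3 LD2_c33 LD3_c7))))))
theorem f109076 : Led Lsl_ff (LP (LK LD1_c3 LD2_c33 LD3_c7)) = (LP (LK LD1_c3 LD2_c32 LD3_c15)) :=
  Lgr Lrot30 (Lpe (f109070 IH) (Lpe (f109062 IH) (Lpr_at (f109066 IH) (Lpn (LP (LK LD1_c3 LD2_c32 LD3_c15))))))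
theorem f109080 : Led Lsl_ft (LP (LK LD1_c3 LD2_c33 LD3_c7)) = (LP (LK LD1_c3 LD2_c32 LD3_c15)) :=
  Lgr Lrot48 (Lpr_ff (f109076 IH) (Lpn (LP (LK LD1_c3 LD2_c32 LD3_c15))))
theorem f98478 : Led Lsl_dt (LP (LK LD1_c1 LD2_c44 LD3_c42)) = (LP (LK LD1_c3 LD2_c33 LD3_c7)) :=
  Lgr Lrot6 (Lpr_gt (f19355 IH) (Lpr_ct (f18053 IH) (Lpe (f97277 IH) (Lpr_ct (K0.f4995 IH) (Lpe (K0.f4975 IH) (Lpe (K0.f377 IH) (Lpr_gf (f97314 IH) (Lpr_cf (f98469 IH) (Lpe (f11537 IH) (Lpn (LP (LK LD1_c3 LD2_c33 LD3_c7))))))))))))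
theorem f109084 : Led Lsl_ff (LP (LK LD1_c1 LD2_c44 LD3_c42)) = (LP (LK LD1_c1 LD2_c42 LD3_c50)) :=
  Lgr Lrot19 (Lpr_dt (f98478 IH) (Lpr_ft (f109080 IH) (Lpr_dt (f94422 IH) (Lpn (LP (LK LD1_c1 LD2_c42 LD3_c50))))))
theorem f109088 : Led Lsl_at (LP (LK LD1_c1 LD2_c44 LD3_c42)) = (LP (LK LD1_c1 LD2_c41 LD3_c30)) :=
  Lgr Lrot26 (Lpr_ff (f109084 IH) (Lpr_gt (f94418 IH) (Lpr_gt (f98540 IH) (Lpn (LP (LK LD1_c1 LD2_c41 LD3_c30))))))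
theorem f109035 : Led Lsl_ff (LP (LK LD1_c0 LD2_c51 LD3_c60)) = (LP (LK LD1_c1 LD2_c41 LD3_c30)) :=
  Lgr Lrot25 (Lpr_bt (f92298 IH) (Lpr_ft (f109028 IH) (Lpr_bt (f97465 IH) (Lpn (LP (LK LD1_c1 LD2_c41 LD3_c30))))))
theorem f109099 : Led Lsl_af (LP (LK LD1_c1 LD2_c42 LD3_c50)) = (LP (LK LD1_c0 LD2_c51 LD3_c60)) :=
  Lgr Lrot45 (Lpe (f109084 IH) (Lpr_at (f109088 IH) (Lpe (f109035 IH) (Lpn (LP (LK LD1_c0 LD2_c51 LD3_c60))))))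
theorem f62822 : Led Lsl_dt (LP (LK LD1_c1 LD2_c50 LD3_c16)) = (LP (LK LD1_c0 LD2_c51 LD3_c60)) :=
  Lre_d IH (LK LD1_c1 LD2_c50 LD3_c16) (LK LD1_c0 LD2_c51 LD3_c60) Lrfl Lrfl
theorem f5780 : Led Lsl_at (LP (LK LD1_c0 LD2_c23 LD3_c30)) = (LP (LK LD1_c0 LD2_c10 LD3_c33)) :=
  Lre_a IH (LK LD1_c0 LD2_c23 LD3_c30) (LK LD1_c0 LD2_c10 LD3_c33) Lrfl Lrfl
theorem f5781 : Led Lsl_ff (LP (LK LD1_c0 LD2_c23 LD3_c30)) = (LP (LK LD1_c0 LD2_c49 LD3_c60)) :=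
  Lgr Lrot30 (Lpr_at (f5780 IH) (Lpr_ft (K2.f5760 IH) (Lpr_at (K2.f5761 IH) (Lpn (LP (LK LD1_c0 LD2_c49 LD3_c60))))))
theorem f5787 : Led Lsl_ft (LP (LK LD1_c0 LD2_c23 LD3_c30)) = (LP (LK LD1_c0 LD2_c49 LD3_c60)) :=
  Lgr Lrot48 (Lpr_ff (f5781 IH) (Lpn (LP (LK LD1_c0 LD2_c49 LD3_c60))))
theorem f98602 : Led Lsl_cf (LP (LK LD1_c0 LD2_c23 LD3_c30)) = (LP (LK LD1_c0 LD2_c10 LD3_c33)) :=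
  Lgr Lrot108 (Lpr_ft (f5787 IH) (Lpr_ct (f98543 IH) (Lpr_ft (K2.f5790 IH) (Lpn (LP (LK LD1_c0 LD2_c10 LD3_c33))))))
theorem f5785 : Led Lsl_dt (LP (LK LD1_c0 LD2_c23 LD3_c30)) = (LP (LK LD1_c0 LD2_c51 LD3_c58)) :=
  Lre_d IH (LK LD1_c0 LD2_c23 LD3_c30) (LK LD1_c0 LD2_c51 LD3_c58) Lrfl Lrfl
theorem f109106 : Led Lsl_cf (LP (LK LD1_c1 LD2_c42 LD3_c50)) = (LP (LK LD1_c0 LD2_c51 LD3_c58)) :=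
  Lgr Lrot102 (Lpr_af (f109099 IH) (Lpr_ff (f109035 IH) (Lpr_dt (f97460 IH) (Lpe (f98508 IH) (Lpr_dt (f62822 IH) (Lpr_ct (f62821 IH) (Lpr_dt (K2.f5763 IH) (Lpe (f98602 IH) (Lpr_dt (f5785 IH) (Lpn (LP (LK LD1_c0 LD2_c51 LD3_c58))))))))))))
theorem f98545 : Led Lsl_bt (LP (LK LD1_c0 LD2_c21 LD3_c31)) = (LP (LK LD1_c0 LD2_c47 LD3_c58)) :=
  Lre_b IH (LK LD1_c0 LD2_c21 LD3_c31) (LK LD1_c0 LD2_c47 LD3_c58) Lrfl Lrfl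
theorem f98494 : Led Lsl_gt (LP (LK LD1_c0 LD2_c49 LD3_c53)) = (LP (LK LD1_c1 LD2_c43 LD3_c29)) :=
  Lgr Lrot5 (Lpr_ft (f5007 IH) (Lpe (f4979 IH) (Lpr_gf (f98490 IH) (Lpn (LP (LK LD1_c1 LD2_c43 LD3_c29))))))
theorem f109116 : Led Lsl_gt (LP (LK LD1_c0 LD2_c49 LD3_c0)) = (LP (LK LD1_c0 LD2_c51 LD3_c58)) :=
  Lgr Lrot150 (Lpr_cf (K1.f17962 IH) (Lpe (K1.f5812 IH) (Lpe (f380 IH) (Lpr_gt (f98494 IH) (Lpr_ct (f98087 IH) (Lpr_gt (f97376 IH) (Lpr_ct (f97153 IH) (Lpe (f94419 IH) (Lpr_cf (f109106 IH) (Lpn (LP (LK LD1_c0 LD2_c51 LD3_c58))))))))))))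
theorem f12769 : Led Lsl_bt (LP (LK LD1_c0 LD2_c45 LD3_c47)) = (LP (LK LD1_c1 LD2_c38 LD3_c44)) :=
  Lre_b IH (LK LD1_c0 LD2_c45 LD3_c47) (LK LD1_c1 LD2_c38 LD3_c44) Lrfl Lrfl
theorem f109118 : Led Lsl_gt (LP (LK LD1_c0 LD2_c47 LD3_c58)) = (LP (LK LD1_c1 LD2_c38 LD3_c44)) :=
  Lgr Lrot164 (Lpe (f98545 IH) (Lpr_ct (f92336 IH) (Lpe (f94418 IH) (Lpr_cf (f109106 IH) (Lpe (f109116 IH) (Lpe (K1.f17670 IH) (Lpr_ct (K2.f91224 IH) (Lpe (K2.f91138 IH) (Lpe (K2.f12825 IH) (Lpr_bt (f12769 IH) (Lpn (LP (LK LD1_c1 LD2_c38 LD3_c44)))))))))))))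
theorem f84746 : Led Lsl_dt (LP (LK LD1_c0 LD2_c21 LD3_c29)) = (LP (LK LD1_c0 LD2_c47 LD3_c58)) :=
  Lre_d IH (LK LD1_c0 LD2_c21 LD3_c29) (LK LD1_c0 LD2_c47 LD3_c58) Lrfl Lrfl
theorem f87550 : Led Lsl_et (LP (LK LD1_c1 LD2_c42 LD3_c41)) = (LP (LK LD1_c0 LD2_c47 LD3_c56)) :=
  Lre_e IH (LK LD1_c1 LD2_c42 LD3_c41) (LK LD1_c0 LD2_c47 LD3_c56) Lrfl Lrfl
theorem f87547 : Led Lsl_dt (LP (LK LD1_c1 LD2_c42 LD3_c41)) = (LP (LK LD1_c3 LD2_c32 LD3_c0)) :=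
  Lre_d IH (LK LD1_c1 LD2_c42 LD3_c41) (LK LD1_c3 LD2_c32 LD3_c0) Lrfl Lrfl
theorem f12838 : Led Lsl_dt (LP (LK LD1_c0 LD2_c10 LD3_c24)) = (LP (LK LD1_c0 LD2_c4 LD3_c53)) :=
  Lre_d IH (LK LD1_c0 LD2_c10 LD3_c24) (LK LD1_c0 LD2_c4 LD3_c53) Lrfl Lrfl
theorem f12761 : Led Lsl_gt (LP (LK LD1_c0 LD2_c10 LD3_c24)) = (LP (LK LD1_c0 LD2_c23 LD3_c7)) :=
  Lre_g IH (LK LD1_c0 LD2_c10 LD3_c24) (LK LD1_c0 LD2_c23 LD3_c7) Lrfl Lrfl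
theorem f12762 : Led Lsl_ct (LP (LK LD1_c0 LD2_c23 LD3_c7)) = (LP (LK LD1_c0 LD2_c51 LD3_c13)) :=
  Lre_c IH (LK LD1_c0 LD2_c23 LD3_c7) (LK LD1_c0 LD2_c51 LD3_c13) Lrfl Lrfl
theorem f12763 : Led Lsl_gt (LP (LK LD1_c0 LD2_c51 LD3_c13)) = (LP (LK LD1_c1 LD2_c48 LD3_c50)) :=
  Lre_g IH (LK LD1_c0 LD2_c51 LD3_c13) (LK LD1_c1 LD2_c48 LD3_c50) Lrfl Lrfl
theorem f12760 : Led Lsl_bt (LP (LK LD1_c0 LD2_c4 LD3_c54)) = (LP (LK LD1_c0 LD2_c10 LD3_c24)) :=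
  Lre_b IH (LK LD1_c0 LD2_c4 LD3_c54) (LK LD1_c0 LD2_c10 LD3_c24) Lrfl Lrfl
theorem f11077 : Led Lsl_bt (LP (LK LD1_c1 LD2_c38 LD3_c44)) = (LP (LK LD1_c0 LD2_c45 LD3_c47)) :=
  Lre_b IH (LK LD1_c1 LD2_c38 LD3_c44) (LK LD1_c0 LD2_c45 LD3_c47) Lrfl Lrfl
theorem f12764 : Led Lsl_cf (LP (LK LD1_c1 LD2_c48 LD3_c50)) = (LP (LK LD1_c1 LD2_c38 LD3_c44)) :=
  Lgr Lrot163 (Lpe (f12763 IH) (Lpe (f12762 IH) (Lpe (f12761 IH) (Lpe (f12760 IH) (Lpr_ct (K0.f12747 IH) (Lpe (K0.f11403 IH) (Lpr_cf (K0.f11050 IH) (Lpr_bt (K2.f11075 IH) (Lpe (K2.f11076 IH) (Lpe (f11077 IH) (Lpn (LP (LK LD1_c1 LD2_c38 LD3_c44)))))))))))))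
theorem f12774 : Led Lsl_ct (LP (LK LD1_c1 LD2_c48 LD3_c50)) = (LP (LK LD1_c1 LD2_c38 LD3_c44)) :=
  Lgr Lrot59 (Lpr_cf (f12764 IH) (Lpn (LP (LK LD1_c1 LD2_c38 LD3_c44))))
theorem f104140 : Led Lsl_df (LP (LK LD1_c1 LD2_c38 LD3_c44)) = (LP (LK LD1_c0 LD2_c46 LD3_c7)) :=
  Lgr Lrot162 (Lpe (f12774 IH) (Lpe (f12763 IH) (Lpe (f12762 IH) (Lpe (f12761 IH) (Lpr_dt (f12838 IH) (Lpr_gt (f12839 IH) (Lpr_ct (f12840 IH) (Lpr_gt (f12841 IH) (Lpr_ct (f104114 IH) (Lpn (LP (LK LD1_c0 LD2_c46 LD3_c7))))))))))))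
theorem f109127 : Led Lsl_gf (LP (LK LD1_c3 LD2_c32 LD3_c0)) = (LP (LK LD1_c3 LD2_c13 LD3_c32)) :=
  Lgr Lrot145 (Lpe (f87547 IH) (Lpr_et (f87550 IH) (Lpr_gt (K2.f84732 IH) (Lpr_dt (f84746 IH) (Lpr_gt (f109118 IH) (Lpr_df (f104140 IH) (Lpe (f94276 IH) (Lpe (f107225 IH) (Lpe (f23658 IH) (Lpr_dt (f95923 IH) (Lpn (LP (LK LD1_c3 LD2_c13 LD3_c32)))))))))))))
theorem f87529 : Led Lsl_dt (LP (LK LD1_c3 LD2_c32 LD3_c0)) = (LP (LK LD1_c1 LD2_c42 LD3_c41)) :=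
  Lre_d IH (LK LD1_c3 LD2_c32 LD3_c0) (LK LD1_c1 LD2_c42 LD3_c41) Lrfl Lrfl
theorem f84715 : Led Lsl_dt (LP (LK LD1_c1 LD2_c26 LD3_c47)) = (LP (LK LD1_c3 LD2_c1 LD3_c33)) :=
  Lre_d IH (LK LD1_c1 LD2_c26 LD3_c47) (LK LD1_c3 LD2_c1 LD3_c33) Lrfl Lrfl
theorem f87530 : Led Lsl_bf (LP (LK LD1_c3 LD2_c32 LD3_c0)) = (LP (LK LD1_c3 LD2_c1 LD3_c33)) :=
  Lgr Lrot93 (Lpr_dt (f87529 IH) (Lpr_bt (K2.f84744 IH) (Lpr_dt (f84715 IH) (Lpn (LP (LK LD1_c3 LD2_c1 LD3_c33))))))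
theorem f58171 : Led Lsl_dt (LP (LK LD1_c1 LD2_c40 LD3_c47)) = (LP (LK LD1_c0 LD2_c46 LD3_c52)) :=
  Lre_d IH (LK LD1_c1 LD2_c40 LD3_c47) (LK LD1_c0 LD2_c46 LD3_c52) Lrfl Lrfl
theorem f85300 : Led Lsl_gt (LP (LK LD1_c3 LD2_c28 LD3_c48)) = (LP (LK LD1_c1 LD2_c41 LD3_c8)) :=
  Lre_g IH (LK LD1_c3 LD2_c28 LD3_c48) (LK LD1_c1 LD2_c41 LD3_c8) Lrfl Lrfl
theorem f85361 : Led Lsl_gt (LP (LK LD1_c1 LD2_c53 LD3_c28)) = (LP (LK LD1_c3 LD2_c28 LD3_c48)) :=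
  Lgr Lrot5 (Lpr_ft (f85343 IH) (Lpr_at (f85349 IH) (Lpe (f85300 IH) (Lpn (LP (LK LD1_c3 LD2_c28 LD3_c48))))))
theorem f95760 : Led Lsl_cf (LP (LK LD1_c3 LD2_c15 LD3_c20)) = (LP (LK LD1_c3 LD2_c28 LD3_c48)) :=
  Lgr Lrot99 (Lpe (f65504 IH) (Lpr_cf (f95755 IH) (Lpe (f88970 IH) (Lpe (K2.f84299 IH) (Lpe (f84301 IH) (Lpe (f58171 IH) (Lpr_gt (f18010 IH) (Lpr_ct (f85317 IH) (Lpr_gt (f85361 IH) (Lpn (LP (LK LD1_c3 LD2_c28 LD3_c48))))))))))))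
theorem f95763 : Led Lsl_ct (LP (LK LD1_c3 LD2_c15 LD3_c20)) = (LP (LK LD1_c3 LD2_c28 LD3_c48)) :=
  Lgr Lrot59 (Lpr_cf (f95760 IH) (Lpn (LP (LK LD1_c3 LD2_c28 LD3_c48))))
theorem f85662 : Led Lsl_gt (LP (LK LD1_c1 LD2_c53 LD3_c30)) = (LP (LK LD1_c3 LD2_c28 LD3_c20)) :=
  Lre_g IH (LK LD1_c1 LD2_c53 LD3_c30) (LK LD1_c3 LD2_c28 LD3_c20) Lrfl Lrfl
theorem f109131 : Led Lsl_ct (LP (LK LD1_c3 LD2_c1 LD3_c33)) = (LP (LK LD1_c1 LD2_c53 LD3_c30)) :=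
  Lgr Lrot64 (Lpe (f87530 IH) (Lpr_gf (f109127 IH) (Lpr_bf (f95825 IH) (Lpr_ct (f95763 IH) (Lpe (f85361 IH) (Lpe (f85317 IH) (Lpe (f18010 IH) (Lpr_bf (f85653 IH) (Lpr_ct (f85296 IH) (Lpe (f85662 IH) (Lpn (LP (LK LD1_c1 LD2_c53 LD3_c30)))))))))))))
theorem f94364 : Led Lsl_ct (LP (LK LD1_c0 LD2_c22 LD3_c10)) = (LP (LK LD1_c0 LD2_c49 LD3_c30)) :=
  Lre_c IH (LK LD1_c0 LD2_c22 LD3_c10) (LK LD1_c0 LD2_c49 LD3_c30) Lrfl Lrfl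
theorem f94374 : Led Lsl_gt (LP (LK LD1_c0 LD2_c49 LD3_c29)) = (LP (LK LD1_c1 LD2_c35 LD3_c51)) :=
  Lgr Lrot82 (Lpe (f94365 IH) (Lpr_ct (f94364 IH) (Lpe (f94361 IH) (Lpr_cf (K2.f94368 IH) (Lpr_bt (K2.f10009 IH) (Lpe (f84301 IH) (Lpe (f11090 IH) (Lpr_ct (f12640 IH) (Lpe (f84302 IH) (Lpe (f84307 IH) (Lpn (LP (LK LD1_c1 LD2_c35 LD3_c51)))))))))))))
theorem f109137 : Led Lsl_gf (LP (LK LD1_c3 LD2_c1 LD3_c33)) = (LP (LK LD1_c1 LD2_c44 LD3_c2)) :=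
  Lgr Lrot147 (Lpr_ct (f109131 IH) (Lpr_gt (f85662 IH) (Lpr_ct (f85304 IH) (Lpe (f18009 IH) (Lpe (f58172 IH) (Lpe (f84302 IH) (Lpe (f84307 IH) (Lpe (f94374 IH) (Lpr_df (f106677 IH) (Lpn (LP (LK LD1_c1 LD2_c44 LD3_c2))))))))))))
theorem f106444 : Led Lsl_bt (LP (LK LD1_c0 LD2_c48 LD3_c36)) = (LP (LK LD1_c1 LD2_c44 LD3_c2)) :=
  Lre_b IH (LK LD1_c0 LD2_c48 LD3_c36) (LK LD1_c1 LD2_c44 LD3_c2) Lrfl Lrfl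
theorem f106445 : Led Lsl_ft (LP (LK LD1_c1 LD2_c44 LD3_c2)) = (LP (LK LD1_c1 LD2_c44 LD3_c52)) :=
  Lgr Lrot75 (Lpe (f106444 IH) (Lpr_ff (f106442 IH) (Lpe (f86690 IH) (Lpn (LP (LK LD1_c1 LD2_c44 LD3_c52))))))
theorem f109140 : Led Lsl_gt (LP (LK LD1_c3 LD2_c1 LD3_c33)) = (LP (LK LD1_c3 LD2_c35 LD3_c56)) :=
  Lgr Lrot46 (Lpr_gf (f109137 IH) (Lpr_ft (f106445 IH) (Lpr_at (f86689 IH) (Lpn (LP (LK LD1_c3 LD2_c35 LD3_c56))))))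
theorem f105621 : Led Lsl_ef (LP (LK LD1_c0 LD2_c21 LD3_c33)) = (LP (LK LD1_c0 LD2_c22 LD3_c22)) :=
  Lgr Lrot28 (Lpr_ct (K2.f10787 IH) (Lpr_et (f105617 IH) (Lpr_ct (f5392 IH) (Lpn (LP (LK LD1_c0 LD2_c22 LD3_c22))))))
theorem f106328 : Led Lsl_dt (LP (LK LD1_c1 LD2_c44 LD3_c49)) = (LP (LK LD1_c3 LD2_c35 LD3_c56)) :=
  Lre_d IH (LK LD1_c1 LD2_c44 LD3_c49) (LK LD1_c3 LD2_c35 LD3_c56) Lrfl Lrfl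
theorem f106331 : Led Lsl_et (LP (LK LD1_c1 LD2_c44 LD3_c49)) = (LP (LK LD1_c0 LD2_c49 LD3_c4)) :=
  Lre_e IH (LK LD1_c1 LD2_c44 LD3_c49) (LK LD1_c0 LD2_c49 LD3_c4) Lrfl Lrfl
theorem f109148 : Led Lsl_gf (LP (LK LD1_c0 LD2_c40 LD3_c14)) = (LP (LK LD1_c0 LD2_c49 LD3_c4)) :=
  Lgr Lrot138 (Lpr_dt (K2.f62678 IH) (Lpe (f89682 IH) (Lpe (f97308 IH) (Lpe (f105621 IH) (Lpr_gt (f84694 IH) (Lpe (K2.f84714 IH) (Lpr_dt (f84715 IH) (Lpr_gt (f109140 IH) (Lpe (f106328 IH) (Lpr_et (f106331 IH) (Lpn (LP (LK LD1_c0 LD2_c49 LD3_c4)))))))))))))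
theorem f21026 : Led Lsl_gt (LP (LK LD1_c0 LD2_c17 LD3_c57)) = (LP (LK LD1_c0 LD2_c39 LD3_c58)) :=
  Lre_g IH (LK LD1_c0 LD2_c17 LD3_c57) (LK LD1_c0 LD2_c39 LD3_c58) Lrfl Lrfl
theorem f87524 : Led Lsl_at (LP (LK LD1_c0 LD2_c21 LD3_c29)) = (LP (LK LD1_c0 LD2_c47 LD3_c57)) :=
  Lre_a IH (LK LD1_c0 LD2_c21 LD3_c29) (LK LD1_c0 LD2_c47 LD3_c57) Lrfl Lrfl
theorem f17775 : Led Lsl_at (LP (LK LD1_c0 LD2_c49 LD3_c4)) = (LP (LK LD1_c0 LD2_c22 LD3_c0)) :=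
  Lre_a IH (LK LD1_c0 LD2_c49 LD3_c4) (LK LD1_c0 LD2_c22 LD3_c0) Lrfl Lrfl
theorem f108191 : Led Lsl_bt (LP (LK LD1_c0 LD2_c47 LD3_c57)) = (LP (LK LD1_c0 LD2_c49 LD3_c4)) :=
  Lgr Lrot62 (Lpe (f87524 IH) (Lpe (K2.f84731 IH) (Lpr_af (f108187 IH) (Lpe (K0.f6102 IH) (Lpe (f17775 IH) (Lpn (LP (LK LD1_c0 LD2_c49 LD3_c4))))))))
theorem f109156 : Led Lsl_cf (LP (LK LD1_c0 LD2_c39 LD3_c58)) = (LP (LK LD1_c0 LD2_c47 LD3_c57)) :=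
  Lgr Lrot58 (Lpe (f21026 IH) (Lpe (K2.f21014 IH) (Lpr_bt (K2.f12705 IH) (Lpe (K0.f12697 IH) (Lpe (K2.f11387 IH) (Lpr_ct (K1.f12117 IH) (Lpe (K1.f21160 IH) (Lpe (K2.f18903 IH) (Lpr_gf (f109148 IH) (Lpe (f108191 IH) (Lpn (LP (LK LD1_c0 LD2_c47 LD3_c57)))))))))))))
theorem f82416 : Led Lsl_et (LP (LK LD1_c0 LD2_c39 LD3_c58)) = (LP (LK LD1_c1 LD2_c26 LD3_c24)) :=
  Lre_e IH (LK LD1_c0 LD2_c39 LD3_c58) (LK LD1_c1 LD2_c26 LD3_c24) Lrfl Lrfl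
theorem f95933 : Led Lsl_et (LP (LK LD1_c1 LD2_c42 LD3_c42)) = (LP (LK LD1_c0 LD2_c47 LD3_c57)) :=
  Lre_e IH (LK LD1_c1 LD2_c42 LD3_c42) (LK LD1_c0 LD2_c47 LD3_c57) Lrfl Lrfl
theorem f109164 : Led Lsl_ct (LP (LK LD1_c1 LD2_c26 LD3_c24)) = (LP (LK LD1_c1 LD2_c42 LD3_c42)) :=
  Lgr Lrot15 (Lpe (f82416 IH) (Lpr_cf (f109156 IH) (Lpe (f95933 IH) (Lpn (LP (LK LD1_c1 LD2_c42 LD3_c42))))))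
theorem f21009 : Led Lsl_gt (LP (LK LD1_c0 LD2_c18 LD3_c55)) = (LP (LK LD1_c0 LD2_c8 LD3_c30)) :=
  Lre_g IH (LK LD1_c0 LD2_c18 LD3_c55) (LK LD1_c0 LD2_c8 LD3_c30) Lrfl Lrfl
theorem f82408 : Led Lsl_ct (LP (LK LD1_c0 LD2_c42 LD3_c22)) = (LP (LK LD1_c0 LD2_c18 LD3_c55)) :=
  Lre_c IH (LK LD1_c0 LD2_c42 LD3_c22) (LK LD1_c0 LD2_c18 LD3_c55) Lrfl Lrfl
theorem f21023 : Led Lsl_bt (LP (LK LD1_c0 LD2_c8 LD3_c3)) = (LP (LK LD1_c0 LD2_c17 LD3_c57)) :=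
  Lre_b IH (LK LD1_c0 LD2_c8 LD3_c3) (LK LD1_c0 LD2_c17 LD3_c57) Lrfl Lrfl
theorem f82409 : Led Lsl_bt (LP (LK LD1_c0 LD2_c42 LD3_c22)) = (LP (LK LD1_c0 LD2_c39 LD3_c58)) :=
  Lgr Lrot92 (Lpr_ct (f82408 IH) (Lpr_gt (f21009 IH) (Lpr_cf (K2.f82388 IH) (Lpr_bt (K2.f26308 IH) (Lpe (K1.f61220 IH) (Lpr_ct (K1.f61007 IH) (Lpr_gt (K1.f20833 IH) (Lpr_cf (K0.f21004 IH) (Lpr_bt (f21023 IH) (Lpr_gt (f21026 IH) (Lpn (LP (LK LD1_c0 LD2_c39 LD3_c58)))))))))))))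
theorem f82415 : Led Lsl_et (LP (LK LD1_c1 LD2_c31 LD3_c39)) = (LP (LK LD1_c0 LD2_c42 LD3_c22)) :=
  Lre_e IH (LK LD1_c1 LD2_c31 LD3_c39) (LK LD1_c0 LD2_c42 LD3_c22) Lrfl Lrfl
theorem f82417 : Led Lsl_bf (LP (LK LD1_c1 LD2_c31 LD3_c39)) = (LP (LK LD1_c1 LD2_c26 LD3_c24)) :=
  Lgr Lrot96 (Lpr_et (f82415 IH) (Lpr_bt (f82409 IH) (Lpr_et (f82416 IH) (Lpn (LP (LK LD1_c1 LD2_c26 LD3_c24))))))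
theorem f86738 : Led Lsl_gt (LP (LK LD1_c1 LD2_c45 LD3_c58)) = (LP (LK LD1_c0 LD2_c49 LD3_c42)) :=
  Lre_g IH (LK LD1_c1 LD2_c45 LD3_c58) (LK LD1_c0 LD2_c49 LD3_c42) Lrfl Lrfl
theorem f107080 : Led Lsl_gt (LP (LK LD1_c1 LD2_c42 LD3_c42)) = (LP (LK LD1_c1 LD2_c45 LD3_c58)) :=
  Lgr Lrot5 (Lpe (f95934 IH) (Lpr_at (f107070 IH) (Lpe (f86738 IH) (Lpn (LP (LK LD1_c1 LD2_c45 LD3_c58))))))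
theorem f11113 : Led Lsl_ct (LP (LK LD1_c0 LD2_c21 LD3_c15)) = (LP (LK LD1_c0 LD2_c40 LD3_c22)) :=
  Lre_c IH (LK LD1_c0 LD2_c21 LD3_c15) (LK LD1_c0 LD2_c40 LD3_c22) Lrfl Lrfl
theorem f105771 : Led Lsl_bt (LP (LK LD1_c0 LD2_c22 LD3_c21)) = (LP (LK LD1_c0 LD2_c49 LD3_c42)) :=
  Lre_b IH (LK LD1_c0 LD2_c22 LD3_c21) (LK LD1_c0 LD2_c49 LD3_c42) Lrfl Lrfl
theorem f106717 : Led Lsl_bf (LP (LK LD1_c1 LD2_c45 LD3_c58)) = (LP (LK LD1_c1 LD2_c44 LD3_c51)) :=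
  Lgr Lrot156 (Lpr_gt (f86738 IH) (Lpe (f105771 IH) (Lpr_ct (f17995 IH) (Lpe (f105936 IH) (Lpr_cf (f105953 IH) (Lpr_bt (f85007 IH) (Lpr_gt (K2.f84990 IH) (Lpr_ct (f11113 IH) (Lpr_gt (f12162 IH) (Lpr_cf (f106709 IH) (Lpn (LP (LK LD1_c1 LD2_c44 LD3_c51)))))))))))))
theorem f106719 : Led Lsl_bt (LP (LK LD1_c1 LD2_c45 LD3_c58)) = (LP (LK LD1_c1 LD2_c44 LD3_c51)) :=
  Lgr Lrot127 (Lpr_bf (f106717 IH) (Lpn (LP (LK LD1_c1 LD2_c44 LD3_c51))))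
theorem f12431 : Led Lsl_ct (LP (LK LD1_c0 LD2_c50 LD3_c17)) = (LP (LK LD1_c0 LD2_c22 LD3_c44)) :=
  Lre_c IH (LK LD1_c0 LD2_c50 LD3_c17) (LK LD1_c0 LD2_c22 LD3_c44) Lrfl Lrfl
theorem f105734 : Led Lsl_bf (LP (LK LD1_c0 LD2_c49 LD3_c30)) = (LP (LK LD1_c0 LD2_c22 LD3_c44)) :=
  Lgr Lrot90 (Lpr_ct (f94360 IH) (Lpr_bt (f94365 IH) (Lpr_ct (f105732 IH) (Lpe (K1.f12414 IH) (Lpr_ct (f12431 IH) (Lpn (LP (LK LD1_c0 LD2_c22 LD3_c44))))))))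
theorem f12556 : Led Lsl_ct (LP (LK LD1_c0 LD2_c22 LD3_c44)) = (LP (LK LD1_c0 LD2_c50 LD3_c17)) :=
  Lre_c IH (LK LD1_c0 LD2_c22 LD3_c44) (LK LD1_c0 LD2_c50 LD3_c17) Lrfl Lrfl
theorem f12441 : Led Lsl_gt (LP (LK LD1_c1 LD2_c46 LD3_c60)) = (LP (LK LD1_c0 LD2_c50 LD3_c17)) :=
  Lre_g IH (LK LD1_c1 LD2_c46 LD3_c60) (LK LD1_c0 LD2_c50 LD3_c17) Lrfl Lrfl
theorem f106780 : Led Lsl_ct (LP (LK LD1_c1 LD2_c45 LD3_c58)) = (LP (LK LD1_c1 LD2_c46 LD3_c60)) :=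
  Lgr Lrot64 (Lpr_bt (f106719 IH) (Lpe (f17768 IH) (Lpe (f17705 IH) (Lpr_ct (K0.f17723 IH) (Lpe (f106715 IH) (Lpr_cf (f105953 IH) (Lpr_gf (f106773 IH) (Lpr_bf (f105734 IH) (Lpr_ct (f12556 IH) (Lpe (f12441 IH) (Lpn (LP (LK LD1_c1 LD2_c46 LD3_c60)))))))))))))
theorem f106784 : Led Lsl_cf (LP (LK LD1_c1 LD2_c45 LD3_c58)) = (LP (LK LD1_c1 LD2_c46 LD3_c60)) :=
  Lgr Lrot11 (Lpr_ct (f106780 IH) (Lpn (LP (LK LD1_c1 LD2_c46 LD3_c60))))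
theorem f86145 : Led Lsl_ct (LP (LK LD1_c1 LD2_c32 LD3_c15)) = (LP (LK LD1_c3 LD2_c2 LD3_c26)) :=
  Lgr Lrot59 (Lpr_cf (f86063 IH) (Lpn (LP (LK LD1_c3 LD2_c2 LD3_c26))))
theorem f106782 : Led Lsl_bf (LP (LK LD1_c1 LD2_c32 LD3_c15)) = (LP (LK LD1_c1 LD2_c46 LD3_c60)) :=
  Lgr Lrot90 (Lpr_ct (f86145 IH) (Lpr_bt (f85008 IH) (Lpr_ct (f106707 IH) (Lpe (f106717 IH) (Lpr_ct (f106780 IH) (Lpn (LP (LK LD1_c1 LD2_c46 LD3_c60))))))))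
theorem f67366 : Led Lsl_ff (LP (LK LD1_c0 LD2_c41 LD3_c19)) = (LP (LK LD1_c0 LD2_c42 LD3_c41)) :=
  Lgr Lrot25 (Lpr_bt (K2.f25056 IH) (Lpr_ft (K1.f67363 IH) (Lpr_bt (K2.f67355 IH) (Lpn (LP (LK LD1_c0 LD2_c42 LD3_c41))))))
theorem f79389 : Led Lsl_gt (LP (LK LD1_c0 LD2_c42 LD3_c41)) = (LP (LK LD1_c1 LD2_c29 LD3_c14)) :=
  Lgr Lrot5 (Lpe (f67366 IH) (Lpr_at (K2.f25075 IH) (Lpr_gf (f79387 IH) (Lpn (LP (LK LD1_c1 LD2_c29 LD3_c14))))))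
theorem f77856 : Led Lsl_ct (LP (LK LD1_c3 LD2_c6 LD3_c15)) = (LP (LK LD1_c1 LD2_c29 LD3_c14)) :=
  Lre_c IH (LK LD1_c3 LD2_c6 LD3_c15) (LK LD1_c1 LD2_c29 LD3_c14) Lrfl Lrfl
theorem f109182 : Led Lsl_gf (LP (LK LD1_c1 LD2_c31 LD3_c39)) = (LP (LK LD1_c3 LD2_c1 LD3_c38)) :=
  Lgr Lrot124 (Lpr_bf (f82417 IH) (Lpr_ct (f109164 IH) (Lpr_gt (f107080 IH) (Lpr_cf (f106784 IH) (Lpe (f106782 IH) (Lpr_gt (f67365 IH) (Lpr_ct (K2.f67357 IH) (Lpr_gt (f79389 IH) (Lpe (f77856 IH) (Lpr_bt (K2.f77854 IH) (Lpn (LP (LK LD1_c3 LD2_c1 LD3_c38)))))))))))))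
theorem f82435 : Led Lsl_ct (LP (LK LD1_c0 LD2_c42 LD3_c24)) = (LP (LK LD1_c1 LD2_c31 LD3_c39)) :=
  Lre_c IH (LK LD1_c0 LD2_c42 LD3_c24) (LK LD1_c1 LD2_c31 LD3_c39) Lrfl Lrfl
theorem f82423 : Led Lsl_bt (LP (LK LD1_c0 LD2_c42 LD3_c24)) = (LP (LK LD1_c1 LD2_c31 LD3_c37)) :=
  Lre_b IH (LK LD1_c0 LD2_c42 LD3_c24) (LK LD1_c1 LD2_c31 LD3_c37) Lrfl Lrfl
theorem f78263 : Led Lsl_bt (LP (LK LD1_c0 LD2_c43 LD3_c46)) = (LP (LK LD1_c1 LD2_c7 LD3_c28)) :=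
  Lre_b IH (LK LD1_c0 LD2_c43 LD3_c46) (LK LD1_c1 LD2_c7 LD3_c28) Lrfl Lrfl
theorem f64504 : Led Lsl_gt (LP (LK LD1_c0 LD2_c47 LD3_c32)) = (LP (LK LD1_c0 LD2_c23 LD3_c14)) :=
  Lre_g IH (LK LD1_c0 LD2_c47 LD3_c32) (LK LD1_c0 LD2_c23 LD3_c14) Lrfl Lrfl
theorem f109186 : Led Lsl_gt (LP (LK LD1_c1 LD2_c31 LD3_c37)) = (LP (LK LD1_c1 LD2_c42 LD3_c5)) :=
  Lgr Lrot82 (Lpe (f82423 IH) (Lpr_ct (f82435 IH) (Lpr_gf (f109182 IH) (Lpe (K2.f77878 IH) (Lpr_bt (K2.f77888 IH) (Lpe (f78253 IH) (Lpe (f78263 IH) (Lpr_ct (f64502 IH) (Lpe (f64504 IH) (Lpe (f57557 IH) (Lpn (LP (LK LD1_c1 LD2_c42 LD3_c5)))))))))))))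
theorem f109194 : Led Lsl_et (LP (LK LD1_c0 LD2_c42 LD3_c21)) = (LP (LK LD1_c1 LD2_c31 LD3_c37)) :=
  Lre_e IH (LK LD1_c0 LD2_c42 LD3_c21) (LK LD1_c1 LD2_c31 LD3_c37) Lrfl Lrfl
theorem f88838 : Led Lsl_dt (LP (LK LD1_c1 LD2_c41 LD3_c7)) = (LP (LK LD1_c3 LD2_c28 LD3_c46)) :=
  Lre_d IH (LK LD1_c1 LD2_c41 LD3_c7) (LK LD1_c3 LD2_c28 LD3_c46) Lrfl Lrfl
theorem f64511 : Led Lsl_dt (LP (LK LD1_c0 LD2_c40 LD3_c22)) = (LP (LK LD1_c1 LD2_c27 LD3_c12)) :=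
  Lre_d IH (LK LD1_c0 LD2_c40 LD3_c22) (LK LD1_c1 LD2_c27 LD3_c12) Lrfl Lrfl
theorem f64512 : Led Lsl_ct (LP (LK LD1_c3 LD2_c2 LD3_c28)) = (LP (LK LD1_c1 LD2_c27 LD3_c12)) :=
  Lre_c IH (LK LD1_c3 LD2_c2 LD3_c28) (LK LD1_c1 LD2_c27 LD3_c12) Lrfl Lrfl
theorem f105646 : Led Lsl_gf (LP (LK LD1_c3 LD2_c28 LD3_c22)) = (LP (LK LD1_c1 LD2_c49 LD3_c41)) :=
  Lgr Lrot147 (Lpe (f90614 IH) (Lpr_gt (f85010 IH) (Lpr_ct (f64512 IH) (Lpe (f64511 IH) (Lpe (f11113 IH) (Lpe (K2.f84990 IH) (Lpe (f85006 IH) (Lpr_gf (f105642 IH) (Lpe (K1.f12433 IH) (Lpn (LP (LK LD1_c1 LD2_c49 LD3_c41))))))))))))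
theorem f89116 : Led Lsl_at (LP (LK LD1_c1 LD2_c41 LD3_c6)) = (LP (LK LD1_c3 LD2_c28 LD3_c22)) :=
  Lre_a IH (LK LD1_c1 LD2_c41 LD3_c6) (LK LD1_c3 LD2_c28 LD3_c22) Lrfl Lrfl
theorem f88995 : Led Lsl_ft (LP (LK LD1_c3 LD2_c28 LD3_c46)) = (LP (LK LD1_c1 LD2_c41 LD3_c6)) :=
  Lre_f IH (LK LD1_c3 LD2_c28 LD3_c46) (LK LD1_c1 LD2_c41 LD3_c6) Lrfl Lrfl
theorem f105648 : Led Lsl_gt (LP (LK LD1_c3 LD2_c28 LD3_c46)) = (LP (LK LD1_c1 LD2_c49 LD3_c41)) :=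
  Lgr Lrot5 (Lpr_ft (f88995 IH) (Lpr_at (f89116 IH) (Lpr_gf (f105646 IH) (Lpn (LP (LK LD1_c1 LD2_c49 LD3_c41))))))
theorem f12551 : Led Lsl_dt (LP (LK LD1_c0 LD2_c51 LD3_c41)) = (LP (LK LD1_c1 LD2_c49 LD3_c41)) :=
  Lre_d IH (LK LD1_c0 LD2_c51 LD3_c41) (LK LD1_c1 LD2_c49 LD3_c41) Lrfl Lrfl
theorem f65668 : Led Lsl_gt (LP (LK LD1_c0 LD2_c23 LD3_c34)) = (LP (LK LD1_c0 LD2_c51 LD3_c46)) :=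
  Lre_g IH (LK LD1_c0 LD2_c23 LD3_c34) (LK LD1_c0 LD2_c51 LD3_c46) Lrfl Lrfl
theorem f109196 : Led Lsl_dt (LP (LK LD1_c0 LD2_c42 LD3_c21)) = (LP (LK LD1_c0 LD2_c51 LD3_c46)) :=
  Lgr Lrot56 (Lpr_et (f109194 IH) (Lpr_gt (f109186 IH) (Lpe (f88830 IH) (Lpr_dt (f88838 IH) (Lpr_gt (f105648 IH) (Lpe (f12551 IH) (Lpr_et (f12558 IH) (Lpr_gt (K1.f5250 IH) (Lpr_dt (K1.f12416 IH) (Lpr_gt (f65668 IH) (Lpn (LP (LK LD1_c0 LD2_c51 LD3_c46)))))))))))))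
theorem f65669 : Led Lsl_ct (LP (LK LD1_c0 LD2_c51 LD3_c46)) = (LP (LK LD1_c1 LD2_c49 LD3_c51)) :=
  Lre_c IH (LK LD1_c0 LD2_c51 LD3_c46) (LK LD1_c1 LD2_c49 LD3_c51) Lrfl Lrfl
theorem f18896 : Led Lsl_dt (LP (LK LD1_c1 LD2_c26 LD3_c39)) = (LP (LK LD1_c0 LD2_c40 LD3_c7)) :=
  Lre_d IH (LK LD1_c1 LD2_c26 LD3_c39) (LK LD1_c0 LD2_c40 LD3_c7) Lrfl Lrfl
theorem f96045 : Led Lsl_dt (LP (LK LD1_c3 LD2_c1 LD3_c50)) = (LP (LK LD1_c1 LD2_c26 LD3_c59)) :=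
  Lre_d IH (LK LD1_c3 LD2_c1 LD3_c50) (LK LD1_c1 LD2_c26 LD3_c59) Lrfl Lrfl
theorem f92648 : Led Lsl_gt (LP (LK LD1_c1 LD2_c50 LD3_c4)) = (LP (LK LD1_c0 LD2_c52 LD3_c8)) :=
  Lgr Lrot146 (Lpe (f92646 IH) (Lpr_gt (f92644 IH) (Lpr_ct (K2.f84982 IH) (Lpr_gt (K2.f11526 IH) (Lpr_ct (K0.f11541 IH) (Lpr_dt (f64184 IH) (Lpe (K2.f65194 IH) (Lpe (K1.f64617 IH) (Lpr_cf (f65228 IH) (Lpn (LP (LK LD1_c0 LD2_c52 LD3_c8))))))))))))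
theorem f62948 : Led Lsl_gt (LP (LK LD1_c0 LD2_c51 LD3_c46)) = (LP (LK LD1_c0 LD2_c23 LD3_c25)) :=
  Lre_g IH (LK LD1_c0 LD2_c51 LD3_c46) (LK LD1_c0 LD2_c23 LD3_c25) Lrfl Lrfl
theorem f65257 : Led Lsl_ct (LP (LK LD1_c1 LD2_c49 LD3_c51)) = (LP (LK LD1_c0 LD2_c51 LD3_c46)) :=
  Lre_c IH (LK LD1_c1 LD2_c49 LD3_c51) (LK LD1_c0 LD2_c51 LD3_c46) Lrfl Lrfl
theorem f96064 : Led Lsl_gt (LP (LK LD1_c1 LD2_c26 LD3_c59)) = (LP (LK LD1_c1 LD2_c49 LD3_c51)) :=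
  Lgr Lrot9 (Lpe (f96045 IH) (Lpr_gt (f96057 IH) (Lpr_ct (f93394 IH) (Lpr_gt (f92648 IH) (Lpe (f65228 IH) (Lpr_df (K1.f65236 IH) (Lpe (K1.f62863 IH) (Lpe (f62948 IH) (Lpe (f65257 IH) (Lpn (LP (LK LD1_c1 LD2_c49 LD3_c51))))))))))))
theorem f96190 : Led Lsl_df (LP (LK LD1_c3 LD2_c16 LD3_c46)) = (LP (LK LD1_c1 LD2_c49 LD3_c51)) :=
  Lgr Lrot153 (Lpr_gt (f96188 IH) (Lpr_dt (f61998 IH) (Lpe (f66006 IH) (Lpe (f61954 IH) (Lpe (K2.f18902 IH) (Lpe (f18896 IH) (Lpe (f18897 IH) (Lpe (f64912 IH) (Lpr_gt (f96064 IH) (Lpn (LP (LK LD1_c1 LD2_c49 LD3_c51))))))))))))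
theorem f92352 : Led Lsl_ct (LP (LK LD1_c0 LD2_c51 LD3_c51)) = (LP (LK LD1_c0 LD2_c48 LD3_c7)) :=
  Lgr Lrot59 (Lpr_cf (K2.f92345 IH) (Lpn (LP (LK LD1_c0 LD2_c48 LD3_c7))))
theorem f94643 : Led Lsl_cf (LP (LK LD1_c1 LD2_c39 LD3_c20)) = (LP (LK LD1_c0 LD2_c51 LD3_c52)) :=
  Lgr Lrot166 (Lpr_gt (f94339 IH) (Lpr_dt (K2.f94332 IH) (Lpr_gt (K2.f94624 IH) (Lpe (K0.f17458 IH) (Lpr_ct (K0.f17303 IH) (Lpr_df (f92646 IH) (Lpe (f87187 IH) (Lpe (f65698 IH) (Lpe (f65699 IH) (Lpn (LP (LK LD1_c0 LD2_c51 LD3_c52))))))))))))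
theorem f64907 : Led Lsl_gf (LP (LK LD1_c0 LD2_c52 LD3_c51)) = (LP (LK LD1_c1 LD2_c52 LD3_c2)) :=
  Lgr Lrot47 (Lpr_gt (K1.f64905 IH) (Lpe (K1.f63135 IH) (Lpr_ff (K1.f63136 IH) (Lpn (LP (LK LD1_c1 LD2_c52 LD3_c2))))))
theorem f109152 : Led Lsl_dt (LP (LK LD1_c1 LD2_c39 LD3_c20)) = (LP (LK LD1_c0 LD2_c49 LD3_c4)) :=
  Lgr Lrot57 (Lpr_gf (f103566 IH) (Lpe (f103582 IH) (Lpr_gt (K1.f18885 IH) (Lpr_dt (f63119 IH) (Lpe (f64907 IH) (Lpr_dt (f12208 IH) (Lpe (K0.f12193 IH) (Lpe (K2.f62678 IH) (Lpr_gf (f109148 IH) (Lpn (LP (LK LD1_c0 LD2_c49 LD3_c4))))))))))))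
theorem f109200 : Led Lsl_cf (LP (LK LD1_c0 LD2_c42 LD3_c21)) = (LP (LK LD1_c0 LD2_c49 LD3_c4)) :=
  Lgr Lrot55 (Lpr_dt (f109196 IH) (Lpr_ct (f65669 IH) (Lpe (f96190 IH) (Lpe (f94132 IH) (Lpr_dt (f89125 IH) (Lpr_ct (f92352 IH) (Lpr_dt (f84708 IH) (Lpr_ct (K2.f10787 IH) (Lpr_dt (f87573 IH) (Lpr_ct (f62932 IH) (Lpe (f96089 IH) (Lpr_ct (f96116 IH) (Lpr_dt (f65700 IH) (Lpe (f94643 IH) (Lpr_dt (f109152 IH) (Lpn (LP (LK LD1_c0 LD2_c49 LD3_c4))))))))))))))))))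
theorem f109212 : Led Lsl_gf (LP (LK LD1_c0 LD2_c49 LD3_c4)) = (LP (LK LD1_c0 LD2_c40 LD3_c10)) :=
  Lgr Lrot172 (Lpe (f109200 IH) (Lpr_dt (f109196 IH) (Lpe (f65257 IH) (Lpe (f96064 IH) (Lpe (f23037 IH) (Lpe (f23036 IH) (Lpr_dt (f12750 IH) (Lpr_gt (K1.f7106 IH) (Lpr_ct (K2.f21011 IH) (Lpn (LP (LK LD1_c0 LD2_c40 LD3_c10))))))))))))
theorem f61709 : Led Lsl_bt (LP (LK LD1_c0 LD2_c17 LD3_c61)) = (LP (LK LD1_c0 LD2_c40 LD3_c9)) :=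
  Lre_b IH (LK LD1_c0 LD2_c17 LD3_c61) (LK LD1_c0 LD2_c40 LD3_c9) Lrfl Lrfl
theorem f61671 : Led Lsl_gt (LP (LK LD1_c1 LD2_c26 LD3_c43)) = (LP (LK LD1_c0 LD2_c40 LD3_c9)) :=
  Lre_g IH (LK LD1_c1 LD2_c26 LD3_c43) (LK LD1_c0 LD2_c40 LD3_c9) Lrfl Lrfl
theorem f61672 : Led Lsl_bt (LP (LK LD1_c0 LD2_c8 LD3_c30)) = (LP (LK LD1_c0 LD2_c3 LD3_c53)) :=
  Lre_b IH (LK LD1_c0 LD2_c8 LD3_c30) (LK LD1_c0 LD2_c3 LD3_c53) Lrfl Lrfl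
theorem f61673 : Led Lsl_gt (LP (LK LD1_c0 LD2_c13 LD3_c33)) = (LP (LK LD1_c0 LD2_c30 LD3_c30)) :=
  Lre_g IH (LK LD1_c0 LD2_c13 LD3_c33) (LK LD1_c0 LD2_c30 LD3_c30) Lrfl Lrfl
theorem f61674 : Led Lsl_ct (LP (LK LD1_c1 LD2_c6 LD3_c38)) = (LP (LK LD1_c0 LD2_c30 LD3_c30)) :=
  Lre_c IH (LK LD1_c1 LD2_c6 LD3_c38) (LK LD1_c0 LD2_c30 LD3_c30) Lrfl Lrfl
theorem f61675 : Led Lsl_bf (LP (LK LD1_c1 LD2_c26 LD3_c43)) = (LP (LK LD1_c1 LD2_c6 LD3_c38)) :=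
  Lgr Lrot165 (Lpr_gt (f61671 IH) (Lpe (K2.f61669 IH) (Lpr_gt (K2.f25108 IH) (Lpr_cf (K2.f25088 IH) (Lpr_bt (K2.f25098 IH) (Lpr_gt (K1.f61633 IH) (Lpe (f61672 IH) (Lpe (K2.f26316 IH) (Lpr_gt (f61673 IH) (Lpe (f61674 IH) (Lpn (LP (LK LD1_c1 LD2_c6 LD3_c38)))))))))))))
theorem f21010 : Led Lsl_bt (LP (LK LD1_c0 LD2_c42 LD3_c21)) = (LP (LK LD1_c0 LD2_c18 LD3_c55)) :=
  Lre_b IH (LK LD1_c0 LD2_c42 LD3_c21) (LK LD1_c0 LD2_c18 LD3_c55) Lrfl Lrfl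
theorem f109220 : Led Lsl_cf (LP (LK LD1_c0 LD2_c49 LD3_c4)) = (LP (LK LD1_c0 LD2_c42 LD3_c21)) :=
  Lgr Lrot58 (Lpr_gf (f109212 IH) (Lpe (K2.f21011 IH) (Lpr_bt (f61709 IH) (Lpe (f61671 IH) (Lpr_bf (f61675 IH) (Lpr_ct (f61674 IH) (Lpe (f61673 IH) (Lpr_cf (K2.f26316 IH) (Lpe (f21009 IH) (Lpe (f21010 IH) (Lpn (LP (LK LD1_c0 LD2_c42 LD3_c21)))))))))))))
theorem f94226 : Led Lsl_bt (LP (LK LD1_c0 LD2_c46 LD3_c9)) = (LP (LK LD1_c0 LD2_c20 LD3_c46)) :=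
  Lre_b IH (LK LD1_c0 LD2_c46 LD3_c9) (LK LD1_c0 LD2_c20 LD3_c46) Lrfl Lrfl
theorem f94227 : Led Lsl_cf (LP (LK LD1_c0 LD2_c47 LD3_c23)) = (LP (LK LD1_c0 LD2_c46 LD3_c9)) :=
  Lgr Lrot160 (Lpr_gt (f11312 IH) (Lpe (K2.f4466 IH) (Lpr_bt (f4465 IH) (Lpr_gt (K0.f11297 IH) (Lpr_ct (K0.f12747 IH) (Lpr_gt (K0.f3943 IH) (Lpe (K0.f111 IH) (Lpr_bt (K1.f4464 IH) (Lpr_gt (K2.f94208 IH) (Lpe (f94226 IH) (Lpn (LP (LK LD1_c0 LD2_c46 LD3_c9)))))))))))))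
theorem f109154 : Led Lsl_df (LP (LK LD1_c1 LD2_c39 LD3_c20)) = (LP (LK LD1_c0 LD2_c49 LD3_c4)) :=
  Lgr Lrot155 (Lpr_gt (f94339 IH) (Lpe (f94227 IH) (Lpr_gt (f11312 IH) (Lpr_ct (f11310 IH) (Lpr_dt (K0.f17779 IH) (Lpe (K1.f12749 IH) (Lpe (K1.f21160 IH) (Lpe (K2.f18903 IH) (Lpr_gf (f109148 IH) (Lpn (LP (LK LD1_c0 LD2_c49 LD3_c4))))))))))))
theorem f109202 : Led Lsl_df (LP (LK LD1_c0 LD2_c42 LD3_c21)) = (LP (LK LD1_c0 LD2_c51 LD3_c46)) :=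
  Lgr Lrot38 (Lpr_dt (f109196 IH) (Lpn (LP (LK LD1_c0 LD2_c51 LD3_c46))))
theorem f12751 : Led Lsl_gt (LP (LK LD1_c0 LD2_c40 LD3_c18)) = (LP (LK LD1_c0 LD2_c18 LD3_c2)) :=
  Lre_g IH (LK LD1_c0 LD2_c40 LD3_c18) (LK LD1_c0 LD2_c18 LD3_c2) Lrfl Lrfl
theorem f63501 : Led Lsl_ct (LP (LK LD1_c1 LD2_c26 LD3_c61)) = (LP (LK LD1_c0 LD2_c40 LD3_c18)) :=
  Lre_c IH (LK LD1_c1 LD2_c26 LD3_c61) (LK LD1_c0 LD2_c40 LD3_c18) Lrfl Lrfl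
theorem f96194 : Led Lsl_gt (LP (LK LD1_c1 LD2_c49 LD3_c51)) = (LP (LK LD1_c1 LD2_c26 LD3_c61)) :=
  Lgr Lrot146 (Lpe (f96190 IH) (Lpr_gt (f96188 IH) (Lpr_ct (f84969 IH) (Lpr_gt (K1.f62675 IH) (Lpe (K2.f63375 IH) (Lpr_dt (f62004 IH) (Lpe (f59458 IH) (Lpe (f12751 IH) (Lpe (f63501 IH) (Lpn (LP (LK LD1_c1 LD2_c26 LD3_c61))))))))))))
theorem f63846 : Led Lsl_dt (LP (LK LD1_c1 LD2_c26 LD3_c61)) = (LP (LK LD1_c3 LD2_c1 LD3_c55)) :=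
  Lre_d IH (LK LD1_c1 LD2_c26 LD3_c61) (LK LD1_c3 LD2_c1 LD3_c55) Lrfl Lrfl
theorem f15608 : Led Lsl_ct (LP (LK LD1_c1 LD2_c34 LD3_c53)) = (LP (LK LD1_c0 LD2_c52 LD3_c61)) :=
  Lre_c IH (LK LD1_c1 LD2_c34 LD3_c53) (LK LD1_c0 LD2_c52 LD3_c61) Lrfl Lrfl
theorem f63816 : Led Lsl_ft (LP (LK LD1_c1 LD2_c35 LD3_c33)) = (LP (LK LD1_c0 LD2_c44 LD3_c20)) :=
  Lre_f IH (LK LD1_c1 LD2_c35 LD3_c33) (LK LD1_c0 LD2_c44 LD3_c20) Lrfl Lrfl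
theorem f63817 : Led Lsl_at (LP (LK LD1_c0 LD2_c44 LD3_c20)) = (LP (LK LD1_c1 LD2_c34 LD3_c53)) :=
  Lre_a IH (LK LD1_c0 LD2_c44 LD3_c20) (LK LD1_c1 LD2_c34 LD3_c53) Lrfl Lrfl
theorem f63818 : Led Lsl_gt (LP (LK LD1_c3 LD2_c1 LD3_c60)) = (LP (LK LD1_c1 LD2_c34 LD3_c53)) :=
  Lgr Lrot46 (Lpr_gf (f63805 IH) (Lpr_ft (f63816 IH) (Lpr_at (f63817 IH) (Lpn (LP (LK LD1_c1 LD2_c34 LD3_c53))))))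
theorem f58390 : Led Lsl_ct (LP (LK LD1_c3 LD2_c1 LD3_c22)) = (LP (LK LD1_c1 LD2_c26 LD3_c39)) :=
  Lre_c IH (LK LD1_c3 LD2_c1 LD3_c22) (LK LD1_c1 LD2_c26 LD3_c39) Lrfl Lrfl
theorem f58455 : Led Lsl_gt (LP (LK LD1_c1 LD2_c26 LD3_c39)) = (LP (LK LD1_c0 LD2_c40 LD3_c18)) :=
  Lre_g IH (LK LD1_c1 LD2_c26 LD3_c39) (LK LD1_c0 LD2_c40 LD3_c18) Lrfl Lrfl
theorem f58456 : Led Lsl_ct (LP (LK LD1_c0 LD2_c40 LD3_c18)) = (LP (LK LD1_c1 LD2_c26 LD3_c61)) :=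
  Lre_c IH (LK LD1_c0 LD2_c40 LD3_c18) (LK LD1_c1 LD2_c26 LD3_c61) Lrfl Lrfl
theorem f65104 : Led Lsl_cf (LP (LK LD1_c3 LD2_c1 LD3_c55)) = (LP (LK LD1_c1 LD2_c41 LD3_c38)) :=
  Lgr Lrot99 (Lpe (f63846 IH) (Lpe (f58456 IH) (Lpe (f58455 IH) (Lpe (f58390 IH) (Lpe (f58400 IH) (Lpe (f63804 IH) (Lpr_gt (f63818 IH) (Lpr_ct (f15608 IH) (Lpr_gt (K1.f65006 IH) (Lpn (LP (LK LD1_c1 LD2_c41 LD3_c38))))))))))))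
theorem f96230 : Led Lsl_df (LP (LK LD1_c1 LD2_c49 LD3_c51)) = (LP (LK LD1_c3 LD2_c16 LD3_c46)) :=
  Lgr Lrot153 (Lpr_gt (f96194 IH) (Lpr_dt (f63846 IH) (Lpr_cf (f65104 IH) (Lpe (K1.f18138 IH) (Lpe (K1.f4467 IH) (Lpe (K2.f11311 IH) (Lpe (K1.f64905 IH) (Lpr_cf (f64475 IH) (Lpr_gt (f64911 IH) (Lpn (LP (LK LD1_c3 LD2_c16 LD3_c46))))))))))))
theorem f108671 : Led Lsl_ff (LP (LK LD1_c1 LD2_c41 LD3_c24)) = (LP (LK LD1_c0 LD2_c51 LD3_c51)) :=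
  Lgr Lrot23 (Lpe (K0.f17780 IH) (Lpr_ft (f108669 IH) (Lpe (K2.f92345 IH) (Lpn (LP (LK LD1_c0 LD2_c51 LD3_c51))))))
theorem f109226 : Led Lsl_af (LP (LK LD1_c0 LD2_c51 LD3_c52)) = (LP (LK LD1_c1 LD2_c41 LD3_c24)) :=
  Lgr Lrot109 (Lpe (f94641 IH) (Lpr_df (f109154 IH) (Lpr_cf (f109220 IH) (Lpr_df (f109202 IH) (Lpe (f65257 IH) (Lpr_df (f96230 IH) (Lpe (f94139 IH) (Lpe (f88436 IH) (Lpe (f108671 IH) (Lpn (LP (LK LD1_c1 LD2_c41 LD3_c24))))))))))))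
theorem f96040 : Led Lsl_dt (LP (LK LD1_c3 LD2_c29 LD3_c25)) = (LP (LK LD1_c1 LD2_c43 LD3_c23)) :=
  Lgr Lrot57 (Lpe (f17798 IH) (Lpr_cf (f87808 IH) (Lpr_gt (f96036 IH) (Lpr_dt (f23276 IH) (Lpr_gt (f63820 IH) (Lpr_dt (f93444 IH) (Lpe (f93449 IH) (Lpe (K2.f63722 IH) (Lpe (f89680 IH) (Lpn (LP (LK LD1_c1 LD2_c43 LD3_c23))))))))))))
theorem f104104 : Led Lsl_cf (LP (LK LD1_c1 LD2_c41 LD3_c25)) = (LP (LK LD1_c1 LD2_c34 LD3_c24)) :=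
  Lgr Lrot166 (Lpr_gt (f63138 IH) (Lpr_dt (f17799 IH) (Lpr_gt (f17798 IH) (Lpr_dt (f96040 IH) (Lpr_ct (f12037 IH) (Lpe (f97308 IH) (Lpr_gf (f104100 IH) (Lpe (f62961 IH) (Lpe (f62962 IH) (Lpn (LP (LK LD1_c1 LD2_c34 LD3_c24))))))))))))
theorem f108750 : Led Lsl_at (LP (LK LD1_c1 LD2_c41 LD3_c25)) = (LP (LK LD1_c0 LD2_c51 LD3_c51)) :=
  Lgr Lrot107 (Lpr_cf (f104104 IH) (Lpr_af (f108677 IH) (Lpe (f92352 IH) (Lpn (LP (LK LD1_c0 LD2_c51 LD3_c51))))))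
theorem f109238 : Led Lsl_ft (LP (LK LD1_c0 LD2_c51 LD3_c52)) = (LP (LK LD1_c1 LD2_c41 LD3_c25)) :=
  Lgr Lrot101 (Lpr_af (f109226 IH) (Lpr_ff (f108671 IH) (Lpe (f108750 IH) (Lpn (LP (LK LD1_c1 LD2_c41 LD3_c25))))))
theorem f109247 : Led Lsl_ff (LP (LK LD1_c0 LD2_c51 LD3_c52)) = (LP (LK LD1_c1 LD2_c41 LD3_c25)) :=
  Lgr Lrot3 (Lpr_ft (f109238 IH) (Lpn (LP (LK LD1_c1 LD2_c41 LD3_c25))))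
theorem f93603 : Led Lsl_dt (LP (LK LD1_c0 LD2_c51 LD3_c52)) = (LP (LK LD1_c1 LD2_c49 LD3_c61)) :=
  Lre_d IH (LK LD1_c0 LD2_c51 LD3_c52) (LK LD1_c1 LD2_c49 LD3_c61) Lrfl Lrfl
theorem f109251 : Led Lsl_ft (LP (LK LD1_c1 LD2_c49 LD3_c61)) = (LP (LK LD1_c1 LD2_c51 LD3_c21)) :=
  Lgr Lrot54 (Lpe (f93603 IH) (Lpr_ff (f109247 IH) (Lpe (f64618 IH) (Lpn (LP (LK LD1_c1 LD2_c51 LD3_c21))))))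
theorem f109261 : Led Lsl_af (LP (LK LD1_c1 LD2_c49 LD3_c58)) = (LP (LK LD1_c1 LD2_c51 LD3_c21)) :=
  Lgr Lrot31 (Lpe (f89670 IH) (Lpe (f93593 IH) (Lpr_ft (f109251 IH) (Lpn (LP (LK LD1_c1 LD2_c51 LD3_c21))))))
theorem f92376 : Led Lsl_et (LP (LK LD1_c1 LD2_c49 LD3_c58)) = (LP (LK LD1_c3 LD2_c45 LD3_c43)) :=
  Lre_e IH (LK LD1_c1 LD2_c49 LD3_c58) (LK LD1_c3 LD2_c45 LD3_c43) Lrfl Lrfl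
theorem f64808 : Led Lsl_et (LP (LK LD1_c3 LD2_c48 LD3_c41)) = (LP (LK LD1_c1 LD2_c51 LD3_c21)) :=
  Lre_e IH (LK LD1_c3 LD2_c48 LD3_c41) (LK LD1_c1 LD2_c51 LD3_c21) Lrfl Lrfl
theorem f109270 : Led Lsl_at (LP (LK LD1_c3 LD2_c45 LD3_c43)) = (LP (LK LD1_c3 LD2_c48 LD3_c41)) :=
  Lgr Lrot80 (Lpe (f92376 IH) (Lpr_af (f109261 IH) (Lpe (f64808 IH) (Lpn (LP (LK LD1_c3 LD2_c48 LD3_c41))))))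
theorem f94141 : Led Lsl_et (LP (LK LD1_c6 LD2_c36 LD3_c53)) = (LP (LK LD1_c3 LD2_c16 LD3_c46)) :=
  Lre_e IH (LK LD1_c6 LD2_c36 LD3_c53) (LK LD1_c3 LD2_c16 LD3_c46) Lrfl Lrfl
theorem f94142 : Led Lsl_ct (LP (LK LD1_c3 LD2_c45 LD3_c43)) = (LP (LK LD1_c6 LD2_c36 LD3_c53)) :=
  Lgr Lrot15 (Lpe (f92376 IH) (Lpr_cf (f94132 IH) (Lpe (f94141 IH) (Lpn (LP (LK LD1_c6 LD2_c36 LD3_c53))))))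
theorem f94146 : Led Lsl_cf (LP (LK LD1_c3 LD2_c45 LD3_c43)) = (LP (LK LD1_c6 LD2_c36 LD3_c53)) :=
  Lgr Lrot11 (Lpr_ct (f94142 IH) (Lpn (LP (LK LD1_c6 LD2_c36 LD3_c53))))
theorem f96721 : Led Lsl_gf (LP (LK LD1_c0 LD2_c51 LD3_c49)) = (LP (LK LD1_c1 LD2_c33 LD3_c9)) :=
  Lgr Lrot76 (Lpe (f95982 IH) (Lpe (f95981 IH) (Lpr_gt (f96719 IH) (Lpn (LP (LK LD1_c1 LD2_c33 LD3_c9))))))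
theorem f95985 : Led Lsl_dt (LP (LK LD1_c0 LD2_c51 LD3_c49)) = (LP (LK LD1_c0 LD2_c23 LD3_c26)) :=
  Lre_d IH (LK LD1_c0 LD2_c51 LD3_c49) (LK LD1_c0 LD2_c23 LD3_c26) Lrfl Lrfl
theorem f104098 : Led Lsl_gf (LP (LK LD1_c0 LD2_c49 LD3_c47)) = (LP (LK LD1_c0 LD2_c23 LD3_c26)) :=
  Lgr Lrot143 (Lpr_dt (f26217 IH) (Lpr_cf (f103951 IH) (Lpe (f65990 IH) (Lpr_gf (f66120 IH) (Lpe (f62946 IH) (Lpr_gf (f96725 IH) (Lpr_cf (f65391 IH) (Lpe (f96721 IH) (Lpr_dt (f95985 IH) (Lpn (LP (LK LD1_c0 LD2_c23 LD3_c26))))))))))))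
theorem f85060 : Led Lsl_dt (LP (LK LD1_c0 LD2_c23 LD3_c26)) = (LP (LK LD1_c0 LD2_c51 LD3_c49)) :=
  Lre_d IH (LK LD1_c0 LD2_c23 LD3_c26) (LK LD1_c0 LD2_c51 LD3_c49) Lrfl Lrfl
theorem f95733 : Led Lsl_gf (LP (LK LD1_c1 LD2_c40 LD3_c59)) = (LP (LK LD1_c0 LD2_c51 LD3_c49)) :=
  Lgr Lrot47 (Lpr_gt (f95730 IH) (Lpe (f95713 IH) (Lpe (f95732 IH) (Lpn (LP (LK LD1_c0 LD2_c51 LD3_c49))))))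
theorem f65642 : Led Lsl_gt (LP (LK LD1_c1 LD2_c34 LD3_c30)) = (LP (LK LD1_c0 LD2_c43 LD3_c56)) :=
  Lre_g IH (LK LD1_c1 LD2_c34 LD3_c30) (LK LD1_c0 LD2_c43 LD3_c56) Lrfl Lrfl
theorem f107196 : Led Lsl_ct (LP (LK LD1_c1 LD2_c40 LD3_c59)) = (LP (LK LD1_c1 LD2_c34 LD3_c30)) :=
  Lgr Lrot152 (Lpr_gf (f95733 IH) (Lpe (f85060 IH) (Lpe (f104098 IH) (Lpr_ct (f5392 IH) (Lpr_gt (f107192 IH) (Lpr_ct (f14706 IH) (Lpe (K1.f65252 IH) (Lpe (K2.f65270 IH) (Lpe (f65642 IH) (Lpn (LP (LK LD1_c1 LD2_c34 LD3_c30))))))))))))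
theorem f65643 : Led Lsl_dt (LP (LK LD1_c1 LD2_c34 LD3_c30)) = (LP (LK LD1_c3 LD2_c15 LD3_c31)) :=
  Lre_d IH (LK LD1_c1 LD2_c34 LD3_c30) (LK LD1_c3 LD2_c15 LD3_c31) Lrfl Lrfl
theorem f104102 : Led Lsl_ct (LP (LK LD1_c1 LD2_c41 LD3_c25)) = (LP (LK LD1_c1 LD2_c34 LD3_c24)) :=
  Lgr Lrot8 (Lpr_gt (f63138 IH) (Lpr_dt (f17799 IH) (Lpr_gt (f17798 IH) (Lpr_dt (f96040 IH) (Lpe (f6669 IH) (Lpe (f97308 IH) (Lpr_gf (f104100 IH) (Lpe (f62961 IH) (Lpe (f62962 IH) (Lpn (LP (LK LD1_c1 LD2_c34 LD3_c24))))))))))))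
theorem f108679 : Led Lsl_ct (LP (LK LD1_c3 LD2_c15 LD3_c31)) = (LP (LK LD1_c1 LD2_c51 LD3_c21)) :=
  Lgr Lrot53 (Lpe (f65643 IH) (Lpe (f107196 IH) (Lpe (f17792 IH) (Lpr_cf (K0.f9930 IH) (Lpe (f17743 IH) (Lpr_ft (f108669 IH) (Lpe (f108677 IH) (Lpe (f104102 IH) (Lpe (f64618 IH) (Lpn (LP (LK LD1_c1 LD2_c51 LD3_c21))))))))))))
theorem f93560 : Led Lsl_et (LP (LK LD1_c6 LD2_c34 LD3_c20)) = (LP (LK LD1_c3 LD2_c15 LD3_c31)) :=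
  Lre_e IH (LK LD1_c6 LD2_c34 LD3_c20) (LK LD1_c3 LD2_c15 LD3_c31) Lrfl Lrfl
theorem f64630 : Led Lsl_et (LP (LK LD1_c1 LD2_c51 LD3_c21)) = (LP (LK LD1_c3 LD2_c48 LD3_c41)) :=
  Lre_e IH (LK LD1_c1 LD2_c51 LD3_c21) (LK LD1_c3 LD2_c48 LD3_c41) Lrfl Lrfl
theorem f108683 : Led Lsl_cf (LP (LK LD1_c6 LD2_c34 LD3_c20)) = (LP (LK LD1_c3 LD2_c48 LD3_c41)) :=
  Lgr Lrot39 (Lpr_et (f93560 IH) (Lpr_ct (f108679 IH) (Lpr_et (f64630 IH) (Lpn (LP (LK LD1_c3 LD2_c48 LD3_c41))))))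
theorem f109274 : Led Lsl_af (LP (LK LD1_c6 LD2_c36 LD3_c53)) = (LP (LK LD1_c6 LD2_c34 LD3_c20)) :=
  Lgr Lrot68 (Lpe (f94146 IH) (Lpr_at (f109270 IH) (Lpe (f108683 IH) (Lpn (LP (LK LD1_c6 LD2_c34 LD3_c20))))))
theorem f109319 : Led Lsl_at (LP (LK LD1_c6 LD2_c36 LD3_c53)) = (LP (LK LD1_c6 LD2_c34 LD3_c20)) :=
  Lgr Lrot100 (Lpr_af (f109274 IH) (Lpn (LP (LK LD1_c6 LD2_c34 LD3_c20))))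
theorem f94159 : Led Lsl_et (LP (LK LD1_c3 LD2_c16 LD3_c46)) = (LP (LK LD1_c6 LD2_c36 LD3_c53)) :=
  Lre_e IH (LK LD1_c3 LD2_c16 LD3_c46) (LK LD1_c6 LD2_c36 LD3_c53) Lrfl Lrfl
theorem f109321 : Led Lsl_af (LP (LK LD1_c3 LD2_c16 LD3_c46)) = (LP (LK LD1_c3 LD2_c15 LD3_c31)) :=
  Lgr Lrot50 (Lpr_et (f94159 IH) (Lpr_at (f109319 IH) (Lpr_et (f93560 IH) (Lpn (LP (LK LD1_c3 LD2_c15 LD3_c31))))))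
theorem f109327 : Led Lsl_ft (LP (LK LD1_c3 LD2_c16 LD3_c47)) = (LP (LK LD1_c3 LD2_c15 LD3_c31)) :=
  Lgr Lrot2 (Lpr_gt (f64477 IH) (Lpr_gt (f64911 IH) (Lpr_af (f109321 IH) (Lpn (LP (LK LD1_c3 LD2_c15 LD3_c31))))))
theorem f65644 : Led Lsl_dt (LP (LK LD1_c3 LD2_c15 LD3_c31)) = (LP (LK LD1_c1 LD2_c34 LD3_c30)) :=
  Lre_d IH (LK LD1_c3 LD2_c15 LD3_c31) (LK LD1_c1 LD2_c34 LD3_c30) Lrfl Lrfl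
theorem f109329 : Led Lsl_ff (LP (LK LD1_c1 LD2_c49 LD3_c49)) = (LP (LK LD1_c1 LD2_c34 LD3_c30)) :=
  Lgr Lrot19 (Lpe (f96089 IH) (Lpr_ft (f109327 IH) (Lpr_dt (f65644 IH) (Lpn (LP (LK LD1_c1 LD2_c34 LD3_c30))))))
theorem f109341 : Led Lsl_at (LP (LK LD1_c1 LD2_c49 LD3_c49)) = (LP (LK LD1_c1 LD2_c34 LD3_c29)) :=
  Lgr Lrot26 (Lpr_ff (f109329 IH) (Lpr_gt (f65642 IH) (Lpr_gt (f65389 IH) (Lpn (LP (LK LD1_c1 LD2_c34 LD3_c29))))))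
theorem f84711 : Led Lsl_at (LP (LK LD1_c0 LD2_c48 LD3_c5)) = (LP (LK LD1_c0 LD2_c21 LD3_c33)) :=
  Lre_a IH (LK LD1_c0 LD2_c48 LD3_c5) (LK LD1_c0 LD2_c21 LD3_c33) Lrfl Lrfl
theorem f108752 : Led Lsl_dt (LP (LK LD1_c1 LD2_c34 LD3_c24)) = (LP (LK LD1_c0 LD2_c48 LD3_c5)) :=
  Lgr Lrot44 (Lpr_af (f108677 IH) (Lpe (f84712 IH) (Lpe (f84711 IH) (Lpn (LP (LK LD1_c0 LD2_c48 LD3_c5))))))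
theorem f109343 : Led Lsl_cf (LP (LK LD1_c0 LD2_c47 LD3_c0)) = (LP (LK LD1_c0 LD2_c48 LD3_c5)) :=
  Lgr Lrot161 (Lpr_dt (f104344 IH) (Lpe (f65391 IH) (Lpe (f109341 IH) (Lpr_ff (f109329 IH) (Lpr_dt (f65643 IH) (Lpr_ct (f108679 IH) (Lpr_dt (f64618 IH) (Lpr_ct (f104102 IH) (Lpr_dt (f108752 IH) (Lpn (LP (LK LD1_c0 LD2_c48 LD3_c5))))))))))))
theorem f18906 : Led Lsl_gt (LP (LK LD1_c0 LD2_c21 LD3_c7)) = (LP (LK LD1_c0 LD2_c47 LD3_c0)) :=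
  Lre_g IH (LK LD1_c0 LD2_c21 LD3_c7) (LK LD1_c0 LD2_c47 LD3_c0) Lrfl Lrfl
theorem f21161 : Led Lsl_at (LP (LK LD1_c0 LD2_c48 LD3_c59)) = (LP (LK LD1_c0 LD2_c21 LD3_c59)) :=
  Lre_a IH (LK LD1_c0 LD2_c48 LD3_c59) (LK LD1_c0 LD2_c21 LD3_c59) Lrfl Lrfl
theorem f108199 : Led Lsl_at (LP (LK LD1_c0 LD2_c21 LD3_c33)) = (LP (LK LD1_c0 LD2_c48 LD3_c5)) :=
  Lre_a IH (LK LD1_c0 LD2_c21 LD3_c33) (LK LD1_c0 LD2_c48 LD3_c5) Lrfl Lrfl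
theorem f108200 : Led Lsl_bf (LP (LK LD1_c0 LD2_c48 LD3_c59)) = (LP (LK LD1_c0 LD2_c48 LD3_c5)) :=
  Lgr Lrot81 (Lpr_at (f21161 IH) (Lpr_bt (K2.f10303 IH) (Lpr_at (f108197 IH) (Lpr_bt (K2.f84693 IH) (Lpr_at (f108199 IH) (Lpn (LP (LK LD1_c0 LD2_c48 LD3_c5))))))))
theorem f109357 : Led Lsl_gf (LP (LK LD1_c0 LD2_c47 LD3_c56)) = (LP (LK LD1_c0 LD2_c48 LD3_c59)) :=
  Lgr Lrot124 (Lpr_bf (K2.f84733 IH) (Lpr_ct (K2.f12118 IH) (Lpr_gt (K1.f18905 IH) (Lpe (K1.f18891 IH) (Lpr_bt (f18879 IH) (Lpr_gt (K1.f18901 IH) (Lpr_ct (K1.f10768 IH) (Lpr_gt (f18906 IH) (Lpr_cf (f109343 IH) (Lpe (f108200 IH) (Lpn (LP (LK LD1_c0 LD2_c48 LD3_c59)))))))))))))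
theorem f9670 : Led Lsl_gt (LP (LK LD1_c0 LD2_c20 LD3_c10)) = (LP (LK LD1_c0 LD2_c45 LD3_c18)) :=
  Lre_g IH (LK LD1_c0 LD2_c20 LD3_c10) (LK LD1_c0 LD2_c45 LD3_c18) Lrfl Lrfl
theorem f104328 : Led Lsl_bt (LP (LK LD1_c1 LD2_c6 LD3_c0)) = (LP (LK LD1_c0 LD2_c45 LD3_c18)) :=
  Lgr Lrot92 (Lpr_ct (f104325 IH) (Lpr_gt (f20970 IH) (Lpr_cf (f104310 IH) (Lpr_bt (f25116 IH) (Lpr_gt (K0.f24960 IH) (Lpr_ct (K1.f25046 IH) (Lpr_gt (K0.f9668 IH) (Lpe (K0.f7365 IH) (Lpr_bt (f7369 IH) (Lpr_gt (f9670 IH) (Lpn (LP (LK LD1_c0 LD2_c45 LD3_c18)))))))))))))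
theorem f104330 : Led Lsl_bf (LP (LK LD1_c1 LD2_c6 LD3_c0)) = (LP (LK LD1_c0 LD2_c45 LD3_c18)) :=
  Lgr Lrot24 (Lpr_bt (f104328 IH) (Lpn (LP (LK LD1_c0 LD2_c45 LD3_c18))))
theorem f109380 : Led Lsl_ct (LP (LK LD1_c0 LD2_c45 LD3_c18)) = (LP (LK LD1_c0 LD2_c48 LD3_c59)) :=
  Lgr Lrot64 (Lpe (f104330 IH) (Lpr_gf (f104326 IH) (Lpe (K2.f77822 IH) (Lpr_ct (K2.f25114 IH) (Lpe (K2.f25053 IH) (Lpr_cf (K2.f25088 IH) (Lpe (K2.f25108 IH) (Lpe (K2.f25115 IH) (Lpe (K2.f87553 IH) (Lpr_gf (f109357 IH) (Lpn (LP (LK LD1_c0 LD2_c48 LD3_c59)))))))))))))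
theorem f108776 : Led Lsl_dt (LP (LK LD1_c0 LD2_c48 LD3_c59)) = (LP (LK LD1_c1 LD2_c44 LD3_c37)) :=
  Lre_d IH (LK LD1_c0 LD2_c48 LD3_c59) (LK LD1_c1 LD2_c44 LD3_c37) Lrfl Lrfl
theorem f108792 : Led Lsl_bt (LP (LK LD1_c0 LD2_c22 LD3_c50)) = (LP (LK LD1_c0 LD2_c50 LD3_c30)) :=
  Lre_b IH (LK LD1_c0 LD2_c22 LD3_c50) (LK LD1_c0 LD2_c50 LD3_c30) Lrfl Lrfl
theorem f108793 : Led Lsl_dt (LP (LK LD1_c0 LD2_c20 LD3_c38)) = (LP (LK LD1_c0 LD2_c22 LD3_c50)) :=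
  Lgr Lrot79 (Lpe (K2.f12661 IH) (Lpr_df (f108786 IH) (Lpe (f108792 IH) (Lpn (LP (LK LD1_c0 LD2_c22 LD3_c50))))))
theorem f109310 : Led Lsl_dt (LP (LK LD1_c1 LD2_c44 LD3_c37)) = (LP (LK LD1_c0 LD2_c48 LD3_c59)) :=
  Lre_d IH (LK LD1_c1 LD2_c44 LD3_c37) (LK LD1_c0 LD2_c48 LD3_c59) Lrfl Lrfl
theorem f109392 : Led Lsl_ct (LP (LK LD1_c0 LD2_c50 LD3_c33)) = (LP (LK LD1_c1 LD2_c44 LD3_c37)) :=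
  Lgr Lrot110 (Lpe (f11407 IH) (Lpe (f4462 IH) (Lpe (f4896 IH) (Lpe (f108793 IH) (Lpr_gt (K2.f12660 IH) (Lpr_ct (K2.f20019 IH) (Lpr_gt (f9670 IH) (Lpr_ct (f109380 IH) (Lpe (f109310 IH) (Lpn (LP (LK LD1_c1 LD2_c44 LD3_c37))))))))))))
theorem f109394 : Led Lsl_df (LP (LK LD1_c0 LD2_c20 LD3_c38)) = (LP (LK LD1_c0 LD2_c22 LD3_c50)) :=
  Lgr Lrot155 (Lpr_gt (K2.f12660 IH) (Lpr_ct (K2.f20019 IH) (Lpr_gt (f9670 IH) (Lpr_ct (f109380 IH) (Lpr_dt (f108776 IH) (Lpe (f109392 IH) (Lpe (f11407 IH) (Lpe (f4462 IH) (Lpe (f4896 IH) (Lpn (LP (LK LD1_c0 LD2_c22 LD3_c50))))))))))))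
theorem f84637 : Led Lsl_gf (LP (LK LD1_c0 LD2_c46 LD3_c2)) = (LP (LK LD1_c1 LD2_c39 LD3_c9)) :=
  Lgr Lrot181 (Lpr_ct (K2.f84591 IH) (Lpr_gt (K2.f12660 IH) (Lpr_cf (K2.f84628 IH) (Lpr_bt (K2.f20018 IH) (Lpr_gt (K0.f20956 IH) (Lpe (K0.f13624 IH) (Lpe (K0.f13627 IH) (Lpr_gt (K2.f13664 IH) (Lpe (K2.f13672 IH) (Lpr_bt (K2.f66759 IH) (Lpn (LP (LK LD1_c1 LD2_c39 LD3_c9)))))))))))))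
theorem f21171 : Led Lsl_dt (LP (LK LD1_c0 LD2_c21 LD3_c59)) = (LP (LK LD1_c0 LD2_c48 LD3_c60)) :=
  Lre_d IH (LK LD1_c0 LD2_c21 LD3_c59) (LK LD1_c0 LD2_c48 LD3_c60) Lrfl Lrfl
theorem f108816 : Led Lsl_ct (LP (LK LD1_c0 LD2_c50 LD3_c31)) = (LP (LK LD1_c0 LD2_c22 LD3_c50)) :=
  Lre_c IH (LK LD1_c0 LD2_c50 LD3_c31) (LK LD1_c0 LD2_c22 LD3_c50) Lrfl Lrfl
theorem f15800 : Led Lsl_et (LP (LK LD1_c0 LD2_c45 LD3_c45)) = (LP (LK LD1_c1 LD2_c38 LD3_c41)) :=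
  Lre_e IH (LK LD1_c0 LD2_c45 LD3_c45) (LK LD1_c1 LD2_c38 LD3_c41) Lrfl Lrfl
theorem f15802 : Led Lsl_bf (LP (LK LD1_c0 LD2_c45 LD3_c45)) = (LP (LK LD1_c0 LD2_c45 LD3_c45)) :=
  Lgr Lrot96 (Lpr_et (f15800 IH) (Lpr_bt (K2.f15779 IH) (Lpr_et (K2.f15801 IH) (Lpn (LP (LK LD1_c0 LD2_c45 LD3_c45))))))
theorem f12593 : Led Lsl_ct (LP (LK LD1_c0 LD2_c46 LD3_c20)) = (LP (LK LD1_c1 LD2_c39 LD3_c37)) :=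
  Lre_c IH (LK LD1_c0 LD2_c46 LD3_c20) (LK LD1_c1 LD2_c39 LD3_c37) Lrfl Lrfl
theorem f108818 : Led Lsl_ct (LP (LK LD1_c0 LD2_c22 LD3_c50)) = (LP (LK LD1_c0 LD2_c50 LD3_c31)) :=
  Lre_c IH (LK LD1_c0 LD2_c22 LD3_c50) (LK LD1_c0 LD2_c50 LD3_c31) Lrfl Lrfl
theorem f108819 : Led Lsl_gt (LP (LK LD1_c1 LD2_c39 LD3_c37)) = (LP (LK LD1_c0 LD2_c50 LD3_c31)) :=
  Lgr Lrot65 (Lpe (f12593 IH) (Lpr_bt (f12594 IH) (Lpe (K2.f90881 IH) (Lpr_bf (f15802 IH) (Lpr_ct (K2.f15851 IH) (Lpe (K2.f19152 IH) (Lpr_cf (f95324 IH) (Lpr_gf (f108796 IH) (Lpe (f108792 IH) (Lpr_ct (f108818 IH) (Lpn (LP (LK LD1_c0 LD2_c50 LD3_c31)))))))))))))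
theorem f109441 : Led Lsl_gt (LP (LK LD1_c0 LD2_c48 LD3_c60)) = (LP (LK LD1_c0 LD2_c46 LD3_c20)) :=
  Lgr Lrot9 (Lpe (f21171 IH) (Lpe (f87517 IH) (Lpe (K2.f12084 IH) (Lpe (f84637 IH) (Lpr_ct (K2.f84591 IH) (Lpr_df (f109394 IH) (Lpe (f108816 IH) (Lpe (f108819 IH) (Lpe (f12593 IH) (Lpn (LP (LK LD1_c0 LD2_c46 LD3_c20))))))))))))
theorem f108208 : Led Lsl_bt (LP (LK LD1_c0 LD2_c21 LD3_c61)) = (LP (LK LD1_c0 LD2_c48 LD3_c60)) :=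
  Lre_b IH (LK LD1_c0 LD2_c21 LD3_c61) (LK LD1_c0 LD2_c48 LD3_c60) Lrfl Lrfl
theorem f109094 : Led Lsl_at (LP (LK LD1_c0 LD2_c47 LD3_c19)) = (LP (LK LD1_c1 LD2_c41 LD3_c29)) :=
  Lre_a IH (LK LD1_c0 LD2_c47 LD3_c19) (LK LD1_c1 LD2_c41 LD3_c29) Lrfl Lrfl
theorem f109095 : Led Lsl_cf (LP (LK LD1_c1 LD2_c44 LD3_c42)) = (LP (LK LD1_c1 LD2_c41 LD3_c29)) :=
  Lgr Lrot1 (Lpr_at (f109088 IH) (Lpr_ct (f24950 IH) (Lpr_at (f109094 IH) (Lpn (LP (LK LD1_c1 LD2_c41 LD3_c29))))))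
theorem f94572 : Led Lsl_dt (LP (LK LD1_c1 LD2_c39 LD3_c27)) = (LP (LK LD1_c3 LD2_c25 LD3_c37)) :=
  Lre_d IH (LK LD1_c1 LD2_c39 LD3_c27) (LK LD1_c3 LD2_c25 LD3_c37) Lrfl Lrfl
theorem f12282 : Led Lsl_ct (LP (LK LD1_c1 LD2_c54 LD3_c27)) = (LP (LK LD1_c3 LD2_c55 LD3_c41)) :=
  Lre_c IH (LK LD1_c1 LD2_c54 LD3_c27) (LK LD1_c3 LD2_c55 LD3_c41) Lrfl Lrfl
theorem f97667 : Led Lsl_gt (LP (LK LD1_c3 LD2_c25 LD3_c37)) = (LP (LK LD1_c1 LD2_c54 LD3_c27)) :=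
  Lgr Lrot9 (Lpe (f94572 IH) (Lpr_gt (K2.f94532 IH) (Lpr_ct (K2.f94225 IH) (Lpe (K2.f94216 IH) (Lpr_ct (K2.f15851 IH) (Lpe (K1.f15859 IH) (Lpe (K1.f66665 IH) (Lpr_gf (f97662 IH) (Lpe (f12282 IH) (Lpn (LP (LK LD1_c1 LD2_c54 LD3_c27))))))))))))
theorem f97670 : Led Lsl_gf (LP (LK LD1_c1 LD2_c39 LD3_c27)) = (LP (LK LD1_c0 LD2_c46 LD3_c24)) :=
  Lgr Lrot144 (Lpr_dt (f94572 IH) (Lpr_gt (f97667 IH) (Lpr_dt (f11844 IH) (Lpe (K1.f11841 IH) (Lpe (K1.f64346 IH) (Lpe (K1.f12690 IH) (Lpr_df (K1.f18060 IH) (Lpr_gf (K2.f90883 IH) (Lpe (K2.f14602 IH) (Lpn (LP (LK LD1_c0 LD2_c46 LD3_c24))))))))))))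
theorem f109451 : Led Lsl_gf (LP (LK LD1_c1 LD2_c41 LD3_c29)) = (LP (LK LD1_c0 LD2_c47 LD3_c61)) :=
  Lgr Lrot181 (Lpe (f109095 IH) (Lpr_gt (f19355 IH) (Lpe (f5858 IH) (Lpr_bt (f108208 IH) (Lpr_gt (f109441 IH) (Lpe (f97679 IH) (Lpr_ct (f9799 IH) (Lpe (f97670 IH) (Lpr_cf (K2.f94610 IH) (Lpr_bt (K2.f92270 IH) (Lpn (LP (LK LD1_c0 LD2_c47 LD3_c61)))))))))))))
theorem f92302 : Led Lsl_et (LP (LK LD1_c0 LD2_c21 LD3_c30)) = (LP (LK LD1_c0 LD2_c48 LD3_c0)) :=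
  Lre_e IH (LK LD1_c0 LD2_c21 LD3_c30) (LK LD1_c0 LD2_c48 LD3_c0) Lrfl Lrfl
theorem f109462 : Led Lsl_df (LP (LK LD1_c1 LD2_c41 LD3_c29)) = (LP (LK LD1_c0 LD2_c49 LD3_c60)) :=
  Lgr Lrot168 (Lpr_gf (f109451 IH) (Lpe (K2.f84725 IH) (Lpr_et (f92302 IH) (Lpe (f106755 IH) (Lpe (f87163 IH) (Lpe (f84728 IH) (Lpe (f87159 IH) (Lpe (f5246 IH) (Lpr_gf (f94668 IH) (Lpe (K2.f85195 IH) (Lpn (LP (LK LD1_c0 LD2_c49 LD3_c60)))))))))))))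
theorem f109477 : Led Lsl_cf (LP (LK LD1_c1 LD2_c41 LD3_c29)) = (LP (LK LD1_c1 LD2_c44 LD3_c42)) :=
  Lgr Lrot14 (Lpr_df (f109462 IH) (Lpe (K2.f5754 IH) (Lpe (K0.f5711 IH) (Lpr_gf (f92520 IH) (Lpr_ct (K2.f11528 IH) (Lpe (f96329 IH) (Lpr_dt (f10462 IH) (Lpr_gt (f97376 IH) (Lpe (f98480 IH) (Lpn (LP (LK LD1_c1 LD2_c44 LD3_c42))))))))))))
theorem f98483 : Led Lsl_bt (LP (LK LD1_c1 LD2_c44 LD3_c42)) = (LP (LK LD1_c3 LD2_c35 LD3_c39)) :=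
  Lre_b IH (LK LD1_c1 LD2_c44 LD3_c42) (LK LD1_c3 LD2_c35 LD3_c39) Lrfl Lrfl
theorem f109485 : Led Lsl_gf (LP (LK LD1_c1 LD2_c44 LD3_c55)) = (LP (LK LD1_c3 LD2_c35 LD3_c39)) :=
  Lgr Lrot124 (Lpe (K2.f10764 IH) (Lpr_ct (K2.f10758 IH) (Lpr_gt (K0.f17956 IH) (Lpe (K2.f379 IH) (Lpr_bt (K2.f5341 IH) (Lpr_gt (K2.f5394 IH) (Lpr_ct (K2.f92287 IH) (Lpe (f109451 IH) (Lpr_cf (f109477 IH) (Lpr_bt (f98483 IH) (Lpn (LP (LK LD1_c3 LD2_c35 LD3_c39)))))))))))))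
theorem f10765 : Led Lsl_gt (LP (LK LD1_c1 LD2_c44 LD3_c55)) = (LP (LK LD1_c3 LD2_c36 LD3_c3)) :=
  Lre_g IH (LK LD1_c1 LD2_c44 LD3_c55) (LK LD1_c3 LD2_c36 LD3_c3) Lrfl Lrfl
theorem f94424 : Led Lsl_bt (LP (LK LD1_c3 LD2_c32 LD3_c14)) = (LP (LK LD1_c1 LD2_c42 LD3_c50)) :=
  Lre_b IH (LK LD1_c3 LD2_c32 LD3_c14) (LK LD1_c1 LD2_c42 LD3_c50) Lrfl Lrfl
theorem f109086 : Led Lsl_ft (LP (LK LD1_c3 LD2_c35 LD3_c39)) = (LP (LK LD1_c3 LD2_c32 LD3_c14)) :=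
  Lgr Lrot75 (Lpe (f98483 IH) (Lpr_ff (f109084 IH) (Lpe (f94424 IH) (Lpn (LP (LK LD1_c3 LD2_c32 LD3_c14))))))
theorem f109487 : Led Lsl_af (LP (LK LD1_c3 LD2_c36 LD3_c3)) = (LP (LK LD1_c3 LD2_c32 LD3_c14)) :=
  Lgr Lrot31 (Lpe (f10765 IH) (Lpr_gf (f109485 IH) (Lpr_ft (f109086 IH) (Lpn (LP (LK LD1_c3 LD2_c32 LD3_c14))))))
theorem f109494 : Led Lsl_et (LP (LK LD1_c3 LD2_c36 LD3_c3)) = (LP (LK LD1_c7 LD2_c12 LD3_c30)) :=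
  Lre_e IH (LK LD1_c3 LD2_c36 LD3_c3) (LK LD1_c7 LD2_c12 LD3_c30) Lrfl Lrfl
theorem f109495 : Led Lsl_et (LP (LK LD1_c7 LD2_c5 LD3_c33)) = (LP (LK LD1_c3 LD2_c32 LD3_c14)) :=
  Lre_e IH (LK LD1_c7 LD2_c5 LD3_c33) (LK LD1_c3 LD2_c32 LD3_c14) Lrfl Lrfl
theorem f109496 : Led Lsl_at (LP (LK LD1_c7 LD2_c12 LD3_c30)) = (LP (LK LD1_c7 LD2_c5 LD3_c33)) :=
  Lgr Lrot80 (Lpe (f109494 IH) (Lpr_af (f109487 IH) (Lpe (f109495 IH) (Lpn (LP (LK LD1_c7 LD2_c5 LD3_c33))))))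
theorem f109507 : Led Lsl_bt (LP (LK LD1_c7 LD2_c5 LD3_c33)) = (LP (LK LD1_c3 LD2_c32 LD3_c16)) :=
  Lre_b IH (LK LD1_c7 LD2_c5 LD3_c33) (LK LD1_c3 LD2_c32 LD3_c16) Lrfl Lrfl
theorem f94440 : Led Lsl_et (LP (LK LD1_c1 LD2_c42 LD3_c50)) = (LP (LK LD1_c3 LD2_c32 LD3_c16)) :=
  Lre_e IH (LK LD1_c1 LD2_c42 LD3_c50) (LK LD1_c3 LD2_c32 LD3_c16) Lrfl Lrfl
theorem f94492 : Led Lsl_et (LP (LK LD1_c1 LD2_c50 LD3_c17)) = (LP (LK LD1_c0 LD2_c51 LD3_c60)) :=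
  Lre_e IH (LK LD1_c1 LD2_c50 LD3_c17) (LK LD1_c0 LD2_c51 LD3_c60) Lrfl Lrfl
theorem f109104 : Led Lsl_at (LP (LK LD1_c3 LD2_c32 LD3_c16)) = (LP (LK LD1_c1 LD2_c50 LD3_c17)) :=
  Lgr Lrot80 (Lpe (f94440 IH) (Lpr_af (f109099 IH) (Lpe (f94492 IH) (Lpn (LP (LK LD1_c1 LD2_c50 LD3_c17))))))
theorem f109508 : Led Lsl_bt (LP (LK LD1_c1 LD2_c50 LD3_c17)) = (LP (LK LD1_c3 LD2_c46 LD3_c23)) :=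
  Lre_b IH (LK LD1_c1 LD2_c50 LD3_c17) (LK LD1_c3 LD2_c46 LD3_c23) Lrfl Lrfl
theorem f109509 : Led Lsl_at (LP (LK LD1_c3 LD2_c46 LD3_c23)) = (LP (LK LD1_c7 LD2_c33 LD3_c45)) :=
  Lre_a IH (LK LD1_c3 LD2_c46 LD3_c23) (LK LD1_c7 LD2_c33 LD3_c45) Lrfl Lrfl
theorem f109510 : Led Lsl_bf (LP (LK LD1_c7 LD2_c12 LD3_c30)) = (LP (LK LD1_c7 LD2_c33 LD3_c45)) :=
  Lgr Lrot81 (Lpr_at (f109496 IH) (Lpr_bt (f109507 IH) (Lpr_at (f109104 IH) (Lpr_bt (f109508 IH) (Lpr_at (f109509 IH) (Lpn (LP (LK LD1_c7 LD2_c33 LD3_c45))))))))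
theorem f109531 : Led Lsl_bt (LP (LK LD1_c7 LD2_c12 LD3_c30)) = (LP (LK LD1_c7 LD2_c33 LD3_c45)) :=
  Lgr Lrot127 (Lpr_bf (f109510 IH) (Lpn (LP (LK LD1_c7 LD2_c33 LD3_c45))))
theorem f109061 : Led Lsl_et (LP (LK LD1_c7 LD2_c33 LD3_c45)) = (LP (LK LD1_c3 LD2_c46 LD3_c21)) :=
  Lre_e IH (LK LD1_c7 LD2_c33 LD3_c45) (LK LD1_c3 LD2_c46 LD3_c21) Lrfl Lrfl
theorem f109542 : Led Lsl_bf (LP (LK LD1_c3 LD2_c36 LD3_c3)) = (LP (LK LD1_c3 LD2_c46 LD3_c21)) :=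
  Lgr Lrot96 (Lpr_et (f109494 IH) (Lpr_bt (f109531 IH) (Lpr_et (f109061 IH) (Lpn (LP (LK LD1_c3 LD2_c46 LD3_c21))))))
theorem f97131 : Led Lsl_bt (LP (LK LD1_c3 LD2_c35 LD3_c39)) = (LP (LK LD1_c1 LD2_c44 LD3_c42)) :=
  Lre_b IH (LK LD1_c3 LD2_c35 LD3_c39) (LK LD1_c1 LD2_c44 LD3_c42) Lrfl Lrfl
theorem f89662 : Led Lsl_bt (LP (LK LD1_c1 LD2_c41 LD3_c30)) = (LP (LK LD1_c3 LD2_c29 LD3_c31)) :=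
  Lre_b IH (LK LD1_c1 LD2_c41 LD3_c30) (LK LD1_c3 LD2_c29 LD3_c31) Lrfl Lrfl
theorem f10784 : Led Lsl_bt (LP (LK LD1_c0 LD2_c48 LD3_c9)) = (LP (LK LD1_c1 LD2_c42 LD3_c61)) :=
  Lre_b IH (LK LD1_c0 LD2_c48 LD3_c9) (LK LD1_c1 LD2_c42 LD3_c61) Lrfl Lrfl
theorem f10785 : Led Lsl_gt (LP (LK LD1_c1 LD2_c42 LD3_c61)) = (LP (LK LD1_c3 LD2_c32 LD3_c35)) :=
  Lre_g IH (LK LD1_c1 LD2_c42 LD3_c61) (LK LD1_c3 LD2_c32 LD3_c35) Lrfl Lrfl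
theorem f109023 : Led Lsl_bf (LP (LK LD1_c3 LD2_c32 LD3_c35)) = (LP (LK LD1_c7 LD2_c0 LD3_c42)) :=
  Lgr Lrot34 (Lpe (f10785 IH) (Lpe (f10784 IH) (Lpr_ct (f10780 IH) (Lpe (K2.f92342 IH) (Lpe (K2.f394 IH) (Lpr_gf (K2.f5800 IH) (Lpe (K2.f5396 IH) (Lpr_ct (K2.f94485 IH) (Lpr_gf (f109018 IH) (Lpe (f109007 IH) (Lpn (LP (LK LD1_c7 LD2_c0 LD3_c42)))))))))))))
theorem f109092 : Led Lsl_af (LP (LK LD1_c3 LD2_c35 LD3_c39)) = (LP (LK LD1_c3 LD2_c32 LD3_c35)) :=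
  Lgr Lrot36 (Lpr_bt (f97131 IH) (Lpr_at (f109088 IH) (Lpr_bt (f89662 IH) (Lpr_at (f109006 IH) (Lpe (f109023 IH) (Lpn (LP (LK LD1_c3 LD2_c32 LD3_c35))))))))
theorem f109498 : Led Lsl_ft (LP (LK LD1_c3 LD2_c36 LD3_c3)) = (LP (LK LD1_c3 LD2_c32 LD3_c35)) :=
  Lgr Lrot101 (Lpr_af (f109487 IH) (Lpe (f109086 IH) (Lpr_af (f109092 IH) (Lpn (LP (LK LD1_c3 LD2_c32 LD3_c35))))))
theorem f109032 : Led Lsl_at (LP (LK LD1_c3 LD2_c46 LD3_c21)) = (LP (LK LD1_c1 LD2_c50 LD3_c15)) :=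
  Lre_a IH (LK LD1_c3 LD2_c46 LD3_c21) (LK LD1_c1 LD2_c50 LD3_c15) Lrfl Lrfl
theorem f109033 : Led Lsl_ff (LP (LK LD1_c3 LD2_c46 LD3_c21)) = (LP (LK LD1_c7 LD2_c0 LD3_c42)) :=
  Lgr Lrot30 (Lpr_at (f109032 IH) (Lpr_ft (f109028 IH) (Lpr_at (f109006 IH) (Lpn (LP (LK LD1_c7 LD2_c0 LD3_c42))))))
theorem f109544 : Led Lsl_bt (LP (LK LD1_c3 LD2_c32 LD3_c35)) = (LP (LK LD1_c7 LD2_c0 LD3_c42)) :=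
  Lgr Lrot35 (Lpe (f109498 IH) (Lpr_bf (f109542 IH) (Lpr_ff (f109033 IH) (Lpn (LP (LK LD1_c7 LD2_c0 LD3_c42))))))
theorem f109504 : Led Lsl_et (LP (LK LD1_c7 LD2_c6 LD3_c4)) = (LP (LK LD1_c3 LD2_c32 LD3_c35)) :=
  Lre_e IH (LK LD1_c7 LD2_c6 LD3_c4) (LK LD1_c3 LD2_c32 LD3_c35) Lrfl Lrfl
theorem f109567 : Led Lsl_et (LP (LK LD1_c7 LD2_c0 LD3_c42)) = (LP (LK LD1_c13 LD2_c18 LD3_c4)) :=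
  Lre_e IH (LK LD1_c7 LD2_c0 LD3_c42) (LK LD1_c13 LD2_c18 LD3_c4) Lrfl Lrfl
theorem f109568 : Led Lsl_bf (LP (LK LD1_c7 LD2_c6 LD3_c4)) = (LP (LK LD1_c13 LD2_c18 LD3_c4)) :=
  Lgr Lrot96 (Lpr_et (f109504 IH) (Lpr_bt (f109544 IH) (Lpr_et (f109567 IH) (Lpn (LP (LK LD1_c13 LD2_c18 LD3_c4))))))
theorem f109572 : Led Lsl_bt (LP (LK LD1_c7 LD2_c6 LD3_c4)) = (LP (LK LD1_c13 LD2_c18 LD3_c4)) :=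
  Lgr Lrot127 (Lpr_bf (f109568 IH) (Lpn (LP (LK LD1_c13 LD2_c18 LD3_c4))))
theorem f109579 : Led Lsl_ct (LP (LK LD1_c13 LD2_c18 LD3_c4)) = (LP (LK LD1_c7 LD2_c0 LD3_c52)) :=
  Lre_c IH (LK LD1_c13 LD2_c18 LD3_c4) (LK LD1_c7 LD2_c0 LD3_c52) Lrfl Lrfl
theorem f108989 : Led Lsl_et (LP (LK LD1_c3 LD2_c45 LD3_c54)) = (LP (LK LD1_c1 LD2_c50 LD3_c2)) :=
  Lre_e IH (LK LD1_c3 LD2_c45 LD3_c54) (LK LD1_c1 LD2_c50 LD3_c2) Lrfl Lrfl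
theorem f109004 : Led Lsl_et (LP (LK LD1_c3 LD2_c29 LD3_c39)) = (LP (LK LD1_c7 LD2_c0 LD3_c52)) :=
  Lre_e IH (LK LD1_c3 LD2_c29 LD3_c39) (LK LD1_c7 LD2_c0 LD3_c52) Lrfl Lrfl
theorem f109016 : Led Lsl_bf (LP (LK LD1_c3 LD2_c45 LD3_c54)) = (LP (LK LD1_c7 LD2_c0 LD3_c52)) :=
  Lgr Lrot96 (Lpr_et (f108989 IH) (Lpr_bt (f109009 IH) (Lpr_et (f109004 IH) (Lpn (LP (LK LD1_c7 LD2_c0 LD3_c52))))))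
theorem f95503 : Led Lsl_ct (LP (LK LD1_c3 LD2_c45 LD3_c54)) = (LP (LK LD1_c7 LD2_c30 LD3_c46)) :=
  Lre_c IH (LK LD1_c3 LD2_c45 LD3_c54) (LK LD1_c7 LD2_c30 LD3_c46) Lrfl Lrfl
theorem f94704 : Led Lsl_et (LP (LK LD1_c3 LD2_c27 LD3_c17)) = (LP (LK LD1_c1 LD2_c40 LD3_c14)) :=
  Lre_e IH (LK LD1_c3 LD2_c27 LD3_c17) (LK LD1_c1 LD2_c40 LD3_c14) Lrfl Lrfl
theorem f95440 : Led Lsl_af (LP (LK LD1_c3 LD2_c27 LD3_c17)) = (LP (LK LD1_c3 LD2_c44 LD3_c59)) :=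
  Lgr Lrot50 (Lpr_et (f94704 IH) (Lpr_at (K2.f95436 IH) (Lpr_et (f65865 IH) (Lpn (LP (LK LD1_c3 LD2_c44 LD3_c59))))))
theorem f94717 : Led Lsl_ft (LP (LK LD1_c3 LD2_c27 LD3_c17)) = (LP (LK LD1_c6 LD2_c56 LD3_c34)) :=
  Lre_f IH (LK LD1_c3 LD2_c27 LD3_c17) (LK LD1_c6 LD2_c56 LD3_c34) Lrfl Lrfl
theorem f91783 : Led Lsl_ft (LP (LK LD1_c7 LD2_c30 LD3_c53)) = (LP (LK LD1_c3 LD2_c44 LD3_c59)) :=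
  Lre_f IH (LK LD1_c7 LD2_c30 LD3_c53) (LK LD1_c3 LD2_c44 LD3_c59) Lrfl Lrfl
theorem f95446 : Led Lsl_at (LP (LK LD1_c6 LD2_c56 LD3_c34)) = (LP (LK LD1_c7 LD2_c30 LD3_c53)) :=
  Lgr Lrot66 (Lpe (f94717 IH) (Lpr_af (f95440 IH) (Lpe (f91783 IH) (Lpn (LP (LK LD1_c7 LD2_c30 LD3_c53))))))
theorem f95456 : Led Lsl_dt (LP (LK LD1_c13 LD2_c10 LD3_c54)) = (LP (LK LD1_c6 LD2_c56 LD3_c34)) :=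
  Lre_d IH (LK LD1_c13 LD2_c10 LD3_c54) (LK LD1_c6 LD2_c56 LD3_c34) Lrfl Lrfl
theorem f95450 : Led Lsl_dt (LP (LK LD1_c7 LD2_c30 LD3_c53)) = (LP (LK LD1_c14 LD2_c11 LD3_c12)) :=
  Lre_d IH (LK LD1_c7 LD2_c30 LD3_c53) (LK LD1_c14 LD2_c11 LD3_c12) Lrfl Lrfl
theorem f95457 : Led Lsl_af (LP (LK LD1_c13 LD2_c10 LD3_c54)) = (LP (LK LD1_c14 LD2_c11 LD3_c12)) :=
  Lgr Lrot117 (Lpr_dt (f95456 IH) (Lpr_at (f95446 IH) (Lpr_dt (f95450 IH) (Lpn (LP (LK LD1_c14 LD2_c11 LD3_c12))))))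
theorem f95464 : Led Lsl_at (LP (LK LD1_c13 LD2_c10 LD3_c54)) = (LP (LK LD1_c14 LD2_c11 LD3_c12)) :=
  Lgr Lrot100 (Lpr_af (f95457 IH) (Lpn (LP (LK LD1_c14 LD2_c11 LD3_c12))))
theorem f94732 : Led Lsl_ft (LP (LK LD1_c6 LD2_c56 LD3_c33)) = (LP (LK LD1_c13 LD2_c10 LD3_c54)) :=
  Lre_f IH (LK LD1_c6 LD2_c56 LD3_c33) (LK LD1_c13 LD2_c10 LD3_c54) Lrfl Lrfl
theorem f91844 : Led Lsl_ft (LP (LK LD1_c14 LD2_c11 LD3_c12)) = (LP (LK LD1_c7 LD2_c30 LD3_c52)) :=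
  Lre_f IH (LK LD1_c14 LD2_c11 LD3_c12) (LK LD1_c7 LD2_c30 LD3_c52) Lrfl Lrfl
theorem f95473 : Led Lsl_af (LP (LK LD1_c6 LD2_c56 LD3_c33)) = (LP (LK LD1_c7 LD2_c30 LD3_c52)) :=
  Lgr Lrot45 (Lpr_ft (f94732 IH) (Lpr_at (f95464 IH) (Lpr_ft (f91844 IH) (Lpn (LP (LK LD1_c7 LD2_c30 LD3_c52))))))
theorem f94714 : Led Lsl_ct (LP (LK LD1_c6 LD2_c56 LD3_c33)) = (LP (LK LD1_c13 LD2_c10 LD3_c53)) :=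
  Lre_c IH (LK LD1_c6 LD2_c56 LD3_c33) (LK LD1_c13 LD2_c10 LD3_c53) Lrfl Lrfl
theorem f91843 : Led Lsl_ct (LP (LK LD1_c14 LD2_c11 LD3_c11)) = (LP (LK LD1_c7 LD2_c30 LD3_c52)) :=
  Lre_c IH (LK LD1_c14 LD2_c11 LD3_c11) (LK LD1_c7 LD2_c30 LD3_c52) Lrfl Lrfl
theorem f95477 : Led Lsl_at (LP (LK LD1_c13 LD2_c10 LD3_c53)) = (LP (LK LD1_c14 LD2_c11 LD3_c11)) :=
  Lgr Lrot107 (Lpe (f94714 IH) (Lpr_af (f95473 IH) (Lpe (f91843 IH) (Lpn (LP (LK LD1_c14 LD2_c11 LD3_c11))))))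
theorem f94809 : Led Lsl_et (LP (LK LD1_c1 LD2_c41 LD3_c43)) = (LP (LK LD1_c3 LD2_c30 LD3_c4)) :=
  Lre_e IH (LK LD1_c1 LD2_c41 LD3_c43) (LK LD1_c3 LD2_c30 LD3_c4) Lrfl Lrfl
theorem f19156 : Led Lsl_dt (LP (LK LD1_c3 LD2_c30 LD3_c4)) = (LP (LK LD1_c7 LD2_c1 LD3_c52)) :=
  Lre_d IH (LK LD1_c3 LD2_c30 LD3_c4) (LK LD1_c7 LD2_c1 LD3_c52) Lrfl Lrfl
theorem f94720 : Led Lsl_dt (LP (LK LD1_c6 LD2_c56 LD3_c33)) = (LP (LK LD1_c3 LD2_c27 LD3_c17)) :=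
  Lre_d IH (LK LD1_c6 LD2_c56 LD3_c33) (LK LD1_c3 LD2_c27 LD3_c17) Lrfl Lrfl
theorem f94810 : Led Lsl_et (LP (LK LD1_c7 LD2_c1 LD3_c52)) = (LP (LK LD1_c6 LD2_c56 LD3_c33)) :=
  Lgr Lrot71 (Lpe (f19156 IH) (Lpe (f94809 IH) (Lpr_df (K2.f94781 IH) (Lpe (f94704 IH) (Lpe (f94720 IH) (Lpn (LP (LK LD1_c6 LD2_c56 LD3_c33))))))))
theorem f94844 : Led Lsl_ef (LP (LK LD1_c7 LD2_c1 LD3_c52)) = (LP (LK LD1_c6 LD2_c56 LD3_c33)) :=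
  Lgr Lrot88 (Lpr_et (f94810 IH) (Lpn (LP (LK LD1_c6 LD2_c56 LD3_c33))))
theorem f94851 : Led Lsl_ct (LP (LK LD1_c7 LD2_c1 LD3_c52)) = (LP (LK LD1_c13 LD2_c20 LD3_c9)) :=
  Lre_c IH (LK LD1_c7 LD2_c1 LD3_c52) (LK LD1_c13 LD2_c20 LD3_c9) Lrfl Lrfl
theorem f94722 : Led Lsl_ct (LP (LK LD1_c13 LD2_c10 LD3_c53)) = (LP (LK LD1_c6 LD2_c56 LD3_c33)) :=
  Lre_c IH (LK LD1_c13 LD2_c10 LD3_c53) (LK LD1_c6 LD2_c56 LD3_c33) Lrfl Lrfl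
theorem f94852 : Led Lsl_et (LP (LK LD1_c13 LD2_c20 LD3_c9)) = (LP (LK LD1_c13 LD2_c10 LD3_c53)) :=
  Lgr Lrot158 (Lpe (f94851 IH) (Lpr_ef (f94844 IH) (Lpe (f94722 IH) (Lpn (LP (LK LD1_c13 LD2_c10 LD3_c53))))))
theorem f95483 : Led Lsl_et (LP (LK LD1_c14 LD2_c11 LD3_c11)) = (LP (LK LD1_c7 LD2_c30 LD3_c54)) :=
  Lre_e IH (LK LD1_c14 LD2_c11 LD3_c11) (LK LD1_c7 LD2_c30 LD3_c54) Lrfl Lrfl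
theorem f95484 : Led Lsl_af (LP (LK LD1_c13 LD2_c20 LD3_c9)) = (LP (LK LD1_c7 LD2_c30 LD3_c54)) :=
  Lgr Lrot50 (Lpr_et (f94852 IH) (Lpr_at (f95477 IH) (Lpr_et (f95483 IH) (Lpn (LP (LK LD1_c7 LD2_c30 LD3_c54))))))
theorem f95486 : Led Lsl_at (LP (LK LD1_c13 LD2_c20 LD3_c9)) = (LP (LK LD1_c7 LD2_c30 LD3_c54)) :=
  Lgr Lrot100 (Lpr_af (f95484 IH) (Lpn (LP (LK LD1_c7 LD2_c30 LD3_c54))))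
theorem f85220 : Led Lsl_ct (LP (LK LD1_c7 LD2_c30 LD3_c54)) = (LP (LK LD1_c3 LD2_c44 LD3_c60)) :=
  Lre_c IH (LK LD1_c7 LD2_c30 LD3_c54) (LK LD1_c3 LD2_c44 LD3_c60) Lrfl Lrfl
theorem f95490 : Led Lsl_af (LP (LK LD1_c7 LD2_c1 LD3_c52)) = (LP (LK LD1_c3 LD2_c44 LD3_c60)) :=
  Lgr Lrot68 (Lpr_ct (f94851 IH) (Lpr_at (f95486 IH) (Lpr_ct (f85220 IH) (Lpn (LP (LK LD1_c3 LD2_c44 LD3_c60))))))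
theorem f94847 : Led Lsl_bt (LP (LK LD1_c7 LD2_c1 LD3_c52)) = (LP (LK LD1_c13 LD2_c20 LD3_c8)) :=
  Lre_b IH (LK LD1_c7 LD2_c1 LD3_c52) (LK LD1_c13 LD2_c20 LD3_c8) Lrfl Lrfl
theorem f94908 : Led Lsl_at (LP (LK LD1_c13 LD2_c20 LD3_c8)) = (LP (LK LD1_c22 LD2_c36 LD3_c30)) :=
  Lre_a IH (LK LD1_c13 LD2_c20 LD3_c8) (LK LD1_c22 LD2_c36 LD3_c30) Lrfl Lrfl
theorem f91817 : Led Lsl_bt (LP (LK LD1_c7 LD2_c30 LD3_c49)) = (LP (LK LD1_c3 LD2_c44 LD3_c60)) :=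
  Lre_b IH (LK LD1_c7 LD2_c30 LD3_c49) (LK LD1_c3 LD2_c44 LD3_c60) Lrfl Lrfl
theorem f91799 : Led Lsl_at (LP (LK LD1_c14 LD2_c10 LD3_c59)) = (LP (LK LD1_c7 LD2_c30 LD3_c49)) :=
  Lre_a IH (LK LD1_c14 LD2_c10 LD3_c59) (LK LD1_c7 LD2_c30 LD3_c49) Lrfl Lrfl
theorem f95493 : Led Lsl_bt (LP (LK LD1_c22 LD2_c36 LD3_c30)) = (LP (LK LD1_c14 LD2_c10 LD3_c59)) :=
  Lgr Lrot62 (Lpe (f94908 IH) (Lpe (f94847 IH) (Lpr_af (f95490 IH) (Lpe (f91817 IH) (Lpe (f91799 IH) (Lpn (LP (LK LD1_c14 LD2_c10 LD3_c59))))))))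
theorem f95497 : Led Lsl_dt (LP (LK LD1_c13 LD2_c20 LD3_c5)) = (LP (LK LD1_c22 LD2_c36 LD3_c30)) :=
  Lre_d IH (LK LD1_c13 LD2_c20 LD3_c5) (LK LD1_c22 LD2_c36 LD3_c30) Lrfl Lrfl
theorem f95498 : Led Lsl_dt (LP (LK LD1_c14 LD2_c10 LD3_c59)) = (LP (LK LD1_c7 LD2_c30 LD3_c46)) :=
  Lre_d IH (LK LD1_c14 LD2_c10 LD3_c59) (LK LD1_c7 LD2_c30 LD3_c46) Lrfl Lrfl
theorem f95499 : Led Lsl_bf (LP (LK LD1_c13 LD2_c20 LD3_c5)) = (LP (LK LD1_c7 LD2_c30 LD3_c46)) :=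
  Lgr Lrot93 (Lpr_dt (f95497 IH) (Lpr_bt (f95493 IH) (Lpr_dt (f95498 IH) (Lpn (LP (LK LD1_c7 LD2_c30 LD3_c46))))))
theorem f109594 : Led Lsl_cf (LP (LK LD1_c7 LD2_c6 LD3_c4)) = (LP (LK LD1_c13 LD2_c20 LD3_c5)) :=
  Lgr Lrot97 (Lpr_bt (f109572 IH) (Lpr_ct (f109579 IH) (Lpe (f109016 IH) (Lpr_ct (f95503 IH) (Lpe (f95499 IH) (Lpn (LP (LK LD1_c13 LD2_c20 LD3_c5))))))))
theorem f109596 : Led Lsl_ct (LP (LK LD1_c7 LD2_c6 LD3_c4)) = (LP (LK LD1_c13 LD2_c20 LD3_c5)) :=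
  Lgr Lrot59 (Lpr_cf (f109594 IH) (Lpn (LP (LK LD1_c13 LD2_c20 LD3_c5))))
theorem f109574 : Led Lsl_ct (LP (LK LD1_c7 LD2_c0 LD3_c52)) = (LP (LK LD1_c13 LD2_c18 LD3_c4)) :=
  Lre_c IH (LK LD1_c7 LD2_c0 LD3_c52) (LK LD1_c13 LD2_c18 LD3_c4) Lrfl Lrfl
theorem f95333 : Led Lsl_bt (LP (LK LD1_c3 LD2_c30 LD3_c4)) = (LP (LK LD1_c7 LD2_c1 LD3_c51)) :=
  Lre_b IH (LK LD1_c3 LD2_c30 LD3_c4) (LK LD1_c7 LD2_c1 LD3_c51) Lrfl Lrfl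
theorem f95342 : Led Lsl_at (LP (LK LD1_c7 LD2_c1 LD3_c51)) = (LP (LK LD1_c13 LD2_c20 LD3_c5)) :=
  Lre_a IH (LK LD1_c7 LD2_c1 LD3_c51) (LK LD1_c13 LD2_c20 LD3_c5) Lrfl Lrfl
theorem f95343 : Led Lsl_bt (LP (LK LD1_c3 LD2_c44 LD3_c57)) = (LP (LK LD1_c1 LD2_c49 LD3_c35)) :=
  Lre_b IH (LK LD1_c3 LD2_c44 LD3_c57) (LK LD1_c1 LD2_c49 LD3_c35) Lrfl Lrfl
theorem f95344 : Led Lsl_at (LP (LK LD1_c7 LD2_c30 LD3_c46)) = (LP (LK LD1_c3 LD2_c44 LD3_c57)) :=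
  Lre_a IH (LK LD1_c7 LD2_c30 LD3_c46) (LK LD1_c3 LD2_c44 LD3_c57) Lrfl Lrfl
theorem f95345 : Led Lsl_bt (LP (LK LD1_c13 LD2_c20 LD3_c5)) = (LP (LK LD1_c7 LD2_c30 LD3_c46)) :=
  Lgr Lrot62 (Lpe (f95342 IH) (Lpe (f95333 IH) (Lpr_af (K2.f95337 IH) (Lpe (f95343 IH) (Lpe (f95344 IH) (Lpn (LP (LK LD1_c7 LD2_c30 LD3_c46))))))))
theorem f95509 : Led Lsl_ct (LP (LK LD1_c7 LD2_c30 LD3_c46)) = (LP (LK LD1_c3 LD2_c45 LD3_c54)) :=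
  Lre_c IH (LK LD1_c7 LD2_c30 LD3_c46) (LK LD1_c3 LD2_c45 LD3_c54) Lrfl Lrfl
theorem f109602 : Led Lsl_bf (LP (LK LD1_c7 LD2_c0 LD3_c52)) = (LP (LK LD1_c3 LD2_c45 LD3_c54)) :=
  Lgr Lrot90 (Lpr_ct (f109574 IH) (Lpe (f109568 IH) (Lpr_ct (f109596 IH) (Lpr_bt (f95345 IH) (Lpr_ct (f95509 IH) (Lpn (LP (LK LD1_c3 LD2_c45 LD3_c54))))))))
theorem f109562 : Led Lsl_ft (LP (LK LD1_c7 LD2_c0 LD3_c52)) = (LP (LK LD1_c13 LD2_c18 LD3_c17)) :=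
  Lre_f IH (LK LD1_c7 LD2_c0 LD3_c52) (LK LD1_c13 LD2_c18 LD3_c17) Lrfl Lrfl
theorem f109611 : Led Lsl_ft (LP (LK LD1_c7 LD2_c32 LD3_c35)) = (LP (LK LD1_c3 LD2_c45 LD3_c54)) :=
  Lre_f IH (LK LD1_c7 LD2_c32 LD3_c35) (LK LD1_c3 LD2_c45 LD3_c54) Lrfl Lrfl
theorem f109612 : Led Lsl_bt (LP (LK LD1_c13 LD2_c18 LD3_c17)) = (LP (LK LD1_c7 LD2_c32 LD3_c35)) :=
  Lgr Lrot35 (Lpe (f109562 IH) (Lpr_bf (f109602 IH) (Lpe (f109611 IH) (Lpn (LP (LK LD1_c7 LD2_c32 LD3_c35))))))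
theorem f109620 : Led Lsl_bf (LP (LK LD1_c13 LD2_c18 LD3_c17)) = (LP (LK LD1_c7 LD2_c32 LD3_c35)) :=
  Lgr Lrot24 (Lpr_bt (f109612 IH) (Lpn (LP (LK LD1_c7 LD2_c32 LD3_c35))))
theorem f109627 : Led Lsl_at (LP (LK LD1_c13 LD2_c18 LD3_c17)) = (LP (LK LD1_c7 LD2_c0 LD3_c57)) :=
  Lre_a IH (LK LD1_c13 LD2_c18 LD3_c17) (LK LD1_c7 LD2_c0 LD3_c57) Lrfl Lrfl
theorem f109628 : Led Lsl_bt (LP (LK LD1_c7 LD2_c0 LD3_c57)) = (LP (LK LD1_c3 LD2_c29 LD3_c46)) :=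
  Lre_b IH (LK LD1_c7 LD2_c0 LD3_c57) (LK LD1_c3 LD2_c29 LD3_c46) Lrfl Lrfl
theorem f109629 : Led Lsl_at (LP (LK LD1_c3 LD2_c45 LD3_c58)) = (LP (LK LD1_c7 LD2_c32 LD3_c35)) :=
  Lre_a IH (LK LD1_c3 LD2_c45 LD3_c58) (LK LD1_c7 LD2_c32 LD3_c35) Lrfl Lrfl
theorem f85243 : Led Lsl_bt (LP (LK LD1_c1 LD2_c50 LD3_c10)) = (LP (LK LD1_c3 LD2_c45 LD3_c58)) :=
  Lre_b IH (LK LD1_c1 LD2_c50 LD3_c10) (LK LD1_c3 LD2_c45 LD3_c58) Lrfl Lrfl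
theorem f109630 : Led Lsl_at (LP (LK LD1_c3 LD2_c29 LD3_c46)) = (LP (LK LD1_c1 LD2_c50 LD3_c10)) :=
  Lgr Lrot67 (Lpe (f109628 IH) (Lpe (f109627 IH) (Lpr_bf (f109620 IH) (Lpe (f109629 IH) (Lpe (f85243 IH) (Lpn (LP (LK LD1_c1 LD2_c50 LD3_c10))))))))
theorem f109645 : Led Lsl_ft (LP (LK LD1_c1 LD2_c41 LD3_c34)) = (LP (LK LD1_c3 LD2_c29 LD3_c46)) :=
  Lre_f IH (LK LD1_c1 LD2_c41 LD3_c34) (LK LD1_c3 LD2_c29 LD3_c46) Lrfl Lrfl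
theorem f64644 : Led Lsl_dt (LP (LK LD1_c1 LD2_c41 LD3_c34)) = (LP (LK LD1_c3 LD2_c29 LD3_c45)) :=
  Lre_d IH (LK LD1_c1 LD2_c41 LD3_c34) (LK LD1_c3 LD2_c29 LD3_c45) Lrfl Lrfl
theorem f64703 : Led Lsl_ct (LP (LK LD1_c3 LD2_c29 LD3_c45)) = (LP (LK LD1_c7 LD2_c1 LD3_c8)) :=
  Lre_c IH (LK LD1_c3 LD2_c29 LD3_c45) (LK LD1_c7 LD2_c1 LD3_c8) Lrfl Lrfl
theorem f85234 : Led Lsl_ct (LP (LK LD1_c0 LD2_c51 LD3_c57)) = (LP (LK LD1_c1 LD2_c50 LD3_c10)) :=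
  Lre_c IH (LK LD1_c0 LD2_c51 LD3_c57) (LK LD1_c1 LD2_c50 LD3_c10) Lrfl Lrfl
theorem f85200 : Led Lsl_et (LP (LK LD1_c1 LD2_c49 LD3_c28)) = (LP (LK LD1_c0 LD2_c51 LD3_c33)) :=
  Lre_e IH (LK LD1_c1 LD2_c49 LD3_c28) (LK LD1_c0 LD2_c51 LD3_c33) Lrfl Lrfl
theorem f85201 : Led Lsl_dt (LP (LK LD1_c1 LD2_c49 LD3_c28)) = (LP (LK LD1_c1 LD2_c49 LD3_c28)) :=
  Lgr Lrot77 (Lpe (K2.f85199 IH) (Lpe (f5795 IH) (Lpr_ef (K2.f85197 IH) (Lpe (K2.f5799 IH) (Lpe (f85200 IH) (Lpn (LP (LK LD1_c1 LD2_c49 LD3_c28))))))))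
theorem f85207 : Led Lsl_ft (LP (LK LD1_c3 LD2_c44 LD3_c47)) = (LP (LK LD1_c1 LD2_c49 LD3_c28)) :=
  Lre_f IH (LK LD1_c3 LD2_c44 LD3_c47) (LK LD1_c1 LD2_c49 LD3_c28) Lrfl Lrfl
theorem f85208 : Led Lsl_ft (LP (LK LD1_c1 LD2_c49 LD3_c28)) = (LP (LK LD1_c3 LD2_c44 LD3_c47)) :=
  Lre_f IH (LK LD1_c1 LD2_c49 LD3_c28) (LK LD1_c3 LD2_c44 LD3_c47) Lrfl Lrfl
theorem f85209 : Led Lsl_df (LP (LK LD1_c3 LD2_c44 LD3_c47)) = (LP (LK LD1_c3 LD2_c44 LD3_c47)) :=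
  Lgr Lrot78 (Lpr_ft (f85207 IH) (Lpr_dt (f85201 IH) (Lpr_ft (f85208 IH) (Lpn (LP (LK LD1_c3 LD2_c44 LD3_c47))))))
theorem f85211 : Led Lsl_at (LP (LK LD1_c3 LD2_c44 LD3_c47)) = (LP (LK LD1_c1 LD2_c49 LD3_c38)) :=
  Lre_a IH (LK LD1_c3 LD2_c44 LD3_c47) (LK LD1_c1 LD2_c49 LD3_c38) Lrfl Lrfl
theorem f85215 : Led Lsl_at (LP (LK LD1_c1 LD2_c49 LD3_c38)) = (LP (LK LD1_c3 LD2_c44 LD3_c47)) :=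
  Lre_a IH (LK LD1_c1 LD2_c49 LD3_c38) (LK LD1_c3 LD2_c44 LD3_c47) Lrfl Lrfl
theorem f85216 : Led Lsl_dt (LP (LK LD1_c1 LD2_c49 LD3_c38)) = (LP (LK LD1_c1 LD2_c49 LD3_c38)) :=
  Lgr Lrot44 (Lpe (f85211 IH) (Lpr_df (f85209 IH) (Lpe (f85215 IH) (Lpn (LP (LK LD1_c1 LD2_c49 LD3_c38))))))
theorem f85227 : Led Lsl_bt (LP (LK LD1_c0 LD2_c51 LD3_c57)) = (LP (LK LD1_c1 LD2_c49 LD3_c38)) :=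
  Lre_b IH (LK LD1_c0 LD2_c51 LD3_c57) (LK LD1_c1 LD2_c49 LD3_c38) Lrfl Lrfl
theorem f85228 : Led Lsl_bt (LP (LK LD1_c1 LD2_c49 LD3_c38)) = (LP (LK LD1_c0 LD2_c51 LD3_c57)) :=
  Lre_b IH (LK LD1_c1 LD2_c49 LD3_c38) (LK LD1_c0 LD2_c51 LD3_c57) Lrfl Lrfl
theorem f85229 : Led Lsl_df (LP (LK LD1_c0 LD2_c51 LD3_c57)) = (LP (LK LD1_c0 LD2_c51 LD3_c57)) :=
  Lgr Lrot12 (Lpr_bt (f85227 IH) (Lpr_dt (f85216 IH) (Lpr_bt (f85228 IH) (Lpn (LP (LK LD1_c0 LD2_c51 LD3_c57))))))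
theorem f85237 : Led Lsl_ct (LP (LK LD1_c1 LD2_c50 LD3_c10)) = (LP (LK LD1_c0 LD2_c51 LD3_c57)) :=
  Lre_c IH (LK LD1_c1 LD2_c50 LD3_c10) (LK LD1_c0 LD2_c51 LD3_c57) Lrfl Lrfl
theorem f85238 : Led Lsl_dt (LP (LK LD1_c3 LD2_c46 LD3_c14)) = (LP (LK LD1_c1 LD2_c50 LD3_c10)) :=
  Lre_d IH (LK LD1_c3 LD2_c46 LD3_c14) (LK LD1_c1 LD2_c50 LD3_c10) Lrfl Lrfl
theorem f85239 : Led Lsl_ct (LP (LK LD1_c7 LD2_c33 LD3_c33)) = (LP (LK LD1_c3 LD2_c46 LD3_c14)) :=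
  Lre_c IH (LK LD1_c7 LD2_c33 LD3_c33) (LK LD1_c3 LD2_c46 LD3_c14) Lrfl Lrfl
theorem f109651 : Led Lsl_dt (LP (LK LD1_c7 LD2_c1 LD3_c8)) = (LP (LK LD1_c7 LD2_c33 LD3_c33)) :=
  Lgr Lrot32 (Lpe (f64703 IH) (Lpe (f64644 IH) (Lpr_ft (f109645 IH) (Lpr_at (f109630 IH) (Lpe (f85234 IH) (Lpr_df (f85229 IH) (Lpe (f85237 IH) (Lpe (f85238 IH) (Lpe (f85239 IH) (Lpn (LP (LK LD1_c7 LD2_c33 LD3_c33))))))))))))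
theorem f64681 : Led Lsl_ct (LP (LK LD1_c0 LD2_c47 LD3_c21)) = (LP (LK LD1_c1 LD2_c41 LD3_c34)) :=
  Lre_c IH (LK LD1_c0 LD2_c47 LD3_c21) (LK LD1_c1 LD2_c41 LD3_c34) Lrfl Lrfl
theorem f95970 : Led Lsl_et (LP (LK LD1_c0 LD2_c21 LD3_c11)) = (LP (LK LD1_c0 LD2_c47 LD3_c21)) :=
  Lre_e IH (LK LD1_c0 LD2_c21 LD3_c11) (LK LD1_c0 LD2_c47 LD3_c21) Lrfl Lrfl
theorem f95735 : Led Lsl_dt (LP (LK LD1_c0 LD2_c21 LD3_c11)) = (LP (LK LD1_c0 LD2_c10 LD3_c28)) :=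
  Lgr Lrot105 (Lpe (f18883 IH) (Lpe (K1.f18878 IH) (Lpe (K1.f18904 IH) (Lpe (K1.f25023 IH) (Lpr_gt (K0.f9929 IH) (Lpr_dt (f17792 IH) (Lpr_gt (f95730 IH) (Lpr_dt (f85140 IH) (Lpe (f85145 IH) (Lpn (LP (LK LD1_c0 LD2_c10 LD3_c28))))))))))))
theorem f62690 : Led Lsl_et (LP (LK LD1_c0 LD2_c47 LD3_c21)) = (LP (LK LD1_c0 LD2_c21 LD3_c11)) :=
  Lre_e IH (LK LD1_c0 LD2_c47 LD3_c21) (LK LD1_c0 LD2_c21 LD3_c11) Lrfl Lrfl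
theorem f95977 : Led Lsl_dt (LP (LK LD1_c0 LD2_c47 LD3_c21)) = (LP (LK LD1_c0 LD2_c47 LD3_c21)) :=
  Lgr Lrot77 (Lpe (f95970 IH) (Lpr_df (f95967 IH) (Lpe (f85014 IH) (Lpe (f95735 IH) (Lpe (f62690 IH) (Lpn (LP (LK LD1_c0 LD2_c47 LD3_c21))))))))
theorem f64678 : Led Lsl_ct (LP (LK LD1_c1 LD2_c41 LD3_c34)) = (LP (LK LD1_c0 LD2_c47 LD3_c21)) :=
  Lre_c IH (LK LD1_c1 LD2_c41 LD3_c34) (LK LD1_c0 LD2_c47 LD3_c21) Lrfl Lrfl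
theorem f64677 : Led Lsl_dt (LP (LK LD1_c3 LD2_c29 LD3_c45)) = (LP (LK LD1_c1 LD2_c41 LD3_c34)) :=
  Lre_d IH (LK LD1_c3 LD2_c29 LD3_c45) (LK LD1_c1 LD2_c41 LD3_c34) Lrfl Lrfl
theorem f109664 : Led Lsl_ft (LP (LK LD1_c3 LD2_c29 LD3_c45)) = (LP (LK LD1_c7 LD2_c1 LD3_c9)) :=
  Lre_f IH (LK LD1_c3 LD2_c29 LD3_c45) (LK LD1_c7 LD2_c1 LD3_c9) Lrfl Lrfl
theorem f109665 : Led Lsl_at (LP (LK LD1_c7 LD2_c1 LD3_c9)) = (LP (LK LD1_c3 LD2_c46 LD3_c14)) :=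
  Lgr Lrot33 (Lpe (f109664 IH) (Lpr_dt (f64677 IH) (Lpr_ct (f64678 IH) (Lpr_dt (f95977 IH) (Lpr_ct (f64681 IH) (Lpr_dt (f64644 IH) (Lpr_ct (f64703 IH) (Lpr_dt (f109651 IH) (Lpr_ct (f85239 IH) (Lpn (LP (LK LD1_c3 LD2_c46 LD3_c14))))))))))))
theorem f85242 : Led Lsl_ft (LP (LK LD1_c3 LD2_c46 LD3_c14)) = (LP (LK LD1_c1 LD2_c50 LD3_c9)) :=
  Lre_f IH (LK LD1_c3 LD2_c46 LD3_c14) (LK LD1_c1 LD2_c50 LD3_c9) Lrfl Lrfl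
theorem f109672 : Led Lsl_af (LP (LK LD1_c3 LD2_c29 LD3_c45)) = (LP (LK LD1_c1 LD2_c50 LD3_c9)) :=
  Lgr Lrot45 (Lpr_ft (f109664 IH) (Lpr_at (f109665 IH) (Lpr_ft (f85242 IH) (Lpn (LP (LK LD1_c1 LD2_c50 LD3_c9))))))
theorem f105586 : Led Lsl_et (LP (LK LD1_c3 LD2_c29 LD3_c45)) = (LP (LK LD1_c7 LD2_c0 LD3_c60)) :=
  Lre_e IH (LK LD1_c3 LD2_c29 LD3_c45) (LK LD1_c7 LD2_c0 LD3_c60) Lrfl Lrfl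
theorem f109694 : Led Lsl_et (LP (LK LD1_c3 LD2_c46 LD3_c3)) = (LP (LK LD1_c1 LD2_c50 LD3_c9)) :=
  Lre_e IH (LK LD1_c3 LD2_c46 LD3_c3) (LK LD1_c1 LD2_c50 LD3_c9) Lrfl Lrfl
theorem f109695 : Led Lsl_at (LP (LK LD1_c7 LD2_c0 LD3_c60)) = (LP (LK LD1_c3 LD2_c46 LD3_c3)) :=
  Lgr Lrot80 (Lpe (f105586 IH) (Lpr_af (f109672 IH) (Lpe (f109694 IH) (Lpn (LP (LK LD1_c3 LD2_c46 LD3_c3))))))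
theorem f65092 : Led Lsl_dt (LP (LK LD1_c3 LD2_c29 LD3_c42)) = (LP (LK LD1_c7 LD2_c0 LD3_c60)) :=
  Lre_d IH (LK LD1_c3 LD2_c29 LD3_c42) (LK LD1_c7 LD2_c0 LD3_c60) Lrfl Lrfl
theorem f92675 : Led Lsl_dt (LP (LK LD1_c3 LD2_c46 LD3_c3)) = (LP (LK LD1_c1 LD2_c50 LD3_c6)) :=
  Lre_d IH (LK LD1_c3 LD2_c46 LD3_c3) (LK LD1_c1 LD2_c50 LD3_c6) Lrfl Lrfl
theorem f109704 : Led Lsl_af (LP (LK LD1_c3 LD2_c29 LD3_c42)) = (LP (LK LD1_c1 LD2_c50 LD3_c6)) :=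
  Lgr Lrot117 (Lpr_dt (f65092 IH) (Lpr_at (f109695 IH) (Lpr_dt (f92675 IH) (Lpn (LP (LK LD1_c1 LD2_c50 LD3_c6))))))
theorem f65096 : Led Lsl_et (LP (LK LD1_c3 LD2_c29 LD3_c42)) = (LP (LK LD1_c1 LD2_c41 LD3_c33)) :=
  Lre_e IH (LK LD1_c3 LD2_c29 LD3_c42) (LK LD1_c1 LD2_c41 LD3_c33) Lrfl Lrfl
theorem f93598 : Led Lsl_et (LP (LK LD1_c0 LD2_c51 LD3_c54)) = (LP (LK LD1_c1 LD2_c50 LD3_c6)) :=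
  Lre_e IH (LK LD1_c0 LD2_c51 LD3_c54) (LK LD1_c1 LD2_c50 LD3_c6) Lrfl Lrfl
theorem f109853 : Led Lsl_at (LP (LK LD1_c1 LD2_c41 LD3_c33)) = (LP (LK LD1_c0 LD2_c51 LD3_c54)) :=
  Lgr Lrot80 (Lpe (f65096 IH) (Lpr_af (f109704 IH) (Lpe (f93598 IH) (Lpn (LP (LK LD1_c0 LD2_c51 LD3_c54))))))
theorem f96029 : Led Lsl_ff (LP (LK LD1_c1 LD2_c41 LD3_c27)) = (LP (LK LD1_c0 LD2_c51 LD3_c54)) :=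
  Lgr Lrot23 (Lpr_ct (f87806 IH) (Lpr_ft (f96024 IH) (Lpe (K2.f65687 IH) (Lpn (LP (LK LD1_c0 LD2_c51 LD3_c54))))))
theorem f105554 : Led Lsl_af (LP (LK LD1_c0 LD2_c52 LD3_c8)) = (LP (LK LD1_c1 LD2_c41 LD3_c27)) :=
  Lgr Lrot0 (Lpr_at (f105551 IH) (Lpn (LP (LK LD1_c1 LD2_c41 LD3_c27))))
theorem f109862 : Led Lsl_ff (LP (LK LD1_c1 LD2_c41 LD3_c33)) = (LP (LK LD1_c0 LD2_c52 LD3_c8)) :=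
  Lgr Lrot30 (Lpr_at (f109853 IH) (Lpe (f96029 IH) (Lpe (f105554 IH) (Lpn (LP (LK LD1_c0 LD2_c52 LD3_c8))))))
theorem f64797 : Led Lsl_et (LP (LK LD1_c1 LD2_c41 LD3_c33)) = (LP (LK LD1_c3 LD2_c29 LD3_c42)) :=
  Lre_e IH (LK LD1_c1 LD2_c41 LD3_c33) (LK LD1_c3 LD2_c29 LD3_c42) Lrfl Lrfl
theorem f65090 : Led Lsl_ft (LP (LK LD1_c3 LD2_c29 LD3_c42)) = (LP (LK LD1_c7 LD2_c0 LD3_c61)) :=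
  Lre_f IH (LK LD1_c3 LD2_c29 LD3_c42) (LK LD1_c7 LD2_c0 LD3_c61) Lrfl Lrfl
theorem f109868 : Led Lsl_ft (LP (LK LD1_c3 LD2_c46 LD3_c48)) = (LP (LK LD1_c1 LD2_c50 LD3_c29)) :=
  Lre_f IH (LK LD1_c3 LD2_c46 LD3_c48) (LK LD1_c1 LD2_c50 LD3_c29) Lrfl Lrfl
theorem f109869 : Led Lsl_et (LP (LK LD1_c7 LD2_c0 LD3_c61)) = (LP (LK LD1_c3 LD2_c46 LD3_c48)) :=
  Lgr Lrot69 (Lpe (f65090 IH) (Lpe (f64797 IH) (Lpr_ff (f109862 IH) (Lpe (f88296 IH) (Lpe (f109868 IH) (Lpn (LP (LK LD1_c3 LD2_c46 LD3_c48))))))))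
theorem f109877 : Led Lsl_ef (LP (LK LD1_c7 LD2_c0 LD3_c61)) = (LP (LK LD1_c3 LD2_c46 LD3_c48)) :=
  Lgr Lrot88 (Lpr_et (f109869 IH) (Lpn (LP (LK LD1_c3 LD2_c46 LD3_c48))))
theorem f65080 : Led Lsl_bt (LP (LK LD1_c7 LD2_c0 LD3_c61)) = (LP (LK LD1_c13 LD2_c18 LD3_c20)) :=
  Lre_b IH (LK LD1_c7 LD2_c0 LD3_c61) (LK LD1_c13 LD2_c18 LD3_c20) Lrfl Lrfl
theorem f109879 : Led Lsl_bt (LP (LK LD1_c7 LD2_c34 LD3_c12)) = (LP (LK LD1_c3 LD2_c46 LD3_c48)) :=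
  Lre_b IH (LK LD1_c7 LD2_c34 LD3_c12) (LK LD1_c3 LD2_c46 LD3_c48) Lrfl Lrfl
theorem f109880 : Led Lsl_et (LP (LK LD1_c13 LD2_c18 LD3_c20)) = (LP (LK LD1_c7 LD2_c34 LD3_c12)) :=
  Lgr Lrot74 (Lpe (f65080 IH) (Lpr_ef (f109877 IH) (Lpe (f109879 IH) (Lpn (LP (LK LD1_c7 LD2_c34 LD3_c12))))))
theorem f109887 : Led Lsl_ft (LP (LK LD1_c7 LD2_c0 LD3_c53)) = (LP (LK LD1_c13 LD2_c18 LD3_c20)) :=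
  Lre_f IH (LK LD1_c7 LD2_c0 LD3_c53) (LK LD1_c13 LD2_c18 LD3_c20) Lrfl Lrfl
theorem f109888 : Led Lsl_et (LP (LK LD1_c3 LD2_c29 LD3_c40)) = (LP (LK LD1_c7 LD2_c0 LD3_c53)) :=
  Lre_e IH (LK LD1_c3 LD2_c29 LD3_c40) (LK LD1_c7 LD2_c0 LD3_c53) Lrfl Lrfl
theorem f109889 : Led Lsl_ft (LP (LK LD1_c7 LD2_c34 LD3_c12)) = (LP (LK LD1_c3 LD2_c46 LD3_c41)) :=
  Lre_f IH (LK LD1_c7 LD2_c34 LD3_c12) (LK LD1_c3 LD2_c46 LD3_c41) Lrfl Lrfl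
theorem f109890 : Led Lsl_et (LP (LK LD1_c3 LD2_c46 LD3_c41)) = (LP (LK LD1_c1 LD2_c50 LD3_c27)) :=
  Lre_e IH (LK LD1_c3 LD2_c46 LD3_c41) (LK LD1_c1 LD2_c50 LD3_c27) Lrfl Lrfl
theorem f109891 : Led Lsl_ff (LP (LK LD1_c3 LD2_c29 LD3_c40)) = (LP (LK LD1_c1 LD2_c50 LD3_c27)) :=
  Lgr Lrot72 (Lpr_et (f109888 IH) (Lpr_ft (f109887 IH) (Lpr_et (f109880 IH) (Lpr_ft (f109889 IH) (Lpr_et (f109890 IH) (Lpn (LP (LK LD1_c1 LD2_c50 LD3_c27))))))))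
theorem f65239 : Led Lsl_gt (LP (LK LD1_c1 LD2_c50 LD3_c27)) = (LP (LK LD1_c3 LD2_c46 LD3_c38)) :=
  Lre_g IH (LK LD1_c1 LD2_c50 LD3_c27) (LK LD1_c3 LD2_c46 LD3_c38) Lrfl Lrfl
theorem f109893 : Led Lsl_gf (LP (LK LD1_c4 LD2_c47 LD3_c47)) = (LP (LK LD1_c3 LD2_c46 LD3_c38)) :=
  Lgr Lrot76 (Lpr_af (f108991 IH) (Lpr_ff (f109891 IH) (Lpr_gt (f65239 IH) (Lpn (LP (LK LD1_c3 LD2_c46 LD3_c38))))))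
theorem f23538 : Led Lsl_bt (LP (LK LD1_c4 LD2_c44 LD3_c34)) = (LP (LK LD1_c9 LD2_c21 LD3_c55)) :=
  Lre_b IH (LK LD1_c4 LD2_c44 LD3_c34) (LK LD1_c9 LD2_c21 LD3_c55) Lrfl Lrfl
theorem f78106 : Led Lsl_ct (LP (LK LD1_c9 LD2_c21 LD3_c55)) = (LP (LK LD1_c4 LD2_c47 LD3_c47)) :=
  Lgr Lrot83 (Lpe (f23538 IH) (Lpe (f23537 IH) (Lpr_bf (K2.f23534 IH) (Lpr_cf (K2.f78103 IH) (Lpe (f78105 IH) (Lpn (LP (LK LD1_c4 LD2_c47 LD3_c47))))))))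
theorem f23551 : Led Lsl_bt (LP (LK LD1_c9 LD2_c21 LD3_c55)) = (LP (LK LD1_c4 LD2_c44 LD3_c34)) :=
  Lre_b IH (LK LD1_c9 LD2_c21 LD3_c55) (LK LD1_c4 LD2_c44 LD3_c34) Lrfl Lrfl
theorem f91384 : Led Lsl_bt (LP (LK LD1_c1 LD2_c7 LD3_c44)) = (LP (LK LD1_c2 LD2_c20 LD3_c46)) :=
  Lre_b IH (LK LD1_c1 LD2_c7 LD3_c44) (LK LD1_c2 LD2_c20 LD3_c46) Lrfl Lrfl
theorem f91385 : Led Lsl_gt (LP (LK LD1_c2 LD2_c20 LD3_c46)) = (LP (LK LD1_c4 LD2_c45 LD3_c16)) :=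
  Lre_g IH (LK LD1_c2 LD2_c20 LD3_c46) (LK LD1_c4 LD2_c45 LD3_c16) Lrfl Lrfl
theorem f109895 : Led Lsl_ct (LP (LK LD1_c7 LD2_c34 LD3_c5)) = (LP (LK LD1_c3 LD2_c46 LD3_c38)) :=
  Lre_c IH (LK LD1_c7 LD2_c34 LD3_c5) (LK LD1_c3 LD2_c46 LD3_c38) Lrfl Lrfl
theorem f109898 : Led Lsl_bf (LP (LK LD1_c4 LD2_c45 LD3_c16)) = (LP (LK LD1_c7 LD2_c34 LD3_c5)) :=
  Lgr Lrot34 (Lpe (f91385 IH) (Lpe (f91384 IH) (Lpr_ct (f13697 IH) (Lpe (f13717 IH) (Lpe (f61891 IH) (Lpr_gf (f103169 IH) (Lpe (f23551 IH) (Lpr_ct (f78106 IH) (Lpr_gf (f109893 IH) (Lpe (f109895 IH) (Lpn (LP (LK LD1_c7 LD2_c34 LD3_c5)))))))))))))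
theorem f17122 : Led Lsl_gt (LP (LK LD1_c4 LD2_c45 LD3_c16)) = (LP (LK LD1_c2 LD2_c56 LD3_c2)) :=
  Lre_g IH (LK LD1_c4 LD2_c45 LD3_c16) (LK LD1_c2 LD2_c56 LD3_c2) Lrfl Lrfl
theorem f79245 : Led Lsl_bt (LP (LK LD1_c1 LD2_c23 LD3_c59)) = (LP (LK LD1_c2 LD2_c56 LD3_c2)) :=
  Lre_b IH (LK LD1_c1 LD2_c23 LD3_c59) (LK LD1_c2 LD2_c56 LD3_c2) Lrfl Lrfl
theorem f79244 : Led Lsl_ct (LP (LK LD1_c1 LD2_c23 LD3_c59)) = (LP (LK LD1_c0 LD2_c38 LD3_c47)) :=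
  Lre_c IH (LK LD1_c1 LD2_c23 LD3_c59) (LK LD1_c0 LD2_c38 LD3_c47) Lrfl Lrfl
theorem f74634 : Led Lsl_gt (LP (LK LD1_c0 LD2_c38 LD3_c47)) = (LP (LK LD1_c1 LD2_c8 LD3_c18)) :=
  Lre_g IH (LK LD1_c0 LD2_c38 LD3_c47) (LK LD1_c1 LD2_c8 LD3_c18) Lrfl Lrfl
theorem f78065 : Led Lsl_ct (LP (LK LD1_c2 LD2_c22 LD3_c19)) = (LP (LK LD1_c1 LD2_c8 LD3_c18)) :=
  Lre_c IH (LK LD1_c2 LD2_c22 LD3_c19) (LK LD1_c1 LD2_c8 LD3_c18) Lrfl Lrfl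
theorem f78066 : Led Lsl_bt (LP (LK LD1_c2 LD2_c22 LD3_c19)) = (LP (LK LD1_c4 LD2_c48 LD3_c53)) :=
  Lre_b IH (LK LD1_c2 LD2_c22 LD3_c19) (LK LD1_c4 LD2_c48 LD3_c53) Lrfl Lrfl
theorem f88295 : Led Lsl_ct (LP (LK LD1_c3 LD2_c46 LD3_c40)) = (LP (LK LD1_c1 LD2_c50 LD3_c27)) :=
  Lre_c IH (LK LD1_c3 LD2_c46 LD3_c40) (LK LD1_c1 LD2_c50 LD3_c27) Lrfl Lrfl
theorem f109909 : Led Lsl_gt (LP (LK LD1_c4 LD2_c48 LD3_c53)) = (LP (LK LD1_c3 LD2_c46 LD3_c40)) :=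
  Lgr Lrot82 (Lpe (f78066 IH) (Lpr_ct (f78065 IH) (Lpe (f74634 IH) (Lpe (f79244 IH) (Lpr_bt (f79245 IH) (Lpe (f17122 IH) (Lpr_bf (f109898 IH) (Lpr_ct (f109895 IH) (Lpe (f65239 IH) (Lpe (f88295 IH) (Lpn (LP (LK LD1_c3 LD2_c46 LD3_c40)))))))))))))
theorem f103175 : Led Lsl_ct (LP (LK LD1_c9 LD2_c30 LD3_c10)) = (LP (LK LD1_c4 LD2_c48 LD3_c53)) :=
  Lre_c IH (LK LD1_c9 LD2_c30 LD3_c10) (LK LD1_c4 LD2_c48 LD3_c53) Lrfl Lrfl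
theorem f103176 : Led Lsl_bt (LP (LK LD1_c9 LD2_c30 LD3_c10)) = (LP (LK LD1_c4 LD2_c48 LD3_c51)) :=
  Lre_b IH (LK LD1_c9 LD2_c30 LD3_c10) (LK LD1_c4 LD2_c48 LD3_c51) Lrfl Lrfl
theorem f65225 : Led Lsl_ct (LP (LK LD1_c1 LD2_c50 LD3_c27)) = (LP (LK LD1_c3 LD2_c46 LD3_c40)) :=
  Lre_c IH (LK LD1_c1 LD2_c50 LD3_c27) (LK LD1_c3 LD2_c46 LD3_c40) Lrfl Lrfl
theorem f88294 : Led Lsl_bt (LP (LK LD1_c1 LD2_c50 LD3_c27)) = (LP (LK LD1_c0 LD2_c52 LD3_c8)) :=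
  Lre_b IH (LK LD1_c1 LD2_c50 LD3_c27) (LK LD1_c0 LD2_c52 LD3_c8) Lrfl Lrfl
theorem f87667 : Led Lsl_at (LP (LK LD1_c0 LD2_c52 LD3_c12)) = (LP (LK LD1_c0 LD2_c23 LD3_c44)) :=
  Lgr Lrot107 (Lpe (f63719 IH) (Lpr_af (K2.f87660 IH) (Lpe (K1.f11856 IH) (Lpn (LP (LK LD1_c0 LD2_c23 LD3_c44))))))
theorem f62680 : Led Lsl_gt (LP (LK LD1_c0 LD2_c52 LD3_c29)) = (LP (LK LD1_c0 LD2_c23 LD3_c44)) :=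
  Lre_g IH (LK LD1_c0 LD2_c52 LD3_c29) (LK LD1_c0 LD2_c23 LD3_c44) Lrfl Lrfl
theorem f87928 : Led Lsl_gf (LP (LK LD1_c0 LD2_c52 LD3_c29)) = (LP (LK LD1_c0 LD2_c23 LD3_c47)) :=
  Lgr Lrot47 (Lpr_gt (f62680 IH) (Lpe (f87667 IH) (Lpr_ff (K2.f87878 IH) (Lpn (LP (LK LD1_c0 LD2_c23 LD3_c47))))))
theorem f66425 : Led Lsl_gt (LP (LK LD1_c1 LD2_c50 LD3_c5)) = (LP (LK LD1_c0 LD2_c51 LD3_c54)) :=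
  Lre_g IH (LK LD1_c1 LD2_c50 LD3_c5) (LK LD1_c0 LD2_c51 LD3_c54) Lrfl Lrfl
theorem f87930 : Led Lsl_dt (LP (LK LD1_c0 LD2_c52 LD3_c29)) = (LP (LK LD1_c1 LD2_c50 LD3_c5)) :=
  Lgr Lrot57 (Lpr_gf (f87928 IH) (Lpe (K2.f14681 IH) (Lpr_gt (K2.f11526 IH) (Lpr_dt (K0.f17457 IH) (Lpr_gt (K0.f6699 IH) (Lpr_dt (K2.f6700 IH) (Lpe (K2.f58788 IH) (Lpe (K2.f65244 IH) (Lpe (f66425 IH) (Lpn (LP (LK LD1_c1 LD2_c50 LD3_c5))))))))))))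
theorem f88158 : Led Lsl_df (LP (LK LD1_c0 LD2_c52 LD3_c29)) = (LP (LK LD1_c1 LD2_c50 LD3_c5)) :=
  Lgr Lrot38 (Lpr_dt (f87930 IH) (Lpn (LP (LK LD1_c1 LD2_c50 LD3_c5))))
theorem f88292 : Led Lsl_gt (LP (LK LD1_c0 LD2_c52 LD3_c8)) = (LP (LK LD1_c1 LD2_c50 LD3_c5)) :=
  Lgr Lrot94 (Lpe (K1.f65195 IH) (Lpr_gt (K1.f64617 IH) (Lpr_dt (K1.f64605 IH) (Lpr_gt (K1.f40583 IH) (Lpr_dt (K2.f40584 IH) (Lpe (K1.f64603 IH) (Lpe (K1.f17460 IH) (Lpe (f62680 IH) (Lpr_df (f88158 IH) (Lpn (LP (LK LD1_c1 LD2_c50 LD3_c5))))))))))))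
theorem f12487 : Led Lsl_ct (LP (LK LD1_c0 LD2_c51 LD3_c40)) = (LP (LK LD1_c1 LD2_c49 LD3_c39)) :=
  Lre_c IH (LK LD1_c0 LD2_c51 LD3_c40) (LK LD1_c1 LD2_c49 LD3_c39) Lrfl Lrfl
theorem f66434 : Led Lsl_dt (LP (LK LD1_c1 LD2_c49 LD3_c39)) = (LP (LK LD1_c3 LD2_c45 LD3_c5)) :=
  Lre_d IH (LK LD1_c1 LD2_c49 LD3_c39) (LK LD1_c3 LD2_c45 LD3_c5) Lrfl Lrfl
theorem f88424 : Led Lsl_cf (LP (LK LD1_c3 LD2_c45 LD3_c5)) = (LP (LK LD1_c1 LD2_c50 LD3_c5)) :=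
  Lgr Lrot99 (Lpe (f66434 IH) (Lpe (f12487 IH) (Lpr_gf (K1.f66423 IH) (Lpr_cf (K1.f62010 IH) (Lpe (K1.f61914 IH) (Lpe (K1.f24617 IH) (Lpr_gt (K1.f62195 IH) (Lpr_ct (K1.f65195 IH) (Lpr_gt (f88292 IH) (Lpn (LP (LK LD1_c1 LD2_c50 LD3_c5))))))))))))
theorem f96615 : Led Lsl_gt (LP (LK LD1_c3 LD2_c45 LD3_c5)) = (LP (LK LD1_c3 LD2_c1 LD3_c50)) :=
  Lgr Lrot94 (Lpr_cf (f88424 IH) (Lpr_gt (f66425 IH) (Lpr_dt (K2.f65244 IH) (Lpr_gt (K2.f65953 IH) (Lpr_dt (f88436 IH) (Lpr_cf (f94132 IH) (Lpr_df (f96190 IH) (Lpe (f96064 IH) (Lpe (f96045 IH) (Lpn (LP (LK LD1_c3 LD2_c1 LD3_c50))))))))))))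
theorem f96059 : Led Lsl_bt (LP (LK LD1_c1 LD2_c41 LD3_c41)) = (LP (LK LD1_c3 LD2_c29 LD3_c60)) :=
  Lre_b IH (LK LD1_c1 LD2_c41 LD3_c41) (LK LD1_c3 LD2_c29 LD3_c60) Lrfl Lrfl
theorem f109912 : Led Lsl_gf (LP (LK LD1_c4 LD2_c48 LD3_c51)) = (LP (LK LD1_c3 LD2_c29 LD3_c60)) :=
  Lgr Lrot124 (Lpe (f103176 IH) (Lpr_ct (f103175 IH) (Lpr_gt (f109909 IH) (Lpe (f65225 IH) (Lpr_bt (f88294 IH) (Lpr_gt (f88292 IH) (Lpe (f88424 IH) (Lpr_gt (f96615 IH) (Lpr_cf (f96043 IH) (Lpr_bt (f96059 IH) (Lpn (LP (LK LD1_c3 LD2_c29 LD3_c60)))))))))))))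
theorem f109410 : Led Lsl_ct (LP (LK LD1_c2 LD2_c22 LD3_c18)) = (LP (LK LD1_c4 LD2_c48 LD3_c51)) :=
  Lre_c IH (LK LD1_c2 LD2_c22 LD3_c18) (LK LD1_c4 LD2_c48 LD3_c51) Lrfl Lrfl
theorem f26572 : Led Lsl_bt (LP (LK LD1_c2 LD2_c22 LD3_c18)) = (LP (LK LD1_c1 LD2_c8 LD3_c18)) :=
  Lre_b IH (LK LD1_c2 LD2_c22 LD3_c18) (LK LD1_c1 LD2_c8 LD3_c18) Lrfl Lrfl
theorem f26571 : Led Lsl_gt (LP (LK LD1_c1 LD2_c8 LD3_c18)) = (LP (LK LD1_c0 LD2_c31 LD3_c16)) :=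
  Lre_g IH (LK LD1_c1 LD2_c8 LD3_c18) (LK LD1_c0 LD2_c31 LD3_c16) Lrfl Lrfl
theorem f56895 : Led Lsl_bt (LP (LK LD1_c0 LD2_c13 LD3_c53)) = (LP (LK LD1_c0 LD2_c31 LD3_c16)) :=
  Lre_b IH (LK LD1_c0 LD2_c13 LD3_c53) (LK LD1_c0 LD2_c31 LD3_c16) Lrfl Lrfl
theorem f58845 : Led Lsl_cf (LP (LK LD1_c0 LD2_c13 LD3_c51)) = (LP (LK LD1_c0 LD2_c29 LD3_c19)) :=
  Lgr Lrot55 (Lpe (K1.f13591 IH) (Lpr_ct (K0.f9684 IH) (Lpr_dt (K0.f7376 IH) (Lpe (K0.f20040 IH) (Lpr_dt (K0.f16643 IH) (Lpr_ct (K1.f16644 IH) (Lpr_dt (K1.f20045 IH) (Lpr_ct (K1.f58778 IH) (Lpe (K0.f23265 IH) (Lpr_ct (K0.f7365 IH) (Lpr_dt (K0.f7368 IH) (Lpr_ct (K0.f13595 IH) (Lpr_dt (K0.f20216 IH) (Lpr_ct (K0.f20195 IH) (Lpr_dt (K0.f20198 IH) (Lpn (LP (LK LD1_c0 LD2_c29 LD3_c19))))))))))))))))))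
theorem f92246 : Led Lsl_bt (LP (LK LD1_c0 LD2_c29 LD3_c19)) = (LP (LK LD1_c1 LD2_c4 LD3_c10)) :=
  Lre_b IH (LK LD1_c0 LD2_c29 LD3_c19) (LK LD1_c1 LD2_c4 LD3_c10) Lrfl Lrfl
theorem f92248 : Led Lsl_gt (LP (LK LD1_c1 LD2_c4 LD3_c10)) = (LP (LK LD1_c2 LD2_c14 LD3_c12)) :=
  Lre_g IH (LK LD1_c1 LD2_c4 LD3_c10) (LK LD1_c2 LD2_c14 LD3_c12) Lrfl Lrfl
theorem f109918 : Led Lsl_ct (LP (LK LD1_c2 LD2_c14 LD3_c12)) = (LP (LK LD1_c3 LD2_c29 LD3_c60)) :=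
  Lgr Lrot91 (Lpe (f92248 IH) (Lpe (f92246 IH) (Lpe (f58845 IH) (Lpe (K0.f13590 IH) (Lpe (K0.f20076 IH) (Lpr_bt (f56895 IH) (Lpe (f26571 IH) (Lpe (f26572 IH) (Lpr_ct (f109410 IH) (Lpr_gf (f109912 IH) (Lpn (LP (LK LD1_c3 LD2_c29 LD3_c60)))))))))))))
theorem f109929 : Led Lsl_cf (LP (LK LD1_c2 LD2_c14 LD3_c12)) = (LP (LK LD1_c3 LD2_c29 LD3_c60)) :=
  Lgr Lrot11 (Lpr_ct (f109918 IH) (Lpn (LP (LK LD1_c3 LD2_c29 LD3_c60))))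
theorem f58944 : Led Lsl_ct (LP (LK LD1_c2 LD2_c14 LD3_c14)) = (LP (LK LD1_c1 LD2_c4 LD3_c10)) :=
  Lre_c IH (LK LD1_c2 LD2_c14 LD3_c14) (LK LD1_c1 LD2_c4 LD3_c10) Lrfl Lrfl
theorem f58943 : Led Lsl_bt (LP (LK LD1_c1 LD2_c4 LD3_c10)) = (LP (LK LD1_c0 LD2_c29 LD3_c19)) :=
  Lre_b IH (LK LD1_c1 LD2_c4 LD3_c10) (LK LD1_c0 LD2_c29 LD3_c19) Lrfl Lrfl
theorem f12058 : Led Lsl_bt (LP (LK LD1_c0 LD2_c46 LD3_c30)) = (LP (LK LD1_c1 LD2_c39 LD3_c56)) :=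
  Lre_b IH (LK LD1_c0 LD2_c46 LD3_c30) (LK LD1_c1 LD2_c39 LD3_c56) Lrfl Lrfl
theorem f12059 : Led Lsl_gt (LP (LK LD1_c1 LD2_c39 LD3_c56)) = (LP (LK LD1_c3 LD2_c26 LD3_c27)) :=
  Lre_g IH (LK LD1_c1 LD2_c39 LD3_c56) (LK LD1_c3 LD2_c26 LD3_c27) Lrfl Lrfl
theorem f92034 : Led Lsl_df (LP (LK LD1_c2 LD2_c14 LD3_c14)) = (LP (LK LD1_c3 LD2_c26 LD3_c27)) :=
  Lgr Lrot183 (Lpr_ct (f58944 IH) (Lpr_bt (f58943 IH) (Lpr_gt (K1.f58933 IH) (Lpr_dt (K1.f8333 IH) (Lpr_ct (K1.f8332 IH) (Lpr_bt (K1.f8331 IH) (Lpr_gt (K0.f2925 IH) (Lpr_dt (K0.f8309 IH) (Lpr_ct (K0.f3852 IH) (Lpe (K0.f3839 IH) (Lpr_gt (K0.f3957 IH) (Lpr_dt (K0.f112 IH) (Lpr_ct (K0.f113 IH) (Lpr_bt (K2.f3959 IH) (Lpr_gt (K2.f3960 IH) (Lpr_dt (K2.f90847 IH) (Lpr_ct (K2.f9904 IH) (Lpr_bt (f12058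 IH) (Lpr_gt (f12059 IH) (Lpn (LP (LK LD1_c3 LD2_c26 LD3_c27))))))))))))))))))))))
theorem f9910 : Led Lsl_bt (LP (LK LD1_c0 LD2_c1 LD3_c45)) = (LP (LK LD1_c0 LD2_c0 LD3_c60)) :=
  Lre_b IH (LK LD1_c0 LD2_c1 LD3_c45) (LK LD1_c0 LD2_c0 LD3_c60) Lrfl Lrfl
theorem f11011 : Led Lsl_ct (LP (LK LD1_c1 LD2_c8 LD3_c4)) = (LP (LK LD1_c0 LD2_c31 LD3_c12)) :=
  Lre_c IH (LK LD1_c1 LD2_c8 LD3_c4) (LK LD1_c0 LD2_c31 LD3_c12) Lrfl Lrfl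
theorem f11012 : Led Lsl_dt (LP (LK LD1_c2 LD2_c21 LD3_c48)) = (LP (LK LD1_c1 LD2_c8 LD3_c4)) :=
  Lre_d IH (LK LD1_c2 LD2_c21 LD3_c48) (LK LD1_c1 LD2_c8 LD3_c4) Lrfl Lrfl
theorem f87622 : Led Lsl_gt (LP (LK LD1_c1 LD2_c50 LD3_c42)) = (LP (LK LD1_c2 LD2_c21 LD3_c48)) :=
  Lgr Lrot190 (Lpe (f12031 IH) (Lpe (f11947 IH) (Lpr_df (K2.f87608 IH) (Lpr_gf (K2.f87571 IH) (Lpe (K2.f11006 IH) (Lpe (K0.f166 IH) (Lpe (K0.f165 IH) (Lpr_gf (K0.f10998 IH) (Lpe (K0.f5829 IH) (Lpr_cf (K0.f3929 IH) (Lpe (K0.f3899 IH) (Lpr_gf (K0.f9922 IH) (Lpe (f9910 IH) (Lpe (K0.f11007 IH) (Lpe (K0.f11008 IH) (Lpe (K1.f11009 IH) (Lpe (K2.f11010 IH) (Lpe (f11011 IH) (Lpe (f11012 IH) (Lpn (LP (LK LD1_c2 LD2_c21 LD3_c48))))))))))))))))))))))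
theorem f11264 : Led Lsl_gt (LP (LK LD1_c0 LD2_c52 LD3_c17)) = (LP (LK LD1_c0 LD2_c23 LD3_c54)) :=
  Lre_g IH (LK LD1_c0 LD2_c52 LD3_c17) (LK LD1_c0 LD2_c23 LD3_c54) Lrfl Lrfl
theorem f15201 : Led Lsl_bt (LP (LK LD1_c1 LD2_c50 LD3_c45)) = (LP (LK LD1_c0 LD2_c52 LD3_c17)) :=
  Lre_b IH (LK LD1_c1 LD2_c50 LD3_c45) (LK LD1_c0 LD2_c52 LD3_c17) Lrfl Lrfl
theorem f15077 : Led Lsl_bt (LP (LK LD1_c1 LD2_c39 LD3_c56)) = (LP (LK LD1_c0 LD2_c46 LD3_c30)) :=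
  Lre_b IH (LK LD1_c1 LD2_c39 LD3_c56) (LK LD1_c0 LD2_c46 LD3_c30) Lrfl Lrfl
theorem f15078 : Led Lsl_bt (LP (LK LD1_c0 LD2_c52 LD3_c17)) = (LP (LK LD1_c1 LD2_c50 LD3_c45)) :=
  Lre_b IH (LK LD1_c0 LD2_c52 LD3_c17) (LK LD1_c1 LD2_c50 LD3_c45) Lrfl Lrfl
theorem f15079 : Led Lsl_cf (LP (LK LD1_c1 LD2_c39 LD3_c56)) = (LP (LK LD1_c1 LD2_c50 LD3_c45)) :=
  Lgr Lrot97 (Lpr_bt (f15077 IH) (Lpr_ct (K2.f12057 IH) (Lpr_bt (f15076 IH) (Lpr_ct (f15068 IH) (Lpr_bt (f15078 IH) (Lpn (LP (LK LD1_c1 LD2_c50 LD3_c45))))))))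
theorem f14606 : Led Lsl_gt (LP (LK LD1_c3 LD2_c26 LD3_c28)) = (LP (LK LD1_c1 LD2_c39 LD3_c56)) :=
  Lre_g IH (LK LD1_c3 LD2_c26 LD3_c28) (LK LD1_c1 LD2_c39 LD3_c56) Lrfl Lrfl
theorem f15632 : Led Lsl_cf (LP (LK LD1_c3 LD2_c26 LD3_c28)) = (LP (LK LD1_c3 LD2_c26 LD3_c27)) :=
  Lgr Lrot125 (Lpr_gt (f14606 IH) (Lpr_cf (f15079 IH) (Lpr_bt (f15201 IH) (Lpr_gt (f11264 IH) (Lpr_bf (K0.f15609 IH) (Lpr_ct (K0.f9878 IH) (Lpr_gt (K2.f9903 IH) (Lpe (K2.f12057 IH) (Lpr_bt (f12058 IH) (Lpr_gt (f12059 IH) (Lpn (LP (LK LD1_c3 LD2_c26 LD3_c27)))))))))))))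
theorem f87625 : Led Lsl_bt (LP (LK LD1_c3 LD2_c26 LD3_c27)) = (LP (LK LD1_c2 LD2_c21 LD3_c48)) :=
  Lgr Lrot92 (Lpe (f15632 IH) (Lpr_gt (f14606 IH) (Lpr_cf (f15079 IH) (Lpr_bt (f15201 IH) (Lpr_gt (f11264 IH) (Lpr_ct (f11262 IH) (Lpr_gt (K2.f9901 IH) (Lpe (K2.f11958 IH) (Lpr_bt (f12031 IH) (Lpr_gt (f87622 IH) (Lpn (LP (LK LD1_c2 LD2_c21 LD3_c48)))))))))))))
theorem f87633 : Led Lsl_bf (LP (LK LD1_c3 LD2_c26 LD3_c27)) = (LP (LK LD1_c2 LD2_c21 LD3_c48)) :=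
  Lgr Lrot24 (Lpr_bt (f87625 IH) (Lpn (LP (LK LD1_c2 LD2_c21 LD3_c48))))
theorem f78112 : Led Lsl_dt (LP (LK LD1_c1 LD2_c8 LD3_c4)) = (LP (LK LD1_c2 LD2_c21 LD3_c48)) :=
  Lre_d IH (LK LD1_c1 LD2_c8 LD3_c4) (LK LD1_c2 LD2_c21 LD3_c48) Lrfl Lrfl
theorem f92046 : Led Lsl_bt (LP (LK LD1_c2 LD2_c14 LD3_c14)) = (LP (LK LD1_c1 LD2_c8 LD3_c4)) :=
  Lgr Lrot95 (Lpr_df (f92034 IH) (Lpr_bf (f87633 IH) (Lpe (f78112 IH) (Lpn (LP (LK LD1_c1 LD2_c8 LD3_c4))))))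
theorem f89825 : Led Lsl_gt (LP (LK LD1_c2 LD2_c21 LD3_c47)) = (LP (LK LD1_c1 LD2_c8 LD3_c4)) :=
  Lre_g IH (LK LD1_c2 LD2_c21 LD3_c47) (LK LD1_c1 LD2_c8 LD3_c4) Lrfl Lrfl
theorem f63809 : Led Lsl_bt (LP (LK LD1_c3 LD2_c29 LD3_c60)) = (LP (LK LD1_c1 LD2_c41 LD3_c41)) :=
  Lre_b IH (LK LD1_c3 LD2_c29 LD3_c60) (LK LD1_c1 LD2_c41 LD3_c41) Lrfl Lrfl
theorem f63801 : Led Lsl_ft (LP (LK LD1_c0 LD2_c52 LD3_c20)) = (LP (LK LD1_c1 LD2_c35 LD3_c31)) :=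
  Lre_f IH (LK LD1_c0 LD2_c52 LD3_c20) (LK LD1_c1 LD2_c35 LD3_c31) Lrfl Lrfl
theorem f15604 : Led Lsl_at (LP (LK LD1_c1 LD2_c35 LD3_c31)) = (LP (LK LD1_c0 LD2_c52 LD3_c61)) :=
  Lre_a IH (LK LD1_c1 LD2_c35 LD3_c31) (LK LD1_c0 LD2_c52 LD3_c61) Lrfl Lrfl
theorem f63802 : Led Lsl_gt (LP (LK LD1_c1 LD2_c41 LD3_c41)) = (LP (LK LD1_c0 LD2_c52 LD3_c61)) :=
  Lgr Lrot46 (Lpr_gf (f63799 IH) (Lpr_ft (f63801 IH) (Lpr_at (f15604 IH) (Lpn (LP (LK LD1_c0 LD2_c52 LD3_c61))))))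
theorem f109961 : Led Lsl_bf (LP (LK LD1_c2 LD2_c21 LD3_c47)) = (LP (LK LD1_c1 LD2_c41 LD3_c27)) :=
  Lgr Lrot156 (Lpr_gt (f89825 IH) (Lpe (f92046 IH) (Lpr_ct (f58944 IH) (Lpr_gt (f92248 IH) (Lpr_cf (f109929 IH) (Lpr_bt (f63809 IH) (Lpr_gt (f63802 IH) (Lpr_ct (f15203 IH) (Lpr_gt (f65102 IH) (Lpe (f87806 IH) (Lpn (LP (LK LD1_c1 LD2_c41 LD3_c27)))))))))))))
theorem f109972 : Led Lsl_gt (LP (LK LD1_c0 LD2_c31 LD3_c12)) = (LP (LK LD1_c1 LD2_c7 LD3_c12)) :=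
  Lgr Lrot149 (Lpe (f11011 IH) (Lpe (f89825 IH) (Lpr_bf (f109961 IH) (Lpr_ct (f87806 IH) (Lpe (f65102 IH) (Lpe (f15203 IH) (Lpr_bt (K0.f15528 IH) (Lpe (K2.f15010 IH) (Lpr_bf (f20950 IH) (Lpr_ct (f23483 IH) (Lpn (LP (LK LD1_c1 LD2_c7 LD3_c12)))))))))))))
theorem f69186 : Led Lsl_gt (LP (LK LD1_c1 LD2_c31 LD3_c49)) = (LP (LK LD1_c0 LD2_c42 LD3_c29)) :=
  Lre_g IH (LK LD1_c1 LD2_c31 LD3_c49) (LK LD1_c0 LD2_c42 LD3_c29) Lrfl Lrfl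
theorem f23481 : Led Lsl_bt (LP (LK LD1_c2 LD2_c19 LD3_c47)) = (LP (LK LD1_c1 LD2_c7 LD3_c12)) :=
  Lgr Lrot127 (Lpr_bf (f23478 IH) (Lpn (LP (LK LD1_c1 LD2_c7 LD3_c12))))
theorem f109978 : Led Lsl_cf (LP (LK LD1_c1 LD2_c31 LD3_c49)) = (LP (LK LD1_c2 LD2_c19 LD3_c47)) :=
  Lgr Lrot160 (Lpr_gt (f69186 IH) (Lpe (K2.f68985 IH) (Lpr_bt (K2.f69184 IH) (Lpe (K1.f61662 IH) (Lpr_ct (K1.f13539 IH) (Lpe (K1.f58937 IH) (Lpr_cf (K0.f26758 IH) (Lpr_bt (K2.f58948 IH) (Lpr_gt (f109972 IH) (Lpe (f23481 IH) (Lpn (LP (LK LD1_c2 LD2_c19 LD3_c47)))))))))))))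
theorem f69134 : Led Lsl_ct (LP (LK LD1_c0 LD2_c42 LD3_c29)) = (LP (LK LD1_c0 LD2_c18 LD3_c57)) :=
  Lre_c IH (LK LD1_c0 LD2_c42 LD3_c29) (LK LD1_c0 LD2_c18 LD3_c57) Lrfl Lrfl
theorem f61642 : Led Lsl_ct (LP (LK LD1_c1 LD2_c6 LD3_c40)) = (LP (LK LD1_c0 LD2_c30 LD3_c31)) :=
  Lre_c IH (LK LD1_c1 LD2_c6 LD3_c40) (LK LD1_c0 LD2_c30 LD3_c31) Lrfl Lrfl
theorem f61872 : Led Lsl_bt (LP (LK LD1_c0 LD2_c18 LD3_c31)) = (LP (LK LD1_c0 LD2_c8 LD3_c20)) :=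
  Lre_b IH (LK LD1_c0 LD2_c18 LD3_c31) (LK LD1_c0 LD2_c8 LD3_c20) Lrfl Lrfl
theorem f18152 : Led Lsl_bt (LP (LK LD1_c0 LD2_c45 LD3_c40)) = (LP (LK LD1_c1 LD2_c38 LD3_c32)) :=
  Lre_b IH (LK LD1_c0 LD2_c45 LD3_c40) (LK LD1_c1 LD2_c38 LD3_c32) Lrfl Lrfl
theorem f67045 : Led Lsl_gt (LP (LK LD1_c1 LD2_c38 LD3_c32)) = (LP (LK LD1_c1 LD2_c6 LD3_c40)) :=
  Lgr Lrot82 (Lpe (f18152 IH) (Lpr_ct (K2.f18151 IH) (Lpe (K2.f3960 IH) (Lpe (K2.f66821 IH) (Lpr_bt (f61872 IH) (Lpr_gf (K1.f67039 IH) (Lpe (f61672 IH) (Lpe (K2.f26316 IH) (Lpe (f61637 IH) (Lpe (f61642 IH) (Lpn (LP (LK LD1_c1 LD2_c6 LD3_c40)))))))))))))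
theorem f82401 : Led Lsl_dt (LP (LK LD1_c1 LD2_c38 LD3_c32)) = (LP (LK LD1_c3 LD2_c24 LD3_c18)) :=
  Lre_d IH (LK LD1_c1 LD2_c38 LD3_c32) (LK LD1_c3 LD2_c24 LD3_c18) Lrfl Lrfl
theorem f109989 : Led Lsl_gt (LP (LK LD1_c3 LD2_c24 LD3_c18)) = (LP (LK LD1_c2 LD2_c19 LD3_c47)) :=
  Lgr Lrot9 (Lpe (f82401 IH) (Lpr_gt (f67045 IH) (Lpr_ct (f61642 IH) (Lpr_gt (f61637 IH) (Lpe (K2.f82388 IH) (Lpe (K2.f61251 IH) (Lpe (f69134 IH) (Lpe (f69186 IH) (Lpr_cf (f109978 IH) (Lpn (LP (LK LD1_c2 LD2_c19 LD3_c47))))))))))))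
theorem f79611 : Led Lsl_at (LP (LK LD1_c2 LD2_c21 LD3_c0)) = (LP (LK LD1_c1 LD2_c7 LD3_c49)) :=
  Lre_a IH (LK LD1_c2 LD2_c21 LD3_c0) (LK LD1_c1 LD2_c7 LD3_c49) Lrfl Lrfl
theorem f109991 : Led Lsl_ft (LP (LK LD1_c3 LD2_c24 LD3_c18)) = (LP (LK LD1_c2 LD2_c21 LD3_c0)) :=
  Lgr Lrot2 (Lpr_gt (f109989 IH) (Lpr_gt (f104183 IH) (Lpe (f79611 IH) (Lpn (LP (LK LD1_c2 LD2_c21 LD3_c0))))))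
theorem f109997 : Led Lsl_ff (LP (LK LD1_c3 LD2_c24 LD3_c18)) = (LP (LK LD1_c2 LD2_c21 LD3_c0)) :=
  Lgr Lrot3 (Lpr_ft (f109991 IH) (Lpn (LP (LK LD1_c2 LD2_c21 LD3_c0))))
theorem f82398 : Led Lsl_dt (LP (LK LD1_c3 LD2_c24 LD3_c18)) = (LP (LK LD1_c1 LD2_c38 LD3_c32)) :=
  Lre_d IH (LK LD1_c3 LD2_c24 LD3_c18) (LK LD1_c1 LD2_c38 LD3_c32) Lrfl Lrfl
theorem f110001 : Led Lsl_ft (LP (LK LD1_c1 LD2_c38 LD3_c32)) = (LP (LK LD1_c1 LD2_c26 LD3_c52)) :=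
  Lgr Lrot54 (Lpe (f82398 IH) (Lpr_ff (f109997 IH) (Lpr_df (f79608 IH) (Lpn (LP (LK LD1_c1 LD2_c26 LD3_c52))))))
theorem f61962 : Led Lsl_ft (LP (LK LD1_c0 LD2_c40 LD3_c13)) = (LP (LK LD1_c1 LD2_c26 LD3_c41)) :=
  Lre_f IH (LK LD1_c0 LD2_c40 LD3_c13) (LK LD1_c1 LD2_c26 LD3_c41) Lrfl Lrfl
theorem f110005 : Led Lsl_cf (LP (LK LD1_c1 LD2_c38 LD3_c32)) = (LP (LK LD1_c1 LD2_c26 LD3_c41)) :=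
  Lgr Lrot108 (Lpr_ft (f110001 IH) (Lpr_ct (K1.f25016 IH) (Lpr_ft (f61962 IH) (Lpn (LP (LK LD1_c1 LD2_c26 LD3_c41))))))
theorem f61659 : Led Lsl_ct (LP (LK LD1_c0 LD2_c30 LD3_c31)) = (LP (LK LD1_c1 LD2_c6 LD3_c40)) :=
  Lre_c IH (LK LD1_c0 LD2_c30 LD3_c31) (LK LD1_c1 LD2_c6 LD3_c40) Lrfl Lrfl
theorem f61641 : Led Lsl_bt (LP (LK LD1_c0 LD2_c30 LD3_c31)) = (LP (LK LD1_c1 LD2_c6 LD3_c39)) :=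
  Lre_b IH (LK LD1_c0 LD2_c30 LD3_c31) (LK LD1_c1 LD2_c6 LD3_c39) Lrfl Lrfl
theorem f110015 : Led Lsl_bt (LP (LK LD1_c1 LD2_c26 LD3_c41)) = (LP (LK LD1_c0 LD2_c40 LD3_c8)) :=
  Lre_b IH (LK LD1_c1 LD2_c26 LD3_c41) (LK LD1_c0 LD2_c40 LD3_c8) Lrfl Lrfl
theorem f110016 : Led Lsl_gt (LP (LK LD1_c0 LD2_c18 LD3_c1)) = (LP (LK LD1_c0 LD2_c40 LD3_c8)) :=
  Lgr Lrot164 (Lpe (f13677 IH) (Lpr_ct (K0.f13651 IH) (Lpe (f99151 IH) (Lpe (f58755 IH) (Lpr_gf (f99148 IH) (Lpe (f61641 IH) (Lpr_ct (f61659 IH) (Lpe (f67045 IH) (Lpr_cf (f110005 IH) (Lpr_bt (f110015 IH) (Lpn (LP (LK LD1_c0 LD2_c40 LD3_c8)))))))))))))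
theorem f62949 : Led Lsl_dt (LP (LK LD1_c0 LD2_c18 LD3_c1)) = (LP (LK LD1_c0 LD2_c40 LD3_c16)) :=
  Lre_d IH (LK LD1_c0 LD2_c18 LD3_c1) (LK LD1_c0 LD2_c40 LD3_c16) Lrfl Lrfl
theorem f64620 : Led Lsl_df (LP (LK LD1_c1 LD2_c51 LD3_c21)) = (LP (LK LD1_c1 LD2_c41 LD3_c25)) :=
  Lgr Lrot155 (Lpr_gt (f62758 IH) (Lpr_ct (K1.f64603 IH) (Lpe (f62006 IH) (Lpr_ct (f63117 IH) (Lpe (K1.f62676 IH) (Lpe (K1.f18874 IH) (Lpe (K2.f18886 IH) (Lpe (f11451 IH) (Lpe (f63138 IH) (Lpn (LP (LK LD1_c1 LD2_c41 LD3_c25))))))))))))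
theorem f64636 : Led Lsl_gt (LP (LK LD1_c0 LD2_c47 LD3_c20)) = (LP (LK LD1_c1 LD2_c41 LD3_c25)) :=
  Lgr Lrot94 (Lpe (K2.f18884 IH) (Lpr_gt (K2.f11468 IH) (Lpr_dt (K0.f17779 IH) (Lpr_gt (K0.f3946 IH) (Lpr_dt (K1.f62667 IH) (Lpe (K1.f11856 IH) (Lpe (K1.f17455 IH) (Lpe (f62758 IH) (Lpr_df (f64620 IH) (Lpn (LP (LK LD1_c1 LD2_c41 LD3_c25))))))))))))
theorem f12053 : Led Lsl_dt (LP (LK LD1_c0 LD2_c10 LD3_c37)) = (LP (LK LD1_c0 LD2_c4 LD3_c58)) :=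
  Lre_d IH (LK LD1_c0 LD2_c10 LD3_c37) (LK LD1_c0 LD2_c4 LD3_c58) Lrfl Lrfl
theorem f14682 : Led Lsl_at (LP (LK LD1_c0 LD2_c10 LD3_c27)) = (LP (LK LD1_c0 LD2_c4 LD3_c60)) :=
  Lre_a IH (LK LD1_c0 LD2_c10 LD3_c27) (LK LD1_c0 LD2_c4 LD3_c60) Lrfl Lrfl
theorem f14691 : Led Lsl_ft (LP (LK LD1_c0 LD2_c4 LD3_c58)) = (LP (LK LD1_c0 LD2_c10 LD3_c27)) :=
  Lre_f IH (LK LD1_c0 LD2_c4 LD3_c58) (LK LD1_c0 LD2_c10 LD3_c27) Lrfl Lrfl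
theorem f95960 : Led Lsl_gt (LP (LK LD1_c0 LD2_c4 LD3_c58)) = (LP (LK LD1_c0 LD2_c10 LD3_c28)) :=
  Lgr Lrot5 (Lpr_ft (f14691 IH) (Lpr_at (f14682 IH) (Lpr_gf (f95743 IH) (Lpn (LP (LK LD1_c0 LD2_c10 LD3_c28))))))
theorem f103958 : Led Lsl_gf (LP (LK LD1_c1 LD2_c41 LD3_c33)) = (LP (LK LD1_c3 LD2_c29 LD3_c25)) :=
  Lgr Lrot143 (Lpr_dt (f64638 IH) (Lpe (K2.f18884 IH) (Lpr_df (f95967 IH) (Lpe (f95960 IH) (Lpe (f12053 IH) (Lpe (K2.f11978 IH) (Lpe (K2.f11958 IH) (Lpr_gt (f11948 IH) (Lpr_dt (f103946 IH) (Lpn (LP (LK LD1_c3 LD2_c29 LD3_c25))))))))))))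
theorem f108685 : Led Lsl_gf (LP (LK LD1_c1 LD2_c34 LD3_c30)) = (LP (LK LD1_c0 LD2_c44 LD3_c3)) :=
  Lgr Lrot154 (Lpr_dt (f65643 IH) (Lpr_ct (f108679 IH) (Lpr_df (f64620 IH) (Lpe (f64636 IH) (Lpe (f64638 IH) (Lpr_gf (f103958 IH) (Lpe (f103930 IH) (Lpe (f103830 IH) (Lpr_dt (K2.f62950 IH) (Lpn (LP (LK LD1_c0 LD2_c44 LD3_c3))))))))))))
theorem f108690 : Led Lsl_ct (LP (LK LD1_c1 LD2_c34 LD3_c30)) = (LP (LK LD1_c1 LD2_c40 LD3_c59)) :=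
  Lgr Lrot152 (Lpr_gf (f108685 IH) (Lpe (K2.f62950 IH) (Lpe (f66120 IH) (Lpe (f96178 IH) (Lpr_gt (f87853 IH) (Lpr_ct (f87806 IH) (Lpe (f58414 IH) (Lpr_cf (f95715 IH) (Lpe (f95730 IH) (Lpn (LP (LK LD1_c1 LD2_c40 LD3_c59))))))))))))
theorem f17736 : Led Lsl_dt (LP (LK LD1_c1 LD2_c40 LD3_c59)) = (LP (LK LD1_c0 LD2_c46 LD3_c61)) :=
  Lre_d IH (LK LD1_c1 LD2_c40 LD3_c59) (LK LD1_c0 LD2_c46 LD3_c61) Lrfl Lrfl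
theorem f110025 : Led Lsl_cf (LP (LK LD1_c0 LD2_c45 LD3_c39)) = (LP (LK LD1_c0 LD2_c40 LD3_c8)) :=
  Lgr Lrot169 (Lpr_gt (f95140 IH) (Lpe (K0.f9930 IH) (Lpe (f17736 IH) (Lpe (f108690 IH) (Lpr_gf (f108685 IH) (Lpe (K2.f62852 IH) (Lpe (K1.f62849 IH) (Lpe (f62949 IH) (Lpr_gt (f110016 IH) (Lpn (LP (LK LD1_c0 LD2_c40 LD3_c8))))))))))))
theorem f61999 : Led Lsl_ft (LP (LK LD1_c0 LD2_c18 LD3_c0)) = (LP (LK LD1_c0 LD2_c40 LD3_c8)) :=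
  Lre_f IH (LK LD1_c0 LD2_c18 LD3_c0) (LK LD1_c0 LD2_c40 LD3_c8) Lrfl Lrfl
theorem f110042 : Led Lsl_ft (LP (LK LD1_c0 LD2_c45 LD3_c39)) = (LP (LK LD1_c0 LD2_c40 LD3_c14)) :=
  Lgr Lrot4 (Lpr_cf (f110025 IH) (Lpe (f61999 IH) (Lpe (K2.f18903 IH) (Lpn (LP (LK LD1_c0 LD2_c40 LD3_c14))))))
theorem f110050 : Led Lsl_af (LP (LK LD1_c0 LD2_c49 LD3_c3)) = (LP (LK LD1_c0 LD2_c40 LD3_c14)) :=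
  Lgr Lrot31 (Lpe (f17776 IH) (Lpe (f95140 IH) (Lpr_ft (f110042 IH) (Lpn (LP (LK LD1_c0 LD2_c40 LD3_c14))))))
theorem f110056 : Led Lsl_at (LP (LK LD1_c1 LD2_c44 LD3_c48)) = (LP (LK LD1_c0 LD2_c52 LD3_c50)) :=
  Lgr Lrot51 (Lpe (f17777 IH) (Lpr_af (f110050 IH) (Lpr_df (f62001 IH) (Lpn (LP (LK LD1_c0 LD2_c52 LD3_c50))))))
theorem f110064 : Led Lsl_ff (LP (LK LD1_c1 LD2_c44 LD3_c48)) = (LP (LK LD1_c0 LD2_c52 LD3_c46)) :=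
  Lgr Lrot52 (Lpr_at (f110056 IH) (Lpe (f12331 IH) (Lpr_gf (f65960 IH) (Lpn (LP (LK LD1_c0 LD2_c52 LD3_c46))))))
theorem f110074 : Led Lsl_ft (LP (LK LD1_c1 LD2_c44 LD3_c48)) = (LP (LK LD1_c0 LD2_c52 LD3_c46)) :=
  Lgr Lrot48 (Lpr_ff (f110064 IH) (Lpn (LP (LK LD1_c0 LD2_c52 LD3_c46))))
theorem f91236 : Led Lsl_cf (LP (LK LD1_c1 LD2_c44 LD3_c48)) = (LP (LK LD1_c0 LD2_c52 LD3_c18)) :=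
  Lgr Lrot14 (Lpe (f17777 IH) (Lpe (f17776 IH) (Lpe (f17743 IH) (Lpr_gf (K2.f91232 IH) (Lpr_ct (K2.f23664 IH) (Lpr_gt (K2.f65785 IH) (Lpr_dt (K1.f18615 IH) (Lpr_gt (f63716 IH) (Lpr_dt (f63721 IH) (Lpn (LP (LK LD1_c0 LD2_c52 LD3_c18))))))))))))
theorem f110078 : Led Lsl_ff (LP (LK LD1_c0 LD2_c52 LD3_c18)) = (LP (LK LD1_c0 LD2_c23 LD3_c49)) :=
  Lgr Lrot23 (Lpe (f91236 IH) (Lpr_ft (f110074 IH) (Lpr_ct (K2.f11543 IH) (Lpn (LP (LK LD1_c0 LD2_c23 LD3_c49))))))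
theorem f110087 : Led Lsl_at (LP (LK LD1_c0 LD2_c52 LD3_c18)) = (LP (LK LD1_c0 LD2_c23 LD3_c50)) :=
  Lgr Lrot26 (Lpr_ff (f110078 IH) (Lpr_gt (K1.f14680 IH) (Lpr_gt (K0.f12209 IH) (Lpn (LP (LK LD1_c0 LD2_c23 LD3_c50))))))
theorem f63710 : Led Lsl_et (LP (LK LD1_c1 LD2_c50 LD3_c50)) = (LP (LK LD1_c0 LD2_c52 LD3_c18)) :=
  Lre_e IH (LK LD1_c1 LD2_c50 LD3_c50) (LK LD1_c0 LD2_c52 LD3_c18) Lrfl Lrfl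
theorem f64935 : Led Lsl_et (LP (LK LD1_c0 LD2_c23 LD3_c50)) = (LP (LK LD1_c0 LD2_c52 LD3_c52)) :=
  Lre_e IH (LK LD1_c0 LD2_c23 LD3_c50) (LK LD1_c0 LD2_c52 LD3_c52) Lrfl Lrfl
theorem f110095 : Led Lsl_af (LP (LK LD1_c1 LD2_c50 LD3_c50)) = (LP (LK LD1_c0 LD2_c52 LD3_c52)) :=
  Lgr Lrot50 (Lpr_et (f63710 IH) (Lpr_at (f110087 IH) (Lpr_et (f64935 IH) (Lpn (LP (LK LD1_c0 LD2_c52 LD3_c52))))))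
theorem f63711 : Led Lsl_dt (LP (LK LD1_c1 LD2_c50 LD3_c50)) = (LP (LK LD1_c3 LD2_c47 LD3_c28)) :=
  Lre_d IH (LK LD1_c1 LD2_c50 LD3_c50) (LK LD1_c3 LD2_c47 LD3_c28) Lrfl Lrfl
theorem f12323 : Led Lsl_dt (LP (LK LD1_c1 LD2_c52 LD3_c14)) = (LP (LK LD1_c0 LD2_c52 LD3_c52)) :=
  Lre_d IH (LK LD1_c1 LD2_c52 LD3_c14) (LK LD1_c0 LD2_c52 LD3_c52) Lrfl Lrfl
theorem f110105 : Led Lsl_at (LP (LK LD1_c3 LD2_c47 LD3_c28)) = (LP (LK LD1_c1 LD2_c52 LD3_c14)) :=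
  Lgr Lrot51 (Lpe (f63711 IH) (Lpr_af (f110095 IH) (Lpe (f12323 IH) (Lpn (LP (LK LD1_c1 LD2_c52 LD3_c14))))))
theorem f110121 : Led Lsl_et (LP (LK LD1_c7 LD2_c35 LD3_c47)) = (LP (LK LD1_c3 LD2_c47 LD3_c28)) :=
  Lre_e IH (LK LD1_c7 LD2_c35 LD3_c47) (LK LD1_c3 LD2_c47 LD3_c28) Lrfl Lrfl
theorem f110122 : Led Lsl_et (LP (LK LD1_c1 LD2_c52 LD3_c14)) = (LP (LK LD1_c3 LD2_c50 LD3_c41)) :=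
  Lre_e IH (LK LD1_c1 LD2_c52 LD3_c14) (LK LD1_c3 LD2_c50 LD3_c41) Lrfl Lrfl
theorem f110123 : Led Lsl_af (LP (LK LD1_c7 LD2_c35 LD3_c47)) = (LP (LK LD1_c3 LD2_c50 LD3_c41)) :=
  Lgr Lrot50 (Lpr_et (f110121 IH) (Lpr_at (f110105 IH) (Lpr_et (f110122 IH) (Lpn (LP (LK LD1_c3 LD2_c50 LD3_c41))))))
theorem f93589 : Led Lsl_ft (LP (LK LD1_c7 LD2_c35 LD3_c47)) = (LP (LK LD1_c14 LD2_c19 LD3_c17)) :=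
  Lre_f IH (LK LD1_c7 LD2_c35 LD3_c47) (LK LD1_c14 LD2_c19 LD3_c17) Lrfl Lrfl
theorem f66239 : Led Lsl_ft (LP (LK LD1_c7 LD2_c42 LD3_c31)) = (LP (LK LD1_c3 LD2_c50 LD3_c41)) :=
  Lre_f IH (LK LD1_c7 LD2_c42 LD3_c31) (LK LD1_c3 LD2_c50 LD3_c41) Lrfl Lrfl
theorem f110133 : Led Lsl_at (LP (LK LD1_c14 LD2_c19 LD3_c17)) = (LP (LK LD1_c7 LD2_c42 LD3_c31)) :=
  Lgr Lrot66 (Lpe (f93589 IH) (Lpr_af (f110123 IH) (Lpe (f66239 IH) (Lpn (LP (LK LD1_c7 LD2_c42 LD3_c31))))))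
theorem f93583 : Led Lsl_dt (LP (LK LD1_c7 LD2_c35 LD3_c48)) = (LP (LK LD1_c14 LD2_c19 LD3_c17)) :=
  Lre_d IH (LK LD1_c7 LD2_c35 LD3_c48) (LK LD1_c14 LD2_c19 LD3_c17) Lrfl Lrfl
theorem f66237 : Led Lsl_dt (LP (LK LD1_c7 LD2_c42 LD3_c31)) = (LP (LK LD1_c3 LD2_c50 LD3_c42)) :=
  Lre_d IH (LK LD1_c7 LD2_c42 LD3_c31) (LK LD1_c3 LD2_c50 LD3_c42) Lrfl Lrfl
theorem f110144 : Led Lsl_af (LP (LK LD1_c7 LD2_c35 LD3_c48)) = (LP (LK LD1_c3 LD2_c50 LD3_c42)) :=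
  Lgr Lrot117 (Lpr_dt (f93583 IH) (Lpr_at (f110133 IH) (Lpr_dt (f66237 IH) (Lpn (LP (LK LD1_c3 LD2_c50 LD3_c42))))))
theorem f63726 : Led Lsl_et (LP (LK LD1_c3 LD2_c47 LD3_c27)) = (LP (LK LD1_c1 LD2_c50 LD3_c49)) :=
  Lre_e IH (LK LD1_c3 LD2_c47 LD3_c27) (LK LD1_c1 LD2_c50 LD3_c49) Lrfl Lrfl
theorem f93547 : Led Lsl_et (LP (LK LD1_c3 LD2_c15 LD3_c60)) = (LP (LK LD1_c6 LD2_c35 LD3_c17)) :=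
  Lre_e IH (LK LD1_c3 LD2_c15 LD3_c60) (LK LD1_c6 LD2_c35 LD3_c17) Lrfl Lrfl
theorem f93548 : Led Lsl_cf (LP (LK LD1_c3 LD2_c47 LD3_c27)) = (LP (LK LD1_c6 LD2_c35 LD3_c17)) :=
  Lgr Lrot39 (Lpr_et (f63726 IH) (Lpr_ct (f93520 IH) (Lpr_et (f93547 IH) (Lpn (LP (LK LD1_c6 LD2_c35 LD3_c17))))))
theorem f93568 : Led Lsl_ft (LP (LK LD1_c3 LD2_c47 LD3_c27)) = (LP (LK LD1_c7 LD2_c35 LD3_c48)) :=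
  Lre_f IH (LK LD1_c3 LD2_c47 LD3_c27) (LK LD1_c7 LD2_c35 LD3_c48) Lrfl Lrfl
theorem f93569 : Led Lsl_ft (LP (LK LD1_c12 LD2_c36 LD3_c39)) = (LP (LK LD1_c6 LD2_c35 LD3_c17)) :=
  Lre_f IH (LK LD1_c12 LD2_c36 LD3_c39) (LK LD1_c6 LD2_c35 LD3_c17) Lrfl Lrfl
theorem f93570 : Led Lsl_ct (LP (LK LD1_c7 LD2_c35 LD3_c48)) = (LP (LK LD1_c12 LD2_c36 LD3_c39)) :=
  Lgr Lrot40 (Lpe (f93568 IH) (Lpr_cf (f93548 IH) (Lpe (f93569 IH) (Lpn (LP (LK LD1_c12 LD2_c36 LD3_c39))))))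
theorem f66122 : Led Lsl_et (LP (LK LD1_c1 LD2_c35 LD3_c2)) = (LP (LK LD1_c3 LD2_c16 LD3_c48)) :=
  Lre_e IH (LK LD1_c1 LD2_c35 LD3_c2) (LK LD1_c3 LD2_c16 LD3_c48) Lrfl Lrfl
theorem f64920 : Led Lsl_et (LP (LK LD1_c1 LD2_c52 LD3_c13)) = (LP (LK LD1_c0 LD2_c52 LD3_c51)) :=
  Lre_e IH (LK LD1_c1 LD2_c52 LD3_c13) (LK LD1_c0 LD2_c52 LD3_c51) Lrfl Lrfl
theorem f66162 : Led Lsl_ct (LP (LK LD1_c3 LD2_c16 LD3_c48)) = (LP (LK LD1_c1 LD2_c52 LD3_c13)) :=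
  Lgr Lrot15 (Lpe (f66122 IH) (Lpr_cf (f66156 IH) (Lpe (f64920 IH) (Lpn (LP (LK LD1_c1 LD2_c52 LD3_c13))))))
theorem f66174 : Led Lsl_ft (LP (LK LD1_c6 LD2_c36 LD3_c59)) = (LP (LK LD1_c3 LD2_c16 LD3_c48)) :=
  Lre_f IH (LK LD1_c6 LD2_c36 LD3_c59) (LK LD1_c3 LD2_c16 LD3_c48) Lrfl Lrfl
theorem f66175 : Led Lsl_ft (LP (LK LD1_c1 LD2_c52 LD3_c13)) = (LP (LK LD1_c3 LD2_c50 LD3_c42)) :=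
  Lre_f IH (LK LD1_c1 LD2_c52 LD3_c13) (LK LD1_c3 LD2_c50 LD3_c42) Lrfl Lrfl
theorem f66176 : Led Lsl_cf (LP (LK LD1_c6 LD2_c36 LD3_c59)) = (LP (LK LD1_c3 LD2_c50 LD3_c42)) :=
  Lgr Lrot108 (Lpr_ft (f66174 IH) (Lpr_ct (f66162 IH) (Lpr_ft (f66175 IH) (Lpn (LP (LK LD1_c3 LD2_c50 LD3_c42))))))
theorem f66234 : Led Lsl_ct (LP (LK LD1_c6 LD2_c36 LD3_c59)) = (LP (LK LD1_c3 LD2_c50 LD3_c42)) :=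
  Lgr Lrot59 (Lpr_cf (f66176 IH) (Lpn (LP (LK LD1_c3 LD2_c50 LD3_c42))))
theorem f110153 : Led Lsl_at (LP (LK LD1_c12 LD2_c36 LD3_c39)) = (LP (LK LD1_c6 LD2_c36 LD3_c59)) :=
  Lgr Lrot107 (Lpe (f93570 IH) (Lpr_af (f110144 IH) (Lpe (f66234 IH) (Lpn (LP (LK LD1_c6 LD2_c36 LD3_c59))))))
theorem f93585 : Led Lsl_ft (LP (LK LD1_c6 LD2_c35 LD3_c17)) = (LP (LK LD1_c12 LD2_c36 LD3_c39)) :=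
  Lre_f IH (LK LD1_c6 LD2_c35 LD3_c17) (LK LD1_c12 LD2_c36 LD3_c39) Lrfl Lrfl
theorem f110165 : Led Lsl_af (LP (LK LD1_c6 LD2_c35 LD3_c17)) = (LP (LK LD1_c3 LD2_c16 LD3_c48)) :=
  Lgr Lrot45 (Lpr_ft (f93585 IH) (Lpr_at (f110153 IH) (Lpr_ft (f66174 IH) (Lpn (LP (LK LD1_c3 LD2_c16 LD3_c48))))))
theorem f93555 : Led Lsl_et (LP (LK LD1_c6 LD2_c35 LD3_c17)) = (LP (LK LD1_c3 LD2_c15 LD3_c60)) :=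
  Lre_e IH (LK LD1_c6 LD2_c35 LD3_c17) (LK LD1_c3 LD2_c15 LD3_c60) Lrfl Lrfl
theorem f110171 : Led Lsl_at (LP (LK LD1_c3 LD2_c15 LD3_c60)) = (LP (LK LD1_c1 LD2_c35 LD3_c2)) :=
  Lgr Lrot80 (Lpe (f93555 IH) (Lpr_af (f110165 IH) (Lpe (f66122 IH) (Lpn (LP (LK LD1_c1 LD2_c35 LD3_c2))))))
theorem f110177 : Led Lsl_ff (LP (LK LD1_c3 LD2_c15 LD3_c60)) = (LP (LK LD1_c1 LD2_c35 LD3_c12)) :=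
  Lgr Lrot52 (Lpr_at (f110171 IH) (Lpe (f64477 IH) (Lpe (f103614 IH) (Lpn (LP (LK LD1_c1 LD2_c35 LD3_c12))))))
theorem f110185 : Led Lsl_ft (LP (LK LD1_c3 LD2_c15 LD3_c60)) = (LP (LK LD1_c1 LD2_c35 LD3_c12)) :=
  Lgr Lrot48 (Lpr_ff (f110177 IH) (Lpn (LP (LK LD1_c1 LD2_c35 LD3_c12))))
theorem f65012 : Led Lsl_ct (LP (LK LD1_c1 LD2_c34 LD3_c45)) = (LP (LK LD1_c0 LD2_c44 LD3_c7)) :=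
  Lre_c IH (LK LD1_c1 LD2_c34 LD3_c45) (LK LD1_c0 LD2_c44 LD3_c7) Lrfl Lrfl
theorem f65181 : Led Lsl_dt (LP (LK LD1_c0 LD2_c43 LD3_c56)) = (LP (LK LD1_c1 LD2_c34 LD3_c32)) :=
  Lre_d IH (LK LD1_c0 LD2_c43 LD3_c56) (LK LD1_c1 LD2_c34 LD3_c32) Lrfl Lrfl
theorem f93550 : Led Lsl_gf (LP (LK LD1_c3 LD2_c15 LD3_c31)) = (LP (LK LD1_c3 LD2_c15 LD3_c60)) :=
  Lgr Lrot148 (Lpr_dt (f65644 IH) (Lpr_gt (f65642 IH) (Lpr_dt (f65181 IH) (Lpr_ct (f65706 IH) (Lpe (K2.f65708 IH) (Lpr_gf (K2.f65776 IH) (Lpe (K1.f62806 IH) (Lpr_gf (f63714 IH) (Lpr_ct (f93520 IH) (Lpn (LP (LK LD1_c3 LD2_c15 LD3_c60))))))))))))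
theorem f12563 : Led Lsl_dt (LP (LK LD1_c3 LD2_c45 LD3_c5)) = (LP (LK LD1_c1 LD2_c49 LD3_c39)) :=
  Lre_d IH (LK LD1_c3 LD2_c45 LD3_c5) (LK LD1_c1 LD2_c49 LD3_c39) Lrfl Lrfl
theorem f96052 : Led Lsl_ct (LP (LK LD1_c3 LD2_c1 LD3_c50)) = (LP (LK LD1_c1 LD2_c41 LD3_c41)) :=
  Lgr Lrot59 (Lpr_cf (f96043 IH) (Lpn (LP (LK LD1_c1 LD2_c41 LD3_c41))))
theorem f15614 : Led Lsl_dt (LP (LK LD1_c0 LD2_c44 LD3_c9)) = (LP (LK LD1_c1 LD2_c34 LD3_c53)) :=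
  Lre_d IH (LK LD1_c0 LD2_c44 LD3_c9) (LK LD1_c1 LD2_c34 LD3_c53) Lrfl Lrfl
theorem f63862 : Led Lsl_gt (LP (LK LD1_c0 LD2_c44 LD3_c8)) = (LP (LK LD1_c0 LD2_c19 LD3_c42)) :=
  Lre_g IH (LK LD1_c0 LD2_c44 LD3_c8) (LK LD1_c0 LD2_c19 LD3_c42) Lrfl Lrfl
theorem f63863 : Led Lsl_ct (LP (LK LD1_c1 LD2_c34 LD3_c48)) = (LP (LK LD1_c0 LD2_c44 LD3_c8)) :=
  Lre_c IH (LK LD1_c1 LD2_c34 LD3_c48) (LK LD1_c0 LD2_c44 LD3_c8) Lrfl Lrfl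
theorem f96619 : Led Lsl_gt (LP (LK LD1_c1 LD2_c49 LD3_c39)) = (LP (LK LD1_c1 LD2_c34 LD3_c48)) :=
  Lgr Lrot9 (Lpe (f12563 IH) (Lpr_gt (f96615 IH) (Lpr_ct (f96052 IH) (Lpr_gt (f63802 IH) (Lpr_ct (f15203 IH) (Lpe (f15614 IH) (Lpe (f63843 IH) (Lpe (f63862 IH) (Lpe (f63863 IH) (Lpn (LP (LK LD1_c1 LD2_c34 LD3_c48))))))))))))
theorem f96228 : Led Lsl_gf (LP (LK LD1_c3 LD2_c45 LD3_c5)) = (LP (LK LD1_c3 LD2_c1 LD3_c55)) :=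
  Lgr Lrot143 (Lpr_dt (f12563 IH) (Lpe (f12487 IH) (Lpe (f12409 IH) (Lpe (K0.f5713 IH) (Lpe (K1.f62853 IH) (Lpe (f62948 IH) (Lpe (f65257 IH) (Lpr_gt (f96194 IH) (Lpr_dt (f63846 IH) (Lpn (LP (LK LD1_c3 LD2_c1 LD3_c55))))))))))))
theorem f15083 : Led Lsl_dt (LP (LK LD1_c0 LD2_c52 LD3_c17)) = (LP (LK LD1_c1 LD2_c50 LD3_c46)) :=
  Lre_d IH (LK LD1_c0 LD2_c52 LD3_c17) (LK LD1_c1 LD2_c50 LD3_c46) Lrfl Lrfl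
theorem f96621 : Led Lsl_dt (LP (LK LD1_c1 LD2_c34 LD3_c48)) = (LP (LK LD1_c3 LD2_c16 LD3_c5)) :=
  Lre_d IH (LK LD1_c1 LD2_c34 LD3_c48) (LK LD1_c3 LD2_c16 LD3_c5) Lrfl Lrfl
theorem f96624 : Led Lsl_cf (LP (LK LD1_c1 LD2_c50 LD3_c46)) = (LP (LK LD1_c3 LD2_c16 LD3_c5)) :=
  Lgr Lrot14 (Lpe (f15083 IH) (Lpe (f11980 IH) (Lpe (f15271 IH) (Lpr_gf (K1.f65003 IH) (Lpe (f65104 IH) (Lpe (f96228 IH) (Lpr_dt (f12563 IH) (Lpr_gt (f96619 IH) (Lpr_dt (f96621 IH) (Lpn (LP (LK LD1_c3 LD2_c16 LD3_c5))))))))))))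
theorem f62842 : Led Lsl_ct (LP (LK LD1_c3 LD2_c2 LD3_c9)) = (LP (LK LD1_c1 LD2_c41 LD3_c16)) :=
  Lre_c IH (LK LD1_c3 LD2_c2 LD3_c9) (LK LD1_c1 LD2_c41 LD3_c16) Lrfl Lrfl
theorem f93465 : Led Lsl_dt (LP (LK LD1_c3 LD2_c16 LD3_c11)) = (LP (LK LD1_c1 LD2_c34 LD3_c51)) :=
  Lre_d IH (LK LD1_c3 LD2_c16 LD3_c11) (LK LD1_c1 LD2_c34 LD3_c51) Lrfl Lrfl
theorem f15089 : Led Lsl_dt (LP (LK LD1_c1 LD2_c50 LD3_c46)) = (LP (LK LD1_c0 LD2_c52 LD3_c17)) :=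
  Lre_d IH (LK LD1_c1 LD2_c50 LD3_c46) (LK LD1_c0 LD2_c52 LD3_c17) Lrfl Lrfl
theorem f93466 : Led Lsl_gt (LP (LK LD1_c1 LD2_c41 LD3_c16)) = (LP (LK LD1_c1 LD2_c50 LD3_c46)) :=
  Lgr Lrot94 (Lpe (f62842 IH) (Lpr_gt (f93458 IH) (Lpr_dt (f93465 IH) (Lpr_gt (f15615 IH) (Lpr_dt (f15614 IH) (Lpe (f15203 IH) (Lpe (K0.f15088 IH) (Lpe (f11264 IH) (Lpe (f15089 IH) (Lpn (LP (LK LD1_c1 LD2_c50 LD3_c46))))))))))))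
theorem f63127 : Led Lsl_ft (LP (LK LD1_c1 LD2_c40 LD3_c45)) = (LP (LK LD1_c0 LD2_c47 LD3_c14)) :=
  Lre_f IH (LK LD1_c1 LD2_c40 LD3_c45) (LK LD1_c0 LD2_c47 LD3_c14) Lrfl Lrfl
theorem f63128 : Led Lsl_ft (LP (LK LD1_c1 LD2_c41 LD3_c16)) = (LP (LK LD1_c1 LD2_c52 LD3_c2)) :=
  Lgr Lrot54 (Lpe (f62839 IH) (Lpe (f63127 IH) (Lpr_df (K1.f62676 IH) (Lpn (LP (LK LD1_c1 LD2_c52 LD3_c2))))))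
theorem f63371 : Led Lsl_ct (LP (LK LD1_c13 LD2_c20 LD3_c58)) = (LP (LK LD1_c22 LD2_c37 LD3_c25)) :=
  Lre_c IH (LK LD1_c13 LD2_c20 LD3_c58) (LK LD1_c22 LD2_c37 LD3_c25) Lrfl Lrfl
theorem f18315 : Led Lsl_ft (LP (LK LD1_c7 LD2_c2 LD3_c21)) = (LP (LK LD1_c3 LD2_c30 LD3_c18)) :=
  Lre_f IH (LK LD1_c7 LD2_c2 LD3_c21) (LK LD1_c3 LD2_c30 LD3_c18) Lrfl Lrfl
theorem f63380 : Led Lsl_at (LP (LK LD1_c3 LD2_c30 LD3_c18)) = (LP (LK LD1_c3 LD2_c50 LD3_c14)) :=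
  Lgr Lrot33 (Lpe (f18315 IH) (Lpr_dt (K1.f63372 IH) (Lpr_ct (f63371 IH) (Lpr_dt (K2.f63353 IH) (Lpr_ct (K2.f63354 IH) (Lpr_dt (K2.f63355 IH) (Lpr_ct (K2.f63356 IH) (Lpr_dt (K2.f63357 IH) (Lpr_ct (K2.f63358 IH) (Lpn (LP (LK LD1_c3 LD2_c50 LD3_c14))))))))))))
theorem f18314 : Led Lsl_et (LP (LK LD1_c1 LD2_c41 LD3_c49)) = (LP (LK LD1_c3 LD2_c30 LD3_c18)) :=
  Lre_e IH (LK LD1_c1 LD2_c41 LD3_c49) (LK LD1_c3 LD2_c30 LD3_c18) Lrfl Lrfl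
theorem f63395 : Led Lsl_af (LP (LK LD1_c1 LD2_c41 LD3_c49)) = (LP (LK LD1_c1 LD2_c52 LD3_c2)) :=
  Lgr Lrot50 (Lpr_et (f18314 IH) (Lpr_at (f63380 IH) (Lpr_et (K1.f63123 IH) (Lpn (LP (LK LD1_c1 LD2_c52 LD3_c2))))))
theorem f93476 : Led Lsl_gf (LP (LK LD1_c1 LD2_c41 LD3_c49)) = (LP (LK LD1_c1 LD2_c50 LD3_c46)) :=
  Lgr Lrot76 (Lpr_af (f63395 IH) (Lpe (f63128 IH) (Lpr_gt (f93466 IH) (Lpn (LP (LK LD1_c1 LD2_c50 LD3_c46))))))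
theorem f19122 : Led Lsl_ct (LP (LK LD1_c1 LD2_c41 LD3_c49)) = (LP (LK LD1_c3 LD2_c1 LD3_c43)) :=
  Lre_c IH (LK LD1_c1 LD2_c41 LD3_c49) (LK LD1_c3 LD2_c1 LD3_c43) Lrfl Lrfl
theorem f96672 : Led Lsl_gt (LP (LK LD1_c3 LD2_c15 LD3_c31)) = (LP (LK LD1_c3 LD2_c16 LD3_c5)) :=
  Lgr Lrot9 (Lpe (f65643 IH) (Lpr_gt (f65642 IH) (Lpr_ct (K2.f65270 IH) (Lpr_gt (K1.f65387 IH) (Lpr_ct (K1.f62953 IH) (Lpe (f62957 IH) (Lpe (f19122 IH) (Lpr_gf (f93476 IH) (Lpr_cf (f96624 IH) (Lpn (LP (LK LD1_c3 LD2_c16 LD3_c5))))))))))))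
theorem f110195 : Led Lsl_af (LP (LK LD1_c3 LD2_c16 LD3_c5)) = (LP (LK LD1_c1 LD2_c35 LD3_c12)) :=
  Lgr Lrot31 (Lpe (f96672 IH) (Lpr_gf (f93550 IH) (Lpr_ft (f110185 IH) (Lpn (LP (LK LD1_c1 LD2_c35 LD3_c12))))))
theorem f96232 : Led Lsl_cf (LP (LK LD1_c1 LD2_c41 LD3_c38)) = (LP (LK LD1_c3 LD2_c1 LD3_c55)) :=
  Lgr Lrot14 (Lpe (K1.f18138 IH) (Lpe (K1.f4467 IH) (Lpe (K2.f11311 IH) (Lpe (K1.f64905 IH) (Lpe (f66156 IH) (Lpr_gt (f64911 IH) (Lpe (f96230 IH) (Lpr_gt (f96194 IH) (Lpr_dt (f63846 IH) (Lpn (LP (LK LD1_c3 LD2_c1 LD3_c55))))))))))))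
theorem f96622 : Led Lsl_ct (LP (LK LD1_c1 LD2_c50 LD3_c46)) = (LP (LK LD1_c3 LD2_c16 LD3_c5)) :=
  Lgr Lrot7 (Lpe (f15083 IH) (Lpe (f11980 IH) (Lpe (f15271 IH) (Lpr_gf (K1.f65003 IH) (Lpr_cf (f96232 IH) (Lpe (f96228 IH) (Lpr_dt (f12563 IH) (Lpr_gt (f96619 IH) (Lpr_dt (f96621 IH) (Lpn (LP (LK LD1_c3 LD2_c16 LD3_c5))))))))))))
theorem f110197 : Led Lsl_dt (LP (LK LD1_c0 LD2_c44 LD3_c7)) = (LP (LK LD1_c0 LD2_c40 LD3_c8)) :=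
  Lgr Lrot32 (Lpe (f65012 IH) (Lpe (f93519 IH) (Lpr_ft (f110185 IH) (Lpe (f110195 IH) (Lpe (f96622 IH) (Lpe (f15083 IH) (Lpe (f15068 IH) (Lpe (f90852 IH) (Lpr_cf (f110025 IH) (Lpn (LP (LK LD1_c0 LD2_c40 LD3_c8))))))))))))
theorem f63844 : Led Lsl_dt (LP (LK LD1_c0 LD2_c8 LD3_c50)) = (LP (LK LD1_c0 LD2_c19 LD3_c42)) :=
  Lre_d IH (LK LD1_c0 LD2_c8 LD3_c50) (LK LD1_c0 LD2_c19 LD3_c42) Lrfl Lrfl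
theorem f103574 : Led Lsl_ft (LP (LK LD1_c0 LD2_c8 LD3_c52)) = (LP (LK LD1_c0 LD2_c3 LD3_c60)) :=
  Lre_f IH (LK LD1_c0 LD2_c8 LD3_c52) (LK LD1_c0 LD2_c3 LD3_c60) Lrfl Lrfl
theorem f103575 : Led Lsl_at (LP (LK LD1_c0 LD2_c3 LD3_c60)) = (LP (LK LD1_c0 LD2_c8 LD3_c50)) :=
  Lre_a IH (LK LD1_c0 LD2_c3 LD3_c60) (LK LD1_c0 LD2_c8 LD3_c50) Lrfl Lrfl
theorem f103576 : Led Lsl_gf (LP (LK LD1_c0 LD2_c8 LD3_c50)) = (LP (LK LD1_c0 LD2_c19 LD3_c37)) :=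
  Lgr Lrot76 (Lpe (f103575 IH) (Lpe (f103574 IH) (Lpr_gt (f103568 IH) (Lpn (LP (LK LD1_c0 LD2_c19 LD3_c37))))))
theorem f103564 : Led Lsl_dt (LP (LK LD1_c0 LD2_c46 LD3_c8)) = (LP (LK LD1_c1 LD2_c39 LD3_c19)) :=
  Lre_d IH (LK LD1_c0 LD2_c46 LD3_c8) (LK LD1_c1 LD2_c39 LD3_c19) Lrfl Lrfl
theorem f84651 : Led Lsl_bt (LP (LK LD1_c1 LD2_c38 LD3_c32)) = (LP (LK LD1_c0 LD2_c45 LD3_c40)) :=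
  Lre_b IH (LK LD1_c1 LD2_c38 LD3_c32) (LK LD1_c0 LD2_c45 LD3_c40) Lrfl Lrfl
theorem f79614 : Led Lsl_bt (LP (LK LD1_c0 LD2_c40 LD3_c8)) = (LP (LK LD1_c1 LD2_c26 LD3_c41)) :=
  Lre_b IH (LK LD1_c0 LD2_c40 LD3_c8) (LK LD1_c1 LD2_c26 LD3_c41) Lrfl Lrfl
theorem f110011 : Led Lsl_ct (LP (LK LD1_c0 LD2_c45 LD3_c39)) = (LP (LK LD1_c0 LD2_c40 LD3_c8)) :=
  Lgr Lrot83 (Lpe (f90851 IH) (Lpe (K2.f18151 IH) (Lpe (f84651 IH) (Lpr_cf (f110005 IH) (Lpe (f79614 IH) (Lpn (LP (LK LD1_c0 LD2_c40 LD3_c8))))))))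
theorem f110214 : Led Lsl_gt (LP (LK LD1_c1 LD2_c39 LD3_c19)) = (LP (LK LD1_c0 LD2_c46 LD3_c29)) :=
  Lgr Lrot49 (Lpe (f103564 IH) (Lpr_gf (f103560 IH) (Lpe (f103492 IH) (Lpe (f103576 IH) (Lpr_dt (f63844 IH) (Lpr_gt (f93517 IH) (Lpr_dt (f110197 IH) (Lpe (f110011 IH) (Lpr_df (f92026 IH) (Lpn (LP (LK LD1_c0 LD2_c46 LD3_c29))))))))))))
theorem f89301 : Led Lsl_df (LP (LK LD1_c1 LD2_c41 LD3_c24)) = (LP (LK LD1_c1 LD2_c51 LD3_c20)) :=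
  Lgr Lrot155 (Lpe (K2.f89299 IH) (Lpr_ct (K2.f64296 IH) (Lpr_gt (K2.f11468 IH) (Lpr_ct (K2.f4466 IH) (Lpr_dt (K1.f63494 IH) (Lpe (K1.f63115 IH) (Lpe (K2.f87353 IH) (Lpr_cf (K2.f84974 IH) (Lpr_gf (K2.f89295 IH) (Lpn (LP (LK LD1_c1 LD2_c51 LD3_c20))))))))))))
theorem f110225 : Led Lsl_cf (LP (LK LD1_c1 LD2_c39 LD3_c19)) = (LP (LK LD1_c0 LD2_c52 LD3_c29)) :=
  Lgr Lrot166 (Lpr_gt (f110214 IH) (Lpe (f92026 IH) (Lpr_gt (f95140 IH) (Lpr_dt (K0.f17774 IH) (Lpr_ct (K0.f17790 IH) (Lpr_df (f89301 IH) (Lpe (K2.f17456 IH) (Lpe (K1.f17460 IH) (Lpe (f62680 IH) (Lpn (LP (LK LD1_c0 LD2_c52 LD3_c29))))))))))))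
theorem f87934 : Led Lsl_gt (LP (LK LD1_c3 LD2_c49 LD3_c5)) = (LP (LK LD1_c1 LD2_c51 LD3_c34)) :=
  Lre_g IH (LK LD1_c3 LD2_c49 LD3_c5) (LK LD1_c1 LD2_c51 LD3_c34) Lrfl Lrfl
theorem f15090 : Led Lsl_gt (LP (LK LD1_c1 LD2_c50 LD3_c45)) = (LP (LK LD1_c3 LD2_c47 LD3_c15)) :=
  Lre_g IH (LK LD1_c1 LD2_c50 LD3_c45) (LK LD1_c3 LD2_c47 LD3_c15) Lrfl Lrfl
theorem f15276 : Led Lsl_bt (LP (LK LD1_c7 LD2_c35 LD3_c21)) = (LP (LK LD1_c3 LD2_c47 LD3_c15)) :=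
  Lre_b IH (LK LD1_c7 LD2_c35 LD3_c21) (LK LD1_c3 LD2_c47 LD3_c15) Lrfl Lrfl
theorem f110227 : Led Lsl_cf (LP (LK LD1_c3 LD2_c49 LD3_c5)) = (LP (LK LD1_c7 LD2_c35 LD3_c21)) :=
  Lgr Lrot160 (Lpr_gt (f87934 IH) (Lpe (f87933 IH) (Lpr_bt (f87920 IH) (Lpe (f87928 IH) (Lpe (f110225 IH) (Lpr_gt (f110214 IH) (Lpr_cf (f15081 IH) (Lpr_bt (f15078 IH) (Lpr_gt (f15090 IH) (Lpe (f15276 IH) (Lpn (LP (LK LD1_c7 LD2_c35 LD3_c21)))))))))))))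
theorem f110230 : Led Lsl_ct (LP (LK LD1_c3 LD2_c49 LD3_c5)) = (LP (LK LD1_c7 LD2_c35 LD3_c21)) :=
  Lgr Lrot59 (Lpr_cf (f110227 IH) (Lpn (LP (LK LD1_c7 LD2_c35 LD3_c21))))
theorem f88608 : Led Lsl_gf (LP (LK LD1_c3 LD2_c49 LD3_c5)) = (LP (LK LD1_c7 LD2_c13 LD3_c24)) :=
  Lgr Lrot47 (Lpr_gt (f87934 IH) (Lpe (f88506 IH) (Lpr_ff (f88508 IH) (Lpn (LP (LK LD1_c7 LD2_c13 LD3_c24))))))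
theorem f88582 : Led Lsl_ff (LP (LK LD1_c1 LD2_c50 LD3_c37)) = (LP (LK LD1_c0 LD2_c52 LD3_c39)) :=
  Lgr Lrot30 (Lpr_at (f88520 IH) (Lpr_ft (f88579 IH) (Lpr_at (f88581 IH) (Lpn (LP (LK LD1_c0 LD2_c52 LD3_c39))))))
theorem f11547 : Led Lsl_gt (LP (LK LD1_c0 LD2_c52 LD3_c39)) = (LP (LK LD1_c1 LD2_c51 LD3_c41)) :=
  Lre_g IH (LK LD1_c0 LD2_c52 LD3_c39) (LK LD1_c1 LD2_c51 LD3_c41) Lrfl Lrfl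
theorem f88602 : Led Lsl_gf (LP (LK LD1_c3 LD2_c47 LD3_c0)) = (LP (LK LD1_c1 LD2_c51 LD3_c41)) :=
  Lgr Lrot76 (Lpe (f88520 IH) (Lpr_ff (f88582 IH) (Lpr_gt (f11547 IH) (Lpn (LP (LK LD1_c1 LD2_c51 LD3_c41))))))
theorem f97283 : Led Lsl_bt (LP (LK LD1_c0 LD2_c48 LD3_c60)) = (LP (LK LD1_c0 LD2_c21 LD3_c61)) :=
  Lre_b IH (LK LD1_c0 LD2_c48 LD3_c60) (LK LD1_c0 LD2_c21 LD3_c61) Lrfl Lrfl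
theorem f108216 : Led Lsl_ff (LP (LK LD1_c0 LD2_c48 LD3_c60)) = (LP (LK LD1_c0 LD2_c47 LD3_c58)) :=
  Lgr Lrot25 (Lpr_bt (f97283 IH) (Lpr_ft (f108214 IH) (Lpr_bt (f98545 IH) (Lpn (LP (LK LD1_c0 LD2_c47 LD3_c58))))))
theorem f108209 : Led Lsl_at (LP (LK LD1_c0 LD2_c48 LD3_c60)) = (LP (LK LD1_c1 LD2_c44 LD3_c37)) :=
  Lre_a IH (LK LD1_c0 LD2_c48 LD3_c60) (LK LD1_c1 LD2_c44 LD3_c37) Lrfl Lrfl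
theorem f109120 : Led Lsl_gf (LP (LK LD1_c1 LD2_c44 LD3_c37)) = (LP (LK LD1_c1 LD2_c38 LD3_c44)) :=
  Lgr Lrot76 (Lpe (f108209 IH) (Lpr_ff (f108216 IH) (Lpr_gt (f109118 IH) (Lpn (LP (LK LD1_c1 LD2_c38 LD3_c44))))))
theorem f22497 : Led Lsl_gt (LP (LK LD1_c0 LD2_c19 LD3_c22)) = (LP (LK LD1_c0 LD2_c43 LD3_c22)) :=
  Lre_g IH (LK LD1_c0 LD2_c19 LD3_c22) (LK LD1_c0 LD2_c43 LD3_c22) Lrfl Lrfl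
theorem f109390 : Led Lsl_df (LP (LK LD1_c0 LD2_c45 LD3_c18)) = (LP (LK LD1_c0 LD2_c43 LD3_c22)) :=
  Lgr Lrot174 (Lpr_ct (f109380 IH) (Lpe (f109310 IH) (Lpr_gf (f109120 IH) (Lpr_df (f104140 IH) (Lpe (f103596 IH) (Lpe (K2.f23685 IH) (Lpr_gt (K1.f12422 IH) (Lpr_dt (K0.f22620 IH) (Lpr_gt (f22497 IH) (Lpn (LP (LK LD1_c0 LD2_c43 LD3_c22))))))))))))
theorem f20284 : Led Lsl_bt (LP (LK LD1_c0 LD2_c32 LD3_c55)) = (LP (LK LD1_c0 LD2_c14 LD3_c48)) :=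
  Lre_b IH (LK LD1_c0 LD2_c32 LD3_c55) (LK LD1_c0 LD2_c14 LD3_c48) Lrfl Lrfl
theorem f26450 : Led Lsl_ct (LP (LK LD1_c0 LD2_c17 LD3_c15)) = (LP (LK LD1_c0 LD2_c32 LD3_c55)) :=
  Lre_c IH (LK LD1_c0 LD2_c17 LD3_c15) (LK LD1_c0 LD2_c32 LD3_c55) Lrfl Lrfl
theorem f26570 : Led Lsl_dt (LP (LK LD1_c0 LD2_c31 LD3_c16)) = (LP (LK LD1_c0 LD2_c17 LD3_c15)) :=
  Lre_d IH (LK LD1_c0 LD2_c31 LD3_c16) (LK LD1_c0 LD2_c17 LD3_c15) Lrfl Lrfl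
theorem f26573 : Led Lsl_ct (LP (LK LD1_c4 LD2_c48 LD3_c51)) = (LP (LK LD1_c2 LD2_c22 LD3_c18)) :=
  Lre_c IH (LK LD1_c4 LD2_c48 LD3_c51) (LK LD1_c2 LD2_c22 LD3_c18) Lrfl Lrfl
theorem f109384 : Led Lsl_bf (LP (LK LD1_c0 LD2_c48 LD3_c5)) = (LP (LK LD1_c0 LD2_c48 LD3_c59)) :=
  Lgr Lrot90 (Lpe (f109343 IH) (Lpe (f104335 IH) (Lpr_ct (f104332 IH) (Lpr_bt (f104328 IH) (Lpr_ct (f109380 IH) (Lpn (LP (LK LD1_c0 LD2_c48 LD3_c59))))))))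
theorem f17453 : Led Lsl_dt (LP (LK LD1_c0 LD2_c49 LD3_c18)) = (LP (LK LD1_c0 LD2_c22 LD3_c31)) :=
  Lgr Lrot27 (Lpr_cf (K0.f17311 IH) (Lpe (K0.f17302 IH) (Lpe (K0.f17301 IH) (Lpe (K0.f11518 IH) (Lpe (K1.f17452 IH) (Lpr_gt (K0.f6699 IH) (Lpr_ct (K0.f5714 IH) (Lpr_gt (K0.f5713 IH) (Lpr_ct (K0.f5827 IH) (Lpn (LP (LK LD1_c0 LD2_c22 LD3_c31))))))))))))
theorem f109353 : Led Lsl_gf (LP (LK LD1_c0 LD2_c45 LD3_c39)) = (LP (LK LD1_c0 LD2_c48 LD3_c5)) :=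
  Lgr Lrot144 (Lpr_dt (f90852 IH) (Lpr_gt (f95138 IH) (Lpr_dt (f17453 IH) (Lpe (K0.f5827 IH) (Lpe (K1.f5828 IH) (Lpr_gf (K1.f66423 IH) (Lpe (K1.f17784 IH) (Lpe (f62194 IH) (Lpr_cf (f109343 IH) (Lpn (LP (LK LD1_c0 LD2_c48 LD3_c5))))))))))))
theorem f109396 : Led Lsl_df (LP (LK LD1_c4 LD2_c48 LD3_c51)) = (LP (LK LD1_c3 LD2_c47 LD3_c15)) :=
  Lgr Lrot183 (Lpr_ct (f26573 IH) (Lpr_bt (f26572 IH) (Lpr_gt (f26571 IH) (Lpr_dt (f26570 IH) (Lpr_ct (f26450 IH) (Lpr_bt (f20284 IH) (Lpe (K0.f26476 IH) (Lpr_dt (K1.f22458 IH) (Lpe (K1.f22488 IH) (Lpr_bt (K2.f22496 IH) (Lpr_gt (f22497 IH) (Lpe (f109390 IH) (Lpr_ct (f109380 IH) (Lpe (f109384 IH) (Lpe (f109353 IH) (Lpr_dt (f90852 IH) (Lpr_ct (f15068 IH) (Lpr_bt (f15078 IH) (Lpr_gt (f15090 IH) (Lpn (LP (LK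 LD1_c3 LD2_c47 LD3_c15))))))))))))))))))))))
theorem f109398 : Led Lsl_bt (LP (LK LD1_c4 LD2_c48 LD3_c51)) = (LP (LK LD1_c9 LD2_c30 LD3_c10)) :=
  Lre_b IH (LK LD1_c4 LD2_c48 LD3_c51) (LK LD1_c9 LD2_c30 LD3_c10) Lrfl Lrfl
theorem f109399 : Led Lsl_dt (LP (LK LD1_c9 LD2_c30 LD3_c10)) = (LP (LK LD1_c7 LD2_c35 LD3_c21)) :=
  Lgr Lrot79 (Lpe (f109398 IH) (Lpr_df (f109396 IH) (Lpe (f15276 IH) (Lpn (LP (LK LD1_c7 LD2_c35 LD3_c21))))))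
theorem f103173 : Led Lsl_ct (LP (LK LD1_c4 LD2_c48 LD3_c53)) = (LP (LK LD1_c9 LD2_c30 LD3_c10)) :=
  Lre_c IH (LK LD1_c4 LD2_c48 LD3_c53) (LK LD1_c9 LD2_c30 LD3_c10) Lrfl Lrfl
theorem f78064 : Led Lsl_bt (LP (LK LD1_c1 LD2_c7 LD3_c54)) = (LP (LK LD1_c0 LD2_c31 LD3_c8)) :=
  Lre_b IH (LK LD1_c1 LD2_c7 LD3_c54) (LK LD1_c0 LD2_c31 LD3_c8) Lrfl Lrfl
theorem f69677 : Led Lsl_ct (LP (LK LD1_c1 LD2_c7 LD3_c54)) = (LP (LK LD1_c0 LD2_c31 LD3_c16)) :=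
  Lre_c IH (LK LD1_c1 LD2_c7 LD3_c54) (LK LD1_c0 LD2_c31 LD3_c16) Lrfl Lrfl
theorem f103171 : Led Lsl_gf (LP (LK LD1_c4 LD2_c48 LD3_c53)) = (LP (LK LD1_c9 LD2_c21 LD3_c55)) :=
  Lgr Lrot124 (Lpe (f78066 IH) (Lpr_ct (f78065 IH) (Lpr_gt (f26571 IH) (Lpe (f69677 IH) (Lpr_bt (f78064 IH) (Lpr_gt (f60998 IH) (Lpr_ct (f78007 IH) (Lpr_gt (f103115 IH) (Lpe (f23550 IH) (Lpr_bt (f23538 IH) (Lpn (LP (LK LD1_c9 LD2_c21 LD3_c55)))))))))))))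
theorem f78100 : Led Lsl_bt (LP (LK LD1_c2 LD2_c21 LD3_c46)) = (LP (LK LD1_c4 LD2_c47 LD3_c47)) :=
  Lre_b IH (LK LD1_c2 LD2_c21 LD3_c46) (LK LD1_c4 LD2_c47 LD3_c47) Lrfl Lrfl
theorem f78101 : Led Lsl_cf (LP (LK LD1_c9 LD2_c21 LD3_c55)) = (LP (LK LD1_c4 LD2_c47 LD3_c47)) :=
  Lgr Lrot97 (Lpr_bt (f23551 IH) (Lpr_ct (f23550 IH) (Lpr_bt (f23492 IH) (Lpr_ct (K2.f78098 IH) (Lpr_bt (f78100 IH) (Lpn (LP (LK LD1_c4 LD2_c47 LD3_c47))))))))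
theorem f110240 : Led Lsl_dt (LP (LK LD1_c1 LD2_c51 LD3_c41)) = (LP (LK LD1_c3 LD2_c46 LD3_c38)) :=
  Lgr Lrot6 (Lpe (f88602 IH) (Lpr_ct (f88522 IH) (Lpe (f88608 IH) (Lpr_ct (f110230 IH) (Lpe (f109399 IH) (Lpe (f103173 IH) (Lpr_gf (f103171 IH) (Lpr_cf (f78101 IH) (Lpr_gf (f109893 IH) (Lpn (LP (LK LD1_c3 LD2_c46 LD3_c38))))))))))))
theorem f84983 : Led Lsl_bt (LP (LK LD1_c0 LD2_c23 LD3_c47)) = (LP (LK LD1_c0 LD2_c52 LD3_c39)) :=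
  Lre_b IH (LK LD1_c0 LD2_c23 LD3_c47) (LK LD1_c0 LD2_c52 LD3_c39) Lrfl Lrfl
theorem f18898 : Led Lsl_bt (LP (LK LD1_c1 LD2_c26 LD3_c58)) = (LP (LK LD1_c0 LD2_c40 LD3_c17)) :=
  Lre_b IH (LK LD1_c1 LD2_c26 LD3_c58) (LK LD1_c0 LD2_c40 LD3_c17) Lrfl Lrfl
theorem f18899 : Led Lsl_ct (LP (LK LD1_c3 LD2_c1 LD3_c48)) = (LP (LK LD1_c1 LD2_c26 LD3_c58)) :=
  Lre_c IH (LK LD1_c3 LD2_c1 LD3_c48) (LK LD1_c1 LD2_c26 LD3_c58) Lrfl Lrfl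
theorem f18900 : Led Lsl_dt (LP (LK LD1_c6 LD2_c10 LD3_c24)) = (LP (LK LD1_c3 LD2_c1 LD3_c48)) :=
  Lre_d IH (LK LD1_c6 LD2_c10 LD3_c24) (LK LD1_c3 LD2_c1 LD3_c48) Lrfl Lrfl
theorem f109896 : Led Lsl_ct (LP (LK LD1_c3 LD2_c46 LD3_c38)) = (LP (LK LD1_c7 LD2_c34 LD3_c5)) :=
  Lre_c IH (LK LD1_c3 LD2_c46 LD3_c38) (LK LD1_c7 LD2_c34 LD3_c5) Lrfl Lrfl
theorem f14082 : Led Lsl_dt (LP (LK LD1_c2 LD2_c56 LD3_c2)) = (LP (LK LD1_c5 LD2_c59 LD3_c21)) :=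
  Lre_d IH (LK LD1_c2 LD2_c56 LD3_c2) (LK LD1_c5 LD2_c59 LD3_c21) Lrfl Lrfl
theorem f14083 : Led Lsl_ct (LP (LK LD1_c5 LD2_c59 LD3_c21)) = (LP (LK LD1_c11 LD2_c43 LD3_c15)) :=
  Lre_c IH (LK LD1_c5 LD2_c59 LD3_c21) (LK LD1_c11 LD2_c43 LD3_c15) Lrfl Lrfl
theorem f77173 : Led Lsl_et (LP (LK LD1_c6 LD2_c21 LD3_c5)) = (LP (LK LD1_c12 LD2_c16 LD3_c10)) :=
  Lre_e IH (LK LD1_c6 LD2_c21 LD3_c5) (LK LD1_c12 LD2_c16 LD3_c10) Lrfl Lrfl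
theorem f77230 : Led Lsl_ft (LP (LK LD1_c12 LD2_c16 LD3_c10)) = (LP (LK LD1_c21 LD2_c21 LD3_c14)) :=
  Lre_f IH (LK LD1_c12 LD2_c16 LD3_c10) (LK LD1_c21 LD2_c21 LD3_c14) Lrfl Lrfl
theorem f77231 : Led Lsl_et (LP (LK LD1_c12 LD2_c16 LD3_c17)) = (LP (LK LD1_c6 LD2_c21 LD3_c8)) :=
  Lre_e IH (LK LD1_c12 LD2_c16 LD3_c17) (LK LD1_c6 LD2_c21 LD3_c8) Lrfl Lrfl
theorem f77232 : Led Lsl_ft (LP (LK LD1_c21 LD2_c21 LD3_c18)) = (LP (LK LD1_c12 LD2_c16 LD3_c17)) :=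
  Lre_f IH (LK LD1_c21 LD2_c21 LD3_c18) (LK LD1_c12 LD2_c16 LD3_c17) Lrfl Lrfl
theorem f77233 : Led Lsl_et (LP (LK LD1_c21 LD2_c21 LD3_c14)) = (LP (LK LD1_c21 LD2_c21 LD3_c18)) :=
  Lgr Lrot69 (Lpe (f77230 IH) (Lpe (f77173 IH) (Lpr_ff (f77226 IH) (Lpe (f77231 IH) (Lpe (f77232 IH) (Lpn (LP (LK LD1_c21 LD2_c21 LD3_c18))))))))
theorem f77239 : Led Lsl_ef (LP (LK LD1_c21 LD2_c21 LD3_c14)) = (LP (LK LD1_c21 LD2_c21 LD3_c18)) :=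
  Lgr Lrot88 (Lpr_et (f77233 IH) (Lpn (LP (LK LD1_c21 LD2_c21 LD3_c18))))
theorem f77242 : Led Lsl_ct (LP (LK LD1_c12 LD2_c16 LD3_c21)) = (LP (LK LD1_c21 LD2_c21 LD3_c18)) :=
  Lre_c IH (LK LD1_c12 LD2_c16 LD3_c21) (LK LD1_c21 LD2_c21 LD3_c18) Lrfl Lrfl
theorem f60983 : Led Lsl_et (LP (LK LD1_c3 LD2_c22 LD3_c40)) = (LP (LK LD1_c6 LD2_c49 LD3_c4)) :=
  Lre_e IH (LK LD1_c3 LD2_c22 LD3_c40) (LK LD1_c6 LD2_c49 LD3_c4) Lrfl Lrfl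
theorem f77213 : Led Lsl_ft (LP (LK LD1_c6 LD2_c49 LD3_c4)) = (LP (LK LD1_c13 LD2_c0 LD3_c33)) :=
  Lre_f IH (LK LD1_c6 LD2_c49 LD3_c4) (LK LD1_c13 LD2_c0 LD3_c33) Lrfl Lrfl
theorem f77214 : Led Lsl_et (LP (LK LD1_c6 LD2_c21 LD3_c9)) = (LP (LK LD1_c3 LD2_c8 LD3_c15)) :=
  Lre_e IH (LK LD1_c6 LD2_c21 LD3_c9) (LK LD1_c3 LD2_c8 LD3_c15) Lrfl Lrfl
theorem f77215 : Led Lsl_ft (LP (LK LD1_c12 LD2_c16 LD3_c21)) = (LP (LK LD1_c6 LD2_c21 LD3_c9)) :=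
  Lre_f IH (LK LD1_c12 LD2_c16 LD3_c21) (LK LD1_c6 LD2_c21 LD3_c9) Lrfl Lrfl
theorem f77216 : Led Lsl_et (LP (LK LD1_c13 LD2_c0 LD3_c33)) = (LP (LK LD1_c12 LD2_c16 LD3_c21)) :=
  Lgr Lrot69 (Lpe (f77213 IH) (Lpe (f60983 IH) (Lpr_ff (f77206 IH) (Lpe (f77214 IH) (Lpe (f77215 IH) (Lpn (LP (LK LD1_c12 LD2_c16 LD3_c21))))))))
theorem f77243 : Led Lsl_ct (LP (LK LD1_c21 LD2_c21 LD3_c14)) = (LP (LK LD1_c13 LD2_c0 LD3_c33)) :=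
  Lgr Lrot15 (Lpr_ef (f77239 IH) (Lpe (f77242 IH) (Lpe (f77216 IH) (Lpn (LP (LK LD1_c13 LD2_c0 LD3_c33))))))
theorem f77258 : Led Lsl_ft (LP (LK LD1_c13 LD2_c0 LD3_c33)) = (LP (LK LD1_c6 LD2_c49 LD3_c4)) :=
  Lre_f IH (LK LD1_c13 LD2_c0 LD3_c33) (LK LD1_c6 LD2_c49 LD3_c4) Lrfl Lrfl
theorem f77259 : Led Lsl_cf (LP (LK LD1_c12 LD2_c16 LD3_c10)) = (LP (LK LD1_c6 LD2_c49 LD3_c4)) :=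
  Lgr Lrot108 (Lpr_ft (f77230 IH) (Lpr_ct (f77243 IH) (Lpr_ft (f77258 IH) (Lpn (LP (LK LD1_c6 LD2_c49 LD3_c4))))))
theorem f77268 : Led Lsl_bt (LP (LK LD1_c9 LD2_c50 LD3_c2)) = (LP (LK LD1_c6 LD2_c49 LD3_c4)) :=
  Lre_b IH (LK LD1_c9 LD2_c50 LD3_c2) (LK LD1_c6 LD2_c49 LD3_c4) Lrfl Lrfl
theorem f77269 : Led Lsl_ct (LP (LK LD1_c5 LD2_c59 LD3_c23)) = (LP (LK LD1_c9 LD2_c50 LD3_c2)) :=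
  Lre_c IH (LK LD1_c5 LD2_c59 LD3_c23) (LK LD1_c9 LD2_c50 LD3_c2) Lrfl Lrfl
theorem f14166 : Led Lsl_bt (LP (LK LD1_c11 LD2_c43 LD3_c16)) = (LP (LK LD1_c5 LD2_c59 LD3_c23)) :=
  Lre_b IH (LK LD1_c11 LD2_c43 LD3_c16) (LK LD1_c5 LD2_c59 LD3_c23) Lrfl Lrfl
theorem f14178 : Led Lsl_ct (LP (LK LD1_c20 LD2_c44 LD3_c7)) = (LP (LK LD1_c11 LD2_c43 LD3_c16)) :=
  Lre_c IH (LK LD1_c20 LD2_c44 LD3_c7) (LK LD1_c11 LD2_c43 LD3_c16) Lrfl Lrfl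
theorem f77270 : Led Lsl_bt (LP (LK LD1_c12 LD2_c16 LD3_c10)) = (LP (LK LD1_c20 LD2_c44 LD3_c7)) :=
  Lgr Lrot128 (Lpr_cf (f77259 IH) (Lpe (f77268 IH) (Lpe (f77269 IH) (Lpe (f14166 IH) (Lpe (f14178 IH) (Lpn (LP (LK LD1_c20 LD2_c44 LD3_c7))))))))
theorem f14121 : Led Lsl_et (LP (LK LD1_c20 LD2_c44 LD3_c7)) = (LP (LK LD1_c11 LD2_c43 LD3_c15)) :=
  Lre_e IH (LK LD1_c20 LD2_c44 LD3_c7) (LK LD1_c11 LD2_c43 LD3_c15) Lrfl Lrfl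
theorem f77287 : Led Lsl_bf (LP (LK LD1_c6 LD2_c21 LD3_c5)) = (LP (LK LD1_c11 LD2_c43 LD3_c15)) :=
  Lgr Lrot96 (Lpr_et (f77173 IH) (Lpr_bt (f77270 IH) (Lpr_et (f14121 IH) (Lpn (LP (LK LD1_c11 LD2_c43 LD3_c15))))))
theorem f110293 : Led Lsl_gf (LP (LK LD1_c6 LD2_c10 LD3_c24)) = (LP (LK LD1_c6 LD2_c21 LD3_c5)) :=
  Lgr Lrot85 (Lpr_dt (f18900 IH) (Lpr_ct (f18899 IH) (Lpr_bt (f18898 IH) (Lpr_gt (f18897 IH) (Lpr_dt (f18896 IH) (Lpr_ct (K1.f18890 IH) (Lpr_bt (f18879 IH) (Lpr_gt (K1.f18901 IH) (Lpr_dt (K2.f84971 IH) (Lpr_ct (K2.f14681 IH) (Lpr_bt (f84983 IH) (Lpr_gt (f11547 IH) (Lpr_dt (f110240 IH) (Lpr_ct (f109896 IH) (Lpe (f109898 IH) (Lpr_gt (f17122 IH) (Lpr_dt (f14082 IH) (Lpr_ct (f14083 IH) (Lpe (f77287 IH) (Lpn (LP (LK LD1_c6 LD2_c21 LD3_c5))))))))))))))))))))))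
theorem f61766 : Led Lsl_bt (LP (LK LD1_c0 LD2_c41 LD3_c18)) = (LP (LK LD1_c0 LD2_c18 LD3_c29)) :=
  Lre_b IH (LK LD1_c0 LD2_c41 LD3_c18) (LK LD1_c0 LD2_c18 LD3_c29) Lrfl Lrfl
theorem f23035 : Led Lsl_bt (LP (LK LD1_c0 LD2_c8 LD3_c6)) = (LP (LK LD1_c0 LD2_c18 LD3_c2)) :=
  Lre_b IH (LK LD1_c0 LD2_c8 LD3_c6) (LK LD1_c0 LD2_c18 LD3_c2) Lrfl Lrfl
theorem f23041 : Led Lsl_ct (LP (LK LD1_c1 LD2_c26 LD3_c58)) = (LP (LK LD1_c3 LD2_c1 LD3_c48)) :=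
  Lre_c IH (LK LD1_c1 LD2_c26 LD3_c58) (LK LD1_c3 LD2_c1 LD3_c48) Lrfl Lrfl
theorem f61767 : Led Lsl_gf (LP (LK LD1_c1 LD2_c29 LD3_c21)) = (LP (LK LD1_c3 LD2_c1 LD3_c48)) :=
  Lgr Lrot126 (Lpe (K2.f25100 IH) (Lpr_bt (f61766 IH) (Lpr_gt (K1.f61666 IH) (Lpe (K0.f26345 IH) (Lpe (K1.f23007 IH) (Lpe (K0.f23034 IH) (Lpr_bt (f23035 IH) (Lpr_gt (f23036 IH) (Lpe (f18898 IH) (Lpr_ct (f23041 IH) (Lpn (LP (LK LD1_c3 LD2_c1 LD3_c48)))))))))))))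
theorem f61783 : Led Lsl_gt (LP (LK LD1_c1 LD2_c29 LD3_c21)) = (LP (LK LD1_c3 LD2_c6 LD3_c27)) :=
  Lre_g IH (LK LD1_c1 LD2_c29 LD3_c21) (LK LD1_c3 LD2_c6 LD3_c27) Lrfl Lrfl
theorem f76691 : Led Lsl_gf (LP (LK LD1_c3 LD2_c12 LD3_c35)) = (LP (LK LD1_c3 LD2_c6 LD3_c27)) :=
  Lgr Lrot76 (Lpe (K2.f61586 IH) (Lpr_ff (K2.f76467 IH) (Lpr_gt (f61783 IH) (Lpn (LP (LK LD1_c3 LD2_c6 LD3_c27))))))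
theorem f76693 : Led Lsl_dt (LP (LK LD1_c6 LD2_c18 LD3_c24)) = (LP (LK LD1_c3 LD2_c6 LD3_c27)) :=
  Lre_d IH (LK LD1_c6 LD2_c18 LD3_c24) (LK LD1_c3 LD2_c6 LD3_c27) Lrfl Lrfl
theorem f110302 : Led Lsl_gf (LP (LK LD1_c6 LD2_c18 LD3_c24)) = (LP (LK LD1_c3 LD2_c22 LD3_c40)) :=
  Lgr Lrot144 (Lpr_dt (f76693 IH) (Lpe (f76691 IH) (Lpr_dt (K2.f76474 IH) (Lpe (K2.f25102 IH) (Lpe (K2.f25101 IH) (Lpr_gf (f61767 IH) (Lpe (f18900 IH) (Lpr_gf (f110293 IH) (Lpr_cf (K2.f77160 IH) (Lpn (LP (LK LD1_c3 LD2_c22 LD3_c40))))))))))))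
theorem f77177 : Led Lsl_at (LP (LK LD1_c3 LD2_c8 LD3_c15)) = (LP (LK LD1_c6 LD2_c21 LD3_c5)) :=
  Lre_a IH (LK LD1_c3 LD2_c8 LD3_c15) (LK LD1_c6 LD2_c21 LD3_c5) Lrfl Lrfl
theorem f77178 : Led Lsl_ff (LP (LK LD1_c3 LD2_c8 LD3_c15)) = (LP (LK LD1_c3 LD2_c22 LD3_c40)) :=
  Lgr Lrot103 (Lpr_at (f77177 IH) (Lpr_cf (K2.f77160 IH) (Lpe (K2.f9753 IH) (Lpe (K2.f9752 IH) (Lpe (K2.f9751 IH) (Lpe (K0.f9737 IH) (Lpe (K2.f9748 IH) (Lpe (K2.f9749 IH) (Lpe (K2.f9750 IH) (Lpn (LP (LK LD1_c3 LD2_c22 LD3_c40))))))))))))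
theorem f110317 : Led Lsl_gt (LP (LK LD1_c6 LD2_c18 LD3_c24)) = (LP (LK LD1_c6 LD2_c21 LD3_c5)) :=
  Lgr Lrot46 (Lpr_gf (f110302 IH) (Lpe (f77178 IH) (Lpr_at (f77177 IH) (Lpn (LP (LK LD1_c6 LD2_c21 LD3_c5))))))
theorem f76673 : Led Lsl_dt (LP (LK LD1_c3 LD2_c6 LD3_c27)) = (LP (LK LD1_c6 LD2_c18 LD3_c24)) :=
  Lre_d IH (LK LD1_c3 LD2_c6 LD3_c27) (LK LD1_c6 LD2_c18 LD3_c24) Lrfl Lrfl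
theorem f61722 : Led Lsl_gt (LP (LK LD1_c0 LD2_c41 LD3_c18)) = (LP (LK LD1_c1 LD2_c29 LD3_c20)) :=
  Lre_g IH (LK LD1_c0 LD2_c41 LD3_c18) (LK LD1_c1 LD2_c29 LD3_c20) Lrfl Lrfl
theorem f110322 : Led Lsl_dt (LP (LK LD1_c1 LD2_c29 LD3_c20)) = (LP (LK LD1_c0 LD2_c45 LD3_c8)) :=
  Lgr Lrot57 (Lpe (f61722 IH) (Lpe (K2.f25104 IH) (Lpr_gt (f61783 IH) (Lpr_dt (f76673 IH) (Lpr_gt (f110317 IH) (Lpr_dt (K2.f77159 IH) (Lpe (f77172 IH) (Lpr_df (f77187 IH) (Lpe (f13532 IH) (Lpn (LP (LK LD1_c0 LD2_c45 LD3_c8))))))))))))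
theorem f61792 : Led Lsl_ct (LP (LK LD1_c3 LD2_c6 LD3_c26)) = (LP (LK LD1_c1 LD2_c29 LD3_c20)) :=
  Lre_c IH (LK LD1_c3 LD2_c6 LD3_c26) (LK LD1_c1 LD2_c29 LD3_c20) Lrfl Lrfl
theorem f61787 : Led Lsl_dt (LP (LK LD1_c6 LD2_c18 LD3_c22)) = (LP (LK LD1_c3 LD2_c6 LD3_c26)) :=
  Lre_d IH (LK LD1_c6 LD2_c18 LD3_c22) (LK LD1_c3 LD2_c6 LD3_c26) Lrfl Lrfl
theorem f77195 : Led Lsl_ft (LP (LK LD1_c6 LD2_c21 LD3_c5)) = (LP (LK LD1_c6 LD2_c21 LD3_c8)) :=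
  Lgr Lrot142 (Lpr_dt (K2.f77159 IH) (Lpr_ct (K2.f77158 IH) (Lpr_dt (K2.f77180 IH) (Lpe (K2.f13493 IH) (Lpe (f77187 IH) (Lpr_ct (f77172 IH) (Lpr_dt (f77171 IH) (Lpr_ct (f77169 IH) (Lpe (K2.f77164 IH) (Lpn (LP (LK LD1_c6 LD2_c21 LD3_c8))))))))))))
theorem f110300 : Led Lsl_gt (LP (LK LD1_c6 LD2_c10 LD3_c24)) = (LP (LK LD1_c3 LD2_c22 LD3_c40)) :=
  Lgr Lrot46 (Lpr_gf (f110293 IH) (Lpr_ft (f77195 IH) (Lpr_at (K2.f77164 IH) (Lpn (LP (LK LD1_c3 LD2_c22 LD3_c40))))))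
theorem f61788 : Led Lsl_dt (LP (LK LD1_c3 LD2_c1 LD3_c48)) = (LP (LK LD1_c6 LD2_c10 LD3_c24)) :=
  Lre_d IH (LK LD1_c3 LD2_c1 LD3_c48) (LK LD1_c6 LD2_c10 LD3_c24) Lrfl Lrfl
theorem f61785 : Led Lsl_ct (LP (LK LD1_c1 LD2_c29 LD3_c20)) = (LP (LK LD1_c3 LD2_c6 LD3_c26)) :=
  Lre_c IH (LK LD1_c1 LD2_c29 LD3_c20) (LK LD1_c3 LD2_c6 LD3_c26) Lrfl Lrfl
theorem f110304 : Led Lsl_ct (LP (LK LD1_c6 LD2_c10 LD3_c24)) = (LP (LK LD1_c6 LD2_c18 LD3_c22)) :=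
  Lgr Lrot110 (Lpr_gf (f110293 IH) (Lpr_cf (K2.f77160 IH) (Lpe (f110300 IH) (Lpe (f61788 IH) (Lpe (f61767 IH) (Lpr_ct (K2.f25104 IH) (Lpr_gt (f61722 IH) (Lpr_ct (f61785 IH) (Lpe (f61787 IH) (Lpn (LP (LK LD1_c6 LD2_c18 LD3_c22))))))))))))
theorem f110333 : Led Lsl_df (LP (LK LD1_c1 LD2_c26 LD3_c58)) = (LP (LK LD1_c0 LD2_c43 LD3_c51)) :=
  Lgr Lrot157 (Lpr_ct (f23041 IH) (Lpr_dt (f61788 IH) (Lpr_ct (f110304 IH) (Lpr_dt (f61787 IH) (Lpr_ct (f61792 IH) (Lpr_dt (f110322 IH) (Lpr_ct (f103503 IH) (Lpe (f65538 IH) (Lpe (f23341 IH) (Lpn (LP (LK LD1_c0 LD2_c43 LD3_c51))))))))))))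
theorem f76472 : Led Lsl_gt (LP (LK LD1_c3 LD2_c12 LD3_c35)) = (LP (LK LD1_c3 LD2_c1 LD3_c48)) :=
  Lgr Lrot5 (Lpr_ft (K2.f76451 IH) (Lpr_at (K2.f25107 IH) (Lpr_gf (f61767 IH) (Lpn (LP (LK LD1_c3 LD2_c1 LD3_c48))))))
theorem f110335 : Led Lsl_gt (LP (LK LD1_c1 LD2_c29 LD3_c20)) = (LP (LK LD1_c1 LD2_c32 LD3_c45)) :=
  Lgr Lrot146 (Lpr_dt (f110322 IH) (Lpr_gt (f13532 IH) (Lpe (K2.f13493 IH) (Lpr_gt (f13504 IH) (Lpr_ct (f103490 IH) (Lpe (f110333 IH) (Lpe (f18899 IH) (Lpe (f76472 IH) (Lpe (K2.f67014 IH) (Lpn (LP (LK LD1_c1 LD2_c32 LD3_c45))))))))))))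
theorem f110329 : Led Lsl_df (LP (LK LD1_c1 LD2_c29 LD3_c20)) = (LP (LK LD1_c0 LD2_c45 LD3_c8)) :=
  Lgr Lrot38 (Lpr_dt (f110322 IH) (Lpn (LP (LK LD1_c0 LD2_c45 LD3_c8))))
theorem f110339 : Led Lsl_df (LP (LK LD1_c0 LD2_c43 LD3_c51)) = (LP (LK LD1_c1 LD2_c26 LD3_c58)) :=
  Lgr Lrot162 (Lpe (f103490 IH) (Lpe (f13504 IH) (Lpr_cf (K2.f13493 IH) (Lpe (f13532 IH) (Lpe (f110329 IH) (Lpr_gt (f110335 IH) (Lpr_ct (K2.f67014 IH) (Lpr_gt (f76472 IH) (Lpr_ct (f18899 IH) (Lpn (LP (LK LD1_c1 LD2_c26 LD3_c58))))))))))))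
theorem f110939 : Led Lsl_ft (LP (LK LD1_c0 LD2_c43 LD3_c50)) = (LP (LK LD1_c1 LD2_c26 LD3_c58)) :=
  Lgr Lrot54 (Lpe (f23561 IH) (Lpe (f23341 IH) (Lpr_df (f110339 IH) (Lpn (LP (LK LD1_c1 LD2_c26 LD3_c58))))))
theorem f110946 : Led Lsl_ff (LP (LK LD1_c0 LD2_c43 LD3_c50)) = (LP (LK LD1_c1 LD2_c26 LD3_c58)) :=
  Lgr Lrot3 (Lpr_ft (f110939 IH) (Lpn (LP (LK LD1_c1 LD2_c26 LD3_c58))))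
theorem f110951 : Led Lsl_ft (LP (LK LD1_c1 LD2_c34 LD3_c18)) = (LP (LK LD1_c3 LD2_c1 LD3_c48)) :=
  Lgr Lrot4 (Lpe (f23562 IH) (Lpr_ff (f110946 IH) (Lpe (f18899 IH) (Lpn (LP (LK LD1_c3 LD2_c1 LD3_c48))))))
theorem f110956 : Led Lsl_ff (LP (LK LD1_c3 LD2_c15 LD3_c17)) = (LP (LK LD1_c6 LD2_c10 LD3_c24)) :=
  Lgr Lrot19 (Lpr_dt (f23340 IH) (Lpr_ft (f110951 IH) (Lpr_dt (f61788 IH) (Lpn (LP (LK LD1_c6 LD2_c10 LD3_c24))))))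
theorem f110961 : Led Lsl_at (LP (LK LD1_c3 LD2_c15 LD3_c17)) = (LP (LK LD1_c6 LD2_c18 LD3_c24)) :=
  Lgr Lrot26 (Lpr_ff (f110956 IH) (Lpr_gt (f110300 IH) (Lpe (f110302 IH) (Lpn (LP (LK LD1_c6 LD2_c18 LD3_c24))))))
theorem f110966 : Led Lsl_af (LP (LK LD1_c1 LD2_c34 LD3_c18)) = (LP (LK LD1_c3 LD2_c6 LD3_c27)) :=
  Lgr Lrot117 (Lpr_dt (f65548 IH) (Lpr_at (f110961 IH) (Lpr_dt (f76693 IH) (Lpn (LP (LK LD1_c3 LD2_c6 LD3_c27))))))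
theorem f110948 : Led Lsl_at (LP (LK LD1_c0 LD2_c43 LD3_c50)) = (LP (LK LD1_c1 LD2_c34 LD3_c17)) :=
  Lre_a IH (LK LD1_c0 LD2_c43 LD3_c50) (LK LD1_c1 LD2_c34 LD3_c17) Lrfl Lrfl
theorem f110999 : Led Lsl_ct (LP (LK LD1_c1 LD2_c34 LD3_c17)) = (LP (LK LD1_c3 LD2_c6 LD3_c27)) :=
  Lgr Lrot111 (Lpe (f110948 IH) (Lpe (f23339 IH) (Lpr_af (f110966 IH) (Lpn (LP (LK LD1_c3 LD2_c6 LD3_c27))))))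
theorem f65547 : Led Lsl_dt (LP (LK LD1_c0 LD2_c43 LD3_c49)) = (LP (LK LD1_c1 LD2_c34 LD3_c17)) :=
  Lre_d IH (LK LD1_c0 LD2_c43 LD3_c49) (LK LD1_c1 LD2_c34 LD3_c17) Lrfl Lrfl
theorem f78133 : Led Lsl_dt (LP (LK LD1_c2 LD2_c19 LD3_c58)) = (LP (LK LD1_c1 LD2_c7 LD3_c14)) :=
  Lre_d IH (LK LD1_c2 LD2_c19 LD3_c58) (LK LD1_c1 LD2_c7 LD3_c14) Lrfl Lrfl
theorem f26001 : Led Lsl_bt (LP (LK LD1_c0 LD2_c45 LD3_c11)) = (LP (LK LD1_c0 LD2_c20 LD3_c1)) :=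
  Lre_b IH (LK LD1_c0 LD2_c45 LD3_c11) (LK LD1_c0 LD2_c20 LD3_c1) Lrfl Lrfl
theorem f60968 : Led Lsl_bt (LP (LK LD1_c0 LD2_c8 LD3_c57)) = (LP (LK LD1_c0 LD2_c19 LD3_c47)) :=
  Lre_b IH (LK LD1_c0 LD2_c8 LD3_c57) (LK LD1_c0 LD2_c19 LD3_c47) Lrfl Lrfl
theorem f60969 : Led Lsl_gt (LP (LK LD1_c0 LD2_c19 LD3_c47)) = (LP (LK LD1_c0 LD2_c44 LD3_c8)) :=
  Lre_g IH (LK LD1_c0 LD2_c19 LD3_c47) (LK LD1_c0 LD2_c44 LD3_c8) Lrfl Lrfl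
theorem f60970 : Led Lsl_bt (LP (LK LD1_c1 LD2_c34 LD3_c47)) = (LP (LK LD1_c0 LD2_c44 LD3_c8)) :=
  Lre_b IH (LK LD1_c1 LD2_c34 LD3_c47) (LK LD1_c0 LD2_c44 LD3_c8) Lrfl Lrfl
theorem f60971 : Led Lsl_ct (LP (LK LD1_c1 LD2_c34 LD3_c47)) = (LP (LK LD1_c3 LD2_c16 LD3_c3)) :=
  Lre_c IH (LK LD1_c1 LD2_c34 LD3_c47) (LK LD1_c3 LD2_c16 LD3_c3) Lrfl Lrfl
theorem f60972 : Led Lsl_gf (LP (LK LD1_c1 LD2_c37 LD3_c36)) = (LP (LK LD1_c3 LD2_c16 LD3_c3)) :=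
  Lgr Lrot126 (Lpe (K2.f9752 IH) (Lpr_bt (f26001 IH) (Lpe (K1.f25999 IH) (Lpr_ct (K1.f60927 IH) (Lpr_gt (K0.f20190 IH) (Lpe (K0.f20081 IH) (Lpr_bt (f60968 IH) (Lpr_gt (f60969 IH) (Lpe (f60970 IH) (Lpr_ct (f60971 IH) (Lpn (LP (LK LD1_c3 LD2_c16 LD3_c3)))))))))))))
theorem f60976 : Led Lsl_ct (LP (LK LD1_c3 LD2_c16 LD3_c3)) = (LP (LK LD1_c1 LD2_c34 LD3_c47)) :=
  Lre_c IH (LK LD1_c3 LD2_c16 LD3_c3) (LK LD1_c1 LD2_c34 LD3_c47) Lrfl Lrfl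
theorem f111004 : Led Lsl_gf (LP (LK LD1_c2 LD2_c19 LD3_c58)) = (LP (LK LD1_c1 LD2_c34 LD3_c47)) :=
  Lgr Lrot148 (Lpr_dt (f78133 IH) (Lpe (f104160 IH) (Lpr_dt (f65547 IH) (Lpr_ct (f110999 IH) (Lpe (f76693 IH) (Lpr_gf (f110302 IH) (Lpe (K2.f9753 IH) (Lpr_gf (f60972 IH) (Lpr_ct (f60976 IH) (Lpn (LP (LK LD1_c1 LD2_c34 LD3_c47))))))))))))
theorem f111008 : Led Lsl_bt (LP (LK LD1_c1 LD2_c7 LD3_c15)) = (LP (LK LD1_c2 LD2_c19 LD3_c58)) :=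
  Lre_b IH (LK LD1_c1 LD2_c7 LD3_c15) (LK LD1_c2 LD2_c19 LD3_c58) Lrfl Lrfl
theorem f78114 : Led Lsl_ct (LP (LK LD1_c1 LD2_c7 LD3_c15)) = (LP (LK LD1_c2 LD2_c19 LD3_c59)) :=
  Lre_c IH (LK LD1_c1 LD2_c7 LD3_c15) (LK LD1_c2 LD2_c19 LD3_c59) Lrfl Lrfl
theorem f96630 : Led Lsl_bt (LP (LK LD1_c0 LD2_c44 LD3_c8)) = (LP (LK LD1_c1 LD2_c34 LD3_c47)) :=
  Lre_b IH (LK LD1_c0 LD2_c44 LD3_c8) (LK LD1_c1 LD2_c34 LD3_c47) Lrfl Lrfl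
theorem f60975 : Led Lsl_ct (LP (LK LD1_c0 LD2_c44 LD3_c8)) = (LP (LK LD1_c1 LD2_c34 LD3_c48)) :=
  Lre_c IH (LK LD1_c0 LD2_c44 LD3_c8) (LK LD1_c1 LD2_c34 LD3_c48) Lrfl Lrfl
theorem f62285 : Led Lsl_bt (LP (LK LD1_c1 LD2_c40 LD3_c61)) = (LP (LK LD1_c0 LD2_c47 LD3_c2)) :=
  Lre_b IH (LK LD1_c1 LD2_c40 LD3_c61) (LK LD1_c0 LD2_c47 LD3_c2) Lrfl Lrfl

end

end K3

end

end Cfsg.Agent.Helper28.S1692
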