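import Cfsg.Agent.Lib.Helper28.S1692.Seeds29

set_option autoImplicit false
set_option maxRecDepth 100000
set_option linter.all false

namespace Cfsg.Agent.Helper28.S1692

open Cfsg.Agent.Helper28
open Cfsg.Spor.ON (Gen)

noncomputable section

namespace K30
abbrev LD1_c0 := D1.c0
abbrev LD1_c1 := D1.c1
abbrev LD1_c2 := D1.c2
abbrev LD1_c3 := D1.c3
abbrev LD1_c4 := D1.c4
abbrev LD1_c5 := D1.c5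
abbrev LD1_c6 := D1.c6
abbrev LD1_c7 := D1.c7
abbrev LD1_c8 := D1.c8
abbrev LD1_c9 := D1.c9
abbrev LD1_c10 := D1.c10
abbrev LD1_c11 := D1.c11
abbrev LD1_c12 := D1.c12
abbrev LD1_c13 := D1.c13
abbrev LD1_c14 := D1.c14
abbrev LD1_c15 := D1.c15
abbrev LD1_c16 := D1.c16
abbrev LD1_c17 := D1.c17
abbrev LD1_c18 := D1.c18
abbrev LD1_c19 := D1.c19
abbrev LD1_c20 := D1.c20
abbrev LD1_c21 := D1.c21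
abbrev LD1_c22 := D1.c22
abbrev LD1_c23 := D1.c23
abbrev LD1_c24 := D1.c24
abbrev LD1_c25 := D1.c25
abbrev LD1_c26 := D1.c26
abbrev LD1_c27 := D1.c27
abbrev LD1_c28 := D1.c28
abbrev LD1_c29 := D1.c29
abbrev LD1_c30 := D1.c30
abbrev LD1_c31 := D1.c31
abbrev LD1_c32 := D1.c32
abbrev LD2_c0 := D2.c0
abbrev LD2_c1 := D2.c1
abbrev LD2_c2 := D2.c2
abbrev LD2_c3 := D2.c3
abbrev LD2_c4 := D2.c4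
abbrev LD2_c5 := D2.c5
abbrev LD2_c6 := D2.c6
abbrev LD2_c7 := D2.c7
abbrev LD2_c8 := D2.c8
abbrev LD2_c9 := D2.c9
abbrev LD2_c10 := D2.c10
abbrev LD2_c11 := D2.c11
abbrev LD2_c12 := D2.c12
abbrev LD2_c13 := D2.c13
abbrev LD2_c14 := D2.c14
abbrev LD2_c15 := D2.c15
abbrev LD2_c16 := D2.c16
abbrev LD2_c17 := D2.c17
abbrev LD2_c18 := D2.c18
abbrev LD2_c19 := D2.c19
abbrev LD2_c20 := D2.c20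
abbrev LD2_c21 := D2.c21
abbrev LD2_c22 := D2.c22
abbrev LD2_c23 := D2.c23
abbrev LD2_c24 := D2.c24
abbrev LD2_c25 := D2.c25
abbrev LD2_c26 := D2.c26
abbrev LD2_c27 := D2.c27
abbrev LD2_c28 := D2.c28
abbrev LD2_c29 := D2.c29
abbrev LD2_c30 := D2.c30
abbrev LD2_c31 := D2.c31
abbrev LD2_c32 := D2.c32
abbrev LD2_c33 := D2.c33
abbrev LD2_c34 := D2.c34
abbrev LD2_c35 := D2.c35
abbrev LD2_c36 := D2.c36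
abbrev LD2_c37 := D2.c37
abbrev LD2_c38 := D2.c38
abbrev LD2_c39 := D2.c39
abbrev LD2_c40 := D2.c40
abbrev LD2_c41 := D2.c41
abbrev LD2_c42 := D2.c42
abbrev LD2_c43 := D2.c43
abbrev LD2_c44 := D2.c44
abbrev LD2_c45 := D2.c45
abbrev LD2_c46 := D2.c46
abbrev LD2_c47 := D2.c47
abbrev LD2_c48 := D2.c48
abbrev LD2_c49 := D2.c49
abbrev LD2_c50 := D2.c50
abbrev LD2_c51 := D2.c51
abbrev LD2_c52 := D2.c52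
abbrev LD2_c53 := D2.c53
abbrev LD2_c54 := D2.c54
abbrev LD2_c55 := D2.c55
abbrev LD2_c56 := D2.c56
abbrev LD2_c57 := D2.c57
abbrev LD2_c58 := D2.c58
abbrev LD2_c59 := D2.c59
abbrev LD3_c0 := D3.c0
abbrev LD3_c1 := D3.c1
abbrev LD3_c2 := D3.c2
abbrev LD3_c3 := D3.c3
abbrev LD3_c4 := D3.c4
abbrev LD3_c5 := D3.c5
abbrev LD3_c6 := D3.c6
abbrev LD3_c7 := D3.c7
abbrev LD3_c8 := D3.c8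
abbrev LD3_c9 := D3.c9
abbrev LD3_c10 := D3.c10
abbrev LD3_c11 := D3.c11
abbrev LD3_c12 := D3.c12
abbrev LD3_c13 := D3.c13
abbrev LD3_c14 := D3.c14
abbrev LD3_c15 := D3.c15
abbrev LD3_c16 := D3.c16
abbrev LD3_c17 := D3.c17
abbrev LD3_c18 := D3.c18
abbrev LD3_c19 := D3.c19
abbrev LD3_c20 := D3.c20
abbrev LD3_c21 := D3.c21
abbrev LD3_c22 := D3.c22
abbrev LD3_c23 := D3.c23
abbrev LD3_c24 := D3.c24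
abbrev LD3_c25 := D3.c25
abbrev LD3_c26 := D3.c26
abbrev LD3_c27 := D3.c27
abbrev LD3_c28 := D3.c28
abbrev LD3_c29 := D3.c29
abbrev LD3_c30 := D3.c30
abbrev LD3_c31 := D3.c31
abbrev LD3_c32 := D3.c32
abbrev LD3_c33 := D3.c33
abbrev LD3_c34 := D3.c34
abbrev LD3_c35 := D3.c35
abbrev LD3_c36 := D3.c36
abbrev LD3_c37 := D3.c37
abbrev LD3_c38 := D3.c38
abbrev LD3_c39 := D3.c39
abbrev LD3_c40 := D3.c40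
abbrev LD3_c41 := D3.c41
abbrev LD3_c42 := D3.c42
abbrev LD3_c43 := D3.c43
abbrev LD3_c44 := D3.c44
abbrev LD3_c45 := D3.c45
abbrev LD3_c46 := D3.c46
abbrev LD3_c47 := D3.c47
abbrev LD3_c48 := D3.c48
abbrev LD3_c49 := D3.c49
abbrev LD3_c50 := D3.c50
abbrev LD3_c51 := D3.c51
abbrev LD3_c52 := D3.c52
abbrev LD3_c53 := D3.c53
abbrev LD3_c54 := D3.c54
abbrev LD3_c55 := D3.c55
abbrev LD3_c56 := D3.c56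
abbrev LD3_c57 := D3.c57
abbrev LD3_c58 := D3.c58
abbrev LD3_c59 := D3.c59
abbrev LD3_c60 := D3.c60
abbrev LD3_c61 := D3.c61
abbrev LG_g := Gen.g
abbrev Lsl_gt : Gen × Bool := sl_gt
alias Lfl_gt := fl_gt
alias Lpr_gt := pr_gt
abbrev Lsl_gf : Gen × Bool := sl_gf
alias Lfl_gf := fl_gf
alias Lpr_gf := pr_gf
alias Lre_g := re_g
alias Leoe_g := eoe_g
abbrev LG_a := Gen.a
abbrev Lsl_at : Gen × Bool := sl_at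
alias Lfl_at := fl_at
alias Lpr_at := pr_at
abbrev Lsl_af : Gen × Bool := sl_af
alias Lfl_af := fl_af
alias Lpr_af := pr_af
alias Lre_a := re_a
alias Leoe_a := eoe_a
abbrev LG_b := Gen.b
abbrev Lsl_bt : Gen × Bool := sl_bt
alias Lfl_bt := fl_bt
alias Lpr_bt := pr_bt
abbrev Lsl_bf : Gen × Bool := sl_bf
alias Lfl_bf := fl_bf
alias Lpr_bf := pr_bf
alias Lre_b := re_b
alias Leoe_b := eoe_b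
abbrev LG_c := Gen.c
abbrev Lsl_ct : Gen × Bool := sl_ct
alias Lfl_ct := fl_ct
alias Lpr_ct := pr_ct
abbrev Lsl_cf : Gen × Bool := sl_cf
alias Lfl_cf := fl_cf
alias Lpr_cf := pr_cf
alias Lre_c := re_c
alias Leoe_c := eoe_c
abbrev LG_d := Gen.d
abbrev Lsl_dt : Gen × Bool := sl_dt
alias Lfl_dt := fl_dt
alias Lpr_dt := pr_dt
abbrev Lsl_df : Gen × Bool := sl_df
alias Lfl_df := fl_df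
alias Lpr_df := pr_df
alias Lre_d := re_d
alias Leoe_d := eoe_d
abbrev LG_e := Gen.e
abbrev Lsl_et : Gen × Bool := sl_et
alias Lfl_et := fl_et
alias Lpr_et := pr_et
abbrev Lsl_ef : Gen × Bool := sl_ef
alias Lfl_ef := fl_ef
alias Lpr_ef := pr_ef
alias Lre_e := re_e
alias Leoe_e := eoe_e
abbrev LG_f := Gen.f
abbrev Lsl_ft : Gen × Bool := sl_ft
alias Lfl_ft := fl_ft
alias Lpr_ft := pr_ft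
abbrev Lsl_ff : Gen × Bool := sl_ff
alias Lfl_ff := fl_ff
alias Lpr_ff := pr_ff
alias Lre_f := re_f
alias Leoe_f := eoe_f
abbrev LK := Pt.mk
abbrev LQ : Type := Qt rels S
abbrev LP (p : Pt) : LQ := P p
abbrev Led (l : Gen × Bool) (c : LQ) : LQ := ed l c
abbrev LEOK (x : Gen) (p : Pt) : Prop := EntryOK rels S fwd inv o plet idx x p
alias Lpe := pe
alias Lpn := pn
alias Lgr := gr
alias Lpq := pq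
alias Lpqs := pqs
alias Llr := lr
alias Leop := eop
alias Lefun := efun
alias Lecon := econ
theorem Lrfl {α : Sort _} {a : α} : a = a := rfl
alias Lrot0 := rot0
alias Lrot1 := rot1
alias Lrot2 := rot2
alias Lrot3 := rot3
alias Lrot4 := rot4
alias Lrot5 := rot5
alias Lrot6 := rot6
alias Lrot7 := rot7
alias Lrot8 := rot8
alias Lrot9 := rot9
alias Lrot10 := rot10
alias Lrot11 := rot11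
alias Lrot12 := rot12
alias Lrot13 := rot13
alias Lrot14 := rot14
alias Lrot15 := rot15
alias Lrot18 := rot18
alias Lrot19 := rot19
alias Lrot20 := rot20
alias Lrot21 := rot21
alias Lrot22 := rot22
alias Lrot23 := rot23
alias Lrot24 := rot24
alias Lrot25 := rot25
alias Lrot26 := rot26
alias Lrot27 := rot27
alias Lrot28 := rot28
alias Lrot29 := rot29
alias Lrot30 := rot30
alias Lrot31 := rot31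
alias Lrot32 := rot32
alias Lrot33 := rot33
alias Lrot34 := rot34
alias Lrot35 := rot35
alias Lrot36 := rot36
alias Lrot38 := rot38
alias Lrot39 := rot39
alias Lrot40 := rot40
alias Lrot42 := rot42
alias Lrot43 := rot43
alias Lrot44 := rot44
alias Lrot45 := rot45
alias Lrot46 := rot46
alias Lrot47 := rot47
alias Lrot48 := rot48
alias Lrot49 := rot49
alias Lrot50 := rot50
alias Lrot51 := rot51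
alias Lrot52 := rot52
alias Lrot54 := rot54
alias Lrot55 := rot55
alias Lrot56 := rot56
alias Lrot57 := rot57
alias Lrot58 := rot58
alias Lrot59 := rot59
alias Lrot60 := rot60
alias Lrot61 := rot61
alias Lrot62 := rot62
alias Lrot63 := rot63
alias Lrot64 := rot64
alias Lrot65 := rot65
alias Lrot66 := rot66
alias Lrot67 := rot67
alias Lrot68 := rot68
alias Lrot69 := rot69
alias Lrot70 := rot70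
alias Lrot71 := rot71
alias Lrot72 := rot72
alias Lrot73 := rot73
alias Lrot74 := rot74
alias Lrot75 := rot75
alias Lrot76 := rot76
alias Lrot77 := rot77
alias Lrot78 := rot78
alias Lrot79 := rot79
alias Lrot80 := rot80
alias Lrot81 := rot81
alias Lrot82 := rot82
alias Lrot83 := rot83
alias Lrot84 := rot84
alias Lrot86 := rot86
alias Lrot87 := rot87
alias Lrot88 := rot88
alias Lrot90 := rot90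
alias Lrot91 := rot91
alias Lrot92 := rot92
alias Lrot93 := rot93
alias Lrot94 := rot94
alias Lrot95 := rot95
alias Lrot96 := rot96
alias Lrot97 := rot97
alias Lrot98 := rot98
alias Lrot99 := rot99
alias Lrot100 := rot100
alias Lrot101 := rot101
alias Lrot102 := rot102
alias Lrot103 := rot103
alias Lrot104 := rot104
alias Lrot105 := rot105
alias Lrot106 := rot106
alias Lrot107 := rot107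
alias Lrot108 := rot108
alias Lrot109 := rot109
alias Lrot110 := rot110
alias Lrot111 := rot111
alias Lrot112 := rot112
alias Lrot113 := rot113
alias Lrot116 := rot116
alias Lrot117 := rot117
alias Lrot118 := rot118
alias Lrot119 := rot119
alias Lrot120 := rot120
alias Lrot121 := rot121
alias Lrot123 := rot123
alias Lrot124 := rot124
alias Lrot125 := rot125
alias Lrot126 := rot126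
alias Lrot127 := rot127
alias Lrot128 := rot128
alias Lrot129 := rot129
alias Lrot130 := rot130
alias Lrot131 := rot131
alias Lrot132 := rot132
alias Lrot133 := rot133
alias Lrot134 := rot134
alias Lrot135 := rot135
alias Lrot137 := rot137
alias Lrot138 := rot138
alias Lrot140 := rot140
alias Lrot141 := rot141
alias Lrot142 := rot142
alias Lrot143 := rot143
alias Lrot144 := rot144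
alias Lrot145 := rot145
alias Lrot146 := rot146
alias Lrot147 := rot147
alias Lrot148 := rot148
alias Lrot149 := rot149
alias Lrot150 := rot150
alias Lrot151 := rot151
alias Lrot152 := rot152
alias Lrot153 := rot153
alias Lrot155 := rot155
alias Lrot156 := rot156
alias Lrot157 := rot157
alias Lrot158 := rot158
alias Lrot159 := rot159
alias Lrot160 := rot160
alias Lrot162 := rot162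
alias Lrot163 := rot163
alias Lrot164 := rot164
alias Lrot165 := rot165
alias Lrot166 := rot166
alias Lrot168 := rot168
alias Lrot169 := rot169
alias Lrot170 := rot170
alias Lrot171 := rot171
alias Lrot175 := rot175
alias Lrot176 := rot176
alias Lrot177 := rot177
alias Lrot179 := rot179
alias Lrot181 := rot181
alias Lrot182 := rot182
alias Lrot183 := rot183
alias Lrot184 := rot184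
alias Lrot185 := rot185
alias Lrot186 := rot186
alias Lrot189 := rot189
alias Lrot191 := rot191

section
variable (IH : IHT)
include IH

theorem f441546 : Led Lsl_gt (LP (LK LD1_c6 LD2_c51 LD3_c50)) = (LP (LK LD1_c13 LD2_c3 LD3_c12)) :=
  Lre_g IH (LK LD1_c6 LD2_c51 LD3_c50) (LK LD1_c13 LD2_c3 LD3_c12) Lrfl Lrfl
theorem f484092 : Led Lsl_gt (LP (LK LD1_c13 LD2_c3 LD3_c12)) = (LP (LK LD1_c6 LD2_c53 LD3_c36)) :=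
  Lgr Lrot46 (Lpe (f441546 IH) (Lpe (K29.f484037 IH) (Lpr_at (K29.f484084 IH) (Lpn (LP (LK LD1_c6 LD2_c53 LD3_c36))))))
theorem f468896 : Led Lsl_ct (LP (LK LD1_c3 LD2_c27 LD3_c49)) = (LP (LK LD1_c1 LD2_c40 LD3_c29)) :=
  Lre_c IH (LK LD1_c3 LD2_c27 LD3_c49) (LK LD1_c1 LD2_c40 LD3_c29) Lrfl Lrfl
theorem f468893 : Led Lsl_gt (LP (LK LD1_c3 LD2_c27 LD3_c49)) = (LP (LK LD1_c6 LD2_c57 LD3_c52)) :=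
  Lre_g IH (LK LD1_c3 LD2_c27 LD3_c49) (LK LD1_c6 LD2_c57 LD3_c52) Lrfl Lrfl
theorem f491716 : Led Lsl_df (LP (LK LD1_c13 LD2_c3 LD3_c12)) = (LP (LK LD1_c6 LD2_c57 LD3_c52)) :=
  Lgr Lrot153 (Lpr_gt (f484092 IH) (Lpr_dt (K29.f94323 IH) (Lpe (K4.f94319 IH) (Lpr_df (K4.f94300 IH) (Lpr_gf (K29.f478475 IH) (Lpr_df (K29.f491649 IH) (Lpr_gf (K29.f491715 IH) (Lpe (f468896 IH) (Lpr_gt (f468893 IH) (Lpn (LP (LK LD1_c6 LD2_c57 LD3_c52))))))))))))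
theorem f491717 : Led Lsl_dt (LP (LK LD1_c6 LD2_c57 LD3_c52)) = (LP (LK LD1_c13 LD2_c3 LD3_c12)) :=
  Leop (Lpr_df (f491716 IH) (Lpn (LP (LK LD1_c6 LD2_c57 LD3_c52))))
theorem seed_95 : LEOK LG_d (LK LD1_c6 LD2_c57 LD3_c52) :=
  Leoe_d (LK LD1_c6 LD2_c57 LD3_c52) (f491717 IH)
def v1093 : LQ := Led Lsl_et K24.v246
theorem f491398 : Led Lsl_et K24.v246 = v1093 :=
  Lrfl
def v147 : LQ := Led Lsl_dt (LP (LK LD1_c0 LD2_c21 LD3_c21))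
def v977 : LQ := Led Lsl_gt v147
theorem f490808 : Led Lsl_gt v147 = v977 :=
  Lrfl
theorem f450735 : Led Lsl_dt (LP (LK LD1_c0 LD2_c21 LD3_c21)) = v147 :=
  Lrfl
theorem f490810 : Led Lsl_df K24.v246 = v977 :=
  Lgr Lrot84 (Lpe (K24.f451321 IH) (Lpe (K11.f11199 IH) (Lpe (K11.f4474 IH) (Lpe (K11.f4473 IH) (Lpe (K24.f12714 IH) (Lpe (K24.f446521 IH) (Lpqs (K28.f457658 IH) (Lpe (K28.f450733 IH) (Lpr_dt (f450735 IH) (Lpr_gt (f490808 IH) (Lpn v977)))))))))))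
theorem f490811 : Led Lsl_dt K24.v246 = v977 :=
  Lgr Lrot42 (Lpr_df (f490810 IH) (Lpn v977))
def v655 : LQ := Led Lsl_dt (LP (LK LD1_c0 LD2_c47 LD3_c47))
theorem f455804 : Led Lsl_dt (LP (LK LD1_c0 LD2_c47 LD3_c47)) = v655 :=
  Lrfl
theorem f450736 : Led Lsl_df (LP (LK LD1_c0 LD2_c21 LD3_c21)) = v147 :=
  Lgr Lrot38 (Lpr_dt (f450735 IH) (Lpn v147))
theorem f455807 : Led Lsl_ff v147 = v655 :=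
  Lgr Lrot19 (Lpe (f450736 IH) (Lpr_ft (K2.f18564 IH) (Lpr_dt (f455804 IH) (Lpn v655))))
theorem f455809 : Led Lsl_ft v147 = v655 :=
  Lgr Lrot48 (Lpr_ff (f455807 IH) (Lpn v655))
theorem f11094 : Led Lsl_et (LP (LK LD1_c0 LD2_c9 LD3_c40)) = (LP (LK LD1_c0 LD2_c4 LD3_c32)) :=
  Lre_e IH (LK LD1_c0 LD2_c9 LD3_c40) (LK LD1_c0 LD2_c4 LD3_c32) Lrfl Lrfl
theorem f450737 : Led Lsl_ef (LP (LK LD1_c0 LD2_c21 LD3_c22)) = v147 :=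
  Lgr Lrot73 (Lpr_dt (K3.f7399 IH) (Lpr_et (f11094 IH) (Lpr_dt (K0.f167 IH) (Lpr_et (K24.f11066 IH) (Lpr_dt (f450735 IH) (Lpn v147))))))
theorem f450738 : Led Lsl_et (LP (LK LD1_c0 LD2_c21 LD3_c22)) = v147 :=
  Lgr Lrot87 (Lpr_ef (f450737 IH) (Lpn v147))
theorem f450739 : Led Lsl_af v147 = v147 :=
  Lgr Lrot50 (Lpe (f450737 IH) (Lpr_at (K3.f11092 IH) (Lpr_et (f450738 IH) (Lpn v147))))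
theorem f455810 : Led Lsl_af v655 = v655 :=
  Lgr Lrot45 (Lpe (f455807 IH) (Lpe (f450739 IH) (Lpr_ft (f455809 IH) (Lpn v655))))
theorem f490809 : Led Lsl_gf v655 = v977 :=
  Lgr Lrot76 (Lpr_af (f455810 IH) (Lpe (f455809 IH) (Lpr_gt (f490808 IH) (Lpn v977))))
theorem f18558 : Led Lsl_et (LP (LK LD1_c0 LD2_c47 LD3_c47)) = (LP (LK LD1_c0 LD2_c21 LD3_c20)) :=
  Lre_e IH (LK LD1_c0 LD2_c47 LD3_c47) (LK LD1_c0 LD2_c21 LD3_c20) Lrfl Lrfl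
theorem f491402 : Led Lsl_gt K29.v1091 = v1093 :=
  Lgr Lrot131 (Lpe (K29.f491384 IH) (Lpr_dt (K24.f452065 IH) (Lpqs (K24.f455957 IH) (Lpe (K24.f455702 IH) (Lpe (K24.f446516 IH) (Lpr_gf (K28.f446514 IH) (Lpe (f18558 IH) (Lpr_dt (f455804 IH) (Lpr_gf (f490809 IH) (Lpe (f490811 IH) (Lpr_et (f491398 IH) (Lpn v1093))))))))))))
def v649 : LQ := Led Lsl_et (LP (LK LD1_c0 LD2_c47 LD3_c44))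
theorem f455774 : Led Lsl_et (LP (LK LD1_c0 LD2_c47 LD3_c44)) = v649 :=
  Lrfl
theorem f455776 : Led Lsl_ef (LP (LK LD1_c0 LD2_c47 LD3_c44)) = v649 :=
  Lgr Lrot88 (Lpr_et (f455774 IH) (Lpn v649))
def v1074 : LQ := Led Lsl_gf K24.v223
theorem f491285 : Led Lsl_gf K24.v223 = v1074 :=
  Lrfl
def v985 : LQ := Led Lsl_dt K29.v156
theorem f490866 : Led Lsl_dt K29.v156 = v985 :=
  Lrfl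
def v781 : LQ := Led Lsl_ft (LP (LK LD1_c0 LD2_c50 LD3_c42))
theorem f459346 : Led Lsl_ft (LP (LK LD1_c0 LD2_c50 LD3_c42)) = v781 :=
  Lrfl
theorem f459349 : Led Lsl_ff (LP (LK LD1_c0 LD2_c50 LD3_c42)) = v781 :=
  Lgr Lrot3 (Lpr_ft (f459346 IH) (Lpn v781))
theorem f123403 : Led Lsl_dt (LP (LK LD1_c0 LD2_c50 LD3_c42)) = (LP (LK LD1_c0 LD2_c53 LD3_c49)) :=
  Lre_d IH (LK LD1_c0 LD2_c50 LD3_c42) (LK LD1_c0 LD2_c53 LD3_c49) Lrfl Lrfl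
theorem f457352 : Led Lsl_af (LP (LK LD1_c0 LD2_c53 LD3_c49)) = (LP (LK LD1_c0 LD2_c53 LD3_c49)) :=
  Lgr Lrot117 (Lpr_dt (K24.f145419 IH) (Lpr_at (K29.f457350 IH) (Lpr_dt (f123403 IH) (Lpn (LP (LK LD1_c0 LD2_c53 LD3_c49))))))
theorem f145409 : Led Lsl_gf (LP (LK LD1_c0 LD2_c53 LD3_c50)) = (LP (LK LD1_c0 LD2_c53 LD3_c48)) :=
  Lgr Lrot76 (Lpr_af (K6.f145399 IH) (Lpe (K6.f84917 IH) (Lpr_gt (K29.f11270 IH) (Lpn (LP (LK LD1_c0 LD2_c53 LD3_c48))))))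
theorem f457355 : Led Lsl_ft (LP (LK LD1_c0 LD2_c53 LD3_c48)) = (LP (LK LD1_c0 LD2_c53 LD3_c49)) :=
  Lgr Lrot2 (Lpe (f145409 IH) (Lpr_gt (K24.f145417 IH) (Lpr_af (f457352 IH) (Lpn (LP (LK LD1_c0 LD2_c53 LD3_c49))))))
theorem f457358 : Led Lsl_ff (LP (LK LD1_c0 LD2_c53 LD3_c48)) = (LP (LK LD1_c0 LD2_c53 LD3_c49)) :=
  Lgr Lrot3 (Lpr_ft (f457355 IH) (Lpn (LP (LK LD1_c0 LD2_c53 LD3_c49))))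
theorem f459351 : Led Lsl_dt (LP (LK LD1_c0 LD2_c53 LD3_c48)) = v781 :=
  Lgr Lrot60 (Lpr_ff (f457358 IH) (Lpe (f123403 IH) (Lpr_ff (f459349 IH) (Lpn v781))))
theorem f490871 : Led Lsl_cf v781 = v985 :=
  Lgr Lrot14 (Lpe (f459351 IH) (Lpe (K29.f11270 IH) (Lpe (K6.f11269 IH) (Lpe (K24.f12124 IH) (Lpqs (K29.f456045 IH) (Lpe (K29.f450790 IH) (Lpr_gt (K24.f5928 IH) (Lpr_dt (K24.f6633 IH) (Lpr_gt (K29.f450792 IH) (Lpr_dt (f490866 IH) (Lpn v985)))))))))))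
theorem f459347 : Led Lsl_df (LP (LK LD1_c0 LD2_c53 LD3_c48)) = v781 :=
  Lgr Lrot78 (Lpr_ft (f457355 IH) (Lpr_dt (K24.f145419 IH) (Lpr_ft (f459346 IH) (Lpn v781))))
theorem f456964 : Led Lsl_ct K29.v726 = (LP (LK LD1_c0 LD2_c53 LD3_c48)) :=
  Lgr Lrot59 (Lpr_cf (K29.f456963 IH) (Lpn (LP (LK LD1_c0 LD2_c53 LD3_c48))))
def v628 : LQ := Led Lsl_dt (LP (LK LD1_c0 LD2_c47 LD3_c37))
theorem f455606 : Led Lsl_dt (LP (LK LD1_c0 LD2_c47 LD3_c37)) = v628 :=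
  Lrfl
theorem f479108 : Led Lsl_gf K29.v724 = v628 :=
  Lgr Lrot134 (Lpe (K29.f479092 IH) (Lpr_et (K29.f479093 IH) (Lpr_gt (K24.f455192 IH) (Lpe (K24.f455186 IH) (Lpr_dt (K24.f15751 IH) (Lpe (K24.f15749 IH) (Lpe (K24.f15729 IH) (Lpe (K24.f18180 IH) (Lpr_gt (K28.f446508 IH) (Lpr_dt (f455606 IH) (Lpn v628)))))))))))
def v629 : LQ := Led Lsl_et (LP (LK LD1_c0 LD2_c47 LD3_c37))
theorem f455609 : Led Lsl_et (LP (LK LD1_c0 LD2_c47 LD3_c37)) = v629 :=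
  Lrfl
theorem f479109 : Led Lsl_gf v629 = K24.v277 :=
  Lgr Lrot141 (Lpe (f455609 IH) (Lpr_dt (f455606 IH) (Lpe (f479108 IH) (Lpe (K29.f479092 IH) (Lpr_et (K29.f479093 IH) (Lpr_gt (K24.f455192 IH) (Lpe (K24.f455187 IH) (Lpe (K24.f455208 IH) (Lpe (K24.f451493 IH) (Lpr_et (K24.f451495 IH) (Lpn K24.v277)))))))))))
theorem f457420 : Led Lsl_cf K24.v578 = v629 :=
  Lgr Lrot39 (Lpe (K24.f454969 IH) (Lpr_ct (K24.f454966 IH) (Lpqs (K24.f457414 IH) (Lpr_et (f455609 IH) (Lpn v629)))))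
theorem f490876 : Led Lsl_gt K24.v578 = v985 :=
  Lgr Lrot150 (Lpr_cf (f457420 IH) (Lpr_gf (f479109 IH) (Lpe (K24.f451499 IH) (Lpr_gt (K24.f5926 IH) (Lpr_ct (K29.f5915 IH) (Lpr_gt (K29.f456941 IH) (Lpr_ct (f456964 IH) (Lpr_df (f459347 IH) (Lpr_cf (f490871 IH) (Lpn v985))))))))))
theorem f459350 : Led Lsl_at v781 = v781 :=
  Lgr Lrot66 (Lpe (f459346 IH) (Lpe (K29.f457350 IH) (Lpr_ff (f459349 IH) (Lpn v781))))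
theorem f490870 : Led Lsl_ct v781 = v985 :=
  Lgr Lrot7 (Lpe (f459351 IH) (Lpe (K29.f11270 IH) (Lpe (K6.f11269 IH) (Lpe (K24.f12124 IH) (Lpqs (K29.f456045 IH) (Lpe (K29.f450788 IH) (Lpr_gt (K24.f5928 IH) (Lpr_dt (K24.f6633 IH) (Lpr_gt (K29.f450792 IH) (Lpr_dt (f490866 IH) (Lpn v985)))))))))))
theorem f490873 : Led Lsl_at v985 = v985 :=
  Lgr Lrot107 (Lpe (f490870 IH) (Lpe (f459350 IH) (Lpr_cf (f490871 IH) (Lpn v985))))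
theorem f490875 : Led Lsl_ft K24.v281 = v985 :=
  Lgr Lrot4 (Lpr_cf (K24.f456254 IH) (Lpr_ff (f459349 IH) (Lpr_cf (f490871 IH) (Lpn v985))))
theorem f490877 : Led Lsl_gf K24.v578 = K24.v281 :=
  Lgr Lrot47 (Lpr_gt (f490876 IH) (Lpe (f490873 IH) (Lpe (f490875 IH) (Lpn K24.v281))))
theorem f455659 : Led Lsl_ff (LP (LK LD1_c0 LD2_c47 LD3_c44)) = K28.v635 :=
  Lgr Lrot3 (Lpr_ft (K28.f455657 IH) (Lpn K28.v635))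
theorem f455681 : Led Lsl_at (LP (LK LD1_c0 LD2_c47 LD3_c44)) = K24.v637 :=
  Lgr Lrot66 (Lpr_ff (f455659 IH) (Lpe (K28.f455653 IH) (Lpr_ff (K24.f455679 IH) (Lpn K24.v637))))
theorem f459324 : Led Lsl_af v649 = v649 :=
  Lgr Lrot50 (Lpe (f455776 IH) (Lpr_at (f455681 IH) (Lpqs (K24.f458798 IH) (Lpr_et (f455774 IH) (Lpn v649)))))
def v640 : LQ := Led Lsl_et (LP (LK LD1_c0 LD2_c47 LD3_c41))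
theorem f455709 : Led Lsl_et (LP (LK LD1_c0 LD2_c47 LD3_c41)) = v640 :=
  Lrfl
theorem f455711 : Led Lsl_gf (LP (LK LD1_c0 LD2_c50 LD3_c42)) = v640 :=
  Lgr Lrot141 (Lpe (K24.f451000 IH) (Lpr_dt (K11.f4493 IH) (Lpr_gt (K11.f451333 IH) (Lpe (K11.f451331 IH) (Lpr_et (K11.f11248 IH) (Lpr_gt (K11.f11233 IH) (Lpr_dt (K24.f11192 IH) (Lpr_gt (K24.f12121 IH) (Lpe (K24.f446538 IH) (Lpr_et (f455709 IH) (Lpn v640)))))))))))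
theorem f457712 : Led Lsl_cf K24.v654 = v640 :=
  Lgr Lrot166 (Lpr_gt (K29.f457709 IH) (Lpr_dt (K24.f452101 IH) (Lpe (K24.f452099 IH) (Lpe (K24.f448760 IH) (Lpe (K24.f122770 IH) (Lpe (K24.f12179 IH) (Lpe (K24.f84918 IH) (Lpe (f123403 IH) (Lpr_gf (f455711 IH) (Lpn v640))))))))))
theorem f455777 : Led Lsl_ct (LP (LK LD1_c0 LD2_c47 LD3_c46)) = v649 :=
  Lgr Lrot15 (Lpe (K24.f450719 IH) (Lpe (K24.f446521 IH) (Lpr_ef (f455776 IH) (Lpn v649))))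
theorem f457713 : Led Lsl_ft v649 = v640 :=
  Lgr Lrot4 (Lpe (f455777 IH) (Lpr_ff (K24.f455803 IH) (Lpr_cf (f457712 IH) (Lpn v640))))
theorem f457715 : Led Lsl_ff v649 = v640 :=
  Lgr Lrot3 (Lpr_ft (f457713 IH) (Lpn v640))
theorem f459325 : Led Lsl_gf v649 = (LP (LK LD1_c0 LD2_c50 LD3_c42)) :=
  Lgr Lrot76 (Lpr_af (f459324 IH) (Lpr_ff (f457715 IH) (Lpe (f455711 IH) (Lpn (LP (LK LD1_c0 LD2_c50 LD3_c42))))))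
theorem f491288 : Led Lsl_dt v649 = v1074 :=
  Lgr Lrot57 (Lpr_gf (f459325 IH) (Lpe (K29.f456256 IH) (Lpe (f490877 IH) (Lpe (K24.f454970 IH) (Lpr_gt (K24.f454978 IH) (Lpr_dt (K24.f5929 IH) (Lpq (K24.f456044 IH) (Lpe (K24.f451185 IH) (Lpr_df (K24.f451189 IH) (Lpr_gf (f491285 IH) (Lpn v1074)))))))))))
theorem f479076 : Led Lsl_ft K24.v307 = K24.v308 :=
  Lgr Lrot54 (Lpr_df (K24.f455790 IH) (Lpr_ff (K29.f479074 IH) (Lpr_df (K24.f452102 IH) (Lpn K24.v308))))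
theorem f479070 : Led Lsl_at K24.v308 = K24.v308 :=
  Lgr Lrot51 (Lpe (K24.f452101 IH) (Lpr_af (K29.f479068 IH) (Lpr_df (K24.f452102 IH) (Lpn K24.v308))))
theorem f455791 : Led Lsl_dt K24.v307 = K24.v651 :=
  Lgr Lrot42 (Lpr_df (K24.f455790 IH) (Lpn K24.v651))
theorem f479072 : Led Lsl_ff K24.v307 = K24.v308 :=
  Lgr Lrot19 (Lpr_dt (f455791 IH) (Lpr_ft (K29.f479071 IH) (Lpr_dt (K24.f452101 IH) (Lpn K24.v308))))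
theorem f479122 : Led Lsl_af K24.v307 = K24.v307 :=
  Lgr Lrot45 (Lpr_ft (f479076 IH) (Lpr_at (f479070 IH) (Lpe (f479072 IH) (Lpn K24.v307))))
theorem f479123 : Led Lsl_at K24.v223 = K24.v223 :=
  Lgr Lrot80 (Lpr_ef (K24.f452098 IH) (Lpr_af (f479122 IH) (Lpe (K24.f452097 IH) (Lpn K24.v223))))
def v312 : LQ := Led Lsl_dt K24.v101
theorem f452112 : Led Lsl_dt K24.v101 = v312 :=
  Lrfl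
theorem f479166 : Led Lsl_ff K24.v223 = v312 :=
  Lgr Lrot19 (Lpe (K24.f451189 IH) (Lpq (K29.f478686 IH) (Lpe (K24.f451184 IH) (Lpr_dt (f452112 IH) (Lpn v312)))))
theorem f491286 : Led Lsl_gt v312 = v1074 :=
  Lgr Lrot5 (Lpe (f479166 IH) (Lpr_at (f479123 IH) (Lpr_gf (f491285 IH) (Lpn v1074))))
theorem f491403 : Led Lsl_gf K29.v313 = v1093 :=
  Lgr Lrot141 (Lpe (K29.f452114 IH) (Lpr_dt (f452112 IH) (Lpr_gt (f491286 IH) (Lpe (f491288 IH) (Lpe (f455776 IH) (Lpqs (K28.f457658 IH) (Lpe (K28.f450733 IH) (Lpr_dt (f450735 IH) (Lpr_gt (f490808 IH) (Lpe (f490811 IH) (Lpr_et (f491398 IH) (Lpn v1093))))))))))))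
theorem f145423 : Led Lsl_et (LP (LK LD1_c0 LD2_c50 LD3_c42)) = (LP (LK LD1_c0 LD2_c22 LD3_c53)) :=
  Lre_e IH (LK LD1_c0 LD2_c50 LD3_c42) (LK LD1_c0 LD2_c22 LD3_c53) Lrfl Lrfl
theorem f156373 : Led Lsl_ft (LP (LK LD1_c0 LD2_c4 LD3_c52)) = (LP (LK LD1_c0 LD2_c4 LD3_c54)) :=
  Lgr Lrot54 (Lpe (K0.f345 IH) (Lpr_ff (K7.f156371 IH) (Lpe (K0.f5826 IH) (Lpn (LP (LK LD1_c0 LD2_c4 LD3_c54))))))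
theorem f447684 : Led Lsl_ef (LP (LK LD1_c0 LD2_c22 LD3_c55)) = K11.v97 :=
  Lgr Lrot21 (Lpr_ft (K11.f4488 IH) (Lpr_et (K11.f4468 IH) (Lpr_ft (f156373 IH) (Lpr_et (K11.f11295 IH) (Lpr_ft (K11.f447682 IH) (Lpn K11.v97))))))
def v96 : LQ := Led Lsl_dt (LP (LK LD1_c0 LD2_c10 LD3_c26))
def v304 : LQ := Led Lsl_ft v96
theorem f452075 : Led Lsl_ft v96 = v304 :=
  Lrfl
theorem f452077 : Led Lsl_ff v96 = v304 :=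
  Lgr Lrot3 (Lpr_ft (f452075 IH) (Lpn v304))
theorem f447677 : Led Lsl_dt (LP (LK LD1_c0 LD2_c10 LD3_c26)) = v96 :=
  Lrfl
theorem f447678 : Led Lsl_df (LP (LK LD1_c0 LD2_c10 LD3_c26)) = v96 :=
  Lgr Lrot38 (Lpr_dt (f447677 IH) (Lpn v96))
theorem f452079 : Led Lsl_dt K11.v97 = v304 :=
  Lgr Lrot60 (Lpe (K11.f447682 IH) (Lpr_df (f447678 IH) (Lpr_ff (f452077 IH) (Lpn v304))))
def v78 : LQ := Led Lsl_dt (LP (LK LD1_c0 LD2_c4 LD3_c55))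
theorem f446778 : Led Lsl_dt (LP (LK LD1_c0 LD2_c4 LD3_c55)) = v78 :=
  Lrfl
theorem f446779 : Led Lsl_df (LP (LK LD1_c0 LD2_c4 LD3_c55)) = v78 :=
  Lgr Lrot38 (Lpr_dt (f446778 IH) (Lpn v78))
theorem f447679 : Led Lsl_ef v78 = v96 :=
  Lgr Lrot73 (Lpe (f446779 IH) (Lpr_et (K7.f11296 IH) (Lpr_dt (K0.f5825 IH) (Lpr_et (K11.f11295 IH) (Lpr_dt (f447677 IH) (Lpn v96))))))
theorem f447680 : Led Lsl_et v78 = v96 :=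
  Lgr Lrot87 (Lpr_ef (f447679 IH) (Lpn v96))
theorem f446781 : Led Lsl_at v78 = v78 :=
  Lgr Lrot51 (Lpe (f446778 IH) (Lpe (K7.f156382 IH) (Lpr_df (f446779 IH) (Lpn v78))))
theorem f447681 : Led Lsl_af v96 = v96 :=
  Lgr Lrot50 (Lpe (f447679 IH) (Lpr_at (f446781 IH) (Lpr_et (f447680 IH) (Lpn v96))))
def v302 : LQ := Led Lsl_gf v96
theorem f452069 : Led Lsl_gf v96 = v302 :=
  Lrfl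
theorem f452081 : Led Lsl_gf v302 = v304 :=
  Lgr Lrot47 (Lpe (f452069 IH) (Lpr_af (f447681 IH) (Lpr_ff (f452077 IH) (Lpn v304))))
theorem f452116 : Led Lsl_df v302 = K29.v313 :=
  Lgr Lrot168 (Lpr_gf (f452081 IH) (Lpe (f452079 IH) (Lpe (f447684 IH) (Lpr_gf (K11.f436798 IH) (Lpe (f145423 IH) (Lpr_dt (f123403 IH) (Lpe (K24.f145417 IH) (Lpe (K6.f123369 IH) (Lpr_gf (K24.f448765 IH) (Lpr_ef (K29.f452115 IH) (Lpn K29.v313)))))))))))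
theorem f491404 : Led Lsl_ct K11.v247 = v1093 :=
  Lgr Lrot8 (Lpe (K24.f451330 IH) (Lpe (K24.f451014 IH) (Lpr_gt (K24.f4491 IH) (Lpe (K11.f4481 IH) (Lpe (K4.f12851 IH) (Lpr_df (f447678 IH) (Lpr_gf (f452069 IH) (Lpr_df (f452116 IH) (Lpr_gf (f491403 IH) (Lpn v1093))))))))))
theorem f451332 : Led Lsl_bt (LP (LK LD1_c0 LD2_c54 LD3_c13)) = (LP (LK LD1_c0 LD2_c24 LD3_c26)) :=
  Lre_b IH (LK LD1_c0 LD2_c54 LD3_c13) (LK LD1_c0 LD2_c24 LD3_c26) Lrfl Lrfl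
theorem f490433 : Led Lsl_bt K11.v247 = K29.v917 :=
  Lgr Lrot35 (Lpe (K11.f451348 IH) (Lpe (f451332 IH) (Lpr_ff (K29.f490429 IH) (Lpn K29.v917))))
theorem f148253 : Led Lsl_ct (LP (LK LD1_c1 LD2_c53 LD3_c53)) = (LP (LK LD1_c3 LD2_c54 LD3_c33)) :=
  Lre_c IH (LK LD1_c1 LD2_c53 LD3_c53) (LK LD1_c3 LD2_c54 LD3_c33) Lrfl Lrfl
theorem f484705 : Led Lsl_bt (LP (LK LD1_c3 LD2_c27 LD3_c46)) = (LP (LK LD1_c1 LD2_c40 LD3_c29)) :=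
  Lre_b IH (LK LD1_c3 LD2_c27 LD3_c46) (LK LD1_c1 LD2_c40 LD3_c29) Lrfl Lrfl
theorem f484681 : Led Lsl_ct (LP (LK LD1_c3 LD2_c27 LD3_c46)) = (LP (LK LD1_c6 LD2_c57 LD3_c41)) :=
  Lre_c IH (LK LD1_c3 LD2_c27 LD3_c46) (LK LD1_c6 LD2_c57 LD3_c41) Lrfl Lrfl
theorem f491719 : Led Lsl_gt (LP (LK LD1_c3 LD2_c54 LD3_c33)) = (LP (LK LD1_c6 LD2_c57 LD3_c41)) :=
  Lgr Lrot149 (Lpe (f148253 IH) (Lpr_gf (K29.f490430 IH) (Lpe (f490433 IH) (Lpr_ct (f491404 IH) (Lpe (f491402 IH) (Lpe (K29.f491390 IH) (Lpr_bt (K29.f491654 IH) (Lpr_gf (K29.f491715 IH) (Lpe (f484705 IH) (Lpr_ct (f484681 IH) (Lpn (LP (LK LD1_c6 LD2_c57 LD3_c41)))))))))))))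
theorem f491720 : Led Lsl_gt (LP (LK LD1_c3 LD2_c54 LD3_c33)) = (LP (LK LD1_c6 LD2_c57 LD3_c41)) :=
  Leop (Lpe (f491719 IH) (Lpn (LP (LK LD1_c3 LD2_c54 LD3_c33))))
theorem seed_96 : LEOK LG_g (LK LD1_c3 LD2_c54 LD3_c33) :=
  Leoe_g (LK LD1_c3 LD2_c54 LD3_c33) (f491720 IH)
def v297 : LQ := Led Lsl_bt K11.v95
def v1181 : LQ := Led Lsl_et v297
theorem f493538 : Led Lsl_et v297 = v1181 :=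
  Lrfl
theorem f493540 : Led Lsl_ef v297 = v1181 :=
  Lgr Lrot88 (Lpr_et (f493538 IH) (Lpn v1181))
theorem f451571 : Led Lsl_bt K11.v95 = v297 :=
  Lrfl
theorem f451572 : Led Lsl_bf K11.v95 = v297 :=
  Lgr Lrot24 (Lpr_bt (f451571 IH) (Lpn v297))
theorem f493541 : Led Lsl_bt K11.v300 = v1181 :=
  Lgr Lrot119 (Lpe (K11.f451577 IH) (Lpr_bf (f451572 IH) (Lpr_ef (f493540 IH) (Lpn v1181))))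
theorem f11045 : Led Lsl_bt (LP (LK LD1_c3 LD2_c38 LD3_c2)) = (LP (LK LD1_c1 LD2_c45 LD3_c55)) :=
  Lre_b IH (LK LD1_c3 LD2_c38 LD3_c2) (LK LD1_c1 LD2_c45 LD3_c55) Lrfl Lrfl
theorem f479436 : Led Lsl_gt (LP (LK LD1_c7 LD2_c3 LD3_c15)) = (LP (LK LD1_c7 LD2_c16 LD3_c34)) :=
  Lgr Lrot46 (Lpr_gf (K29.f479434 IH) (Lpe (K28.f473215 IH) (Lpr_at (K28.f473217 IH) (Lpn (LP (LK LD1_c7 LD2_c16 LD3_c34))))))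
theorem f458491 : Led Lsl_ct (LP (LK LD1_c3 LD2_c30 LD3_c38)) = (LP (LK LD1_c7 LD2_c3 LD3_c15)) :=
  Lre_c IH (LK LD1_c3 LD2_c30 LD3_c38) (LK LD1_c7 LD2_c3 LD3_c15) Lrfl Lrfl
theorem f443513 : Led Lsl_bt (LP (LK LD1_c3 LD2_c30 LD3_c38)) = (LP (LK LD1_c1 LD2_c41 LD3_c57)) :=
  Lre_b IH (LK LD1_c3 LD2_c30 LD3_c38) (LK LD1_c1 LD2_c41 LD3_c57) Lrfl Lrfl
theorem f493545 : Led Lsl_gf (LP (LK LD1_c1 LD2_c41 LD3_c57)) = v1181 :=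
  Lgr Lrot124 (Lpe (f443513 IH) (Lpr_ct (f458491 IH) (Lpr_gt (f479436 IH) (Lpe (K28.f11046 IH) (Lpr_bt (f11045 IH) (Lpr_gt (K24.f457123 IH) (Lpqs (K24.f457406 IH) (Lpe (K24.f457399 IH) (Lpr_gt (K24.f455945 IH) (Lpr_cf (K24.f455685 IH) (Lpq (K24.f455957 IH) (Lpr_bt (f493541 IH) (Lpn v1181)))))))))))))
theorem f443508 : Led Lsl_et (LP (LK LD1_c0 LD2_c47 LD3_c28)) = (LP (LK LD1_c1 LD2_c41 LD3_c58)) :=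
  Lre_e IH (LK LD1_c0 LD2_c47 LD3_c28) (LK LD1_c1 LD2_c41 LD3_c58) Lrfl Lrfl
def v870 : LQ := Led Lsl_gf (LP (LK LD1_c0 LD2_c53 LD3_c8))
theorem f490174 : Led Lsl_gf (LP (LK LD1_c0 LD2_c53 LD3_c8)) = v870 :=
  Lrfl
theorem f129889 : Led Lsl_at (LP (LK LD1_c3 LD2_c53 LD3_c2)) = (LP (LK LD1_c1 LD2_c53 LD3_c9)) :=
  Lre_a IH (LK LD1_c3 LD2_c53 LD3_c2) (LK LD1_c1 LD2_c53 LD3_c9) Lrfl Lrfl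
theorem f63048 : Led Lsl_at (LP (LK LD1_c1 LD2_c52 LD3_c59)) = (LP (LK LD1_c3 LD2_c52 LD3_c35)) :=
  Lre_a IH (LK LD1_c1 LD2_c52 LD3_c59) (LK LD1_c3 LD2_c52 LD3_c35) Lrfl Lrfl
theorem f473924 : Led Lsl_at (LP (LK LD1_c0 LD2_c53 LD3_c11)) = (LP (LK LD1_c0 LD2_c53 LD3_c8)) :=
  Lgr Lrot67 (Lpe (K29.f129654 IH) (Lpe (f129889 IH) (Lpr_bf (K29.f473922 IH) (Lpe (f63048 IH) (Lpe (K29.f63002 IH) (Lpn (LP (LK LD1_c0 LD2_c53 LD3_c8))))))))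
theorem f490175 : Led Lsl_gt (LP (LK LD1_c1 LD2_c51 LD3_c1)) = v870 :=
  Lgr Lrot5 (Lpe (K29.f473597 IH) (Lpr_at (f473924 IH) (Lpr_gf (f490174 IH) (Lpn v870))))
theorem f493546 : Led Lsl_dt v870 = v1181 :=
  Lgr Lrot57 (Lpe (f490175 IH) (Lpe (K29.f129891 IH) (Lpr_gt (K29.f468639 IH) (Lpe (K29.f477179 IH) (Lpr_gt (K29.f460437 IH) (Lpr_dt (K24.f455544 IH) (Lpe (K24.f455542 IH) (Lpe (K29.f455539 IH) (Lpr_gf (f493545 IH) (Lpn v1181))))))))))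
theorem f442190 : Led Lsl_et (LP (LK LD1_c1 LD2_c41 LD3_c35)) = (LP (LK LD1_c3 LD2_c29 LD3_c48)) :=
  Lre_e IH (LK LD1_c1 LD2_c41 LD3_c35) (LK LD1_c3 LD2_c29 LD3_c48) Lrfl Lrfl
theorem f493548 : Led Lsl_gt (LP (LK LD1_c1 LD2_c41 LD3_c58)) = (LP (LK LD1_c3 LD2_c29 LD3_c48)) :=
  Lgr Lrot131 (Lpe (f443508 IH) (Lpr_dt (K5.f87980 IH) (Lpr_gf (f493545 IH) (Lpe (f493546 IH) (Lpe (f490175 IH) (Lpe (K29.f129793 IH) (Lpr_dt (K29.f129664 IH) (Lpe (K29.f474414 IH) (Lpe (K29.f442188 IH) (Lpr_et (f442190 IH) (Lpn (LP (LK LD1_c3 LD2_c29 LD3_c48)))))))))))))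
theorem f493549 : Led Lsl_gt (LP (LK LD1_c1 LD2_c41 LD3_c58)) = (LP (LK LD1_c3 LD2_c29 LD3_c48)) :=
  Leop (Lpe (f493548 IH) (Lpn (LP (LK LD1_c1 LD2_c41 LD3_c58))))
theorem seed_97 : LEOK LG_g (LK LD1_c1 LD2_c41 LD3_c58) :=
  Leoe_g (LK LD1_c1 LD2_c41 LD3_c58) (f493549 IH)
theorem f129772 : Led Lsl_gt (LP (LK LD1_c3 LD2_c30 LD3_c47)) = (LP (LK LD1_c1 LD2_c41 LD3_c58)) :=
  Lre_g IH (LK LD1_c3 LD2_c30 LD3_c47) (LK LD1_c1 LD2_c41 LD3_c58) Lrfl Lrfl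
theorem f456272 : Led Lsl_ct (LP (LK LD1_c3 LD2_c42 LD3_c2)) = (LP (LK LD1_c1 LD2_c47 LD3_c58)) :=
  Lre_c IH (LK LD1_c3 LD2_c42 LD3_c2) (LK LD1_c1 LD2_c47 LD3_c58) Lrfl Lrfl
theorem f474668 : Led Lsl_ct (LP (LK LD1_c3 LD2_c29 LD3_c48)) = (LP (LK LD1_c7 LD2_c1 LD3_c12)) :=
  Lre_c IH (LK LD1_c3 LD2_c29 LD3_c48) (LK LD1_c7 LD2_c1 LD3_c12) Lrfl Lrfl
theorem f474674 : Led Lsl_at (LP (LK LD1_c1 LD2_c47 LD3_c58)) = (LP (LK LD1_c3 LD2_c29 LD3_c48)) :=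
  Lgr Lrot107 (Lpe (f456272 IH) (Lpr_af (K29.f474662 IH) (Lpe (f474668 IH) (Lpn (LP (LK LD1_c3 LD2_c29 LD3_c48))))))
theorem f493550 : Led Lsl_ft (LP (LK LD1_c3 LD2_c30 LD3_c47)) = (LP (LK LD1_c1 LD2_c47 LD3_c58)) :=
  Lgr Lrot2 (Lpr_gt (f129772 IH) (Lpr_gt (f493548 IH) (Lpe (f474674 IH) (Lpn (LP (LK LD1_c1 LD2_c47 LD3_c58))))))
theorem f456271 : Led Lsl_bt (LP (LK LD1_c1 LD2_c47 LD3_c58)) = (LP (LK LD1_c0 LD2_c50 LD3_c44)) :=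
  Lre_b IH (LK LD1_c1 LD2_c47 LD3_c58) (LK LD1_c0 LD2_c50 LD3_c44) Lrfl Lrfl
theorem f493553 : Led Lsl_bf (LP (LK LD1_c3 LD2_c30 LD3_c47)) = K24.v643 :=
  Lgr Lrot61 (Lpr_ft (f493550 IH) (Lpr_bt (f456271 IH) (Lpr_ft (K24.f457425 IH) (Lpn K24.v643))))
theorem f129757 : Led Lsl_ct (LP (LK LD1_c1 LD2_c41 LD3_c58)) = (LP (LK LD1_c3 LD2_c30 LD3_c43)) :=
  Lre_c IH (LK LD1_c1 LD2_c41 LD3_c58) (LK LD1_c3 LD2_c30 LD3_c43) Lrfl Lrfl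
theorem f461609 : Led Lsl_et (LP (LK LD1_c1 LD2_c41 LD3_c56)) = (LP (LK LD1_c3 LD2_c30 LD3_c43)) :=
  Lre_e IH (LK LD1_c1 LD2_c41 LD3_c56) (LK LD1_c3 LD2_c30 LD3_c43) Lrfl Lrfl
theorem f473638 : Led Lsl_dt (LP (LK LD1_c3 LD2_c53 LD3_c21)) = (LP (LK LD1_c7 LD2_c48 LD3_c22)) :=
  Lre_d IH (LK LD1_c3 LD2_c53 LD3_c21) (LK LD1_c7 LD2_c48 LD3_c22) Lrfl Lrfl
theorem f472398 : Led Lsl_et (LP (LK LD1_c3 LD2_c29 LD3_c44)) = (LP (LK LD1_c7 LD2_c1 LD3_c5)) :=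
  Lre_e IH (LK LD1_c3 LD2_c29 LD3_c44) (LK LD1_c7 LD2_c1 LD3_c5) Lrfl Lrfl
theorem f477932 : Led Lsl_gt (LP (LK LD1_c3 LD2_c30 LD3_c43)) = (LP (LK LD1_c7 LD2_c1 LD3_c5)) :=
  Lgr Lrot131 (Lpe (f461609 IH) (Lpr_dt (K29.f460524 IH) (Lpe (K29.f460437 IH) (Lpr_df (K29.f477179 IH) (Lpe (K29.f468639 IH) (Lpe (K29.f474051 IH) (Lpr_dt (f473638 IH) (Lpe (K29.f474430 IH) (Lpe (K29.f441375 IH) (Lpr_et (f472398 IH) (Lpn (LP (LK LD1_c7 LD2_c1 LD3_c5)))))))))))))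
theorem f482948 : Led Lsl_ct (LP (LK LD1_c3 LD2_c29 LD3_c44)) = (LP (LK LD1_c1 LD2_c46 LD3_c25)) :=
  Lgr Lrot152 (Lpr_gf (K29.f441373 IH) (Lpe (K3.f85238 IH) (Lpe (K29.f109697 IH) (Lpr_ct (K29.f64679 IH) (Lpr_gt (K29.f482942 IH) (Lpr_ct (K4.f65511 IH) (Lpe (K4.f62837 IH) (Lpe (K29.f65512 IH) (Lpr_gf (K29.f481678 IH) (Lpn (LP (LK LD1_c1 LD2_c46 LD3_c25))))))))))))
theorem f105567 : Led Lsl_et (LP (LK LD1_c7 LD2_c1 LD3_c5)) = (LP (LK LD1_c3 LD2_c29 LD3_c44)) :=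
  Lre_e IH (LK LD1_c7 LD2_c1 LD3_c5) (LK LD1_c3 LD2_c29 LD3_c44) Lrfl Lrfl
theorem f481698 : Led Lsl_et (LP (LK LD1_c1 LD2_c46 LD3_c25)) = (LP (LK LD1_c3 LD2_c38 LD3_c59)) :=
  Lre_e IH (LK LD1_c1 LD2_c46 LD3_c25) (LK LD1_c3 LD2_c38 LD3_c59) Lrfl Lrfl
theorem f482954 : Led Lsl_cf (LP (LK LD1_c7 LD2_c1 LD3_c5)) = (LP (LK LD1_c3 LD2_c38 LD3_c59)) :=
  Lgr Lrot39 (Lpr_et (f105567 IH) (Lpr_ct (f482948 IH) (Lpr_et (f481698 IH) (Lpn (LP (LK LD1_c3 LD2_c38 LD3_c59))))))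
theorem f482961 : Led Lsl_bt (LP (LK LD1_c3 LD2_c38 LD3_c59)) = (LP (LK LD1_c1 LD2_c46 LD3_c28)) :=
  Lre_b IH (LK LD1_c3 LD2_c38 LD3_c59) (LK LD1_c1 LD2_c46 LD3_c28) Lrfl Lrfl
theorem f482962 : Led Lsl_gt (LP (LK LD1_c1 LD2_c46 LD3_c28)) = (LP (LK LD1_c3 LD2_c39 LD3_c2)) :=
  Lre_g IH (LK LD1_c1 LD2_c46 LD3_c28) (LK LD1_c3 LD2_c39 LD3_c2) Lrfl Lrfl
theorem f493605 : Led Lsl_bf (LP (LK LD1_c3 LD2_c39 LD3_c2)) = (LP (LK LD1_c1 LD2_c46 LD3_c33)) :=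
  Lgr Lrot34 (Lpe (f482962 IH) (Lpe (f482961 IH) (Lpe (f482954 IH) (Lpe (f477932 IH) (Lpe (f129757 IH) (Lpe (f129772 IH) (Lpr_bf (f493553 IH) (Lpe (K24.f457423 IH) (Lpe (K24.f11036 IH) (Lpr_cf (K28.f458342 IH) (Lpn (LP (LK LD1_c1 LD2_c46 LD3_c33)))))))))))))
theorem f493606 : Led Lsl_bt (LP (LK LD1_c1 LD2_c46 LD3_c33)) = (LP (LK LD1_c3 LD2_c39 LD3_c2)) :=
  Leop (Lpr_bf (f493605 IH) (Lpn (LP (LK LD1_c1 LD2_c46 LD3_c33))))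
theorem seed_98 : LEOK LG_b (LK LD1_c1 LD2_c46 LD3_c33) :=
  Leoe_b (LK LD1_c1 LD2_c46 LD3_c33) (f493606 IH)
theorem f457628 : Led Lsl_bt (LP (LK LD1_c3 LD2_c30 LD3_c39)) = (LP (LK LD1_c1 LD2_c41 LD3_c58)) :=
  Lre_b IH (LK LD1_c3 LD2_c30 LD3_c39) (LK LD1_c1 LD2_c41 LD3_c58) Lrfl Lrfl
theorem f457498 : Led Lsl_ct (LP (LK LD1_c3 LD2_c30 LD3_c39)) = (LP (LK LD1_c7 LD2_c3 LD3_c13)) :=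
  Lre_c IH (LK LD1_c3 LD2_c30 LD3_c39) (LK LD1_c7 LD2_c3 LD3_c13) Lrfl Lrfl
theorem f455198 : Led Lsl_bt (LP (LK LD1_c1 LD2_c46 LD3_c32)) = (LP (LK LD1_c0 LD2_c49 LD3_c59)) :=
  Lre_b IH (LK LD1_c1 LD2_c46 LD3_c32) (LK LD1_c0 LD2_c49 LD3_c59) Lrfl Lrfl
theorem f455689 : Led Lsl_ct (LP (LK LD1_c1 LD2_c46 LD3_c32)) = (LP (LK LD1_c3 LD2_c39 LD3_c9)) :=
  Lre_c IH (LK LD1_c1 LD2_c46 LD3_c32) (LK LD1_c3 LD2_c39 LD3_c9) Lrfl Lrfl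
theorem f493607 : Led Lsl_gt (LP (LK LD1_c7 LD2_c3 LD3_c13)) = (LP (LK LD1_c3 LD2_c39 LD3_c9)) :=
  Lgr Lrot65 (Lpe (f457498 IH) (Lpr_bt (f457628 IH) (Lpe (f129772 IH) (Lpr_bf (f493553 IH) (Lpe (K24.f457423 IH) (Lpe (K24.f11036 IH) (Lpr_cf (K28.f458342 IH) (Lpe (K24.f450781 IH) (Lpe (f455198 IH) (Lpr_ct (f455689 IH) (Lpn (LP (LK LD1_c3 LD2_c39 LD3_c9)))))))))))))
theorem f493608 : Led Lsl_gt (LP (LK LD1_c7 LD2_c3 LD3_c13)) = (LP (LK LD1_c3 LD2_c39 LD3_c9)) :=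
  Leop (Lpe (f493607 IH) (Lpn (LP (LK LD1_c7 LD2_c3 LD3_c13))))
theorem seed_99 : LEOK LG_g (LK LD1_c7 LD2_c3 LD3_c13) :=
  Leoe_g (LK LD1_c7 LD2_c3 LD3_c13) (f493608 IH)
theorem f455196 : Led Lsl_dt (LP (LK LD1_c0 LD2_c54 LD3_c2)) = (LP (LK LD1_c1 LD2_c46 LD3_c33)) :=
  Lgr Lrot42 (Lpr_df (K24.f455193 IH) (Lpn (LP (LK LD1_c1 LD2_c46 LD3_c33))))
theorem f493652 : Led Lsl_dt (LP (LK LD1_c3 LD2_c39 LD3_c2)) = (LP (LK LD1_c1 LD2_c54 LD3_c46)) :=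
  Lgr Lrot79 (Lpr_bf (f493605 IH) (Lpe (f455196 IH) (Lpe (K29.f14944 IH) (Lpn (LP (LK LD1_c1 LD2_c54 LD3_c46))))))
theorem f493654 : Led Lsl_df (LP (LK LD1_c3 LD2_c39 LD3_c2)) = (LP (LK LD1_c1 LD2_c54 LD3_c46)) :=
  Lgr Lrot38 (Lpr_dt (f493652 IH) (Lpn (LP (LK LD1_c1 LD2_c54 LD3_c46))))
theorem f92551 : Led Lsl_gt (LP (LK LD1_c1 LD2_c46 LD3_c20)) = (LP (LK LD1_c3 LD2_c38 LD3_c17)) :=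
  Lre_g IH (LK LD1_c1 LD2_c46 LD3_c20) (LK LD1_c3 LD2_c38 LD3_c17) Lrfl Lrfl
theorem f483033 : Led Lsl_ct (LP (LK LD1_c3 LD2_c45 LD3_c1)) = (LP (LK LD1_c3 LD2_c38 LD3_c17)) :=
  Lgr Lrot63 (Lpr_bt (K28.f85257 IH) (Lpr_gt (K28.f85251 IH) (Lpe (K28.f85246 IH) (Lpr_ct (K29.f85264 IH) (Lpr_gt (K5.f87936 IH) (Lpr_cf (K29.f483014 IH) (Lpe (K29.f483031 IH) (Lpr_gt (K2.f4069 IH) (Lpr_ct (K2.f4050 IH) (Lpr_gt (f92551 IH) (Lpn (LP (LK LD1_c3 LD2_c38 LD3_c17)))))))))))))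
theorem f4159 : Led Lsl_dt (LP (LK LD1_c7 LD2_c16 LD3_c57)) = (LP (LK LD1_c3 LD2_c38 LD3_c17)) :=
  Lre_d IH (LK LD1_c7 LD2_c16 LD3_c57) (LK LD1_c3 LD2_c38 LD3_c17) Lrfl Lrfl
theorem f483040 : Led Lsl_gt (LP (LK LD1_c6 LD2_c58 LD3_c39)) = (LP (LK LD1_c7 LD2_c16 LD3_c57)) :=
  Lgr Lrot189 (Lpe (K29.f462121 IH) (Lpe (K29.f455212 IH) (Lpe (K29.f482702 IH) (Lpr_gt (K29.f129817 IH) (Lpr_dt (K28.f129813 IH) (Lpe (K29.f468105 IH) (Lpe (K28.f467366 IH) (Lpr_ct (f483033 IH) (Lpe (f4159 IH) (Lpn (LP (LK LD1_c7 LD2_c16 LD3_c57))))))))))))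
theorem f440661 : Led Lsl_dt (LP (LK LD1_c7 LD2_c0 LD3_c46)) = (LP (LK LD1_c3 LD2_c29 LD3_c33)) :=
  Lre_d IH (LK LD1_c7 LD2_c0 LD3_c46) (LK LD1_c3 LD2_c29 LD3_c33) Lrfl Lrfl
theorem f482423 : Led Lsl_ct (LP (LK LD1_c7 LD2_c47 LD3_c56)) = (LP (LK LD1_c7 LD2_c9 LD3_c24)) :=
  Lgr Lrot8 (Lpe (K29.f476412 IH) (Lpr_dt (K29.f476414 IH) (Lpr_gt (K29.f440675 IH) (Lpe (K29.f440669 IH) (Lpe (K29.f440660 IH) (Lpe (f440661 IH) (Lpr_gf (K29.f482420 IH) (Lpe (K29.f93136 IH) (Lpe (K29.f92501 IH) (Lpn (LP (LK LD1_c7 LD2_c9 LD3_c24))))))))))))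
theorem f482612 : Led Lsl_df (LP (LK LD1_c7 LD2_c18 LD3_c13)) = (LP (LK LD1_c7 LD2_c9 LD3_c24)) :=
  Lgr Lrot78 (Lpe (K29.f475134 IH) (Lpr_dt (K29.f475114 IH) (Lpr_ft (K29.f482447 IH) (Lpn (LP (LK LD1_c7 LD2_c9 LD3_c24))))))
theorem f467087 : Led Lsl_ct (LP (LK LD1_c13 LD2_c49 LD3_c15)) = (LP (LK LD1_c7 LD2_c18 LD3_c13)) :=
  Lre_c IH (LK LD1_c13 LD2_c49 LD3_c15) (LK LD1_c7 LD2_c18 LD3_c13) Lrfl Lrfl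
theorem f457053 : Led Lsl_ct (LP (LK LD1_c7 LD2_c16 LD3_c57)) = (LP (LK LD1_c13 LD2_c46 LD3_c49)) :=
  Lre_c IH (LK LD1_c7 LD2_c16 LD3_c57) (LK LD1_c13 LD2_c46 LD3_c49) Lrfl Lrfl
theorem f483052 : Led Lsl_gf (LP (LK LD1_c13 LD2_c49 LD3_c15)) = (LP (LK LD1_c13 LD2_c46 LD3_c49)) :=
  Lgr Lrot104 (Lpr_ct (f467087 IH) (Lpr_df (f482612 IH) (Lpe (f482423 IH) (Lpe (K29.f473622 IH) (Lpr_cf (K29.f482798 IH) (Lpe (K29.f455481 IH) (Lpe (K29.f455210 IH) (Lpr_gt (f483040 IH) (Lpr_ct (f457053 IH) (Lpn (LP (LK LD1_c13 LD2_c46 LD3_c49))))))))))))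
theorem f481626 : Led Lsl_cf (LP (LK LD1_c7 LD2_c17 LD3_c60)) = (LP (LK LD1_c7 LD2_c18 LD3_c31)) :=
  Lgr Lrot11 (Lpr_ct (K29.f481616 IH) (Lpn (LP (LK LD1_c7 LD2_c18 LD3_c31))))
theorem f5805 : Led Lsl_gt (LP (LK LD1_c3 LD2_c38 LD3_c18)) = (LP (LK LD1_c7 LD2_c16 LD3_c59)) :=
  Lre_g IH (LK LD1_c3 LD2_c38 LD3_c18) (LK LD1_c7 LD2_c16 LD3_c59) Lrfl Lrfl
theorem f456514 : Led Lsl_ct (LP (LK LD1_c7 LD2_c16 LD3_c59)) = (LP (LK LD1_c13 LD2_c46 LD3_c52)) :=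
  Lre_c IH (LK LD1_c7 LD2_c16 LD3_c59) (LK LD1_c13 LD2_c46 LD3_c52) Lrfl Lrfl
theorem f467383 : Led Lsl_gt (LP (LK LD1_c13 LD2_c46 LD3_c52)) = (LP (LK LD1_c13 LD2_c49 LD3_c1)) :=
  Lgr Lrot150 (Lpe (f456514 IH) (Lpe (f5805 IH) (Lpe (K2.f4065 IH) (Lpr_gt (K28.f5274 IH) (Lpe (K28.f456474 IH) (Lpr_gt (K28.f467378 IH) (Lpr_ct (K29.f466979 IH) (Lpe (K29.f4429 IH) (Lpe (K29.f4427 IH) (Lpn (LP (LK LD1_c13 LD2_c49 LD3_c1))))))))))))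
theorem f483058 : Led Lsl_df (LP (LK LD1_c13 LD2_c46 LD3_c52)) = (LP (LK LD1_c13 LD2_c46 LD3_c49)) :=
  Lgr Lrot155 (Lpr_gt (f467383 IH) (Lpr_ct (K29.f4427 IH) (Lpe (K28.f4416 IH) (Lpe (f481626 IH) (Lpr_dt (K29.f481632 IH) (Lpe (K29.f467978 IH) (Lpe (K29.f467086 IH) (Lpe (f467087 IH) (Lpr_gf (f483052 IH) (Lpn (LP (LK LD1_c13 LD2_c46 LD3_c49))))))))))))
theorem f467090 : Led Lsl_ct (LP (LK LD1_c7 LD2_c18 LD3_c12)) = (LP (LK LD1_c13 LD2_c49 LD3_c13)) :=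
  Lre_c IH (LK LD1_c7 LD2_c18 LD3_c12) (LK LD1_c13 LD2_c49 LD3_c13) Lrfl Lrfl
theorem f467401 : Led Lsl_ct (LP (LK LD1_c13 LD2_c46 LD3_c49)) = (LP (LK LD1_c7 LD2_c16 LD3_c57)) :=
  Lre_c IH (LK LD1_c13 LD2_c46 LD3_c49) (LK LD1_c7 LD2_c16 LD3_c57) Lrfl Lrfl
theorem f483042 : Led Lsl_gt (LP (LK LD1_c13 LD2_c49 LD3_c13)) = (LP (LK LD1_c13 LD2_c46 LD3_c49)) :=
  Lgr Lrot150 (Lpe (f467090 IH) (Lpe (K28.f467089 IH) (Lpe (K28.f467091 IH) (Lpr_gt (K28.f4414 IH) (Lpe (K29.f466984 IH) (Lpe (K28.f467374 IH) (Lpr_ct (f483033 IH) (Lpe (f4159 IH) (Lpe (f467401 IH) (Lpn (LP (LK LD1_c13 LD2_c46 LD3_c49))))))))))))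
theorem f483068 : Led Lsl_gf (LP (LK LD1_c3 LD2_c38 LD3_c61)) = (LP (LK LD1_c7 LD2_c18 LD3_c12)) :=
  Lgr Lrot144 (Lpr_dt (K29.f457001 IH) (Lpe (K29.f481460 IH) (Lpr_dt (K29.f98487 IH) (Lpe (K29.f441472 IH) (Lpr_df (K29.f466988 IH) (Lpe (f467383 IH) (Lpr_df (f483058 IH) (Lpe (f483042 IH) (Lpe (f467090 IH) (Lpn (LP (LK LD1_c7 LD2_c18 LD3_c12))))))))))))
theorem f483071 : Led Lsl_gt (LP (LK LD1_c3 LD2_c38 LD3_c61)) = (LP (LK LD1_c7 LD2_c18 LD3_c13)) :=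
  Lgr Lrot46 (Lpr_gf (f483068 IH) (Lpe (K29.f481362 IH) (Lpr_at (K29.f481364 IH) (Lpn (LP (LK LD1_c7 LD2_c18 LD3_c13))))))
theorem f481466 : Led Lsl_dt (LP (LK LD1_c1 LD2_c46 LD3_c26)) = (LP (LK LD1_c3 LD2_c38 LD3_c61)) :=
  Lre_d IH (LK LD1_c1 LD2_c46 LD3_c26) (LK LD1_c3 LD2_c38 LD3_c61) Lrfl Lrfl
theorem f483074 : Led Lsl_et (LP (LK LD1_c1 LD2_c46 LD3_c26)) = (LP (LK LD1_c3 LD2_c39 LD3_c0)) :=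
  Lre_e IH (LK LD1_c1 LD2_c46 LD3_c26) (LK LD1_c3 LD2_c39 LD3_c0) Lrfl Lrfl
theorem f482440 : Led Lsl_ef (LP (LK LD1_c7 LD2_c15 LD3_c24)) = (LP (LK LD1_c7 LD2_c9 LD3_c24)) :=
  Lgr Lrot88 (Lpr_et (K29.f482438 IH) (Lpn (LP (LK LD1_c7 LD2_c9 LD3_c24))))
theorem f464672 : Led Lsl_bf (LP (LK LD1_c6 LD2_c57 LD3_c43)) = (LP (LK LD1_c3 LD2_c28 LD3_c4)) :=
  Lgr Lrot24 (Lpr_bt (K28.f464670 IH) (Lpn (LP (LK LD1_c3 LD2_c28 LD3_c4))))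
theorem f477574 : Led Lsl_gt (LP (LK LD1_c7 LD2_c15 LD3_c24)) = (LP (LK LD1_c6 LD2_c58 LD3_c22)) :=
  Lgr Lrot149 (Lpr_cf (K29.f477556 IH) (Lpe (K29.f470783 IH) (Lpr_bf (K29.f473936 IH) (Lpr_ct (K29.f473440 IH) (Lpe (K29.f473528 IH) (Lpe (K28.f16714 IH) (Lpr_bt (K28.f98745 IH) (Lpe (K28.f98822 IH) (Lpr_bf (f464672 IH) (Lpr_ct (K28.f455185 IH) (Lpn (LP (LK LD1_c6 LD2_c58 LD3_c22)))))))))))))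
theorem f458613 : Led Lsl_dt (LP (LK LD1_c6 LD2_c58 LD3_c22)) = (LP (LK LD1_c13 LD2_c14 LD3_c16)) :=
  Lre_d IH (LK LD1_c6 LD2_c58 LD3_c22) (LK LD1_c13 LD2_c14 LD3_c16) Lrfl Lrfl
theorem f475221 : Led Lsl_at (LP (LK LD1_c7 LD2_c6 LD3_c13)) = (LP (LK LD1_c7 LD2_c12 LD3_c17)) :=
  Lgr Lrot100 (Lpr_af (K29.f475219 IH) (Lpn (LP (LK LD1_c7 LD2_c12 LD3_c17))))
theorem f462021 : Led Lsl_df (LP (LK LD1_c7 LD2_c37 LD3_c6)) = (LP (LK LD1_c7 LD2_c12 LD3_c17)) :=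
  Lgr Lrot38 (Lpr_dt (K29.f462010 IH) (Lpn (LP (LK LD1_c7 LD2_c12 LD3_c17))))
theorem f477580 : Led Lsl_af (LP (LK LD1_c7 LD2_c15 LD3_c24)) = (LP (LK LD1_c7 LD2_c37 LD3_c6)) :=
  Lgr Lrot117 (Lpr_dt (K29.f477576 IH) (Lpr_at (f475221 IH) (Lpe (f462021 IH) (Lpn (LP (LK LD1_c7 LD2_c37 LD3_c6))))))
theorem f477665 : Led Lsl_gf (LP (LK LD1_c3 LD2_c37 LD3_c27)) = (LP (LK LD1_c3 LD2_c53 LD3_c9)) :=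
  Lgr Lrot47 (Lpr_gt (K29.f467513 IH) (Lpr_af (f477580 IH) (Lpe (K29.f473609 IH) (Lpn (LP (LK LD1_c3 LD2_c53 LD3_c9))))))
theorem f477547 : Led Lsl_ct (LP (LK LD1_c7 LD2_c15 LD3_c28)) = (LP (LK LD1_c3 LD2_c37 LD3_c29)) :=
  Lre_c IH (LK LD1_c7 LD2_c15 LD3_c28) (LK LD1_c3 LD2_c37 LD3_c29) Lrfl Lrfl
theorem f129897 : Led Lsl_gt (LP (LK LD1_c3 LD2_c53 LD3_c8)) = (LP (LK LD1_c1 LD2_c53 LD3_c9)) :=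
  Lre_g IH (LK LD1_c3 LD2_c53 LD3_c8) (LK LD1_c1 LD2_c53 LD3_c9) Lrfl Lrfl
theorem f473595 : Led Lsl_ff (LP (LK LD1_c3 LD2_c53 LD3_c2)) = (LP (LK LD1_c7 LD2_c18 LD3_c46)) :=
  Lgr Lrot30 (Lpr_at (f129889 IH) (Lpr_ft (K29.f473593 IH) (Lpe (K29.f473591 IH) (Lpn (LP (LK LD1_c7 LD2_c18 LD3_c46))))))
theorem f476487 : Led Lsl_gf (LP (LK LD1_c3 LD2_c53 LD3_c8)) = (LP (LK LD1_c7 LD2_c18 LD3_c46)) :=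
  Lgr Lrot47 (Lpr_gt (f129897 IH) (Lpe (f129889 IH) (Lpr_ff (f473595 IH) (Lpn (LP (LK LD1_c7 LD2_c18 LD3_c46))))))
theorem f5769 : Led Lsl_et (LP (LK LD1_c0 LD2_c23 LD3_c31)) = (LP (LK LD1_c0 LD2_c51 LD3_c61)) :=
  Lre_e IH (LK LD1_c0 LD2_c23 LD3_c31) (LK LD1_c0 LD2_c51 LD3_c61) Lrfl Lrfl
theorem f5770 : Led Lsl_gt (LP (LK LD1_c1 LD2_c50 LD3_c19)) = (LP (LK LD1_c0 LD2_c51 LD3_c61)) :=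
  Lre_g IH (LK LD1_c1 LD2_c50 LD3_c19) (LK LD1_c0 LD2_c51 LD3_c61) Lrfl Lrfl
theorem f5771 : Led Lsl_et (LP (LK LD1_c3 LD2_c46 LD3_c27)) = (LP (LK LD1_c1 LD2_c50 LD3_c19)) :=
  Lre_e IH (LK LD1_c3 LD2_c46 LD3_c27) (LK LD1_c1 LD2_c50 LD3_c19) Lrfl Lrfl
theorem f476491 : Led Lsl_df (LP (LK LD1_c3 LD2_c53 LD3_c8)) = (LP (LK LD1_c3 LD2_c46 LD3_c27)) :=
  Lgr Lrot132 (Lpr_gf (f476487 IH) (Lpe (K29.f5751 IH) (Lpe (K28.f5750 IH) (Lpe (K4.f5734 IH) (Lpr_dt (K0.f5711 IH) (Lpe (K2.f5758 IH) (Lpe (K2.f5763 IH) (Lpr_et (f5769 IH) (Lpe (f5770 IH) (Lpe (f5771 IH) (Lpn (LP (LK LD1_c3 LD2_c46 LD3_c27)))))))))))))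
theorem f477669 : Led Lsl_gf (LP (LK LD1_c7 LD2_c0 LD3_c5)) = (LP (LK LD1_c3 LD2_c46 LD3_c27)) :=
  Lgr Lrot147 (Lpr_ct (K29.f463880 IH) (Lpe (K29.f477548 IH) (Lpr_ct (f477547 IH) (Lpe (K29.f10817 IH) (Lpe (K29.f467498 IH) (Lpr_gf (f477665 IH) (Lpe (K29.f129894 IH) (Lpe (f129897 IH) (Lpr_df (f476491 IH) (Lpn (LP (LK LD1_c3 LD2_c46 LD3_c27))))))))))))
theorem f463850 : Led Lsl_dt (LP (LK LD1_c7 LD2_c0 LD3_c5)) = (LP (LK LD1_c3 LD2_c29 LD3_c10)) :=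
  Lre_d IH (LK LD1_c7 LD2_c0 LD3_c5) (LK LD1_c3 LD2_c29 LD3_c10) Lrfl Lrfl
theorem f97047 : Led Lsl_dt (LP (LK LD1_c7 LD2_c12 LD3_c13)) = (LP (LK LD1_c3 LD2_c35 LD3_c48)) :=
  Lre_d IH (LK LD1_c7 LD2_c12 LD3_c13) (LK LD1_c3 LD2_c35 LD3_c48) Lrfl Lrfl
theorem f476493 : Led Lsl_dt (LP (LK LD1_c3 LD2_c53 LD3_c8)) = (LP (LK LD1_c3 LD2_c46 LD3_c27)) :=
  Lgr Lrot42 (Lpr_df (f476491 IH) (Lpn (LP (LK LD1_c3 LD2_c46 LD3_c27))))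
theorem f477568 : Led Lsl_ct (LP (LK LD1_c7 LD2_c15 LD3_c24)) = (LP (LK LD1_c7 LD2_c18 LD3_c46)) :=
  Lgr Lrot59 (Lpr_cf (K29.f477556 IH) (Lpn (LP (LK LD1_c7 LD2_c18 LD3_c46))))
theorem f477672 : Led Lsl_gf (LP (LK LD1_c7 LD2_c12 LD3_c13)) = (LP (LK LD1_c13 LD2_c14 LD3_c16)) :=
  Lgr Lrot143 (Lpr_dt (f97047 IH) (Lpr_cf (K28.f463843 IH) (Lpe (f463850 IH) (Lpr_gf (f477669 IH) (Lpe (f476493 IH) (Lpr_gf (f476487 IH) (Lpe (f477568 IH) (Lpr_gt (f477574 IH) (Lpr_dt (f458613 IH) (Lpn (LP (LK LD1_c13 LD2_c14 LD3_c16))))))))))))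
theorem f97046 : Led Lsl_et (LP (LK LD1_c3 LD2_c35 LD3_c48)) = (LP (LK LD1_c7 LD2_c12 LD3_c14)) :=
  Lre_e IH (LK LD1_c3 LD2_c35 LD3_c48) (LK LD1_c7 LD2_c12 LD3_c14) Lrfl Lrfl
theorem f483091 : Led Lsl_gf (LP (LK LD1_c3 LD2_c39 LD3_c0)) = (LP (LK LD1_c7 LD2_c12 LD3_c14)) :=
  Lgr Lrot141 (Lpe (f483074 IH) (Lpr_dt (f481466 IH) (Lpr_gt (f483071 IH) (Lpr_df (f482612 IH) (Lpe (f482440 IH) (Lpr_gt (f477574 IH) (Lpr_dt (f458613 IH) (Lpe (f477672 IH) (Lpe (K29.f97056 IH) (Lpr_et (f97046 IH) (Lpn (LP (LK LD1_c7 LD2_c12 LD3_c14)))))))))))))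
theorem f481477 : Led Lsl_ct (LP (LK LD1_c3 LD2_c39 LD3_c0)) = (LP (LK LD1_c1 LD2_c46 LD3_c28)) :=
  Lre_c IH (LK LD1_c3 LD2_c39 LD3_c0) (LK LD1_c1 LD2_c46 LD3_c28) Lrfl Lrfl
theorem f97044 : Led Lsl_df (LP (LK LD1_c7 LD2_c12 LD3_c14)) = (LP (LK LD1_c7 LD2_c13 LD3_c57)) :=
  Lgr Lrot38 (Lpr_dt (K28.f97036 IH) (Lpn (LP (LK LD1_c7 LD2_c13 LD3_c57))))
theorem f97050 : Led Lsl_ct (LP (LK LD1_c3 LD2_c36 LD3_c51)) = (LP (LK LD1_c7 LD2_c13 LD3_c58)) :=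
  Lre_c IH (LK LD1_c3 LD2_c36 LD3_c51) (LK LD1_c7 LD2_c13 LD3_c58) Lrfl Lrfl
theorem f97051 : Led Lsl_gt (LP (LK LD1_c7 LD2_c13 LD3_c58)) = (LP (LK LD1_c13 LD2_c41 LD3_c15)) :=
  Lre_g IH (LK LD1_c7 LD2_c13 LD3_c58) (LK LD1_c13 LD2_c41 LD3_c15) Lrfl Lrfl
theorem f12380 : Led Lsl_gt (LP (LK LD1_c0 LD2_c50 LD3_c19)) = (LP (LK LD1_c1 LD2_c47 LD3_c4)) :=
  Lre_g IH (LK LD1_c0 LD2_c50 LD3_c19) (LK LD1_c1 LD2_c47 LD3_c4) Lrfl Lrfl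
theorem f471300 : Led Lsl_at (LP (LK LD1_c0 LD2_c54 LD3_c9)) = (LP (LK LD1_c1 LD2_c47 LD3_c4)) :=
  Lgr Lrot26 (Lpe (K28.f451619 IH) (Lpq (K29.f471297 IH) (Lpe (K29.f457136 IH) (Lpr_gt (f12380 IH) (Lpn (LP (LK LD1_c1 LD2_c47 LD3_c4)))))))
theorem f471310 : Led Lsl_ff (LP (LK LD1_c1 LD2_c48 LD3_c21)) = (LP (LK LD1_c1 LD2_c47 LD3_c4)) :=
  Lgr Lrot30 (Lpe (K29.f470844 IH) (Lpr_ft (K28.f451619 IH) (Lpr_at (f471300 IH) (Lpn (LP (LK LD1_c1 LD2_c47 LD3_c4))))))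
theorem f203889 : Led Lsl_ct (LP (LK LD1_c3 LD2_c40 LD3_c16)) = (LP (LK LD1_c1 LD2_c47 LD3_c4)) :=
  Lre_c IH (LK LD1_c3 LD2_c40 LD3_c16) (LK LD1_c1 LD2_c47 LD3_c4) Lrfl Lrfl
theorem f471314 : Led Lsl_ft (LP (LK LD1_c3 LD2_c42 LD3_c45)) = (LP (LK LD1_c3 LD2_c40 LD3_c16)) :=
  Lgr Lrot4 (Lpe (K29.f203912 IH) (Lpr_ff (f471310 IH) (Lpe (f203889 IH) (Lpn (LP (LK LD1_c3 LD2_c40 LD3_c16))))))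
theorem f471322 : Led Lsl_ff (LP (LK LD1_c3 LD2_c42 LD3_c45)) = (LP (LK LD1_c3 LD2_c40 LD3_c16)) :=
  Lgr Lrot3 (Lpr_ft (f471314 IH) (Lpn (LP (LK LD1_c3 LD2_c40 LD3_c16))))
theorem f471332 : Led Lsl_gf (LP (LK LD1_c3 LD2_c55 LD3_c6)) = (LP (LK LD1_c3 LD2_c40 LD3_c16)) :=
  Lgr Lrot47 (Lpr_gt (K28.f465128 IH) (Lpr_af (K29.f470848 IH) (Lpr_ff (f471322 IH) (Lpn (LP (LK LD1_c3 LD2_c40 LD3_c16))))))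
theorem f12381 : Led Lsl_ct (LP (LK LD1_c1 LD2_c47 LD3_c4)) = (LP (LK LD1_c3 LD2_c40 LD3_c16)) :=
  Lre_c IH (LK LD1_c1 LD2_c47 LD3_c4) (LK LD1_c3 LD2_c40 LD3_c16) Lrfl Lrfl
theorem f471303 : Led Lsl_af (LP (LK LD1_c0 LD2_c54 LD3_c9)) = (LP (LK LD1_c1 LD2_c47 LD3_c4)) :=
  Lgr Lrot0 (Lpr_at (f471300 IH) (Lpn (LP (LK LD1_c1 LD2_c47 LD3_c4))))
theorem f471305 : Led Lsl_bf (LP (LK LD1_c1 LD2_c47 LD3_c4)) = (LP (LK LD1_c1 LD2_c47 LD3_c4)) :=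
  Lgr Lrot81 (Lpe (f471303 IH) (Lpr_bt (K28.f451273 IH) (Lpq (K24.f451609 IH) (Lpe (K24.f451283 IH) (Lpr_bt (K28.f11211 IH) (Lpr_at (f471300 IH) (Lpn (LP (LK LD1_c1 LD2_c47 LD3_c4)))))))))
theorem f471336 : Led Lsl_gt (LP (LK LD1_c3 LD2_c36 LD3_c53)) = (LP (LK LD1_c1 LD2_c45 LD3_c23)) :=
  Lgr Lrot149 (Lpe (K29.f107952 IH) (Lpr_gf (K29.f160106 IH) (Lpe (K8.f11695 IH) (Lpe (K8.f11669 IH) (Lpr_gf (f471332 IH) (Lpe (f12381 IH) (Lpe (f471305 IH) (Lpe (f12380 IH) (Lpr_bf (K28.f12363 IH) (Lpe (K29.f425434 IH) (Lpn (LP (LK LD1_c1 LD2_c45 LD3_c23)))))))))))))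
theorem f470383 : Led Lsl_af (LP (LK LD1_c1 LD2_c54 LD3_c44)) = (LP (LK LD1_c3 LD2_c33 LD3_c13)) :=
  Lgr Lrot68 (Lpr_ct (K28.f446552 IH) (Lpr_at (K29.f470376 IH) (Lpr_ct (K29.f11816 IH) (Lpn (LP (LK LD1_c3 LD2_c33 LD3_c13))))))
theorem f471380 : Led Lsl_gf (LP (LK LD1_c1 LD2_c54 LD3_c44)) = (LP (LK LD1_c1 LD2_c45 LD3_c23)) :=
  Lgr Lrot76 (Lpr_af (f470383 IH) (Lpe (K29.f470390 IH) (Lpr_gt (f471336 IH) (Lpn (LP (LK LD1_c1 LD2_c45 LD3_c23))))))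
theorem f160243 : Led Lsl_ct (LP (LK LD1_c13 LD2_c29 LD3_c44)) = (LP (LK LD1_c7 LD2_c7 LD3_c20)) :=
  Lre_c IH (LK LD1_c13 LD2_c29 LD3_c44) (LK LD1_c7 LD2_c7 LD3_c20) Lrfl Lrfl
theorem f160239 : Led Lsl_ft (LP (LK LD1_c3 LD2_c33 LD3_c11)) = (LP (LK LD1_c7 LD2_c7 LD3_c20)) :=
  Lre_f IH (LK LD1_c3 LD2_c33 LD3_c11) (LK LD1_c7 LD2_c7 LD3_c20) Lrfl Lrfl
theorem f160240 : Led Lsl_af (LP (LK LD1_c7 LD2_c13 LD3_c59)) = (LP (LK LD1_c7 LD2_c7 LD3_c20)) :=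
  Lgr Lrot45 (Lpr_ft (K8.f107983 IH) (Lpr_at (K8.f160229 IH) (Lpr_ft (f160239 IH) (Lpn (LP (LK LD1_c7 LD2_c7 LD3_c20))))))
theorem f107974 : Led Lsl_ct (LP (LK LD1_c7 LD2_c13 LD3_c59)) = (LP (LK LD1_c13 LD2_c41 LD3_c19)) :=
  Lre_c IH (LK LD1_c7 LD2_c13 LD3_c59) (LK LD1_c13 LD2_c41 LD3_c19) Lrfl Lrfl
theorem f160244 : Led Lsl_at (LP (LK LD1_c13 LD2_c41 LD3_c19)) = (LP (LK LD1_c13 LD2_c29 LD3_c44)) :=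
  Lgr Lrot107 (Lpe (f107974 IH) (Lpr_af (f160240 IH) (Lpe (f160243 IH) (Lpn (LP (LK LD1_c13 LD2_c29 LD3_c44))))))
theorem f160262 : Led Lsl_ft (LP (LK LD1_c7 LD2_c13 LD3_c58)) = (LP (LK LD1_c13 LD2_c41 LD3_c19)) :=
  Lre_f IH (LK LD1_c7 LD2_c13 LD3_c58) (LK LD1_c13 LD2_c41 LD3_c19) Lrfl Lrfl
theorem f160264 : Led Lsl_gt (LP (LK LD1_c13 LD2_c41 LD3_c15)) = (LP (LK LD1_c13 LD2_c29 LD3_c44)) :=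
  Lgr Lrot46 (Lpe (f97051 IH) (Lpr_ft (f160262 IH) (Lpr_at (f160244 IH) (Lpn (LP (LK LD1_c13 LD2_c29 LD3_c44))))))
theorem f425229 : Led Lsl_dt (LP (LK LD1_c3 LD2_c37 LD3_c1)) = (LP (LK LD1_c1 LD2_c45 LD3_c23)) :=
  Lre_d IH (LK LD1_c3 LD2_c37 LD3_c1) (LK LD1_c1 LD2_c45 LD3_c23) Lrfl Lrfl
theorem f10488 : Led Lsl_gt (LP (LK LD1_c3 LD2_c37 LD3_c1)) = (LP (LK LD1_c7 LD2_c14 LD3_c23)) :=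
  Lre_g IH (LK LD1_c3 LD2_c37 LD3_c1) (LK LD1_c7 LD2_c14 LD3_c23) Lrfl Lrfl
theorem f471387 : Led Lsl_cf (LP (LK LD1_c13 LD2_c41 LD3_c15)) = (LP (LK LD1_c7 LD2_c14 LD3_c23)) :=
  Lgr Lrot169 (Lpr_gt (f160264 IH) (Lpr_ct (f160243 IH) (Lpe (K28.f160246 IH) (Lpe (K8.f11697 IH) (Lpr_gf (K28.f456851 IH) (Lpqs (K28.f465133 IH) (Lpe (K28.f446552 IH) (Lpr_gf (f471380 IH) (Lpe (f425229 IH) (Lpr_gt (f10488 IH) (Lpn (LP (LK LD1_c7 LD2_c14 LD3_c23)))))))))))))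
theorem f471441 : Led Lsl_ct (LP (LK LD1_c13 LD2_c41 LD3_c15)) = (LP (LK LD1_c7 LD2_c14 LD3_c23)) :=
  Lgr Lrot59 (Lpr_cf (f471387 IH) (Lpn (LP (LK LD1_c7 LD2_c14 LD3_c23))))
theorem f476437 : Led Lsl_et (LP (LK LD1_c1 LD2_c46 LD3_c18)) = (LP (LK LD1_c3 LD2_c38 LD3_c43)) :=
  Lre_e IH (LK LD1_c1 LD2_c46 LD3_c18) (LK LD1_c3 LD2_c38 LD3_c43) Lrfl Lrfl
theorem f471017 : Led Lsl_gt (LP (LK LD1_c3 LD2_c38 LD3_c43)) = (LP (LK LD1_c7 LD2_c17 LD3_c50)) :=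
  Lre_g IH (LK LD1_c3 LD2_c38 LD3_c43) (LK LD1_c7 LD2_c17 LD3_c50) Lrfl Lrfl
theorem f455317 : Led Lsl_et (LP (LK LD1_c6 LD2_c58 LD3_c30)) = (LP (LK LD1_c3 LD2_c28 LD3_c8)) :=
  Lre_e IH (LK LD1_c6 LD2_c58 LD3_c30) (LK LD1_c3 LD2_c28 LD3_c8) Lrfl Lrfl
theorem f108046 : Led Lsl_et (LP (LK LD1_c0 LD2_c48 LD3_c24)) = (LP (LK LD1_c1 LD2_c43 LD3_c33)) :=
  Lre_e IH (LK LD1_c0 LD2_c48 LD3_c24) (LK LD1_c1 LD2_c43 LD3_c33) Lrfl Lrfl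
theorem f441996 : Led Lsl_gt (LP (LK LD1_c3 LD2_c38 LD3_c39)) = (LP (LK LD1_c7 LD2_c17 LD3_c40)) :=
  Lre_g IH (LK LD1_c3 LD2_c38 LD3_c39) (LK LD1_c7 LD2_c17 LD3_c40) Lrfl Lrfl
theorem f462046 : Led Lsl_dt (LP (LK LD1_c6 LD2_c58 LD3_c30)) = (LP (LK LD1_c7 LD2_c17 LD3_c40)) :=
  Lgr Lrot56 (Lpr_et (f455317 IH) (Lpr_gt (K28.f462037 IH) (Lpe (f108046 IH) (Lpr_dt (K3.f10501 IH) (Lpe (K3.f97314 IH) (Lpe (K0.f376 IH) (Lpr_et (K29.f5643 IH) (Lpr_gt (K29.f5343 IH) (Lpr_dt (K29.f5344 IH) (Lpr_gt (f441996 IH) (Lpn (LP (LK LD1_c7 LD2_c17 LD3_c40)))))))))))))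
theorem f97350 : Led Lsl_dt (LP (LK LD1_c3 LD2_c33 LD3_c34)) = (LP (LK LD1_c7 LD2_c8 LD3_c1)) :=
  Lre_d IH (LK LD1_c3 LD2_c33 LD3_c34) (LK LD1_c7 LD2_c8 LD3_c1) Lrfl Lrfl
theorem f425312 : Led Lsl_af (LP (LK LD1_c7 LD2_c14 LD3_c26)) = (LP (LK LD1_c7 LD2_c8 LD3_c1)) :=
  Lgr Lrot117 (Lpr_dt (K29.f425311 IH) (Lpr_at (K28.f425300 IH) (Lpr_dt (f97350 IH) (Lpn (LP (LK LD1_c7 LD2_c8 LD3_c1))))))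
theorem f425316 : Led Lsl_at (LP (LK LD1_c7 LD2_c14 LD3_c26)) = (LP (LK LD1_c7 LD2_c8 LD3_c1)) :=
  Lgr Lrot100 (Lpr_af (f425312 IH) (Lpn (LP (LK LD1_c7 LD2_c8 LD3_c1))))
theorem f425284 : Led Lsl_ft (LP (LK LD1_c3 LD2_c37 LD3_c1)) = (LP (LK LD1_c7 LD2_c14 LD3_c26)) :=
  Lre_f IH (LK LD1_c3 LD2_c37 LD3_c1) (LK LD1_c7 LD2_c14 LD3_c26) Lrfl Lrfl
theorem f425423 : Led Lsl_gt (LP (LK LD1_c7 LD2_c14 LD3_c23)) = (LP (LK LD1_c7 LD2_c8 LD3_c1)) :=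
  Lgr Lrot46 (Lpe (f10488 IH) (Lpr_ft (f425284 IH) (Lpr_at (f425316 IH) (Lpn (LP (LK LD1_c7 LD2_c8 LD3_c1))))))
theorem f481551 : Led Lsl_dt (LP (LK LD1_c7 LD2_c17 LD3_c50)) = (LP (LK LD1_c7 LD2_c14 LD3_c23)) :=
  Lgr Lrot171 (Lpe (f471017 IH) (Lpe (f476437 IH) (Lpr_dt (K29.f5289 IH) (Lpr_gf (K29.f481541 IH) (Lpe (f462046 IH) (Lpr_et (f455317 IH) (Lpe (K28.f455309 IH) (Lpr_ef (K28.f465623 IH) (Lpr_dt (f97350 IH) (Lpe (f425423 IH) (Lpn (LP (LK LD1_c7 LD2_c14 LD3_c23)))))))))))))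
theorem f483093 : Led Lsl_ct (LP (LK LD1_c3 LD2_c39 LD3_c2)) = (LP (LK LD1_c7 LD2_c17 LD3_c50)) :=
  Lgr Lrot110 (Lpe (f482962 IH) (Lpe (f481477 IH) (Lpr_gf (f483091 IH) (Lpr_df (f97044 IH) (Lpr_gt (K28.f97035 IH) (Lpr_ct (f97050 IH) (Lpr_gt (f97051 IH) (Lpr_ct (f471441 IH) (Lpe (f481551 IH) (Lpn (LP (LK LD1_c7 LD2_c17 LD3_c50))))))))))))
theorem f481564 : Led Lsl_df (LP (LK LD1_c7 LD2_c17 LD3_c50)) = (LP (LK LD1_c7 LD2_c14 LD3_c23)) :=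
  Lgr Lrot38 (Lpr_dt (f481551 IH) (Lpn (LP (LK LD1_c7 LD2_c14 LD3_c23))))
theorem f107950 : Led Lsl_ct (LP (LK LD1_c3 LD2_c36 LD3_c53)) = (LP (LK LD1_c1 LD2_c45 LD3_c16)) :=
  Lre_c IH (LK LD1_c3 LD2_c36 LD3_c53) (LK LD1_c1 LD2_c45 LD3_c16) Lrfl Lrfl
theorem f493656 : Led Lsl_gt (LP (LK LD1_c1 LD2_c44 LD3_c4)) = (LP (LK LD1_c1 LD2_c54 LD3_c46)) :=
  Lgr Lrot49 (Lpr_df (K29.f107839 IH) (Lpe (K29.f17442 IH) (Lpe (f107950 IH) (Lpr_gt (f471336 IH) (Lpr_dt (K28.f10487 IH) (Lpr_gt (f10488 IH) (Lpe (f481564 IH) (Lpe (f483093 IH) (Lpr_df (f493654 IH) (Lpn (LP (LK LD1_c1 LD2_c54 LD3_c46))))))))))))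
theorem f107986 : Led Lsl_bt (LP (LK LD1_c3 LD2_c34 LD3_c31)) = (LP (LK LD1_c1 LD2_c44 LD3_c4)) :=
  Lre_b IH (LK LD1_c3 LD2_c34 LD3_c31) (LK LD1_c1 LD2_c44 LD3_c4) Lrfl Lrfl
theorem f107179 : Led Lsl_ct (LP (LK LD1_c3 LD2_c34 LD3_c31)) = (LP (LK LD1_c7 LD2_c10 LD3_c6)) :=
  Lre_c IH (LK LD1_c3 LD2_c34 LD3_c31) (LK LD1_c7 LD2_c10 LD3_c6) Lrfl Lrfl
theorem f455195 : Led Lsl_bt (LP (LK LD1_c0 LD2_c54 LD3_c2)) = (LP (LK LD1_c1 LD2_c54 LD3_c46)) :=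
  Lre_b IH (LK LD1_c0 LD2_c54 LD3_c2) (LK LD1_c1 LD2_c54 LD3_c46) Lrfl Lrfl
def v913 : LQ := Led Lsl_ct (LP (LK LD1_c0 LD2_c54 LD3_c2))
theorem f490411 : Led Lsl_ct (LP (LK LD1_c0 LD2_c54 LD3_c2)) = v913 :=
  Lrfl
def v979 : LQ := Led Lsl_ct v147
theorem f490820 : Led Lsl_ct v147 = v979 :=
  Lrfl
theorem f490821 : Led Lsl_cf v147 = v979 :=
  Lgr Lrot11 (Lpr_ct (f490820 IH) (Lpn v979))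
theorem f491424 : Led Lsl_df v979 = K29.v1097 :=
  Lgr Lrot106 (Lpe (f490821 IH) (Lpe (f450736 IH) (Lpr_ct (K24.f11067 IH) (Lpr_dt (K2.f11057 IH) (Lpe (K24.f15676 IH) (Lpr_af (K0.f11148 IH) (Lpe (K0.f11158 IH) (Lpr_dt (K24.f451378 IH) (Lpr_ct (K29.f491421 IH) (Lpn K29.v1097))))))))))
theorem f491429 : Led Lsl_dt v979 = K29.v1097 :=
  Lgr Lrot42 (Lpr_df (f491424 IH) (Lpn K29.v1097))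
theorem f490822 : Led Lsl_ef K29.v148 = v979 :=
  Lgr Lrot28 (Lpe (K29.f450741 IH) (Lpr_et (f450738 IH) (Lpr_ct (f490820 IH) (Lpn v979))))
theorem f490823 : Led Lsl_et K29.v148 = v979 :=
  Lgr Lrot87 (Lpr_ef (f490822 IH) (Lpn v979))
theorem f490824 : Led Lsl_af v979 = v979 :=
  Lgr Lrot50 (Lpe (f490822 IH) (Lpe (K29.f450748 IH) (Lpr_et (f490823 IH) (Lpn v979))))
theorem f491430 : Led Lsl_af K29.v1097 = K29.v1097 :=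
  Lgr Lrot117 (Lpe (f491424 IH) (Lpe (f490824 IH) (Lpr_dt (f491429 IH) (Lpn K29.v1097))))
theorem f491423 : Led Lsl_ff K29.v258 = K29.v1097 :=
  Lgr Lrot23 (Lpe (K29.f451401 IH) (Lpr_ft (K24.f451384 IH) (Lpr_ct (K29.f491421 IH) (Lpn K29.v1097))))
theorem f451402 : Led Lsl_ef (LP (LK LD1_c0 LD2_c24 LD3_c31)) = K29.v258 :=
  Lgr Lrot28 (Lpr_ct (K3.f7421 IH) (Lpr_et (K0.f11122 IH) (Lpr_ct (K29.f451399 IH) (Lpn K29.v258))))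
theorem f451406 : Led Lsl_et (LP (LK LD1_c0 LD2_c24 LD3_c31)) = K29.v258 :=
  Lgr Lrot87 (Lpr_ef (f451402 IH) (Lpn K29.v258))
theorem f451407 : Led Lsl_af K29.v258 = K29.v258 :=
  Lgr Lrot50 (Lpe (f451402 IH) (Lpr_at (K29.f11120 IH) (Lpr_et (f451406 IH) (Lpn K29.v258))))
theorem f491431 : Led Lsl_ft K29.v258 = K29.v1097 :=
  Lgr Lrot101 (Lpr_af (f451407 IH) (Lpr_ff (f491423 IH) (Lpr_af (f491430 IH) (Lpn K29.v1097))))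
theorem f490412 : Led Lsl_cf (LP (LK LD1_c0 LD2_c54 LD3_c2)) = v913 :=
  Lgr Lrot11 (Lpr_ct (f490411 IH) (Lpn v913))
theorem f490413 : Led Lsl_gt K29.v258 = v913 :=
  Lgr Lrot150 (Lpe (K29.f451399 IH) (Lpr_gf (K24.f451391 IH) (Lpe (K24.f451395 IH) (Lpr_gt (K24.f455728 IH) (Lpq (K24.f456452 IH) (Lpe (K24.f456269 IH) (Lpe (K24.f455950 IH) (Lpr_ct (K28.f458345 IH) (Lpe (f455196 IH) (Lpr_cf (f490412 IH) (Lpn v913)))))))))))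
theorem f491432 : Led Lsl_gf K29.v1097 = v913 :=
  Lgr Lrot76 (Lpr_af (f491430 IH) (Lpe (f491431 IH) (Lpr_gt (f490413 IH) (Lpn v913))))
theorem f17060 : Led Lsl_dt (LP (LK LD1_c1 LD2_c53 LD3_c16)) = (LP (LK LD1_c0 LD2_c53 LD3_c13)) :=
  Lre_d IH (LK LD1_c1 LD2_c53 LD3_c16) (LK LD1_c0 LD2_c53 LD3_c13) Lrfl Lrfl
theorem f451379 : Led Lsl_bf (LP (LK LD1_c1 LD2_c53 LD3_c16)) = K24.v256 :=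
  Lgr Lrot93 (Lpr_dt (f17060 IH) (Lpr_bt (K0.f11161 IH) (Lpr_dt (K24.f451378 IH) (Lpn K24.v256))))
theorem f129669 : Led Lsl_et (LP (LK LD1_c1 LD2_c41 LD3_c58)) = (LP (LK LD1_c0 LD2_c47 LD3_c28)) :=
  Lre_e IH (LK LD1_c1 LD2_c41 LD3_c58) (LK LD1_c0 LD2_c47 LD3_c28) Lrfl Lrfl
theorem f129670 : Led Lsl_dt (LP (LK LD1_c1 LD2_c41 LD3_c58)) = (LP (LK LD1_c3 LD2_c30 LD3_c48)) :=
  Lre_d IH (LK LD1_c1 LD2_c41 LD3_c58) (LK LD1_c3 LD2_c30 LD3_c48) Lrfl Lrfl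
theorem f62981 : Led Lsl_et (LP (LK LD1_c0 LD2_c53 LD3_c13)) = (LP (LK LD1_c0 LD2_c23 LD3_c57)) :=
  Lre_e IH (LK LD1_c0 LD2_c53 LD3_c13) (LK LD1_c0 LD2_c23 LD3_c57) Lrfl Lrfl
theorem f62982 : Led Lsl_dt (LP (LK LD1_c0 LD2_c53 LD3_c13)) = (LP (LK LD1_c1 LD2_c53 LD3_c16)) :=
  Lre_d IH (LK LD1_c0 LD2_c53 LD3_c13) (LK LD1_c1 LD2_c53 LD3_c16) Lrfl Lrfl
theorem f129672 : Led Lsl_gf (LP (LK LD1_c3 LD2_c30 LD3_c48)) = (LP (LK LD1_c1 LD2_c53 LD3_c16)) :=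
  Lgr Lrot145 (Lpe (f129670 IH) (Lpr_et (f129669 IH) (Lpr_gt (K24.f18823 IH) (Lpr_dt (K24.f18806 IH) (Lpr_gt (K5.f64662 IH) (Lpe (K24.f64990 IH) (Lpr_et (K24.f129651 IH) (Lpr_gt (K24.f129671 IH) (Lpe (f62981 IH) (Lpr_dt (f62982 IH) (Lpn (LP (LK LD1_c1 LD2_c53 LD3_c16)))))))))))))
theorem f129763 : Led Lsl_ct (LP (LK LD1_c3 LD2_c30 LD3_c48)) = (LP (LK LD1_c7 LD2_c3 LD3_c36)) :=
  Lre_c IH (LK LD1_c3 LD2_c30 LD3_c48) (LK LD1_c7 LD2_c3 LD3_c36) Lrfl Lrfl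
theorem f493658 : Led Lsl_gf (LP (LK LD1_c7 LD2_c10 LD3_c6)) = (LP (LK LD1_c7 LD2_c3 LD3_c36)) :=
  Lgr Lrot129 (Lpe (f107179 IH) (Lpr_bt (f107986 IH) (Lpr_gt (f493656 IH) (Lpe (f455195 IH) (Lpr_ct (f490411 IH) (Lpe (f491432 IH) (Lpe (K29.f491421 IH) (Lpe (f451379 IH) (Lpe (f129672 IH) (Lpr_ct (f129763 IH) (Lpn (LP (LK LD1_c7 LD2_c3 LD3_c36)))))))))))))
theorem f493659 : Led Lsl_gt (LP (LK LD1_c7 LD2_c3 LD3_c36)) = (LP (LK LD1_c7 LD2_c10 LD3_c6)) :=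
  Leop (Lpr_gf (f493658 IH) (Lpn (LP (LK LD1_c7 LD2_c3 LD3_c36))))
theorem seed_100 : LEOK LG_g (LK LD1_c7 LD2_c3 LD3_c36) :=
  Leoe_g (LK LD1_c7 LD2_c3 LD3_c36) (f493659 IH)
theorem f493648 : Led Lsl_bt (LP (LK LD1_c3 LD2_c39 LD3_c2)) = (LP (LK LD1_c1 LD2_c46 LD3_c33)) :=
  Lgr Lrot127 (Lpr_bf (f493605 IH) (Lpn (LP (LK LD1_c1 LD2_c46 LD3_c33))))
theorem f440677 : Led Lsl_et (LP (LK LD1_c7 LD2_c0 LD3_c48)) = (LP (LK LD1_c3 LD2_c29 LD3_c35)) :=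
  Lre_e IH (LK LD1_c7 LD2_c0 LD3_c48) (LK LD1_c3 LD2_c29 LD3_c35) Lrfl Lrfl
theorem f476438 : Led Lsl_cf (LP (LK LD1_c7 LD2_c0 LD3_c48)) = (LP (LK LD1_c3 LD2_c38 LD3_c43)) :=
  Lgr Lrot39 (Lpr_et (f440677 IH) (Lpr_ct (K29.f476430 IH) (Lpr_et (f476437 IH) (Lpn (LP (LK LD1_c3 LD2_c38 LD3_c43))))))
theorem f476442 : Led Lsl_ct (LP (LK LD1_c7 LD2_c0 LD3_c48)) = (LP (LK LD1_c3 LD2_c38 LD3_c43)) :=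
  Lgr Lrot59 (Lpr_cf (f476438 IH) (Lpn (LP (LK LD1_c3 LD2_c38 LD3_c43))))
def v741 : LQ := Led Lsl_ft (LP (LK LD1_c0 LD2_c49 LD3_c59))
theorem f457019 : Led Lsl_ft (LP (LK LD1_c0 LD2_c49 LD3_c59)) = v741 :=
  Lrfl
theorem f479078 : Led Lsl_cf (LP (LK LD1_c1 LD2_c42 LD3_c22)) = v741 :=
  Lgr Lrot108 (Lpr_ft (K29.f479077 IH) (Lpqs (K24.f455957 IH) (Lpe (K24.f455685 IH) (Lpr_ft (f457019 IH) (Lpn v741)))))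
theorem f479120 : Led Lsl_gt (LP (LK LD1_c1 LD2_c46 LD3_c33)) = v741 :=
  Lgr Lrot150 (Lpe (K28.f458345 IH) (Lpr_gf (K24.f455950 IH) (Lpr_df (K24.f455166 IH) (Lpr_gt (K24.f455206 IH) (Lpr_ct (K24.f455482 IH) (Lpqs (K24.f459343 IH) (Lpe (K24.f456760 IH) (Lpe (K24.f456050 IH) (Lpr_df (K24.f12131 IH) (Lpr_cf (f479078 IH) (Lpn v741)))))))))))
theorem f455786 : Led Lsl_cf (LP (LK LD1_c0 LD2_c47 LD3_c45)) = K29.v650 :=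
  Lgr Lrot11 (Lpr_ct (K29.f455785 IH) (Lpn K29.v650))
theorem f455670 : Led Lsl_gt (LP (LK LD1_c1 LD2_c42 LD3_c19)) = (LP (LK LD1_c3 LD2_c31 LD3_c32)) :=
  Lre_g IH (LK LD1_c1 LD2_c42 LD3_c19) (LK LD1_c3 LD2_c31 LD3_c32) Lrfl Lrfl
theorem f493691 : Led Lsl_bt (LP (LK LD1_c7 LD2_c0 LD3_c48)) = (LP (LK LD1_c3 LD2_c31 LD3_c32)) :=
  Lgr Lrot92 (Lpr_ct (f476442 IH) (Lpr_gt (f471017 IH) (Lpe (f483093 IH) (Lpr_bt (f493648 IH) (Lpr_gt (f479120 IH) (Lpe (f479078 IH) (Lpr_gt (K24.f455719 IH) (Lpr_cf (f455786 IH) (Lpq (K29.f457668 IH) (Lpr_bt (K24.f451398 IH) (Lpr_gt (f455670 IH) (Lpn (LP (LK LD1_c3 LD2_c31 LD3_c32))))))))))))))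
theorem f493692 : Led Lsl_bt (LP (LK LD1_c7 LD2_c0 LD3_c48)) = (LP (LK LD1_c3 LD2_c31 LD3_c32)) :=
  Leop (Lpe (f493691 IH) (Lpn (LP (LK LD1_c7 LD2_c0 LD3_c48))))
theorem seed_101 : LEOK LG_b (LK LD1_c7 LD2_c0 LD3_c48) :=
  Leoe_b (LK LD1_c7 LD2_c0 LD3_c48) (f493692 IH)
theorem f451070 : Led Lsl_ct (LP (LK LD1_c1 LD2_c50 LD3_c33)) = (LP (LK LD1_c0 LD2_c52 LD3_c10)) :=
  Lre_c IH (LK LD1_c1 LD2_c50 LD3_c33) (LK LD1_c0 LD2_c52 LD3_c10) Lrfl Lrfl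
def v838 : LQ := Led Lsl_at (LP (LK LD1_c0 LD2_c52 LD3_c10))
theorem f459654 : Led Lsl_at (LP (LK LD1_c0 LD2_c52 LD3_c10)) = v838 :=
  Lrfl
theorem f477306 : Led Lsl_gt (LP (LK LD1_c1 LD2_c53 LD3_c1)) = (LP (LK LD1_c3 LD2_c49 LD3_c39)) :=
  Lgr Lrot49 (Lpe (K24.f62781 IH) (Lpe (K24.f63017 IH) (Lpr_cf (K29.f468614 IH) (Lpr_gt (K29.f468637 IH) (Lpe (K29.f459854 IH) (Lpr_gt (K29.f459858 IH) (Lpr_dt (K29.f477299 IH) (Lpe (K29.f461024 IH) (Lpe (K29.f461581 IH) (Lpn (LP (LK LD1_c3 LD2_c49 LD3_c39))))))))))))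
theorem f467464 : Led Lsl_bt (LP (LK LD1_c3 LD2_c37 LD3_c24)) = (LP (LK LD1_c1 LD2_c45 LD3_c36)) :=
  Lre_b IH (LK LD1_c3 LD2_c37 LD3_c24) (LK LD1_c1 LD2_c45 LD3_c36) Lrfl Lrfl
theorem f479090 : Led Lsl_gf K29.v687 = K24.v608 :=
  Lgr Lrot47 (Lpr_gt (K29.f479089 IH) (Lpqs (K24.f457393 IH) (Lpq (K24.f457393 IH) (Lpr_af (K24.f455487 IH) (Lpe (K24.f455486 IH) (Lpn K24.v608))))))
theorem f490177 : Led Lsl_bt K11.v243 = v870 :=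
  Lgr Lrot130 (Lpe (K29.f479087 IH) (Lpr_gf (f479090 IH) (Lpe (K24.f455180 IH) (Lpr_bt (K28.f455178 IH) (Lpe (K29.f477584 IH) (Lpe (f467464 IH) (Lpr_ct (K29.f467469 IH) (Lpe (f477306 IH) (Lpe (K24.f63013 IH) (Lpr_gf (f490174 IH) (Lpn v870)))))))))))
theorem f490178 : Led Lsl_bf K11.v243 = v870 :=
  Lgr Lrot24 (Lpr_bt (f490177 IH) (Lpn v870))
theorem f490179 : Led Lsl_ft (LP (LK LD1_c1 LD2_c53 LD3_c3)) = v870 :=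
  Lgr Lrot75 (Lpe (K29.f473962 IH) (Lpr_ff (K29.f479079 IH) (Lpr_bf (f490178 IH) (Lpn v870))))
theorem f487542 : Led Lsl_af (LP (LK LD1_c1 LD2_c53 LD3_c3)) = (LP (LK LD1_c1 LD2_c51 LD3_c52)) :=
  Lgr Lrot50 (Lpe (K29.f473970 IH) (Lpq (K29.f478683 IH) (Lpe (K29.f459805 IH) (Lpr_et (K29.f443505 IH) (Lpn (LP (LK LD1_c1 LD2_c51 LD3_c52)))))))
theorem f458082 : Led Lsl_gt (LP (LK LD1_c3 LD2_c52 LD3_c57)) = (LP (LK LD1_c3 LD2_c47 LD3_c53)) :=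
  Lgr Lrot150 (Lpe (K29.f458081 IH) (Lpe (K29.f62991 IH) (Lpe (K29.f62988 IH) (Lpr_gt (K1.f62769 IH) (Lpr_ct (K28.f14863 IH) (Lpr_gt (K28.f14877 IH) (Lpr_ct (K28.f14880 IH) (Lpr_df (K24.f457977 IH) (Lpr_cf (K24.f457785 IH) (Lpn (LP (LK LD1_c3 LD2_c47 LD3_c53))))))))))))
theorem f458086 : Led Lsl_gt (LP (LK LD1_c1 LD2_c53 LD3_c2)) = (LP (LK LD1_c0 LD2_c53 LD3_c11)) :=
  Lgr Lrot94 (Lpe (K29.f458085 IH) (Lpr_gt (f458082 IH) (Lpr_dt (K1.f64972 IH) (Lpr_gt (K1.f64986 IH) (Lpr_dt (K24.f64987 IH) (Lpe (K24.f64988 IH) (Lpe (K1.f62682 IH) (Lpe (K5.f64989 IH) (Lpe (K24.f64990 IH) (Lpn (LP (LK LD1_c0 LD2_c53 LD3_c11))))))))))))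
theorem f487550 : Led Lsl_ft (LP (LK LD1_c1 LD2_c53 LD3_c2)) = (LP (LK LD1_c1 LD2_c51 LD3_c52)) :=
  Lgr Lrot2 (Lpr_gt (f458086 IH) (Lpr_gt (K29.f473960 IH) (Lpr_af (f487542 IH) (Lpn (LP (LK LD1_c1 LD2_c51 LD3_c52))))))
theorem f490180 : Led Lsl_af (LP (LK LD1_c1 LD2_c53 LD3_c2)) = v870 :=
  Lgr Lrot45 (Lpr_ft (f487550 IH) (Lpe (f487542 IH) (Lpr_ft (f490179 IH) (Lpn v870))))
theorem f490181 : Led Lsl_at (LP (LK LD1_c1 LD2_c53 LD3_c2)) = v870 :=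
  Lgr Lrot100 (Lpr_af (f490180 IH) (Lpn v870))
theorem f493745 : Led Lsl_af (LP (LK LD1_c1 LD2_c50 LD3_c34)) = v1181 :=
  Lgr Lrot117 (Lpr_dt (K29.f451072 IH) (Lpr_at (f490181 IH) (Lpr_dt (f493546 IH) (Lpn v1181))))
theorem f451071 : Led Lsl_et (LP (LK LD1_c1 LD2_c50 LD3_c34)) = (LP (LK LD1_c0 LD2_c52 LD3_c10)) :=
  Lre_e IH (LK LD1_c1 LD2_c50 LD3_c34) (LK LD1_c0 LD2_c52 LD3_c10) Lrfl Lrfl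
theorem f493748 : v838 = v297 :=
  (Llr Lrot80 (Lpe (f459654 IH) (Lpe (f451071 IH) (Lpr_af (f493745 IH) (Lpe (f493538 IH) (Lpn v297)))))).symm
def v1179 : LQ := Led Lsl_ct v297
theorem f493526 : Led Lsl_ct v297 = v1179 :=
  Lrfl
theorem f493767 : Led Lsl_af (LP (LK LD1_c1 LD2_c50 LD3_c33)) = v1179 :=
  Lgr Lrot68 (Lpr_ct (f451070 IH) (Lpr_at (f459654 IH) (Lpqs (f493748 IH) (Lpr_ct (f493526 IH) (Lpn v1179)))))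
theorem f455528 : Led Lsl_bt (LP (LK LD1_c1 LD2_c50 LD3_c33)) = (LP (LK LD1_c3 LD2_c46 LD3_c57)) :=
  Lre_b IH (LK LD1_c1 LD2_c50 LD3_c33) (LK LD1_c3 LD2_c46 LD3_c57) Lrfl Lrfl
def v292 : LQ := Led Lsl_bt K24.v94
theorem f451559 : Led Lsl_bt K24.v94 = v292 :=
  Lrfl
theorem f479064 : Led Lsl_ff v297 = v292 :=
  Lgr Lrot25 (Lpe (f451572 IH) (Lpq (K24.f455958 IH) (Lpq (K29.f478886 IH) (Lpe (K29.f451569 IH) (Lpr_bt (f451559 IH) (Lpn v292))))))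
def v1170 : LQ := Led Lsl_ct v292
theorem f493488 : Led Lsl_ct v292 = v1170 :=
  Lrfl
theorem f493490 : Led Lsl_cf v292 = v1170 :=
  Lgr Lrot11 (Lpr_ct (f493488 IH) (Lpn v1170))
theorem f493529 : Led Lsl_ff v1170 = v1179 :=
  Lgr Lrot23 (Lpe (f493490 IH) (Lpe (f479064 IH) (Lpr_ct (f493526 IH) (Lpn v1179))))
theorem f451490 : Led Lsl_bf K24.v87 = K29.v274 :=
  Lgr Lrot24 (Lpr_bt (K29.f451489 IH) (Lpn K29.v274))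
def v1132 : LQ := Led Lsl_ct K29.v274
theorem f491639 : Led Lsl_ct K29.v274 = v1132 :=
  Lrfl
theorem f491641 : Led Lsl_cf K29.v274 = v1132 :=
  Lgr Lrot11 (Lpr_ct (f491639 IH) (Lpn v1132))
theorem f493489 : Led Lsl_bf v1132 = v1170 :=
  Lgr Lrot90 (Lpe (f491641 IH) (Lpe (f451490 IH) (Lpqs (K29.f455963 IH) (Lpe (K29.f451562 IH) (Lpr_bt (f451559 IH) (Lpr_ct (f493488 IH) (Lpn v1170)))))))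
theorem f4036 : Led Lsl_ct (LP (LK LD1_c1 LD2_c46 LD3_c31)) = (LP (LK LD1_c0 LD2_c49 LD3_c58)) :=
  Lre_c IH (LK LD1_c1 LD2_c46 LD3_c31) (LK LD1_c0 LD2_c49 LD3_c58) Lrfl Lrfl
theorem f491642 : Led Lsl_ff (LP (LK LD1_c1 LD2_c46 LD3_c31)) = v1132 :=
  Lgr Lrot23 (Lpr_ct (f4036 IH) (Lpr_ft (K29.f457006 IH) (Lpqs (K29.f478889 IH) (Lpr_ct (f491639 IH) (Lpn v1132)))))
theorem f493530 : Led Lsl_bt (LP (LK LD1_c1 LD2_c46 LD3_c31)) = v1179 :=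
  Lgr Lrot35 (Lpr_ff (f491642 IH) (Lpr_bf (f493489 IH) (Lpr_ff (f493529 IH) (Lpn v1179))))
theorem f455911 : Led Lsl_at (LP (LK LD1_c3 LD2_c39 LD3_c5)) = (LP (LK LD1_c1 LD2_c46 LD3_c31)) :=
  Lre_a IH (LK LD1_c3 LD2_c39 LD3_c5) (LK LD1_c1 LD2_c46 LD3_c31) Lrfl Lrfl
theorem f478902 : Led Lsl_bt (LP (LK LD1_c7 LD2_c18 LD3_c34)) = (LP (LK LD1_c3 LD2_c39 LD3_c5)) :=
  Lre_b IH (LK LD1_c7 LD2_c18 LD3_c34) (LK LD1_c3 LD2_c39 LD3_c5) Lrfl Lrfl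
theorem f493769 : Led Lsl_at (LP (LK LD1_c3 LD2_c46 LD3_c57)) = (LP (LK LD1_c7 LD2_c18 LD3_c34)) :=
  Lgr Lrot67 (Lpe (f455528 IH) (Lpr_af (f493767 IH) (Lpe (f493530 IH) (Lpe (f455911 IH) (Lpe (f478902 IH) (Lpn (LP (LK LD1_c7 LD2_c18 LD3_c34))))))))
theorem f493770 : Led Lsl_at (LP (LK LD1_c3 LD2_c46 LD3_c57)) = (LP (LK LD1_c7 LD2_c18 LD3_c34)) :=
  Leop (Lpe (f493769 IH) (Lpn (LP (LK LD1_c3 LD2_c46 LD3_c57))))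
theorem seed_102 : LEOK LG_a (LK LD1_c3 LD2_c46 LD3_c57) :=
  Leoe_a (LK LD1_c3 LD2_c46 LD3_c57) (f493770 IH)
theorem f120559 : Led Lsl_ct (LP (LK LD1_c1 LD2_c41 LD3_c28)) = (LP (LK LD1_c0 LD2_c47 LD3_c18)) :=
  Lre_c IH (LK LD1_c1 LD2_c41 LD3_c28) (LK LD1_c0 LD2_c47 LD3_c18) Lrfl Lrfl
theorem f120574 : Led Lsl_bt (LP (LK LD1_c1 LD2_c41 LD3_c28)) = (LP (LK LD1_c3 LD2_c29 LD3_c24)) :=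
  Lre_b IH (LK LD1_c1 LD2_c41 LD3_c28) (LK LD1_c3 LD2_c29 LD3_c24) Lrfl Lrfl
theorem f120373 : Led Lsl_gt (LP (LK LD1_c3 LD2_c29 LD3_c24)) = (LP (LK LD1_c7 LD2_c0 LD3_c24)) :=
  Lre_g IH (LK LD1_c3 LD2_c29 LD3_c24) (LK LD1_c7 LD2_c0 LD3_c24) Lrfl Lrfl
def v616 : LQ := Led Lsl_gf (LP (LK LD1_c0 LD2_c47 LD3_c18))
theorem f455512 : Led Lsl_gf (LP (LK LD1_c0 LD2_c47 LD3_c18)) = v616 :=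
  Lrfl
theorem f493542 : Led Lsl_df v870 = v1181 :=
  Lgr Lrot12 (Lpe (f490178 IH) (Lpr_dt (K24.f452065 IH) (Lpr_bt (f493541 IH) (Lpn v1181))))
def v206 : LQ := Led Lsl_ft (LP (LK LD1_c0 LD2_c23 LD3_c37))
theorem f451076 : Led Lsl_ft (LP (LK LD1_c0 LD2_c23 LD3_c37)) = v206 :=
  Lrfl
theorem f451078 : Led Lsl_ff (LP (LK LD1_c0 LD2_c23 LD3_c37)) = v206 :=
  Lgr Lrot3 (Lpr_ft (f451076 IH) (Lpn v206))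
theorem f18057 : Led Lsl_at (LP (LK LD1_c1 LD2_c41 LD3_c21)) = (LP (LK LD1_c0 LD2_c47 LD3_c16)) :=
  Lre_a IH (LK LD1_c1 LD2_c41 LD3_c21) (LK LD1_c0 LD2_c47 LD3_c16) Lrfl Lrfl
theorem f109108 : Led Lsl_at (LP (LK LD1_c0 LD2_c23 LD3_c31)) = (LP (LK LD1_c0 LD2_c51 LD3_c58)) :=
  Lre_a IH (LK LD1_c0 LD2_c23 LD3_c31) (LK LD1_c0 LD2_c51 LD3_c58) Lrfl Lrfl
theorem f116551 : Led Lsl_at (LP (LK LD1_c0 LD2_c21 LD3_c10)) = (LP (LK LD1_c0 LD2_c10 LD3_c35)) :=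
  Lgr Lrot67 (Lpe (K1.f11433 IH) (Lpe (f18057 IH) (Lpr_bf (K4.f116541 IH) (Lpe (f109108 IH) (Lpe (K2.f92297 IH) (Lpn (LP (LK LD1_c0 LD2_c10 LD3_c35))))))))
theorem f95973 : Led Lsl_at (LP (LK LD1_c0 LD2_c21 LD3_c11)) = (LP (LK LD1_c0 LD2_c10 LD3_c31)) :=
  Lgr Lrot51 (Lpr_df (K3.f95967 IH) (Lpe (K2.f5775 IH) (Lpe (K2.f65238 IH) (Lpn (LP (LK LD1_c0 LD2_c10 LD3_c31))))))
theorem f440630 : Led Lsl_ft (LP (LK LD1_c0 LD2_c10 LD3_c35)) = (LP (LK LD1_c0 LD2_c21 LD3_c11)) :=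
  Lgr Lrot101 (Lpe (f116551 IH) (Lpr_ff (K28.f440627 IH) (Lpe (f95973 IH) (Lpn (LP (LK LD1_c0 LD2_c21 LD3_c11))))))
theorem f451079 : Led Lsl_et (LP (LK LD1_c1 LD2_c41 LD3_c36)) = v206 :=
  Lgr Lrot69 (Lpe (K28.f109661 IH) (Lpe (K3.f95970 IH) (Lpe (f440630 IH) (Lpe (K28.f62811 IH) (Lpr_ff (f451078 IH) (Lpn v206))))))
theorem f455513 : Led Lsl_gt v206 = v616 :=
  Lgr Lrot5 (Lpe (f451078 IH) (Lpr_at (K28.f120547 IH) (Lpr_gf (f455512 IH) (Lpn v616))))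
theorem f493782 : v616 = v297 :=
  (Llr Lrot131 (Lpe (f455513 IH) (Lpe (f451079 IH) (Lpe (K29.f440665 IH) (Lpr_gf (K29.f441408 IH) (Lpe (K29.f85283 IH) (Lpr_gf (K29.f474243 IH) (Lpe (K28.f62785 IH) (Lpr_dt (K24.f62783 IH) (Lpr_gf (f490174 IH) (Lpr_df (f493542 IH) (Lpe (f493540 IH) (Lpn v297))))))))))))).symm
theorem f493528 : Led Lsl_cf v297 = v1179 :=
  Lgr Lrot11 (Lpr_ct (f493526 IH) (Lpn v1179))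
theorem f493527 : Led Lsl_bf (LP (LK LD1_c1 LD2_c46 LD3_c31)) = v1179 :=
  Lgr Lrot90 (Lpr_ct (f4036 IH) (Lpr_bt (K28.f4035 IH) (Lpqs (K29.f455959 IH) (Lpe (K29.f451574 IH) (Lpr_bt (f451571 IH) (Lpr_ct (f493526 IH) (Lpn v1179)))))))
theorem f457005 : Led Lsl_bt (LP (LK LD1_c7 LD2_c18 LD3_c37)) = (LP (LK LD1_c3 LD2_c39 LD3_c7)) :=
  Lre_b IH (LK LD1_c7 LD2_c18 LD3_c37) (LK LD1_c3 LD2_c39 LD3_c7) Lrfl Lrfl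
theorem f467640 : Led Lsl_ff (LP (LK LD1_c3 LD2_c39 LD3_c7)) = (LP (LK LD1_c1 LD2_c49 LD3_c35)) :=
  Lgr Lrot3 (Lpr_ft (K28.f467612 IH) (Lpn (LP (LK LD1_c1 LD2_c49 LD3_c35))))
theorem f467645 : Led Lsl_ct (LP (LK LD1_c3 LD2_c39 LD3_c7)) = (LP (LK LD1_c1 LD2_c49 LD3_c38)) :=
  Lgr Lrot40 (Lpr_ff (f467640 IH) (Lpe (K2.f85247 IH) (Lpe (K29.f85232 IH) (Lpn (LP (LK LD1_c1 LD2_c49 LD3_c38))))))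
theorem f467647 : Led Lsl_cf (LP (LK LD1_c7 LD2_c18 LD3_c37)) = (LP (LK LD1_c3 LD2_c45 LD3_c58)) :=
  Lgr Lrot97 (Lpr_bt (f457005 IH) (Lpr_ct (f467645 IH) (Lpr_bt (K3.f85228 IH) (Lpr_ct (K3.f85234 IH) (Lpr_bt (K3.f85243 IH) (Lpn (LP (LK LD1_c3 LD2_c45 LD3_c58))))))))
theorem f467653 : Led Lsl_ct (LP (LK LD1_c7 LD2_c18 LD3_c37)) = (LP (LK LD1_c3 LD2_c45 LD3_c58)) :=
  Lgr Lrot59 (Lpr_cf (f467647 IH) (Lpn (LP (LK LD1_c3 LD2_c45 LD3_c58))))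
theorem f440747 : Led Lsl_gt (LP (LK LD1_c7 LD2_c32 LD3_c32)) = (LP (LK LD1_c3 LD2_c45 LD3_c58)) :=
  Lre_g IH (LK LD1_c7 LD2_c32 LD3_c32) (LK LD1_c3 LD2_c45 LD3_c58) Lrfl Lrfl
theorem f493793 : Led Lsl_ct (LP (LK LD1_c7 LD2_c0 LD3_c24)) = (LP (LK LD1_c7 LD2_c32 LD3_c32)) :=
  Lgr Lrot91 (Lpe (f120373 IH) (Lpe (f120574 IH) (Lpr_ct (f120559 IH) (Lpr_gf (f455512 IH) (Lpqs (f493782 IH) (Lpr_cf (f493528 IH) (Lpe (f493527 IH) (Lpe (K28.f5329 IH) (Lpe (f457005 IH) (Lpr_ct (f467653 IH) (Lpe (f440747 IH) (Lpn (LP (LK LD1_c7 LD2_c32 LD3_c32))))))))))))))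
theorem f493794 : Led Lsl_ct (LP (LK LD1_c7 LD2_c0 LD3_c24)) = (LP (LK LD1_c7 LD2_c32 LD3_c32)) :=
  Leop (Lpe (f493793 IH) (Lpn (LP (LK LD1_c7 LD2_c0 LD3_c24))))
theorem seed_103 : LEOK LG_c (LK LD1_c7 LD2_c0 LD3_c24) :=
  Leoe_c (LK LD1_c7 LD2_c0 LD3_c24) (f493794 IH)
def v1214 : LQ := Led Lsl_bt (LP (LK LD1_c1 LD2_c3 LD3_c4))
theorem f494014 : Led Lsl_bt (LP (LK LD1_c1 LD2_c3 LD3_c4)) = v1214 :=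
  Lrfl
def v372 : LQ := Led Lsl_bt (LP (LK LD1_c0 LD2_c36 LD3_c28))
theorem f452489 : Led Lsl_bt (LP (LK LD1_c0 LD2_c36 LD3_c28)) = v372 :=
  Lrfl
theorem f452490 : Led Lsl_bf (LP (LK LD1_c0 LD2_c36 LD3_c28)) = v372 :=
  Lgr Lrot24 (Lpr_bt (f452489 IH) (Lpn v372))
theorem f494018 : Led Lsl_ff v372 = v1214 :=
  Lgr Lrot25 (Lpe (f452490 IH) (Lpr_ft (K22.f334566 IH) (Lpr_bt (f494014 IH) (Lpn v1214))))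
theorem f172037 : Led Lsl_bt (LP (LK LD1_c0 LD2_c36 LD3_c38)) = (LP (LK LD1_c0 LD2_c16 LD3_c20)) :=
  Lre_b IH (LK LD1_c0 LD2_c36 LD3_c38) (LK LD1_c0 LD2_c16 LD3_c20) Lrfl Lrfl
theorem f452491 : Led Lsl_cf (LP (LK LD1_c0 LD2_c36 LD3_c38)) = v372 :=
  Lgr Lrot97 (Lpr_bt (f172037 IH) (Lpr_ct (K9.f165213 IH) (Lpr_bt (K13.f172035 IH) (Lpr_ct (K13.f165216 IH) (Lpr_bt (f452489 IH) (Lpn v372))))))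
theorem f178196 : Led Lsl_ct (LP (LK LD1_c0 LD2_c36 LD3_c9)) = (LP (LK LD1_c1 LD2_c18 LD3_c29)) :=
  Lre_c IH (LK LD1_c0 LD2_c36 LD3_c9) (LK LD1_c1 LD2_c18 LD3_c29) Lrfl Lrfl
theorem f167875 : Led Lsl_ct (LP (LK LD1_c2 LD2_c12 LD3_c24)) = (LP (LK LD1_c1 LD2_c3 LD3_c10)) :=
  Lre_c IH (LK LD1_c2 LD2_c12 LD3_c24) (LK LD1_c1 LD2_c3 LD3_c10) Lrfl Lrfl
theorem f354297 : Led Lsl_at (LP (LK LD1_c1 LD2_c18 LD3_c29)) = (LP (LK LD1_c2 LD2_c12 LD3_c24)) :=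
  Lgr Lrot107 (Lpe (f178196 IH) (Lpr_af (K26.f354295 IH) (Lpe (f167875 IH) (Lpn (LP (LK LD1_c2 LD2_c12 LD3_c24))))))
theorem f354333 : Led Lsl_af (LP (LK LD1_c1 LD2_c18 LD3_c29)) = (LP (LK LD1_c2 LD2_c12 LD3_c24)) :=
  Lgr Lrot0 (Lpr_at (f354297 IH) (Lpn (LP (LK LD1_c2 LD2_c12 LD3_c24))))
theorem f226532 : Led Lsl_et (LP (LK LD1_c1 LD2_c18 LD3_c29)) = (LP (LK LD1_c0 LD2_c36 LD3_c8)) :=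
  Lre_e IH (LK LD1_c1 LD2_c18 LD3_c29) (LK LD1_c0 LD2_c36 LD3_c8) Lrfl Lrfl
theorem f225243 : Led Lsl_et (LP (LK LD1_c1 LD2_c3 LD3_c9)) = (LP (LK LD1_c2 LD2_c12 LD3_c24)) :=
  Lre_e IH (LK LD1_c1 LD2_c3 LD3_c9) (LK LD1_c2 LD2_c12 LD3_c24) Lrfl Lrfl
theorem f354337 : Led Lsl_at (LP (LK LD1_c0 LD2_c36 LD3_c8)) = (LP (LK LD1_c1 LD2_c3 LD3_c9)) :=
  Lgr Lrot80 (Lpe (f226532 IH) (Lpr_af (f354333 IH) (Lpe (f225243 IH) (Lpn (LP (LK LD1_c1 LD2_c3 LD3_c9))))))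
theorem f354343 : Led Lsl_ff (LP (LK LD1_c0 LD2_c36 LD3_c8)) = (LP (LK LD1_c1 LD2_c3 LD3_c23)) :=
  Lgr Lrot52 (Lpr_at (f354337 IH) (Lpr_gf (K12.f225703 IH) (Lpr_gf (K16.f276219 IH) (Lpn (LP (LK LD1_c1 LD2_c3 LD3_c23))))))
theorem f181950 : Led Lsl_dt (LP (LK LD1_c2 LD2_c12 LD3_c16)) = (LP (LK LD1_c1 LD2_c3 LD3_c23)) :=
  Lgr Lrot105 (Lpe (K12.f167917 IH) (Lpe (K9.f167916 IH) (Lpe (K9.f167840 IH) (Lpe (K9.f167841 IH) (Lpe (K9.f41096 IH) (Lpr_dt (K1.f41076 IH) (Lpr_gt (K9.f181948 IH) (Lpr_dt (K13.f174974 IH) (Lpe (K12.f174740 IH) (Lpn (LP (LK LD1_c1 LD2_c3 LD3_c23))))))))))))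
theorem f354347 : Led Lsl_ft (LP (LK LD1_c1 LD2_c18 LD3_c3)) = (LP (LK LD1_c2 LD2_c12 LD3_c16)) :=
  Lgr Lrot54 (Lpe (K12.f226409 IH) (Lpr_ff (f354343 IH) (Lpe (f181950 IH) (Lpn (LP (LK LD1_c2 LD2_c12 LD3_c16))))))
theorem f354352 : Led Lsl_ff (LP (LK LD1_c1 LD2_c18 LD3_c3)) = (LP (LK LD1_c2 LD2_c12 LD3_c16)) :=
  Lgr Lrot3 (Lpr_ft (f354347 IH) (Lpn (LP (LK LD1_c2 LD2_c12 LD3_c16))))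
theorem f179520 : Led Lsl_ct (LP (LK LD1_c1 LD2_c18 LD3_c3)) = (LP (LK LD1_c0 LD2_c36 LD3_c39)) :=
  Lgr Lrot152 (Lpe (K12.f168297 IH) (Lpe (K9.f174113 IH) (Lpr_gt (K9.f172326 IH) (Lpe (K9.f179518 IH) (Lpr_gt (K9.f179510 IH) (Lpr_ct (K9.f41039 IH) (Lpe (K9.f40753 IH) (Lpe (K9.f40747 IH) (Lpe (K9.f172033 IH) (Lpn (LP (LK LD1_c0 LD2_c36 LD3_c39))))))))))))
theorem f225166 : Led Lsl_ct (LP (LK LD1_c1 LD2_c3 LD3_c16)) = (LP (LK LD1_c2 LD2_c12 LD3_c16)) :=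
  Lgr Lrot59 (Lpr_cf (K12.f225160 IH) (Lpn (LP (LK LD1_c2 LD2_c12 LD3_c16))))
theorem f354358 : Led Lsl_ft (LP (LK LD1_c0 LD2_c36 LD3_c39)) = (LP (LK LD1_c1 LD2_c3 LD3_c16)) :=
  Lgr Lrot4 (Lpe (f179520 IH) (Lpr_ff (f354352 IH) (Lpe (f225166 IH) (Lpn (LP (LK LD1_c1 LD2_c3 LD3_c16))))))
theorem f172146 : Led Lsl_bt (LP (LK LD1_c1 LD2_c19 LD3_c22)) = (LP (LK LD1_c0 LD2_c36 LD3_c39)) :=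
  Lre_b IH (LK LD1_c1 LD2_c19 LD3_c22) (LK LD1_c0 LD2_c36 LD3_c39) Lrfl Lrfl
theorem f225163 : Led Lsl_bt (LP (LK LD1_c1 LD2_c3 LD3_c16)) = (LP (LK LD1_c2 LD2_c12 LD3_c31)) :=
  Lre_b IH (LK LD1_c1 LD2_c3 LD3_c16) (LK LD1_c2 LD2_c12 LD3_c31) Lrfl Lrfl
theorem f354362 : Led Lsl_ff (LP (LK LD1_c1 LD2_c19 LD3_c22)) = (LP (LK LD1_c2 LD2_c12 LD3_c31)) :=
  Lgr Lrot25 (Lpr_bt (f172146 IH) (Lpr_ft (f354358 IH) (Lpr_bt (f225163 IH) (Lpn (LP (LK LD1_c2 LD2_c12 LD3_c31))))))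
theorem f354388 : Led Lsl_dt (LP (LK LD1_c1 LD2_c19 LD3_c22)) = (LP (LK LD1_c0 LD2_c36 LD3_c38)) :=
  Lre_d IH (LK LD1_c1 LD2_c19 LD3_c22) (LK LD1_c0 LD2_c36 LD3_c38) Lrfl Lrfl
theorem f354415 : Led Lsl_dt (LP (LK LD1_c1 LD2_c3 LD3_c15)) = (LP (LK LD1_c2 LD2_c12 LD3_c31)) :=
  Lre_d IH (LK LD1_c1 LD2_c3 LD3_c15) (LK LD1_c2 LD2_c12 LD3_c31) Lrfl Lrfl
theorem f354416 : Led Lsl_ft (LP (LK LD1_c0 LD2_c36 LD3_c38)) = (LP (LK LD1_c1 LD2_c3 LD3_c15)) :=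
  Lgr Lrot54 (Lpe (f354388 IH) (Lpr_ff (f354362 IH) (Lpe (f354415 IH) (Lpn (LP (LK LD1_c1 LD2_c3 LD3_c15))))))
theorem f494019 : Led Lsl_ct (LP (LK LD1_c1 LD2_c3 LD3_c15)) = v1214 :=
  Lgr Lrot40 (Lpe (f354416 IH) (Lpr_cf (f452491 IH) (Lpr_ff (f494018 IH) (Lpn v1214))))
theorem f354387 : Led Lsl_dt (LP (LK LD1_c2 LD2_c12 LD3_c31)) = (LP (LK LD1_c1 LD2_c3 LD3_c15)) :=
  Lre_d IH (LK LD1_c2 LD2_c12 LD3_c31) (LK LD1_c1 LD2_c3 LD3_c15) Lrfl Lrfl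
theorem f354414 : Led Lsl_at (LP (LK LD1_c1 LD2_c19 LD3_c22)) = (LP (LK LD1_c2 LD2_c45 LD3_c58)) :=
  Lre_a IH (LK LD1_c1 LD2_c19 LD3_c22) (LK LD1_c2 LD2_c45 LD3_c58) Lrfl Lrfl
theorem f354401 : Led Lsl_ct (LP (LK LD1_c5 LD2_c39 LD3_c61)) = (LP (LK LD1_c2 LD2_c45 LD3_c58)) :=
  Lre_c IH (LK LD1_c5 LD2_c39 LD3_c61) (LK LD1_c2 LD2_c45 LD3_c58) Lrfl Lrfl
def v378 : LQ := Led Lsl_bt (LP (LK LD1_c0 LD2_c36 LD3_c49))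
theorem f452521 : Led Lsl_bt (LP (LK LD1_c0 LD2_c36 LD3_c49)) = v378 :=
  Lrfl
theorem f452522 : Led Lsl_bf (LP (LK LD1_c0 LD2_c36 LD3_c49)) = v378 :=
  Lgr Lrot24 (Lpr_bt (f452521 IH) (Lpn v378))
theorem f494017 : Led Lsl_df v378 = v1214 :=
  Lgr Lrot12 (Lpe (f452522 IH) (Lpe (K13.f197414 IH) (Lpr_bt (f494014 IH) (Lpn v1214))))
theorem f171773 : Led Lsl_bt (LP (LK LD1_c0 LD2_c36 LD3_c52)) = (LP (LK LD1_c0 LD2_c16 LD3_c27)) :=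
  Lre_b IH (LK LD1_c0 LD2_c36 LD3_c52) (LK LD1_c0 LD2_c16 LD3_c27) Lrfl Lrfl
theorem f452523 : Led Lsl_cf (LP (LK LD1_c0 LD2_c36 LD3_c52)) = v378 :=
  Lgr Lrot97 (Lpr_bt (f171773 IH) (Lpr_ct (K9.f171768 IH) (Lpr_bt (K10.f171776 IH) (Lpr_ct (K10.f101336 IH) (Lpr_bt (f452521 IH) (Lpn v378))))))
theorem f225795 : Led Lsl_dt (LP (LK LD1_c0 LD2_c36 LD3_c52)) = (LP (LK LD1_c1 LD2_c19 LD3_c41)) :=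
  Lre_d IH (LK LD1_c0 LD2_c36 LD3_c52) (LK LD1_c1 LD2_c19 LD3_c41) Lrfl Lrfl
theorem f225345 : Led Lsl_ct (LP (LK LD1_c1 LD2_c19 LD3_c41)) = (LP (LK LD1_c2 LD2_c46 LD3_c33)) :=
  Lre_c IH (LK LD1_c1 LD2_c19 LD3_c41) (LK LD1_c2 LD2_c46 LD3_c33) Lrfl Lrfl
theorem f494021 : Led Lsl_df (LP (LK LD1_c5 LD2_c39 LD3_c61)) = (LP (LK LD1_c2 LD2_c46 LD3_c33)) :=
  Lgr Lrot177 (Lpr_ct (f354401 IH) (Lpe (f354414 IH) (Lpr_ff (f354362 IH) (Lpr_dt (f354387 IH) (Lpr_ct (f494019 IH) (Lpe (f494017 IH) (Lpe (f452523 IH) (Lpr_dt (f225795 IH) (Lpr_ct (f225345 IH) (Lpn (LP (LK LD1_c2 LD2_c46 LD3_c33))))))))))))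
theorem f494022 : Led Lsl_dt (LP (LK LD1_c2 LD2_c46 LD3_c33)) = (LP (LK LD1_c5 LD2_c39 LD3_c61)) :=
  Leop (Lpr_df (f494021 IH) (Lpn (LP (LK LD1_c2 LD2_c46 LD3_c33))))
theorem seed_104 : LEOK LG_d (LK LD1_c2 LD2_c46 LD3_c33) :=
  Leoe_d (LK LD1_c2 LD2_c46 LD3_c33) (f494022 IH)
def v1282 : LQ := Led Lsl_et (LP (LK LD1_c1 LD2_c5 LD3_c12))
theorem f494529 : Led Lsl_et (LP (LK LD1_c1 LD2_c5 LD3_c12)) = v1282 :=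
  Lrfl
theorem f494535 : Led Lsl_gf (LP (LK LD1_c1 LD2_c21 LD3_c31)) = v1282 :=
  Lgr Lrot141 (Lpr_ef (K11.f176888 IH) (Lpr_dt (K11.f27011 IH) (Lpe (K24.f268506 IH) (Lpe (K16.f68595 IH) (Lpe (K15.f175425 IH) (Lpe (K11.f186104 IH) (Lpr_dt (K11.f176846 IH) (Lpr_gt (K11.f186109 IH) (Lpe (K10.f26664 IH) (Lpr_et (f494529 IH) (Lpn v1282)))))))))))
theorem f396271 : Led Lsl_gt (LP (LK LD1_c2 LD2_c19 LD3_c0)) = (LP (LK LD1_c1 LD2_c31 LD3_c24)) :=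
  Lgr Lrot112 (Lpe (K11.f177073 IH) (Lpr_et (K11.f176893 IH) (Lpr_gf (K24.f268637 IH) (Lpr_ef (K24.f269090 IH) (Lpe (K24.f334607 IH) (Lpr_gf (K24.f396265 IH) (Lpe (K11.f146336 IH) (Lpr_gf (K11.f210291 IH) (Lpr_ef (K11.f204453 IH) (Lpr_dt (K11.f25975 IH) (Lpn (LP (LK LD1_c1 LD2_c31 LD3_c24)))))))))))))
theorem f25962 : Led Lsl_dt (LP (LK LD1_c1 LD2_c31 LD3_c24)) = (LP (LK LD1_c0 LD2_c42 LD3_c11)) :=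
  Lre_d IH (LK LD1_c1 LD2_c31 LD3_c24) (LK LD1_c0 LD2_c42 LD3_c11) Lrfl Lrfl
theorem f25961 : Led Lsl_ct (LP (LK LD1_c0 LD2_c42 LD3_c11)) = (LP (LK LD1_c0 LD2_c18 LD3_c53)) :=
  Lre_c IH (LK LD1_c0 LD2_c42 LD3_c11) (LK LD1_c0 LD2_c18 LD3_c53) Lrfl Lrfl
theorem f494536 : Led Lsl_ct (LP (LK LD1_c1 LD2_c27 LD3_c45)) = v1282 :=
  Lgr Lrot8 (Lpr_gt (K14.f210475 IH) (Lpr_dt (K11.f59019 IH) (Lpr_gt (K11.f210296 IH) (Lpe (K1.f25966 IH) (Lpe (f25961 IH) (Lpe (f25962 IH) (Lpe (f396271 IH) (Lpe (K11.f177073 IH) (Lpr_gf (f494535 IH) (Lpn v1282))))))))))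
theorem f22164 : Led Lsl_gt (LP (LK LD1_c1 LD2_c21 LD3_c50)) = (LP (LK LD1_c2 LD2_c51 LD3_c32)) :=
  Lre_g IH (LK LD1_c1 LD2_c21 LD3_c50) (LK LD1_c2 LD2_c51 LD3_c32) Lrfl Lrfl
theorem f494537 : Led Lsl_dt (LP (LK LD1_c2 LD2_c51 LD3_c32)) = v1282 :=
  Lgr Lrot113 (Lpe (f22164 IH) (Lpe (K11.f22141 IH) (Lpr_gf (K11.f169780 IH) (Lpr_ct (K11.f25945 IH) (Lpr_gt (K11.f25942 IH) (Lpr_dt (K11.f25943 IH) (Lpr_gt (K13.f169783 IH) (Lpr_dt (K14.f205176 IH) (Lpr_ct (f494536 IH) (Lpn v1282))))))))))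
theorem f22167 : Led Lsl_et (LP (LK LD1_c5 LD2_c50 LD3_c43)) = (LP (LK LD1_c2 LD2_c51 LD3_c32)) :=
  Lre_e IH (LK LD1_c5 LD2_c50 LD3_c43) (LK LD1_c2 LD2_c51 LD3_c32) Lrfl Lrfl
theorem f494532 : Led Lsl_ef (LP (LK LD1_c1 LD2_c5 LD3_c12)) = v1282 :=
  Lgr Lrot88 (Lpr_et (f494529 IH) (Lpn v1282))
theorem f268291 : Led Lsl_et (LP (LK LD1_c2 LD2_c16 LD3_c38)) = (LP (LK LD1_c4 LD2_c39 LD3_c19)) :=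
  Lre_e IH (LK LD1_c2 LD2_c16 LD3_c38) (LK LD1_c4 LD2_c39 LD3_c19) Lrfl Lrfl
theorem f494539 : Led Lsl_df (LP (LK LD1_c5 LD2_c50 LD3_c43)) = (LP (LK LD1_c4 LD2_c39 LD3_c19)) :=
  Lgr Lrot70 (Lpr_et (f22167 IH) (Lpr_dt (f494537 IH) (Lpe (f494532 IH) (Lpr_dt (K10.f26664 IH) (Lpr_et (f268291 IH) (Lpn (LP (LK LD1_c4 LD2_c39 LD3_c19))))))))
theorem f494540 : Led Lsl_dt (LP (LK LD1_c4 LD2_c39 LD3_c19)) = (LP (LK LD1_c5 LD2_c50 LD3_c43)) :=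
  Leop (Lpr_df (f494539 IH) (Lpn (LP (LK LD1_c4 LD2_c39 LD3_c19))))
theorem seed_105 : LEOK LG_d (LK LD1_c4 LD2_c39 LD3_c19) :=
  Leoe_d (LK LD1_c4 LD2_c39 LD3_c19) (f494540 IH)
theorem f494531 : Led Lsl_cf (LP (LK LD1_c1 LD2_c27 LD3_c45)) = v1282 :=
  Lgr Lrot39 (Lpr_et (K14.f101516 IH) (Lpe (K9.f176795 IH) (Lpr_et (f494529 IH) (Lpn v1282))))
theorem f396273 : Led Lsl_at (LP (LK LD1_c2 LD2_c50 LD3_c60)) = (LP (LK LD1_c2 LD2_c47 LD3_c34)) :=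
  Lgr Lrot100 (Lpr_af (K24.f396267 IH) (Lpn (LP (LK LD1_c2 LD2_c47 LD3_c34))))
theorem f396344 : Led Lsl_af (LP (LK LD1_c2 LD2_c13 LD3_c23)) = (LP (LK LD1_c1 LD2_c20 LD3_c5)) :=
  Lgr Lrot117 (Lpe (K24.f334607 IH) (Lpr_at (f396273 IH) (Lpr_dt (K16.f172714 IH) (Lpn (LP (LK LD1_c1 LD2_c20 LD3_c5))))))
theorem f172701 : Led Lsl_ct (LP (LK LD1_c1 LD2_c20 LD3_c4)) = (LP (LK LD1_c2 LD2_c47 LD3_c33)) :=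
  Lre_c IH (LK LD1_c1 LD2_c20 LD3_c4) (LK LD1_c2 LD2_c47 LD3_c33) Lrfl Lrfl
theorem f172702 : Led Lsl_dt (LP (LK LD1_c2 LD2_c47 LD3_c33)) = (LP (LK LD1_c5 LD2_c43 LD3_c8)) :=
  Lre_d IH (LK LD1_c2 LD2_c47 LD3_c33) (LK LD1_c5 LD2_c43 LD3_c8) Lrfl Lrfl
theorem f494541 : Led Lsl_cf (LP (LK LD1_c2 LD2_c51 LD3_c32)) = (LP (LK LD1_c5 LD2_c43 LD3_c8)) :=
  Lgr Lrot116 (Lpr_dt (f494537 IH) (Lpe (f494531 IH) (Lpe (K14.f205152 IH) (Lpe (K16.f242617 IH) (Lpr_af (f396344 IH) (Lpe (K13.f172704 IH) (Lpr_dt (K11.f172678 IH) (Lpr_ct (f172701 IH) (Lpr_dt (f172702 IH) (Lpn (LP (LK LD1_c5 LD2_c43 LD3_c8))))))))))))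
theorem f494542 : Led Lsl_ct (LP (LK LD1_c5 LD2_c43 LD3_c8)) = (LP (LK LD1_c2 LD2_c51 LD3_c32)) :=
  Leop (Lpr_cf (f494541 IH) (Lpn (LP (LK LD1_c5 LD2_c43 LD3_c8))))
theorem seed_106 : LEOK LG_c (LK LD1_c5 LD2_c43 LD3_c8) :=
  Leoe_c (LK LD1_c5 LD2_c43 LD3_c8) (f494542 IH)
def v1339 : LQ := Led Lsl_gf (LP (LK LD1_c1 LD2_c7 LD3_c31))
theorem f494924 : Led Lsl_gf (LP (LK LD1_c1 LD2_c7 LD3_c31)) = v1339 :=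
  Lrfl
theorem f115536 : Led Lsl_at (LP (LK LD1_c0 LD2_c43 LD3_c61)) = (LP (LK LD1_c1 LD2_c34 LD3_c35)) :=
  Lre_a IH (LK LD1_c0 LD2_c43 LD3_c61) (LK LD1_c1 LD2_c34 LD3_c35) Lrfl Lrfl
theorem f128363 : Led Lsl_gt (LP (LK LD1_c1 LD2_c31 LD3_c35)) = (LP (LK LD1_c1 LD2_c34 LD3_c35)) :=
  Lgr Lrot46 (Lpr_gf (K5.f128349 IH) (Lpe (K4.f115534 IH) (Lpr_at (f115536 IH) (Lpn (LP (LK LD1_c1 LD2_c34 LD3_c35))))))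
theorem f150776 : Led Lsl_dt (LP (LK LD1_c12 LD2_c49 LD3_c9)) = (LP (LK LD1_c6 LD2_c42 LD3_c2)) :=
  Lre_d IH (LK LD1_c12 LD2_c49 LD3_c9) (LK LD1_c6 LD2_c42 LD3_c2) Lrfl Lrfl
theorem f150774 : Led Lsl_ft (LP (LK LD1_c6 LD2_c42 LD3_c2)) = (LP (LK LD1_c7 LD2_c24 LD3_c56)) :=
  Lgr Lrot101 (Lpr_af (K7.f150763 IH) (Lpe (K7.f150755 IH) (Lpr_af (K7.f150737 IH) (Lpn (LP (LK LD1_c7 LD2_c24 LD3_c56))))))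
theorem f207947 : Led Lsl_df (LP (LK LD1_c12 LD2_c31 LD3_c32)) = (LP (LK LD1_c7 LD2_c24 LD3_c56)) :=
  Lgr Lrot78 (Lpr_ft (K28.f207943 IH) (Lpr_dt (f150776 IH) (Lpr_ft (f150774 IH) (Lpn (LP (LK LD1_c7 LD2_c24 LD3_c56))))))
theorem f104092 : Led Lsl_ct (LP (LK LD1_c3 LD2_c42 LD3_c5)) = (LP (LK LD1_c3 LD2_c16 LD3_c40)) :=
  Lgr Lrot83 (Lpe (K7.f26227 IH) (Lpe (K5.f26226 IH) (Lpr_bf (K4.f26218 IH) (Lpr_cf (K3.f103951 IH) (Lpe (K6.f65999 IH) (Lpn (LP (LK LD1_c3 LD2_c16 LD3_c40))))))))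
theorem f93906 : Led Lsl_bt (LP (LK LD1_c2 LD2_c16 LD3_c6)) = (LP (LK LD1_c4 LD2_c37 LD3_c55)) :=
  Lre_b IH (LK LD1_c2 LD2_c16 LD3_c6) (LK LD1_c4 LD2_c37 LD3_c55) Lrfl Lrfl
theorem f66119 : Led Lsl_bt (LP (LK LD1_c1 LD2_c35 LD3_c0)) = (LP (LK LD1_c3 LD2_c16 LD3_c40)) :=
  Lre_b IH (LK LD1_c1 LD2_c35 LD3_c0) (LK LD1_c3 LD2_c16 LD3_c40) Lrfl Lrfl
theorem f105607 : Led Lsl_gf (LP (LK LD1_c4 LD2_c37 LD3_c55)) = (LP (LK LD1_c3 LD2_c16 LD3_c40)) :=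
  Lgr Lrot124 (Lpe (f93906 IH) (Lpr_ct (K7.f93905 IH) (Lpr_gt (K7.f58856 IH) (Lpe (K6.f36591 IH) (Lpr_bt (K7.f93460 IH) (Lpr_gt (K3.f63820 IH) (Lpe (K3.f93660 IH) (Lpr_gt (K3.f105562 IH) (Lpr_cf (K3.f103951 IH) (Lpr_bt (f66119 IH) (Lpn (LP (LK LD1_c3 LD2_c16 LD3_c40)))))))))))))
theorem f207492 : Led Lsl_dt (LP (LK LD1_c4 LD2_c37 LD3_c55)) = (LP (LK LD1_c6 LD2_c28 LD3_c52)) :=
  Lgr Lrot79 (Lpe (f93906 IH) (Lpe (K11.f80054 IH) (Lpr_bf (K24.f207488 IH) (Lpn (LP (LK LD1_c6 LD2_c28 LD3_c52))))))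
theorem f148531 : Led Lsl_at (LP (LK LD1_c7 LD2_c31 LD3_c22)) = (LP (LK LD1_c3 LD2_c45 LD3_c18)) :=
  Lre_a IH (LK LD1_c7 LD2_c31 LD3_c22) (LK LD1_c3 LD2_c45 LD3_c18) Lrfl Lrfl
theorem f148533 : Led Lsl_cf (LP (LK LD1_c7 LD2_c31 LD3_c22)) = (LP (LK LD1_c6 LD2_c31 LD3_c47)) :=
  Lgr Lrot1 (Lpr_at (f148531 IH) (Lpr_ct (K7.f148445 IH) (Lpr_at (K24.f148532 IH) (Lpn (LP (LK LD1_c6 LD2_c31 LD3_c47))))))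
theorem f207661 : Led Lsl_cf (LP (LK LD1_c7 LD2_c27 LD3_c20)) = (LP (LK LD1_c6 LD2_c34 LD3_c18)) :=
  Lgr Lrot108 (Lpr_ft (K24.f148612 IH) (Lpe (f148533 IH) (Lpr_ft (K24.f207653 IH) (Lpn (LP (LK LD1_c6 LD2_c34 LD3_c18))))))
theorem f207955 : Led Lsl_gt (LP (LK LD1_c6 LD2_c28 LD3_c52)) = (LP (LK LD1_c9 LD2_c20 LD3_c44)) :=
  Lgr Lrot49 (Lpe (f207492 IH) (Lpr_gf (f105607 IH) (Lpe (f104092 IH) (Lpr_gt (K7.f107212 IH) (Lpe (f207947 IH) (Lpr_gt (K28.f207952 IH) (Lpr_dt (K28.f207894 IH) (Lpr_cf (f207661 IH) (Lpe (K24.f207641 IH) (Lpn (LP (LK LD1_c9 LD2_c20 LD3_c44))))))))))))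
theorem f207499 : Led Lsl_ff (LP (LK LD1_c6 LD2_c44 LD3_c32)) = (LP (LK LD1_c6 LD2_c28 LD3_c52)) :=
  Lgr Lrot3 (Lpr_ft (K24.f207494 IH) (Lpn (LP (LK LD1_c6 LD2_c28 LD3_c52))))
theorem f208001 : Led Lsl_at (LP (LK LD1_c6 LD2_c44 LD3_c32)) = (LP (LK LD1_c4 LD2_c43 LD3_c54)) :=
  Lgr Lrot26 (Lpr_ff (f207499 IH) (Lpr_gt (f207955 IH) (Lpr_gt (K24.f128929 IH) (Lpn (LP (LK LD1_c4 LD2_c43 LD3_c54))))))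
theorem f208012 : Led Lsl_ff (LP (LK LD1_c3 LD2_c12 LD3_c24)) = (LP (LK LD1_c4 LD2_c43 LD3_c54)) :=
  Lgr Lrot30 (Lpr_at (K24.f207439 IH) (Lpe (f207499 IH) (Lpr_at (f208001 IH) (Lpn (LP (LK LD1_c4 LD2_c43 LD3_c54))))))
theorem f208020 : Led Lsl_ft (LP (LK LD1_c3 LD2_c12 LD3_c24)) = (LP (LK LD1_c4 LD2_c43 LD3_c54)) :=
  Lgr Lrot48 (Lpr_ff (f208012 IH) (Lpn (LP (LK LD1_c4 LD2_c43 LD3_c54))))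
theorem f128423 : Led Lsl_dt (LP (LK LD1_c6 LD2_c28 LD3_c54)) = (LP (LK LD1_c3 LD2_c12 LD3_c24)) :=
  Lre_d IH (LK LD1_c6 LD2_c28 LD3_c54) (LK LD1_c3 LD2_c12 LD3_c24) Lrfl Lrfl
theorem f128932 : Led Lsl_bt (LP (LK LD1_c6 LD2_c20 LD3_c21)) = (LP (LK LD1_c3 LD2_c7 LD3_c45)) :=
  Lre_b IH (LK LD1_c6 LD2_c20 LD3_c21) (LK LD1_c3 LD2_c7 LD3_c45) Lrfl Lrfl
theorem f128933 : Led Lsl_dt (LP (LK LD1_c4 LD2_c43 LD3_c54)) = (LP (LK LD1_c6 LD2_c20 LD3_c21)) :=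
  Lgr Lrot79 (Lpe (K7.f128924 IH) (Lpr_df (K5.f128922 IH) (Lpe (f128932 IH) (Lpn (LP (LK LD1_c6 LD2_c20 LD3_c21))))))
theorem f208024 : Led Lsl_ff (LP (LK LD1_c6 LD2_c28 LD3_c54)) = (LP (LK LD1_c6 LD2_c20 LD3_c21)) :=
  Lgr Lrot19 (Lpr_dt (f128423 IH) (Lpr_ft (f208020 IH) (Lpr_dt (f128933 IH) (Lpn (LP (LK LD1_c6 LD2_c20 LD3_c21))))))
theorem f129022 : Led Lsl_bt (LP (LK LD1_c3 LD2_c7 LD3_c45)) = (LP (LK LD1_c6 LD2_c20 LD3_c21)) :=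
  Lre_b IH (LK LD1_c3 LD2_c7 LD3_c45) (LK LD1_c6 LD2_c20 LD3_c21) Lrfl Lrfl
theorem f128845 : Led Lsl_bt (LP (LK LD1_c3 LD2_c7 LD3_c13)) = (LP (LK LD1_c3 LD2_c17 LD3_c29)) :=
  Lgr Lrot127 (Lpr_bf (K5.f128843 IH) (Lpn (LP (LK LD1_c3 LD2_c17 LD3_c29))))
theorem f128866 : Led Lsl_bf (LP (LK LD1_c3 LD2_c12 LD3_c9)) = (LP (LK LD1_c1 LD2_c34 LD3_c50)) :=
  Lgr Lrot81 (Lpr_at (K5.f128862 IH) (Lpr_bt (f128845 IH) (Lpr_at (K5.f93439 IH) (Lpr_bt (K4.f62178 IH) (Lpe (K3.f93436 IH) (Lpn (LP (LK LD1_c1 LD2_c34 LD3_c50))))))))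
theorem f69314 : Led Lsl_et (LP (LK LD1_c1 LD2_c37 LD3_c61)) = (LP (LK LD1_c3 LD2_c23 LD3_c11)) :=
  Lre_e IH (LK LD1_c1 LD2_c37 LD3_c61) (LK LD1_c3 LD2_c23 LD3_c11) Lrfl Lrfl
theorem f62266 : Led Lsl_et (LP (LK LD1_c1 LD2_c41 LD3_c2)) = (LP (LK LD1_c0 LD2_c47 LD3_c2)) :=
  Lre_e IH (LK LD1_c1 LD2_c41 LD3_c2) (LK LD1_c0 LD2_c47 LD3_c2) Lrfl Lrfl
theorem f93298 : Led Lsl_af (LP (LK LD1_c1 LD2_c37 LD3_c61)) = (LP (LK LD1_c0 LD2_c47 LD3_c2)) :=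
  Lgr Lrot50 (Lpr_et (f69314 IH) (Lpr_at (K3.f93288 IH) (Lpr_et (f62266 IH) (Lpn (LP (LK LD1_c0 LD2_c47 LD3_c2))))))
theorem f105605 : Led Lsl_gf (LP (LK LD1_c1 LD2_c37 LD3_c61)) = (LP (LK LD1_c1 LD2_c46 LD3_c3)) :=
  Lgr Lrot76 (Lpr_af (f93298 IH) (Lpe (K5.f62305 IH) (Lpr_gt (K3.f105562 IH) (Lpn (LP (LK LD1_c1 LD2_c46 LD3_c3))))))
theorem f131602 : Led Lsl_gt (LP (LK LD1_c6 LD2_c20 LD3_c21)) = (LP (LK LD1_c3 LD2_c16 LD3_c40)) :=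
  Lgr Lrot164 (Lpe (f129022 IH) (Lpe (K5.f129023 IH) (Lpr_gf (K5.f131594 IH) (Lpe (K5.f131598 IH) (Lpe (K5.f128888 IH) (Lpr_bf (f128866 IH) (Lpr_ct (K3.f69278 IH) (Lpr_gf (f105605 IH) (Lpr_cf (K3.f103951 IH) (Lpr_bt (f66119 IH) (Lpn (LP (LK LD1_c3 LD2_c16 LD3_c40)))))))))))))
theorem f208029 : Led Lsl_at (LP (LK LD1_c6 LD2_c28 LD3_c54)) = (LP (LK LD1_c4 LD2_c37 LD3_c55)) :=
  Lgr Lrot26 (Lpr_ff (f208024 IH) (Lpr_gt (f131602 IH) (Lpe (f105607 IH) (Lpn (LP (LK LD1_c4 LD2_c37 LD3_c55))))))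
theorem f141971 : Led Lsl_bt (LP (LK LD1_c3 LD2_c20 LD3_c24)) = (LP (LK LD1_c1 LD2_c36 LD3_c35)) :=
  Lre_b IH (LK LD1_c3 LD2_c20 LD3_c24) (LK LD1_c1 LD2_c36 LD3_c35) Lrfl Lrfl
theorem f207286 : Led Lsl_ft (LP (LK LD1_c4 LD2_c37 LD3_c55)) = (LP (LK LD1_c3 LD2_c20 LD3_c24)) :=
  Lgr Lrot75 (Lpe (f93906 IH) (Lpr_ff (K11.f207284 IH) (Lpe (f141971 IH) (Lpn (LP (LK LD1_c3 LD2_c20 LD3_c24))))))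
theorem f208039 : Led Lsl_af (LP (LK LD1_c6 LD2_c20 LD3_c21)) = (LP (LK LD1_c3 LD2_c20 LD3_c24)) :=
  Lgr Lrot45 (Lpe (f208024 IH) (Lpr_at (f208029 IH) (Lpr_ft (f207286 IH) (Lpn (LP (LK LD1_c3 LD2_c20 LD3_c24))))))
theorem f152529 : Led Lsl_bf (LP (LK LD1_c2 LD2_c16 LD3_c4)) = (LP (LK LD1_c3 LD2_c12 LD3_c28)) :=
  Lgr Lrot24 (Lpr_bt (K7.f152527 IH) (Lpn (LP (LK LD1_c3 LD2_c12 LD3_c28))))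
theorem f208041 : Led Lsl_at (LP (LK LD1_c3 LD2_c7 LD3_c45)) = (LP (LK LD1_c3 LD2_c12 LD3_c28)) :=
  Lgr Lrot67 (Lpe (f128932 IH) (Lpr_af (f208039 IH) (Lpe (K24.f62199 IH) (Lpe (K11.f206926 IH) (Lpr_bf (f152529 IH) (Lpn (LP (LK LD1_c3 LD2_c12 LD3_c28))))))))
theorem f208073 : Led Lsl_af (LP (LK LD1_c2 LD2_c19 LD3_c49)) = (LP (LK LD1_c1 LD2_c32 LD3_c41)) :=
  Lgr Lrot117 (Lpr_dt (K5.f128935 IH) (Lpr_at (f208041 IH) (Lpr_dt (K7.f128889 IH) (Lpn (LP (LK LD1_c1 LD2_c32 LD3_c41))))))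
theorem f208077 : Led Lsl_at (LP (LK LD1_c1 LD2_c34 LD3_c36)) = (LP (LK LD1_c1 LD2_c31 LD3_c38)) :=
  Lgr Lrot107 (Lpe (K5.f128917 IH) (Lpr_af (f208073 IH) (Lpr_cf (K7.f124193 IH) (Lpn (LP (LK LD1_c1 LD2_c31 LD3_c38))))))
theorem f124711 : Led Lsl_ft (LP (LK LD1_c1 LD2_c5 LD3_c61)) = (LP (LK LD1_c0 LD2_c42 LD3_c19)) :=
  Lgr Lrot75 (Lpe (K2.f84645 IH) (Lpr_ff (K5.f124709 IH) (Lpe (K5.f82405 IH) (Lpn (LP (LK LD1_c0 LD2_c42 LD3_c19))))))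
theorem f128913 : Led Lsl_ft (LP (LK LD1_c1 LD2_c31 LD3_c35)) = (LP (LK LD1_c1 LD2_c34 LD3_c36)) :=
  Lgr Lrot54 (Lpe (K5.f82400 IH) (Lpe (f124711 IH) (Lpr_df (K5.f128909 IH) (Lpn (LP (LK LD1_c1 LD2_c34 LD3_c36))))))
theorem f208104 : Led Lsl_gt (LP (LK LD1_c1 LD2_c34 LD3_c35)) = (LP (LK LD1_c1 LD2_c31 LD3_c38)) :=
  Lgr Lrot46 (Lpe (f128363 IH) (Lpr_ft (f128913 IH) (Lpr_at (f208077 IH) (Lpn (LP (LK LD1_c1 LD2_c31 LD3_c38))))))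
theorem f82414 : Led Lsl_dt (LP (LK LD1_c1 LD2_c31 LD3_c38)) = (LP (LK LD1_c0 LD2_c42 LD3_c22)) :=
  Lre_d IH (LK LD1_c1 LD2_c31 LD3_c38) (LK LD1_c0 LD2_c42 LD3_c22) Lrfl Lrfl
theorem f89466 : Led Lsl_gt (LP (LK LD1_c3 LD2_c7 LD3_c6)) = (LP (LK LD1_c1 LD2_c29 LD3_c45)) :=
  Lre_g IH (LK LD1_c3 LD2_c7 LD3_c6) (LK LD1_c1 LD2_c29 LD3_c45) Lrfl Lrfl
theorem f208106 : Led Lsl_ct (LP (LK LD1_c1 LD2_c34 LD3_c35)) = (LP (LK LD1_c3 LD2_c7 LD3_c6)) :=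
  Lgr Lrot8 (Lpr_gt (f208104 IH) (Lpr_dt (f82414 IH) (Lpr_gt (K4.f115514 IH) (Lpr_dt (K4.f61935 IH) (Lpe (K1.f61934 IH) (Lpe (K5.f61945 IH) (Lpe (K5.f131639 IH) (Lpe (K5.f89452 IH) (Lpe (f89466 IH) (Lpn (LP (LK LD1_c3 LD2_c7 LD3_c6))))))))))))
theorem f146576 : Led Lsl_gt (LP (LK LD1_c2 LD2_c20 LD3_c7)) = (LP (LK LD1_c1 LD2_c50 LD3_c2)) :=
  Lgr Lrot82 (Lpr_bf (K8.f146573 IH) (Lpe (K4.f115869 IH) (Lpr_gf (K4.f103755 IH) (Lpe (K4.f65934 IH) (Lpe (K4.f115857 IH) (Lpe (K4.f115814 IH) (Lpr_bf (K4.f111074 IH) (Lpr_ct (K4.f111051 IH) (Lpr_gf (K4.f111040 IH) (Lpe (K3.f108984 IH) (Lpn (LP (LK LD1_c1 LD2_c50 LD3_c2)))))))))))))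
theorem f146578 : Led Lsl_gt (LP (LK LD1_c1 LD2_c29 LD3_c41)) = (LP (LK LD1_c1 LD2_c49 LD3_c29)) :=
  Lgr Lrot94 (Lpr_cf (K4.f89394 IH) (Lpr_gt (K4.f116711 IH) (Lpr_dt (K7.f25392 IH) (Lpr_gt (f146576 IH) (Lpe (K3.f108982 IH) (Lpe (K2.f78098 IH) (Lpe (K3.f23540 IH) (Lpr_gf (K3.f104148 IH) (Lpe (K2.f66444 IH) (Lpn (LP (LK LD1_c1 LD2_c49 LD3_c29))))))))))))
theorem f209552 : Led Lsl_gf (LP (LK LD1_c3 LD2_c25 LD3_c31)) = (LP (LK LD1_c1 LD2_c49 LD3_c30)) :=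
  Lgr Lrot126 (Lpe (K11.f91979 IH) (Lpr_bt (K11.f209539 IH) (Lpr_gt (f128363 IH) (Lpr_ct (f208106 IH) (Lpr_gt (f89466 IH) (Lpe (K4.f89447 IH) (Lpr_bt (K4.f89390 IH) (Lpr_gt (f146578 IH) (Lpe (K2.f93181 IH) (Lpr_ct (K2.f90602 IH) (Lpn (LP (LK LD1_c1 LD2_c49 LD3_c30)))))))))))))
theorem f93197 : Led Lsl_gt (LP (LK LD1_c12 LD2_c33 LD3_c41)) = (LP (LK LD1_c6 LD2_c33 LD3_c11)) :=
  Lre_g IH (LK LD1_c12 LD2_c33 LD3_c41) (LK LD1_c6 LD2_c33 LD3_c11) Lrfl Lrfl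
theorem f104499 : Led Lsl_bt (LP (LK LD1_c13 LD2_c6 LD3_c33)) = (LP (LK LD1_c6 LD2_c53 LD3_c54)) :=
  Lre_b IH (LK LD1_c13 LD2_c6 LD3_c33) (LK LD1_c6 LD2_c53 LD3_c54) Lrfl Lrfl
theorem f209556 : Led Lsl_cf (LP (LK LD1_c12 LD2_c33 LD3_c41)) = (LP (LK LD1_c13 LD2_c6 LD3_c33)) :=
  Lgr Lrot160 (Lpr_gt (f93197 IH) (Lpe (K4.f93190 IH) (Lpr_bt (K2.f93182 IH) (Lpe (f209552 IH) (Lpr_ct (K11.f91980 IH) (Lpr_gt (K11.f209554 IH) (Lpe (K3.f94780 IH) (Lpr_bt (K3.f26120 IH) (Lpr_gt (K6.f26121 IH) (Lpe (f104499 IH) (Lpn (LP (LK LD1_c13 LD2_c6 LD3_c33)))))))))))))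
theorem f129572 : Led Lsl_bf (LP (LK LD1_c12 LD2_c33 LD3_c40)) = (LP (LK LD1_c7 LD2_c30 LD3_c13)) :=
  Lgr Lrot93 (Lpr_dt (K5.f129570 IH) (Lpr_bt (K5.f14774 IH) (Lpr_dt (K7.f14734 IH) (Lpn (LP (LK LD1_c7 LD2_c30 LD3_c13))))))
theorem f162393 : Led Lsl_ff (LP (LK LD1_c7 LD2_c35 LD3_c53)) = (LP (LK LD1_c12 LD2_c33 LD3_c40)) :=
  Lgr Lrot25 (Lpr_bt (K8.f129424 IH) (Lpr_ft (K8.f162391 IH) (Lpe (f129572 IH) (Lpn (LP (LK LD1_c12 LD2_c33 LD3_c40))))))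
theorem f122266 : Led Lsl_bt (LP (LK LD1_c3 LD2_c50 LD3_c4)) = (LP (LK LD1_c7 LD2_c41 LD3_c8)) :=
  Lre_b IH (LK LD1_c3 LD2_c50 LD3_c4) (LK LD1_c7 LD2_c41 LD3_c8) Lrfl Lrfl
theorem f122267 : Led Lsl_ff (LP (LK LD1_c12 LD2_c33 LD3_c42)) = (LP (LK LD1_c7 LD2_c41 LD3_c8)) :=
  Lgr Lrot25 (Lpr_bt (K6.f111284 IH) (Lpr_ft (K5.f122262 IH) (Lpr_bt (f122266 IH) (Lpn (LP (LK LD1_c7 LD2_c41 LD3_c8))))))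
theorem f122315 : Led Lsl_gf (LP (LK LD1_c12 LD2_c33 LD3_c41)) = (LP (LK LD1_c7 LD2_c41 LD3_c8)) :=
  Lgr Lrot47 (Lpr_gt (f93197 IH) (Lpe (K4.f93219 IH) (Lpr_ff (f122267 IH) (Lpn (LP (LK LD1_c7 LD2_c41 LD3_c8))))))
theorem f162402 : Led Lsl_at (LP (LK LD1_c7 LD2_c35 LD3_c53)) = (LP (LK LD1_c12 LD2_c33 LD3_c41)) :=
  Lgr Lrot26 (Lpr_ff (f162393 IH) (Lpr_gt (K5.f122313 IH) (Lpe (f122315 IH) (Lpn (LP (LK LD1_c12 LD2_c33 LD3_c41))))))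
theorem f162404 : Led Lsl_af (LP (LK LD1_c7 LD2_c35 LD3_c53)) = (LP (LK LD1_c12 LD2_c33 LD3_c41)) :=
  Lgr Lrot0 (Lpr_at (f162402 IH) (Lpn (LP (LK LD1_c12 LD2_c33 LD3_c41))))
theorem f129577 : Led Lsl_bt (LP (LK LD1_c12 LD2_c33 LD3_c40)) = (LP (LK LD1_c7 LD2_c30 LD3_c13)) :=
  Lgr Lrot95 (Lpr_df (K5.f129574 IH) (Lpe (K6.f129561 IH) (Lpe (K7.f14772 IH) (Lpn (LP (LK LD1_c7 LD2_c30 LD3_c13))))))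
theorem f162399 : Led Lsl_ft (LP (LK LD1_c7 LD2_c35 LD3_c53)) = (LP (LK LD1_c12 LD2_c33 LD3_c40)) :=
  Lgr Lrot75 (Lpe (K8.f126496 IH) (Lpr_ff (K8.f162397 IH) (Lpe (f129577 IH) (Lpn (LP (LK LD1_c12 LD2_c33 LD3_c40))))))
theorem f96611 : Led Lsl_dt (LP (LK LD1_c7 LD2_c14 LD3_c0)) = (LP (LK LD1_c13 LD2_c41 LD3_c23)) :=
  Lre_d IH (LK LD1_c7 LD2_c14 LD3_c0) (LK LD1_c13 LD2_c41 LD3_c23) Lrfl Lrfl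
theorem f96816 : Led Lsl_dt (LP (LK LD1_c7 LD2_c35 LD3_c60)) = (LP (LK LD1_c3 LD2_c47 LD3_c33)) :=
  Lre_d IH (LK LD1_c7 LD2_c35 LD3_c60) (LK LD1_c3 LD2_c47 LD3_c33) Lrfl Lrfl
theorem f162244 : Led Lsl_at (LP (LK LD1_c13 LD2_c41 LD3_c23)) = (LP (LK LD1_c7 LD2_c35 LD3_c60)) :=
  Lgr Lrot51 (Lpe (f96611 IH) (Lpr_af (K8.f162240 IH) (Lpe (f96816 IH) (Lpn (LP (LK LD1_c7 LD2_c35 LD3_c60))))))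
theorem f136369 : Led Lsl_bf (LP (LK LD1_c13 LD2_c0 LD3_c52)) = (LP (LK LD1_c13 LD2_c41 LD3_c23)) :=
  Lgr Lrot93 (Lpe (K8.f129406 IH) (Lpr_bt (K6.f136363 IH) (Lpr_dt (f96611 IH) (Lpn (LP (LK LD1_c13 LD2_c41 LD3_c23))))))
theorem f136386 : Led Lsl_bt (LP (LK LD1_c13 LD2_c0 LD3_c52)) = (LP (LK LD1_c13 LD2_c41 LD3_c23)) :=
  Lgr Lrot127 (Lpr_bf (f136369 IH) (Lpn (LP (LK LD1_c13 LD2_c41 LD3_c23))))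
theorem f162324 : Led Lsl_at (LP (LK LD1_c12 LD2_c33 LD3_c40)) = (LP (LK LD1_c13 LD2_c0 LD3_c52)) :=
  Lgr Lrot67 (Lpr_bf (f129572 IH) (Lpr_af (K8.f162320 IH) (Lpe (K8.f162259 IH) (Lpe (f162244 IH) (Lpe (f136386 IH) (Lpn (LP (LK LD1_c13 LD2_c0 LD3_c52))))))))
theorem f162411 : Led Lsl_ft (LP (LK LD1_c13 LD2_c0 LD3_c52)) = (LP (LK LD1_c12 LD2_c33 LD3_c41)) :=
  Lgr Lrot101 (Lpe (f162324 IH) (Lpe (f162399 IH) (Lpr_af (f162404 IH) (Lpn (LP (LK LD1_c12 LD2_c33 LD3_c41))))))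
theorem f162413 : Led Lsl_ff (LP (LK LD1_c13 LD2_c0 LD3_c52)) = (LP (LK LD1_c12 LD2_c33 LD3_c41)) :=
  Lgr Lrot3 (Lpr_ft (f162411 IH) (Lpn (LP (LK LD1_c12 LD2_c33 LD3_c41))))
theorem f209691 : Led Lsl_ft (LP (LK LD1_c14 LD2_c12 LD3_c50)) = (LP (LK LD1_c13 LD2_c6 LD3_c33)) :=
  Lgr Lrot4 (Lpr_cf (K8.f129467 IH) (Lpr_ff (f162413 IH) (Lpr_cf (f209556 IH) (Lpn (LP (LK LD1_c13 LD2_c6 LD3_c33))))))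
theorem f209788 : Led Lsl_ff (LP (LK LD1_c14 LD2_c12 LD3_c50)) = (LP (LK LD1_c13 LD2_c6 LD3_c33)) :=
  Lgr Lrot3 (Lpr_ft (f209691 IH) (Lpn (LP (LK LD1_c13 LD2_c6 LD3_c33))))
theorem f104749 : Led Lsl_bt (LP (LK LD1_c6 LD2_c53 LD3_c54)) = (LP (LK LD1_c13 LD2_c6 LD3_c33)) :=
  Lre_b IH (LK LD1_c6 LD2_c53 LD3_c54) (LK LD1_c13 LD2_c6 LD3_c33) Lrfl Lrfl
theorem f209792 : Led Lsl_bt (LP (LK LD1_c14 LD2_c12 LD3_c50)) = (LP (LK LD1_c9 LD2_c21 LD3_c51)) :=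
  Lgr Lrot35 (Lpr_ff (f209788 IH) (Lpe (f104749 IH) (Lpr_ff (K11.f161130 IH) (Lpn (LP (LK LD1_c9 LD2_c21 LD3_c51))))))
theorem f95537 : Led Lsl_bt (LP (LK LD1_c3 LD2_c22 LD3_c59)) = (LP (LK LD1_c1 LD2_c37 LD3_c54)) :=
  Lre_b IH (LK LD1_c3 LD2_c22 LD3_c59) (LK LD1_c1 LD2_c37 LD3_c54) Lrfl Lrfl
theorem f95666 : Led Lsl_ct (LP (LK LD1_c3 LD2_c22 LD3_c55)) = (LP (LK LD1_c1 LD2_c37 LD3_c51)) :=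
  Lre_c IH (LK LD1_c3 LD2_c22 LD3_c55) (LK LD1_c1 LD2_c37 LD3_c51) Lrfl Lrfl
theorem f85162 : Led Lsl_ct (LP (LK LD1_c1 LD2_c49 LD3_c31)) = (LP (LK LD1_c3 LD2_c44 LD3_c51)) :=
  Lre_c IH (LK LD1_c1 LD2_c49 LD3_c31) (LK LD1_c3 LD2_c44 LD3_c51) Lrfl Lrfl
theorem f95667 : Led Lsl_af (LP (LK LD1_c3 LD2_c22 LD3_c55)) = (LP (LK LD1_c3 LD2_c44 LD3_c51)) :=
  Lgr Lrot68 (Lpr_ct (f95666 IH) (Lpr_at (K2.f95660 IH) (Lpr_ct (f85162 IH) (Lpn (LP (LK LD1_c3 LD2_c44 LD3_c51))))))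
theorem f95670 : Led Lsl_at (LP (LK LD1_c3 LD2_c22 LD3_c55)) = (LP (LK LD1_c3 LD2_c44 LD3_c51)) :=
  Lgr Lrot100 (Lpr_af (f95667 IH) (Lpn (LP (LK LD1_c3 LD2_c44 LD3_c51))))
theorem f95690 : Led Lsl_et (LP (LK LD1_c1 LD2_c37 LD3_c50)) = (LP (LK LD1_c3 LD2_c22 LD3_c55)) :=
  Lre_e IH (LK LD1_c1 LD2_c37 LD3_c50) (LK LD1_c3 LD2_c22 LD3_c55) Lrfl Lrfl
theorem f95651 : Led Lsl_et (LP (LK LD1_c3 LD2_c44 LD3_c51)) = (LP (LK LD1_c1 LD2_c49 LD3_c30)) :=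
  Lre_e IH (LK LD1_c3 LD2_c44 LD3_c51) (LK LD1_c1 LD2_c49 LD3_c30) Lrfl Lrfl
theorem f95691 : Led Lsl_af (LP (LK LD1_c1 LD2_c37 LD3_c50)) = (LP (LK LD1_c1 LD2_c49 LD3_c30)) :=
  Lgr Lrot50 (Lpr_et (f95690 IH) (Lpr_at (f95670 IH) (Lpr_et (f95651 IH) (Lpn (LP (LK LD1_c1 LD2_c49 LD3_c30))))))
theorem f94667 : Led Lsl_gt (LP (LK LD1_c3 LD2_c22 LD3_c54)) = (LP (LK LD1_c1 LD2_c37 LD3_c50)) :=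
  Lre_g IH (LK LD1_c3 LD2_c22 LD3_c54) (LK LD1_c1 LD2_c37 LD3_c50) Lrfl Lrfl
theorem f95638 : Led Lsl_ft (LP (LK LD1_c1 LD2_c37 LD3_c54)) = (LP (LK LD1_c1 LD2_c49 LD3_c30)) :=
  Lgr Lrot75 (Lpe (f95537 IH) (Lpr_ff (K2.f95636 IH) (Lpe (K4.f90605 IH) (Lpn (LP (LK LD1_c1 LD2_c49 LD3_c30))))))
theorem f95696 : Led Lsl_gf (LP (LK LD1_c3 LD2_c22 LD3_c54)) = (LP (LK LD1_c1 LD2_c37 LD3_c54)) :=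
  Lgr Lrot47 (Lpr_gt (f94667 IH) (Lpr_af (f95691 IH) (Lpe (f95638 IH) (Lpn (LP (LK LD1_c1 LD2_c37 LD3_c54))))))
theorem f494930 : Led Lsl_ct (LP (LK LD1_c3 LD2_c22 LD3_c54)) = v1339 :=
  Lgr Lrot91 (Lpr_gf (f95696 IH) (Lpe (f95537 IH) (Lpr_ct (K2.f95635 IH) (Lpe (K8.f95634 IH) (Lpe (K8.f129472 IH) (Lpr_bt (f209792 IH) (Lpe (K11.f107271 IH) (Lpe (K8.f102381 IH) (Lpr_ct (K3.f102339 IH) (Lpr_gf (f494924 IH) (Lpn v1339)))))))))))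
theorem f148088 : Led Lsl_dt (LP (LK LD1_c1 LD2_c26 LD3_c25)) = (LP (LK LD1_c1 LD2_c48 LD3_c41)) :=
  Lgr Lrot79 (Lpe (K2.f21162 IH) (Lpr_df (K7.f148075 IH) (Lpe (K11.f64389 IH) (Lpn (LP (LK LD1_c1 LD2_c48 LD3_c41))))))
theorem f209798 : Led Lsl_gf (LP (LK LD1_c1 LD2_c48 LD3_c41)) = (LP (LK LD1_c1 LD2_c7 LD3_c31)) :=
  Lgr Lrot145 (Lpe (f148088 IH) (Lpr_et (K4.f106136 IH) (Lpe (K2.f94645 IH) (Lpr_dt (K2.f91957 IH) (Lpr_gt (K11.f91978 IH) (Lpr_df (K11.f209546 IH) (Lpe (K5.f124696 IH) (Lpr_gt (K3.f107263 IH) (Lpe (K3.f99100 IH) (Lpr_dt (K3.f102317 IH) (Lpn (LP (LK LD1_c1 LD2_c7 LD3_c31)))))))))))))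
theorem f209537 : Led Lsl_at (LP (LK LD1_c1 LD2_c39 LD3_c24)) = (LP (LK LD1_c1 LD2_c48 LD3_c41)) :=
  Lgr Lrot100 (Lpr_af (K11.f209535 IH) (Lpn (LP (LK LD1_c1 LD2_c48 LD3_c41))))
theorem f494926 : Led Lsl_ff (LP (LK LD1_c1 LD2_c39 LD3_c24)) = v1339 :=
  Lgr Lrot52 (Lpr_at (f209537 IH) (Lpr_gf (f209798 IH) (Lpr_gf (f494924 IH) (Lpn v1339))))
theorem f494932 : Led Lsl_ff (LP (LK LD1_c3 LD2_c22 LD3_c54)) = (LP (LK LD1_c3 LD2_c25 LD3_c31)) :=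
  Lgr Lrot23 (Lpr_ct (f494930 IH) (Lpe (f494926 IH) (Lpr_ct (K11.f91979 IH) (Lpn (LP (LK LD1_c3 LD2_c25 LD3_c31))))))
theorem f494933 : Led Lsl_ft (LP (LK LD1_c3 LD2_c25 LD3_c31)) = (LP (LK LD1_c3 LD2_c22 LD3_c54)) :=
  Leop (Lpr_ff (f494932 IH) (Lpn (LP (LK LD1_c3 LD2_c25 LD3_c31))))
theorem seed_107 : LEOK LG_f (LK LD1_c3 LD2_c25 LD3_c31) :=
  Leoe_f (LK LD1_c3 LD2_c25 LD3_c31) (f494933 IH)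
def v1384 : LQ := Led Lsl_gf (LP (LK LD1_c1 LD2_c10 LD3_c35))
theorem f495253 : Led Lsl_gf (LP (LK LD1_c1 LD2_c10 LD3_c35)) = v1384 :=
  Lrfl
theorem f40144 : Led Lsl_bt (LP (LK LD1_c1 LD2_c56 LD3_c16)) = (LP (LK LD1_c1 LD2_c10 LD3_c35)) :=
  Lgr Lrot127 (Lpr_bf (K1.f40116 IH) (Lpn (LP (LK LD1_c1 LD2_c10 LD3_c35))))
theorem f40159 : Led Lsl_ct (LP (LK LD1_c1 LD2_c10 LD3_c35)) = (LP (LK LD1_c0 LD2_c37 LD3_c5)) :=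
  Lre_c IH (LK LD1_c1 LD2_c10 LD3_c35) (LK LD1_c0 LD2_c37 LD3_c5) Lrfl Lrfl
theorem f171858 : Led Lsl_bt (LP (LK LD1_c1 LD2_c20 LD3_c8)) = (LP (LK LD1_c0 LD2_c37 LD3_c3)) :=
  Lre_b IH (LK LD1_c1 LD2_c20 LD3_c8) (LK LD1_c0 LD2_c37 LD3_c3) Lrfl Lrfl
theorem f381124 : Led Lsl_gt (LP (LK LD1_c0 LD2_c37 LD3_c3)) = (LP (LK LD1_c1 LD2_c20 LD3_c6)) :=
  Lre_g IH (LK LD1_c0 LD2_c37 LD3_c3) (LK LD1_c1 LD2_c20 LD3_c6) Lrfl Lrfl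
theorem f381796 : Led Lsl_bt (LP (LK LD1_c2 LD2_c13 LD3_c24)) = (LP (LK LD1_c1 LD2_c20 LD3_c6)) :=
  Lre_b IH (LK LD1_c2 LD2_c13 LD3_c24) (LK LD1_c1 LD2_c20 LD3_c6) Lrfl Lrfl
theorem f40170 : Led Lsl_ct (LP (LK LD1_c2 LD2_c13 LD3_c24)) = (LP (LK LD1_c4 LD2_c23 LD3_c16)) :=
  Lre_c IH (LK LD1_c2 LD2_c13 LD3_c24) (LK LD1_c4 LD2_c23 LD3_c16) Lrfl Lrfl
theorem f381983 : Led Lsl_gt (LP (LK LD1_c4 LD2_c23 LD3_c16)) = (LP (LK LD1_c2 LD2_c9 LD3_c7)) :=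
  Lre_g IH (LK LD1_c4 LD2_c23 LD3_c16) (LK LD1_c2 LD2_c9 LD3_c7) Lrfl Lrfl
theorem f181753 : Led Lsl_ct (LP (LK LD1_c4 LD2_c23 LD3_c24)) = (LP (LK LD1_c2 LD2_c9 LD3_c7)) :=
  Lre_c IH (LK LD1_c4 LD2_c23 LD3_c24) (LK LD1_c2 LD2_c9 LD3_c7) Lrfl Lrfl
theorem f495256 : Led Lsl_bt (LP (LK LD1_c4 LD2_c23 LD3_c24)) = v1384 :=
  Lgr Lrot130 (Lpr_ct (f181753 IH) (Lpe (f381983 IH) (Lpe (f40170 IH) (Lpr_bt (f381796 IH) (Lpe (f381124 IH) (Lpe (f171858 IH) (Lpr_ct (K27.f381973 IH) (Lpr_gf (K27.f382406 IH) (Lpe (f40159 IH) (Lpr_gf (f495253 IH) (Lpn v1384)))))))))))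
theorem f494130 : Led Lsl_gt (LP (LK LD1_c1 LD2_c3 LD3_c45)) = (LP (LK LD1_c2 LD2_c13 LD3_c24)) :=
  Lre_g IH (LK LD1_c1 LD2_c3 LD3_c45) (LK LD1_c2 LD2_c13 LD3_c24) Lrfl Lrfl
theorem f174890 : Led Lsl_bt (LP (LK LD1_c2 LD2_c13 LD3_c25)) = (LP (LK LD1_c1 LD2_c3 LD3_c45)) :=
  Lre_b IH (LK LD1_c2 LD2_c13 LD3_c25) (LK LD1_c1 LD2_c3 LD3_c45) Lrfl Lrfl
theorem f174891 : Led Lsl_ct (LP (LK LD1_c2 LD2_c13 LD3_c25)) = (LP (LK LD1_c4 LD2_c32 LD3_c50)) :=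
  Lre_c IH (LK LD1_c2 LD2_c13 LD3_c25) (LK LD1_c4 LD2_c32 LD3_c50) Lrfl Lrfl
theorem f495257 : Led Lsl_gt (LP (LK LD1_c3 LD2_c57 LD3_c29)) = (LP (LK LD1_c4 LD2_c32 LD3_c50)) :=
  Lgr Lrot65 (Lpe (K1.f40112 IH) (Lpr_bt (f40144 IH) (Lpr_gf (f495253 IH) (Lpe (f495256 IH) (Lpr_ct (f181753 IH) (Lpe (f381983 IH) (Lpe (f40170 IH) (Lpe (f494130 IH) (Lpe (f174890 IH) (Lpr_ct (f174891 IH) (Lpn (LP (LK LD1_c4 LD2_c32 LD3_c50)))))))))))))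
theorem f495258 : Led Lsl_gt (LP (LK LD1_c3 LD2_c57 LD3_c29)) = (LP (LK LD1_c4 LD2_c32 LD3_c50)) :=
  Leop (Lpe (f495257 IH) (Lpn (LP (LK LD1_c3 LD2_c57 LD3_c29))))
theorem seed_108 : LEOK LG_g (LK LD1_c3 LD2_c57 LD3_c29) :=
  Leoe_g (LK LD1_c3 LD2_c57 LD3_c29) (f495258 IH)
def v1427 : LQ := Led Lsl_gf (LP (LK LD1_c1 LD2_c16 LD3_c44))
theorem f495504 : Led Lsl_gf (LP (LK LD1_c1 LD2_c16 LD3_c44)) = v1427 :=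
  Lrfl
theorem f179200 : Led Lsl_dt (LP (LK LD1_c1 LD2_c16 LD3_c41)) = (LP (LK LD1_c2 LD2_c39 LD3_c54)) :=
  Lre_d IH (LK LD1_c1 LD2_c16 LD3_c41) (LK LD1_c2 LD2_c39 LD3_c54) Lrfl Lrfl
theorem f195761 : Led Lsl_ct (LP (LK LD1_c1 LD2_c18 LD3_c60)) = (LP (LK LD1_c2 LD2_c39 LD3_c54)) :=
  Lgr Lrot59 (Lpr_cf (K22.f195756 IH) (Lpn (LP (LK LD1_c2 LD2_c39 LD3_c54))))
def v1209 : LQ := Led Lsl_gt (LP (LK LD1_c0 LD2_c57 LD3_c34))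
theorem f493969 : Led Lsl_gt (LP (LK LD1_c0 LD2_c57 LD3_c34)) = v1209 :=
  Lrfl
theorem f55585 : Led Lsl_ft (LP (LK LD1_c0 LD2_c57 LD3_c34)) = (LP (LK LD1_c2 LD2_c1 LD3_c4)) :=
  Lre_f IH (LK LD1_c0 LD2_c57 LD3_c34) (LK LD1_c2 LD2_c1 LD3_c4) Lrfl Lrfl
theorem f55586 : Led Lsl_at (LP (LK LD1_c2 LD2_c1 LD3_c4)) = (LP (LK LD1_c2 LD2_c0 LD3_c20)) :=
  Lgr Lrot33 (Lpe (f55585 IH) (Lpr_dt (K10.f55579 IH) (Lpr_ct (K10.f55578 IH) (Lpr_dt (K1.f53168 IH) (Lpr_ct (K1.f21294 IH) (Lpr_dt (K1.f8112 IH) (Lpr_ct (K1.f54843 IH) (Lpr_dt (K1.f54846 IH) (Lpr_ct (K1.f55522 IH) (Lpn (LP (LK LD1_c2 LD2_c0 LD3_c20))))))))))))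
theorem f493971 : Led Lsl_gf (LP (LK LD1_c2 LD2_c0 LD3_c20)) = v1209 :=
  Lgr Lrot76 (Lpe (f55586 IH) (Lpe (f55585 IH) (Lpr_gt (f493969 IH) (Lpn v1209))))
theorem f495509 : Led Lsl_cf v1209 = v1427 :=
  Lgr Lrot166 (Lpe (f493971 IH) (Lpr_dt (K1.f55583 IH) (Lpr_gt (K10.f177819 IH) (Lpr_dt (K22.f168217 IH) (Lpr_ct (f195761 IH) (Lpe (f179200 IH) (Lpe (K10.f8436 IH) (Lpe (K0.f8455 IH) (Lpr_gf (f495504 IH) (Lpn v1427))))))))))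
theorem f55479 : Led Lsl_bt (LP (LK LD1_c2 LD2_c0 LD3_c52)) = (LP (LK LD1_c4 LD2_c7 LD3_c0)) :=
  Lre_b IH (LK LD1_c2 LD2_c0 LD3_c52) (LK LD1_c4 LD2_c7 LD3_c0) Lrfl Lrfl
theorem f54806 : Led Lsl_gt (LP (LK LD1_c4 LD2_c7 LD3_c0)) = (LP (LK LD1_c8 LD2_c14 LD3_c36)) :=
  Lre_g IH (LK LD1_c4 LD2_c7 LD3_c0) (LK LD1_c8 LD2_c14 LD3_c36) Lrfl Lrfl
theorem f55594 : Led Lsl_bt (LP (LK LD1_c15 LD2_c30 LD3_c26)) = (LP (LK LD1_c8 LD2_c14 LD3_c36)) :=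
  Lre_b IH (LK LD1_c15 LD2_c30 LD3_c26) (LK LD1_c8 LD2_c14 LD3_c36) Lrfl Lrfl
theorem f8852 : Led Lsl_at (LP (LK LD1_c2 LD2_c39 LD3_c61)) = (LP (LK LD1_c5 LD2_c27 LD3_c14)) :=
  Lre_a IH (LK LD1_c2 LD2_c39 LD3_c61) (LK LD1_c5 LD2_c27 LD3_c14) Lrfl Lrfl
theorem f8853 : Led Lsl_bt (LP (LK LD1_c1 LD2_c16 LD3_c44)) = (LP (LK LD1_c2 LD2_c39 LD3_c61)) :=
  Lre_b IH (LK LD1_c1 LD2_c16 LD3_c44) (LK LD1_c2 LD2_c39 LD3_c61) Lrfl Lrfl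
theorem f8854 : Led Lsl_at (LP (LK LD1_c6 LD2_c6 LD3_c45)) = (LP (LK LD1_c2 LD2_c59 LD3_c30)) :=
  Lre_a IH (LK LD1_c6 LD2_c6 LD3_c45) (LK LD1_c2 LD2_c59 LD3_c30) Lrfl Lrfl
theorem f8855 : Led Lsl_bt (LP (LK LD1_c2 LD2_c59 LD3_c30)) = (LP (LK LD1_c1 LD2_c25 LD3_c26)) :=
  Lre_b IH (LK LD1_c2 LD2_c59 LD3_c30) (LK LD1_c1 LD2_c25 LD3_c26) Lrfl Lrfl
theorem f8856 : Led Lsl_af (LP (LK LD1_c1 LD2_c16 LD3_c44)) = (LP (LK LD1_c1 LD2_c25 LD3_c26)) :=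
  Lgr Lrot36 (Lpr_bt (f8853 IH) (Lpr_at (f8852 IH) (Lpr_bt (K0.f8847 IH) (Lpr_at (f8854 IH) (Lpr_bt (f8855 IH) (Lpn (LP (LK LD1_c1 LD2_c25 LD3_c26))))))))
theorem f446665 : Led Lsl_ft (LP (LK LD1_c2 LD2_c16 LD3_c58)) = (LP (LK LD1_c1 LD2_c25 LD3_c26)) :=
  Lre_f IH (LK LD1_c2 LD2_c16 LD3_c58) (LK LD1_c1 LD2_c25 LD3_c26) Lrfl Lrfl
theorem f495505 : Led Lsl_gt (LP (LK LD1_c2 LD2_c16 LD3_c58)) = v1427 :=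
  Lgr Lrot5 (Lpr_ft (f446665 IH) (Lpe (f8856 IH) (Lpr_gf (f495504 IH) (Lpn v1427))))
theorem f195598 : Led Lsl_bt (LP (LK LD1_c4 LD2_c39 LD3_c51)) = (LP (LK LD1_c2 LD2_c16 LD3_c58)) :=
  Lre_b IH (LK LD1_c4 LD2_c39 LD3_c51) (LK LD1_c2 LD2_c16 LD3_c58) Lrfl Lrfl
theorem f195599 : Led Lsl_ct (LP (LK LD1_c4 LD2_c39 LD3_c51)) = (LP (LK LD1_c9 LD2_c15 LD3_c8)) :=
  Lre_c IH (LK LD1_c4 LD2_c39 LD3_c51) (LK LD1_c9 LD2_c15 LD3_c8) Lrfl Lrfl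
theorem f495516 : Led Lsl_gt (LP (LK LD1_c17 LD2_c9 LD3_c37)) = (LP (LK LD1_c9 LD2_c15 LD3_c8)) :=
  Lre_g IH (LK LD1_c17 LD2_c9 LD3_c37) (LK LD1_c9 LD2_c15 LD3_c8) Lrfl Lrfl
theorem f495517 : Led Lsl_ct (LP (LK LD1_c15 LD2_c30 LD3_c26)) = (LP (LK LD1_c17 LD2_c9 LD3_c37)) :=
  Lgr Lrot64 (Lpr_bt (f55594 IH) (Lpe (f54806 IH) (Lpe (f55479 IH) (Lpr_ct (K1.f55522 IH) (Lpr_gf (f493971 IH) (Lpr_cf (f495509 IH) (Lpe (f495505 IH) (Lpe (f195598 IH) (Lpr_ct (f195599 IH) (Lpe (f495516 IH) (Lpn (LP (LK LD1_c17 LD2_c9 LD3_c37)))))))))))))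
theorem f495518 : Led Lsl_ct (LP (LK LD1_c15 LD2_c30 LD3_c26)) = (LP (LK LD1_c17 LD2_c9 LD3_c37)) :=
  Leop (Lpe (f495517 IH) (Lpn (LP (LK LD1_c15 LD2_c30 LD3_c26))))
theorem seed_109 : LEOK LG_c (LK LD1_c15 LD2_c30 LD3_c26) :=
  Leoe_c (LK LD1_c15 LD2_c30 LD3_c26) (f495518 IH)
def v1479 : LQ := Led Lsl_at (LP (LK LD1_c1 LD2_c19 LD3_c41))
theorem f495762 : Led Lsl_at (LP (LK LD1_c1 LD2_c19 LD3_c41)) = v1479 :=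
  Lrfl
def v384 : LQ := Led Lsl_at (LP (LK LD1_c0 LD2_c36 LD3_c52))
theorem f452547 : Led Lsl_at (LP (LK LD1_c0 LD2_c36 LD3_c52)) = v384 :=
  Lrfl
theorem f452548 : Led Lsl_af (LP (LK LD1_c0 LD2_c36 LD3_c52)) = v384 :=
  Lgr Lrot0 (Lpr_at (f452547 IH) (Lpn v384))
theorem f495766 : Led Lsl_df v384 = v1479 :=
  Lgr Lrot18 (Lpe (f452548 IH) (Lpr_dt (f225795 IH) (Lpr_at (f495762 IH) (Lpn v1479))))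
theorem f495769 : Led Lsl_dt v384 = v1479 :=
  Lgr Lrot42 (Lpr_df (f495766 IH) (Lpn v1479))
theorem f379944 : Led Lsl_ft (LP (LK LD1_c1 LD2_c3 LD3_c29)) = (LP (LK LD1_c0 LD2_c36 LD3_c52)) :=
  Lgr Lrot48 (Lpr_ff (K24.f379938 IH) (Lpn (LP (LK LD1_c0 LD2_c36 LD3_c52))))
theorem f164718 : Led Lsl_gt (LP (LK LD1_c1 LD2_c3 LD3_c29)) = (LP (LK LD1_c2 LD2_c12 LD3_c54)) :=
  Lre_g IH (LK LD1_c1 LD2_c3 LD3_c29) (LK LD1_c2 LD2_c12 LD3_c54) Lrfl Lrfl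
theorem f452550 : Led Lsl_gt (LP (LK LD1_c2 LD2_c12 LD3_c54)) = v384 :=
  Lgr Lrot46 (Lpe (f164718 IH) (Lpr_ft (f379944 IH) (Lpr_at (f452547 IH) (Lpn v384))))
theorem f225174 : Led Lsl_gt (LP (LK LD1_c2 LD2_c12 LD3_c31)) = (LP (LK LD1_c4 LD2_c31 LD3_c6)) :=
  Lre_g IH (LK LD1_c2 LD2_c12 LD3_c31) (LK LD1_c4 LD2_c31 LD3_c6) Lrfl Lrfl
theorem f354422 : Led Lsl_bt (LP (LK LD1_c9 LD2_c0 LD3_c10)) = (LP (LK LD1_c4 LD2_c31 LD3_c6)) :=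
  Lre_b IH (LK LD1_c9 LD2_c0 LD3_c10) (LK LD1_c4 LD2_c31 LD3_c6) Lrfl Lrfl
theorem f173374 : Led Lsl_bt (LP (LK LD1_c2 LD2_c13 LD3_c41)) = (LP (LK LD1_c1 LD2_c3 LD3_c51)) :=
  Lre_b IH (LK LD1_c2 LD2_c13 LD3_c41) (LK LD1_c1 LD2_c3 LD3_c51) Lrfl Lrfl
theorem f173394 : Led Lsl_ct (LP (LK LD1_c2 LD2_c13 LD3_c41)) = (LP (LK LD1_c4 LD2_c33 LD3_c33)) :=
  Lre_c IH (LK LD1_c2 LD2_c13 LD3_c41) (LK LD1_c4 LD2_c33 LD3_c33) Lrfl Lrfl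
theorem f175985 : Led Lsl_gt (LP (LK LD1_c9 LD2_c4 LD3_c42)) = (LP (LK LD1_c4 LD2_c33 LD3_c33)) :=
  Lre_g IH (LK LD1_c9 LD2_c4 LD3_c42) (LK LD1_c4 LD2_c33 LD3_c33) Lrfl Lrfl
theorem f418774 : Led Lsl_ct (LP (LK LD1_c9 LD2_c0 LD3_c10)) = (LP (LK LD1_c9 LD2_c4 LD3_c42)) :=
  Lgr Lrot64 (Lpr_bt (f354422 IH) (Lpe (f225174 IH) (Lpe (f225163 IH) (Lpr_ct (f225166 IH) (Lpe (K12.f167917 IH) (Lpe (K9.f173381 IH) (Lpe (K9.f173380 IH) (Lpe (f173374 IH) (Lpr_ct (f173394 IH) (Lpe (f175985 IH) (Lpn (LP (LK LD1_c9 LD2_c4 LD3_c42)))))))))))))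
theorem f418780 : Led Lsl_cf (LP (LK LD1_c9 LD2_c0 LD3_c10)) = (LP (LK LD1_c9 LD2_c4 LD3_c42)) :=
  Lgr Lrot11 (Lpr_ct (f418774 IH) (Lpn (LP (LK LD1_c9 LD2_c4 LD3_c42))))
theorem f382758 : Led Lsl_df (LP (LK LD1_c19 LD2_c32 LD3_c13)) = (LP (LK LD1_c15 LD2_c49 LD3_c22)) :=
  Lgr Lrot78 (Lpe (K27.f382575 IH) (Lpe (K27.f382726 IH) (Lpr_ft (K27.f382756 IH) (Lpn (LP (LK LD1_c15 LD2_c49 LD3_c22))))))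
theorem f290395 : Led Lsl_ft (LP (LK LD1_c8 LD2_c55 LD3_c11)) = (LP (LK LD1_c4 LD2_c28 LD3_c30)) :=
  Lre_f IH (LK LD1_c8 LD2_c55 LD3_c11) (LK LD1_c4 LD2_c28 LD3_c30) Lrfl Lrfl
theorem f290394 : Led Lsl_at (LP (LK LD1_c4 LD2_c28 LD3_c30)) = (LP (LK LD1_c8 LD2_c55 LD3_c6)) :=
  Lre_a IH (LK LD1_c4 LD2_c28 LD3_c30) (LK LD1_c8 LD2_c55 LD3_c6) Lrfl Lrfl
theorem f290337 : Led Lsl_dt (LP (LK LD1_c15 LD2_c3 LD3_c27)) = (LP (LK LD1_c7 LD2_c58 LD3_c54)) :=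
  Lre_d IH (LK LD1_c15 LD2_c3 LD3_c27) (LK LD1_c7 LD2_c58 LD3_c54) Lrfl Lrfl
theorem f290499 : Led Lsl_df (LP (LK LD1_c8 LD2_c22 LD3_c1)) = (LP (LK LD1_c15 LD2_c42 LD3_c44)) :=
  Lgr Lrot106 (Lpr_ct (K27.f221982 IH) (Lpr_dt (K27.f53934 IH) (Lpr_ct (K17.f290333 IH) (Lpr_dt (f290337 IH) (Lpe (K17.f290362 IH) (Lpe (f290394 IH) (Lpe (f290395 IH) (Lpr_dt (K17.f290396 IH) (Lpr_ct (K17.f290427 IH) (Lpn (LP (LK LD1_c15 LD2_c42 LD3_c44))))))))))))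
theorem f179699 : Led Lsl_at (LP (LK LD1_c8 LD2_c36 LD3_c4)) = (LP (LK LD1_c16 LD2_c7 LD3_c28)) :=
  Lre_a IH (LK LD1_c8 LD2_c36 LD3_c4) (LK LD1_c16 LD2_c7 LD3_c28) Lrfl Lrfl
theorem f329425 : Led Lsl_ft (LP (LK LD1_c8 LD2_c25 LD3_c15)) = (LP (LK LD1_c8 LD2_c36 LD3_c4)) :=
  Lgr Lrot75 (Lpe (K27.f178807 IH) (Lpr_ff (K21.f329421 IH) (Lpe (K27.f179616 IH) (Lpn (LP (LK LD1_c8 LD2_c36 LD3_c4))))))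
theorem f382705 : Led Lsl_af (LP (LK LD1_c8 LD2_c25 LD3_c15)) = (LP (LK LD1_c11 LD2_c19 LD3_c19)) :=
  Lgr Lrot45 (Lpr_ft (f329425 IH) (Lpr_at (f179699 IH) (Lpr_ft (K27.f382703 IH) (Lpn (LP (LK LD1_c11 LD2_c19 LD3_c19))))))
theorem f382711 : Led Lsl_gt (LP (LK LD1_c16 LD2_c7 LD3_c28)) = (LP (LK LD1_c15 LD2_c49 LD3_c22)) :=
  Lgr Lrot5 (Lpr_ft (K27.f382703 IH) (Lpe (f382705 IH) (Lpe (K27.f178813 IH) (Lpn (LP (LK LD1_c15 LD2_c49 LD3_c22))))))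
theorem f178809 : Led Lsl_at (LP (LK LD1_c15 LD2_c42 LD3_c31)) = (LP (LK LD1_c8 LD2_c20 LD3_c43)) :=
  Lre_a IH (LK LD1_c15 LD2_c42 LD3_c31) (LK LD1_c8 LD2_c20 LD3_c43) Lrfl Lrfl
theorem f380974 : Led Lsl_ff (LP (LK LD1_c15 LD2_c42 LD3_c31)) = (LP (LK LD1_c16 LD2_c4 LD3_c37)) :=
  Lgr Lrot30 (Lpr_at (f178809 IH) (Lpr_ft (K27.f380972 IH) (Lpr_at (K27.f179679 IH) (Lpn (LP (LK LD1_c16 LD2_c4 LD3_c37))))))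
theorem f178814 : Led Lsl_gt (LP (LK LD1_c15 LD2_c42 LD3_c30)) = (LP (LK LD1_c8 LD2_c20 LD3_c43)) :=
  Lre_g IH (LK LD1_c15 LD2_c42 LD3_c30) (LK LD1_c8 LD2_c20 LD3_c43) Lrfl Lrfl
theorem f381006 : Led Lsl_gf (LP (LK LD1_c15 LD2_c42 LD3_c30)) = (LP (LK LD1_c16 LD2_c4 LD3_c37)) :=
  Lgr Lrot47 (Lpr_gt (f178814 IH) (Lpe (f178809 IH) (Lpr_ff (f380974 IH) (Lpn (LP (LK LD1_c16 LD2_c4 LD3_c37))))))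
theorem f178824 : Led Lsl_dt (LP (LK LD1_c15 LD2_c42 LD3_c30)) = (LP (LK LD1_c25 LD2_c38 LD3_c22)) :=
  Lre_d IH (LK LD1_c15 LD2_c42 LD3_c30) (LK LD1_c25 LD2_c38 LD3_c22) Lrfl Lrfl
theorem f384613 : Led Lsl_gf (LP (LK LD1_c15 LD2_c42 LD3_c44)) = (LP (LK LD1_c25 LD2_c38 LD3_c22)) :=
  Lgr Lrot143 (Lpe (f290499 IH) (Lpr_cf (K27.f221977 IH) (Lpe (K20.f53924 IH) (Lpr_gf (K27.f382620 IH) (Lpr_df (f382758 IH) (Lpe (f382711 IH) (Lpr_cf (K27.f179680 IH) (Lpe (f381006 IH) (Lpr_dt (f178824 IH) (Lpn (LP (LK LD1_c25 LD2_c38 LD3_c22))))))))))))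
theorem f290512 : Led Lsl_at (LP (LK LD1_c16 LD2_c41 LD3_c24)) = (LP (LK LD1_c8 LD2_c55 LD3_c14)) :=
  Lre_a IH (LK LD1_c16 LD2_c41 LD3_c24) (LK LD1_c8 LD2_c55 LD3_c14) Lrfl Lrfl
theorem f290349 : Led Lsl_ct (LP (LK LD1_c8 LD2_c55 LD3_c14)) = (LP (LK LD1_c16 LD2_c41 LD3_c34)) :=
  Lre_c IH (LK LD1_c8 LD2_c55 LD3_c14) (LK LD1_c16 LD2_c41 LD3_c34) Lrfl Lrfl
theorem f290513 : Led Lsl_at (LP (LK LD1_c16 LD2_c41 LD3_c34)) = (LP (LK LD1_c15 LD2_c42 LD3_c44)) :=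
  Lgr Lrot107 (Lpe (f290349 IH) (Lpe (f290512 IH) (Lpr_cf (K17.f290492 IH) (Lpn (LP (LK LD1_c15 LD2_c42 LD3_c44))))))
theorem f384615 : Led Lsl_gt (LP (LK LD1_c26 LD2_c1 LD3_c57)) = (LP (LK LD1_c25 LD2_c38 LD3_c22)) :=
  Lgr Lrot5 (Lpr_ft (K27.f382679 IH) (Lpr_at (f290513 IH) (Lpr_gf (f384613 IH) (Lpn (LP (LK LD1_c25 LD2_c38 LD3_c22))))))
theorem f178825 : Led Lsl_dt (LP (LK LD1_c25 LD2_c38 LD3_c22)) = (LP (LK LD1_c15 LD2_c42 LD3_c30)) :=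
  Lre_d IH (LK LD1_c25 LD2_c38 LD3_c22) (LK LD1_c15 LD2_c42 LD3_c30) Lrfl Lrfl
theorem f178808 : Led Lsl_dt (LP (LK LD1_c8 LD2_c20 LD3_c43)) = (LP (LK LD1_c15 LD2_c42 LD3_c32)) :=
  Lre_d IH (LK LD1_c8 LD2_c20 LD3_c43) (LK LD1_c15 LD2_c42 LD3_c32) Lrfl Lrfl
theorem f380986 : Led Lsl_dt (LP (LK LD1_c15 LD2_c42 LD3_c31)) = (LP (LK LD1_c25 LD2_c38 LD3_c24)) :=
  Lre_d IH (LK LD1_c15 LD2_c42 LD3_c31) (LK LD1_c25 LD2_c38 LD3_c24) Lrfl Lrfl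
theorem f173455 : Led Lsl_ct (LP (LK LD1_c11 LD2_c19 LD3_c21)) = (LP (LK LD1_c5 LD2_c44 LD3_c38)) :=
  Lre_c IH (LK LD1_c11 LD2_c19 LD3_c21) (LK LD1_c5 LD2_c44 LD3_c38) Lrfl Lrfl
theorem f173453 : Led Lsl_ct (LP (LK LD1_c4 LD2_c30 LD3_c30)) = (LP (LK LD1_c8 LD2_c59 LD3_c19)) :=
  Lre_c IH (LK LD1_c4 LD2_c30 LD3_c30) (LK LD1_c8 LD2_c59 LD3_c19) Lrfl Lrfl
theorem f243820 : Led Lsl_ct (LP (LK LD1_c5 LD2_c44 LD3_c38)) = (LP (LK LD1_c11 LD2_c19 LD3_c21)) :=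
  Lre_c IH (LK LD1_c5 LD2_c44 LD3_c38) (LK LD1_c11 LD2_c19 LD3_c21) Lrfl Lrfl
theorem f225717 : Led Lsl_ct (LP (LK LD1_c4 LD2_c28 LD3_c56)) = (LP (LK LD1_c2 LD2_c11 LD3_c32)) :=
  Lre_c IH (LK LD1_c4 LD2_c28 LD3_c56) (LK LD1_c2 LD2_c11 LD3_c32) Lrfl Lrfl
theorem f225844 : Led Lsl_bt (LP (LK LD1_c8 LD2_c56 LD3_c9)) = (LP (LK LD1_c4 LD2_c28 LD3_c56)) :=
  Lre_b IH (LK LD1_c8 LD2_c56 LD3_c9) (LK LD1_c4 LD2_c28 LD3_c56) Lrfl Lrfl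
theorem f225846 : Led Lsl_bt (LP (LK LD1_c8 LD2_c53 LD3_c29)) = (LP (LK LD1_c16 LD2_c37 LD3_c29)) :=
  Lre_b IH (LK LD1_c8 LD2_c53 LD3_c29) (LK LD1_c16 LD2_c37 LD3_c29) Lrfl Lrfl
theorem f225847 : Led Lsl_cf (LP (LK LD1_c8 LD2_c56 LD3_c9)) = (LP (LK LD1_c16 LD2_c37 LD3_c29)) :=
  Lgr Lrot97 (Lpr_bt (f225844 IH) (Lpr_ct (f225717 IH) (Lpr_bt (K19.f225840 IH) (Lpr_ct (K19.f225845 IH) (Lpr_bt (f225846 IH) (Lpn (LP (LK LD1_c16 LD2_c37 LD3_c29))))))))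
theorem f225853 : Led Lsl_ct (LP (LK LD1_c8 LD2_c56 LD3_c9)) = (LP (LK LD1_c16 LD2_c37 LD3_c29)) :=
  Lgr Lrot59 (Lpr_cf (f225847 IH) (Lpn (LP (LK LD1_c16 LD2_c37 LD3_c29))))
theorem f225884 : Led Lsl_et (LP (LK LD1_c4 LD2_c28 LD3_c55)) = (LP (LK LD1_c8 LD2_c56 LD3_c9)) :=
  Lre_e IH (LK LD1_c4 LD2_c28 LD3_c55) (LK LD1_c8 LD2_c56 LD3_c9) Lrfl Lrfl
theorem f225886 : Led Lsl_cf (LP (LK LD1_c4 LD2_c28 LD3_c55)) = (LP (LK LD1_c8 LD2_c53 LD3_c27)) :=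
  Lgr Lrot39 (Lpr_et (f225884 IH) (Lpr_ct (f225853 IH) (Lpr_et (K27.f225885 IH) (Lpn (LP (LK LD1_c8 LD2_c53 LD3_c27))))))
theorem f225889 : Led Lsl_at (LP (LK LD1_c16 LD2_c37 LD3_c27)) = (LP (LK LD1_c8 LD2_c53 LD3_c27)) :=
  Lre_a IH (LK LD1_c16 LD2_c37 LD3_c27) (LK LD1_c8 LD2_c53 LD3_c27) Lrfl Lrfl
theorem f225890 : Led Lsl_ct (LP (LK LD1_c8 LD2_c56 LD3_c8)) = (LP (LK LD1_c16 LD2_c37 LD3_c27)) :=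
  Lgr Lrot111 (Lpe (K27.f225888 IH) (Lpr_cf (f225886 IH) (Lpe (f225889 IH) (Lpn (LP (LK LD1_c16 LD2_c37 LD3_c27))))))
theorem f341312 : Led Lsl_ft (LP (LK LD1_c16 LD2_c37 LD3_c27)) = (LP (LK LD1_c10 LD2_c47 LD3_c46)) :=
  Lgr Lrot4 (Lpe (f225890 IH) (Lpr_ff (K27.f341298 IH) (Lpe (K17.f279103 IH) (Lpn (LP (LK LD1_c10 LD2_c47 LD3_c46))))))
theorem f279142 : Led Lsl_at (LP (LK LD1_c10 LD2_c47 LD3_c46)) = (LP (LK LD1_c5 LD2_c28 LD3_c20)) :=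
  Lre_a IH (LK LD1_c10 LD2_c47 LD3_c46) (LK LD1_c5 LD2_c28 LD3_c20) Lrfl Lrfl
theorem f178115 : Led Lsl_gt (LP (LK LD1_c10 LD2_c47 LD3_c45)) = (LP (LK LD1_c5 LD2_c28 LD3_c20)) :=
  Lre_g IH (LK LD1_c10 LD2_c47 LD3_c45) (LK LD1_c5 LD2_c28 LD3_c20) Lrfl Lrfl
theorem f341318 : Led Lsl_gt (LP (LK LD1_c16 LD2_c37 LD3_c27)) = (LP (LK LD1_c10 LD2_c47 LD3_c45)) :=
  Lgr Lrot5 (Lpr_ft (f341312 IH) (Lpr_at (f279142 IH) (Lpe (f178115 IH) (Lpn (LP (LK LD1_c10 LD2_c47 LD3_c45))))))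
theorem f178113 : Led Lsl_bt (LP (LK LD1_c2 LD2_c40 LD3_c32)) = (LP (LK LD1_c1 LD2_c16 LD3_c59)) :=
  Lre_b IH (LK LD1_c2 LD2_c40 LD3_c32) (LK LD1_c1 LD2_c16 LD3_c59) Lrfl Lrfl
theorem f178118 : Led Lsl_bt (LP (LK LD1_c11 LD2_c5 LD3_c20)) = (LP (LK LD1_c5 LD2_c36 LD3_c37)) :=
  Lre_b IH (LK LD1_c11 LD2_c5 LD3_c20) (LK LD1_c5 LD2_c36 LD3_c37) Lrfl Lrfl
theorem f178119 : Led Lsl_cf (LP (LK LD1_c10 LD2_c47 LD3_c45)) = (LP (LK LD1_c11 LD2_c5 LD3_c20)) :=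
  Lgr Lrot160 (Lpr_gt (f178115 IH) (Lpe (K27.f178114 IH) (Lpr_bt (f178113 IH) (Lpr_gt (K9.f178111 IH) (Lpr_ct (K9.f171861 IH) (Lpr_gt (K12.f178096 IH) (Lpe (K12.f177860 IH) (Lpr_bt (K20.f178116 IH) (Lpr_gt (K20.f178117 IH) (Lpe (f178118 IH) (Lpn (LP (LK LD1_c11 LD2_c5 LD3_c20)))))))))))))
theorem f178151 : Led Lsl_ct (LP (LK LD1_c10 LD2_c47 LD3_c45)) = (LP (LK LD1_c11 LD2_c5 LD3_c20)) :=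
  Lgr Lrot59 (Lpr_cf (f178119 IH) (Lpn (LP (LK LD1_c11 LD2_c5 LD3_c20))))
theorem f380943 : Led Lsl_dt (LP (LK LD1_c11 LD2_c19 LD3_c21)) = (LP (LK LD1_c11 LD2_c5 LD3_c20)) :=
  Lgr Lrot27 (Lpe (f243820 IH) (Lpe (K27.f173454 IH) (Lpe (f173453 IH) (Lpe (K27.f8809 IH) (Lpr_df (K27.f380935 IH) (Lpe (K27.f341295 IH) (Lpr_ct (f225890 IH) (Lpr_gt (f341318 IH) (Lpr_ct (f178151 IH) (Lpn (LP (LK LD1_c11 LD2_c5 LD3_c20))))))))))))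
theorem f380945 : Led Lsl_df (LP (LK LD1_c11 LD2_c19 LD3_c21)) = (LP (LK LD1_c11 LD2_c5 LD3_c20)) :=
  Lgr Lrot38 (Lpr_dt (f380943 IH) (Lpn (LP (LK LD1_c11 LD2_c5 LD3_c20))))
theorem f341288 : Led Lsl_at (LP (LK LD1_c5 LD2_c28 LD3_c28)) = (LP (LK LD1_c2 LD2_c40 LD3_c32)) :=
  Lre_a IH (LK LD1_c5 LD2_c28 LD3_c28) (LK LD1_c2 LD2_c40 LD3_c32) Lrfl Lrfl
theorem f341289 : Led Lsl_ft (LP (LK LD1_c8 LD2_c56 LD3_c8)) = (LP (LK LD1_c5 LD2_c28 LD3_c28)) :=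
  Lgr Lrot101 (Lpe (K27.f225888 IH) (Lpr_ff (K27.f341259 IH) (Lpe (f341288 IH) (Lpn (LP (LK LD1_c5 LD2_c28 LD3_c28))))))
theorem f341340 : Led Lsl_gt (LP (LK LD1_c8 LD2_c56 LD3_c8)) = (LP (LK LD1_c5 LD2_c28 LD3_c27)) :=
  Lgr Lrot5 (Lpr_ft (f341289 IH) (Lpr_at (f341288 IH) (Lpe (K27.f179123 IH) (Lpn (LP (LK LD1_c5 LD2_c28 LD3_c27))))))
theorem f179160 : Led Lsl_df (LP (LK LD1_c2 LD2_c48 LD3_c35)) = (LP (LK LD1_c5 LD2_c28 LD3_c27)) :=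
  Lgr Lrot38 (Lpr_dt (K27.f179154 IH) (Lpn (LP (LK LD1_c5 LD2_c28 LD3_c27))))
theorem f172913 : Led Lsl_dt (LP (LK LD1_c1 LD2_c20 LD3_c27)) = (LP (LK LD1_c2 LD2_c12 LD3_c14)) :=
  Lre_d IH (LK LD1_c1 LD2_c20 LD3_c27) (LK LD1_c2 LD2_c12 LD3_c14) Lrfl Lrfl
theorem f168656 : Led Lsl_ct (LP (LK LD1_c4 LD2_c28 LD3_c34)) = (LP (LK LD1_c2 LD2_c12 LD3_c14)) :=
  Lre_c IH (LK LD1_c4 LD2_c28 LD3_c34) (LK LD1_c2 LD2_c12 LD3_c14) Lrfl Lrfl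
theorem f179175 : Led Lsl_dt (LP (LK LD1_c8 LD2_c55 LD3_c21)) = (LP (LK LD1_c4 LD2_c28 LD3_c34)) :=
  Lre_d IH (LK LD1_c8 LD2_c55 LD3_c21) (LK LD1_c4 LD2_c28 LD3_c34) Lrfl Lrfl
theorem f179176 : Led Lsl_gt (LP (LK LD1_c16 LD2_c41 LD3_c39)) = (LP (LK LD1_c8 LD2_c55 LD3_c21)) :=
  Lre_g IH (LK LD1_c16 LD2_c41 LD3_c39) (LK LD1_c8 LD2_c55 LD3_c21) Lrfl Lrfl
theorem f341342 : Led Lsl_dt (LP (LK LD1_c10 LD2_c47 LD3_c45)) = (LP (LK LD1_c16 LD2_c41 LD3_c39)) :=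
  Lgr Lrot57 (Lpe (f341318 IH) (Lpe (f225890 IH) (Lpr_gt (f341340 IH) (Lpe (f179160 IH) (Lpr_gt (K27.f175102 IH) (Lpr_dt (f172913 IH) (Lpe (f168656 IH) (Lpe (f179175 IH) (Lpe (f179176 IH) (Lpn (LP (LK LD1_c16 LD2_c41 LD3_c39))))))))))))
theorem f341344 : Led Lsl_df (LP (LK LD1_c10 LD2_c47 LD3_c45)) = (LP (LK LD1_c16 LD2_c41 LD3_c39)) :=
  Lgr Lrot38 (Lpr_dt (f341342 IH) (Lpn (LP (LK LD1_c16 LD2_c41 LD3_c39))))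
theorem f382790 : Led Lsl_ct (LP (LK LD1_c25 LD2_c38 LD3_c24)) = (LP (LK LD1_c16 LD2_c41 LD3_c39)) :=
  Lgr Lrot133 (Lpe (f380986 IH) (Lpr_ft (K27.f380982 IH) (Lpr_at (K27.f179684 IH) (Lpe (K27.f179675 IH) (Lpr_df (K27.f382782 IH) (Lpe (f173455 IH) (Lpr_df (f380945 IH) (Lpe (f178151 IH) (Lpr_df (f341344 IH) (Lpn (LP (LK LD1_c16 LD2_c41 LD3_c39))))))))))))
theorem f329073 : Led Lsl_at (LP (LK LD1_c25 LD2_c38 LD3_c24)) = (LP (LK LD1_c15 LD2_c42 LD3_c32)) :=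
  Lre_a IH (LK LD1_c25 LD2_c38 LD3_c24) (LK LD1_c15 LD2_c42 LD3_c32) Lrfl Lrfl
theorem f382663 : Led Lsl_ff (LP (LK LD1_c25 LD2_c38 LD3_c24)) = (LP (LK LD1_c16 LD2_c41 LD3_c46)) :=
  Lgr Lrot52 (Lpr_at (f329073 IH) (Lpe (K27.f178812 IH) (Lpr_gf (K27.f382661 IH) (Lpn (LP (LK LD1_c16 LD2_c41 LD3_c46))))))
theorem f382794 : Led Lsl_ff (LP (LK LD1_c8 LD2_c55 LD3_c18)) = (LP (LK LD1_c16 LD2_c41 LD3_c39)) :=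
  Lgr Lrot23 (Lpr_ct (K27.f290371 IH) (Lpe (f382663 IH) (Lpr_ct (f382790 IH) (Lpn (LP (LK LD1_c16 LD2_c41 LD3_c39))))))
theorem f382800 : Led Lsl_at (LP (LK LD1_c8 LD2_c55 LD3_c18)) = (LP (LK LD1_c16 LD2_c41 LD3_c40)) :=
  Lgr Lrot26 (Lpr_ff (f382794 IH) (Lpr_gt (f179176 IH) (Lpr_gt (K27.f267268 IH) (Lpn (LP (LK LD1_c16 LD2_c41 LD3_c40))))))
theorem f382802 : Led Lsl_af (LP (LK LD1_c8 LD2_c55 LD3_c18)) = (LP (LK LD1_c16 LD2_c41 LD3_c40)) :=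
  Lgr Lrot0 (Lpr_at (f382800 IH) (Lpn (LP (LK LD1_c16 LD2_c41 LD3_c40))))
theorem f290370 : Led Lsl_gt (LP (LK LD1_c16 LD2_c41 LD3_c8)) = (LP (LK LD1_c8 LD2_c55 LD3_c18)) :=
  Lre_g IH (LK LD1_c16 LD2_c41 LD3_c8) (LK LD1_c8 LD2_c55 LD3_c18) Lrfl Lrfl
theorem f340375 : Led Lsl_gt (LP (LK LD1_c8 LD2_c55 LD3_c17)) = (LP (LK LD1_c16 LD2_c41 LD3_c8)) :=
  Lre_g IH (LK LD1_c8 LD2_c55 LD3_c17) (LK LD1_c16 LD2_c41 LD3_c8) Lrfl Lrfl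
theorem f383017 : Led Lsl_ft (LP (LK LD1_c8 LD2_c55 LD3_c17)) = (LP (LK LD1_c16 LD2_c41 LD3_c40)) :=
  Lgr Lrot2 (Lpr_gt (f340375 IH) (Lpr_gt (f290370 IH) (Lpr_af (f382802 IH) (Lpn (LP (LK LD1_c16 LD2_c41 LD3_c40))))))
theorem f383026 : Led Lsl_ff (LP (LK LD1_c8 LD2_c55 LD3_c17)) = (LP (LK LD1_c16 LD2_c41 LD3_c40)) :=
  Lgr Lrot3 (Lpr_ft (f383017 IH) (Lpn (LP (LK LD1_c16 LD2_c41 LD3_c40))))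
theorem f296123 : Led Lsl_bt (LP (LK LD1_c8 LD2_c20 LD3_c44)) = (LP (LK LD1_c15 LD2_c42 LD3_c32)) :=
  Lre_b IH (LK LD1_c8 LD2_c20 LD3_c44) (LK LD1_c15 LD2_c42 LD3_c32) Lrfl Lrfl
theorem f329080 : Led Lsl_ff (LP (LK LD1_c15 LD2_c44 LD3_c56)) = (LP (LK LD1_c15 LD2_c42 LD3_c32)) :=
  Lgr Lrot25 (Lpr_bt (K27.f51527 IH) (Lpr_ft (K21.f329078 IH) (Lpr_bt (f296123 IH) (Lpn (LP (LK LD1_c15 LD2_c42 LD3_c32))))))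
theorem f383031 : Led Lsl_ct (LP (LK LD1_c8 LD2_c55 LD3_c17)) = (LP (LK LD1_c15 LD2_c42 LD3_c32)) :=
  Lgr Lrot40 (Lpr_ff (f383026 IH) (Lpr_cf (K27.f380921 IH) (Lpr_ff (f329080 IH) (Lpn (LP (LK LD1_c15 LD2_c42 LD3_c32))))))
theorem f380933 : Led Lsl_dt (LP (LK LD1_c16 LD2_c41 LD3_c40)) = (LP (LK LD1_c10 LD2_c47 LD3_c44)) :=
  Lgr Lrot42 (Lpr_df (K27.f380931 IH) (Lpn (LP (LK LD1_c10 LD2_c47 LD3_c44))))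
theorem f279094 : Led Lsl_at (LP (LK LD1_c5 LD2_c28 LD3_c20)) = (LP (LK LD1_c10 LD2_c47 LD3_c46)) :=
  Lre_a IH (LK LD1_c5 LD2_c28 LD3_c20) (LK LD1_c10 LD2_c47 LD3_c46) Lrfl Lrfl
theorem f341255 : Led Lsl_ff (LP (LK LD1_c16 LD2_c37 LD3_c27)) = (LP (LK LD1_c10 LD2_c47 LD3_c46)) :=
  Lgr Lrot30 (Lpr_at (f225889 IH) (Lpr_ft (K27.f341253 IH) (Lpr_at (f279094 IH) (Lpn (LP (LK LD1_c10 LD2_c47 LD3_c46))))))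
theorem f225895 : Led Lsl_gt (LP (LK LD1_c16 LD2_c37 LD3_c26)) = (LP (LK LD1_c8 LD2_c53 LD3_c27)) :=
  Lre_g IH (LK LD1_c16 LD2_c37 LD3_c26) (LK LD1_c8 LD2_c53 LD3_c27) Lrfl Lrfl
theorem f341366 : Led Lsl_gf (LP (LK LD1_c16 LD2_c37 LD3_c26)) = (LP (LK LD1_c10 LD2_c47 LD3_c46)) :=
  Lgr Lrot47 (Lpr_gt (f225895 IH) (Lpe (f225889 IH) (Lpr_ff (f341255 IH) (Lpn (LP (LK LD1_c10 LD2_c47 LD3_c46))))))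
theorem f279097 : Led Lsl_ct (LP (LK LD1_c5 LD2_c28 LD3_c28)) = (LP (LK LD1_c10 LD2_c47 LD3_c46)) :=
  Lre_c IH (LK LD1_c5 LD2_c28 LD3_c28) (LK LD1_c10 LD2_c47 LD3_c46) Lrfl Lrfl
theorem f341314 : Led Lsl_gf (LP (LK LD1_c8 LD2_c56 LD3_c7)) = (LP (LK LD1_c5 LD2_c28 LD3_c28)) :=
  Lgr Lrot47 (Lpr_gt (K27.f173507 IH) (Lpe (K27.f225894 IH) (Lpr_ff (K27.f341298 IH) (Lpn (LP (LK LD1_c5 LD2_c28 LD3_c28))))))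
theorem f173501 : Led Lsl_dt (LP (LK LD1_c2 LD2_c12 LD3_c13)) = (LP (LK LD1_c1 LD2_c3 LD3_c0)) :=
  Lre_d IH (LK LD1_c2 LD2_c12 LD3_c13) (LK LD1_c1 LD2_c3 LD3_c0) Lrfl Lrfl
theorem f173502 : Led Lsl_ct (LP (LK LD1_c2 LD2_c11 LD3_c20)) = (LP (LK LD1_c1 LD2_c3 LD3_c0)) :=
  Lre_c IH (LK LD1_c2 LD2_c11 LD3_c20) (LK LD1_c1 LD2_c3 LD3_c0) Lrfl Lrfl
theorem f341368 : Led Lsl_dt (LP (LK LD1_c16 LD2_c37 LD3_c26)) = (LP (LK LD1_c8 LD2_c55 LD3_c18)) :=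
  Lgr Lrot57 (Lpr_gf (f341366 IH) (Lpe (f279097 IH) (Lpe (f341314 IH) (Lpr_dt (K27.f173488 IH) (Lpr_gt (K27.f173408 IH) (Lpr_dt (f173501 IH) (Lpe (f173502 IH) (Lpe (K27.f173503 IH) (Lpe (K27.f173504 IH) (Lpn (LP (LK LD1_c8 LD2_c55 LD3_c18))))))))))))
theorem f382806 : Led Lsl_af (LP (LK LD1_c16 LD2_c37 LD3_c26)) = (LP (LK LD1_c10 LD2_c47 LD3_c44)) :=
  Lgr Lrot117 (Lpr_dt (f341368 IH) (Lpr_at (f382800 IH) (Lpr_dt (f380933 IH) (Lpn (LP (LK LD1_c10 LD2_c47 LD3_c44))))))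
theorem f191921 : Led Lsl_gt (LP (LK LD1_c8 LD2_c53 LD3_c27)) = (LP (LK LD1_c16 LD2_c37 LD3_c25)) :=
  Lre_g IH (LK LD1_c8 LD2_c53 LD3_c27) (LK LD1_c16 LD2_c37 LD3_c25) Lrfl Lrfl
theorem f341263 : Led Lsl_gt (LP (LK LD1_c16 LD2_c37 LD3_c25)) = (LP (LK LD1_c10 LD2_c47 LD3_c46)) :=
  Lgr Lrot46 (Lpe (f191921 IH) (Lpr_ft (K27.f341253 IH) (Lpr_at (f279094 IH) (Lpn (LP (LK LD1_c10 LD2_c47 LD3_c46))))))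
theorem f382810 : Led Lsl_ft (LP (LK LD1_c16 LD2_c37 LD3_c25)) = (LP (LK LD1_c10 LD2_c47 LD3_c44)) :=
  Lgr Lrot2 (Lpr_gt (f341263 IH) (Lpe (f341366 IH) (Lpr_af (f382806 IH) (Lpn (LP (LK LD1_c10 LD2_c47 LD3_c44))))))
theorem f382816 : Led Lsl_ff (LP (LK LD1_c16 LD2_c37 LD3_c25)) = (LP (LK LD1_c10 LD2_c47 LD3_c44)) :=
  Lgr Lrot3 (Lpr_ft (f382810 IH) (Lpn (LP (LK LD1_c10 LD2_c47 LD3_c44))))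
theorem f383023 : Led Lsl_df (LP (LK LD1_c8 LD2_c55 LD3_c17)) = (LP (LK LD1_c16 LD2_c37 LD3_c25)) :=
  Lgr Lrot78 (Lpr_ft (f383017 IH) (Lpr_dt (f380933 IH) (Lpe (f382816 IH) (Lpn (LP (LK LD1_c16 LD2_c37 LD3_c25))))))
theorem f225892 : Led Lsl_dt (LP (LK LD1_c16 LD2_c37 LD3_c28)) = (LP (LK LD1_c8 LD2_c53 LD3_c27)) :=
  Lre_d IH (LK LD1_c16 LD2_c37 LD3_c28) (LK LD1_c8 LD2_c53 LD3_c27) Lrfl Lrfl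
theorem f384618 : Led Lsl_gt (LP (LK LD1_c16 LD2_c41 LD3_c11)) = (LP (LK LD1_c16 LD2_c37 LD3_c28)) :=
  Lgr Lrot94 (Lpe (K27.f382672 IH) (Lpr_gt (f384615 IH) (Lpr_dt (f178825 IH) (Lpr_gt (f178814 IH) (Lpr_dt (f178808 IH) (Lpe (f383031 IH) (Lpr_df (f383023 IH) (Lpe (f191921 IH) (Lpe (f225892 IH) (Lpn (LP (LK LD1_c16 LD2_c37 LD3_c28))))))))))))
theorem f290518 : Led Lsl_ft (LP (LK LD1_c16 LD2_c41 LD3_c11)) = (LP (LK LD1_c8 LD2_c55 LD3_c14)) :=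
  Lre_f IH (LK LD1_c16 LD2_c41 LD3_c11) (LK LD1_c8 LD2_c55 LD3_c14) Lrfl Lrfl
theorem f290487 : Led Lsl_at (LP (LK LD1_c8 LD2_c55 LD3_c14)) = (LP (LK LD1_c16 LD2_c41 LD3_c24)) :=
  Lre_a IH (LK LD1_c8 LD2_c55 LD3_c14) (LK LD1_c16 LD2_c41 LD3_c24) Lrfl Lrfl
theorem f384622 : Led Lsl_gf (LP (LK LD1_c16 LD2_c41 LD3_c24)) = (LP (LK LD1_c16 LD2_c37 LD3_c28)) :=
  Lgr Lrot76 (Lpe (f290487 IH) (Lpe (f290518 IH) (Lpr_gt (f384618 IH) (Lpn (LP (LK LD1_c16 LD2_c37 LD3_c28))))))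
theorem f290491 : Led Lsl_bt (LP (LK LD1_c26 LD2_c39 LD3_c57)) = (LP (LK LD1_c16 LD2_c41 LD3_c24)) :=
  Lre_b IH (LK LD1_c26 LD2_c39 LD3_c57) (LK LD1_c16 LD2_c41 LD3_c24) Lrfl Lrfl
theorem f261011 : Led Lsl_bt (LP (LK LD1_c8 LD2_c53 LD3_c28)) = (LP (LK LD1_c16 LD2_c37 LD3_c28)) :=
  Lre_b IH (LK LD1_c8 LD2_c53 LD3_c28) (LK LD1_c16 LD2_c37 LD3_c28) Lrfl Lrfl
theorem f278687 : Led Lsl_bt (LP (LK LD1_c16 LD2_c37 LD3_c37)) = (LP (LK LD1_c8 LD2_c53 LD3_c31)) :=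
  Lre_b IH (LK LD1_c16 LD2_c37 LD3_c37) (LK LD1_c8 LD2_c53 LD3_c31) Lrfl Lrfl
theorem f278688 : Led Lsl_ct (LP (LK LD1_c16 LD2_c37 LD3_c37)) = (LP (LK LD1_c26 LD2_c34 LD3_c59)) :=
  Lre_c IH (LK LD1_c16 LD2_c37 LD3_c37) (LK LD1_c26 LD2_c34 LD3_c59) Lrfl Lrfl
theorem f384626 : Led Lsl_gt (LP (LK LD1_c25 LD2_c37 LD3_c23)) = (LP (LK LD1_c26 LD2_c34 LD3_c59)) :=
  Lgr Lrot65 (Lpe (K17.f290515 IH) (Lpr_bt (f290491 IH) (Lpr_gf (f384622 IH) (Lpe (f261011 IH) (Lpr_ct (K15.f261013 IH) (Lpe (K16.f278884 IH) (Lpe (K16.f276583 IH) (Lpe (K16.f278681 IH) (Lpe (f278687 IH) (Lpr_ct (f278688 IH) (Lpn (LP (LK LD1_c26 LD2_c34 LD3_c59)))))))))))))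
theorem f290553 : Led Lsl_bt (LP (LK LD1_c15 LD2_c41 LD3_c48)) = (LP (LK LD1_c25 LD2_c37 LD3_c23)) :=
  Lre_b IH (LK LD1_c15 LD2_c41 LD3_c48) (LK LD1_c25 LD2_c37 LD3_c23) Lrfl Lrfl
theorem f140385 : Led Lsl_ct (LP (LK LD1_c7 LD2_c58 LD3_c35)) = (LP (LK LD1_c15 LD2_c2 LD3_c58)) :=
  Lre_c IH (LK LD1_c7 LD2_c58 LD3_c35) (LK LD1_c15 LD2_c2 LD3_c58) Lrfl Lrfl
theorem f200967 : Led Lsl_ct (LP (LK LD1_c25 LD2_c8 LD3_c34)) = (LP (LK LD1_c25 LD2_c8 LD3_c45)) :=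
  Lre_c IH (LK LD1_c25 LD2_c8 LD3_c34) (LK LD1_c25 LD2_c8 LD3_c45) Lrfl Lrfl
theorem f332575 : Led Lsl_bf (LP (LK LD1_c11 LD2_c10 LD3_c3)) = (LP (LK LD1_c8 LD2_c7 LD3_c28)) :=
  Lgr Lrot34 (Lpr_gf (K22.f319820 IH) (Lpr_bf (K22.f332569 IH) (Lpr_ct (K22.f220296 IH) (Lpe (K22.f220291 IH) (Lpr_cf (K18.f220275 IH) (Lpe (K22.f200970 IH) (Lpe (K22.f200964 IH) (Lpr_ct (f200967 IH) (Lpe (K22.f200949 IH) (Lpe (K22.f199605 IH) (Lpn (LP (LK LD1_c8 LD2_c7 LD3_c28)))))))))))))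
theorem f332585 : Led Lsl_et (LP (LK LD1_c11 LD2_c10 LD3_c3)) = (LP (LK LD1_c20 LD2_c4 LD3_c41)) :=
  Lre_e IH (LK LD1_c11 LD2_c10 LD3_c3) (LK LD1_c20 LD2_c4 LD3_c41) Lrfl Lrfl
theorem f332586 : Led Lsl_et (LP (LK LD1_c15 LD2_c17 LD3_c60)) = (LP (LK LD1_c8 LD2_c7 LD3_c28)) :=
  Lre_e IH (LK LD1_c15 LD2_c17 LD3_c60) (LK LD1_c8 LD2_c7 LD3_c28) Lrfl Lrfl
theorem f332587 : Led Lsl_bt (LP (LK LD1_c20 LD2_c4 LD3_c41)) = (LP (LK LD1_c15 LD2_c17 LD3_c60)) :=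
  Lgr Lrot119 (Lpe (f332585 IH) (Lpr_bf (f332575 IH) (Lpe (f332586 IH) (Lpn (LP (LK LD1_c15 LD2_c17 LD3_c60))))))
theorem f332594 : Led Lsl_dt (LP (LK LD1_c29 LD2_c17 LD3_c41)) = (LP (LK LD1_c20 LD2_c4 LD3_c41)) :=
  Lre_d IH (LK LD1_c29 LD2_c17 LD3_c41) (LK LD1_c20 LD2_c4 LD3_c41) Lrfl Lrfl
theorem f332595 : Led Lsl_dt (LP (LK LD1_c15 LD2_c17 LD3_c60)) = (LP (LK LD1_c25 LD2_c8 LD3_c51)) :=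
  Lre_d IH (LK LD1_c15 LD2_c17 LD3_c60) (LK LD1_c25 LD2_c8 LD3_c51) Lrfl Lrfl
theorem f332596 : Led Lsl_bf (LP (LK LD1_c29 LD2_c17 LD3_c41)) = (LP (LK LD1_c25 LD2_c8 LD3_c51)) :=
  Lgr Lrot93 (Lpr_dt (f332594 IH) (Lpr_bt (f332587 IH) (Lpr_dt (f332595 IH) (Lpn (LP (LK LD1_c25 LD2_c8 LD3_c51))))))
theorem f244243 : Led Lsl_et (LP (LK LD1_c29 LD2_c17 LD3_c41)) = (LP (LK LD1_c20 LD2_c4 LD3_c43)) :=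
  Lre_e IH (LK LD1_c29 LD2_c17 LD3_c41) (LK LD1_c20 LD2_c4 LD3_c43) Lrfl Lrfl
theorem f170795 : Led Lsl_gt (LP (LK LD1_c4 LD2_c52 LD3_c46)) = (LP (LK LD1_c9 LD2_c37 LD3_c32)) :=
  Lre_g IH (LK LD1_c4 LD2_c52 LD3_c46) (LK LD1_c9 LD2_c37 LD3_c32) Lrfl Lrfl
theorem f243926 : Led Lsl_ct (LP (LK LD1_c2 LD2_c45 LD3_c29)) = (LP (LK LD1_c2 LD2_c6 LD3_c59)) :=
  Lgr Lrot59 (Lpr_cf (K13.f243920 IH) (Lpn (LP (LK LD1_c2 LD2_c6 LD3_c59))))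
theorem f179470 : Led Lsl_ct (LP (LK LD1_c5 LD2_c39 LD3_c28)) = (LP (LK LD1_c2 LD2_c45 LD3_c41)) :=
  Lre_c IH (LK LD1_c5 LD2_c39 LD3_c28) (LK LD1_c2 LD2_c45 LD3_c41) Lrfl Lrfl
theorem f244197 : Led Lsl_bf (LP (LK LD1_c9 LD2_c37 LD3_c32)) = (LP (LK LD1_c5 LD2_c39 LD3_c28)) :=
  Lgr Lrot34 (Lpe (f170795 IH) (Lpe (K16.f170792 IH) (Lpr_ct (K13.f170701 IH) (Lpr_gf (K15.f243933 IH) (Lpe (f243926 IH) (Lpe (K13.f178082 IH) (Lpe (K19.f179421 IH) (Lpr_ct (K20.f179300 IH) (Lpe (K20.f178122 IH) (Lpe (f179470 IH) (Lpn (LP (LK LD1_c5 LD2_c39 LD3_c28)))))))))))))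
theorem f244204 : Led Lsl_et (LP (LK LD1_c9 LD2_c37 LD3_c32)) = (LP (LK LD1_c17 LD2_c43 LD3_c7)) :=
  Lre_e IH (LK LD1_c9 LD2_c37 LD3_c32) (LK LD1_c17 LD2_c43 LD3_c7) Lrfl Lrfl
theorem f244205 : Led Lsl_et (LP (LK LD1_c11 LD2_c10 LD3_c4)) = (LP (LK LD1_c5 LD2_c39 LD3_c28)) :=
  Lre_e IH (LK LD1_c11 LD2_c10 LD3_c4) (LK LD1_c5 LD2_c39 LD3_c28) Lrfl Lrfl
theorem f244206 : Led Lsl_bt (LP (LK LD1_c17 LD2_c43 LD3_c7)) = (LP (LK LD1_c11 LD2_c10 LD3_c4)) :=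
  Lgr Lrot119 (Lpe (f244204 IH) (Lpr_bf (f244197 IH) (Lpe (f244205 IH) (Lpn (LP (LK LD1_c11 LD2_c10 LD3_c4))))))
theorem f244216 : Led Lsl_dt (LP (LK LD1_c27 LD2_c30 LD3_c8)) = (LP (LK LD1_c17 LD2_c43 LD3_c7)) :=
  Lre_d IH (LK LD1_c27 LD2_c30 LD3_c8) (LK LD1_c17 LD2_c43 LD3_c7) Lrfl Lrfl
theorem f244217 : Led Lsl_dt (LP (LK LD1_c11 LD2_c10 LD3_c4)) = (LP (LK LD1_c20 LD2_c4 LD3_c43)) :=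
  Lre_d IH (LK LD1_c11 LD2_c10 LD3_c4) (LK LD1_c20 LD2_c4 LD3_c43) Lrfl Lrfl
theorem f244218 : Led Lsl_bf (LP (LK LD1_c27 LD2_c30 LD3_c8)) = (LP (LK LD1_c20 LD2_c4 LD3_c43)) :=
  Lgr Lrot93 (Lpr_dt (f244216 IH) (Lpr_bt (f244206 IH) (Lpr_dt (f244217 IH) (Lpn (LP (LK LD1_c20 LD2_c4 LD3_c43))))))
theorem f332609 : Led Lsl_et (LP (LK LD1_c27 LD2_c30 LD3_c8)) = (LP (LK LD1_c25 LD2_c8 LD3_c51)) :=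
  Lgr Lrot74 (Lpr_bf (f244218 IH) (Lpe (f244243 IH) (Lpr_bf (f332596 IH) (Lpn (LP (LK LD1_c25 LD2_c8 LD3_c51))))))
theorem f244245 : Led Lsl_dt (LP (LK LD1_c17 LD2_c43 LD3_c7)) = (LP (LK LD1_c27 LD2_c30 LD3_c8)) :=
  Lre_d IH (LK LD1_c17 LD2_c43 LD3_c7) (LK LD1_c27 LD2_c30 LD3_c8) Lrfl Lrfl
theorem f332611 : Led Lsl_dt (LP (LK LD1_c25 LD2_c8 LD3_c51)) = (LP (LK LD1_c15 LD2_c17 LD3_c60)) :=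
  Lre_d IH (LK LD1_c25 LD2_c8 LD3_c51) (LK LD1_c15 LD2_c17 LD3_c60) Lrfl Lrfl
theorem f332612 : Led Lsl_df (LP (LK LD1_c9 LD2_c37 LD3_c32)) = (LP (LK LD1_c8 LD2_c7 LD3_c28)) :=
  Lgr Lrot70 (Lpr_et (f244204 IH) (Lpr_dt (f244245 IH) (Lpr_et (f332609 IH) (Lpr_dt (f332611 IH) (Lpr_et (f332586 IH) (Lpn (LP (LK LD1_c8 LD2_c7 LD3_c28))))))))
theorem f170834 : Led Lsl_ct (LP (LK LD1_c9 LD2_c37 LD3_c32)) = (LP (LK LD1_c17 LD2_c43 LD3_c6)) :=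
  Lre_c IH (LK LD1_c9 LD2_c37 LD3_c32) (LK LD1_c17 LD2_c43 LD3_c6) Lrfl Lrfl
theorem f244201 : Led Lsl_bt (LP (LK LD1_c17 LD2_c43 LD3_c6)) = (LP (LK LD1_c11 LD2_c10 LD3_c0)) :=
  Lgr Lrot128 (Lpe (f170834 IH) (Lpr_bf (f244197 IH) (Lpe (K22.f179471 IH) (Lpe (K20.f178123 IH) (Lpe (K20.f178133 IH) (Lpn (LP (LK LD1_c11 LD2_c10 LD3_c0))))))))
theorem f170837 : Led Lsl_ct (LP (LK LD1_c17 LD2_c43 LD3_c6)) = (LP (LK LD1_c9 LD2_c37 LD3_c32)) :=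
  Lre_c IH (LK LD1_c17 LD2_c43 LD3_c6) (LK LD1_c9 LD2_c37 LD3_c32) Lrfl Lrfl
theorem f170700 : Led Lsl_bt (LP (LK LD1_c4 LD2_c10 LD3_c6)) = (LP (LK LD1_c8 LD2_c20 LD3_c25)) :=
  Lre_b IH (LK LD1_c4 LD2_c10 LD3_c6) (LK LD1_c8 LD2_c20 LD3_c25) Lrfl Lrfl
theorem f170702 : Led Lsl_bt (LP (LK LD1_c4 LD2_c52 LD3_c46)) = (LP (LK LD1_c2 LD2_c24 LD3_c7)) :=
  Lre_b IH (LK LD1_c4 LD2_c52 LD3_c46) (LK LD1_c2 LD2_c24 LD3_c7) Lrfl Lrfl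
theorem f170703 : Led Lsl_ct (LP (LK LD1_c8 LD2_c20 LD3_c25)) = (LP (LK LD1_c4 LD2_c52 LD3_c46)) :=
  Lgr Lrot83 (Lpe (f170700 IH) (Lpe (K12.f170699 IH) (Lpr_bf (K10.f170693 IH) (Lpe (K13.f170701 IH) (Lpe (f170702 IH) (Lpn (LP (LK LD1_c4 LD2_c52 LD3_c46))))))))
theorem f170790 : Led Lsl_bt (LP (LK LD1_c8 LD2_c20 LD3_c25)) = (LP (LK LD1_c4 LD2_c10 LD3_c6)) :=
  Lre_b IH (LK LD1_c8 LD2_c20 LD3_c25) (LK LD1_c4 LD2_c10 LD3_c6) Lrfl Lrfl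
theorem f178918 : Led Lsl_bt (LP (LK LD1_c5 LD2_c36 LD3_c31)) = (LP (LK LD1_c2 LD2_c44 LD3_c8)) :=
  Lre_b IH (LK LD1_c5 LD2_c36 LD3_c31) (LK LD1_c2 LD2_c44 LD3_c8) Lrfl Lrfl
theorem f178920 : Led Lsl_gt (LP (LK LD1_c5 LD2_c36 LD3_c38)) = (LP (LK LD1_c2 LD2_c44 LD3_c10)) :=
  Lre_g IH (LK LD1_c5 LD2_c36 LD3_c38) (LK LD1_c2 LD2_c44 LD3_c10) Lrfl Lrfl
theorem f178944 : Led Lsl_ct (LP (LK LD1_c11 LD2_c5 LD3_c23)) = (LP (LK LD1_c5 LD2_c36 LD3_c38)) :=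
  Lre_c IH (LK LD1_c11 LD2_c5 LD3_c23) (LK LD1_c5 LD2_c36 LD3_c38) Lrfl Lrfl
theorem f244284 : Led Lsl_gf (LP (LK LD1_c11 LD2_c5 LD3_c23)) = (LP (LK LD1_c11 LD2_c10 LD3_c0)) :=
  Lgr Lrot181 (Lpr_ct (f178944 IH) (Lpr_gt (f178920 IH) (Lpe (K20.f178099 IH) (Lpr_bt (f178918 IH) (Lpe (K12.f227982 IH) (Lpe (f170790 IH) (Lpr_ct (f170703 IH) (Lpr_gt (f170795 IH) (Lpe (f170837 IH) (Lpr_bt (f244201 IH) (Lpn (LP (LK LD1_c11 LD2_c10 LD3_c0)))))))))))))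
theorem f244286 : Led Lsl_dt (LP (LK LD1_c11 LD2_c5 LD3_c23)) = (LP (LK LD1_c19 LD2_c58 LD3_c30)) :=
  Lre_d IH (LK LD1_c11 LD2_c5 LD3_c23) (LK LD1_c19 LD2_c58 LD3_c30) Lrfl Lrfl
theorem f50802 : Led Lsl_bt (LP (LK LD1_c0 LD2_c25 LD3_c27)) = (LP (LK LD1_c0 LD2_c11 LD3_c22)) :=
  Lre_b IH (LK LD1_c0 LD2_c25 LD3_c27) (LK LD1_c0 LD2_c11 LD3_c22) Lrfl Lrfl
theorem f278714 : Led Lsl_bt (LP (LK LD1_c16 LD2_c8 LD3_c51)) = (LP (LK LD1_c8 LD2_c37 LD3_c12)) :=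
  Lre_b IH (LK LD1_c16 LD2_c8 LD3_c51) (LK LD1_c8 LD2_c37 LD3_c12) Lrfl Lrfl
theorem f332617 : Led Lsl_ct (LP (LK LD1_c19 LD2_c58 LD3_c30)) = (LP (LK LD1_c16 LD2_c8 LD3_c51)) :=
  Lgr Lrot191 (Lpe (f244286 IH) (Lpr_gf (f244284 IH) (Lpe (f244201 IH) (Lpe (f170834 IH) (Lpr_df (f332612 IH) (Lpe (K22.f199507 IH) (Lpe (K17.f200878 IH) (Lpe (K11.f28922 IH) (Lpe (K9.f28822 IH) (Lpe (K9.f28814 IH) (Lpe (f50802 IH) (Lpe (K9.f50128 IH) (Lpe (K12.f594 IH) (Lpe (K12.f651 IH) (Lpe (K14.f53419 IH) (Lpe (K14.f250497 IH) (Lpe (K16.f250496 IH) (Lpr_gf (K16.f278702 IH) (Lpe (f278714 IH) (Lpn (LP (LK LD1_c16 LD2_c8 LD3_c51))))))))))))))))))))))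
theorem f332622 : Led Lsl_cf (LP (LK LD1_c19 LD2_c58 LD3_c30)) = (LP (LK LD1_c16 LD2_c8 LD3_c51)) :=
  Lgr Lrot11 (Lpr_ct (f332617 IH) (Lpn (LP (LK LD1_c16 LD2_c8 LD3_c51))))
theorem f278697 : Led Lsl_bt (LP (LK LD1_c8 LD2_c37 LD3_c12)) = (LP (LK LD1_c16 LD2_c8 LD3_c51)) :=
  Lre_b IH (LK LD1_c8 LD2_c37 LD3_c12) (LK LD1_c16 LD2_c8 LD3_c51) Lrfl Lrfl
theorem f278696 : Led Lsl_ct (LP (LK LD1_c26 LD2_c34 LD3_c59)) = (LP (LK LD1_c16 LD2_c37 LD3_c37)) :=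
  Lre_c IH (LK LD1_c26 LD2_c34 LD3_c59) (LK LD1_c16 LD2_c37 LD3_c37) Lrfl Lrfl
theorem f332642 : Led Lsl_bt (LP (LK LD1_c19 LD2_c58 LD3_c30)) = (LP (LK LD1_c26 LD2_c34 LD3_c59)) :=
  Lgr Lrot128 (Lpr_cf (f332622 IH) (Lpe (f278697 IH) (Lpe (K16.f278685 IH) (Lpe (f278687 IH) (Lpe (f278696 IH) (Lpn (LP (LK LD1_c26 LD2_c34 LD3_c59))))))))
theorem f384632 : Led Lsl_gf (LP (LK LD1_c15 LD2_c2 LD3_c58)) = (LP (LK LD1_c16 LD2_c8 LD3_c51)) :=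
  Lgr Lrot126 (Lpe (f140385 IH) (Lpr_bt (K20.f173895 IH) (Lpr_gt (K16.f42711 IH) (Lpe (K17.f275415 IH) (Lpe (K17.f290567 IH) (Lpe (K16.f275453 IH) (Lpr_bt (f290553 IH) (Lpr_gt (f384626 IH) (Lpe (f332642 IH) (Lpr_ct (f332617 IH) (Lpn (LP (LK LD1_c16 LD2_c8 LD3_c51)))))))))))))
theorem f173894 : Led Lsl_gt (LP (LK LD1_c15 LD2_c2 LD3_c58)) = (LP (LK LD1_c24 LD2_c51 LD3_c55)) :=
  Lre_g IH (LK LD1_c15 LD2_c2 LD3_c58) (LK LD1_c24 LD2_c51 LD3_c55) Lrfl Lrfl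
theorem f179629 : Led Lsl_gt (LP (LK LD1_c8 LD2_c33 LD3_c53)) = (LP (LK LD1_c16 LD2_c4 LD3_c35)) :=
  Lre_g IH (LK LD1_c8 LD2_c33 LD3_c53) (LK LD1_c16 LD2_c4 LD3_c35) Lrfl Lrfl
theorem f179630 : Led Lsl_dt (LP (LK LD1_c16 LD2_c4 LD3_c35)) = (LP (LK LD1_c26 LD2_c1 LD3_c48)) :=
  Lre_d IH (LK LD1_c16 LD2_c4 LD3_c35) (LK LD1_c26 LD2_c1 LD3_c48) Lrfl Lrfl
theorem f382780 : Led Lsl_gt (LP (LK LD1_c26 LD2_c1 LD3_c48)) = (LP (LK LD1_c16 LD2_c41 LD3_c34)) :=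
  Lgr Lrot49 (Lpe (f179630 IH) (Lpe (f179629 IH) (Lpe (K27.f179675 IH) (Lpr_gt (K27.f179685 IH) (Lpr_dt (K27.f382764 IH) (Lpr_gt (K27.f381310 IH) (Lpe (K27.f382469 IH) (Lpe (K27.f221980 IH) (Lpr_df (K27.f382634 IH) (Lpn (LP (LK LD1_c16 LD2_c41 LD3_c34))))))))))))
theorem f380987 : Led Lsl_dt (LP (LK LD1_c26 LD2_c1 LD3_c48)) = (LP (LK LD1_c16 LD2_c4 LD3_c35)) :=
  Lre_d IH (LK LD1_c26 LD2_c1 LD3_c48) (LK LD1_c16 LD2_c4 LD3_c35) Lrfl Lrfl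
theorem f380984 : Led Lsl_gf (LP (LK LD1_c15 LD2_c42 LD3_c31)) = (LP (LK LD1_c16 LD2_c4 LD3_c35)) :=
  Lgr Lrot76 (Lpe (K27.f178804 IH) (Lpr_ff (K27.f380976 IH) (Lpr_gt (f179629 IH) (Lpn (LP (LK LD1_c16 LD2_c4 LD3_c35))))))
theorem f382692 : Led Lsl_ct (LP (LK LD1_c15 LD2_c42 LD3_c31)) = (LP (LK LD1_c11 LD2_c19 LD3_c19)) :=
  Lgr Lrot7 (Lpe (K27.f380988 IH) (Lpr_gf (K27.f382690 IH) (Lpe (K27.f221984 IH) (Lpe (K27.f221979 IH) (Lpr_cf (K27.f221977 IH) (Lpe (K20.f243714 IH) (Lpr_dt (K20.f179513 IH) (Lpr_gt (K27.f175123 IH) (Lpr_dt (K27.f243755 IH) (Lpn (LP (LK LD1_c11 LD2_c19 LD3_c19))))))))))))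
theorem f179713 : Led Lsl_ct (LP (LK LD1_c16 LD2_c7 LD3_c27)) = (LP (LK LD1_c26 LD2_c1 LD3_c24)) :=
  Lgr Lrot59 (Lpr_cf (K27.f179710 IH) (Lpn (LP (LK LD1_c26 LD2_c1 LD3_c24))))
theorem f382567 : Led Lsl_dt (LP (LK LD1_c8 LD2_c59 LD3_c1)) = (LP (LK LD1_c8 LD2_c56 LD3_c8)) :=
  Lgr Lrot44 (Lpr_af (K27.f382489 IH) (Lpe (K27.f225816 IH) (Lpe (K27.f225894 IH) (Lpn (LP (LK LD1_c8 LD2_c56 LD3_c8))))))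
theorem f225858 : Led Lsl_et (LP (LK LD1_c8 LD2_c53 LD3_c27)) = (LP (LK LD1_c16 LD2_c37 LD3_c29)) :=
  Lre_e IH (LK LD1_c8 LD2_c53 LD3_c27) (LK LD1_c16 LD2_c37 LD3_c29) Lrfl Lrfl
theorem f316621 : Led Lsl_ft (LP (LK LD1_c19 LD2_c31 LD3_c51)) = (LP (LK LD1_c10 LD2_c47 LD3_c48)) :=
  Lre_f IH (LK LD1_c19 LD2_c31 LD3_c51) (LK LD1_c10 LD2_c47 LD3_c48) Lrfl Lrfl
theorem f316622 : Led Lsl_et (LP (LK LD1_c10 LD2_c47 LD3_c48)) = (LP (LK LD1_c5 LD2_c28 LD3_c20)) :=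
  Lre_e IH (LK LD1_c10 LD2_c47 LD3_c48) (LK LD1_c5 LD2_c28 LD3_c20) Lrfl Lrfl
theorem f341242 : Led Lsl_ff (LP (LK LD1_c8 LD2_c53 LD3_c27)) = (LP (LK LD1_c5 LD2_c28 LD3_c20)) :=
  Lgr Lrot72 (Lpr_et (f225858 IH) (Lpr_ft (K27.f341238 IH) (Lpe (K27.f316607 IH) (Lpr_ft (f316621 IH) (Lpr_et (f316622 IH) (Lpn (LP (LK LD1_c5 LD2_c28 LD3_c20))))))))
theorem f178153 : Led Lsl_dt (LP (LK LD1_c5 LD2_c28 LD3_c20)) = (LP (LK LD1_c10 LD2_c47 LD3_c47)) :=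
  Lre_d IH (LK LD1_c5 LD2_c28 LD3_c20) (LK LD1_c10 LD2_c47 LD3_c47) Lrfl Lrfl
theorem f178165 : Led Lsl_ct (LP (LK LD1_c10 LD2_c47 LD3_c47)) = (LP (LK LD1_c19 LD2_c31 LD3_c46)) :=
  Lre_c IH (LK LD1_c10 LD2_c47 LD3_c47) (LK LD1_c19 LD2_c31 LD3_c46) Lrfl Lrfl
theorem f382728 : Led Lsl_df (LP (LK LD1_c26 LD2_c1 LD3_c24)) = (LP (LK LD1_c19 LD2_c31 LD3_c46)) :=
  Lgr Lrot106 (Lpe (K27.f179710 IH) (Lpr_dt (K27.f382715 IH) (Lpr_ct (K27.f382574 IH) (Lpr_dt (f382567 IH) (Lpr_ct (f225890 IH) (Lpe (K27.f225901 IH) (Lpr_ff (f341242 IH) (Lpr_dt (f178153 IH) (Lpr_ct (f178165 IH) (Lpn (LP (LK LD1_c19 LD2_c31 LD3_c46))))))))))))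
theorem f382731 : Led Lsl_dt (LP (LK LD1_c26 LD2_c1 LD3_c24)) = (LP (LK LD1_c19 LD2_c31 LD3_c46)) :=
  Lgr Lrot42 (Lpr_df (f382728 IH) (Lpn (LP (LK LD1_c19 LD2_c31 LD3_c46))))
theorem f384190 : Led Lsl_gf (LP (LK LD1_c10 LD2_c47 LD3_c47)) = (LP (LK LD1_c8 LD2_c55 LD3_c14)) :=
  Lgr Lrot104 (Lpr_ct (f178165 IH) (Lpe (f382731 IH) (Lpe (f179713 IH) (Lpr_gf (K27.f382713 IH) (Lpe (f382692 IH) (Lpr_gf (f380984 IH) (Lpe (f380987 IH) (Lpr_gt (f382780 IH) (Lpr_ct (K27.f290488 IH) (Lpn (LP (LK LD1_c8 LD2_c55 LD3_c14))))))))))))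
theorem f382659 : Led Lsl_ft (LP (LK LD1_c8 LD2_c55 LD3_c14)) = (LP (LK LD1_c16 LD2_c41 LD3_c11)) :=
  Lre_f IH (LK LD1_c8 LD2_c55 LD3_c14) (LK LD1_c16 LD2_c41 LD3_c11) Lrfl Lrfl
theorem f384194 : Led Lsl_gt (LP (LK LD1_c10 LD2_c47 LD3_c47)) = (LP (LK LD1_c8 LD2_c55 LD3_c9)) :=
  Lgr Lrot46 (Lpr_gf (f384190 IH) (Lpr_ft (f382659 IH) (Lpr_at (K27.f382660 IH) (Lpn (LP (LK LD1_c8 LD2_c55 LD3_c9))))))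
theorem f267502 : Led Lsl_ct (LP (LK LD1_c19 LD2_c31 LD3_c46)) = (LP (LK LD1_c10 LD2_c47 LD3_c47)) :=
  Lre_c IH (LK LD1_c19 LD2_c31 LD3_c46) (LK LD1_c10 LD2_c47 LD3_c47) Lrfl Lrfl
theorem f179723 : Led Lsl_bt (LP (LK LD1_c16 LD2_c4 LD3_c45)) = (LP (LK LD1_c8 LD2_c33 LD3_c61)) :=
  Lre_b IH (LK LD1_c16 LD2_c4 LD3_c45) (LK LD1_c8 LD2_c33 LD3_c61) Lrfl Lrfl
theorem f275439 : Led Lsl_ft (LP (LK LD1_c7 LD2_c58 LD3_c37)) = (LP (LK LD1_c8 LD2_c34 LD3_c0)) :=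
  Lgr Lrot4 (Lpr_cf (K16.f275429 IH) (Lpe (K12.f231128 IH) (Lpe (K18.f231156 IH) (Lpn (LP (LK LD1_c8 LD2_c34 LD3_c0))))))
theorem f276269 : Led Lsl_df (LP (LK LD1_c4 LD2_c27 LD3_c42)) = (LP (LK LD1_c8 LD2_c34 LD3_c0)) :=
  Lgr Lrot78 (Lpr_ft (K16.f276238 IH) (Lpe (K18.f261270 IH) (Lpr_ft (f275439 IH) (Lpn (LP (LK LD1_c8 LD2_c34 LD3_c0))))))
theorem f290824 : Led Lsl_gf (LP (LK LD1_c7 LD2_c58 LD3_c40)) = (LP (LK LD1_c8 LD2_c34 LD3_c0)) :=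
  Lgr Lrot147 (Lpe (K9.f41902 IH) (Lpr_gt (K17.f41924 IH) (Lpr_ct (K17.f290804 IH) (Lpe (K18.f218122 IH) (Lpe (K17.f171928 IH) (Lpe (K16.f278157 IH) (Lpe (K14.f226761 IH) (Lpe (K16.f276231 IH) (Lpr_df (f276269 IH) (Lpn (LP (LK LD1_c8 LD2_c34 LD3_c0))))))))))))
theorem f41912 : Led Lsl_bt (LP (LK LD1_c5 LD2_c21 LD3_c14)) = (LP (LK LD1_c10 LD2_c32 LD3_c41)) :=
  Lre_b IH (LK LD1_c5 LD2_c21 LD3_c14) (LK LD1_c10 LD2_c32 LD3_c41) Lrfl Lrfl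
theorem f41929 : Led Lsl_gt (LP (LK LD1_c10 LD2_c32 LD3_c41)) = (LP (LK LD1_c19 LD2_c5 LD3_c53)) :=
  Lre_g IH (LK LD1_c10 LD2_c32 LD3_c41) (LK LD1_c19 LD2_c5 LD3_c53) Lrfl Lrfl
theorem f384208 : Led Lsl_bt (LP (LK LD1_c19 LD2_c31 LD3_c46)) = (LP (LK LD1_c19 LD2_c5 LD3_c53)) :=
  Lgr Lrot92 (Lpr_ct (f267502 IH) (Lpr_gt (f384194 IH) (Lpe (K27.f344558 IH) (Lpr_bt (f179723 IH) (Lpr_gt (K23.f179722 IH) (Lpr_ct (K20.f179687 IH) (Lpe (f290824 IH) (Lpe (K9.f41914 IH) (Lpr_bt (f41912 IH) (Lpr_gt (f41929 IH) (Lpn (LP (LK LD1_c19 LD2_c5 LD3_c53)))))))))))))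
theorem f267510 : Led Lsl_bt (LP (LK LD1_c5 LD2_c28 LD3_c21)) = (LP (LK LD1_c10 LD2_c47 LD3_c47)) :=
  Lre_b IH (LK LD1_c5 LD2_c28 LD3_c21) (LK LD1_c10 LD2_c47 LD3_c47) Lrfl Lrfl
theorem f267487 : Led Lsl_bt (LP (LK LD1_c15 LD2_c48 LD3_c25)) = (LP (LK LD1_c8 LD2_c24 LD3_c27)) :=
  Lre_b IH (LK LD1_c15 LD2_c48 LD3_c25) (LK LD1_c8 LD2_c24 LD3_c27) Lrfl Lrfl
theorem f384216 : Led Lsl_cf (LP (LK LD1_c15 LD2_c48 LD3_c25)) = (LP (LK LD1_c19 LD2_c5 LD3_c53)) :=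
  Lgr Lrot97 (Lpr_bt (f267487 IH) (Lpe (K16.f267503 IH) (Lpr_bt (f267510 IH) (Lpr_ct (f178165 IH) (Lpr_bt (f384208 IH) (Lpn (LP (LK LD1_c19 LD2_c5 LD3_c53))))))))
theorem f384222 : Led Lsl_ct (LP (LK LD1_c15 LD2_c48 LD3_c25)) = (LP (LK LD1_c19 LD2_c5 LD3_c53)) :=
  Lgr Lrot59 (Lpr_cf (f384216 IH) (Lpn (LP (LK LD1_c19 LD2_c5 LD3_c53))))
theorem f278804 : Led Lsl_bt (LP (LK LD1_c8 LD2_c24 LD3_c11)) = (LP (LK LD1_c15 LD2_c47 LD3_c59)) :=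
  Lre_b IH (LK LD1_c8 LD2_c24 LD3_c11) (LK LD1_c15 LD2_c47 LD3_c59) Lrfl Lrfl
theorem f41945 : Led Lsl_ct (LP (LK LD1_c19 LD2_c5 LD3_c54)) = (LP (LK LD1_c10 LD2_c32 LD3_c41)) :=
  Lre_c IH (LK LD1_c19 LD2_c5 LD3_c54) (LK LD1_c10 LD2_c32 LD3_c41) Lrfl Lrfl
theorem f42797 : Led Lsl_df (LP (LK LD1_c19 LD2_c6 LD3_c9)) = (LP (LK LD1_c15 LD2_c1 LD3_c11)) :=
  Lgr Lrot38 (Lpr_dt (K12.f42762 IH) (Lpn (LP (LK LD1_c15 LD2_c1 LD3_c11))))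
theorem f173778 : Led Lsl_af (LP (LK LD1_c15 LD2_c1 LD3_c11)) = (LP (LK LD1_c19 LD2_c42 LD3_c39)) :=
  Lgr Lrot117 (Lpe (f42797 IH) (Lpr_at (K12.f42703 IH) (Lpr_dt (K12.f173776 IH) (Lpn (LP (LK LD1_c19 LD2_c42 LD3_c39))))))
theorem f173639 : Led Lsl_bt (LP (LK LD1_c10 LD2_c54 LD3_c36)) = (LP (LK LD1_c19 LD2_c42 LD3_c39)) :=
  Lre_b IH (LK LD1_c10 LD2_c54 LD3_c36) (LK LD1_c19 LD2_c42 LD3_c39) Lrfl Lrfl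
theorem f173827 : Led Lsl_bt (LP (LK LD1_c3 LD2_c58 LD3_c34)) = (LP (LK LD1_c5 LD2_c31 LD3_c30)) :=
  Lgr Lrot62 (Lpe (K12.f42704 IH) (Lpe (K12.f41134 IH) (Lpr_af (f173778 IH) (Lpe (f173639 IH) (Lpe (K12.f173826 IH) (Lpn (LP (LK LD1_c5 LD2_c31 LD3_c30))))))))
theorem f173829 : Led Lsl_bf (LP (LK LD1_c7 LD2_c58 LD3_c40)) = (LP (LK LD1_c10 LD2_c54 LD3_c39)) :=
  Lgr Lrot93 (Lpr_dt (K16.f41080 IH) (Lpr_bt (f173827 IH) (Lpr_dt (K12.f173694 IH) (Lpn (LP (LK LD1_c10 LD2_c54 LD3_c39))))))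
theorem f41913 : Led Lsl_ct (LP (LK LD1_c10 LD2_c32 LD3_c41)) = (LP (LK LD1_c19 LD2_c5 LD3_c54)) :=
  Lre_c IH (LK LD1_c10 LD2_c32 LD3_c41) (LK LD1_c19 LD2_c5 LD3_c54) Lrfl Lrfl
theorem f173883 : Led Lsl_bt (LP (LK LD1_c19 LD2_c5 LD3_c54)) = (LP (LK LD1_c19 LD2_c42 LD3_c44)) :=
  Lgr Lrot128 (Lpe (f41913 IH) (Lpe (f41912 IH) (Lpr_cf (K9.f41902 IH) (Lpr_bf (f173829 IH) (Lpe (K20.f173651 IH) (Lpn (LP (LK LD1_c19 LD2_c42 LD3_c44))))))))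
theorem f384224 : Led Lsl_gt (LP (LK LD1_c15 LD2_c47 LD3_c59)) = (LP (LK LD1_c19 LD2_c42 LD3_c44)) :=
  Lgr Lrot164 (Lpe (f278804 IH) (Lpr_ct (K17.f278767 IH) (Lpe (K16.f223377 IH) (Lpe (K16.f276458 IH) (Lpe (K17.f278812 IH) (Lpe (f267487 IH) (Lpr_ct (f384222 IH) (Lpe (f41929 IH) (Lpe (f41945 IH) (Lpr_bt (f173883 IH) (Lpn (LP (LK LD1_c19 LD2_c42 LD3_c44)))))))))))))
theorem f173890 : Led Lsl_at (LP (LK LD1_c15 LD2_c2 LD3_c58)) = (LP (LK LD1_c24 LD2_c51 LD3_c53)) :=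
  Lre_a IH (LK LD1_c15 LD2_c2 LD3_c58) (LK LD1_c24 LD2_c51 LD3_c53) Lrfl Lrfl
theorem f41937 : Led Lsl_ff (LP (LK LD1_c5 LD2_c21 LD3_c14)) = (LP (LK LD1_c7 LD2_c58 LD3_c38)) :=
  Lgr Lrot3 (Lpr_ft (K15.f41922 IH) (Lpn (LP (LK LD1_c7 LD2_c58 LD3_c38))))
theorem f41939 : Led Lsl_bt (LP (LK LD1_c15 LD2_c3 LD3_c1)) = (LP (LK LD1_c7 LD2_c58 LD3_c38)) :=
  Lre_b IH (LK LD1_c15 LD2_c3 LD3_c1) (LK LD1_c7 LD2_c58 LD3_c38) Lrfl Lrfl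
theorem f41940 : Led Lsl_ft (LP (LK LD1_c10 LD2_c32 LD3_c41)) = (LP (LK LD1_c15 LD2_c3 LD3_c1)) :=
  Lgr Lrot75 (Lpe (f41912 IH) (Lpr_ff (f41937 IH) (Lpe (f41939 IH) (Lpn (LP (LK LD1_c15 LD2_c3 LD3_c1))))))
theorem f41946 : Led Lsl_ct (LP (LK LD1_c15 LD2_c3 LD3_c1)) = (LP (LK LD1_c24 LD2_c51 LD3_c56)) :=
  Lre_c IH (LK LD1_c15 LD2_c3 LD3_c1) (LK LD1_c24 LD2_c51 LD3_c56) Lrfl Lrfl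
theorem f41947 : Led Lsl_ff (LP (LK LD1_c19 LD2_c5 LD3_c54)) = (LP (LK LD1_c24 LD2_c51 LD3_c56)) :=
  Lgr Lrot23 (Lpr_ct (f41945 IH) (Lpr_ft (f41940 IH) (Lpr_ct (f41946 IH) (Lpn (LP (LK LD1_c24 LD2_c51 LD3_c56))))))
theorem f41951 : Led Lsl_bt (LP (LK LD1_c15 LD2_c2 LD3_c58)) = (LP (LK LD1_c24 LD2_c51 LD3_c56)) :=
  Lre_b IH (LK LD1_c15 LD2_c2 LD3_c58) (LK LD1_c24 LD2_c51 LD3_c56) Lrfl Lrfl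
theorem f173888 : Led Lsl_ff (LP (LK LD1_c15 LD2_c2 LD3_c58)) = (LP (LK LD1_c19 LD2_c42 LD3_c44)) :=
  Lgr Lrot25 (Lpr_bt (f41951 IH) (Lpe (f41947 IH) (Lpr_bt (f173883 IH) (Lpn (LP (LK LD1_c19 LD2_c42 LD3_c44))))))
theorem f318969 : Led Lsl_at (LP (LK LD1_c25 LD2_c44 LD3_c20)) = (LP (LK LD1_c19 LD2_c42 LD3_c44)) :=
  Lgr Lrot66 (Lpr_ff (K20.f318967 IH) (Lpe (f173890 IH) (Lpr_ff (f173888 IH) (Lpn (LP (LK LD1_c19 LD2_c42 LD3_c44))))))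
theorem f384226 : Led Lsl_gf (LP (LK LD1_c15 LD2_c47 LD3_c59)) = (LP (LK LD1_c24 LD2_c51 LD3_c53)) :=
  Lgr Lrot47 (Lpr_gt (f384224 IH) (Lpe (f318969 IH) (Lpr_ff (K20.f318967 IH) (Lpn (LP (LK LD1_c24 LD2_c51 LD3_c53))))))
theorem f318497 : Led Lsl_gt (LP (LK LD1_c15 LD2_c3 LD3_c30)) = (LP (LK LD1_c24 LD2_c52 LD3_c41)) :=
  Lre_g IH (LK LD1_c15 LD2_c3 LD3_c30) (LK LD1_c24 LD2_c52 LD3_c41) Lrfl Lrfl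
theorem f318572 : Led Lsl_gf (LP (LK LD1_c15 LD2_c3 LD3_c38)) = (LP (LK LD1_c24 LD2_c52 LD3_c41)) :=
  Lgr Lrot76 (Lpr_af (K20.f318544 IH) (Lpr_ff (K20.f318504 IH) (Lpr_gt (f318497 IH) (Lpn (LP (LK LD1_c24 LD2_c52 LD3_c41))))))
theorem f226821 : Led Lsl_gt (LP (LK LD1_c5 LD2_c28 LD3_c48)) = (LP (LK LD1_c2 LD2_c40 LD3_c41)) :=
  Lre_g IH (LK LD1_c5 LD2_c28 LD3_c48) (LK LD1_c2 LD2_c40 LD3_c41) Lrfl Lrfl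
theorem f226822 : Led Lsl_ct (LP (LK LD1_c10 LD2_c48 LD3_c42)) = (LP (LK LD1_c5 LD2_c28 LD3_c48)) :=
  Lre_c IH (LK LD1_c10 LD2_c48 LD3_c42) (LK LD1_c5 LD2_c28 LD3_c48) Lrfl Lrfl
theorem f179858 : Led Lsl_gt (LP (LK LD1_c4 LD2_c30 LD3_c56)) = (LP (LK LD1_c2 LD2_c12 LD3_c23)) :=
  Lre_g IH (LK LD1_c4 LD2_c30 LD3_c56) (LK LD1_c2 LD2_c12 LD3_c23) Lrfl Lrfl
theorem f319145 : Led Lsl_ct (LP (LK LD1_c9 LD2_c0 LD3_c0)) = (LP (LK LD1_c4 LD2_c30 LD3_c56)) :=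
  Lre_c IH (LK LD1_c9 LD2_c0 LD3_c0) (LK LD1_c4 LD2_c30 LD3_c56) Lrfl Lrfl
theorem f314893 : Led Lsl_df (LP (LK LD1_c4 LD2_c4 LD3_c25)) = (LP (LK LD1_c4 LD2_c4 LD3_c9)) :=
  Lgr Lrot38 (Lpr_dt (K19.f314881 IH) (Lpn (LP (LK LD1_c4 LD2_c4 LD3_c9))))
theorem f53024 : Led Lsl_ct (LP (LK LD1_c8 LD2_c9 LD3_c1)) = (LP (LK LD1_c4 LD2_c4 LD3_c9)) :=
  Lre_c IH (LK LD1_c8 LD2_c9 LD3_c1) (LK LD1_c4 LD2_c4 LD3_c9) Lrfl Lrfl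
theorem f235763 : Led Lsl_gt (LP (LK LD1_c15 LD2_c20 LD3_c48)) = (LP (LK LD1_c8 LD2_c9 LD3_c1)) :=
  Lre_g IH (LK LD1_c15 LD2_c20 LD3_c48) (LK LD1_c8 LD2_c9 LD3_c1) Lrfl Lrfl
theorem f213411 : Led Lsl_ct (LP (LK LD1_c15 LD2_c19 LD3_c21)) = (LP (LK LD1_c15 LD2_c20 LD3_c48)) :=
  Lre_c IH (LK LD1_c15 LD2_c19 LD3_c21) (LK LD1_c15 LD2_c20 LD3_c48) Lrfl Lrfl
theorem f213410 : Led Lsl_gt (LP (LK LD1_c25 LD2_c5 LD3_c8)) = (LP (LK LD1_c15 LD2_c19 LD3_c21)) :=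
  Lre_g IH (LK LD1_c25 LD2_c5 LD3_c8) (LK LD1_c15 LD2_c19 LD3_c21) Lrfl Lrfl
theorem f173944 : Led Lsl_bt (LP (LK LD1_c1 LD2_c17 LD3_c2)) = (LP (LK LD1_c2 LD2_c40 LD3_c44)) :=
  Lre_b IH (LK LD1_c1 LD2_c17 LD3_c2) (LK LD1_c2 LD2_c40 LD3_c44) Lrfl Lrfl
theorem f173945 : Led Lsl_ct (LP (LK LD1_c2 LD2_c40 LD3_c44)) = (LP (LK LD1_c5 LD2_c28 LD3_c59)) :=
  Lre_c IH (LK LD1_c2 LD2_c40 LD3_c44) (LK LD1_c5 LD2_c28 LD3_c59) Lrfl Lrfl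
theorem f173948 : Led Lsl_bt (LP (LK LD1_c5 LD2_c28 LD3_c59)) = (LP (LK LD1_c4 LD2_c30 LD3_c53)) :=
  Lgr Lrot128 (Lpe (f173945 IH) (Lpe (f173944 IH) (Lpr_cf (K13.f173930 IH) (Lpe (K13.f173946 IH) (Lpe (K14.f173947 IH) (Lpn (LP (LK LD1_c4 LD2_c30 LD3_c53))))))))
theorem f172864 : Led Lsl_ct (LP (LK LD1_c5 LD2_c28 LD3_c59)) = (LP (LK LD1_c2 LD2_c40 LD3_c44)) :=
  Lre_c IH (LK LD1_c5 LD2_c28 LD3_c59) (LK LD1_c2 LD2_c40 LD3_c44) Lrfl Lrfl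
theorem f173995 : Led Lsl_gt (LP (LK LD1_c5 LD2_c28 LD3_c57)) = (LP (LK LD1_c2 LD2_c40 LD3_c44)) :=
  Lre_g IH (LK LD1_c5 LD2_c28 LD3_c57) (LK LD1_c2 LD2_c40 LD3_c44) Lrfl Lrfl
theorem f173996 : Led Lsl_ct (LP (LK LD1_c10 LD2_c49 LD3_c1)) = (LP (LK LD1_c5 LD2_c28 LD3_c57)) :=
  Lre_c IH (LK LD1_c10 LD2_c49 LD3_c1) (LK LD1_c5 LD2_c28 LD3_c57) Lrfl Lrfl
theorem f196625 : Led Lsl_gt (LP (LK LD1_c10 LD2_c35 LD3_c22)) = (LP (LK LD1_c19 LD2_c10 LD3_c49)) :=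
  Lre_g IH (LK LD1_c10 LD2_c35 LD3_c22) (LK LD1_c19 LD2_c10 LD3_c49) Lrfl Lrfl
theorem f235751 : Led Lsl_bt (LP (LK LD1_c10 LD2_c49 LD3_c1)) = (LP (LK LD1_c19 LD2_c10 LD3_c49)) :=
  Lgr Lrot92 (Lpr_ct (f173996 IH) (Lpr_gt (f173995 IH) (Lpe (f172864 IH) (Lpr_bt (f173948 IH) (Lpr_gt (K13.f235669 IH) (Lpr_ct (K13.f196600 IH) (Lpr_gt (K12.f196596 IH) (Lpe (K13.f196623 IH) (Lpr_bt (K18.f196624 IH) (Lpr_gt (f196625 IH) (Lpn (LP (LK LD1_c19 LD2_c10 LD3_c49)))))))))))))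
theorem f174009 : Led Lsl_ct (LP (LK LD1_c5 LD2_c28 LD3_c57)) = (LP (LK LD1_c10 LD2_c49 LD3_c1)) :=
  Lre_c IH (LK LD1_c5 LD2_c28 LD3_c57) (LK LD1_c10 LD2_c49 LD3_c1) Lrfl Lrfl
theorem f174000 : Led Lsl_bt (LP (LK LD1_c10 LD2_c49 LD3_c0)) = (LP (LK LD1_c5 LD2_c28 LD3_c57)) :=
  Lre_b IH (LK LD1_c10 LD2_c49 LD3_c0) (LK LD1_c5 LD2_c28 LD3_c57) Lrfl Lrfl
theorem f167850 : Led Lsl_gt (LP (LK LD1_c2 LD2_c12 LD3_c23)) = (LP (LK LD1_c4 LD2_c30 LD3_c55)) :=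
  Lre_g IH (LK LD1_c2 LD2_c12 LD3_c23) (LK LD1_c4 LD2_c30 LD3_c55) Lrfl Lrfl
theorem f174001 : Led Lsl_ct (LP (LK LD1_c4 LD2_c30 LD3_c55)) = (LP (LK LD1_c8 LD2_c59 LD3_c59)) :=
  Lre_c IH (LK LD1_c4 LD2_c30 LD3_c55) (LK LD1_c8 LD2_c59 LD3_c59) Lrfl Lrfl
theorem f174002 : Led Lsl_gt (LP (LK LD1_c8 LD2_c59 LD3_c59)) = (LP (LK LD1_c16 LD2_c49 LD3_c19)) :=
  Lre_g IH (LK LD1_c8 LD2_c59 LD3_c59) (LK LD1_c16 LD2_c49 LD3_c19) Lrfl Lrfl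
theorem f174003 : Led Lsl_ct (LP (LK LD1_c10 LD2_c49 LD3_c0)) = (LP (LK LD1_c16 LD2_c49 LD3_c19)) :=
  Lgr Lrot63 (Lpr_bt (f174000 IH) (Lpr_gt (f173995 IH) (Lpe (f173944 IH) (Lpr_ct (K12.f173928 IH) (Lpr_gt (K12.f167907 IH) (Lpe (K12.f167838 IH) (Lpr_bt (K20.f167849 IH) (Lpr_gt (f167850 IH) (Lpr_ct (f174001 IH) (Lpr_gt (f174002 IH) (Lpn (LP (LK LD1_c16 LD2_c49 LD3_c19)))))))))))))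
theorem f174006 : Led Lsl_cf (LP (LK LD1_c10 LD2_c49 LD3_c0)) = (LP (LK LD1_c16 LD2_c49 LD3_c19)) :=
  Lgr Lrot11 (Lpr_ct (f174003 IH) (Lpn (LP (LK LD1_c16 LD2_c49 LD3_c19))))
theorem f227114 : Led Lsl_gt (LP (LK LD1_c15 LD2_c19 LD3_c22)) = (LP (LK LD1_c15 LD2_c21 LD3_c17)) :=
  Lre_g IH (LK LD1_c15 LD2_c19 LD3_c22) (LK LD1_c15 LD2_c21 LD3_c17) Lrfl Lrfl
theorem f217367 : Led Lsl_ct (LP (LK LD1_c15 LD2_c21 LD3_c17)) = (LP (LK LD1_c8 LD2_c9 LD3_c12)) :=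
  Lre_c IH (LK LD1_c15 LD2_c21 LD3_c17) (LK LD1_c8 LD2_c9 LD3_c12) Lrfl Lrfl
theorem f227115 : Led Lsl_dt (LP (LK LD1_c15 LD2_c21 LD3_c18)) = (LP (LK LD1_c8 LD2_c9 LD3_c12)) :=
  Lre_d IH (LK LD1_c15 LD2_c21 LD3_c18) (LK LD1_c8 LD2_c9 LD3_c12) Lrfl Lrfl
theorem f218876 : Led Lsl_gt (LP (LK LD1_c4 LD2_c3 LD3_c46)) = (LP (LK LD1_c8 LD2_c7 LD3_c56)) :=
  Lre_g IH (LK LD1_c4 LD2_c3 LD3_c46) (LK LD1_c8 LD2_c7 LD3_c56) Lrfl Lrfl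
theorem f227116 : Led Lsl_ct (LP (LK LD1_c8 LD2_c7 LD3_c56)) = (LP (LK LD1_c15 LD2_c18 LD3_c43)) :=
  Lre_c IH (LK LD1_c8 LD2_c7 LD3_c56) (LK LD1_c15 LD2_c18 LD3_c43) Lrfl Lrfl
theorem f227117 : Led Lsl_gt (LP (LK LD1_c15 LD2_c18 LD3_c43)) = (LP (LK LD1_c25 LD2_c9 LD3_c31)) :=
  Lre_g IH (LK LD1_c15 LD2_c18 LD3_c43) (LK LD1_c25 LD2_c9 LD3_c31) Lrfl Lrfl
theorem f227118 : Led Lsl_cf (LP (LK LD1_c15 LD2_c21 LD3_c18)) = (LP (LK LD1_c25 LD2_c9 LD3_c31)) :=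
  Lgr Lrot175 (Lpr_dt (f227115 IH) (Lpe (f217367 IH) (Lpe (f227114 IH) (Lpe (K20.f227113 IH) (Lpe (K20.f211282 IH) (Lpr_dt (K17.f226978 IH) (Lpr_gt (f218876 IH) (Lpr_ct (f227116 IH) (Lpr_gt (f227117 IH) (Lpn (LP (LK LD1_c25 LD2_c9 LD3_c31))))))))))))
theorem f227125 : Led Lsl_ct (LP (LK LD1_c15 LD2_c21 LD3_c18)) = (LP (LK LD1_c25 LD2_c9 LD3_c31)) :=
  Lgr Lrot59 (Lpr_cf (f227118 IH) (Lpn (LP (LK LD1_c25 LD2_c9 LD3_c31))))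
theorem f227124 : Led Lsl_bt (LP (LK LD1_c15 LD2_c21 LD3_c18)) = (LP (LK LD1_c8 LD2_c9 LD3_c14)) :=
  Lre_b IH (LK LD1_c15 LD2_c21 LD3_c18) (LK LD1_c8 LD2_c9 LD3_c14) Lrfl Lrfl
theorem f227139 : Led Lsl_gt (LP (LK LD1_c8 LD2_c9 LD3_c14)) = (LP (LK LD1_c8 LD2_c7 LD3_c21)) :=
  Lgr Lrot164 (Lpe (f227124 IH) (Lpr_ct (f227125 IH) (Lpe (f227117 IH) (Lpe (f227116 IH) (Lpe (f218876 IH) (Lpe (K17.f218875 IH) (Lpr_ct (K11.f200803 IH) (Lpr_gf (K12.f226899 IH) (Lpe (K12.f28836 IH) (Lpr_bt (K18.f28837 IH) (Lpn (LP (LK LD1_c8 LD2_c7 LD3_c21)))))))))))))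
theorem f52512 : Led Lsl_dt (LP (LK LD1_c8 LD2_c9 LD3_c14)) = (LP (LK LD1_c4 LD2_c4 LD3_c12)) :=
  Lre_d IH (LK LD1_c8 LD2_c9 LD3_c14) (LK LD1_c4 LD2_c4 LD3_c12) Lrfl Lrfl
theorem f51358 : Led Lsl_ct (LP (LK LD1_c1 LD2_c59 LD3_c2)) = (LP (LK LD1_c4 LD2_c2 LD3_c53)) :=
  Lre_c IH (LK LD1_c1 LD2_c59 LD3_c2) (LK LD1_c4 LD2_c2 LD3_c53) Lrfl Lrfl
theorem f196396 : Led Lsl_ct (LP (LK LD1_c8 LD2_c6 LD3_c20)) = (LP (LK LD1_c15 LD2_c15 LD3_c41)) :=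
  Lre_c IH (LK LD1_c8 LD2_c6 LD3_c20) (LK LD1_c15 LD2_c15 LD3_c41) Lrfl Lrfl
theorem f227141 : Led Lsl_dt (LP (LK LD1_c15 LD2_c15 LD3_c41)) = (LP (LK LD1_c25 LD2_c5 LD3_c9)) :=
  Lre_d IH (LK LD1_c15 LD2_c15 LD3_c41) (LK LD1_c25 LD2_c5 LD3_c9) Lrfl Lrfl
theorem f227142 : Led Lsl_cf (LP (LK LD1_c25 LD2_c5 LD3_c9)) = (LP (LK LD1_c19 LD2_c10 LD3_c49)) :=
  Lgr Lrot99 (Lpe (f227141 IH) (Lpe (f196396 IH) (Lpe (K16.f50287 IH) (Lpe (f51358 IH) (Lpe (K13.f196464 IH) (Lpe (f52512 IH) (Lpr_gt (f227139 IH) (Lpe (K18.f196674 IH) (Lpr_gt (f196625 IH) (Lpn (LP (LK LD1_c19 LD2_c10 LD3_c49))))))))))))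
theorem f235755 : Led Lsl_bf (LP (LK LD1_c16 LD2_c49 LD3_c19)) = (LP (LK LD1_c25 LD2_c5 LD3_c9)) :=
  Lgr Lrot90 (Lpe (f174006 IH) (Lpr_bt (f174000 IH) (Lpr_ct (f174009 IH) (Lpr_bt (f235751 IH) (Lpe (f227142 IH) (Lpn (LP (LK LD1_c25 LD2_c5 LD3_c9))))))))
theorem f213391 : Led Lsl_bt (LP (LK LD1_c25 LD2_c5 LD3_c8)) = (LP (LK LD1_c15 LD2_c15 LD3_c41)) :=
  Lre_b IH (LK LD1_c25 LD2_c5 LD3_c8) (LK LD1_c15 LD2_c15 LD3_c41) Lrfl Lrfl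
theorem f235759 : Led Lsl_dt (LP (LK LD1_c16 LD2_c49 LD3_c19)) = (LP (LK LD1_c25 LD2_c5 LD3_c8)) :=
  Lgr Lrot79 (Lpr_bf (f235755 IH) (Lpe (f227141 IH) (Lpe (f213391 IH) (Lpn (LP (LK LD1_c25 LD2_c5 LD3_c8))))))
theorem f319146 : Led Lsl_gf (LP (LK LD1_c9 LD2_c0 LD3_c0)) = (LP (LK LD1_c16 LD2_c49 LD3_c19)) :=
  Lgr Lrot147 (Lpr_ct (f319145 IH) (Lpr_gt (f179858 IH) (Lpr_ct (K20.f319135 IH) (Lpr_df (f314893 IH) (Lpe (f53024 IH) (Lpe (f235763 IH) (Lpe (f213411 IH) (Lpe (f213410 IH) (Lpe (f235759 IH) (Lpn (LP (LK LD1_c16 LD2_c49 LD3_c19))))))))))))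
theorem f227150 : Led Lsl_ct (LP (LK LD1_c25 LD2_c5 LD3_c9)) = (LP (LK LD1_c19 LD2_c10 LD3_c49)) :=
  Lgr Lrot59 (Lpr_cf (f227142 IH) (Lpn (LP (LK LD1_c19 LD2_c10 LD3_c49))))
theorem f319221 : Led Lsl_bf (LP (LK LD1_c9 LD2_c0 LD3_c0)) = (LP (LK LD1_c8 LD2_c7 LD3_c56)) :=
  Lgr Lrot34 (Lpr_gf (f319146 IH) (Lpr_bf (f235755 IH) (Lpr_ct (f227150 IH) (Lpe (f196625 IH) (Lpr_cf (K18.f196674 IH) (Lpe (f227139 IH) (Lpe (f227124 IH) (Lpr_ct (f227125 IH) (Lpe (f227117 IH) (Lpe (f227116 IH) (Lpn (LP (LK LD1_c8 LD2_c7 LD3_c56)))))))))))))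
theorem f319229 : Led Lsl_et (LP (LK LD1_c9 LD2_c0 LD3_c0)) = (LP (LK LD1_c16 LD2_c49 LD3_c29)) :=
  Lre_e IH (LK LD1_c9 LD2_c0 LD3_c0) (LK LD1_c16 LD2_c49 LD3_c29) Lrfl Lrfl
theorem f319230 : Led Lsl_et (LP (LK LD1_c15 LD2_c18 LD3_c44)) = (LP (LK LD1_c8 LD2_c7 LD3_c56)) :=
  Lre_e IH (LK LD1_c15 LD2_c18 LD3_c44) (LK LD1_c8 LD2_c7 LD3_c56) Lrfl Lrfl
theorem f319231 : Led Lsl_bt (LP (LK LD1_c16 LD2_c49 LD3_c29)) = (LP (LK LD1_c15 LD2_c18 LD3_c44)) :=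
  Lgr Lrot119 (Lpe (f319229 IH) (Lpr_bf (f319221 IH) (Lpe (f319230 IH) (Lpn (LP (LK LD1_c15 LD2_c18 LD3_c44))))))
theorem f319237 : Led Lsl_ct (LP (LK LD1_c9 LD2_c0 LD3_c1)) = (LP (LK LD1_c16 LD2_c49 LD3_c29)) :=
  Lre_c IH (LK LD1_c9 LD2_c0 LD3_c1) (LK LD1_c16 LD2_c49 LD3_c29) Lrfl Lrfl
theorem f319238 : Led Lsl_bt (LP (LK LD1_c16 LD2_c49 LD3_c28)) = (LP (LK LD1_c9 LD2_c0 LD3_c1)) :=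
  Lre_b IH (LK LD1_c16 LD2_c49 LD3_c28) (LK LD1_c9 LD2_c0 LD3_c1) Lrfl Lrfl
theorem f319239 : Led Lsl_ct (LP (LK LD1_c26 LD2_c46 LD3_c51)) = (LP (LK LD1_c16 LD2_c49 LD3_c28)) :=
  Lre_c IH (LK LD1_c26 LD2_c46 LD3_c51) (LK LD1_c16 LD2_c49 LD3_c28) Lrfl Lrfl
theorem f319240 : Led Lsl_ct (LP (LK LD1_c15 LD2_c18 LD3_c44)) = (LP (LK LD1_c25 LD2_c9 LD3_c34)) :=
  Lre_c IH (LK LD1_c15 LD2_c18 LD3_c44) (LK LD1_c25 LD2_c9 LD3_c34) Lrfl Lrfl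
theorem f319241 : Led Lsl_bf (LP (LK LD1_c26 LD2_c46 LD3_c51)) = (LP (LK LD1_c25 LD2_c9 LD3_c34)) :=
  Lgr Lrot90 (Lpr_ct (f319239 IH) (Lpr_bt (f319238 IH) (Lpr_ct (f319237 IH) (Lpr_bt (f319231 IH) (Lpr_ct (f319240 IH) (Lpn (LP (LK LD1_c25 LD2_c9 LD3_c34))))))))
theorem f319256 : Led Lsl_bt (LP (LK LD1_c26 LD2_c46 LD3_c51)) = (LP (LK LD1_c25 LD2_c9 LD3_c34)) :=
  Lgr Lrot127 (Lpr_bf (f319241 IH) (Lpn (LP (LK LD1_c25 LD2_c9 LD3_c34))))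
theorem f319263 : Led Lsl_et (LP (LK LD1_c16 LD2_c49 LD3_c27)) = (LP (LK LD1_c26 LD2_c46 LD3_c51)) :=
  Lre_e IH (LK LD1_c16 LD2_c49 LD3_c27) (LK LD1_c26 LD2_c46 LD3_c51) Lrfl Lrfl
theorem f319264 : Led Lsl_et (LP (LK LD1_c25 LD2_c9 LD3_c34)) = (LP (LK LD1_c15 LD2_c18 LD3_c43)) :=
  Lre_e IH (LK LD1_c25 LD2_c9 LD3_c34) (LK LD1_c15 LD2_c18 LD3_c43) Lrfl Lrfl
theorem f319265 : Led Lsl_bf (LP (LK LD1_c16 LD2_c49 LD3_c27)) = (LP (LK LD1_c15 LD2_c18 LD3_c43)) :=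
  Lgr Lrot96 (Lpr_et (f319263 IH) (Lpr_bt (f319256 IH) (Lpr_et (f319264 IH) (Lpn (LP (LK LD1_c15 LD2_c18 LD3_c43))))))
theorem f226828 : Led Lsl_ct (LP (LK LD1_c15 LD2_c18 LD3_c43)) = (LP (LK LD1_c8 LD2_c7 LD3_c56)) :=
  Lre_c IH (LK LD1_c15 LD2_c18 LD3_c43) (LK LD1_c8 LD2_c7 LD3_c56) Lrfl Lrfl
theorem f226827 : Led Lsl_ct (LP (LK LD1_c8 LD2_c7 LD3_c49)) = (LP (LK LD1_c4 LD2_c3 LD3_c46)) :=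
  Lre_c IH (LK LD1_c8 LD2_c7 LD3_c49) (LK LD1_c4 LD2_c3 LD3_c46) Lrfl Lrfl
theorem f226826 : Led Lsl_bt (LP (LK LD1_c8 LD2_c7 LD3_c49)) = (LP (LK LD1_c4 LD2_c3 LD3_c40)) :=
  Lre_b IH (LK LD1_c8 LD2_c7 LD3_c49) (LK LD1_c4 LD2_c3 LD3_c40) Lrfl Lrfl
theorem f319271 : Led Lsl_gt (LP (LK LD1_c16 LD2_c49 LD3_c27)) = (LP (LK LD1_c10 LD2_c48 LD3_c42)) :=
  Lgr Lrot82 (Lpr_bf (f319265 IH) (Lpr_ct (f226828 IH) (Lpe (f218876 IH) (Lpe (f226827 IH) (Lpr_bt (f226826 IH) (Lpe (K13.f226786 IH) (Lpr_bf (K14.f226764 IH) (Lpr_ct (K27.f226820 IH) (Lpe (f226821 IH) (Lpe (f226822 IH) (Lpn (LP (LK LD1_c10 LD2_c48 LD3_c42)))))))))))))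
theorem f380910 : Led Lsl_dt (LP (LK LD1_c24 LD2_c52 LD3_c41)) = (LP (LK LD1_c16 LD2_c49 LD3_c27)) :=
  Lgr Lrot6 (Lpe (f318572 IH) (Lpr_ct (K27.f275504 IH) (Lpr_gt (K27.f380884 IH) (Lpr_ct (K19.f253849 IH) (Lpe (K19.f253813 IH) (Lpe (K14.f226763 IH) (Lpe (f226821 IH) (Lpe (f226822 IH) (Lpe (f319271 IH) (Lpn (LP (LK LD1_c16 LD2_c49 LD3_c27))))))))))))
theorem f318458 : Led Lsl_ct (LP (LK LD1_c15 LD2_c3 LD3_c30)) = (LP (LK LD1_c24 LD2_c52 LD3_c43)) :=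
  Lre_c IH (LK LD1_c15 LD2_c3 LD3_c30) (LK LD1_c24 LD2_c52 LD3_c43) Lrfl Lrfl
theorem f318562 : Led Lsl_ff (LP (LK LD1_c25 LD2_c44 LD3_c22)) = (LP (LK LD1_c24 LD2_c52 LD3_c43)) :=
  Lgr Lrot3 (Lpr_ft (K20.f318556 IH) (Lpn (LP (LK LD1_c24 LD2_c52 LD3_c43))))
theorem f219396 : Led Lsl_gt (LP (LK LD1_c25 LD2_c44 LD3_c24)) = (LP (LK LD1_c15 LD2_c47 LD3_c39)) :=
  Lre_g IH (LK LD1_c25 LD2_c44 LD3_c24) (LK LD1_c15 LD2_c47 LD3_c39) Lrfl Lrfl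
theorem f318568 : Led Lsl_gf (LP (LK LD1_c25 LD2_c44 LD3_c24)) = (LP (LK LD1_c24 LD2_c52 LD3_c43)) :=
  Lgr Lrot47 (Lpr_gt (f219396 IH) (Lpe (K20.f219557 IH) (Lpr_ff (f318562 IH) (Lpn (LP (LK LD1_c24 LD2_c52 LD3_c43))))))
theorem f318560 : Led Lsl_df (LP (LK LD1_c15 LD2_c24 LD3_c7)) = (LP (LK LD1_c24 LD2_c52 LD3_c43)) :=
  Lgr Lrot78 (Lpr_ft (K20.f219560 IH) (Lpr_dt (K20.f219564 IH) (Lpr_ft (K20.f318556 IH) (Lpn (LP (LK LD1_c24 LD2_c52 LD3_c43))))))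
theorem f219569 : Led Lsl_gt (LP (LK LD1_c15 LD2_c24 LD3_c7)) = (LP (LK LD1_c15 LD2_c47 LD3_c37)) :=
  Lgr Lrot5 (Lpr_ft (K20.f219560 IH) (Lpr_at (K20.f219559 IH) (Lpe (K20.f219568 IH) (Lpn (LP (LK LD1_c15 LD2_c47 LD3_c37))))))
theorem f173900 : Led Lsl_dt (LP (LK LD1_c15 LD2_c2 LD3_c50)) = (LP (LK LD1_c7 LD2_c58 LD3_c32)) :=
  Lre_d IH (LK LD1_c15 LD2_c2 LD3_c50) (LK LD1_c7 LD2_c58 LD3_c32) Lrfl Lrfl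
theorem f380888 : Led Lsl_gf (LP (LK LD1_c15 LD2_c2 LD3_c50)) = (LP (LK LD1_c10 LD2_c48 LD3_c48)) :=
  Lgr Lrot144 (Lpr_dt (f173900 IH) (Lpr_gt (K12.f173898 IH) (Lpr_dt (K12.f173637 IH) (Lpe (K20.f318959 IH) (Lpe (K20.f219571 IH) (Lpe (f219569 IH) (Lpr_df (f318560 IH) (Lpr_gf (K27.f380880 IH) (Lpe (K27.f253814 IH) (Lpn (LP (LK LD1_c10 LD2_c48 LD3_c48))))))))))))
theorem f380890 : Led Lsl_gt (LP (LK LD1_c15 LD2_c2 LD3_c50)) = (LP (LK LD1_c19 LD2_c58 LD3_c1)) :=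
  Lgr Lrot46 (Lpr_gf (f380888 IH) (Lpr_ft (K19.f253825 IH) (Lpr_at (K20.f253845 IH) (Lpn (LP (LK LD1_c19 LD2_c58 LD3_c1))))))
theorem f380895 : Led Lsl_cf (LP (LK LD1_c25 LD2_c44 LD3_c24)) = (LP (LK LD1_c19 LD2_c58 LD3_c1)) :=
  Lgr Lrot169 (Lpr_gt (f219396 IH) (Lpe (K20.f275498 IH) (Lpe (K20.f174026 IH) (Lpe (K20.f174025 IH) (Lpr_gf (K16.f174020 IH) (Lpe (K16.f173631 IH) (Lpe (K12.f173898 IH) (Lpe (f173900 IH) (Lpr_gt (f380890 IH) (Lpn (LP (LK LD1_c19 LD2_c58 LD3_c1))))))))))))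
theorem f178934 : Led Lsl_dt (LP (LK LD1_c11 LD2_c5 LD3_c9)) = (LP (LK LD1_c19 LD2_c58 LD3_c1)) :=
  Lre_d IH (LK LD1_c11 LD2_c5 LD3_c9) (LK LD1_c19 LD2_c58 LD3_c1) Lrfl Lrfl
theorem f178933 : Led Lsl_ct (LP (LK LD1_c5 LD2_c36 LD3_c39)) = (LP (LK LD1_c11 LD2_c5 LD3_c9)) :=
  Lre_c IH (LK LD1_c5 LD2_c36 LD3_c39) (LK LD1_c11 LD2_c5 LD3_c9) Lrfl Lrfl
theorem f178906 : Led Lsl_at (LP (LK LD1_c2 LD2_c44 LD3_c10)) = (LP (LK LD1_c5 LD2_c36 LD3_c39)) :=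
  Lre_a IH (LK LD1_c2 LD2_c44 LD3_c10) (LK LD1_c5 LD2_c36 LD3_c39) Lrfl Lrfl
theorem f178908 : Led Lsl_dt (LP (LK LD1_c5 LD2_c36 LD3_c39)) = (LP (LK LD1_c10 LD2_c55 LD3_c21)) :=
  Lgr Lrot44 (Lpe (f178906 IH) (Lpr_df (K20.f178899 IH) (Lpe (K20.f178907 IH) (Lpn (LP (LK LD1_c10 LD2_c55 LD3_c21))))))
theorem f178924 : Led Lsl_df (LP (LK LD1_c5 LD2_c36 LD3_c39)) = (LP (LK LD1_c10 LD2_c55 LD3_c21)) :=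
  Lgr Lrot38 (Lpr_dt (f178908 IH) (Lpn (LP (LK LD1_c10 LD2_c55 LD3_c21))))
theorem f289537 : Led Lsl_ff (LP (LK LD1_c10 LD2_c48 LD3_c44)) = (LP (LK LD1_c10 LD2_c55 LD3_c21)) :=
  Lgr Lrot3 (Lpr_ft (K20.f289531 IH) (Lpn (LP (LK LD1_c10 LD2_c55 LD3_c21))))
theorem f289539 : Led Lsl_at (LP (LK LD1_c10 LD2_c48 LD3_c44)) = (LP (LK LD1_c5 LD2_c28 LD3_c51)) :=
  Lre_a IH (LK LD1_c10 LD2_c48 LD3_c44) (LK LD1_c5 LD2_c28 LD3_c51) Lrfl Lrfl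
theorem f165022 : Led Lsl_ct (LP (LK LD1_c10 LD2_c48 LD3_c50)) = (LP (LK LD1_c5 LD2_c28 LD3_c51)) :=
  Lre_c IH (LK LD1_c10 LD2_c48 LD3_c50) (LK LD1_c5 LD2_c28 LD3_c51) Lrfl Lrfl
theorem f165023 : Led Lsl_dt (LP (LK LD1_c19 LD2_c33 LD3_c8)) = (LP (LK LD1_c10 LD2_c48 LD3_c50)) :=
  Lre_d IH (LK LD1_c19 LD2_c33 LD3_c8) (LK LD1_c10 LD2_c48 LD3_c50) Lrfl Lrfl
theorem f253859 : Led Lsl_dt (LP (LK LD1_c10 LD2_c48 LD3_c50)) = (LP (LK LD1_c19 LD2_c33 LD3_c8)) :=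
  Lre_d IH (LK LD1_c10 LD2_c48 LD3_c50) (LK LD1_c19 LD2_c33 LD3_c8) Lrfl Lrfl
theorem f289512 : Led Lsl_ft (LP (LK LD1_c19 LD2_c33 LD3_c8)) = (LP (LK LD1_c19 LD2_c43 LD3_c54)) :=
  Lgr Lrot54 (Lpe (f253859 IH) (Lpr_ff (K20.f289496 IH) (Lpe (K20.f178913 IH) (Lpn (LP (LK LD1_c19 LD2_c43 LD3_c54))))))
theorem f319607 : Led Lsl_cf (LP (LK LD1_c19 LD2_c33 LD3_c8)) = (LP (LK LD1_c15 LD2_c47 LD3_c57)) :=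
  Lgr Lrot108 (Lpr_ft (f289512 IH) (Lpe (K20.f319555 IH) (Lpr_ft (K20.f319602 IH) (Lpn (LP (LK LD1_c15 LD2_c47 LD3_c57))))))
theorem f380904 : Led Lsl_dt (LP (LK LD1_c25 LD2_c44 LD3_c24)) = (LP (LK LD1_c15 LD2_c47 LD3_c57)) :=
  Lgr Lrot140 (Lpr_cf (f380895 IH) (Lpe (f178934 IH) (Lpe (f178933 IH) (Lpr_df (f178924 IH) (Lpe (f289537 IH) (Lpr_at (f289539 IH) (Lpe (f165022 IH) (Lpe (f165023 IH) (Lpr_cf (f319607 IH) (Lpn (LP (LK LD1_c15 LD2_c47 LD3_c57))))))))))))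
theorem f167208 : Led Lsl_dt (LP (LK LD1_c8 LD2_c24 LD3_c10)) = (LP (LK LD1_c15 LD2_c47 LD3_c59)) :=
  Lre_d IH (LK LD1_c8 LD2_c24 LD3_c10) (LK LD1_c15 LD2_c47 LD3_c59) Lrfl Lrfl
theorem f289558 : Led Lsl_dt (LP (LK LD1_c10 LD2_c48 LD3_c42)) = (LP (LK LD1_c19 LD2_c32 LD3_c50)) :=
  Lre_d IH (LK LD1_c10 LD2_c48 LD3_c42) (LK LD1_c19 LD2_c32 LD3_c50) Lrfl Lrfl
theorem f381077 : Led Lsl_ct (LP (LK LD1_c15 LD2_c47 LD3_c59)) = (LP (LK LD1_c19 LD2_c32 LD3_c50)) :=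
  Lgr Lrot7 (Lpe (f167208 IH) (Lpe (K20.f167175 IH) (Lpe (f380904 IH) (Lpr_gf (f318568 IH) (Lpe (f318458 IH) (Lpr_gt (f318497 IH) (Lpr_dt (f380910 IH) (Lpr_gt (f319271 IH) (Lpr_dt (f289558 IH) (Lpn (LP (LK LD1_c19 LD2_c32 LD3_c50))))))))))))
theorem f289559 : Led Lsl_dt (LP (LK LD1_c19 LD2_c32 LD3_c50)) = (LP (LK LD1_c10 LD2_c48 LD3_c42)) :=
  Lre_d IH (LK LD1_c19 LD2_c32 LD3_c50) (LK LD1_c10 LD2_c48 LD3_c42) Lrfl Lrfl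
theorem f289557 : Led Lsl_ct (LP (LK LD1_c5 LD2_c28 LD3_c48)) = (LP (LK LD1_c10 LD2_c48 LD3_c42)) :=
  Lre_c IH (LK LD1_c5 LD2_c28 LD3_c48) (LK LD1_c10 LD2_c48 LD3_c42) Lrfl Lrfl
theorem f253838 : Led Lsl_dt (LP (LK LD1_c5 LD2_c28 LD3_c49)) = (LP (LK LD1_c10 LD2_c48 LD3_c44)) :=
  Lre_d IH (LK LD1_c5 LD2_c28 LD3_c49) (LK LD1_c10 LD2_c48 LD3_c44) Lrfl Lrfl
theorem f289535 : Led Lsl_ff (LP (LK LD1_c5 LD2_c28 LD3_c49)) = (LP (LK LD1_c5 LD2_c36 LD3_c39)) :=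
  Lgr Lrot19 (Lpr_dt (f253838 IH) (Lpr_ft (K20.f289531 IH) (Lpe (f178924 IH) (Lpn (LP (LK LD1_c5 LD2_c36 LD3_c39))))))
theorem f289549 : Led Lsl_at (LP (LK LD1_c5 LD2_c28 LD3_c49)) = (LP (LK LD1_c2 LD2_c40 LD3_c41)) :=
  Lre_a IH (LK LD1_c5 LD2_c28 LD3_c49) (LK LD1_c2 LD2_c40 LD3_c41) Lrfl Lrfl
theorem f289555 : Led Lsl_gf (LP (LK LD1_c5 LD2_c28 LD3_c48)) = (LP (LK LD1_c5 LD2_c36 LD3_c39)) :=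
  Lgr Lrot47 (Lpr_gt (f226821 IH) (Lpe (f289549 IH) (Lpr_ff (f289535 IH) (Lpn (LP (LK LD1_c5 LD2_c36 LD3_c39))))))
theorem f178921 : Led Lsl_ct (LP (LK LD1_c11 LD2_c5 LD3_c9)) = (LP (LK LD1_c5 LD2_c36 LD3_c39)) :=
  Lre_c IH (LK LD1_c11 LD2_c5 LD3_c9) (LK LD1_c5 LD2_c36 LD3_c39) Lrfl Lrfl
theorem f253810 : Led Lsl_gt (LP (LK LD1_c5 LD2_c28 LD3_c50)) = (LP (LK LD1_c10 LD2_c48 LD3_c46)) :=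
  Lre_g IH (LK LD1_c5 LD2_c28 LD3_c50) (LK LD1_c10 LD2_c48 LD3_c46) Lrfl Lrfl
theorem f178936 : Led Lsl_at (LP (LK LD1_c5 LD2_c36 LD3_c31)) = (LP (LK LD1_c11 LD2_c5 LD3_c9)) :=
  Lre_a IH (LK LD1_c5 LD2_c36 LD3_c31) (LK LD1_c11 LD2_c5 LD3_c9) Lrfl Lrfl
theorem f253811 : Led Lsl_gt (LP (LK LD1_c10 LD2_c48 LD3_c46)) = (LP (LK LD1_c11 LD2_c5 LD3_c9)) :=
  Lgr Lrot46 (Lpe (f253810 IH) (Lpr_ft (K14.f253798 IH) (Lpr_at (f178936 IH) (Lpn (LP (LK LD1_c11 LD2_c5 LD3_c9))))))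
theorem f253816 : Led Lsl_dt (LP (LK LD1_c10 LD2_c48 LD3_c46)) = (LP (LK LD1_c19 LD2_c32 LD3_c58)) :=
  Lre_d IH (LK LD1_c10 LD2_c48 LD3_c46) (LK LD1_c19 LD2_c32 LD3_c58) Lrfl Lrfl
theorem f384253 : Led Lsl_gt (LP (LK LD1_c19 LD2_c32 LD3_c58)) = (LP (LK LD1_c15 LD2_c2 LD3_c55)) :=
  Lgr Lrot9 (Lpe (f253816 IH) (Lpr_gt (f253811 IH) (Lpr_ct (f178921 IH) (Lpe (f289555 IH) (Lpr_ct (f289557 IH) (Lpe (f289559 IH) (Lpe (f381077 IH) (Lpr_gf (f384226 IH) (Lpe (K20.f42837 IH) (Lpn (LP (LK LD1_c15 LD2_c2 LD3_c55))))))))))))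
theorem f226773 : Led Lsl_gt (LP (LK LD1_c2 LD2_c40 LD3_c41)) = (LP (LK LD1_c5 LD2_c28 LD3_c47)) :=
  Lre_g IH (LK LD1_c2 LD2_c40 LD3_c41) (LK LD1_c5 LD2_c28 LD3_c47) Lrfl Lrfl
theorem f384257 : Led Lsl_dt (LP (LK LD1_c5 LD2_c28 LD3_c47)) = (LP (LK LD1_c4 LD2_c57 LD3_c46)) :=
  Lgr Lrot57 (Lpe (f226773 IH) (Lpe (K27.f226820 IH) (Lpr_gt (f253810 IH) (Lpr_dt (f253816 IH) (Lpr_gt (f384253 IH) (Lpr_dt (K12.f54759 IH) (Lpe (K1.f54755 IH) (Lpe (K9.f54781 IH) (Lpe (K20.f140451 IH) (Lpn (LP (LK LD1_c4 LD2_c57 LD3_c46))))))))))))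
theorem f384267 : Led Lsl_bf (LP (LK LD1_c8 LD2_c21 LD3_c22)) = (LP (LK LD1_c9 LD2_c46 LD3_c27)) :=
  Lgr Lrot184 (Lpe (K18.f300833 IH) (Lpr_dt (K18.f7958 IH) (Lpr_ct (K16.f7957 IH) (Lpr_bt (K14.f7914 IH) (Lpe (K9.f53424 IH) (Lpr_dt (K0.f27320 IH) (Lpr_ct (K9.f27317 IH) (Lpr_bt (K10.f27947 IH) (Lpr_gt (K9.f27955 IH) (Lpr_dt (K11.f27957 IH) (Lpe (K12.f211244 IH) (Lpr_bt (K13.f211250 IH) (Lpr_gt (K13.f238303 IH) (Lpr_dt (K9.f179845 IH) (Lpr_ct (K12.f226754 IH) (Lpr_bt (K14.f226762 IH) (Lpr_gt (f226773 IH) (Lpr_dt (f384257 IH) (Lpr_ct (K20.f140453 IH) (Lpn (LP (LK LD1_c9 LD2_c46 LD3_c27))))))))))))))))))))))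
theorem f140457 : Led Lsl_bt (LP (LK LD1_c9 LD2_c46 LD3_c26)) = (LP (LK LD1_c4 LD2_c57 LD3_c46)) :=
  Lre_b IH (LK LD1_c9 LD2_c46 LD3_c26) (LK LD1_c4 LD2_c57 LD3_c46) Lrfl Lrfl
theorem f384273 : Led Lsl_ct (LP (LK LD1_c8 LD2_c59 LD3_c26)) = (LP (LK LD1_c9 LD2_c46 LD3_c26)) :=
  Lgr Lrot83 (Lpr_bf (K27.f255943 IH) (Lpr_cf (K27.f300837 IH) (Lpr_bf (f384267 IH) (Lpe (K20.f140453 IH) (Lpe (f140457 IH) (Lpn (LP (LK LD1_c9 LD2_c46 LD3_c26))))))))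
theorem f8762 : Led Lsl_gt (LP (LK LD1_c4 LD2_c30 LD3_c31)) = (LP (LK LD1_c2 LD2_c48 LD3_c36)) :=
  Lre_g IH (LK LD1_c4 LD2_c30 LD3_c31) (LK LD1_c2 LD2_c48 LD3_c36) Lrfl Lrfl
theorem f195224 : Led Lsl_gt (LP (LK LD1_c4 LD2_c28 LD3_c33)) = (LP (LK LD1_c8 LD2_c55 LD3_c17)) :=
  Lre_g IH (LK LD1_c4 LD2_c28 LD3_c33) (LK LD1_c8 LD2_c55 LD3_c17) Lrfl Lrfl
theorem f292804 : Led Lsl_bt (LP (LK LD1_c2 LD2_c11 LD3_c21)) = (LP (LK LD1_c4 LD2_c28 LD3_c33)) :=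
  Lre_b IH (LK LD1_c2 LD2_c11 LD3_c21) (LK LD1_c4 LD2_c28 LD3_c33) Lrfl Lrfl
theorem f292833 : Led Lsl_gt (LP (LK LD1_c16 LD2_c38 LD3_c49)) = (LP (LK LD1_c8 LD2_c53 LD3_c60)) :=
  Lre_g IH (LK LD1_c16 LD2_c38 LD3_c49) (LK LD1_c8 LD2_c53 LD3_c60) Lrfl Lrfl
theorem f292834 : Led Lsl_bt (LP (LK LD1_c26 LD2_c37 LD3_c3)) = (LP (LK LD1_c16 LD2_c38 LD3_c49)) :=
  Lre_b IH (LK LD1_c26 LD2_c37 LD3_c3) (LK LD1_c16 LD2_c38 LD3_c49) Lrfl Lrfl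
theorem f296130 : Led Lsl_gt (LP (LK LD1_c15 LD2_c42 LD3_c32)) = (LP (LK LD1_c25 LD2_c38 LD3_c26)) :=
  Lre_g IH (LK LD1_c15 LD2_c42 LD3_c32) (LK LD1_c25 LD2_c38 LD3_c26) Lrfl Lrfl
theorem f383075 : Led Lsl_ct (LP (LK LD1_c26 LD2_c37 LD3_c3)) = (LP (LK LD1_c25 LD2_c38 LD3_c26)) :=
  Lgr Lrot63 (Lpr_bt (f292834 IH) (Lpr_gt (f292833 IH) (Lpe (K17.f267131 IH) (Lpe (K17.f292802 IH) (Lpr_gt (K17.f267548 IH) (Lpe (K27.f191853 IH) (Lpr_bt (f292804 IH) (Lpr_gt (f195224 IH) (Lpr_ct (f383031 IH) (Lpr_gt (f296130 IH) (Lpn (LP (LK LD1_c25 LD2_c38 LD3_c26)))))))))))))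
theorem f383078 : Led Lsl_cf (LP (LK LD1_c26 LD2_c37 LD3_c3)) = (LP (LK LD1_c25 LD2_c38 LD3_c26)) :=
  Lgr Lrot11 (Lpr_ct (f383075 IH) (Lpn (LP (LK LD1_c25 LD2_c38 LD3_c26))))
theorem f221851 : Led Lsl_gt (LP (LK LD1_c8 LD2_c34 LD3_c57)) = (LP (LK LD1_c16 LD2_c6 LD3_c11)) :=
  Lre_g IH (LK LD1_c8 LD2_c34 LD3_c57) (LK LD1_c16 LD2_c6 LD3_c11) Lrfl Lrfl
theorem f383085 : Led Lsl_dt (LP (LK LD1_c16 LD2_c6 LD3_c11)) = (LP (LK LD1_c25 LD2_c38 LD3_c26)) :=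
  Lgr Lrot182 (Lpe (f221851 IH) (Lpe (K27.f221843 IH) (Lpe (K12.f221838 IH) (Lpe (K12.f188700 IH) (Lpe (K12.f188698 IH) (Lpr_bf (K12.f188572 IH) (Lpe (K11.f188571 IH) (Lpe (K10.f188532 IH) (Lpe (K13.f243638 IH) (Lpe (K13.f199592 IH) (Lpe (K13.f179412 IH) (Lpr_df (K15.f243709 IH) (Lpe (K15.f243958 IH) (Lpe (K17.f200715 IH) (Lpr_cf (K17.f247339 IH) (Lpe (K17.f292864 IH) (Lpe (f292833 IH) (Lpe (f292834 IH) (Lpr_cf (f383078 IH) (Lpn (LP (LK LD1_c25 LD2_c38 LD3_c26))))))))))))))))))))))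
theorem f173471 : Led Lsl_gt (LP (LK LD1_c4 LD2_c30 LD3_c33)) = (LP (LK LD1_c8 LD2_c59 LD3_c25)) :=
  Lre_g IH (LK LD1_c4 LD2_c30 LD3_c33) (LK LD1_c8 LD2_c59 LD3_c25) Lrfl Lrfl
theorem f382804 : Led Lsl_af (LP (LK LD1_c16 LD2_c41 LD3_c46)) = (LP (LK LD1_c15 LD2_c44 LD3_c56)) :=
  Lgr Lrot68 (Lpr_ct (K27.f318835 IH) (Lpr_at (f382800 IH) (Lpr_ct (K27.f380924 IH) (Lpn (LP (LK LD1_c15 LD2_c44 LD3_c56))))))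
theorem f383005 : Led Lsl_gf (LP (LK LD1_c16 LD2_c41 LD3_c46)) = (LP (LK LD1_c25 LD2_c38 LD3_c26)) :=
  Lgr Lrot76 (Lpr_af (f382804 IH) (Lpr_ff (f329080 IH) (Lpr_gt (f296130 IH) (Lpn (LP (LK LD1_c25 LD2_c38 LD3_c26))))))
theorem f383000 : Led Lsl_dt (LP (LK LD1_c16 LD2_c41 LD3_c46)) = (LP (LK LD1_c16 LD2_c4 LD3_c37)) :=
  Lgr Lrot44 (Lpr_af (f382804 IH) (Lpr_df (K27.f380951 IH) (Lpe (K27.f179684 IH) (Lpn (LP (LK LD1_c16 LD2_c4 LD3_c37))))))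
theorem f179696 : Led Lsl_ct (LP (LK LD1_c16 LD2_c7 LD3_c28)) = (LP (LK LD1_c16 LD2_c4 LD3_c37)) :=
  Lgr Lrot59 (Lpr_cf (K27.f179680 IH) (Lpn (LP (LK LD1_c16 LD2_c4 LD3_c37))))
theorem f383089 : Led Lsl_dt (LP (LK LD1_c8 LD2_c59 LD3_c25)) = (LP (LK LD1_c16 LD2_c7 LD3_c28)) :=
  Lgr Lrot105 (Lpe (f173471 IH) (Lpe (K20.f225249 IH) (Lpe (K20.f247333 IH) (Lpr_cf (K27.f221844 IH) (Lpr_gt (f221851 IH) (Lpr_dt (f383085 IH) (Lpe (f383005 IH) (Lpr_dt (f383000 IH) (Lpe (f179696 IH) (Lpn (LP (LK LD1_c16 LD2_c7 LD3_c28))))))))))))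
theorem f181780 : Led Lsl_gt (LP (LK LD1_c2 LD2_c12 LD3_c13)) = (LP (LK LD1_c4 LD2_c30 LD3_c31)) :=
  Lre_g IH (LK LD1_c2 LD2_c12 LD3_c13) (LK LD1_c4 LD2_c30 LD3_c31) Lrfl Lrfl
theorem f341268 : Led Lsl_dt (LP (LK LD1_c5 LD2_c28 LD3_c28)) = (LP (LK LD1_c10 LD2_c48 LD3_c1)) :=
  Lre_d IH (LK LD1_c5 LD2_c28 LD3_c28) (LK LD1_c10 LD2_c48 LD3_c1) Lrfl Lrfl
theorem f225826 : Led Lsl_gt (LP (LK LD1_c4 LD2_c28 LD3_c55)) = (LP (LK LD1_c8 LD2_c56 LD3_c6)) :=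
  Lre_g IH (LK LD1_c4 LD2_c28 LD3_c55) (LK LD1_c8 LD2_c56 LD3_c6) Lrfl Lrfl
theorem f341304 : Led Lsl_gt (LP (LK LD1_c8 LD2_c56 LD3_c6)) = (LP (LK LD1_c5 LD2_c28 LD3_c28)) :=
  Lgr Lrot46 (Lpe (f225826 IH) (Lpr_ft (K27.f341293 IH) (Lpr_at (K27.f289133 IH) (Lpn (LP (LK LD1_c5 LD2_c28 LD3_c28))))))
theorem f383113 : Led Lsl_dt (LP (LK LD1_c4 LD2_c30 LD3_c31)) = (LP (LK LD1_c8 LD2_c56 LD3_c6)) :=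
  Lgr Lrot57 (Lpe (f181780 IH) (Lpe (K20.f225248 IH) (Lpr_gt (f173471 IH) (Lpr_dt (f383089 IH) (Lpr_gt (f382711 IH) (Lpe (f382758 IH) (Lpe (K27.f341306 IH) (Lpe (f341268 IH) (Lpe (f341304 IH) (Lpn (LP (LK LD1_c8 LD2_c56 LD3_c6))))))))))))
theorem f383118 : Led Lsl_df (LP (LK LD1_c4 LD2_c30 LD3_c31)) = (LP (LK LD1_c8 LD2_c56 LD3_c6)) :=
  Lgr Lrot38 (Lpr_dt (f383113 IH) (Lpn (LP (LK LD1_c8 LD2_c56 LD3_c6))))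
theorem f384259 : Led Lsl_bt (LP (LK LD1_c10 LD2_c48 LD3_c38)) = (LP (LK LD1_c5 LD2_c28 LD3_c47)) :=
  Lre_b IH (LK LD1_c10 LD2_c48 LD3_c38) (LK LD1_c5 LD2_c28 LD3_c47) Lrfl Lrfl
theorem f318591 : Led Lsl_bt (LP (LK LD1_c4 LD2_c57 LD3_c46)) = (LP (LK LD1_c9 LD2_c46 LD3_c26)) :=
  Lre_b IH (LK LD1_c4 LD2_c57 LD3_c46) (LK LD1_c9 LD2_c46 LD3_c26) Lrfl Lrfl
theorem f384260 : Led Lsl_df (LP (LK LD1_c10 LD2_c48 LD3_c38)) = (LP (LK LD1_c9 LD2_c46 LD3_c26)) :=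
  Lgr Lrot12 (Lpr_bt (f384259 IH) (Lpr_dt (f384257 IH) (Lpr_bt (f318591 IH) (Lpn (LP (LK LD1_c9 LD2_c46 LD3_c26))))))
theorem f384294 : Led Lsl_ct (LP (LK LD1_c16 LD2_c37 LD3_c26)) = (LP (LK LD1_c10 LD2_c48 LD3_c38)) :=
  Lgr Lrot151 (Lpr_gf (f341366 IH) (Lpe (f279097 IH) (Lpe (f341304 IH) (Lpe (f383118 IH) (Lpr_gt (f8762 IH) (Lpr_ct (K27.f173526 IH) (Lpr_gt (K27.f173524 IH) (Lpr_ct (f384273 IH) (Lpe (f384260 IH) (Lpn (LP (LK LD1_c10 LD2_c48 LD3_c38))))))))))))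
theorem f341391 : Led Lsl_df (LP (LK LD1_c16 LD2_c37 LD3_c26)) = (LP (LK LD1_c8 LD2_c55 LD3_c18)) :=
  Lgr Lrot38 (Lpr_dt (f341368 IH) (Lpn (LP (LK LD1_c8 LD2_c55 LD3_c18))))
theorem f382798 : Led Lsl_ft (LP (LK LD1_c8 LD2_c55 LD3_c18)) = (LP (LK LD1_c16 LD2_c41 LD3_c39)) :=
  Lgr Lrot48 (Lpr_ff (f382794 IH) (Lpn (LP (LK LD1_c16 LD2_c41 LD3_c39))))
theorem f383019 : Led Lsl_af (LP (LK LD1_c8 LD2_c55 LD3_c17)) = (LP (LK LD1_c16 LD2_c41 LD3_c39)) :=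
  Lgr Lrot45 (Lpr_ft (f383017 IH) (Lpe (f382802 IH) (Lpr_ft (f382798 IH) (Lpn (LP (LK LD1_c16 LD2_c41 LD3_c39))))))
theorem f383021 : Led Lsl_cf (LP (LK LD1_c8 LD2_c55 LD3_c17)) = (LP (LK LD1_c15 LD2_c42 LD3_c32)) :=
  Lgr Lrot108 (Lpr_ft (f383017 IH) (Lpr_ct (K27.f380924 IH) (Lpr_ft (K27.f329089 IH) (Lpn (LP (LK LD1_c15 LD2_c42 LD3_c32))))))
theorem f384288 : Led Lsl_cf (LP (LK LD1_c8 LD2_c59 LD3_c26)) = (LP (LK LD1_c9 LD2_c46 LD3_c26)) :=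
  Lgr Lrot11 (Lpr_ct (f384273 IH) (Lpn (LP (LK LD1_c9 LD2_c46 LD3_c26))))
theorem f384299 : Led Lsl_df (LP (LK LD1_c9 LD2_c46 LD3_c26)) = (LP (LK LD1_c10 LD2_c48 LD3_c38)) :=
  Lgr Lrot106 (Lpe (f384288 IH) (Lpr_dt (K27.f255941 IH) (Lpe (K27.f178802 IH) (Lpr_dt (f178808 IH) (Lpe (f383021 IH) (Lpr_af (f383019 IH) (Lpe (f382798 IH) (Lpe (f341391 IH) (Lpr_ct (f384294 IH) (Lpn (LP (LK LD1_c10 LD2_c48 LD3_c38))))))))))))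
theorem f226592 : Led Lsl_dt (LP (LK LD1_c11 LD2_c19 LD3_c19)) = (LP (LK LD1_c5 LD2_c44 LD3_c37)) :=
  Lre_d IH (LK LD1_c11 LD2_c19 LD3_c19) (LK LD1_c5 LD2_c44 LD3_c37) Lrfl Lrfl
theorem f383111 : Led Lsl_ff (LP (LK LD1_c8 LD2_c59 LD3_c25)) = (LP (LK LD1_c5 LD2_c44 LD3_c37)) :=
  Lgr Lrot19 (Lpr_dt (f383089 IH) (Lpr_ft (K27.f382703 IH) (Lpr_dt (f226592 IH) (Lpn (LP (LK LD1_c5 LD2_c44 LD3_c37))))))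
theorem f383136 : Led Lsl_ft (LP (LK LD1_c8 LD2_c59 LD3_c25)) = (LP (LK LD1_c5 LD2_c44 LD3_c37)) :=
  Lgr Lrot48 (Lpr_ff (f383111 IH) (Lpn (LP (LK LD1_c5 LD2_c44 LD3_c37))))
theorem f382786 : Led Lsl_dt (LP (LK LD1_c8 LD2_c36 LD3_c4)) = (LP (LK LD1_c5 LD2_c44 LD3_c38)) :=
  Lgr Lrot42 (Lpr_df (K27.f382782 IH) (Lpn (LP (LK LD1_c5 LD2_c44 LD3_c38))))
theorem f383105 : Led Lsl_af (LP (LK LD1_c8 LD2_c59 LD3_c25)) = (LP (LK LD1_c5 LD2_c44 LD3_c38)) :=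
  Lgr Lrot117 (Lpr_dt (f383089 IH) (Lpr_at (K27.f179678 IH) (Lpr_dt (f382786 IH) (Lpn (LP (LK LD1_c5 LD2_c44 LD3_c38))))))
theorem f179682 : Led Lsl_bt (LP (LK LD1_c4 LD2_c18 LD3_c43)) = (LP (LK LD1_c8 LD2_c36 LD3_c4)) :=
  Lre_b IH (LK LD1_c4 LD2_c18 LD3_c43) (LK LD1_c8 LD2_c36 LD3_c4) Lrfl Lrfl
theorem f329417 : Led Lsl_ff (LP (LK LD1_c8 LD2_c25 LD3_c15)) = (LP (LK LD1_c8 LD2_c36 LD3_c4)) :=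
  Lgr Lrot25 (Lpr_bt (K27.f178761 IH) (Lpr_ft (K21.f329413 IH) (Lpr_bt (f179682 IH) (Lpn (LP (LK LD1_c8 LD2_c36 LD3_c4))))))
theorem f255945 : Led Lsl_df (LP (LK LD1_c8 LD2_c59 LD3_c26)) = (LP (LK LD1_c8 LD2_c25 LD3_c15)) :=
  Lgr Lrot38 (Lpr_dt (K27.f255941 IH) (Lpn (LP (LK LD1_c8 LD2_c25 LD3_c15))))
theorem f382788 : Led Lsl_ft (LP (LK LD1_c8 LD2_c59 LD3_c26)) = (LP (LK LD1_c5 LD2_c44 LD3_c38)) :=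
  Lgr Lrot54 (Lpr_df (f255945 IH) (Lpr_ff (f329417 IH) (Lpr_df (K27.f382782 IH) (Lpn (LP (LK LD1_c5 LD2_c44 LD3_c38))))))
theorem f383144 : Led Lsl_af (LP (LK LD1_c8 LD2_c59 LD3_c26)) = (LP (LK LD1_c5 LD2_c44 LD3_c37)) :=
  Lgr Lrot45 (Lpr_ft (f382788 IH) (Lpe (f383105 IH) (Lpr_ft (f383136 IH) (Lpn (LP (LK LD1_c5 LD2_c44 LD3_c37))))))
theorem f383150 : Led Lsl_at (LP (LK LD1_c8 LD2_c59 LD3_c26)) = (LP (LK LD1_c5 LD2_c44 LD3_c37)) :=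
  Lgr Lrot100 (Lpr_af (f383144 IH) (Lpn (LP (LK LD1_c5 LD2_c44 LD3_c37))))
theorem f226593 : Led Lsl_gt (LP (LK LD1_c5 LD2_c44 LD3_c37)) = (LP (LK LD1_c8 LD2_c59 LD3_c19)) :=
  Lre_g IH (LK LD1_c5 LD2_c44 LD3_c37) (LK LD1_c8 LD2_c59 LD3_c19) Lrfl Lrfl
theorem f383138 : Led Lsl_at (LP (LK LD1_c8 LD2_c59 LD3_c25)) = (LP (LK LD1_c5 LD2_c44 LD3_c38)) :=
  Lgr Lrot26 (Lpr_ff (f383111 IH) (Lpr_gt (f226593 IH) (Lpr_gt (K27.f173454 IH) (Lpn (LP (LK LD1_c5 LD2_c44 LD3_c38))))))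
theorem f383173 : Led Lsl_ff (LP (LK LD1_c8 LD2_c59 LD3_c26)) = (LP (LK LD1_c5 LD2_c44 LD3_c38)) :=
  Lgr Lrot30 (Lpr_at (f383150 IH) (Lpe (f383111 IH) (Lpr_at (f383138 IH) (Lpn (LP (LK LD1_c5 LD2_c44 LD3_c38))))))
theorem f384290 : Led Lsl_ff (LP (LK LD1_c11 LD2_c19 LD3_c21)) = (LP (LK LD1_c9 LD2_c46 LD3_c26)) :=
  Lgr Lrot23 (Lpr_ct (f173455 IH) (Lpe (f383173 IH) (Lpr_ct (f384273 IH) (Lpn (LP (LK LD1_c9 LD2_c46 LD3_c26))))))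
theorem f384311 : Led Lsl_ft (LP (LK LD1_c11 LD2_c5 LD3_c20)) = (LP (LK LD1_c10 LD2_c48 LD3_c38)) :=
  Lgr Lrot54 (Lpe (f380943 IH) (Lpr_ff (f384290 IH) (Lpr_df (f384299 IH) (Lpn (LP (LK LD1_c10 LD2_c48 LD3_c38))))))
theorem f178143 : Led Lsl_bt (LP (LK LD1_c5 LD2_c36 LD3_c37)) = (LP (LK LD1_c11 LD2_c5 LD3_c20)) :=
  Lre_b IH (LK LD1_c5 LD2_c36 LD3_c37) (LK LD1_c11 LD2_c5 LD3_c20) Lrfl Lrfl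
theorem f384313 : Led Lsl_ff (LP (LK LD1_c5 LD2_c36 LD3_c37)) = (LP (LK LD1_c5 LD2_c28 LD3_c47)) :=
  Lgr Lrot25 (Lpr_bt (f178143 IH) (Lpr_ft (f384311 IH) (Lpr_bt (f384259 IH) (Lpn (LP (LK LD1_c5 LD2_c28 LD3_c47))))))
theorem f167095 : Led Lsl_bt (LP (LK LD1_c4 LD2_c10 LD3_c45)) = (LP (LK LD1_c8 LD2_c21 LD3_c21)) :=
  Lre_b IH (LK LD1_c4 LD2_c10 LD3_c45) (LK LD1_c8 LD2_c21 LD3_c21) Lrfl Lrfl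
theorem f384275 : Led Lsl_dt (LP (LK LD1_c8 LD2_c21 LD3_c21)) = (LP (LK LD1_c9 LD2_c46 LD3_c27)) :=
  Lgr Lrot79 (Lpe (f167095 IH) (Lpe (K19.f167109 IH) (Lpr_bf (f384267 IH) (Lpn (LP (LK LD1_c9 LD2_c46 LD3_c27))))))
theorem f384278 : Led Lsl_df (LP (LK LD1_c8 LD2_c21 LD3_c21)) = (LP (LK LD1_c9 LD2_c46 LD3_c27)) :=
  Lgr Lrot38 (Lpr_dt (f384275 IH) (Lpn (LP (LK LD1_c9 LD2_c46 LD3_c27))))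
theorem f167097 : Led Lsl_bt (LP (LK LD1_c8 LD2_c24 LD3_c10)) = (LP (LK LD1_c4 LD2_c12 LD3_c19)) :=
  Lre_b IH (LK LD1_c8 LD2_c24 LD3_c10) (LK LD1_c4 LD2_c12 LD3_c19) Lrfl Lrfl
theorem f167098 : Led Lsl_ct (LP (LK LD1_c8 LD2_c21 LD3_c21)) = (LP (LK LD1_c8 LD2_c24 LD3_c10)) :=
  Lgr Lrot83 (Lpe (f167095 IH) (Lpr_cf (K15.f167087 IH) (Lpe (K14.f167096 IH) (Lpe (K15.f166570 IH) (Lpe (f167097 IH) (Lpn (LP (LK LD1_c8 LD2_c24 LD3_c10))))))))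
theorem f384319 : Led Lsl_at (LP (LK LD1_c5 LD2_c36 LD3_c37)) = (LP (LK LD1_c5 LD2_c28 LD3_c48)) :=
  Lgr Lrot33 (Lpr_ff (f384313 IH) (Lpr_dt (f384257 IH) (Lpr_ct (K20.f140453 IH) (Lpe (f384278 IH) (Lpr_ct (f167098 IH) (Lpr_dt (f167208 IH) (Lpr_ct (f381077 IH) (Lpr_dt (f289559 IH) (Lpr_ct (f226822 IH) (Lpn (LP (LK LD1_c5 LD2_c28 LD3_c48))))))))))))
theorem f178132 : Led Lsl_ct (LP (LK LD1_c11 LD2_c5 LD3_c21)) = (LP (LK LD1_c5 LD2_c36 LD3_c37)) :=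
  Lre_c IH (LK LD1_c11 LD2_c5 LD3_c21) (LK LD1_c5 LD2_c36 LD3_c37) Lrfl Lrfl
theorem f384323 : Led Lsl_af (LP (LK LD1_c11 LD2_c5 LD3_c21)) = (LP (LK LD1_c10 LD2_c48 LD3_c42)) :=
  Lgr Lrot68 (Lpr_ct (f178132 IH) (Lpr_at (f384319 IH) (Lpr_ct (f289557 IH) (Lpn (LP (LK LD1_c10 LD2_c48 LD3_c42))))))
theorem f178129 : Led Lsl_gt (LP (LK LD1_c19 LD2_c58 LD3_c26)) = (LP (LK LD1_c11 LD2_c5 LD3_c21)) :=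
  Lre_g IH (LK LD1_c19 LD2_c58 LD3_c26) (LK LD1_c11 LD2_c5 LD3_c21) Lrfl Lrfl
theorem f178144 : Led Lsl_dt (LP (LK LD1_c20 LD2_c4 LD3_c34)) = (LP (LK LD1_c11 LD2_c10 LD3_c0)) :=
  Lre_d IH (LK LD1_c20 LD2_c4 LD3_c34) (LK LD1_c11 LD2_c10 LD3_c0) Lrfl Lrfl
theorem f319563 : Led Lsl_dt (LP (LK LD1_c8 LD2_c37 LD3_c11)) = (LP (LK LD1_c16 LD2_c8 LD3_c51)) :=
  Lre_d IH (LK LD1_c8 LD2_c37 LD3_c11) (LK LD1_c16 LD2_c8 LD3_c51) Lrfl Lrfl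
theorem f332626 : Led Lsl_gf (LP (LK LD1_c20 LD2_c4 LD3_c34)) = (LP (LK LD1_c19 LD2_c42 LD3_c32)) :=
  Lgr Lrot148 (Lpr_dt (f178144 IH) (Lpe (f244284 IH) (Lpr_dt (f244286 IH) (Lpr_ct (f332617 IH) (Lpe (f319563 IH) (Lpe (K20.f319554 IH) (Lpr_df (K20.f319583 IH) (Lpe (K20.f318564 IH) (Lpr_ct (K20.f318554 IH) (Lpn (LP (LK LD1_c19 LD2_c42 LD3_c32))))))))))))
theorem f332628 : Led Lsl_gt (LP (LK LD1_c20 LD2_c4 LD3_c34)) = (LP (LK LD1_c19 LD2_c42 LD3_c35)) :=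
  Lgr Lrot46 (Lpr_gf (f332626 IH) (Lpr_ft (K20.f318489 IH) (Lpe (K20.f318536 IH) (Lpn (LP (LK LD1_c19 LD2_c42 LD3_c35))))))
theorem f178130 : Led Lsl_dt (LP (LK LD1_c11 LD2_c10 LD3_c0)) = (LP (LK LD1_c20 LD2_c4 LD3_c34)) :=
  Lre_d IH (LK LD1_c11 LD2_c10 LD3_c0) (LK LD1_c20 LD2_c4 LD3_c34) Lrfl Lrfl
theorem f173661 : Led Lsl_ct (LP (LK LD1_c5 LD2_c31 LD3_c28)) = (LP (LK LD1_c10 LD2_c54 LD3_c33)) :=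
  Lre_c IH (LK LD1_c5 LD2_c31 LD3_c28) (LK LD1_c10 LD2_c54 LD3_c33) Lrfl Lrfl
theorem f332631 : Led Lsl_gt (LP (LK LD1_c5 LD2_c36 LD3_c37)) = (LP (LK LD1_c5 LD2_c28 LD3_c49)) :=
  Lgr Lrot94 (Lpe (f178132 IH) (Lpe (K20.f178126 IH) (Lpr_dt (f178130 IH) (Lpr_gt (f332628 IH) (Lpr_dt (K20.f173717 IH) (Lpe (f173661 IH) (Lpe (K20.f173659 IH) (Lpr_gf (K20.f318681 IH) (Lpe (f253838 IH) (Lpn (LP (LK LD1_c5 LD2_c28 LD3_c49))))))))))))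
theorem f174428 : Led Lsl_gt (LP (LK LD1_c29 LD2_c2 LD3_c33)) = (LP (LK LD1_c19 LD2_c42 LD3_c32)) :=
  Lre_g IH (LK LD1_c29 LD2_c2 LD3_c33) (LK LD1_c19 LD2_c42 LD3_c32) Lrfl Lrfl
theorem f332634 : Led Lsl_dt (LP (LK LD1_c19 LD2_c58 LD3_c26)) = (LP (LK LD1_c29 LD2_c2 LD3_c33)) :=
  Lgr Lrot6 (Lpr_gt (f178129 IH) (Lpr_ct (f178132 IH) (Lpr_gt (f332631 IH) (Lpr_ct (K20.f253833 IH) (Lpe (K20.f253840 IH) (Lpr_cf (K20.f319008 IH) (Lpe (K20.f318564 IH) (Lpr_cf (K20.f318546 IH) (Lpe (f174428 IH) (Lpn (LP (LK LD1_c29 LD2_c2 LD3_c33))))))))))))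
theorem f332640 : Led Lsl_gf (LP (LK LD1_c19 LD2_c58 LD3_c26)) = (LP (LK LD1_c11 LD2_c5 LD3_c23)) :=
  Lgr Lrot144 (Lpr_dt (f332634 IH) (Lpr_gt (f174428 IH) (Lpr_dt (K20.f174094 IH) (Lpe (K20.f173662 IH) (Lpe (K20.f173700 IH) (Lpe (K20.f289580 IH) (Lpe (K20.f178888 IH) (Lpe (f178920 IH) (Lpe (f178944 IH) (Lpn (LP (LK LD1_c11 LD2_c5 LD3_c23))))))))))))
theorem f384378 : Led Lsl_ft (LP (LK LD1_c11 LD2_c5 LD3_c23)) = (LP (LK LD1_c10 LD2_c48 LD3_c42)) :=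
  Lgr Lrot2 (Lpe (f332640 IH) (Lpr_gt (f178129 IH) (Lpr_af (f384323 IH) (Lpn (LP (LK LD1_c10 LD2_c48 LD3_c42))))))
theorem f384386 : Led Lsl_ff (LP (LK LD1_c11 LD2_c5 LD3_c23)) = (LP (LK LD1_c10 LD2_c48 LD3_c42)) :=
  Lgr Lrot3 (Lpr_ft (f384378 IH) (Lpn (LP (LK LD1_c10 LD2_c48 LD3_c42))))
theorem f384325 : Led Lsl_gt (LP (LK LD1_c5 LD2_c28 LD3_c47)) = (LP (LK LD1_c5 LD2_c36 LD3_c39)) :=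
  Lgr Lrot5 (Lpe (f384313 IH) (Lpr_at (f384319 IH) (Lpr_gf (f289555 IH) (Lpn (LP (LK LD1_c5 LD2_c36 LD3_c39))))))
theorem f276248 : Led Lsl_ct (LP (LK LD1_c10 LD2_c48 LD3_c39)) = (LP (LK LD1_c5 LD2_c28 LD3_c47)) :=
  Lre_c IH (LK LD1_c10 LD2_c48 LD3_c39) (LK LD1_c5 LD2_c28 LD3_c47) Lrfl Lrfl
theorem f384266 : Led Lsl_gt (LP (LK LD1_c19 LD2_c32 LD3_c45)) = (LP (LK LD1_c10 LD2_c48 LD3_c39)) :=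
  Lre_g IH (LK LD1_c19 LD2_c32 LD3_c45) (LK LD1_c10 LD2_c48 LD3_c39) Lrfl Lrfl
theorem f178922 : Led Lsl_dt (LP (LK LD1_c19 LD2_c58 LD3_c1)) = (LP (LK LD1_c11 LD2_c5 LD3_c9)) :=
  Lre_d IH (LK LD1_c19 LD2_c58 LD3_c1) (LK LD1_c11 LD2_c5 LD3_c9) Lrfl Lrfl
theorem f380900 : Led Lsl_ct (LP (LK LD1_c25 LD2_c44 LD3_c24)) = (LP (LK LD1_c19 LD2_c58 LD3_c1)) :=
  Lgr Lrot59 (Lpr_cf (f380895 IH) (Lpn (LP (LK LD1_c19 LD2_c58 LD3_c1))))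
theorem f318496 : Led Lsl_gt (LP (LK LD1_c24 LD2_c52 LD3_c42)) = (LP (LK LD1_c15 LD2_c3 LD3_c30)) :=
  Lre_g IH (LK LD1_c24 LD2_c52 LD3_c42) (LK LD1_c15 LD2_c3 LD3_c30) Lrfl Lrfl
theorem f384329 : Led Lsl_dt (LP (LK LD1_c19 LD2_c32 LD3_c45)) = (LP (LK LD1_c24 LD2_c52 LD3_c42)) :=
  Lgr Lrot6 (Lpr_gt (f384266 IH) (Lpr_ct (f276248 IH) (Lpr_gt (f384325 IH) (Lpr_ct (f178933 IH) (Lpe (f178922 IH) (Lpe (f380900 IH) (Lpr_gf (f318568 IH) (Lpe (f318458 IH) (Lpe (f318496 IH) (Lpn (LP (LK LD1_c24 LD2_c52 LD3_c42))))))))))))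
theorem f253858 : Led Lsl_dt (LP (LK LD1_c2 LD2_c40 LD3_c41)) = (LP (LK LD1_c5 LD2_c28 LD3_c51)) :=
  Lre_d IH (LK LD1_c2 LD2_c40 LD3_c41) (LK LD1_c5 LD2_c28 LD3_c51) Lrfl Lrfl
theorem f384338 : Led Lsl_gf (LP (LK LD1_c19 LD2_c32 LD3_c45)) = (LP (LK LD1_c10 LD2_c48 LD3_c42)) :=
  Lgr Lrot144 (Lpr_dt (f384329 IH) (Lpr_gt (f318496 IH) (Lpr_dt (K20.f318488 IH) (Lpe (K20.f173633 IH) (Lpe (K20.f173634 IH) (Lpr_gf (K27.f380873 IH) (Lpe (f253858 IH) (Lpe (f226821 IH) (Lpe (f226822 IH) (Lpn (LP (LK LD1_c10 LD2_c48 LD3_c42))))))))))))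
theorem f384393 : Led Lsl_at (LP (LK LD1_c11 LD2_c5 LD3_c23)) = (LP (LK LD1_c10 LD2_c48 LD3_c39)) :=
  Lgr Lrot26 (Lpr_ff (f384386 IH) (Lpe (f384338 IH) (Lpr_gt (f384266 IH) (Lpn (LP (LK LD1_c10 LD2_c48 LD3_c39))))))
theorem f384374 : Led Lsl_at (LP (LK LD1_c11 LD2_c5 LD3_c21)) = (LP (LK LD1_c10 LD2_c48 LD3_c42)) :=
  Lgr Lrot100 (Lpr_af (f384323 IH) (Lpn (LP (LK LD1_c10 LD2_c48 LD3_c42))))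
theorem f384403 : Led Lsl_ff (LP (LK LD1_c11 LD2_c5 LD3_c21)) = (LP (LK LD1_c10 LD2_c48 LD3_c39)) :=
  Lgr Lrot30 (Lpr_at (f384374 IH) (Lpe (f384386 IH) (Lpr_at (f384393 IH) (Lpn (LP (LK LD1_c10 LD2_c48 LD3_c39))))))
theorem f178138 : Led Lsl_dt (LP (LK LD1_c11 LD2_c5 LD3_c21)) = (LP (LK LD1_c19 LD2_c58 LD3_c28)) :=
  Lre_d IH (LK LD1_c11 LD2_c5 LD3_c21) (LK LD1_c19 LD2_c58 LD3_c28) Lrfl Lrfl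
theorem f384262 : Led Lsl_dt (LP (LK LD1_c19 LD2_c32 LD3_c47)) = (LP (LK LD1_c10 LD2_c48 LD3_c39)) :=
  Lre_d IH (LK LD1_c19 LD2_c32 LD3_c47) (LK LD1_c10 LD2_c48 LD3_c39) Lrfl Lrfl
theorem f384407 : Led Lsl_ft (LP (LK LD1_c19 LD2_c58 LD3_c28)) = (LP (LK LD1_c19 LD2_c32 LD3_c47)) :=
  Lgr Lrot54 (Lpe (f178138 IH) (Lpr_ff (f384403 IH) (Lpe (f384262 IH) (Lpn (LP (LK LD1_c19 LD2_c32 LD3_c47))))))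
theorem f384411 : Led Lsl_ff (LP (LK LD1_c19 LD2_c58 LD3_c28)) = (LP (LK LD1_c19 LD2_c32 LD3_c47)) :=
  Lgr Lrot3 (Lpr_ft (f384407 IH) (Lpn (LP (LK LD1_c19 LD2_c32 LD3_c47))))
theorem f384376 : Led Lsl_at (LP (LK LD1_c19 LD2_c58 LD3_c28)) = (LP (LK LD1_c19 LD2_c32 LD3_c50)) :=
  Lgr Lrot51 (Lpe (f178138 IH) (Lpr_af (f384323 IH) (Lpe (f289559 IH) (Lpn (LP (LK LD1_c19 LD2_c32 LD3_c50))))))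
theorem f244288 : Led Lsl_dt (LP (LK LD1_c19 LD2_c58 LD3_c30)) = (LP (LK LD1_c11 LD2_c5 LD3_c23)) :=
  Lre_d IH (LK LD1_c19 LD2_c58 LD3_c30) (LK LD1_c11 LD2_c5 LD3_c23) Lrfl Lrfl
theorem f384384 : Led Lsl_ff (LP (LK LD1_c19 LD2_c58 LD3_c30)) = (LP (LK LD1_c19 LD2_c32 LD3_c50)) :=
  Lgr Lrot19 (Lpr_dt (f244288 IH) (Lpr_ft (f384378 IH) (Lpr_dt (f289558 IH) (Lpn (LP (LK LD1_c19 LD2_c32 LD3_c50))))))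
theorem f384413 : Led Lsl_at (LP (LK LD1_c19 LD2_c58 LD3_c30)) = (LP (LK LD1_c19 LD2_c32 LD3_c47)) :=
  Lgr Lrot66 (Lpr_ff (f384384 IH) (Lpe (f384376 IH) (Lpr_ff (f384411 IH) (Lpn (LP (LK LD1_c19 LD2_c32 LD3_c47))))))
theorem f384340 : Led Lsl_gt (LP (LK LD1_c28 LD2_c55 LD3_c5)) = (LP (LK LD1_c19 LD2_c32 LD3_c47)) :=
  Lre_g IH (LK LD1_c28 LD2_c55 LD3_c5) (LK LD1_c19 LD2_c32 LD3_c47) Lrfl Lrfl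
theorem f384419 : Led Lsl_gt (LP (LK LD1_c19 LD2_c32 LD3_c50)) = (LP (LK LD1_c28 LD2_c55 LD3_c5)) :=
  Lgr Lrot5 (Lpe (f384384 IH) (Lpr_at (f384413 IH) (Lpe (f384340 IH) (Lpn (LP (LK LD1_c28 LD2_c55 LD3_c5))))))
theorem f381079 : Led Lsl_cf (LP (LK LD1_c15 LD2_c47 LD3_c59)) = (LP (LK LD1_c19 LD2_c32 LD3_c50)) :=
  Lgr Lrot14 (Lpe (f167208 IH) (Lpe (K20.f167175 IH) (Lpe (f380904 IH) (Lpr_gf (f318568 IH) (Lpr_ct (K20.f318510 IH) (Lpr_gt (f318497 IH) (Lpr_dt (f380910 IH) (Lpr_gt (f319271 IH) (Lpr_dt (f289558 IH) (Lpn (LP (LK LD1_c19 LD2_c32 LD3_c50))))))))))))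
theorem f173893 : Led Lsl_at (LP (LK LD1_c24 LD2_c51 LD3_c53)) = (LP (LK LD1_c15 LD2_c2 LD3_c58)) :=
  Lre_a IH (LK LD1_c24 LD2_c51 LD3_c53) (LK LD1_c15 LD2_c2 LD3_c58) Lrfl Lrfl
theorem f275401 : Led Lsl_df (LP (LK LD1_c15 LD2_c47 LD3_c36)) = (LP (LK LD1_c15 LD2_c2 LD3_c58)) :=
  Lgr Lrot38 (Lpr_dt (K20.f275381 IH) (Lpn (LP (LK LD1_c15 LD2_c2 LD3_c58))))
theorem f318702 : Led Lsl_af (LP (LK LD1_c15 LD2_c24 LD3_c6)) = (LP (LK LD1_c15 LD2_c47 LD3_c36)) :=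
  Lgr Lrot117 (Lpr_dt (K20.f318700 IH) (Lpr_at (f173893 IH) (Lpe (f275401 IH) (Lpn (LP (LK LD1_c15 LD2_c47 LD3_c36))))))
theorem f319000 : Led Lsl_ff (LP (LK LD1_c15 LD2_c47 LD3_c36)) = (LP (LK LD1_c15 LD2_c24 LD3_c5)) :=
  Lgr Lrot30 (Lpe (f318702 IH) (Lpe (K20.f318973 IH) (Lpr_at (K20.f318994 IH) (Lpn (LP (LK LD1_c15 LD2_c24 LD3_c5))))))
theorem f173891 : Led Lsl_ft (LP (LK LD1_c15 LD2_c2 LD3_c58)) = (LP (LK LD1_c19 LD2_c42 LD3_c44)) :=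
  Lgr Lrot48 (Lpr_ff (f173888 IH) (Lpn (LP (LK LD1_c19 LD2_c42 LD3_c44))))
theorem f319002 : Led Lsl_dt (LP (LK LD1_c19 LD2_c42 LD3_c44)) = (LP (LK LD1_c15 LD2_c24 LD3_c5)) :=
  Lgr Lrot60 (Lpe (f173891 IH) (Lpe (K20.f275381 IH) (Lpr_ff (f319000 IH) (Lpn (LP (LK LD1_c15 LD2_c24 LD3_c5))))))
theorem f53894 : Led Lsl_bt (LP (LK LD1_c4 LD2_c5 LD3_c0)) = (LP (LK LD1_c8 LD2_c10 LD3_c48)) :=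
  Lre_b IH (LK LD1_c4 LD2_c5 LD3_c0) (LK LD1_c8 LD2_c10 LD3_c48) Lrfl Lrfl
theorem f219397 : Led Lsl_bt (LP (LK LD1_c8 LD2_c23 LD3_c61)) = (LP (LK LD1_c4 LD2_c12 LD3_c12)) :=
  Lre_b IH (LK LD1_c8 LD2_c23 LD3_c61) (LK LD1_c4 LD2_c12 LD3_c12) Lrfl Lrfl
theorem f219398 : Led Lsl_ft (LP (LK LD1_c8 LD2_c10 LD3_c48)) = (LP (LK LD1_c8 LD2_c23 LD3_c61)) :=
  Lgr Lrot75 (Lpe (f53894 IH) (Lpr_ff (K12.f219393 IH) (Lpe (f219397 IH) (Lpn (LP (LK LD1_c8 LD2_c23 LD3_c61))))))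
theorem f219580 : Led Lsl_gt (LP (LK LD1_c15 LD2_c24 LD3_c5)) = (LP (LK LD1_c15 LD2_c47 LD3_c38)) :=
  Lgr Lrot46 (Lpe (K20.f53933 IH) (Lpr_ft (f219398 IH) (Lpr_at (K20.f219574 IH) (Lpn (LP (LK LD1_c15 LD2_c47 LD3_c38))))))
theorem f174054 : Led Lsl_gt (LP (LK LD1_c19 LD2_c42 LD3_c31)) = (LP (LK LD1_c10 LD2_c54 LD3_c30)) :=
  Lre_g IH (LK LD1_c19 LD2_c42 LD3_c31) (LK LD1_c10 LD2_c54 LD3_c30) Lrfl Lrfl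
theorem f384421 : Led Lsl_df (LP (LK LD1_c19 LD2_c42 LD3_c31)) = (LP (LK LD1_c28 LD2_c55 LD3_c5)) :=
  Lgr Lrot153 (Lpr_gt (f174054 IH) (Lpr_dt (K20.f174097 IH) (Lpe (K20.f318554 IH) (Lpe (K20.f219564 IH) (Lpe (f219580 IH) (Lpe (f319002 IH) (Lpe (f384224 IH) (Lpr_cf (f381079 IH) (Lpr_gt (f384419 IH) (Lpn (LP (LK LD1_c28 LD2_c55 LD3_c5))))))))))))
theorem f332624 : Led Lsl_at (LP (LK LD1_c26 LD2_c5 LD3_c39)) = (LP (LK LD1_c16 LD2_c8 LD3_c51)) :=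
  Lre_a IH (LK LD1_c26 LD2_c5 LD3_c39) (LK LD1_c16 LD2_c8 LD3_c51) Lrfl Lrfl
theorem f384417 : Led Lsl_cf (LP (LK LD1_c26 LD2_c5 LD3_c39)) = (LP (LK LD1_c19 LD2_c32 LD3_c47)) :=
  Lgr Lrot1 (Lpr_at (f332624 IH) (Lpe (f332622 IH) (Lpr_at (f384413 IH) (Lpn (LP (LK LD1_c19 LD2_c32 LD3_c47))))))
theorem f384426 : Led Lsl_gf (LP (LK LD1_c24 LD2_c51 LD3_c53)) = (LP (LK LD1_c26 LD2_c5 LD3_c39)) :=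
  Lgr Lrot104 (Lpr_ct (K20.f42859 IH) (Lpe (K20.f54764 IH) (Lpe (K1.f54755 IH) (Lpr_gf (K9.f174051 IH) (Lpe (K20.f174053 IH) (Lpe (f174054 IH) (Lpr_df (f384421 IH) (Lpr_gt (f384340 IH) (Lpe (f384417 IH) (Lpn (LP (LK LD1_c26 LD2_c5 LD3_c39))))))))))))
theorem f384428 : Led Lsl_gt (LP (LK LD1_c19 LD2_c42 LD3_c44)) = (LP (LK LD1_c26 LD2_c5 LD3_c39)) :=
  Lgr Lrot5 (Lpe (f173888 IH) (Lpr_at (f173890 IH) (Lpr_gf (f384426 IH) (Lpn (LP (LK LD1_c26 LD2_c5 LD3_c39))))))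
theorem f332619 : Led Lsl_at (LP (LK LD1_c16 LD2_c8 LD3_c51)) = (LP (LK LD1_c26 LD2_c5 LD3_c39)) :=
  Lre_a IH (LK LD1_c16 LD2_c8 LD3_c51) (LK LD1_c26 LD2_c5 LD3_c39) Lrfl Lrfl
theorem f384576 : Led Lsl_ft (LP (LK LD1_c15 LD2_c47 LD3_c59)) = (LP (LK LD1_c16 LD2_c8 LD3_c51)) :=
  Lgr Lrot2 (Lpr_gt (f384224 IH) (Lpr_gt (f384428 IH) (Lpe (f332619 IH) (Lpn (LP (LK LD1_c16 LD2_c8 LD3_c51))))))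
theorem f384579 : Led Lsl_ff (LP (LK LD1_c15 LD2_c47 LD3_c59)) = (LP (LK LD1_c16 LD2_c8 LD3_c51)) :=
  Lgr Lrot3 (Lpr_ft (f384576 IH) (Lpn (LP (LK LD1_c16 LD2_c8 LD3_c51))))
theorem f384636 : Led Lsl_af (LP (LK LD1_c24 LD2_c51 LD3_c55)) = (LP (LK LD1_c15 LD2_c47 LD3_c59)) :=
  Lgr Lrot31 (Lpe (f173894 IH) (Lpr_gf (f384632 IH) (Lpe (f384579 IH) (Lpn (LP (LK LD1_c15 LD2_c47 LD3_c59))))))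
theorem f384767 : Led Lsl_ct (LP (LK LD1_c24 LD2_c51 LD3_c55)) = (LP (LK LD1_c19 LD2_c58 LD3_c28)) :=
  Lgr Lrot111 (Lpr_af (f384636 IH) (Lpr_cf (f381079 IH) (Lpe (f384376 IH) (Lpn (LP (LK LD1_c19 LD2_c58 LD3_c28))))))
theorem f54921 : Led Lsl_gt (LP (LK LD1_c15 LD2_c2 LD3_c57)) = (LP (LK LD1_c7 LD2_c58 LD3_c35)) :=
  Lre_g IH (LK LD1_c15 LD2_c2 LD3_c57) (LK LD1_c7 LD2_c58 LD3_c35) Lrfl Lrfl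
theorem f178131 : Led Lsl_dt (LP (LK LD1_c19 LD2_c58 LD3_c28)) = (LP (LK LD1_c11 LD2_c5 LD3_c21)) :=
  Lre_d IH (LK LD1_c19 LD2_c58 LD3_c28) (LK LD1_c11 LD2_c5 LD3_c21) Lrfl Lrfl
theorem f178102 : Led Lsl_gt (LP (LK LD1_c11 LD2_c5 LD3_c8)) = (LP (LK LD1_c5 LD2_c36 LD3_c31)) :=
  Lre_g IH (LK LD1_c11 LD2_c5 LD3_c8) (LK LD1_c5 LD2_c36 LD3_c31) Lrfl Lrfl
theorem f384788 : Led Lsl_df (LP (LK LD1_c15 LD2_c2 LD3_c57)) = (LP (LK LD1_c11 LD2_c5 LD3_c8)) :=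
  Lgr Lrot155 (Lpr_gt (f54921 IH) (Lpr_ct (f140385 IH) (Lpr_gt (f173894 IH) (Lpr_ct (f384767 IH) (Lpr_dt (f178131 IH) (Lpe (K20.f178125 IH) (Lpe (K20.f178117 IH) (Lpe (K20.f178099 IH) (Lpe (f178102 IH) (Lpn (LP (LK LD1_c11 LD2_c5 LD3_c8))))))))))))
theorem f54819 : Led Lsl_gt (LP (LK LD1_c7 LD2_c59 LD3_c1)) = (LP (LK LD1_c3 LD2_c58 LD3_c47)) :=
  Lre_g IH (LK LD1_c7 LD2_c59 LD3_c1) (LK LD1_c3 LD2_c58 LD3_c47) Lrfl Lrfl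
theorem f54788 : Led Lsl_ct (LP (LK LD1_c1 LD2_c56 LD3_c6)) = (LP (LK LD1_c3 LD2_c58 LD3_c32)) :=
  Lre_c IH (LK LD1_c1 LD2_c56 LD3_c6) (LK LD1_c3 LD2_c58 LD3_c32) Lrfl Lrfl
theorem f238397 : Led Lsl_dt (LP (LK LD1_c10 LD2_c58 LD3_c55)) = (LP (LK LD1_c19 LD2_c49 LD3_c21)) :=
  Lre_d IH (LK LD1_c10 LD2_c58 LD3_c55) (LK LD1_c19 LD2_c49 LD3_c21) Lrfl Lrfl
theorem f384638 : Led Lsl_gt (LP (LK LD1_c19 LD2_c49 LD3_c21)) = (LP (LK LD1_c19 LD2_c58 LD3_c30)) :=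
  Lgr Lrot9 (Lpe (f238397 IH) (Lpr_gt (K27.f238387 IH) (Lpr_ct (K16.f174029 IH) (Lpr_gt (K16.f54804 IH) (Lpr_ct (f54788 IH) (Lpe (K12.f54915 IH) (Lpe (K20.f173703 IH) (Lpr_gf (f384632 IH) (Lpe (f332617 IH) (Lpn (LP (LK LD1_c19 LD2_c58 LD3_c30))))))))))))
theorem f318448 : Led Lsl_af (LP (LK LD1_c7 LD2_c58 LD3_c59)) = (LP (LK LD1_c10 LD2_c54 LD3_c30)) :=
  Lgr Lrot68 (Lpr_ct (K16.f174029 IH) (Lpr_at (K20.f318442 IH) (Lpr_ct (K20.f173662 IH) (Lpn (LP (LK LD1_c10 LD2_c54 LD3_c30))))))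
theorem f318494 : Led Lsl_gf (LP (LK LD1_c10 LD2_c58 LD3_c55)) = (LP (LK LD1_c7 LD2_c58 LD3_c55)) :=
  Lgr Lrot47 (Lpr_gt (K27.f238387 IH) (Lpr_af (f318448 IH) (Lpr_ff (K20.f318483 IH) (Lpn (LP (LK LD1_c7 LD2_c58 LD3_c55))))))
theorem f173635 : Led Lsl_ct (LP (LK LD1_c7 LD2_c58 LD3_c55)) = (LP (LK LD1_c3 LD2_c58 LD3_c44)) :=
  Lre_c IH (LK LD1_c7 LD2_c58 LD3_c55) (LK LD1_c3 LD2_c58 LD3_c44) Lrfl Lrfl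
theorem f173629 : Led Lsl_gt (LP (LK LD1_c3 LD2_c58 LD3_c44)) = (LP (LK LD1_c5 LD2_c31 LD3_c29)) :=
  Lgr Lrot46 (Lpe (K17.f54798 IH) (Lpr_ft (K9.f173609 IH) (Lpr_at (K9.f173062 IH) (Lpn (LP (LK LD1_c5 LD2_c31 LD3_c29))))))
theorem f140426 : Led Lsl_gt (LP (LK LD1_c4 LD2_c57 LD3_c48)) = (LP (LK LD1_c7 LD2_c59 LD3_c1)) :=
  Lgr Lrot5 (Lpr_ft (K9.f140418 IH) (Lpr_at (K9.f140417 IH) (Lpe (f54819 IH) (Lpn (LP (LK LD1_c7 LD2_c59 LD3_c1))))))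
theorem f178943 : Led Lsl_ct (LP (LK LD1_c5 LD2_c36 LD3_c38)) = (LP (LK LD1_c11 LD2_c5 LD3_c23)) :=
  Lre_c IH (LK LD1_c5 LD2_c36 LD3_c38) (LK LD1_c11 LD2_c5 LD3_c23) Lrfl Lrfl
theorem f384650 : Led Lsl_dt (LP (LK LD1_c7 LD2_c59 LD3_c1)) = (LP (LK LD1_c5 LD2_c36 LD3_c38)) :=
  Lgr Lrot105 (Lpe (f140426 IH) (Lpr_df (K9.f173692 IH) (Lpe (f173629 IH) (Lpe (f173635 IH) (Lpe (f318494 IH) (Lpr_dt (f238397 IH) (Lpr_gt (f384638 IH) (Lpr_dt (f244288 IH) (Lpe (f178943 IH) (Lpn (LP (LK LD1_c5 LD2_c36 LD3_c38))))))))))))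
theorem f384659 : Led Lsl_df (LP (LK LD1_c7 LD2_c59 LD3_c1)) = (LP (LK LD1_c5 LD2_c36 LD3_c38)) :=
  Lgr Lrot38 (Lpr_dt (f384650 IH) (Lpn (LP (LK LD1_c5 LD2_c36 LD3_c38))))
theorem f289540 : Led Lsl_ft (LP (LK LD1_c5 LD2_c28 LD3_c49)) = (LP (LK LD1_c5 LD2_c36 LD3_c39)) :=
  Lgr Lrot54 (Lpe (K20.f253834 IH) (Lpr_ff (f289537 IH) (Lpe (f178908 IH) (Lpn (LP (LK LD1_c5 LD2_c36 LD3_c39))))))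
theorem f178931 : Led Lsl_at (LP (LK LD1_c5 LD2_c36 LD3_c39)) = (LP (LK LD1_c2 LD2_c44 LD3_c10)) :=
  Lre_a IH (LK LD1_c5 LD2_c36 LD3_c39) (LK LD1_c2 LD2_c44 LD3_c10) Lrfl Lrfl
theorem f289545 : Led Lsl_gt (LP (LK LD1_c5 LD2_c28 LD3_c49)) = (LP (LK LD1_c5 LD2_c36 LD3_c38)) :=
  Lgr Lrot5 (Lpr_ft (f289540 IH) (Lpr_at (f178931 IH) (Lpe (f178920 IH) (Lpn (LP (LK LD1_c5 LD2_c36 LD3_c38))))))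
theorem f384791 : Led Lsl_gt (LP (LK LD1_c10 LD2_c48 LD3_c43)) = (LP (LK LD1_c11 LD2_c5 LD3_c8)) :=
  Lgr Lrot94 (Lpe (K20.f253833 IH) (Lpr_gt (f289545 IH) (Lpe (f384659 IH) (Lpr_gt (f54819 IH) (Lpr_dt (K9.f54825 IH) (Lpe (K16.f54885 IH) (Lpe (K12.f54915 IH) (Lpe (f54921 IH) (Lpr_df (f384788 IH) (Lpn (LP (LK LD1_c11 LD2_c5 LD3_c8))))))))))))
theorem f253724 : Led Lsl_at (LP (LK LD1_c2 LD2_c40 LD3_c41)) = (LP (LK LD1_c5 LD2_c28 LD3_c49)) :=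
  Lre_a IH (LK LD1_c2 LD2_c40 LD3_c41) (LK LD1_c5 LD2_c28 LD3_c49) Lrfl Lrfl
theorem f177923 : Led Lsl_bt (LP (LK LD1_c2 LD2_c44 LD3_c2)) = (LP (LK LD1_c1 LD2_c18 LD3_c23)) :=
  Lre_b IH (LK LD1_c2 LD2_c44 LD3_c2) (LK LD1_c1 LD2_c18 LD3_c23) Lrfl Lrfl
theorem f253725 : Led Lsl_at (LP (LK LD1_c5 LD2_c36 LD3_c20)) = (LP (LK LD1_c2 LD2_c44 LD3_c2)) :=
  Lre_a IH (LK LD1_c5 LD2_c36 LD3_c20) (LK LD1_c2 LD2_c44 LD3_c2) Lrfl Lrfl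
theorem f253726 : Led Lsl_bt (LP (LK LD1_c5 LD2_c28 LD3_c49)) = (LP (LK LD1_c5 LD2_c36 LD3_c20)) :=
  Lgr Lrot62 (Lpe (f253724 IH) (Lpe (K14.f226762 IH) (Lpr_af (K14.f253720 IH) (Lpe (f177923 IH) (Lpe (f253725 IH) (Lpn (LP (LK LD1_c5 LD2_c36 LD3_c20))))))))
theorem f225688 : Led Lsl_bt (LP (LK LD1_c5 LD2_c28 LD3_c60)) = (LP (LK LD1_c2 LD2_c40 LD3_c45)) :=
  Lre_b IH (LK LD1_c5 LD2_c28 LD3_c60) (LK LD1_c2 LD2_c40 LD3_c45) Lrfl Lrfl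
theorem f288004 : Led Lsl_bt (LP (LK LD1_c2 LD2_c42 LD3_c4)) = (LP (LK LD1_c5 LD2_c31 LD3_c50)) :=
  Lre_b IH (LK LD1_c2 LD2_c42 LD3_c4) (LK LD1_c5 LD2_c31 LD3_c50) Lrfl Lrfl
theorem f288005 : Led Lsl_ff (LP (LK LD1_c5 LD2_c28 LD3_c60)) = (LP (LK LD1_c5 LD2_c31 LD3_c50)) :=
  Lgr Lrot25 (Lpr_bt (f225688 IH) (Lpr_ft (K17.f288000 IH) (Lpr_bt (f288004 IH) (Lpn (LP (LK LD1_c5 LD2_c31 LD3_c50))))))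
theorem f173992 : Led Lsl_dt (LP (LK LD1_c5 LD2_c28 LD3_c60)) = (LP (LK LD1_c2 LD2_c40 LD3_c44)) :=
  Lre_d IH (LK LD1_c5 LD2_c28 LD3_c60) (LK LD1_c2 LD2_c40 LD3_c44) Lrfl Lrfl
theorem f225918 : Led Lsl_bt (LP (LK LD1_c5 LD2_c31 LD3_c50)) = (LP (LK LD1_c2 LD2_c42 LD3_c4)) :=
  Lre_b IH (LK LD1_c5 LD2_c31 LD3_c50) (LK LD1_c2 LD2_c42 LD3_c4) Lrfl Lrfl
theorem f178075 : Led Lsl_bt (LP (LK LD1_c1 LD2_c18 LD3_c23)) = (LP (LK LD1_c2 LD2_c44 LD3_c2)) :=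
  Lre_b IH (LK LD1_c1 LD2_c18 LD3_c23) (LK LD1_c2 LD2_c44 LD3_c2) Lrfl Lrfl
theorem f225919 : Led Lsl_df (LP (LK LD1_c5 LD2_c31 LD3_c50)) = (LP (LK LD1_c2 LD2_c44 LD3_c2)) :=
  Lgr Lrot12 (Lpr_bt (f225918 IH) (Lpr_dt (K12.f225824 IH) (Lpr_bt (f178075 IH) (Lpn (LP (LK LD1_c2 LD2_c44 LD3_c2))))))
theorem f288007 : Led Lsl_ft (LP (LK LD1_c2 LD2_c40 LD3_c44)) = (LP (LK LD1_c2 LD2_c44 LD3_c2)) :=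
  Lgr Lrot54 (Lpe (f173992 IH) (Lpr_ff (f288005 IH) (Lpr_df (f225919 IH) (Lpn (LP (LK LD1_c2 LD2_c44 LD3_c2))))))
theorem f173954 : Led Lsl_gt (LP (LK LD1_c2 LD2_c40 LD3_c44)) = (LP (LK LD1_c5 LD2_c28 LD3_c56)) :=
  Lre_g IH (LK LD1_c2 LD2_c40 LD3_c44) (LK LD1_c5 LD2_c28 LD3_c56) Lrfl Lrfl
theorem f288013 : Led Lsl_at (LP (LK LD1_c2 LD2_c44 LD3_c2)) = (LP (LK LD1_c5 LD2_c36 LD3_c20)) :=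
  Lre_a IH (LK LD1_c2 LD2_c44 LD3_c2) (LK LD1_c5 LD2_c36 LD3_c20) Lrfl Lrfl
theorem f288019 : Led Lsl_gt (LP (LK LD1_c5 LD2_c28 LD3_c56)) = (LP (LK LD1_c5 LD2_c36 LD3_c20)) :=
  Lgr Lrot46 (Lpe (f173954 IH) (Lpr_ft (f288007 IH) (Lpr_at (f288013 IH) (Lpn (LP (LK LD1_c5 LD2_c36 LD3_c20))))))
theorem f173998 : Led Lsl_bt (LP (LK LD1_c10 LD2_c48 LD3_c60)) = (LP (LK LD1_c5 LD2_c28 LD3_c56)) :=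
  Lre_b IH (LK LD1_c10 LD2_c48 LD3_c60) (LK LD1_c5 LD2_c28 LD3_c56) Lrfl Lrfl
theorem f183316 : Led Lsl_gt (LP (LK LD1_c4 LD2_c11 LD3_c0)) = (LP (LK LD1_c8 LD2_c21 LD3_c52)) :=
  Lre_g IH (LK LD1_c4 LD2_c11 LD3_c0) (LK LD1_c8 LD2_c21 LD3_c52) Lrfl Lrfl
theorem f183324 : Led Lsl_bt (LP (LK LD1_c15 LD2_c44 LD3_c22)) = (LP (LK LD1_c8 LD2_c21 LD3_c52)) :=
  Lre_b IH (LK LD1_c15 LD2_c44 LD3_c22) (LK LD1_c8 LD2_c21 LD3_c52) Lrfl Lrfl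
theorem f178101 : Led Lsl_ct (LP (LK LD1_c2 LD2_c44 LD3_c10)) = (LP (LK LD1_c5 LD2_c36 LD3_c31)) :=
  Lre_c IH (LK LD1_c2 LD2_c44 LD3_c10) (LK LD1_c5 LD2_c36 LD3_c31) Lrfl Lrfl
theorem f183325 : Led Lsl_ct (LP (LK LD1_c15 LD2_c44 LD3_c22)) = (LP (LK LD1_c11 LD2_c5 LD3_c8)) :=
  Lgr Lrot64 (Lpr_bt (f183324 IH) (Lpe (f183316 IH) (Lpe (K21.f179768 IH) (Lpr_ct (K13.f178878 IH) (Lpr_gf (K9.f183304 IH) (Lpe (K9.f169275 IH) (Lpr_gf (K12.f177861 IH) (Lpe (K20.f178098 IH) (Lpr_ct (f178101 IH) (Lpe (f178102 IH) (Lpn (LP (LK LD1_c11 LD2_c5 LD3_c8)))))))))))))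
theorem f289134 : Led Lsl_bf (LP (LK LD1_c5 LD2_c28 LD3_c28)) = (LP (LK LD1_c8 LD2_c21 LD3_c54)) :=
  Lgr Lrot24 (Lpr_bt (K17.f289131 IH) (Lpn (LP (LK LD1_c8 LD2_c21 LD3_c54))))
theorem f277135 : Led Lsl_cf (LP (LK LD1_c10 LD2_c36 LD3_c0)) = (LP (LK LD1_c5 LD2_c28 LD3_c43)) :=
  Lgr Lrot11 (Lpr_ct (K21.f277117 IH) (Lpn (LP (LK LD1_c5 LD2_c28 LD3_c43))))
theorem f277159 : Led Lsl_at (LP (LK LD1_c10 LD2_c36 LD3_c0)) = (LP (LK LD1_c19 LD2_c11 LD3_c39)) :=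
  Lre_a IH (LK LD1_c10 LD2_c36 LD3_c0) (LK LD1_c19 LD2_c11 LD3_c39) Lrfl Lrfl
theorem f277140 : Led Lsl_at (LP (LK LD1_c10 LD2_c48 LD3_c27)) = (LP (LK LD1_c5 LD2_c28 LD3_c43)) :=
  Lre_a IH (LK LD1_c10 LD2_c48 LD3_c27) (LK LD1_c5 LD2_c28 LD3_c43) Lrfl Lrfl
theorem f277160 : Led Lsl_ct (LP (LK LD1_c19 LD2_c11 LD3_c39)) = (LP (LK LD1_c10 LD2_c48 LD3_c27)) :=
  Lgr Lrot111 (Lpe (f277159 IH) (Lpr_cf (f277135 IH) (Lpe (f277140 IH) (Lpn (LP (LK LD1_c10 LD2_c48 LD3_c27))))))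
theorem f277071 : Led Lsl_et (LP (LK LD1_c10 LD2_c35 LD3_c60)) = (LP (LK LD1_c19 LD2_c11 LD3_c39)) :=
  Lre_e IH (LK LD1_c10 LD2_c35 LD3_c60) (LK LD1_c19 LD2_c11 LD3_c39) Lrfl Lrfl
theorem f277172 : Led Lsl_et (LP (LK LD1_c10 LD2_c48 LD3_c27)) = (LP (LK LD1_c5 LD2_c28 LD3_c41)) :=
  Lre_e IH (LK LD1_c10 LD2_c48 LD3_c27) (LK LD1_c5 LD2_c28 LD3_c41) Lrfl Lrfl
theorem f277173 : Led Lsl_cf (LP (LK LD1_c10 LD2_c35 LD3_c60)) = (LP (LK LD1_c5 LD2_c28 LD3_c41)) :=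
  Lgr Lrot39 (Lpr_et (f277071 IH) (Lpr_ct (f277160 IH) (Lpr_et (f277172 IH) (Lpn (LP (LK LD1_c5 LD2_c28 LD3_c41))))))
theorem f224147 : Led Lsl_bt (LP (LK LD1_c5 LD2_c22 LD3_c51)) = (LP (LK LD1_c2 LD2_c37 LD3_c58)) :=
  Lre_b IH (LK LD1_c5 LD2_c22 LD3_c51) (LK LD1_c2 LD2_c37 LD3_c58) Lrfl Lrfl
theorem f277008 : Led Lsl_ff (LP (LK LD1_c5 LD2_c22 LD3_c51)) = (LP (LK LD1_c8 LD2_c21 LD3_c40)) :=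
  Lgr Lrot25 (Lpr_bt (f224147 IH) (Lpr_ft (K16.f277002 IH) (Lpr_bt (K14.f187029 IH) (Lpn (LP (LK LD1_c8 LD2_c21 LD3_c40))))))
theorem f246533 : Led Lsl_dt (LP (LK LD1_c19 LD2_c20 LD3_c7)) = (LP (LK LD1_c28 LD2_c45 LD3_c5)) :=
  Lre_d IH (LK LD1_c19 LD2_c20 LD3_c7) (LK LD1_c28 LD2_c45 LD3_c5) Lrfl Lrfl
theorem f225346 : Led Lsl_dt (LP (LK LD1_c4 LD2_c11 LD3_c0)) = (LP (LK LD1_c5 LD2_c33 LD3_c16)) :=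
  Lgr Lrot79 (Lpe (K21.f179768 IH) (Lpr_df (K14.f225342 IH) (Lpe (K22.f213414 IH) (Lpn (LP (LK LD1_c5 LD2_c33 LD3_c16))))))
theorem f226335 : Led Lsl_dt (LP (LK LD1_c11 LD2_c0 LD3_c11)) = (LP (LK LD1_c19 LD2_c51 LD3_c13)) :=
  Lre_d IH (LK LD1_c11 LD2_c0 LD3_c11) (LK LD1_c19 LD2_c51 LD3_c13) Lrfl Lrfl
theorem f213039 : Led Lsl_ct (LP (LK LD1_c19 LD2_c20 LD3_c7)) = (LP (LK LD1_c10 LD2_c40 LD3_c42)) :=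
  Lre_c IH (LK LD1_c19 LD2_c20 LD3_c7) (LK LD1_c10 LD2_c40 LD3_c42) Lrfl Lrfl
theorem f213040 : Led Lsl_dt (LP (LK LD1_c28 LD2_c45 LD3_c5)) = (LP (LK LD1_c19 LD2_c20 LD3_c7)) :=
  Lre_d IH (LK LD1_c28 LD2_c45 LD3_c5) (LK LD1_c19 LD2_c20 LD3_c7) Lrfl Lrfl
theorem f246557 : Led Lsl_ct (LP (LK LD1_c19 LD2_c51 LD3_c13)) = (LP (LK LD1_c28 LD2_c45 LD3_c5)) :=
  Lgr Lrot133 (Lpe (f226335 IH) (Lpr_ft (K22.f226364 IH) (Lpr_at (K22.f225422 IH) (Lpe (K22.f225366 IH) (Lpe (f225346 IH) (Lpe (K21.f225400 IH) (Lpr_df (K14.f246540 IH) (Lpe (f213039 IH) (Lpe (f213040 IH) (Lpn (LP (LK LD1_c28 LD2_c45 LD3_c5))))))))))))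
theorem f246562 : Led Lsl_cf (LP (LK LD1_c19 LD2_c51 LD3_c13)) = (LP (LK LD1_c28 LD2_c45 LD3_c5)) :=
  Lgr Lrot11 (Lpr_ct (f246557 IH) (Lpn (LP (LK LD1_c28 LD2_c45 LD3_c5))))
theorem f226338 : Led Lsl_dt (LP (LK LD1_c19 LD2_c51 LD3_c13)) = (LP (LK LD1_c11 LD2_c0 LD3_c11)) :=
  Lre_d IH (LK LD1_c19 LD2_c51 LD3_c13) (LK LD1_c11 LD2_c0 LD3_c11) Lrfl Lrfl
theorem f226330 : Led Lsl_ct (LP (LK LD1_c11 LD2_c0 LD3_c11)) = (LP (LK LD1_c5 LD2_c34 LD3_c0)) :=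
  Lre_c IH (LK LD1_c11 LD2_c0 LD3_c11) (LK LD1_c5 LD2_c34 LD3_c0) Lrfl Lrfl
theorem f277176 : Led Lsl_dt (LP (LK LD1_c5 LD2_c34 LD3_c0)) = (LP (LK LD1_c5 LD2_c28 LD3_c41)) :=
  Lgr Lrot120 (Lpe (f226330 IH) (Lpe (f226338 IH) (Lpr_cf (f246562 IH) (Lpe (f246533 IH) (Lpe (K14.f246497 IH) (Lpe (K14.f246553 IH) (Lpe (f277008 IH) (Lpr_at (K17.f277075 IH) (Lpr_cf (f277173 IH) (Lpn (LP (LK LD1_c5 LD2_c28 LD3_c41))))))))))))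
theorem f225392 : Led Lsl_at (LP (LK LD1_c4 LD2_c11 LD3_c0)) = (LP (LK LD1_c8 LD2_c21 LD3_c54)) :=
  Lre_a IH (LK LD1_c4 LD2_c11 LD3_c0) (LK LD1_c8 LD2_c21 LD3_c54) Lrfl Lrfl
theorem f225394 : Led Lsl_dt (LP (LK LD1_c8 LD2_c21 LD3_c54)) = (LP (LK LD1_c10 LD2_c58 LD3_c30)) :=
  Lgr Lrot44 (Lpe (f225392 IH) (Lpr_df (K14.f225388 IH) (Lpe (K22.f225393 IH) (Lpn (LP (LK LD1_c10 LD2_c58 LD3_c30))))))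
theorem f277183 : Led Lsl_ff (LP (LK LD1_c8 LD2_c21 LD3_c54)) = (LP (LK LD1_c5 LD2_c28 LD3_c41)) :=
  Lgr Lrot19 (Lpr_dt (f225394 IH) (Lpe (K22.f226362 IH) (Lpr_dt (f277176 IH) (Lpn (LP (LK LD1_c5 LD2_c28 LD3_c41))))))
theorem f341310 : Led Lsl_bt (LP (LK LD1_c8 LD2_c56 LD3_c8)) = (LP (LK LD1_c5 LD2_c28 LD3_c41)) :=
  Lgr Lrot35 (Lpr_ff (K27.f341298 IH) (Lpr_bf (f289134 IH) (Lpr_ff (f277183 IH) (Lpn (LP (LK LD1_c5 LD2_c28 LD3_c41))))))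
theorem f384812 : Led Lsl_gf (LP (LK LD1_c5 LD2_c28 LD3_c41)) = (LP (LK LD1_c8 LD2_c21 LD3_c52)) :=
  Lgr Lrot124 (Lpe (f341310 IH) (Lpr_ct (f225890 IH) (Lpr_gt (f341318 IH) (Lpr_cf (f178119 IH) (Lpr_bt (f178118 IH) (Lpr_gt (f332631 IH) (Lpr_ct (K20.f253833 IH) (Lpr_gt (f384791 IH) (Lpe (f183325 IH) (Lpr_bt (f183324 IH) (Lpn (LP (LK LD1_c8 LD2_c21 LD3_c52)))))))))))))
theorem f277188 : Led Lsl_ft (LP (LK LD1_c8 LD2_c21 LD3_c54)) = (LP (LK LD1_c5 LD2_c28 LD3_c41)) :=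
  Lgr Lrot48 (Lpr_ff (f277183 IH) (Lpn (LP (LK LD1_c5 LD2_c28 LD3_c41))))
theorem f225406 : Led Lsl_ct (LP (LK LD1_c15 LD2_c44 LD3_c9)) = (LP (LK LD1_c8 LD2_c21 LD3_c54)) :=
  Lre_c IH (LK LD1_c15 LD2_c44 LD3_c9) (LK LD1_c8 LD2_c21 LD3_c54) Lrfl Lrfl
theorem f277192 : Led Lsl_ff (LP (LK LD1_c15 LD2_c44 LD3_c9)) = (LP (LK LD1_c10 LD2_c35 LD3_c60)) :=
  Lgr Lrot23 (Lpr_ct (f225406 IH) (Lpr_ft (f277188 IH) (Lpe (f277173 IH) (Lpn (LP (LK LD1_c10 LD2_c35 LD3_c60))))))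
theorem f225399 : Led Lsl_at (LP (LK LD1_c15 LD2_c44 LD3_c9)) = (LP (LK LD1_c8 LD2_c21 LD3_c40)) :=
  Lre_a IH (LK LD1_c15 LD2_c44 LD3_c9) (LK LD1_c8 LD2_c21 LD3_c40) Lrfl Lrfl
theorem f225402 : Led Lsl_gt (LP (LK LD1_c15 LD2_c44 LD3_c8)) = (LP (LK LD1_c8 LD2_c21 LD3_c40)) :=
  Lre_g IH (LK LD1_c15 LD2_c44 LD3_c8) (LK LD1_c8 LD2_c21 LD3_c40) Lrfl Lrfl
theorem f277262 : Led Lsl_gf (LP (LK LD1_c15 LD2_c44 LD3_c8)) = (LP (LK LD1_c10 LD2_c35 LD3_c60)) :=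
  Lgr Lrot47 (Lpr_gt (f225402 IH) (Lpe (f225399 IH) (Lpr_ff (f277192 IH) (Lpn (LP (LK LD1_c10 LD2_c35 LD3_c60))))))
theorem f384814 : Led Lsl_ct (LP (LK LD1_c10 LD2_c48 LD3_c60)) = (LP (LK LD1_c15 LD2_c44 LD3_c8)) :=
  Lgr Lrot63 (Lpr_bt (f173998 IH) (Lpr_gt (f288019 IH) (Lpe (f253726 IH) (Lpr_ct (K20.f253833 IH) (Lpr_gt (f384791 IH) (Lpe (f183325 IH) (Lpr_bt (f183324 IH) (Lpe (f384812 IH) (Lpe (f277173 IH) (Lpe (f277262 IH) (Lpn (LP (LK LD1_c15 LD2_c44 LD3_c8)))))))))))))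
theorem f384821 : Led Lsl_cf (LP (LK LD1_c10 LD2_c48 LD3_c60)) = (LP (LK LD1_c15 LD2_c44 LD3_c8)) :=
  Lgr Lrot11 (Lpr_ct (f384814 IH) (Lpn (LP (LK LD1_c15 LD2_c44 LD3_c8))))
theorem f277413 : Led Lsl_bf (LP (LK LD1_c10 LD2_c35 LD3_c60)) = (LP (LK LD1_c19 LD2_c3 LD3_c26)) :=
  Lgr Lrot24 (Lpr_bt (K17.f277411 IH) (Lpn (LP (LK LD1_c19 LD2_c3 LD3_c26))))
theorem f223315 : Led Lsl_at (LP (LK LD1_c10 LD2_c30 LD3_c56)) = (LP (LK LD1_c19 LD2_c3 LD3_c26)) :=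
  Lre_a IH (LK LD1_c10 LD2_c30 LD3_c56) (LK LD1_c19 LD2_c3 LD3_c26) Lrfl Lrfl
theorem f223316 : Led Lsl_ct (LP (LK LD1_c19 LD2_c3 LD3_c26)) = (LP (LK LD1_c25 LD2_c7 LD3_c55)) :=
  Lgr Lrot111 (Lpe (f223315 IH) (Lpr_cf (K17.f223308 IH) (Lpe (K17.f223310 IH) (Lpn (LP (LK LD1_c25 LD2_c7 LD3_c55))))))
theorem f289088 : Led Lsl_gt (LP (LK LD1_c8 LD2_c53 LD3_c21)) = (LP (LK LD1_c16 LD2_c37 LD3_c13)) :=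
  Lre_g IH (LK LD1_c8 LD2_c53 LD3_c21) (LK LD1_c16 LD2_c37 LD3_c13) Lrfl Lrfl
theorem f289114 : Led Lsl_gt (LP (LK LD1_c16 LD2_c37 LD3_c13)) = (LP (LK LD1_c25 LD2_c7 LD3_c55)) :=
  Lgr Lrot46 (Lpe (f289088 IH) (Lpr_ft (K17.f289086 IH) (Lpr_at (K17.f223305 IH) (Lpn (LP (LK LD1_c25 LD2_c7 LD3_c55))))))
theorem f289091 : Led Lsl_ct (LP (LK LD1_c26 LD2_c34 LD3_c25)) = (LP (LK LD1_c16 LD2_c37 LD3_c13)) :=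
  Lre_c IH (LK LD1_c26 LD2_c34 LD3_c25) (LK LD1_c16 LD2_c37 LD3_c13) Lrfl Lrfl
theorem f224407 : Led Lsl_gt (LP (LK LD1_c10 LD2_c35 LD3_c48)) = (LP (LK LD1_c5 LD2_c22 LD3_c45)) :=
  Lre_g IH (LK LD1_c10 LD2_c35 LD3_c48) (LK LD1_c5 LD2_c22 LD3_c45) Lrfl Lrfl
theorem f224408 : Led Lsl_bt (LP (LK LD1_c19 LD2_c11 LD3_c22)) = (LP (LK LD1_c10 LD2_c35 LD3_c48)) :=
  Lre_b IH (LK LD1_c19 LD2_c11 LD3_c22) (LK LD1_c10 LD2_c35 LD3_c48) Lrfl Lrfl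
theorem f211421 : Led Lsl_ct (LP (LK LD1_c1 LD2_c16 LD3_c8)) = (LP (LK LD1_c0 LD2_c35 LD3_c16)) :=
  Lre_c IH (LK LD1_c1 LD2_c16 LD3_c8) (LK LD1_c0 LD2_c35 LD3_c16) Lrfl Lrfl
theorem f219765 : Led Lsl_bt (LP (LK LD1_c1 LD2_c16 LD3_c8)) = (LP (LK LD1_c2 LD2_c38 LD3_c24)) :=
  Lre_b IH (LK LD1_c1 LD2_c16 LD3_c8) (LK LD1_c2 LD2_c38 LD3_c24) Lrfl Lrfl
theorem f219766 : Led Lsl_gt (LP (LK LD1_c2 LD2_c38 LD3_c24)) = (LP (LK LD1_c5 LD2_c23 LD3_c40)) :=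
  Lre_g IH (LK LD1_c2 LD2_c38 LD3_c24) (LK LD1_c5 LD2_c23 LD3_c40) Lrfl Lrfl
theorem f224196 : Led Lsl_ct (LP (LK LD1_c5 LD2_c23 LD3_c40)) = (LP (LK LD1_c10 LD2_c37 LD3_c49)) :=
  Lre_c IH (LK LD1_c5 LD2_c23 LD3_c40) (LK LD1_c10 LD2_c37 LD3_c49) Lrfl Lrfl
theorem f224405 : Led Lsl_gt (LP (LK LD1_c10 LD2_c37 LD3_c49)) = (LP (LK LD1_c19 LD2_c15 LD3_c11)) :=
  Lre_g IH (LK LD1_c10 LD2_c37 LD3_c49) (LK LD1_c19 LD2_c15 LD3_c11) Lrfl Lrfl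
theorem f224406 : Led Lsl_bt (LP (LK LD1_c2 LD2_c37 LD3_c56)) = (LP (LK LD1_c5 LD2_c22 LD3_c45)) :=
  Lre_b IH (LK LD1_c2 LD2_c37 LD3_c56) (LK LD1_c5 LD2_c22 LD3_c45) Lrfl Lrfl
theorem f224409 : Led Lsl_cf (LP (LK LD1_c19 LD2_c15 LD3_c11)) = (LP (LK LD1_c19 LD2_c11 LD3_c22)) :=
  Lgr Lrot163 (Lpe (f224405 IH) (Lpe (f224196 IH) (Lpe (f219766 IH) (Lpe (f219765 IH) (Lpr_ct (f211421 IH) (Lpr_gf (K15.f224347 IH) (Lpe (K15.f224349 IH) (Lpr_bt (f224406 IH) (Lpe (f224407 IH) (Lpe (f224408 IH) (Lpn (LP (LK LD1_c19 LD2_c11 LD3_c22)))))))))))))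
theorem f224422 : Led Lsl_bt (LP (LK LD1_c5 LD2_c23 LD3_c40)) = (LP (LK LD1_c10 LD2_c37 LD3_c48)) :=
  Lre_b IH (LK LD1_c5 LD2_c23 LD3_c40) (LK LD1_c10 LD2_c37 LD3_c48) Lrfl Lrfl
theorem f224423 : Led Lsl_gt (LP (LK LD1_c19 LD2_c15 LD3_c7)) = (LP (LK LD1_c10 LD2_c37 LD3_c48)) :=
  Lre_g IH (LK LD1_c19 LD2_c15 LD3_c7) (LK LD1_c10 LD2_c37 LD3_c48) Lrfl Lrfl
theorem f289092 : Led Lsl_bt (LP (LK LD1_c26 LD2_c34 LD3_c25)) = (LP (LK LD1_c19 LD2_c15 LD3_c7)) :=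
  Lgr Lrot22 (Lpr_ct (f289091 IH) (Lpe (f289088 IH) (Lpr_cf (K17.f289075 IH) (Lpe (f224407 IH) (Lpe (f224408 IH) (Lpe (f224409 IH) (Lpe (f224405 IH) (Lpe (f224196 IH) (Lpr_bt (f224422 IH) (Lpe (f224423 IH) (Lpn (LP (LK LD1_c19 LD2_c15 LD3_c7)))))))))))))
theorem f334195 : Led Lsl_bt (LP (LK LD1_c16 LD2_c37 LD3_c25)) = (LP (LK LD1_c26 LD2_c34 LD3_c44)) :=
  Lre_b IH (LK LD1_c16 LD2_c37 LD3_c25) (LK LD1_c26 LD2_c34 LD3_c44) Lrfl Lrfl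
theorem f199593 : Led Lsl_bt (LP (LK LD1_c19 LD2_c31 LD3_c41)) = (LP (LK LD1_c10 LD2_c47 LD3_c44)) :=
  Lre_b IH (LK LD1_c19 LD2_c31 LD3_c41) (LK LD1_c10 LD2_c47 LD3_c44) Lrfl Lrfl
theorem f382818 : Led Lsl_ft (LP (LK LD1_c26 LD2_c34 LD3_c44)) = (LP (LK LD1_c19 LD2_c31 LD3_c41)) :=
  Lgr Lrot75 (Lpe (f334195 IH) (Lpr_ff (f382816 IH) (Lpe (f199593 IH) (Lpn (LP (LK LD1_c19 LD2_c31 LD3_c41))))))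
theorem f334156 : Led Lsl_cf (LP (LK LD1_c9 LD2_c0 LD3_c35)) = (LP (LK LD1_c8 LD2_c53 LD3_c32)) :=
  Lgr Lrot108 (Lpr_ft (K21.f238184 IH) (Lpr_ct (K27.f334151 IH) (Lpr_ft (K27.f334143 IH) (Lpn (LP (LK LD1_c8 LD2_c53 LD3_c32))))))
theorem f238144 : Led Lsl_bt (LP (LK LD1_c9 LD2_c0 LD3_c38)) = (LP (LK LD1_c16 LD2_c50 LD3_c8)) :=
  Lre_b IH (LK LD1_c9 LD2_c0 LD3_c38) (LK LD1_c16 LD2_c50 LD3_c8) Lrfl Lrfl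
theorem f326452 : Led Lsl_bt (LP (LK LD1_c16 LD2_c37 LD3_c38)) = (LP (LK LD1_c8 LD2_c53 LD3_c32)) :=
  Lre_b IH (LK LD1_c16 LD2_c37 LD3_c38) (LK LD1_c8 LD2_c53 LD3_c32) Lrfl Lrfl
theorem f334158 : Led Lsl_ct (LP (LK LD1_c16 LD2_c50 LD3_c8)) = (LP (LK LD1_c16 LD2_c37 LD3_c38)) :=
  Lgr Lrot83 (Lpe (f238144 IH) (Lpe (K21.f238138 IH) (Lpe (K20.f238089 IH) (Lpr_cf (f334156 IH) (Lpe (f326452 IH) (Lpn (LP (LK LD1_c16 LD2_c37 LD3_c38))))))))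
theorem f317121 : Led Lsl_et (LP (LK LD1_c9 LD2_c0 LD3_c36)) = (LP (LK LD1_c16 LD2_c50 LD3_c8)) :=
  Lre_e IH (LK LD1_c9 LD2_c0 LD3_c36) (LK LD1_c16 LD2_c50 LD3_c8) Lrfl Lrfl
theorem f334173 : Led Lsl_et (LP (LK LD1_c16 LD2_c37 LD3_c38)) = (LP (LK LD1_c8 LD2_c53 LD3_c30)) :=
  Lre_e IH (LK LD1_c16 LD2_c37 LD3_c38) (LK LD1_c8 LD2_c53 LD3_c30) Lrfl Lrfl
theorem f334174 : Led Lsl_cf (LP (LK LD1_c9 LD2_c0 LD3_c36)) = (LP (LK LD1_c8 LD2_c53 LD3_c30)) :=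
  Lgr Lrot39 (Lpr_et (f317121 IH) (Lpr_ct (f334158 IH) (Lpr_et (f334173 IH) (Lpn (LP (LK LD1_c8 LD2_c53 LD3_c30))))))
theorem f293450 : Led Lsl_gt (LP (LK LD1_c16 LD2_c50 LD3_c5)) = (LP (LK LD1_c9 LD2_c0 LD3_c36)) :=
  Lre_g IH (LK LD1_c16 LD2_c50 LD3_c5) (LK LD1_c9 LD2_c0 LD3_c36) Lrfl Lrfl
theorem f278655 : Led Lsl_bt (LP (LK LD1_c8 LD2_c53 LD3_c30)) = (LP (LK LD1_c4 LD2_c27 LD3_c50)) :=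
  Lre_b IH (LK LD1_c8 LD2_c53 LD3_c30) (LK LD1_c4 LD2_c27 LD3_c50) Lrfl Lrfl
theorem f191922 : Led Lsl_bt (LP (LK LD1_c26 LD2_c34 LD3_c44)) = (LP (LK LD1_c16 LD2_c37 LD3_c25)) :=
  Lre_b IH (LK LD1_c26 LD2_c34 LD3_c44) (LK LD1_c16 LD2_c37 LD3_c25) Lrfl Lrfl
theorem f334193 : Led Lsl_cf (LP (LK LD1_c16 LD2_c50 LD3_c5)) = (LP (LK LD1_c26 LD2_c34 LD3_c44)) :=
  Lgr Lrot160 (Lpr_gt (f293450 IH) (Lpr_cf (f334174 IH) (Lpr_bt (f278655 IH) (Lpr_gt (K20.f278683 IH) (Lpr_ct (K16.f191919 IH) (Lpr_gt (K14.f191902 IH) (Lpe (K14.f191889 IH) (Lpr_bt (K27.f191920 IH) (Lpr_gt (f191921 IH) (Lpe (f191922 IH) (Lpn (LP (LK LD1_c26 LD2_c34 LD3_c44)))))))))))))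
theorem f334196 : Led Lsl_ct (LP (LK LD1_c16 LD2_c50 LD3_c5)) = (LP (LK LD1_c26 LD2_c34 LD3_c44)) :=
  Lgr Lrot59 (Lpr_cf (f334193 IH) (Lpn (LP (LK LD1_c26 LD2_c34 LD3_c44))))
theorem f199499 : Led Lsl_bt (LP (LK LD1_c11 LD2_c3 LD3_c11)) = (LP (LK LD1_c5 LD2_c35 LD3_c31)) :=
  Lre_b IH (LK LD1_c11 LD2_c3 LD3_c11) (LK LD1_c5 LD2_c35 LD3_c31) Lrfl Lrfl
theorem f199503 : Led Lsl_ct (LP (LK LD1_c11 LD2_c3 LD3_c11)) = (LP (LK LD1_c5 LD2_c35 LD3_c33)) :=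
  Lre_c IH (LK LD1_c11 LD2_c3 LD3_c11) (LK LD1_c5 LD2_c35 LD3_c33) Lrfl Lrfl
theorem f199504 : Led Lsl_gt (LP (LK LD1_c11 LD2_c3 LD3_c16)) = (LP (LK LD1_c5 LD2_c35 LD3_c33)) :=
  Lre_g IH (LK LD1_c11 LD2_c3 LD3_c16) (LK LD1_c5 LD2_c35 LD3_c33) Lrfl Lrfl
theorem f199594 : Led Lsl_cf (LP (LK LD1_c11 LD2_c3 LD3_c16)) = (LP (LK LD1_c19 LD2_c31 LD3_c41)) :=
  Lgr Lrot160 (Lpr_gt (f199504 IH) (Lpe (f199503 IH) (Lpr_bt (f199499 IH) (Lpe (K15.f199492 IH) (Lpr_ct (K15.f28924 IH) (Lpr_gt (K12.f199588 IH) (Lpe (K16.f7846 IH) (Lpr_bt (K27.f7849 IH) (Lpr_gt (K27.f7850 IH) (Lpe (f199593 IH) (Lpn (LP (LK LD1_c19 LD2_c31 LD3_c41)))))))))))))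
theorem f382824 : Led Lsl_ff (LP (LK LD1_c16 LD2_c50 LD3_c5)) = (LP (LK LD1_c11 LD2_c3 LD3_c16)) :=
  Lgr Lrot23 (Lpr_ct (f334196 IH) (Lpr_ft (f382818 IH) (Lpe (f199594 IH) (Lpn (LP (LK LD1_c11 LD2_c3 LD3_c16))))))
theorem f382826 : Led Lsl_ft (LP (LK LD1_c16 LD2_c50 LD3_c5)) = (LP (LK LD1_c11 LD2_c3 LD3_c16)) :=
  Lgr Lrot48 (Lpr_ff (f382824 IH) (Lpn (LP (LK LD1_c11 LD2_c3 LD3_c16))))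
theorem f238088 : Led Lsl_gt (LP (LK LD1_c9 LD2_c0 LD3_c36)) = (LP (LK LD1_c16 LD2_c50 LD3_c4)) :=
  Lre_g IH (LK LD1_c9 LD2_c0 LD3_c36) (LK LD1_c16 LD2_c50 LD3_c4) Lrfl Lrfl
theorem f382845 : Led Lsl_af (LP (LK LD1_c16 LD2_c50 LD3_c4)) = (LP (LK LD1_c11 LD2_c3 LD3_c16)) :=
  Lgr Lrot31 (Lpe (f238088 IH) (Lpe (f293450 IH) (Lpr_ft (f382826 IH) (Lpn (LP (LK LD1_c11 LD2_c3 LD3_c16))))))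
theorem f199489 : Led Lsl_gt (LP (LK LD1_c5 LD2_c35 LD3_c33)) = (LP (LK LD1_c11 LD2_c3 LD3_c15)) :=
  Lre_g IH (LK LD1_c5 LD2_c35 LD3_c33) (LK LD1_c11 LD2_c3 LD3_c15) Lrfl Lrfl
theorem f382828 : Led Lsl_at (LP (LK LD1_c16 LD2_c50 LD3_c5)) = (LP (LK LD1_c11 LD2_c3 LD3_c15)) :=
  Lgr Lrot26 (Lpr_ff (f382824 IH) (Lpr_gt (f199504 IH) (Lpr_gt (f199489 IH) (Lpn (LP (LK LD1_c11 LD2_c3 LD3_c15))))))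
theorem f382830 : Led Lsl_af (LP (LK LD1_c16 LD2_c50 LD3_c5)) = (LP (LK LD1_c11 LD2_c3 LD3_c15)) :=
  Lgr Lrot0 (Lpr_at (f382828 IH) (Lpn (LP (LK LD1_c11 LD2_c3 LD3_c15))))
theorem f382851 : Led Lsl_ft (LP (LK LD1_c16 LD2_c50 LD3_c4)) = (LP (LK LD1_c11 LD2_c3 LD3_c15)) :=
  Lgr Lrot101 (Lpr_af (f382845 IH) (Lpe (f382826 IH) (Lpr_af (f382830 IH) (Lpn (LP (LK LD1_c11 LD2_c3 LD3_c15))))))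
theorem f382855 : Led Lsl_ff (LP (LK LD1_c16 LD2_c50 LD3_c4)) = (LP (LK LD1_c11 LD2_c3 LD3_c15)) :=
  Lgr Lrot3 (Lpr_ft (f382851 IH) (Lpn (LP (LK LD1_c11 LD2_c3 LD3_c15))))
theorem f382847 : Led Lsl_at (LP (LK LD1_c16 LD2_c50 LD3_c4)) = (LP (LK LD1_c11 LD2_c3 LD3_c16)) :=
  Lgr Lrot100 (Lpr_af (f382845 IH) (Lpn (LP (LK LD1_c11 LD2_c3 LD3_c16))))
theorem f317113 : Led Lsl_at (LP (LK LD1_c9 LD2_c0 LD3_c36)) = (LP (LK LD1_c16 LD2_c50 LD3_c6)) :=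
  Lre_a IH (LK LD1_c9 LD2_c0 LD3_c36) (LK LD1_c16 LD2_c50 LD3_c6) Lrfl Lrfl
theorem f317125 : Led Lsl_gf (LP (LK LD1_c16 LD2_c50 LD3_c6)) = (LP (LK LD1_c11 LD2_c3 LD3_c15)) :=
  Lgr Lrot76 (Lpe (f317113 IH) (Lpr_ff (K20.f317100 IH) (Lpr_gt (f199489 IH) (Lpn (LP (LK LD1_c11 LD2_c3 LD3_c15))))))
theorem f382901 : Led Lsl_gf (LP (LK LD1_c11 LD2_c3 LD3_c16)) = (LP (LK LD1_c16 LD2_c50 LD3_c6)) :=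
  Lgr Lrot76 (Lpe (f382847 IH) (Lpr_ff (f382855 IH) (Lpe (f317125 IH) (Lpn (LP (LK LD1_c16 LD2_c50 LD3_c6))))))
theorem f341416 : Led Lsl_gf (LP (LK LD1_c16 LD2_c37 LD3_c27)) = (LP (LK LD1_c10 LD2_c47 LD3_c44)) :=
  Lgr Lrot76 (Lpe (K27.f225901 IH) (Lpr_ff (f341242 IH) (Lpr_gt (K27.f7850 IH) (Lpn (LP (LK LD1_c10 LD2_c47 LD3_c44))))))
theorem f341316 : Led Lsl_bf (LP (LK LD1_c16 LD2_c37 LD3_c27)) = (LP (LK LD1_c25 LD2_c7 LD3_c55)) :=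
  Lgr Lrot61 (Lpr_ft (f341312 IH) (Lpe (K16.f279091 IH) (Lpr_ft (K17.f289117 IH) (Lpn (LP (LK LD1_c25 LD2_c7 LD3_c55))))))
theorem f277419 : Led Lsl_gf (LP (LK LD1_c10 LD2_c35 LD3_c48)) = (LP (LK LD1_c19 LD2_c3 LD3_c26)) :=
  Lgr Lrot47 (Lpr_gt (f224407 IH) (Lpe (K17.f276889 IH) (Lpr_ff (K17.f277415 IH) (Lpn (LP (LK LD1_c19 LD2_c3 LD3_c26))))))
theorem f224417 : Led Lsl_ct (LP (LK LD1_c19 LD2_c11 LD3_c23)) = (LP (LK LD1_c10 LD2_c35 LD3_c48)) :=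
  Lre_c IH (LK LD1_c19 LD2_c11 LD3_c23) (LK LD1_c10 LD2_c35 LD3_c48) Lrfl Lrfl
theorem f199500 : Led Lsl_ct (LP (LK LD1_c5 LD2_c35 LD3_c33)) = (LP (LK LD1_c11 LD2_c3 LD3_c11)) :=
  Lre_c IH (LK LD1_c5 LD2_c35 LD3_c33) (LK LD1_c11 LD2_c3 LD3_c11) Lrfl Lrfl
theorem f334188 : Led Lsl_ft (LP (LK LD1_c11 LD2_c3 LD3_c11)) = (LP (LK LD1_c8 LD2_c53 LD3_c30)) :=
  Lgr Lrot4 (Lpe (f199500 IH) (Lpe (K20.f317090 IH) (Lpr_cf (f334174 IH) (Lpn (LP (LK LD1_c8 LD2_c53 LD3_c30))))))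
theorem f334209 : Led Lsl_et (LP (LK LD1_c19 LD2_c54 LD3_c54)) = (LP (LK LD1_c11 LD2_c3 LD3_c11)) :=
  Lre_e IH (LK LD1_c19 LD2_c54 LD3_c54) (LK LD1_c11 LD2_c3 LD3_c11) Lrfl Lrfl
theorem f334210 : Led Lsl_ft (LP (LK LD1_c29 LD2_c10 LD3_c39)) = (LP (LK LD1_c19 LD2_c54 LD3_c54)) :=
  Lre_f IH (LK LD1_c29 LD2_c10 LD3_c39) (LK LD1_c19 LD2_c54 LD3_c54) Lrfl Lrfl
theorem f334211 : Led Lsl_et (LP (LK LD1_c8 LD2_c53 LD3_c30)) = (LP (LK LD1_c16 LD2_c37 LD3_c38)) :=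
  Lre_e IH (LK LD1_c8 LD2_c53 LD3_c30) (LK LD1_c16 LD2_c37 LD3_c38) Lrfl Lrfl
theorem f334176 : Led Lsl_ft (LP (LK LD1_c16 LD2_c37 LD3_c38)) = (LP (LK LD1_c26 LD2_c35 LD3_c2)) :=
  Lre_f IH (LK LD1_c16 LD2_c37 LD3_c38) (LK LD1_c26 LD2_c35 LD3_c2) Lrfl Lrfl
theorem f334212 : Led Lsl_ef (LP (LK LD1_c29 LD2_c10 LD3_c39)) = (LP (LK LD1_c26 LD2_c35 LD3_c2)) :=
  Lgr Lrot21 (Lpr_ft (f334210 IH) (Lpr_et (f334209 IH) (Lpr_ft (f334188 IH) (Lpr_et (f334211 IH) (Lpr_ft (f334176 IH) (Lpn (LP (LK LD1_c26 LD2_c35 LD3_c2))))))))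
theorem f334226 : Led Lsl_et (LP (LK LD1_c29 LD2_c10 LD3_c39)) = (LP (LK LD1_c26 LD2_c35 LD3_c2)) :=
  Lgr Lrot87 (Lpr_ef (f334212 IH) (Lpn (LP (LK LD1_c26 LD2_c35 LD3_c2))))
theorem f333895 : Led Lsl_at (LP (LK LD1_c32 LD2_c43 LD3_c1)) = (LP (LK LD1_c29 LD2_c10 LD3_c39)) :=
  Lre_a IH (LK LD1_c32 LD2_c43 LD3_c1) (LK LD1_c29 LD2_c10 LD3_c39) Lrfl Lrfl
theorem f334138 : Led Lsl_at (LP (LK LD1_c26 LD2_c35 LD3_c2)) = (LP (LK LD1_c32 LD2_c11 LD3_c22)) :=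
  Lre_a IH (LK LD1_c26 LD2_c35 LD3_c2) (LK LD1_c32 LD2_c11 LD3_c22) Lrfl Lrfl
theorem f334229 : Led Lsl_ef (LP (LK LD1_c32 LD2_c43 LD3_c1)) = (LP (LK LD1_c32 LD2_c11 LD3_c22)) :=
  Lgr Lrot20 (Lpr_at (f333895 IH) (Lpr_et (f334226 IH) (Lpr_at (f334138 IH) (Lpn (LP (LK LD1_c32 LD2_c11 LD3_c22))))))
theorem f334235 : Led Lsl_ft (LP (LK LD1_c32 LD2_c43 LD3_c1)) = (LP (LK LD1_c29 LD2_c10 LD3_c35)) :=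
  Lre_f IH (LK LD1_c32 LD2_c43 LD3_c1) (LK LD1_c29 LD2_c10 LD3_c35) Lrfl Lrfl
theorem f334236 : Led Lsl_et (LP (LK LD1_c29 LD2_c10 LD3_c35)) = (LP (LK LD1_c19 LD2_c54 LD3_c53)) :=
  Lre_e IH (LK LD1_c29 LD2_c10 LD3_c35) (LK LD1_c19 LD2_c54 LD3_c53) Lrfl Lrfl
theorem f334237 : Led Lsl_ft (LP (LK LD1_c26 LD2_c34 LD3_c58)) = (LP (LK LD1_c32 LD2_c11 LD3_c22)) :=
  Lre_f IH (LK LD1_c26 LD2_c34 LD3_c58) (LK LD1_c32 LD2_c11 LD3_c22) Lrfl Lrfl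
theorem f334238 : Led Lsl_et (LP (LK LD1_c16 LD2_c37 LD3_c36)) = (LP (LK LD1_c26 LD2_c34 LD3_c58)) :=
  Lre_e IH (LK LD1_c16 LD2_c37 LD3_c36) (LK LD1_c26 LD2_c34 LD3_c58) Lrfl Lrfl
theorem f334239 : Led Lsl_ft (LP (LK LD1_c19 LD2_c54 LD3_c53)) = (LP (LK LD1_c16 LD2_c37 LD3_c36)) :=
  Lgr Lrot86 (Lpe (f334236 IH) (Lpe (f334235 IH) (Lpr_ef (f334229 IH) (Lpe (f334237 IH) (Lpe (f334238 IH) (Lpn (LP (LK LD1_c16 LD2_c37 LD3_c36))))))))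
theorem f317107 : Led Lsl_ct (LP (LK LD1_c11 LD2_c3 LD3_c17)) = (LP (LK LD1_c19 LD2_c54 LD3_c53)) :=
  Lre_c IH (LK LD1_c11 LD2_c3 LD3_c17) (LK LD1_c19 LD2_c54 LD3_c53) Lrfl Lrfl
theorem f317114 : Led Lsl_at (LP (LK LD1_c11 LD2_c3 LD3_c17)) = (LP (LK LD1_c5 LD2_c35 LD3_c33)) :=
  Lre_a IH (LK LD1_c11 LD2_c3 LD3_c17) (LK LD1_c5 LD2_c35 LD3_c33) Lrfl Lrfl
theorem f317115 : Led Lsl_ft (LP (LK LD1_c16 LD2_c50 LD3_c6)) = (LP (LK LD1_c11 LD2_c3 LD3_c17)) :=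
  Lgr Lrot101 (Lpe (f317113 IH) (Lpr_ff (K20.f317100 IH) (Lpe (f317114 IH) (Lpn (LP (LK LD1_c11 LD2_c3 LD3_c17))))))
theorem f334243 : Led Lsl_cf (LP (LK LD1_c16 LD2_c50 LD3_c6)) = (LP (LK LD1_c16 LD2_c37 LD3_c36)) :=
  Lgr Lrot108 (Lpr_ft (f317115 IH) (Lpr_ct (f317107 IH) (Lpr_ft (f334239 IH) (Lpn (LP (LK LD1_c16 LD2_c37 LD3_c36))))))
theorem f219326 : Led Lsl_gt (LP (LK LD1_c11 LD2_c3 LD3_c11)) = (LP (LK LD1_c19 LD2_c54 LD3_c51)) :=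
  Lre_g IH (LK LD1_c11 LD2_c3 LD3_c11) (LK LD1_c19 LD2_c54 LD3_c51) Lrfl Lrfl
theorem f334206 : Led Lsl_at (LP (LK LD1_c8 LD2_c53 LD3_c30)) = (LP (LK LD1_c16 LD2_c37 LD3_c36)) :=
  Lre_a IH (LK LD1_c8 LD2_c53 LD3_c30) (LK LD1_c16 LD2_c37 LD3_c36) Lrfl Lrfl
theorem f334214 : Led Lsl_gt (LP (LK LD1_c19 LD2_c54 LD3_c51)) = (LP (LK LD1_c16 LD2_c37 LD3_c36)) :=
  Lgr Lrot46 (Lpe (f219326 IH) (Lpr_ft (f334188 IH) (Lpr_at (f334206 IH) (Lpn (LP (LK LD1_c16 LD2_c37 LD3_c36))))))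
theorem f382903 : Led Lsl_bt (LP (LK LD1_c19 LD2_c11 LD3_c23)) = (LP (LK LD1_c19 LD2_c54 LD3_c51)) :=
  Lgr Lrot130 (Lpr_ct (f224417 IH) (Lpr_gf (f277419 IH) (Lpr_cf (K17.f223306 IH) (Lpe (f341316 IH) (Lpr_gf (f341416 IH) (Lpe (f199593 IH) (Lpe (f199594 IH) (Lpr_gf (f382901 IH) (Lpr_cf (f334243 IH) (Lpe (f334214 IH) (Lpn (LP (LK LD1_c19 LD2_c54 LD3_c51)))))))))))))
theorem f369860 : Led Lsl_at (LP (LK LD1_c1 LD2_c14 LD3_c16)) = (LP (LK LD1_c2 LD2_c34 LD3_c21)) :=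
  Lgr Lrot80 (Lpe (K13.f189628 IH) (Lpr_af (K27.f369858 IH) (Lpe (K22.f232018 IH) (Lpn (LP (LK LD1_c2 LD2_c34 LD3_c21))))))
theorem f359519 : Led Lsl_ff (LP (LK LD1_c1 LD2_c14 LD3_c16)) = (LP (LK LD1_c1 LD2_c59 LD3_c48)) :=
  Lgr Lrot25 (Lpe (K15.f183690 IH) (Lpr_ft (K26.f359517 IH) (Lpr_bt (K10.f192450 IH) (Lpn (LP (LK LD1_c1 LD2_c59 LD3_c48))))))
theorem f362118 : Led Lsl_ft (LP (LK LD1_c2 LD2_c34 LD3_c21)) = (LP (LK LD1_c1 LD2_c14 LD3_c20)) :=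
  Lgr Lrot4 (Lpe (K12.f32435 IH) (Lpr_ff (K26.f362114 IH) (Lpe (K10.f45238 IH) (Lpn (LP (LK LD1_c1 LD2_c14 LD3_c20))))))
theorem f375440 : Led Lsl_af (LP (LK LD1_c1 LD2_c59 LD3_c48)) = (LP (LK LD1_c1 LD2_c14 LD3_c20)) :=
  Lgr Lrot45 (Lpe (f359519 IH) (Lpr_at (f369860 IH) (Lpr_ft (f362118 IH) (Lpn (LP (LK LD1_c1 LD2_c14 LD3_c20))))))
theorem f375442 : Led Lsl_at (LP (LK LD1_c1 LD2_c59 LD3_c48)) = (LP (LK LD1_c1 LD2_c14 LD3_c20)) :=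
  Lgr Lrot100 (Lpr_af (f375440 IH) (Lpn (LP (LK LD1_c1 LD2_c14 LD3_c20))))
theorem f359527 : Led Lsl_at (LP (LK LD1_c1 LD2_c59 LD3_c41)) = (LP (LK LD1_c0 LD2_c56 LD3_c49)) :=
  Lgr Lrot100 (Lpr_af (K26.f359525 IH) (Lpn (LP (LK LD1_c0 LD2_c56 LD3_c49))))
theorem f375444 : Led Lsl_af (LP (LK LD1_c2 LD2_c0 LD3_c34)) = (LP (LK LD1_c2 LD2_c34 LD3_c37)) :=
  Lgr Lrot36 (Lpr_bt (K15.f187795 IH) (Lpr_at (f359527 IH) (Lpr_bt (K10.f192450 IH) (Lpr_at (f375442 IH) (Lpr_bt (K12.f45239 IH) (Lpn (LP (LK LD1_c2 LD2_c34 LD3_c37))))))))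
theorem f359547 : Led Lsl_ft (LP (LK LD1_c2 LD2_c0 LD3_c34)) = (LP (LK LD1_c1 LD2_c59 LD3_c44)) :=
  Lgr Lrot75 (Lpr_bf (K15.f187797 IH) (Lpr_ff (K26.f359545 IH) (Lpe (K9.f182519 IH) (Lpn (LP (LK LD1_c1 LD2_c59 LD3_c44))))))
theorem f363909 : Led Lsl_ft (LP (LK LD1_c2 LD2_c0 LD3_c30)) = (LP (LK LD1_c2 LD2_c34 LD3_c37)) :=
  Lgr Lrot4 (Lpe (K9.f179074 IH) (Lpr_ff (K26.f363905 IH) (Lpe (K10.f190968 IH) (Lpn (LP (LK LD1_c2 LD2_c34 LD3_c37))))))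
theorem f375470 : Led Lsl_at (LP (LK LD1_c1 LD2_c59 LD3_c44)) = (LP (LK LD1_c2 LD2_c0 LD3_c30)) :=
  Lgr Lrot66 (Lpe (f359547 IH) (Lpr_af (f375444 IH) (Lpe (f363909 IH) (Lpn (LP (LK LD1_c2 LD2_c0 LD3_c30))))))
theorem f375472 : Led Lsl_af (LP (LK LD1_c4 LD2_c5 LD3_c8)) = (LP (LK LD1_c4 LD2_c6 LD3_c21)) :=
  Lgr Lrot50 (Lpr_et (K13.f182529 IH) (Lpr_at (f375470 IH) (Lpr_et (K14.f192278 IH) (Lpn (LP (LK LD1_c4 LD2_c6 LD3_c21))))))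
theorem f375474 : Led Lsl_at (LP (LK LD1_c2 LD2_c39 LD3_c2)) = (LP (LK LD1_c5 LD2_c20 LD3_c59)) :=
  Lgr Lrot51 (Lpr_df (K13.f223906 IH) (Lpr_af (f375472 IH) (Lpr_df (K25.f220765 IH) (Lpn (LP (LK LD1_c5 LD2_c20 LD3_c59))))))
theorem f375476 : Led Lsl_af (LP (LK LD1_c5 LD2_c25 LD3_c7)) = (LP (LK LD1_c10 LD2_c32 LD3_c2)) :=
  Lgr Lrot50 (Lpr_et (K15.f173100 IH) (Lpr_at (f375474 IH) (Lpr_et (K22.f220777 IH) (Lpn (LP (LK LD1_c10 LD2_c32 LD3_c2))))))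
theorem f375478 : Led Lsl_at (LP (LK LD1_c2 LD2_c39 LD3_c4)) = (LP (LK LD1_c5 LD2_c20 LD3_c61)) :=
  Lgr Lrot107 (Lpe (K26.f223940 IH) (Lpr_af (f375476 IH) (Lpe (K25.f220781 IH) (Lpn (LP (LK LD1_c5 LD2_c20 LD3_c61))))))
theorem f369104 : Led Lsl_ft (LP (LK LD1_c5 LD2_c25 LD3_c10)) = (LP (LK LD1_c2 LD2_c39 LD3_c4)) :=
  Lre_f IH (LK LD1_c5 LD2_c25 LD3_c10) (LK LD1_c2 LD2_c39 LD3_c4) Lrfl Lrfl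
theorem f375482 : Led Lsl_gt (LP (LK LD1_c5 LD2_c25 LD3_c10)) = (LP (LK LD1_c8 LD2_c58 LD3_c12)) :=
  Lgr Lrot5 (Lpr_ft (f369104 IH) (Lpr_at (f375478 IH) (Lpe (K22.f333814 IH) (Lpn (LP (LK LD1_c8 LD2_c58 LD3_c12))))))
theorem f264644 : Led Lsl_ct (LP (LK LD1_c5 LD2_c32 LD3_c53)) = (LP (LK LD1_c2 LD2_c42 LD3_c38)) :=
  Lre_c IH (LK LD1_c5 LD2_c32 LD3_c53) (LK LD1_c2 LD2_c42 LD3_c38) Lrfl Lrfl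
theorem f281034 : Led Lsl_ct (LP (LK LD1_c2 LD2_c42 LD3_c38)) = (LP (LK LD1_c5 LD2_c32 LD3_c53)) :=
  Lre_c IH (LK LD1_c2 LD2_c42 LD3_c38) (LK LD1_c5 LD2_c32 LD3_c53) Lrfl Lrfl
theorem f367421 : Led Lsl_gt (LP (LK LD1_c8 LD2_c55 LD3_c4)) = (LP (LK LD1_c5 LD2_c32 LD3_c53)) :=
  Lgr Lrot149 (Lpe (K27.f187427 IH) (Lpr_gf (K27.f367417 IH) (Lpr_bf (K25.f295132 IH) (Lpr_ct (K23.f258853 IH) (Lpe (K23.f266353 IH) (Lpe (K15.f258836 IH) (Lpr_bt (K15.f264585 IH) (Lpe (K22.f183267 IH) (Lpe (K25.f264643 IH) (Lpr_ct (f281034 IH) (Lpn (LP (LK LD1_c5 LD2_c32 LD3_c53)))))))))))))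
theorem f375484 : Led Lsl_gf (LP (LK LD1_c10 LD2_c41 LD3_c4)) = (LP (LK LD1_c10 LD2_c40 LD3_c1)) :=
  Lgr Lrot147 (Lpr_ct (K27.f223945 IH) (Lpr_gt (f375482 IH) (Lpr_ct (K22.f264527 IH) (Lpr_df (K22.f281002 IH) (Lpe (f264644 IH) (Lpe (f367421 IH) (Lpe (K27.f187427 IH) (Lpr_gf (K27.f367417 IH) (Lpr_df (K25.f352676 IH) (Lpn (LP (LK LD1_c10 LD2_c40 LD3_c1))))))))))))
theorem f247003 : Led Lsl_gt (LP (LK LD1_c11 LD2_c3 LD3_c13)) = (LP (LK LD1_c5 LD2_c35 LD3_c32)) :=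
  Lre_g IH (LK LD1_c11 LD2_c3 LD3_c13) (LK LD1_c5 LD2_c35 LD3_c32) Lrfl Lrfl
theorem f375486 : Led Lsl_et (LP (LK LD1_c15 LD2_c24 LD3_c34)) = (LP (LK LD1_c11 LD2_c3 LD3_c13)) :=
  Lgr Lrot121 (Lpe (K26.f223926 IH) (Lpr_gf (f375484 IH) (Lpe (K25.f352662 IH) (Lpr_et (K26.f271006 IH) (Lpr_gf (K26.f361060 IH) (Lpe (K26.f361031 IH) (Lpr_dt (K26.f247007 IH) (Lpe (K26.f247004 IH) (Lpe (K16.f246976 IH) (Lpe (f247003 IH) (Lpn (LP (LK LD1_c11 LD2_c3 LD3_c13)))))))))))))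
theorem f326411 : Led Lsl_dt (LP (LK LD1_c16 LD2_c11 LD3_c6)) = (LP (LK LD1_c9 LD2_c34 LD3_c49)) :=
  Lgr Lrot60 (Lpe (K21.f257353 IH) (Lpr_df (K23.f321348 IH) (Lpr_ff (K21.f326409 IH) (Lpn (LP (LK LD1_c9 LD2_c34 LD3_c49))))))
theorem f375490 : Led Lsl_gt (LP (LK LD1_c17 LD2_c48 LD3_c47)) = (LP (LK LD1_c11 LD2_c3 LD3_c13)) :=
  Lgr Lrot131 (Lpr_ef (K21.f324109 IH) (Lpe (K21.f322156 IH) (Lpr_gf (K21.f326415 IH) (Lpe (f326411 IH) (Lpe (K26.f363247 IH) (Lpe (K26.f345208 IH) (Lpe (K26.f356838 IH) (Lpr_gf (K26.f363243 IH) (Lpr_df (K26.f223926 IH) (Lpr_et (f375486 IH) (Lpn (LP (LK LD1_c11 LD2_c3 LD3_c13)))))))))))))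
theorem f291866 : Led Lsl_ct (LP (LK LD1_c10 LD2_c15 LD3_c38)) = (LP (LK LD1_c15 LD2_c25 LD3_c3)) :=
  Lgr Lrot40 (Lpe (K16.f277603 IH) (Lpr_cf (K16.f246402 IH) (Lpr_ff (K20.f291864 IH) (Lpn (LP (LK LD1_c15 LD2_c25 LD3_c3))))))
theorem f228762 : Led Lsl_gt (LP (LK LD1_c19 LD2_c10 LD3_c58)) = (LP (LK LD1_c10 LD2_c35 LD3_c28)) :=
  Lre_g IH (LK LD1_c19 LD2_c10 LD3_c58) (LK LD1_c10 LD2_c35 LD3_c28) Lrfl Lrfl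
theorem f291872 : Led Lsl_gf (LP (LK LD1_c19 LD2_c10 LD3_c58)) = (LP (LK LD1_c15 LD2_c25 LD3_c3)) :=
  Lgr Lrot47 (Lpr_gt (f228762 IH) (Lpe (K16.f277571 IH) (Lpr_ff (K20.f291864 IH) (Lpn (LP (LK LD1_c15 LD2_c25 LD3_c3))))))
theorem f229962 : Led Lsl_cf (LP (LK LD1_c5 LD2_c19 LD3_c4)) = (LP (LK LD1_c9 LD2_c39 LD3_c47)) :=
  Lgr Lrot11 (Lpr_ct (K18.f229952 IH) (Lpn (LP (LK LD1_c9 LD2_c39 LD3_c47))))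
theorem f228759 : Led Lsl_ct (LP (LK LD1_c10 LD2_c35 LD3_c28)) = (LP (LK LD1_c5 LD2_c22 LD3_c35)) :=
  Lre_c IH (LK LD1_c10 LD2_c35 LD3_c28) (LK LD1_c5 LD2_c22 LD3_c35) Lrfl Lrfl
theorem f307419 : Led Lsl_ct (LP (LK LD1_c11 LD2_c57 LD3_c28)) = (LP (LK LD1_c19 LD2_c10 LD3_c58)) :=
  Lgr Lrot186 (Lpe (K26.f307418 IH) (Lpr_dt (K19.f307408 IH) (Lpr_gt (K19.f248624 IH) (Lpr_ct (K24.f248629 IH) (Lpe (K24.f278253 IH) (Lpe (f229962 IH) (Lpe (K14.f254470 IH) (Lpe (f228759 IH) (Lpe (f228762 IH) (Lpn (LP (LK LD1_c19 LD2_c10 LD3_c58))))))))))))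
theorem f316696 : Led Lsl_bt (LP (LK LD1_c11 LD2_c57 LD3_c28)) = (LP (LK LD1_c11 LD2_c3 LD3_c13)) :=
  Lgr Lrot22 (Lpr_ct (f307419 IH) (Lpr_gf (f291872 IH) (Lpe (f291866 IH) (Lpe (K14.f183951 IH) (Lpe (K21.f251007 IH) (Lpr_ct (K21.f212986 IH) (Lpr_gf (K20.f316683 IH) (Lpe (K20.f212981 IH) (Lpr_bt (K16.f246975 IH) (Lpe (f247003 IH) (Lpn (LP (LK LD1_c11 LD2_c3 LD3_c13)))))))))))))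
theorem f185666 : Led Lsl_ct (LP (LK LD1_c2 LD2_c39 LD3_c32)) = (LP (LK LD1_c5 LD2_c26 LD3_c11)) :=
  Lre_c IH (LK LD1_c2 LD2_c39 LD3_c32) (LK LD1_c5 LD2_c26 LD3_c11) Lrfl Lrfl
theorem f231587 : Led Lsl_gt (LP (LK LD1_c5 LD2_c26 LD3_c11)) = (LP (LK LD1_c10 LD2_c43 LD3_c40)) :=
  Lre_g IH (LK LD1_c5 LD2_c26 LD3_c11) (LK LD1_c10 LD2_c43 LD3_c40) Lrfl Lrfl
theorem f375492 : Led Lsl_ct (LP (LK LD1_c15 LD2_c28 LD3_c14)) = (LP (LK LD1_c10 LD2_c43 LD3_c40)) :=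
  Lgr Lrot63 (Lpe (K21.f322120 IH) (Lpr_gt (f375490 IH) (Lpe (f316696 IH) (Lpr_ct (f307419 IH) (Lpr_gt (f228762 IH) (Lpe (K16.f228753 IH) (Lpe (K14.f228749 IH) (Lpe (K14.f254499 IH) (Lpr_ct (f185666 IH) (Lpr_gt (f231587 IH) (Lpn (LP (LK LD1_c10 LD2_c43 LD3_c40)))))))))))))
theorem f251735 : Led Lsl_et (LP (LK LD1_c2 LD2_c41 LD3_c16)) = (LP (LK LD1_c5 LD2_c29 LD3_c56)) :=
  Lre_e IH (LK LD1_c2 LD2_c41 LD3_c16) (LK LD1_c5 LD2_c29 LD3_c56) Lrfl Lrfl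
theorem f251736 : Led Lsl_ct (LP (LK LD1_c5 LD2_c29 LD3_c56)) = (LP (LK LD1_c10 LD2_c24 LD3_c13)) :=
  Lgr Lrot15 (Lpe (f251735 IH) (Lpe (K14.f179129 IH) (Lpr_ef (K17.f251733 IH) (Lpn (LP (LK LD1_c10 LD2_c24 LD3_c13))))))
theorem f375499 : Led Lsl_ff (LP (LK LD1_c5 LD2_c29 LD3_c56)) = (LP (LK LD1_c10 LD2_c43 LD3_c40)) :=
  Lgr Lrot23 (Lpr_ct (f251736 IH) (Lpr_ft (K20.f322116 IH) (Lpr_ct (f375492 IH) (Lpn (LP (LK LD1_c10 LD2_c43 LD3_c40))))))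
theorem f375569 : Led Lsl_ft (LP (LK LD1_c5 LD2_c29 LD3_c56)) = (LP (LK LD1_c10 LD2_c43 LD3_c40)) :=
  Lgr Lrot48 (Lpr_ff (f375499 IH) (Lpn (LP (LK LD1_c10 LD2_c43 LD3_c40))))
theorem f188205 : Led Lsl_et (LP (LK LD1_c4 LD2_c7 LD3_c58)) = (LP (LK LD1_c8 LD2_c15 LD3_c58)) :=
  Lre_e IH (LK LD1_c4 LD2_c7 LD3_c58) (LK LD1_c8 LD2_c15 LD3_c58) Lrfl Lrfl
theorem f254779 : Led Lsl_gf (LP (LK LD1_c8 LD2_c15 LD3_c58)) = (LP (LK LD1_c5 LD2_c29 LD3_c56)) :=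
  Lgr Lrot141 (Lpe (f188205 IH) (Lpr_dt (K15.f49110 IH) (Lpr_gt (K10.f188198 IH) (Lpe (K10.f50786 IH) (Lpr_et (K24.f234982 IH) (Lpr_gt (K13.f218730 IH) (Lpr_dt (K15.f218733 IH) (Lpr_gt (K14.f254770 IH) (Lpe (K14.f175176 IH) (Lpr_et (f251735 IH) (Lpn (LP (LK LD1_c5 LD2_c29 LD3_c56)))))))))))))
theorem f188206 : Led Lsl_gt (LP (LK LD1_c8 LD2_c15 LD3_c58)) = (LP (LK LD1_c15 LD2_c32 LD3_c26)) :=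
  Lre_g IH (LK LD1_c8 LD2_c15 LD3_c58) (LK LD1_c15 LD2_c32 LD3_c26) Lrfl Lrfl
theorem f375573 : Led Lsl_af (LP (LK LD1_c15 LD2_c32 LD3_c26)) = (LP (LK LD1_c10 LD2_c43 LD3_c40)) :=
  Lgr Lrot31 (Lpe (f188206 IH) (Lpr_gf (f254779 IH) (Lpr_ft (f375569 IH) (Lpn (LP (LK LD1_c10 LD2_c43 LD3_c40))))))
theorem f329254 : Led Lsl_af (LP (LK LD1_c4 LD2_c28 LD3_c48)) = (LP (LK LD1_c2 LD2_c41 LD3_c16)) :=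
  Lgr Lrot117 (Lpe (K15.f266348 IH) (Lpr_at (K21.f329246 IH) (Lpr_dt (K14.f234798 IH) (Lpn (LP (LK LD1_c2 LD2_c41 LD3_c16))))))
theorem f266417 : Led Lsl_et (LP (LK LD1_c4 LD2_c28 LD3_c48)) = (LP (LK LD1_c8 LD2_c55 LD3_c53)) :=
  Lre_e IH (LK LD1_c4 LD2_c28 LD3_c48) (LK LD1_c8 LD2_c55 LD3_c53) Lrfl Lrfl
theorem f234804 : Led Lsl_et (LP (LK LD1_c5 LD2_c29 LD3_c56)) = (LP (LK LD1_c2 LD2_c41 LD3_c16)) :=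
  Lre_e IH (LK LD1_c5 LD2_c29 LD3_c56) (LK LD1_c2 LD2_c41 LD3_c16) Lrfl Lrfl
theorem f329268 : Led Lsl_at (LP (LK LD1_c8 LD2_c55 LD3_c53)) = (LP (LK LD1_c5 LD2_c29 LD3_c56)) :=
  Lgr Lrot80 (Lpe (f266417 IH) (Lpr_af (f329254 IH) (Lpe (f234804 IH) (Lpn (LP (LK LD1_c5 LD2_c29 LD3_c56))))))
theorem f375584 : Led Lsl_ft (LP (LK LD1_c15 LD2_c32 LD3_c26)) = (LP (LK LD1_c8 LD2_c55 LD3_c53)) :=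
  Lgr Lrot101 (Lpr_af (f375573 IH) (Lpe (f375569 IH) (Lpe (f329268 IH) (Lpn (LP (LK LD1_c8 LD2_c55 LD3_c53))))))
theorem f375593 : Led Lsl_ff (LP (LK LD1_c15 LD2_c32 LD3_c26)) = (LP (LK LD1_c8 LD2_c55 LD3_c53)) :=
  Lgr Lrot3 (Lpr_ft (f375584 IH) (Lpn (LP (LK LD1_c8 LD2_c55 LD3_c53))))
theorem f311862 : Led Lsl_ft (LP (LK LD1_c2 LD2_c41 LD3_c17)) = (LP (LK LD1_c4 LD2_c28 LD3_c48)) :=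
  Lgr Lrot4 (Lpr_cf (K13.f222244 IH) (Lpr_ff (K19.f311858 IH) (Lpr_cf (K13.f234314 IH) (Lpn (LP (LK LD1_c4 LD2_c28 LD3_c48))))))
theorem f222399 : Led Lsl_et (LP (LK LD1_c5 LD2_c29 LD3_c59)) = (LP (LK LD1_c2 LD2_c41 LD3_c17)) :=
  Lre_e IH (LK LD1_c5 LD2_c29 LD3_c59) (LK LD1_c2 LD2_c41 LD3_c17) Lrfl Lrfl
theorem f375597 : Led Lsl_et (LP (LK LD1_c15 LD2_c32 LD3_c26)) = (LP (LK LD1_c10 LD2_c51 LD3_c10)) :=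
  Lgr Lrot69 (Lpr_ff (f375593 IH) (Lpe (f266417 IH) (Lpe (f311862 IH) (Lpe (f222399 IH) (Lpe (K22.f222289 IH) (Lpn (LP (LK LD1_c10 LD2_c51 LD3_c10))))))))
theorem f375586 : Led Lsl_bt (LP (LK LD1_c25 LD2_c25 LD3_c49)) = (LP (LK LD1_c15 LD2_c32 LD3_c26)) :=
  Lre_b IH (LK LD1_c25 LD2_c25 LD3_c49) (LK LD1_c15 LD2_c32 LD3_c26) Lrfl Lrfl
theorem f222298 : Led Lsl_bt (LP (LK LD1_c10 LD2_c51 LD3_c10)) = (LP (LK LD1_c19 LD2_c37 LD3_c1)) :=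
  Lre_b IH (LK LD1_c10 LD2_c51 LD3_c10) (LK LD1_c19 LD2_c37 LD3_c1) Lrfl Lrfl
theorem f375599 : Led Lsl_ef (LP (LK LD1_c25 LD2_c25 LD3_c49)) = (LP (LK LD1_c19 LD2_c37 LD3_c1)) :=
  Lgr Lrot29 (Lpr_bt (f375586 IH) (Lpr_et (f375597 IH) (Lpr_bt (f222298 IH) (Lpn (LP (LK LD1_c19 LD2_c37 LD3_c1))))))
theorem f375577 : Led Lsl_bt (LP (LK LD1_c15 LD2_c32 LD3_c26)) = (LP (LK LD1_c25 LD2_c25 LD3_c49)) :=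
  Lre_b IH (LK LD1_c15 LD2_c32 LD3_c26) (LK LD1_c25 LD2_c25 LD3_c49) Lrfl Lrfl
theorem f234289 : Led Lsl_bt (LP (LK LD1_c16 LD2_c43 LD3_c5)) = (LP (LK LD1_c8 LD2_c55 LD3_c53)) :=
  Lre_b IH (LK LD1_c16 LD2_c43 LD3_c5) (LK LD1_c8 LD2_c55 LD3_c53) Lrfl Lrfl
theorem f375595 : Led Lsl_ft (LP (LK LD1_c25 LD2_c25 LD3_c49)) = (LP (LK LD1_c16 LD2_c43 LD3_c5)) :=
  Lgr Lrot75 (Lpe (f375577 IH) (Lpr_ff (f375593 IH) (Lpe (f234289 IH) (Lpn (LP (LK LD1_c16 LD2_c43 LD3_c5))))))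
theorem f222389 : Led Lsl_ft (LP (LK LD1_c10 LD2_c51 LD3_c9)) = (LP (LK LD1_c19 LD2_c37 LD3_c1)) :=
  Lre_f IH (LK LD1_c10 LD2_c51 LD3_c9) (LK LD1_c19 LD2_c37 LD3_c1) Lrfl Lrfl
theorem f222336 : Led Lsl_et (LP (LK LD1_c5 LD2_c29 LD3_c57)) = (LP (LK LD1_c10 LD2_c51 LD3_c9)) :=
  Lre_e IH (LK LD1_c5 LD2_c29 LD3_c57) (LK LD1_c10 LD2_c51 LD3_c9) Lrfl Lrfl
theorem f375605 : Led Lsl_ft (LP (LK LD1_c8 LD2_c55 LD3_c52)) = (LP (LK LD1_c5 LD2_c29 LD3_c57)) :=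
  Lgr Lrot86 (Lpe (K13.f234274 IH) (Lpe (f375595 IH) (Lpr_ef (f375599 IH) (Lpe (f222389 IH) (Lpe (f222336 IH) (Lpn (LP (LK LD1_c5 LD2_c29 LD3_c57))))))))
theorem f375613 : Led Lsl_ff (LP (LK LD1_c8 LD2_c55 LD3_c52)) = (LP (LK LD1_c5 LD2_c29 LD3_c57)) :=
  Lgr Lrot3 (Lpr_ft (f375605 IH) (Lpn (LP (LK LD1_c5 LD2_c29 LD3_c57))))
theorem f222304 : Led Lsl_ct (LP (LK LD1_c10 LD2_c51 LD3_c10)) = (LP (LK LD1_c11 LD2_c2 LD3_c58)) :=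
  Lgr Lrot59 (Lpr_cf (K22.f222290 IH) (Lpn (LP (LK LD1_c11 LD2_c2 LD3_c58))))
theorem f222307 : Led Lsl_bt (LP (LK LD1_c19 LD2_c37 LD3_c1)) = (LP (LK LD1_c10 LD2_c51 LD3_c10)) :=
  Lre_b IH (LK LD1_c19 LD2_c37 LD3_c1) (LK LD1_c10 LD2_c51 LD3_c10) Lrfl Lrfl
theorem f222309 : Led Lsl_bt (LP (LK LD1_c11 LD2_c3 LD3_c6)) = (LP (LK LD1_c19 LD2_c54 LD3_c35)) :=
  Lre_b IH (LK LD1_c11 LD2_c3 LD3_c6) (LK LD1_c19 LD2_c54 LD3_c35) Lrfl Lrfl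
theorem f222310 : Led Lsl_cf (LP (LK LD1_c19 LD2_c37 LD3_c1)) = (LP (LK LD1_c19 LD2_c54 LD3_c35)) :=
  Lgr Lrot97 (Lpr_bt (f222307 IH) (Lpr_ct (f222304 IH) (Lpr_bt (K22.f222306 IH) (Lpr_ct (K24.f222308 IH) (Lpr_bt (f222309 IH) (Lpn (LP (LK LD1_c19 LD2_c54 LD3_c35))))))))
theorem f222319 : Led Lsl_ft (LP (LK LD1_c19 LD2_c37 LD3_c1)) = (LP (LK LD1_c10 LD2_c51 LD3_c9)) :=
  Lre_f IH (LK LD1_c19 LD2_c37 LD3_c1) (LK LD1_c10 LD2_c51 LD3_c9) Lrfl Lrfl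
theorem f222320 : Led Lsl_ft (LP (LK LD1_c11 LD2_c3 LD3_c1)) = (LP (LK LD1_c19 LD2_c54 LD3_c35)) :=
  Lre_f IH (LK LD1_c11 LD2_c3 LD3_c1) (LK LD1_c19 LD2_c54 LD3_c35) Lrfl Lrfl
theorem f222321 : Led Lsl_ct (LP (LK LD1_c10 LD2_c51 LD3_c9)) = (LP (LK LD1_c11 LD2_c3 LD3_c1)) :=
  Lgr Lrot40 (Lpe (f222319 IH) (Lpr_cf (f222310 IH) (Lpe (f222320 IH) (Lpn (LP (LK LD1_c11 LD2_c3 LD3_c1))))))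
theorem f222337 : Led Lsl_et (LP (LK LD1_c11 LD2_c3 LD3_c1)) = (LP (LK LD1_c5 LD2_c35 LD3_c25)) :=
  Lre_e IH (LK LD1_c11 LD2_c3 LD3_c1) (LK LD1_c5 LD2_c35 LD3_c25) Lrfl Lrfl
theorem f222338 : Led Lsl_cf (LP (LK LD1_c5 LD2_c29 LD3_c57)) = (LP (LK LD1_c5 LD2_c35 LD3_c25)) :=
  Lgr Lrot39 (Lpr_et (f222336 IH) (Lpr_ct (f222321 IH) (Lpr_et (f222337 IH) (Lpn (LP (LK LD1_c5 LD2_c35 LD3_c25))))))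
theorem f375619 : Led Lsl_ft (LP (LK LD1_c9 LD2_c0 LD3_c32)) = (LP (LK LD1_c5 LD2_c35 LD3_c25)) :=
  Lgr Lrot4 (Lpr_cf (K13.f234254 IH) (Lpr_ff (f375613 IH) (Lpr_cf (f222338 IH) (Lpn (LP (LK LD1_c5 LD2_c35 LD3_c25))))))
theorem f234277 : Led Lsl_at (LP (LK LD1_c16 LD2_c49 LD3_c58)) = (LP (LK LD1_c9 LD2_c0 LD3_c32)) :=
  Lre_a IH (LK LD1_c16 LD2_c49 LD3_c58) (LK LD1_c9 LD2_c0 LD3_c32) Lrfl Lrfl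
theorem f222369 : Led Lsl_at (LP (LK LD1_c5 LD2_c35 LD3_c25)) = (LP (LK LD1_c11 LD2_c2 LD3_c61)) :=
  Lre_a IH (LK LD1_c5 LD2_c35 LD3_c25) (LK LD1_c11 LD2_c2 LD3_c61) Lrfl Lrfl
theorem f375623 : Led Lsl_ff (LP (LK LD1_c16 LD2_c49 LD3_c58)) = (LP (LK LD1_c11 LD2_c2 LD3_c61)) :=
  Lgr Lrot30 (Lpr_at (f234277 IH) (Lpr_ft (f375619 IH) (Lpr_at (f222369 IH) (Lpn (LP (LK LD1_c11 LD2_c2 LD3_c61))))))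
theorem f375631 : Led Lsl_ft (LP (LK LD1_c16 LD2_c49 LD3_c58)) = (LP (LK LD1_c11 LD2_c2 LD3_c61)) :=
  Lgr Lrot48 (Lpr_ff (f375623 IH) (Lpn (LP (LK LD1_c11 LD2_c2 LD3_c61))))
theorem f222350 : Led Lsl_at (LP (LK LD1_c5 LD2_c29 LD3_c57)) = (LP (LK LD1_c10 LD2_c51 LD3_c7)) :=
  Lre_a IH (LK LD1_c5 LD2_c29 LD3_c57) (LK LD1_c10 LD2_c51 LD3_c7) Lrfl Lrfl
theorem f222351 : Led Lsl_at (LP (LK LD1_c11 LD2_c2 LD3_c61)) = (LP (LK LD1_c5 LD2_c35 LD3_c25)) :=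
  Lre_a IH (LK LD1_c11 LD2_c2 LD3_c61) (LK LD1_c5 LD2_c35 LD3_c25) Lrfl Lrfl
theorem f222352 : Led Lsl_ct (LP (LK LD1_c10 LD2_c51 LD3_c7)) = (LP (LK LD1_c11 LD2_c2 LD3_c61)) :=
  Lgr Lrot111 (Lpe (f222350 IH) (Lpr_cf (f222338 IH) (Lpe (f222351 IH) (Lpn (LP (LK LD1_c11 LD2_c2 LD3_c61))))))
theorem f222363 : Led Lsl_cf (LP (LK LD1_c10 LD2_c51 LD3_c7)) = (LP (LK LD1_c11 LD2_c2 LD3_c61)) :=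
  Lgr Lrot11 (Lpr_ct (f222352 IH) (Lpn (LP (LK LD1_c11 LD2_c2 LD3_c61))))
theorem f234267 : Led Lsl_at (LP (LK LD1_c16 LD2_c43 LD3_c4)) = (LP (LK LD1_c8 LD2_c55 LD3_c52)) :=
  Lre_a IH (LK LD1_c16 LD2_c43 LD3_c4) (LK LD1_c8 LD2_c55 LD3_c52) Lrfl Lrfl
theorem f375607 : Led Lsl_ff (LP (LK LD1_c16 LD2_c43 LD3_c4)) = (LP (LK LD1_c10 LD2_c51 LD3_c7)) :=
  Lgr Lrot30 (Lpr_at (f234267 IH) (Lpr_ft (f375605 IH) (Lpr_at (f222350 IH) (Lpn (LP (LK LD1_c10 LD2_c51 LD3_c7))))))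
theorem f375647 : Led Lsl_cf (LP (LK LD1_c16 LD2_c49 LD3_c58)) = (LP (LK LD1_c16 LD2_c43 LD3_c4)) :=
  Lgr Lrot108 (Lpr_ft (f375631 IH) (Lpe (f222363 IH) (Lpe (f375607 IH) (Lpn (LP (LK LD1_c16 LD2_c43 LD3_c4))))))
theorem f199519 : Led Lsl_bt (LP (LK LD1_c5 LD2_c35 LD3_c33)) = (LP (LK LD1_c2 LD2_c43 LD3_c43)) :=
  Lre_b IH (LK LD1_c5 LD2_c35 LD3_c33) (LK LD1_c2 LD2_c43 LD3_c43) Lrfl Lrfl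
theorem f234316 : Led Lsl_bt (LP (LK LD1_c4 LD2_c31 LD3_c18)) = (LP (LK LD1_c9 LD2_c0 LD3_c32)) :=
  Lre_b IH (LK LD1_c4 LD2_c31 LD3_c18) (LK LD1_c9 LD2_c0 LD3_c32) Lrfl Lrfl
theorem f234266 : Led Lsl_at (LP (LK LD1_c9 LD2_c0 LD3_c32)) = (LP (LK LD1_c16 LD2_c49 LD3_c58)) :=
  Lre_a IH (LK LD1_c9 LD2_c0 LD3_c32) (LK LD1_c16 LD2_c49 LD3_c58) Lrfl Lrfl
theorem f320662 : Led Lsl_bf (LP (LK LD1_c11 LD2_c3 LD3_c17)) = (LP (LK LD1_c16 LD2_c49 LD3_c58)) :=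
  Lgr Lrot81 (Lpr_at (f317114 IH) (Lpr_bt (f199519 IH) (Lpr_at (K20.f320660 IH) (Lpr_bt (f234316 IH) (Lpr_at (f234266 IH) (Lpn (LP (LK LD1_c16 LD2_c49 LD3_c58))))))))
theorem f219325 : Led Lsl_bt (LP (LK LD1_c5 LD2_c35 LD3_c31)) = (LP (LK LD1_c11 LD2_c3 LD3_c11)) :=
  Lre_b IH (LK LD1_c5 LD2_c35 LD3_c31) (LK LD1_c11 LD2_c3 LD3_c11) Lrfl Lrfl
theorem f333973 : Led Lsl_at (LP (LK LD1_c11 LD2_c3 LD3_c11)) = (LP (LK LD1_c19 LD2_c54 LD3_c53)) :=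
  Lre_a IH (LK LD1_c11 LD2_c3 LD3_c11) (LK LD1_c19 LD2_c54 LD3_c53) Lrfl Lrfl
theorem f333974 : Led Lsl_bt (LP (LK LD1_c8 LD2_c53 LD3_c33)) = (LP (LK LD1_c4 LD2_c27 LD3_c51)) :=
  Lre_b IH (LK LD1_c8 LD2_c53 LD3_c33) (LK LD1_c4 LD2_c27 LD3_c51) Lrfl Lrfl
theorem f333975 : Led Lsl_at (LP (LK LD1_c16 LD2_c37 LD3_c44)) = (LP (LK LD1_c8 LD2_c53 LD3_c33)) :=
  Lre_a IH (LK LD1_c16 LD2_c37 LD3_c44) (LK LD1_c8 LD2_c53 LD3_c33) Lrfl Lrfl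
theorem f333976 : Led Lsl_bt (LP (LK LD1_c19 LD2_c54 LD3_c53)) = (LP (LK LD1_c16 LD2_c37 LD3_c44)) :=
  Lgr Lrot62 (Lpe (f333973 IH) (Lpe (f219325 IH) (Lpr_af (K22.f333969 IH) (Lpe (f333974 IH) (Lpe (f333975 IH) (Lpn (LP (LK LD1_c16 LD2_c37 LD3_c44))))))))
theorem f329264 : Led Lsl_at (LP (LK LD1_c8 LD2_c55 LD3_c52)) = (LP (LK LD1_c16 LD2_c43 LD3_c4)) :=
  Lre_a IH (LK LD1_c8 LD2_c55 LD3_c52) (LK LD1_c16 LD2_c43 LD3_c4) Lrfl Lrfl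
theorem f234801 : Led Lsl_bt (LP (LK LD1_c5 LD2_c29 LD3_c53)) = (LP (LK LD1_c2 LD2_c41 LD3_c16)) :=
  Lre_b IH (LK LD1_c5 LD2_c29 LD3_c53) (LK LD1_c2 LD2_c41 LD3_c16) Lrfl Lrfl
theorem f329265 : Led Lsl_at (LP (LK LD1_c10 LD2_c51 LD3_c0)) = (LP (LK LD1_c5 LD2_c29 LD3_c53)) :=
  Lre_a IH (LK LD1_c10 LD2_c51 LD3_c0) (LK LD1_c5 LD2_c29 LD3_c53) Lrfl Lrfl
theorem f329266 : Led Lsl_bt (LP (LK LD1_c16 LD2_c43 LD3_c4)) = (LP (LK LD1_c10 LD2_c51 LD3_c0)) :=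
  Lgr Lrot62 (Lpe (f329264 IH) (Lpe (K13.f234253 IH) (Lpr_af (f329254 IH) (Lpe (f234801 IH) (Lpe (f329265 IH) (Lpn (LP (LK LD1_c10 LD2_c51 LD3_c0))))))))
theorem f329272 : Led Lsl_bf (LP (LK LD1_c16 LD2_c43 LD3_c4)) = (LP (LK LD1_c10 LD2_c51 LD3_c0)) :=
  Lgr Lrot24 (Lpr_bt (f329266 IH) (Lpn (LP (LK LD1_c10 LD2_c51 LD3_c0))))
theorem f375655 : Led Lsl_ct (LP (LK LD1_c16 LD2_c37 LD3_c44)) = (LP (LK LD1_c10 LD2_c51 LD3_c0)) :=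
  Lgr Lrot83 (Lpe (f333976 IH) (Lpe (f317107 IH) (Lpr_bf (f320662 IH) (Lpr_cf (f375647 IH) (Lpr_bf (f329272 IH) (Lpn (LP (LK LD1_c10 LD2_c51 LD3_c0))))))))
theorem f375657 : Led Lsl_at (LP (LK LD1_c8 LD2_c53 LD3_c33)) = (LP (LK LD1_c16 LD2_c37 LD3_c44)) :=
  Lre_a IH (LK LD1_c8 LD2_c53 LD3_c33) (LK LD1_c16 LD2_c37 LD3_c44) Lrfl Lrfl
theorem f375658 : Led Lsl_cf (LP (LK LD1_c8 LD2_c53 LD3_c33)) = (LP (LK LD1_c5 LD2_c29 LD3_c53)) :=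
  Lgr Lrot1 (Lpr_at (f375657 IH) (Lpr_ct (f375655 IH) (Lpr_at (f329265 IH) (Lpn (LP (LK LD1_c5 LD2_c29 LD3_c53))))))
theorem f254829 : Led Lsl_bt (LP (LK LD1_c15 LD2_c17 LD3_c33)) = (LP (LK LD1_c8 LD2_c7 LD3_c15)) :=
  Lre_b IH (LK LD1_c15 LD2_c17 LD3_c33) (LK LD1_c8 LD2_c7 LD3_c15) Lrfl Lrfl
theorem f278926 : Led Lsl_bt (LP (LK LD1_c4 LD2_c27 LD3_c51)) = (LP (LK LD1_c8 LD2_c53 LD3_c33)) :=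
  Lre_b IH (LK LD1_c4 LD2_c27 LD3_c51) (LK LD1_c8 LD2_c53 LD3_c33) Lrfl Lrfl
theorem f333965 : Led Lsl_ff (LP (LK LD1_c15 LD2_c17 LD3_c33)) = (LP (LK LD1_c8 LD2_c53 LD3_c33)) :=
  Lgr Lrot25 (Lpr_bt (f254829 IH) (Lpr_ft (K22.f333963 IH) (Lpr_bt (f278926 IH) (Lpn (LP (LK LD1_c8 LD2_c53 LD3_c33))))))
theorem f375670 : Led Lsl_ft (LP (LK LD1_c8 LD2_c55 LD3_c50)) = (LP (LK LD1_c5 LD2_c29 LD3_c53)) :=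
  Lgr Lrot4 (Lpe (K14.f254850 IH) (Lpr_ff (f333965 IH) (Lpr_cf (f375658 IH) (Lpn (LP (LK LD1_c5 LD2_c29 LD3_c53))))))
theorem f375703 : Led Lsl_ff (LP (LK LD1_c8 LD2_c55 LD3_c50)) = (LP (LK LD1_c5 LD2_c29 LD3_c53)) :=
  Lgr Lrot3 (Lpr_ft (f375670 IH) (Lpn (LP (LK LD1_c5 LD2_c29 LD3_c53))))
theorem f254856 : Led Lsl_cf (LP (LK LD1_c15 LD2_c17 LD3_c33)) = (LP (LK LD1_c8 LD2_c55 LD3_c50)) :=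
  Lgr Lrot11 (Lpr_ct (K14.f254850 IH) (Lpn (LP (LK LD1_c8 LD2_c55 LD3_c50))))
theorem f278927 : Led Lsl_cf (LP (LK LD1_c5 LD2_c29 LD3_c53)) = (LP (LK LD1_c8 LD2_c53 LD3_c33)) :=
  Lgr Lrot97 (Lpr_bt (f234801 IH) (Lpr_ct (K14.f220578 IH) (Lpe (K16.f274885 IH) (Lpr_ct (K16.f278909 IH) (Lpr_bt (f278926 IH) (Lpn (LP (LK LD1_c8 LD2_c53 LD3_c33))))))))
theorem f375723 : Led Lsl_ft (LP (LK LD1_c15 LD2_c17 LD3_c33)) = (LP (LK LD1_c8 LD2_c53 LD3_c33)) :=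
  Lgr Lrot4 (Lpr_cf (f254856 IH) (Lpr_ff (f375703 IH) (Lpr_cf (f278927 IH) (Lpn (LP (LK LD1_c8 LD2_c53 LD3_c33))))))
theorem f254852 : Led Lsl_at (LP (LK LD1_c25 LD2_c7 LD3_c58)) = (LP (LK LD1_c15 LD2_c17 LD3_c33)) :=
  Lre_a IH (LK LD1_c25 LD2_c7 LD3_c58) (LK LD1_c15 LD2_c17 LD3_c33) Lrfl Lrfl
theorem f375728 : Led Lsl_ff (LP (LK LD1_c25 LD2_c7 LD3_c58)) = (LP (LK LD1_c16 LD2_c37 LD3_c44)) :=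
  Lgr Lrot30 (Lpr_at (f254852 IH) (Lpr_ft (f375723 IH) (Lpr_at (f375657 IH) (Lpn (LP (LK LD1_c16 LD2_c37 LD3_c44))))))
theorem f334205 : Led Lsl_at (LP (LK LD1_c19 LD2_c54 LD3_c53)) = (LP (LK LD1_c11 LD2_c3 LD3_c11)) :=
  Lre_a IH (LK LD1_c19 LD2_c54 LD3_c53) (LK LD1_c11 LD2_c3 LD3_c11) Lrfl Lrfl
theorem f334207 : Led Lsl_ff (LP (LK LD1_c19 LD2_c54 LD3_c53)) = (LP (LK LD1_c16 LD2_c37 LD3_c36)) :=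
  Lgr Lrot30 (Lpr_at (f334205 IH) (Lpr_ft (f334188 IH) (Lpr_at (f334206 IH) (Lpn (LP (LK LD1_c16 LD2_c37 LD3_c36))))))
theorem f375732 : Led Lsl_bt (LP (LK LD1_c25 LD2_c7 LD3_c58)) = (LP (LK LD1_c16 LD2_c37 LD3_c36)) :=
  Lgr Lrot35 (Lpr_ff (f375728 IH) (Lpe (f333976 IH) (Lpr_ff (f334207 IH) (Lpn (LP (LK LD1_c16 LD2_c37 LD3_c36))))))
theorem f375660 : Led Lsl_cf (LP (LK LD1_c16 LD2_c37 LD3_c44)) = (LP (LK LD1_c10 LD2_c51 LD3_c0)) :=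
  Lgr Lrot11 (Lpr_ct (f375655 IH) (Lpn (LP (LK LD1_c10 LD2_c51 LD3_c0))))
theorem f254853 : Led Lsl_at (LP (LK LD1_c8 LD2_c55 LD3_c50)) = (LP (LK LD1_c16 LD2_c43 LD3_c0)) :=
  Lre_a IH (LK LD1_c8 LD2_c55 LD3_c50) (LK LD1_c16 LD2_c43 LD3_c0) Lrfl Lrfl
theorem f375721 : Led Lsl_ft (LP (LK LD1_c16 LD2_c43 LD3_c0)) = (LP (LK LD1_c10 LD2_c51 LD3_c0)) :=
  Lgr Lrot101 (Lpe (f254853 IH) (Lpr_ff (f375703 IH) (Lpe (f329265 IH) (Lpn (LP (LK LD1_c10 LD2_c51 LD3_c0))))))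
theorem f375734 : Led Lsl_ct (LP (LK LD1_c25 LD2_c7 LD3_c58)) = (LP (LK LD1_c16 LD2_c43 LD3_c0)) :=
  Lgr Lrot40 (Lpr_ff (f375728 IH) (Lpr_cf (f375660 IH) (Lpe (f375721 IH) (Lpn (LP (LK LD1_c16 LD2_c43 LD3_c0))))))
theorem f234784 : Led Lsl_gt (LP (LK LD1_c10 LD2_c50 LD3_c61)) = (LP (LK LD1_c5 LD2_c29 LD3_c53)) :=
  Lre_g IH (LK LD1_c10 LD2_c50 LD3_c61) (LK LD1_c5 LD2_c29 LD3_c53) Lrfl Lrfl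
theorem f375897 : Led Lsl_gt (LP (LK LD1_c16 LD2_c43 LD3_c0)) = (LP (LK LD1_c10 LD2_c50 LD3_c61)) :=
  Lgr Lrot5 (Lpr_ft (f375721 IH) (Lpr_at (f329265 IH) (Lpe (f234784 IH) (Lpn (LP (LK LD1_c10 LD2_c50 LD3_c61))))))
theorem f375674 : Led Lsl_ct (LP (LK LD1_c19 LD2_c36 LD3_c47)) = (LP (LK LD1_c10 LD2_c50 LD3_c61)) :=
  Lre_c IH (LK LD1_c19 LD2_c36 LD3_c47) (LK LD1_c10 LD2_c50 LD3_c61) Lrfl Lrfl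
theorem f382908 : Led Lsl_bf (LP (LK LD1_c16 LD2_c37 LD3_c13)) = (LP (LK LD1_c19 LD2_c36 LD3_c47)) :=
  Lgr Lrot165 (Lpr_gt (f289114 IH) (Lpe (K17.f223306 IH) (Lpe (f277419 IH) (Lpe (f224417 IH) (Lpr_bt (f382903 IH) (Lpr_gt (f334214 IH) (Lpe (f375732 IH) (Lpr_ct (f375734 IH) (Lpr_gt (f375897 IH) (Lpe (f375674 IH) (Lpn (LP (LK LD1_c19 LD2_c36 LD3_c47)))))))))))))
theorem f289090 : Led Lsl_ct (LP (LK LD1_c16 LD2_c37 LD3_c13)) = (LP (LK LD1_c26 LD2_c34 LD3_c25)) :=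
  Lre_c IH (LK LD1_c16 LD2_c37 LD3_c13) (LK LD1_c26 LD2_c34 LD3_c25) Lrfl Lrfl
theorem f375899 : Led Lsl_ct (LP (LK LD1_c10 LD2_c50 LD3_c61)) = (LP (LK LD1_c19 LD2_c36 LD3_c47)) :=
  Lre_c IH (LK LD1_c10 LD2_c50 LD3_c61) (LK LD1_c19 LD2_c36 LD3_c47) Lrfl Lrfl
theorem f234785 : Led Lsl_bt (LP (LK LD1_c19 LD2_c36 LD3_c46)) = (LP (LK LD1_c10 LD2_c50 LD3_c61)) :=
  Lre_b IH (LK LD1_c19 LD2_c36 LD3_c46) (LK LD1_c10 LD2_c50 LD3_c61) Lrfl Lrfl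
theorem f382912 : Led Lsl_ct (LP (LK LD1_c19 LD2_c15 LD3_c7)) = (LP (LK LD1_c19 LD2_c36 LD3_c46)) :=
  Lgr Lrot83 (Lpe (f289092 IH) (Lpe (f289090 IH) (Lpr_bf (f382908 IH) (Lpe (f375899 IH) (Lpe (f234785 IH) (Lpn (LP (LK LD1_c19 LD2_c36 LD3_c46))))))))
theorem f382926 : Led Lsl_cf (LP (LK LD1_c19 LD2_c15 LD3_c7)) = (LP (LK LD1_c19 LD2_c36 LD3_c46)) :=
  Lgr Lrot11 (Lpr_ct (f382912 IH) (Lpn (LP (LK LD1_c19 LD2_c36 LD3_c46))))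
theorem f234783 : Led Lsl_bt (LP (LK LD1_c2 LD2_c41 LD3_c16)) = (LP (LK LD1_c5 LD2_c29 LD3_c53)) :=
  Lre_b IH (LK LD1_c2 LD2_c41 LD3_c16) (LK LD1_c5 LD2_c29 LD3_c53) Lrfl Lrfl
theorem f51416 : Led Lsl_ct (LP (LK LD1_c8 LD2_c16 LD3_c24)) = (LP (LK LD1_c4 LD2_c8 LD3_c10)) :=
  Lre_c IH (LK LD1_c8 LD2_c16 LD3_c24) (LK LD1_c4 LD2_c8 LD3_c10) Lrfl Lrfl
theorem f175174 : Led Lsl_bt (LP (LK LD1_c2 LD2_c41 LD3_c18)) = (LP (LK LD1_c1 LD2_c17 LD3_c19)) :=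
  Lre_b IH (LK LD1_c2 LD2_c41 LD3_c18) (LK LD1_c1 LD2_c17 LD3_c19) Lrfl Lrfl
theorem f175192 : Led Lsl_ct (LP (LK LD1_c2 LD2_c41 LD3_c18)) = (LP (LK LD1_c1 LD2_c17 LD3_c25)) :=
  Lre_c IH (LK LD1_c2 LD2_c41 LD3_c18) (LK LD1_c1 LD2_c17 LD3_c25) Lrfl Lrfl
theorem f234786 : Led Lsl_gt (LP (LK LD1_c2 LD2_c41 LD3_c28)) = (LP (LK LD1_c1 LD2_c17 LD3_c25)) :=
  Lre_g IH (LK LD1_c2 LD2_c41 LD3_c28) (LK LD1_c1 LD2_c17 LD3_c25) Lrfl Lrfl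
theorem f234787 : Led Lsl_ct (LP (LK LD1_c5 LD2_c30 LD3_c26)) = (LP (LK LD1_c2 LD2_c41 LD3_c28)) :=
  Lre_c IH (LK LD1_c5 LD2_c30 LD3_c26) (LK LD1_c2 LD2_c41 LD3_c28) Lrfl Lrfl
theorem f234788 : Led Lsl_bt (LP (LK LD1_c5 LD2_c30 LD3_c26)) = (LP (LK LD1_c10 LD2_c52 LD3_c24)) :=
  Lre_b IH (LK LD1_c5 LD2_c30 LD3_c26) (LK LD1_c10 LD2_c52 LD3_c24) Lrfl Lrfl
theorem f234789 : Led Lsl_gt (LP (LK LD1_c15 LD2_c33 LD3_c19)) = (LP (LK LD1_c10 LD2_c52 LD3_c24)) :=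
  Lgr Lrot164 (Lpe (K22.f189688 IH) (Lpr_ct (f51416 IH) (Lpr_gf (K14.f234776 IH) (Lpe (K14.f220578 IH) (Lpe (K14.f175175 IH) (Lpe (f175174 IH) (Lpr_ct (f175192 IH) (Lpe (f234786 IH) (Lpe (f234787 IH) (Lpr_bt (f234788 IH) (Lpn (LP (LK LD1_c10 LD2_c52 LD3_c24)))))))))))))
theorem f234792 : Led Lsl_ct (LP (LK LD1_c10 LD2_c52 LD3_c24)) = (LP (LK LD1_c19 LD2_c39 LD3_c25)) :=
  Lre_c IH (LK LD1_c10 LD2_c52 LD3_c24) (LK LD1_c19 LD2_c39 LD3_c25) Lrfl Lrfl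
theorem f382936 : Led Lsl_gf (LP (LK LD1_c19 LD2_c15 LD3_c7)) = (LP (LK LD1_c19 LD2_c39 LD3_c25)) :=
  Lgr Lrot129 (Lpr_cf (f382926 IH) (Lpr_bt (f234785 IH) (Lpr_gt (f234784 IH) (Lpe (f234783 IH) (Lpr_ct (K14.f220578 IH) (Lpe (K14.f234776 IH) (Lpe (f51416 IH) (Lpr_bt (K22.f189688 IH) (Lpr_gt (f234789 IH) (Lpr_ct (f234792 IH) (Lpn (LP (LK LD1_c19 LD2_c39 LD3_c25)))))))))))))
theorem f382942 : Led Lsl_bt (LP (LK LD1_c10 LD2_c52 LD3_c21)) = (LP (LK LD1_c19 LD2_c39 LD3_c25)) :=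
  Lre_b IH (LK LD1_c10 LD2_c52 LD3_c21) (LK LD1_c19 LD2_c39 LD3_c25) Lrfl Lrfl
theorem f277337 : Led Lsl_ct (LP (LK LD1_c10 LD2_c52 LD3_c21)) = (LP (LK LD1_c5 LD2_c30 LD3_c25)) :=
  Lre_c IH (LK LD1_c10 LD2_c52 LD3_c21) (LK LD1_c5 LD2_c30 LD3_c25) Lrfl Lrfl
theorem f384825 : Led Lsl_gt (LP (LK LD1_c10 LD2_c48 LD3_c60)) = (LP (LK LD1_c5 LD2_c30 LD3_c25)) :=
  Lgr Lrot149 (Lpr_cf (f384821 IH) (Lpr_gf (f277262 IH) (Lpr_bf (f277413 IH) (Lpr_ct (f223316 IH) (Lpe (f289114 IH) (Lpe (f289091 IH) (Lpr_bt (f289092 IH) (Lpr_gf (f382936 IH) (Lpe (f382942 IH) (Lpr_ct (f277337 IH) (Lpn (LP (LK LD1_c5 LD2_c30 LD3_c25)))))))))))))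
theorem f226166 : Led Lsl_dt (LP (LK LD1_c2 LD2_c43 LD3_c1)) = (LP (LK LD1_c1 LD2_c17 LD3_c60)) :=
  Lre_d IH (LK LD1_c2 LD2_c43 LD3_c1) (LK LD1_c1 LD2_c17 LD3_c60) Lrfl Lrfl
theorem f172983 : Led Lsl_dt (LP (LK LD1_c2 LD2_c42 LD3_c59)) = (LP (LK LD1_c4 LD2_c33 LD3_c38)) :=
  Lre_d IH (LK LD1_c2 LD2_c42 LD3_c59) (LK LD1_c4 LD2_c33 LD3_c38) Lrfl Lrfl
theorem f173009 : Led Lsl_ct (LP (LK LD1_c4 LD2_c33 LD3_c38)) = (LP (LK LD1_c9 LD2_c4 LD3_c1)) :=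
  Lre_c IH (LK LD1_c4 LD2_c33 LD3_c38) (LK LD1_c9 LD2_c4 LD3_c1) Lrfl Lrfl
theorem f173528 : Led Lsl_dt (LP (LK LD1_c16 LD2_c55 LD3_c17)) = (LP (LK LD1_c9 LD2_c4 LD3_c1)) :=
  Lre_d IH (LK LD1_c16 LD2_c55 LD3_c17) (LK LD1_c9 LD2_c4 LD3_c1) Lrfl Lrfl
theorem f173529 : Led Lsl_gt (LP (LK LD1_c11 LD2_c1 LD3_c9)) = (LP (LK LD1_c16 LD2_c55 LD3_c17)) :=
  Lre_g IH (LK LD1_c11 LD2_c1 LD3_c9) (LK LD1_c16 LD2_c55 LD3_c17) Lrfl Lrfl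
theorem f213415 : Led Lsl_ct (LP (LK LD1_c10 LD2_c58 LD3_c31)) = (LP (LK LD1_c5 LD2_c33 LD3_c16)) :=
  Lre_c IH (LK LD1_c10 LD2_c58 LD3_c31) (LK LD1_c5 LD2_c33 LD3_c16) Lrfl Lrfl
theorem f226167 : Led Lsl_df (LP (LK LD1_c11 LD2_c1 LD3_c9)) = (LP (LK LD1_c19 LD2_c20 LD3_c60)) :=
  Lgr Lrot153 (Lpr_gt (f173529 IH) (Lpr_dt (f173528 IH) (Lpe (f173009 IH) (Lpe (f172983 IH) (Lpe (K9.f172986 IH) (Lpe (f226166 IH) (Lpr_gf (K20.f226144 IH) (Lpe (f213415 IH) (Lpe (K22.f226130 IH) (Lpn (LP (LK LD1_c19 LD2_c20 LD3_c60))))))))))))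
theorem f226136 : Led Lsl_dt (LP (LK LD1_c5 LD2_c25 LD3_c14)) = (LP (LK LD1_c10 LD2_c41 LD3_c21)) :=
  Lre_d IH (LK LD1_c5 LD2_c25 LD3_c14) (LK LD1_c10 LD2_c41 LD3_c21) Lrfl Lrfl
theorem f218360 : Led Lsl_ct (LP (LK LD1_c2 LD2_c39 LD3_c5)) = (LP (LK LD1_c5 LD2_c25 LD3_c14)) :=
  Lre_c IH (LK LD1_c2 LD2_c39 LD3_c5) (LK LD1_c5 LD2_c25 LD3_c14) Lrfl Lrfl
theorem f226236 : Led Lsl_dt (LP (LK LD1_c5 LD2_c25 LD3_c15)) = (LP (LK LD1_c2 LD2_c39 LD3_c5)) :=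
  Lre_d IH (LK LD1_c5 LD2_c25 LD3_c15) (LK LD1_c2 LD2_c39 LD3_c5) Lrfl Lrfl
theorem f226237 : Led Lsl_ct (LP (LK LD1_c10 LD2_c41 LD3_c25)) = (LP (LK LD1_c5 LD2_c25 LD3_c15)) :=
  Lre_c IH (LK LD1_c10 LD2_c41 LD3_c25) (LK LD1_c5 LD2_c25 LD3_c15) Lrfl Lrfl
theorem f226238 : Led Lsl_dt (LP (LK LD1_c19 LD2_c21 LD3_c8)) = (LP (LK LD1_c10 LD2_c41 LD3_c25)) :=
  Lre_d IH (LK LD1_c19 LD2_c21 LD3_c8) (LK LD1_c10 LD2_c41 LD3_c25) Lrfl Lrfl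
theorem f226239 : Led Lsl_ct (LP (LK LD1_c11 LD2_c1 LD3_c10)) = (LP (LK LD1_c19 LD2_c21 LD3_c8)) :=
  Lre_c IH (LK LD1_c11 LD2_c1 LD3_c10) (LK LD1_c19 LD2_c21 LD3_c8) Lrfl Lrfl
theorem f226240 : Led Lsl_dt (LP (LK LD1_c19 LD2_c21 LD3_c21)) = (LP (LK LD1_c11 LD2_c1 LD3_c10)) :=
  Lre_d IH (LK LD1_c19 LD2_c21 LD3_c21) (LK LD1_c11 LD2_c1 LD3_c10) Lrfl Lrfl
theorem f226244 : Led Lsl_dt (LP (LK LD1_c5 LD2_c25 LD3_c20)) = (LP (LK LD1_c2 LD2_c39 LD3_c6)) :=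
  Lre_d IH (LK LD1_c5 LD2_c25 LD3_c20) (LK LD1_c2 LD2_c39 LD3_c6) Lrfl Lrfl
theorem f226245 : Led Lsl_ct (LP (LK LD1_c10 LD2_c41 LD3_c38)) = (LP (LK LD1_c5 LD2_c25 LD3_c20)) :=
  Lre_c IH (LK LD1_c10 LD2_c41 LD3_c38) (LK LD1_c5 LD2_c25 LD3_c20) Lrfl Lrfl
theorem f226246 : Led Lsl_dt (LP (LK LD1_c19 LD2_c21 LD3_c24)) = (LP (LK LD1_c10 LD2_c41 LD3_c38)) :=
  Lre_d IH (LK LD1_c19 LD2_c21 LD3_c24) (LK LD1_c10 LD2_c41 LD3_c38) Lrfl Lrfl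
theorem f226247 : Led Lsl_ct (LP (LK LD1_c11 LD2_c1 LD3_c9)) = (LP (LK LD1_c19 LD2_c21 LD3_c24)) :=
  Lgr Lrot176 (Lpr_df (f226167 IH) (Lpe (K22.f226129 IH) (Lpe (f226136 IH) (Lpe (f218360 IH) (Lpe (f226236 IH) (Lpe (f226237 IH) (Lpe (f226238 IH) (Lpe (f226239 IH) (Lpe (f226240 IH) (Lpe (K22.f226241 IH) (Lpe (K22.f226242 IH) (Lpe (K22.f226243 IH) (Lpe (f226244 IH) (Lpe (f226245 IH) (Lpe (f226246 IH) (Lpn (LP (LK LD1_c19 LD2_c21 LD3_c24))))))))))))))))))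
theorem f226264 : Led Lsl_gt (LP (LK LD1_c5 LD2_c34 LD3_c29)) = (LP (LK LD1_c11 LD2_c1 LD3_c9)) :=
  Lre_g IH (LK LD1_c5 LD2_c34 LD3_c29) (LK LD1_c11 LD2_c1 LD3_c9) Lrfl Lrfl
theorem f226284 : Led Lsl_ct (LP (LK LD1_c11 LD2_c1 LD3_c11)) = (LP (LK LD1_c5 LD2_c34 LD3_c29)) :=
  Lre_c IH (LK LD1_c11 LD2_c1 LD3_c11) (LK LD1_c5 LD2_c34 LD3_c29) Lrfl Lrfl
theorem f226293 : Led Lsl_gt (LP (LK LD1_c19 LD2_c21 LD3_c57)) = (LP (LK LD1_c11 LD2_c1 LD3_c11)) :=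
  Lre_g IH (LK LD1_c19 LD2_c21 LD3_c57) (LK LD1_c11 LD2_c1 LD3_c11) Lrfl Lrfl
theorem f226276 : Led Lsl_ct (LP (LK LD1_c5 LD2_c25 LD3_c20)) = (LP (LK LD1_c10 LD2_c41 LD3_c38)) :=
  Lre_c IH (LK LD1_c5 LD2_c25 LD3_c20) (LK LD1_c10 LD2_c41 LD3_c38) Lrfl Lrfl
theorem f226294 : Led Lsl_gt (LP (LK LD1_c10 LD2_c41 LD3_c24)) = (LP (LK LD1_c5 LD2_c25 LD3_c20)) :=
  Lre_g IH (LK LD1_c10 LD2_c41 LD3_c24) (LK LD1_c5 LD2_c25 LD3_c20) Lrfl Lrfl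
theorem f226295 : Led Lsl_ct (LP (LK LD1_c19 LD2_c21 LD3_c3)) = (LP (LK LD1_c10 LD2_c41 LD3_c24)) :=
  Lre_c IH (LK LD1_c19 LD2_c21 LD3_c3) (LK LD1_c10 LD2_c41 LD3_c24) Lrfl Lrfl
theorem f226296 : Led Lsl_gt (LP (LK LD1_c11 LD2_c0 LD3_c3)) = (LP (LK LD1_c19 LD2_c21 LD3_c3)) :=
  Lre_g IH (LK LD1_c11 LD2_c0 LD3_c3) (LK LD1_c19 LD2_c21 LD3_c3) Lrfl Lrfl
theorem f226299 : Led Lsl_df (LP (LK LD1_c19 LD2_c21 LD3_c57)) = (LP (LK LD1_c11 LD2_c0 LD3_c3)) :=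
  Lgr Lrot155 (Lpr_gt (f226293 IH) (Lpr_ct (f226284 IH) (Lpr_gt (f226264 IH) (Lpr_ct (f226247 IH) (Lpr_dt (f226246 IH) (Lpe (f226276 IH) (Lpe (f226294 IH) (Lpe (f226295 IH) (Lpe (f226296 IH) (Lpn (LP (LK LD1_c11 LD2_c0 LD3_c3))))))))))))
theorem f226319 : Led Lsl_dt (LP (LK LD1_c11 LD2_c1 LD3_c11)) = (LP (LK LD1_c19 LD2_c20 LD3_c40)) :=
  Lre_d IH (LK LD1_c11 LD2_c1 LD3_c11) (LK LD1_c19 LD2_c20 LD3_c40) Lrfl Lrfl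
theorem f226320 : Led Lsl_ct (LP (LK LD1_c19 LD2_c20 LD3_c40)) = (LP (LK LD1_c10 LD2_c41 LD3_c9)) :=
  Lre_c IH (LK LD1_c19 LD2_c20 LD3_c40) (LK LD1_c10 LD2_c41 LD3_c9) Lrfl Lrfl
theorem f218368 : Led Lsl_dt (LP (LK LD1_c5 LD2_c25 LD3_c11)) = (LP (LK LD1_c10 LD2_c41 LD3_c9)) :=
  Lre_d IH (LK LD1_c5 LD2_c25 LD3_c11) (LK LD1_c10 LD2_c41 LD3_c9) Lrfl Lrfl
theorem f246527 : Led Lsl_gf (LP (LK LD1_c5 LD2_c25 LD3_c15)) = (LP (LK LD1_c10 LD2_c40 LD3_c42)) :=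
  Lgr Lrot144 (Lpr_dt (f226236 IH) (Lpr_gt (K12.f218298 IH) (Lpr_dt (f218368 IH) (Lpe (f226320 IH) (Lpe (f226319 IH) (Lpe (f226293 IH) (Lpr_df (f226299 IH) (Lpr_gf (K14.f246522 IH) (Lpe (K14.f246497 IH) (Lpn (LP (LK LD1_c10 LD2_c40 LD3_c42))))))))))))
theorem f226134 : Led Lsl_dt (LP (LK LD1_c10 LD2_c41 LD3_c21)) = (LP (LK LD1_c5 LD2_c25 LD3_c14)) :=
  Lre_d IH (LK LD1_c10 LD2_c41 LD3_c21) (LK LD1_c5 LD2_c25 LD3_c14) Lrfl Lrfl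
theorem f384828 : Led Lsl_dt (LP (LK LD1_c5 LD2_c30 LD3_c25)) = (LP (LK LD1_c10 LD2_c52 LD3_c22)) :=
  Lre_d IH (LK LD1_c5 LD2_c30 LD3_c25) (LK LD1_c10 LD2_c52 LD3_c22) Lrfl Lrfl
theorem f384829 : Led Lsl_gf (LP (LK LD1_c10 LD2_c41 LD3_c21)) = (LP (LK LD1_c10 LD2_c52 LD3_c22)) :=
  Lgr Lrot143 (Lpr_dt (f226134 IH) (Lpe (f218360 IH) (Lpe (f226236 IH) (Lpr_gf (f246527 IH) (Lpe (K14.f246553 IH) (Lpe (f225402 IH) (Lpe (f384814 IH) (Lpr_gt (f384825 IH) (Lpr_dt (f384828 IH) (Lpn (LP (LK LD1_c10 LD2_c52 LD3_c22))))))))))))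
theorem f226304 : Led Lsl_dt (LP (LK LD1_c2 LD2_c43 LD3_c0)) = (LP (LK LD1_c5 LD2_c33 LD3_c59)) :=
  Lre_d IH (LK LD1_c2 LD2_c43 LD3_c0) (LK LD1_c5 LD2_c33 LD3_c59) Lrfl Lrfl
theorem f226178 : Led Lsl_ct (LP (LK LD1_c5 LD2_c34 LD3_c1)) = (LP (LK LD1_c2 LD2_c43 LD3_c1)) :=
  Lre_c IH (LK LD1_c5 LD2_c34 LD3_c1) (LK LD1_c2 LD2_c43 LD3_c1) Lrfl Lrfl
theorem f226174 : Led Lsl_dt (LP (LK LD1_c11 LD2_c0 LD3_c16)) = (LP (LK LD1_c5 LD2_c34 LD3_c1)) :=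
  Lre_d IH (LK LD1_c11 LD2_c0 LD3_c16) (LK LD1_c5 LD2_c34 LD3_c1) Lrfl Lrfl
theorem f226173 : Led Lsl_ct (LP (LK LD1_c19 LD2_c21 LD3_c58)) = (LP (LK LD1_c11 LD2_c0 LD3_c16)) :=
  Lre_c IH (LK LD1_c19 LD2_c21 LD3_c58) (LK LD1_c11 LD2_c0 LD3_c16) Lrfl Lrfl
theorem f226305 : Led Lsl_dt (LP (LK LD1_c11 LD2_c0 LD3_c40)) = (LP (LK LD1_c19 LD2_c21 LD3_c58)) :=
  Lre_d IH (LK LD1_c11 LD2_c0 LD3_c40) (LK LD1_c19 LD2_c21 LD3_c58) Lrfl Lrfl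
theorem f226306 : Led Lsl_ct (LP (LK LD1_c5 LD2_c34 LD3_c14)) = (LP (LK LD1_c11 LD2_c0 LD3_c40)) :=
  Lre_c IH (LK LD1_c5 LD2_c34 LD3_c14) (LK LD1_c11 LD2_c0 LD3_c40) Lrfl Lrfl
theorem f226307 : Led Lsl_dt (LP (LK LD1_c2 LD2_c43 LD3_c5)) = (LP (LK LD1_c5 LD2_c34 LD3_c14)) :=
  Lre_d IH (LK LD1_c2 LD2_c43 LD3_c5) (LK LD1_c5 LD2_c34 LD3_c14) Lrfl Lrfl
theorem f218314 : Led Lsl_ct (LP (LK LD1_c1 LD2_c17 LD3_c61)) = (LP (LK LD1_c2 LD2_c43 LD3_c5)) :=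
  Lre_c IH (LK LD1_c1 LD2_c17 LD3_c61) (LK LD1_c2 LD2_c43 LD3_c5) Lrfl Lrfl
theorem f218315 : Led Lsl_dt (LP (LK LD1_c2 LD2_c43 LD3_c6)) = (LP (LK LD1_c1 LD2_c17 LD3_c61)) :=
  Lre_d IH (LK LD1_c2 LD2_c43 LD3_c6) (LK LD1_c1 LD2_c17 LD3_c61) Lrfl Lrfl
theorem f226150 : Led Lsl_ct (LP (LK LD1_c5 LD2_c34 LD3_c16)) = (LP (LK LD1_c2 LD2_c43 LD3_c6)) :=
  Lre_c IH (LK LD1_c5 LD2_c34 LD3_c16) (LK LD1_c2 LD2_c43 LD3_c6) Lrfl Lrfl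
theorem f226308 : Led Lsl_dt (LP (LK LD1_c11 LD2_c0 LD3_c46)) = (LP (LK LD1_c5 LD2_c34 LD3_c16)) :=
  Lre_d IH (LK LD1_c11 LD2_c0 LD3_c46) (LK LD1_c5 LD2_c34 LD3_c16) Lrfl Lrfl
theorem f226309 : Led Lsl_ct (LP (LK LD1_c19 LD2_c21 LD3_c57)) = (LP (LK LD1_c11 LD2_c0 LD3_c46)) :=
  Lgr Lrot176 (Lpr_df (f226299 IH) (Lpe (K14.f226303 IH) (Lpe (f226304 IH) (Lpe (K14.f173007 IH) (Lpe (f226166 IH) (Lpe (f226178 IH) (Lpe (f226174 IH) (Lpe (f226173 IH) (Lpe (f226305 IH) (Lpe (f226306 IH) (Lpe (f226307 IH) (Lpe (f218314 IH) (Lpe (f218315 IH) (Lpe (f226150 IH) (Lpe (f226308 IH) (Lpn (LP (LK LD1_c11 LD2_c0 LD3_c46))))))))))))))))))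
theorem f226259 : Led Lsl_gt (LP (LK LD1_c10 LD2_c41 LD3_c55)) = (LP (LK LD1_c19 LD2_c21 LD3_c57)) :=
  Lre_g IH (LK LD1_c10 LD2_c41 LD3_c55) (LK LD1_c19 LD2_c21 LD3_c57) Lrfl Lrfl
theorem f226258 : Led Lsl_ct (LP (LK LD1_c16 LD2_c55 LD3_c17)) = (LP (LK LD1_c10 LD2_c41 LD3_c55)) :=
  Lre_c IH (LK LD1_c16 LD2_c55 LD3_c17) (LK LD1_c10 LD2_c41 LD3_c55) Lrfl Lrfl
theorem f226249 : Led Lsl_dt (LP (LK LD1_c11 LD2_c1 LD3_c9)) = (LP (LK LD1_c19 LD2_c20 LD3_c60)) :=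
  Lgr Lrot42 (Lpr_df (f226167 IH) (Lpn (LP (LK LD1_c19 LD2_c20 LD3_c60))))
theorem f226194 : Led Lsl_dt (LP (LK LD1_c5 LD2_c34 LD3_c16)) = (LP (LK LD1_c11 LD2_c0 LD3_c46)) :=
  Lre_d IH (LK LD1_c5 LD2_c34 LD3_c16) (LK LD1_c11 LD2_c0 LD3_c46) Lrfl Lrfl
theorem f226146 : Led Lsl_ct (LP (LK LD1_c2 LD2_c43 LD3_c6)) = (LP (LK LD1_c5 LD2_c34 LD3_c16)) :=
  Lre_c IH (LK LD1_c2 LD2_c43 LD3_c6) (LK LD1_c5 LD2_c34 LD3_c16) Lrfl Lrfl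
theorem f226331 : Led Lsl_gt (LP (LK LD1_c19 LD2_c20 LD3_c60)) = (LP (LK LD1_c11 LD2_c0 LD3_c11)) :=
  Lgr Lrot9 (Lpe (f226249 IH) (Lpr_gt (f173529 IH) (Lpr_ct (f226258 IH) (Lpr_gt (f226259 IH) (Lpr_ct (f226309 IH) (Lpe (f226194 IH) (Lpe (f226146 IH) (Lpe (K22.f218316 IH) (Lpe (f226330 IH) (Lpn (LP (LK LD1_c11 LD2_c0 LD3_c11))))))))))))
theorem f277112 : Led Lsl_at (LP (LK LD1_c5 LD2_c28 LD3_c41)) = (LP (LK LD1_c2 LD2_c40 LD3_c38)) :=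
  Lre_a IH (LK LD1_c5 LD2_c28 LD3_c41) (LK LD1_c2 LD2_c40 LD3_c38) Lrfl Lrfl
theorem f277113 : Led Lsl_ct (LP (LK LD1_c10 LD2_c35 LD3_c60)) = (LP (LK LD1_c5 LD2_c28 LD3_c41)) :=
  Lgr Lrot111 (Lpe (K17.f277075 IH) (Lpr_cf (K21.f277106 IH) (Lpe (f277112 IH) (Lpn (LP (LK LD1_c5 LD2_c28 LD3_c41))))))
theorem f187030 : Led Lsl_gt (LP (LK LD1_c8 LD2_c21 LD3_c40)) = (LP (LK LD1_c15 LD2_c44 LD3_c7)) :=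
  Lre_g IH (LK LD1_c8 LD2_c21 LD3_c40) (LK LD1_c15 LD2_c44 LD3_c7) Lrfl Lrfl
theorem f277409 : Led Lsl_gf (LP (LK LD1_c10 LD2_c35 LD3_c60)) = (LP (LK LD1_c15 LD2_c44 LD3_c7)) :=
  Lgr Lrot76 (Lpe (K17.f277075 IH) (Lpr_ff (f277008 IH) (Lpr_gt (f187030 IH) (Lpn (LP (LK LD1_c15 LD2_c44 LD3_c7))))))
theorem f277338 : Led Lsl_gt (LP (LK LD1_c5 LD2_c30 LD3_c25)) = (LP (LK LD1_c10 LD2_c52 LD3_c19)) :=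
  Lre_g IH (LK LD1_c5 LD2_c30 LD3_c25) (LK LD1_c10 LD2_c52 LD3_c19) Lrfl Lrfl
theorem f384850 : Led Lsl_cf (LP (LK LD1_c15 LD2_c44 LD3_c7)) = (LP (LK LD1_c10 LD2_c52 LD3_c19)) :=
  Lgr Lrot169 (Lpe (f277409 IH) (Lpr_ct (f277113 IH) (Lpe (f277176 IH) (Lpe (f226330 IH) (Lpe (f226331 IH) (Lpe (K22.f226129 IH) (Lpr_gf (f384829 IH) (Lpe (f384828 IH) (Lpr_gt (f277338 IH) (Lpn (LP (LK LD1_c10 LD2_c52 LD3_c19))))))))))))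
theorem f341320 : Led Lsl_bf (LP (LK LD1_c8 LD2_c56 LD3_c8)) = (LP (LK LD1_c5 LD2_c28 LD3_c41)) :=
  Lgr Lrot24 (Lpr_bt (f341310 IH) (Lpn (LP (LK LD1_c5 LD2_c28 LD3_c41))))
theorem f384836 : Led Lsl_bt (LP (LK LD1_c2 LD2_c41 LD3_c28)) = (LP (LK LD1_c5 LD2_c30 LD3_c25)) :=
  Lre_b IH (LK LD1_c2 LD2_c41 LD3_c28) (LK LD1_c5 LD2_c30 LD3_c25) Lrfl Lrfl
theorem f339352 : Led Lsl_ct (LP (LK LD1_c2 LD2_c41 LD3_c28)) = (LP (LK LD1_c5 LD2_c30 LD3_c26)) :=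
  Lre_c IH (LK LD1_c2 LD2_c41 LD3_c28) (LK LD1_c5 LD2_c30 LD3_c26) Lrfl Lrfl
theorem f384869 : Led Lsl_gt (LP (LK LD1_c10 LD2_c52 LD3_c11)) = (LP (LK LD1_c5 LD2_c30 LD3_c26)) :=
  Lgr Lrot65 (Lpr_cf (K27.f179125 IH) (Lpr_bt (K27.f179124 IH) (Lpe (f341340 IH) (Lpr_bf (f341320 IH) (Lpe (f277173 IH) (Lpr_gf (f277409 IH) (Lpr_cf (f384850 IH) (Lpe (f277338 IH) (Lpe (f384836 IH) (Lpr_ct (f339352 IH) (Lpn (LP (LK LD1_c5 LD2_c30 LD3_c26)))))))))))))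
theorem f179144 : Led Lsl_bt (LP (LK LD1_c19 LD2_c39 LD3_c9)) = (LP (LK LD1_c10 LD2_c52 LD3_c11)) :=
  Lre_b IH (LK LD1_c19 LD2_c39 LD3_c9) (LK LD1_c10 LD2_c52 LD3_c11) Lrfl Lrfl
theorem f278935 : Led Lsl_gt (LP (LK LD1_c8 LD2_c53 LD3_c33)) = (LP (LK LD1_c16 LD2_c37 LD3_c42)) :=
  Lre_g IH (LK LD1_c8 LD2_c53 LD3_c33) (LK LD1_c16 LD2_c37 LD3_c42) Lrfl Lrfl
theorem f384898 : Led Lsl_ct (LP (LK LD1_c19 LD2_c39 LD3_c9)) = (LP (LK LD1_c16 LD2_c37 LD3_c42)) :=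
  Lgr Lrot10 (Lpr_bt (f179144 IH) (Lpr_gt (f384869 IH) (Lpr_ct (f234787 IH) (Lpr_gt (f234786 IH) (Lpe (f175192 IH) (Lpr_bt (f175174 IH) (Lpr_gt (K14.f175175 IH) (Lpe (f234801 IH) (Lpe (f375658 IH) (Lpr_gt (f278935 IH) (Lpn (LP (LK LD1_c16 LD2_c37 LD3_c42)))))))))))))
theorem f384907 : Led Lsl_cf (LP (LK LD1_c19 LD2_c39 LD3_c9)) = (LP (LK LD1_c16 LD2_c37 LD3_c42)) :=
  Lgr Lrot11 (Lpr_ct (f384898 IH) (Lpn (LP (LK LD1_c16 LD2_c37 LD3_c42))))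
theorem f279318 : Led Lsl_cf (LP (LK LD1_c4 LD2_c14 LD3_c2)) = (LP (LK LD1_c5 LD2_c28 LD3_c19)) :=
  Lgr Lrot14 (Lpe (K16.f260936 IH) (Lpr_gf (K16.f279313 IH) (Lpe (K16.f279310 IH) (Lpe (K16.f279316 IH) (Lpr_ct (K9.f167941 IH) (Lpr_gt (K9.f168075 IH) (Lpr_dt (K16.f168076 IH) (Lpr_gt (K16.f168077 IH) (Lpe (K16.f276432 IH) (Lpn (LP (LK LD1_c5 LD2_c28 LD3_c19))))))))))))
theorem f276439 : Led Lsl_bt (LP (LK LD1_c5 LD2_c28 LD3_c19)) = (LP (LK LD1_c10 LD2_c47 LD3_c42)) :=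
  Lre_b IH (LK LD1_c5 LD2_c28 LD3_c19) (LK LD1_c10 LD2_c47 LD3_c42) Lrfl Lrfl
theorem f276449 : Led Lsl_gt (LP (LK LD1_c19 LD2_c31 LD3_c37)) = (LP (LK LD1_c10 LD2_c47 LD3_c42)) :=
  Lre_g IH (LK LD1_c19 LD2_c31 LD3_c37) (LK LD1_c10 LD2_c47 LD3_c42) Lrfl Lrfl
theorem f276450 : Led Lsl_bt (LP (LK LD1_c28 LD2_c54 LD3_c8)) = (LP (LK LD1_c19 LD2_c31 LD3_c37)) :=
  Lre_b IH (LK LD1_c28 LD2_c54 LD3_c8) (LK LD1_c19 LD2_c31 LD3_c37) Lrfl Lrfl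
theorem f188629 : Led Lsl_bt (LP (LK LD1_c15 LD2_c51 LD3_c32)) = (LP (LK LD1_c8 LD2_c26 LD3_c45)) :=
  Lre_b IH (LK LD1_c15 LD2_c51 LD3_c32) (LK LD1_c8 LD2_c26 LD3_c45) Lrfl Lrfl
theorem f278034 : Led Lsl_bt (LP (LK LD1_c10 LD2_c19 LD3_c26)) = (LP (LK LD1_c18 LD2_c44 LD3_c31)) :=
  Lre_b IH (LK LD1_c10 LD2_c19 LD3_c26) (LK LD1_c18 LD2_c44 LD3_c31) Lrfl Lrfl
theorem f349156 : Led Lsl_ff (LP (LK LD1_c15 LD2_c51 LD3_c32)) = (LP (LK LD1_c18 LD2_c44 LD3_c31)) :=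
  Lgr Lrot25 (Lpr_bt (f188629 IH) (Lpr_ft (K26.f349154 IH) (Lpr_bt (f278034 IH) (Lpn (LP (LK LD1_c18 LD2_c44 LD3_c31))))))
theorem f245156 : Led Lsl_dt (LP (LK LD1_c15 LD2_c51 LD3_c32)) = (LP (LK LD1_c8 LD2_c26 LD3_c44)) :=
  Lre_d IH (LK LD1_c15 LD2_c51 LD3_c32) (LK LD1_c8 LD2_c26 LD3_c44) Lrfl Lrfl
theorem f235993 : Led Lsl_bt (LP (LK LD1_c10 LD2_c46 LD3_c15)) = (LP (LK LD1_c5 LD2_c27 LD3_c36)) :=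
  Lre_b IH (LK LD1_c10 LD2_c46 LD3_c15) (LK LD1_c5 LD2_c27 LD3_c36) Lrfl Lrfl
theorem f278035 : Led Lsl_dt (LP (LK LD1_c18 LD2_c44 LD3_c31)) = (LP (LK LD1_c10 LD2_c46 LD3_c15)) :=
  Lgr Lrot79 (Lpe (f278034 IH) (Lpr_df (K17.f278032 IH) (Lpe (f235993 IH) (Lpn (LP (LK LD1_c10 LD2_c46 LD3_c15))))))
theorem f278040 : Led Lsl_df (LP (LK LD1_c18 LD2_c44 LD3_c31)) = (LP (LK LD1_c10 LD2_c46 LD3_c15)) :=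
  Lgr Lrot38 (Lpr_dt (f278035 IH) (Lpn (LP (LK LD1_c10 LD2_c46 LD3_c15))))
theorem f349400 : Led Lsl_ft (LP (LK LD1_c8 LD2_c26 LD3_c44)) = (LP (LK LD1_c10 LD2_c46 LD3_c15)) :=
  Lgr Lrot54 (Lpe (f245156 IH) (Lpr_ff (f349156 IH) (Lpr_df (f278040 IH) (Lpn (LP (LK LD1_c10 LD2_c46 LD3_c15))))))
theorem f187193 : Led Lsl_bt (LP (LK LD1_c16 LD2_c13 LD3_c36)) = (LP (LK LD1_c8 LD2_c39 LD3_c51)) :=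
  Lre_b IH (LK LD1_c16 LD2_c13 LD3_c36) (LK LD1_c8 LD2_c39 LD3_c51) Lrfl Lrfl
theorem f278020 : Led Lsl_bt (LP (LK LD1_c5 LD2_c27 LD3_c36)) = (LP (LK LD1_c10 LD2_c46 LD3_c15)) :=
  Lre_b IH (LK LD1_c5 LD2_c27 LD3_c36) (LK LD1_c10 LD2_c46 LD3_c15) Lrfl Lrfl
theorem f278021 : Led Lsl_cf (LP (LK LD1_c16 LD2_c13 LD3_c36)) = (LP (LK LD1_c10 LD2_c46 LD3_c15)) :=
  Lgr Lrot97 (Lpr_bt (f187193 IH) (Lpr_ct (K14.f187192 IH) (Lpr_bt (K10.f187188 IH) (Lpr_ct (K16.f278013 IH) (Lpr_bt (f278020 IH) (Lpn (LP (LK LD1_c10 LD2_c46 LD3_c15))))))))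
theorem f343951 : Led Lsl_ff (LP (LK LD1_c5 LD2_c28 LD3_c19)) = (LP (LK LD1_c8 LD2_c39 LD3_c51)) :=
  Lgr Lrot19 (Lpe (K16.f261073 IH) (Lpr_ft (K23.f343945 IH) (Lpe (K14.f191831 IH) (Lpn (LP (LK LD1_c8 LD2_c39 LD3_c51))))))
theorem f343957 : Led Lsl_ft (LP (LK LD1_c10 LD2_c47 LD3_c42)) = (LP (LK LD1_c16 LD2_c13 LD3_c36)) :=
  Lgr Lrot75 (Lpe (f276439 IH) (Lpr_ff (f343951 IH) (Lpe (f187193 IH) (Lpn (LP (LK LD1_c16 LD2_c13 LD3_c36))))))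
theorem f343959 : Led Lsl_ff (LP (LK LD1_c10 LD2_c47 LD3_c42)) = (LP (LK LD1_c16 LD2_c13 LD3_c36)) :=
  Lgr Lrot3 (Lpr_ft (f343957 IH) (Lpn (LP (LK LD1_c16 LD2_c13 LD3_c36))))
theorem f349404 : Led Lsl_cf (LP (LK LD1_c8 LD2_c26 LD3_c44)) = (LP (LK LD1_c10 LD2_c47 LD3_c42)) :=
  Lgr Lrot108 (Lpr_ft (f349400 IH) (Lpe (f278021 IH) (Lpe (f343959 IH) (Lpn (LP (LK LD1_c10 LD2_c47 LD3_c42))))))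
theorem f349419 : Led Lsl_ct (LP (LK LD1_c8 LD2_c26 LD3_c44)) = (LP (LK LD1_c10 LD2_c47 LD3_c42)) :=
  Lgr Lrot59 (Lpr_cf (f349404 IH) (Lpn (LP (LK LD1_c10 LD2_c47 LD3_c42))))
theorem f236322 : Led Lsl_bt (LP (LK LD1_c8 LD2_c26 LD3_c44)) = (LP (LK LD1_c4 LD2_c14 LD3_c6)) :=
  Lre_b IH (LK LD1_c8 LD2_c26 LD3_c44) (LK LD1_c4 LD2_c14 LD3_c6) Lrfl Lrfl
theorem f243622 : Led Lsl_bt (LP (LK LD1_c2 LD2_c40 LD3_c7)) = (LP (LK LD1_c5 LD2_c27 LD3_c30)) :=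
  Lre_b IH (LK LD1_c2 LD2_c40 LD3_c7) (LK LD1_c5 LD2_c27 LD3_c30) Lrfl Lrfl
theorem f245008 : Led Lsl_gt (LP (LK LD1_c5 LD2_c27 LD3_c30)) = (LP (LK LD1_c10 LD2_c46 LD3_c5)) :=
  Lre_g IH (LK LD1_c5 LD2_c27 LD3_c30) (LK LD1_c10 LD2_c46 LD3_c5) Lrfl Lrfl
theorem f245015 : Led Lsl_bt (LP (LK LD1_c19 LD2_c28 LD3_c26)) = (LP (LK LD1_c10 LD2_c46 LD3_c5)) :=
  Lre_b IH (LK LD1_c19 LD2_c28 LD3_c26) (LK LD1_c10 LD2_c46 LD3_c5) Lrfl Lrfl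
theorem f349429 : Led Lsl_ct (LP (LK LD1_c19 LD2_c28 LD3_c26)) = (LP (LK LD1_c19 LD2_c31 LD3_c37)) :=
  Lgr Lrot64 (Lpr_bt (f245015 IH) (Lpe (f245008 IH) (Lpe (f243622 IH) (Lpr_ct (K15.f243625 IH) (Lpe (K16.f247325 IH) (Lpe (K16.f177943 IH) (Lpe (K16.f271543 IH) (Lpe (f236322 IH) (Lpr_ct (f349419 IH) (Lpe (f276449 IH) (Lpn (LP (LK LD1_c19 LD2_c31 LD3_c37)))))))))))))
theorem f349432 : Led Lsl_bt (LP (LK LD1_c10 LD2_c46 LD3_c5)) = (LP (LK LD1_c19 LD2_c28 LD3_c26)) :=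
  Lre_b IH (LK LD1_c10 LD2_c46 LD3_c5) (LK LD1_c19 LD2_c28 LD3_c26) Lrfl Lrfl
theorem f245013 : Led Lsl_ct (LP (LK LD1_c19 LD2_c28 LD3_c27)) = (LP (LK LD1_c10 LD2_c46 LD3_c5)) :=
  Lre_c IH (LK LD1_c19 LD2_c28 LD3_c27) (LK LD1_c10 LD2_c46 LD3_c5) Lrfl Lrfl
theorem f349433 : Led Lsl_bt (LP (LK LD1_c28 LD2_c50 LD3_c35)) = (LP (LK LD1_c19 LD2_c28 LD3_c27)) :=
  Lre_b IH (LK LD1_c28 LD2_c50 LD3_c35) (LK LD1_c19 LD2_c28 LD3_c27) Lrfl Lrfl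
theorem f349434 : Led Lsl_bt (LP (LK LD1_c19 LD2_c31 LD3_c37)) = (LP (LK LD1_c28 LD2_c54 LD3_c8)) :=
  Lre_b IH (LK LD1_c19 LD2_c31 LD3_c37) (LK LD1_c28 LD2_c54 LD3_c8) Lrfl Lrfl
theorem f349435 : Led Lsl_cf (LP (LK LD1_c28 LD2_c50 LD3_c35)) = (LP (LK LD1_c28 LD2_c54 LD3_c8)) :=
  Lgr Lrot97 (Lpr_bt (f349433 IH) (Lpr_ct (f245013 IH) (Lpr_bt (f349432 IH) (Lpr_ct (f349429 IH) (Lpr_bt (f349434 IH) (Lpn (LP (LK LD1_c28 LD2_c54 LD3_c8))))))))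
theorem f384912 : Led Lsl_gt (LP (LK LD1_c19 LD2_c39 LD3_c9)) = (LP (LK LD1_c28 LD2_c50 LD3_c35)) :=
  Lgr Lrot149 (Lpr_cf (f384907 IH) (Lpe (f278935 IH) (Lpe (f278926 IH) (Lpe (K17.f278929 IH) (Lpr_gf (K25.f278933 IH) (Lpr_cf (f279318 IH) (Lpr_bt (f276439 IH) (Lpe (f276449 IH) (Lpe (f276450 IH) (Lpe (f349435 IH) (Lpn (LP (LK LD1_c28 LD2_c50 LD3_c35)))))))))))))
theorem f179135 : Led Lsl_bt (LP (LK LD1_c10 LD2_c52 LD3_c11)) = (LP (LK LD1_c19 LD2_c39 LD3_c9)) :=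
  Lre_b IH (LK LD1_c10 LD2_c52 LD3_c11) (LK LD1_c19 LD2_c39 LD3_c9) Lrfl Lrfl
theorem f225396 : Led Lsl_bt (LP (LK LD1_c4 LD2_c11 LD3_c0)) = (LP (LK LD1_c2 LD2_c2 LD3_c47)) :=
  Lre_b IH (LK LD1_c4 LD2_c11 LD3_c0) (LK LD1_c2 LD2_c2 LD3_c47) Lrfl Lrfl
theorem f314900 : Led Lsl_gt (LP (LK LD1_c8 LD2_c9 LD3_c46)) = (LP (LK LD1_c4 LD2_c4 LD3_c25)) :=
  Lre_g IH (LK LD1_c8 LD2_c9 LD3_c46) (LK LD1_c4 LD2_c4 LD3_c25) Lrfl Lrfl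
theorem f179764 : Led Lsl_bt (LP (LK LD1_c1 LD2_c2 LD3_c52)) = (LP (LK LD1_c2 LD2_c11 LD3_c43)) :=
  Lre_b IH (LK LD1_c1 LD2_c2 LD3_c52) (LK LD1_c2 LD2_c11 LD3_c43) Lrfl Lrfl
theorem f179765 : Led Lsl_gt (LP (LK LD1_c2 LD2_c11 LD3_c43)) = (LP (LK LD1_c4 LD2_c29 LD3_c15)) :=
  Lre_g IH (LK LD1_c2 LD2_c11 LD3_c43) (LK LD1_c4 LD2_c29 LD3_c15) Lrfl Lrfl
theorem f179773 : Led Lsl_bt (LP (LK LD1_c8 LD2_c56 LD3_c43)) = (LP (LK LD1_c4 LD2_c29 LD3_c15)) :=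
  Lre_b IH (LK LD1_c8 LD2_c56 LD3_c43) (LK LD1_c4 LD2_c29 LD3_c15) Lrfl Lrfl
theorem f319148 : Led Lsl_ct (LP (LK LD1_c8 LD2_c56 LD3_c43)) = (LP (LK LD1_c8 LD2_c9 LD3_c46)) :=
  Lgr Lrot64 (Lpr_bt (f179773 IH) (Lpe (f179765 IH) (Lpe (f179764 IH) (Lpr_ct (K9.f167779 IH) (Lpr_gf (K9.f179758 IH) (Lpe (K13.f178878 IH) (Lpe (K13.f225244 IH) (Lpe (K20.f225420 IH) (Lpr_ct (K20.f319135 IH) (Lpe (f314900 IH) (Lpn (LP (LK LD1_c8 LD2_c9 LD3_c46)))))))))))))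
theorem f319150 : Led Lsl_gt (LP (LK LD1_c16 LD2_c44 LD3_c44)) = (LP (LK LD1_c8 LD2_c56 LD3_c43)) :=
  Lre_g IH (LK LD1_c16 LD2_c44 LD3_c44) (LK LD1_c8 LD2_c56 LD3_c43) Lrfl Lrfl
theorem f384871 : Led Lsl_bf (LP (LK LD1_c16 LD2_c44 LD3_c44)) = (LP (LK LD1_c10 LD2_c52 LD3_c19)) :=
  Lgr Lrot165 (Lpr_gt (f319150 IH) (Lpr_ct (f319148 IH) (Lpr_gt (f314900 IH) (Lpe (K20.f319135 IH) (Lpr_bt (K20.f225420 IH) (Lpr_gt (K13.f225244 IH) (Lpe (f225396 IH) (Lpr_ct (K14.f225398 IH) (Lpr_gt (f187030 IH) (Lpr_cf (f384850 IH) (Lpn (LP (LK LD1_c10 LD2_c52 LD3_c19)))))))))))))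
theorem f384867 : Led Lsl_ct (LP (LK LD1_c15 LD2_c44 LD3_c7)) = (LP (LK LD1_c10 LD2_c52 LD3_c19)) :=
  Lgr Lrot59 (Lpr_cf (f384850 IH) (Lpn (LP (LK LD1_c10 LD2_c52 LD3_c19))))
theorem f244544 : Led Lsl_gt (LP (LK LD1_c15 LD2_c22 LD3_c22)) = (LP (LK LD1_c8 LD2_c9 LD3_c41)) :=
  Lre_g IH (LK LD1_c15 LD2_c22 LD3_c22) (LK LD1_c8 LD2_c9 LD3_c41) Lrfl Lrfl
theorem f244545 : Led Lsl_ct (LP (LK LD1_c25 LD2_c14 LD3_c3)) = (LP (LK LD1_c15 LD2_c22 LD3_c22)) :=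
  Lre_c IH (LK LD1_c25 LD2_c14 LD3_c3) (LK LD1_c15 LD2_c22 LD3_c22) Lrfl Lrfl
theorem f187038 : Led Lsl_bt (LP (LK LD1_c10 LD2_c30 LD3_c59)) = (LP (LK LD1_c5 LD2_c20 LD3_c29)) :=
  Lre_b IH (LK LD1_c10 LD2_c30 LD3_c59) (LK LD1_c5 LD2_c20 LD3_c29) Lrfl Lrfl
theorem f256966 : Led Lsl_bt (LP (LK LD1_c25 LD2_c14 LD3_c3)) = (LP (LK LD1_c15 LD2_c44 LD3_c7)) :=
  Lgr Lrot92 (Lpr_ct (f244545 IH) (Lpr_gt (f244544 IH) (Lpr_cf (K17.f256957 IH) (Lpr_bt (f187038 IH) (Lpr_gt (K15.f171897 IH) (Lpr_ct (K12.f171896 IH) (Lpe (K12.f187023 IH) (Lpe (K14.f179762 IH) (Lpr_bt (K14.f187029 IH) (Lpr_gt (f187030 IH) (Lpn (LP (LK LD1_c15 LD2_c44 LD3_c7)))))))))))))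
theorem f244546 : Led Lsl_ct (LP (LK LD1_c15 LD2_c22 LD3_c22)) = (LP (LK LD1_c25 LD2_c14 LD3_c3)) :=
  Lre_c IH (LK LD1_c15 LD2_c22 LD3_c22) (LK LD1_c25 LD2_c14 LD3_c3) Lrfl Lrfl
theorem f354354 : Led Lsl_at (LP (LK LD1_c1 LD2_c18 LD3_c3)) = (LP (LK LD1_c2 LD2_c12 LD3_c15)) :=
  Lgr Lrot66 (Lpr_ff (f354352 IH) (Lpr_af (K20.f319314 IH) (Lpe (K20.f319308 IH) (Lpn (LP (LK LD1_c2 LD2_c12 LD3_c15))))))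
theorem f44742 : Led Lsl_bt (LP (LK LD1_c2 LD2_c43 LD3_c14)) = (LP (LK LD1_c1 LD2_c18 LD3_c3)) :=
  Lre_b IH (LK LD1_c2 LD2_c43 LD3_c14) (LK LD1_c1 LD2_c18 LD3_c3) Lrfl Lrfl
theorem f226620 : Led Lsl_at (LP (LK LD1_c5 LD2_c34 LD3_c37)) = (LP (LK LD1_c2 LD2_c43 LD3_c14)) :=
  Lre_a IH (LK LD1_c5 LD2_c34 LD3_c37) (LK LD1_c2 LD2_c43 LD3_c14) Lrfl Lrfl
theorem f319305 : Led Lsl_at (LP (LK LD1_c4 LD2_c30 LD3_c36)) = (LP (LK LD1_c8 LD2_c59 LD3_c33)) :=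
  Lre_a IH (LK LD1_c4 LD2_c30 LD3_c36) (LK LD1_c8 LD2_c59 LD3_c33) Lrfl Lrfl
theorem f354497 : Led Lsl_bf (LP (LK LD1_c5 LD2_c34 LD3_c37)) = (LP (LK LD1_c8 LD2_c59 LD3_c33)) :=
  Lgr Lrot81 (Lpr_at (f226620 IH) (Lpr_bt (f44742 IH) (Lpr_at (f354354 IH) (Lpr_bt (K20.f174738 IH) (Lpr_at (f319305 IH) (Lpn (LP (LK LD1_c8 LD2_c59 LD3_c33))))))))
theorem f354499 : Led Lsl_bt (LP (LK LD1_c5 LD2_c34 LD3_c37)) = (LP (LK LD1_c8 LD2_c59 LD3_c33)) :=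
  Lgr Lrot127 (Lpr_bf (f354497 IH) (Lpn (LP (LK LD1_c8 LD2_c59 LD3_c33))))
theorem f226528 : Led Lsl_bt (LP (LK LD1_c1 LD2_c18 LD3_c28)) = (LP (LK LD1_c0 LD2_c36 LD3_c8)) :=
  Lre_b IH (LK LD1_c1 LD2_c18 LD3_c28) (LK LD1_c0 LD2_c36 LD3_c8) Lrfl Lrfl
theorem f226560 : Led Lsl_ct (LP (LK LD1_c1 LD2_c18 LD3_c28)) = (LP (LK LD1_c2 LD2_c43 LD3_c47)) :=
  Lre_c IH (LK LD1_c1 LD2_c18 LD3_c28) (LK LD1_c2 LD2_c43 LD3_c47) Lrfl Lrfl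
theorem f178067 : Led Lsl_gt (LP (LK LD1_c5 LD2_c35 LD3_c45)) = (LP (LK LD1_c2 LD2_c43 LD3_c47)) :=
  Lre_g IH (LK LD1_c5 LD2_c35 LD3_c45) (LK LD1_c2 LD2_c43 LD3_c47) Lrfl Lrfl
theorem f179130 : Led Lsl_bt (LP (LK LD1_c5 LD2_c30 LD3_c21)) = (LP (LK LD1_c2 LD2_c41 LD3_c27)) :=
  Lre_b IH (LK LD1_c5 LD2_c30 LD3_c21) (LK LD1_c2 LD2_c41 LD3_c27) Lrfl Lrfl
theorem f226561 : Led Lsl_cf (LP (LK LD1_c5 LD2_c35 LD3_c45)) = (LP (LK LD1_c5 LD2_c30 LD3_c21)) :=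
  Lgr Lrot160 (Lpr_gt (f178067 IH) (Lpe (f226560 IH) (Lpr_bt (f226528 IH) (Lpr_gt (K12.f226537 IH) (Lpr_ct (K9.f7732 IH) (Lpe (K9.f179116 IH) (Lpe (K12.f168180 IH) (Lpr_bt (K27.f179122 IH) (Lpr_gt (K27.f175116 IH) (Lpe (f179130 IH) (Lpn (LP (LK LD1_c5 LD2_c30 LD3_c21)))))))))))))
theorem f178046 : Led Lsl_ct (LP (LK LD1_c2 LD2_c43 LD3_c47)) = (LP (LK LD1_c1 LD2_c18 LD3_c28)) :=
  Lre_c IH (LK LD1_c2 LD2_c43 LD3_c47) (LK LD1_c1 LD2_c18 LD3_c28) Lrfl Lrfl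
theorem f226529 : Led Lsl_bt (LP (LK LD1_c1 LD2_c18 LD3_c3)) = (LP (LK LD1_c2 LD2_c43 LD3_c14)) :=
  Lre_b IH (LK LD1_c1 LD2_c18 LD3_c3) (LK LD1_c2 LD2_c43 LD3_c14) Lrfl Lrfl
theorem f226530 : Led Lsl_df (LP (LK LD1_c1 LD2_c18 LD3_c28)) = (LP (LK LD1_c2 LD2_c43 LD3_c14)) :=
  Lgr Lrot12 (Lpr_bt (f226528 IH) (Lpr_dt (K12.f226409 IH) (Lpr_bt (f226529 IH) (Lpn (LP (LK LD1_c2 LD2_c43 LD3_c14))))))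
theorem f44743 : Led Lsl_ct (LP (LK LD1_c5 LD2_c34 LD3_c38)) = (LP (LK LD1_c2 LD2_c43 LD3_c14)) :=
  Lre_c IH (LK LD1_c5 LD2_c34 LD3_c38) (LK LD1_c2 LD2_c43 LD3_c14) Lrfl Lrfl
theorem f175097 : Led Lsl_gt (LP (LK LD1_c11 LD2_c1 LD3_c36)) = (LP (LK LD1_c5 LD2_c34 LD3_c38)) :=
  Lre_g IH (LK LD1_c11 LD2_c1 LD3_c36) (LK LD1_c5 LD2_c34 LD3_c38) Lrfl Lrfl
theorem f175096 : Led Lsl_ct (LP (LK LD1_c2 LD2_c43 LD3_c14)) = (LP (LK LD1_c5 LD2_c34 LD3_c38)) :=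
  Lre_c IH (LK LD1_c2 LD2_c43 LD3_c14) (LK LD1_c5 LD2_c34 LD3_c38) Lrfl Lrfl
theorem f175099 : Led Lsl_bt (LP (LK LD1_c10 LD2_c52 LD3_c37)) = (LP (LK LD1_c5 LD2_c30 LD3_c31)) :=
  Lre_b IH (LK LD1_c10 LD2_c52 LD3_c37) (LK LD1_c5 LD2_c30 LD3_c31) Lrfl Lrfl
theorem f175100 : Led Lsl_cf (LP (LK LD1_c11 LD2_c1 LD3_c36)) = (LP (LK LD1_c10 LD2_c52 LD3_c37)) :=
  Lgr Lrot160 (Lpr_gt (f175097 IH) (Lpe (f175096 IH) (Lpr_bt (f44742 IH) (Lpr_gt (K9.f44741 IH) (Lpr_ct (K9.f171852 IH) (Lpr_gt (K9.f172426 IH) (Lpr_cf (K9.f174970 IH) (Lpr_bt (K27.f175091 IH) (Lpr_gt (K27.f175098 IH) (Lpe (f175099 IH) (Lpn (LP (LK LD1_c10 LD2_c52 LD3_c37)))))))))))))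
theorem f179143 : Led Lsl_gt (LP (LK LD1_c10 LD2_c52 LD3_c7)) = (LP (LK LD1_c5 LD2_c30 LD3_c21)) :=
  Lre_g IH (LK LD1_c10 LD2_c52 LD3_c7) (LK LD1_c5 LD2_c30 LD3_c21) Lrfl Lrfl
theorem f226581 : Led Lsl_dt (LP (LK LD1_c10 LD2_c52 LD3_c7)) = (LP (LK LD1_c19 LD2_c39 LD3_c0)) :=
  Lre_d IH (LK LD1_c10 LD2_c52 LD3_c7) (LK LD1_c19 LD2_c39 LD3_c0) Lrfl Lrfl
theorem f226582 : Led Lsl_gf (LP (LK LD1_c10 LD2_c52 LD3_c37)) = (LP (LK LD1_c19 LD2_c39 LD3_c0)) :=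
  Lgr Lrot179 (Lpe (f175100 IH) (Lpr_gt (f175097 IH) (Lpr_ct (f44743 IH) (Lpe (f226530 IH) (Lpe (f178046 IH) (Lpe (f178067 IH) (Lpr_cf (f226561 IH) (Lpe (f179143 IH) (Lpr_dt (f226581 IH) (Lpn (LP (LK LD1_c19 LD2_c39 LD3_c0))))))))))))
theorem f226580 : Led Lsl_dt (LP (LK LD1_c19 LD2_c39 LD3_c0)) = (LP (LK LD1_c10 LD2_c52 LD3_c7)) :=
  Lre_d IH (LK LD1_c19 LD2_c39 LD3_c0) (LK LD1_c10 LD2_c52 LD3_c7) Lrfl Lrfl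
theorem f226584 : Led Lsl_df (LP (LK LD1_c2 LD2_c43 LD3_c14)) = (LP (LK LD1_c1 LD2_c18 LD3_c28)) :=
  Lgr Lrot162 (Lpe (f44743 IH) (Lpe (f175097 IH) (Lpr_cf (f175100 IH) (Lpr_gf (f226582 IH) (Lpr_dt (f226580 IH) (Lpr_gt (f179143 IH) (Lpe (f226561 IH) (Lpr_gt (f178067 IH) (Lpr_ct (f178046 IH) (Lpn (LP (LK LD1_c1 LD2_c18 LD3_c28))))))))))))
theorem f226597 : Led Lsl_at (LP (LK LD1_c2 LD2_c43 LD3_c14)) = (LP (LK LD1_c5 LD2_c34 LD3_c37)) :=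
  Lre_a IH (LK LD1_c2 LD2_c43 LD3_c14) (LK LD1_c5 LD2_c34 LD3_c37) Lrfl Lrfl
theorem f226598 : Led Lsl_at (LP (LK LD1_c2 LD2_c44 LD3_c16)) = (LP (LK LD1_c1 LD2_c18 LD3_c28)) :=
  Lre_a IH (LK LD1_c2 LD2_c44 LD3_c16) (LK LD1_c1 LD2_c18 LD3_c28) Lrfl Lrfl
theorem f226599 : Led Lsl_dt (LP (LK LD1_c5 LD2_c34 LD3_c37)) = (LP (LK LD1_c2 LD2_c44 LD3_c16)) :=
  Lgr Lrot44 (Lpe (f226597 IH) (Lpr_df (f226584 IH) (Lpe (f226598 IH) (Lpn (LP (LK LD1_c2 LD2_c44 LD3_c16))))))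
theorem f226615 : Led Lsl_df (LP (LK LD1_c5 LD2_c34 LD3_c37)) = (LP (LK LD1_c2 LD2_c44 LD3_c16)) :=
  Lgr Lrot38 (Lpr_dt (f226599 IH) (Lpn (LP (LK LD1_c2 LD2_c44 LD3_c16))))
theorem f319286 : Led Lsl_at (LP (LK LD1_c2 LD2_c12 LD3_c23)) = (LP (LK LD1_c4 LD2_c30 LD3_c57)) :=
  Lre_a IH (LK LD1_c2 LD2_c12 LD3_c23) (LK LD1_c4 LD2_c30 LD3_c57) Lrfl Lrfl
theorem f354339 : Led Lsl_bf (LP (LK LD1_c2 LD2_c44 LD3_c16)) = (LP (LK LD1_c4 LD2_c30 LD3_c57)) :=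
  Lgr Lrot81 (Lpr_at (f226598 IH) (Lpr_bt (f226528 IH) (Lpr_at (f354337 IH) (Lpr_bt (K20.f167849 IH) (Lpr_at (f319286 IH) (Lpn (LP (LK LD1_c4 LD2_c30 LD3_c57))))))))
theorem f354501 : Led Lsl_df (LP (LK LD1_c4 LD2_c30 LD3_c57)) = (LP (LK LD1_c8 LD2_c59 LD3_c33)) :=
  Lgr Lrot12 (Lpe (f354339 IH) (Lpe (f226615 IH) (Lpr_bt (f354499 IH) (Lpn (LP (LK LD1_c8 LD2_c59 LD3_c33))))))
theorem f354503 : Led Lsl_dt (LP (LK LD1_c4 LD2_c30 LD3_c57)) = (LP (LK LD1_c8 LD2_c59 LD3_c33)) :=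
  Lgr Lrot42 (Lpr_df (f354501 IH) (Lpn (LP (LK LD1_c8 LD2_c59 LD3_c33))))
theorem f179491 : Led Lsl_at (LP (LK LD1_c5 LD2_c34 LD3_c39)) = (LP (LK LD1_c2 LD2_c43 LD3_c15)) :=
  Lre_a IH (LK LD1_c5 LD2_c34 LD3_c39) (LK LD1_c2 LD2_c43 LD3_c15) Lrfl Lrfl
theorem f319306 : Led Lsl_ft (LP (LK LD1_c8 LD2_c59 LD3_c33)) = (LP (LK LD1_c5 LD2_c34 LD3_c39)) :=
  Lgr Lrot101 (Lpe (f319305 IH) (Lpr_ff (K20.f319303 IH) (Lpe (f179491 IH) (Lpn (LP (LK LD1_c5 LD2_c34 LD3_c39))))))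
theorem f179184 : Led Lsl_dt (LP (LK LD1_c2 LD2_c43 LD3_c16)) = (LP (LK LD1_c5 LD2_c34 LD3_c44)) :=
  Lre_d IH (LK LD1_c2 LD2_c43 LD3_c16) (LK LD1_c5 LD2_c34 LD3_c44) Lrfl Lrfl
theorem f179186 : Led Lsl_dt (LP (LK LD1_c2 LD2_c45 LD3_c44)) = (LP (LK LD1_c1 LD2_c19 LD3_c14)) :=
  Lre_d IH (LK LD1_c2 LD2_c45 LD3_c44) (LK LD1_c1 LD2_c19 LD3_c14) Lrfl Lrfl
theorem f179187 : Led Lsl_et (LP (LK LD1_c5 LD2_c34 LD3_c44)) = (LP (LK LD1_c2 LD2_c45 LD3_c44)) :=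
  Lgr Lrot71 (Lpe (f179184 IH) (Lpe (K20.f172322 IH) (Lpr_df (K9.f179120 IH) (Lpe (K22.f179185 IH) (Lpe (f179186 IH) (Lpn (LP (LK LD1_c2 LD2_c45 LD3_c44))))))))
theorem f179438 : Led Lsl_ef (LP (LK LD1_c5 LD2_c34 LD3_c44)) = (LP (LK LD1_c2 LD2_c45 LD3_c44)) :=
  Lgr Lrot88 (Lpr_et (f179187 IH) (Lpn (LP (LK LD1_c2 LD2_c45 LD3_c44))))
theorem f179443 : Led Lsl_bt (LP (LK LD1_c5 LD2_c34 LD3_c44)) = (LP (LK LD1_c11 LD2_c1 LD3_c44)) :=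
  Lre_b IH (LK LD1_c5 LD2_c34 LD3_c44) (LK LD1_c11 LD2_c1 LD3_c44) Lrfl Lrfl
theorem f179444 : Led Lsl_bt (LP (LK LD1_c5 LD2_c39 LD3_c34)) = (LP (LK LD1_c2 LD2_c45 LD3_c44)) :=
  Lre_b IH (LK LD1_c5 LD2_c39 LD3_c34) (LK LD1_c2 LD2_c45 LD3_c44) Lrfl Lrfl
theorem f179445 : Led Lsl_et (LP (LK LD1_c11 LD2_c1 LD3_c44)) = (LP (LK LD1_c5 LD2_c39 LD3_c34)) :=
  Lgr Lrot74 (Lpe (f179443 IH) (Lpr_ef (f179438 IH) (Lpe (f179444 IH) (Lpn (LP (LK LD1_c5 LD2_c39 LD3_c34))))))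
theorem f179453 : Led Lsl_dt (LP (LK LD1_c5 LD2_c34 LD3_c41)) = (LP (LK LD1_c11 LD2_c1 LD3_c44)) :=
  Lre_d IH (LK LD1_c5 LD2_c34 LD3_c41) (LK LD1_c11 LD2_c1 LD3_c44) Lrfl Lrfl
theorem f179454 : Led Lsl_et (LP (LK LD1_c2 LD2_c43 LD3_c15)) = (LP (LK LD1_c5 LD2_c34 LD3_c41)) :=
  Lre_e IH (LK LD1_c2 LD2_c43 LD3_c15) (LK LD1_c5 LD2_c34 LD3_c41) Lrfl Lrfl
theorem f179455 : Led Lsl_dt (LP (LK LD1_c5 LD2_c39 LD3_c34)) = (LP (LK LD1_c2 LD2_c45 LD3_c43)) :=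
  Lre_d IH (LK LD1_c5 LD2_c39 LD3_c34) (LK LD1_c2 LD2_c45 LD3_c43) Lrfl Lrfl
theorem f179456 : Led Lsl_et (LP (LK LD1_c2 LD2_c45 LD3_c43)) = (LP (LK LD1_c1 LD2_c19 LD3_c13)) :=
  Lre_e IH (LK LD1_c2 LD2_c45 LD3_c43) (LK LD1_c1 LD2_c19 LD3_c13) Lrfl Lrfl
theorem f179457 : Led Lsl_df (LP (LK LD1_c2 LD2_c43 LD3_c15)) = (LP (LK LD1_c1 LD2_c19 LD3_c13)) :=
  Lgr Lrot70 (Lpr_et (f179454 IH) (Lpr_dt (f179453 IH) (Lpr_et (f179445 IH) (Lpr_dt (f179455 IH) (Lpr_et (f179456 IH) (Lpn (LP (LK LD1_c1 LD2_c19 LD3_c13))))))))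
theorem f179462 : Led Lsl_at (LP (LK LD1_c2 LD2_c43 LD3_c15)) = (LP (LK LD1_c5 LD2_c34 LD3_c39)) :=
  Lre_a IH (LK LD1_c2 LD2_c43 LD3_c15) (LK LD1_c5 LD2_c34 LD3_c39) Lrfl Lrfl
theorem f179463 : Led Lsl_at (LP (LK LD1_c2 LD2_c45 LD3_c42)) = (LP (LK LD1_c1 LD2_c19 LD3_c13)) :=
  Lre_a IH (LK LD1_c2 LD2_c45 LD3_c42) (LK LD1_c1 LD2_c19 LD3_c13) Lrfl Lrfl
theorem f179464 : Led Lsl_dt (LP (LK LD1_c5 LD2_c34 LD3_c39)) = (LP (LK LD1_c2 LD2_c45 LD3_c42)) :=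
  Lgr Lrot44 (Lpe (f179462 IH) (Lpr_df (f179457 IH) (Lpe (f179463 IH) (Lpn (LP (LK LD1_c2 LD2_c45 LD3_c42))))))
theorem f354508 : Led Lsl_ff (LP (LK LD1_c4 LD2_c30 LD3_c57)) = (LP (LK LD1_c2 LD2_c45 LD3_c42)) :=
  Lgr Lrot19 (Lpr_dt (f354503 IH) (Lpr_ft (f319306 IH) (Lpr_dt (f179464 IH) (Lpn (LP (LK LD1_c2 LD2_c45 LD3_c42))))))
theorem f179490 : Led Lsl_ct (LP (LK LD1_c5 LD2_c39 LD3_c6)) = (LP (LK LD1_c2 LD2_c45 LD3_c42)) :=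
  Lre_c IH (LK LD1_c5 LD2_c39 LD3_c6) (LK LD1_c2 LD2_c45 LD3_c42) Lrfl Lrfl
theorem f314875 : Led Lsl_at (LP (LK LD1_c4 LD2_c4 LD3_c25)) = (LP (LK LD1_c8 LD2_c9 LD3_c47)) :=
  Lre_a IH (LK LD1_c4 LD2_c4 LD3_c25) (LK LD1_c8 LD2_c9 LD3_c47) Lrfl Lrfl
theorem f314876 : Led Lsl_at (LP (LK LD1_c5 LD2_c39 LD3_c6)) = (LP (LK LD1_c2 LD2_c45 LD3_c31)) :=
  Lre_a IH (LK LD1_c5 LD2_c39 LD3_c6) (LK LD1_c2 LD2_c45 LD3_c31) Lrfl Lrfl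
theorem f314877 : Led Lsl_ft (LP (LK LD1_c8 LD2_c9 LD3_c47)) = (LP (LK LD1_c5 LD2_c39 LD3_c6)) :=
  Lgr Lrot101 (Lpe (f314875 IH) (Lpr_ff (K19.f314868 IH) (Lpe (f314876 IH) (Lpn (LP (LK LD1_c5 LD2_c39 LD3_c6))))))
theorem f354512 : Led Lsl_ct (LP (LK LD1_c4 LD2_c30 LD3_c57)) = (LP (LK LD1_c8 LD2_c9 LD3_c47)) :=
  Lgr Lrot40 (Lpr_ff (f354508 IH) (Lpe (f179490 IH) (Lpe (f314877 IH) (Lpn (LP (LK LD1_c8 LD2_c9 LD3_c47))))))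
theorem f354506 : Led Lsl_bf (LP (LK LD1_c4 LD2_c30 LD3_c57)) = (LP (LK LD1_c2 LD2_c44 LD3_c16)) :=
  Lgr Lrot93 (Lpr_dt (f354503 IH) (Lpe (f354497 IH) (Lpr_dt (f226599 IH) (Lpn (LP (LK LD1_c2 LD2_c44 LD3_c16))))))
theorem f199465 : Led Lsl_bt (LP (LK LD1_c11 LD2_c2 LD3_c47)) = (LP (LK LD1_c5 LD2_c35 LD3_c46)) :=
  Lre_b IH (LK LD1_c11 LD2_c2 LD3_c47) (LK LD1_c5 LD2_c35 LD3_c46) Lrfl Lrfl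
theorem f354522 : Led Lsl_bf (LP (LK LD1_c8 LD2_c27 LD3_c38)) = (LP (LK LD1_c8 LD2_c9 LD3_c47)) :=
  Lgr Lrot90 (Lpr_ct (K22.f332713 IH) (Lpr_bt (f199465 IH) (Lpr_ct (K19.f199440 IH) (Lpe (f354506 IH) (Lpr_ct (f354512 IH) (Lpn (LP (LK LD1_c8 LD2_c9 LD3_c47))))))))
theorem f199461 : Led Lsl_gt (LP (LK LD1_c8 LD2_c10 LD3_c6)) = (LP (LK LD1_c4 LD2_c4 LD3_c39)) :=
  Lre_g IH (LK LD1_c8 LD2_c10 LD3_c6) (LK LD1_c4 LD2_c4 LD3_c39) Lrfl Lrfl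
theorem f332710 : Led Lsl_gt (LP (LK LD1_c8 LD2_c27 LD3_c38)) = (LP (LK LD1_c8 LD2_c10 LD3_c6)) :=
  Lgr Lrot5 (Lpr_ft (K22.f332701 IH) (Lpr_at (K22.f199540 IH) (Lpe (f199461 IH) (Lpn (LP (LK LD1_c8 LD2_c10 LD3_c6))))))
theorem f244053 : Led Lsl_bt (LP (LK LD1_c15 LD2_c22 LD3_c60)) = (LP (LK LD1_c8 LD2_c10 LD3_c6)) :=
  Lre_b IH (LK LD1_c15 LD2_c22 LD3_c60) (LK LD1_c8 LD2_c10 LD3_c6) Lrfl Lrfl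
theorem f244054 : Led Lsl_ct (LP (LK LD1_c15 LD2_c22 LD3_c60)) = (LP (LK LD1_c25 LD2_c14 LD3_c55)) :=
  Lre_c IH (LK LD1_c15 LD2_c22 LD3_c60) (LK LD1_c25 LD2_c14 LD3_c55) Lrfl Lrfl
theorem f199324 : Led Lsl_bt (LP (LK LD1_c5 LD2_c20 LD3_c25)) = (LP (LK LD1_c10 LD2_c30 LD3_c53)) :=
  Lre_b IH (LK LD1_c5 LD2_c20 LD3_c25) (LK LD1_c10 LD2_c30 LD3_c53) Lrfl Lrfl
theorem f199325 : Led Lsl_gt (LP (LK LD1_c10 LD2_c30 LD3_c53)) = (LP (LK LD1_c19 LD2_c3 LD3_c21)) :=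
  Lre_g IH (LK LD1_c10 LD2_c30 LD3_c53) (LK LD1_c19 LD2_c3 LD3_c21) Lrfl Lrfl
theorem f199462 : Led Lsl_ct (LP (LK LD1_c15 LD2_c22 LD3_c61)) = (LP (LK LD1_c8 LD2_c10 LD3_c6)) :=
  Lre_c IH (LK LD1_c15 LD2_c22 LD3_c61) (LK LD1_c8 LD2_c10 LD3_c6) Lrfl Lrfl
theorem f277906 : Led Lsl_bf (LP (LK LD1_c19 LD2_c3 LD3_c21)) = (LP (LK LD1_c15 LD2_c22 LD3_c61)) :=
  Lgr Lrot34 (Lpe (f199325 IH) (Lpe (f199324 IH) (Lpr_ct (K12.f172013 IH) (Lpr_gf (K16.f277900 IH) (Lpr_cf (K16.f177948 IH) (Lpe (K16.f199530 IH) (Lpe (K22.f199350 IH) (Lpr_ct (K22.f199395 IH) (Lpe (f199461 IH) (Lpe (f199462 IH) (Lpn (LP (LK LD1_c15 LD2_c22 LD3_c61)))))))))))))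
theorem f235660 : Led Lsl_ct (LP (LK LD1_c19 LD2_c3 LD3_c21)) = (LP (LK LD1_c28 LD2_c29 LD3_c36)) :=
  Lre_c IH (LK LD1_c19 LD2_c3 LD3_c21) (LK LD1_c28 LD2_c29 LD3_c36) Lrfl Lrfl
theorem f244591 : Led Lsl_ct (LP (LK LD1_c8 LD2_c10 LD3_c6)) = (LP (LK LD1_c15 LD2_c22 LD3_c61)) :=
  Lre_c IH (LK LD1_c8 LD2_c10 LD3_c6) (LK LD1_c15 LD2_c22 LD3_c61) Lrfl Lrfl
theorem f244074 : Led Lsl_ct (LP (LK LD1_c25 LD2_c14 LD3_c55)) = (LP (LK LD1_c15 LD2_c22 LD3_c60)) :=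
  Lre_c IH (LK LD1_c25 LD2_c14 LD3_c55) (LK LD1_c15 LD2_c22 LD3_c60) Lrfl Lrfl
theorem f277910 : Led Lsl_bt (LP (LK LD1_c28 LD2_c29 LD3_c36)) = (LP (LK LD1_c25 LD2_c14 LD3_c55)) :=
  Lgr Lrot128 (Lpe (f235660 IH) (Lpr_bf (f277906 IH) (Lpe (f244591 IH) (Lpe (f244053 IH) (Lpe (f244074 IH) (Lpn (LP (LK LD1_c25 LD2_c14 LD3_c55))))))))
theorem f256965 : Led Lsl_ct (LP (LK LD1_c28 LD2_c29 LD3_c36)) = (LP (LK LD1_c19 LD2_c3 LD3_c21)) :=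
  Lre_c IH (LK LD1_c28 LD2_c29 LD3_c36) (LK LD1_c19 LD2_c3 LD3_c21) Lrfl Lrfl
theorem f235657 : Led Lsl_ct (LP (LK LD1_c5 LD2_c20 LD3_c30)) = (LP (LK LD1_c10 LD2_c30 LD3_c53)) :=
  Lre_c IH (LK LD1_c5 LD2_c20 LD3_c30) (LK LD1_c10 LD2_c30 LD3_c53) Lrfl Lrfl
theorem f235664 : Led Lsl_bt (LP (LK LD1_c5 LD2_c20 LD3_c30)) = (LP (LK LD1_c2 LD2_c36 LD3_c54)) :=
  Lre_b IH (LK LD1_c5 LD2_c20 LD3_c30) (LK LD1_c2 LD2_c36 LD3_c54) Lrfl Lrfl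
theorem f277916 : Led Lsl_gf (LP (LK LD1_c25 LD2_c14 LD3_c3)) = (LP (LK LD1_c25 LD2_c14 LD3_c55)) :=
  Lgr Lrot181 (Lpr_ct (f244545 IH) (Lpr_gt (f244544 IH) (Lpr_cf (K17.f256957 IH) (Lpr_bt (f187038 IH) (Lpr_gt (K15.f171897 IH) (Lpe (f235664 IH) (Lpr_ct (f235657 IH) (Lpr_gt (f199325 IH) (Lpe (f256965 IH) (Lpr_bt (f277910 IH) (Lpn (LP (LK LD1_c25 LD2_c14 LD3_c55)))))))))))))
theorem f319137 : Led Lsl_at (LP (LK LD1_c4 LD2_c30 LD3_c57)) = (LP (LK LD1_c2 LD2_c12 LD3_c23)) :=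
  Lre_a IH (LK LD1_c4 LD2_c30 LD3_c57) (LK LD1_c2 LD2_c12 LD3_c23) Lrfl Lrfl
theorem f319138 : Led Lsl_cf (LP (LK LD1_c4 LD2_c30 LD3_c57)) = (LP (LK LD1_c8 LD2_c9 LD3_c47)) :=
  Lgr Lrot1 (Lpr_at (f319137 IH) (Lpr_ct (K20.f319135 IH) (Lpr_at (f314875 IH) (Lpn (LP (LK LD1_c8 LD2_c9 LD3_c47))))))
theorem f319294 : Led Lsl_gf (LP (LK LD1_c4 LD2_c30 LD3_c57)) = (LP (LK LD1_c2 LD2_c45 LD3_c40)) :=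
  Lgr Lrot76 (Lpe (f319286 IH) (Lpr_ff (K20.f319143 IH) (Lpr_gt (K22.f171867 IH) (Lpn (LP (LK LD1_c2 LD2_c45 LD3_c40))))))
theorem f179278 : Led Lsl_gt (LP (LK LD1_c11 LD2_c9 LD3_c51)) = (LP (LK LD1_c5 LD2_c39 LD3_c24)) :=
  Lre_g IH (LK LD1_c11 LD2_c9 LD3_c51) (LK LD1_c5 LD2_c39 LD3_c24) Lrfl Lrfl
theorem f354528 : Led Lsl_bt (LP (LK LD1_c15 LD2_c22 LD3_c22)) = (LP (LK LD1_c11 LD2_c9 LD3_c51)) :=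
  Lgr Lrot130 (Lpr_ct (f244546 IH) (Lpr_gf (f277916 IH) (Lpe (f244054 IH) (Lpr_bt (f244053 IH) (Lpe (f332710 IH) (Lpr_bf (f354522 IH) (Lpe (f319138 IH) (Lpr_gf (f319294 IH) (Lpe (K22.f179227 IH) (Lpe (f179278 IH) (Lpn (LP (LK LD1_c11 LD2_c9 LD3_c51)))))))))))))
theorem f354530 : Led Lsl_bf (LP (LK LD1_c15 LD2_c22 LD3_c22)) = (LP (LK LD1_c11 LD2_c9 LD3_c51)) :=
  Lgr Lrot24 (Lpr_bt (f354528 IH) (Lpn (LP (LK LD1_c11 LD2_c9 LD3_c51))))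
theorem f384875 : Led Lsl_ct (LP (LK LD1_c16 LD2_c44 LD3_c44)) = (LP (LK LD1_c11 LD2_c9 LD3_c51)) :=
  Lgr Lrot83 (Lpr_bf (f384871 IH) (Lpe (f384867 IH) (Lpe (f256966 IH) (Lpe (f244546 IH) (Lpr_bf (f354530 IH) (Lpn (LP (LK LD1_c11 LD2_c9 LD3_c51))))))))
theorem f384873 : Led Lsl_bt (LP (LK LD1_c16 LD2_c44 LD3_c44)) = (LP (LK LD1_c10 LD2_c52 LD3_c19)) :=
  Lgr Lrot127 (Lpr_bf (f384871 IH) (Lpn (LP (LK LD1_c10 LD2_c52 LD3_c19))))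
theorem f178073 : Led Lsl_ct (LP (LK LD1_c2 LD2_c45 LD3_c40)) = (LP (LK LD1_c5 LD2_c39 LD3_c24)) :=
  Lre_c IH (LK LD1_c2 LD2_c45 LD3_c40) (LK LD1_c5 LD2_c39 LD3_c24) Lrfl Lrfl
theorem f178091 : Led Lsl_bt (LP (LK LD1_c2 LD2_c45 LD3_c40)) = (LP (LK LD1_c5 LD2_c39 LD3_c23)) :=
  Lre_b IH (LK LD1_c2 LD2_c45 LD3_c40) (LK LD1_c5 LD2_c39 LD3_c23) Lrfl Lrfl
theorem f384880 : Led Lsl_gf (LP (LK LD1_c10 LD2_c47 LD3_c61)) = (LP (LK LD1_c5 LD2_c39 LD3_c23)) :=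
  Lgr Lrot181 (Lpe (K27.f179125 IH) (Lpr_gt (f384869 IH) (Lpe (f339352 IH) (Lpr_bt (f384836 IH) (Lpr_gt (f277338 IH) (Lpe (f384873 IH) (Lpr_ct (f384875 IH) (Lpr_gt (f179278 IH) (Lpe (f178073 IH) (Lpr_bt (f178091 IH) (Lpn (LP (LK LD1_c5 LD2_c39 LD3_c23)))))))))))))
theorem f178105 : Led Lsl_bt (LP (LK LD1_c2 LD2_c11 LD3_c33)) = (LP (LK LD1_c1 LD2_c2 LD3_c45)) :=
  Lre_b IH (LK LD1_c2 LD2_c11 LD3_c33) (LK LD1_c1 LD2_c2 LD3_c45) Lrfl Lrfl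
theorem f173443 : Led Lsl_ct (LP (LK LD1_c2 LD2_c11 LD3_c33)) = (LP (LK LD1_c4 LD2_c28 LD3_c49)) :=
  Lre_c IH (LK LD1_c2 LD2_c11 LD3_c33) (LK LD1_c4 LD2_c28 LD3_c49) Lrfl Lrfl
theorem f179223 : Led Lsl_gt (LP (LK LD1_c8 LD2_c55 LD3_c55)) = (LP (LK LD1_c4 LD2_c28 LD3_c49)) :=
  Lre_g IH (LK LD1_c8 LD2_c55 LD3_c55) (LK LD1_c4 LD2_c28 LD3_c49) Lrfl Lrfl
theorem f178083 : Led Lsl_bt (LP (LK LD1_c5 LD2_c39 LD3_c23)) = (LP (LK LD1_c2 LD2_c45 LD3_c40)) :=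
  Lre_b IH (LK LD1_c5 LD2_c39 LD3_c23) (LK LD1_c2 LD2_c45 LD3_c40) Lrfl Lrfl
theorem f179224 : Led Lsl_cf (LP (LK LD1_c8 LD2_c55 LD3_c55)) = (LP (LK LD1_c5 LD2_c39 LD3_c23)) :=
  Lgr Lrot160 (Lpr_gt (f179223 IH) (Lpe (f173443 IH) (Lpr_bt (f178105 IH) (Lpr_gt (K12.f179191 IH) (Lpr_ct (K12.f177922 IH) (Lpe (K9.f177920 IH) (Lpe (K9.f171861 IH) (Lpr_bt (K20.f171866 IH) (Lpr_gt (K22.f171867 IH) (Lpe (f178083 IH) (Lpn (LP (LK LD1_c5 LD2_c39 LD3_c23)))))))))))))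
theorem f179230 : Led Lsl_ct (LP (LK LD1_c8 LD2_c55 LD3_c55)) = (LP (LK LD1_c5 LD2_c39 LD3_c23)) :=
  Lgr Lrot59 (Lpr_cf (f179224 IH) (Lpn (LP (LK LD1_c5 LD2_c39 LD3_c23))))
theorem f245016 : Led Lsl_bt (LP (LK LD1_c19 LD2_c28 LD3_c27)) = (LP (LK LD1_c28 LD2_c50 LD3_c35)) :=
  Lre_b IH (LK LD1_c19 LD2_c28 LD3_c27) (LK LD1_c28 LD2_c50 LD3_c35) Lrfl Lrfl
theorem f243611 : Led Lsl_bt (LP (LK LD1_c8 LD2_c30 LD3_c54)) = (LP (LK LD1_c4 LD2_c15 LD3_c57)) :=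
  Lre_b IH (LK LD1_c8 LD2_c30 LD3_c54) (LK LD1_c4 LD2_c15 LD3_c57) Lrfl Lrfl
theorem f243623 : Led Lsl_ft (LP (LK LD1_c5 LD2_c27 LD3_c30)) = (LP (LK LD1_c8 LD2_c30 LD3_c54)) :=
  Lgr Lrot75 (Lpe (f243622 IH) (Lpr_ff (K13.f243619 IH) (Lpe (f243611 IH) (Lpn (LP (LK LD1_c8 LD2_c30 LD3_c54))))))
theorem f244987 : Led Lsl_at (LP (LK LD1_c8 LD2_c30 LD3_c54)) = (LP (LK LD1_c15 LD2_c59 LD3_c9)) :=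
  Lre_a IH (LK LD1_c8 LD2_c30 LD3_c54) (LK LD1_c15 LD2_c59 LD3_c9) Lrfl Lrfl
theorem f245009 : Led Lsl_gt (LP (LK LD1_c10 LD2_c46 LD3_c5)) = (LP (LK LD1_c15 LD2_c59 LD3_c9)) :=
  Lgr Lrot46 (Lpe (f245008 IH) (Lpr_ft (f243623 IH) (Lpr_at (f244987 IH) (Lpn (LP (LK LD1_c15 LD2_c59 LD3_c9))))))
theorem f222636 : Led Lsl_ct (LP (LK LD1_c2 LD2_c41 LD3_c29)) = (LP (LK LD1_c5 LD2_c30 LD3_c0)) :=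
  Lre_c IH (LK LD1_c2 LD2_c41 LD3_c29) (LK LD1_c5 LD2_c30 LD3_c0) Lrfl Lrfl
theorem f222579 : Led Lsl_bt (LP (LK LD1_c5 LD2_c30 LD3_c0)) = (LP (LK LD1_c10 LD2_c50 LD3_c9)) :=
  Lre_b IH (LK LD1_c5 LD2_c30 LD3_c0) (LK LD1_c10 LD2_c50 LD3_c9) Lrfl Lrfl
theorem f245283 : Led Lsl_at (LP (LK LD1_c1 LD2_c17 LD3_c3)) = (LP (LK LD1_c2 LD2_c40 LD3_c49)) :=
  Lre_a IH (LK LD1_c1 LD2_c17 LD3_c3) (LK LD1_c2 LD2_c40 LD3_c49) Lrfl Lrfl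
theorem f244978 : Led Lsl_ct (LP (LK LD1_c5 LD2_c27 LD3_c58)) = (LP (LK LD1_c2 LD2_c40 LD3_c49)) :=
  Lre_c IH (LK LD1_c5 LD2_c27 LD3_c58) (LK LD1_c2 LD2_c40 LD3_c49) Lrfl Lrfl
theorem f245296 : Led Lsl_dt (LP (LK LD1_c10 LD2_c47 LD3_c7)) = (LP (LK LD1_c5 LD2_c27 LD3_c58)) :=
  Lre_d IH (LK LD1_c10 LD2_c47 LD3_c7) (LK LD1_c5 LD2_c27 LD3_c58) Lrfl Lrfl
theorem f245297 : Led Lsl_ct (LP (LK LD1_c19 LD2_c30 LD3_c44)) = (LP (LK LD1_c10 LD2_c47 LD3_c7)) :=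
  Lre_c IH (LK LD1_c19 LD2_c30 LD3_c44) (LK LD1_c10 LD2_c47 LD3_c7) Lrfl Lrfl
theorem f226436 : Led Lsl_dt (LP (LK LD1_c2 LD2_c11 LD3_c43)) = (LP (LK LD1_c4 LD2_c29 LD3_c18)) :=
  Lre_d IH (LK LD1_c2 LD2_c11 LD3_c43) (LK LD1_c4 LD2_c29 LD3_c18) Lrfl Lrfl
theorem f174635 : Led Lsl_ct (LP (LK LD1_c4 LD2_c29 LD3_c18)) = (LP (LK LD1_c8 LD2_c56 LD3_c53)) :=
  Lre_c IH (LK LD1_c4 LD2_c29 LD3_c18) (LK LD1_c8 LD2_c56 LD3_c53) Lrfl Lrfl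
theorem f245298 : Led Lsl_dt (LP (LK LD1_c8 LD2_c56 LD3_c53)) = (LP (LK LD1_c16 LD2_c45 LD3_c10)) :=
  Lre_d IH (LK LD1_c8 LD2_c56 LD3_c53) (LK LD1_c16 LD2_c45 LD3_c10) Lrfl Lrfl
theorem f245299 : Led Lsl_ct (LP (LK LD1_c16 LD2_c45 LD3_c10)) = (LP (LK LD1_c26 LD2_c44 LD3_c6)) :=
  Lre_c IH (LK LD1_c16 LD2_c45 LD3_c10) (LK LD1_c26 LD2_c44 LD3_c6) Lrfl Lrfl
theorem f245300 : Led Lsl_df (LP (LK LD1_c19 LD2_c30 LD3_c44)) = (LP (LK LD1_c26 LD2_c44 LD3_c6)) :=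
  Lgr Lrot13 (Lpr_ct (f245297 IH) (Lpr_dt (f245296 IH) (Lpr_ct (f244978 IH) (Lpe (f245283 IH) (Lpr_ff (K13.f245264 IH) (Lpr_dt (f226436 IH) (Lpr_ct (f174635 IH) (Lpr_dt (f245298 IH) (Lpr_ct (f245299 IH) (Lpn (LP (LK LD1_c26 LD2_c44 LD3_c6))))))))))))
theorem f245304 : Led Lsl_dt (LP (LK LD1_c2 LD2_c40 LD3_c49)) = (LP (LK LD1_c5 LD2_c29 LD3_c10)) :=
  Lre_d IH (LK LD1_c2 LD2_c40 LD3_c49) (LK LD1_c5 LD2_c29 LD3_c10) Lrfl Lrfl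
theorem f245305 : Led Lsl_ct (LP (LK LD1_c5 LD2_c29 LD3_c10)) = (LP (LK LD1_c10 LD2_c49 LD3_c39)) :=
  Lre_c IH (LK LD1_c5 LD2_c29 LD3_c10) (LK LD1_c10 LD2_c49 LD3_c39) Lrfl Lrfl
theorem f245314 : Led Lsl_at (LP (LK LD1_c5 LD2_c29 LD3_c14)) = (LP (LK LD1_c10 LD2_c49 LD3_c39)) :=
  Lre_a IH (LK LD1_c5 LD2_c29 LD3_c14) (LK LD1_c10 LD2_c49 LD3_c39) Lrfl Lrfl
theorem f245315 : Led Lsl_ff (LP (LK LD1_c5 LD2_c29 LD3_c14)) = (LP (LK LD1_c8 LD2_c56 LD3_c53)) :=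
  Lgr Lrot103 (Lpr_at (f245314 IH) (Lpe (f245305 IH) (Lpe (f245304 IH) (Lpe (f244978 IH) (Lpe (f245296 IH) (Lpe (f245297 IH) (Lpr_df (f245300 IH) (Lpe (f245299 IH) (Lpe (f245298 IH) (Lpn (LP (LK LD1_c8 LD2_c56 LD3_c53))))))))))))
theorem f245322 : Led Lsl_dt (LP (LK LD1_c16 LD2_c45 LD3_c10)) = (LP (LK LD1_c8 LD2_c56 LD3_c53)) :=
  Lre_d IH (LK LD1_c16 LD2_c45 LD3_c10) (LK LD1_c8 LD2_c56 LD3_c53) Lrfl Lrfl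
theorem f245323 : Led Lsl_ft (LP (LK LD1_c10 LD2_c49 LD3_c48)) = (LP (LK LD1_c16 LD2_c45 LD3_c10)) :=
  Lgr Lrot54 (Lpe (K13.f245227 IH) (Lpr_ff (f245315 IH) (Lpe (f245322 IH) (Lpn (LP (LK LD1_c16 LD2_c45 LD3_c10))))))
theorem f168552 : Led Lsl_dt (LP (LK LD1_c10 LD2_c49 LD3_c48)) = (LP (LK LD1_c5 LD2_c29 LD3_c14)) :=
  Lre_d IH (LK LD1_c10 LD2_c49 LD3_c48) (LK LD1_c5 LD2_c29 LD3_c14) Lrfl Lrfl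
theorem f168551 : Led Lsl_ct (LP (LK LD1_c5 LD2_c29 LD3_c14)) = (LP (LK LD1_c2 LD2_c40 LD3_c50)) :=
  Lre_c IH (LK LD1_c5 LD2_c29 LD3_c14) (LK LD1_c2 LD2_c40 LD3_c50) Lrfl Lrfl
theorem f172915 : Led Lsl_dt (LP (LK LD1_c2 LD2_c40 LD3_c50)) = (LP (LK LD1_c1 LD2_c17 LD3_c3)) :=
  Lre_d IH (LK LD1_c2 LD2_c40 LD3_c50) (LK LD1_c1 LD2_c17 LD3_c3) Lrfl Lrfl
theorem f172916 : Led Lsl_ct (LP (LK LD1_c1 LD2_c17 LD3_c3)) = (LP (LK LD1_c2 LD2_c40 LD3_c18)) :=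
  Lre_c IH (LK LD1_c1 LD2_c17 LD3_c3) (LK LD1_c2 LD2_c40 LD3_c18) Lrfl Lrfl
theorem f244948 : Led Lsl_dt (LP (LK LD1_c2 LD2_c40 LD3_c18)) = (LP (LK LD1_c5 LD2_c27 LD3_c59)) :=
  Lre_d IH (LK LD1_c2 LD2_c40 LD3_c18) (LK LD1_c5 LD2_c27 LD3_c59) Lrfl Lrfl
theorem f244681 : Led Lsl_ct (LP (LK LD1_c5 LD2_c27 LD3_c59)) = (LP (LK LD1_c10 LD2_c47 LD3_c11)) :=
  Lre_c IH (LK LD1_c5 LD2_c27 LD3_c59) (LK LD1_c10 LD2_c47 LD3_c11) Lrfl Lrfl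
theorem f244930 : Led Lsl_dt (LP (LK LD1_c10 LD2_c47 LD3_c11)) = (LP (LK LD1_c19 LD2_c30 LD3_c51)) :=
  Lre_d IH (LK LD1_c10 LD2_c47 LD3_c11) (LK LD1_c19 LD2_c30 LD3_c51) Lrfl Lrfl
theorem f245336 : Led Lsl_at (LP (LK LD1_c16 LD2_c45 LD3_c10)) = (LP (LK LD1_c26 LD2_c43 LD3_c59)) :=
  Lre_a IH (LK LD1_c16 LD2_c45 LD3_c10) (LK LD1_c26 LD2_c43 LD3_c59) Lrfl Lrfl
theorem f245353 : Led Lsl_ct (LP (LK LD1_c19 LD2_c30 LD3_c51)) = (LP (LK LD1_c26 LD2_c43 LD3_c59)) :=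
  Lgr Lrot98 (Lpe (f244930 IH) (Lpe (f244681 IH) (Lpe (f244948 IH) (Lpe (f172916 IH) (Lpe (f172915 IH) (Lpe (f168551 IH) (Lpe (f168552 IH) (Lpr_ft (f245323 IH) (Lpr_at (f245336 IH) (Lpn (LP (LK LD1_c26 LD2_c43 LD3_c59))))))))))))
theorem f245270 : Led Lsl_dt (LP (LK LD1_c26 LD2_c43 LD3_c59)) = (LP (LK LD1_c16 LD2_c45 LD3_c0)) :=
  Lre_d IH (LK LD1_c26 LD2_c43 LD3_c59) (LK LD1_c16 LD2_c45 LD3_c0) Lrfl Lrfl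
theorem f245269 : Led Lsl_ct (LP (LK LD1_c16 LD2_c45 LD3_c0)) = (LP (LK LD1_c8 LD2_c56 LD3_c49)) :=
  Lre_c IH (LK LD1_c16 LD2_c45 LD3_c0) (LK LD1_c8 LD2_c56 LD3_c49) Lrfl Lrfl
theorem f245272 : Led Lsl_ct (LP (LK LD1_c4 LD2_c29 LD3_c17)) = (LP (LK LD1_c8 LD2_c56 LD3_c35)) :=
  Lre_c IH (LK LD1_c4 LD2_c29 LD3_c17) (LK LD1_c8 LD2_c56 LD3_c35) Lrfl Lrfl
theorem f245253 : Led Lsl_dt (LP (LK LD1_c8 LD2_c56 LD3_c35)) = (LP (LK LD1_c16 LD2_c44 LD3_c31)) :=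
  Lre_d IH (LK LD1_c8 LD2_c56 LD3_c35) (LK LD1_c16 LD2_c44 LD3_c31) Lrfl Lrfl
theorem f245252 : Led Lsl_ct (LP (LK LD1_c16 LD2_c44 LD3_c31)) = (LP (LK LD1_c26 LD2_c43 LD3_c27)) :=
  Lre_c IH (LK LD1_c16 LD2_c44 LD3_c31) (LK LD1_c26 LD2_c43 LD3_c27) Lrfl Lrfl
theorem f245365 : Led Lsl_at (LP (LK LD1_c16 LD2_c44 LD3_c35)) = (LP (LK LD1_c26 LD2_c43 LD3_c27)) :=
  Lre_a IH (LK LD1_c16 LD2_c44 LD3_c35) (LK LD1_c26 LD2_c43 LD3_c27) Lrfl Lrfl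
theorem f245366 : Led Lsl_ft (LP (LK LD1_c10 LD2_c47 LD3_c11)) = (LP (LK LD1_c16 LD2_c44 LD3_c35)) :=
  Lgr Lrot142 (Lpr_dt (f244930 IH) (Lpr_ct (f245353 IH) (Lpr_dt (f245270 IH) (Lpr_ct (f245269 IH) (Lpr_dt (K13.f245278 IH) (Lpr_ct (f245272 IH) (Lpr_dt (f245253 IH) (Lpr_ct (f245252 IH) (Lpe (f245365 IH) (Lpn (LP (LK LD1_c16 LD2_c44 LD3_c35))))))))))))
theorem f244945 : Led Lsl_at (LP (LK LD1_c19 LD2_c30 LD3_c44)) = (LP (LK LD1_c10 LD2_c47 LD3_c11)) :=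
  Lre_a IH (LK LD1_c19 LD2_c30 LD3_c44) (LK LD1_c10 LD2_c47 LD3_c11) Lrfl Lrfl
theorem f245370 : Led Lsl_ff (LP (LK LD1_c19 LD2_c30 LD3_c44)) = (LP (LK LD1_c26 LD2_c43 LD3_c27)) :=
  Lgr Lrot30 (Lpr_at (f244945 IH) (Lpr_ft (f245366 IH) (Lpr_at (f245365 IH) (Lpn (LP (LK LD1_c26 LD2_c43 LD3_c27))))))
theorem f245377 : Led Lsl_ft (LP (LK LD1_c10 LD2_c47 LD3_c7)) = (LP (LK LD1_c16 LD2_c44 LD3_c31)) :=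
  Lgr Lrot4 (Lpe (f245297 IH) (Lpr_ff (f245370 IH) (Lpe (f245252 IH) (Lpn (LP (LK LD1_c16 LD2_c44 LD3_c31))))))
theorem f245317 : Led Lsl_dt (LP (LK LD1_c5 LD2_c27 LD3_c58)) = (LP (LK LD1_c10 LD2_c47 LD3_c7)) :=
  Lre_d IH (LK LD1_c5 LD2_c27 LD3_c58) (LK LD1_c10 LD2_c47 LD3_c7) Lrfl Lrfl
theorem f245397 : Led Lsl_ff (LP (LK LD1_c5 LD2_c27 LD3_c58)) = (LP (LK LD1_c8 LD2_c56 LD3_c35)) :=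
  Lgr Lrot19 (Lpr_dt (f245317 IH) (Lpr_ft (f245377 IH) (Lpr_dt (K13.f245236 IH) (Lpn (LP (LK LD1_c8 LD2_c56 LD3_c35))))))
theorem f244977 : Led Lsl_bt (LP (LK LD1_c5 LD2_c27 LD3_c58)) = (LP (LK LD1_c10 LD2_c46 LD3_c7)) :=
  Lre_b IH (LK LD1_c5 LD2_c27 LD3_c58) (LK LD1_c10 LD2_c46 LD3_c7) Lrfl Lrfl
theorem f244809 : Led Lsl_bt (LP (LK LD1_c5 LD2_c27 LD3_c31)) = (LP (LK LD1_c10 LD2_c46 LD3_c8)) :=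
  Lre_b IH (LK LD1_c5 LD2_c27 LD3_c31) (LK LD1_c10 LD2_c46 LD3_c8) Lrfl Lrfl
theorem f216412 : Led Lsl_bt (LP (LK LD1_c15 LD2_c52 LD3_c20)) = (LP (LK LD1_c8 LD2_c27 LD3_c10)) :=
  Lre_b IH (LK LD1_c15 LD2_c52 LD3_c20) (LK LD1_c8 LD2_c27 LD3_c10) Lrfl Lrfl
theorem f244810 : Led Lsl_ft (LP (LK LD1_c10 LD2_c46 LD3_c8)) = (LP (LK LD1_c15 LD2_c52 LD3_c20)) :=
  Lgr Lrot75 (Lpe (f244809 IH) (Lpr_ff (K14.f244690 IH) (Lpe (f216412 IH) (Lpn (LP (LK LD1_c15 LD2_c52 LD3_c20))))))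
theorem f244956 : Led Lsl_dt (LP (LK LD1_c5 LD2_c27 LD3_c30)) = (LP (LK LD1_c10 LD2_c46 LD3_c8)) :=
  Lre_d IH (LK LD1_c5 LD2_c27 LD3_c30) (LK LD1_c10 LD2_c46 LD3_c8) Lrfl Lrfl
theorem f243527 : Led Lsl_bt (LP (LK LD1_c8 LD2_c27 LD3_c10)) = (LP (LK LD1_c15 LD2_c52 LD3_c20)) :=
  Lre_b IH (LK LD1_c8 LD2_c27 LD3_c10) (LK LD1_c15 LD2_c52 LD3_c20) Lrfl Lrfl
theorem f243612 : Led Lsl_dt (LP (LK LD1_c15 LD2_c52 LD3_c20)) = (LP (LK LD1_c8 LD2_c30 LD3_c54)) :=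
  Lgr Lrot79 (Lpe (f243527 IH) (Lpr_df (K13.f243609 IH) (Lpe (f243611 IH) (Lpn (LP (LK LD1_c8 LD2_c30 LD3_c54))))))
theorem f244957 : Led Lsl_ff (LP (LK LD1_c5 LD2_c27 LD3_c30)) = (LP (LK LD1_c8 LD2_c30 LD3_c54)) :=
  Lgr Lrot19 (Lpr_dt (f244956 IH) (Lpr_ft (f244810 IH) (Lpr_dt (f243612 IH) (Lpn (LP (LK LD1_c8 LD2_c30 LD3_c54))))))
theorem f244968 : Led Lsl_at (LP (LK LD1_c5 LD2_c27 LD3_c30)) = (LP (LK LD1_c10 LD2_c46 LD3_c7)) :=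
  Lre_a IH (LK LD1_c5 LD2_c27 LD3_c30) (LK LD1_c10 LD2_c46 LD3_c7) Lrfl Lrfl
theorem f244967 : Led Lsl_at (LP (LK LD1_c15 LD2_c59 LD3_c9)) = (LP (LK LD1_c8 LD2_c30 LD3_c54)) :=
  Lre_a IH (LK LD1_c15 LD2_c59 LD3_c9) (LK LD1_c8 LD2_c30 LD3_c54) Lrfl Lrfl
theorem f244971 : Led Lsl_ft (LP (LK LD1_c10 LD2_c46 LD3_c7)) = (LP (LK LD1_c15 LD2_c59 LD3_c9)) :=
  Lgr Lrot101 (Lpe (f244968 IH) (Lpr_ff (f244957 IH) (Lpe (f244967 IH) (Lpn (LP (LK LD1_c15 LD2_c59 LD3_c9))))))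
theorem f245406 : Led Lsl_bt (LP (LK LD1_c15 LD2_c59 LD3_c9)) = (LP (LK LD1_c8 LD2_c56 LD3_c35)) :=
  Lgr Lrot35 (Lpe (f244971 IH) (Lpe (f244977 IH) (Lpr_ff (f245397 IH) (Lpn (LP (LK LD1_c8 LD2_c56 LD3_c35))))))
theorem f245701 : Led Lsl_ct (LP (LK LD1_c10 LD2_c50 LD3_c9)) = (LP (LK LD1_c15 LD2_c59 LD3_c9)) :=
  Lgr Lrot83 (Lpe (f222579 IH) (Lpe (f222636 IH) (Lpr_bf (K13.f245694 IH) (Lpe (K13.f245237 IH) (Lpe (f245406 IH) (Lpn (LP (LK LD1_c15 LD2_c59 LD3_c9))))))))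
theorem f222617 : Led Lsl_bt (LP (LK LD1_c10 LD2_c50 LD3_c9)) = (LP (LK LD1_c5 LD2_c30 LD3_c0)) :=
  Lre_b IH (LK LD1_c10 LD2_c50 LD3_c9) (LK LD1_c5 LD2_c30 LD3_c0) Lrfl Lrfl
theorem f384914 : Led Lsl_gf (LP (LK LD1_c8 LD2_c55 LD3_c55)) = (LP (LK LD1_c5 LD2_c30 LD3_c0)) :=
  Lgr Lrot181 (Lpr_ct (f179230 IH) (Lpe (f384880 IH) (Lpe (K27.f179138 IH) (Lpr_bt (f179135 IH) (Lpr_gt (f384912 IH) (Lpe (f245016 IH) (Lpr_ct (f245013 IH) (Lpr_gt (f245009 IH) (Lpe (f245701 IH) (Lpr_bt (f222617 IH) (Lpn (LP (LK LD1_c5 LD2_c30 LD3_c0)))))))))))))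
theorem f243908 : Led Lsl_bt (LP (LK LD1_c5 LD2_c39 LD3_c0)) = (LP (LK LD1_c2 LD2_c45 LD3_c29)) :=
  Lre_b IH (LK LD1_c5 LD2_c39 LD3_c0) (LK LD1_c2 LD2_c45 LD3_c29) Lrfl Lrfl
theorem f244415 : Led Lsl_at (LP (LK LD1_c11 LD2_c8 LD3_c60)) = (LP (LK LD1_c5 LD2_c39 LD3_c0)) :=
  Lre_a IH (LK LD1_c11 LD2_c8 LD3_c60) (LK LD1_c5 LD2_c39 LD3_c0) Lrfl Lrfl
theorem f296326 : Led Lsl_bt (LP (LK LD1_c15 LD2_c17 LD3_c55)) = (LP (LK LD1_c11 LD2_c8 LD3_c60)) :=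
  Lgr Lrot62 (Lpe (K18.f220305 IH) (Lpe (K22.f211438 IH) (Lpr_af (K18.f296324 IH) (Lpe (f243908 IH) (Lpe (f244415 IH) (Lpn (LP (LK LD1_c11 LD2_c8 LD3_c60))))))))
theorem f296632 : Led Lsl_gt (LP (LK LD1_c8 LD2_c9 LD3_c9)) = (LP (LK LD1_c11 LD2_c8 LD3_c60)) :=
  Lgr Lrot164 (Lpe (K18.f280045 IH) (Lpe (K18.f280046 IH) (Lpe (K18.f286600 IH) (Lpe (K17.f247296 IH) (Lpr_gf (K18.f286676 IH) (Lpe (K18.f179424 IH) (Lpr_ct (K18.f228097 IH) (Lpr_gf (K18.f296613 IH) (Lpr_cf (K18.f220299 IH) (Lpr_bt (f296326 IH) (Lpn (LP (LK LD1_c11 LD2_c8 LD3_c60)))))))))))))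
theorem f50288 : Led Lsl_dt (LP (LK LD1_c8 LD2_c6 LD3_c20)) = (LP (LK LD1_c15 LD2_c15 LD3_c42)) :=
  Lre_d IH (LK LD1_c8 LD2_c6 LD3_c20) (LK LD1_c15 LD2_c15 LD3_c42) Lrfl Lrfl
theorem f244401 : Led Lsl_bt (LP (LK LD1_c20 LD2_c2 LD3_c50)) = (LP (LK LD1_c11 LD2_c9 LD3_c0)) :=
  Lre_b IH (LK LD1_c20 LD2_c2 LD3_c50) (LK LD1_c11 LD2_c9 LD3_c0) Lrfl Lrfl
theorem f244402 : Led Lsl_bt (LP (LK LD1_c15 LD2_c17 LD3_c58)) = (LP (LK LD1_c25 LD2_c8 LD3_c39)) :=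
  Lre_b IH (LK LD1_c15 LD2_c17 LD3_c58) (LK LD1_c25 LD2_c8 LD3_c39) Lrfl Lrfl
theorem f244403 : Led Lsl_ef (LP (LK LD1_c20 LD2_c2 LD3_c50)) = (LP (LK LD1_c25 LD2_c8 LD3_c39)) :=
  Lgr Lrot29 (Lpr_bt (f244401 IH) (Lpr_et (K18.f244397 IH) (Lpr_bt (f244402 IH) (Lpn (LP (LK LD1_c25 LD2_c8 LD3_c39))))))
theorem f244410 : Led Lsl_dt (LP (LK LD1_c20 LD2_c2 LD3_c50)) = (LP (LK LD1_c11 LD2_c8 LD3_c61)) :=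
  Lre_d IH (LK LD1_c20 LD2_c2 LD3_c50) (LK LD1_c11 LD2_c8 LD3_c61) Lrfl Lrfl
theorem f244411 : Led Lsl_et (LP (LK LD1_c11 LD2_c8 LD3_c61)) = (LP (LK LD1_c5 LD2_c39 LD3_c0)) :=
  Lre_e IH (LK LD1_c11 LD2_c8 LD3_c61) (LK LD1_c5 LD2_c39 LD3_c0) Lrfl Lrfl
theorem f220272 : Led Lsl_dt (LP (LK LD1_c15 LD2_c17 LD3_c56)) = (LP (LK LD1_c25 LD2_c8 LD3_c39)) :=
  Lre_d IH (LK LD1_c15 LD2_c17 LD3_c56) (LK LD1_c25 LD2_c8 LD3_c39) Lrfl Lrfl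
theorem f220249 : Led Lsl_et (LP (LK LD1_c8 LD2_c7 LD3_c26)) = (LP (LK LD1_c15 LD2_c17 LD3_c56)) :=
  Lre_e IH (LK LD1_c8 LD2_c7 LD3_c26) (LK LD1_c15 LD2_c17 LD3_c56) Lrfl Lrfl
theorem f244412 : Led Lsl_dt (LP (LK LD1_c5 LD2_c39 LD3_c0)) = (LP (LK LD1_c8 LD2_c7 LD3_c26)) :=
  Lgr Lrot77 (Lpe (f244411 IH) (Lpe (f244410 IH) (Lpr_ef (f244403 IH) (Lpe (f220272 IH) (Lpe (f220249 IH) (Lpn (LP (LK LD1_c8 LD2_c7 LD3_c26))))))))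
theorem f244416 : Led Lsl_df (LP (LK LD1_c11 LD2_c8 LD3_c60)) = (LP (LK LD1_c15 LD2_c17 LD3_c55)) :=
  Lgr Lrot18 (Lpr_at (f244415 IH) (Lpr_dt (f244412 IH) (Lpr_at (K18.f220305 IH) (Lpn (LP (LK LD1_c15 LD2_c17 LD3_c55))))))
theorem f244422 : Led Lsl_dt (LP (LK LD1_c11 LD2_c8 LD3_c60)) = (LP (LK LD1_c15 LD2_c17 LD3_c55)) :=
  Lgr Lrot42 (Lpr_df (f244416 IH) (Lpn (LP (LK LD1_c15 LD2_c17 LD3_c55))))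
theorem f296634 : Led Lsl_gt (LP (LK LD1_c15 LD2_c15 LD3_c42)) = (LP (LK LD1_c19 LD2_c36 LD3_c17)) :=
  Lgr Lrot49 (Lpe (f50288 IH) (Lpe (K16.f50287 IH) (Lpe (f51358 IH) (Lpr_gt (K18.f200823 IH) (Lpr_dt (K18.f238634 IH) (Lpr_gt (f296632 IH) (Lpr_dt (f244422 IH) (Lpe (K18.f220284 IH) (Lpe (K18.f220301 IH) (Lpn (LP (LK LD1_c19 LD2_c36 LD3_c17))))))))))))
theorem f296638 : Led Lsl_gf (LP (LK LD1_c15 LD2_c15 LD3_c42)) = (LP (LK LD1_c16 LD2_c42 LD3_c48)) :=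
  Lgr Lrot47 (Lpr_gt (f296634 IH) (Lpe (K18.f296593 IH) (Lpe (K18.f296594 IH) (Lpn (LP (LK LD1_c16 LD2_c42 LD3_c48))))))
theorem f227152 : Led Lsl_ct (LP (LK LD1_c15 LD2_c15 LD3_c42)) = (LP (LK LD1_c25 LD2_c5 LD3_c11)) :=
  Lre_c IH (LK LD1_c15 LD2_c15 LD3_c42) (LK LD1_c25 LD2_c5 LD3_c11) Lrfl Lrfl
theorem f234747 : Led Lsl_ct (LP (LK LD1_c2 LD2_c42 LD3_c22)) = (LP (LK LD1_c4 LD2_c9 LD3_c42)) :=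
  Lgr Lrot7 (Lpe (K14.f213056 IH) (Lpe (K12.f196395 IH) (Lpr_df (K13.f216974 IH) (Lpr_gf (K14.f234745 IH) (Lpe (K13.f222529 IH) (Lpr_gt (K12.f1043 IH) (Lpr_dt (K13.f1005 IH) (Lpr_gt (K14.f1312 IH) (Lpr_dt (K14.f1313 IH) (Lpn (LP (LK LD1_c4 LD2_c9 LD3_c42))))))))))))
theorem f234886 : Led Lsl_bt (LP (LK LD1_c2 LD2_c42 LD3_c22)) = (LP (LK LD1_c5 LD2_c32 LD3_c20)) :=
  Lre_b IH (LK LD1_c2 LD2_c42 LD3_c22) (LK LD1_c5 LD2_c32 LD3_c20) Lrfl Lrfl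
theorem f168103 : Led Lsl_gt (LP (LK LD1_c10 LD2_c56 LD3_c19)) = (LP (LK LD1_c5 LD2_c32 LD3_c20)) :=
  Lre_g IH (LK LD1_c10 LD2_c56 LD3_c19) (LK LD1_c5 LD2_c32 LD3_c20) Lrfl Lrfl
theorem f168104 : Led Lsl_bt (LP (LK LD1_c19 LD2_c45 LD3_c18)) = (LP (LK LD1_c10 LD2_c56 LD3_c19)) :=
  Lre_b IH (LK LD1_c19 LD2_c45 LD3_c18) (LK LD1_c10 LD2_c56 LD3_c19) Lrfl Lrfl
theorem f234968 : Led Lsl_ct (LP (LK LD1_c19 LD2_c45 LD3_c18)) = (LP (LK LD1_c29 LD2_c4 LD3_c12)) :=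
  Lre_c IH (LK LD1_c19 LD2_c45 LD3_c18) (LK LD1_c29 LD2_c4 LD3_c12) Lrfl Lrfl
theorem f296646 : Led Lsl_gt (LP (LK LD1_c25 LD2_c5 LD3_c11)) = (LP (LK LD1_c29 LD2_c4 LD3_c12)) :=
  Lgr Lrot149 (Lpe (f227152 IH) (Lpr_gf (f296638 IH) (Lpe (K15.f228227 IH) (Lpe (K14.f250856 IH) (Lpe (K14.f1314 IH) (Lpe (f234747 IH) (Lpr_bt (f234886 IH) (Lpe (f168103 IH) (Lpe (f168104 IH) (Lpr_ct (f234968 IH) (Lpn (LP (LK LD1_c29 LD2_c4 LD3_c12)))))))))))))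
theorem f179297 : Led Lsl_dt (LP (LK LD1_c8 LD2_c55 LD3_c42)) = (LP (LK LD1_c16 LD2_c42 LD3_c48)) :=
  Lre_d IH (LK LD1_c8 LD2_c55 LD3_c42) (LK LD1_c16 LD2_c42 LD3_c48) Lrfl Lrfl
theorem f179292 : Led Lsl_gt (LP (LK LD1_c8 LD2_c55 LD3_c42)) = (LP (LK LD1_c16 LD2_c42 LD3_c45)) :=
  Lre_g IH (LK LD1_c8 LD2_c55 LD3_c42) (LK LD1_c16 LD2_c42 LD3_c45) Lrfl Lrfl
theorem f179226 : Led Lsl_bt (LP (LK LD1_c8 LD2_c55 LD3_c55)) = (LP (LK LD1_c16 LD2_c43 LD3_c9)) :=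
  Lre_b IH (LK LD1_c8 LD2_c55 LD3_c55) (LK LD1_c16 LD2_c43 LD3_c9) Lrfl Lrfl
theorem f178095 : Led Lsl_bt (LP (LK LD1_c11 LD2_c9 LD3_c52)) = (LP (LK LD1_c5 LD2_c39 LD3_c24)) :=
  Lre_b IH (LK LD1_c11 LD2_c9 LD3_c52) (LK LD1_c5 LD2_c39 LD3_c24) Lrfl Lrfl
theorem f179228 : Led Lsl_ct (LP (LK LD1_c16 LD2_c43 LD3_c9)) = (LP (LK LD1_c11 LD2_c9 LD3_c52)) :=
  Lgr Lrot83 (Lpe (f179226 IH) (Lpr_cf (f179224 IH) (Lpe (f178091 IH) (Lpe (K22.f179227 IH) (Lpe (f178095 IH) (Lpn (LP (LK LD1_c11 LD2_c9 LD3_c52))))))))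
theorem f179272 : Led Lsl_bt (LP (LK LD1_c16 LD2_c43 LD3_c9)) = (LP (LK LD1_c8 LD2_c55 LD3_c55)) :=
  Lre_b IH (LK LD1_c16 LD2_c43 LD3_c9) (LK LD1_c8 LD2_c55 LD3_c55) Lrfl Lrfl
theorem f179289 : Led Lsl_bt (LP (LK LD1_c2 LD2_c11 LD3_c26)) = (LP (LK LD1_c4 LD2_c28 LD3_c49)) :=
  Lre_b IH (LK LD1_c2 LD2_c11 LD3_c26) (LK LD1_c4 LD2_c28 LD3_c49) Lrfl Lrfl
theorem f179291 : Led Lsl_bt (LP (LK LD1_c4 LD2_c28 LD3_c43)) = (LP (LK LD1_c8 LD2_c55 LD3_c42)) :=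
  Lre_b IH (LK LD1_c4 LD2_c28 LD3_c43) (LK LD1_c8 LD2_c55 LD3_c42) Lrfl Lrfl
theorem f179293 : Led Lsl_ct (LP (LK LD1_c16 LD2_c42 LD3_c45)) = (LP (LK LD1_c20 LD2_c4 LD3_c21)) :=
  Lgr Lrot91 (Lpe (f179292 IH) (Lpe (f179291 IH) (Lpr_ct (K12.f179290 IH) (Lpe (K12.f169294 IH) (Lpe (K13.f173257 IH) (Lpr_bt (f179289 IH) (Lpe (f179223 IH) (Lpe (f179272 IH) (Lpr_ct (f179228 IH) (Lpe (K22.f179276 IH) (Lpn (LP (LK LD1_c20 LD2_c4 LD3_c21)))))))))))))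
theorem f179233 : Led Lsl_et (LP (LK LD1_c8 LD2_c55 LD3_c55)) = (LP (LK LD1_c16 LD2_c43 LD3_c10)) :=
  Lre_e IH (LK LD1_c8 LD2_c55 LD3_c55) (LK LD1_c16 LD2_c43 LD3_c10) Lrfl Lrfl
theorem f179234 : Led Lsl_et (LP (LK LD1_c11 LD2_c9 LD3_c49)) = (LP (LK LD1_c5 LD2_c39 LD3_c23)) :=
  Lre_e IH (LK LD1_c11 LD2_c9 LD3_c49) (LK LD1_c5 LD2_c39 LD3_c23) Lrfl Lrfl
theorem f179235 : Led Lsl_ct (LP (LK LD1_c16 LD2_c43 LD3_c10)) = (LP (LK LD1_c11 LD2_c9 LD3_c49)) :=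
  Lgr Lrot15 (Lpe (f179233 IH) (Lpr_cf (f179224 IH) (Lpe (f179234 IH) (Lpn (LP (LK LD1_c11 LD2_c9 LD3_c49))))))
theorem f179245 : Led Lsl_cf (LP (LK LD1_c16 LD2_c43 LD3_c10)) = (LP (LK LD1_c11 LD2_c9 LD3_c49)) :=
  Lgr Lrot11 (Lpr_ct (f179235 IH) (Lpn (LP (LK LD1_c11 LD2_c9 LD3_c49))))
theorem f179251 : Led Lsl_bt (LP (LK LD1_c16 LD2_c43 LD3_c10)) = (LP (LK LD1_c26 LD2_c42 LD3_c1)) :=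
  Lre_b IH (LK LD1_c16 LD2_c43 LD3_c10) (LK LD1_c26 LD2_c42 LD3_c1) Lrfl Lrfl
theorem f179252 : Led Lsl_bt (LP (LK LD1_c5 LD2_c39 LD3_c26)) = (LP (LK LD1_c11 LD2_c9 LD3_c49)) :=
  Lre_b IH (LK LD1_c5 LD2_c39 LD3_c26) (LK LD1_c11 LD2_c9 LD3_c49) Lrfl Lrfl
theorem f179253 : Led Lsl_ct (LP (LK LD1_c11 LD2_c9 LD3_c54)) = (LP (LK LD1_c5 LD2_c39 LD3_c26)) :=
  Lre_c IH (LK LD1_c11 LD2_c9 LD3_c54) (LK LD1_c5 LD2_c39 LD3_c26) Lrfl Lrfl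
theorem f179254 : Led Lsl_bt (LP (LK LD1_c20 LD2_c4 LD3_c23)) = (LP (LK LD1_c11 LD2_c9 LD3_c54)) :=
  Lre_b IH (LK LD1_c20 LD2_c4 LD3_c23) (LK LD1_c11 LD2_c9 LD3_c54) Lrfl Lrfl
theorem f179255 : Led Lsl_ct (LP (LK LD1_c26 LD2_c42 LD3_c1)) = (LP (LK LD1_c20 LD2_c4 LD3_c23)) :=
  Lgr Lrot83 (Lpe (f179251 IH) (Lpr_cf (f179245 IH) (Lpe (f179252 IH) (Lpe (f179253 IH) (Lpe (f179254 IH) (Lpn (LP (LK LD1_c20 LD2_c4 LD3_c23))))))))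
theorem f179262 : Led Lsl_et (LP (LK LD1_c16 LD2_c43 LD3_c9)) = (LP (LK LD1_c26 LD2_c42 LD3_c1)) :=
  Lre_e IH (LK LD1_c16 LD2_c43 LD3_c9) (LK LD1_c26 LD2_c42 LD3_c1) Lrfl Lrfl
theorem f179263 : Led Lsl_et (LP (LK LD1_c20 LD2_c4 LD3_c23)) = (LP (LK LD1_c11 LD2_c9 LD3_c52)) :=
  Lre_e IH (LK LD1_c20 LD2_c4 LD3_c23) (LK LD1_c11 LD2_c9 LD3_c52) Lrfl Lrfl
theorem f179264 : Led Lsl_cf (LP (LK LD1_c16 LD2_c43 LD3_c9)) = (LP (LK LD1_c11 LD2_c9 LD3_c52)) :=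
  Lgr Lrot39 (Lpr_et (f179262 IH) (Lpr_ct (f179255 IH) (Lpr_et (f179263 IH) (Lpn (LP (LK LD1_c11 LD2_c9 LD3_c52))))))
theorem f168105 : Led Lsl_ct (LP (LK LD1_c29 LD2_c4 LD3_c12)) = (LP (LK LD1_c19 LD2_c45 LD3_c18)) :=
  Lre_c IH (LK LD1_c29 LD2_c4 LD3_c12) (LK LD1_c19 LD2_c45 LD3_c18) Lrfl Lrfl
theorem f296652 : Led Lsl_df (LP (LK LD1_c16 LD2_c43 LD3_c9)) = (LP (LK LD1_c19 LD2_c45 LD3_c18)) :=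
  Lgr Lrot162 (Lpr_cf (f179264 IH) (Lpe (K22.f179276 IH) (Lpe (f179293 IH) (Lpe (f179292 IH) (Lpr_dt (f179297 IH) (Lpe (f296638 IH) (Lpr_ct (f227152 IH) (Lpr_gt (f296646 IH) (Lpr_ct (f168105 IH) (Lpn (LP (LK LD1_c19 LD2_c45 LD3_c18))))))))))))
theorem f296655 : Led Lsl_bt (LP (LK LD1_c10 LD2_c56 LD3_c19)) = (LP (LK LD1_c19 LD2_c45 LD3_c18)) :=
  Lre_b IH (LK LD1_c10 LD2_c56 LD3_c19) (LK LD1_c19 LD2_c45 LD3_c18) Lrfl Lrfl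
theorem f296656 : Led Lsl_dt (LP (LK LD1_c8 LD2_c55 LD3_c55)) = (LP (LK LD1_c10 LD2_c56 LD3_c19)) :=
  Lgr Lrot79 (Lpe (f179272 IH) (Lpr_df (f296652 IH) (Lpe (f296655 IH) (Lpn (LP (LK LD1_c10 LD2_c56 LD3_c19))))))
theorem f168102 : Led Lsl_dt (LP (LK LD1_c5 LD2_c32 LD3_c20)) = (LP (LK LD1_c2 LD2_c42 LD3_c21)) :=
  Lre_d IH (LK LD1_c5 LD2_c32 LD3_c20) (LK LD1_c2 LD2_c42 LD3_c21) Lrfl Lrfl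
theorem f168133 : Led Lsl_dt (LP (LK LD1_c2 LD2_c42 LD3_c30)) = (LP (LK LD1_c1 LD2_c17 LD3_c48)) :=
  Lre_d IH (LK LD1_c2 LD2_c42 LD3_c30) (LK LD1_c1 LD2_c17 LD3_c48) Lrfl Lrfl
theorem f226191 : Led Lsl_ct (LP (LK LD1_c11 LD2_c0 LD3_c13)) = (LP (LK LD1_c10 LD2_c57 LD3_c9)) :=
  Lgr Lrot59 (Lpr_cf (K20.f226176 IH) (Lpn (LP (LK LD1_c10 LD2_c57 LD3_c9))))
theorem f183317 : Led Lsl_ct (LP (LK LD1_c8 LD2_c21 LD3_c52)) = (LP (LK LD1_c15 LD2_c44 LD3_c23)) :=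
  Lre_c IH (LK LD1_c8 LD2_c21 LD3_c52) (LK LD1_c15 LD2_c44 LD3_c23) Lrfl Lrfl
theorem f183318 : Led Lsl_bt (LP (LK LD1_c1 LD2_c2 LD3_c45)) = (LP (LK LD1_c2 LD2_c11 LD3_c33)) :=
  Lre_b IH (LK LD1_c1 LD2_c2 LD3_c45) (LK LD1_c2 LD2_c11 LD3_c33) Lrfl Lrfl
theorem f183319 : Led Lsl_gt (LP (LK LD1_c4 LD2_c28 LD3_c58)) = (LP (LK LD1_c2 LD2_c11 LD3_c33)) :=
  Lre_g IH (LK LD1_c4 LD2_c28 LD3_c58) (LK LD1_c2 LD2_c11 LD3_c33) Lrfl Lrfl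
theorem f183320 : Led Lsl_bt (LP (LK LD1_c8 LD2_c56 LD3_c14)) = (LP (LK LD1_c4 LD2_c28 LD3_c58)) :=
  Lre_b IH (LK LD1_c8 LD2_c56 LD3_c14) (LK LD1_c4 LD2_c28 LD3_c58) Lrfl Lrfl
theorem f183321 : Led Lsl_ct (LP (LK LD1_c8 LD2_c56 LD3_c14)) = (LP (LK LD1_c16 LD2_c43 LD3_c48)) :=
  Lre_c IH (LK LD1_c8 LD2_c56 LD3_c14) (LK LD1_c16 LD2_c43 LD3_c48) Lrfl Lrfl
theorem f183322 : Led Lsl_gt (LP (LK LD1_c15 LD2_c44 LD3_c23)) = (LP (LK LD1_c16 LD2_c43 LD3_c48)) :=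
  Lgr Lrot149 (Lpe (f183317 IH) (Lpe (f183316 IH) (Lpe (K21.f179768 IH) (Lpr_ct (K13.f178878 IH) (Lpr_gf (K9.f183304 IH) (Lpe (K9.f169275 IH) (Lpr_bt (f183318 IH) (Lpe (f183319 IH) (Lpe (f183320 IH) (Lpr_ct (f183321 IH) (Lpn (LP (LK LD1_c16 LD2_c43 LD3_c48)))))))))))))
theorem f225401 : Led Lsl_ct (LP (LK LD1_c16 LD2_c43 LD3_c48)) = (LP (LK LD1_c8 LD2_c56 LD3_c14)) :=
  Lre_c IH (LK LD1_c16 LD2_c43 LD3_c48) (LK LD1_c8 LD2_c56 LD3_c14) Lrfl Lrfl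
theorem f226207 : Led Lsl_df (LP (LK LD1_c8 LD2_c56 LD3_c14)) = (LP (LK LD1_c10 LD2_c57 LD3_c9)) :=
  Lgr Lrot162 (Lpe (f225401 IH) (Lpe (f183322 IH) (Lpe (f183317 IH) (Lpe (f183316 IH) (Lpr_dt (f225346 IH) (Lpe (K20.f226144 IH) (Lpr_ct (K20.f220436 IH) (Lpr_gt (K20.f226171 IH) (Lpr_ct (f226191 IH) (Lpn (LP (LK LD1_c10 LD2_c57 LD3_c9))))))))))))
theorem f226187 : Led Lsl_bt (LP (LK LD1_c5 LD2_c32 LD3_c42)) = (LP (LK LD1_c10 LD2_c57 LD3_c9)) :=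
  Lre_b IH (LK LD1_c5 LD2_c32 LD3_c42) (LK LD1_c10 LD2_c57 LD3_c9) Lrfl Lrfl
theorem f226211 : Led Lsl_dt (LP (LK LD1_c4 LD2_c28 LD3_c58)) = (LP (LK LD1_c5 LD2_c32 LD3_c42)) :=
  Lgr Lrot79 (Lpe (f183320 IH) (Lpr_df (f226207 IH) (Lpe (f226187 IH) (Lpn (LP (LK LD1_c5 LD2_c32 LD3_c42))))))
theorem f384919 : Led Lsl_gf (LP (LK LD1_c4 LD2_c28 LD3_c58)) = (LP (LK LD1_c2 LD2_c41 LD3_c29)) :=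
  Lgr Lrot144 (Lpr_dt (f226211 IH) (Lpr_gt (K20.f174388 IH) (Lpr_dt (f168133 IH) (Lpe (K12.f168101 IH) (Lpe (f168102 IH) (Lpe (f168103 IH) (Lpe (f296656 IH) (Lpr_gf (f384914 IH) (Lpe (f222636 IH) (Lpn (LP (LK LD1_c2 LD2_c41 LD3_c29))))))))))))
theorem f245533 : Led Lsl_at (LP (LK LD1_c4 LD2_c28 LD3_c59)) = (LP (LK LD1_c2 LD2_c11 LD3_c33)) :=
  Lre_a IH (LK LD1_c4 LD2_c28 LD3_c59) (LK LD1_c2 LD2_c11 LD3_c33) Lrfl Lrfl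
theorem f385142 : Led Lsl_ff (LP (LK LD1_c4 LD2_c28 LD3_c59)) = (LP (LK LD1_c2 LD2_c41 LD3_c29)) :=
  Lgr Lrot52 (Lpr_at (f245533 IH) (Lpe (f183319 IH) (Lpr_gf (f384919 IH) (Lpn (LP (LK LD1_c2 LD2_c41 LD3_c29))))))
theorem f385168 : Led Lsl_ft (LP (LK LD1_c4 LD2_c28 LD3_c59)) = (LP (LK LD1_c2 LD2_c41 LD3_c29)) :=
  Lgr Lrot48 (Lpr_ff (f385142 IH) (Lpn (LP (LK LD1_c2 LD2_c41 LD3_c29))))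
theorem f385173 : Led Lsl_dt (LP (LK LD1_c8 LD2_c56 LD3_c17)) = (LP (LK LD1_c4 LD2_c28 LD3_c59)) :=
  Lre_d IH (LK LD1_c8 LD2_c56 LD3_c17) (LK LD1_c4 LD2_c28 LD3_c59) Lrfl Lrfl
theorem f385174 : Led Lsl_ff (LP (LK LD1_c8 LD2_c56 LD3_c17)) = (LP (LK LD1_c5 LD2_c30 LD3_c29)) :=
  Lgr Lrot19 (Lpr_dt (f385173 IH) (Lpr_ft (f385168 IH) (Lpr_dt (K13.f245693 IH) (Lpn (LP (LK LD1_c5 LD2_c30 LD3_c29))))))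
theorem f385183 : Led Lsl_at (LP (LK LD1_c8 LD2_c56 LD3_c17)) = (LP (LK LD1_c4 LD2_c28 LD3_c60)) :=
  Lre_a IH (LK LD1_c8 LD2_c56 LD3_c17) (LK LD1_c4 LD2_c28 LD3_c60) Lrfl Lrfl
theorem f169298 : Led Lsl_ct (LP (LK LD1_c8 LD2_c56 LD3_c20)) = (LP (LK LD1_c4 LD2_c28 LD3_c60)) :=
  Lre_c IH (LK LD1_c8 LD2_c56 LD3_c20) (LK LD1_c4 LD2_c28 LD3_c60) Lrfl Lrfl
theorem f169299 : Led Lsl_dt (LP (LK LD1_c16 LD2_c43 LD3_c59)) = (LP (LK LD1_c8 LD2_c56 LD3_c20)) :=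
  Lre_d IH (LK LD1_c16 LD2_c43 LD3_c59) (LK LD1_c8 LD2_c56 LD3_c20) Lrfl Lrfl
theorem f385186 : Led Lsl_ct (LP (LK LD1_c26 LD2_c42 LD3_c36)) = (LP (LK LD1_c16 LD2_c43 LD3_c59)) :=
  Lre_c IH (LK LD1_c26 LD2_c42 LD3_c36) (LK LD1_c16 LD2_c43 LD3_c59) Lrfl Lrfl
theorem f222637 : Led Lsl_dt (LP (LK LD1_c5 LD2_c30 LD3_c29)) = (LP (LK LD1_c2 LD2_c41 LD3_c29)) :=
  Lre_d IH (LK LD1_c5 LD2_c30 LD3_c29) (LK LD1_c2 LD2_c41 LD3_c29) Lrfl Lrfl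
theorem f384922 : Led Lsl_dt (LP (LK LD1_c5 LD2_c30 LD3_c0)) = (LP (LK LD1_c10 LD2_c51 LD3_c18)) :=
  Lre_d IH (LK LD1_c5 LD2_c30 LD3_c0) (LK LD1_c10 LD2_c51 LD3_c18) Lrfl Lrfl
theorem f222609 : Led Lsl_ct (LP (LK LD1_c10 LD2_c51 LD3_c18)) = (LP (LK LD1_c19 LD2_c37 LD3_c20)) :=
  Lre_c IH (LK LD1_c10 LD2_c51 LD3_c18) (LK LD1_c19 LD2_c37 LD3_c20) Lrfl Lrfl
theorem f385187 : Led Lsl_df (LP (LK LD1_c26 LD2_c42 LD3_c36)) = (LP (LK LD1_c19 LD2_c37 LD3_c20)) :=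
  Lgr Lrot13 (Lpr_ct (f385186 IH) (Lpr_dt (f169299 IH) (Lpr_ct (f169298 IH) (Lpe (f385183 IH) (Lpr_ff (f385174 IH) (Lpr_dt (f222637 IH) (Lpr_ct (f222636 IH) (Lpr_dt (f384922 IH) (Lpr_ct (f222609 IH) (Lpn (LP (LK LD1_c19 LD2_c37 LD3_c20))))))))))))
theorem f385191 : Led Lsl_dt (LP (LK LD1_c26 LD2_c42 LD3_c36)) = (LP (LK LD1_c19 LD2_c37 LD3_c20)) :=
  Lgr Lrot42 (Lpr_df (f385187 IH) (Lpn (LP (LK LD1_c19 LD2_c37 LD3_c20))))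
theorem f385194 : Led Lsl_ct (LP (LK LD1_c16 LD2_c43 LD3_c59)) = (LP (LK LD1_c26 LD2_c42 LD3_c36)) :=
  Lre_c IH (LK LD1_c16 LD2_c43 LD3_c59) (LK LD1_c26 LD2_c42 LD3_c36) Lrfl Lrfl
theorem f385193 : Led Lsl_dt (LP (LK LD1_c8 LD2_c56 LD3_c20)) = (LP (LK LD1_c16 LD2_c43 LD3_c59)) :=
  Lre_d IH (LK LD1_c8 LD2_c56 LD3_c20) (LK LD1_c16 LD2_c43 LD3_c59) Lrfl Lrfl
theorem f385197 : Led Lsl_ct (LP (LK LD1_c19 LD2_c37 LD3_c20)) = (LP (LK LD1_c10 LD2_c51 LD3_c18)) :=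
  Lre_c IH (LK LD1_c19 LD2_c37 LD3_c20) (LK LD1_c10 LD2_c51 LD3_c18) Lrfl Lrfl
theorem f384921 : Led Lsl_dt (LP (LK LD1_c10 LD2_c51 LD3_c18)) = (LP (LK LD1_c5 LD2_c30 LD3_c0)) :=
  Lre_d IH (LK LD1_c10 LD2_c51 LD3_c18) (LK LD1_c5 LD2_c30 LD3_c0) Lrfl Lrfl
theorem f222580 : Led Lsl_ct (LP (LK LD1_c5 LD2_c30 LD3_c0)) = (LP (LK LD1_c2 LD2_c41 LD3_c29)) :=
  Lre_c IH (LK LD1_c5 LD2_c30 LD3_c0) (LK LD1_c2 LD2_c41 LD3_c29) Lrfl Lrfl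
theorem f245697 : Led Lsl_ct (LP (LK LD1_c5 LD2_c30 LD3_c29)) = (LP (LK LD1_c10 LD2_c52 LD3_c32)) :=
  Lre_c IH (LK LD1_c5 LD2_c30 LD3_c29) (LK LD1_c10 LD2_c52 LD3_c32) Lrfl Lrfl
theorem f385198 : Led Lsl_at (LP (LK LD1_c5 LD2_c30 LD3_c33)) = (LP (LK LD1_c10 LD2_c52 LD3_c32)) :=
  Lre_a IH (LK LD1_c5 LD2_c30 LD3_c33) (LK LD1_c10 LD2_c52 LD3_c32) Lrfl Lrfl
theorem f385199 : Led Lsl_ft (LP (LK LD1_c8 LD2_c56 LD3_c20)) = (LP (LK LD1_c5 LD2_c30 LD3_c33)) :=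
  Lgr Lrot142 (Lpr_dt (f385193 IH) (Lpr_ct (f385194 IH) (Lpr_dt (f385191 IH) (Lpr_ct (f385197 IH) (Lpr_dt (f384921 IH) (Lpr_ct (f222580 IH) (Lpr_dt (K13.f245693 IH) (Lpr_ct (f245697 IH) (Lpe (f385198 IH) (Lpn (LP (LK LD1_c5 LD2_c30 LD3_c33))))))))))))
theorem f385208 : Led Lsl_ff (LP (LK LD1_c8 LD2_c56 LD3_c20)) = (LP (LK LD1_c5 LD2_c30 LD3_c33)) :=
  Lgr Lrot3 (Lpr_ft (f385199 IH) (Lpn (LP (LK LD1_c5 LD2_c30 LD3_c33))))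
theorem f169296 : Led Lsl_ct (LP (LK LD1_c4 LD2_c28 LD3_c60)) = (LP (LK LD1_c8 LD2_c56 LD3_c20)) :=
  Lre_c IH (LK LD1_c4 LD2_c28 LD3_c60) (LK LD1_c8 LD2_c56 LD3_c20) Lrfl Lrfl
theorem f174514 : Led Lsl_ct (LP (LK LD1_c4 LD2_c33 LD3_c33)) = (LP (LK LD1_c2 LD2_c13 LD3_c41)) :=
  Lre_c IH (LK LD1_c4 LD2_c33 LD3_c33) (LK LD1_c2 LD2_c13 LD3_c41) Lrfl Lrfl
theorem f174515 : Led Lsl_bt (LP (LK LD1_c8 LD2_c56 LD3_c20)) = (LP (LK LD1_c4 LD2_c33 LD3_c33)) :=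
  Lgr Lrot128 (Lpe (f169296 IH) (Lpe (K27.f173404 IH) (Lpr_cf (K9.f173397 IH) (Lpe (f173374 IH) (Lpe (f174514 IH) (Lpn (LP (LK LD1_c4 LD2_c33 LD3_c33))))))))
theorem f172607 : Led Lsl_bt (LP (LK LD1_c0 LD2_c37 LD3_c8)) = (LP (LK LD1_c1 LD2_c20 LD3_c23)) :=
  Lre_b IH (LK LD1_c0 LD2_c37 LD3_c8) (LK LD1_c1 LD2_c20 LD3_c23) Lrfl Lrfl
theorem f172685 : Led Lsl_ct (LP (LK LD1_c1 LD2_c20 LD3_c23)) = (LP (LK LD1_c2 LD2_c48 LD3_c22)) :=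
  Lre_c IH (LK LD1_c1 LD2_c20 LD3_c23) (LK LD1_c2 LD2_c48 LD3_c22) Lrfl Lrfl
theorem f175076 : Led Lsl_bt (LP (LK LD1_c2 LD2_c41 LD3_c30)) = (LP (LK LD1_c1 LD2_c17 LD3_c26)) :=
  Lre_b IH (LK LD1_c2 LD2_c41 LD3_c30) (LK LD1_c1 LD2_c17 LD3_c26) Lrfl Lrfl
theorem f175077 : Led Lsl_ct (LP (LK LD1_c5 LD2_c30 LD3_c33)) = (LP (LK LD1_c2 LD2_c41 LD3_c30)) :=
  Lre_c IH (LK LD1_c5 LD2_c30 LD3_c33) (LK LD1_c2 LD2_c41 LD3_c30) Lrfl Lrfl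
theorem f175078 : Led Lsl_bt (LP (LK LD1_c2 LD2_c48 LD3_c22)) = (LP (LK LD1_c5 LD2_c30 LD3_c33)) :=
  Lgr Lrot128 (Lpe (f172685 IH) (Lpe (f172607 IH) (Lpr_cf (K9.f174970 IH) (Lpe (f175076 IH) (Lpe (f175077 IH) (Lpn (LP (LK LD1_c5 LD2_c30 LD3_c33))))))))
theorem f385214 : Led Lsl_ft (LP (LK LD1_c4 LD2_c33 LD3_c33)) = (LP (LK LD1_c2 LD2_c48 LD3_c22)) :=
  Lgr Lrot75 (Lpe (f174515 IH) (Lpr_ff (f385208 IH) (Lpe (f175078 IH) (Lpn (LP (LK LD1_c2 LD2_c48 LD3_c22))))))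
theorem f193614 : Led Lsl_at (LP (LK LD1_c9 LD2_c4 LD3_c39)) = (LP (LK LD1_c4 LD2_c33 LD3_c33)) :=
  Lre_a IH (LK LD1_c9 LD2_c4 LD3_c39) (LK LD1_c4 LD2_c33 LD3_c33) Lrfl Lrfl
theorem f172643 : Led Lsl_at (LP (LK LD1_c2 LD2_c48 LD3_c22)) = (LP (LK LD1_c5 LD2_c45 LD3_c7)) :=
  Lre_a IH (LK LD1_c2 LD2_c48 LD3_c22) (LK LD1_c5 LD2_c45 LD3_c7) Lrfl Lrfl
theorem f385227 : Led Lsl_ff (LP (LK LD1_c9 LD2_c4 LD3_c39)) = (LP (LK LD1_c5 LD2_c45 LD3_c7)) :=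
  Lgr Lrot30 (Lpr_at (f193614 IH) (Lpr_ft (f385214 IH) (Lpr_at (f172643 IH) (Lpn (LP (LK LD1_c5 LD2_c45 LD3_c7))))))
theorem f386338 : Led Lsl_gf (LP (LK LD1_c9 LD2_c4 LD3_c42)) = (LP (LK LD1_c5 LD2_c45 LD3_c7)) :=
  Lgr Lrot47 (Lpr_gt (f175985 IH) (Lpe (f193614 IH) (Lpr_ff (f385227 IH) (Lpn (LP (LK LD1_c5 LD2_c45 LD3_c7))))))
theorem f172634 : Led Lsl_ct (LP (LK LD1_c2 LD2_c48 LD3_c21)) = (LP (LK LD1_c5 LD2_c45 LD3_c7)) :=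
  Lre_c IH (LK LD1_c2 LD2_c48 LD3_c21) (LK LD1_c5 LD2_c45 LD3_c7) Lrfl Lrfl
theorem f181658 : Led Lsl_dt (LP (LK LD1_c1 LD2_c19 LD3_c51)) = (LP (LK LD1_c2 LD2_c46 LD3_c53)) :=
  Lre_d IH (LK LD1_c1 LD2_c19 LD3_c51) (LK LD1_c2 LD2_c46 LD3_c53) Lrfl Lrfl
theorem f269020 : Led Lsl_ff (LP (LK LD1_c1 LD2_c19 LD3_c51)) = (LP (LK LD1_c2 LD2_c13 LD3_c18)) :=
  Lgr Lrot19 (Lpr_dt (f181658 IH) (Lpr_ft (K16.f269009 IH) (Lpr_dt (K16.f181344 IH) (Lpn (LP (LK LD1_c2 LD2_c13 LD3_c18))))))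
theorem f181687 : Led Lsl_at (LP (LK LD1_c1 LD2_c19 LD3_c51)) = (LP (LK LD1_c2 LD2_c46 LD3_c49)) :=
  Lre_a IH (LK LD1_c1 LD2_c19 LD3_c51) (LK LD1_c2 LD2_c46 LD3_c49) Lrfl Lrfl
theorem f174560 : Led Lsl_gt (LP (LK LD1_c2 LD2_c13 LD3_c18)) = (LP (LK LD1_c4 LD2_c32 LD3_c31)) :=
  Lre_g IH (LK LD1_c2 LD2_c13 LD3_c18) (LK LD1_c4 LD2_c32 LD3_c31) Lrfl Lrfl
theorem f411800 : Led Lsl_gf (LP (LK LD1_c2 LD2_c46 LD3_c49)) = (LP (LK LD1_c4 LD2_c32 LD3_c31)) :=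
  Lgr Lrot76 (Lpe (f181687 IH) (Lpr_ff (f269020 IH) (Lpr_gt (f174560 IH) (Lpn (LP (LK LD1_c4 LD2_c32 LD3_c31))))))
theorem f269069 : Led Lsl_dt (LP (LK LD1_c2 LD2_c46 LD3_c49)) = (LP (LK LD1_c5 LD2_c41 LD3_c32)) :=
  Lre_d IH (LK LD1_c2 LD2_c46 LD3_c49) (LK LD1_c5 LD2_c41 LD3_c32) Lrfl Lrfl
theorem f269070 : Led Lsl_ct (LP (LK LD1_c5 LD2_c41 LD3_c32)) = (LP (LK LD1_c11 LD2_c13 LD3_c13)) :=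
  Lre_c IH (LK LD1_c5 LD2_c41 LD3_c32) (LK LD1_c11 LD2_c13 LD3_c13) Lrfl Lrfl
theorem f174538 : Led Lsl_gt (LP (LK LD1_c2 LD2_c13 LD3_c16)) = (LP (LK LD1_c1 LD2_c3 LD3_c42)) :=
  Lre_g IH (LK LD1_c2 LD2_c13 LD3_c16) (LK LD1_c1 LD2_c3 LD3_c42) Lrfl Lrfl
theorem f411656 : Led Lsl_gt (LP (LK LD1_c1 LD2_c19 LD3_c50)) = (LP (LK LD1_c2 LD2_c13 LD3_c16)) :=
  Lgr Lrot5 (Lpr_ft (K16.f269072 IH) (Lpr_at (K16.f268870 IH) (Lpe (f174538 IH) (Lpn (LP (LK LD1_c2 LD2_c13 LD3_c16))))))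
theorem f269084 : Led Lsl_ct (LP (LK LD1_c1 LD2_c19 LD3_c50)) = (LP (LK LD1_c2 LD2_c46 LD3_c49)) :=
  Lre_c IH (LK LD1_c1 LD2_c19 LD3_c50) (LK LD1_c2 LD2_c46 LD3_c49) Lrfl Lrfl
theorem f280541 : Led Lsl_ft (LP (LK LD1_c2 LD2_c46 LD3_c49)) = (LP (LK LD1_c4 LD2_c32 LD3_c28)) :=
  Lgr Lrot4 (Lpe (f269084 IH) (Lpr_ff (K20.f280539 IH) (Lpe (K16.f268852 IH) (Lpn (LP (LK LD1_c4 LD2_c32 LD3_c28))))))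
theorem f181343 : Led Lsl_at (LP (LK LD1_c4 LD2_c32 LD3_c28)) = (LP (LK LD1_c2 LD2_c13 LD3_c18)) :=
  Lre_a IH (LK LD1_c4 LD2_c32 LD3_c28) (LK LD1_c2 LD2_c13 LD3_c18) Lrfl Lrfl
theorem f181300 : Led Lsl_gt (LP (LK LD1_c4 LD2_c32 LD3_c32)) = (LP (LK LD1_c2 LD2_c13 LD3_c18)) :=
  Lre_g IH (LK LD1_c4 LD2_c32 LD3_c32) (LK LD1_c2 LD2_c13 LD3_c18) Lrfl Lrfl
theorem f281785 : Led Lsl_gt (LP (LK LD1_c2 LD2_c46 LD3_c49)) = (LP (LK LD1_c4 LD2_c32 LD3_c32)) :=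
  Lgr Lrot5 (Lpr_ft (f280541 IH) (Lpr_at (f181343 IH) (Lpe (f181300 IH) (Lpn (LP (LK LD1_c4 LD2_c32 LD3_c32))))))
theorem f281787 : Led Lsl_dt (LP (LK LD1_c4 LD2_c32 LD3_c32)) = (LP (LK LD1_c9 LD2_c2 LD3_c35)) :=
  Lre_d IH (LK LD1_c4 LD2_c32 LD3_c32) (LK LD1_c9 LD2_c2 LD3_c35) Lrfl Lrfl
theorem f174583 : Led Lsl_dt (LP (LK LD1_c2 LD2_c13 LD3_c16)) = (LP (LK LD1_c4 LD2_c32 LD3_c26)) :=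
  Lre_d IH (LK LD1_c2 LD2_c13 LD3_c16) (LK LD1_c4 LD2_c32 LD3_c26) Lrfl Lrfl
theorem f40719 : Led Lsl_bt (LP (LK LD1_c0 LD2_c24 LD3_c53)) = (LP (LK LD1_c0 LD2_c54 LD3_c58)) :=
  Lre_b IH (LK LD1_c0 LD2_c24 LD3_c53) (LK LD1_c0 LD2_c54 LD3_c58) Lrfl Lrfl
theorem f157826 : Led Lsl_gt (LP (LK LD1_c0 LD2_c54 LD3_c58)) = (LP (LK LD1_c1 LD2_c56 LD3_c14)) :=
  Lre_g IH (LK LD1_c0 LD2_c54 LD3_c58) (LK LD1_c1 LD2_c56 LD3_c14) Lrfl Lrfl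
theorem f174535 : Led Lsl_ct (LP (LK LD1_c1 LD2_c56 LD3_c14)) = (LP (LK LD1_c3 LD2_c58 LD3_c59)) :=
  Lre_c IH (LK LD1_c1 LD2_c56 LD3_c14) (LK LD1_c3 LD2_c58 LD3_c59) Lrfl Lrfl
theorem f174536 : Led Lsl_gt (LP (LK LD1_c3 LD2_c58 LD3_c59)) = (LP (LK LD1_c7 LD2_c59 LD3_c12)) :=
  Lre_g IH (LK LD1_c3 LD2_c58 LD3_c59) (LK LD1_c7 LD2_c59 LD3_c12) Lrfl Lrfl
theorem f174537 : Led Lsl_bt (LP (LK LD1_c0 LD2_c29 LD3_c5)) = (LP (LK LD1_c1 LD2_c3 LD3_c42)) :=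
  Lre_b IH (LK LD1_c0 LD2_c29 LD3_c5) (LK LD1_c1 LD2_c3 LD3_c42) Lrfl Lrfl
theorem f174539 : Led Lsl_bt (LP (LK LD1_c4 LD2_c32 LD3_c24)) = (LP (LK LD1_c2 LD2_c13 LD3_c16)) :=
  Lre_b IH (LK LD1_c4 LD2_c32 LD3_c24) (LK LD1_c2 LD2_c13 LD3_c16) Lrfl Lrfl
theorem f174540 : Led Lsl_cf (LP (LK LD1_c7 LD2_c59 LD3_c12)) = (LP (LK LD1_c4 LD2_c32 LD3_c24)) :=
  Lgr Lrot163 (Lpe (f174536 IH) (Lpe (f174535 IH) (Lpe (f157826 IH) (Lpe (f40719 IH) (Lpr_ct (K1.f40723 IH) (Lpe (K9.f28326 IH) (Lpr_cf (K9.f174518 IH) (Lpr_bt (f174537 IH) (Lpe (f174538 IH) (Lpe (f174539 IH) (Lpn (LP (LK LD1_c4 LD2_c32 LD3_c24)))))))))))))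
theorem f174546 : Led Lsl_ct (LP (LK LD1_c7 LD2_c59 LD3_c12)) = (LP (LK LD1_c4 LD2_c32 LD3_c24)) :=
  Lgr Lrot59 (Lpr_cf (f174540 IH) (Lpn (LP (LK LD1_c4 LD2_c32 LD3_c24))))
theorem f172368 : Led Lsl_dt (LP (LK LD1_c0 LD2_c54 LD3_c58)) = (LP (LK LD1_c1 LD2_c56 LD3_c17)) :=
  Lre_d IH (LK LD1_c0 LD2_c54 LD3_c58) (LK LD1_c1 LD2_c56 LD3_c17) Lrfl Lrfl
theorem f41052 : Led Lsl_gt (LP (LK LD1_c1 LD2_c56 LD3_c17)) = (LP (LK LD1_c3 LD2_c59 LD3_c6)) :=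
  Lre_g IH (LK LD1_c1 LD2_c56 LD3_c17) (LK LD1_c3 LD2_c59 LD3_c6) Lrfl Lrfl
theorem f169300 : Led Lsl_ct (LP (LK LD1_c3 LD2_c59 LD3_c6)) = (LP (LK LD1_c7 LD2_c59 LD3_c34)) :=
  Lre_c IH (LK LD1_c3 LD2_c59 LD3_c6) (LK LD1_c7 LD2_c59 LD3_c34) Lrfl Lrfl
theorem f169301 : Led Lsl_gt (LP (LK LD1_c7 LD2_c59 LD3_c34)) = (LP (LK LD1_c15 LD2_c4 LD3_c14)) :=
  Lre_g IH (LK LD1_c7 LD2_c59 LD3_c34) (LK LD1_c15 LD2_c4 LD3_c14) Lrfl Lrfl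
theorem f174549 : Led Lsl_dt (LP (LK LD1_c9 LD2_c2 LD3_c26)) = (LP (LK LD1_c4 LD2_c32 LD3_c24)) :=
  Lre_d IH (LK LD1_c9 LD2_c2 LD3_c26) (LK LD1_c4 LD2_c32 LD3_c24) Lrfl Lrfl
theorem f174564 : Led Lsl_ct (LP (LK LD1_c15 LD2_c4 LD3_c14)) = (LP (LK LD1_c9 LD2_c2 LD3_c26)) :=
  Lgr Lrot110 (Lpe (f169301 IH) (Lpe (f169300 IH) (Lpe (f41052 IH) (Lpe (f172368 IH) (Lpr_gt (f157826 IH) (Lpr_ct (f174535 IH) (Lpr_gt (f174536 IH) (Lpr_ct (f174546 IH) (Lpe (f174549 IH) (Lpn (LP (LK LD1_c9 LD2_c2 LD3_c26))))))))))))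
theorem f174572 : Led Lsl_cf (LP (LK LD1_c15 LD2_c4 LD3_c14)) = (LP (LK LD1_c9 LD2_c2 LD3_c26)) :=
  Lgr Lrot11 (Lpr_ct (f174564 IH) (Lpn (LP (LK LD1_c9 LD2_c2 LD3_c26))))
theorem f41051 : Led Lsl_bt (LP (LK LD1_c0 LD2_c54 LD3_c59)) = (LP (LK LD1_c1 LD2_c56 LD3_c17)) :=
  Lre_b IH (LK LD1_c0 LD2_c54 LD3_c59) (LK LD1_c1 LD2_c56 LD3_c17) Lrfl Lrfl
theorem f173393 : Led Lsl_bt (LP (LK LD1_c1 LD2_c3 LD3_c51)) = (LP (LK LD1_c2 LD2_c13 LD3_c41)) :=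
  Lre_b IH (LK LD1_c1 LD2_c3 LD3_c51) (LK LD1_c2 LD2_c13 LD3_c41) Lrfl Lrfl
theorem f174570 : Led Lsl_bt (LP (LK LD1_c9 LD2_c2 LD3_c26)) = (LP (LK LD1_c4 LD2_c32 LD3_c26)) :=
  Lre_b IH (LK LD1_c9 LD2_c2 LD3_c26) (LK LD1_c4 LD2_c32 LD3_c26) Lrfl Lrfl
theorem f174578 : Led Lsl_gf (LP (LK LD1_c2 LD2_c13 LD3_c41)) = (LP (LK LD1_c4 LD2_c32 LD3_c26)) :=
  Lgr Lrot124 (Lpe (f173393 IH) (Lpe (K9.f173397 IH) (Lpe (K9.f169291 IH) (Lpe (K9.f40747 IH) (Lpr_bt (f41051 IH) (Lpr_gt (f41052 IH) (Lpr_ct (f169300 IH) (Lpr_gt (f169301 IH) (Lpr_cf (f174572 IH) (Lpr_bt (f174570 IH) (Lpn (LP (LK LD1_c4 LD2_c32 LD3_c26)))))))))))))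
theorem f175984 : Led Lsl_ct (LP (LK LD1_c3 LD2_c58 LD3_c52)) = (LP (LK LD1_c1 LD2_c56 LD3_c12)) :=
  Lre_c IH (LK LD1_c3 LD2_c58 LD3_c52) (LK LD1_c1 LD2_c56 LD3_c12) Lrfl Lrfl
theorem f193482 : Led Lsl_bt (LP (LK LD1_c3 LD2_c57 LD3_c33)) = (LP (LK LD1_c7 LD2_c56 LD3_c32)) :=
  Lre_b IH (LK LD1_c3 LD2_c57 LD3_c33) (LK LD1_c7 LD2_c56 LD3_c32) Lrfl Lrfl
theorem f175986 : Led Lsl_bt (LP (LK LD1_c3 LD2_c58 LD3_c52)) = (LP (LK LD1_c1 LD2_c56 LD3_c11)) :=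
  Lre_b IH (LK LD1_c3 LD2_c58 LD3_c52) (LK LD1_c1 LD2_c56 LD3_c11) Lrfl Lrfl
theorem f193483 : Led Lsl_dt (LP (LK LD1_c7 LD2_c56 LD3_c32)) = (LP (LK LD1_c3 LD2_c58 LD3_c52)) :=
  Lgr Lrot79 (Lpe (f193482 IH) (Lpr_df (K11.f193480 IH) (Lpe (f175986 IH) (Lpn (LP (LK LD1_c3 LD2_c58 LD3_c52))))))
theorem f411658 : Led Lsl_gt (LP (LK LD1_c9 LD2_c2 LD3_c35)) = (LP (LK LD1_c7 LD2_c56 LD3_c32)) :=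
  Lgr Lrot49 (Lpe (f281787 IH) (Lpe (f281785 IH) (Lpe (f269084 IH) (Lpr_gt (f411656 IH) (Lpr_dt (f174583 IH) (Lpe (f174578 IH) (Lpe (K18.f175973 IH) (Lpe (f175984 IH) (Lpe (f193483 IH) (Lpn (LP (LK LD1_c7 LD2_c56 LD3_c32))))))))))))
theorem f281792 : Led Lsl_dt (LP (LK LD1_c9 LD2_c2 LD3_c35)) = (LP (LK LD1_c4 LD2_c32 LD3_c32)) :=
  Lre_d IH (LK LD1_c9 LD2_c2 LD3_c35) (LK LD1_c4 LD2_c32 LD3_c32) Lrfl Lrfl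
theorem f174542 : Led Lsl_gt (LP (LK LD1_c1 LD2_c3 LD3_c42)) = (LP (LK LD1_c2 LD2_c13 LD3_c15)) :=
  Lre_g IH (LK LD1_c1 LD2_c3 LD3_c42) (LK LD1_c2 LD2_c13 LD3_c15) Lrfl Lrfl
theorem f174543 : Led Lsl_ct (LP (LK LD1_c2 LD2_c13 LD3_c15)) = (LP (LK LD1_c4 LD2_c32 LD3_c22)) :=
  Lre_c IH (LK LD1_c2 LD2_c13 LD3_c15) (LK LD1_c4 LD2_c32 LD3_c22) Lrfl Lrfl
theorem f181306 : Led Lsl_dt (LP (LK LD1_c4 LD2_c32 LD3_c22)) = (LP (LK LD1_c9 LD2_c2 LD3_c23)) :=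
  Lre_d IH (LK LD1_c4 LD2_c32 LD3_c22) (LK LD1_c9 LD2_c2 LD3_c23) Lrfl Lrfl
theorem f181305 : Led Lsl_ct (LP (LK LD1_c16 LD2_c52 LD3_c38)) = (LP (LK LD1_c9 LD2_c2 LD3_c23)) :=
  Lre_c IH (LK LD1_c16 LD2_c52 LD3_c38) (LK LD1_c9 LD2_c2 LD3_c23) Lrfl Lrfl
theorem f39896 : Led Lsl_ct (LP (LK LD1_c7 LD2_c56 LD3_c32)) = (LP (LK LD1_c14 LD2_c59 LD3_c3)) :=
  Lre_c IH (LK LD1_c7 LD2_c56 LD3_c32) (LK LD1_c14 LD2_c59 LD3_c3) Lrfl Lrfl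
theorem f411668 : Led Lsl_gf (LP (LK LD1_c16 LD2_c52 LD3_c38)) = (LP (LK LD1_c14 LD2_c59 LD3_c3)) :=
  Lgr Lrot104 (Lpr_ct (f181305 IH) (Lpe (f181306 IH) (Lpe (f174543 IH) (Lpe (f174542 IH) (Lpe (K16.f174523 IH) (Lpe (f181300 IH) (Lpe (f281792 IH) (Lpr_gt (f411658 IH) (Lpr_ct (f39896 IH) (Lpn (LP (LK LD1_c14 LD2_c59 LD3_c3))))))))))))
theorem f174584 : Led Lsl_dt (LP (LK LD1_c4 LD2_c33 LD3_c33)) = (LP (LK LD1_c9 LD2_c4 LD3_c43)) :=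
  Lre_d IH (LK LD1_c4 LD2_c33 LD3_c33) (LK LD1_c9 LD2_c4 LD3_c43) Lrfl Lrfl
theorem f193613 : Led Lsl_ct (LP (LK LD1_c9 LD2_c4 LD3_c43)) = (LP (LK LD1_c16 LD2_c56 LD3_c25)) :=
  Lre_c IH (LK LD1_c9 LD2_c4 LD3_c43) (LK LD1_c16 LD2_c56 LD3_c25) Lrfl Lrfl
theorem f172552 : Led Lsl_dt (LP (LK LD1_c2 LD2_c48 LD3_c26)) = (LP (LK LD1_c1 LD2_c20 LD3_c24)) :=
  Lre_d IH (LK LD1_c2 LD2_c48 LD3_c26) (LK LD1_c1 LD2_c20 LD3_c24) Lrfl Lrfl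
theorem f172553 : Led Lsl_et (LP (LK LD1_c2 LD2_c26 LD3_c12)) = (LP (LK LD1_c2 LD2_c48 LD3_c26)) :=
  Lgr Lrot71 (Lpe (K10.f172550 IH) (Lpe (K12.f172549 IH) (Lpr_df (K9.f172427 IH) (Lpe (K13.f172551 IH) (Lpe (f172552 IH) (Lpn (LP (LK LD1_c2 LD2_c48 LD3_c26))))))))
theorem f172578 : Led Lsl_ef (LP (LK LD1_c2 LD2_c26 LD3_c12)) = (LP (LK LD1_c2 LD2_c48 LD3_c26)) :=
  Lgr Lrot88 (Lpr_et (f172553 IH) (Lpn (LP (LK LD1_c2 LD2_c48 LD3_c26))))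
theorem f172581 : Led Lsl_bt (LP (LK LD1_c2 LD2_c26 LD3_c12)) = (LP (LK LD1_c4 LD2_c56 LD3_c44)) :=
  Lre_b IH (LK LD1_c2 LD2_c26 LD3_c12) (LK LD1_c4 LD2_c56 LD3_c44) Lrfl Lrfl
theorem f172582 : Led Lsl_bt (LP (LK LD1_c5 LD2_c45 LD3_c15)) = (LP (LK LD1_c2 LD2_c48 LD3_c26)) :=
  Lre_b IH (LK LD1_c5 LD2_c45 LD3_c15) (LK LD1_c2 LD2_c48 LD3_c26) Lrfl Lrfl
theorem f172583 : Led Lsl_et (LP (LK LD1_c4 LD2_c56 LD3_c44)) = (LP (LK LD1_c5 LD2_c45 LD3_c15)) :=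
  Lgr Lrot74 (Lpe (f172581 IH) (Lpr_ef (f172578 IH) (Lpe (f172582 IH) (Lpn (LP (LK LD1_c5 LD2_c45 LD3_c15))))))
theorem f172594 : Led Lsl_dt (LP (LK LD1_c2 LD2_c26 LD3_c11)) = (LP (LK LD1_c4 LD2_c56 LD3_c44)) :=
  Lre_d IH (LK LD1_c2 LD2_c26 LD3_c11) (LK LD1_c4 LD2_c56 LD3_c44) Lrfl Lrfl
theorem f172595 : Led Lsl_et (LP (LK LD1_c1 LD2_c10 LD3_c18)) = (LP (LK LD1_c2 LD2_c26 LD3_c11)) :=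
  Lre_e IH (LK LD1_c1 LD2_c10 LD3_c18) (LK LD1_c2 LD2_c26 LD3_c11) Lrfl Lrfl
theorem f172596 : Led Lsl_dt (LP (LK LD1_c5 LD2_c45 LD3_c15)) = (LP (LK LD1_c2 LD2_c48 LD3_c23)) :=
  Lre_d IH (LK LD1_c5 LD2_c45 LD3_c15) (LK LD1_c2 LD2_c48 LD3_c23) Lrfl Lrfl
theorem f172597 : Led Lsl_et (LP (LK LD1_c2 LD2_c48 LD3_c23)) = (LP (LK LD1_c1 LD2_c20 LD3_c23)) :=
  Lre_e IH (LK LD1_c2 LD2_c48 LD3_c23) (LK LD1_c1 LD2_c20 LD3_c23) Lrfl Lrfl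
theorem f172598 : Led Lsl_df (LP (LK LD1_c1 LD2_c10 LD3_c18)) = (LP (LK LD1_c1 LD2_c20 LD3_c23)) :=
  Lgr Lrot70 (Lpr_et (f172595 IH) (Lpr_dt (f172594 IH) (Lpr_et (f172583 IH) (Lpr_dt (f172596 IH) (Lpr_et (f172597 IH) (Lpn (LP (LK LD1_c1 LD2_c20 LD3_c23))))))))
theorem f172602 : Led Lsl_at (LP (LK LD1_c1 LD2_c10 LD3_c18)) = (LP (LK LD1_c2 LD2_c26 LD3_c10)) :=
  Lre_a IH (LK LD1_c1 LD2_c10 LD3_c18) (LK LD1_c2 LD2_c26 LD3_c10) Lrfl Lrfl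
theorem f172603 : Led Lsl_at (LP (LK LD1_c2 LD2_c48 LD3_c21)) = (LP (LK LD1_c1 LD2_c20 LD3_c23)) :=
  Lre_a IH (LK LD1_c2 LD2_c48 LD3_c21) (LK LD1_c1 LD2_c20 LD3_c23) Lrfl Lrfl
theorem f172604 : Led Lsl_dt (LP (LK LD1_c2 LD2_c26 LD3_c10)) = (LP (LK LD1_c2 LD2_c48 LD3_c21)) :=
  Lgr Lrot44 (Lpe (f172602 IH) (Lpr_df (f172598 IH) (Lpe (f172603 IH) (Lpn (LP (LK LD1_c2 LD2_c48 LD3_c21))))))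
theorem f172633 : Led Lsl_ct (LP (LK LD1_c4 LD2_c56 LD3_c35)) = (LP (LK LD1_c2 LD2_c26 LD3_c10)) :=
  Lre_c IH (LK LD1_c4 LD2_c56 LD3_c35) (LK LD1_c2 LD2_c26 LD3_c10) Lrfl Lrfl
theorem f100995 : Led Lsl_dt (LP (LK LD1_c4 LD2_c23 LD3_c35)) = (LP (LK LD1_c8 LD2_c44 LD3_c57)) :=
  Lre_d IH (LK LD1_c4 LD2_c23 LD3_c35) (LK LD1_c8 LD2_c44 LD3_c57) Lrfl Lrfl
theorem f210333 : Led Lsl_et (LP (LK LD1_c8 LD2_c44 LD3_c57)) = (LP (LK LD1_c4 LD2_c56 LD3_c37)) :=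
  Lgr Lrot71 (Lpe (f100995 IH) (Lpe (K15.f210331 IH) (Lpr_df (K12.f210326 IH) (Lpe (K11.f210332 IH) (Lpe (K11.f182393 IH) (Lpn (LP (LK LD1_c4 LD2_c56 LD3_c37))))))))
theorem f210384 : Led Lsl_ef (LP (LK LD1_c8 LD2_c44 LD3_c57)) = (LP (LK LD1_c4 LD2_c56 LD3_c37)) :=
  Lgr Lrot88 (Lpr_et (f210333 IH) (Lpn (LP (LK LD1_c4 LD2_c56 LD3_c37))))
theorem f210392 : Led Lsl_bt (LP (LK LD1_c8 LD2_c44 LD3_c57)) = (LP (LK LD1_c16 LD2_c22 LD3_c29)) :=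
  Lre_b IH (LK LD1_c8 LD2_c44 LD3_c57) (LK LD1_c16 LD2_c22 LD3_c29) Lrfl Lrfl
theorem f210393 : Led Lsl_bt (LP (LK LD1_c9 LD2_c44 LD3_c37)) = (LP (LK LD1_c4 LD2_c56 LD3_c37)) :=
  Lre_b IH (LK LD1_c9 LD2_c44 LD3_c37) (LK LD1_c4 LD2_c56 LD3_c37) Lrfl Lrfl
theorem f210394 : Led Lsl_et (LP (LK LD1_c16 LD2_c22 LD3_c29)) = (LP (LK LD1_c9 LD2_c44 LD3_c37)) :=
  Lgr Lrot74 (Lpe (f210392 IH) (Lpr_ef (f210384 IH) (Lpe (f210393 IH) (Lpn (LP (LK LD1_c9 LD2_c44 LD3_c37))))))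
theorem f210414 : Led Lsl_dt (LP (LK LD1_c8 LD2_c44 LD3_c54)) = (LP (LK LD1_c16 LD2_c22 LD3_c29)) :=
  Lre_d IH (LK LD1_c8 LD2_c44 LD3_c54) (LK LD1_c16 LD2_c22 LD3_c29) Lrfl Lrfl
theorem f210415 : Led Lsl_et (LP (LK LD1_c4 LD2_c23 LD3_c34)) = (LP (LK LD1_c8 LD2_c44 LD3_c54)) :=
  Lre_e IH (LK LD1_c4 LD2_c23 LD3_c34) (LK LD1_c8 LD2_c44 LD3_c54) Lrfl Lrfl
theorem f179913 : Led Lsl_dt (LP (LK LD1_c9 LD2_c44 LD3_c37)) = (LP (LK LD1_c4 LD2_c56 LD3_c36)) :=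
  Lre_d IH (LK LD1_c9 LD2_c44 LD3_c37) (LK LD1_c4 LD2_c56 LD3_c36) Lrfl Lrfl
theorem f210416 : Led Lsl_et (LP (LK LD1_c4 LD2_c56 LD3_c36)) = (LP (LK LD1_c2 LD2_c26 LD3_c4)) :=
  Lre_e IH (LK LD1_c4 LD2_c56 LD3_c36) (LK LD1_c2 LD2_c26 LD3_c4) Lrfl Lrfl
theorem f210417 : Led Lsl_df (LP (LK LD1_c4 LD2_c23 LD3_c34)) = (LP (LK LD1_c2 LD2_c26 LD3_c4)) :=
  Lgr Lrot70 (Lpr_et (f210415 IH) (Lpr_dt (f210414 IH) (Lpr_et (f210394 IH) (Lpr_dt (f179913 IH) (Lpr_et (f210416 IH) (Lpn (LP (LK LD1_c2 LD2_c26 LD3_c4))))))))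
theorem f210425 : Led Lsl_at (LP (LK LD1_c4 LD2_c23 LD3_c34)) = (LP (LK LD1_c8 LD2_c44 LD3_c52)) :=
  Lre_a IH (LK LD1_c4 LD2_c23 LD3_c34) (LK LD1_c8 LD2_c44 LD3_c52) Lrfl Lrfl
theorem f172612 : Led Lsl_at (LP (LK LD1_c4 LD2_c56 LD3_c35)) = (LP (LK LD1_c2 LD2_c26 LD3_c4)) :=
  Lre_a IH (LK LD1_c4 LD2_c56 LD3_c35) (LK LD1_c2 LD2_c26 LD3_c4) Lrfl Lrfl
theorem f210426 : Led Lsl_dt (LP (LK LD1_c8 LD2_c44 LD3_c52)) = (LP (LK LD1_c4 LD2_c56 LD3_c35)) :=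
  Lgr Lrot44 (Lpe (f210425 IH) (Lpr_df (f210417 IH) (Lpe (f172612 IH) (Lpn (LP (LK LD1_c4 LD2_c56 LD3_c35))))))
theorem f210432 : Led Lsl_ct (LP (LK LD1_c16 LD2_c22 LD3_c24)) = (LP (LK LD1_c8 LD2_c44 LD3_c52)) :=
  Lre_c IH (LK LD1_c16 LD2_c22 LD3_c24) (LK LD1_c8 LD2_c44 LD3_c52) Lrfl Lrfl
theorem f385237 : Led Lsl_dt (LP (LK LD1_c16 LD2_c56 LD3_c25)) = (LP (LK LD1_c16 LD2_c22 LD3_c24)) :=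
  Lgr Lrot32 (Lpe (f193613 IH) (Lpe (f174584 IH) (Lpr_ft (f385214 IH) (Lpr_at (f172643 IH) (Lpe (f172634 IH) (Lpe (f172604 IH) (Lpe (f172633 IH) (Lpe (f210426 IH) (Lpe (f210432 IH) (Lpn (LP (LK LD1_c16 LD2_c22 LD3_c24))))))))))))
theorem f173375 : Led Lsl_dt (LP (LK LD1_c1 LD2_c56 LD3_c12)) = (LP (LK LD1_c2 LD2_c13 LD3_c41)) :=
  Lgr Lrot79 (Lpe (K18.f40795 IH) (Lpr_df (K9.f173365 IH) (Lpe (f173374 IH) (Lpn (LP (LK LD1_c2 LD2_c13 LD3_c41))))))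
theorem f385250 : Led Lsl_ft (LP (LK LD1_c1 LD2_c56 LD3_c12)) = (LP (LK LD1_c1 LD2_c10 LD3_c18)) :=
  Lgr Lrot142 (Lpr_dt (f173375 IH) (Lpr_ct (f173394 IH) (Lpr_dt (f174584 IH) (Lpr_ct (f193613 IH) (Lpr_dt (f385237 IH) (Lpr_ct (f210432 IH) (Lpr_dt (f210426 IH) (Lpr_ct (f172633 IH) (Lpe (f172602 IH) (Lpn (LP (LK LD1_c1 LD2_c10 LD3_c18))))))))))))
theorem f385258 : Led Lsl_ff (LP (LK LD1_c1 LD2_c56 LD3_c12)) = (LP (LK LD1_c1 LD2_c10 LD3_c18)) :=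
  Lgr Lrot3 (Lpr_ft (f385250 IH) (Lpn (LP (LK LD1_c1 LD2_c10 LD3_c18))))
theorem f175941 : Led Lsl_bt (LP (LK LD1_c0 LD2_c39 LD3_c38)) = (LP (LK LD1_c1 LD2_c25 LD3_c45)) :=
  Lre_b IH (LK LD1_c0 LD2_c39 LD3_c38) (LK LD1_c1 LD2_c25 LD3_c45) Lrfl Lrfl
theorem f182427 : Led Lsl_bt (LP (LK LD1_c2 LD2_c0 LD3_c10)) = (LP (LK LD1_c0 LD2_c57 LD3_c4)) :=
  Lre_b IH (LK LD1_c2 LD2_c0 LD3_c10) (LK LD1_c0 LD2_c57 LD3_c4) Lrfl Lrfl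
theorem f296980 : Led Lsl_ft (LP (LK LD1_c1 LD2_c25 LD3_c45)) = (LP (LK LD1_c2 LD2_c0 LD3_c10)) :=
  Lgr Lrot75 (Lpe (f175941 IH) (Lpr_ff (K18.f296978 IH) (Lpe (f182427 IH) (Lpn (LP (LK LD1_c2 LD2_c0 LD3_c10))))))
theorem f182436 : Led Lsl_et (LP (LK LD1_c2 LD2_c0 LD3_c10)) = (LP (LK LD1_c4 LD2_c5 LD3_c45)) :=
  Lre_e IH (LK LD1_c2 LD2_c0 LD3_c10) (LK LD1_c4 LD2_c5 LD3_c45) Lrfl Lrfl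
theorem f172666 : Led Lsl_et (LP (LK LD1_c2 LD2_c26 LD3_c11)) = (LP (LK LD1_c1 LD2_c10 LD3_c18)) :=
  Lre_e IH (LK LD1_c2 LD2_c26 LD3_c11) (LK LD1_c1 LD2_c10 LD3_c18) Lrfl Lrfl
theorem f385268 : Led Lsl_ft (LP (LK LD1_c4 LD2_c5 LD3_c45)) = (LP (LK LD1_c2 LD2_c26 LD3_c11)) :=
  Lgr Lrot86 (Lpe (f182436 IH) (Lpe (f296980 IH) (Lpr_ef (K18.f175952 IH) (Lpr_ff (f385258 IH) (Lpe (f172666 IH) (Lpn (LP (LK LD1_c2 LD2_c26 LD3_c11))))))))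
theorem f198521 : Led Lsl_bt (LP (LK LD1_c2 LD2_c52 LD3_c57)) = (LP (LK LD1_c5 LD2_c53 LD3_c13)) :=
  Lre_b IH (LK LD1_c2 LD2_c52 LD3_c57) (LK LD1_c5 LD2_c53 LD3_c13) Lrfl Lrfl
theorem f182446 : Led Lsl_bt (LP (LK LD1_c4 LD2_c5 LD3_c45)) = (LP (LK LD1_c2 LD2_c0 LD3_c12)) :=
  Lre_b IH (LK LD1_c4 LD2_c5 LD3_c45) (LK LD1_c2 LD2_c0 LD3_c12) Lrfl Lrfl
theorem f198522 : Led Lsl_dt (LP (LK LD1_c5 LD2_c53 LD3_c13)) = (LP (LK LD1_c4 LD2_c5 LD3_c45)) :=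
  Lgr Lrot79 (Lpe (f198521 IH) (Lpr_df (K16.f198511 IH) (Lpe (f182446 IH) (Lpn (LP (LK LD1_c4 LD2_c5 LD3_c45))))))
theorem f385275 : Led Lsl_ff (LP (LK LD1_c5 LD2_c53 LD3_c13)) = (LP (LK LD1_c4 LD2_c56 LD3_c44)) :=
  Lgr Lrot19 (Lpr_dt (f198522 IH) (Lpr_ft (f385268 IH) (Lpr_dt (f172594 IH) (Lpn (LP (LK LD1_c4 LD2_c56 LD3_c44))))))
theorem f385282 : Led Lsl_ft (LP (LK LD1_c5 LD2_c53 LD3_c13)) = (LP (LK LD1_c4 LD2_c56 LD3_c44)) :=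
  Lgr Lrot48 (Lpr_ff (f385275 IH) (Lpn (LP (LK LD1_c4 LD2_c56 LD3_c44))))
theorem f172574 : Led Lsl_bt (LP (LK LD1_c4 LD2_c56 LD3_c44)) = (LP (LK LD1_c2 LD2_c26 LD3_c12)) :=
  Lre_b IH (LK LD1_c4 LD2_c56 LD3_c44) (LK LD1_c2 LD2_c26 LD3_c12) Lrfl Lrfl
theorem f385285 : Led Lsl_ff (LP (LK LD1_c2 LD2_c52 LD3_c57)) = (LP (LK LD1_c2 LD2_c26 LD3_c12)) :=
  Lgr Lrot25 (Lpr_bt (f198521 IH) (Lpr_ft (f385282 IH) (Lpr_bt (f172574 IH) (Lpn (LP (LK LD1_c2 LD2_c26 LD3_c12))))))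
theorem f26628 : Led Lsl_dt (LP (LK LD1_c2 LD2_c14 LD3_c46)) = (LP (LK LD1_c1 LD2_c4 LD3_c30)) :=
  Lre_d IH (LK LD1_c2 LD2_c14 LD3_c46) (LK LD1_c1 LD2_c4 LD3_c30) Lrfl Lrfl
theorem f185978 : Led Lsl_gf (LP (LK LD1_c2 LD2_c14 LD3_c46)) = (LP (LK LD1_c2 LD2_c26 LD3_c12)) :=
  Lgr Lrot143 (Lpr_dt (f26628 IH) (Lpe (K12.f20325 IH) (Lpe (K9.f26629 IH) (Lpe (K9.f164302 IH) (Lpe (K9.f24247 IH) (Lpe (K9.f8412 IH) (Lpe (K11.f24248 IH) (Lpr_gt (K12.f185976 IH) (Lpr_dt (K10.f172550 IH) (Lpn (LP (LK LD1_c2 LD2_c26 LD3_c12))))))))))))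
theorem f385302 : Led Lsl_at (LP (LK LD1_c2 LD2_c52 LD3_c57)) = (LP (LK LD1_c3 LD2_c0 LD3_c4)) :=
  Lgr Lrot26 (Lpr_ff (f385285 IH) (Lpe (f185978 IH) (Lpe (K11.f193810 IH) (Lpn (LP (LK LD1_c3 LD2_c0 LD3_c4))))))
theorem f385304 : Led Lsl_af (LP (LK LD1_c2 LD2_c52 LD3_c57)) = (LP (LK LD1_c3 LD2_c0 LD3_c4)) :=
  Lgr Lrot0 (Lpr_at (f385302 IH) (Lpn (LP (LK LD1_c3 LD2_c0 LD3_c4))))
theorem f385325 : Led Lsl_ft (LP (LK LD1_c2 LD2_c52 LD3_c58)) = (LP (LK LD1_c3 LD2_c0 LD3_c4)) :=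
  Lgr Lrot2 (Lpr_gt (K10.f24260 IH) (Lpr_gt (K16.f198505 IH) (Lpr_af (f385304 IH) (Lpn (LP (LK LD1_c3 LD2_c0 LD3_c4))))))
theorem f385329 : Led Lsl_ff (LP (LK LD1_c1 LD2_c56 LD3_c10)) = (LP (LK LD1_c1 LD2_c25 LD3_c49)) :=
  Lgr Lrot19 (Lpr_dt (K10.f178995 IH) (Lpr_ft (f385325 IH) (Lpr_dt (K11.f178999 IH) (Lpn (LP (LK LD1_c1 LD2_c25 LD3_c49))))))
theorem f385342 : Led Lsl_ft (LP (LK LD1_c0 LD2_c57 LD3_c3)) = (LP (LK LD1_c0 LD2_c39 LD3_c39)) :=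
  Lgr Lrot86 (Lpr_ef (K9.f56537 IH) (Lpe (K18.f297031 IH) (Lpe (K10.f174619 IH) (Lpr_ff (f385329 IH) (Lpe (K11.f177795 IH) (Lpn (LP (LK LD1_c0 LD2_c39 LD3_c39))))))))
theorem f56553 : Led Lsl_bt (LP (LK LD1_c2 LD2_c0 LD3_c8)) = (LP (LK LD1_c0 LD2_c57 LD3_c3)) :=
  Lre_b IH (LK LD1_c2 LD2_c0 LD3_c8) (LK LD1_c0 LD2_c57 LD3_c3) Lrfl Lrfl
theorem f177792 : Led Lsl_bt (LP (LK LD1_c0 LD2_c39 LD3_c39)) = (LP (LK LD1_c1 LD2_c25 LD3_c47)) :=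
  Lre_b IH (LK LD1_c0 LD2_c39 LD3_c39) (LK LD1_c1 LD2_c25 LD3_c47) Lrfl Lrfl
theorem f385346 : Led Lsl_ff (LP (LK LD1_c2 LD2_c0 LD3_c8)) = (LP (LK LD1_c1 LD2_c25 LD3_c47)) :=
  Lgr Lrot25 (Lpr_bt (f56553 IH) (Lpr_ft (f385342 IH) (Lpr_bt (f177792 IH) (Lpn (LP (LK LD1_c1 LD2_c25 LD3_c47))))))
theorem f385353 : Led Lsl_ft (LP (LK LD1_c2 LD2_c0 LD3_c8)) = (LP (LK LD1_c1 LD2_c25 LD3_c47)) :=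
  Lgr Lrot48 (Lpr_ff (f385346 IH) (Lpn (LP (LK LD1_c1 LD2_c25 LD3_c47))))
theorem f56548 : Led Lsl_ef (LP (LK LD1_c2 LD2_c0 LD3_c8)) = (LP (LK LD1_c1 LD2_c10 LD3_c25)) :=
  Lgr Lrot88 (Lpr_et (K18.f56542 IH) (Lpn (LP (LK LD1_c1 LD2_c10 LD3_c25))))
theorem f297025 : Led Lsl_ft (LP (LK LD1_c1 LD2_c56 LD3_c9)) = (LP (LK LD1_c1 LD2_c10 LD3_c25)) :=
  Lgr Lrot75 (Lpe (K18.f165161 IH) (Lpr_ff (K18.f297023 IH) (Lpe (K18.f56541 IH) (Lpn (LP (LK LD1_c1 LD2_c10 LD3_c25))))))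
theorem f173305 : Led Lsl_et (LP (LK LD1_c3 LD2_c58 LD3_c51)) = (LP (LK LD1_c1 LD2_c56 LD3_c9)) :=
  Lre_e IH (LK LD1_c3 LD2_c58 LD3_c51) (LK LD1_c1 LD2_c56 LD3_c9) Lrfl Lrfl
theorem f385361 : Led Lsl_et (LP (LK LD1_c1 LD2_c25 LD3_c47)) = (LP (LK LD1_c3 LD2_c0 LD3_c2)) :=
  Lre_e IH (LK LD1_c1 LD2_c25 LD3_c47) (LK LD1_c3 LD2_c0 LD3_c2) Lrfl Lrfl
theorem f385362 : Led Lsl_ff (LP (LK LD1_c3 LD2_c58 LD3_c51)) = (LP (LK LD1_c3 LD2_c0 LD3_c2)) :=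
  Lgr Lrot72 (Lpr_et (f173305 IH) (Lpr_ft (f297025 IH) (Lpe (f56548 IH) (Lpr_ft (f385353 IH) (Lpr_et (f385361 IH) (Lpn (LP (LK LD1_c3 LD2_c0 LD3_c2))))))))
theorem f173293 : Led Lsl_bt (LP (LK LD1_c3 LD2_c58 LD3_c51)) = (LP (LK LD1_c1 LD2_c56 LD3_c10)) :=
  Lre_b IH (LK LD1_c3 LD2_c58 LD3_c51) (LK LD1_c1 LD2_c56 LD3_c10) Lrfl Lrfl
theorem f173295 : Led Lsl_bt (LP (LK LD1_c2 LD2_c8 LD3_c44)) = (LP (LK LD1_c4 LD2_c22 LD3_c33)) :=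
  Lre_b IH (LK LD1_c2 LD2_c8 LD3_c44) (LK LD1_c4 LD2_c22 LD3_c33) Lrfl Lrfl
theorem f173296 : Led Lsl_cf (LP (LK LD1_c3 LD2_c58 LD3_c51)) = (LP (LK LD1_c4 LD2_c22 LD3_c33)) :=
  Lgr Lrot97 (Lpr_bt (f173293 IH) (Lpr_ct (K10.f56045 IH) (Lpr_bt (K11.f173276 IH) (Lpr_ct (K12.f173294 IH) (Lpr_bt (f173295 IH) (Lpn (LP (LK LD1_c4 LD2_c22 LD3_c33))))))))
theorem f173300 : Led Lsl_ct (LP (LK LD1_c3 LD2_c58 LD3_c51)) = (LP (LK LD1_c4 LD2_c22 LD3_c33)) :=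
  Lgr Lrot59 (Lpr_cf (f173296 IH) (Lpn (LP (LK LD1_c4 LD2_c22 LD3_c33))))
theorem f193399 : Led Lsl_ct (LP (LK LD1_c6 LD2_c7 LD3_c42)) = (LP (LK LD1_c3 LD2_c0 LD3_c2)) :=
  Lre_c IH (LK LD1_c6 LD2_c7 LD3_c42) (LK LD1_c3 LD2_c0 LD3_c2) Lrfl Lrfl
theorem f385364 : Led Lsl_ft (LP (LK LD1_c4 LD2_c22 LD3_c33)) = (LP (LK LD1_c6 LD2_c7 LD3_c42)) :=
  Lgr Lrot4 (Lpe (f173300 IH) (Lpr_ff (f385362 IH) (Lpe (f193399 IH) (Lpn (LP (LK LD1_c6 LD2_c7 LD3_c42))))))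
theorem f173306 : Led Lsl_et (LP (LK LD1_c2 LD2_c8 LD3_c42)) = (LP (LK LD1_c4 LD2_c22 LD3_c33)) :=
  Lre_e IH (LK LD1_c2 LD2_c8 LD3_c42) (LK LD1_c4 LD2_c22 LD3_c33) Lrfl Lrfl
theorem f385367 : Led Lsl_et (LP (LK LD1_c6 LD2_c7 LD3_c42)) = (LP (LK LD1_c3 LD2_c0 LD3_c0)) :=
  Lre_e IH (LK LD1_c6 LD2_c7 LD3_c42) (LK LD1_c3 LD2_c0 LD3_c0) Lrfl Lrfl
theorem f197241 : Led Lsl_bt (LP (LK LD1_c4 LD2_c1 LD3_c28)) = (LP (LK LD1_c1 LD2_c57 LD3_c42)) :=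
  Lre_b IH (LK LD1_c4 LD2_c1 LD3_c28) (LK LD1_c1 LD2_c57 LD3_c42) Lrfl Lrfl
theorem f174989 : Led Lsl_bt (LP (LK LD1_c1 LD2_c10 LD3_c24)) = (LP (LK LD1_c2 LD2_c26 LD3_c17)) :=
  Lre_b IH (LK LD1_c1 LD2_c10 LD3_c24) (LK LD1_c2 LD2_c26 LD3_c17) Lrfl Lrfl
theorem f197270 : Led Lsl_ef (LP (LK LD1_c4 LD2_c1 LD3_c28)) = (LP (LK LD1_c2 LD2_c26 LD3_c17)) :=
  Lgr Lrot29 (Lpr_bt (f197241 IH) (Lpr_et (K13.f197255 IH) (Lpr_bt (f174989 IH) (Lpn (LP (LK LD1_c2 LD2_c26 LD3_c17))))))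
theorem f56546 : Led Lsl_ct (LP (LK LD1_c1 LD2_c10 LD3_c25)) = (LP (LK LD1_c2 LD2_c26 LD3_c17)) :=
  Lre_c IH (LK LD1_c1 LD2_c10 LD3_c25) (LK LD1_c2 LD2_c26 LD3_c17) Lrfl Lrfl
theorem f197344 : Led Lsl_ct (LP (LK LD1_c4 LD2_c1 LD3_c28)) = (LP (LK LD1_c2 LD2_c0 LD3_c8)) :=
  Lgr Lrot15 (Lpr_ef (f197270 IH) (Lpe (f56546 IH) (Lpe (K18.f56542 IH) (Lpn (LP (LK LD1_c2 LD2_c0 LD3_c8))))))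
theorem f55994 : Led Lsl_ct (LP (LK LD1_c1 LD2_c25 LD3_c47)) = (LP (LK LD1_c3 LD2_c0 LD3_c0)) :=
  Lre_c IH (LK LD1_c1 LD2_c25 LD3_c47) (LK LD1_c3 LD2_c0 LD3_c0) Lrfl Lrfl
theorem f385357 : Led Lsl_ff (LP (LK LD1_c4 LD2_c1 LD3_c28)) = (LP (LK LD1_c3 LD2_c0 LD3_c0)) :=
  Lgr Lrot23 (Lpr_ct (f197344 IH) (Lpr_ft (f385353 IH) (Lpr_ct (f55994 IH) (Lpn (LP (LK LD1_c3 LD2_c0 LD3_c0))))))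
theorem f197249 : Led Lsl_bt (LP (LK LD1_c1 LD2_c57 LD3_c42)) = (LP (LK LD1_c4 LD2_c1 LD3_c28)) :=
  Lre_b IH (LK LD1_c1 LD2_c57 LD3_c42) (LK LD1_c4 LD2_c1 LD3_c28) Lrfl Lrfl
theorem f168310 : Led Lsl_bt (LP (LK LD1_c2 LD2_c26 LD3_c17)) = (LP (LK LD1_c1 LD2_c10 LD3_c24)) :=
  Lre_b IH (LK LD1_c2 LD2_c26 LD3_c17) (LK LD1_c1 LD2_c10 LD3_c24) Lrfl Lrfl
theorem f197250 : Led Lsl_et (LP (LK LD1_c4 LD2_c1 LD3_c28)) = (LP (LK LD1_c2 LD2_c26 LD3_c17)) :=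
  Lgr Lrot74 (Lpe (f197249 IH) (Lpr_ef (K12.f197246 IH) (Lpe (f168310 IH) (Lpn (LP (LK LD1_c2 LD2_c26 LD3_c17))))))
theorem f385368 : Led Lsl_ff (LP (LK LD1_c2 LD2_c8 LD3_c42)) = (LP (LK LD1_c2 LD2_c26 LD3_c17)) :=
  Lgr Lrot72 (Lpr_et (f173306 IH) (Lpr_ft (f385364 IH) (Lpr_et (f385367 IH) (Lpe (f385357 IH) (Lpr_et (f197250 IH) (Lpn (LP (LK LD1_c2 LD2_c26 LD3_c17))))))))
theorem f173336 : Led Lsl_at (LP (LK LD1_c2 LD2_c8 LD3_c42)) = (LP (LK LD1_c4 LD2_c22 LD3_c31)) :=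
  Lre_a IH (LK LD1_c2 LD2_c8 LD3_c42) (LK LD1_c4 LD2_c22 LD3_c31) Lrfl Lrfl
theorem f168308 : Led Lsl_at (LP (LK LD1_c4 LD2_c56 LD3_c53)) = (LP (LK LD1_c2 LD2_c26 LD3_c17)) :=
  Lre_a IH (LK LD1_c4 LD2_c56 LD3_c53) (LK LD1_c2 LD2_c26 LD3_c17) Lrfl Lrfl
theorem f385372 : Led Lsl_ft (LP (LK LD1_c4 LD2_c22 LD3_c31)) = (LP (LK LD1_c4 LD2_c56 LD3_c53)) :=
  Lgr Lrot101 (Lpe (f173336 IH) (Lpr_ff (f385368 IH) (Lpe (f168308 IH) (Lpn (LP (LK LD1_c4 LD2_c56 LD3_c53))))))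
theorem f297109 : Led Lsl_dt (LP (LK LD1_c4 LD2_c22 LD3_c31)) = (LP (LK LD1_c8 LD2_c42 LD3_c54)) :=
  Lre_d IH (LK LD1_c4 LD2_c22 LD3_c31) (LK LD1_c8 LD2_c42 LD3_c54) Lrfl Lrfl
theorem f297108 : Led Lsl_ct (LP (LK LD1_c8 LD2_c42 LD3_c54)) = (LP (LK LD1_c16 LD2_c19 LD3_c26)) :=
  Lre_c IH (LK LD1_c8 LD2_c42 LD3_c54) (LK LD1_c16 LD2_c19 LD3_c26) Lrfl Lrfl
theorem f168264 : Led Lsl_ct (LP (LK LD1_c2 LD2_c48 LD3_c29)) = (LP (LK LD1_c1 LD2_c20 LD3_c25)) :=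
  Lre_c IH (LK LD1_c2 LD2_c48 LD3_c29) (LK LD1_c1 LD2_c20 LD3_c25) Lrfl Lrfl
theorem f168265 : Led Lsl_dt (LP (LK LD1_c5 LD2_c45 LD3_c26)) = (LP (LK LD1_c2 LD2_c48 LD3_c29)) :=
  Lre_d IH (LK LD1_c5 LD2_c45 LD3_c26) (LK LD1_c2 LD2_c48 LD3_c29) Lrfl Lrfl
theorem f168307 : Led Lsl_ct (LP (LK LD1_c11 LD2_c21 LD3_c22)) = (LP (LK LD1_c5 LD2_c45 LD3_c26)) :=
  Lre_c IH (LK LD1_c11 LD2_c21 LD3_c22) (LK LD1_c5 LD2_c45 LD3_c26) Lrfl Lrfl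
theorem f385388 : Led Lsl_dt (LP (LK LD1_c16 LD2_c19 LD3_c26)) = (LP (LK LD1_c11 LD2_c21 LD3_c22)) :=
  Lgr Lrot32 (Lpe (f297108 IH) (Lpe (f297109 IH) (Lpr_ft (f385372 IH) (Lpr_at (f168308 IH) (Lpe (f56546 IH) (Lpr_df (K18.f168221 IH) (Lpe (f168264 IH) (Lpe (f168265 IH) (Lpe (f168307 IH) (Lpn (LP (LK LD1_c11 LD2_c21 LD3_c22))))))))))))
theorem f385394 : Led Lsl_df (LP (LK LD1_c16 LD2_c19 LD3_c26)) = (LP (LK LD1_c11 LD2_c21 LD3_c22)) :=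
  Lgr Lrot38 (Lpr_dt (f385388 IH) (Lpn (LP (LK LD1_c11 LD2_c21 LD3_c22))))
theorem f297092 : Led Lsl_at (LP (LK LD1_c8 LD2_c42 LD3_c58)) = (LP (LK LD1_c16 LD2_c19 LD3_c26)) :=
  Lre_a IH (LK LD1_c8 LD2_c42 LD3_c58) (LK LD1_c16 LD2_c19 LD3_c26) Lrfl Lrfl
theorem f168309 : Led Lsl_at (LP (LK LD1_c17 LD2_c54 LD3_c19)) = (LP (LK LD1_c9 LD2_c44 LD3_c59)) :=
  Lre_a IH (LK LD1_c17 LD2_c54 LD3_c19) (LK LD1_c9 LD2_c44 LD3_c59) Lrfl Lrfl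
theorem f297093 : Led Lsl_ft (LP (LK LD1_c16 LD2_c19 LD3_c26)) = (LP (LK LD1_c17 LD2_c54 LD3_c19)) :=
  Lgr Lrot101 (Lpe (f297092 IH) (Lpr_ff (K18.f297082 IH) (Lpe (f168309 IH) (Lpn (LP (LK LD1_c17 LD2_c54 LD3_c19))))))
theorem f174636 : Led Lsl_ct (LP (LK LD1_c4 LD2_c33 LD3_c27)) = (LP (LK LD1_c2 LD2_c13 LD3_c39)) :=
  Lre_c IH (LK LD1_c4 LD2_c33 LD3_c27) (LK LD1_c2 LD2_c13 LD3_c39) Lrfl Lrfl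
theorem f181220 : Led Lsl_dt (LP (LK LD1_c9 LD2_c4 LD3_c29)) = (LP (LK LD1_c4 LD2_c33 LD3_c27)) :=
  Lre_d IH (LK LD1_c9 LD2_c4 LD3_c29) (LK LD1_c4 LD2_c33 LD3_c27) Lrfl Lrfl
theorem f297058 : Led Lsl_ct (LP (LK LD1_c16 LD2_c56 LD3_c9)) = (LP (LK LD1_c9 LD2_c4 LD3_c29)) :=
  Lre_c IH (LK LD1_c16 LD2_c56 LD3_c9) (LK LD1_c9 LD2_c4 LD3_c29) Lrfl Lrfl
theorem f297059 : Led Lsl_df (LP (LK LD1_c16 LD2_c56 LD3_c9)) = (LP (LK LD1_c17 LD2_c54 LD3_c19)) :=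
  Lgr Lrot43 (Lpr_ct (f297058 IH) (Lpr_dt (f181220 IH) (Lpr_ct (f174636 IH) (Lpe (K18.f174615 IH) (Lpr_ct (K18.f173273 IH) (Lpr_dt (K18.f173337 IH) (Lpr_ct (K18.f173338 IH) (Lpr_dt (K18.f173339 IH) (Lpr_ct (K18.f297050 IH) (Lpr_dt (K18.f168275 IH) (Lpr_ct (K18.f168274 IH) (Lpe (K18.f168253 IH) (Lpr_ct (K18.f168271 IH) (Lpr_dt (K18.f168272 IH) (Lpr_ct (K18.f168273 IH) (Lpn (LP (LK LD1_c17 LD2_c54 LD3_c19))))))))))))))))))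
theorem f385405 : Led Lsl_ft (LP (LK LD1_c16 LD2_c56 LD3_c9)) = (LP (LK LD1_c11 LD2_c21 LD3_c22)) :=
  Lgr Lrot54 (Lpr_df (f297059 IH) (Lpe (f297093 IH) (Lpr_df (f385394 IH) (Lpn (LP (LK LD1_c11 LD2_c21 LD3_c22))))))
theorem f297052 : Led Lsl_at (LP (LK LD1_c11 LD2_c21 LD3_c12)) = (LP (LK LD1_c5 LD2_c45 LD3_c26)) :=
  Lre_a IH (LK LD1_c11 LD2_c21 LD3_c12) (LK LD1_c5 LD2_c45 LD3_c26) Lrfl Lrfl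
theorem f168261 : Led Lsl_ct (LP (LK LD1_c5 LD2_c45 LD3_c26)) = (LP (LK LD1_c11 LD2_c21 LD3_c22)) :=
  Lre_c IH (LK LD1_c5 LD2_c45 LD3_c26) (LK LD1_c11 LD2_c21 LD3_c22) Lrfl Lrfl
theorem f297053 : Led Lsl_af (LP (LK LD1_c16 LD2_c19 LD3_c35)) = (LP (LK LD1_c11 LD2_c21 LD3_c22)) :=
  Lgr Lrot68 (Lpr_ct (K18.f297050 IH) (Lpr_at (f297052 IH) (Lpr_ct (f168261 IH) (Lpn (LP (LK LD1_c11 LD2_c21 LD3_c22))))))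
theorem f297056 : Led Lsl_cf (LP (LK LD1_c16 LD2_c19 LD3_c35)) = (LP (LK LD1_c11 LD2_c21 LD3_c12)) :=
  Lgr Lrot11 (Lpr_ct (K18.f297050 IH) (Lpn (LP (LK LD1_c11 LD2_c21 LD3_c12))))
theorem f168289 : Led Lsl_dt (LP (LK LD1_c5 LD2_c45 LD3_c22)) = (LP (LK LD1_c11 LD2_c21 LD3_c12)) :=
  Lre_d IH (LK LD1_c5 LD2_c45 LD3_c22) (LK LD1_c11 LD2_c21 LD3_c12) Lrfl Lrfl
theorem f168288 : Led Lsl_ct (LP (LK LD1_c2 LD2_c48 LD3_c28)) = (LP (LK LD1_c5 LD2_c45 LD3_c22)) :=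
  Lre_c IH (LK LD1_c2 LD2_c48 LD3_c28) (LK LD1_c5 LD2_c45 LD3_c22) Lrfl Lrfl
theorem f168282 : Led Lsl_ct (LP (LK LD1_c4 LD2_c56 LD3_c53)) = (LP (LK LD1_c2 LD2_c26 LD3_c20)) :=
  Lre_c IH (LK LD1_c4 LD2_c56 LD3_c53) (LK LD1_c2 LD2_c26 LD3_c20) Lrfl Lrfl
theorem f168281 : Led Lsl_dt (LP (LK LD1_c9 LD2_c44 LD3_c58)) = (LP (LK LD1_c4 LD2_c56 LD3_c53)) :=
  Lre_d IH (LK LD1_c9 LD2_c44 LD3_c58) (LK LD1_c4 LD2_c56 LD3_c53) Lrfl Lrfl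
theorem f168287 : Led Lsl_ct (LP (LK LD1_c17 LD2_c54 LD3_c19)) = (LP (LK LD1_c9 LD2_c44 LD3_c58)) :=
  Lre_c IH (LK LD1_c17 LD2_c54 LD3_c19) (LK LD1_c9 LD2_c44 LD3_c58) Lrfl Lrfl
theorem f385420 : Led Lsl_dt (LP (LK LD1_c16 LD2_c56 LD3_c9)) = (LP (LK LD1_c17 LD2_c54 LD3_c19)) :=
  Lgr Lrot159 (Lpr_ft (f385405 IH) (Lpe (f297053 IH) (Lpr_cf (f297056 IH) (Lpe (f168289 IH) (Lpe (f168288 IH) (Lpe (K18.f168276 IH) (Lpe (f168282 IH) (Lpe (f168281 IH) (Lpe (f168287 IH) (Lpn (LP (LK LD1_c17 LD2_c54 LD3_c19))))))))))))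
theorem f174879 : Led Lsl_ct (LP (LK LD1_c9 LD2_c4 LD3_c29)) = (LP (LK LD1_c16 LD2_c56 LD3_c9)) :=
  Lre_c IH (LK LD1_c9 LD2_c4 LD3_c29) (LK LD1_c16 LD2_c56 LD3_c9) Lrfl Lrfl
theorem f174859 : Led Lsl_dt (LP (LK LD1_c4 LD2_c33 LD3_c27)) = (LP (LK LD1_c9 LD2_c4 LD3_c29)) :=
  Lre_d IH (LK LD1_c4 LD2_c33 LD3_c27) (LK LD1_c9 LD2_c4 LD3_c29) Lrfl Lrfl
theorem f168290 : Led Lsl_at (LP (LK LD1_c2 LD2_c48 LD3_c29)) = (LP (LK LD1_c5 LD2_c45 LD3_c22)) :=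
  Lre_a IH (LK LD1_c2 LD2_c48 LD3_c29) (LK LD1_c5 LD2_c45 LD3_c22) Lrfl Lrfl
theorem f385426 : Led Lsl_ft (LP (LK LD1_c4 LD2_c33 LD3_c27)) = (LP (LK LD1_c2 LD2_c48 LD3_c29)) :=
  Lgr Lrot142 (Lpr_dt (f174859 IH) (Lpr_ct (f174879 IH) (Lpr_dt (f385420 IH) (Lpr_ct (f168287 IH) (Lpr_dt (f168281 IH) (Lpr_ct (f168282 IH) (Lpr_dt (K18.f168276 IH) (Lpr_ct (f168288 IH) (Lpe (f168290 IH) (Lpn (LP (LK LD1_c2 LD2_c48 LD3_c29))))))))))))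
theorem f385430 : Led Lsl_at (LP (LK LD1_c9 LD2_c4 LD3_c25)) = (LP (LK LD1_c4 LD2_c33 LD3_c27)) :=
  Lre_a IH (LK LD1_c9 LD2_c4 LD3_c25) (LK LD1_c4 LD2_c33 LD3_c27) Lrfl Lrfl
theorem f385431 : Led Lsl_ff (LP (LK LD1_c9 LD2_c4 LD3_c25)) = (LP (LK LD1_c5 LD2_c45 LD3_c22)) :=
  Lgr Lrot30 (Lpr_at (f385430 IH) (Lpr_ft (f385426 IH) (Lpr_at (f168290 IH) (Lpn (LP (LK LD1_c5 LD2_c45 LD3_c22))))))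
theorem f245661 : Led Lsl_ct (LP (LK LD1_c9 LD2_c4 LD3_c25)) = (LP (LK LD1_c4 LD2_c33 LD3_c26)) :=
  Lre_c IH (LK LD1_c9 LD2_c4 LD3_c25) (LK LD1_c4 LD2_c33 LD3_c26) Lrfl Lrfl
theorem f385444 : Led Lsl_ft (LP (LK LD1_c4 LD2_c33 LD3_c26)) = (LP (LK LD1_c2 LD2_c48 LD3_c28)) :=
  Lgr Lrot4 (Lpe (f245661 IH) (Lpr_ff (f385431 IH) (Lpe (f168288 IH) (Lpn (LP (LK LD1_c2 LD2_c48 LD3_c28))))))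
theorem f245570 : Led Lsl_ft (LP (LK LD1_c1 LD2_c20 LD3_c24)) = (LP (LK LD1_c2 LD2_c48 LD3_c27)) :=
  Lre_f IH (LK LD1_c1 LD2_c20 LD3_c24) (LK LD1_c2 LD2_c48 LD3_c27) Lrfl Lrfl
theorem f245594 : Led Lsl_ft (LP (LK LD1_c4 LD2_c33 LD3_c31)) = (LP (LK LD1_c2 LD2_c13 LD3_c40)) :=
  Lre_f IH (LK LD1_c4 LD2_c33 LD3_c31) (LK LD1_c2 LD2_c13 LD3_c40) Lrfl Lrfl
theorem f245595 : Led Lsl_at (LP (LK LD1_c2 LD2_c48 LD3_c27)) = (LP (LK LD1_c4 LD2_c33 LD3_c31)) :=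
  Lgr Lrot66 (Lpe (f245570 IH) (Lpr_af (K13.f245582 IH) (Lpe (f245594 IH) (Lpn (LP (LK LD1_c4 LD2_c33 LD3_c31))))))
theorem f245602 : Led Lsl_bt (LP (LK LD1_c5 LD2_c45 LD3_c16)) = (LP (LK LD1_c2 LD2_c48 LD3_c27)) :=
  Lre_b IH (LK LD1_c5 LD2_c45 LD3_c16) (LK LD1_c2 LD2_c48 LD3_c27) Lrfl Lrfl
theorem f245603 : Led Lsl_at (LP (LK LD1_c11 LD2_c20 LD3_c47)) = (LP (LK LD1_c5 LD2_c45 LD3_c16)) :=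
  Lre_a IH (LK LD1_c11 LD2_c20 LD3_c47) (LK LD1_c5 LD2_c45 LD3_c16) Lrfl Lrfl
theorem f245604 : Led Lsl_bt (LP (LK LD1_c4 LD2_c33 LD3_c31)) = (LP (LK LD1_c9 LD2_c4 LD3_c33)) :=
  Lre_b IH (LK LD1_c4 LD2_c33 LD3_c31) (LK LD1_c9 LD2_c4 LD3_c33) Lrfl Lrfl
theorem f245605 : Led Lsl_at (LP (LK LD1_c9 LD2_c4 LD3_c33)) = (LP (LK LD1_c16 LD2_c56 LD3_c4)) :=
  Lre_a IH (LK LD1_c9 LD2_c4 LD3_c33) (LK LD1_c16 LD2_c56 LD3_c4) Lrfl Lrfl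
theorem f245606 : Led Lsl_bf (LP (LK LD1_c11 LD2_c20 LD3_c47)) = (LP (LK LD1_c16 LD2_c56 LD3_c4)) :=
  Lgr Lrot81 (Lpr_at (f245603 IH) (Lpr_bt (f245602 IH) (Lpr_at (f245595 IH) (Lpr_bt (f245604 IH) (Lpr_at (f245605 IH) (Lpn (LP (LK LD1_c16 LD2_c56 LD3_c4))))))))
theorem f245614 : Led Lsl_bt (LP (LK LD1_c11 LD2_c20 LD3_c47)) = (LP (LK LD1_c16 LD2_c56 LD3_c4)) :=
  Lgr Lrot127 (Lpr_bf (f245606 IH) (Lpn (LP (LK LD1_c16 LD2_c56 LD3_c4))))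
theorem f245627 : Led Lsl_ft (LP (LK LD1_c5 LD2_c45 LD3_c8)) = (LP (LK LD1_c11 LD2_c20 LD3_c47)) :=
  Lre_f IH (LK LD1_c5 LD2_c45 LD3_c8) (LK LD1_c11 LD2_c20 LD3_c47) Lrfl Lrfl
theorem f245628 : Led Lsl_ft (LP (LK LD1_c16 LD2_c56 LD3_c4)) = (LP (LK LD1_c9 LD2_c4 LD3_c26)) :=
  Lre_f IH (LK LD1_c16 LD2_c56 LD3_c4) (LK LD1_c9 LD2_c4 LD3_c26) Lrfl Lrfl
theorem f245629 : Led Lsl_bf (LP (LK LD1_c5 LD2_c45 LD3_c8)) = (LP (LK LD1_c9 LD2_c4 LD3_c26)) :=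
  Lgr Lrot61 (Lpr_ft (f245627 IH) (Lpr_bt (f245614 IH) (Lpr_ft (f245628 IH) (Lpn (LP (LK LD1_c9 LD2_c4 LD3_c26))))))
theorem f172654 : Led Lsl_et (LP (LK LD1_c5 LD2_c45 LD3_c8)) = (LP (LK LD1_c2 LD2_c48 LD3_c21)) :=
  Lre_e IH (LK LD1_c5 LD2_c45 LD3_c8) (LK LD1_c2 LD2_c48 LD3_c21) Lrfl Lrfl
theorem f245640 : Led Lsl_et (LP (LK LD1_c4 LD2_c33 LD3_c26)) = (LP (LK LD1_c9 LD2_c4 LD3_c26)) :=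
  Lre_e IH (LK LD1_c4 LD2_c33 LD3_c26) (LK LD1_c9 LD2_c4 LD3_c26) Lrfl Lrfl
theorem f245641 : Led Lsl_bt (LP (LK LD1_c2 LD2_c48 LD3_c21)) = (LP (LK LD1_c4 LD2_c33 LD3_c26)) :=
  Lgr Lrot119 (Lpe (f172654 IH) (Lpr_bf (f245629 IH) (Lpe (f245640 IH) (Lpn (LP (LK LD1_c4 LD2_c33 LD3_c26))))))
theorem f385517 : Led Lsl_ff (LP (LK LD1_c2 LD2_c48 LD3_c21)) = (LP (LK LD1_c4 LD2_c33 LD3_c32)) :=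
  Lgr Lrot25 (Lpr_bt (f245641 IH) (Lpr_ft (f385444 IH) (Lpe (K18.f297008 IH) (Lpn (LP (LK LD1_c4 LD2_c33 LD3_c32))))))
theorem f385544 : Led Lsl_ft (LP (LK LD1_c2 LD2_c48 LD3_c21)) = (LP (LK LD1_c4 LD2_c33 LD3_c32)) :=
  Lgr Lrot48 (Lpr_ff (f385517 IH) (Lpn (LP (LK LD1_c4 LD2_c33 LD3_c32))))
theorem f172644 : Led Lsl_ct (LP (LK LD1_c5 LD2_c45 LD3_c7)) = (LP (LK LD1_c2 LD2_c48 LD3_c21)) :=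
  Lre_c IH (LK LD1_c5 LD2_c45 LD3_c7) (LK LD1_c2 LD2_c48 LD3_c21) Lrfl Lrfl
theorem f175989 : Led Lsl_ct (LP (LK LD1_c4 LD2_c33 LD3_c32)) = (LP (LK LD1_c9 LD2_c4 LD3_c39)) :=
  Lre_c IH (LK LD1_c4 LD2_c33 LD3_c32) (LK LD1_c9 LD2_c4 LD3_c39) Lrfl Lrfl
theorem f385549 : Led Lsl_ff (LP (LK LD1_c5 LD2_c45 LD3_c7)) = (LP (LK LD1_c9 LD2_c4 LD3_c39)) :=
  Lgr Lrot23 (Lpr_ct (f172644 IH) (Lpr_ft (f385544 IH) (Lpr_ct (f175989 IH) (Lpn (LP (LK LD1_c9 LD2_c4 LD3_c39))))))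
theorem f172689 : Led Lsl_at (LP (LK LD1_c5 LD2_c45 LD3_c7)) = (LP (LK LD1_c2 LD2_c48 LD3_c22)) :=
  Lre_a IH (LK LD1_c5 LD2_c45 LD3_c7) (LK LD1_c2 LD2_c48 LD3_c22) Lrfl Lrfl
theorem f172541 : Led Lsl_bt (LP (LK LD1_c0 LD2_c32 LD3_c31)) = (LP (LK LD1_c1 LD2_c10 LD3_c18)) :=
  Lre_b IH (LK LD1_c0 LD2_c32 LD3_c31) (LK LD1_c1 LD2_c10 LD3_c18) Lrfl Lrfl
theorem f172542 : Led Lsl_bt (LP (LK LD1_c1 LD2_c20 LD3_c23)) = (LP (LK LD1_c0 LD2_c37 LD3_c8)) :=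
  Lre_b IH (LK LD1_c1 LD2_c20 LD3_c23) (LK LD1_c0 LD2_c37 LD3_c8) Lrfl Lrfl
theorem f172543 : Led Lsl_dt (LP (LK LD1_c1 LD2_c10 LD3_c18)) = (LP (LK LD1_c1 LD2_c20 LD3_c23)) :=
  Lgr Lrot79 (Lpe (f172541 IH) (Lpr_df (K9.f172427 IH) (Lpe (f172542 IH) (Lpn (LP (LK LD1_c1 LD2_c20 LD3_c23))))))
theorem f172617 : Led Lsl_ct (LP (LK LD1_c2 LD2_c26 LD3_c4)) = (LP (LK LD1_c1 LD2_c10 LD3_c18)) :=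
  Lre_c IH (LK LD1_c2 LD2_c26 LD3_c4) (LK LD1_c1 LD2_c10 LD3_c18) Lrfl Lrfl
theorem f210328 : Led Lsl_bt (LP (LK LD1_c2 LD2_c9 LD3_c11)) = (LP (LK LD1_c4 LD2_c23 LD3_c34)) :=
  Lre_b IH (LK LD1_c2 LD2_c9 LD3_c11) (LK LD1_c4 LD2_c23 LD3_c34) Lrfl Lrfl
theorem f172622 : Led Lsl_bt (LP (LK LD1_c2 LD2_c26 LD3_c4)) = (LP (LK LD1_c1 LD2_c10 LD3_c13)) :=
  Lre_b IH (LK LD1_c2 LD2_c26 LD3_c4) (LK LD1_c1 LD2_c10 LD3_c13) Lrfl Lrfl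
theorem f210329 : Led Lsl_dt (LP (LK LD1_c4 LD2_c23 LD3_c34)) = (LP (LK LD1_c2 LD2_c26 LD3_c4)) :=
  Lgr Lrot79 (Lpe (f210328 IH) (Lpr_df (K12.f210326 IH) (Lpe (f172622 IH) (Lpn (LP (LK LD1_c2 LD2_c26 LD3_c4))))))
theorem f183246 : Led Lsl_ct (LP (LK LD1_c8 LD2_c44 LD3_c53)) = (LP (LK LD1_c4 LD2_c23 LD3_c34)) :=
  Lre_c IH (LK LD1_c8 LD2_c44 LD3_c53) (LK LD1_c4 LD2_c23 LD3_c34) Lrfl Lrfl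
theorem f183247 : Led Lsl_dt (LP (LK LD1_c16 LD2_c22 LD3_c26)) = (LP (LK LD1_c8 LD2_c44 LD3_c53)) :=
  Lre_d IH (LK LD1_c16 LD2_c22 LD3_c26) (LK LD1_c8 LD2_c44 LD3_c53) Lrfl Lrfl
theorem f175990 : Led Lsl_dt (LP (LK LD1_c9 LD2_c4 LD3_c39)) = (LP (LK LD1_c16 LD2_c56 LD3_c21)) :=
  Lre_d IH (LK LD1_c9 LD2_c4 LD3_c39) (LK LD1_c16 LD2_c56 LD3_c21) Lrfl Lrfl
theorem f385560 : Led Lsl_cf (LP (LK LD1_c16 LD2_c22 LD3_c26)) = (LP (LK LD1_c16 LD2_c56 LD3_c21)) :=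
  Lgr Lrot118 (Lpr_dt (f183247 IH) (Lpr_ct (f183246 IH) (Lpr_dt (f210329 IH) (Lpr_ct (f172617 IH) (Lpr_dt (f172543 IH) (Lpr_ct (f172685 IH) (Lpe (f172689 IH) (Lpr_ff (f385549 IH) (Lpr_dt (f175990 IH) (Lpn (LP (LK LD1_c16 LD2_c56 LD3_c21))))))))))))
theorem f385563 : Led Lsl_ct (LP (LK LD1_c16 LD2_c22 LD3_c26)) = (LP (LK LD1_c16 LD2_c56 LD3_c21)) :=
  Lgr Lrot59 (Lpr_cf (f385560 IH) (Lpn (LP (LK LD1_c16 LD2_c56 LD3_c21))))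
theorem f385565 : Led Lsl_at (LP (LK LD1_c16 LD2_c56 LD3_c21)) = (LP (LK LD1_c9 LD2_c4 LD3_c43)) :=
  Lre_a IH (LK LD1_c16 LD2_c56 LD3_c21) (LK LD1_c9 LD2_c4 LD3_c43) Lrfl Lrfl
theorem f385566 : Led Lsl_af (LP (LK LD1_c16 LD2_c22 LD3_c26)) = (LP (LK LD1_c16 LD2_c56 LD3_c25)) :=
  Lgr Lrot68 (Lpr_ct (f385563 IH) (Lpr_at (f385565 IH) (Lpr_ct (f193613 IH) (Lpn (LP (LK LD1_c16 LD2_c56 LD3_c25))))))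
theorem f172686 : Led Lsl_dt (LP (LK LD1_c2 LD2_c48 LD3_c22)) = (LP (LK LD1_c5 LD2_c45 LD3_c11)) :=
  Lre_d IH (LK LD1_c2 LD2_c48 LD3_c22) (LK LD1_c5 LD2_c45 LD3_c11) Lrfl Lrfl
theorem f172687 : Led Lsl_ct (LP (LK LD1_c5 LD2_c45 LD3_c11)) = (LP (LK LD1_c11 LD2_c20 LD3_c53)) :=
  Lre_c IH (LK LD1_c5 LD2_c45 LD3_c11) (LK LD1_c11 LD2_c20 LD3_c53) Lrfl Lrfl
theorem f172688 : Led Lsl_at (LP (LK LD1_c20 LD2_c18 LD3_c13)) = (LP (LK LD1_c11 LD2_c20 LD3_c53)) :=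
  Lre_a IH (LK LD1_c20 LD2_c18 LD3_c13) (LK LD1_c11 LD2_c20 LD3_c53) Lrfl Lrfl
theorem f210454 : Led Lsl_ft (LP (LK LD1_c16 LD2_c22 LD3_c26)) = (LP (LK LD1_c20 LD2_c18 LD3_c13)) :=
  Lgr Lrot142 (Lpr_dt (f183247 IH) (Lpr_ct (f183246 IH) (Lpr_dt (f210329 IH) (Lpr_ct (f172617 IH) (Lpr_dt (f172543 IH) (Lpr_ct (f172685 IH) (Lpr_dt (f172686 IH) (Lpr_ct (f172687 IH) (Lpe (f172688 IH) (Lpn (LP (LK LD1_c20 LD2_c18 LD3_c13))))))))))))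
theorem f385578 : Led Lsl_ft (LP (LK LD1_c11 LD2_c20 LD3_c53)) = (LP (LK LD1_c16 LD2_c56 LD3_c25)) :=
  Lgr Lrot101 (Lpe (f172688 IH) (Lpe (f210454 IH) (Lpr_af (f385566 IH) (Lpn (LP (LK LD1_c16 LD2_c56 LD3_c25))))))
theorem f174585 : Led Lsl_ct (LP (LK LD1_c16 LD2_c56 LD3_c25)) = (LP (LK LD1_c9 LD2_c4 LD3_c43)) :=
  Lre_c IH (LK LD1_c16 LD2_c56 LD3_c25) (LK LD1_c9 LD2_c4 LD3_c43) Lrfl Lrfl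
theorem f385588 : Led Lsl_ff (LP (LK LD1_c5 LD2_c45 LD3_c11)) = (LP (LK LD1_c9 LD2_c4 LD3_c43)) :=
  Lgr Lrot23 (Lpr_ct (f172687 IH) (Lpr_ft (f385578 IH) (Lpr_ct (f174585 IH) (Lpn (LP (LK LD1_c9 LD2_c4 LD3_c43))))))
theorem f385591 : Led Lsl_at (LP (LK LD1_c5 LD2_c45 LD3_c11)) = (LP (LK LD1_c11 LD2_c20 LD3_c43)) :=
  Lre_a IH (LK LD1_c5 LD2_c45 LD3_c11) (LK LD1_c11 LD2_c20 LD3_c43) Lrfl Lrfl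
theorem f172652 : Led Lsl_ct (LP (LK LD1_c20 LD2_c18 LD3_c13)) = (LP (LK LD1_c11 LD2_c20 LD3_c43)) :=
  Lre_c IH (LK LD1_c20 LD2_c18 LD3_c13) (LK LD1_c11 LD2_c20 LD3_c43) Lrfl Lrfl
theorem f174586 : Led Lsl_dt (LP (LK LD1_c9 LD2_c4 LD3_c43)) = (LP (LK LD1_c4 LD2_c33 LD3_c33)) :=
  Lre_d IH (LK LD1_c9 LD2_c4 LD3_c43) (LK LD1_c4 LD2_c33 LD3_c33) Lrfl Lrfl
theorem f169331 : Led Lsl_ct (LP (LK LD1_c1 LD2_c56 LD3_c12)) = (LP (LK LD1_c3 LD2_c58 LD3_c52)) :=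
  Lre_c IH (LK LD1_c1 LD2_c56 LD3_c12) (LK LD1_c3 LD2_c58 LD3_c52) Lrfl Lrfl
theorem f39895 : Led Lsl_bt (LP (LK LD1_c7 LD2_c56 LD3_c32)) = (LP (LK LD1_c3 LD2_c57 LD3_c33)) :=
  Lre_b IH (LK LD1_c7 LD2_c56 LD3_c32) (LK LD1_c3 LD2_c57 LD3_c33) Lrfl Lrfl
theorem f176031 : Led Lsl_bt (LP (LK LD1_c1 LD2_c56 LD3_c11)) = (LP (LK LD1_c3 LD2_c58 LD3_c52)) :=
  Lre_b IH (LK LD1_c1 LD2_c56 LD3_c11) (LK LD1_c3 LD2_c58 LD3_c52) Lrfl Lrfl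
theorem f193571 : Led Lsl_df (LP (LK LD1_c7 LD2_c56 LD3_c32)) = (LP (LK LD1_c3 LD2_c58 LD3_c52)) :=
  Lgr Lrot12 (Lpr_bt (f39895 IH) (Lpr_dt (K12.f193485 IH) (Lpr_bt (f176031 IH) (Lpn (LP (LK LD1_c3 LD2_c58 LD3_c52))))))
theorem f385594 : Led Lsl_df (LP (LK LD1_c20 LD2_c18 LD3_c13)) = (LP (LK LD1_c14 LD2_c59 LD3_c3)) :=
  Lgr Lrot177 (Lpr_ct (f172652 IH) (Lpe (f385591 IH) (Lpr_ff (f385588 IH) (Lpr_dt (f174586 IH) (Lpr_ct (f174514 IH) (Lpe (K18.f175973 IH) (Lpr_ct (f169331 IH) (Lpe (f193571 IH) (Lpr_ct (f39896 IH) (Lpn (LP (LK LD1_c14 LD2_c59 LD3_c3))))))))))))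
theorem f172645 : Led Lsl_dt (LP (LK LD1_c11 LD2_c20 LD3_c43)) = (LP (LK LD1_c5 LD2_c45 LD3_c7)) :=
  Lre_d IH (LK LD1_c11 LD2_c20 LD3_c43) (LK LD1_c5 LD2_c45 LD3_c7) Lrfl Lrfl
theorem f172637 : Led Lsl_df (LP (LK LD1_c2 LD2_c26 LD3_c10)) = (LP (LK LD1_c2 LD2_c48 LD3_c21)) :=
  Lgr Lrot38 (Lpr_dt (f172604 IH) (Lpn (LP (LK LD1_c2 LD2_c48 LD3_c21))))
theorem f172651 : Led Lsl_ct (LP (LK LD1_c2 LD2_c26 LD3_c10)) = (LP (LK LD1_c4 LD2_c56 LD3_c35)) :=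
  Lre_c IH (LK LD1_c2 LD2_c26 LD3_c10) (LK LD1_c4 LD2_c56 LD3_c35) Lrfl Lrfl
theorem f210433 : Led Lsl_df (LP (LK LD1_c8 LD2_c44 LD3_c52)) = (LP (LK LD1_c4 LD2_c56 LD3_c35)) :=
  Lgr Lrot38 (Lpr_dt (f210426 IH) (Lpn (LP (LK LD1_c4 LD2_c56 LD3_c35))))
theorem f210441 : Led Lsl_ct (LP (LK LD1_c8 LD2_c44 LD3_c52)) = (LP (LK LD1_c16 LD2_c22 LD3_c24)) :=
  Lre_c IH (LK LD1_c8 LD2_c44 LD3_c52) (LK LD1_c16 LD2_c22 LD3_c24) Lrfl Lrfl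
theorem f210443 : Led Lsl_at (LP (LK LD1_c8 LD2_c44 LD3_c53)) = (LP (LK LD1_c16 LD2_c22 LD3_c24)) :=
  Lre_a IH (LK LD1_c8 LD2_c44 LD3_c53) (LK LD1_c16 LD2_c22 LD3_c24) Lrfl Lrfl
theorem f385599 : Led Lsl_ff (LP (LK LD1_c8 LD2_c44 LD3_c53)) = (LP (LK LD1_c14 LD2_c59 LD3_c3)) :=
  Lgr Lrot103 (Lpr_at (f210443 IH) (Lpe (f210441 IH) (Lpr_df (f210433 IH) (Lpe (f172651 IH) (Lpr_df (f172637 IH) (Lpe (f172644 IH) (Lpe (f172645 IH) (Lpe (f172652 IH) (Lpr_df (f385594 IH) (Lpn (LP (LK LD1_c14 LD2_c59 LD3_c3))))))))))))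
theorem f411670 : Led Lsl_gt (LP (LK LD1_c16 LD2_c52 LD3_c38)) = (LP (LK LD1_c16 LD2_c22 LD3_c24)) :=
  Lgr Lrot46 (Lpr_gf (f411668 IH) (Lpe (f385599 IH) (Lpr_at (f210443 IH) (Lpn (LP (LK LD1_c16 LD2_c22 LD3_c24))))))
theorem f181309 : Led Lsl_dt (LP (LK LD1_c26 LD2_c49 LD3_c36)) = (LP (LK LD1_c16 LD2_c52 LD3_c38)) :=
  Lre_d IH (LK LD1_c26 LD2_c49 LD3_c36) (LK LD1_c16 LD2_c52 LD3_c38) Lrfl Lrfl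
theorem f385246 : Led Lsl_df (LP (LK LD1_c16 LD2_c56 LD3_c25)) = (LP (LK LD1_c16 LD2_c22 LD3_c24)) :=
  Lgr Lrot38 (Lpr_dt (f385237 IH) (Lpn (LP (LK LD1_c16 LD2_c22 LD3_c24))))
theorem f385551 : Led Lsl_gt (LP (LK LD1_c2 LD2_c48 LD3_c21)) = (LP (LK LD1_c4 LD2_c32 LD3_c26)) :=
  Lgr Lrot5 (Lpr_ft (f385544 IH) (Lpr_at (K18.f174582 IH) (Lpr_gf (f174578 IH) (Lpn (LP (LK LD1_c4 LD2_c32 LD3_c26))))))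
theorem f174587 : Led Lsl_dt (LP (LK LD1_c4 LD2_c32 LD3_c26)) = (LP (LK LD1_c2 LD2_c13 LD3_c16)) :=
  Lre_d IH (LK LD1_c4 LD2_c32 LD3_c26) (LK LD1_c2 LD2_c13 LD3_c16) Lrfl Lrfl
theorem f177736 : Led Lsl_ct (LP (LK LD1_c4 LD2_c32 LD3_c37)) = (LP (LK LD1_c2 LD2_c13 LD3_c19)) :=
  Lre_c IH (LK LD1_c4 LD2_c32 LD3_c37) (LK LD1_c2 LD2_c13 LD3_c19) Lrfl Lrfl
theorem f177737 : Led Lsl_dt (LP (LK LD1_c9 LD2_c2 LD3_c44)) = (LP (LK LD1_c4 LD2_c32 LD3_c37)) :=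
  Lre_d IH (LK LD1_c9 LD2_c2 LD3_c44) (LK LD1_c4 LD2_c32 LD3_c37) Lrfl Lrfl
theorem f177738 : Led Lsl_gt (LP (LK LD1_c16 LD2_c53 LD3_c15)) = (LP (LK LD1_c9 LD2_c2 LD3_c44)) :=
  Lre_g IH (LK LD1_c16 LD2_c53 LD3_c15) (LK LD1_c9 LD2_c2 LD3_c44) Lrfl Lrfl
theorem f386340 : Led Lsl_dt (LP (LK LD1_c9 LD2_c4 LD3_c42)) = (LP (LK LD1_c16 LD2_c53 LD3_c15)) :=
  Lgr Lrot57 (Lpr_gf (f386338 IH) (Lpe (f172634 IH) (Lpr_gt (f385551 IH) (Lpr_dt (f174587 IH) (Lpr_gt (f174538 IH) (Lpr_dt (K16.f174567 IH) (Lpe (f177736 IH) (Lpe (f177737 IH) (Lpe (f177738 IH) (Lpn (LP (LK LD1_c16 LD2_c53 LD3_c15))))))))))))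
theorem f386346 : Led Lsl_df (LP (LK LD1_c9 LD2_c4 LD3_c42)) = (LP (LK LD1_c16 LD2_c53 LD3_c15)) :=
  Lgr Lrot38 (Lpr_dt (f386340 IH) (Lpn (LP (LK LD1_c16 LD2_c53 LD3_c15))))
theorem f280603 : Led Lsl_at (LP (LK LD1_c16 LD2_c52 LD3_c52)) = (LP (LK LD1_c9 LD2_c2 LD3_c44)) :=
  Lre_a IH (LK LD1_c16 LD2_c52 LD3_c52) (LK LD1_c9 LD2_c2 LD3_c44) Lrfl Lrfl
theorem f280608 : Led Lsl_gt (LP (LK LD1_c11 LD2_c13 LD3_c16)) = (LP (LK LD1_c16 LD2_c53 LD3_c15)) :=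
  Lgr Lrot5 (Lpr_ft (K20.f280597 IH) (Lpr_at (f280603 IH) (Lpe (f177738 IH) (Lpn (LP (LK LD1_c16 LD2_c53 LD3_c15))))))
theorem f174357 : Led Lsl_at (LP (LK LD1_c11 LD2_c13 LD3_c16)) = (LP (LK LD1_c5 LD2_c41 LD3_c54)) :=
  Lre_a IH (LK LD1_c11 LD2_c13 LD3_c16) (LK LD1_c5 LD2_c41 LD3_c54) Lrfl Lrfl
theorem f280590 : Led Lsl_at (LP (LK LD1_c9 LD2_c2 LD3_c44)) = (LP (LK LD1_c16 LD2_c52 LD3_c52)) :=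
  Lre_a IH (LK LD1_c9 LD2_c2 LD3_c44) (LK LD1_c16 LD2_c52 LD3_c52) Lrfl Lrfl
theorem f280591 : Led Lsl_ft (LP (LK LD1_c5 LD2_c41 LD3_c54)) = (LP (LK LD1_c9 LD2_c2 LD3_c44)) :=
  Lgr Lrot101 (Lpe (f174357 IH) (Lpr_ff (K20.f280585 IH) (Lpe (f280590 IH) (Lpn (LP (LK LD1_c9 LD2_c2 LD3_c44))))))
theorem f174333 : Led Lsl_dt (LP (LK LD1_c5 LD2_c41 LD3_c54)) = (LP (LK LD1_c2 LD2_c46 LD3_c57)) :=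
  Lre_d IH (LK LD1_c5 LD2_c41 LD3_c54) (LK LD1_c2 LD2_c46 LD3_c57) Lrfl Lrfl
theorem f174120 : Led Lsl_ct (LP (LK LD1_c2 LD2_c46 LD3_c57)) = (LP (LK LD1_c1 LD2_c19 LD3_c52)) :=
  Lre_c IH (LK LD1_c2 LD2_c46 LD3_c57) (LK LD1_c1 LD2_c19 LD3_c52) Lrfl Lrfl
theorem f181503 : Led Lsl_dt (LP (LK LD1_c1 LD2_c19 LD3_c52)) = (LP (LK LD1_c0 LD2_c36 LD3_c59)) :=
  Lre_d IH (LK LD1_c1 LD2_c19 LD3_c52) (LK LD1_c0 LD2_c36 LD3_c59) Lrfl Lrfl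
theorem f181660 : Led Lsl_ct (LP (LK LD1_c2 LD2_c46 LD3_c53)) = (LP (LK LD1_c5 LD2_c41 LD3_c42)) :=
  Lre_c IH (LK LD1_c2 LD2_c46 LD3_c53) (LK LD1_c5 LD2_c41 LD3_c42) Lrfl Lrfl
theorem f269050 : Led Lsl_dt (LP (LK LD1_c5 LD2_c41 LD3_c42)) = (LP (LK LD1_c11 LD2_c13 LD3_c36)) :=
  Lre_d IH (LK LD1_c5 LD2_c41 LD3_c42) (LK LD1_c11 LD2_c13 LD3_c36) Lrfl Lrfl
theorem f281734 : Led Lsl_ct (LP (LK LD1_c11 LD2_c13 LD3_c36)) = (LP (LK LD1_c16 LD2_c52 LD3_c52)) :=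
  Lgr Lrot98 (Lpe (f269050 IH) (Lpe (f181660 IH) (Lpe (f181658 IH) (Lpe (K12.f174956 IH) (Lpe (f181503 IH) (Lpe (f174120 IH) (Lpe (f174333 IH) (Lpr_ft (f280591 IH) (Lpr_at (f280590 IH) (Lpn (LP (LK LD1_c16 LD2_c52 LD3_c52))))))))))))
theorem f269061 : Led Lsl_dt (LP (LK LD1_c5 LD2_c41 LD3_c33)) = (LP (LK LD1_c11 LD2_c13 LD3_c16)) :=
  Lre_d IH (LK LD1_c5 LD2_c41 LD3_c33) (LK LD1_c11 LD2_c13 LD3_c16) Lrfl Lrfl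
theorem f181360 : Led Lsl_ct (LP (LK LD1_c9 LD2_c2 LD3_c37)) = (LP (LK LD1_c4 LD2_c32 LD3_c33)) :=
  Lre_c IH (LK LD1_c9 LD2_c2 LD3_c37) (LK LD1_c4 LD2_c32 LD3_c33) Lrfl Lrfl
theorem f181396 : Led Lsl_dt (LP (LK LD1_c16 LD2_c53 LD3_c2)) = (LP (LK LD1_c9 LD2_c2 LD3_c37)) :=
  Lre_d IH (LK LD1_c16 LD2_c53 LD3_c2) (LK LD1_c9 LD2_c2 LD3_c37) Lrfl Lrfl
theorem f269062 : Led Lsl_ct (LP (LK LD1_c11 LD2_c13 LD3_c16)) = (LP (LK LD1_c16 LD2_c53 LD3_c2)) :=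
  Lgr Lrot176 (Lpe (f269061 IH) (Lpe (K20.f269060 IH) (Lpe (K20.f269059 IH) (Lpe (K16.f269058 IH) (Lpe (K16.f269057 IH) (Lpe (K16.f269045 IH) (Lpr_df (K16.f269047 IH) (Lpe (K16.f269046 IH) (Lpe (K16.f268984 IH) (Lpe (K16.f174568 IH) (Lpe (K16.f174567 IH) (Lpe (K16.f174523 IH) (Lpe (K16.f181344 IH) (Lpe (f181360 IH) (Lpe (f181396 IH) (Lpn (LP (LK LD1_c16 LD2_c53 LD3_c2))))))))))))))))))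
theorem f281739 : Led Lsl_ff (LP (LK LD1_c11 LD2_c13 LD3_c36)) = (LP (LK LD1_c16 LD2_c53 LD3_c2)) :=
  Lgr Lrot23 (Lpr_ct (f281734 IH) (Lpe (K20.f280585 IH) (Lpr_ct (f269062 IH) (Lpn (LP (LK LD1_c16 LD2_c53 LD3_c2))))))
theorem f281747 : Led Lsl_ft (LP (LK LD1_c11 LD2_c13 LD3_c36)) = (LP (LK LD1_c16 LD2_c53 LD3_c2)) :=
  Lgr Lrot48 (Lpr_ff (f281739 IH) (Lpn (LP (LK LD1_c16 LD2_c53 LD3_c2))))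
theorem f181656 : Led Lsl_ct (LP (LK LD1_c5 LD2_c41 LD3_c42)) = (LP (LK LD1_c2 LD2_c46 LD3_c53)) :=
  Lre_c IH (LK LD1_c5 LD2_c41 LD3_c42) (LK LD1_c2 LD2_c46 LD3_c53) Lrfl Lrfl
theorem f181659 : Led Lsl_dt (LP (LK LD1_c11 LD2_c13 LD3_c36)) = (LP (LK LD1_c5 LD2_c41 LD3_c42)) :=
  Lre_d IH (LK LD1_c11 LD2_c13 LD3_c36) (LK LD1_c5 LD2_c41 LD3_c42) Lrfl Lrfl
theorem f269002 : Led Lsl_cf (LP (LK LD1_c11 LD2_c13 LD3_c36)) = (LP (LK LD1_c16 LD2_c52 LD3_c52)) :=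
  Lgr Lrot55 (Lpr_dt (f181659 IH) (Lpr_ct (f181656 IH) (Lpr_dt (K16.f181570 IH) (Lpr_ct (K10.f181558 IH) (Lpr_dt (K16.f174338 IH) (Lpr_ct (K16.f174331 IH) (Lpr_dt (K16.f174362 IH) (Lpr_ct (K16.f174352 IH) (Lpr_dt (K16.f268992 IH) (Lpr_ct (K16.f268991 IH) (Lpr_dt (K16.f268857 IH) (Lpr_ct (K16.f268852 IH) (Lpr_dt (K16.f268875 IH) (Lpr_ct (K16.f268835 IH) (Lpr_dt (K20.f269001 IH) (Lpn (LP (LK LD1_c16 LD2_c52 LD3_c52))))))))))))))))))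
theorem f281751 : Led Lsl_cf (LP (LK LD1_c11 LD2_c13 LD3_c16)) = (LP (LK LD1_c16 LD2_c53 LD3_c2)) :=
  Lgr Lrot108 (Lpr_ft (K20.f280597 IH) (Lpe (f269002 IH) (Lpr_ft (f281747 IH) (Lpn (LP (LK LD1_c16 LD2_c53 LD3_c2))))))
theorem f411673 : Led Lsl_gf (LP (LK LD1_c26 LD2_c49 LD3_c36)) = (LP (LK LD1_c16 LD2_c53 LD3_c2)) :=
  Lgr Lrot144 (Lpr_dt (f181309 IH) (Lpr_gt (f411670 IH) (Lpe (f385246 IH) (Lpe (f193613 IH) (Lpe (f174584 IH) (Lpe (f175985 IH) (Lpr_df (f386346 IH) (Lpe (f280608 IH) (Lpr_cf (f281751 IH) (Lpn (LP (LK LD1_c16 LD2_c53 LD3_c2))))))))))))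
theorem f269049 : Led Lsl_at (LP (LK LD1_c11 LD2_c13 LD3_c13)) = (LP (LK LD1_c5 LD2_c41 LD3_c42)) :=
  Lre_a IH (LK LD1_c11 LD2_c13 LD3_c13) (LK LD1_c5 LD2_c41 LD3_c42) Lrfl Lrfl
theorem f269051 : Led Lsl_at (LP (LK LD1_c11 LD2_c13 LD3_c36)) = (LP (LK LD1_c16 LD2_c53 LD3_c16)) :=
  Lgr Lrot51 (Lpe (f269050 IH) (Lpe (f269049 IH) (Lpr_df (K16.f269047 IH) (Lpn (LP (LK LD1_c16 LD2_c53 LD3_c16))))))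
theorem f411675 : Led Lsl_gt (LP (LK LD1_c26 LD2_c49 LD3_c36)) = (LP (LK LD1_c16 LD2_c53 LD3_c16)) :=
  Lgr Lrot46 (Lpr_gf (f411673 IH) (Lpe (f281739 IH) (Lpr_at (f269051 IH) (Lpn (LP (LK LD1_c16 LD2_c53 LD3_c16))))))
theorem f411672 : Led Lsl_dt (LP (LK LD1_c16 LD2_c52 LD3_c38)) = (LP (LK LD1_c26 LD2_c49 LD3_c36)) :=
  Lre_d IH (LK LD1_c16 LD2_c52 LD3_c38) (LK LD1_c26 LD2_c49 LD3_c36) Lrfl Lrfl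
theorem f170317 : Led Lsl_ct (LP (LK LD1_c14 LD2_c59 LD3_c3)) = (LP (LK LD1_c7 LD2_c56 LD3_c32)) :=
  Lre_c IH (LK LD1_c14 LD2_c59 LD3_c3) (LK LD1_c7 LD2_c56 LD3_c32) Lrfl Lrfl
theorem f411802 : Led Lsl_dt (LP (LK LD1_c9 LD2_c2 LD3_c34)) = (LP (LK LD1_c4 LD2_c32 LD3_c31)) :=
  Lre_d IH (LK LD1_c9 LD2_c2 LD3_c34) (LK LD1_c4 LD2_c32 LD3_c31) Lrfl Lrfl
theorem f411803 : Led Lsl_gt (LP (LK LD1_c7 LD2_c56 LD3_c32)) = (LP (LK LD1_c9 LD2_c2 LD3_c34)) :=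
  Lgr Lrot94 (Lpe (f170317 IH) (Lpe (f411668 IH) (Lpr_dt (f411672 IH) (Lpr_gt (f411675 IH) (Lpe (K16.f269047 IH) (Lpe (f269070 IH) (Lpe (f269069 IH) (Lpr_gf (f411800 IH) (Lpe (f411802 IH) (Lpn (LP (LK LD1_c9 LD2_c2 LD3_c34))))))))))))
theorem f183245 : Led Lsl_bt (LP (LK LD1_c4 LD2_c23 LD3_c34)) = (LP (LK LD1_c2 LD2_c9 LD3_c11)) :=
  Lre_b IH (LK LD1_c4 LD2_c23 LD3_c34) (LK LD1_c2 LD2_c9 LD3_c11) Lrfl Lrfl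
theorem f262324 : Led Lsl_ff (LP (LK LD1_c4 LD2_c23 LD3_c34)) = (LP (LK LD1_c7 LD2_c56 LD3_c32)) :=
  Lgr Lrot25 (Lpr_bt (f183245 IH) (Lpr_ft (K15.f262322 IH) (Lpr_bt (f193482 IH) (Lpn (LP (LK LD1_c7 LD2_c56 LD3_c32))))))
theorem f411820 : Led Lsl_gf (LP (LK LD1_c8 LD2_c44 LD3_c52)) = (LP (LK LD1_c9 LD2_c2 LD3_c34)) :=
  Lgr Lrot76 (Lpe (f210425 IH) (Lpr_ff (f262324 IH) (Lpr_gt (f411803 IH) (Lpn (LP (LK LD1_c9 LD2_c2 LD3_c34))))))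
theorem f181322 : Led Lsl_dt (LP (LK LD1_c4 LD2_c32 LD3_c31)) = (LP (LK LD1_c9 LD2_c2 LD3_c34)) :=
  Lre_d IH (LK LD1_c4 LD2_c32 LD3_c31) (LK LD1_c9 LD2_c2 LD3_c34) Lrfl Lrfl
theorem f174559 : Led Lsl_ct (LP (LK LD1_c1 LD2_c3 LD3_c42)) = (LP (LK LD1_c2 LD2_c13 LD3_c18)) :=
  Lre_c IH (LK LD1_c1 LD2_c3 LD3_c42) (LK LD1_c2 LD2_c13 LD3_c18) Lrfl Lrfl
theorem f181271 : Led Lsl_dt (LP (LK LD1_c2 LD2_c13 LD3_c15)) = (LP (LK LD1_c4 LD2_c32 LD3_c23)) :=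
  Lre_d IH (LK LD1_c2 LD2_c13 LD3_c15) (LK LD1_c4 LD2_c32 LD3_c23) Lrfl Lrfl
theorem f411831 : Led Lsl_gf (LP (LK LD1_c2 LD2_c48 LD3_c21)) = (LP (LK LD1_c4 LD2_c32 LD3_c23)) :=
  Lgr Lrot143 (Lpe (f172637 IH) (Lpe (f172633 IH) (Lpe (f210426 IH) (Lpr_gf (f411820 IH) (Lpe (f181322 IH) (Lpe (f174560 IH) (Lpe (f174559 IH) (Lpr_gt (f174542 IH) (Lpr_dt (f181271 IH) (Lpn (LP (LK LD1_c4 LD2_c32 LD3_c23))))))))))))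
theorem f181291 : Led Lsl_dt (LP (LK LD1_c4 LD2_c32 LD3_c23)) = (LP (LK LD1_c2 LD2_c13 LD3_c15)) :=
  Lre_d IH (LK LD1_c4 LD2_c32 LD3_c23) (LK LD1_c2 LD2_c13 LD3_c15) Lrfl Lrfl
theorem f269080 : Led Lsl_gf (LP (LK LD1_c1 LD2_c19 LD3_c50)) = (LP (LK LD1_c2 LD2_c13 LD3_c15)) :=
  Lgr Lrot76 (Lpe (K16.f269066 IH) (Lpr_ff (K16.f269067 IH) (Lpr_gt (f174542 IH) (Lpn (LP (LK LD1_c2 LD2_c13 LD3_c15))))))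
theorem f281788 : Led Lsl_ct (LP (LK LD1_c4 LD2_c32 LD3_c32)) = (LP (LK LD1_c4 LD2_c31 LD3_c47)) :=
  Lre_c IH (LK LD1_c4 LD2_c32 LD3_c32) (LK LD1_c4 LD2_c31 LD3_c47) Lrfl Lrfl
theorem f418798 : Led Lsl_df (LP (LK LD1_c9 LD2_c0 LD3_c10)) = (LP (LK LD1_c4 LD2_c31 LD3_c47)) :=
  Lgr Lrot162 (Lpr_cf (f418780 IH) (Lpr_gf (f386338 IH) (Lpe (f172634 IH) (Lpr_gf (f411831 IH) (Lpr_dt (f181291 IH) (Lpe (f269080 IH) (Lpr_ct (f269084 IH) (Lpr_gt (f281785 IH) (Lpr_ct (f281788 IH) (Lpn (LP (LK LD1_c4 LD2_c31 LD3_c47))))))))))))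
theorem f418800 : Led Lsl_bt (LP (LK LD1_c2 LD2_c12 LD3_c54)) = (LP (LK LD1_c4 LD2_c31 LD3_c47)) :=
  Lre_b IH (LK LD1_c2 LD2_c12 LD3_c54) (LK LD1_c4 LD2_c31 LD3_c47) Lrfl Lrfl
theorem f418801 : Led Lsl_dt (LP (LK LD1_c4 LD2_c31 LD3_c6)) = (LP (LK LD1_c2 LD2_c12 LD3_c54)) :=
  Lgr Lrot79 (Lpe (f354422 IH) (Lpr_df (f418798 IH) (Lpe (f418800 IH) (Lpn (LP (LK LD1_c2 LD2_c12 LD3_c54))))))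
theorem f211811 : Led Lsl_ct (LP (LK LD1_c2 LD2_c12 LD3_c31)) = (LP (LK LD1_c4 LD2_c31 LD3_c8)) :=
  Lre_c IH (LK LD1_c2 LD2_c12 LD3_c31) (LK LD1_c4 LD2_c31 LD3_c8) Lrfl Lrfl
theorem f354396 : Led Lsl_gt (LP (LK LD1_c4 LD2_c31 LD3_c8)) = (LP (LK LD1_c9 LD2_c0 LD3_c16)) :=
  Lre_g IH (LK LD1_c4 LD2_c31 LD3_c8) (LK LD1_c9 LD2_c0 LD3_c16) Lrfl Lrfl
theorem f379940 : Led Lsl_dt (LP (LK LD1_c2 LD2_c12 LD3_c56)) = (LP (LK LD1_c1 LD2_c3 LD3_c29)) :=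
  Lre_d IH (LK LD1_c2 LD2_c12 LD3_c56) (LK LD1_c1 LD2_c3 LD3_c29) Lrfl Lrfl
def v1220 : LQ := Led Lsl_bt (LP (LK LD1_c1 LD2_c3 LD3_c27))
theorem f494084 : Led Lsl_bt (LP (LK LD1_c1 LD2_c3 LD3_c27)) = v1220 :=
  Lrfl
theorem f334570 : Led Lsl_ff (LP (LK LD1_c1 LD2_c3 LD3_c27)) = (LP (LK LD1_c0 LD2_c36 LD3_c49)) :=
  Lgr Lrot19 (Lpr_dt (K13.f237399 IH) (Lpr_ft (K22.f334566 IH) (Lpr_dt (K13.f197792 IH) (Lpn (LP (LK LD1_c0 LD2_c36 LD3_c49))))))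
theorem f494088 : Led Lsl_ff v378 = v1220 :=
  Lgr Lrot25 (Lpe (f452522 IH) (Lpe (f334570 IH) (Lpr_bt (f494084 IH) (Lpn v1220))))
theorem f494089 : Led Lsl_ct (LP (LK LD1_c1 LD2_c3 LD3_c29)) = v1220 :=
  Lgr Lrot40 (Lpr_ff (K24.f379938 IH) (Lpr_cf (f452523 IH) (Lpr_ff (f494088 IH) (Lpn v1220))))
theorem f494087 : Led Lsl_df v372 = v1220 :=
  Lgr Lrot12 (Lpe (f452490 IH) (Lpe (K22.f237401 IH) (Lpr_bt (f494084 IH) (Lpn v1220))))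
theorem f354386 : Led Lsl_dt (LP (LK LD1_c0 LD2_c36 LD3_c38)) = (LP (LK LD1_c1 LD2_c19 LD3_c22)) :=
  Lre_d IH (LK LD1_c0 LD2_c36 LD3_c38) (LK LD1_c1 LD2_c19 LD3_c22) Lrfl Lrfl
theorem f172147 : Led Lsl_ct (LP (LK LD1_c1 LD2_c19 LD3_c22)) = (LP (LK LD1_c2 LD2_c45 LD3_c61)) :=
  Lre_c IH (LK LD1_c1 LD2_c19 LD3_c22) (LK LD1_c2 LD2_c45 LD3_c61) Lrfl Lrfl
theorem f354390 : Led Lsl_dt (LP (LK LD1_c2 LD2_c45 LD3_c61)) = (LP (LK LD1_c5 LD2_c40 LD3_c9)) :=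
  Lre_d IH (LK LD1_c2 LD2_c45 LD3_c61) (LK LD1_c5 LD2_c40 LD3_c9) Lrfl Lrfl
theorem f495767 : Led Lsl_ct (LP (LK LD1_c5 LD2_c40 LD3_c9)) = v1479 :=
  Lgr Lrot98 (Lpe (f354390 IH) (Lpe (f172147 IH) (Lpe (f354386 IH) (Lpr_cf (f452491 IH) (Lpr_df (f494087 IH) (Lpe (f494089 IH) (Lpe (f379940 IH) (Lpr_ft (K24.f379930 IH) (Lpr_at (f495762 IH) (Lpn v1479))))))))))
theorem f174649 : Led Lsl_gt (LP (LK LD1_c5 LD2_c40 LD3_c8)) = (LP (LK LD1_c2 LD2_c45 LD3_c61)) :=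
  Lre_g IH (LK LD1_c5 LD2_c40 LD3_c8) (LK LD1_c2 LD2_c45 LD3_c61) Lrfl Lrfl
theorem f495770 : Led Lsl_dt (LP (LK LD1_c9 LD2_c0 LD3_c16)) = (LP (LK LD1_c5 LD2_c40 LD3_c8)) :=
  Lgr Lrot57 (Lpe (f354396 IH) (Lpe (f211811 IH) (Lpr_gt (f225174 IH) (Lpr_dt (f418801 IH) (Lpr_gt (f452550 IH) (Lpr_dt (f495769 IH) (Lpe (f495767 IH) (Lpe (f354390 IH) (Lpe (f174649 IH) (Lpn (LP (LK LD1_c5 LD2_c40 LD3_c8))))))))))))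
theorem f495771 : Led Lsl_dt (LP (LK LD1_c9 LD2_c0 LD3_c16)) = (LP (LK LD1_c5 LD2_c40 LD3_c8)) :=
  Leop (Lpe (f495770 IH) (Lpn (LP (LK LD1_c9 LD2_c0 LD3_c16))))
theorem seed_110 : LEOK LG_d (LK LD1_c9 LD2_c0 LD3_c16) :=
  Leoe_d (LK LD1_c9 LD2_c0 LD3_c16) (f495771 IH)
def v1498 : LQ := Led Lsl_gf (LP (LK LD1_c1 LD2_c20 LD3_c8))
theorem f495859 : Led Lsl_gf (LP (LK LD1_c1 LD2_c20 LD3_c8)) = v1498 :=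
  Lrfl
theorem f381964 : Led Lsl_cf (LP (LK LD1_c2 LD2_c47 LD3_c51)) = (LP (LK LD1_c1 LD2_c20 LD3_c12)) :=
  Lgr Lrot11 (Lpr_ct (K27.f381955 IH) (Lpn (LP (LK LD1_c1 LD2_c20 LD3_c12))))
theorem f174928 : Led Lsl_bt (LP (LK LD1_c0 LD2_c16 LD3_c23)) = (LP (LK LD1_c0 LD2_c36 LD3_c41)) :=
  Lre_b IH (LK LD1_c0 LD2_c16 LD3_c23) (LK LD1_c0 LD2_c36 LD3_c41) Lrfl Lrfl
theorem f380255 : Led Lsl_gt (LP (LK LD1_c0 LD2_c36 LD3_c41)) = (LP (LK LD1_c1 LD2_c19 LD3_c25)) :=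
  Lre_g IH (LK LD1_c0 LD2_c36 LD3_c41) (LK LD1_c1 LD2_c19 LD3_c25) Lrfl Lrfl
theorem f380256 : Led Lsl_ct (LP (LK LD1_c1 LD2_c19 LD3_c25)) = (LP (LK LD1_c2 LD2_c46 LD3_c6)) :=
  Lre_c IH (LK LD1_c1 LD2_c19 LD3_c25) (LK LD1_c2 LD2_c46 LD3_c6) Lrfl Lrfl
theorem f382008 : Led Lsl_gf (LP (LK LD1_c2 LD2_c47 LD3_c51)) = (LP (LK LD1_c2 LD2_c46 LD3_c6)) :=
  Lgr Lrot129 (Lpr_cf (f381964 IH) (Lpr_bt (K27.f381707 IH) (Lpr_gt (K27.f75552 IH) (Lpe (K27.f171857 IH) (Lpr_ct (K9.f165203 IH) (Lpr_gt (K9.f60166 IH) (Lpe (K9.f171266 IH) (Lpr_bt (f174928 IH) (Lpr_gt (f380255 IH) (Lpr_ct (f380256 IH) (Lpn (LP (LK LD1_c2 LD2_c46 LD3_c6)))))))))))))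
theorem f382011 : Led Lsl_gt (LP (LK LD1_c2 LD2_c47 LD3_c37)) = (LP (LK LD1_c2 LD2_c46 LD3_c6)) :=
  Lgr Lrot5 (Lpr_ft (K27.f381811 IH) (Lpr_at (K27.f381701 IH) (Lpr_gf (f382008 IH) (Lpn (LP (LK LD1_c2 LD2_c46 LD3_c6))))))
theorem f380257 : Led Lsl_ct (LP (LK LD1_c2 LD2_c46 LD3_c6)) = (LP (LK LD1_c1 LD2_c19 LD3_c25)) :=
  Lre_c IH (LK LD1_c2 LD2_c46 LD3_c6) (LK LD1_c1 LD2_c19 LD3_c25) Lrfl Lrfl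
theorem f380107 : Led Lsl_ft (LP (LK LD1_c0 LD2_c36 LD3_c43)) = (LP (LK LD1_c1 LD2_c19 LD3_c35)) :=
  Lre_f IH (LK LD1_c0 LD2_c36 LD3_c43) (LK LD1_c1 LD2_c19 LD3_c35) Lrfl Lrfl
theorem f211780 : Led Lsl_et (LP (LK LD1_c0 LD2_c16 LD3_c23)) = (LP (LK LD1_c0 LD2_c36 LD3_c43)) :=
  Lre_e IH (LK LD1_c0 LD2_c16 LD3_c23) (LK LD1_c0 LD2_c36 LD3_c43) Lrfl Lrfl
theorem f380108 : Led Lsl_ff (LP (LK LD1_c0 LD2_c16 LD3_c23)) = (LP (LK LD1_c0 LD2_c29 LD3_c2)) :=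
  Lgr Lrot72 (Lpr_et (f211780 IH) (Lpr_ft (f380107 IH) (Lpr_et (K24.f380105 IH) (Lpr_ft (K24.f379965 IH) (Lpr_et (K12.f174898 IH) (Lpn (LP (LK LD1_c0 LD2_c29 LD3_c2))))))))
theorem f20640 : Led Lsl_dt (LP (LK LD1_c1 LD2_c3 LD3_c35)) = (LP (LK LD1_c0 LD2_c29 LD3_c2)) :=
  Lre_d IH (LK LD1_c1 LD2_c3 LD3_c35) (LK LD1_c0 LD2_c29 LD3_c2) Lrfl Lrfl
theorem f380116 : Led Lsl_ft (LP (LK LD1_c0 LD2_c36 LD3_c42)) = (LP (LK LD1_c1 LD2_c3 LD3_c35)) :=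
  Lgr Lrot54 (Lpe (K9.f171300 IH) (Lpr_ff (f380108 IH) (Lpe (f20640 IH) (Lpn (LP (LK LD1_c1 LD2_c3 LD3_c35))))))
theorem f225534 : Led Lsl_et (LP (LK LD1_c1 LD2_c19 LD3_c31)) = (LP (LK LD1_c0 LD2_c36 LD3_c42)) :=
  Lre_e IH (LK LD1_c1 LD2_c19 LD3_c31) (LK LD1_c0 LD2_c36 LD3_c42) Lrfl Lrfl
theorem f380122 : Led Lsl_ft (LP (LK LD1_c2 LD2_c46 LD3_c21)) = (LP (LK LD1_c1 LD2_c19 LD3_c31)) :=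
  Lre_f IH (LK LD1_c2 LD2_c46 LD3_c21) (LK LD1_c1 LD2_c19 LD3_c31) Lrfl Lrfl
theorem f174896 : Led Lsl_et (LP (LK LD1_c1 LD2_c3 LD3_c35)) = (LP (LK LD1_c2 LD2_c13 LD3_c3)) :=
  Lre_e IH (LK LD1_c1 LD2_c3 LD3_c35) (LK LD1_c2 LD2_c13 LD3_c3) Lrfl Lrfl
theorem f380002 : Led Lsl_ft (LP (LK LD1_c2 LD2_c13 LD3_c3)) = (LP (LK LD1_c4 LD2_c32 LD3_c6)) :=
  Lre_f IH (LK LD1_c2 LD2_c13 LD3_c3) (LK LD1_c4 LD2_c32 LD3_c6) Lrfl Lrfl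
theorem f380123 : Led Lsl_ef (LP (LK LD1_c2 LD2_c46 LD3_c21)) = (LP (LK LD1_c4 LD2_c32 LD3_c6)) :=
  Lgr Lrot21 (Lpr_ft (f380122 IH) (Lpr_et (f225534 IH) (Lpr_ft (f380116 IH) (Lpr_et (f174896 IH) (Lpr_ft (f380002 IH) (Lpn (LP (LK LD1_c4 LD2_c32 LD3_c6))))))))
theorem f380132 : Led Lsl_et (LP (LK LD1_c2 LD2_c46 LD3_c21)) = (LP (LK LD1_c4 LD2_c32 LD3_c6)) :=
  Lgr Lrot87 (Lpr_ef (f380123 IH) (Lpn (LP (LK LD1_c4 LD2_c32 LD3_c6))))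
theorem f380136 : Led Lsl_bt (LP (LK LD1_c5 LD2_c40 LD3_c35)) = (LP (LK LD1_c2 LD2_c46 LD3_c21)) :=
  Lre_b IH (LK LD1_c5 LD2_c40 LD3_c35) (LK LD1_c2 LD2_c46 LD3_c21) Lrfl Lrfl
theorem f380008 : Led Lsl_bt (LP (LK LD1_c4 LD2_c32 LD3_c6)) = (LP (LK LD1_c9 LD2_c1 LD3_c50)) :=
  Lre_b IH (LK LD1_c4 LD2_c32 LD3_c6) (LK LD1_c9 LD2_c1 LD3_c50) Lrfl Lrfl
theorem f380137 : Led Lsl_ef (LP (LK LD1_c5 LD2_c40 LD3_c35)) = (LP (LK LD1_c9 LD2_c1 LD3_c50)) :=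
  Lgr Lrot29 (Lpr_bt (f380136 IH) (Lpr_et (f380132 IH) (Lpr_bt (f380008 IH) (Lpn (LP (LK LD1_c9 LD2_c1 LD3_c50))))))
theorem f380146 : Led Lsl_ft (LP (LK LD1_c5 LD2_c40 LD3_c35)) = (LP (LK LD1_c2 LD2_c46 LD3_c13)) :=
  Lre_f IH (LK LD1_c5 LD2_c40 LD3_c35) (LK LD1_c2 LD2_c46 LD3_c13) Lrfl Lrfl
theorem f380147 : Led Lsl_et (LP (LK LD1_c2 LD2_c46 LD3_c13)) = (LP (LK LD1_c1 LD2_c19 LD3_c28)) :=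
  Lre_e IH (LK LD1_c2 LD2_c46 LD3_c13) (LK LD1_c1 LD2_c19 LD3_c28) Lrfl Lrfl
theorem f380148 : Led Lsl_ft (LP (LK LD1_c4 LD2_c32 LD3_c0)) = (LP (LK LD1_c9 LD2_c1 LD3_c50)) :=
  Lre_f IH (LK LD1_c4 LD2_c32 LD3_c0) (LK LD1_c9 LD2_c1 LD3_c50) Lrfl Lrfl
theorem f174838 : Led Lsl_et (LP (LK LD1_c2 LD2_c13 LD3_c1)) = (LP (LK LD1_c4 LD2_c32 LD3_c0)) :=
  Lre_e IH (LK LD1_c2 LD2_c13 LD3_c1) (LK LD1_c4 LD2_c32 LD3_c0) Lrfl Lrfl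
theorem f380149 : Led Lsl_ft (LP (LK LD1_c1 LD2_c19 LD3_c28)) = (LP (LK LD1_c2 LD2_c13 LD3_c1)) :=
  Lgr Lrot86 (Lpe (f380147 IH) (Lpe (f380146 IH) (Lpr_ef (f380137 IH) (Lpe (f380148 IH) (Lpe (f174838 IH) (Lpn (LP (LK LD1_c2 LD2_c13 LD3_c1))))))))
theorem f380167 : Led Lsl_dt (LP (LK LD1_c1 LD2_c19 LD3_c28)) = (LP (LK LD1_c0 LD2_c36 LD3_c41)) :=
  Lre_d IH (LK LD1_c1 LD2_c19 LD3_c28) (LK LD1_c0 LD2_c36 LD3_c41) Lrfl Lrfl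
theorem f172309 : Led Lsl_bt (LP (LK LD1_c0 LD2_c36 LD3_c41)) = (LP (LK LD1_c0 LD2_c16 LD3_c23)) :=
  Lre_b IH (LK LD1_c0 LD2_c36 LD3_c41) (LK LD1_c0 LD2_c16 LD3_c23) Lrfl Lrfl
theorem f174929 : Led Lsl_ct (LP (LK LD1_c0 LD2_c36 LD3_c41)) = (LP (LK LD1_c0 LD2_c36 LD3_c41)) :=
  Lgr Lrot83 (Lpe (f174928 IH) (Lpe (K9.f171299 IH) (Lpr_bf (K9.f174922 IH) (Lpe (K9.f171266 IH) (Lpe (f172309 IH) (Lpn (LP (LK LD1_c0 LD2_c36 LD3_c41))))))))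
theorem f380161 : Led Lsl_dt (LP (LK LD1_c0 LD2_c36 LD3_c41)) = (LP (LK LD1_c1 LD2_c19 LD3_c28)) :=
  Lre_d IH (LK LD1_c0 LD2_c36 LD3_c41) (LK LD1_c1 LD2_c19 LD3_c28) Lrfl Lrfl
theorem f226758 : Led Lsl_ct (LP (LK LD1_c1 LD2_c19 LD3_c28)) = (LP (LK LD1_c2 LD2_c46 LD3_c12)) :=
  Lre_c IH (LK LD1_c1 LD2_c19 LD3_c28) (LK LD1_c2 LD2_c46 LD3_c12) Lrfl Lrfl
theorem f380168 : Led Lsl_dt (LP (LK LD1_c2 LD2_c46 LD3_c12)) = (LP (LK LD1_c5 LD2_c40 LD3_c31)) :=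
  Lre_d IH (LK LD1_c2 LD2_c46 LD3_c12) (LK LD1_c5 LD2_c40 LD3_c31) Lrfl Lrfl
theorem f380169 : Led Lsl_ct (LP (LK LD1_c5 LD2_c40 LD3_c31)) = (LP (LK LD1_c11 LD2_c11 LD3_c46)) :=
  Lre_c IH (LK LD1_c5 LD2_c40 LD3_c31) (LK LD1_c11 LD2_c11 LD3_c46) Lrfl Lrfl
theorem f380155 : Led Lsl_at (LP (LK LD1_c2 LD2_c13 LD3_c1)) = (LP (LK LD1_c4 LD2_c31 LD3_c59)) :=
  Lre_a IH (LK LD1_c2 LD2_c13 LD3_c1) (LK LD1_c4 LD2_c31 LD3_c59) Lrfl Lrfl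
theorem f181700 : Led Lsl_ct (LP (LK LD1_c9 LD2_c1 LD3_c41)) = (LP (LK LD1_c4 LD2_c31 LD3_c59)) :=
  Lre_c IH (LK LD1_c9 LD2_c1 LD3_c41) (LK LD1_c4 LD2_c31 LD3_c59) Lrfl Lrfl
theorem f380170 : Led Lsl_dt (LP (LK LD1_c11 LD2_c11 LD3_c46)) = (LP (LK LD1_c9 LD2_c1 LD3_c41)) :=
  Lgr Lrot120 (Lpe (f380169 IH) (Lpe (f380168 IH) (Lpe (f226758 IH) (Lpe (f380161 IH) (Lpe (f174929 IH) (Lpe (f380167 IH) (Lpr_ft (f380149 IH) (Lpr_at (f380155 IH) (Lpe (f181700 IH) (Lpn (LP (LK LD1_c9 LD2_c1 LD3_c41))))))))))))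
theorem f181699 : Led Lsl_dt (LP (LK LD1_c4 LD2_c31 LD3_c59)) = (LP (LK LD1_c2 LD2_c13 LD3_c0)) :=
  Lre_d IH (LK LD1_c4 LD2_c31 LD3_c59) (LK LD1_c2 LD2_c13 LD3_c0) Lrfl Lrfl
theorem f181462 : Led Lsl_at (LP (LK LD1_c2 LD2_c13 LD3_c0)) = (LP (LK LD1_c1 LD2_c3 LD3_c34)) :=
  Lre_a IH (LK LD1_c2 LD2_c13 LD3_c0) (LK LD1_c1 LD2_c3 LD3_c34) Lrfl Lrfl
theorem f181463 : Led Lsl_at (LP (LK LD1_c1 LD2_c3 LD3_c34)) = (LP (LK LD1_c2 LD2_c13 LD3_c0)) :=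
  Lre_a IH (LK LD1_c1 LD2_c3 LD3_c34) (LK LD1_c2 LD2_c13 LD3_c0) Lrfl Lrfl
theorem f181464 : Led Lsl_cf (LP (LK LD1_c2 LD2_c13 LD3_c0)) = (LP (LK LD1_c2 LD2_c13 LD3_c0)) :=
  Lgr Lrot1 (Lpr_at (f181462 IH) (Lpr_ct (K10.f181460 IH) (Lpr_at (f181463 IH) (Lpn (LP (LK LD1_c2 LD2_c13 LD3_c0))))))
theorem f181697 : Led Lsl_dt (LP (LK LD1_c2 LD2_c13 LD3_c0)) = (LP (LK LD1_c4 LD2_c31 LD3_c59)) :=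
  Lre_d IH (LK LD1_c2 LD2_c13 LD3_c0) (LK LD1_c4 LD2_c31 LD3_c59) Lrfl Lrfl
theorem f181698 : Led Lsl_ct (LP (LK LD1_c4 LD2_c31 LD3_c59)) = (LP (LK LD1_c9 LD2_c1 LD3_c41)) :=
  Lre_c IH (LK LD1_c4 LD2_c31 LD3_c59) (LK LD1_c9 LD2_c1 LD3_c41) Lrfl Lrfl
theorem f181703 : Led Lsl_at (LP (LK LD1_c4 LD2_c31 LD3_c61)) = (LP (LK LD1_c9 LD2_c1 LD3_c41)) :=
  Lre_a IH (LK LD1_c4 LD2_c31 LD3_c61) (LK LD1_c9 LD2_c1 LD3_c41) Lrfl Lrfl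
theorem f380184 : Led Lsl_ft (LP (LK LD1_c2 LD2_c46 LD3_c12)) = (LP (LK LD1_c4 LD2_c31 LD3_c61)) :=
  Lgr Lrot142 (Lpr_dt (f380168 IH) (Lpr_ct (f380169 IH) (Lpr_dt (f380170 IH) (Lpr_ct (f181700 IH) (Lpr_dt (f181699 IH) (Lpe (f181464 IH) (Lpr_dt (f181697 IH) (Lpr_ct (f181698 IH) (Lpe (f181703 IH) (Lpn (LP (LK LD1_c4 LD2_c31 LD3_c61))))))))))))
theorem f289445 : Led Lsl_dt (LP (LK LD1_c5 LD2_c40 LD3_c31)) = (LP (LK LD1_c2 LD2_c46 LD3_c12)) :=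
  Lre_d IH (LK LD1_c5 LD2_c40 LD3_c31) (LK LD1_c2 LD2_c46 LD3_c12) Lrfl Lrfl
theorem f181466 : Led Lsl_dt (LP (LK LD1_c4 LD2_c31 LD3_c61)) = (LP (LK LD1_c9 LD2_c1 LD3_c45)) :=
  Lre_d IH (LK LD1_c4 LD2_c31 LD3_c61) (LK LD1_c9 LD2_c1 LD3_c45) Lrfl Lrfl
theorem f380193 : Led Lsl_ff (LP (LK LD1_c5 LD2_c40 LD3_c31)) = (LP (LK LD1_c9 LD2_c1 LD3_c45)) :=
  Lgr Lrot19 (Lpr_dt (f289445 IH) (Lpr_ft (f380184 IH) (Lpr_dt (f181466 IH) (Lpn (LP (LK LD1_c9 LD2_c1 LD3_c45))))))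
theorem f380206 : Led Lsl_at (LP (LK LD1_c5 LD2_c40 LD3_c31)) = (LP (LK LD1_c11 LD2_c11 LD3_c21)) :=
  Lre_a IH (LK LD1_c5 LD2_c40 LD3_c31) (LK LD1_c11 LD2_c11 LD3_c21) Lrfl Lrfl
theorem f174834 : Led Lsl_dt (LP (LK LD1_c9 LD2_c1 LD3_c45)) = (LP (LK LD1_c4 LD2_c31 LD3_c61)) :=
  Lre_d IH (LK LD1_c9 LD2_c1 LD3_c45) (LK LD1_c4 LD2_c31 LD3_c61) Lrfl Lrfl
theorem f174833 : Led Lsl_ct (LP (LK LD1_c4 LD2_c31 LD3_c61)) = (LP (LK LD1_c2 LD2_c13 LD3_c1)) :=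
  Lre_c IH (LK LD1_c4 LD2_c31 LD3_c61) (LK LD1_c2 LD2_c13 LD3_c1) Lrfl Lrfl
theorem f174837 : Led Lsl_dt (LP (LK LD1_c2 LD2_c13 LD3_c1)) = (LP (LK LD1_c1 LD2_c3 LD3_c34)) :=
  Lre_d IH (LK LD1_c2 LD2_c13 LD3_c1) (LK LD1_c1 LD2_c3 LD3_c34) Lrfl Lrfl
theorem f174832 : Led Lsl_dt (LP (LK LD1_c1 LD2_c3 LD3_c34)) = (LP (LK LD1_c2 LD2_c13 LD3_c1)) :=
  Lre_d IH (LK LD1_c1 LD2_c3 LD3_c34) (LK LD1_c2 LD2_c13 LD3_c1) Lrfl Lrfl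
theorem f174835 : Led Lsl_ct (LP (LK LD1_c2 LD2_c13 LD3_c1)) = (LP (LK LD1_c4 LD2_c31 LD3_c61)) :=
  Lre_c IH (LK LD1_c2 LD2_c13 LD3_c1) (LK LD1_c4 LD2_c31 LD3_c61) Lrfl Lrfl
theorem f380212 : Led Lsl_cf (LP (LK LD1_c11 LD2_c11 LD3_c21)) = (LP (LK LD1_c9 LD2_c1 LD3_c45)) :=
  Lgr Lrot102 (Lpe (f380206 IH) (Lpr_ff (f380193 IH) (Lpr_dt (f174834 IH) (Lpr_ct (f174833 IH) (Lpr_dt (f174837 IH) (Lpr_ct (K10.f181460 IH) (Lpr_dt (f174832 IH) (Lpr_ct (f174835 IH) (Lpr_dt (f181466 IH) (Lpn (LP (LK LD1_c9 LD2_c1 LD3_c45))))))))))))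
theorem f380216 : Led Lsl_dt (LP (LK LD1_c11 LD2_c11 LD3_c21)) = (LP (LK LD1_c5 LD2_c40 LD3_c21)) :=
  Lre_d IH (LK LD1_c11 LD2_c11 LD3_c21) (LK LD1_c5 LD2_c40 LD3_c21) Lrfl Lrfl
theorem f380217 : Led Lsl_ct (LP (LK LD1_c5 LD2_c40 LD3_c21)) = (LP (LK LD1_c2 LD2_c46 LD3_c9)) :=
  Lre_c IH (LK LD1_c5 LD2_c40 LD3_c21) (LK LD1_c2 LD2_c46 LD3_c9) Lrfl Lrfl
theorem f380218 : Led Lsl_dt (LP (LK LD1_c2 LD2_c46 LD3_c9)) = (LP (LK LD1_c1 LD2_c19 LD3_c27)) :=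
  Lre_d IH (LK LD1_c2 LD2_c46 LD3_c9) (LK LD1_c1 LD2_c19 LD3_c27) Lrfl Lrfl
theorem f289444 : Led Lsl_ct (LP (LK LD1_c2 LD2_c46 LD3_c12)) = (LP (LK LD1_c1 LD2_c19 LD3_c28)) :=
  Lre_c IH (LK LD1_c2 LD2_c46 LD3_c12) (LK LD1_c1 LD2_c19 LD3_c28) Lrfl Lrfl
theorem f380177 : Led Lsl_ct (LP (LK LD1_c11 LD2_c11 LD3_c46)) = (LP (LK LD1_c5 LD2_c40 LD3_c31)) :=
  Lre_c IH (LK LD1_c11 LD2_c11 LD3_c46) (LK LD1_c5 LD2_c40 LD3_c31) Lrfl Lrfl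
theorem f380178 : Led Lsl_df (LP (LK LD1_c11 LD2_c11 LD3_c46)) = (LP (LK LD1_c9 LD2_c1 LD3_c41)) :=
  Lgr Lrot43 (Lpr_ct (f380177 IH) (Lpr_dt (f289445 IH) (Lpr_ct (f289444 IH) (Lpr_dt (f380167 IH) (Lpr_ct (f174929 IH) (Lpr_dt (f380161 IH) (Lpr_ct (f226758 IH) (Lpr_dt (f380168 IH) (Lpr_ct (f380169 IH) (Lpr_dt (f380170 IH) (Lpr_ct (f181700 IH) (Lpr_dt (f181699 IH) (Lpe (f181464 IH) (Lpr_dt (f181697 IH) (Lpr_ct (f181698 IH) (Lpn (LP (LK LD1_c9 LD2_c1 LD3_c41))))))))))))))))))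
theorem f380181 : Led Lsl_at (LP (LK LD1_c11 LD2_c11 LD3_c21)) = (LP (LK LD1_c5 LD2_c40 LD3_c31)) :=
  Lre_a IH (LK LD1_c11 LD2_c11 LD3_c21) (LK LD1_c5 LD2_c40 LD3_c31) Lrfl Lrfl
theorem f380182 : Led Lsl_ft (LP (LK LD1_c11 LD2_c11 LD3_c46)) = (LP (LK LD1_c11 LD2_c11 LD3_c21)) :=
  Lgr Lrot142 (Lpr_dt (f380170 IH) (Lpr_ct (f181700 IH) (Lpr_dt (f181699 IH) (Lpe (f181464 IH) (Lpr_dt (f181697 IH) (Lpr_ct (f181698 IH) (Lpe (f380178 IH) (Lpr_ct (f380177 IH) (Lpe (f380181 IH) (Lpn (LP (LK LD1_c11 LD2_c11 LD3_c21))))))))))))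
theorem f380207 : Led Lsl_ct (LP (LK LD1_c11 LD2_c11 LD3_c21)) = (LP (LK LD1_c9 LD2_c1 LD3_c45)) :=
  Lgr Lrot40 (Lpe (f380182 IH) (Lpe (f380169 IH) (Lpr_ff (f380193 IH) (Lpn (LP (LK LD1_c9 LD2_c1 LD3_c45))))))
theorem f380219 : Led Lsl_dt (LP (LK LD1_c5 LD2_c40 LD3_c21)) = (LP (LK LD1_c11 LD2_c11 LD3_c21)) :=
  Lre_d IH (LK LD1_c5 LD2_c40 LD3_c21) (LK LD1_c11 LD2_c11 LD3_c21) Lrfl Lrfl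
theorem f380220 : Led Lsl_ct (LP (LK LD1_c2 LD2_c46 LD3_c9)) = (LP (LK LD1_c5 LD2_c40 LD3_c21)) :=
  Lre_c IH (LK LD1_c2 LD2_c46 LD3_c9) (LK LD1_c5 LD2_c40 LD3_c21) Lrfl Lrfl
theorem f380221 : Led Lsl_dt (LP (LK LD1_c1 LD2_c19 LD3_c27)) = (LP (LK LD1_c2 LD2_c46 LD3_c9)) :=
  Lre_d IH (LK LD1_c1 LD2_c19 LD3_c27) (LK LD1_c2 LD2_c46 LD3_c9) Lrfl Lrfl
theorem f380222 : Led Lsl_ct (LP (LK LD1_c1 LD2_c19 LD3_c27)) = (LP (LK LD1_c1 LD2_c19 LD3_c27)) :=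
  Lgr Lrot176 (Lpe (f380218 IH) (Lpe (f380217 IH) (Lpe (f380216 IH) (Lpr_cf (f380212 IH) (Lpe (f181466 IH) (Lpe (f174835 IH) (Lpe (f174832 IH) (Lpe (K10.f181460 IH) (Lpe (f174837 IH) (Lpe (f174833 IH) (Lpe (f174834 IH) (Lpe (f380207 IH) (Lpe (f380219 IH) (Lpe (f380220 IH) (Lpe (f380221 IH) (Lpn (LP (LK LD1_c1 LD2_c19 LD3_c27))))))))))))))))))
theorem f380231 : Led Lsl_at (LP (LK LD1_c4 LD2_c31 LD3_c59)) = (LP (LK LD1_c2 LD2_c13 LD3_c1)) :=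
  Lre_a IH (LK LD1_c4 LD2_c31 LD3_c59) (LK LD1_c2 LD2_c13 LD3_c1) Lrfl Lrfl
theorem f380232 : Led Lsl_ft (LP (LK LD1_c2 LD2_c46 LD3_c9)) = (LP (LK LD1_c4 LD2_c31 LD3_c59)) :=
  Lgr Lrot142 (Lpr_dt (f380218 IH) (Lpr_ct (f380222 IH) (Lpr_dt (f380221 IH) (Lpr_ct (f380220 IH) (Lpr_dt (f380219 IH) (Lpr_ct (f380207 IH) (Lpr_dt (f174834 IH) (Lpr_ct (f174833 IH) (Lpe (f380231 IH) (Lpn (LP (LK LD1_c4 LD2_c31 LD3_c59))))))))))))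
theorem f380234 : Led Lsl_ff (LP (LK LD1_c1 LD2_c19 LD3_c27)) = (LP (LK LD1_c2 LD2_c13 LD3_c0)) :=
  Lgr Lrot19 (Lpr_dt (f380221 IH) (Lpr_ft (f380232 IH) (Lpr_dt (f181699 IH) (Lpn (LP (LK LD1_c2 LD2_c13 LD3_c0))))))
theorem f380230 : Led Lsl_at (LP (LK LD1_c1 LD2_c19 LD3_c27)) = (LP (LK LD1_c0 LD2_c36 LD3_c41)) :=
  Lre_a IH (LK LD1_c1 LD2_c19 LD3_c27) (LK LD1_c0 LD2_c36 LD3_c41) Lrfl Lrfl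
theorem f181225 : Led Lsl_gt (LP (LK LD1_c1 LD2_c19 LD3_c26)) = (LP (LK LD1_c0 LD2_c36 LD3_c41)) :=
  Lre_g IH (LK LD1_c1 LD2_c19 LD3_c26) (LK LD1_c0 LD2_c36 LD3_c41) Lrfl Lrfl
theorem f380248 : Led Lsl_gf (LP (LK LD1_c1 LD2_c19 LD3_c26)) = (LP (LK LD1_c2 LD2_c13 LD3_c0)) :=
  Lgr Lrot47 (Lpr_gt (f181225 IH) (Lpe (f380230 IH) (Lpr_ff (f380234 IH) (Lpn (LP (LK LD1_c2 LD2_c13 LD3_c0))))))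
theorem f181226 : Led Lsl_ct (LP (LK LD1_c2 LD2_c46 LD3_c8)) = (LP (LK LD1_c1 LD2_c19 LD3_c26)) :=
  Lre_c IH (LK LD1_c2 LD2_c46 LD3_c8) (LK LD1_c1 LD2_c19 LD3_c26) Lrfl Lrfl
theorem f181227 : Led Lsl_bf (LP (LK LD1_c2 LD2_c13 LD3_c15)) = (LP (LK LD1_c2 LD2_c46 LD3_c8)) :=
  Lgr Lrot34 (Lpe (f174542 IH) (Lpe (f174537 IH) (Lpe (K9.f174518 IH) (Lpr_gf (K9.f181216 IH) (Lpe (K12.f20815 IH) (Lpe (K9.f172137 IH) (Lpe (f172309 IH) (Lpr_ct (f174929 IH) (Lpe (f181225 IH) (Lpe (f181226 IH) (Lpn (LP (LK LD1_c2 LD2_c46 LD3_c8)))))))))))))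
theorem f268873 : Led Lsl_ct (LP (LK LD1_c2 LD2_c47 LD3_c16)) = (LP (LK LD1_c1 LD2_c19 LD3_c61)) :=
  Lre_c IH (LK LD1_c2 LD2_c47 LD3_c16) (LK LD1_c1 LD2_c19 LD3_c61) Lrfl Lrfl
theorem f268876 : Led Lsl_dt (LP (LK LD1_c5 LD2_c42 LD3_c34)) = (LP (LK LD1_c2 LD2_c47 LD3_c16)) :=
  Lre_d IH (LK LD1_c5 LD2_c42 LD3_c34) (LK LD1_c2 LD2_c47 LD3_c16) Lrfl Lrfl
theorem f280473 : Led Lsl_at (LP (LK LD1_c8 LD2_c43 LD3_c35)) = (LP (LK LD1_c4 LD2_c22 LD3_c54)) :=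
  Lre_a IH (LK LD1_c8 LD2_c43 LD3_c35) (LK LD1_c4 LD2_c22 LD3_c54) Lrfl Lrfl
theorem f280474 : Led Lsl_ft (LP (LK LD1_c5 LD2_c42 LD3_c34)) = (LP (LK LD1_c8 LD2_c43 LD3_c35)) :=
  Lgr Lrot142 (Lpr_dt (f268876 IH) (Lpr_ct (f268873 IH) (Lpr_dt (K16.f268839 IH) (Lpr_ct (K16.f268844 IH) (Lpr_dt (K16.f280398 IH) (Lpr_ct (K16.f280415 IH) (Lpr_dt (K16.f181776 IH) (Lpr_ct (K16.f181747 IH) (Lpe (f280473 IH) (Lpn (LP (LK LD1_c8 LD2_c43 LD3_c35))))))))))))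
theorem f280477 : Led Lsl_ff (LP (LK LD1_c2 LD2_c47 LD3_c16)) = (LP (LK LD1_c4 LD2_c22 LD3_c53)) :=
  Lgr Lrot19 (Lpr_dt (K16.f280381 IH) (Lpr_ft (f280474 IH) (Lpr_dt (K16.f181764 IH) (Lpn (LP (LK LD1_c4 LD2_c22 LD3_c53))))))
theorem f172739 : Led Lsl_at (LP (LK LD1_c2 LD2_c47 LD3_c16)) = (LP (LK LD1_c1 LD2_c20 LD3_c0)) :=
  Lre_a IH (LK LD1_c2 LD2_c47 LD3_c16) (LK LD1_c1 LD2_c20 LD3_c0) Lrfl Lrfl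
theorem f172854 : Led Lsl_gt (LP (LK LD1_c2 LD2_c47 LD3_c20)) = (LP (LK LD1_c1 LD2_c20 LD3_c0)) :=
  Lre_g IH (LK LD1_c2 LD2_c47 LD3_c20) (LK LD1_c1 LD2_c20 LD3_c0) Lrfl Lrfl
theorem f280495 : Led Lsl_gf (LP (LK LD1_c2 LD2_c47 LD3_c20)) = (LP (LK LD1_c4 LD2_c22 LD3_c53)) :=
  Lgr Lrot47 (Lpr_gt (f172854 IH) (Lpe (f172739 IH) (Lpr_ff (f280477 IH) (Lpn (LP (LK LD1_c4 LD2_c22 LD3_c53))))))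
theorem f280504 : Led Lsl_ct (LP (LK LD1_c2 LD2_c46 LD3_c5)) = (LP (LK LD1_c2 LD2_c47 LD3_c20)) :=
  Lre_c IH (LK LD1_c2 LD2_c46 LD3_c5) (LK LD1_c2 LD2_c47 LD3_c20) Lrfl Lrfl
theorem f280505 : Led Lsl_bt (LP (LK LD1_c2 LD2_c46 LD3_c5)) = (LP (LK LD1_c1 LD2_c19 LD3_c25)) :=
  Lre_b IH (LK LD1_c2 LD2_c46 LD3_c5) (LK LD1_c1 LD2_c19 LD3_c25) Lrfl Lrfl
theorem f380251 : Led Lsl_gt (LP (LK LD1_c1 LD2_c19 LD3_c25)) = (LP (LK LD1_c2 LD2_c13 LD3_c0)) :=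
  Lgr Lrot82 (Lpe (f280505 IH) (Lpr_ct (f280504 IH) (Lpr_gf (f280495 IH) (Lpr_cf (K16.f181762 IH) (Lpe (K16.f280509 IH) (Lpr_gf (f269080 IH) (Lpr_bf (f181227 IH) (Lpr_ct (f181226 IH) (Lpr_gf (f380248 IH) (Lpr_cf (f181464 IH) (Lpn (LP (LK LD1_c2 LD2_c13 LD3_c0)))))))))))))
theorem f281790 : Led Lsl_bt (LP (LK LD1_c4 LD2_c31 LD3_c47)) = (LP (LK LD1_c2 LD2_c12 LD3_c54)) :=
  Lre_b IH (LK LD1_c4 LD2_c31 LD3_c47) (LK LD1_c2 LD2_c12 LD3_c54) Lrfl Lrfl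
theorem f281789 : Led Lsl_ct (LP (LK LD1_c4 LD2_c31 LD3_c47)) = (LP (LK LD1_c4 LD2_c32 LD3_c32)) :=
  Lre_c IH (LK LD1_c4 LD2_c31 LD3_c47) (LK LD1_c4 LD2_c32 LD3_c32) Lrfl Lrfl
theorem f452551 : Led Lsl_bt (LP (LK LD1_c2 LD2_c13 LD3_c0)) = v384 :=
  Lgr Lrot92 (Lpe (f181464 IH) (Lpe (f380248 IH) (Lpe (f181226 IH) (Lpe (f181227 IH) (Lpe (f269080 IH) (Lpr_ct (f269084 IH) (Lpr_gt (f281785 IH) (Lpe (f281789 IH) (Lpr_bt (f281790 IH) (Lpr_gt (f452550 IH) (Lpn v384)))))))))))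
def v1222 : LQ := Led Lsl_at (LP (LK LD1_c1 LD2_c3 LD3_c29))
theorem f494097 : Led Lsl_at (LP (LK LD1_c1 LD2_c3 LD3_c29)) = v1222 :=
  Lrfl
theorem f494100 : Led Lsl_ff v384 = v1222 :=
  Lgr Lrot30 (Lpe (f452548 IH) (Lpe (K24.f379938 IH) (Lpr_at (f494097 IH) (Lpn v1222))))
theorem f494103 : Led Lsl_ft v384 = v1222 :=
  Lgr Lrot48 (Lpr_ff (f494100 IH) (Lpn v1222))
theorem f494098 : Led Lsl_af (LP (LK LD1_c1 LD2_c3 LD3_c29)) = v1222 :=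
  Lgr Lrot0 (Lpr_at (f494097 IH) (Lpn v1222))
theorem f381684 : Led Lsl_gt (LP (LK LD1_c2 LD2_c12 LD3_c55)) = (LP (LK LD1_c1 LD2_c3 LD3_c29)) :=
  Lre_g IH (LK LD1_c2 LD2_c12 LD3_c55) (LK LD1_c1 LD2_c3 LD3_c29) Lrfl Lrfl
theorem f494105 : Led Lsl_gt v384 = (LP (LK LD1_c2 LD2_c12 LD3_c55)) :=
  Lgr Lrot5 (Lpr_ft (f494103 IH) (Lpe (f494098 IH) (Lpe (f381684 IH) (Lpn (LP (LK LD1_c2 LD2_c12 LD3_c55))))))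
theorem f381685 : Led Lsl_bt (LP (LK LD1_c4 LD2_c31 LD3_c48)) = (LP (LK LD1_c2 LD2_c12 LD3_c55)) :=
  Lre_b IH (LK LD1_c4 LD2_c31 LD3_c48) (LK LD1_c2 LD2_c12 LD3_c55) Lrfl Lrfl
theorem f495861 : Led Lsl_ct (LP (LK LD1_c4 LD2_c31 LD3_c48)) = v1498 :=
  Lgr Lrot64 (Lpr_bt (f381685 IH) (Lpe (f494105 IH) (Lpe (f452551 IH) (Lpe (f181464 IH) (Lpe (f380251 IH) (Lpe (f380257 IH) (Lpe (f382011 IH) (Lpe (K27.f381963 IH) (Lpe (K27.f381724 IH) (Lpr_gf (f495859 IH) (Lpn v1498)))))))))))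
theorem f495865 : Led Lsl_cf (LP (LK LD1_c4 LD2_c31 LD3_c48)) = v1498 :=
  Lgr Lrot11 (Lpr_ct (f495861 IH) (Lpn v1498))
theorem f381720 : Led Lsl_ft (LP (LK LD1_c2 LD2_c47 LD3_c44)) = (LP (LK LD1_c1 LD2_c20 LD3_c9)) :=
  Lre_f IH (LK LD1_c2 LD2_c47 LD3_c44) (LK LD1_c1 LD2_c20 LD3_c9) Lrfl Lrfl
theorem f381721 : Led Lsl_af (LP (LK LD1_c1 LD2_c20 LD3_c8)) = (LP (LK LD1_c1 LD2_c20 LD3_c9)) :=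
  Lgr Lrot45 (Lpr_ft (K27.f381716 IH) (Lpr_at (K27.f381649 IH) (Lpr_ft (f381720 IH) (Lpn (LP (LK LD1_c1 LD2_c20 LD3_c9))))))
theorem f495860 : Led Lsl_gt (LP (LK LD1_c2 LD2_c47 LD3_c44)) = v1498 :=
  Lgr Lrot5 (Lpr_ft (f381720 IH) (Lpe (f381721 IH) (Lpr_gf (f495859 IH) (Lpn v1498))))
theorem f171854 : Led Lsl_dt (LP (LK LD1_c1 LD2_c20 LD3_c21)) = (LP (LK LD1_c0 LD2_c37 LD3_c7)) :=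
  Lre_d IH (LK LD1_c1 LD2_c20 LD3_c21) (LK LD1_c0 LD2_c37 LD3_c7) Lrfl Lrfl
theorem f310095 : Led Lsl_ct (LP (LK LD1_c2 LD2_c48 LD3_c0)) = (LP (LK LD1_c5 LD2_c44 LD3_c0)) :=
  Lre_c IH (LK LD1_c2 LD2_c48 LD3_c0) (LK LD1_c5 LD2_c44 LD3_c0) Lrfl Lrfl
theorem f174748 : Led Lsl_bt (LP (LK LD1_c0 LD2_c37 LD3_c12)) = (LP (LK LD1_c1 LD2_c20 LD3_c21)) :=
  Lre_b IH (LK LD1_c0 LD2_c37 LD3_c12) (LK LD1_c1 LD2_c20 LD3_c21) Lrfl Lrfl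
theorem f382420 : Led Lsl_gt (LP (LK LD1_c4 LD2_c31 LD3_c7)) = (LP (LK LD1_c2 LD2_c12 LD3_c31)) :=
  Lre_g IH (LK LD1_c4 LD2_c31 LD3_c7) (LK LD1_c2 LD2_c12 LD3_c31) Lrfl Lrfl
theorem f382421 : Led Lsl_bt (LP (LK LD1_c9 LD2_c0 LD3_c13)) = (LP (LK LD1_c4 LD2_c31 LD3_c7)) :=
  Lre_b IH (LK LD1_c9 LD2_c0 LD3_c13) (LK LD1_c4 LD2_c31 LD3_c7) Lrfl Lrfl
theorem f382422 : Led Lsl_cf (LP (LK LD1_c11 LD2_c17 LD3_c55)) = (LP (LK LD1_c9 LD2_c0 LD3_c13)) :=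
  Lgr Lrot163 (Lpr_gf (K27.f382416 IH) (Lpe (f310095 IH) (Lpe (K27.f255976 IH) (Lpe (f174748 IH) (Lpr_ct (K9.f169302 IH) (Lpe (K15.f9236 IH) (Lpe (f225166 IH) (Lpr_bt (f225163 IH) (Lpe (f382420 IH) (Lpe (f382421 IH) (Lpn (LP (LK LD1_c9 LD2_c0 LD3_c13)))))))))))))
theorem f382427 : Led Lsl_ct (LP (LK LD1_c11 LD2_c17 LD3_c55)) = (LP (LK LD1_c9 LD2_c0 LD3_c13)) :=
  Lgr Lrot59 (Lpr_cf (f382422 IH) (Lpn (LP (LK LD1_c9 LD2_c0 LD3_c13))))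
theorem f495866 : Led Lsl_dt (LP (LK LD1_c4 LD2_c31 LD3_c48)) = (LP (LK LD1_c9 LD2_c0 LD3_c13)) :=
  Lgr Lrot27 (Lpr_cf (f495865 IH) (Lpe (f495860 IH) (Lpe (K27.f381643 IH) (Lpr_gf (K27.f381668 IH) (Lpe (f171854 IH) (Lpr_gt (K27.f255976 IH) (Lpr_ct (f310095 IH) (Lpe (K27.f382416 IH) (Lpr_ct (f382427 IH) (Lpn (LP (LK LD1_c9 LD2_c0 LD3_c13))))))))))))
theorem f495867 : Led Lsl_dt (LP (LK LD1_c4 LD2_c31 LD3_c48)) = (LP (LK LD1_c9 LD2_c0 LD3_c13)) :=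
  Leop (Lpe (f495866 IH) (Lpn (LP (LK LD1_c4 LD2_c31 LD3_c48))))
theorem seed_111 : LEOK LG_d (LK LD1_c4 LD2_c31 LD3_c48) :=
  Leoe_d (LK LD1_c4 LD2_c31 LD3_c48) (f495867 IH)
theorem f381491 : Led Lsl_at (LP (LK LD1_c1 LD2_c20 LD3_c11)) = (LP (LK LD1_c0 LD2_c37 LD3_c4)) :=
  Lre_a IH (LK LD1_c1 LD2_c20 LD3_c11) (LK LD1_c0 LD2_c37 LD3_c4) Lrfl Lrfl
theorem f381700 : Led Lsl_bt (LP (LK LD1_c0 LD2_c37 LD3_c4)) = (LP (LK LD1_c1 LD2_c20 LD3_c12)) :=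
  Lre_b IH (LK LD1_c0 LD2_c37 LD3_c4) (LK LD1_c1 LD2_c20 LD3_c12) Lrfl Lrfl
theorem f381702 : Led Lsl_at (LP (LK LD1_c2 LD2_c47 LD3_c44)) = (LP (LK LD1_c1 LD2_c20 LD3_c13)) :=
  Lre_a IH (LK LD1_c2 LD2_c47 LD3_c44) (LK LD1_c1 LD2_c20 LD3_c13) Lrfl Lrfl
theorem f381703 : Led Lsl_bt (LP (LK LD1_c2 LD2_c47 LD3_c51)) = (LP (LK LD1_c2 LD2_c47 LD3_c44)) :=
  Lgr Lrot62 (Lpe (K27.f381701 IH) (Lpe (f381700 IH) (Lpe (f381491 IH) (Lpr_bf (K27.f381687 IH) (Lpe (f381702 IH) (Lpn (LP (LK LD1_c2 LD2_c47 LD3_c44))))))))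
theorem f381824 : Led Lsl_at (LP (LK LD1_c2 LD2_c47 LD3_c51)) = (LP (LK LD1_c1 LD2_c20 LD3_c12)) :=
  Lre_a IH (LK LD1_c2 LD2_c47 LD3_c51) (LK LD1_c1 LD2_c20 LD3_c12) Lrfl Lrfl
theorem f181471 : Led Lsl_gt (LP (LK LD1_c2 LD2_c47 LD3_c42)) = (LP (LK LD1_c2 LD2_c46 LD3_c42)) :=
  Lgr Lrot82 (Lpe (K27.f174921 IH) (Lpr_ct (K27.f174920 IH) (Lpe (K27.f76147 IH) (Lpe (K27.f168868 IH) (Lpr_bt (K27.f40722 IH) (Lpr_gf (K9.f174886 IH) (Lpe (K10.f174895 IH) (Lpr_ct (K10.f181460 IH) (Lpe (K10.f174831 IH) (Lpe (K10.f181469 IH) (Lpn (LP (LK LD1_c2 LD2_c46 LD3_c42)))))))))))))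
theorem f381829 : Led Lsl_gf (LP (LK LD1_c1 LD2_c20 LD3_c12)) = (LP (LK LD1_c2 LD2_c46 LD3_c42)) :=
  Lgr Lrot76 (Lpe (f381824 IH) (Lpr_ff (K27.f381822 IH) (Lpr_gt (f181471 IH) (Lpn (LP (LK LD1_c2 LD2_c46 LD3_c42))))))
theorem f174821 : Led Lsl_bt (LP (LK LD1_c2 LD2_c12 LD3_c61)) = (LP (LK LD1_c4 LD2_c31 LD3_c57)) :=
  Lre_b IH (LK LD1_c2 LD2_c12 LD3_c61) (LK LD1_c4 LD2_c31 LD3_c57) Lrfl Lrfl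
theorem f172334 : Led Lsl_bt (LP (LK LD1_c0 LD2_c36 LD3_c19)) = (LP (LK LD1_c1 LD2_c18 LD3_c48)) :=
  Lre_b IH (LK LD1_c0 LD2_c36 LD3_c19) (LK LD1_c1 LD2_c18 LD3_c48) Lrfl Lrfl
theorem f172335 : Led Lsl_gt (LP (LK LD1_c1 LD2_c18 LD3_c48)) = (LP (LK LD1_c2 LD2_c44 LD3_c60)) :=
  Lre_g IH (LK LD1_c1 LD2_c18 LD3_c48) (LK LD1_c2 LD2_c44 LD3_c60) Lrfl Lrfl
theorem f172337 : Led Lsl_bt (LP (LK LD1_c5 LD2_c38 LD3_c8)) = (LP (LK LD1_c2 LD2_c44 LD3_c60)) :=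
  Lre_b IH (LK LD1_c5 LD2_c38 LD3_c8) (LK LD1_c2 LD2_c44 LD3_c60) Lrfl Lrfl
theorem f168255 : Led Lsl_bt (LP (LK LD1_c1 LD2_c20 LD3_c25)) = (LP (LK LD1_c0 LD2_c37 LD3_c9)) :=
  Lre_b IH (LK LD1_c1 LD2_c20 LD3_c25) (LK LD1_c0 LD2_c37 LD3_c9) Lrfl Lrfl
theorem f168259 : Led Lsl_ct (LP (LK LD1_c1 LD2_c20 LD3_c25)) = (LP (LK LD1_c2 LD2_c48 LD3_c29)) :=
  Lre_c IH (LK LD1_c1 LD2_c20 LD3_c25) (LK LD1_c2 LD2_c48 LD3_c29) Lrfl Lrfl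
theorem f168269 : Led Lsl_gt (LP (LK LD1_c5 LD2_c45 LD3_c25)) = (LP (LK LD1_c2 LD2_c48 LD3_c29)) :=
  Lre_g IH (LK LD1_c5 LD2_c45 LD3_c25) (LK LD1_c2 LD2_c48 LD3_c29) Lrfl Lrfl
theorem f172338 : Led Lsl_ct (LP (LK LD1_c5 LD2_c38 LD3_c8)) = (LP (LK LD1_c5 LD2_c45 LD3_c25)) :=
  Lgr Lrot64 (Lpr_bt (f172337 IH) (Lpe (f172335 IH) (Lpe (f172334 IH) (Lpr_ct (K9.f172301 IH) (Lpe (K9.f168230 IH) (Lpe (K9.f168229 IH) (Lpe (K9.f22481 IH) (Lpe (f168255 IH) (Lpr_ct (f168259 IH) (Lpe (f168269 IH) (Lpn (LP (LK LD1_c5 LD2_c45 LD3_c25)))))))))))))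
theorem f211903 : Led Lsl_bt (LP (LK LD1_c2 LD2_c44 LD3_c60)) = (LP (LK LD1_c5 LD2_c38 LD3_c8)) :=
  Lre_b IH (LK LD1_c2 LD2_c44 LD3_c60) (LK LD1_c5 LD2_c38 LD3_c8) Lrfl Lrfl
theorem f402631 : Led Lsl_ct (LP (LK LD1_c5 LD2_c38 LD3_c9)) = (LP (LK LD1_c2 LD2_c44 LD3_c60)) :=
  Lre_c IH (LK LD1_c5 LD2_c38 LD3_c9) (LK LD1_c2 LD2_c44 LD3_c60) Lrfl Lrfl
theorem f422861 : Led Lsl_bt (LP (LK LD1_c11 LD2_c7 LD3_c34)) = (LP (LK LD1_c5 LD2_c38 LD3_c9)) :=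
  Lre_b IH (LK LD1_c11 LD2_c7 LD3_c34) (LK LD1_c5 LD2_c38 LD3_c9) Lrfl Lrfl
theorem f422862 : Led Lsl_bt (LP (LK LD1_c5 LD2_c45 LD3_c25)) = (LP (LK LD1_c11 LD2_c21 LD3_c18)) :=
  Lre_b IH (LK LD1_c5 LD2_c45 LD3_c25) (LK LD1_c11 LD2_c21 LD3_c18) Lrfl Lrfl
theorem f422863 : Led Lsl_cf (LP (LK LD1_c11 LD2_c7 LD3_c34)) = (LP (LK LD1_c11 LD2_c21 LD3_c18)) :=
  Lgr Lrot97 (Lpr_bt (f422861 IH) (Lpr_ct (f402631 IH) (Lpr_bt (f211903 IH) (Lpr_ct (f172338 IH) (Lpr_bt (f422862 IH) (Lpn (LP (LK LD1_c11 LD2_c21 LD3_c18))))))))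
theorem f402634 : Led Lsl_gt (LP (LK LD1_c20 LD2_c0 LD3_c59)) = (LP (LK LD1_c11 LD2_c7 LD3_c34)) :=
  Lre_g IH (LK LD1_c20 LD2_c0 LD3_c59) (LK LD1_c11 LD2_c7 LD3_c34) Lrfl Lrfl
theorem f385501 : Led Lsl_bt (LP (LK LD1_c11 LD2_c21 LD3_c18)) = (LP (LK LD1_c5 LD2_c45 LD3_c25)) :=
  Lre_b IH (LK LD1_c11 LD2_c21 LD3_c18) (LK LD1_c5 LD2_c45 LD3_c25) Lrfl Lrfl
theorem f172402 : Led Lsl_bt (LP (LK LD1_c5 LD2_c29 LD3_c14)) = (LP (LK LD1_c2 LD2_c48 LD3_c29)) :=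
  Lgr Lrot128 (Lpe (K13.f168544 IH) (Lpe (K13.f172401 IH) (Lpr_cf (K9.f172399 IH) (Lpe (f168255 IH) (Lpe (f168264 IH) (Lpn (LP (LK LD1_c2 LD2_c48 LD3_c29))))))))
theorem f172412 : Led Lsl_gt (LP (LK LD1_c2 LD2_c40 LD3_c50)) = (LP (LK LD1_c5 LD2_c29 LD3_c12)) :=
  Lre_g IH (LK LD1_c2 LD2_c40 LD3_c50) (LK LD1_c5 LD2_c29 LD3_c12) Lrfl Lrfl
theorem f172921 : Led Lsl_ct (LP (LK LD1_c10 LD2_c49 LD3_c41)) = (LP (LK LD1_c5 LD2_c29 LD3_c12)) :=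
  Lre_c IH (LK LD1_c10 LD2_c49 LD3_c41) (LK LD1_c5 LD2_c29 LD3_c12) Lrfl Lrfl
theorem f172935 : Led Lsl_bt (LP (LK LD1_c10 LD2_c49 LD3_c41)) = (LP (LK LD1_c19 LD2_c34 LD3_c16)) :=
  Lre_b IH (LK LD1_c10 LD2_c49 LD3_c41) (LK LD1_c19 LD2_c34 LD3_c16) Lrfl Lrfl
theorem f332685 : Led Lsl_ft (LP (LK LD1_c4 LD2_c14 LD3_c27)) = (LP (LK LD1_c4 LD2_c4 LD3_c39)) :=
  Lgr Lrot54 (Lpr_df (K22.f238459 IH) (Lpe (K20.f319735 IH) (Lpr_df (K22.f332676 IH) (Lpn (LP (LK LD1_c4 LD2_c4 LD3_c39))))))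
theorem f238465 : Led Lsl_gt (LP (LK LD1_c4 LD2_c14 LD3_c27)) = (LP (LK LD1_c8 LD2_c27 LD3_c36)) :=
  Lre_g IH (LK LD1_c4 LD2_c14 LD3_c27) (LK LD1_c8 LD2_c27 LD3_c36) Lrfl Lrfl
theorem f332712 : Led Lsl_at (LP (LK LD1_c4 LD2_c4 LD3_c39)) = (LP (LK LD1_c8 LD2_c10 LD3_c7)) :=
  Lre_a IH (LK LD1_c4 LD2_c4 LD3_c39) (LK LD1_c8 LD2_c10 LD3_c7) Lrfl Lrfl
theorem f396727 : Led Lsl_gt (LP (LK LD1_c8 LD2_c27 LD3_c36)) = (LP (LK LD1_c8 LD2_c10 LD3_c7)) :=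
  Lgr Lrot46 (Lpe (f238465 IH) (Lpr_ft (f332685 IH) (Lpr_at (f332712 IH) (Lpn (LP (LK LD1_c8 LD2_c10 LD3_c7))))))
theorem f243671 : Led Lsl_ct (LP (LK LD1_c15 LD2_c53 LD3_c11)) = (LP (LK LD1_c8 LD2_c27 LD3_c36)) :=
  Lre_c IH (LK LD1_c15 LD2_c53 LD3_c11) (LK LD1_c8 LD2_c27 LD3_c36) Lrfl Lrfl
theorem f243704 : Led Lsl_bt (LP (LK LD1_c15 LD2_c53 LD3_c11)) = (LP (LK LD1_c25 LD2_c49 LD3_c11)) :=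
  Lre_b IH (LK LD1_c15 LD2_c53 LD3_c11) (LK LD1_c25 LD2_c49 LD3_c11) Lrfl Lrfl
theorem f245699 : Led Lsl_bt (LP (LK LD1_c2 LD2_c41 LD3_c29)) = (LP (LK LD1_c4 LD2_c29 LD3_c17)) :=
  Lgr Lrot127 (Lpr_bf (K13.f245694 IH) (Lpn (LP (LK LD1_c4 LD2_c29 LD3_c17))))
theorem f245266 : Led Lsl_gt (LP (LK LD1_c2 LD2_c40 LD3_c47)) = (LP (LK LD1_c4 LD2_c29 LD3_c17)) :=
  Lgr Lrot46 (Lpe (K22.f172945 IH) (Lpr_ft (K13.f245250 IH) (Lpr_at (K13.f245249 IH) (Lpn (LP (LK LD1_c4 LD2_c29 LD3_c17))))))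
theorem f384923 : Led Lsl_gt (LP (LK LD1_c8 LD2_c9 LD3_c47)) = (LP (LK LD1_c5 LD2_c39 LD3_c5)) :=
  Lgr Lrot149 (Lpe (f354512 IH) (Lpr_gf (f319294 IH) (Lpe (f178083 IH) (Lpe (f179224 IH) (Lpr_gf (f384914 IH) (Lpe (f222636 IH) (Lpr_bt (f245699 IH) (Lpe (f245266 IH) (Lpe (K22.f179302 IH) (Lpr_ct (K22.f179304 IH) (Lpn (LP (LK LD1_c5 LD2_c39 LD3_c5)))))))))))))
theorem f245405 : Led Lsl_at (LP (LK LD1_c5 LD2_c27 LD3_c58)) = (LP (LK LD1_c2 LD2_c40 LD3_c18)) :=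
  Lre_a IH (LK LD1_c5 LD2_c27 LD3_c58) (LK LD1_c2 LD2_c40 LD3_c18) Lrfl Lrfl
theorem f244949 : Led Lsl_gt (LP (LK LD1_c5 LD2_c27 LD3_c57)) = (LP (LK LD1_c2 LD2_c40 LD3_c18)) :=
  Lre_g IH (LK LD1_c5 LD2_c27 LD3_c57) (LK LD1_c2 LD2_c40 LD3_c18) Lrfl Lrfl
theorem f245411 : Led Lsl_gf (LP (LK LD1_c5 LD2_c27 LD3_c57)) = (LP (LK LD1_c8 LD2_c56 LD3_c35)) :=
  Lgr Lrot47 (Lpr_gt (f244949 IH) (Lpe (f245405 IH) (Lpr_ff (f245397 IH) (Lpn (LP (LK LD1_c8 LD2_c56 LD3_c35))))))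
theorem f226849 : Led Lsl_ct (LP (LK LD1_c15 LD2_c22 LD3_c10)) = (LP (LK LD1_c25 LD2_c13 LD3_c49)) :=
  Lre_c IH (LK LD1_c15 LD2_c22 LD3_c10) (LK LD1_c25 LD2_c13 LD3_c49) Lrfl Lrfl
theorem f179425 : Led Lsl_ct (LP (LK LD1_c19 LD2_c33 LD3_c29)) = (LP (LK LD1_c11 LD2_c8 LD3_c39)) :=
  Lgr Lrot59 (Lpr_cf (K22.f179415 IH) (Lpn (LP (LK LD1_c11 LD2_c8 LD3_c39))))
theorem f331936 : Led Lsl_ft (LP (LK LD1_c25 LD2_c13 LD3_c49)) = (LP (LK LD1_c19 LD2_c33 LD3_c29)) :=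
  Lgr Lrot4 (Lpe (f226849 IH) (Lpr_ff (K22.f331931 IH) (Lpe (f179425 IH) (Lpn (LP (LK LD1_c19 LD2_c33 LD3_c29))))))
theorem f319151 : Led Lsl_bt (LP (LK LD1_c4 LD2_c29 LD3_c15)) = (LP (LK LD1_c8 LD2_c56 LD3_c43)) :=
  Lre_b IH (LK LD1_c4 LD2_c29 LD3_c15) (LK LD1_c8 LD2_c56 LD3_c43) Lrfl Lrfl
theorem f226524 : Led Lsl_ct (LP (LK LD1_c8 LD2_c56 LD3_c44)) = (LP (LK LD1_c4 LD2_c29 LD3_c15)) :=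
  Lre_c IH (LK LD1_c8 LD2_c56 LD3_c44) (LK LD1_c4 LD2_c29 LD3_c15) Lrfl Lrfl
theorem f319152 : Led Lsl_bt (LP (LK LD1_c16 LD2_c44 LD3_c48)) = (LP (LK LD1_c8 LD2_c56 LD3_c44)) :=
  Lre_b IH (LK LD1_c16 LD2_c44 LD3_c48) (LK LD1_c8 LD2_c56 LD3_c44) Lrfl Lrfl
theorem f319153 : Led Lsl_bt (LP (LK LD1_c8 LD2_c9 LD3_c46)) = (LP (LK LD1_c15 LD2_c22 LD3_c30)) :=
  Lre_b IH (LK LD1_c8 LD2_c9 LD3_c46) (LK LD1_c15 LD2_c22 LD3_c30) Lrfl Lrfl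
theorem f319154 : Led Lsl_cf (LP (LK LD1_c16 LD2_c44 LD3_c48)) = (LP (LK LD1_c15 LD2_c22 LD3_c30)) :=
  Lgr Lrot97 (Lpr_bt (f319152 IH) (Lpr_ct (f226524 IH) (Lpr_bt (f319151 IH) (Lpr_ct (f319148 IH) (Lpr_bt (f319153 IH) (Lpn (LP (LK LD1_c15 LD2_c22 LD3_c30))))))))
theorem f314901 : Led Lsl_bt (LP (LK LD1_c15 LD2_c22 LD3_c30)) = (LP (LK LD1_c8 LD2_c9 LD3_c46)) :=
  Lre_b IH (LK LD1_c15 LD2_c22 LD3_c30) (LK LD1_c8 LD2_c9 LD3_c46) Lrfl Lrfl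
theorem f319211 : Led Lsl_gf (LP (LK LD1_c16 LD2_c44 LD3_c48)) = (LP (LK LD1_c25 LD2_c13 LD3_c49)) :=
  Lgr Lrot129 (Lpr_cf (f319154 IH) (Lpr_bt (f314901 IH) (Lpr_gt (f314900 IH) (Lpe (K19.f223737 IH) (Lpr_ct (K12.f211474 IH) (Lpr_gt (K12.f200702 IH) (Lpe (K12.f200711 IH) (Lpr_bt (K14.f223683 IH) (Lpr_gt (K22.f223702 IH) (Lpr_ct (f226849 IH) (Lpn (LP (LK LD1_c25 LD2_c13 LD3_c49)))))))))))))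
theorem f223684 : Led Lsl_gt (LP (LK LD1_c15 LD2_c22 LD3_c11)) = (LP (LK LD1_c8 LD2_c9 LD3_c35)) :=
  Lre_g IH (LK LD1_c15 LD2_c22 LD3_c11) (LK LD1_c8 LD2_c9 LD3_c35) Lrfl Lrfl
theorem f247303 : Led Lsl_ct (LP (LK LD1_c25 LD2_c13 LD3_c51)) = (LP (LK LD1_c15 LD2_c22 LD3_c11)) :=
  Lre_c IH (LK LD1_c25 LD2_c13 LD3_c51) (LK LD1_c15 LD2_c22 LD3_c11) Lrfl Lrfl
theorem f245065 : Led Lsl_bt (LP (LK LD1_c4 LD2_c29 LD3_c9)) = (LP (LK LD1_c2 LD2_c11 LD3_c41)) :=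
  Lre_b IH (LK LD1_c4 LD2_c29 LD3_c9) (LK LD1_c2 LD2_c11 LD3_c41) Lrfl Lrfl
theorem f226403 : Led Lsl_ct (LP (LK LD1_c4 LD2_c29 LD3_c9)) = (LP (LK LD1_c2 LD2_c11 LD3_c43)) :=
  Lre_c IH (LK LD1_c4 LD2_c29 LD3_c9) (LK LD1_c2 LD2_c11 LD3_c43) Lrfl Lrfl
theorem f226525 : Led Lsl_bt (LP (LK LD1_c8 LD2_c56 LD3_c44)) = (LP (LK LD1_c16 LD2_c44 LD3_c48)) :=
  Lre_b IH (LK LD1_c8 LD2_c56 LD3_c44) (LK LD1_c16 LD2_c44 LD3_c48) Lrfl Lrfl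
theorem f247304 : Led Lsl_gf (LP (LK LD1_c25 LD2_c13 LD3_c51)) = (LP (LK LD1_c16 LD2_c44 LD3_c48)) :=
  Lgr Lrot181 (Lpr_ct (f247303 IH) (Lpr_gt (f223684 IH) (Lpr_cf (K14.f247281 IH) (Lpr_bt (K14.f213840 IH) (Lpr_gt (K14.f213783 IH) (Lpe (f245065 IH) (Lpr_ct (f226403 IH) (Lpr_gt (f179765 IH) (Lpe (f226524 IH) (Lpr_bt (f226525 IH) (Lpn (LP (LK LD1_c16 LD2_c44 LD3_c48)))))))))))))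
theorem f331940 : Led Lsl_af (LP (LK LD1_c25 LD2_c13 LD3_c51)) = (LP (LK LD1_c19 LD2_c33 LD3_c29)) :=
  Lgr Lrot31 (Lpr_gf (f247304 IH) (Lpr_gf (f319211 IH) (Lpr_ft (f331936 IH) (Lpn (LP (LK LD1_c19 LD2_c33 LD3_c29))))))
theorem f331944 : Led Lsl_at (LP (LK LD1_c15 LD2_c22 LD3_c11)) = (LP (LK LD1_c11 LD2_c8 LD3_c39)) :=
  Lgr Lrot107 (Lpe (f247303 IH) (Lpr_af (f331940 IH) (Lpr_cf (K22.f179415 IH) (Lpn (LP (LK LD1_c11 LD2_c8 LD3_c39))))))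
theorem f244554 : Led Lsl_gt (LP (LK LD1_c11 LD2_c8 LD3_c40)) = (LP (LK LD1_c5 LD2_c38 LD3_c54)) :=
  Lre_g IH (LK LD1_c11 LD2_c8 LD3_c40) (LK LD1_c5 LD2_c38 LD3_c54) Lrfl Lrfl
theorem f331950 : Led Lsl_ff (LP (LK LD1_c15 LD2_c22 LD3_c11)) = (LP (LK LD1_c11 LD2_c8 LD3_c40)) :=
  Lgr Lrot52 (Lpr_at (f331944 IH) (Lpe (K18.f179414 IH) (Lpe (f244554 IH) (Lpn (LP (LK LD1_c11 LD2_c8 LD3_c40))))))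
theorem f331956 : Led Lsl_ft (LP (LK LD1_c15 LD2_c22 LD3_c11)) = (LP (LK LD1_c11 LD2_c8 LD3_c40)) :=
  Lgr Lrot48 (Lpr_ff (f331950 IH) (Lpn (LP (LK LD1_c11 LD2_c8 LD3_c40))))
theorem f179408 : Led Lsl_ct (LP (LK LD1_c11 LD2_c8 LD3_c40)) = (LP (LK LD1_c19 LD2_c28 LD3_c47)) :=
  Lre_c IH (LK LD1_c11 LD2_c8 LD3_c40) (LK LD1_c19 LD2_c28 LD3_c47) Lrfl Lrfl
theorem f331960 : Led Lsl_ff (LP (LK LD1_c25 LD2_c13 LD3_c51)) = (LP (LK LD1_c19 LD2_c28 LD3_c47)) :=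
  Lgr Lrot23 (Lpr_ct (f247303 IH) (Lpr_ft (f331956 IH) (Lpr_ct (f179408 IH) (Lpn (LP (LK LD1_c19 LD2_c28 LD3_c47))))))
theorem f177982 : Led Lsl_gt (LP (LK LD1_c8 LD2_c56 LD3_c26)) = (LP (LK LD1_c16 LD2_c44 LD3_c7)) :=
  Lre_g IH (LK LD1_c8 LD2_c56 LD3_c26) (LK LD1_c16 LD2_c44 LD3_c7) Lrfl Lrfl
theorem f247306 : Led Lsl_bt (LP (LK LD1_c25 LD2_c13 LD3_c51)) = (LP (LK LD1_c16 LD2_c44 LD3_c7)) :=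
  Lgr Lrot92 (Lpr_ct (f247303 IH) (Lpr_gt (f223684 IH) (Lpr_cf (K14.f247281 IH) (Lpr_bt (K14.f213840 IH) (Lpr_gt (K14.f213783 IH) (Lpr_ct (K14.f187232 IH) (Lpr_gt (K16.f167759 IH) (Lpe (K16.f177943 IH) (Lpr_bt (K22.f177961 IH) (Lpr_gt (f177982 IH) (Lpn (LP (LK LD1_c16 LD2_c44 LD3_c7)))))))))))))
theorem f244664 : Led Lsl_bt (LP (LK LD1_c10 LD2_c46 LD3_c17)) = (LP (LK LD1_c19 LD2_c28 LD3_c47)) :=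
  Lre_b IH (LK LD1_c10 LD2_c46 LD3_c17) (LK LD1_c19 LD2_c28 LD3_c47) Lrfl Lrfl
theorem f331987 : Led Lsl_ft (LP (LK LD1_c16 LD2_c44 LD3_c7)) = (LP (LK LD1_c10 LD2_c46 LD3_c17)) :=
  Lgr Lrot75 (Lpe (f247306 IH) (Lpr_ff (f331960 IH) (Lpe (f244664 IH) (Lpn (LP (LK LD1_c10 LD2_c46 LD3_c17))))))
theorem f331992 : Led Lsl_ff (LP (LK LD1_c16 LD2_c44 LD3_c7)) = (LP (LK LD1_c10 LD2_c46 LD3_c17)) :=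
  Lgr Lrot3 (Lpr_ft (f331987 IH) (Lpn (LP (LK LD1_c10 LD2_c46 LD3_c17))))
theorem f178173 : Led Lsl_bt (LP (LK LD1_c0 LD2_c36 LD3_c8)) = (LP (LK LD1_c1 LD2_c18 LD3_c28)) :=
  Lre_b IH (LK LD1_c0 LD2_c36 LD3_c8) (LK LD1_c1 LD2_c18 LD3_c28) Lrfl Lrfl
theorem f178047 : Led Lsl_gt (LP (LK LD1_c1 LD2_c18 LD3_c28)) = (LP (LK LD1_c2 LD2_c44 LD3_c14)) :=
  Lre_g IH (LK LD1_c1 LD2_c18 LD3_c28) (LK LD1_c2 LD2_c44 LD3_c14) Lrfl Lrfl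
theorem f226411 : Led Lsl_bt (LP (LK LD1_c5 LD2_c36 LD3_c45)) = (LP (LK LD1_c2 LD2_c44 LD3_c14)) :=
  Lre_b IH (LK LD1_c5 LD2_c36 LD3_c45) (LK LD1_c2 LD2_c44 LD3_c14) Lrfl Lrfl
theorem f177929 : Led Lsl_bt (LP (LK LD1_c2 LD2_c11 LD3_c43)) = (LP (LK LD1_c1 LD2_c2 LD3_c52)) :=
  Lre_b IH (LK LD1_c2 LD2_c11 LD3_c43) (LK LD1_c1 LD2_c2 LD3_c52) Lrfl Lrfl
theorem f177930 : Led Lsl_ct (LP (LK LD1_c2 LD2_c11 LD3_c43)) = (LP (LK LD1_c4 LD2_c29 LD3_c9)) :=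
  Lre_c IH (LK LD1_c2 LD2_c11 LD3_c43) (LK LD1_c4 LD2_c29 LD3_c9) Lrfl Lrfl
theorem f226412 : Led Lsl_gt (LP (LK LD1_c8 LD2_c56 LD3_c34)) = (LP (LK LD1_c4 LD2_c29 LD3_c9)) :=
  Lre_g IH (LK LD1_c8 LD2_c56 LD3_c34) (LK LD1_c4 LD2_c29 LD3_c9) Lrfl Lrfl
theorem f226413 : Led Lsl_ct (LP (LK LD1_c5 LD2_c36 LD3_c45)) = (LP (LK LD1_c8 LD2_c56 LD3_c34)) :=
  Lgr Lrot64 (Lpr_bt (f226411 IH) (Lpe (f178047 IH) (Lpe (f178173 IH) (Lpr_ct (K12.f172321 IH) (Lpe (K12.f177852 IH) (Lpe (K12.f177860 IH) (Lpr_gf (K12.f226401 IH) (Lpe (f177929 IH) (Lpr_ct (f177930 IH) (Lpe (f226412 IH) (Lpn (LP (LK LD1_c8 LD2_c56 LD3_c34)))))))))))))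
theorem f226420 : Led Lsl_bt (LP (LK LD1_c2 LD2_c44 LD3_c14)) = (LP (LK LD1_c5 LD2_c36 LD3_c45)) :=
  Lre_b IH (LK LD1_c2 LD2_c44 LD3_c14) (LK LD1_c5 LD2_c36 LD3_c45) Lrfl Lrfl
theorem f178048 : Led Lsl_ct (LP (LK LD1_c5 LD2_c36 LD3_c46)) = (LP (LK LD1_c2 LD2_c44 LD3_c14)) :=
  Lre_c IH (LK LD1_c5 LD2_c36 LD3_c46) (LK LD1_c2 LD2_c44 LD3_c14) Lrfl Lrfl
theorem f226421 : Led Lsl_bt (LP (LK LD1_c11 LD2_c5 LD3_c40)) = (LP (LK LD1_c5 LD2_c36 LD3_c46)) :=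
  Lre_b IH (LK LD1_c11 LD2_c5 LD3_c40) (LK LD1_c5 LD2_c36 LD3_c46) Lrfl Lrfl
theorem f226422 : Led Lsl_bt (LP (LK LD1_c8 LD2_c56 LD3_c34)) = (LP (LK LD1_c16 LD2_c44 LD3_c29)) :=
  Lre_b IH (LK LD1_c8 LD2_c56 LD3_c34) (LK LD1_c16 LD2_c44 LD3_c29) Lrfl Lrfl
theorem f226423 : Led Lsl_cf (LP (LK LD1_c11 LD2_c5 LD3_c40)) = (LP (LK LD1_c16 LD2_c44 LD3_c29)) :=
  Lgr Lrot97 (Lpr_bt (f226421 IH) (Lpr_ct (f178048 IH) (Lpr_bt (f226420 IH) (Lpr_ct (f226413 IH) (Lpr_bt (f226422 IH) (Lpn (LP (LK LD1_c16 LD2_c44 LD3_c29))))))))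
theorem f178062 : Led Lsl_gt (LP (LK LD1_c19 LD2_c58 LD3_c48)) = (LP (LK LD1_c11 LD2_c5 LD3_c40)) :=
  Lre_g IH (LK LD1_c19 LD2_c58 LD3_c48) (LK LD1_c11 LD2_c5 LD3_c40) Lrfl Lrfl
theorem f226495 : Led Lsl_bt (LP (LK LD1_c16 LD2_c44 LD3_c29)) = (LP (LK LD1_c8 LD2_c56 LD3_c34)) :=
  Lre_b IH (LK LD1_c16 LD2_c44 LD3_c29) (LK LD1_c8 LD2_c56 LD3_c34) Lrfl Lrfl
theorem f218084 : Led Lsl_bt (LP (LK LD1_c2 LD2_c11 LD3_c41)) = (LP (LK LD1_c4 LD2_c29 LD3_c9)) :=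
  Lre_b IH (LK LD1_c2 LD2_c11 LD3_c41) (LK LD1_c4 LD2_c29 LD3_c9) Lrfl Lrfl
theorem f226522 : Led Lsl_cf (LP (LK LD1_c19 LD2_c58 LD3_c48)) = (LP (LK LD1_c16 LD2_c44 LD3_c7)) :=
  Lgr Lrot125 (Lpr_gt (f178062 IH) (Lpr_cf (f226423 IH) (Lpr_bt (f226495 IH) (Lpr_gt (f226412 IH) (Lpe (f218084 IH) (Lpr_ct (K14.f187232 IH) (Lpr_gt (K16.f167759 IH) (Lpe (K16.f177943 IH) (Lpr_bt (K22.f177961 IH) (Lpr_gt (f177982 IH) (Lpn (LP (LK LD1_c16 LD2_c44 LD3_c7)))))))))))))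
theorem f235840 : Led Lsl_ct (LP (LK LD1_c19 LD2_c28 LD3_c48)) = (LP (LK LD1_c10 LD2_c46 LD3_c17)) :=
  Lre_c IH (LK LD1_c19 LD2_c28 LD3_c48) (LK LD1_c10 LD2_c46 LD3_c17) Lrfl Lrfl
theorem f331994 : Led Lsl_ft (LP (LK LD1_c19 LD2_c58 LD3_c48)) = (LP (LK LD1_c19 LD2_c28 LD3_c48)) :=
  Lgr Lrot4 (Lpr_cf (f226522 IH) (Lpr_ff (f331992 IH) (Lpe (f235840 IH) (Lpn (LP (LK LD1_c19 LD2_c28 LD3_c48))))))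
theorem f177944 : Led Lsl_bt (LP (LK LD1_c8 LD2_c56 LD3_c26)) = (LP (LK LD1_c4 LD2_c29 LD3_c5)) :=
  Lre_b IH (LK LD1_c8 LD2_c56 LD3_c26) (LK LD1_c4 LD2_c29 LD3_c5) Lrfl Lrfl
theorem f177945 : Led Lsl_bt (LP (LK LD1_c2 LD2_c43 LD3_c46)) = (LP (LK LD1_c5 LD2_c35 LD3_c41)) :=
  Lre_b IH (LK LD1_c2 LD2_c43 LD3_c46) (LK LD1_c5 LD2_c35 LD3_c41) Lrfl Lrfl
theorem f177946 : Led Lsl_cf (LP (LK LD1_c8 LD2_c56 LD3_c26)) = (LP (LK LD1_c5 LD2_c35 LD3_c41)) :=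
  Lgr Lrot97 (Lpr_bt (f177944 IH) (Lpr_ct (K16.f177943 IH) (Lpr_bt (K16.f177942 IH) (Lpr_ct (K16.f177937 IH) (Lpr_bt (f177945 IH) (Lpn (LP (LK LD1_c5 LD2_c35 LD3_c41))))))))
theorem f177985 : Led Lsl_gt (LP (LK LD1_c16 LD2_c44 LD3_c8)) = (LP (LK LD1_c8 LD2_c56 LD3_c26)) :=
  Lre_g IH (LK LD1_c16 LD2_c44 LD3_c8) (LK LD1_c8 LD2_c56 LD3_c26) Lrfl Lrfl
theorem f178052 : Led Lsl_bt (LP (LK LD1_c2 LD2_c43 LD3_c40)) = (LP (LK LD1_c5 LD2_c35 LD3_c25)) :=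
  Lre_b IH (LK LD1_c2 LD2_c43 LD3_c40) (LK LD1_c5 LD2_c35 LD3_c25) Lrfl Lrfl
theorem f178053 : Led Lsl_gt (LP (LK LD1_c5 LD2_c35 LD3_c25)) = (LP (LK LD1_c11 LD2_c2 LD3_c59)) :=
  Lre_g IH (LK LD1_c5 LD2_c35 LD3_c25) (LK LD1_c11 LD2_c2 LD3_c59) Lrfl Lrfl
theorem f178054 : Led Lsl_bt (LP (LK LD1_c19 LD2_c54 LD3_c27)) = (LP (LK LD1_c11 LD2_c2 LD3_c59)) :=
  Lre_b IH (LK LD1_c19 LD2_c54 LD3_c27) (LK LD1_c11 LD2_c2 LD3_c59) Lrfl Lrfl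
theorem f178055 : Led Lsl_cf (LP (LK LD1_c16 LD2_c44 LD3_c8)) = (LP (LK LD1_c19 LD2_c54 LD3_c27)) :=
  Lgr Lrot160 (Lpr_gt (f177985 IH) (Lpr_cf (f177946 IH) (Lpr_bt (K22.f177962 IH) (Lpr_gt (K16.f177936 IH) (Lpr_ct (K12.f177955 IH) (Lpr_gt (K13.f178050 IH) (Lpe (K13.f178051 IH) (Lpr_bt (f178052 IH) (Lpr_gt (f178053 IH) (Lpe (f178054 IH) (Lpn (LP (LK LD1_c19 LD2_c54 LD3_c27)))))))))))))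
theorem f178045 : Led Lsl_bt (LP (LK LD1_c2 LD2_c43 LD3_c47)) = (LP (LK LD1_c1 LD2_c18 LD3_c16)) :=
  Lre_b IH (LK LD1_c2 LD2_c43 LD3_c47) (LK LD1_c1 LD2_c18 LD3_c16) Lrfl Lrfl
theorem f178049 : Led Lsl_bt (LP (LK LD1_c5 LD2_c36 LD3_c46)) = (LP (LK LD1_c11 LD2_c5 LD3_c40)) :=
  Lre_b IH (LK LD1_c5 LD2_c36 LD3_c46) (LK LD1_c11 LD2_c5 LD3_c40) Lrfl Lrfl
theorem f178060 : Led Lsl_gt (LP (LK LD1_c11 LD2_c5 LD3_c40)) = (LP (LK LD1_c19 LD2_c54 LD3_c27)) :=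
  Lgr Lrot82 (Lpe (f178049 IH) (Lpr_ct (f178048 IH) (Lpe (f178047 IH) (Lpe (f178046 IH) (Lpr_bt (f178045 IH) (Lpe (K16.f177936 IH) (Lpe (K22.f177962 IH) (Lpe (f177946 IH) (Lpe (f177985 IH) (Lpr_cf (f178055 IH) (Lpn (LP (LK LD1_c19 LD2_c54 LD3_c27)))))))))))))
theorem f331997 : Led Lsl_af (LP (LK LD1_c19 LD2_c54 LD3_c27)) = (LP (LK LD1_c19 LD2_c28 LD3_c48)) :=
  Lgr Lrot31 (Lpe (f178060 IH) (Lpe (f178062 IH) (Lpr_ft (f331994 IH) (Lpn (LP (LK LD1_c19 LD2_c28 LD3_c48))))))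
theorem f235839 : Led Lsl_ct (LP (LK LD1_c10 LD2_c46 LD3_c17)) = (LP (LK LD1_c19 LD2_c28 LD3_c48)) :=
  Lre_c IH (LK LD1_c10 LD2_c46 LD3_c17) (LK LD1_c19 LD2_c28 LD3_c48) Lrfl Lrfl
theorem f332001 : Led Lsl_at (LP (LK LD1_c16 LD2_c44 LD3_c8)) = (LP (LK LD1_c10 LD2_c46 LD3_c17)) :=
  Lgr Lrot107 (Lpr_cf (f178055 IH) (Lpr_af (f331997 IH) (Lpe (f235839 IH) (Lpn (LP (LK LD1_c10 LD2_c46 LD3_c17))))))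
theorem f235834 : Led Lsl_gt (LP (LK LD1_c5 LD2_c27 LD3_c37)) = (LP (LK LD1_c10 LD2_c46 LD3_c17)) :=
  Lre_g IH (LK LD1_c5 LD2_c27 LD3_c37) (LK LD1_c10 LD2_c46 LD3_c17) Lrfl Lrfl
theorem f235842 : Led Lsl_gt (LP (LK LD1_c10 LD2_c46 LD3_c18)) = (LP (LK LD1_c5 LD2_c27 LD3_c37)) :=
  Lre_g IH (LK LD1_c10 LD2_c46 LD3_c18) (LK LD1_c5 LD2_c27 LD3_c37) Lrfl Lrfl
theorem f332005 : Led Lsl_ff (LP (LK LD1_c16 LD2_c44 LD3_c8)) = (LP (LK LD1_c10 LD2_c46 LD3_c18)) :=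
  Lgr Lrot52 (Lpr_at (f332001 IH) (Lpe (f235834 IH) (Lpe (f235842 IH) (Lpn (LP (LK LD1_c10 LD2_c46 LD3_c18))))))
theorem f332011 : Led Lsl_ft (LP (LK LD1_c16 LD2_c44 LD3_c8)) = (LP (LK LD1_c10 LD2_c46 LD3_c18)) :=
  Lgr Lrot48 (Lpr_ff (f332005 IH) (Lpn (LP (LK LD1_c10 LD2_c46 LD3_c18))))
theorem f235854 : Led Lsl_ct (LP (LK LD1_c10 LD2_c46 LD3_c18)) = (LP (LK LD1_c19 LD2_c28 LD3_c50)) :=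
  Lre_c IH (LK LD1_c10 LD2_c46 LD3_c18) (LK LD1_c19 LD2_c28 LD3_c50) Lrfl Lrfl
theorem f332015 : Led Lsl_ff (LP (LK LD1_c19 LD2_c54 LD3_c27)) = (LP (LK LD1_c19 LD2_c28 LD3_c50)) :=
  Lgr Lrot23 (Lpe (f178055 IH) (Lpr_ft (f332011 IH) (Lpr_ct (f235854 IH) (Lpn (LP (LK LD1_c19 LD2_c28 LD3_c50))))))
theorem f331999 : Led Lsl_at (LP (LK LD1_c19 LD2_c54 LD3_c27)) = (LP (LK LD1_c19 LD2_c28 LD3_c48)) :=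
  Lgr Lrot100 (Lpr_af (f331997 IH) (Lpn (LP (LK LD1_c19 LD2_c28 LD3_c48))))
theorem f226526 : Led Lsl_ct (LP (LK LD1_c19 LD2_c58 LD3_c48)) = (LP (LK LD1_c16 LD2_c44 LD3_c7)) :=
  Lgr Lrot59 (Lpr_cf (f226522 IH) (Lpn (LP (LK LD1_c16 LD2_c44 LD3_c7))))
theorem f331989 : Led Lsl_ff (LP (LK LD1_c19 LD2_c58 LD3_c48)) = (LP (LK LD1_c19 LD2_c28 LD3_c48)) :=
  Lgr Lrot23 (Lpr_ct (f226526 IH) (Lpr_ft (f331987 IH) (Lpr_ct (f235839 IH) (Lpn (LP (LK LD1_c19 LD2_c28 LD3_c48))))))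
theorem f332017 : Led Lsl_at (LP (LK LD1_c19 LD2_c58 LD3_c48)) = (LP (LK LD1_c19 LD2_c28 LD3_c50)) :=
  Lgr Lrot66 (Lpr_ff (f331989 IH) (Lpe (f331999 IH) (Lpr_ff (f332015 IH) (Lpn (LP (LK LD1_c19 LD2_c28 LD3_c50))))))
theorem f235843 : Led Lsl_ct (LP (LK LD1_c19 LD2_c28 LD3_c50)) = (LP (LK LD1_c10 LD2_c46 LD3_c18)) :=
  Lre_c IH (LK LD1_c19 LD2_c28 LD3_c50) (LK LD1_c10 LD2_c46 LD3_c18) Lrfl Lrfl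
theorem f235841 : Led Lsl_bt (LP (LK LD1_c9 LD2_c0 LD3_c44)) = (LP (LK LD1_c4 LD2_c31 LD3_c24)) :=
  Lre_b IH (LK LD1_c9 LD2_c0 LD3_c44) (LK LD1_c4 LD2_c31 LD3_c24) Lrfl Lrfl
theorem f181956 : Led Lsl_gt (LP (LK LD1_c2 LD2_c12 LD3_c44)) = (LP (LK LD1_c4 LD2_c31 LD3_c31)) :=
  Lre_g IH (LK LD1_c2 LD2_c12 LD3_c44) (LK LD1_c4 LD2_c31 LD3_c31) Lrfl Lrfl
theorem f235846 : Led Lsl_ct (LP (LK LD1_c9 LD2_c1 LD3_c0)) = (LP (LK LD1_c4 LD2_c31 LD3_c31)) :=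
  Lre_c IH (LK LD1_c9 LD2_c1 LD3_c0) (LK LD1_c4 LD2_c31 LD3_c31) Lrfl Lrfl
theorem f235847 : Led Lsl_bt (LP (LK LD1_c9 LD2_c1 LD3_c0)) = (LP (LK LD1_c16 LD2_c50 LD3_c56)) :=
  Lre_b IH (LK LD1_c9 LD2_c1 LD3_c0) (LK LD1_c16 LD2_c50 LD3_c56) Lrfl Lrfl
theorem f235848 : Led Lsl_gf (LP (LK LD1_c19 LD2_c28 LD3_c50)) = (LP (LK LD1_c16 LD2_c50 LD3_c56)) :=
  Lgr Lrot181 (Lpr_ct (f235843 IH) (Lpr_gt (f235842 IH) (Lpr_cf (K14.f235794 IH) (Lpr_bt (f235841 IH) (Lpr_gt (K13.f175041 IH) (Lpe (K19.f235844 IH) (Lpr_ct (K19.f235845 IH) (Lpr_gt (f181956 IH) (Lpe (f235846 IH) (Lpr_bt (f235847 IH) (Lpn (LP (LK LD1_c16 LD2_c50 LD3_c56)))))))))))))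
theorem f332025 : Led Lsl_gt (LP (LK LD1_c19 LD2_c28 LD3_c48)) = (LP (LK LD1_c16 LD2_c50 LD3_c56)) :=
  Lgr Lrot5 (Lpe (f331989 IH) (Lpr_at (f332017 IH) (Lpr_gf (f235848 IH) (Lpn (LP (LK LD1_c16 LD2_c50 LD3_c56))))))
theorem f235922 : Led Lsl_bt (LP (LK LD1_c2 LD2_c40 LD3_c11)) = (LP (LK LD1_c5 LD2_c27 LD3_c37)) :=
  Lre_b IH (LK LD1_c2 LD2_c40 LD3_c11) (LK LD1_c5 LD2_c27 LD3_c37) Lrfl Lrfl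
theorem f245064 : Led Lsl_bt (LP (LK LD1_c1 LD2_c16 LD3_c53)) = (LP (LK LD1_c2 LD2_c40 LD3_c18)) :=
  Lre_b IH (LK LD1_c1 LD2_c16 LD3_c53) (LK LD1_c2 LD2_c40 LD3_c18) Lrfl Lrfl
theorem f244950 : Led Lsl_bt (LP (LK LD1_c10 LD2_c47 LD3_c4)) = (LP (LK LD1_c5 LD2_c27 LD3_c57)) :=
  Lre_b IH (LK LD1_c10 LD2_c47 LD3_c4) (LK LD1_c5 LD2_c27 LD3_c57) Lrfl Lrfl
theorem f332028 : Led Lsl_ct (LP (LK LD1_c10 LD2_c47 LD3_c4)) = (LP (LK LD1_c16 LD2_c50 LD3_c56)) :=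
  Lgr Lrot63 (Lpr_bt (f244950 IH) (Lpr_gt (f244949 IH) (Lpe (f245064 IH) (Lpr_ct (K14.f7892 IH) (Lpr_gt (K13.f168542 IH) (Lpe (K14.f235775 IH) (Lpr_bt (f235922 IH) (Lpr_gt (f235834 IH) (Lpr_ct (f235839 IH) (Lpr_gt (f332025 IH) (Lpn (LP (LK LD1_c16 LD2_c50 LD3_c56)))))))))))))
theorem f332034 : Led Lsl_bt (LP (LK LD1_c5 LD2_c27 LD3_c57)) = (LP (LK LD1_c10 LD2_c47 LD3_c4)) :=
  Lre_b IH (LK LD1_c5 LD2_c27 LD3_c57) (LK LD1_c10 LD2_c47 LD3_c4) Lrfl Lrfl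
theorem f332035 : Led Lsl_bt (LP (LK LD1_c16 LD2_c50 LD3_c56)) = (LP (LK LD1_c9 LD2_c1 LD3_c0)) :=
  Lre_b IH (LK LD1_c16 LD2_c50 LD3_c56) (LK LD1_c9 LD2_c1 LD3_c0) Lrfl Lrfl
theorem f332036 : Led Lsl_bt (LP (LK LD1_c4 LD2_c31 LD3_c31)) = (LP (LK LD1_c9 LD2_c0 LD3_c61)) :=
  Lre_b IH (LK LD1_c4 LD2_c31 LD3_c31) (LK LD1_c9 LD2_c0 LD3_c61) Lrfl Lrfl
theorem f332037 : Led Lsl_cf (LP (LK LD1_c5 LD2_c27 LD3_c57)) = (LP (LK LD1_c9 LD2_c0 LD3_c61)) :=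
  Lgr Lrot97 (Lpr_bt (f332034 IH) (Lpr_ct (f332028 IH) (Lpr_bt (f332035 IH) (Lpr_ct (f235846 IH) (Lpr_bt (f332036 IH) (Lpn (LP (LK LD1_c9 LD2_c0 LD3_c61))))))))
theorem f332088 : Led Lsl_bt (LP (LK LD1_c9 LD2_c0 LD3_c61)) = (LP (LK LD1_c4 LD2_c31 LD3_c31)) :=
  Lre_b IH (LK LD1_c9 LD2_c0 LD3_c61) (LK LD1_c4 LD2_c31 LD3_c31) Lrfl Lrfl
theorem f384940 : Led Lsl_gf (LP (LK LD1_c2 LD2_c44 LD3_c16)) = (LP (LK LD1_c4 LD2_c31 LD3_c31)) :=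
  Lgr Lrot124 (Lpr_bf (f354339 IH) (Lpr_ct (f354512 IH) (Lpr_gt (f384923 IH) (Lpe (K22.f179304 IH) (Lpr_bt (K22.f179302 IH) (Lpr_gt (f245266 IH) (Lpr_ct (f245272 IH) (Lpe (f245411 IH) (Lpr_cf (f332037 IH) (Lpr_bt (f332088 IH) (Lpn (LP (LK LD1_c4 LD2_c31 LD3_c31)))))))))))))
theorem f199474 : Led Lsl_gf (LP (LK LD1_c15 LD2_c22 LD3_c50)) = (LP (LK LD1_c11 LD2_c2 LD3_c47)) :=
  Lgr Lrot47 (Lpr_gt (K22.f199459 IH) (Lpe (K22.f199427 IH) (Lpr_ff (K22.f199429 IH) (Lpn (LP (LK LD1_c11 LD2_c2 LD3_c47))))))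
theorem f199463 : Led Lsl_bt (LP (LK LD1_c25 LD2_c14 LD3_c40)) = (LP (LK LD1_c15 LD2_c22 LD3_c50)) :=
  Lre_b IH (LK LD1_c25 LD2_c14 LD3_c40) (LK LD1_c15 LD2_c22 LD3_c50) Lrfl Lrfl
theorem f332579 : Led Lsl_bt (LP (LK LD1_c15 LD2_c22 LD3_c50)) = (LP (LK LD1_c25 LD2_c14 LD3_c40)) :=
  Lre_b IH (LK LD1_c15 LD2_c22 LD3_c50) (LK LD1_c25 LD2_c14 LD3_c40) Lrfl Lrfl
theorem f199508 : Led Lsl_ct (LP (LK LD1_c15 LD2_c17 LD3_c59)) = (LP (LK LD1_c8 LD2_c7 LD3_c28)) :=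
  Lre_c IH (LK LD1_c15 LD2_c17 LD3_c59) (LK LD1_c8 LD2_c7 LD3_c28) Lrfl Lrfl
theorem f332580 : Led Lsl_bt (LP (LK LD1_c25 LD2_c8 LD3_c47)) = (LP (LK LD1_c15 LD2_c17 LD3_c59)) :=
  Lre_b IH (LK LD1_c25 LD2_c8 LD3_c47) (LK LD1_c15 LD2_c17 LD3_c59) Lrfl Lrfl
theorem f332581 : Led Lsl_ct (LP (LK LD1_c25 LD2_c14 LD3_c40)) = (LP (LK LD1_c25 LD2_c8 LD3_c47)) :=
  Lgr Lrot83 (Lpe (f332579 IH) (Lpe (K22.f332573 IH) (Lpr_bf (f332575 IH) (Lpe (f199508 IH) (Lpe (f332580 IH) (Lpn (LP (LK LD1_c25 LD2_c8 LD3_c47))))))))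
theorem f199505 : Led Lsl_bt (LP (LK LD1_c8 LD2_c7 LD3_c16)) = (LP (LK LD1_c4 LD2_c3 LD3_c20)) :=
  Lre_b IH (LK LD1_c8 LD2_c7 LD3_c16) (LK LD1_c4 LD2_c3 LD3_c20) Lrfl Lrfl
theorem f199509 : Led Lsl_bt (LP (LK LD1_c15 LD2_c17 LD3_c59)) = (LP (LK LD1_c25 LD2_c8 LD3_c47)) :=
  Lre_b IH (LK LD1_c15 LD2_c17 LD3_c59) (LK LD1_c25 LD2_c8 LD3_c47) Lrfl Lrfl
theorem f199603 : Led Lsl_gt (LP (LK LD1_c25 LD2_c8 LD3_c47)) = (LP (LK LD1_c19 LD2_c31 LD3_c41)) :=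
  Lgr Lrot82 (Lpe (f199509 IH) (Lpr_ct (f199508 IH) (Lpe (K22.f199507 IH) (Lpe (K17.f199506 IH) (Lpr_bt (f199505 IH) (Lpr_gf (K15.f199492 IH) (Lpe (f199499 IH) (Lpr_ct (f199503 IH) (Lpe (f199504 IH) (Lpr_cf (f199594 IH) (Lpn (LP (LK LD1_c19 LD2_c31 LD3_c41)))))))))))))
theorem f199598 : Led Lsl_ct (LP (LK LD1_c11 LD2_c3 LD3_c16)) = (LP (LK LD1_c19 LD2_c31 LD3_c41)) :=
  Lgr Lrot59 (Lpr_cf (f199594 IH) (Lpn (LP (LK LD1_c19 LD2_c31 LD3_c41))))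
theorem f332102 : Led Lsl_gt (LP (LK LD1_c16 LD2_c50 LD3_c55)) = (LP (LK LD1_c9 LD2_c1 LD3_c0)) :=
  Lre_g IH (LK LD1_c16 LD2_c50 LD3_c55) (LK LD1_c9 LD2_c1 LD3_c0) Lrfl Lrfl
theorem f384944 : Led Lsl_bt (LP (LK LD1_c11 LD2_c3 LD3_c16)) = (LP (LK LD1_c16 LD2_c50 LD3_c55)) :=
  Lgr Lrot130 (Lpr_ct (f199598 IH) (Lpe (f199603 IH) (Lpe (f332581 IH) (Lpr_bt (f199463 IH) (Lpr_gf (f199474 IH) (Lpe (K19.f199439 IH) (Lpr_ct (K19.f199440 IH) (Lpr_gf (f384940 IH) (Lpe (f235846 IH) (Lpe (f332102 IH) (Lpn (LP (LK LD1_c16 LD2_c50 LD3_c55)))))))))))))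
theorem f384948 : Led Lsl_bf (LP (LK LD1_c11 LD2_c3 LD3_c16)) = (LP (LK LD1_c16 LD2_c50 LD3_c55)) :=
  Lgr Lrot24 (Lpr_bt (f384944 IH) (Lpn (LP (LK LD1_c16 LD2_c50 LD3_c55))))
theorem f199488 : Led Lsl_bt (LP (LK LD1_c2 LD2_c43 LD3_c43)) = (LP (LK LD1_c5 LD2_c35 LD3_c33)) :=
  Lre_b IH (LK LD1_c2 LD2_c43 LD3_c43) (LK LD1_c5 LD2_c35 LD3_c33) Lrfl Lrfl
theorem f313035 : Led Lsl_ct (LP (LK LD1_c5 LD2_c35 LD3_c44)) = (LP (LK LD1_c11 LD2_c3 LD3_c41)) :=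
  Lre_c IH (LK LD1_c5 LD2_c35 LD3_c44) (LK LD1_c11 LD2_c3 LD3_c41) Lrfl Lrfl
theorem f140429 : Led Lsl_ct (LP (LK LD1_c15 LD2_c3 LD3_c42)) = (LP (LK LD1_c7 LD2_c59 LD3_c1)) :=
  Lre_c IH (LK LD1_c15 LD2_c3 LD3_c42) (LK LD1_c7 LD2_c59 LD3_c1) Lrfl Lrfl
theorem f319594 : Led Lsl_dt (LP (LK LD1_c16 LD2_c8 LD3_c51)) = (LP (LK LD1_c8 LD2_c37 LD3_c11)) :=
  Lre_d IH (LK LD1_c16 LD2_c8 LD3_c51) (LK LD1_c8 LD2_c37 LD3_c11) Lrfl Lrfl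
theorem f319631 : Led Lsl_cf (LP (LK LD1_c8 LD2_c33 LD3_c3)) = (LP (LK LD1_c8 LD2_c37 LD3_c11)) :=
  Lgr Lrot166 (Lpr_gt (K20.f290256 IH) (Lpr_dt (K20.f319621 IH) (Lpe (K20.f318675 IH) (Lpr_dt (K20.f319120 IH) (Lpe (K20.f319118 IH) (Lpe (K20.f219575 IH) (Lpr_gf (K20.f318690 IH) (Lpe (K20.f319619 IH) (Lpe (K20.f260867 IH) (Lpn (LP (LK LD1_c8 LD2_c37 LD3_c11))))))))))))
theorem f332625 : Led Lsl_at (LP (LK LD1_c16 LD2_c3 LD3_c7)) = (LP (LK LD1_c8 LD2_c33 LD3_c3)) :=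
  Lre_a IH (LK LD1_c16 LD2_c3 LD3_c7) (LK LD1_c8 LD2_c33 LD3_c3) Lrfl Lrfl
theorem f318409 : Led Lsl_dt (LP (LK LD1_c26 LD2_c45 LD3_c43)) = (LP (LK LD1_c16 LD2_c47 LD3_c16)) :=
  Lre_d IH (LK LD1_c26 LD2_c45 LD3_c43) (LK LD1_c16 LD2_c47 LD3_c16) Lrfl Lrfl
theorem f384228 : Led Lsl_gf (LP (LK LD1_c19 LD2_c32 LD3_c50)) = (LP (LK LD1_c26 LD2_c45 LD3_c43)) :=
  Lgr Lrot147 (Lpe (f381079 IH) (Lpr_gt (f384224 IH) (Lpr_ct (K20.f173651 IH) (Lpe (K12.f173694 IH) (Lpe (K9.f173076 IH) (Lpe (K20.f173658 IH) (Lpe (K20.f173660 IH) (Lpe (K20.f318417 IH) (Lpe (f318409 IH) (Lpn (LP (LK LD1_c26 LD2_c45 LD3_c43))))))))))))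
theorem f384415 : Led Lsl_gf (LP (LK LD1_c26 LD2_c45 LD3_c43)) = (LP (LK LD1_c19 LD2_c32 LD3_c47)) :=
  Lgr Lrot47 (Lpe (f384228 IH) (Lpe (f384376 IH) (Lpr_ff (f384411 IH) (Lpn (LP (LK LD1_c19 LD2_c32 LD3_c47))))))
theorem f384431 : Led Lsl_cf (LP (LK LD1_c19 LD2_c32 LD3_c47)) = (LP (LK LD1_c26 LD2_c5 LD3_c39)) :=
  Lgr Lrot166 (Lpe (f384415 IH) (Lpr_dt (f318409 IH) (Lpr_gt (K20.f318417 IH) (Lpr_dt (K20.f173718 IH) (Lpe (K20.f318419 IH) (Lpe (K20.f53922 IH) (Lpe (K20.f53935 IH) (Lpr_df (K20.f318704 IH) (Lpr_gf (f384426 IH) (Lpn (LP (LK LD1_c26 LD2_c5 LD3_c39))))))))))))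
theorem f167169 : Led Lsl_at (LP (LK LD1_c15 LD2_c47 LD3_c58)) = (LP (LK LD1_c8 LD2_c24 LD3_c10)) :=
  Lre_a IH (LK LD1_c15 LD2_c47 LD3_c58) (LK LD1_c8 LD2_c24 LD3_c10) Lrfl Lrfl
theorem f384430 : Led Lsl_dt (LP (LK LD1_c16 LD2_c8 LD3_c50)) = (LP (LK LD1_c26 LD2_c5 LD3_c39)) :=
  Lre_d IH (LK LD1_c16 LD2_c8 LD3_c50) (LK LD1_c26 LD2_c5 LD3_c39) Lrfl Lrfl
theorem f384434 : Led Lsl_ff (LP (LK LD1_c15 LD2_c47 LD3_c58)) = (LP (LK LD1_c16 LD2_c8 LD3_c50)) :=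
  Lgr Lrot103 (Lpr_at (f167169 IH) (Lpe (f167098 IH) (Lpr_df (f384278 IH) (Lpe (K20.f140453 IH) (Lpe (f384257 IH) (Lpe (f276248 IH) (Lpe (f384262 IH) (Lpr_cf (f384431 IH) (Lpe (f384430 IH) (Lpn (LP (LK LD1_c16 LD2_c8 LD3_c50))))))))))))
theorem f384490 : Led Lsl_ft (LP (LK LD1_c15 LD2_c47 LD3_c58)) = (LP (LK LD1_c16 LD2_c8 LD3_c50)) :=
  Lgr Lrot48 (Lpr_ff (f384434 IH) (Lpn (LP (LK LD1_c16 LD2_c8 LD3_c50))))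
theorem f347238 : Led Lsl_at (LP (LK LD1_c16 LD2_c8 LD3_c50)) = (LP (LK LD1_c8 LD2_c37 LD3_c11)) :=
  Lre_a IH (LK LD1_c16 LD2_c8 LD3_c50) (LK LD1_c8 LD2_c37 LD3_c11) Lrfl Lrfl
theorem f384492 : Led Lsl_gt (LP (LK LD1_c15 LD2_c47 LD3_c58)) = (LP (LK LD1_c16 LD2_c8 LD3_c49)) :=
  Lgr Lrot5 (Lpr_ft (f384490 IH) (Lpr_at (f347238 IH) (Lpe (K20.f319554 IH) (Lpn (LP (LK LD1_c16 LD2_c8 LD3_c49))))))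
theorem f167142 : Led Lsl_bt (LP (LK LD1_c25 LD2_c39 LD3_c48)) = (LP (LK LD1_c15 LD2_c43 LD3_c38)) :=
  Lre_b IH (LK LD1_c25 LD2_c39 LD3_c48) (LK LD1_c15 LD2_c43 LD3_c38) Lrfl Lrfl
theorem f167141 : Led Lsl_bt (LP (LK LD1_c15 LD2_c47 LD3_c55)) = (LP (LK LD1_c8 LD2_c24 LD3_c15)) :=
  Lre_b IH (LK LD1_c15 LD2_c47 LD3_c55) (LK LD1_c8 LD2_c24 LD3_c15) Lrfl Lrfl
theorem f167144 : Led Lsl_bt (LP (LK LD1_c15 LD2_c48 LD3_c3)) = (LP (LK LD1_c25 LD2_c44 LD3_c38)) :=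
  Lre_b IH (LK LD1_c15 LD2_c48 LD3_c3) (LK LD1_c25 LD2_c44 LD3_c38) Lrfl Lrfl
theorem f167145 : Led Lsl_cf (LP (LK LD1_c25 LD2_c39 LD3_c48)) = (LP (LK LD1_c25 LD2_c44 LD3_c38)) :=
  Lgr Lrot97 (Lpr_bt (f167142 IH) (Lpr_ct (K23.f167139 IH) (Lpr_bt (f167141 IH) (Lpr_ct (K25.f167143 IH) (Lpr_bt (f167144 IH) (Lpn (LP (LK LD1_c25 LD2_c44 LD3_c38))))))))
theorem f167149 : Led Lsl_ft (LP (LK LD1_c25 LD2_c39 LD3_c48)) = (LP (LK LD1_c15 LD2_c43 LD3_c35)) :=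
  Lre_f IH (LK LD1_c25 LD2_c39 LD3_c48) (LK LD1_c15 LD2_c43 LD3_c35) Lrfl Lrfl
theorem f167150 : Led Lsl_ft (LP (LK LD1_c15 LD2_c47 LD3_c60)) = (LP (LK LD1_c25 LD2_c44 LD3_c38)) :=
  Lre_f IH (LK LD1_c15 LD2_c47 LD3_c60) (LK LD1_c25 LD2_c44 LD3_c38) Lrfl Lrfl
theorem f167151 : Led Lsl_ct (LP (LK LD1_c15 LD2_c43 LD3_c35)) = (LP (LK LD1_c15 LD2_c47 LD3_c60)) :=
  Lgr Lrot40 (Lpe (f167149 IH) (Lpr_cf (f167145 IH) (Lpe (f167150 IH) (Lpn (LP (LK LD1_c15 LD2_c47 LD3_c60))))))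
theorem f167160 : Led Lsl_et (LP (LK LD1_c8 LD2_c21 LD3_c21)) = (LP (LK LD1_c15 LD2_c43 LD3_c35)) :=
  Lre_e IH (LK LD1_c8 LD2_c21 LD3_c21) (LK LD1_c15 LD2_c43 LD3_c35) Lrfl Lrfl
theorem f167161 : Led Lsl_et (LP (LK LD1_c15 LD2_c47 LD3_c60)) = (LP (LK LD1_c8 LD2_c24 LD3_c10)) :=
  Lre_e IH (LK LD1_c15 LD2_c47 LD3_c60) (LK LD1_c8 LD2_c24 LD3_c10) Lrfl Lrfl
theorem f167162 : Led Lsl_cf (LP (LK LD1_c8 LD2_c21 LD3_c21)) = (LP (LK LD1_c8 LD2_c24 LD3_c10)) :=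
  Lgr Lrot39 (Lpr_et (f167160 IH) (Lpr_ct (f167151 IH) (Lpr_et (f167161 IH) (Lpn (LP (LK LD1_c8 LD2_c24 LD3_c10))))))
theorem f167168 : Led Lsl_at (LP (LK LD1_c8 LD2_c21 LD3_c21)) = (LP (LK LD1_c15 LD2_c43 LD3_c34)) :=
  Lre_a IH (LK LD1_c8 LD2_c21 LD3_c21) (LK LD1_c15 LD2_c43 LD3_c34) Lrfl Lrfl
theorem f167170 : Led Lsl_ct (LP (LK LD1_c15 LD2_c43 LD3_c34)) = (LP (LK LD1_c15 LD2_c47 LD3_c58)) :=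
  Lgr Lrot111 (Lpe (f167168 IH) (Lpr_cf (f167162 IH) (Lpe (f167169 IH) (Lpn (LP (LK LD1_c15 LD2_c47 LD3_c58))))))
theorem f319558 : Led Lsl_ct (LP (LK LD1_c16 LD2_c8 LD3_c49)) = (LP (LK LD1_c19 LD2_c43 LD3_c54)) :=
  Lgr Lrot59 (Lpr_cf (K20.f319555 IH) (Lpn (LP (LK LD1_c19 LD2_c43 LD3_c54))))
theorem f384496 : Led Lsl_gf (LP (LK LD1_c15 LD2_c43 LD3_c34)) = (LP (LK LD1_c16 LD2_c3 LD3_c5)) :=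
  Lgr Lrot147 (Lpr_ct (f167170 IH) (Lpr_gt (f384492 IH) (Lpr_ct (f319558 IH) (Lpe (K20.f178939 IH) (Lpe (K20.f178938 IH) (Lpe (K20.f318683 IH) (Lpe (K20.f173715 IH) (Lpr_gf (K20.f318675 IH) (Lpe (K20.f319621 IH) (Lpn (LP (LK LD1_c16 LD2_c3 LD3_c5))))))))))))
theorem f384498 : Led Lsl_ff (LP (LK LD1_c8 LD2_c21 LD3_c21)) = (LP (LK LD1_c8 LD2_c33 LD3_c3)) :=
  Lgr Lrot52 (Lpr_at (f167168 IH) (Lpr_gf (f384496 IH) (Lpe (K20.f290256 IH) (Lpn (LP (LK LD1_c8 LD2_c33 LD3_c3))))))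
theorem f384500 : Led Lsl_ft (LP (LK LD1_c15 LD2_c43 LD3_c34)) = (LP (LK LD1_c16 LD2_c3 LD3_c7)) :=
  Lgr Lrot101 (Lpe (f167168 IH) (Lpr_ff (f384498 IH) (Lpe (f332625 IH) (Lpn (LP (LK LD1_c16 LD2_c3 LD3_c7))))))
theorem f384663 : Led Lsl_df (LP (LK LD1_c15 LD2_c3 LD3_c42)) = (LP (LK LD1_c15 LD2_c43 LD3_c34)) :=
  Lgr Lrot157 (Lpr_ct (f140429 IH) (Lpr_dt (f384650 IH) (Lpr_ct (f178943 IH) (Lpr_dt (f244286 IH) (Lpr_ct (f332617 IH) (Lpr_dt (f319594 IH) (Lpe (f319631 IH) (Lpe (f332625 IH) (Lpe (f384500 IH) (Lpn (LP (LK LD1_c15 LD2_c43 LD3_c34))))))))))))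
theorem f384667 : Led Lsl_dt (LP (LK LD1_c15 LD2_c3 LD3_c42)) = (LP (LK LD1_c15 LD2_c43 LD3_c34)) :=
  Lgr Lrot42 (Lpr_df (f384663 IH) (Lpn (LP (LK LD1_c15 LD2_c43 LD3_c34))))
theorem f167174 : Led Lsl_at (LP (LK LD1_c15 LD2_c43 LD3_c34)) = (LP (LK LD1_c8 LD2_c21 LD3_c21)) :=
  Lre_a IH (LK LD1_c15 LD2_c43 LD3_c34) (LK LD1_c8 LD2_c21 LD3_c21) Lrfl Lrfl
theorem f384694 : Led Lsl_af (LP (LK LD1_c15 LD2_c3 LD3_c42)) = (LP (LK LD1_c9 LD2_c46 LD3_c27)) :=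
  Lgr Lrot117 (Lpr_dt (f384667 IH) (Lpr_at (f167174 IH) (Lpr_dt (f384275 IH) (Lpn (LP (LK LD1_c9 LD2_c46 LD3_c27))))))
theorem f384696 : Led Lsl_at (LP (LK LD1_c7 LD2_c59 LD3_c1)) = (LP (LK LD1_c4 LD2_c57 LD3_c46)) :=
  Lgr Lrot107 (Lpe (f140429 IH) (Lpr_af (f384694 IH) (Lpe (K20.f140453 IH) (Lpn (LP (LK LD1_c4 LD2_c57 LD3_c46))))))
theorem f140430 : Led Lsl_bt (LP (LK LD1_c15 LD2_c3 LD3_c41)) = (LP (LK LD1_c7 LD2_c59 LD3_c1)) :=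
  Lre_b IH (LK LD1_c15 LD2_c3 LD3_c41) (LK LD1_c7 LD2_c59 LD3_c1) Lrfl Lrfl
theorem f175124 : Led Lsl_ct (LP (LK LD1_c11 LD2_c19 LD3_c18)) = (LP (LK LD1_c5 LD2_c44 LD3_c37)) :=
  Lre_c IH (LK LD1_c11 LD2_c19 LD3_c18) (LK LD1_c5 LD2_c44 LD3_c37) Lrfl Lrfl
theorem f384286 : Led Lsl_af (LP (LK LD1_c11 LD2_c19 LD3_c18)) = (LP (LK LD1_c9 LD2_c46 LD3_c26)) :=
  Lgr Lrot68 (Lpr_ct (f175124 IH) (Lpe (f383144 IH) (Lpr_ct (f384273 IH) (Lpn (LP (LK LD1_c9 LD2_c46 LD3_c26))))))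
theorem f226586 : Led Lsl_bt (LP (LK LD1_c11 LD2_c19 LD3_c18)) = (LP (LK LD1_c19 LD2_c39 LD3_c0)) :=
  Lgr Lrot130 (Lpr_ct (f175124 IH) (Lpe (K27.f175123 IH) (Lpe (K27.f175122 IH) (Lpr_bt (K20.f175138 IH) (Lpe (K9.f44741 IH) (Lpe (f44742 IH) (Lpr_ct (f175096 IH) (Lpe (f175097 IH) (Lpr_cf (f175100 IH) (Lpr_gf (f226582 IH) (Lpn (LP (LK LD1_c19 LD2_c39 LD3_c0)))))))))))))
theorem f384698 : Led Lsl_af (LP (LK LD1_c15 LD2_c3 LD3_c41)) = (LP (LK LD1_c19 LD2_c39 LD3_c0)) :=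
  Lgr Lrot36 (Lpr_bt (f140430 IH) (Lpr_at (f384696 IH) (Lpr_bt (f318591 IH) (Lpe (f384286 IH) (Lpr_bt (f226586 IH) (Lpn (LP (LK LD1_c19 LD2_c39 LD3_c0))))))))
theorem f384502 : Led Lsl_ft (LP (LK LD1_c8 LD2_c21 LD3_c21)) = (LP (LK LD1_c8 LD2_c33 LD3_c3)) :=
  Lgr Lrot48 (Lpr_ff (f384498 IH) (Lpn (LP (LK LD1_c8 LD2_c33 LD3_c3))))
theorem f384504 : Led Lsl_at (LP (LK LD1_c8 LD2_c33 LD3_c3)) = (LP (LK LD1_c16 LD2_c3 LD3_c7)) :=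
  Lre_a IH (LK LD1_c8 LD2_c33 LD3_c3) (LK LD1_c16 LD2_c3 LD3_c7) Lrfl Lrfl
theorem f384505 : Led Lsl_ff (LP (LK LD1_c15 LD2_c43 LD3_c34)) = (LP (LK LD1_c16 LD2_c3 LD3_c7)) :=
  Lgr Lrot30 (Lpr_at (f167174 IH) (Lpr_ft (f384502 IH) (Lpr_at (f384504 IH) (Lpn (LP (LK LD1_c16 LD2_c3 LD3_c7))))))
theorem f140455 : Led Lsl_ct (LP (LK LD1_c9 LD2_c46 LD3_c27)) = (LP (LK LD1_c4 LD2_c57 LD3_c46)) :=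
  Lre_c IH (LK LD1_c9 LD2_c46 LD3_c27) (LK LD1_c4 LD2_c57 LD3_c46) Lrfl Lrfl
theorem f384263 : Led Lsl_df (LP (LK LD1_c5 LD2_c28 LD3_c47)) = (LP (LK LD1_c4 LD2_c57 LD3_c46)) :=
  Lgr Lrot38 (Lpr_dt (f384257 IH) (Lpn (LP (LK LD1_c4 LD2_c57 LD3_c46))))
theorem f276259 : Led Lsl_ct (LP (LK LD1_c5 LD2_c28 LD3_c47)) = (LP (LK LD1_c10 LD2_c48 LD3_c39)) :=
  Lre_c IH (LK LD1_c5 LD2_c28 LD3_c47) (LK LD1_c10 LD2_c48 LD3_c39) Lrfl Lrfl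
theorem f384277 : Led Lsl_dt (LP (LK LD1_c10 LD2_c48 LD3_c39)) = (LP (LK LD1_c19 LD2_c32 LD3_c47)) :=
  Lre_d IH (LK LD1_c10 LD2_c48 LD3_c39) (LK LD1_c19 LD2_c32 LD3_c47) Lrfl Lrfl
theorem f384433 : Led Lsl_dt (LP (LK LD1_c26 LD2_c5 LD3_c39)) = (LP (LK LD1_c16 LD2_c8 LD3_c50)) :=
  Lre_d IH (LK LD1_c26 LD2_c5 LD3_c39) (LK LD1_c16 LD2_c8 LD3_c50) Lrfl Lrfl
theorem f384509 : Led Lsl_ct (LP (LK LD1_c16 LD2_c8 LD3_c50)) = (LP (LK LD1_c16 LD2_c3 LD3_c7)) :=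
  Lgr Lrot98 (Lpe (f384433 IH) (Lpr_cf (f384417 IH) (Lpe (f384277 IH) (Lpe (f276259 IH) (Lpr_df (f384263 IH) (Lpe (f140455 IH) (Lpe (f384275 IH) (Lpr_ft (f384502 IH) (Lpr_at (f384504 IH) (Lpn (LP (LK LD1_c16 LD2_c3 LD3_c7))))))))))))
theorem f318716 : Led Lsl_ct (LP (LK LD1_c15 LD2_c24 LD3_c6)) = (LP (LK LD1_c9 LD2_c46 LD3_c0)) :=
  Lgr Lrot59 (Lpr_cf (K20.f318707 IH) (Lpn (LP (LK LD1_c9 LD2_c46 LD3_c0))))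
theorem f140435 : Led Lsl_gt (LP (LK LD1_c4 LD2_c57 LD3_c47)) = (LP (LK LD1_c2 LD2_c26 LD3_c44)) :=
  Lre_g IH (LK LD1_c4 LD2_c57 LD3_c47) (LK LD1_c2 LD2_c26 LD3_c44) Lrfl Lrfl
theorem f140439 : Led Lsl_ct (LP (LK LD1_c9 LD2_c46 LD3_c29)) = (LP (LK LD1_c4 LD2_c57 LD3_c47)) :=
  Lre_c IH (LK LD1_c9 LD2_c46 LD3_c29) (LK LD1_c4 LD2_c57 LD3_c47) Lrfl Lrfl
theorem f319129 : Led Lsl_gt (LP (LK LD1_c17 LD2_c56 LD3_c26)) = (LP (LK LD1_c9 LD2_c46 LD3_c29)) :=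
  Lgr Lrot146 (Lpr_dt (K20.f319124 IH) (Lpr_gt (K20.f319040 IH) (Lpe (K20.f319118 IH) (Lpe (K20.f219577 IH) (Lpr_ct (f318716 IH) (Lpr_dt (K20.f140369 IH) (Lpe (K9.f140366 IH) (Lpe (f140435 IH) (Lpe (f140439 IH) (Lpn (LP (LK LD1_c9 LD2_c46 LD3_c29))))))))))))
theorem f384515 : Led Lsl_dt (LP (LK LD1_c9 LD2_c46 LD3_c29)) = (LP (LK LD1_c16 LD2_c3 LD3_c7)) :=
  Lgr Lrot113 (Lpe (f319129 IH) (Lpr_df (K20.f319126 IH) (Lpe (K20.f270905 IH) (Lpr_ct (K20.f270897 IH) (Lpr_gt (K20.f53933 IH) (Lpe (K20.f318998 IH) (Lpr_gt (f384428 IH) (Lpr_dt (f384433 IH) (Lpr_ct (f384509 IH) (Lpn (LP (LK LD1_c16 LD2_c3 LD3_c7))))))))))))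
theorem f384669 : Led Lsl_ft (LP (LK LD1_c15 LD2_c3 LD3_c42)) = (LP (LK LD1_c9 LD2_c46 LD3_c29)) :=
  Lgr Lrot54 (Lpr_df (f384663 IH) (Lpr_ff (f384505 IH) (Lpe (f384515 IH) (Lpn (LP (LK LD1_c9 LD2_c46 LD3_c29))))))
theorem f384672 : Led Lsl_ff (LP (LK LD1_c15 LD2_c3 LD3_c42)) = (LP (LK LD1_c9 LD2_c46 LD3_c29)) :=
  Lgr Lrot3 (Lpr_ft (f384669 IH) (Lpn (LP (LK LD1_c9 LD2_c46 LD3_c29))))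
theorem f140438 : Led Lsl_ct (LP (LK LD1_c4 LD2_c57 LD3_c47)) = (LP (LK LD1_c9 LD2_c46 LD3_c29)) :=
  Lre_c IH (LK LD1_c4 LD2_c57 LD3_c47) (LK LD1_c9 LD2_c46 LD3_c29) Lrfl Lrfl
theorem f384674 : Led Lsl_ft (LP (LK LD1_c7 LD2_c59 LD3_c1)) = (LP (LK LD1_c4 LD2_c57 LD3_c47)) :=
  Lgr Lrot4 (Lpe (f140429 IH) (Lpr_ff (f384672 IH) (Lpe (f140438 IH) (Lpn (LP (LK LD1_c4 LD2_c57 LD3_c47))))))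
theorem f319132 : Led Lsl_bt (LP (LK LD1_c4 LD2_c57 LD3_c47)) = (LP (LK LD1_c9 LD2_c46 LD3_c28)) :=
  Lre_b IH (LK LD1_c4 LD2_c57 LD3_c47) (LK LD1_c9 LD2_c46 LD3_c28) Lrfl Lrfl
theorem f384687 : Led Lsl_ff (LP (LK LD1_c15 LD2_c3 LD3_c41)) = (LP (LK LD1_c9 LD2_c46 LD3_c28)) :=
  Lgr Lrot25 (Lpr_bt (f140430 IH) (Lpr_ft (f384674 IH) (Lpr_bt (f319132 IH) (Lpn (LP (LK LD1_c9 LD2_c46 LD3_c28))))))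
theorem f318416 : Led Lsl_dt (LP (LK LD1_c16 LD2_c47 LD3_c16)) = (LP (LK LD1_c26 LD2_c45 LD3_c43)) :=
  Lre_d IH (LK LD1_c16 LD2_c47 LD3_c16) (LK LD1_c26 LD2_c45 LD3_c43) Lrfl Lrfl
theorem f54769 : Led Lsl_dt (LP (LK LD1_c3 LD2_c58 LD3_c46)) = (LP (LK LD1_c7 LD2_c59 LD3_c0)) :=
  Lre_d IH (LK LD1_c3 LD2_c58 LD3_c46) (LK LD1_c7 LD2_c59 LD3_c0) Lrfl Lrfl
theorem f140424 : Led Lsl_ff (LP (LK LD1_c4 LD2_c57 LD3_c48)) = (LP (LK LD1_c7 LD2_c59 LD3_c0)) :=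
  Lgr Lrot3 (Lpr_ft (K9.f140418 IH) (Lpn (LP (LK LD1_c7 LD2_c59 LD3_c0))))
theorem f140436 : Led Lsl_gf (LP (LK LD1_c4 LD2_c57 LD3_c47)) = (LP (LK LD1_c7 LD2_c59 LD3_c0)) :=
  Lgr Lrot47 (Lpr_gt (f140435 IH) (Lpe (K9.f40981 IH) (Lpr_ff (f140424 IH) (Lpn (LP (LK LD1_c7 LD2_c59 LD3_c0))))))
theorem f384230 : Led Lsl_df (LP (LK LD1_c5 LD2_c28 LD3_c48)) = (LP (LK LD1_c4 LD2_c57 LD3_c47)) :=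
  Lgr Lrot84 (Lpe (f226822 IH) (Lpe (f289559 IH) (Lpr_gf (f384228 IH) (Lpe (f318416 IH) (Lpr_gf (K20.f318582 IH) (Lpe (K20.f173662 IH) (Lpe (K9.f174051 IH) (Lpr_dt (f54769 IH) (Lpe (f140436 IH) (Lpn (LP (LK LD1_c4 LD2_c57 LD3_c47))))))))))))
theorem f319274 : Led Lsl_bt (LP (LK LD1_c5 LD2_c28 LD3_c48)) = (LP (LK LD1_c10 LD2_c48 LD3_c41)) :=
  Lre_b IH (LK LD1_c5 LD2_c28 LD3_c48) (LK LD1_c10 LD2_c48 LD3_c41) Lrfl Lrfl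
theorem f140441 : Led Lsl_bt (LP (LK LD1_c9 LD2_c46 LD3_c28)) = (LP (LK LD1_c4 LD2_c57 LD3_c47)) :=
  Lre_b IH (LK LD1_c9 LD2_c46 LD3_c28) (LK LD1_c4 LD2_c57 LD3_c47) Lrfl Lrfl
theorem f384232 : Led Lsl_dt (LP (LK LD1_c10 LD2_c48 LD3_c41)) = (LP (LK LD1_c9 LD2_c46 LD3_c28)) :=
  Lgr Lrot79 (Lpe (f319274 IH) (Lpr_df (f384230 IH) (Lpe (f140441 IH) (Lpn (LP (LK LD1_c9 LD2_c46 LD3_c28))))))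
theorem f384388 : Led Lsl_ft (LP (LK LD1_c5 LD2_c36 LD3_c38)) = (LP (LK LD1_c5 LD2_c28 LD3_c48)) :=
  Lgr Lrot4 (Lpe (f178944 IH) (Lpr_ff (f384386 IH) (Lpe (f289557 IH) (Lpn (LP (LK LD1_c5 LD2_c28 LD3_c48))))))
theorem f178945 : Led Lsl_bt (LP (LK LD1_c11 LD2_c5 LD3_c22)) = (LP (LK LD1_c5 LD2_c36 LD3_c38)) :=
  Lre_b IH (LK LD1_c11 LD2_c5 LD3_c22) (LK LD1_c5 LD2_c36 LD3_c38) Lrfl Lrfl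
theorem f384584 : Led Lsl_ff (LP (LK LD1_c11 LD2_c5 LD3_c22)) = (LP (LK LD1_c10 LD2_c48 LD3_c41)) :=
  Lgr Lrot25 (Lpr_bt (f178945 IH) (Lpr_ft (f384388 IH) (Lpr_bt (f319274 IH) (Lpn (LP (LK LD1_c10 LD2_c48 LD3_c41))))))
theorem f384587 : Led Lsl_ft (LP (LK LD1_c11 LD2_c5 LD3_c22)) = (LP (LK LD1_c10 LD2_c48 LD3_c41)) :=
  Lgr Lrot48 (Lpr_ff (f384584 IH) (Lpn (LP (LK LD1_c10 LD2_c48 LD3_c41))))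
theorem f384689 : Led Lsl_dt (LP (LK LD1_c15 LD2_c3 LD3_c41)) = (LP (LK LD1_c11 LD2_c5 LD3_c22)) :=
  Lgr Lrot60 (Lpr_ff (f384687 IH) (Lpe (f384232 IH) (Lpe (f384587 IH) (Lpn (LP (LK LD1_c11 LD2_c5 LD3_c22))))))
theorem f384702 : Led Lsl_at (LP (LK LD1_c11 LD2_c5 LD3_c22)) = (LP (LK LD1_c10 LD2_c52 LD3_c7)) :=
  Lgr Lrot51 (Lpe (f384689 IH) (Lpr_af (f384698 IH) (Lpe (f226581 IH) (Lpn (LP (LK LD1_c10 LD2_c52 LD3_c7))))))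
theorem f354515 : Led Lsl_gf (LP (LK LD1_c4 LD2_c30 LD3_c56)) = (LP (LK LD1_c2 LD2_c45 LD3_c42)) :=
  Lgr Lrot47 (Lpr_gt (f179858 IH) (Lpe (f319137 IH) (Lpr_ff (f354508 IH) (Lpn (LP (LK LD1_c2 LD2_c45 LD3_c42))))))
theorem f179859 : Led Lsl_bt (LP (LK LD1_c8 LD2_c59 LD3_c61)) = (LP (LK LD1_c4 LD2_c30 LD3_c56)) :=
  Lre_b IH (LK LD1_c8 LD2_c59 LD3_c61) (LK LD1_c4 LD2_c30 LD3_c56) Lrfl Lrfl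
theorem f179860 : Led Lsl_ct (LP (LK LD1_c8 LD2_c59 LD3_c61)) = (LP (LK LD1_c16 LD2_c49 LD3_c27)) :=
  Lre_c IH (LK LD1_c8 LD2_c59 LD3_c61) (LK LD1_c16 LD2_c49 LD3_c27) Lrfl Lrfl
theorem f312994 : Led Lsl_at (LP (LK LD1_c4 LD2_c31 LD3_c33)) = (LP (LK LD1_c2 LD2_c12 LD3_c44)) :=
  Lre_a IH (LK LD1_c4 LD2_c31 LD3_c33) (LK LD1_c2 LD2_c12 LD3_c44) Lrfl Lrfl
theorem f312995 : Led Lsl_ft (LP (LK LD1_c2 LD2_c44 LD3_c16)) = (LP (LK LD1_c4 LD2_c31 LD3_c33)) :=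
  Lgr Lrot2 (Lpr_gt (K19.f312992 IH) (Lpr_gt (K19.f175043 IH) (Lpe (f312994 IH) (Lpn (LP (LK LD1_c4 LD2_c31 LD3_c33))))))
theorem f354510 : Led Lsl_bt (LP (LK LD1_c4 LD2_c31 LD3_c33)) = (LP (LK LD1_c2 LD2_c45 LD3_c42)) :=
  Lgr Lrot35 (Lpe (f312995 IH) (Lpr_bf (f354339 IH) (Lpr_ff (f354508 IH) (Lpn (LP (LK LD1_c2 LD2_c45 LD3_c42))))))
theorem f313034 : Led Lsl_ct (LP (LK LD1_c4 LD2_c31 LD3_c33)) = (LP (LK LD1_c9 LD2_c0 LD3_c49)) :=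
  Lre_c IH (LK LD1_c4 LD2_c31 LD3_c33) (LK LD1_c9 LD2_c0 LD3_c49) Lrfl Lrfl
theorem f277120 : Led Lsl_ct (LP (LK LD1_c11 LD2_c3 LD3_c41)) = (LP (LK LD1_c5 LD2_c35 LD3_c44)) :=
  Lre_c IH (LK LD1_c11 LD2_c3 LD3_c41) (LK LD1_c5 LD2_c35 LD3_c44) Lrfl Lrfl
theorem f354517 : Led Lsl_gt (LP (LK LD1_c10 LD2_c48 LD3_c41)) = (LP (LK LD1_c11 LD2_c3 LD3_c41)) :=
  Lgr Lrot82 (Lpe (f319274 IH) (Lpr_ct (f289557 IH) (Lpe (f319271 IH) (Lpe (f179860 IH) (Lpr_bt (f179859 IH) (Lpr_gf (f354515 IH) (Lpe (f354510 IH) (Lpr_ct (f313034 IH) (Lpe (K22.f313032 IH) (Lpe (f277120 IH) (Lpn (LP (LK LD1_c11 LD2_c3 LD3_c41)))))))))))))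
theorem f384744 : Led Lsl_gt (LP (LK LD1_c11 LD2_c3 LD3_c41)) = (LP (LK LD1_c10 LD2_c52 LD3_c7)) :=
  Lgr Lrot46 (Lpe (f354517 IH) (Lpe (f384584 IH) (Lpr_at (f384702 IH) (Lpn (LP (LK LD1_c10 LD2_c52 LD3_c7))))))
theorem f384951 : Led Lsl_cf (LP (LK LD1_c10 LD2_c52 LD3_c7)) = (LP (LK LD1_c16 LD2_c50 LD3_c55)) :=
  Lgr Lrot163 (Lpe (f384744 IH) (Lpe (f313035 IH) (Lpe (K22.f189132 IH) (Lpe (K22.f189131 IH) (Lpr_ct (K12.f177955 IH) (Lpe (K12.f177871 IH) (Lpe (K12.f199487 IH) (Lpr_bt (f199488 IH) (Lpe (f199504 IH) (Lpr_bf (f384948 IH) (Lpn (LP (LK LD1_c16 LD2_c50 LD3_c55)))))))))))))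
theorem f384955 : Led Lsl_ct (LP (LK LD1_c10 LD2_c52 LD3_c7)) = (LP (LK LD1_c16 LD2_c50 LD3_c55)) :=
  Lgr Lrot59 (Lpr_cf (f384951 IH) (Lpn (LP (LK LD1_c16 LD2_c50 LD3_c55))))
theorem f178946 : Led Lsl_ct (LP (LK LD1_c11 LD2_c5 LD3_c38)) = (LP (LK LD1_c11 LD2_c5 LD3_c22)) :=
  Lre_c IH (LK LD1_c11 LD2_c5 LD3_c38) (LK LD1_c11 LD2_c5 LD3_c22) Lrfl Lrfl
theorem f384957 : Led Lsl_af (LP (LK LD1_c11 LD2_c5 LD3_c38)) = (LP (LK LD1_c16 LD2_c50 LD3_c55)) :=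
  Lgr Lrot68 (Lpr_ct (f178946 IH) (Lpr_at (f384702 IH) (Lpr_ct (f384955 IH) (Lpn (LP (LK LD1_c16 LD2_c50 LD3_c55))))))
theorem f226498 : Led Lsl_gt (LP (LK LD1_c5 LD2_c36 LD3_c46)) = (LP (LK LD1_c11 LD2_c5 LD3_c38)) :=
  Lre_g IH (LK LD1_c5 LD2_c36 LD3_c46) (LK LD1_c11 LD2_c5 LD3_c38) Lrfl Lrfl
theorem f226500 : Led Lsl_gt (LP (LK LD1_c11 LD2_c5 LD3_c39)) = (LP (LK LD1_c5 LD2_c36 LD3_c46)) :=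
  Lre_g IH (LK LD1_c11 LD2_c5 LD3_c39) (LK LD1_c5 LD2_c36 LD3_c46) Lrfl Lrfl
theorem f384959 : Led Lsl_ft (LP (LK LD1_c11 LD2_c5 LD3_c39)) = (LP (LK LD1_c16 LD2_c50 LD3_c55)) :=
  Lgr Lrot2 (Lpr_gt (f226500 IH) (Lpr_gt (f226498 IH) (Lpr_af (f384957 IH) (Lpn (LP (LK LD1_c16 LD2_c50 LD3_c55))))))
theorem f384965 : Led Lsl_ff (LP (LK LD1_c11 LD2_c5 LD3_c39)) = (LP (LK LD1_c16 LD2_c50 LD3_c55)) :=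
  Lgr Lrot3 (Lpr_ft (f384959 IH) (Lpn (LP (LK LD1_c16 LD2_c50 LD3_c55))))
theorem f332048 : Led Lsl_gt (LP (LK LD1_c9 LD2_c1 LD3_c0)) = (LP (LK LD1_c16 LD2_c50 LD3_c54)) :=
  Lre_g IH (LK LD1_c9 LD2_c1 LD3_c0) (LK LD1_c16 LD2_c50 LD3_c54) Lrfl Lrfl
theorem f384971 : Led Lsl_at (LP (LK LD1_c11 LD2_c5 LD3_c39)) = (LP (LK LD1_c16 LD2_c50 LD3_c54)) :=
  Lgr Lrot26 (Lpr_ff (f384965 IH) (Lpr_gt (f332102 IH) (Lpr_gt (f332048 IH) (Lpn (LP (LK LD1_c16 LD2_c50 LD3_c54))))))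
theorem f384691 : Led Lsl_ft (LP (LK LD1_c15 LD2_c3 LD3_c41)) = (LP (LK LD1_c9 LD2_c46 LD3_c28)) :=
  Lgr Lrot48 (Lpr_ff (f384687 IH) (Lpn (LP (LK LD1_c9 LD2_c46 LD3_c28))))
theorem f384250 : Led Lsl_at (LP (LK LD1_c9 LD2_c46 LD3_c28)) = (LP (LK LD1_c17 LD2_c56 LD3_c29)) :=
  Lre_a IH (LK LD1_c9 LD2_c46 LD3_c28) (LK LD1_c17 LD2_c56 LD3_c29) Lrfl Lrfl
theorem f384704 : Led Lsl_ft (LP (LK LD1_c17 LD2_c56 LD3_c29)) = (LP (LK LD1_c19 LD2_c39 LD3_c0)) :=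
  Lgr Lrot101 (Lpe (f384250 IH) (Lpe (f384691 IH) (Lpr_af (f384698 IH) (Lpn (LP (LK LD1_c19 LD2_c39 LD3_c0))))))
theorem f226589 : Led Lsl_bf (LP (LK LD1_c11 LD2_c19 LD3_c18)) = (LP (LK LD1_c19 LD2_c39 LD3_c0)) :=
  Lgr Lrot24 (Lpr_bt (f226586 IH) (Lpn (LP (LK LD1_c19 LD2_c39 LD3_c0))))
theorem f173472 : Led Lsl_ct (LP (LK LD1_c16 LD2_c48 LD3_c46)) = (LP (LK LD1_c8 LD2_c59 LD3_c25)) :=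
  Lre_c IH (LK LD1_c16 LD2_c48 LD3_c46) (LK LD1_c8 LD2_c59 LD3_c25) Lrfl Lrfl
theorem f179164 : Led Lsl_ct (LP (LK LD1_c5 LD2_c44 LD3_c37)) = (LP (LK LD1_c11 LD2_c19 LD3_c18)) :=
  Lre_c IH (LK LD1_c5 LD2_c44 LD3_c37) (LK LD1_c11 LD2_c19 LD3_c18) Lrfl Lrfl
theorem f383148 : Led Lsl_ff (LP (LK LD1_c16 LD2_c48 LD3_c46)) = (LP (LK LD1_c11 LD2_c19 LD3_c18)) :=
  Lgr Lrot23 (Lpr_ct (f173472 IH) (Lpr_ft (f383136 IH) (Lpr_ct (f179164 IH) (Lpn (LP (LK LD1_c11 LD2_c19 LD3_c18))))))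
theorem f384706 : Led Lsl_bf (LP (LK LD1_c17 LD2_c56 LD3_c29)) = (LP (LK LD1_c16 LD2_c48 LD3_c46)) :=
  Lgr Lrot61 (Lpr_ft (f384704 IH) (Lpe (f226589 IH) (Lpe (f383148 IH) (Lpn (LP (LK LD1_c16 LD2_c48 LD3_c46))))))
theorem f173470 : Led Lsl_ct (LP (LK LD1_c2 LD2_c12 LD3_c13)) = (LP (LK LD1_c4 LD2_c30 LD3_c33)) :=
  Lre_c IH (LK LD1_c2 LD2_c12 LD3_c13) (LK LD1_c4 LD2_c30 LD3_c33) Lrfl Lrfl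
theorem f173414 : Led Lsl_bt (LP (LK LD1_c4 LD2_c30 LD3_c37)) = (LP (LK LD1_c2 LD2_c12 LD3_c16)) :=
  Lre_b IH (LK LD1_c4 LD2_c30 LD3_c37) (LK LD1_c2 LD2_c12 LD3_c16) Lrfl Lrfl
theorem f173415 : Led Lsl_ct (LP (LK LD1_c4 LD2_c30 LD3_c37)) = (LP (LK LD1_c8 LD2_c59 LD3_c34)) :=
  Lre_c IH (LK LD1_c4 LD2_c30 LD3_c37) (LK LD1_c8 LD2_c59 LD3_c34) Lrfl Lrfl
theorem f173416 : Led Lsl_gt (LP (LK LD1_c16 LD2_c48 LD3_c58)) = (LP (LK LD1_c8 LD2_c59 LD3_c34)) :=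
  Lre_g IH (LK LD1_c16 LD2_c48 LD3_c58) (LK LD1_c8 LD2_c59 LD3_c34) Lrfl Lrfl
theorem f173413 : Led Lsl_bt (LP (LK LD1_c16 LD2_c43 LD3_c52)) = (LP (LK LD1_c8 LD2_c56 LD3_c18)) :=
  Lre_b IH (LK LD1_c16 LD2_c43 LD3_c52) (LK LD1_c8 LD2_c56 LD3_c18) Lrfl Lrfl
theorem f173417 : Led Lsl_ct (LP (LK LD1_c16 LD2_c43 LD3_c52)) = (LP (LK LD1_c16 LD2_c48 LD3_c58)) :=
  Lgr Lrot64 (Lpr_bt (f173413 IH) (Lpe (K27.f173405 IH) (Lpe (K27.f173404 IH) (Lpr_ct (K9.f173382 IH) (Lpe (K9.f173364 IH) (Lpe (K27.f168863 IH) (Lpe (K15.f9236 IH) (Lpe (f173414 IH) (Lpr_ct (f173415 IH) (Lpe (f173416 IH) (Lpn (LP (LK LD1_c16 LD2_c48 LD3_c58)))))))))))))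
theorem f384714 : Led Lsl_gt (LP (LK LD1_c17 LD2_c56 LD3_c29)) = (LP (LK LD1_c16 LD2_c43 LD3_c52)) :=
  Lgr Lrot82 (Lpr_bf (f384706 IH) (Lpr_ct (f173472 IH) (Lpe (f173471 IH) (Lpe (f173470 IH) (Lpr_bt (K20.f173469 IH) (Lpe (K15.f9236 IH) (Lpe (f173414 IH) (Lpr_ct (f173415 IH) (Lpe (f173416 IH) (Lpe (f173417 IH) (Lpn (LP (LK LD1_c16 LD2_c43 LD3_c52)))))))))))))
theorem f173468 : Led Lsl_ct (LP (LK LD1_c8 LD2_c59 LD3_c34)) = (LP (LK LD1_c4 LD2_c30 LD3_c37)) :=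
  Lre_c IH (LK LD1_c8 LD2_c59 LD3_c34) (LK LD1_c4 LD2_c30 LD3_c37) Lrfl Lrfl
theorem f354356 : Led Lsl_ft (LP (LK LD1_c2 LD2_c43 LD3_c14)) = (LP (LK LD1_c4 LD2_c30 LD3_c37)) :=
  Lgr Lrot75 (Lpe (f226529 IH) (Lpr_ff (f354352 IH) (Lpe (f173414 IH) (Lpn (LP (LK LD1_c4 LD2_c30 LD3_c37))))))
theorem f313026 : Led Lsl_ff (LP (LK LD1_c1 LD2_c18 LD3_c28)) = (LP (LK LD1_c2 LD2_c12 LD3_c44)) :=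
  Lgr Lrot23 (Lpr_ct (f226560 IH) (Lpr_ft (K19.f313017 IH) (Lpr_ct (K19.f235845 IH) (Lpn (LP (LK LD1_c2 LD2_c12 LD3_c44))))))
theorem f354450 : Led Lsl_df (LP (LK LD1_c2 LD2_c12 LD3_c44)) = (LP (LK LD1_c4 LD2_c30 LD3_c37)) :=
  Lgr Lrot78 (Lpe (f313026 IH) (Lpe (f226584 IH) (Lpr_ft (f354356 IH) (Lpn (LP (LK LD1_c4 LD2_c30 LD3_c37))))))
theorem f235855 : Led Lsl_gt (LP (LK LD1_c9 LD2_c0 LD3_c48)) = (LP (LK LD1_c4 LD2_c31 LD3_c25)) :=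
  Lre_g IH (LK LD1_c9 LD2_c0 LD3_c48) (LK LD1_c4 LD2_c31 LD3_c25) Lrfl Lrfl
theorem f276225 : Led Lsl_bt (LP (LK LD1_c8 LD2_c56 LD3_c11)) = (LP (LK LD1_c4 LD2_c28 LD3_c57)) :=
  Lre_b IH (LK LD1_c8 LD2_c56 LD3_c11) (LK LD1_c4 LD2_c28 LD3_c57) Lrfl Lrfl
theorem f276223 : Led Lsl_bt (LP (LK LD1_c2 LD2_c12 LD3_c44)) = (LP (LK LD1_c1 LD2_c3 LD3_c23)) :=
  Lre_b IH (LK LD1_c2 LD2_c12 LD3_c44) (LK LD1_c1 LD2_c3 LD3_c23) Lrfl Lrfl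
theorem f276226 : Led Lsl_ct (LP (LK LD1_c2 LD2_c12 LD3_c44)) = (LP (LK LD1_c4 LD2_c31 LD3_c25)) :=
  Lre_c IH (LK LD1_c2 LD2_c12 LD3_c44) (LK LD1_c4 LD2_c31 LD3_c25) Lrfl Lrfl
theorem f276227 : Led Lsl_ct (LP (LK LD1_c8 LD2_c56 LD3_c11)) = (LP (LK LD1_c9 LD2_c0 LD3_c48)) :=
  Lgr Lrot64 (Lpr_bt (f276225 IH) (Lpe (K27.f173476 IH) (Lpe (f183318 IH) (Lpr_ct (K9.f169275 IH) (Lpe (K12.f173184 IH) (Lpe (K12.f174517 IH) (Lpr_gf (K16.f276219 IH) (Lpe (f276223 IH) (Lpr_ct (f276226 IH) (Lpe (f235855 IH) (Lpn (LP (LK LD1_c9 LD2_c0 LD3_c48)))))))))))))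
theorem f225913 : Led Lsl_gt (LP (LK LD1_c16 LD2_c43 LD3_c36)) = (LP (LK LD1_c8 LD2_c56 LD3_c11)) :=
  Lre_g IH (LK LD1_c16 LD2_c43 LD3_c36) (LK LD1_c8 LD2_c56 LD3_c11) Lrfl Lrfl
theorem f384720 : Led Lsl_df (LP (LK LD1_c17 LD2_c56 LD3_c29)) = (LP (LK LD1_c16 LD2_c43 LD3_c36)) :=
  Lgr Lrot155 (Lpr_gt (f384714 IH) (Lpr_ct (f173417 IH) (Lpr_gt (f173416 IH) (Lpr_ct (f173468 IH) (Lpe (f354450 IH) (Lpe (K19.f235845 IH) (Lpe (f235855 IH) (Lpe (f276227 IH) (Lpe (f225913 IH) (Lpn (LP (LK LD1_c16 LD2_c43 LD3_c36))))))))))))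
theorem f384724 : Led Lsl_ft (LP (LK LD1_c10 LD2_c52 LD3_c7)) = (LP (LK LD1_c16 LD2_c43 LD3_c36)) :=
  Lgr Lrot54 (Lpe (f226580 IH) (Lpe (f384704 IH) (Lpr_df (f384720 IH) (Lpn (LP (LK LD1_c16 LD2_c43 LD3_c36))))))
theorem f384729 : Led Lsl_ff (LP (LK LD1_c10 LD2_c52 LD3_c7)) = (LP (LK LD1_c16 LD2_c43 LD3_c36)) :=
  Lgr Lrot3 (Lpr_ft (f384724 IH) (Lpn (LP (LK LD1_c16 LD2_c43 LD3_c36))))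
theorem f384249 : Led Lsl_at (LP (LK LD1_c17 LD2_c56 LD3_c29)) = (LP (LK LD1_c9 LD2_c46 LD3_c28)) :=
  Lre_a IH (LK LD1_c17 LD2_c56 LD3_c29) (LK LD1_c9 LD2_c46 LD3_c28) Lrfl Lrfl
theorem f384234 : Led Lsl_dt (LP (LK LD1_c5 LD2_c28 LD3_c48)) = (LP (LK LD1_c4 LD2_c57 LD3_c47)) :=
  Lgr Lrot42 (Lpr_df (f384230 IH) (Lpn (LP (LK LD1_c4 LD2_c57 LD3_c47))))
theorem f289560 : Led Lsl_bt (LP (LK LD1_c10 LD2_c48 LD3_c41)) = (LP (LK LD1_c5 LD2_c28 LD3_c48)) :=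
  Lre_b IH (LK LD1_c10 LD2_c48 LD3_c41) (LK LD1_c5 LD2_c28 LD3_c48) Lrfl Lrfl
theorem f384236 : Led Lsl_df (LP (LK LD1_c10 LD2_c48 LD3_c41)) = (LP (LK LD1_c9 LD2_c46 LD3_c28)) :=
  Lgr Lrot12 (Lpr_bt (f289560 IH) (Lpr_dt (f384234 IH) (Lpr_bt (f319132 IH) (Lpn (LP (LK LD1_c9 LD2_c46 LD3_c28))))))
theorem f384722 : Led Lsl_at (LP (LK LD1_c10 LD2_c48 LD3_c41)) = (LP (LK LD1_c16 LD2_c43 LD3_c36)) :=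
  Lgr Lrot51 (Lpr_df (f384236 IH) (Lpe (f384249 IH) (Lpr_df (f384720 IH) (Lpn (LP (LK LD1_c16 LD2_c43 LD3_c36))))))
theorem f384735 : Led Lsl_at (LP (LK LD1_c10 LD2_c52 LD3_c7)) = (LP (LK LD1_c11 LD2_c5 LD3_c22)) :=
  Lgr Lrot66 (Lpr_ff (f384729 IH) (Lpe (f384722 IH) (Lpe (f384587 IH) (Lpn (LP (LK LD1_c11 LD2_c5 LD3_c22))))))
theorem f289547 : Led Lsl_ct (LP (LK LD1_c11 LD2_c5 LD3_c22)) = (LP (LK LD1_c11 LD2_c5 LD3_c38)) :=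
  Lre_c IH (LK LD1_c11 LD2_c5 LD3_c22) (LK LD1_c11 LD2_c5 LD3_c38) Lrfl Lrfl
theorem f384953 : Led Lsl_at (LP (LK LD1_c11 LD2_c5 LD3_c38)) = (LP (LK LD1_c16 LD2_c50 LD3_c55)) :=
  Lgr Lrot107 (Lpe (f289547 IH) (Lpe (f384735 IH) (Lpr_cf (f384951 IH) (Lpn (LP (LK LD1_c16 LD2_c50 LD3_c55))))))
theorem f384980 : Led Lsl_ff (LP (LK LD1_c11 LD2_c5 LD3_c38)) = (LP (LK LD1_c16 LD2_c50 LD3_c54)) :=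
  Lgr Lrot30 (Lpr_at (f384953 IH) (Lpe (f384965 IH) (Lpr_at (f384971 IH) (Lpn (LP (LK LD1_c16 LD2_c50 LD3_c54))))))
theorem f384984 : Led Lsl_ct (LP (LK LD1_c10 LD2_c48 LD3_c41)) = (LP (LK LD1_c16 LD2_c50 LD3_c54)) :=
  Lgr Lrot40 (Lpe (f384587 IH) (Lpe (f178946 IH) (Lpr_ff (f384980 IH) (Lpn (LP (LK LD1_c16 LD2_c50 LD3_c54))))))
theorem f319273 : Led Lsl_bt (LP (LK LD1_c19 LD2_c32 LD3_c49)) = (LP (LK LD1_c10 LD2_c48 LD3_c42)) :=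
  Lre_b IH (LK LD1_c19 LD2_c32 LD3_c49) (LK LD1_c10 LD2_c48 LD3_c42) Lrfl Lrfl
theorem f384975 : Led Lsl_bt (LP (LK LD1_c16 LD2_c50 LD3_c54)) = (LP (LK LD1_c26 LD2_c48 LD3_c21)) :=
  Lre_b IH (LK LD1_c16 LD2_c50 LD3_c54) (LK LD1_c26 LD2_c48 LD3_c21) Lrfl Lrfl
theorem f384990 : Led Lsl_cf (LP (LK LD1_c19 LD2_c32 LD3_c49)) = (LP (LK LD1_c26 LD2_c48 LD3_c21)) :=
  Lgr Lrot97 (Lpr_bt (f319273 IH) (Lpr_ct (f226822 IH) (Lpr_bt (f319274 IH) (Lpr_ct (f384984 IH) (Lpr_bt (f384975 IH) (Lpn (LP (LK LD1_c26 LD2_c48 LD3_c21))))))))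
theorem f384992 : Led Lsl_ct (LP (LK LD1_c19 LD2_c32 LD3_c49)) = (LP (LK LD1_c26 LD2_c48 LD3_c21)) :=
  Lgr Lrot59 (Lpr_cf (f384990 IH) (Lpn (LP (LK LD1_c26 LD2_c48 LD3_c21))))
theorem f307194 : Led Lsl_bt (LP (LK LD1_c4 LD2_c52 LD3_c25)) = (LP (LK LD1_c9 LD2_c37 LD3_c8)) :=
  Lre_b IH (LK LD1_c4 LD2_c52 LD3_c25) (LK LD1_c9 LD2_c37 LD3_c8) Lrfl Lrfl
theorem f307212 : Led Lsl_df (LP (LK LD1_c10 LD2_c12 LD3_c34)) = (LP (LK LD1_c9 LD2_c37 LD3_c8)) :=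
  Lgr Lrot12 (Lpr_bt (K26.f171461 IH) (Lpr_dt (K21.f307181 IH) (Lpr_bt (f307194 IH) (Lpn (LP (LK LD1_c9 LD2_c37 LD3_c8))))))
theorem f897 : Led Lsl_et (LP (LK LD1_c8 LD2_c30 LD3_c1)) = (LP (LK LD1_c4 LD2_c15 LD3_c32)) :=
  Lre_e IH (LK LD1_c8 LD2_c30 LD3_c1) (LK LD1_c4 LD2_c15 LD3_c32) Lrfl Lrfl
theorem f365456 : Led Lsl_cf (LP (LK LD1_c8 LD2_c30 LD3_c1)) = (LP (LK LD1_c10 LD2_c19 LD3_c19)) :=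
  Lgr Lrot39 (Lpr_et (f897 IH) (Lpr_ct (K27.f365452 IH) (Lpr_et (K26.f259717 IH) (Lpn (LP (LK LD1_c10 LD2_c19 LD3_c19))))))
theorem f170443 : Led Lsl_ct (LP (LK LD1_c16 LD2_c1 LD3_c35)) = (LP (LK LD1_c8 LD2_c32 LD3_c10)) :=
  Lre_c IH (LK LD1_c16 LD2_c1 LD3_c35) (LK LD1_c8 LD2_c32 LD3_c10) Lrfl Lrfl
theorem f354797 : Led Lsl_ct (LP (LK LD1_c4 LD2_c51 LD3_c46)) = (LP (LK LD1_c9 LD2_c35 LD3_c43)) :=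
  Lre_c IH (LK LD1_c4 LD2_c51 LD3_c46) (LK LD1_c9 LD2_c35 LD3_c43) Lrfl Lrfl
theorem f359270 : Led Lsl_gf (LP (LK LD1_c4 LD2_c51 LD3_c54)) = (LP (LK LD1_c9 LD2_c35 LD3_c43)) :=
  Lgr Lrot126 (Lpe (K27.f232567 IH) (Lpr_bt (K13.f232346 IH) (Lpr_gt (K22.f47700 IH) (Lpr_ct (K23.f47701 IH) (Lpe (K23.f341724 IH) (Lpr_cf (K17.f236734 IH) (Lpr_bt (K12.f33235 IH) (Lpe (K21.f279403 IH) (Lpr_bf (K26.f359219 IH) (Lpr_ct (f354797 IH) (Lpn (LP (LK LD1_c9 LD2_c35 LD3_c43)))))))))))))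
theorem f341722 : Led Lsl_bt (LP (LK LD1_c8 LD2_c29 LD3_c56)) = (LP (LK LD1_c8 LD2_c16 LD3_c46)) :=
  Lgr Lrot127 (Lpr_bf (K23.f341720 IH) (Lpn (LP (LK LD1_c8 LD2_c16 LD3_c46))))
theorem f49052 : Led Lsl_ct (LP (LK LD1_c8 LD2_c29 LD3_c56)) = (LP (LK LD1_c15 LD2_c57 LD3_c28)) :=
  Lre_c IH (LK LD1_c8 LD2_c29 LD3_c56) (LK LD1_c15 LD2_c57 LD3_c28) Lrfl Lrfl
theorem f367985 : Led Lsl_gf (LP (LK LD1_c8 LD2_c32 LD3_c10)) = (LP (LK LD1_c15 LD2_c57 LD3_c28)) :=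
  Lgr Lrot126 (Lpe (f170443 IH) (Lpr_bt (K22.f170428 IH) (Lpr_gt (K27.f367981 IH) (Lpr_ct (f354797 IH) (Lpe (f359270 IH) (Lpe (K27.f232567 IH) (Lpr_bt (K13.f232346 IH) (Lpr_gt (K22.f47700 IH) (Lpe (f341722 IH) (Lpr_ct (f49052 IH) (Lpn (LP (LK LD1_c15 LD2_c57 LD3_c28)))))))))))))
theorem f369389 : Led Lsl_gf (LP (LK LD1_c15 LD2_c57 LD3_c28)) = (LP (LK LD1_c8 LD2_c30 LD3_c1)) :=
  Lgr Lrot47 (Lpe (f367985 IH) (Lpr_af (K27.f369374 IH) (Lpe (K27.f365426 IH) (Lpn (LP (LK LD1_c8 LD2_c30 LD3_c1))))))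
theorem f261429 : Led Lsl_ct (LP (LK LD1_c15 LD2_c57 LD3_c28)) = (LP (LK LD1_c8 LD2_c29 LD3_c56)) :=
  Lre_c IH (LK LD1_c15 LD2_c57 LD3_c28) (LK LD1_c8 LD2_c29 LD3_c56) Lrfl Lrfl
theorem f350776 : Led Lsl_at (LP (LK LD1_c18 LD2_c45 LD3_c3)) = (LP (LK LD1_c10 LD2_c21 LD3_c38)) :=
  Lgr Lrot100 (Lpr_af (K26.f350774 IH) (Lpn (LP (LK LD1_c10 LD2_c21 LD3_c38))))
theorem f49511 : Led Lsl_ft (LP (LK LD1_c10 LD2_c19 LD3_c42)) = (LP (LK LD1_c18 LD2_c45 LD3_c3)) :=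
  Lre_f IH (LK LD1_c10 LD2_c19 LD3_c42) (LK LD1_c18 LD2_c45 LD3_c3) Lrfl Lrfl
theorem f362520 : Led Lsl_gt (LP (LK LD1_c10 LD2_c19 LD3_c42)) = (LP (LK LD1_c15 LD2_c36 LD3_c8)) :=
  Lgr Lrot5 (Lpr_ft (f49511 IH) (Lpr_at (f350776 IH) (Lpr_gf (K26.f362515 IH) (Lpn (LP (LK LD1_c15 LD2_c36 LD3_c8))))))
theorem f371094 : Led Lsl_gt (LP (LK LD1_c10 LD2_c12 LD3_c34)) = (LP (LK LD1_c8 LD2_c26 LD3_c18)) :=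
  Lgr Lrot9 (Lpr_df (f307212 IH) (Lpr_gt (K27.f371086 IH) (Lpe (f365456 IH) (Lpe (f369389 IH) (Lpr_ct (f261429 IH) (Lpr_df (K21.f285591 IH) (Lpe (K26.f285680 IH) (Lpe (f362520 IH) (Lpr_cf (K17.f49496 IH) (Lpn (LP (LK LD1_c8 LD2_c26 LD3_c18))))))))))))
theorem f294341 : Led Lsl_at (LP (LK LD1_c9 LD2_c40 LD3_c23)) = (LP (LK LD1_c9 LD2_c39 LD3_c50)) :=
  Lgr Lrot107 (Lpr_cf (K26.f294339 IH) (Lpr_af (K17.f287650 IH) (Lpe (K26.f229055 IH) (Lpn (LP (LK LD1_c9 LD2_c39 LD3_c50))))))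
theorem f362862 : Led Lsl_gt (LP (LK LD1_c17 LD2_c47 LD3_c36)) = (LP (LK LD1_c10 LD2_c12 LD3_c35)) :=
  Lgr Lrot5 (Lpr_ft (K26.f294282 IH) (Lpr_at (f294341 IH) (Lpr_gf (K26.f362856 IH) (Lpn (LP (LK LD1_c10 LD2_c12 LD3_c35))))))
theorem f294337 : Led Lsl_cf (LP (LK LD1_c17 LD2_c47 LD3_c36)) = (LP (LK LD1_c10 LD2_c25 LD3_c30)) :=
  Lgr Lrot11 (Lpr_ct (K26.f294332 IH) (Lpn (LP (LK LD1_c10 LD2_c25 LD3_c30))))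
theorem f321765 : Led Lsl_af (LP (LK LD1_c10 LD2_c30 LD3_c7)) = (LP (LK LD1_c10 LD2_c28 LD3_c59)) :=
  Lgr Lrot68 (Lpr_ct (K20.f321762 IH) (Lpr_at (K15.f266219 IH) (Lpe (K17.f230089 IH) (Lpn (LP (LK LD1_c10 LD2_c28 LD3_c59))))))
theorem f230102 : Led Lsl_ft (LP (LK LD1_c5 LD2_c19 LD3_c33)) = (LP (LK LD1_c10 LD2_c28 LD3_c59)) :=
  Lre_f IH (LK LD1_c5 LD2_c19 LD3_c33) (LK LD1_c10 LD2_c28 LD3_c59) Lrfl Lrfl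
theorem f321776 : Led Lsl_gt (LP (LK LD1_c5 LD2_c19 LD3_c33)) = (LP (LK LD1_c10 LD2_c22 LD3_c32)) :=
  Lgr Lrot5 (Lpr_ft (f230102 IH) (Lpe (f321765 IH) (Lpr_gf (K20.f321773 IH) (Lpn (LP (LK LD1_c10 LD2_c22 LD3_c32))))))
theorem f302855 : Led Lsl_bt (LP (LK LD1_c5 LD2_c16 LD3_c29)) = (LP (LK LD1_c10 LD2_c22 LD3_c31)) :=
  Lre_b IH (LK LD1_c5 LD2_c16 LD3_c29) (LK LD1_c10 LD2_c22 LD3_c31) Lrfl Lrfl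
theorem f371106 : Led Lsl_gf (LP (LK LD1_c10 LD2_c25 LD3_c30)) = (LP (LK LD1_c10 LD2_c22 LD3_c31)) :=
  Lgr Lrot181 (Lpe (f294337 IH) (Lpr_gt (f362862 IH) (Lpe (K25.f171454 IH) (Lpr_bt (K27.f307175 IH) (Lpr_gt (f371094 IH) (Lpr_bf (K17.f189504 IH) (Lpe (K26.f230083 IH) (Lpr_gt (f321776 IH) (Lpe (K20.f166067 IH) (Lpr_bt (f302855 IH) (Lpn (LP (LK LD1_c10 LD2_c22 LD3_c31)))))))))))))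
theorem f246329 : Led Lsl_af (LP (LK LD1_c4 LD2_c21 LD3_c40)) = (LP (LK LD1_c4 LD2_c15 LD3_c55)) :=
  Lgr Lrot117 (Lpe (K22.f196633 IH) (Lpr_at (K13.f246325 IH) (Lpr_dt (K23.f220656 IH) (Lpn (LP (LK LD1_c4 LD2_c15 LD3_c55))))))
theorem f267156 : Led Lsl_gf (LP (LK LD1_c8 LD2_c17 LD3_c59)) = (LP (LK LD1_c8 LD2_c30 LD3_c53)) :=
  Lgr Lrot47 (Lpr_gt (K15.f267154 IH) (Lpr_af (f246329 IH) (Lpe (K13.f220659 IH) (Lpn (LP (LK LD1_c8 LD2_c30 LD3_c53))))))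
theorem f365117 : Led Lsl_df (LP (LK LD1_c2 LD2_c37 LD3_c15)) = (LP (LK LD1_c4 LD2_c9 LD3_c29)) :=
  Lgr Lrot12 (Lpr_bt (K21.f190357 IH) (Lpr_dt (K13.f184767 IH) (Lpr_bt (K26.f365115 IH) (Lpn (LP (LK LD1_c4 LD2_c9 LD3_c29))))))
theorem f371314 : Led Lsl_gt (LP (LK LD1_c8 LD2_c18 LD3_c58)) = (LP (LK LD1_c8 LD2_c35 LD3_c7)) :=
  Lgr Lrot137 (Lpe (K26.f365103 IH) (Lpe (f365117 IH) (Lpe (K15.f261300 IH) (Lpe (K15.f261317 IH) (Lpr_et (K15.f267149 IH) (Lpr_gf (f267156 IH) (Lpr_ef (K14.f251068 IH) (Lpr_dt (K14.f49008 IH) (Lpr_gf (f371106 IH) (Lpr_df (K26.f302890 IH) (Lpn (LP (LK LD1_c8 LD2_c35 LD3_c7)))))))))))))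
theorem f365113 : Led Lsl_dt (LP (LK LD1_c5 LD2_c21 LD3_c20)) = (LP (LK LD1_c8 LD2_c18 LD3_c58)) :=
  Lgr Lrot79 (Lpr_bf (K26.f190368 IH) (Lpr_df (K21.f184777 IH) (Lpr_bf (K26.f365109 IH) (Lpn (LP (LK LD1_c8 LD2_c18 LD3_c58))))))
theorem f339956 : Led Lsl_et (LP (LK LD1_c19 LD2_c42 LD3_c18)) = (LP (LK LD1_c10 LD2_c54 LD3_c20)) :=
  Lre_e IH (LK LD1_c19 LD2_c42 LD3_c18) (LK LD1_c10 LD2_c54 LD3_c20) Lrfl Lrfl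
theorem f339959 : Led Lsl_gt (LP (LK LD1_c10 LD2_c54 LD3_c20)) = (LP (LK LD1_c15 LD2_c1 LD3_c0)) :=
  Lgr Lrot131 (Lpe (f339956 IH) (Lpr_dt (K27.f339942 IH) (Lpr_gf (K23.f339950 IH) (Lpe (K23.f253603 IH) (Lpe (K22.f336256 IH) (Lpe (K22.f303311 IH) (Lpr_dt (K18.f226818 IH) (Lpr_gf (K22.f336260 IH) (Lpe (K22.f189485 IH) (Lpr_et (K27.f254031 IH) (Lpn (LP (LK LD1_c15 LD2_c1 LD3_c0)))))))))))))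
theorem f261634 : Led Lsl_ct (LP (LK LD1_c5 LD2_c31 LD3_c22)) = (LP (LK LD1_c10 LD2_c54 LD3_c20)) :=
  Lre_c IH (LK LD1_c5 LD2_c31 LD3_c22) (LK LD1_c10 LD2_c54 LD3_c20) Lrfl Lrfl
theorem f196515 : Led Lsl_ct (LP (LK LD1_c15 LD2_c1 LD3_c0)) = (LP (LK LD1_c7 LD2_c57 LD3_c42)) :=
  Lre_c IH (LK LD1_c15 LD2_c1 LD3_c0) (LK LD1_c7 LD2_c57 LD3_c42) Lrfl Lrfl
theorem f339964 : Led Lsl_gf (LP (LK LD1_c5 LD2_c31 LD3_c22)) = (LP (LK LD1_c8 LD2_c54 LD3_c13)) :=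
  Lgr Lrot147 (Lpr_ct (f261634 IH) (Lpr_gt (f339959 IH) (Lpr_ct (f196515 IH) (Lpr_df (K14.f246169 IH) (Lpe (K27.f246171 IH) (Lpe (K21.f246173 IH) (Lpe (K21.f326729 IH) (Lpe (K18.f294224 IH) (Lpr_df (K25.f304097 IH) (Lpn (LP (LK LD1_c8 LD2_c54 LD3_c13))))))))))))
theorem f339978 : Led Lsl_gt (LP (LK LD1_c5 LD2_c31 LD3_c22)) = (LP (LK LD1_c8 LD2_c2 LD3_c53)) :=
  Lgr Lrot46 (Lpr_gf (f339964 IH) (Lpr_ft (K17.f293094 IH) (Lpr_at (K17.f293067 IH) (Lpn (LP (LK LD1_c8 LD2_c2 LD3_c53))))))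
theorem f339983 : Led Lsl_dt (LP (LK LD1_c10 LD2_c54 LD3_c21)) = (LP (LK LD1_c5 LD2_c31 LD3_c22)) :=
  Lre_d IH (LK LD1_c10 LD2_c54 LD3_c21) (LK LD1_c5 LD2_c31 LD3_c22) Lrfl Lrfl
theorem f302857 : Led Lsl_dt (LP (LK LD1_c10 LD2_c22 LD3_c31)) = (LP (LK LD1_c8 LD2_c35 LD3_c7)) :=
  Lgr Lrot79 (Lpe (f302855 IH) (Lpr_df (K20.f302852 IH) (Lpe (K26.f302856 IH) (Lpn (LP (LK LD1_c8 LD2_c35 LD3_c7))))))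
theorem f302896 : Led Lsl_et (LP (LK LD1_c10 LD2_c22 LD3_c31)) = (LP (LK LD1_c18 LD2_c49 LD3_c42)) :=
  Lre_e IH (LK LD1_c10 LD2_c22 LD3_c31) (LK LD1_c18 LD2_c49 LD3_c42) Lrfl Lrfl
theorem f371321 : Led Lsl_gf (LP (LK LD1_c10 LD2_c54 LD3_c21)) = (LP (LK LD1_c18 LD2_c49 LD3_c42)) :=
  Lgr Lrot138 (Lpr_dt (f339983 IH) (Lpr_gt (f339978 IH) (Lpe (K18.f294214 IH) (Lpr_et (K18.f288506 IH) (Lpr_gt (K25.f288509 IH) (Lpe (K26.f190367 IH) (Lpr_dt (f365113 IH) (Lpr_gt (f371314 IH) (Lpe (f302857 IH) (Lpr_et (f302896 IH) (Lpn (LP (LK LD1_c18 LD2_c49 LD3_c42)))))))))))))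
theorem f339946 : Led Lsl_dt (LP (LK LD1_c5 LD2_c31 LD3_c22)) = (LP (LK LD1_c10 LD2_c54 LD3_c21)) :=
  Lre_d IH (LK LD1_c5 LD2_c31 LD3_c22) (LK LD1_c10 LD2_c54 LD3_c21) Lrfl Lrfl
theorem f340149 : Led Lsl_et (LP (LK LD1_c5 LD2_c31 LD3_c22)) = (LP (LK LD1_c10 LD2_c54 LD3_c22)) :=
  Lre_e IH (LK LD1_c5 LD2_c31 LD3_c22) (LK LD1_c10 LD2_c54 LD3_c22) Lrfl Lrfl
theorem f363191 : Led Lsl_dt (LP (LK LD1_c25 LD2_c11 LD3_c17)) = (LP (LK LD1_c15 LD2_c57 LD3_c4)) :=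
  Lgr Lrot42 (Lpr_df (K26.f363181 IH) (Lpn (LP (LK LD1_c15 LD2_c57 LD3_c4))))
theorem f323360 : Led Lsl_bf (LP (LK LD1_c9 LD2_c33 LD3_c55)) = (LP (LK LD1_c8 LD2_c1 LD3_c29)) :=
  Lgr Lrot24 (Lpr_bt (K21.f323358 IH) (Lpn (LP (LK LD1_c8 LD2_c1 LD3_c29))))
theorem f269932 : Led Lsl_gf (LP (LK LD1_c8 LD2_c41 LD3_c15)) = (LP (LK LD1_c9 LD2_c38 LD3_c7)) :=
  Lgr Lrot47 (Lpr_gt (K22.f237751 IH) (Lpr_af (K16.f269908 IH) (Lpe (K16.f269929 IH) (Lpn (LP (LK LD1_c9 LD2_c38 LD3_c7))))))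
theorem f363187 : Led Lsl_gf (LP (LK LD1_c14 LD2_c57 LD3_c25)) = (LP (LK LD1_c15 LD2_c57 LD3_c4)) :=
  Lgr Lrot124 (Lpe (K16.f269886 IH) (Lpr_ct (K16.f270359 IH) (Lpe (f269932 IH) (Lpr_cf (K22.f247093 IH) (Lpe (f323360 IH) (Lpr_gt (K14.f189258 IH) (Lpr_ct (K19.f192397 IH) (Lpr_gt (K25.f192427 IH) (Lpr_cf (K27.f354941 IH) (Lpr_bt (K27.f363185 IH) (Lpn (LP (LK LD1_c15 LD2_c57 LD3_c4)))))))))))))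
theorem f260351 : Led Lsl_gt (LP (LK LD1_c18 LD2_c53 LD3_c49)) = (LP (LK LD1_c10 LD2_c24 LD3_c58)) :=
  Lre_g IH (LK LD1_c18 LD2_c53 LD3_c49) (LK LD1_c10 LD2_c24 LD3_c58) Lrfl Lrfl
theorem f275681 : Led Lsl_gt (LP (LK LD1_c15 LD2_c18 LD3_c39)) = (LP (LK LD1_c18 LD2_c53 LD3_c49)) :=
  Lgr Lrot5 (Lpr_ft (K16.f275674 IH) (Lpe (K16.f271264 IH) (Lpe (f260351 IH) (Lpn (LP (LK LD1_c18 LD2_c53 LD3_c49))))))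
theorem f371327 : Led Lsl_dt (LP (LK LD1_c18 LD2_c53 LD3_c49)) = (LP (LK LD1_c18 LD2_c49 LD3_c42)) :=
  Lgr Lrot171 (Lpe (f275681 IH) (Lpe (K16.f275664 IH) (Lpr_dt (K25.f275685 IH) (Lpr_gf (f363187 IH) (Lpe (f363191 IH) (Lpr_et (K26.f356871 IH) (Lpe (K25.f339949 IH) (Lpe (f340149 IH) (Lpr_dt (f339946 IH) (Lpr_gf (f371321 IH) (Lpn (LP (LK LD1_c18 LD2_c49 LD3_c42)))))))))))))
theorem f302900 : Led Lsl_et (LP (LK LD1_c18 LD2_c49 LD3_c42)) = (LP (LK LD1_c10 LD2_c22 LD3_c31)) :=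
  Lre_e IH (LK LD1_c18 LD2_c49 LD3_c42) (LK LD1_c10 LD2_c22 LD3_c31) Lrfl Lrfl
theorem f302898 : Led Lsl_et (LP (LK LD1_c8 LD2_c35 LD3_c7)) = (LP (LK LD1_c16 LD2_c6 LD3_c34)) :=
  Lre_e IH (LK LD1_c8 LD2_c35 LD3_c7) (LK LD1_c16 LD2_c6 LD3_c34) Lrfl Lrfl
theorem f261029 : Led Lsl_et (LP (LK LD1_c4 LD2_c8 LD3_c60)) = (LP (LK LD1_c2 LD2_c1 LD3_c51)) :=
  Lre_e IH (LK LD1_c4 LD2_c8 LD3_c60) (LK LD1_c2 LD2_c1 LD3_c51) Lrfl Lrfl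
theorem f370405 : Led Lsl_dt (LP (LK LD1_c4 LD2_c8 LD3_c60)) = (LP (LK LD1_c8 LD2_c7 LD3_c48)) :=
  Lgr Lrot60 (Lpe (K21.f328854 IH) (Lpr_df (K27.f370403 IH) (Lpe (K27.f370390 IH) (Lpn (LP (LK LD1_c8 LD2_c7 LD3_c48))))))
theorem f371318 : Led Lsl_gt (LP (LK LD1_c15 LD2_c18 LD3_c30)) = (LP (LK LD1_c8 LD2_c7 LD3_c48)) :=
  Lre_g IH (LK LD1_c15 LD2_c18 LD3_c30) (LK LD1_c8 LD2_c7 LD3_c48) Lrfl Lrfl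
theorem f302897 : Led Lsl_et (LP (LK LD1_c16 LD2_c6 LD3_c34)) = (LP (LK LD1_c8 LD2_c35 LD3_c7)) :=
  Lre_e IH (LK LD1_c16 LD2_c6 LD3_c34) (LK LD1_c8 LD2_c35 LD3_c7) Lrfl Lrfl
theorem f371319 : Led Lsl_df (LP (LK LD1_c15 LD2_c18 LD3_c30)) = (LP (LK LD1_c16 LD2_c6 LD3_c34)) :=
  Lgr Lrot170 (Lpr_gt (f371318 IH) (Lpe (f370405 IH) (Lpr_et (f261029 IH) (Lpr_gt (K14.f167184 IH) (Lpr_dt (K15.f261317 IH) (Lpr_gt (K15.f261300 IH) (Lpr_df (f365117 IH) (Lpr_et (K26.f365103 IH) (Lpr_gt (f371314 IH) (Lpe (f302897 IH) (Lpn (LP (LK LD1_c16 LD2_c6 LD3_c34)))))))))))))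
theorem f371331 : Led Lsl_ef (LP (LK LD1_c18 LD2_c53 LD3_c49)) = (LP (LK LD1_c15 LD2_c18 LD3_c30)) :=
  Lgr Lrot73 (Lpr_dt (f371327 IH) (Lpr_et (f302900 IH) (Lpr_dt (f302857 IH) (Lpr_et (f302898 IH) (Lpe (f371319 IH) (Lpn (LP (LK LD1_c15 LD2_c18 LD3_c30))))))))
theorem f371335 : Led Lsl_et (LP (LK LD1_c18 LD2_c53 LD3_c49)) = (LP (LK LD1_c15 LD2_c18 LD3_c30)) :=
  Lgr Lrot87 (Lpr_ef (f371331 IH) (Lpn (LP (LK LD1_c15 LD2_c18 LD3_c30))))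
theorem f318015 : Led Lsl_ft (LP (LK LD1_c2 LD2_c1 LD3_c52)) = (LP (LK LD1_c4 LD2_c8 LD3_c61)) :=
  Lre_f IH (LK LD1_c2 LD2_c1 LD3_c52) (LK LD1_c4 LD2_c8 LD3_c61) Lrfl Lrfl
theorem f370387 : Led Lsl_df (LP (LK LD1_c2 LD2_c1 LD3_c52)) = (LP (LK LD1_c4 LD2_c3 LD3_c39)) :=
  Lgr Lrot78 (Lpr_ft (f318015 IH) (Lpe (K20.f317752 IH) (Lpr_ft (K27.f370283 IH) (Lpn (LP (LK LD1_c4 LD2_c3 LD3_c39))))))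
theorem f275481 : Led Lsl_dt (LP (LK LD1_c4 LD2_c1 LD3_c4)) = (LP (LK LD1_c2 LD2_c24 LD3_c11)) :=
  Lgr Lrot6 (Lpr_gt (K16.f275475 IH) (Lpr_ct (K16.f170857 IH) (Lpe (K16.f275471 IH) (Lpr_ct (K16.f173837 IH) (Lpr_df (K15.f224057 IH) (Lpe (K16.f191060 IH) (Lpe (K16.f191062 IH) (Lpe (K16.f264044 IH) (Lpe (K16.f179757 IH) (Lpn (LP (LK LD1_c2 LD2_c24 LD3_c11))))))))))))
theorem f218998 : Led Lsl_et (LP (LK LD1_c4 LD2_c1 LD3_c4)) = (LP (LK LD1_c8 LD2_c2 LD3_c53)) :=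
  Lre_e IH (LK LD1_c4 LD2_c1 LD3_c4) (LK LD1_c8 LD2_c2 LD3_c53) Lrfl Lrfl
theorem f371343 : Led Lsl_gf (LP (LK LD1_c18 LD2_c49 LD3_c42)) = (LP (LK LD1_c24 LD2_c58 LD3_c8)) :=
  Lgr Lrot134 (Lpe (f371327 IH) (Lpr_et (f371335 IH) (Lpr_gt (f371318 IH) (Lpe (K27.f370389 IH) (Lpe (f370387 IH) (Lpe (K18.f266807 IH) (Lpe (f275481 IH) (Lpr_et (f218998 IH) (Lpr_gt (K23.f218976 IH) (Lpr_dt (K26.f218977 IH) (Lpn (LP (LK LD1_c24 LD2_c58 LD3_c8)))))))))))))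
theorem f310809 : Led Lsl_et (LP (LK LD1_c15 LD2_c36 LD3_c39)) = (LP (LK LD1_c10 LD2_c35 LD3_c43)) :=
  Lgr Lrot71 (Lpe (K22.f292421 IH) (Lpe (K19.f219694 IH) (Lpr_df (K19.f310804 IH) (Lpr_ef (K19.f310727 IH) (Lpe (K10.f194727 IH) (Lpn (LP (LK LD1_c10 LD2_c35 LD3_c43))))))))
theorem f371345 : Led Lsl_df (LP (LK LD1_c4 LD2_c8 LD3_c60)) = (LP (LK LD1_c8 LD2_c7 LD3_c48)) :=
  Lgr Lrot135 (Lpr_gt (K19.f219773 IH) (Lpe (K25.f292422 IH) (Lpr_et (f310809 IH) (Lpe (K25.f346479 IH) (Lpe (K23.f346263 IH) (Lpr_dt (K26.f218977 IH) (Lpe (f371343 IH) (Lpe (f371327 IH) (Lpr_et (f371335 IH) (Lpr_gt (f371318 IH) (Lpn (LP (LK LD1_c8 LD2_c7 LD3_c48)))))))))))))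
theorem f212499 : Led Lsl_et (LP (LK LD1_c8 LD2_c7 LD3_c48)) = (LP (LK LD1_c4 LD2_c3 LD3_c39)) :=
  Lre_e IH (LK LD1_c8 LD2_c7 LD3_c48) (LK LD1_c4 LD2_c3 LD3_c39) Lrfl Lrfl
theorem f371360 : Led Lsl_gt (LP (LK LD1_c2 LD2_c11 LD3_c1)) = (LP (LK LD1_c4 LD2_c3 LD3_c39)) :=
  Lgr Lrot131 (Lpe (K13.f231296 IH) (Lpe (K25.f231313 IH) (Lpr_gf (K25.f346257 IH) (Lpe (K23.f346253 IH) (Lpr_gf (K25.f346479 IH) (Lpe (f310809 IH) (Lpr_dt (K25.f292422 IH) (Lpe (K19.f219773 IH) (Lpr_df (f371345 IH) (Lpr_et (f212499 IH) (Lpn (LP (LK LD1_c4 LD2_c3 LD3_c39)))))))))))))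
theorem f278941 : Led Lsl_bt (LP (LK LD1_c1 LD2_c2 LD3_c34)) = (LP (LK LD1_c2 LD2_c11 LD3_c1)) :=
  Lre_b IH (LK LD1_c1 LD2_c2 LD3_c34) (LK LD1_c2 LD2_c11 LD3_c1) Lrfl Lrfl
theorem f188628 : Led Lsl_bt (LP (LK LD1_c2 LD2_c4 LD3_c26)) = (LP (LK LD1_c4 LD2_c14 LD3_c2)) :=
  Lre_b IH (LK LD1_c2 LD2_c4 LD3_c26) (LK LD1_c4 LD2_c14 LD3_c2) Lrfl Lrfl
theorem f371365 : Led Lsl_bt (LP (LK LD1_c2 LD2_c1 LD3_c58)) = (LP (LK LD1_c4 LD2_c3 LD3_c39)) :=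
  Lgr Lrot92 (Lpr_ct (K17.f236261 IH) (Lpe (K18.f236259 IH) (Lpe (K13.f188611 IH) (Lpr_bt (f188628 IH) (Lpe (K25.f278933 IH) (Lpr_ct (K16.f278909 IH) (Lpr_gt (K16.f260913 IH) (Lpe (K16.f225914 IH) (Lpr_bt (f278941 IH) (Lpr_gt (f371360 IH) (Lpn (LP (LK LD1_c4 LD2_c3 LD3_c39)))))))))))))
theorem f371371 : Led Lsl_bf (LP (LK LD1_c4 LD2_c9 LD3_c12)) = (LP (LK LD1_c8 LD2_c7 LD3_c48)) :=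
  Lgr Lrot96 (Lpr_et (K17.f236266 IH) (Lpr_bt (f371365 IH) (Lpr_et (K27.f370389 IH) (Lpn (LP (LK LD1_c8 LD2_c7 LD3_c48))))))
theorem f370285 : Led Lsl_ft (LP (LK LD1_c10 LD2_c46 LD3_c32)) = (LP (LK LD1_c15 LD2_c1 LD3_c28)) :=
  Lgr Lrot54 (Lpe (K18.f282874 IH) (Lpr_ff (K27.f370279 IH) (Lpe (K27.f223169 IH) (Lpn (LP (LK LD1_c15 LD2_c1 LD3_c28))))))
theorem f344571 : Led Lsl_at (LP (LK LD1_c15 LD2_c1 LD3_c31)) = (LP (LK LD1_c10 LD2_c46 LD3_c32)) :=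
  Lgr Lrot33 (Lpr_ff (K23.f329082 IH) (Lpr_dt (K23.f284620 IH) (Lpr_ct (K18.f227991 IH) (Lpe (K23.f344567 IH) (Lpe (K23.f324689 IH) (Lpe (K18.f260938 IH) (Lpe (K14.f220347 IH) (Lpr_dt (K18.f171012 IH) (Lpr_ct (K23.f344562 IH) (Lpn (LP (LK LD1_c10 LD2_c46 LD3_c32))))))))))))
theorem f370288 : Led Lsl_af (LP (LK LD1_c15 LD2_c2 LD3_c9)) = (LP (LK LD1_c15 LD2_c1 LD3_c28)) :=
  Lgr Lrot45 (Lpe (K23.f329082 IH) (Lpr_at (f344571 IH) (Lpr_ft (f370285 IH) (Lpn (LP (LK LD1_c15 LD2_c1 LD3_c28))))))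
theorem f254028 : Led Lsl_et (LP (LK LD1_c24 LD2_c49 LD3_c30)) = (LP (LK LD1_c15 LD2_c1 LD3_c28)) :=
  Lre_e IH (LK LD1_c24 LD2_c49 LD3_c30) (LK LD1_c15 LD2_c1 LD3_c28) Lrfl Lrfl
theorem f370299 : Led Lsl_at (LP (LK LD1_c24 LD2_c50 LD3_c42)) = (LP (LK LD1_c24 LD2_c49 LD3_c30)) :=
  Lgr Lrot80 (Lpe (K23.f284622 IH) (Lpr_af (f370288 IH) (Lpe (f254028 IH) (Lpn (LP (LK LD1_c24 LD2_c49 LD3_c30))))))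
theorem f254029 : Led Lsl_dt (LP (LK LD1_c24 LD2_c49 LD3_c30)) = (LP (LK LD1_c31 LD2_c40 LD3_c15)) :=
  Lre_d IH (LK LD1_c24 LD2_c49 LD3_c30) (LK LD1_c31 LD2_c40 LD3_c15) Lrfl Lrfl
theorem f370305 : Led Lsl_af (LP (LK LD1_c31 LD2_c41 LD3_c13)) = (LP (LK LD1_c31 LD2_c40 LD3_c15)) :=
  Lgr Lrot117 (Lpr_dt (K23.f284631 IH) (Lpr_at (f370299 IH) (Lpr_dt (f254029 IH) (Lpn (LP (LK LD1_c31 LD2_c40 LD3_c15))))))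
theorem f370237 : Led Lsl_et (LP (LK LD1_c24 LD2_c49 LD3_c31)) = (LP (LK LD1_c31 LD2_c40 LD3_c15)) :=
  Lre_e IH (LK LD1_c24 LD2_c49 LD3_c31) (LK LD1_c31 LD2_c40 LD3_c15) Lrfl Lrfl
theorem f370310 : Led Lsl_at (LP (LK LD1_c25 LD2_c37 LD3_c27)) = (LP (LK LD1_c24 LD2_c49 LD3_c31)) :=
  Lgr Lrot80 (Lpe (K23.f284625 IH) (Lpr_af (f370305 IH) (Lpe (f370237 IH) (Lpn (LP (LK LD1_c24 LD2_c49 LD3_c31))))))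
theorem f274197 : Led Lsl_gt (LP (LK LD1_c25 LD2_c21 LD3_c2)) = (LP (LK LD1_c15 LD2_c28 LD3_c40)) :=
  Lre_g IH (LK LD1_c25 LD2_c21 LD3_c2) (LK LD1_c15 LD2_c28 LD3_c40) Lrfl Lrfl
theorem f274199 : Led Lsl_df (LP (LK LD1_c25 LD2_c21 LD3_c2)) = (LP (LK LD1_c25 LD2_c20 LD3_c31)) :=
  Lgr Lrot170 (Lpr_gt (f274197 IH) (Lpe (K21.f183606 IH) (Lpr_et (K21.f183605 IH) (Lpr_gt (K9.f182713 IH) (Lpe (K16.f274194 IH) (Lpr_gt (K16.f274185 IH) (Lpe (K16.f265087 IH) (Lpr_et (K22.f274145 IH) (Lpr_gt (K22.f254195 IH) (Lpe (K27.f274198 IH) (Lpn (LP (LK LD1_c25 LD2_c20 LD3_c31)))))))))))))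
theorem f344734 : Led Lsl_ft (LP (LK LD1_c25 LD2_c21 LD3_c2)) = (LP (LK LD1_c25 LD2_c37 LD3_c27)) :=
  Lgr Lrot54 (Lpr_df (f274199 IH) (Lpr_ff (K23.f344727 IH) (Lpe (K23.f284624 IH) (Lpn (LP (LK LD1_c25 LD2_c37 LD3_c27))))))
theorem f370316 : Led Lsl_gt (LP (LK LD1_c15 LD2_c28 LD3_c40)) = (LP (LK LD1_c24 LD2_c49 LD3_c31)) :=
  Lgr Lrot46 (Lpe (f274197 IH) (Lpr_ft (f344734 IH) (Lpr_at (f370310 IH) (Lpn (LP (LK LD1_c24 LD2_c49 LD3_c31))))))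
theorem f301677 : Led Lsl_ft (LP (LK LD1_c15 LD2_c28 LD3_c40)) = (LP (LK LD1_c25 LD2_c21 LD3_c4)) :=
  Lre_f IH (LK LD1_c15 LD2_c28 LD3_c40) (LK LD1_c25 LD2_c21 LD3_c4) Lrfl Lrfl
theorem f356179 : Led Lsl_gt (LP (LK LD1_c24 LD2_c49 LD3_c31)) = (LP (LK LD1_c31 LD2_c40 LD3_c16)) :=
  Lre_g IH (LK LD1_c24 LD2_c49 LD3_c31) (LK LD1_c31 LD2_c40 LD3_c16) Lrfl Lrfl
theorem f370319 : Led Lsl_at (LP (LK LD1_c25 LD2_c21 LD3_c4)) = (LP (LK LD1_c31 LD2_c40 LD3_c16)) :=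
  Lgr Lrot26 (Lpe (f301677 IH) (Lpr_gt (f370316 IH) (Lpr_gt (f356179 IH) (Lpn (LP (LK LD1_c31 LD2_c40 LD3_c16))))))
theorem f324974 : Led Lsl_at (LP (LK LD1_c25 LD2_c19 LD3_c19)) = (LP (LK LD1_c15 LD2_c28 LD3_c41)) :=
  Lgr Lrot100 (Lpr_af (K21.f324969 IH) (Lpn (LP (LK LD1_c15 LD2_c28 LD3_c41))))
theorem f370328 : Led Lsl_df (LP (LK LD1_c25 LD2_c19 LD3_c19)) = (LP (LK LD1_c31 LD2_c40 LD3_c16)) :=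
  Lgr Lrot18 (Lpr_at (f324974 IH) (Lpr_dt (K21.f324989 IH) (Lpr_at (f370319 IH) (Lpn (LP (LK LD1_c31 LD2_c40 LD3_c16))))))
theorem f254061 : Led Lsl_ct (LP (LK LD1_c15 LD2_c1 LD3_c25)) = (LP (LK LD1_c24 LD2_c49 LD3_c24)) :=
  Lre_c IH (LK LD1_c15 LD2_c1 LD3_c25) (LK LD1_c24 LD2_c49 LD3_c24) Lrfl Lrfl
theorem f356178 : Led Lsl_dt (LP (LK LD1_c15 LD2_c1 LD3_c29)) = (LP (LK LD1_c24 LD2_c49 LD3_c31)) :=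
  Lre_d IH (LK LD1_c15 LD2_c1 LD3_c29) (LK LD1_c24 LD2_c49 LD3_c31) Lrfl Lrfl
theorem f370350 : Led Lsl_gt (LP (LK LD1_c24 LD2_c49 LD3_c24)) = (LP (LK LD1_c15 LD2_c1 LD3_c29)) :=
  Lgr Lrot94 (Lpe (f254061 IH) (Lpr_gt (K21.f221750 IH) (Lpe (K14.f254046 IH) (Lpr_gt (K21.f329461 IH) (Lpe (K21.f251707 IH) (Lpe (K21.f191459 IH) (Lpr_df (f370328 IH) (Lpe (f356179 IH) (Lpe (f356178 IH) (Lpn (LP (LK LD1_c15 LD2_c1 LD3_c29))))))))))))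
theorem f370352 : Led Lsl_gf (LP (LK LD1_c24 LD2_c49 LD3_c24)) = (LP (LK LD1_c25 LD2_c20 LD3_c31)) :=
  Lgr Lrot47 (Lpr_gt (f370350 IH) (Lpe (K27.f370247 IH) (Lpe (K23.f344736 IH) (Lpn (LP (LK LD1_c25 LD2_c20 LD3_c31))))))
theorem f370355 : Led Lsl_bt (LP (LK LD1_c15 LD2_c1 LD3_c25)) = (LP (LK LD1_c11 LD2_c8 LD3_c48)) :=
  Lgr Lrot130 (Lpr_ct (f254061 IH) (Lpr_gf (f370352 IH) (Lpr_cf (K23.f344740 IH) (Lpe (K22.f331308 IH) (Lpr_gf (K24.f340487 IH) (Lpe (K21.f276761 IH) (Lpr_ct (K20.f276757 IH) (Lpr_gf (K20.f305457 IH) (Lpe (K18.f228421 IH) (Lpe (K22.f200531 IH) (Lpn (LP (LK LD1_c11 LD2_c8 LD3_c48)))))))))))))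
theorem f371375 : Led Lsl_cf (LP (LK LD1_c15 LD2_c1 LD3_c29)) = (LP (LK LD1_c8 LD2_c7 LD3_c48)) :=
  Lgr Lrot58 (Lpe (f370350 IH) (Lpe (f254061 IH) (Lpr_bt (f370355 IH) (Lpe (K22.f336525 IH) (Lpe (K17.f286991 IH) (Lpe (K17.f245168 IH) (Lpr_gf (K22.f295883 IH) (Lpe (K22.f295882 IH) (Lpe (K21.f246260 IH) (Lpr_bf (f371371 IH) (Lpn (LP (LK LD1_c8 LD2_c7 LD3_c48)))))))))))))
theorem f370252 : Led Lsl_bt (LP (LK LD1_c15 LD2_c1 LD3_c29)) = (LP (LK LD1_c24 LD2_c49 LD3_c29)) :=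
  Lre_b IH (LK LD1_c15 LD2_c1 LD3_c29) (LK LD1_c24 LD2_c49 LD3_c29) Lrfl Lrfl
theorem f371349 : Led Lsl_bt (LP (LK LD1_c4 LD2_c9 LD3_c12)) = (LP (LK LD1_c8 LD2_c7 LD3_c48)) :=
  Lgr Lrot95 (Lpe (K21.f220055 IH) (Lpe (K18.f236308 IH) (Lpr_df (f371345 IH) (Lpn (LP (LK LD1_c8 LD2_c7 LD3_c48))))))
theorem f323143 : Led Lsl_bt (LP (LK LD1_c15 LD2_c37 LD3_c31)) = (LP (LK LD1_c8 LD2_c18 LD3_c28)) :=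
  Lre_b IH (LK LD1_c15 LD2_c37 LD3_c31) (LK LD1_c8 LD2_c18 LD3_c28) Lrfl Lrfl
theorem f371377 : Led Lsl_ct (LP (LK LD1_c24 LD2_c49 LD3_c29)) = (LP (LK LD1_c15 LD2_c37 LD3_c31)) :=
  Lgr Lrot83 (Lpe (f370252 IH) (Lpr_cf (f371375 IH) (Lpe (f371349 IH) (Lpe (K24.f236290 IH) (Lpe (f323143 IH) (Lpn (LP (LK LD1_c15 LD2_c37 LD3_c31))))))))
theorem f371393 : Led Lsl_ft (LP (LK LD1_c31 LD2_c40 LD3_c14)) = (LP (LK LD1_c24 LD2_c49 LD3_c29)) :=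
  Lre_f IH (LK LD1_c31 LD2_c40 LD3_c14) (LK LD1_c24 LD2_c49 LD3_c29) Lrfl Lrfl
theorem f371394 : Led Lsl_ft (LP (LK LD1_c15 LD2_c37 LD3_c31)) = (LP (LK LD1_c25 LD2_c32 LD3_c28)) :=
  Lre_f IH (LK LD1_c15 LD2_c37 LD3_c31) (LK LD1_c25 LD2_c32 LD3_c28) Lrfl Lrfl
theorem f371395 : Led Lsl_cf (LP (LK LD1_c31 LD2_c40 LD3_c14)) = (LP (LK LD1_c25 LD2_c32 LD3_c28)) :=
  Lgr Lrot108 (Lpr_ft (f371393 IH) (Lpr_ct (f371377 IH) (Lpr_ft (f371394 IH) (Lpn (LP (LK LD1_c25 LD2_c32 LD3_c28))))))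
theorem f324376 : Led Lsl_ct (LP (LK LD1_c28 LD2_c51 LD3_c27)) = (LP (LK LD1_c19 LD2_c29 LD3_c34)) :=
  Lre_c IH (LK LD1_c28 LD2_c51 LD3_c27) (LK LD1_c19 LD2_c29 LD3_c34) Lrfl Lrfl
theorem f371419 : Led Lsl_et (LP (LK LD1_c31 LD2_c40 LD3_c14)) = (LP (LK LD1_c28 LD2_c51 LD3_c27)) :=
  Lgr Lrot158 (Lpr_cf (f371395 IH) (Lpr_ef (K21.f324363 IH) (Lpe (f324376 IH) (Lpn (LP (LK LD1_c28 LD2_c51 LD3_c27))))))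
theorem f371433 : Led Lsl_ef (LP (LK LD1_c31 LD2_c40 LD3_c14)) = (LP (LK LD1_c28 LD2_c51 LD3_c27)) :=
  Lgr Lrot88 (Lpr_et (f371419 IH) (Lpn (LP (LK LD1_c28 LD2_c51 LD3_c27))))
theorem f371411 : Led Lsl_at (LP (LK LD1_c31 LD2_c40 LD3_c14)) = (LP (LK LD1_c32 LD2_c57 LD3_c41)) :=
  Lre_a IH (LK LD1_c31 LD2_c40 LD3_c14) (LK LD1_c32 LD2_c57 LD3_c41) Lrfl Lrfl
theorem f371438 : Led Lsl_et (LP (LK LD1_c32 LD2_c57 LD3_c41)) = (LP (LK LD1_c32 LD2_c39 LD3_c32)) :=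
  Lgr Lrot123 (Lpe (f371411 IH) (Lpr_ef (f371433 IH) (Lpe (K23.f303382 IH) (Lpn (LP (LK LD1_c32 LD2_c39 LD3_c32))))))
theorem f371421 : Led Lsl_ft (LP (LK LD1_c31 LD2_c40 LD3_c10)) = (LP (LK LD1_c32 LD2_c57 LD3_c41)) :=
  Lre_f IH (LK LD1_c31 LD2_c40 LD3_c10) (LK LD1_c32 LD2_c57 LD3_c41) Lrfl Lrfl
theorem f371445 : Led Lsl_et (LP (LK LD1_c24 LD2_c49 LD3_c27)) = (LP (LK LD1_c31 LD2_c40 LD3_c10)) :=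
  Lre_e IH (LK LD1_c24 LD2_c49 LD3_c27) (LK LD1_c31 LD2_c40 LD3_c10) Lrfl Lrfl
theorem f371446 : Led Lsl_et (LP (LK LD1_c28 LD2_c51 LD3_c21)) = (LP (LK LD1_c19 LD2_c29 LD3_c13)) :=
  Lre_e IH (LK LD1_c28 LD2_c51 LD3_c21) (LK LD1_c19 LD2_c29 LD3_c13) Lrfl Lrfl
theorem f371447 : Led Lsl_ff (LP (LK LD1_c24 LD2_c49 LD3_c27)) = (LP (LK LD1_c19 LD2_c29 LD3_c13)) :=
  Lgr Lrot72 (Lpr_et (f371445 IH) (Lpr_ft (f371421 IH) (Lpr_et (f371438 IH) (Lpr_ft (K23.f303403 IH) (Lpr_et (f371446 IH) (Lpn (LP (LK LD1_c19 LD2_c29 LD3_c13))))))))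
theorem f324369 : Led Lsl_ct (LP (LK LD1_c10 LD2_c46 LD3_c38)) = (LP (LK LD1_c19 LD2_c29 LD3_c13)) :=
  Lre_c IH (LK LD1_c10 LD2_c46 LD3_c38) (LK LD1_c19 LD2_c29 LD3_c13) Lrfl Lrfl
theorem f324388 : Led Lsl_ft (LP (LK LD1_c31 LD2_c55 LD3_c36)) = (LP (LK LD1_c25 LD2_c32 LD3_c26)) :=
  Lre_f IH (LK LD1_c31 LD2_c55 LD3_c36) (LK LD1_c25 LD2_c32 LD3_c26) Lrfl Lrfl
theorem f324389 : Led Lsl_et (LP (LK LD1_c25 LD2_c32 LD3_c26)) = (LP (LK LD1_c15 LD2_c37 LD3_c36)) :=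
  Lre_e IH (LK LD1_c25 LD2_c32 LD3_c26) (LK LD1_c15 LD2_c37 LD3_c36) Lrfl Lrfl
theorem f317841 : Led Lsl_ft (LP (LK LD1_c19 LD2_c29 LD3_c26)) = (LP (LK LD1_c28 LD2_c51 LD3_c42)) :=
  Lre_f IH (LK LD1_c19 LD2_c29 LD3_c26) (LK LD1_c28 LD2_c51 LD3_c42) Lrfl Lrfl
theorem f324390 : Led Lsl_et (LP (LK LD1_c10 LD2_c46 LD3_c38)) = (LP (LK LD1_c19 LD2_c29 LD3_c26)) :=
  Lre_e IH (LK LD1_c10 LD2_c46 LD3_c38) (LK LD1_c19 LD2_c29 LD3_c26) Lrfl Lrfl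
theorem f324391 : Led Lsl_ft (LP (LK LD1_c15 LD2_c37 LD3_c36)) = (LP (LK LD1_c10 LD2_c46 LD3_c38)) :=
  Lgr Lrot86 (Lpe (f324389 IH) (Lpe (f324388 IH) (Lpr_ef (K21.f324381 IH) (Lpe (f317841 IH) (Lpe (f324390 IH) (Lpn (LP (LK LD1_c10 LD2_c46 LD3_c38))))))))
theorem f371452 : Led Lsl_ct (LP (LK LD1_c24 LD2_c49 LD3_c27)) = (LP (LK LD1_c15 LD2_c37 LD3_c36)) :=
  Lgr Lrot40 (Lpr_ff (f371447 IH) (Lpe (f324369 IH) (Lpe (f324391 IH) (Lpn (LP (LK LD1_c15 LD2_c37 LD3_c36))))))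
theorem f344669 : Led Lsl_at (LP (LK LD1_c11 LD2_c3 LD3_c28)) = (LP (LK LD1_c19 LD2_c55 LD3_c26)) :=
  Lre_a IH (LK LD1_c11 LD2_c3 LD3_c28) (LK LD1_c19 LD2_c55 LD3_c26) Lrfl Lrfl
theorem f344670 : Led Lsl_at (LP (LK LD1_c24 LD2_c49 LD3_c34)) = (LP (LK LD1_c15 LD2_c1 LD3_c30)) :=
  Lre_a IH (LK LD1_c24 LD2_c49 LD3_c34) (LK LD1_c15 LD2_c1 LD3_c30) Lrfl Lrfl
theorem f344671 : Led Lsl_ft (LP (LK LD1_c19 LD2_c55 LD3_c26)) = (LP (LK LD1_c24 LD2_c49 LD3_c34)) :=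
  Lgr Lrot101 (Lpe (f344669 IH) (Lpr_ff (K23.f344667 IH) (Lpe (f344670 IH) (Lpn (LP (LK LD1_c24 LD2_c49 LD3_c34))))))
theorem f371450 : Led Lsl_bt (LP (LK LD1_c24 LD2_c49 LD3_c27)) = (LP (LK LD1_c19 LD2_c55 LD3_c26)) :=
  Lgr Lrot35 (Lpr_ff (f371447 IH) (Lpe (K23.f344620 IH) (Lpe (f344671 IH) (Lpn (LP (LK LD1_c19 LD2_c55 LD3_c26))))))
theorem f324396 : Led Lsl_at (LP (LK LD1_c10 LD2_c46 LD3_c38)) = (LP (LK LD1_c5 LD2_c27 LD3_c45)) :=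
  Lre_a IH (LK LD1_c10 LD2_c46 LD3_c38) (LK LD1_c5 LD2_c27 LD3_c45) Lrfl Lrfl
theorem f282883 : Led Lsl_gt (LP (LK LD1_c10 LD2_c46 LD3_c37)) = (LP (LK LD1_c5 LD2_c27 LD3_c45)) :=
  Lre_g IH (LK LD1_c10 LD2_c46 LD3_c37) (LK LD1_c5 LD2_c27 LD3_c45) Lrfl Lrfl
theorem f324400 : Led Lsl_gt (LP (LK LD1_c15 LD2_c37 LD3_c36)) = (LP (LK LD1_c10 LD2_c46 LD3_c37)) :=
  Lgr Lrot5 (Lpr_ft (f324391 IH) (Lpr_at (f324396 IH) (Lpe (f282883 IH) (Lpn (LP (LK LD1_c10 LD2_c46 LD3_c37))))))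
theorem f282884 : Led Lsl_ct (LP (LK LD1_c19 LD2_c29 LD3_c23)) = (LP (LK LD1_c10 LD2_c46 LD3_c37)) :=
  Lre_c IH (LK LD1_c19 LD2_c29 LD3_c23) (LK LD1_c10 LD2_c46 LD3_c37) Lrfl Lrfl
theorem f282836 : Led Lsl_ct (LP (LK LD1_c10 LD2_c46 LD3_c31)) = (LP (LK LD1_c5 LD2_c27 LD3_c45)) :=
  Lre_c IH (LK LD1_c10 LD2_c46 LD3_c31) (LK LD1_c5 LD2_c27 LD3_c45) Lrfl Lrfl
theorem f305136 : Led Lsl_bf (LP (LK LD1_c10 LD2_c48 LD3_c46)) = (LP (LK LD1_c19 LD2_c29 LD3_c23)) :=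
  Lgr Lrot34 (Lpe (f253810 IH) (Lpr_bf (K19.f305124 IH) (Lpr_ct (K14.f226761 IH) (Lpr_gf (K13.f226816 IH) (Lpe (K18.f199614 IH) (Lpe (K18.f282872 IH) (Lpe (K23.f282882 IH) (Lpr_ct (f282836 IH) (Lpe (f282883 IH) (Lpe (f282884 IH) (Lpn (LP (LK LD1_c19 LD2_c29 LD3_c23)))))))))))))
theorem f226823 : Led Lsl_bt (LP (LK LD1_c10 LD2_c48 LD3_c42)) = (LP (LK LD1_c19 LD2_c32 LD3_c49)) :=
  Lre_b IH (LK LD1_c10 LD2_c48 LD3_c42) (LK LD1_c19 LD2_c32 LD3_c49) Lrfl Lrfl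
theorem f371474 : Led Lsl_gf (LP (LK LD1_c19 LD2_c55 LD3_c26)) = (LP (LK LD1_c19 LD2_c32 LD3_c49)) :=
  Lgr Lrot124 (Lpe (f371450 IH) (Lpr_ct (f371452 IH) (Lpr_gt (f324400 IH) (Lpe (f282884 IH) (Lpe (f305136 IH) (Lpr_gt (f253811 IH) (Lpr_ct (f178921 IH) (Lpe (f289555 IH) (Lpe (f226822 IH) (Lpr_bt (f226823 IH) (Lpn (LP (LK LD1_c19 LD2_c32 LD3_c49)))))))))))))
theorem f371476 : Led Lsl_gt (LP (LK LD1_c15 LD2_c1 LD3_c30)) = (LP (LK LD1_c19 LD2_c32 LD3_c49)) :=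
  Lgr Lrot5 (Lpe (K23.f344667 IH) (Lpr_at (f344669 IH) (Lpr_gf (f371474 IH) (Lpn (LP (LK LD1_c19 LD2_c32 LD3_c49))))))
theorem f201091 : Led Lsl_bt (LP (LK LD1_c4 LD2_c3 LD3_c40)) = (LP (LK LD1_c8 LD2_c7 LD3_c49)) :=
  Lre_b IH (LK LD1_c4 LD2_c3 LD3_c40) (LK LD1_c8 LD2_c7 LD3_c49) Lrfl Lrfl
theorem f227120 : Led Lsl_gt (LP (LK LD1_c15 LD2_c18 LD3_c33)) = (LP (LK LD1_c8 LD2_c7 LD3_c49)) :=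
  Lre_g IH (LK LD1_c15 LD2_c18 LD3_c33) (LK LD1_c8 LD2_c7 LD3_c49) Lrfl Lrfl
theorem f243705 : Led Lsl_bt (LP (LK LD1_c25 LD2_c9 LD3_c16)) = (LP (LK LD1_c15 LD2_c18 LD3_c33)) :=
  Lre_b IH (LK LD1_c25 LD2_c9 LD3_c16) (LK LD1_c15 LD2_c18 LD3_c33) Lrfl Lrfl
theorem f243662 : Led Lsl_bt (LP (LK LD1_c15 LD2_c53 LD3_c10)) = (LP (LK LD1_c8 LD2_c27 LD3_c36)) :=
  Lre_b IH (LK LD1_c15 LD2_c53 LD3_c10) (LK LD1_c8 LD2_c27 LD3_c36) Lrfl Lrfl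
theorem f227073 : Led Lsl_ct (LP (LK LD1_c4 LD2_c3 LD3_c46)) = (LP (LK LD1_c8 LD2_c7 LD3_c49)) :=
  Lre_c IH (LK LD1_c4 LD2_c3 LD3_c46) (LK LD1_c8 LD2_c7 LD3_c49) Lrfl Lrfl
theorem f243663 : Led Lsl_ct (LP (LK LD1_c15 LD2_c53 LD3_c10)) = (LP (LK LD1_c15 LD2_c18 LD3_c33)) :=
  Lgr Lrot64 (Lpr_bt (f243662 IH) (Lpe (f238465 IH) (Lpe (K22.f200430 IH) (Lpr_ct (K15.f200428 IH) (Lpe (K23.f243656 IH) (Lpe (K13.f179412 IH) (Lpr_gf (K13.f243650 IH) (Lpe (K17.f226977 IH) (Lpr_ct (f227073 IH) (Lpe (f227120 IH) (Lpn (LP (LK LD1_c15 LD2_c18 LD3_c33)))))))))))))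
theorem f243670 : Led Lsl_bt (LP (LK LD1_c8 LD2_c27 LD3_c36)) = (LP (LK LD1_c15 LD2_c53 LD3_c10)) :=
  Lre_b IH (LK LD1_c8 LD2_c27 LD3_c36) (LK LD1_c15 LD2_c53 LD3_c10) Lrfl Lrfl
theorem f243672 : Led Lsl_bt (LP (LK LD1_c25 LD2_c49 LD3_c11)) = (LP (LK LD1_c15 LD2_c53 LD3_c11)) :=
  Lre_b IH (LK LD1_c25 LD2_c49 LD3_c11) (LK LD1_c15 LD2_c53 LD3_c11) Lrfl Lrfl
theorem f243673 : Led Lsl_bt (LP (LK LD1_c15 LD2_c18 LD3_c33)) = (LP (LK LD1_c25 LD2_c9 LD3_c16)) :=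
  Lre_b IH (LK LD1_c15 LD2_c18 LD3_c33) (LK LD1_c25 LD2_c9 LD3_c16) Lrfl Lrfl
theorem f243674 : Led Lsl_cf (LP (LK LD1_c25 LD2_c49 LD3_c11)) = (LP (LK LD1_c25 LD2_c9 LD3_c16)) :=
  Lgr Lrot97 (Lpr_bt (f243672 IH) (Lpr_ct (f243671 IH) (Lpr_bt (f243670 IH) (Lpr_ct (f243663 IH) (Lpr_bt (f243673 IH) (Lpn (LP (LK LD1_c25 LD2_c9 LD3_c16))))))))
theorem f385009 : Led Lsl_gf (LP (LK LD1_c25 LD2_c49 LD3_c11)) = (LP (LK LD1_c26 LD2_c48 LD3_c21)) :=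
  Lgr Lrot129 (Lpr_cf (f243674 IH) (Lpr_bt (f243705 IH) (Lpr_gt (f227120 IH) (Lpe (f201091 IH) (Lpr_ct (K12.f201104 IH) (Lpr_gt (K18.f200807 IH) (Lpr_cf (K23.f318082 IH) (Lpr_bt (K23.f228540 IH) (Lpr_gt (f371476 IH) (Lpr_ct (f384992 IH) (Lpn (LP (LK LD1_c26 LD2_c48 LD3_c21)))))))))))))
theorem f384963 : Led Lsl_cf (LP (LK LD1_c11 LD2_c5 LD3_c39)) = (LP (LK LD1_c16 LD2_c43 LD3_c36)) :=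
  Lgr Lrot108 (Lpr_ft (f384959 IH) (Lpe (f384951 IH) (Lpr_ft (f384724 IH) (Lpn (LP (LK LD1_c16 LD2_c43 LD3_c36))))))
theorem f384978 : Led Lsl_cf (LP (LK LD1_c10 LD2_c48 LD3_c41)) = (LP (LK LD1_c16 LD2_c50 LD3_c54)) :=
  Lgr Lrot1 (Lpr_at (f384722 IH) (Lpe (f384963 IH) (Lpr_at (f384971 IH) (Lpn (LP (LK LD1_c16 LD2_c50 LD3_c54))))))
theorem f384726 : Led Lsl_af (LP (LK LD1_c10 LD2_c48 LD3_c41)) = (LP (LK LD1_c16 LD2_c43 LD3_c36)) :=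
  Lgr Lrot45 (Lpe (f384584 IH) (Lpr_at (f384702 IH) (Lpr_ft (f384724 IH) (Lpn (LP (LK LD1_c16 LD2_c43 LD3_c36))))))
theorem f384731 : Led Lsl_gt (LP (LK LD1_c5 LD2_c30 LD3_c21)) = (LP (LK LD1_c10 LD2_c48 LD3_c41)) :=
  Lgr Lrot46 (Lpe (f179143 IH) (Lpr_ft (f384724 IH) (Lpe (f384726 IH) (Lpn (LP (LK LD1_c10 LD2_c48 LD3_c41))))))
theorem f226569 : Led Lsl_ct (LP (LK LD1_c5 LD2_c35 LD3_c45)) = (LP (LK LD1_c5 LD2_c30 LD3_c21)) :=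
  Lgr Lrot59 (Lpr_cf (f226561 IH) (Lpn (LP (LK LD1_c5 LD2_c30 LD3_c21))))
theorem f396737 : Led Lsl_gf (LP (LK LD1_c5 LD2_c35 LD3_c45)) = (LP (LK LD1_c9 LD2_c0 LD3_c49)) :=
  Lgr Lrot181 (Lpr_ct (f226569 IH) (Lpr_gt (f384731 IH) (Lpr_cf (f384978 IH) (Lpr_bt (f384975 IH) (Lpe (f385009 IH) (Lpe (f243704 IH) (Lpr_ct (f243671 IH) (Lpr_gt (f396727 IH) (Lpe (K22.f199455 IH) (Lpr_bt (K22.f332740 IH) (Lpn (LP (LK LD1_c9 LD2_c0 LD3_c49)))))))))))))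
theorem f385162 : Led Lsl_ct (LP (LK LD1_c4 LD2_c28 LD3_c59)) = (LP (LK LD1_c8 LD2_c55 LD3_c56)) :=
  Lre_c IH (LK LD1_c4 LD2_c28 LD3_c59) (LK LD1_c8 LD2_c55 LD3_c56) Lrfl Lrfl
theorem f385163 : Led Lsl_ft (LP (LK LD1_c8 LD2_c55 LD3_c56)) = (LP (LK LD1_c5 LD2_c30 LD3_c0)) :=
  Lgr Lrot4 (Lpe (f385162 IH) (Lpr_ff (f385142 IH) (Lpe (f222580 IH) (Lpn (LP (LK LD1_c5 LD2_c30 LD3_c0))))))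
theorem f386368 : Led Lsl_at (LP (LK LD1_c5 LD2_c30 LD3_c0)) = (LP (LK LD1_c2 LD2_c41 LD3_c18)) :=
  Lre_a IH (LK LD1_c5 LD2_c30 LD3_c0) (LK LD1_c2 LD2_c41 LD3_c18) Lrfl Lrfl
theorem f217116 : Led Lsl_gt (LP (LK LD1_c5 LD2_c29 LD3_c61)) = (LP (LK LD1_c2 LD2_c41 LD3_c18)) :=
  Lre_g IH (LK LD1_c5 LD2_c29 LD3_c61) (LK LD1_c2 LD2_c41 LD3_c18) Lrfl Lrfl
theorem f386377 : Led Lsl_gt (LP (LK LD1_c8 LD2_c55 LD3_c56)) = (LP (LK LD1_c5 LD2_c29 LD3_c61)) :=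
  Lgr Lrot5 (Lpr_ft (f385163 IH) (Lpr_at (f386368 IH) (Lpe (f217116 IH) (Lpn (LP (LK LD1_c5 LD2_c29 LD3_c61))))))
theorem f245284 : Led Lsl_at (LP (LK LD1_c4 LD2_c29 LD3_c17)) = (LP (LK LD1_c2 LD2_c11 LD3_c43)) :=
  Lre_a IH (LK LD1_c4 LD2_c29 LD3_c17) (LK LD1_c2 LD2_c11 LD3_c43) Lrfl Lrfl
theorem f245285 : Led Lsl_ft (LP (LK LD1_c2 LD2_c40 LD3_c49)) = (LP (LK LD1_c4 LD2_c29 LD3_c17)) :=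
  Lgr Lrot101 (Lpe (f245283 IH) (Lpr_ff (K13.f245264 IH) (Lpe (f245284 IH) (Lpn (LP (LK LD1_c4 LD2_c29 LD3_c17))))))
theorem f385160 : Led Lsl_bt (LP (LK LD1_c4 LD2_c28 LD3_c59)) = (LP (LK LD1_c2 LD2_c40 LD3_c49)) :=
  Lgr Lrot35 (Lpr_ff (f385142 IH) (Lpr_bf (K13.f245694 IH) (Lpe (f245285 IH) (Lpn (LP (LK LD1_c2 LD2_c40 LD3_c49))))))
theorem f245294 : Led Lsl_gf (LP (LK LD1_c2 LD2_c40 LD3_c49)) = (LP (LK LD1_c4 LD2_c29 LD3_c15)) :=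
  Lgr Lrot76 (Lpe (f245283 IH) (Lpr_ff (K13.f245264 IH) (Lpr_gt (f179765 IH) (Lpn (LP (LK LD1_c4 LD2_c29 LD3_c15))))))
theorem f384961 : Led Lsl_bf (LP (LK LD1_c11 LD2_c5 LD3_c39)) = (LP (LK LD1_c16 LD2_c50 LD3_c5)) :=
  Lgr Lrot61 (Lpr_ft (f384959 IH) (Lpe (f384948 IH) (Lpe (f382824 IH) (Lpn (LP (LK LD1_c16 LD2_c50 LD3_c5))))))
theorem f334190 : Led Lsl_bt (LP (LK LD1_c4 LD2_c27 LD3_c60)) = (LP (LK LD1_c2 LD2_c11 LD3_c10)) :=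
  Lre_b IH (LK LD1_c4 LD2_c27 LD3_c60) (LK LD1_c2 LD2_c11 LD3_c10) Lrfl Lrfl
theorem f216328 : Led Lsl_gt (LP (LK LD1_c4 LD2_c19 LD3_c11)) = (LP (LK LD1_c8 LD2_c36 LD3_c47)) :=
  Lre_g IH (LK LD1_c4 LD2_c19 LD3_c11) (LK LD1_c8 LD2_c36 LD3_c47) Lrfl Lrfl
theorem f334191 : Led Lsl_ct (LP (LK LD1_c16 LD2_c8 LD3_c11)) = (LP (LK LD1_c8 LD2_c36 LD3_c47)) :=
  Lre_c IH (LK LD1_c16 LD2_c8 LD3_c11) (LK LD1_c8 LD2_c36 LD3_c47) Lrfl Lrfl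
theorem f334192 : Led Lsl_bt (LP (LK LD1_c16 LD2_c8 LD3_c11)) = (LP (LK LD1_c26 LD2_c4 LD3_c43)) :=
  Lre_b IH (LK LD1_c16 LD2_c8 LD3_c11) (LK LD1_c26 LD2_c4 LD3_c43) Lrfl Lrfl
theorem f334199 : Led Lsl_gt (LP (LK LD1_c26 LD2_c4 LD3_c43)) = (LP (LK LD1_c26 LD2_c34 LD3_c44)) :=
  Lgr Lrot82 (Lpe (f334192 IH) (Lpr_ct (f334191 IH) (Lpe (f216328 IH) (Lpr_cf (K17.f247339 IH) (Lpr_bt (f334190 IH) (Lpe (K20.f278683 IH) (Lpe (f278655 IH) (Lpe (f334174 IH) (Lpe (f293450 IH) (Lpr_cf (f334193 IH) (Lpn (LP (LK LD1_c26 LD2_c34 LD3_c44)))))))))))))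
theorem f316786 : Led Lsl_ct (LP (LK LD1_c16 LD2_c50 LD3_c4)) = (LP (LK LD1_c26 LD2_c47 LD3_c18)) :=
  Lre_c IH (LK LD1_c16 LD2_c50 LD3_c4) (LK LD1_c26 LD2_c47 LD3_c18) Lrfl Lrfl
theorem f261085 : Led Lsl_ct (LP (LK LD1_c19 LD2_c54 LD3_c59)) = (LP (LK LD1_c11 LD2_c3 LD3_c15)) :=
  Lre_c IH (LK LD1_c19 LD2_c54 LD3_c59) (LK LD1_c11 LD2_c3 LD3_c15) Lrfl Lrfl
theorem f382899 : Led Lsl_ft (LP (LK LD1_c26 LD2_c47 LD3_c18)) = (LP (LK LD1_c19 LD2_c54 LD3_c59)) :=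
  Lgr Lrot4 (Lpe (f316786 IH) (Lpr_ff (f382855 IH) (Lpe (f261085 IH) (Lpn (LP (LK LD1_c19 LD2_c54 LD3_c59))))))
theorem f199494 : Led Lsl_ct (LP (LK LD1_c11 LD2_c3 LD3_c15)) = (LP (LK LD1_c19 LD2_c54 LD3_c59)) :=
  Lre_c IH (LK LD1_c11 LD2_c3 LD3_c15) (LK LD1_c19 LD2_c54 LD3_c59) Lrfl Lrfl
theorem f382832 : Led Lsl_af (LP (LK LD1_c26 LD2_c34 LD3_c44)) = (LP (LK LD1_c19 LD2_c54 LD3_c59)) :=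
  Lgr Lrot68 (Lpe (f334193 IH) (Lpr_at (f382828 IH) (Lpr_ct (f199494 IH) (Lpn (LP (LK LD1_c19 LD2_c54 LD3_c59))))))
theorem f382952 : Led Lsl_gt (LP (LK LD1_c26 LD2_c47 LD3_c18)) = (LP (LK LD1_c26 LD2_c4 LD3_c43)) :=
  Lgr Lrot5 (Lpr_ft (f382899 IH) (Lpe (f382832 IH) (Lpe (f334199 IH) (Lpn (LP (LK LD1_c26 LD2_c4 LD3_c43))))))
theorem f238087 : Led Lsl_bt (LP (LK LD1_c4 LD2_c31 LD3_c21)) = (LP (LK LD1_c9 LD2_c0 LD3_c36)) :=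
  Lre_b IH (LK LD1_c4 LD2_c31 LD3_c21) (LK LD1_c9 LD2_c0 LD3_c36) Lrfl Lrfl
theorem f199446 : Led Lsl_bt (LP (LK LD1_c2 LD2_c43 LD3_c35)) = (LP (LK LD1_c5 LD2_c35 LD3_c18)) :=
  Lre_b IH (LK LD1_c2 LD2_c43 LD3_c35) (LK LD1_c5 LD2_c35 LD3_c18) Lrfl Lrfl
theorem f199466 : Led Lsl_gt (LP (LK LD1_c11 LD2_c2 LD3_c46)) = (LP (LK LD1_c5 LD2_c35 LD3_c18)) :=
  Lre_g IH (LK LD1_c11 LD2_c2 LD3_c46) (LK LD1_c5 LD2_c35 LD3_c18) Lrfl Lrfl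
theorem f199470 : Led Lsl_bt (LP (LK LD1_c19 LD2_c54 LD3_c12)) = (LP (LK LD1_c11 LD2_c2 LD3_c46)) :=
  Lre_b IH (LK LD1_c19 LD2_c54 LD3_c12) (LK LD1_c11 LD2_c2 LD3_c46) Lrfl Lrfl
theorem f382954 : Led Lsl_ct (LP (LK LD1_c19 LD2_c54 LD3_c12)) = (LP (LK LD1_c26 LD2_c4 LD3_c43)) :=
  Lgr Lrot63 (Lpr_bt (f199470 IH) (Lpr_gt (f199466 IH) (Lpe (f199446 IH) (Lpr_ct (K19.f199391 IH) (Lpr_gt (K20.f313081 IH) (Lpe (K19.f212540 IH) (Lpr_bt (f238087 IH) (Lpr_gt (f238088 IH) (Lpr_ct (f316786 IH) (Lpr_gt (f382952 IH) (Lpn (LP (LK LD1_c26 LD2_c4 LD3_c43)))))))))))))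
theorem f199433 : Led Lsl_ff (LP (LK LD1_c8 LD2_c10 LD3_c1)) = (LP (LK LD1_c5 LD2_c35 LD3_c18)) :=
  Lgr Lrot3 (Lpr_ft (K19.f199399 IH) (Lpn (LP (LK LD1_c5 LD2_c35 LD3_c18))))
theorem f199444 : Led Lsl_ft (LP (LK LD1_c15 LD2_c22 LD3_c51)) = (LP (LK LD1_c11 LD2_c2 LD3_c47)) :=
  Lgr Lrot101 (Lpe (K22.f199442 IH) (Lpr_ff (f199433 IH) (Lpe (K22.f199443 IH) (Lpn (LP (LK LD1_c11 LD2_c2 LD3_c47))))))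
theorem f199467 : Led Lsl_gt (LP (LK LD1_c15 LD2_c22 LD3_c51)) = (LP (LK LD1_c11 LD2_c2 LD3_c46)) :=
  Lgr Lrot5 (Lpr_ft (f199444 IH) (Lpr_at (K22.f199443 IH) (Lpe (f199466 IH) (Lpn (LP (LK LD1_c11 LD2_c2 LD3_c46))))))
theorem f332744 : Led Lsl_bf (LP (LK LD1_c15 LD2_c22 LD3_c51)) = (LP (LK LD1_c9 LD2_c0 LD3_c49)) :=
  Lgr Lrot24 (Lpr_bt (K22.f332740 IH) (Lpn (LP (LK LD1_c9 LD2_c0 LD3_c49))))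
theorem f313038 : Led Lsl_ct (LP (LK LD1_c9 LD2_c0 LD3_c49)) = (LP (LK LD1_c4 LD2_c31 LD3_c33)) :=
  Lre_c IH (LK LD1_c9 LD2_c0 LD3_c49) (LK LD1_c4 LD2_c31 LD3_c33) Lrfl Lrfl
theorem f385077 : Led Lsl_gt (LP (LK LD1_c2 LD2_c44 LD3_c14)) = (LP (LK LD1_c4 LD2_c31 LD3_c33)) :=
  Lgr Lrot149 (Lpe (f178048 IH) (Lpe (f226500 IH) (Lpr_bf (f384961 IH) (Lpr_ct (f334196 IH) (Lpe (f334199 IH) (Lpe (f382954 IH) (Lpr_bt (f199470 IH) (Lpe (f199467 IH) (Lpr_bf (f332744 IH) (Lpr_ct (f313038 IH) (Lpn (LP (LK LD1_c4 LD2_c31 LD3_c33)))))))))))))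
theorem f245409 : Led Lsl_ft (LP (LK LD1_c5 LD2_c27 LD3_c58)) = (LP (LK LD1_c8 LD2_c56 LD3_c35)) :=
  Lgr Lrot48 (Lpr_ff (f245397 IH) (Lpn (LP (LK LD1_c8 LD2_c56 LD3_c35))))
theorem f245422 : Led Lsl_at (LP (LK LD1_c8 LD2_c56 LD3_c35)) = (LP (LK LD1_c4 LD2_c29 LD3_c9)) :=
  Lre_a IH (LK LD1_c8 LD2_c56 LD3_c35) (LK LD1_c4 LD2_c29 LD3_c9) Lrfl Lrfl
theorem f245425 : Led Lsl_gt (LP (LK LD1_c5 LD2_c27 LD3_c58)) = (LP (LK LD1_c8 LD2_c56 LD3_c34)) :=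
  Lgr Lrot5 (Lpr_ft (f245409 IH) (Lpr_at (f245422 IH) (Lpe (f226412 IH) (Lpn (LP (LK LD1_c8 LD2_c56 LD3_c34))))))
theorem f244984 : Led Lsl_ct (LP (LK LD1_c2 LD2_c40 LD3_c49)) = (LP (LK LD1_c5 LD2_c27 LD3_c58)) :=
  Lre_c IH (LK LD1_c2 LD2_c40 LD3_c49) (LK LD1_c5 LD2_c27 LD3_c58) Lrfl Lrfl
theorem f314862 : Led Lsl_at (LP (LK LD1_c8 LD2_c9 LD3_c47)) = (LP (LK LD1_c4 LD2_c4 LD3_c25)) :=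
  Lre_a IH (LK LD1_c8 LD2_c9 LD3_c47) (LK LD1_c4 LD2_c4 LD3_c25) Lrfl Lrfl
theorem f179489 : Led Lsl_at (LP (LK LD1_c2 LD2_c45 LD3_c31)) = (LP (LK LD1_c5 LD2_c39 LD3_c6)) :=
  Lre_a IH (LK LD1_c2 LD2_c45 LD3_c31) (LK LD1_c5 LD2_c39 LD3_c6) Lrfl Lrfl
theorem f314863 : Led Lsl_ff (LP (LK LD1_c8 LD2_c9 LD3_c47)) = (LP (LK LD1_c5 LD2_c39 LD3_c6)) :=
  Lgr Lrot30 (Lpr_at (f314862 IH) (Lpr_ft (K19.f314860 IH) (Lpr_at (f179489 IH) (Lpn (LP (LK LD1_c5 LD2_c39 LD3_c6))))))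
theorem f354526 : Led Lsl_bt (LP (LK LD1_c8 LD2_c10 LD3_c7)) = (LP (LK LD1_c5 LD2_c39 LD3_c6)) :=
  Lgr Lrot35 (Lpe (K22.f332701 IH) (Lpr_bf (f354522 IH) (Lpr_ff (f314863 IH) (Lpn (LP (LK LD1_c5 LD2_c39 LD3_c6))))))
theorem f354535 : Led Lsl_bf (LP (LK LD1_c4 LD2_c31 LD3_c33)) = (LP (LK LD1_c2 LD2_c45 LD3_c42)) :=
  Lgr Lrot90 (Lpr_ct (f313034 IH) (Lpe (f332744 IH) (Lpr_ct (K22.f199455 IH) (Lpr_bt (f354526 IH) (Lpr_ct (f179490 IH) (Lpn (LP (LK LD1_c2 LD2_c45 LD3_c42))))))))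
theorem f179484 : Led Lsl_ct (LP (LK LD1_c2 LD2_c45 LD3_c42)) = (LP (LK LD1_c5 LD2_c39 LD3_c6)) :=
  Lre_c IH (LK LD1_c2 LD2_c45 LD3_c42) (LK LD1_c5 LD2_c39 LD3_c6) Lrfl Lrfl
theorem f385083 : Led Lsl_gf (LP (LK LD1_c8 LD2_c9 LD3_c46)) = (LP (LK LD1_c5 LD2_c39 LD3_c6)) :=
  Lgr Lrot126 (Lpe (f319148 IH) (Lpr_bt (f179773 IH) (Lpe (f245294 IH) (Lpr_ct (f244984 IH) (Lpr_gt (f245425 IH) (Lpe (f226413 IH) (Lpr_bt (f226411 IH) (Lpr_gt (f385077 IH) (Lpr_bf (f354535 IH) (Lpr_ct (f179484 IH) (Lpn (LP (LK LD1_c5 LD2_c39 LD3_c6)))))))))))))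
theorem f173999 : Led Lsl_bt (LP (LK LD1_c8 LD2_c59 LD3_c58)) = (LP (LK LD1_c4 LD2_c30 LD3_c55)) :=
  Lre_b IH (LK LD1_c8 LD2_c59 LD3_c58) (LK LD1_c4 LD2_c30 LD3_c55) Lrfl Lrfl
theorem f225255 : Led Lsl_bt (LP (LK LD1_c1 LD2_c17 LD3_c25)) = (LP (LK LD1_c0 LD2_c35 LD3_c47)) :=
  Lre_b IH (LK LD1_c1 LD2_c17 LD3_c25) (LK LD1_c0 LD2_c35 LD3_c47) Lrfl Lrfl
theorem f175173 : Led Lsl_ct (LP (LK LD1_c1 LD2_c17 LD3_c25)) = (LP (LK LD1_c2 LD2_c41 LD3_c18)) :=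
  Lre_c IH (LK LD1_c1 LD2_c17 LD3_c25) (LK LD1_c2 LD2_c41 LD3_c18) Lrfl Lrfl
theorem f225256 : Led Lsl_ct (LP (LK LD1_c8 LD2_c59 LD3_c58)) = (LP (LK LD1_c5 LD2_c29 LD3_c61)) :=
  Lgr Lrot64 (Lpr_bt (f173999 IH) (Lpe (f167850 IH) (Lpe (K20.f167849 IH) (Lpr_ct (K12.f167838 IH) (Lpe (K12.f167907 IH) (Lpe (K12.f173928 IH) (Lpr_gf (K12.f225246 IH) (Lpe (f225255 IH) (Lpr_ct (f175173 IH) (Lpe (f217116 IH) (Lpn (LP (LK LD1_c5 LD2_c29 LD3_c61)))))))))))))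
theorem f386380 : Led Lsl_gf (LP (LK LD1_c2 LD2_c45 LD3_c42)) = (LP (LK LD1_c4 LD2_c30 LD3_c55)) :=
  Lgr Lrot181 (Lpr_ct (f179484 IH) (Lpe (f385083 IH) (Lpe (f319148 IH) (Lpr_bt (f179773 IH) (Lpe (f245294 IH) (Lpe (f385160 IH) (Lpr_ct (f385162 IH) (Lpr_gt (f386377 IH) (Lpe (f225256 IH) (Lpr_bt (f173999 IH) (Lpn (LP (LK LD1_c4 LD2_c30 LD3_c55)))))))))))))
theorem f396744 : Led Lsl_gt (LP (LK LD1_c2 LD2_c41 LD3_c27)) = (LP (LK LD1_c4 LD2_c28 LD3_c59)) :=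
  Lgr Lrot82 (Lpe (f179130 IH) (Lpe (f226561 IH) (Lpr_gf (f396737 IH) (Lpe (f313034 IH) (Lpr_bt (f354510 IH) (Lpr_gf (f386380 IH) (Lpe (f173999 IH) (Lpr_ct (f225256 IH) (Lpe (f386377 IH) (Lpe (f385162 IH) (Lpn (LP (LK LD1_c4 LD2_c28 LD3_c59)))))))))))))
theorem f179140 : Led Lsl_dt (LP (LK LD1_c10 LD2_c52 LD3_c11)) = (LP (LK LD1_c19 LD2_c39 LD3_c10)) :=
  Lre_d IH (LK LD1_c10 LD2_c52 LD3_c11) (LK LD1_c19 LD2_c39 LD3_c10) Lrfl Lrfl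
theorem f385165 : Led Lsl_dt (LP (LK LD1_c4 LD2_c28 LD3_c59)) = (LP (LK LD1_c8 LD2_c56 LD3_c17)) :=
  Lre_d IH (LK LD1_c4 LD2_c28 LD3_c59) (LK LD1_c8 LD2_c56 LD3_c17) Lrfl Lrfl
theorem f385166 : Led Lsl_ft (LP (LK LD1_c8 LD2_c56 LD3_c17)) = (LP (LK LD1_c5 LD2_c30 LD3_c29)) :=
  Lgr Lrot54 (Lpe (f385165 IH) (Lpr_ff (f385142 IH) (Lpe (f222637 IH) (Lpn (LP (LK LD1_c5 LD2_c30 LD3_c29))))))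
theorem f386352 : Led Lsl_at (LP (LK LD1_c5 LD2_c30 LD3_c29)) = (LP (LK LD1_c2 LD2_c41 LD3_c30)) :=
  Lre_a IH (LK LD1_c5 LD2_c30 LD3_c29) (LK LD1_c2 LD2_c41 LD3_c30) Lrfl Lrfl
theorem f175092 : Led Lsl_gt (LP (LK LD1_c5 LD2_c30 LD3_c32)) = (LP (LK LD1_c2 LD2_c41 LD3_c30)) :=
  Lre_g IH (LK LD1_c5 LD2_c30 LD3_c32) (LK LD1_c2 LD2_c41 LD3_c30) Lrfl Lrfl
theorem f386364 : Led Lsl_gt (LP (LK LD1_c8 LD2_c56 LD3_c17)) = (LP (LK LD1_c5 LD2_c30 LD3_c32)) :=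
  Lgr Lrot5 (Lpr_ft (f385166 IH) (Lpr_at (f386352 IH) (Lpe (f175092 IH) (Lpn (LP (LK LD1_c5 LD2_c30 LD3_c32))))))
theorem f172866 : Led Lsl_bt (LP (LK LD1_c0 LD2_c35 LD3_c61)) = (LP (LK LD1_c1 LD2_c18 LD3_c1)) :=
  Lre_b IH (LK LD1_c0 LD2_c35 LD3_c61) (LK LD1_c1 LD2_c18 LD3_c1) Lrfl Lrfl
theorem f173020 : Led Lsl_gt (LP (LK LD1_c1 LD2_c18 LD3_c1)) = (LP (LK LD1_c2 LD2_c43 LD3_c9)) :=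
  Lre_g IH (LK LD1_c1 LD2_c18 LD3_c1) (LK LD1_c2 LD2_c43 LD3_c9) Lrfl Lrfl
theorem f173021 : Led Lsl_ct (LP (LK LD1_c2 LD2_c43 LD3_c9)) = (LP (LK LD1_c5 LD2_c34 LD3_c24)) :=
  Lre_c IH (LK LD1_c2 LD2_c43 LD3_c9) (LK LD1_c5 LD2_c34 LD3_c24) Lrfl Lrfl
theorem f175090 : Led Lsl_gt (LP (LK LD1_c5 LD2_c34 LD3_c24)) = (LP (LK LD1_c11 LD2_c0 LD3_c59)) :=
  Lre_g IH (LK LD1_c5 LD2_c34 LD3_c24) (LK LD1_c11 LD2_c0 LD3_c59) Lrfl Lrfl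
theorem f175093 : Led Lsl_bt (LP (LK LD1_c10 LD2_c52 LD3_c40)) = (LP (LK LD1_c5 LD2_c30 LD3_c32)) :=
  Lre_b IH (LK LD1_c10 LD2_c52 LD3_c40) (LK LD1_c5 LD2_c30 LD3_c32) Lrfl Lrfl
theorem f175094 : Led Lsl_cf (LP (LK LD1_c11 LD2_c0 LD3_c59)) = (LP (LK LD1_c10 LD2_c52 LD3_c40)) :=
  Lgr Lrot163 (Lpe (f175090 IH) (Lpe (f173021 IH) (Lpe (f173020 IH) (Lpe (f172866 IH) (Lpr_ct (K9.f168296 IH) (Lpe (K9.f172555 IH) (Lpr_cf (K9.f174970 IH) (Lpr_bt (K27.f175091 IH) (Lpe (f175092 IH) (Lpe (f175093 IH) (Lpn (LP (LK LD1_c10 LD2_c52 LD3_c40)))))))))))))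
theorem f175152 : Led Lsl_ct (LP (LK LD1_c11 LD2_c0 LD3_c59)) = (LP (LK LD1_c10 LD2_c52 LD3_c40)) :=
  Lgr Lrot59 (Lpr_cf (f175094 IH) (Lpn (LP (LK LD1_c10 LD2_c52 LD3_c40))))
theorem f172989 : Led Lsl_dt (LP (LK LD1_c0 LD2_c35 LD3_c60)) = (LP (LK LD1_c1 LD2_c18 LD3_c1)) :=
  Lre_d IH (LK LD1_c0 LD2_c35 LD3_c60) (LK LD1_c1 LD2_c18 LD3_c1) Lrfl Lrfl
theorem f172997 : Led Lsl_gt (LP (LK LD1_c2 LD2_c43 LD3_c0)) = (LP (LK LD1_c5 LD2_c33 LD3_c56)) :=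
  Lre_g IH (LK LD1_c2 LD2_c43 LD3_c0) (LK LD1_c5 LD2_c33 LD3_c56) Lrfl Lrfl
theorem f174382 : Led Lsl_ct (LP (LK LD1_c5 LD2_c33 LD3_c56)) = (LP (LK LD1_c5 LD2_c32 LD3_c36)) :=
  Lre_c IH (LK LD1_c5 LD2_c33 LD3_c56) (LK LD1_c5 LD2_c32 LD3_c36) Lrfl Lrfl
theorem f175171 : Led Lsl_df (LP (LK LD1_c5 LD2_c32 LD3_c36)) = (LP (LK LD1_c10 LD2_c52 LD3_c40)) :=
  Lgr Lrot162 (Lpe (f174382 IH) (Lpe (f172997 IH) (Lpe (K14.f173007 IH) (Lpe (K9.f174104 IH) (Lpr_dt (f172989 IH) (Lpr_gt (f173020 IH) (Lpr_ct (f173021 IH) (Lpr_gt (f175090 IH) (Lpr_ct (f175152 IH) (Lpn (LP (LK LD1_c10 LD2_c52 LD3_c40))))))))))))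
theorem f174381 : Led Lsl_bt (LP (LK LD1_c5 LD2_c32 LD3_c36)) = (LP (LK LD1_c2 LD2_c42 LD3_c28)) :=
  Lre_b IH (LK LD1_c5 LD2_c32 LD3_c36) (LK LD1_c2 LD2_c42 LD3_c28) Lrfl Lrfl
theorem f175150 : Led Lsl_bt (LP (LK LD1_c5 LD2_c30 LD3_c32)) = (LP (LK LD1_c10 LD2_c52 LD3_c40)) :=
  Lre_b IH (LK LD1_c5 LD2_c30 LD3_c32) (LK LD1_c10 LD2_c52 LD3_c40) Lrfl Lrfl
theorem f175178 : Led Lsl_dt (LP (LK LD1_c2 LD2_c42 LD3_c28)) = (LP (LK LD1_c5 LD2_c30 LD3_c32)) :=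
  Lgr Lrot79 (Lpe (f174381 IH) (Lpr_df (f175171 IH) (Lpe (f175150 IH) (Lpn (LP (LK LD1_c5 LD2_c30 LD3_c32))))))
theorem f175187 : Led Lsl_df (LP (LK LD1_c2 LD2_c42 LD3_c28)) = (LP (LK LD1_c5 LD2_c30 LD3_c32)) :=
  Lgr Lrot38 (Lpr_dt (f175178 IH) (Lpn (LP (LK LD1_c5 LD2_c30 LD3_c32))))
theorem f175185 : Led Lsl_dt (LP (LK LD1_c10 LD2_c56 LD3_c60)) = (LP (LK LD1_c5 LD2_c32 LD3_c37)) :=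
  Lre_d IH (LK LD1_c10 LD2_c56 LD3_c60) (LK LD1_c5 LD2_c32 LD3_c37) Lrfl Lrfl
theorem f396747 : Led Lsl_gt (LP (LK LD1_c19 LD2_c39 LD3_c10)) = (LP (LK LD1_c10 LD2_c56 LD3_c60)) :=
  Lgr Lrot49 (Lpe (f179140 IH) (Lpe (K27.f175118 IH) (Lpe (K27.f175117 IH) (Lpr_gt (f396744 IH) (Lpr_dt (f385165 IH) (Lpr_gt (f386364 IH) (Lpe (f175187 IH) (Lpe (K12.f175184 IH) (Lpe (f175185 IH) (Lpn (LP (LK LD1_c10 LD2_c56 LD3_c60))))))))))))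
theorem f179141 : Led Lsl_dt (LP (LK LD1_c19 LD2_c39 LD3_c10)) = (LP (LK LD1_c10 LD2_c52 LD3_c11)) :=
  Lre_d IH (LK LD1_c19 LD2_c39 LD3_c10) (LK LD1_c10 LD2_c52 LD3_c11) Lrfl Lrfl
theorem f217115 : Led Lsl_dt (LP (LK LD1_c2 LD2_c41 LD3_c18)) = (LP (LK LD1_c5 LD2_c30 LD3_c1)) :=
  Lre_d IH (LK LD1_c2 LD2_c41 LD3_c18) (LK LD1_c5 LD2_c30 LD3_c1) Lrfl Lrfl
theorem f216995 : Led Lsl_ct (LP (LK LD1_c10 LD2_c51 LD3_c22)) = (LP (LK LD1_c5 LD2_c30 LD3_c1)) :=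
  Lre_c IH (LK LD1_c10 LD2_c51 LD3_c22) (LK LD1_c5 LD2_c30 LD3_c1) Lrfl Lrfl
theorem f217125 : Led Lsl_gt (LP (LK LD1_c19 LD2_c37 LD3_c32)) = (LP (LK LD1_c10 LD2_c51 LD3_c22)) :=
  Lre_g IH (LK LD1_c19 LD2_c37 LD3_c32) (LK LD1_c10 LD2_c51 LD3_c22) Lrfl Lrfl
theorem f396891 : Led Lsl_cf (LP (LK LD1_c19 LD2_c37 LD3_c32)) = (LP (LK LD1_c10 LD2_c56 LD3_c60)) :=
  Lgr Lrot169 (Lpr_gt (f217125 IH) (Lpr_ct (f216995 IH) (Lpe (f217115 IH) (Lpe (f175173 IH) (Lpe (f234786 IH) (Lpe (f234787 IH) (Lpe (f384869 IH) (Lpe (f179141 IH) (Lpr_gt (f396747 IH) (Lpn (LP (LK LD1_c10 LD2_c56 LD3_c60))))))))))))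
theorem f217104 : Led Lsl_ct (LP (LK LD1_c5 LD2_c30 LD3_c1)) = (LP (LK LD1_c10 LD2_c51 LD3_c22)) :=
  Lre_c IH (LK LD1_c5 LD2_c30 LD3_c1) (LK LD1_c10 LD2_c51 LD3_c22) Lrfl Lrfl
theorem f216994 : Led Lsl_bt (LP (LK LD1_c5 LD2_c30 LD3_c1)) = (LP (LK LD1_c2 LD2_c41 LD3_c19)) :=
  Lre_b IH (LK LD1_c5 LD2_c30 LD3_c1) (LK LD1_c2 LD2_c41 LD3_c19) Lrfl Lrfl
theorem f254799 : Led Lsl_bt (LP (LK LD1_c10 LD2_c56 LD3_c60)) = (LP (LK LD1_c19 LD2_c19 LD3_c45)) :=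
  Lre_b IH (LK LD1_c10 LD2_c56 LD3_c60) (LK LD1_c19 LD2_c19 LD3_c45) Lrfl Lrfl
theorem f396901 : Led Lsl_gt (LP (LK LD1_c18 LD2_c51 LD3_c19)) = (LP (LK LD1_c19 LD2_c19 LD3_c45)) :=
  Lgr Lrot164 (Lpe (K22.f222977 IH) (Lpe (K13.f222974 IH) (Lpe (K12.f222252 IH) (Lpr_cf (K14.f222510 IH) (Lpe (K12.f217004 IH) (Lpe (f216994 IH) (Lpr_ct (f217104 IH) (Lpe (f217125 IH) (Lpr_cf (f396891 IH) (Lpr_bt (f254799 IH) (Lpn (LP (LK LD1_c19 LD2_c19 LD3_c45)))))))))))))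
theorem f216930 : Led Lsl_dt (LP (LK LD1_c10 LD2_c40 LD3_c29)) = (LP (LK LD1_c19 LD2_c19 LD3_c45)) :=
  Lre_d IH (LK LD1_c10 LD2_c40 LD3_c29) (LK LD1_c19 LD2_c19 LD3_c45) Lrfl Lrfl
theorem f246726 : Led Lsl_bt (LP (LK LD1_c4 LD2_c19 LD3_c49)) = (LP (LK LD1_c4 LD2_c55 LD3_c4)) :=
  Lgr Lrot128 (Lpe (K14.f170292 IH) (Lpr_bf (K14.f246720 IH) (Lpe (K16.f246656 IH) (Lpe (K14.f232201 IH) (Lpe (K14.f232200 IH) (Lpn (LP (LK LD1_c4 LD2_c55 LD3_c4))))))))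
theorem f52027 : Led Lsl_bt (LP (LK LD1_c2 LD2_c3 LD3_c8)) = (LP (LK LD1_c0 LD2_c58 LD3_c28)) :=
  Lre_b IH (LK LD1_c2 LD2_c3 LD3_c8) (LK LD1_c0 LD2_c58 LD3_c28) Lrfl Lrfl
theorem f51694 : Led Lsl_ct (LP (LK LD1_c4 LD2_c11 LD3_c60)) = (LP (LK LD1_c2 LD2_c3 LD3_c8)) :=
  Lre_c IH (LK LD1_c4 LD2_c11 LD3_c60) (LK LD1_c2 LD2_c3 LD3_c8) Lrfl Lrfl
theorem f51804 : Led Lsl_dt (LP (LK LD1_c8 LD2_c23 LD3_c41)) = (LP (LK LD1_c4 LD2_c11 LD3_c60)) :=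
  Lre_d IH (LK LD1_c8 LD2_c23 LD3_c41) (LK LD1_c4 LD2_c11 LD3_c60) Lrfl Lrfl
theorem f51826 : Led Lsl_gt (LP (LK LD1_c15 LD2_c47 LD3_c10)) = (LP (LK LD1_c8 LD2_c23 LD3_c41)) :=
  Lre_g IH (LK LD1_c15 LD2_c47 LD3_c10) (LK LD1_c8 LD2_c23 LD3_c41) Lrfl Lrfl
theorem f51832 : Led Lsl_bt (LP (LK LD1_c25 LD2_c43 LD3_c56)) = (LP (LK LD1_c15 LD2_c47 LD3_c10)) :=
  Lre_b IH (LK LD1_c25 LD2_c43 LD3_c56) (LK LD1_c15 LD2_c47 LD3_c10) Lrfl Lrfl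
theorem f254797 : Led Lsl_ct (LP (LK LD1_c19 LD2_c19 LD3_c45)) = (LP (LK LD1_c25 LD2_c43 LD3_c56)) :=
  Lgr Lrot191 (Lpe (f216930 IH) (Lpe (K12.f216929 IH) (Lpr_bf (K12.f216920 IH) (Lpe (K12.f216914 IH) (Lpe (K14.f236137 IH) (Lpr_gf (K14.f254789 IH) (Lpe (f246726 IH) (Lpe (K14.f170292 IH) (Lpr_df (K15.f246737 IH) (Lpe (K12.f166569 IH) (Lpe (K12.f167073 IH) (Lpe (K9.f166993 IH) (Lpe (K9.f167046 IH) (Lpr_gf (K9.f52223 IH) (Lpe (f52027 IH) (Lpe (f51694 IH) (Lpe (f51804 IH) (Lpe (f51826 IH) (Lpe (f51832 IH) (Lpn (LP (LK LD1_c25 LD2_c43 LD3_c56))))))))))))))))))))))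
theorem f254800 : Led Lsl_cf (LP (LK LD1_c19 LD2_c19 LD3_c45)) = (LP (LK LD1_c25 LD2_c43 LD3_c56)) :=
  Lgr Lrot11 (Lpr_ct (f254797 IH) (Lpn (LP (LK LD1_c25 LD2_c43 LD3_c56))))
theorem f51650 : Led Lsl_bt (LP (LK LD1_c4 LD2_c12 LD3_c0)) = (LP (LK LD1_c2 LD2_c3 LD3_c11)) :=
  Lre_b IH (LK LD1_c4 LD2_c12 LD3_c0) (LK LD1_c2 LD2_c3 LD3_c11) Lrfl Lrfl
theorem f51639 : Led Lsl_bt (LP (LK LD1_c2 LD2_c3 LD3_c10)) = (LP (LK LD1_c4 LD2_c11 LD3_c61)) :=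
  Lre_b IH (LK LD1_c2 LD2_c3 LD3_c10) (LK LD1_c4 LD2_c11 LD3_c61) Lrfl Lrfl
theorem f51651 : Led Lsl_ff (LP (LK LD1_c4 LD2_c12 LD3_c0)) = (LP (LK LD1_c4 LD2_c11 LD3_c61)) :=
  Lgr Lrot25 (Lpr_bt (f51650 IH) (Lpr_ft (K23.f51647 IH) (Lpr_bt (f51639 IH) (Lpn (LP (LK LD1_c4 LD2_c11 LD3_c61))))))
theorem f51668 : Led Lsl_ft (LP (LK LD1_c4 LD2_c12 LD3_c0)) = (LP (LK LD1_c4 LD2_c11 LD3_c61)) :=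
  Lgr Lrot48 (Lpr_ff (f51651 IH) (Lpn (LP (LK LD1_c4 LD2_c11 LD3_c61))))
theorem f1112 : Led Lsl_et (LP (LK LD1_c2 LD2_c3 LD3_c9)) = (LP (LK LD1_c4 LD2_c12 LD3_c0)) :=
  Lre_e IH (LK LD1_c2 LD2_c3 LD3_c9) (LK LD1_c4 LD2_c12 LD3_c0) Lrfl Lrfl
theorem f1111 : Led Lsl_ft (LP (LK LD1_c0 LD2_c58 LD3_c27)) = (LP (LK LD1_c2 LD2_c3 LD3_c9)) :=
  Lre_f IH (LK LD1_c0 LD2_c58 LD3_c27) (LK LD1_c2 LD2_c3 LD3_c9) Lrfl Lrfl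
theorem f1028 : Led Lsl_bt (LP (LK LD1_c2 LD2_c2 LD3_c8)) = (LP (LK LD1_c0 LD2_c57 LD3_c61)) :=
  Lre_b IH (LK LD1_c2 LD2_c2 LD3_c8) (LK LD1_c0 LD2_c57 LD3_c61) Lrfl Lrfl
theorem f1029 : Led Lsl_bt (LP (LK LD1_c0 LD2_c59 LD3_c48)) = (LP (LK LD1_c2 LD2_c5 LD3_c33)) :=
  Lre_b IH (LK LD1_c0 LD2_c59 LD3_c48) (LK LD1_c2 LD2_c5 LD3_c33) Lrfl Lrfl
theorem f1030 : Led Lsl_ef (LP (LK LD1_c2 LD2_c2 LD3_c8)) = (LP (LK LD1_c2 LD2_c5 LD3_c33)) :=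
  Lgr Lrot29 (Lpr_bt (f1028 IH) (Lpr_et (K18.f1008 IH) (Lpr_bt (f1029 IH) (Lpn (LP (LK LD1_c2 LD2_c5 LD3_c33))))))
theorem f1061 : Led Lsl_et (LP (LK LD1_c2 LD2_c2 LD3_c8)) = (LP (LK LD1_c2 LD2_c5 LD3_c33)) :=
  Lgr Lrot87 (Lpr_ef (f1030 IH) (Lpn (LP (LK LD1_c2 LD2_c5 LD3_c33))))
theorem f1081 : Led Lsl_ct (LP (LK LD1_c0 LD2_c58 LD3_c27)) = (LP (LK LD1_c2 LD2_c2 LD3_c8)) :=
  Lre_c IH (LK LD1_c0 LD2_c58 LD3_c27) (LK LD1_c2 LD2_c2 LD3_c8) Lrfl Lrfl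
theorem f1082 : Led Lsl_ct (LP (LK LD1_c2 LD2_c5 LD3_c33)) = (LP (LK LD1_c1 LD2_c0 LD3_c14)) :=
  Lre_c IH (LK LD1_c2 LD2_c5 LD3_c33) (LK LD1_c1 LD2_c0 LD3_c14) Lrfl Lrfl
theorem f1083 : Led Lsl_ef (LP (LK LD1_c0 LD2_c58 LD3_c27)) = (LP (LK LD1_c1 LD2_c0 LD3_c14)) :=
  Lgr Lrot28 (Lpr_ct (f1081 IH) (Lpr_et (f1061 IH) (Lpr_ct (f1082 IH) (Lpn (LP (LK LD1_c1 LD2_c0 LD3_c14))))))
theorem f1209 : Led Lsl_et (LP (LK LD1_c4 LD2_c11 LD3_c61)) = (LP (LK LD1_c2 LD2_c3 LD3_c8)) :=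
  Lre_e IH (LK LD1_c4 LD2_c11 LD3_c61) (LK LD1_c2 LD2_c3 LD3_c8) Lrfl Lrfl
theorem f51682 : Led Lsl_ff (LP (LK LD1_c1 LD2_c0 LD3_c14)) = (LP (LK LD1_c2 LD2_c3 LD3_c8)) :=
  Lgr Lrot72 (Lpe (f1083 IH) (Lpr_ft (f1111 IH) (Lpr_et (f1112 IH) (Lpr_ft (f51668 IH) (Lpr_et (f1209 IH) (Lpn (LP (LK LD1_c2 LD2_c3 LD3_c8))))))))
theorem f1054 : Led Lsl_ct (LP (LK LD1_c1 LD2_c0 LD3_c14)) = (LP (LK LD1_c2 LD2_c5 LD3_c33)) :=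
  Lre_c IH (LK LD1_c1 LD2_c0 LD3_c14) (LK LD1_c2 LD2_c5 LD3_c33) Lrfl Lrfl
theorem f51695 : Led Lsl_ft (LP (LK LD1_c2 LD2_c5 LD3_c33)) = (LP (LK LD1_c4 LD2_c11 LD3_c60)) :=
  Lgr Lrot4 (Lpe (f1054 IH) (Lpr_ff (f51682 IH) (Lpe (f51694 IH) (Lpn (LP (LK LD1_c4 LD2_c11 LD3_c60))))))
theorem f1068 : Led Lsl_dt (LP (LK LD1_c2 LD2_c5 LD3_c33)) = (LP (LK LD1_c4 LD2_c16 LD3_c32)) :=
  Lre_d IH (LK LD1_c2 LD2_c5 LD3_c33) (LK LD1_c4 LD2_c16 LD3_c32) Lrfl Lrfl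
theorem f51714 : Led Lsl_ct (LP (LK LD1_c4 LD2_c16 LD3_c32)) = (LP (LK LD1_c8 LD2_c32 LD3_c18)) :=
  Lre_c IH (LK LD1_c4 LD2_c16 LD3_c32) (LK LD1_c8 LD2_c32 LD3_c18) Lrfl Lrfl
theorem f51703 : Led Lsl_at (LP (LK LD1_c4 LD2_c11 LD3_c60)) = (LP (LK LD1_c8 LD2_c23 LD3_c33)) :=
  Lre_a IH (LK LD1_c4 LD2_c11 LD3_c60) (LK LD1_c8 LD2_c23 LD3_c33) Lrfl Lrfl
theorem f51715 : Led Lsl_ct (LP (LK LD1_c4 LD2_c11 LD3_c57)) = (LP (LK LD1_c8 LD2_c23 LD3_c33)) :=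
  Lre_c IH (LK LD1_c4 LD2_c11 LD3_c57) (LK LD1_c8 LD2_c23 LD3_c33) Lrfl Lrfl
theorem f1138 : Led Lsl_dt (LP (LK LD1_c2 LD2_c3 LD3_c7)) = (LP (LK LD1_c4 LD2_c11 LD3_c57)) :=
  Lre_d IH (LK LD1_c2 LD2_c3 LD3_c7) (LK LD1_c4 LD2_c11 LD3_c57) Lrfl Lrfl
theorem f1130 : Led Lsl_ct (LP (LK LD1_c4 LD2_c9 LD3_c49)) = (LP (LK LD1_c2 LD2_c3 LD3_c7)) :=
  Lre_c IH (LK LD1_c4 LD2_c9 LD3_c49) (LK LD1_c2 LD2_c3 LD3_c7) Lrfl Lrfl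
theorem f1220 : Led Lsl_dt (LP (LK LD1_c8 LD2_c19 LD3_c47)) = (LP (LK LD1_c4 LD2_c9 LD3_c49)) :=
  Lre_d IH (LK LD1_c8 LD2_c19 LD3_c47) (LK LD1_c4 LD2_c9 LD3_c49) Lrfl Lrfl
theorem f51716 : Led Lsl_ct (LP (LK LD1_c15 LD2_c40 LD3_c29)) = (LP (LK LD1_c8 LD2_c19 LD3_c47)) :=
  Lre_c IH (LK LD1_c15 LD2_c40 LD3_c29) (LK LD1_c8 LD2_c19 LD3_c47) Lrfl Lrfl
theorem f51717 : Led Lsl_dt (LP (LK LD1_c8 LD2_c32 LD3_c18)) = (LP (LK LD1_c15 LD2_c40 LD3_c29)) :=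
  Lgr Lrot32 (Lpe (f51714 IH) (Lpe (f1068 IH) (Lpr_ft (f51695 IH) (Lpr_at (f51703 IH) (Lpe (f51715 IH) (Lpe (f1138 IH) (Lpe (f1130 IH) (Lpe (f1220 IH) (Lpe (f51716 IH) (Lpn (LP (LK LD1_c15 LD2_c40 LD3_c29))))))))))))
theorem f1101 : Led Lsl_at (LP (LK LD1_c0 LD2_c58 LD3_c27)) = (LP (LK LD1_c2 LD2_c3 LD3_c7)) :=
  Lre_a IH (LK LD1_c0 LD2_c58 LD3_c27) (LK LD1_c2 LD2_c3 LD3_c7) Lrfl Lrfl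
theorem f1210 : Led Lsl_ft (LP (LK LD1_c2 LD2_c3 LD3_c9)) = (LP (LK LD1_c0 LD2_c58 LD3_c27)) :=
  Lre_f IH (LK LD1_c2 LD2_c3 LD3_c9) (LK LD1_c0 LD2_c58 LD3_c27) Lrfl Lrfl
theorem f51731 : Led Lsl_df (LP (LK LD1_c1 LD2_c0 LD3_c14)) = (LP (LK LD1_c2 LD2_c3 LD3_c9)) :=
  Lgr Lrot157 (Lpr_ct (f1054 IH) (Lpr_dt (f1068 IH) (Lpr_ct (f51714 IH) (Lpr_dt (f51717 IH) (Lpr_ct (f51716 IH) (Lpr_dt (f1220 IH) (Lpr_ct (f1130 IH) (Lpe (f1101 IH) (Lpe (f1210 IH) (Lpn (LP (LK LD1_c2 LD2_c3 LD3_c9))))))))))))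
theorem f1140 : Led Lsl_at (LP (LK LD1_c1 LD2_c0 LD3_c14)) = (LP (LK LD1_c2 LD2_c6 LD3_c32)) :=
  Lre_a IH (LK LD1_c1 LD2_c0 LD3_c14) (LK LD1_c2 LD2_c6 LD3_c32) Lrfl Lrfl
theorem f51745 : Led Lsl_at (LP (LK LD1_c4 LD2_c11 LD3_c46)) = (LP (LK LD1_c2 LD2_c3 LD3_c9)) :=
  Lre_a IH (LK LD1_c4 LD2_c11 LD3_c46) (LK LD1_c2 LD2_c3 LD3_c9) Lrfl Lrfl
theorem f51746 : Led Lsl_dt (LP (LK LD1_c2 LD2_c6 LD3_c32)) = (LP (LK LD1_c4 LD2_c11 LD3_c46)) :=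
  Lgr Lrot44 (Lpe (f1140 IH) (Lpr_df (f51731 IH) (Lpe (f51745 IH) (Lpn (LP (LK LD1_c4 LD2_c11 LD3_c46))))))
theorem f1142 : Led Lsl_ct (LP (LK LD1_c4 LD2_c16 LD3_c31)) = (LP (LK LD1_c2 LD2_c6 LD3_c32)) :=
  Lre_c IH (LK LD1_c4 LD2_c16 LD3_c31) (LK LD1_c2 LD2_c6 LD3_c32) Lrfl Lrfl
theorem f1152 : Led Lsl_dt (LP (LK LD1_c8 LD2_c32 LD3_c15)) = (LP (LK LD1_c4 LD2_c16 LD3_c31)) :=
  Lre_d IH (LK LD1_c8 LD2_c32 LD3_c15) (LK LD1_c4 LD2_c16 LD3_c31) Lrfl Lrfl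
theorem f51800 : Led Lsl_ct (LP (LK LD1_c4 LD2_c11 LD3_c46)) = (LP (LK LD1_c8 LD2_c19 LD3_c40)) :=
  Lre_c IH (LK LD1_c4 LD2_c11 LD3_c46) (LK LD1_c8 LD2_c19 LD3_c40) Lrfl Lrfl
theorem f51801 : Led Lsl_dt (LP (LK LD1_c8 LD2_c19 LD3_c40)) = (LP (LK LD1_c15 LD2_c40 LD3_c9)) :=
  Lre_d IH (LK LD1_c8 LD2_c19 LD3_c40) (LK LD1_c15 LD2_c40 LD3_c9) Lrfl Lrfl
theorem f51802 : Led Lsl_ct (LP (LK LD1_c15 LD2_c40 LD3_c9)) = (LP (LK LD1_c25 LD2_c35 LD3_c32)) :=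
  Lre_c IH (LK LD1_c15 LD2_c40 LD3_c9) (LK LD1_c25 LD2_c35 LD3_c32) Lrfl Lrfl
theorem f51728 : Led Lsl_dt (LP (LK LD1_c25 LD2_c35 LD3_c32)) = (LP (LK LD1_c15 LD2_c47 LD3_c11)) :=
  Lre_d IH (LK LD1_c25 LD2_c35 LD3_c32) (LK LD1_c15 LD2_c47 LD3_c11) Lrfl Lrfl
theorem f51803 : Led Lsl_ct (LP (LK LD1_c15 LD2_c47 LD3_c11)) = (LP (LK LD1_c8 LD2_c23 LD3_c41)) :=
  Lre_c IH (LK LD1_c15 LD2_c47 LD3_c11) (LK LD1_c8 LD2_c23 LD3_c41) Lrfl Lrfl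
theorem f51807 : Led Lsl_at (LP (LK LD1_c15 LD2_c46 LD3_c61)) = (LP (LK LD1_c8 LD2_c23 LD3_c41)) :=
  Lre_a IH (LK LD1_c15 LD2_c46 LD3_c61) (LK LD1_c8 LD2_c23 LD3_c41) Lrfl Lrfl
theorem f51808 : Led Lsl_ft (LP (LK LD1_c8 LD2_c32 LD3_c15)) = (LP (LK LD1_c15 LD2_c46 LD3_c61)) :=
  Lgr Lrot142 (Lpr_dt (f1152 IH) (Lpr_ct (f1142 IH) (Lpr_dt (f51746 IH) (Lpr_ct (f51800 IH) (Lpr_dt (f51801 IH) (Lpr_ct (f51802 IH) (Lpr_dt (f51728 IH) (Lpr_ct (f51803 IH) (Lpe (f51807 IH) (Lpn (LP (LK LD1_c15 LD2_c46 LD3_c61))))))))))))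
theorem f51824 : Led Lsl_ff (LP (LK LD1_c8 LD2_c32 LD3_c15)) = (LP (LK LD1_c15 LD2_c46 LD3_c61)) :=
  Lgr Lrot3 (Lpr_ft (f51808 IH) (Lpn (LP (LK LD1_c15 LD2_c46 LD3_c61))))
theorem f51724 : Led Lsl_dt (LP (LK LD1_c8 LD2_c23 LD3_c33)) = (LP (LK LD1_c15 LD2_c46 LD3_c61)) :=
  Lre_d IH (LK LD1_c8 LD2_c23 LD3_c33) (LK LD1_c15 LD2_c46 LD3_c61) Lrfl Lrfl
theorem f51841 : Led Lsl_ft (LP (LK LD1_c4 LD2_c16 LD3_c31)) = (LP (LK LD1_c8 LD2_c23 LD3_c33)) :=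
  Lgr Lrot54 (Lpe (f1152 IH) (Lpr_ff (f51824 IH) (Lpe (f51724 IH) (Lpn (LP (LK LD1_c8 LD2_c23 LD3_c33))))))
theorem f1147 : Led Lsl_bt (LP (LK LD1_c8 LD2_c30 LD3_c4)) = (LP (LK LD1_c4 LD2_c16 LD3_c31)) :=
  Lre_b IH (LK LD1_c8 LD2_c30 LD3_c4) (LK LD1_c4 LD2_c16 LD3_c31) Lrfl Lrfl
theorem f51854 : Led Lsl_bt (LP (LK LD1_c8 LD2_c23 LD3_c33)) = (LP (LK LD1_c15 LD2_c46 LD3_c60)) :=
  Lre_b IH (LK LD1_c8 LD2_c23 LD3_c33) (LK LD1_c15 LD2_c46 LD3_c60) Lrfl Lrfl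
theorem f51855 : Led Lsl_ff (LP (LK LD1_c8 LD2_c30 LD3_c4)) = (LP (LK LD1_c15 LD2_c46 LD3_c60)) :=
  Lgr Lrot25 (Lpr_bt (f1147 IH) (Lpr_ft (f51841 IH) (Lpr_bt (f51854 IH) (Lpn (LP (LK LD1_c15 LD2_c46 LD3_c60))))))
theorem f51866 : Led Lsl_ft (LP (LK LD1_c8 LD2_c30 LD3_c4)) = (LP (LK LD1_c15 LD2_c46 LD3_c60)) :=
  Lgr Lrot48 (Lpr_ff (f51855 IH) (Lpn (LP (LK LD1_c15 LD2_c46 LD3_c60))))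
theorem f1166 : Led Lsl_at (LP (LK LD1_c4 LD2_c15 LD3_c33)) = (LP (LK LD1_c8 LD2_c30 LD3_c4)) :=
  Lre_a IH (LK LD1_c4 LD2_c15 LD3_c33) (LK LD1_c8 LD2_c30 LD3_c4) Lrfl Lrfl
theorem f1284 : Led Lsl_ft (LP (LK LD1_c8 LD2_c30 LD3_c6)) = (LP (LK LD1_c4 LD2_c15 LD3_c33)) :=
  Lre_f IH (LK LD1_c8 LD2_c30 LD3_c6) (LK LD1_c4 LD2_c15 LD3_c33) Lrfl Lrfl
theorem f51890 : Led Lsl_af (LP (LK LD1_c8 LD2_c30 LD3_c6)) = (LP (LK LD1_c15 LD2_c46 LD3_c60)) :=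
  Lgr Lrot45 (Lpr_ft (f1284 IH) (Lpr_at (f1166 IH) (Lpr_ft (f51866 IH) (Lpn (LP (LK LD1_c15 LD2_c46 LD3_c60))))))
theorem f51897 : Led Lsl_dt (LP (LK LD1_c8 LD2_c30 LD3_c6)) = (LP (LK LD1_c15 LD2_c52 LD3_c21)) :=
  Lre_d IH (LK LD1_c8 LD2_c30 LD3_c6) (LK LD1_c15 LD2_c52 LD3_c21) Lrfl Lrfl
theorem f51865 : Led Lsl_dt (LP (LK LD1_c25 LD2_c43 LD3_c38)) = (LP (LK LD1_c15 LD2_c46 LD3_c60)) :=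
  Lre_d IH (LK LD1_c25 LD2_c43 LD3_c38) (LK LD1_c15 LD2_c46 LD3_c60) Lrfl Lrfl
theorem f51898 : Led Lsl_at (LP (LK LD1_c15 LD2_c52 LD3_c21)) = (LP (LK LD1_c25 LD2_c43 LD3_c38)) :=
  Lgr Lrot51 (Lpe (f51897 IH) (Lpr_af (f51890 IH) (Lpe (f51865 IH) (Lpn (LP (LK LD1_c25 LD2_c43 LD3_c38))))))
theorem f51902 : Led Lsl_bt (LP (LK LD1_c8 LD2_c27 LD3_c11)) = (LP (LK LD1_c15 LD2_c52 LD3_c21)) :=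
  Lre_b IH (LK LD1_c8 LD2_c27 LD3_c11) (LK LD1_c15 LD2_c52 LD3_c21) Lrfl Lrfl
theorem f51903 : Led Lsl_at (LP (LK LD1_c4 LD2_c16 LD3_c37)) = (LP (LK LD1_c8 LD2_c27 LD3_c11)) :=
  Lre_a IH (LK LD1_c4 LD2_c16 LD3_c37) (LK LD1_c8 LD2_c27 LD3_c11) Lrfl Lrfl
theorem f51838 : Led Lsl_bt (LP (LK LD1_c25 LD2_c43 LD3_c38)) = (LP (LK LD1_c15 LD2_c46 LD3_c61)) :=
  Lre_b IH (LK LD1_c25 LD2_c43 LD3_c38) (LK LD1_c15 LD2_c46 LD3_c61) Lrfl Lrfl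
theorem f51904 : Led Lsl_bf (LP (LK LD1_c4 LD2_c16 LD3_c37)) = (LP (LK LD1_c8 LD2_c23 LD3_c41)) :=
  Lgr Lrot81 (Lpr_at (f51903 IH) (Lpr_bt (f51902 IH) (Lpr_at (f51898 IH) (Lpr_bt (f51838 IH) (Lpr_at (f51807 IH) (Lpn (LP (LK LD1_c8 LD2_c23 LD3_c41))))))))
theorem f51914 : Led Lsl_bt (LP (LK LD1_c4 LD2_c16 LD3_c37)) = (LP (LK LD1_c8 LD2_c23 LD3_c41)) :=
  Lgr Lrot127 (Lpr_bf (f51904 IH) (Lpn (LP (LK LD1_c8 LD2_c23 LD3_c41))))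
theorem f245034 : Led Lsl_bt (LP (LK LD1_c8 LD2_c29 LD3_c42)) = (LP (LK LD1_c15 LD2_c56 LD3_c61)) :=
  Lre_b IH (LK LD1_c8 LD2_c29 LD3_c42) (LK LD1_c15 LD2_c56 LD3_c61) Lrfl Lrfl
theorem f245043 : Led Lsl_gt (LP (LK LD1_c15 LD2_c56 LD3_c61)) = (LP (LK LD1_c25 LD2_c53 LD3_c30)) :=
  Lre_g IH (LK LD1_c15 LD2_c56 LD3_c61) (LK LD1_c25 LD2_c53 LD3_c30) Lrfl Lrfl
theorem f396906 : Led Lsl_cf (LP (LK LD1_c18 LD2_c51 LD3_c19)) = (LP (LK LD1_c25 LD2_c53 LD3_c30)) :=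
  Lgr Lrot125 (Lpr_gt (f396901 IH) (Lpr_cf (f254800 IH) (Lpr_bt (f51832 IH) (Lpr_gt (f51826 IH) (Lpe (f51914 IH) (Lpr_ct (K18.f51916 IH) (Lpr_gt (K18.f261474 IH) (Lpr_cf (K15.f245035 IH) (Lpr_bt (f245034 IH) (Lpr_gt (f245043 IH) (Lpn (LP (LK LD1_c25 LD2_c53 LD3_c30)))))))))))))
theorem f245879 : Led Lsl_ct (LP (LK LD1_c0 LD2_c26 LD3_c38)) = (LP (LK LD1_c0 LD2_c35 LD3_c50)) :=
  Lgr Lrot176 (Lpr_df (K9.f178484 IH) (Lpr_cf (K9.f168320 IH) (Lpe (K9.f168325 IH) (Lpe (K15.f168326 IH) (Lpr_df (K15.f237794 IH) (Lpe (K12.f53388 IH) (Lpr_df (K9.f167635 IH) (Lpe (K13.f167762 IH) (Lpr_df (K9.f6806 IH) (Lpe (K9.f6810 IH) (Lpr_df (K13.f179028 IH) (Lpe (K9.f53442 IH) (Lpr_df (K9.f179563 IH) (Lpe (K9.f53387 IH) (Lpr_df (K13.f245873 IH) (Lpn (LP (LK LD1_c0 LD2_c35 LD3_c50))))))))))))))))))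
theorem f48251 : Led Lsl_bt (LP (LK LD1_c4 LD2_c15 LD3_c29)) = (LP (LK LD1_c8 LD2_c29 LD3_c53)) :=
  Lre_b IH (LK LD1_c4 LD2_c15 LD3_c29) (LK LD1_c8 LD2_c29 LD3_c53) Lrfl Lrfl
theorem f48252 : Led Lsl_gt (LP (LK LD1_c8 LD2_c29 LD3_c53)) = (LP (LK LD1_c15 LD2_c57 LD3_c18)) :=
  Lre_g IH (LK LD1_c8 LD2_c29 LD3_c53) (LK LD1_c15 LD2_c57 LD3_c18) Lrfl Lrfl
theorem f396917 : Led Lsl_dt (LP (LK LD1_c15 LD2_c57 LD3_c18)) = (LP (LK LD1_c25 LD2_c53 LD3_c30)) :=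
  Lgr Lrot182 (Lpe (f48252 IH) (Lpe (f48251 IH) (Lpe (K15.f48239 IH) (Lpr_df (K10.f48190 IH) (Lpe (K15.f261404 IH) (Lpe (K15.f236371 IH) (Lpe (f245879 IH) (Lpr_df (K9.f178484 IH) (Lpr_gf (K10.f179113 IH) (Lpe (K10.f170293 IH) (Lpe (K12.f180100 IH) (Lpr_df (K15.f187916 IH) (Lpe (K10.f27977 IH) (Lpe (K12.f50175 IH) (Lpe (K12.f50168 IH) (Lpe (K14.f50170 IH) (Lpr_gf (K13.f50499 IH) (Lpe (K22.f50501 IH) (Lpr_cf (f396906 IH) (Lpn (LP (LK LD1_c25 LD2_c53 LD3_c30))))))))))))))))))))))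
theorem f396919 : Led Lsl_df (LP (LK LD1_c15 LD2_c57 LD3_c18)) = (LP (LK LD1_c25 LD2_c53 LD3_c30)) :=
  Lgr Lrot38 (Lpr_dt (f396917 IH) (Lpn (LP (LK LD1_c25 LD2_c53 LD3_c30))))
theorem f171040 : Led Lsl_bt (LP (LK LD1_c4 LD2_c15 LD3_c31)) = (LP (LK LD1_c8 LD2_c29 LD3_c58)) :=
  Lre_b IH (LK LD1_c4 LD2_c15 LD3_c31) (LK LD1_c8 LD2_c29 LD3_c58) Lrfl Lrfl
theorem f171042 : Led Lsl_bt (LP (LK LD1_c4 LD2_c51 LD3_c33)) = (LP (LK LD1_c2 LD2_c23 LD3_c38)) :=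
  Lre_b IH (LK LD1_c4 LD2_c51 LD3_c33) (LK LD1_c2 LD2_c23 LD3_c38) Lrfl Lrfl
theorem f171043 : Led Lsl_ct (LP (LK LD1_c8 LD2_c29 LD3_c58)) = (LP (LK LD1_c4 LD2_c51 LD3_c33)) :=
  Lgr Lrot83 (Lpe (f171040 IH) (Lpr_cf (K11.f171036 IH) (Lpe (K11.f171041 IH) (Lpe (K13.f1931 IH) (Lpe (f171042 IH) (Lpn (LP (LK LD1_c4 LD2_c51 LD3_c33))))))))
theorem f171111 : Led Lsl_gt (LP (LK LD1_c9 LD2_c35 LD3_c9)) = (LP (LK LD1_c4 LD2_c51 LD3_c33)) :=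
  Lre_g IH (LK LD1_c9 LD2_c35 LD3_c9) (LK LD1_c4 LD2_c51 LD3_c33) Lrfl Lrfl
theorem f171112 : Led Lsl_ct (LP (LK LD1_c17 LD2_c39 LD3_c5)) = (LP (LK LD1_c9 LD2_c35 LD3_c9)) :=
  Lre_c IH (LK LD1_c17 LD2_c39 LD3_c5) (LK LD1_c9 LD2_c35 LD3_c9) Lrfl Lrfl
theorem f171144 : Led Lsl_bf (LP (LK LD1_c15 LD2_c57 LD3_c18)) = (LP (LK LD1_c17 LD2_c39 LD3_c5)) :=
  Lgr Lrot34 (Lpe (f48252 IH) (Lpe (f48251 IH) (Lpr_ct (K16.f48249 IH) (Lpe (K10.f27367 IH) (Lpe (K11.f49073 IH) (Lpe (K11.f53363 IH) (Lpe (K27.f52201 IH) (Lpr_ct (f171043 IH) (Lpe (f171111 IH) (Lpe (f171112 IH) (Lpn (LP (LK LD1_c17 LD2_c39 LD3_c5)))))))))))))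
theorem f171151 : Led Lsl_bt (LP (LK LD1_c15 LD2_c57 LD3_c18)) = (LP (LK LD1_c17 LD2_c39 LD3_c5)) :=
  Lgr Lrot127 (Lpr_bf (f171144 IH) (Lpn (LP (LK LD1_c17 LD2_c39 LD3_c5))))
theorem f222979 : Led Lsl_bt (LP (LK LD1_c8 LD2_c16 LD3_c33)) = (LP (LK LD1_c15 LD2_c33 LD3_c39)) :=
  Lre_b IH (LK LD1_c8 LD2_c16 LD3_c33) (LK LD1_c15 LD2_c33 LD3_c39) Lrfl Lrfl
theorem f222268 : Led Lsl_ct (LP (LK LD1_c15 LD2_c33 LD3_c39)) = (LP (LK LD1_c25 LD2_c27 LD3_c17)) :=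
  Lre_c IH (LK LD1_c15 LD2_c33 LD3_c39) (LK LD1_c25 LD2_c27 LD3_c17) Lrfl Lrfl
theorem f396909 : Led Lsl_bt (LP (LK LD1_c25 LD2_c27 LD3_c17)) = (LP (LK LD1_c25 LD2_c53 LD3_c30)) :=
  Lgr Lrot128 (Lpe (f222268 IH) (Lpe (f222979 IH) (Lpr_cf (K13.f222974 IH) (Lpe (K22.f50501 IH) (Lpr_cf (f396906 IH) (Lpn (LP (LK LD1_c25 LD2_c53 LD3_c30))))))))
theorem f396937 : Led Lsl_dt (LP (LK LD1_c17 LD2_c39 LD3_c5)) = (LP (LK LD1_c25 LD2_c27 LD3_c17)) :=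
  Lgr Lrot79 (Lpe (f171151 IH) (Lpr_df (f396919 IH) (Lpe (f396909 IH) (Lpn (LP (LK LD1_c25 LD2_c27 LD3_c17))))))
theorem f396942 : Led Lsl_df (LP (LK LD1_c17 LD2_c39 LD3_c5)) = (LP (LK LD1_c25 LD2_c27 LD3_c17)) :=
  Lgr Lrot38 (Lpr_dt (f396937 IH) (Lpn (LP (LK LD1_c25 LD2_c27 LD3_c17))))
theorem f222982 : Led Lsl_et (LP (LK LD1_c8 LD2_c16 LD3_c33)) = (LP (LK LD1_c15 LD2_c33 LD3_c41)) :=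
  Lre_e IH (LK LD1_c8 LD2_c16 LD3_c33) (LK LD1_c15 LD2_c33 LD3_c41) Lrfl Lrfl
theorem f222983 : Led Lsl_ct (LP (LK LD1_c15 LD2_c33 LD3_c41)) = (LP (LK LD1_c18 LD2_c51 LD3_c20)) :=
  Lgr Lrot15 (Lpe (f222982 IH) (Lpr_cf (K13.f222974 IH) (Lpe (K23.f49377 IH) (Lpn (LP (LK LD1_c18 LD2_c51 LD3_c20))))))
theorem f223016 : Led Lsl_cf (LP (LK LD1_c15 LD2_c33 LD3_c41)) = (LP (LK LD1_c18 LD2_c51 LD3_c20)) :=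
  Lgr Lrot11 (Lpr_ct (f222983 IH) (Lpn (LP (LK LD1_c18 LD2_c51 LD3_c20))))
theorem f339286 : Led Lsl_af (LP (LK LD1_c8 LD2_c18 LD3_c19)) = (LP (LK LD1_c15 LD2_c33 LD3_c41)) :=
  Lgr Lrot0 (Lpr_at (K22.f339283 IH) (Lpn (LP (LK LD1_c15 LD2_c33 LD3_c41))))
theorem f347520 : Led Lsl_ct (LP (LK LD1_c8 LD2_c18 LD3_c19)) = (LP (LK LD1_c15 LD2_c15 LD3_c54)) :=
  Lgr Lrot111 (Lpr_af (f339286 IH) (Lpr_cf (f223016 IH) (Lpr_af (K23.f347516 IH) (Lpn (LP (LK LD1_c15 LD2_c15 LD3_c54))))))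
theorem f394287 : Led Lsl_cf (LP (LK LD1_c8 LD2_c18 LD3_c19)) = (LP (LK LD1_c15 LD2_c15 LD3_c54)) :=
  Lgr Lrot11 (Lpr_ct (f347520 IH) (Lpn (LP (LK LD1_c15 LD2_c15 LD3_c54))))
theorem f394292 : Led Lsl_bt (LP (LK LD1_c8 LD2_c18 LD3_c19)) = (LP (LK LD1_c15 LD2_c37 LD3_c6)) :=
  Lre_b IH (LK LD1_c8 LD2_c18 LD3_c19) (LK LD1_c15 LD2_c37 LD3_c6) Lrfl Lrfl
theorem f394304 : Led Lsl_ct (LP (LK LD1_c15 LD2_c37 LD3_c6)) = (LP (LK LD1_c25 LD2_c31 LD3_c45)) :=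
  Lre_c IH (LK LD1_c15 LD2_c37 LD3_c6) (LK LD1_c25 LD2_c31 LD3_c45) Lrfl Lrfl
theorem f347518 : Led Lsl_bt (LP (LK LD1_c25 LD2_c5 LD3_c34)) = (LP (LK LD1_c15 LD2_c15 LD3_c54)) :=
  Lre_b IH (LK LD1_c25 LD2_c5 LD3_c34) (LK LD1_c15 LD2_c15 LD3_c54) Lrfl Lrfl
theorem f394305 : Led Lsl_ct (LP (LK LD1_c31 LD2_c45 LD3_c54)) = (LP (LK LD1_c25 LD2_c5 LD3_c34)) :=
  Lre_c IH (LK LD1_c31 LD2_c45 LD3_c54) (LK LD1_c25 LD2_c5 LD3_c34) Lrfl Lrfl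
theorem f394306 : Led Lsl_bt (LP (LK LD1_c25 LD2_c31 LD3_c45)) = (LP (LK LD1_c31 LD2_c45 LD3_c54)) :=
  Lgr Lrot128 (Lpe (f394304 IH) (Lpe (f394292 IH) (Lpr_cf (f394287 IH) (Lpe (f347518 IH) (Lpe (f394305 IH) (Lpn (LP (LK LD1_c31 LD2_c45 LD3_c54))))))))
theorem f394308 : Led Lsl_et (LP (LK LD1_c15 LD2_c37 LD3_c5)) = (LP (LK LD1_c25 LD2_c31 LD3_c45)) :=
  Lre_e IH (LK LD1_c15 LD2_c37 LD3_c5) (LK LD1_c25 LD2_c31 LD3_c45) Lrfl Lrfl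
theorem f217024 : Led Lsl_et (LP (LK LD1_c31 LD2_c45 LD3_c54)) = (LP (LK LD1_c25 LD2_c5 LD3_c33)) :=
  Lre_e IH (LK LD1_c31 LD2_c45 LD3_c54) (LK LD1_c25 LD2_c5 LD3_c33) Lrfl Lrfl
theorem f394309 : Led Lsl_bf (LP (LK LD1_c15 LD2_c37 LD3_c5)) = (LP (LK LD1_c25 LD2_c5 LD3_c33)) :=
  Lgr Lrot96 (Lpr_et (f394308 IH) (Lpr_bt (f394306 IH) (Lpr_et (f217024 IH) (Lpn (LP (LK LD1_c25 LD2_c5 LD3_c33))))))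
theorem f347474 : Led Lsl_ft (LP (LK LD1_c24 LD2_c50 LD3_c3)) = (LP (LK LD1_c15 LD2_c34 LD3_c60)) :=
  Lgr Lrot48 (Lpr_ff (K23.f347465 IH) (Lpn (LP (LK LD1_c15 LD2_c34 LD3_c60))))
theorem f224851 : Led Lsl_bt (LP (LK LD1_c1 LD2_c17 LD3_c19)) = (LP (LK LD1_c2 LD2_c41 LD3_c18)) :=
  Lre_b IH (LK LD1_c1 LD2_c17 LD3_c19) (LK LD1_c2 LD2_c41 LD3_c18) Lrfl Lrfl
theorem f224852 : Led Lsl_gt (LP (LK LD1_c2 LD2_c41 LD3_c18)) = (LP (LK LD1_c5 LD2_c29 LD3_c60)) :=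
  Lre_g IH (LK LD1_c2 LD2_c41 LD3_c18) (LK LD1_c5 LD2_c29 LD3_c60) Lrfl Lrfl
theorem f234124 : Led Lsl_bt (LP (LK LD1_c10 LD2_c51 LD3_c11)) = (LP (LK LD1_c5 LD2_c29 LD3_c60)) :=
  Lre_b IH (LK LD1_c10 LD2_c51 LD3_c11) (LK LD1_c5 LD2_c29 LD3_c60) Lrfl Lrfl
theorem f234125 : Led Lsl_ct (LP (LK LD1_c10 LD2_c51 LD3_c11)) = (LP (LK LD1_c19 LD2_c37 LD3_c4)) :=
  Lre_c IH (LK LD1_c10 LD2_c51 LD3_c11) (LK LD1_c19 LD2_c37 LD3_c4) Lrfl Lrfl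
theorem f234126 : Led Lsl_gf (LP (LK LD1_c15 LD2_c0 LD3_c54)) = (LP (LK LD1_c19 LD2_c37 LD3_c4)) :=
  Lgr Lrot126 (Lpr_cf (K23.f199697 IH) (Lpr_bt (K23.f199737 IH) (Lpr_gt (K13.f234112 IH) (Lpr_ct (K13.f217109 IH) (Lpr_gt (K12.f168355 IH) (Lpe (K12.f216961 IH) (Lpr_bt (f224851 IH) (Lpr_gt (f224852 IH) (Lpe (f234124 IH) (Lpr_ct (f234125 IH) (Lpn (LP (LK LD1_c19 LD2_c37 LD3_c4)))))))))))))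
theorem f199709 : Led Lsl_bt (LP (LK LD1_c15 LD2_c0 LD3_c56)) = (LP (LK LD1_c24 LD2_c48 LD3_c35)) :=
  Lre_b IH (LK LD1_c15 LD2_c0 LD3_c56) (LK LD1_c24 LD2_c48 LD3_c35) Lrfl Lrfl
theorem f199710 : Led Lsl_ct (LP (LK LD1_c8 LD2_c17 LD3_c13)) = (LP (LK LD1_c4 LD2_c8 LD3_c35)) :=
  Lre_c IH (LK LD1_c8 LD2_c17 LD3_c13) (LK LD1_c4 LD2_c8 LD3_c35) Lrfl Lrfl
theorem f199711 : Led Lsl_bt (LP (LK LD1_c15 LD2_c34 LD3_c61)) = (LP (LK LD1_c8 LD2_c17 LD3_c13)) :=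
  Lre_b IH (LK LD1_c15 LD2_c34 LD3_c61) (LK LD1_c8 LD2_c17 LD3_c13) Lrfl Lrfl
theorem f199712 : Led Lsl_ct (LP (LK LD1_c24 LD2_c48 LD3_c35)) = (LP (LK LD1_c15 LD2_c34 LD3_c61)) :=
  Lgr Lrot83 (Lpe (f199709 IH) (Lpe (K25.f199708 IH) (Lpr_bf (K20.f199701 IH) (Lpe (f199710 IH) (Lpe (f199711 IH) (Lpn (LP (LK LD1_c15 LD2_c34 LD3_c61))))))))
theorem f199717 : Led Lsl_cf (LP (LK LD1_c24 LD2_c48 LD3_c35)) = (LP (LK LD1_c15 LD2_c34 LD3_c61)) :=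
  Lgr Lrot11 (Lpr_ct (f199712 IH) (Lpn (LP (LK LD1_c15 LD2_c34 LD3_c61))))
theorem f199728 : Led Lsl_et (LP (LK LD1_c24 LD2_c48 LD3_c35)) = (LP (LK LD1_c15 LD2_c0 LD3_c54)) :=
  Lre_e IH (LK LD1_c24 LD2_c48 LD3_c35) (LK LD1_c15 LD2_c0 LD3_c54) Lrfl Lrfl
theorem f199729 : Led Lsl_et (LP (LK LD1_c8 LD2_c17 LD3_c12)) = (LP (LK LD1_c15 LD2_c34 LD3_c61)) :=
  Lre_e IH (LK LD1_c8 LD2_c17 LD3_c12) (LK LD1_c15 LD2_c34 LD3_c61) Lrfl Lrfl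
theorem f199730 : Led Lsl_ct (LP (LK LD1_c15 LD2_c0 LD3_c54)) = (LP (LK LD1_c8 LD2_c17 LD3_c12)) :=
  Lgr Lrot15 (Lpe (f199728 IH) (Lpr_cf (f199717 IH) (Lpe (f199729 IH) (Lpn (LP (LK LD1_c8 LD2_c17 LD3_c12))))))
theorem f234103 : Led Lsl_bt (LP (LK LD1_c8 LD2_c6 LD3_c25)) = (LP (LK LD1_c15 LD2_c15 LD3_c53)) :=
  Lre_b IH (LK LD1_c8 LD2_c6 LD3_c25) (LK LD1_c15 LD2_c15 LD3_c53) Lrfl Lrfl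
theorem f234104 : Led Lsl_df (LP (LK LD1_c8 LD2_c17 LD3_c12)) = (LP (LK LD1_c15 LD2_c15 LD3_c53)) :=
  Lgr Lrot12 (Lpr_bt (K23.f199737 IH) (Lpr_dt (K13.f233929 IH) (Lpr_bt (f234103 IH) (Lpn (LP (LK LD1_c15 LD2_c15 LD3_c53))))))
theorem f217023 : Led Lsl_ct (LP (LK LD1_c25 LD2_c5 LD3_c33)) = (LP (LK LD1_c15 LD2_c15 LD3_c53)) :=
  Lre_c IH (LK LD1_c25 LD2_c5 LD3_c33) (LK LD1_c15 LD2_c15 LD3_c53) Lrfl Lrfl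
theorem f217012 : Led Lsl_bt (LP (LK LD1_c15 LD2_c15 LD3_c53)) = (LP (LK LD1_c8 LD2_c6 LD3_c25)) :=
  Lre_b IH (LK LD1_c15 LD2_c15 LD3_c53) (LK LD1_c8 LD2_c6 LD3_c25) Lrfl Lrfl
theorem f217013 : Led Lsl_ct (LP (LK LD1_c15 LD2_c15 LD3_c53)) = (LP (LK LD1_c25 LD2_c5 LD3_c33)) :=
  Lre_c IH (LK LD1_c15 LD2_c15 LD3_c53) (LK LD1_c25 LD2_c5 LD3_c33) Lrfl Lrfl
theorem f217010 : Led Lsl_bt (LP (LK LD1_c2 LD2_c41 LD3_c19)) = (LP (LK LD1_c5 LD2_c30 LD3_c1)) :=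
  Lre_b IH (LK LD1_c2 LD2_c41 LD3_c19) (LK LD1_c5 LD2_c30 LD3_c1) Lrfl Lrfl
theorem f217014 : Led Lsl_gt (LP (LK LD1_c5 LD2_c30 LD3_c1)) = (LP (LK LD1_c10 LD2_c51 LD3_c20)) :=
  Lre_g IH (LK LD1_c5 LD2_c30 LD3_c1) (LK LD1_c10 LD2_c51 LD3_c20) Lrfl Lrfl
theorem f217015 : Led Lsl_bt (LP (LK LD1_c19 LD2_c37 LD3_c25)) = (LP (LK LD1_c10 LD2_c51 LD3_c20)) :=
  Lre_b IH (LK LD1_c19 LD2_c37 LD3_c25) (LK LD1_c10 LD2_c51 LD3_c20) Lrfl Lrfl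
theorem f217016 : Led Lsl_ct (LP (LK LD1_c19 LD2_c37 LD3_c25)) = (LP (LK LD1_c28 LD2_c59 LD3_c9)) :=
  Lre_c IH (LK LD1_c19 LD2_c37 LD3_c25) (LK LD1_c28 LD2_c59 LD3_c9) Lrfl Lrfl
theorem f217017 : Led Lsl_gf (LP (LK LD1_c25 LD2_c5 LD3_c33)) = (LP (LK LD1_c28 LD2_c59 LD3_c9)) :=
  Lgr Lrot126 (Lpe (f217013 IH) (Lpr_bt (f217012 IH) (Lpr_gt (K13.f50518 IH) (Lpr_ct (K12.f50420 IH) (Lpr_gt (K12.f1039 IH) (Lpr_cf (K12.f216982 IH) (Lpr_bt (f217010 IH) (Lpr_gt (f217014 IH) (Lpe (f217015 IH) (Lpr_ct (f217016 IH) (Lpn (LP (LK LD1_c28 LD2_c59 LD3_c9)))))))))))))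
theorem f234128 : Led Lsl_gt (LP (LK LD1_c19 LD2_c37 LD3_c2)) = (LP (LK LD1_c10 LD2_c51 LD3_c11)) :=
  Lre_g IH (LK LD1_c19 LD2_c37 LD3_c2) (LK LD1_c10 LD2_c51 LD3_c11) Lrfl Lrfl
theorem f234132 : Led Lsl_dt (LP (LK LD1_c19 LD2_c37 LD3_c2)) = (LP (LK LD1_c28 LD2_c58 LD3_c45)) :=
  Lre_d IH (LK LD1_c19 LD2_c37 LD3_c2) (LK LD1_c28 LD2_c58 LD3_c45) Lrfl Lrfl
theorem f234133 : Led Lsl_gf (LP (LK LD1_c19 LD2_c37 LD3_c25)) = (LP (LK LD1_c28 LD2_c58 LD3_c45)) :=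
  Lgr Lrot179 (Lpr_ct (f217016 IH) (Lpe (f217017 IH) (Lpr_ct (f217023 IH) (Lpe (f234104 IH) (Lpe (f199730 IH) (Lpr_gf (f234126 IH) (Lpe (f234125 IH) (Lpe (f234128 IH) (Lpr_dt (f234132 IH) (Lpn (LP (LK LD1_c28 LD2_c58 LD3_c45))))))))))))
theorem f234131 : Led Lsl_dt (LP (LK LD1_c28 LD2_c58 LD3_c45)) = (LP (LK LD1_c19 LD2_c37 LD3_c2)) :=
  Lre_d IH (LK LD1_c28 LD2_c58 LD3_c45) (LK LD1_c19 LD2_c37 LD3_c2) Lrfl Lrfl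
theorem f234135 : Led Lsl_df (LP (LK LD1_c15 LD2_c15 LD3_c53)) = (LP (LK LD1_c8 LD2_c17 LD3_c12)) :=
  Lgr Lrot162 (Lpe (f217023 IH) (Lpr_gf (f217017 IH) (Lpe (f217016 IH) (Lpr_gf (f234133 IH) (Lpr_dt (f234131 IH) (Lpr_gt (f234128 IH) (Lpr_ct (f234125 IH) (Lpe (f234126 IH) (Lpr_ct (f199730 IH) (Lpn (LP (LK LD1_c8 LD2_c17 LD3_c12))))))))))))
theorem f234143 : Led Lsl_at (LP (LK LD1_c15 LD2_c15 LD3_c53)) = (LP (LK LD1_c25 LD2_c5 LD3_c32)) :=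
  Lre_a IH (LK LD1_c15 LD2_c15 LD3_c53) (LK LD1_c25 LD2_c5 LD3_c32) Lrfl Lrfl
theorem f234144 : Led Lsl_dt (LP (LK LD1_c25 LD2_c5 LD3_c32)) = (LP (LK LD1_c15 LD2_c34 LD3_c60)) :=
  Lgr Lrot44 (Lpe (f234143 IH) (Lpr_df (f234135 IH) (Lpe (K23.f199739 IH) (Lpn (LP (LK LD1_c15 LD2_c34 LD3_c60))))))
theorem f234150 : Led Lsl_df (LP (LK LD1_c25 LD2_c5 LD3_c32)) = (LP (LK LD1_c15 LD2_c34 LD3_c60)) :=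
  Lgr Lrot38 (Lpr_dt (f234144 IH) (Lpn (LP (LK LD1_c15 LD2_c34 LD3_c60))))
theorem f347480 : Led Lsl_ff (LP (LK LD1_c28 LD2_c19 LD3_c38)) = (LP (LK LD1_c25 LD2_c5 LD3_c32)) :=
  Lgr Lrot19 (Lpr_dt (K23.f234874 IH) (Lpr_ft (f347474 IH) (Lpe (f234150 IH) (Lpn (LP (LK LD1_c25 LD2_c5 LD3_c32))))))
theorem f234881 : Led Lsl_ct (LP (LK LD1_c28 LD2_c19 LD3_c38)) = (LP (LK LD1_c32 LD2_c33 LD3_c41)) :=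
  Lre_c IH (LK LD1_c28 LD2_c19 LD3_c38) (LK LD1_c32 LD2_c33 LD3_c41) Lrfl Lrfl
theorem f234149 : Led Lsl_ct (LP (LK LD1_c31 LD2_c45 LD3_c51)) = (LP (LK LD1_c25 LD2_c5 LD3_c32)) :=
  Lre_c IH (LK LD1_c31 LD2_c45 LD3_c51) (LK LD1_c25 LD2_c5 LD3_c32) Lrfl Lrfl
theorem f347488 : Led Lsl_ft (LP (LK LD1_c32 LD2_c33 LD3_c41)) = (LP (LK LD1_c31 LD2_c45 LD3_c51)) :=
  Lgr Lrot4 (Lpe (f234881 IH) (Lpr_ff (f347480 IH) (Lpe (f234149 IH) (Lpn (LP (LK LD1_c31 LD2_c45 LD3_c51))))))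
theorem f347492 : Led Lsl_ff (LP (LK LD1_c32 LD2_c33 LD3_c41)) = (LP (LK LD1_c31 LD2_c45 LD3_c51)) :=
  Lgr Lrot3 (Lpr_ft (f347488 IH) (Lpn (LP (LK LD1_c31 LD2_c45 LD3_c51))))
theorem f222958 : Led Lsl_at (LP (LK LD1_c32 LD2_c33 LD3_c41)) = (LP (LK LD1_c28 LD2_c19 LD3_c39)) :=
  Lre_a IH (LK LD1_c32 LD2_c33 LD3_c41) (LK LD1_c28 LD2_c19 LD3_c39) Lrfl Lrfl
theorem f234156 : Led Lsl_at (LP (LK LD1_c25 LD2_c5 LD3_c33)) = (LP (LK LD1_c31 LD2_c45 LD3_c51)) :=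
  Lre_a IH (LK LD1_c25 LD2_c5 LD3_c33) (LK LD1_c31 LD2_c45 LD3_c51) Lrfl Lrfl
theorem f347496 : Led Lsl_ft (LP (LK LD1_c28 LD2_c19 LD3_c39)) = (LP (LK LD1_c25 LD2_c5 LD3_c33)) :=
  Lgr Lrot101 (Lpe (f222958 IH) (Lpr_ff (f347492 IH) (Lpe (f234156 IH) (Lpn (LP (LK LD1_c25 LD2_c5 LD3_c33))))))
theorem f222952 : Led Lsl_ct (LP (LK LD1_c28 LD2_c19 LD3_c39)) = (LP (LK LD1_c18 LD2_c51 LD3_c21)) :=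
  Lre_c IH (LK LD1_c28 LD2_c19 LD3_c39) (LK LD1_c18 LD2_c51 LD3_c21) Lrfl Lrfl
theorem f222931 : Led Lsl_bt (LP (LK LD1_c8 LD2_c16 LD3_c28)) = (LP (LK LD1_c15 LD2_c33 LD3_c27)) :=
  Lre_b IH (LK LD1_c8 LD2_c16 LD3_c28) (LK LD1_c15 LD2_c33 LD3_c27) Lrfl Lrfl
theorem f222133 : Led Lsl_ct (LP (LK LD1_c15 LD2_c33 LD3_c27)) = (LP (LK LD1_c25 LD2_c27 LD3_c0)) :=
  Lre_c IH (LK LD1_c15 LD2_c33 LD3_c27) (LK LD1_c25 LD2_c27 LD3_c0) Lrfl Lrfl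
theorem f222953 : Led Lsl_bf (LP (LK LD1_c28 LD2_c19 LD3_c39)) = (LP (LK LD1_c25 LD2_c27 LD3_c0)) :=
  Lgr Lrot90 (Lpr_ct (f222952 IH) (Lpr_bt (K23.f50448 IH) (Lpr_ct (K14.f222925 IH) (Lpr_bt (f222931 IH) (Lpr_ct (f222133 IH) (Lpn (LP (LK LD1_c25 LD2_c27 LD3_c0))))))))
theorem f394315 : Led Lsl_ft (LP (LK LD1_c15 LD2_c37 LD3_c5)) = (LP (LK LD1_c25 LD2_c27 LD3_c0)) :=
  Lgr Lrot75 (Lpr_bf (f394309 IH) (Lpe (f347496 IH) (Lpr_bf (f222953 IH) (Lpn (LP (LK LD1_c25 LD2_c27 LD3_c0))))))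
theorem f394321 : Led Lsl_ff (LP (LK LD1_c15 LD2_c37 LD3_c5)) = (LP (LK LD1_c25 LD2_c27 LD3_c0)) :=
  Lgr Lrot3 (Lpr_ft (f394315 IH) (Lpn (LP (LK LD1_c25 LD2_c27 LD3_c0))))
theorem f234343 : Led Lsl_ct (LP (LK LD1_c15 LD2_c37 LD3_c5)) = (LP (LK LD1_c8 LD2_c18 LD3_c17)) :=
  Lre_c IH (LK LD1_c15 LD2_c37 LD3_c5) (LK LD1_c8 LD2_c18 LD3_c17) Lrfl Lrfl
theorem f394323 : Led Lsl_ft (LP (LK LD1_c8 LD2_c18 LD3_c17)) = (LP (LK LD1_c15 LD2_c33 LD3_c27)) :=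
  Lgr Lrot4 (Lpe (f234343 IH) (Lpr_ff (f394321 IH) (Lpe (f222133 IH) (Lpn (LP (LK LD1_c15 LD2_c33 LD3_c27))))))
theorem f394328 : Led Lsl_at (LP (LK LD1_c15 LD2_c37 LD3_c1)) = (LP (LK LD1_c8 LD2_c18 LD3_c17)) :=
  Lre_a IH (LK LD1_c15 LD2_c37 LD3_c1) (LK LD1_c8 LD2_c18 LD3_c17) Lrfl Lrfl
theorem f394254 : Led Lsl_at (LP (LK LD1_c15 LD2_c33 LD3_c27)) = (LP (LK LD1_c25 LD2_c26 LD3_c60)) :=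
  Lre_a IH (LK LD1_c15 LD2_c33 LD3_c27) (LK LD1_c25 LD2_c26 LD3_c60) Lrfl Lrfl
theorem f394329 : Led Lsl_ff (LP (LK LD1_c15 LD2_c37 LD3_c1)) = (LP (LK LD1_c25 LD2_c26 LD3_c60)) :=
  Lgr Lrot30 (Lpr_at (f394328 IH) (Lpr_ft (f394323 IH) (Lpr_at (f394254 IH) (Lpn (LP (LK LD1_c25 LD2_c26 LD3_c60))))))
theorem f394343 : Led Lsl_ft (LP (LK LD1_c15 LD2_c37 LD3_c1)) = (LP (LK LD1_c25 LD2_c26 LD3_c60)) :=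
  Lgr Lrot48 (Lpr_ff (f394329 IH) (Lpn (LP (LK LD1_c25 LD2_c26 LD3_c60))))
theorem f394326 : Led Lsl_dt (LP (LK LD1_c8 LD2_c18 LD3_c16)) = (LP (LK LD1_c15 LD2_c37 LD3_c1)) :=
  Lre_d IH (LK LD1_c8 LD2_c18 LD3_c16) (LK LD1_c15 LD2_c37 LD3_c1) Lrfl Lrfl
theorem f394270 : Led Lsl_dt (LP (LK LD1_c25 LD2_c26 LD3_c60)) = (LP (LK LD1_c15 LD2_c33 LD3_c26)) :=
  Lre_d IH (LK LD1_c25 LD2_c26 LD3_c60) (LK LD1_c15 LD2_c33 LD3_c26) Lrfl Lrfl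
theorem f394348 : Led Lsl_ff (LP (LK LD1_c8 LD2_c18 LD3_c16)) = (LP (LK LD1_c15 LD2_c33 LD3_c26)) :=
  Lgr Lrot19 (Lpr_dt (f394326 IH) (Lpr_ft (f394343 IH) (Lpr_dt (f394270 IH) (Lpn (LP (LK LD1_c15 LD2_c33 LD3_c26))))))
theorem f51445 : Led Lsl_bt (LP (LK LD1_c2 LD2_c1 LD3_c56)) = (LP (LK LD1_c4 LD2_c9 LD3_c7)) :=
  Lre_b IH (LK LD1_c2 LD2_c1 LD3_c56) (LK LD1_c4 LD2_c9 LD3_c7) Lrfl Lrfl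
theorem f328470 : Led Lsl_at (LP (LK LD1_c4 LD2_c9 LD3_c7)) = (LP (LK LD1_c8 LD2_c18 LD3_c16)) :=
  Lre_a IH (LK LD1_c4 LD2_c9 LD3_c7) (LK LD1_c8 LD2_c18 LD3_c16) Lrfl Lrfl
theorem f223066 : Led Lsl_bt (LP (LK LD1_c8 LD2_c16 LD3_c32)) = (LP (LK LD1_c4 LD2_c8 LD3_c15)) :=
  Lre_b IH (LK LD1_c8 LD2_c16 LD3_c32) (LK LD1_c4 LD2_c8 LD3_c15) Lrfl Lrfl
theorem f236055 : Led Lsl_at (LP (LK LD1_c15 LD2_c33 LD3_c38)) = (LP (LK LD1_c8 LD2_c16 LD3_c32)) :=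
  Lre_a IH (LK LD1_c15 LD2_c33 LD3_c38) (LK LD1_c8 LD2_c16 LD3_c32) Lrfl Lrfl
theorem f328471 : Led Lsl_bt (LP (LK LD1_c8 LD2_c18 LD3_c16)) = (LP (LK LD1_c15 LD2_c33 LD3_c38)) :=
  Lgr Lrot62 (Lpe (f328470 IH) (Lpe (f51445 IH) (Lpr_af (K21.f328451 IH) (Lpe (f223066 IH) (Lpe (f236055 IH) (Lpn (LP (LK LD1_c15 LD2_c33 LD3_c38))))))))
theorem f222720 : Led Lsl_bt (LP (LK LD1_c8 LD2_c17 LD3_c39)) = (LP (LK LD1_c15 LD2_c35 LD3_c41)) :=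
  Lre_b IH (LK LD1_c8 LD2_c17 LD3_c39) (LK LD1_c15 LD2_c35 LD3_c41) Lrfl Lrfl
theorem f347548 : Led Lsl_at (LP (LK LD1_c15 LD2_c35 LD3_c41)) = (LP (LK LD1_c25 LD2_c29 LD3_c59)) :=
  Lre_a IH (LK LD1_c15 LD2_c35 LD3_c41) (LK LD1_c25 LD2_c29 LD3_c59) Lrfl Lrfl
theorem f222950 : Led Lsl_bt (LP (LK LD1_c25 LD2_c27 LD3_c1)) = (LP (LK LD1_c15 LD2_c33 LD3_c29)) :=
  Lre_b IH (LK LD1_c25 LD2_c27 LD3_c1) (LK LD1_c15 LD2_c33 LD3_c29) Lrfl Lrfl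
theorem f347549 : Led Lsl_at (LP (LK LD1_c31 LD2_c54 LD3_c4)) = (LP (LK LD1_c25 LD2_c27 LD3_c1)) :=
  Lre_a IH (LK LD1_c31 LD2_c54 LD3_c4) (LK LD1_c25 LD2_c27 LD3_c1) Lrfl Lrfl
theorem f347550 : Led Lsl_bt (LP (LK LD1_c25 LD2_c29 LD3_c59)) = (LP (LK LD1_c31 LD2_c54 LD3_c4)) :=
  Lgr Lrot62 (Lpe (f347548 IH) (Lpe (f222720 IH) (Lpr_af (K23.f347540 IH) (Lpe (f222950 IH) (Lpe (f347549 IH) (Lpn (LP (LK LD1_c31 LD2_c54 LD3_c4))))))))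
theorem f394249 : Led Lsl_et (LP (LK LD1_c15 LD2_c35 LD3_c36)) = (LP (LK LD1_c25 LD2_c29 LD3_c59)) :=
  Lre_e IH (LK LD1_c15 LD2_c35 LD3_c36) (LK LD1_c25 LD2_c29 LD3_c59) Lrfl Lrfl
theorem f394250 : Led Lsl_et (LP (LK LD1_c31 LD2_c54 LD3_c4)) = (LP (LK LD1_c25 LD2_c26 LD3_c60)) :=
  Lre_e IH (LK LD1_c31 LD2_c54 LD3_c4) (LK LD1_c25 LD2_c26 LD3_c60) Lrfl Lrfl
theorem f394251 : Led Lsl_bf (LP (LK LD1_c15 LD2_c35 LD3_c36)) = (LP (LK LD1_c25 LD2_c26 LD3_c60)) :=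
  Lgr Lrot96 (Lpr_et (f394249 IH) (Lpr_bt (f347550 IH) (Lpr_et (f394250 IH) (Lpn (LP (LK LD1_c25 LD2_c26 LD3_c60))))))
theorem f394258 : Led Lsl_dt (LP (LK LD1_c15 LD2_c35 LD3_c36)) = (LP (LK LD1_c8 LD2_c17 LD3_c34)) :=
  Lre_d IH (LK LD1_c15 LD2_c35 LD3_c36) (LK LD1_c8 LD2_c17 LD3_c34) Lrfl Lrfl
theorem f394259 : Led Lsl_dt (LP (LK LD1_c15 LD2_c33 LD3_c26)) = (LP (LK LD1_c25 LD2_c26 LD3_c60)) :=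
  Lre_d IH (LK LD1_c15 LD2_c33 LD3_c26) (LK LD1_c25 LD2_c26 LD3_c60) Lrfl Lrfl
theorem f394260 : Led Lsl_bt (LP (LK LD1_c8 LD2_c17 LD3_c34)) = (LP (LK LD1_c15 LD2_c33 LD3_c26)) :=
  Lgr Lrot95 (Lpe (f394258 IH) (Lpr_bf (f394251 IH) (Lpe (f394259 IH) (Lpn (LP (LK LD1_c15 LD2_c33 LD3_c26))))))
theorem f394354 : Led Lsl_ft (LP (LK LD1_c15 LD2_c33 LD3_c38)) = (LP (LK LD1_c8 LD2_c17 LD3_c34)) :=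
  Lgr Lrot75 (Lpe (f328471 IH) (Lpr_ff (f394348 IH) (Lpe (f394260 IH) (Lpn (LP (LK LD1_c8 LD2_c17 LD3_c34))))))
theorem f236094 : Led Lsl_dt (LP (LK LD1_c15 LD2_c33 LD3_c38)) = (LP (LK LD1_c25 LD2_c27 LD3_c14)) :=
  Lre_d IH (LK LD1_c15 LD2_c33 LD3_c38) (LK LD1_c25 LD2_c27 LD3_c14) Lrfl Lrfl
theorem f328504 : Led Lsl_at (LP (LK LD1_c8 LD2_c17 LD3_c34)) = (LP (LK LD1_c4 LD2_c8 LD3_c44)) :=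
  Lre_a IH (LK LD1_c8 LD2_c17 LD3_c34) (LK LD1_c4 LD2_c8 LD3_c44) Lrfl Lrfl
theorem f263836 : Led Lsl_dt (LP (LK LD1_c15 LD2_c34 LD3_c47)) = (LP (LK LD1_c8 LD2_c17 LD3_c2)) :=
  Lre_d IH (LK LD1_c15 LD2_c34 LD3_c47) (LK LD1_c8 LD2_c17 LD3_c2) Lrfl Lrfl
theorem f233389 : Led Lsl_ct (LP (LK LD1_c25 LD2_c28 LD3_c54)) = (LP (LK LD1_c15 LD2_c34 LD3_c47)) :=
  Lre_c IH (LK LD1_c25 LD2_c28 LD3_c54) (LK LD1_c15 LD2_c34 LD3_c47) Lrfl Lrfl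
theorem f233388 : Led Lsl_bt (LP (LK LD1_c15 LD2_c34 LD3_c47)) = (LP (LK LD1_c8 LD2_c17 LD3_c3)) :=
  Lre_b IH (LK LD1_c15 LD2_c34 LD3_c47) (LK LD1_c8 LD2_c17 LD3_c3) Lrfl Lrfl
theorem f167281 : Led Lsl_ct (LP (LK LD1_c8 LD2_c32 LD3_c4)) = (LP (LK LD1_c4 LD2_c16 LD3_c25)) :=
  Lre_c IH (LK LD1_c8 LD2_c32 LD3_c4) (LK LD1_c4 LD2_c16 LD3_c25) Lrfl Lrfl
theorem f167282 : Led Lsl_bf (LP (LK LD1_c8 LD2_c32 LD3_c4)) = (LP (LK LD1_c4 LD2_c50 LD3_c56)) :=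
  Lgr Lrot90 (Lpr_ct (f167281 IH) (Lpr_bt (K27.f53407 IH) (Lpr_ct (K17.f53410 IH) (Lpr_bt (K9.f167277 IH) (Lpr_ct (K13.f33320 IH) (Lpn (LP (LK LD1_c4 LD2_c50 LD3_c56))))))))
theorem f53409 : Led Lsl_gt (LP (LK LD1_c8 LD2_c32 LD3_c4)) = (LP (LK LD1_c16 LD2_c1 LD3_c22)) :=
  Lre_g IH (LK LD1_c8 LD2_c32 LD3_c4) (LK LD1_c16 LD2_c1 LD3_c22) Lrfl Lrfl
theorem f236356 : Led Lsl_df (LP (LK LD1_c25 LD2_c28 LD3_c54)) = (LP (LK LD1_c16 LD2_c1 LD3_c22)) :=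
  Lgr Lrot183 (Lpr_ct (f233389 IH) (Lpr_bt (f233388 IH) (Lpr_gt (K13.f233382 IH) (Lpr_dt (K0.f1718 IH) (Lpr_ct (K0.f1717 IH) (Lpr_bt (K9.f2858 IH) (Lpr_gt (K9.f2214 IH) (Lpe (K9.f166466 IH) (Lpr_ct (K13.f51578 IH) (Lpr_bt (K19.f192343 IH) (Lpr_gt (K9.f179015 IH) (Lpr_dt (K9.f6848 IH) (Lpe (K11.f201331 IH) (Lpr_bt (K13.f179115 IH) (Lpr_gt (K13.f236354 IH) (Lpe (K0.f33316 IH) (Lpr_ct (K13.f33320 IH) (Lpe (f167282 IH) (Lpr_gt (f53409 IH) (Lpn (LP (LK LD1_c16 LD2_c1 LD3_c22))))))))))))))))))))))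
theorem f1106 : Led Lsl_bt (LP (LK LD1_c0 LD2_c27 LD3_c21)) = (LP (LK LD1_c1 LD2_c0 LD3_c14)) :=
  Lre_b IH (LK LD1_c0 LD2_c27 LD3_c21) (LK LD1_c1 LD2_c0 LD3_c14) Lrfl Lrfl
theorem f1216 : Led Lsl_gt (LP (LK LD1_c1 LD2_c0 LD3_c14)) = (LP (LK LD1_c2 LD2_c6 LD3_c30)) :=
  Lre_g IH (LK LD1_c1 LD2_c0 LD3_c14) (LK LD1_c2 LD2_c6 LD3_c30) Lrfl Lrfl
theorem f52131 : Led Lsl_bt (LP (LK LD1_c4 LD2_c18 LD3_c23)) = (LP (LK LD1_c2 LD2_c6 LD3_c30)) :=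
  Lre_b IH (LK LD1_c4 LD2_c18 LD3_c23) (LK LD1_c2 LD2_c6 LD3_c30) Lrfl Lrfl
theorem f52134 : Led Lsl_ct (LP (LK LD1_c4 LD2_c18 LD3_c23)) = (LP (LK LD1_c8 LD2_c35 LD3_c34)) :=
  Lre_c IH (LK LD1_c4 LD2_c18 LD3_c23) (LK LD1_c8 LD2_c35 LD3_c34) Lrfl Lrfl
theorem f2284 : Led Lsl_ct (LP (LK LD1_c2 LD2_c24 LD3_c3)) = (LP (LK LD1_c4 LD2_c51 LD3_c59)) :=
  Lre_c IH (LK LD1_c2 LD2_c24 LD3_c3) (LK LD1_c4 LD2_c51 LD3_c59) Lrfl Lrfl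
theorem f170114 : Led Lsl_gt (LP (LK LD1_c8 LD2_c35 LD3_c34)) = (LP (LK LD1_c4 LD2_c51 LD3_c59)) :=
  Lgr Lrot65 (Lpe (f52134 IH) (Lpr_bt (f52131 IH) (Lpe (f1216 IH) (Lpe (f1106 IH) (Lpr_ct (K9.f1120 IH) (Lpe (K9.f522 IH) (Lpe (K9.f51626 IH) (Lpr_gf (K9.f170069 IH) (Lpe (K20.f2221 IH) (Lpr_ct (f2284 IH) (Lpn (LP (LK LD1_c4 LD2_c51 LD3_c59)))))))))))))
theorem f170123 : Led Lsl_bt (LP (LK LD1_c16 LD2_c6 LD3_c54)) = (LP (LK LD1_c8 LD2_c35 LD3_c34)) :=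
  Lre_b IH (LK LD1_c16 LD2_c6 LD3_c54) (LK LD1_c8 LD2_c35 LD3_c34) Lrfl Lrfl
theorem f170125 : Led Lsl_ct (LP (LK LD1_c16 LD2_c6 LD3_c54)) = (LP (LK LD1_c8 LD2_c35 LD3_c38)) :=
  Lre_c IH (LK LD1_c16 LD2_c6 LD3_c54) (LK LD1_c8 LD2_c35 LD3_c38) Lrfl Lrfl
theorem f52136 : Led Lsl_gt (LP (LK LD1_c16 LD2_c6 LD3_c60)) = (LP (LK LD1_c8 LD2_c35 LD3_c38)) :=
  Lre_g IH (LK LD1_c16 LD2_c6 LD3_c60) (LK LD1_c8 LD2_c35 LD3_c38) Lrfl Lrfl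
theorem f170126 : Led Lsl_bt (LP (LK LD1_c2 LD2_c23 LD3_c47)) = (LP (LK LD1_c4 LD2_c51 LD3_c59)) :=
  Lre_b IH (LK LD1_c2 LD2_c23 LD3_c47) (LK LD1_c4 LD2_c51 LD3_c59) Lrfl Lrfl
theorem f170127 : Led Lsl_cf (LP (LK LD1_c16 LD2_c6 LD3_c60)) = (LP (LK LD1_c16 LD2_c1 LD3_c22)) :=
  Lgr Lrot125 (Lpr_gt (f52136 IH) (Lpe (f170125 IH) (Lpr_bt (f170123 IH) (Lpr_gt (f170114 IH) (Lpe (f170126 IH) (Lpr_ct (K0.f1717 IH) (Lpr_gt (K0.f1573 IH) (Lpe (K13.f1761 IH) (Lpe (f167282 IH) (Lpr_gt (f53409 IH) (Lpn (LP (LK LD1_c16 LD2_c1 LD3_c22)))))))))))))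
theorem f170130 : Led Lsl_ct (LP (LK LD1_c16 LD2_c6 LD3_c60)) = (LP (LK LD1_c16 LD2_c1 LD3_c22)) :=
  Lgr Lrot59 (Lpr_cf (f170127 IH) (Lpn (LP (LK LD1_c16 LD2_c1 LD3_c22))))
theorem f170133 : Led Lsl_dt (LP (LK LD1_c26 LD2_c3 LD3_c46)) = (LP (LK LD1_c16 LD2_c6 LD3_c60)) :=
  Lre_d IH (LK LD1_c26 LD2_c3 LD3_c46) (LK LD1_c16 LD2_c6 LD3_c60) Lrfl Lrfl
theorem f394379 : Led Lsl_ct (LP (LK LD1_c25 LD2_c27 LD3_c14)) = (LP (LK LD1_c26 LD2_c3 LD3_c46)) :=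
  Lgr Lrot133 (Lpe (f236094 IH) (Lpr_ft (f394354 IH) (Lpr_at (f328504 IH) (Lpe (K27.f220078 IH) (Lpe (f263836 IH) (Lpe (f233389 IH) (Lpr_df (f236356 IH) (Lpe (f170130 IH) (Lpe (f170133 IH) (Lpn (LP (LK LD1_c26 LD2_c3 LD3_c46))))))))))))
theorem f394381 : Led Lsl_at (LP (LK LD1_c15 LD2_c33 LD3_c39)) = (LP (LK LD1_c25 LD2_c27 LD3_c14)) :=
  Lre_a IH (LK LD1_c15 LD2_c33 LD3_c39) (LK LD1_c25 LD2_c27 LD3_c14) Lrfl Lrfl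
theorem f222976 : Led Lsl_ct (LP (LK LD1_c25 LD2_c27 LD3_c17)) = (LP (LK LD1_c15 LD2_c33 LD3_c39)) :=
  Lre_c IH (LK LD1_c25 LD2_c27 LD3_c17) (LK LD1_c15 LD2_c33 LD3_c39) Lrfl Lrfl
theorem f394382 : Led Lsl_af (LP (LK LD1_c25 LD2_c27 LD3_c17)) = (LP (LK LD1_c26 LD2_c3 LD3_c46)) :=
  Lgr Lrot68 (Lpr_ct (f222976 IH) (Lpr_at (f394381 IH) (Lpr_ct (f394379 IH) (Lpn (LP (LK LD1_c26 LD2_c3 LD3_c46))))))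
theorem f170132 : Led Lsl_dt (LP (LK LD1_c16 LD2_c6 LD3_c60)) = (LP (LK LD1_c26 LD2_c3 LD3_c46)) :=
  Lre_d IH (LK LD1_c16 LD2_c6 LD3_c60) (LK LD1_c26 LD2_c3 LD3_c46) Lrfl Lrfl
theorem f396995 : Led Lsl_at (LP (LK LD1_c17 LD2_c39 LD3_c5)) = (LP (LK LD1_c16 LD2_c6 LD3_c60)) :=
  Lgr Lrot51 (Lpr_df (f396942 IH) (Lpr_af (f394382 IH) (Lpe (f170132 IH) (Lpn (LP (LK LD1_c16 LD2_c6 LD3_c60))))))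
theorem f171149 : Led Lsl_ct (LP (LK LD1_c9 LD2_c35 LD3_c9)) = (LP (LK LD1_c17 LD2_c39 LD3_c5)) :=
  Lre_c IH (LK LD1_c9 LD2_c35 LD3_c9) (LK LD1_c17 LD2_c39 LD3_c5) Lrfl Lrfl
theorem f396999 : Led Lsl_af (LP (LK LD1_c9 LD2_c35 LD3_c9)) = (LP (LK LD1_c16 LD2_c1 LD3_c22)) :=
  Lgr Lrot68 (Lpr_ct (f171149 IH) (Lpr_at (f396995 IH) (Lpr_ct (f170130 IH) (Lpn (LP (LK LD1_c16 LD2_c1 LD3_c22))))))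
theorem f372974 : Led Lsl_gt (LP (LK LD1_c16 LD2_c1 LD3_c19)) = (LP (LK LD1_c9 LD2_c35 LD3_c9)) :=
  Lgr Lrot5 (Lpr_ft (K27.f372966 IH) (Lpr_at (K27.f171099 IH) (Lpe (f171111 IH) (Lpn (LP (LK LD1_c9 LD2_c35 LD3_c9))))))
theorem f171116 : Led Lsl_gt (LP (LK LD1_c15 LD2_c57 LD3_c30)) = (LP (LK LD1_c8 LD2_c29 LD3_c58)) :=
  Lre_g IH (LK LD1_c15 LD2_c57 LD3_c30) (LK LD1_c8 LD2_c29 LD3_c58) Lrfl Lrfl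
theorem f373003 : Led Lsl_gt (LP (LK LD1_c8 LD2_c32 LD3_c3)) = (LP (LK LD1_c15 LD2_c57 LD3_c30)) :=
  Lgr Lrot5 (Lpr_ft (K27.f372979 IH) (Lpr_at (K27.f171106 IH) (Lpe (f171116 IH) (Lpn (LP (LK LD1_c15 LD2_c57 LD3_c30))))))
theorem f171117 : Led Lsl_ct (LP (LK LD1_c25 LD2_c53 LD3_c57)) = (LP (LK LD1_c15 LD2_c57 LD3_c30)) :=
  Lre_c IH (LK LD1_c25 LD2_c53 LD3_c57) (LK LD1_c15 LD2_c57 LD3_c30) Lrfl Lrfl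
theorem f184781 : Led Lsl_bt (LP (LK LD1_c4 LD2_c21 LD3_c23)) = (LP (LK LD1_c8 LD2_c40 LD3_c20)) :=
  Lre_b IH (LK LD1_c4 LD2_c21 LD3_c23) (LK LD1_c8 LD2_c40 LD3_c20) Lrfl Lrfl
theorem f184782 : Led Lsl_gt (LP (LK LD1_c8 LD2_c40 LD3_c20)) = (LP (LK LD1_c16 LD2_c14 LD3_c26)) :=
  Lre_g IH (LK LD1_c8 LD2_c40 LD3_c20) (LK LD1_c16 LD2_c14 LD3_c26) Lrfl Lrfl
theorem f233411 : Led Lsl_bf (LP (LK LD1_c16 LD2_c14 LD3_c26)) = (LP (LK LD1_c25 LD2_c53 LD3_c57)) :=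
  Lgr Lrot34 (Lpe (f184782 IH) (Lpe (f184781 IH) (Lpr_ct (K13.f184779 IH) (Lpr_gf (K14.f233406 IH) (Lpe (K11.f186991 IH) (Lpe (K11.f171039 IH) (Lpe (f171042 IH) (Lpe (K27.f171089 IH) (Lpe (f171116 IH) (Lpe (f171117 IH) (Lpn (LP (LK LD1_c25 LD2_c53 LD3_c57)))))))))))))
theorem f372477 : Led Lsl_ft (LP (LK LD1_c8 LD2_c40 LD3_c21)) = (LP (LK LD1_c4 LD2_c51 LD3_c50)) :=
  Lgr Lrot4 (Lpr_cf (K13.f233705 IH) (Lpr_ff (K27.f372471 IH) (Lpr_cf (K27.f233088 IH) (Lpn (LP (LK LD1_c4 LD2_c51 LD3_c50))))))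
theorem f233957 : Led Lsl_bt (LP (LK LD1_c16 LD2_c14 LD3_c29)) = (LP (LK LD1_c8 LD2_c40 LD3_c21)) :=
  Lre_b IH (LK LD1_c16 LD2_c14 LD3_c29) (LK LD1_c8 LD2_c40 LD3_c21) Lrfl Lrfl
theorem f233100 : Led Lsl_bt (LP (LK LD1_c4 LD2_c51 LD3_c50)) = (LP (LK LD1_c9 LD2_c35 LD3_c49)) :=
  Lre_b IH (LK LD1_c4 LD2_c51 LD3_c50) (LK LD1_c9 LD2_c35 LD3_c49) Lrfl Lrfl
theorem f372484 : Led Lsl_ff (LP (LK LD1_c16 LD2_c14 LD3_c29)) = (LP (LK LD1_c9 LD2_c35 LD3_c49)) :=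
  Lgr Lrot25 (Lpr_bt (f233957 IH) (Lpr_ft (f372477 IH) (Lpr_bt (f233100 IH) (Lpn (LP (LK LD1_c9 LD2_c35 LD3_c49))))))
theorem f372490 : Led Lsl_dt (LP (LK LD1_c16 LD2_c14 LD3_c29)) = (LP (LK LD1_c8 LD2_c40 LD3_c20)) :=
  Lre_d IH (LK LD1_c16 LD2_c14 LD3_c29) (LK LD1_c8 LD2_c40 LD3_c20) Lrfl Lrfl
theorem f219516 : Led Lsl_dt (LP (LK LD1_c4 LD2_c51 LD3_c49)) = (LP (LK LD1_c9 LD2_c35 LD3_c49)) :=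
  Lre_d IH (LK LD1_c4 LD2_c51 LD3_c49) (LK LD1_c9 LD2_c35 LD3_c49) Lrfl Lrfl
theorem f372491 : Led Lsl_ft (LP (LK LD1_c8 LD2_c40 LD3_c20)) = (LP (LK LD1_c4 LD2_c51 LD3_c49)) :=
  Lgr Lrot54 (Lpe (f372490 IH) (Lpr_ff (f372484 IH) (Lpe (f219516 IH) (Lpn (LP (LK LD1_c4 LD2_c51 LD3_c49))))))
theorem f219518 : Led Lsl_at (LP (LK LD1_c4 LD2_c51 LD3_c49)) = (LP (LK LD1_c9 LD2_c35 LD3_c48)) :=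
  Lre_a IH (LK LD1_c4 LD2_c51 LD3_c49) (LK LD1_c9 LD2_c35 LD3_c48) Lrfl Lrfl
theorem f372539 : Led Lsl_gt (LP (LK LD1_c16 LD2_c14 LD3_c26)) = (LP (LK LD1_c9 LD2_c35 LD3_c48)) :=
  Lgr Lrot46 (Lpe (f184782 IH) (Lpr_ft (f372491 IH) (Lpr_at (f219518 IH) (Lpn (LP (LK LD1_c9 LD2_c35 LD3_c48))))))
theorem f369523 : Led Lsl_af (LP (LK LD1_c8 LD2_c18 LD3_c33)) = (LP (LK LD1_c4 LD2_c51 LD3_c50)) :=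
  Lgr Lrot68 (Lpe (K13.f233337 IH) (Lpr_at (K27.f369518 IH) (Lpr_ct (K15.f233084 IH) (Lpn (LP (LK LD1_c4 LD2_c51 LD3_c50))))))
theorem f238211 : Led Lsl_cf (LP (LK LD1_c4 LD2_c51 LD3_c34)) = (LP (LK LD1_c4 LD2_c51 LD3_c53)) :=
  Lgr Lrot55 (Lpr_dt (K13.f200111 IH) (Lpr_ct (K13.f1931 IH) (Lpe (K13.f238068 IH) (Lpr_ct (K13.f238207 IH) (Lpr_dt (K13.f235684 IH) (Lpe (K12.f186923 IH) (Lpr_dt (K15.f2794 IH) (Lpe (K27.f233088 IH) (Lpr_dt (K15.f232906 IH) (Lpr_ct (K13.f2043 IH) (Lpr_dt (K25.f236439 IH) (Lpe (K14.f236435 IH) (Lpe (K13.f232368 IH) (Lpr_ct (K13.f232396 IH) (Lpr_dt (K27.f2040 IH) (Lpn (LP (LK LD1_c4 LD2_c51 LD3_c53))))))))))))))))))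
theorem f369515 : Led Lsl_ft (LP (LK LD1_c8 LD2_c18 LD3_c33)) = (LP (LK LD1_c4 LD2_c51 LD3_c53)) :=
  Lgr Lrot4 (Lpe (K13.f233341 IH) (Lpr_ff (K27.f369504 IH) (Lpr_cf (f238211 IH) (Lpn (LP (LK LD1_c4 LD2_c51 LD3_c53))))))
theorem f372482 : Led Lsl_af (LP (LK LD1_c8 LD2_c40 LD3_c21)) = (LP (LK LD1_c4 LD2_c51 LD3_c53)) :=
  Lgr Lrot45 (Lpr_ft (f372477 IH) (Lpe (f369523 IH) (Lpr_ft (f369515 IH) (Lpn (LP (LK LD1_c4 LD2_c51 LD3_c53))))))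
theorem f233709 : Led Lsl_bt (LP (LK LD1_c8 LD2_c40 LD3_c21)) = (LP (LK LD1_c16 LD2_c14 LD3_c29)) :=
  Lre_b IH (LK LD1_c8 LD2_c40 LD3_c21) (LK LD1_c16 LD2_c14 LD3_c29) Lrfl Lrfl
theorem f372486 : Led Lsl_at (LP (LK LD1_c16 LD2_c14 LD3_c29)) = (LP (LK LD1_c26 LD2_c11 LD3_c34)) :=
  Lre_a IH (LK LD1_c16 LD2_c14 LD3_c29) (LK LD1_c26 LD2_c11 LD3_c34) Lrfl Lrfl
theorem f235713 : Led Lsl_bt (LP (LK LD1_c9 LD2_c35 LD3_c58)) = (LP (LK LD1_c4 LD2_c51 LD3_c53)) :=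
  Lre_b IH (LK LD1_c9 LD2_c35 LD3_c58) (LK LD1_c4 LD2_c51 LD3_c53) Lrfl Lrfl
theorem f372546 : Led Lsl_at (LP (LK LD1_c17 LD2_c40 LD3_c21)) = (LP (LK LD1_c9 LD2_c35 LD3_c58)) :=
  Lre_a IH (LK LD1_c17 LD2_c40 LD3_c21) (LK LD1_c9 LD2_c35 LD3_c58) Lrfl Lrfl
theorem f372547 : Led Lsl_bt (LP (LK LD1_c26 LD2_c11 LD3_c34)) = (LP (LK LD1_c17 LD2_c40 LD3_c21)) :=
  Lgr Lrot62 (Lpe (f372486 IH) (Lpe (f233709 IH) (Lpr_af (f372482 IH) (Lpe (f235713 IH) (Lpe (f372546 IH) (Lpn (LP (LK LD1_c17 LD2_c40 LD3_c21))))))))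
theorem f372559 : Led Lsl_bf (LP (LK LD1_c26 LD2_c11 LD3_c34)) = (LP (LK LD1_c17 LD2_c40 LD3_c21)) :=
  Lgr Lrot24 (Lpr_bt (f372547 IH) (Lpn (LP (LK LD1_c17 LD2_c40 LD3_c21))))
theorem f372487 : Led Lsl_at (LP (LK LD1_c17 LD2_c40 LD3_c4)) = (LP (LK LD1_c9 LD2_c35 LD3_c49)) :=
  Lre_a IH (LK LD1_c17 LD2_c40 LD3_c4) (LK LD1_c9 LD2_c35 LD3_c49) Lrfl Lrfl
theorem f372488 : Led Lsl_ft (LP (LK LD1_c26 LD2_c11 LD3_c34)) = (LP (LK LD1_c17 LD2_c40 LD3_c4)) :=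
  Lgr Lrot101 (Lpe (f372486 IH) (Lpr_ff (f372484 IH) (Lpe (f372487 IH) (Lpn (LP (LK LD1_c17 LD2_c40 LD3_c4))))))
theorem f233340 : Led Lsl_bt (LP (LK LD1_c15 LD2_c37 LD3_c42)) = (LP (LK LD1_c8 LD2_c18 LD3_c33)) :=
  Lre_b IH (LK LD1_c15 LD2_c37 LD3_c42) (LK LD1_c8 LD2_c18 LD3_c33) Lrfl Lrfl
theorem f369536 : Led Lsl_at (LP (LK LD1_c25 LD2_c32 LD3_c42)) = (LP (LK LD1_c15 LD2_c37 LD3_c42)) :=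
  Lre_a IH (LK LD1_c25 LD2_c32 LD3_c42) (LK LD1_c15 LD2_c37 LD3_c42) Lrfl Lrfl
theorem f369537 : Led Lsl_at (LP (LK LD1_c9 LD2_c35 LD3_c49)) = (LP (LK LD1_c17 LD2_c40 LD3_c4)) :=
  Lre_a IH (LK LD1_c9 LD2_c35 LD3_c49) (LK LD1_c17 LD2_c40 LD3_c4) Lrfl Lrfl
theorem f369538 : Led Lsl_bf (LP (LK LD1_c25 LD2_c32 LD3_c42)) = (LP (LK LD1_c17 LD2_c40 LD3_c4)) :=
  Lgr Lrot81 (Lpr_at (f369536 IH) (Lpr_bt (f233340 IH) (Lpr_at (K27.f369534 IH) (Lpr_bt (f233100 IH) (Lpr_at (f369537 IH) (Lpn (LP (LK LD1_c17 LD2_c40 LD3_c4))))))))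
theorem f372567 : Led Lsl_ft (LP (LK LD1_c25 LD2_c32 LD3_c42)) = (LP (LK LD1_c17 LD2_c40 LD3_c21)) :=
  Lgr Lrot75 (Lpr_bf (f369538 IH) (Lpe (f372488 IH) (Lpr_bf (f372559 IH) (Lpn (LP (LK LD1_c17 LD2_c40 LD3_c21))))))
theorem f372575 : Led Lsl_ff (LP (LK LD1_c25 LD2_c32 LD3_c42)) = (LP (LK LD1_c17 LD2_c40 LD3_c21)) :=
  Lgr Lrot3 (Lpr_ft (f372567 IH) (Lpn (LP (LK LD1_c17 LD2_c40 LD3_c21))))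
theorem f372579 : Led Lsl_dt (LP (LK LD1_c25 LD2_c32 LD3_c42)) = (LP (LK LD1_c15 LD2_c37 LD3_c41)) :=
  Lre_d IH (LK LD1_c25 LD2_c32 LD3_c42) (LK LD1_c15 LD2_c37 LD3_c41) Lrfl Lrfl
theorem f232663 : Led Lsl_dt (LP (LK LD1_c9 LD2_c35 LD3_c57)) = (LP (LK LD1_c17 LD2_c40 LD3_c21)) :=
  Lre_d IH (LK LD1_c9 LD2_c35 LD3_c57) (LK LD1_c17 LD2_c40 LD3_c21) Lrfl Lrfl
theorem f372585 : Led Lsl_ft (LP (LK LD1_c15 LD2_c37 LD3_c41)) = (LP (LK LD1_c9 LD2_c35 LD3_c57)) :=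
  Lgr Lrot54 (Lpe (f372579 IH) (Lpr_ff (f372575 IH) (Lpe (f232663 IH) (Lpn (LP (LK LD1_c9 LD2_c35 LD3_c57))))))
theorem f372501 : Led Lsl_dt (LP (LK LD1_c16 LD2_c14 LD3_c28)) = (LP (LK LD1_c26 LD2_c11 LD3_c34)) :=
  Lre_d IH (LK LD1_c16 LD2_c14 LD3_c28) (LK LD1_c26 LD2_c11 LD3_c34) Lrfl Lrfl
theorem f232656 : Led Lsl_dt (LP (LK LD1_c17 LD2_c40 LD3_c21)) = (LP (LK LD1_c9 LD2_c35 LD3_c57)) :=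
  Lre_d IH (LK LD1_c17 LD2_c40 LD3_c21) (LK LD1_c9 LD2_c35 LD3_c57) Lrfl Lrfl
theorem f372561 : Led Lsl_bf (LP (LK LD1_c16 LD2_c14 LD3_c28)) = (LP (LK LD1_c9 LD2_c35 LD3_c57)) :=
  Lgr Lrot93 (Lpr_dt (f372501 IH) (Lpr_bt (f372547 IH) (Lpr_dt (f232656 IH) (Lpn (LP (LK LD1_c9 LD2_c35 LD3_c57))))))
theorem f372495 : Led Lsl_ft (LP (LK LD1_c16 LD2_c14 LD3_c29)) = (LP (LK LD1_c9 LD2_c35 LD3_c49)) :=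
  Lgr Lrot48 (Lpr_ff (f372484 IH) (Lpn (LP (LK LD1_c9 LD2_c35 LD3_c49))))
theorem f372505 : Led Lsl_dt (LP (LK LD1_c8 LD2_c40 LD3_c20)) = (LP (LK LD1_c16 LD2_c14 LD3_c29)) :=
  Lre_d IH (LK LD1_c8 LD2_c40 LD3_c20) (LK LD1_c16 LD2_c14 LD3_c29) Lrfl Lrfl
theorem f219495 : Led Lsl_dt (LP (LK LD1_c9 LD2_c35 LD3_c49)) = (LP (LK LD1_c4 LD2_c51 LD3_c49)) :=
  Lre_d IH (LK LD1_c9 LD2_c35 LD3_c49) (LK LD1_c4 LD2_c51 LD3_c49) Lrfl Lrfl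
theorem f372506 : Led Lsl_ff (LP (LK LD1_c8 LD2_c40 LD3_c20)) = (LP (LK LD1_c4 LD2_c51 LD3_c49)) :=
  Lgr Lrot19 (Lpr_dt (f372505 IH) (Lpr_ft (f372495 IH) (Lpr_dt (f219495 IH) (Lpn (LP (LK LD1_c4 LD2_c51 LD3_c49))))))
theorem f372512 : Led Lsl_at (LP (LK LD1_c8 LD2_c40 LD3_c20)) = (LP (LK LD1_c16 LD2_c14 LD3_c28)) :=
  Lre_a IH (LK LD1_c8 LD2_c40 LD3_c20) (LK LD1_c16 LD2_c14 LD3_c28) Lrfl Lrfl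
theorem f219489 : Led Lsl_at (LP (LK LD1_c9 LD2_c35 LD3_c48)) = (LP (LK LD1_c4 LD2_c51 LD3_c49)) :=
  Lre_a IH (LK LD1_c9 LD2_c35 LD3_c48) (LK LD1_c4 LD2_c51 LD3_c49) Lrfl Lrfl
theorem f372513 : Led Lsl_ft (LP (LK LD1_c16 LD2_c14 LD3_c28)) = (LP (LK LD1_c9 LD2_c35 LD3_c48)) :=
  Lgr Lrot101 (Lpe (f372512 IH) (Lpr_ff (f372506 IH) (Lpe (f219489 IH) (Lpn (LP (LK LD1_c9 LD2_c35 LD3_c48))))))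
theorem f372590 : Led Lsl_bf (LP (LK LD1_c15 LD2_c37 LD3_c41)) = (LP (LK LD1_c9 LD2_c35 LD3_c48)) :=
  Lgr Lrot61 (Lpr_ft (f372585 IH) (Lpe (f372561 IH) (Lpr_ft (f372513 IH) (Lpn (LP (LK LD1_c9 LD2_c35 LD3_c48))))))
theorem f372711 : Led Lsl_bt (LP (LK LD1_c15 LD2_c37 LD3_c41)) = (LP (LK LD1_c9 LD2_c35 LD3_c48)) :=
  Lgr Lrot127 (Lpr_bf (f372590 IH) (Lpn (LP (LK LD1_c9 LD2_c35 LD3_c48))))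
theorem f372580 : Led Lsl_ct (LP (LK LD1_c15 LD2_c37 LD3_c41)) = (LP (LK LD1_c8 LD2_c18 LD3_c42)) :=
  Lre_c IH (LK LD1_c15 LD2_c37 LD3_c41) (LK LD1_c8 LD2_c18 LD3_c42) Lrfl Lrfl
theorem f366332 : Led Lsl_ct (LP (LK LD1_c8 LD2_c18 LD3_c42)) = (LP (LK LD1_c15 LD2_c37 LD3_c41)) :=
  Lre_c IH (LK LD1_c8 LD2_c18 LD3_c42) (LK LD1_c15 LD2_c37 LD3_c41) Lrfl Lrfl
theorem f232571 : Led Lsl_ct (LP (LK LD1_c14 LD2_c56 LD3_c59)) = (LP (LK LD1_c9 LD2_c36 LD3_c0)) :=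
  Lgr Lrot40 (Lpe (K27.f232362 IH) (Lpr_cf (K27.f232515 IH) (Lpe (K27.f232570 IH) (Lpn (LP (LK LD1_c9 LD2_c36 LD3_c0))))))
theorem f232580 : Led Lsl_cf (LP (LK LD1_c14 LD2_c56 LD3_c59)) = (LP (LK LD1_c9 LD2_c36 LD3_c0)) :=
  Lgr Lrot11 (Lpr_ct (f232571 IH) (Lpn (LP (LK LD1_c9 LD2_c36 LD3_c0))))
theorem f232355 : Led Lsl_bt (LP (LK LD1_c14 LD2_c56 LD3_c59)) = (LP (LK LD1_c8 LD2_c16 LD3_c47)) :=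
  Lgr Lrot127 (Lpr_bf (K13.f232353 IH) (Lpn (LP (LK LD1_c8 LD2_c16 LD3_c47))))
theorem f47711 : Led Lsl_bt (LP (LK LD1_c15 LD2_c34 LD3_c5)) = (LP (LK LD1_c25 LD2_c27 LD3_c46)) :=
  Lre_b IH (LK LD1_c15 LD2_c34 LD3_c5) (LK LD1_c25 LD2_c27 LD3_c46) Lrfl Lrfl
theorem f232582 : Led Lsl_bt (LP (LK LD1_c17 LD2_c40 LD3_c28)) = (LP (LK LD1_c9 LD2_c36 LD3_c0)) :=
  Lre_b IH (LK LD1_c17 LD2_c40 LD3_c28) (LK LD1_c9 LD2_c36 LD3_c0) Lrfl Lrfl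
theorem f232583 : Led Lsl_ct (LP (LK LD1_c25 LD2_c27 LD3_c46)) = (LP (LK LD1_c17 LD2_c40 LD3_c28)) :=
  Lgr Lrot83 (Lpe (f47711 IH) (Lpe (K26.f47706 IH) (Lpe (f232355 IH) (Lpr_cf (f232580 IH) (Lpe (f232582 IH) (Lpn (LP (LK LD1_c17 LD2_c40 LD3_c28))))))))
theorem f232588 : Led Lsl_ft (LP (LK LD1_c15 LD2_c34 LD3_c0)) = (LP (LK LD1_c25 LD2_c27 LD3_c46)) :=
  Lre_f IH (LK LD1_c15 LD2_c34 LD3_c0) (LK LD1_c25 LD2_c27 LD3_c46) Lrfl Lrfl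
theorem f232589 : Led Lsl_ft (LP (LK LD1_c17 LD2_c40 LD3_c28)) = (LP (LK LD1_c9 LD2_c35 LD3_c59)) :=
  Lre_f IH (LK LD1_c17 LD2_c40 LD3_c28) (LK LD1_c9 LD2_c35 LD3_c59) Lrfl Lrfl
theorem f232590 : Led Lsl_cf (LP (LK LD1_c15 LD2_c34 LD3_c0)) = (LP (LK LD1_c9 LD2_c35 LD3_c59)) :=
  Lgr Lrot108 (Lpr_ft (f232588 IH) (Lpr_ct (f232583 IH) (Lpr_ft (f232589 IH) (Lpn (LP (LK LD1_c9 LD2_c35 LD3_c59))))))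
theorem f232602 : Led Lsl_et (LP (LK LD1_c15 LD2_c34 LD3_c0)) = (LP (LK LD1_c8 LD2_c16 LD3_c43)) :=
  Lre_e IH (LK LD1_c15 LD2_c34 LD3_c0) (LK LD1_c8 LD2_c16 LD3_c43) Lrfl Lrfl
theorem f232603 : Led Lsl_et (LP (LK LD1_c4 LD2_c51 LD3_c52)) = (LP (LK LD1_c9 LD2_c35 LD3_c59)) :=
  Lre_e IH (LK LD1_c4 LD2_c51 LD3_c52) (LK LD1_c9 LD2_c35 LD3_c59) Lrfl Lrfl
theorem f232604 : Led Lsl_ct (LP (LK LD1_c8 LD2_c16 LD3_c43)) = (LP (LK LD1_c4 LD2_c51 LD3_c52)) :=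
  Lgr Lrot15 (Lpe (f232602 IH) (Lpr_cf (f232590 IH) (Lpe (f232603 IH) (Lpn (LP (LK LD1_c4 LD2_c51 LD3_c52))))))
theorem f232610 : Led Lsl_at (LP (LK LD1_c15 LD2_c33 LD3_c60)) = (LP (LK LD1_c8 LD2_c16 LD3_c43)) :=
  Lre_a IH (LK LD1_c15 LD2_c33 LD3_c60) (LK LD1_c8 LD2_c16 LD3_c43) Lrfl Lrfl
theorem f232611 : Led Lsl_at (LP (LK LD1_c4 LD2_c51 LD3_c52)) = (LP (LK LD1_c9 LD2_c35 LD3_c57)) :=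
  Lre_a IH (LK LD1_c4 LD2_c51 LD3_c52) (LK LD1_c9 LD2_c35 LD3_c57) Lrfl Lrfl
theorem f232612 : Led Lsl_cf (LP (LK LD1_c15 LD2_c33 LD3_c60)) = (LP (LK LD1_c9 LD2_c35 LD3_c57)) :=
  Lgr Lrot1 (Lpr_at (f232610 IH) (Lpr_ct (f232604 IH) (Lpr_at (f232611 IH) (Lpn (LP (LK LD1_c9 LD2_c35 LD3_c57))))))
theorem f372592 : Led Lsl_ff (LP (LK LD1_c8 LD2_c18 LD3_c42)) = (LP (LK LD1_c15 LD2_c33 LD3_c60)) :=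
  Lgr Lrot23 (Lpr_ct (f366332 IH) (Lpr_ft (f372585 IH) (Lpe (f232612 IH) (Lpn (LP (LK LD1_c15 LD2_c33 LD3_c60))))))
theorem f372607 : Led Lsl_ft (LP (LK LD1_c8 LD2_c18 LD3_c42)) = (LP (LK LD1_c15 LD2_c33 LD3_c60)) :=
  Lgr Lrot48 (Lpr_ff (f372592 IH) (Lpn (LP (LK LD1_c15 LD2_c33 LD3_c60))))
theorem f232620 : Led Lsl_gt (LP (LK LD1_c15 LD2_c33 LD3_c59)) = (LP (LK LD1_c8 LD2_c16 LD3_c43)) :=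
  Lre_g IH (LK LD1_c15 LD2_c33 LD3_c59) (LK LD1_c8 LD2_c16 LD3_c43) Lrfl Lrfl
theorem f372616 : Led Lsl_gt (LP (LK LD1_c8 LD2_c18 LD3_c42)) = (LP (LK LD1_c15 LD2_c33 LD3_c59)) :=
  Lgr Lrot5 (Lpr_ft (f372607 IH) (Lpr_at (f232610 IH) (Lpe (f232620 IH) (Lpn (LP (LK LD1_c15 LD2_c33 LD3_c59))))))
theorem f222125 : Led Lsl_bt (LP (LK LD1_c8 LD2_c16 LD3_c43)) = (LP (LK LD1_c4 LD2_c8 LD3_c20)) :=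
  Lre_b IH (LK LD1_c8 LD2_c16 LD3_c43) (LK LD1_c4 LD2_c8 LD3_c20) Lrfl Lrfl
theorem f232509 : Led Lsl_bt (LP (LK LD1_c2 LD2_c23 LD3_c44)) = (LP (LK LD1_c4 LD2_c51 LD3_c52)) :=
  Lre_b IH (LK LD1_c2 LD2_c23 LD3_c44) (LK LD1_c4 LD2_c51 LD3_c52) Lrfl Lrfl
theorem f232510 : Led Lsl_cf (LP (LK LD1_c8 LD2_c16 LD3_c43)) = (LP (LK LD1_c4 LD2_c51 LD3_c52)) :=
  Lgr Lrot97 (Lpr_bt (f222125 IH) (Lpr_ct (K13.f47549 IH) (Lpe (K13.f232339 IH) (Lpr_ct (K13.f232396 IH) (Lpr_bt (f232509 IH) (Lpn (LP (LK LD1_c4 LD2_c51 LD3_c52))))))))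
theorem f29912 : Led Lsl_bt (LP (LK LD1_c4 LD2_c51 LD3_c52)) = (LP (LK LD1_c2 LD2_c23 LD3_c44)) :=
  Lre_b IH (LK LD1_c4 LD2_c51 LD3_c52) (LK LD1_c2 LD2_c23 LD3_c44) Lrfl Lrfl
theorem f171107 : Led Lsl_gt (LP (LK LD1_c4 LD2_c51 LD3_c33)) = (LP (LK LD1_c9 LD2_c35 LD3_c8)) :=
  Lre_g IH (LK LD1_c4 LD2_c51 LD3_c33) (LK LD1_c9 LD2_c35 LD3_c8) Lrfl Lrfl
theorem f232690 : Led Lsl_bt (LP (LK LD1_c17 LD2_c39 LD3_c1)) = (LP (LK LD1_c9 LD2_c35 LD3_c8)) :=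
  Lre_b IH (LK LD1_c17 LD2_c39 LD3_c1) (LK LD1_c9 LD2_c35 LD3_c8) Lrfl Lrfl
theorem f232691 : Led Lsl_cf (LP (LK LD1_c15 LD2_c33 LD3_c59)) = (LP (LK LD1_c17 LD2_c39 LD3_c1)) :=
  Lgr Lrot160 (Lpr_gt (f232620 IH) (Lpr_cf (f232510 IH) (Lpr_bt (f29912 IH) (Lpr_gt (K13.f1928 IH) (Lpr_ct (K13.f1918 IH) (Lpr_gt (K11.f2792 IH) (Lpe (K13.f1931 IH) (Lpr_bt (K27.f171102 IH) (Lpr_gt (f171107 IH) (Lpe (f232690 IH) (Lpn (LP (LK LD1_c17 LD2_c39 LD3_c1)))))))))))))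
theorem f373005 : Led Lsl_gf (LP (LK LD1_c16 LD2_c1 LD3_c19)) = (LP (LK LD1_c9 LD2_c35 LD3_c8)) :=
  Lgr Lrot181 (Lpr_ct (K27.f369317 IH) (Lpr_gt (f373003 IH) (Lpe (f171117 IH) (Lpe (f233411 IH) (Lpr_gt (f372539 IH) (Lpe (f372711 IH) (Lpr_ct (f372580 IH) (Lpr_gt (f372616 IH) (Lpr_cf (f232691 IH) (Lpr_bt (f232690 IH) (Lpn (LP (LK LD1_c9 LD2_c35 LD3_c8)))))))))))))
theorem f397003 : Led Lsl_ft (LP (LK LD1_c9 LD2_c35 LD3_c8)) = (LP (LK LD1_c16 LD2_c1 LD3_c22)) :=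
  Lgr Lrot2 (Lpe (f373005 IH) (Lpr_gt (f372974 IH) (Lpr_af (f396999 IH) (Lpn (LP (LK LD1_c16 LD2_c1 LD3_c22))))))
theorem f397009 : Led Lsl_ff (LP (LK LD1_c9 LD2_c35 LD3_c8)) = (LP (LK LD1_c16 LD2_c1 LD3_c22)) :=
  Lgr Lrot3 (Lpr_ft (f397003 IH) (Lpn (LP (LK LD1_c16 LD2_c1 LD3_c22))))
theorem f369323 : Led Lsl_ct (LP (LK LD1_c8 LD2_c32 LD3_c3)) = (LP (LK LD1_c16 LD2_c1 LD3_c19)) :=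
  Lre_c IH (LK LD1_c8 LD2_c32 LD3_c3) (LK LD1_c16 LD2_c1 LD3_c19) Lrfl Lrfl
theorem f372968 : Led Lsl_ff (LP (LK LD1_c8 LD2_c32 LD3_c3)) = (LP (LK LD1_c15 LD2_c57 LD3_c31)) :=
  Lgr Lrot23 (Lpr_ct (f369323 IH) (Lpr_ft (K27.f372966 IH) (Lpe (K27.f171119 IH) (Lpn (LP (LK LD1_c15 LD2_c57 LD3_c31))))))
theorem f170134 : Led Lsl_gt (LP (LK LD1_c8 LD2_c32 LD3_c2)) = (LP (LK LD1_c4 LD2_c16 LD3_c25)) :=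
  Lre_g IH (LK LD1_c8 LD2_c32 LD3_c2) (LK LD1_c4 LD2_c16 LD3_c25) Lrfl Lrfl
theorem f374789 : Led Lsl_gf (LP (LK LD1_c8 LD2_c32 LD3_c2)) = (LP (LK LD1_c15 LD2_c57 LD3_c31)) :=
  Lgr Lrot47 (Lpr_gt (f170134 IH) (Lpe (K27.f263845 IH) (Lpr_ff (f372968 IH) (Lpn (LP (LK LD1_c15 LD2_c57 LD3_c31))))))
theorem f170479 : Led Lsl_ct (LP (LK LD1_c16 LD2_c1 LD3_c16)) = (LP (LK LD1_c8 LD2_c32 LD3_c2)) :=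
  Lre_c IH (LK LD1_c16 LD2_c1 LD3_c16) (LK LD1_c8 LD2_c32 LD3_c2) Lrfl Lrfl
theorem f186931 : Led Lsl_bt (LP (LK LD1_c2 LD2_c23 LD3_c43)) = (LP (LK LD1_c4 LD2_c51 LD3_c49)) :=
  Lre_b IH (LK LD1_c2 LD2_c23 LD3_c43) (LK LD1_c4 LD2_c51 LD3_c49) Lrfl Lrfl
theorem f186938 : Led Lsl_gt (LP (LK LD1_c4 LD2_c51 LD3_c49)) = (LP (LK LD1_c9 LD2_c35 LD3_c46)) :=
  Lre_g IH (LK LD1_c4 LD2_c51 LD3_c49) (LK LD1_c9 LD2_c35 LD3_c46) Lrfl Lrfl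
theorem f186961 : Led Lsl_bf (LP (LK LD1_c9 LD2_c35 LD3_c46)) = (LP (LK LD1_c16 LD2_c1 LD3_c16)) :=
  Lgr Lrot34 (Lpe (f186938 IH) (Lpe (f186931 IH) (Lpr_ct (K13.f186932 IH) (Lpe (K12.f29084 IH) (Lpe (K1.f29111 IH) (Lpe (K13.f184371 IH) (Lpe (K27.f170464 IH) (Lpr_ct (f167281 IH) (Lpe (f170134 IH) (Lpe (f170479 IH) (Lpn (LP (LK LD1_c16 LD2_c1 LD3_c16)))))))))))))
theorem f372517 : Led Lsl_gf (LP (LK LD1_c16 LD2_c14 LD3_c28)) = (LP (LK LD1_c9 LD2_c35 LD3_c46)) :=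
  Lgr Lrot76 (Lpe (f372512 IH) (Lpr_ff (f372506 IH) (Lpr_gt (f186938 IH) (Lpn (LP (LK LD1_c9 LD2_c35 LD3_c46))))))
theorem f366331 : Led Lsl_at (LP (LK LD1_c8 LD2_c18 LD3_c42)) = (LP (LK LD1_c4 LD2_c9 LD3_c20)) :=
  Lre_a IH (LK LD1_c8 LD2_c18 LD3_c42) (LK LD1_c4 LD2_c9 LD3_c20) Lrfl Lrfl
theorem f167266 : Led Lsl_gt (LP (LK LD1_c8 LD2_c18 LD3_c41)) = (LP (LK LD1_c4 LD2_c9 LD3_c20)) :=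
  Lre_g IH (LK LD1_c8 LD2_c18 LD3_c41) (LK LD1_c4 LD2_c9 LD3_c20) Lrfl Lrfl
theorem f372609 : Led Lsl_gf (LP (LK LD1_c8 LD2_c18 LD3_c41)) = (LP (LK LD1_c15 LD2_c33 LD3_c60)) :=
  Lgr Lrot47 (Lpr_gt (f167266 IH) (Lpe (f366331 IH) (Lpr_ff (f372592 IH) (Lpn (LP (LK LD1_c15 LD2_c33 LD3_c60))))))
theorem f167267 : Led Lsl_ct (LP (LK LD1_c15 LD2_c37 LD3_c58)) = (LP (LK LD1_c8 LD2_c18 LD3_c41)) :=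
  Lre_c IH (LK LD1_c15 LD2_c37 LD3_c58) (LK LD1_c8 LD2_c18 LD3_c41) Lrfl Lrfl
theorem f167260 : Led Lsl_bt (LP (LK LD1_c8 LD2_c18 LD3_c32)) = (LP (LK LD1_c4 LD2_c9 LD3_c15)) :=
  Lre_b IH (LK LD1_c8 LD2_c18 LD3_c32) (LK LD1_c4 LD2_c9 LD3_c15) Lrfl Lrfl
theorem f167265 : Led Lsl_ct (LP (LK LD1_c8 LD2_c18 LD3_c32)) = (LP (LK LD1_c4 LD2_c9 LD3_c20)) :=
  Lre_c IH (LK LD1_c8 LD2_c18 LD3_c32) (LK LD1_c4 LD2_c9 LD3_c20) Lrfl Lrfl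
theorem f170552 : Led Lsl_bf (LP (LK LD1_c16 LD2_c1 LD3_c22)) = (LP (LK LD1_c15 LD2_c37 LD3_c58)) :=
  Lgr Lrot34 (Lpe (f53409 IH) (Lpr_bf (f167282 IH) (Lpr_ct (K13.f1761 IH) (Lpe (K0.f1573 IH) (Lpe (K0.f1717 IH) (Lpe (K9.f167238 IH) (Lpe (f167260 IH) (Lpr_ct (f167265 IH) (Lpe (f167266 IH) (Lpe (f167267 IH) (Lpn (LP (LK LD1_c15 LD2_c37 LD3_c58)))))))))))))
theorem f374793 : Led Lsl_gt (LP (LK LD1_c16 LD2_c1 LD3_c22)) = (LP (LK LD1_c9 LD2_c35 LD3_c10)) :=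
  Lgr Lrot82 (Lpr_bf (f170552 IH) (Lpr_ct (f167267 IH) (Lpr_gf (f372609 IH) (Lpr_cf (f232612 IH) (Lpe (f372561 IH) (Lpr_gf (f372517 IH) (Lpr_bf (f186961 IH) (Lpr_ct (f170479 IH) (Lpr_gf (f374789 IH) (Lpr_cf (K27.f171119 IH) (Lpn (LP (LK LD1_c9 LD2_c35 LD3_c10)))))))))))))
theorem f170554 : Led Lsl_gt (LP (LK LD1_c16 LD2_c1 LD3_c23)) = (LP (LK LD1_c8 LD2_c32 LD3_c4)) :=
  Lre_g IH (LK LD1_c16 LD2_c1 LD3_c23) (LK LD1_c8 LD2_c32 LD3_c4) Lrfl Lrfl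
theorem f372983 : Led Lsl_gf (LP (LK LD1_c16 LD2_c1 LD3_c23)) = (LP (LK LD1_c9 LD2_c35 LD3_c10)) :=
  Lgr Lrot47 (Lpr_gt (f170554 IH) (Lpe (K27.f170470 IH) (Lpr_ff (K27.f372972 IH) (Lpn (LP (LK LD1_c9 LD2_c35 LD3_c10))))))
theorem f397016 : Led Lsl_at (LP (LK LD1_c9 LD2_c35 LD3_c8)) = (LP (LK LD1_c16 LD2_c1 LD3_c23)) :=
  Lgr Lrot26 (Lpr_ff (f397009 IH) (Lpr_gt (f374793 IH) (Lpe (f372983 IH) (Lpn (LP (LK LD1_c16 LD2_c1 LD3_c23))))))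
theorem f372986 : Led Lsl_ct (LP (LK LD1_c15 LD2_c59 LD3_c40)) = (LP (LK LD1_c16 LD2_c1 LD3_c23)) :=
  Lre_c IH (LK LD1_c15 LD2_c59 LD3_c40) (LK LD1_c16 LD2_c1 LD3_c23) Lrfl Lrfl
theorem f263832 : Led Lsl_dt (LP (LK LD1_c4 LD2_c8 LD3_c44)) = (LP (LK LD1_c8 LD2_c17 LD3_c35)) :=
  Lre_d IH (LK LD1_c4 LD2_c8 LD3_c44) (LK LD1_c8 LD2_c17 LD3_c35) Lrfl Lrfl
theorem f222688 : Led Lsl_ct (LP (LK LD1_c8 LD2_c17 LD3_c35)) = (LP (LK LD1_c15 LD2_c35 LD3_c40)) :=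
  Lre_c IH (LK LD1_c8 LD2_c17 LD3_c35) (LK LD1_c15 LD2_c35 LD3_c40) Lrfl Lrfl
theorem f397018 : Led Lsl_df (LP (LK LD1_c15 LD2_c59 LD3_c40)) = (LP (LK LD1_c15 LD2_c35 LD3_c40)) :=
  Lgr Lrot177 (Lpr_ct (f372986 IH) (Lpe (f397016 IH) (Lpr_ff (f397009 IH) (Lpe (f236356 IH) (Lpr_ct (f233389 IH) (Lpr_dt (f263836 IH) (Lpr_ct (K27.f220078 IH) (Lpr_dt (f263832 IH) (Lpr_ct (f222688 IH) (Lpn (LP (LK LD1_c15 LD2_c35 LD3_c40))))))))))))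
theorem f236092 : Led Lsl_dt (LP (LK LD1_c25 LD2_c27 LD3_c14)) = (LP (LK LD1_c15 LD2_c33 LD3_c38)) :=
  Lre_d IH (LK LD1_c25 LD2_c27 LD3_c14) (LK LD1_c15 LD2_c33 LD3_c38) Lrfl Lrfl
theorem f394269 : Led Lsl_dt (LP (LK LD1_c8 LD2_c17 LD3_c34)) = (LP (LK LD1_c15 LD2_c35 LD3_c36)) :=
  Lre_d IH (LK LD1_c8 LD2_c17 LD3_c34) (LK LD1_c15 LD2_c35 LD3_c36) Lrfl Lrfl
theorem f394371 : Led Lsl_ff (LP (LK LD1_c25 LD2_c27 LD3_c14)) = (LP (LK LD1_c15 LD2_c35 LD3_c36)) :=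
  Lgr Lrot19 (Lpr_dt (f236092 IH) (Lpr_ft (f394354 IH) (Lpr_dt (f394269 IH) (Lpn (LP (LK LD1_c15 LD2_c35 LD3_c36))))))
theorem f394268 : Led Lsl_ct (LP (LK LD1_c25 LD2_c29 LD3_c58)) = (LP (LK LD1_c15 LD2_c35 LD3_c36)) :=
  Lre_c IH (LK LD1_c25 LD2_c29 LD3_c58) (LK LD1_c15 LD2_c35 LD3_c36) Lrfl Lrfl
theorem f394389 : Led Lsl_ff (LP (LK LD1_c25 LD2_c29 LD3_c58)) = (LP (LK LD1_c26 LD2_c3 LD3_c46)) :=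
  Lgr Lrot23 (Lpr_ct (f394268 IH) (Lpe (f394371 IH) (Lpr_ct (f394379 IH) (Lpn (LP (LK LD1_c26 LD2_c3 LD3_c46))))))
theorem f394392 : Led Lsl_ft (LP (LK LD1_c25 LD2_c29 LD3_c58)) = (LP (LK LD1_c26 LD2_c3 LD3_c46)) :=
  Lgr Lrot48 (Lpr_ff (f394389 IH) (Lpn (LP (LK LD1_c26 LD2_c3 LD3_c46))))
theorem f394396 : Led Lsl_at (LP (LK LD1_c15 LD2_c35 LD3_c40)) = (LP (LK LD1_c25 LD2_c29 LD3_c58)) :=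
  Lre_a IH (LK LD1_c15 LD2_c35 LD3_c40) (LK LD1_c25 LD2_c29 LD3_c58) Lrfl Lrfl
theorem f394397 : Led Lsl_ff (LP (LK LD1_c15 LD2_c35 LD3_c40)) = (LP (LK LD1_c25 LD2_c27 LD3_c17)) :=
  Lgr Lrot30 (Lpr_at (f394396 IH) (Lpr_ft (f394392 IH) (Lpe (f394382 IH) (Lpn (LP (LK LD1_c25 LD2_c27 LD3_c17))))))
theorem f397022 : Led Lsl_ft (LP (LK LD1_c15 LD2_c59 LD3_c40)) = (LP (LK LD1_c17 LD2_c39 LD3_c5)) :=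
  Lgr Lrot54 (Lpr_df (f397018 IH) (Lpr_ff (f394397 IH) (Lpe (f396937 IH) (Lpn (LP (LK LD1_c17 LD2_c39 LD3_c5))))))
theorem f397029 : Led Lsl_bt (LP (LK LD1_c8 LD2_c31 LD3_c12)) = (LP (LK LD1_c15 LD2_c59 LD3_c40)) :=
  Lre_b IH (LK LD1_c8 LD2_c31 LD3_c12) (LK LD1_c15 LD2_c59 LD3_c40) Lrfl Lrfl
theorem f397030 : Led Lsl_ff (LP (LK LD1_c8 LD2_c31 LD3_c12)) = (LP (LK LD1_c15 LD2_c57 LD3_c18)) :=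
  Lgr Lrot25 (Lpr_bt (f397029 IH) (Lpr_ft (f397022 IH) (Lpe (f171144 IH) (Lpn (LP (LK LD1_c15 LD2_c57 LD3_c18))))))
theorem f397050 : Led Lsl_at (LP (LK LD1_c8 LD2_c31 LD3_c12)) = (LP (LK LD1_c15 LD2_c57 LD3_c19)) :=
  Lgr Lrot33 (Lpr_ff (f397030 IH) (Lpr_dt (f396917 IH) (Lpe (f396906 IH) (Lpe (K22.f234767 IH) (Lpr_ct (K22.f214020 IH) (Lpe (K22.f224062 IH) (Lpr_ct (K15.f218399 IH) (Lpe (K27.f263787 IH) (Lpe (K27.f229787 IH) (Lpn (LP (LK LD1_c15 LD2_c57 LD3_c19))))))))))))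
theorem f397052 : Led Lsl_af (LP (LK LD1_c8 LD2_c31 LD3_c12)) = (LP (LK LD1_c15 LD2_c57 LD3_c19)) :=
  Lgr Lrot0 (Lpr_at (f397050 IH) (Lpn (LP (LK LD1_c15 LD2_c57 LD3_c19))))
theorem f220559 : Led Lsl_gt (LP (LK LD1_c4 LD2_c16 LD3_c5)) = (LP (LK LD1_c8 LD2_c31 LD3_c12)) :=
  Lre_g IH (LK LD1_c4 LD2_c16 LD3_c5) (LK LD1_c8 LD2_c31 LD3_c12) Lrfl Lrfl
theorem f260561 : Led Lsl_gt (LP (LK LD1_c8 LD2_c31 LD3_c13)) = (LP (LK LD1_c4 LD2_c16 LD3_c5)) :=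
  Lre_g IH (LK LD1_c8 LD2_c31 LD3_c13) (LK LD1_c4 LD2_c16 LD3_c5) Lrfl Lrfl
theorem f397065 : Led Lsl_ft (LP (LK LD1_c8 LD2_c31 LD3_c13)) = (LP (LK LD1_c15 LD2_c57 LD3_c19)) :=
  Lgr Lrot2 (Lpr_gt (f260561 IH) (Lpr_gt (f220559 IH) (Lpr_af (f397052 IH) (Lpn (LP (LK LD1_c15 LD2_c57 LD3_c19))))))
theorem f397071 : Led Lsl_ff (LP (LK LD1_c8 LD2_c31 LD3_c13)) = (LP (LK LD1_c15 LD2_c57 LD3_c19)) :=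
  Lgr Lrot3 (Lpr_ft (f397065 IH) (Lpn (LP (LK LD1_c15 LD2_c57 LD3_c19))))
theorem f260567 : Led Lsl_ct (LP (LK LD1_c8 LD2_c31 LD3_c13)) = (LP (LK LD1_c15 LD2_c59 LD3_c44)) :=
  Lre_c IH (LK LD1_c8 LD2_c31 LD3_c13) (LK LD1_c15 LD2_c59 LD3_c44) Lrfl Lrfl
theorem f397075 : Led Lsl_ft (LP (LK LD1_c15 LD2_c59 LD3_c44)) = (LP (LK LD1_c16 LD2_c17 LD3_c5)) :=
  Lgr Lrot4 (Lpe (f260567 IH) (Lpr_ff (f397071 IH) (Lpr_cf (K27.f229787 IH) (Lpn (LP (LK LD1_c16 LD2_c17 LD3_c5))))))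
theorem f260533 : Led Lsl_at (LP (LK LD1_c4 LD2_c16 LD3_c5)) = (LP (LK LD1_c8 LD2_c31 LD3_c14)) :=
  Lre_a IH (LK LD1_c4 LD2_c16 LD3_c5) (LK LD1_c8 LD2_c31 LD3_c14) Lrfl Lrfl
theorem f260537 : Led Lsl_at (LP (LK LD1_c8 LD2_c41 LD3_c10)) = (LP (LK LD1_c4 LD2_c21 LD3_c47)) :=
  Lre_a IH (LK LD1_c8 LD2_c41 LD3_c10) (LK LD1_c4 LD2_c21 LD3_c47) Lrfl Lrfl
theorem f260538 : Led Lsl_cf (LP (LK LD1_c4 LD2_c16 LD3_c5)) = (LP (LK LD1_c4 LD2_c21 LD3_c47)) :=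
  Lgr Lrot1 (Lpr_at (f260533 IH) (Lpr_ct (K16.f260528 IH) (Lpr_at (f260537 IH) (Lpn (LP (LK LD1_c4 LD2_c21 LD3_c47))))))
theorem f260562 : Led Lsl_ct (LP (LK LD1_c15 LD2_c59 LD3_c44)) = (LP (LK LD1_c8 LD2_c31 LD3_c13)) :=
  Lre_c IH (LK LD1_c15 LD2_c59 LD3_c44) (LK LD1_c8 LD2_c31 LD3_c13) Lrfl Lrfl
theorem f236609 : Led Lsl_bt (LP (LK LD1_c4 LD2_c21 LD3_c47)) = (LP (LK LD1_c2 LD2_c8 LD3_c24)) :=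
  Lre_b IH (LK LD1_c4 LD2_c21 LD3_c47) (LK LD1_c2 LD2_c8 LD3_c24) Lrfl Lrfl
theorem f236607 : Led Lsl_bt (LP (LK LD1_c3 LD2_c57 LD3_c6)) = (LP (LK LD1_c7 LD2_c55 LD3_c53)) :=
  Lre_b IH (LK LD1_c3 LD2_c57 LD3_c6) (LK LD1_c7 LD2_c55 LD3_c53) Lrfl Lrfl
theorem f236610 : Led Lsl_gt (LP (LK LD1_c7 LD2_c55 LD3_c53)) = (LP (LK LD1_c14 LD2_c57 LD3_c40)) :=
  Lre_g IH (LK LD1_c7 LD2_c55 LD3_c53) (LK LD1_c14 LD2_c57 LD3_c40) Lrfl Lrfl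
theorem f260563 : Led Lsl_bt (LP (LK LD1_c15 LD2_c59 LD3_c44)) = (LP (LK LD1_c14 LD2_c57 LD3_c40)) :=
  Lgr Lrot92 (Lpr_ct (f260562 IH) (Lpr_gt (f260561 IH) (Lpr_cf (f260538 IH) (Lpr_bt (f236609 IH) (Lpe (K13.f216822 IH) (Lpr_ct (K1.f2746 IH) (Lpr_gt (K9.f29653 IH) (Lpr_cf (K14.f236600 IH) (Lpr_bt (f236607 IH) (Lpr_gt (f236610 IH) (Lpn (LP (LK LD1_c14 LD2_c57 LD3_c40)))))))))))))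
theorem f260565 : Led Lsl_bf (LP (LK LD1_c15 LD2_c59 LD3_c44)) = (LP (LK LD1_c14 LD2_c57 LD3_c40)) :=
  Lgr Lrot24 (Lpr_bt (f260563 IH) (Lpn (LP (LK LD1_c14 LD2_c57 LD3_c40))))
theorem f397077 : Led Lsl_ff (LP (LK LD1_c14 LD2_c57 LD3_c40)) = (LP (LK LD1_c8 LD2_c41 LD3_c45)) :=
  Lgr Lrot25 (Lpe (f260565 IH) (Lpr_ft (f397075 IH) (Lpr_bt (K27.f229786 IH) (Lpn (LP (LK LD1_c8 LD2_c41 LD3_c45))))))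
theorem f2168 : Led Lsl_bf (LP (LK LD1_c4 LD2_c52 LD3_c40)) = (LP (LK LD1_c2 LD2_c24 LD3_c25)) :=
  Lgr Lrot90 (Lpr_ct (K20.f2165 IH) (Lpr_bt (K0.f2164 IH) (Lpr_ct (K0.f2162 IH) (Lpr_bt (K9.f2166 IH) (Lpr_ct (K12.f2167 IH) (Lpn (LP (LK LD1_c2 LD2_c24 LD3_c25))))))))
theorem f1206 : Led Lsl_bt (LP (LK LD1_c0 LD2_c26 LD3_c30)) = (LP (LK LD1_c0 LD2_c58 LD3_c27)) :=
  Lre_b IH (LK LD1_c0 LD2_c26 LD3_c30) (LK LD1_c0 LD2_c58 LD3_c27) Lrfl Lrfl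
theorem f1113 : Led Lsl_gt (LP (LK LD1_c0 LD2_c58 LD3_c27)) = (LP (LK LD1_c2 LD2_c3 LD3_c5)) :=
  Lre_g IH (LK LD1_c0 LD2_c58 LD3_c27) (LK LD1_c2 LD2_c3 LD3_c5) Lrfl Lrfl
theorem f51797 : Led Lsl_bt (LP (LK LD1_c4 LD2_c11 LD3_c48)) = (LP (LK LD1_c2 LD2_c3 LD3_c5)) :=
  Lre_b IH (LK LD1_c4 LD2_c11 LD3_c48) (LK LD1_c2 LD2_c3 LD3_c5) Lrfl Lrfl
theorem f52219 : Led Lsl_ct (LP (LK LD1_c4 LD2_c11 LD3_c48)) = (LP (LK LD1_c8 LD2_c23 LD3_c13)) :=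
  Lre_c IH (LK LD1_c4 LD2_c11 LD3_c48) (LK LD1_c8 LD2_c23 LD3_c13) Lrfl Lrfl
theorem f2271 : Led Lsl_ct (LP (LK LD1_c2 LD2_c24 LD3_c2)) = (LP (LK LD1_c4 LD2_c52 LD3_c40)) :=
  Lre_c IH (LK LD1_c2 LD2_c24 LD3_c2) (LK LD1_c4 LD2_c52 LD3_c40) Lrfl Lrfl
theorem f170945 : Led Lsl_gt (LP (LK LD1_c8 LD2_c23 LD3_c13)) = (LP (LK LD1_c4 LD2_c52 LD3_c40)) :=
  Lgr Lrot65 (Lpe (f52219 IH) (Lpr_bt (f51797 IH) (Lpe (f1113 IH) (Lpe (f1206 IH) (Lpr_ct (K9.f505 IH) (Lpe (K9.f1391 IH) (Lpe (K9.f51563 IH) (Lpr_gf (K9.f170917 IH) (Lpe (K0.f2164 IH) (Lpr_ct (f2271 IH) (Lpn (LP (LK LD1_c4 LD2_c52 LD3_c40)))))))))))))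
theorem f170957 : Led Lsl_bt (LP (LK LD1_c15 LD2_c46 LD3_c29)) = (LP (LK LD1_c8 LD2_c23 LD3_c13)) :=
  Lre_b IH (LK LD1_c15 LD2_c46 LD3_c29) (LK LD1_c8 LD2_c23 LD3_c13) Lrfl Lrfl
theorem f170961 : Led Lsl_ct (LP (LK LD1_c15 LD2_c46 LD3_c29)) = (LP (LK LD1_c8 LD2_c23 LD3_c17)) :=
  Lre_c IH (LK LD1_c15 LD2_c46 LD3_c29) (LK LD1_c8 LD2_c23 LD3_c17) Lrfl Lrfl
theorem f170962 : Led Lsl_gt (LP (LK LD1_c15 LD2_c46 LD3_c35)) = (LP (LK LD1_c8 LD2_c23 LD3_c17)) :=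
  Lre_g IH (LK LD1_c15 LD2_c46 LD3_c35) (LK LD1_c8 LD2_c23 LD3_c17) Lrfl Lrfl
theorem f236611 : Led Lsl_cf (LP (LK LD1_c15 LD2_c46 LD3_c35)) = (LP (LK LD1_c14 LD2_c57 LD3_c40)) :=
  Lgr Lrot125 (Lpr_gt (f170962 IH) (Lpe (f170961 IH) (Lpr_bt (f170957 IH) (Lpr_gt (f170945 IH) (Lpr_bf (f2168 IH) (Lpr_ct (K1.f2746 IH) (Lpr_gt (K9.f29653 IH) (Lpr_cf (K14.f236600 IH) (Lpr_bt (f236607 IH) (Lpr_gt (f236610 IH) (Lpn (LP (LK LD1_c14 LD2_c57 LD3_c40)))))))))))))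
theorem f229790 : Led Lsl_ct (LP (LK LD1_c16 LD2_c17 LD3_c6)) = (LP (LK LD1_c8 LD2_c41 LD3_c45)) :=
  Lre_c IH (LK LD1_c16 LD2_c17 LD3_c6) (LK LD1_c8 LD2_c41 LD3_c45) Lrfl Lrfl
theorem f397083 : Led Lsl_ft (LP (LK LD1_c15 LD2_c46 LD3_c35)) = (LP (LK LD1_c16 LD2_c17 LD3_c6)) :=
  Lgr Lrot4 (Lpr_cf (f236611 IH) (Lpr_ff (f397077 IH) (Lpe (f229790 IH) (Lpn (LP (LK LD1_c16 LD2_c17 LD3_c6))))))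
theorem f170968 : Led Lsl_gt (LP (LK LD1_c8 LD2_c23 LD3_c17)) = (LP (LK LD1_c15 LD2_c37 LD3_c54)) :=
  Lre_g IH (LK LD1_c8 LD2_c23 LD3_c17) (LK LD1_c15 LD2_c37 LD3_c54) Lrfl Lrfl
theorem f397091 : Led Lsl_af (LP (LK LD1_c15 LD2_c37 LD3_c54)) = (LP (LK LD1_c16 LD2_c17 LD3_c6)) :=
  Lgr Lrot31 (Lpe (f170968 IH) (Lpe (f170962 IH) (Lpr_ft (f397083 IH) (Lpn (LP (LK LD1_c16 LD2_c17 LD3_c6))))))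
theorem f170578 : Led Lsl_bt (LP (LK LD1_c2 LD2_c2 LD3_c7)) = (LP (LK LD1_c4 LD2_c9 LD3_c44)) :=
  Lre_b IH (LK LD1_c2 LD2_c2 LD3_c7) (LK LD1_c4 LD2_c9 LD3_c44) Lrfl Lrfl
theorem f236603 : Led Lsl_ct (LP (LK LD1_c4 LD2_c9 LD3_c44)) = (LP (LK LD1_c7 LD2_c55 LD3_c53)) :=
  Lgr Lrot83 (Lpe (f170578 IH) (Lpr_cf (K9.f167273 IH) (Lpe (K12.f33197 IH) (Lpr_cf (K14.f236600 IH) (Lpe (K16.f39274 IH) (Lpn (LP (LK LD1_c7 LD2_c55 LD3_c53))))))))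
theorem f52211 : Led Lsl_bt (LP (LK LD1_c4 LD2_c9 LD3_c44)) = (LP (LK LD1_c2 LD2_c2 LD3_c7)) :=
  Lre_b IH (LK LD1_c4 LD2_c9 LD3_c44) (LK LD1_c2 LD2_c2 LD3_c7) Lrfl Lrfl
theorem f236249 : Led Lsl_bt (LP (LK LD1_c2 LD2_c1 LD3_c61)) = (LP (LK LD1_c4 LD2_c9 LD3_c20)) :=
  Lre_b IH (LK LD1_c2 LD2_c1 LD3_c61) (LK LD1_c4 LD2_c9 LD3_c20) Lrfl Lrfl
theorem f167275 : Led Lsl_gt (LP (LK LD1_c4 LD2_c9 LD3_c20)) = (LP (LK LD1_c8 LD2_c18 LD3_c40)) :=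
  Lre_g IH (LK LD1_c4 LD2_c9 LD3_c20) (LK LD1_c8 LD2_c18 LD3_c40) Lrfl Lrfl
theorem f236746 : Led Lsl_bt (LP (LK LD1_c15 LD2_c37 LD3_c54)) = (LP (LK LD1_c8 LD2_c18 LD3_c40)) :=
  Lre_b IH (LK LD1_c15 LD2_c37 LD3_c54) (LK LD1_c8 LD2_c18 LD3_c40) Lrfl Lrfl
theorem f236608 : Led Lsl_gt (LP (LK LD1_c14 LD2_c57 LD3_c41)) = (LP (LK LD1_c7 LD2_c55 LD3_c53)) :=
  Lre_g IH (LK LD1_c14 LD2_c57 LD3_c41) (LK LD1_c7 LD2_c55 LD3_c53) Lrfl Lrfl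
theorem f236747 : Led Lsl_ct (LP (LK LD1_c15 LD2_c37 LD3_c54)) = (LP (LK LD1_c14 LD2_c57 LD3_c41)) :=
  Lgr Lrot64 (Lpr_bt (f236746 IH) (Lpe (f167275 IH) (Lpe (f236249 IH) (Lpr_ct (K12.f190861 IH) (Lpe (K9.f1404 IH) (Lpe (K13.f584 IH) (Lpe (K9.f1318 IH) (Lpe (f52211 IH) (Lpr_ct (f236603 IH) (Lpe (f236608 IH) (Lpn (LP (LK LD1_c14 LD2_c57 LD3_c41)))))))))))))
theorem f229795 : Led Lsl_ct (LP (LK LD1_c8 LD2_c41 LD3_c45)) = (LP (LK LD1_c16 LD2_c17 LD3_c6)) :=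
  Lre_c IH (LK LD1_c8 LD2_c41 LD3_c45) (LK LD1_c16 LD2_c17 LD3_c6) Lrfl Lrfl
theorem f397095 : Led Lsl_at (LP (LK LD1_c14 LD2_c57 LD3_c41)) = (LP (LK LD1_c8 LD2_c41 LD3_c45)) :=
  Lgr Lrot107 (Lpe (f236747 IH) (Lpr_af (f397091 IH) (Lpe (f229795 IH) (Lpn (LP (LK LD1_c8 LD2_c41 LD3_c45))))))
theorem f279921 : Led Lsl_gt (LP (LK LD1_c8 LD2_c41 LD3_c46)) = (LP (LK LD1_c4 LD2_c22 LD3_c0)) :=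
  Lre_g IH (LK LD1_c8 LD2_c41 LD3_c46) (LK LD1_c4 LD2_c22 LD3_c0) Lrfl Lrfl
theorem f397099 : Led Lsl_ff (LP (LK LD1_c14 LD2_c57 LD3_c41)) = (LP (LK LD1_c8 LD2_c41 LD3_c46)) :=
  Lgr Lrot52 (Lpr_at (f397095 IH) (Lpe (K15.f200407 IH) (Lpe (f279921 IH) (Lpn (LP (LK LD1_c8 LD2_c41 LD3_c46))))))
theorem f397101 : Led Lsl_at (LP (LK LD1_c14 LD2_c57 LD3_c40)) = (LP (LK LD1_c8 LD2_c41 LD3_c46)) :=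
  Lgr Lrot66 (Lpr_ff (f397077 IH) (Lpe (f397095 IH) (Lpr_ff (f397099 IH) (Lpn (LP (LK LD1_c8 LD2_c41 LD3_c46))))))
theorem f280099 : Led Lsl_gf (LP (LK LD1_c8 LD2_c41 LD3_c46)) = (LP (LK LD1_c14 LD2_c57 LD3_c42)) :=
  Lgr Lrot47 (Lpr_gt (f279921 IH) (Lpe (K16.f279912 IH) (Lpr_ff (K16.f280092 IH) (Lpn (LP (LK LD1_c14 LD2_c57 LD3_c42))))))
theorem f397260 : Led Lsl_gt (LP (LK LD1_c8 LD2_c41 LD3_c45)) = (LP (LK LD1_c14 LD2_c57 LD3_c42)) :=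
  Lgr Lrot5 (Lpe (f397077 IH) (Lpr_at (f397101 IH) (Lpr_gf (f280099 IH) (Lpn (LP (LK LD1_c14 LD2_c57 LD3_c42))))))
theorem f170382 : Led Lsl_gt (LP (LK LD1_c15 LD2_c34 LD3_c9)) = (LP (LK LD1_c8 LD2_c16 LD3_c48)) :=
  Lre_g IH (LK LD1_c15 LD2_c34 LD3_c9) (LK LD1_c8 LD2_c16 LD3_c48) Lrfl Lrfl
theorem f280090 : Led Lsl_gf (LP (LK LD1_c15 LD2_c34 LD3_c9)) = (LP (LK LD1_c8 LD2_c19 LD3_c34)) :=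
  Lgr Lrot47 (Lpr_gt (f170382 IH) (Lpe (K16.f279919 IH) (Lpr_ff (K16.f280083 IH) (Lpn (LP (LK LD1_c8 LD2_c19 LD3_c34))))))
theorem f39009 : Led Lsl_bt (LP (LK LD1_c4 LD2_c22 LD3_c0)) = (LP (LK LD1_c2 LD2_c8 LD3_c29)) :=
  Lre_b IH (LK LD1_c4 LD2_c22 LD3_c0) (LK LD1_c2 LD2_c8 LD3_c29) Lrfl Lrfl
theorem f216792 : Led Lsl_bt (LP (LK LD1_c2 LD2_c8 LD3_c27)) = (LP (LK LD1_c4 LD2_c21 LD3_c56)) :=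
  Lre_b IH (LK LD1_c2 LD2_c8 LD3_c27) (LK LD1_c4 LD2_c21 LD3_c56) Lrfl Lrfl
theorem f216793 : Led Lsl_gt (LP (LK LD1_c4 LD2_c21 LD3_c56)) = (LP (LK LD1_c8 LD2_c41 LD3_c30)) :=
  Lre_g IH (LK LD1_c4 LD2_c21 LD3_c56) (LK LD1_c8 LD2_c41 LD3_c30) Lrfl Lrfl
theorem f279926 : Led Lsl_bt (LP (LK LD1_c16 LD2_c16 LD3_c41)) = (LP (LK LD1_c8 LD2_c41 LD3_c30)) :=
  Lre_b IH (LK LD1_c16 LD2_c16 LD3_c41) (LK LD1_c8 LD2_c41 LD3_c30) Lrfl Lrfl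
theorem f279927 : Led Lsl_ct (LP (LK LD1_c16 LD2_c16 LD3_c41)) = (LP (LK LD1_c15 LD2_c34 LD3_c9)) :=
  Lgr Lrot64 (Lpr_bt (f279926 IH) (Lpe (f216793 IH) (Lpe (f216792 IH) (Lpr_ct (K12.f216700 IH) (Lpe (K12.f216806 IH) (Lpe (K1.f38987 IH) (Lpr_gf (K13.f39001 IH) (Lpe (f39009 IH) (Lpr_ct (K16.f279909 IH) (Lpe (f170382 IH) (Lpn (LP (LK LD1_c15 LD2_c34 LD3_c9)))))))))))))
theorem f219172 : Led Lsl_bt (LP (LK LD1_c8 LD2_c41 LD3_c26)) = (LP (LK LD1_c4 LD2_c21 LD3_c54)) :=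
  Lre_b IH (LK LD1_c8 LD2_c41 LD3_c26) (LK LD1_c4 LD2_c21 LD3_c54) Lrfl Lrfl
theorem f30695 : Led Lsl_bt (LP (LK LD1_c4 LD2_c53 LD3_c3)) = (LP (LK LD1_c2 LD2_c24 LD3_c21)) :=
  Lre_b IH (LK LD1_c4 LD2_c53 LD3_c3) (LK LD1_c2 LD2_c24 LD3_c21) Lrfl Lrfl
theorem f30696 : Led Lsl_ct (LP (LK LD1_c9 LD2_c38 LD3_c2)) = (LP (LK LD1_c4 LD2_c53 LD3_c3)) :=
  Lre_c IH (LK LD1_c9 LD2_c38 LD3_c2) (LK LD1_c4 LD2_c53 LD3_c3) Lrfl Lrfl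
theorem f229268 : Led Lsl_bt (LP (LK LD1_c7 LD2_c55 LD3_c43)) = (LP (LK LD1_c9 LD2_c38 LD3_c2)) :=
  Lgr Lrot128 (Lpe (K13.f43211 IH) (Lpe (K13.f227966 IH) (Lpr_cf (K12.f229262 IH) (Lpe (f30695 IH) (Lpe (f30696 IH) (Lpn (LP (LK LD1_c9 LD2_c38 LD3_c2))))))))
theorem f326085 : Led Lsl_ff (LP (LK LD1_c8 LD2_c41 LD3_c26)) = (LP (LK LD1_c9 LD2_c38 LD3_c2)) :=
  Lgr Lrot25 (Lpr_bt (f219172 IH) (Lpr_ft (K27.f326081 IH) (Lpr_bt (f229268 IH) (Lpn (LP (LK LD1_c9 LD2_c38 LD3_c2))))))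
theorem f219176 : Led Lsl_ct (LP (LK LD1_c8 LD2_c41 LD3_c26)) = (LP (LK LD1_c4 LD2_c21 LD3_c56)) :=
  Lre_c IH (LK LD1_c8 LD2_c41 LD3_c26) (LK LD1_c4 LD2_c21 LD3_c56) Lrfl Lrfl
theorem f30698 : Led Lsl_ct (LP (LK LD1_c4 LD2_c53 LD3_c3)) = (LP (LK LD1_c9 LD2_c38 LD3_c2)) :=
  Lre_c IH (LK LD1_c4 LD2_c53 LD3_c3) (LK LD1_c9 LD2_c38 LD3_c2) Lrfl Lrfl
theorem f326133 : Led Lsl_ft (LP (LK LD1_c4 LD2_c21 LD3_c56)) = (LP (LK LD1_c4 LD2_c53 LD3_c3)) :=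
  Lgr Lrot4 (Lpe (f219176 IH) (Lpr_ff (f326085 IH) (Lpe (f30698 IH) (Lpn (LP (LK LD1_c4 LD2_c53 LD3_c3))))))
theorem f326168 : Led Lsl_at (LP (LK LD1_c4 LD2_c53 LD3_c3)) = (LP (LK LD1_c9 LD2_c38 LD3_c1)) :=
  Lre_a IH (LK LD1_c4 LD2_c53 LD3_c3) (LK LD1_c9 LD2_c38 LD3_c1) Lrfl Lrfl
theorem f326264 : Led Lsl_gt (LP (LK LD1_c8 LD2_c41 LD3_c30)) = (LP (LK LD1_c9 LD2_c38 LD3_c1)) :=
  Lgr Lrot46 (Lpe (f216793 IH) (Lpr_ft (f326133 IH) (Lpr_at (f326168 IH) (Lpn (LP (LK LD1_c9 LD2_c38 LD3_c1))))))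
theorem f326135 : Led Lsl_ft (LP (LK LD1_c8 LD2_c41 LD3_c26)) = (LP (LK LD1_c9 LD2_c38 LD3_c2)) :=
  Lgr Lrot48 (Lpr_ff (f326085 IH) (Lpn (LP (LK LD1_c9 LD2_c38 LD3_c2))))
theorem f216732 : Led Lsl_bt (LP (LK LD1_c4 LD2_c21 LD3_c54)) = (LP (LK LD1_c8 LD2_c41 LD3_c26)) :=
  Lre_b IH (LK LD1_c4 LD2_c21 LD3_c54) (LK LD1_c8 LD2_c41 LD3_c26) Lrfl Lrfl
theorem f326138 : Led Lsl_bf (LP (LK LD1_c7 LD2_c55 LD3_c43)) = (LP (LK LD1_c9 LD2_c38 LD3_c2)) :=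
  Lgr Lrot61 (Lpe (K27.f326077 IH) (Lpr_bt (f216732 IH) (Lpr_ft (f326135 IH) (Lpn (LP (LK LD1_c9 LD2_c38 LD3_c2))))))
theorem f326070 : Led Lsl_af (LP (LK LD1_c4 LD2_c21 LD3_c54)) = (LP (LK LD1_c4 LD2_c16 LD3_c12)) :=
  Lgr Lrot0 (Lpr_at (K23.f326055 IH) (Lpn (LP (LK LD1_c4 LD2_c16 LD3_c12))))
theorem f270755 : Led Lsl_ft (LP (LK LD1_c8 LD2_c12 LD3_c58)) = (LP (LK LD1_c4 LD2_c16 LD3_c12)) :=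
  Lgr Lrot48 (Lpr_ff (K16.f270744 IH) (Lpn (LP (LK LD1_c4 LD2_c16 LD3_c12))))
theorem f326083 : Led Lsl_af (LP (LK LD1_c8 LD2_c12 LD3_c58)) = (LP (LK LD1_c7 LD2_c55 LD3_c43)) :=
  Lgr Lrot45 (Lpr_ft (f270755 IH) (Lpe (f326070 IH) (Lpr_ft (K27.f326081 IH) (Lpn (LP (LK LD1_c7 LD2_c55 LD3_c43))))))
theorem f222006 : Led Lsl_bt (LP (LK LD1_c8 LD2_c12 LD3_c58)) = (LP (LK LD1_c15 LD2_c27 LD3_c14)) :=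
  Lre_b IH (LK LD1_c8 LD2_c12 LD3_c58) (LK LD1_c15 LD2_c27 LD3_c14) Lrfl Lrfl
theorem f222047 : Led Lsl_at (LP (LK LD1_c15 LD2_c27 LD3_c14)) = (LP (LK LD1_c25 LD2_c18 LD3_c56)) :=
  Lre_a IH (LK LD1_c15 LD2_c27 LD3_c14) (LK LD1_c25 LD2_c18 LD3_c56) Lrfl Lrfl
theorem f326132 : Led Lsl_at (LP (LK LD1_c17 LD2_c43 LD3_c44)) = (LP (LK LD1_c9 LD2_c38 LD3_c2)) :=
  Lre_a IH (LK LD1_c17 LD2_c43 LD3_c44) (LK LD1_c9 LD2_c38 LD3_c2) Lrfl Lrfl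
theorem f326200 : Led Lsl_bt (LP (LK LD1_c25 LD2_c18 LD3_c56)) = (LP (LK LD1_c17 LD2_c43 LD3_c44)) :=
  Lgr Lrot62 (Lpe (f222047 IH) (Lpe (f222006 IH) (Lpr_af (f326083 IH) (Lpr_bf (f326138 IH) (Lpe (f326132 IH) (Lpn (LP (LK LD1_c17 LD2_c43 LD3_c44))))))))
theorem f326217 : Led Lsl_bf (LP (LK LD1_c25 LD2_c18 LD3_c56)) = (LP (LK LD1_c17 LD2_c43 LD3_c44)) :=
  Lgr Lrot24 (Lpr_bt (f326200 IH) (Lpn (LP (LK LD1_c17 LD2_c43 LD3_c44))))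
theorem f222032 : Led Lsl_ct (LP (LK LD1_c8 LD2_c29 LD3_c50)) = (LP (LK LD1_c4 LD2_c15 LD3_c28)) :=
  Lre_c IH (LK LD1_c8 LD2_c29 LD3_c50) (LK LD1_c4 LD2_c15 LD3_c28) Lrfl Lrfl
theorem f222033 : Led Lsl_bt (LP (LK LD1_c15 LD2_c57 LD3_c13)) = (LP (LK LD1_c8 LD2_c29 LD3_c50)) :=
  Lre_b IH (LK LD1_c15 LD2_c57 LD3_c13) (LK LD1_c8 LD2_c29 LD3_c50) Lrfl Lrfl
theorem f222029 : Led Lsl_bt (LP (LK LD1_c15 LD2_c27 LD3_c16)) = (LP (LK LD1_c25 LD2_c18 LD3_c57)) :=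
  Lre_b IH (LK LD1_c15 LD2_c27 LD3_c16) (LK LD1_c25 LD2_c18 LD3_c57) Lrfl Lrfl
theorem f222034 : Led Lsl_cf (LP (LK LD1_c15 LD2_c57 LD3_c13)) = (LP (LK LD1_c25 LD2_c18 LD3_c57)) :=
  Lgr Lrot97 (Lpr_bt (f222033 IH) (Lpr_ct (f222032 IH) (Lpr_bt (K20.f222031 IH) (Lpr_ct (K23.f222023 IH) (Lpr_bt (f222029 IH) (Lpn (LP (LK LD1_c25 LD2_c18 LD3_c57))))))))
theorem f222041 : Led Lsl_et (LP (LK LD1_c15 LD2_c57 LD3_c13)) = (LP (LK LD1_c8 LD2_c29 LD3_c48)) :=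
  Lre_e IH (LK LD1_c15 LD2_c57 LD3_c13) (LK LD1_c8 LD2_c29 LD3_c48) Lrfl Lrfl
theorem f222042 : Led Lsl_et (LP (LK LD1_c15 LD2_c27 LD3_c14)) = (LP (LK LD1_c25 LD2_c18 LD3_c57)) :=
  Lre_e IH (LK LD1_c15 LD2_c27 LD3_c14) (LK LD1_c25 LD2_c18 LD3_c57) Lrfl Lrfl
theorem f222043 : Led Lsl_ct (LP (LK LD1_c8 LD2_c29 LD3_c48)) = (LP (LK LD1_c15 LD2_c27 LD3_c14)) :=
  Lgr Lrot15 (Lpe (f222041 IH) (Lpr_cf (f222034 IH) (Lpe (f222042 IH) (Lpn (LP (LK LD1_c15 LD2_c27 LD3_c14))))))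
theorem f222046 : Led Lsl_at (LP (LK LD1_c15 LD2_c57 LD3_c11)) = (LP (LK LD1_c8 LD2_c29 LD3_c48)) :=
  Lre_a IH (LK LD1_c15 LD2_c57 LD3_c11) (LK LD1_c8 LD2_c29 LD3_c48) Lrfl Lrfl
theorem f222048 : Led Lsl_cf (LP (LK LD1_c15 LD2_c57 LD3_c11)) = (LP (LK LD1_c25 LD2_c18 LD3_c56)) :=
  Lgr Lrot1 (Lpr_at (f222046 IH) (Lpr_ct (f222043 IH) (Lpr_at (f222047 IH) (Lpn (LP (LK LD1_c25 LD2_c18 LD3_c56))))))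
theorem f52032 : Led Lsl_bt (LP (LK LD1_c4 LD2_c15 LD3_c27)) = (LP (LK LD1_c8 LD2_c29 LD3_c48)) :=
  Lre_b IH (LK LD1_c4 LD2_c15 LD3_c27) (LK LD1_c8 LD2_c29 LD3_c48) Lrfl Lrfl
theorem f222060 : Led Lsl_at (LP (LK LD1_c8 LD2_c29 LD3_c48)) = (LP (LK LD1_c15 LD2_c57 LD3_c11)) :=
  Lre_a IH (LK LD1_c8 LD2_c29 LD3_c48) (LK LD1_c15 LD2_c57 LD3_c11) Lrfl Lrfl
theorem f260543 : Led Lsl_bt (LP (LK LD1_c4 LD2_c16 LD3_c5)) = (LP (LK LD1_c2 LD2_c5 LD3_c26)) :=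
  Lre_b IH (LK LD1_c4 LD2_c16 LD3_c5) (LK LD1_c2 LD2_c5 LD3_c26) Lrfl Lrfl
theorem f260526 : Led Lsl_at (LP (LK LD1_c8 LD2_c31 LD3_c14)) = (LP (LK LD1_c4 LD2_c16 LD3_c5)) :=
  Lre_a IH (LK LD1_c8 LD2_c31 LD3_c14) (LK LD1_c4 LD2_c16 LD3_c5) Lrfl Lrfl
theorem f270486 : Led Lsl_bt (LP (LK LD1_c15 LD2_c57 LD3_c11)) = (LP (LK LD1_c8 LD2_c31 LD3_c14)) :=
  Lgr Lrot62 (Lpe (f222060 IH) (Lpe (f52032 IH) (Lpr_af (K16.f270482 IH) (Lpe (f260543 IH) (Lpe (f260526 IH) (Lpn (LP (LK LD1_c8 LD2_c31 LD3_c14))))))))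
theorem f326142 : Led Lsl_ct (LP (LK LD1_c9 LD2_c38 LD3_c1)) = (LP (LK LD1_c17 LD2_c43 LD3_c44)) :=
  Lre_c IH (LK LD1_c9 LD2_c38 LD3_c1) (LK LD1_c17 LD2_c43 LD3_c44) Lrfl Lrfl
theorem f326219 : Led Lsl_bt (LP (LK LD1_c8 LD2_c41 LD3_c10)) = (LP (LK LD1_c9 LD2_c38 LD3_c1)) :=
  Lgr Lrot128 (Lpe (K16.f260528 IH) (Lpe (f270486 IH) (Lpr_cf (f222048 IH) (Lpr_bf (f326217 IH) (Lpe (f326142 IH) (Lpn (LP (LK LD1_c9 LD2_c38 LD3_c1))))))))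
theorem f397262 : Led Lsl_gf (LP (LK LD1_c15 LD2_c57 LD3_c19)) = (LP (LK LD1_c8 LD2_c31 LD3_c14)) :=
  Lgr Lrot126 (Lpr_cf (K27.f229787 IH) (Lpr_bt (K27.f229786 IH) (Lpr_gt (f397260 IH) (Lpe (K16.f236715 IH) (Lpe (f280090 IH) (Lpe (f279927 IH) (Lpr_bt (f279926 IH) (Lpr_gt (f326264 IH) (Lpe (f326219 IH) (Lpe (K16.f260518 IH) (Lpn (LP (LK LD1_c8 LD2_c31 LD3_c14)))))))))))))
theorem f397264 : Led Lsl_gt (LP (LK LD1_c15 LD2_c57 LD3_c18)) = (LP (LK LD1_c8 LD2_c31 LD3_c14)) :=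
  Lgr Lrot5 (Lpe (f397030 IH) (Lpr_at (f397050 IH) (Lpr_gf (f397262 IH) (Lpn (LP (LK LD1_c8 LD2_c31 LD3_c14))))))
theorem f52200 : Led Lsl_bt (LP (LK LD1_c8 LD2_c29 LD3_c61)) = (LP (LK LD1_c4 LD2_c15 LD3_c32)) :=
  Lre_b IH (LK LD1_c8 LD2_c29 LD3_c61) (LK LD1_c4 LD2_c15 LD3_c32) Lrfl Lrfl
theorem f365411 : Led Lsl_ff (LP (LK LD1_c8 LD2_c29 LD3_c61)) = (LP (LK LD1_c4 LD2_c16 LD3_c21)) :=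
  Lgr Lrot25 (Lpr_bt (f52200 IH) (Lpr_ft (K26.f365409 IH) (Lpr_bt (K20.f243325 IH) (Lpn (LP (LK LD1_c4 LD2_c16 LD3_c21))))))
theorem f377789 : Led Lsl_gf (LP (LK LD1_c15 LD2_c57 LD3_c36)) = (LP (LK LD1_c8 LD2_c31 LD3_c51)) :=
  Lgr Lrot76 (Lpe (K27.f365402 IH) (Lpr_ff (f365411 IH) (Lpr_gt (K20.f250529 IH) (Lpn (LP (LK LD1_c8 LD2_c31 LD3_c51))))))
theorem f397450 : Led Lsl_gf (LP (LK LD1_c9 LD2_c38 LD3_c9)) = (LP (LK LD1_c8 LD2_c41 LD3_c10)) :=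
  Lgr Lrot129 (Lpe (K20.f250533 IH) (Lpr_bt (K20.f250532 IH) (Lpe (f377789 IH) (Lpe (K27.f369313 IH) (Lpr_ct (f369323 IH) (Lpr_gt (f372974 IH) (Lpe (f171112 IH) (Lpe (f171144 IH) (Lpr_gt (f397264 IH) (Lpr_ct (K16.f260528 IH) (Lpn (LP (LK LD1_c8 LD2_c41 LD3_c10)))))))))))))
theorem f229784 : Led Lsl_dt (LP (LK LD1_c9 LD2_c38 LD3_c9)) = (LP (LK LD1_c17 LD2_c44 LD3_c0)) :=
  Lre_d IH (LK LD1_c9 LD2_c38 LD3_c9) (LK LD1_c17 LD2_c44 LD3_c0) Lrfl Lrfl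
theorem f229791 : Led Lsl_ct (LP (LK LD1_c15 LD2_c57 LD3_c19)) = (LP (LK LD1_c16 LD2_c17 LD3_c5)) :=
  Lgr Lrot59 (Lpr_cf (K27.f229787 IH) (Lpn (LP (LK LD1_c16 LD2_c17 LD3_c5))))
theorem f229443 : Led Lsl_gt (LP (LK LD1_c4 LD2_c53 LD3_c6)) = (LP (LK LD1_c9 LD2_c38 LD3_c8)) :=
  Lre_g IH (LK LD1_c4 LD2_c53 LD3_c6) (LK LD1_c9 LD2_c38 LD3_c8) Lrfl Lrfl
theorem f270433 : Led Lsl_gt (LP (LK LD1_c9 LD2_c38 LD3_c8)) = (LP (LK LD1_c8 LD2_c41 LD3_c10)) :=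
  Lgr Lrot46 (Lpe (f229443 IH) (Lpr_ft (K16.f270415 IH) (Lpr_at (K16.f260527 IH) (Lpn (LP (LK LD1_c8 LD2_c41 LD3_c10))))))
theorem f396926 : Led Lsl_dt (LP (LK LD1_c17 LD2_c43 LD3_c60)) = (LP (LK LD1_c9 LD2_c38 LD3_c8)) :=
  Lre_d IH (LK LD1_c17 LD2_c43 LD3_c60) (LK LD1_c9 LD2_c38 LD3_c8) Lrfl Lrfl
theorem f229719 : Led Lsl_dt (LP (LK LD1_c9 LD2_c38 LD3_c8)) = (LP (LK LD1_c17 LD2_c43 LD3_c60)) :=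
  Lre_d IH (LK LD1_c9 LD2_c38 LD3_c8) (LK LD1_c17 LD2_c43 LD3_c60) Lrfl Lrfl
theorem f197737 : Led Lsl_bt (LP (LK LD1_c4 LD2_c53 LD3_c14)) = (LP (LK LD1_c9 LD2_c38 LD3_c28)) :=
  Lre_b IH (LK LD1_c4 LD2_c53 LD3_c14) (LK LD1_c9 LD2_c38 LD3_c28) Lrfl Lrfl
theorem f224916 : Led Lsl_df (LP (LK LD1_c7 LD2_c55 LD3_c38)) = (LP (LK LD1_c9 LD2_c38 LD3_c28)) :=
  Lgr Lrot12 (Lpr_bt (K15.f197688 IH) (Lpr_dt (K12.f224879 IH) (Lpr_bt (f197737 IH) (Lpn (LP (LK LD1_c9 LD2_c38 LD3_c28))))))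
theorem f42886 : Led Lsl_bt (LP (LK LD1_c3 LD2_c57 LD3_c0)) = (LP (LK LD1_c7 LD2_c55 LD3_c38)) :=
  Lre_b IH (LK LD1_c3 LD2_c57 LD3_c0) (LK LD1_c7 LD2_c55 LD3_c38) Lrfl Lrfl
theorem f197634 : Led Lsl_ct (LP (LK LD1_c7 LD2_c55 LD3_c38)) = (LP (LK LD1_c8 LD2_c29 LD3_c41)) :=
  Lgr Lrot83 (Lpe (f42886 IH) (Lpe (K12.f42883 IH) (Lpr_bf (K13.f197629 IH) (Lpe (K13.f187240 IH) (Lpe (K27.f190850 IH) (Lpn (LP (LK LD1_c8 LD2_c29 LD3_c41))))))))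
theorem f373830 : Led Lsl_ft (LP (LK LD1_c8 LD2_c30 LD3_c28)) = (LP (LK LD1_c15 LD2_c56 LD3_c60)) :=
  Lgr Lrot142 (Lpr_dt (K27.f373822 IH) (Lpr_ct (K27.f373823 IH) (Lpr_dt (K27.f246604 IH) (Lpr_ct (K27.f223765 IH) (Lpr_dt (K18.f246597 IH) (Lpe (K18.f246598 IH) (Lpe (f224916 IH) (Lpr_ct (f197634 IH) (Lpe (K15.f197685 IH) (Lpn (LP (LK LD1_c15 LD2_c56 LD3_c60))))))))))))
theorem f373835 : Led Lsl_ff (LP (LK LD1_c8 LD2_c30 LD3_c28)) = (LP (LK LD1_c15 LD2_c56 LD3_c60)) :=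
  Lgr Lrot3 (Lpr_ft (f373830 IH) (Lpn (LP (LK LD1_c15 LD2_c56 LD3_c60))))
theorem f197703 : Led Lsl_dt (LP (LK LD1_c25 LD2_c53 LD3_c28)) = (LP (LK LD1_c15 LD2_c56 LD3_c60)) :=
  Lre_d IH (LK LD1_c25 LD2_c53 LD3_c28) (LK LD1_c15 LD2_c56 LD3_c60) Lrfl Lrfl
theorem f373844 : Led Lsl_ft (LP (LK LD1_c15 LD2_c58 LD3_c38)) = (LP (LK LD1_c25 LD2_c53 LD3_c28)) :=
  Lgr Lrot54 (Lpe (K27.f373822 IH) (Lpr_ff (f373835 IH) (Lpe (f197703 IH) (Lpn (LP (LK LD1_c25 LD2_c53 LD3_c28))))))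
theorem f373825 : Led Lsl_at (LP (LK LD1_c8 LD2_c30 LD3_c29)) = (LP (LK LD1_c15 LD2_c58 LD3_c38)) :=
  Lre_a IH (LK LD1_c8 LD2_c30 LD3_c29) (LK LD1_c15 LD2_c58 LD3_c38) Lrfl Lrfl
theorem f373850 : Led Lsl_at (LP (LK LD1_c25 LD2_c53 LD3_c28)) = (LP (LK LD1_c15 LD2_c56 LD3_c61)) :=
  Lre_a IH (LK LD1_c25 LD2_c53 LD3_c28) (LK LD1_c15 LD2_c56 LD3_c61) Lrfl Lrfl
theorem f373851 : Led Lsl_ff (LP (LK LD1_c8 LD2_c30 LD3_c29)) = (LP (LK LD1_c15 LD2_c56 LD3_c61)) :=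
  Lgr Lrot30 (Lpr_at (f373825 IH) (Lpr_ft (f373844 IH) (Lpr_at (f373850 IH) (Lpn (LP (LK LD1_c15 LD2_c56 LD3_c61))))))
theorem f373858 : Led Lsl_gf (LP (LK LD1_c15 LD2_c58 LD3_c38)) = (LP (LK LD1_c25 LD2_c53 LD3_c30)) :=
  Lgr Lrot76 (Lpe (f373825 IH) (Lpr_ff (f373851 IH) (Lpr_gt (f245043 IH) (Lpn (LP (LK LD1_c25 LD2_c53 LD3_c30))))))
theorem f243243 : Led Lsl_dt (LP (LK LD1_c15 LD2_c58 LD3_c38)) = (LP (LK LD1_c8 LD2_c30 LD3_c28)) :=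
  Lre_d IH (LK LD1_c15 LD2_c58 LD3_c38) (LK LD1_c8 LD2_c30 LD3_c28) Lrfl Lrfl
theorem f396921 : Led Lsl_gt (LP (LK LD1_c17 LD2_c43 LD3_c60)) = (LP (LK LD1_c16 LD2_c15 LD3_c6)) :=
  Lgr Lrot49 (Lpe (f229719 IH) (Lpe (f229443 IH) (Lpe (K16.f229770 IH) (Lpr_gt (f48252 IH) (Lpr_dt (f396917 IH) (Lpe (f373858 IH) (Lpr_dt (f243243 IH) (Lpr_cf (K27.f243189 IH) (Lpe (K27.f243249 IH) (Lpn (LP (LK LD1_c16 LD2_c15 LD3_c6))))))))))))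
theorem f374480 : Led Lsl_ct (LP (LK LD1_c16 LD2_c15 LD3_c6)) = (LP (LK LD1_c10 LD2_c40 LD3_c25)) :=
  Lgr Lrot59 (Lpr_cf (K27.f374475 IH) (Lpn (LP (LK LD1_c10 LD2_c40 LD3_c25))))
theorem f397268 : Led Lsl_gf (LP (LK LD1_c5 LD2_c25 LD3_c29)) = (LP (LK LD1_c10 LD2_c40 LD3_c25)) :=
  Lgr Lrot104 (Lpr_ct (K15.f218399 IH) (Lpe (K27.f263790 IH) (Lpe (f229791 IH) (Lpr_gf (f397262 IH) (Lpr_cf (K16.f260518 IH) (Lpe (f270433 IH) (Lpe (f396926 IH) (Lpr_gt (f396921 IH) (Lpr_ct (f374480 IH) (Lpn (LP (LK LD1_c10 LD2_c40 LD3_c25))))))))))))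
theorem f224091 : Led Lsl_et (LP (LK LD1_c10 LD2_c42 LD3_c7)) = (LP (LK LD1_c17 LD2_c48 LD3_c60)) :=
  Lgr Lrot87 (Lpr_ef (K22.f224070 IH) (Lpn (LP (LK LD1_c17 LD2_c48 LD3_c60))))
theorem f224098 : Led Lsl_bt (LP (LK LD1_c19 LD2_c22 LD3_c28)) = (LP (LK LD1_c10 LD2_c42 LD3_c7)) :=
  Lre_b IH (LK LD1_c19 LD2_c22 LD3_c28) (LK LD1_c10 LD2_c42 LD3_c7) Lrfl Lrfl
theorem f224099 : Led Lsl_bt (LP (LK LD1_c17 LD2_c48 LD3_c60)) = (LP (LK LD1_c27 LD2_c36 LD3_c2)) :=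
  Lre_b IH (LK LD1_c17 LD2_c48 LD3_c60) (LK LD1_c27 LD2_c36 LD3_c2) Lrfl Lrfl
theorem f224100 : Led Lsl_ef (LP (LK LD1_c19 LD2_c22 LD3_c28)) = (LP (LK LD1_c27 LD2_c36 LD3_c2)) :=
  Lgr Lrot29 (Lpr_bt (f224098 IH) (Lpr_et (f224091 IH) (Lpr_bt (f224099 IH) (Lpn (LP (LK LD1_c27 LD2_c36 LD3_c2))))))
theorem f224112 : Led Lsl_dt (LP (LK LD1_c19 LD2_c22 LD3_c28)) = (LP (LK LD1_c10 LD2_c42 LD3_c5)) :=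
  Lre_d IH (LK LD1_c19 LD2_c22 LD3_c28) (LK LD1_c10 LD2_c42 LD3_c5) Lrfl Lrfl
theorem f224113 : Led Lsl_et (LP (LK LD1_c10 LD2_c42 LD3_c5)) = (LP (LK LD1_c5 LD2_c25 LD3_c29)) :=
  Lre_e IH (LK LD1_c10 LD2_c42 LD3_c5) (LK LD1_c5 LD2_c25 LD3_c29) Lrfl Lrfl
theorem f224114 : Led Lsl_dt (LP (LK LD1_c17 LD2_c48 LD3_c59)) = (LP (LK LD1_c27 LD2_c36 LD3_c2)) :=
  Lre_d IH (LK LD1_c17 LD2_c48 LD3_c59) (LK LD1_c27 LD2_c36 LD3_c2) Lrfl Lrfl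
theorem f224115 : Led Lsl_et (LP (LK LD1_c9 LD2_c41 LD3_c8)) = (LP (LK LD1_c17 LD2_c48 LD3_c59)) :=
  Lre_e IH (LK LD1_c9 LD2_c41 LD3_c8) (LK LD1_c17 LD2_c48 LD3_c59) Lrfl Lrfl
theorem f224116 : Led Lsl_dt (LP (LK LD1_c5 LD2_c25 LD3_c29)) = (LP (LK LD1_c9 LD2_c41 LD3_c8)) :=
  Lgr Lrot77 (Lpe (f224113 IH) (Lpe (f224112 IH) (Lpr_ef (f224100 IH) (Lpe (f224114 IH) (Lpe (f224115 IH) (Lpn (LP (LK LD1_c9 LD2_c41 LD3_c8))))))))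
theorem f229783 : Led Lsl_dt (LP (LK LD1_c17 LD2_c44 LD3_c0)) = (LP (LK LD1_c9 LD2_c38 LD3_c9)) :=
  Lre_d IH (LK LD1_c17 LD2_c44 LD3_c0) (LK LD1_c9 LD2_c38 LD3_c9) Lrfl Lrfl
theorem f397274 : Led Lsl_gf (LP (LK LD1_c17 LD2_c44 LD3_c0)) = (LP (LK LD1_c16 LD2_c15 LD3_c6)) :=
  Lgr Lrot144 (Lpr_dt (f229783 IH) (Lpr_gt (K20.f229439 IH) (Lpr_dt (K16.f229454 IH) (Lpe (K16.f229775 IH) (Lpr_df (K16.f238977 IH) (Lpe (K16.f216308 IH) (Lpe (f224116 IH) (Lpr_gf (f397268 IH) (Lpe (f374480 IH) (Lpn (LP (LK LD1_c16 LD2_c15 LD3_c6))))))))))))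
theorem f397411 : Led Lsl_gt (LP (LK LD1_c17 LD2_c44 LD3_c0)) = (LP (LK LD1_c9 LD2_c38 LD3_c28)) :=
  Lgr Lrot46 (Lpr_gf (f397274 IH) (Lpr_ft (K27.f373770 IH) (Lpr_at (K27.f224977 IH) (Lpn (LP (LK LD1_c9 LD2_c38 LD3_c28))))))
theorem f197689 : Led Lsl_dt (LP (LK LD1_c15 LD2_c56 LD3_c61)) = (LP (LK LD1_c8 LD2_c29 LD3_c41)) :=
  Lre_d IH (LK LD1_c15 LD2_c56 LD3_c61) (LK LD1_c8 LD2_c29 LD3_c41) Lrfl Lrfl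
theorem f197691 : Led Lsl_gt (LP (LK LD1_c25 LD2_c53 LD3_c31)) = (LP (LK LD1_c15 LD2_c56 LD3_c61)) :=
  Lre_g IH (LK LD1_c25 LD2_c53 LD3_c31) (LK LD1_c15 LD2_c56 LD3_c61) Lrfl Lrfl
theorem f398371 : Led Lsl_df (LP (LK LD1_c25 LD2_c53 LD3_c31)) = (LP (LK LD1_c15 LD2_c57 LD3_c19)) :=
  Lgr Lrot153 (Lpr_gt (f197691 IH) (Lpr_dt (f197689 IH) (Lpe (f197634 IH) (Lpr_df (f224916 IH) (Lpe (f397411 IH) (Lpe (f229784 IH) (Lpr_gf (f397450 IH) (Lpe (K16.f260528 IH) (Lpe (f397262 IH) (Lpn (LP (LK LD1_c15 LD2_c57 LD3_c19))))))))))))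
theorem f398386 : Led Lsl_dt (LP (LK LD1_c25 LD2_c53 LD3_c31)) = (LP (LK LD1_c15 LD2_c57 LD3_c19)) :=
  Lgr Lrot42 (Lpr_df (f398371 IH) (Lpn (LP (LK LD1_c15 LD2_c57 LD3_c19))))
theorem f221787 : Led Lsl_ct (LP (LK LD1_c8 LD2_c18 LD3_c7)) = (LP (LK LD1_c15 LD2_c36 LD3_c41)) :=
  Lre_c IH (LK LD1_c8 LD2_c18 LD3_c7) (LK LD1_c15 LD2_c36 LD3_c41) Lrfl Lrfl
theorem f339391 : Led Lsl_cf (LP (LK LD1_c15 LD2_c33 LD3_c19)) = (LP (LK LD1_c9 LD2_c41 LD3_c8)) :=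
  Lgr Lrot108 (Lpe (K22.f339342 IH) (Lpr_ct (f221787 IH) (Lpr_ft (K22.f339383 IH) (Lpn (LP (LK LD1_c9 LD2_c41 LD3_c8))))))
theorem f396911 : Led Lsl_ct (LP (LK LD1_c18 LD2_c51 LD3_c19)) = (LP (LK LD1_c25 LD2_c53 LD3_c30)) :=
  Lgr Lrot59 (Lpr_cf (f396906 IH) (Lpn (LP (LK LD1_c25 LD2_c53 LD3_c30))))
theorem f216724 : Led Lsl_ct (LP (LK LD1_c4 LD2_c21 LD3_c56)) = (LP (LK LD1_c8 LD2_c41 LD3_c26)) :=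
  Lre_c IH (LK LD1_c4 LD2_c21 LD3_c56) (LK LD1_c8 LD2_c41 LD3_c26) Lrfl Lrfl
theorem f326140 : Led Lsl_ff (LP (LK LD1_c4 LD2_c21 LD3_c56)) = (LP (LK LD1_c4 LD2_c53 LD3_c3)) :=
  Lgr Lrot23 (Lpr_ct (f216724 IH) (Lpr_ft (f326135 IH) (Lpr_ct (f30696 IH) (Lpn (LP (LK LD1_c4 LD2_c53 LD3_c3))))))
theorem f326144 : Led Lsl_at (LP (LK LD1_c4 LD2_c21 LD3_c56)) = (LP (LK LD1_c8 LD2_c41 LD3_c32)) :=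
  Lre_a IH (LK LD1_c4 LD2_c21 LD3_c56) (LK LD1_c8 LD2_c41 LD3_c32) Lrfl Lrfl
theorem f326145 : Led Lsl_at (LP (LK LD1_c9 LD2_c38 LD3_c1)) = (LP (LK LD1_c4 LD2_c53 LD3_c3)) :=
  Lre_a IH (LK LD1_c9 LD2_c38 LD3_c1) (LK LD1_c4 LD2_c53 LD3_c3) Lrfl Lrfl
theorem f326146 : Led Lsl_ft (LP (LK LD1_c8 LD2_c41 LD3_c32)) = (LP (LK LD1_c9 LD2_c38 LD3_c1)) :=
  Lgr Lrot101 (Lpe (f326144 IH) (Lpr_ff (f326140 IH) (Lpe (f326145 IH) (Lpn (LP (LK LD1_c9 LD2_c38 LD3_c1))))))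
theorem f326157 : Led Lsl_ff (LP (LK LD1_c8 LD2_c41 LD3_c32)) = (LP (LK LD1_c9 LD2_c38 LD3_c1)) :=
  Lgr Lrot3 (Lpr_ft (f326146 IH) (Lpn (LP (LK LD1_c9 LD2_c38 LD3_c1))))
theorem f326167 : Led Lsl_at (LP (LK LD1_c8 LD2_c41 LD3_c32)) = (LP (LK LD1_c4 LD2_c21 LD3_c56)) :=
  Lre_a IH (LK LD1_c8 LD2_c41 LD3_c32) (LK LD1_c4 LD2_c21 LD3_c56) Lrfl Lrfl
theorem f219177 : Led Lsl_gt (LP (LK LD1_c8 LD2_c41 LD3_c31)) = (LP (LK LD1_c4 LD2_c21 LD3_c56)) :=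
  Lre_g IH (LK LD1_c8 LD2_c41 LD3_c31) (LK LD1_c4 LD2_c21 LD3_c56) Lrfl Lrfl
theorem f326173 : Led Lsl_gf (LP (LK LD1_c8 LD2_c41 LD3_c31)) = (LP (LK LD1_c9 LD2_c38 LD3_c1)) :=
  Lgr Lrot47 (Lpr_gt (f219177 IH) (Lpe (f326167 IH) (Lpr_ff (f326157 IH) (Lpn (LP (LK LD1_c9 LD2_c38 LD3_c1))))))
theorem f270122 : Led Lsl_bt (LP (LK LD1_c16 LD2_c16 LD3_c43)) = (LP (LK LD1_c8 LD2_c41 LD3_c31)) :=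
  Lre_b IH (LK LD1_c16 LD2_c16 LD3_c43) (LK LD1_c8 LD2_c41 LD3_c31) Lrfl Lrfl
theorem f326176 : Led Lsl_ct (LP (LK LD1_c16 LD2_c16 LD3_c43)) = (LP (LK LD1_c16 LD2_c17 LD3_c55)) :=
  Lre_c IH (LK LD1_c16 LD2_c16 LD3_c43) (LK LD1_c16 LD2_c17 LD3_c55) Lrfl Lrfl
theorem f292744 : Led Lsl_gt (LP (LK LD1_c16 LD2_c17 LD3_c55)) = (LP (LK LD1_c8 LD2_c42 LD3_c8)) :=
  Lre_g IH (LK LD1_c16 LD2_c17 LD3_c55) (LK LD1_c8 LD2_c42 LD3_c8) Lrfl Lrfl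
theorem f39714 : Led Lsl_ct (LP (LK LD1_c4 LD2_c22 LD3_c7)) = (LP (LK LD1_c8 LD2_c42 LD3_c8)) :=
  Lre_c IH (LK LD1_c4 LD2_c22 LD3_c7) (LK LD1_c8 LD2_c42 LD3_c8) Lrfl Lrfl
theorem f292739 : Led Lsl_bt (LP (LK LD1_c4 LD2_c22 LD3_c7)) = (LP (LK LD1_c8 LD2_c42 LD3_c7)) :=
  Lre_b IH (LK LD1_c4 LD2_c22 LD3_c7) (LK LD1_c8 LD2_c42 LD3_c7) Lrfl Lrfl
theorem f326177 : Led Lsl_gt (LP (LK LD1_c8 LD2_c42 LD3_c7)) = (LP (LK LD1_c16 LD2_c18 LD3_c3)) :=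
  Lre_g IH (LK LD1_c8 LD2_c42 LD3_c7) (LK LD1_c16 LD2_c18 LD3_c3) Lrfl Lrfl
theorem f397452 : Led Lsl_cf (LP (LK LD1_c15 LD2_c57 LD3_c18)) = (LP (LK LD1_c16 LD2_c18 LD3_c3)) :=
  Lgr Lrot125 (Lpr_gt (f397264 IH) (Lpr_cf (K16.f260518 IH) (Lpr_bt (f326219 IH) (Lpe (f326173 IH) (Lpe (f270122 IH) (Lpr_ct (f326176 IH) (Lpr_gt (f292744 IH) (Lpe (f39714 IH) (Lpr_bt (f292739 IH) (Lpr_gt (f326177 IH) (Lpn (LP (LK LD1_c16 LD2_c18 LD3_c3)))))))))))))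
theorem f397553 : Led Lsl_ct (LP (LK LD1_c15 LD2_c57 LD3_c18)) = (LP (LK LD1_c16 LD2_c18 LD3_c3)) :=
  Lgr Lrot59 (Lpr_cf (f397452 IH) (Lpn (LP (LK LD1_c16 LD2_c18 LD3_c3))))
theorem f397580 : Led Lsl_dt (LP (LK LD1_c16 LD2_c18 LD3_c3)) = (LP (LK LD1_c26 LD2_c15 LD3_c53)) :=
  Lre_d IH (LK LD1_c16 LD2_c18 LD3_c3) (LK LD1_c26 LD2_c15 LD3_c53) Lrfl Lrfl
theorem f229451 : Led Lsl_bt (LP (LK LD1_c7 LD2_c55 LD3_c56)) = (LP (LK LD1_c14 LD2_c57 LD3_c50)) :=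
  Lre_b IH (LK LD1_c7 LD2_c55 LD3_c56) (LK LD1_c14 LD2_c57 LD3_c50) Lrfl Lrfl
theorem f229452 : Led Lsl_gt (LP (LK LD1_c24 LD2_c45 LD3_c16)) = (LP (LK LD1_c14 LD2_c57 LD3_c50)) :=
  Lre_g IH (LK LD1_c24 LD2_c45 LD3_c16) (LK LD1_c14 LD2_c57 LD3_c50) Lrfl Lrfl
theorem f397564 : Led Lsl_bf (LP (LK LD1_c24 LD2_c45 LD3_c16)) = (LP (LK LD1_c16 LD2_c18 LD3_c3)) :=
  Lgr Lrot156 (Lpr_gt (f229452 IH) (Lpe (f229451 IH) (Lpr_ct (K20.f39652 IH) (Lpr_gt (K20.f39653 IH) (Lpr_cf (K20.f229441 IH) (Lpr_bt (K20.f229440 IH) (Lpr_gt (K20.f229439 IH) (Lpe (K16.f229764 IH) (Lpr_gt (f48252 IH) (Lpr_cf (f397452 IH) (Lpn (LP (LK LD1_c16 LD2_c18 LD3_c3)))))))))))))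
theorem f397572 : Led Lsl_dt (LP (LK LD1_c24 LD2_c45 LD3_c16)) = (LP (LK LD1_c31 LD2_c38 LD3_c24)) :=
  Lre_d IH (LK LD1_c24 LD2_c45 LD3_c16) (LK LD1_c31 LD2_c38 LD3_c24) Lrfl Lrfl
theorem f397555 : Led Lsl_dt (LP (LK LD1_c26 LD2_c15 LD3_c53)) = (LP (LK LD1_c16 LD2_c18 LD3_c3)) :=
  Lre_d IH (LK LD1_c26 LD2_c15 LD3_c53) (LK LD1_c16 LD2_c18 LD3_c3) Lrfl Lrfl
theorem f397573 : Led Lsl_bt (LP (LK LD1_c31 LD2_c38 LD3_c24)) = (LP (LK LD1_c26 LD2_c15 LD3_c53)) :=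
  Lgr Lrot95 (Lpe (f397572 IH) (Lpr_bf (f397564 IH) (Lpe (f397555 IH) (Lpn (LP (LK LD1_c26 LD2_c15 LD3_c53))))))
theorem f397575 : Led Lsl_bf (LP (LK LD1_c31 LD2_c38 LD3_c24)) = (LP (LK LD1_c26 LD2_c15 LD3_c53)) :=
  Lgr Lrot24 (Lpr_bt (f397573 IH) (Lpn (LP (LK LD1_c26 LD2_c15 LD3_c53))))
theorem f224138 : Led Lsl_at (LP (LK LD1_c17 LD2_c48 LD3_c58)) = (LP (LK LD1_c9 LD2_c41 LD3_c8)) :=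
  Lre_a IH (LK LD1_c17 LD2_c48 LD3_c58) (LK LD1_c9 LD2_c41 LD3_c8) Lrfl Lrfl
theorem f221777 : Led Lsl_at (LP (LK LD1_c15 LD2_c36 LD3_c41)) = (LP (LK LD1_c25 LD2_c31 LD3_c15)) :=
  Lre_a IH (LK LD1_c15 LD2_c36 LD3_c41) (LK LD1_c25 LD2_c31 LD3_c15) Lrfl Lrfl
theorem f339377 : Led Lsl_ft (LP (LK LD1_c25 LD2_c31 LD3_c15)) = (LP (LK LD1_c17 LD2_c48 LD3_c58)) :=
  Lgr Lrot101 (Lpe (f221777 IH) (Lpr_ff (K22.f339356 IH) (Lpe (f224138 IH) (Lpn (LP (LK LD1_c17 LD2_c48 LD3_c58))))))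
theorem f221776 : Led Lsl_at (LP (LK LD1_c19 LD2_c5 LD3_c19)) = (LP (LK LD1_c10 LD2_c32 LD3_c19)) :=
  Lre_a IH (LK LD1_c19 LD2_c5 LD3_c19) (LK LD1_c10 LD2_c32 LD3_c19) Lrfl Lrfl
theorem f221778 : Led Lsl_df (LP (LK LD1_c19 LD2_c5 LD3_c19)) = (LP (LK LD1_c25 LD2_c31 LD3_c15)) :=
  Lgr Lrot18 (Lpr_at (f221776 IH) (Lpr_dt (K22.f221763 IH) (Lpr_at (f221777 IH) (Lpn (LP (LK LD1_c25 LD2_c31 LD3_c15))))))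
theorem f397558 : Led Lsl_ct (LP (LK LD1_c19 LD2_c5 LD3_c19)) = (LP (LK LD1_c26 LD2_c15 LD3_c53)) :=
  Lgr Lrot133 (Lpr_df (f221778 IH) (Lpr_ft (f339377 IH) (Lpr_at (f224138 IH) (Lpe (K22.f214020 IH) (Lpr_df (K22.f234767 IH) (Lpr_cf (f396906 IH) (Lpe (f396917 IH) (Lpr_cf (f397452 IH) (Lpe (f397555 IH) (Lpn (LP (LK LD1_c26 LD2_c15 LD3_c53))))))))))))
theorem f274254 : Led Lsl_et (LP (LK LD1_c4 LD2_c6 LD3_c36)) = (LP (LK LD1_c8 LD2_c13 LD3_c47)) :=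
  Lre_e IH (LK LD1_c4 LD2_c6 LD3_c36) (LK LD1_c8 LD2_c13 LD3_c47) Lrfl Lrfl
theorem f351623 : Led Lsl_et (LP (LK LD1_c15 LD2_c1 LD3_c43)) = (LP (LK LD1_c11 LD2_c10 LD3_c27)) :=
  Lgr Lrot185 (Lpr_dt (K25.f351621 IH) (Lpr_gf (K25.f351615 IH) (Lpe (K25.f188165 IH) (Lpe (K25.f188164 IH) (Lpe (f274254 IH) (Lpr_dt (K17.f187337 IH) (Lpe (K17.f274325 IH) (Lpr_df (K17.f274311 IH) (Lpe (K21.f301349 IH) (Lpe (K19.f306777 IH) (Lpn (LP (LK LD1_c11 LD2_c10 LD3_c27)))))))))))))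
theorem f351628 : Led Lsl_ef (LP (LK LD1_c15 LD2_c1 LD3_c43)) = (LP (LK LD1_c11 LD2_c10 LD3_c27)) :=
  Lgr Lrot88 (Lpr_et (f351623 IH) (Lpn (LP (LK LD1_c11 LD2_c10 LD3_c27))))
theorem f351611 : Led Lsl_bt (LP (LK LD1_c15 LD2_c1 LD3_c43)) = (LP (LK LD1_c24 LD2_c49 LD3_c46)) :=
  Lre_b IH (LK LD1_c15 LD2_c1 LD3_c43) (LK LD1_c24 LD2_c49 LD3_c46) Lrfl Lrfl
theorem f306747 : Led Lsl_bt (LP (LK LD1_c20 LD2_c5 LD3_c6)) = (LP (LK LD1_c11 LD2_c10 LD3_c27)) :=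
  Lre_b IH (LK LD1_c20 LD2_c5 LD3_c6) (LK LD1_c11 LD2_c10 LD3_c27) Lrfl Lrfl
theorem f351631 : Led Lsl_et (LP (LK LD1_c24 LD2_c49 LD3_c46)) = (LP (LK LD1_c20 LD2_c5 LD3_c6)) :=
  Lgr Lrot74 (Lpe (f351611 IH) (Lpr_ef (f351628 IH) (Lpe (f306747 IH) (Lpn (LP (LK LD1_c20 LD2_c5 LD3_c6))))))
theorem f351637 : Led Lsl_ft (LP (LK LD1_c15 LD2_c1 LD3_c37)) = (LP (LK LD1_c24 LD2_c49 LD3_c46)) :=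
  Lre_f IH (LK LD1_c15 LD2_c1 LD3_c37) (LK LD1_c24 LD2_c49 LD3_c46) Lrfl Lrfl
theorem f351638 : Led Lsl_et (LP (LK LD1_c7 LD2_c57 LD3_c58)) = (LP (LK LD1_c15 LD2_c1 LD3_c37)) :=
  Lre_e IH (LK LD1_c7 LD2_c57 LD3_c58) (LK LD1_c15 LD2_c1 LD3_c37) Lrfl Lrfl
theorem f305726 : Led Lsl_bt (LP (LK LD1_c11 LD2_c10 LD3_c27)) = (LP (LK LD1_c20 LD2_c5 LD3_c6)) :=
  Lre_b IH (LK LD1_c11 LD2_c10 LD3_c27) (LK LD1_c20 LD2_c5 LD3_c6) Lrfl Lrfl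
theorem f171951 : Led Lsl_bt (LP (LK LD1_c24 LD2_c48 LD3_c38)) = (LP (LK LD1_c15 LD2_c0 LD3_c59)) :=
  Lre_b IH (LK LD1_c24 LD2_c48 LD3_c38) (LK LD1_c15 LD2_c0 LD3_c59) Lrfl Lrfl
theorem f347343 : Led Lsl_ft (LP (LK LD1_c20 LD2_c5 LD3_c6)) = (LP (LK LD1_c24 LD2_c48 LD3_c38)) :=
  Lgr Lrot75 (Lpe (f305726 IH) (Lpr_ff (K23.f347341 IH) (Lpe (f171951 IH) (Lpn (LP (LK LD1_c24 LD2_c48 LD3_c38))))))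
theorem f171959 : Led Lsl_et (LP (LK LD1_c24 LD2_c48 LD3_c38)) = (LP (LK LD1_c15 LD2_c0 LD3_c57)) :=
  Lre_e IH (LK LD1_c24 LD2_c48 LD3_c38) (LK LD1_c15 LD2_c0 LD3_c57) Lrfl Lrfl
theorem f351639 : Led Lsl_ff (LP (LK LD1_c7 LD2_c57 LD3_c58)) = (LP (LK LD1_c15 LD2_c0 LD3_c57)) :=
  Lgr Lrot72 (Lpr_et (f351638 IH) (Lpr_ft (f351637 IH) (Lpr_et (f351631 IH) (Lpr_ft (f347343 IH) (Lpr_et (f171959 IH) (Lpn (LP (LK LD1_c15 LD2_c0 LD3_c57))))))))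
theorem f351643 : Led Lsl_ft (LP (LK LD1_c7 LD2_c57 LD3_c58)) = (LP (LK LD1_c15 LD2_c0 LD3_c57)) :=
  Lgr Lrot48 (Lpr_ff (f351639 IH) (Lpn (LP (LK LD1_c15 LD2_c0 LD3_c57))))
theorem f221642 : Led Lsl_ct (LP (LK LD1_c15 LD2_c1 LD3_c14)) = (LP (LK LD1_c7 LD2_c57 LD3_c58)) :=
  Lre_c IH (LK LD1_c15 LD2_c1 LD3_c14) (LK LD1_c7 LD2_c57 LD3_c58) Lrfl Lrfl
theorem f171932 : Led Lsl_bt (LP (LK LD1_c17 LD2_c50 LD3_c12)) = (LP (LK LD1_c9 LD2_c41 LD3_c50)) :=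
  Lre_b IH (LK LD1_c17 LD2_c50 LD3_c12) (LK LD1_c9 LD2_c41 LD3_c50) Lrfl Lrfl
theorem f171934 : Led Lsl_bt (LP (LK LD1_c15 LD2_c0 LD3_c59)) = (LP (LK LD1_c24 LD2_c48 LD3_c38)) :=
  Lre_b IH (LK LD1_c15 LD2_c0 LD3_c59) (LK LD1_c24 LD2_c48 LD3_c38) Lrfl Lrfl
theorem f171935 : Led Lsl_cf (LP (LK LD1_c17 LD2_c50 LD3_c12)) = (LP (LK LD1_c24 LD2_c48 LD3_c38)) :=
  Lgr Lrot97 (Lpr_bt (f171932 IH) (Lpr_ct (K21.f171931 IH) (Lpr_bt (K14.f171925 IH) (Lpr_ct (K18.f171933 IH) (Lpr_bt (f171934 IH) (Lpn (LP (LK LD1_c24 LD2_c48 LD3_c38))))))))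
theorem f171941 : Led Lsl_ct (LP (LK LD1_c17 LD2_c50 LD3_c12)) = (LP (LK LD1_c24 LD2_c48 LD3_c38)) :=
  Lgr Lrot59 (Lpr_cf (f171935 IH) (Lpn (LP (LK LD1_c24 LD2_c48 LD3_c38))))
theorem f171958 : Led Lsl_et (LP (LK LD1_c9 LD2_c41 LD3_c49)) = (LP (LK LD1_c17 LD2_c50 LD3_c12)) :=
  Lre_e IH (LK LD1_c9 LD2_c41 LD3_c49) (LK LD1_c17 LD2_c50 LD3_c12) Lrfl Lrfl
theorem f171960 : Led Lsl_cf (LP (LK LD1_c9 LD2_c41 LD3_c49)) = (LP (LK LD1_c15 LD2_c0 LD3_c57)) :=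
  Lgr Lrot39 (Lpr_et (f171958 IH) (Lpr_ct (f171941 IH) (Lpr_et (f171959 IH) (Lpn (LP (LK LD1_c15 LD2_c0 LD3_c57))))))
theorem f351648 : Led Lsl_ff (LP (LK LD1_c15 LD2_c1 LD3_c14)) = (LP (LK LD1_c9 LD2_c41 LD3_c49)) :=
  Lgr Lrot23 (Lpr_ct (f221642 IH) (Lpr_ft (f351643 IH) (Lpe (f171960 IH) (Lpn (LP (LK LD1_c9 LD2_c41 LD3_c49))))))
theorem f187246 : Led Lsl_bt (LP (LK LD1_c7 LD2_c57 LD3_c49)) = (LP (LK LD1_c15 LD2_c1 LD3_c14)) :=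
  Lre_b IH (LK LD1_c7 LD2_c57 LD3_c49) (LK LD1_c15 LD2_c1 LD3_c14) Lrfl Lrfl
theorem f181798 : Led Lsl_bt (LP (LK LD1_c10 LD2_c32 LD3_c17)) = (LP (LK LD1_c5 LD2_c21 LD3_c5)) :=
  Lre_b IH (LK LD1_c10 LD2_c32 LD3_c17) (LK LD1_c5 LD2_c21 LD3_c5) Lrfl Lrfl
theorem f221592 : Led Lsl_dt (LP (LK LD1_c15 LD2_c1 LD3_c14)) = (LP (LK LD1_c10 LD2_c32 LD3_c17)) :=
  Lgr Lrot79 (Lpe (f187246 IH) (Lpr_df (K12.f221543 IH) (Lpe (f181798 IH) (Lpn (LP (LK LD1_c10 LD2_c32 LD3_c17))))))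
theorem f224299 : Led Lsl_et (LP (LK LD1_c10 LD2_c42 LD3_c13)) = (LP (LK LD1_c17 LD2_c50 LD3_c13)) :=
  Lgr Lrot87 (Lpr_ef (K23.f224270 IH) (Lpn (LP (LK LD1_c17 LD2_c50 LD3_c13))))
theorem f224305 : Led Lsl_bt (LP (LK LD1_c19 LD2_c22 LD3_c41)) = (LP (LK LD1_c10 LD2_c42 LD3_c13)) :=
  Lre_b IH (LK LD1_c19 LD2_c22 LD3_c41) (LK LD1_c10 LD2_c42 LD3_c13) Lrfl Lrfl
theorem f224306 : Led Lsl_bt (LP (LK LD1_c17 LD2_c50 LD3_c13)) = (LP (LK LD1_c27 LD2_c37 LD3_c22)) :=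
  Lre_b IH (LK LD1_c17 LD2_c50 LD3_c13) (LK LD1_c27 LD2_c37 LD3_c22) Lrfl Lrfl
theorem f224307 : Led Lsl_ef (LP (LK LD1_c19 LD2_c22 LD3_c41)) = (LP (LK LD1_c27 LD2_c37 LD3_c22)) :=
  Lgr Lrot29 (Lpr_bt (f224305 IH) (Lpr_et (f224299 IH) (Lpr_bt (f224306 IH) (Lpn (LP (LK LD1_c27 LD2_c37 LD3_c22))))))
theorem f224315 : Led Lsl_dt (LP (LK LD1_c19 LD2_c22 LD3_c41)) = (LP (LK LD1_c10 LD2_c42 LD3_c11)) :=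
  Lre_d IH (LK LD1_c19 LD2_c22 LD3_c41) (LK LD1_c10 LD2_c42 LD3_c11) Lrfl Lrfl
theorem f224316 : Led Lsl_et (LP (LK LD1_c10 LD2_c42 LD3_c11)) = (LP (LK LD1_c5 LD2_c25 LD3_c31)) :=
  Lre_e IH (LK LD1_c10 LD2_c42 LD3_c11) (LK LD1_c5 LD2_c25 LD3_c31) Lrfl Lrfl
theorem f171943 : Led Lsl_dt (LP (LK LD1_c17 LD2_c50 LD3_c12)) = (LP (LK LD1_c27 LD2_c37 LD3_c22)) :=
  Lre_d IH (LK LD1_c17 LD2_c50 LD3_c12) (LK LD1_c27 LD2_c37 LD3_c22) Lrfl Lrfl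
theorem f224317 : Led Lsl_dt (LP (LK LD1_c5 LD2_c25 LD3_c31)) = (LP (LK LD1_c9 LD2_c41 LD3_c49)) :=
  Lgr Lrot77 (Lpe (f224316 IH) (Lpe (f224315 IH) (Lpr_ef (f224307 IH) (Lpe (f171943 IH) (Lpe (f171958 IH) (Lpn (LP (LK LD1_c9 LD2_c41 LD3_c49))))))))
theorem f351654 : Led Lsl_ft (LP (LK LD1_c10 LD2_c32 LD3_c17)) = (LP (LK LD1_c5 LD2_c25 LD3_c31)) :=
  Lgr Lrot54 (Lpe (f221592 IH) (Lpr_ff (f351648 IH) (Lpe (f224317 IH) (Lpn (LP (LK LD1_c5 LD2_c25 LD3_c31))))))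
theorem f351666 : Led Lsl_ff (LP (LK LD1_c10 LD2_c32 LD3_c17)) = (LP (LK LD1_c5 LD2_c25 LD3_c31)) :=
  Lgr Lrot3 (Lpr_ft (f351654 IH) (Lpn (LP (LK LD1_c5 LD2_c25 LD3_c31))))
theorem f224325 : Led Lsl_bt (LP (LK LD1_c2 LD2_c39 LD3_c11)) = (LP (LK LD1_c5 LD2_c25 LD3_c31)) :=
  Lre_b IH (LK LD1_c2 LD2_c39 LD3_c11) (LK LD1_c5 LD2_c25 LD3_c31) Lrfl Lrfl
theorem f351670 : Led Lsl_ft (LP (LK LD1_c5 LD2_c21 LD3_c5)) = (LP (LK LD1_c2 LD2_c39 LD3_c11)) :=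
  Lgr Lrot75 (Lpe (f181798 IH) (Lpr_ff (f351666 IH) (Lpe (f224325 IH) (Lpn (LP (LK LD1_c2 LD2_c39 LD3_c11))))))
theorem f351707 : Led Lsl_af (LP (LK LD1_c5 LD2_c21 LD3_c6)) = (LP (LK LD1_c2 LD2_c39 LD3_c11)) :=
  Lgr Lrot45 (Lpr_ft (K22.f339397 IH) (Lpe (K22.f339410 IH) (Lpr_ft (f351670 IH) (Lpn (LP (LK LD1_c2 LD2_c39 LD3_c11))))))
theorem f221791 : Led Lsl_at (LP (LK LD1_c10 LD2_c32 LD3_c19)) = (LP (LK LD1_c19 LD2_c5 LD3_c19)) :=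
  Lre_a IH (LK LD1_c10 LD2_c32 LD3_c19) (LK LD1_c19 LD2_c5 LD3_c19) Lrfl Lrfl
theorem f217683 : Led Lsl_bt (LP (LK LD1_c5 LD2_c25 LD3_c31)) = (LP (LK LD1_c2 LD2_c39 LD3_c11)) :=
  Lre_b IH (LK LD1_c5 LD2_c25 LD3_c31) (LK LD1_c2 LD2_c39 LD3_c11) Lrfl Lrfl
theorem f224322 : Led Lsl_at (LP (LK LD1_c10 LD2_c42 LD3_c9)) = (LP (LK LD1_c5 LD2_c25 LD3_c31)) :=
  Lre_a IH (LK LD1_c10 LD2_c42 LD3_c9) (LK LD1_c5 LD2_c25 LD3_c31) Lrfl Lrfl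
theorem f351712 : Led Lsl_bt (LP (LK LD1_c19 LD2_c5 LD3_c19)) = (LP (LK LD1_c10 LD2_c42 LD3_c9)) :=
  Lgr Lrot62 (Lpe (f221791 IH) (Lpe (K22.f218768 IH) (Lpr_af (f351707 IH) (Lpe (f217683 IH) (Lpe (f224322 IH) (Lpn (LP (LK LD1_c10 LD2_c42 LD3_c9))))))))
theorem f351714 : Led Lsl_bf (LP (LK LD1_c19 LD2_c5 LD3_c19)) = (LP (LK LD1_c10 LD2_c42 LD3_c9)) :=
  Lgr Lrot24 (Lpr_bt (f351712 IH) (Lpn (LP (LK LD1_c10 LD2_c42 LD3_c9))))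
theorem f224336 : Led Lsl_ct (LP (LK LD1_c19 LD2_c22 LD3_c35)) = (LP (LK LD1_c10 LD2_c42 LD3_c9)) :=
  Lre_c IH (LK LD1_c19 LD2_c22 LD3_c35) (LK LD1_c10 LD2_c42 LD3_c9) Lrfl Lrfl
theorem f351679 : Led Lsl_bt (LP (LK LD1_c28 LD2_c46 LD3_c51)) = (LP (LK LD1_c19 LD2_c22 LD3_c35)) :=
  Lre_b IH (LK LD1_c28 LD2_c46 LD3_c51) (LK LD1_c19 LD2_c22 LD3_c35) Lrfl Lrfl
theorem f397577 : Led Lsl_ct (LP (LK LD1_c31 LD2_c38 LD3_c24)) = (LP (LK LD1_c28 LD2_c46 LD3_c51)) :=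
  Lgr Lrot83 (Lpr_bf (f397575 IH) (Lpe (f397558 IH) (Lpr_bf (f351714 IH) (Lpe (f224336 IH) (Lpe (f351679 IH) (Lpn (LP (LK LD1_c28 LD2_c46 LD3_c51))))))))
theorem f397583 : Led Lsl_cf (LP (LK LD1_c31 LD2_c38 LD3_c24)) = (LP (LK LD1_c28 LD2_c46 LD3_c51)) :=
  Lgr Lrot11 (Lpr_ct (f397577 IH) (Lpn (LP (LK LD1_c28 LD2_c46 LD3_c51))))
theorem f224337 : Led Lsl_bt (LP (LK LD1_c19 LD2_c22 LD3_c35)) = (LP (LK LD1_c28 LD2_c46 LD3_c51)) :=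
  Lre_b IH (LK LD1_c19 LD2_c22 LD3_c35) (LK LD1_c28 LD2_c46 LD3_c51) Lrfl Lrfl
theorem f224329 : Led Lsl_ct (LP (LK LD1_c10 LD2_c42 LD3_c9)) = (LP (LK LD1_c19 LD2_c22 LD3_c35)) :=
  Lre_c IH (LK LD1_c10 LD2_c42 LD3_c9) (LK LD1_c19 LD2_c22 LD3_c35) Lrfl Lrfl
theorem f397587 : Led Lsl_ct (LP (LK LD1_c26 LD2_c15 LD3_c53)) = (LP (LK LD1_c19 LD2_c5 LD3_c19)) :=
  Lgr Lrot83 (Lpe (f397573 IH) (Lpr_cf (f397583 IH) (Lpe (f224337 IH) (Lpe (f224329 IH) (Lpe (f351712 IH) (Lpn (LP (LK LD1_c19 LD2_c5 LD3_c19))))))))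
theorem f221781 : Led Lsl_df (LP (LK LD1_c10 LD2_c32 LD3_c19)) = (LP (LK LD1_c15 LD2_c36 LD3_c41)) :=
  Lgr Lrot38 (Lpr_dt (K22.f221763 IH) (Lpn (LP (LK LD1_c15 LD2_c36 LD3_c41))))
theorem f221792 : Led Lsl_at (LP (LK LD1_c25 LD2_c31 LD3_c15)) = (LP (LK LD1_c15 LD2_c36 LD3_c41)) :=
  Lre_a IH (LK LD1_c25 LD2_c31 LD3_c15) (LK LD1_c15 LD2_c36 LD3_c41) Lrfl Lrfl
theorem f221793 : Led Lsl_dt (LP (LK LD1_c19 LD2_c5 LD3_c19)) = (LP (LK LD1_c25 LD2_c31 LD3_c15)) :=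
  Lgr Lrot44 (Lpe (f221791 IH) (Lpr_df (f221781 IH) (Lpe (f221792 IH) (Lpn (LP (LK LD1_c25 LD2_c31 LD3_c15))))))
theorem f221797 : Led Lsl_ct (LP (LK LD1_c25 LD2_c31 LD3_c15)) = (LP (LK LD1_c15 LD2_c36 LD3_c45)) :=
  Lre_c IH (LK LD1_c25 LD2_c31 LD3_c15) (LK LD1_c15 LD2_c36 LD3_c45) Lrfl Lrfl
theorem f398388 : Led Lsl_cf (LP (LK LD1_c25 LD2_c53 LD3_c31)) = (LP (LK LD1_c25 LD2_c5 LD3_c38)) :=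
  Lgr Lrot55 (Lpr_dt (f398386 IH) (Lpr_ct (f229791 IH) (Lpr_dt (K27.f263790 IH) (Lpr_ct (K15.f218477 IH) (Lpr_dt (f224116 IH) (Lpe (f339391 IH) (Lpr_dt (K23.f234851 IH) (Lpr_ct (f396911 IH) (Lpe (f396919 IH) (Lpr_ct (f397553 IH) (Lpr_dt (f397580 IH) (Lpr_ct (f397587 IH) (Lpr_dt (f221793 IH) (Lpr_ct (f221797 IH) (Lpr_dt (K23.f339364 IH) (Lpn (LP (LK LD1_c25 LD2_c5 LD3_c38))))))))))))))))))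
theorem f396903 : Led Lsl_gf (LP (LK LD1_c25 LD2_c5 LD3_c38)) = (LP (LK LD1_c19 LD2_c19 LD3_c45)) :=
  Lgr Lrot76 (Lpe (K23.f339322 IH) (Lpr_ff (K23.f339331 IH) (Lpr_gt (f396901 IH) (Lpn (LP (LK LD1_c19 LD2_c19 LD3_c45))))))
theorem f51547 : Led Lsl_ct (LP (LK LD1_c2 LD2_c3 LD3_c8)) = (LP (LK LD1_c4 LD2_c11 LD3_c60)) :=
  Lre_c IH (LK LD1_c2 LD2_c3 LD3_c8) (LK LD1_c4 LD2_c11 LD3_c60) Lrfl Lrfl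
theorem f51857 : Led Lsl_gt (LP (LK LD1_c8 LD2_c23 LD3_c40)) = (LP (LK LD1_c4 LD2_c11 LD3_c60)) :=
  Lre_g IH (LK LD1_c8 LD2_c23 LD3_c40) (LK LD1_c4 LD2_c11 LD3_c60) Lrfl Lrfl
theorem f2295 : Led Lsl_bt (LP (LK LD1_c4 LD2_c53 LD3_c37)) = (LP (LK LD1_c2 LD2_c24 LD3_c38)) :=
  Lre_b IH (LK LD1_c4 LD2_c53 LD3_c37) (LK LD1_c2 LD2_c24 LD3_c38) Lrfl Lrfl
theorem f167048 : Led Lsl_cf (LP (LK LD1_c8 LD2_c23 LD3_c40)) = (LP (LK LD1_c4 LD2_c53 LD3_c37)) :=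
  Lgr Lrot160 (Lpr_gt (f51857 IH) (Lpe (f51547 IH) (Lpr_bt (f52027 IH) (Lpe (K9.f52223 IH) (Lpr_ct (K9.f167032 IH) (Lpr_gt (K9.f2213 IH) (Lpe (K0.f2216 IH) (Lpr_bt (K0.f2222 IH) (Lpr_gt (K27.f2280 IH) (Lpe (f2295 IH) (Lpn (LP (LK LD1_c4 LD2_c53 LD3_c37)))))))))))))
theorem f167050 : Led Lsl_bt (LP (LK LD1_c8 LD2_c23 LD3_c40)) = (LP (LK LD1_c15 LD2_c47 LD3_c7)) :=
  Lre_b IH (LK LD1_c8 LD2_c23 LD3_c40) (LK LD1_c15 LD2_c47 LD3_c7) Lrfl Lrfl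
theorem f167051 : Led Lsl_bt (LP (LK LD1_c2 LD2_c24 LD3_c38)) = (LP (LK LD1_c4 LD2_c53 LD3_c37)) :=
  Lre_b IH (LK LD1_c2 LD2_c24 LD3_c38) (LK LD1_c4 LD2_c53 LD3_c37) Lrfl Lrfl
theorem f167052 : Led Lsl_bt (LP (LK LD1_c9 LD2_c39 LD3_c8)) = (LP (LK LD1_c4 LD2_c53 LD3_c38)) :=
  Lre_b IH (LK LD1_c9 LD2_c39 LD3_c8) (LK LD1_c4 LD2_c53 LD3_c38) Lrfl Lrfl
theorem f167053 : Led Lsl_ct (LP (LK LD1_c15 LD2_c47 LD3_c7)) = (LP (LK LD1_c9 LD2_c39 LD3_c8)) :=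
  Lgr Lrot83 (Lpe (f167050 IH) (Lpr_cf (f167048 IH) (Lpe (f167051 IH) (Lpe (K27.f2285 IH) (Lpe (f167052 IH) (Lpn (LP (LK LD1_c9 LD2_c39 LD3_c8))))))))
theorem f224119 : Led Lsl_at (LP (LK LD1_c10 LD2_c42 LD3_c3)) = (LP (LK LD1_c5 LD2_c25 LD3_c29)) :=
  Lre_a IH (LK LD1_c10 LD2_c42 LD3_c3) (LK LD1_c5 LD2_c25 LD3_c29) Lrfl Lrfl
theorem f339395 : Led Lsl_ft (LP (LK LD1_c19 LD2_c5 LD3_c19)) = (LP (LK LD1_c10 LD2_c42 LD3_c3)) :=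
  Lgr Lrot101 (Lpe (f221791 IH) (Lpr_ff (K22.f339393 IH) (Lpe (f224119 IH) (Lpn (LP (LK LD1_c10 LD2_c42 LD3_c3))))))
theorem f224129 : Led Lsl_ct (LP (LK LD1_c10 LD2_c42 LD3_c3)) = (LP (LK LD1_c19 LD2_c22 LD3_c22)) :=
  Lre_c IH (LK LD1_c10 LD2_c42 LD3_c3) (LK LD1_c19 LD2_c22 LD3_c22) Lrfl Lrfl
theorem f397591 : Led Lsl_ff (LP (LK LD1_c26 LD2_c15 LD3_c53)) = (LP (LK LD1_c19 LD2_c22 LD3_c22)) :=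
  Lgr Lrot23 (Lpr_ct (f397587 IH) (Lpr_ft (f339395 IH) (Lpr_ct (f224129 IH) (Lpn (LP (LK LD1_c19 LD2_c22 LD3_c22))))))
theorem f260558 : Led Lsl_ct (LP (LK LD1_c15 LD2_c59 LD3_c41)) = (LP (LK LD1_c8 LD2_c31 LD3_c12)) :=
  Lre_c IH (LK LD1_c15 LD2_c59 LD3_c41) (LK LD1_c8 LD2_c31 LD3_c12) Lrfl Lrfl
theorem f397054 : Led Lsl_af (LP (LK LD1_c15 LD2_c59 LD3_c41)) = (LP (LK LD1_c16 LD2_c17 LD3_c5)) :=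
  Lgr Lrot68 (Lpr_ct (f260558 IH) (Lpr_at (f397050 IH) (Lpr_ct (f229791 IH) (Lpn (LP (LK LD1_c16 LD2_c17 LD3_c5))))))
theorem f224208 : Led Lsl_at (LP (LK LD1_c19 LD2_c22 LD3_c22)) = (LP (LK LD1_c10 LD2_c42 LD3_c4)) :=
  Lre_a IH (LK LD1_c19 LD2_c22 LD3_c22) (LK LD1_c10 LD2_c42 LD3_c4) Lrfl Lrfl
theorem f397058 : Led Lsl_dt (LP (LK LD1_c15 LD2_c59 LD3_c41)) = (LP (LK LD1_c19 LD2_c22 LD3_c22)) :=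
  Lgr Lrot44 (Lpr_af (f397054 IH) (Lpr_df (K27.f263787 IH) (Lpe (f224208 IH) (Lpn (LP (LK LD1_c19 LD2_c22 LD3_c22))))))
theorem f397597 : Led Lsl_ft (LP (LK LD1_c16 LD2_c18 LD3_c3)) = (LP (LK LD1_c15 LD2_c59 LD3_c41)) :=
  Lgr Lrot54 (Lpe (f397555 IH) (Lpr_ff (f397591 IH) (Lpe (f397058 IH) (Lpn (LP (LK LD1_c15 LD2_c59 LD3_c41))))))
theorem f397056 : Led Lsl_at (LP (LK LD1_c15 LD2_c59 LD3_c41)) = (LP (LK LD1_c16 LD2_c17 LD3_c5)) :=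
  Lgr Lrot100 (Lpr_af (f397054 IH) (Lpn (LP (LK LD1_c16 LD2_c17 LD3_c5))))
theorem f397599 : Led Lsl_gt (LP (LK LD1_c16 LD2_c18 LD3_c3)) = (LP (LK LD1_c9 LD2_c39 LD3_c8)) :=
  Lgr Lrot5 (Lpr_ft (f397597 IH) (Lpr_at (f397056 IH) (Lpe (K27.f229793 IH) (Lpn (LP (LK LD1_c9 LD2_c39 LD3_c8))))))
theorem f397601 : Led Lsl_ft (LP (LK LD1_c8 LD2_c42 LD3_c7)) = (LP (LK LD1_c16 LD2_c17 LD3_c50)) :=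
  Lre_f IH (LK LD1_c8 LD2_c42 LD3_c7) (LK LD1_c16 LD2_c17 LD3_c50) Lrfl Lrfl
theorem f397602 : Led Lsl_at (LP (LK LD1_c16 LD2_c17 LD3_c50)) = (LP (LK LD1_c9 LD2_c39 LD3_c8)) :=
  Lgr Lrot26 (Lpe (f397601 IH) (Lpr_gt (f326177 IH) (Lpr_gt (f397599 IH) (Lpn (LP (LK LD1_c9 LD2_c39 LD3_c8))))))
theorem f397609 : Led Lsl_bt (LP (LK LD1_c8 LD2_c42 LD3_c1)) = (LP (LK LD1_c16 LD2_c17 LD3_c50)) :=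
  Lre_b IH (LK LD1_c8 LD2_c42 LD3_c1) (LK LD1_c16 LD2_c17 LD3_c50) Lrfl Lrfl
theorem f397610 : Led Lsl_at (LP (LK LD1_c4 LD2_c22 LD3_c6)) = (LP (LK LD1_c8 LD2_c42 LD3_c1)) :=
  Lre_a IH (LK LD1_c4 LD2_c22 LD3_c6) (LK LD1_c8 LD2_c42 LD3_c1) Lrfl Lrfl
theorem f39718 : Led Lsl_bt (LP (LK LD1_c8 LD2_c42 LD3_c2)) = (LP (LK LD1_c4 LD2_c22 LD3_c6)) :=
  Lre_b IH (LK LD1_c8 LD2_c42 LD3_c2) (LK LD1_c4 LD2_c22 LD3_c6) Lrfl Lrfl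
theorem f397611 : Led Lsl_af (LP (LK LD1_c8 LD2_c42 LD3_c2)) = (LP (LK LD1_c4 LD2_c53 LD3_c38)) :=
  Lgr Lrot36 (Lpr_bt (f39718 IH) (Lpr_at (f397610 IH) (Lpr_bt (f397609 IH) (Lpr_at (f397602 IH) (Lpr_bt (f167052 IH) (Lpn (LP (LK LD1_c4 LD2_c53 LD3_c38))))))))
theorem f2594 : Led Lsl_bt (LP (LK LD1_c9 LD2_c36 LD3_c14)) = (LP (LK LD1_c4 LD2_c52 LD3_c3)) :=
  Lre_b IH (LK LD1_c9 LD2_c36 LD3_c14) (LK LD1_c4 LD2_c52 LD3_c3) Lrfl Lrfl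
theorem f2595 : Led Lsl_bt (LP (LK LD1_c4 LD2_c53 LD3_c16)) = (LP (LK LD1_c9 LD2_c37 LD3_c25)) :=
  Lgr Lrot35 (Lpe (K1.f2459 IH) (Lpe (f2594 IH) (Lpr_ff (K20.f2582 IH) (Lpn (LP (LK LD1_c9 LD2_c37 LD3_c25))))))
theorem f2627 : Led Lsl_et (LP (LK LD1_c9 LD2_c37 LD3_c25)) = (LP (LK LD1_c4 LD2_c52 LD3_c40)) :=
  Lre_e IH (LK LD1_c9 LD2_c37 LD3_c25) (LK LD1_c4 LD2_c52 LD3_c40) Lrfl Lrfl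
theorem f2744 : Led Lsl_bf (LP (LK LD1_c2 LD2_c24 LD3_c25)) = (LP (LK LD1_c4 LD2_c52 LD3_c40)) :=
  Lgr Lrot96 (Lpr_et (K1.f2475 IH) (Lpr_bt (f2595 IH) (Lpr_et (f2627 IH) (Lpn (LP (LK LD1_c4 LD2_c52 LD3_c40))))))
theorem f2191 : Led Lsl_gt (LP (LK LD1_c4 LD2_c52 LD3_c39)) = (LP (LK LD1_c2 LD2_c24 LD3_c2)) :=
  Lre_g IH (LK LD1_c4 LD2_c52 LD3_c39) (LK LD1_c2 LD2_c24 LD3_c2) Lrfl Lrfl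
theorem f39023 : Led Lsl_bt (LP (LK LD1_c1 LD2_c1 LD3_c24)) = (LP (LK LD1_c2 LD2_c8 LD3_c31)) :=
  Lre_b IH (LK LD1_c1 LD2_c1 LD3_c24) (LK LD1_c2 LD2_c8 LD3_c31) Lrfl Lrfl
theorem f216716 : Led Lsl_gt (LP (LK LD1_c2 LD2_c8 LD3_c31)) = (LP (LK LD1_c4 LD2_c22 LD3_c6)) :=
  Lre_g IH (LK LD1_c2 LD2_c8 LD3_c31) (LK LD1_c4 LD2_c22 LD3_c6) Lrfl Lrfl
theorem f216717 : Led Lsl_cf (LP (LK LD1_c4 LD2_c52 LD3_c39)) = (LP (LK LD1_c8 LD2_c42 LD3_c2)) :=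
  Lgr Lrot160 (Lpr_gt (f2191 IH) (Lpe (K20.f2165 IH) (Lpe (f2744 IH) (Lpr_gt (K12.f216701 IH) (Lpr_ct (K12.f216700 IH) (Lpr_gt (K12.f216699 IH) (Lpe (K13.f39028 IH) (Lpr_bt (f39023 IH) (Lpr_gt (f216716 IH) (Lpe (f39718 IH) (Lpn (LP (LK LD1_c8 LD2_c42 LD3_c2)))))))))))))
theorem f397636 : Led Lsl_at (LP (LK LD1_c4 LD2_c52 LD3_c39)) = (LP (LK LD1_c2 LD2_c24 LD3_c38)) :=
  Lgr Lrot107 (Lpr_cf (f216717 IH) (Lpr_af (f397611 IH) (Lpe (K27.f2289 IH) (Lpn (LP (LK LD1_c2 LD2_c24 LD3_c38))))))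
theorem f2665 : Led Lsl_gt (LP (LK LD1_c2 LD2_c24 LD3_c39)) = (LP (LK LD1_c1 LD2_c9 LD3_c26)) :=
  Lre_g IH (LK LD1_c2 LD2_c24 LD3_c39) (LK LD1_c1 LD2_c9 LD3_c26) Lrfl Lrfl
theorem f397682 : Led Lsl_ff (LP (LK LD1_c4 LD2_c52 LD3_c39)) = (LP (LK LD1_c2 LD2_c24 LD3_c39)) :=
  Lgr Lrot52 (Lpr_at (f397636 IH) (Lpe (K27.f2280 IH) (Lpe (f2665 IH) (Lpn (LP (LK LD1_c2 LD2_c24 LD3_c39))))))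
theorem f397685 : Led Lsl_ft (LP (LK LD1_c4 LD2_c52 LD3_c39)) = (LP (LK LD1_c2 LD2_c24 LD3_c39)) :=
  Lgr Lrot48 (Lpr_ff (f397682 IH) (Lpn (LP (LK LD1_c2 LD2_c24 LD3_c39))))
theorem f2189 : Led Lsl_gt (LP (LK LD1_c2 LD2_c24 LD3_c2)) = (LP (LK LD1_c4 LD2_c52 LD3_c38)) :=
  Lre_g IH (LK LD1_c2 LD2_c24 LD3_c2) (LK LD1_c4 LD2_c52 LD3_c38) Lrfl Lrfl
theorem f397690 : Led Lsl_af (LP (LK LD1_c4 LD2_c52 LD3_c38)) = (LP (LK LD1_c2 LD2_c24 LD3_c39)) :=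
  Lgr Lrot31 (Lpe (f2189 IH) (Lpe (f2191 IH) (Lpr_ft (f397685 IH) (Lpn (LP (LK LD1_c2 LD2_c24 LD3_c39))))))
theorem f2190 : Led Lsl_ct (LP (LK LD1_c4 LD2_c52 LD3_c38)) = (LP (LK LD1_c9 LD2_c37 LD3_c23)) :=
  Lre_c IH (LK LD1_c4 LD2_c52 LD3_c38) (LK LD1_c9 LD2_c37 LD3_c23) Lrfl Lrfl
theorem f2845 : Led Lsl_ct (LP (LK LD1_c4 LD2_c53 LD3_c42)) = (LP (LK LD1_c2 LD2_c24 LD3_c39)) :=
  Lre_c IH (LK LD1_c4 LD2_c53 LD3_c42) (LK LD1_c2 LD2_c24 LD3_c39) Lrfl Lrfl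
theorem f397694 : Led Lsl_at (LP (LK LD1_c9 LD2_c37 LD3_c23)) = (LP (LK LD1_c4 LD2_c53 LD3_c42)) :=
  Lgr Lrot107 (Lpe (f2190 IH) (Lpr_af (f397690 IH) (Lpe (f2845 IH) (Lpn (LP (LK LD1_c4 LD2_c53 LD3_c42))))))
theorem f170955 : Led Lsl_dt (LP (LK LD1_c17 LD2_c42 LD3_c61)) = (LP (LK LD1_c9 LD2_c37 LD3_c23)) :=
  Lre_d IH (LK LD1_c17 LD2_c42 LD3_c61) (LK LD1_c9 LD2_c37 LD3_c23) Lrfl Lrfl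
theorem f2844 : Led Lsl_dt (LP (LK LD1_c4 LD2_c53 LD3_c42)) = (LP (LK LD1_c9 LD2_c39 LD3_c13)) :=
  Lre_d IH (LK LD1_c4 LD2_c53 LD3_c42) (LK LD1_c9 LD2_c39 LD3_c13) Lrfl Lrfl
theorem f397724 : Led Lsl_af (LP (LK LD1_c17 LD2_c42 LD3_c61)) = (LP (LK LD1_c9 LD2_c39 LD3_c13)) :=
  Lgr Lrot117 (Lpr_dt (f170955 IH) (Lpr_at (f397694 IH) (Lpr_dt (f2844 IH) (Lpn (LP (LK LD1_c9 LD2_c39 LD3_c13))))))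
theorem f397680 : Led Lsl_af (LP (LK LD1_c4 LD2_c52 LD3_c39)) = (LP (LK LD1_c2 LD2_c24 LD3_c38)) :=
  Lgr Lrot0 (Lpr_at (f397636 IH) (Lpn (LP (LK LD1_c2 LD2_c24 LD3_c38))))
theorem f397696 : Led Lsl_ft (LP (LK LD1_c4 LD2_c52 LD3_c38)) = (LP (LK LD1_c2 LD2_c24 LD3_c38)) :=
  Lgr Lrot101 (Lpr_af (f397690 IH) (Lpe (f397685 IH) (Lpr_af (f397680 IH) (Lpn (LP (LK LD1_c2 LD2_c24 LD3_c38))))))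
theorem f397700 : Led Lsl_ff (LP (LK LD1_c4 LD2_c52 LD3_c38)) = (LP (LK LD1_c2 LD2_c24 LD3_c38)) :=
  Lgr Lrot3 (Lpr_ft (f397696 IH) (Lpn (LP (LK LD1_c2 LD2_c24 LD3_c38))))
theorem f397702 : Led Lsl_ft (LP (LK LD1_c9 LD2_c37 LD3_c23)) = (LP (LK LD1_c4 LD2_c53 LD3_c38)) :=
  Lgr Lrot4 (Lpe (f2190 IH) (Lpr_ff (f397700 IH) (Lpe (K27.f2285 IH) (Lpn (LP (LK LD1_c4 LD2_c53 LD3_c38))))))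
theorem f397675 : Led Lsl_dt (LP (LK LD1_c4 LD2_c53 LD3_c38)) = (LP (LK LD1_c9 LD2_c39 LD3_c9)) :=
  Lre_d IH (LK LD1_c4 LD2_c53 LD3_c38) (LK LD1_c9 LD2_c39 LD3_c9) Lrfl Lrfl
theorem f397704 : Led Lsl_ff (LP (LK LD1_c17 LD2_c42 LD3_c61)) = (LP (LK LD1_c9 LD2_c39 LD3_c9)) :=
  Lgr Lrot19 (Lpr_dt (f170955 IH) (Lpr_ft (f397702 IH) (Lpr_dt (f397675 IH) (Lpn (LP (LK LD1_c9 LD2_c39 LD3_c9))))))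
theorem f397708 : Led Lsl_ft (LP (LK LD1_c17 LD2_c42 LD3_c61)) = (LP (LK LD1_c9 LD2_c39 LD3_c9)) :=
  Lgr Lrot48 (Lpr_ff (f397704 IH) (Lpn (LP (LK LD1_c9 LD2_c39 LD3_c9))))
theorem f397638 : Led Lsl_dt (LP (LK LD1_c8 LD2_c42 LD3_c2)) = (LP (LK LD1_c16 LD2_c17 LD3_c54)) :=
  Lre_d IH (LK LD1_c8 LD2_c42 LD3_c2) (LK LD1_c16 LD2_c17 LD3_c54) Lrfl Lrfl
theorem f263797 : Led Lsl_dt (LP (LK LD1_c9 LD2_c39 LD3_c9)) = (LP (LK LD1_c4 LD2_c53 LD3_c38)) :=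
  Lre_d IH (LK LD1_c9 LD2_c39 LD3_c9) (LK LD1_c4 LD2_c53 LD3_c38) Lrfl Lrfl
theorem f397639 : Led Lsl_at (LP (LK LD1_c16 LD2_c17 LD3_c54)) = (LP (LK LD1_c9 LD2_c39 LD3_c9)) :=
  Lgr Lrot51 (Lpe (f397638 IH) (Lpr_af (f397611 IH) (Lpe (f263797 IH) (Lpn (LP (LK LD1_c9 LD2_c39 LD3_c9))))))
theorem f397642 : Led Lsl_af (LP (LK LD1_c16 LD2_c17 LD3_c54)) = (LP (LK LD1_c9 LD2_c39 LD3_c9)) :=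
  Lgr Lrot0 (Lpr_at (f397639 IH) (Lpn (LP (LK LD1_c9 LD2_c39 LD3_c9))))
theorem f397731 : Led Lsl_ft (LP (LK LD1_c16 LD2_c17 LD3_c54)) = (LP (LK LD1_c9 LD2_c39 LD3_c13)) :=
  Lgr Lrot101 (Lpr_af (f397642 IH) (Lpe (f397708 IH) (Lpr_af (f397724 IH) (Lpn (LP (LK LD1_c9 LD2_c39 LD3_c13))))))
theorem f397738 : Led Lsl_ff (LP (LK LD1_c16 LD2_c17 LD3_c54)) = (LP (LK LD1_c9 LD2_c39 LD3_c13)) :=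
  Lgr Lrot3 (Lpr_ft (f397731 IH) (Lpn (LP (LK LD1_c9 LD2_c39 LD3_c13))))
theorem f397679 : Led Lsl_dt (LP (LK LD1_c16 LD2_c17 LD3_c54)) = (LP (LK LD1_c8 LD2_c42 LD3_c2)) :=
  Lre_d IH (LK LD1_c16 LD2_c17 LD3_c54) (LK LD1_c8 LD2_c42 LD3_c2) Lrfl Lrfl
theorem f397745 : Led Lsl_ft (LP (LK LD1_c8 LD2_c42 LD3_c2)) = (LP (LK LD1_c4 LD2_c53 LD3_c42)) :=
  Lgr Lrot54 (Lpe (f397679 IH) (Lpr_ff (f397738 IH) (Lpe (f2844 IH) (Lpn (LP (LK LD1_c4 LD2_c53 LD3_c42))))))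
theorem f397754 : Led Lsl_bt (LP (LK LD1_c4 LD2_c22 LD3_c6)) = (LP (LK LD1_c8 LD2_c42 LD3_c2)) :=
  Lre_b IH (LK LD1_c4 LD2_c22 LD3_c6) (LK LD1_c8 LD2_c42 LD3_c2) Lrfl Lrfl
theorem f397755 : Led Lsl_ft (LP (LK LD1_c8 LD2_c42 LD3_c6)) = (LP (LK LD1_c4 LD2_c22 LD3_c6)) :=
  Lre_f IH (LK LD1_c8 LD2_c42 LD3_c6) (LK LD1_c4 LD2_c22 LD3_c6) Lrfl Lrfl
theorem f397756 : Led Lsl_bf (LP (LK LD1_c8 LD2_c42 LD3_c6)) = (LP (LK LD1_c4 LD2_c53 LD3_c42)) :=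
  Lgr Lrot61 (Lpr_ft (f397755 IH) (Lpr_bt (f397754 IH) (Lpr_ft (f397745 IH) (Lpn (LP (LK LD1_c4 LD2_c53 LD3_c42))))))
theorem f39736 : Led Lsl_bt (LP (LK LD1_c2 LD2_c8 LD3_c33)) = (LP (LK LD1_c4 LD2_c22 LD3_c10)) :=
  Lre_b IH (LK LD1_c2 LD2_c8 LD3_c33) (LK LD1_c4 LD2_c22 LD3_c10) Lrfl Lrfl
theorem f397769 : Led Lsl_gf (LP (LK LD1_c8 LD2_c42 LD3_c6)) = (LP (LK LD1_c4 LD2_c22 LD3_c10)) :=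
  Lgr Lrot124 (Lpr_bf (f397756 IH) (Lpr_ct (f2845 IH) (Lpr_gt (f2665 IH) (Lpe (K27.f2272 IH) (Lpr_bt (K27.f2576 IH) (Lpr_gt (K12.f2500 IH) (Lpe (K12.f229262 IH) (Lpr_gt (K12.f227969 IH) (Lpe (K13.f39160 IH) (Lpr_bt (f39736 IH) (Lpn (LP (LK LD1_c4 LD2_c22 LD3_c10)))))))))))))
theorem f397763 : Led Lsl_ct (LP (LK LD1_c8 LD2_c42 LD3_c6)) = (LP (LK LD1_c16 LD2_c17 LD3_c58)) :=
  Lre_c IH (LK LD1_c8 LD2_c42 LD3_c6) (LK LD1_c16 LD2_c17 LD3_c58) Lrfl Lrfl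
theorem f397775 : Led Lsl_gt (LP (LK LD1_c16 LD2_c17 LD3_c58)) = (LP (LK LD1_c26 LD2_c15 LD3_c45)) :=
  Lre_g IH (LK LD1_c16 LD2_c17 LD3_c58) (LK LD1_c26 LD2_c15 LD3_c45) Lrfl Lrfl
theorem f229276 : Led Lsl_bt (LP (LK LD1_c2 LD2_c24 LD3_c21)) = (LP (LK LD1_c4 LD2_c53 LD3_c3)) :=
  Lre_b IH (LK LD1_c2 LD2_c24 LD3_c21) (LK LD1_c4 LD2_c53 LD3_c3) Lrfl Lrfl
theorem f229277 : Led Lsl_gt (LP (LK LD1_c9 LD2_c38 LD3_c0)) = (LP (LK LD1_c4 LD2_c53 LD3_c3)) :=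
  Lre_g IH (LK LD1_c9 LD2_c38 LD3_c0) (LK LD1_c4 LD2_c53 LD3_c3) Lrfl Lrfl
theorem f229278 : Led Lsl_bt (LP (LK LD1_c17 LD2_c43 LD3_c41)) = (LP (LK LD1_c9 LD2_c38 LD3_c0)) :=
  Lre_b IH (LK LD1_c17 LD2_c43 LD3_c41) (LK LD1_c9 LD2_c38 LD3_c0) Lrfl Lrfl
theorem f397776 : Led Lsl_cf (LP (LK LD1_c26 LD2_c15 LD3_c45)) = (LP (LK LD1_c17 LD2_c43 LD3_c41)) :=
  Lgr Lrot163 (Lpe (f397775 IH) (Lpe (f397763 IH) (Lpr_gf (f397769 IH) (Lpe (f39736 IH) (Lpr_ct (K13.f39160 IH) (Lpe (K12.f227969 IH) (Lpr_cf (K12.f229262 IH) (Lpr_bt (f229276 IH) (Lpe (f229277 IH) (Lpe (f229278 IH) (Lpn (LP (LK LD1_c17 LD2_c43 LD3_c41)))))))))))))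
theorem f397788 : Led Lsl_gt (LP (LK LD1_c26 LD2_c15 LD3_c45)) = (LP (LK LD1_c16 LD2_c17 LD3_c51)) :=
  Lre_g IH (LK LD1_c26 LD2_c15 LD3_c45) (LK LD1_c16 LD2_c17 LD3_c51) Lrfl Lrfl
theorem f397629 : Led Lsl_ct (LP (LK LD1_c8 LD2_c42 LD3_c1)) = (LP (LK LD1_c16 LD2_c17 LD3_c51)) :=
  Lre_c IH (LK LD1_c8 LD2_c42 LD3_c1) (LK LD1_c16 LD2_c17 LD3_c51) Lrfl Lrfl
theorem f326159 : Led Lsl_gt (LP (LK LD1_c8 LD2_c41 LD3_c32)) = (LP (LK LD1_c9 LD2_c38 LD3_c0)) :=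
  Lgr Lrot5 (Lpr_ft (f326146 IH) (Lpr_at (f326145 IH) (Lpe (f229277 IH) (Lpn (LP (LK LD1_c9 LD2_c38 LD3_c0))))))
theorem f229845 : Led Lsl_at (LP (LK LD1_c4 LD2_c53 LD3_c6)) = (LP (LK LD1_c9 LD2_c38 LD3_c10)) :=
  Lre_a IH (LK LD1_c4 LD2_c53 LD3_c6) (LK LD1_c9 LD2_c38 LD3_c10) Lrfl Lrfl
theorem f270411 : Led Lsl_ft (LP (LK LD1_c9 LD2_c38 LD3_c10)) = (LP (LK LD1_c8 LD2_c41 LD3_c10)) :=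
  Lgr Lrot101 (Lpe (f229845 IH) (Lpr_ff (K16.f270409 IH) (Lpe (f260537 IH) (Lpn (LP (LK LD1_c8 LD2_c41 LD3_c10))))))
theorem f326227 : Led Lsl_bf (LP (LK LD1_c9 LD2_c38 LD3_c10)) = (LP (LK LD1_c8 LD2_c41 LD3_c32)) :=
  Lgr Lrot61 (Lpr_ft (f270411 IH) (Lpr_bt (f326219 IH) (Lpe (f326157 IH) (Lpn (LP (LK LD1_c8 LD2_c41 LD3_c32))))))
theorem f326229 : Led Lsl_bt (LP (LK LD1_c9 LD2_c38 LD3_c10)) = (LP (LK LD1_c8 LD2_c41 LD3_c32)) :=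
  Lgr Lrot127 (Lpr_bf (f326227 IH) (Lpn (LP (LK LD1_c8 LD2_c41 LD3_c32))))
theorem f229780 : Led Lsl_at (LP (LK LD1_c15 LD2_c57 LD3_c20)) = (LP (LK LD1_c8 LD2_c29 LD3_c53)) :=
  Lre_a IH (LK LD1_c15 LD2_c57 LD3_c20) (LK LD1_c8 LD2_c29 LD3_c53) Lrfl Lrfl
theorem f229846 : Led Lsl_cf (LP (LK LD1_c15 LD2_c57 LD3_c20)) = (LP (LK LD1_c9 LD2_c38 LD3_c10)) :=
  Lgr Lrot1 (Lpr_at (f229780 IH) (Lpr_ct (K16.f229770 IH) (Lpr_at (f229845 IH) (Lpn (LP (LK LD1_c9 LD2_c38 LD3_c10))))))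
theorem f397266 : Led Lsl_ff (LP (LK LD1_c15 LD2_c57 LD3_c20)) = (LP (LK LD1_c8 LD2_c31 LD3_c14)) :=
  Lgr Lrot52 (Lpr_at (f229780 IH) (Lpe (K27.f229785 IH) (Lpr_gf (f397262 IH) (Lpn (LP (LK LD1_c8 LD2_c31 LD3_c14))))))
theorem f397437 : Led Lsl_ft (LP (LK LD1_c15 LD2_c57 LD3_c20)) = (LP (LK LD1_c8 LD2_c31 LD3_c14)) :=
  Lgr Lrot48 (Lpr_ff (f397266 IH) (Lpn (LP (LK LD1_c8 LD2_c31 LD3_c14))))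
theorem f397439 : Led Lsl_gt (LP (LK LD1_c15 LD2_c57 LD3_c20)) = (LP (LK LD1_c8 LD2_c31 LD3_c13)) :=
  Lgr Lrot5 (Lpr_ft (f397437 IH) (Lpr_at (f260526 IH) (Lpe (f260561 IH) (Lpn (LP (LK LD1_c8 LD2_c31 LD3_c13))))))
theorem f397034 : Led Lsl_ff (LP (LK LD1_c15 LD2_c59 LD3_c40)) = (LP (LK LD1_c17 LD2_c39 LD3_c5)) :=
  Lgr Lrot3 (Lpr_ft (f397022 IH) (Lpn (LP (LK LD1_c17 LD2_c39 LD3_c5))))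
theorem f372987 : Led Lsl_bt (LP (LK LD1_c15 LD2_c59 LD3_c40)) = (LP (LK LD1_c8 LD2_c31 LD3_c12)) :=
  Lre_b IH (LK LD1_c15 LD2_c59 LD3_c40) (LK LD1_c8 LD2_c31 LD3_c12) Lrfl Lrfl
theorem f397038 : Led Lsl_ft (LP (LK LD1_c8 LD2_c31 LD3_c12)) = (LP (LK LD1_c15 LD2_c57 LD3_c18)) :=
  Lgr Lrot75 (Lpe (f372987 IH) (Lpr_ff (f397034 IH) (Lpe (f171151 IH) (Lpn (LP (LK LD1_c15 LD2_c57 LD3_c18))))))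
theorem f397067 : Led Lsl_af (LP (LK LD1_c8 LD2_c31 LD3_c13)) = (LP (LK LD1_c15 LD2_c57 LD3_c18)) :=
  Lgr Lrot45 (Lpr_ft (f397065 IH) (Lpe (f397052 IH) (Lpr_ft (f397038 IH) (Lpn (LP (LK LD1_c15 LD2_c57 LD3_c18))))))
theorem f397441 : Led Lsl_gf (LP (LK LD1_c15 LD2_c57 LD3_c20)) = (LP (LK LD1_c8 LD2_c31 LD3_c12)) :=
  Lgr Lrot47 (Lpr_gt (f397439 IH) (Lpr_af (f397067 IH) (Lpe (f397038 IH) (Lpn (LP (LK LD1_c8 LD2_c31 LD3_c12))))))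
theorem f397791 : Led Lsl_gt (LP (LK LD1_c16 LD2_c17 LD3_c50)) = (LP (LK LD1_c15 LD2_c59 LD3_c41)) :=
  Lgr Lrot82 (Lpe (f397609 IH) (Lpr_ct (f397629 IH) (Lpe (f397788 IH) (Lpr_cf (f397776 IH) (Lpr_bt (f229278 IH) (Lpe (f326159 IH) (Lpe (f326229 IH) (Lpe (f229846 IH) (Lpr_gf (f397441 IH) (Lpe (f260558 IH) (Lpn (LP (LK LD1_c15 LD2_c59 LD3_c41)))))))))))))
theorem f397632 : Led Lsl_ft (LP (LK LD1_c16 LD2_c17 LD3_c50)) = (LP (LK LD1_c8 LD2_c42 LD3_c7)) :=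
  Lre_f IH (LK LD1_c16 LD2_c17 LD3_c50) (LK LD1_c8 LD2_c42 LD3_c7) Lrfl Lrfl
theorem f397062 : Led Lsl_gt (LP (LK LD1_c15 LD2_c59 LD3_c41)) = (LP (LK LD1_c16 LD2_c1 LD3_c45)) :=
  Lre_g IH (LK LD1_c15 LD2_c59 LD3_c41) (LK LD1_c16 LD2_c1 LD3_c45) Lrfl Lrfl
theorem f397795 : Led Lsl_at (LP (LK LD1_c8 LD2_c42 LD3_c7)) = (LP (LK LD1_c16 LD2_c1 LD3_c45)) :=
  Lgr Lrot26 (Lpe (f397632 IH) (Lpr_gt (f397791 IH) (Lpr_gt (f397062 IH) (Lpn (LP (LK LD1_c16 LD2_c1 LD3_c45))))))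
theorem f397607 : Led Lsl_af (LP (LK LD1_c16 LD2_c17 LD3_c50)) = (LP (LK LD1_c9 LD2_c39 LD3_c8)) :=
  Lgr Lrot0 (Lpr_at (f397602 IH) (Lpn (LP (LK LD1_c9 LD2_c39 LD3_c8))))
theorem f397805 : Led Lsl_ff (LP (LK LD1_c9 LD2_c39 LD3_c8)) = (LP (LK LD1_c16 LD2_c1 LD3_c45)) :=
  Lgr Lrot30 (Lpe (f397607 IH) (Lpr_ft (f397632 IH) (Lpr_at (f397795 IH) (Lpn (LP (LK LD1_c16 LD2_c1 LD3_c45))))))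
theorem f397812 : Led Lsl_ft (LP (LK LD1_c9 LD2_c39 LD3_c8)) = (LP (LK LD1_c16 LD2_c1 LD3_c45)) :=
  Lgr Lrot48 (Lpr_ff (f397805 IH) (Lpn (LP (LK LD1_c16 LD2_c1 LD3_c45))))
theorem f397063 : Led Lsl_ct (LP (LK LD1_c16 LD2_c1 LD3_c45)) = (LP (LK LD1_c8 LD2_c32 LD3_c13)) :=
  Lre_c IH (LK LD1_c16 LD2_c1 LD3_c45) (LK LD1_c8 LD2_c32 LD3_c13) Lrfl Lrfl
theorem f397821 : Led Lsl_ff (LP (LK LD1_c15 LD2_c47 LD3_c7)) = (LP (LK LD1_c8 LD2_c32 LD3_c13)) :=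
  Lgr Lrot23 (Lpr_ct (f167053 IH) (Lpr_ft (f397812 IH) (Lpr_ct (f397063 IH) (Lpn (LP (LK LD1_c8 LD2_c32 LD3_c13))))))
theorem f167062 : Led Lsl_dt (LP (LK LD1_c15 LD2_c47 LD3_c7)) = (LP (LK LD1_c25 LD2_c43 LD3_c53)) :=
  Lre_d IH (LK LD1_c15 LD2_c47 LD3_c7) (LK LD1_c25 LD2_c43 LD3_c53) Lrfl Lrfl
theorem f397807 : Led Lsl_dt (LP (LK LD1_c16 LD2_c1 LD3_c46)) = (LP (LK LD1_c8 LD2_c32 LD3_c13)) :=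
  Lre_d IH (LK LD1_c16 LD2_c1 LD3_c46) (LK LD1_c8 LD2_c32 LD3_c13) Lrfl Lrfl
theorem f397832 : Led Lsl_ft (LP (LK LD1_c25 LD2_c43 LD3_c53)) = (LP (LK LD1_c16 LD2_c1 LD3_c46)) :=
  Lgr Lrot54 (Lpe (f167062 IH) (Lpr_ff (f397821 IH) (Lpe (f397807 IH) (Lpn (LP (LK LD1_c16 LD2_c1 LD3_c46))))))
theorem f397857 : Led Lsl_ff (LP (LK LD1_c25 LD2_c43 LD3_c53)) = (LP (LK LD1_c16 LD2_c1 LD3_c46)) :=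
  Lgr Lrot3 (Lpr_ft (f397832 IH) (Lpn (LP (LK LD1_c16 LD2_c1 LD3_c46))))
theorem f397860 : Led Lsl_bt (LP (LK LD1_c25 LD2_c43 LD3_c53)) = (LP (LK LD1_c15 LD2_c47 LD3_c8)) :=
  Lre_b IH (LK LD1_c25 LD2_c43 LD3_c53) (LK LD1_c15 LD2_c47 LD3_c8) Lrfl Lrfl
theorem f397861 : Led Lsl_bt (LP (LK LD1_c8 LD2_c32 LD3_c14)) = (LP (LK LD1_c16 LD2_c1 LD3_c46)) :=
  Lre_b IH (LK LD1_c8 LD2_c32 LD3_c14) (LK LD1_c16 LD2_c1 LD3_c46) Lrfl Lrfl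
theorem f397862 : Led Lsl_ft (LP (LK LD1_c15 LD2_c47 LD3_c8)) = (LP (LK LD1_c8 LD2_c32 LD3_c14)) :=
  Lgr Lrot75 (Lpe (f397860 IH) (Lpr_ff (f397857 IH) (Lpe (f397861 IH) (Lpn (LP (LK LD1_c8 LD2_c32 LD3_c14))))))
theorem f51860 : Led Lsl_dt (LP (LK LD1_c8 LD2_c23 LD3_c40)) = (LP (LK LD1_c15 LD2_c47 LD3_c8)) :=
  Lre_d IH (LK LD1_c8 LD2_c23 LD3_c40) (LK LD1_c15 LD2_c47 LD3_c8) Lrfl Lrfl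
theorem f52078 : Led Lsl_dt (LP (LK LD1_c8 LD2_c32 LD3_c14)) = (LP (LK LD1_c4 LD2_c16 LD3_c30)) :=
  Lre_d IH (LK LD1_c8 LD2_c32 LD3_c14) (LK LD1_c4 LD2_c16 LD3_c30) Lrfl Lrfl
theorem f397864 : Led Lsl_ff (LP (LK LD1_c8 LD2_c23 LD3_c40)) = (LP (LK LD1_c4 LD2_c16 LD3_c30)) :=
  Lgr Lrot19 (Lpr_dt (f51860 IH) (Lpr_ft (f397862 IH) (Lpr_dt (f52078 IH) (Lpn (LP (LK LD1_c4 LD2_c16 LD3_c30))))))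
theorem f1093 : Led Lsl_gt (LP (LK LD1_c4 LD2_c16 LD3_c30)) = (LP (LK LD1_c2 LD2_c5 LD3_c33)) :=
  Lre_g IH (LK LD1_c4 LD2_c16 LD3_c30) (LK LD1_c2 LD2_c5 LD3_c33) Lrfl Lrfl
theorem f1095 : Led Lsl_gt (LP (LK LD1_c2 LD2_c5 LD3_c33)) = (LP (LK LD1_c4 LD2_c16 LD3_c29)) :=
  Lre_g IH (LK LD1_c2 LD2_c5 LD3_c33) (LK LD1_c4 LD2_c16 LD3_c29) Lrfl Lrfl
theorem f397866 : Led Lsl_at (LP (LK LD1_c8 LD2_c23 LD3_c40)) = (LP (LK LD1_c4 LD2_c16 LD3_c29)) :=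
  Lgr Lrot26 (Lpr_ff (f397864 IH) (Lpr_gt (f1093 IH) (Lpr_gt (f1095 IH) (Lpn (LP (LK LD1_c4 LD2_c16 LD3_c29))))))
theorem f397868 : Led Lsl_af (LP (LK LD1_c8 LD2_c23 LD3_c40)) = (LP (LK LD1_c4 LD2_c16 LD3_c29)) :=
  Lgr Lrot0 (Lpr_at (f397866 IH) (Lpn (LP (LK LD1_c4 LD2_c16 LD3_c29))))
theorem f51853 : Led Lsl_at (LP (LK LD1_c8 LD2_c23 LD3_c33)) = (LP (LK LD1_c4 LD2_c11 LD3_c60)) :=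
  Lre_a IH (LK LD1_c8 LD2_c23 LD3_c33) (LK LD1_c4 LD2_c11 LD3_c60) Lrfl Lrfl
theorem f51858 : Led Lsl_gt (LP (LK LD1_c4 LD2_c16 LD3_c31)) = (LP (LK LD1_c8 LD2_c23 LD3_c40)) :=
  Lgr Lrot5 (Lpr_ft (f51841 IH) (Lpr_at (f51853 IH) (Lpe (f51857 IH) (Lpn (LP (LK LD1_c8 LD2_c23 LD3_c40))))))
theorem f51710 : Led Lsl_ff (LP (LK LD1_c2 LD2_c5 LD3_c33)) = (LP (LK LD1_c4 LD2_c11 LD3_c60)) :=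
  Lgr Lrot3 (Lpr_ft (f51695 IH) (Lpn (LP (LK LD1_c4 LD2_c11 LD3_c60))))
theorem f1076 : Led Lsl_at (LP (LK LD1_c2 LD2_c5 LD3_c33)) = (LP (LK LD1_c4 LD2_c16 LD3_c31)) :=
  Lre_a IH (LK LD1_c2 LD2_c5 LD3_c33) (LK LD1_c4 LD2_c16 LD3_c31) Lrfl Lrfl
theorem f52028 : Led Lsl_gt (LP (LK LD1_c4 LD2_c11 LD3_c60)) = (LP (LK LD1_c8 LD2_c23 LD3_c39)) :=
  Lre_g IH (LK LD1_c4 LD2_c11 LD3_c60) (LK LD1_c8 LD2_c23 LD3_c39) Lrfl Lrfl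
theorem f52091 : Led Lsl_gf (LP (LK LD1_c4 LD2_c16 LD3_c31)) = (LP (LK LD1_c8 LD2_c23 LD3_c39)) :=
  Lgr Lrot76 (Lpe (f1076 IH) (Lpr_ff (f51710 IH) (Lpr_gt (f52028 IH) (Lpn (LP (LK LD1_c8 LD2_c23 LD3_c39))))))
theorem f397881 : Led Lsl_ft (LP (LK LD1_c8 LD2_c23 LD3_c39)) = (LP (LK LD1_c4 LD2_c16 LD3_c29)) :=
  Lgr Lrot2 (Lpe (f52091 IH) (Lpr_gt (f51858 IH) (Lpr_af (f397868 IH) (Lpn (LP (LK LD1_c4 LD2_c16 LD3_c29))))))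
theorem f397887 : Led Lsl_ff (LP (LK LD1_c8 LD2_c23 LD3_c39)) = (LP (LK LD1_c4 LD2_c16 LD3_c29)) :=
  Lgr Lrot3 (Lpr_ft (f397881 IH) (Lpn (LP (LK LD1_c4 LD2_c16 LD3_c29))))
theorem f374460 : Led Lsl_bt (LP (LK LD1_c8 LD2_c23 LD3_c39)) = (LP (LK LD1_c15 LD2_c47 LD3_c5)) :=
  Lre_b IH (LK LD1_c8 LD2_c23 LD3_c39) (LK LD1_c15 LD2_c47 LD3_c5) Lrfl Lrfl
theorem f52070 : Led Lsl_bt (LP (LK LD1_c8 LD2_c32 LD3_c11)) = (LP (LK LD1_c4 LD2_c16 LD3_c29)) :=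
  Lre_b IH (LK LD1_c8 LD2_c32 LD3_c11) (LK LD1_c4 LD2_c16 LD3_c29) Lrfl Lrfl
theorem f397891 : Led Lsl_ft (LP (LK LD1_c15 LD2_c47 LD3_c5)) = (LP (LK LD1_c8 LD2_c32 LD3_c11)) :=
  Lgr Lrot75 (Lpe (f374460 IH) (Lpr_ff (f397887 IH) (Lpe (f52070 IH) (Lpn (LP (LK LD1_c8 LD2_c32 LD3_c11))))))
theorem f243197 : Led Lsl_ct (LP (LK LD1_c15 LD2_c58 LD3_c42)) = (LP (LK LD1_c8 LD2_c30 LD3_c29)) :=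
  Lre_c IH (LK LD1_c15 LD2_c58 LD3_c42) (LK LD1_c8 LD2_c30 LD3_c29) Lrfl Lrfl
theorem f243528 : Led Lsl_bt (LP (LK LD1_c8 LD2_c30 LD3_c29)) = (LP (LK LD1_c4 LD2_c15 LD3_c44)) :=
  Lre_b IH (LK LD1_c8 LD2_c30 LD3_c29) (LK LD1_c4 LD2_c15 LD3_c44) Lrfl Lrfl
theorem f312056 : Led Lsl_df (LP (LK LD1_c4 LD2_c16 LD3_c3)) = (LP (LK LD1_c8 LD2_c30 LD3_c31)) :=
  Lgr Lrot38 (Lpr_dt (K19.f312043 IH) (Lpn (LP (LK LD1_c8 LD2_c30 LD3_c31))))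
theorem f52469 : Led Lsl_ct (LP (LK LD1_c4 LD2_c4 LD3_c11)) = (LP (LK LD1_c8 LD2_c9 LD3_c8)) :=
  Lre_c IH (LK LD1_c4 LD2_c4 LD3_c11) (LK LD1_c8 LD2_c9 LD3_c8) Lrfl Lrfl
theorem f52514 : Led Lsl_dt (LP (LK LD1_c8 LD2_c9 LD3_c9)) = (LP (LK LD1_c4 LD2_c4 LD3_c11)) :=
  Lre_d IH (LK LD1_c8 LD2_c9 LD3_c9) (LK LD1_c4 LD2_c4 LD3_c11) Lrfl Lrfl
theorem f253252 : Led Lsl_bf (LP (LK LD1_c1 LD2_c0 LD3_c32)) = (LP (LK LD1_c2 LD2_c6 LD3_c4)) :=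
  Lgr Lrot90 (Lpr_ct (K12.f180100 IH) (Lpr_bt (K10.f170293 IH) (Lpr_ct (K14.f170287 IH) (Lpr_bt (K14.f170290 IH) (Lpr_ct (K14.f253249 IH) (Lpn (LP (LK LD1_c2 LD2_c6 LD3_c4))))))))
theorem f374000 : Led Lsl_ct (LP (LK LD1_c4 LD2_c16 LD3_c3)) = (LP (LK LD1_c2 LD2_c40 LD3_c4)) :=
  Lgr Lrot191 (Lpr_df (f312056 IH) (Lpe (K16.f243468 IH) (Lpe (f243528 IH) (Lpe (f243197 IH) (Lpr_df (K27.f373748 IH) (Lpe (K27.f373721 IH) (Lpe (K27.f200869 IH) (Lpe (f52469 IH) (Lpe (f52514 IH) (Lpe (K18.f280041 IH) (Lpe (K18.f28837 IH) (Lpe (K13.f28827 IH) (Lpe (K9.f28824 IH) (Lpr_gf (K12.f211441 IH) (Lpr_bf (f253252 IH) (Lpe (K14.f253249 IH) (Lpe (K16.f270917 IH) (Lpr_gf (K16.f279196 IH) (Lpe (K19.f312075 IH) (Lpn (LP (LK LD1_c2 LD2_c40 LD3_c4))))))))))))))))))))))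
theorem f374008 : Led Lsl_ff (LP (LK LD1_c4 LD2_c16 LD3_c3)) = (LP (LK LD1_c5 LD2_c14 LD3_c54)) :=
  Lgr Lrot23 (Lpr_ct (f374000 IH) (Lpr_ft (K19.f312088 IH) (Lpr_ct (K16.f33444 IH) (Lpn (LP (LK LD1_c5 LD2_c14 LD3_c54))))))
theorem f374010 : Led Lsl_bt (LP (LK LD1_c4 LD2_c16 LD3_c3)) = (LP (LK LD1_c8 LD2_c31 LD3_c9)) :=
  Lre_b IH (LK LD1_c4 LD2_c16 LD3_c3) (LK LD1_c8 LD2_c31 LD3_c9) Lrfl Lrfl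
theorem f53850 : Led Lsl_bt (LP (LK LD1_c10 LD2_c19 LD3_c10)) = (LP (LK LD1_c5 LD2_c14 LD3_c54)) :=
  Lre_b IH (LK LD1_c10 LD2_c19 LD3_c10) (LK LD1_c5 LD2_c14 LD3_c54) Lrfl Lrfl
theorem f374066 : Led Lsl_ft (LP (LK LD1_c8 LD2_c31 LD3_c9)) = (LP (LK LD1_c10 LD2_c19 LD3_c10)) :=
  Lgr Lrot75 (Lpe (f374010 IH) (Lpr_ff (f374008 IH) (Lpe (f53850 IH) (Lpn (LP (LK LD1_c10 LD2_c19 LD3_c10))))))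
theorem f312051 : Led Lsl_bt (LP (LK LD1_c8 LD2_c31 LD3_c9)) = (LP (LK LD1_c4 LD2_c16 LD3_c3)) :=
  Lre_b IH (LK LD1_c8 LD2_c31 LD3_c9) (LK LD1_c4 LD2_c16 LD3_c3) Lrfl Lrfl
theorem f279259 : Led Lsl_bt (LP (LK LD1_c4 LD2_c19 LD3_c22)) = (LP (LK LD1_c8 LD2_c37 LD3_c4)) :=
  Lre_b IH (LK LD1_c4 LD2_c19 LD3_c22) (LK LD1_c8 LD2_c37 LD3_c4) Lrfl Lrfl
theorem f374004 : Led Lsl_cf (LP (LK LD1_c8 LD2_c31 LD3_c9)) = (LP (LK LD1_c8 LD2_c37 LD3_c4)) :=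
  Lgr Lrot97 (Lpr_bt (f312051 IH) (Lpr_ct (f374000 IH) (Lpr_bt (K19.f312075 IH) (Lpr_ct (K17.f279258 IH) (Lpr_bt (f279259 IH) (Lpn (LP (LK LD1_c8 LD2_c37 LD3_c4))))))))
theorem f53985 : Led Lsl_bt (LP (LK LD1_c8 LD2_c10 LD3_c50)) = (LP (LK LD1_c4 LD2_c5 LD3_c1)) :=
  Lre_b IH (LK LD1_c8 LD2_c10 LD3_c50) (LK LD1_c4 LD2_c5 LD3_c1) Lrfl Lrfl
theorem f53986 : Led Lsl_et (LP (LK LD1_c8 LD2_c12 LD3_c61)) = (LP (LK LD1_c8 LD2_c10 LD3_c50)) :=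
  Lgr Lrot74 (Lpe (K12.f53741 IH) (Lpr_ef (K12.f53981 IH) (Lpe (f53985 IH) (Lpn (LP (LK LD1_c8 LD2_c10 LD3_c50))))))
theorem f54014 : Led Lsl_ef (LP (LK LD1_c8 LD2_c12 LD3_c61)) = (LP (LK LD1_c8 LD2_c10 LD3_c50)) :=
  Lgr Lrot88 (Lpr_et (f53986 IH) (Lpn (LP (LK LD1_c8 LD2_c10 LD3_c50))))
theorem f53848 : Led Lsl_et (LP (LK LD1_c5 LD2_c14 LD3_c54)) = (LP (LK LD1_c5 LD2_c17 LD3_c11)) :=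
  Lgr Lrot158 (Lpe (K16.f33444 IH) (Lpr_ef (K21.f53845 IH) (Lpe (K12.f44941 IH) (Lpn (LP (LK LD1_c5 LD2_c17 LD3_c11))))))
theorem f53851 : Led Lsl_ef (LP (LK LD1_c10 LD2_c19 LD3_c10)) = (LP (LK LD1_c10 LD2_c24 LD3_c0)) :=
  Lgr Lrot29 (Lpr_bt (f53850 IH) (Lpr_et (f53848 IH) (Lpr_bt (K12.f53763 IH) (Lpn (LP (LK LD1_c10 LD2_c24 LD3_c0))))))
theorem f54023 : Led Lsl_ct (LP (LK LD1_c10 LD2_c19 LD3_c10)) = (LP (LK LD1_c8 LD2_c10 LD3_c50)) :=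
  Lgr Lrot15 (Lpr_ef (f53851 IH) (Lpr_cf (K12.f53742 IH) (Lpr_ef (f54014 IH) (Lpn (LP (LK LD1_c8 LD2_c10 LD3_c50))))))
theorem f374375 : Led Lsl_ff (LP (LK LD1_c8 LD2_c37 LD3_c4)) = (LP (LK LD1_c8 LD2_c10 LD3_c50)) :=
  Lgr Lrot23 (Lpe (f374004 IH) (Lpr_ft (f374066 IH) (Lpr_ct (f54023 IH) (Lpn (LP (LK LD1_c8 LD2_c10 LD3_c50))))))
theorem f374379 : Led Lsl_at (LP (LK LD1_c8 LD2_c37 LD3_c4)) = (LP (LK LD1_c16 LD2_c8 LD3_c41)) :=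
  Lre_a IH (LK LD1_c8 LD2_c37 LD3_c4) (LK LD1_c16 LD2_c8 LD3_c41) Lrfl Lrfl
theorem f54019 : Led Lsl_at (LP (LK LD1_c15 LD2_c24 LD3_c14)) = (LP (LK LD1_c8 LD2_c10 LD3_c50)) :=
  Lre_a IH (LK LD1_c15 LD2_c24 LD3_c14) (LK LD1_c8 LD2_c10 LD3_c50) Lrfl Lrfl
theorem f374380 : Led Lsl_ft (LP (LK LD1_c16 LD2_c8 LD3_c41)) = (LP (LK LD1_c15 LD2_c24 LD3_c14)) :=
  Lgr Lrot101 (Lpe (f374379 IH) (Lpr_ff (f374375 IH) (Lpe (f54019 IH) (Lpn (LP (LK LD1_c15 LD2_c24 LD3_c14))))))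
theorem f54017 : Led Lsl_gt (LP (LK LD1_c15 LD2_c24 LD3_c13)) = (LP (LK LD1_c8 LD2_c10 LD3_c50)) :=
  Lre_g IH (LK LD1_c15 LD2_c24 LD3_c13) (LK LD1_c8 LD2_c10 LD3_c50) Lrfl Lrfl
theorem f374455 : Led Lsl_gt (LP (LK LD1_c16 LD2_c8 LD3_c41)) = (LP (LK LD1_c15 LD2_c24 LD3_c13)) :=
  Lgr Lrot5 (Lpr_ft (f374380 IH) (Lpr_at (f54019 IH) (Lpe (f54017 IH) (Lpn (LP (LK LD1_c15 LD2_c24 LD3_c13))))))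
theorem f374385 : Led Lsl_ft (LP (LK LD1_c8 LD2_c37 LD3_c4)) = (LP (LK LD1_c8 LD2_c10 LD3_c50)) :=
  Lgr Lrot48 (Lpr_ff (f374375 IH) (Lpn (LP (LK LD1_c8 LD2_c10 LD3_c50))))
theorem f53748 : Led Lsl_ct (LP (LK LD1_c10 LD2_c24 LD3_c0)) = (LP (LK LD1_c8 LD2_c12 LD3_c61)) :=
  Lgr Lrot59 (Lpr_cf (K12.f53742 IH) (Lpn (LP (LK LD1_c8 LD2_c12 LD3_c61))))
theorem f53857 : Led Lsl_ef (LP (LK LD1_c5 LD2_c14 LD3_c54)) = (LP (LK LD1_c5 LD2_c17 LD3_c11)) :=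
  Lgr Lrot88 (Lpr_et (f53848 IH) (Lpn (LP (LK LD1_c5 LD2_c17 LD3_c11))))
theorem f53860 : Led Lsl_bt (LP (LK LD1_c5 LD2_c14 LD3_c54)) = (LP (LK LD1_c10 LD2_c19 LD3_c10)) :=
  Lre_b IH (LK LD1_c5 LD2_c14 LD3_c54) (LK LD1_c10 LD2_c19 LD3_c10) Lrfl Lrfl
theorem f53861 : Led Lsl_et (LP (LK LD1_c10 LD2_c19 LD3_c10)) = (LP (LK LD1_c10 LD2_c24 LD3_c0)) :=
  Lgr Lrot74 (Lpe (f53860 IH) (Lpr_ef (f53857 IH) (Lpe (K12.f53740 IH) (Lpn (LP (LK LD1_c10 LD2_c24 LD3_c0))))))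
theorem f54011 : Led Lsl_cf (LP (LK LD1_c10 LD2_c19 LD3_c10)) = (LP (LK LD1_c8 LD2_c10 LD3_c50)) :=
  Lgr Lrot39 (Lpr_et (f53861 IH) (Lpr_ct (f53748 IH) (Lpr_et (f53986 IH) (Lpn (LP (LK LD1_c8 LD2_c10 LD3_c50))))))
theorem f312070 : Led Lsl_et (LP (LK LD1_c4 LD2_c16 LD3_c3)) = (LP (LK LD1_c8 LD2_c31 LD3_c10)) :=
  Lre_e IH (LK LD1_c4 LD2_c16 LD3_c3) (LK LD1_c8 LD2_c31 LD3_c10) Lrfl Lrfl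
theorem f222903 : Led Lsl_et (LP (LK LD1_c8 LD2_c18 LD3_c38)) = (LP (LK LD1_c4 LD2_c9 LD3_c18)) :=
  Lre_e IH (LK LD1_c8 LD2_c18 LD3_c38) (LK LD1_c4 LD2_c9 LD3_c18) Lrfl Lrfl
theorem f374070 : Led Lsl_ft (LP (LK LD1_c8 LD2_c31 LD3_c10)) = (LP (LK LD1_c8 LD2_c18 LD3_c38)) :=
  Lgr Lrot86 (Lpe (f312070 IH) (Lpr_ff (f374008 IH) (Lpr_ef (f53857 IH) (Lpe (K12.f222897 IH) (Lpe (f222903 IH) (Lpn (LP (LK LD1_c8 LD2_c18 LD3_c38))))))))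
theorem f374073 : Led Lsl_ff (LP (LK LD1_c8 LD2_c31 LD3_c10)) = (LP (LK LD1_c8 LD2_c18 LD3_c38)) :=
  Lgr Lrot3 (Lpr_ft (f374070 IH) (Lpn (LP (LK LD1_c8 LD2_c18 LD3_c38))))
theorem f222082 : Led Lsl_ft (LP (LK LD1_c4 LD2_c12 LD3_c55)) = (LP (LK LD1_c2 LD2_c35 LD3_c20)) :=
  Lgr Lrot75 (Lpe (K17.f222081 IH) (Lpr_ff (K12.f222077 IH) (Lpe (K10.f53734 IH) (Lpn (LP (LK LD1_c2 LD2_c35 LD3_c20))))))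
theorem f312086 : Led Lsl_ft (LP (LK LD1_c5 LD2_c27 LD3_c25)) = (LP (LK LD1_c8 LD2_c25 LD3_c6)) :=
  Lgr Lrot86 (Lpe (K23.f278097 IH) (Lpr_ff (K19.f312082 IH) (Lpr_ef (K21.f53845 IH) (Lpe (f222082 IH) (Lpe (K23.f222207 IH) (Lpn (LP (LK LD1_c8 LD2_c25 LD3_c6))))))))
theorem f374155 : Led Lsl_ct (LP (LK LD1_c8 LD2_c31 LD3_c10)) = (LP (LK LD1_c5 LD2_c27 LD3_c25)) :=
  Lgr Lrot40 (Lpr_ff (f374073 IH) (Lpe (K12.f222205 IH) (Lpe (f312086 IH) (Lpn (LP (LK LD1_c5 LD2_c27 LD3_c25))))))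
theorem f312094 : Led Lsl_at (LP (LK LD1_c5 LD2_c27 LD3_c25)) = (LP (LK LD1_c8 LD2_c56 LD3_c22)) :=
  Lgr Lrot66 (Lpr_ff (K23.f312092 IH) (Lpr_af (K12.f222835 IH) (Lpe (K23.f218103 IH) (Lpn (LP (LK LD1_c8 LD2_c56 LD3_c22))))))
theorem f374157 : Led Lsl_af (LP (LK LD1_c8 LD2_c31 LD3_c10)) = (LP (LK LD1_c15 LD2_c57 LD3_c8)) :=
  Lgr Lrot68 (Lpr_ct (f374155 IH) (Lpr_at (f312094 IH) (Lpe (K23.f271487 IH) (Lpn (LP (LK LD1_c15 LD2_c57 LD3_c8))))))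
theorem f374163 : Led Lsl_ft (LP (LK LD1_c10 LD2_c50 LD3_c20)) = (LP (LK LD1_c15 LD2_c57 LD3_c8)) :=
  Lgr Lrot101 (Lpe (K12.f222831 IH) (Lpe (f374070 IH) (Lpr_af (f374157 IH) (Lpn (LP (LK LD1_c15 LD2_c57 LD3_c8))))))
theorem f374173 : Led Lsl_cf (LP (LK LD1_c8 LD2_c56 LD3_c22)) = (LP (LK LD1_c15 LD2_c57 LD3_c8)) :=
  Lgr Lrot108 (Lpr_ft (K23.f218103 IH) (Lpr_ct (K25.f212840 IH) (Lpr_ft (f374163 IH) (Lpn (LP (LK LD1_c15 LD2_c57 LD3_c8))))))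
theorem f188823 : Led Lsl_bt (LP (LK LD1_c8 LD2_c34 LD3_c19)) = (LP (LK LD1_c16 LD2_c5 LD3_c15)) :=
  Lre_b IH (LK LD1_c8 LD2_c34 LD3_c19) (LK LD1_c16 LD2_c5 LD3_c15) Lrfl Lrfl
theorem f341544 : Led Lsl_bt (LP (LK LD1_c25 LD2_c53 LD3_c34)) = (LP (LK LD1_c15 LD2_c57 LD3_c8)) :=
  Lre_b IH (LK LD1_c25 LD2_c53 LD3_c34) (LK LD1_c15 LD2_c57 LD3_c8) Lrfl Lrfl
theorem f374179 : Led Lsl_ct (LP (LK LD1_c16 LD2_c5 LD3_c15)) = (LP (LK LD1_c25 LD2_c53 LD3_c34)) :=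
  Lgr Lrot83 (Lpe (f188823 IH) (Lpe (K20.f188819 IH) (Lpr_bf (K23.f188803 IH) (Lpr_cf (f374173 IH) (Lpe (f341544 IH) (Lpn (LP (LK LD1_c25 LD2_c53 LD3_c34))))))))
theorem f191993 : Led Lsl_et (LP (LK LD1_c8 LD2_c34 LD3_c18)) = (LP (LK LD1_c16 LD2_c5 LD3_c15)) :=
  Lre_e IH (LK LD1_c8 LD2_c34 LD3_c18) (LK LD1_c16 LD2_c5 LD3_c15) Lrfl Lrfl
theorem f271514 : Led Lsl_et (LP (LK LD1_c25 LD2_c53 LD3_c34)) = (LP (LK LD1_c15 LD2_c57 LD3_c7)) :=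
  Lre_e IH (LK LD1_c25 LD2_c53 LD3_c34) (LK LD1_c15 LD2_c57 LD3_c7) Lrfl Lrfl
theorem f374188 : Led Lsl_cf (LP (LK LD1_c8 LD2_c34 LD3_c18)) = (LP (LK LD1_c15 LD2_c57 LD3_c7)) :=
  Lgr Lrot39 (Lpr_et (f191993 IH) (Lpr_ct (f374179 IH) (Lpr_et (f271514 IH) (Lpn (LP (LK LD1_c15 LD2_c57 LD3_c7))))))
theorem f243539 : Led Lsl_bt (LP (LK LD1_c8 LD2_c31 LD3_c11)) = (LP (LK LD1_c4 LD2_c16 LD3_c4)) :=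
  Lre_b IH (LK LD1_c8 LD2_c31 LD3_c11) (LK LD1_c4 LD2_c16 LD3_c4) Lrfl Lrfl
theorem f243580 : Led Lsl_ct (LP (LK LD1_c8 LD2_c22 LD3_c36)) = (LP (LK LD1_c8 LD2_c31 LD3_c11)) :=
  Lgr Lrot83 (Lpe (K27.f191976 IH) (Lpe (K11.f191974 IH) (Lpr_bf (K10.f53833 IH) (Lpr_cf (K13.f243568 IH) (Lpe (f243539 IH) (Lpn (LP (LK LD1_c8 LD2_c31 LD3_c11))))))))
theorem f374190 : Led Lsl_ft (LP (LK LD1_c8 LD2_c31 LD3_c11)) = (LP (LK LD1_c15 LD2_c57 LD3_c7)) :=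
  Lgr Lrot4 (Lpe (f243580 IH) (Lpe (K27.f191983 IH) (Lpr_cf (f374188 IH) (Lpn (LP (LK LD1_c15 LD2_c57 LD3_c7))))))
theorem f51546 : Led Lsl_bt (LP (LK LD1_c0 LD2_c58 LD3_c28)) = (LP (LK LD1_c2 LD2_c3 LD3_c8)) :=
  Lre_b IH (LK LD1_c0 LD2_c58 LD3_c28) (LK LD1_c2 LD2_c3 LD3_c8) Lrfl Lrfl
theorem f51548 : Led Lsl_bt (LP (LK LD1_c4 LD2_c11 LD3_c60)) = (LP (LK LD1_c2 LD2_c5 LD3_c35)) :=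
  Lgr Lrot128 (Lpe (f51547 IH) (Lpe (f51546 IH) (Lpr_cf (K9.f51542 IH) (Lpe (K9.f51470 IH) (Lpe (K11.f49073 IH) (Lpn (LP (LK LD1_c2 LD2_c5 LD3_c35))))))))
theorem f1215 : Led Lsl_gt (LP (LK LD1_c4 LD2_c11 LD3_c59)) = (LP (LK LD1_c2 LD2_c3 LD3_c8)) :=
  Lre_g IH (LK LD1_c4 LD2_c11 LD3_c59) (LK LD1_c2 LD2_c3 LD3_c8) Lrfl Lrfl
theorem f52110 : Led Lsl_ct (LP (LK LD1_c8 LD2_c23 LD3_c37)) = (LP (LK LD1_c4 LD2_c11 LD3_c59)) :=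
  Lre_c IH (LK LD1_c8 LD2_c23 LD3_c37) (LK LD1_c4 LD2_c11 LD3_c59) Lrfl Lrfl
theorem f52111 : Led Lsl_bt (LP (LK LD1_c8 LD2_c23 LD3_c37)) = (LP (LK LD1_c15 LD2_c47 LD3_c3)) :=
  Lre_b IH (LK LD1_c8 LD2_c23 LD3_c37) (LK LD1_c15 LD2_c47 LD3_c3) Lrfl Lrfl
theorem f243565 : Led Lsl_bt (LP (LK LD1_c4 LD2_c16 LD3_c4)) = (LP (LK LD1_c8 LD2_c31 LD3_c11)) :=
  Lre_b IH (LK LD1_c4 LD2_c16 LD3_c4) (LK LD1_c8 LD2_c31 LD3_c11) Lrfl Lrfl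
theorem f365464 : Led Lsl_gf (LP (LK LD1_c15 LD2_c47 LD3_c3)) = (LP (LK LD1_c8 LD2_c31 LD3_c11)) :=
  Lgr Lrot124 (Lpe (f52111 IH) (Lpr_ct (f52110 IH) (Lpr_gt (f1215 IH) (Lpe (f51694 IH) (Lpr_bt (f51548 IH) (Lpr_gt (K16.f49071 IH) (Lpr_ct (K27.f365452 IH) (Lpr_gt (K23.f33443 IH) (Lpr_cf (K13.f243568 IH) (Lpr_bt (f243565 IH) (Lpn (LP (LK LD1_c8 LD2_c31 LD3_c11)))))))))))))
theorem f52112 : Led Lsl_gt (LP (LK LD1_c15 LD2_c47 LD3_c3)) = (LP (LK LD1_c25 LD2_c43 LD3_c44)) :=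
  Lre_g IH (LK LD1_c15 LD2_c47 LD3_c3) (LK LD1_c25 LD2_c43 LD3_c44) Lrfl Lrfl
theorem f374215 : Led Lsl_af (LP (LK LD1_c25 LD2_c43 LD3_c44)) = (LP (LK LD1_c15 LD2_c57 LD3_c7)) :=
  Lgr Lrot31 (Lpe (f52112 IH) (Lpr_gf (f365464 IH) (Lpr_ft (f374190 IH) (Lpn (LP (LK LD1_c15 LD2_c57 LD3_c7))))))
theorem f266959 : Led Lsl_at (LP (LK LD1_c15 LD2_c59 LD3_c39)) = (LP (LK LD1_c8 LD2_c31 LD3_c11)) :=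
  Lre_a IH (LK LD1_c15 LD2_c59 LD3_c39) (LK LD1_c8 LD2_c31 LD3_c11) Lrfl Lrfl
theorem f374224 : Led Lsl_ft (LP (LK LD1_c25 LD2_c43 LD3_c44)) = (LP (LK LD1_c15 LD2_c59 LD3_c39)) :=
  Lgr Lrot101 (Lpr_af (f374215 IH) (Lpe (f374190 IH) (Lpe (f266959 IH) (Lpn (LP (LK LD1_c15 LD2_c59 LD3_c39))))))
theorem f374226 : Led Lsl_ff (LP (LK LD1_c25 LD2_c43 LD3_c44)) = (LP (LK LD1_c15 LD2_c59 LD3_c39)) :=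
  Lgr Lrot3 (Lpr_ft (f374224 IH) (Lpn (LP (LK LD1_c15 LD2_c59 LD3_c39))))
theorem f222056 : Led Lsl_bt (LP (LK LD1_c15 LD2_c57 LD3_c7)) = (LP (LK LD1_c8 LD2_c29 LD3_c47)) :=
  Lre_b IH (LK LD1_c15 LD2_c57 LD3_c7) (LK LD1_c8 LD2_c29 LD3_c47) Lrfl Lrfl
theorem f271480 : Led Lsl_cf (LP (LK LD1_c15 LD2_c57 LD3_c7)) = (LP (LK LD1_c8 LD2_c34 LD3_c18)) :=
  Lgr Lrot97 (Lpr_bt (f222056 IH) (Lpr_ct (K16.f271475 IH) (Lpe (K10.f188766 IH) (Lpr_ct (K17.f188807 IH) (Lpr_bt (K27.f188809 IH) (Lpn (LP (LK LD1_c8 LD2_c34 LD3_c18))))))))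
theorem f192011 : Led Lsl_at (LP (LK LD1_c16 LD2_c5 LD3_c14)) = (LP (LK LD1_c8 LD2_c34 LD3_c18)) :=
  Lre_a IH (LK LD1_c16 LD2_c5 LD3_c14) (LK LD1_c8 LD2_c34 LD3_c18) Lrfl Lrfl
theorem f374222 : Led Lsl_ct (LP (LK LD1_c25 LD2_c43 LD3_c44)) = (LP (LK LD1_c16 LD2_c5 LD3_c14)) :=
  Lgr Lrot111 (Lpr_af (f374215 IH) (Lpr_cf (f271480 IH) (Lpe (f192011 IH) (Lpn (LP (LK LD1_c16 LD2_c5 LD3_c14))))))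
theorem f188826 : Led Lsl_bt (LP (LK LD1_c8 LD2_c34 LD3_c18)) = (LP (LK LD1_c4 LD2_c17 LD3_c39)) :=
  Lre_b IH (LK LD1_c8 LD2_c34 LD3_c18) (LK LD1_c4 LD2_c17 LD3_c39) Lrfl Lrfl
theorem f191987 : Led Lsl_ff (LP (LK LD1_c8 LD2_c34 LD3_c18)) = (LP (LK LD1_c8 LD2_c22 LD3_c36)) :=
  Lgr Lrot25 (Lpr_bt (f188826 IH) (Lpr_ft (K17.f191985 IH) (Lpr_bt (K27.f191976 IH) (Lpn (LP (LK LD1_c8 LD2_c22 LD3_c36))))))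
theorem f191989 : Led Lsl_at (LP (LK LD1_c8 LD2_c34 LD3_c18)) = (LP (LK LD1_c16 LD2_c5 LD3_c14)) :=
  Lre_a IH (LK LD1_c8 LD2_c34 LD3_c18) (LK LD1_c16 LD2_c5 LD3_c14) Lrfl Lrfl
theorem f191990 : Led Lsl_at (LP (LK LD1_c15 LD2_c45 LD3_c44)) = (LP (LK LD1_c8 LD2_c22 LD3_c36)) :=
  Lre_a IH (LK LD1_c15 LD2_c45 LD3_c44) (LK LD1_c8 LD2_c22 LD3_c36) Lrfl Lrfl
theorem f191991 : Led Lsl_ft (LP (LK LD1_c16 LD2_c5 LD3_c14)) = (LP (LK LD1_c15 LD2_c45 LD3_c44)) :=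
  Lgr Lrot101 (Lpe (f191989 IH) (Lpr_ff (f191987 IH) (Lpe (f191990 IH) (Lpn (LP (LK LD1_c15 LD2_c45 LD3_c44))))))
theorem f374231 : Led Lsl_ct (LP (LK LD1_c15 LD2_c45 LD3_c44)) = (LP (LK LD1_c15 LD2_c59 LD3_c39)) :=
  Lgr Lrot40 (Lpe (f191991 IH) (Lpe (f374222 IH) (Lpr_ff (f374226 IH) (Lpn (LP (LK LD1_c15 LD2_c59 LD3_c39))))))
theorem f221942 : Led Lsl_ef (LP (LK LD1_c15 LD2_c45 LD3_c44)) = (LP (LK LD1_c16 LD2_c6 LD3_c10)) :=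
  Lgr Lrot20 (Lpr_at (f191990 IH) (Lpr_et (K27.f221939 IH) (Lpr_at (K27.f221923 IH) (Lpn (LP (LK LD1_c16 LD2_c6 LD3_c10))))))
theorem f234444 : Led Lsl_ff (LP (LK LD1_c10 LD2_c24 LD3_c1)) = (LP (LK LD1_c8 LD2_c17 LD3_c37)) :=
  Lgr Lrot52 (Lpe (K13.f222963 IH) (Lpe (K14.f234330 IH) (Lpr_gf (K15.f234441 IH) (Lpn (LP (LK LD1_c8 LD2_c17 LD3_c37))))))
theorem f234427 : Led Lsl_at (LP (LK LD1_c10 LD2_c50 LD3_c19)) = (LP (LK LD1_c8 LD2_c17 LD3_c37)) :=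
  Lgr Lrot51 (Lpe (K12.f212872 IH) (Lpe (K14.f222825 IH) (Lpr_df (K14.f234420 IH) (Lpn (LP (LK LD1_c8 LD2_c17 LD3_c37))))))
theorem f234495 : Led Lsl_ft (LP (LK LD1_c8 LD2_c17 LD3_c38)) = (LP (LK LD1_c10 LD2_c50 LD3_c19)) :=
  Lgr Lrot101 (Lpr_af (K13.f222963 IH) (Lpr_ff (f234444 IH) (Lpe (f234427 IH) (Lpn (LP (LK LD1_c10 LD2_c50 LD3_c19))))))
theorem f222751 : Led Lsl_bt (LP (LK LD1_c15 LD2_c35 LD3_c48)) = (LP (LK LD1_c8 LD2_c17 LD3_c38)) :=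
  Lre_b IH (LK LD1_c15 LD2_c35 LD3_c48) (LK LD1_c8 LD2_c17 LD3_c38) Lrfl Lrfl
theorem f222521 : Led Lsl_bt (LP (LK LD1_c10 LD2_c50 LD3_c19)) = (LP (LK LD1_c19 LD2_c35 LD3_c38)) :=
  Lre_b IH (LK LD1_c10 LD2_c50 LD3_c19) (LK LD1_c19 LD2_c35 LD3_c38) Lrfl Lrfl
theorem f234509 : Led Lsl_ff (LP (LK LD1_c15 LD2_c35 LD3_c48)) = (LP (LK LD1_c19 LD2_c35 LD3_c38)) :=
  Lgr Lrot25 (Lpr_bt (f222751 IH) (Lpr_ft (f234495 IH) (Lpr_bt (f222521 IH) (Lpn (LP (LK LD1_c19 LD2_c35 LD3_c38))))))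
theorem f234518 : Led Lsl_ft (LP (LK LD1_c15 LD2_c35 LD3_c48)) = (LP (LK LD1_c19 LD2_c35 LD3_c38)) :=
  Lgr Lrot48 (Lpr_ff (f234509 IH) (Lpn (LP (LK LD1_c19 LD2_c35 LD3_c38))))
theorem f222777 : Led Lsl_at (LP (LK LD1_c25 LD2_c30 LD3_c15)) = (LP (LK LD1_c15 LD2_c35 LD3_c48)) :=
  Lre_a IH (LK LD1_c25 LD2_c30 LD3_c15) (LK LD1_c15 LD2_c35 LD3_c48) Lrfl Lrfl
theorem f234520 : Led Lsl_at (LP (LK LD1_c19 LD2_c35 LD3_c38)) = (LP (LK LD1_c28 LD2_c57 LD3_c34)) :=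
  Lre_a IH (LK LD1_c19 LD2_c35 LD3_c38) (LK LD1_c28 LD2_c57 LD3_c34) Lrfl Lrfl
theorem f234521 : Led Lsl_ff (LP (LK LD1_c25 LD2_c30 LD3_c15)) = (LP (LK LD1_c28 LD2_c57 LD3_c34)) :=
  Lgr Lrot30 (Lpr_at (f222777 IH) (Lpr_ft (f234518 IH) (Lpr_at (f234520 IH) (Lpn (LP (LK LD1_c28 LD2_c57 LD3_c34))))))
theorem f222753 : Led Lsl_bt (LP (LK LD1_c4 LD2_c9 LD3_c19)) = (LP (LK LD1_c8 LD2_c18 LD3_c39)) :=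
  Lre_b IH (LK LD1_c4 LD2_c9 LD3_c19) (LK LD1_c8 LD2_c18 LD3_c39) Lrfl Lrfl
theorem f222754 : Led Lsl_dt (LP (LK LD1_c8 LD2_c18 LD3_c39)) = (LP (LK LD1_c15 LD2_c35 LD3_c48)) :=
  Lgr Lrot79 (Lpe (f222753 IH) (Lpr_df (K12.f222746 IH) (Lpe (f222751 IH) (Lpn (LP (LK LD1_c15 LD2_c35 LD3_c48))))))
theorem f222762 : Led Lsl_at (LP (LK LD1_c15 LD2_c37 LD3_c53)) = (LP (LK LD1_c8 LD2_c18 LD3_c39)) :=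
  Lre_a IH (LK LD1_c15 LD2_c37 LD3_c53) (LK LD1_c8 LD2_c18 LD3_c39) Lrfl Lrfl
theorem f222763 : Led Lsl_at (LP (LK LD1_c15 LD2_c35 LD3_c48)) = (LP (LK LD1_c25 LD2_c30 LD3_c15)) :=
  Lre_a IH (LK LD1_c15 LD2_c35 LD3_c48) (LK LD1_c25 LD2_c30 LD3_c15) Lrfl Lrfl
theorem f222764 : Led Lsl_df (LP (LK LD1_c15 LD2_c37 LD3_c53)) = (LP (LK LD1_c25 LD2_c30 LD3_c15)) :=
  Lgr Lrot18 (Lpr_at (f222762 IH) (Lpr_dt (f222754 IH) (Lpr_at (f222763 IH) (Lpn (LP (LK LD1_c25 LD2_c30 LD3_c15))))))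
theorem f219920 : Led Lsl_dt (LP (LK LD1_c19 LD2_c35 LD3_c37)) = (LP (LK LD1_c28 LD2_c57 LD3_c34)) :=
  Lre_d IH (LK LD1_c19 LD2_c35 LD3_c37) (LK LD1_c28 LD2_c57 LD3_c34) Lrfl Lrfl
theorem f234524 : Led Lsl_ft (LP (LK LD1_c15 LD2_c37 LD3_c53)) = (LP (LK LD1_c19 LD2_c35 LD3_c37)) :=
  Lgr Lrot54 (Lpr_df (f222764 IH) (Lpr_ff (f234521 IH) (Lpe (f219920 IH) (Lpn (LP (LK LD1_c19 LD2_c35 LD3_c37))))))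
theorem f234528 : Led Lsl_ff (LP (LK LD1_c15 LD2_c37 LD3_c53)) = (LP (LK LD1_c19 LD2_c35 LD3_c37)) :=
  Lgr Lrot3 (Lpr_ft (f234524 IH) (Lpn (LP (LK LD1_c19 LD2_c35 LD3_c37))))
theorem f219856 : Led Lsl_bt (LP (LK LD1_c15 LD2_c44 LD3_c41)) = (LP (LK LD1_c8 LD2_c22 LD3_c0)) :=
  Lre_b IH (LK LD1_c15 LD2_c44 LD3_c41) (LK LD1_c8 LD2_c22 LD3_c0) Lrfl Lrfl
theorem f212845 : Led Lsl_bt (LP (LK LD1_c10 LD2_c50 LD3_c20)) = (LP (LK LD1_c19 LD2_c35 LD3_c39)) :=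
  Lre_b IH (LK LD1_c10 LD2_c50 LD3_c20) (LK LD1_c19 LD2_c35 LD3_c39) Lrfl Lrfl
theorem f219895 : Led Lsl_cf (LP (LK LD1_c15 LD2_c44 LD3_c41)) = (LP (LK LD1_c19 LD2_c35 LD3_c39)) :=
  Lgr Lrot97 (Lpr_bt (f219856 IH) (Lpr_ct (K18.f219845 IH) (Lpr_bt (K12.f212834 IH) (Lpr_ct (K25.f212840 IH) (Lpr_bt (f212845 IH) (Lpn (LP (LK LD1_c19 LD2_c35 LD3_c39))))))))
theorem f219894 : Led Lsl_et (LP (LK LD1_c15 LD2_c44 LD3_c41)) = (LP (LK LD1_c8 LD2_c21 LD3_c61)) :=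
  Lre_e IH (LK LD1_c15 LD2_c44 LD3_c41) (LK LD1_c8 LD2_c21 LD3_c61) Lrfl Lrfl
theorem f219900 : Led Lsl_et (LP (LK LD1_c10 LD2_c50 LD3_c18)) = (LP (LK LD1_c19 LD2_c35 LD3_c39)) :=
  Lre_e IH (LK LD1_c10 LD2_c50 LD3_c18) (LK LD1_c19 LD2_c35 LD3_c39) Lrfl Lrfl
theorem f219901 : Led Lsl_ct (LP (LK LD1_c8 LD2_c21 LD3_c61)) = (LP (LK LD1_c10 LD2_c50 LD3_c18)) :=
  Lgr Lrot15 (Lpe (f219894 IH) (Lpr_cf (f219895 IH) (Lpe (f219900 IH) (Lpn (LP (LK LD1_c10 LD2_c50 LD3_c18))))))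
theorem f219905 : Led Lsl_at (LP (LK LD1_c10 LD2_c50 LD3_c18)) = (LP (LK LD1_c19 LD2_c35 LD3_c37)) :=
  Lre_a IH (LK LD1_c10 LD2_c50 LD3_c18) (LK LD1_c19 LD2_c35 LD3_c37) Lrfl Lrfl
theorem f219906 : Led Lsl_cf (LP (LK LD1_c15 LD2_c44 LD3_c40)) = (LP (LK LD1_c19 LD2_c35 LD3_c37)) :=
  Lgr Lrot1 (Lpr_at (K27.f219904 IH) (Lpr_ct (f219901 IH) (Lpr_at (f219905 IH) (Lpn (LP (LK LD1_c19 LD2_c35 LD3_c37))))))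
theorem f219915 : Led Lsl_ct (LP (LK LD1_c15 LD2_c44 LD3_c40)) = (LP (LK LD1_c19 LD2_c35 LD3_c37)) :=
  Lgr Lrot59 (Lpr_cf (f219906 IH) (Lpn (LP (LK LD1_c19 LD2_c35 LD3_c37))))
theorem f221957 : Led Lsl_ff (LP (LK LD1_c15 LD2_c44 LD3_c40)) = (LP (LK LD1_c16 LD2_c6 LD3_c10)) :=
  Lgr Lrot3 (Lpr_ft (K27.f221950 IH) (Lpn (LP (LK LD1_c16 LD2_c6 LD3_c10))))
theorem f234534 : Led Lsl_ct (LP (LK LD1_c15 LD2_c37 LD3_c53)) = (LP (LK LD1_c16 LD2_c6 LD3_c10)) :=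
  Lgr Lrot40 (Lpr_ff (f234528 IH) (Lpe (f219915 IH) (Lpr_ff (f221957 IH) (Lpn (LP (LK LD1_c16 LD2_c6 LD3_c10))))))
theorem f374239 : Led Lsl_ef (LP (LK LD1_c15 LD2_c37 LD3_c53)) = (LP (LK LD1_c15 LD2_c59 LD3_c39)) :=
  Lgr Lrot28 (Lpr_ct (f234534 IH) (Lpe (f221942 IH) (Lpr_ct (f374231 IH) (Lpn (LP (LK LD1_c15 LD2_c59 LD3_c39))))))
theorem f222776 : Led Lsl_at (LP (LK LD1_c8 LD2_c18 LD3_c39)) = (LP (LK LD1_c15 LD2_c37 LD3_c53)) :=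
  Lre_a IH (LK LD1_c8 LD2_c18 LD3_c39) (LK LD1_c15 LD2_c37 LD3_c53) Lrfl Lrfl
theorem f53752 : Led Lsl_at (LP (LK LD1_c18 LD2_c52 LD3_c17)) = (LP (LK LD1_c10 LD2_c24 LD3_c0)) :=
  Lre_a IH (LK LD1_c18 LD2_c52 LD3_c17) (LK LD1_c10 LD2_c24 LD3_c0) Lrfl Lrfl
theorem f222959 : Led Lsl_bt (LP (LK LD1_c15 LD2_c37 LD3_c53)) = (LP (LK LD1_c18 LD2_c52 LD3_c17)) :=
  Lgr Lrot62 (Lpe (f222776 IH) (Lpe (f222753 IH) (Lpr_af (K12.f222901 IH) (Lpe (K12.f53740 IH) (Lpe (f53752 IH) (Lpn (LP (LK LD1_c18 LD2_c52 LD3_c17))))))))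
theorem f53870 : Led Lsl_at (LP (LK LD1_c18 LD2_c43 LD3_c60)) = (LP (LK LD1_c10 LD2_c19 LD3_c10)) :=
  Lre_a IH (LK LD1_c18 LD2_c43 LD3_c60) (LK LD1_c10 LD2_c19 LD3_c10) Lrfl Lrfl
theorem f53744 : Led Lsl_at (LP (LK LD1_c10 LD2_c24 LD3_c0)) = (LP (LK LD1_c18 LD2_c52 LD3_c17)) :=
  Lre_a IH (LK LD1_c10 LD2_c24 LD3_c0) (LK LD1_c18 LD2_c52 LD3_c17) Lrfl Lrfl
theorem f53871 : Led Lsl_ef (LP (LK LD1_c18 LD2_c43 LD3_c60)) = (LP (LK LD1_c18 LD2_c52 LD3_c17)) :=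
  Lgr Lrot20 (Lpr_at (f53870 IH) (Lpr_et (f53861 IH) (Lpr_at (f53744 IH) (Lpn (LP (LK LD1_c18 LD2_c52 LD3_c17))))))
theorem f374241 : Led Lsl_bt (LP (LK LD1_c18 LD2_c43 LD3_c60)) = (LP (LK LD1_c15 LD2_c59 LD3_c39)) :=
  Lgr Lrot119 (Lpr_ef (f53871 IH) (Lpe (f222959 IH) (Lpr_ef (f374239 IH) (Lpn (LP (LK LD1_c15 LD2_c59 LD3_c39))))))
theorem f271493 : Led Lsl_bt (LP (LK LD1_c8 LD2_c29 LD3_c47)) = (LP (LK LD1_c15 LD2_c57 LD3_c7)) :=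
  Lre_b IH (LK LD1_c8 LD2_c29 LD3_c47) (LK LD1_c15 LD2_c57 LD3_c7) Lrfl Lrfl
theorem f243563 : Led Lsl_af (LP (LK LD1_c5 LD2_c14 LD3_c54)) = (LP (LK LD1_c4 LD2_c16 LD3_c4)) :=
  Lgr Lrot50 (Lpr_et (f53848 IH) (Lpe (K12.f222901 IH) (Lpr_et (K13.f243561 IH) (Lpn (LP (LK LD1_c4 LD2_c16 LD3_c4))))))
theorem f271529 : Led Lsl_ft (LP (LK LD1_c8 LD2_c29 LD3_c47)) = (LP (LK LD1_c4 LD2_c16 LD3_c4)) :=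
  Lgr Lrot2 (Lpr_gt (K16.f271491 IH) (Lpr_gt (K16.f189093 IH) (Lpr_af (f243563 IH) (Lpn (LP (LK LD1_c4 LD2_c16 LD3_c4))))))
theorem f374064 : Led Lsl_at (LP (LK LD1_c4 LD2_c16 LD3_c3)) = (LP (LK LD1_c8 LD2_c29 LD3_c47)) :=
  Lgr Lrot66 (Lpr_ff (f374008 IH) (Lpr_af (f243563 IH) (Lpe (f271529 IH) (Lpn (LP (LK LD1_c8 LD2_c29 LD3_c47))))))
theorem f374219 : Led Lsl_at (LP (LK LD1_c15 LD2_c59 LD3_c35)) = (LP (LK LD1_c8 LD2_c31 LD3_c9)) :=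
  Lre_a IH (LK LD1_c15 LD2_c59 LD3_c35) (LK LD1_c8 LD2_c31 LD3_c9) Lrfl Lrfl
theorem f374220 : Led Lsl_bt (LP (LK LD1_c25 LD2_c43 LD3_c44)) = (LP (LK LD1_c15 LD2_c59 LD3_c35)) :=
  Lgr Lrot62 (Lpr_af (f374215 IH) (Lpe (f271493 IH) (Lpe (f374064 IH) (Lpe (f312051 IH) (Lpe (f374219 IH) (Lpn (LP (LK LD1_c15 LD2_c59 LD3_c35))))))))
theorem f374245 : Led Lsl_ff (LP (LK LD1_c18 LD2_c43 LD3_c60)) = (LP (LK LD1_c15 LD2_c59 LD3_c35)) :=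
  Lgr Lrot25 (Lpr_bt (f374241 IH) (Lpe (f374226 IH) (Lpr_bt (f374220 IH) (Lpn (LP (LK LD1_c15 LD2_c59 LD3_c35))))))
theorem f374247 : Led Lsl_at (LP (LK LD1_c8 LD2_c31 LD3_c9)) = (LP (LK LD1_c15 LD2_c59 LD3_c35)) :=
  Lre_a IH (LK LD1_c8 LD2_c31 LD3_c9) (LK LD1_c15 LD2_c59 LD3_c35) Lrfl Lrfl
theorem f374248 : Led Lsl_ft (LP (LK LD1_c10 LD2_c19 LD3_c10)) = (LP (LK LD1_c8 LD2_c31 LD3_c9)) :=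
  Lgr Lrot101 (Lpe (f53870 IH) (Lpr_ff (f374245 IH) (Lpe (f374247 IH) (Lpn (LP (LK LD1_c8 LD2_c31 LD3_c9))))))
theorem f374394 : Led Lsl_cf (LP (LK LD1_c8 LD2_c37 LD3_c4)) = (LP (LK LD1_c8 LD2_c31 LD3_c9)) :=
  Lgr Lrot108 (Lpr_ft (f374385 IH) (Lpe (f54011 IH) (Lpr_ft (f374248 IH) (Lpn (LP (LK LD1_c8 LD2_c31 LD3_c9))))))
theorem f374398 : Led Lsl_ct (LP (LK LD1_c16 LD2_c8 LD3_c41)) = (LP (LK LD1_c15 LD2_c59 LD3_c35)) :=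
  Lgr Lrot111 (Lpe (f374379 IH) (Lpr_cf (f374394 IH) (Lpe (f374219 IH) (Lpn (LP (LK LD1_c15 LD2_c59 LD3_c35))))))
theorem f374407 : Led Lsl_cf (LP (LK LD1_c16 LD2_c8 LD3_c41)) = (LP (LK LD1_c15 LD2_c59 LD3_c35)) :=
  Lgr Lrot11 (Lpr_ct (f374398 IH) (Lpn (LP (LK LD1_c15 LD2_c59 LD3_c35))))
theorem f374250 : Led Lsl_ft (LP (LK LD1_c18 LD2_c43 LD3_c60)) = (LP (LK LD1_c15 LD2_c59 LD3_c35)) :=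
  Lgr Lrot48 (Lpr_ff (f374245 IH) (Lpn (LP (LK LD1_c15 LD2_c59 LD3_c35))))
theorem f290276 : Led Lsl_at (LP (LK LD1_c8 LD2_c34 LD3_c20)) = (LP (LK LD1_c16 LD2_c5 LD3_c19)) :=
  Lre_a IH (LK LD1_c8 LD2_c34 LD3_c20) (LK LD1_c16 LD2_c5 LD3_c19) Lrfl Lrfl
theorem f290277 : Led Lsl_bt (LP (LK LD1_c16 LD2_c5 LD3_c19)) = (LP (LK LD1_c15 LD2_c45 LD3_c44)) :=
  Lgr Lrot62 (Lpe (f290276 IH) (Lpe (K20.f270896 IH) (Lpr_af (K17.f290273 IH) (Lpe (K27.f191982 IH) (Lpe (f191990 IH) (Lpn (LP (LK LD1_c15 LD2_c45 LD3_c44))))))))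
theorem f318857 : Led Lsl_df (LP (LK LD1_c16 LD2_c3 LD3_c16)) = (LP (LK LD1_c8 LD2_c34 LD3_c20)) :=
  Lgr Lrot162 (Lpr_cf (K17.f224986 IH) (Lpe (K20.f289580 IH) (Lpe (K20.f178912 IH) (Lpr_gf (K20.f281669 IH) (Lpe (K20.f318726 IH) (Lpr_gt (K20.f318722 IH) (Lpe (K20.f318707 IH) (Lpr_gt (K20.f53935 IH) (Lpr_ct (K20.f318852 IH) (Lpn (LP (LK LD1_c8 LD2_c34 LD3_c20))))))))))))
theorem f318452 : Led Lsl_at (LP (LK LD1_c7 LD2_c58 LD3_c60)) = (LP (LK LD1_c10 LD2_c54 LD3_c31)) :=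
  Lgr Lrot100 (Lpr_af (K20.f318450 IH) (Lpn (LP (LK LD1_c10 LD2_c54 LD3_c31))))
theorem f318679 : Led Lsl_ft (LP (LK LD1_c10 LD2_c54 LD3_c34)) = (LP (LK LD1_c7 LD2_c58 LD3_c60)) :=
  Lgr Lrot101 (Lpr_af (K20.f318459 IH) (Lpe (K20.f290350 IH) (Lpe (f318452 IH) (Lpn (LP (LK LD1_c7 LD2_c58 LD3_c60))))))
theorem f318859 : Led Lsl_ct (LP (LK LD1_c16 LD2_c3 LD3_c16)) = (LP (LK LD1_c10 LD2_c54 LD3_c31)) :=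
  Lgr Lrot98 (Lpr_df (f318857 IH) (Lpe (K20.f318852 IH) (Lpe (K20.f53941 IH) (Lpr_cf (K20.f318419 IH) (Lpe (K20.f173718 IH) (Lpe (f173661 IH) (Lpe (K20.f173659 IH) (Lpr_ft (f318679 IH) (Lpr_at (f318452 IH) (Lpn (LP (LK LD1_c10 LD2_c54 LD3_c31))))))))))))
theorem f174023 : Led Lsl_ct (LP (LK LD1_c7 LD2_c58 LD3_c60)) = (LP (LK LD1_c15 LD2_c3 LD3_c40)) :=
  Lre_c IH (LK LD1_c7 LD2_c58 LD3_c60) (LK LD1_c15 LD2_c3 LD3_c40) Lrfl Lrfl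
theorem f318863 : Led Lsl_af (LP (LK LD1_c16 LD2_c3 LD3_c16)) = (LP (LK LD1_c15 LD2_c3 LD3_c40)) :=
  Lgr Lrot68 (Lpr_ct (f318859 IH) (Lpe (K20.f318450 IH) (Lpr_ct (f174023 IH) (Lpn (LP (LK LD1_c15 LD2_c3 LD3_c40))))))
theorem f318872 : Led Lsl_ft (LP (LK LD1_c19 LD2_c42 LD3_c36)) = (LP (LK LD1_c15 LD2_c3 LD3_c40)) :=
  Lgr Lrot101 (Lpr_af (K20.f318462 IH) (Lpe (K20.f290287 IH) (Lpr_af (f318863 IH) (Lpn (LP (LK LD1_c15 LD2_c3 LD3_c40))))))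
theorem f318874 : Led Lsl_ff (LP (LK LD1_c19 LD2_c42 LD3_c36)) = (LP (LK LD1_c15 LD2_c3 LD3_c40)) :=
  Lgr Lrot3 (Lpr_ft (f318872 IH) (Lpn (LP (LK LD1_c15 LD2_c3 LD3_c40))))
theorem f318673 : Led Lsl_at (LP (LK LD1_c19 LD2_c42 LD3_c36)) = (LP (LK LD1_c15 LD2_c3 LD3_c32)) :=
  Lgr Lrot100 (Lpr_af (K20.f318462 IH) (Lpn (LP (LK LD1_c15 LD2_c3 LD3_c32))))
theorem f318566 : Led Lsl_dt (LP (LK LD1_c15 LD2_c24 LD3_c7)) = (LP (LK LD1_c24 LD2_c52 LD3_c43)) :=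
  Lgr Lrot60 (Lpr_ff (K20.f219566 IH) (Lpe (K20.f219575 IH) (Lpr_ff (f318562 IH) (Lpn (LP (LK LD1_c24 LD2_c52 LD3_c43))))))
theorem f318854 : Led Lsl_cf (LP (LK LD1_c15 LD2_c24 LD3_c7)) = (LP (LK LD1_c16 LD2_c5 LD3_c19)) :=
  Lgr Lrot1 (Lpr_at (K20.f53940 IH) (Lpr_ct (K20.f318852 IH) (Lpr_at (f290276 IH) (Lpn (LP (LK LD1_c16 LD2_c5 LD3_c19))))))
theorem f318876 : Led Lsl_df (LP (LK LD1_c16 LD2_c5 LD3_c19)) = (LP (LK LD1_c15 LD2_c3 LD3_c40)) :=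
  Lgr Lrot157 (Lpe (f318854 IH) (Lpr_dt (f318566 IH) (Lpr_ct (K20.f318510 IH) (Lpr_dt (K20.f318488 IH) (Lpr_ct (f173635 IH) (Lpr_dt (K17.f54799 IH) (Lpr_ct (K17.f171760 IH) (Lpe (f318673 IH) (Lpr_ff (f318874 IH) (Lpn (LP (LK LD1_c15 LD2_c3 LD3_c40))))))))))))
theorem f318867 : Led Lsl_bt (LP (LK LD1_c24 LD2_c52 LD3_c52)) = (LP (LK LD1_c15 LD2_c3 LD3_c40)) :=
  Lre_b IH (LK LD1_c24 LD2_c52 LD3_c52) (LK LD1_c15 LD2_c3 LD3_c40) Lrfl Lrfl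
theorem f318878 : Led Lsl_dt (LP (LK LD1_c15 LD2_c45 LD3_c44)) = (LP (LK LD1_c24 LD2_c52 LD3_c52)) :=
  Lgr Lrot79 (Lpe (f290277 IH) (Lpr_df (f318876 IH) (Lpe (f318867 IH) (Lpn (LP (LK LD1_c24 LD2_c52 LD3_c52))))))
theorem f318882 : Led Lsl_df (LP (LK LD1_c15 LD2_c45 LD3_c44)) = (LP (LK LD1_c24 LD2_c52 LD3_c52)) :=
  Lgr Lrot38 (Lpr_dt (f318878 IH) (Lpn (LP (LK LD1_c24 LD2_c52 LD3_c52))))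
theorem f174028 : Led Lsl_bt (LP (LK LD1_c15 LD2_c3 LD3_c40)) = (LP (LK LD1_c24 LD2_c52 LD3_c52)) :=
  Lre_b IH (LK LD1_c15 LD2_c3 LD3_c40) (LK LD1_c24 LD2_c52 LD3_c52) Lrfl Lrfl
theorem f318870 : Led Lsl_dt (LP (LK LD1_c16 LD2_c5 LD3_c19)) = (LP (LK LD1_c15 LD2_c3 LD3_c40)) :=
  Lgr Lrot44 (Lpe (f290276 IH) (Lpr_df (K20.f287761 IH) (Lpr_af (f318863 IH) (Lpn (LP (LK LD1_c15 LD2_c3 LD3_c40))))))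
theorem f318884 : Led Lsl_bt (LP (LK LD1_c15 LD2_c45 LD3_c44)) = (LP (LK LD1_c16 LD2_c5 LD3_c19)) :=
  Lgr Lrot95 (Lpr_df (f318882 IH) (Lpe (f174028 IH) (Lpe (f318870 IH) (Lpn (LP (LK LD1_c16 LD2_c5 LD3_c19))))))
theorem f221968 : Led Lsl_ft (LP (LK LD1_c16 LD2_c6 LD3_c13)) = (LP (LK LD1_c15 LD2_c44 LD3_c44)) :=
  Lgr Lrot48 (Lpr_ff (K27.f221955 IH) (Lpn (LP (LK LD1_c15 LD2_c44 LD3_c44))))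
theorem f221885 : Led Lsl_bt (LP (LK LD1_c15 LD2_c44 LD3_c40)) = (LP (LK LD1_c16 LD2_c6 LD3_c13)) :=
  Lgr Lrot127 (Lpr_bf (K27.f221883 IH) (Lpn (LP (LK LD1_c16 LD2_c6 LD3_c13))))
theorem f221972 : Led Lsl_bf (LP (LK LD1_c16 LD2_c6 LD3_c10)) = (LP (LK LD1_c15 LD2_c44 LD3_c44)) :=
  Lgr Lrot61 (Lpe (f221957 IH) (Lpr_bt (f221885 IH) (Lpr_ft (f221968 IH) (Lpn (LP (LK LD1_c15 LD2_c44 LD3_c44))))))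
theorem f318886 : Led Lsl_ef (LP (LK LD1_c15 LD2_c44 LD3_c44)) = (LP (LK LD1_c16 LD2_c5 LD3_c19)) :=
  Lgr Lrot29 (Lpe (f221972 IH) (Lpe (f221942 IH) (Lpr_bt (f318884 IH) (Lpn (LP (LK LD1_c16 LD2_c5 LD3_c19))))))
theorem f318890 : Led Lsl_ct (LP (LK LD1_c15 LD2_c24 LD3_c7)) = (LP (LK LD1_c16 LD2_c5 LD3_c19)) :=
  Lgr Lrot15 (Lpr_ef (K20.f53938 IH) (Lpe (K27.f221980 IH) (Lpr_ef (f318886 IH) (Lpn (LP (LK LD1_c16 LD2_c5 LD3_c19))))))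
theorem f53760 : Led Lsl_at (LP (LK LD1_c8 LD2_c12 LD3_c61)) = (LP (LK LD1_c15 LD2_c27 LD3_c23)) :=
  Lre_a IH (LK LD1_c8 LD2_c12 LD3_c61) (LK LD1_c15 LD2_c27 LD3_c23) Lrfl Lrfl
theorem f54020 : Led Lsl_et (LP (LK LD1_c15 LD2_c27 LD3_c23)) = (LP (LK LD1_c15 LD2_c24 LD3_c14)) :=
  Lgr Lrot123 (Lpe (f53760 IH) (Lpr_ef (f54014 IH) (Lpe (f54019 IH) (Lpn (LP (LK LD1_c15 LD2_c24 LD3_c14))))))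
theorem f53779 : Led Lsl_bt (LP (LK LD1_c8 LD2_c12 LD3_c59)) = (LP (LK LD1_c4 LD2_c6 LD3_c10)) :=
  Lre_b IH (LK LD1_c8 LD2_c12 LD3_c59) (LK LD1_c4 LD2_c6 LD3_c10) Lrfl Lrfl
theorem f53781 : Led Lsl_bf (LP (LK LD1_c15 LD2_c27 LD3_c18)) = (LP (LK LD1_c15 LD2_c27 LD3_c23)) :=
  Lgr Lrot81 (Lpr_at (K20.f53780 IH) (Lpr_bt (f53779 IH) (Lpr_at (K12.f53772 IH) (Lpr_bt (K12.f53741 IH) (Lpr_at (f53760 IH) (Lpn (LP (LK LD1_c15 LD2_c27 LD3_c23))))))))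
theorem f53805 : Led Lsl_bt (LP (LK LD1_c15 LD2_c27 LD3_c18)) = (LP (LK LD1_c15 LD2_c27 LD3_c23)) :=
  Lgr Lrot127 (Lpr_bf (f53781 IH) (Lpn (LP (LK LD1_c15 LD2_c27 LD3_c23))))
theorem f54030 : Led Lsl_bf (LP (LK LD1_c15 LD2_c24 LD3_c7)) = (LP (LK LD1_c15 LD2_c24 LD3_c14)) :=
  Lgr Lrot96 (Lpr_et (K20.f53930 IH) (Lpr_bt (f53805 IH) (Lpr_et (f54020 IH) (Lpn (LP (LK LD1_c15 LD2_c24 LD3_c14))))))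
theorem f54008 : Led Lsl_at (LP (LK LD1_c8 LD2_c10 LD3_c50)) = (LP (LK LD1_c15 LD2_c24 LD3_c14)) :=
  Lre_a IH (LK LD1_c8 LD2_c10 LD3_c50) (LK LD1_c15 LD2_c24 LD3_c14) Lrfl Lrfl
theorem f54026 : Led Lsl_cf (LP (LK LD1_c18 LD2_c43 LD3_c60)) = (LP (LK LD1_c15 LD2_c24 LD3_c14)) :=
  Lgr Lrot1 (Lpr_at (f53870 IH) (Lpr_ct (f54023 IH) (Lpr_at (f54008 IH) (Lpn (LP (LK LD1_c15 LD2_c24 LD3_c14))))))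
theorem f54028 : Led Lsl_ct (LP (LK LD1_c18 LD2_c43 LD3_c60)) = (LP (LK LD1_c15 LD2_c24 LD3_c14)) :=
  Lgr Lrot59 (Lpr_cf (f54026 IH) (Lpn (LP (LK LD1_c15 LD2_c24 LD3_c14))))
theorem f374235 : Led Lsl_bf (LP (LK LD1_c18 LD2_c43 LD3_c60)) = (LP (LK LD1_c15 LD2_c59 LD3_c39)) :=
  Lgr Lrot90 (Lpr_ct (f54028 IH) (Lpe (f54030 IH) (Lpr_ct (f318890 IH) (Lpr_bt (f290277 IH) (Lpr_ct (f374231 IH) (Lpn (LP (LK LD1_c15 LD2_c59 LD3_c39))))))))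
theorem f374254 : Led Lsl_bf (LP (LK LD1_c25 LD2_c43 LD3_c44)) = (LP (LK LD1_c15 LD2_c59 LD3_c35)) :=
  Lgr Lrot61 (Lpr_ft (f374224 IH) (Lpe (f374235 IH) (Lpr_ft (f374250 IH) (Lpn (LP (LK LD1_c15 LD2_c59 LD3_c35))))))
theorem f51691 : Led Lsl_at (LP (LK LD1_c4 LD2_c11 LD3_c57)) = (LP (LK LD1_c2 LD2_c3 LD3_c8)) :=
  Lre_a IH (LK LD1_c4 LD2_c11 LD3_c57) (LK LD1_c2 LD2_c3 LD3_c8) Lrfl Lrfl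
theorem f51692 : Led Lsl_ft (LP (LK LD1_c2 LD2_c6 LD3_c32)) = (LP (LK LD1_c4 LD2_c11 LD3_c57)) :=
  Lgr Lrot101 (Lpe (f1140 IH) (Lpr_ff (f51682 IH) (Lpe (f51691 IH) (Lpn (LP (LK LD1_c4 LD2_c11 LD3_c57))))))
theorem f52105 : Led Lsl_gt (LP (LK LD1_c2 LD2_c6 LD3_c32)) = (LP (LK LD1_c4 LD2_c11 LD3_c59)) :=
  Lgr Lrot5 (Lpr_ft (f51692 IH) (Lpr_at (f51691 IH) (Lpe (f1215 IH) (Lpn (LP (LK LD1_c4 LD2_c11 LD3_c59))))))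
theorem f52031 : Led Lsl_bt (LP (LK LD1_c15 LD2_c47 LD3_c5)) = (LP (LK LD1_c8 LD2_c23 LD3_c39)) :=
  Lre_b IH (LK LD1_c15 LD2_c47 LD3_c5) (LK LD1_c8 LD2_c23 LD3_c39) Lrfl Lrfl
theorem f374457 : Led Lsl_ct (LP (LK LD1_c15 LD2_c47 LD3_c5)) = (LP (LK LD1_c15 LD2_c24 LD3_c13)) :=
  Lgr Lrot10 (Lpr_bt (f52031 IH) (Lpe (f52091 IH) (Lpr_ct (f1142 IH) (Lpr_gt (f52105 IH) (Lpe (f52110 IH) (Lpr_bt (f52111 IH) (Lpr_gt (f52112 IH) (Lpr_bf (f374254 IH) (Lpe (f374407 IH) (Lpr_gt (f374455 IH) (Lpn (LP (LK LD1_c15 LD2_c24 LD3_c13)))))))))))))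
theorem f374461 : Led Lsl_cf (LP (LK LD1_c15 LD2_c47 LD3_c5)) = (LP (LK LD1_c15 LD2_c24 LD3_c13)) :=
  Lgr Lrot11 (Lpr_ct (f374457 IH) (Lpn (LP (LK LD1_c15 LD2_c24 LD3_c13))))
theorem f52071 : Led Lsl_ct (LP (LK LD1_c8 LD2_c32 LD3_c11)) = (LP (LK LD1_c16 LD2_c1 LD3_c42)) :=
  Lre_c IH (LK LD1_c8 LD2_c32 LD3_c11) (LK LD1_c16 LD2_c1 LD3_c42) Lrfl Lrfl
theorem f397895 : Led Lsl_ff (LP (LK LD1_c15 LD2_c24 LD3_c13)) = (LP (LK LD1_c16 LD2_c1 LD3_c42)) :=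
  Lgr Lrot23 (Lpe (f374461 IH) (Lpr_ft (f397891 IH) (Lpr_ct (f52071 IH) (Lpn (LP (LK LD1_c16 LD2_c1 LD3_c42))))))
theorem f374400 : Led Lsl_gf (LP (LK LD1_c8 LD2_c37 LD3_c4)) = (LP (LK LD1_c16 LD2_c1 LD3_c42)) :=
  Lgr Lrot126 (Lpr_cf (f374394 IH) (Lpr_bt (f312051 IH) (Lpr_gt (K19.f312068 IH) (Lpr_ct (K16.f243546 IH) (Lpr_gt (K12.f600 IH) (Lpe (K10.f1033 IH) (Lpr_bt (f1029 IH) (Lpr_gt (f1095 IH) (Lpe (f52070 IH) (Lpr_ct (f52071 IH) (Lpn (LP (LK LD1_c16 LD2_c1 LD3_c42)))))))))))))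
theorem f292727 : Led Lsl_gt (LP (LK LD1_c8 LD2_c37 LD3_c4)) = (LP (LK LD1_c16 LD2_c8 LD3_c40)) :=
  Lre_g IH (LK LD1_c8 LD2_c37 LD3_c4) (LK LD1_c16 LD2_c8 LD3_c40) Lrfl Lrfl
theorem f397902 : Led Lsl_at (LP (LK LD1_c15 LD2_c24 LD3_c13)) = (LP (LK LD1_c16 LD2_c8 LD3_c40)) :=
  Lgr Lrot26 (Lpr_ff (f397895 IH) (Lpe (f374400 IH) (Lpr_gt (f292727 IH) (Lpn (LP (LK LD1_c16 LD2_c8 LD3_c40))))))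
theorem f374459 : Led Lsl_at (LP (LK LD1_c25 LD2_c43 LD3_c49)) = (LP (LK LD1_c15 LD2_c47 LD3_c5)) :=
  Lre_a IH (LK LD1_c25 LD2_c43 LD3_c49) (LK LD1_c15 LD2_c47 LD3_c5) Lrfl Lrfl
theorem f397906 : Led Lsl_cf (LP (LK LD1_c25 LD2_c43 LD3_c49)) = (LP (LK LD1_c16 LD2_c8 LD3_c40)) :=
  Lgr Lrot1 (Lpr_at (f374459 IH) (Lpr_ct (f374457 IH) (Lpr_at (f397902 IH) (Lpn (LP (LK LD1_c16 LD2_c8 LD3_c40))))))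
theorem f279205 : Led Lsl_bt (LP (LK LD1_c4 LD2_c21 LD3_c14)) = (LP (LK LD1_c2 LD2_c8 LD3_c8)) :=
  Lre_b IH (LK LD1_c4 LD2_c21 LD3_c14) (LK LD1_c2 LD2_c8 LD3_c8) Lrfl Lrfl
theorem f39705 : Led Lsl_ct (LP (LK LD1_c4 LD2_c21 LD3_c14)) = (LP (LK LD1_c2 LD2_c8 LD3_c31)) :=
  Lre_c IH (LK LD1_c4 LD2_c21 LD3_c14) (LK LD1_c2 LD2_c8 LD3_c31) Lrfl Lrfl
theorem f39807 : Led Lsl_gt (LP (LK LD1_c4 LD2_c22 LD3_c7)) = (LP (LK LD1_c2 LD2_c8 LD3_c31)) :=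
  Lre_g IH (LK LD1_c4 LD2_c22 LD3_c7) (LK LD1_c2 LD2_c8 LD3_c31) Lrfl Lrfl
theorem f292726 : Led Lsl_ct (LP (LK LD1_c8 LD2_c42 LD3_c8)) = (LP (LK LD1_c4 LD2_c22 LD3_c7)) :=
  Lre_c IH (LK LD1_c8 LD2_c42 LD3_c8) (LK LD1_c4 LD2_c22 LD3_c7) Lrfl Lrfl
theorem f292728 : Led Lsl_bt (LP (LK LD1_c8 LD2_c42 LD3_c8)) = (LP (LK LD1_c16 LD2_c8 LD3_c40)) :=
  Lgr Lrot92 (Lpr_ct (f292726 IH) (Lpr_gt (f39807 IH) (Lpe (f39705 IH) (Lpr_bt (f279205 IH) (Lpr_gt (K17.f251766 IH) (Lpr_ct (K17.f292659 IH) (Lpr_gt (K17.f279251 IH) (Lpe (K17.f279255 IH) (Lpr_bt (f279259 IH) (Lpr_gt (f292727 IH) (Lpn (LP (LK LD1_c16 LD2_c8 LD3_c40)))))))))))))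
theorem f39808 : Led Lsl_bt (LP (LK LD1_c8 LD2_c42 LD3_c7)) = (LP (LK LD1_c4 LD2_c22 LD3_c7)) :=
  Lre_b IH (LK LD1_c8 LD2_c42 LD3_c7) (LK LD1_c4 LD2_c22 LD3_c7) Lrfl Lrfl
theorem f397801 : Led Lsl_at (LP (LK LD1_c8 LD2_c32 LD3_c13)) = (LP (LK LD1_c16 LD2_c1 LD3_c44)) :=
  Lre_a IH (LK LD1_c8 LD2_c32 LD3_c13) (LK LD1_c16 LD2_c1 LD3_c44) Lrfl Lrfl
theorem f397802 : Led Lsl_cf (LP (LK LD1_c8 LD2_c42 LD3_c7)) = (LP (LK LD1_c16 LD2_c1 LD3_c44)) :=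
  Lgr Lrot1 (Lpr_at (f397795 IH) (Lpr_ct (f397063 IH) (Lpr_at (f397801 IH) (Lpn (LP (LK LD1_c16 LD2_c1 LD3_c44))))))
theorem f397908 : Led Lsl_bt (LP (LK LD1_c25 LD2_c43 LD3_c49)) = (LP (LK LD1_c16 LD2_c1 LD3_c44)) :=
  Lgr Lrot128 (Lpr_cf (f397906 IH) (Lpe (f292728 IH) (Lpe (f39714 IH) (Lpe (f39808 IH) (Lpr_cf (f397802 IH) (Lpn (LP (LK LD1_c16 LD2_c1 LD3_c44))))))))
theorem f397871 : Led Lsl_at (LP (LK LD1_c8 LD2_c32 LD3_c11)) = (LP (LK LD1_c16 LD2_c1 LD3_c41)) :=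
  Lre_a IH (LK LD1_c8 LD2_c32 LD3_c11) (LK LD1_c16 LD2_c1 LD3_c41) Lrfl Lrfl
theorem f397893 : Led Lsl_ff (LP (LK LD1_c25 LD2_c43 LD3_c49)) = (LP (LK LD1_c16 LD2_c1 LD3_c41)) :=
  Lgr Lrot30 (Lpr_at (f374459 IH) (Lpr_ft (f397891 IH) (Lpr_at (f397871 IH) (Lpn (LP (LK LD1_c16 LD2_c1 LD3_c41))))))
theorem f51861 : Led Lsl_bt (LP (LK LD1_c15 LD2_c47 LD3_c7)) = (LP (LK LD1_c8 LD2_c23 LD3_c40)) :=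
  Lre_b IH (LK LD1_c15 LD2_c47 LD3_c7) (LK LD1_c8 LD2_c23 LD3_c40) Lrfl Lrfl
theorem f167065 : Led Lsl_at (LP (LK LD1_c25 LD2_c43 LD3_c52)) = (LP (LK LD1_c15 LD2_c47 LD3_c7)) :=
  Lre_a IH (LK LD1_c25 LD2_c43 LD3_c52) (LK LD1_c15 LD2_c47 LD3_c7) Lrfl Lrfl
theorem f397870 : Led Lsl_bt (LP (LK LD1_c4 LD2_c16 LD3_c29)) = (LP (LK LD1_c8 LD2_c32 LD3_c11)) :=
  Lre_b IH (LK LD1_c4 LD2_c16 LD3_c29) (LK LD1_c8 LD2_c32 LD3_c11) Lrfl Lrfl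
theorem f397872 : Led Lsl_bf (LP (LK LD1_c25 LD2_c43 LD3_c52)) = (LP (LK LD1_c16 LD2_c1 LD3_c41)) :=
  Lgr Lrot81 (Lpr_at (f167065 IH) (Lpr_bt (f51861 IH) (Lpr_at (f397866 IH) (Lpr_bt (f397870 IH) (Lpr_at (f397871 IH) (Lpn (LP (LK LD1_c16 LD2_c1 LD3_c41))))))))
theorem f397878 : Led Lsl_bt (LP (LK LD1_c25 LD2_c43 LD3_c52)) = (LP (LK LD1_c16 LD2_c1 LD3_c41)) :=
  Lgr Lrot127 (Lpr_bf (f397872 IH) (Lpn (LP (LK LD1_c16 LD2_c1 LD3_c41))))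
theorem f397917 : Led Lsl_ff (LP (LK LD1_c25 LD2_c43 LD3_c52)) = (LP (LK LD1_c16 LD2_c1 LD3_c44)) :=
  Lgr Lrot25 (Lpr_bt (f397878 IH) (Lpe (f397893 IH) (Lpr_bt (f397908 IH) (Lpn (LP (LK LD1_c16 LD2_c1 LD3_c44))))))
theorem f397910 : Led Lsl_ct (LP (LK LD1_c25 LD2_c43 LD3_c49)) = (LP (LK LD1_c16 LD2_c8 LD3_c40)) :=
  Lgr Lrot59 (Lpr_cf (f397906 IH) (Lpn (LP (LK LD1_c16 LD2_c8 LD3_c40))))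
theorem f220544 : Led Lsl_ct (LP (LK LD1_c0 LD2_c59 LD3_c46)) = (LP (LK LD1_c2 LD2_c5 LD3_c26)) :=
  Lre_c IH (LK LD1_c0 LD2_c59 LD3_c46) (LK LD1_c2 LD2_c5 LD3_c26) Lrfl Lrfl
theorem f220558 : Led Lsl_bt (LP (LK LD1_c2 LD2_c5 LD3_c26)) = (LP (LK LD1_c4 LD2_c16 LD3_c5)) :=
  Lre_b IH (LK LD1_c2 LD2_c5 LD3_c26) (LK LD1_c4 LD2_c16 LD3_c5) Lrfl Lrfl
theorem f237766 : Led Lsl_cf (LP (LK LD1_c4 LD2_c21 LD3_c47)) = (LP (LK LD1_c4 LD2_c16 LD3_c5)) :=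
  Lgr Lrot97 (Lpr_bt (f236609 IH) (Lpr_ct (K13.f39190 IH) (Lpr_bt (K13.f237727 IH) (Lpr_ct (f220544 IH) (Lpr_bt (f220558 IH) (Lpn (LP (LK LD1_c4 LD2_c16 LD3_c5))))))))
theorem f260555 : Led Lsl_gt (LP (LK LD1_c8 LD2_c41 LD3_c9)) = (LP (LK LD1_c4 LD2_c21 LD3_c47)) :=
  Lre_g IH (LK LD1_c8 LD2_c41 LD3_c9) (LK LD1_c4 LD2_c21 LD3_c47) Lrfl Lrfl
theorem f260556 : Led Lsl_ct (LP (LK LD1_c16 LD2_c16 LD3_c8)) = (LP (LK LD1_c8 LD2_c41 LD3_c9)) :=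
  Lre_c IH (LK LD1_c16 LD2_c16 LD3_c8) (LK LD1_c8 LD2_c41 LD3_c9) Lrfl Lrfl
theorem f397912 : Led Lsl_gt (LP (LK LD1_c16 LD2_c1 LD3_c44)) = (LP (LK LD1_c16 LD2_c16 LD3_c8)) :=
  Lgr Lrot82 (Lpe (f397908 IH) (Lpr_ct (f397910 IH) (Lpe (f292727 IH) (Lpr_cf (f374394 IH) (Lpr_bt (f312051 IH) (Lpe (K19.f237786 IH) (Lpe (f260543 IH) (Lpe (f237766 IH) (Lpe (f260555 IH) (Lpe (f260556 IH) (Lpn (LP (LK LD1_c16 LD2_c16 LD3_c8)))))))))))))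
theorem f397921 : Led Lsl_gf (LP (LK LD1_c15 LD2_c47 LD3_c7)) = (LP (LK LD1_c16 LD2_c16 LD3_c8)) :=
  Lgr Lrot76 (Lpe (f167065 IH) (Lpr_ff (f397917 IH) (Lpr_gt (f397912 IH) (Lpn (LP (LK LD1_c16 LD2_c16 LD3_c8))))))
theorem f374030 : Led Lsl_dt (LP (LK LD1_c16 LD2_c16 LD3_c8)) = (LP (LK LD1_c26 LD2_c13 LD3_c58)) :=
  Lre_d IH (LK LD1_c16 LD2_c16 LD3_c8) (LK LD1_c26 LD2_c13 LD3_c58) Lrfl Lrfl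
theorem f398390 : Led Lsl_gf (LP (LK LD1_c25 LD2_c43 LD3_c56)) = (LP (LK LD1_c26 LD2_c13 LD3_c58)) :=
  Lgr Lrot179 (Lpe (f254800 IH) (Lpe (f396903 IH) (Lpe (f398388 IH) (Lpr_dt (f398386 IH) (Lpr_cf (K27.f229787 IH) (Lpe (K27.f229793 IH) (Lpe (f167053 IH) (Lpr_gf (f397921 IH) (Lpr_dt (f374030 IH) (Lpn (LP (LK LD1_c26 LD2_c13 LD3_c58))))))))))))
theorem f254809 : Led Lsl_dt (LP (LK LD1_c19 LD2_c19 LD3_c45)) = (LP (LK LD1_c10 LD2_c40 LD3_c29)) :=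
  Lre_d IH (LK LD1_c19 LD2_c19 LD3_c45) (LK LD1_c10 LD2_c40 LD3_c29) Lrfl Lrfl
theorem f254802 : Led Lsl_ct (LP (LK LD1_c10 LD2_c59 LD3_c54)) = (LP (LK LD1_c10 LD2_c40 LD3_c29)) :=
  Lre_c IH (LK LD1_c10 LD2_c59 LD3_c54) (LK LD1_c10 LD2_c40 LD3_c29) Lrfl Lrfl
theorem f380791 : Led Lsl_at (LP (LK LD1_c5 LD2_c34 LD3_c9)) = (LP (LK LD1_c2 LD2_c43 LD3_c4)) :=
  Lre_a IH (LK LD1_c5 LD2_c34 LD3_c9) (LK LD1_c2 LD2_c43 LD3_c4) Lrfl Lrfl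
theorem f380748 : Led Lsl_gt (LP (LK LD1_c10 LD2_c57 LD3_c32)) = (LP (LK LD1_c5 LD2_c32 LD3_c55)) :=
  Lre_g IH (LK LD1_c10 LD2_c57 LD3_c32) (LK LD1_c5 LD2_c32 LD3_c55) Lrfl Lrfl
theorem f380792 : Led Lsl_ff (LP (LK LD1_c5 LD2_c34 LD3_c9)) = (LP (LK LD1_c10 LD2_c57 LD3_c32)) :=
  Lgr Lrot52 (Lpr_at (f380791 IH) (Lpr_gf (K27.f380789 IH) (Lpe (f380748 IH) (Lpn (LP (LK LD1_c10 LD2_c57 LD3_c32))))))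
theorem f387566 : Led Lsl_ft (LP (LK LD1_c5 LD2_c34 LD3_c9)) = (LP (LK LD1_c10 LD2_c57 LD3_c32)) :=
  Lgr Lrot48 (Lpr_ff (f380792 IH) (Lpn (LP (LK LD1_c10 LD2_c57 LD3_c32))))
theorem f387576 : Led Lsl_dt (LP (LK LD1_c11 LD2_c0 LD3_c27)) = (LP (LK LD1_c5 LD2_c34 LD3_c9)) :=
  Lre_d IH (LK LD1_c11 LD2_c0 LD3_c27) (LK LD1_c5 LD2_c34 LD3_c9) Lrfl Lrfl
theorem f380750 : Led Lsl_dt (LP (LK LD1_c10 LD2_c57 LD3_c32)) = (LP (LK LD1_c19 LD2_c47 LD3_c25)) :=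
  Lre_d IH (LK LD1_c10 LD2_c57 LD3_c32) (LK LD1_c19 LD2_c47 LD3_c25) Lrfl Lrfl
theorem f387577 : Led Lsl_ff (LP (LK LD1_c11 LD2_c0 LD3_c27)) = (LP (LK LD1_c19 LD2_c47 LD3_c25)) :=
  Lgr Lrot19 (Lpr_dt (f387576 IH) (Lpr_ft (f387566 IH) (Lpr_dt (f380750 IH) (Lpn (LP (LK LD1_c19 LD2_c47 LD3_c25))))))
theorem f387582 : Led Lsl_at (LP (LK LD1_c11 LD2_c0 LD3_c27)) = (LP (LK LD1_c5 LD2_c34 LD3_c11)) :=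
  Lre_a IH (LK LD1_c11 LD2_c0 LD3_c27) (LK LD1_c5 LD2_c34 LD3_c11) Lrfl Lrfl
theorem f387583 : Led Lsl_ft (LP (LK LD1_c5 LD2_c34 LD3_c11)) = (LP (LK LD1_c10 LD2_c59 LD3_c30)) :=
  Lre_f IH (LK LD1_c5 LD2_c34 LD3_c11) (LK LD1_c10 LD2_c59 LD3_c30) Lrfl Lrfl
theorem f387584 : Led Lsl_at (LP (LK LD1_c10 LD2_c59 LD3_c30)) = (LP (LK LD1_c19 LD2_c47 LD3_c25)) :=
  Lgr Lrot66 (Lpe (f387583 IH) (Lpe (f387582 IH) (Lpr_ff (f387577 IH) (Lpn (LP (LK LD1_c19 LD2_c47 LD3_c25))))))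
theorem f387588 : Led Lsl_bt (LP (LK LD1_c5 LD2_c33 LD3_c48)) = (LP (LK LD1_c10 LD2_c59 LD3_c30)) :=
  Lre_b IH (LK LD1_c5 LD2_c33 LD3_c48) (LK LD1_c10 LD2_c59 LD3_c30) Lrfl Lrfl
theorem f387589 : Led Lsl_at (LP (LK LD1_c2 LD2_c43 LD3_c1)) = (LP (LK LD1_c5 LD2_c33 LD3_c48)) :=
  Lre_a IH (LK LD1_c2 LD2_c43 LD3_c1) (LK LD1_c5 LD2_c33 LD3_c48) Lrfl Lrfl
theorem f226179 : Led Lsl_bt (LP (LK LD1_c5 LD2_c33 LD3_c53)) = (LP (LK LD1_c2 LD2_c43 LD3_c1)) :=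
  Lre_b IH (LK LD1_c5 LD2_c33 LD3_c53) (LK LD1_c2 LD2_c43 LD3_c1) Lrfl Lrfl
theorem f318851 : Led Lsl_at (LP (LK LD1_c10 LD2_c59 LD3_c40)) = (LP (LK LD1_c5 LD2_c33 LD3_c53)) :=
  Lre_a IH (LK LD1_c10 LD2_c59 LD3_c40) (LK LD1_c5 LD2_c33 LD3_c53) Lrfl Lrfl
theorem f387590 : Led Lsl_bf (LP (LK LD1_c10 LD2_c59 LD3_c40)) = (LP (LK LD1_c19 LD2_c47 LD3_c25)) :=
  Lgr Lrot81 (Lpr_at (f318851 IH) (Lpr_bt (f226179 IH) (Lpr_at (f387589 IH) (Lpr_bt (f387588 IH) (Lpr_at (f387584 IH) (Lpn (LP (LK LD1_c19 LD2_c47 LD3_c25))))))))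
theorem f387596 : Led Lsl_dt (LP (LK LD1_c10 LD2_c59 LD3_c40)) = (LP (LK LD1_c5 LD2_c33 LD3_c51)) :=
  Lre_d IH (LK LD1_c10 LD2_c59 LD3_c40) (LK LD1_c5 LD2_c33 LD3_c51) Lrfl Lrfl
theorem f387597 : Led Lsl_bt (LP (LK LD1_c5 LD2_c33 LD3_c51)) = (LP (LK LD1_c10 LD2_c57 LD3_c32)) :=
  Lgr Lrot95 (Lpe (f387596 IH) (Lpr_bf (f387590 IH) (Lpe (f380750 IH) (Lpn (LP (LK LD1_c10 LD2_c57 LD3_c32))))))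
theorem f380854 : Led Lsl_ct (LP (LK LD1_c7 LD2_c58 LD3_c58)) = (LP (LK LD1_c10 LD2_c57 LD3_c35)) :=
  Lgr Lrot59 (Lpr_cf (K27.f380848 IH) (Lpn (LP (LK LD1_c10 LD2_c57 LD3_c35))))
theorem f174031 : Led Lsl_bt (LP (LK LD1_c7 LD2_c58 LD3_c58)) = (LP (LK LD1_c3 LD2_c58 LD3_c45)) :=
  Lre_b IH (LK LD1_c7 LD2_c58 LD3_c58) (LK LD1_c3 LD2_c58 LD3_c45) Lrfl Lrfl
theorem f387605 : Led Lsl_ct (LP (LK LD1_c5 LD2_c33 LD3_c51)) = (LP (LK LD1_c7 LD2_c58 LD3_c32)) :=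
  Lgr Lrot63 (Lpr_bt (f387597 IH) (Lpr_gt (f380748 IH) (Lpe (K27.f380737 IH) (Lpr_ct (K27.f218151 IH) (Lpr_gt (K27.f380724 IH) (Lpe (f380854 IH) (Lpr_bt (f174031 IH) (Lpr_gt (K16.f54804 IH) (Lpr_ct (f54788 IH) (Lpr_gt (K12.f54900 IH) (Lpn (LP (LK LD1_c7 LD2_c58 LD3_c32)))))))))))))
theorem f318397 : Led Lsl_ct (LP (LK LD1_c4 LD2_c30 LD3_c5)) = (LP (LK LD1_c8 LD2_c58 LD3_c19)) :=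
  Lre_c IH (LK LD1_c4 LD2_c30 LD3_c5) (LK LD1_c8 LD2_c58 LD3_c19) Lrfl Lrfl
theorem f387615 : Led Lsl_gf (LP (LK LD1_c5 LD2_c33 LD3_c51)) = (LP (LK LD1_c8 LD2_c58 LD3_c18)) :=
  Lgr Lrot181 (Lpr_ct (f387605 IH) (Lpr_gt (K12.f173898 IH) (Lpe (K27.f173636 IH) (Lpe (K9.f173063 IH) (Lpr_gt (K22.f173902 IH) (Lpe (K22.f168806 IH) (Lpr_ct (K22.f168807 IH) (Lpr_gt (K20.f318385 IH) (Lpe (f318397 IH) (Lpr_bt (K20.f318392 IH) (Lpn (LP (LK LD1_c8 LD2_c58 LD3_c18)))))))))))))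
theorem f387600 : Led Lsl_at (LP (LK LD1_c2 LD2_c42 LD3_c61)) = (LP (LK LD1_c5 LD2_c33 LD3_c51)) :=
  Lre_a IH (LK LD1_c2 LD2_c42 LD3_c61) (LK LD1_c5 LD2_c33 LD3_c51) Lrfl Lrfl
theorem f387617 : Led Lsl_ft (LP (LK LD1_c5 LD2_c33 LD3_c55)) = (LP (LK LD1_c2 LD2_c42 LD3_c61)) :=
  Lre_f IH (LK LD1_c5 LD2_c33 LD3_c55) (LK LD1_c2 LD2_c42 LD3_c61) Lrfl Lrfl
theorem f387618 : Led Lsl_gt (LP (LK LD1_c5 LD2_c33 LD3_c55)) = (LP (LK LD1_c8 LD2_c58 LD3_c18)) :=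
  Lgr Lrot5 (Lpr_ft (f387617 IH) (Lpr_at (f387600 IH) (Lpr_gf (f387615 IH) (Lpn (LP (LK LD1_c8 LD2_c58 LD3_c18))))))
theorem f387625 : Led Lsl_bt (LP (LK LD1_c2 LD2_c43 LD3_c3)) = (LP (LK LD1_c5 LD2_c33 LD3_c55)) :=
  Lre_b IH (LK LD1_c2 LD2_c43 LD3_c3) (LK LD1_c5 LD2_c33 LD3_c55) Lrfl Lrfl
theorem f387628 : Led Lsl_ct (LP (LK LD1_c2 LD2_c43 LD3_c3)) = (LP (LK LD1_c5 LD2_c33 LD3_c61)) :=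
  Lre_c IH (LK LD1_c2 LD2_c43 LD3_c3) (LK LD1_c5 LD2_c33 LD3_c61) Lrfl Lrfl
theorem f290429 : Led Lsl_ct (LP (LK LD1_c16 LD2_c41 LD3_c22)) = (LP (LK LD1_c8 LD2_c55 LD3_c11)) :=
  Lre_c IH (LK LD1_c16 LD2_c41 LD3_c22) (LK LD1_c8 LD2_c55 LD3_c11) Lrfl Lrfl
theorem f213546 : Led Lsl_bt (LP (LK LD1_c1 LD2_c17 LD3_c54)) = (LP (LK LD1_c0 LD2_c35 LD3_c58)) :=
  Lre_b IH (LK LD1_c1 LD2_c17 LD3_c54) (LK LD1_c0 LD2_c35 LD3_c58) Lrfl Lrfl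
theorem f213745 : Led Lsl_ct (LP (LK LD1_c1 LD2_c17 LD3_c54)) = (LP (LK LD1_c2 LD2_c42 LD3_c43)) :=
  Lre_c IH (LK LD1_c1 LD2_c17 LD3_c54) (LK LD1_c2 LD2_c42 LD3_c43) Lrfl Lrfl
theorem f174186 : Led Lsl_gt (LP (LK LD1_c10 LD2_c56 LD3_c53)) = (LP (LK LD1_c5 LD2_c32 LD3_c34)) :=
  Lre_g IH (LK LD1_c10 LD2_c56 LD3_c53) (LK LD1_c5 LD2_c32 LD3_c34) Lrfl Lrfl
theorem f290430 : Led Lsl_bt (LP (LK LD1_c16 LD2_c41 LD3_c22)) = (LP (LK LD1_c10 LD2_c56 LD3_c53)) :=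
  Lgr Lrot130 (Lpr_ct (f290429 IH) (Lpr_gf (K17.f290406 IH) (Lpe (K17.f179174 IH) (Lpr_bt (K17.f290398 IH) (Lpe (K9.f174126 IH) (Lpe (f213546 IH) (Lpr_ct (f213745 IH) (Lpe (K24.f174184 IH) (Lpe (K24.f174185 IH) (Lpe (f174186 IH) (Lpn (LP (LK LD1_c10 LD2_c56 LD3_c53)))))))))))))
theorem f290477 : Led Lsl_ff (LP (LK LD1_c16 LD2_c41 LD3_c19)) = (LP (LK LD1_c10 LD2_c56 LD3_c53)) :=
  Lgr Lrot25 (Lpr_bt (K27.f224527 IH) (Lpr_ft (K27.f290356 IH) (Lpr_bt (f290430 IH) (Lpn (LP (LK LD1_c10 LD2_c56 LD3_c53))))))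
theorem f380835 : Led Lsl_ct (LP (LK LD1_c16 LD2_c47 LD3_c39)) = (LP (LK LD1_c10 LD2_c56 LD3_c53)) :=
  Lgr Lrot40 (Lpr_ff (K27.f380831 IH) (Lpe (K27.f380797 IH) (Lpr_ff (f290477 IH) (Lpn (LP (LK LD1_c10 LD2_c56 LD3_c53))))))
theorem f380822 : Led Lsl_bt (LP (LK LD1_c16 LD2_c41 LD3_c15)) = (LP (LK LD1_c10 LD2_c57 LD3_c36)) :=
  Lgr Lrot128 (Lpe (K20.f223500 IH) (Lpe (K27.f223495 IH) (Lpe (K27.f224511 IH) (Lpe (K27.f224527 IH) (Lpr_cf (K27.f380808 IH) (Lpn (LP (LK LD1_c10 LD2_c57 LD3_c36))))))))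
theorem f380833 : Led Lsl_bt (LP (LK LD1_c16 LD2_c47 LD3_c39)) = (LP (LK LD1_c9 LD2_c51 LD3_c47)) :=
  Lgr Lrot35 (Lpr_ff (K27.f380831 IH) (Lpe (f380822 IH) (Lpr_ff (K20.f290448 IH) (Lpn (LP (LK LD1_c9 LD2_c51 LD3_c47))))))
theorem f213486 : Led Lsl_ct (LP (LK LD1_c5 LD2_c33 LD3_c2)) = (LP (LK LD1_c10 LD2_c57 LD3_c56)) :=
  Lre_c IH (LK LD1_c5 LD2_c33 LD3_c2) (LK LD1_c10 LD2_c57 LD3_c56) Lrfl Lrfl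
theorem f387522 : Led Lsl_gt (LP (LK LD1_c10 LD2_c57 LD3_c56)) = (LP (LK LD1_c10 LD2_c56 LD3_c53)) :=
  Lgr Lrot149 (Lpe (f213486 IH) (Lpe (K20.f213007 IH) (Lpr_bf (K20.f213482 IH) (Lpr_ct (K16.f171306 IH) (Lpe (K13.f213478 IH) (Lpe (K12.f53664 IH) (Lpr_bt (K14.f53673 IH) (Lpe (K20.f54266 IH) (Lpe (f380833 IH) (Lpr_ct (f380835 IH) (Lpn (LP (LK LD1_c10 LD2_c56 LD3_c53)))))))))))))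
theorem f290481 : Led Lsl_ft (LP (LK LD1_c16 LD2_c41 LD3_c19)) = (LP (LK LD1_c10 LD2_c56 LD3_c53)) :=
  Lgr Lrot48 (Lpr_ff (f290477 IH) (Lpn (LP (LK LD1_c10 LD2_c56 LD3_c53))))
theorem f380829 : Led Lsl_cf (LP (LK LD1_c16 LD2_c47 LD3_c39)) = (LP (LK LD1_c10 LD2_c56 LD3_c53)) :=
  Lgr Lrot108 (Lpr_ft (K27.f380825 IH) (Lpe (K27.f380808 IH) (Lpr_ft (f290481 IH) (Lpn (LP (LK LD1_c10 LD2_c56 LD3_c53))))))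
theorem f380850 : Led Lsl_at (LP (LK LD1_c7 LD2_c58 LD3_c58)) = (LP (LK LD1_c10 LD2_c56 LD3_c53)) :=
  Lgr Lrot107 (Lpr_cf (K27.f380848 IH) (Lpe (K27.f380837 IH) (Lpr_cf (f380829 IH) (Lpn (LP (LK LD1_c10 LD2_c56 LD3_c53))))))
theorem f387492 : Led Lsl_ff (LP (LK LD1_c7 LD2_c58 LD3_c58)) = (LP (LK LD1_c10 LD2_c54 LD3_c32)) :=
  Lgr Lrot23 (Lpr_ct (f380854 IH) (Lpe (K27.f380843 IH) (Lpe (K27.f225202 IH) (Lpn (LP (LK LD1_c10 LD2_c54 LD3_c32))))))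
theorem f387535 : Led Lsl_gf (LP (LK LD1_c10 LD2_c57 LD3_c56)) = (LP (LK LD1_c10 LD2_c54 LD3_c32)) :=
  Lgr Lrot47 (Lpr_gt (f387522 IH) (Lpe (f380850 IH) (Lpr_ff (f387492 IH) (Lpn (LP (LK LD1_c10 LD2_c54 LD3_c32))))))
theorem f218456 : Led Lsl_bt (LP (LK LD1_c10 LD2_c41 LD3_c19)) = (LP (LK LD1_c10 LD2_c57 LD3_c56)) :=
  Lre_b IH (LK LD1_c10 LD2_c41 LD3_c19) (LK LD1_c10 LD2_c57 LD3_c56) Lrfl Lrfl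
theorem f218376 : Led Lsl_ct (LP (LK LD1_c10 LD2_c41 LD3_c19)) = (LP (LK LD1_c10 LD2_c39 LD3_c52)) :=
  Lre_c IH (LK LD1_c10 LD2_c41 LD3_c19) (LK LD1_c10 LD2_c39 LD3_c52) Lrfl Lrfl
theorem f387629 : Led Lsl_gf (LP (LK LD1_c5 LD2_c33 LD3_c61)) = (LP (LK LD1_c10 LD2_c39 LD3_c52)) :=
  Lgr Lrot126 (Lpe (f387628 IH) (Lpr_bt (f387625 IH) (Lpr_gt (f387618 IH) (Lpr_ct (K20.f168804 IH) (Lpr_gt (K20.f318417 IH) (Lpe (f173661 IH) (Lpr_bt (K27.f225201 IH) (Lpe (f387535 IH) (Lpe (f218456 IH) (Lpr_ct (f218376 IH) (Lpn (LP (LK LD1_c10 LD2_c39 LD3_c52)))))))))))))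
theorem f387626 : Led Lsl_ct (LP (LK LD1_c5 LD2_c33 LD3_c61)) = (LP (LK LD1_c2 LD2_c43 LD3_c3)) :=
  Lre_c IH (LK LD1_c5 LD2_c33 LD3_c61) (LK LD1_c2 LD2_c43 LD3_c3) Lrfl Lrfl
theorem f387804 : Led Lsl_dt (LP (LK LD1_c2 LD2_c43 LD3_c3)) = (LP (LK LD1_c5 LD2_c34 LD3_c3)) :=
  Lre_d IH (LK LD1_c2 LD2_c43 LD3_c3) (LK LD1_c5 LD2_c34 LD3_c3) Lrfl Lrfl
theorem f387805 : Led Lsl_ct (LP (LK LD1_c11 LD2_c0 LD3_c18)) = (LP (LK LD1_c5 LD2_c34 LD3_c3)) :=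
  Lre_c IH (LK LD1_c11 LD2_c0 LD3_c18) (LK LD1_c5 LD2_c34 LD3_c3) Lrfl Lrfl
theorem f387806 : Led Lsl_gt (LP (LK LD1_c19 LD2_c50 LD3_c22)) = (LP (LK LD1_c11 LD2_c0 LD3_c18)) :=
  Lre_g IH (LK LD1_c19 LD2_c50 LD3_c22) (LK LD1_c11 LD2_c0 LD3_c18) Lrfl Lrfl
theorem f218373 : Led Lsl_gt (LP (LK LD1_c5 LD2_c25 LD3_c14)) = (LP (LK LD1_c10 LD2_c41 LD3_c19)) :=
  Lre_g IH (LK LD1_c5 LD2_c25 LD3_c14) (LK LD1_c10 LD2_c41 LD3_c19) Lrfl Lrfl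
theorem f226133 : Led Lsl_gt (LP (LK LD1_c10 LD2_c41 LD3_c21)) = (LP (LK LD1_c19 LD2_c20 LD3_c59)) :=
  Lre_g IH (LK LD1_c10 LD2_c41 LD3_c21) (LK LD1_c19 LD2_c20 LD3_c59) Lrfl Lrfl
theorem f387807 : Led Lsl_cf (LP (LK LD1_c19 LD2_c50 LD3_c22)) = (LP (LK LD1_c19 LD2_c20 LD3_c59)) :=
  Lgr Lrot169 (Lpr_gt (f387806 IH) (Lpr_ct (f387805 IH) (Lpe (f387804 IH) (Lpe (f387626 IH) (Lpr_gf (f387629 IH) (Lpe (f218376 IH) (Lpe (f218373 IH) (Lpe (f226134 IH) (Lpr_gt (f226133 IH) (Lpn (LP (LK LD1_c19 LD2_c20 LD3_c59))))))))))))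
theorem f387816 : Led Lsl_ct (LP (LK LD1_c5 LD2_c34 LD3_c3)) = (LP (LK LD1_c11 LD2_c0 LD3_c18)) :=
  Lre_c IH (LK LD1_c5 LD2_c34 LD3_c3) (LK LD1_c11 LD2_c0 LD3_c18) Lrfl Lrfl
theorem f387817 : Led Lsl_bt (LP (LK LD1_c5 LD2_c34 LD3_c3)) = (LP (LK LD1_c10 LD2_c59 LD3_c48)) :=
  Lre_b IH (LK LD1_c5 LD2_c34 LD3_c3) (LK LD1_c10 LD2_c59 LD3_c48) Lrfl Lrfl
theorem f387622 : Led Lsl_dt (LP (LK LD1_c5 LD2_c33 LD3_c55)) = (LP (LK LD1_c10 LD2_c59 LD3_c48)) :=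
  Lre_d IH (LK LD1_c5 LD2_c33 LD3_c55) (LK LD1_c10 LD2_c59 LD3_c48) Lrfl Lrfl
theorem f387623 : Led Lsl_gt (LP (LK LD1_c10 LD2_c59 LD3_c48)) = (LP (LK LD1_c11 LD2_c10 LD3_c1)) :=
  Lgr Lrot9 (Lpe (f387622 IH) (Lpr_gt (f387618 IH) (Lpr_ct (K20.f168804 IH) (Lpr_gt (K20.f318417 IH) (Lpr_ct (K20.f173660 IH) (Lpe (K20.f173659 IH) (Lpe (K20.f173715 IH) (Lpr_gf (K20.f318675 IH) (Lpe (K20.f289596 IH) (Lpn (LP (LK LD1_c11 LD2_c10 LD3_c1))))))))))))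
theorem f387818 : Led Lsl_bt (LP (LK LD1_c5 LD2_c39 LD3_c29)) = (LP (LK LD1_c11 LD2_c10 LD3_c1)) :=
  Lre_b IH (LK LD1_c5 LD2_c39 LD3_c29) (LK LD1_c11 LD2_c10 LD3_c1) Lrfl Lrfl
theorem f289603 : Led Lsl_ct (LP (LK LD1_c5 LD2_c39 LD3_c29)) = (LP (LK LD1_c11 LD2_c10 LD3_c5)) :=
  Lre_c IH (LK LD1_c5 LD2_c39 LD3_c29) (LK LD1_c11 LD2_c10 LD3_c5) Lrfl Lrfl
theorem f384863 : Led Lsl_dt (LP (LK LD1_c2 LD2_c41 LD3_c28)) = (LP (LK LD1_c5 LD2_c30 LD3_c27)) :=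
  Lre_d IH (LK LD1_c2 LD2_c41 LD3_c28) (LK LD1_c5 LD2_c30 LD3_c27) Lrfl Lrfl
theorem f384853 : Led Lsl_ct (LP (LK LD1_c10 LD2_c52 LD3_c27)) = (LP (LK LD1_c5 LD2_c30 LD3_c27)) :=
  Lre_c IH (LK LD1_c10 LD2_c52 LD3_c27) (LK LD1_c5 LD2_c30 LD3_c27) Lrfl Lrfl
theorem f382593 : Led Lsl_et (LP (LK LD1_c16 LD2_c48 LD3_c11)) = (LP (LK LD1_c26 LD2_c46 LD3_c11)) :=
  Lre_e IH (LK LD1_c16 LD2_c48 LD3_c11) (LK LD1_c26 LD2_c46 LD3_c11) Lrfl Lrfl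
theorem f382594 : Led Lsl_at (LP (LK LD1_c26 LD2_c46 LD3_c11)) = (LP (LK LD1_c19 LD2_c48 LD3_c57)) :=
  Lgr Lrot80 (Lpe (f382593 IH) (Lpr_af (K27.f382585 IH) (Lpe (K27.f174265 IH) (Lpn (LP (LK LD1_c19 LD2_c48 LD3_c57))))))
theorem f382602 : Led Lsl_ct (LP (LK LD1_c16 LD2_c48 LD3_c12)) = (LP (LK LD1_c26 LD2_c46 LD3_c11)) :=
  Lre_c IH (LK LD1_c16 LD2_c48 LD3_c12) (LK LD1_c26 LD2_c46 LD3_c11) Lrfl Lrfl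
theorem f382603 : Led Lsl_af (LP (LK LD1_c16 LD2_c48 LD3_c12)) = (LP (LK LD1_c10 LD2_c58 LD3_c29)) :=
  Lgr Lrot68 (Lpr_ct (f382602 IH) (Lpr_at (f382594 IH) (Lpr_ct (K27.f174258 IH) (Lpn (LP (LK LD1_c10 LD2_c58 LD3_c29))))))
theorem f174241 : Led Lsl_bt (LP (LK LD1_c5 LD2_c33 LD3_c15)) = (LP (LK LD1_c10 LD2_c58 LD3_c29)) :=
  Lre_b IH (LK LD1_c5 LD2_c33 LD3_c15) (LK LD1_c10 LD2_c58 LD3_c29) Lrfl Lrfl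
theorem f180396 : Led Lsl_et (LP (LK LD1_c5 LD2_c28 LD3_c44)) = (LP (LK LD1_c2 LD2_c40 LD3_c39)) :=
  Lre_e IH (LK LD1_c5 LD2_c28 LD3_c44) (LK LD1_c2 LD2_c40 LD3_c39) Lrfl Lrfl
theorem f180397 : Led Lsl_ct (LP (LK LD1_c2 LD2_c44 LD3_c34)) = (LP (LK LD1_c5 LD2_c28 LD3_c44)) :=
  Lgr Lrot15 (Lpe (K17.f164734 IH) (Lpr_cf (K20.f180284 IH) (Lpe (f180396 IH) (Lpn (LP (LK LD1_c5 LD2_c28 LD3_c44))))))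
theorem f289299 : Led Lsl_af (LP (LK LD1_c5 LD2_c33 LD3_c15)) = (LP (LK LD1_c5 LD2_c28 LD3_c44)) :=
  Lgr Lrot68 (Lpr_ct (K27.f174247 IH) (Lpr_at (K17.f289292 IH) (Lpr_ct (f180397 IH) (Lpn (LP (LK LD1_c5 LD2_c28 LD3_c44))))))
theorem f180436 : Led Lsl_bt (LP (LK LD1_c10 LD2_c48 LD3_c29)) = (LP (LK LD1_c5 LD2_c28 LD3_c44)) :=
  Lre_b IH (LK LD1_c10 LD2_c48 LD3_c29) (LK LD1_c5 LD2_c28 LD3_c44) Lrfl Lrfl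
theorem f277180 : Led Lsl_df (LP (LK LD1_c5 LD2_c34 LD3_c0)) = (LP (LK LD1_c5 LD2_c28 LD3_c41)) :=
  Lgr Lrot38 (Lpr_dt (f277176 IH) (Lpn (LP (LK LD1_c5 LD2_c28 LD3_c41))))
theorem f277175 : Led Lsl_at (LP (LK LD1_c2 LD2_c40 LD3_c38)) = (LP (LK LD1_c5 LD2_c28 LD3_c41)) :=
  Lre_a IH (LK LD1_c2 LD2_c40 LD3_c38) (LK LD1_c5 LD2_c28 LD3_c41) Lrfl Lrfl
theorem f173013 : Led Lsl_dt (LP (LK LD1_c5 LD2_c28 LD3_c42)) = (LP (LK LD1_c2 LD2_c40 LD3_c38)) :=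
  Lre_d IH (LK LD1_c5 LD2_c28 LD3_c42) (LK LD1_c2 LD2_c40 LD3_c38) Lrfl Lrfl
theorem f277266 : Led Lsl_at (LP (LK LD1_c5 LD2_c34 LD3_c0)) = (LP (LK LD1_c5 LD2_c28 LD3_c42)) :=
  Lgr Lrot51 (Lpr_df (f277180 IH) (Lpe (f277175 IH) (Lpe (f173013 IH) (Lpn (LP (LK LD1_c5 LD2_c28 LD3_c42))))))
theorem f225415 : Led Lsl_at (LP (LK LD1_c5 LD2_c33 LD3_c16)) = (LP (LK LD1_c10 LD2_c58 LD3_c30)) :=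
  Lre_a IH (LK LD1_c5 LD2_c33 LD3_c16) (LK LD1_c10 LD2_c58 LD3_c30) Lrfl Lrfl
theorem f277273 : Led Lsl_ff (LP (LK LD1_c5 LD2_c33 LD3_c16)) = (LP (LK LD1_c5 LD2_c28 LD3_c42)) :=
  Lgr Lrot30 (Lpr_at (f225415 IH) (Lpe (K22.f226362 IH) (Lpr_at (f277266 IH) (Lpn (LP (LK LD1_c5 LD2_c28 LD3_c42))))))
theorem f277279 : Led Lsl_ft (LP (LK LD1_c5 LD2_c33 LD3_c16)) = (LP (LK LD1_c5 LD2_c28 LD3_c42)) :=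
  Lgr Lrot48 (Lpr_ff (f277273 IH) (Lpn (LP (LK LD1_c5 LD2_c28 LD3_c42))))
theorem f173000 : Led Lsl_ct (LP (LK LD1_c5 LD2_c28 LD3_c42)) = (LP (LK LD1_c10 LD2_c48 LD3_c28)) :=
  Lre_c IH (LK LD1_c5 LD2_c28 LD3_c42) (LK LD1_c10 LD2_c48 LD3_c28) Lrfl Lrfl
theorem f277281 : Led Lsl_ff (LP (LK LD1_c10 LD2_c58 LD3_c31)) = (LP (LK LD1_c10 LD2_c48 LD3_c28)) :=
  Lgr Lrot23 (Lpr_ct (f213415 IH) (Lpr_ft (f277279 IH) (Lpr_ct (f173000 IH) (Lpn (LP (LK LD1_c10 LD2_c48 LD3_c28))))))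
theorem f225411 : Led Lsl_at (LP (LK LD1_c10 LD2_c58 LD3_c31)) = (LP (LK LD1_c19 LD2_c48 LD3_c58)) :=
  Lre_a IH (LK LD1_c10 LD2_c58 LD3_c31) (LK LD1_c19 LD2_c48 LD3_c58) Lrfl Lrfl
theorem f225407 : Led Lsl_ct (LP (LK LD1_c10 LD2_c58 LD3_c30)) = (LP (LK LD1_c19 LD2_c48 LD3_c58)) :=
  Lre_c IH (LK LD1_c10 LD2_c58 LD3_c30) (LK LD1_c19 LD2_c48 LD3_c58) Lrfl Lrfl
theorem f226358 : Led Lsl_ff (LP (LK LD1_c11 LD2_c0 LD3_c11)) = (LP (LK LD1_c19 LD2_c48 LD3_c58)) :=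
  Lgr Lrot23 (Lpr_ct (f226330 IH) (Lpr_ft (K22.f226140 IH) (Lpr_ct (f225407 IH) (Lpn (LP (LK LD1_c19 LD2_c48 LD3_c58))))))
theorem f277284 : Led Lsl_at (LP (LK LD1_c11 LD2_c0 LD3_c11)) = (LP (LK LD1_c10 LD2_c48 LD3_c28)) :=
  Lgr Lrot66 (Lpr_ff (f226358 IH) (Lpe (f225411 IH) (Lpr_ff (f277281 IH) (Lpn (LP (LK LD1_c10 LD2_c48 LD3_c28))))))
theorem f226339 : Led Lsl_et (LP (LK LD1_c19 LD2_c51 LD3_c14)) = (LP (LK LD1_c11 LD2_c0 LD3_c11)) :=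
  Lre_e IH (LK LD1_c19 LD2_c51 LD3_c14) (LK LD1_c11 LD2_c0 LD3_c11) Lrfl Lrfl
theorem f173028 : Led Lsl_et (LP (LK LD1_c10 LD2_c48 LD3_c28)) = (LP (LK LD1_c19 LD2_c32 LD3_c35)) :=
  Lre_e IH (LK LD1_c10 LD2_c48 LD3_c28) (LK LD1_c19 LD2_c32 LD3_c35) Lrfl Lrfl
theorem f277290 : Led Lsl_af (LP (LK LD1_c19 LD2_c51 LD3_c14)) = (LP (LK LD1_c19 LD2_c32 LD3_c35)) :=
  Lgr Lrot50 (Lpr_et (f226339 IH) (Lpr_at (f277284 IH) (Lpr_et (f173028 IH) (Lpn (LP (LK LD1_c19 LD2_c32 LD3_c35))))))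
theorem f277294 : Led Lsl_ct (LP (LK LD1_c19 LD2_c51 LD3_c14)) = (LP (LK LD1_c11 LD2_c0 LD3_c12)) :=
  Lre_c IH (LK LD1_c19 LD2_c51 LD3_c14) (LK LD1_c11 LD2_c0 LD3_c12) Lrfl Lrfl
theorem f180430 : Led Lsl_ct (LP (LK LD1_c10 LD2_c48 LD3_c29)) = (LP (LK LD1_c19 LD2_c32 LD3_c35)) :=
  Lre_c IH (LK LD1_c10 LD2_c48 LD3_c29) (LK LD1_c19 LD2_c32 LD3_c35) Lrfl Lrfl
theorem f277295 : Led Lsl_at (LP (LK LD1_c11 LD2_c0 LD3_c12)) = (LP (LK LD1_c10 LD2_c48 LD3_c29)) :=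
  Lgr Lrot107 (Lpe (f277294 IH) (Lpr_af (f277290 IH) (Lpe (f180430 IH) (Lpn (LP (LK LD1_c10 LD2_c48 LD3_c29))))))
theorem f382605 : Led Lsl_bt (LP (LK LD1_c16 LD2_c48 LD3_c12)) = (LP (LK LD1_c11 LD2_c0 LD3_c12)) :=
  Lgr Lrot62 (Lpr_af (f382603 IH) (Lpe (f174241 IH) (Lpr_af (f289299 IH) (Lpe (f180436 IH) (Lpe (f277295 IH) (Lpn (LP (LK LD1_c11 LD2_c0 LD3_c12))))))))
theorem f382569 : Led Lsl_et (LP (LK LD1_c8 LD2_c59 LD3_c1)) = (LP (LK LD1_c16 LD2_c48 LD3_c12)) :=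
  Lre_e IH (LK LD1_c8 LD2_c59 LD3_c1) (LK LD1_c16 LD2_c48 LD3_c12) Lrfl Lrfl
theorem f226360 : Led Lsl_et (LP (LK LD1_c11 LD2_c0 LD3_c12)) = (LP (LK LD1_c5 LD2_c34 LD3_c0)) :=
  Lre_e IH (LK LD1_c11 LD2_c0 LD3_c12) (LK LD1_c5 LD2_c34 LD3_c0) Lrfl Lrfl
theorem f382610 : Led Lsl_bf (LP (LK LD1_c8 LD2_c59 LD3_c1)) = (LP (LK LD1_c5 LD2_c34 LD3_c0)) :=
  Lgr Lrot96 (Lpr_et (f382569 IH) (Lpr_bt (f382605 IH) (Lpr_et (f226360 IH) (Lpn (LP (LK LD1_c5 LD2_c34 LD3_c0))))))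
theorem f382582 : Led Lsl_gt (LP (LK LD1_c8 LD2_c59 LD3_c1)) = (LP (LK LD1_c4 LD2_c30 LD3_c28)) :=
  Lre_g IH (LK LD1_c8 LD2_c59 LD3_c1) (LK LD1_c4 LD2_c30 LD3_c28) Lrfl Lrfl
theorem f382615 : Led Lsl_bt (LP (LK LD1_c8 LD2_c59 LD3_c11)) = (LP (LK LD1_c4 LD2_c30 LD3_c28)) :=
  Lre_b IH (LK LD1_c8 LD2_c59 LD3_c11) (LK LD1_c4 LD2_c30 LD3_c28) Lrfl Lrfl
theorem f281683 : Led Lsl_ct (LP (LK LD1_c8 LD2_c59 LD3_c11)) = (LP (LK LD1_c16 LD2_c48 LD3_c25)) :=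
  Lre_c IH (LK LD1_c8 LD2_c59 LD3_c11) (LK LD1_c16 LD2_c48 LD3_c25) Lrfl Lrfl
theorem f384852 : Led Lsl_bt (LP (LK LD1_c5 LD2_c30 LD3_c27)) = (LP (LK LD1_c10 LD2_c52 LD3_c22)) :=
  Lre_b IH (LK LD1_c5 LD2_c30 LD3_c27) (LK LD1_c10 LD2_c52 LD3_c22) Lrfl Lrfl
theorem f384855 : Led Lsl_ct (LP (LK LD1_c5 LD2_c30 LD3_c27)) = (LP (LK LD1_c10 LD2_c52 LD3_c27)) :=
  Lre_c IH (LK LD1_c5 LD2_c30 LD3_c27) (LK LD1_c10 LD2_c52 LD3_c27) Lrfl Lrfl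
theorem f384856 : Led Lsl_gt (LP (LK LD1_c16 LD2_c48 LD3_c25)) = (LP (LK LD1_c10 LD2_c52 LD3_c27)) :=
  Lgr Lrot65 (Lpe (f281683 IH) (Lpr_bt (f382615 IH) (Lpe (f382582 IH) (Lpr_bf (f382610 IH) (Lpr_ct (K22.f226336 IH) (Lpe (f226331 IH) (Lpe (K22.f226129 IH) (Lpr_gf (f384829 IH) (Lpe (f384852 IH) (Lpr_ct (f384855 IH) (Lpn (LP (LK LD1_c10 LD2_c52 LD3_c27)))))))))))))
theorem f179232 : Led Lsl_dt (LP (LK LD1_c11 LD2_c9 LD3_c48)) = (LP (LK LD1_c5 LD2_c39 LD3_c23)) :=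
  Lre_d IH (LK LD1_c11 LD2_c9 LD3_c48) (LK LD1_c5 LD2_c39 LD3_c23) Lrfl Lrfl
theorem f384882 : Led Lsl_gf (LP (LK LD1_c8 LD2_c59 LD3_c11)) = (LP (LK LD1_c11 LD2_c9 LD3_c48)) :=
  Lgr Lrot147 (Lpr_ct (f281683 IH) (Lpr_gt (f384856 IH) (Lpr_ct (f384853 IH) (Lpe (f384863 IH) (Lpe (f234787 IH) (Lpe (f384869 IH) (Lpr_cf (K27.f179125 IH) (Lpr_gf (f384880 IH) (Lpe (f179232 IH) (Lpn (LP (LK LD1_c11 LD2_c9 LD3_c48))))))))))))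
theorem f384887 : Led Lsl_bt (LP (LK LD1_c5 LD2_c39 LD3_c25)) = (LP (LK LD1_c11 LD2_c9 LD3_c48)) :=
  Lre_b IH (LK LD1_c5 LD2_c39 LD3_c25) (LK LD1_c11 LD2_c9 LD3_c48) Lrfl Lrfl
theorem f171869 : Led Lsl_ct (LP (LK LD1_c5 LD2_c39 LD3_c25)) = (LP (LK LD1_c11 LD2_c9 LD3_c55)) :=
  Lre_c IH (LK LD1_c5 LD2_c39 LD3_c25) (LK LD1_c11 LD2_c9 LD3_c55) Lrfl Lrfl
theorem f384879 : Led Lsl_gt (LP (LK LD1_c20 LD2_c4 LD3_c29)) = (LP (LK LD1_c11 LD2_c9 LD3_c55)) :=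
  Lre_g IH (LK LD1_c20 LD2_c4 LD3_c29) (LK LD1_c11 LD2_c9 LD3_c55) Lrfl Lrfl
theorem f384888 : Led Lsl_ct (LP (LK LD1_c19 LD2_c20 LD3_c58)) = (LP (LK LD1_c20 LD2_c4 LD3_c29)) :=
  Lgr Lrot64 (Lpr_bt (K22.f332388 IH) (Lpr_gf (f384829 IH) (Lpe (f384852 IH) (Lpr_ct (f384855 IH) (Lpe (f384856 IH) (Lpe (f281683 IH) (Lpr_gf (f384882 IH) (Lpe (f384887 IH) (Lpr_ct (f171869 IH) (Lpe (f384879 IH) (Lpn (LP (LK LD1_c20 LD2_c4 LD3_c29)))))))))))))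
theorem f387819 : Led Lsl_gt (LP (LK LD1_c11 LD2_c10 LD3_c5)) = (LP (LK LD1_c20 LD2_c4 LD3_c29)) :=
  Lgr Lrot65 (Lpe (f289603 IH) (Lpr_bt (f387818 IH) (Lpe (f387623 IH) (Lpe (f387817 IH) (Lpr_ct (f387816 IH) (Lpe (f387806 IH) (Lpr_cf (f387807 IH) (Lpe (f226133 IH) (Lpe (K22.f332388 IH) (Lpr_ct (f384888 IH) (Lpn (LP (LK LD1_c20 LD2_c4 LD3_c29)))))))))))))
theorem f238489 : Led Lsl_dt (LP (LK LD1_c5 LD2_c33 LD3_c33)) = (LP (LK LD1_c2 LD2_c42 LD3_c53)) :=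
  Lre_d IH (LK LD1_c5 LD2_c33 LD3_c33) (LK LD1_c2 LD2_c42 LD3_c53) Lrfl Lrfl
theorem f384893 : Led Lsl_cf (LP (LK LD1_c19 LD2_c20 LD3_c58)) = (LP (LK LD1_c20 LD2_c4 LD3_c29)) :=
  Lgr Lrot11 (Lpr_ct (f384888 IH) (Lpn (LP (LK LD1_c20 LD2_c4 LD3_c29))))
theorem f218377 : Led Lsl_dt (LP (LK LD1_c10 LD2_c41 LD3_c20)) = (LP (LK LD1_c19 LD2_c20 LD3_c58)) :=
  Lre_d IH (LK LD1_c10 LD2_c41 LD3_c20) (LK LD1_c19 LD2_c20 LD3_c58) Lrfl Lrfl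
theorem f218278 : Led Lsl_bt (LP (LK LD1_c8 LD2_c28 LD3_c29)) = (LP (LK LD1_c15 LD2_c54 LD3_c47)) :=
  Lre_b IH (LK LD1_c8 LD2_c28 LD3_c29) (LK LD1_c15 LD2_c54 LD3_c47) Lrfl Lrfl
theorem f218279 : Led Lsl_bt (LP (LK LD1_c2 LD2_c39 LD3_c5)) = (LP (LK LD1_c5 LD2_c25 LD3_c13)) :=
  Lre_b IH (LK LD1_c2 LD2_c39 LD3_c5) (LK LD1_c5 LD2_c25 LD3_c13) Lrfl Lrfl
theorem f218280 : Led Lsl_ct (LP (LK LD1_c5 LD2_c25 LD3_c14)) = (LP (LK LD1_c2 LD2_c39 LD3_c5)) :=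
  Lre_c IH (LK LD1_c5 LD2_c25 LD3_c14) (LK LD1_c2 LD2_c39 LD3_c5) Lrfl Lrfl
theorem f218281 : Led Lsl_bt (LP (LK LD1_c10 LD2_c41 LD3_c20)) = (LP (LK LD1_c5 LD2_c25 LD3_c14)) :=
  Lre_b IH (LK LD1_c10 LD2_c41 LD3_c20) (LK LD1_c5 LD2_c25 LD3_c14) Lrfl Lrfl
theorem f218282 : Led Lsl_ct (LP (LK LD1_c15 LD2_c54 LD3_c47)) = (LP (LK LD1_c10 LD2_c41 LD3_c20)) :=
  Lgr Lrot83 (Lpe (f218278 IH) (Lpr_cf (K12.f218241 IH) (Lpe (f218279 IH) (Lpe (f218280 IH) (Lpe (f218281 IH) (Lpn (LP (LK LD1_c10 LD2_c41 LD3_c20))))))))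
theorem f52872 : Led Lsl_bt (LP (LK LD1_c15 LD2_c54 LD3_c47)) = (LP (LK LD1_c8 LD2_c28 LD3_c29)) :=
  Lre_b IH (LK LD1_c15 LD2_c54 LD3_c47) (LK LD1_c8 LD2_c28 LD3_c29) Lrfl Lrfl
theorem f218361 : Led Lsl_bt (LP (LK LD1_c5 LD2_c25 LD3_c14)) = (LP (LK LD1_c10 LD2_c41 LD3_c20)) :=
  Lre_b IH (LK LD1_c5 LD2_c25 LD3_c14) (LK LD1_c10 LD2_c41 LD3_c20) Lrfl Lrfl
theorem f218362 : Led Lsl_cf (LP (LK LD1_c15 LD2_c54 LD3_c47)) = (LP (LK LD1_c10 LD2_c41 LD3_c20)) :=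
  Lgr Lrot97 (Lpr_bt (f52872 IH) (Lpr_ct (K22.f218284 IH) (Lpr_bt (K12.f218240 IH) (Lpr_ct (f218360 IH) (Lpr_bt (f218361 IH) (Lpn (LP (LK LD1_c10 LD2_c41 LD3_c20))))))))
theorem f387631 : Led Lsl_gf (LP (LK LD1_c15 LD2_c54 LD3_c47)) = (LP (LK LD1_c8 LD2_c58 LD3_c19)) :=
  Lgr Lrot126 (Lpr_cf (f218362 IH) (Lpr_bt (f218281 IH) (Lpr_gt (f218373 IH) (Lpr_ct (f218376 IH) (Lpe (f387629 IH) (Lpe (f387628 IH) (Lpr_bt (f387625 IH) (Lpr_gt (f387618 IH) (Lpe (K20.f318392 IH) (Lpr_ct (f318397 IH) (Lpn (LP (LK LD1_c8 LD2_c58 LD3_c19)))))))))))))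
theorem f387825 : Led Lsl_gt (LP (LK LD1_c2 LD2_c42 LD3_c53)) = (LP (LK LD1_c4 LD2_c30 LD3_c5)) :=
  Lgr Lrot9 (Lpe (f238489 IH) (Lpe (K22.f319816 IH) (Lpr_ct (f289603 IH) (Lpr_gt (f387819 IH) (Lpe (f384893 IH) (Lpe (f218377 IH) (Lpe (f218282 IH) (Lpr_gf (f387631 IH) (Lpe (f318397 IH) (Lpn (LP (LK LD1_c4 LD2_c30 LD3_c5))))))))))))
theorem f52302 : Led Lsl_bt (LP (LK LD1_c4 LD2_c4 LD3_c9)) = (LP (LK LD1_c1 LD2_c59 LD3_c1)) :=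
  Lre_b IH (LK LD1_c4 LD2_c4 LD3_c9) (LK LD1_c1 LD2_c59 LD3_c1) Lrfl Lrfl
theorem f314461 : Led Lsl_at (LP (LK LD1_c8 LD2_c9 LD3_c0)) = (LP (LK LD1_c4 LD2_c4 LD3_c9)) :=
  Lre_a IH (LK LD1_c8 LD2_c9 LD3_c0) (LK LD1_c4 LD2_c4 LD3_c9) Lrfl Lrfl
theorem f314462 : Led Lsl_bt (LP (LK LD1_c5 LD2_c33 LD3_c32)) = (LP (LK LD1_c8 LD2_c9 LD3_c0)) :=
  Lgr Lrot62 (Lpe (K24.f220945 IH) (Lpe (K20.f220921 IH) (Lpr_af (K19.f314457 IH) (Lpe (f52302 IH) (Lpe (f314461 IH) (Lpn (LP (LK LD1_c8 LD2_c9 LD3_c0))))))))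
theorem f318390 : Led Lsl_bt (LP (LK LD1_c8 LD2_c58 LD3_c19)) = (LP (LK LD1_c8 LD2_c8 LD3_c40)) :=
  Lgr Lrot127 (Lpr_bf (K20.f318387 IH) (Lpn (LP (LK LD1_c8 LD2_c8 LD3_c40))))
theorem f292939 : Led Lsl_gf (LP (LK LD1_c15 LD2_c9 LD3_c12)) = (LP (LK LD1_c8 LD2_c8 LD3_c40)) :=
  Lgr Lrot76 (Lpe (K17.f219045 IH) (Lpr_ff (K17.f292929 IH) (Lpr_gt (K20.f53034 IH) (Lpn (LP (LK LD1_c8 LD2_c8 LD3_c40))))))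
theorem f292881 : Led Lsl_at (LP (LK LD1_c26 LD2_c36 LD3_c60)) = (LP (LK LD1_c16 LD2_c38 LD3_c50)) :=
  Lre_a IH (LK LD1_c26 LD2_c36 LD3_c60) (LK LD1_c16 LD2_c38 LD3_c50) Lrfl Lrfl
theorem f292883 : Led Lsl_af (LP (LK LD1_c25 LD2_c11 LD3_c3)) = (LP (LK LD1_c26 LD2_c37 LD3_c8)) :=
  Lgr Lrot117 (Lpr_dt (K17.f292879 IH) (Lpr_at (f292881 IH) (Lpr_dt (K17.f292882 IH) (Lpn (LP (LK LD1_c26 LD2_c37 LD3_c8))))))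
theorem f292906 : Led Lsl_ft (LP (LK LD1_c31 LD2_c41 LD3_c21)) = (LP (LK LD1_c26 LD2_c37 LD3_c8)) :=
  Lgr Lrot101 (Lpe (K17.f219049 IH) (Lpr_ff (K17.f292904 IH) (Lpr_af (f292883 IH) (Lpn (LP (LK LD1_c26 LD2_c37 LD3_c8))))))
theorem f292967 : Led Lsl_ff (LP (LK LD1_c24 LD2_c51 LD3_c18)) = (LP (LK LD1_c25 LD2_c10 LD3_c61)) :=
  Lgr Lrot23 (Lpr_ct (K17.f219047 IH) (Lpr_ft (f292906 IH) (Lpr_ct (K17.f292961 IH) (Lpn (LP (LK LD1_c25 LD2_c10 LD3_c61))))))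
theorem f292971 : Led Lsl_ft (LP (LK LD1_c15 LD2_c2 LD3_c35)) = (LP (LK LD1_c15 LD2_c19 LD3_c59)) :=
  Lgr Lrot54 (Lpe (K17.f219042 IH) (Lpr_ff (f292967 IH) (Lpe (K17.f200978 IH) (Lpn (LP (LK LD1_c15 LD2_c19 LD3_c59))))))
theorem f201038 : Led Lsl_at (LP (LK LD1_c15 LD2_c19 LD3_c59)) = (LP (LK LD1_c8 LD2_c8 LD3_c34)) :=
  Lre_a IH (LK LD1_c15 LD2_c19 LD3_c59) (LK LD1_c8 LD2_c8 LD3_c34) Lrfl Lrfl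
theorem f200953 : Led Lsl_gt (LP (LK LD1_c15 LD2_c19 LD3_c58)) = (LP (LK LD1_c8 LD2_c8 LD3_c34)) :=
  Lre_g IH (LK LD1_c15 LD2_c19 LD3_c58) (LK LD1_c8 LD2_c8 LD3_c34) Lrfl Lrfl
theorem f292980 : Led Lsl_gt (LP (LK LD1_c15 LD2_c2 LD3_c35)) = (LP (LK LD1_c15 LD2_c19 LD3_c58)) :=
  Lgr Lrot5 (Lpr_ft (f292971 IH) (Lpr_at (f201038 IH) (Lpe (f200953 IH) (Lpn (LP (LK LD1_c15 LD2_c19 LD3_c58))))))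
theorem f201048 : Led Lsl_gt (LP (LK LD1_c4 LD2_c14 LD3_c36)) = (LP (LK LD1_c8 LD2_c27 LD3_c57)) :=
  Lre_g IH (LK LD1_c4 LD2_c14 LD3_c36) (LK LD1_c8 LD2_c27 LD3_c57) Lrfl Lrfl
theorem f201049 : Led Lsl_bt (LP (LK LD1_c15 LD2_c53 LD3_c44)) = (LP (LK LD1_c8 LD2_c27 LD3_c57)) :=
  Lre_b IH (LK LD1_c15 LD2_c53 LD3_c44) (LK LD1_c8 LD2_c27 LD3_c57) Lrfl Lrfl
theorem f201050 : Led Lsl_ct (LP (LK LD1_c15 LD2_c53 LD3_c44)) = (LP (LK LD1_c15 LD2_c19 LD3_c58)) :=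
  Lgr Lrot64 (Lpr_bt (f201049 IH) (Lpe (f201048 IH) (Lpe (K19.f201047 IH) (Lpr_ct (K15.f197268 IH) (Lpe (K11.f190952 IH) (Lpe (K10.f52671 IH) (Lpr_gf (K11.f200818 IH) (Lpe (K17.f200828 IH) (Lpr_ct (K17.f196434 IH) (Lpe (f200953 IH) (Lpn (LP (LK LD1_c15 LD2_c19 LD3_c58)))))))))))))
theorem f387835 : Led Lsl_gf (LP (LK LD1_c8 LD2_c9 LD3_c0)) = (LP (LK LD1_c8 LD2_c27 LD3_c57)) :=
  Lgr Lrot124 (Lpe (f314462 IH) (Lpr_ct (K22.f238480 IH) (Lpr_gt (f387825 IH) (Lpe (K20.f318384 IH) (Lpr_bt (f318390 IH) (Lpe (f292939 IH) (Lpe (K17.f219040 IH) (Lpr_gt (f292980 IH) (Lpe (f201050 IH) (Lpr_bt (f201049 IH) (Lpn (LP (LK LD1_c8 LD2_c27 LD3_c57)))))))))))))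
theorem f314890 : Led Lsl_at (LP (LK LD1_c4 LD2_c4 LD3_c9)) = (LP (LK LD1_c8 LD2_c9 LD3_c0)) :=
  Lre_a IH (LK LD1_c4 LD2_c4 LD3_c9) (LK LD1_c8 LD2_c9 LD3_c0) Lrfl Lrfl
theorem f387838 : Led Lsl_ff (LP (LK LD1_c4 LD2_c4 LD3_c9)) = (LP (LK LD1_c4 LD2_c14 LD3_c36)) :=
  Lgr Lrot52 (Lpr_at (f314890 IH) (Lpr_gf (f387835 IH) (Lpe (f201048 IH) (Lpn (LP (LK LD1_c4 LD2_c14 LD3_c36))))))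
theorem f52303 : Led Lsl_ct (LP (LK LD1_c4 LD2_c4 LD3_c9)) = (LP (LK LD1_c8 LD2_c9 LD3_c1)) :=
  Lre_c IH (LK LD1_c4 LD2_c4 LD3_c9) (LK LD1_c8 LD2_c9 LD3_c1) Lrfl Lrfl
theorem f216387 : Led Lsl_ct (LP (LK LD1_c8 LD2_c27 LD3_c51)) = (LP (LK LD1_c4 LD2_c14 LD3_c36)) :=
  Lre_c IH (LK LD1_c8 LD2_c27 LD3_c51) (LK LD1_c4 LD2_c14 LD3_c36) Lrfl Lrfl
theorem f387849 : Led Lsl_ft (LP (LK LD1_c8 LD2_c9 LD3_c1)) = (LP (LK LD1_c8 LD2_c27 LD3_c51)) :=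
  Lgr Lrot4 (Lpe (f52303 IH) (Lpr_ff (f387838 IH) (Lpe (f216387 IH) (Lpn (LP (LK LD1_c8 LD2_c27 LD3_c51))))))
theorem f218271 : Led Lsl_bt (LP (LK LD1_c8 LD2_c27 LD3_c51)) = (LP (LK LD1_c4 LD2_c14 LD3_c34)) :=
  Lre_b IH (LK LD1_c8 LD2_c27 LD3_c51) (LK LD1_c4 LD2_c14 LD3_c34) Lrfl Lrfl
theorem f388498 : Led Lsl_bf (LP (LK LD1_c8 LD2_c9 LD3_c1)) = (LP (LK LD1_c4 LD2_c56 LD3_c0)) :=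
  Lgr Lrot61 (Lpr_ft (f387849 IH) (Lpr_bt (f218271 IH) (Lpe (K13.f235261 IH) (Lpn (LP (LK LD1_c4 LD2_c56 LD3_c0))))))
theorem f52304 : Led Lsl_gt (LP (LK LD1_c8 LD2_c9 LD3_c1)) = (LP (LK LD1_c15 LD2_c20 LD3_c47)) :=
  Lre_g IH (LK LD1_c8 LD2_c9 LD3_c1) (LK LD1_c15 LD2_c20 LD3_c47) Lrfl Lrfl
theorem f387851 : Led Lsl_dt (LP (LK LD1_c2 LD2_c45 LD3_c31)) = (LP (LK LD1_c4 LD2_c14 LD3_c36)) :=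
  Lgr Lrot60 (Lpe (K19.f314860 IH) (Lpr_df (f314893 IH) (Lpr_ff (f387838 IH) (Lpn (LP (LK LD1_c4 LD2_c14 LD3_c36))))))
theorem f387855 : Led Lsl_at (LP (LK LD1_c4 LD2_c14 LD3_c36)) = (LP (LK LD1_c8 LD2_c27 LD3_c59)) :=
  Lre_a IH (LK LD1_c4 LD2_c14 LD3_c36) (LK LD1_c8 LD2_c27 LD3_c59) Lrfl Lrfl
theorem f387856 : Led Lsl_df (LP (LK LD1_c5 LD2_c39 LD3_c6)) = (LP (LK LD1_c8 LD2_c27 LD3_c59)) :=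
  Lgr Lrot18 (Lpr_at (f314876 IH) (Lpr_dt (f387851 IH) (Lpr_at (f387855 IH) (Lpn (LP (LK LD1_c8 LD2_c27 LD3_c59))))))
theorem f387869 : Led Lsl_dt (LP (LK LD1_c5 LD2_c39 LD3_c6)) = (LP (LK LD1_c8 LD2_c27 LD3_c59)) :=
  Lgr Lrot42 (Lpr_df (f387856 IH) (Lpn (LP (LK LD1_c8 LD2_c27 LD3_c59))))
theorem f319636 : Led Lsl_at (LP (LK LD1_c4 LD2_c4 LD3_c7)) = (LP (LK LD1_c8 LD2_c8 LD3_c56)) :=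
  Lre_a IH (LK LD1_c4 LD2_c4 LD3_c7) (LK LD1_c8 LD2_c8 LD3_c56) Lrfl Lrfl
theorem f332678 : Led Lsl_dt (LP (LK LD1_c8 LD2_c8 LD3_c56)) = (LP (LK LD1_c8 LD2_c10 LD3_c7)) :=
  Lgr Lrot44 (Lpe (f319636 IH) (Lpr_df (K22.f332676 IH) (Lpe (K22.f199540 IH) (Lpn (LP (LK LD1_c8 LD2_c10 LD3_c7))))))
theorem f387888 : Led Lsl_bf (LP (LK LD1_c8 LD2_c8 LD3_c56)) = (LP (LK LD1_c8 LD2_c27 LD3_c59)) :=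
  Lgr Lrot93 (Lpr_dt (f332678 IH) (Lpr_bt (f354526 IH) (Lpr_dt (f387869 IH) (Lpn (LP (LK LD1_c8 LD2_c27 LD3_c59))))))
theorem f387871 : Led Lsl_et (LP (LK LD1_c15 LD2_c53 LD3_c49)) = (LP (LK LD1_c8 LD2_c27 LD3_c59)) :=
  Lre_e IH (LK LD1_c15 LD2_c53 LD3_c49) (LK LD1_c8 LD2_c27 LD3_c59) Lrfl Lrfl
theorem f387893 : Led Lsl_bt (LP (LK LD1_c15 LD2_c20 LD3_c33)) = (LP (LK LD1_c15 LD2_c53 LD3_c49)) :=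
  Lgr Lrot119 (Lpe (K24.f332721 IH) (Lpr_bf (f387888 IH) (Lpe (f387871 IH) (Lpn (LP (LK LD1_c15 LD2_c53 LD3_c49))))))
theorem f319660 : Led Lsl_at (LP (LK LD1_c15 LD2_c20 LD3_c33)) = (LP (LK LD1_c8 LD2_c8 LD3_c57)) :=
  Lre_a IH (LK LD1_c15 LD2_c20 LD3_c33) (LK LD1_c8 LD2_c8 LD3_c57) Lrfl Lrfl
theorem f319661 : Led Lsl_at (LP (LK LD1_c4 LD2_c30 LD3_c8)) = (LP (LK LD1_c8 LD2_c58 LD3_c22)) :=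
  Lre_a IH (LK LD1_c4 LD2_c30 LD3_c8) (LK LD1_c8 LD2_c58 LD3_c22) Lrfl Lrfl
theorem f319662 : Led Lsl_cf (LP (LK LD1_c15 LD2_c20 LD3_c33)) = (LP (LK LD1_c8 LD2_c58 LD3_c22)) :=
  Lgr Lrot1 (Lpr_at (f319660 IH) (Lpr_ct (K20.f319642 IH) (Lpr_at (f319661 IH) (Lpn (LP (LK LD1_c8 LD2_c58 LD3_c22))))))
theorem f319927 : Led Lsl_bf (LP (LK LD1_c8 LD2_c58 LD3_c22)) = (LP (LK LD1_c5 LD2_c33 LD3_c1)) :=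
  Lgr Lrot24 (Lpr_bt (K20.f319920 IH) (Lpn (LP (LK LD1_c5 LD2_c33 LD3_c1))))
theorem f387897 : Led Lsl_ct (LP (LK LD1_c10 LD2_c57 LD3_c50)) = (LP (LK LD1_c5 LD2_c33 LD3_c1)) :=
  Lre_c IH (LK LD1_c10 LD2_c57 LD3_c50) (LK LD1_c5 LD2_c33 LD3_c1) Lrfl Lrfl
theorem f213572 : Led Lsl_bt (LP (LK LD1_c19 LD2_c47 LD3_c53)) = (LP (LK LD1_c10 LD2_c57 LD3_c50)) :=
  Lre_b IH (LK LD1_c19 LD2_c47 LD3_c53) (LK LD1_c10 LD2_c57 LD3_c50) Lrfl Lrfl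
theorem f387898 : Led Lsl_cf (LP (LK LD1_c19 LD2_c47 LD3_c53)) = (LP (LK LD1_c15 LD2_c53 LD3_c49)) :=
  Lgr Lrot97 (Lpr_bt (f213572 IH) (Lpr_ct (f387897 IH) (Lpe (f319927 IH) (Lpe (f319662 IH) (Lpr_bt (f387893 IH) (Lpn (LP (LK LD1_c15 LD2_c53 LD3_c49))))))))
theorem f339727 : Led Lsl_at (LP (LK LD1_c8 LD2_c27 LD3_c60)) = (LP (LK LD1_c15 LD2_c53 LD3_c49)) :=
  Lre_a IH (LK LD1_c8 LD2_c27 LD3_c60) (LK LD1_c15 LD2_c53 LD3_c49) Lrfl Lrfl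
theorem f309600 : Led Lsl_ct (LP (LK LD1_c15 LD2_c53 LD3_c34)) = (LP (LK LD1_c8 LD2_c27 LD3_c60)) :=
  Lre_c IH (LK LD1_c15 LD2_c53 LD3_c34) (LK LD1_c8 LD2_c27 LD3_c60) Lrfl Lrfl
theorem f387904 : Led Lsl_at (LP (LK LD1_c19 LD2_c47 LD3_c53)) = (LP (LK LD1_c15 LD2_c53 LD3_c34)) :=
  Lgr Lrot107 (Lpr_cf (f387898 IH) (Lpe (f339727 IH) (Lpe (f309600 IH) (Lpn (LP (LK LD1_c15 LD2_c53 LD3_c34))))))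
theorem f387911 : Led Lsl_et (LP (LK LD1_c10 LD2_c57 LD3_c48)) = (LP (LK LD1_c19 LD2_c47 LD3_c53)) :=
  Lre_e IH (LK LD1_c10 LD2_c57 LD3_c48) (LK LD1_c19 LD2_c47 LD3_c53) Lrfl Lrfl
theorem f387915 : Led Lsl_et (LP (LK LD1_c15 LD2_c53 LD3_c34)) = (LP (LK LD1_c8 LD2_c27 LD3_c51)) :=
  Lre_e IH (LK LD1_c15 LD2_c53 LD3_c34) (LK LD1_c8 LD2_c27 LD3_c51) Lrfl Lrfl
theorem f387916 : Led Lsl_af (LP (LK LD1_c10 LD2_c57 LD3_c48)) = (LP (LK LD1_c8 LD2_c27 LD3_c51)) :=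
  Lgr Lrot50 (Lpr_et (f387911 IH) (Lpr_at (f387904 IH) (Lpr_et (f387915 IH) (Lpn (LP (LK LD1_c8 LD2_c27 LD3_c51))))))
theorem f387920 : Led Lsl_gf (LP (LK LD1_c10 LD2_c57 LD3_c48)) = (LP (LK LD1_c15 LD2_c20 LD3_c47)) :=
  Lgr Lrot76 (Lpr_af (f387916 IH) (Lpe (f387849 IH) (Lpr_gt (f52304 IH) (Lpn (LP (LK LD1_c15 LD2_c20 LD3_c47))))))
theorem f387906 : Led Lsl_ct (LP (LK LD1_c19 LD2_c47 LD3_c53)) = (LP (LK LD1_c15 LD2_c53 LD3_c49)) :=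
  Lgr Lrot59 (Lpr_cf (f387898 IH) (Lpn (LP (LK LD1_c15 LD2_c53 LD3_c49))))
theorem f387912 : Led Lsl_cf (LP (LK LD1_c10 LD2_c57 LD3_c48)) = (LP (LK LD1_c8 LD2_c27 LD3_c59)) :=
  Lgr Lrot39 (Lpr_et (f387911 IH) (Lpr_ct (f387906 IH) (Lpr_et (f387871 IH) (Lpn (LP (LK LD1_c8 LD2_c27 LD3_c59))))))
theorem f52749 : Led Lsl_ct (LP (LK LD1_c4 LD2_c14 LD3_c47)) = (LP (LK LD1_c8 LD2_c28 LD3_c24)) :=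
  Lre_c IH (LK LD1_c4 LD2_c14 LD3_c47) (LK LD1_c8 LD2_c28 LD3_c24) Lrfl Lrfl
theorem f220904 : Led Lsl_bt (LP (LK LD1_c4 LD2_c14 LD3_c47)) = (LP (LK LD1_c8 LD2_c28 LD3_c23)) :=
  Lre_b IH (LK LD1_c4 LD2_c14 LD3_c47) (LK LD1_c8 LD2_c28 LD3_c23) Lrfl Lrfl
theorem f220905 : Led Lsl_gt (LP (LK LD1_c8 LD2_c28 LD3_c23)) = (LP (LK LD1_c15 LD2_c54 LD3_c31)) :=
  Lre_g IH (LK LD1_c8 LD2_c28 LD3_c23) (LK LD1_c15 LD2_c54 LD3_c31) Lrfl Lrfl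
theorem f387922 : Led Lsl_ct (LP (LK LD1_c15 LD2_c54 LD3_c31)) = (LP (LK LD1_c15 LD2_c20 LD3_c47)) :=
  Lgr Lrot91 (Lpe (f220905 IH) (Lpe (f220904 IH) (Lpr_ct (f52749 IH) (Lpr_gf (K20.f220886 IH) (Lpe (K20.f220900 IH) (Lpr_bt (K20.f220906 IH) (Lpr_gf (K24.f379799 IH) (Lpr_bf (f387888 IH) (Lpe (f387912 IH) (Lpr_gf (f387920 IH) (Lpn (LP (LK LD1_c15 LD2_c20 LD3_c47)))))))))))))
theorem f387924 : Led Lsl_cf (LP (LK LD1_c15 LD2_c54 LD3_c31)) = (LP (LK LD1_c15 LD2_c20 LD3_c47)) :=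
  Lgr Lrot11 (Lpr_ct (f387922 IH) (Lpn (LP (LK LD1_c15 LD2_c20 LD3_c47))))
theorem f211966 : Led Lsl_bt (LP (LK LD1_c2 LD2_c43 LD3_c33)) = (LP (LK LD1_c5 LD2_c35 LD3_c14)) :=
  Lre_b IH (LK LD1_c2 LD2_c43 LD3_c33) (LK LD1_c5 LD2_c35 LD3_c14) Lrfl Lrfl
theorem f213128 : Led Lsl_bt (LP (LK LD1_c19 LD2_c53 LD3_c57)) = (LP (LK LD1_c11 LD2_c2 LD3_c36)) :=
  Lre_b IH (LK LD1_c19 LD2_c53 LD3_c57) (LK LD1_c11 LD2_c2 LD3_c36) Lrfl Lrfl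
theorem f213389 : Led Lsl_bt (LP (LK LD1_c11 LD2_c2 LD3_c36)) = (LP (LK LD1_c19 LD2_c53 LD3_c57)) :=
  Lre_b IH (LK LD1_c11 LD2_c2 LD3_c36) (LK LD1_c19 LD2_c53 LD3_c57) Lrfl Lrfl
theorem f213390 : Led Lsl_bt (LP (LK LD1_c8 LD2_c6 LD3_c20)) = (LP (LK LD1_c15 LD2_c15 LD3_c40)) :=
  Lre_b IH (LK LD1_c8 LD2_c6 LD3_c20) (LK LD1_c15 LD2_c15 LD3_c40) Lrfl Lrfl
theorem f52498 : Led Lsl_ct (LP (LK LD1_c15 LD2_c15 LD3_c41)) = (LP (LK LD1_c8 LD2_c6 LD3_c20)) :=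
  Lre_c IH (LK LD1_c15 LD2_c15 LD3_c41) (LK LD1_c8 LD2_c6 LD3_c20) Lrfl Lrfl
theorem f213392 : Led Lsl_ct (LP (LK LD1_c19 LD2_c53 LD3_c57)) = (LP (LK LD1_c25 LD2_c5 LD3_c8)) :=
  Lgr Lrot83 (Lpe (f213389 IH) (Lpr_cf (K16.f213387 IH) (Lpe (f213390 IH) (Lpe (f52498 IH) (Lpe (f213391 IH) (Lpn (LP (LK LD1_c25 LD2_c5 LD3_c8))))))))
theorem f388502 : Led Lsl_gt (LP (LK LD1_c15 LD2_c54 LD3_c31)) = (LP (LK LD1_c25 LD2_c5 LD3_c8)) :=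
  Lgr Lrot149 (Lpr_cf (f387924 IH) (Lpe (f52304 IH) (Lpr_bf (f388498 IH) (Lpr_ct (K22.f235267 IH) (Lpe (K22.f316810 IH) (Lpe (K12.f199516 IH) (Lpr_bt (f211966 IH) (Lpe (K16.f213120 IH) (Lpe (f213128 IH) (Lpr_ct (f213392 IH) (Lpn (LP (LK LD1_c25 LD2_c5 LD3_c8)))))))))))))
theorem f388149 : Led Lsl_ft (LP (LK LD1_c8 LD2_c28 LD3_c23)) = (LP (LK LD1_c15 LD2_c54 LD3_c15)) :=
  Lre_f IH (LK LD1_c8 LD2_c28 LD3_c23) (LK LD1_c15 LD2_c54 LD3_c15) Lrfl Lrfl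
theorem f388511 : Led Lsl_at (LP (LK LD1_c15 LD2_c54 LD3_c15)) = (LP (LK LD1_c25 LD2_c5 LD3_c8)) :=
  Lgr Lrot26 (Lpe (f388149 IH) (Lpr_gt (f220905 IH) (Lpr_gt (f388502 IH) (Lpn (LP (LK LD1_c25 LD2_c5 LD3_c8))))))
theorem f388520 : Led Lsl_bt (LP (LK LD1_c8 LD2_c28 LD3_c17)) = (LP (LK LD1_c15 LD2_c54 LD3_c15)) :=
  Lre_b IH (LK LD1_c8 LD2_c28 LD3_c17) (LK LD1_c15 LD2_c54 LD3_c15) Lrfl Lrfl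
theorem f388521 : Led Lsl_at (LP (LK LD1_c4 LD2_c14 LD3_c46)) = (LP (LK LD1_c8 LD2_c28 LD3_c17)) :=
  Lre_a IH (LK LD1_c4 LD2_c14 LD3_c46) (LK LD1_c8 LD2_c28 LD3_c17) Lrfl Lrfl
theorem f52834 : Led Lsl_bt (LP (LK LD1_c8 LD2_c28 LD3_c18)) = (LP (LK LD1_c4 LD2_c14 LD3_c46)) :=
  Lre_b IH (LK LD1_c8 LD2_c28 LD3_c18) (LK LD1_c4 LD2_c14 LD3_c46) Lrfl Lrfl
theorem f388522 : Led Lsl_af (LP (LK LD1_c8 LD2_c28 LD3_c18)) = (LP (LK LD1_c15 LD2_c15 LD3_c41)) :=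
  Lgr Lrot36 (Lpr_bt (f52834 IH) (Lpr_at (f388521 IH) (Lpr_bt (f388520 IH) (Lpr_at (f388511 IH) (Lpr_bt (f213391 IH) (Lpn (LP (LK LD1_c15 LD2_c15 LD3_c41))))))))
theorem f220923 : Led Lsl_bt (LP (LK LD1_c4 LD2_c14 LD3_c46)) = (LP (LK LD1_c8 LD2_c28 LD3_c18)) :=
  Lre_b IH (LK LD1_c4 LD2_c14 LD3_c46) (LK LD1_c8 LD2_c28 LD3_c18) Lrfl Lrfl
theorem f220926 : Led Lsl_ct (LP (LK LD1_c5 LD2_c33 LD3_c26)) = (LP (LK LD1_c2 LD2_c42 LD3_c51)) :=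
  Lre_c IH (LK LD1_c5 LD2_c33 LD3_c26) (LK LD1_c2 LD2_c42 LD3_c51) Lrfl Lrfl
theorem f220927 : Led Lsl_bt (LP (LK LD1_c5 LD2_c33 LD3_c26)) = (LP (LK LD1_c10 LD2_c58 LD3_c49)) :=
  Lre_b IH (LK LD1_c5 LD2_c33 LD3_c26) (LK LD1_c10 LD2_c58 LD3_c49) Lrfl Lrfl
theorem f220928 : Led Lsl_gf (LP (LK LD1_c8 LD2_c28 LD3_c18)) = (LP (LK LD1_c10 LD2_c58 LD3_c49)) :=
  Lgr Lrot124 (Lpe (f220923 IH) (Lpr_ct (K20.f52833 IH) (Lpr_gt (K20.f220896 IH) (Lpe (K20.f220900 IH) (Lpr_bt (K20.f220906 IH) (Lpr_gt (K20.f220920 IH) (Lpr_ct (K22.f220924 IH) (Lpr_gt (K22.f220925 IH) (Lpe (f220926 IH) (Lpr_bt (f220927 IH) (Lpn (LP (LK LD1_c10 LD2_c58 LD3_c49)))))))))))))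
theorem f220933 : Led Lsl_gt (LP (LK LD1_c19 LD2_c49 LD3_c12)) = (LP (LK LD1_c10 LD2_c58 LD3_c49)) :=
  Lre_g IH (LK LD1_c19 LD2_c49 LD3_c12) (LK LD1_c10 LD2_c58 LD3_c49) Lrfl Lrfl
theorem f388614 : Led Lsl_ft (LP (LK LD1_c19 LD2_c49 LD3_c12)) = (LP (LK LD1_c15 LD2_c15 LD3_c41)) :=
  Lgr Lrot2 (Lpr_gt (f220933 IH) (Lpe (f220928 IH) (Lpr_af (f388522 IH) (Lpn (LP (LK LD1_c15 LD2_c15 LD3_c41))))))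
theorem f388621 : Led Lsl_ff (LP (LK LD1_c19 LD2_c49 LD3_c12)) = (LP (LK LD1_c15 LD2_c15 LD3_c41)) :=
  Lgr Lrot3 (Lpr_ft (f388614 IH) (Lpn (LP (LK LD1_c15 LD2_c15 LD3_c41))))
theorem f388625 : Led Lsl_ft (LP (LK LD1_c15 LD2_c15 LD3_c44)) = (LP (LK LD1_c8 LD2_c6 LD3_c20)) :=
  Lre_f IH (LK LD1_c15 LD2_c15 LD3_c44) (LK LD1_c8 LD2_c6 LD3_c20) Lrfl Lrfl
theorem f388626 : Led Lsl_ct (LP (LK LD1_c19 LD2_c49 LD3_c12)) = (LP (LK LD1_c15 LD2_c15 LD3_c44)) :=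
  Lgr Lrot40 (Lpr_ff (f388621 IH) (Lpe (f196396 IH) (Lpe (f388625 IH) (Lpn (LP (LK LD1_c15 LD2_c15 LD3_c44))))))
theorem f388027 : Led Lsl_et (LP (LK LD1_c29 LD2_c6 LD3_c46)) = (LP (LK LD1_c19 LD2_c49 LD3_c12)) :=
  Lre_e IH (LK LD1_c29 LD2_c6 LD3_c46) (LK LD1_c19 LD2_c49 LD3_c12) Lrfl Lrfl
theorem f388632 : Led Lsl_et (LP (LK LD1_c15 LD2_c15 LD3_c44)) = (LP (LK LD1_c25 LD2_c5 LD3_c15)) :=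
  Lre_e IH (LK LD1_c15 LD2_c15 LD3_c44) (LK LD1_c25 LD2_c5 LD3_c15) Lrfl Lrfl
theorem f388633 : Led Lsl_cf (LP (LK LD1_c29 LD2_c6 LD3_c46)) = (LP (LK LD1_c25 LD2_c5 LD3_c15)) :=
  Lgr Lrot39 (Lpr_et (f388027 IH) (Lpr_ct (f388626 IH) (Lpr_et (f388632 IH) (Lpn (LP (LK LD1_c25 LD2_c5 LD3_c15))))))
theorem f388641 : Led Lsl_ct (LP (LK LD1_c29 LD2_c6 LD3_c46)) = (LP (LK LD1_c25 LD2_c5 LD3_c15)) :=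
  Lgr Lrot59 (Lpr_cf (f388633 IH) (Lpn (LP (LK LD1_c25 LD2_c5 LD3_c15))))
theorem f388643 : Led Lsl_at (LP (LK LD1_c25 LD2_c5 LD3_c15)) = (LP (LK LD1_c15 LD2_c15 LD3_c48)) :=
  Lre_a IH (LK LD1_c25 LD2_c5 LD3_c15) (LK LD1_c15 LD2_c15 LD3_c48) Lrfl Lrfl
theorem f388644 : Led Lsl_ct (LP (LK LD1_c15 LD2_c15 LD3_c48)) = (LP (LK LD1_c25 LD2_c5 LD3_c22)) :=
  Lre_c IH (LK LD1_c15 LD2_c15 LD3_c48) (LK LD1_c25 LD2_c5 LD3_c22) Lrfl Lrfl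
theorem f388645 : Led Lsl_af (LP (LK LD1_c29 LD2_c6 LD3_c46)) = (LP (LK LD1_c25 LD2_c5 LD3_c22)) :=
  Lgr Lrot68 (Lpr_ct (f388641 IH) (Lpr_at (f388643 IH) (Lpr_ct (f388644 IH) (Lpn (LP (LK LD1_c25 LD2_c5 LD3_c22))))))
theorem f296777 : Led Lsl_et (LP (LK LD1_c15 LD2_c15 LD3_c46)) = (LP (LK LD1_c25 LD2_c5 LD3_c22)) :=
  Lre_e IH (LK LD1_c15 LD2_c15 LD3_c46) (LK LD1_c25 LD2_c5 LD3_c22) Lrfl Lrfl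
theorem f388650 : Led Lsl_at (LP (LK LD1_c19 LD2_c49 LD3_c12)) = (LP (LK LD1_c15 LD2_c15 LD3_c46)) :=
  Lgr Lrot80 (Lpe (f388027 IH) (Lpr_af (f388645 IH) (Lpe (f296777 IH) (Lpn (LP (LK LD1_c15 LD2_c15 LD3_c46))))))
theorem f388604 : Led Lsl_at (LP (LK LD1_c8 LD2_c28 LD3_c18)) = (LP (LK LD1_c15 LD2_c15 LD3_c41)) :=
  Lgr Lrot100 (Lpr_af (f388522 IH) (Lpn (LP (LK LD1_c15 LD2_c15 LD3_c41))))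
theorem f388655 : Led Lsl_ff (LP (LK LD1_c8 LD2_c28 LD3_c18)) = (LP (LK LD1_c15 LD2_c15 LD3_c46)) :=
  Lgr Lrot30 (Lpr_at (f388604 IH) (Lpe (f388621 IH) (Lpr_at (f388650 IH) (Lpn (LP (LK LD1_c15 LD2_c15 LD3_c46))))))
theorem f388680 : Led Lsl_ft (LP (LK LD1_c8 LD2_c28 LD3_c18)) = (LP (LK LD1_c15 LD2_c15 LD3_c46)) :=
  Lgr Lrot48 (Lpr_ff (f388655 IH) (Lpn (LP (LK LD1_c15 LD2_c15 LD3_c46))))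
theorem f220939 : Led Lsl_dt (LP (LK LD1_c15 LD2_c54 LD3_c18)) = (LP (LK LD1_c8 LD2_c28 LD3_c18)) :=
  Lre_d IH (LK LD1_c15 LD2_c54 LD3_c18) (LK LD1_c8 LD2_c28 LD3_c18) Lrfl Lrfl
theorem f296636 : Led Lsl_dt (LP (LK LD1_c15 LD2_c15 LD3_c46)) = (LP (LK LD1_c25 LD2_c5 LD3_c21)) :=
  Lre_d IH (LK LD1_c15 LD2_c15 LD3_c46) (LK LD1_c25 LD2_c5 LD3_c21) Lrfl Lrfl
theorem f388685 : Led Lsl_ff (LP (LK LD1_c15 LD2_c54 LD3_c18)) = (LP (LK LD1_c25 LD2_c5 LD3_c21)) :=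
  Lgr Lrot19 (Lpr_dt (f220939 IH) (Lpr_ft (f388680 IH) (Lpr_dt (f296636 IH) (Lpn (LP (LK LD1_c25 LD2_c5 LD3_c21))))))
theorem f388688 : Led Lsl_bt (LP (LK LD1_c15 LD2_c54 LD3_c18)) = (LP (LK LD1_c8 LD2_c28 LD3_c20)) :=
  Lre_b IH (LK LD1_c15 LD2_c54 LD3_c18) (LK LD1_c8 LD2_c28 LD3_c20) Lrfl Lrfl
theorem f220222 : Led Lsl_bt (LP (LK LD1_c2 LD2_c41 LD3_c11)) = (LP (LK LD1_c5 LD2_c29 LD3_c45)) :=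
  Lre_b IH (LK LD1_c2 LD2_c41 LD3_c11) (LK LD1_c5 LD2_c29 LD3_c45) Lrfl Lrfl
theorem f220224 : Led Lsl_ct (LP (LK LD1_c5 LD2_c29 LD3_c45)) = (LP (LK LD1_c8 LD2_c7 LD3_c26)) :=
  Lgr Lrot83 (Lpe (f220222 IH) (Lpe (K13.f220213 IH) (Lpr_bf (K12.f220218 IH) (Lpe (K13.f53055 IH) (Lpe (K22.f220223 IH) (Lpn (LP (LK LD1_c8 LD2_c7 LD3_c26))))))))
theorem f296574 : Led Lsl_ft (LP (LK LD1_c8 LD2_c55 LD3_c42)) = (LP (LK LD1_c5 LD2_c29 LD3_c45)) :=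
  Lgr Lrot4 (Lpe (K12.f228039 IH) (Lpr_ff (K18.f296570 IH) (Lpe (f220224 IH) (Lpn (LP (LK LD1_c5 LD2_c29 LD3_c45))))))
theorem f296767 : Led Lsl_gt (LP (LK LD1_c16 LD2_c42 LD3_c45)) = (LP (LK LD1_c10 LD2_c50 LD3_c45)) :=
  Lgr Lrot46 (Lpe (f179292 IH) (Lpr_ft (f296574 IH) (Lpr_at (K18.f220282 IH) (Lpn (LP (LK LD1_c10 LD2_c50 LD3_c45))))))
theorem f179286 : Led Lsl_dt (LP (LK LD1_c11 LD2_c9 LD3_c52)) = (LP (LK LD1_c20 LD2_c4 LD3_c22)) :=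
  Lre_d IH (LK LD1_c11 LD2_c9 LD3_c52) (LK LD1_c20 LD2_c4 LD3_c22) Lrfl Lrfl
theorem f220306 : Led Lsl_dt (LP (LK LD1_c10 LD2_c50 LD3_c45)) = (LP (LK LD1_c19 LD2_c36 LD3_c17)) :=
  Lre_d IH (LK LD1_c10 LD2_c50 LD3_c45) (LK LD1_c19 LD2_c36 LD3_c17) Lrfl Lrfl
theorem f228221 : Led Lsl_at (LP (LK LD1_c26 LD2_c41 LD3_c31)) = (LP (LK LD1_c16 LD2_c42 LD3_c48)) :=
  Lre_a IH (LK LD1_c26 LD2_c41 LD3_c31) (LK LD1_c16 LD2_c42 LD3_c48) Lrfl Lrfl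
theorem f296596 : Led Lsl_ff (LP (LK LD1_c26 LD2_c41 LD3_c31)) = (LP (LK LD1_c19 LD2_c36 LD3_c17)) :=
  Lgr Lrot30 (Lpr_at (f228221 IH) (Lpr_ft (K18.f296594 IH) (Lpr_at (K18.f296593 IH) (Lpn (LP (LK LD1_c19 LD2_c36 LD3_c17))))))
theorem f228187 : Led Lsl_ef (LP (LK LD1_c11 LD2_c9 LD3_c6)) = (LP (LK LD1_c15 LD2_c17 LD3_c49)) :=
  Lgr Lrot88 (Lpr_et (K18.f228178 IH) (Lpn (LP (LK LD1_c15 LD2_c17 LD3_c49))))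
theorem f228198 : Led Lsl_bt (LP (LK LD1_c11 LD2_c9 LD3_c6)) = (LP (LK LD1_c20 LD2_c3 LD3_c1)) :=
  Lre_b IH (LK LD1_c11 LD2_c9 LD3_c6) (LK LD1_c20 LD2_c3 LD3_c1) Lrfl Lrfl
theorem f228199 : Led Lsl_bt (LP (LK LD1_c25 LD2_c8 LD3_c23)) = (LP (LK LD1_c15 LD2_c17 LD3_c49)) :=
  Lre_b IH (LK LD1_c25 LD2_c8 LD3_c23) (LK LD1_c15 LD2_c17 LD3_c49) Lrfl Lrfl
theorem f228200 : Led Lsl_et (LP (LK LD1_c20 LD2_c3 LD3_c1)) = (LP (LK LD1_c25 LD2_c8 LD3_c23)) :=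
  Lgr Lrot74 (Lpe (f228198 IH) (Lpr_ef (f228187 IH) (Lpe (f228199 IH) (Lpn (LP (LK LD1_c25 LD2_c8 LD3_c23))))))
theorem f228112 : Led Lsl_dt (LP (LK LD1_c11 LD2_c9 LD3_c5)) = (LP (LK LD1_c20 LD2_c3 LD3_c1)) :=
  Lre_d IH (LK LD1_c11 LD2_c9 LD3_c5) (LK LD1_c20 LD2_c3 LD3_c1) Lrfl Lrfl
theorem f196694 : Led Lsl_dt (LP (LK LD1_c25 LD2_c8 LD3_c23)) = (LP (LK LD1_c15 LD2_c17 LD3_c46)) :=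
  Lre_d IH (LK LD1_c25 LD2_c8 LD3_c23) (LK LD1_c15 LD2_c17 LD3_c46) Lrfl Lrfl
theorem f196682 : Led Lsl_et (LP (LK LD1_c15 LD2_c17 LD3_c46)) = (LP (LK LD1_c8 LD2_c7 LD3_c21)) :=
  Lre_e IH (LK LD1_c15 LD2_c17 LD3_c46) (LK LD1_c8 LD2_c7 LD3_c21) Lrfl Lrfl
theorem f228213 : Led Lsl_df (LP (LK LD1_c5 LD2_c39 LD3_c2)) = (LP (LK LD1_c8 LD2_c7 LD3_c21)) :=
  Lgr Lrot70 (Lpr_et (K18.f228212 IH) (Lpr_dt (f228112 IH) (Lpr_et (f228200 IH) (Lpr_dt (f196694 IH) (Lpr_et (f196682 IH) (Lpn (LP (LK LD1_c8 LD2_c7 LD3_c21))))))))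
theorem f52509 : Led Lsl_dt (LP (LK LD1_c4 LD2_c4 LD3_c12)) = (LP (LK LD1_c8 LD2_c9 LD3_c14)) :=
  Lre_d IH (LK LD1_c4 LD2_c4 LD3_c12) (LK LD1_c8 LD2_c9 LD3_c14) Lrfl Lrfl
theorem f217396 : Led Lsl_dt (LP (LK LD1_c8 LD2_c6 LD3_c21)) = (LP (LK LD1_c15 LD2_c15 LD3_c47)) :=
  Lre_d IH (LK LD1_c8 LD2_c6 LD3_c21) (LK LD1_c15 LD2_c15 LD3_c47) Lrfl Lrfl
theorem f228218 : Led Lsl_gf (LP (LK LD1_c16 LD2_c42 LD3_c48)) = (LP (LK LD1_c15 LD2_c15 LD3_c47)) :=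
  Lgr Lrot143 (Lpr_dt (K18.f179298 IH) (Lpe (K12.f228039 IH) (Lpr_df (f228213 IH) (Lpe (f227139 IH) (Lpe (f52509 IH) (Lpe (K16.f52471 IH) (Lpe (K16.f52495 IH) (Lpr_gt (K27.f52969 IH) (Lpr_dt (f217396 IH) (Lpn (LP (LK LD1_c15 LD2_c15 LD3_c47))))))))))))
theorem f296755 : Led Lsl_gf (LP (LK LD1_c15 LD2_c15 LD3_c47)) = (LP (LK LD1_c19 LD2_c36 LD3_c17)) :=
  Lgr Lrot47 (Lpe (f228218 IH) (Lpe (f228221 IH) (Lpr_ff (f296596 IH) (Lpn (LP (LK LD1_c19 LD2_c36 LD3_c17))))))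
theorem f228224 : Led Lsl_dt (LP (LK LD1_c15 LD2_c15 LD3_c47)) = (LP (LK LD1_c8 LD2_c6 LD3_c21)) :=
  Lre_d IH (LK LD1_c15 LD2_c15 LD3_c47) (LK LD1_c8 LD2_c6 LD3_c21) Lrfl Lrfl
theorem f52970 : Led Lsl_ct (LP (LK LD1_c15 LD2_c15 LD3_c46)) = (LP (LK LD1_c8 LD2_c6 LD3_c21)) :=
  Lre_c IH (LK LD1_c15 LD2_c15 LD3_c46) (LK LD1_c8 LD2_c6 LD3_c21) Lrfl Lrfl
theorem f296637 : Led Lsl_dt (LP (LK LD1_c25 LD2_c5 LD3_c21)) = (LP (LK LD1_c15 LD2_c15 LD3_c46)) :=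
  Lre_d IH (LK LD1_c25 LD2_c5 LD3_c21) (LK LD1_c15 LD2_c15 LD3_c46) Lrfl Lrfl
theorem f296769 : Led Lsl_gt (LP (LK LD1_c20 LD2_c4 LD3_c22)) = (LP (LK LD1_c25 LD2_c5 LD3_c21)) :=
  Lgr Lrot49 (Lpe (f179286 IH) (Lpe (K22.f179276 IH) (Lpe (f179293 IH) (Lpr_gt (f296767 IH) (Lpr_dt (f220306 IH) (Lpe (f296755 IH) (Lpr_dt (f228224 IH) (Lpe (f52970 IH) (Lpe (f296637 IH) (Lpn (LP (LK LD1_c25 LD2_c5 LD3_c21))))))))))))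
theorem f244596 : Led Lsl_bt (LP (LK LD1_c11 LD2_c9 LD3_c53)) = (LP (LK LD1_c20 LD2_c4 LD3_c22)) :=
  Lre_b IH (LK LD1_c11 LD2_c9 LD3_c53) (LK LD1_c20 LD2_c4 LD3_c22) Lrfl Lrfl
theorem f179331 : Led Lsl_et (LP (LK LD1_c10 LD2_c49 LD3_c15)) = (LP (LK LD1_c5 LD2_c29 LD3_c2)) :=
  Lre_e IH (LK LD1_c10 LD2_c49 LD3_c15) (LK LD1_c5 LD2_c29 LD3_c2) Lrfl Lrfl
theorem f179332 : Led Lsl_et (LP (LK LD1_c5 LD2_c39 LD3_c5)) = (LP (LK LD1_c11 LD2_c9 LD3_c12)) :=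
  Lre_e IH (LK LD1_c5 LD2_c39 LD3_c5) (LK LD1_c11 LD2_c9 LD3_c12) Lrfl Lrfl
theorem f179333 : Led Lsl_cf (LP (LK LD1_c10 LD2_c49 LD3_c15)) = (LP (LK LD1_c11 LD2_c9 LD3_c12)) :=
  Lgr Lrot39 (Lpr_et (f179331 IH) (Lpr_ct (K22.f179304 IH) (Lpr_et (f179332 IH) (Lpn (LP (LK LD1_c11 LD2_c9 LD3_c12))))))
theorem f179342 : Led Lsl_ct (LP (LK LD1_c10 LD2_c49 LD3_c15)) = (LP (LK LD1_c11 LD2_c9 LD3_c12)) :=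
  Lgr Lrot59 (Lpr_cf (f179333 IH) (Lpn (LP (LK LD1_c11 LD2_c9 LD3_c12))))
theorem f179356 : Led Lsl_bt (LP (LK LD1_c5 LD2_c29 LD3_c5)) = (LP (LK LD1_c10 LD2_c49 LD3_c15)) :=
  Lre_b IH (LK LD1_c5 LD2_c29 LD3_c5) (LK LD1_c10 LD2_c49 LD3_c15) Lrfl Lrfl
theorem f179357 : Led Lsl_ct (LP (LK LD1_c10 LD2_c49 LD3_c20)) = (LP (LK LD1_c5 LD2_c29 LD3_c5)) :=
  Lre_c IH (LK LD1_c10 LD2_c49 LD3_c20) (LK LD1_c5 LD2_c29 LD3_c5) Lrfl Lrfl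
theorem f179358 : Led Lsl_bt (LP (LK LD1_c19 LD2_c33 LD3_c32)) = (LP (LK LD1_c10 LD2_c49 LD3_c20)) :=
  Lre_b IH (LK LD1_c19 LD2_c33 LD3_c32) (LK LD1_c10 LD2_c49 LD3_c20) Lrfl Lrfl
theorem f179353 : Led Lsl_bt (LP (LK LD1_c11 LD2_c9 LD3_c12)) = (LP (LK LD1_c20 LD2_c3 LD3_c14)) :=
  Lre_b IH (LK LD1_c11 LD2_c9 LD3_c12) (LK LD1_c20 LD2_c3 LD3_c14) Lrfl Lrfl
theorem f179359 : Led Lsl_cf (LP (LK LD1_c19 LD2_c33 LD3_c32)) = (LP (LK LD1_c20 LD2_c3 LD3_c14)) :=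
  Lgr Lrot97 (Lpr_bt (f179358 IH) (Lpr_ct (f179357 IH) (Lpr_bt (f179356 IH) (Lpr_ct (f179342 IH) (Lpr_bt (f179353 IH) (Lpn (LP (LK LD1_c20 LD2_c3 LD3_c14))))))))
theorem f179369 : Led Lsl_et (LP (LK LD1_c19 LD2_c33 LD3_c32)) = (LP (LK LD1_c10 LD2_c49 LD3_c18)) :=
  Lre_e IH (LK LD1_c19 LD2_c33 LD3_c32) (LK LD1_c10 LD2_c49 LD3_c18) Lrfl Lrfl
theorem f179370 : Led Lsl_et (LP (LK LD1_c11 LD2_c9 LD3_c11)) = (LP (LK LD1_c20 LD2_c3 LD3_c14)) :=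
  Lre_e IH (LK LD1_c11 LD2_c9 LD3_c11) (LK LD1_c20 LD2_c3 LD3_c14) Lrfl Lrfl
theorem f179371 : Led Lsl_ct (LP (LK LD1_c10 LD2_c49 LD3_c18)) = (LP (LK LD1_c11 LD2_c9 LD3_c11)) :=
  Lgr Lrot15 (Lpe (f179369 IH) (Lpr_cf (f179359 IH) (Lpe (f179370 IH) (Lpn (LP (LK LD1_c11 LD2_c9 LD3_c11))))))
theorem f226888 : Led Lsl_gt (LP (LK LD1_c8 LD2_c9 LD3_c41)) = (LP (LK LD1_c15 LD2_c22 LD3_c21)) :=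
  Lre_g IH (LK LD1_c8 LD2_c9 LD3_c41) (LK LD1_c15 LD2_c22 LD3_c21) Lrfl Lrfl
theorem f244055 : Led Lsl_ct (LP (LK LD1_c15 LD2_c22 LD3_c21)) = (LP (LK LD1_c25 LD2_c14 LD3_c1)) :=
  Lre_c IH (LK LD1_c15 LD2_c22 LD3_c21) (LK LD1_c25 LD2_c14 LD3_c1) Lrfl Lrfl
theorem f193329 : Led Lsl_bt (LP (LK LD1_c1 LD2_c59 LD3_c20)) = (LP (LK LD1_c4 LD2_c4 LD3_c39)) :=
  Lre_b IH (LK LD1_c1 LD2_c59 LD3_c20) (LK LD1_c4 LD2_c4 LD3_c39) Lrfl Lrfl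
theorem f244056 : Led Lsl_gf (LP (LK LD1_c25 LD2_c14 LD3_c55)) = (LP (LK LD1_c25 LD2_c14 LD3_c1)) :=
  Lgr Lrot129 (Lpe (f244054 IH) (Lpr_bt (f244053 IH) (Lpr_gt (f199461 IH) (Lpe (f193329 IH) (Lpr_ct (K15.f193328 IH) (Lpr_gt (K19.f244048 IH) (Lpe (K15.f200701 IH) (Lpr_bt (K18.f226887 IH) (Lpr_gt (f226888 IH) (Lpr_ct (f244055 IH) (Lpn (LP (LK LD1_c25 LD2_c14 LD3_c1)))))))))))))
theorem f244547 : Led Lsl_dt (LP (LK LD1_c11 LD2_c9 LD3_c11)) = (LP (LK LD1_c15 LD2_c22 LD3_c60)) :=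
  Lgr Lrot27 (Lpe (f179371 IH) (Lpe (K22.f179387 IH) (Lpr_cf (K22.f179415 IH) (Lpe (K18.f179414 IH) (Lpr_df (K17.f244531 IH) (Lpr_gt (f226888 IH) (Lpr_ct (f244055 IH) (Lpe (f244056 IH) (Lpr_ct (f244074 IH) (Lpn (LP (LK LD1_c15 LD2_c22 LD3_c60))))))))))))
theorem f179398 : Led Lsl_et (LP (LK LD1_c20 LD2_c3 LD3_c14)) = (LP (LK LD1_c11 LD2_c9 LD3_c11)) :=
  Lre_e IH (LK LD1_c20 LD2_c3 LD3_c14) (LK LD1_c11 LD2_c9 LD3_c11) Lrfl Lrfl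
theorem f179368 : Led Lsl_dt (LP (LK LD1_c29 LD2_c16 LD3_c43)) = (LP (LK LD1_c20 LD2_c3 LD3_c14)) :=
  Lre_d IH (LK LD1_c29 LD2_c16 LD3_c43) (LK LD1_c20 LD2_c3 LD3_c14) Lrfl Lrfl
theorem f244564 : Led Lsl_et (LP (LK LD1_c15 LD2_c22 LD3_c60)) = (LP (LK LD1_c25 LD2_c14 LD3_c56)) :=
  Lre_e IH (LK LD1_c15 LD2_c22 LD3_c60) (LK LD1_c25 LD2_c14 LD3_c56) Lrfl Lrfl
theorem f244565 : Led Lsl_dt (LP (LK LD1_c25 LD2_c14 LD3_c56)) = (LP (LK LD1_c31 LD2_c49 LD3_c46)) :=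
  Lre_d IH (LK LD1_c25 LD2_c14 LD3_c56) (LK LD1_c31 LD2_c49 LD3_c46) Lrfl Lrfl
theorem f244566 : Led Lsl_ef (LP (LK LD1_c29 LD2_c16 LD3_c43)) = (LP (LK LD1_c31 LD2_c49 LD3_c46)) :=
  Lgr Lrot73 (Lpr_dt (f179368 IH) (Lpr_et (f179398 IH) (Lpr_dt (f244547 IH) (Lpr_et (f244564 IH) (Lpr_dt (f244565 IH) (Lpn (LP (LK LD1_c31 LD2_c49 LD3_c46))))))))
theorem f244572 : Led Lsl_et (LP (LK LD1_c29 LD2_c16 LD3_c43)) = (LP (LK LD1_c31 LD2_c49 LD3_c46)) :=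
  Lgr Lrot87 (Lpr_ef (f244566 IH) (Lpn (LP (LK LD1_c31 LD2_c49 LD3_c46))))
theorem f244575 : Led Lsl_bt (LP (LK LD1_c20 LD2_c3 LD3_c16)) = (LP (LK LD1_c29 LD2_c16 LD3_c43)) :=
  Lre_b IH (LK LD1_c20 LD2_c3 LD3_c16) (LK LD1_c29 LD2_c16 LD3_c43) Lrfl Lrfl
theorem f244576 : Led Lsl_bt (LP (LK LD1_c31 LD2_c49 LD3_c46)) = (LP (LK LD1_c25 LD2_c14 LD3_c60)) :=
  Lre_b IH (LK LD1_c31 LD2_c49 LD3_c46) (LK LD1_c25 LD2_c14 LD3_c60) Lrfl Lrfl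
theorem f244577 : Led Lsl_ef (LP (LK LD1_c20 LD2_c3 LD3_c16)) = (LP (LK LD1_c25 LD2_c14 LD3_c60)) :=
  Lgr Lrot29 (Lpr_bt (f244575 IH) (Lpr_et (f244572 IH) (Lpr_bt (f244576 IH) (Lpn (LP (LK LD1_c25 LD2_c14 LD3_c60))))))
theorem f179344 : Led Lsl_dt (LP (LK LD1_c20 LD2_c3 LD3_c16)) = (LP (LK LD1_c11 LD2_c9 LD3_c12)) :=
  Lre_d IH (LK LD1_c20 LD2_c3 LD3_c16) (LK LD1_c11 LD2_c9 LD3_c12) Lrfl Lrfl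
theorem f179364 : Led Lsl_et (LP (LK LD1_c11 LD2_c9 LD3_c12)) = (LP (LK LD1_c5 LD2_c39 LD3_c5)) :=
  Lre_e IH (LK LD1_c11 LD2_c9 LD3_c12) (LK LD1_c5 LD2_c39 LD3_c5) Lrfl Lrfl
theorem f244583 : Led Lsl_dt (LP (LK LD1_c15 LD2_c23 LD3_c0)) = (LP (LK LD1_c25 LD2_c14 LD3_c60)) :=
  Lre_d IH (LK LD1_c15 LD2_c23 LD3_c0) (LK LD1_c25 LD2_c14 LD3_c60) Lrfl Lrfl
theorem f244584 : Led Lsl_et (LP (LK LD1_c8 LD2_c10 LD3_c6)) = (LP (LK LD1_c15 LD2_c23 LD3_c0)) :=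
  Lre_e IH (LK LD1_c8 LD2_c10 LD3_c6) (LK LD1_c15 LD2_c23 LD3_c0) Lrfl Lrfl
theorem f244585 : Led Lsl_dt (LP (LK LD1_c5 LD2_c39 LD3_c5)) = (LP (LK LD1_c8 LD2_c10 LD3_c6)) :=
  Lgr Lrot77 (Lpe (f179364 IH) (Lpe (f179344 IH) (Lpr_ef (f244577 IH) (Lpe (f244583 IH) (Lpe (f244584 IH) (Lpn (LP (LK LD1_c8 LD2_c10 LD3_c6))))))))
theorem f178094 : Led Lsl_dt (LP (LK LD1_c11 LD2_c9 LD3_c53)) = (LP (LK LD1_c5 LD2_c39 LD3_c24)) :=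
  Lre_d IH (LK LD1_c11 LD2_c9 LD3_c53) (LK LD1_c5 LD2_c39 LD3_c24) Lrfl Lrfl
theorem f244594 : Led Lsl_cf (LP (LK LD1_c11 LD2_c9 LD3_c53)) = (LP (LK LD1_c15 LD2_c22 LD3_c49)) :=
  Lgr Lrot175 (Lpr_dt (f178094 IH) (Lpe (f178073 IH) (Lpe (K22.f171867 IH) (Lpe (K20.f179300 IH) (Lpe (K22.f179303 IH) (Lpr_dt (f244585 IH) (Lpr_gt (f199461 IH) (Lpr_ct (K22.f196686 IH) (Lpr_gt (K19.f196687 IH) (Lpn (LP (LK LD1_c15 LD2_c22 LD3_c49))))))))))))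
theorem f244597 : Led Lsl_ct (LP (LK LD1_c11 LD2_c9 LD3_c53)) = (LP (LK LD1_c15 LD2_c22 LD3_c49)) :=
  Lgr Lrot59 (Lpr_cf (f244594 IH) (Lpn (LP (LK LD1_c15 LD2_c22 LD3_c49))))
theorem f296775 : Led Lsl_bt (LP (LK LD1_c15 LD2_c22 LD3_c21)) = (LP (LK LD1_c25 LD2_c5 LD3_c21)) :=
  Lgr Lrot92 (Lpr_ct (f244055 IH) (Lpe (f244056 IH) (Lpe (f244054 IH) (Lpr_bt (f244053 IH) (Lpr_gt (f199461 IH) (Lpr_ct (K22.f196686 IH) (Lpr_gt (K19.f196687 IH) (Lpe (f244597 IH) (Lpr_bt (f244596 IH) (Lpr_gt (f296769 IH) (Lpn (LP (LK LD1_c25 LD2_c5 LD3_c21)))))))))))))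
theorem f388689 : Led Lsl_ft (LP (LK LD1_c8 LD2_c28 LD3_c20)) = (LP (LK LD1_c15 LD2_c22 LD3_c21)) :=
  Lgr Lrot75 (Lpe (f388688 IH) (Lpr_ff (f388685 IH) (Lpe (f296775 IH) (Lpn (LP (LK LD1_c15 LD2_c22 LD3_c21))))))
theorem f52755 : Led Lsl_dt (LP (LK LD1_c8 LD2_c28 LD3_c20)) = (LP (LK LD1_c4 LD2_c14 LD3_c46)) :=
  Lre_d IH (LK LD1_c8 LD2_c28 LD3_c20) (LK LD1_c4 LD2_c14 LD3_c46) Lrfl Lrfl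
theorem f220916 : Led Lsl_dt (LP (LK LD1_c8 LD2_c28 LD3_c19)) = (LP (LK LD1_c15 LD2_c54 LD3_c22)) :=
  Lre_d IH (LK LD1_c8 LD2_c28 LD3_c19) (LK LD1_c15 LD2_c54 LD3_c22) Lrfl Lrfl
theorem f387967 : Led Lsl_ct (LP (LK LD1_c15 LD2_c54 LD3_c22)) = (LP (LK LD1_c25 LD2_c50 LD3_c21)) :=
  Lre_c IH (LK LD1_c15 LD2_c54 LD3_c22) (LK LD1_c25 LD2_c50 LD3_c21) Lrfl Lrfl
theorem f387861 : Led Lsl_dt (LP (LK LD1_c8 LD2_c28 LD3_c23)) = (LP (LK LD1_c15 LD2_c54 LD3_c34)) :=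
  Lre_d IH (LK LD1_c8 LD2_c28 LD3_c23) (LK LD1_c15 LD2_c54 LD3_c34) Lrfl Lrfl
theorem f319638 : Led Lsl_ct (LP (LK LD1_c8 LD2_c8 LD3_c56)) = (LP (LK LD1_c4 LD2_c30 LD3_c6)) :=
  Lgr Lrot111 (Lpe (f319636 IH) (Lpr_cf (K20.f319633 IH) (Lpe (K22.f319637 IH) (Lpn (LP (LK LD1_c4 LD2_c30 LD3_c6))))))
theorem f213543 : Led Lsl_bt (LP (LK LD1_c5 LD2_c32 LD3_c61)) = (LP (LK LD1_c10 LD2_c57 LD3_c48)) :=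
  Lre_b IH (LK LD1_c5 LD2_c32 LD3_c61) (LK LD1_c10 LD2_c57 LD3_c48) Lrfl Lrfl
theorem f387891 : Led Lsl_ct (LP (LK LD1_c10 LD2_c57 LD3_c48)) = (LP (LK LD1_c8 LD2_c27 LD3_c59)) :=
  Lgr Lrot83 (Lpe (f213543 IH) (Lpe (K24.f319923 IH) (Lpe (K24.f319916 IH) (Lpe (f319638 IH) (Lpr_bf (f387888 IH) (Lpn (LP (LK LD1_c8 LD2_c27 LD3_c59))))))))
theorem f225265 : Led Lsl_ct (LP (LK LD1_c8 LD2_c59 LD3_c59)) = (LP (LK LD1_c4 LD2_c30 LD3_c55)) :=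
  Lre_c IH (LK LD1_c8 LD2_c59 LD3_c59) (LK LD1_c4 LD2_c30 LD3_c55) Lrfl Lrfl
theorem f387926 : Led Lsl_gt (LP (LK LD1_c15 LD2_c54 LD3_c34)) = (LP (LK LD1_c8 LD2_c59 LD3_c59)) :=
  Lgr Lrot9 (Lpe (f387861 IH) (Lpr_gt (f220905 IH) (Lpr_ct (f387922 IH) (Lpe (f387920 IH) (Lpr_ct (f387891 IH) (Lpe (f387869 IH) (Lpe (f179484 IH) (Lpr_gf (f386380 IH) (Lpe (f225265 IH) (Lpn (LP (LK LD1_c8 LD2_c59 LD3_c59))))))))))))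
theorem f387929 : Led Lsl_bt (LP (LK LD1_c8 LD2_c28 LD3_c25)) = (LP (LK LD1_c15 LD2_c54 LD3_c34)) :=
  Lre_b IH (LK LD1_c8 LD2_c28 LD3_c25) (LK LD1_c15 LD2_c54 LD3_c34) Lrfl Lrfl
theorem f52748 : Led Lsl_ct (LP (LK LD1_c8 LD2_c28 LD3_c25)) = (LP (LK LD1_c15 LD2_c54 LD3_c38)) :=
  Lre_c IH (LK LD1_c8 LD2_c28 LD3_c25) (LK LD1_c15 LD2_c54 LD3_c38) Lrfl Lrfl
theorem f354533 : Led Lsl_bf (LP (LK LD1_c8 LD2_c10 LD3_c7)) = (LP (LK LD1_c5 LD2_c39 LD3_c6)) :=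
  Lgr Lrot24 (Lpr_bt (f354526 IH) (Lpn (LP (LK LD1_c5 LD2_c39 LD3_c6))))
theorem f200432 : Led Lsl_bt (LP (LK LD1_c15 LD2_c53 LD3_c13)) = (LP (LK LD1_c8 LD2_c27 LD3_c37)) :=
  Lre_b IH (LK LD1_c15 LD2_c53 LD3_c13) (LK LD1_c8 LD2_c27 LD3_c37) Lrfl Lrfl
theorem f200433 : Led Lsl_ct (LP (LK LD1_c15 LD2_c53 LD3_c13)) = (LP (LK LD1_c25 LD2_c49 LD3_c18)) :=
  Lre_c IH (LK LD1_c15 LD2_c53 LD3_c13) (LK LD1_c25 LD2_c49 LD3_c18) Lrfl Lrfl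
theorem f387930 : Led Lsl_gf (LP (LK LD1_c15 LD2_c54 LD3_c38)) = (LP (LK LD1_c25 LD2_c49 LD3_c18)) :=
  Lgr Lrot126 (Lpe (f52748 IH) (Lpr_bt (f387929 IH) (Lpr_gt (f387926 IH) (Lpr_ct (f225265 IH) (Lpe (f386380 IH) (Lpe (f179490 IH) (Lpe (f354533 IH) (Lpe (K22.f332716 IH) (Lpe (f200432 IH) (Lpr_ct (f200433 IH) (Lpn (LP (LK LD1_c25 LD2_c49 LD3_c18)))))))))))))
theorem f52746 : Led Lsl_ct (LP (LK LD1_c15 LD2_c54 LD3_c38)) = (LP (LK LD1_c8 LD2_c28 LD3_c25)) :=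
  Lre_c IH (LK LD1_c15 LD2_c54 LD3_c38) (LK LD1_c8 LD2_c28 LD3_c25) Lrfl Lrfl
theorem f238463 : Led Lsl_ct (LP (LK LD1_c8 LD2_c27 LD3_c37)) = (LP (LK LD1_c15 LD2_c53 LD3_c14)) :=
  Lre_c IH (LK LD1_c8 LD2_c27 LD3_c37) (LK LD1_c15 LD2_c53 LD3_c14) Lrfl Lrfl
theorem f238468 : Led Lsl_ct (LP (LK LD1_c25 LD2_c49 LD3_c18)) = (LP (LK LD1_c15 LD2_c53 LD3_c13)) :=
  Lre_c IH (LK LD1_c25 LD2_c49 LD3_c18) (LK LD1_c15 LD2_c53 LD3_c13) Lrfl Lrfl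
theorem f235926 : Led Lsl_ct (LP (LK LD1_c10 LD2_c37 LD3_c23)) = (LP (LK LD1_c19 LD2_c14 LD3_c31)) :=
  Lre_c IH (LK LD1_c10 LD2_c37 LD3_c23) (LK LD1_c19 LD2_c14 LD3_c31) Lrfl Lrfl
theorem f332736 : Led Lsl_bf (LP (LK LD1_c25 LD2_c49 LD3_c18)) = (LP (LK LD1_c19 LD2_c14 LD3_c31)) :=
  Lgr Lrot90 (Lpr_ct (f238468 IH) (Lpr_bt (f200432 IH) (Lpr_ct (f238463 IH) (Lpr_bt (K22.f332732 IH) (Lpr_ct (f235926 IH) (Lpn (LP (LK LD1_c19 LD2_c14 LD3_c31))))))))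
theorem f228435 : Led Lsl_ct (LP (LK LD1_c19 LD2_c14 LD3_c31)) = (LP (LK LD1_c10 LD2_c37 LD3_c23)) :=
  Lre_c IH (LK LD1_c19 LD2_c14 LD3_c31) (LK LD1_c10 LD2_c37 LD3_c23) Lrfl Lrfl
theorem f221605 : Led Lsl_bt (LP (LK LD1_c2 LD2_c38 LD3_c24)) = (LP (LK LD1_c1 LD2_c16 LD3_c8)) :=
  Lre_b IH (LK LD1_c2 LD2_c38 LD3_c24) (LK LD1_c1 LD2_c16 LD3_c8) Lrfl Lrfl
theorem f228564 : Led Lsl_bt (LP (LK LD1_c20 LD2_c2 LD3_c34)) = (LP (LK LD1_c11 LD2_c8 LD3_c55)) :=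
  Lre_b IH (LK LD1_c20 LD2_c2 LD3_c34) (LK LD1_c11 LD2_c8 LD3_c55) Lrfl Lrfl
theorem f228561 : Led Lsl_bt (LP (LK LD1_c10 LD2_c36 LD3_c12)) = (LP (LK LD1_c19 LD2_c12 LD3_c8)) :=
  Lre_b IH (LK LD1_c10 LD2_c36 LD3_c12) (LK LD1_c19 LD2_c12 LD3_c8) Lrfl Lrfl
theorem f228565 : Led Lsl_cf (LP (LK LD1_c20 LD2_c2 LD3_c34)) = (LP (LK LD1_c19 LD2_c12 LD3_c8)) :=
  Lgr Lrot97 (Lpr_bt (f228564 IH) (Lpr_ct (K18.f200502 IH) (Lpr_bt (K18.f200488 IH) (Lpr_ct (K19.f228557 IH) (Lpr_bt (f228561 IH) (Lpn (LP (LK LD1_c19 LD2_c12 LD3_c8))))))))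
theorem f228575 : Led Lsl_ft (LP (LK LD1_c20 LD2_c2 LD3_c34)) = (LP (LK LD1_c11 LD2_c8 LD3_c51)) :=
  Lre_f IH (LK LD1_c20 LD2_c2 LD3_c34) (LK LD1_c11 LD2_c8 LD3_c51) Lrfl Lrfl
theorem f228576 : Led Lsl_ft (LP (LK LD1_c10 LD2_c36 LD3_c9)) = (LP (LK LD1_c19 LD2_c12 LD3_c8)) :=
  Lre_f IH (LK LD1_c10 LD2_c36 LD3_c9) (LK LD1_c19 LD2_c12 LD3_c8) Lrfl Lrfl
theorem f228577 : Led Lsl_ct (LP (LK LD1_c11 LD2_c8 LD3_c51)) = (LP (LK LD1_c10 LD2_c36 LD3_c9)) :=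
  Lgr Lrot40 (Lpe (f228575 IH) (Lpr_cf (f228565 IH) (Lpe (f228576 IH) (Lpn (LP (LK LD1_c10 LD2_c36 LD3_c9))))))
theorem f228595 : Led Lsl_et (LP (LK LD1_c10 LD2_c36 LD3_c9)) = (LP (LK LD1_c5 LD2_c22 LD3_c54)) :=
  Lre_e IH (LK LD1_c10 LD2_c36 LD3_c9) (LK LD1_c5 LD2_c22 LD3_c54) Lrfl Lrfl
theorem f228596 : Led Lsl_cf (LP (LK LD1_c5 LD2_c38 LD3_c58)) = (LP (LK LD1_c5 LD2_c22 LD3_c54)) :=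
  Lgr Lrot39 (Lpr_et (K18.f228594 IH) (Lpr_ct (f228577 IH) (Lpr_et (f228595 IH) (Lpn (LP (LK LD1_c5 LD2_c22 LD3_c54))))))
theorem f387934 : Led Lsl_gt (LP (LK LD1_c8 LD2_c28 LD3_c25)) = (LP (LK LD1_c5 LD2_c38 LD3_c58)) :=
  Lgr Lrot149 (Lpe (f52746 IH) (Lpr_gf (f387930 IH) (Lpr_bf (f332736 IH) (Lpr_ct (f228435 IH) (Lpe (K22.f228434 IH) (Lpe (K22.f218427 IH) (Lpr_bt (f221605 IH) (Lpr_gf (K18.f228423 IH) (Lpe (K17.f228415 IH) (Lpe (f228596 IH) (Lpn (LP (LK LD1_c5 LD2_c38 LD3_c58)))))))))))))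
theorem f224202 : Led Lsl_gt (LP (LK LD1_c5 LD2_c22 LD3_c51)) = (LP (LK LD1_c10 LD2_c35 LD3_c58)) :=
  Lre_g IH (LK LD1_c5 LD2_c22 LD3_c51) (LK LD1_c10 LD2_c35 LD3_c58) Lrfl Lrfl
theorem f387948 : Led Lsl_bt (LP (LK LD1_c15 LD2_c54 LD3_c38)) = (LP (LK LD1_c10 LD2_c35 LD3_c58)) :=
  Lgr Lrot92 (Lpr_ct (f52746 IH) (Lpr_gt (f387934 IH) (Lpr_cf (f228596 IH) (Lpr_bt (K17.f228415 IH) (Lpe (K18.f228423 IH) (Lpr_ct (f211421 IH) (Lpe (K13.f224169 IH) (Lpe (K18.f217719 IH) (Lpr_bt (K17.f224201 IH) (Lpr_gt (f224202 IH) (Lpn (LP (LK LD1_c10 LD2_c35 LD3_c58)))))))))))))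
theorem f277119 : Led Lsl_gt (LP (LK LD1_c10 LD2_c35 LD3_c59)) = (LP (LK LD1_c5 LD2_c22 LD3_c51)) :=
  Lre_g IH (LK LD1_c10 LD2_c35 LD3_c59) (LK LD1_c5 LD2_c22 LD3_c51) Lrfl Lrfl
theorem f277301 : Led Lsl_gf (LP (LK LD1_c10 LD2_c35 LD3_c59)) = (LP (LK LD1_c15 LD2_c44 LD3_c9)) :=
  Lgr Lrot47 (Lpr_gt (f277119 IH) (Lpe (K17.f277052 IH) (Lpr_ff (K17.f277104 IH) (Lpn (LP (LK LD1_c15 LD2_c44 LD3_c9))))))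
theorem f172978 : Led Lsl_gt (LP (LK LD1_c5 LD2_c28 LD3_c40)) = (LP (LK LD1_c2 LD2_c40 LD3_c38)) :=
  Lre_g IH (LK LD1_c5 LD2_c28 LD3_c40) (LK LD1_c2 LD2_c40 LD3_c38) Lrfl Lrfl
theorem f277196 : Led Lsl_gt (LP (LK LD1_c8 LD2_c21 LD3_c54)) = (LP (LK LD1_c5 LD2_c28 LD3_c40)) :=
  Lgr Lrot5 (Lpr_ft (f277188 IH) (Lpr_at (f277112 IH) (Lpe (f172978 IH) (Lpn (LP (LK LD1_c5 LD2_c28 LD3_c40))))))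
theorem f172865 : Led Lsl_ct (LP (LK LD1_c5 LD2_c29 LD3_c12)) = (LP (LK LD1_c10 LD2_c49 LD3_c41)) :=
  Lre_c IH (LK LD1_c5 LD2_c29 LD3_c12) (LK LD1_c10 LD2_c49 LD3_c41) Lrfl Lrfl
theorem f172867 : Led Lsl_gt (LP (LK LD1_c2 LD2_c43 LD3_c10)) = (LP (LK LD1_c1 LD2_c18 LD3_c1)) :=
  Lre_g IH (LK LD1_c2 LD2_c43 LD3_c10) (LK LD1_c1 LD2_c18 LD3_c1) Lrfl Lrfl
theorem f172868 : Led Lsl_bt (LP (LK LD1_c5 LD2_c34 LD3_c25)) = (LP (LK LD1_c2 LD2_c43 LD3_c10)) :=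
  Lre_b IH (LK LD1_c5 LD2_c34 LD3_c25) (LK LD1_c2 LD2_c43 LD3_c10) Lrfl Lrfl
theorem f172869 : Led Lsl_ct (LP (LK LD1_c5 LD2_c34 LD3_c25)) = (LP (LK LD1_c11 LD2_c1 LD3_c1)) :=
  Lre_c IH (LK LD1_c5 LD2_c34 LD3_c25) (LK LD1_c11 LD2_c1 LD3_c1) Lrfl Lrfl
theorem f172870 : Led Lsl_gt (LP (LK LD1_c10 LD2_c49 LD3_c41)) = (LP (LK LD1_c11 LD2_c1 LD3_c1)) :=
  Lgr Lrot149 (Lpe (f172865 IH) (Lpe (f172412 IH) (Lpe (K13.f172401 IH) (Lpr_ct (K9.f172404 IH) (Lpe (K9.f68913 IH) (Lpe (K9.f168296 IH) (Lpr_bt (f172866 IH) (Lpe (f172867 IH) (Lpe (f172868 IH) (Lpr_ct (f172869 IH) (Lpn (LP (LK LD1_c11 LD2_c1 LD3_c1)))))))))))))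
theorem f172946 : Led Lsl_ct (LP (LK LD1_c2 LD2_c40 LD3_c47)) = (LP (LK LD1_c5 LD2_c29 LD3_c3)) :=
  Lre_c IH (LK LD1_c2 LD2_c40 LD3_c47) (LK LD1_c5 LD2_c29 LD3_c3) Lrfl Lrfl
theorem f172947 : Led Lsl_gt (LP (LK LD1_c5 LD2_c29 LD3_c3)) = (LP (LK LD1_c10 LD2_c49 LD3_c16)) :=
  Lre_g IH (LK LD1_c5 LD2_c29 LD3_c3) (LK LD1_c10 LD2_c49 LD3_c16) Lrfl Lrfl
theorem f172948 : Led Lsl_ct (LP (LK LD1_c10 LD2_c49 LD3_c16)) = (LP (LK LD1_c10 LD2_c48 LD3_c24)) :=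
  Lre_c IH (LK LD1_c10 LD2_c49 LD3_c16) (LK LD1_c10 LD2_c48 LD3_c24) Lrfl Lrfl
theorem f172941 : Led Lsl_ct (LP (LK LD1_c11 LD2_c1 LD3_c1)) = (LP (LK LD1_c5 LD2_c34 LD3_c25)) :=
  Lre_c IH (LK LD1_c11 LD2_c1 LD3_c1) (LK LD1_c5 LD2_c34 LD3_c25) Lrfl Lrfl
theorem f172952 : Led Lsl_df (LP (LK LD1_c10 LD2_c48 LD3_c24)) = (LP (LK LD1_c5 LD2_c34 LD3_c25)) :=
  Lgr Lrot162 (Lpe (f172948 IH) (Lpe (f172947 IH) (Lpe (f172946 IH) (Lpe (K22.f172945 IH) (Lpr_dt (K13.f172951 IH) (Lpr_gt (f172412 IH) (Lpr_ct (f172865 IH) (Lpr_gt (f172870 IH) (Lpr_ct (f172941 IH) (Lpn (LP (LK LD1_c5 LD2_c34 LD3_c25))))))))))))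
theorem f172956 : Led Lsl_bt (LP (LK LD1_c10 LD2_c48 LD3_c24)) = (LP (LK LD1_c5 LD2_c28 LD3_c40)) :=
  Lre_b IH (LK LD1_c10 LD2_c48 LD3_c24) (LK LD1_c5 LD2_c28 LD3_c40) Lrfl Lrfl
theorem f172957 : Led Lsl_bt (LP (LK LD1_c2 LD2_c43 LD3_c10)) = (LP (LK LD1_c5 LD2_c34 LD3_c25)) :=
  Lre_b IH (LK LD1_c2 LD2_c43 LD3_c10) (LK LD1_c5 LD2_c34 LD3_c25) Lrfl Lrfl
theorem f172958 : Led Lsl_dt (LP (LK LD1_c5 LD2_c28 LD3_c40)) = (LP (LK LD1_c2 LD2_c43 LD3_c10)) :=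
  Lgr Lrot79 (Lpe (f172956 IH) (Lpr_df (f172952 IH) (Lpe (f172957 IH) (Lpn (LP (LK LD1_c2 LD2_c43 LD3_c10))))))
theorem f172971 : Led Lsl_dt (LP (LK LD1_c1 LD2_c18 LD3_c1)) = (LP (LK LD1_c0 LD2_c35 LD3_c60)) :=
  Lre_d IH (LK LD1_c1 LD2_c18 LD3_c1) (LK LD1_c0 LD2_c35 LD3_c60) Lrfl Lrfl
theorem f172973 : Led Lsl_dt (LP (LK LD1_c2 LD2_c39 LD3_c8)) = (LP (LK LD1_c1 LD2_c16 LD3_c22)) :=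
  Lre_d IH (LK LD1_c2 LD2_c39 LD3_c8) (LK LD1_c1 LD2_c16 LD3_c22) Lrfl Lrfl
theorem f172974 : Led Lsl_gt (LP (LK LD1_c5 LD2_c25 LD3_c24)) = (LP (LK LD1_c2 LD2_c39 LD3_c8)) :=
  Lre_g IH (LK LD1_c5 LD2_c25 LD3_c24) (LK LD1_c2 LD2_c39 LD3_c8) Lrfl Lrfl
theorem f277303 : Led Lsl_dt (LP (LK LD1_c10 LD2_c35 LD3_c59)) = (LP (LK LD1_c5 LD2_c25 LD3_c24)) :=
  Lgr Lrot57 (Lpr_gf (f277301 IH) (Lpe (K17.f225416 IH) (Lpr_gt (f277196 IH) (Lpr_dt (f172958 IH) (Lpr_gt (f172867 IH) (Lpr_dt (f172971 IH) (Lpe (K14.f172972 IH) (Lpe (f172973 IH) (Lpe (f172974 IH) (Lpn (LP (LK LD1_c5 LD2_c25 LD3_c24))))))))))))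
theorem f228675 : Led Lsl_cf (LP (LK LD1_c2 LD2_c40 LD3_c38)) = (LP (LK LD1_c5 LD2_c22 LD3_c51)) :=
  Lgr Lrot97 (Lpr_bt (K21.f179310 IH) (Lpr_ct (K12.f172408 IH) (Lpr_bt (K12.f228671 IH) (Lpr_ct (K13.f224143 IH) (Lpr_bt (K17.f224201 IH) (Lpn (LP (LK LD1_c5 LD2_c22 LD3_c51))))))))
theorem f267733 : Led Lsl_gt (LP (LK LD1_c2 LD2_c40 LD3_c38)) = (LP (LK LD1_c5 LD2_c28 LD3_c39)) :=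
  Lre_g IH (LK LD1_c2 LD2_c40 LD3_c38) (LK LD1_c5 LD2_c28 LD3_c39) Lrfl Lrfl
theorem f267734 : Led Lsl_ct (LP (LK LD1_c5 LD2_c28 LD3_c39)) = (LP (LK LD1_c10 LD2_c48 LD3_c23)) :=
  Lre_c IH (LK LD1_c5 LD2_c28 LD3_c39) (LK LD1_c10 LD2_c48 LD3_c23) Lrfl Lrfl
theorem f226288 : Led Lsl_ct (LP (LK LD1_c2 LD2_c39 LD3_c8)) = (LP (LK LD1_c5 LD2_c25 LD3_c25)) :=
  Lre_c IH (LK LD1_c2 LD2_c39 LD3_c8) (LK LD1_c5 LD2_c25 LD3_c25) Lrfl Lrfl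
theorem f226328 : Led Lsl_gt (LP (LK LD1_c5 LD2_c25 LD3_c25)) = (LP (LK LD1_c10 LD2_c41 LD3_c53)) :=
  Lre_g IH (LK LD1_c5 LD2_c25 LD3_c25) (LK LD1_c10 LD2_c41 LD3_c53) Lrfl Lrfl
theorem f226329 : Led Lsl_ct (LP (LK LD1_c10 LD2_c41 LD3_c53)) = (LP (LK LD1_c19 LD2_c21 LD3_c53)) :=
  Lre_c IH (LK LD1_c10 LD2_c41 LD3_c53) (LK LD1_c19 LD2_c21 LD3_c53) Lrfl Lrfl
theorem f277319 : Led Lsl_df (LP (LK LD1_c10 LD2_c48 LD3_c23)) = (LP (LK LD1_c19 LD2_c21 LD3_c53)) :=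
  Lgr Lrot162 (Lpe (f267734 IH) (Lpe (f267733 IH) (Lpr_cf (f228675 IH) (Lpe (f277119 IH) (Lpr_dt (f277303 IH) (Lpr_gt (f172974 IH) (Lpr_ct (f226288 IH) (Lpr_gt (f226328 IH) (Lpr_ct (f226329 IH) (Lpn (LP (LK LD1_c19 LD2_c21 LD3_c53))))))))))))
theorem f277326 : Led Lsl_ct (LP (LK LD1_c10 LD2_c48 LD3_c23)) = (LP (LK LD1_c5 LD2_c28 LD3_c39)) :=
  Lre_c IH (LK LD1_c10 LD2_c48 LD3_c23) (LK LD1_c5 LD2_c28 LD3_c39) Lrfl Lrfl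
theorem f226383 : Led Lsl_gt (LP (LK LD1_c10 LD2_c59 LD3_c57)) = (LP (LK LD1_c19 LD2_c21 LD3_c53)) :=
  Lre_g IH (LK LD1_c10 LD2_c59 LD3_c57) (LK LD1_c19 LD2_c21 LD3_c53) Lrfl Lrfl
theorem f277330 : Led Lsl_dt (LP (LK LD1_c5 LD2_c33 LD3_c57)) = (LP (LK LD1_c10 LD2_c59 LD3_c57)) :=
  Lre_d IH (LK LD1_c5 LD2_c33 LD3_c57) (LK LD1_c10 LD2_c59 LD3_c57) Lrfl Lrfl
theorem f277331 : Led Lsl_gt (LP (LK LD1_c2 LD2_c43 LD3_c5)) = (LP (LK LD1_c5 LD2_c33 LD3_c57)) :=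
  Lre_g IH (LK LD1_c2 LD2_c43 LD3_c5) (LK LD1_c5 LD2_c33 LD3_c57) Lrfl Lrfl
theorem f224257 : Led Lsl_gt (LP (LK LD1_c1 LD2_c17 LD3_c61)) = (LP (LK LD1_c0 LD2_c35 LD3_c60)) :=
  Lre_g IH (LK LD1_c1 LD2_c17 LD3_c61) (LK LD1_c0 LD2_c35 LD3_c60) Lrfl Lrfl
theorem f277332 : Led Lsl_df (LP (LK LD1_c5 LD2_c28 LD3_c39)) = (LP (LK LD1_c2 LD2_c43 LD3_c9)) :=
  Lgr Lrot84 (Lpe (f277326 IH) (Lpr_df (f277319 IH) (Lpe (f226383 IH) (Lpe (f277330 IH) (Lpe (f277331 IH) (Lpe (f218314 IH) (Lpr_gt (f224257 IH) (Lpr_dt (f172989 IH) (Lpr_gt (f173020 IH) (Lpn (LP (LK LD1_c2 LD2_c43 LD3_c9))))))))))))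
theorem f277345 : Led Lsl_dt (LP (LK LD1_c5 LD2_c28 LD3_c39)) = (LP (LK LD1_c2 LD2_c43 LD3_c9)) :=
  Lgr Lrot42 (Lpr_df (f277332 IH) (Lpn (LP (LK LD1_c2 LD2_c43 LD3_c9))))
theorem f175234 : Led Lsl_gt (LP (LK LD1_c2 LD2_c43 LD3_c9)) = (LP (LK LD1_c4 LD2_c33 LD3_c38)) :=
  Lre_g IH (LK LD1_c2 LD2_c43 LD3_c9) (LK LD1_c4 LD2_c33 LD3_c38) Lrfl Lrfl
theorem f175239 : Led Lsl_dt (LP (LK LD1_c4 LD2_c33 LD3_c38)) = (LP (LK LD1_c2 LD2_c42 LD3_c59)) :=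
  Lre_d IH (LK LD1_c4 LD2_c33 LD3_c38) (LK LD1_c2 LD2_c42 LD3_c59) Lrfl Lrfl
theorem f277355 : Led Lsl_dt (LP (LK LD1_c10 LD2_c41 LD3_c9)) = (LP (LK LD1_c5 LD2_c25 LD3_c11)) :=
  Lre_d IH (LK LD1_c10 LD2_c41 LD3_c9) (LK LD1_c5 LD2_c25 LD3_c11) Lrfl Lrfl
theorem f277356 : Led Lsl_gt (LP (LK LD1_c5 LD2_c25 LD3_c23)) = (LP (LK LD1_c10 LD2_c41 LD3_c9)) :=
  Lre_g IH (LK LD1_c5 LD2_c25 LD3_c23) (LK LD1_c10 LD2_c41 LD3_c9) Lrfl Lrfl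
theorem f277357 : Led Lsl_dt (LP (LK LD1_c10 LD2_c35 LD3_c58)) = (LP (LK LD1_c5 LD2_c25 LD3_c23)) :=
  Lgr Lrot57 (Lpe (f224202 IH) (Lpr_cf (K21.f277106 IH) (Lpr_gt (f267733 IH) (Lpr_dt (f277345 IH) (Lpr_gt (f175234 IH) (Lpr_dt (f175239 IH) (Lpe (K12.f218302 IH) (Lpe (f277355 IH) (Lpe (f277356 IH) (Lpn (LP (LK LD1_c5 LD2_c25 LD3_c23))))))))))))
theorem f218417 : Led Lsl_bt (LP (LK LD1_c5 LD2_c25 LD3_c23)) = (LP (LK LD1_c10 LD2_c41 LD3_c47)) :=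
  Lre_b IH (LK LD1_c5 LD2_c25 LD3_c23) (LK LD1_c10 LD2_c41 LD3_c47) Lrfl Lrfl
theorem f387959 : Led Lsl_df (LP (LK LD1_c15 LD2_c54 LD3_c38)) = (LP (LK LD1_c10 LD2_c41 LD3_c47)) :=
  Lgr Lrot12 (Lpr_bt (f387948 IH) (Lpr_dt (f277357 IH) (Lpr_bt (f218417 IH) (Lpn (LP (LK LD1_c10 LD2_c41 LD3_c47))))))
theorem f52759 : Led Lsl_dt (LP (LK LD1_c8 LD2_c28 LD3_c25)) = (LP (LK LD1_c4 LD2_c14 LD3_c47)) :=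
  Lre_d IH (LK LD1_c8 LD2_c28 LD3_c25) (LK LD1_c4 LD2_c14 LD3_c47) Lrfl Lrfl
theorem f218457 : Led Lsl_ct (LP (LK LD1_c19 LD2_c21 LD3_c37)) = (LP (LK LD1_c10 LD2_c41 LD3_c47)) :=
  Lre_c IH (LK LD1_c19 LD2_c21 LD3_c37) (LK LD1_c10 LD2_c41 LD3_c47) Lrfl Lrfl
theorem f387968 : Led Lsl_dt (LP (LK LD1_c25 LD2_c50 LD3_c21)) = (LP (LK LD1_c19 LD2_c21 LD3_c37)) :=
  Lgr Lrot32 (Lpe (f387967 IH) (Lpe (f220916 IH) (Lpr_ft (K20.f220895 IH) (Lpr_at (K20.f220894 IH) (Lpe (f52749 IH) (Lpe (f52759 IH) (Lpe (f52746 IH) (Lpr_df (f387959 IH) (Lpe (f218457 IH) (Lpn (LP (LK LD1_c19 LD2_c21 LD3_c37))))))))))))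
theorem f388698 : Led Lsl_af (LP (LK LD1_c8 LD2_c28 LD3_c25)) = (LP (LK LD1_c15 LD2_c22 LD3_c21)) :=
  Lgr Lrot109 (Lpe (f52746 IH) (Lpr_df (f387959 IH) (Lpe (f218457 IH) (Lpe (f387968 IH) (Lpe (f387967 IH) (Lpe (f220916 IH) (Lpe (K20.f52833 IH) (Lpe (f52755 IH) (Lpr_ft (f388689 IH) (Lpn (LP (LK LD1_c15 LD2_c22 LD3_c21))))))))))))
theorem f388700 : Led Lsl_at (LP (LK LD1_c8 LD2_c28 LD3_c25)) = (LP (LK LD1_c15 LD2_c22 LD3_c21)) :=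
  Lgr Lrot100 (Lpr_af (f388698 IH) (Lpn (LP (LK LD1_c15 LD2_c22 LD3_c21))))
theorem f388887 : Led Lsl_ff (LP (LK LD1_c8 LD2_c28 LD3_c25)) = (LP (LK LD1_c15 LD2_c22 LD3_c22)) :=
  Lgr Lrot52 (Lpr_at (f388700 IH) (Lpe (f226888 IH) (Lpe (f244544 IH) (Lpn (LP (LK LD1_c15 LD2_c22 LD3_c22))))))
theorem f388897 : Led Lsl_ft (LP (LK LD1_c8 LD2_c28 LD3_c25)) = (LP (LK LD1_c15 LD2_c22 LD3_c22)) :=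
  Lgr Lrot48 (Lpr_ff (f388887 IH) (Lpn (LP (LK LD1_c15 LD2_c22 LD3_c22))))
theorem f52745 : Led Lsl_dt (LP (LK LD1_c4 LD2_c14 LD3_c47)) = (LP (LK LD1_c8 LD2_c28 LD3_c25)) :=
  Lre_d IH (LK LD1_c4 LD2_c14 LD3_c47) (LK LD1_c8 LD2_c28 LD3_c25) Lrfl Lrfl
theorem f388905 : Led Lsl_ft (LP (LK LD1_c8 LD2_c28 LD3_c17)) = (LP (LK LD1_c4 LD2_c14 LD3_c47)) :=
  Lre_f IH (LK LD1_c8 LD2_c28 LD3_c17) (LK LD1_c4 LD2_c14 LD3_c47) Lrfl Lrfl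
theorem f388906 : Led Lsl_df (LP (LK LD1_c8 LD2_c28 LD3_c17)) = (LP (LK LD1_c15 LD2_c22 LD3_c22)) :=
  Lgr Lrot78 (Lpr_ft (f388905 IH) (Lpr_dt (f52745 IH) (Lpr_ft (f388897 IH) (Lpn (LP (LK LD1_c15 LD2_c22 LD3_c22))))))
theorem f388908 : Led Lsl_dt (LP (LK LD1_c15 LD2_c54 LD3_c15)) = (LP (LK LD1_c11 LD2_c9 LD3_c51)) :=
  Lgr Lrot79 (Lpe (f388520 IH) (Lpr_df (f388906 IH) (Lpr_bf (f354530 IH) (Lpn (LP (LK LD1_c11 LD2_c9 LD3_c51))))))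
theorem f388917 : Led Lsl_df (LP (LK LD1_c15 LD2_c54 LD3_c15)) = (LP (LK LD1_c11 LD2_c9 LD3_c51)) :=
  Lgr Lrot38 (Lpr_dt (f388908 IH) (Lpn (LP (LK LD1_c11 LD2_c9 LD3_c51))))
theorem f380871 : Led Lsl_gf (LP (LK LD1_c7 LD2_c58 LD3_c60)) = (LP (LK LD1_c10 LD2_c55 LD3_c21)) :=
  Lgr Lrot47 (Lpr_gt (K27.f380869 IH) (Lpe (f289539 IH) (Lpr_ff (f289537 IH) (Lpn (LP (LK LD1_c10 LD2_c55 LD3_c21))))))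
theorem f380912 : Led Lsl_df (LP (LK LD1_c24 LD2_c52 LD3_c41)) = (LP (LK LD1_c16 LD2_c49 LD3_c27)) :=
  Lgr Lrot155 (Lpe (f318572 IH) (Lpr_ct (K27.f275504 IH) (Lpr_gt (K27.f380884 IH) (Lpr_ct (K19.f253849 IH) (Lpr_dt (K20.f253805 IH) (Lpe (K14.f226763 IH) (Lpe (f226821 IH) (Lpe (f226822 IH) (Lpe (f319271 IH) (Lpn (LP (LK LD1_c16 LD2_c49 LD3_c27))))))))))))
theorem f384327 : Led Lsl_gt (LP (LK LD1_c10 LD2_c48 LD3_c39)) = (LP (LK LD1_c16 LD2_c49 LD3_c27)) :=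
  Lgr Lrot94 (Lpe (f276259 IH) (Lpr_gt (f384325 IH) (Lpr_dt (f178908 IH) (Lpe (f380871 IH) (Lpr_dt (K20.f174032 IH) (Lpe (K16.f174029 IH) (Lpe (K20.f174027 IH) (Lpr_gf (f318572 IH) (Lpr_df (f380912 IH) (Lpn (LP (LK LD1_c16 LD2_c49 LD3_c27))))))))))))
theorem f221038 : Led Lsl_gt (LP (LK LD1_c5 LD2_c33 LD3_c39)) = (LP (LK LD1_c2 LD2_c42 LD3_c55)) :=
  Lre_g IH (LK LD1_c5 LD2_c33 LD3_c39) (LK LD1_c2 LD2_c42 LD3_c55) Lrfl Lrfl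
theorem f221039 : Led Lsl_bt (LP (LK LD1_c10 LD2_c59 LD3_c15)) = (LP (LK LD1_c5 LD2_c33 LD3_c39)) :=
  Lre_b IH (LK LD1_c10 LD2_c59 LD3_c15) (LK LD1_c5 LD2_c33 LD3_c39) Lrfl Lrfl
theorem f381108 : Led Lsl_ct (LP (LK LD1_c10 LD2_c59 LD3_c15)) = (LP (LK LD1_c19 LD2_c49 LD3_c58)) :=
  Lre_c IH (LK LD1_c10 LD2_c59 LD3_c15) (LK LD1_c19 LD2_c49 LD3_c58) Lrfl Lrfl
theorem f381109 : Led Lsl_gt (LP (LK LD1_c15 LD2_c3 LD3_c32)) = (LP (LK LD1_c19 LD2_c49 LD3_c58)) :=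
  Lgr Lrot149 (Lpe (K17.f171760 IH) (Lpr_gf (K27.f380873 IH) (Lpe (K20.f226742 IH) (Lpe (K27.f226745 IH) (Lpe (K12.f172293 IH) (Lpe (K9.f172296 IH) (Lpr_bt (K22.f225694 IH) (Lpe (f221038 IH) (Lpe (f221039 IH) (Lpr_ct (f381108 IH) (Lpn (LP (LK LD1_c19 LD2_c49 LD3_c58)))))))))))))
theorem f221040 : Led Lsl_ct (LP (LK LD1_c19 LD2_c49 LD3_c58)) = (LP (LK LD1_c10 LD2_c59 LD3_c15)) :=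
  Lre_c IH (LK LD1_c19 LD2_c49 LD3_c58) (LK LD1_c10 LD2_c59 LD3_c15) Lrfl Lrfl
theorem f319270 : Led Lsl_ct (LP (LK LD1_c16 LD2_c49 LD3_c27)) = (LP (LK LD1_c8 LD2_c59 LD3_c61)) :=
  Lre_c IH (LK LD1_c16 LD2_c49 LD3_c27) (LK LD1_c8 LD2_c59 LD3_c61) Lrfl Lrfl
theorem f384343 : Led Lsl_df (LP (LK LD1_c10 LD2_c59 LD3_c15)) = (LP (LK LD1_c8 LD2_c59 LD3_c61)) :=
  Lgr Lrot162 (Lpe (f221040 IH) (Lpe (f381109 IH) (Lpe (K17.f171760 IH) (Lpr_gf (K27.f380873 IH) (Lpr_dt (K27.f226819 IH) (Lpr_gt (f226773 IH) (Lpr_ct (f276259 IH) (Lpr_gt (f384327 IH) (Lpr_ct (f319270 IH) (Lpn (LP (LK LD1_c8 LD2_c59 LD3_c61))))))))))))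
theorem f319217 : Led Lsl_bt (LP (LK LD1_c4 LD2_c30 LD3_c56)) = (LP (LK LD1_c8 LD2_c59 LD3_c61)) :=
  Lre_b IH (LK LD1_c4 LD2_c30 LD3_c56) (LK LD1_c8 LD2_c59 LD3_c61) Lrfl Lrfl
theorem f384350 : Led Lsl_dt (LP (LK LD1_c5 LD2_c33 LD3_c39)) = (LP (LK LD1_c4 LD2_c30 LD3_c56)) :=
  Lgr Lrot79 (Lpe (f221039 IH) (Lpr_df (f384343 IH) (Lpe (f319217 IH) (Lpn (LP (LK LD1_c4 LD2_c30 LD3_c56))))))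
theorem f384357 : Led Lsl_df (LP (LK LD1_c5 LD2_c33 LD3_c39)) = (LP (LK LD1_c4 LD2_c30 LD3_c56)) :=
  Lgr Lrot38 (Lpr_dt (f384350 IH) (Lpn (LP (LK LD1_c4 LD2_c30 LD3_c56))))
theorem f385088 : Led Lsl_dt (LP (LK LD1_c8 LD2_c9 LD3_c46)) = (LP (LK LD1_c8 LD2_c27 LD3_c37)) :=
  Lgr Lrot57 (Lpr_gf (f385083 IH) (Lpe (f179484 IH) (Lpe (f354515 IH) (Lpe (f384357 IH) (Lpr_gt (f221038 IH) (Lpr_dt (K22.f221037 IH) (Lpe (K22.f220924 IH) (Lpe (K22.f238429 IH) (Lpe (K22.f200431 IH) (Lpn (LP (LK LD1_c8 LD2_c27 LD3_c37))))))))))))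
theorem f384877 : Led Lsl_cf (LP (LK LD1_c16 LD2_c44 LD3_c44)) = (LP (LK LD1_c11 LD2_c9 LD3_c51)) :=
  Lgr Lrot11 (Lpr_ct (f384875 IH) (Lpn (LP (LK LD1_c11 LD2_c9 LD3_c51))))
theorem f244659 : Led Lsl_bt (LP (LK LD1_c20 LD2_c2 LD3_c12)) = (LP (LK LD1_c11 LD2_c8 LD3_c40)) :=
  Lre_b IH (LK LD1_c20 LD2_c2 LD3_c12) (LK LD1_c11 LD2_c8 LD3_c40) Lrfl Lrfl
theorem f238466 : Led Lsl_ct (LP (LK LD1_c8 LD2_c27 LD3_c36)) = (LP (LK LD1_c15 LD2_c53 LD3_c11)) :=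
  Lre_c IH (LK LD1_c8 LD2_c27 LD3_c36) (LK LD1_c15 LD2_c53 LD3_c11) Lrfl Lrfl
theorem f238467 : Led Lsl_gt (LP (LK LD1_c15 LD2_c53 LD3_c11)) = (LP (LK LD1_c25 LD2_c49 LD3_c10)) :=
  Lre_g IH (LK LD1_c15 LD2_c53 LD3_c11) (LK LD1_c25 LD2_c49 LD3_c10) Lrfl Lrfl
theorem f244662 : Led Lsl_ct (LP (LK LD1_c20 LD2_c2 LD3_c12)) = (LP (LK LD1_c25 LD2_c49 LD3_c10)) :=
  Lgr Lrot63 (Lpr_bt (f244659 IH) (Lpr_gt (f244554 IH) (Lpe (K18.f179413 IH) (Lpr_ct (K13.f179412 IH) (Lpr_gt (K23.f243656 IH) (Lpe (K15.f200428 IH) (Lpr_bt (K22.f200430 IH) (Lpr_gt (f238465 IH) (Lpr_ct (f238466 IH) (Lpr_gt (f238467 IH) (Lpn (LP (LK LD1_c25 LD2_c49 LD3_c10)))))))))))))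
theorem f244667 : Led Lsl_cf (LP (LK LD1_c20 LD2_c2 LD3_c12)) = (LP (LK LD1_c25 LD2_c49 LD3_c10)) :=
  Lgr Lrot11 (Lpr_ct (f244662 IH) (Lpn (LP (LK LD1_c25 LD2_c49 LD3_c10))))
theorem f244670 : Led Lsl_bt (LP (LK LD1_c19 LD2_c28 LD3_c47)) = (LP (LK LD1_c10 LD2_c46 LD3_c17)) :=
  Lre_b IH (LK LD1_c19 LD2_c28 LD3_c47) (LK LD1_c10 LD2_c46 LD3_c17) Lrfl Lrfl
theorem f244671 : Led Lsl_bt (LP (LK LD1_c19 LD2_c28 LD3_c48)) = (LP (LK LD1_c25 LD2_c49 LD3_c10)) :=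
  Lgr Lrot128 (Lpe (f235839 IH) (Lpe (f244670 IH) (Lpe (f179408 IH) (Lpe (f244659 IH) (Lpr_cf (f244667 IH) (Lpn (LP (LK LD1_c25 LD2_c49 LD3_c10))))))))
theorem f332730 : Led Lsl_gf (LP (LK LD1_c15 LD2_c53 LD3_c14)) = (LP (LK LD1_c25 LD2_c49 LD3_c10)) :=
  Lgr Lrot181 (Lpr_ct (K22.f238464 IH) (Lpr_gt (K22.f200431 IH) (Lpr_cf (K22.f332722 IH) (Lpr_bt (K19.f199398 IH) (Lpe (K20.f316883 IH) (Lpe (f235841 IH) (Lpe (K14.f235794 IH) (Lpr_gt (f235834 IH) (Lpe (f235840 IH) (Lpr_bt (f244671 IH) (Lpn (LP (LK LD1_c25 LD2_c49 LD3_c10)))))))))))))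
theorem f332651 : Led Lsl_cf (LP (LK LD1_c25 LD2_c14 LD3_c40)) = (LP (LK LD1_c25 LD2_c8 LD3_c47)) :=
  Lgr Lrot11 (Lpr_ct (f332581 IH) (Lpn (LP (LK LD1_c25 LD2_c8 LD3_c47))))
theorem f332577 : Led Lsl_bt (LP (LK LD1_c11 LD2_c10 LD3_c3)) = (LP (LK LD1_c8 LD2_c7 LD3_c28)) :=
  Lgr Lrot127 (Lpr_bf (f332575 IH) (Lpn (LP (LK LD1_c8 LD2_c7 LD3_c28))))
theorem f332667 : Led Lsl_ct (LP (LK LD1_c15 LD2_c22 LD3_c50)) = (LP (LK LD1_c11 LD2_c10 LD3_c3)) :=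
  Lgr Lrot83 (Lpe (f199463 IH) (Lpr_cf (f332651 IH) (Lpe (f199509 IH) (Lpe (K22.f199605 IH) (Lpe (f332577 IH) (Lpn (LP (LK LD1_c11 LD2_c10 LD3_c3))))))))
theorem f179409 : Led Lsl_bt (LP (LK LD1_c11 LD2_c8 LD3_c40)) = (LP (LK LD1_c20 LD2_c2 LD3_c12)) :=
  Lre_b IH (LK LD1_c11 LD2_c8 LD3_c40) (LK LD1_c20 LD2_c2 LD3_c12) Lrfl Lrfl
theorem f179407 : Led Lsl_ct (LP (LK LD1_c19 LD2_c28 LD3_c47)) = (LP (LK LD1_c11 LD2_c8 LD3_c40)) :=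
  Lre_c IH (LK LD1_c19 LD2_c28 LD3_c47) (LK LD1_c11 LD2_c8 LD3_c40) Lrfl Lrfl
theorem f244665 : Led Lsl_bf (LP (LK LD1_c19 LD2_c28 LD3_c48)) = (LP (LK LD1_c25 LD2_c49 LD3_c10)) :=
  Lgr Lrot90 (Lpr_ct (f235840 IH) (Lpr_bt (f244664 IH) (Lpr_ct (f179407 IH) (Lpr_bt (f179409 IH) (Lpr_ct (f244662 IH) (Lpn (LP (LK LD1_c25 LD2_c49 LD3_c10))))))))
theorem f384942 : Led Lsl_gt (LP (LK LD1_c11 LD2_c10 LD3_c3)) = (LP (LK LD1_c20 LD2_c2 LD3_c12)) :=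
  Lgr Lrot149 (Lpe (f332667 IH) (Lpr_gf (f199474 IH) (Lpe (K19.f199439 IH) (Lpr_ct (K19.f199440 IH) (Lpr_gf (f384940 IH) (Lpe (f235846 IH) (Lpr_bt (f235847 IH) (Lpe (f332025 IH) (Lpr_bf (f244665 IH) (Lpe (f244667 IH) (Lpn (LP (LK LD1_c20 LD2_c2 LD3_c12)))))))))))))
theorem f385100 : Led Lsl_gf (LP (LK LD1_c11 LD2_c9 LD3_c51)) = (LP (LK LD1_c5 LD2_c39 LD3_c28)) :=
  Lgr Lrot179 (Lpe (f384877 IH) (Lpr_gt (f319150 IH) (Lpr_ct (f319148 IH) (Lpr_dt (f385088 IH) (Lpe (K22.f238464 IH) (Lpr_gf (f332730 IH) (Lpe (f244662 IH) (Lpe (f384942 IH) (Lpr_dt (K22.f244203 IH) (Lpn (LP (LK LD1_c5 LD2_c39 LD3_c28))))))))))))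
theorem f228621 : Led Lsl_at (LP (LK LD1_c11 LD2_c8 LD3_c50)) = (LP (LK LD1_c5 LD2_c38 LD3_c58)) :=
  Lre_a IH (LK LD1_c11 LD2_c8 LD3_c50) (LK LD1_c5 LD2_c38 LD3_c58) Lrfl Lrfl
theorem f286697 : Led Lsl_ff (LP (LK LD1_c11 LD2_c8 LD3_c50)) = (LP (LK LD1_c15 LD2_c22 LD3_c23)) :=
  Lgr Lrot30 (Lpr_at (f228621 IH) (Lpr_ft (K17.f286674 IH) (Lpr_at (K18.f244636 IH) (Lpn (LP (LK LD1_c15 LD2_c22 LD3_c23))))))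
theorem f387938 : Led Lsl_gf (LP (LK LD1_c8 LD2_c28 LD3_c25)) = (LP (LK LD1_c15 LD2_c22 LD3_c23)) :=
  Lgr Lrot47 (Lpr_gt (f387934 IH) (Lpe (f228621 IH) (Lpr_ff (f286697 IH) (Lpn (LP (LK LD1_c15 LD2_c22 LD3_c23))))))
theorem f220909 : Led Lsl_dt (LP (LK LD1_c15 LD2_c54 LD3_c36)) = (LP (LK LD1_c8 LD2_c28 LD3_c24)) :=
  Lre_d IH (LK LD1_c15 LD2_c54 LD3_c36) (LK LD1_c8 LD2_c28 LD3_c24) Lrfl Lrfl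
theorem f388198 : Led Lsl_gt (LP (LK LD1_c25 LD2_c50 LD3_c19)) = (LP (LK LD1_c15 LD2_c54 LD3_c36)) :=
  Lre_g IH (LK LD1_c25 LD2_c50 LD3_c19) (LK LD1_c15 LD2_c54 LD3_c36) Lrfl Lrfl
theorem f244537 : Led Lsl_at (LP (LK LD1_c5 LD2_c38 LD3_c54)) = (LP (LK LD1_c11 LD2_c8 LD3_c41)) :=
  Lre_a IH (LK LD1_c5 LD2_c38 LD3_c54) (LK LD1_c11 LD2_c8 LD3_c41) Lrfl Lrfl
theorem f244538 : Led Lsl_at (LP (LK LD1_c15 LD2_c22 LD3_c23)) = (LP (LK LD1_c8 LD2_c9 LD3_c41)) :=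
  Lre_a IH (LK LD1_c15 LD2_c22 LD3_c23) (LK LD1_c8 LD2_c9 LD3_c41) Lrfl Lrfl
theorem f244539 : Led Lsl_dt (LP (LK LD1_c11 LD2_c8 LD3_c41)) = (LP (LK LD1_c15 LD2_c22 LD3_c23)) :=
  Lgr Lrot44 (Lpe (f244537 IH) (Lpr_df (K17.f244531 IH) (Lpe (f244538 IH) (Lpn (LP (LK LD1_c15 LD2_c22 LD3_c23))))))
theorem f331946 : Led Lsl_af (LP (LK LD1_c15 LD2_c22 LD3_c11)) = (LP (LK LD1_c11 LD2_c8 LD3_c39)) :=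
  Lgr Lrot0 (Lpr_at (f331944 IH) (Lpn (LP (LK LD1_c11 LD2_c8 LD3_c39))))
theorem f247302 : Led Lsl_at (LP (LK LD1_c15 LD2_c22 LD3_c12)) = (LP (LK LD1_c8 LD2_c9 LD3_c35)) :=
  Lre_a IH (LK LD1_c15 LD2_c22 LD3_c12) (LK LD1_c8 LD2_c9 LD3_c35) Lrfl Lrfl
theorem f286641 : Led Lsl_gf (LP (LK LD1_c15 LD2_c22 LD3_c11)) = (LP (LK LD1_c11 LD2_c8 LD3_c41)) :=
  Lgr Lrot47 (Lpr_gt (f223684 IH) (Lpe (f247302 IH) (Lpr_ff (K17.f286595 IH) (Lpn (LP (LK LD1_c11 LD2_c8 LD3_c41))))))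
theorem f297474 : Led Lsl_dt (LP (LK LD1_c19 LD2_c36 LD3_c15)) = (LP (LK LD1_c15 LD2_c50 LD3_c2)) :=
  Lgr Lrot42 (Lpr_df (K22.f297466 IH) (Lpn (LP (LK LD1_c15 LD2_c50 LD3_c2))))
theorem f297477 : Led Lsl_df (LP (LK LD1_c15 LD2_c22 LD3_c10)) = (LP (LK LD1_c8 LD2_c25 LD3_c48)) :=
  Lgr Lrot12 (Lpr_bt (K22.f226847 IH) (Lpr_dt (f297474 IH) (Lpr_bt (K11.f52877 IH) (Lpn (LP (LK LD1_c8 LD2_c25 LD3_c48))))))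
theorem f331923 : Led Lsl_ft (LP (LK LD1_c15 LD2_c22 LD3_c10)) = (LP (LK LD1_c11 LD2_c8 LD3_c39)) :=
  Lgr Lrot54 (Lpr_df (f297477 IH) (Lpr_ff (K22.f331917 IH) (Lpr_df (K18.f286681 IH) (Lpn (LP (LK LD1_c11 LD2_c8 LD3_c39))))))
theorem f332148 : Led Lsl_gf (LP (LK LD1_c11 LD2_c8 LD3_c41)) = (LP (LK LD1_c15 LD2_c22 LD3_c10)) :=
  Lgr Lrot47 (Lpe (f286641 IH) (Lpr_af (f331946 IH) (Lpe (f331923 IH) (Lpn (LP (LK LD1_c15 LD2_c22 LD3_c10))))))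
theorem f226852 : Led Lsl_ct (LP (LK LD1_c25 LD2_c13 LD3_c49)) = (LP (LK LD1_c15 LD2_c22 LD3_c10)) :=
  Lre_c IH (LK LD1_c25 LD2_c13 LD3_c49) (LK LD1_c15 LD2_c22 LD3_c10) Lrfl Lrfl
theorem f388199 : Led Lsl_df (LP (LK LD1_c25 LD2_c50 LD3_c19)) = (LP (LK LD1_c16 LD2_c44 LD3_c48)) :=
  Lgr Lrot153 (Lpr_gt (f388198 IH) (Lpr_dt (f220909 IH) (Lpe (f52749 IH) (Lpe (f52759 IH) (Lpr_gf (f387938 IH) (Lpe (f244539 IH) (Lpr_gf (f332148 IH) (Lpe (f226852 IH) (Lpe (f319211 IH) (Lpn (LP (LK LD1_c16 LD2_c44 LD3_c48))))))))))))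
theorem f388204 : Led Lsl_dt (LP (LK LD1_c25 LD2_c50 LD3_c19)) = (LP (LK LD1_c16 LD2_c44 LD3_c48)) :=
  Lgr Lrot42 (Lpr_df (f388199 IH) (Lpn (LP (LK LD1_c16 LD2_c44 LD3_c48))))
theorem f388212 : Led Lsl_dt (LP (LK LD1_c8 LD2_c56 LD3_c44)) = (LP (LK LD1_c16 LD2_c44 LD3_c49)) :=
  Lre_d IH (LK LD1_c8 LD2_c56 LD3_c44) (LK LD1_c16 LD2_c44 LD3_c49) Lrfl Lrfl
theorem f388213 : Led Lsl_bf (LP (LK LD1_c25 LD2_c50 LD3_c19)) = (LP (LK LD1_c16 LD2_c44 LD3_c49)) :=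
  Lgr Lrot93 (Lpr_dt (f388204 IH) (Lpr_bt (f319152 IH) (Lpr_dt (f388212 IH) (Lpn (LP (LK LD1_c16 LD2_c44 LD3_c49))))))
theorem f220901 : Led Lsl_ct (LP (LK LD1_c15 LD2_c54 LD3_c36)) = (LP (LK LD1_c25 LD2_c50 LD3_c42)) :=
  Lre_c IH (LK LD1_c15 LD2_c54 LD3_c36) (LK LD1_c25 LD2_c50 LD3_c42) Lrfl Lrfl
theorem f271654 : Led Lsl_bt (LP (LK LD1_c5 LD2_c31 LD3_c12)) = (LP (LK LD1_c10 LD2_c53 LD3_c60)) :=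
  Lre_b IH (LK LD1_c5 LD2_c31 LD3_c12) (LK LD1_c10 LD2_c53 LD3_c60) Lrfl Lrfl
theorem f282818 : Led Lsl_dt (LP (LK LD1_c10 LD2_c53 LD3_c60)) = (LP (LK LD1_c8 LD2_c56 LD3_c31)) :=
  Lgr Lrot79 (Lpe (f271654 IH) (Lpr_df (K17.f282800 IH) (Lpe (K14.f213840 IH) (Lpn (LP (LK LD1_c8 LD2_c56 LD3_c31))))))
theorem f388206 : Led Lsl_gt (LP (LK LD1_c25 LD2_c50 LD3_c42)) = (LP (LK LD1_c19 LD2_c41 LD3_c57)) :=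
  Lgr Lrot150 (Lpe (f220901 IH) (Lpe (f388198 IH) (Lpr_df (f388199 IH) (Lpe (f247304 IH) (Lpr_ct (f247303 IH) (Lpr_gt (f223684 IH) (Lpr_ct (K14.f247298 IH) (Lpe (f282818 IH) (Lpe (K18.f174995 IH) (Lpn (LP (LK LD1_c19 LD2_c41 LD3_c57))))))))))))
theorem f271629 : Led Lsl_bt (LP (LK LD1_c5 LD2_c31 LD3_c9)) = (LP (LK LD1_c2 LD2_c41 LD3_c51)) :=
  Lre_b IH (LK LD1_c5 LD2_c31 LD3_c9) (LK LD1_c2 LD2_c41 LD3_c51) Lrfl Lrfl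
theorem f281598 : Led Lsl_gt (LP (LK LD1_c10 LD2_c53 LD3_c52)) = (LP (LK LD1_c19 LD2_c41 LD3_c40)) :=
  Lre_g IH (LK LD1_c10 LD2_c53 LD3_c52) (LK LD1_c19 LD2_c41 LD3_c40) Lrfl Lrfl
theorem f388218 : Led Lsl_cf (LP (LK LD1_c19 LD2_c41 LD3_c40)) = (LP (LK LD1_c16 LD2_c44 LD3_c49)) :=
  Lgr Lrot58 (Lpe (f281598 IH) (Lpe (K20.f225233 IH) (Lpr_bt (f271629 IH) (Lpe (K17.f174993 IH) (Lpe (K18.f174994 IH) (Lpr_ct (K18.f221374 IH) (Lpe (f388206 IH) (Lpe (f220901 IH) (Lpe (f388198 IH) (Lpr_bf (f388213 IH) (Lpn (LP (LK LD1_c16 LD2_c44 LD3_c49)))))))))))))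
theorem f280734 : Led Lsl_at (LP (LK LD1_c16 LD2_c46 LD3_c34)) = (LP (LK LD1_c26 LD2_c44 LD3_c61)) :=
  Lre_a IH (LK LD1_c16 LD2_c46 LD3_c34) (LK LD1_c26 LD2_c44 LD3_c61) Lrfl Lrfl
theorem f280755 : Led Lsl_ft (LP (LK LD1_c10 LD2_c53 LD3_c52)) = (LP (LK LD1_c16 LD2_c46 LD3_c34)) :=
  Lgr Lrot101 (Lpe (K20.f280749 IH) (Lpr_ff (K20.f280750 IH) (Lpe (f280734 IH) (Lpn (LP (LK LD1_c16 LD2_c46 LD3_c34))))))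
theorem f281599 : Led Lsl_gt (LP (LK LD1_c19 LD2_c41 LD3_c40)) = (LP (LK LD1_c26 LD2_c44 LD3_c61)) :=
  Lgr Lrot46 (Lpe (f281598 IH) (Lpr_ft (f280755 IH) (Lpr_at (f280734 IH) (Lpn (LP (LK LD1_c26 LD2_c44 LD3_c61))))))
theorem f280763 : Led Lsl_ct (LP (LK LD1_c26 LD2_c44 LD3_c61)) = (LP (LK LD1_c16 LD2_c46 LD3_c32)) :=
  Lre_c IH (LK LD1_c26 LD2_c44 LD3_c61) (LK LD1_c16 LD2_c46 LD3_c32) Lrfl Lrfl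
theorem f280666 : Led Lsl_dt (LP (LK LD1_c16 LD2_c46 LD3_c32)) = (LP (LK LD1_c8 LD2_c57 LD3_c50)) :=
  Lre_d IH (LK LD1_c16 LD2_c46 LD3_c32) (LK LD1_c8 LD2_c57 LD3_c50) Lrfl Lrfl
theorem f224532 : Led Lsl_gt (LP (LK LD1_c10 LD2_c54 LD3_c49)) = (LP (LK LD1_c5 LD2_c31 LD3_c34)) :=
  Lre_g IH (LK LD1_c10 LD2_c54 LD3_c49) (LK LD1_c5 LD2_c31 LD3_c34) Lrfl Lrfl
theorem f224533 : Led Lsl_dt (LP (LK LD1_c10 LD2_c54 LD3_c49)) = (LP (LK LD1_c19 LD2_c42 LD3_c58)) :=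
  Lre_d IH (LK LD1_c10 LD2_c54 LD3_c49) (LK LD1_c19 LD2_c42 LD3_c58) Lrfl Lrfl
theorem f388228 : Led Lsl_gt (LP (LK LD1_c19 LD2_c42 LD3_c58)) = (LP (LK LD1_c16 LD2_c44 LD3_c49)) :=
  Lgr Lrot9 (Lpe (f224533 IH) (Lpr_gt (f224532 IH) (Lpr_ct (K20.f220884 IH) (Lpr_gt (K24.f281578 IH) (Lpr_ct (K20.f280667 IH) (Lpe (f280666 IH) (Lpe (f280763 IH) (Lpe (f281599 IH) (Lpr_cf (f388218 IH) (Lpn (LP (LK LD1_c16 LD2_c44 LD3_c49))))))))))))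
theorem f224492 : Led Lsl_ft (LP (LK LD1_c5 LD2_c34 LD3_c10)) = (LP (LK LD1_c10 LD2_c59 LD3_c29)) :=
  Lre_f IH (LK LD1_c5 LD2_c34 LD3_c10) (LK LD1_c10 LD2_c59 LD3_c29) Lrfl Lrfl
theorem f224493 : Led Lsl_at (LP (LK LD1_c10 LD2_c59 LD3_c29)) = (LP (LK LD1_c10 LD2_c54 LD3_c49)) :=
  Lre_a IH (LK LD1_c10 LD2_c59 LD3_c29) (LK LD1_c10 LD2_c54 LD3_c49) Lrfl Lrfl
theorem f224494 : Led Lsl_gf (LP (LK LD1_c10 LD2_c54 LD3_c49)) = (LP (LK LD1_c5 LD2_c31 LD3_c37)) :=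
  Lgr Lrot76 (Lpe (f224493 IH) (Lpe (f224492 IH) (Lpr_gt (K27.f224489 IH) (Lpn (LP (LK LD1_c5 LD2_c31 LD3_c37))))))
theorem f224534 : Led Lsl_dt (LP (LK LD1_c1 LD2_c17 LD3_c38)) = (LP (LK LD1_c2 LD2_c42 LD3_c1)) :=
  Lre_d IH (LK LD1_c1 LD2_c17 LD3_c38) (LK LD1_c2 LD2_c42 LD3_c1) Lrfl Lrfl
theorem f388201 : Led Lsl_dt (LP (LK LD1_c16 LD2_c44 LD3_c49)) = (LP (LK LD1_c8 LD2_c56 LD3_c44)) :=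
  Lre_d IH (LK LD1_c16 LD2_c44 LD3_c49) (LK LD1_c8 LD2_c56 LD3_c44) Lrfl Lrfl
theorem f179766 : Led Lsl_ct (LP (LK LD1_c4 LD2_c29 LD3_c15)) = (LP (LK LD1_c8 LD2_c56 LD3_c44)) :=
  Lre_c IH (LK LD1_c4 LD2_c29 LD3_c15) (LK LD1_c8 LD2_c56 LD3_c44) Lrfl Lrfl
theorem f388230 : Led Lsl_dt (LP (LK LD1_c5 LD2_c31 LD3_c40)) = (LP (LK LD1_c4 LD2_c29 LD3_c15)) :=
  Lgr Lrot105 (Lpe (K14.f224535 IH) (Lpe (f224534 IH) (Lpe (K27.f221294 IH) (Lpe (K27.f221295 IH) (Lpe (f224494 IH) (Lpr_dt (f224533 IH) (Lpr_gt (f388228 IH) (Lpr_dt (f388201 IH) (Lpe (f179766 IH) (Lpn (LP (LK LD1_c4 LD2_c29 LD3_c15))))))))))))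
theorem f388238 : Led Lsl_df (LP (LK LD1_c5 LD2_c31 LD3_c40)) = (LP (LK LD1_c4 LD2_c29 LD3_c15)) :=
  Lgr Lrot38 (Lpr_dt (f388230 IH) (Lpn (LP (LK LD1_c4 LD2_c29 LD3_c15))))
theorem f226118 : Led Lsl_bt (LP (LK LD1_c5 LD2_c31 LD3_c40)) = (LP (LK LD1_c10 LD2_c55 LD3_c3)) :=
  Lre_b IH (LK LD1_c5 LD2_c31 LD3_c40) (LK LD1_c10 LD2_c55 LD3_c3) Lrfl Lrfl
theorem f388343 : Led Lsl_dt (LP (LK LD1_c10 LD2_c55 LD3_c3)) = (LP (LK LD1_c8 LD2_c56 LD3_c43)) :=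
  Lgr Lrot79 (Lpe (f226118 IH) (Lpr_df (f388238 IH) (Lpe (f179773 IH) (Lpn (LP (LK LD1_c8 LD2_c56 LD3_c43))))))
theorem f332429 : Led Lsl_ff (LP (LK LD1_c19 LD2_c20 LD3_c58)) = (LP (LK LD1_c17 LD2_c53 LD3_c30)) :=
  Lgr Lrot3 (Lpr_ft (K22.f332415 IH) (Lpn (LP (LK LD1_c17 LD2_c53 LD3_c30))))
theorem f332443 : Led Lsl_dt (LP (LK LD1_c9 LD2_c44 LD3_c14)) = (LP (LK LD1_c17 LD2_c53 LD3_c30)) :=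
  Lre_d IH (LK LD1_c9 LD2_c44 LD3_c14) (LK LD1_c17 LD2_c53 LD3_c30) Lrfl Lrfl
theorem f332444 : Led Lsl_ft (LP (LK LD1_c10 LD2_c41 LD3_c20)) = (LP (LK LD1_c9 LD2_c44 LD3_c14)) :=
  Lgr Lrot54 (Lpe (K22.f218370 IH) (Lpr_ff (f332429 IH) (Lpe (f332443 IH) (Lpn (LP (LK LD1_c9 LD2_c44 LD3_c14))))))
theorem f332446 : Led Lsl_at (LP (LK LD1_c9 LD2_c44 LD3_c14)) = (LP (LK LD1_c4 LD2_c56 LD3_c17)) :=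
  Lre_a IH (LK LD1_c9 LD2_c44 LD3_c14) (LK LD1_c4 LD2_c56 LD3_c17) Lrfl Lrfl
theorem f332447 : Led Lsl_ft (LP (LK LD1_c4 LD2_c56 LD3_c17)) = (LP (LK LD1_c9 LD2_c43 LD3_c60)) :=
  Lre_f IH (LK LD1_c4 LD2_c56 LD3_c17) (LK LD1_c9 LD2_c43 LD3_c60) Lrfl Lrfl
theorem f332448 : Led Lsl_af (LP (LK LD1_c10 LD2_c41 LD3_c20)) = (LP (LK LD1_c9 LD2_c43 LD3_c60)) :=
  Lgr Lrot45 (Lpr_ft (f332444 IH) (Lpr_at (f332446 IH) (Lpr_ft (f332447 IH) (Lpn (LP (LK LD1_c9 LD2_c43 LD3_c60))))))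
theorem f168812 : Led Lsl_gt (LP (LK LD1_c4 LD2_c56 LD3_c17)) = (LP (LK LD1_c9 LD2_c44 LD3_c13)) :=
  Lre_g IH (LK LD1_c4 LD2_c56 LD3_c17) (LK LD1_c9 LD2_c44 LD3_c13) Lrfl Lrfl
theorem f332476 : Led Lsl_gf (LP (LK LD1_c10 LD2_c41 LD3_c20)) = (LP (LK LD1_c9 LD2_c44 LD3_c13)) :=
  Lgr Lrot76 (Lpr_af (f332448 IH) (Lpe (f332447 IH) (Lpr_gt (f168812 IH) (Lpn (LP (LK LD1_c9 LD2_c44 LD3_c13))))))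
theorem f331911 : Led Lsl_af (LP (LK LD1_c8 LD2_c25 LD3_c49)) = (LP (LK LD1_c8 LD2_c28 LD3_c28)) :=
  Lgr Lrot0 (Lpr_at (K22.f331909 IH) (Lpn (LP (LK LD1_c8 LD2_c28 LD3_c28))))
theorem f331948 : Led Lsl_df (LP (LK LD1_c15 LD2_c22 LD3_c11)) = (LP (LK LD1_c8 LD2_c25 LD3_c49)) :=
  Lgr Lrot18 (Lpr_at (f331944 IH) (Lpe (K18.f286681 IH) (Lpe (f331911 IH) (Lpn (LP (LK LD1_c8 LD2_c25 LD3_c49))))))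
theorem f331962 : Led Lsl_df (LP (LK LD1_c8 LD2_c28 LD3_c29)) = (LP (LK LD1_c11 LD2_c8 LD3_c40)) :=
  Lgr Lrot78 (Lpe (K22.f331904 IH) (Lpe (f331948 IH) (Lpr_ft (f331956 IH) (Lpn (LP (LK LD1_c11 LD2_c8 LD3_c40))))))
theorem f331965 : Led Lsl_dt (LP (LK LD1_c15 LD2_c54 LD3_c47)) = (LP (LK LD1_c20 LD2_c2 LD3_c12)) :=
  Lgr Lrot79 (Lpe (f218278 IH) (Lpr_df (f331962 IH) (Lpe (f244659 IH) (Lpn (LP (LK LD1_c20 LD2_c2 LD3_c12))))))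
theorem f220953 : Led Lsl_gt (LP (LK LD1_c2 LD2_c42 LD3_c54)) = (LP (LK LD1_c5 LD2_c33 LD3_c35)) :=
  Lre_g IH (LK LD1_c2 LD2_c42 LD3_c54) (LK LD1_c5 LD2_c33 LD3_c35) Lrfl Lrfl
theorem f332481 : Led Lsl_ct (LP (LK LD1_c5 LD2_c33 LD3_c35)) = (LP (LK LD1_c9 LD2_c44 LD3_c13)) :=
  Lgr Lrot152 (Lpe (f220953 IH) (Lpe (K22.f238429 IH) (Lpr_gt (f238465 IH) (Lpr_ct (f238466 IH) (Lpr_gt (f238467 IH) (Lpe (f244667 IH) (Lpe (f331965 IH) (Lpr_cf (f218362 IH) (Lpr_gf (f332476 IH) (Lpn (LP (LK LD1_c9 LD2_c44 LD3_c13))))))))))))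
theorem f332484 : Led Lsl_cf (LP (LK LD1_c5 LD2_c33 LD3_c35)) = (LP (LK LD1_c9 LD2_c44 LD3_c13)) :=
  Lgr Lrot11 (Lpr_ct (f332481 IH) (Lpn (LP (LK LD1_c9 LD2_c44 LD3_c13))))
theorem f319156 : Led Lsl_cf (LP (LK LD1_c8 LD2_c56 LD3_c43)) = (LP (LK LD1_c8 LD2_c9 LD3_c46)) :=
  Lgr Lrot11 (Lpr_ct (f319148 IH) (Lpn (LP (LK LD1_c8 LD2_c9 LD3_c46))))
theorem f385093 : Led Lsl_df (LP (LK LD1_c8 LD2_c9 LD3_c46)) = (LP (LK LD1_c8 LD2_c27 LD3_c37)) :=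
  Lgr Lrot38 (Lpr_dt (f385088 IH) (Lpn (LP (LK LD1_c8 LD2_c27 LD3_c37))))
theorem f388352 : Led Lsl_gt (LP (LK LD1_c5 LD2_c33 LD3_c35)) = (LP (LK LD1_c8 LD2_c8 LD3_c56)) :=
  Lgr Lrot94 (Lpr_cf (f332484 IH) (Lpe (f332476 IH) (Lpr_dt (f218377 IH) (Lpe (K22.f226126 IH) (Lpr_dt (f388343 IH) (Lpr_cf (f319156 IH) (Lpr_df (f385093 IH) (Lpr_gf (K22.f332716 IH) (Lpe (f332678 IH) (Lpn (LP (LK LD1_c8 LD2_c8 LD3_c56))))))))))))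
theorem f220954 : Led Lsl_bt (LP (LK LD1_c10 LD2_c59 LD3_c5)) = (LP (LK LD1_c5 LD2_c33 LD3_c35)) :=
  Lre_b IH (LK LD1_c10 LD2_c59 LD3_c5) (LK LD1_c5 LD2_c33 LD3_c35) Lrfl Lrfl
theorem f200809 : Led Lsl_bt (LP (LK LD1_c4 LD2_c3 LD3_c55)) = (LP (LK LD1_c1 LD2_c58 LD3_c57)) :=
  Lre_b IH (LK LD1_c4 LD2_c3 LD3_c55) (LK LD1_c1 LD2_c58 LD3_c57) Lrfl Lrfl
theorem f200810 : Led Lsl_ct (LP (LK LD1_c4 LD2_c3 LD3_c55)) = (LP (LK LD1_c8 LD2_c8 LD3_c11)) :=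
  Lre_c IH (LK LD1_c4 LD2_c3 LD3_c55) (LK LD1_c8 LD2_c8 LD3_c11) Lrfl Lrfl
theorem f220860 : Led Lsl_gt (LP (LK LD1_c15 LD2_c19 LD3_c10)) = (LP (LK LD1_c8 LD2_c8 LD3_c11)) :=
  Lre_g IH (LK LD1_c15 LD2_c19 LD3_c10) (LK LD1_c8 LD2_c8 LD3_c11) Lrfl Lrfl
theorem f238335 : Led Lsl_ct (LP (LK LD1_c10 LD2_c59 LD3_c5)) = (LP (LK LD1_c15 LD2_c19 LD3_c10)) :=
  Lgr Lrot64 (Lpr_bt (f220954 IH) (Lpe (f220953 IH) (Lpe (K20.f220921 IH) (Lpr_ct (K15.f196929 IH) (Lpr_gf (K13.f238329 IH) (Lpe (K13.f196923 IH) (Lpr_gf (K11.f200798 IH) (Lpe (f200809 IH) (Lpr_ct (f200810 IH) (Lpe (f220860 IH) (Lpn (LP (LK LD1_c15 LD2_c19 LD3_c10)))))))))))))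
theorem f319789 : Led Lsl_dt (LP (LK LD1_c8 LD2_c58 LD3_c21)) = (LP (LK LD1_c4 LD2_c30 LD3_c6)) :=
  Lre_d IH (LK LD1_c8 LD2_c58 LD3_c21) (LK LD1_c4 LD2_c30 LD3_c6) Lrfl Lrfl
theorem f319813 : Led Lsl_ft (LP (LK LD1_c4 LD2_c30 LD3_c6)) = (LP (LK LD1_c2 LD2_c42 LD3_c53)) :=
  Lgr Lrot54 (Lpe (f319789 IH) (Lpr_ff (K22.f319803 IH) (Lpe (K22.f238481 IH) (Lpn (LP (LK LD1_c2 LD2_c42 LD3_c53))))))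
theorem f238462 : Led Lsl_at (LP (LK LD1_c2 LD2_c42 LD3_c53)) = (LP (LK LD1_c1 LD2_c17 LD3_c57)) :=
  Lre_a IH (LK LD1_c2 LD2_c42 LD3_c53) (LK LD1_c1 LD2_c17 LD3_c57) Lrfl Lrfl
theorem f319836 : Led Lsl_gt (LP (LK LD1_c4 LD2_c30 LD3_c6)) = (LP (LK LD1_c2 LD2_c42 LD3_c52)) :=
  Lgr Lrot5 (Lpr_ft (f319813 IH) (Lpr_at (f238462 IH) (Lpe (K27.f221041 IH) (Lpn (LP (LK LD1_c2 LD2_c42 LD3_c52))))))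
theorem f292959 : Led Lsl_gt (LP (LK LD1_c10 LD2_c58 LD3_c58)) = (LP (LK LD1_c8 LD2_c8 LD3_c42)) :=
  Lgr Lrot46 (Lpr_gf (K27.f238352 IH) (Lpr_ft (K17.f292937 IH) (Lpr_at (K17.f200988 IH) (Lpn (LP (LK LD1_c8 LD2_c8 LD3_c42))))))
theorem f223470 : Led Lsl_at (LP (LK LD1_c8 LD2_c54 LD3_c37)) = (LP (LK LD1_c4 LD2_c28 LD3_c15)) :=
  Lre_a IH (LK LD1_c8 LD2_c54 LD3_c37) (LK LD1_c4 LD2_c28 LD3_c15) Lrfl Lrfl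
theorem f223472 : Led Lsl_cf (LP (LK LD1_c8 LD2_c54 LD3_c37)) = (LP (LK LD1_c15 LD2_c9 LD3_c23)) :=
  Lgr Lrot1 (Lpr_at (f223470 IH) (Lpr_ct (K17.f223453 IH) (Lpr_at (K17.f223471 IH) (Lpn (LP (LK LD1_c15 LD2_c9 LD3_c23))))))
theorem f388368 : Led Lsl_gf (LP (LK LD1_c15 LD2_c19 LD3_c10)) = (LP (LK LD1_c8 LD2_c54 LD3_c37)) :=
  Lgr Lrot126 (Lpe (f238335 IH) (Lpr_bt (f220954 IH) (Lpr_gt (f388352 IH) (Lpr_ct (f319638 IH) (Lpr_gt (f319836 IH) (Lpe (K27.f221042 IH) (Lpr_bt (K27.f221043 IH) (Lpr_gt (f292959 IH) (Lpe (K17.f293022 IH) (Lpe (f223472 IH) (Lpn (LP (LK LD1_c8 LD2_c54 LD3_c37)))))))))))))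
theorem f290483 : Led Lsl_bt (LP (LK LD1_c8 LD2_c55 LD3_c8)) = (LP (LK LD1_c16 LD2_c41 LD3_c19)) :=
  Lre_b IH (LK LD1_c8 LD2_c55 LD3_c8) (LK LD1_c16 LD2_c41 LD3_c19) Lrfl Lrfl
theorem f276485 : Led Lsl_bt (LP (LK LD1_c8 LD2_c55 LD3_c7)) = (LP (LK LD1_c4 LD2_c28 LD3_c30)) :=
  Lre_b IH (LK LD1_c8 LD2_c55 LD3_c7) (LK LD1_c4 LD2_c28 LD3_c30) Lrfl Lrfl
theorem f380806 : Led Lsl_bf (LP (LK LD1_c16 LD2_c41 LD3_c15)) = (LP (LK LD1_c10 LD2_c57 LD3_c36)) :=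
  Lgr Lrot90 (Lpr_ct (K20.f275523 IH) (Lpr_bt (f276485 IH) (Lpr_ct (K27.f223494 IH) (Lpr_bt (f290483 IH) (Lpr_ct (K27.f380797 IH) (Lpn (LP (LK LD1_c10 LD2_c57 LD3_c36))))))))
theorem f290456 : Led Lsl_ft (LP (LK LD1_c16 LD2_c41 LD3_c15)) = (LP (LK LD1_c9 LD2_c51 LD3_c47)) :=
  Lgr Lrot48 (Lpr_ff (K20.f290448 IH) (Lpn (LP (LK LD1_c9 LD2_c51 LD3_c47))))
theorem f380827 : Led Lsl_bf (LP (LK LD1_c16 LD2_c47 LD3_c39)) = (LP (LK LD1_c9 LD2_c51 LD3_c47)) :=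
  Lgr Lrot61 (Lpr_ft (K27.f380825 IH) (Lpe (f380806 IH) (Lpr_ft (f290456 IH) (Lpn (LP (LK LD1_c9 LD2_c51 LD3_c47))))))
theorem f225216 : Led Lsl_ct (LP (LK LD1_c8 LD2_c58 LD3_c36)) = (LP (LK LD1_c4 LD2_c30 LD3_c12)) :=
  Lre_c IH (LK LD1_c8 LD2_c58 LD3_c36) (LK LD1_c4 LD2_c30 LD3_c12) Lrfl Lrfl
theorem f319918 : Led Lsl_ct (LP (LK LD1_c5 LD2_c32 LD3_c61)) = (LP (LK LD1_c2 LD2_c42 LD3_c42)) :=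
  Lre_c IH (LK LD1_c5 LD2_c32 LD3_c61) (LK LD1_c2 LD2_c42 LD3_c42) Lrfl Lrfl
theorem f290441 : Led Lsl_cf (LP (LK LD1_c16 LD2_c41 LD3_c17)) = (LP (LK LD1_c9 LD2_c51 LD3_c47)) :=
  Lgr Lrot11 (Lpr_ct (K20.f290433 IH) (Lpn (LP (LK LD1_c9 LD2_c51 LD3_c47))))
theorem f290453 : Led Lsl_ct (LP (LK LD1_c25 LD2_c12 LD3_c0)) = (LP (LK LD1_c25 LD2_c10 LD3_c24)) :=
  Lre_c IH (LK LD1_c25 LD2_c12 LD3_c0) (LK LD1_c25 LD2_c10 LD3_c24) Lrfl Lrfl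
theorem f290454 : Led Lsl_bt (LP (LK LD1_c25 LD2_c12 LD3_c0)) = (LP (LK LD1_c15 LD2_c20 LD3_c48)) :=
  Lre_b IH (LK LD1_c25 LD2_c12 LD3_c0) (LK LD1_c15 LD2_c20 LD3_c48) Lrfl Lrfl
theorem f387548 : Led Lsl_gt (LP (LK LD1_c10 LD2_c57 LD3_c48)) = (LP (LK LD1_c15 LD2_c20 LD3_c48)) :=
  Lgr Lrot164 (Lpe (f213543 IH) (Lpr_ct (f319918 IH) (Lpe (K24.f379801 IH) (Lpe (f225216 IH) (Lpe (K27.f225234 IH) (Lpr_bf (f380827 IH) (Lpe (f290441 IH) (Lpr_gf (K20.f290450 IH) (Lpe (f290453 IH) (Lpr_bt (f290454 IH) (Lpn (LP (LK LD1_c15 LD2_c20 LD3_c48)))))))))))))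
theorem f290538 : Led Lsl_bt (LP (LK LD1_c15 LD2_c19 LD3_c21)) = (LP (LK LD1_c8 LD2_c8 LD3_c16)) :=
  Lre_b IH (LK LD1_c15 LD2_c19 LD3_c21) (LK LD1_c8 LD2_c8 LD3_c16) Lrfl Lrfl
theorem f388370 : Led Lsl_gf (LP (LK LD1_c15 LD2_c9 LD3_c23)) = (LP (LK LD1_c8 LD2_c8 LD3_c16)) :=
  Lgr Lrot181 (Lpe (f223472 IH) (Lpe (f388368 IH) (Lpe (f238335 IH) (Lpr_bt (f220954 IH) (Lpr_gt (f388352 IH) (Lpr_bf (f387888 IH) (Lpe (f387912 IH) (Lpr_gt (f387548 IH) (Lpe (f213411 IH) (Lpr_bt (f290538 IH) (Lpn (LP (LK LD1_c8 LD2_c8 LD3_c16)))))))))))))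
theorem f238346 : Led Lsl_cf (LP (LK LD1_c10 LD2_c59 LD3_c5)) = (LP (LK LD1_c15 LD2_c19 LD3_c10)) :=
  Lgr Lrot11 (Lpr_ct (f238335 IH) (Lpn (LP (LK LD1_c15 LD2_c19 LD3_c10))))
theorem f201054 : Led Lsl_cf (LP (LK LD1_c15 LD2_c53 LD3_c44)) = (LP (LK LD1_c15 LD2_c19 LD3_c58)) :=
  Lgr Lrot11 (Lpr_ct (f201050 IH) (Lpn (LP (LK LD1_c15 LD2_c19 LD3_c58))))
theorem f388376 : Led Lsl_df (LP (LK LD1_c10 LD2_c59 LD3_c5)) = (LP (LK LD1_c15 LD2_c53 LD3_c44)) :=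
  Lgr Lrot162 (Lpr_cf (f238346 IH) (Lpr_gf (f388368 IH) (Lpr_cf (f223472 IH) (Lpr_gf (f388370 IH) (Lpr_dt (K20.f290532 IH) (Lpe (f292939 IH) (Lpe (K17.f219040 IH) (Lpr_gt (f292980 IH) (Lpe (f201054 IH) (Lpn (LP (LK LD1_c15 LD2_c53 LD3_c44))))))))))))
theorem f201052 : Led Lsl_bt (LP (LK LD1_c8 LD2_c27 LD3_c57)) = (LP (LK LD1_c15 LD2_c53 LD3_c44)) :=
  Lre_b IH (LK LD1_c8 LD2_c27 LD3_c57) (LK LD1_c15 LD2_c53 LD3_c44) Lrfl Lrfl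
theorem f388414 : Led Lsl_dt (LP (LK LD1_c5 LD2_c33 LD3_c35)) = (LP (LK LD1_c8 LD2_c27 LD3_c57)) :=
  Lgr Lrot79 (Lpe (f220954 IH) (Lpr_df (f388376 IH) (Lpe (f201052 IH) (Lpn (LP (LK LD1_c8 LD2_c27 LD3_c57))))))
theorem f238325 : Led Lsl_dt (LP (LK LD1_c2 LD2_c42 LD3_c51)) = (LP (LK LD1_c5 LD2_c33 LD3_c27)) :=
  Lre_d IH (LK LD1_c2 LD2_c42 LD3_c51) (LK LD1_c5 LD2_c33 LD3_c27) Lrfl Lrfl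
theorem f314891 : Led Lsl_df (LP (LK LD1_c8 LD2_c9 LD3_c47)) = (LP (LK LD1_c8 LD2_c9 LD3_c0)) :=
  Lgr Lrot18 (Lpr_at (f314862 IH) (Lpr_dt (K19.f314881 IH) (Lpr_at (f314890 IH) (Lpn (LP (LK LD1_c8 LD2_c9 LD3_c0))))))
theorem f388419 : Led Lsl_gt (LP (LK LD1_c5 LD2_c33 LD3_c27)) = (LP (LK LD1_c8 LD2_c59 LD3_c33)) :=
  Lgr Lrot49 (Lpe (f238325 IH) (Lpe (K22.f220925 IH) (Lpe (K22.f220924 IH) (Lpr_gt (f220953 IH) (Lpr_dt (f388414 IH) (Lpe (f387835 IH) (Lpe (f314891 IH) (Lpe (f354512 IH) (Lpr_df (f354501 IH) (Lpn (LP (LK LD1_c8 LD2_c59 LD3_c33))))))))))))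
theorem f388421 : Led Lsl_gf (LP (LK LD1_c5 LD2_c33 LD3_c27)) = (LP (LK LD1_c2 LD2_c43 LD3_c15)) :=
  Lgr Lrot47 (Lpr_gt (f388419 IH) (Lpe (f319305 IH) (Lpr_ff (K20.f319303 IH) (Lpn (LP (LK LD1_c2 LD2_c43 LD3_c15))))))
theorem f220938 : Led Lsl_dt (LP (LK LD1_c5 LD2_c33 LD3_c27)) = (LP (LK LD1_c2 LD2_c42 LD3_c51)) :=
  Lre_d IH (LK LD1_c5 LD2_c33 LD3_c27) (LK LD1_c2 LD2_c42 LD3_c51) Lrfl Lrfl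
theorem f332536 : Led Lsl_dt (LP (LK LD1_c10 LD2_c58 LD3_c50)) = (LP (LK LD1_c5 LD2_c33 LD3_c26)) :=
  Lre_d IH (LK LD1_c10 LD2_c58 LD3_c50) (LK LD1_c5 LD2_c33 LD3_c26) Lrfl Lrfl
theorem f388923 : Led Lsl_gt (LP (LK LD1_c15 LD2_c54 LD3_c15)) = (LP (LK LD1_c10 LD2_c58 LD3_c50)) :=
  Lgr Lrot49 (Lpr_df (f388917 IH) (Lpr_gf (f385100 IH) (Lpe (K22.f179471 IH) (Lpr_gt (K20.f178122 IH) (Lpe (f179457 IH) (Lpe (f388421 IH) (Lpr_dt (f220938 IH) (Lpe (f220926 IH) (Lpe (f332536 IH) (Lpn (LP (LK LD1_c10 LD2_c58 LD3_c50))))))))))))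
theorem f388602 : Led Lsl_ft (LP (LK LD1_c15 LD2_c54 LD3_c15)) = (LP (LK LD1_c8 LD2_c28 LD3_c23)) :=
  Lre_f IH (LK LD1_c15 LD2_c54 LD3_c15) (LK LD1_c8 LD2_c28 LD3_c23) Lrfl Lrfl
theorem f388601 : Led Lsl_at (LP (LK LD1_c8 LD2_c28 LD3_c23)) = (LP (LK LD1_c15 LD2_c54 LD3_c32)) :=
  Lre_a IH (LK LD1_c8 LD2_c28 LD3_c23) (LK LD1_c15 LD2_c54 LD3_c32) Lrfl Lrfl
theorem f388925 : Led Lsl_gf (LP (LK LD1_c15 LD2_c54 LD3_c32)) = (LP (LK LD1_c10 LD2_c58 LD3_c50)) :=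
  Lgr Lrot76 (Lpe (f388601 IH) (Lpe (f388602 IH) (Lpr_gt (f388923 IH) (Lpn (LP (LK LD1_c10 LD2_c58 LD3_c50))))))
theorem f52744 : Led Lsl_gt (LP (LK LD1_c8 LD2_c28 LD3_c16)) = (LP (LK LD1_c4 LD2_c14 LD3_c47)) :=
  Lre_g IH (LK LD1_c8 LD2_c28 LD3_c16) (LK LD1_c4 LD2_c14 LD3_c47) Lrfl Lrfl
theorem f52743 : Led Lsl_ct (LP (LK LD1_c8 LD2_c28 LD3_c28)) = (LP (LK LD1_c15 LD2_c54 LD3_c45)) :=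
  Lre_c IH (LK LD1_c8 LD2_c28 LD3_c28) (LK LD1_c15 LD2_c54 LD3_c45) Lrfl Lrfl
theorem f217721 : Led Lsl_bt (LP (LK LD1_c10 LD2_c36 LD3_c38)) = (LP (LK LD1_c5 LD2_c23 LD3_c4)) :=
  Lre_b IH (LK LD1_c10 LD2_c36 LD3_c38) (LK LD1_c5 LD2_c23 LD3_c4) Lrfl Lrfl
theorem f217762 : Led Lsl_ct (LP (LK LD1_c10 LD2_c36 LD3_c38)) = (LP (LK LD1_c19 LD2_c13 LD3_c7)) :=
  Lre_c IH (LK LD1_c10 LD2_c36 LD3_c38) (LK LD1_c19 LD2_c13 LD3_c7) Lrfl Lrfl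
theorem f217687 : Led Lsl_bt (LP (LK LD1_c1 LD2_c16 LD3_c23)) = (LP (LK LD1_c2 LD2_c39 LD3_c8)) :=
  Lre_b IH (LK LD1_c1 LD2_c16 LD3_c23) (LK LD1_c2 LD2_c39 LD3_c8) Lrfl Lrfl
theorem f218403 : Led Lsl_gt (LP (LK LD1_c2 LD2_c39 LD3_c8)) = (LP (LK LD1_c5 LD2_c25 LD3_c23)) :=
  Lre_g IH (LK LD1_c2 LD2_c39 LD3_c8) (LK LD1_c5 LD2_c25 LD3_c23) Lrfl Lrfl
theorem f218404 : Led Lsl_bt (LP (LK LD1_c10 LD2_c41 LD3_c47)) = (LP (LK LD1_c5 LD2_c25 LD3_c23)) :=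
  Lre_b IH (LK LD1_c10 LD2_c41 LD3_c47) (LK LD1_c5 LD2_c25 LD3_c23) Lrfl Lrfl
theorem f218405 : Led Lsl_ct (LP (LK LD1_c10 LD2_c41 LD3_c47)) = (LP (LK LD1_c19 LD2_c21 LD3_c37)) :=
  Lre_c IH (LK LD1_c10 LD2_c41 LD3_c47) (LK LD1_c19 LD2_c21 LD3_c37) Lrfl Lrfl
theorem f218406 : Led Lsl_gf (LP (LK LD1_c19 LD2_c13 LD3_c7)) = (LP (LK LD1_c19 LD2_c21 LD3_c37)) :=
  Lgr Lrot126 (Lpe (f217762 IH) (Lpr_bt (f217721 IH) (Lpe (K13.f217745 IH) (Lpr_ct (K13.f218232 IH) (Lpr_gt (K13.f41242 IH) (Lpe (K18.f217343 IH) (Lpr_bt (f217687 IH) (Lpr_gt (f218403 IH) (Lpe (f218404 IH) (Lpr_ct (f218405 IH) (Lpn (LP (LK LD1_c19 LD2_c21 LD3_c37)))))))))))))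
theorem f217722 : Led Lsl_ct (LP (LK LD1_c19 LD2_c13 LD3_c7)) = (LP (LK LD1_c10 LD2_c36 LD3_c38)) :=
  Lre_c IH (LK LD1_c19 LD2_c13 LD3_c7) (LK LD1_c10 LD2_c36 LD3_c38) Lrfl Lrfl
theorem f217732 : Led Lsl_bt (LP (LK LD1_c5 LD2_c23 LD3_c4)) = (LP (LK LD1_c10 LD2_c36 LD3_c38)) :=
  Lre_b IH (LK LD1_c5 LD2_c23 LD3_c4) (LK LD1_c10 LD2_c36 LD3_c38) Lrfl Lrfl
theorem f217733 : Led Lsl_df (LP (LK LD1_c5 LD2_c24 LD3_c7)) = (LP (LK LD1_c10 LD2_c36 LD3_c38)) :=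
  Lgr Lrot12 (Lpr_bt (K10.f196872 IH) (Lpr_dt (K12.f217725 IH) (Lpr_bt (f217732 IH) (Lpn (LP (LK LD1_c10 LD2_c36 LD3_c38))))))
theorem f218243 : Led Lsl_gt (LP (LK LD1_c10 LD2_c41 LD3_c14)) = (LP (LK LD1_c5 LD2_c25 LD3_c13)) :=
  Lre_g IH (LK LD1_c10 LD2_c41 LD3_c14) (LK LD1_c5 LD2_c25 LD3_c13) Lrfl Lrfl
theorem f218297 : Led Lsl_dt (LP (LK LD1_c10 LD2_c41 LD3_c14)) = (LP (LK LD1_c19 LD2_c20 LD3_c47)) :=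
  Lre_d IH (LK LD1_c10 LD2_c41 LD3_c14) (LK LD1_c19 LD2_c20 LD3_c47) Lrfl Lrfl
theorem f218458 : Led Lsl_gt (LP (LK LD1_c19 LD2_c20 LD3_c47)) = (LP (LK LD1_c10 LD2_c41 LD3_c47)) :=
  Lgr Lrot9 (Lpe (f218297 IH) (Lpr_gt (f218243 IH) (Lpe (K12.f218241 IH) (Lpr_gt (K12.f52869 IH) (Lpr_ct (K10.f196895 IH) (Lpr_df (f217733 IH) (Lpe (f217722 IH) (Lpr_gf (f218406 IH) (Lpe (f218405 IH) (Lpn (LP (LK LD1_c10 LD2_c41 LD3_c47))))))))))))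
theorem f387970 : Led Lsl_gt (LP (LK LD1_c15 LD2_c54 LD3_c45)) = (LP (LK LD1_c10 LD2_c41 LD3_c14)) :=
  Lgr Lrot94 (Lpe (f52743 IH) (Lpe (K18.f52705 IH) (Lpr_dt (K10.f52724 IH) (Lpr_gt (f52744 IH) (Lpr_dt (f52745 IH) (Lpe (f52746 IH) (Lpr_df (f387959 IH) (Lpe (f218458 IH) (Lpe (f218297 IH) (Lpn (LP (LK LD1_c10 LD2_c41 LD3_c14))))))))))))
theorem f235263 : Led Lsl_gt (LP (LK LD1_c8 LD2_c27 LD3_c58)) = (LP (LK LD1_c4 LD2_c14 LD3_c36)) :=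
  Lre_g IH (LK LD1_c8 LD2_c27 LD3_c58) (LK LD1_c4 LD2_c14 LD3_c36) Lrfl Lrfl
theorem f387975 : Led Lsl_bt (LP (LK LD1_c15 LD2_c53 LD3_c47)) = (LP (LK LD1_c8 LD2_c27 LD3_c58)) :=
  Lre_b IH (LK LD1_c15 LD2_c53 LD3_c47) (LK LD1_c8 LD2_c27 LD3_c58) Lrfl Lrfl
theorem f387976 : Led Lsl_ct (LP (LK LD1_c15 LD2_c53 LD3_c47)) = (LP (LK LD1_c10 LD2_c41 LD3_c14)) :=
  Lgr Lrot63 (Lpr_bt (f387975 IH) (Lpr_gt (f235263 IH) (Lpe (K19.f201047 IH) (Lpr_ct (K15.f197268 IH) (Lpr_gt (K12.f216415 IH) (Lpe (K13.f196923 IH) (Lpr_bt (K10.f52650 IH) (Lpr_gt (K18.f52704 IH) (Lpr_ct (f52743 IH) (Lpr_gt (f387970 IH) (Lpn (LP (LK LD1_c10 LD2_c41 LD3_c14)))))))))))))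
theorem f387979 : Led Lsl_cf (LP (LK LD1_c15 LD2_c53 LD3_c47)) = (LP (LK LD1_c10 LD2_c41 LD3_c14)) :=
  Lgr Lrot11 (Lpr_ct (f387976 IH) (Lpn (LP (LK LD1_c10 LD2_c41 LD3_c14))))
theorem f218322 : Led Lsl_ct (LP (LK LD1_c10 LD2_c54 LD3_c50)) = (LP (LK LD1_c10 LD2_c59 LD3_c6)) :=
  Lre_c IH (LK LD1_c10 LD2_c54 LD3_c50) (LK LD1_c10 LD2_c59 LD3_c6) Lrfl Lrfl
theorem f387988 : Led Lsl_df (LP (LK LD1_c15 LD2_c53 LD3_c47)) = (LP (LK LD1_c10 LD2_c59 LD3_c6)) :=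
  Lgr Lrot162 (Lpr_cf (f387979 IH) (Lpe (f387970 IH) (Lpe (f52743 IH) (Lpe (K18.f52704 IH) (Lpr_dt (K10.f52707 IH) (Lpr_gt (K20.f196942 IH) (Lpr_ct (K20.f52833 IH) (Lpr_gt (K20.f220896 IH) (Lpr_ct (f218322 IH) (Lpn (LP (LK LD1_c10 LD2_c59 LD3_c6))))))))))))
theorem f218380 : Led Lsl_bt (LP (LK LD1_c5 LD2_c33 LD3_c36)) = (LP (LK LD1_c10 LD2_c59 LD3_c6)) :=
  Lre_b IH (LK LD1_c5 LD2_c33 LD3_c36) (LK LD1_c10 LD2_c59 LD3_c6) Lrfl Lrfl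
theorem f387991 : Led Lsl_dt (LP (LK LD1_c8 LD2_c27 LD3_c58)) = (LP (LK LD1_c5 LD2_c33 LD3_c36)) :=
  Lgr Lrot79 (Lpe (f387975 IH) (Lpr_df (f387988 IH) (Lpe (f218380 IH) (Lpn (LP (LK LD1_c5 LD2_c33 LD3_c36))))))
theorem f216389 : Led Lsl_ct (LP (LK LD1_c4 LD2_c14 LD3_c36)) = (LP (LK LD1_c8 LD2_c27 LD3_c51)) :=
  Lre_c IH (LK LD1_c4 LD2_c14 LD3_c36) (LK LD1_c8 LD2_c27 LD3_c51) Lrfl Lrfl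
theorem f235369 : Led Lsl_gt (LP (LK LD1_c8 LD2_c27 LD3_c51)) = (LP (LK LD1_c15 LD2_c53 LD3_c31)) :=
  Lre_g IH (LK LD1_c8 LD2_c27 LD3_c51) (LK LD1_c15 LD2_c53 LD3_c31) Lrfl Lrfl
theorem f332535 : Led Lsl_dt (LP (LK LD1_c5 LD2_c33 LD3_c26)) = (LP (LK LD1_c10 LD2_c58 LD3_c50)) :=
  Lre_d IH (LK LD1_c5 LD2_c33 LD3_c26) (LK LD1_c10 LD2_c58 LD3_c50) Lrfl Lrfl
theorem f387999 : Led Lsl_ct (LP (LK LD1_c15 LD2_c53 LD3_c31)) = (LP (LK LD1_c10 LD2_c58 LD3_c50)) :=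
  Lgr Lrot151 (Lpe (f235369 IH) (Lpe (f216389 IH) (Lpe (f235263 IH) (Lpr_dt (f387991 IH) (Lpr_gt (K20.f220920 IH) (Lpr_ct (K22.f220924 IH) (Lpr_gt (K22.f220925 IH) (Lpr_ct (K22.f220937 IH) (Lpr_dt (f332535 IH) (Lpn (LP (LK LD1_c10 LD2_c58 LD3_c50))))))))))))
theorem f235303 : Led Lsl_bt (LP (LK LD1_c4 LD2_c14 LD3_c34)) = (LP (LK LD1_c8 LD2_c27 LD3_c51)) :=
  Lre_b IH (LK LD1_c4 LD2_c14 LD3_c34) (LK LD1_c8 LD2_c27 LD3_c51) Lrfl Lrfl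
theorem f54225 : Led Lsl_gt (LP (LK LD1_c9 LD2_c51 LD3_c36)) = (LP (LK LD1_c5 LD2_c0 LD3_c39)) :=
  Lre_g IH (LK LD1_c9 LD2_c51 LD3_c36) (LK LD1_c5 LD2_c0 LD3_c39) Lrfl Lrfl
theorem f213432 : Led Lsl_bt (LP (LK LD1_c18 LD2_c2 LD3_c55)) = (LP (LK LD1_c9 LD2_c51 LD3_c36)) :=
  Lre_b IH (LK LD1_c18 LD2_c2 LD3_c55) (LK LD1_c9 LD2_c51 LD3_c36) Lrfl Lrfl
theorem f388928 : Led Lsl_cf (LP (LK LD1_c15 LD2_c54 LD3_c32)) = (LP (LK LD1_c18 LD2_c2 LD3_c55)) :=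
  Lgr Lrot163 (Lpr_gf (f388925 IH) (Lpe (f387999 IH) (Lpe (f235369 IH) (Lpe (f235303 IH) (Lpr_ct (K13.f218270 IH) (Lpe (K13.f235321 IH) (Lpe (K13.f53667 IH) (Lpr_bt (K16.f53719 IH) (Lpe (f54225 IH) (Lpe (f213432 IH) (Lpn (LP (LK LD1_c18 LD2_c2 LD3_c55)))))))))))))
theorem f388525 : Led Lsl_at (LP (LK LD1_c15 LD2_c54 LD3_c32)) = (LP (LK LD1_c8 LD2_c28 LD3_c23)) :=
  Lre_a IH (LK LD1_c15 LD2_c54 LD3_c32) (LK LD1_c8 LD2_c28 LD3_c23) Lrfl Lrfl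
theorem f388526 : Led Lsl_ff (LP (LK LD1_c15 LD2_c54 LD3_c32)) = (LP (LK LD1_c25 LD2_c5 LD3_c8)) :=
  Lgr Lrot30 (Lpr_at (f388525 IH) (Lpr_ft (f388149 IH) (Lpr_at (f388511 IH) (Lpn (LP (LK LD1_c25 LD2_c5 LD3_c8))))))
theorem f388529 : Led Lsl_ft (LP (LK LD1_c15 LD2_c54 LD3_c32)) = (LP (LK LD1_c25 LD2_c5 LD3_c8)) :=
  Lgr Lrot48 (Lpr_ff (f388526 IH) (Lpn (LP (LK LD1_c25 LD2_c5 LD3_c8))))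
theorem f213394 : Led Lsl_ct (LP (LK LD1_c11 LD2_c2 LD3_c36)) = (LP (LK LD1_c15 LD2_c15 LD3_c40)) :=
  Lgr Lrot59 (Lpr_cf (K16.f213387 IH) (Lpn (LP (LK LD1_c15 LD2_c15 LD3_c40))))
theorem f52499 : Led Lsl_bt (LP (LK LD1_c15 LD2_c15 LD3_c41)) = (LP (LK LD1_c25 LD2_c5 LD3_c8)) :=
  Lre_b IH (LK LD1_c15 LD2_c15 LD3_c41) (LK LD1_c25 LD2_c5 LD3_c8) Lrfl Lrfl
theorem f213407 : Led Lsl_cf (LP (LK LD1_c19 LD2_c53 LD3_c57)) = (LP (LK LD1_c25 LD2_c5 LD3_c8)) :=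
  Lgr Lrot97 (Lpr_bt (f213128 IH) (Lpr_ct (f213394 IH) (Lpr_bt (K16.f196401 IH) (Lpr_ct (f196396 IH) (Lpr_bt (f52499 IH) (Lpn (LP (LK LD1_c25 LD2_c5 LD3_c8))))))))
theorem f388937 : Led Lsl_ft (LP (LK LD1_c19 LD2_c53 LD3_c57)) = (LP (LK LD1_c18 LD2_c2 LD3_c55)) :=
  Lgr Lrot4 (Lpr_cf (f213407 IH) (Lpe (f388529 IH) (Lpr_cf (f388928 IH) (Lpn (LP (LK LD1_c18 LD2_c2 LD3_c55))))))
theorem f388941 : Led Lsl_ff (LP (LK LD1_c19 LD2_c53 LD3_c57)) = (LP (LK LD1_c18 LD2_c2 LD3_c55)) :=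
  Lgr Lrot3 (Lpr_ft (f388937 IH) (Lpn (LP (LK LD1_c18 LD2_c2 LD3_c55))))
theorem f235086 : Led Lsl_bt (LP (LK LD1_c9 LD2_c51 LD3_c36)) = (LP (LK LD1_c18 LD2_c2 LD3_c55)) :=
  Lre_b IH (LK LD1_c9 LD2_c51 LD3_c36) (LK LD1_c18 LD2_c2 LD3_c55) Lrfl Lrfl
theorem f388945 : Led Lsl_ft (LP (LK LD1_c11 LD2_c2 LD3_c36)) = (LP (LK LD1_c9 LD2_c51 LD3_c36)) :=
  Lgr Lrot75 (Lpe (f213128 IH) (Lpr_ff (f388941 IH) (Lpe (f235086 IH) (Lpn (LP (LK LD1_c9 LD2_c51 LD3_c36))))))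
theorem f211967 : Led Lsl_gt (LP (LK LD1_c5 LD2_c35 LD3_c14)) = (LP (LK LD1_c11 LD2_c2 LD3_c35)) :=
  Lre_g IH (LK LD1_c5 LD2_c35 LD3_c14) (LK LD1_c11 LD2_c2 LD3_c35) Lrfl Lrfl
theorem f388950 : Led Lsl_af (LP (LK LD1_c11 LD2_c2 LD3_c35)) = (LP (LK LD1_c9 LD2_c51 LD3_c36)) :=
  Lgr Lrot31 (Lpe (f211967 IH) (Lpe (K16.f213120 IH) (Lpr_ft (f388945 IH) (Lpn (LP (LK LD1_c9 LD2_c51 LD3_c36))))))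
theorem f213570 : Led Lsl_et (LP (LK LD1_c11 LD2_c2 LD3_c35)) = (LP (LK LD1_c19 LD2_c53 LD3_c56)) :=
  Lre_e IH (LK LD1_c11 LD2_c2 LD3_c35) (LK LD1_c19 LD2_c53 LD3_c56) Lrfl Lrfl
theorem f54226 : Led Lsl_et (LP (LK LD1_c18 LD2_c2 LD3_c57)) = (LP (LK LD1_c9 LD2_c51 LD3_c36)) :=
  Lre_e IH (LK LD1_c18 LD2_c2 LD3_c57) (LK LD1_c9 LD2_c51 LD3_c36) Lrfl Lrfl
theorem f388958 : Led Lsl_at (LP (LK LD1_c19 LD2_c53 LD3_c56)) = (LP (LK LD1_c18 LD2_c2 LD3_c57)) :=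
  Lgr Lrot80 (Lpe (f213570 IH) (Lpr_af (f388950 IH) (Lpe (f54226 IH) (Lpn (LP (LK LD1_c18 LD2_c2 LD3_c57))))))
theorem f213406 : Led Lsl_bt (LP (LK LD1_c10 LD2_c57 LD3_c59)) = (LP (LK LD1_c5 LD2_c33 LD3_c3)) :=
  Lre_b IH (LK LD1_c10 LD2_c57 LD3_c59) (LK LD1_c5 LD2_c33 LD3_c3) Lrfl Lrfl
theorem f213403 : Led Lsl_ct (LP (LK LD1_c10 LD2_c57 LD3_c59)) = (LP (LK LD1_c10 LD2_c56 LD3_c57)) :=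
  Lre_c IH (LK LD1_c10 LD2_c57 LD3_c59) (LK LD1_c10 LD2_c56 LD3_c57) Lrfl Lrfl
theorem f213400 : Led Lsl_gt (LP (LK LD1_c19 LD2_c46 LD3_c39)) = (LP (LK LD1_c10 LD2_c56 LD3_c57)) :=
  Lre_g IH (LK LD1_c19 LD2_c46 LD3_c39) (LK LD1_c10 LD2_c56 LD3_c57) Lrfl Lrfl
theorem f213557 : Led Lsl_cf (LP (LK LD1_c19 LD2_c46 LD3_c39)) = (LP (LK LD1_c11 LD2_c2 LD3_c35)) :=
  Lgr Lrot125 (Lpr_gt (f213400 IH) (Lpe (f213403 IH) (Lpr_bt (f213406 IH) (Lpr_gt (K24.f174184 IH) (Lpr_bf (K20.f213482 IH) (Lpr_ct (K16.f171306 IH) (Lpe (K13.f213025 IH) (Lpe (K12.f199516 IH) (Lpr_bt (f211966 IH) (Lpr_gt (f211967 IH) (Lpn (LP (LK LD1_c11 LD2_c2 LD3_c35)))))))))))))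
theorem f213561 : Led Lsl_et (LP (LK LD1_c19 LD2_c46 LD3_c39)) = (LP (LK LD1_c29 LD2_c5 LD3_c37)) :=
  Lre_e IH (LK LD1_c19 LD2_c46 LD3_c39) (LK LD1_c29 LD2_c5 LD3_c37) Lrfl Lrfl
theorem f213474 : Led Lsl_et (LP (LK LD1_c19 LD2_c53 LD3_c56)) = (LP (LK LD1_c11 LD2_c2 LD3_c35)) :=
  Lre_e IH (LK LD1_c19 LD2_c53 LD3_c56) (LK LD1_c11 LD2_c2 LD3_c35) Lrfl Lrfl
theorem f213562 : Led Lsl_ct (LP (LK LD1_c29 LD2_c5 LD3_c37)) = (LP (LK LD1_c19 LD2_c53 LD3_c56)) :=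
  Lgr Lrot15 (Lpe (f213561 IH) (Lpr_cf (f213557 IH) (Lpe (f213474 IH) (Lpn (LP (LK LD1_c19 LD2_c53 LD3_c56))))))
theorem f388962 : Led Lsl_ct (LP (LK LD1_c18 LD2_c2 LD3_c57)) = (LP (LK LD1_c27 LD2_c44 LD3_c36)) :=
  Lre_c IH (LK LD1_c18 LD2_c2 LD3_c57) (LK LD1_c27 LD2_c44 LD3_c36) Lrfl Lrfl
theorem f388963 : Led Lsl_af (LP (LK LD1_c29 LD2_c5 LD3_c37)) = (LP (LK LD1_c27 LD2_c44 LD3_c36)) :=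
  Lgr Lrot68 (Lpr_ct (f213562 IH) (Lpr_at (f388958 IH) (Lpr_ct (f388962 IH) (Lpn (LP (LK LD1_c27 LD2_c44 LD3_c36))))))
theorem f388967 : Led Lsl_at (LP (LK LD1_c29 LD2_c5 LD3_c37)) = (LP (LK LD1_c27 LD2_c44 LD3_c36)) :=
  Lgr Lrot100 (Lpr_af (f388963 IH) (Lpn (LP (LK LD1_c27 LD2_c44 LD3_c36))))
theorem f235087 : Led Lsl_et (LP (LK LD1_c27 LD2_c44 LD3_c36)) = (LP (LK LD1_c18 LD2_c2 LD3_c56)) :=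
  Lre_e IH (LK LD1_c27 LD2_c44 LD3_c36) (LK LD1_c18 LD2_c2 LD3_c56) Lrfl Lrfl
theorem f388970 : Led Lsl_af (LP (LK LD1_c19 LD2_c46 LD3_c39)) = (LP (LK LD1_c18 LD2_c2 LD3_c56)) :=
  Lgr Lrot50 (Lpr_et (f213561 IH) (Lpr_at (f388967 IH) (Lpr_et (f235087 IH) (Lpn (LP (LK LD1_c18 LD2_c2 LD3_c56))))))
theorem f388616 : Led Lsl_bf (LP (LK LD1_c19 LD2_c49 LD3_c12)) = (LP (LK LD1_c15 LD2_c54 LD3_c32)) :=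
  Lgr Lrot61 (Lpr_ft (f388614 IH) (Lpr_bt (f52499 IH) (Lpe (f388526 IH) (Lpn (LP (LK LD1_c15 LD2_c54 LD3_c32))))))
theorem f213431 : Led Lsl_ct (LP (LK LD1_c18 LD2_c2 LD3_c56)) = (LP (LK LD1_c9 LD2_c51 LD3_c36)) :=
  Lre_c IH (LK LD1_c18 LD2_c2 LD3_c56) (LK LD1_c9 LD2_c51 LD3_c36) Lrfl Lrfl
theorem f388933 : Led Lsl_bt (LP (LK LD1_c15 LD2_c15 LD3_c44)) = (LP (LK LD1_c18 LD2_c2 LD3_c56)) :=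
  Lgr Lrot128 (Lpe (f388626 IH) (Lpr_bf (f388616 IH) (Lpr_cf (f388928 IH) (Lpe (f235086 IH) (Lpe (f213431 IH) (Lpn (LP (LK LD1_c18 LD2_c2 LD3_c56))))))))
theorem f388635 : Led Lsl_at (LP (LK LD1_c8 LD2_c6 LD3_c21)) = (LP (LK LD1_c15 LD2_c15 LD3_c44)) :=
  Lre_a IH (LK LD1_c8 LD2_c6 LD3_c21) (LK LD1_c15 LD2_c15 LD3_c44) Lrfl Lrfl
theorem f388972 : Led Lsl_at (LP (LK LD1_c25 LD2_c5 LD3_c17)) = (LP (LK LD1_c15 LD2_c15 LD3_c45)) :=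
  Lre_a IH (LK LD1_c25 LD2_c5 LD3_c17) (LK LD1_c15 LD2_c15 LD3_c45) Lrfl Lrfl
theorem f388973 : Led Lsl_bt (LP (LK LD1_c19 LD2_c46 LD3_c39)) = (LP (LK LD1_c25 LD2_c5 LD3_c17)) :=
  Lgr Lrot62 (Lpr_af (f388970 IH) (Lpe (f388933 IH) (Lpe (f388635 IH) (Lpe (K27.f217407 IH) (Lpe (f388972 IH) (Lpn (LP (LK LD1_c25 LD2_c5 LD3_c17))))))))
theorem f33531 : Led Lsl_gt (LP (LK LD1_c10 LD2_c19 LD3_c13)) = (LP (LK LD1_c5 LD2_c14 LD3_c55)) :=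
  Lre_g IH (LK LD1_c10 LD2_c19 LD3_c13) (LK LD1_c5 LD2_c14 LD3_c55) Lrfl Lrfl
theorem f33532 : Led Lsl_ct (LP (LK LD1_c18 LD2_c44 LD3_c5)) = (LP (LK LD1_c10 LD2_c19 LD3_c13)) :=
  Lre_c IH (LK LD1_c18 LD2_c44 LD3_c5) (LK LD1_c10 LD2_c19 LD3_c13) Lrfl Lrfl
theorem f218143 : Led Lsl_bt (LP (LK LD1_c18 LD2_c44 LD3_c5)) = (LP (LK LD1_c11 LD2_c2 LD3_c35)) :=
  Lgr Lrot92 (Lpr_ct (f33532 IH) (Lpr_gt (f33531 IH) (Lpe (K10.f33520 IH) (Lpr_bt (K10.f31304 IH) (Lpr_gt (K13.f218141 IH) (Lpr_ct (K16.f171306 IH) (Lpe (K13.f213025 IH) (Lpe (K12.f199516 IH) (Lpr_bt (f211966 IH) (Lpr_gt (f211967 IH) (Lpn (LP (LK LD1_c11 LD2_c2 LD3_c35)))))))))))))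
theorem f218153 : Led Lsl_ct (LP (LK LD1_c10 LD2_c19 LD3_c13)) = (LP (LK LD1_c18 LD2_c44 LD3_c5)) :=
  Lre_c IH (LK LD1_c10 LD2_c19 LD3_c13) (LK LD1_c18 LD2_c44 LD3_c5) Lrfl Lrfl
theorem f33535 : Led Lsl_bt (LP (LK LD1_c18 LD2_c44 LD3_c4)) = (LP (LK LD1_c10 LD2_c19 LD3_c13)) :=
  Lre_b IH (LK LD1_c18 LD2_c44 LD3_c4) (LK LD1_c10 LD2_c19 LD3_c13) Lrfl Lrfl
theorem f388977 : Led Lsl_cf (LP (LK LD1_c18 LD2_c44 LD3_c4)) = (LP (LK LD1_c25 LD2_c5 LD3_c17)) :=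
  Lgr Lrot97 (Lpr_bt (f33535 IH) (Lpr_ct (f218153 IH) (Lpr_bt (f218143 IH) (Lpe (f213557 IH) (Lpr_bt (f388973 IH) (Lpn (LP (LK LD1_c25 LD2_c5 LD3_c17))))))))
theorem f388984 : Led Lsl_ct (LP (LK LD1_c18 LD2_c44 LD3_c4)) = (LP (LK LD1_c25 LD2_c5 LD3_c17)) :=
  Lgr Lrot59 (Lpr_cf (f388977 IH) (Lpn (LP (LK LD1_c25 LD2_c5 LD3_c17))))
theorem f388994 : Led Lsl_af (LP (LK LD1_c18 LD2_c44 LD3_c4)) = (LP (LK LD1_c25 LD2_c5 LD3_c18)) :=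
  Lgr Lrot68 (Lpr_ct (f388984 IH) (Lpr_at (f388972 IH) (Lpr_ct (K27.f217408 IH) (Lpn (LP (LK LD1_c25 LD2_c5 LD3_c18))))))
theorem f388975 : Led Lsl_bf (LP (LK LD1_c19 LD2_c46 LD3_c39)) = (LP (LK LD1_c25 LD2_c5 LD3_c17)) :=
  Lgr Lrot24 (Lpr_bt (f388973 IH) (Lpn (LP (LK LD1_c25 LD2_c5 LD3_c17))))
theorem f168171 : Led Lsl_bt (LP (LK LD1_c5 LD2_c32 LD3_c35)) = (LP (LK LD1_c10 LD2_c56 LD3_c57)) :=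
  Lre_b IH (LK LD1_c5 LD2_c32 LD3_c35) (LK LD1_c10 LD2_c56 LD3_c57) Lrfl Lrfl
theorem f168170 : Led Lsl_ct (LP (LK LD1_c5 LD2_c32 LD3_c35)) = (LP (LK LD1_c2 LD2_c42 LD3_c27)) :=
  Lre_c IH (LK LD1_c5 LD2_c32 LD3_c35) (LK LD1_c2 LD2_c42 LD3_c27) Lrfl Lrfl
theorem f168131 : Led Lsl_dt (LP (LK LD1_c2 LD2_c42 LD3_c21)) = (LP (LK LD1_c5 LD2_c32 LD3_c20)) :=
  Lre_d IH (LK LD1_c2 LD2_c42 LD3_c21) (LK LD1_c5 LD2_c32 LD3_c20) Lrfl Lrfl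
theorem f173169 : Led Lsl_dt (LP (LK LD1_c8 LD2_c57 LD3_c5)) = (LP (LK LD1_c4 LD2_c29 LD3_c26)) :=
  Lre_d IH (LK LD1_c8 LD2_c57 LD3_c5) (LK LD1_c4 LD2_c29 LD3_c26) Lrfl Lrfl
theorem f281094 : Led Lsl_ft (LP (LK LD1_c5 LD2_c32 LD3_c20)) = (LP (LK LD1_c8 LD2_c57 LD3_c5)) :=
  Lgr Lrot54 (Lpe (f168131 IH) (Lpr_ff (K20.f281079 IH) (Lpe (f173169 IH) (Lpn (LP (LK LD1_c8 LD2_c57 LD3_c5))))))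
theorem f281111 : Led Lsl_at (LP (LK LD1_c10 LD2_c56 LD3_c16)) = (LP (LK LD1_c5 LD2_c32 LD3_c20)) :=
  Lre_a IH (LK LD1_c10 LD2_c56 LD3_c16) (LK LD1_c5 LD2_c32 LD3_c20) Lrfl Lrfl
theorem f261941 : Led Lsl_at (LP (LK LD1_c8 LD2_c57 LD3_c5)) = (LP (LK LD1_c16 LD2_c45 LD3_c33)) :=
  Lre_a IH (LK LD1_c8 LD2_c57 LD3_c5) (LK LD1_c16 LD2_c45 LD3_c33) Lrfl Lrfl
theorem f281112 : Led Lsl_ff (LP (LK LD1_c10 LD2_c56 LD3_c16)) = (LP (LK LD1_c16 LD2_c45 LD3_c33)) :=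
  Lgr Lrot30 (Lpr_at (f281111 IH) (Lpr_ft (f281094 IH) (Lpr_at (f261941 IH) (Lpn (LP (LK LD1_c16 LD2_c45 LD3_c33))))))
theorem f213318 : Led Lsl_bt (LP (LK LD1_c10 LD2_c56 LD3_c16)) = (LP (LK LD1_c19 LD2_c44 LD3_c24)) :=
  Lre_b IH (LK LD1_c10 LD2_c56 LD3_c16) (LK LD1_c19 LD2_c44 LD3_c24) Lrfl Lrfl
theorem f281119 : Led Lsl_bt (LP (LK LD1_c25 LD2_c4 LD3_c19)) = (LP (LK LD1_c16 LD2_c45 LD3_c33)) :=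
  Lgr Lrot35 (Lpr_ff (K24.f213309 IH) (Lpe (f213318 IH) (Lpr_ff (f281112 IH) (Lpn (LP (LK LD1_c16 LD2_c45 LD3_c33))))))
theorem f213306 : Led Lsl_dt (LP (LK LD1_c15 LD2_c15 LD3_c13)) = (LP (LK LD1_c25 LD2_c4 LD3_c19)) :=
  Lre_d IH (LK LD1_c15 LD2_c15 LD3_c13) (LK LD1_c25 LD2_c4 LD3_c19) Lrfl Lrfl
theorem f281089 : Led Lsl_dt (LP (LK LD1_c16 LD2_c45 LD3_c33)) = (LP (LK LD1_c8 LD2_c57 LD3_c4)) :=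
  Lre_d IH (LK LD1_c16 LD2_c45 LD3_c33) (LK LD1_c8 LD2_c57 LD3_c4) Lrfl Lrfl
theorem f281134 : Led Lsl_bf (LP (LK LD1_c15 LD2_c15 LD3_c13)) = (LP (LK LD1_c8 LD2_c57 LD3_c4)) :=
  Lgr Lrot93 (Lpr_dt (f213306 IH) (Lpr_bt (f281119 IH) (Lpr_dt (f281089 IH) (Lpn (LP (LK LD1_c8 LD2_c57 LD3_c4))))))
theorem f213331 : Led Lsl_gt (LP (LK LD1_c15 LD2_c15 LD3_c13)) = (LP (LK LD1_c10 LD2_c55 LD3_c56)) :=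
  Lgr Lrot5 (Lpr_ft (K24.f213320 IH) (Lpr_at (K27.f213325 IH) (Lpe (K27.f213330 IH) (Lpn (LP (LK LD1_c10 LD2_c55 LD3_c56))))))
theorem f213333 : Led Lsl_ct (LP (LK LD1_c10 LD2_c55 LD3_c56)) = (LP (LK LD1_c19 LD2_c44 LD3_c22)) :=
  Lre_c IH (LK LD1_c10 LD2_c55 LD3_c56) (LK LD1_c19 LD2_c44 LD3_c22) Lrfl Lrfl
theorem f388988 : Led Lsl_gf (LP (LK LD1_c18 LD2_c44 LD3_c4)) = (LP (LK LD1_c19 LD2_c44 LD3_c22)) :=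
  Lgr Lrot129 (Lpr_cf (f388977 IH) (Lpe (f388975 IH) (Lpr_gt (f213400 IH) (Lpe (f168171 IH) (Lpr_ct (f168170 IH) (Lpr_gt (K24.f281521 IH) (Lpe (K20.f281087 IH) (Lpe (f281134 IH) (Lpr_gt (f213331 IH) (Lpr_ct (f213333 IH) (Lpn (LP (LK LD1_c19 LD2_c44 LD3_c22)))))))))))))
theorem f52832 : Led Lsl_ct (LP (LK LD1_c8 LD2_c28 LD3_c19)) = (LP (LK LD1_c4 LD2_c14 LD3_c46)) :=
  Lre_c IH (LK LD1_c8 LD2_c28 LD3_c19) (LK LD1_c4 LD2_c14 LD3_c46) Lrfl Lrfl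
theorem f221230 : Led Lsl_bt (LP (LK LD1_c8 LD2_c28 LD3_c19)) = (LP (LK LD1_c15 LD2_c54 LD3_c21)) :=
  Lre_b IH (LK LD1_c8 LD2_c28 LD3_c19) (LK LD1_c15 LD2_c54 LD3_c21) Lrfl Lrfl
theorem f261740 : Led Lsl_gf (LP (LK LD1_c19 LD2_c44 LD3_c22)) = (LP (LK LD1_c15 LD2_c54 LD3_c21)) :=
  Lgr Lrot181 (Lpr_ct (K27.f213334 IH) (Lpr_gt (K27.f213330 IH) (Lpr_cf (K27.f261668 IH) (Lpr_bt (K27.f221285 IH) (Lpr_gt (K16.f216392 IH) (Lpe (K20.f218372 IH) (Lpr_ct (K18.f52829 IH) (Lpr_gt (K20.f196942 IH) (Lpe (f52832 IH) (Lpr_bt (f221230 IH) (Lpn (LP (LK LD1_c15 LD2_c54 LD3_c21)))))))))))))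
theorem f389002 : Led Lsl_ft (LP (LK LD1_c15 LD2_c54 LD3_c21)) = (LP (LK LD1_c25 LD2_c5 LD3_c18)) :=
  Lgr Lrot2 (Lpe (f261740 IH) (Lpe (f388988 IH) (Lpr_af (f388994 IH) (Lpn (LP (LK LD1_c25 LD2_c5 LD3_c18))))))
theorem f389009 : Led Lsl_ff (LP (LK LD1_c15 LD2_c54 LD3_c21)) = (LP (LK LD1_c25 LD2_c5 LD3_c18)) :=
  Lgr Lrot3 (Lpr_ft (f389002 IH) (Lpn (LP (LK LD1_c25 LD2_c5 LD3_c18))))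
theorem f220919 : Led Lsl_bt (LP (LK LD1_c15 LD2_c54 LD3_c21)) = (LP (LK LD1_c8 LD2_c28 LD3_c19)) :=
  Lre_b IH (LK LD1_c15 LD2_c54 LD3_c21) (LK LD1_c8 LD2_c28 LD3_c19) Lrfl Lrfl
theorem f389011 : Led Lsl_bt (LP (LK LD1_c15 LD2_c54 LD3_c24)) = (LP (LK LD1_c25 LD2_c5 LD3_c18)) :=
  Lgr Lrot35 (Lpe (K20.f220895 IH) (Lpe (f220919 IH) (Lpr_ff (f389009 IH) (Lpn (LP (LK LD1_c25 LD2_c5 LD3_c18))))))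
theorem f388870 : Led Lsl_ct (LP (LK LD1_c15 LD2_c54 LD3_c24)) = (LP (LK LD1_c8 LD2_c28 LD3_c22)) :=
  Lre_c IH (LK LD1_c15 LD2_c54 LD3_c24) (LK LD1_c8 LD2_c28 LD3_c22) Lrfl Lrfl
theorem f52789 : Led Lsl_ct (LP (LK LD1_c8 LD2_c27 LD3_c9)) = (LP (LK LD1_c4 LD2_c14 LD3_c50)) :=
  Lre_c IH (LK LD1_c8 LD2_c27 LD3_c9) (LK LD1_c4 LD2_c14 LD3_c50) Lrfl Lrfl
theorem f389022 : Led Lsl_gf (LP (LK LD1_c8 LD2_c28 LD3_c22)) = (LP (LK LD1_c4 LD2_c14 LD3_c50)) :=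
  Lgr Lrot126 (Lpe (f388870 IH) (Lpr_bt (f389011 IH) (Lpe (K27.f369242 IH) (Lpr_ct (K27.f213348 IH) (Lpr_gt (K27.f213218 IH) (Lpr_cf (K20.f261652 IH) (Lpr_bt (K20.f221328 IH) (Lpe (K18.f261470 IH) (Lpe (K15.f52864 IH) (Lpr_ct (f52789 IH) (Lpn (LP (LK LD1_c4 LD2_c14 LD3_c50)))))))))))))
theorem f388704 : Led Lsl_at (LP (LK LD1_c4 LD2_c14 LD3_c47)) = (LP (LK LD1_c8 LD2_c28 LD3_c22)) :=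
  Lre_a IH (LK LD1_c4 LD2_c14 LD3_c47) (LK LD1_c8 LD2_c28 LD3_c22) Lrfl Lrfl
theorem f389024 : Led Lsl_gt (LP (LK LD1_c8 LD2_c28 LD3_c17)) = (LP (LK LD1_c4 LD2_c14 LD3_c50)) :=
  Lgr Lrot5 (Lpr_ft (f388905 IH) (Lpr_at (f388704 IH) (Lpr_gf (f389022 IH) (Lpn (LP (LK LD1_c4 LD2_c14 LD3_c50))))))
theorem f388922 : Led Lsl_bt (LP (LK LD1_c15 LD2_c54 LD3_c15)) = (LP (LK LD1_c8 LD2_c28 LD3_c17)) :=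
  Lre_b IH (LK LD1_c15 LD2_c54 LD3_c15) (LK LD1_c8 LD2_c28 LD3_c17) Lrfl Lrfl
theorem f52837 : Led Lsl_bt (LP (LK LD1_c2 LD2_c4 LD3_c47)) = (LP (LK LD1_c4 LD2_c14 LD3_c50)) :=
  Lre_b IH (LK LD1_c2 LD2_c4 LD3_c47) (LK LD1_c4 LD2_c14 LD3_c50) Lrfl Lrfl
theorem f200735 : Led Lsl_gt (LP (LK LD1_c4 LD2_c4 LD3_c9)) = (LP (LK LD1_c8 LD2_c8 LD3_c60)) :=
  Lre_g IH (LK LD1_c4 LD2_c4 LD3_c9) (LK LD1_c8 LD2_c8 LD3_c60) Lrfl Lrfl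
theorem f200765 : Led Lsl_ct (LP (LK LD1_c8 LD2_c8 LD3_c60)) = (LP (LK LD1_c15 LD2_c20 LD3_c43)) :=
  Lre_c IH (LK LD1_c8 LD2_c8 LD3_c60) (LK LD1_c15 LD2_c20 LD3_c43) Lrfl Lrfl
theorem f200766 : Led Lsl_gt (LP (LK LD1_c15 LD2_c20 LD3_c43)) = (LP (LK LD1_c25 LD2_c11 LD3_c57)) :=
  Lre_g IH (LK LD1_c15 LD2_c20 LD3_c43) (LK LD1_c25 LD2_c11 LD3_c57) Lrfl Lrfl
theorem f389543 : Led Lsl_ct (LP (LK LD1_c15 LD2_c54 LD3_c15)) = (LP (LK LD1_c25 LD2_c11 LD3_c57)) :=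
  Lgr Lrot63 (Lpr_bt (f388922 IH) (Lpr_gt (f389024 IH) (Lpe (f52837 IH) (Lpr_ct (K10.f52675 IH) (Lpe (K11.f200696 IH) (Lpr_cf (K11.f200730 IH) (Lpr_bt (K19.f200729 IH) (Lpr_gt (f200735 IH) (Lpr_ct (f200765 IH) (Lpr_gt (f200766 IH) (Lpn (LP (LK LD1_c25 LD2_c11 LD3_c57)))))))))))))
theorem f196913 : Led Lsl_ct (LP (LK LD1_c15 LD2_c54 LD3_c33)) = (LP (LK LD1_c8 LD2_c28 LD3_c23)) :=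
  Lre_c IH (LK LD1_c15 LD2_c54 LD3_c33) (LK LD1_c8 LD2_c28 LD3_c23) Lrfl Lrfl
theorem f389551 : Led Lsl_ff (LP (LK LD1_c15 LD2_c54 LD3_c33)) = (LP (LK LD1_c25 LD2_c11 LD3_c57)) :=
  Lgr Lrot23 (Lpr_ct (f196913 IH) (Lpr_ft (f388149 IH) (Lpr_ct (f389543 IH) (Lpn (LP (LK LD1_c25 LD2_c11 LD3_c57))))))
theorem f52882 : Led Lsl_ct (LP (LK LD1_c8 LD2_c28 LD3_c23)) = (LP (LK LD1_c15 LD2_c54 LD3_c33)) :=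
  Lre_c IH (LK LD1_c8 LD2_c28 LD3_c23) (LK LD1_c15 LD2_c54 LD3_c33) Lrfl Lrfl
theorem f388931 : Led Lsl_at (LP (LK LD1_c15 LD2_c54 LD3_c33)) = (LP (LK LD1_c18 LD2_c2 LD3_c55)) :=
  Lgr Lrot107 (Lpe (f52882 IH) (Lpe (f388525 IH) (Lpr_cf (f388928 IH) (Lpn (LP (LK LD1_c18 LD2_c2 LD3_c55))))))
theorem f388884 : Led Lsl_ct (LP (LK LD1_c8 LD2_c28 LD3_c22)) = (LP (LK LD1_c15 LD2_c54 LD3_c24)) :=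
  Lre_c IH (LK LD1_c8 LD2_c28 LD3_c22) (LK LD1_c15 LD2_c54 LD3_c24) Lrfl Lrfl
theorem f319645 : Led Lsl_gt (LP (LK LD1_c8 LD2_c8 LD3_c55)) = (LP (LK LD1_c4 LD2_c4 LD3_c7)) :=
  Lre_g IH (LK LD1_c8 LD2_c8 LD3_c55) (LK LD1_c4 LD2_c4 LD3_c7) Lrfl Lrfl
theorem f319655 : Led Lsl_bt (LP (LK LD1_c15 LD2_c20 LD3_c32)) = (LP (LK LD1_c8 LD2_c8 LD3_c55)) :=
  Lre_b IH (LK LD1_c15 LD2_c20 LD3_c32) (LK LD1_c8 LD2_c8 LD3_c55) Lrfl Lrfl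
theorem f280656 : Led Lsl_bt (LP (LK LD1_c1 LD2_c2 LD3_c58)) = (LP (LK LD1_c2 LD2_c11 LD3_c60)) :=
  Lre_b IH (LK LD1_c1 LD2_c2 LD3_c58) (LK LD1_c2 LD2_c11 LD3_c60) Lrfl Lrfl
theorem f217951 : Led Lsl_gt (LP (LK LD1_c2 LD2_c11 LD3_c60)) = (LP (LK LD1_c4 LD2_c29 LD3_c56)) :=
  Lre_g IH (LK LD1_c2 LD2_c11 LD3_c60) (LK LD1_c4 LD2_c29 LD3_c56) Lrfl Lrfl
theorem f280828 : Led Lsl_bt (LP (LK LD1_c8 LD2_c57 LD3_c61)) = (LP (LK LD1_c4 LD2_c29 LD3_c56)) :=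
  Lre_b IH (LK LD1_c8 LD2_c57 LD3_c61) (LK LD1_c4 LD2_c29 LD3_c56) Lrfl Lrfl
theorem f319646 : Led Lsl_cf (LP (LK LD1_c8 LD2_c8 LD3_c55)) = (LP (LK LD1_c8 LD2_c57 LD3_c61)) :=
  Lgr Lrot160 (Lpr_gt (f319645 IH) (Lpr_cf (K20.f319633 IH) (Lpr_bt (K20.f168796 IH) (Lpr_gt (K9.f167840 IH) (Lpr_ct (K9.f42261 IH) (Lpr_gt (K9.f7633 IH) (Lpe (K9.f169281 IH) (Lpr_bt (f280656 IH) (Lpr_gt (f217951 IH) (Lpe (f280828 IH) (Lpn (LP (LK LD1_c8 LD2_c57 LD3_c61)))))))))))))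
theorem f319648 : Led Lsl_bt (LP (LK LD1_c8 LD2_c8 LD3_c55)) = (LP (LK LD1_c15 LD2_c20 LD3_c32)) :=
  Lre_b IH (LK LD1_c8 LD2_c8 LD3_c55) (LK LD1_c15 LD2_c20 LD3_c32) Lrfl Lrfl
theorem f319649 : Led Lsl_bt (LP (LK LD1_c4 LD2_c29 LD3_c56)) = (LP (LK LD1_c8 LD2_c57 LD3_c61)) :=
  Lre_b IH (LK LD1_c4 LD2_c29 LD3_c56) (LK LD1_c8 LD2_c57 LD3_c61) Lrfl Lrfl
theorem f217952 : Led Lsl_ct (LP (LK LD1_c8 LD2_c58 LD3_c0)) = (LP (LK LD1_c4 LD2_c29 LD3_c56)) :=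
  Lre_c IH (LK LD1_c8 LD2_c58 LD3_c0) (LK LD1_c4 LD2_c29 LD3_c56) Lrfl Lrfl
theorem f319650 : Led Lsl_bt (LP (LK LD1_c16 LD2_c46 LD3_c55)) = (LP (LK LD1_c8 LD2_c58 LD3_c0)) :=
  Lre_b IH (LK LD1_c16 LD2_c46 LD3_c55) (LK LD1_c8 LD2_c58 LD3_c0) Lrfl Lrfl
theorem f319651 : Led Lsl_ct (LP (LK LD1_c15 LD2_c20 LD3_c32)) = (LP (LK LD1_c16 LD2_c46 LD3_c55)) :=
  Lgr Lrot83 (Lpe (f319648 IH) (Lpr_cf (f319646 IH) (Lpe (f319649 IH) (Lpe (f217952 IH) (Lpe (f319650 IH) (Lpn (LP (LK LD1_c16 LD2_c46 LD3_c55))))))))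
theorem f389028 : Led Lsl_gt (LP (LK LD1_c15 LD2_c54 LD3_c24)) = (LP (LK LD1_c16 LD2_c46 LD3_c55)) :=
  Lgr Lrot149 (Lpe (f388884 IH) (Lpr_gf (f389022 IH) (Lpe (f52837 IH) (Lpr_ct (K10.f52675 IH) (Lpr_gf (K12.f200758 IH) (Lpe (K12.f196407 IH) (Lpr_bt (K20.f196404 IH) (Lpe (f319645 IH) (Lpe (f319655 IH) (Lpr_ct (f319651 IH) (Lpn (LP (LK LD1_c16 LD2_c46 LD3_c55)))))))))))))
theorem f388914 : Led Lsl_ft (LP (LK LD1_c15 LD2_c54 LD3_c24)) = (LP (LK LD1_c8 LD2_c28 LD3_c19)) :=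
  Lre_f IH (LK LD1_c15 LD2_c54 LD3_c24) (LK LD1_c8 LD2_c28 LD3_c19) Lrfl Lrfl
theorem f389004 : Led Lsl_bf (LP (LK LD1_c15 LD2_c54 LD3_c24)) = (LP (LK LD1_c25 LD2_c5 LD3_c18)) :=
  Lgr Lrot61 (Lpr_ft (f388914 IH) (Lpr_bt (f221230 IH) (Lpr_ft (f389002 IH) (Lpn (LP (LK LD1_c25 LD2_c5 LD3_c18))))))
theorem f369244 : Led Lsl_ct (LP (LK LD1_c25 LD2_c5 LD3_c18)) = (LP (LK LD1_c15 LD2_c15 LD3_c45)) :=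
  Lre_c IH (LK LD1_c25 LD2_c5 LD3_c18) (LK LD1_c15 LD2_c15 LD3_c45) Lrfl Lrfl
theorem f217953 : Led Lsl_bt (LP (LK LD1_c8 LD2_c58 LD3_c0)) = (LP (LK LD1_c16 LD2_c46 LD3_c55)) :=
  Lre_b IH (LK LD1_c8 LD2_c58 LD3_c0) (LK LD1_c16 LD2_c46 LD3_c55) Lrfl Lrfl
theorem f280806 : Led Lsl_ff (LP (LK LD1_c1 LD2_c17 LD3_c38)) = (LP (LK LD1_c2 LD2_c11 LD3_c60)) :=
  Lgr Lrot19 (Lpr_dt (f224534 IH) (Lpr_ft (K20.f280801 IH) (Lpr_dt (K20.f217963 IH) (Lpn (LP (LK LD1_c2 LD2_c11 LD3_c60))))))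

end

end K30

end

end Cfsg.Agent.Helper28.S1692
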