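import Cfsg.Agent.Lib.Helper28.S1692.Seeds30

set_option autoImplicit false
set_option maxRecDepth 100000
set_option linter.all false

namespace Cfsg.Agent.Helper28.S1692

open Cfsg.Agent.Helper28
open Cfsg.Spor.ON (Gen)

noncomputable section

namespace K31
abbrev LD1_c0 := D1.c0
abbrev LD1_c1 := D1.c1
abbrev LD1_c2 := D1.c2
abbrev LD1_c3 := D1.c3
abbrev LD1_c4 := D1.c4
abbrev LD1_c5 := D1.c5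
abbrev LD1_c6 := D1.c6
abbrev LD1_c7 := D1.c7
abbrev LD1_c8 := D1.c8
abbrev LD1_c9 := D1.c9
abbrev LD1_c10 := D1.c10
abbrev LD1_c11 := D1.c11
abbrev LD1_c12 := D1.c12
abbrev LD1_c13 := D1.c13
abbrev LD1_c14 := D1.c14
abbrev LD1_c15 := D1.c15
abbrev LD1_c16 := D1.c16
abbrev LD1_c17 := D1.c17
abbrev LD1_c18 := D1.c18
abbrev LD1_c19 := D1.c19
abbrev LD1_c20 := D1.c20
abbrev LD1_c21 := D1.c21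
abbrev LD1_c22 := D1.c22
abbrev LD1_c23 := D1.c23
abbrev LD1_c24 := D1.c24
abbrev LD1_c25 := D1.c25
abbrev LD1_c26 := D1.c26
abbrev LD1_c27 := D1.c27
abbrev LD1_c28 := D1.c28
abbrev LD1_c29 := D1.c29
abbrev LD1_c30 := D1.c30
abbrev LD1_c31 := D1.c31
abbrev LD1_c32 := D1.c32
abbrev LD2_c0 := D2.c0
abbrev LD2_c1 := D2.c1
abbrev LD2_c2 := D2.c2
abbrev LD2_c3 := D2.c3
abbrev LD2_c4 := D2.c4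
abbrev LD2_c5 := D2.c5
abbrev LD2_c6 := D2.c6
abbrev LD2_c7 := D2.c7
abbrev LD2_c8 := D2.c8
abbrev LD2_c9 := D2.c9
abbrev LD2_c10 := D2.c10
abbrev LD2_c11 := D2.c11
abbrev LD2_c12 := D2.c12
abbrev LD2_c13 := D2.c13
abbrev LD2_c14 := D2.c14
abbrev LD2_c15 := D2.c15
abbrev LD2_c16 := D2.c16
abbrev LD2_c17 := D2.c17
abbrev LD2_c18 := D2.c18
abbrev LD2_c19 := D2.c19
abbrev LD2_c20 := D2.c20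
abbrev LD2_c21 := D2.c21
abbrev LD2_c22 := D2.c22
abbrev LD2_c23 := D2.c23
abbrev LD2_c24 := D2.c24
abbrev LD2_c25 := D2.c25
abbrev LD2_c26 := D2.c26
abbrev LD2_c27 := D2.c27
abbrev LD2_c28 := D2.c28
abbrev LD2_c29 := D2.c29
abbrev LD2_c30 := D2.c30
abbrev LD2_c31 := D2.c31
abbrev LD2_c32 := D2.c32
abbrev LD2_c33 := D2.c33
abbrev LD2_c34 := D2.c34
abbrev LD2_c35 := D2.c35
abbrev LD2_c36 := D2.c36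
abbrev LD2_c37 := D2.c37
abbrev LD2_c38 := D2.c38
abbrev LD2_c39 := D2.c39
abbrev LD2_c40 := D2.c40
abbrev LD2_c41 := D2.c41
abbrev LD2_c42 := D2.c42
abbrev LD2_c43 := D2.c43
abbrev LD2_c44 := D2.c44
abbrev LD2_c45 := D2.c45
abbrev LD2_c46 := D2.c46
abbrev LD2_c47 := D2.c47
abbrev LD2_c48 := D2.c48
abbrev LD2_c49 := D2.c49
abbrev LD2_c50 := D2.c50
abbrev LD2_c51 := D2.c51
abbrev LD2_c52 := D2.c52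
abbrev LD2_c53 := D2.c53
abbrev LD2_c54 := D2.c54
abbrev LD2_c55 := D2.c55
abbrev LD2_c56 := D2.c56
abbrev LD2_c57 := D2.c57
abbrev LD2_c58 := D2.c58
abbrev LD2_c59 := D2.c59
abbrev LD3_c0 := D3.c0
abbrev LD3_c1 := D3.c1
abbrev LD3_c2 := D3.c2
abbrev LD3_c3 := D3.c3
abbrev LD3_c4 := D3.c4
abbrev LD3_c5 := D3.c5
abbrev LD3_c6 := D3.c6
abbrev LD3_c7 := D3.c7
abbrev LD3_c8 := D3.c8
abbrev LD3_c9 := D3.c9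
abbrev LD3_c10 := D3.c10
abbrev LD3_c11 := D3.c11
abbrev LD3_c12 := D3.c12
abbrev LD3_c13 := D3.c13
abbrev LD3_c14 := D3.c14
abbrev LD3_c15 := D3.c15
abbrev LD3_c16 := D3.c16
abbrev LD3_c17 := D3.c17
abbrev LD3_c18 := D3.c18
abbrev LD3_c19 := D3.c19
abbrev LD3_c20 := D3.c20
abbrev LD3_c21 := D3.c21
abbrev LD3_c22 := D3.c22
abbrev LD3_c23 := D3.c23
abbrev LD3_c24 := D3.c24
abbrev LD3_c25 := D3.c25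
abbrev LD3_c26 := D3.c26
abbrev LD3_c27 := D3.c27
abbrev LD3_c28 := D3.c28
abbrev LD3_c29 := D3.c29
abbrev LD3_c30 := D3.c30
abbrev LD3_c31 := D3.c31
abbrev LD3_c32 := D3.c32
abbrev LD3_c33 := D3.c33
abbrev LD3_c34 := D3.c34
abbrev LD3_c35 := D3.c35
abbrev LD3_c36 := D3.c36
abbrev LD3_c37 := D3.c37
abbrev LD3_c38 := D3.c38
abbrev LD3_c39 := D3.c39
abbrev LD3_c40 := D3.c40
abbrev LD3_c41 := D3.c41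
abbrev LD3_c42 := D3.c42
abbrev LD3_c43 := D3.c43
abbrev LD3_c44 := D3.c44
abbrev LD3_c45 := D3.c45
abbrev LD3_c46 := D3.c46
abbrev LD3_c47 := D3.c47
abbrev LD3_c48 := D3.c48
abbrev LD3_c49 := D3.c49
abbrev LD3_c50 := D3.c50
abbrev LD3_c51 := D3.c51
abbrev LD3_c52 := D3.c52
abbrev LD3_c53 := D3.c53
abbrev LD3_c54 := D3.c54
abbrev LD3_c55 := D3.c55
abbrev LD3_c56 := D3.c56
abbrev LD3_c57 := D3.c57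
abbrev LD3_c58 := D3.c58
abbrev LD3_c59 := D3.c59
abbrev LD3_c60 := D3.c60
abbrev LD3_c61 := D3.c61
abbrev LG_g := Gen.g
abbrev Lsl_gt : Gen × Bool := sl_gt
alias Lfl_gt := fl_gt
alias Lpr_gt := pr_gt
abbrev Lsl_gf : Gen × Bool := sl_gf
alias Lfl_gf := fl_gf
alias Lpr_gf := pr_gf
alias Lre_g := re_g
alias Leoe_g := eoe_g
abbrev LG_a := Gen.a
abbrev Lsl_at : Gen × Bool := sl_at
alias Lfl_at := fl_at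
alias Lpr_at := pr_at
abbrev Lsl_af : Gen × Bool := sl_af
alias Lfl_af := fl_af
alias Lpr_af := pr_af
alias Lre_a := re_a
alias Leoe_a := eoe_a
abbrev LG_b := Gen.b
abbrev Lsl_bt : Gen × Bool := sl_bt
alias Lfl_bt := fl_bt
alias Lpr_bt := pr_bt
abbrev Lsl_bf : Gen × Bool := sl_bf
alias Lfl_bf := fl_bf
alias Lpr_bf := pr_bf
alias Lre_b := re_b
alias Leoe_b := eoe_b
abbrev LG_c := Gen.c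
abbrev Lsl_ct : Gen × Bool := sl_ct
alias Lfl_ct := fl_ct
alias Lpr_ct := pr_ct
abbrev Lsl_cf : Gen × Bool := sl_cf
alias Lfl_cf := fl_cf
alias Lpr_cf := pr_cf
alias Lre_c := re_c
alias Leoe_c := eoe_c
abbrev LG_d := Gen.d
abbrev Lsl_dt : Gen × Bool := sl_dt
alias Lfl_dt := fl_dt
alias Lpr_dt := pr_dt
abbrev Lsl_df : Gen × Bool := sl_df
alias Lfl_df := fl_df
alias Lpr_df := pr_df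
alias Lre_d := re_d
alias Leoe_d := eoe_d
abbrev LG_e := Gen.e
abbrev Lsl_et : Gen × Bool := sl_et
alias Lfl_et := fl_et
alias Lpr_et := pr_et
abbrev Lsl_ef : Gen × Bool := sl_ef
alias Lfl_ef := fl_ef
alias Lpr_ef := pr_ef
alias Lre_e := re_e
alias Leoe_e := eoe_e
abbrev LG_f := Gen.f
abbrev Lsl_ft : Gen × Bool := sl_ft
alias Lfl_ft := fl_ft
alias Lpr_ft := pr_ft
abbrev Lsl_ff : Gen × Bool := sl_ff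
alias Lfl_ff := fl_ff
alias Lpr_ff := pr_ff
alias Lre_f := re_f
alias Leoe_f := eoe_f
abbrev LK := Pt.mk
abbrev LQ : Type := Qt rels S
abbrev LP (p : Pt) : LQ := P p
abbrev Led (l : Gen × Bool) (c : LQ) : LQ := ed l c
abbrev LEOK (x : Gen) (p : Pt) : Prop := EntryOK rels S fwd inv o plet idx x p
alias Lpe := pe
alias Lpn := pn
alias Lgr := gr
alias Lpq := pq
alias Lpqs := pqs
alias Llr := lr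
alias Leop := eop
alias Lefun := efun
alias Lecon := econ
theorem Lrfl {α : Sort _} {a : α} : a = a := rfl
alias Lrot0 := rot0
alias Lrot1 := rot1
alias Lrot2 := rot2
alias Lrot3 := rot3
alias Lrot4 := rot4
alias Lrot5 := rot5
alias Lrot6 := rot6
alias Lrot7 := rot7
alias Lrot8 := rot8
alias Lrot9 := rot9
alias Lrot10 := rot10
alias Lrot11 := rot11
alias Lrot12 := rot12
alias Lrot13 := rot13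
alias Lrot14 := rot14
alias Lrot15 := rot15
alias Lrot17 := rot17
alias Lrot18 := rot18
alias Lrot19 := rot19
alias Lrot20 := rot20
alias Lrot22 := rot22
alias Lrot23 := rot23
alias Lrot24 := rot24
alias Lrot25 := rot25
alias Lrot26 := rot26
alias Lrot27 := rot27
alias Lrot29 := rot29
alias Lrot30 := rot30
alias Lrot31 := rot31
alias Lrot32 := rot32
alias Lrot33 := rot33
alias Lrot34 := rot34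
alias Lrot35 := rot35
alias Lrot36 := rot36
alias Lrot38 := rot38
alias Lrot39 := rot39
alias Lrot40 := rot40
alias Lrot41 := rot41
alias Lrot42 := rot42
alias Lrot43 := rot43
alias Lrot44 := rot44
alias Lrot45 := rot45
alias Lrot46 := rot46
alias Lrot47 := rot47
alias Lrot48 := rot48
alias Lrot49 := rot49
alias Lrot50 := rot50
alias Lrot51 := rot51
alias Lrot52 := rot52
alias Lrot53 := rot53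
alias Lrot54 := rot54
alias Lrot55 := rot55
alias Lrot57 := rot57
alias Lrot58 := rot58
alias Lrot59 := rot59
alias Lrot60 := rot60
alias Lrot61 := rot61
alias Lrot62 := rot62
alias Lrot63 := rot63
alias Lrot64 := rot64
alias Lrot65 := rot65
alias Lrot66 := rot66
alias Lrot67 := rot67
alias Lrot68 := rot68
alias Lrot72 := rot72
alias Lrot73 := rot73
alias Lrot75 := rot75
alias Lrot76 := rot76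
alias Lrot77 := rot77
alias Lrot78 := rot78
alias Lrot79 := rot79
alias Lrot80 := rot80
alias Lrot81 := rot81
alias Lrot82 := rot82
alias Lrot83 := rot83
alias Lrot84 := rot84
alias Lrot85 := rot85
alias Lrot86 := rot86
alias Lrot87 := rot87
alias Lrot88 := rot88
alias Lrot89 := rot89
alias Lrot90 := rot90
alias Lrot91 := rot91
alias Lrot92 := rot92
alias Lrot93 := rot93
alias Lrot94 := rot94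
alias Lrot95 := rot95
alias Lrot96 := rot96
alias Lrot97 := rot97
alias Lrot98 := rot98
alias Lrot99 := rot99
alias Lrot100 := rot100
alias Lrot101 := rot101
alias Lrot102 := rot102
alias Lrot103 := rot103
alias Lrot104 := rot104
alias Lrot105 := rot105
alias Lrot106 := rot106
alias Lrot107 := rot107
alias Lrot108 := rot108
alias Lrot109 := rot109
alias Lrot110 := rot110
alias Lrot111 := rot111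
alias Lrot112 := rot112
alias Lrot113 := rot113
alias Lrot116 := rot116
alias Lrot117 := rot117
alias Lrot118 := rot118
alias Lrot119 := rot119
alias Lrot120 := rot120
alias Lrot122 := rot122
alias Lrot124 := rot124
alias Lrot125 := rot125
alias Lrot126 := rot126
alias Lrot127 := rot127
alias Lrot128 := rot128
alias Lrot129 := rot129
alias Lrot130 := rot130
alias Lrot136 := rot136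
alias Lrot138 := rot138
alias Lrot141 := rot141
alias Lrot142 := rot142
alias Lrot143 := rot143
alias Lrot144 := rot144
alias Lrot145 := rot145
alias Lrot146 := rot146
alias Lrot147 := rot147
alias Lrot149 := rot149
alias Lrot150 := rot150
alias Lrot151 := rot151
alias Lrot152 := rot152
alias Lrot153 := rot153
alias Lrot155 := rot155
alias Lrot156 := rot156
alias Lrot157 := rot157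
alias Lrot158 := rot158
alias Lrot160 := rot160
alias Lrot161 := rot161
alias Lrot162 := rot162
alias Lrot163 := rot163
alias Lrot164 := rot164
alias Lrot165 := rot165
alias Lrot166 := rot166
alias Lrot169 := rot169
alias Lrot173 := rot173
alias Lrot175 := rot175
alias Lrot176 := rot176
alias Lrot178 := rot178
alias Lrot179 := rot179
alias Lrot180 := rot180
alias Lrot181 := rot181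
alias Lrot182 := rot182
alias Lrot183 := rot183
alias Lrot184 := rot184
alias Lrot189 := rot189
alias Lrot191 := rot191

section
variable (IH : IHT)
include IH

theorem f280823 : Led Lsl_gf (LP (LK LD1_c2 LD2_c42 LD3_c0)) = (LP (LK LD1_c4 LD2_c29 LD3_c56)) :=
  Lgr Lrot76 (Lpe (K24.f280818 IH) (Lpr_ff (K30.f280806 IH) (Lpr_gt (K30.f217951 IH) (Lpn (LP (LK LD1_c4 LD2_c29 LD3_c56))))))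
theorem f221397 : Led Lsl_bt (LP (LK LD1_c5 LD2_c31 LD3_c8)) = (LP (LK LD1_c10 LD2_c53 LD3_c27)) :=
  Lre_b IH (LK LD1_c5 LD2_c31 LD3_c8) (LK LD1_c10 LD2_c53 LD3_c27) Lrfl Lrfl
theorem f221404 : Led Lsl_gt (LP (LK LD1_c15 LD2_c51 LD3_c59)) = (LP (LK LD1_c8 LD2_c27 LD3_c2)) :=
  Lre_g IH (LK LD1_c15 LD2_c51 LD3_c59) (LK LD1_c8 LD2_c27 LD3_c2) Lrfl Lrfl
theorem f221405 : Led Lsl_gf (LP (LK LD1_c15 LD2_c51 LD3_c59)) = (LP (LK LD1_c10 LD2_c53 LD3_c27)) :=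
  Lgr Lrot47 (Lpr_gt (f221404 IH) (Lpe (K20.f221389 IH) (Lpr_ff (K20.f221391 IH) (Lpn (LP (LK LD1_c10 LD2_c53 LD3_c27))))))
theorem f196477 : Led Lsl_bt (LP (LK LD1_c4 LD2_c2 LD3_c51)) = (LP (LK LD1_c8 LD2_c6 LD3_c14)) :=
  Lre_b IH (LK LD1_c4 LD2_c2 LD3_c51) (LK LD1_c8 LD2_c6 LD3_c14) Lrfl Lrfl
theorem f196488 : Led Lsl_gt (LP (LK LD1_c8 LD2_c6 LD3_c14)) = (LP (LK LD1_c15 LD2_c15 LD3_c25)) :=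
  Lre_g IH (LK LD1_c8 LD2_c6 LD3_c14) (LK LD1_c15 LD2_c15 LD3_c25) Lrfl Lrfl
theorem f233897 : Led Lsl_bt (LP (LK LD1_c25 LD2_c4 LD3_c33)) = (LP (LK LD1_c15 LD2_c15 LD3_c25)) :=
  Lre_b IH (LK LD1_c25 LD2_c4 LD3_c33) (LK LD1_c15 LD2_c15 LD3_c25) Lrfl Lrfl
theorem f261672 : Led Lsl_ct (LP (LK LD1_c25 LD2_c4 LD3_c33)) = (LP (LK LD1_c15 LD2_c51 LD3_c59)) :=
  Lgr Lrot64 (Lpr_bt (f233897 IH) (Lpe (f196488 IH) (Lpe (f196477 IH) (Lpe (K13.f233891 IH) (Lpe (K13.f49157 IH) (Lpr_cf (K15.f234991 IH) (Lpe (K16.f258680 IH) (Lpe (K20.f213229 IH) (Lpr_ct (K20.f261658 IH) (Lpe (f221404 IH) (Lpn (LP (LK LD1_c15 LD2_c51 LD3_c59)))))))))))))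
theorem f261679 : Led Lsl_cf (LP (LK LD1_c25 LD2_c4 LD3_c33)) = (LP (LK LD1_c15 LD2_c51 LD3_c59)) :=
  Lgr Lrot11 (Lpr_ct (f261672 IH) (Lpn (LP (LK LD1_c15 LD2_c51 LD3_c59))))
theorem f389032 : Led Lsl_gf (LP (LK LD1_c15 LD2_c15 LD3_c45)) = (LP (LK LD1_c25 LD2_c4 LD3_c33)) :=
  Lgr Lrot129 (Lpe (K30.f369244 IH) (Lpe (K30.f389004 IH) (Lpr_gt (K30.f389028 IH) (Lpe (K30.f217953 IH) (Lpr_ct (K30.f217952 IH) (Lpe (f280823 IH) (Lpe (K20.f221398 IH) (Lpr_bt (f221397 IH) (Lpe (f221405 IH) (Lpe (f261679 IH) (Lpn (LP (LK LD1_c25 LD2_c4 LD3_c33)))))))))))))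
theorem f54203 : Led Lsl_ef (LP (LK LD1_c4 LD2_c19 LD3_c60)) = (LP (LK LD1_c5 LD2_c0 LD3_c39)) :=
  Lgr Lrot29 (Lpr_bt (K11.f31856 IH) (Lpr_et (K12.f54200 IH) (Lpr_bt (K16.f53719 IH) (Lpn (LP (LK LD1_c5 LD2_c0 LD3_c39))))))
theorem f235000 : Led Lsl_cf (LP (LK LD1_c5 LD2_c0 LD3_c39)) = (LP (LK LD1_c8 LD2_c57 LD3_c1)) :=
  Lgr Lrot39 (Lpe (f54203 IH) (Lpe (K11.f32983 IH) (Lpr_et (K16.f234995 IH) (Lpn (LP (LK LD1_c8 LD2_c57 LD3_c1))))))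
theorem f54227 : Led Lsl_gt (LP (LK LD1_c5 LD2_c0 LD3_c39)) = (LP (LK LD1_c9 LD2_c51 LD3_c35)) :=
  Lre_g IH (LK LD1_c5 LD2_c0 LD3_c39) (LK LD1_c9 LD2_c51 LD3_c35) Lrfl Lrfl
theorem f213421 : Led Lsl_ct (LP (LK LD1_c18 LD2_c2 LD3_c53)) = (LP (LK LD1_c9 LD2_c51 LD3_c35)) :=
  Lre_c IH (LK LD1_c18 LD2_c2 LD3_c53) (LK LD1_c9 LD2_c51 LD3_c35) Lrfl Lrfl
theorem f213423 : Led Lsl_bt (LP (LK LD1_c18 LD2_c2 LD3_c53)) = (LP (LK LD1_c27 LD2_c44 LD3_c35)) :=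
  Lre_b IH (LK LD1_c18 LD2_c2 LD3_c53) (LK LD1_c27 LD2_c44 LD3_c35) Lrfl Lrfl
theorem f261674 : Led Lsl_gt (LP (LK LD1_c27 LD2_c44 LD3_c35)) = (LP (LK LD1_c25 LD2_c4 LD3_c33)) :=
  Lgr Lrot82 (Lpe (f213423 IH) (Lpr_ct (f213421 IH) (Lpe (f54227 IH) (Lpr_cf (f235000 IH) (Lpr_bt (K16.f218731 IH) (Lpe (K16.f258680 IH) (Lpe (K20.f213229 IH) (Lpr_ct (K20.f261658 IH) (Lpe (f221404 IH) (Lpe (f261672 IH) (Lpn (LP (LK LD1_c25 LD2_c4 LD3_c33)))))))))))))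
theorem f389034 : Led Lsl_ff (LP (LK LD1_c25 LD2_c5 LD3_c17)) = (LP (LK LD1_c27 LD2_c44 LD3_c35)) :=
  Lgr Lrot52 (Lpr_at (K30.f388972 IH) (Lpr_gf (f389032 IH) (Lpe (f261674 IH) (Lpn (LP (LK LD1_c27 LD2_c44 LD3_c35))))))
theorem f389041 : Led Lsl_ft (LP (LK LD1_c25 LD2_c5 LD3_c17)) = (LP (LK LD1_c27 LD2_c44 LD3_c35)) :=
  Lgr Lrot48 (Lpr_ff (f389034 IH) (Lpn (LP (LK LD1_c27 LD2_c44 LD3_c35))))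
theorem f389045 : Led Lsl_bt (LP (LK LD1_c27 LD2_c44 LD3_c35)) = (LP (LK LD1_c18 LD2_c2 LD3_c53)) :=
  Lre_b IH (LK LD1_c27 LD2_c44 LD3_c35) (LK LD1_c18 LD2_c2 LD3_c53) Lrfl Lrfl
theorem f389046 : Led Lsl_ff (LP (LK LD1_c19 LD2_c46 LD3_c39)) = (LP (LK LD1_c18 LD2_c2 LD3_c53)) :=
  Lgr Lrot25 (Lpr_bt (K30.f388973 IH) (Lpr_ft (f389041 IH) (Lpr_bt (f389045 IH) (Lpn (LP (LK LD1_c18 LD2_c2 LD3_c53))))))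
theorem f213559 : Led Lsl_ct (LP (LK LD1_c19 LD2_c46 LD3_c39)) = (LP (LK LD1_c11 LD2_c2 LD3_c35)) :=
  Lgr Lrot59 (Lpr_cf (K30.f213557 IH) (Lpn (LP (LK LD1_c11 LD2_c2 LD3_c35))))
theorem f213420 : Led Lsl_ct (LP (LK LD1_c9 LD2_c51 LD3_c35)) = (LP (LK LD1_c18 LD2_c2 LD3_c53)) :=
  Lre_c IH (LK LD1_c9 LD2_c51 LD3_c35) (LK LD1_c18 LD2_c2 LD3_c53) Lrfl Lrfl
theorem f389050 : Led Lsl_ft (LP (LK LD1_c11 LD2_c2 LD3_c35)) = (LP (LK LD1_c9 LD2_c51 LD3_c35)) :=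
  Lgr Lrot4 (Lpe (f213559 IH) (Lpr_ff (f389046 IH) (Lpe (f213420 IH) (Lpn (LP (LK LD1_c9 LD2_c51 LD3_c35))))))
theorem f389060 : Led Lsl_ff (LP (LK LD1_c11 LD2_c2 LD3_c35)) = (LP (LK LD1_c9 LD2_c51 LD3_c35)) :=
  Lgr Lrot3 (Lpr_ft (f389050 IH) (Lpn (LP (LK LD1_c9 LD2_c51 LD3_c35))))
theorem f388952 : Led Lsl_at (LP (LK LD1_c11 LD2_c2 LD3_c35)) = (LP (LK LD1_c9 LD2_c51 LD3_c36)) :=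
  Lgr Lrot100 (Lpr_af (K30.f388950 IH) (Lpn (LP (LK LD1_c9 LD2_c51 LD3_c36))))
theorem f388939 : Led Lsl_ff (LP (LK LD1_c11 LD2_c2 LD3_c36)) = (LP (LK LD1_c9 LD2_c51 LD3_c36)) :=
  Lgr Lrot25 (Lpr_bt (K30.f213389 IH) (Lpr_ft (K30.f388937 IH) (Lpr_bt (K30.f213432 IH) (Lpn (LP (LK LD1_c9 LD2_c51 LD3_c36))))))
theorem f389062 : Led Lsl_at (LP (LK LD1_c11 LD2_c2 LD3_c36)) = (LP (LK LD1_c9 LD2_c51 LD3_c35)) :=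
  Lgr Lrot66 (Lpr_ff (f388939 IH) (Lpe (f388952 IH) (Lpr_ff (f389060 IH) (Lpn (LP (LK LD1_c9 LD2_c51 LD3_c35))))))
theorem f389066 : Led Lsl_af (LP (LK LD1_c15 LD2_c15 LD3_c40)) = (LP (LK LD1_c18 LD2_c2 LD3_c53)) :=
  Lgr Lrot68 (Lpe (K16.f213387 IH) (Lpr_at (f389062 IH) (Lpr_ct (f213420 IH) (Lpn (LP (LK LD1_c18 LD2_c2 LD3_c53))))))
theorem f389039 : Led Lsl_ft (LP (LK LD1_c19 LD2_c46 LD3_c39)) = (LP (LK LD1_c18 LD2_c2 LD3_c53)) :=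
  Lgr Lrot75 (Lpr_bf (K30.f388975 IH) (Lpr_ff (f389034 IH) (Lpe (f213423 IH) (Lpn (LP (LK LD1_c18 LD2_c2 LD3_c53))))))
theorem f389073 : Led Lsl_ft (LP (LK LD1_c15 LD2_c15 LD3_c40)) = (LP (LK LD1_c18 LD2_c2 LD3_c56)) :=
  Lgr Lrot101 (Lpr_af (f389066 IH) (Lpe (f389039 IH) (Lpr_af (K30.f388970 IH) (Lpn (LP (LK LD1_c18 LD2_c2 LD3_c56))))))
theorem f389075 : Led Lsl_bf (LP (LK LD1_c15 LD2_c15 LD3_c44)) = (LP (LK LD1_c18 LD2_c2 LD3_c56)) :=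
  Lgr Lrot61 (Lpr_ft (K30.f388625 IH) (Lpr_bt (K30.f213390 IH) (Lpr_ft (f389073 IH) (Lpn (LP (LK LD1_c18 LD2_c2 LD3_c56))))))
theorem f217270 : Led Lsl_bt (LP (LK LD1_c4 LD2_c2 LD3_c55)) = (LP (LK LD1_c8 LD2_c6 LD3_c24)) :=
  Lre_b IH (LK LD1_c4 LD2_c2 LD3_c55) (LK LD1_c8 LD2_c6 LD3_c24) Lrfl Lrfl
theorem f389081 : Led Lsl_gf (LP (LK LD1_c15 LD2_c15 LD3_c44)) = (LP (LK LD1_c8 LD2_c6 LD3_c24)) :=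
  Lgr Lrot124 (Lpr_bf (f389075 IH) (Lpr_ct (K30.f213431 IH) (Lpr_gt (K30.f54225 IH) (Lpr_cf (f235000 IH) (Lpr_bt (K16.f218731 IH) (Lpr_gt (K13.f218730 IH) (Lpr_ct (K15.f40800 IH) (Lpr_gt (K12.f218724 IH) (Lpe (K12.f50168 IH) (Lpr_bt (f217270 IH) (Lpn (LP (LK LD1_c8 LD2_c6 LD3_c24)))))))))))))
theorem f388623 : Led Lsl_bt (LP (LK LD1_c19 LD2_c49 LD3_c12)) = (LP (LK LD1_c15 LD2_c54 LD3_c32)) :=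
  Lgr Lrot35 (Lpr_ff (K30.f388621 IH) (Lpe (K30.f213391 IH) (Lpe (K30.f388529 IH) (Lpn (LP (LK LD1_c15 LD2_c54 LD3_c32))))))
theorem f50172 : Led Lsl_ct (LP (LK LD1_c4 LD2_c4 LD3_c15)) = (LP (LK LD1_c8 LD2_c6 LD3_c24)) :=
  Lre_c IH (LK LD1_c4 LD2_c4 LD3_c15) (LK LD1_c8 LD2_c6 LD3_c24) Lrfl Lrfl
theorem f52537 : Led Lsl_bt (LP (LK LD1_c4 LD2_c4 LD3_c15)) = (LP (LK LD1_c1 LD2_c59 LD3_c4)) :=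
  Lre_b IH (LK LD1_c4 LD2_c4 LD3_c15) (LK LD1_c1 LD2_c59 LD3_c4) Lrfl Lrfl
theorem f216390 : Led Lsl_gt (LP (LK LD1_c15 LD2_c53 LD3_c32)) = (LP (LK LD1_c8 LD2_c27 LD3_c51)) :=
  Lre_g IH (LK LD1_c15 LD2_c53 LD3_c32) (LK LD1_c8 LD2_c27 LD3_c51) Lrfl Lrfl
theorem f238415 : Led Lsl_bt (LP (LK LD1_c10 LD2_c58 LD3_c58)) = (LP (LK LD1_c5 LD2_c33 LD3_c29)) :=
  Lre_b IH (LK LD1_c10 LD2_c58 LD3_c58) (LK LD1_c5 LD2_c33 LD3_c29) Lrfl Lrfl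
theorem f275509 : Led Lsl_dt (LP (LK LD1_c5 LD2_c33 LD3_c29)) = (LP (LK LD1_c10 LD2_c58 LD3_c59)) :=
  Lre_d IH (LK LD1_c5 LD2_c33 LD3_c29) (LK LD1_c10 LD2_c58 LD3_c59) Lrfl Lrfl
theorem f275510 : Led Lsl_bt (LP (LK LD1_c10 LD2_c58 LD3_c59)) = (LP (LK LD1_c15 LD2_c9 LD3_c21)) :=
  Lgr Lrot95 (Lpe (f275509 IH) (Lpe (f238415 IH) (Lpr_df (K27.f275507 IH) (Lpn (LP (LK LD1_c15 LD2_c9 LD3_c21))))))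
theorem f275533 : Led Lsl_ct (LP (LK LD1_c10 LD2_c58 LD3_c59)) = (LP (LK LD1_c15 LD2_c53 LD3_c32)) :=
  Lgr Lrot64 (Lpr_bt (f275510 IH) (Lpe (K27.f187922 IH) (Lpe (K27.f187921 IH) (Lpr_ct (K12.f52271 IH) (Lpe (K10.f27977 IH) (Lpe (K10.f52236 IH) (Lpe (K12.f216384 IH) (Lpe (K19.f216386 IH) (Lpr_ct (K30.f216389 IH) (Lpe (f216390 IH) (Lpn (LP (LK LD1_c15 LD2_c53 LD3_c32)))))))))))))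
theorem f389085 : Led Lsl_gt (LP (LK LD1_c15 LD2_c54 LD3_c32)) = (LP (LK LD1_c10 LD2_c58 LD3_c59)) :=
  Lgr Lrot82 (Lpe (f388623 IH) (Lpr_ct (K30.f388626 IH) (Lpr_gf (f389081 IH) (Lpe (f50172 IH) (Lpr_bt (f52537 IH) (Lpe (K12.f216384 IH) (Lpe (K19.f216386 IH) (Lpr_ct (K30.f216389 IH) (Lpe (f216390 IH) (Lpe (f275533 IH) (Lpn (LP (LK LD1_c10 LD2_c58 LD3_c59)))))))))))))
theorem f275515 : Led Lsl_dt (LP (LK LD1_c10 LD2_c58 LD3_c59)) = (LP (LK LD1_c5 LD2_c33 LD3_c29)) :=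
  Lre_d IH (LK LD1_c10 LD2_c58 LD3_c59) (LK LD1_c5 LD2_c33 LD3_c29) Lrfl Lrfl
theorem f275540 : Led Lsl_ct (LP (LK LD1_c2 LD2_c42 LD3_c52)) = (LP (LK LD1_c5 LD2_c33 LD3_c29)) :=
  Lre_c IH (LK LD1_c2 LD2_c42 LD3_c52) (LK LD1_c5 LD2_c33 LD3_c29) Lrfl Lrfl
theorem f275541 : Led Lsl_dt (LP (LK LD1_c5 LD2_c33 LD3_c30)) = (LP (LK LD1_c2 LD2_c42 LD3_c52)) :=
  Lre_d IH (LK LD1_c5 LD2_c33 LD3_c30) (LK LD1_c2 LD2_c42 LD3_c52) Lrfl Lrfl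
theorem f387996 : Led Lsl_df (LP (LK LD1_c8 LD2_c27 LD3_c58)) = (LP (LK LD1_c5 LD2_c33 LD3_c36)) :=
  Lgr Lrot38 (Lpr_dt (K30.f387991 IH) (Lpn (LP (LK LD1_c5 LD2_c33 LD3_c36))))
theorem f275547 : Led Lsl_dt (LP (LK LD1_c2 LD2_c42 LD3_c52)) = (LP (LK LD1_c5 LD2_c33 LD3_c30)) :=
  Lre_d IH (LK LD1_c2 LD2_c42 LD3_c52) (LK LD1_c5 LD2_c33 LD3_c30) Lrfl Lrfl
theorem f388029 : Led Lsl_gf (LP (LK LD1_c2 LD2_c43 LD3_c15)) = (LP (LK LD1_c5 LD2_c33 LD3_c30)) :=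
  Lgr Lrot143 (Lpr_dt (K20.f179180 IH) (Lpe (K20.f179300 IH) (Lpr_df (K19.f228256 IH) (Lpe (K30.f235263 IH) (Lpr_df (f387996 IH) (Lpr_gf (K24.f379799 IH) (Lpe (K24.f379797 IH) (Lpr_gt (K30.f319836 IH) (Lpr_dt (f275547 IH) (Lpn (LP (LK LD1_c5 LD2_c33 LD3_c30))))))))))))
theorem f388031 : Led Lsl_gt (LP (LK LD1_c8 LD2_c59 LD3_c33)) = (LP (LK LD1_c5 LD2_c33 LD3_c30)) :=
  Lgr Lrot5 (Lpr_ft (K30.f319306 IH) (Lpr_at (K30.f179491 IH) (Lpr_gf (f388029 IH) (Lpn (LP (LK LD1_c5 LD2_c33 LD3_c30))))))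
theorem f178074 : Led Lsl_gt (LP (LK LD1_c5 LD2_c39 LD3_c24)) = (LP (LK LD1_c11 LD2_c9 LD3_c50)) :=
  Lre_g IH (LK LD1_c5 LD2_c39 LD3_c24) (LK LD1_c11 LD2_c9 LD3_c50) Lrfl Lrfl
theorem f389089 : Led Lsl_df (LP (LK LD1_c15 LD2_c54 LD3_c32)) = (LP (LK LD1_c11 LD2_c9 LD3_c50)) :=
  Lgr Lrot153 (Lpr_gt (f389085 IH) (Lpr_dt (f275515 IH) (Lpe (f275540 IH) (Lpe (f275541 IH) (Lpe (f388031 IH) (Lpe (K30.f354503 IH) (Lpr_gf (K30.f319294 IH) (Lpe (K22.f179227 IH) (Lpr_gt (f178074 IH) (Lpn (LP (LK LD1_c11 LD2_c9 LD3_c50))))))))))))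
theorem f389091 : Led Lsl_gt (LP (LK LD1_c11 LD2_c9 LD3_c50)) = (LP (LK LD1_c5 LD2_c39 LD3_c28)) :=
  Lgr Lrot146 (Lpe (f389089 IH) (Lpr_gt (f389085 IH) (Lpr_ct (f275533 IH) (Lpr_gt (f216390 IH) (Lpr_ct (K30.f216387 IH) (Lpe (K19.f228256 IH) (Lpe (K22.f178140 IH) (Lpe (K20.f178122 IH) (Lpe (K30.f179470 IH) (Lpn (LP (LK LD1_c5 LD2_c39 LD3_c28))))))))))))
theorem f389103 : Led Lsl_df (LP (LK LD1_c11 LD2_c9 LD3_c50)) = (LP (LK LD1_c15 LD2_c54 LD3_c32)) :=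
  Lgr Lrot155 (Lpr_gt (f389091 IH) (Lpr_ct (K30.f179470 IH) (Lpr_gt (K20.f178122 IH) (Lpr_ct (K22.f178140 IH) (Lpr_dt (K30.f387851 IH) (Lpe (K30.f216387 IH) (Lpe (f216390 IH) (Lpe (f275533 IH) (Lpe (f389085 IH) (Lpn (LP (LK LD1_c15 LD2_c54 LD3_c32))))))))))))
theorem f178076 : Led Lsl_gt (LP (LK LD1_c5 LD2_c36 LD3_c19)) = (LP (LK LD1_c2 LD2_c44 LD3_c2)) :=
  Lre_g IH (LK LD1_c5 LD2_c36 LD3_c19) (LK LD1_c2 LD2_c44 LD3_c2) Lrfl Lrfl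
theorem f178077 : Led Lsl_bt (LP (LK LD1_c11 LD2_c4 LD3_c54)) = (LP (LK LD1_c5 LD2_c36 LD3_c19)) :=
  Lre_b IH (LK LD1_c11 LD2_c4 LD3_c54) (LK LD1_c5 LD2_c36 LD3_c19) Lrfl Lrfl
theorem f178078 : Led Lsl_cf (LP (LK LD1_c11 LD2_c9 LD3_c50)) = (LP (LK LD1_c11 LD2_c4 LD3_c54)) :=
  Lgr Lrot163 (Lpe (f178074 IH) (Lpe (K30.f178073 IH) (Lpe (K22.f171867 IH) (Lpe (K20.f171866 IH) (Lpr_ct (K9.f171861 IH) (Lpr_gf (K9.f177920 IH) (Lpe (K12.f177922 IH) (Lpr_bt (K30.f178075 IH) (Lpe (f178076 IH) (Lpe (f178077 IH) (Lpn (LP (LK LD1_c11 LD2_c4 LD3_c54)))))))))))))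
theorem f289601 : Led Lsl_ct (LP (LK LD1_c11 LD2_c10 LD3_c5)) = (LP (LK LD1_c5 LD2_c39 LD3_c29)) :=
  Lre_c IH (LK LD1_c11 LD2_c10 LD3_c5) (LK LD1_c5 LD2_c39 LD3_c29) Lrfl Lrfl
theorem f332408 : Led Lsl_at (LP (LK LD1_c19 LD2_c20 LD3_c58)) = (LP (LK LD1_c17 LD2_c53 LD3_c17)) :=
  Lgr Lrot100 (Lpr_af (K22.f332391 IH) (Lpn (LP (LK LD1_c17 LD2_c53 LD3_c17))))
theorem f384895 : Led Lsl_at (LP (LK LD1_c19 LD2_c49 LD3_c53)) = (LP (LK LD1_c20 LD2_c4 LD3_c29)) :=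
  Lgr Lrot107 (Lpr_cf (K22.f332508 IH) (Lpe (f332408 IH) (Lpr_cf (K30.f384893 IH) (Lpn (LP (LK LD1_c20 LD2_c4 LD3_c29))))))
theorem f168814 : Led Lsl_ct (LP (LK LD1_c17 LD2_c53 LD3_c36)) = (LP (LK LD1_c9 LD2_c44 LD3_c16)) :=
  Lre_c IH (LK LD1_c17 LD2_c53 LD3_c36) (LK LD1_c9 LD2_c44 LD3_c16) Lrfl Lrfl
theorem f332513 : Led Lsl_ft (LP (LK LD1_c19 LD2_c49 LD3_c53)) = (LP (LK LD1_c17 LD2_c53 LD3_c36)) :=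
  Lgr Lrot4 (Lpr_cf (K22.f332508 IH) (Lpe (K22.f332413 IH) (Lpe (f168814 IH) (Lpn (LP (LK LD1_c17 LD2_c53 LD3_c36))))))
theorem f332515 : Led Lsl_ff (LP (LK LD1_c19 LD2_c49 LD3_c53)) = (LP (LK LD1_c17 LD2_c53 LD3_c36)) :=
  Lgr Lrot3 (Lpr_ft (f332513 IH) (Lpn (LP (LK LD1_c17 LD2_c53 LD3_c36))))
theorem f387823 : Led Lsl_gf (LP (LK LD1_c11 LD2_c10 LD3_c5)) = (LP (LK LD1_c17 LD2_c53 LD3_c36)) :=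
  Lgr Lrot47 (Lpr_gt (K30.f387819 IH) (Lpe (f384895 IH) (Lpr_ff (f332515 IH) (Lpn (LP (LK LD1_c17 LD2_c53 LD3_c36))))))
theorem f332433 : Led Lsl_ct (LP (LK LD1_c9 LD2_c44 LD3_c16)) = (LP (LK LD1_c17 LD2_c53 LD3_c36)) :=
  Lre_c IH (LK LD1_c9 LD2_c44 LD3_c16) (LK LD1_c17 LD2_c53 LD3_c36) Lrfl Lrfl
theorem f332431 : Led Lsl_gt (LP (LK LD1_c10 LD2_c55 LD3_c3)) = (LP (LK LD1_c9 LD2_c44 LD3_c16)) :=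
  Lgr Lrot46 (Lpr_gf (K22.f226126 IH) (Lpr_ft (K22.f332415 IH) (Lpr_at (K22.f332414 IH) (Lpn (LP (LK LD1_c9 LD2_c44 LD3_c16))))))
theorem f388236 : Led Lsl_df (LP (LK LD1_c10 LD2_c55 LD3_c3)) = (LP (LK LD1_c8 LD2_c56 LD3_c43)) :=
  Lgr Lrot12 (Lpr_bt (K22.f226032 IH) (Lpr_dt (K30.f388230 IH) (Lpr_bt (K30.f319151 IH) (Lpn (LP (LK LD1_c8 LD2_c56 LD3_c43))))))
theorem f389101 : Led Lsl_gf (LP (LK LD1_c11 LD2_c4 LD3_c54)) = (LP (LK LD1_c8 LD2_c56 LD3_c43)) :=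
  Lgr Lrot147 (Lpe (f178078 IH) (Lpr_gt (f389091 IH) (Lpr_ct (K30.f179470 IH) (Lpe (K22.f179469 IH) (Lpe (f289601 IH) (Lpr_gf (f387823 IH) (Lpe (f332433 IH) (Lpe (f332431 IH) (Lpr_df (f388236 IH) (Lpn (LP (LK LD1_c8 LD2_c56 LD3_c43))))))))))))
theorem f387846 : Led Lsl_at (LP (LK LD1_c8 LD2_c27 LD3_c59)) = (LP (LK LD1_c4 LD2_c14 LD3_c36)) :=
  Lre_a IH (LK LD1_c8 LD2_c27 LD3_c59) (LK LD1_c4 LD2_c14 LD3_c36) Lrfl Lrfl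
theorem f387847 : Led Lsl_ft (LP (LK LD1_c8 LD2_c9 LD3_c0)) = (LP (LK LD1_c8 LD2_c27 LD3_c59)) :=
  Lgr Lrot101 (Lpe (K30.f314890 IH) (Lpr_ff (K30.f387838 IH) (Lpe (f387846 IH) (Lpn (LP (LK LD1_c8 LD2_c27 LD3_c59))))))
theorem f387873 : Led Lsl_dt (LP (LK LD1_c8 LD2_c9 LD3_c47)) = (LP (LK LD1_c8 LD2_c9 LD3_c0)) :=
  Lgr Lrot60 (Lpr_ff (K30.f314863 IH) (Lpr_df (K30.f387856 IH) (Lpe (f387847 IH) (Lpn (LP (LK LD1_c8 LD2_c9 LD3_c0))))))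
theorem f354524 : Led Lsl_bt (LP (LK LD1_c8 LD2_c27 LD3_c38)) = (LP (LK LD1_c8 LD2_c9 LD3_c47)) :=
  Lgr Lrot127 (Lpr_bf (K30.f354522 IH) (Lpn (LP (LK LD1_c8 LD2_c9 LD3_c47))))
theorem f387876 : Led Lsl_bf (LP (LK LD1_c5 LD2_c33 LD3_c32)) = (LP (LK LD1_c8 LD2_c9 LD3_c0)) :=
  Lgr Lrot93 (Lpe (K24.f238457 IH) (Lpr_bt (f354524 IH) (Lpr_dt (f387873 IH) (Lpn (LP (LK LD1_c8 LD2_c9 LD3_c0))))))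
theorem f319644 : Led Lsl_at (LP (LK LD1_c8 LD2_c8 LD3_c56)) = (LP (LK LD1_c4 LD2_c4 LD3_c7)) :=
  Lre_a IH (LK LD1_c8 LD2_c8 LD3_c56) (LK LD1_c4 LD2_c4 LD3_c7) Lrfl Lrfl
theorem f319737 : Led Lsl_ff (LP (LK LD1_c8 LD2_c8 LD3_c56)) = (LP (LK LD1_c5 LD2_c33 LD3_c32)) :=
  Lgr Lrot30 (Lpr_at (f319644 IH) (Lpr_ft (K20.f319735 IH) (Lpr_at (K24.f220945 IH) (Lpn (LP (LK LD1_c5 LD2_c33 LD3_c32))))))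
theorem f387867 : Led Lsl_bt (LP (LK LD1_c8 LD2_c8 LD3_c56)) = (LP (LK LD1_c8 LD2_c27 LD3_c59)) :=
  Lgr Lrot95 (Lpe (K24.f379786 IH) (Lpr_bf (K30.f354533 IH) (Lpr_df (K30.f387856 IH) (Lpn (LP (LK LD1_c8 LD2_c27 LD3_c59))))))
theorem f387878 : Led Lsl_ft (LP (LK LD1_c8 LD2_c27 LD3_c59)) = (LP (LK LD1_c8 LD2_c9 LD3_c0)) :=
  Lgr Lrot75 (Lpe (f387867 IH) (Lpr_ff (f319737 IH) (Lpr_bf (f387876 IH) (Lpn (LP (LK LD1_c8 LD2_c9 LD3_c0))))))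
theorem f200762 : Led Lsl_gt (LP (LK LD1_c8 LD2_c8 LD3_c61)) = (LP (LK LD1_c4 LD2_c4 LD3_c9)) :=
  Lre_g IH (LK LD1_c8 LD2_c8 LD3_c61) (LK LD1_c4 LD2_c4 LD3_c9) Lrfl Lrfl
theorem f387882 : Led Lsl_gt (LP (LK LD1_c8 LD2_c27 LD3_c59)) = (LP (LK LD1_c8 LD2_c8 LD3_c61)) :=
  Lgr Lrot5 (Lpr_ft (f387878 IH) (Lpr_at (K30.f314461 IH) (Lpe (f200762 IH) (Lpn (LP (LK LD1_c8 LD2_c8 LD3_c61))))))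
theorem f387880 : Led Lsl_ct (LP (LK LD1_c8 LD2_c8 LD3_c61)) = (LP (LK LD1_c15 LD2_c20 LD3_c45)) :=
  Lre_c IH (LK LD1_c8 LD2_c8 LD3_c61) (LK LD1_c15 LD2_c20 LD3_c45) Lrfl Lrfl
theorem f389308 : Led Lsl_gt (LP (LK LD1_c15 LD2_c20 LD3_c45)) = (LP (LK LD1_c18 LD2_c2 LD3_c55)) :=
  Lgr Lrot150 (Lpe (f387880 IH) (Lpe (f387882 IH) (Lpe (K30.f387869 IH) (Lpe (K30.f385083 IH) (Lpe (K30.f319156 IH) (Lpe (f389101 IH) (Lpe (f178078 IH) (Lpr_df (f389103 IH) (Lpr_cf (K30.f388928 IH) (Lpn (LP (LK LD1_c18 LD2_c2 LD3_c55))))))))))))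
theorem f389559 : Led Lsl_gf (LP (LK LD1_c15 LD2_c20 LD3_c45)) = (LP (LK LD1_c25 LD2_c11 LD3_c57)) :=
  Lgr Lrot47 (Lpr_gt (f389308 IH) (Lpe (K30.f388931 IH) (Lpr_ff (K30.f389551 IH) (Lpn (LP (LK LD1_c25 LD2_c11 LD3_c57))))))
theorem f388494 : Led Lsl_bt (LP (LK LD1_c8 LD2_c8 LD3_c61)) = (LP (LK LD1_c15 LD2_c20 LD3_c44)) :=
  Lre_b IH (LK LD1_c8 LD2_c8 LD3_c61) (LK LD1_c15 LD2_c20 LD3_c44) Lrfl Lrfl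
theorem f52696 : Led Lsl_ft (LP (LK LD1_c4 LD2_c14 LD3_c50)) = (LP (LK LD1_c2 LD2_c4 LD3_c45)) :=
  Lre_f IH (LK LD1_c4 LD2_c14 LD3_c50) (LK LD1_c2 LD2_c4 LD3_c45) Lrfl Lrfl
theorem f52794 : Led Lsl_at (LP (LK LD1_c2 LD2_c4 LD3_c45)) = (LP (LK LD1_c4 LD2_c14 LD3_c48)) :=
  Lre_a IH (LK LD1_c2 LD2_c4 LD3_c45) (LK LD1_c4 LD2_c14 LD3_c48) Lrfl Lrfl
theorem f389026 : Led Lsl_gt (LP (LK LD1_c8 LD2_c28 LD3_c22)) = (LP (LK LD1_c4 LD2_c14 LD3_c48)) :=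
  Lgr Lrot46 (Lpr_gf (K30.f389022 IH) (Lpr_ft (f52696 IH) (Lpr_at (f52794 IH) (Lpn (LP (LK LD1_c4 LD2_c14 LD3_c48))))))
theorem f388682 : Led Lsl_ft (LP (LK LD1_c8 LD2_c28 LD3_c22)) = (LP (LK LD1_c4 LD2_c14 LD3_c46)) :=
  Lre_f IH (LK LD1_c8 LD2_c28 LD3_c22) (LK LD1_c4 LD2_c14 LD3_c46) Lrfl Lrfl
theorem f389536 : Led Lsl_gf (LP (LK LD1_c8 LD2_c28 LD3_c17)) = (LP (LK LD1_c4 LD2_c14 LD3_c48)) :=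
  Lgr Lrot76 (Lpe (K30.f388521 IH) (Lpe (f388682 IH) (Lpr_gt (f389026 IH) (Lpn (LP (LK LD1_c4 LD2_c14 LD3_c48))))))
theorem f51155 : Led Lsl_bt (LP (LK LD1_c8 LD2_c25 LD3_c50)) = (LP (LK LD1_c4 LD2_c14 LD3_c48)) :=
  Lre_b IH (LK LD1_c8 LD2_c25 LD3_c50) (LK LD1_c4 LD2_c14 LD3_c48) Lrfl Lrfl
theorem f196916 : Led Lsl_ct (LP (LK LD1_c19 LD2_c17 LD3_c20)) = (LP (LK LD1_c10 LD2_c38 LD3_c58)) :=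
  Lre_c IH (LK LD1_c19 LD2_c17 LD3_c20) (LK LD1_c10 LD2_c38 LD3_c58) Lrfl Lrfl
theorem f389561 : Led Lsl_gt (LP (LK LD1_c15 LD2_c20 LD3_c44)) = (LP (LK LD1_c19 LD2_c17 LD3_c20)) :=
  Lgr Lrot82 (Lpe (f388494 IH) (Lpr_ct (f387880 IH) (Lpr_gf (f389559 IH) (Lpe (K30.f389543 IH) (Lpr_bt (K30.f388922 IH) (Lpr_gf (f389536 IH) (Lpe (f51155 IH) (Lpr_ct (K10.f51156 IH) (Lpr_gf (K12.f218887 IH) (Lpe (f196916 IH) (Lpn (LP (LK LD1_c19 LD2_c17 LD3_c20)))))))))))))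
theorem f238488 : Led Lsl_ct (LP (LK LD1_c2 LD2_c42 LD3_c53)) = (LP (LK LD1_c5 LD2_c33 LD3_c32)) :=
  Lre_c IH (LK LD1_c2 LD2_c42 LD3_c53) (LK LD1_c5 LD2_c33 LD3_c32) Lrfl Lrfl
theorem f319768 : Led Lsl_gf (LP (LK LD1_c8 LD2_c8 LD3_c55)) = (LP (LK LD1_c5 LD2_c33 LD3_c32)) :=
  Lgr Lrot129 (Lpr_cf (K30.f319646 IH) (Lpr_bt (K30.f280828 IH) (Lpe (f280823 IH) (Lpr_bf (K20.f281153 IH) (Lpr_ct (K20.f281083 IH) (Lpe (K24.f281469 IH) (Lpe (K24.f168109 IH) (Lpr_bt (K24.f168106 IH) (Lpr_gt (K22.f319765 IH) (Lpr_ct (f238488 IH) (Lpn (LP (LK LD1_c5 LD2_c33 LD3_c32)))))))))))))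
theorem f318403 : Led Lsl_dt (LP (LK LD1_c4 LD2_c30 LD3_c5)) = (LP (LK LD1_c8 LD2_c58 LD3_c20)) :=
  Lre_d IH (LK LD1_c4 LD2_c30 LD3_c5) (LK LD1_c8 LD2_c58 LD3_c20) Lrfl Lrfl
theorem f247329 : Led Lsl_ct (LP (LK LD1_c4 LD2_c4 LD3_c25)) = (LP (LK LD1_c2 LD2_c12 LD3_c23)) :=
  Lgr Lrot83 (Lpe (K19.f223737 IH) (Lpe (K12.f223732 IH) (Lpr_bf (K14.f247327 IH) (Lpe (K12.f167838 IH) (Lpe (K20.f225420 IH) (Lpn (LP (LK LD1_c2 LD2_c12 LD3_c23))))))))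
theorem f387829 : Led Lsl_dt (LP (LK LD1_c8 LD2_c8 LD3_c55)) = (LP (LK LD1_c8 LD2_c8 LD3_c61)) :=
  Lgr Lrot57 (Lpr_gf (f319768 IH) (Lpe (f238488 IH) (Lpr_gt (K30.f387825 IH) (Lpr_dt (f318403 IH) (Lpr_gt (K20.f318593 IH) (Lpe (K20.f225699 IH) (Lpe (f247329 IH) (Lpr_df (K30.f314893 IH) (Lpe (f200762 IH) (Lpn (LP (LK LD1_c8 LD2_c8 LD3_c61))))))))))))
theorem f388450 : Led Lsl_dt (LP (LK LD1_c15 LD2_c54 LD3_c31)) = (LP (LK LD1_c8 LD2_c58 LD3_c15)) :=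
  Lgr Lrot27 (Lpr_cf (K30.f387924 IH) (Lpe (K30.f52304 IH) (Lpe (K30.f52303 IH) (Lpe (f200762 IH) (Lpe (f387829 IH) (Lpr_gt (K30.f319645 IH) (Lpr_ct (K20.f196405 IH) (Lpr_gt (K22.f167919 IH) (Lpr_ct (K22.f168162 IH) (Lpn (LP (LK LD1_c8 LD2_c58 LD3_c15))))))))))))
theorem f388452 : Led Lsl_df (LP (LK LD1_c15 LD2_c54 LD3_c31)) = (LP (LK LD1_c8 LD2_c58 LD3_c15)) :=
  Lgr Lrot38 (Lpr_dt (f388450 IH) (Lpn (LP (LK LD1_c8 LD2_c58 LD3_c15))))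
theorem f388477 : Led Lsl_dt (LP (LK LD1_c8 LD2_c8 LD3_c61)) = (LP (LK LD1_c8 LD2_c8 LD3_c55)) :=
  Lgr Lrot6 (Lpr_gt (f200762 IH) (Lpr_ct (K30.f52303 IH) (Lpr_gt (K30.f52304 IH) (Lpe (K30.f387924 IH) (Lpr_df (f388452 IH) (Lpe (K22.f168162 IH) (Lpe (K22.f167919 IH) (Lpe (K20.f196405 IH) (Lpe (K30.f319645 IH) (Lpn (LP (LK LD1_c8 LD2_c8 LD3_c55))))))))))))
theorem f200763 : Led Lsl_bt (LP (LK LD1_c15 LD2_c20 LD3_c44)) = (LP (LK LD1_c8 LD2_c8 LD3_c61)) :=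
  Lre_b IH (LK LD1_c15 LD2_c20 LD3_c44) (LK LD1_c8 LD2_c8 LD3_c61) Lrfl Lrfl
theorem f388479 : Led Lsl_df (LP (LK LD1_c15 LD2_c20 LD3_c44)) = (LP (LK LD1_c15 LD2_c20 LD3_c32)) :=
  Lgr Lrot12 (Lpr_bt (f200763 IH) (Lpr_dt (f388477 IH) (Lpr_bt (K30.f319648 IH) (Lpn (LP (LK LD1_c15 LD2_c20 LD3_c32))))))
theorem f388491 : Led Lsl_dt (LP (LK LD1_c15 LD2_c20 LD3_c44)) = (LP (LK LD1_c15 LD2_c20 LD3_c32)) :=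
  Lgr Lrot42 (Lpr_df (f388479 IH) (Lpn (LP (LK LD1_c15 LD2_c20 LD3_c32))))
theorem f52733 : Led Lsl_df (LP (LK LD1_c8 LD2_c25 LD3_c50)) = (LP (LK LD1_c8 LD2_c28 LD3_c16)) :=
  Lgr Lrot38 (Lpr_dt (K10.f52724 IH) (Lpn (LP (LK LD1_c8 LD2_c28 LD3_c16))))
theorem f52747 : Led Lsl_ct (LP (LK LD1_c15 LD2_c52 LD3_c4)) = (LP (LK LD1_c8 LD2_c28 LD3_c16)) :=
  Lre_c IH (LK LD1_c15 LD2_c52 LD3_c4) (LK LD1_c8 LD2_c28 LD3_c16) Lrfl Lrfl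
theorem f52752 : Led Lsl_ct (LP (LK LD1_c15 LD2_c52 LD3_c7)) = (LP (LK LD1_c8 LD2_c27 LD3_c5)) :=
  Lre_c IH (LK LD1_c15 LD2_c52 LD3_c7) (LK LD1_c8 LD2_c27 LD3_c5) Lrfl Lrfl
theorem f389563 : Led Lsl_gt (LP (LK LD1_c15 LD2_c20 LD3_c32)) = (LP (LK LD1_c15 LD2_c52 LD3_c7)) :=
  Lgr Lrot9 (Lpe (f388491 IH) (Lpr_gt (f389561 IH) (Lpr_ct (f196916 IH) (Lpe (K12.f218887 IH) (Lpr_ct (K10.f51147 IH) (Lpr_df (f52733 IH) (Lpe (f52747 IH) (Lpe (K15.f52751 IH) (Lpe (f52752 IH) (Lpn (LP (LK LD1_c15 LD2_c52 LD3_c7))))))))))))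
theorem f319653 : Led Lsl_ct (LP (LK LD1_c8 LD2_c8 LD3_c55)) = (LP (LK LD1_c8 LD2_c57 LD3_c61)) :=
  Lgr Lrot59 (Lpr_cf (K30.f319646 IH) (Lpn (LP (LK LD1_c8 LD2_c57 LD3_c61))))
theorem f280826 : Led Lsl_ct (LP (LK LD1_c4 LD2_c29 LD3_c56)) = (LP (LK LD1_c8 LD2_c58 LD3_c0)) :=
  Lre_c IH (LK LD1_c4 LD2_c29 LD3_c56) (LK LD1_c8 LD2_c58 LD3_c0) Lrfl Lrfl
theorem f319656 : Led Lsl_cf (LP (LK LD1_c15 LD2_c20 LD3_c32)) = (LP (LK LD1_c16 LD2_c46 LD3_c55)) :=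
  Lgr Lrot97 (Lpr_bt (K30.f319655 IH) (Lpr_ct (f319653 IH) (Lpr_bt (K30.f280828 IH) (Lpr_ct (f280826 IH) (Lpr_bt (K30.f217953 IH) (Lpn (LP (LK LD1_c16 LD2_c46 LD3_c55))))))))
theorem f261678 : Led Lsl_bt (LP (LK LD1_c15 LD2_c51 LD3_c59)) = (LP (LK LD1_c25 LD2_c47 LD3_c41)) :=
  Lre_b IH (LK LD1_c15 LD2_c51 LD3_c59) (LK LD1_c25 LD2_c47 LD3_c41) Lrfl Lrfl
theorem f218035 : Led Lsl_ct (LP (LK LD1_c8 LD2_c27 LD3_c5)) = (LP (LK LD1_c15 LD2_c52 LD3_c7)) :=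
  Lre_c IH (LK LD1_c8 LD2_c27 LD3_c5) (LK LD1_c15 LD2_c52 LD3_c7) Lrfl Lrfl
theorem f218026 : Led Lsl_bt (LP (LK LD1_c8 LD2_c27 LD3_c5)) = (LP (LK LD1_c15 LD2_c52 LD3_c6)) :=
  Lre_b IH (LK LD1_c8 LD2_c27 LD3_c5) (LK LD1_c15 LD2_c52 LD3_c6) Lrfl Lrfl
theorem f389567 : Led Lsl_gf (LP (LK LD1_c25 LD2_c47 LD3_c41)) = (LP (LK LD1_c15 LD2_c52 LD3_c6)) :=
  Lgr Lrot124 (Lpe (f261678 IH) (Lpe (f261679 IH) (Lpe (f389032 IH) (Lpe (K30.f369244 IH) (Lpe (K30.f389004 IH) (Lpr_gt (K30.f389028 IH) (Lpe (f319656 IH) (Lpr_gt (f389563 IH) (Lpe (f218035 IH) (Lpr_bt (f218026 IH) (Lpn (LP (LK LD1_c15 LD2_c52 LD3_c6)))))))))))))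
theorem f389006 : Led Lsl_ft (LP (LK LD1_c15 LD2_c15 LD3_c45)) = (LP (LK LD1_c25 LD2_c5 LD3_c6)) :=
  Lre_f IH (LK LD1_c15 LD2_c15 LD3_c45) (LK LD1_c25 LD2_c5 LD3_c6) Lrfl Lrfl
theorem f389037 : Led Lsl_at (LP (LK LD1_c25 LD2_c5 LD3_c6)) = (LP (LK LD1_c27 LD2_c44 LD3_c35)) :=
  Lgr Lrot66 (Lpe (f389006 IH) (Lpe (K30.f388972 IH) (Lpr_ff (f389034 IH) (Lpn (LP (LK LD1_c27 LD2_c44 LD3_c35))))))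
theorem f296774 : Led Lsl_gt (LP (LK LD1_c15 LD2_c15 LD3_c45)) = (LP (LK LD1_c25 LD2_c5 LD3_c16)) :=
  Lre_g IH (LK LD1_c15 LD2_c15 LD3_c45) (LK LD1_c25 LD2_c5 LD3_c16) Lrfl Lrfl
theorem f389333 : Led Lsl_gt (LP (LK LD1_c25 LD2_c5 LD3_c16)) = (LP (LK LD1_c27 LD2_c44 LD3_c35)) :=
  Lgr Lrot46 (Lpe (f296774 IH) (Lpr_ft (f389006 IH) (Lpr_at (f389037 IH) (Lpn (LP (LK LD1_c27 LD2_c44 LD3_c35))))))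
theorem f168167 : Led Lsl_bt (LP (LK LD1_c1 LD2_c17 LD3_c46)) = (LP (LK LD1_c2 LD2_c42 LD3_c21)) :=
  Lre_b IH (LK LD1_c1 LD2_c17 LD3_c46) (LK LD1_c2 LD2_c42 LD3_c21) Lrfl Lrfl
theorem f168163 : Led Lsl_bt (LP (LK LD1_c10 LD2_c56 LD3_c14)) = (LP (LK LD1_c5 LD2_c32 LD3_c18)) :=
  Lre_b IH (LK LD1_c10 LD2_c56 LD3_c14) (LK LD1_c5 LD2_c32 LD3_c18) Lrfl Lrfl
theorem f168119 : Led Lsl_bt (LP (LK LD1_c4 LD2_c30 LD3_c4)) = (LP (LK LD1_c8 LD2_c58 LD3_c14)) :=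
  Lre_b IH (LK LD1_c4 LD2_c30 LD3_c4) (LK LD1_c8 LD2_c58 LD3_c14) Lrfl Lrfl
theorem f168121 : Led Lsl_bt (LP (LK LD1_c16 LD2_c47 LD3_c13)) = (LP (LK LD1_c8 LD2_c58 LD3_c15)) :=
  Lre_b IH (LK LD1_c16 LD2_c47 LD3_c13) (LK LD1_c8 LD2_c58 LD3_c15) Lrfl Lrfl
theorem f168122 : Led Lsl_bt (LP (LK LD1_c5 LD2_c32 LD3_c18)) = (LP (LK LD1_c10 LD2_c56 LD3_c14)) :=
  Lre_b IH (LK LD1_c5 LD2_c32 LD3_c18) (LK LD1_c10 LD2_c56 LD3_c14) Lrfl Lrfl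
theorem f168123 : Led Lsl_cf (LP (LK LD1_c16 LD2_c47 LD3_c13)) = (LP (LK LD1_c10 LD2_c56 LD3_c14)) :=
  Lgr Lrot97 (Lpr_bt (f168121 IH) (Lpr_ct (K22.f168120 IH) (Lpr_bt (f168119 IH) (Lpr_ct (K24.f168109 IH) (Lpr_bt (f168122 IH) (Lpn (LP (LK LD1_c10 LD2_c56 LD3_c14))))))))
theorem f196397 : Led Lsl_gt (LP (LK LD1_c15 LD2_c15 LD3_c41)) = (LP (LK LD1_c16 LD2_c47 LD3_c13)) :=
  Lgr Lrot149 (Lpe (K30.f196396 IH) (Lpe (K16.f50287 IH) (Lpe (K16.f50182 IH) (Lpr_ct (K13.f50186 IH) (Lpr_gf (K10.f196391 IH) (Lpe (K12.f168168 IH) (Lpr_bt (f168167 IH) (Lpe (K24.f168108 IH) (Lpe (f168163 IH) (Lpe (f168123 IH) (Lpn (LP (LK LD1_c16 LD2_c47 LD3_c13)))))))))))))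
theorem f388657 : Led Lsl_gt (LP (LK LD1_c16 LD2_c47 LD3_c13)) = (LP (LK LD1_c15 LD2_c15 LD3_c46)) :=
  Lgr Lrot46 (Lpe (f196397 IH) (Lpe (K30.f388621 IH) (Lpr_at (K30.f388650 IH) (Lpn (LP (LK LD1_c15 LD2_c15 LD3_c46))))))
theorem f232133 : Led Lsl_bt (LP (LK LD1_c4 LD2_c29 LD3_c26)) = (LP (LK LD1_c2 LD2_c11 LD3_c48)) :=
  Lre_b IH (LK LD1_c4 LD2_c29 LD3_c26) (LK LD1_c2 LD2_c11 LD3_c48) Lrfl Lrfl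
theorem f261935 : Led Lsl_bf (LP (LK LD1_c8 LD2_c57 LD3_c4)) = (LP (LK LD1_c15 LD2_c15 LD3_c13)) :=
  Lgr Lrot81 (Lpr_at (K20.f261934 IH) (Lpr_bt (f232133 IH) (Lpr_at (K15.f261923 IH) (Lpr_bt (K20.f213228 IH) (Lpr_at (K24.f213324 IH) (Lpn (LP (LK LD1_c15 LD2_c15 LD3_c13))))))))
theorem f221412 : Led Lsl_at (LP (LK LD1_c10 LD2_c53 LD3_c27)) = (LP (LK LD1_c5 LD2_c30 LD3_c60)) :=
  Lre_a IH (LK LD1_c10 LD2_c53 LD3_c27) (LK LD1_c5 LD2_c30 LD3_c60) Lrfl Lrfl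
theorem f261656 : Led Lsl_ct (LP (LK LD1_c15 LD2_c15 LD3_c13)) = (LP (LK LD1_c10 LD2_c53 LD3_c27)) :=
  Lgr Lrot111 (Lpe (K24.f213324 IH) (Lpr_cf (K20.f261652 IH) (Lpe (f221412 IH) (Lpn (LP (LK LD1_c10 LD2_c53 LD3_c27))))))
theorem f221393 : Led Lsl_gt (LP (LK LD1_c8 LD2_c27 LD3_c2)) = (LP (LK LD1_c15 LD2_c51 LD3_c58)) :=
  Lre_g IH (LK LD1_c8 LD2_c27 LD3_c2) (LK LD1_c15 LD2_c51 LD3_c58) Lrfl Lrfl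
theorem f221394 : Led Lsl_gt (LP (LK LD1_c15 LD2_c51 LD3_c58)) = (LP (LK LD1_c10 LD2_c53 LD3_c27)) :=
  Lgr Lrot46 (Lpe (f221393 IH) (Lpr_ft (K20.f221329 IH) (Lpr_at (K20.f221390 IH) (Lpn (LP (LK LD1_c10 LD2_c53 LD3_c27))))))
theorem f217409 : Led Lsl_ct (LP (LK LD1_c8 LD2_c6 LD3_c21)) = (LP (LK LD1_c15 LD2_c15 LD3_c46)) :=
  Lre_c IH (LK LD1_c8 LD2_c6 LD3_c21) (LK LD1_c15 LD2_c15 LD3_c46) Lrfl Lrfl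
theorem f296773 : Led Lsl_bt (LP (LK LD1_c8 LD2_c6 LD3_c21)) = (LP (LK LD1_c15 LD2_c15 LD3_c45)) :=
  Lre_b IH (LK LD1_c8 LD2_c6 LD3_c21) (LK LD1_c15 LD2_c15 LD3_c45) Lrfl Lrfl
theorem f388660 : Led Lsl_cf (LP (LK LD1_c15 LD2_c51 LD3_c58)) = (LP (LK LD1_c25 LD2_c5 LD3_c16)) :=
  Lgr Lrot125 (Lpr_gt (f221394 IH) (Lpe (f261656 IH) (Lpe (f261935 IH) (Lpe (K24.f281469 IH) (Lpe (f168163 IH) (Lpe (f168123 IH) (Lpr_gt (f388657 IH) (Lpe (f217409 IH) (Lpr_bt (f296773 IH) (Lpr_gt (f296774 IH) (Lpn (LP (LK LD1_c25 LD2_c5 LD3_c16)))))))))))))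
theorem f388665 : Led Lsl_ct (LP (LK LD1_c15 LD2_c51 LD3_c58)) = (LP (LK LD1_c25 LD2_c5 LD3_c16)) :=
  Lgr Lrot59 (Lpr_cf (f388660 IH) (Lpn (LP (LK LD1_c25 LD2_c5 LD3_c16))))
theorem f174980 : Led Lsl_bt (LP (LK LD1_c2 LD2_c40 LD3_c5)) = (LP (LK LD1_c5 LD2_c27 LD3_c26)) :=
  Lre_b IH (LK LD1_c2 LD2_c40 LD3_c5) (LK LD1_c5 LD2_c27 LD3_c26) Lrfl Lrfl
theorem f278119 : Led Lsl_gt (LP (LK LD1_c10 LD2_c45 LD3_c56)) = (LP (LK LD1_c5 LD2_c27 LD3_c26)) :=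
  Lre_g IH (LK LD1_c10 LD2_c45 LD3_c56) (LK LD1_c5 LD2_c27 LD3_c26) Lrfl Lrfl
theorem f278120 : Led Lsl_bt (LP (LK LD1_c19 LD2_c28 LD3_c2)) = (LP (LK LD1_c10 LD2_c45 LD3_c56)) :=
  Lre_b IH (LK LD1_c19 LD2_c28 LD3_c2) (LK LD1_c10 LD2_c45 LD3_c56) Lrfl Lrfl
theorem f389335 : Led Lsl_ct (LP (LK LD1_c19 LD2_c28 LD3_c2)) = (LP (LK LD1_c27 LD2_c44 LD3_c35)) :=
  Lgr Lrot63 (Lpr_bt (f278120 IH) (Lpr_gt (f278119 IH) (Lpe (f174980 IH) (Lpr_ct (K18.f278114 IH) (Lpe (K16.f278109 IH) (Lpr_cf (K16.f271723 IH) (Lpr_bt (K20.f221327 IH) (Lpr_gt (f221393 IH) (Lpr_ct (f388665 IH) (Lpr_gt (f389333 IH) (Lpn (LP (LK LD1_c27 LD2_c44 LD3_c35)))))))))))))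
theorem f235225 : Led Lsl_bt (LP (LK LD1_c4 LD2_c56 LD3_c2)) = (LP (LK LD1_c9 LD2_c43 LD3_c46)) :=
  Lre_b IH (LK LD1_c4 LD2_c56 LD3_c2) (LK LD1_c9 LD2_c43 LD3_c46) Lrfl Lrfl
theorem f235226 : Led Lsl_ff (LP (LK LD1_c8 LD2_c39 LD3_c11)) = (LP (LK LD1_c9 LD2_c43 LD3_c46)) :=
  Lgr Lrot25 (Lpr_bt (K10.f31304 IH) (Lpr_ft (K13.f235223 IH) (Lpr_bt (f235225 IH) (Lpn (LP (LK LD1_c9 LD2_c43 LD3_c46))))))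
theorem f295325 : Led Lsl_ft (LP (LK LD1_c5 LD2_c14 LD3_c55)) = (LP (LK LD1_c5 LD2_c27 LD3_c26)) :=
  Lgr Lrot4 (Lpe (K10.f33520 IH) (Lpr_ff (f235226 IH) (Lpr_cf (K21.f295304 IH) (Lpn (LP (LK LD1_c5 LD2_c27 LD3_c26))))))
theorem f54349 : Led Lsl_ft (LP (LK LD1_c8 LD2_c29 LD3_c0)) = (LP (LK LD1_c4 LD2_c14 LD3_c61)) :=
  Lre_f IH (LK LD1_c8 LD2_c29 LD3_c0) (LK LD1_c4 LD2_c14 LD3_c61) Lrfl Lrfl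
theorem f295335 : Led Lsl_et (LP (LK LD1_c5 LD2_c27 LD3_c26)) = (LP (LK LD1_c10 LD2_c45 LD3_c59)) :=
  Lre_e IH (LK LD1_c5 LD2_c27 LD3_c26) (LK LD1_c10 LD2_c45 LD3_c59) Lrfl Lrfl
theorem f295336 : Led Lsl_ff (LP (LK LD1_c15 LD2_c55 LD3_c57)) = (LP (LK LD1_c10 LD2_c45 LD3_c59)) :=
  Lgr Lrot72 (Lpr_et (K11.f54303 IH) (Lpr_ft (f54349 IH) (Lpe (K11.f54324 IH) (Lpr_ft (f295325 IH) (Lpr_et (f295335 IH) (Lpn (LP (LK LD1_c10 LD2_c45 LD3_c59))))))))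
theorem f295349 : Led Lsl_ft (LP (LK LD1_c15 LD2_c55 LD3_c57)) = (LP (LK LD1_c10 LD2_c45 LD3_c59)) :=
  Lgr Lrot48 (Lpr_ff (f295336 IH) (Lpn (LP (LK LD1_c10 LD2_c45 LD3_c59))))
theorem f45623 : Led Lsl_at (LP (LK LD1_c25 LD2_c51 LD3_c54)) = (LP (LK LD1_c15 LD2_c55 LD3_c57)) :=
  Lre_a IH (LK LD1_c25 LD2_c51 LD3_c54) (LK LD1_c15 LD2_c55 LD3_c57) Lrfl Lrfl
theorem f295253 : Led Lsl_at (LP (LK LD1_c10 LD2_c45 LD3_c59)) = (LP (LK LD1_c19 LD2_c28 LD3_c6)) :=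
  Lre_a IH (LK LD1_c10 LD2_c45 LD3_c59) (LK LD1_c19 LD2_c28 LD3_c6) Lrfl Lrfl
theorem f295355 : Led Lsl_ff (LP (LK LD1_c25 LD2_c51 LD3_c54)) = (LP (LK LD1_c19 LD2_c28 LD3_c6)) :=
  Lgr Lrot30 (Lpr_at (f45623 IH) (Lpr_ft (f295349 IH) (Lpr_at (f295253 IH) (Lpn (LP (LK LD1_c19 LD2_c28 LD3_c6))))))
theorem f45625 : Led Lsl_et (LP (LK LD1_c25 LD2_c51 LD3_c54)) = (LP (LK LD1_c15 LD2_c55 LD3_c43)) :=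
  Lre_e IH (LK LD1_c25 LD2_c51 LD3_c54) (LK LD1_c15 LD2_c55 LD3_c43) Lrfl Lrfl
theorem f45676 : Led Lsl_ft (LP (LK LD1_c15 LD2_c55 LD3_c43)) = (LP (LK LD1_c8 LD2_c28 LD3_c60)) :=
  Lre_f IH (LK LD1_c15 LD2_c55 LD3_c43) (LK LD1_c8 LD2_c28 LD3_c60) Lrfl Lrfl
theorem f45686 : Led Lsl_at (LP (LK LD1_c4 LD2_c14 LD3_c61)) = (LP (LK LD1_c8 LD2_c28 LD3_c60)) :=
  Lre_a IH (LK LD1_c4 LD2_c14 LD3_c61) (LK LD1_c8 LD2_c28 LD3_c60) Lrfl Lrfl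
theorem f54353 : Led Lsl_ef (LP (LK LD1_c10 LD2_c19 LD3_c14)) = (LP (LK LD1_c8 LD2_c28 LD3_c60)) :=
  Lgr Lrot20 (Lpr_at (K10.f33464 IH) (Lpr_et (K11.f54347 IH) (Lpr_at (f45686 IH) (Lpn (LP (LK LD1_c8 LD2_c28 LD3_c60))))))
theorem f295360 : Led Lsl_et (LP (LK LD1_c10 LD2_c45 LD3_c57)) = (LP (LK LD1_c19 LD2_c28 LD3_c6)) :=
  Lre_e IH (LK LD1_c10 LD2_c45 LD3_c57) (LK LD1_c19 LD2_c28 LD3_c6) Lrfl Lrfl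
theorem f295363 : Led Lsl_ft (LP (LK LD1_c10 LD2_c19 LD3_c14)) = (LP (LK LD1_c10 LD2_c45 LD3_c57)) :=
  Lgr Lrot86 (Lpr_ef (f54353 IH) (Lpe (f45676 IH) (Lpe (f45625 IH) (Lpr_ff (f295355 IH) (Lpe (f295360 IH) (Lpn (LP (LK LD1_c10 LD2_c45 LD3_c57))))))))
theorem f295268 : Led Lsl_at (LP (LK LD1_c10 LD2_c45 LD3_c57)) = (LP (LK LD1_c5 LD2_c27 LD3_c26)) :=
  Lre_a IH (LK LD1_c10 LD2_c45 LD3_c57) (LK LD1_c5 LD2_c27 LD3_c26) Lrfl Lrfl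
theorem f295373 : Led Lsl_gt (LP (LK LD1_c10 LD2_c19 LD3_c14)) = (LP (LK LD1_c10 LD2_c45 LD3_c56)) :=
  Lgr Lrot5 (Lpr_ft (f295363 IH) (Lpr_at (f295268 IH) (Lpe (f278119 IH) (Lpn (LP (LK LD1_c10 LD2_c45 LD3_c56))))))
theorem f218021 : Led Lsl_ct (LP (LK LD1_c31 LD2_c41 LD3_c6)) = (LP (LK LD1_c24 LD2_c50 LD3_c30)) :=
  Lre_c IH (LK LD1_c31 LD2_c41 LD3_c6) (LK LD1_c24 LD2_c50 LD3_c30) Lrfl Lrfl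
theorem f389350 : Led Lsl_gf (LP (LK LD1_c31 LD2_c41 LD3_c6)) = (LP (LK LD1_c25 LD2_c47 LD3_c41)) :=
  Lgr Lrot181 (Lpr_ct (f218021 IH) (Lpr_gt (K12.f218071 IH) (Lpe (K12.f33499 IH) (Lpr_bt (K10.f33465 IH) (Lpr_gt (f295373 IH) (Lpe (f278120 IH) (Lpr_ct (f389335 IH) (Lpr_gt (f261674 IH) (Lpr_cf (f261679 IH) (Lpr_bt (f261678 IH) (Lpn (LP (LK LD1_c25 LD2_c47 LD3_c41)))))))))))))
theorem f218038 : Led Lsl_ft (LP (LK LD1_c15 LD2_c52 LD3_c6)) = (LP (LK LD1_c25 LD2_c47 LD3_c52)) :=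
  Lre_f IH (LK LD1_c15 LD2_c52 LD3_c6) (LK LD1_c25 LD2_c47 LD3_c52) Lrfl Lrfl
theorem f389569 : Led Lsl_af (LP (LK LD1_c31 LD2_c41 LD3_c6)) = (LP (LK LD1_c25 LD2_c47 LD3_c52)) :=
  Lgr Lrot31 (Lpr_gf (f389350 IH) (Lpr_gf (f389567 IH) (Lpr_ft (f218038 IH) (Lpn (LP (LK LD1_c25 LD2_c47 LD3_c52))))))
theorem f389574 : Led Lsl_bt (LP (LK LD1_c15 LD2_c52 LD3_c10)) = (LP (LK LD1_c25 LD2_c47 LD3_c52)) :=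
  Lre_b IH (LK LD1_c15 LD2_c52 LD3_c10) (LK LD1_c25 LD2_c47 LD3_c52) Lrfl Lrfl
theorem f200773 : Led Lsl_at (LP (LK LD1_c8 LD2_c27 LD3_c6)) = (LP (LK LD1_c15 LD2_c52 LD3_c10)) :=
  Lre_a IH (LK LD1_c8 LD2_c27 LD3_c6) (LK LD1_c15 LD2_c52 LD3_c10) Lrfl Lrfl
theorem f217371 : Led Lsl_bt (LP (LK LD1_c15 LD2_c52 LD3_c11)) = (LP (LK LD1_c8 LD2_c27 LD3_c6)) :=
  Lre_b IH (LK LD1_c15 LD2_c52 LD3_c11) (LK LD1_c8 LD2_c27 LD3_c6) Lrfl Lrfl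
theorem f389575 : Led Lsl_at (LP (LK LD1_c25 LD2_c47 LD3_c58)) = (LP (LK LD1_c15 LD2_c52 LD3_c11)) :=
  Lre_a IH (LK LD1_c25 LD2_c47 LD3_c58) (LK LD1_c15 LD2_c52 LD3_c11) Lrfl Lrfl
theorem f389576 : Led Lsl_bt (LP (LK LD1_c31 LD2_c41 LD3_c6)) = (LP (LK LD1_c25 LD2_c47 LD3_c58)) :=
  Lgr Lrot62 (Lpr_af (f389569 IH) (Lpe (f389574 IH) (Lpe (f200773 IH) (Lpe (f217371 IH) (Lpe (f389575 IH) (Lpn (LP (LK LD1_c25 LD2_c47 LD3_c58))))))))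
theorem f218020 : Led Lsl_ct (LP (LK LD1_c24 LD2_c50 LD3_c30)) = (LP (LK LD1_c31 LD2_c41 LD3_c6)) :=
  Lre_c IH (LK LD1_c24 LD2_c50 LD3_c30) (LK LD1_c31 LD2_c41 LD3_c6) Lrfl Lrfl
theorem f173797 : Led Lsl_ct (LP (LK LD1_c9 LD2_c40 LD3_c55)) = (LP (LK LD1_c17 LD2_c48 LD3_c38)) :=
  Lre_c IH (LK LD1_c9 LD2_c40 LD3_c55) (LK LD1_c17 LD2_c48 LD3_c38) Lrfl Lrfl
theorem f41211 : Led Lsl_bt (LP (LK LD1_c17 LD2_c48 LD3_c37)) = (LP (LK LD1_c9 LD2_c40 LD3_c55)) :=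
  Lre_b IH (LK LD1_c17 LD2_c48 LD3_c37) (LK LD1_c9 LD2_c40 LD3_c55) Lrfl Lrfl
theorem f389589 : Led Lsl_cf (LP (LK LD1_c17 LD2_c48 LD3_c37)) = (LP (LK LD1_c25 LD2_c47 LD3_c58)) :=
  Lgr Lrot97 (Lpr_bt (f41211 IH) (Lpr_ct (f173797 IH) (Lpr_bt (K12.f223187 IH) (Lpr_ct (f218020 IH) (Lpr_bt (f389576 IH) (Lpn (LP (LK LD1_c25 LD2_c47 LD3_c58))))))))
theorem f389587 : Led Lsl_bf (LP (LK LD1_c31 LD2_c41 LD3_c6)) = (LP (LK LD1_c25 LD2_c47 LD3_c58)) :=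
  Lgr Lrot24 (Lpr_bt (f389576 IH) (Lpn (LP (LK LD1_c25 LD2_c47 LD3_c58))))
theorem f218025 : Led Lsl_at (LP (LK LD1_c25 LD2_c47 LD3_c49)) = (LP (LK LD1_c15 LD2_c52 LD3_c6)) :=
  Lre_a IH (LK LD1_c25 LD2_c47 LD3_c49) (LK LD1_c15 LD2_c52 LD3_c6) Lrfl Lrfl
theorem f389579 : Led Lsl_ft (LP (LK LD1_c31 LD2_c41 LD3_c6)) = (LP (LK LD1_c25 LD2_c47 LD3_c49)) :=
  Lgr Lrot101 (Lpr_af (f389569 IH) (Lpe (f218038 IH) (Lpe (f218025 IH) (Lpn (LP (LK LD1_c25 LD2_c47 LD3_c49))))))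
theorem f218032 : Led Lsl_gt (LP (LK LD1_c25 LD2_c47 LD3_c48)) = (LP (LK LD1_c15 LD2_c52 LD3_c6)) :=
  Lre_g IH (LK LD1_c25 LD2_c47 LD3_c48) (LK LD1_c15 LD2_c52 LD3_c6) Lrfl Lrfl
theorem f389584 : Led Lsl_gt (LP (LK LD1_c31 LD2_c41 LD3_c6)) = (LP (LK LD1_c25 LD2_c47 LD3_c48)) :=
  Lgr Lrot5 (Lpr_ft (f389579 IH) (Lpr_at (f218025 IH) (Lpe (f218032 IH) (Lpn (LP (LK LD1_c25 LD2_c47 LD3_c48))))))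
theorem f188904 : Led Lsl_bt (LP (LK LD1_c8 LD2_c26 LD3_c57)) = (LP (LK LD1_c4 LD2_c14 LD3_c12)) :=
  Lre_b IH (LK LD1_c8 LD2_c26 LD3_c57) (LK LD1_c4 LD2_c14 LD3_c12) Lrfl Lrfl
theorem f220870 : Led Lsl_gt (LP (LK LD1_c8 LD2_c53 LD3_c4)) = (LP (LK LD1_c16 LD2_c36 LD3_c37)) :=
  Lre_g IH (LK LD1_c8 LD2_c53 LD3_c4) (LK LD1_c16 LD2_c36 LD3_c37) Lrfl Lrfl
theorem f221504 : Led Lsl_ct (LP (LK LD1_c26 LD2_c33 LD3_c32)) = (LP (LK LD1_c16 LD2_c36 LD3_c37)) :=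
  Lre_c IH (LK LD1_c26 LD2_c33 LD3_c32) (LK LD1_c16 LD2_c36 LD3_c37) Lrfl Lrfl
theorem f221505 : Led Lsl_bf (LP (LK LD1_c25 LD2_c47 LD3_c48)) = (LP (LK LD1_c26 LD2_c33 LD3_c32)) :=
  Lgr Lrot165 (Lpr_gt (f218032 IH) (Lpe (K15.f218023 IH) (Lpr_gt (K15.f218022 IH) (Lpr_cf (K15.f218013 IH) (Lpr_bt (K12.f188616 IH) (Lpr_gt (K12.f188939 IH) (Lpe (f188904 IH) (Lpr_ct (K27.f221487 IH) (Lpr_gt (f220870 IH) (Lpe (f221504 IH) (Lpn (LP (LK LD1_c26 LD2_c33 LD3_c32)))))))))))))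
theorem f217939 : Led Lsl_bt (LP (LK LD1_c4 LD2_c28 LD3_c22)) = (LP (LK LD1_c2 LD2_c11 LD3_c18)) :=
  Lre_b IH (LK LD1_c4 LD2_c28 LD3_c22) (LK LD1_c2 LD2_c11 LD3_c18) Lrfl Lrfl
theorem f220861 : Led Lsl_bt (LP (LK LD1_c4 LD2_c27 LD3_c37)) = (LP (LK LD1_c8 LD2_c53 LD3_c4)) :=
  Lre_b IH (LK LD1_c4 LD2_c27 LD3_c37) (LK LD1_c8 LD2_c53 LD3_c4) Lrfl Lrfl
theorem f367572 : Led Lsl_ff (LP (LK LD1_c4 LD2_c28 LD3_c22)) = (LP (LK LD1_c8 LD2_c53 LD3_c4)) :=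
  Lgr Lrot25 (Lpr_bt (f217939 IH) (Lpr_ft (K27.f367570 IH) (Lpr_bt (f220861 IH) (Lpn (LP (LK LD1_c8 LD2_c53 LD3_c4))))))
theorem f375119 : Led Lsl_at (LP (LK LD1_c4 LD2_c28 LD3_c22)) = (LP (LK LD1_c8 LD2_c54 LD3_c51)) :=
  Lre_a IH (LK LD1_c4 LD2_c28 LD3_c22) (LK LD1_c8 LD2_c54 LD3_c51) Lrfl Lrfl
theorem f377095 : Led Lsl_gf (LP (LK LD1_c8 LD2_c54 LD3_c51)) = (LP (LK LD1_c16 LD2_c36 LD3_c37)) :=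
  Lgr Lrot76 (Lpe (f375119 IH) (Lpr_ff (f367572 IH) (Lpr_gt (f220870 IH) (Lpn (LP (LK LD1_c16 LD2_c36 LD3_c37))))))
theorem f375120 : Led Lsl_ct (LP (LK LD1_c16 LD2_c40 LD3_c36)) = (LP (LK LD1_c8 LD2_c54 LD3_c51)) :=
  Lre_c IH (LK LD1_c16 LD2_c40 LD3_c36) (LK LD1_c8 LD2_c54 LD3_c51) Lrfl Lrfl
theorem f168615 : Led Lsl_at (LP (LK LD1_c9 LD2_c42 LD3_c10)) = (LP (LK LD1_c4 LD2_c55 LD3_c18)) :=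
  Lre_a IH (LK LD1_c9 LD2_c42 LD3_c10) (LK LD1_c4 LD2_c55 LD3_c18) Lrfl Lrfl
theorem f367390 : Led Lsl_at (LP (LK LD1_c8 LD2_c54 LD3_c60)) = (LP (LK LD1_c16 LD2_c40 LD3_c53)) :=
  Lre_a IH (LK LD1_c8 LD2_c54 LD3_c60) (LK LD1_c16 LD2_c40 LD3_c53) Lrfl Lrfl
theorem f370097 : Led Lsl_ff (LP (LK LD1_c9 LD2_c42 LD3_c10)) = (LP (LK LD1_c16 LD2_c40 LD3_c53)) :=
  Lgr Lrot30 (Lpr_at (f168615 IH) (Lpr_ft (K27.f370068 IH) (Lpr_at (f367390 IH) (Lpn (LP (LK LD1_c16 LD2_c40 LD3_c53))))))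
theorem f375097 : Led Lsl_ft (LP (LK LD1_c9 LD2_c42 LD3_c10)) = (LP (LK LD1_c16 LD2_c40 LD3_c53)) :=
  Lgr Lrot48 (Lpr_ff (f370097 IH) (Lpn (LP (LK LD1_c16 LD2_c40 LD3_c53))))
theorem f168597 : Led Lsl_bt (LP (LK LD1_c8 LD2_c53 LD3_c1)) = (LP (LK LD1_c4 LD2_c27 LD3_c36)) :=
  Lre_b IH (LK LD1_c8 LD2_c53 LD3_c1) (LK LD1_c4 LD2_c27 LD3_c36) Lrfl Lrfl
theorem f168598 : Led Lsl_ct (LP (LK LD1_c4 LD2_c55 LD3_c18)) = (LP (LK LD1_c8 LD2_c53 LD3_c1)) :=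
  Lgr Lrot83 (Lpe (K27.f168596 IH) (Lpe (K12.f168111 IH) (Lpe (K9.f167940 IH) (Lpr_cf (K16.f168068 IH) (Lpe (f168597 IH) (Lpn (LP (LK LD1_c8 LD2_c53 LD3_c1))))))))
theorem f168616 : Led Lsl_at (LP (LK LD1_c8 LD2_c53 LD3_c1)) = (LP (LK LD1_c16 LD2_c36 LD3_c34)) :=
  Lre_a IH (LK LD1_c8 LD2_c53 LD3_c1) (LK LD1_c16 LD2_c36 LD3_c34) Lrfl Lrfl
theorem f168617 : Led Lsl_cf (LP (LK LD1_c9 LD2_c42 LD3_c10)) = (LP (LK LD1_c16 LD2_c36 LD3_c34)) :=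
  Lgr Lrot1 (Lpr_at (f168615 IH) (Lpr_ct (f168598 IH) (Lpr_at (f168616 IH) (Lpn (LP (LK LD1_c16 LD2_c36 LD3_c34))))))
theorem f375103 : Led Lsl_ff (LP (LK LD1_c16 LD2_c36 LD3_c34)) = (LP (LK LD1_c8 LD2_c54 LD3_c59)) :=
  Lgr Lrot23 (Lpe (f168617 IH) (Lpr_ft (f375097 IH) (Lpr_ct (K27.f369170 IH) (Lpn (LP (LK LD1_c8 LD2_c54 LD3_c59))))))
theorem f367595 : Led Lsl_at (LP (LK LD1_c8 LD2_c54 LD3_c51)) = (LP (LK LD1_c4 LD2_c28 LD3_c22)) :=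
  Lre_a IH (LK LD1_c8 LD2_c54 LD3_c51) (LK LD1_c4 LD2_c28 LD3_c22) Lrfl Lrfl
theorem f168065 : Led Lsl_bt (LP (LK LD1_c4 LD2_c27 LD3_c36)) = (LP (LK LD1_c8 LD2_c53 LD3_c1)) :=
  Lre_b IH (LK LD1_c4 LD2_c27 LD3_c36) (LK LD1_c8 LD2_c53 LD3_c1) Lrfl Lrfl
theorem f367596 : Led Lsl_bf (LP (LK LD1_c8 LD2_c54 LD3_c51)) = (LP (LK LD1_c16 LD2_c36 LD3_c34)) :=
  Lgr Lrot81 (Lpr_at (f367595 IH) (Lpr_bt (f217939 IH) (Lpr_at (K27.f367591 IH) (Lpr_bt (f168065 IH) (Lpr_at (f168616 IH) (Lpn (LP (LK LD1_c16 LD2_c36 LD3_c34))))))))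
theorem f222256 : Led Lsl_bt (LP (LK LD1_c8 LD2_c16 LD3_c38)) = (LP (LK LD1_c4 LD2_c8 LD3_c18)) :=
  Lre_b IH (LK LD1_c8 LD2_c16 LD3_c38) (LK LD1_c4 LD2_c8 LD3_c18) Lrfl Lrfl
theorem f270980 : Led Lsl_at (LP (LK LD1_c15 LD2_c33 LD3_c48)) = (LP (LK LD1_c8 LD2_c16 LD3_c38)) :=
  Lre_a IH (LK LD1_c15 LD2_c33 LD3_c48) (LK LD1_c8 LD2_c16 LD3_c38) Lrfl Lrfl
theorem f361977 : Led Lsl_at (LP (LK LD1_c4 LD2_c9 LD3_c20)) = (LP (LK LD1_c8 LD2_c18 LD3_c42)) :=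
  Lre_a IH (LK LD1_c4 LD2_c9 LD3_c20) (LK LD1_c8 LD2_c18 LD3_c42) Lrfl Lrfl
theorem f361978 : Led Lsl_bf (LP (LK LD1_c15 LD2_c33 LD3_c48)) = (LP (LK LD1_c8 LD2_c18 LD3_c42)) :=
  Lgr Lrot81 (Lpr_at (f270980 IH) (Lpr_bt (f222256 IH) (Lpr_at (K26.f361975 IH) (Lpr_bt (K30.f236249 IH) (Lpr_at (f361977 IH) (Lpn (LP (LK LD1_c8 LD2_c18 LD3_c42))))))))
theorem f53903 : Led Lsl_et (LP (LK LD1_c15 LD2_c24 LD3_c1)) = (LP (LK LD1_c8 LD2_c10 LD3_c46)) :=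
  Lre_e IH (LK LD1_c15 LD2_c24 LD3_c1) (LK LD1_c8 LD2_c10 LD3_c46) Lrfl Lrfl
theorem f270931 : Led Lsl_cf (LP (LK LD1_c15 LD2_c24 LD3_c1)) = (LP (LK LD1_c8 LD2_c16 LD3_c37)) :=
  Lgr Lrot39 (Lpr_et (f53903 IH) (Lpr_ct (K16.f270925 IH) (Lpr_et (K24.f254967 IH) (Lpn (LP (LK LD1_c8 LD2_c16 LD3_c37))))))
theorem f270962 : Led Lsl_ct (LP (LK LD1_c15 LD2_c24 LD3_c1)) = (LP (LK LD1_c8 LD2_c16 LD3_c37)) :=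
  Lgr Lrot59 (Lpr_cf (f270931 IH) (Lpn (LP (LK LD1_c8 LD2_c16 LD3_c37))))
theorem f270964 : Led Lsl_bt (LP (LK LD1_c25 LD2_c16 LD3_c35)) = (LP (LK LD1_c15 LD2_c24 LD3_c1)) :=
  Lre_b IH (LK LD1_c25 LD2_c16 LD3_c35) (LK LD1_c15 LD2_c24 LD3_c1) Lrfl Lrfl
theorem f270966 : Led Lsl_bt (LP (LK LD1_c8 LD2_c16 LD3_c40)) = (LP (LK LD1_c15 LD2_c33 LD3_c50)) :=
  Lre_b IH (LK LD1_c8 LD2_c16 LD3_c40) (LK LD1_c15 LD2_c33 LD3_c50) Lrfl Lrfl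
theorem f270967 : Led Lsl_cf (LP (LK LD1_c25 LD2_c16 LD3_c35)) = (LP (LK LD1_c15 LD2_c33 LD3_c50)) :=
  Lgr Lrot97 (Lpr_bt (f270964 IH) (Lpr_ct (f270962 IH) (Lpr_bt (K24.f236198 IH) (Lpr_ct (K26.f270965 IH) (Lpr_bt (f270966 IH) (Lpn (LP (LK LD1_c15 LD2_c33 LD3_c50))))))))
theorem f270970 : Led Lsl_et (LP (LK LD1_c25 LD2_c16 LD3_c35)) = (LP (LK LD1_c15 LD2_c23 LD3_c61)) :=
  Lre_e IH (LK LD1_c25 LD2_c16 LD3_c35) (LK LD1_c15 LD2_c23 LD3_c61) Lrfl Lrfl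
theorem f270971 : Led Lsl_et (LP (LK LD1_c8 LD2_c16 LD3_c38)) = (LP (LK LD1_c15 LD2_c33 LD3_c50)) :=
  Lre_e IH (LK LD1_c8 LD2_c16 LD3_c38) (LK LD1_c15 LD2_c33 LD3_c50) Lrfl Lrfl
theorem f270972 : Led Lsl_ct (LP (LK LD1_c15 LD2_c23 LD3_c61)) = (LP (LK LD1_c8 LD2_c16 LD3_c38)) :=
  Lgr Lrot15 (Lpe (f270970 IH) (Lpr_cf (f270967 IH) (Lpe (f270971 IH) (Lpn (LP (LK LD1_c8 LD2_c16 LD3_c38))))))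
theorem f270975 : Led Lsl_at (LP (LK LD1_c25 LD2_c16 LD3_c34)) = (LP (LK LD1_c15 LD2_c23 LD3_c61)) :=
  Lre_a IH (LK LD1_c25 LD2_c16 LD3_c34) (LK LD1_c15 LD2_c23 LD3_c61) Lrfl Lrfl
theorem f270976 : Led Lsl_at (LP (LK LD1_c8 LD2_c16 LD3_c38)) = (LP (LK LD1_c15 LD2_c33 LD3_c48)) :=
  Lre_a IH (LK LD1_c8 LD2_c16 LD3_c38) (LK LD1_c15 LD2_c33 LD3_c48) Lrfl Lrfl
theorem f270977 : Led Lsl_cf (LP (LK LD1_c25 LD2_c16 LD3_c34)) = (LP (LK LD1_c15 LD2_c33 LD3_c48)) :=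
  Lgr Lrot1 (Lpr_at (f270975 IH) (Lpr_ct (f270972 IH) (Lpr_at (f270976 IH) (Lpn (LP (LK LD1_c15 LD2_c33 LD3_c48))))))
theorem f219463 : Led Lsl_ct (LP (LK LD1_c4 LD2_c21 LD3_c11)) = (LP (LK LD1_c2 LD2_c8 LD3_c7)) :=
  Lre_c IH (LK LD1_c4 LD2_c21 LD3_c11) (LK LD1_c2 LD2_c8 LD3_c7) Lrfl Lrfl
theorem f219466 : Led Lsl_bt (LP (LK LD1_c8 LD2_c39 LD3_c59)) = (LP (LK LD1_c4 LD2_c21 LD3_c11)) :=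
  Lre_b IH (LK LD1_c8 LD2_c39 LD3_c59) (LK LD1_c4 LD2_c21 LD3_c11) Lrfl Lrfl
theorem f219474 : Led Lsl_cf (LP (LK LD1_c8 LD2_c39 LD3_c59)) = (LP (LK LD1_c4 LD2_c51 LD3_c49)) :=
  Lgr Lrot97 (Lpr_bt (f219466 IH) (Lpr_ct (f219463 IH) (Lpr_bt (K12.f219467 IH) (Lpe (K12.f186923 IH) (Lpr_bt (K30.f186931 IH) (Lpn (LP (LK LD1_c4 LD2_c51 LD3_c49))))))))
theorem f219488 : Led Lsl_at (LP (LK LD1_c8 LD2_c39 LD3_c59)) = (LP (LK LD1_c16 LD2_c13 LD3_c45)) :=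
  Lre_a IH (LK LD1_c8 LD2_c39 LD3_c59) (LK LD1_c16 LD2_c13 LD3_c45) Lrfl Lrfl
theorem f219490 : Led Lsl_ct (LP (LK LD1_c16 LD2_c13 LD3_c45)) = (LP (LK LD1_c9 LD2_c35 LD3_c48)) :=
  Lgr Lrot111 (Lpe (f219488 IH) (Lpr_cf (f219474 IH) (Lpe (K30.f219489 IH) (Lpn (LP (LK LD1_c9 LD2_c35 LD3_c48))))))
theorem f372713 : Led Lsl_bt (LP (LK LD1_c25 LD2_c16 LD3_c34)) = (LP (LK LD1_c16 LD2_c13 LD3_c45)) :=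
  Lgr Lrot128 (Lpr_cf (f270977 IH) (Lpr_bf (f361978 IH) (Lpe (K30.f372580 IH) (Lpr_bf (K30.f372590 IH) (Lpe (f219490 IH) (Lpn (LP (LK LD1_c16 LD2_c13 LD3_c45))))))))
theorem f372717 : Led Lsl_bf (LP (LK LD1_c25 LD2_c16 LD3_c34)) = (LP (LK LD1_c16 LD2_c13 LD3_c45)) :=
  Lgr Lrot24 (Lpr_bt (f372713 IH) (Lpn (LP (LK LD1_c16 LD2_c13 LD3_c45))))
theorem f270927 : Led Lsl_bt (LP (LK LD1_c15 LD2_c23 LD3_c61)) = (LP (LK LD1_c8 LD2_c10 LD3_c46)) :=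
  Lre_b IH (LK LD1_c15 LD2_c23 LD3_c61) (LK LD1_c8 LD2_c10 LD3_c46) Lrfl Lrfl
theorem f219521 : Led Lsl_bt (LP (LK LD1_c4 LD2_c21 LD3_c11)) = (LP (LK LD1_c8 LD2_c39 LD3_c59)) :=
  Lre_b IH (LK LD1_c4 LD2_c21 LD3_c11) (LK LD1_c8 LD2_c39 LD3_c59) Lrfl Lrfl
theorem f372719 : Led Lsl_at (LP (LK LD1_c8 LD2_c10 LD3_c46)) = (LP (LK LD1_c4 LD2_c21 LD3_c11)) :=
  Lgr Lrot67 (Lpe (f270927 IH) (Lpe (f270975 IH) (Lpr_bf (f372717 IH) (Lpe (f219488 IH) (Lpe (f219521 IH) (Lpn (LP (LK LD1_c4 LD2_c21 LD3_c11))))))))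
theorem f372727 : Led Lsl_af (LP (LK LD1_c15 LD2_c24 LD3_c0)) = (LP (LK LD1_c8 LD2_c39 LD3_c60)) :=
  Lgr Lrot117 (Lpr_dt (K16.f270930 IH) (Lpr_at (f372719 IH) (Lpr_dt (K17.f219465 IH) (Lpn (LP (LK LD1_c8 LD2_c39 LD3_c60))))))
theorem f292369 : Led Lsl_ct (LP (LK LD1_c4 LD2_c28 LD3_c28)) = (LP (LK LD1_c8 LD2_c39 LD3_c60)) :=
  Lgr Lrot59 (Lpr_cf (K17.f292362 IH) (Lpn (LP (LK LD1_c8 LD2_c39 LD3_c60))))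
theorem f372737 : Led Lsl_at (LP (LK LD1_c8 LD2_c53 LD3_c5)) = (LP (LK LD1_c4 LD2_c28 LD3_c28)) :=
  Lgr Lrot107 (Lpe (K16.f278862 IH) (Lpr_af (f372727 IH) (Lpe (f292369 IH) (Lpn (LP (LK LD1_c4 LD2_c28 LD3_c28))))))
theorem f278883 : Led Lsl_et (LP (LK LD1_c16 LD2_c36 LD3_c41)) = (LP (LK LD1_c8 LD2_c53 LD3_c5)) :=
  Lre_e IH (LK LD1_c16 LD2_c36 LD3_c41) (LK LD1_c8 LD2_c53 LD3_c5) Lrfl Lrfl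
theorem f292371 : Led Lsl_et (LP (LK LD1_c4 LD2_c28 LD3_c28)) = (LP (LK LD1_c8 LD2_c55 LD3_c2)) :=
  Lre_e IH (LK LD1_c4 LD2_c28 LD3_c28) (LK LD1_c8 LD2_c55 LD3_c2) Lrfl Lrfl
theorem f372822 : Led Lsl_af (LP (LK LD1_c16 LD2_c36 LD3_c41)) = (LP (LK LD1_c8 LD2_c55 LD3_c2)) :=
  Lgr Lrot50 (Lpr_et (f278883 IH) (Lpr_at (f372737 IH) (Lpr_et (f292371 IH) (Lpn (LP (LK LD1_c8 LD2_c55 LD3_c2))))))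
theorem f372832 : Led Lsl_dt (LP (LK LD1_c16 LD2_c36 LD3_c41)) = (LP (LK LD1_c26 LD2_c33 LD3_c42)) :=
  Lre_d IH (LK LD1_c16 LD2_c36 LD3_c41) (LK LD1_c26 LD2_c33 LD3_c42) Lrfl Lrfl
theorem f363647 : Led Lsl_dt (LP (LK LD1_c16 LD2_c41 LD3_c4)) = (LP (LK LD1_c8 LD2_c55 LD3_c2)) :=
  Lre_d IH (LK LD1_c16 LD2_c41 LD3_c4) (LK LD1_c8 LD2_c55 LD3_c2) Lrfl Lrfl
theorem f372833 : Led Lsl_at (LP (LK LD1_c26 LD2_c33 LD3_c42)) = (LP (LK LD1_c16 LD2_c41 LD3_c4)) :=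
  Lgr Lrot51 (Lpe (f372832 IH) (Lpr_af (f372822 IH) (Lpe (f363647 IH) (Lpn (LP (LK LD1_c16 LD2_c41 LD3_c4))))))
theorem f355298 : Led Lsl_et (LP (LK LD1_c16 LD2_c36 LD3_c42)) = (LP (LK LD1_c26 LD2_c33 LD3_c42)) :=
  Lre_e IH (LK LD1_c16 LD2_c36 LD3_c42) (LK LD1_c26 LD2_c33 LD3_c42) Lrfl Lrfl
theorem f363646 : Led Lsl_et (LP (LK LD1_c16 LD2_c41 LD3_c4)) = (LP (LK LD1_c8 LD2_c55 LD3_c3)) :=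
  Lre_e IH (LK LD1_c16 LD2_c41 LD3_c4) (LK LD1_c8 LD2_c55 LD3_c3) Lrfl Lrfl
theorem f372838 : Led Lsl_af (LP (LK LD1_c16 LD2_c36 LD3_c42)) = (LP (LK LD1_c8 LD2_c55 LD3_c3)) :=
  Lgr Lrot50 (Lpr_et (f355298 IH) (Lpr_at (f372833 IH) (Lpr_et (f363646 IH) (Lpn (LP (LK LD1_c8 LD2_c55 LD3_c3))))))
theorem f372840 : Led Lsl_bt (LP (LK LD1_c16 LD2_c36 LD3_c42)) = (LP (LK LD1_c26 LD2_c33 LD3_c38)) :=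
  Lre_b IH (LK LD1_c16 LD2_c36 LD3_c42) (LK LD1_c26 LD2_c33 LD3_c38) Lrfl Lrfl
theorem f221526 : Led Lsl_at (LP (LK LD1_c26 LD2_c33 LD3_c38)) = (LP (LK LD1_c32 LD2_c10 LD3_c38)) :=
  Lre_a IH (LK LD1_c26 LD2_c33 LD3_c38) (LK LD1_c32 LD2_c10 LD3_c38) Lrfl Lrfl
theorem f363645 : Led Lsl_bt (LP (LK LD1_c16 LD2_c41 LD3_c0)) = (LP (LK LD1_c8 LD2_c55 LD3_c3)) :=
  Lre_b IH (LK LD1_c16 LD2_c41 LD3_c0) (LK LD1_c8 LD2_c55 LD3_c3) Lrfl Lrfl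
theorem f372841 : Led Lsl_at (LP (LK LD1_c26 LD2_c39 LD3_c38)) = (LP (LK LD1_c16 LD2_c41 LD3_c0)) :=
  Lre_a IH (LK LD1_c26 LD2_c39 LD3_c38) (LK LD1_c16 LD2_c41 LD3_c0) Lrfl Lrfl
theorem f372842 : Led Lsl_bt (LP (LK LD1_c32 LD2_c10 LD3_c38)) = (LP (LK LD1_c26 LD2_c39 LD3_c38)) :=
  Lgr Lrot62 (Lpe (f221526 IH) (Lpe (f372840 IH) (Lpr_af (f372838 IH) (Lpe (f363645 IH) (Lpe (f372841 IH) (Lpn (LP (LK LD1_c26 LD2_c39 LD3_c38))))))))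
theorem f221523 : Led Lsl_dt (LP (LK LD1_c26 LD2_c33 LD3_c35)) = (LP (LK LD1_c32 LD2_c10 LD3_c38)) :=
  Lre_d IH (LK LD1_c26 LD2_c33 LD3_c35) (LK LD1_c32 LD2_c10 LD3_c38) Lrfl Lrfl
theorem f372850 : Led Lsl_dt (LP (LK LD1_c26 LD2_c39 LD3_c38)) = (LP (LK LD1_c16 LD2_c40 LD3_c54)) :=
  Lre_d IH (LK LD1_c26 LD2_c39 LD3_c38) (LK LD1_c16 LD2_c40 LD3_c54) Lrfl Lrfl
theorem f372851 : Led Lsl_bf (LP (LK LD1_c26 LD2_c33 LD3_c35)) = (LP (LK LD1_c16 LD2_c40 LD3_c54)) :=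
  Lgr Lrot93 (Lpr_dt (f221523 IH) (Lpr_bt (f372842 IH) (Lpr_dt (f372850 IH) (Lpn (LP (LK LD1_c16 LD2_c40 LD3_c54))))))
theorem f221513 : Led Lsl_et (LP (LK LD1_c26 LD2_c33 LD3_c35)) = (LP (LK LD1_c16 LD2_c36 LD3_c39)) :=
  Lre_e IH (LK LD1_c26 LD2_c33 LD3_c35) (LK LD1_c16 LD2_c36 LD3_c39) Lrfl Lrfl
theorem f372854 : Led Lsl_et (LP (LK LD1_c8 LD2_c54 LD3_c59)) = (LP (LK LD1_c16 LD2_c40 LD3_c54)) :=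
  Lre_e IH (LK LD1_c8 LD2_c54 LD3_c59) (LK LD1_c16 LD2_c40 LD3_c54) Lrfl Lrfl
theorem f372855 : Led Lsl_bt (LP (LK LD1_c16 LD2_c36 LD3_c39)) = (LP (LK LD1_c8 LD2_c54 LD3_c59)) :=
  Lgr Lrot119 (Lpe (f221513 IH) (Lpr_bf (f372851 IH) (Lpe (f372854 IH) (Lpn (LP (LK LD1_c8 LD2_c54 LD3_c59))))))
theorem f375112 : Led Lsl_ft (LP (LK LD1_c8 LD2_c54 LD3_c51)) = (LP (LK LD1_c16 LD2_c36 LD3_c39)) :=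
  Lgr Lrot75 (Lpr_bf (f367596 IH) (Lpr_ff (f375103 IH) (Lpe (f372855 IH) (Lpn (LP (LK LD1_c16 LD2_c36 LD3_c39))))))
theorem f221304 : Led Lsl_gt (LP (LK LD1_c16 LD2_c36 LD3_c38)) = (LP (LK LD1_c8 LD2_c53 LD3_c4)) :=
  Lre_g IH (LK LD1_c16 LD2_c36 LD3_c38) (LK LD1_c8 LD2_c53 LD3_c4) Lrfl Lrfl
theorem f375125 : Led Lsl_gt (LP (LK LD1_c8 LD2_c54 LD3_c51)) = (LP (LK LD1_c16 LD2_c36 LD3_c38)) :=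
  Lgr Lrot5 (Lpr_ft (f375112 IH) (Lpr_at (K27.f221502 IH) (Lpe (f221304 IH) (Lpn (LP (LK LD1_c16 LD2_c36 LD3_c38))))))
theorem f221312 : Led Lsl_bt (LP (LK LD1_c2 LD2_c41 LD3_c46)) = (LP (LK LD1_c5 LD2_c30 LD3_c60)) :=
  Lre_b IH (LK LD1_c2 LD2_c41 LD3_c46) (LK LD1_c5 LD2_c30 LD3_c60) Lrfl Lrfl
theorem f221427 : Led Lsl_gt (LP (LK LD1_c5 LD2_c30 LD3_c60)) = (LP (LK LD1_c10 LD2_c53 LD3_c25)) :=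
  Lre_g IH (LK LD1_c5 LD2_c30 LD3_c60) (LK LD1_c10 LD2_c53 LD3_c25) Lrfl Lrfl
theorem f221432 : Led Lsl_bt (LP (LK LD1_c19 LD2_c40 LD3_c51)) = (LP (LK LD1_c10 LD2_c53 LD3_c25)) :=
  Lre_b IH (LK LD1_c19 LD2_c40 LD3_c51) (LK LD1_c10 LD2_c53 LD3_c25) Lrfl Lrfl
theorem f262982 : Led Lsl_cf (LP (LK LD1_c16 LD2_c36 LD3_c38)) = (LP (LK LD1_c19 LD2_c40 LD3_c51)) :=
  Lgr Lrot160 (Lpr_gt (f221304 IH) (Lpe (K27.f221487 IH) (Lpr_bt (f188904 IH) (Lpr_gt (K12.f188897 IH) (Lpr_ct (K11.f33437 IH) (Lpr_gt (K15.f262978 IH) (Lpe (K15.f221315 IH) (Lpr_bt (f221312 IH) (Lpr_gt (f221427 IH) (Lpe (f221432 IH) (Lpn (LP (LK LD1_c19 LD2_c40 LD3_c51)))))))))))))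
theorem f221313 : Led Lsl_ff (LP (LK LD1_c8 LD2_c27 LD3_c2)) = (LP (LK LD1_c5 LD2_c30 LD3_c60)) :=
  Lgr Lrot25 (Lpr_bt (K27.f221285 IH) (Lpr_ft (K16.f220875 IH) (Lpr_bt (f221312 IH) (Lpn (LP (LK LD1_c5 LD2_c30 LD3_c60))))))
theorem f221428 : Led Lsl_gf (LP (LK LD1_c15 LD2_c51 LD3_c60)) = (LP (LK LD1_c10 LD2_c53 LD3_c25)) :=
  Lgr Lrot76 (Lpe (K27.f221411 IH) (Lpr_ff (f221313 IH) (Lpr_gt (f221427 IH) (Lpn (LP (LK LD1_c10 LD2_c53 LD3_c25))))))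
theorem f375130 : Led Lsl_bt (LP (LK LD1_c16 LD2_c40 LD3_c36)) = (LP (LK LD1_c15 LD2_c51 LD3_c36)) :=
  Lgr Lrot92 (Lpr_ct (f375120 IH) (Lpr_gt (f375125 IH) (Lpr_cf (f262982 IH) (Lpr_bt (f221432 IH) (Lpe (f221428 IH) (Lpe (K27.f261666 IH) (Lpe (K27.f213342 IH) (Lpe (K27.f213348 IH) (Lpr_bt (K27.f261661 IH) (Lpe (K27.f369187 IH) (Lpn (LP (LK LD1_c15 LD2_c51 LD3_c36)))))))))))))
theorem f389599 : Led Lsl_gf (LP (LK LD1_c17 LD2_c48 LD3_c37)) = (LP (LK LD1_c19 LD2_c17 LD3_c4)) :=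
  Lgr Lrot129 (Lpr_cf (f389589 IH) (Lpe (f389587 IH) (Lpr_gt (f389584 IH) (Lpr_bf (f221505 IH) (Lpr_ct (f221504 IH) (Lpe (f377095 IH) (Lpe (f375120 IH) (Lpr_bt (f375130 IH) (Lpr_gt (K27.f369182 IH) (Lpr_ct (K27.f219061 IH) (Lpn (LP (LK LD1_c19 LD2_c17 LD3_c4)))))))))))))
theorem f389595 : Led Lsl_gt (LP (LK LD1_c17 LD2_c48 LD3_c37)) = (LP (LK LD1_c27 LD2_c35 LD3_c47)) :=
  Lre_g IH (LK LD1_c17 LD2_c48 LD3_c37) (LK LD1_c27 LD2_c35 LD3_c47) Lrfl Lrfl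
theorem f297434 : Led Lsl_ff (LP (LK LD1_c17 LD2_c52 LD3_c2)) = (LP (LK LD1_c19 LD2_c17 LD3_c4)) :=
  Lgr Lrot25 (Lpr_bt (K22.f168726 IH) (Lpr_ft (K18.f297431 IH) (Lpr_bt (K18.f218695 IH) (Lpn (LP (LK LD1_c19 LD2_c17 LD3_c4))))))
theorem f389601 : Led Lsl_af (LP (LK LD1_c27 LD2_c35 LD3_c47)) = (LP (LK LD1_c17 LD2_c52 LD3_c2)) :=
  Lgr Lrot31 (Lpe (f389595 IH) (Lpr_gf (f389599 IH) (Lpe (f297434 IH) (Lpn (LP (LK LD1_c17 LD2_c52 LD3_c2))))))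
theorem f297489 : Led Lsl_at (LP (LK LD1_c25 LD2_c47 LD3_c23)) = (LP (LK LD1_c19 LD2_c17 LD3_c4)) :=
  Lgr Lrot100 (Lpr_af (K18.f297457 IH) (Lpn (LP (LK LD1_c19 LD2_c17 LD3_c4))))
theorem f389610 : Led Lsl_ft (LP (LK LD1_c27 LD2_c35 LD3_c47)) = (LP (LK LD1_c25 LD2_c47 LD3_c23)) :=
  Lgr Lrot101 (Lpr_af (f389601 IH) (Lpr_ff (f297434 IH) (Lpe (f297489 IH) (Lpn (LP (LK LD1_c25 LD2_c47 LD3_c23))))))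
theorem f389616 : Led Lsl_gt (LP (LK LD1_c27 LD2_c35 LD3_c47)) = (LP (LK LD1_c24 LD2_c58 LD3_c34)) :=
  Lgr Lrot5 (Lpr_ft (f389610 IH) (Lpr_at (f297489 IH) (Lpr_gf (K18.f217475 IH) (Lpn (LP (LK LD1_c24 LD2_c58 LD3_c34))))))
theorem f389594 : Led Lsl_ft (LP (LK LD1_c17 LD2_c48 LD3_c37)) = (LP (LK LD1_c27 LD2_c35 LD3_c42)) :=
  Lre_f IH (LK LD1_c17 LD2_c48 LD3_c37) (LK LD1_c27 LD2_c35 LD3_c42) Lrfl Lrfl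
theorem f389618 : Led Lsl_at (LP (LK LD1_c27 LD2_c35 LD3_c42)) = (LP (LK LD1_c24 LD2_c58 LD3_c34)) :=
  Lgr Lrot26 (Lpe (f389594 IH) (Lpr_gt (f389595 IH) (Lpr_gt (f389616 IH) (Lpn (LP (LK LD1_c24 LD2_c58 LD3_c34))))))
theorem f389622 : Led Lsl_bt (LP (LK LD1_c17 LD2_c48 LD3_c33)) = (LP (LK LD1_c27 LD2_c35 LD3_c42)) :=
  Lre_b IH (LK LD1_c17 LD2_c48 LD3_c33) (LK LD1_c27 LD2_c35 LD3_c42) Lrfl Lrfl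
theorem f389623 : Led Lsl_at (LP (LK LD1_c9 LD2_c40 LD3_c54)) = (LP (LK LD1_c17 LD2_c48 LD3_c33)) :=
  Lre_a IH (LK LD1_c9 LD2_c40 LD3_c54) (LK LD1_c17 LD2_c48 LD3_c33) Lrfl Lrfl
theorem f173801 : Led Lsl_gt (LP (LK LD1_c9 LD2_c40 LD3_c54)) = (LP (LK LD1_c17 LD2_c48 LD3_c32)) :=
  Lre_g IH (LK LD1_c9 LD2_c40 LD3_c54) (LK LD1_c17 LD2_c48 LD3_c32) Lrfl Lrfl
theorem f52450 : Led Lsl_at (LP (LK LD1_c8 LD2_c9 LD3_c16)) = (LP (LK LD1_c4 LD2_c4 LD3_c14)) :=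
  Lre_a IH (LK LD1_c8 LD2_c9 LD3_c16) (LK LD1_c4 LD2_c4 LD3_c14) Lrfl Lrfl
theorem f52464 : Led Lsl_gf (LP (LK LD1_c8 LD2_c9 LD3_c18)) = (LP (LK LD1_c8 LD2_c3 LD3_c5)) :=
  Lgr Lrot47 (Lpr_gt (K20.f52463 IH) (Lpe (f52450 IH) (Lpr_ff (K10.f52446 IH) (Lpn (LP (LK LD1_c8 LD2_c3 LD3_c5))))))
theorem f52474 : Led Lsl_ct (LP (LK LD1_c15 LD2_c21 LD3_c34)) = (LP (LK LD1_c8 LD2_c9 LD3_c18)) :=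
  Lre_c IH (LK LD1_c15 LD2_c21 LD3_c34) (LK LD1_c8 LD2_c9 LD3_c18) Lrfl Lrfl
theorem f217426 : Led Lsl_bf (LP (LK LD1_c9 LD2_c40 LD3_c54)) = (LP (LK LD1_c15 LD2_c21 LD3_c34)) :=
  Lgr Lrot165 (Lpr_gt (f173801 IH) (Lpr_ct (K12.f173792 IH) (Lpe (K12.f173824 IH) (Lpe (K12.f41185 IH) (Lpr_bt (K12.f217419 IH) (Lpe (K12.f217411 IH) (Lpe (K22.f50643 IH) (Lpr_ct (K18.f31010 IH) (Lpe (f52464 IH) (Lpe (f52474 IH) (Lpn (LP (LK LD1_c15 LD2_c21 LD3_c34)))))))))))))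
theorem f389624 : Led Lsl_bt (LP (LK LD1_c24 LD2_c58 LD3_c34)) = (LP (LK LD1_c15 LD2_c9 LD3_c31)) :=
  Lre_b IH (LK LD1_c24 LD2_c58 LD3_c34) (LK LD1_c15 LD2_c9 LD3_c31) Lrfl Lrfl
theorem f389625 : Led Lsl_af (LP (LK LD1_c15 LD2_c21 LD3_c34)) = (LP (LK LD1_c15 LD2_c9 LD3_c31)) :=
  Lgr Lrot36 (Lpe (f217426 IH) (Lpr_at (f389623 IH) (Lpr_bt (f389622 IH) (Lpr_at (f389618 IH) (Lpr_bt (f389624 IH) (Lpn (LP (LK LD1_c15 LD2_c9 LD3_c31))))))))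
theorem f389629 : Led Lsl_at (LP (LK LD1_c8 LD2_c9 LD3_c18)) = (LP (LK LD1_c8 LD2_c3 LD3_c3)) :=
  Lgr Lrot107 (Lpe (f52474 IH) (Lpr_af (f389625 IH) (Lpe (K18.f52544 IH) (Lpn (LP (LK LD1_c8 LD2_c3 LD3_c3))))))
theorem f52489 : Led Lsl_gt (LP (LK LD1_c8 LD2_c3 LD3_c4)) = (LP (LK LD1_c4 LD2_c1 LD3_c9)) :=
  Lre_g IH (LK LD1_c8 LD2_c3 LD3_c4) (LK LD1_c4 LD2_c1 LD3_c9) Lrfl Lrfl
theorem f389638 : Led Lsl_ff (LP (LK LD1_c8 LD2_c9 LD3_c18)) = (LP (LK LD1_c8 LD2_c3 LD3_c4)) :=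
  Lgr Lrot52 (Lpr_at (f389629 IH) (Lpe (K18.f52543 IH) (Lpe (f52489 IH) (Lpn (LP (LK LD1_c8 LD2_c3 LD3_c4))))))
theorem f389650 : Led Lsl_ft (LP (LK LD1_c8 LD2_c9 LD3_c18)) = (LP (LK LD1_c8 LD2_c3 LD3_c4)) :=
  Lgr Lrot48 (Lpr_ff (f389638 IH) (Lpn (LP (LK LD1_c8 LD2_c3 LD3_c4))))
theorem f238419 : Led Lsl_bt (LP (LK LD1_c8 LD2_c3 LD3_c4)) = (LP (LK LD1_c15 LD2_c9 LD3_c33)) :=
  Lre_b IH (LK LD1_c8 LD2_c3 LD3_c4) (LK LD1_c15 LD2_c9 LD3_c33) Lrfl Lrfl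
theorem f389652 : Led Lsl_ff (LP (LK LD1_c15 LD2_c21 LD3_c33)) = (LP (LK LD1_c15 LD2_c9 LD3_c33)) :=
  Lgr Lrot25 (Lpr_bt (K20.f52475 IH) (Lpr_ft (f389650 IH) (Lpr_bt (f238419 IH) (Lpn (LP (LK LD1_c15 LD2_c9 LD3_c33))))))
theorem f53044 : Led Lsl_at (LP (LK LD1_c15 LD2_c21 LD3_c33)) = (LP (LK LD1_c25 LD2_c12 LD3_c60)) :=
  Lre_a IH (LK LD1_c15 LD2_c21 LD3_c33) (LK LD1_c25 LD2_c12 LD3_c60) Lrfl Lrfl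
theorem f238408 : Led Lsl_gt (LP (LK LD1_c15 LD2_c9 LD3_c33)) = (LP (LK LD1_c24 LD2_c58 LD3_c38)) :=
  Lre_g IH (LK LD1_c15 LD2_c9 LD3_c33) (LK LD1_c24 LD2_c58 LD3_c38) Lrfl Lrfl
theorem f393049 : Led Lsl_gf (LP (LK LD1_c25 LD2_c12 LD3_c60)) = (LP (LK LD1_c24 LD2_c58 LD3_c38)) :=
  Lgr Lrot76 (Lpe (f53044 IH) (Lpr_ff (f389652 IH) (Lpr_gt (f238408 IH) (Lpn (LP (LK LD1_c24 LD2_c58 LD3_c38))))))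
theorem f389662 : Led Lsl_af (LP (LK LD1_c8 LD2_c9 LD3_c17)) = (LP (LK LD1_c8 LD2_c3 LD3_c4)) :=
  Lgr Lrot31 (Lpe (K11.f53025 IH) (Lpe (K20.f52463 IH) (Lpr_ft (f389650 IH) (Lpn (LP (LK LD1_c8 LD2_c3 LD3_c4))))))
theorem f389632 : Led Lsl_af (LP (LK LD1_c8 LD2_c9 LD3_c18)) = (LP (LK LD1_c8 LD2_c3 LD3_c3)) :=
  Lgr Lrot0 (Lpr_at (f389629 IH) (Lpn (LP (LK LD1_c8 LD2_c3 LD3_c3))))
theorem f389672 : Led Lsl_ft (LP (LK LD1_c8 LD2_c9 LD3_c17)) = (LP (LK LD1_c8 LD2_c3 LD3_c3)) :=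
  Lgr Lrot101 (Lpr_af (f389662 IH) (Lpe (f389650 IH) (Lpr_af (f389632 IH) (Lpn (LP (LK LD1_c8 LD2_c3 LD3_c3))))))
theorem f389684 : Led Lsl_ff (LP (LK LD1_c8 LD2_c9 LD3_c17)) = (LP (LK LD1_c8 LD2_c3 LD3_c3)) :=
  Lgr Lrot3 (Lpr_ft (f389672 IH) (Lpn (LP (LK LD1_c8 LD2_c3 LD3_c3))))
theorem f389688 : Led Lsl_ft (LP (LK LD1_c15 LD2_c21 LD3_c31)) = (LP (LK LD1_c15 LD2_c9 LD3_c31)) :=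
  Lgr Lrot4 (Lpe (K22.f53026 IH) (Lpr_ff (f389684 IH) (Lpe (K18.f53061 IH) (Lpn (LP (LK LD1_c15 LD2_c9 LD3_c31))))))
theorem f200776 : Led Lsl_bt (LP (LK LD1_c25 LD2_c12 LD3_c54)) = (LP (LK LD1_c15 LD2_c21 LD3_c31)) :=
  Lre_b IH (LK LD1_c25 LD2_c12 LD3_c54) (LK LD1_c15 LD2_c21 LD3_c31) Lrfl Lrfl
theorem f389708 : Led Lsl_ff (LP (LK LD1_c25 LD2_c12 LD3_c54)) = (LP (LK LD1_c24 LD2_c58 LD3_c34)) :=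
  Lgr Lrot25 (Lpr_bt (f200776 IH) (Lpr_ft (f389688 IH) (Lpr_bt (K18.f53063 IH) (Lpn (LP (LK LD1_c24 LD2_c58 LD3_c34))))))
theorem f389717 : Led Lsl_ft (LP (LK LD1_c25 LD2_c12 LD3_c54)) = (LP (LK LD1_c24 LD2_c58 LD3_c34)) :=
  Lgr Lrot48 (Lpr_ff (f389708 IH) (Lpn (LP (LK LD1_c24 LD2_c58 LD3_c34))))
theorem f389620 : Led Lsl_af (LP (LK LD1_c27 LD2_c35 LD3_c42)) = (LP (LK LD1_c24 LD2_c58 LD3_c34)) :=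
  Lgr Lrot0 (Lpr_at (f389618 IH) (Lpn (LP (LK LD1_c24 LD2_c58 LD3_c34))))
theorem f389725 : Led Lsl_gt (LP (LK LD1_c17 LD2_c52 LD3_c2)) = (LP (LK LD1_c27 LD2_c35 LD3_c42)) :=
  Lgr Lrot46 (Lpr_gf (K22.f217369 IH) (Lpr_ft (f389717 IH) (Lpe (f389620 IH) (Lpn (LP (LK LD1_c27 LD2_c35 LD3_c42))))))
theorem f389727 : Led Lsl_gf (LP (LK LD1_c25 LD2_c47 LD3_c23)) = (LP (LK LD1_c27 LD2_c35 LD3_c42)) :=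
  Lgr Lrot76 (Lpr_af (K18.f297457 IH) (Lpe (K18.f297438 IH) (Lpr_gt (f389725 IH) (Lpn (LP (LK LD1_c27 LD2_c35 LD3_c42))))))
theorem f297454 : Led Lsl_dt (LP (LK LD1_c17 LD2_c54 LD3_c5)) = (LP (LK LD1_c17 LD2_c52 LD3_c2)) :=
  Lgr Lrot42 (Lpr_df (K18.f297452 IH) (Lpn (LP (LK LD1_c17 LD2_c52 LD3_c2))))
theorem f369197 : Led Lsl_af (LP (LK LD1_c15 LD2_c51 LD3_c35)) = (LP (LK LD1_c17 LD2_c51 LD3_c7)) :=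
  Lgr Lrot109 (Lpe (K22.f201194 IH) (Lpe (f297454 IH) (Lpe (K19.f168516 IH) (Lpe (K18.f168515 IH) (Lpr_cf (K18.f168363 IH) (Lpe (K19.f297570 IH) (Lpe (K18.f220535 IH) (Lpr_df (K18.f220536 IH) (Lpr_ft (K27.f369193 IH) (Lpn (LP (LK LD1_c17 LD2_c51 LD3_c7))))))))))))
theorem f369201 : Led Lsl_gf (LP (LK LD1_c17 LD2_c51 LD3_c9)) = (LP (LK LD1_c15 LD2_c51 LD3_c34)) :=
  Lgr Lrot47 (Lpe (K27.f369168 IH) (Lpr_af (f369197 IH) (Lpe (K27.f369193 IH) (Lpn (LP (LK LD1_c15 LD2_c51 LD3_c34))))))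
theorem f168628 : Led Lsl_gt (LP (LK LD1_c9 LD2_c42 LD3_c9)) = (LP (LK LD1_c4 LD2_c55 LD3_c18)) :=
  Lre_g IH (LK LD1_c9 LD2_c42 LD3_c9) (LK LD1_c4 LD2_c55 LD3_c18) Lrfl Lrfl
theorem f375099 : Led Lsl_gf (LP (LK LD1_c9 LD2_c42 LD3_c9)) = (LP (LK LD1_c16 LD2_c40 LD3_c53)) :=
  Lgr Lrot47 (Lpr_gt (f168628 IH) (Lpe (f168615 IH) (Lpr_ff (f370097 IH) (Lpn (LP (LK LD1_c16 LD2_c40 LD3_c53))))))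
theorem f168633 : Led Lsl_bt (LP (LK LD1_c17 LD2_c50 LD3_c44)) = (LP (LK LD1_c9 LD2_c42 LD3_c9)) :=
  Lre_b IH (LK LD1_c17 LD2_c50 LD3_c44) (LK LD1_c9 LD2_c42 LD3_c9) Lrfl Lrfl
theorem f168634 : Led Lsl_ct (LP (LK LD1_c17 LD2_c50 LD3_c44)) = (LP (LK LD1_c27 LD2_c37 LD3_c41)) :=
  Lre_c IH (LK LD1_c17 LD2_c50 LD3_c44) (LK LD1_c27 LD2_c37 LD3_c41) Lrfl Lrfl
theorem f389729 : Led Lsl_ct (LP (LK LD1_c17 LD2_c48 LD3_c33)) = (LP (LK LD1_c27 LD2_c35 LD3_c43)) :=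
  Lre_c IH (LK LD1_c17 LD2_c48 LD3_c33) (LK LD1_c27 LD2_c35 LD3_c43) Lrfl Lrfl
theorem f389731 : Led Lsl_gt (LP (LK LD1_c27 LD2_c37 LD3_c41)) = (LP (LK LD1_c27 LD2_c35 LD3_c43)) :=
  Lgr Lrot65 (Lpe (f168634 IH) (Lpr_bt (f168633 IH) (Lpr_gf (f375099 IH) (Lpe (K27.f370060 IH) (Lpr_ct (K27.f369166 IH) (Lpr_gf (f369201 IH) (Lpe (K19.f201176 IH) (Lpr_gf (f389727 IH) (Lpe (f389622 IH) (Lpr_ct (f389729 IH) (Lpn (LP (LK LD1_c27 LD2_c35 LD3_c43)))))))))))))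
theorem f290409 : Led Lsl_bt (LP (LK LD1_c16 LD2_c41 LD3_c10)) = (LP (LK LD1_c8 LD2_c55 LD3_c6)) :=
  Lre_b IH (LK LD1_c16 LD2_c41 LD3_c10) (LK LD1_c8 LD2_c55 LD3_c6) Lrfl Lrfl
theorem f290382 : Led Lsl_bt (LP (LK LD1_c8 LD2_c55 LD3_c6)) = (LP (LK LD1_c16 LD2_c41 LD3_c10)) :=
  Lre_b IH (LK LD1_c8 LD2_c55 LD3_c6) (LK LD1_c16 LD2_c41 LD3_c10) Lrfl Lrfl
theorem f290383 : Led Lsl_bt (LP (LK LD1_c3 LD2_c58 LD3_c44)) = (LP (LK LD1_c7 LD2_c58 LD3_c54)) :=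
  Lre_b IH (LK LD1_c3 LD2_c58 LD3_c44) (LK LD1_c7 LD2_c58 LD3_c54) Lrfl Lrfl
theorem f290385 : Led Lsl_ct (LP (LK LD1_c16 LD2_c41 LD3_c10)) = (LP (LK LD1_c15 LD2_c3 LD3_c29)) :=
  Lgr Lrot83 (Lpe (f290382 IH) (Lpr_cf (K17.f290362 IH) (Lpe (f290383 IH) (Lpe (K30.f173635 IH) (Lpe (K27.f290384 IH) (Lpn (LP (LK LD1_c15 LD2_c3 LD3_c29))))))))
theorem f173641 : Led Lsl_gt (LP (LK LD1_c24 LD2_c52 LD3_c37)) = (LP (LK LD1_c15 LD2_c3 LD3_c29)) :=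
  Lre_g IH (LK LD1_c24 LD2_c52 LD3_c37) (LK LD1_c15 LD2_c3 LD3_c29) Lrfl Lrfl
theorem f44648 : Led Lsl_bt (LP (LK LD1_c4 LD2_c27 LD3_c34)) = (LP (LK LD1_c8 LD2_c52 LD3_c58)) :=
  Lre_b IH (LK LD1_c4 LD2_c27 LD3_c34) (LK LD1_c8 LD2_c52 LD3_c58) Lrfl Lrfl
theorem f44649 : Led Lsl_gt (LP (LK LD1_c8 LD2_c52 LD3_c58)) = (LP (LK LD1_c16 LD2_c36 LD3_c21)) :=
  Lre_g IH (LK LD1_c8 LD2_c52 LD3_c58) (LK LD1_c16 LD2_c36 LD3_c21) Lrfl Lrfl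
theorem f290410 : Led Lsl_cf (LP (LK LD1_c24 LD2_c52 LD3_c37)) = (LP (LK LD1_c16 LD2_c36 LD3_c21)) :=
  Lgr Lrot125 (Lpr_gt (f173641 IH) (Lpe (f290385 IH) (Lpr_bt (f290409 IH) (Lpr_gt (K17.f290399 IH) (Lpe (K17.f199129 IH) (Lpr_ct (K14.f44734 IH) (Lpr_gt (K11.f41598 IH) (Lpe (K15.f44645 IH) (Lpr_bt (f44648 IH) (Lpr_gt (f44649 IH) (Lpn (LP (LK LD1_c16 LD2_c36 LD3_c21)))))))))))))
theorem f168064 : Led Lsl_bt (LP (LK LD1_c4 LD2_c55 LD3_c18)) = (LP (LK LD1_c2 LD2_c25 LD3_c33)) :=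
  Lre_b IH (LK LD1_c4 LD2_c55 LD3_c18) (LK LD1_c2 LD2_c25 LD3_c33) Lrfl Lrfl
theorem f168066 : Led Lsl_cf (LP (LK LD1_c4 LD2_c55 LD3_c18)) = (LP (LK LD1_c8 LD2_c53 LD3_c1)) :=
  Lgr Lrot97 (Lpr_bt (f168064 IH) (Lpr_ct (K14.f168063 IH) (Lpr_bt (K14.f168062 IH) (Lpr_ct (K9.f167941 IH) (Lpr_bt (f168065 IH) (Lpn (LP (LK LD1_c8 LD2_c53 LD3_c1))))))))
theorem f168629 : Led Lsl_ct (LP (LK LD1_c17 LD2_c50 LD3_c45)) = (LP (LK LD1_c9 LD2_c42 LD3_c9)) :=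
  Lre_c IH (LK LD1_c17 LD2_c50 LD3_c45) (LK LD1_c9 LD2_c42 LD3_c9) Lrfl Lrfl
theorem f168657 : Led Lsl_bt (LP (LK LD1_c17 LD2_c50 LD3_c45)) = (LP (LK LD1_c16 LD2_c36 LD3_c21)) :=
  Lgr Lrot92 (Lpr_ct (f168629 IH) (Lpr_gt (f168628 IH) (Lpr_cf (f168066 IH) (Lpr_bt (f168597 IH) (Lpr_gt (K9.f168075 IH) (Lpr_ct (K14.f44734 IH) (Lpr_gt (K11.f41598 IH) (Lpe (K15.f44645 IH) (Lpr_bt (f44648 IH) (Lpr_gt (f44649 IH) (Lpn (LP (LK LD1_c16 LD2_c36 LD3_c21)))))))))))))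
theorem f168661 : Led Lsl_ct (LP (LK LD1_c9 LD2_c42 LD3_c9)) = (LP (LK LD1_c17 LD2_c50 LD3_c45)) :=
  Lre_c IH (LK LD1_c9 LD2_c42 LD3_c9) (LK LD1_c17 LD2_c50 LD3_c45) Lrfl Lrfl
theorem f168662 : Led Lsl_ct (LP (LK LD1_c27 LD2_c37 LD3_c41)) = (LP (LK LD1_c17 LD2_c50 LD3_c44)) :=
  Lre_c IH (LK LD1_c27 LD2_c37 LD3_c41) (LK LD1_c17 LD2_c50 LD3_c44) Lrfl Lrfl
theorem f290415 : Led Lsl_bt (LP (LK LD1_c24 LD2_c52 LD3_c37)) = (LP (LK LD1_c27 LD2_c37 LD3_c41)) :=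
  Lgr Lrot128 (Lpr_cf (f290410 IH) (Lpe (f168657 IH) (Lpe (f168661 IH) (Lpe (f168633 IH) (Lpe (f168662 IH) (Lpn (LP (LK LD1_c27 LD2_c37 LD3_c41))))))))
theorem f290417 : Led Lsl_ct (LP (LK LD1_c24 LD2_c52 LD3_c37)) = (LP (LK LD1_c16 LD2_c36 LD3_c21)) :=
  Lgr Lrot59 (Lpr_cf (f290410 IH) (Lpn (LP (LK LD1_c16 LD2_c36 LD3_c21))))
theorem f276546 : Led Lsl_ct (LP (LK LD1_c4 LD2_c28 LD3_c8)) = (LP (LK LD1_c8 LD2_c54 LD3_c8)) :=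
  Lre_c IH (LK LD1_c4 LD2_c28 LD3_c8) (LK LD1_c8 LD2_c54 LD3_c8) Lrfl Lrfl
theorem f276472 : Led Lsl_bt (LP (LK LD1_c4 LD2_c28 LD3_c8)) = (LP (LK LD1_c2 LD2_c11 LD3_c14)) :=
  Lre_b IH (LK LD1_c4 LD2_c28 LD3_c8) (LK LD1_c2 LD2_c11 LD3_c14) Lrfl Lrfl
theorem f276473 : Led Lsl_ft (LP (LK LD1_c8 LD2_c52 LD3_c58)) = (LP (LK LD1_c4 LD2_c28 LD3_c8)) :=
  Lgr Lrot75 (Lpe (f44648 IH) (Lpr_ff (K16.f276466 IH) (Lpe (f276472 IH) (Lpn (LP (LK LD1_c4 LD2_c28 LD3_c8))))))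
theorem f303495 : Led Lsl_cf (LP (LK LD1_c8 LD2_c52 LD3_c58)) = (LP (LK LD1_c7 LD2_c58 LD3_c29)) :=
  Lgr Lrot108 (Lpr_ft (f276473 IH) (Lpr_ct (f276546 IH) (Lpr_ft (K18.f303483 IH) (Lpn (LP (LK LD1_c7 LD2_c58 LD3_c29))))))
theorem f290772 : Led Lsl_bt (LP (LK LD1_c7 LD2_c58 LD3_c29)) = (LP (LK LD1_c3 LD2_c58 LD3_c31)) :=
  Lre_b IH (LK LD1_c7 LD2_c58 LD3_c29) (LK LD1_c3 LD2_c58 LD3_c31) Lrfl Lrfl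
theorem f41138 : Led Lsl_ct (LP (LK LD1_c15 LD2_c1 LD3_c11)) = (LP (LK LD1_c9 LD2_c40 LD3_c58)) :=
  Lgr Lrot59 (Lpr_cf (K1.f41130 IH) (Lpn (LP (LK LD1_c9 LD2_c40 LD3_c58))))
theorem f389730 : Led Lsl_ct (LP (LK LD1_c27 LD2_c35 LD3_c43)) = (LP (LK LD1_c17 LD2_c48 LD3_c33)) :=
  Lre_c IH (LK LD1_c27 LD2_c35 LD3_c43) (LK LD1_c17 LD2_c48 LD3_c33) Lrfl Lrfl
theorem f389737 : Led Lsl_gf (LP (LK LD1_c9 LD2_c40 LD3_c58)) = (LP (LK LD1_c17 LD2_c48 LD3_c33)) :=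
  Lgr Lrot129 (Lpe (f41138 IH) (Lpr_bt (K12.f41134 IH) (Lpr_gt (K17.f41149 IH) (Lpe (f290772 IH) (Lpe (f303495 IH) (Lpr_gt (f44649 IH) (Lpe (f290417 IH) (Lpr_bt (f290415 IH) (Lpr_gt (f389731 IH) (Lpr_ct (f389730 IH) (Lpn (LP (LK LD1_c17 LD2_c48 LD3_c33)))))))))))))
theorem f48156 : Led Lsl_bt (LP (LK LD1_c5 LD2_c14 LD3_c57)) = (LP (LK LD1_c10 LD2_c19 LD3_c17)) :=
  Lre_b IH (LK LD1_c5 LD2_c14 LD3_c57) (LK LD1_c10 LD2_c19 LD3_c17) Lrfl Lrfl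
theorem f54481 : Led Lsl_gt (LP (LK LD1_c10 LD2_c19 LD3_c17)) = (LP (LK LD1_c18 LD2_c44 LD3_c13)) :=
  Lre_g IH (LK LD1_c10 LD2_c19 LD3_c17) (LK LD1_c18 LD2_c44 LD3_c13) Lrfl Lrfl
theorem f389747 : Led Lsl_bf (LP (LK LD1_c18 LD2_c44 LD3_c13)) = (LP (LK LD1_c27 LD2_c35 LD3_c43)) :=
  Lgr Lrot34 (Lpe (f54481 IH) (Lpe (f48156 IH) (Lpr_ct (K12.f48055 IH) (Lpe (K17.f290779 IH) (Lpr_cf (K17.f290764 IH) (Lpe (K17.f41149 IH) (Lpe (K12.f41134 IH) (Lpr_ct (f41138 IH) (Lpr_gf (f389737 IH) (Lpe (f389730 IH) (Lpn (LP (LK LD1_c27 LD2_c35 LD3_c43)))))))))))))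
theorem f389754 : Led Lsl_ft (LP (LK LD1_c17 LD2_c48 LD3_c38)) = (LP (LK LD1_c27 LD2_c35 LD3_c43)) :=
  Lre_f IH (LK LD1_c17 LD2_c48 LD3_c38) (LK LD1_c27 LD2_c35 LD3_c43) Lrfl Lrfl
theorem f223190 : Led Lsl_bf (LP (LK LD1_c17 LD2_c48 LD3_c38)) = (LP (LK LD1_c24 LD2_c50 LD3_c30)) :=
  Lgr Lrot24 (Lpr_bt (K12.f223187 IH) (Lpn (LP (LK LD1_c24 LD2_c50 LD3_c30))))
theorem f389755 : Led Lsl_ft (LP (LK LD1_c18 LD2_c44 LD3_c13)) = (LP (LK LD1_c24 LD2_c50 LD3_c30)) :=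
  Lgr Lrot75 (Lpr_bf (f389747 IH) (Lpe (f389754 IH) (Lpr_bf (f223190 IH) (Lpn (LP (LK LD1_c24 LD2_c50 LD3_c30))))))
theorem f217981 : Led Lsl_ff (LP (LK LD1_c15 LD2_c2 LD3_c2)) = (LP (LK LD1_c10 LD2_c19 LD3_c17)) :=
  Lgr Lrot25 (Lpr_bt (K12.f168021 IH) (Lpr_ft (K12.f217978 IH) (Lpr_bt (f48156 IH) (Lpn (LP (LK LD1_c10 LD2_c19 LD3_c17))))))
theorem f218073 : Led Lsl_gf (LP (LK LD1_c24 LD2_c50 LD3_c32)) = (LP (LK LD1_c18 LD2_c44 LD3_c13)) :=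
  Lgr Lrot76 (Lpe (K15.f218016 IH) (Lpr_ff (f217981 IH) (Lpr_gt (f54481 IH) (Lpn (LP (LK LD1_c18 LD2_c44 LD3_c13))))))
theorem f218047 : Led Lsl_ft (LP (LK LD1_c24 LD2_c50 LD3_c32)) = (LP (LK LD1_c18 LD2_c44 LD3_c15)) :=
  Lgr Lrot48 (Lpr_ff (K15.f218042 IH) (Lpn (LP (LK LD1_c18 LD2_c44 LD3_c15))))
theorem f54485 : Led Lsl_gt (LP (LK LD1_c18 LD2_c44 LD3_c14)) = (LP (LK LD1_c10 LD2_c19 LD3_c17)) :=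
  Lre_g IH (LK LD1_c18 LD2_c44 LD3_c14) (LK LD1_c10 LD2_c19 LD3_c17) Lrfl Lrfl
theorem f218053 : Led Lsl_gt (LP (LK LD1_c24 LD2_c50 LD3_c32)) = (LP (LK LD1_c18 LD2_c44 LD3_c14)) :=
  Lgr Lrot5 (Lpr_ft (f218047 IH) (Lpr_at (K10.f48062 IH) (Lpe (f54485 IH) (Lpn (LP (LK LD1_c18 LD2_c44 LD3_c14))))))
theorem f389761 : Led Lsl_af (LP (LK LD1_c18 LD2_c44 LD3_c14)) = (LP (LK LD1_c24 LD2_c50 LD3_c30)) :=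
  Lgr Lrot31 (Lpe (f218053 IH) (Lpr_gf (f218073 IH) (Lpr_ft (f389755 IH) (Lpn (LP (LK LD1_c24 LD2_c50 LD3_c30))))))
theorem f389765 : Led Lsl_ct (LP (LK LD1_c18 LD2_c44 LD3_c14)) = (LP (LK LD1_c25 LD2_c47 LD3_c52)) :=
  Lgr Lrot111 (Lpr_af (f389761 IH) (Lpe (f218021 IH) (Lpr_af (f389569 IH) (Lpn (LP (LK LD1_c25 LD2_c47 LD3_c52))))))
theorem f389769 : Led Lsl_cf (LP (LK LD1_c18 LD2_c44 LD3_c14)) = (LP (LK LD1_c25 LD2_c47 LD3_c52)) :=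
  Lgr Lrot11 (Lpr_ct (f389765 IH) (Lpn (LP (LK LD1_c25 LD2_c47 LD3_c52))))
theorem f218039 : Led Lsl_cf (LP (LK LD1_c24 LD2_c50 LD3_c32)) = (LP (LK LD1_c16 LD2_c44 LD3_c2)) :=
  Lgr Lrot11 (Lpr_ct (K15.f218017 IH) (Lpn (LP (LK LD1_c16 LD2_c44 LD3_c2))))
theorem f189041 : Led Lsl_at (LP (LK LD1_c8 LD2_c56 LD3_c23)) = (LP (LK LD1_c16 LD2_c44 LD3_c2)) :=
  Lre_a IH (LK LD1_c8 LD2_c56 LD3_c23) (LK LD1_c16 LD2_c44 LD3_c2) Lrfl Lrfl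
theorem f295269 : Led Lsl_bt (LP (LK LD1_c16 LD2_c44 LD3_c2)) = (LP (LK LD1_c10 LD2_c45 LD3_c57)) :=
  Lgr Lrot62 (Lpe (f189041 IH) (Lpe (K15.f188967 IH) (Lpr_af (K18.f295259 IH) (Lpe (K21.f295183 IH) (Lpe (f295268 IH) (Lpn (LP (LK LD1_c10 LD2_c45 LD3_c57))))))))
theorem f33528 : Led Lsl_gt (LP (LK LD1_c5 LD2_c14 LD3_c55)) = (LP (LK LD1_c10 LD2_c19 LD3_c12)) :=
  Lre_g IH (LK LD1_c5 LD2_c14 LD3_c55) (LK LD1_c10 LD2_c19 LD3_c12) Lrfl Lrfl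
theorem f295329 : Led Lsl_at (LP (LK LD1_c5 LD2_c27 LD3_c26)) = (LP (LK LD1_c10 LD2_c45 LD3_c57)) :=
  Lre_a IH (LK LD1_c5 LD2_c27 LD3_c26) (LK LD1_c10 LD2_c45 LD3_c57) Lrfl Lrfl
theorem f295338 : Led Lsl_gt (LP (LK LD1_c10 LD2_c19 LD3_c12)) = (LP (LK LD1_c10 LD2_c45 LD3_c57)) :=
  Lgr Lrot46 (Lpe (f33528 IH) (Lpr_ft (f295325 IH) (Lpr_at (f295329 IH) (Lpn (LP (LK LD1_c10 LD2_c45 LD3_c57))))))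
theorem f389348 : Led Lsl_ff (LP (LK LD1_c19 LD2_c28 LD3_c2)) = (LP (LK LD1_c18 LD2_c44 LD3_c4)) :=
  Lgr Lrot23 (Lpr_ct (f389335 IH) (Lpe (f389034 IH) (Lpe (K30.f388977 IH) (Lpn (LP (LK LD1_c18 LD2_c44 LD3_c4))))))
theorem f389360 : Led Lsl_ft (LP (LK LD1_c19 LD2_c28 LD3_c2)) = (LP (LK LD1_c18 LD2_c44 LD3_c4)) :=
  Lgr Lrot48 (Lpr_ff (f389348 IH) (Lpn (LP (LK LD1_c18 LD2_c44 LD3_c4))))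
theorem f389342 : Led Lsl_bt (LP (LK LD1_c10 LD2_c45 LD3_c56)) = (LP (LK LD1_c19 LD2_c28 LD3_c2)) :=
  Lre_b IH (LK LD1_c10 LD2_c45 LD3_c56) (LK LD1_c19 LD2_c28 LD3_c2) Lrfl Lrfl
theorem f389362 : Led Lsl_ff (LP (LK LD1_c10 LD2_c45 LD3_c56)) = (LP (LK LD1_c10 LD2_c19 LD3_c13)) :=
  Lgr Lrot25 (Lpr_bt (f389342 IH) (Lpr_ft (f389360 IH) (Lpr_bt (K30.f33535 IH) (Lpn (LP (LK LD1_c10 LD2_c19 LD3_c13))))))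
theorem f389383 : Led Lsl_at (LP (LK LD1_c10 LD2_c45 LD3_c56)) = (LP (LK LD1_c10 LD2_c19 LD3_c12)) :=
  Lgr Lrot26 (Lpr_ff (f389362 IH) (Lpr_gt (K30.f33531 IH) (Lpr_gt (f33528 IH) (Lpn (LP (LK LD1_c10 LD2_c19 LD3_c12))))))
theorem f389054 : Led Lsl_bt (LP (LK LD1_c9 LD2_c51 LD3_c35)) = (LP (LK LD1_c18 LD2_c2 LD3_c52)) :=
  Lre_b IH (LK LD1_c9 LD2_c51 LD3_c35) (LK LD1_c18 LD2_c2 LD3_c52) Lrfl Lrfl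
theorem f389343 : Led Lsl_cf (LP (LK LD1_c10 LD2_c45 LD3_c56)) = (LP (LK LD1_c18 LD2_c2 LD3_c52)) :=
  Lgr Lrot97 (Lpr_bt (f389342 IH) (Lpr_ct (f389335 IH) (Lpr_bt (f389045 IH) (Lpr_ct (f213421 IH) (Lpr_bt (f389054 IH) (Lpn (LP (LK LD1_c18 LD2_c2 LD3_c52))))))))
theorem f33543 : Led Lsl_ct (LP (LK LD1_c10 LD2_c19 LD3_c12)) = (LP (LK LD1_c18 LD2_c44 LD3_c1)) :=
  Lre_c IH (LK LD1_c10 LD2_c19 LD3_c12) (LK LD1_c18 LD2_c44 LD3_c1) Lrfl Lrfl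
theorem f389390 : Led Lsl_af (LP (LK LD1_c18 LD2_c2 LD3_c52)) = (LP (LK LD1_c18 LD2_c44 LD3_c1)) :=
  Lgr Lrot68 (Lpe (f389343 IH) (Lpr_at (f389383 IH) (Lpr_ct (f33543 IH) (Lpn (LP (LK LD1_c18 LD2_c44 LD3_c1))))))
theorem f389057 : Led Lsl_ff (LP (LK LD1_c18 LD2_c44 LD3_c5)) = (LP (LK LD1_c18 LD2_c2 LD3_c52)) :=
  Lgr Lrot25 (Lpr_bt (K30.f218143 IH) (Lpr_ft (f389050 IH) (Lpr_bt (f389054 IH) (Lpn (LP (LK LD1_c18 LD2_c2 LD3_c52))))))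
theorem f213544 : Led Lsl_bt (LP (LK LD1_c2 LD2_c42 LD3_c43)) = (LP (LK LD1_c3 LD2_c58 LD3_c36)) :=
  Lgr Lrot127 (Lpr_bf (K20.f213482 IH) (Lpn (LP (LK LD1_c3 LD2_c58 LD3_c36))))
theorem f174183 : Led Lsl_ct (LP (LK LD1_c2 LD2_c42 LD3_c43)) = (LP (LK LD1_c1 LD2_c17 LD3_c54)) :=
  Lre_c IH (LK LD1_c2 LD2_c42 LD3_c43) (LK LD1_c1 LD2_c17 LD3_c54) Lrfl Lrfl
theorem f213565 : Led Lsl_ct (LP (LK LD1_c5 LD2_c32 LD3_c56)) = (LP (LK LD1_c2 LD2_c42 LD3_c40)) :=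
  Lre_c IH (LK LD1_c5 LD2_c32 LD3_c56) (LK LD1_c2 LD2_c42 LD3_c40) Lrfl Lrfl
theorem f213566 : Led Lsl_bt (LP (LK LD1_c5 LD2_c32 LD3_c56)) = (LP (LK LD1_c10 LD2_c57 LD3_c37)) :=
  Lre_b IH (LK LD1_c5 LD2_c32 LD3_c56) (LK LD1_c10 LD2_c57 LD3_c37) Lrfl Lrfl
theorem f218145 : Led Lsl_gf (LP (LK LD1_c18 LD2_c44 LD3_c5)) = (LP (LK LD1_c10 LD2_c57 LD3_c37)) :=
  Lgr Lrot181 (Lpr_ct (K30.f33532 IH) (Lpr_gt (K30.f33531 IH) (Lpe (K10.f33520 IH) (Lpr_bt (K10.f31304 IH) (Lpr_gt (K13.f218141 IH) (Lpe (f213544 IH) (Lpr_ct (f174183 IH) (Lpr_gt (K24.f213564 IH) (Lpe (f213565 IH) (Lpr_bt (f213566 IH) (Lpn (LP (LK LD1_c10 LD2_c57 LD3_c37)))))))))))))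
theorem f218155 : Led Lsl_bf (LP (LK LD1_c18 LD2_c44 LD3_c5)) = (LP (LK LD1_c11 LD2_c2 LD3_c35)) :=
  Lgr Lrot34 (Lpr_gf (f218145 IH) (Lpe (f213566 IH) (Lpr_ct (f213565 IH) (Lpe (K24.f213564 IH) (Lpe (f174183 IH) (Lpe (K24.f174184 IH) (Lpe (K30.f213406 IH) (Lpr_ct (K30.f213403 IH) (Lpe (K30.f213400 IH) (Lpr_cf (K30.f213557 IH) (Lpn (LP (LK LD1_c11 LD2_c2 LD3_c35)))))))))))))
theorem f388531 : Led Lsl_gf (LP (LK LD1_c8 LD2_c28 LD3_c23)) = (LP (LK LD1_c15 LD2_c19 LD3_c21)) :=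
  Lgr Lrot76 (Lpe (K30.f388525 IH) (Lpr_ff (K30.f388526 IH) (Lpr_gt (K30.f213410 IH) (Lpn (LP (LK LD1_c15 LD2_c19 LD3_c21))))))
theorem f318395 : Led Lsl_dt (LP (LK LD1_c8 LD2_c58 LD3_c19)) = (LP (LK LD1_c15 LD2_c19 LD3_c21)) :=
  Lgr Lrot79 (Lpr_bf (K20.f318387 IH) (Lpe (K20.f290532 IH) (Lpe (K30.f290538 IH) (Lpn (LP (LK LD1_c15 LD2_c19 LD3_c21))))))
theorem f235264 : Led Lsl_ct (LP (LK LD1_c15 LD2_c53 LD3_c48)) = (LP (LK LD1_c8 LD2_c27 LD3_c58)) :=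
  Lre_c IH (LK LD1_c15 LD2_c53 LD3_c48) (LK LD1_c8 LD2_c27 LD3_c58) Lrfl Lrfl
theorem f388533 : Led Lsl_gt (LP (LK LD1_c15 LD2_c54 LD3_c33)) = (LP (LK LD1_c15 LD2_c53 LD3_c48)) :=
  Lgr Lrot150 (Lpe (K30.f52882 IH) (Lpr_gf (f388531 IH) (Lpe (f318395 IH) (Lpe (K30.f387631 IH) (Lpr_ct (K30.f218282 IH) (Lpr_gt (K22.f218371 IH) (Lpr_ct (K22.f218378 IH) (Lpe (K30.f387991 IH) (Lpe (f235264 IH) (Lpn (LP (LK LD1_c15 LD2_c53 LD3_c48))))))))))))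
theorem f295184 : Led Lsl_ct (LP (LK LD1_c9 LD2_c43 LD3_c46)) = (LP (LK LD1_c5 LD2_c27 LD3_c26)) :=
  Lgr Lrot83 (Lpe (f235225 IH) (Lpe (K16.f235548 IH) (Lpr_bf (K18.f295179 IH) (Lpe (K18.f278114 IH) (Lpe (K21.f295183 IH) (Lpn (LP (LK LD1_c5 LD2_c27 LD3_c26))))))))
theorem f174981 : Led Lsl_gt (LP (LK LD1_c5 LD2_c27 LD3_c26)) = (LP (LK LD1_c10 LD2_c45 LD3_c55)) :=
  Lre_g IH (LK LD1_c5 LD2_c27 LD3_c26) (LK LD1_c10 LD2_c45 LD3_c55) Lrfl Lrfl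
theorem f242682 : Led Lsl_ct (LP (LK LD1_c19 LD2_c27 LD3_c61)) = (LP (LK LD1_c10 LD2_c45 LD3_c55)) :=
  Lre_c IH (LK LD1_c19 LD2_c27 LD3_c61) (LK LD1_c10 LD2_c45 LD3_c55) Lrfl Lrfl
theorem f388535 : Led Lsl_bf (LP (LK LD1_c15 LD2_c54 LD3_c33)) = (LP (LK LD1_c19 LD2_c27 LD3_c61)) :=
  Lgr Lrot165 (Lpr_gt (f388533 IH) (Lpr_ct (f235264 IH) (Lpr_gt (K30.f235263 IH) (Lpe (K30.f216387 IH) (Lpr_bt (K30.f218271 IH) (Lpe (K13.f235259 IH) (Lpe (K21.f235112 IH) (Lpr_ct (f295184 IH) (Lpr_gt (f174981 IH) (Lpe (f242682 IH) (Lpn (LP (LK LD1_c19 LD2_c27 LD3_c61)))))))))))))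
theorem f388954 : Led Lsl_at (LP (LK LD1_c18 LD2_c44 LD3_c5)) = (LP (LK LD1_c19 LD2_c27 LD3_c61)) :=
  Lgr Lrot67 (Lpr_bf (f218155 IH) (Lpr_af (K30.f388950 IH) (Lpe (K30.f213432 IH) (Lpe (K30.f388931 IH) (Lpr_bf (f388535 IH) (Lpn (LP (LK LD1_c19 LD2_c27 LD3_c61))))))))
theorem f389407 : Led Lsl_ft (LP (LK LD1_c19 LD2_c27 LD3_c61)) = (LP (LK LD1_c18 LD2_c44 LD3_c1)) :=
  Lgr Lrot101 (Lpe (f388954 IH) (Lpr_ff (f389057 IH) (Lpr_af (f389390 IH) (Lpn (LP (LK LD1_c18 LD2_c44 LD3_c1))))))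
theorem f389461 : Led Lsl_ff (LP (LK LD1_c19 LD2_c27 LD3_c61)) = (LP (LK LD1_c18 LD2_c44 LD3_c1)) :=
  Lgr Lrot3 (Lpr_ft (f389407 IH) (Lpn (LP (LK LD1_c18 LD2_c44 LD3_c1))))
theorem f389465 : Led Lsl_ft (LP (LK LD1_c10 LD2_c45 LD3_c55)) = (LP (LK LD1_c10 LD2_c19 LD3_c12)) :=
  Lgr Lrot4 (Lpe (f242682 IH) (Lpr_ff (f389461 IH) (Lpe (f33543 IH) (Lpn (LP (LK LD1_c10 LD2_c19 LD3_c12))))))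
theorem f242688 : Led Lsl_dt (LP (LK LD1_c19 LD2_c28 LD3_c0)) = (LP (LK LD1_c10 LD2_c45 LD3_c55)) :=
  Lre_d IH (LK LD1_c19 LD2_c28 LD3_c0) (LK LD1_c10 LD2_c45 LD3_c55) Lrfl Lrfl
theorem f33529 : Led Lsl_dt (LP (LK LD1_c10 LD2_c19 LD3_c12)) = (LP (LK LD1_c18 LD2_c44 LD3_c2)) :=
  Lre_d IH (LK LD1_c10 LD2_c19 LD3_c12) (LK LD1_c18 LD2_c44 LD3_c2) Lrfl Lrfl
theorem f389471 : Led Lsl_ff (LP (LK LD1_c19 LD2_c28 LD3_c0)) = (LP (LK LD1_c18 LD2_c44 LD3_c2)) :=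
  Lgr Lrot19 (Lpr_dt (f242688 IH) (Lpr_ft (f389465 IH) (Lpr_dt (f33529 IH) (Lpn (LP (LK LD1_c18 LD2_c44 LD3_c2))))))
theorem f389477 : Led Lsl_ft (LP (LK LD1_c19 LD2_c28 LD3_c0)) = (LP (LK LD1_c18 LD2_c44 LD3_c2)) :=
  Lgr Lrot48 (Lpr_ff (f389471 IH) (Lpn (LP (LK LD1_c18 LD2_c44 LD3_c2))))
theorem f52881 : Led Lsl_bt (LP (LK LD1_c8 LD2_c28 LD3_c23)) = (LP (LK LD1_c4 LD2_c14 LD3_c47)) :=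
  Lre_b IH (LK LD1_c8 LD2_c28 LD3_c23) (LK LD1_c4 LD2_c14 LD3_c47) Lrfl Lrfl
theorem f242689 : Led Lsl_ct (LP (LK LD1_c10 LD2_c45 LD3_c55)) = (LP (LK LD1_c19 LD2_c27 LD3_c61)) :=
  Lre_c IH (LK LD1_c10 LD2_c45 LD3_c55) (LK LD1_c19 LD2_c27 LD3_c61) Lrfl Lrfl
theorem f388539 : Led Lsl_bt (LP (LK LD1_c8 LD2_c28 LD3_c24)) = (LP (LK LD1_c10 LD2_c45 LD3_c55)) :=
  Lgr Lrot128 (Lpe (K30.f52749 IH) (Lpe (f52881 IH) (Lpe (K30.f196913 IH) (Lpr_bf (f388535 IH) (Lpe (f242689 IH) (Lpn (LP (LK LD1_c10 LD2_c45 LD3_c55))))))))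
theorem f174982 : Led Lsl_dt (LP (LK LD1_c10 LD2_c45 LD3_c55)) = (LP (LK LD1_c19 LD2_c28 LD3_c0)) :=
  Lre_d IH (LK LD1_c10 LD2_c45 LD3_c55) (LK LD1_c19 LD2_c28 LD3_c0) Lrfl Lrfl
theorem f388547 : Led Lsl_bf (LP (LK LD1_c15 LD2_c54 LD3_c36)) = (LP (LK LD1_c19 LD2_c28 LD3_c0)) :=
  Lgr Lrot93 (Lpr_dt (K30.f220909 IH) (Lpr_bt (f388539 IH) (Lpr_dt (f174982 IH) (Lpn (LP (LK LD1_c19 LD2_c28 LD3_c0))))))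
theorem f388570 : Led Lsl_bt (LP (LK LD1_c15 LD2_c54 LD3_c36)) = (LP (LK LD1_c19 LD2_c28 LD3_c0)) :=
  Lgr Lrot127 (Lpr_bf (f388547 IH) (Lpn (LP (LK LD1_c19 LD2_c28 LD3_c0))))
theorem f388580 : Led Lsl_ft (LP (LK LD1_c25 LD2_c50 LD3_c9)) = (LP (LK LD1_c15 LD2_c54 LD3_c36)) :=
  Lre_f IH (LK LD1_c25 LD2_c50 LD3_c9) (LK LD1_c15 LD2_c54 LD3_c36) Lrfl Lrfl
theorem f389481 : Led Lsl_bf (LP (LK LD1_c25 LD2_c50 LD3_c9)) = (LP (LK LD1_c18 LD2_c44 LD3_c2)) :=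
  Lgr Lrot61 (Lpr_ft (f388580 IH) (Lpr_bt (f388570 IH) (Lpr_ft (f389477 IH) (Lpn (LP (LK LD1_c18 LD2_c44 LD3_c2))))))
theorem f388873 : Led Lsl_dt (LP (LK LD1_c25 LD2_c50 LD3_c9)) = (LP (LK LD1_c15 LD2_c54 LD3_c16)) :=
  Lre_d IH (LK LD1_c25 LD2_c50 LD3_c9) (LK LD1_c15 LD2_c54 LD3_c16) Lrfl Lrfl
theorem f389497 : Led Lsl_bt (LP (LK LD1_c15 LD2_c54 LD3_c16)) = (LP (LK LD1_c10 LD2_c19 LD3_c12)) :=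
  Lgr Lrot95 (Lpe (f388873 IH) (Lpr_bf (f389481 IH) (Lpe (f33529 IH) (Lpn (LP (LK LD1_c10 LD2_c19 LD3_c12))))))
theorem f388872 : Led Lsl_ct (LP (LK LD1_c15 LD2_c54 LD3_c16)) = (LP (LK LD1_c8 LD2_c28 LD3_c17)) :=
  Lre_c IH (LK LD1_c15 LD2_c54 LD3_c16) (LK LD1_c8 LD2_c28 LD3_c17) Lrfl Lrfl
theorem f389768 : Led Lsl_bt (LP (LK LD1_c25 LD2_c47 LD3_c52)) = (LP (LK LD1_c15 LD2_c52 LD3_c10)) :=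
  Lre_b IH (LK LD1_c25 LD2_c47 LD3_c52) (LK LD1_c15 LD2_c52 LD3_c10) Lrfl Lrfl
theorem f389793 : Led Lsl_gf (LP (LK LD1_c8 LD2_c27 LD3_c7)) = (LP (LK LD1_c15 LD2_c52 LD3_c10)) :=
  Lgr Lrot181 (Lpr_ct (K10.f52793 IH) (Lpe (f389536 IH) (Lpe (f388872 IH) (Lpr_bt (f389497 IH) (Lpr_gt (f295338 IH) (Lpe (f295269 IH) (Lpe (f218039 IH) (Lpr_gt (f218053 IH) (Lpr_cf (f389769 IH) (Lpr_bt (f389768 IH) (Lpn (LP (LK LD1_c15 LD2_c52 LD3_c10)))))))))))))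
theorem f218379 : Led Lsl_ct (LP (LK LD1_c5 LD2_c33 LD3_c36)) = (LP (LK LD1_c5 LD2_c31 LD3_c33)) :=
  Lre_c IH (LK LD1_c5 LD2_c33 LD3_c36) (LK LD1_c5 LD2_c31 LD3_c33) Lrfl Lrfl
theorem f218381 : Led Lsl_gt (LP (LK LD1_c10 LD2_c59 LD3_c6)) = (LP (LK LD1_c19 LD2_c49 LD3_c40)) :=
  Lre_g IH (LK LD1_c10 LD2_c59 LD3_c6) (LK LD1_c19 LD2_c49 LD3_c40) Lrfl Lrfl
theorem f389801 : Led Lsl_ct (LP (LK LD1_c19 LD2_c49 LD3_c40)) = (LP (LK LD1_c15 LD2_c52 LD3_c10)) :=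
  Lgr Lrot91 (Lpe (f218381 IH) (Lpe (K30.f218380 IH) (Lpr_ct (f218379 IH) (Lpe (K22.f218371 IH) (Lpe (K30.f218282 IH) (Lpr_bt (K30.f52872 IH) (Lpe (K12.f52870 IH) (Lpe (K10.f51141 IH) (Lpr_ct (K10.f52770 IH) (Lpr_gf (f389793 IH) (Lpn (LP (LK LD1_c15 LD2_c52 LD3_c10)))))))))))))
theorem f389795 : Led Lsl_ft (LP (LK LD1_c15 LD2_c52 LD3_c10)) = (LP (LK LD1_c8 LD2_c27 LD3_c5)) :=
  Lre_f IH (LK LD1_c15 LD2_c52 LD3_c10) (LK LD1_c8 LD2_c27 LD3_c5) Lrfl Lrfl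
theorem f389813 : Led Lsl_ff (LP (LK LD1_c19 LD2_c49 LD3_c40)) = (LP (LK LD1_c15 LD2_c52 LD3_c7)) :=
  Lgr Lrot23 (Lpr_ct (f389801 IH) (Lpr_ft (f389795 IH) (Lpr_ct (f218035 IH) (Lpn (LP (LK LD1_c15 LD2_c52 LD3_c7))))))
theorem f228425 : Led Lsl_gt (LP (LK LD1_c5 LD2_c22 LD3_c54)) = (LP (LK LD1_c10 LD2_c36 LD3_c5)) :=
  Lre_g IH (LK LD1_c5 LD2_c22 LD3_c54) (LK LD1_c10 LD2_c36 LD3_c5) Lrfl Lrfl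
theorem f228429 : Led Lsl_ct (LP (LK LD1_c10 LD2_c36 LD3_c5)) = (LP (LK LD1_c19 LD2_c11 LD3_c57)) :=
  Lre_c IH (LK LD1_c10 LD2_c36 LD3_c5) (LK LD1_c19 LD2_c11 LD3_c57) Lrfl Lrfl
theorem f387942 : Led Lsl_dt (LP (LK LD1_c15 LD2_c52 LD3_c7)) = (LP (LK LD1_c19 LD2_c11 LD3_c57)) :=
  Lgr Lrot27 (Lpe (f218035 IH) (Lpe (K15.f188948 IH) (Lpe (K10.f52708 IH) (Lpe (K20.f196911 IH) (Lpe (K30.f52759 IH) (Lpr_gt (K30.f387934 IH) (Lpr_ct (K17.f228416 IH) (Lpr_gt (f228425 IH) (Lpr_ct (f228429 IH) (Lpn (LP (LK LD1_c19 LD2_c11 LD3_c57))))))))))))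
theorem f228431 : Led Lsl_ct (LP (LK LD1_c19 LD2_c11 LD3_c57)) = (LP (LK LD1_c10 LD2_c36 LD3_c5)) :=
  Lre_c IH (LK LD1_c19 LD2_c11 LD3_c57) (LK LD1_c10 LD2_c36 LD3_c5) Lrfl Lrfl
theorem f228622 : Led Lsl_dt (LP (LK LD1_c10 LD2_c36 LD3_c5)) = (LP (LK LD1_c19 LD2_c11 LD3_c58)) :=
  Lre_d IH (LK LD1_c10 LD2_c36 LD3_c5) (LK LD1_c19 LD2_c11 LD3_c58) Lrfl Lrfl
theorem f228670 : Led Lsl_ct (LP (LK LD1_c19 LD2_c11 LD3_c58)) = (LP (LK LD1_c28 LD2_c37 LD3_c58)) :=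
  Lre_c IH (LK LD1_c19 LD2_c11 LD3_c58) (LK LD1_c28 LD2_c37 LD3_c58) Lrfl Lrfl
theorem f387945 : Led Lsl_df (LP (LK LD1_c15 LD2_c52 LD3_c7)) = (LP (LK LD1_c19 LD2_c11 LD3_c57)) :=
  Lgr Lrot162 (Lpe (f218035 IH) (Lpe (K15.f188948 IH) (Lpe (K10.f52708 IH) (Lpe (K20.f196911 IH) (Lpr_dt (K30.f52745 IH) (Lpr_gt (K30.f387934 IH) (Lpr_ct (K17.f228416 IH) (Lpr_gt (f228425 IH) (Lpr_ct (f228429 IH) (Lpn (LP (LK LD1_c19 LD2_c11 LD3_c57))))))))))))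
theorem f388168 : Led Lsl_at (LP (LK LD1_c15 LD2_c52 LD3_c5)) = (LP (LK LD1_c8 LD2_c27 LD3_c5)) :=
  Lre_a IH (LK LD1_c15 LD2_c52 LD3_c5) (LK LD1_c8 LD2_c27 LD3_c5) Lrfl Lrfl
theorem f200787 : Led Lsl_ft (LP (LK LD1_c8 LD2_c27 LD3_c6)) = (LP (LK LD1_c15 LD2_c52 LD3_c5)) :=
  Lre_f IH (LK LD1_c8 LD2_c27 LD3_c6) (LK LD1_c15 LD2_c52 LD3_c5) Lrfl Lrfl
theorem f200781 : Led Lsl_dt (LP (LK LD1_c8 LD2_c27 LD3_c6)) = (LP (LK LD1_c15 LD2_c52 LD3_c12)) :=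
  Lre_d IH (LK LD1_c8 LD2_c27 LD3_c6) (LK LD1_c15 LD2_c52 LD3_c12) Lrfl Lrfl
theorem f200782 : Led Lsl_ct (LP (LK LD1_c15 LD2_c52 LD3_c12)) = (LP (LK LD1_c25 LD2_c47 LD3_c61)) :=
  Lre_c IH (LK LD1_c15 LD2_c52 LD3_c12) (LK LD1_c25 LD2_c47 LD3_c61) Lrfl Lrfl
theorem f286794 : Led Lsl_dt (LP (LK LD1_c19 LD2_c11 LD3_c58)) = (LP (LK LD1_c10 LD2_c36 LD3_c5)) :=
  Lre_d IH (LK LD1_c19 LD2_c11 LD3_c58) (LK LD1_c10 LD2_c36 LD3_c5) Lrfl Lrfl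
theorem f388161 : Led Lsl_ct (LP (LK LD1_c28 LD2_c37 LD3_c58)) = (LP (LK LD1_c19 LD2_c11 LD3_c58)) :=
  Lre_c IH (LK LD1_c28 LD2_c37 LD3_c58) (LK LD1_c19 LD2_c11 LD3_c58) Lrfl Lrfl
theorem f388169 : Led Lsl_dt (LP (LK LD1_c25 LD2_c47 LD3_c61)) = (LP (LK LD1_c28 LD2_c37 LD3_c58)) :=
  Lgr Lrot32 (Lpe (f200782 IH) (Lpe (f200781 IH) (Lpr_ft (f200787 IH) (Lpr_at (f388168 IH) (Lpe (f52752 IH) (Lpr_df (f387945 IH) (Lpe (f228429 IH) (Lpe (f286794 IH) (Lpe (f388161 IH) (Lpn (LP (LK LD1_c28 LD2_c37 LD3_c58))))))))))))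
theorem f388171 : Led Lsl_df (LP (LK LD1_c25 LD2_c47 LD3_c61)) = (LP (LK LD1_c28 LD2_c37 LD3_c58)) :=
  Lgr Lrot38 (Lpr_dt (f388169 IH) (Lpn (LP (LK LD1_c28 LD2_c37 LD3_c58))))
theorem f200794 : Led Lsl_ct (LP (LK LD1_c25 LD2_c47 LD3_c61)) = (LP (LK LD1_c15 LD2_c52 LD3_c12)) :=
  Lre_c IH (LK LD1_c25 LD2_c47 LD3_c61) (LK LD1_c15 LD2_c52 LD3_c12) Lrfl Lrfl
theorem f200793 : Led Lsl_dt (LP (LK LD1_c15 LD2_c52 LD3_c12)) = (LP (LK LD1_c8 LD2_c27 LD3_c6)) :=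
  Lre_d IH (LK LD1_c15 LD2_c52 LD3_c12) (LK LD1_c8 LD2_c27 LD3_c6) Lrfl Lrfl
theorem f200779 : Led Lsl_ct (LP (LK LD1_c8 LD2_c27 LD3_c6)) = (LP (LK LD1_c15 LD2_c21 LD3_c30)) :=
  Lgr Lrot59 (Lpr_cf (K11.f200771 IH) (Lpn (LP (LK LD1_c15 LD2_c21 LD3_c30))))
theorem f389819 : Led Lsl_at (LP (LK LD1_c19 LD2_c49 LD3_c40)) = (LP (LK LD1_c15 LD2_c21 LD3_c30)) :=
  Lgr Lrot33 (Lpr_ff (f389813 IH) (Lpr_dt (f387942 IH) (Lpr_ct (f228431 IH) (Lpr_dt (f228622 IH) (Lpr_ct (f228670 IH) (Lpe (f388171 IH) (Lpr_ct (f200794 IH) (Lpr_dt (f200793 IH) (Lpr_ct (f200779 IH) (Lpn (LP (LK LD1_c15 LD2_c21 LD3_c30))))))))))))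
theorem f200775 : Led Lsl_bt (LP (LK LD1_c8 LD2_c9 LD3_c17)) = (LP (LK LD1_c15 LD2_c21 LD3_c30)) :=
  Lre_b IH (LK LD1_c8 LD2_c9 LD3_c17) (LK LD1_c15 LD2_c21 LD3_c30) Lrfl Lrfl
theorem f53062 : Led Lsl_bt (LP (LK LD1_c15 LD2_c9 LD3_c30)) = (LP (LK LD1_c8 LD2_c3 LD3_c3)) :=
  Lre_b IH (LK LD1_c15 LD2_c9 LD3_c30) (LK LD1_c8 LD2_c3 LD3_c3) Lrfl Lrfl
theorem f389686 : Led Lsl_ft (LP (LK LD1_c15 LD2_c21 LD3_c30)) = (LP (LK LD1_c15 LD2_c9 LD3_c30)) :=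
  Lgr Lrot75 (Lpe (f200775 IH) (Lpr_ff (f389684 IH) (Lpe (f53062 IH) (Lpn (LP (LK LD1_c15 LD2_c9 LD3_c30))))))
theorem f389826 : Led Lsl_af (LP (LK LD1_c15 LD2_c52 LD3_c7)) = (LP (LK LD1_c15 LD2_c9 LD3_c30)) :=
  Lgr Lrot45 (Lpe (f389813 IH) (Lpr_at (f389819 IH) (Lpr_ft (f389686 IH) (Lpn (LP (LK LD1_c15 LD2_c9 LD3_c30))))))
theorem f388162 : Led Lsl_et (LP (LK LD1_c15 LD2_c52 LD3_c7)) = (LP (LK LD1_c25 LD2_c47 LD3_c53)) :=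
  Lre_e IH (LK LD1_c15 LD2_c52 LD3_c7) (LK LD1_c25 LD2_c47 LD3_c53) Lrfl Lrfl
theorem f296699 : Led Lsl_et (LP (LK LD1_c24 LD2_c58 LD3_c32)) = (LP (LK LD1_c15 LD2_c9 LD3_c30)) :=
  Lre_e IH (LK LD1_c24 LD2_c58 LD3_c32) (LK LD1_c15 LD2_c9 LD3_c30) Lrfl Lrfl
theorem f389836 : Led Lsl_at (LP (LK LD1_c25 LD2_c47 LD3_c53)) = (LP (LK LD1_c24 LD2_c58 LD3_c32)) :=
  Lgr Lrot80 (Lpe (f388162 IH) (Lpr_af (f389826 IH) (Lpe (f296699 IH) (Lpn (LP (LK LD1_c24 LD2_c58 LD3_c32))))))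
theorem f389998 : Led Lsl_ct (LP (LK LD1_c15 LD2_c52 LD3_c9)) = (LP (LK LD1_c25 LD2_c47 LD3_c53)) :=
  Lre_c IH (LK LD1_c15 LD2_c52 LD3_c9) (LK LD1_c25 LD2_c47 LD3_c53) Lrfl Lrfl
theorem f389999 : Led Lsl_at (LP (LK LD1_c25 LD2_c47 LD3_c47)) = (LP (LK LD1_c15 LD2_c52 LD3_c9)) :=
  Lre_a IH (LK LD1_c25 LD2_c47 LD3_c47) (LK LD1_c15 LD2_c52 LD3_c9) Lrfl Lrfl
theorem f390000 : Led Lsl_cf (LP (LK LD1_c25 LD2_c47 LD3_c47)) = (LP (LK LD1_c24 LD2_c58 LD3_c32)) :=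
  Lgr Lrot1 (Lpr_at (f389999 IH) (Lpr_ct (f389998 IH) (Lpr_at (f389836 IH) (Lpn (LP (LK LD1_c24 LD2_c58 LD3_c32))))))
theorem f390003 : Led Lsl_ct (LP (LK LD1_c25 LD2_c47 LD3_c47)) = (LP (LK LD1_c24 LD2_c58 LD3_c32)) :=
  Lgr Lrot59 (Lpr_cf (f390000 IH) (Lpn (LP (LK LD1_c24 LD2_c58 LD3_c32))))
theorem f390009 : Led Lsl_et (LP (LK LD1_c15 LD2_c52 LD3_c5)) = (LP (LK LD1_c25 LD2_c47 LD3_c47)) :=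
  Lre_e IH (LK LD1_c15 LD2_c52 LD3_c5) (LK LD1_c25 LD2_c47 LD3_c47) Lrfl Lrfl
theorem f390010 : Led Lsl_cf (LP (LK LD1_c15 LD2_c52 LD3_c5)) = (LP (LK LD1_c15 LD2_c9 LD3_c30)) :=
  Lgr Lrot39 (Lpr_et (f390009 IH) (Lpr_ct (f390003 IH) (Lpr_et (f296699 IH) (Lpn (LP (LK LD1_c15 LD2_c9 LD3_c30))))))
theorem f390012 : Led Lsl_bt (LP (LK LD1_c15 LD2_c52 LD3_c5)) = (LP (LK LD1_c25 LD2_c47 LD3_c46)) :=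
  Lre_b IH (LK LD1_c15 LD2_c52 LD3_c5) (LK LD1_c25 LD2_c47 LD3_c46) Lrfl Lrfl
theorem f223581 : Led Lsl_bt (LP (LK LD1_c8 LD2_c3 LD3_c3)) = (LP (LK LD1_c15 LD2_c9 LD3_c30)) :=
  Lre_b IH (LK LD1_c8 LD2_c3 LD3_c3) (LK LD1_c15 LD2_c9 LD3_c30) Lrfl Lrfl
theorem f390013 : Led Lsl_ct (LP (LK LD1_c25 LD2_c47 LD3_c46)) = (LP (LK LD1_c24 LD2_c58 LD3_c34)) :=
  Lgr Lrot83 (Lpe (f390012 IH) (Lpr_cf (f390010 IH) (Lpe (f223581 IH) (Lpe (K18.f53061 IH) (Lpe (f389624 IH) (Lpn (LP (LK LD1_c24 LD2_c58 LD3_c34))))))))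
theorem f390017 : Led Lsl_bt (LP (LK LD1_c25 LD2_c47 LD3_c46)) = (LP (LK LD1_c15 LD2_c52 LD3_c5)) :=
  Lre_b IH (LK LD1_c25 LD2_c47 LD3_c46) (LK LD1_c15 LD2_c52 LD3_c5) Lrfl Lrfl
theorem f389796 : Led Lsl_at (LP (LK LD1_c8 LD2_c27 LD3_c5)) = (LP (LK LD1_c15 LD2_c52 LD3_c5)) :=
  Lre_a IH (LK LD1_c8 LD2_c27 LD3_c5) (LK LD1_c15 LD2_c52 LD3_c5) Lrfl Lrfl
theorem f389797 : Led Lsl_gt (LP (LK LD1_c8 LD2_c27 LD3_c7)) = (LP (LK LD1_c15 LD2_c52 LD3_c5)) :=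
  Lgr Lrot46 (Lpr_gf (f389793 IH) (Lpr_ft (f389795 IH) (Lpr_at (f389796 IH) (Lpn (LP (LK LD1_c15 LD2_c52 LD3_c5))))))
theorem f198895 : Led Lsl_cf (LP (LK LD1_c21 LD2_c0 LD3_c46)) = (LP (LK LD1_c19 LD2_c7 LD3_c51)) :=
  Lgr Lrot1 (Lpr_at (K12.f183747 IH) (Lpr_ct (K12.f198886 IH) (Lpr_at (K12.f198894 IH) (Lpn (LP (LK LD1_c19 LD2_c7 LD3_c51))))))
theorem f217906 : Led Lsl_ct (LP (LK LD1_c15 LD2_c51 LD3_c4)) = (LP (LK LD1_c10 LD2_c39 LD3_c3)) :=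
  Lgr Lrot15 (Lpe (K12.f183755 IH) (Lpr_cf (f198895 IH) (Lpr_ef (K12.f217904 IH) (Lpn (LP (LK LD1_c10 LD2_c39 LD3_c3))))))
theorem f218312 : Led Lsl_gt (LP (LK LD1_c19 LD2_c51 LD3_c29)) = (LP (LK LD1_c11 LD2_c0 LD3_c29)) :=
  Lre_g IH (LK LD1_c19 LD2_c51 LD3_c29) (LK LD1_c11 LD2_c0 LD3_c29) Lrfl Lrfl
theorem f390020 : Led Lsl_bf (LP (LK LD1_c19 LD2_c51 LD3_c29)) = (LP (LK LD1_c17 LD2_c51 LD3_c8)) :=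
  Lgr Lrot165 (Lpr_gt (f218312 IH) (Lpr_ct (K27.f218308 IH) (Lpe (K12.f218306 IH) (Lpe (f217906 IH) (Lpr_bt (K12.f183761 IH) (Lpr_gt (f389797 IH) (Lpe (f390017 IH) (Lpr_ct (f390013 IH) (Lpe (K18.f217475 IH) (Lpe (K27.f219061 IH) (Lpn (LP (LK LD1_c17 LD2_c51 LD3_c8)))))))))))))
theorem f224497 : Led Lsl_gt (LP (LK LD1_c2 LD2_c43 LD3_c4)) = (LP (LK LD1_c5 LD2_c34 LD3_c8)) :=
  Lre_g IH (LK LD1_c2 LD2_c43 LD3_c4) (LK LD1_c5 LD2_c34 LD3_c8) Lrfl Lrfl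
theorem f280700 : Led Lsl_at (LP (LK LD1_c2 LD2_c41 LD3_c50)) = (LP (LK LD1_c5 LD2_c31 LD3_c8)) :=
  Lre_a IH (LK LD1_c2 LD2_c41 LD3_c50) (LK LD1_c5 LD2_c31 LD3_c8) Lrfl Lrfl
theorem f280701 : Led Lsl_ff (LP (LK LD1_c2 LD2_c41 LD3_c50)) = (LP (LK LD1_c4 LD2_c29 LD3_c50)) :=
  Lgr Lrot30 (Lpr_at (f280700 IH) (Lpr_ft (K20.f280698 IH) (Lpr_at (K24.f271720 IH) (Lpn (LP (LK LD1_c4 LD2_c29 LD3_c50))))))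
theorem f169310 : Led Lsl_gt (LP (LK LD1_c4 LD2_c29 LD3_c50)) = (LP (LK LD1_c8 LD2_c57 LD3_c48)) :=
  Lre_g IH (LK LD1_c4 LD2_c29 LD3_c50) (LK LD1_c8 LD2_c57 LD3_c48) Lrfl Lrfl
theorem f281711 : Led Lsl_gf (LP (LK LD1_c5 LD2_c31 LD3_c8)) = (LP (LK LD1_c8 LD2_c57 LD3_c48)) :=
  Lgr Lrot76 (Lpe (f280700 IH) (Lpr_ff (f280701 IH) (Lpr_gt (f169310 IH) (Lpn (LP (LK LD1_c8 LD2_c57 LD3_c48))))))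
theorem f280654 : Led Lsl_at (LP (LK LD1_c2 LD2_c42 LD3_c29)) = (LP (LK LD1_c1 LD2_c17 LD3_c48)) :=
  Lre_a IH (LK LD1_c2 LD2_c42 LD3_c29) (LK LD1_c1 LD2_c17 LD3_c48) Lrfl Lrfl
theorem f281147 : Led Lsl_gf (LP (LK LD1_c2 LD2_c42 LD3_c28)) = (LP (LK LD1_c4 LD2_c29 LD3_c35)) :=
  Lgr Lrot47 (Lpr_gt (K12.f174380 IH) (Lpe (f280654 IH) (Lpr_ff (K20.f281136 IH) (Lpn (LP (LK LD1_c4 LD2_c29 LD3_c35))))))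
theorem f175180 : Led Lsl_ct (LP (LK LD1_c5 LD2_c32 LD3_c36)) = (LP (LK LD1_c5 LD2_c33 LD3_c56)) :=
  Lre_c IH (LK LD1_c5 LD2_c32 LD3_c36) (LK LD1_c5 LD2_c33 LD3_c56) Lrfl Lrfl
theorem f226195 : Led Lsl_gt (LP (LK LD1_c5 LD2_c33 LD3_c56)) = (LP (LK LD1_c2 LD2_c43 LD3_c5)) :=
  Lre_g IH (LK LD1_c5 LD2_c33 LD3_c56) (LK LD1_c2 LD2_c43 LD3_c5) Lrfl Lrfl
theorem f281149 : Led Lsl_bt (LP (LK LD1_c1 LD2_c17 LD3_c61)) = (LP (LK LD1_c2 LD2_c43 LD3_c4)) :=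
  Lre_b IH (LK LD1_c1 LD2_c17 LD3_c61) (LK LD1_c2 LD2_c43 LD3_c4) Lrfl Lrfl
theorem f281713 : Led Lsl_ct (LP (LK LD1_c5 LD2_c34 LD3_c8)) = (LP (LK LD1_c8 LD2_c57 LD3_c48)) :=
  Lgr Lrot91 (Lpe (f224497 IH) (Lpe (f281149 IH) (Lpr_ct (K30.f218314 IH) (Lpe (f226195 IH) (Lpe (f175180 IH) (Lpr_bt (K30.f174381 IH) (Lpr_gf (f281147 IH) (Lpe (K24.f280970 IH) (Lpr_ct (K20.f221407 IH) (Lpr_gf (f281711 IH) (Lpn (LP (LK LD1_c8 LD2_c57 LD3_c48)))))))))))))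
theorem f281716 : Led Lsl_cf (LP (LK LD1_c5 LD2_c34 LD3_c8)) = (LP (LK LD1_c8 LD2_c57 LD3_c48)) :=
  Lgr Lrot11 (Lpr_ct (f281713 IH) (Lpn (LP (LK LD1_c8 LD2_c57 LD3_c48))))
theorem f281715 : Led Lsl_bt (LP (LK LD1_c8 LD2_c57 LD3_c48)) = (LP (LK LD1_c16 LD2_c46 LD3_c29)) :=
  Lre_b IH (LK LD1_c8 LD2_c57 LD3_c48) (LK LD1_c16 LD2_c46 LD3_c29) Lrfl Lrfl
theorem f390024 : Led Lsl_gt (LP (LK LD1_c16 LD2_c46 LD3_c29)) = (LP (LK LD1_c25 LD2_c47 LD3_c46)) :=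
  Lgr Lrot82 (Lpe (f281715 IH) (Lpe (f281716 IH) (Lpe (f224497 IH) (Lpe (K27.f224496 IH) (Lpr_bt (K27.f281724 IH) (Lpe (f218312 IH) (Lpr_bf (f390020 IH) (Lpr_ct (K27.f219061 IH) (Lpr_gf (K18.f217475 IH) (Lpe (f390013 IH) (Lpn (LP (LK LD1_c25 LD2_c47 LD3_c46)))))))))))))
theorem f218320 : Led Lsl_gt (LP (LK LD1_c5 LD2_c31 LD3_c34)) = (LP (LK LD1_c5 LD2_c34 LD3_c10)) :=
  Lre_g IH (LK LD1_c5 LD2_c31 LD3_c34) (LK LD1_c5 LD2_c34 LD3_c10) Lrfl Lrfl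
theorem f218321 : Led Lsl_bt (LP (LK LD1_c10 LD2_c54 LD3_c50)) = (LP (LK LD1_c5 LD2_c31 LD3_c34)) :=
  Lre_b IH (LK LD1_c10 LD2_c54 LD3_c50) (LK LD1_c5 LD2_c31 LD3_c34) Lrfl Lrfl
theorem f389832 : Led Lsl_ct (LP (LK LD1_c15 LD2_c52 LD3_c5)) = (LP (LK LD1_c15 LD2_c9 LD3_c30)) :=
  Lgr Lrot111 (Lpe (f389796 IH) (Lpe (f52752 IH) (Lpr_af (f389826 IH) (Lpn (LP (LK LD1_c15 LD2_c9 LD3_c30))))))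
theorem f390026 : Led Lsl_gf (LP (LK LD1_c10 LD2_c59 LD3_c6)) = (LP (LK LD1_c15 LD2_c9 LD3_c30)) :=
  Lgr Lrot126 (Lpe (K30.f218322 IH) (Lpr_bt (f218321 IH) (Lpr_gt (f218320 IH) (Lpr_ct (K27.f224496 IH) (Lpr_gt (f224497 IH) (Lpr_cf (f281716 IH) (Lpr_bt (f281715 IH) (Lpr_gt (f390024 IH) (Lpe (f390012 IH) (Lpr_ct (f389832 IH) (Lpn (LP (LK LD1_c15 LD2_c9 LD3_c30)))))))))))))
theorem f228158 : Led Lsl_bt (LP (LK LD1_c20 LD2_c2 LD3_c56)) = (LP (LK LD1_c11 LD2_c9 LD3_c2)) :=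
  Lre_b IH (LK LD1_c20 LD2_c2 LD3_c56) (LK LD1_c11 LD2_c9 LD3_c2) Lrfl Lrfl
theorem f296680 : Led Lsl_dt (LP (LK LD1_c15 LD2_c9 LD3_c30)) = (LP (LK LD1_c20 LD2_c2 LD3_c56)) :=
  Lgr Lrot79 (Lpe (f223581 IH) (Lpr_df (K18.f296630 IH) (Lpe (f228158 IH) (Lpn (LP (LK LD1_c20 LD2_c2 LD3_c56))))))
theorem f296697 : Led Lsl_df (LP (LK LD1_c15 LD2_c9 LD3_c30)) = (LP (LK LD1_c20 LD2_c2 LD3_c56)) :=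
  Lgr Lrot38 (Lpr_dt (f296680 IH) (Lpn (LP (LK LD1_c20 LD2_c2 LD3_c56))))
theorem f390030 : Led Lsl_gf (LP (LK LD1_c15 LD2_c53 LD3_c13)) = (LP (LK LD1_c20 LD2_c2 LD3_c56)) :=
  Lgr Lrot147 (Lpr_ct (K30.f200433 IH) (Lpe (K30.f387930 IH) (Lpr_ct (K30.f52746 IH) (Lpe (K30.f52745 IH) (Lpe (K20.f218033 IH) (Lpr_gf (K20.f220886 IH) (Lpe (K20.f220900 IH) (Lpr_gf (f390026 IH) (Lpr_df (f296697 IH) (Lpn (LP (LK LD1_c20 LD2_c2 LD3_c56))))))))))))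
theorem f174013 : Led Lsl_bt (LP (LK LD1_c16 LD2_c49 LD3_c20)) = (LP (LK LD1_c8 LD2_c59 LD3_c59)) :=
  Lre_b IH (LK LD1_c16 LD2_c49 LD3_c20) (LK LD1_c8 LD2_c59 LD3_c59) Lrfl Lrfl
theorem f225274 : Led Lsl_et (LP (LK LD1_c16 LD2_c49 LD3_c18)) = (LP (LK LD1_c8 LD2_c59 LD3_c58)) :=
  Lre_e IH (LK LD1_c16 LD2_c49 LD3_c18) (LK LD1_c8 LD2_c59 LD3_c58) Lrfl Lrfl
theorem f225275 : Led Lsl_et (LP (LK LD1_c5 LD2_c29 LD3_c61)) = (LP (LK LD1_c10 LD2_c51 LD3_c17)) :=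
  Lre_e IH (LK LD1_c5 LD2_c29 LD3_c61) (LK LD1_c10 LD2_c51 LD3_c17) Lrfl Lrfl
theorem f225276 : Led Lsl_cf (LP (LK LD1_c16 LD2_c49 LD3_c18)) = (LP (LK LD1_c10 LD2_c51 LD3_c17)) :=
  Lgr Lrot39 (Lpr_et (f225274 IH) (Lpr_ct (K30.f225256 IH) (Lpr_et (f225275 IH) (Lpn (LP (LK LD1_c10 LD2_c51 LD3_c17))))))
theorem f225287 : Led Lsl_ct (LP (LK LD1_c16 LD2_c49 LD3_c18)) = (LP (LK LD1_c10 LD2_c51 LD3_c17)) :=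
  Lgr Lrot59 (Lpr_cf (f225276 IH) (Lpn (LP (LK LD1_c10 LD2_c51 LD3_c17))))
theorem f225301 : Led Lsl_bt (LP (LK LD1_c8 LD2_c59 LD3_c60)) = (LP (LK LD1_c16 LD2_c49 LD3_c18)) :=
  Lre_b IH (LK LD1_c8 LD2_c59 LD3_c60) (LK LD1_c16 LD2_c49 LD3_c18) Lrfl Lrfl
theorem f225302 : Led Lsl_ct (LP (LK LD1_c16 LD2_c49 LD3_c22)) = (LP (LK LD1_c8 LD2_c59 LD3_c60)) :=
  Lre_c IH (LK LD1_c16 LD2_c49 LD3_c22) (LK LD1_c8 LD2_c59 LD3_c60) Lrfl Lrfl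
theorem f225303 : Led Lsl_bt (LP (LK LD1_c26 LD2_c46 LD3_c47)) = (LP (LK LD1_c16 LD2_c49 LD3_c22)) :=
  Lre_b IH (LK LD1_c26 LD2_c46 LD3_c47) (LK LD1_c16 LD2_c49 LD3_c22) Lrfl Lrfl
theorem f225298 : Led Lsl_bt (LP (LK LD1_c10 LD2_c51 LD3_c17)) = (LP (LK LD1_c19 LD2_c37 LD3_c15)) :=
  Lre_b IH (LK LD1_c10 LD2_c51 LD3_c17) (LK LD1_c19 LD2_c37 LD3_c15) Lrfl Lrfl
theorem f225304 : Led Lsl_cf (LP (LK LD1_c26 LD2_c46 LD3_c47)) = (LP (LK LD1_c19 LD2_c37 LD3_c15)) :=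
  Lgr Lrot97 (Lpr_bt (f225303 IH) (Lpr_ct (f225302 IH) (Lpr_bt (f225301 IH) (Lpr_ct (f225287 IH) (Lpr_bt (f225298 IH) (Lpn (LP (LK LD1_c19 LD2_c37 LD3_c15))))))))
theorem f225312 : Led Lsl_et (LP (LK LD1_c26 LD2_c46 LD3_c47)) = (LP (LK LD1_c16 LD2_c49 LD3_c20)) :=
  Lre_e IH (LK LD1_c26 LD2_c46 LD3_c47) (LK LD1_c16 LD2_c49 LD3_c20) Lrfl Lrfl
theorem f225313 : Led Lsl_et (LP (LK LD1_c10 LD2_c51 LD3_c15)) = (LP (LK LD1_c19 LD2_c37 LD3_c15)) :=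
  Lre_e IH (LK LD1_c10 LD2_c51 LD3_c15) (LK LD1_c19 LD2_c37 LD3_c15) Lrfl Lrfl
theorem f225314 : Led Lsl_ct (LP (LK LD1_c16 LD2_c49 LD3_c20)) = (LP (LK LD1_c10 LD2_c51 LD3_c15)) :=
  Lgr Lrot15 (Lpe (f225312 IH) (Lpr_cf (f225304 IH) (Lpe (f225313 IH) (Lpn (LP (LK LD1_c10 LD2_c51 LD3_c15))))))
theorem f225280 : Led Lsl_gt (LP (LK LD1_c10 LD2_c51 LD3_c15)) = (LP (LK LD1_c19 LD2_c37 LD3_c12)) :=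
  Lre_g IH (LK LD1_c10 LD2_c51 LD3_c15) (LK LD1_c19 LD2_c37 LD3_c12) Lrfl Lrfl
theorem f256991 : Led Lsl_bt (LP (LK LD1_c11 LD2_c9 LD3_c2)) = (LP (LK LD1_c20 LD2_c2 LD3_c56)) :=
  Lre_b IH (LK LD1_c11 LD2_c9 LD3_c2) (LK LD1_c20 LD2_c2 LD3_c56) Lrfl Lrfl
theorem f390036 : Led Lsl_cf (LP (LK LD1_c19 LD2_c37 LD3_c12)) = (LP (LK LD1_c11 LD2_c9 LD3_c2)) :=
  Lgr Lrot58 (Lpe (f225280 IH) (Lpe (f225314 IH) (Lpr_bt (f174013 IH) (Lpe (K30.f387926 IH) (Lpe (K30.f387929 IH) (Lpr_ct (K30.f52748 IH) (Lpr_gf (K30.f387930 IH) (Lpe (K30.f200433 IH) (Lpr_gf (f390030 IH) (Lpe (f256991 IH) (Lpn (LP (LK LD1_c11 LD2_c9 LD3_c2)))))))))))))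
theorem f297462 : Led Lsl_df (LP (LK LD1_c15 LD2_c17 LD3_c53)) = (LP (LK LD1_c8 LD2_c9 LD3_c17)) :=
  Lgr Lrot38 (Lpr_dt (K22.f297459 IH) (Lpn (LP (LK LD1_c8 LD2_c9 LD3_c17))))
theorem f389690 : Led Lsl_ft (LP (LK LD1_c15 LD2_c17 LD3_c53)) = (LP (LK LD1_c11 LD2_c9 LD3_c2)) :=
  Lgr Lrot54 (Lpr_df (f297462 IH) (Lpr_ff (f389684 IH) (Lpr_df (K18.f296630 IH) (Lpn (LP (LK LD1_c11 LD2_c9 LD3_c2))))))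
theorem f220319 : Led Lsl_ct (LP (LK LD1_c25 LD2_c8 LD3_c32)) = (LP (LK LD1_c15 LD2_c17 LD3_c53)) :=
  Lre_c IH (LK LD1_c25 LD2_c8 LD3_c32) (LK LD1_c15 LD2_c17 LD3_c53) Lrfl Lrfl
theorem f390043 : Led Lsl_ft (LP (LK LD1_c19 LD2_c37 LD3_c12)) = (LP (LK LD1_c25 LD2_c8 LD3_c32)) :=
  Lgr Lrot4 (Lpr_cf (f390036 IH) (Lpe (f389690 IH) (Lpe (f220319 IH) (Lpn (LP (LK LD1_c25 LD2_c8 LD3_c32))))))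
theorem f296628 : Led Lsl_dt (LP (LK LD1_c8 LD2_c3 LD3_c3)) = (LP (LK LD1_c11 LD2_c9 LD3_c2)) :=
  Lgr Lrot6 (Lpe (K18.f53059 IH) (Lpr_ct (K18.f52455 IH) (Lpr_gt (K18.f52966 IH) (Lpe (K18.f200850 IH) (Lpr_df (K22.f286694 IH) (Lpr_cf (K18.f228100 IH) (Lpr_gf (K18.f296613 IH) (Lpr_cf (K18.f220299 IH) (Lpe (K18.f296585 IH) (Lpn (LP (LK LD1_c11 LD2_c9 LD3_c2))))))))))))
theorem f389634 : Led Lsl_af (LP (LK LD1_c15 LD2_c17 LD3_c54)) = (LP (LK LD1_c11 LD2_c9 LD3_c2)) :=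
  Lgr Lrot117 (Lpr_dt (K22.f200965 IH) (Lpr_at (f389629 IH) (Lpr_dt (f296628 IH) (Lpn (LP (LK LD1_c11 LD2_c9 LD3_c2))))))
theorem f52501 : Led Lsl_bt (LP (LK LD1_c15 LD2_c9 LD3_c33)) = (LP (LK LD1_c8 LD2_c3 LD3_c4)) :=
  Lre_b IH (LK LD1_c15 LD2_c9 LD3_c33) (LK LD1_c8 LD2_c3 LD3_c4) Lrfl Lrfl
theorem f52502 : Led Lsl_ct (LP (LK LD1_c15 LD2_c9 LD3_c33)) = (LP (LK LD1_c24 LD2_c58 LD3_c40)) :=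
  Lre_c IH (LK LD1_c15 LD2_c9 LD3_c33) (LK LD1_c24 LD2_c58 LD3_c40) Lrfl Lrfl
theorem f238383 : Led Lsl_gt (LP (LK LD1_c19 LD2_c49 LD3_c20)) = (LP (LK LD1_c24 LD2_c58 LD3_c40)) :=
  Lgr Lrot149 (Lpe (K27.f238380 IH) (Lpr_gf (K27.f238352 IH) (Lpe (K27.f219016 IH) (Lpr_ct (K12.f52270 IH) (Lpe (K12.f28175 IH) (Lpe (K10.f52242 IH) (Lpr_bt (K18.f52277 IH) (Lpe (f52489 IH) (Lpe (f52501 IH) (Lpr_ct (f52502 IH) (Lpn (LP (LK LD1_c24 LD2_c58 LD3_c40)))))))))))))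
theorem f216327 : Led Lsl_bt (LP (LK LD1_c2 LD2_c6 LD3_c61)) = (LP (LK LD1_c4 LD2_c19 LD3_c11)) :=
  Lre_b IH (LK LD1_c2 LD2_c6 LD3_c61) (LK LD1_c4 LD2_c19 LD3_c11) Lrfl Lrfl
theorem f223597 : Led Lsl_dt (LP (LK LD1_c4 LD2_c19 LD3_c11)) = (LP (LK LD1_c8 LD2_c2 LD3_c54)) :=
  Lgr Lrot79 (Lpe (f216327 IH) (Lpr_df (K12.f223593 IH) (Lpe (K17.f200728 IH) (Lpn (LP (LK LD1_c8 LD2_c2 LD3_c54))))))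
theorem f223650 : Led Lsl_ct (LP (LK LD1_c8 LD2_c36 LD3_c47)) = (LP (LK LD1_c16 LD2_c8 LD3_c11)) :=
  Lre_c IH (LK LD1_c8 LD2_c36 LD3_c47) (LK LD1_c16 LD2_c8 LD3_c11) Lrfl Lrfl
theorem f223651 : Led Lsl_gt (LP (LK LD1_c16 LD2_c8 LD3_c11)) = (LP (LK LD1_c26 LD2_c4 LD3_c41)) :=
  Lre_g IH (LK LD1_c16 LD2_c8 LD3_c11) (LK LD1_c26 LD2_c4 LD3_c41) Lrfl Lrfl
theorem f228095 : Led Lsl_gt (LP (LK LD1_c11 LD2_c9 LD3_c3)) = (LP (LK LD1_c5 LD2_c39 LD3_c2)) :=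
  Lre_g IH (LK LD1_c11 LD2_c9 LD3_c3) (LK LD1_c5 LD2_c39 LD3_c2) Lrfl Lrfl
theorem f228099 : Led Lsl_bt (LP (LK LD1_c20 LD2_c2 LD3_c58)) = (LP (LK LD1_c11 LD2_c9 LD3_c3)) :=
  Lre_b IH (LK LD1_c20 LD2_c2 LD3_c58) (LK LD1_c11 LD2_c9 LD3_c3) Lrfl Lrfl
theorem f228160 : Led Lsl_ct (LP (LK LD1_c20 LD2_c2 LD3_c58)) = (LP (LK LD1_c26 LD2_c4 LD3_c41)) :=
  Lgr Lrot63 (Lpr_bt (f228099 IH) (Lpr_gt (f228095 IH) (Lpe (K12.f228038 IH) (Lpr_ct (K12.f228150 IH) (Lpr_gt (K12.f8009 IH) (Lpe (K12.f180102 IH) (Lpr_bt (f216327 IH) (Lpr_gt (K30.f216328 IH) (Lpr_ct (f223650 IH) (Lpr_gt (f223651 IH) (Lpn (LP (LK LD1_c26 LD2_c4 LD3_c41)))))))))))))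
theorem f228163 : Led Lsl_cf (LP (LK LD1_c20 LD2_c2 LD3_c58)) = (LP (LK LD1_c26 LD2_c4 LD3_c41)) :=
  Lgr Lrot11 (Lpr_ct (f228160 IH) (Lpn (LP (LK LD1_c26 LD2_c4 LD3_c41))))
theorem f52547 : Led Lsl_ct (LP (LK LD1_c24 LD2_c58 LD3_c40)) = (LP (LK LD1_c15 LD2_c9 LD3_c33)) :=
  Lre_c IH (LK LD1_c24 LD2_c58 LD3_c40) (LK LD1_c15 LD2_c9 LD3_c33) Lrfl Lrfl
theorem f238411 : Led Lsl_df (LP (LK LD1_c20 LD2_c2 LD3_c58)) = (LP (LK LD1_c15 LD2_c9 LD3_c33)) :=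
  Lgr Lrot162 (Lpr_cf (f228163 IH) (Lpe (f223651 IH) (Lpe (f223650 IH) (Lpe (K30.f216328 IH) (Lpr_dt (f223597 IH) (Lpe (K27.f238352 IH) (Lpr_ct (K27.f238380 IH) (Lpr_gt (f238383 IH) (Lpr_ct (f52547 IH) (Lpn (LP (LK LD1_c15 LD2_c9 LD3_c33))))))))))))
theorem f238420 : Led Lsl_dt (LP (LK LD1_c11 LD2_c9 LD3_c3)) = (LP (LK LD1_c8 LD2_c3 LD3_c4)) :=
  Lgr Lrot79 (Lpe (f228099 IH) (Lpr_df (f238411 IH) (Lpe (f238419 IH) (Lpn (LP (LK LD1_c8 LD2_c3 LD3_c4))))))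
theorem f389644 : Led Lsl_ft (LP (LK LD1_c15 LD2_c17 LD3_c54)) = (LP (LK LD1_c11 LD2_c9 LD3_c3)) :=
  Lgr Lrot54 (Lpr_df (K22.f200960 IH) (Lpr_ff (f389638 IH) (Lpe (f238420 IH) (Lpn (LP (LK LD1_c11 LD2_c9 LD3_c3))))))
theorem f389696 : Led Lsl_af (LP (LK LD1_c15 LD2_c17 LD3_c53)) = (LP (LK LD1_c11 LD2_c9 LD3_c3)) :=
  Lgr Lrot45 (Lpr_ft (f389690 IH) (Lpe (f389634 IH) (Lpr_ft (f389644 IH) (Lpn (LP (LK LD1_c11 LD2_c9 LD3_c3))))))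
theorem f220317 : Led Lsl_ct (LP (LK LD1_c15 LD2_c17 LD3_c53)) = (LP (LK LD1_c25 LD2_c8 LD3_c32)) :=
  Lre_c IH (LK LD1_c15 LD2_c17 LD3_c53) (LK LD1_c25 LD2_c8 LD3_c32) Lrfl Lrfl
theorem f234808 : Led Lsl_gt (LP (LK LD1_c5 LD2_c29 LD3_c53)) = (LP (LK LD1_c10 LD2_c50 LD3_c60)) :=
  Lre_g IH (LK LD1_c5 LD2_c29 LD3_c53) (LK LD1_c10 LD2_c50 LD3_c60) Lrfl Lrfl
theorem f234809 : Led Lsl_bt (LP (LK LD1_c19 LD2_c36 LD3_c43)) = (LP (LK LD1_c10 LD2_c50 LD3_c60)) :=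
  Lre_b IH (LK LD1_c19 LD2_c36 LD3_c43) (LK LD1_c10 LD2_c50 LD3_c60) Lrfl Lrfl
theorem f234810 : Led Lsl_cf (LP (LK LD1_c11 LD2_c9 LD3_c3)) = (LP (LK LD1_c19 LD2_c36 LD3_c43)) :=
  Lgr Lrot160 (Lpr_gt (f228095 IH) (Lpr_cf (K18.f228087 IH) (Lpr_bt (K12.f228027 IH) (Lpe (K12.f228019 IH) (Lpr_ct (K12.f223027 IH) (Lpr_gt (K14.f234799 IH) (Lpe (K14.f220578 IH) (Lpr_bt (K30.f234783 IH) (Lpr_gt (f234808 IH) (Lpe (f234809 IH) (Lpn (LP (LK LD1_c19 LD2_c36 LD3_c43)))))))))))))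
theorem f389698 : Led Lsl_at (LP (LK LD1_c25 LD2_c8 LD3_c32)) = (LP (LK LD1_c19 LD2_c36 LD3_c43)) :=
  Lgr Lrot107 (Lpe (f220317 IH) (Lpr_af (f389696 IH) (Lpr_cf (f234810 IH) (Lpn (LP (LK LD1_c19 LD2_c36 LD3_c43))))))
theorem f389838 : Led Lsl_gf (LP (LK LD1_c15 LD2_c20 LD3_c32)) = (LP (LK LD1_c15 LD2_c21 LD3_c30)) :=
  Lgr Lrot47 (Lpr_gt (f389563 IH) (Lpr_af (f389826 IH) (Lpe (f389686 IH) (Lpn (LP (LK LD1_c15 LD2_c21 LD3_c30))))))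
theorem f388913 : Led Lsl_at (LP (LK LD1_c8 LD2_c28 LD3_c19)) = (LP (LK LD1_c15 LD2_c54 LD3_c16)) :=
  Lre_a IH (LK LD1_c8 LD2_c28 LD3_c19) (LK LD1_c15 LD2_c54 LD3_c16) Lrfl Lrfl
theorem f389030 : Led Lsl_gf (LP (LK LD1_c15 LD2_c54 LD3_c16)) = (LP (LK LD1_c16 LD2_c46 LD3_c55)) :=
  Lgr Lrot76 (Lpe (f388913 IH) (Lpe (K30.f388914 IH) (Lpr_gt (K30.f389028 IH) (Lpn (LP (LK LD1_c16 LD2_c46 LD3_c55))))))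
theorem f388910 : Led Lsl_ct (LP (LK LD1_c8 LD2_c28 LD3_c17)) = (LP (LK LD1_c15 LD2_c54 LD3_c16)) :=
  Lre_c IH (LK LD1_c8 LD2_c28 LD3_c17) (LK LD1_c15 LD2_c54 LD3_c16) Lrfl Lrfl
theorem f388019 : Led Lsl_bt (LP (LK LD1_c19 LD2_c49 LD3_c14)) = (LP (LK LD1_c10 LD2_c58 LD3_c50)) :=
  Lre_b IH (LK LD1_c19 LD2_c49 LD3_c14) (LK LD1_c10 LD2_c58 LD3_c50) Lrfl Lrfl
theorem f53051 : Led Lsl_gt (LP (LK LD1_c25 LD2_c12 LD3_c53)) = (LP (LK LD1_c15 LD2_c21 LD3_c31)) :=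
  Lre_g IH (LK LD1_c25 LD2_c12 LD3_c53) (LK LD1_c15 LD2_c21 LD3_c31) Lrfl Lrfl
theorem f389842 : Led Lsl_ct (LP (LK LD1_c19 LD2_c49 LD3_c14)) = (LP (LK LD1_c25 LD2_c12 LD3_c53)) :=
  Lgr Lrot64 (Lpr_bt (f388019 IH) (Lpe (K30.f388923 IH) (Lpe (K30.f388520 IH) (Lpr_ct (f388910 IH) (Lpr_gf (f389030 IH) (Lpe (K30.f319651 IH) (Lpr_gf (f389838 IH) (Lpe (f200775 IH) (Lpr_ct (K22.f53026 IH) (Lpe (f53051 IH) (Lpn (LP (LK LD1_c25 LD2_c12 LD3_c53)))))))))))))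
theorem f388002 : Led Lsl_cf (LP (LK LD1_c15 LD2_c53 LD3_c31)) = (LP (LK LD1_c10 LD2_c58 LD3_c50)) :=
  Lgr Lrot11 (Lpr_ct (K30.f387999 IH) (Lpn (LP (LK LD1_c10 LD2_c58 LD3_c50))))
theorem f388001 : Led Lsl_bt (LP (LK LD1_c10 LD2_c58 LD3_c50)) = (LP (LK LD1_c19 LD2_c49 LD3_c14)) :=
  Lre_b IH (LK LD1_c10 LD2_c58 LD3_c50) (LK LD1_c19 LD2_c49 LD3_c14) Lrfl Lrfl
theorem f388022 : Led Lsl_gf (LP (LK LD1_c15 LD2_c54 LD3_c44)) = (LP (LK LD1_c19 LD2_c49 LD3_c14)) :=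
  Lgr Lrot124 (Lpe (K18.f200849 IH) (Lpr_ct (K30.f52743 IH) (Lpr_gt (K30.f387970 IH) (Lpe (K30.f387976 IH) (Lpr_bt (K30.f387975 IH) (Lpr_gt (K30.f235263 IH) (Lpr_ct (K30.f216389 IH) (Lpr_gt (K30.f235369 IH) (Lpr_cf (f388002 IH) (Lpr_bt (f388001 IH) (Lpn (LP (LK LD1_c19 LD2_c49 LD3_c14)))))))))))))
theorem f332186 : Led Lsl_at (LP (LK LD1_c17 LD2_c53 LD3_c32)) = (LP (LK LD1_c15 LD2_c54 LD3_c44)) :=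
  Lgr Lrot100 (Lpr_af (K22.f332165 IH) (Lpn (LP (LK LD1_c15 LD2_c54 LD3_c44))))
theorem f332537 : Led Lsl_bt (LP (LK LD1_c10 LD2_c58 LD3_c47)) = (LP (LK LD1_c19 LD2_c49 LD3_c8)) :=
  Lre_b IH (LK LD1_c10 LD2_c58 LD3_c47) (LK LD1_c19 LD2_c49 LD3_c8) Lrfl Lrfl
theorem f332539 : Led Lsl_ft (LP (LK LD1_c19 LD2_c49 LD3_c8)) = (LP (LK LD1_c17 LD2_c53 LD3_c32)) :=
  Lgr Lrot75 (Lpe (f332537 IH) (Lpr_ff (K22.f332533 IH) (Lpe (K20.f168818 IH) (Lpn (LP (LK LD1_c17 LD2_c53 LD3_c32))))))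
theorem f388024 : Led Lsl_gt (LP (LK LD1_c19 LD2_c49 LD3_c8)) = (LP (LK LD1_c19 LD2_c49 LD3_c14)) :=
  Lgr Lrot5 (Lpr_ft (f332539 IH) (Lpr_at (f332186 IH) (Lpr_gf (f388022 IH) (Lpn (LP (LK LD1_c19 LD2_c49 LD3_c14))))))
theorem f389847 : Led Lsl_gt (LP (LK LD1_c16 LD2_c43 LD3_c9)) = (LP (LK LD1_c25 LD2_c8 LD3_c32)) :=
  Lgr Lrot150 (Lpr_cf (K30.f179264 IH) (Lpe (K22.f179276 IH) (Lpe (K22.f332555 IH) (Lpr_gt (f388024 IH) (Lpr_ct (f389842 IH) (Lpr_gt (f53051 IH) (Lpr_ct (K22.f53050 IH) (Lpe (K22.f297459 IH) (Lpe (f220319 IH) (Lpn (LP (LK LD1_c25 LD2_c8 LD3_c32))))))))))))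
theorem f288015 : Led Lsl_at (LP (LK LD1_c5 LD2_c28 LD3_c58)) = (LP (LK LD1_c2 LD2_c40 LD3_c44)) :=
  Lre_a IH (LK LD1_c5 LD2_c28 LD3_c58) (LK LD1_c2 LD2_c40 LD3_c44) Lrfl Lrfl
theorem f288016 : Led Lsl_ff (LP (LK LD1_c5 LD2_c28 LD3_c58)) = (LP (LK LD1_c5 LD2_c36 LD3_c20)) :=
  Lgr Lrot30 (Lpr_at (f288015 IH) (Lpr_ft (K30.f288007 IH) (Lpr_at (K30.f288013 IH) (Lpn (LP (LK LD1_c5 LD2_c36 LD3_c20))))))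
theorem f288022 : Led Lsl_ft (LP (LK LD1_c5 LD2_c28 LD3_c58)) = (LP (LK LD1_c5 LD2_c36 LD3_c20)) :=
  Lgr Lrot48 (Lpr_ff (f288016 IH) (Lpn (LP (LK LD1_c5 LD2_c36 LD3_c20))))
theorem f288028 : Led Lsl_gt (LP (LK LD1_c5 LD2_c28 LD3_c58)) = (LP (LK LD1_c5 LD2_c36 LD3_c19)) :=
  Lgr Lrot5 (Lpr_ft (f288022 IH) (Lpr_at (K30.f253725 IH) (Lpe (f178076 IH) (Lpn (LP (LK LD1_c5 LD2_c36 LD3_c19))))))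
theorem f289550 : Led Lsl_bt (LP (LK LD1_c5 LD2_c28 LD3_c58)) = (LP (LK LD1_c5 LD2_c36 LD3_c39)) :=
  Lgr Lrot35 (Lpr_ff (f288016 IH) (Lpe (K30.f253726 IH) (Lpr_ff (K30.f289535 IH) (Lpn (LP (LK LD1_c5 LD2_c36 LD3_c39))))))
theorem f289561 : Led Lsl_bf (LP (LK LD1_c5 LD2_c28 LD3_c58)) = (LP (LK LD1_c5 LD2_c36 LD3_c39)) :=
  Lgr Lrot24 (Lpr_bt (f289550 IH) (Lpn (LP (LK LD1_c5 LD2_c36 LD3_c39))))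
theorem f244273 : Led Lsl_bt (LP (LK LD1_c2 LD2_c45 LD3_c41)) = (LP (LK LD1_c5 LD2_c39 LD3_c27)) :=
  Lre_b IH (LK LD1_c2 LD2_c45 LD3_c41) (LK LD1_c5 LD2_c39 LD3_c27) Lrfl Lrfl
theorem f178134 : Led Lsl_gt (LP (LK LD1_c5 LD2_c39 LD3_c27)) = (LP (LK LD1_c11 LD2_c9 LD3_c60)) :=
  Lre_g IH (LK LD1_c5 LD2_c39 LD3_c27) (LK LD1_c11 LD2_c9 LD3_c60) Lrfl Lrfl
theorem f389107 : Led Lsl_cf (LP (LK LD1_c10 LD2_c48 LD3_c46)) = (LP (LK LD1_c11 LD2_c9 LD3_c60)) :=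
  Lgr Lrot125 (Lpr_gt (K30.f253811 IH) (Lpe (K30.f178933 IH) (Lpe (f289561 IH) (Lpr_gt (f288028 IH) (Lpe (f178077 IH) (Lpe (f178078 IH) (Lpr_gt (f389091 IH) (Lpe (K22.f179471 IH) (Lpr_bt (f244273 IH) (Lpr_gt (f178134 IH) (Lpn (LP (LK LD1_c11 LD2_c9 LD3_c60)))))))))))))
theorem f235860 : Led Lsl_ct (LP (LK LD1_c4 LD2_c31 LD3_c31)) = (LP (LK LD1_c9 LD2_c1 LD3_c0)) :=
  Lre_c IH (LK LD1_c4 LD2_c31 LD3_c31) (LK LD1_c9 LD2_c1 LD3_c0) Lrfl Lrfl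
theorem f332089 : Led Lsl_gt (LP (LK LD1_c16 LD2_c50 LD3_c52)) = (LP (LK LD1_c9 LD2_c0 LD3_c61)) :=
  Lre_g IH (LK LD1_c16 LD2_c50 LD3_c52) (LK LD1_c9 LD2_c0 LD3_c61) Lrfl Lrfl
theorem f389114 : Led Lsl_bf (LP (LK LD1_c16 LD2_c50 LD3_c52)) = (LP (LK LD1_c11 LD2_c9 LD3_c60)) :=
  Lgr Lrot156 (Lpr_gt (f332089 IH) (Lpe (K30.f332036 IH) (Lpr_ct (f235860 IH) (Lpr_gt (K30.f332048 IH) (Lpe (K30.f384984 IH) (Lpr_bt (K30.f289560 IH) (Lpr_gt (K30.f226821 IH) (Lpr_ct (K14.f226763 IH) (Lpr_gt (K30.f253810 IH) (Lpr_cf (f389107 IH) (Lpn (LP (LK LD1_c11 LD2_c9 LD3_c60)))))))))))))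
theorem f389116 : Led Lsl_bt (LP (LK LD1_c16 LD2_c50 LD3_c52)) = (LP (LK LD1_c11 LD2_c9 LD3_c60)) :=
  Lgr Lrot127 (Lpr_bf (f389114 IH) (Lpn (LP (LK LD1_c11 LD2_c9 LD3_c60))))
theorem f245504 : Led Lsl_gt (LP (LK LD1_c16 LD2_c44 LD3_c47)) = (LP (LK LD1_c8 LD2_c56 LD3_c44)) :=
  Lre_g IH (LK LD1_c16 LD2_c44 LD3_c47) (LK LD1_c8 LD2_c56 LD3_c44) Lrfl Lrfl
theorem f389119 : Led Lsl_ct (LP (LK LD1_c16 LD2_c50 LD3_c52)) = (LP (LK LD1_c16 LD2_c44 LD3_c47)) :=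
  Lgr Lrot64 (Lpr_bt (f389116 IH) (Lpe (f178134 IH) (Lpe (f244273 IH) (Lpr_ct (K22.f179471 IH) (Lpe (f389091 IH) (Lpr_cf (f178078 IH) (Lpr_gf (f389101 IH) (Lpe (K30.f319151 IH) (Lpr_ct (K30.f179766 IH) (Lpe (f245504 IH) (Lpn (LP (LK LD1_c16 LD2_c44 LD3_c47)))))))))))))
theorem f389123 : Led Lsl_cf (LP (LK LD1_c16 LD2_c50 LD3_c52)) = (LP (LK LD1_c16 LD2_c44 LD3_c47)) :=
  Lgr Lrot11 (Lpr_ct (f389119 IH) (Lpn (LP (LK LD1_c16 LD2_c44 LD3_c47))))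
theorem f332042 : Led Lsl_et (LP (LK LD1_c19 LD2_c30 LD3_c38)) = (LP (LK LD1_c10 LD2_c47 LD3_c4)) :=
  Lre_e IH (LK LD1_c19 LD2_c30 LD3_c38) (LK LD1_c10 LD2_c47 LD3_c4) Lrfl Lrfl
theorem f332043 : Led Lsl_et (LP (LK LD1_c16 LD2_c50 LD3_c56)) = (LP (LK LD1_c26 LD2_c48 LD3_c24)) :=
  Lre_e IH (LK LD1_c16 LD2_c50 LD3_c56) (LK LD1_c26 LD2_c48 LD3_c24) Lrfl Lrfl
theorem f332044 : Led Lsl_cf (LP (LK LD1_c19 LD2_c30 LD3_c38)) = (LP (LK LD1_c26 LD2_c48 LD3_c24)) :=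
  Lgr Lrot39 (Lpr_et (f332042 IH) (Lpr_ct (K30.f332028 IH) (Lpr_et (f332043 IH) (Lpn (LP (LK LD1_c26 LD2_c48 LD3_c24))))))
theorem f332056 : Led Lsl_ct (LP (LK LD1_c19 LD2_c30 LD3_c38)) = (LP (LK LD1_c26 LD2_c48 LD3_c24)) :=
  Lgr Lrot59 (Lpr_cf (f332044 IH) (Lpn (LP (LK LD1_c26 LD2_c48 LD3_c24))))
theorem f332068 : Led Lsl_bt (LP (LK LD1_c10 LD2_c47 LD3_c6)) = (LP (LK LD1_c19 LD2_c30 LD3_c38)) :=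
  Lre_b IH (LK LD1_c10 LD2_c47 LD3_c6) (LK LD1_c19 LD2_c30 LD3_c38) Lrfl Lrfl
theorem f332065 : Led Lsl_bt (LP (LK LD1_c26 LD2_c48 LD3_c24)) = (LP (LK LD1_c16 LD2_c50 LD3_c58)) :=
  Lre_b IH (LK LD1_c26 LD2_c48 LD3_c24) (LK LD1_c16 LD2_c50 LD3_c58) Lrfl Lrfl
theorem f332069 : Led Lsl_ct (LP (LK LD1_c16 LD2_c50 LD3_c58)) = (LP (LK LD1_c9 LD2_c1 LD3_c1)) :=
  Lre_c IH (LK LD1_c16 LD2_c50 LD3_c58) (LK LD1_c9 LD2_c1 LD3_c1) Lrfl Lrfl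
theorem f332070 : Led Lsl_bt (LP (LK LD1_c9 LD2_c1 LD3_c1)) = (LP (LK LD1_c16 LD2_c50 LD3_c53)) :=
  Lre_b IH (LK LD1_c9 LD2_c1 LD3_c1) (LK LD1_c16 LD2_c50 LD3_c53) Lrfl Lrfl
theorem f332071 : Led Lsl_cf (LP (LK LD1_c10 LD2_c47 LD3_c6)) = (LP (LK LD1_c16 LD2_c50 LD3_c53)) :=
  Lgr Lrot97 (Lpr_bt (f332068 IH) (Lpr_ct (f332056 IH) (Lpr_bt (f332065 IH) (Lpr_ct (f332069 IH) (Lpr_bt (f332070 IH) (Lpn (LP (LK LD1_c16 LD2_c50 LD3_c53))))))))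
theorem f245419 : Led Lsl_et (LP (LK LD1_c10 LD2_c47 LD3_c6)) = (LP (LK LD1_c5 LD2_c27 LD3_c57)) :=
  Lre_e IH (LK LD1_c10 LD2_c47 LD3_c6) (LK LD1_c5 LD2_c27 LD3_c57) Lrfl Lrfl
theorem f332080 : Led Lsl_et (LP (LK LD1_c9 LD2_c0 LD3_c61)) = (LP (LK LD1_c16 LD2_c50 LD3_c53)) :=
  Lre_e IH (LK LD1_c9 LD2_c0 LD3_c61) (LK LD1_c16 LD2_c50 LD3_c53) Lrfl Lrfl
theorem f332081 : Led Lsl_ct (LP (LK LD1_c5 LD2_c27 LD3_c57)) = (LP (LK LD1_c9 LD2_c0 LD3_c61)) :=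
  Lgr Lrot15 (Lpe (f245419 IH) (Lpr_cf (f332071 IH) (Lpe (f332080 IH) (Lpn (LP (LK LD1_c9 LD2_c0 LD3_c61))))))
theorem f332046 : Led Lsl_gt (LP (LK LD1_c10 LD2_c47 LD3_c4)) = (LP (LK LD1_c19 LD2_c30 LD3_c35)) :=
  Lre_g IH (LK LD1_c10 LD2_c47 LD3_c4) (LK LD1_c19 LD2_c30 LD3_c35) Lrfl Lrfl
theorem f389109 : Led Lsl_ct (LP (LK LD1_c10 LD2_c48 LD3_c46)) = (LP (LK LD1_c11 LD2_c9 LD3_c60)) :=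
  Lgr Lrot59 (Lpr_cf (f389107 IH) (Lpn (LP (LK LD1_c11 LD2_c9 LD3_c60))))
theorem f305140 : Led Lsl_ct (LP (LK LD1_c10 LD2_c46 LD3_c37)) = (LP (LK LD1_c19 LD2_c29 LD3_c23)) :=
  Lre_c IH (LK LD1_c10 LD2_c46 LD3_c37) (LK LD1_c19 LD2_c29 LD3_c23) Lrfl Lrfl
theorem f389121 : Led Lsl_bf (LP (LK LD1_c10 LD2_c46 LD3_c37)) = (LP (LK LD1_c16 LD2_c44 LD3_c47)) :=
  Lgr Lrot90 (Lpr_ct (f305140 IH) (Lpe (K30.f305136 IH) (Lpr_ct (f389109 IH) (Lpe (f389114 IH) (Lpr_ct (f389119 IH) (Lpn (LP (LK LD1_c16 LD2_c44 LD3_c47))))))))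
theorem f324423 : Led Lsl_bt (LP (LK LD1_c28 LD2_c50 LD3_c61)) = (LP (LK LD1_c31 LD2_c55 LD3_c36)) :=
  Lgr Lrot119 (Lpr_ef (K21.f324419 IH) (Lpe (K21.f317832 IH) (Lpe (K21.f324374 IH) (Lpn (LP (LK LD1_c31 LD2_c55 LD3_c36))))))
theorem f235893 : Led Lsl_ft (LP (LK LD1_c19 LD2_c28 LD3_c52)) = (LP (LK LD1_c28 LD2_c50 LD3_c61)) :=
  Lre_f IH (LK LD1_c19 LD2_c28 LD3_c52) (LK LD1_c28 LD2_c50 LD3_c61) Lrfl Lrfl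
theorem f324427 : Led Lsl_bf (LP (LK LD1_c19 LD2_c28 LD3_c52)) = (LP (LK LD1_c25 LD2_c32 LD3_c26)) :=
  Lgr Lrot61 (Lpr_ft (f235893 IH) (Lpr_bt (f324423 IH) (Lpr_ft (K30.f324388 IH) (Lpn (LP (LK LD1_c25 LD2_c32 LD3_c26))))))
theorem f324384 : Led Lsl_et (LP (LK LD1_c15 LD2_c37 LD3_c36)) = (LP (LK LD1_c25 LD2_c32 LD3_c26)) :=
  Lre_e IH (LK LD1_c15 LD2_c37 LD3_c36) (LK LD1_c25 LD2_c32 LD3_c26) Lrfl Lrfl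
theorem f324432 : Led Lsl_bt (LP (LK LD1_c10 LD2_c46 LD3_c19)) = (LP (LK LD1_c15 LD2_c37 LD3_c36)) :=
  Lgr Lrot119 (Lpe (K22.f235989 IH) (Lpr_bf (f324427 IH) (Lpe (f324384 IH) (Lpn (LP (LK LD1_c15 LD2_c37 LD3_c36))))))
theorem f235817 : Led Lsl_at (LP (LK LD1_c5 LD2_c27 LD3_c37)) = (LP (LK LD1_c10 LD2_c46 LD3_c19)) :=
  Lre_a IH (LK LD1_c5 LD2_c27 LD3_c37) (LK LD1_c10 LD2_c46 LD3_c19) Lrfl Lrfl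
theorem f235818 : Led Lsl_at (LP (LK LD1_c16 LD2_c50 LD3_c25)) = (LP (LK LD1_c9 LD2_c0 LD3_c44)) :=
  Lre_a IH (LK LD1_c16 LD2_c50 LD3_c25) (LK LD1_c9 LD2_c0 LD3_c44) Lrfl Lrfl
theorem f235819 : Led Lsl_ct (LP (LK LD1_c10 LD2_c46 LD3_c19)) = (LP (LK LD1_c16 LD2_c50 LD3_c25)) :=
  Lgr Lrot111 (Lpe (f235817 IH) (Lpr_cf (K14.f235794 IH) (Lpe (f235818 IH) (Lpn (LP (LK LD1_c16 LD2_c50 LD3_c25))))))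
theorem f375748 : Led Lsl_bf (LP (LK LD1_c25 LD2_c7 LD3_c58)) = (LP (LK LD1_c16 LD2_c37 LD3_c36)) :=
  Lgr Lrot24 (Lpr_bt (K30.f375732 IH) (Lpn (LP (LK LD1_c16 LD2_c37 LD3_c36))))
theorem f375736 : Led Lsl_ft (LP (LK LD1_c25 LD2_c7 LD3_c58)) = (LP (LK LD1_c16 LD2_c37 LD3_c44)) :=
  Lgr Lrot48 (Lpr_ff (K30.f375728 IH) (Lpn (LP (LK LD1_c16 LD2_c37 LD3_c44))))
theorem f375752 : Led Lsl_bt (LP (LK LD1_c16 LD2_c37 LD3_c44)) = (LP (LK LD1_c19 LD2_c54 LD3_c53)) :=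
  Lgr Lrot35 (Lpe (f375736 IH) (Lpr_bf (f375748 IH) (Lpe (K30.f334239 IH) (Lpn (LP (LK LD1_c19 LD2_c54 LD3_c53))))))
theorem f234268 : Led Lsl_ct (LP (LK LD1_c16 LD2_c49 LD3_c58)) = (LP (LK LD1_c16 LD2_c43 LD3_c4)) :=
  Lgr Lrot111 (Lpe (K30.f234266 IH) (Lpr_cf (K13.f234254 IH) (Lpe (K30.f234267 IH) (Lpn (LP (LK LD1_c16 LD2_c43 LD3_c4))))))
theorem f317105 : Led Lsl_ct (LP (LK LD1_c19 LD2_c54 LD3_c53)) = (LP (LK LD1_c11 LD2_c3 LD3_c17)) :=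
  Lre_c IH (LK LD1_c19 LD2_c54 LD3_c53) (LK LD1_c11 LD2_c3 LD3_c17) Lrfl Lrfl
theorem f375754 : Led Lsl_bf (LP (LK LD1_c16 LD2_c49 LD3_c58)) = (LP (LK LD1_c11 LD2_c3 LD3_c17)) :=
  Lgr Lrot90 (Lpr_ct (f234268 IH) (Lpr_bt (K30.f329266 IH) (Lpe (K30.f375660 IH) (Lpr_bt (f375752 IH) (Lpr_ct (f317105 IH) (Lpn (LP (LK LD1_c11 LD2_c3 LD3_c17))))))))
theorem f222358 : Led Lsl_gt (LP (LK LD1_c11 LD2_c2 LD3_c60)) = (LP (LK LD1_c5 LD2_c35 LD3_c25)) :=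
  Lre_g IH (LK LD1_c11 LD2_c2 LD3_c60) (LK LD1_c5 LD2_c35 LD3_c25) Lrfl Lrfl
theorem f375650 : Led Lsl_gt (LP (LK LD1_c16 LD2_c49 LD3_c58)) = (LP (LK LD1_c11 LD2_c2 LD3_c60)) :=
  Lgr Lrot5 (Lpr_ft (K30.f375631 IH) (Lpr_at (K30.f222351 IH) (Lpe (f222358 IH) (Lpn (LP (LK LD1_c11 LD2_c2 LD3_c60))))))
theorem f234284 : Led Lsl_gt (LP (LK LD1_c16 LD2_c49 LD3_c57)) = (LP (LK LD1_c9 LD2_c0 LD3_c32)) :=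
  Lre_g IH (LK LD1_c16 LD2_c49 LD3_c57) (LK LD1_c9 LD2_c0 LD3_c32) Lrfl Lrfl
theorem f375633 : Led Lsl_gf (LP (LK LD1_c16 LD2_c49 LD3_c57)) = (LP (LK LD1_c11 LD2_c2 LD3_c61)) :=
  Lgr Lrot47 (Lpr_gt (f234284 IH) (Lpe (K30.f234277 IH) (Lpr_ff (K30.f375623 IH) (Lpn (LP (LK LD1_c11 LD2_c2 LD3_c61))))))
theorem f234278 : Led Lsl_gt (LP (LK LD1_c9 LD2_c0 LD3_c32)) = (LP (LK LD1_c16 LD2_c49 LD3_c56)) :=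
  Lre_g IH (LK LD1_c9 LD2_c0 LD3_c32) (LK LD1_c16 LD2_c49 LD3_c56) Lrfl Lrfl
theorem f375625 : Led Lsl_gt (LP (LK LD1_c16 LD2_c49 LD3_c56)) = (LP (LK LD1_c11 LD2_c2 LD3_c61)) :=
  Lgr Lrot46 (Lpe (f234278 IH) (Lpr_ft (K30.f375619 IH) (Lpr_at (K30.f222369 IH) (Lpn (LP (LK LD1_c11 LD2_c2 LD3_c61))))))
theorem f235850 : Led Lsl_bt (LP (LK LD1_c19 LD2_c28 LD3_c50)) = (LP (LK LD1_c16 LD2_c49 LD3_c56)) :=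
  Lgr Lrot92 (Lpr_ct (K30.f235843 IH) (Lpr_gt (K30.f235842 IH) (Lpr_cf (K14.f235794 IH) (Lpr_bt (K30.f235841 IH) (Lpr_gt (K13.f175041 IH) (Lpr_ct (K13.f175036 IH) (Lpr_gt (K12.f183315 IH) (Lpe (K13.f187042 IH) (Lpr_bt (K30.f234316 IH) (Lpr_gt (f234278 IH) (Lpn (LP (LK LD1_c16 LD2_c49 LD3_c56)))))))))))))
theorem f235852 : Led Lsl_bf (LP (LK LD1_c19 LD2_c28 LD3_c50)) = (LP (LK LD1_c16 LD2_c49 LD3_c56)) :=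
  Lgr Lrot24 (Lpr_bt (f235850 IH) (Lpn (LP (LK LD1_c16 LD2_c49 LD3_c56))))
theorem f332019 : Led Lsl_ft (LP (LK LD1_c11 LD2_c2 LD3_c59)) = (LP (LK LD1_c16 LD2_c49 LD3_c56)) :=
  Lgr Lrot75 (Lpe (K30.f178054 IH) (Lpr_ff (K30.f332015 IH) (Lpr_bf (f235852 IH) (Lpn (LP (LK LD1_c16 LD2_c49 LD3_c56))))))
theorem f332021 : Led Lsl_ff (LP (LK LD1_c11 LD2_c2 LD3_c59)) = (LP (LK LD1_c16 LD2_c49 LD3_c56)) :=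
  Lgr Lrot3 (Lpr_ft (f332019 IH) (Lpn (LP (LK LD1_c16 LD2_c49 LD3_c56))))
theorem f375635 : Led Lsl_af (LP (LK LD1_c16 LD2_c49 LD3_c57)) = (LP (LK LD1_c11 LD2_c2 LD3_c59)) :=
  Lgr Lrot31 (Lpr_gf (f375633 IH) (Lpe (f375625 IH) (Lpe (f332021 IH) (Lpn (LP (LK LD1_c11 LD2_c2 LD3_c59))))))
theorem f375637 : Led Lsl_at (LP (LK LD1_c16 LD2_c49 LD3_c57)) = (LP (LK LD1_c11 LD2_c2 LD3_c59)) :=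
  Lgr Lrot100 (Lpr_af (f375635 IH) (Lpn (LP (LK LD1_c11 LD2_c2 LD3_c59))))
theorem f375639 : Led Lsl_ff (LP (LK LD1_c16 LD2_c49 LD3_c57)) = (LP (LK LD1_c11 LD2_c2 LD3_c60)) :=
  Lgr Lrot52 (Lpr_at (f375637 IH) (Lpe (K30.f178053 IH) (Lpe (f222358 IH) (Lpn (LP (LK LD1_c11 LD2_c2 LD3_c60))))))
theorem f375641 : Led Lsl_at (LP (LK LD1_c16 LD2_c49 LD3_c56)) = (LP (LK LD1_c11 LD2_c2 LD3_c60)) :=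
  Lgr Lrot66 (Lpe (f332019 IH) (Lpe (f375637 IH) (Lpr_ff (f375639 IH) (Lpn (LP (LK LD1_c11 LD2_c2 LD3_c60))))))
theorem f375652 : Led Lsl_gf (LP (LK LD1_c16 LD2_c49 LD3_c58)) = (LP (LK LD1_c11 LD2_c2 LD3_c59)) :=
  Lgr Lrot47 (Lpr_gt (f375650 IH) (Lpe (f375641 IH) (Lpe (f332019 IH) (Lpn (LP (LK LD1_c11 LD2_c2 LD3_c59))))))
theorem f177968 : Led Lsl_at (LP (LK LD1_c16 LD2_c44 LD3_c9)) = (LP (LK LD1_c8 LD2_c56 LD3_c26)) :=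
  Lre_a IH (LK LD1_c16 LD2_c44 LD3_c9) (LK LD1_c8 LD2_c56 LD3_c26) Lrfl Lrfl
theorem f337528 : Led Lsl_gf (LP (LK LD1_c16 LD2_c44 LD3_c8)) = (LP (LK LD1_c10 LD2_c46 LD3_c19)) :=
  Lgr Lrot47 (Lpr_gt (K30.f177985 IH) (Lpe (f177968 IH) (Lpr_ff (K22.f337515 IH) (Lpn (LP (LK LD1_c10 LD2_c46 LD3_c19))))))
theorem f334184 : Led Lsl_at (LP (LK LD1_c16 LD2_c37 LD3_c36)) = (LP (LK LD1_c8 LD2_c53 LD3_c30)) :=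
  Lre_a IH (LK LD1_c16 LD2_c37 LD3_c36) (LK LD1_c8 LD2_c53 LD3_c30) Lrfl Lrfl
theorem f278670 : Led Lsl_gt (LP (LK LD1_c16 LD2_c37 LD3_c35)) = (LP (LK LD1_c8 LD2_c53 LD3_c30)) :=
  Lre_g IH (LK LD1_c16 LD2_c37 LD3_c35) (LK LD1_c8 LD2_c53 LD3_c30) Lrfl Lrfl
theorem f334245 : Led Lsl_gt (LP (LK LD1_c19 LD2_c54 LD3_c53)) = (LP (LK LD1_c16 LD2_c37 LD3_c35)) :=
  Lgr Lrot5 (Lpr_ft (K30.f334239 IH) (Lpr_at (f334184 IH) (Lpe (f278670 IH) (Lpn (LP (LK LD1_c16 LD2_c37 LD3_c35))))))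
theorem f293434 : Led Lsl_bt (LP (LK LD1_c9 LD2_c0 LD3_c36)) = (LP (LK LD1_c4 LD2_c31 LD3_c21)) :=
  Lre_b IH (LK LD1_c9 LD2_c0 LD3_c36) (LK LD1_c4 LD2_c31 LD3_c21) Lrfl Lrfl
theorem f278656 : Led Lsl_cf (LP (LK LD1_c8 LD2_c53 LD3_c30)) = (LP (LK LD1_c9 LD2_c0 LD3_c36)) :=
  Lgr Lrot97 (Lpr_bt (K30.f278655 IH) (Lpr_ct (K16.f278642 IH) (Lpr_bt (K16.f177918 IH) (Lpr_ct (K19.f212541 IH) (Lpr_bt (K30.f238087 IH) (Lpn (LP (LK LD1_c9 LD2_c0 LD3_c36))))))))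
theorem f279537 : Led Lsl_ct (LP (LK LD1_c5 LD2_c23 LD3_c24)) = (LP (LK LD1_c2 LD2_c38 LD3_c10)) :=
  Lre_c IH (LK LD1_c5 LD2_c23 LD3_c24) (LK LD1_c2 LD2_c38 LD3_c10) Lrfl Lrfl
theorem f310704 : Led Lsl_gf (LP (LK LD1_c4 LD2_c29 LD3_c4)) = (LP (LK LD1_c2 LD2_c38 LD3_c10)) :=
  Lgr Lrot104 (Lpr_ct (K16.f177937 IH) (Lpe (K21.f177954 IH) (Lpe (K19.f279540 IH) (Lpe (K19.f247178 IH) (Lpr_cf (K21.f234062 IH) (Lpe (K21.f293422 IH) (Lpe (K20.f238076 IH) (Lpr_gt (K19.f310681 IH) (Lpr_ct (f279537 IH) (Lpn (LP (LK LD1_c2 LD2_c38 LD3_c10))))))))))))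
theorem f177957 : Led Lsl_gt (LP (LK LD1_c5 LD2_c35 LD3_c41)) = (LP (LK LD1_c11 LD2_c3 LD3_c34)) :=
  Lre_g IH (LK LD1_c5 LD2_c35 LD3_c41) (LK LD1_c11 LD2_c3 LD3_c34) Lrfl Lrfl
theorem f177967 : Led Lsl_bt (LP (LK LD1_c19 LD2_c55 LD3_c47)) = (LP (LK LD1_c11 LD2_c3 LD3_c34)) :=
  Lre_b IH (LK LD1_c19 LD2_c55 LD3_c47) (LK LD1_c11 LD2_c3 LD3_c34) Lrfl Lrfl
theorem f310706 : Led Lsl_cf (LP (LK LD1_c16 LD2_c37 LD3_c35)) = (LP (LK LD1_c19 LD2_c55 LD3_c47)) :=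
  Lgr Lrot160 (Lpr_gt (f278670 IH) (Lpr_cf (f278656 IH) (Lpr_bt (f293434 IH) (Lpr_gt (K19.f310681 IH) (Lpr_ct (f279537 IH) (Lpe (f310704 IH) (Lpr_cf (K16.f177948 IH) (Lpr_bt (K30.f177945 IH) (Lpr_gt (f177957 IH) (Lpe (f177967 IH) (Lpn (LP (LK LD1_c19 LD2_c55 LD3_c47)))))))))))))
theorem f375758 : Led Lsl_gf (LP (LK LD1_c16 LD2_c50 LD3_c25)) = (LP (LK LD1_c11 LD2_c3 LD3_c34)) :=
  Lgr Lrot181 (Lpe (K22.f235976 IH) (Lpe (f337528 IH) (Lpr_cf (K30.f178055 IH) (Lpr_bt (K30.f178054 IH) (Lpe (f375652 IH) (Lpr_bf (f375754 IH) (Lpr_ct (K30.f317107 IH) (Lpr_gt (f334245 IH) (Lpr_cf (f310706 IH) (Lpr_bt (f177967 IH) (Lpn (LP (LK LD1_c11 LD2_c3 LD3_c34)))))))))))))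
theorem f389127 : Led Lsl_ct (LP (LK LD1_c19 LD2_c30 LD3_c35)) = (LP (LK LD1_c11 LD2_c3 LD3_c34)) :=
  Lgr Lrot91 (Lpe (f332046 IH) (Lpe (K30.f332034 IH) (Lpr_ct (f332081 IH) (Lpe (f332089 IH) (Lpr_cf (f389123 IH) (Lpe (f389121 IH) (Lpe (K30.f324400 IH) (Lpe (f324432 IH) (Lpr_ct (f235819 IH) (Lpr_gf (f375758 IH) (Lpn (LP (LK LD1_c11 LD2_c3 LD3_c34)))))))))))))
theorem f349431 : Led Lsl_gt (LP (LK LD1_c28 LD2_c50 LD3_c32)) = (LP (LK LD1_c19 LD2_c28 LD3_c26)) :=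
  Lre_g IH (LK LD1_c28 LD2_c50 LD3_c32) (LK LD1_c19 LD2_c28 LD3_c26) Lrfl Lrfl
theorem f389137 : Led Lsl_bt (LP (LK LD1_c19 LD2_c30 LD3_c35)) = (LP (LK LD1_c28 LD2_c50 LD3_c32)) :=
  Lgr Lrot130 (Lpr_ct (f389127 IH) (Lpe (f177957 IH) (Lpe (K22.f177963 IH) (Lpr_bt (K30.f177944 IH) (Lpe (K16.f271543 IH) (Lpe (K30.f236322 IH) (Lpr_ct (K30.f349419 IH) (Lpe (K30.f276449 IH) (Lpe (K30.f349429 IH) (Lpe (f349431 IH) (Lpn (LP (LK LD1_c28 LD2_c50 LD3_c32)))))))))))))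
theorem f389139 : Led Lsl_bf (LP (LK LD1_c19 LD2_c30 LD3_c35)) = (LP (LK LD1_c28 LD2_c50 LD3_c32)) :=
  Lgr Lrot24 (Lpr_bt (f389137 IH) (Lpn (LP (LK LD1_c28 LD2_c50 LD3_c32))))
theorem f389131 : Led Lsl_bt (LP (LK LD1_c11 LD2_c3 LD3_c34)) = (LP (LK LD1_c19 LD2_c55 LD3_c47)) :=
  Lre_b IH (LK LD1_c11 LD2_c3 LD3_c34) (LK LD1_c19 LD2_c55 LD3_c47) Lrfl Lrfl
theorem f389132 : Led Lsl_bt (LP (LK LD1_c16 LD2_c37 LD3_c35)) = (LP (LK LD1_c26 LD2_c34 LD3_c57)) :=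
  Lre_b IH (LK LD1_c16 LD2_c37 LD3_c35) (LK LD1_c26 LD2_c34 LD3_c57) Lrfl Lrfl
theorem f389141 : Led Lsl_ct (LP (LK LD1_c26 LD2_c34 LD3_c57)) = (LP (LK LD1_c28 LD2_c50 LD3_c32)) :=
  Lgr Lrot83 (Lpe (f389132 IH) (Lpr_cf (f310706 IH) (Lpe (f389131 IH) (Lpe (f389127 IH) (Lpr_bf (f389139 IH) (Lpn (LP (LK LD1_c28 LD2_c50 LD3_c32))))))))
theorem f278671 : Led Lsl_bt (LP (LK LD1_c26 LD2_c34 LD3_c57)) = (LP (LK LD1_c16 LD2_c37 LD3_c35)) :=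
  Lre_b IH (LK LD1_c26 LD2_c34 LD3_c57) (LK LD1_c16 LD2_c37 LD3_c35) Lrfl Lrfl
theorem f254863 : Led Lsl_gt (LP (LK LD1_c8 LD2_c55 LD3_c50)) = (LP (LK LD1_c16 LD2_c42 LD3_c60)) :=
  Lre_g IH (LK LD1_c8 LD2_c55 LD3_c50) (LK LD1_c16 LD2_c42 LD3_c60) Lrfl Lrfl
theorem f329288 : Led Lsl_at (LP (LK LD1_c5 LD2_c29 LD3_c53)) = (LP (LK LD1_c10 LD2_c51 LD3_c0)) :=
  Lre_a IH (LK LD1_c5 LD2_c29 LD3_c53) (LK LD1_c10 LD2_c51 LD3_c0) Lrfl Lrfl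
theorem f375705 : Led Lsl_gt (LP (LK LD1_c16 LD2_c42 LD3_c60)) = (LP (LK LD1_c10 LD2_c51 LD3_c0)) :=
  Lgr Lrot46 (Lpe (f254863 IH) (Lpr_ft (K30.f375670 IH) (Lpr_at (f329288 IH) (Lpn (LP (LK LD1_c10 LD2_c51 LD3_c0))))))
theorem f254867 : Led Lsl_ct (LP (LK LD1_c26 LD2_c41 LD3_c48)) = (LP (LK LD1_c16 LD2_c42 LD3_c60)) :=
  Lre_c IH (LK LD1_c26 LD2_c41 LD3_c48) (LK LD1_c16 LD2_c42 LD3_c60) Lrfl Lrfl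
theorem f349437 : Led Lsl_cf (LP (LK LD1_c19 LD2_c28 LD3_c26)) = (LP (LK LD1_c19 LD2_c31 LD3_c37)) :=
  Lgr Lrot11 (Lpr_ct (K30.f349429 IH) (Lpn (LP (LK LD1_c19 LD2_c31 LD3_c37))))
theorem f389145 : Led Lsl_gf (LP (LK LD1_c26 LD2_c41 LD3_c48)) = (LP (LK LD1_c28 LD2_c54 LD3_c8)) :=
  Lgr Lrot181 (Lpr_ct (f254867 IH) (Lpr_gt (f375705 IH) (Lpe (K30.f375655 IH) (Lpr_bt (f375752 IH) (Lpr_gt (f334245 IH) (Lpe (f278671 IH) (Lpr_ct (f389141 IH) (Lpr_gt (f349431 IH) (Lpr_cf (f349437 IH) (Lpr_bt (K30.f349434 IH) (Lpn (LP (LK LD1_c28 LD2_c54 LD3_c8)))))))))))))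
theorem f254864 : Led Lsl_ct (LP (LK LD1_c16 LD2_c42 LD3_c60)) = (LP (LK LD1_c26 LD2_c41 LD3_c48)) :=
  Lre_c IH (LK LD1_c16 LD2_c42 LD3_c60) (LK LD1_c26 LD2_c41 LD3_c48) Lrfl Lrfl
theorem f222273 : Led Lsl_bt (LP (LK LD1_c2 LD2_c41 LD3_c17)) = (LP (LK LD1_c5 LD2_c29 LD3_c57)) :=
  Lre_b IH (LK LD1_c2 LD2_c41 LD3_c17) (LK LD1_c5 LD2_c29 LD3_c57) Lrfl Lrfl
theorem f222274 : Led Lsl_bt (LP (LK LD1_c5 LD2_c35 LD3_c25)) = (LP (LK LD1_c2 LD2_c43 LD3_c40)) :=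
  Lre_b IH (LK LD1_c5 LD2_c35 LD3_c25) (LK LD1_c2 LD2_c43 LD3_c40) Lrfl Lrfl
theorem f222275 : Led Lsl_ct (LP (LK LD1_c5 LD2_c29 LD3_c57)) = (LP (LK LD1_c5 LD2_c35 LD3_c25)) :=
  Lgr Lrot83 (Lpe (f222273 IH) (Lpr_cf (K13.f222244 IH) (Lpe (K13.f189386 IH) (Lpe (K13.f178051 IH) (Lpe (f222274 IH) (Lpn (LP (LK LD1_c5 LD2_c35 LD3_c25))))))))
theorem f217007 : Led Lsl_bt (LP (LK LD1_c5 LD2_c29 LD3_c57)) = (LP (LK LD1_c2 LD2_c41 LD3_c17)) :=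
  Lre_b IH (LK LD1_c5 LD2_c29 LD3_c57) (LK LD1_c2 LD2_c41 LD3_c17) Lrfl Lrfl
theorem f222412 : Led Lsl_bt (LP (LK LD1_c19 LD2_c36 LD3_c11)) = (LP (LK LD1_c10 LD2_c50 LD3_c43)) :=
  Lre_b IH (LK LD1_c19 LD2_c36 LD3_c11) (LK LD1_c10 LD2_c50 LD3_c43) Lrfl Lrfl
theorem f222413 : Led Lsl_ct (LP (LK LD1_c19 LD2_c36 LD3_c11)) = (LP (LK LD1_c11 LD2_c2 LD3_c60)) :=
  Lgr Lrot64 (Lpr_bt (f222412 IH) (Lpe (K22.f220291 IH) (Lpe (K30.f220222 IH) (Lpr_ct (K13.f220215 IH) (Lpe (K12.f175246 IH) (Lpe (K12.f216961 IH) (Lpe (K13.f217005 IH) (Lpe (f217007 IH) (Lpr_ct (f222275 IH) (Lpe (f222358 IH) (Lpn (LP (LK LD1_c11 LD2_c2 LD3_c60)))))))))))))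
theorem f332173 : Led Lsl_ft (LP (LK LD1_c19 LD2_c36 LD3_c12)) = (LP (LK LD1_c20 LD2_c4 LD3_c21)) :=
  Lgr Lrot48 (Lpr_ff (K22.f332167 IH) (Lpn (LP (LK LD1_c20 LD2_c4 LD3_c21))))
theorem f179295 : Led Lsl_cf (LP (LK LD1_c16 LD2_c42 LD3_c45)) = (LP (LK LD1_c20 LD2_c4 LD3_c21)) :=
  Lgr Lrot11 (Lpr_ct (K30.f179293 IH) (Lpn (LP (LK LD1_c20 LD2_c4 LD3_c21))))
theorem f332177 : Led Lsl_ff (LP (LK LD1_c10 LD2_c50 LD3_c43)) = (LP (LK LD1_c16 LD2_c42 LD3_c45)) :=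
  Lgr Lrot23 (Lpr_ct (K22.f220295 IH) (Lpr_ft (f332173 IH) (Lpe (f179295 IH) (Lpn (LP (LK LD1_c16 LD2_c42 LD3_c45))))))
theorem f332158 : Led Lsl_at (LP (LK LD1_c10 LD2_c50 LD3_c43)) = (LP (LK LD1_c16 LD2_c42 LD3_c46)) :=
  Lgr Lrot100 (Lpr_af (K22.f332156 IH) (Lpn (LP (LK LD1_c16 LD2_c42 LD3_c46))))
theorem f332150 : Led Lsl_ff (LP (LK LD1_c10 LD2_c50 LD3_c44)) = (LP (LK LD1_c16 LD2_c42 LD3_c46)) :=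
  Lgr Lrot23 (Lpr_ct (K22.f226850 IH) (Lpr_ft (K22.f331934 IH) (Lpr_ct (K18.f228097 IH) (Lpn (LP (LK LD1_c16 LD2_c42 LD3_c46))))))
theorem f332179 : Led Lsl_at (LP (LK LD1_c10 LD2_c50 LD3_c44)) = (LP (LK LD1_c16 LD2_c42 LD3_c45)) :=
  Lgr Lrot66 (Lpr_ff (f332150 IH) (Lpe (f332158 IH) (Lpr_ff (f332177 IH) (Lpn (LP (LK LD1_c16 LD2_c42 LD3_c45))))))
theorem f332181 : Led Lsl_af (LP (LK LD1_c10 LD2_c50 LD3_c44)) = (LP (LK LD1_c16 LD2_c42 LD3_c45)) :=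
  Lgr Lrot0 (Lpr_at (f332179 IH) (Lpn (LP (LK LD1_c16 LD2_c42 LD3_c45))))
theorem f332171 : Led Lsl_ft (LP (LK LD1_c10 LD2_c50 LD3_c43)) = (LP (LK LD1_c16 LD2_c42 LD3_c45)) :=
  Lgr Lrot4 (Lpe (K22.f220296 IH) (Lpr_ff (K22.f332167 IH) (Lpe (K30.f179293 IH) (Lpn (LP (LK LD1_c16 LD2_c42 LD3_c45))))))
theorem f332183 : Led Lsl_gf (LP (LK LD1_c16 LD2_c42 LD3_c47)) = (LP (LK LD1_c10 LD2_c50 LD3_c43)) :=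
  Lgr Lrot47 (Lpr_gt (K22.f296706 IH) (Lpr_af (f332181 IH) (Lpe (f332171 IH) (Lpn (LP (LK LD1_c10 LD2_c50 LD3_c43))))))
theorem f228084 : Led Lsl_at (LP (LK LD1_c8 LD2_c55 LD3_c42)) = (LP (LK LD1_c16 LD2_c42 LD3_c47)) :=
  Lre_a IH (LK LD1_c8 LD2_c55 LD3_c42) (LK LD1_c16 LD2_c42 LD3_c47) Lrfl Lrfl
theorem f228085 : Led Lsl_cf (LP (LK LD1_c11 LD2_c9 LD3_c4)) = (LP (LK LD1_c16 LD2_c42 LD3_c47)) :=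
  Lgr Lrot1 (Lpr_at (K22.f228083 IH) (Lpr_ct (K12.f228039 IH) (Lpr_at (f228084 IH) (Lpn (LP (LK LD1_c16 LD2_c42 LD3_c47))))))
theorem f296572 : Led Lsl_ft (LP (LK LD1_c11 LD2_c9 LD3_c4)) = (LP (LK LD1_c15 LD2_c17 LD3_c55)) :=
  Lgr Lrot101 (Lpe (K22.f228215 IH) (Lpr_ff (K18.f296570 IH) (Lpe (K18.f220283 IH) (Lpn (LP (LK LD1_c15 LD2_c17 LD3_c55))))))
theorem f296785 : Led Lsl_gt (LP (LK LD1_c11 LD2_c9 LD3_c4)) = (LP (LK LD1_c15 LD2_c17 LD3_c54)) :=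
  Lgr Lrot5 (Lpr_ft (f296572 IH) (Lpr_at (K18.f220283 IH) (Lpe (K22.f200970 IH) (Lpn (LP (LK LD1_c15 LD2_c17 LD3_c54))))))
theorem f200968 : Led Lsl_ct (LP (LK LD1_c25 LD2_c8 LD3_c35)) = (LP (LK LD1_c15 LD2_c17 LD3_c54)) :=
  Lre_c IH (LK LD1_c25 LD2_c8 LD3_c35) (LK LD1_c15 LD2_c17 LD3_c54) Lrfl Lrfl
theorem f375707 : Led Lsl_bf (LP (LK LD1_c16 LD2_c42 LD3_c60)) = (LP (LK LD1_c25 LD2_c8 LD3_c35)) :=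
  Lgr Lrot156 (Lpr_gt (f375705 IH) (Lpe (K30.f329266 IH) (Lpe (K30.f375647 IH) (Lpr_gt (f375650 IH) (Lpe (f222413 IH) (Lpr_bt (f222412 IH) (Lpe (f332183 IH) (Lpe (f228085 IH) (Lpr_gt (f296785 IH) (Lpe (f200968 IH) (Lpn (LP (LK LD1_c25 LD2_c8 LD3_c35)))))))))))))
theorem f375709 : Led Lsl_bt (LP (LK LD1_c16 LD2_c42 LD3_c60)) = (LP (LK LD1_c25 LD2_c8 LD3_c35)) :=
  Lgr Lrot127 (Lpr_bf (f375707 IH) (Lpn (LP (LK LD1_c25 LD2_c8 LD3_c35))))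
theorem f245011 : Led Lsl_ct (LP (LK LD1_c10 LD2_c46 LD3_c5)) = (LP (LK LD1_c19 LD2_c28 LD3_c27)) :=
  Lre_c IH (LK LD1_c10 LD2_c46 LD3_c5) (LK LD1_c19 LD2_c28 LD3_c27) Lrfl Lrfl
theorem f349456 : Led Lsl_ct (LP (LK LD1_c28 LD2_c50 LD3_c35)) = (LP (LK LD1_c28 LD2_c54 LD3_c8)) :=
  Lgr Lrot83 (Lpe (K30.f245016 IH) (Lpe (f245011 IH) (Lpe (K30.f245015 IH) (Lpr_cf (f349437 IH) (Lpe (K30.f276450 IH) (Lpn (LP (LK LD1_c28 LD2_c54 LD3_c8))))))))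
theorem f389147 : Led Lsl_gt (LP (LK LD1_c25 LD2_c8 LD3_c35)) = (LP (LK LD1_c16 LD2_c43 LD3_c9)) :=
  Lgr Lrot164 (Lpe (f375709 IH) (Lpr_ct (f254864 IH) (Lpr_gf (f389145 IH) (Lpe (f349456 IH) (Lpe (K30.f384912 IH) (Lpe (K30.f179135 IH) (Lpr_ct (K27.f179138 IH) (Lpr_gf (K30.f384880 IH) (Lpe (K30.f179230 IH) (Lpr_bt (K30.f179226 IH) (Lpn (LP (LK LD1_c16 LD2_c43 LD3_c9)))))))))))))
theorem f389704 : Led Lsl_af (LP (LK LD1_c25 LD2_c8 LD3_c32)) = (LP (LK LD1_c19 LD2_c36 LD3_c43)) :=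
  Lgr Lrot0 (Lpr_at (f389698 IH) (Lpn (LP (LK LD1_c19 LD2_c36 LD3_c43))))
theorem f389864 : Led Lsl_ft (LP (LK LD1_c25 LD2_c8 LD3_c35)) = (LP (LK LD1_c19 LD2_c36 LD3_c43)) :=
  Lgr Lrot2 (Lpr_gt (f389147 IH) (Lpr_gt (f389847 IH) (Lpr_af (f389704 IH) (Lpn (LP (LK LD1_c19 LD2_c36 LD3_c43))))))
theorem f389868 : Led Lsl_ff (LP (LK LD1_c25 LD2_c8 LD3_c35)) = (LP (LK LD1_c19 LD2_c36 LD3_c43)) :=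
  Lgr Lrot3 (Lpr_ft (f389864 IH) (Lpn (LP (LK LD1_c19 LD2_c36 LD3_c43))))
theorem f390045 : Led Lsl_af (LP (LK LD1_c19 LD2_c37 LD3_c12)) = (LP (LK LD1_c25 LD2_c8 LD3_c35)) :=
  Lgr Lrot45 (Lpr_ft (f390043 IH) (Lpr_at (f389698 IH) (Lpe (f389868 IH) (Lpn (LP (LK LD1_c25 LD2_c8 LD3_c35))))))
theorem f390054 : Led Lsl_gf (LP (LK LD1_c10 LD2_c51 LD3_c15)) = (LP (LK LD1_c19 LD2_c36 LD3_c43)) :=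
  Lgr Lrot47 (Lpr_gt (f225280 IH) (Lpr_af (f390045 IH) (Lpr_ff (f389868 IH) (Lpn (LP (LK LD1_c19 LD2_c36 LD3_c43))))))
theorem f225321 : Led Lsl_dt (LP (LK LD1_c10 LD2_c51 LD3_c15)) = (LP (LK LD1_c19 LD2_c37 LD3_c14)) :=
  Lre_d IH (LK LD1_c10 LD2_c51 LD3_c15) (LK LD1_c19 LD2_c37 LD3_c14) Lrfl Lrfl
theorem f234821 : Led Lsl_ct (LP (LK LD1_c11 LD2_c9 LD3_c3)) = (LP (LK LD1_c19 LD2_c36 LD3_c43)) :=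
  Lgr Lrot59 (Lpr_cf (f234810 IH) (Lpn (LP (LK LD1_c19 LD2_c36 LD3_c43))))
theorem f228222 : Led Lsl_dt (LP (LK LD1_c15 LD2_c21 LD3_c6)) = (LP (LK LD1_c8 LD2_c9 LD3_c8)) :=
  Lre_d IH (LK LD1_c15 LD2_c21 LD3_c6) (LK LD1_c8 LD2_c9 LD3_c8) Lrfl Lrfl
theorem f390056 : Led Lsl_gt (LP (LK LD1_c19 LD2_c37 LD3_c14)) = (LP (LK LD1_c15 LD2_c21 LD3_c6)) :=
  Lgr Lrot49 (Lpe (f225321 IH) (Lpr_gf (f390054 IH) (Lpe (f234821 IH) (Lpr_gt (f228095 IH) (Lpr_dt (K18.f228173 IH) (Lpr_gt (K18.f280041 IH) (Lpr_dt (K30.f52514 IH) (Lpe (K27.f52467 IH) (Lpe (f228222 IH) (Lpn (LP (LK LD1_c15 LD2_c21 LD3_c6))))))))))))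
theorem f390070 : Led Lsl_at (LP (LK LD1_c25 LD2_c12 LD3_c11)) = (LP (LK LD1_c15 LD2_c21 LD3_c6)) :=
  Lre_a IH (LK LD1_c25 LD2_c12 LD3_c11) (LK LD1_c15 LD2_c21 LD3_c6) Lrfl Lrfl
theorem f390071 : Led Lsl_ft (LP (LK LD1_c15 LD2_c21 LD3_c21)) = (LP (LK LD1_c25 LD2_c12 LD3_c11)) :=
  Lre_f IH (LK LD1_c15 LD2_c21 LD3_c21) (LK LD1_c25 LD2_c12 LD3_c11) Lrfl Lrfl
theorem f390072 : Led Lsl_gf (LP (LK LD1_c19 LD2_c37 LD3_c14)) = (LP (LK LD1_c15 LD2_c21 LD3_c21)) :=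
  Lgr Lrot47 (Lpr_gt (f390056 IH) (Lpe (f390070 IH) (Lpe (f390071 IH) (Lpn (LP (LK LD1_c15 LD2_c21 LD3_c21))))))
theorem f225323 : Led Lsl_dt (LP (LK LD1_c19 LD2_c37 LD3_c14)) = (LP (LK LD1_c10 LD2_c51 LD3_c15)) :=
  Lre_d IH (LK LD1_c19 LD2_c37 LD3_c14) (LK LD1_c10 LD2_c51 LD3_c15) Lrfl Lrfl
theorem f174008 : Led Lsl_bt (LP (LK LD1_c4 LD2_c30 LD3_c55)) = (LP (LK LD1_c8 LD2_c59 LD3_c58)) :=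
  Lre_b IH (LK LD1_c4 LD2_c30 LD3_c55) (LK LD1_c8 LD2_c59 LD3_c58) Lrfl Lrfl
theorem f225266 : Led Lsl_bt (LP (LK LD1_c5 LD2_c29 LD3_c61)) = (LP (LK LD1_c10 LD2_c51 LD3_c15)) :=
  Lre_b IH (LK LD1_c5 LD2_c29 LD3_c61) (LK LD1_c10 LD2_c51 LD3_c15) Lrfl Lrfl
theorem f225267 : Led Lsl_cf (LP (LK LD1_c16 LD2_c49 LD3_c20)) = (LP (LK LD1_c10 LD2_c51 LD3_c15)) :=
  Lgr Lrot97 (Lpr_bt (f174013 IH) (Lpr_ct (K30.f225265 IH) (Lpr_bt (f174008 IH) (Lpr_ct (K30.f225256 IH) (Lpr_bt (f225266 IH) (Lpn (LP (LK LD1_c10 LD2_c51 LD3_c15))))))))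
theorem f388709 : Led Lsl_gf (LP (LK LD1_c15 LD2_c22 LD3_c23)) = (LP (LK LD1_c8 LD2_c28 LD3_c20)) :=
  Lgr Lrot47 (Lpe (K30.f387938 IH) (Lpr_af (K30.f388698 IH) (Lpe (K30.f388689 IH) (Lpn (LP (LK LD1_c8 LD2_c28 LD3_c20))))))
theorem f388711 : Led Lsl_gt (LP (LK LD1_c5 LD2_c38 LD3_c58)) = (LP (LK LD1_c8 LD2_c28 LD3_c20)) :=
  Lgr Lrot5 (Lpr_ft (K17.f286674 IH) (Lpr_at (K18.f244636 IH) (Lpr_gf (f388709 IH) (Lpn (LP (LK LD1_c8 LD2_c28 LD3_c20))))))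
theorem f244044 : Led Lsl_bt (LP (LK LD1_c8 LD2_c9 LD3_c41)) = (LP (LK LD1_c4 LD2_c4 LD3_c23)) :=
  Lre_b IH (LK LD1_c8 LD2_c9 LD3_c41) (LK LD1_c4 LD2_c4 LD3_c23) Lrfl Lrfl
theorem f244438 : Led Lsl_dt (LP (LK LD1_c5 LD2_c38 LD3_c54)) = (LP (LK LD1_c8 LD2_c9 LD3_c41)) :=
  Lgr Lrot79 (Lpe (K18.f179413 IH) (Lpr_df (K15.f243709 IH) (Lpe (f244044 IH) (Lpn (LP (LK LD1_c8 LD2_c9 LD3_c41))))))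
theorem f286634 : Led Lsl_ft (LP (LK LD1_c8 LD2_c9 LD3_c35)) = (LP (LK LD1_c5 LD2_c38 LD3_c54)) :=
  Lgr Lrot101 (Lpe (K30.f247302 IH) (Lpr_ff (K17.f286595 IH) (Lpe (K30.f244537 IH) (Lpn (LP (LK LD1_c5 LD2_c38 LD3_c54))))))
theorem f286713 : Led Lsl_dt (LP (LK LD1_c5 LD2_c38 LD3_c58)) = (LP (LK LD1_c8 LD2_c9 LD3_c35)) :=
  Lgr Lrot60 (Lpr_ff (K17.f286705 IH) (Lpe (f244438 IH) (Lpe (f286634 IH) (Lpn (LP (LK LD1_c8 LD2_c9 LD3_c35))))))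
theorem f319158 : Led Lsl_et (LP (LK LD1_c16 LD2_c44 LD3_c45)) = (LP (LK LD1_c8 LD2_c56 LD3_c43)) :=
  Lre_e IH (LK LD1_c16 LD2_c44 LD3_c45) (LK LD1_c8 LD2_c56 LD3_c43) Lrfl Lrfl
theorem f319159 : Led Lsl_et (LP (LK LD1_c8 LD2_c9 LD3_c46)) = (LP (LK LD1_c15 LD2_c22 LD3_c31)) :=
  Lre_e IH (LK LD1_c8 LD2_c9 LD3_c46) (LK LD1_c15 LD2_c22 LD3_c31) Lrfl Lrfl
theorem f319160 : Led Lsl_cf (LP (LK LD1_c16 LD2_c44 LD3_c45)) = (LP (LK LD1_c15 LD2_c22 LD3_c31)) :=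
  Lgr Lrot39 (Lpr_et (f319158 IH) (Lpr_ct (K30.f319148 IH) (Lpr_et (f319159 IH) (Lpn (LP (LK LD1_c15 LD2_c22 LD3_c31))))))
theorem f319168 : Led Lsl_ct (LP (LK LD1_c16 LD2_c44 LD3_c45)) = (LP (LK LD1_c15 LD2_c22 LD3_c31)) :=
  Lgr Lrot59 (Lpr_cf (f319160 IH) (Lpn (LP (LK LD1_c15 LD2_c22 LD3_c31))))
theorem f319175 : Led Lsl_bt (LP (LK LD1_c8 LD2_c56 LD3_c45)) = (LP (LK LD1_c16 LD2_c44 LD3_c45)) :=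
  Lre_b IH (LK LD1_c8 LD2_c56 LD3_c45) (LK LD1_c16 LD2_c44 LD3_c45) Lrfl Lrfl
theorem f319176 : Led Lsl_ct (LP (LK LD1_c16 LD2_c44 LD3_c50)) = (LP (LK LD1_c8 LD2_c56 LD3_c45)) :=
  Lre_c IH (LK LD1_c16 LD2_c44 LD3_c50) (LK LD1_c8 LD2_c56 LD3_c45) Lrfl Lrfl
theorem f319177 : Led Lsl_bt (LP (LK LD1_c26 LD2_c43 LD3_c44)) = (LP (LK LD1_c16 LD2_c44 LD3_c50)) :=
  Lre_b IH (LK LD1_c26 LD2_c43 LD3_c44) (LK LD1_c16 LD2_c44 LD3_c50) Lrfl Lrfl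
theorem f319173 : Led Lsl_bt (LP (LK LD1_c15 LD2_c22 LD3_c31)) = (LP (LK LD1_c25 LD2_c14 LD3_c20)) :=
  Lre_b IH (LK LD1_c15 LD2_c22 LD3_c31) (LK LD1_c25 LD2_c14 LD3_c20) Lrfl Lrfl
theorem f319178 : Led Lsl_cf (LP (LK LD1_c26 LD2_c43 LD3_c44)) = (LP (LK LD1_c25 LD2_c14 LD3_c20)) :=
  Lgr Lrot97 (Lpr_bt (f319177 IH) (Lpr_ct (f319176 IH) (Lpr_bt (f319175 IH) (Lpr_ct (f319168 IH) (Lpr_bt (f319173 IH) (Lpn (LP (LK LD1_c25 LD2_c14 LD3_c20))))))))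
theorem f247311 : Led Lsl_et (LP (LK LD1_c26 LD2_c43 LD3_c44)) = (LP (LK LD1_c16 LD2_c44 LD3_c48)) :=
  Lre_e IH (LK LD1_c26 LD2_c43 LD3_c44) (LK LD1_c16 LD2_c44 LD3_c48) Lrfl Lrfl
theorem f319186 : Led Lsl_et (LP (LK LD1_c15 LD2_c22 LD3_c30)) = (LP (LK LD1_c25 LD2_c14 LD3_c20)) :=
  Lre_e IH (LK LD1_c15 LD2_c22 LD3_c30) (LK LD1_c25 LD2_c14 LD3_c20) Lrfl Lrfl
theorem f319187 : Led Lsl_ct (LP (LK LD1_c16 LD2_c44 LD3_c48)) = (LP (LK LD1_c15 LD2_c22 LD3_c30)) :=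
  Lgr Lrot15 (Lpe (f247311 IH) (Lpr_cf (f319178 IH) (Lpe (f319186 IH) (Lpn (LP (LK LD1_c15 LD2_c22 LD3_c30))))))
theorem f385119 : Led Lsl_dt (LP (LK LD1_c15 LD2_c22 LD3_c30)) = (LP (LK LD1_c15 LD2_c53 LD3_c13)) :=
  Lgr Lrot79 (Lpe (K30.f319153 IH) (Lpr_df (K30.f385093 IH) (Lpe (K30.f200432 IH) (Lpn (LP (LK LD1_c15 LD2_c53 LD3_c13))))))
theorem f196944 : Led Lsl_ct (LP (LK LD1_c8 LD2_c28 LD3_c20)) = (LP (LK LD1_c15 LD2_c54 LD3_c25)) :=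
  Lre_c IH (LK LD1_c8 LD2_c28 LD3_c20) (LK LD1_c15 LD2_c54 LD3_c25) Lrfl Lrfl
theorem f388739 : Led Lsl_gf (LP (LK LD1_c25 LD2_c49 LD3_c18)) = (LP (LK LD1_c15 LD2_c54 LD3_c25)) :=
  Lgr Lrot104 (Lpr_ct (K30.f238468 IH) (Lpe (f385119 IH) (Lpe (f319187 IH) (Lpr_gf (K30.f319211 IH) (Lpe (K30.f226849 IH) (Lpe (K22.f223702 IH) (Lpe (f286713 IH) (Lpr_gt (f388711 IH) (Lpr_ct (f196944 IH) (Lpn (LP (LK LD1_c15 LD2_c54 LD3_c25))))))))))))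
theorem f332724 : Led Lsl_ct (LP (LK LD1_c4 LD2_c14 LD3_c27)) = (LP (LK LD1_c5 LD2_c35 LD3_c18)) :=
  Lgr Lrot59 (Lpr_cf (K22.f332722 IH) (Lpn (LP (LK LD1_c5 LD2_c35 LD3_c18))))
theorem f199450 : Led Lsl_gt (LP (LK LD1_c5 LD2_c35 LD3_c18)) = (LP (LK LD1_c11 LD2_c2 LD3_c45)) :=
  Lre_g IH (LK LD1_c5 LD2_c35 LD3_c18) (LK LD1_c11 LD2_c2 LD3_c45) Lrfl Lrfl
theorem f174010 : Led Lsl_dt (LP (LK LD1_c16 LD2_c49 LD3_c21)) = (LP (LK LD1_c8 LD2_c59 LD3_c59)) :=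
  Lre_d IH (LK LD1_c16 LD2_c49 LD3_c21) (LK LD1_c8 LD2_c59 LD3_c59) Lrfl Lrfl
theorem f385098 : Led Lsl_cf (LP (LK LD1_c16 LD2_c49 LD3_c21)) = (LP (LK LD1_c11 LD2_c2 LD3_c45)) :=
  Lgr Lrot175 (Lpr_dt (f174010 IH) (Lpe (K30.f174001 IH) (Lpe (K30.f167850 IH) (Lpe (f247329 IH) (Lpe (K30.f314900 IH) (Lpr_dt (K30.f385088 IH) (Lpr_gt (K22.f200431 IH) (Lpr_ct (f332724 IH) (Lpr_gt (f199450 IH) (Lpn (LP (LK LD1_c11 LD2_c2 LD3_c45))))))))))))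
theorem f385102 : Led Lsl_ct (LP (LK LD1_c16 LD2_c49 LD3_c21)) = (LP (LK LD1_c11 LD2_c2 LD3_c45)) :=
  Lgr Lrot59 (Lpr_cf (f385098 IH) (Lpn (LP (LK LD1_c11 LD2_c2 LD3_c45))))
theorem f388761 : Led Lsl_bt (LP (LK LD1_c8 LD2_c28 LD3_c20)) = (LP (LK LD1_c15 LD2_c54 LD3_c18)) :=
  Lre_b IH (LK LD1_c8 LD2_c28 LD3_c20) (LK LD1_c15 LD2_c54 LD3_c18) Lrfl Lrfl
theorem f388762 : Led Lsl_gt (LP (LK LD1_c25 LD2_c50 LD3_c12)) = (LP (LK LD1_c15 LD2_c54 LD3_c18)) :=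
  Lre_g IH (LK LD1_c25 LD2_c50 LD3_c12) (LK LD1_c15 LD2_c54 LD3_c18) Lrfl Lrfl
theorem f388763 : Led Lsl_bt (LP (LK LD1_c16 LD2_c49 LD3_c21)) = (LP (LK LD1_c25 LD2_c50 LD3_c12)) :=
  Lgr Lrot22 (Lpr_ct (f385102 IH) (Lpe (f199450 IH) (Lpe (f332724 IH) (Lpe (K22.f200431 IH) (Lpe (K30.f200432 IH) (Lpr_ct (K30.f200433 IH) (Lpr_gf (f388739 IH) (Lpe (f196944 IH) (Lpr_bt (f388761 IH) (Lpe (f388762 IH) (Lpn (LP (LK LD1_c25 LD2_c50 LD3_c12)))))))))))))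
theorem f174011 : Led Lsl_dt (LP (LK LD1_c8 LD2_c59 LD3_c59)) = (LP (LK LD1_c16 LD2_c49 LD3_c21)) :=
  Lre_d IH (LK LD1_c8 LD2_c59 LD3_c59) (LK LD1_c16 LD2_c49 LD3_c21) Lrfl Lrfl
theorem f388768 : Led Lsl_df (LP (LK LD1_c16 LD2_c49 LD3_c20)) = (LP (LK LD1_c25 LD2_c50 LD3_c12)) :=
  Lgr Lrot12 (Lpr_bt (f174013 IH) (Lpr_dt (f174011 IH) (Lpr_bt (f388763 IH) (Lpn (LP (LK LD1_c25 LD2_c50 LD3_c12))))))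
theorem f178092 : Led Lsl_bt (LP (LK LD1_c20 LD2_c4 LD3_c20)) = (LP (LK LD1_c11 LD2_c9 LD3_c50)) :=
  Lre_b IH (LK LD1_c20 LD2_c4 LD3_c20) (LK LD1_c11 LD2_c9 LD3_c50) Lrfl Lrfl
theorem f225320 : Led Lsl_bt (LP (LK LD1_c8 LD2_c59 LD3_c59)) = (LP (LK LD1_c16 LD2_c49 LD3_c20)) :=
  Lre_b IH (LK LD1_c8 LD2_c59 LD3_c59) (LK LD1_c16 LD2_c49 LD3_c20) Lrfl Lrfl
theorem f319213 : Led Lsl_gf (LP (LK LD1_c19 LD2_c36 LD3_c15)) = (LP (LK LD1_c16 LD2_c49 LD3_c20)) :=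
  Lgr Lrot124 (Lpe (K22.f226847 IH) (Lpr_ct (K30.f226849 IH) (Lpe (K30.f319211 IH) (Lpr_cf (K30.f319154 IH) (Lpr_bt (K30.f314901 IH) (Lpr_gt (K30.f314900 IH) (Lpr_ct (f247329 IH) (Lpr_gt (K30.f167850 IH) (Lpe (K30.f225265 IH) (Lpr_bt (f225320 IH) (Lpn (LP (LK LD1_c16 LD2_c49 LD3_c20)))))))))))))
theorem f243909 : Led Lsl_df (LP (LK LD1_c5 LD2_c39 LD3_c0)) = (LP (LK LD1_c8 LD2_c7 LD3_c26)) :=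
  Lgr Lrot12 (Lpr_bt (K30.f243908 IH) (Lpr_dt (K13.f243712 IH) (Lpr_bt (K22.f211438 IH) (Lpn (LP (LK LD1_c8 LD2_c7 LD3_c26))))))
theorem f246396 : Led Lsl_bt (LP (LK LD1_c4 LD2_c54 LD3_c57)) = (LP (LK LD1_c9 LD2_c41 LD3_c22)) :=
  Lre_b IH (LK LD1_c4 LD2_c54 LD3_c57) (LK LD1_c9 LD2_c41 LD3_c22) Lrfl Lrfl
theorem f246397 : Led Lsl_cf (LP (LK LD1_c5 LD2_c39 LD3_c0)) = (LP (LK LD1_c9 LD2_c41 LD3_c22)) :=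
  Lgr Lrot97 (Lpr_bt (K30.f243908 IH) (Lpr_ct (K30.f243926 IH) (Lpe (K13.f243936 IH) (Lpr_ct (K14.f246391 IH) (Lpr_bt (f246396 IH) (Lpn (LP (LK LD1_c9 LD2_c41 LD3_c22))))))))
theorem f319215 : Led Lsl_gt (LP (LK LD1_c17 LD2_c49 LD3_c21)) = (LP (LK LD1_c9 LD2_c41 LD3_c22)) :=
  Lre_g IH (LK LD1_c17 LD2_c49 LD3_c21) (LK LD1_c9 LD2_c41 LD3_c22) Lrfl Lrfl
theorem f388773 : Led Lsl_cf (LP (LK LD1_c17 LD2_c49 LD3_c21)) = (LP (LK LD1_c15 LD2_c54 LD3_c18)) :=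
  Lgr Lrot169 (Lpr_gt (f319215 IH) (Lpe (f246397 IH) (Lpr_df (f243909 IH) (Lpe (K30.f220224 IH) (Lpe (K22.f220297 IH) (Lpe (K22.f220298 IH) (Lpr_gf (f319213 IH) (Lpr_df (f388768 IH) (Lpr_gt (f388762 IH) (Lpn (LP (LK LD1_c15 LD2_c54 LD3_c18))))))))))))
theorem f228250 : Led Lsl_bt (LP (LK LD1_c4 LD2_c14 LD3_c27)) = (LP (LK LD1_c2 LD2_c4 LD3_c36)) :=
  Lre_b IH (LK LD1_c4 LD2_c14 LD3_c27) (LK LD1_c2 LD2_c4 LD3_c36) Lrfl Lrfl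
theorem f388780 : Led Lsl_cf (LP (LK LD1_c9 LD2_c41 LD3_c22)) = (LP (LK LD1_c5 LD2_c39 LD3_c0)) :=
  Lgr Lrot163 (Lpe (f319215 IH) (Lpr_cf (f388773 IH) (Lpe (f388762 IH) (Lpe (f388763 IH) (Lpr_ct (f385102 IH) (Lpe (f199450 IH) (Lpe (f332724 IH) (Lpr_bt (f228250 IH) (Lpe (K15.f243918 IH) (Lpe (K30.f243908 IH) (Lpn (LP (LK LD1_c5 LD2_c39 LD3_c0)))))))))))))
theorem f246407 : Led Lsl_gt (LP (LK LD1_c9 LD2_c41 LD3_c22)) = (LP (LK LD1_c17 LD2_c49 LD3_c20)) :=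
  Lre_g IH (LK LD1_c9 LD2_c41 LD3_c22) (LK LD1_c17 LD2_c49 LD3_c20) Lrfl Lrfl
theorem f389105 : Led Lsl_ct (LP (LK LD1_c20 LD2_c4 LD3_c20)) = (LP (LK LD1_c17 LD2_c49 LD3_c20)) :=
  Lgr Lrot10 (Lpr_bt (f178092 IH) (Lpr_gt (f389091 IH) (Lpr_ct (K30.f179470 IH) (Lpr_gt (K20.f178122 IH) (Lpe (K20.f179300 IH) (Lpr_bt (K19.f179421 IH) (Lpr_gt (K13.f178082 IH) (Lpe (K30.f243908 IH) (Lpe (f388780 IH) (Lpr_gt (f246407 IH) (Lpn (LP (LK LD1_c17 LD2_c49 LD3_c20)))))))))))))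
theorem f179274 : Led Lsl_dt (LP (LK LD1_c20 LD2_c4 LD3_c22)) = (LP (LK LD1_c11 LD2_c9 LD3_c52)) :=
  Lre_d IH (LK LD1_c20 LD2_c4 LD3_c22) (LK LD1_c11 LD2_c9 LD3_c52) Lrfl Lrfl
theorem f196679 : Led Lsl_gt (LP (LK LD1_c19 LD2_c10 LD3_c50)) = (LP (LK LD1_c10 LD2_c35 LD3_c22)) :=
  Lre_g IH (LK LD1_c19 LD2_c10 LD3_c50) (LK LD1_c10 LD2_c35 LD3_c22) Lrfl Lrfl
theorem f296771 : Led Lsl_cf (LP (LK LD1_c19 LD2_c10 LD3_c50)) = (LP (LK LD1_c25 LD2_c5 LD3_c21)) :=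
  Lgr Lrot169 (Lpr_gt (f196679 IH) (Lpr_ct (K18.f196668 IH) (Lpe (K18.f228173 IH) (Lpr_cf (K18.f228087 IH) (Lpe (K18.f228096 IH) (Lpe (K18.f228097 IH) (Lpr_gf (K22.f179418 IH) (Lpe (f179274 IH) (Lpr_gt (K30.f296769 IH) (Lpn (LP (LK LD1_c25 LD2_c5 LD3_c21))))))))))))
theorem f296781 : Led Lsl_ct (LP (LK LD1_c19 LD2_c10 LD3_c50)) = (LP (LK LD1_c25 LD2_c5 LD3_c21)) :=
  Lgr Lrot59 (Lpr_cf (f296771 IH) (Lpn (LP (LK LD1_c25 LD2_c5 LD3_c21))))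
theorem f388778 : Led Lsl_ft (LP (LK LD1_c17 LD2_c49 LD3_c21)) = (LP (LK LD1_c19 LD2_c10 LD3_c50)) :=
  Lgr Lrot4 (Lpr_cf (f388773 IH) (Lpr_ff (K30.f388685 IH) (Lpe (f296781 IH) (Lpn (LP (LK LD1_c19 LD2_c10 LD3_c50))))))
theorem f388782 : Led Lsl_ff (LP (LK LD1_c17 LD2_c49 LD3_c21)) = (LP (LK LD1_c19 LD2_c10 LD3_c50)) :=
  Lgr Lrot3 (Lpr_ft (f388778 IH) (Lpn (LP (LK LD1_c19 LD2_c10 LD3_c50))))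
theorem f388788 : Led Lsl_at (LP (LK LD1_c17 LD2_c49 LD3_c21)) = (LP (LK LD1_c19 LD2_c10 LD3_c49)) :=
  Lgr Lrot26 (Lpr_ff (f388782 IH) (Lpr_gt (f196679 IH) (Lpr_gt (K30.f196625 IH) (Lpn (LP (LK LD1_c19 LD2_c10 LD3_c49))))))
theorem f388784 : Led Lsl_af (LP (LK LD1_c17 LD2_c49 LD3_c20)) = (LP (LK LD1_c19 LD2_c10 LD3_c50)) :=
  Lgr Lrot31 (Lpe (f246407 IH) (Lpe (f319215 IH) (Lpr_ft (f388778 IH) (Lpn (LP (LK LD1_c19 LD2_c10 LD3_c50))))))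
theorem f388786 : Led Lsl_at (LP (LK LD1_c17 LD2_c49 LD3_c20)) = (LP (LK LD1_c19 LD2_c10 LD3_c50)) :=
  Lgr Lrot100 (Lpr_af (f388784 IH) (Lpn (LP (LK LD1_c19 LD2_c10 LD3_c50))))
theorem f388794 : Led Lsl_ff (LP (LK LD1_c17 LD2_c49 LD3_c20)) = (LP (LK LD1_c19 LD2_c10 LD3_c49)) :=
  Lgr Lrot30 (Lpr_at (f388786 IH) (Lpe (f388782 IH) (Lpr_at (f388788 IH) (Lpn (LP (LK LD1_c19 LD2_c10 LD3_c49))))))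
theorem f388796 : Led Lsl_ft (LP (LK LD1_c17 LD2_c49 LD3_c20)) = (LP (LK LD1_c19 LD2_c10 LD3_c49)) :=
  Lgr Lrot48 (Lpr_ff (f388794 IH) (Lpn (LP (LK LD1_c19 LD2_c10 LD3_c49))))
theorem f389175 : Led Lsl_ff (LP (LK LD1_c20 LD2_c4 LD3_c20)) = (LP (LK LD1_c25 LD2_c5 LD3_c9)) :=
  Lgr Lrot23 (Lpr_ct (f389105 IH) (Lpr_ft (f388796 IH) (Lpe (K30.f227142 IH) (Lpn (LP (LK LD1_c25 LD2_c5 LD3_c9))))))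
theorem f389181 : Led Lsl_ft (LP (LK LD1_c20 LD2_c4 LD3_c20)) = (LP (LK LD1_c25 LD2_c5 LD3_c9)) :=
  Lgr Lrot48 (Lpr_ff (f389175 IH) (Lpn (LP (LK LD1_c25 LD2_c5 LD3_c9))))
theorem f388792 : Led Lsl_af (LP (LK LD1_c15 LD2_c54 LD3_c18)) = (LP (LK LD1_c25 LD2_c5 LD3_c9)) :=
  Lgr Lrot68 (Lpe (f388773 IH) (Lpr_at (f388788 IH) (Lpe (K30.f227142 IH) (Lpn (LP (LK LD1_c25 LD2_c5 LD3_c9))))))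
theorem f389187 : Led Lsl_gt (LP (LK LD1_c20 LD2_c4 LD3_c20)) = (LP (LK LD1_c25 LD2_c50 LD3_c12)) :=
  Lgr Lrot5 (Lpr_ft (f389181 IH) (Lpe (f388792 IH) (Lpe (f388762 IH) (Lpn (LP (LK LD1_c25 LD2_c50 LD3_c12))))))
theorem f227144 : Led Lsl_dt (LP (LK LD1_c25 LD2_c5 LD3_c9)) = (LP (LK LD1_c15 LD2_c15 LD3_c41)) :=
  Lre_d IH (LK LD1_c25 LD2_c5 LD3_c9) (LK LD1_c15 LD2_c15 LD3_c41) Lrfl Lrfl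
theorem f389185 : Led Lsl_df (LP (LK LD1_c20 LD2_c4 LD3_c20)) = (LP (LK LD1_c19 LD2_c49 LD3_c12)) :=
  Lgr Lrot78 (Lpr_ft (f389181 IH) (Lpr_dt (f227144 IH) (Lpe (K30.f388621 IH) (Lpn (LP (LK LD1_c19 LD2_c49 LD3_c12))))))
theorem f196456 : Led Lsl_dt (LP (LK LD1_c8 LD2_c9 LD3_c13)) = (LP (LK LD1_c15 LD2_c21 LD3_c21)) :=
  Lre_d IH (LK LD1_c8 LD2_c9 LD3_c13) (LK LD1_c15 LD2_c21 LD3_c21) Lrfl Lrfl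
theorem f196460 : Led Lsl_ct (LP (LK LD1_c15 LD2_c20 LD3_c6)) = (LP (LK LD1_c15 LD2_c21 LD3_c3)) :=
  Lre_c IH (LK LD1_c15 LD2_c20 LD3_c6) (LK LD1_c15 LD2_c21 LD3_c3) Lrfl Lrfl
theorem f390084 : Led Lsl_gf (LP (LK LD1_c19 LD2_c49 LD3_c12)) = (LP (LK LD1_c15 LD2_c20 LD3_c6)) :=
  Lgr Lrot144 (Lpe (f389185 IH) (Lpr_gt (f389187 IH) (Lpe (f388768 IH) (Lpr_cf (f225267 IH) (Lpe (f225323 IH) (Lpr_gf (f390072 IH) (Lpe (f196456 IH) (Lpe (K13.f196455 IH) (Lpe (f196460 IH) (Lpn (LP (LK LD1_c15 LD2_c20 LD3_c6))))))))))))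
theorem f213428 : Led Lsl_gf (LP (LK LD1_c9 LD2_c51 LD3_c36)) = (LP (LK LD1_c11 LD2_c2 LD3_c37)) :=
  Lgr Lrot47 (Lpr_gt (K30.f54225 IH) (Lpe (K16.f53672 IH) (Lpr_ff (K16.f213416 IH) (Lpn (LP (LK LD1_c11 LD2_c2 LD3_c37))))))
theorem f212917 : Led Lsl_bt (LP (LK LD1_c11 LD2_c2 LD3_c38)) = (LP (LK LD1_c5 LD2_c35 LD3_c16)) :=
  Lre_b IH (LK LD1_c11 LD2_c2 LD3_c38) (LK LD1_c5 LD2_c35 LD3_c16) Lrfl Lrfl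
theorem f213075 : Led Lsl_bt (LP (LK LD1_c5 LD2_c32 LD3_c16)) = (LP (LK LD1_c10 LD2_c56 LD3_c11)) :=
  Lre_b IH (LK LD1_c5 LD2_c32 LD3_c16) (LK LD1_c10 LD2_c56 LD3_c11) Lrfl Lrfl
theorem f213105 : Led Lsl_cf (LP (LK LD1_c11 LD2_c2 LD3_c38)) = (LP (LK LD1_c10 LD2_c56 LD3_c11)) :=
  Lgr Lrot97 (Lpr_bt (f212917 IH) (Lpr_ct (K26.f212878 IH) (Lpr_bt (K20.f212897 IH) (Lpr_ct (K23.f213062 IH) (Lpr_bt (f213075 IH) (Lpn (LP (LK LD1_c10 LD2_c56 LD3_c11))))))))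
theorem f213109 : Led Lsl_et (LP (LK LD1_c11 LD2_c2 LD3_c38)) = (LP (LK LD1_c5 LD2_c35 LD3_c14)) :=
  Lre_e IH (LK LD1_c11 LD2_c2 LD3_c38) (LK LD1_c5 LD2_c35 LD3_c14) Lrfl Lrfl
theorem f213104 : Led Lsl_et (LP (LK LD1_c5 LD2_c32 LD3_c15)) = (LP (LK LD1_c10 LD2_c56 LD3_c11)) :=
  Lre_e IH (LK LD1_c5 LD2_c32 LD3_c15) (LK LD1_c10 LD2_c56 LD3_c11) Lrfl Lrfl
theorem f213110 : Led Lsl_ct (LP (LK LD1_c5 LD2_c35 LD3_c14)) = (LP (LK LD1_c5 LD2_c32 LD3_c15)) :=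
  Lgr Lrot15 (Lpe (f213109 IH) (Lpr_cf (f213105 IH) (Lpe (f213104 IH) (Lpn (LP (LK LD1_c5 LD2_c32 LD3_c15))))))
theorem f213116 : Led Lsl_at (LP (LK LD1_c5 LD2_c32 LD3_c15)) = (LP (LK LD1_c10 LD2_c56 LD3_c10)) :=
  Lre_a IH (LK LD1_c5 LD2_c32 LD3_c15) (LK LD1_c10 LD2_c56 LD3_c10) Lrfl Lrfl
theorem f213117 : Led Lsl_cf (LP (LK LD1_c11 LD2_c2 LD3_c37)) = (LP (LK LD1_c10 LD2_c56 LD3_c10)) :=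
  Lgr Lrot1 (Lpr_at (K16.f213115 IH) (Lpr_ct (f213110 IH) (Lpr_at (f213116 IH) (Lpn (LP (LK LD1_c10 LD2_c56 LD3_c10))))))
theorem f234988 : Led Lsl_bt (LP (LK LD1_c4 LD2_c29 LD3_c25)) = (LP (LK LD1_c8 LD2_c57 LD3_c1)) :=
  Lre_b IH (LK LD1_c4 LD2_c29 LD3_c25) (LK LD1_c8 LD2_c57 LD3_c1) Lrfl Lrfl
theorem f234989 : Led Lsl_ff (LP (LK LD1_c5 LD2_c32 LD3_c15)) = (LP (LK LD1_c8 LD2_c57 LD3_c1)) :=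
  Lgr Lrot25 (Lpr_bt (K16.f196402 IH) (Lpr_ft (K15.f234984 IH) (Lpr_bt (f234988 IH) (Lpn (LP (LK LD1_c8 LD2_c57 LD3_c1))))))
theorem f235007 : Led Lsl_gt (LP (LK LD1_c8 LD2_c57 LD3_c1)) = (LP (LK LD1_c16 LD2_c45 LD3_c27)) :=
  Lre_g IH (LK LD1_c8 LD2_c57 LD3_c1) (LK LD1_c16 LD2_c45 LD3_c27) Lrfl Lrfl
theorem f235099 : Led Lsl_gf (LP (LK LD1_c10 LD2_c56 LD3_c10)) = (LP (LK LD1_c16 LD2_c45 LD3_c27)) :=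
  Lgr Lrot76 (Lpe (f213116 IH) (Lpr_ff (f234989 IH) (Lpr_gt (f235007 IH) (Lpn (LP (LK LD1_c16 LD2_c45 LD3_c27))))))
theorem f235088 : Led Lsl_bt (LP (LK LD1_c26 LD2_c44 LD3_c17)) = (LP (LK LD1_c16 LD2_c45 LD3_c27)) :=
  Lre_b IH (LK LD1_c26 LD2_c44 LD3_c17) (LK LD1_c16 LD2_c45 LD3_c27) Lrfl Lrfl
theorem f217378 : Led Lsl_ff (LP (LK LD1_c17 LD2_c50 LD3_c40)) = (LP (LK LD1_c18 LD2_c50 LD3_c59)) :=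
  Lgr Lrot25 (Lpr_bt (K27.f217363 IH) (Lpr_ft (K18.f52456 IH) (Lpr_bt (K22.f50643 IH) (Lpn (LP (LK LD1_c18 LD2_c50 LD3_c59))))))
theorem f49400 : Led Lsl_ct (LP (LK LD1_c10 LD2_c23 LD3_c31)) = (LP (LK LD1_c18 LD2_c50 LD3_c59)) :=
  Lre_c IH (LK LD1_c10 LD2_c23 LD3_c31) (LK LD1_c18 LD2_c50 LD3_c59) Lrfl Lrfl
theorem f217381 : Led Lsl_ct (LP (LK LD1_c17 LD2_c50 LD3_c40)) = (LP (LK LD1_c10 LD2_c49 LD3_c57)) :=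
  Lgr Lrot40 (Lpr_ff (f217378 IH) (Lpe (f49400 IH) (Lpr_ff (K27.f217230 IH) (Lpn (LP (LK LD1_c10 LD2_c49 LD3_c57))))))
theorem f217394 : Led Lsl_cf (LP (LK LD1_c9 LD2_c42 LD3_c6)) = (LP (LK LD1_c5 LD2_c29 LD3_c18)) :=
  Lgr Lrot1 (Lpr_at (K27.f217336 IH) (Lpr_ct (f217381 IH) (Lpr_at (K12.f217245 IH) (Lpn (LP (LK LD1_c5 LD2_c29 LD3_c18))))))
theorem f217385 : Led Lsl_gt (LP (LK LD1_c17 LD2_c50 LD3_c39)) = (LP (LK LD1_c9 LD2_c42 LD3_c6)) :=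
  Lre_g IH (LK LD1_c17 LD2_c50 LD3_c39) (LK LD1_c9 LD2_c42 LD3_c6) Lrfl Lrfl
theorem f235089 : Led Lsl_cf (LP (LK LD1_c17 LD2_c50 LD3_c39)) = (LP (LK LD1_c26 LD2_c44 LD3_c17)) :=
  Lgr Lrot160 (Lpr_gt (f217385 IH) (Lpr_cf (f217394 IH) (Lpr_bt (K12.f216879 IH) (Lpr_gt (K14.f216895 IH) (Lpe (K14.f232151 IH) (Lpr_gt (K13.f48171 IH) (Lpr_cf (K15.f234991 IH) (Lpr_bt (f234988 IH) (Lpr_gt (f235007 IH) (Lpe (f235088 IH) (Lpn (LP (LK LD1_c26 LD2_c44 LD3_c17)))))))))))))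
theorem f217380 : Led Lsl_at (LP (LK LD1_c17 LD2_c50 LD3_c40)) = (LP (LK LD1_c9 LD2_c42 LD3_c6)) :=
  Lre_a IH (LK LD1_c17 LD2_c50 LD3_c40) (LK LD1_c9 LD2_c42 LD3_c6) Lrfl Lrfl
theorem f217386 : Led Lsl_gf (LP (LK LD1_c17 LD2_c50 LD3_c39)) = (LP (LK LD1_c18 LD2_c50 LD3_c59)) :=
  Lgr Lrot47 (Lpr_gt (f217385 IH) (Lpe (f217380 IH) (Lpr_ff (f217378 IH) (Lpn (LP (LK LD1_c18 LD2_c50 LD3_c59))))))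
theorem f389079 : Led Lsl_gt (LP (LK LD1_c15 LD2_c15 LD3_c44)) = (LP (LK LD1_c8 LD2_c6 LD3_c22)) :=
  Lgr Lrot164 (Lpr_bf (f389075 IH) (Lpr_ct (K30.f213431 IH) (Lpr_gf (f213428 IH) (Lpr_cf (f213117 IH) (Lpr_gf (f235099 IH) (Lpe (f235088 IH) (Lpe (f235089 IH) (Lpr_gf (f217386 IH) (Lpe (f49400 IH) (Lpe (K27.f50158 IH) (Lpn (LP (LK LD1_c8 LD2_c6 LD3_c22)))))))))))))
theorem f50660 : Led Lsl_ct (LP (LK LD1_c4 LD2_c4 LD3_c13)) = (LP (LK LD1_c8 LD2_c6 LD3_c22)) :=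
  Lre_c IH (LK LD1_c4 LD2_c4 LD3_c13) (LK LD1_c8 LD2_c6 LD3_c22) Lrfl Lrfl
theorem f196461 : Led Lsl_bt (LP (LK LD1_c8 LD2_c8 LD3_c41)) = (LP (LK LD1_c15 LD2_c20 LD3_c6)) :=
  Lre_b IH (LK LD1_c8 LD2_c8 LD3_c41) (LK LD1_c15 LD2_c20 LD3_c6) Lrfl Lrfl
theorem f390092 : Led Lsl_gt (LP (LK LD1_c25 LD2_c11 LD3_c18)) = (LP (LK LD1_c15 LD2_c20 LD3_c7)) :=
  Lgr Lrot65 (Lpe (K20.f53037 IH) (Lpr_bt (K20.f52475 IH) (Lpr_gf (f52464 IH) (Lpe (K18.f50657 IH) (Lpr_ct (f50660 IH) (Lpe (f389079 IH) (Lpe (K30.f388626 IH) (Lpr_gf (f390084 IH) (Lpe (f196461 IH) (Lpr_ct (K13.f196442 IH) (Lpn (LP (LK LD1_c15 LD2_c20 LD3_c7)))))))))))))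
theorem f41177 : Led Lsl_gt (LP (LK LD1_c4 LD2_c54 LD3_c39)) = (LP (LK LD1_c9 LD2_c40 LD3_c54)) :=
  Lre_g IH (LK LD1_c4 LD2_c54 LD3_c39) (LK LD1_c9 LD2_c40 LD3_c54) Lrfl Lrfl
theorem f41194 : Led Lsl_ct (LP (LK LD1_c17 LD2_c48 LD3_c34)) = (LP (LK LD1_c9 LD2_c40 LD3_c54)) :=
  Lre_c IH (LK LD1_c17 LD2_c48 LD3_c34) (LK LD1_c9 LD2_c40 LD3_c54) Lrfl Lrfl
theorem f390095 : Led Lsl_bf (LP (LK LD1_c25 LD2_c11 LD3_c18)) = (LP (LK LD1_c17 LD2_c48 LD3_c34)) :=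
  Lgr Lrot165 (Lpr_gt (f390092 IH) (Lpr_ct (K13.f196436 IH) (Lpr_gt (K13.f196435 IH) (Lpe (K13.f196425 IH) (Lpr_bt (K13.f196424 IH) (Lpr_gt (K12.f196420 IH) (Lpe (K1.f41190 IH) (Lpr_ct (K1.f41145 IH) (Lpr_gt (f41177 IH) (Lpe (f41194 IH) (Lpn (LP (LK LD1_c17 LD2_c48 LD3_c34)))))))))))))
theorem f390099 : Led Lsl_cf (LP (LK LD1_c5 LD2_c33 LD3_c55)) = (LP (LK LD1_c7 LD2_c58 LD3_c33)) :=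
  Lgr Lrot125 (Lpr_gt (K30.f387618 IH) (Lpe (K20.f318413 IH) (Lpr_bt (K20.f318393 IH) (Lpr_gt (K20.f53036 IH) (Lpr_bf (f390095 IH) (Lpr_ct (f41194 IH) (Lpr_gt (f173801 IH) (Lpr_cf (K12.f173786 IH) (Lpr_bt (K12.f173775 IH) (Lpe (K27.f173912 IH) (Lpn (LP (LK LD1_c7 LD2_c58 LD3_c33)))))))))))))
theorem f54901 : Led Lsl_dt (LP (LK LD1_c7 LD2_c58 LD3_c32)) = (LP (LK LD1_c15 LD2_c2 LD3_c50)) :=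
  Lre_d IH (LK LD1_c7 LD2_c58 LD3_c32) (LK LD1_c15 LD2_c2 LD3_c50) Lrfl Lrfl
theorem f380893 : Led Lsl_gt (LP (LK LD1_c7 LD2_c58 LD3_c56)) = (LP (LK LD1_c10 LD2_c55 LD3_c21)) :=
  Lgr Lrot49 (Lpe (K17.f54799 IH) (Lpe (K17.f54798 IH) (Lpe (K16.f54885 IH) (Lpr_gt (K12.f54900 IH) (Lpr_dt (f54901 IH) (Lpr_gt (K30.f380890 IH) (Lpr_dt (K30.f178922 IH) (Lpe (K30.f178933 IH) (Lpr_df (K30.f178924 IH) (Lpn (LP (LK LD1_c10 LD2_c55 LD3_c21))))))))))))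
theorem f178923 : Led Lsl_ct (LP (LK LD1_c10 LD2_c55 LD3_c21)) = (LP (LK LD1_c19 LD2_c43 LD3_c52)) :=
  Lre_c IH (LK LD1_c10 LD2_c55 LD3_c21) (LK LD1_c19 LD2_c43 LD3_c52) Lrfl Lrfl
theorem f289519 : Led Lsl_at (LP (LK LD1_c19 LD2_c32 LD3_c54)) = (LP (LK LD1_c10 LD2_c48 LD3_c50)) :=
  Lre_a IH (LK LD1_c19 LD2_c32 LD3_c54) (LK LD1_c10 LD2_c48 LD3_c50) Lrfl Lrfl
theorem f178928 : Led Lsl_at (LP (LK LD1_c10 LD2_c55 LD3_c22)) = (LP (LK LD1_c19 LD2_c43 LD3_c52)) :=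
  Lre_a IH (LK LD1_c10 LD2_c55 LD3_c22) (LK LD1_c19 LD2_c43 LD3_c52) Lrfl Lrfl
theorem f289520 : Led Lsl_ff (LP (LK LD1_c19 LD2_c32 LD3_c54)) = (LP (LK LD1_c19 LD2_c43 LD3_c52)) :=
  Lgr Lrot30 (Lpr_at (f289519 IH) (Lpr_ft (K20.f289515 IH) (Lpr_at (f178928 IH) (Lpn (LP (LK LD1_c19 LD2_c43 LD3_c52))))))
theorem f165025 : Led Lsl_gt (LP (LK LD1_c19 LD2_c33 LD3_c7)) = (LP (LK LD1_c10 LD2_c48 LD3_c50)) :=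
  Lre_g IH (LK LD1_c19 LD2_c33 LD3_c7) (LK LD1_c10 LD2_c48 LD3_c50) Lrfl Lrfl
theorem f289572 : Led Lsl_gf (LP (LK LD1_c19 LD2_c33 LD3_c7)) = (LP (LK LD1_c19 LD2_c43 LD3_c52)) :=
  Lgr Lrot47 (Lpr_gt (f165025 IH) (Lpe (f289519 IH) (Lpr_ff (f289520 IH) (Lpn (LP (LK LD1_c19 LD2_c43 LD3_c52))))))
theorem f390112 : Led Lsl_cf (LP (LK LD1_c10 LD2_c59 LD3_c48)) = (LP (LK LD1_c19 LD2_c33 LD3_c7)) :=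
  Lgr Lrot99 (Lpe (K30.f387622 IH) (Lpr_cf (f390099 IH) (Lpr_gf (K27.f173912 IH) (Lpe (K27.f173636 IH) (Lpe (K30.f173629 IH) (Lpe (K20.f173634 IH) (Lpr_gt (f380893 IH) (Lpr_ct (f178923 IH) (Lpe (f289572 IH) (Lpn (LP (LK LD1_c19 LD2_c33 LD3_c7))))))))))))
theorem f390118 : Led Lsl_ft (LP (LK LD1_c10 LD2_c59 LD3_c48)) = (LP (LK LD1_c5 LD2_c33 LD3_c53)) :=
  Lre_f IH (LK LD1_c10 LD2_c59 LD3_c48) (LK LD1_c5 LD2_c33 LD3_c53) Lrfl Lrfl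
theorem f390119 : Led Lsl_ft (LP (LK LD1_c10 LD2_c59 LD3_c46)) = (LP (LK LD1_c19 LD2_c33 LD3_c7)) :=
  Lgr Lrot4 (Lpe (K20.f226180 IH) (Lpe (f390118 IH) (Lpr_cf (f390112 IH) (Lpn (LP (LK LD1_c19 LD2_c33 LD3_c7))))))
theorem f390123 : Led Lsl_ff (LP (LK LD1_c10 LD2_c59 LD3_c46)) = (LP (LK LD1_c19 LD2_c33 LD3_c7)) :=
  Lgr Lrot3 (Lpr_ft (f390119 IH) (Lpn (LP (LK LD1_c19 LD2_c33 LD3_c7))))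
theorem f219558 : Led Lsl_dt (LP (LK LD1_c8 LD2_c23 LD3_c61)) = (LP (LK LD1_c15 LD2_c47 LD3_c39)) :=
  Lre_d IH (LK LD1_c8 LD2_c23 LD3_c61) (LK LD1_c15 LD2_c47 LD3_c39) Lrfl Lrfl
theorem f319021 : Led Lsl_dt (LP (LK LD1_c15 LD2_c3 LD3_c32)) = (LP (LK LD1_c8 LD2_c22 LD3_c37)) :=
  Lgr Lrot173 (Lpe (K17.f171760 IH) (Lpe (K17.f54799 IH) (Lpe (K30.f173635 IH) (Lpe (K20.f318488 IH) (Lpe (K20.f318510 IH) (Lpe (K30.f318566 IH) (Lpr_cf (K30.f318854 IH) (Lpr_df (K30.f318876 IH) (Lpe (K30.f174023 IH) (Lpe (K20.f174022 IH) (Lpe (K16.f174029 IH) (Lpe (K20.f174027 IH) (Lpr_cf (K20.f275498 IH) (Lpe (f219558 IH) (Lpr_cf (K20.f319013 IH) (Lpn (LP (LK LD1_c8 LD2_c22 LD3_c37))))))))))))))))))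
theorem f319019 : Led Lsl_ct (LP (LK LD1_c8 LD2_c23 LD3_c61)) = (LP (LK LD1_c8 LD2_c22 LD3_c37)) :=
  Lgr Lrot59 (Lpr_cf (K20.f319013 IH) (Lpn (LP (LK LD1_c8 LD2_c22 LD3_c37))))
theorem f381104 : Led Lsl_dt (LP (LK LD1_c15 LD2_c46 LD3_c14)) = (LP (LK LD1_c19 LD2_c33 LD3_c7)) :=
  Lgr Lrot6 (Lpr_gt (K20.f270627 IH) (Lpe (K20.f318965 IH) (Lpr_gt (K20.f219568 IH) (Lpr_ct (f319019 IH) (Lpe (f319021 IH) (Lpe (K17.f171760 IH) (Lpr_gf (K27.f380873 IH) (Lpe (K30.f165022 IH) (Lpe (f165025 IH) (Lpn (LP (LK LD1_c19 LD2_c33 LD3_c7))))))))))))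
theorem f390349 : Led Lsl_ft (LP (LK LD1_c16 LD2_c5 LD3_c51)) = (LP (LK LD1_c15 LD2_c46 LD3_c14)) :=
  Lgr Lrot54 (Lpr_df (K20.f318726 IH) (Lpr_ff (f390123 IH) (Lpe (f381104 IH) (Lpn (LP (LK LD1_c15 LD2_c46 LD3_c14))))))
theorem f140447 : Led Lsl_gt (LP (LK LD1_c9 LD2_c46 LD3_c0)) = (LP (LK LD1_c17 LD2_c55 LD3_c45)) :=
  Lre_g IH (LK LD1_c9 LD2_c46 LD3_c0) (LK LD1_c17 LD2_c55 LD3_c45) Lrfl Lrfl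
theorem f390353 : Led Lsl_af (LP (LK LD1_c17 LD2_c55 LD3_c45)) = (LP (LK LD1_c15 LD2_c46 LD3_c14)) :=
  Lgr Lrot31 (Lpe (f140447 IH) (Lpe (K20.f318722 IH) (Lpr_ft (f390349 IH) (Lpn (LP (LK LD1_c15 LD2_c46 LD3_c14))))))
theorem f200574 : Led Lsl_bf (LP (LK LD1_c15 LD2_c3 LD3_c32)) = (LP (LK LD1_c8 LD2_c21 LD3_c29)) :=
  Lgr Lrot24 (Lpr_bt (K17.f200395 IH) (Lpn (LP (LK LD1_c8 LD2_c21 LD3_c29))))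
theorem f290295 : Led Lsl_ff (LP (LK LD1_c16 LD2_c3 LD3_c16)) = (LP (LK LD1_c15 LD2_c3 LD3_c32)) :=
  Lgr Lrot25 (Lpr_bt (K17.f167770 IH) (Lpr_ft (K17.f290293 IH) (Lpe (f200574 IH) (Lpn (LP (LK LD1_c15 LD2_c3 LD3_c32))))))
theorem f319033 : Led Lsl_df (LP (LK LD1_c15 LD2_c3 LD3_c32)) = (LP (LK LD1_c8 LD2_c22 LD3_c37)) :=
  Lgr Lrot78 (Lpe (f290295 IH) (Lpe (K20.f287761 IH) (Lpr_ft (K20.f319026 IH) (Lpn (LP (LK LD1_c8 LD2_c22 LD3_c37))))))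
theorem f381106 : Led Lsl_df (LP (LK LD1_c15 LD2_c46 LD3_c14)) = (LP (LK LD1_c19 LD2_c33 LD3_c7)) :=
  Lgr Lrot155 (Lpr_gt (K20.f270627 IH) (Lpe (K20.f318965 IH) (Lpr_gt (K20.f219568 IH) (Lpr_ct (f319019 IH) (Lpe (f319033 IH) (Lpe (K17.f171760 IH) (Lpr_gf (K27.f380873 IH) (Lpe (K30.f165022 IH) (Lpe (f165025 IH) (Lpn (LP (LK LD1_c19 LD2_c33 LD3_c7))))))))))))
theorem f281671 : Led Lsl_gt (LP (LK LD1_c10 LD2_c55 LD3_c22)) = (LP (LK LD1_c19 LD2_c43 LD3_c53)) :=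
  Lre_g IH (LK LD1_c10 LD2_c55 LD3_c22) (LK LD1_c19 LD2_c43 LD3_c53) Lrfl Lrfl
theorem f390125 : Led Lsl_af (LP (LK LD1_c19 LD2_c43 LD3_c53)) = (LP (LK LD1_c19 LD2_c33 LD3_c7)) :=
  Lgr Lrot31 (Lpe (f281671 IH) (Lpr_gf (K20.f281669 IH) (Lpr_ft (f390119 IH) (Lpn (LP (LK LD1_c19 LD2_c33 LD3_c7))))))
theorem f390127 : Led Lsl_at (LP (LK LD1_c19 LD2_c43 LD3_c53)) = (LP (LK LD1_c19 LD2_c33 LD3_c7)) :=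
  Lgr Lrot100 (Lpr_af (f390125 IH) (Lpn (LP (LK LD1_c19 LD2_c33 LD3_c7))))
theorem f390357 : Led Lsl_dt (LP (LK LD1_c17 LD2_c55 LD3_c45)) = (LP (LK LD1_c19 LD2_c43 LD3_c53)) :=
  Lgr Lrot44 (Lpr_af (f390353 IH) (Lpr_df (f381106 IH) (Lpe (f390127 IH) (Lpn (LP (LK LD1_c19 LD2_c43 LD3_c53))))))
theorem f173663 : Led Lsl_gt (LP (LK LD1_c9 LD2_c45 LD3_c60)) = (LP (LK LD1_c4 LD2_c57 LD3_c35)) :=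
  Lre_g IH (LK LD1_c9 LD2_c45 LD3_c60) (LK LD1_c4 LD2_c57 LD3_c35) Lrfl Lrfl
theorem f175087 : Led Lsl_bt (LP (LK LD1_c5 LD2_c34 LD3_c23)) = (LP (LK LD1_c2 LD2_c43 LD3_c9)) :=
  Lre_b IH (LK LD1_c5 LD2_c34 LD3_c23) (LK LD1_c2 LD2_c43 LD3_c9) Lrfl Lrfl
theorem f175088 : Led Lsl_ct (LP (LK LD1_c5 LD2_c34 LD3_c23)) = (LP (LK LD1_c9 LD2_c45 LD3_c60)) :=
  Lgr Lrot64 (Lpr_bt (f175087 IH) (Lpe (K30.f173020 IH) (Lpe (K30.f172866 IH) (Lpr_ct (K9.f168296 IH) (Lpe (K9.f172555 IH) (Lpr_cf (K9.f174970 IH) (Lpe (K9.f175085 IH) (Lpe (K9.f40980 IH) (Lpr_ct (K9.f140366 IH) (Lpe (f173663 IH) (Lpn (LP (LK LD1_c9 LD2_c45 LD3_c60)))))))))))))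
theorem f289527 : Led Lsl_gt (LP (LK LD1_c10 LD2_c48 LD3_c50)) = (LP (LK LD1_c19 LD2_c33 LD3_c6)) :=
  Lre_g IH (LK LD1_c10 LD2_c48 LD3_c50) (LK LD1_c19 LD2_c33 LD3_c6) Lrfl Lrfl
theorem f289528 : Led Lsl_gt (LP (LK LD1_c19 LD2_c33 LD3_c6)) = (LP (LK LD1_c19 LD2_c43 LD3_c52)) :=
  Lgr Lrot46 (Lpe (f289527 IH) (Lpr_ft (K20.f289515 IH) (Lpr_at (f178928 IH) (Lpn (LP (LK LD1_c19 LD2_c43 LD3_c52))))))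
theorem f390129 : Led Lsl_ff (LP (LK LD1_c19 LD2_c43 LD3_c53)) = (LP (LK LD1_c19 LD2_c33 LD3_c6)) :=
  Lgr Lrot52 (Lpr_at (f390127 IH) (Lpr_gf (f289572 IH) (Lpe (f289528 IH) (Lpn (LP (LK LD1_c19 LD2_c33 LD3_c6))))))
theorem f390133 : Led Lsl_ft (LP (LK LD1_c19 LD2_c43 LD3_c53)) = (LP (LK LD1_c19 LD2_c33 LD3_c6)) :=
  Lgr Lrot48 (Lpr_ff (f390129 IH) (Lpn (LP (LK LD1_c19 LD2_c33 LD3_c6))))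
theorem f390135 : Led Lsl_af (LP (LK LD1_c10 LD2_c59 LD3_c46)) = (LP (LK LD1_c19 LD2_c33 LD3_c6)) :=
  Lgr Lrot45 (Lpr_ft (f390119 IH) (Lpe (f390125 IH) (Lpr_ft (f390133 IH) (Lpn (LP (LK LD1_c19 LD2_c33 LD3_c6))))))
theorem f390137 : Led Lsl_at (LP (LK LD1_c5 LD2_c33 LD3_c53)) = (LP (LK LD1_c10 LD2_c59 LD3_c40)) :=
  Lre_a IH (LK LD1_c5 LD2_c33 LD3_c53) (LK LD1_c10 LD2_c59 LD3_c40) Lrfl Lrfl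
theorem f390138 : Led Lsl_ct (LP (LK LD1_c10 LD2_c59 LD3_c40)) = (LP (LK LD1_c19 LD2_c33 LD3_c6)) :=
  Lgr Lrot111 (Lpe (f390137 IH) (Lpe (K20.f174083 IH) (Lpr_af (f390135 IH) (Lpn (LP (LK LD1_c19 LD2_c33 LD3_c6))))))
theorem f178929 : Led Lsl_ct (LP (LK LD1_c19 LD2_c43 LD3_c52)) = (LP (LK LD1_c10 LD2_c55 LD3_c21)) :=
  Lre_c IH (LK LD1_c19 LD2_c43 LD3_c52) (LK LD1_c10 LD2_c55 LD3_c21) Lrfl Lrfl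
theorem f178137 : Led Lsl_dt (LP (LK LD1_c11 LD2_c10 LD3_c1)) = (LP (LK LD1_c5 LD2_c39 LD3_c27)) :=
  Lre_d IH (LK LD1_c11 LD2_c10 LD3_c1) (LK LD1_c5 LD2_c39 LD3_c27) Lrfl Lrfl
theorem f390161 : Led Lsl_gf (LP (LK LD1_c10 LD2_c59 LD3_c40)) = (LP (LK LD1_c11 LD2_c10 LD3_c1)) :=
  Lgr Lrot147 (Lpr_ct (f390138 IH) (Lpr_gt (f289528 IH) (Lpr_ct (f178929 IH) (Lpe (K30.f178908 IH) (Lpe (K30.f178921 IH) (Lpe (K30.f253811 IH) (Lpr_cf (f389107 IH) (Lpe (f178134 IH) (Lpe (f178137 IH) (Lpn (LP (LK LD1_c11 LD2_c10 LD3_c1))))))))))))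
theorem f387611 : Led Lsl_cf (LP (LK LD1_c5 LD2_c33 LD3_c51)) = (LP (LK LD1_c7 LD2_c58 LD3_c32)) :=
  Lgr Lrot11 (Lpr_ct (K30.f387605 IH) (Lpn (LP (LK LD1_c7 LD2_c58 LD3_c32))))
theorem f267740 : Led Lsl_gt (LP (LK LD1_c10 LD2_c48 LD3_c47)) = (LP (LK LD1_c5 LD2_c28 LD3_c50)) :=
  Lre_g IH (LK LD1_c10 LD2_c48 LD3_c47) (LK LD1_c5 LD2_c28 LD3_c50) Lrfl Lrfl
theorem f267732 : Led Lsl_bt (LP (LK LD1_c1 LD2_c16 LD3_c61)) = (LP (LK LD1_c2 LD2_c40 LD3_c38)) :=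
  Lre_b IH (LK LD1_c1 LD2_c16 LD3_c61) (LK LD1_c2 LD2_c40 LD3_c38) Lrfl Lrfl
theorem f267739 : Led Lsl_bt (LP (LK LD1_c10 LD2_c48 LD3_c22)) = (LP (LK LD1_c5 LD2_c28 LD3_c39)) :=
  Lre_b IH (LK LD1_c10 LD2_c48 LD3_c22) (LK LD1_c5 LD2_c28 LD3_c39) Lrfl Lrfl
theorem f253734 : Led Lsl_bt (LP (LK LD1_c2 LD2_c40 LD3_c41)) = (LP (LK LD1_c1 LD2_c17 LD3_c1)) :=
  Lre_b IH (LK LD1_c2 LD2_c40 LD3_c41) (LK LD1_c1 LD2_c17 LD3_c1) Lrfl Lrfl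
theorem f267741 : Led Lsl_ct (LP (LK LD1_c10 LD2_c48 LD3_c22)) = (LP (LK LD1_c10 LD2_c48 LD3_c47)) :=
  Lgr Lrot64 (Lpr_bt (f267739 IH) (Lpe (K30.f267733 IH) (Lpe (f267732 IH) (Lpr_ct (K12.f172408 IH) (Lpr_gf (K15.f267724 IH) (Lpe (K12.f168180 IH) (Lpr_gf (K12.f226771 IH) (Lpe (f253734 IH) (Lpr_ct (K14.f226763 IH) (Lpe (f267740 IH) (Lpn (LP (LK LD1_c10 LD2_c48 LD3_c47)))))))))))))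
theorem f390321 : Led Lsl_gt (LP (LK LD1_c10 LD2_c48 LD3_c22)) = (LP (LK LD1_c5 LD2_c39 LD3_c27)) :=
  Lgr Lrot180 (Lpr_ct (f267741 IH) (Lpr_gt (f267740 IH) (Lpr_dt (K19.f253813 IH) (Lpe (K30.f380888 IH) (Lpr_dt (K30.f173900 IH) (Lpe (f387611 IH) (Lpe (K30.f387596 IH) (Lpr_gf (f390161 IH) (Lpe (K20.f178135 IH) (Lpn (LP (LK LD1_c5 LD2_c39 LD3_c27))))))))))))
theorem f277339 : Led Lsl_bt (LP (LK LD1_c5 LD2_c28 LD3_c39)) = (LP (LK LD1_c10 LD2_c48 LD3_c22)) :=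
  Lre_b IH (LK LD1_c5 LD2_c28 LD3_c39) (LK LD1_c10 LD2_c48 LD3_c22) Lrfl Lrfl
theorem f277342 : Led Lsl_dt (LP (LK LD1_c10 LD2_c48 LD3_c22)) = (LP (LK LD1_c5 LD2_c34 LD3_c23)) :=
  Lgr Lrot79 (Lpe (f277339 IH) (Lpr_df (K30.f277332 IH) (Lpe (f175087 IH) (Lpn (LP (LK LD1_c5 LD2_c34 LD3_c23))))))
theorem f266257 : Led Lsl_bf (LP (LK LD1_c3 LD2_c57 LD3_c11)) = (LP (LK LD1_c1 LD2_c58 LD3_c23)) :=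
  Lgr Lrot34 (Lpr_gf (K15.f266247 IH) (Lpr_bf (K10.f53821 IH) (Lpr_ct (K15.f33451 IH) (Lpr_gf (K13.f243582 IH) (Lpe (K13.f53437 IH) (Lpe (K12.f1380 IH) (Lpe (K12.f51437 IH) (Lpe (K12.f216828 IH) (Lpe (K12.f220598 IH) (Lpe (K12.f219930 IH) (Lpn (LP (LK LD1_c1 LD2_c58 LD3_c23)))))))))))))
theorem f319018 : Led Lsl_bt (LP (LK LD1_c4 LD2_c11 LD3_c27)) = (LP (LK LD1_c8 LD2_c22 LD3_c37)) :=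
  Lre_b IH (LK LD1_c4 LD2_c11 LD3_c27) (LK LD1_c8 LD2_c22 LD3_c37) Lrfl Lrfl
theorem f319028 : Led Lsl_gt (LP (LK LD1_c8 LD2_c22 LD3_c37)) = (LP (LK LD1_c15 LD2_c45 LD3_c45)) :=
  Lre_g IH (LK LD1_c8 LD2_c22 LD3_c37) (LK LD1_c15 LD2_c45 LD3_c45) Lrfl Lrfl
theorem f388034 : Led Lsl_bt (LP (LK LD1_c10 LD2_c58 LD3_c56)) = (LP (LK LD1_c5 LD2_c33 LD3_c30)) :=
  Lre_b IH (LK LD1_c10 LD2_c58 LD3_c56) (LK LD1_c5 LD2_c33 LD3_c30) Lrfl Lrfl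
theorem f318499 : Led Lsl_ct (LP (LK LD1_c19 LD2_c49 LD3_c23)) = (LP (LK LD1_c10 LD2_c58 LD3_c56)) :=
  Lre_c IH (LK LD1_c19 LD2_c49 LD3_c23) (LK LD1_c10 LD2_c58 LD3_c56) Lrfl Lrfl
theorem f388035 : Led Lsl_dt (LP (LK LD1_c15 LD2_c45 LD3_c45)) = (LP (LK LD1_c19 LD2_c49 LD3_c23)) :=
  Lgr Lrot182 (Lpe (f319028 IH) (Lpe (f319018 IH) (Lpe (K15.f256051 IH) (Lpe (K12.f219374 IH) (Lpe (K25.f266245 IH) (Lpr_bf (f266257 IH) (Lpe (K12.f212778 IH) (Lpe (K13.f51400 IH) (Lpe (K13.f233927 IH) (Lpr_bf (K12.f220218 IH) (Lpe (K13.f53055 IH) (Lpe (K13.f243712 IH) (Lpe (K13.f178082 IH) (Lpe (K19.f179421 IH) (Lpe (K22.f178140 IH) (Lpe (K20.f179180 IH) (Lpr_gf (f388029 IH) (Lpe (f388034 IH) (Lpe (f318499 IH) (Lpn (LP (LK LD1_c19 LD2_c49 LD3_c23))))))))))))))))))))))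
theorem f384769 : Led Lsl_dt (LP (LK LD1_c24 LD2_c51 LD3_c55)) = (LP (LK LD1_c15 LD2_c47 LD3_c58)) :=
  Lgr Lrot44 (Lpr_af (K30.f384636 IH) (Lpe (K30.f167208 IH) (Lpe (K30.f167169 IH) (Lpn (LP (LK LD1_c15 LD2_c47 LD3_c58))))))
theorem f167185 : Led Lsl_cf (LP (LK LD1_c15 LD2_c43 LD3_c34)) = (LP (LK LD1_c15 LD2_c47 LD3_c58)) :=
  Lgr Lrot11 (Lpr_ct (K30.f167170 IH) (Lpn (LP (LK LD1_c15 LD2_c47 LD3_c58))))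
theorem f388082 : Led Lsl_gf (LP (LK LD1_c15 LD2_c3 LD3_c42)) = (LP (LK LD1_c19 LD2_c49 LD3_c23)) :=
  Lgr Lrot143 (Lpr_dt (K30.f384667 IH) (Lpr_cf (f167185 IH) (Lpe (f384769 IH) (Lpe (K30.f173894 IH) (Lpe (K20.f275381 IH) (Lpe (K20.f53331 IH) (Lpr_cf (K20.f319013 IH) (Lpr_gt (f319028 IH) (Lpr_dt (f388035 IH) (Lpn (LP (LK LD1_c19 LD2_c49 LD3_c23))))))))))))
theorem f388037 : Led Lsl_ct (LP (LK LD1_c10 LD2_c58 LD3_c56)) = (LP (LK LD1_c19 LD2_c49 LD3_c23)) :=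
  Lre_c IH (LK LD1_c10 LD2_c58 LD3_c56) (LK LD1_c19 LD2_c49 LD3_c23) Lrfl Lrfl
theorem f390338 : Led Lsl_gt (LP (LK LD1_c5 LD2_c34 LD3_c23)) = (LP (LK LD1_c10 LD2_c58 LD3_c56)) :=
  Lgr Lrot9 (Lpe (f277342 IH) (Lpr_gt (f390321 IH) (Lpr_ct (K20.f178124 IH) (Lpe (K30.f244284 IH) (Lpr_ct (K30.f178944 IH) (Lpe (K30.f384650 IH) (Lpe (K30.f140429 IH) (Lpr_gf (f388082 IH) (Lpe (f388037 IH) (Lpn (LP (LK LD1_c10 LD2_c58 LD3_c56))))))))))))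
theorem f238414 : Led Lsl_dt (LP (LK LD1_c10 LD2_c58 LD3_c56)) = (LP (LK LD1_c5 LD2_c33 LD3_c28)) :=
  Lre_d IH (LK LD1_c10 LD2_c58 LD3_c56) (LK LD1_c5 LD2_c33 LD3_c28) Lrfl Lrfl
theorem f238393 : Led Lsl_gt (LP (LK LD1_c5 LD2_c33 LD3_c28)) = (LP (LK LD1_c10 LD2_c58 LD3_c53)) :=
  Lre_g IH (LK LD1_c5 LD2_c33 LD3_c28) (LK LD1_c10 LD2_c58 LD3_c53) Lrfl Lrfl
theorem f238394 : Led Lsl_dt (LP (LK LD1_c10 LD2_c58 LD3_c53)) = (LP (LK LD1_c19 LD2_c49 LD3_c18)) :=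
  Lre_d IH (LK LD1_c10 LD2_c58 LD3_c53) (LK LD1_c19 LD2_c49 LD3_c18) Lrfl Lrfl
theorem f390367 : Led Lsl_cf (LP (LK LD1_c19 LD2_c49 LD3_c18)) = (LP (LK LD1_c19 LD2_c43 LD3_c53)) :=
  Lgr Lrot14 (Lpe (f238394 IH) (Lpe (f238393 IH) (Lpe (f238414 IH) (Lpe (f390338 IH) (Lpr_ct (f175088 IH) (Lpr_gt (f173663 IH) (Lpr_dt (K20.f140353 IH) (Lpr_gt (f140447 IH) (Lpr_dt (f390357 IH) (Lpn (LP (LK LD1_c19 LD2_c43 LD3_c53))))))))))))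
theorem f390344 : Led Lsl_dt (LP (LK LD1_c19 LD2_c49 LD3_c18)) = (LP (LK LD1_c10 LD2_c58 LD3_c53)) :=
  Lre_d IH (LK LD1_c19 LD2_c49 LD3_c18) (LK LD1_c10 LD2_c58 LD3_c53) Lrfl Lrfl
theorem f390375 : Led Lsl_cf (LP (LK LD1_c10 LD2_c58 LD3_c53)) = (LP (LK LD1_c10 LD2_c54 LD3_c38)) :=
  Lgr Lrot99 (Lpe (f390344 IH) (Lpr_cf (f390367 IH) (Lpe (f281671 IH) (Lpe (K20.f178938 IH) (Lpe (K20.f318683 IH) (Lpe (K20.f173714 IH) (Lpr_gt (K20.f173658 IH) (Lpr_ct (K9.f173076 IH) (Lpr_gt (K20.f173835 IH) (Lpn (LP (LK LD1_c10 LD2_c54 LD3_c38))))))))))))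
theorem f167173 : Led Lsl_dt (LP (LK LD1_c15 LD2_c47 LD3_c59)) = (LP (LK LD1_c8 LD2_c24 LD3_c10)) :=
  Lre_d IH (LK LD1_c15 LD2_c47 LD3_c59) (LK LD1_c8 LD2_c24 LD3_c10) Lrfl Lrfl
theorem f277394 : Led Lsl_dt (LP (LK LD1_c19 LD2_c32 LD3_c61)) = (LP (LK LD1_c10 LD2_c48 LD3_c47)) :=
  Lre_d IH (LK LD1_c19 LD2_c32 LD3_c61) (LK LD1_c10 LD2_c48 LD3_c47) Lrfl Lrfl
theorem f384251 : Led Lsl_gf (LP (LK LD1_c19 LD2_c32 LD3_c61)) = (LP (LK LD1_c15 LD2_c2 LD3_c55)) :=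
  Lgr Lrot144 (Lpr_dt (f277394 IH) (Lpr_gt (f267740 IH) (Lpr_dt (K19.f253813 IH) (Lpe (K19.f253849 IH) (Lpr_df (K20.f305158 IH) (Lpe (K20.f166572 IH) (Lpe (f167173 IH) (Lpr_gf (K30.f384226 IH) (Lpe (K20.f42837 IH) (Lpn (LP (LK LD1_c15 LD2_c2 LD3_c55))))))))))))
theorem f175158 : Led Lsl_bt (LP (LK LD1_c2 LD2_c43 LD3_c9)) = (LP (LK LD1_c5 LD2_c34 LD3_c23)) :=
  Lre_b IH (LK LD1_c2 LD2_c43 LD3_c9) (LK LD1_c5 LD2_c34 LD3_c23) Lrfl Lrfl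
theorem f277353 : Led Lsl_df (LP (LK LD1_c10 LD2_c48 LD3_c22)) = (LP (LK LD1_c5 LD2_c34 LD3_c23)) :=
  Lgr Lrot12 (Lpr_bt (f267739 IH) (Lpr_dt (K30.f277345 IH) (Lpr_bt (f175158 IH) (Lpn (LP (LK LD1_c5 LD2_c34 LD3_c23))))))
theorem f174095 : Led Lsl_gt (LP (LK LD1_c5 LD2_c33 LD3_c50)) = (LP (LK LD1_c2 LD2_c42 LD3_c61)) :=
  Lre_g IH (LK LD1_c5 LD2_c33 LD3_c50) (LK LD1_c2 LD2_c42 LD3_c61) Lrfl Lrfl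
theorem f174098 : Led Lsl_dt (LP (LK LD1_c10 LD2_c59 LD3_c39)) = (LP (LK LD1_c5 LD2_c33 LD3_c50)) :=
  Lre_d IH (LK LD1_c10 LD2_c59 LD3_c39) (LK LD1_c5 LD2_c33 LD3_c50) Lrfl Lrfl
theorem f175231 : Led Lsl_gf (LP (LK LD1_c5 LD2_c34 LD3_c23)) = (LP (LK LD1_c10 LD2_c59 LD3_c39)) :=
  Lgr Lrot147 (Lpr_ct (f175088 IH) (Lpr_gt (f173663 IH) (Lpr_ct (K9.f140350 IH) (Lpr_df (K9.f173627 IH) (Lpe (K20.f173649 IH) (Lpe (K9.f174076 IH) (Lpe (K9.f174073 IH) (Lpe (f174095 IH) (Lpe (f174098 IH) (Lpn (LP (LK LD1_c10 LD2_c59 LD3_c39))))))))))))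
theorem f174096 : Led Lsl_dt (LP (LK LD1_c5 LD2_c33 LD3_c50)) = (LP (LK LD1_c10 LD2_c59 LD3_c39)) :=
  Lre_d IH (LK LD1_c5 LD2_c33 LD3_c50) (LK LD1_c10 LD2_c59 LD3_c39) Lrfl Lrfl
theorem f390379 : Led Lsl_gt (LP (LK LD1_c10 LD2_c58 LD3_c53)) = (LP (LK LD1_c5 LD2_c33 LD3_c50)) :=
  Lgr Lrot94 (Lpr_cf (f390375 IH) (Lpe (K20.f174016 IH) (Lpr_dt (K20.f54764 IH) (Lpe (f384251 IH) (Lpr_dt (f277394 IH) (Lpe (f267741 IH) (Lpr_df (f277353 IH) (Lpr_gf (f175231 IH) (Lpe (f174096 IH) (Lpn (LP (LK LD1_c5 LD2_c33 LD3_c50))))))))))))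
theorem f390381 : Led Lsl_at (LP (LK LD1_c5 LD2_c33 LD3_c51)) = (LP (LK LD1_c2 LD2_c42 LD3_c61)) :=
  Lre_a IH (LK LD1_c5 LD2_c33 LD3_c51) (LK LD1_c2 LD2_c42 LD3_c61) Lrfl Lrfl
theorem f390382 : Led Lsl_ft (LP (LK LD1_c10 LD2_c58 LD3_c53)) = (LP (LK LD1_c5 LD2_c33 LD3_c51)) :=
  Lgr Lrot2 (Lpr_gt (f390379 IH) (Lpr_gt (f174095 IH) (Lpe (f390381 IH) (Lpn (LP (LK LD1_c5 LD2_c33 LD3_c51))))))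
theorem f390394 : Led Lsl_ff (LP (LK LD1_c10 LD2_c58 LD3_c53)) = (LP (LK LD1_c5 LD2_c33 LD3_c51)) :=
  Lgr Lrot3 (Lpr_ft (f390382 IH) (Lpn (LP (LK LD1_c5 LD2_c33 LD3_c51))))
theorem f390377 : Led Lsl_ct (LP (LK LD1_c10 LD2_c58 LD3_c53)) = (LP (LK LD1_c10 LD2_c54 LD3_c38)) :=
  Lgr Lrot59 (Lpr_cf (f390375 IH) (Lpn (LP (LK LD1_c10 LD2_c54 LD3_c38))))
theorem f390400 : Led Lsl_ft (LP (LK LD1_c10 LD2_c54 LD3_c38)) = (LP (LK LD1_c7 LD2_c58 LD3_c32)) :=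
  Lgr Lrot4 (Lpe (f390377 IH) (Lpr_ff (f390394 IH) (Lpr_cf (f387611 IH) (Lpn (LP (LK LD1_c7 LD2_c58 LD3_c32))))))
theorem f54443 : Led Lsl_ct (LP (LK LD1_c10 LD2_c19 LD3_c17)) = (LP (LK LD1_c5 LD2_c14 LD3_c60)) :=
  Lre_c IH (LK LD1_c10 LD2_c19 LD3_c17) (LK LD1_c5 LD2_c14 LD3_c60) Lrfl Lrfl
theorem f54438 : Led Lsl_gt (LP (LK LD1_c10 LD2_c19 LD3_c23)) = (LP (LK LD1_c5 LD2_c14 LD3_c60)) :=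
  Lre_g IH (LK LD1_c10 LD2_c19 LD3_c23) (LK LD1_c5 LD2_c14 LD3_c60) Lrfl Lrfl
theorem f189048 : Led Lsl_ct (LP (LK LD1_c18 LD2_c44 LD3_c24)) = (LP (LK LD1_c10 LD2_c19 LD3_c23)) :=
  Lre_c IH (LK LD1_c18 LD2_c44 LD3_c24) (LK LD1_c10 LD2_c19 LD3_c23) Lrfl Lrfl
theorem f278133 : Led Lsl_bt (LP (LK LD1_c18 LD2_c44 LD3_c24)) = (LP (LK LD1_c10 LD2_c54 LD3_c38)) :=
  Lgr Lrot92 (Lpr_ct (f189048 IH) (Lpr_gt (f54438 IH) (Lpe (f54443 IH) (Lpr_bt (K10.f48061 IH) (Lpr_gt (K16.f278129 IH) (Lpr_ct (K13.f41969 IH) (Lpr_gt (K16.f41351 IH) (Lpe (K20.f41079 IH) (Lpr_bt (K30.f173827 IH) (Lpr_gt (K20.f173835 IH) (Lpn (LP (LK LD1_c10 LD2_c54 LD3_c38)))))))))))))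
theorem f223178 : Led Lsl_bt (LP (LK LD1_c7 LD2_c58 LD3_c32)) = (LP (LK LD1_c15 LD2_c2 LD3_c49)) :=
  Lre_b IH (LK LD1_c7 LD2_c58 LD3_c32) (LK LD1_c15 LD2_c2 LD3_c49) Lrfl Lrfl
theorem f390405 : Led Lsl_ff (LP (LK LD1_c18 LD2_c44 LD3_c24)) = (LP (LK LD1_c15 LD2_c2 LD3_c49)) :=
  Lgr Lrot25 (Lpr_bt (f278133 IH) (Lpr_ft (f390400 IH) (Lpr_bt (f223178 IH) (Lpn (LP (LK LD1_c15 LD2_c2 LD3_c49))))))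
theorem f390470 : Led Lsl_ft (LP (LK LD1_c18 LD2_c44 LD3_c24)) = (LP (LK LD1_c15 LD2_c2 LD3_c49)) :=
  Lgr Lrot48 (Lpr_ff (f390405 IH) (Lpn (LP (LK LD1_c15 LD2_c2 LD3_c49))))
theorem f189047 : Led Lsl_ct (LP (LK LD1_c10 LD2_c19 LD3_c23)) = (LP (LK LD1_c18 LD2_c44 LD3_c24)) :=
  Lre_c IH (LK LD1_c10 LD2_c19 LD3_c23) (LK LD1_c18 LD2_c44 LD3_c24) Lrfl Lrfl
theorem f390472 : Led Lsl_ff (LP (LK LD1_c10 LD2_c19 LD3_c23)) = (LP (LK LD1_c16 LD2_c44 LD3_c1)) :=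
  Lgr Lrot23 (Lpr_ct (f189047 IH) (Lpr_ft (f390470 IH) (Lpr_ct (K12.f223173 IH) (Lpn (LP (LK LD1_c16 LD2_c44 LD3_c1))))))
theorem f390476 : Led Lsl_at (LP (LK LD1_c10 LD2_c19 LD3_c23)) = (LP (LK LD1_c16 LD2_c44 LD3_c0)) :=
  Lgr Lrot26 (Lpr_ff (f390472 IH) (Lpr_gt (K12.f189037 IH) (Lpr_gt (K15.f189073 IH) (Lpn (LP (LK LD1_c16 LD2_c44 LD3_c0))))))
theorem f390478 : Led Lsl_af (LP (LK LD1_c10 LD2_c19 LD3_c23)) = (LP (LK LD1_c16 LD2_c44 LD3_c0)) :=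
  Lgr Lrot0 (Lpr_at (f390476 IH) (Lpn (LP (LK LD1_c16 LD2_c44 LD3_c0))))
theorem f33495 : Led Lsl_at (LP (LK LD1_c10 LD2_c19 LD3_c24)) = (LP (LK LD1_c5 LD2_c14 LD3_c60)) :=
  Lre_a IH (LK LD1_c10 LD2_c19 LD3_c24) (LK LD1_c5 LD2_c14 LD3_c60) Lrfl Lrfl
theorem f189042 : Led Lsl_gt (LP (LK LD1_c16 LD2_c44 LD3_c2)) = (LP (LK LD1_c10 LD2_c19 LD3_c23)) :=
  Lgr Lrot5 (Lpr_ft (K15.f189023 IH) (Lpr_at (f33495 IH) (Lpe (f54438 IH) (Lpn (LP (LK LD1_c10 LD2_c19 LD3_c23))))))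
theorem f188931 : Led Lsl_ff (LP (LK LD1_c8 LD2_c56 LD3_c23)) = (LP (LK LD1_c5 LD2_c14 LD3_c60)) :=
  Lgr Lrot25 (Lpr_bt (K12.f188616 IH) (Lpr_ft (K12.f188928 IH) (Lpr_bt (K10.f33461 IH) (Lpn (LP (LK LD1_c5 LD2_c14 LD3_c60))))))
theorem f54434 : Led Lsl_gt (LP (LK LD1_c5 LD2_c14 LD3_c60)) = (LP (LK LD1_c10 LD2_c19 LD3_c22)) :=
  Lre_g IH (LK LD1_c5 LD2_c14 LD3_c60) (LK LD1_c10 LD2_c19 LD3_c22) Lrfl Lrfl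
theorem f189079 : Led Lsl_gf (LP (LK LD1_c16 LD2_c44 LD3_c2)) = (LP (LK LD1_c10 LD2_c19 LD3_c22)) :=
  Lgr Lrot76 (Lpe (f189041 IH) (Lpr_ff (f188931 IH) (Lpr_gt (f54434 IH) (Lpn (LP (LK LD1_c10 LD2_c19 LD3_c22))))))
theorem f390490 : Led Lsl_ft (LP (LK LD1_c10 LD2_c19 LD3_c22)) = (LP (LK LD1_c16 LD2_c44 LD3_c0)) :=
  Lgr Lrot2 (Lpe (f189079 IH) (Lpr_gt (f189042 IH) (Lpr_af (f390478 IH) (Lpn (LP (LK LD1_c16 LD2_c44 LD3_c0))))))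
theorem f189085 : Led Lsl_bt (LP (LK LD1_c18 LD2_c44 LD3_c20)) = (LP (LK LD1_c10 LD2_c19 LD3_c22)) :=
  Lre_b IH (LK LD1_c18 LD2_c44 LD3_c20) (LK LD1_c10 LD2_c19 LD3_c22) Lrfl Lrfl
theorem f224842 : Led Lsl_bf (LP (LK LD1_c19 LD2_c17 LD3_c31)) = (LP (LK LD1_c16 LD2_c44 LD3_c0)) :=
  Lgr Lrot24 (Lpr_bt (K15.f224840 IH) (Lpn (LP (LK LD1_c16 LD2_c44 LD3_c0))))
theorem f390494 : Led Lsl_ff (LP (LK LD1_c18 LD2_c44 LD3_c20)) = (LP (LK LD1_c19 LD2_c17 LD3_c31)) :=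
  Lgr Lrot25 (Lpr_bt (f189085 IH) (Lpr_ft (f390490 IH) (Lpe (f224842 IH) (Lpn (LP (LK LD1_c19 LD2_c17 LD3_c31))))))
theorem f224470 : Led Lsl_ft (LP (LK LD1_c10 LD2_c39 LD3_c3)) = (LP (LK LD1_c19 LD2_c4 LD3_c24)) :=
  Lgr Lrot101 (Lpe (K12.f217897 IH) (Lpr_ff (K12.f224465 IH) (Lpe (K15.f224446 IH) (Lpn (LP (LK LD1_c19 LD2_c4 LD3_c24))))))
theorem f224457 : Led Lsl_gt (LP (LK LD1_c19 LD2_c4 LD3_c23)) = (LP (LK LD1_c10 LD2_c31 LD3_c29)) :=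
  Lre_g IH (LK LD1_c19 LD2_c4 LD3_c23) (LK LD1_c10 LD2_c31 LD3_c29) Lrfl Lrfl
theorem f224834 : Led Lsl_gt (LP (LK LD1_c10 LD2_c39 LD3_c3)) = (LP (LK LD1_c19 LD2_c4 LD3_c23)) :=
  Lgr Lrot5 (Lpr_ft (f224470 IH) (Lpr_at (K15.f224446 IH) (Lpe (f224457 IH) (Lpn (LP (LK LD1_c19 LD2_c4 LD3_c23))))))
theorem f389799 : Led Lsl_cf (LP (LK LD1_c19 LD2_c4 LD3_c23)) = (LP (LK LD1_c18 LD2_c44 LD3_c20)) :=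
  Lgr Lrot58 (Lpe (f224834 IH) (Lpe (f217906 IH) (Lpr_bt (K12.f183761 IH) (Lpr_gf (f389793 IH) (Lpe (f389768 IH) (Lpe (f389769 IH) (Lpe (f218053 IH) (Lpr_cf (f218039 IH) (Lpr_gf (f189079 IH) (Lpe (f189085 IH) (Lpn (LP (LK LD1_c18 LD2_c44 LD3_c20)))))))))))))
theorem f217890 : Led Lsl_ct (LP (LK LD1_c10 LD2_c39 LD3_c2)) = (LP (LK LD1_c19 LD2_c17 LD3_c31)) :=
  Lre_c IH (LK LD1_c10 LD2_c39 LD3_c2) (LK LD1_c19 LD2_c17 LD3_c31) Lrfl Lrfl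
theorem f390565 : Led Lsl_ft (LP (LK LD1_c19 LD2_c4 LD3_c23)) = (LP (LK LD1_c10 LD2_c39 LD3_c2)) :=
  Lgr Lrot4 (Lpr_cf (f389799 IH) (Lpr_ff (f390494 IH) (Lpe (f217890 IH) (Lpn (LP (LK LD1_c10 LD2_c39 LD3_c2))))))
theorem f390570 : Led Lsl_af (LP (LK LD1_c5 LD2_c34 LD3_c13)) = (LP (LK LD1_c10 LD2_c39 LD3_c2)) :=
  Lgr Lrot31 (Lpr_gf (K12.f224476 IH) (Lpe (f224457 IH) (Lpr_ft (f390565 IH) (Lpn (LP (LK LD1_c10 LD2_c39 LD3_c2))))))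
theorem f390576 : Led Lsl_at (LP (LK LD1_c11 LD2_c0 LD3_c29)) = (LP (LK LD1_c19 LD2_c17 LD3_c31)) :=
  Lgr Lrot107 (Lpe (K12.f218311 IH) (Lpr_af (f390570 IH) (Lpe (K15.f217888 IH) (Lpn (LP (LK LD1_c19 LD2_c17 LD3_c31))))))
theorem f390601 : Led Lsl_at (LP (LK LD1_c11 LD2_c0 LD3_c26)) = (LP (LK LD1_c5 LD2_c34 LD3_c10)) :=
  Lre_a IH (LK LD1_c11 LD2_c0 LD3_c26) (LK LD1_c5 LD2_c34 LD3_c10) Lrfl Lrfl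
theorem f390602 : Led Lsl_bf (LP (LK LD1_c11 LD2_c0 LD3_c26)) = (LP (LK LD1_c10 LD2_c19 LD3_c23)) :=
  Lgr Lrot81 (Lpr_at (f390601 IH) (Lpr_bt (K27.f281724 IH) (Lpr_at (f390576 IH) (Lpr_bt (K15.f224840 IH) (Lpe (f390478 IH) (Lpn (LP (LK LD1_c10 LD2_c19 LD3_c23))))))))
theorem f390501 : Led Lsl_ff (LP (LK LD1_c10 LD2_c19 LD3_c22)) = (LP (LK LD1_c16 LD2_c44 LD3_c0)) :=
  Lgr Lrot3 (Lpr_ft (f390490 IH) (Lpn (LP (LK LD1_c16 LD2_c44 LD3_c0))))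
theorem f189084 : Led Lsl_ct (LP (LK LD1_c10 LD2_c19 LD3_c22)) = (LP (LK LD1_c18 LD2_c44 LD3_c21)) :=
  Lre_c IH (LK LD1_c10 LD2_c19 LD3_c22) (LK LD1_c18 LD2_c44 LD3_c21) Lrfl Lrfl
theorem f189077 : Led Lsl_ct (LP (LK LD1_c26 LD2_c42 LD3_c40)) = (LP (LK LD1_c16 LD2_c44 LD3_c0)) :=
  Lre_c IH (LK LD1_c26 LD2_c42 LD3_c40) (LK LD1_c16 LD2_c44 LD3_c0) Lrfl Lrfl
theorem f390508 : Led Lsl_ft (LP (LK LD1_c18 LD2_c44 LD3_c21)) = (LP (LK LD1_c26 LD2_c42 LD3_c40)) :=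
  Lgr Lrot4 (Lpe (f189084 IH) (Lpr_ff (f390501 IH) (Lpe (f189077 IH) (Lpn (LP (LK LD1_c26 LD2_c42 LD3_c40))))))
theorem f189082 : Led Lsl_gt (LP (LK LD1_c18 LD2_c44 LD3_c21)) = (LP (LK LD1_c28 LD2_c14 LD3_c23)) :=
  Lre_g IH (LK LD1_c18 LD2_c44 LD3_c21) (LK LD1_c28 LD2_c14 LD3_c23) Lrfl Lrfl
theorem f189076 : Led Lsl_ct (LP (LK LD1_c16 LD2_c44 LD3_c0)) = (LP (LK LD1_c26 LD2_c42 LD3_c40)) :=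
  Lre_c IH (LK LD1_c16 LD2_c44 LD3_c0) (LK LD1_c26 LD2_c42 LD3_c40) Lrfl Lrfl
theorem f390480 : Led Lsl_af (LP (LK LD1_c18 LD2_c44 LD3_c24)) = (LP (LK LD1_c26 LD2_c42 LD3_c40)) :=
  Lgr Lrot68 (Lpr_ct (f189048 IH) (Lpr_at (f390476 IH) (Lpr_ct (f189076 IH) (Lpn (LP (LK LD1_c26 LD2_c42 LD3_c40))))))
theorem f390517 : Led Lsl_gt (LP (LK LD1_c28 LD2_c14 LD3_c23)) = (LP (LK LD1_c18 LD2_c44 LD3_c24)) :=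
  Lgr Lrot46 (Lpe (f189082 IH) (Lpr_ft (f390508 IH) (Lpe (f390480 IH) (Lpn (LP (LK LD1_c18 LD2_c44 LD3_c24))))))
theorem f196478 : Led Lsl_bt (LP (LK LD1_c15 LD2_c0 LD3_c60)) = (LP (LK LD1_c7 LD2_c57 LD3_c41)) :=
  Lre_b IH (LK LD1_c15 LD2_c0 LD3_c60) (LK LD1_c7 LD2_c57 LD3_c41) Lrfl Lrfl
theorem f196479 : Led Lsl_cf (LP (LK LD1_c8 LD2_c6 LD3_c14)) = (LP (LK LD1_c15 LD2_c0 LD3_c60)) :=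
  Lgr Lrot11 (Lpr_ct (K13.f196466 IH) (Lpn (LP (LK LD1_c15 LD2_c0 LD3_c60))))
theorem f196530 : Led Lsl_ct (LP (LK LD1_c25 LD2_c4 LD3_c34)) = (LP (LK LD1_c15 LD2_c15 LD3_c25)) :=
  Lre_c IH (LK LD1_c25 LD2_c4 LD3_c34) (LK LD1_c15 LD2_c15 LD3_c25) Lrfl Lrfl
theorem f390519 : Led Lsl_bf (LP (LK LD1_c28 LD2_c14 LD3_c23)) = (LP (LK LD1_c25 LD2_c4 LD3_c34)) :=
  Lgr Lrot165 (Lpr_gt (f390517 IH) (Lpr_ct (f189048 IH) (Lpr_gt (f54438 IH) (Lpe (f54443 IH) (Lpr_bt (K10.f48061 IH) (Lpr_gt (K16.f278129 IH) (Lpe (f196478 IH) (Lpe (f196479 IH) (Lpr_gt (f196488 IH) (Lpe (f196530 IH) (Lpn (LP (LK LD1_c25 LD2_c4 LD3_c34)))))))))))))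
theorem f196529 : Led Lsl_ct (LP (LK LD1_c15 LD2_c15 LD3_c25)) = (LP (LK LD1_c25 LD2_c4 LD3_c34)) :=
  Lre_c IH (LK LD1_c15 LD2_c15 LD3_c25) (LK LD1_c25 LD2_c4 LD3_c34) Lrfl Lrfl
theorem f221409 : Led Lsl_bt (LP (LK LD1_c25 LD2_c47 LD3_c41)) = (LP (LK LD1_c15 LD2_c51 LD3_c59)) :=
  Lre_b IH (LK LD1_c25 LD2_c47 LD3_c41) (LK LD1_c15 LD2_c51 LD3_c59) Lrfl Lrfl
theorem f390523 : Led Lsl_ct (LP (LK LD1_c28 LD2_c14 LD3_c23)) = (LP (LK LD1_c25 LD2_c47 LD3_c41)) :=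
  Lgr Lrot83 (Lpr_bf (f390519 IH) (Lpe (f196529 IH) (Lpe (f233897 IH) (Lpr_cf (f261679 IH) (Lpe (f221409 IH) (Lpn (LP (LK LD1_c25 LD2_c47 LD3_c41))))))))
theorem f390525 : Led Lsl_cf (LP (LK LD1_c28 LD2_c14 LD3_c23)) = (LP (LK LD1_c25 LD2_c47 LD3_c41)) :=
  Lgr Lrot11 (Lpr_ct (f390523 IH) (Lpn (LP (LK LD1_c25 LD2_c47 LD3_c41))))
theorem f390620 : Led Lsl_gt (LP (LK LD1_c11 LD2_c0 LD3_c26)) = (LP (LK LD1_c8 LD2_c58 LD3_c0)) :=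
  Lgr Lrot82 (Lpr_bf (f390602 IH) (Lpr_ct (f189047 IH) (Lpe (f390517 IH) (Lpr_cf (f390525 IH) (Lpr_bt (f221409 IH) (Lpr_gf (f221405 IH) (Lpe (f221397 IH) (Lpr_ct (K20.f221398 IH) (Lpr_gf (f280823 IH) (Lpe (K30.f217952 IH) (Lpn (LP (LK LD1_c8 LD2_c58 LD3_c0)))))))))))))
theorem f387558 : Led Lsl_ft (LP (LK LD1_c11 LD2_c0 LD3_c26)) = (LP (LK LD1_c10 LD2_c54 LD3_c49)) :=
  Lre_f IH (LK LD1_c11 LD2_c0 LD3_c26) (LK LD1_c10 LD2_c54 LD3_c49) Lrfl Lrfl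
theorem f390564 : Led Lsl_at (LP (LK LD1_c10 LD2_c54 LD3_c49)) = (LP (LK LD1_c10 LD2_c59 LD3_c29)) :=
  Lre_a IH (LK LD1_c10 LD2_c54 LD3_c49) (LK LD1_c10 LD2_c59 LD3_c29) Lrfl Lrfl
theorem f390622 : Led Lsl_gf (LP (LK LD1_c10 LD2_c59 LD3_c29)) = (LP (LK LD1_c8 LD2_c58 LD3_c0)) :=
  Lgr Lrot76 (Lpe (f390564 IH) (Lpe (f387558 IH) (Lpr_gt (f390620 IH) (Lpn (LP (LK LD1_c8 LD2_c58 LD3_c0))))))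
theorem f217634 : Led Lsl_gt (LP (LK LD1_c5 LD2_c24 LD3_c9)) = (LP (LK LD1_c10 LD2_c39 LD3_c1)) :=
  Lre_g IH (LK LD1_c5 LD2_c24 LD3_c9) (LK LD1_c10 LD2_c39 LD3_c1) Lrfl Lrfl
theorem f224467 : Led Lsl_gt (LP (LK LD1_c10 LD2_c39 LD3_c1)) = (LP (LK LD1_c19 LD2_c4 LD3_c24)) :=
  Lgr Lrot46 (Lpe (f217634 IH) (Lpr_ft (K12.f224455 IH) (Lpr_at (K15.f224459 IH) (Lpn (LP (LK LD1_c19 LD2_c4 LD3_c24))))))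
theorem f217919 : Led Lsl_ct (LP (LK LD1_c19 LD2_c17 LD3_c28)) = (LP (LK LD1_c10 LD2_c39 LD3_c1)) :=
  Lre_c IH (LK LD1_c19 LD2_c17 LD3_c28) (LK LD1_c10 LD2_c39 LD3_c1) Lrfl Lrfl
theorem f390632 : Led Lsl_bf (LP (LK LD1_c10 LD2_c59 LD3_c29)) = (LP (LK LD1_c19 LD2_c17 LD3_c28)) :=
  Lgr Lrot34 (Lpr_gf (f390622 IH) (Lpe (K30.f319650 IH) (Lpe (f319656 IH) (Lpr_gf (f389838 IH) (Lpe (f200779 IH) (Lpe (K11.f52840 IH) (Lpr_bf (K15.f221048 IH) (Lpr_ct (K15.f224447 IH) (Lpe (f224467 IH) (Lpe (f217919 IH) (Lpn (LP (LK LD1_c19 LD2_c17 LD3_c28)))))))))))))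
theorem f169284 : Led Lsl_ct (LP (LK LD1_c4 LD2_c29 LD3_c50)) = (LP (LK LD1_c2 LD2_c11 LD3_c60)) :=
  Lre_c IH (LK LD1_c4 LD2_c29 LD3_c50) (LK LD1_c2 LD2_c11 LD3_c60) Lrfl Lrfl
theorem f217964 : Led Lsl_ct (LP (LK LD1_c8 LD2_c58 LD3_c2)) = (LP (LK LD1_c4 LD2_c29 LD3_c57)) :=
  Lre_c IH (LK LD1_c8 LD2_c58 LD3_c2) (LK LD1_c4 LD2_c29 LD3_c57) Lrfl Lrfl
theorem f390646 : Led Lsl_gt (LP (LK LD1_c10 LD2_c59 LD3_c29)) = (LP (LK LD1_c8 LD2_c58 LD3_c2)) :=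
  Lgr Lrot82 (Lpr_bf (f390632 IH) (Lpr_ct (f217919 IH) (Lpe (f217634 IH) (Lpe (K12.f217912 IH) (Lpr_bt (K12.f183739 IH) (Lpr_gf (K12.f217947 IH) (Lpe (K27.f217950 IH) (Lpr_ct (f169284 IH) (Lpe (K20.f174507 IH) (Lpe (f217964 IH) (Lpn (LP (LK LD1_c8 LD2_c58 LD3_c2)))))))))))))
theorem f390643 : Led Lsl_ft (LP (LK LD1_c10 LD2_c59 LD3_c29)) = (LP (LK LD1_c5 LD2_c34 LD3_c10)) :=
  Lre_f IH (LK LD1_c10 LD2_c59 LD3_c29) (LK LD1_c5 LD2_c34 LD3_c10) Lrfl Lrfl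
theorem f390648 : Led Lsl_at (LP (LK LD1_c5 LD2_c34 LD3_c10)) = (LP (LK LD1_c11 LD2_c0 LD3_c26)) :=
  Lre_a IH (LK LD1_c5 LD2_c34 LD3_c10) (LK LD1_c11 LD2_c0 LD3_c26) Lrfl Lrfl
theorem f390649 : Led Lsl_gf (LP (LK LD1_c11 LD2_c0 LD3_c26)) = (LP (LK LD1_c8 LD2_c58 LD3_c2)) :=
  Lgr Lrot76 (Lpe (f390648 IH) (Lpe (f390643 IH) (Lpr_gt (f390646 IH) (Lpn (LP (LK LD1_c8 LD2_c58 LD3_c2))))))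
theorem f281623 : Led Lsl_ct (LP (LK LD1_c4 LD2_c29 LD3_c57)) = (LP (LK LD1_c8 LD2_c58 LD3_c2)) :=
  Lre_c IH (LK LD1_c4 LD2_c29 LD3_c57) (LK LD1_c8 LD2_c58 LD3_c2) Lrfl Lrfl
theorem f179386 : Led Lsl_gt (LP (LK LD1_c10 LD2_c49 LD3_c18)) = (LP (LK LD1_c19 LD2_c28 LD3_c47)) :=
  Lre_g IH (LK LD1_c10 LD2_c49 LD3_c18) (LK LD1_c19 LD2_c28 LD3_c47) Lrfl Lrfl
theorem f384938 : Led Lsl_gf (LP (LK LD1_c11 LD2_c9 LD3_c53)) = (LP (LK LD1_c20 LD2_c2 LD3_c12)) :=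
  Lgr Lrot181 (Lpr_ct (K30.f244597 IH) (Lpr_gt (K19.f199435 IH) (Lpe (K22.f332713 IH) (Lpr_bt (f354524 IH) (Lpr_gt (K30.f384923 IH) (Lpe (K22.f179382 IH) (Lpe (K22.f179326 IH) (Lpr_gt (f179386 IH) (Lpe (K30.f179408 IH) (Lpr_bt (K30.f179409 IH) (Lpn (LP (LK LD1_c20 LD2_c2 LD3_c12)))))))))))))
theorem f179420 : Led Lsl_dt (LP (LK LD1_c5 LD2_c39 LD3_c25)) = (LP (LK LD1_c2 LD2_c45 LD3_c40)) :=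
  Lre_d IH (LK LD1_c5 LD2_c39 LD3_c25) (LK LD1_c2 LD2_c45 LD3_c40) Lrfl Lrfl
theorem f168817 : Led Lsl_dt (LP (LK LD1_c2 LD2_c12 LD3_c4)) = (LP (LK LD1_c4 LD2_c30 LD3_c7)) :=
  Lre_d IH (LK LD1_c2 LD2_c12 LD3_c4) (LK LD1_c4 LD2_c30 LD3_c7) Lrfl Lrfl
theorem f387636 : Led Lsl_gf (LP (LK LD1_c5 LD2_c39 LD3_c25)) = (LP (LK LD1_c4 LD2_c30 LD3_c7)) :=
  Lgr Lrot143 (Lpr_dt (f179420 IH) (Lpe (K22.f179227 IH) (Lpe (K30.f178094 IH) (Lpr_gf (f384938 IH) (Lpe (K30.f331965 IH) (Lpr_gf (K30.f387631 IH) (Lpe (K30.f318397 IH) (Lpr_gt (K20.f168802 IH) (Lpr_dt (f168817 IH) (Lpn (LP (LK LD1_c4 LD2_c30 LD3_c7))))))))))))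
theorem f319812 : Led Lsl_at (LP (LK LD1_c2 LD2_c42 LD3_c55)) = (LP (LK LD1_c5 LD2_c33 LD3_c33)) :=
  Lre_a IH (LK LD1_c2 LD2_c42 LD3_c55) (LK LD1_c5 LD2_c33 LD3_c33) Lrfl Lrfl
theorem f387638 : Led Lsl_gt (LP (LK LD1_c5 LD2_c39 LD3_c25)) = (LP (LK LD1_c5 LD2_c33 LD3_c33)) :=
  Lgr Lrot46 (Lpr_gf (f387636 IH) (Lpr_ft (K20.f319784 IH) (Lpr_at (f319812 IH) (Lpn (LP (LK LD1_c5 LD2_c33 LD3_c33))))))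
theorem f179328 : Led Lsl_cf (LP (LK LD1_c5 LD2_c29 LD3_c2)) = (LP (LK LD1_c5 LD2_c39 LD3_c5)) :=
  Lgr Lrot11 (Lpr_ct (K22.f179304 IH) (Lpn (LP (LK LD1_c5 LD2_c39 LD3_c5))))
theorem f179404 : Led Lsl_dt (LP (LK LD1_c5 LD2_c29 LD3_c2)) = (LP (LK LD1_c10 LD2_c49 LD3_c14)) :=
  Lre_d IH (LK LD1_c5 LD2_c29 LD3_c2) (LK LD1_c10 LD2_c49 LD3_c14) Lrfl Lrfl
theorem f319805 : Led Lsl_ff (LP (LK LD1_c16 LD2_c47 LD3_c20)) = (LP (LK LD1_c10 LD2_c59 LD3_c3)) :=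
  Lgr Lrot3 (Lpr_ft (K22.f319797 IH) (Lpn (LP (LK LD1_c10 LD2_c59 LD3_c3))))
theorem f319807 : Led Lsl_at (LP (LK LD1_c16 LD2_c47 LD3_c20)) = (LP (LK LD1_c8 LD2_c58 LD3_c23)) :=
  Lre_a IH (LK LD1_c16 LD2_c47 LD3_c20) (LK LD1_c8 LD2_c58 LD3_c23) Lrfl Lrfl
theorem f180407 : Led Lsl_gt (LP (LK LD1_c16 LD2_c47 LD3_c24)) = (LP (LK LD1_c8 LD2_c58 LD3_c23)) :=
  Lre_g IH (LK LD1_c16 LD2_c47 LD3_c24) (LK LD1_c8 LD2_c58 LD3_c23) Lrfl Lrfl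
theorem f319810 : Led Lsl_gf (LP (LK LD1_c16 LD2_c47 LD3_c24)) = (LP (LK LD1_c10 LD2_c59 LD3_c3)) :=
  Lgr Lrot47 (Lpr_gt (f180407 IH) (Lpe (f319807 IH) (Lpr_ff (f319805 IH) (Lpn (LP (LK LD1_c10 LD2_c59 LD3_c3))))))
theorem f387732 : Led Lsl_cf (LP (LK LD1_c10 LD2_c49 LD3_c14)) = (LP (LK LD1_c16 LD2_c47 LD3_c24)) :=
  Lgr Lrot99 (Lpe (f179404 IH) (Lpr_cf (f179328 IH) (Lpe (K30.f384923 IH) (Lpe (K30.f354512 IH) (Lpr_gf (K30.f319294 IH) (Lpe (f179420 IH) (Lpr_gt (f387638 IH) (Lpr_ct (K22.f238482 IH) (Lpe (f319810 IH) (Lpn (LP (LK LD1_c16 LD2_c47 LD3_c24))))))))))))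
theorem f387735 : Led Lsl_ct (LP (LK LD1_c10 LD2_c49 LD3_c14)) = (LP (LK LD1_c16 LD2_c47 LD3_c24)) :=
  Lgr Lrot59 (Lpr_cf (f387732 IH) (Lpn (LP (LK LD1_c16 LD2_c47 LD3_c24))))
theorem f387734 : Led Lsl_bt (LP (LK LD1_c10 LD2_c49 LD3_c14)) = (LP (LK LD1_c5 LD2_c29 LD3_c4)) :=
  Lre_b IH (LK LD1_c10 LD2_c49 LD3_c14) (LK LD1_c5 LD2_c29 LD3_c4) Lrfl Lrfl
theorem f180406 : Led Lsl_ct (LP (LK LD1_c4 LD2_c30 LD3_c7)) = (LP (LK LD1_c8 LD2_c58 LD3_c23)) :=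
  Lre_c IH (LK LD1_c4 LD2_c30 LD3_c7) (LK LD1_c8 LD2_c58 LD3_c23) Lrfl Lrfl
theorem f180405 : Led Lsl_bt (LP (LK LD1_c4 LD2_c30 LD3_c7)) = (LP (LK LD1_c2 LD2_c12 LD3_c5)) :=
  Lre_b IH (LK LD1_c4 LD2_c30 LD3_c7) (LK LD1_c2 LD2_c12 LD3_c5) Lrfl Lrfl
theorem f174439 : Led Lsl_bt (LP (LK LD1_c2 LD2_c11 LD3_c61)) = (LP (LK LD1_c4 LD2_c29 LD3_c59)) :=
  Lre_b IH (LK LD1_c2 LD2_c11 LD3_c61) (LK LD1_c4 LD2_c29 LD3_c59) Lrfl Lrfl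
theorem f387743 : Led Lsl_gf (LP (LK LD1_c5 LD2_c29 LD3_c4)) = (LP (LK LD1_c4 LD2_c29 LD3_c59)) :=
  Lgr Lrot124 (Lpe (f387734 IH) (Lpr_ct (f387735 IH) (Lpr_gt (f180407 IH) (Lpe (f180406 IH) (Lpr_bt (f180405 IH) (Lpr_gt (K20.f180403 IH) (Lpe (K20.f180284 IH) (Lpr_gt (K10.f180280 IH) (Lpe (K12.f174445 IH) (Lpr_bt (f174439 IH) (Lpn (LP (LK LD1_c4 LD2_c29 LD3_c59)))))))))))))
theorem f245268 : Led Lsl_dt (LP (LK LD1_c5 LD2_c29 LD3_c4)) = (LP (LK LD1_c2 LD2_c40 LD3_c47)) :=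
  Lre_d IH (LK LD1_c5 LD2_c29 LD3_c4) (LK LD1_c2 LD2_c40 LD3_c47) Lrfl Lrfl
theorem f386509 : Led Lsl_dt (LP (LK LD1_c10 LD2_c49 LD3_c19)) = (LP (LK LD1_c5 LD2_c29 LD3_c3)) :=
  Lre_d IH (LK LD1_c10 LD2_c49 LD3_c19) (LK LD1_c5 LD2_c29 LD3_c3) Lrfl Lrfl
theorem f386510 : Led Lsl_gt (LP (LK LD1_c19 LD2_c33 LD3_c34)) = (LP (LK LD1_c10 LD2_c49 LD3_c19)) :=
  Lre_g IH (LK LD1_c19 LD2_c33 LD3_c34) (LK LD1_c10 LD2_c49 LD3_c19) Lrfl Lrfl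
theorem f390651 : Led Lsl_dt (LP (LK LD1_c11 LD2_c0 LD3_c26)) = (LP (LK LD1_c19 LD2_c33 LD3_c34)) :=
  Lgr Lrot57 (Lpr_gf (f390649 IH) (Lpe (f281623 IH) (Lpr_gt (K20.f174507 IH) (Lpr_dt (K24.f174506 IH) (Lpe (f387743 IH) (Lpr_dt (f245268 IH) (Lpe (K22.f179323 IH) (Lpe (f386509 IH) (Lpe (f386510 IH) (Lpn (LP (LK LD1_c19 LD2_c33 LD3_c34))))))))))))
theorem f387573 : Led Lsl_ft (LP (LK LD1_c10 LD2_c54 LD3_c49)) = (LP (LK LD1_c11 LD2_c0 LD3_c26)) :=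
  Lre_f IH (LK LD1_c10 LD2_c54 LD3_c49) (LK LD1_c11 LD2_c0 LD3_c26) Lrfl Lrfl
theorem f224536 : Led Lsl_dt (LP (LK LD1_c19 LD2_c42 LD3_c58)) = (LP (LK LD1_c10 LD2_c54 LD3_c49)) :=
  Lre_d IH (LK LD1_c19 LD2_c42 LD3_c58) (LK LD1_c10 LD2_c54 LD3_c49) Lrfl Lrfl
theorem f390662 : Led Lsl_ff (LP (LK LD1_c19 LD2_c42 LD3_c58)) = (LP (LK LD1_c19 LD2_c33 LD3_c34)) :=
  Lgr Lrot19 (Lpr_dt (f224536 IH) (Lpr_ft (f387573 IH) (Lpr_dt (f390651 IH) (Lpn (LP (LK LD1_c19 LD2_c33 LD3_c34))))))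
theorem f386456 : Led Lsl_gt (LP (LK LD1_c10 LD2_c49 LD3_c19)) = (LP (LK LD1_c19 LD2_c33 LD3_c33)) :=
  Lre_g IH (LK LD1_c10 LD2_c49 LD3_c19) (LK LD1_c19 LD2_c33 LD3_c33) Lrfl Lrfl
theorem f390699 : Led Lsl_at (LP (LK LD1_c19 LD2_c42 LD3_c58)) = (LP (LK LD1_c19 LD2_c33 LD3_c33)) :=
  Lgr Lrot26 (Lpr_ff (f390662 IH) (Lpr_gt (f386510 IH) (Lpr_gt (f386456 IH) (Lpn (LP (LK LD1_c19 LD2_c33 LD3_c33))))))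
theorem f390703 : Led Lsl_df (LP (LK LD1_c10 LD2_c59 LD3_c29)) = (LP (LK LD1_c19 LD2_c33 LD3_c33)) :=
  Lgr Lrot18 (Lpr_at (K30.f224493 IH) (Lpr_dt (K30.f224533 IH) (Lpr_at (f390699 IH) (Lpn (LP (LK LD1_c19 LD2_c33 LD3_c33))))))
theorem f387581 : Led Lsl_ct (LP (LK LD1_c10 LD2_c59 LD3_c29)) = (LP (LK LD1_c5 LD2_c33 LD3_c46)) :=
  Lre_c IH (LK LD1_c10 LD2_c59 LD3_c29) (LK LD1_c5 LD2_c33 LD3_c46) Lrfl Lrfl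
theorem f390628 : Led Lsl_dt (LP (LK LD1_c10 LD2_c59 LD3_c30)) = (LP (LK LD1_c5 LD2_c33 LD3_c46)) :=
  Lre_d IH (LK LD1_c10 LD2_c59 LD3_c30) (LK LD1_c5 LD2_c33 LD3_c46) Lrfl Lrfl
theorem f386447 : Led Lsl_dt (LP (LK LD1_c5 LD2_c29 LD3_c3)) = (LP (LK LD1_c10 LD2_c49 LD3_c19)) :=
  Lre_d IH (LK LD1_c5 LD2_c29 LD3_c3) (LK LD1_c10 LD2_c49 LD3_c19) Lrfl Lrfl
theorem f179389 : Led Lsl_gt (LP (LK LD1_c10 LD2_c49 LD3_c17)) = (LP (LK LD1_c5 LD2_c29 LD3_c3)) :=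
  Lre_g IH (LK LD1_c10 LD2_c49 LD3_c17) (LK LD1_c5 LD2_c29 LD3_c3) Lrfl Lrfl
theorem f222552 : Led Lsl_ft (LP (LK LD1_c2 LD2_c40 LD3_c59)) = (LP (LK LD1_c4 LD2_c2 LD3_c45)) :=
  Lgr Lrot48 (Lpr_ff (K13.f222535 IH) (Lpn (LP (LK LD1_c4 LD2_c2 LD3_c45))))
theorem f222558 : Led Lsl_bt (LP (LK LD1_c5 LD2_c29 LD3_c25)) = (LP (LK LD1_c2 LD2_c40 LD3_c59)) :=
  Lre_b IH (LK LD1_c5 LD2_c29 LD3_c25) (LK LD1_c2 LD2_c40 LD3_c59) Lrfl Lrfl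
theorem f53087 : Led Lsl_bt (LP (LK LD1_c4 LD2_c2 LD3_c45)) = (LP (LK LD1_c8 LD2_c6 LD3_c4)) :=
  Lre_b IH (LK LD1_c4 LD2_c2 LD3_c45) (LK LD1_c8 LD2_c6 LD3_c4) Lrfl Lrfl
theorem f222559 : Led Lsl_ff (LP (LK LD1_c5 LD2_c29 LD3_c25)) = (LP (LK LD1_c8 LD2_c6 LD3_c4)) :=
  Lgr Lrot25 (Lpr_bt (f222558 IH) (Lpr_ft (f222552 IH) (Lpr_bt (f53087 IH) (Lpn (LP (LK LD1_c8 LD2_c6 LD3_c4))))))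
theorem f222565 : Led Lsl_at (LP (LK LD1_c5 LD2_c29 LD3_c25)) = (LP (LK LD1_c10 LD2_c50 LD3_c9)) :=
  Lre_a IH (LK LD1_c5 LD2_c29 LD3_c25) (LK LD1_c10 LD2_c50 LD3_c9) Lrfl Lrfl
theorem f222566 : Led Lsl_at (LP (LK LD1_c15 LD2_c15 LD3_c7)) = (LP (LK LD1_c8 LD2_c6 LD3_c4)) :=
  Lre_a IH (LK LD1_c15 LD2_c15 LD3_c7) (LK LD1_c8 LD2_c6 LD3_c4) Lrfl Lrfl
theorem f222567 : Led Lsl_ft (LP (LK LD1_c10 LD2_c50 LD3_c9)) = (LP (LK LD1_c15 LD2_c15 LD3_c7)) :=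
  Lgr Lrot101 (Lpe (f222565 IH) (Lpr_ff (f222559 IH) (Lpe (f222566 IH) (Lpn (LP (LK LD1_c15 LD2_c15 LD3_c7))))))
theorem f386371 : Led Lsl_bf (LP (LK LD1_c8 LD2_c55 LD3_c56)) = (LP (LK LD1_c15 LD2_c15 LD3_c7)) :=
  Lgr Lrot61 (Lpr_ft (K30.f385163 IH) (Lpr_bt (K30.f222579 IH) (Lpr_ft (f222567 IH) (Lpn (LP (LK LD1_c15 LD2_c15 LD3_c7))))))
theorem f385172 : Led Lsl_ct (LP (LK LD1_c8 LD2_c55 LD3_c56)) = (LP (LK LD1_c4 LD2_c28 LD3_c59)) :=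
  Lre_c IH (LK LD1_c8 LD2_c55 LD3_c56) (LK LD1_c4 LD2_c28 LD3_c59) Lrfl Lrfl
theorem f386400 : Led Lsl_ct (LP (LK LD1_c10 LD2_c46 LD3_c7)) = (LP (LK LD1_c15 LD2_c15 LD3_c7)) :=
  Lgr Lrot83 (Lpe (K30.f244977 IH) (Lpe (K30.f244984 IH) (Lpe (K30.f385160 IH) (Lpe (f385172 IH) (Lpr_bf (f386371 IH) (Lpn (LP (LK LD1_c15 LD2_c15 LD3_c7))))))))
theorem f386402 : Led Lsl_cf (LP (LK LD1_c5 LD2_c27 LD3_c30)) = (LP (LK LD1_c8 LD2_c6 LD3_c4)) :=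
  Lgr Lrot1 (Lpr_at (K30.f244968 IH) (Lpr_ct (f386400 IH) (Lpr_at (f222566 IH) (Lpn (LP (LK LD1_c8 LD2_c6 LD3_c4))))))
theorem f244989 : Led Lsl_gt (LP (LK LD1_c10 LD2_c46 LD3_c6)) = (LP (LK LD1_c5 LD2_c27 LD3_c30)) :=
  Lre_g IH (LK LD1_c10 LD2_c46 LD3_c6) (LK LD1_c5 LD2_c27 LD3_c30) Lrfl Lrfl
theorem f244998 : Led Lsl_ct (LP (LK LD1_c19 LD2_c28 LD3_c31)) = (LP (LK LD1_c10 LD2_c46 LD3_c6)) :=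
  Lre_c IH (LK LD1_c19 LD2_c28 LD3_c31) (LK LD1_c10 LD2_c46 LD3_c6) Lrfl Lrfl
theorem f222540 : Led Lsl_bt (LP (LK LD1_c8 LD2_c6 LD3_c4)) = (LP (LK LD1_c4 LD2_c2 LD3_c45)) :=
  Lre_b IH (LK LD1_c8 LD2_c6 LD3_c4) (LK LD1_c4 LD2_c2 LD3_c45) Lrfl Lrfl
theorem f223077 : Led Lsl_bt (LP (LK LD1_c7 LD2_c58 LD3_c3)) = (LP (LK LD1_c15 LD2_c1 LD3_c49)) :=
  Lre_b IH (LK LD1_c7 LD2_c58 LD3_c3) (LK LD1_c15 LD2_c1 LD3_c49) Lrfl Lrfl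
theorem f223078 : Led Lsl_gt (LP (LK LD1_c15 LD2_c1 LD3_c49)) = (LP (LK LD1_c24 LD2_c50 LD3_c1)) :=
  Lre_g IH (LK LD1_c15 LD2_c1 LD3_c49) (LK LD1_c24 LD2_c50 LD3_c1) Lrfl Lrfl
theorem f386416 : Led Lsl_bt (LP (LK LD1_c19 LD2_c28 LD3_c31)) = (LP (LK LD1_c24 LD2_c50 LD3_c1)) :=
  Lgr Lrot92 (Lpr_ct (f244998 IH) (Lpr_gt (f244989 IH) (Lpr_cf (f386402 IH) (Lpr_bt (f222540 IH) (Lpe (K13.f222554 IH) (Lpr_ct (K14.f222277 IH) (Lpe (K14.f234751 IH) (Lpe (K12.f223027 IH) (Lpr_bt (f223077 IH) (Lpr_gt (f223078 IH) (Lpn (LP (LK LD1_c24 LD2_c50 LD3_c1)))))))))))))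
theorem f244995 : Led Lsl_ct (LP (LK LD1_c10 LD2_c46 LD3_c6)) = (LP (LK LD1_c19 LD2_c28 LD3_c31)) :=
  Lre_c IH (LK LD1_c10 LD2_c46 LD3_c6) (LK LD1_c19 LD2_c28 LD3_c31) Lrfl Lrfl
theorem f244999 : Led Lsl_bt (LP (LK LD1_c19 LD2_c28 LD3_c30)) = (LP (LK LD1_c10 LD2_c46 LD3_c6)) :=
  Lre_b IH (LK LD1_c19 LD2_c28 LD3_c30) (LK LD1_c10 LD2_c46 LD3_c6) Lrfl Lrfl
theorem f282813 : Led Lsl_ct (LP (LK LD1_c28 LD2_c50 LD3_c43)) = (LP (LK LD1_c19 LD2_c28 LD3_c30)) :=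
  Lre_c IH (LK LD1_c28 LD2_c50 LD3_c43) (LK LD1_c19 LD2_c28 LD3_c30) Lrfl Lrfl
theorem f234869 : Led Lsl_ct (LP (LK LD1_c24 LD2_c50 LD3_c1)) = (LP (LK LD1_c31 LD2_c40 LD3_c40)) :=
  Lre_c IH (LK LD1_c24 LD2_c50 LD3_c1) (LK LD1_c31 LD2_c40 LD3_c40) Lrfl Lrfl
theorem f386420 : Led Lsl_bf (LP (LK LD1_c28 LD2_c50 LD3_c43)) = (LP (LK LD1_c31 LD2_c40 LD3_c40)) :=
  Lgr Lrot90 (Lpr_ct (f282813 IH) (Lpr_bt (f244999 IH) (Lpr_ct (f244995 IH) (Lpr_bt (f386416 IH) (Lpr_ct (f234869 IH) (Lpn (LP (LK LD1_c31 LD2_c40 LD3_c40))))))))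
theorem f234884 : Led Lsl_ct (LP (LK LD1_c31 LD2_c40 LD3_c40)) = (LP (LK LD1_c24 LD2_c50 LD3_c1)) :=
  Lre_c IH (LK LD1_c31 LD2_c40 LD3_c40) (LK LD1_c24 LD2_c50 LD3_c1) Lrfl Lrfl
theorem f234870 : Led Lsl_bt (LP (LK LD1_c7 LD2_c58 LD3_c5)) = (LP (LK LD1_c3 LD2_c58 LD3_c22)) :=
  Lre_b IH (LK LD1_c7 LD2_c58 LD3_c5) (LK LD1_c3 LD2_c58 LD3_c22) Lrfl Lrfl
theorem f370218 : Led Lsl_gf (LP (LK LD1_c3 LD2_c58 LD3_c22)) = (LP (LK LD1_c7 LD2_c57 LD3_c56)) :=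
  Lgr Lrot143 (Lpr_dt (K23.f261272 IH) (Lpr_cf (K16.f260901 IH) (Lpe (K15.f233276 IH) (Lpr_gf (K15.f233291 IH) (Lpe (K19.f233293 IH) (Lpr_gf (K19.f288862 IH) (Lpr_cf (K18.f284606 IH) (Lpr_gt (K27.f370214 IH) (Lpr_dt (K27.f223169 IH) (Lpn (LP (LK LD1_c7 LD2_c57 LD3_c56))))))))))))
theorem f370262 : Led Lsl_bt (LP (LK LD1_c15 LD2_c1 LD3_c27)) = (LP (LK LD1_c7 LD2_c57 LD3_c56)) :=
  Lre_b IH (LK LD1_c15 LD2_c1 LD3_c27) (LK LD1_c7 LD2_c57 LD3_c56) Lrfl Lrfl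
theorem f236321 : Led Lsl_bt (LP (LK LD1_c8 LD2_c18 LD3_c30)) = (LP (LK LD1_c4 LD2_c9 LD3_c14)) :=
  Lre_b IH (LK LD1_c8 LD2_c18 LD3_c30) (LK LD1_c4 LD2_c9 LD3_c14) Lrfl Lrfl
theorem f370270 : Led Lsl_bt (LP (LK LD1_c7 LD2_c57 LD3_c56)) = (LP (LK LD1_c15 LD2_c1 LD3_c27)) :=
  Lre_b IH (LK LD1_c7 LD2_c57 LD3_c56) (LK LD1_c15 LD2_c1 LD3_c27) Lrfl Lrfl
theorem f371369 : Led Lsl_cf (LP (LK LD1_c8 LD2_c18 LD3_c30)) = (LP (LK LD1_c15 LD2_c1 LD3_c27)) :=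
  Lgr Lrot97 (Lpr_bt (f236321 IH) (Lpr_ct (K18.f236258 IH) (Lpr_bt (K30.f371365 IH) (Lpr_ct (K27.f370220 IH) (Lpr_bt (f370270 IH) (Lpn (LP (LK LD1_c15 LD2_c1 LD3_c27))))))))
theorem f236264 : Led Lsl_gt (LP (LK LD1_c15 LD2_c37 LD3_c35)) = (LP (LK LD1_c8 LD2_c18 LD3_c30)) :=
  Lre_g IH (LK LD1_c15 LD2_c37 LD3_c35) (LK LD1_c8 LD2_c18 LD3_c30) Lrfl Lrfl
theorem f226415 : Led Lsl_gt (LP (LK LD1_c5 LD2_c36 LD3_c31)) = (LP (LK LD1_c11 LD2_c5 LD3_c7)) :=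
  Lre_g IH (LK LD1_c5 LD2_c36 LD3_c31) (LK LD1_c11 LD2_c5 LD3_c7) Lrfl Lrfl
theorem f228018 : Led Lsl_bt (LP (LK LD1_c19 LD2_c57 LD3_c60)) = (LP (LK LD1_c11 LD2_c5 LD3_c7)) :=
  Lre_b IH (LK LD1_c19 LD2_c57 LD3_c60) (LK LD1_c11 LD2_c5 LD3_c7) Lrfl Lrfl
theorem f371511 : Led Lsl_cf (LP (LK LD1_c15 LD2_c37 LD3_c35)) = (LP (LK LD1_c19 LD2_c57 LD3_c60)) :=
  Lgr Lrot160 (Lpr_gt (f236264 IH) (Lpr_cf (f371369 IH) (Lpr_bt (f370262 IH) (Lpe (f370218 IH) (Lpr_ct (K16.f228017 IH) (Lpr_gt (K12.f227988 IH) (Lpe (K18.f177854 IH) (Lpr_bt (K14.f226942 IH) (Lpr_gt (f226415 IH) (Lpe (f228018 IH) (Lpn (LP (LK LD1_c19 LD2_c57 LD3_c60)))))))))))))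
theorem f386437 : Led Lsl_gt (LP (LK LD1_c28 LD2_c50 LD3_c43)) = (LP (LK LD1_c19 LD2_c57 LD3_c60)) :=
  Lgr Lrot82 (Lpr_bf (f386420 IH) (Lpr_ct (f234884 IH) (Lpe (f223078 IH) (Lpe (K23.f234866 IH) (Lpr_bt (f234870 IH) (Lpr_gf (f370218 IH) (Lpe (f370262 IH) (Lpe (f371369 IH) (Lpe (f236264 IH) (Lpr_cf (f371511 IH) (Lpn (LP (LK LD1_c19 LD2_c57 LD3_c60)))))))))))))
theorem f245000 : Led Lsl_ct (LP (LK LD1_c19 LD2_c28 LD3_c30)) = (LP (LK LD1_c28 LD2_c50 LD3_c43)) :=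
  Lre_c IH (LK LD1_c19 LD2_c28 LD3_c30) (LK LD1_c28 LD2_c50 LD3_c43) Lrfl Lrfl
theorem f244980 : Led Lsl_ff (LP (LK LD1_c10 LD2_c46 LD3_c7)) = (LP (LK LD1_c15 LD2_c59 LD3_c9)) :=
  Lgr Lrot3 (Lpr_ft (K30.f244971 IH) (Lpn (LP (LK LD1_c15 LD2_c59 LD3_c9))))
theorem f244986 : Led Lsl_at (LP (LK LD1_c10 LD2_c46 LD3_c7)) = (LP (LK LD1_c5 LD2_c27 LD3_c30)) :=
  Lre_a IH (LK LD1_c10 LD2_c46 LD3_c7) (LK LD1_c5 LD2_c27 LD3_c30) Lrfl Lrfl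
theorem f244990 : Led Lsl_gf (LP (LK LD1_c10 LD2_c46 LD3_c6)) = (LP (LK LD1_c15 LD2_c59 LD3_c9)) :=
  Lgr Lrot47 (Lpr_gt (f244989 IH) (Lpe (f244986 IH) (Lpr_ff (f244980 IH) (Lpn (LP (LK LD1_c15 LD2_c59 LD3_c9))))))
theorem f245048 : Led Lsl_at (LP (LK LD1_c4 LD2_c29 LD3_c9)) = (LP (LK LD1_c8 LD2_c56 LD3_c35)) :=
  Lre_a IH (LK LD1_c4 LD2_c29 LD3_c9) (LK LD1_c8 LD2_c56 LD3_c35) Lrfl Lrfl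
theorem f245049 : Led Lsl_bf (LP (LK LD1_c15 LD2_c59 LD3_c9)) = (LP (LK LD1_c8 LD2_c56 LD3_c35)) :=
  Lgr Lrot81 (Lpr_at (K30.f244967 IH) (Lpr_bt (K30.f243611 IH) (Lpr_at (K13.f245041 IH) (Lpr_bt (K30.f218084 IH) (Lpr_at (f245048 IH) (Lpn (LP (LK LD1_c8 LD2_c56 LD3_c35))))))))
theorem f371513 : Led Lsl_ct (LP (LK LD1_c15 LD2_c37 LD3_c35)) = (LP (LK LD1_c19 LD2_c57 LD3_c60)) :=
  Lgr Lrot59 (Lpr_cf (f371511 IH) (Lpn (LP (LK LD1_c19 LD2_c57 LD3_c60))))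
theorem f386439 : Led Lsl_bf (LP (LK LD1_c10 LD2_c49 LD3_c17)) = (LP (LK LD1_c15 LD2_c37 LD3_c35)) :=
  Lgr Lrot165 (Lpr_gt (f179389 IH) (Lpr_ct (K22.f179323 IH) (Lpr_gt (K30.f245266 IH) (Lpe (K13.f245237 IH) (Lpe (f245049 IH) (Lpe (f244990 IH) (Lpe (f244999 IH) (Lpr_ct (f245000 IH) (Lpr_gt (f386437 IH) (Lpe (f371513 IH) (Lpn (LP (LK LD1_c15 LD2_c37 LD3_c35)))))))))))))
theorem f319279 : Led Lsl_bt (LP (LK LD1_c11 LD2_c5 LD3_c7)) = (LP (LK LD1_c19 LD2_c57 LD3_c60)) :=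
  Lre_b IH (LK LD1_c11 LD2_c5 LD3_c7) (LK LD1_c19 LD2_c57 LD3_c60) Lrfl Lrfl
theorem f319216 : Led Lsl_ct (LP (LK LD1_c4 LD2_c30 LD3_c56)) = (LP (LK LD1_c9 LD2_c0 LD3_c0)) :=
  Lre_c IH (LK LD1_c4 LD2_c30 LD3_c56) (LK LD1_c9 LD2_c0 LD3_c0) Lrfl Lrfl
theorem f319218 : Led Lsl_gt (LP (LK LD1_c8 LD2_c59 LD3_c61)) = (LP (LK LD1_c16 LD2_c49 LD3_c25)) :=
  Lre_g IH (LK LD1_c8 LD2_c59 LD3_c61) (LK LD1_c16 LD2_c49 LD3_c25) Lrfl Lrfl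
theorem f288024 : Led Lsl_gf (LP (LK LD1_c5 LD2_c28 LD3_c57)) = (LP (LK LD1_c5 LD2_c36 LD3_c20)) :=
  Lgr Lrot47 (Lpr_gt (K30.f173995 IH) (Lpe (f288015 IH) (Lpr_ff (f288016 IH) (Lpn (LP (LK LD1_c5 LD2_c36 LD3_c20))))))
theorem f253820 : Led Lsl_at (LP (LK LD1_c5 LD2_c28 LD3_c50)) = (LP (LK LD1_c10 LD2_c48 LD3_c43)) :=
  Lre_a IH (LK LD1_c5 LD2_c28 LD3_c50) (LK LD1_c10 LD2_c48 LD3_c43) Lrfl Lrfl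
theorem f253831 : Led Lsl_gf (LP (LK LD1_c10 LD2_c48 LD3_c43)) = (LP (LK LD1_c11 LD2_c5 LD3_c7)) :=
  Lgr Lrot76 (Lpe (f253820 IH) (Lpr_ff (K14.f253808 IH) (Lpr_gt (f226415 IH) (Lpn (LP (LK LD1_c11 LD2_c5 LD3_c7))))))
theorem f319219 : Led Lsl_ct (LP (LK LD1_c16 LD2_c49 LD3_c25)) = (LP (LK LD1_c11 LD2_c5 LD3_c7)) :=
  Lgr Lrot91 (Lpe (f319218 IH) (Lpe (K30.f319217 IH) (Lpr_ct (f319216 IH) (Lpr_gf (K30.f319146 IH) (Lpe (K30.f174003 IH) (Lpr_bt (K30.f174000 IH) (Lpr_gf (f288024 IH) (Lpe (K30.f253726 IH) (Lpr_ct (K20.f253833 IH) (Lpr_gf (f253831 IH) (Lpn (LP (LK LD1_c11 LD2_c5 LD3_c7)))))))))))))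
theorem f226416 : Led Lsl_gt (LP (LK LD1_c11 LD2_c5 LD3_c35)) = (LP (LK LD1_c5 LD2_c36 LD3_c45)) :=
  Lre_g IH (LK LD1_c11 LD2_c5 LD3_c35) (LK LD1_c5 LD2_c36 LD3_c45) Lrfl Lrfl
theorem f319282 : Led Lsl_bt (LP (LK LD1_c16 LD2_c49 LD3_c25)) = (LP (LK LD1_c11 LD2_c5 LD3_c35)) :=
  Lgr Lrot130 (Lpr_ct (f319219 IH) (Lpe (f226415 IH) (Lpe (K30.f178101 IH) (Lpr_bt (K20.f178098 IH) (Lpr_gf (K12.f226401 IH) (Lpe (K30.f177929 IH) (Lpr_ct (K30.f177930 IH) (Lpe (K30.f226412 IH) (Lpe (K30.f226413 IH) (Lpe (f226416 IH) (Lpn (LP (LK LD1_c11 LD2_c5 LD3_c35)))))))))))))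
theorem f319284 : Led Lsl_bf (LP (LK LD1_c16 LD2_c49 LD3_c25)) = (LP (LK LD1_c11 LD2_c5 LD3_c35)) :=
  Lgr Lrot24 (Lpr_bt (f319282 IH) (Lpn (LP (LK LD1_c11 LD2_c5 LD3_c35))))
theorem f386443 : Led Lsl_ct (LP (LK LD1_c10 LD2_c49 LD3_c17)) = (LP (LK LD1_c11 LD2_c5 LD3_c35)) :=
  Lgr Lrot83 (Lpr_bf (f386439 IH) (Lpr_cf (f371511 IH) (Lpe (f319279 IH) (Lpe (f319219 IH) (Lpr_bf (f319284 IH) (Lpn (LP (LK LD1_c11 LD2_c5 LD3_c35))))))))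
theorem f386454 : Led Lsl_cf (LP (LK LD1_c10 LD2_c49 LD3_c17)) = (LP (LK LD1_c11 LD2_c5 LD3_c35)) :=
  Lgr Lrot11 (Lpr_ct (f386443 IH) (Lpn (LP (LK LD1_c11 LD2_c5 LD3_c35))))
theorem f226521 : Led Lsl_dt (LP (LK LD1_c5 LD2_c36 LD3_c45)) = (LP (LK LD1_c11 LD2_c5 LD3_c36)) :=
  Lre_d IH (LK LD1_c5 LD2_c36 LD3_c45) (LK LD1_c11 LD2_c5 LD3_c36) Lrfl Lrfl
theorem f390711 : Led Lsl_gf (LP (LK LD1_c10 LD2_c59 LD3_c30)) = (LP (LK LD1_c11 LD2_c5 LD3_c36)) :=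
  Lgr Lrot143 (Lpr_dt (f390628 IH) (Lpe (f387581 IH) (Lpr_df (f390703 IH) (Lpe (f386456 IH) (Lpe (f386447 IH) (Lpe (f179389 IH) (Lpr_cf (f386454 IH) (Lpr_gt (f226416 IH) (Lpr_dt (f226521 IH) (Lpn (LP (LK LD1_c11 LD2_c5 LD3_c36))))))))))))
theorem f387586 : Led Lsl_af (LP (LK LD1_c10 LD2_c59 LD3_c30)) = (LP (LK LD1_c19 LD2_c47 LD3_c25)) :=
  Lgr Lrot0 (Lpr_at (K30.f387584 IH) (Lpn (LP (LK LD1_c19 LD2_c47 LD3_c25))))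
theorem f387561 : Led Lsl_dt (LP (LK LD1_c5 LD2_c34 LD3_c9)) = (LP (LK LD1_c11 LD2_c0 LD3_c27)) :=
  Lre_d IH (LK LD1_c5 LD2_c34 LD3_c9) (LK LD1_c11 LD2_c0 LD3_c27) Lrfl Lrfl
theorem f380749 : Led Lsl_dt (LP (LK LD1_c19 LD2_c47 LD3_c25)) = (LP (LK LD1_c10 LD2_c57 LD3_c32)) :=
  Lre_d IH (LK LD1_c19 LD2_c47 LD3_c25) (LK LD1_c10 LD2_c57 LD3_c32) Lrfl Lrfl
theorem f387562 : Led Lsl_ft (LP (LK LD1_c11 LD2_c0 LD3_c27)) = (LP (LK LD1_c19 LD2_c47 LD3_c25)) :=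
  Lgr Lrot54 (Lpe (f387561 IH) (Lpr_ff (K30.f380792 IH) (Lpe (f380749 IH) (Lpn (LP (LK LD1_c19 LD2_c47 LD3_c25))))))
theorem f390718 : Led Lsl_gt (LP (LK LD1_c11 LD2_c0 LD3_c27)) = (LP (LK LD1_c11 LD2_c5 LD3_c36)) :=
  Lgr Lrot5 (Lpr_ft (f387562 IH) (Lpe (f387586 IH) (Lpr_gf (f390711 IH) (Lpn (LP (LK LD1_c11 LD2_c5 LD3_c36))))))
theorem f281188 : Led Lsl_bt (LP (LK LD1_c26 LD2_c44 LD3_c47)) = (LP (LK LD1_c16 LD2_c46 LD3_c4)) :=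
  Lre_b IH (LK LD1_c26 LD2_c44 LD3_c47) (LK LD1_c16 LD2_c46 LD3_c4) Lrfl Lrfl
theorem f281189 : Led Lsl_ft (LP (LK LD1_c19 LD2_c46 LD3_c46)) = (LP (LK LD1_c26 LD2_c44 LD3_c47)) :=
  Lgr Lrot75 (Lpe (K20.f174325 IH) (Lpr_ff (K20.f281181 IH) (Lpe (f281188 IH) (Lpn (LP (LK LD1_c26 LD2_c44 LD3_c47))))))
theorem f174364 : Led Lsl_af (LP (LK LD1_c19 LD2_c46 LD3_c46)) = (LP (LK LD1_c11 LD2_c13 LD3_c15)) :=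
  Lgr Lrot0 (Lpr_at (K20.f174328 IH) (Lpn (LP (LK LD1_c11 LD2_c13 LD3_c15))))
theorem f280583 : Led Lsl_ff (LP (LK LD1_c11 LD2_c13 LD3_c15)) = (LP (LK LD1_c16 LD2_c52 LD3_c51)) :=
  Lgr Lrot25 (Lpr_bt (K20.f174327 IH) (Lpr_ft (K20.f280569 IH) (Lpr_bt (K20.f268836 IH) (Lpn (LP (LK LD1_c16 LD2_c52 LD3_c51))))))
theorem f281194 : Led Lsl_af (LP (LK LD1_c16 LD2_c52 LD3_c51)) = (LP (LK LD1_c26 LD2_c44 LD3_c47)) :=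
  Lgr Lrot45 (Lpe (f280583 IH) (Lpe (f174364 IH) (Lpr_ft (f281189 IH) (Lpn (LP (LK LD1_c26 LD2_c44 LD3_c47))))))
theorem f281198 : Led Lsl_at (LP (LK LD1_c16 LD2_c52 LD3_c51)) = (LP (LK LD1_c26 LD2_c44 LD3_c47)) :=
  Lgr Lrot100 (Lpr_af (f281194 IH) (Lpn (LP (LK LD1_c26 LD2_c44 LD3_c47))))
theorem f280627 : Led Lsl_cf (LP (LK LD1_c16 LD2_c52 LD3_c51)) = (LP (LK LD1_c11 LD2_c15 LD3_c20)) :=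
  Lgr Lrot108 (Lpe (f280583 IH) (Lpr_ct (K20.f280622 IH) (Lpe (K20.f280450 IH) (Lpn (LP (LK LD1_c11 LD2_c15 LD3_c20))))))
theorem f280833 : Led Lsl_at (LP (LK LD1_c5 LD2_c31 LD3_c42)) = (LP (LK LD1_c10 LD2_c54 LD3_c59)) :=
  Lre_a IH (LK LD1_c5 LD2_c31 LD3_c42) (LK LD1_c10 LD2_c54 LD3_c59) Lrfl Lrfl
theorem f280827 : Led Lsl_bt (LP (LK LD1_c10 LD2_c54 LD3_c59)) = (LP (LK LD1_c19 LD2_c43 LD3_c5)) :=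
  Lre_b IH (LK LD1_c10 LD2_c54 LD3_c59) (LK LD1_c19 LD2_c43 LD3_c5) Lrfl Lrfl
theorem f280355 : Led Lsl_at (LP (LK LD1_c5 LD2_c42 LD3_c35)) = (LP (LK LD1_c2 LD2_c47 LD3_c25)) :=
  Lre_a IH (LK LD1_c5 LD2_c42 LD3_c35) (LK LD1_c2 LD2_c47 LD3_c25) Lrfl Lrfl
theorem f280882 : Led Lsl_at (LP (LK LD1_c19 LD2_c43 LD3_c5)) = (LP (LK LD1_c11 LD2_c15 LD3_c20)) :=
  Lgr Lrot67 (Lpe (f280827 IH) (Lpe (f280833 IH) (Lpr_bf (K20.f280879 IH) (Lpe (f280355 IH) (Lpe (K20.f268834 IH) (Lpn (LP (LK LD1_c11 LD2_c15 LD3_c20))))))))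
theorem f281202 : Led Lsl_cf (LP (LK LD1_c19 LD2_c43 LD3_c5)) = (LP (LK LD1_c26 LD2_c44 LD3_c47)) :=
  Lgr Lrot1 (Lpr_at (f280882 IH) (Lpe (f280627 IH) (Lpr_at (f281198 IH) (Lpn (LP (LK LD1_c26 LD2_c44 LD3_c47))))))
theorem f281212 : Led Lsl_ft (LP (LK LD1_c19 LD2_c43 LD3_c5)) = (LP (LK LD1_c26 LD2_c45 LD3_c30)) :=
  Lgr Lrot4 (Lpr_cf (f281202 IH) (Lpe (f281189 IH) (Lpr_cf (K20.f280625 IH) (Lpn (LP (LK LD1_c26 LD2_c45 LD3_c30))))))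
theorem f174500 : Led Lsl_bt (LP (LK LD1_c26 LD2_c45 LD3_c30)) = (LP (LK LD1_c16 LD2_c47 LD3_c0)) :=
  Lre_b IH (LK LD1_c26 LD2_c45 LD3_c30) (LK LD1_c16 LD2_c47 LD3_c0) Lrfl Lrfl
theorem f281216 : Led Lsl_ff (LP (LK LD1_c10 LD2_c54 LD3_c59)) = (LP (LK LD1_c16 LD2_c47 LD3_c0)) :=
  Lgr Lrot25 (Lpr_bt (f280827 IH) (Lpr_ft (f281212 IH) (Lpr_bt (f174500 IH) (Lpn (LP (LK LD1_c16 LD2_c47 LD3_c0))))))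
theorem f281225 : Led Lsl_at (LP (LK LD1_c10 LD2_c54 LD3_c59)) = (LP (LK LD1_c5 LD2_c31 LD3_c42)) :=
  Lre_a IH (LK LD1_c10 LD2_c54 LD3_c59) (LK LD1_c5 LD2_c31 LD3_c42) Lrfl Lrfl
theorem f225222 : Led Lsl_gt (LP (LK LD1_c10 LD2_c55 LD3_c10)) = (LP (LK LD1_c5 LD2_c31 LD3_c42)) :=
  Lre_g IH (LK LD1_c10 LD2_c55 LD3_c10) (LK LD1_c5 LD2_c31 LD3_c42) Lrfl Lrfl
theorem f281229 : Led Lsl_gf (LP (LK LD1_c10 LD2_c55 LD3_c10)) = (LP (LK LD1_c16 LD2_c47 LD3_c0)) :=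
  Lgr Lrot47 (Lpr_gt (f225222 IH) (Lpe (f281225 IH) (Lpr_ff (f281216 IH) (Lpn (LP (LK LD1_c16 LD2_c47 LD3_c0))))))
theorem f226425 : Led Lsl_cf (LP (LK LD1_c5 LD2_c36 LD3_c45)) = (LP (LK LD1_c8 LD2_c56 LD3_c34)) :=
  Lgr Lrot11 (Lpr_ct (K30.f226413 IH) (Lpn (LP (LK LD1_c8 LD2_c56 LD3_c34))))
theorem f388243 : Led Lsl_ct (LP (LK LD1_c10 LD2_c55 LD3_c10)) = (LP (LK LD1_c11 LD2_c5 LD3_c36)) :=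
  Lgr Lrot151 (Lpr_gf (f281229 IH) (Lpe (K20.f280639 IH) (Lpe (K22.f280810 IH) (Lpr_dt (K30.f388230 IH) (Lpe (K30.f245294 IH) (Lpr_ct (K30.f244984 IH) (Lpr_gt (K30.f245425 IH) (Lpe (f226425 IH) (Lpr_dt (f226521 IH) (Lpn (LP (LK LD1_c11 LD2_c5 LD3_c36))))))))))))
theorem f388253 : Led Lsl_cf (LP (LK LD1_c10 LD2_c55 LD3_c10)) = (LP (LK LD1_c11 LD2_c5 LD3_c36)) :=
  Lgr Lrot11 (Lpr_ct (f388243 IH) (Lpn (LP (LK LD1_c11 LD2_c5 LD3_c36))))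
theorem f390723 : Led Lsl_gt (LP (LK LD1_c5 LD2_c34 LD3_c9)) = (LP (LK LD1_c8 LD2_c58 LD3_c35)) :=
  Lgr Lrot9 (Lpe (K30.f387576 IH) (Lpr_gt (f390718 IH) (Lpe (f388253 IH) (Lpr_gt (f225222 IH) (Lpr_ct (K20.f178895 IH) (Lpe (K30.f224534 IH) (Lpe (K20.f220883 IH) (Lpe (K24.f220907 IH) (Lpr_cf (K24.f225195 IH) (Lpn (LP (LK LD1_c8 LD2_c58 LD3_c35))))))))))))
theorem f387568 : Led Lsl_at (LP (LK LD1_c2 LD2_c43 LD3_c4)) = (LP (LK LD1_c5 LD2_c34 LD3_c9)) :=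
  Lre_a IH (LK LD1_c2 LD2_c43 LD3_c4) (LK LD1_c5 LD2_c34 LD3_c9) Lrfl Lrfl
theorem f387569 : Led Lsl_ft (LP (LK LD1_c5 LD2_c33 LD3_c46)) = (LP (LK LD1_c2 LD2_c43 LD3_c4)) :=
  Lre_f IH (LK LD1_c5 LD2_c33 LD3_c46) (LK LD1_c2 LD2_c43 LD3_c4) Lrfl Lrfl
theorem f387570 : Led Lsl_af (LP (LK LD1_c5 LD2_c33 LD3_c46)) = (LP (LK LD1_c10 LD2_c57 LD3_c32)) :=
  Lgr Lrot45 (Lpr_ft (f387569 IH) (Lpr_at (f387568 IH) (Lpr_ft (K30.f387566 IH) (Lpn (LP (LK LD1_c10 LD2_c57 LD3_c32))))))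
theorem f390734 : Led Lsl_gf (LP (LK LD1_c5 LD2_c33 LD3_c46)) = (LP (LK LD1_c8 LD2_c58 LD3_c35)) :=
  Lgr Lrot76 (Lpr_af (f387570 IH) (Lpe (K30.f387566 IH) (Lpr_gt (f390723 IH) (Lpn (LP (LK LD1_c8 LD2_c58 LD3_c35))))))
theorem f390629 : Led Lsl_ct (LP (LK LD1_c5 LD2_c33 LD3_c46)) = (LP (LK LD1_c10 LD2_c59 LD3_c29)) :=
  Lre_c IH (LK LD1_c5 LD2_c33 LD3_c46) (LK LD1_c10 LD2_c59 LD3_c29) Lrfl Lrfl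
theorem f375262 : Led Lsl_bt (LP (LK LD1_c4 LD2_c29 LD3_c57)) = (LP (LK LD1_c8 LD2_c58 LD3_c1)) :=
  Lre_b IH (LK LD1_c4 LD2_c29 LD3_c57) (LK LD1_c8 LD2_c58 LD3_c1) Lrfl Lrfl
theorem f225206 : Led Lsl_bt (LP (LK LD1_c4 LD2_c30 LD3_c12)) = (LP (LK LD1_c8 LD2_c58 LD3_c35)) :=
  Lre_b IH (LK LD1_c4 LD2_c30 LD3_c12) (LK LD1_c8 LD2_c58 LD3_c35) Lrfl Lrfl
theorem f290475 : Led Lsl_bf (LP (LK LD1_c16 LD2_c41 LD3_c22)) = (LP (LK LD1_c10 LD2_c56 LD3_c53)) :=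
  Lgr Lrot24 (Lpr_bt (K30.f290430 IH) (Lpn (LP (LK LD1_c10 LD2_c56 LD3_c53))))
theorem f390736 : Led Lsl_gt (LP (LK LD1_c8 LD2_c58 LD3_c1)) = (LP (LK LD1_c16 LD2_c41 LD3_c22)) :=
  Lgr Lrot164 (Lpe (f375262 IH) (Lpr_ct (f281623 IH) (Lpe (f390646 IH) (Lpe (f390629 IH) (Lpr_gf (f390734 IH) (Lpe (f225206 IH) (Lpr_ct (K27.f225197 IH) (Lpe (K27.f225234 IH) (Lpr_cf (K30.f380829 IH) (Lpe (f290475 IH) (Lpn (LP (LK LD1_c16 LD2_c41 LD3_c22)))))))))))))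
theorem f387601 : Led Lsl_bt (LP (LK LD1_c5 LD2_c33 LD3_c46)) = (LP (LK LD1_c2 LD2_c42 LD3_c60)) :=
  Lre_b IH (LK LD1_c5 LD2_c33 LD3_c46) (LK LD1_c2 LD2_c42 LD3_c60) Lrfl Lrfl
theorem f195218 : Led Lsl_ft (LP (LK LD1_c4 LD2_c28 LD3_c34)) = (LP (LK LD1_c2 LD2_c11 LD3_c20)) :=
  Lre_f IH (LK LD1_c4 LD2_c28 LD3_c34) (LK LD1_c2 LD2_c11 LD3_c20) Lrfl Lrfl
theorem f195226 : Led Lsl_at (LP (LK LD1_c2 LD2_c11 LD3_c20)) = (LP (LK LD1_c4 LD2_c28 LD3_c32)) :=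
  Lre_a IH (LK LD1_c2 LD2_c11 LD3_c20) (LK LD1_c4 LD2_c28 LD3_c32) Lrfl Lrfl
theorem f290424 : Led Lsl_gt (LP (LK LD1_c8 LD2_c55 LD3_c11)) = (LP (LK LD1_c4 LD2_c28 LD3_c32)) :=
  Lgr Lrot46 (Lpr_gf (K17.f290406 IH) (Lpr_ft (f195218 IH) (Lpr_at (f195226 IH) (Lpn (LP (LK LD1_c4 LD2_c28 LD3_c32))))))
theorem f195258 : Led Lsl_ct (LP (LK LD1_c2 LD2_c12 LD3_c12)) = (LP (LK LD1_c4 LD2_c28 LD3_c32)) :=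
  Lre_c IH (LK LD1_c2 LD2_c12 LD3_c12) (LK LD1_c4 LD2_c28 LD3_c32) Lrfl Lrfl
theorem f195403 : Led Lsl_bt (LP (LK LD1_c2 LD2_c12 LD3_c12)) = (LP (LK LD1_c1 LD2_c18 LD3_c0)) :=
  Lre_b IH (LK LD1_c2 LD2_c12 LD3_c12) (LK LD1_c1 LD2_c18 LD3_c0) Lrfl Lrfl
theorem f390744 : Led Lsl_gf (LP (LK LD1_c2 LD2_c42 LD3_c60)) = (LP (LK LD1_c1 LD2_c18 LD3_c0)) :=
  Lgr Lrot124 (Lpe (f387601 IH) (Lpr_ct (f390629 IH) (Lpr_gt (f390646 IH) (Lpe (f281623 IH) (Lpr_bt (f375262 IH) (Lpr_gt (f390736 IH) (Lpr_ct (K30.f290429 IH) (Lpr_gt (f290424 IH) (Lpe (f195258 IH) (Lpr_bt (f195403 IH) (Lpn (LP (LK LD1_c1 LD2_c18 LD3_c0)))))))))))))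
theorem f390753 : Led Lsl_dt (LP (LK LD1_c2 LD2_c42 LD3_c60)) = (LP (LK LD1_c5 LD2_c33 LD3_c48)) :=
  Lre_d IH (LK LD1_c2 LD2_c42 LD3_c60) (LK LD1_c5 LD2_c33 LD3_c48) Lrfl Lrfl
theorem f332334 : Led Lsl_ct (LP (LK LD1_c2 LD2_c39 LD3_c7)) = (LP (LK LD1_c1 LD2_c18 LD3_c0)) :=
  Lre_c IH (LK LD1_c2 LD2_c39 LD3_c7) (LK LD1_c1 LD2_c18 LD3_c0) Lrfl Lrfl
theorem f173918 : Led Lsl_bt (LP (LK LD1_c4 LD2_c56 LD3_c12)) = (LP (LK LD1_c2 LD2_c25 LD3_c55)) :=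
  Lre_b IH (LK LD1_c4 LD2_c56 LD3_c12) (LK LD1_c2 LD2_c25 LD3_c55) Lrfl Lrfl
theorem f168732 : Led Lsl_gt (LP (LK LD1_c1 LD2_c10 LD3_c7)) = (LP (LK LD1_c2 LD2_c25 LD3_c55)) :=
  Lre_g IH (LK LD1_c1 LD2_c10 LD3_c7) (LK LD1_c2 LD2_c25 LD3_c55) Lrfl Lrfl
theorem f225189 : Led Lsl_bt (LP (LK LD1_c1 LD2_c18 LD3_c2)) = (LP (LK LD1_c0 LD2_c36 LD3_c0)) :=
  Lre_b IH (LK LD1_c1 LD2_c18 LD3_c2) (LK LD1_c0 LD2_c36 LD3_c0) Lrfl Lrfl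
theorem f218848 : Led Lsl_ct (LP (LK LD1_c1 LD2_c18 LD3_c2)) = (LP (LK LD1_c2 LD2_c39 LD3_c9)) :=
  Lre_c IH (LK LD1_c1 LD2_c18 LD3_c2) (LK LD1_c2 LD2_c39 LD3_c9) Lrfl Lrfl
theorem f332292 : Led Lsl_gt (LP (LK LD1_c5 LD2_c25 LD3_c12)) = (LP (LK LD1_c2 LD2_c39 LD3_c9)) :=
  Lgr Lrot65 (Lpr_cf (K22.f332267 IH) (Lpr_bt (f173918 IH) (Lpe (f168732 IH) (Lpe (K22.f55346 IH) (Lpr_ct (K1.f40994 IH) (Lpe (K9.f28238 IH) (Lpr_cf (K12.f225172 IH) (Lpe (K12.f165013 IH) (Lpe (f225189 IH) (Lpr_ct (f218848 IH) (Lpn (LP (LK LD1_c2 LD2_c39 LD3_c9)))))))))))))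
theorem f332294 : Led Lsl_at (LP (LK LD1_c5 LD2_c25 LD3_c11)) = (LP (LK LD1_c2 LD2_c39 LD3_c9)) :=
  Lre_a IH (LK LD1_c5 LD2_c25 LD3_c11) (LK LD1_c2 LD2_c39 LD3_c9) Lrfl Lrfl
theorem f332295 : Led Lsl_ft (LP (LK LD1_c2 LD2_c39 LD3_c7)) = (LP (LK LD1_c5 LD2_c25 LD3_c11)) :=
  Lre_f IH (LK LD1_c2 LD2_c39 LD3_c7) (LK LD1_c5 LD2_c25 LD3_c11) Lrfl Lrfl
theorem f332296 : Led Lsl_gf (LP (LK LD1_c5 LD2_c25 LD3_c12)) = (LP (LK LD1_c2 LD2_c39 LD3_c7)) :=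
  Lgr Lrot47 (Lpr_gt (f332292 IH) (Lpe (f332294 IH) (Lpe (f332295 IH) (Lpn (LP (LK LD1_c2 LD2_c39 LD3_c7))))))
theorem f332276 : Led Lsl_dt (LP (LK LD1_c5 LD2_c25 LD3_c12)) = (LP (LK LD1_c10 LD2_c41 LD3_c12)) :=
  Lre_d IH (LK LD1_c5 LD2_c25 LD3_c12) (LK LD1_c10 LD2_c41 LD3_c12) Lrfl Lrfl
theorem f178087 : Led Lsl_bt (LP (LK LD1_c11 LD2_c9 LD3_c50)) = (LP (LK LD1_c20 LD2_c4 LD3_c20)) :=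
  Lre_b IH (LK LD1_c11 LD2_c9 LD3_c50) (LK LD1_c20 LD2_c4 LD3_c20) Lrfl Lrfl
theorem f389183 : Led Lsl_ff (LP (LK LD1_c11 LD2_c9 LD3_c50)) = (LP (LK LD1_c16 LD2_c49 LD3_c19)) :=
  Lgr Lrot25 (Lpr_bt (f178087 IH) (Lpr_ft (f389181 IH) (Lpe (K30.f235755 IH) (Lpn (LP (LK LD1_c16 LD2_c49 LD3_c19))))))
theorem f178089 : Led Lsl_ct (LP (LK LD1_c11 LD2_c9 LD3_c50)) = (LP (LK LD1_c11 LD2_c4 LD3_c54)) :=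
  Lgr Lrot59 (Lpr_cf (f178078 IH) (Lpn (LP (LK LD1_c11 LD2_c4 LD3_c54))))
theorem f389191 : Led Lsl_ft (LP (LK LD1_c11 LD2_c4 LD3_c54)) = (LP (LK LD1_c10 LD2_c49 LD3_c0)) :=
  Lgr Lrot4 (Lpe (f178089 IH) (Lpr_ff (f389183 IH) (Lpe (K30.f174003 IH) (Lpn (LP (LK LD1_c10 LD2_c49 LD3_c0))))))
theorem f389195 : Led Lsl_ff (LP (LK LD1_c11 LD2_c4 LD3_c54)) = (LP (LK LD1_c10 LD2_c49 LD3_c0)) :=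
  Lgr Lrot3 (Lpr_ft (f389191 IH) (Lpn (LP (LK LD1_c10 LD2_c49 LD3_c0))))
theorem f174005 : Led Lsl_bt (LP (LK LD1_c5 LD2_c28 LD3_c57)) = (LP (LK LD1_c10 LD2_c49 LD3_c0)) :=
  Lre_b IH (LK LD1_c5 LD2_c28 LD3_c57) (LK LD1_c10 LD2_c49 LD3_c0) Lrfl Lrfl
theorem f389197 : Led Lsl_ft (LP (LK LD1_c5 LD2_c36 LD3_c19)) = (LP (LK LD1_c5 LD2_c28 LD3_c57)) :=
  Lgr Lrot75 (Lpe (f178077 IH) (Lpr_ff (f389195 IH) (Lpe (f174005 IH) (Lpn (LP (LK LD1_c5 LD2_c28 LD3_c57))))))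
theorem f178300 : Led Lsl_gt (LP (LK LD1_c2 LD2_c44 LD3_c2)) = (LP (LK LD1_c5 LD2_c36 LD3_c18)) :=
  Lre_g IH (LK LD1_c2 LD2_c44 LD3_c2) (LK LD1_c5 LD2_c36 LD3_c18) Lrfl Lrfl
theorem f389199 : Led Lsl_af (LP (LK LD1_c5 LD2_c36 LD3_c18)) = (LP (LK LD1_c5 LD2_c28 LD3_c57)) :=
  Lgr Lrot31 (Lpe (f178300 IH) (Lpe (f178076 IH) (Lpr_ft (f389197 IH) (Lpn (LP (LK LD1_c5 LD2_c28 LD3_c57))))))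
theorem f389201 : Led Lsl_at (LP (LK LD1_c5 LD2_c36 LD3_c18)) = (LP (LK LD1_c5 LD2_c28 LD3_c57)) :=
  Lgr Lrot100 (Lpr_af (f389199 IH) (Lpn (LP (LK LD1_c5 LD2_c28 LD3_c57))))
theorem f389203 : Led Lsl_ff (LP (LK LD1_c5 LD2_c36 LD3_c18)) = (LP (LK LD1_c5 LD2_c28 LD3_c56)) :=
  Lgr Lrot52 (Lpr_at (f389201 IH) (Lpr_gf (f288024 IH) (Lpe (K30.f288019 IH) (Lpn (LP (LK LD1_c5 LD2_c28 LD3_c56))))))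
theorem f389209 : Led Lsl_ft (LP (LK LD1_c5 LD2_c36 LD3_c18)) = (LP (LK LD1_c5 LD2_c28 LD3_c56)) :=
  Lgr Lrot48 (Lpr_ff (f389203 IH) (Lpn (LP (LK LD1_c5 LD2_c28 LD3_c56))))
theorem f277121 : Led Lsl_bt (LP (LK LD1_c11 LD2_c4 LD3_c53)) = (LP (LK LD1_c5 LD2_c36 LD3_c18)) :=
  Lre_b IH (LK LD1_c11 LD2_c4 LD3_c53) (LK LD1_c5 LD2_c36 LD3_c18) Lrfl Lrfl
theorem f384816 : Led Lsl_bt (LP (LK LD1_c5 LD2_c28 LD3_c56)) = (LP (LK LD1_c10 LD2_c48 LD3_c60)) :=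
  Lre_b IH (LK LD1_c5 LD2_c28 LD3_c56) (LK LD1_c10 LD2_c48 LD3_c60) Lrfl Lrfl
theorem f389213 : Led Lsl_ff (LP (LK LD1_c11 LD2_c4 LD3_c53)) = (LP (LK LD1_c10 LD2_c48 LD3_c60)) :=
  Lgr Lrot25 (Lpr_bt (f277121 IH) (Lpr_ft (f389209 IH) (Lpr_bt (f384816 IH) (Lpn (LP (LK LD1_c10 LD2_c48 LD3_c60))))))
theorem f389217 : Led Lsl_at (LP (LK LD1_c11 LD2_c4 LD3_c53)) = (LP (LK LD1_c10 LD2_c52 LD3_c19)) :=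
  Lgr Lrot26 (Lpr_ff (f389213 IH) (Lpr_gt (K30.f384825 IH) (Lpr_gt (K30.f277338 IH) (Lpn (LP (LK LD1_c10 LD2_c52 LD3_c19))))))
theorem f277122 : Led Lsl_cf (LP (LK LD1_c10 LD2_c35 LD3_c59)) = (LP (LK LD1_c11 LD2_c4 LD3_c53)) :=
  Lgr Lrot160 (Lpr_gt (K30.f277119 IH) (Lpr_cf (K21.f277106 IH) (Lpr_bt (K21.f179310 IH) (Lpe (K20.f226533 IH) (Lpr_ct (K12.f172321 IH) (Lpr_gt (K9.f177865 IH) (Lpe (K12.f177922 IH) (Lpr_bt (K30.f178075 IH) (Lpr_gt (f178300 IH) (Lpe (f277121 IH) (Lpn (LP (LK LD1_c11 LD2_c4 LD3_c53)))))))))))))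
theorem f277126 : Led Lsl_ct (LP (LK LD1_c10 LD2_c35 LD3_c59)) = (LP (LK LD1_c11 LD2_c4 LD3_c53)) :=
  Lgr Lrot59 (Lpr_cf (f277122 IH) (Lpn (LP (LK LD1_c11 LD2_c4 LD3_c53))))
theorem f389223 : Led Lsl_af (LP (LK LD1_c10 LD2_c35 LD3_c59)) = (LP (LK LD1_c15 LD2_c44 LD3_c7)) :=
  Lgr Lrot68 (Lpr_ct (f277126 IH) (Lpr_at (f389217 IH) (Lpe (K30.f384850 IH) (Lpn (LP (LK LD1_c15 LD2_c44 LD3_c7))))))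
theorem f277110 : Led Lsl_gt (LP (LK LD1_c10 LD2_c35 LD3_c58)) = (LP (LK LD1_c15 LD2_c44 LD3_c9)) :=
  Lgr Lrot46 (Lpe (K30.f224202 IH) (Lpr_ft (K17.f277016 IH) (Lpr_at (K17.f225417 IH) (Lpn (LP (LK LD1_c15 LD2_c44 LD3_c9))))))
theorem f389227 : Led Lsl_ft (LP (LK LD1_c10 LD2_c35 LD3_c58)) = (LP (LK LD1_c15 LD2_c44 LD3_c7)) :=
  Lgr Lrot2 (Lpr_gt (f277110 IH) (Lpe (K30.f277301 IH) (Lpr_af (f389223 IH) (Lpn (LP (LK LD1_c15 LD2_c44 LD3_c7))))))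
theorem f389233 : Led Lsl_ff (LP (LK LD1_c10 LD2_c35 LD3_c58)) = (LP (LK LD1_c15 LD2_c44 LD3_c7)) :=
  Lgr Lrot3 (Lpr_ft (f389227 IH) (Lpn (LP (LK LD1_c15 LD2_c44 LD3_c7))))
theorem f389237 : Led Lsl_at (LP (LK LD1_c10 LD2_c35 LD3_c58)) = (LP (LK LD1_c15 LD2_c44 LD3_c8)) :=
  Lgr Lrot26 (Lpr_ff (f389233 IH) (Lpe (K30.f277409 IH) (Lpe (K30.f277262 IH) (Lpn (LP (LK LD1_c15 LD2_c44 LD3_c8))))))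
theorem f317095 : Led Lsl_at (LP (LK LD1_c5 LD2_c35 LD3_c33)) = (LP (LK LD1_c11 LD2_c3 LD3_c17)) :=
  Lre_a IH (LK LD1_c5 LD2_c35 LD3_c33) (LK LD1_c11 LD2_c3 LD3_c17) Lrfl Lrfl
theorem f317102 : Led Lsl_gt (LP (LK LD1_c16 LD2_c50 LD3_c4)) = (LP (LK LD1_c11 LD2_c3 LD3_c17)) :=
  Lgr Lrot46 (Lpe (K30.f238088 IH) (Lpr_ft (K20.f317090 IH) (Lpr_at (f317095 IH) (Lpn (LP (LK LD1_c11 LD2_c3 LD3_c17))))))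
theorem f382857 : Led Lsl_gt (LP (LK LD1_c11 LD2_c3 LD3_c17)) = (LP (LK LD1_c16 LD2_c50 LD3_c5)) :=
  Lgr Lrot46 (Lpe (f317102 IH) (Lpr_ft (K30.f382851 IH) (Lpe (K30.f382830 IH) (Lpn (LP (LK LD1_c16 LD2_c50 LD3_c5))))))
theorem f254836 : Led Lsl_gt (LP (LK LD1_c15 LD2_c17 LD3_c33)) = (LP (LK LD1_c25 LD2_c7 LD3_c56)) :=
  Lre_g IH (LK LD1_c15 LD2_c17 LD3_c33) (LK LD1_c25 LD2_c7 LD3_c56) Lrfl Lrfl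
theorem f375730 : Led Lsl_gt (LP (LK LD1_c25 LD2_c7 LD3_c56)) = (LP (LK LD1_c16 LD2_c37 LD3_c44)) :=
  Lgr Lrot46 (Lpe (f254836 IH) (Lpr_ft (K30.f375723 IH) (Lpr_at (K30.f375657 IH) (Lpn (LP (LK LD1_c16 LD2_c37 LD3_c44))))))
theorem f173494 : Led Lsl_ct (LP (LK LD1_c16 LD2_c43 LD3_c30)) = (LP (LK LD1_c8 LD2_c56 LD3_c7)) :=
  Lre_c IH (LK LD1_c16 LD2_c43 LD3_c30) (LK LD1_c8 LD2_c56 LD3_c7) Lrfl Lrfl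
theorem f382861 : Led Lsl_bf (LP (LK LD1_c25 LD2_c7 LD3_c56)) = (LP (LK LD1_c16 LD2_c43 LD3_c30)) :=
  Lgr Lrot156 (Lpr_gt (f375730 IH) (Lpe (K30.f333976 IH) (Lpr_ct (f317105 IH) (Lpr_gt (f382857 IH) (Lpr_cf (K30.f334193 IH) (Lpr_bt (K30.f191922 IH) (Lpr_gt (K30.f341263 IH) (Lpr_ct (K17.f279103 IH) (Lpe (K30.f341314 IH) (Lpe (f173494 IH) (Lpn (LP (LK LD1_c16 LD2_c43 LD3_c30)))))))))))))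
theorem f173516 : Led Lsl_ct (LP (LK LD1_c8 LD2_c56 LD3_c7)) = (LP (LK LD1_c16 LD2_c43 LD3_c30)) :=
  Lre_c IH (LK LD1_c8 LD2_c56 LD3_c7) (LK LD1_c16 LD2_c43 LD3_c30) Lrfl Lrfl
theorem f382865 : Led Lsl_bt (LP (LK LD1_c26 LD2_c42 LD3_c23)) = (LP (LK LD1_c16 LD2_c43 LD3_c38)) :=
  Lre_b IH (LK LD1_c26 LD2_c42 LD3_c23) (LK LD1_c16 LD2_c43 LD3_c38) Lrfl Lrfl
theorem f382866 : Led Lsl_ct (LP (LK LD1_c25 LD2_c7 LD3_c56)) = (LP (LK LD1_c26 LD2_c42 LD3_c23)) :=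
  Lgr Lrot83 (Lpr_bf (f382861 IH) (Lpe (f173516 IH) (Lpe (K27.f173486 IH) (Lpe (K27.f173479 IH) (Lpe (f382865 IH) (Lpn (LP (LK LD1_c26 LD2_c42 LD3_c23))))))))
theorem f382873 : Led Lsl_cf (LP (LK LD1_c25 LD2_c7 LD3_c56)) = (LP (LK LD1_c26 LD2_c42 LD3_c23)) :=
  Lgr Lrot11 (Lpr_ct (f382866 IH) (Lpn (LP (LK LD1_c26 LD2_c42 LD3_c23))))
theorem f173444 : Led Lsl_bt (LP (LK LD1_c4 LD2_c28 LD3_c49)) = (LP (LK LD1_c2 LD2_c11 LD3_c26)) :=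
  Lre_b IH (LK LD1_c4 LD2_c28 LD3_c49) (LK LD1_c2 LD2_c11 LD3_c26) Lrfl Lrfl
theorem f179220 : Led Lsl_ct (LP (LK LD1_c4 LD2_c28 LD3_c49)) = (LP (LK LD1_c2 LD2_c11 LD3_c33)) :=
  Lre_c IH (LK LD1_c4 LD2_c28 LD3_c49) (LK LD1_c2 LD2_c11 LD3_c33) Lrfl Lrfl
theorem f226215 : Led Lsl_ct (LP (LK LD1_c8 LD2_c56 LD3_c15)) = (LP (LK LD1_c4 LD2_c28 LD3_c58)) :=
  Lre_c IH (LK LD1_c8 LD2_c56 LD3_c15) (LK LD1_c4 LD2_c28 LD3_c58) Lrfl Lrfl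
theorem f382876 : Led Lsl_gf (LP (LK LD1_c8 LD2_c56 LD3_c15)) = (LP (LK LD1_c16 LD2_c43 LD3_c38)) :=
  Lgr Lrot181 (Lpr_ct (f226215 IH) (Lpr_gt (K30.f183319 IH) (Lpe (f179220 IH) (Lpr_bt (f173444 IH) (Lpr_gt (K14.f173445 IH) (Lpe (K14.f254849 IH) (Lpe (K30.f254856 IH) (Lpr_gt (f254836 IH) (Lpr_cf (f382873 IH) (Lpr_bt (f382865 IH) (Lpn (LP (LK LD1_c16 LD2_c43 LD3_c38)))))))))))))
theorem f226229 : Led Lsl_ct (LP (LK LD1_c4 LD2_c28 LD3_c58)) = (LP (LK LD1_c8 LD2_c56 LD3_c15)) :=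
  Lre_c IH (LK LD1_c4 LD2_c28 LD3_c58) (LK LD1_c8 LD2_c56 LD3_c15) Lrfl Lrfl
theorem f226228 : Led Lsl_bt (LP (LK LD1_c4 LD2_c28 LD3_c58)) = (LP (LK LD1_c8 LD2_c56 LD3_c14)) :=
  Lre_b IH (LK LD1_c4 LD2_c28 LD3_c58) (LK LD1_c8 LD2_c56 LD3_c14) Lrfl Lrfl
theorem f226214 : Led Lsl_gt (LP (LK LD1_c8 LD2_c56 LD3_c14)) = (LP (LK LD1_c16 LD2_c43 LD3_c46)) :=
  Lre_g IH (LK LD1_c8 LD2_c56 LD3_c14) (LK LD1_c16 LD2_c43 LD3_c46) Lrfl Lrfl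
theorem f173490 : Led Lsl_ct (LP (LK LD1_c16 LD2_c43 LD3_c29)) = (LP (LK LD1_c16 LD2_c43 LD3_c38)) :=
  Lre_c IH (LK LD1_c16 LD2_c43 LD3_c29) (LK LD1_c16 LD2_c43 LD3_c38) Lrfl Lrfl
theorem f382878 : Led Lsl_ct (LP (LK LD1_c16 LD2_c43 LD3_c46)) = (LP (LK LD1_c10 LD2_c35 LD3_c58)) :=
  Lgr Lrot91 (Lpe (f226214 IH) (Lpe (f226228 IH) (Lpr_ct (f226229 IH) (Lpr_gf (f382876 IH) (Lpe (f173490 IH) (Lpr_bt (K27.f173486 IH) (Lpr_gf (K30.f341314 IH) (Lpr_bf (K30.f289134 IH) (Lpr_ct (K17.f225416 IH) (Lpe (f277110 IH) (Lpn (LP (LK LD1_c10 LD2_c35 LD3_c58)))))))))))))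
theorem f389239 : Led Lsl_af (LP (LK LD1_c16 LD2_c43 LD3_c46)) = (LP (LK LD1_c10 LD2_c48 LD3_c60)) :=
  Lgr Lrot68 (Lpr_ct (f382878 IH) (Lpr_at (f389237 IH) (Lpe (K30.f384821 IH) (Lpn (LP (LK LD1_c10 LD2_c48 LD3_c60))))))
theorem f277125 : Led Lsl_bt (LP (LK LD1_c5 LD2_c36 LD3_c18)) = (LP (LK LD1_c11 LD2_c4 LD3_c53)) :=
  Lre_b IH (LK LD1_c5 LD2_c36 LD3_c18) (LK LD1_c11 LD2_c4 LD3_c53) Lrfl Lrfl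
theorem f389207 : Led Lsl_ft (LP (LK LD1_c11 LD2_c4 LD3_c53)) = (LP (LK LD1_c10 LD2_c48 LD3_c60)) :=
  Lgr Lrot75 (Lpe (f277125 IH) (Lpr_ff (f389203 IH) (Lpe (K30.f173998 IH) (Lpn (LP (LK LD1_c10 LD2_c48 LD3_c60))))))
theorem f389251 : Led Lsl_gf (LP (LK LD1_c8 LD2_c56 LD3_c14)) = (LP (LK LD1_c11 LD2_c4 LD3_c53)) :=
  Lgr Lrot47 (Lpr_gt (f226214 IH) (Lpr_af (f389239 IH) (Lpe (f389207 IH) (Lpn (LP (LK LD1_c11 LD2_c4 LD3_c53))))))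
theorem f226205 : Led Lsl_dt (LP (LK LD1_c8 LD2_c56 LD3_c14)) = (LP (LK LD1_c10 LD2_c57 LD3_c9)) :=
  Lgr Lrot27 (Lpe (K30.f225401 IH) (Lpe (K30.f183322 IH) (Lpe (K30.f183317 IH) (Lpe (K30.f183316 IH) (Lpr_df (K14.f225388 IH) (Lpe (K20.f226144 IH) (Lpr_ct (K20.f220436 IH) (Lpr_gt (K20.f226171 IH) (Lpr_ct (K30.f226191 IH) (Lpn (LP (LK LD1_c10 LD2_c57 LD3_c9))))))))))))
theorem f168811 : Led Lsl_ct (LP (LK LD1_c9 LD2_c44 LD3_c15)) = (LP (LK LD1_c4 LD2_c56 LD3_c17)) :=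
  Lre_c IH (LK LD1_c9 LD2_c44 LD3_c15) (LK LD1_c4 LD2_c56 LD3_c17) Lrfl Lrfl
theorem f168816 : Led Lsl_dt (LP (LK LD1_c9 LD2_c44 LD3_c16)) = (LP (LK LD1_c4 LD2_c56 LD3_c17)) :=
  Lre_d IH (LK LD1_c9 LD2_c44 LD3_c16) (LK LD1_c4 LD2_c56 LD3_c17) Lrfl Lrfl
theorem f387640 : Led Lsl_gt (LP (LK LD1_c11 LD2_c9 LD3_c55)) = (LP (LK LD1_c17 LD2_c53 LD3_c36)) :=
  Lgr Lrot150 (Lpe (K30.f171869 IH) (Lpr_gf (f387636 IH) (Lpe (f168817 IH) (Lpr_gt (K22.f167919 IH) (Lpr_ct (K22.f168162 IH) (Lpe (K22.f168808 IH) (Lpr_ct (f168811 IH) (Lpe (f168816 IH) (Lpe (f168814 IH) (Lpn (LP (LK LD1_c17 LD2_c53 LD3_c36))))))))))))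
theorem f332490 : Led Lsl_bt (LP (LK LD1_c9 LD2_c44 LD3_c16)) = (LP (LK LD1_c4 LD2_c56 LD3_c19)) :=
  Lre_b IH (LK LD1_c9 LD2_c44 LD3_c16) (LK LD1_c4 LD2_c56 LD3_c19) Lrfl Lrfl
theorem f180402 : Led Lsl_dt (LP (LK LD1_c0 LD2_c36 LD3_c17)) = (LP (LK LD1_c1 LD2_c18 LD3_c44)) :=
  Lre_d IH (LK LD1_c0 LD2_c36 LD3_c17) (LK LD1_c1 LD2_c18 LD3_c44) Lrfl Lrfl
theorem f228912 : Led Lsl_bf (LP (LK LD1_c0 LD2_c26 LD3_c50)) = (LP (LK LD1_c0 LD2_c31 LD3_c42)) :=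
  Lgr Lrot24 (Lpr_bt (K17.f228908 IH) (Lpn (LP (LK LD1_c0 LD2_c31 LD3_c42))))
theorem f228914 : Led Lsl_ct (LP (LK LD1_c0 LD2_c58 LD3_c18)) = (LP (LK LD1_c0 LD2_c31 LD3_c42)) :=
  Lgr Lrot83 (Lpe (K15.f228901 IH) (Lpe (K14.f228894 IH) (Lpe (K14.f228899 IH) (Lpe (K14.f228900 IH) (Lpr_bf (f228912 IH) (Lpn (LP (LK LD1_c0 LD2_c31 LD3_c42))))))))
theorem f267730 : Led Lsl_df (LP (LK LD1_c0 LD2_c31 LD3_c42)) = (LP (LK LD1_c0 LD2_c16 LD3_c8)) :=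
  Lgr Lrot84 (Lpe (f228914 IH) (Lpe (K21.f267717 IH) (Lpr_gf (K15.f267724 IH) (Lpe (K9.f168293 IH) (Lpe (K9.f43097 IH) (Lpe (K9.f9472 IH) (Lpr_gt (K9.f9486 IH) (Lpr_dt (K9.f9490 IH) (Lpe (K15.f226693 IH) (Lpn (LP (LK LD1_c0 LD2_c16 LD3_c8))))))))))))
theorem f267771 : Led Lsl_gf (LP (LK LD1_c0 LD2_c17 LD3_c40)) = (LP (LK LD1_c0 LD2_c31 LD3_c42)) :=
  Lgr Lrot147 (Lpr_ct (K9.f20807 IH) (Lpr_gt (K9.f178297 IH) (Lpr_ct (K9.f165141 IH) (Lpe (K9.f53174 IH) (Lpe (K9.f165067 IH) (Lpe (K9.f164710 IH) (Lpe (K9.f164709 IH) (Lpe (K12.f164307 IH) (Lpr_df (K15.f267761 IH) (Lpn (LP (LK LD1_c0 LD2_c31 LD3_c42))))))))))))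
theorem f319418 : Led Lsl_gt (LP (LK LD1_c1 LD2_c18 LD3_c44)) = (LP (LK LD1_c1 LD2_c3 LD3_c35)) :=
  Lgr Lrot49 (Lpe (f180402 IH) (Lpr_gf (K20.f319414 IH) (Lpe (K12.f165209 IH) (Lpe (K15.f226693 IH) (Lpe (f267730 IH) (Lpe (f267771 IH) (Lpe (K9.f20627 IH) (Lpe (K9.f20643 IH) (Lpe (K30.f20640 IH) (Lpn (LP (LK LD1_c1 LD2_c3 LD3_c35))))))))))))
theorem f319422 : Led Lsl_cf (LP (LK LD1_c1 LD2_c18 LD3_c44)) = (LP (LK LD1_c2 LD2_c42 LD3_c4)) :=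
  Lgr Lrot14 (Lpe (f180402 IH) (Lpr_gf (K20.f319414 IH) (Lpe (K9.f165210 IH) (Lpr_gf (K9.f172135 IH) (Lpe (K1.f40737 IH) (Lpr_gt (K9.f169277 IH) (Lpr_dt (K9.f169276 IH) (Lpr_gt (K12.f179191 IH) (Lpe (K12.f183310 IH) (Lpn (LP (LK LD1_c2 LD2_c42 LD3_c4))))))))))))
theorem f387642 : Led Lsl_gt (LP (LK LD1_c4 LD2_c56 LD3_c19)) = (LP (LK LD1_c5 LD2_c31 LD3_c50)) :=
  Lgr Lrot164 (Lpe (f332490 IH) (Lpr_ct (f332433 IH) (Lpe (f387640 IH) (Lpe (K30.f171869 IH) (Lpr_gf (f387636 IH) (Lpe (K20.f289595 IH) (Lpr_ct (K20.f226535 IH) (Lpe (f319418 IH) (Lpr_cf (f319422 IH) (Lpr_bt (K30.f288004 IH) (Lpn (LP (LK LD1_c5 LD2_c31 LD3_c50)))))))))))))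
theorem f387653 : Led Lsl_ft (LP (LK LD1_c4 LD2_c56 LD3_c19)) = (LP (LK LD1_c9 LD2_c44 LD3_c0)) :=
  Lre_f IH (LK LD1_c4 LD2_c56 LD3_c19) (LK LD1_c9 LD2_c44 LD3_c0) Lrfl Lrfl
theorem f387654 : Led Lsl_at (LP (LK LD1_c9 LD2_c44 LD3_c0)) = (LP (LK LD1_c4 LD2_c56 LD3_c14)) :=
  Lre_a IH (LK LD1_c9 LD2_c44 LD3_c0) (LK LD1_c4 LD2_c56 LD3_c14) Lrfl Lrfl
theorem f387655 : Led Lsl_gf (LP (LK LD1_c4 LD2_c56 LD3_c14)) = (LP (LK LD1_c5 LD2_c31 LD3_c50)) :=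
  Lgr Lrot76 (Lpe (f387654 IH) (Lpe (f387653 IH) (Lpr_gt (f387642 IH) (Lpn (LP (LK LD1_c5 LD2_c31 LD3_c50))))))
theorem f180400 : Led Lsl_gf (LP (LK LD1_c2 LD2_c12 LD3_c8)) = (LP (LK LD1_c2 LD2_c40 LD3_c39)) :=
  Lgr Lrot144 (Lpr_dt (K15.f180399 IH) (Lpr_gt (K12.f177504 IH) (Lpr_dt (K12.f9214 IH) (Lpe (K9.f169302 IH) (Lpe (K9.f168864 IH) (Lpe (K9.f23960 IH) (Lpe (K10.f173367 IH) (Lpe (K10.f180280 IH) (Lpr_cf (K20.f180284 IH) (Lpn (LP (LK LD1_c2 LD2_c40 LD3_c39))))))))))))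
theorem f173025 : Led Lsl_bt (LP (LK LD1_c5 LD2_c28 LD3_c42)) = (LP (LK LD1_c2 LD2_c40 LD3_c39)) :=
  Lre_b IH (LK LD1_c5 LD2_c28 LD3_c42) (LK LD1_c2 LD2_c40 LD3_c39) Lrfl Lrfl
theorem f387663 : Led Lsl_gt (LP (LK LD1_c17 LD2_c53 LD3_c20)) = (LP (LK LD1_c10 LD2_c48 LD3_c28)) :=
  Lgr Lrot65 (Lpe (K22.f332368 IH) (Lpr_bt (K22.f332373 IH) (Lpr_gf (f387655 IH) (Lpe (K30.f288004 IH) (Lpe (f319422 IH) (Lpr_gf (K20.f319448 IH) (Lpr_cf (K24.f174742 IH) (Lpr_gf (f180400 IH) (Lpe (f173025 IH) (Lpr_ct (K30.f173000 IH) (Lpn (LP (LK LD1_c10 LD2_c48 LD3_c28)))))))))))))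
theorem f173017 : Led Lsl_gt (LP (LK LD1_c10 LD2_c48 LD3_c28)) = (LP (LK LD1_c19 LD2_c32 LD3_c33)) :=
  Lre_g IH (LK LD1_c10 LD2_c48 LD3_c28) (LK LD1_c19 LD2_c32 LD3_c33) Lrfl Lrfl
theorem f387669 : Led Lsl_at (LP (LK LD1_c19 LD2_c21 LD3_c21)) = (LP (LK LD1_c19 LD2_c32 LD3_c33)) :=
  Lgr Lrot26 (Lpr_ff (K22.f332377 IH) (Lpr_gt (f387663 IH) (Lpr_gt (f173017 IH) (Lpn (LP (LK LD1_c19 LD2_c32 LD3_c33))))))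
theorem f332384 : Led Lsl_at (LP (LK LD1_c19 LD2_c20 LD3_c60)) = (LP (LK LD1_c17 LD2_c53 LD3_c20)) :=
  Lgr Lrot100 (Lpr_af (K22.f332382 IH) (Lpn (LP (LK LD1_c17 LD2_c53 LD3_c20))))
theorem f387675 : Led Lsl_ff (LP (LK LD1_c19 LD2_c20 LD3_c60)) = (LP (LK LD1_c19 LD2_c32 LD3_c33)) :=
  Lgr Lrot30 (Lpr_at (f332384 IH) (Lpe (K22.f332377 IH) (Lpr_at (f387669 IH) (Lpn (LP (LK LD1_c19 LD2_c32 LD3_c33))))))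
theorem f332370 : Led Lsl_ft (LP (LK LD1_c10 LD2_c41 LD3_c21)) = (LP (LK LD1_c19 LD2_c21 LD3_c0)) :=
  Lre_f IH (LK LD1_c10 LD2_c41 LD3_c21) (LK LD1_c19 LD2_c21 LD3_c0) Lrfl Lrfl
theorem f387677 : Led Lsl_ct (LP (LK LD1_c19 LD2_c21 LD3_c0)) = (LP (LK LD1_c19 LD2_c32 LD3_c33)) :=
  Lgr Lrot40 (Lpe (f332370 IH) (Lpe (K22.f226132 IH) (Lpr_ff (f387675 IH) (Lpn (LP (LK LD1_c19 LD2_c32 LD3_c33))))))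
theorem f277286 : Led Lsl_gf (LP (LK LD1_c19 LD2_c48 LD3_c58)) = (LP (LK LD1_c19 LD2_c32 LD3_c33)) :=
  Lgr Lrot76 (Lpe (K30.f225411 IH) (Lpr_ff (K30.f277281 IH) (Lpr_gt (f173017 IH) (Lpn (LP (LK LD1_c19 LD2_c32 LD3_c33))))))
theorem f387683 : Led Lsl_gf (LP (LK LD1_c19 LD2_c21 LD3_c0)) = (LP (LK LD1_c10 LD2_c57 LD3_c9)) :=
  Lgr Lrot147 (Lpr_ct (f387677 IH) (Lpe (f277286 IH) (Lpr_ct (K22.f225412 IH) (Lpe (K30.f225394 IH) (Lpe (K30.f225406 IH) (Lpe (f277110 IH) (Lpe (f382878 IH) (Lpe (f226214 IH) (Lpr_df (K30.f226207 IH) (Lpn (LP (LK LD1_c10 LD2_c57 LD3_c9))))))))))))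
theorem f332323 : Led Lsl_dt (LP (LK LD1_c19 LD2_c21 LD3_c0)) = (LP (LK LD1_c10 LD2_c41 LD3_c23)) :=
  Lre_d IH (LK LD1_c19 LD2_c21 LD3_c0) (LK LD1_c10 LD2_c41 LD3_c23) Lrfl Lrfl
theorem f332324 : Led Lsl_ct (LP (LK LD1_c10 LD2_c41 LD3_c23)) = (LP (LK LD1_c5 LD2_c25 LD3_c17)) :=
  Lre_c IH (LK LD1_c10 LD2_c41 LD3_c23) (LK LD1_c5 LD2_c25 LD3_c17) Lrfl Lrfl
theorem f332325 : Led Lsl_dt (LP (LK LD1_c10 LD2_c41 LD3_c27)) = (LP (LK LD1_c5 LD2_c25 LD3_c17)) :=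
  Lre_d IH (LK LD1_c10 LD2_c41 LD3_c27) (LK LD1_c5 LD2_c25 LD3_c17) Lrfl Lrfl
theorem f277051 : Led Lsl_dt (LP (LK LD1_c5 LD2_c22 LD3_c51)) = (LP (LK LD1_c10 LD2_c35 LD3_c61)) :=
  Lre_d IH (LK LD1_c5 LD2_c22 LD3_c51) (LK LD1_c10 LD2_c35 LD3_c61) Lrfl Lrfl
theorem f389253 : Led Lsl_gf (LP (LK LD1_c10 LD2_c41 LD3_c27)) = (LP (LK LD1_c10 LD2_c35 LD3_c61)) :=
  Lgr Lrot143 (Lpr_dt (f332325 IH) (Lpe (f332324 IH) (Lpe (f332323 IH) (Lpr_gf (f387683 IH) (Lpe (f226205 IH) (Lpr_gf (f389251 IH) (Lpe (f277126 IH) (Lpr_gt (K30.f277119 IH) (Lpr_dt (f277051 IH) (Lpn (LP (LK LD1_c10 LD2_c35 LD3_c61))))))))))))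
theorem f389255 : Led Lsl_at (LP (LK LD1_c5 LD2_c25 LD3_c20)) = (LP (LK LD1_c10 LD2_c41 LD3_c27)) :=
  Lre_a IH (LK LD1_c5 LD2_c25 LD3_c20) (LK LD1_c10 LD2_c41 LD3_c27) Lrfl Lrfl
theorem f389256 : Led Lsl_ft (LP (LK LD1_c10 LD2_c41 LD3_c12)) = (LP (LK LD1_c5 LD2_c25 LD3_c20)) :=
  Lre_f IH (LK LD1_c10 LD2_c41 LD3_c12) (LK LD1_c5 LD2_c25 LD3_c20) Lrfl Lrfl
theorem f389257 : Led Lsl_gt (LP (LK LD1_c10 LD2_c41 LD3_c12)) = (LP (LK LD1_c10 LD2_c35 LD3_c61)) :=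
  Lgr Lrot5 (Lpr_ft (f389256 IH) (Lpr_at (f389255 IH) (Lpr_gf (f389253 IH) (Lpn (LP (LK LD1_c10 LD2_c35 LD3_c61))))))
theorem f277039 : Led Lsl_dt (LP (LK LD1_c10 LD2_c35 LD3_c61)) = (LP (LK LD1_c5 LD2_c22 LD3_c51)) :=
  Lre_d IH (LK LD1_c10 LD2_c35 LD3_c61) (LK LD1_c5 LD2_c22 LD3_c51) Lrfl Lrfl
theorem f390754 : Led Lsl_gt (LP (LK LD1_c5 LD2_c33 LD3_c48)) = (LP (LK LD1_c5 LD2_c28 LD3_c42)) :=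
  Lgr Lrot49 (Lpe (f390753 IH) (Lpr_gf (f390744 IH) (Lpe (f332334 IH) (Lpe (f332296 IH) (Lpr_dt (f332276 IH) (Lpr_gt (f389257 IH) (Lpr_dt (f277039 IH) (Lpr_cf (K21.f277106 IH) (Lpe (K30.f173013 IH) (Lpn (LP (LK LD1_c5 LD2_c28 LD3_c42))))))))))))
theorem f390769 : Led Lsl_ft (LP (LK LD1_c5 LD2_c33 LD3_c48)) = (LP (LK LD1_c2 LD2_c43 LD3_c6)) :=
  Lre_f IH (LK LD1_c5 LD2_c33 LD3_c48) (LK LD1_c2 LD2_c43 LD3_c6) Lrfl Lrfl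
theorem f390728 : Led Lsl_at (LP (LK LD1_c2 LD2_c43 LD3_c6)) = (LP (LK LD1_c5 LD2_c34 LD3_c3)) :=
  Lre_a IH (LK LD1_c2 LD2_c43 LD3_c6) (LK LD1_c5 LD2_c34 LD3_c3) Lrfl Lrfl
theorem f390770 : Led Lsl_gf (LP (LK LD1_c5 LD2_c34 LD3_c3)) = (LP (LK LD1_c5 LD2_c28 LD3_c42)) :=
  Lgr Lrot76 (Lpe (f390728 IH) (Lpe (f390769 IH) (Lpr_gt (f390754 IH) (Lpn (LP (LK LD1_c5 LD2_c28 LD3_c42))))))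
theorem f172999 : Led Lsl_dt (LP (LK LD1_c2 LD2_c40 LD3_c38)) = (LP (LK LD1_c5 LD2_c28 LD3_c42)) :=
  Lre_d IH (LK LD1_c2 LD2_c40 LD3_c38) (LK LD1_c5 LD2_c28 LD3_c42) Lrfl Lrfl
theorem f267735 : Led Lsl_bt (LP (LK LD1_c5 LD2_c30 LD3_c25)) = (LP (LK LD1_c2 LD2_c41 LD3_c28)) :=
  Lre_b IH (LK LD1_c5 LD2_c30 LD3_c25) (LK LD1_c2 LD2_c41 LD3_c28) Lrfl Lrfl
theorem f267736 : Led Lsl_ct (LP (LK LD1_c5 LD2_c30 LD3_c25)) = (LP (LK LD1_c10 LD2_c52 LD3_c21)) :=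
  Lre_c IH (LK LD1_c5 LD2_c30 LD3_c25) (LK LD1_c10 LD2_c52 LD3_c21) Lrfl Lrfl
theorem f267737 : Led Lsl_gt (LP (LK LD1_c10 LD2_c48 LD3_c23)) = (LP (LK LD1_c10 LD2_c52 LD3_c21)) :=
  Lgr Lrot149 (Lpe (K30.f267734 IH) (Lpe (K30.f267733 IH) (Lpe (f267732 IH) (Lpr_ct (K12.f172408 IH) (Lpr_gf (K15.f267724 IH) (Lpe (K12.f168180 IH) (Lpr_bt (K27.f179122 IH) (Lpe (K30.f234786 IH) (Lpe (f267735 IH) (Lpr_ct (f267736 IH) (Lpn (LP (LK LD1_c10 LD2_c52 LD3_c21)))))))))))))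
theorem f382943 : Led Lsl_dt (LP (LK LD1_c10 LD2_c52 LD3_c22)) = (LP (LK LD1_c5 LD2_c30 LD3_c25)) :=
  Lre_d IH (LK LD1_c10 LD2_c52 LD3_c22) (LK LD1_c5 LD2_c30 LD3_c25) Lrfl Lrfl
theorem f384831 : Led Lsl_ct (LP (LK LD1_c19 LD2_c39 LD3_c28)) = (LP (LK LD1_c10 LD2_c52 LD3_c22)) :=
  Lre_c IH (LK LD1_c19 LD2_c39 LD3_c28) (LK LD1_c10 LD2_c52 LD3_c22) Lrfl Lrfl
theorem f390785 : Led Lsl_gt (LP (LK LD1_c11 LD2_c0 LD3_c18)) = (LP (LK LD1_c19 LD2_c39 LD3_c28)) :=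
  Lgr Lrot150 (Lpe (K30.f387816 IH) (Lpr_gf (f390770 IH) (Lpe (f172999 IH) (Lpr_gt (K30.f267733 IH) (Lpr_ct (K30.f267734 IH) (Lpr_gt (f267737 IH) (Lpr_ct (K30.f277337 IH) (Lpe (f382943 IH) (Lpe (f384831 IH) (Lpn (LP (LK LD1_c19 LD2_c39 LD3_c28))))))))))))
theorem f390827 : Led Lsl_ft (LP (LK LD1_c11 LD2_c0 LD3_c18)) = (LP (LK LD1_c5 LD2_c34 LD3_c1)) :=
  Lre_f IH (LK LD1_c11 LD2_c0 LD3_c18) (LK LD1_c5 LD2_c34 LD3_c1) Lrfl Lrfl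
theorem f390828 : Led Lsl_at (LP (LK LD1_c5 LD2_c34 LD3_c1)) = (LP (LK LD1_c10 LD2_c59 LD3_c35)) :=
  Lre_a IH (LK LD1_c5 LD2_c34 LD3_c1) (LK LD1_c10 LD2_c59 LD3_c35) Lrfl Lrfl
theorem f390829 : Led Lsl_gf (LP (LK LD1_c10 LD2_c59 LD3_c35)) = (LP (LK LD1_c19 LD2_c39 LD3_c28)) :=
  Lgr Lrot76 (Lpe (f390828 IH) (Lpe (f390827 IH) (Lpr_gt (f390785 IH) (Lpn (LP (LK LD1_c19 LD2_c39 LD3_c28))))))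
theorem f387822 : Led Lsl_ct (LP (LK LD1_c5 LD2_c33 LD3_c48)) = (LP (LK LD1_c10 LD2_c59 LD3_c35)) :=
  Lre_c IH (LK LD1_c5 LD2_c33 LD3_c48) (LK LD1_c10 LD2_c59 LD3_c35) Lrfl Lrfl
theorem f384832 : Led Lsl_ct (LP (LK LD1_c10 LD2_c52 LD3_c22)) = (LP (LK LD1_c19 LD2_c39 LD3_c28)) :=
  Lre_c IH (LK LD1_c10 LD2_c52 LD3_c22) (LK LD1_c19 LD2_c39 LD3_c28) Lrfl Lrfl
theorem f390787 : Led Lsl_bt (LP (LK LD1_c10 LD2_c52 LD3_c22)) = (LP (LK LD1_c5 LD2_c30 LD3_c27)) :=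
  Lre_b IH (LK LD1_c10 LD2_c52 LD3_c22) (LK LD1_c5 LD2_c30 LD3_c27) Lrfl Lrfl
theorem f180286 : Led Lsl_bt (LP (LK LD1_c2 LD2_c40 LD3_c39)) = (LP (LK LD1_c5 LD2_c28 LD3_c42)) :=
  Lre_b IH (LK LD1_c2 LD2_c40 LD3_c39) (LK LD1_c5 LD2_c28 LD3_c42) Lrfl Lrfl
theorem f226739 : Led Lsl_bt (LP (LK LD1_c2 LD2_c11 LD3_c51)) = (LP (LK LD1_c4 LD2_c29 LD3_c36)) :=
  Lre_b IH (LK LD1_c2 LD2_c11 LD3_c51) (LK LD1_c4 LD2_c29 LD3_c36) Lrfl Lrfl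
theorem f390788 : Led Lsl_gt (LP (LK LD1_c5 LD2_c30 LD3_c27)) = (LP (LK LD1_c4 LD2_c29 LD3_c36)) :=
  Lgr Lrot164 (Lpe (f390787 IH) (Lpr_ct (f384832 IH) (Lpe (f390785 IH) (Lpe (K30.f387816 IH) (Lpr_gf (f390770 IH) (Lpe (f180286 IH) (Lpe (K20.f180284 IH) (Lpr_gf (K9.f177162 IH) (Lpr_cf (K12.f226705 IH) (Lpr_bt (f226739 IH) (Lpn (LP (LK LD1_c4 LD2_c29 LD3_c36)))))))))))))
theorem f281299 : Led Lsl_at (LP (LK LD1_c8 LD2_c57 LD3_c24)) = (LP (LK LD1_c4 LD2_c29 LD3_c36)) :=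
  Lre_a IH (LK LD1_c8 LD2_c57 LD3_c24) (LK LD1_c4 LD2_c29 LD3_c36) Lrfl Lrfl
theorem f281084 : Led Lsl_dt (LP (LK LD1_c8 LD2_c57 LD3_c24)) = (LP (LK LD1_c4 LD2_c29 LD3_c35)) :=
  Lre_d IH (LK LD1_c8 LD2_c57 LD3_c24) (LK LD1_c4 LD2_c29 LD3_c35) Lrfl Lrfl
theorem f281141 : Led Lsl_ft (LP (LK LD1_c5 LD2_c32 LD3_c39)) = (LP (LK LD1_c8 LD2_c57 LD3_c24)) :=
  Lgr Lrot54 (Lpe (K20.f280648 IH) (Lpr_ff (K20.f281136 IH) (Lpe (f281084 IH) (Lpn (LP (LK LD1_c8 LD2_c57 LD3_c24))))))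
theorem f390793 : Led Lsl_gf (LP (LK LD1_c5 LD2_c30 LD3_c27)) = (LP (LK LD1_c5 LD2_c32 LD3_c39)) :=
  Lgr Lrot47 (Lpr_gt (f390788 IH) (Lpe (f281299 IH) (Lpe (f281141 IH) (Lpn (LP (LK LD1_c5 LD2_c32 LD3_c39))))))
theorem f280646 : Led Lsl_bf (LP (LK LD1_c5 LD2_c32 LD3_c39)) = (LP (LK LD1_c8 LD2_c58 LD3_c4)) :=
  Lgr Lrot24 (Lpr_bt (K20.f280640 IH) (Lpn (LP (LK LD1_c8 LD2_c58 LD3_c4))))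
theorem f226407 : Led Lsl_ct (LP (LK LD1_c2 LD2_c42 LD3_c1)) = (LP (LK LD1_c5 LD2_c31 LD3_c42)) :=
  Lre_c IH (LK LD1_c2 LD2_c42 LD3_c1) (LK LD1_c5 LD2_c31 LD3_c42) Lrfl Lrfl
theorem f280795 : Led Lsl_ft (LP (LK LD1_c5 LD2_c31 LD3_c42)) = (LP (LK LD1_c8 LD2_c58 LD3_c6)) :=
  Lgr Lrot4 (Lpe (f226407 IH) (Lpr_ff (K20.f280787 IH) (Lpe (K20.f174456 IH) (Lpn (LP (LK LD1_c8 LD2_c58 LD3_c6))))))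
theorem f280886 : Led Lsl_gt (LP (LK LD1_c5 LD2_c31 LD3_c42)) = (LP (LK LD1_c10 LD2_c55 LD3_c9)) :=
  Lre_g IH (LK LD1_c5 LD2_c31 LD3_c42) (LK LD1_c10 LD2_c55 LD3_c9) Lrfl Lrfl
theorem f281583 : Led Lsl_gt (LP (LK LD1_c10 LD2_c55 LD3_c9)) = (LP (LK LD1_c16 LD2_c47 LD3_c0)) :=
  Lgr Lrot46 (Lpe (f280886 IH) (Lpr_ft (f280795 IH) (Lpr_at (K20.f174461 IH) (Lpn (LP (LK LD1_c16 LD2_c47 LD3_c0))))))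
theorem f281586 : Led Lsl_ct (LP (LK LD1_c19 LD2_c43 LD3_c32)) = (LP (LK LD1_c10 LD2_c55 LD3_c9)) :=
  Lre_c IH (LK LD1_c19 LD2_c43 LD3_c32) (LK LD1_c10 LD2_c55 LD3_c9) Lrfl Lrfl
theorem f390834 : Led Lsl_gt (LP (LK LD1_c10 LD2_c59 LD3_c30)) = (LP (LK LD1_c19 LD2_c43 LD3_c32)) :=
  Lgr Lrot82 (Lpe (K30.f387588 IH) (Lpr_ct (f387822 IH) (Lpr_gf (f390829 IH) (Lpe (f384832 IH) (Lpr_bt (f390787 IH) (Lpr_gf (f390793 IH) (Lpr_bf (f280646 IH) (Lpr_ct (K20.f280639 IH) (Lpe (f281583 IH) (Lpe (f281586 IH) (Lpn (LP (LK LD1_c19 LD2_c43 LD3_c32)))))))))))))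
theorem f280467 : Led Lsl_ct (LP (LK LD1_c16 LD2_c47 LD3_c0)) = (LP (LK LD1_c8 LD2_c58 LD3_c4)) :=
  Lre_c IH (LK LD1_c16 LD2_c47 LD3_c0) (LK LD1_c8 LD2_c58 LD3_c4) Lrfl Lrfl
theorem f280817 : Led Lsl_dt (LP (LK LD1_c4 LD2_c29 LD3_c58)) = (LP (LK LD1_c8 LD2_c58 LD3_c4)) :=
  Lre_d IH (LK LD1_c4 LD2_c29 LD3_c58) (LK LD1_c8 LD2_c58 LD3_c4) Lrfl Lrfl
theorem f280661 : Led Lsl_ct (LP (LK LD1_c8 LD2_c57 LD3_c50)) = (LP (LK LD1_c4 LD2_c29 LD3_c58)) :=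
  Lre_c IH (LK LD1_c8 LD2_c57 LD3_c50) (LK LD1_c4 LD2_c29 LD3_c58) Lrfl Lrfl
theorem f173049 : Led Lsl_ct (LP (LK LD1_c10 LD2_c53 LD3_c45)) = (LP (LK LD1_c5 LD2_c31 LD3_c6)) :=
  Lre_c IH (LK LD1_c10 LD2_c53 LD3_c45) (LK LD1_c5 LD2_c31 LD3_c6) Lrfl Lrfl
theorem f390839 : Led Lsl_gt (LP (LK LD1_c5 LD2_c33 LD3_c46)) = (LP (LK LD1_c10 LD2_c53 LD3_c45)) :=
  Lgr Lrot9 (Lpe (f390628 IH) (Lpr_gt (f390834 IH) (Lpr_ct (f281586 IH) (Lpr_gt (f281583 IH) (Lpr_ct (f280467 IH) (Lpe (f280817 IH) (Lpe (f280661 IH) (Lpe (K27.f281694 IH) (Lpe (f173049 IH) (Lpn (LP (LK LD1_c10 LD2_c53 LD3_c45))))))))))))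
theorem f200774 : Led Lsl_bt (LP (LK LD1_c8 LD2_c27 LD3_c6)) = (LP (LK LD1_c15 LD2_c52 LD3_c11)) :=
  Lre_b IH (LK LD1_c8 LD2_c27 LD3_c6) (LK LD1_c15 LD2_c52 LD3_c11) Lrfl Lrfl
theorem f253191 : Led Lsl_ct (LP (LK LD1_c5 LD2_c31 LD3_c6)) = (LP (LK LD1_c10 LD2_c53 LD3_c45)) :=
  Lre_c IH (LK LD1_c5 LD2_c31 LD3_c6) (LK LD1_c10 LD2_c53 LD3_c45) Lrfl Lrfl
theorem f253196 : Led Lsl_bt (LP (LK LD1_c5 LD2_c31 LD3_c6)) = (LP (LK LD1_c10 LD2_c53 LD3_c44)) :=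
  Lre_b IH (LK LD1_c5 LD2_c31 LD3_c6) (LK LD1_c10 LD2_c53 LD3_c44) Lrfl Lrfl
theorem f390845 : Led Lsl_gf (LP (LK LD1_c15 LD2_c52 LD3_c11)) = (LP (LK LD1_c10 LD2_c53 LD3_c44)) :=
  Lgr Lrot124 (Lpe (f200774 IH) (Lpr_ct (f200779 IH) (Lpe (f389838 IH) (Lpr_cf (f319656 IH) (Lpr_bt (K30.f319650 IH) (Lpe (f390622 IH) (Lpr_ct (f387581 IH) (Lpr_gt (f390839 IH) (Lpe (f253191 IH) (Lpr_bt (f253196 IH) (Lpn (LP (LK LD1_c10 LD2_c53 LD3_c44)))))))))))))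
theorem f253200 : Led Lsl_gt (LP (LK LD1_c19 LD2_c41 LD3_c23)) = (LP (LK LD1_c10 LD2_c53 LD3_c44)) :=
  Lre_g IH (LK LD1_c19 LD2_c41 LD3_c23) (LK LD1_c10 LD2_c53 LD3_c44) Lrfl Lrfl
theorem f390847 : Led Lsl_ff (LP (LK LD1_c25 LD2_c47 LD3_c58)) = (LP (LK LD1_c19 LD2_c41 LD3_c23)) :=
  Lgr Lrot52 (Lpr_at (f389575 IH) (Lpr_gf (f390845 IH) (Lpe (f253200 IH) (Lpn (LP (LK LD1_c19 LD2_c41 LD3_c23))))))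
theorem f390857 : Led Lsl_ft (LP (LK LD1_c25 LD2_c47 LD3_c58)) = (LP (LK LD1_c19 LD2_c41 LD3_c23)) :=
  Lgr Lrot48 (Lpr_ff (f390847 IH) (Lpn (LP (LK LD1_c19 LD2_c41 LD3_c23))))
theorem f389592 : Led Lsl_ct (LP (LK LD1_c17 LD2_c48 LD3_c37)) = (LP (LK LD1_c25 LD2_c47 LD3_c58)) :=
  Lgr Lrot59 (Lpr_cf (f389589 IH) (Lpn (LP (LK LD1_c25 LD2_c47 LD3_c58))))
theorem f389719 : Led Lsl_ft (LP (LK LD1_c27 LD2_c35 LD3_c42)) = (LP (LK LD1_c17 LD2_c48 LD3_c37)) :=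
  Lre_f IH (LK LD1_c27 LD2_c35 LD3_c42) (LK LD1_c17 LD2_c48 LD3_c37) Lrfl Lrfl
theorem f390863 : Led Lsl_cf (LP (LK LD1_c27 LD2_c35 LD3_c42)) = (LP (LK LD1_c19 LD2_c41 LD3_c23)) :=
  Lgr Lrot108 (Lpr_ft (f389719 IH) (Lpr_ct (f389592 IH) (Lpr_ft (f390857 IH) (Lpn (LP (LK LD1_c19 LD2_c41 LD3_c23))))))
theorem f201203 : Led Lsl_cf (LP (LK LD1_c17 LD2_c52 LD3_c2)) = (LP (LK LD1_c15 LD2_c51 LD3_c35)) :=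
  Lgr Lrot11 (Lpr_ct (K22.f201194 IH) (Lpn (LP (LK LD1_c15 LD2_c51 LD3_c35))))
theorem f221509 : Led Lsl_ct (LP (LK LD1_c15 LD2_c51 LD3_c46)) = (LP (LK LD1_c16 LD2_c36 LD3_c39)) :=
  Lgr Lrot59 (Lpr_cf (K27.f221500 IH) (Lpn (LP (LK LD1_c16 LD2_c36 LD3_c39))))
theorem f213019 : Led Lsl_bt (LP (LK LD1_c2 LD2_c11 LD3_c18)) = (LP (LK LD1_c4 LD2_c28 LD3_c22)) :=
  Lre_b IH (LK LD1_c2 LD2_c11 LD3_c18) (LK LD1_c4 LD2_c28 LD3_c22) Lrfl Lrfl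
theorem f367583 : Led Lsl_ft (LP (LK LD1_c4 LD2_c28 LD3_c22)) = (LP (LK LD1_c8 LD2_c53 LD3_c4)) :=
  Lgr Lrot75 (Lpe (f213019 IH) (Lpr_ff (K27.f367581 IH) (Lpe (K27.f220805 IH) (Lpn (LP (LK LD1_c8 LD2_c53 LD3_c4))))))
theorem f213020 : Led Lsl_gt (LP (LK LD1_c4 LD2_c28 LD3_c22)) = (LP (LK LD1_c8 LD2_c54 LD3_c49)) :=
  Lre_g IH (LK LD1_c4 LD2_c28 LD3_c22) (LK LD1_c8 LD2_c54 LD3_c49) Lrfl Lrfl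
theorem f377092 : Led Lsl_gt (LP (LK LD1_c8 LD2_c54 LD3_c49)) = (LP (LK LD1_c16 LD2_c36 LD3_c39)) :=
  Lgr Lrot46 (Lpe (f213020 IH) (Lpr_ft (f367583 IH) (Lpr_at (K27.f221499 IH) (Lpn (LP (LK LD1_c16 LD2_c36 LD3_c39))))))
theorem f375182 : Led Lsl_ct (LP (LK LD1_c16 LD2_c40 LD3_c31)) = (LP (LK LD1_c8 LD2_c54 LD3_c49)) :=
  Lre_c IH (LK LD1_c16 LD2_c40 LD3_c31) (LK LD1_c8 LD2_c54 LD3_c49) Lrfl Lrfl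
theorem f375183 : Led Lsl_bt (LP (LK LD1_c16 LD2_c40 LD3_c31)) = (LP (LK LD1_c26 LD2_c39 LD3_c14)) :=
  Lre_b IH (LK LD1_c16 LD2_c40 LD3_c31) (LK LD1_c26 LD2_c39 LD3_c14) Lrfl Lrfl
theorem f389582 : Led Lsl_ff (LP (LK LD1_c31 LD2_c41 LD3_c6)) = (LP (LK LD1_c25 LD2_c47 LD3_c49)) :=
  Lgr Lrot3 (Lpr_ft (f389579 IH) (Lpn (LP (LK LD1_c25 LD2_c47 LD3_c49))))
theorem f390861 : Led Lsl_bf (LP (LK LD1_c25 LD2_c47 LD3_c49)) = (LP (LK LD1_c19 LD2_c41 LD3_c23)) :=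
  Lgr Lrot61 (Lpe (f389582 IH) (Lpr_bt (f389576 IH) (Lpr_ft (f390857 IH) (Lpn (LP (LK LD1_c19 LD2_c41 LD3_c23))))))
theorem f390865 : Led Lsl_gf (LP (LK LD1_c26 LD2_c39 LD3_c14)) = (LP (LK LD1_c25 LD2_c47 LD3_c49)) :=
  Lgr Lrot124 (Lpe (f375183 IH) (Lpr_ct (f375182 IH) (Lpr_gt (f377092 IH) (Lpe (f221509 IH) (Lpe (K27.f370058 IH) (Lpe (K27.f369168 IH) (Lpe (f201203 IH) (Lpr_gt (f389725 IH) (Lpr_cf (f390863 IH) (Lpe (f390861 IH) (Lpn (LP (LK LD1_c25 LD2_c47 LD3_c49)))))))))))))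
theorem f218031 : Led Lsl_ft (LP (LK LD1_c25 LD2_c47 LD3_c52)) = (LP (LK LD1_c15 LD2_c52 LD3_c6)) :=
  Lre_f IH (LK LD1_c25 LD2_c47 LD3_c52) (LK LD1_c15 LD2_c52 LD3_c6) Lrfl Lrfl
theorem f389774 : Led Lsl_ff (LP (LK LD1_c18 LD2_c44 LD3_c14)) = (LP (LK LD1_c24 LD2_c50 LD3_c31)) :=
  Lgr Lrot23 (Lpr_ct (f389765 IH) (Lpr_ft (f218031 IH) (Lpe (K15.f218023 IH) (Lpn (LP (LK LD1_c24 LD2_c50 LD3_c31))))))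
theorem f389778 : Led Lsl_ft (LP (LK LD1_c18 LD2_c44 LD3_c14)) = (LP (LK LD1_c24 LD2_c50 LD3_c31)) :=
  Lgr Lrot48 (Lpr_ff (f389774 IH) (Lpn (LP (LK LD1_c24 LD2_c50 LD3_c31))))
theorem f389780 : Led Lsl_af (LP (LK LD1_c18 LD2_c44 LD3_c13)) = (LP (LK LD1_c24 LD2_c50 LD3_c31)) :=
  Lgr Lrot45 (Lpr_ft (f389755 IH) (Lpe (f389761 IH) (Lpr_ft (f389778 IH) (Lpn (LP (LK LD1_c24 LD2_c50 LD3_c31))))))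
theorem f389783 : Led Lsl_ct (LP (LK LD1_c18 LD2_c44 LD3_c13)) = (LP (LK LD1_c25 LD2_c47 LD3_c49)) :=
  Lgr Lrot111 (Lpr_af (f389780 IH) (Lpr_cf (K15.f218023 IH) (Lpe (f218025 IH) (Lpn (LP (LK LD1_c25 LD2_c47 LD3_c49))))))
theorem f389751 : Led Lsl_bt (LP (LK LD1_c18 LD2_c44 LD3_c13)) = (LP (LK LD1_c27 LD2_c35 LD3_c43)) :=
  Lgr Lrot127 (Lpr_bf (f389747 IH) (Lpn (LP (LK LD1_c27 LD2_c35 LD3_c43))))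
theorem f290618 : Led Lsl_gt (LP (LK LD1_c15 LD2_c2 LD3_c42)) = (LP (LK LD1_c7 LD2_c58 LD3_c29)) :=
  Lre_g IH (LK LD1_c15 LD2_c2 LD3_c42) (LK LD1_c7 LD2_c58 LD3_c29) Lrfl Lrfl
theorem f290784 : Led Lsl_bt (LP (LK LD1_c24 LD2_c51 LD3_c30)) = (LP (LK LD1_c15 LD2_c2 LD3_c42)) :=
  Lre_b IH (LK LD1_c24 LD2_c51 LD3_c30) (LK LD1_c15 LD2_c2 LD3_c42) Lrfl Lrfl
theorem f390867 : Led Lsl_cf (LP (LK LD1_c26 LD2_c39 LD3_c14)) = (LP (LK LD1_c24 LD2_c51 LD3_c30)) :=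
  Lgr Lrot58 (Lpr_gf (f390865 IH) (Lpe (f389783 IH) (Lpr_bt (f389751 IH) (Lpe (f389731 IH) (Lpe (f290415 IH) (Lpr_ct (f290417 IH) (Lpe (f44649 IH) (Lpr_cf (f303495 IH) (Lpe (f290618 IH) (Lpe (f290784 IH) (Lpn (LP (LK LD1_c24 LD2_c51 LD3_c30)))))))))))))
theorem f390870 : Led Lsl_bt (LP (LK LD1_c26 LD2_c39 LD3_c14)) = (LP (LK LD1_c16 LD2_c40 LD3_c31)) :=
  Lre_b IH (LK LD1_c26 LD2_c39 LD3_c14) (LK LD1_c16 LD2_c40 LD3_c31) Lrfl Lrfl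
theorem f390871 : Led Lsl_bt (LP (LK LD1_c8 LD2_c54 LD3_c49)) = (LP (LK LD1_c16 LD2_c40 LD3_c30)) :=
  Lre_b IH (LK LD1_c8 LD2_c54 LD3_c49) (LK LD1_c16 LD2_c40 LD3_c30) Lrfl Lrfl
theorem f390872 : Led Lsl_bt (LP (LK LD1_c15 LD2_c2 LD3_c42)) = (LP (LK LD1_c24 LD2_c51 LD3_c30)) :=
  Lre_b IH (LK LD1_c15 LD2_c2 LD3_c42) (LK LD1_c24 LD2_c51 LD3_c30) Lrfl Lrfl
theorem f390873 : Led Lsl_ct (LP (LK LD1_c16 LD2_c40 LD3_c30)) = (LP (LK LD1_c15 LD2_c2 LD3_c42)) :=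
  Lgr Lrot83 (Lpe (f390871 IH) (Lpe (f375182 IH) (Lpe (f390870 IH) (Lpr_cf (f390867 IH) (Lpe (f390872 IH) (Lpn (LP (LK LD1_c15 LD2_c2 LD3_c42))))))))
theorem f390904 : Led Lsl_gt (LP (LK LD1_c26 LD2_c39 LD3_c12)) = (LP (LK LD1_c16 LD2_c40 LD3_c30)) :=
  Lre_g IH (LK LD1_c26 LD2_c39 LD3_c12) (LK LD1_c16 LD2_c40 LD3_c30) Lrfl Lrfl
theorem f276522 : Led Lsl_ct (LP (LK LD1_c8 LD2_c54 LD3_c8)) = (LP (LK LD1_c4 LD2_c28 LD3_c8)) :=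
  Lre_c IH (LK LD1_c8 LD2_c54 LD3_c8) (LK LD1_c4 LD2_c28 LD3_c8) Lrfl Lrfl
theorem f303515 : Led Lsl_ct (LP (LK LD1_c8 LD2_c52 LD3_c58)) = (LP (LK LD1_c7 LD2_c58 LD3_c29)) :=
  Lgr Lrot40 (Lpr_ff (K16.f276516 IH) (Lpe (f276522 IH) (Lpr_ff (K18.f303503 IH) (Lpn (LP (LK LD1_c7 LD2_c58 LD3_c29))))))
theorem f213500 : Led Lsl_bt (LP (LK LD1_c8 LD2_c52 LD3_c58)) = (LP (LK LD1_c4 LD2_c27 LD3_c34)) :=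
  Lre_b IH (LK LD1_c8 LD2_c52 LD3_c58) (LK LD1_c4 LD2_c27 LD3_c34) Lrfl Lrfl
theorem f290465 : Led Lsl_ct (LP (LK LD1_c16 LD2_c41 LD3_c14)) = (LP (LK LD1_c9 LD2_c51 LD3_c46)) :=
  Lgr Lrot59 (Lpr_cf (K20.f290463 IH) (Lpn (LP (LK LD1_c9 LD2_c51 LD3_c46))))
theorem f390910 : Led Lsl_bf (LP (LK LD1_c26 LD2_c39 LD3_c12)) = (LP (LK LD1_c16 LD2_c41 LD3_c14)) :=
  Lgr Lrot165 (Lpr_gt (f390904 IH) (Lpr_ct (f390873 IH) (Lpr_gt (f290618 IH) (Lpe (f303515 IH) (Lpr_bt (f213500 IH) (Lpe (K15.f213484 IH) (Lpe (K20.f54140 IH) (Lpr_ct (K12.f54142 IH) (Lpr_gt (K20.f54268 IH) (Lpe (f290465 IH) (Lpn (LP (LK LD1_c16 LD2_c41 LD3_c14)))))))))))))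
theorem f390914 : Led Lsl_bt (LP (LK LD1_c26 LD2_c39 LD3_c12)) = (LP (LK LD1_c16 LD2_c41 LD3_c14)) :=
  Lgr Lrot127 (Lpr_bf (f390910 IH) (Lpn (LP (LK LD1_c16 LD2_c41 LD3_c14))))
theorem f390916 : Led Lsl_af (LP (LK LD1_c26 LD2_c39 LD3_c12)) = (LP (LK LD1_c16 LD2_c41 LD3_c10)) :=
  Lgr Lrot36 (Lpr_bt (f390914 IH) (Lpr_at (K20.f290462 IH) (Lpr_bt (K30.f276485 IH) (Lpr_at (K30.f290394 IH) (Lpr_bt (f290382 IH) (Lpn (LP (LK LD1_c16 LD2_c41 LD3_c10))))))))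
theorem f318519 : Led Lsl_ft (LP (LK LD1_c8 LD2_c55 LD3_c12)) = (LP (LK LD1_c16 LD2_c41 LD3_c10)) :=
  Lre_f IH (LK LD1_c8 LD2_c55 LD3_c12) (LK LD1_c16 LD2_c41 LD3_c10) Lrfl Lrfl
theorem f390920 : Led Lsl_at (LP (LK LD1_c16 LD2_c41 LD3_c29)) = (LP (LK LD1_c8 LD2_c55 LD3_c12)) :=
  Lre_a IH (LK LD1_c16 LD2_c41 LD3_c29) (LK LD1_c8 LD2_c55 LD3_c12) Lrfl Lrfl
theorem f390921 : Led Lsl_ft (LP (LK LD1_c26 LD2_c39 LD3_c12)) = (LP (LK LD1_c16 LD2_c41 LD3_c29)) :=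
  Lgr Lrot101 (Lpr_af (f390916 IH) (Lpe (f318519 IH) (Lpe (f390920 IH) (Lpn (LP (LK LD1_c16 LD2_c41 LD3_c29))))))
theorem f390930 : Led Lsl_gt (LP (LK LD1_c16 LD2_c40 LD3_c30)) = (LP (LK LD1_c8 LD2_c55 LD3_c12)) :=
  Lgr Lrot46 (Lpe (f390904 IH) (Lpr_ft (f390921 IH) (Lpr_at (f390920 IH) (Lpn (LP (LK LD1_c8 LD2_c55 LD3_c12))))))
theorem f390877 : Led Lsl_et (LP (LK LD1_c26 LD2_c39 LD3_c14)) = (LP (LK LD1_c32 LD2_c13 LD3_c50)) :=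
  Lre_e IH (LK LD1_c26 LD2_c39 LD3_c14) (LK LD1_c32 LD2_c13 LD3_c50) Lrfl Lrfl
theorem f390878 : Led Lsl_et (LP (LK LD1_c31 LD2_c41 LD3_c28)) = (LP (LK LD1_c24 LD2_c51 LD3_c30)) :=
  Lre_e IH (LK LD1_c31 LD2_c41 LD3_c28) (LK LD1_c24 LD2_c51 LD3_c30) Lrfl Lrfl
theorem f390879 : Led Lsl_ct (LP (LK LD1_c32 LD2_c13 LD3_c50)) = (LP (LK LD1_c31 LD2_c41 LD3_c28)) :=
  Lgr Lrot15 (Lpe (f390877 IH) (Lpr_cf (f390867 IH) (Lpe (f390878 IH) (Lpn (LP (LK LD1_c31 LD2_c41 LD3_c28))))))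
theorem f390887 : Led Lsl_cf (LP (LK LD1_c32 LD2_c13 LD3_c50)) = (LP (LK LD1_c31 LD2_c41 LD3_c28)) :=
  Lgr Lrot11 (Lpr_ct (f390879 IH) (Lpn (LP (LK LD1_c31 LD2_c41 LD3_c28))))
theorem f390889 : Led Lsl_bt (LP (LK LD1_c32 LD2_c13 LD3_c50)) = (LP (LK LD1_c26 LD2_c39 LD3_c16)) :=
  Lre_b IH (LK LD1_c32 LD2_c13 LD3_c50) (LK LD1_c26 LD2_c39 LD3_c16) Lrfl Lrfl
theorem f390890 : Led Lsl_ct (LP (LK LD1_c26 LD2_c39 LD3_c16)) = (LP (LK LD1_c16 LD2_c40 LD3_c32)) :=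
  Lre_c IH (LK LD1_c26 LD2_c39 LD3_c16) (LK LD1_c16 LD2_c40 LD3_c32) Lrfl Lrfl
theorem f390891 : Led Lsl_bt (LP (LK LD1_c16 LD2_c40 LD3_c32)) = (LP (LK LD1_c26 LD2_c39 LD3_c13)) :=
  Lre_b IH (LK LD1_c16 LD2_c40 LD3_c32) (LK LD1_c26 LD2_c39 LD3_c13) Lrfl Lrfl
theorem f390892 : Led Lsl_bt (LP (LK LD1_c24 LD2_c51 LD3_c32)) = (LP (LK LD1_c31 LD2_c41 LD3_c28)) :=
  Lre_b IH (LK LD1_c24 LD2_c51 LD3_c32) (LK LD1_c31 LD2_c41 LD3_c28) Lrfl Lrfl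
theorem f390893 : Led Lsl_ct (LP (LK LD1_c26 LD2_c39 LD3_c13)) = (LP (LK LD1_c24 LD2_c51 LD3_c32)) :=
  Lgr Lrot83 (Lpe (f390891 IH) (Lpe (f390890 IH) (Lpe (f390889 IH) (Lpr_cf (f390887 IH) (Lpe (f390892 IH) (Lpn (LP (LK LD1_c24 LD2_c51 LD3_c32))))))))
theorem f390898 : Led Lsl_et (LP (LK LD1_c16 LD2_c40 LD3_c30)) = (LP (LK LD1_c26 LD2_c39 LD3_c13)) :=
  Lre_e IH (LK LD1_c16 LD2_c40 LD3_c30) (LK LD1_c26 LD2_c39 LD3_c13) Lrfl Lrfl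
theorem f390899 : Led Lsl_et (LP (LK LD1_c24 LD2_c51 LD3_c32)) = (LP (LK LD1_c15 LD2_c2 LD3_c42)) :=
  Lre_e IH (LK LD1_c24 LD2_c51 LD3_c32) (LK LD1_c15 LD2_c2 LD3_c42) Lrfl Lrfl
theorem f390900 : Led Lsl_cf (LP (LK LD1_c16 LD2_c40 LD3_c30)) = (LP (LK LD1_c15 LD2_c2 LD3_c42)) :=
  Lgr Lrot39 (Lpr_et (f390898 IH) (Lpr_ct (f390893 IH) (Lpr_et (f390899 IH) (Lpn (LP (LK LD1_c15 LD2_c2 LD3_c42))))))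
theorem f174416 : Led Lsl_bt (LP (LK LD1_c16 LD2_c41 LD3_c30)) = (LP (LK LD1_c10 LD2_c54 LD3_c30)) :=
  Lgr Lrot127 (Lpr_bf (K27.f174063 IH) (Lpn (LP (LK LD1_c10 LD2_c54 LD3_c30))))
theorem f390933 : Led Lsl_gf (LP (LK LD1_c24 LD2_c51 LD3_c30)) = (LP (LK LD1_c15 LD2_c2 LD3_c49)) :=
  Lgr Lrot124 (Lpe (f390872 IH) (Lpe (f390900 IH) (Lpr_gt (f390930 IH) (Lpe (K27.f174062 IH) (Lpr_bt (f174416 IH) (Lpe (K20.f318582 IH) (Lpr_ct (K20.f318413 IH) (Lpe (K30.f387615 IH) (Lpr_cf (f387611 IH) (Lpr_bt (f223178 IH) (Lpn (LP (LK LD1_c15 LD2_c2 LD3_c49)))))))))))))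
theorem f54429 : Led Lsl_ct (LP (LK LD1_c5 LD2_c14 LD3_c60)) = (LP (LK LD1_c10 LD2_c19 LD3_c17)) :=
  Lre_c IH (LK LD1_c5 LD2_c14 LD3_c60) (LK LD1_c10 LD2_c19 LD3_c17) Lrfl Lrfl
theorem f375134 : Led Lsl_bf (LP (LK LD1_c16 LD2_c40 LD3_c36)) = (LP (LK LD1_c15 LD2_c51 LD3_c36)) :=
  Lgr Lrot24 (Lpr_bt (f375130 IH) (Lpn (LP (LK LD1_c15 LD2_c51 LD3_c36))))
theorem f375137 : Led Lsl_at (LP (LK LD1_c16 LD2_c40 LD3_c36)) = (LP (LK LD1_c8 LD2_c54 LD3_c52)) :=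
  Lre_a IH (LK LD1_c16 LD2_c40 LD3_c36) (LK LD1_c8 LD2_c54 LD3_c52) Lrfl Lrfl
theorem f369283 : Led Lsl_af (LP (LK LD1_c4 LD2_c14 LD3_c9)) = (LP (LK LD1_c5 LD2_c14 LD3_c59)) :=
  Lgr Lrot117 (Lpr_dt (K16.f188613 IH) (Lpr_at (K27.f369279 IH) (Lpr_dt (K27.f250935 IH) (Lpn (LP (LK LD1_c5 LD2_c14 LD3_c59))))))
theorem f375138 : Led Lsl_bt (LP (LK LD1_c8 LD2_c54 LD3_c52)) = (LP (LK LD1_c5 LD2_c14 LD3_c59)) :=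
  Lgr Lrot62 (Lpe (f375137 IH) (Lpr_bf (f375134 IH) (Lpe (K27.f201162 IH) (Lpe (K18.f201182 IH) (Lpr_af (f369283 IH) (Lpn (LP (LK LD1_c5 LD2_c14 LD3_c59))))))))
theorem f217940 : Led Lsl_ct (LP (LK LD1_c8 LD2_c54 LD3_c52)) = (LP (LK LD1_c4 LD2_c28 LD3_c22)) :=
  Lre_c IH (LK LD1_c8 LD2_c54 LD3_c52) (LK LD1_c4 LD2_c28 LD3_c22) Lrfl Lrfl
theorem f389789 : Led Lsl_gt (LP (LK LD1_c26 LD2_c39 LD3_c14)) = (LP (LK LD1_c25 LD2_c47 LD3_c52)) :=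
  Lgr Lrot82 (Lpe (f375183 IH) (Lpr_ct (f375182 IH) (Lpe (f213020 IH) (Lpe (f217940 IH) (Lpr_bt (f375138 IH) (Lpe (K18.f54451 IH) (Lpe (K15.f33496 IH) (Lpr_ct (f54429 IH) (Lpe (f54485 IH) (Lpr_cf (f389769 IH) (Lpn (LP (LK LD1_c25 LD2_c47 LD3_c52)))))))))))))
theorem f290537 : Led Lsl_gt (LP (LK LD1_c25 LD2_c11 LD3_c19)) = (LP (LK LD1_c15 LD2_c20 LD3_c5)) :=
  Lre_g IH (LK LD1_c25 LD2_c11 LD3_c19) (LK LD1_c15 LD2_c20 LD3_c5) Lrfl Lrfl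
theorem f390940 : Led Lsl_bt (LP (LK LD1_c18 LD2_c44 LD3_c14)) = (LP (LK LD1_c25 LD2_c11 LD3_c19)) :=
  Lgr Lrot22 (Lpr_ct (f389765 IH) (Lpe (f389789 IH) (Lpr_cf (f390867 IH) (Lpr_gf (f390933 IH) (Lpe (f223178 IH) (Lpe (f387611 IH) (Lpr_gf (K30.f387615 IH) (Lpe (K20.f318413 IH) (Lpr_bt (K20.f318393 IH) (Lpe (f290537 IH) (Lpn (LP (LK LD1_c25 LD2_c11 LD3_c19)))))))))))))
theorem f389664 : Led Lsl_at (LP (LK LD1_c8 LD2_c9 LD3_c17)) = (LP (LK LD1_c8 LD2_c3 LD3_c4)) :=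
  Lgr Lrot100 (Lpr_af (f389662 IH) (Lpn (LP (LK LD1_c8 LD2_c3 LD3_c4))))
theorem f238428 : Led Lsl_at (LP (LK LD1_c15 LD2_c9 LD3_c33)) = (LP (LK LD1_c24 LD2_c58 LD3_c39)) :=
  Lre_a IH (LK LD1_c15 LD2_c9 LD3_c33) (LK LD1_c24 LD2_c58 LD3_c39) Lrfl Lrfl
theorem f389821 : Led Lsl_bf (LP (LK LD1_c19 LD2_c49 LD3_c40)) = (LP (LK LD1_c24 LD2_c58 LD3_c39)) :=
  Lgr Lrot81 (Lpr_at (f389819 IH) (Lpr_bt (K11.f53031 IH) (Lpr_at (f389664 IH) (Lpr_bt (f238419 IH) (Lpr_at (f238428 IH) (Lpn (LP (LK LD1_c24 LD2_c58 LD3_c39))))))))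
theorem f390944 : Led Lsl_cf (LP (LK LD1_c24 LD2_c58 LD3_c39)) = (LP (LK LD1_c25 LD2_c11 LD3_c19)) :=
  Lgr Lrot97 (Lpe (f389821 IH) (Lpr_ct (f389801 IH) (Lpr_bt (f389574 IH) (Lpe (f389769 IH) (Lpr_bt (f390940 IH) (Lpn (LP (LK LD1_c25 LD2_c11 LD3_c19))))))))
theorem f390948 : Led Lsl_ct (LP (LK LD1_c24 LD2_c58 LD3_c39)) = (LP (LK LD1_c25 LD2_c11 LD3_c19)) :=
  Lgr Lrot59 (Lpr_cf (f390944 IH) (Lpn (LP (LK LD1_c25 LD2_c11 LD3_c19))))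
theorem f391017 : Led Lsl_af (LP (LK LD1_c24 LD2_c58 LD3_c40)) = (LP (LK LD1_c25 LD2_c11 LD3_c19)) :=
  Lgr Lrot68 (Lpr_ct (f52547 IH) (Lpr_at (f238428 IH) (Lpr_ct (f390948 IH) (Lpn (LP (LK LD1_c25 LD2_c11 LD3_c19))))))
theorem f238406 : Led Lsl_gt (LP (LK LD1_c29 LD2_c6 LD3_c50)) = (LP (LK LD1_c19 LD2_c49 LD3_c20)) :=
  Lre_g IH (LK LD1_c29 LD2_c6 LD3_c50) (LK LD1_c19 LD2_c49 LD3_c20) Lrfl Lrfl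
theorem f391021 : Led Lsl_ft (LP (LK LD1_c29 LD2_c6 LD3_c50)) = (LP (LK LD1_c25 LD2_c11 LD3_c19)) :=
  Lgr Lrot2 (Lpr_gt (f238406 IH) (Lpr_gt (f238383 IH) (Lpr_af (f391017 IH) (Lpn (LP (LK LD1_c25 LD2_c11 LD3_c19))))))
theorem f391025 : Led Lsl_ff (LP (LK LD1_c29 LD2_c6 LD3_c50)) = (LP (LK LD1_c25 LD2_c11 LD3_c19)) :=
  Lgr Lrot3 (Lpr_ft (f391021 IH) (Lpn (LP (LK LD1_c25 LD2_c11 LD3_c19))))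
theorem f391029 : Led Lsl_at (LP (LK LD1_c29 LD2_c6 LD3_c50)) = (LP (LK LD1_c25 LD2_c11 LD3_c18)) :=
  Lgr Lrot26 (Lpr_ff (f391025 IH) (Lpr_gt (f290537 IH) (Lpr_gt (K20.f53036 IH) (Lpn (LP (LK LD1_c25 LD2_c11 LD3_c18))))))
theorem f391033 : Led Lsl_cf (LP (LK LD1_c29 LD2_c6 LD3_c50)) = (LP (LK LD1_c25 LD2_c12 LD3_c60)) :=
  Lgr Lrot1 (Lpr_at (f391029 IH) (Lpe (K22.f53041 IH) (Lpr_at (f53044 IH) (Lpn (LP (LK LD1_c25 LD2_c12 LD3_c60))))))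
theorem f391115 : Led Lsl_ct (LP (LK LD1_c29 LD2_c6 LD3_c50)) = (LP (LK LD1_c25 LD2_c12 LD3_c60)) :=
  Lgr Lrot59 (Lpr_cf (f391033 IH) (Lpn (LP (LK LD1_c25 LD2_c12 LD3_c60))))
theorem f391027 : Led Lsl_bt (LP (LK LD1_c29 LD2_c6 LD3_c50)) = (LP (LK LD1_c24 LD2_c50 LD3_c31)) :=
  Lgr Lrot35 (Lpr_ff (f391025 IH) (Lpe (f390940 IH) (Lpr_ff (f389774 IH) (Lpn (LP (LK LD1_c24 LD2_c50 LD3_c31))))))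
theorem f201117 : Led Lsl_bt (LP (LK LD1_c4 LD2_c4 LD3_c0)) = (LP (LK LD1_c8 LD2_c8 LD3_c34)) :=
  Lre_b IH (LK LD1_c4 LD2_c4 LD3_c0) (LK LD1_c8 LD2_c8 LD3_c34) Lrfl Lrfl
theorem f200829 : Led Lsl_gt (LP (LK LD1_c8 LD2_c8 LD3_c34)) = (LP (LK LD1_c15 LD2_c19 LD3_c57)) :=
  Lre_g IH (LK LD1_c8 LD2_c8 LD3_c34) (LK LD1_c15 LD2_c19 LD3_c57) Lrfl Lrfl
theorem f393051 : Led Lsl_ct (LP (LK LD1_c15 LD2_c19 LD3_c57)) = (LP (LK LD1_c24 LD2_c58 LD3_c38)) :=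
  Lgr Lrot91 (Lpe (f200829 IH) (Lpe (f201117 IH) (Lpr_ct (K17.f196423 IH) (Lpr_gf (K12.f201113 IH) (Lpe (K12.f217973 IH) (Lpr_bt (K12.f217970 IH) (Lpe (K15.f218022 IH) (Lpe (f391027 IH) (Lpr_ct (f391115 IH) (Lpr_gf (f393049 IH) (Lpn (LP (LK LD1_c24 LD2_c58 LD3_c38)))))))))))))
theorem f179311 : Led Lsl_gt (LP (LK LD1_c10 LD2_c49 LD3_c12)) = (LP (LK LD1_c5 LD2_c29 LD3_c2)) :=
  Lre_g IH (LK LD1_c10 LD2_c49 LD3_c12) (LK LD1_c5 LD2_c29 LD3_c2) Lrfl Lrfl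
theorem f382886 : Led Lsl_bt (LP (LK LD1_c16 LD2_c43 LD3_c46)) = (LP (LK LD1_c10 LD2_c49 LD3_c12)) :=
  Lgr Lrot130 (Lpr_ct (f382878 IH) (Lpe (K30.f224202 IH) (Lpr_cf (K21.f277106 IH) (Lpr_bt (K21.f179310 IH) (Lpr_gf (K12.f179189 IH) (Lpe (K20.f178158 IH) (Lpr_ct (K22.f178140 IH) (Lpe (K22.f179303 IH) (Lpe (K22.f179304 IH) (Lpe (f179311 IH) (Lpn (LP (LK LD1_c10 LD2_c49 LD3_c12)))))))))))))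
theorem f178088 : Led Lsl_bt (LP (LK LD1_c5 LD2_c36 LD3_c19)) = (LP (LK LD1_c11 LD2_c4 LD3_c54)) :=
  Lre_b IH (LK LD1_c5 LD2_c36 LD3_c19) (LK LD1_c11 LD2_c4 LD3_c54) Lrfl Lrfl
theorem f389193 : Led Lsl_ff (LP (LK LD1_c5 LD2_c36 LD3_c19)) = (LP (LK LD1_c5 LD2_c28 LD3_c57)) :=
  Lgr Lrot25 (Lpr_bt (f178088 IH) (Lpr_ft (f389191 IH) (Lpr_bt (K30.f174000 IH) (Lpn (LP (LK LD1_c5 LD2_c28 LD3_c57))))))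
theorem f389205 : Led Lsl_at (LP (LK LD1_c5 LD2_c36 LD3_c19)) = (LP (LK LD1_c5 LD2_c28 LD3_c56)) :=
  Lgr Lrot66 (Lpr_ff (f389193 IH) (Lpe (f389201 IH) (Lpr_ff (f389203 IH) (Lpn (LP (LK LD1_c5 LD2_c28 LD3_c56))))))
theorem f389249 : Led Lsl_at (LP (LK LD1_c10 LD2_c49 LD3_c12)) = (LP (LK LD1_c11 LD2_c4 LD3_c54)) :=
  Lgr Lrot67 (Lpe (f382886 IH) (Lpr_af (f389239 IH) (Lpe (f384816 IH) (Lpe (f389205 IH) (Lpe (f178077 IH) (Lpn (LP (LK LD1_c11 LD2_c4 LD3_c54))))))))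
theorem f389278 : Led Lsl_af (LP (LK LD1_c10 LD2_c49 LD3_c12)) = (LP (LK LD1_c11 LD2_c4 LD3_c54)) :=
  Lgr Lrot0 (Lpr_at (f389249 IH) (Lpn (LP (LK LD1_c11 LD2_c4 LD3_c54))))
theorem f387947 : Led Lsl_bt (LP (LK LD1_c15 LD2_c54 LD3_c34)) = (LP (LK LD1_c8 LD2_c28 LD3_c25)) :=
  Lre_b IH (LK LD1_c15 LD2_c54 LD3_c34) (LK LD1_c8 LD2_c28 LD3_c25) Lrfl Lrfl
theorem f382882 : Led Lsl_cf (LP (LK LD1_c16 LD2_c43 LD3_c46)) = (LP (LK LD1_c10 LD2_c35 LD3_c58)) :=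
  Lgr Lrot11 (Lpr_ct (f382878 IH) (Lpn (LP (LK LD1_c10 LD2_c35 LD3_c58))))
theorem f387957 : Led Lsl_cf (LP (LK LD1_c15 LD2_c54 LD3_c34)) = (LP (LK LD1_c10 LD2_c49 LD3_c12)) :=
  Lgr Lrot97 (Lpr_bt (f387947 IH) (Lpr_ct (K30.f52748 IH) (Lpr_bt (K30.f387948 IH) (Lpe (f382882 IH) (Lpr_bt (f382886 IH) (Lpn (LP (LK LD1_c10 LD2_c49 LD3_c12))))))))
theorem f387928 : Led Lsl_dt (LP (LK LD1_c15 LD2_c54 LD3_c34)) = (LP (LK LD1_c8 LD2_c28 LD3_c23)) :=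
  Lre_d IH (LK LD1_c15 LD2_c54 LD3_c34) (LK LD1_c8 LD2_c28 LD3_c23) Lrfl Lrfl
theorem f387840 : Led Lsl_gt (LP (LK LD1_c15 LD2_c53 LD3_c45)) = (LP (LK LD1_c15 LD2_c54 LD3_c33)) :=
  Lre_g IH (LK LD1_c15 LD2_c53 LD3_c45) (LK LD1_c15 LD2_c54 LD3_c33) Lrfl Lrfl
theorem f201058 : Led Lsl_ct (LP (LK LD1_c8 LD2_c27 LD3_c57)) = (LP (LK LD1_c15 LD2_c53 LD3_c45)) :=
  Lre_c IH (LK LD1_c8 LD2_c27 LD3_c57) (LK LD1_c15 LD2_c53 LD3_c45) Lrfl Lrfl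
theorem f178141 : Led Lsl_gt (LP (LK LD1_c2 LD2_c45 LD3_c31)) = (LP (LK LD1_c5 LD2_c39 LD3_c4)) :=
  Lre_g IH (LK LD1_c2 LD2_c45 LD3_c31) (LK LD1_c5 LD2_c39 LD3_c4) Lrfl Lrfl
theorem f289605 : Led Lsl_ct (LP (LK LD1_c5 LD2_c39 LD3_c4)) = (LP (LK LD1_c11 LD2_c9 LD3_c9)) :=
  Lre_c IH (LK LD1_c5 LD2_c39 LD3_c4) (LK LD1_c11 LD2_c9 LD3_c9) Lrfl Lrfl
theorem f388122 : Led Lsl_gt (LP (LK LD1_c11 LD2_c9 LD3_c9)) = (LP (LK LD1_c10 LD2_c49 LD3_c12)) :=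
  Lgr Lrot150 (Lpe (f289605 IH) (Lpe (f178141 IH) (Lpr_df (K19.f228256 IH) (Lpr_gt (K30.f201048 IH) (Lpr_ct (f201058 IH) (Lpr_gt (f387840 IH) (Lpr_ct (K30.f196913 IH) (Lpe (f387928 IH) (Lpr_cf (f387957 IH) (Lpn (LP (LK LD1_c10 LD2_c49 LD3_c12))))))))))))
theorem f389288 : Led Lsl_gf (LP (LK LD1_c11 LD2_c9 LD3_c9)) = (LP (LK LD1_c10 LD2_c49 LD3_c0)) :=
  Lgr Lrot47 (Lpr_gt (f388122 IH) (Lpr_af (f389278 IH) (Lpr_ff (f389195 IH) (Lpn (LP (LK LD1_c10 LD2_c49 LD3_c0))))))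
theorem f388128 : Led Lsl_bt (LP (LK LD1_c5 LD2_c39 LD3_c4)) = (LP (LK LD1_c11 LD2_c9 LD3_c8)) :=
  Lre_b IH (LK LD1_c5 LD2_c39 LD3_c4) (LK LD1_c11 LD2_c9 LD3_c8) Lrfl Lrfl
theorem f228162 : Led Lsl_bt (LP (LK LD1_c11 LD2_c9 LD3_c3)) = (LP (LK LD1_c20 LD2_c2 LD3_c58)) :=
  Lre_b IH (LK LD1_c11 LD2_c9 LD3_c3) (LK LD1_c20 LD2_c2 LD3_c58) Lrfl Lrfl
theorem f390058 : Led Lsl_gt (LP (LK LD1_c11 LD2_c9 LD3_c8)) = (LP (LK LD1_c20 LD2_c2 LD3_c58)) :=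
  Lgr Lrot164 (Lpe (f388128 IH) (Lpr_ct (f289605 IH) (Lpr_gf (f389288 IH) (Lpr_cf (K30.f174006 IH) (Lpe (K30.f174002 IH) (Lpe (f174013 IH) (Lpr_ct (f225314 IH) (Lpr_gf (f390054 IH) (Lpe (f234821 IH) (Lpr_bt (f228162 IH) (Lpn (LP (LK LD1_c20 LD2_c2 LD3_c58)))))))))))))
theorem f228395 : Led Lsl_bt (LP (LK LD1_c11 LD2_c9 LD3_c8)) = (LP (LK LD1_c5 LD2_c39 LD3_c4)) :=
  Lre_b IH (LK LD1_c11 LD2_c9 LD3_c8) (LK LD1_c5 LD2_c39 LD3_c4) Lrfl Lrfl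
theorem f199596 : Led Lsl_gt (LP (LK LD1_c15 LD2_c17 LD3_c36)) = (LP (LK LD1_c8 LD2_c7 LD3_c16)) :=
  Lre_g IH (LK LD1_c15 LD2_c17 LD3_c36) (LK LD1_c8 LD2_c7 LD3_c16) Lrfl Lrfl
theorem f228396 : Led Lsl_ct (LP (LK LD1_c11 LD2_c9 LD3_c8)) = (LP (LK LD1_c15 LD2_c17 LD3_c36)) :=
  Lgr Lrot64 (Lpr_bt (f228395 IH) (Lpe (f178141 IH) (Lpe (K22.f179410 IH) (Lpr_ct (K12.f178112 IH) (Lpe (K12.f179308 IH) (Lpe (K12.f196936 IH) (Lpr_gf (K12.f228267 IH) (Lpe (K16.f200940 IH) (Lpr_ct (K17.f200941 IH) (Lpe (f199596 IH) (Lpn (LP (LK LD1_c15 LD2_c17 LD3_c36)))))))))))))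
theorem f267405 : Led Lsl_gt (LP (LK LD1_c15 LD2_c17 LD3_c38)) = (LP (LK LD1_c25 LD2_c8 LD3_c3)) :=
  Lre_g IH (LK LD1_c15 LD2_c17 LD3_c38) (LK LD1_c25 LD2_c8 LD3_c3) Lrfl Lrfl
theorem f223653 : Led Lsl_df (LP (LK LD1_c8 LD2_c36 LD3_c49)) = (LP (LK LD1_c15 LD2_c9 LD3_c12)) :=
  Lgr Lrot38 (Lpr_dt (K17.f223648 IH) (Lpn (LP (LK LD1_c15 LD2_c9 LD3_c12))))
theorem f292895 : Led Lsl_ct (LP (LK LD1_c8 LD2_c36 LD3_c49)) = (LP (LK LD1_c8 LD2_c53 LD3_c59)) :=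
  Lgr Lrot59 (Lpr_cf (K17.f292888 IH) (Lpn (LP (LK LD1_c8 LD2_c53 LD3_c59))))
theorem f292876 : Led Lsl_gt (LP (LK LD1_c25 LD2_c8 LD3_c3)) = (LP (LK LD1_c16 LD2_c38 LD3_c46)) :=
  Lgr Lrot46 (Lpe (f267405 IH) (Lpr_ft (K17.f292860 IH) (Lpr_at (K17.f292866 IH) (Lpn (LP (LK LD1_c16 LD2_c38 LD3_c46))))))
theorem f200811 : Led Lsl_gt (LP (LK LD1_c8 LD2_c8 LD3_c11)) = (LP (LK LD1_c15 LD2_c19 LD3_c9)) :=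
  Lre_g IH (LK LD1_c8 LD2_c8 LD3_c11) (LK LD1_c15 LD2_c19 LD3_c9) Lrfl Lrfl
theorem f292941 : Led Lsl_df (LP (LK LD1_c25 LD2_c8 LD3_c3)) = (LP (LK LD1_c15 LD2_c19 LD3_c9)) :=
  Lgr Lrot153 (Lpr_gt (f292876 IH) (Lpr_dt (K17.f292885 IH) (Lpe (f292895 IH) (Lpr_df (f223653 IH) (Lpr_gf (K30.f292939 IH) (Lpe (K20.f290532 IH) (Lpe (K20.f211282 IH) (Lpe (K20.f218819 IH) (Lpr_gt (f200811 IH) (Lpn (LP (LK LD1_c15 LD2_c19 LD3_c9))))))))))))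
theorem f292943 : Led Lsl_dt (LP (LK LD1_c25 LD2_c8 LD3_c3)) = (LP (LK LD1_c15 LD2_c19 LD3_c9)) :=
  Lgr Lrot42 (Lpr_df (f292941 IH) (Lpn (LP (LK LD1_c15 LD2_c19 LD3_c9))))
theorem f220803 : Led Lsl_ct (LP (LK LD1_c15 LD2_c19 LD3_c9)) = (LP (LK LD1_c25 LD2_c10 LD3_c9)) :=
  Lre_c IH (LK LD1_c15 LD2_c19 LD3_c9) (LK LD1_c25 LD2_c10 LD3_c9) Lrfl Lrfl
theorem f238409 : Led Lsl_dt (LP (LK LD1_c20 LD2_c2 LD3_c58)) = (LP (LK LD1_c15 LD2_c9 LD3_c33)) :=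
  Lgr Lrot27 (Lpr_cf (f228163 IH) (Lpe (f223651 IH) (Lpe (f223650 IH) (Lpe (K30.f216328 IH) (Lpr_df (K17.f223639 IH) (Lpe (K27.f238352 IH) (Lpr_ct (K27.f238380 IH) (Lpr_gt (f238383 IH) (Lpr_ct (f52547 IH) (Lpn (LP (LK LD1_c15 LD2_c9 LD3_c33))))))))))))
theorem f390062 : Led Lsl_df (LP (LK LD1_c25 LD2_c10 LD3_c9)) = (LP (LK LD1_c24 LD2_c58 LD3_c38)) :=
  Lgr Lrot84 (Lpe (f220803 IH) (Lpe (f292943 IH) (Lpe (f267405 IH) (Lpe (K17.f200942 IH) (Lpe (f199596 IH) (Lpe (f228396 IH) (Lpr_gt (f390058 IH) (Lpr_dt (f238409 IH) (Lpr_gt (f238408 IH) (Lpn (LP (LK LD1_c24 LD2_c58 LD3_c38))))))))))))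
theorem f53029 : Led Lsl_gt (LP (LK LD1_c8 LD2_c8 LD3_c17)) = (LP (LK LD1_c4 LD2_c3 LD3_c55)) :=
  Lre_g IH (LK LD1_c8 LD2_c8 LD3_c17) (LK LD1_c4 LD2_c3 LD3_c55) Lrfl Lrfl
theorem f393057 : Led Lsl_df (LP (LK LD1_c8 LD2_c8 LD3_c41)) = (LP (LK LD1_c8 LD2_c8 LD3_c17)) :=
  Lgr Lrot155 (Lpr_gt (K13.f196435 IH) (Lpr_ct (K17.f196434 IH) (Lpr_gt (f200829 IH) (Lpr_ct (f393051 IH) (Lpe (f390062 IH) (Lpe (f220803 IH) (Lpe (f200811 IH) (Lpe (K30.f200810 IH) (Lpe (f53029 IH) (Lpn (LP (LK LD1_c8 LD2_c8 LD3_c17))))))))))))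
theorem f391117 : Led Lsl_ft (LP (LK LD1_c24 LD2_c58 LD3_c39)) = (LP (LK LD1_c25 LD2_c12 LD3_c60)) :=
  Lgr Lrot4 (Lpr_cf (f390944 IH) (Lpe (f391021 IH) (Lpr_cf (f391033 IH) (Lpn (LP (LK LD1_c25 LD2_c12 LD3_c60))))))
theorem f390942 : Led Lsl_bf (LP (LK LD1_c18 LD2_c44 LD3_c14)) = (LP (LK LD1_c25 LD2_c11 LD3_c19)) :=
  Lgr Lrot24 (Lpr_bt (f390940 IH) (Lpn (LP (LK LD1_c25 LD2_c11 LD3_c19))))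
theorem f218707 : Led Lsl_gt (LP (LK LD1_c7 LD2_c58 LD3_c26)) = (LP (LK LD1_c15 LD2_c2 LD3_c33)) :=
  Lre_g IH (LK LD1_c7 LD2_c58 LD3_c26) (LK LD1_c15 LD2_c2 LD3_c33) Lrfl Lrfl
theorem f219026 : Led Lsl_ct (LP (LK LD1_c15 LD2_c2 LD3_c33)) = (LP (LK LD1_c24 LD2_c51 LD3_c14)) :=
  Lre_c IH (LK LD1_c15 LD2_c2 LD3_c33) (LK LD1_c24 LD2_c51 LD3_c14) Lrfl Lrfl
theorem f390950 : Led Lsl_gf (LP (LK LD1_c24 LD2_c58 LD3_c39)) = (LP (LK LD1_c24 LD2_c51 LD3_c14)) :=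
  Lgr Lrot129 (Lpr_cf (f390944 IH) (Lpe (f390942 IH) (Lpr_gt (f54485 IH) (Lpe (f48156 IH) (Lpr_ct (K12.f48055 IH) (Lpe (K25.f222163 IH) (Lpe (K16.f218701 IH) (Lpr_bt (K27.f218698 IH) (Lpr_gt (f218707 IH) (Lpr_ct (f219026 IH) (Lpn (LP (LK LD1_c24 LD2_c51 LD3_c14)))))))))))))
theorem f174401 : Led Lsl_gt (LP (LK LD1_c5 LD2_c25 LD3_c2)) = (LP (LK LD1_c2 LD2_c39 LD3_c1)) :=
  Lre_g IH (LK LD1_c5 LD2_c25 LD3_c2) (LK LD1_c2 LD2_c39 LD3_c1) Lrfl Lrfl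
theorem f224018 : Led Lsl_ct (LP (LK LD1_c10 LD2_c40 LD3_c49)) = (LP (LK LD1_c5 LD2_c25 LD3_c2)) :=
  Lre_c IH (LK LD1_c10 LD2_c40 LD3_c49) (LK LD1_c5 LD2_c25 LD3_c2) Lrfl Lrfl
theorem f253205 : Led Lsl_bt (LP (LK LD1_c10 LD2_c40 LD3_c49)) = (LP (LK LD1_c15 LD2_c2 LD3_c33)) :=
  Lgr Lrot92 (Lpr_ct (f224018 IH) (Lpr_gt (f174401 IH) (Lpe (K14.f173096 IH) (Lpe (K27.f224002 IH) (Lpr_gt (K16.f253189 IH) (Lpr_ct (K12.f48055 IH) (Lpe (K25.f222163 IH) (Lpe (K16.f218701 IH) (Lpr_bt (K27.f218698 IH) (Lpr_gt (f218707 IH) (Lpn (LP (LK LD1_c15 LD2_c2 LD3_c33)))))))))))))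
theorem f253210 : Led Lsl_ct (LP (LK LD1_c5 LD2_c25 LD3_c2)) = (LP (LK LD1_c10 LD2_c40 LD3_c49)) :=
  Lre_c IH (LK LD1_c5 LD2_c25 LD3_c2) (LK LD1_c10 LD2_c40 LD3_c49) Lrfl Lrfl
theorem f174410 : Led Lsl_bt (LP (LK LD1_c10 LD2_c40 LD3_c48)) = (LP (LK LD1_c5 LD2_c25 LD3_c2)) :=
  Lre_b IH (LK LD1_c10 LD2_c40 LD3_c48) (LK LD1_c5 LD2_c25 LD3_c2) Lrfl Lrfl
theorem f253211 : Led Lsl_ct (LP (LK LD1_c19 LD2_c20 LD3_c10)) = (LP (LK LD1_c10 LD2_c40 LD3_c48)) :=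
  Lre_c IH (LK LD1_c19 LD2_c20 LD3_c10) (LK LD1_c10 LD2_c40 LD3_c48) Lrfl Lrfl
theorem f253212 : Led Lsl_bf (LP (LK LD1_c19 LD2_c20 LD3_c10)) = (LP (LK LD1_c24 LD2_c51 LD3_c14)) :=
  Lgr Lrot90 (Lpr_ct (f253211 IH) (Lpr_bt (f174410 IH) (Lpr_ct (f253210 IH) (Lpr_bt (f253205 IH) (Lpr_ct (f219026 IH) (Lpn (LP (LK LD1_c24 LD2_c51 LD3_c14))))))))
theorem f253233 : Led Lsl_bt (LP (LK LD1_c19 LD2_c20 LD3_c10)) = (LP (LK LD1_c24 LD2_c51 LD3_c14)) :=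
  Lgr Lrot127 (Lpr_bf (f253212 IH) (Lpn (LP (LK LD1_c24 LD2_c51 LD3_c14))))
theorem f390954 : Led Lsl_gt (LP (LK LD1_c5 LD2_c25 LD3_c13)) = (LP (LK LD1_c10 LD2_c40 LD3_c48)) :=
  Lgr Lrot65 (Lpe (K22.f218284 IH) (Lpr_bt (K30.f218278 IH) (Lpr_gf (K30.f387631 IH) (Lpr_bf (K20.f318387 IH) (Lpr_ct (K20.f53035 IH) (Lpe (f290537 IH) (Lpe (f390948 IH) (Lpr_gf (f390950 IH) (Lpe (f253233 IH) (Lpr_ct (f253211 IH) (Lpn (LP (LK LD1_c10 LD2_c40 LD3_c48)))))))))))))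
theorem f390956 : Led Lsl_bf (LP (LK LD1_c24 LD2_c58 LD3_c39)) = (LP (LK LD1_c19 LD2_c49 LD3_c40)) :=
  Lgr Lrot34 (Lpr_gf (f390950 IH) (Lpe (f253233 IH) (Lpr_ct (f253211 IH) (Lpe (f390954 IH) (Lpe (K22.f218284 IH) (Lpe (K12.f52870 IH) (Lpe (K10.f51141 IH) (Lpr_ct (K10.f52770 IH) (Lpr_gf (f389793 IH) (Lpe (f389801 IH) (Lpn (LP (LK LD1_c19 LD2_c49 LD3_c40)))))))))))))
theorem f271550 : Led Lsl_ct (LP (LK LD1_c4 LD2_c15 LD3_c34)) = (LP (LK LD1_c8 LD2_c27 LD3_c13)) :=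
  Lre_c IH (LK LD1_c4 LD2_c15 LD3_c34) (LK LD1_c8 LD2_c27 LD3_c13) Lrfl Lrfl
theorem f278055 : Led Lsl_cf (LP (LK LD1_c4 LD2_c13 LD3_c51)) = (LP (LK LD1_c5 LD2_c14 LD3_c59)) :=
  Lgr Lrot169 (Lpr_gt (K12.f27450 IH) (Lpr_ct (K12.f187221 IH) (Lpe (K12.f200727 IH) (Lpe (f271550 IH) (Lpe (K16.f932 IH) (Lpr_cf (K16.f278047 IH) (Lpe (K16.f54463 IH) (Lpe (K16.f33467 IH) (Lpr_gt (K18.f54451 IH) (Lpn (LP (LK LD1_c5 LD2_c14 LD3_c59))))))))))))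
theorem f187222 : Led Lsl_bt (LP (LK LD1_c4 LD2_c14 LD3_c17)) = (LP (LK LD1_c8 LD2_c27 LD3_c9)) :=
  Lre_b IH (LK LD1_c4 LD2_c14 LD3_c17) (LK LD1_c8 LD2_c27 LD3_c9) Lrfl Lrfl
theorem f389791 : Led Lsl_gt (LP (LK LD1_c8 LD2_c27 LD3_c9)) = (LP (LK LD1_c15 LD2_c52 LD3_c10)) :=
  Lgr Lrot164 (Lpe (f187222 IH) (Lpr_ct (K18.f200726 IH) (Lpe (K12.f27450 IH) (Lpr_cf (f278055 IH) (Lpe (K18.f54451 IH) (Lpe (K15.f33496 IH) (Lpr_ct (f54429 IH) (Lpe (f54485 IH) (Lpr_cf (f389769 IH) (Lpr_bt (f389768 IH) (Lpn (LP (LK LD1_c15 LD2_c52 LD3_c10)))))))))))))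
theorem f52777 : Led Lsl_ct (LP (LK LD1_c4 LD2_c14 LD3_c50)) = (LP (LK LD1_c8 LD2_c27 LD3_c9)) :=
  Lre_c IH (LK LD1_c4 LD2_c14 LD3_c50) (LK LD1_c8 LD2_c27 LD3_c9) Lrfl Lrfl
theorem f52648 : Led Lsl_bt (LP (LK LD1_c4 LD2_c14 LD3_c50)) = (LP (LK LD1_c2 LD2_c4 LD3_c47)) :=
  Lre_b IH (LK LD1_c4 LD2_c14 LD3_c50) (LK LD1_c2 LD2_c4 LD3_c47) Lrfl Lrfl
theorem f219028 : Led Lsl_gt (LP (LK LD1_c15 LD2_c2 LD3_c34)) = (LP (LK LD1_c7 LD2_c58 LD3_c26)) :=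
  Lre_g IH (LK LD1_c15 LD2_c2 LD3_c34) (LK LD1_c7 LD2_c58 LD3_c26) Lrfl Lrfl
theorem f200764 : Led Lsl_bt (LP (LK LD1_c15 LD2_c20 LD3_c42)) = (LP (LK LD1_c8 LD2_c8 LD3_c60)) :=
  Lre_b IH (LK LD1_c15 LD2_c20 LD3_c42) (LK LD1_c8 LD2_c8 LD3_c60) Lrfl Lrfl
theorem f219029 : Led Lsl_cf (LP (LK LD1_c15 LD2_c2 LD3_c34)) = (LP (LK LD1_c15 LD2_c20 LD3_c42)) :=
  Lgr Lrot160 (Lpr_gt (f219028 IH) (Lpr_cf (K17.f219004 IH) (Lpr_bt (K17.f200728 IH) (Lpr_gt (K12.f193340 IH) (Lpr_ct (K10.f52675 IH) (Lpe (K11.f200696 IH) (Lpr_cf (K11.f200730 IH) (Lpr_bt (K19.f200729 IH) (Lpr_gt (K30.f200735 IH) (Lpe (f200764 IH) (Lpn (LP (LK LD1_c15 LD2_c20 LD3_c42)))))))))))))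
theorem f390958 : Led Lsl_gt (LP (LK LD1_c24 LD2_c58 LD3_c39)) = (LP (LK LD1_c15 LD2_c20 LD3_c42)) :=
  Lgr Lrot82 (Lpr_bf (f390956 IH) (Lpr_ct (f389801 IH) (Lpe (f389791 IH) (Lpe (f52777 IH) (Lpr_bt (f52648 IH) (Lpe (K12.f193340 IH) (Lpe (K17.f200728 IH) (Lpe (K17.f219004 IH) (Lpe (f219028 IH) (Lpr_cf (f219029 IH) (Lpn (LP (LK LD1_c15 LD2_c20 LD3_c42)))))))))))))
theorem f53039 : Led Lsl_at (LP (LK LD1_c25 LD2_c12 LD3_c60)) = (LP (LK LD1_c15 LD2_c21 LD3_c33)) :=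
  Lre_a IH (LK LD1_c25 LD2_c12 LD3_c60) (LK LD1_c15 LD2_c21 LD3_c33) Lrfl Lrfl
theorem f391123 : Led Lsl_gt (LP (LK LD1_c15 LD2_c20 LD3_c42)) = (LP (LK LD1_c15 LD2_c21 LD3_c33)) :=
  Lgr Lrot46 (Lpe (f390958 IH) (Lpr_ft (f391117 IH) (Lpr_at (f53039 IH) (Lpn (LP (LK LD1_c15 LD2_c21 LD3_c33))))))
theorem f293043 : Led Lsl_bf (LP (LK LD1_c15 LD2_c9 LD3_c23)) = (LP (LK LD1_c8 LD2_c8 LD3_c42)) :=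
  Lgr Lrot24 (Lpr_bt (K17.f293022 IH) (Lpn (LP (LK LD1_c8 LD2_c8 LD3_c42))))
theorem f292978 : Led Lsl_ff (LP (LK LD1_c15 LD2_c2 LD3_c35)) = (LP (LK LD1_c15 LD2_c19 LD3_c59)) :=
  Lgr Lrot3 (Lpr_ft (K30.f292971 IH) (Lpn (LP (LK LD1_c15 LD2_c19 LD3_c59))))
theorem f219019 : Led Lsl_at (LP (LK LD1_c15 LD2_c2 LD3_c35)) = (LP (LK LD1_c7 LD2_c58 LD3_c26)) :=
  Lre_a IH (LK LD1_c15 LD2_c2 LD3_c35) (LK LD1_c7 LD2_c58 LD3_c26) Lrfl Lrfl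
theorem f292983 : Led Lsl_gf (LP (LK LD1_c15 LD2_c2 LD3_c34)) = (LP (LK LD1_c15 LD2_c19 LD3_c59)) :=
  Lgr Lrot47 (Lpr_gt (f219028 IH) (Lpe (f219019 IH) (Lpr_ff (f292978 IH) (Lpn (LP (LK LD1_c15 LD2_c19 LD3_c59))))))
theorem f388378 : Led Lsl_gt (LP (LK LD1_c8 LD2_c8 LD3_c60)) = (LP (LK LD1_c8 LD2_c27 LD3_c59)) :=
  Lgr Lrot82 (Lpe (f200764 IH) (Lpe (f219029 IH) (Lpr_gf (f292983 IH) (Lpe (K17.f200977 IH) (Lpe (f293043 IH) (Lpr_gf (K30.f388370 IH) (Lpe (K30.f290538 IH) (Lpr_ct (K30.f213411 IH) (Lpe (K30.f387548 IH) (Lpr_cf (K30.f387912 IH) (Lpn (LP (LK LD1_c8 LD2_c27 LD3_c59)))))))))))))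
theorem f213412 : Led Lsl_ct (LP (LK LD1_c15 LD2_c20 LD3_c48)) = (LP (LK LD1_c15 LD2_c19 LD3_c21)) :=
  Lre_c IH (LK LD1_c15 LD2_c20 LD3_c48) (LK LD1_c15 LD2_c19 LD3_c21) Lrfl Lrfl
theorem f318400 : Led Lsl_df (LP (LK LD1_c8 LD2_c58 LD3_c19)) = (LP (LK LD1_c15 LD2_c19 LD3_c21)) :=
  Lgr Lrot38 (Lpr_dt (f318395 IH) (Lpn (LP (LK LD1_c15 LD2_c19 LD3_c21))))
theorem f196413 : Led Lsl_gt (LP (LK LD1_c4 LD2_c4 LD3_c7)) = (LP (LK LD1_c8 LD2_c8 LD3_c54)) :=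
  Lre_g IH (LK LD1_c4 LD2_c4 LD3_c7) (LK LD1_c8 LD2_c8 LD3_c54) Lrfl Lrfl
theorem f319744 : Led Lsl_gt (LP (LK LD1_c8 LD2_c8 LD3_c54)) = (LP (LK LD1_c5 LD2_c33 LD3_c32)) :=
  Lgr Lrot46 (Lpe (f196413 IH) (Lpr_ft (K20.f319735 IH) (Lpr_at (K24.f220945 IH) (Lpn (LP (LK LD1_c5 LD2_c33 LD3_c32))))))
theorem f388382 : Led Lsl_df (LP (LK LD1_c8 LD2_c8 LD3_c60)) = (LP (LK LD1_c8 LD2_c8 LD3_c54)) :=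
  Lgr Lrot155 (Lpr_gt (f388378 IH) (Lpe (K30.f387912 IH) (Lpr_gt (K30.f387548 IH) (Lpr_ct (f213412 IH) (Lpe (f318400 IH) (Lpe (K30.f318397 IH) (Lpe (K30.f387825 IH) (Lpe (K22.f238480 IH) (Lpe (f319744 IH) (Lpn (LP (LK LD1_c8 LD2_c8 LD3_c54))))))))))))
theorem f219031 : Led Lsl_bt (LP (LK LD1_c8 LD2_c8 LD3_c60)) = (LP (LK LD1_c15 LD2_c20 LD3_c42)) :=
  Lre_b IH (LK LD1_c8 LD2_c8 LD3_c60) (LK LD1_c15 LD2_c20 LD3_c42) Lrfl Lrfl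
theorem f224858 : Led Lsl_bt (LP (LK LD1_c15 LD2_c20 LD3_c31)) = (LP (LK LD1_c8 LD2_c8 LD3_c54)) :=
  Lre_b IH (LK LD1_c15 LD2_c20 LD3_c31) (LK LD1_c8 LD2_c8 LD3_c54) Lrfl Lrfl
theorem f388384 : Led Lsl_dt (LP (LK LD1_c15 LD2_c20 LD3_c42)) = (LP (LK LD1_c15 LD2_c20 LD3_c31)) :=
  Lgr Lrot79 (Lpe (f219031 IH) (Lpr_df (f388382 IH) (Lpe (f224858 IH) (Lpn (LP (LK LD1_c15 LD2_c20 LD3_c31))))))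
theorem f220814 : Led Lsl_ct (LP (LK LD1_c15 LD2_c19 LD3_c25)) = (LP (LK LD1_c8 LD2_c8 LD3_c17)) :=
  Lre_c IH (LK LD1_c15 LD2_c19 LD3_c25) (LK LD1_c8 LD2_c8 LD3_c17) Lrfl Lrfl
theorem f222468 : Led Lsl_bt (LP (LK LD1_c8 LD2_c56 LD3_c61)) = (LP (LK LD1_c4 LD2_c29 LD3_c24)) :=
  Lre_b IH (LK LD1_c8 LD2_c56 LD3_c61) (LK LD1_c4 LD2_c29 LD3_c24) Lrfl Lrfl
theorem f220813 : Led Lsl_bt (LP (LK LD1_c8 LD2_c8 LD3_c10)) = (LP (LK LD1_c15 LD2_c19 LD3_c7)) :=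
  Lre_b IH (LK LD1_c8 LD2_c8 LD3_c10) (LK LD1_c15 LD2_c19 LD3_c7) Lrfl Lrfl
theorem f222469 : Led Lsl_cf (LP (LK LD1_c8 LD2_c56 LD3_c61)) = (LP (LK LD1_c15 LD2_c19 LD3_c7)) :=
  Lgr Lrot97 (Lpr_bt (f222468 IH) (Lpe (K13.f222219 IH) (Lpr_bt (K12.f222435 IH) (Lpe (K15.f220808 IH) (Lpr_bt (f220813 IH) (Lpn (LP (LK LD1_c15 LD2_c19 LD3_c7))))))))
theorem f220807 : Led Lsl_bt (LP (LK LD1_c15 LD2_c19 LD3_c7)) = (LP (LK LD1_c8 LD2_c8 LD3_c10)) :=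
  Lre_b IH (LK LD1_c15 LD2_c19 LD3_c7) (LK LD1_c8 LD2_c8 LD3_c10) Lrfl Lrfl
theorem f233901 : Led Lsl_ct (LP (LK LD1_c25 LD2_c12 LD3_c34)) = (LP (LK LD1_c15 LD2_c21 LD3_c20)) :=
  Lre_c IH (LK LD1_c25 LD2_c12 LD3_c34) (LK LD1_c15 LD2_c21 LD3_c20) Lrfl Lrfl
theorem f233902 : Led Lsl_bt (LP (LK LD1_c25 LD2_c12 LD3_c34)) = (LP (LK LD1_c15 LD2_c21 LD3_c17)) :=
  Lre_b IH (LK LD1_c25 LD2_c12 LD3_c34) (LK LD1_c15 LD2_c21 LD3_c17) Lrfl Lrfl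
theorem f233903 : Led Lsl_gf (LP (LK LD1_c15 LD2_c19 LD3_c25)) = (LP (LK LD1_c15 LD2_c21 LD3_c17)) :=
  Lgr Lrot181 (Lpr_ct (f220814 IH) (Lpr_gt (f53029 IH) (Lpe (K20.f218819 IH) (Lpr_bt (K20.f218818 IH) (Lpr_gt (K15.f218816 IH) (Lpe (f220807 IH) (Lpe (f222469 IH) (Lpr_gt (K16.f233895 IH) (Lpe (f233901 IH) (Lpr_bt (f233902 IH) (Lpn (LP (LK LD1_c15 LD2_c21 LD3_c17)))))))))))))
theorem f52954 : Led Lsl_ct (LP (LK LD1_c8 LD2_c9 LD3_c12)) = (LP (LK LD1_c15 LD2_c21 LD3_c17)) :=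
  Lre_c IH (LK LD1_c8 LD2_c9 LD3_c12) (LK LD1_c15 LD2_c21 LD3_c17) Lrfl Lrfl
theorem f393064 : Led Lsl_gt (LP (LK LD1_c15 LD2_c20 LD3_c31)) = (LP (LK LD1_c8 LD2_c9 LD3_c12)) :=
  Lgr Lrot9 (Lpe (f388384 IH) (Lpr_gt (f391123 IH) (Lpr_ct (K20.f53037 IH) (Lpr_gt (f390092 IH) (Lpr_ct (K13.f196436 IH) (Lpr_df (f393057 IH) (Lpe (f220814 IH) (Lpr_gf (f233903 IH) (Lpe (f52954 IH) (Lpn (LP (LK LD1_c8 LD2_c9 LD3_c12))))))))))))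
theorem f244097 : Led Lsl_gt (LP (LK LD1_c25 LD2_c11 LD3_c48)) = (LP (LK LD1_c15 LD2_c20 LD3_c31)) :=
  Lre_g IH (LK LD1_c25 LD2_c11 LD3_c48) (LK LD1_c15 LD2_c20 LD3_c31) Lrfl Lrfl
theorem f393066 : Led Lsl_at (LP (LK LD1_c15 LD2_c21 LD3_c16)) = (LP (LK LD1_c8 LD2_c9 LD3_c12)) :=
  Lre_a IH (LK LD1_c15 LD2_c21 LD3_c16) (LK LD1_c8 LD2_c9 LD3_c12) Lrfl Lrfl
theorem f393067 : Led Lsl_ft (LP (LK LD1_c25 LD2_c11 LD3_c48)) = (LP (LK LD1_c15 LD2_c21 LD3_c16)) :=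
  Lgr Lrot2 (Lpr_gt (f244097 IH) (Lpr_gt (f393064 IH) (Lpe (f393066 IH) (Lpn (LP (LK LD1_c15 LD2_c21 LD3_c16))))))
theorem f393077 : Led Lsl_ff (LP (LK LD1_c25 LD2_c11 LD3_c48)) = (LP (LK LD1_c15 LD2_c21 LD3_c16)) :=
  Lgr Lrot3 (Lpr_ft (f393067 IH) (Lpn (LP (LK LD1_c15 LD2_c21 LD3_c16))))
theorem f393079 : Led Lsl_at (LP (LK LD1_c8 LD2_c9 LD3_c12)) = (LP (LK LD1_c15 LD2_c21 LD3_c16)) :=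
  Lre_a IH (LK LD1_c8 LD2_c9 LD3_c12) (LK LD1_c15 LD2_c21 LD3_c16) Lrfl Lrfl
theorem f393080 : Led Lsl_ft (LP (LK LD1_c15 LD2_c20 LD3_c57)) = (LP (LK LD1_c8 LD2_c9 LD3_c12)) :=
  Lre_f IH (LK LD1_c15 LD2_c20 LD3_c57) (LK LD1_c8 LD2_c9 LD3_c12) Lrfl Lrfl
theorem f393081 : Led Lsl_at (LP (LK LD1_c25 LD2_c11 LD3_c48)) = (LP (LK LD1_c15 LD2_c20 LD3_c57)) :=
  Lgr Lrot66 (Lpr_ff (f393077 IH) (Lpe (f393079 IH) (Lpe (f393080 IH) (Lpn (LP (LK LD1_c15 LD2_c20 LD3_c57))))))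
theorem f393106 : Led Lsl_bt (LP (LK LD1_c15 LD2_c20 LD3_c57)) = (LP (LK LD1_c8 LD2_c9 LD3_c6)) :=
  Lre_b IH (LK LD1_c15 LD2_c20 LD3_c57) (LK LD1_c8 LD2_c9 LD3_c6) Lrfl Lrfl
theorem f393107 : Led Lsl_at (LP (LK LD1_c8 LD2_c9 LD3_c6)) = (LP (LK LD1_c4 LD2_c4 LD3_c11)) :=
  Lre_a IH (LK LD1_c8 LD2_c9 LD3_c6) (LK LD1_c4 LD2_c4 LD3_c11) Lrfl Lrfl
theorem f200836 : Led Lsl_bt (LP (LK LD1_c4 LD2_c4 LD3_c11)) = (LP (LK LD1_c8 LD2_c9 LD3_c7)) :=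
  Lre_b IH (LK LD1_c4 LD2_c4 LD3_c11) (LK LD1_c8 LD2_c9 LD3_c7) Lrfl Lrfl
theorem f200868 : Led Lsl_at (LP (LK LD1_c8 LD2_c9 LD3_c7)) = (LP (LK LD1_c15 LD2_c20 LD3_c61)) :=
  Lre_a IH (LK LD1_c8 LD2_c9 LD3_c7) (LK LD1_c15 LD2_c20 LD3_c61) Lrfl Lrfl
theorem f393108 : Led Lsl_bf (LP (LK LD1_c25 LD2_c11 LD3_c48)) = (LP (LK LD1_c15 LD2_c20 LD3_c61)) :=
  Lgr Lrot81 (Lpr_at (f393081 IH) (Lpr_bt (f393106 IH) (Lpr_at (f393107 IH) (Lpr_bt (f200836 IH) (Lpr_at (f200868 IH) (Lpn (LP (LK LD1_c15 LD2_c20 LD3_c61))))))))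
theorem f217489 : Led Lsl_bt (LP (LK LD1_c8 LD2_c2 LD3_c60)) = (LP (LK LD1_c4 LD2_c1 LD3_c7)) :=
  Lre_b IH (LK LD1_c8 LD2_c2 LD3_c60) (LK LD1_c4 LD2_c1 LD3_c7) Lrfl Lrfl
theorem f223386 : Led Lsl_bt (LP (LK LD1_c4 LD2_c28 LD3_c15)) = (LP (LK LD1_c2 LD2_c11 LD3_c16)) :=
  Lre_b IH (LK LD1_c4 LD2_c28 LD3_c15) (LK LD1_c2 LD2_c11 LD3_c16) Lrfl Lrfl
theorem f223387 : Led Lsl_cf (LP (LK LD1_c4 LD2_c28 LD3_c15)) = (LP (LK LD1_c8 LD2_c2 LD3_c60)) :=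
  Lgr Lrot97 (Lpr_bt (f223386 IH) (Lpr_ct (K17.f223385 IH) (Lpr_bt (K12.f223381 IH) (Lpr_ct (K12.f187915 IH) (Lpr_bt (K27.f187921 IH) (Lpn (LP (LK LD1_c8 LD2_c2 LD3_c60))))))))
theorem f224859 : Led Lsl_ct (LP (LK LD1_c15 LD2_c20 LD3_c31)) = (LP (LK LD1_c8 LD2_c54 LD3_c36)) :=
  Lgr Lrot64 (Lpr_bt (f224858 IH) (Lpe (f196413 IH) (Lpe (K20.f196404 IH) (Lpr_ct (K12.f196407 IH) (Lpr_gf (K12.f223735 IH) (Lpe (K0.f27679 IH) (Lpr_gf (K12.f216323 IH) (Lpe (f217489 IH) (Lpe (f223387 IH) (Lpe (K27.f223481 IH) (Lpn (LP (LK LD1_c8 LD2_c54 LD3_c36)))))))))))))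
theorem f51181 : Led Lsl_gt (LP (LK LD1_c8 LD2_c25 LD3_c46)) = (LP (LK LD1_c15 LD2_c49 LD3_c59)) :=
  Lre_g IH (LK LD1_c8 LD2_c25 LD3_c46) (LK LD1_c15 LD2_c49 LD3_c59) Lrfl Lrfl
theorem f393116 : Led Lsl_cf (LP (LK LD1_c15 LD2_c49 LD3_c59)) = (LP (LK LD1_c15 LD2_c20 LD3_c61)) :=
  Lgr Lrot58 (Lpe (f51181 IH) (Lpe (K12.f51188 IH) (Lpr_bt (K10.f27656 IH) (Lpr_gf (K12.f216323 IH) (Lpe (f217489 IH) (Lpe (f223387 IH) (Lpe (K27.f223481 IH) (Lpe (f224859 IH) (Lpe (f244097 IH) (Lpr_bf (f393108 IH) (Lpn (LP (LK LD1_c15 LD2_c20 LD3_c61)))))))))))))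
theorem f196877 : Led Lsl_gt (LP (LK LD1_c15 LD2_c49 LD3_c59)) = (LP (LK LD1_c10 LD2_c38 LD3_c60)) :=
  Lgr Lrot46 (Lpe (f51181 IH) (Lpr_ft (K10.f196867 IH) (Lpr_at (K10.f196869 IH) (Lpn (LP (LK LD1_c10 LD2_c38 LD3_c60))))))
theorem f52649 : Led Lsl_at (LP (LK LD1_c8 LD2_c28 LD3_c16)) = (LP (LK LD1_c4 LD2_c14 LD3_c50)) :=
  Lre_a IH (LK LD1_c8 LD2_c28 LD3_c16) (LK LD1_c4 LD2_c14 LD3_c50) Lrfl Lrfl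
theorem f52652 : Led Lsl_bf (LP (LK LD1_c8 LD2_c28 LD3_c16)) = (LP (LK LD1_c8 LD2_c28 LD3_c27)) :=
  Lgr Lrot81 (Lpr_at (f52649 IH) (Lpr_bt (f52648 IH) (Lpr_at (K10.f52644 IH) (Lpr_bt (K10.f52650 IH) (Lpr_at (K11.f52651 IH) (Lpn (LP (LK LD1_c8 LD2_c28 LD3_c27))))))))
theorem f52750 : Led Lsl_gt (LP (LK LD1_c8 LD2_c28 LD3_c24)) = (LP (LK LD1_c15 LD2_c54 LD3_c20)) :=
  Lre_g IH (LK LD1_c8 LD2_c28 LD3_c24) (LK LD1_c15 LD2_c54 LD3_c20) Lrfl Lrfl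
theorem f385090 : Led Lsl_bt (LP (LK LD1_c8 LD2_c27 LD3_c37)) = (LP (LK LD1_c15 LD2_c53 LD3_c13)) :=
  Lre_b IH (LK LD1_c8 LD2_c27 LD3_c37) (LK LD1_c15 LD2_c53 LD3_c13) Lrfl Lrfl
theorem f385091 : Led Lsl_df (LP (LK LD1_c15 LD2_c22 LD3_c30)) = (LP (LK LD1_c15 LD2_c53 LD3_c13)) :=
  Lgr Lrot12 (Lpr_bt (K30.f314901 IH) (Lpr_dt (K30.f385088 IH) (Lpr_bt (f385090 IH) (Lpn (LP (LK LD1_c15 LD2_c53 LD3_c13))))))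
theorem f220917 : Led Lsl_gt (LP (LK LD1_c15 LD2_c54 LD3_c22)) = (LP (LK LD1_c25 LD2_c50 LD3_c19)) :=
  Lre_g IH (LK LD1_c15 LD2_c54 LD3_c22) (LK LD1_c25 LD2_c50 LD3_c19) Lrfl Lrfl
theorem f220913 : Led Lsl_gt (LP (LK LD1_c15 LD2_c54 LD3_c20)) = (LP (LK LD1_c8 LD2_c28 LD3_c19)) :=
  Lre_g IH (LK LD1_c15 LD2_c54 LD3_c20) (LK LD1_c8 LD2_c28 LD3_c19) Lrfl Lrfl
theorem f223582 : Led Lsl_gt (LP (LK LD1_c24 LD2_c58 LD3_c31)) = (LP (LK LD1_c15 LD2_c9 LD3_c30)) :=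
  Lre_g IH (LK LD1_c24 LD2_c58 LD3_c31) (LK LD1_c15 LD2_c9 LD3_c30) Lrfl Lrfl
theorem f390034 : Led Lsl_cf (LP (LK LD1_c15 LD2_c54 LD3_c20)) = (LP (LK LD1_c24 LD2_c58 LD3_c31)) :=
  Lgr Lrot166 (Lpr_gt (f220913 IH) (Lpr_dt (K30.f220916 IH) (Lpr_gt (f220917 IH) (Lpr_dt (K30.f388204 IH) (Lpr_ct (f319187 IH) (Lpr_df (f385091 IH) (Lpr_gf (f390030 IH) (Lpe (f296680 IH) (Lpe (f223582 IH) (Lpn (LP (LK LD1_c24 LD2_c58 LD3_c31))))))))))))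
theorem f218713 : Led Lsl_bt (LP (LK LD1_c7 LD2_c58 LD3_c19)) = (LP (LK LD1_c3 LD2_c58 LD3_c28)) :=
  Lre_b IH (LK LD1_c7 LD2_c58 LD3_c19) (LK LD1_c3 LD2_c58 LD3_c28) Lrfl Lrfl
theorem f373182 : Led Lsl_ff (LP (LK LD1_c7 LD2_c58 LD3_c19)) = (LP (LK LD1_c15 LD2_c0 LD3_c60)) :=
  Lgr Lrot25 (Lpr_bt (f218713 IH) (Lpr_ft (K27.f373179 IH) (Lpr_bt (K13.f173839 IH) (Lpn (LP (LK LD1_c15 LD2_c0 LD3_c60))))))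
theorem f218953 : Led Lsl_at (LP (LK LD1_c7 LD2_c58 LD3_c19)) = (LP (LK LD1_c15 LD2_c2 LD3_c21)) :=
  Lre_a IH (LK LD1_c7 LD2_c58 LD3_c19) (LK LD1_c15 LD2_c2 LD3_c21) Lrfl Lrfl
theorem f374730 : Led Lsl_gf (LP (LK LD1_c15 LD2_c2 LD3_c21)) = (LP (LK LD1_c24 LD2_c48 LD3_c42)) :=
  Lgr Lrot76 (Lpe (f218953 IH) (Lpr_ff (f373182 IH) (Lpr_gt (K13.f189491 IH) (Lpn (LP (LK LD1_c24 LD2_c48 LD3_c42))))))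
theorem f218915 : Led Lsl_bt (LP (LK LD1_c15 LD2_c2 LD3_c23)) = (LP (LK LD1_c7 LD2_c58 LD3_c21)) :=
  Lre_b IH (LK LD1_c15 LD2_c2 LD3_c23) (LK LD1_c7 LD2_c58 LD3_c21) Lrfl Lrfl
theorem f218911 : Led Lsl_bt (LP (LK LD1_c10 LD2_c23 LD3_c28)) = (LP (LK LD1_c18 LD2_c51 LD3_c6)) :=
  Lre_b IH (LK LD1_c10 LD2_c23 LD3_c28) (LK LD1_c18 LD2_c51 LD3_c6) Lrfl Lrfl
theorem f218916 : Led Lsl_cf (LP (LK LD1_c15 LD2_c2 LD3_c23)) = (LP (LK LD1_c18 LD2_c51 LD3_c6)) :=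
  Lgr Lrot97 (Lpr_bt (f218915 IH) (Lpr_ct (K25.f218914 IH) (Lpr_bt (K25.f218913 IH) (Lpr_ct (K23.f218905 IH) (Lpr_bt (f218911 IH) (Lpn (LP (LK LD1_c18 LD2_c51 LD3_c6))))))))
theorem f218925 : Led Lsl_et (LP (LK LD1_c15 LD2_c2 LD3_c23)) = (LP (LK LD1_c7 LD2_c58 LD3_c19)) :=
  Lre_e IH (LK LD1_c15 LD2_c2 LD3_c23) (LK LD1_c7 LD2_c58 LD3_c19) Lrfl Lrfl
theorem f218926 : Led Lsl_et (LP (LK LD1_c10 LD2_c23 LD3_c26)) = (LP (LK LD1_c18 LD2_c51 LD3_c6)) :=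
  Lre_e IH (LK LD1_c10 LD2_c23 LD3_c26) (LK LD1_c18 LD2_c51 LD3_c6) Lrfl Lrfl
theorem f218927 : Led Lsl_ct (LP (LK LD1_c7 LD2_c58 LD3_c19)) = (LP (LK LD1_c10 LD2_c23 LD3_c26)) :=
  Lgr Lrot15 (Lpe (f218925 IH) (Lpr_cf (f218916 IH) (Lpe (f218926 IH) (Lpn (LP (LK LD1_c10 LD2_c23 LD3_c26))))))
theorem f218936 : Led Lsl_at (LP (LK LD1_c15 LD2_c2 LD3_c21)) = (LP (LK LD1_c7 LD2_c58 LD3_c19)) :=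
  Lre_a IH (LK LD1_c15 LD2_c2 LD3_c21) (LK LD1_c7 LD2_c58 LD3_c19) Lrfl Lrfl
theorem f218937 : Led Lsl_at (LP (LK LD1_c10 LD2_c23 LD3_c26)) = (LP (LK LD1_c18 LD2_c51 LD3_c4)) :=
  Lre_a IH (LK LD1_c10 LD2_c23 LD3_c26) (LK LD1_c18 LD2_c51 LD3_c4) Lrfl Lrfl
theorem f218938 : Led Lsl_cf (LP (LK LD1_c15 LD2_c2 LD3_c21)) = (LP (LK LD1_c18 LD2_c51 LD3_c4)) :=
  Lgr Lrot1 (Lpr_at (f218936 IH) (Lpr_ct (f218927 IH) (Lpr_at (f218937 IH) (Lpn (LP (LK LD1_c18 LD2_c51 LD3_c4))))))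
theorem f218949 : Led Lsl_ct (LP (LK LD1_c15 LD2_c2 LD3_c21)) = (LP (LK LD1_c18 LD2_c51 LD3_c4)) :=
  Lgr Lrot59 (Lpr_cf (f218938 IH) (Lpn (LP (LK LD1_c18 LD2_c51 LD3_c4))))
theorem f373196 : Led Lsl_bt (LP (LK LD1_c24 LD2_c48 LD3_c43)) = (LP (LK LD1_c15 LD2_c2 LD3_c6)) :=
  Lgr Lrot62 (Lpe (K27.f196474 IH) (Lpe (K13.f173839 IH) (Lpr_af (K27.f373194 IH) (Lpe (K27.f167946 IH) (Lpe (K27.f168000 IH) (Lpn (LP (LK LD1_c15 LD2_c2 LD3_c6))))))))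
theorem f168029 : Led Lsl_at (LP (LK LD1_c7 LD2_c58 LD3_c12)) = (LP (LK LD1_c15 LD2_c2 LD3_c6)) :=
  Lre_a IH (LK LD1_c7 LD2_c58 LD3_c12) (LK LD1_c15 LD2_c2 LD3_c6) Lrfl Lrfl
theorem f224011 : Led Lsl_at (LP (LK LD1_c10 LD2_c40 LD3_c52)) = (LP (LK LD1_c5 LD2_c25 LD3_c4)) :=
  Lre_a IH (LK LD1_c10 LD2_c40 LD3_c52) (LK LD1_c5 LD2_c25 LD3_c4) Lrfl Lrfl
theorem f370177 : Led Lsl_ft (LP (LK LD1_c15 LD2_c2 LD3_c6)) = (LP (LK LD1_c10 LD2_c40 LD3_c52)) :=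
  Lgr Lrot101 (Lpe (f168029 IH) (Lpr_ff (K27.f370170 IH) (Lpe (f224011 IH) (Lpn (LP (LK LD1_c10 LD2_c40 LD3_c52))))))
theorem f173095 : Led Lsl_bt (LP (LK LD1_c2 LD2_c39 LD3_c1)) = (LP (LK LD1_c1 LD2_c16 LD3_c21)) :=
  Lre_b IH (LK LD1_c2 LD2_c39 LD3_c1) (LK LD1_c1 LD2_c16 LD3_c21) Lrfl Lrfl
theorem f173097 : Led Lsl_bt (LP (LK LD1_c7 LD2_c57 LD3_c43)) = (LP (LK LD1_c5 LD2_c25 LD3_c4)) :=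
  Lgr Lrot128 (Lpe (K16.f173085 IH) (Lpr_bf (K9.f173090 IH) (Lpe (K14.f173094 IH) (Lpe (f173095 IH) (Lpe (K14.f173096 IH) (Lpn (LP (LK LD1_c5 LD2_c25 LD3_c4))))))))
theorem f370161 : Led Lsl_at (LP (LK LD1_c5 LD2_c25 LD3_c4)) = (LP (LK LD1_c10 LD2_c40 LD3_c52)) :=
  Lre_a IH (LK LD1_c5 LD2_c25 LD3_c4) (LK LD1_c10 LD2_c40 LD3_c52) Lrfl Lrfl
theorem f373190 : Led Lsl_bf (LP (LK LD1_c15 LD2_c2 LD3_c21)) = (LP (LK LD1_c10 LD2_c40 LD3_c52)) :=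
  Lgr Lrot81 (Lpr_at (f218936 IH) (Lpr_bt (f218713 IH) (Lpr_at (K27.f373188 IH) (Lpr_bt (f173097 IH) (Lpr_at (f370161 IH) (Lpn (LP (LK LD1_c10 LD2_c40 LD3_c52))))))))
theorem f374621 : Led Lsl_ff (LP (LK LD1_c24 LD2_c48 LD3_c43)) = (LP (LK LD1_c15 LD2_c2 LD3_c21)) :=
  Lgr Lrot25 (Lpr_bt (f373196 IH) (Lpr_ft (f370177 IH) (Lpe (f373190 IH) (Lpn (LP (LK LD1_c15 LD2_c2 LD3_c21))))))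
theorem f374625 : Led Lsl_ft (LP (LK LD1_c24 LD2_c48 LD3_c43)) = (LP (LK LD1_c15 LD2_c2 LD3_c21)) :=
  Lgr Lrot48 (Lpr_ff (f374621 IH) (Lpn (LP (LK LD1_c15 LD2_c2 LD3_c21))))
theorem f196500 : Led Lsl_ct (LP (LK LD1_c15 LD2_c15 LD3_c29)) = (LP (LK LD1_c24 LD2_c48 LD3_c45)) :=
  Lgr Lrot59 (Lpr_cf (K13.f196485 IH) (Lpn (LP (LK LD1_c24 LD2_c48 LD3_c45))))
theorem f196504 : Led Lsl_at (LP (LK LD1_c25 LD2_c4 LD3_c40)) = (LP (LK LD1_c15 LD2_c15 LD3_c29)) :=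
  Lre_a IH (LK LD1_c25 LD2_c4 LD3_c40) (LK LD1_c15 LD2_c15 LD3_c29) Lrfl Lrfl
theorem f196511 : Led Lsl_at (LP (LK LD1_c24 LD2_c48 LD3_c45)) = (LP (LK LD1_c31 LD2_c39 LD3_c44)) :=
  Lre_a IH (LK LD1_c24 LD2_c48 LD3_c45) (LK LD1_c31 LD2_c39 LD3_c44) Lrfl Lrfl
theorem f196512 : Led Lsl_cf (LP (LK LD1_c25 LD2_c4 LD3_c40)) = (LP (LK LD1_c31 LD2_c39 LD3_c44)) :=
  Lgr Lrot1 (Lpr_at (f196504 IH) (Lpr_ct (f196500 IH) (Lpr_at (f196511 IH) (Lpn (LP (LK LD1_c31 LD2_c39 LD3_c44))))))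
theorem f196519 : Led Lsl_et (LP (LK LD1_c25 LD2_c4 LD3_c40)) = (LP (LK LD1_c15 LD2_c15 LD3_c27)) :=
  Lre_e IH (LK LD1_c25 LD2_c4 LD3_c40) (LK LD1_c15 LD2_c15 LD3_c27) Lrfl Lrfl
theorem f196521 : Led Lsl_ct (LP (LK LD1_c15 LD2_c15 LD3_c27)) = (LP (LK LD1_c24 LD2_c48 LD3_c43)) :=
  Lgr Lrot15 (Lpe (f196519 IH) (Lpr_cf (f196512 IH) (Lpe (K27.f196520 IH) (Lpn (LP (LK LD1_c24 LD2_c48 LD3_c43))))))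
theorem f374635 : Led Lsl_ff (LP (LK LD1_c15 LD2_c15 LD3_c27)) = (LP (LK LD1_c18 LD2_c51 LD3_c4)) :=
  Lgr Lrot23 (Lpr_ct (f196521 IH) (Lpr_ft (f374625 IH) (Lpr_ct (f218949 IH) (Lpn (LP (LK LD1_c18 LD2_c51 LD3_c4))))))
theorem f196470 : Led Lsl_gt (LP (LK LD1_c15 LD2_c15 LD3_c26)) = (LP (LK LD1_c8 LD2_c6 LD3_c14)) :=
  Lre_g IH (LK LD1_c15 LD2_c15 LD3_c26) (LK LD1_c8 LD2_c6 LD3_c14) Lrfl Lrfl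
theorem f374658 : Led Lsl_gf (LP (LK LD1_c15 LD2_c15 LD3_c26)) = (LP (LK LD1_c18 LD2_c51 LD3_c4)) :=
  Lgr Lrot47 (Lpr_gt (f196470 IH) (Lpe (K27.f196473 IH) (Lpr_ff (f374635 IH) (Lpn (LP (LK LD1_c18 LD2_c51 LD3_c4))))))
theorem f290783 : Led Lsl_bt (LP (LK LD1_c3 LD2_c58 LD3_c31)) = (LP (LK LD1_c7 LD2_c58 LD3_c29)) :=
  Lre_b IH (LK LD1_c3 LD2_c58 LD3_c31) (LK LD1_c7 LD2_c58 LD3_c29) Lrfl Lrfl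
theorem f290785 : Led Lsl_gt (LP (LK LD1_c7 LD2_c58 LD3_c29)) = (LP (LK LD1_c15 LD2_c2 LD3_c41)) :=
  Lre_g IH (LK LD1_c7 LD2_c58 LD3_c29) (LK LD1_c15 LD2_c2 LD3_c41) Lrfl Lrfl
theorem f290786 : Led Lsl_bt (LP (LK LD1_c24 LD2_c51 LD3_c28)) = (LP (LK LD1_c15 LD2_c2 LD3_c41)) :=
  Lre_b IH (LK LD1_c24 LD2_c51 LD3_c28) (LK LD1_c15 LD2_c2 LD3_c41) Lrfl Lrfl
theorem f300775 : Led Lsl_cf (LP (LK LD1_c15 LD2_c15 LD3_c26)) = (LP (LK LD1_c24 LD2_c51 LD3_c28)) :=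
  Lgr Lrot160 (Lpr_gt (f196470 IH) (Lpr_cf (f196479 IH) (Lpr_bt (f196478 IH) (Lpr_gt (K17.f218116 IH) (Lpr_ct (K16.f218114 IH) (Lpr_gt (K18.f300771 IH) (Lpr_cf (K17.f290764 IH) (Lpr_bt (f290783 IH) (Lpr_gt (f290785 IH) (Lpe (f290786 IH) (Lpn (LP (LK LD1_c24 LD2_c51 LD3_c28)))))))))))))
theorem f293124 : Led Lsl_at (LP (LK LD1_c8 LD2_c54 LD3_c8)) = (LP (LK LD1_c16 LD2_c39 LD3_c13)) :=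
  Lre_a IH (LK LD1_c8 LD2_c54 LD3_c8) (LK LD1_c16 LD2_c39 LD3_c13) Lrfl Lrfl
theorem f303525 : Led Lsl_gf (LP (LK LD1_c16 LD2_c39 LD3_c13)) = (LP (LK LD1_c15 LD2_c2 LD3_c41)) :=
  Lgr Lrot76 (Lpe (f293124 IH) (Lpr_ff (K18.f303503 IH) (Lpr_gt (f290785 IH) (Lpn (LP (LK LD1_c15 LD2_c2 LD3_c41))))))
theorem f242950 : Led Lsl_bt (LP (LK LD1_c8 LD2_c8 LD3_c13)) = (LP (LK LD1_c15 LD2_c19 LD3_c13)) :=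
  Lre_b IH (LK LD1_c8 LD2_c8 LD3_c13) (LK LD1_c15 LD2_c19 LD3_c13) Lrfl Lrfl
theorem f293841 : Led Lsl_at (LP (LK LD1_c15 LD2_c19 LD3_c13)) = (LP (LK LD1_c25 LD2_c10 LD3_c12)) :=
  Lre_a IH (LK LD1_c15 LD2_c19 LD3_c13) (LK LD1_c25 LD2_c10 LD3_c12) Lrfl Lrfl
theorem f293842 : Led Lsl_bt (LP (LK LD1_c8 LD2_c54 LD3_c21)) = (LP (LK LD1_c4 LD2_c28 LD3_c10)) :=
  Lre_b IH (LK LD1_c8 LD2_c54 LD3_c21) (LK LD1_c4 LD2_c28 LD3_c10) Lrfl Lrfl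
theorem f293843 : Led Lsl_at (LP (LK LD1_c16 LD2_c39 LD3_c34)) = (LP (LK LD1_c8 LD2_c54 LD3_c21)) :=
  Lre_a IH (LK LD1_c16 LD2_c39 LD3_c34) (LK LD1_c8 LD2_c54 LD3_c21) Lrfl Lrfl
theorem f293844 : Led Lsl_bt (LP (LK LD1_c25 LD2_c10 LD3_c12)) = (LP (LK LD1_c16 LD2_c39 LD3_c34)) :=
  Lgr Lrot62 (Lpe (f293841 IH) (Lpe (f242950 IH) (Lpr_af (K18.f293834 IH) (Lpe (f293842 IH) (Lpe (f293843 IH) (Lpn (LP (LK LD1_c16 LD2_c39 LD3_c34))))))))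
theorem f292252 : Led Lsl_et (LP (LK LD1_c15 LD2_c19 LD3_c11)) = (LP (LK LD1_c25 LD2_c10 LD3_c12)) :=
  Lre_e IH (LK LD1_c15 LD2_c19 LD3_c11) (LK LD1_c25 LD2_c10 LD3_c12) Lrfl Lrfl
theorem f293913 : Led Lsl_et (LP (LK LD1_c16 LD2_c39 LD3_c34)) = (LP (LK LD1_c8 LD2_c54 LD3_c19)) :=
  Lre_e IH (LK LD1_c16 LD2_c39 LD3_c34) (LK LD1_c8 LD2_c54 LD3_c19) Lrfl Lrfl
theorem f293914 : Led Lsl_bf (LP (LK LD1_c15 LD2_c19 LD3_c11)) = (LP (LK LD1_c8 LD2_c54 LD3_c19)) :=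
  Lgr Lrot96 (Lpr_et (f292252 IH) (Lpr_bt (f293844 IH) (Lpr_et (f293913 IH) (Lpn (LP (LK LD1_c8 LD2_c54 LD3_c19))))))
theorem f227174 : Led Lsl_ct (LP (LK LD1_c15 LD2_c19 LD3_c11)) = (LP (LK LD1_c8 LD2_c8 LD3_c18)) :=
  Lre_c IH (LK LD1_c15 LD2_c19 LD3_c11) (LK LD1_c8 LD2_c8 LD3_c18) Lrfl Lrfl
theorem f293921 : Led Lsl_ct (LP (LK LD1_c16 LD2_c39 LD3_c13)) = (LP (LK LD1_c8 LD2_c54 LD3_c19)) :=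
  Lre_c IH (LK LD1_c16 LD2_c39 LD3_c13) (LK LD1_c8 LD2_c54 LD3_c19) Lrfl Lrfl
theorem f293922 : Led Lsl_bt (LP (LK LD1_c15 LD2_c2 LD3_c35)) = (LP (LK LD1_c16 LD2_c39 LD3_c13)) :=
  Lgr Lrot128 (Lpr_cf (K17.f219040 IH) (Lpe (K17.f293049 IH) (Lpe (f227174 IH) (Lpr_bf (f293914 IH) (Lpe (f293921 IH) (Lpn (LP (LK LD1_c16 LD2_c39 LD3_c13))))))))
theorem f374732 : Led Lsl_gt (LP (LK LD1_c15 LD2_c9 LD3_c12)) = (LP (LK LD1_c8 LD2_c8 LD3_c41)) :=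
  Lgr Lrot65 (Lpe (K17.f219014 IH) (Lpr_bt (f293922 IH) (Lpr_gf (f303525 IH) (Lpe (f290786 IH) (Lpe (f300775 IH) (Lpr_gf (f374658 IH) (Lpe (f218949 IH) (Lpr_gf (f374730 IH) (Lpe (K13.f196437 IH) (Lpr_ct (K13.f196436 IH) (Lpn (LP (LK LD1_c8 LD2_c8 LD3_c41)))))))))))))
theorem f223479 : Led Lsl_gt (LP (LK LD1_c4 LD2_c28 LD3_c15)) = (LP (LK LD1_c8 LD2_c54 LD3_c35)) :=
  Lre_g IH (LK LD1_c4 LD2_c28 LD3_c15) (LK LD1_c8 LD2_c54 LD3_c35) Lrfl Lrfl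
theorem f292225 : Led Lsl_gf (LP (LK LD1_c15 LD2_c19 LD3_c11)) = (LP (LK LD1_c8 LD2_c54 LD3_c35)) :=
  Lgr Lrot76 (Lpe (K17.f227185 IH) (Lpr_ff (K17.f292212 IH) (Lpr_gt (f223479 IH) (Lpn (LP (LK LD1_c8 LD2_c54 LD3_c35))))))
theorem f52472 : Led Lsl_ct (LP (LK LD1_c4 LD2_c4 LD3_c12)) = (LP (LK LD1_c8 LD2_c9 LD3_c13)) :=
  Lre_c IH (LK LD1_c4 LD2_c4 LD3_c12) (LK LD1_c8 LD2_c9 LD3_c13) Lrfl Lrfl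
theorem f374734 : Led Lsl_bt (LP (LK LD1_c4 LD2_c4 LD3_c12)) = (LP (LK LD1_c8 LD2_c9 LD3_c12)) :=
  Lre_b IH (LK LD1_c4 LD2_c4 LD3_c12) (LK LD1_c8 LD2_c9 LD3_c12) Lrfl Lrfl
theorem f233907 : Led Lsl_gt (LP (LK LD1_c8 LD2_c9 LD3_c12)) = (LP (LK LD1_c15 LD2_c21 LD3_c15)) :=
  Lre_g IH (LK LD1_c8 LD2_c9 LD3_c12) (LK LD1_c15 LD2_c21 LD3_c15) Lrfl Lrfl
theorem f374735 : Led Lsl_cf (LP (LK LD1_c8 LD2_c54 LD3_c35)) = (LP (LK LD1_c15 LD2_c21 LD3_c15)) :=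
  Lgr Lrot125 (Lpe (f292225 IH) (Lpe (K17.f227183 IH) (Lpr_bt (K17.f293049 IH) (Lpr_gt (f374732 IH) (Lpe (K13.f196443 IH) (Lpr_ct (f196460 IH) (Lpr_gt (K13.f196455 IH) (Lpe (f52472 IH) (Lpr_bt (f374734 IH) (Lpr_gt (f233907 IH) (Lpn (LP (LK LD1_c15 LD2_c21 LD3_c15)))))))))))))
theorem f223485 : Led Lsl_gt (LP (LK LD1_c15 LD2_c9 LD3_c22)) = (LP (LK LD1_c8 LD2_c2 LD3_c60)) :=
  Lre_g IH (LK LD1_c15 LD2_c9 LD3_c22) (LK LD1_c8 LD2_c2 LD3_c60) Lrfl Lrfl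
theorem f223507 : Led Lsl_bt (LP (LK LD1_c24 LD2_c58 LD3_c19)) = (LP (LK LD1_c15 LD2_c9 LD3_c22)) :=
  Lre_b IH (LK LD1_c24 LD2_c58 LD3_c19) (LK LD1_c15 LD2_c9 LD3_c22) Lrfl Lrfl
theorem f223517 : Led Lsl_ct (LP (LK LD1_c24 LD2_c58 LD3_c19)) = (LP (LK LD1_c24 LD2_c58 LD3_c33)) :=
  Lre_c IH (LK LD1_c24 LD2_c58 LD3_c19) (LK LD1_c24 LD2_c58 LD3_c33) Lrfl Lrfl
theorem f52545 : Led Lsl_gt (LP (LK LD1_c15 LD2_c9 LD3_c31)) = (LP (LK LD1_c24 LD2_c58 LD3_c33)) :=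
  Lre_g IH (LK LD1_c15 LD2_c9 LD3_c31) (LK LD1_c24 LD2_c58 LD3_c33) Lrfl Lrfl
theorem f374741 : Led Lsl_bf (LP (LK LD1_c24 LD2_c58 LD3_c31)) = (LP (LK LD1_c15 LD2_c21 LD3_c15)) :=
  Lgr Lrot156 (Lpr_gt (f223582 IH) (Lpe (f223581 IH) (Lpr_ct (K18.f52544 IH) (Lpr_gt (f52545 IH) (Lpe (f223517 IH) (Lpr_bt (f223507 IH) (Lpr_gt (f223485 IH) (Lpe (f223387 IH) (Lpr_gt (f223479 IH) (Lpr_cf (f374735 IH) (Lpn (LP (LK LD1_c15 LD2_c21 LD3_c15)))))))))))))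
theorem f374743 : Led Lsl_bt (LP (LK LD1_c24 LD2_c58 LD3_c31)) = (LP (LK LD1_c15 LD2_c21 LD3_c15)) :=
  Lgr Lrot127 (Lpr_bf (f374741 IH) (Lpn (LP (LK LD1_c15 LD2_c21 LD3_c15))))
theorem f393118 : Led Lsl_gf (LP (LK LD1_c25 LD2_c11 LD3_c48)) = (LP (LK LD1_c15 LD2_c21 LD3_c15)) :=
  Lgr Lrot124 (Lpr_bf (f393108 IH) (Lpe (f393116 IH) (Lpr_gt (f196877 IH) (Lpe (K10.f196879 IH) (Lpe (f52652 IH) (Lpr_gt (K30.f52744 IH) (Lpr_ct (K30.f52749 IH) (Lpr_gt (f52750 IH) (Lpr_cf (f390034 IH) (Lpr_bt (f374743 IH) (Lpn (LP (LK LD1_c15 LD2_c21 LD3_c15)))))))))))))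
theorem f390032 : Led Lsl_ct (LP (LK LD1_c15 LD2_c54 LD3_c20)) = (LP (LK LD1_c24 LD2_c58 LD3_c31)) :=
  Lgr Lrot8 (Lpr_gt (f220913 IH) (Lpr_dt (K30.f220916 IH) (Lpr_gt (f220917 IH) (Lpr_dt (K30.f388204 IH) (Lpr_cf (K30.f319154 IH) (Lpr_df (f385091 IH) (Lpr_gf (f390030 IH) (Lpe (f296680 IH) (Lpe (f223582 IH) (Lpn (LP (LK LD1_c24 LD2_c58 LD3_c31))))))))))))
theorem f174411 : Led Lsl_ct (LP (LK LD1_c10 LD2_c40 LD3_c48)) = (LP (LK LD1_c19 LD2_c20 LD3_c10)) :=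
  Lre_c IH (LK LD1_c10 LD2_c40 LD3_c48) (LK LD1_c19 LD2_c20 LD3_c10) Lrfl Lrfl
theorem f390965 : Led Lsl_df (LP (LK LD1_c24 LD2_c58 LD3_c31)) = (LP (LK LD1_c19 LD2_c20 LD3_c10)) :=
  Lgr Lrot162 (Lpe (f390032 IH) (Lpe (f52750 IH) (Lpe (K30.f52749 IH) (Lpe (K30.f52744 IH) (Lpe (f52733 IH) (Lpr_gt (K12.f52870 IH) (Lpr_ct (K22.f218284 IH) (Lpr_gt (f390954 IH) (Lpr_ct (f174411 IH) (Lpn (LP (LK LD1_c19 LD2_c20 LD3_c10))))))))))))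
theorem f390969 : Led Lsl_dt (LP (LK LD1_c15 LD2_c21 LD3_c15)) = (LP (LK LD1_c24 LD2_c51 LD3_c14)) :=
  Lgr Lrot79 (Lpe (f374743 IH) (Lpr_df (f390965 IH) (Lpr_bf (f253212 IH) (Lpn (LP (LK LD1_c24 LD2_c51 LD3_c14))))))
theorem f390971 : Led Lsl_df (LP (LK LD1_c15 LD2_c21 LD3_c15)) = (LP (LK LD1_c24 LD2_c51 LD3_c14)) :=
  Lgr Lrot38 (Lpr_dt (f390969 IH) (Lpn (LP (LK LD1_c24 LD2_c51 LD3_c14))))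
theorem f290536 : Led Lsl_gt (LP (LK LD1_c25 LD2_c10 LD3_c23)) = (LP (LK LD1_c15 LD2_c19 LD3_c22)) :=
  Lre_g IH (LK LD1_c25 LD2_c10 LD3_c23) (LK LD1_c15 LD2_c19 LD3_c22) Lrfl Lrfl
theorem f393124 : Led Lsl_ct (LP (LK LD1_c25 LD2_c11 LD3_c48)) = (LP (LK LD1_c25 LD2_c10 LD3_c23)) :=
  Lgr Lrot152 (Lpr_gf (f393118 IH) (Lpr_df (f390971 IH) (Lpe (f390950 IH) (Lpr_ct (f390948 IH) (Lpr_gt (f290537 IH) (Lpr_ct (K20.f196426 IH) (Lpe (K20.f290532 IH) (Lpe (K20.f218820 IH) (Lpe (f290536 IH) (Lpn (LP (LK LD1_c25 LD2_c10 LD3_c23))))))))))))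
theorem f393111 : Led Lsl_bt (LP (LK LD1_c25 LD2_c11 LD3_c48)) = (LP (LK LD1_c15 LD2_c20 LD3_c61)) :=
  Lgr Lrot127 (Lpr_bf (f393108 IH) (Lpn (LP (LK LD1_c15 LD2_c20 LD3_c61))))
theorem f290530 : Led Lsl_bt (LP (LK LD1_c8 LD2_c8 LD3_c16)) = (LP (LK LD1_c15 LD2_c19 LD3_c21)) :=
  Lre_b IH (LK LD1_c8 LD2_c8 LD3_c16) (LK LD1_c15 LD2_c19 LD3_c21) Lrfl Lrfl
theorem f387983 : Led Lsl_ct (LP (LK LD1_c8 LD2_c27 LD3_c58)) = (LP (LK LD1_c15 LD2_c53 LD3_c48)) :=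
  Lre_c IH (LK LD1_c8 LD2_c27 LD3_c58) (LK LD1_c15 LD2_c53 LD3_c48) Lrfl Lrfl
theorem f387978 : Led Lsl_bt (LP (LK LD1_c8 LD2_c27 LD3_c58)) = (LP (LK LD1_c15 LD2_c53 LD3_c47)) :=
  Lre_b IH (LK LD1_c8 LD2_c27 LD3_c58) (LK LD1_c15 LD2_c53 LD3_c47) Lrfl Lrfl
theorem f393130 : Led Lsl_gf (LP (LK LD1_c15 LD2_c20 LD3_c61)) = (LP (LK LD1_c15 LD2_c53 LD3_c47)) :=
  Lgr Lrot124 (Lpe (f393111 IH) (Lpr_ct (f393124 IH) (Lpr_gt (f290536 IH) (Lpe (K20.f227113 IH) (Lpr_bt (f290530 IH) (Lpe (f388531 IH) (Lpr_ct (K30.f52882 IH) (Lpr_gt (f388533 IH) (Lpe (f387983 IH) (Lpr_bt (f387978 IH) (Lpn (LP (LK LD1_c15 LD2_c53 LD3_c47)))))))))))))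
theorem f390015 : Led Lsl_gt (LP (LK LD1_c15 LD2_c52 LD3_c5)) = (LP (LK LD1_c8 LD2_c27 LD3_c9)) :=
  Lgr Lrot149 (Lpr_cf (f390010 IH) (Lpe (f223582 IH) (Lpr_bf (f374741 IH) (Lpe (f374735 IH) (Lpe (f223479 IH) (Lpr_cf (f223387 IH) (Lpr_bt (f217489 IH) (Lpe (K12.f223586 IH) (Lpe (f52648 IH) (Lpr_ct (f52777 IH) (Lpn (LP (LK LD1_c8 LD2_c27 LD3_c9)))))))))))))
theorem f52778 : Led Lsl_dt (LP (LK LD1_c8 LD2_c27 LD3_c9)) = (LP (LK LD1_c15 LD2_c52 LD3_c19)) :=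
  Lre_d IH (LK LD1_c8 LD2_c27 LD3_c9) (LK LD1_c15 LD2_c52 LD3_c19) Lrfl Lrfl
theorem f278060 : Led Lsl_gt (LP (LK LD1_c15 LD2_c52 LD3_c19)) = (LP (LK LD1_c25 LD2_c48 LD3_c4)) :=
  Lre_g IH (LK LD1_c15 LD2_c52 LD3_c19) (LK LD1_c25 LD2_c48 LD3_c4) Lrfl Lrfl
theorem f213797 : Led Lsl_gt (LP (LK LD1_c8 LD2_c56 LD3_c31)) = (LP (LK LD1_c16 LD2_c44 LD3_c20)) :=
  Lre_g IH (LK LD1_c8 LD2_c56 LD3_c31) (LK LD1_c16 LD2_c44 LD3_c20) Lrfl Lrfl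
theorem f52784 : Led Lsl_gt (LP (LK LD1_c25 LD2_c48 LD3_c4)) = (LP (LK LD1_c15 LD2_c52 LD3_c14)) :=
  Lre_g IH (LK LD1_c25 LD2_c48 LD3_c4) (LK LD1_c15 LD2_c52 LD3_c14) Lrfl Lrfl
theorem f297481 : Led Lsl_dt (LP (LK LD1_c16 LD2_c44 LD3_c20)) = (LP (LK LD1_c25 LD2_c48 LD3_c4)) :=
  Lgr Lrot57 (Lpe (f213797 IH) (Lpe (K14.f247298 IH) (Lpr_gt (K22.f223702 IH) (Lpr_dt (K22.f297472 IH) (Lpr_gt (K11.f52875 IH) (Lpr_dt (K10.f52730 IH) (Lpe (K10.f52793 IH) (Lpe (K10.f52792 IH) (Lpe (f52784 IH) (Lpn (LP (LK LD1_c25 LD2_c48 LD3_c4))))))))))))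
theorem f297483 : Led Lsl_df (LP (LK LD1_c16 LD2_c44 LD3_c20)) = (LP (LK LD1_c25 LD2_c48 LD3_c4)) :=
  Lgr Lrot38 (Lpr_dt (f297481 IH) (Lpn (LP (LK LD1_c25 LD2_c48 LD3_c4))))
theorem f388118 : Led Lsl_ct (LP (LK LD1_c15 LD2_c54 LD3_c34)) = (LP (LK LD1_c10 LD2_c49 LD3_c12)) :=
  Lgr Lrot59 (Lpr_cf (f387957 IH) (Lpn (LP (LK LD1_c10 LD2_c49 LD3_c12))))
theorem f275058 : Led Lsl_at (LP (LK LD1_c10 LD2_c36 LD3_c15)) = (LP (LK LD1_c5 LD2_c22 LD3_c57)) :=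
  Lre_a IH (LK LD1_c10 LD2_c36 LD3_c15) (LK LD1_c5 LD2_c22 LD3_c57) Lrfl Lrfl
theorem f277774 : Led Lsl_bt (LP (LK LD1_c19 LD2_c3 LD3_c35)) = (LP (LK LD1_c10 LD2_c36 LD3_c15)) :=
  Lgr Lrot62 (Lpe (K18.f256975 IH) (Lpe (K17.f256925 IH) (Lpr_af (K16.f277770 IH) (Lpe (K17.f217677 IH) (Lpe (f275058 IH) (Lpn (LP (LK LD1_c10 LD2_c36 LD3_c15))))))))
theorem f286579 : Led Lsl_bf (LP (LK LD1_c15 LD2_c22 LD3_c23)) = (LP (LK LD1_c11 LD2_c8 LD3_c41)) :=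
  Lgr Lrot90 (Lpr_ct (K18.f256963 IH) (Lpr_bt (f277774 IH) (Lpe (K17.f275059 IH) (Lpr_bt (K17.f286577 IH) (Lpr_ct (K17.f244624 IH) (Lpn (LP (LK LD1_c11 LD2_c8 LD3_c41))))))))
theorem f244637 : Led Lsl_ct (LP (LK LD1_c11 LD2_c8 LD3_c41)) = (LP (LK LD1_c10 LD2_c46 LD3_c56)) :=
  Lre_c IH (LK LD1_c11 LD2_c8 LD3_c41) (LK LD1_c10 LD2_c46 LD3_c56) Lrfl Lrfl
theorem f371454 : Led Lsl_ft (LP (LK LD1_c24 LD2_c49 LD3_c27)) = (LP (LK LD1_c19 LD2_c29 LD3_c13)) :=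
  Lgr Lrot48 (Lpr_ff (K30.f371447 IH) (Lpn (LP (LK LD1_c19 LD2_c29 LD3_c13))))
theorem f282840 : Led Lsl_gt (LP (LK LD1_c19 LD2_c29 LD3_c12)) = (LP (LK LD1_c10 LD2_c46 LD3_c31)) :=
  Lre_g IH (LK LD1_c19 LD2_c29 LD3_c12) (LK LD1_c10 LD2_c46 LD3_c31) Lrfl Lrfl
theorem f371464 : Led Lsl_gt (LP (LK LD1_c24 LD2_c49 LD3_c27)) = (LP (LK LD1_c19 LD2_c29 LD3_c12)) :=
  Lgr Lrot5 (Lpr_ft (f371454 IH) (Lpr_at (K23.f344619 IH) (Lpe (f282840 IH) (Lpn (LP (LK LD1_c19 LD2_c29 LD3_c12))))))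
theorem f324367 : Led Lsl_ct (LP (LK LD1_c19 LD2_c29 LD3_c13)) = (LP (LK LD1_c10 LD2_c46 LD3_c38)) :=
  Lre_c IH (LK LD1_c19 LD2_c29 LD3_c13) (LK LD1_c10 LD2_c46 LD3_c38) Lrfl Lrfl
theorem f324353 : Led Lsl_at (LP (LK LD1_c15 LD2_c37 LD3_c36)) = (LP (LK LD1_c8 LD2_c18 LD3_c30)) :=
  Lre_a IH (LK LD1_c15 LD2_c37 LD3_c36) (LK LD1_c8 LD2_c18 LD3_c30) Lrfl Lrfl
theorem f324354 : Led Lsl_at (LP (LK LD1_c5 LD2_c27 LD3_c45)) = (LP (LK LD1_c10 LD2_c46 LD3_c38)) :=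
  Lre_a IH (LK LD1_c5 LD2_c27 LD3_c45) (LK LD1_c10 LD2_c46 LD3_c38) Lrfl Lrfl
theorem f324355 : Led Lsl_ff (LP (LK LD1_c15 LD2_c37 LD3_c36)) = (LP (LK LD1_c10 LD2_c46 LD3_c38)) :=
  Lgr Lrot30 (Lpr_at (f324353 IH) (Lpr_ft (K21.f324350 IH) (Lpr_at (f324354 IH) (Lpn (LP (LK LD1_c10 LD2_c46 LD3_c38))))))
theorem f371460 : Led Lsl_cf (LP (LK LD1_c24 LD2_c49 LD3_c27)) = (LP (LK LD1_c15 LD2_c37 LD3_c36)) :=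
  Lgr Lrot108 (Lpr_ft (f371454 IH) (Lpr_ct (f324367 IH) (Lpe (f324355 IH) (Lpn (LP (LK LD1_c15 LD2_c37 LD3_c36))))))
theorem f323134 : Led Lsl_at (LP (LK LD1_c8 LD2_c18 LD3_c30)) = (LP (LK LD1_c15 LD2_c37 LD3_c36)) :=
  Lre_a IH (LK LD1_c8 LD2_c18 LD3_c30) (LK LD1_c15 LD2_c37 LD3_c36) Lrfl Lrfl
theorem f235832 : Led Lsl_at (LP (LK LD1_c10 LD2_c46 LD3_c19)) = (LP (LK LD1_c5 LD2_c27 LD3_c37)) :=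
  Lre_a IH (LK LD1_c10 LD2_c46 LD3_c19) (LK LD1_c5 LD2_c27 LD3_c37) Lrfl Lrfl
theorem f323135 : Led Lsl_bt (LP (LK LD1_c15 LD2_c37 LD3_c36)) = (LP (LK LD1_c10 LD2_c46 LD3_c19)) :=
  Lgr Lrot62 (Lpe (f323134 IH) (Lpe (K21.f236263 IH) (Lpr_af (K20.f323130 IH) (Lpe (K14.f235782 IH) (Lpe (f235832 IH) (Lpn (LP (LK LD1_c10 LD2_c46 LD3_c19))))))))
theorem f332003 : Led Lsl_af (LP (LK LD1_c16 LD2_c44 LD3_c8)) = (LP (LK LD1_c10 LD2_c46 LD3_c17)) :=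
  Lgr Lrot0 (Lpr_at (K30.f332001 IH) (Lpn (LP (LK LD1_c10 LD2_c46 LD3_c17))))
theorem f337530 : Led Lsl_gt (LP (LK LD1_c16 LD2_c44 LD3_c7)) = (LP (LK LD1_c10 LD2_c46 LD3_c19)) :=
  Lgr Lrot5 (Lpr_ft (K30.f331987 IH) (Lpe (f332003 IH) (Lpr_gf (f337528 IH) (Lpn (LP (LK LD1_c10 LD2_c46 LD3_c19))))))
theorem f282839 : Led Lsl_ct (LP (LK LD1_c5 LD2_c27 LD3_c45)) = (LP (LK LD1_c10 LD2_c46 LD3_c31)) :=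
  Lre_c IH (LK LD1_c5 LD2_c27 LD3_c45) (LK LD1_c10 LD2_c46 LD3_c31) Lrfl Lrfl
theorem f213845 : Led Lsl_bt (LP (LK LD1_c26 LD2_c43 LD3_c12)) = (LP (LK LD1_c16 LD2_c44 LD3_c20)) :=
  Lre_b IH (LK LD1_c26 LD2_c43 LD3_c12) (LK LD1_c16 LD2_c44 LD3_c20) Lrfl Lrfl
theorem f282841 : Led Lsl_cf (LP (LK LD1_c19 LD2_c29 LD3_c12)) = (LP (LK LD1_c26 LD2_c43 LD3_c12)) :=
  Lgr Lrot160 (Lpr_gt (f282840 IH) (Lpe (f282839 IH) (Lpr_bt (K21.f282835 IH) (Lpr_gt (K17.f282826 IH) (Lpe (K17.f278023 IH) (Lpr_gt (K14.f213778 IH) (Lpe (K14.f213789 IH) (Lpr_bt (K17.f213788 IH) (Lpr_gt (f213797 IH) (Lpe (f213845 IH) (Lpn (LP (LK LD1_c26 LD2_c43 LD3_c12)))))))))))))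
theorem f371466 : Led Lsl_gf (LP (LK LD1_c10 LD2_c46 LD3_c56)) = (LP (LK LD1_c16 LD2_c44 LD3_c20)) :=
  Lgr Lrot181 (Lpr_ct (K17.f244624 IH) (Lpe (K30.f286641 IH) (Lpe (K30.f247303 IH) (Lpr_bt (K30.f247306 IH) (Lpr_gt (f337530 IH) (Lpe (f323135 IH) (Lpe (f371460 IH) (Lpr_gt (f371464 IH) (Lpr_cf (f282841 IH) (Lpr_bt (f213845 IH) (Lpn (LP (LK LD1_c16 LD2_c44 LD3_c20)))))))))))))
theorem f179335 : Led Lsl_gt (LP (LK LD1_c11 LD2_c9 LD3_c11)) = (LP (LK LD1_c20 LD2_c3 LD3_c12)) :=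
  Lre_g IH (LK LD1_c11 LD2_c9 LD3_c11) (LK LD1_c20 LD2_c3 LD3_c12) Lrfl Lrfl
theorem f388150 : Led Lsl_cf (LP (LK LD1_c16 LD2_c44 LD3_c20)) = (LP (LK LD1_c20 LD2_c3 LD3_c12)) :=
  Lgr Lrot125 (Lpe (f371466 IH) (Lpe (f244637 IH) (Lpe (f286579 IH) (Lpe (K30.f387938 IH) (Lpe (f387947 IH) (Lpr_ct (f388118 IH) (Lpr_gt (f179311 IH) (Lpr_cf (f179328 IH) (Lpr_bt (K22.f179325 IH) (Lpr_gt (f179335 IH) (Lpn (LP (LK LD1_c20 LD2_c3 LD3_c12)))))))))))))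
theorem f393134 : Led Lsl_dt (LP (LK LD1_c15 LD2_c20 LD3_c61)) = (LP (LK LD1_c20 LD2_c3 LD3_c12)) :=
  Lgr Lrot105 (Lpr_gf (f393130 IH) (Lpr_df (K30.f387988 IH) (Lpr_gf (f390026 IH) (Lpe (f389832 IH) (Lpr_gt (f390015 IH) (Lpr_dt (f52778 IH) (Lpr_gt (f278060 IH) (Lpe (f297483 IH) (Lpr_cf (f388150 IH) (Lpn (LP (LK LD1_c20 LD2_c3 LD3_c12))))))))))))
theorem f388152 : Led Lsl_ct (LP (LK LD1_c16 LD2_c44 LD3_c20)) = (LP (LK LD1_c20 LD2_c3 LD3_c12)) :=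
  Lgr Lrot59 (Lpr_cf (f388150 IH) (Lpn (LP (LK LD1_c20 LD2_c3 LD3_c12))))
theorem f331967 : Led Lsl_dt (LP (LK LD1_c8 LD2_c28 LD3_c29)) = (LP (LK LD1_c11 LD2_c8 LD3_c40)) :=
  Lgr Lrot42 (Lpr_df (K30.f331962 IH) (Lpn (LP (LK LD1_c11 LD2_c8 LD3_c40))))
theorem f331979 : Led Lsl_df (LP (LK LD1_c8 LD2_c25 LD3_c49)) = (LP (LK LD1_c15 LD2_c22 LD3_c11)) :=
  Lgr Lrot78 (Lpr_ft (K22.f331900 IH) (Lpr_dt (f331967 IH) (Lpe (K30.f331950 IH) (Lpn (LP (LK LD1_c15 LD2_c22 LD3_c11))))))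
theorem f393138 : Led Lsl_cf (LP (LK LD1_c15 LD2_c20 LD3_c61)) = (LP (LK LD1_c15 LD2_c49 LD3_c59)) :=
  Lgr Lrot175 (Lpr_dt (f393134 IH) (Lpe (f388152 IH) (Lpe (f213797 IH) (Lpe (K14.f247298 IH) (Lpe (K30.f223684 IH) (Lpe (f331979 IH) (Lpr_gt (K22.f52766 IH) (Lpr_ct (K12.f51188 IH) (Lpr_gt (f51181 IH) (Lpn (LP (LK LD1_c15 LD2_c49 LD3_c59))))))))))))
theorem f393140 : Led Lsl_et (LP (LK LD1_c15 LD2_c20 LD3_c61)) = (LP (LK LD1_c25 LD2_c12 LD3_c13)) :=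
  Lre_e IH (LK LD1_c15 LD2_c20 LD3_c61) (LK LD1_c25 LD2_c12 LD3_c13) Lrfl Lrfl
theorem f51182 : Led Lsl_et (LP (LK LD1_c25 LD2_c46 LD3_c2)) = (LP (LK LD1_c15 LD2_c49 LD3_c59)) :=
  Lre_e IH (LK LD1_c25 LD2_c46 LD3_c2) (LK LD1_c15 LD2_c49 LD3_c59) Lrfl Lrfl
theorem f393143 : Led Lsl_ct (LP (LK LD1_c25 LD2_c12 LD3_c13)) = (LP (LK LD1_c25 LD2_c46 LD3_c2)) :=
  Lgr Lrot15 (Lpe (f393140 IH) (Lpr_cf (f393138 IH) (Lpe (f51182 IH) (Lpn (LP (LK LD1_c25 LD2_c46 LD3_c2))))))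
theorem f393157 : Led Lsl_cf (LP (LK LD1_c25 LD2_c12 LD3_c13)) = (LP (LK LD1_c25 LD2_c46 LD3_c2)) :=
  Lgr Lrot11 (Lpr_ct (f393143 IH) (Lpn (LP (LK LD1_c25 LD2_c46 LD3_c2))))
theorem f200860 : Led Lsl_at (LP (LK LD1_c25 LD2_c12 LD3_c13)) = (LP (LK LD1_c15 LD2_c21 LD3_c1)) :=
  Lre_a IH (LK LD1_c25 LD2_c12 LD3_c13) (LK LD1_c15 LD2_c21 LD3_c1) Lrfl Lrfl
theorem f200842 : Led Lsl_et (LP (LK LD1_c10 LD2_c38 LD3_c59)) = (LP (LK LD1_c19 LD2_c17 LD3_c23)) :=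
  Lre_e IH (LK LD1_c10 LD2_c38 LD3_c59) (LK LD1_c19 LD2_c17 LD3_c23) Lrfl Lrfl
theorem f200843 : Led Lsl_et (LP (LK LD1_c15 LD2_c21 LD3_c1)) = (LP (LK LD1_c8 LD2_c9 LD3_c7)) :=
  Lre_e IH (LK LD1_c15 LD2_c21 LD3_c1) (LK LD1_c8 LD2_c9 LD3_c7) Lrfl Lrfl
theorem f200844 : Led Lsl_ct (LP (LK LD1_c19 LD2_c17 LD3_c23)) = (LP (LK LD1_c15 LD2_c21 LD3_c1)) :=
  Lgr Lrot15 (Lpe (f200842 IH) (Lpr_cf (K18.f200824 IH) (Lpe (f200843 IH) (Lpn (LP (LK LD1_c15 LD2_c21 LD3_c1))))))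
theorem f200857 : Led Lsl_cf (LP (LK LD1_c19 LD2_c17 LD3_c23)) = (LP (LK LD1_c15 LD2_c21 LD3_c1)) :=
  Lgr Lrot11 (Lpr_ct (f200844 IH) (Lpn (LP (LK LD1_c15 LD2_c21 LD3_c1))))
theorem f393159 : Led Lsl_at (LP (LK LD1_c19 LD2_c17 LD3_c23)) = (LP (LK LD1_c25 LD2_c46 LD3_c2)) :=
  Lgr Lrot107 (Lpr_cf (f200857 IH) (Lpe (f200860 IH) (Lpr_cf (f393157 IH) (Lpn (LP (LK LD1_c25 LD2_c46 LD3_c2))))))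
theorem f393162 : Led Lsl_af (LP (LK LD1_c10 LD2_c38 LD3_c59)) = (LP (LK LD1_c15 LD2_c49 LD3_c59)) :=
  Lgr Lrot50 (Lpr_et (f200842 IH) (Lpr_at (f393159 IH) (Lpr_et (f51182 IH) (Lpn (LP (LK LD1_c15 LD2_c49 LD3_c59))))))
theorem f393164 : Led Lsl_ft (LP (LK LD1_c10 LD2_c38 LD3_c58)) = (LP (LK LD1_c15 LD2_c49 LD3_c59)) :=
  Lgr Lrot2 (Lpe (K12.f218887 IH) (Lpr_gt (K18.f196917 IH) (Lpr_af (f393162 IH) (Lpn (LP (LK LD1_c15 LD2_c49 LD3_c59))))))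
theorem f393168 : Led Lsl_ff (LP (LK LD1_c10 LD2_c38 LD3_c58)) = (LP (LK LD1_c15 LD2_c49 LD3_c59)) :=
  Lgr Lrot3 (Lpr_ft (f393164 IH) (Lpn (LP (LK LD1_c15 LD2_c49 LD3_c59))))
theorem f196912 : Led Lsl_ct (LP (LK LD1_c10 LD2_c38 LD3_c58)) = (LP (LK LD1_c19 LD2_c17 LD3_c20)) :=
  Lre_c IH (LK LD1_c10 LD2_c38 LD3_c58) (LK LD1_c19 LD2_c17 LD3_c20) Lrfl Lrfl
theorem f393170 : Led Lsl_ft (LP (LK LD1_c19 LD2_c17 LD3_c20)) = (LP (LK LD1_c15 LD2_c20 LD3_c61)) :=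
  Lgr Lrot4 (Lpe (f196912 IH) (Lpr_ff (f393168 IH) (Lpr_cf (f393116 IH) (Lpn (LP (LK LD1_c15 LD2_c20 LD3_c61))))))
theorem f243666 : Led Lsl_gt (LP (LK LD1_c5 LD2_c27 LD3_c53)) = (LP (LK LD1_c10 LD2_c46 LD3_c54)) :=
  Lre_g IH (LK LD1_c5 LD2_c27 LD3_c53) (LK LD1_c10 LD2_c46 LD3_c54) Lrfl Lrfl
theorem f312033 : Led Lsl_ct (LP (LK LD1_c10 LD2_c46 LD3_c54)) = (LP (LK LD1_c19 LD2_c30 LD3_c8)) :=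
  Lre_c IH (LK LD1_c10 LD2_c46 LD3_c54) (LK LD1_c19 LD2_c30 LD3_c8) Lrfl Lrfl
theorem f331969 : Led Lsl_dt (LP (LK LD1_c19 LD2_c17 LD3_c20)) = (LP (LK LD1_c19 LD2_c30 LD3_c8)) :=
  Lgr Lrot27 (Lpe (f196912 IH) (Lpe (K12.f196910 IH) (Lpe (K10.f196895 IH) (Lpe (K12.f52869 IH) (Lpr_df (K30.f331962 IH) (Lpr_gt (K30.f244554 IH) (Lpr_ct (K18.f243665 IH) (Lpr_gt (f243666 IH) (Lpr_ct (f312033 IH) (Lpn (LP (LK LD1_c19 LD2_c30 LD3_c8))))))))))))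
theorem f331972 : Led Lsl_df (LP (LK LD1_c19 LD2_c17 LD3_c20)) = (LP (LK LD1_c19 LD2_c30 LD3_c8)) :=
  Lgr Lrot38 (Lpr_dt (f331969 IH) (Lpn (LP (LK LD1_c19 LD2_c30 LD3_c8))))
theorem f393176 : Led Lsl_ff (LP (LK LD1_c19 LD2_c30 LD3_c8)) = (LP (LK LD1_c20 LD2_c3 LD3_c12)) :=
  Lgr Lrot19 (Lpe (f331972 IH) (Lpr_ft (f393170 IH) (Lpr_dt (f393134 IH) (Lpn (LP (LK LD1_c20 LD2_c3 LD3_c12))))))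
theorem f393191 : Led Lsl_ft (LP (LK LD1_c19 LD2_c30 LD3_c8)) = (LP (LK LD1_c20 LD2_c3 LD3_c12)) :=
  Lgr Lrot48 (Lpr_ff (f393176 IH) (Lpn (LP (LK LD1_c20 LD2_c3 LD3_c12))))
theorem f393195 : Led Lsl_ff (LP (LK LD1_c10 LD2_c46 LD3_c54)) = (LP (LK LD1_c16 LD2_c44 LD3_c20)) :=
  Lgr Lrot23 (Lpr_ct (f312033 IH) (Lpr_ft (f393191 IH) (Lpe (f388150 IH) (Lpn (LP (LK LD1_c16 LD2_c44 LD3_c20))))))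
theorem f213846 : Led Lsl_gt (LP (LK LD1_c16 LD2_c44 LD3_c21)) = (LP (LK LD1_c8 LD2_c56 LD3_c31)) :=
  Lre_g IH (LK LD1_c16 LD2_c44 LD3_c21) (LK LD1_c8 LD2_c56 LD3_c31) Lrfl Lrfl
theorem f286591 : Led Lsl_gf (LP (LK LD1_c16 LD2_c44 LD3_c21)) = (LP (LK LD1_c10 LD2_c46 LD3_c56)) :=
  Lgr Lrot47 (Lpr_gt (f213846 IH) (Lpe (K17.f247295 IH) (Lpr_ff (K17.f286581 IH) (Lpn (LP (LK LD1_c10 LD2_c46 LD3_c56))))))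
theorem f393201 : Led Lsl_at (LP (LK LD1_c10 LD2_c46 LD3_c54)) = (LP (LK LD1_c16 LD2_c44 LD3_c21)) :=
  Lgr Lrot26 (Lpr_ff (f393195 IH) (Lpe (f371466 IH) (Lpe (f286591 IH) (Lpn (LP (LK LD1_c16 LD2_c44 LD3_c21))))))
theorem f243667 : Led Lsl_ct (LP (LK LD1_c19 LD2_c30 LD3_c8)) = (LP (LK LD1_c10 LD2_c46 LD3_c54)) :=
  Lre_c IH (LK LD1_c19 LD2_c30 LD3_c8) (LK LD1_c10 LD2_c46 LD3_c54) Lrfl Lrfl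
theorem f200713 : Led Lsl_bt (LP (LK LD1_c8 LD2_c9 LD3_c35)) = (LP (LK LD1_c4 LD2_c4 LD3_c20)) :=
  Lre_b IH (LK LD1_c8 LD2_c9 LD3_c35) (LK LD1_c4 LD2_c4 LD3_c20) Lrfl Lrfl
theorem f243925 : Led Lsl_bt (LP (LK LD1_c2 LD2_c45 LD3_c29)) = (LP (LK LD1_c5 LD2_c39 LD3_c0)) :=
  Lre_b IH (LK LD1_c2 LD2_c45 LD3_c29) (LK LD1_c5 LD2_c39 LD3_c0) Lrfl Lrfl
theorem f243935 : Led Lsl_gt (LP (LK LD1_c5 LD2_c39 LD3_c0)) = (LP (LK LD1_c11 LD2_c8 LD3_c58)) :=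
  Lre_g IH (LK LD1_c5 LD2_c39 LD3_c0) (LK LD1_c11 LD2_c8 LD3_c58) Lrfl Lrfl
theorem f244345 : Led Lsl_bt (LP (LK LD1_c20 LD2_c2 LD3_c44)) = (LP (LK LD1_c11 LD2_c8 LD3_c58)) :=
  Lre_b IH (LK LD1_c20 LD2_c2 LD3_c44) (LK LD1_c11 LD2_c8 LD3_c58) Lrfl Lrfl
theorem f247319 : Led Lsl_ct (LP (LK LD1_c20 LD2_c2 LD3_c44)) = (LP (LK LD1_c16 LD2_c44 LD3_c21)) :=
  Lgr Lrot64 (Lpr_bt (f244345 IH) (Lpe (f243935 IH) (Lpe (f243925 IH) (Lpr_ct (K30.f243926 IH) (Lpe (K13.f200712 IH) (Lpe (K12.f180102 IH) (Lpe (K12.f200704 IH) (Lpe (f200713 IH) (Lpr_ct (K14.f247298 IH) (Lpe (f213846 IH) (Lpn (LP (LK LD1_c16 LD2_c44 LD3_c21)))))))))))))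
theorem f247321 : Led Lsl_cf (LP (LK LD1_c20 LD2_c2 LD3_c44)) = (LP (LK LD1_c16 LD2_c44 LD3_c21)) :=
  Lgr Lrot11 (Lpr_ct (f247319 IH) (Lpn (LP (LK LD1_c16 LD2_c44 LD3_c21))))
theorem f393205 : Led Lsl_af (LP (LK LD1_c19 LD2_c30 LD3_c8)) = (LP (LK LD1_c20 LD2_c2 LD3_c44)) :=
  Lgr Lrot68 (Lpr_ct (f243667 IH) (Lpr_at (f393201 IH) (Lpe (f247321 IH) (Lpn (LP (LK LD1_c20 LD2_c2 LD3_c44))))))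
theorem f393136 : Led Lsl_af (LP (LK LD1_c15 LD2_c21 LD3_c0)) = (LP (LK LD1_c20 LD2_c3 LD3_c12)) :=
  Lgr Lrot117 (Lpr_dt (K22.f200841 IH) (Lpr_at (f200868 IH) (Lpr_dt (f393134 IH) (Lpn (LP (LK LD1_c20 LD2_c3 LD3_c12))))))
theorem f393211 : Led Lsl_ft (LP (LK LD1_c15 LD2_c21 LD3_c0)) = (LP (LK LD1_c20 LD2_c2 LD3_c44)) :=
  Lgr Lrot101 (Lpr_af (f393136 IH) (Lpe (f393191 IH) (Lpr_af (f393205 IH) (Lpn (LP (LK LD1_c20 LD2_c2 LD3_c44))))))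
theorem f393219 : Led Lsl_ff (LP (LK LD1_c15 LD2_c21 LD3_c0)) = (LP (LK LD1_c20 LD2_c2 LD3_c44)) :=
  Lgr Lrot3 (Lpr_ft (f393211 IH) (Lpn (LP (LK LD1_c20 LD2_c2 LD3_c44))))
theorem f200873 : Led Lsl_ft (LP (LK LD1_c8 LD2_c9 LD3_c7)) = (LP (LK LD1_c15 LD2_c21 LD3_c2)) :=
  Lre_f IH (LK LD1_c8 LD2_c9 LD3_c7) (LK LD1_c15 LD2_c21 LD3_c2) Lrfl Lrfl
theorem f393227 : Led Lsl_dt (LP (LK LD1_c15 LD2_c21 LD3_c2)) = (LP (LK LD1_c20 LD2_c2 LD3_c44)) :=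
  Lgr Lrot60 (Lpe (f200873 IH) (Lpe (K22.f200841 IH) (Lpr_ff (f393219 IH) (Lpn (LP (LK LD1_c20 LD2_c2 LD3_c44))))))
theorem f393231 : Led Lsl_bt (LP (LK LD1_c8 LD2_c9 LD3_c11)) = (LP (LK LD1_c15 LD2_c21 LD3_c2)) :=
  Lre_b IH (LK LD1_c8 LD2_c9 LD3_c11) (LK LD1_c15 LD2_c21 LD3_c2) Lrfl Lrfl
theorem f393232 : Led Lsl_df (LP (LK LD1_c8 LD2_c9 LD3_c11)) = (LP (LK LD1_c11 LD2_c8 LD3_c58)) :=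
  Lgr Lrot12 (Lpr_bt (f393231 IH) (Lpr_dt (f393227 IH) (Lpr_bt (f244345 IH) (Lpn (LP (LK LD1_c11 LD2_c8 LD3_c58))))))
theorem f393235 : Led Lsl_ct (LP (LK LD1_c8 LD2_c9 LD3_c11)) = (LP (LK LD1_c15 LD2_c21 LD3_c8)) :=
  Lre_c IH (LK LD1_c8 LD2_c9 LD3_c11) (LK LD1_c15 LD2_c21 LD3_c8) Lrfl Lrfl
theorem f53975 : Led Lsl_bt (LP (LK LD1_c2 LD2_c34 LD3_c16)) = (LP (LK LD1_c1 LD2_c59 LD3_c39)) :=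
  Lgr Lrot119 (Lpr_ef (K21.f53845 IH) (Lpr_bf (K12.f53738 IH) (Lpr_ef (K12.f53973 IH) (Lpn (LP (LK LD1_c1 LD2_c59 LD3_c39))))))
theorem f253955 : Led Lsl_bt (LP (LK LD1_c15 LD2_c56 LD3_c61)) = (LP (LK LD1_c8 LD2_c29 LD3_c42)) :=
  Lre_b IH (LK LD1_c15 LD2_c56 LD3_c61) (LK LD1_c8 LD2_c29 LD3_c42) Lrfl Lrfl
theorem f374499 : Led Lsl_cf (LP (LK LD1_c15 LD2_c56 LD3_c61)) = (LP (LK LD1_c19 LD2_c19 LD3_c40)) :=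
  Lgr Lrot108 (Lpe (K30.f373851 IH) (Lpr_ct (K27.f243225 IH) (Lpr_ft (K27.f374497 IH) (Lpn (LP (LK LD1_c19 LD2_c19 LD3_c40))))))
theorem f374494 : Led Lsl_dt (LP (LK LD1_c10 LD2_c40 LD3_c24)) = (LP (LK LD1_c19 LD2_c19 LD3_c40)) :=
  Lre_d IH (LK LD1_c10 LD2_c40 LD3_c24) (LK LD1_c19 LD2_c19 LD3_c40) Lrfl Lrfl
theorem f374505 : Led Lsl_ct (LP (LK LD1_c5 LD2_c24 LD3_c52)) = (LP (LK LD1_c10 LD2_c40 LD3_c24)) :=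
  Lre_c IH (LK LD1_c5 LD2_c24 LD3_c52) (LK LD1_c10 LD2_c40 LD3_c24) Lrfl Lrfl
theorem f374506 : Led Lsl_ft (LP (LK LD1_c10 LD2_c32 LD3_c0)) = (LP (LK LD1_c5 LD2_c24 LD3_c52)) :=
  Lgr Lrot4 (Lpe (K27.f373705 IH) (Lpr_ff (K27.f374501 IH) (Lpe (f374505 IH) (Lpn (LP (LK LD1_c5 LD2_c24 LD3_c52))))))
theorem f197699 : Led Lsl_dt (LP (LK LD1_c15 LD2_c56 LD3_c60)) = (LP (LK LD1_c25 LD2_c53 LD3_c28)) :=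
  Lre_d IH (LK LD1_c15 LD2_c56 LD3_c60) (LK LD1_c25 LD2_c53 LD3_c28) Lrfl Lrfl
theorem f220770 : Led Lsl_gt (LP (LK LD1_c5 LD2_c20 LD3_c58)) = (LP (LK LD1_c10 LD2_c31 LD3_c61)) :=
  Lre_g IH (LK LD1_c5 LD2_c20 LD3_c58) (LK LD1_c10 LD2_c31 LD3_c61) Lrfl Lrfl
theorem f374515 : Led Lsl_af (LP (LK LD1_c10 LD2_c31 LD3_c61)) = (LP (LK LD1_c5 LD2_c24 LD3_c52)) :=
  Lgr Lrot31 (Lpe (f220770 IH) (Lpe (K27.f221547 IH) (Lpr_ft (f374506 IH) (Lpn (LP (LK LD1_c5 LD2_c24 LD3_c52))))))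
theorem f220791 : Led Lsl_ct (LP (LK LD1_c19 LD2_c4 LD3_c59)) = (LP (LK LD1_c10 LD2_c31 LD3_c61)) :=
  Lre_c IH (LK LD1_c19 LD2_c4 LD3_c59) (LK LD1_c10 LD2_c31 LD3_c61) Lrfl Lrfl
theorem f220790 : Led Lsl_dt (LP (LK LD1_c28 LD2_c30 LD3_c57)) = (LP (LK LD1_c19 LD2_c4 LD3_c59)) :=
  Lre_d IH (LK LD1_c28 LD2_c30 LD3_c57) (LK LD1_c19 LD2_c4 LD3_c59) Lrfl Lrfl
theorem f374517 : Led Lsl_ct (LP (LK LD1_c25 LD2_c53 LD3_c28)) = (LP (LK LD1_c28 LD2_c30 LD3_c57)) :=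
  Lgr Lrot53 (Lpe (f197699 IH) (Lpe (K15.f197686 IH) (Lpr_df (K27.f224971 IH) (Lpr_cf (K27.f373742 IH) (Lpe (K27.f373707 IH) (Lpr_ft (f374506 IH) (Lpe (f374515 IH) (Lpe (f220791 IH) (Lpe (f220790 IH) (Lpn (LP (LK LD1_c28 LD2_c30 LD3_c57))))))))))))
theorem f374527 : Led Lsl_at (LP (LK LD1_c19 LD2_c19 LD3_c40)) = (LP (LK LD1_c28 LD2_c30 LD3_c57)) :=
  Lgr Lrot33 (Lpe (K27.f374497 IH) (Lpr_dt (K27.f373744 IH) (Lpr_ct (K27.f373705 IH) (Lpr_dt (K27.f373707 IH) (Lpe (K27.f373742 IH) (Lpe (K27.f224971 IH) (Lpr_ct (K15.f197686 IH) (Lpr_dt (f197699 IH) (Lpr_ct (f374517 IH) (Lpn (LP (LK LD1_c28 LD2_c30 LD3_c57))))))))))))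
theorem f374529 : Led Lsl_af (LP (LK LD1_c10 LD2_c40 LD3_c24)) = (LP (LK LD1_c19 LD2_c4 LD3_c59)) :=
  Lgr Lrot117 (Lpr_dt (f374494 IH) (Lpr_at (f374527 IH) (Lpr_dt (f220790 IH) (Lpn (LP (LK LD1_c19 LD2_c4 LD3_c59))))))
theorem f374535 : Led Lsl_ft (LP (LK LD1_c10 LD2_c40 LD3_c20)) = (LP (LK LD1_c19 LD2_c4 LD3_c59)) :=
  Lgr Lrot101 (Lpr_af (K27.f373726 IH) (Lpr_ff (K27.f374501 IH) (Lpr_af (f374529 IH) (Lpn (LP (LK LD1_c19 LD2_c4 LD3_c59))))))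
theorem f223792 : Led Lsl_gt (LP (LK LD1_c10 LD2_c40 LD3_c20)) = (LP (LK LD1_c19 LD2_c19 LD3_c31)) :=
  Lre_g IH (LK LD1_c10 LD2_c40 LD3_c20) (LK LD1_c19 LD2_c19 LD3_c31) Lrfl Lrfl
theorem f374537 : Led Lsl_gf (LP (LK LD1_c10 LD2_c40 LD3_c24)) = (LP (LK LD1_c19 LD2_c19 LD3_c31)) :=
  Lgr Lrot76 (Lpr_af (f374529 IH) (Lpe (f374535 IH) (Lpr_gt (f223792 IH) (Lpn (LP (LK LD1_c19 LD2_c19 LD3_c31))))))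
theorem f393250 : Led Lsl_bt (LP (LK LD1_c15 LD2_c21 LD3_c8)) = (LP (LK LD1_c19 LD2_c19 LD3_c31)) :=
  Lgr Lrot178 (Lpe (f393235 IH) (Lpr_df (f393232 IH) (Lpe (f243935 IH) (Lpe (f243925 IH) (Lpr_cf (K13.f243920 IH) (Lpe (K13.f243928 IH) (Lpr_gf (K12.f211401 IH) (Lpe (K14.f211275 IH) (Lpe (K15.f196989 IH) (Lpr_df (K16.f178272 IH) (Lpr_gf (K16.f253951 IH) (Lpe (f53975 IH) (Lpe (K12.f33442 IH) (Lpe (K12.f33447 IH) (Lpe (K16.f251782 IH) (Lpe (f253955 IH) (Lpr_cf (f374499 IH) (Lpe (f374494 IH) (Lpr_gf (f374537 IH) (Lpn (LP (LK LD1_c19 LD2_c19 LD3_c31))))))))))))))))))))))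
theorem f393249 : Led Lsl_ct (LP (LK LD1_c15 LD2_c21 LD3_c8)) = (LP (LK LD1_c8 LD2_c9 LD3_c11)) :=
  Lre_c IH (LK LD1_c15 LD2_c21 LD3_c8) (LK LD1_c8 LD2_c9 LD3_c11) Lrfl Lrfl
theorem f369240 : Led Lsl_at (LP (LK LD1_c19 LD2_c44 LD3_c22)) = (LP (LK LD1_c25 LD2_c4 LD3_c15)) :=
  Lgr Lrot66 (Lpr_ff (K27.f369195 IH) (Lpe (K27.f369223 IH) (Lpr_ff (K27.f369237 IH) (Lpn (LP (LK LD1_c25 LD2_c4 LD3_c15))))))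
theorem f369251 : Led Lsl_af (LP (LK LD1_c19 LD2_c44 LD3_c22)) = (LP (LK LD1_c25 LD2_c4 LD3_c15)) :=
  Lgr Lrot0 (Lpr_at (f369240 IH) (Lpn (LP (LK LD1_c25 LD2_c4 LD3_c15))))
theorem f213366 : Led Lsl_ct (LP (LK LD1_c25 LD2_c4 LD3_c15)) = (LP (LK LD1_c15 LD2_c15 LD3_c11)) :=
  Lre_c IH (LK LD1_c25 LD2_c4 LD3_c15) (LK LD1_c15 LD2_c15 LD3_c11) Lrfl Lrfl
theorem f369231 : Led Lsl_ft (LP (LK LD1_c19 LD2_c44 LD3_c20)) = (LP (LK LD1_c25 LD2_c4 LD3_c15)) :=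
  Lgr Lrot4 (Lpe (K27.f213385 IH) (Lpr_ff (K27.f369227 IH) (Lpe (f213366 IH) (Lpn (LP (LK LD1_c25 LD2_c4 LD3_c15))))))
theorem f369253 : Led Lsl_gf (LP (LK LD1_c15 LD2_c54 LD3_c21)) = (LP (LK LD1_c19 LD2_c44 LD3_c20)) :=
  Lgr Lrot47 (Lpe (K30.f261740 IH) (Lpr_af (f369251 IH) (Lpe (f369231 IH) (Lpn (LP (LK LD1_c19 LD2_c44 LD3_c20))))))
theorem f389007 : Led Lsl_cf (LP (LK LD1_c15 LD2_c54 LD3_c21)) = (LP (LK LD1_c25 LD2_c5 LD3_c6)) :=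
  Lgr Lrot108 (Lpr_ft (K30.f389002 IH) (Lpr_ct (K30.f369244 IH) (Lpr_ft (f389006 IH) (Lpn (LP (LK LD1_c25 LD2_c5 LD3_c6))))))
theorem f388831 : Led Lsl_bt (LP (LK LD1_c25 LD2_c5 LD3_c6)) = (LP (LK LD1_c15 LD2_c15 LD3_c39)) :=
  Lre_b IH (LK LD1_c25 LD2_c5 LD3_c6) (LK LD1_c15 LD2_c15 LD3_c39) Lrfl Lrfl
theorem f388636 : Led Lsl_ft (LP (LK LD1_c15 LD2_c15 LD3_c39)) = (LP (LK LD1_c8 LD2_c6 LD3_c21)) :=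
  Lre_f IH (LK LD1_c15 LD2_c15 LD3_c39) (LK LD1_c8 LD2_c6 LD3_c21) Lrfl Lrfl
theorem f389083 : Led Lsl_gt (LP (LK LD1_c15 LD2_c15 LD3_c39)) = (LP (LK LD1_c8 LD2_c6 LD3_c24)) :=
  Lgr Lrot5 (Lpr_ft (f388636 IH) (Lpr_at (K30.f388635 IH) (Lpr_gf (f389081 IH) (Lpn (LP (LK LD1_c8 LD2_c6 LD3_c24))))))
theorem f50173 : Led Lsl_ct (LP (LK LD1_c8 LD2_c6 LD3_c24)) = (LP (LK LD1_c4 LD2_c4 LD3_c15)) :=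
  Lre_c IH (LK LD1_c8 LD2_c6 LD3_c24) (LK LD1_c4 LD2_c4 LD3_c15) Lrfl Lrfl
theorem f393259 : Led Lsl_gf (LP (LK LD1_c8 LD2_c9 LD3_c11)) = (LP (LK LD1_c4 LD2_c4 LD3_c15)) :=
  Lgr Lrot129 (Lpe (f393249 IH) (Lpr_bt (f393250 IH) (Lpe (f374537 IH) (Lpe (K27.f374503 IH) (Lpr_ct (K27.f213385 IH) (Lpe (f369253 IH) (Lpr_cf (f389007 IH) (Lpr_bt (f388831 IH) (Lpr_gt (f389083 IH) (Lpr_ct (f50173 IH) (Lpn (LP (LK LD1_c4 LD2_c4 LD3_c15)))))))))))))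
theorem f393237 : Led Lsl_dt (LP (LK LD1_c8 LD2_c9 LD3_c11)) = (LP (LK LD1_c11 LD2_c8 LD3_c58)) :=
  Lgr Lrot42 (Lpr_df (f393232 IH) (Lpn (LP (LK LD1_c11 LD2_c8 LD3_c58))))
theorem f388771 : Led Lsl_dt (LP (LK LD1_c16 LD2_c49 LD3_c20)) = (LP (LK LD1_c25 LD2_c50 LD3_c12)) :=
  Lgr Lrot42 (Lpr_df (f388768 IH) (Lpn (LP (LK LD1_c25 LD2_c50 LD3_c12))))
theorem f217117 : Led Lsl_bt (LP (LK LD1_c10 LD2_c51 LD3_c15)) = (LP (LK LD1_c5 LD2_c29 LD3_c61)) :=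
  Lre_b IH (LK LD1_c10 LD2_c51 LD3_c15) (LK LD1_c5 LD2_c29 LD3_c61) Lrfl Lrfl
theorem f225329 : Led Lsl_gf (LP (LK LD1_c16 LD2_c49 LD3_c20)) = (LP (LK LD1_c19 LD2_c36 LD3_c12)) :=
  Lgr Lrot129 (Lpr_cf (f225267 IH) (Lpr_bt (f217117 IH) (Lpr_gt (K30.f217116 IH) (Lpe (K30.f224851 IH) (Lpr_ct (K12.f216961 IH) (Lpr_gt (K12.f175246 IH) (Lpe (K13.f220215 IH) (Lpr_bt (K30.f220222 IH) (Lpr_gt (K22.f220291 IH) (Lpr_ct (K22.f220295 IH) (Lpn (LP (LK LD1_c19 LD2_c36 LD3_c12)))))))))))))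
theorem f220293 : Led Lsl_gt (LP (LK LD1_c19 LD2_c36 LD3_c20)) = (LP (LK LD1_c10 LD2_c50 LD3_c46)) :=
  Lre_g IH (LK LD1_c19 LD2_c36 LD3_c20) (LK LD1_c10 LD2_c50 LD3_c46) Lrfl Lrfl
theorem f296608 : Led Lsl_gt (LP (LK LD1_c26 LD2_c41 LD3_c31)) = (LP (LK LD1_c19 LD2_c36 LD3_c20)) :=
  Lgr Lrot5 (Lpr_ft (K18.f296601 IH) (Lpr_at (K18.f296600 IH) (Lpe (f220293 IH) (Lpn (LP (LK LD1_c19 LD2_c36 LD3_c20))))))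
theorem f227154 : Led Lsl_ft (LP (LK LD1_c8 LD2_c6 LD3_c21)) = (LP (LK LD1_c15 LD2_c15 LD3_c39)) :=
  Lre_f IH (LK LD1_c8 LD2_c6 LD3_c21) (LK LD1_c15 LD2_c15 LD3_c39) Lrfl Lrfl
theorem f388683 : Led Lsl_cf (LP (LK LD1_c8 LD2_c28 LD3_c18)) = (LP (LK LD1_c15 LD2_c15 LD3_c39)) :=
  Lgr Lrot108 (Lpr_ft (K30.f388680 IH) (Lpr_ct (K30.f52970 IH) (Lpr_ft (f227154 IH) (Lpn (LP (LK LD1_c15 LD2_c15 LD3_c39))))))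
theorem f388799 : Led Lsl_dt (LP (LK LD1_c19 LD2_c36 LD3_c20)) = (LP (LK LD1_c15 LD2_c15 LD3_c39)) :=
  Lgr Lrot105 (Lpe (f296608 IH) (Lpe (K15.f262015 IH) (Lpr_gf (f332183 IH) (Lpe (K22.f220296 IH) (Lpe (f225329 IH) (Lpr_dt (f388771 IH) (Lpr_gt (f388762 IH) (Lpr_dt (K30.f220939 IH) (Lpr_cf (f388683 IH) (Lpn (LP (LK LD1_c15 LD2_c15 LD3_c39))))))))))))
theorem f388807 : Led Lsl_ff (LP (LK LD1_c19 LD2_c36 LD3_c20)) = (LP (LK LD1_c15 LD2_c15 LD3_c47)) :=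
  Lgr Lrot19 (Lpr_dt (f388799 IH) (Lpr_ft (f388636 IH) (Lpr_dt (K30.f217396 IH) (Lpn (LP (LK LD1_c15 LD2_c15 LD3_c47))))))
theorem f388809 : Led Lsl_ft (LP (LK LD1_c19 LD2_c36 LD3_c20)) = (LP (LK LD1_c15 LD2_c15 LD3_c47)) :=
  Lgr Lrot48 (Lpr_ff (f388807 IH) (Lpn (LP (LK LD1_c15 LD2_c15 LD3_c47))))
theorem f225331 : Led Lsl_gt (LP (LK LD1_c10 LD2_c50 LD3_c46)) = (LP (LK LD1_c19 LD2_c36 LD3_c19)) :=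
  Lre_g IH (LK LD1_c10 LD2_c50 LD3_c46) (LK LD1_c19 LD2_c36 LD3_c19) Lrfl Lrfl
theorem f388815 : Led Lsl_af (LP (LK LD1_c19 LD2_c36 LD3_c19)) = (LP (LK LD1_c15 LD2_c15 LD3_c47)) :=
  Lgr Lrot31 (Lpe (f225331 IH) (Lpe (f220293 IH) (Lpr_ft (f388809 IH) (Lpn (LP (LK LD1_c15 LD2_c15 LD3_c47))))))
theorem f227153 : Led Lsl_at (LP (LK LD1_c15 LD2_c15 LD3_c39)) = (LP (LK LD1_c8 LD2_c6 LD3_c20)) :=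
  Lre_a IH (LK LD1_c15 LD2_c15 LD3_c39) (LK LD1_c8 LD2_c6 LD3_c20) Lrfl Lrfl
theorem f388802 : Led Lsl_af (LP (LK LD1_c19 LD2_c36 LD3_c20)) = (LP (LK LD1_c15 LD2_c15 LD3_c42)) :=
  Lgr Lrot117 (Lpr_dt (f388799 IH) (Lpr_at (f227153 IH) (Lpr_dt (K30.f50288 IH) (Lpn (LP (LK LD1_c15 LD2_c15 LD3_c42))))))
theorem f388821 : Led Lsl_ft (LP (LK LD1_c19 LD2_c36 LD3_c19)) = (LP (LK LD1_c15 LD2_c15 LD3_c42)) :=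
  Lgr Lrot101 (Lpr_af (f388815 IH) (Lpe (f388809 IH) (Lpr_af (f388802 IH) (Lpn (LP (LK LD1_c15 LD2_c15 LD3_c42))))))
theorem f227155 : Led Lsl_dt (LP (LK LD1_c15 LD2_c15 LD3_c42)) = (LP (LK LD1_c8 LD2_c6 LD3_c20)) :=
  Lre_d IH (LK LD1_c15 LD2_c15 LD3_c42) (LK LD1_c8 LD2_c6 LD3_c20) Lrfl Lrfl
theorem f296784 : Led Lsl_ft (LP (LK LD1_c8 LD2_c6 LD3_c20)) = (LP (LK LD1_c15 LD2_c15 LD3_c44)) :=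
  Lre_f IH (LK LD1_c8 LD2_c6 LD3_c20) (LK LD1_c15 LD2_c15 LD3_c44) Lrfl Lrfl
theorem f388825 : Led Lsl_df (LP (LK LD1_c19 LD2_c36 LD3_c19)) = (LP (LK LD1_c15 LD2_c15 LD3_c44)) :=
  Lgr Lrot78 (Lpr_ft (f388821 IH) (Lpr_dt (f227155 IH) (Lpr_ft (f296784 IH) (Lpn (LP (LK LD1_c15 LD2_c15 LD3_c44))))))
theorem f296603 : Led Lsl_gf (LP (LK LD1_c26 LD2_c41 LD3_c31)) = (LP (LK LD1_c19 LD2_c36 LD3_c19)) :=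
  Lgr Lrot76 (Lpe (K15.f262008 IH) (Lpr_ff (K18.f296598 IH) (Lpr_gt (f225331 IH) (Lpn (LP (LK LD1_c19 LD2_c36 LD3_c19))))))
theorem f228230 : Led Lsl_dt (LP (LK LD1_c26 LD2_c41 LD3_c31)) = (LP (LK LD1_c16 LD2_c42 LD3_c47)) :=
  Lre_d IH (LK LD1_c26 LD2_c41 LD3_c31) (LK LD1_c16 LD2_c42 LD3_c47) Lrfl Lrfl
theorem f196678 : Led Lsl_at (LP (LK LD1_c15 LD2_c17 LD3_c45)) = (LP (LK LD1_c8 LD2_c7 LD3_c21)) :=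
  Lre_a IH (LK LD1_c15 LD2_c17 LD3_c45) (LK LD1_c8 LD2_c7 LD3_c21) Lrfl Lrfl
theorem f228216 : Led Lsl_dt (LP (LK LD1_c11 LD2_c9 LD3_c4)) = (LP (LK LD1_c15 LD2_c17 LD3_c45)) :=
  Lgr Lrot44 (Lpe (K22.f228215 IH) (Lpr_df (K30.f228213 IH) (Lpe (f196678 IH) (Lpn (LP (LK LD1_c15 LD2_c17 LD3_c45))))))
theorem f228231 : Led Lsl_df (LP (LK LD1_c11 LD2_c9 LD3_c4)) = (LP (LK LD1_c15 LD2_c17 LD3_c45)) :=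
  Lgr Lrot38 (Lpr_dt (f228216 IH) (Lpn (LP (LK LD1_c15 LD2_c17 LD3_c45))))
theorem f393267 : Led Lsl_gt (LP (LK LD1_c11 LD2_c8 LD3_c58)) = (LP (LK LD1_c15 LD2_c17 LD3_c45)) :=
  Lgr Lrot49 (Lpe (f393237 IH) (Lpr_gf (f393259 IH) (Lpe (f50173 IH) (Lpe (f389081 IH) (Lpe (f388825 IH) (Lpe (f296603 IH) (Lpr_dt (f228230 IH) (Lpr_cf (K22.f296704 IH) (Lpr_df (f228231 IH) (Lpn (LP (LK LD1_c15 LD2_c17 LD3_c45))))))))))))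
theorem f280051 : Led Lsl_bt (LP (LK LD1_c8 LD2_c9 LD3_c9)) = (LP (LK LD1_c15 LD2_c21 LD3_c0)) :=
  Lre_b IH (LK LD1_c8 LD2_c9 LD3_c9) (LK LD1_c15 LD2_c21 LD3_c0) Lrfl Lrfl
theorem f393213 : Led Lsl_ff (LP (LK LD1_c8 LD2_c9 LD3_c9)) = (LP (LK LD1_c11 LD2_c8 LD3_c58)) :=
  Lgr Lrot25 (Lpr_bt (f280051 IH) (Lpr_ft (f393211 IH) (Lpr_bt (f244345 IH) (Lpn (LP (LK LD1_c11 LD2_c8 LD3_c58))))))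
theorem f220307 : Led Lsl_ct (LP (LK LD1_c19 LD2_c36 LD3_c17)) = (LP (LK LD1_c28 LD2_c58 LD3_c4)) :=
  Lre_c IH (LK LD1_c19 LD2_c36 LD3_c17) (LK LD1_c28 LD2_c58 LD3_c4) Lrfl Lrfl
theorem f296591 : Led Lsl_df (LP (LK LD1_c27 LD2_c37 LD3_c46)) = (LP (LK LD1_c28 LD2_c58 LD3_c4)) :=
  Lgr Lrot38 (Lpr_dt (K18.f296587 IH) (Lpn (LP (LK LD1_c28 LD2_c58 LD3_c4))))
theorem f277635 : Led Lsl_ct (LP (LK LD1_c27 LD2_c37 LD3_c46)) = (LP (LK LD1_c17 LD2_c50 LD3_c52)) :=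
  Lre_c IH (LK LD1_c27 LD2_c37 LD3_c46) (LK LD1_c17 LD2_c50 LD3_c52) Lrfl Lrfl
theorem f296615 : Led Lsl_df (LP (LK LD1_c10 LD2_c35 LD3_c22)) = (LP (LK LD1_c17 LD2_c50 LD3_c52)) :=
  Lgr Lrot13 (Lpr_ct (K18.f196668 IH) (Lpe (K30.f228213 IH) (Lpr_ct (K12.f228039 IH) (Lpe (K18.f228093 IH) (Lpr_ff (K18.f296606 IH) (Lpr_dt (K30.f220306 IH) (Lpr_ct (f220307 IH) (Lpe (f296591 IH) (Lpr_ct (f277635 IH) (Lpn (LP (LK LD1_c17 LD2_c50 LD3_c52))))))))))))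
theorem f296617 : Led Lsl_ff (LP (LK LD1_c15 LD2_c17 LD3_c45)) = (LP (LK LD1_c11 LD2_c8 LD3_c60)) :=
  Lgr Lrot103 (Lpr_at (f196678 IH) (Lpe (K18.f196668 IH) (Lpr_df (f296615 IH) (Lpe (f277635 IH) (Lpr_df (f296591 IH) (Lpe (f220307 IH) (Lpe (K30.f220306 IH) (Lpr_cf (K18.f220299 IH) (Lpe (K30.f244422 IH) (Lpn (LP (LK LD1_c11 LD2_c8 LD3_c60))))))))))))
theorem f296619 : Led Lsl_ft (LP (LK LD1_c15 LD2_c17 LD3_c45)) = (LP (LK LD1_c11 LD2_c8 LD3_c60)) :=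
  Lgr Lrot48 (Lpr_ff (f296617 IH) (Lpn (LP (LK LD1_c11 LD2_c8 LD3_c60))))
theorem f244196 : Led Lsl_gt (LP (LK LD1_c11 LD2_c8 LD3_c59)) = (LP (LK LD1_c5 LD2_c39 LD3_c0)) :=
  Lre_g IH (LK LD1_c11 LD2_c8 LD3_c59) (LK LD1_c5 LD2_c39 LD3_c0) Lrfl Lrfl
theorem f296626 : Led Lsl_gt (LP (LK LD1_c15 LD2_c17 LD3_c45)) = (LP (LK LD1_c11 LD2_c8 LD3_c59)) :=
  Lgr Lrot5 (Lpr_ft (f296619 IH) (Lpr_at (K30.f244415 IH) (Lpe (f244196 IH) (Lpn (LP (LK LD1_c11 LD2_c8 LD3_c59))))))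
theorem f393290 : Led Lsl_at (LP (LK LD1_c8 LD2_c9 LD3_c9)) = (LP (LK LD1_c11 LD2_c8 LD3_c59)) :=
  Lgr Lrot26 (Lpr_ff (f393213 IH) (Lpr_gt (f393267 IH) (Lpr_gt (f296626 IH) (Lpn (LP (LK LD1_c11 LD2_c8 LD3_c59))))))
theorem f170799 : Led Lsl_gt (LP (LK LD1_c15 LD2_c41 LD3_c54)) = (LP (LK LD1_c8 LD2_c20 LD3_c25)) :=
  Lre_g IH (LK LD1_c15 LD2_c41 LD3_c54) (LK LD1_c8 LD2_c20 LD3_c25) Lrfl Lrfl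
theorem f193330 : Led Lsl_gt (LP (LK LD1_c4 LD2_c4 LD3_c39)) = (LP (LK LD1_c8 LD2_c10 LD3_c5)) :=
  Lre_g IH (LK LD1_c4 LD2_c4 LD3_c39) (LK LD1_c8 LD2_c10 LD3_c5) Lrfl Lrfl
theorem f223682 : Led Lsl_bt (LP (LK LD1_c15 LD2_c22 LD3_c57)) = (LP (LK LD1_c8 LD2_c10 LD3_c5)) :=
  Lre_b IH (LK LD1_c15 LD2_c22 LD3_c57) (LK LD1_c8 LD2_c10 LD3_c5) Lrfl Lrfl
theorem f244009 : Led Lsl_cf (LP (LK LD1_c15 LD2_c41 LD3_c54)) = (LP (LK LD1_c15 LD2_c22 LD3_c57)) :=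
  Lgr Lrot160 (Lpr_gt (f170799 IH) (Lpr_cf (K16.f170773 IH) (Lpr_bt (K30.f170702 IH) (Lpr_gt (K15.f243960 IH) (Lpr_ct (K12.f200711 IH) (Lpr_gt (K12.f223666 IH) (Lpe (K15.f193328 IH) (Lpr_bt (K30.f193329 IH) (Lpr_gt (f193330 IH) (Lpe (f223682 IH) (Lpn (LP (LK LD1_c15 LD2_c22 LD3_c57)))))))))))))
theorem f244011 : Led Lsl_gt (LP (LK LD1_c25 LD2_c14 LD3_c46)) = (LP (LK LD1_c15 LD2_c22 LD3_c57)) :=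
  Lre_g IH (LK LD1_c25 LD2_c14 LD3_c46) (LK LD1_c15 LD2_c22 LD3_c57) Lrfl Lrfl
theorem f388156 : Led Lsl_bf (LP (LK LD1_c25 LD2_c14 LD3_c46)) = (LP (LK LD1_c20 LD2_c3 LD3_c12)) :=
  Lgr Lrot165 (Lpr_gt (f244011 IH) (Lpe (f244009 IH) (Lpr_gt (f170799 IH) (Lpr_cf (K16.f170773 IH) (Lpr_bt (K30.f170702 IH) (Lpr_gt (K15.f243960 IH) (Lpe (f200713 IH) (Lpr_ct (K14.f247298 IH) (Lpr_gt (f213797 IH) (Lpr_cf (f388150 IH) (Lpn (LP (LK LD1_c20 LD2_c3 LD3_c12)))))))))))))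
theorem f388158 : Led Lsl_bt (LP (LK LD1_c25 LD2_c14 LD3_c46)) = (LP (LK LD1_c20 LD2_c3 LD3_c12)) :=
  Lgr Lrot127 (Lpr_bf (f388156 IH) (Lpn (LP (LK LD1_c20 LD2_c3 LD3_c12))))
theorem f244098 : Led Lsl_df (LP (LK LD1_c25 LD2_c14 LD3_c46)) = (LP (LK LD1_c25 LD2_c11 LD3_c48)) :=
  Lgr Lrot155 (Lpr_gt (f244011 IH) (Lpe (f244009 IH) (Lpr_gt (f170799 IH) (Lpr_ct (K30.f170703 IH) (Lpr_dt (K17.f244090 IH) (Lpe (K17.f223453 IH) (Lpe (K27.f223481 IH) (Lpe (f224859 IH) (Lpe (f244097 IH) (Lpn (LP (LK LD1_c25 LD2_c11 LD3_c48))))))))))))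
theorem f244102 : Led Lsl_dt (LP (LK LD1_c25 LD2_c14 LD3_c46)) = (LP (LK LD1_c25 LD2_c11 LD3_c48)) :=
  Lgr Lrot42 (Lpr_df (f244098 IH) (Lpn (LP (LK LD1_c25 LD2_c11 LD3_c48))))
theorem f393073 : Led Lsl_dt (LP (LK LD1_c15 LD2_c21 LD3_c16)) = (LP (LK LD1_c25 LD2_c12 LD3_c32)) :=
  Lre_d IH (LK LD1_c15 LD2_c21 LD3_c16) (LK LD1_c25 LD2_c12 LD3_c32) Lrfl Lrfl
theorem f393074 : Led Lsl_ff (LP (LK LD1_c25 LD2_c14 LD3_c46)) = (LP (LK LD1_c25 LD2_c12 LD3_c32)) :=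
  Lgr Lrot19 (Lpr_dt (f244102 IH) (Lpr_ft (f393067 IH) (Lpr_dt (f393073 IH) (Lpn (LP (LK LD1_c25 LD2_c12 LD3_c32))))))
theorem f393187 : Led Lsl_bt (LP (LK LD1_c19 LD2_c30 LD3_c8)) = (LP (LK LD1_c25 LD2_c12 LD3_c32)) :=
  Lgr Lrot35 (Lpr_ff (f393176 IH) (Lpe (f388158 IH) (Lpr_ff (f393074 IH) (Lpn (LP (LK LD1_c25 LD2_c12 LD3_c32))))))
theorem f227130 : Led Lsl_at (LP (LK LD1_c25 LD2_c12 LD3_c32)) = (LP (LK LD1_c15 LD2_c21 LD3_c18)) :=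
  Lre_a IH (LK LD1_c25 LD2_c12 LD3_c32) (LK LD1_c15 LD2_c21 LD3_c18) Lrfl Lrfl
theorem f244348 : Led Lsl_bt (LP (LK LD1_c11 LD2_c8 LD3_c58)) = (LP (LK LD1_c20 LD2_c2 LD3_c44)) :=
  Lre_b IH (LK LD1_c11 LD2_c8 LD3_c58) (LK LD1_c20 LD2_c2 LD3_c44) Lrfl Lrfl
theorem f393209 : Led Lsl_at (LP (LK LD1_c8 LD2_c9 LD3_c14)) = (LP (LK LD1_c11 LD2_c8 LD3_c58)) :=
  Lgr Lrot67 (Lpe (K30.f227124 IH) (Lpe (f227130 IH) (Lpe (f393187 IH) (Lpr_af (f393205 IH) (Lpe (f244348 IH) (Lpn (LP (LK LD1_c11 LD2_c8 LD3_c58))))))))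
theorem f393305 : Led Lsl_ff (LP (LK LD1_c8 LD2_c9 LD3_c14)) = (LP (LK LD1_c11 LD2_c8 LD3_c59)) :=
  Lgr Lrot30 (Lpr_at (f393209 IH) (Lpe (f393213 IH) (Lpr_at (f393290 IH) (Lpn (LP (LK LD1_c11 LD2_c8 LD3_c59))))))
theorem f393309 : Led Lsl_ft (LP (LK LD1_c4 LD2_c4 LD3_c12)) = (LP (LK LD1_c8 LD2_c9 LD3_c6)) :=
  Lre_f IH (LK LD1_c4 LD2_c4 LD3_c12) (LK LD1_c8 LD2_c9 LD3_c6) Lrfl Lrfl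
theorem f393310 : Led Lsl_dt (LP (LK LD1_c8 LD2_c9 LD3_c6)) = (LP (LK LD1_c11 LD2_c8 LD3_c59)) :=
  Lgr Lrot60 (Lpe (f393309 IH) (Lpe (K30.f52512 IH) (Lpr_ff (f393305 IH) (Lpn (LP (LK LD1_c11 LD2_c8 LD3_c59))))))
theorem f220292 : Led Lsl_dt (LP (LK LD1_c10 LD2_c50 LD3_c46)) = (LP (LK LD1_c5 LD2_c29 LD3_c45)) :=
  Lre_d IH (LK LD1_c10 LD2_c50 LD3_c46) (LK LD1_c5 LD2_c29 LD3_c45) Lrfl Lrfl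
theorem f388804 : Led Lsl_df (LP (LK LD1_c19 LD2_c36 LD3_c20)) = (LP (LK LD1_c15 LD2_c15 LD3_c39)) :=
  Lgr Lrot38 (Lpr_dt (f388799 IH) (Lpn (LP (LK LD1_c15 LD2_c15 LD3_c39))))
theorem f389325 : Led Lsl_gf (LP (LK LD1_c15 LD2_c15 LD3_c39)) = (LP (LK LD1_c8 LD2_c6 LD3_c22)) :=
  Lgr Lrot47 (Lpr_gt (f389083 IH) (Lpe (K27.f52541 IH) (Lpe (K27.f50690 IH) (Lpn (LP (LK LD1_c8 LD2_c6 LD3_c22))))))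
theorem f393353 : Led Lsl_gf (LP (LK LD1_c8 LD2_c9 LD3_c6)) = (LP (LK LD1_c4 LD2_c4 LD3_c13)) :=
  Lgr Lrot144 (Lpr_dt (f393310 IH) (Lpr_gt (f244196 IH) (Lpr_dt (K30.f244412 IH) (Lpe (K30.f220224 IH) (Lpe (f220292 IH) (Lpe (f220293 IH) (Lpr_df (f388804 IH) (Lpr_gf (f389325 IH) (Lpe (f50660 IH) (Lpn (LP (LK LD1_c4 LD2_c4 LD3_c13))))))))))))
theorem f393315 : Led Lsl_ct (LP (LK LD1_c8 LD2_c9 LD3_c6)) = (LP (LK LD1_c15 LD2_c20 LD3_c58)) :=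
  Lre_c IH (LK LD1_c8 LD2_c9 LD3_c6) (LK LD1_c15 LD2_c20 LD3_c58) Lrfl Lrfl
theorem f50659 : Led Lsl_bt (LP (LK LD1_c8 LD2_c3 LD3_c5)) = (LP (LK LD1_c4 LD2_c4 LD3_c13)) :=
  Lre_b IH (LK LD1_c8 LD2_c3 LD3_c5) (LK LD1_c4 LD2_c4 LD3_c13) Lrfl Lrfl
theorem f168127 : Led Lsl_et (LP (LK LD1_c16 LD2_c47 LD3_c12)) = (LP (LK LD1_c8 LD2_c58 LD3_c14)) :=
  Lre_e IH (LK LD1_c16 LD2_c47 LD3_c12) (LK LD1_c8 LD2_c58 LD3_c14) Lrfl Lrfl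
theorem f168128 : Led Lsl_et (LP (LK LD1_c5 LD2_c32 LD3_c18)) = (LP (LK LD1_c10 LD2_c56 LD3_c15)) :=
  Lre_e IH (LK LD1_c5 LD2_c32 LD3_c18) (LK LD1_c10 LD2_c56 LD3_c15) Lrfl Lrfl
theorem f168129 : Led Lsl_cf (LP (LK LD1_c16 LD2_c47 LD3_c12)) = (LP (LK LD1_c10 LD2_c56 LD3_c15)) :=
  Lgr Lrot39 (Lpr_et (f168127 IH) (Lpr_ct (K24.f168109 IH) (Lpr_et (f168128 IH) (Lpn (LP (LK LD1_c10 LD2_c56 LD3_c15))))))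
theorem f168143 : Led Lsl_ct (LP (LK LD1_c16 LD2_c47 LD3_c12)) = (LP (LK LD1_c10 LD2_c56 LD3_c15)) :=
  Lgr Lrot59 (Lpr_cf (f168129 IH) (Lpn (LP (LK LD1_c10 LD2_c56 LD3_c15))))
theorem f168149 : Led Lsl_bt (LP (LK LD1_c8 LD2_c58 LD3_c17)) = (LP (LK LD1_c16 LD2_c47 LD3_c12)) :=
  Lre_b IH (LK LD1_c8 LD2_c58 LD3_c17) (LK LD1_c16 LD2_c47 LD3_c12) Lrfl Lrfl
theorem f168150 : Led Lsl_ct (LP (LK LD1_c16 LD2_c47 LD3_c14)) = (LP (LK LD1_c8 LD2_c58 LD3_c17)) :=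
  Lre_c IH (LK LD1_c16 LD2_c47 LD3_c14) (LK LD1_c8 LD2_c58 LD3_c17) Lrfl Lrfl
theorem f168151 : Led Lsl_bt (LP (LK LD1_c26 LD2_c45 LD3_c41)) = (LP (LK LD1_c16 LD2_c47 LD3_c14)) :=
  Lre_b IH (LK LD1_c26 LD2_c45 LD3_c41) (LK LD1_c16 LD2_c47 LD3_c14) Lrfl Lrfl
theorem f168148 : Led Lsl_bt (LP (LK LD1_c10 LD2_c56 LD3_c15)) = (LP (LK LD1_c19 LD2_c45 LD3_c8)) :=
  Lre_b IH (LK LD1_c10 LD2_c56 LD3_c15) (LK LD1_c19 LD2_c45 LD3_c8) Lrfl Lrfl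
theorem f168152 : Led Lsl_cf (LP (LK LD1_c26 LD2_c45 LD3_c41)) = (LP (LK LD1_c19 LD2_c45 LD3_c8)) :=
  Lgr Lrot97 (Lpr_bt (f168151 IH) (Lpr_ct (f168150 IH) (Lpr_bt (f168149 IH) (Lpr_ct (f168143 IH) (Lpr_bt (f168148 IH) (Lpn (LP (LK LD1_c19 LD2_c45 LD3_c8))))))))
theorem f168157 : Led Lsl_et (LP (LK LD1_c26 LD2_c45 LD3_c41)) = (LP (LK LD1_c16 LD2_c47 LD3_c13)) :=
  Lre_e IH (LK LD1_c26 LD2_c45 LD3_c41) (LK LD1_c16 LD2_c47 LD3_c13) Lrfl Lrfl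
theorem f168158 : Led Lsl_et (LP (LK LD1_c10 LD2_c56 LD3_c14)) = (LP (LK LD1_c19 LD2_c45 LD3_c8)) :=
  Lre_e IH (LK LD1_c10 LD2_c56 LD3_c14) (LK LD1_c19 LD2_c45 LD3_c8) Lrfl Lrfl
theorem f168159 : Led Lsl_ct (LP (LK LD1_c16 LD2_c47 LD3_c13)) = (LP (LK LD1_c10 LD2_c56 LD3_c14)) :=
  Lgr Lrot15 (Lpe (f168157 IH) (Lpr_cf (f168152 IH) (Lpe (f168158 IH) (Lpn (LP (LK LD1_c10 LD2_c56 LD3_c14))))))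
theorem f393356 : Led Lsl_gt (LP (LK LD1_c15 LD2_c20 LD3_c58)) = (LP (LK LD1_c10 LD2_c56 LD3_c14)) :=
  Lgr Lrot149 (Lpe (f393315 IH) (Lpr_gf (f393353 IH) (Lpe (f50659 IH) (Lpr_ct (K11.f31005 IH) (Lpe (K22.f217441 IH) (Lpe (K20.f168819 IH) (Lpr_bt (K20.f168818 IH) (Lpr_gf (K22.f168808 IH) (Lpe (f168121 IH) (Lpr_ct (f168159 IH) (Lpn (LP (LK LD1_c10 LD2_c56 LD3_c14)))))))))))))
theorem f393360 : Led Lsl_bt (LP (LK LD1_c8 LD2_c9 LD3_c6)) = (LP (LK LD1_c15 LD2_c20 LD3_c57)) :=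
  Lre_b IH (LK LD1_c8 LD2_c9 LD3_c6) (LK LD1_c15 LD2_c20 LD3_c57) Lrfl Lrfl
theorem f238345 : Led Lsl_bt (LP (LK LD1_c5 LD2_c33 LD3_c35)) = (LP (LK LD1_c10 LD2_c59 LD3_c5)) :=
  Lre_b IH (LK LD1_c5 LD2_c33 LD3_c35) (LK LD1_c10 LD2_c59 LD3_c5) Lrfl Lrfl
theorem f393361 : Led Lsl_gf (LP (LK LD1_c15 LD2_c20 LD3_c57)) = (LP (LK LD1_c10 LD2_c59 LD3_c5)) :=
  Lgr Lrot124 (Lpe (f393360 IH) (Lpr_ct (f393315 IH) (Lpr_gt (f393356 IH) (Lpe (f168159 IH) (Lpr_bt (f168121 IH) (Lpe (K22.f168808 IH) (Lpr_ct (f168811 IH) (Lpr_gt (K30.f168812 IH) (Lpe (K30.f332481 IH) (Lpr_bt (f238345 IH) (Lpn (LP (LK LD1_c10 LD2_c59 LD3_c5)))))))))))))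
theorem f393110 : Led Lsl_ct (LP (LK LD1_c15 LD2_c20 LD3_c57)) = (LP (LK LD1_c25 LD2_c12 LD3_c10)) :=
  Lre_c IH (LK LD1_c15 LD2_c20 LD3_c57) (LK LD1_c25 LD2_c12 LD3_c10) Lrfl Lrfl
theorem f391119 : Led Lsl_bf (LP (LK LD1_c15 LD2_c52 LD3_c7)) = (LP (LK LD1_c25 LD2_c12 LD3_c60)) :=
  Lgr Lrot61 (Lpe (f389813 IH) (Lpe (f390956 IH) (Lpr_ft (f391117 IH) (Lpn (LP (LK LD1_c25 LD2_c12 LD3_c60))))))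
theorem f228400 : Led Lsl_gt (LP (LK LD1_c20 LD2_c3 LD3_c6)) = (LP (LK LD1_c11 LD2_c9 LD3_c8)) :=
  Lre_g IH (LK LD1_c20 LD2_c3 LD3_c6) (LK LD1_c11 LD2_c9 LD3_c8) Lrfl Lrfl
theorem f388129 : Led Lsl_bf (LP (LK LD1_c20 LD2_c3 LD3_c6)) = (LP (LK LD1_c19 LD2_c11 LD3_c57)) :=
  Lgr Lrot156 (Lpr_gt (f228400 IH) (Lpe (f388128 IH) (Lpr_ct (f289605 IH) (Lpr_gt (f388122 IH) (Lpe (f388118 IH) (Lpr_bt (f387947 IH) (Lpr_gt (K30.f387934 IH) (Lpr_ct (K17.f228416 IH) (Lpr_gt (f228425 IH) (Lpe (f228431 IH) (Lpn (LP (LK LD1_c19 LD2_c11 LD3_c57)))))))))))))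
theorem f391134 : Led Lsl_dt (LP (LK LD1_c20 LD2_c3 LD3_c6)) = (LP (LK LD1_c25 LD2_c12 LD3_c60)) :=
  Lgr Lrot79 (Lpr_bf (f388129 IH) (Lpe (f387942 IH) (Lpr_bf (f391119 IH) (Lpn (LP (LK LD1_c25 LD2_c12 LD3_c60))))))
theorem f391140 : Led Lsl_gf (LP (LK LD1_c15 LD2_c53 LD3_c44)) = (LP (LK LD1_c25 LD2_c12 LD3_c60)) :=
  Lgr Lrot179 (Lpr_ct (K30.f201050 IH) (Lpr_gt (K30.f200953 IH) (Lpr_ct (K13.f196425 IH) (Lpe (K17.f200932 IH) (Lpe (K17.f199506 IH) (Lpe (f199596 IH) (Lpe (f228396 IH) (Lpe (f228400 IH) (Lpr_dt (f391134 IH) (Lpn (LP (LK LD1_c25 LD2_c12 LD3_c60))))))))))))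
theorem f391121 : Led Lsl_ff (LP (LK LD1_c24 LD2_c58 LD3_c39)) = (LP (LK LD1_c25 LD2_c12 LD3_c60)) :=
  Lgr Lrot3 (Lpr_ft (f391117 IH) (Lpn (LP (LK LD1_c25 LD2_c12 LD3_c60))))
theorem f238418 : Led Lsl_at (LP (LK LD1_c24 LD2_c58 LD3_c39)) = (LP (LK LD1_c15 LD2_c9 LD3_c33)) :=
  Lre_a IH (LK LD1_c24 LD2_c58 LD3_c39) (LK LD1_c15 LD2_c9 LD3_c33) Lrfl Lrfl
theorem f391142 : Led Lsl_gt (LP (LK LD1_c15 LD2_c53 LD3_c44)) = (LP (LK LD1_c15 LD2_c9 LD3_c33)) :=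
  Lgr Lrot46 (Lpr_gf (f391140 IH) (Lpe (f391121 IH) (Lpr_at (f238418 IH) (Lpn (LP (LK LD1_c15 LD2_c9 LD3_c33))))))
theorem f390946 : Led Lsl_at (LP (LK LD1_c24 LD2_c58 LD3_c40)) = (LP (LK LD1_c25 LD2_c11 LD3_c19)) :=
  Lgr Lrot107 (Lpe (f52502 IH) (Lpe (f238418 IH) (Lpr_cf (f390944 IH) (Lpn (LP (LK LD1_c25 LD2_c11 LD3_c19))))))
theorem f391035 : Led Lsl_ff (LP (LK LD1_c24 LD2_c58 LD3_c40)) = (LP (LK LD1_c25 LD2_c11 LD3_c18)) :=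
  Lgr Lrot30 (Lpr_at (f390946 IH) (Lpe (f391025 IH) (Lpr_at (f391029 IH) (Lpn (LP (LK LD1_c25 LD2_c11 LD3_c18))))))
theorem f391037 : Led Lsl_ft (LP (LK LD1_c24 LD2_c58 LD3_c40)) = (LP (LK LD1_c25 LD2_c11 LD3_c18)) :=
  Lgr Lrot48 (Lpr_ff (f391035 IH) (Lpn (LP (LK LD1_c25 LD2_c11 LD3_c18))))
theorem f390097 : Led Lsl_bt (LP (LK LD1_c25 LD2_c11 LD3_c18)) = (LP (LK LD1_c17 LD2_c48 LD3_c34)) :=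
  Lgr Lrot127 (Lpr_bf (f390095 IH) (Lpn (LP (LK LD1_c17 LD2_c48 LD3_c34))))
theorem f391047 : Led Lsl_ft (LP (LK LD1_c17 LD2_c48 LD3_c34)) = (LP (LK LD1_c27 LD2_c35 LD3_c46)) :=
  Lre_f IH (LK LD1_c17 LD2_c48 LD3_c34) (LK LD1_c27 LD2_c35 LD3_c46) Lrfl Lrfl
theorem f391048 : Led Lsl_bf (LP (LK LD1_c24 LD2_c58 LD3_c40)) = (LP (LK LD1_c27 LD2_c35 LD3_c46)) :=
  Lgr Lrot61 (Lpr_ft (f391037 IH) (Lpr_bt (f390097 IH) (Lpr_ft (f391047 IH) (Lpn (LP (LK LD1_c27 LD2_c35 LD3_c46))))))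
theorem f391054 : Led Lsl_ct (LP (LK LD1_c27 LD2_c35 LD3_c46)) = (LP (LK LD1_c17 LD2_c48 LD3_c36)) :=
  Lre_c IH (LK LD1_c27 LD2_c35 LD3_c46) (LK LD1_c17 LD2_c48 LD3_c36) Lrfl Lrfl
theorem f389741 : Led Lsl_ft (LP (LK LD1_c17 LD2_c48 LD3_c33)) = (LP (LK LD1_c9 LD2_c40 LD3_c55)) :=
  Lre_f IH (LK LD1_c17 LD2_c48 LD3_c33) (LK LD1_c9 LD2_c40 LD3_c55) Lrfl Lrfl
theorem f389742 : Led Lsl_at (LP (LK LD1_c9 LD2_c40 LD3_c55)) = (LP (LK LD1_c17 LD2_c48 LD3_c36)) :=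
  Lre_a IH (LK LD1_c9 LD2_c40 LD3_c55) (LK LD1_c17 LD2_c48 LD3_c36) Lrfl Lrfl
theorem f389743 : Led Lsl_gt (LP (LK LD1_c9 LD2_c40 LD3_c58)) = (LP (LK LD1_c17 LD2_c48 LD3_c36)) :=
  Lgr Lrot46 (Lpr_gf (f389737 IH) (Lpr_ft (f389741 IH) (Lpr_at (f389742 IH) (Lpn (LP (LK LD1_c17 LD2_c48 LD3_c36))))))
theorem f219025 : Led Lsl_gt (LP (LK LD1_c15 LD2_c9 LD3_c11)) = (LP (LK LD1_c8 LD2_c2 LD3_c54)) :=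
  Lre_g IH (LK LD1_c15 LD2_c9 LD3_c11) (LK LD1_c8 LD2_c2 LD3_c54) Lrfl Lrfl
theorem f218940 : Led Lsl_bt (LP (LK LD1_c3 LD2_c58 LD3_c28)) = (LP (LK LD1_c7 LD2_c58 LD3_c19)) :=
  Lre_b IH (LK LD1_c3 LD2_c58 LD3_c28) (LK LD1_c7 LD2_c58 LD3_c19) Lrfl Lrfl
theorem f218945 : Led Lsl_gt (LP (LK LD1_c7 LD2_c58 LD3_c19)) = (LP (LK LD1_c15 LD2_c2 LD3_c19)) :=
  Lre_g IH (LK LD1_c7 LD2_c58 LD3_c19) (LK LD1_c15 LD2_c2 LD3_c19) Lrfl Lrfl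
theorem f219055 : Led Lsl_bt (LP (LK LD1_c24 LD2_c50 LD3_c50)) = (LP (LK LD1_c15 LD2_c2 LD3_c19)) :=
  Lre_b IH (LK LD1_c24 LD2_c50 LD3_c50) (LK LD1_c15 LD2_c2 LD3_c19) Lrfl Lrfl
theorem f219056 : Led Lsl_ct (LP (LK LD1_c24 LD2_c50 LD3_c50)) = (LP (LK LD1_c15 LD2_c9 LD3_c11)) :=
  Lgr Lrot64 (Lpr_bt (f219055 IH) (Lpe (f218945 IH) (Lpe (f218940 IH) (Lpr_ct (K12.f218712 IH) (Lpe (K18.f41240 IH) (Lpe (K12.f41135 IH) (Lpe (K12.f42768 IH) (Lpe (K27.f42773 IH) (Lpr_ct (K27.f218699 IH) (Lpe (f219025 IH) (Lpn (LP (LK LD1_c15 LD2_c9 LD3_c11)))))))))))))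
theorem f391055 : Led Lsl_gt (LP (LK LD1_c24 LD2_c58 LD3_c40)) = (LP (LK LD1_c24 LD2_c50 LD3_c50)) :=
  Lgr Lrot82 (Lpr_bf (f391048 IH) (Lpr_ct (f391054 IH) (Lpe (f389743 IH) (Lpe (f41138 IH) (Lpr_bt (K12.f41134 IH) (Lpe (K12.f42768 IH) (Lpe (K27.f42773 IH) (Lpr_ct (K27.f218699 IH) (Lpe (f219025 IH) (Lpe (f219056 IH) (Lpn (LP (LK LD1_c24 LD2_c50 LD3_c50)))))))))))))
theorem f374737 : Led Lsl_ct (LP (LK LD1_c8 LD2_c54 LD3_c35)) = (LP (LK LD1_c15 LD2_c21 LD3_c15)) :=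
  Lgr Lrot59 (Lpr_cf (f374735 IH) (Lpn (LP (LK LD1_c15 LD2_c21 LD3_c15))))
theorem f390973 : Led Lsl_df (LP (LK LD1_c15 LD2_c9 LD3_c22)) = (LP (LK LD1_c15 LD2_c9 LD3_c11)) :=
  Lgr Lrot155 (Lpr_gt (f223485 IH) (Lpe (f223387 IH) (Lpr_gt (f223479 IH) (Lpr_ct (f374737 IH) (Lpr_dt (f390969 IH) (Lpe (f219026 IH) (Lpe (f218707 IH) (Lpr_cf (K17.f219004 IH) (Lpe (f219025 IH) (Lpn (LP (LK LD1_c15 LD2_c9 LD3_c11))))))))))))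
theorem f390977 : Led Lsl_dt (LP (LK LD1_c15 LD2_c9 LD3_c22)) = (LP (LK LD1_c15 LD2_c9 LD3_c11)) :=
  Lgr Lrot42 (Lpr_df (f390973 IH) (Lpn (LP (LK LD1_c15 LD2_c9 LD3_c11))))
theorem f223486 : Led Lsl_ct (LP (LK LD1_c24 LD2_c58 LD3_c20)) = (LP (LK LD1_c15 LD2_c9 LD3_c22)) :=
  Lre_c IH (LK LD1_c24 LD2_c58 LD3_c20) (LK LD1_c15 LD2_c9 LD3_c22) Lrfl Lrfl
theorem f393366 : Led Lsl_gt (LP (LK LD1_c25 LD2_c12 LD3_c10)) = (LP (LK LD1_c24 LD2_c58 LD3_c20)) :=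
  Lgr Lrot150 (Lpe (f393110 IH) (Lpr_gf (f393361 IH) (Lpr_df (K30.f388376 IH) (Lpr_gt (f391142 IH) (Lpr_ct (f52502 IH) (Lpr_gt (f391055 IH) (Lpr_ct (f219056 IH) (Lpe (f390977 IH) (Lpe (f223486 IH) (Lpn (LP (LK LD1_c24 LD2_c58 LD3_c20))))))))))))
theorem f223489 : Led Lsl_bt (LP (LK LD1_c8 LD2_c54 LD3_c16)) = (LP (LK LD1_c4 LD2_c28 LD3_c7)) :=
  Lre_b IH (LK LD1_c8 LD2_c54 LD3_c16) (LK LD1_c4 LD2_c28 LD3_c7) Lrfl Lrfl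
theorem f223367 : Led Lsl_bt (LP (LK LD1_c4 LD2_c28 LD3_c7)) = (LP (LK LD1_c8 LD2_c54 LD3_c16)) :=
  Lre_b IH (LK LD1_c4 LD2_c28 LD3_c7) (LK LD1_c8 LD2_c54 LD3_c16) Lrfl Lrfl
theorem f223368 : Led Lsl_ct (LP (LK LD1_c8 LD2_c54 LD3_c16)) = (LP (LK LD1_c5 LD2_c32 LD3_c14)) :=
  Lgr Lrot83 (Lpe (f223367 IH) (Lpr_cf (K12.f223205 IH) (Lpe (K9.f53661 IH) (Lpe (K12.f216933 IH) (Lpe (K16.f216935 IH) (Lpn (LP (LK LD1_c5 LD2_c32 LD3_c14))))))))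
theorem f216943 : Led Lsl_gt (LP (LK LD1_c5 LD2_c32 LD3_c14)) = (LP (LK LD1_c10 LD2_c56 LD3_c5)) :=
  Lre_g IH (LK LD1_c5 LD2_c32 LD3_c14) (LK LD1_c10 LD2_c56 LD3_c5) Lrfl Lrfl
theorem f223490 : Led Lsl_ct (LP (LK LD1_c19 LD2_c44 LD3_c50)) = (LP (LK LD1_c10 LD2_c56 LD3_c5)) :=
  Lre_c IH (LK LD1_c19 LD2_c44 LD3_c50) (LK LD1_c10 LD2_c56 LD3_c5) Lrfl Lrfl
theorem f393373 : Led Lsl_bf (LP (LK LD1_c25 LD2_c12 LD3_c10)) = (LP (LK LD1_c19 LD2_c44 LD3_c50)) :=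
  Lgr Lrot165 (Lpr_gt (f393366 IH) (Lpr_ct (f223486 IH) (Lpr_gt (f223485 IH) (Lpe (K17.f223453 IH) (Lpr_bt (f223386 IH) (Lpe (K12.f223379 IH) (Lpe (f223489 IH) (Lpr_ct (f223368 IH) (Lpr_gt (f216943 IH) (Lpe (f223490 IH) (Lpn (LP (LK LD1_c19 LD2_c44 LD3_c50)))))))))))))
theorem f393372 : Led Lsl_ft (LP (LK LD1_c25 LD2_c12 LD3_c10)) = (LP (LK LD1_c15 LD2_c21 LD3_c17)) :=
  Lre_f IH (LK LD1_c25 LD2_c12 LD3_c10) (LK LD1_c15 LD2_c21 LD3_c17) Lrfl Lrfl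
theorem f374756 : Led Lsl_bt (LP (LK LD1_c15 LD2_c21 LD3_c17)) = (LP (LK LD1_c25 LD2_c12 LD3_c34)) :=
  Lre_b IH (LK LD1_c15 LD2_c21 LD3_c17) (LK LD1_c25 LD2_c12 LD3_c34) Lrfl Lrfl
theorem f393381 : Led Lsl_ft (LP (LK LD1_c25 LD2_c12 LD3_c34)) = (LP (LK LD1_c19 LD2_c44 LD3_c50)) :=
  Lgr Lrot75 (Lpe (f374756 IH) (Lpe (f393372 IH) (Lpr_bf (f393373 IH) (Lpn (LP (LK LD1_c19 LD2_c44 LD3_c50))))))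
theorem f393387 : Led Lsl_ff (LP (LK LD1_c25 LD2_c12 LD3_c34)) = (LP (LK LD1_c19 LD2_c44 LD3_c50)) :=
  Lgr Lrot3 (Lpr_ft (f393381 IH) (Lpn (LP (LK LD1_c19 LD2_c44 LD3_c50))))
theorem f216944 : Led Lsl_ct (LP (LK LD1_c10 LD2_c56 LD3_c5)) = (LP (LK LD1_c19 LD2_c44 LD3_c50)) :=
  Lre_c IH (LK LD1_c10 LD2_c56 LD3_c5) (LK LD1_c19 LD2_c44 LD3_c50) Lrfl Lrfl
theorem f393389 : Led Lsl_ft (LP (LK LD1_c15 LD2_c21 LD3_c20)) = (LP (LK LD1_c10 LD2_c56 LD3_c5)) :=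
  Lgr Lrot4 (Lpe (f233901 IH) (Lpr_ff (f393387 IH) (Lpe (f216944 IH) (Lpn (LP (LK LD1_c10 LD2_c56 LD3_c5))))))
theorem f213133 : Led Lsl_ct (LP (LK LD1_c11 LD2_c2 LD3_c37)) = (LP (LK LD1_c10 LD2_c56 LD3_c10)) :=
  Lgr Lrot59 (Lpr_cf (f213117 IH) (Lpn (LP (LK LD1_c10 LD2_c56 LD3_c10))))
theorem f235020 : Led Lsl_ft (LP (LK LD1_c10 LD2_c56 LD3_c10)) = (LP (LK LD1_c16 LD2_c45 LD3_c29)) :=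
  Lgr Lrot4 (Lpe (f213133 IH) (Lpe (K16.f213426 IH) (Lpr_cf (K16.f235016 IH) (Lpn (LP (LK LD1_c16 LD2_c45 LD3_c29))))))
theorem f213119 : Led Lsl_at (LP (LK LD1_c10 LD2_c56 LD3_c10)) = (LP (LK LD1_c5 LD2_c32 LD3_c15)) :=
  Lre_a IH (LK LD1_c10 LD2_c56 LD3_c10) (LK LD1_c5 LD2_c32 LD3_c15) Lrfl Lrfl
theorem f234969 : Led Lsl_at (LP (LK LD1_c8 LD2_c56 LD3_c61)) = (LP (LK LD1_c16 LD2_c45 LD3_c24)) :=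
  Lre_a IH (LK LD1_c8 LD2_c56 LD3_c61) (LK LD1_c16 LD2_c45 LD3_c24) Lrfl Lrfl
theorem f234970 : Led Lsl_bf (LP (LK LD1_c10 LD2_c56 LD3_c10)) = (LP (LK LD1_c16 LD2_c45 LD3_c24)) :=
  Lgr Lrot81 (Lpr_at (f213119 IH) (Lpr_bt (K16.f196402 IH) (Lpr_at (K13.f234743 IH) (Lpr_bt (K16.f222464 IH) (Lpr_at (f234969 IH) (Lpn (LP (LK LD1_c16 LD2_c45 LD3_c24))))))))
theorem f235029 : Led Lsl_ft (LP (LK LD1_c10 LD2_c56 LD3_c7)) = (LP (LK LD1_c16 LD2_c45 LD3_c24)) :=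
  Lgr Lrot75 (Lpr_bf (K16.f235022 IH) (Lpe (f235020 IH) (Lpr_bf (f234970 IH) (Lpn (LP (LK LD1_c16 LD2_c45 LD3_c24))))))
theorem f235031 : Led Lsl_at (LP (LK LD1_c16 LD2_c45 LD3_c24)) = (LP (LK LD1_c8 LD2_c56 LD3_c61)) :=
  Lre_a IH (LK LD1_c16 LD2_c45 LD3_c24) (LK LD1_c8 LD2_c56 LD3_c61) Lrfl Lrfl
theorem f232130 : Led Lsl_gt (LP (LK LD1_c16 LD2_c45 LD3_c23)) = (LP (LK LD1_c8 LD2_c56 LD3_c61)) :=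
  Lre_g IH (LK LD1_c16 LD2_c45 LD3_c23) (LK LD1_c8 LD2_c56 LD3_c61) Lrfl Lrfl
theorem f235034 : Led Lsl_gt (LP (LK LD1_c10 LD2_c56 LD3_c7)) = (LP (LK LD1_c16 LD2_c45 LD3_c23)) :=
  Lgr Lrot5 (Lpr_ft (f235029 IH) (Lpr_at (f235031 IH) (Lpe (f232130 IH) (Lpn (LP (LK LD1_c16 LD2_c45 LD3_c23))))))
theorem f393394 : Led Lsl_af (LP (LK LD1_c16 LD2_c45 LD3_c23)) = (LP (LK LD1_c10 LD2_c56 LD3_c5)) :=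
  Lgr Lrot31 (Lpe (f235034 IH) (Lpr_gf (K16.f233899 IH) (Lpr_ft (f393389 IH) (Lpn (LP (LK LD1_c10 LD2_c56 LD3_c5))))))
theorem f267345 : Led Lsl_et (LP (LK LD1_c16 LD2_c45 LD3_c23)) = (LP (LK LD1_c26 LD2_c44 LD3_c15)) :=
  Lre_e IH (LK LD1_c16 LD2_c45 LD3_c23) (LK LD1_c26 LD2_c44 LD3_c15) Lrfl Lrfl
theorem f235059 : Led Lsl_et (LP (LK LD1_c19 LD2_c44 LD3_c52)) = (LP (LK LD1_c10 LD2_c56 LD3_c5)) :=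
  Lre_e IH (LK LD1_c19 LD2_c44 LD3_c52) (LK LD1_c10 LD2_c56 LD3_c5) Lrfl Lrfl
theorem f393401 : Led Lsl_at (LP (LK LD1_c26 LD2_c44 LD3_c15)) = (LP (LK LD1_c19 LD2_c44 LD3_c52)) :=
  Lgr Lrot80 (Lpe (f267345 IH) (Lpr_af (f393394 IH) (Lpe (f235059 IH) (Lpn (LP (LK LD1_c19 LD2_c44 LD3_c52))))))
theorem f195037 : Led Lsl_bt (LP (LK LD1_c2 LD2_c10 LD3_c61)) = (LP (LK LD1_c4 LD2_c27 LD3_c38)) :=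
  Lre_b IH (LK LD1_c2 LD2_c10 LD3_c61) (LK LD1_c4 LD2_c27 LD3_c38) Lrfl Lrfl
theorem f195017 : Led Lsl_gt (LP (LK LD1_c4 LD2_c27 LD3_c38)) = (LP (LK LD1_c8 LD2_c53 LD3_c7)) :=
  Lre_g IH (LK LD1_c4 LD2_c27 LD3_c38) (LK LD1_c8 LD2_c53 LD3_c7) Lrfl Lrfl
theorem f267336 : Led Lsl_bt (LP (LK LD1_c16 LD2_c36 LD3_c46)) = (LP (LK LD1_c8 LD2_c53 LD3_c7)) :=
  Lre_b IH (LK LD1_c16 LD2_c36 LD3_c46) (LK LD1_c8 LD2_c53 LD3_c7) Lrfl Lrfl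
theorem f267337 : Led Lsl_ct (LP (LK LD1_c16 LD2_c36 LD3_c46)) = (LP (LK LD1_c16 LD2_c45 LD3_c23)) :=
  Lgr Lrot64 (Lpr_bt (f267336 IH) (Lpe (f195017 IH) (Lpe (f195037 IH) (Lpr_ct (K15.f41763 IH) (Lpe (K11.f41755 IH) (Lpe (K15.f44645 IH) (Lpr_gf (K15.f267328 IH) (Lpe (f220807 IH) (Lpe (f222469 IH) (Lpe (f232130 IH) (Lpn (LP (LK LD1_c16 LD2_c45 LD3_c23)))))))))))))
theorem f267344 : Led Lsl_et (LP (LK LD1_c26 LD2_c33 LD3_c48)) = (LP (LK LD1_c16 LD2_c36 LD3_c46)) :=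
  Lre_e IH (LK LD1_c26 LD2_c33 LD3_c48) (LK LD1_c16 LD2_c36 LD3_c46) Lrfl Lrfl
theorem f267346 : Led Lsl_cf (LP (LK LD1_c26 LD2_c33 LD3_c48)) = (LP (LK LD1_c26 LD2_c44 LD3_c15)) :=
  Lgr Lrot39 (Lpr_et (f267344 IH) (Lpr_ct (f267337 IH) (Lpr_et (f267345 IH) (Lpn (LP (LK LD1_c26 LD2_c44 LD3_c15))))))
theorem f267356 : Led Lsl_ct (LP (LK LD1_c26 LD2_c33 LD3_c48)) = (LP (LK LD1_c26 LD2_c44 LD3_c15)) :=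
  Lgr Lrot59 (Lpr_cf (f267346 IH) (Lpn (LP (LK LD1_c26 LD2_c44 LD3_c15))))
theorem f393405 : Led Lsl_ct (LP (LK LD1_c19 LD2_c44 LD3_c52)) = (LP (LK LD1_c29 LD2_c3 LD3_c54)) :=
  Lre_c IH (LK LD1_c19 LD2_c44 LD3_c52) (LK LD1_c29 LD2_c3 LD3_c54) Lrfl Lrfl
theorem f393406 : Led Lsl_af (LP (LK LD1_c26 LD2_c33 LD3_c48)) = (LP (LK LD1_c29 LD2_c3 LD3_c54)) :=
  Lgr Lrot68 (Lpr_ct (f267356 IH) (Lpr_at (f393401 IH) (Lpr_ct (f393405 IH) (Lpn (LP (LK LD1_c29 LD2_c3 LD3_c54))))))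
theorem f393409 : Led Lsl_at (LP (LK LD1_c26 LD2_c33 LD3_c48)) = (LP (LK LD1_c29 LD2_c3 LD3_c54)) :=
  Lgr Lrot100 (Lpr_af (f393406 IH) (Lpn (LP (LK LD1_c29 LD2_c3 LD3_c54))))
theorem f267360 : Led Lsl_et (LP (LK LD1_c16 LD2_c36 LD3_c46)) = (LP (LK LD1_c26 LD2_c33 LD3_c48)) :=
  Lre_e IH (LK LD1_c16 LD2_c36 LD3_c46) (LK LD1_c26 LD2_c33 LD3_c48) Lrfl Lrfl
theorem f393380 : Led Lsl_et (LP (LK LD1_c29 LD2_c3 LD3_c54)) = (LP (LK LD1_c19 LD2_c44 LD3_c50)) :=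
  Lre_e IH (LK LD1_c29 LD2_c3 LD3_c54) (LK LD1_c19 LD2_c44 LD3_c50) Lrfl Lrfl
theorem f393413 : Led Lsl_af (LP (LK LD1_c16 LD2_c36 LD3_c46)) = (LP (LK LD1_c19 LD2_c44 LD3_c50)) :=
  Lgr Lrot50 (Lpr_et (f267360 IH) (Lpr_at (f393409 IH) (Lpr_et (f393380 IH) (Lpn (LP (LK LD1_c19 LD2_c44 LD3_c50))))))
theorem f393416 : Led Lsl_at (LP (LK LD1_c8 LD2_c53 LD3_c7)) = (LP (LK LD1_c16 LD2_c36 LD3_c45)) :=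
  Lre_a IH (LK LD1_c8 LD2_c53 LD3_c7) (LK LD1_c16 LD2_c36 LD3_c45) Lrfl Lrfl
theorem f393376 : Led Lsl_bt (LP (LK LD1_c25 LD2_c12 LD3_c10)) = (LP (LK LD1_c19 LD2_c44 LD3_c50)) :=
  Lgr Lrot127 (Lpr_bf (f393373 IH) (Lpn (LP (LK LD1_c19 LD2_c44 LD3_c50))))
theorem f227138 : Led Lsl_ft (LP (LK LD1_c8 LD2_c9 LD3_c12)) = (LP (LK LD1_c15 LD2_c20 LD3_c57)) :=
  Lre_f IH (LK LD1_c8 LD2_c9 LD3_c12) (LK LD1_c15 LD2_c20 LD3_c57) Lrfl Lrfl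
theorem f393071 : Led Lsl_af (LP (LK LD1_c25 LD2_c11 LD3_c48)) = (LP (LK LD1_c15 LD2_c20 LD3_c57)) :=
  Lgr Lrot45 (Lpr_ft (f393067 IH) (Lpr_at (f393066 IH) (Lpr_ft (f227138 IH) (Lpn (LP (LK LD1_c15 LD2_c20 LD3_c57))))))
theorem f393087 : Led Lsl_ct (LP (LK LD1_c25 LD2_c12 LD3_c10)) = (LP (LK LD1_c15 LD2_c20 LD3_c57)) :=
  Lre_c IH (LK LD1_c25 LD2_c12 LD3_c10) (LK LD1_c15 LD2_c20 LD3_c57) Lrfl Lrfl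
theorem f393126 : Led Lsl_af (LP (LK LD1_c25 LD2_c12 LD3_c10)) = (LP (LK LD1_c25 LD2_c10 LD3_c23)) :=
  Lgr Lrot68 (Lpr_ct (f393087 IH) (Lpe (f393071 IH) (Lpr_ct (f393124 IH) (Lpn (LP (LK LD1_c25 LD2_c10 LD3_c23))))))
theorem f393417 : Led Lsl_bt (LP (LK LD1_c16 LD2_c36 LD3_c45)) = (LP (LK LD1_c25 LD2_c10 LD3_c23)) :=
  Lgr Lrot62 (Lpe (f393416 IH) (Lpe (f267336 IH) (Lpr_af (f393413 IH) (Lpe (f393376 IH) (Lpr_af (f393126 IH) (Lpn (LP (LK LD1_c25 LD2_c10 LD3_c23))))))))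
theorem f393429 : Led Lsl_ft (LP (LK LD1_c8 LD2_c53 LD3_c8)) = (LP (LK LD1_c16 LD2_c36 LD3_c45)) :=
  Lre_f IH (LK LD1_c8 LD2_c53 LD3_c8) (LK LD1_c16 LD2_c36 LD3_c45) Lrfl Lrfl
theorem f218884 : Led Lsl_bt (LP (LK LD1_c16 LD2_c36 LD3_c51)) = (LP (LK LD1_c8 LD2_c53 LD3_c8)) :=
  Lre_b IH (LK LD1_c16 LD2_c36 LD3_c51) (LK LD1_c8 LD2_c53 LD3_c8) Lrfl Lrfl
theorem f393430 : Led Lsl_ff (LP (LK LD1_c16 LD2_c36 LD3_c51)) = (LP (LK LD1_c25 LD2_c10 LD3_c23)) :=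
  Lgr Lrot25 (Lpr_bt (f218884 IH) (Lpr_ft (f393429 IH) (Lpr_bt (f393417 IH) (Lpn (LP (LK LD1_c25 LD2_c10 LD3_c23))))))
theorem f393438 : Led Lsl_ft (LP (LK LD1_c16 LD2_c36 LD3_c51)) = (LP (LK LD1_c25 LD2_c10 LD3_c23)) :=
  Lgr Lrot48 (Lpr_ff (f393430 IH) (Lpn (LP (LK LD1_c25 LD2_c10 LD3_c23))))
theorem f393440 : Led Lsl_af (LP (LK LD1_c16 LD2_c36 LD3_c51)) = (LP (LK LD1_c15 LD2_c21 LD3_c17)) :=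
  Lgr Lrot45 (Lpr_ft (f393438 IH) (Lpe (f393126 IH) (Lpr_ft (f393372 IH) (Lpn (LP (LK LD1_c15 LD2_c21 LD3_c17))))))
theorem f393543 : Led Lsl_gf (LP (LK LD1_c16 LD2_c36 LD3_c51)) = (LP (LK LD1_c24 LD2_c58 LD3_c20)) :=
  Lgr Lrot76 (Lpr_af (f393440 IH) (Lpe (f393372 IH) (Lpr_gt (f393366 IH) (Lpn (LP (LK LD1_c24 LD2_c58 LD3_c20))))))
theorem f393128 : Led Lsl_cf (LP (LK LD1_c25 LD2_c11 LD3_c48)) = (LP (LK LD1_c25 LD2_c10 LD3_c23)) :=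
  Lgr Lrot11 (Lpr_ct (f393124 IH) (Lpn (LP (LK LD1_c25 LD2_c10 LD3_c23))))
theorem f393443 : Led Lsl_cf (LP (LK LD1_c16 LD2_c36 LD3_c51)) = (LP (LK LD1_c15 LD2_c21 LD3_c16)) :=
  Lgr Lrot108 (Lpr_ft (f393438 IH) (Lpe (f393128 IH) (Lpr_ft (f393067 IH) (Lpn (LP (LK LD1_c15 LD2_c21 LD3_c16))))))
theorem f393174 : Led Lsl_bf (LP (LK LD1_c19 LD2_c17 LD3_c20)) = (LP (LK LD1_c15 LD2_c21 LD3_c16)) :=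
  Lgr Lrot61 (Lpr_ft (f393170 IH) (Lpe (f393108 IH) (Lpr_ft (f393067 IH) (Lpn (LP (LK LD1_c15 LD2_c21 LD3_c16))))))
theorem f200834 : Led Lsl_at (LP (LK LD1_c15 LD2_c20 LD3_c61)) = (LP (LK LD1_c8 LD2_c9 LD3_c7)) :=
  Lre_a IH (LK LD1_c15 LD2_c20 LD3_c61) (LK LD1_c8 LD2_c9 LD3_c7) Lrfl Lrfl
theorem f200827 : Led Lsl_gt (LP (LK LD1_c15 LD2_c20 LD3_c60)) = (LP (LK LD1_c8 LD2_c9 LD3_c7)) :=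
  Lre_g IH (LK LD1_c15 LD2_c20 LD3_c60) (LK LD1_c8 LD2_c9 LD3_c7) Lrfl Lrfl
theorem f393178 : Led Lsl_gt (LP (LK LD1_c19 LD2_c17 LD3_c20)) = (LP (LK LD1_c15 LD2_c20 LD3_c60)) :=
  Lgr Lrot5 (Lpr_ft (f393170 IH) (Lpr_at (f200834 IH) (Lpe (f200827 IH) (Lpn (LP (LK LD1_c15 LD2_c20 LD3_c60))))))
theorem f168020 : Led Lsl_gt (LP (LK LD1_c10 LD2_c31 LD3_c56)) = (LP (LK LD1_c5 LD2_c20 LD3_c55)) :=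
  Lre_g IH (LK LD1_c10 LD2_c31 LD3_c56) (LK LD1_c5 LD2_c20 LD3_c55) Lrfl Lrfl
theorem f168048 : Led Lsl_bt (LP (LK LD1_c19 LD2_c4 LD3_c50)) = (LP (LK LD1_c10 LD2_c31 LD3_c56)) :=
  Lre_b IH (LK LD1_c19 LD2_c4 LD3_c50) (LK LD1_c10 LD2_c31 LD3_c56) Lrfl Lrfl
theorem f393180 : Led Lsl_ct (LP (LK LD1_c19 LD2_c4 LD3_c50)) = (LP (LK LD1_c15 LD2_c20 LD3_c60)) :=
  Lgr Lrot63 (Lpr_bt (f168048 IH) (Lpr_gt (f168020 IH) (Lpe (K27.f167947 IH) (Lpe (K12.f167950 IH) (Lpr_gt (K12.f218871 IH) (Lpe (K10.f196594 IH) (Lpr_bt (K12.f200877 IH) (Lpr_gt (K12.f196910 IH) (Lpr_ct (f196912 IH) (Lpr_gt (f393178 IH) (Lpn (LP (LK LD1_c15 LD2_c20 LD3_c60)))))))))))))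
theorem f393183 : Led Lsl_cf (LP (LK LD1_c19 LD2_c4 LD3_c50)) = (LP (LK LD1_c15 LD2_c20 LD3_c60)) :=
  Lgr Lrot11 (Lpr_ct (f393180 IH) (Lpn (LP (LK LD1_c15 LD2_c20 LD3_c60))))
theorem f223506 : Led Lsl_ct (LP (LK LD1_c15 LD2_c9 LD3_c22)) = (LP (LK LD1_c24 LD2_c58 LD3_c20)) :=
  Lre_c IH (LK LD1_c15 LD2_c9 LD3_c22) (LK LD1_c24 LD2_c58 LD3_c20) Lrfl Lrfl
theorem f223516 : Led Lsl_bt (LP (LK LD1_c15 LD2_c9 LD3_c22)) = (LP (LK LD1_c24 LD2_c58 LD3_c19)) :=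
  Lre_b IH (LK LD1_c15 LD2_c9 LD3_c22) (LK LD1_c24 LD2_c58 LD3_c19) Lrfl Lrfl
theorem f393368 : Led Lsl_gt (LP (LK LD1_c24 LD2_c58 LD3_c19)) = (LP (LK LD1_c17 LD2_c53 LD3_c32)) :=
  Lgr Lrot164 (Lpe (f223516 IH) (Lpr_ct (f223506 IH) (Lpe (f393366 IH) (Lpe (f393110 IH) (Lpr_gf (f393361 IH) (Lpe (f238345 IH) (Lpr_ct (K30.f332481 IH) (Lpe (K30.f168812 IH) (Lpe (f168811 IH) (Lpr_bt (K22.f332435 IH) (Lpn (LP (LK LD1_c17 LD2_c53 LD3_c32)))))))))))))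
theorem f331919 : Led Lsl_ft (LP (LK LD1_c15 LD2_c50 LD3_c2)) = (LP (LK LD1_c15 LD2_c54 LD3_c44)) :=
  Lgr Lrot75 (Lpe (K22.f200767 IH) (Lpr_ff (K22.f331917 IH) (Lpe (K18.f52753 IH) (Lpn (LP (LK LD1_c15 LD2_c54 LD3_c44))))))
theorem f393370 : Led Lsl_gf (LP (LK LD1_c24 LD2_c58 LD3_c19)) = (LP (LK LD1_c15 LD2_c50 LD3_c2)) :=
  Lgr Lrot47 (Lpr_gt (f393368 IH) (Lpr_af (K22.f332165 IH) (Lpe (f331919 IH) (Lpn (LP (LK LD1_c15 LD2_c50 LD3_c2))))))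
theorem f197736 : Led Lsl_ct (LP (LK LD1_c14 LD2_c58 LD3_c60)) = (LP (LK LD1_c7 LD2_c56 LD3_c30)) :=
  Lre_c IH (LK LD1_c14 LD2_c58 LD3_c60) (LK LD1_c7 LD2_c56 LD3_c30) Lrfl Lrfl
theorem f331880 : Led Lsl_ct (LP (LK LD1_c8 LD2_c25 LD3_c48)) = (LP (LK LD1_c10 LD2_c41 LD3_c15)) :=
  Lgr Lrot191 (Lpe (K22.f297472 IH) (Lpe (K22.f223702 IH) (Lpe (K14.f223683 IH) (Lpe (K12.f200703 IH) (Lpr_df (K12.f223689 IH) (Lpe (K11.f211270 IH) (Lpe (K11.f178879 IH) (Lpe (K11.f177864 IH) (Lpe (K9.f9462 IH) (Lpe (K0.f9459 IH) (Lpe (K12.f39233 IH) (Lpe (K1.f39247 IH) (Lpe (K1.f39199 IH) (Lpr_gf (K12.f229408 IH) (Lpe (K18.f197735 IH) (Lpe (f197736 IH) (Lpr_df (K22.f246621 IH) (Lpe (K22.f223759 IH) (Lpr_bf (K22.f331876 IH) (Lpn (LP (LK LD1_c10 LD2_c41 LD3_c15))))))))))))))))))))))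
theorem f393547 : Led Lsl_gt (LP (LK LD1_c19 LD2_c4 LD3_c50)) = (LP (LK LD1_c10 LD2_c41 LD3_c15)) :=
  Lgr Lrot149 (Lpr_cf (f393183 IH) (Lpe (f393178 IH) (Lpr_bf (f393174 IH) (Lpe (f393443 IH) (Lpr_gf (f393543 IH) (Lpe (f223506 IH) (Lpr_bt (f223516 IH) (Lpr_gf (f393370 IH) (Lpe (K22.f200767 IH) (Lpr_ct (f331880 IH) (Lpn (LP (LK LD1_c10 LD2_c41 LD3_c15)))))))))))))
theorem f218292 : Led Lsl_ft (LP (LK LD1_c10 LD2_c41 LD3_c18)) = (LP (LK LD1_c5 LD2_c25 LD3_c13)) :=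
  Lre_f IH (LK LD1_c10 LD2_c41 LD3_c18) (LK LD1_c5 LD2_c25 LD3_c13) Lrfl Lrfl
theorem f393550 : Led Lsl_gf (LP (LK LD1_c19 LD2_c4 LD3_c50)) = (LP (LK LD1_c10 LD2_c41 LD3_c18)) :=
  Lgr Lrot47 (Lpr_gt (f393547 IH) (Lpe (K22.f218359 IH) (Lpe (f218292 IH) (Lpn (LP (LK LD1_c10 LD2_c41 LD3_c18))))))
theorem f200835 : Led Lsl_bt (LP (LK LD1_c10 LD2_c38 LD3_c59)) = (LP (LK LD1_c19 LD2_c17 LD3_c22)) :=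
  Lre_b IH (LK LD1_c10 LD2_c38 LD3_c59) (LK LD1_c19 LD2_c17 LD3_c22) Lrfl Lrfl
theorem f332463 : Led Lsl_bt (LP (LK LD1_c5 LD2_c25 LD3_c17)) = (LP (LK LD1_c10 LD2_c41 LD3_c18)) :=
  Lre_b IH (LK LD1_c5 LD2_c25 LD3_c17) (LK LD1_c10 LD2_c41 LD3_c18) Lrfl Lrfl
theorem f332321 : Led Lsl_ct (LP (LK LD1_c5 LD2_c25 LD3_c17)) = (LP (LK LD1_c10 LD2_c41 LD3_c23)) :=
  Lre_c IH (LK LD1_c5 LD2_c25 LD3_c17) (LK LD1_c10 LD2_c41 LD3_c23) Lrfl Lrfl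
theorem f332397 : Led Lsl_at (LP (LK LD1_c10 LD2_c41 LD3_c36)) = (LP (LK LD1_c19 LD2_c21 LD3_c0)) :=
  Lre_a IH (LK LD1_c10 LD2_c41 LD3_c36) (LK LD1_c19 LD2_c21 LD3_c0) Lrfl Lrfl
theorem f226275 : Led Lsl_dt (LP (LK LD1_c10 LD2_c41 LD3_c36)) = (LP (LK LD1_c5 LD2_c25 LD3_c19)) :=
  Lre_d IH (LK LD1_c10 LD2_c41 LD3_c36) (LK LD1_c5 LD2_c25 LD3_c19) Lrfl Lrfl
theorem f332346 : Led Lsl_dt (LP (LK LD1_c4 LD2_c56 LD3_c12)) = (LP (LK LD1_c9 LD2_c44 LD3_c3)) :=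
  Lre_d IH (LK LD1_c4 LD2_c56 LD3_c12) (LK LD1_c9 LD2_c44 LD3_c3) Lrfl Lrfl
theorem f332353 : Led Lsl_ff (LP (LK LD1_c10 LD2_c41 LD3_c36)) = (LP (LK LD1_c9 LD2_c44 LD3_c3)) :=
  Lgr Lrot19 (Lpr_dt (f226275 IH) (Lpr_ft (K22.f332281 IH) (Lpr_dt (f332346 IH) (Lpn (LP (LK LD1_c9 LD2_c44 LD3_c3))))))
theorem f387685 : Led Lsl_gt (LP (LK LD1_c9 LD2_c44 LD3_c3)) = (LP (LK LD1_c10 LD2_c57 LD3_c9)) :=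
  Lgr Lrot5 (Lpe (f332353 IH) (Lpr_at (f332397 IH) (Lpr_gf (f387683 IH) (Lpn (LP (LK LD1_c10 LD2_c57 LD3_c9))))))
theorem f226151 : Led Lsl_gt (LP (LK LD1_c11 LD2_c0 LD3_c13)) = (LP (LK LD1_c5 LD2_c34 LD3_c16)) :=
  Lre_g IH (LK LD1_c11 LD2_c0 LD3_c13) (LK LD1_c5 LD2_c34 LD3_c16) Lrfl Lrfl
theorem f387693 : Led Lsl_gt (LP (LK LD1_c4 LD2_c56 LD3_c12)) = (LP (LK LD1_c5 LD2_c32 LD3_c36)) :=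
  Lgr Lrot9 (Lpe (K22.f332278 IH) (Lpr_gt (f387685 IH) (Lpe (K20.f226176 IH) (Lpr_gt (f226151 IH) (Lpr_ct (K30.f226150 IH) (Lpe (K14.f226135 IH) (Lpe (K12.f218304 IH) (Lpe (f226195 IH) (Lpe (f175180 IH) (Lpn (LP (LK LD1_c5 LD2_c32 LD3_c36))))))))))))
theorem f332359 : Led Lsl_at (LP (LK LD1_c5 LD2_c25 LD3_c19)) = (LP (LK LD1_c10 LD2_c41 LD3_c23)) :=
  Lre_a IH (LK LD1_c5 LD2_c25 LD3_c19) (LK LD1_c10 LD2_c41 LD3_c23) Lrfl Lrfl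
theorem f387695 : Led Lsl_gf (LP (LK LD1_c10 LD2_c41 LD3_c23)) = (LP (LK LD1_c5 LD2_c32 LD3_c36)) :=
  Lgr Lrot76 (Lpe (f332359 IH) (Lpr_ff (K22.f332357 IH) (Lpr_gt (f387693 IH) (Lpn (LP (LK LD1_c5 LD2_c32 LD3_c36))))))
theorem f175183 : Led Lsl_bt (LP (LK LD1_c5 LD2_c33 LD3_c56)) = (LP (LK LD1_c10 LD2_c59 LD3_c54)) :=
  Lre_b IH (LK LD1_c5 LD2_c33 LD3_c56) (LK LD1_c10 LD2_c59 LD3_c54) Lrfl Lrfl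
theorem f393561 : Led Lsl_gt (LP (LK LD1_c19 LD2_c17 LD3_c22)) = (LP (LK LD1_c10 LD2_c59 LD3_c54)) :=
  Lgr Lrot164 (Lpe (f200835 IH) (Lpr_ct (K18.f200839 IH) (Lpe (f200827 IH) (Lpe (f393180 IH) (Lpr_gf (f393550 IH) (Lpe (f332463 IH) (Lpr_ct (f332321 IH) (Lpr_gf (f387695 IH) (Lpe (K30.f174382 IH) (Lpr_bt (f175183 IH) (Lpn (LP (LK LD1_c10 LD2_c59 LD3_c54)))))))))))))
theorem f196919 : Led Lsl_bt (LP (LK LD1_c19 LD2_c17 LD3_c22)) = (LP (LK LD1_c10 LD2_c38 LD3_c59)) :=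
  Lre_b IH (LK LD1_c19 LD2_c17 LD3_c22) (LK LD1_c10 LD2_c38 LD3_c59) Lrfl Lrfl
theorem f200870 : Led Lsl_cf (LP (LK LD1_c19 LD2_c17 LD3_c22)) = (LP (LK LD1_c15 LD2_c21 LD3_c5)) :=
  Lgr Lrot97 (Lpr_bt (f196919 IH) (Lpr_ct (K18.f200839 IH) (Lpr_bt (K18.f52965 IH) (Lpr_ct (K30.f52469 IH) (Lpr_bt (K27.f200869 IH) (Lpn (LP (LK LD1_c15 LD2_c21 LD3_c5))))))))
theorem f196472 : Led Lsl_bt (LP (LK LD1_c15 LD2_c21 LD3_c5)) = (LP (LK LD1_c8 LD2_c9 LD3_c8)) :=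
  Lre_b IH (LK LD1_c15 LD2_c21 LD3_c5) (LK LD1_c8 LD2_c9 LD3_c8) Lrfl Lrfl
theorem f200837 : Led Lsl_ct (LP (LK LD1_c19 LD2_c17 LD3_c22)) = (LP (LK LD1_c15 LD2_c21 LD3_c5)) :=
  Lgr Lrot83 (Lpe (f200835 IH) (Lpr_cf (K18.f200824 IH) (Lpe (f200836 IH) (Lpe (K27.f52467 IH) (Lpe (f196472 IH) (Lpn (LP (LK LD1_c15 LD2_c21 LD3_c5))))))))
theorem f220769 : Led Lsl_bt (LP (LK LD1_c2 LD2_c37 LD3_c6)) = (LP (LK LD1_c5 LD2_c20 LD3_c58)) :=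
  Lre_b IH (LK LD1_c2 LD2_c37 LD3_c6) (LK LD1_c5 LD2_c20 LD3_c58) Lrfl Lrfl
theorem f220771 : Led Lsl_ct (LP (LK LD1_c10 LD2_c31 LD3_c61)) = (LP (LK LD1_c19 LD2_c4 LD3_c59)) :=
  Lre_c IH (LK LD1_c10 LD2_c31 LD3_c61) (LK LD1_c19 LD2_c4 LD3_c59) Lrfl Lrfl
theorem f220772 : Led Lsl_gf (LP (LK LD1_c15 LD2_c21 LD3_c5)) = (LP (LK LD1_c19 LD2_c4 LD3_c59)) :=
  Lgr Lrot129 (Lpe (f200837 IH) (Lpr_bt (f196919 IH) (Lpr_gt (K18.f196915 IH) (Lpe (K12.f200877 IH) (Lpr_ct (K10.f196594 IH) (Lpr_gt (K12.f220753 IH) (Lpe (K12.f218808 IH) (Lpr_bt (f220769 IH) (Lpr_gt (f220770 IH) (Lpr_ct (f220771 IH) (Lpn (LP (LK LD1_c19 LD2_c4 LD3_c59)))))))))))))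
theorem f220794 : Led Lsl_dt (LP (LK LD1_c19 LD2_c4 LD3_c59)) = (LP (LK LD1_c28 LD2_c30 LD3_c57)) :=
  Lre_d IH (LK LD1_c19 LD2_c4 LD3_c59) (LK LD1_c28 LD2_c30 LD3_c57) Lrfl Lrfl
theorem f374525 : Led Lsl_ff (LP (LK LD1_c19 LD2_c19 LD3_c34)) = (LP (LK LD1_c28 LD2_c30 LD3_c57)) :=
  Lgr Lrot23 (Lpe (K27.f373827 IH) (Lpr_ft (K30.f373844 IH) (Lpr_ct (f374517 IH) (Lpn (LP (LK LD1_c28 LD2_c30 LD3_c57))))))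
theorem f246627 : Led Lsl_dt (LP (LK LD1_c10 LD2_c40 LD3_c20)) = (LP (LK LD1_c19 LD2_c19 LD3_c34)) :=
  Lre_d IH (LK LD1_c10 LD2_c40 LD3_c20) (LK LD1_c19 LD2_c19 LD3_c34) Lrfl Lrfl
theorem f373746 : Led Lsl_af (LP (LK LD1_c15 LD2_c58 LD3_c42)) = (LP (LK LD1_c19 LD2_c19 LD3_c34)) :=
  Lgr Lrot117 (Lpr_dt (K27.f373744 IH) (Lpe (K27.f373726 IH) (Lpr_dt (f246627 IH) (Lpn (LP (LK LD1_c19 LD2_c19 LD3_c34))))))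
theorem f243228 : Led Lsl_gt (LP (LK LD1_c25 LD2_c55 LD3_c56)) = (LP (LK LD1_c15 LD2_c58 LD3_c42)) :=
  Lre_g IH (LK LD1_c25 LD2_c55 LD3_c56) (LK LD1_c15 LD2_c58 LD3_c42) Lrfl Lrfl
theorem f374602 : Led Lsl_gf (LP (LK LD1_c25 LD2_c55 LD3_c56)) = (LP (LK LD1_c28 LD2_c30 LD3_c57)) :=
  Lgr Lrot47 (Lpr_gt (f243228 IH) (Lpr_af (f373746 IH) (Lpr_ff (f374525 IH) (Lpn (LP (LK LD1_c28 LD2_c30 LD3_c57))))))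
theorem f398392 : Led Lsl_ct (LP (LK LD1_c25 LD2_c55 LD3_c56)) = (LP (LK LD1_c26 LD2_c13 LD3_c58)) :=
  Lgr Lrot152 (Lpr_gf (f374602 IH) (Lpe (f220794 IH) (Lpe (f220772 IH) (Lpe (f200870 IH) (Lpr_gt (f393561 IH) (Lpr_ct (K30.f254802 IH) (Lpe (K30.f254809 IH) (Lpr_cf (K30.f254800 IH) (Lpr_gf (K30.f398390 IH) (Lpn (LP (LK LD1_c26 LD2_c13 LD3_c58))))))))))))
theorem f373856 : Led Lsl_ft (LP (LK LD1_c8 LD2_c30 LD3_c29)) = (LP (LK LD1_c15 LD2_c56 LD3_c61)) :=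
  Lgr Lrot48 (Lpr_ff (K30.f373851 IH) (Lpn (LP (LK LD1_c15 LD2_c56 LD3_c61))))
theorem f243526 : Led Lsl_gt (LP (LK LD1_c8 LD2_c30 LD3_c29)) = (LP (LK LD1_c15 LD2_c58 LD3_c40)) :=
  Lre_g IH (LK LD1_c8 LD2_c30 LD3_c29) (LK LD1_c15 LD2_c58 LD3_c40) Lrfl Lrfl
theorem f373861 : Led Lsl_at (LP (LK LD1_c15 LD2_c56 LD3_c61)) = (LP (LK LD1_c25 LD2_c53 LD3_c28)) :=
  Lre_a IH (LK LD1_c15 LD2_c56 LD3_c61) (LK LD1_c25 LD2_c53 LD3_c28) Lrfl Lrfl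
theorem f373863 : Led Lsl_gt (LP (LK LD1_c15 LD2_c58 LD3_c40)) = (LP (LK LD1_c25 LD2_c53 LD3_c28)) :=
  Lgr Lrot46 (Lpe (f243526 IH) (Lpr_ft (f373856 IH) (Lpr_at (f373861 IH) (Lpn (LP (LK LD1_c25 LD2_c53 LD3_c28))))))
theorem f374024 : Led Lsl_dt (LP (LK LD1_c26 LD2_c13 LD3_c58)) = (LP (LK LD1_c16 LD2_c16 LD3_c8)) :=
  Lre_d IH (LK LD1_c26 LD2_c13 LD3_c58) (LK LD1_c16 LD2_c16 LD3_c8) Lrfl Lrfl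
theorem f374020 : Led Lsl_ct (LP (LK LD1_c8 LD2_c41 LD3_c9)) = (LP (LK LD1_c16 LD2_c16 LD3_c8)) :=
  Lre_c IH (LK LD1_c8 LD2_c41 LD3_c9) (LK LD1_c16 LD2_c16 LD3_c8) Lrfl Lrfl
theorem f229766 : Led Lsl_at (LP (LK LD1_c8 LD2_c29 LD3_c53)) = (LP (LK LD1_c15 LD2_c57 LD3_c20)) :=
  Lre_a IH (LK LD1_c8 LD2_c29 LD3_c53) (LK LD1_c15 LD2_c57 LD3_c20) Lrfl Lrfl
theorem f229767 : Led Lsl_at (LP (LK LD1_c9 LD2_c38 LD3_c10)) = (LP (LK LD1_c4 LD2_c53 LD3_c6)) :=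
  Lre_a IH (LK LD1_c9 LD2_c38 LD3_c10) (LK LD1_c4 LD2_c53 LD3_c6) Lrfl Lrfl
theorem f229768 : Led Lsl_ct (LP (LK LD1_c15 LD2_c57 LD3_c20)) = (LP (LK LD1_c9 LD2_c38 LD3_c10)) :=
  Lgr Lrot111 (Lpe (f229766 IH) (Lpr_cf (K16.f229764 IH) (Lpe (f229767 IH) (Lpn (LP (LK LD1_c9 LD2_c38 LD3_c10))))))
theorem f365422 : Led Lsl_ft (LP (LK LD1_c8 LD2_c29 LD3_c61)) = (LP (LK LD1_c4 LD2_c16 LD3_c21)) :=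
  Lgr Lrot75 (Lpe (K27.f365401 IH) (Lpr_ff (K26.f365420 IH) (Lpe (K27.f53402 IH) (Lpn (LP (LK LD1_c4 LD2_c16 LD3_c21))))))
theorem f365462 : Led Lsl_gt (LP (LK LD1_c8 LD2_c29 LD3_c61)) = (LP (LK LD1_c15 LD2_c57 LD3_c34)) :=
  Lre_g IH (LK LD1_c8 LD2_c29 LD3_c61) (LK LD1_c15 LD2_c57 LD3_c34) Lrfl Lrfl
theorem f377787 : Led Lsl_gt (LP (LK LD1_c15 LD2_c57 LD3_c34)) = (LP (LK LD1_c8 LD2_c31 LD3_c53)) :=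
  Lgr Lrot46 (Lpe (f365462 IH) (Lpr_ft (f365422 IH) (Lpr_at (K27.f365373 IH) (Lpn (LP (LK LD1_c8 LD2_c31 LD3_c53))))))
theorem f374014 : Led Lsl_bt (LP (LK LD1_c16 LD2_c16 LD3_c8)) = (LP (LK LD1_c15 LD2_c57 LD3_c34)) :=
  Lgr Lrot92 (Lpr_ct (K30.f260556 IH) (Lpr_gt (K30.f260555 IH) (Lpr_cf (K30.f237766 IH) (Lpr_bt (K30.f260543 IH) (Lpr_gt (K19.f237786 IH) (Lpr_ct (K30.f374000 IH) (Lpr_gt (K23.f312073 IH) (Lpe (K27.f365452 IH) (Lpr_bt (K27.f365401 IH) (Lpr_gt (f365462 IH) (Lpn (LP (LK LD1_c15 LD2_c57 LD3_c34)))))))))))))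
theorem f397448 : Led Lsl_gt (LP (LK LD1_c9 LD2_c38 LD3_c10)) = (LP (LK LD1_c8 LD2_c41 LD3_c9)) :=
  Lgr Lrot149 (Lpe (f229768 IH) (Lpr_gf (K30.f397441 IH) (Lpe (K30.f372987 IH) (Lpr_ct (K30.f372986 IH) (Lpr_gf (K30.f372983 IH) (Lpe (K27.f171100 IH) (Lpe (K27.f373068 IH) (Lpe (f377787 IH) (Lpe (f374014 IH) (Lpr_ct (K30.f260556 IH) (Lpn (LP (LK LD1_c8 LD2_c41 LD3_c9)))))))))))))
theorem f398398 : Led Lsl_df (LP (LK LD1_c15 LD2_c58 LD3_c40)) = (LP (LK LD1_c8 LD2_c31 LD3_c12)) :=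
  Lgr Lrot155 (Lpr_gt (f373863 IH) (Lpr_ct (f374517 IH) (Lpe (f374602 IH) (Lpr_ct (f398392 IH) (Lpr_dt (f374024 IH) (Lpe (f374020 IH) (Lpe (f397448 IH) (Lpe (f229768 IH) (Lpr_gf (K30.f397441 IH) (Lpn (LP (LK LD1_c8 LD2_c31 LD3_c12))))))))))))
theorem f197697 : Led Lsl_cf (LP (LK LD1_c14 LD2_c57 LD3_c19)) = (LP (LK LD1_c15 LD2_c56 LD3_c60)) :=
  Lgr Lrot11 (Lpr_ct (K15.f197686 IH) (Lpn (LP (LK LD1_c15 LD2_c56 LD3_c60))))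
theorem f225672 : Led Lsl_gt (LP (LK LD1_c8 LD2_c40 LD3_c41)) = (LP (LK LD1_c16 LD2_c15 LD3_c8)) :=
  Lre_g IH (LK LD1_c8 LD2_c40 LD3_c41) (LK LD1_c16 LD2_c15 LD3_c8) Lrfl Lrfl
theorem f373763 : Led Lsl_gt (LP (LK LD1_c16 LD2_c15 LD3_c8)) = (LP (LK LD1_c17 LD2_c44 LD3_c38)) :=
  Lgr Lrot46 (Lpe (f225672 IH) (Lpr_ft (K27.f373750 IH) (Lpr_at (K27.f224970 IH) (Lpn (LP (LK LD1_c17 LD2_c44 LD3_c38))))))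
theorem f227218 : Led Lsl_gt (LP (LK LD1_c4 LD2_c21 LD3_c47)) = (LP (LK LD1_c8 LD2_c41 LD3_c8)) :=
  Lre_g IH (LK LD1_c4 LD2_c21 LD3_c47) (LK LD1_c8 LD2_c41 LD3_c8) Lrfl Lrfl
theorem f398409 : Led Lsl_df (LP (LK LD1_c16 LD2_c15 LD3_c8)) = (LP (LK LD1_c8 LD2_c41 LD3_c8)) :=
  Lgr Lrot153 (Lpr_gt (f373763 IH) (Lpe (K27.f224971 IH) (Lpr_cf (f197697 IH) (Lpe (K30.f197703 IH) (Lpe (f373863 IH) (Lpr_df (f398398 IH) (Lpe (K30.f220559 IH) (Lpr_cf (K30.f260538 IH) (Lpr_gt (f227218 IH) (Lpn (LP (LK LD1_c8 LD2_c41 LD3_c8))))))))))))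
theorem f373765 : Led Lsl_ct (LP (LK LD1_c16 LD2_c15 LD3_c8)) = (LP (LK LD1_c26 LD2_c12 LD3_c42)) :=
  Lre_c IH (LK LD1_c16 LD2_c15 LD3_c8) (LK LD1_c26 LD2_c12 LD3_c42) Lrfl Lrfl
theorem f227217 : Led Lsl_bt (LP (LK LD1_c2 LD2_c8 LD3_c24)) = (LP (LK LD1_c4 LD2_c21 LD3_c47)) :=
  Lre_b IH (LK LD1_c2 LD2_c8 LD3_c24) (LK LD1_c4 LD2_c21 LD3_c47) Lrfl Lrfl
theorem f391138 : Led Lsl_df (LP (LK LD1_c20 LD2_c3 LD3_c6)) = (LP (LK LD1_c25 LD2_c12 LD3_c60)) :=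
  Lgr Lrot38 (Lpr_dt (f391134 IH) (Lpn (LP (LK LD1_c25 LD2_c12 LD3_c60))))
theorem f391144 : Led Lsl_at (LP (LK LD1_c20 LD2_c3 LD3_c6)) = (LP (LK LD1_c25 LD2_c8 LD3_c34)) :=
  Lgr Lrot51 (Lpr_df (f391138 IH) (Lpe (f53044 IH) (Lpe (K22.f200951 IH) (Lpn (LP (LK LD1_c25 LD2_c8 LD3_c34))))))
theorem f390048 : Led Lsl_ff (LP (LK LD1_c19 LD2_c37 LD3_c12)) = (LP (LK LD1_c25 LD2_c8 LD3_c32)) :=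
  Lgr Lrot3 (Lpr_ft (f390043 IH) (Lpn (LP (LK LD1_c25 LD2_c8 LD3_c32))))
theorem f390050 : Led Lsl_at (LP (LK LD1_c19 LD2_c37 LD3_c12)) = (LP (LK LD1_c25 LD2_c8 LD3_c35)) :=
  Lgr Lrot66 (Lpr_ff (f390048 IH) (Lpr_af (f389704 IH) (Lpe (f389864 IH) (Lpn (LP (LK LD1_c25 LD2_c8 LD3_c35))))))
theorem f390052 : Led Lsl_af (LP (LK LD1_c11 LD2_c9 LD3_c2)) = (LP (LK LD1_c15 LD2_c17 LD3_c54)) :=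
  Lgr Lrot68 (Lpe (f390036 IH) (Lpr_at (f390050 IH) (Lpr_ct (f200968 IH) (Lpn (LP (LK LD1_c15 LD2_c17 LD3_c54))))))
theorem f391146 : Led Lsl_af (LP (LK LD1_c19 LD2_c11 LD3_c57)) = (LP (LK LD1_c20 LD2_c2 LD3_c56)) :=
  Lgr Lrot36 (Lpe (f388129 IH) (Lpr_at (f391144 IH) (Lpr_bt (K22.f200964 IH) (Lpe (f390052 IH) (Lpr_bt (f256991 IH) (Lpn (LP (LK LD1_c20 LD2_c2 LD3_c56))))))))
theorem f388143 : Led Lsl_et (LP (LK LD1_c19 LD2_c11 LD3_c57)) = (LP (LK LD1_c28 LD2_c37 LD3_c57)) :=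
  Lre_e IH (LK LD1_c19 LD2_c11 LD3_c57) (LK LD1_c28 LD2_c37 LD3_c57) Lrfl Lrfl
theorem f256995 : Led Lsl_et (LP (LK LD1_c29 LD2_c16 LD3_c25)) = (LP (LK LD1_c20 LD2_c2 LD3_c56)) :=
  Lre_e IH (LK LD1_c29 LD2_c16 LD3_c25) (LK LD1_c20 LD2_c2 LD3_c56) Lrfl Lrfl
theorem f391150 : Led Lsl_at (LP (LK LD1_c28 LD2_c37 LD3_c57)) = (LP (LK LD1_c29 LD2_c16 LD3_c25)) :=
  Lgr Lrot80 (Lpe (f388143 IH) (Lpr_af (f391146 IH) (Lpe (f256995 IH) (Lpn (LP (LK LD1_c29 LD2_c16 LD3_c25))))))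
theorem f388141 : Led Lsl_ct (LP (LK LD1_c19 LD2_c11 LD3_c59)) = (LP (LK LD1_c28 LD2_c37 LD3_c57)) :=
  Lre_c IH (LK LD1_c19 LD2_c11 LD3_c59) (LK LD1_c28 LD2_c37 LD3_c57) Lrfl Lrfl
theorem f256931 : Led Lsl_ct (LP (LK LD1_c8 LD2_c9 LD3_c41)) = (LP (LK LD1_c10 LD2_c30 LD3_c59)) :=
  Lgr Lrot83 (Lpe (K18.f226887 IH) (Lpe (K15.f200700 IH) (Lpe (K15.f226903 IH) (Lpr_cf (K15.f256921 IH) (Lpe (K30.f187038 IH) (Lpn (LP (LK LD1_c10 LD2_c30 LD3_c59))))))))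
theorem f256926 : Led Lsl_gt (LP (LK LD1_c19 LD2_c3 LD3_c34)) = (LP (LK LD1_c10 LD2_c30 LD3_c59)) :=
  Lre_g IH (LK LD1_c19 LD2_c3 LD3_c34) (LK LD1_c10 LD2_c30 LD3_c59) Lrfl Lrfl
theorem f256989 : Led Lsl_ct (LP (LK LD1_c20 LD2_c2 LD3_c56)) = (LP (LK LD1_c19 LD2_c3 LD3_c34)) :=
  Lgr Lrot64 (Lpr_bt (f228158 IH) (Lpe (K18.f228094 IH) (Lpe (K12.f228038 IH) (Lpr_ct (K12.f228150 IH) (Lpe (K12.f227976 IH) (Lpe (K13.f170701 IH) (Lpr_gf (K15.f244042 IH) (Lpe (f244044 IH) (Lpr_ct (f256931 IH) (Lpe (f256926 IH) (Lpn (LP (LK LD1_c19 LD2_c3 LD3_c34)))))))))))))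
theorem f256996 : Led Lsl_et (LP (LK LD1_c19 LD2_c3 LD3_c34)) = (LP (LK LD1_c28 LD2_c29 LD3_c48)) :=
  Lre_e IH (LK LD1_c19 LD2_c3 LD3_c34) (LK LD1_c28 LD2_c29 LD3_c48) Lrfl Lrfl
theorem f256997 : Led Lsl_cf (LP (LK LD1_c29 LD2_c16 LD3_c25)) = (LP (LK LD1_c28 LD2_c29 LD3_c48)) :=
  Lgr Lrot39 (Lpr_et (f256995 IH) (Lpr_ct (f256989 IH) (Lpr_et (f256996 IH) (Lpn (LP (LK LD1_c28 LD2_c29 LD3_c48))))))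
theorem f257000 : Led Lsl_ct (LP (LK LD1_c29 LD2_c16 LD3_c25)) = (LP (LK LD1_c28 LD2_c29 LD3_c48)) :=
  Lgr Lrot59 (Lpr_cf (f256997 IH) (Lpn (LP (LK LD1_c28 LD2_c29 LD3_c48))))
theorem f391154 : Led Lsl_af (LP (LK LD1_c19 LD2_c11 LD3_c59)) = (LP (LK LD1_c28 LD2_c29 LD3_c48)) :=
  Lgr Lrot68 (Lpr_ct (f388141 IH) (Lpr_at (f391150 IH) (Lpr_ct (f257000 IH) (Lpn (LP (LK LD1_c28 LD2_c29 LD3_c48))))))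
theorem f391156 : Led Lsl_at (LP (LK LD1_c19 LD2_c11 LD3_c59)) = (LP (LK LD1_c28 LD2_c29 LD3_c48)) :=
  Lgr Lrot100 (Lpr_af (f391154 IH) (Lpn (LP (LK LD1_c28 LD2_c29 LD3_c48))))
theorem f388840 : Led Lsl_et (LP (LK LD1_c10 LD2_c36 LD3_c5)) = (LP (LK LD1_c19 LD2_c11 LD3_c59)) :=
  Lre_e IH (LK LD1_c10 LD2_c36 LD3_c5) (LK LD1_c19 LD2_c11 LD3_c59) Lrfl Lrfl
theorem f257004 : Led Lsl_et (LP (LK LD1_c28 LD2_c29 LD3_c48)) = (LP (LK LD1_c19 LD2_c3 LD3_c34)) :=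
  Lre_e IH (LK LD1_c28 LD2_c29 LD3_c48) (LK LD1_c19 LD2_c3 LD3_c34) Lrfl Lrfl
theorem f391158 : Led Lsl_af (LP (LK LD1_c10 LD2_c36 LD3_c5)) = (LP (LK LD1_c19 LD2_c3 LD3_c34)) :=
  Lgr Lrot50 (Lpr_et (f388840 IH) (Lpr_at (f391156 IH) (Lpr_et (f257004 IH) (Lpn (LP (LK LD1_c19 LD2_c3 LD3_c34))))))
theorem f388160 : Led Lsl_dt (LP (LK LD1_c15 LD2_c52 LD3_c8)) = (LP (LK LD1_c8 LD2_c27 LD3_c5)) :=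
  Lre_d IH (LK LD1_c15 LD2_c52 LD3_c8) (LK LD1_c8 LD2_c27 LD3_c5) Lrfl Lrfl
theorem f388175 : Led Lsl_ct (LP (LK LD1_c25 LD2_c47 LD3_c54)) = (LP (LK LD1_c15 LD2_c52 LD3_c8)) :=
  Lre_c IH (LK LD1_c25 LD2_c47 LD3_c54) (LK LD1_c15 LD2_c52 LD3_c8) Lrfl Lrfl
theorem f228412 : Led Lsl_gt (LP (LK LD1_c10 LD2_c36 LD3_c6)) = (LP (LK LD1_c5 LD2_c22 LD3_c54)) :=
  Lre_g IH (LK LD1_c10 LD2_c36 LD3_c6) (LK LD1_c5 LD2_c22 LD3_c54) Lrfl Lrfl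
theorem f391164 : Led Lsl_ft (LP (LK LD1_c10 LD2_c36 LD3_c6)) = (LP (LK LD1_c19 LD2_c3 LD3_c34)) :=
  Lgr Lrot2 (Lpr_gt (f228412 IH) (Lpr_gt (f228425 IH) (Lpr_af (f391158 IH) (Lpn (LP (LK LD1_c19 LD2_c3 LD3_c34))))))
theorem f228626 : Led Lsl_dt (LP (LK LD1_c10 LD2_c36 LD3_c6)) = (LP (LK LD1_c19 LD2_c12 LD3_c0)) :=
  Lre_d IH (LK LD1_c10 LD2_c36 LD3_c6) (LK LD1_c19 LD2_c12 LD3_c0) Lrfl Lrfl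
theorem f391166 : Led Lsl_ct (LP (LK LD1_c19 LD2_c12 LD3_c0)) = (LP (LK LD1_c28 LD2_c38 LD3_c1)) :=
  Lre_c IH (LK LD1_c19 LD2_c12 LD3_c0) (LK LD1_c28 LD2_c38 LD3_c1) Lrfl Lrfl
theorem f391167 : Led Lsl_df (LP (LK LD1_c25 LD2_c47 LD3_c54)) = (LP (LK LD1_c28 LD2_c38 LD3_c1)) :=
  Lgr Lrot106 (Lpr_ct (f388175 IH) (Lpr_dt (f388160 IH) (Lpr_ct (f218035 IH) (Lpr_dt (f387942 IH) (Lpr_ct (f228431 IH) (Lpr_af (f391158 IH) (Lpe (f391164 IH) (Lpr_dt (f228626 IH) (Lpr_ct (f391166 IH) (Lpn (LP (LK LD1_c28 LD2_c38 LD3_c1))))))))))))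
theorem f234817 : Led Lsl_bt (LP (LK LD1_c10 LD2_c50 LD3_c60)) = (LP (LK LD1_c19 LD2_c36 LD3_c43)) :=
  Lre_b IH (LK LD1_c10 LD2_c50 LD3_c60) (LK LD1_c19 LD2_c36 LD3_c43) Lrfl Lrfl
theorem f389870 : Led Lsl_ft (LP (LK LD1_c16 LD2_c42 LD3_c60)) = (LP (LK LD1_c10 LD2_c50 LD3_c60)) :=
  Lgr Lrot75 (Lpr_bf (f375707 IH) (Lpr_ff (f389868 IH) (Lpe (f234817 IH) (Lpn (LP (LK LD1_c10 LD2_c50 LD3_c60))))))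
theorem f254862 : Led Lsl_at (LP (LK LD1_c16 LD2_c43 LD3_c0)) = (LP (LK LD1_c8 LD2_c55 LD3_c50)) :=
  Lre_a IH (LK LD1_c16 LD2_c43 LD3_c0) (LK LD1_c8 LD2_c55 LD3_c50) Lrfl Lrfl
theorem f375700 : Led Lsl_ff (LP (LK LD1_c16 LD2_c43 LD3_c0)) = (LP (LK LD1_c10 LD2_c51 LD3_c0)) :=
  Lgr Lrot30 (Lpr_at (f254862 IH) (Lpr_ft (K30.f375670 IH) (Lpr_at (f329288 IH) (Lpn (LP (LK LD1_c10 LD2_c51 LD3_c0))))))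
theorem f254865 : Led Lsl_gt (LP (LK LD1_c16 LD2_c42 LD3_c61)) = (LP (LK LD1_c8 LD2_c55 LD3_c50)) :=
  Lre_g IH (LK LD1_c16 LD2_c42 LD3_c61) (LK LD1_c8 LD2_c55 LD3_c50) Lrfl Lrfl
theorem f375902 : Led Lsl_gf (LP (LK LD1_c16 LD2_c42 LD3_c61)) = (LP (LK LD1_c10 LD2_c51 LD3_c0)) :=
  Lgr Lrot47 (Lpr_gt (f254865 IH) (Lpe (f254862 IH) (Lpr_ff (f375700 IH) (Lpn (LP (LK LD1_c10 LD2_c51 LD3_c0))))))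
theorem f389875 : Led Lsl_af (LP (LK LD1_c16 LD2_c42 LD3_c61)) = (LP (LK LD1_c10 LD2_c50 LD3_c60)) :=
  Lgr Lrot31 (Lpr_gf (f375902 IH) (Lpe (f375705 IH) (Lpr_ft (f389870 IH) (Lpn (LP (LK LD1_c10 LD2_c50 LD3_c60))))))
theorem f389877 : Led Lsl_at (LP (LK LD1_c16 LD2_c42 LD3_c61)) = (LP (LK LD1_c10 LD2_c50 LD3_c60)) :=
  Lgr Lrot100 (Lpr_af (f389875 IH) (Lpn (LP (LK LD1_c10 LD2_c50 LD3_c60))))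
theorem f389888 : Led Lsl_ff (LP (LK LD1_c16 LD2_c42 LD3_c61)) = (LP (LK LD1_c10 LD2_c50 LD3_c61)) :=
  Lgr Lrot52 (Lpr_at (f389877 IH) (Lpe (f234808 IH) (Lpe (K30.f234784 IH) (Lpn (LP (LK LD1_c10 LD2_c50 LD3_c61))))))
theorem f389896 : Led Lsl_ft (LP (LK LD1_c16 LD2_c42 LD3_c61)) = (LP (LK LD1_c10 LD2_c50 LD3_c61)) :=
  Lgr Lrot48 (Lpr_ff (f389888 IH) (Lpn (LP (LK LD1_c10 LD2_c50 LD3_c61))))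
theorem f254866 : Led Lsl_ct (LP (LK LD1_c26 LD2_c41 LD3_c50)) = (LP (LK LD1_c16 LD2_c42 LD3_c61)) :=
  Lre_c IH (LK LD1_c26 LD2_c41 LD3_c50) (LK LD1_c16 LD2_c42 LD3_c61) Lrfl Lrfl
theorem f389902 : Led Lsl_ff (LP (LK LD1_c26 LD2_c41 LD3_c50)) = (LP (LK LD1_c19 LD2_c36 LD3_c47)) :=
  Lgr Lrot23 (Lpr_ct (f254866 IH) (Lpr_ft (f389896 IH) (Lpr_ct (K30.f375899 IH) (Lpn (LP (LK LD1_c19 LD2_c36 LD3_c47))))))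
theorem f223311 : Led Lsl_gt (LP (LK LD1_c15 LD2_c17 LD3_c32)) = (LP (LK LD1_c25 LD2_c7 LD3_c53)) :=
  Lre_g IH (LK LD1_c15 LD2_c17 LD3_c32) (LK LD1_c25 LD2_c7 LD3_c53) Lrfl Lrfl
theorem f289121 : Led Lsl_gf (LP (LK LD1_c16 LD2_c37 LD3_c15)) = (LP (LK LD1_c25 LD2_c7 LD3_c53)) :=
  Lgr Lrot76 (Lpe (K17.f279141 IH) (Lpr_ff (K17.f289112 IH) (Lpr_gt (f223311 IH) (Lpn (LP (LK LD1_c25 LD2_c7 LD3_c53))))))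
theorem f382868 : Led Lsl_bt (LP (LK LD1_c26 LD2_c41 LD3_c50)) = (LP (LK LD1_c25 LD2_c7 LD3_c53)) :=
  Lgr Lrot22 (Lpr_ct (f254866 IH) (Lpr_gf (f375902 IH) (Lpe (K30.f375655 IH) (Lpe (f375730 IH) (Lpr_bf (f382861 IH) (Lpr_ct (f173494 IH) (Lpr_gf (K30.f341314 IH) (Lpe (K17.f279103 IH) (Lpe (K16.f279091 IH) (Lpr_gf (f289121 IH) (Lpn (LP (LK LD1_c25 LD2_c7 LD3_c53)))))))))))))
theorem f382910 : Led Lsl_bt (LP (LK LD1_c16 LD2_c37 LD3_c13)) = (LP (LK LD1_c19 LD2_c36 LD3_c47)) :=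
  Lgr Lrot127 (Lpr_bf (K30.f382908 IH) (Lpn (LP (LK LD1_c19 LD2_c36 LD3_c47))))
theorem f389907 : Led Lsl_ft (LP (LK LD1_c25 LD2_c7 LD3_c53)) = (LP (LK LD1_c16 LD2_c37 LD3_c13)) :=
  Lgr Lrot75 (Lpe (f382868 IH) (Lpr_ff (f389902 IH) (Lpe (f382910 IH) (Lpn (LP (LK LD1_c16 LD2_c37 LD3_c13))))))
theorem f223313 : Led Lsl_gt (LP (LK LD1_c25 LD2_c7 LD3_c54)) = (LP (LK LD1_c15 LD2_c17 LD3_c32)) :=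
  Lre_g IH (LK LD1_c25 LD2_c7 LD3_c54) (LK LD1_c15 LD2_c17 LD3_c32) Lrfl Lrfl
theorem f289129 : Led Lsl_gt (LP (LK LD1_c16 LD2_c37 LD3_c15)) = (LP (LK LD1_c25 LD2_c7 LD3_c54)) :=
  Lgr Lrot5 (Lpr_ft (K17.f289117 IH) (Lpr_at (K17.f223310 IH) (Lpe (f223313 IH) (Lpn (LP (LK LD1_c25 LD2_c7 LD3_c54))))))
theorem f389911 : Led Lsl_af (LP (LK LD1_c25 LD2_c7 LD3_c54)) = (LP (LK LD1_c16 LD2_c37 LD3_c13)) :=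
  Lgr Lrot31 (Lpe (f289129 IH) (Lpr_gf (f289121 IH) (Lpr_ft (f389907 IH) (Lpn (LP (LK LD1_c16 LD2_c37 LD3_c13))))))
theorem f389913 : Led Lsl_at (LP (LK LD1_c25 LD2_c7 LD3_c54)) = (LP (LK LD1_c16 LD2_c37 LD3_c13)) :=
  Lgr Lrot100 (Lpr_af (f389911 IH) (Lpn (LP (LK LD1_c16 LD2_c37 LD3_c13))))
theorem f289094 : Led Lsl_gt (LP (LK LD1_c16 LD2_c37 LD3_c14)) = (LP (LK LD1_c8 LD2_c53 LD3_c21)) :=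
  Lre_g IH (LK LD1_c16 LD2_c37 LD3_c14) (LK LD1_c8 LD2_c53 LD3_c21) Lrfl Lrfl
theorem f389919 : Led Lsl_ff (LP (LK LD1_c25 LD2_c7 LD3_c54)) = (LP (LK LD1_c16 LD2_c37 LD3_c14)) :=
  Lgr Lrot52 (Lpr_at (f389913 IH) (Lpe (K30.f289088 IH) (Lpe (f289094 IH) (Lpn (LP (LK LD1_c16 LD2_c37 LD3_c14))))))
theorem f389926 : Led Lsl_ft (LP (LK LD1_c25 LD2_c7 LD3_c54)) = (LP (LK LD1_c16 LD2_c37 LD3_c14)) :=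
  Lgr Lrot48 (Lpr_ff (f389919 IH) (Lpn (LP (LK LD1_c16 LD2_c37 LD3_c14))))
theorem f228411 : Led Lsl_bt (LP (LK LD1_c2 LD2_c37 LD3_c60)) = (LP (LK LD1_c5 LD2_c22 LD3_c54)) :=
  Lre_b IH (LK LD1_c2 LD2_c37 LD3_c60) (LK LD1_c5 LD2_c22 LD3_c54) Lrfl Lrfl
theorem f228426 : Led Lsl_bt (LP (LK LD1_c19 LD2_c11 LD3_c56)) = (LP (LK LD1_c10 LD2_c36 LD3_c5)) :=
  Lre_b IH (LK LD1_c19 LD2_c11 LD3_c56) (LK LD1_c10 LD2_c36 LD3_c5) Lrfl Lrfl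
theorem f228427 : Led Lsl_cf (LP (LK LD1_c25 LD2_c7 LD3_c54)) = (LP (LK LD1_c19 LD2_c11 LD3_c56)) :=
  Lgr Lrot160 (Lpr_gt (f223313 IH) (Lpe (K17.f223302 IH) (Lpr_bt (K17.f221671 IH) (Lpe (K12.f221668 IH) (Lpr_ct (K12.f167798 IH) (Lpr_gt (K12.f211417 IH) (Lpr_cf (K12.f228406 IH) (Lpr_bt (f228411 IH) (Lpr_gt (f228425 IH) (Lpe (f228426 IH) (Lpn (LP (LK LD1_c19 LD2_c11 LD3_c56)))))))))))))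
theorem f289100 : Led Lsl_ct (LP (LK LD1_c16 LD2_c37 LD3_c14)) = (LP (LK LD1_c26 LD2_c34 LD3_c27)) :=
  Lre_c IH (LK LD1_c16 LD2_c37 LD3_c14) (LK LD1_c26 LD2_c34 LD3_c27) Lrfl Lrfl
theorem f389930 : Led Lsl_ff (LP (LK LD1_c19 LD2_c11 LD3_c56)) = (LP (LK LD1_c26 LD2_c34 LD3_c27)) :=
  Lgr Lrot23 (Lpe (f228427 IH) (Lpr_ft (f389926 IH) (Lpr_ct (f289100 IH) (Lpn (LP (LK LD1_c26 LD2_c34 LD3_c27))))))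
theorem f289095 : Led Lsl_ct (LP (LK LD1_c26 LD2_c34 LD3_c27)) = (LP (LK LD1_c16 LD2_c37 LD3_c14)) :=
  Lre_c IH (LK LD1_c26 LD2_c34 LD3_c27) (LK LD1_c16 LD2_c37 LD3_c14) Lrfl Lrfl
theorem f256930 : Led Lsl_gt (LP (LK LD1_c10 LD2_c30 LD3_c59)) = (LP (LK LD1_c19 LD2_c3 LD3_c33)) :=
  Lre_g IH (LK LD1_c10 LD2_c30 LD3_c59) (LK LD1_c19 LD2_c3 LD3_c33) Lrfl Lrfl
theorem f289096 : Led Lsl_bt (LP (LK LD1_c26 LD2_c34 LD3_c27)) = (LP (LK LD1_c19 LD2_c3 LD3_c33)) :=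
  Lgr Lrot92 (Lpr_ct (f289095 IH) (Lpr_gt (f289094 IH) (Lpr_cf (K17.f289075 IH) (Lpr_bt (K17.f171978 IH) (Lpr_gt (K15.f171977 IH) (Lpr_ct (K15.f171964 IH) (Lpe (K16.f246389 IH) (Lpr_cf (K15.f256921 IH) (Lpr_bt (K17.f256925 IH) (Lpr_gt (f256930 IH) (Lpn (LP (LK LD1_c19 LD2_c3 LD3_c33)))))))))))))
theorem f289098 : Led Lsl_bf (LP (LK LD1_c26 LD2_c34 LD3_c27)) = (LP (LK LD1_c19 LD2_c3 LD3_c33)) :=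
  Lgr Lrot24 (Lpr_bt (f289096 IH) (Lpn (LP (LK LD1_c19 LD2_c3 LD3_c33))))
theorem f389933 : Led Lsl_ft (LP (LK LD1_c10 LD2_c36 LD3_c5)) = (LP (LK LD1_c19 LD2_c3 LD3_c33)) :=
  Lgr Lrot75 (Lpe (f228426 IH) (Lpr_ff (f389930 IH) (Lpr_bf (f289098 IH) (Lpn (LP (LK LD1_c19 LD2_c3 LD3_c33))))))
theorem f196943 : Led Lsl_dt (LP (LK LD1_c4 LD2_c14 LD3_c46)) = (LP (LK LD1_c8 LD2_c28 LD3_c20)) :=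
  Lre_d IH (LK LD1_c4 LD2_c14 LD3_c46) (LK LD1_c8 LD2_c28 LD3_c20) Lrfl Lrfl
theorem f388693 : Led Lsl_df (LP (LK LD1_c8 LD2_c28 LD3_c22)) = (LP (LK LD1_c15 LD2_c22 LD3_c21)) :=
  Lgr Lrot78 (Lpr_ft (f388682 IH) (Lpr_dt (f196943 IH) (Lpr_ft (K30.f388689 IH) (Lpn (LP (LK LD1_c15 LD2_c22 LD3_c21))))))
theorem f196882 : Led Lsl_cf (LP (LK LD1_c8 LD2_c28 LD3_c27)) = (LP (LK LD1_c10 LD2_c38 LD3_c60)) :=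
  Lgr Lrot11 (Lpr_ct (K10.f196879 IH) (Lpn (LP (LK LD1_c10 LD2_c38 LD3_c60))))
theorem f217777 : Led Lsl_ff (LP (LK LD1_c15 LD2_c50 LD3_c0)) = (LP (LK LD1_c10 LD2_c36 LD3_c38)) :=
  Lgr Lrot25 (Lpr_bt (K12.f52785 IH) (Lpr_ft (K12.f217775 IH) (Lpr_bt (K30.f217732 IH) (Lpn (LP (LK LD1_c10 LD2_c36 LD3_c38))))))
theorem f217787 : Led Lsl_dt (LP (LK LD1_c5 LD2_c24 LD3_c7)) = (LP (LK LD1_c10 LD2_c36 LD3_c38)) :=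
  Lgr Lrot60 (Lpe (K10.f196867 IH) (Lpe (K10.f51190 IH) (Lpr_ff (f217777 IH) (Lpn (LP (LK LD1_c10 LD2_c36 LD3_c38))))))
theorem f217790 : Led Lsl_at (LP (LK LD1_c10 LD2_c36 LD3_c38)) = (LP (LK LD1_c19 LD2_c13 LD3_c6)) :=
  Lre_a IH (LK LD1_c10 LD2_c36 LD3_c38) (LK LD1_c19 LD2_c13 LD3_c6) Lrfl Lrfl
theorem f217791 : Led Lsl_df (LP (LK LD1_c10 LD2_c38 LD3_c60)) = (LP (LK LD1_c19 LD2_c13 LD3_c6)) :=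
  Lgr Lrot18 (Lpr_at (K18.f196881 IH) (Lpr_dt (f217787 IH) (Lpr_at (f217790 IH) (Lpn (LP (LK LD1_c19 LD2_c13 LD3_c6))))))
theorem f217769 : Led Lsl_bt (LP (LK LD1_c8 LD2_c25 LD3_c47)) = (LP (LK LD1_c15 LD2_c50 LD3_c0)) :=
  Lre_b IH (LK LD1_c8 LD2_c25 LD3_c47) (LK LD1_c15 LD2_c50 LD3_c0) Lrfl Lrfl
theorem f217770 : Led Lsl_ft (LP (LK LD1_c15 LD2_c50 LD3_c0)) = (LP (LK LD1_c10 LD2_c36 LD3_c38)) :=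
  Lgr Lrot75 (Lpe (f217769 IH) (Lpr_ff (K12.f217741 IH) (Lpe (K30.f217721 IH) (Lpn (LP (LK LD1_c10 LD2_c36 LD3_c38))))))
theorem f51201 : Led Lsl_gt (LP (LK LD1_c15 LD2_c50 LD3_c0)) = (LP (LK LD1_c25 LD2_c46 LD3_c4)) :=
  Lre_g IH (LK LD1_c15 LD2_c50 LD3_c0) (LK LD1_c25 LD2_c46 LD3_c4) Lrfl Lrfl
theorem f217807 : Led Lsl_gt (LP (LK LD1_c25 LD2_c46 LD3_c4)) = (LP (LK LD1_c19 LD2_c13 LD3_c6)) :=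
  Lgr Lrot46 (Lpe (f51201 IH) (Lpr_ft (f217770 IH) (Lpr_at (f217790 IH) (Lpn (LP (LK LD1_c19 LD2_c13 LD3_c6))))))
theorem f389538 : Led Lsl_dt (LP (LK LD1_c19 LD2_c3 LD3_c33)) = (LP (LK LD1_c25 LD2_c46 LD3_c4)) :=
  Lgr Lrot57 (Lpe (f256930 IH) (Lpe (f256931 IH) (Lpr_gt (K30.f226888 IH) (Lpe (f388693 IH) (Lpr_gt (f389026 IH) (Lpr_dt (K10.f52740 IH) (Lpr_cf (f196882 IH) (Lpr_df (f217791 IH) (Lpe (f217807 IH) (Lpn (LP (LK LD1_c25 LD2_c46 LD3_c4))))))))))))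
theorem f389935 : Led Lsl_ff (LP (LK LD1_c19 LD2_c11 LD3_c58)) = (LP (LK LD1_c25 LD2_c46 LD3_c4)) :=
  Lgr Lrot19 (Lpr_dt (f286794 IH) (Lpr_ft (f389933 IH) (Lpr_dt (f389538 IH) (Lpn (LP (LK LD1_c25 LD2_c46 LD3_c4))))))
theorem f217800 : Led Lsl_ff (LP (LK LD1_c25 LD2_c46 LD3_c3)) = (LP (LK LD1_c19 LD2_c13 LD3_c6)) :=
  Lgr Lrot103 (Lpr_at (K12.f52714 IH) (Lpe (K10.f52769 IH) (Lpr_df (K10.f52773 IH) (Lpe (K10.f52772 IH) (Lpe (K10.f52771 IH) (Lpe (K10.f52770 IH) (Lpe (K10.f52730 IH) (Lpr_cf (f196882 IH) (Lpr_df (f217791 IH) (Lpn (LP (LK LD1_c19 LD2_c13 LD3_c6))))))))))))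
theorem f51196 : Led Lsl_gt (LP (LK LD1_c25 LD2_c46 LD3_c5)) = (LP (LK LD1_c15 LD2_c50 LD3_c0)) :=
  Lre_g IH (LK LD1_c25 LD2_c46 LD3_c5) (LK LD1_c15 LD2_c50 LD3_c0) Lrfl Lrfl
theorem f217802 : Led Lsl_gf (LP (LK LD1_c25 LD2_c46 LD3_c5)) = (LP (LK LD1_c19 LD2_c13 LD3_c6)) :=
  Lgr Lrot47 (Lpr_gt (f51196 IH) (Lpe (K12.f52714 IH) (Lpr_ff (f217800 IH) (Lpn (LP (LK LD1_c19 LD2_c13 LD3_c6))))))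
theorem f389945 : Led Lsl_at (LP (LK LD1_c19 LD2_c11 LD3_c58)) = (LP (LK LD1_c25 LD2_c46 LD3_c5)) :=
  Lgr Lrot26 (Lpr_ff (f389935 IH) (Lpr_gt (f217807 IH) (Lpe (f217802 IH) (Lpn (LP (LK LD1_c25 LD2_c46 LD3_c5))))))
theorem f217804 : Led Lsl_ct (LP (LK LD1_c25 LD2_c46 LD3_c5)) = (LP (LK LD1_c31 LD2_c59 LD3_c19)) :=
  Lre_c IH (LK LD1_c25 LD2_c46 LD3_c5) (LK LD1_c31 LD2_c59 LD3_c19) Lrfl Lrfl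
theorem f389949 : Led Lsl_af (LP (LK LD1_c28 LD2_c37 LD3_c58)) = (LP (LK LD1_c31 LD2_c59 LD3_c19)) :=
  Lgr Lrot68 (Lpr_ct (f388161 IH) (Lpr_at (f389945 IH) (Lpr_ct (f217804 IH) (Lpn (LP (LK LD1_c31 LD2_c59 LD3_c19))))))
theorem f391173 : Led Lsl_ff (LP (LK LD1_c31 LD2_c59 LD3_c19)) = (LP (LK LD1_c28 LD2_c38 LD3_c1)) :=
  Lgr Lrot103 (Lpe (f389949 IH) (Lpe (f228670 IH) (Lpe (f228622 IH) (Lpe (f228431 IH) (Lpe (f387942 IH) (Lpe (f218035 IH) (Lpe (f388160 IH) (Lpe (f388175 IH) (Lpr_df (f391167 IH) (Lpn (LP (LK LD1_c28 LD2_c38 LD3_c1))))))))))))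
theorem f391179 : Led Lsl_ft (LP (LK LD1_c31 LD2_c59 LD3_c19)) = (LP (LK LD1_c28 LD2_c38 LD3_c1)) :=
  Lgr Lrot48 (Lpr_ff (f391173 IH) (Lpn (LP (LK LD1_c28 LD2_c38 LD3_c1))))
theorem f391183 : Led Lsl_ct (LP (LK LD1_c28 LD2_c38 LD3_c1)) = (LP (LK LD1_c19 LD2_c12 LD3_c0)) :=
  Lre_c IH (LK LD1_c28 LD2_c38 LD3_c1) (LK LD1_c19 LD2_c12 LD3_c0) Lrfl Lrfl
theorem f391184 : Led Lsl_ff (LP (LK LD1_c25 LD2_c46 LD3_c5)) = (LP (LK LD1_c19 LD2_c12 LD3_c0)) :=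
  Lgr Lrot23 (Lpr_ct (f217804 IH) (Lpr_ft (f391179 IH) (Lpr_ct (f391183 IH) (Lpn (LP (LK LD1_c19 LD2_c12 LD3_c0))))))
theorem f389947 : Led Lsl_af (LP (LK LD1_c19 LD2_c11 LD3_c58)) = (LP (LK LD1_c25 LD2_c46 LD3_c5)) :=
  Lgr Lrot0 (Lpr_at (f389945 IH) (Lpn (LP (LK LD1_c25 LD2_c46 LD3_c5))))
theorem f52754 : Led Lsl_gt (LP (LK LD1_c4 LD2_c14 LD3_c46)) = (LP (LK LD1_c8 LD2_c28 LD3_c16)) :=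
  Lre_g IH (LK LD1_c4 LD2_c14 LD3_c46) (LK LD1_c8 LD2_c28 LD3_c16) Lrfl Lrfl
theorem f388737 : Led Lsl_gt (LP (LK LD1_c19 LD2_c11 LD3_c58)) = (LP (LK LD1_c25 LD2_c46 LD3_c3)) :=
  Lgr Lrot49 (Lpe (f228622 IH) (Lpe (f228425 IH) (Lpe (K17.f228416 IH) (Lpr_gt (f388711 IH) (Lpr_dt (K30.f52755 IH) (Lpr_gt (f52754 IH) (Lpe (f52733 IH) (Lpe (K10.f51147 IH) (Lpe (K10.f51164 IH) (Lpn (LP (LK LD1_c25 LD2_c46 LD3_c3))))))))))))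
theorem f52720 : Led Lsl_at (LP (LK LD1_c15 LD2_c50 LD3_c0)) = (LP (LK LD1_c25 LD2_c46 LD3_c3)) :=
  Lre_a IH (LK LD1_c15 LD2_c50 LD3_c0) (LK LD1_c25 LD2_c46 LD3_c3) Lrfl Lrfl
theorem f388833 : Led Lsl_gf (LP (LK LD1_c19 LD2_c11 LD3_c58)) = (LP (LK LD1_c10 LD2_c36 LD3_c38)) :=
  Lgr Lrot47 (Lpr_gt (f388737 IH) (Lpe (f52720 IH) (Lpr_ff (f217777 IH) (Lpn (LP (LK LD1_c10 LD2_c36 LD3_c38))))))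
theorem f391190 : Led Lsl_gf (LP (LK LD1_c10 LD2_c36 LD3_c38)) = (LP (LK LD1_c19 LD2_c12 LD3_c0)) :=
  Lgr Lrot47 (Lpe (f388833 IH) (Lpr_af (f389947 IH) (Lpr_ff (f391184 IH) (Lpn (LP (LK LD1_c19 LD2_c12 LD3_c0))))))
theorem f398421 : Led Lsl_bt (LP (LK LD1_c26 LD2_c12 LD3_c42)) = (LP (LK LD1_c19 LD2_c12 LD3_c0)) :=
  Lgr Lrot178 (Lpe (f373765 IH) (Lpr_df (f398409 IH) (Lpe (f227218 IH) (Lpe (f227217 IH) (Lpe (K13.f43117 IH) (Lpe (K12.f227192 IH) (Lpe (K12.f201237 IH) (Lpe (K14.f201227 IH) (Lpe (K11.f201107 IH) (Lpr_df (K12.f7719 IH) (Lpe (K12.f199588 IH) (Lpe (K12.f199591 IH) (Lpe (K11.f28918 IH) (Lpr_df (K11.f200820 IH) (Lpe (K11.f200804 IH) (Lpe (K11.f52660 IH) (Lpr_cf (K12.f196873 IH) (Lpr_df (K30.f217733 IH) (Lpr_gf (f391190 IH) (Lpn (LP (LK LD1_c19 LD2_c12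 LD3_c0))))))))))))))))))))))
theorem f373766 : Led Lsl_ct (LP (LK LD1_c26 LD2_c12 LD3_c42)) = (LP (LK LD1_c16 LD2_c15 LD3_c8)) :=
  Lre_c IH (LK LD1_c26 LD2_c12 LD3_c42) (LK LD1_c16 LD2_c15 LD3_c8) Lrfl Lrfl
theorem f243208 : Led Lsl_ct (LP (LK LD1_c16 LD2_c15 LD3_c10)) = (LP (LK LD1_c8 LD2_c40 LD3_c41)) :=
  Lre_c IH (LK LD1_c16 LD2_c15 LD3_c10) (LK LD1_c8 LD2_c40 LD3_c41) Lrfl Lrfl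
theorem f398430 : Led Lsl_gf (LP (LK LD1_c16 LD2_c15 LD3_c10)) = (LP (LK LD1_c10 LD2_c32 LD3_c19)) :=
  Lgr Lrot181 (Lpr_ct (f243208 IH) (Lpr_gt (f225672 IH) (Lpe (f373766 IH) (Lpr_bt (f398421 IH) (Lpe (f391190 IH) (Lpe (K30.f217732 IH) (Lpe (K12.f217716 IH) (Lpe (K12.f218756 IH) (Lpr_cf (K12.f218770 IH) (Lpr_bt (K22.f218768 IH) (Lpn (LP (LK LD1_c10 LD2_c32 LD3_c19)))))))))))))
theorem f243199 : Led Lsl_ct (LP (LK LD1_c8 LD2_c40 LD3_c41)) = (LP (LK LD1_c16 LD2_c15 LD3_c10)) :=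
  Lre_c IH (LK LD1_c8 LD2_c40 LD3_c41) (LK LD1_c16 LD2_c15 LD3_c10) Lrfl Lrfl
theorem f373772 : Led Lsl_bt (LP (LK LD1_c8 LD2_c40 LD3_c41)) = (LP (LK LD1_c4 LD2_c21 LD3_c33)) :=
  Lre_b IH (LK LD1_c8 LD2_c40 LD3_c41) (LK LD1_c4 LD2_c21 LD3_c33) Lrfl Lrfl
theorem f236771 : Led Lsl_bt (LP (LK LD1_c4 LD2_c56 LD3_c47)) = (LP (LK LD1_c9 LD2_c44 LD3_c52)) :=
  Lre_b IH (LK LD1_c4 LD2_c56 LD3_c47) (LK LD1_c9 LD2_c44 LD3_c52) Lrfl Lrfl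
theorem f220458 : Led Lsl_gt (LP (LK LD1_c9 LD2_c44 LD3_c52)) = (LP (LK LD1_c17 LD2_c54 LD3_c3)) :=
  Lre_g IH (LK LD1_c9 LD2_c44 LD3_c52) (LK LD1_c17 LD2_c54 LD3_c3) Lrfl Lrfl
theorem f218807 : Led Lsl_ct (LP (LK LD1_c19 LD2_c5 LD3_c20)) = (LP (LK LD1_c10 LD2_c32 LD3_c19)) :=
  Lre_c IH (LK LD1_c19 LD2_c5 LD3_c20) (LK LD1_c10 LD2_c32 LD3_c19) Lrfl Lrfl
theorem f398434 : Led Lsl_bf (LP (LK LD1_c17 LD2_c54 LD3_c3)) = (LP (LK LD1_c19 LD2_c5 LD3_c20)) :=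
  Lgr Lrot34 (Lpe (f220458 IH) (Lpe (f236771 IH) (Lpe (K13.f236757 IH) (Lpr_gf (K11.f211111 IH) (Lpe (K13.f29260 IH) (Lpr_gf (K13.f237291 IH) (Lpe (f373772 IH) (Lpr_ct (f243199 IH) (Lpr_gf (f398430 IH) (Lpe (f218807 IH) (Lpn (LP (LK LD1_c19 LD2_c5 LD3_c20)))))))))))))
theorem f297510 : Led Lsl_gt (LP (LK LD1_c17 LD2_c54 LD3_c3)) = (LP (LK LD1_c16 LD2_c18 LD3_c26)) :=
  Lgr Lrot46 (Lpe (f220458 IH) (Lpr_ft (K18.f297499 IH) (Lpr_at (K18.f297498 IH) (Lpn (LP (LK LD1_c16 LD2_c18 LD3_c26))))))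
theorem f298273 : Led Lsl_ff (LP (LK LD1_c7 LD2_c56 LD3_c8)) = (LP (LK LD1_c4 LD2_c22 LD3_c42)) :=
  Lgr Lrot3 (Lpr_ft (K19.f298245 IH) (Lpn (LP (LK LD1_c4 LD2_c22 LD3_c42))))
theorem f236834 : Led Lsl_at (LP (LK LD1_c7 LD2_c56 LD3_c8)) = (LP (LK LD1_c14 LD2_c58 LD3_c16)) :=
  Lre_a IH (LK LD1_c7 LD2_c56 LD3_c8) (LK LD1_c14 LD2_c58 LD3_c16) Lrfl Lrfl
theorem f298278 : Led Lsl_ft (LP (LK LD1_c14 LD2_c58 LD3_c16)) = (LP (LK LD1_c8 LD2_c43 LD3_c17)) :=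
  Lgr Lrot101 (Lpe (f236834 IH) (Lpr_ff (f298273 IH) (Lpe (K19.f298189 IH) (Lpn (LP (LK LD1_c8 LD2_c43 LD3_c17))))))
theorem f236754 : Led Lsl_bt (LP (LK LD1_c7 LD2_c56 LD3_c8)) = (LP (LK LD1_c3 LD2_c57 LD3_c14)) :=
  Lre_b IH (LK LD1_c7 LD2_c56 LD3_c8) (LK LD1_c3 LD2_c57 LD3_c14) Lrfl Lrfl
theorem f182336 : Led Lsl_bt (LP (LK LD1_c4 LD2_c56 LD3_c55)) = (LP (LK LD1_c9 LD2_c44 LD3_c61)) :=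
  Lre_b IH (LK LD1_c4 LD2_c56 LD3_c55) (LK LD1_c9 LD2_c44 LD3_c61) Lrfl Lrfl
theorem f236755 : Led Lsl_df (LP (LK LD1_c7 LD2_c56 LD3_c8)) = (LP (LK LD1_c9 LD2_c44 LD3_c61)) :=
  Lgr Lrot12 (Lpr_bt (f236754 IH) (Lpr_dt (K13.f236596 IH) (Lpr_bt (f182336 IH) (Lpn (LP (LK LD1_c9 LD2_c44 LD3_c61))))))
theorem f236835 : Led Lsl_at (LP (LK LD1_c17 LD2_c54 LD3_c29)) = (LP (LK LD1_c9 LD2_c44 LD3_c61)) :=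
  Lre_a IH (LK LD1_c17 LD2_c54 LD3_c29) (LK LD1_c9 LD2_c44 LD3_c61) Lrfl Lrfl
theorem f236836 : Led Lsl_dt (LP (LK LD1_c14 LD2_c58 LD3_c16)) = (LP (LK LD1_c17 LD2_c54 LD3_c29)) :=
  Lgr Lrot44 (Lpe (f236834 IH) (Lpr_df (f236755 IH) (Lpe (f236835 IH) (Lpn (LP (LK LD1_c17 LD2_c54 LD3_c29))))))
theorem f236847 : Led Lsl_df (LP (LK LD1_c14 LD2_c58 LD3_c16)) = (LP (LK LD1_c17 LD2_c54 LD3_c29)) :=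
  Lgr Lrot38 (Lpr_dt (f236836 IH) (Lpn (LP (LK LD1_c17 LD2_c54 LD3_c29))))
theorem f168482 : Led Lsl_dt (LP (LK LD1_c17 LD2_c54 LD3_c1)) = (LP (LK LD1_c9 LD2_c44 LD3_c51)) :=
  Lre_d IH (LK LD1_c17 LD2_c54 LD3_c1) (LK LD1_c9 LD2_c44 LD3_c51) Lrfl Lrfl
theorem f297456 : Led Lsl_at (LP (LK LD1_c17 LD2_c54 LD3_c1)) = (LP (LK LD1_c9 LD2_c44 LD3_c52)) :=
  Lre_a IH (LK LD1_c17 LD2_c54 LD3_c1) (LK LD1_c9 LD2_c44 LD3_c52) Lrfl Lrfl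
theorem f237471 : Led Lsl_bt (LP (LK LD1_c4 LD2_c22 LD3_c12)) = (LP (LK LD1_c8 LD2_c42 LD3_c19)) :=
  Lre_b IH (LK LD1_c4 LD2_c22 LD3_c12) (LK LD1_c8 LD2_c42 LD3_c19) Lrfl Lrfl
theorem f298182 : Led Lsl_at (LP (LK LD1_c8 LD2_c42 LD3_c19)) = (LP (LK LD1_c16 LD2_c18 LD3_c30)) :=
  Lre_a IH (LK LD1_c8 LD2_c42 LD3_c19) (LK LD1_c16 LD2_c18 LD3_c30) Lrfl Lrfl
theorem f298183 : Led Lsl_bf (LP (LK LD1_c17 LD2_c54 LD3_c1)) = (LP (LK LD1_c16 LD2_c18 LD3_c30)) :=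
  Lgr Lrot81 (Lpr_at (f297456 IH) (Lpr_bt (K18.f236765 IH) (Lpr_at (K19.f298180 IH) (Lpr_bt (f237471 IH) (Lpr_at (f298182 IH) (Lpn (LP (LK LD1_c16 LD2_c18 LD3_c30))))))))
theorem f298195 : Led Lsl_df (LP (LK LD1_c16 LD2_c18 LD3_c30)) = (LP (LK LD1_c8 LD2_c43 LD3_c17)) :=
  Lgr Lrot12 (Lpe (f298183 IH) (Lpr_dt (f168482 IH) (Lpr_bt (K19.f298190 IH) (Lpn (LP (LK LD1_c8 LD2_c43 LD3_c17))))))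
theorem f298287 : Led Lsl_ff (LP (LK LD1_c17 LD2_c54 LD3_c29)) = (LP (LK LD1_c16 LD2_c18 LD3_c30)) :=
  Lgr Lrot19 (Lpe (f236847 IH) (Lpr_ft (f298278 IH) (Lpe (f298195 IH) (Lpn (LP (LK LD1_c16 LD2_c18 LD3_c30))))))
theorem f298224 : Led Lsl_dt (LP (LK LD1_c16 LD2_c18 LD3_c30)) = (LP (LK LD1_c8 LD2_c43 LD3_c17)) :=
  Lgr Lrot42 (Lpr_df (f298195 IH) (Lpn (LP (LK LD1_c8 LD2_c43 LD3_c17))))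
theorem f298192 : Led Lsl_bf (LP (LK LD1_c9 LD2_c44 LD3_c51)) = (LP (LK LD1_c8 LD2_c43 LD3_c17)) :=
  Lgr Lrot24 (Lpr_bt (K19.f298190 IH) (Lpn (LP (LK LD1_c8 LD2_c43 LD3_c17))))
theorem f298230 : Led Lsl_bf (LP (LK LD1_c16 LD2_c18 LD3_c30)) = (LP (LK LD1_c17 LD2_c54 LD3_c1)) :=
  Lgr Lrot93 (Lpr_dt (f298224 IH) (Lpe (f298192 IH) (Lpr_dt (K19.f168476 IH) (Lpn (LP (LK LD1_c17 LD2_c54 LD3_c1))))))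
theorem f297502 : Led Lsl_ff (LP (LK LD1_c17 LD2_c54 LD3_c1)) = (LP (LK LD1_c16 LD2_c18 LD3_c26)) :=
  Lgr Lrot30 (Lpr_at (f297456 IH) (Lpr_ft (K18.f297499 IH) (Lpr_at (K18.f297498 IH) (Lpn (LP (LK LD1_c16 LD2_c18 LD3_c26))))))
theorem f298292 : Led Lsl_bt (LP (LK LD1_c17 LD2_c54 LD3_c29)) = (LP (LK LD1_c16 LD2_c18 LD3_c26)) :=
  Lgr Lrot35 (Lpr_ff (f298287 IH) (Lpr_bf (f298230 IH) (Lpr_ff (f297502 IH) (Lpn (LP (LK LD1_c16 LD2_c18 LD3_c26))))))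
theorem f236846 : Led Lsl_ct (LP (LK LD1_c17 LD2_c54 LD3_c29)) = (LP (LK LD1_c27 LD2_c39 LD3_c58)) :=
  Lre_c IH (LK LD1_c17 LD2_c54 LD3_c29) (LK LD1_c27 LD2_c39 LD3_c58) Lrfl Lrfl
theorem f298227 : Led Lsl_ct (LP (LK LD1_c26 LD2_c16 LD3_c16)) = (LP (LK LD1_c16 LD2_c18 LD3_c30)) :=
  Lre_c IH (LK LD1_c26 LD2_c16 LD3_c16) (LK LD1_c16 LD2_c18 LD3_c30) Lrfl Lrfl
theorem f298294 : Led Lsl_ft (LP (LK LD1_c27 LD2_c39 LD3_c58)) = (LP (LK LD1_c26 LD2_c16 LD3_c16)) :=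
  Lgr Lrot4 (Lpe (f236846 IH) (Lpr_ff (f298287 IH) (Lpe (f298227 IH) (Lpn (LP (LK LD1_c26 LD2_c16 LD3_c16))))))
theorem f298237 : Led Lsl_at (LP (LK LD1_c26 LD2_c16 LD3_c16)) = (LP (LK LD1_c16 LD2_c18 LD3_c31)) :=
  Lre_a IH (LK LD1_c26 LD2_c16 LD3_c16) (LK LD1_c16 LD2_c18 LD3_c31) Lrfl Lrfl
theorem f38974 : Led Lsl_gt (LP (LK LD1_c26 LD2_c16 LD3_c18)) = (LP (LK LD1_c16 LD2_c18 LD3_c31)) :=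
  Lre_g IH (LK LD1_c26 LD2_c16 LD3_c18) (LK LD1_c16 LD2_c18 LD3_c31) Lrfl Lrfl
theorem f298322 : Led Lsl_gt (LP (LK LD1_c27 LD2_c39 LD3_c58)) = (LP (LK LD1_c26 LD2_c16 LD3_c18)) :=
  Lgr Lrot5 (Lpr_ft (f298294 IH) (Lpr_at (f298237 IH) (Lpe (f38974 IH) (Lpn (LP (LK LD1_c26 LD2_c16 LD3_c18))))))
theorem f270417 : Led Lsl_gf (LP (LK LD1_c9 LD2_c38 LD3_c10)) = (LP (LK LD1_c8 LD2_c41 LD3_c8)) :=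
  Lgr Lrot76 (Lpe (K30.f229845 IH) (Lpr_ff (K16.f270409 IH) (Lpr_gt (f227218 IH) (Lpn (LP (LK LD1_c8 LD2_c41 LD3_c8))))))
theorem f218769 : Led Lsl_ct (LP (LK LD1_c10 LD2_c32 LD3_c19)) = (LP (LK LD1_c19 LD2_c5 LD3_c20)) :=
  Lre_c IH (LK LD1_c10 LD2_c32 LD3_c19) (LK LD1_c19 LD2_c5 LD3_c20) Lrfl Lrfl
theorem f339399 : Led Lsl_ft (LP (LK LD1_c19 LD2_c5 LD3_c20)) = (LP (LK LD1_c10 LD2_c42 LD3_c4)) :=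
  Lgr Lrot4 (Lpe (f218769 IH) (Lpr_ff (K22.f339393 IH) (Lpe (K15.f218477 IH) (Lpn (LP (LK LD1_c10 LD2_c42 LD3_c4))))))
theorem f339402 : Led Lsl_ff (LP (LK LD1_c19 LD2_c5 LD3_c20)) = (LP (LK LD1_c10 LD2_c42 LD3_c4)) :=
  Lgr Lrot3 (Lpr_ft (f339399 IH) (Lpn (LP (LK LD1_c10 LD2_c42 LD3_c4))))
theorem f397079 : Led Lsl_df (LP (LK LD1_c15 LD2_c59 LD3_c44)) = (LP (LK LD1_c19 LD2_c5 LD3_c20)) :=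
  Lgr Lrot78 (Lpr_ft (K30.f397075 IH) (Lpr_dt (K27.f263790 IH) (Lpe (f339402 IH) (Lpn (LP (LK LD1_c19 LD2_c5 LD3_c20))))))
theorem f398417 : Led Lsl_gt (LP (LK LD1_c19 LD2_c4 LD3_c61)) = (LP (LK LD1_c10 LD2_c32 LD3_c19)) :=
  Lgr Lrot150 (Lpe (K27.f373740 IH) (Lpe (f373763 IH) (Lpr_df (f398409 IH) (Lpe (f270417 IH) (Lpe (K30.f229846 IH) (Lpr_gt (K30.f397439 IH) (Lpr_ct (K30.f260567 IH) (Lpr_df (f397079 IH) (Lpe (f218769 IH) (Lpn (LP (LK LD1_c10 LD2_c32 LD3_c19))))))))))))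
theorem f373767 : Led Lsl_bt (LP (LK LD1_c26 LD2_c12 LD3_c41)) = (LP (LK LD1_c16 LD2_c15 LD3_c8)) :=
  Lre_b IH (LK LD1_c26 LD2_c12 LD3_c41) (LK LD1_c16 LD2_c15 LD3_c8) Lrfl Lrfl
theorem f398447 : Led Lsl_cf (LP (LK LD1_c26 LD2_c16 LD3_c18)) = (LP (LK LD1_c26 LD2_c12 LD3_c41)) :=
  Lgr Lrot58 (Lpe (f298322 IH) (Lpe (f236846 IH) (Lpr_bt (f298292 IH) (Lpe (f297510 IH) (Lpr_bf (f398434 IH) (Lpr_ct (f218807 IH) (Lpe (f398417 IH) (Lpe (K27.f373740 IH) (Lpe (f373763 IH) (Lpe (f373767 IH) (Lpn (LP (LK LD1_c26 LD2_c12 LD3_c41)))))))))))))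
theorem f398451 : Led Lsl_ct (LP (LK LD1_c26 LD2_c16 LD3_c18)) = (LP (LK LD1_c26 LD2_c12 LD3_c41)) :=
  Lgr Lrot59 (Lpr_cf (f398447 IH) (Lpn (LP (LK LD1_c26 LD2_c12 LD3_c41))))
theorem f398454 : Led Lsl_bf (LP (LK LD1_c26 LD2_c16 LD3_c18)) = (LP (LK LD1_c28 LD2_c38 LD3_c1)) :=
  Lgr Lrot90 (Lpr_ct (f398451 IH) (Lpr_bt (f373767 IH) (Lpr_ct (f373765 IH) (Lpr_bt (f398421 IH) (Lpr_ct (f391166 IH) (Lpn (LP (LK LD1_c28 LD2_c38 LD3_c1))))))))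
theorem f237461 : Led Lsl_bt (LP (LK LD1_c2 LD2_c8 LD3_c43)) = (LP (LK LD1_c4 LD2_c22 LD3_c32)) :=
  Lre_b IH (LK LD1_c2 LD2_c8 LD3_c43) (LK LD1_c4 LD2_c22 LD3_c32) Lrfl Lrfl
theorem f38972 : Led Lsl_bt (LP (LK LD1_c8 LD2_c42 LD3_c19)) = (LP (LK LD1_c4 LD2_c22 LD3_c12)) :=
  Lre_b IH (LK LD1_c8 LD2_c42 LD3_c19) (LK LD1_c4 LD2_c22 LD3_c12) Lrfl Lrfl
theorem f237462 : Led Lsl_ct (LP (LK LD1_c16 LD2_c18 LD3_c31)) = (LP (LK LD1_c8 LD2_c42 LD3_c19)) :=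
  Lre_c IH (LK LD1_c16 LD2_c18 LD3_c31) (LK LD1_c8 LD2_c42 LD3_c19) Lrfl Lrfl
theorem f237463 : Led Lsl_bt (LP (LK LD1_c8 LD2_c42 LD3_c58)) = (LP (LK LD1_c16 LD2_c18 LD3_c31)) :=
  Lgr Lrot128 (Lpe (K18.f173338 IH) (Lpe (f237461 IH) (Lpr_cf (K13.f237409 IH) (Lpe (f38972 IH) (Lpe (f237462 IH) (Lpn (LP (LK LD1_c16 LD2_c18 LD3_c31))))))))
theorem f173330 : Led Lsl_ct (LP (LK LD1_c8 LD2_c42 LD3_c58)) = (LP (LK LD1_c4 LD2_c22 LD3_c32)) :=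
  Lre_c IH (LK LD1_c8 LD2_c42 LD3_c58) (LK LD1_c4 LD2_c22 LD3_c32) Lrfl Lrfl
theorem f178968 : Led Lsl_gt (LP (LK LD1_c4 LD2_c22 LD3_c32)) = (LP (LK LD1_c8 LD2_c42 LD3_c56)) :=
  Lre_g IH (LK LD1_c4 LD2_c22 LD3_c32) (LK LD1_c8 LD2_c42 LD3_c56) Lrfl Lrfl
theorem f398481 : Led Lsl_ct (LP (LK LD1_c16 LD2_c19 LD3_c29)) = (LP (LK LD1_c8 LD2_c42 LD3_c56)) :=
  Lre_c IH (LK LD1_c16 LD2_c19 LD3_c29) (LK LD1_c8 LD2_c42 LD3_c56) Lrfl Lrfl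
theorem f398482 : Led Lsl_bt (LP (LK LD1_c16 LD2_c19 LD3_c29)) = (LP (LK LD1_c26 LD2_c17 LD3_c22)) :=
  Lre_b IH (LK LD1_c16 LD2_c19 LD3_c29) (LK LD1_c26 LD2_c17 LD3_c22) Lrfl Lrfl
theorem f217782 : Led Lsl_at (LP (LK LD1_c19 LD2_c13 LD3_c6)) = (LP (LK LD1_c10 LD2_c36 LD3_c38)) :=
  Lre_a IH (LK LD1_c19 LD2_c13 LD3_c6) (LK LD1_c10 LD2_c36 LD3_c38) Lrfl Lrfl
theorem f217783 : Led Lsl_ft (LP (LK LD1_c25 LD2_c46 LD3_c3)) = (LP (LK LD1_c19 LD2_c13 LD3_c6)) :=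
  Lgr Lrot101 (Lpe (f52720 IH) (Lpr_ff (f217777 IH) (Lpe (f217782 IH) (Lpn (LP (LK LD1_c19 LD2_c13 LD3_c6))))))
theorem f391294 : Led Lsl_gt (LP (LK LD1_c25 LD2_c46 LD3_c3)) = (LP (LK LD1_c19 LD2_c12 LD3_c0)) :=
  Lgr Lrot5 (Lpr_ft (f217783 IH) (Lpr_at (f217782 IH) (Lpr_gf (f391190 IH) (Lpn (LP (LK LD1_c19 LD2_c12 LD3_c0))))))
theorem f398483 : Led Lsl_gt (LP (LK LD1_c26 LD2_c17 LD3_c22)) = (LP (LK LD1_c25 LD2_c48 LD3_c11)) :=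
  Lgr Lrot82 (Lpe (f398482 IH) (Lpr_ct (f398481 IH) (Lpe (f178968 IH) (Lpe (f173330 IH) (Lpr_bt (f237463 IH) (Lpe (f38974 IH) (Lpr_bf (f398454 IH) (Lpr_ct (f391183 IH) (Lpe (f391294 IH) (Lpr_cf (K10.f52712 IH) (Lpn (LP (LK LD1_c25 LD2_c48 LD3_c11)))))))))))))
theorem f200791 : Led Lsl_ct (LP (LK LD1_c15 LD2_c52 LD3_c8)) = (LP (LK LD1_c25 LD2_c47 LD3_c54)) :=
  Lre_c IH (LK LD1_c15 LD2_c52 LD3_c8) (LK LD1_c25 LD2_c47 LD3_c54) Lrfl Lrfl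
theorem f244626 : Led Lsl_df (LP (LK LD1_c11 LD2_c8 LD3_c41)) = (LP (LK LD1_c15 LD2_c22 LD3_c23)) :=
  Lgr Lrot38 (Lpr_dt (K30.f244539 IH) (Lpn (LP (LK LD1_c15 LD2_c22 LD3_c23))))
theorem f244625 : Led Lsl_dt (LP (LK LD1_c19 LD2_c30 LD3_c12)) = (LP (LK LD1_c10 LD2_c46 LD3_c56)) :=
  Lre_d IH (LK LD1_c19 LD2_c30 LD3_c12) (LK LD1_c10 LD2_c46 LD3_c56) Lrfl Lrfl
theorem f200790 : Led Lsl_dt (LP (LK LD1_c8 LD2_c27 LD3_c5)) = (LP (LK LD1_c15 LD2_c52 LD3_c8)) :=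
  Lre_d IH (LK LD1_c8 LD2_c27 LD3_c5) (LK LD1_c15 LD2_c52 LD3_c8) Lrfl Lrfl
theorem f388713 : Led Lsl_gf (LP (LK LD1_c19 LD2_c30 LD3_c12)) = (LP (LK LD1_c15 LD2_c52 LD3_c8)) :=
  Lgr Lrot143 (Lpr_dt (f244625 IH) (Lpe (f244637 IH) (Lpr_df (f244626 IH) (Lpr_gf (f388709 IH) (Lpe (f196943 IH) (Lpe (K20.f196942 IH) (Lpe (K18.f52829 IH) (Lpr_gt (K15.f188948 IH) (Lpr_dt (f200790 IH) (Lpn (LP (LK LD1_c15 LD2_c52 LD3_c8))))))))))))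
theorem f295539 : Led Lsl_at (LP (LK LD1_c10 LD2_c46 LD3_c57)) = (LP (LK LD1_c19 LD2_c30 LD3_c12)) :=
  Lre_a IH (LK LD1_c10 LD2_c46 LD3_c57) (LK LD1_c19 LD2_c30 LD3_c12) Lrfl Lrfl
theorem f388718 : Led Lsl_gt (LP (LK LD1_c10 LD2_c53 LD3_c60)) = (LP (LK LD1_c15 LD2_c52 LD3_c8)) :=
  Lgr Lrot5 (Lpr_ft (K18.f295536 IH) (Lpr_at (f295539 IH) (Lpr_gf (f388713 IH) (Lpn (LP (LK LD1_c15 LD2_c52 LD3_c8))))))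
theorem f398491 : Led Lsl_df (LP (LK LD1_c26 LD2_c17 LD3_c22)) = (LP (LK LD1_c25 LD2_c50 LD3_c42)) :=
  Lgr Lrot155 (Lpr_gt (f398483 IH) (Lpe (K10.f52712 IH) (Lpr_gt (f391294 IH) (Lpr_ct (f391166 IH) (Lpe (f391167 IH) (Lpe (f200791 IH) (Lpe (f388718 IH) (Lpe (K18.f174995 IH) (Lpe (K30.f388206 IH) (Lpn (LP (LK LD1_c25 LD2_c50 LD3_c42))))))))))))
theorem f398579 : Led Lsl_bt (LP (LK LD1_c26 LD2_c17 LD3_c22)) = (LP (LK LD1_c16 LD2_c19 LD3_c29)) :=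
  Lre_b IH (LK LD1_c26 LD2_c17 LD3_c22) (LK LD1_c16 LD2_c19 LD3_c29) Lrfl Lrfl
theorem f398496 : Led Lsl_dt (LP (LK LD1_c16 LD2_c19 LD3_c29)) = (LP (LK LD1_c26 LD2_c17 LD3_c23)) :=
  Lre_d IH (LK LD1_c16 LD2_c19 LD3_c29) (LK LD1_c26 LD2_c17 LD3_c23) Lrfl Lrfl
theorem f398580 : Led Lsl_bt (LP (LK LD1_c26 LD2_c17 LD3_c23)) = (LP (LK LD1_c25 LD2_c50 LD3_c42)) :=
  Lgr Lrot95 (Lpe (f398496 IH) (Lpe (f398579 IH) (Lpr_df (f398491 IH) (Lpn (LP (LK LD1_c25 LD2_c50 LD3_c42))))))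
theorem f220902 : Led Lsl_ct (LP (LK LD1_c25 LD2_c50 LD3_c42)) = (LP (LK LD1_c15 LD2_c54 LD3_c36)) :=
  Lre_c IH (LK LD1_c25 LD2_c50 LD3_c42) (LK LD1_c15 LD2_c54 LD3_c36) Lrfl Lrfl
theorem f242667 : Led Lsl_gt (LP (LK LD1_c1 LD2_c3 LD3_c40)) = (LP (LK LD1_c1 LD2_c18 LD3_c40)) :=
  Lgr Lrot112 (Lpe (K10.f26944 IH) (Lpr_et (K10.f27016 IH) (Lpe (K10.f26947 IH) (Lpe (K11.f176893 IH) (Lpr_dt (K11.f177073 IH) (Lpe (K11.f26976 IH) (Lpe (K11.f26975 IH) (Lpe (K13.f177086 IH) (Lpr_ef (K17.f242661 IH) (Lpr_dt (K12.f172680 IH) (Lpn (LP (LK LD1_c1 LD2_c18 LD3_c40)))))))))))))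
theorem f174441 : Led Lsl_bt (LP (LK LD1_c2 LD2_c13 LD3_c10)) = (LP (LK LD1_c1 LD2_c3 LD3_c40)) :=
  Lre_b IH (LK LD1_c2 LD2_c13 LD3_c10) (LK LD1_c1 LD2_c3 LD3_c40) Lrfl Lrfl
theorem f174442 : Led Lsl_ct (LP (LK LD1_c4 LD2_c32 LD3_c14)) = (LP (LK LD1_c2 LD2_c13 LD3_c10)) :=
  Lre_c IH (LK LD1_c4 LD2_c32 LD3_c14) (LK LD1_c2 LD2_c13 LD3_c10) Lrfl Lrfl
theorem f174487 : Led Lsl_gt (LP (LK LD1_c16 LD2_c52 LD3_c16)) = (LP (LK LD1_c9 LD2_c2 LD3_c7)) :=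
  Lre_g IH (LK LD1_c16 LD2_c52 LD3_c16) (LK LD1_c9 LD2_c2 LD3_c7) Lrfl Lrfl
theorem f174488 : Led Lsl_bt (LP (LK LD1_c26 LD2_c49 LD3_c17)) = (LP (LK LD1_c16 LD2_c52 LD3_c16)) :=
  Lre_b IH (LK LD1_c26 LD2_c49 LD3_c17) (LK LD1_c16 LD2_c52 LD3_c16) Lrfl Lrfl
theorem f174967 : Led Lsl_bt (LP (LK LD1_c0 LD2_c7 LD3_c10)) = (LP (LK LD1_c0 LD2_c15 LD3_c56)) :=
  Lre_b IH (LK LD1_c0 LD2_c7 LD3_c10) (LK LD1_c0 LD2_c15 LD3_c56) Lrfl Lrfl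
theorem f242669 : Led Lsl_cf (LP (LK LD1_c26 LD2_c49 LD3_c17)) = (LP (LK LD1_c19 LD2_c28 LD3_c0)) :=
  Lgr Lrot89 (Lpr_bt (f174488 IH) (Lpr_gt (f174487 IH) (Lpr_dt (K20.f174468 IH) (Lpr_ct (f174442 IH) (Lpr_bt (f174441 IH) (Lpr_gt (f242667 IH) (Lpr_dt (K12.f172675 IH) (Lpr_ct (K12.f172672 IH) (Lpr_bt (K12.f211840 IH) (Lpr_gt (K12.f172556 IH) (Lpr_dt (K9.f172546 IH) (Lpr_ct (K9.f174961 IH) (Lpr_bt (f174967 IH) (Lpr_gt (K16.f174977 IH) (Lpr_dt (K16.f174978 IH) (Lpr_ct (K18.f174979 IH) (Lpr_bt (f174980 IH) (Lpr_gt (f174981 IH) (Lpr_dt (f174982 IH) (Lpn (LP (LK LD1_c19 LD2_c28 LD3_c0))))))))))))))))))))))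
theorem f398588 : Led Lsl_cf (LP (LK LD1_c26 LD2_c17 LD3_c23)) = (LP (LK LD1_c16 LD2_c52 LD3_c16)) :=
  Lgr Lrot97 (Lpr_bt (f398580 IH) (Lpr_ct (f220902 IH) (Lpr_bt (f388570 IH) (Lpe (f242669 IH) (Lpr_bt (f174488 IH) (Lpn (LP (LK LD1_c16 LD2_c52 LD3_c16))))))))
theorem f398596 : Led Lsl_ct (LP (LK LD1_c26 LD2_c17 LD3_c23)) = (LP (LK LD1_c16 LD2_c52 LD3_c16)) :=
  Lgr Lrot59 (Lpr_cf (f398588 IH) (Lpn (LP (LK LD1_c16 LD2_c52 LD3_c16))))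
theorem f388722 : Led Lsl_bt (LP (LK LD1_c25 LD2_c47 LD3_c54)) = (LP (LK LD1_c31 LD2_c59 LD3_c48)) :=
  Lre_b IH (LK LD1_c25 LD2_c47 LD3_c54) (LK LD1_c31 LD2_c59 LD3_c48) Lrfl Lrfl
theorem f280406 : Led Lsl_gt (LP (LK LD1_c11 LD2_c15 LD3_c21)) = (LP (LK LD1_c16 LD2_c52 LD3_c16)) :=
  Lgr Lrot5 (Lpr_ft (K16.f280392 IH) (Lpr_at (K16.f174490 IH) (Lpe (f174487 IH) (Lpn (LP (LK LD1_c16 LD2_c52 LD3_c16))))))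
theorem f181741 : Led Lsl_dt (LP (LK LD1_c2 LD2_c13 LD3_c10)) = (LP (LK LD1_c1 LD2_c3 LD3_c39)) :=
  Lre_d IH (LK LD1_c2 LD2_c13 LD3_c10) (LK LD1_c1 LD2_c3 LD3_c39) Lrfl Lrfl
theorem f181738 : Led Lsl_dt (LP (LK LD1_c2 LD2_c8 LD3_c52)) = (LP (LK LD1_c4 LD2_c22 LD3_c54)) :=
  Lre_d IH (LK LD1_c2 LD2_c8 LD3_c52) (LK LD1_c4 LD2_c22 LD3_c54) Lrfl Lrfl
theorem f280382 : Led Lsl_cf (LP (LK LD1_c11 LD2_c15 LD3_c21)) = (LP (LK LD1_c16 LD2_c20 LD3_c41)) :=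
  Lgr Lrot55 (Lpr_dt (K16.f268843 IH) (Lpr_ct (K16.f268833 IH) (Lpr_dt (K16.f268874 IH) (Lpr_ct (K16.f268851 IH) (Lpr_dt (K16.f280381 IH) (Lpr_ct (K16.f280380 IH) (Lpr_dt (K16.f280377 IH) (Lpr_ct (K16.f174492 IH) (Lpr_dt (K20.f174468 IH) (Lpr_ct (f174442 IH) (Lpr_dt (f181741 IH) (Lpe (K16.f181731 IH) (Lpr_dt (f181738 IH) (Lpr_ct (K16.f181739 IH) (Lpr_dt (K16.f181740 IH) (Lpn (LP (LK LD1_c16 LD2_c20 LD3_c41))))))))))))))))))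
theorem f181743 : Led Lsl_at (LP (LK LD1_c16 LD2_c20 LD3_c35)) = (LP (LK LD1_c8 LD2_c43 LD3_c38)) :=
  Lre_a IH (LK LD1_c16 LD2_c20 LD3_c35) (LK LD1_c8 LD2_c43 LD3_c38) Lrfl Lrfl
theorem f280366 : Led Lsl_af (LP (LK LD1_c11 LD2_c16 LD3_c5)) = (LP (LK LD1_c16 LD2_c20 LD3_c41)) :=
  Lgr Lrot117 (Lpr_dt (K16.f280364 IH) (Lpr_at (f181743 IH) (Lpr_dt (K16.f181740 IH) (Lpn (LP (LK LD1_c16 LD2_c20 LD3_c41))))))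
theorem f280372 : Led Lsl_ff (LP (LK LD1_c16 LD2_c20 LD3_c41)) = (LP (LK LD1_c11 LD2_c15 LD3_c42)) :=
  Lgr Lrot30 (Lpe (f280366 IH) (Lpr_ft (K16.f280369 IH) (Lpe (K16.f280272 IH) (Lpn (LP (LK LD1_c11 LD2_c15 LD3_c42))))))
theorem f280165 : Led Lsl_bt (LP (LK LD1_c20 LD2_c11 LD3_c9)) = (LP (LK LD1_c11 LD2_c15 LD3_c42)) :=
  Lre_b IH (LK LD1_c20 LD2_c11 LD3_c9) (LK LD1_c11 LD2_c15 LD3_c42) Lrfl Lrfl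
theorem f172810 : Led Lsl_dt (LP (LK LD1_c20 LD2_c11 LD3_c9)) = (LP (LK LD1_c11 LD2_c15 LD3_c41)) :=
  Lre_d IH (LK LD1_c20 LD2_c11 LD3_c9) (LK LD1_c11 LD2_c15 LD3_c41) Lrfl Lrfl
theorem f280132 : Led Lsl_dt (LP (LK LD1_c16 LD2_c17 LD3_c41)) = (LP (LK LD1_c26 LD2_c15 LD3_c38)) :=
  Lre_d IH (LK LD1_c16 LD2_c17 LD3_c41) (LK LD1_c26 LD2_c15 LD3_c38) Lrfl Lrfl
theorem f280157 : Led Lsl_ff (LP (LK LD1_c20 LD2_c11 LD3_c9)) = (LP (LK LD1_c26 LD2_c15 LD3_c38)) :=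
  Lgr Lrot19 (Lpr_dt (f172810 IH) (Lpr_ft (K17.f280150 IH) (Lpr_dt (f280132 IH) (Lpn (LP (LK LD1_c26 LD2_c15 LD3_c38))))))
theorem f281932 : Led Lsl_bt (LP (LK LD1_c16 LD2_c20 LD3_c41)) = (LP (LK LD1_c26 LD2_c15 LD3_c38)) :=
  Lgr Lrot35 (Lpr_ff (f280372 IH) (Lpe (f280165 IH) (Lpr_ff (f280157 IH) (Lpn (LP (LK LD1_c26 LD2_c15 LD3_c38))))))
theorem f398626 : Led Lsl_gt (LP (LK LD1_c31 LD2_c59 LD3_c48)) = (LP (LK LD1_c26 LD2_c15 LD3_c38)) :=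
  Lgr Lrot164 (Lpe (f388722 IH) (Lpr_ct (f388175 IH) (Lpe (f388718 IH) (Lpe (K18.f174995 IH) (Lpe (K30.f388206 IH) (Lpe (f398580 IH) (Lpr_ct (f398596 IH) (Lpe (f280406 IH) (Lpr_cf (f280382 IH) (Lpr_bt (f281932 IH) (Lpn (LP (LK LD1_c26 LD2_c15 LD3_c38)))))))))))))
theorem f388705 : Led Lsl_dt (LP (LK LD1_c8 LD2_c28 LD3_c22)) = (LP (LK LD1_c15 LD2_c22 LD3_c21)) :=
  Lgr Lrot44 (Lpe (K30.f388704 IH) (Lpe (K30.f52759 IH) (Lpr_af (K30.f388698 IH) (Lpn (LP (LK LD1_c15 LD2_c22 LD3_c21))))))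
theorem f228615 : Led Lsl_at (LP (LK LD1_c5 LD2_c38 LD3_c58)) = (LP (LK LD1_c11 LD2_c8 LD3_c50)) :=
  Lre_a IH (LK LD1_c5 LD2_c38 LD3_c58) (LK LD1_c11 LD2_c8 LD3_c50) Lrfl Lrfl
theorem f286717 : Led Lsl_gf (LP (LK LD1_c11 LD2_c8 LD3_c50)) = (LP (LK LD1_c15 LD2_c22 LD3_c21)) :=
  Lgr Lrot76 (Lpe (f228615 IH) (Lpr_ff (K17.f286705 IH) (Lpr_gt (K30.f226888 IH) (Lpn (LP (LK LD1_c15 LD2_c22 LD3_c21))))))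
theorem f228666 : Led Lsl_et (LP (LK LD1_c11 LD2_c8 LD3_c51)) = (LP (LK LD1_c5 LD2_c38 LD3_c58)) :=
  Lre_e IH (LK LD1_c11 LD2_c8 LD3_c51) (LK LD1_c5 LD2_c38 LD3_c58) Lrfl Lrfl
theorem f228591 : Led Lsl_dt (LP (LK LD1_c20 LD2_c2 LD3_c33)) = (LP (LK LD1_c11 LD2_c8 LD3_c51)) :=
  Lre_d IH (LK LD1_c20 LD2_c2 LD3_c33) (LK LD1_c11 LD2_c8 LD3_c51) Lrfl Lrfl
theorem f286756 : Led Lsl_dt (LP (LK LD1_c15 LD2_c22 LD3_c13)) = (LP (LK LD1_c25 LD2_c13 LD3_c55)) :=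
  Lre_d IH (LK LD1_c15 LD2_c22 LD3_c13) (LK LD1_c25 LD2_c13 LD3_c55) Lrfl Lrfl
theorem f286757 : Led Lsl_ef (LP (LK LD1_c20 LD2_c2 LD3_c33)) = (LP (LK LD1_c25 LD2_c13 LD3_c55)) :=
  Lgr Lrot73 (Lpr_dt (f228591 IH) (Lpr_et (f228666 IH) (Lpr_dt (f286713 IH) (Lpr_et (K14.f247279 IH) (Lpr_dt (f286756 IH) (Lpn (LP (LK LD1_c25 LD2_c13 LD3_c55))))))))
theorem f286768 : Led Lsl_et (LP (LK LD1_c20 LD2_c2 LD3_c33)) = (LP (LK LD1_c25 LD2_c13 LD3_c55)) :=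
  Lgr Lrot87 (Lpr_ef (f286757 IH) (Lpn (LP (LK LD1_c25 LD2_c13 LD3_c55))))
theorem f286773 : Led Lsl_ef (LP (LK LD1_c29 LD2_c15 LD3_c56)) = (LP (LK LD1_c31 LD2_c49 LD3_c13)) :=
  Lgr Lrot20 (Lpr_at (K18.f286771 IH) (Lpr_et (f286768 IH) (Lpr_at (K18.f286772 IH) (Lpn (LP (LK LD1_c31 LD2_c49 LD3_c13))))))
theorem f228629 : Led Lsl_et (LP (LK LD1_c20 LD2_c2 LD3_c30)) = (LP (LK LD1_c11 LD2_c8 LD3_c50)) :=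
  Lre_e IH (LK LD1_c20 LD2_c2 LD3_c30) (LK LD1_c11 LD2_c8 LD3_c50) Lrfl Lrfl
theorem f286779 : Led Lsl_dt (LP (LK LD1_c11 LD2_c8 LD3_c50)) = (LP (LK LD1_c15 LD2_c22 LD3_c12)) :=
  Lgr Lrot77 (Lpe (f228629 IH) (Lpe (K18.f228637 IH) (Lpr_ef (f286773 IH) (Lpe (K18.f286684 IH) (Lpe (K17.f286636 IH) (Lpn (LP (LK LD1_c15 LD2_c22 LD3_c12))))))))
theorem f295533 : Led Lsl_at (LP (LK LD1_c10 LD2_c53 LD3_c60)) = (LP (LK LD1_c19 LD2_c41 LD3_c56)) :=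
  Lre_a IH (LK LD1_c10 LD2_c53 LD3_c60) (LK LD1_c19 LD2_c41 LD3_c56) Lrfl Lrfl
theorem f295534 : Led Lsl_dt (LP (LK LD1_c19 LD2_c41 LD3_c56)) = (LP (LK LD1_c16 LD2_c44 LD3_c22)) :=
  Lgr Lrot44 (Lpe (f295533 IH) (Lpr_df (K18.f295526 IH) (Lpe (K17.f247295 IH) (Lpn (LP (LK LD1_c16 LD2_c44 LD3_c22))))))
theorem f244713 : Led Lsl_gt (LP (LK LD1_c10 LD2_c46 LD3_c57)) = (LP (LK LD1_c19 LD2_c30 LD3_c14)) :=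
  Lre_g IH (LK LD1_c10 LD2_c46 LD3_c57) (LK LD1_c19 LD2_c30 LD3_c14) Lrfl Lrfl
theorem f295553 : Led Lsl_gf (LP (LK LD1_c19 LD2_c41 LD3_c56)) = (LP (LK LD1_c19 LD2_c30 LD3_c14)) :=
  Lgr Lrot76 (Lpe (f295533 IH) (Lpr_ff (K18.f295545 IH) (Lpr_gt (f244713 IH) (Lpn (LP (LK LD1_c19 LD2_c30 LD3_c14))))))
theorem f392939 : Led Lsl_df (LP (LK LD1_c19 LD2_c30 LD3_c14)) = (LP (LK LD1_c15 LD2_c52 LD3_c10)) :=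
  Lgr Lrot153 (Lpe (f295553 IH) (Lpr_dt (f295534 IH) (Lpe (K17.f247296 IH) (Lpe (f286779 IH) (Lpr_gf (f286717 IH) (Lpe (f388705 IH) (Lpr_gf (K30.f389022 IH) (Lpe (K30.f52789 IH) (Lpr_gt (f389791 IH) (Lpn (LP (LK LD1_c15 LD2_c52 LD3_c10))))))))))))
theorem f244737 : Led Lsl_ct (LP (LK LD1_c19 LD2_c30 LD3_c14)) = (LP (LK LD1_c28 LD2_c52 LD3_c50)) :=
  Lre_c IH (LK LD1_c19 LD2_c30 LD3_c14) (LK LD1_c28 LD2_c52 LD3_c50) Lrfl Lrfl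
theorem f228625 : Led Lsl_dt (LP (LK LD1_c19 LD2_c12 LD3_c0)) = (LP (LK LD1_c10 LD2_c36 LD3_c6)) :=
  Lre_d IH (LK LD1_c19 LD2_c12 LD3_c0) (LK LD1_c10 LD2_c36 LD3_c6) Lrfl Lrfl
theorem f391192 : Led Lsl_ct (LP (LK LD1_c10 LD2_c36 LD3_c6)) = (LP (LK LD1_c19 LD2_c11 LD3_c61)) :=
  Lre_c IH (LK LD1_c10 LD2_c36 LD3_c6) (LK LD1_c19 LD2_c11 LD3_c61) Lrfl Lrfl
theorem f391193 : Led Lsl_df (LP (LK LD1_c15 LD2_c21 LD3_c30)) = (LP (LK LD1_c19 LD2_c11 LD3_c61)) :=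
  Lgr Lrot106 (Lpe (K11.f200771 IH) (Lpr_dt (f200781 IH) (Lpr_ct (f200782 IH) (Lpr_dt (f388169 IH) (Lpr_ct (f388161 IH) (Lpr_af (f389947 IH) (Lpr_ff (f391184 IH) (Lpr_dt (f228625 IH) (Lpr_ct (f391192 IH) (Lpn (LP (LK LD1_c19 LD2_c11 LD3_c61))))))))))))
theorem f391198 : Led Lsl_ft (LP (LK LD1_c20 LD2_c2 LD3_c56)) = (LP (LK LD1_c19 LD2_c11 LD3_c61)) :=
  Lgr Lrot54 (Lpe (f296680 IH) (Lpe (f389686 IH) (Lpr_df (f391193 IH) (Lpn (LP (LK LD1_c19 LD2_c11 LD3_c61))))))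
theorem f385127 : Led Lsl_gt (LP (LK LD1_c15 LD2_c53 LD3_c13)) = (LP (LK LD1_c25 LD2_c49 LD3_c16)) :=
  Lre_g IH (LK LD1_c15 LD2_c53 LD3_c13) (LK LD1_c25 LD2_c49 LD3_c16) Lrfl Lrfl
theorem f391239 : Led Lsl_af (LP (LK LD1_c25 LD2_c49 LD3_c16)) = (LP (LK LD1_c19 LD2_c11 LD3_c61)) :=
  Lgr Lrot31 (Lpe (f385127 IH) (Lpr_gf (f390030 IH) (Lpr_ft (f391198 IH) (Lpn (LP (LK LD1_c19 LD2_c11 LD3_c61))))))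
theorem f228624 : Led Lsl_ct (LP (LK LD1_c19 LD2_c11 LD3_c61)) = (LP (LK LD1_c10 LD2_c36 LD3_c6)) :=
  Lre_c IH (LK LD1_c19 LD2_c11 LD3_c61) (LK LD1_c10 LD2_c36 LD3_c6) Lrfl Lrfl
theorem f391169 : Led Lsl_dt (LP (LK LD1_c15 LD2_c21 LD3_c30)) = (LP (LK LD1_c19 LD2_c11 LD3_c61)) :=
  Lgr Lrot173 (Lpe (f200779 IH) (Lpe (f200793 IH) (Lpe (f200794 IH) (Lpr_df (f388171 IH) (Lpe (f228670 IH) (Lpe (f228622 IH) (Lpe (f228431 IH) (Lpe (f387942 IH) (Lpe (f218035 IH) (Lpe (f388160 IH) (Lpe (f388175 IH) (Lpr_df (f391167 IH) (Lpe (f391166 IH) (Lpe (f228626 IH) (Lpe (f228624 IH) (Lpn (LP (LK LD1_c19 LD2_c11 LD3_c61))))))))))))))))))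
theorem f391245 : Led Lsl_dt (LP (LK LD1_c25 LD2_c49 LD3_c16)) = (LP (LK LD1_c19 LD2_c49 LD3_c40)) :=
  Lgr Lrot44 (Lpr_af (f391239 IH) (Lpe (f391169 IH) (Lpe (f389819 IH) (Lpn (LP (LK LD1_c19 LD2_c49 LD3_c40))))))
theorem f389834 : Led Lsl_at (LP (LK LD1_c19 LD2_c11 LD3_c57)) = (LP (LK LD1_c20 LD2_c2 LD3_c56)) :=
  Lgr Lrot51 (Lpe (f387942 IH) (Lpr_af (f389826 IH) (Lpr_df (f296697 IH) (Lpn (LP (LK LD1_c20 LD2_c2 LD3_c56))))))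
theorem f391247 : Led Lsl_ft (LP (LK LD1_c25 LD2_c49 LD3_c16)) = (LP (LK LD1_c19 LD2_c11 LD3_c57)) :=
  Lgr Lrot101 (Lpr_af (f391239 IH) (Lpe (f391198 IH) (Lpe (f389834 IH) (Lpn (LP (LK LD1_c19 LD2_c11 LD3_c57))))))
theorem f391249 : Led Lsl_cf (LP (LK LD1_c25 LD2_c49 LD3_c16)) = (LP (LK LD1_c19 LD2_c3 LD3_c33)) :=
  Lgr Lrot108 (Lpr_ft (f391247 IH) (Lpr_ct (f228431 IH) (Lpr_ft (f389933 IH) (Lpn (LP (LK LD1_c19 LD2_c3 LD3_c33))))))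
theorem f389540 : Led Lsl_df (LP (LK LD1_c19 LD2_c3 LD3_c33)) = (LP (LK LD1_c25 LD2_c46 LD3_c4)) :=
  Lgr Lrot38 (Lpr_dt (f389538 IH) (Lpn (LP (LK LD1_c25 LD2_c46 LD3_c4))))
theorem f52783 : Led Lsl_ct (LP (LK LD1_c31 LD2_c59 LD3_c19)) = (LP (LK LD1_c25 LD2_c46 LD3_c5)) :=
  Lre_c IH (LK LD1_c31 LD2_c59 LD3_c19) (LK LD1_c25 LD2_c46 LD3_c5) Lrfl Lrfl
theorem f392954 : Led Lsl_dt (LP (LK LD1_c28 LD2_c52 LD3_c50)) = (LP (LK LD1_c31 LD2_c59 LD3_c19)) :=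
  Lgr Lrot120 (Lpe (f244737 IH) (Lpr_df (f392939 IH) (Lpe (f389801 IH) (Lpe (f391245 IH) (Lpr_cf (f391249 IH) (Lpr_df (f389540 IH) (Lpe (f389935 IH) (Lpr_at (f389945 IH) (Lpe (f52783 IH) (Lpn (LP (LK LD1_c31 LD2_c59 LD3_c19))))))))))))
theorem f392963 : Led Lsl_ff (LP (LK LD1_c28 LD2_c52 LD3_c50)) = (LP (LK LD1_c25 LD2_c47 LD3_c54)) :=
  Lgr Lrot19 (Lpr_dt (f392954 IH) (Lpr_ft (f391179 IH) (Lpe (f391167 IH) (Lpn (LP (LK LD1_c25 LD2_c47 LD3_c54))))))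
theorem f392967 : Led Lsl_ft (LP (LK LD1_c28 LD2_c52 LD3_c50)) = (LP (LK LD1_c25 LD2_c47 LD3_c54)) :=
  Lgr Lrot48 (Lpr_ff (f392963 IH) (Lpn (LP (LK LD1_c25 LD2_c47 LD3_c54))))
theorem f172814 : Led Lsl_gt (LP (LK LD1_c29 LD2_c20 LD3_c50)) = (LP (LK LD1_c20 LD2_c11 LD3_c9)) :=
  Lre_g IH (LK LD1_c29 LD2_c20 LD3_c50) (LK LD1_c20 LD2_c11 LD3_c9) Lrfl Lrfl
theorem f392941 : Led Lsl_bf (LP (LK LD1_c29 LD2_c20 LD3_c50)) = (LP (LK LD1_c28 LD2_c52 LD3_c50)) :=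
  Lgr Lrot184 (Lpr_gt (f172814 IH) (Lpr_dt (f172810 IH) (Lpe (K16.f172756 IH) (Lpr_bt (K16.f172753 IH) (Lpr_gt (K13.f238834 IH) (Lpe (K13.f238900 IH) (Lpr_ct (K14.f238727 IH) (Lpe (K14.f246699 IH) (Lpr_gt (K14.f246772 IH) (Lpr_dt (K15.f187158 IH) (Lpr_ct (K10.f187103 IH) (Lpr_bt (K10.f187104 IH) (Lpr_gt (K9.f53464 IH) (Lpr_dt (K15.f27438 IH) (Lpr_ct (K12.f187221 IH) (Lpr_bt (f187222 IH) (Lpr_gt (f389791 IH) (Lpe (f392939 IH) (Lpr_ct (f244737 IH) (Lpn (LP (LK LD1_c28 LD2_c52 LD3_c50))))))))))))))))))))))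
theorem f392943 : Led Lsl_bt (LP (LK LD1_c29 LD2_c20 LD3_c50)) = (LP (LK LD1_c28 LD2_c52 LD3_c50)) :=
  Lgr Lrot127 (Lpr_bf (f392941 IH) (Lpn (LP (LK LD1_c28 LD2_c52 LD3_c50))))
theorem f392975 : Led Lsl_ff (LP (LK LD1_c29 LD2_c20 LD3_c50)) = (LP (LK LD1_c31 LD2_c59 LD3_c48)) :=
  Lgr Lrot25 (Lpr_bt (f392943 IH) (Lpr_ft (f392967 IH) (Lpr_bt (f388722 IH) (Lpn (LP (LK LD1_c31 LD2_c59 LD3_c48))))))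
theorem f280166 : Led Lsl_gt (LP (LK LD1_c26 LD2_c15 LD3_c38)) = (LP (LK LD1_c32 LD2_c6 LD3_c35)) :=
  Lre_g IH (LK LD1_c26 LD2_c15 LD3_c38) (LK LD1_c32 LD2_c6 LD3_c35) Lrfl Lrfl
theorem f398630 : Led Lsl_at (LP (LK LD1_c29 LD2_c20 LD3_c50)) = (LP (LK LD1_c32 LD2_c6 LD3_c35)) :=
  Lgr Lrot26 (Lpr_ff (f392975 IH) (Lpr_gt (f398626 IH) (Lpr_gt (f280166 IH) (Lpn (LP (LK LD1_c32 LD2_c6 LD3_c35))))))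
theorem f373706 : Led Lsl_dt (LP (LK LD1_c19 LD2_c4 LD3_c61)) = (LP (LK LD1_c10 LD2_c32 LD3_c0)) :=
  Lre_d IH (LK LD1_c19 LD2_c4 LD3_c61) (LK LD1_c10 LD2_c32 LD3_c0) Lrfl Lrfl
theorem f374513 : Led Lsl_ff (LP (LK LD1_c19 LD2_c4 LD3_c61)) = (LP (LK LD1_c10 LD2_c40 LD3_c25)) :=
  Lgr Lrot19 (Lpr_dt (f373706 IH) (Lpr_ft (f374506 IH) (Lpr_dt (K27.f374474 IH) (Lpn (LP (LK LD1_c10 LD2_c40 LD3_c25))))))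
theorem f397272 : Led Lsl_gt (LP (LK LD1_c5 LD2_c25 LD3_c29)) = (LP (LK LD1_c10 LD2_c40 LD3_c21)) :=
  Lgr Lrot46 (Lpr_gf (K30.f397268 IH) (Lpe (f374513 IH) (Lpe (K27.f373735 IH) (Lpn (LP (LK LD1_c10 LD2_c40 LD3_c21))))))
theorem f50647 : Led Lsl_af (LP (LK LD1_c8 LD2_c2 LD3_c45)) = (LP (LK LD1_c10 LD2_c23 LD3_c23)) :=
  Lgr Lrot0 (Lpr_at (K12.f50645 IH) (Lpn (LP (LK LD1_c10 LD2_c23 LD3_c23))))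
theorem f246420 : Led Lsl_ff (LP (LK LD1_c10 LD2_c23 LD3_c23)) = (LP (LK LD1_c9 LD2_c41 LD3_c30)) :=
  Lgr Lrot103 (Lpe (f50647 IH) (Lpe (K15.f223811 IH) (Lpr_df (K12.f224548 IH) (Lpr_cf (K12.f224435 IH) (Lpe (K13.f214015 IH) (Lpe (K14.f223878 IH) (Lpe (K12.f196585 IH) (Lpr_cf (K12.f217302 IH) (Lpr_df (K14.f246405 IH) (Lpn (LP (LK LD1_c9 LD2_c41 LD3_c30))))))))))))
theorem f263762 : Led Lsl_gt (LP (LK LD1_c9 LD2_c41 LD3_c30)) = (LP (LK LD1_c4 LD2_c55 LD3_c12)) :=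
  Lgr Lrot5 (Lpe (f246420 IH) (Lpe (f50647 IH) (Lpr_gf (K15.f263728 IH) (Lpn (LP (LK LD1_c4 LD2_c55 LD3_c12))))))
theorem f396923 : Led Lsl_gf (LP (LK LD1_c17 LD2_c43 LD3_c60)) = (LP (LK LD1_c9 LD2_c38 LD3_c28)) :=
  Lgr Lrot47 (Lpr_gt (K30.f396921 IH) (Lpe (K27.f373769 IH) (Lpr_ff (K27.f373761 IH) (Lpn (LP (LK LD1_c9 LD2_c38 LD3_c28))))))
theorem f396925 : Led Lsl_ct (LP (LK LD1_c27 LD2_c30 LD3_c46)) = (LP (LK LD1_c17 LD2_c43 LD3_c60)) :=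
  Lre_c IH (LK LD1_c27 LD2_c30 LD3_c46) (LK LD1_c17 LD2_c43 LD3_c60) Lrfl Lrfl
theorem f397420 : Led Lsl_bf (LP (LK LD1_c25 LD2_c46 LD3_c5)) = (LP (LK LD1_c27 LD2_c30 LD3_c46)) :=
  Lgr Lrot156 (Lpr_gt (f51196 IH) (Lpe (f217769 IH) (Lpr_ct (K26.f246413 IH) (Lpr_gt (f263762 IH) (Lpr_cf (K15.f246455 IH) (Lpr_bt (K15.f224123 IH) (Lpr_gt (f397272 IH) (Lpe (K18.f246598 IH) (Lpe (f396923 IH) (Lpe (f396925 IH) (Lpn (LP (LK LD1_c27 LD2_c30 LD3_c46)))))))))))))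
theorem f229720 : Led Lsl_ct (LP (LK LD1_c17 LD2_c43 LD3_c60)) = (LP (LK LD1_c27 LD2_c30 LD3_c46)) :=
  Lre_c IH (LK LD1_c17 LD2_c43 LD3_c60) (LK LD1_c27 LD2_c30 LD3_c46) Lrfl Lrfl
theorem f396927 : Led Lsl_bt (LP (LK LD1_c27 LD2_c30 LD3_c45)) = (LP (LK LD1_c17 LD2_c43 LD3_c60)) :=
  Lre_b IH (LK LD1_c27 LD2_c30 LD3_c45) (LK LD1_c17 LD2_c43 LD3_c60) Lrfl Lrfl
theorem f236500 : Led Lsl_bt (LP (LK LD1_c9 LD2_c44 LD3_c61)) = (LP (LK LD1_c4 LD2_c56 LD3_c55)) :=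
  Lre_b IH (LK LD1_c9 LD2_c44 LD3_c61) (LK LD1_c4 LD2_c56 LD3_c55) Lrfl Lrfl
theorem f236501 : Led Lsl_ct (LP (LK LD1_c9 LD2_c44 LD3_c61)) = (LP (LK LD1_c17 LD2_c54 LD3_c21)) :=
  Lre_c IH (LK LD1_c9 LD2_c44 LD3_c61) (LK LD1_c17 LD2_c54 LD3_c21) Lrfl Lrfl
theorem f236843 : Led Lsl_gt (LP (LK LD1_c27 LD2_c39 LD3_c57)) = (LP (LK LD1_c17 LD2_c54 LD3_c21)) :=
  Lre_g IH (LK LD1_c27 LD2_c39 LD3_c57) (LK LD1_c17 LD2_c54 LD3_c21) Lrfl Lrfl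
theorem f396929 : Led Lsl_ct (LP (LK LD1_c27 LD2_c30 LD3_c45)) = (LP (LK LD1_c27 LD2_c39 LD3_c57)) :=
  Lgr Lrot64 (Lpr_bt (f396927 IH) (Lpr_gf (f396923 IH) (Lpe (K30.f197737 IH) (Lpe (K12.f197738 IH) (Lpe (K12.f37779 IH) (Lpe (K12.f39257 IH) (Lpr_gf (K13.f236493 IH) (Lpe (f236500 IH) (Lpr_ct (f236501 IH) (Lpe (f236843 IH) (Lpn (LP (LK LD1_c27 LD2_c39 LD3_c57)))))))))))))
theorem f396932 : Led Lsl_cf (LP (LK LD1_c27 LD2_c30 LD3_c45)) = (LP (LK LD1_c27 LD2_c39 LD3_c57)) :=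
  Lgr Lrot11 (Lpr_ct (f396929 IH) (Lpn (LP (LK LD1_c27 LD2_c39 LD3_c57))))
theorem f397425 : Led Lsl_bt (LP (LK LD1_c31 LD2_c59 LD3_c19)) = (LP (LK LD1_c27 LD2_c39 LD3_c57)) :=
  Lgr Lrot128 (Lpe (f217804 IH) (Lpr_bf (f397420 IH) (Lpe (f229720 IH) (Lpe (f396927 IH) (Lpr_cf (f396932 IH) (Lpn (LP (LK LD1_c27 LD2_c39 LD3_c57))))))))
theorem f397429 : Led Lsl_df (LP (LK LD1_c29 LD2_c20 LD3_c50)) = (LP (LK LD1_c27 LD2_c39 LD3_c57)) :=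
  Lgr Lrot12 (Lpr_bt (f392943 IH) (Lpr_dt (f392954 IH) (Lpr_bt (f397425 IH) (Lpn (LP (LK LD1_c27 LD2_c39 LD3_c57))))))
theorem f398411 : Led Lsl_bt (LP (LK LD1_c16 LD2_c15 LD3_c8)) = (LP (LK LD1_c26 LD2_c12 LD3_c41)) :=
  Lre_b IH (LK LD1_c16 LD2_c15 LD3_c8) (LK LD1_c26 LD2_c12 LD3_c41) Lrfl Lrfl
theorem f270422 : Led Lsl_bt (LP (LK LD1_c16 LD2_c16 LD3_c4)) = (LP (LK LD1_c8 LD2_c41 LD3_c8)) :=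
  Lre_b IH (LK LD1_c16 LD2_c16 LD3_c4) (LK LD1_c8 LD2_c41 LD3_c8) Lrfl Lrfl
theorem f398412 : Led Lsl_dt (LP (LK LD1_c26 LD2_c12 LD3_c41)) = (LP (LK LD1_c16 LD2_c16 LD3_c4)) :=
  Lgr Lrot79 (Lpe (f398411 IH) (Lpr_df (f398409 IH) (Lpe (f270422 IH) (Lpn (LP (LK LD1_c16 LD2_c16 LD3_c4))))))
theorem f270423 : Led Lsl_ct (LP (LK LD1_c16 LD2_c17 LD3_c36)) = (LP (LK LD1_c16 LD2_c16 LD3_c4)) :=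
  Lre_c IH (LK LD1_c16 LD2_c17 LD3_c36) (LK LD1_c16 LD2_c16 LD3_c4) Lrfl Lrfl
theorem f282020 : Led Lsl_gt (LP (LK LD1_c16 LD2_c17 LD3_c36)) = (LP (LK LD1_c8 LD2_c41 LD3_c56)) :=
  Lre_g IH (LK LD1_c16 LD2_c17 LD3_c36) (LK LD1_c8 LD2_c41 LD3_c56) Lrfl Lrfl
theorem f282021 : Led Lsl_gt (LP (LK LD1_c20 LD2_c54 LD3_c39)) = (LP (LK LD1_c16 LD2_c17 LD3_c36)) :=
  Lgr Lrot5 (Lpr_ft (K17.f282011 IH) (Lpr_at (K17.f237560 IH) (Lpe (f282020 IH) (Lpn (LP (LK LD1_c16 LD2_c17 LD3_c36))))))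
theorem f229265 : Led Lsl_gt (LP (LK LD1_c4 LD2_c22 LD3_c3)) = (LP (LK LD1_c8 LD2_c41 LD3_c53)) :=
  Lre_g IH (LK LD1_c4 LD2_c22 LD3_c3) (LK LD1_c8 LD2_c41 LD3_c53) Lrfl Lrfl
theorem f280130 : Led Lsl_gf (LP (LK LD1_c14 LD2_c57 LD3_c36)) = (LP (LK LD1_c8 LD2_c41 LD3_c53)) :=
  Lgr Lrot76 (Lpe (K16.f280106 IH) (Lpr_ff (K16.f280108 IH) (Lpr_gt (f229265 IH) (Lpn (LP (LK LD1_c8 LD2_c41 LD3_c53))))))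
theorem f229266 : Led Lsl_dt (LP (LK LD1_c8 LD2_c41 LD3_c53)) = (LP (LK LD1_c16 LD2_c17 LD3_c28)) :=
  Lre_d IH (LK LD1_c8 LD2_c41 LD3_c53) (LK LD1_c16 LD2_c17 LD3_c28) Lrfl Lrfl
theorem f398456 : Led Lsl_gf (LP (LK LD1_c17 LD2_c54 LD3_c29)) = (LP (LK LD1_c16 LD2_c17 LD3_c28)) :=
  Lgr Lrot179 (Lpr_ct (f236846 IH) (Lpr_gt (f298322 IH) (Lpr_ct (f398451 IH) (Lpr_dt (f398412 IH) (Lpe (f270423 IH) (Lpe (f282021 IH) (Lpr_cf (K17.f282017 IH) (Lpr_gf (f280130 IH) (Lpr_dt (f229266 IH) (Lpn (LP (LK LD1_c16 LD2_c17 LD3_c28))))))))))))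
theorem f236853 : Led Lsl_at (LP (LK LD1_c9 LD2_c44 LD3_c61)) = (LP (LK LD1_c17 LD2_c54 LD3_c29)) :=
  Lre_a IH (LK LD1_c9 LD2_c44 LD3_c61) (LK LD1_c17 LD2_c54 LD3_c29) Lrfl Lrfl
theorem f298228 : Led Lsl_df (LP (LK LD1_c8 LD2_c42 LD3_c19)) = (LP (LK LD1_c4 LD2_c22 LD3_c42)) :=
  Lgr Lrot18 (Lpr_at (f298182 IH) (Lpr_dt (f298224 IH) (Lpr_at (K19.f298189 IH) (Lpn (LP (LK LD1_c4 LD2_c22 LD3_c42))))))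
theorem f298269 : Led Lsl_ff (LP (LK LD1_c9 LD2_c44 LD3_c61)) = (LP (LK LD1_c8 LD2_c42 LD3_c19)) :=
  Lgr Lrot19 (Lpe (f236755 IH) (Lpr_ft (K19.f298245 IH) (Lpe (f298228 IH) (Lpn (LP (LK LD1_c8 LD2_c42 LD3_c19))))))
theorem f398458 : Led Lsl_gt (LP (LK LD1_c8 LD2_c42 LD3_c19)) = (LP (LK LD1_c16 LD2_c17 LD3_c28)) :=
  Lgr Lrot5 (Lpe (f298269 IH) (Lpr_at (f236853 IH) (Lpr_gf (f398456 IH) (Lpn (LP (LK LD1_c16 LD2_c17 LD3_c28))))))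
theorem f38973 : Led Lsl_ct (LP (LK LD1_c8 LD2_c42 LD3_c19)) = (LP (LK LD1_c16 LD2_c18 LD3_c31)) :=
  Lre_c IH (LK LD1_c8 LD2_c42 LD3_c19) (LK LD1_c16 LD2_c18 LD3_c31) Lrfl Lrfl
theorem f39304 : Led Lsl_gt (LP (LK LD1_c16 LD2_c18 LD3_c31)) = (LP (LK LD1_c26 LD2_c16 LD3_c17)) :=
  Lre_g IH (LK LD1_c16 LD2_c18 LD3_c31) (LK LD1_c26 LD2_c16 LD3_c17) Lrfl Lrfl
theorem f280133 : Led Lsl_dt (LP (LK LD1_c16 LD2_c17 LD3_c28)) = (LP (LK LD1_c8 LD2_c41 LD3_c53)) :=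
  Lre_d IH (LK LD1_c16 LD2_c17 LD3_c28) (LK LD1_c8 LD2_c41 LD3_c53) Lrfl Lrfl
theorem f172829 : Led Lsl_dt (LP (LK LD1_c29 LD2_c20 LD3_c48)) = (LP (LK LD1_c20 LD2_c11 LD3_c8)) :=
  Lre_d IH (LK LD1_c29 LD2_c20 LD3_c48) (LK LD1_c20 LD2_c11 LD3_c8) Lrfl Lrfl
theorem f280161 : Led Lsl_at (LP (LK LD1_c20 LD2_c11 LD3_c9)) = (LP (LK LD1_c29 LD2_c20 LD3_c48)) :=
  Lre_a IH (LK LD1_c20 LD2_c11 LD3_c9) (LK LD1_c29 LD2_c20 LD3_c48) Lrfl Lrfl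
theorem f280167 : Led Lsl_gf (LP (LK LD1_c29 LD2_c20 LD3_c48)) = (LP (LK LD1_c32 LD2_c6 LD3_c35)) :=
  Lgr Lrot76 (Lpe (f280161 IH) (Lpr_ff (f280157 IH) (Lpr_gt (f280166 IH) (Lpn (LP (LK LD1_c32 LD2_c6 LD3_c35))))))
theorem f398466 : Led Lsl_dt (LP (LK LD1_c26 LD2_c16 LD3_c17)) = (LP (LK LD1_c32 LD2_c6 LD3_c35)) :=
  Lgr Lrot57 (Lpe (f39304 IH) (Lpe (f38973 IH) (Lpr_gt (f398458 IH) (Lpr_dt (f280133 IH) (Lpe (f280130 IH) (Lpe (K17.f280180 IH) (Lpr_cf (K17.f172822 IH) (Lpe (f172829 IH) (Lpr_gf (f280167 IH) (Lpn (LP (LK LD1_c32 LD2_c6 LD3_c35))))))))))))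
theorem f398473 : Led Lsl_df (LP (LK LD1_c26 LD2_c16 LD3_c17)) = (LP (LK LD1_c32 LD2_c6 LD3_c35)) :=
  Lgr Lrot38 (Lpr_dt (f398466 IH) (Lpn (LP (LK LD1_c32 LD2_c6 LD3_c35))))
theorem f398643 : Led Lsl_af (LP (LK LD1_c27 LD2_c39 LD3_c57)) = (LP (LK LD1_c26 LD2_c16 LD3_c17)) :=
  Lgr Lrot117 (Lpe (f397429 IH) (Lpr_at (f398630 IH) (Lpe (f398473 IH) (Lpn (LP (LK LD1_c26 LD2_c16 LD3_c17))))))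
theorem f298296 : Led Lsl_ft (LP (LK LD1_c17 LD2_c54 LD3_c29)) = (LP (LK LD1_c16 LD2_c18 LD3_c30)) :=
  Lgr Lrot48 (Lpr_ff (f298287 IH) (Lpn (LP (LK LD1_c16 LD2_c18 LD3_c30))))
theorem f236851 : Led Lsl_ct (LP (LK LD1_c27 LD2_c39 LD3_c58)) = (LP (LK LD1_c17 LD2_c54 LD3_c29)) :=
  Lre_c IH (LK LD1_c27 LD2_c39 LD3_c58) (LK LD1_c17 LD2_c54 LD3_c29) Lrfl Lrfl
theorem f298222 : Led Lsl_ct (LP (LK LD1_c16 LD2_c18 LD3_c30)) = (LP (LK LD1_c26 LD2_c16 LD3_c16)) :=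
  Lre_c IH (LK LD1_c16 LD2_c18 LD3_c30) (LK LD1_c26 LD2_c16 LD3_c16) Lrfl Lrfl
theorem f298300 : Led Lsl_ff (LP (LK LD1_c27 LD2_c39 LD3_c58)) = (LP (LK LD1_c26 LD2_c16 LD3_c16)) :=
  Lgr Lrot23 (Lpr_ct (f236851 IH) (Lpr_ft (f298296 IH) (Lpr_ct (f298222 IH) (Lpn (LP (LK LD1_c26 LD2_c16 LD3_c16))))))
theorem f298302 : Led Lsl_at (LP (LK LD1_c27 LD2_c39 LD3_c58)) = (LP (LK LD1_c17 LD2_c54 LD3_c21)) :=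
  Lre_a IH (LK LD1_c27 LD2_c39 LD3_c58) (LK LD1_c17 LD2_c54 LD3_c21) Lrfl Lrfl
theorem f298305 : Led Lsl_gf (LP (LK LD1_c27 LD2_c39 LD3_c57)) = (LP (LK LD1_c26 LD2_c16 LD3_c16)) :=
  Lgr Lrot47 (Lpr_gt (f236843 IH) (Lpe (f298302 IH) (Lpr_ff (f298300 IH) (Lpn (LP (LK LD1_c26 LD2_c16 LD3_c16))))))
theorem f298226 : Led Lsl_at (LP (LK LD1_c16 LD2_c18 LD3_c31)) = (LP (LK LD1_c26 LD2_c16 LD3_c16)) :=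
  Lre_a IH (LK LD1_c16 LD2_c18 LD3_c31) (LK LD1_c26 LD2_c16 LD3_c16) Lrfl Lrfl
theorem f298303 : Led Lsl_ft (LP (LK LD1_c17 LD2_c54 LD3_c21)) = (LP (LK LD1_c16 LD2_c18 LD3_c31)) :=
  Lgr Lrot101 (Lpe (f298302 IH) (Lpr_ff (f298300 IH) (Lpe (f298226 IH) (Lpn (LP (LK LD1_c16 LD2_c18 LD3_c31))))))
theorem f236502 : Led Lsl_gt (LP (LK LD1_c17 LD2_c54 LD3_c21)) = (LP (LK LD1_c27 LD2_c39 LD3_c56)) :=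
  Lre_g IH (LK LD1_c17 LD2_c54 LD3_c21) (LK LD1_c27 LD2_c39 LD3_c56) Lrfl Lrfl
theorem f298312 : Led Lsl_gt (LP (LK LD1_c27 LD2_c39 LD3_c56)) = (LP (LK LD1_c26 LD2_c16 LD3_c16)) :=
  Lgr Lrot46 (Lpe (f236502 IH) (Lpr_ft (f298303 IH) (Lpr_at (f298226 IH) (Lpn (LP (LK LD1_c26 LD2_c16 LD3_c16))))))
theorem f398653 : Led Lsl_ft (LP (LK LD1_c27 LD2_c39 LD3_c56)) = (LP (LK LD1_c26 LD2_c16 LD3_c17)) :=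
  Lgr Lrot2 (Lpr_gt (f298312 IH) (Lpe (f298305 IH) (Lpr_af (f398643 IH) (Lpn (LP (LK LD1_c26 LD2_c16 LD3_c17))))))
theorem f398657 : Led Lsl_ff (LP (LK LD1_c27 LD2_c39 LD3_c56)) = (LP (LK LD1_c26 LD2_c16 LD3_c17)) :=
  Lgr Lrot3 (Lpr_ft (f398653 IH) (Lpn (LP (LK LD1_c26 LD2_c16 LD3_c17))))
theorem f398649 : Led Lsl_at (LP (LK LD1_c27 LD2_c39 LD3_c57)) = (LP (LK LD1_c26 LD2_c16 LD3_c17)) :=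
  Lgr Lrot100 (Lpr_af (f398643 IH) (Lpn (LP (LK LD1_c26 LD2_c16 LD3_c17))))
theorem f397427 : Led Lsl_bf (LP (LK LD1_c31 LD2_c59 LD3_c19)) = (LP (LK LD1_c27 LD2_c39 LD3_c57)) :=
  Lgr Lrot24 (Lpr_bt (f397425 IH) (Lpn (LP (LK LD1_c27 LD2_c39 LD3_c57))))
theorem f398479 : Led Lsl_ft (LP (LK LD1_c26 LD2_c16 LD3_c18)) = (LP (LK LD1_c27 LD2_c39 LD3_c57)) :=
  Lgr Lrot75 (Lpr_bf (f398454 IH) (Lpe (f391179 IH) (Lpr_bf (f397427 IH) (Lpn (LP (LK LD1_c27 LD2_c39 LD3_c57))))))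
theorem f398659 : Led Lsl_at (LP (LK LD1_c27 LD2_c39 LD3_c56)) = (LP (LK LD1_c26 LD2_c16 LD3_c18)) :=
  Lgr Lrot66 (Lpr_ff (f398657 IH) (Lpe (f398649 IH) (Lpe (f398479 IH) (Lpn (LP (LK LD1_c26 LD2_c16 LD3_c18))))))
theorem f398665 : Led Lsl_af (LP (LK LD1_c27 LD2_c39 LD3_c56)) = (LP (LK LD1_c26 LD2_c16 LD3_c18)) :=
  Lgr Lrot0 (Lpr_at (f398659 IH) (Lpn (LP (LK LD1_c26 LD2_c16 LD3_c18))))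
theorem f398669 : Led Lsl_ft (LP (LK LD1_c27 LD2_c39 LD3_c57)) = (LP (LK LD1_c26 LD2_c16 LD3_c18)) :=
  Lgr Lrot101 (Lpr_af (f398643 IH) (Lpe (f398653 IH) (Lpr_af (f398665 IH) (Lpn (LP (LK LD1_c26 LD2_c16 LD3_c18))))))
theorem f398671 : Led Lsl_ff (LP (LK LD1_c27 LD2_c30 LD3_c45)) = (LP (LK LD1_c26 LD2_c12 LD3_c41)) :=
  Lgr Lrot23 (Lpr_ct (f396929 IH) (Lpr_ft (f398669 IH) (Lpr_ct (f398451 IH) (Lpn (LP (LK LD1_c26 LD2_c12 LD3_c41))))))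
theorem f398677 : Led Lsl_ft (LP (LK LD1_c27 LD2_c30 LD3_c45)) = (LP (LK LD1_c26 LD2_c12 LD3_c41)) :=
  Lgr Lrot48 (Lpr_ff (f398671 IH) (Lpn (LP (LK LD1_c26 LD2_c12 LD3_c41))))
theorem f396934 : Led Lsl_dt (LP (LK LD1_c17 LD2_c43 LD3_c59)) = (LP (LK LD1_c27 LD2_c30 LD3_c45)) :=
  Lre_d IH (LK LD1_c17 LD2_c43 LD3_c59) (LK LD1_c27 LD2_c30 LD3_c45) Lrfl Lrfl
theorem f398681 : Led Lsl_ff (LP (LK LD1_c17 LD2_c43 LD3_c59)) = (LP (LK LD1_c16 LD2_c16 LD3_c4)) :=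
  Lgr Lrot19 (Lpr_dt (f396934 IH) (Lpr_ft (f398677 IH) (Lpr_dt (f398412 IH) (Lpn (LP (LK LD1_c16 LD2_c16 LD3_c4))))))
theorem f229444 : Led Lsl_bt (LP (LK LD1_c17 LD2_c43 LD3_c59)) = (LP (LK LD1_c9 LD2_c38 LD3_c8)) :=
  Lre_b IH (LK LD1_c17 LD2_c43 LD3_c59) (LK LD1_c9 LD2_c38 LD3_c8) Lrfl Lrfl
theorem f397923 : Led Lsl_bt (LP (LK LD1_c8 LD2_c41 LD3_c8)) = (LP (LK LD1_c16 LD2_c16 LD3_c4)) :=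
  Lre_b IH (LK LD1_c8 LD2_c41 LD3_c8) (LK LD1_c16 LD2_c16 LD3_c4) Lrfl Lrfl
theorem f398685 : Led Lsl_ft (LP (LK LD1_c9 LD2_c38 LD3_c8)) = (LP (LK LD1_c8 LD2_c41 LD3_c8)) :=
  Lgr Lrot75 (Lpe (f229444 IH) (Lpr_ff (f398681 IH) (Lpe (f397923 IH) (Lpn (LP (LK LD1_c8 LD2_c41 LD3_c8))))))
theorem f398746 : Led Lsl_af (LP (LK LD1_c9 LD2_c38 LD3_c9)) = (LP (LK LD1_c8 LD2_c41 LD3_c8)) :=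
  Lgr Lrot31 (Lpr_gf (K30.f397450 IH) (Lpe (K30.f270433 IH) (Lpr_ft (f398685 IH) (Lpn (LP (LK LD1_c8 LD2_c41 LD3_c8))))))
theorem f270420 : Led Lsl_ct (LP (LK LD1_c16 LD2_c16 LD3_c5)) = (LP (LK LD1_c8 LD2_c41 LD3_c8)) :=
  Lre_c IH (LK LD1_c16 LD2_c16 LD3_c5) (LK LD1_c8 LD2_c41 LD3_c8) Lrfl Lrfl
theorem f398750 : Led Lsl_at (LP (LK LD1_c16 LD2_c0 LD3_c46)) = (LP (LK LD1_c16 LD2_c16 LD3_c5)) :=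
  Lgr Lrot107 (Lpr_cf (K20.f250559 IH) (Lpr_af (f398746 IH) (Lpe (f270420 IH) (Lpn (LP (LK LD1_c16 LD2_c16 LD3_c5))))))
theorem f167055 : Led Lsl_ct (LP (LK LD1_c8 LD2_c23 LD3_c40)) = (LP (LK LD1_c4 LD2_c53 LD3_c37)) :=
  Lgr Lrot59 (Lpr_cf (K30.f167048 IH) (Lpn (LP (LK LD1_c4 LD2_c53 LD3_c37))))
theorem f167058 : Led Lsl_cf (LP (LK LD1_c15 LD2_c47 LD3_c7)) = (LP (LK LD1_c9 LD2_c39 LD3_c8)) :=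
  Lgr Lrot97 (Lpr_bt (K30.f51861 IH) (Lpr_ct (f167055 IH) (Lpr_bt (K30.f2295 IH) (Lpr_ct (K27.f2289 IH) (Lpr_bt (K27.f2296 IH) (Lpn (LP (LK LD1_c9 LD2_c39 LD3_c8))))))))
theorem f167061 : Led Lsl_at (LP (LK LD1_c15 LD2_c47 LD3_c7)) = (LP (LK LD1_c25 LD2_c43 LD3_c52)) :=
  Lre_a IH (LK LD1_c15 LD2_c47 LD3_c7) (LK LD1_c25 LD2_c43 LD3_c52) Lrfl Lrfl
theorem f397613 : Led Lsl_cf (LP (LK LD1_c16 LD2_c17 LD3_c50)) = (LP (LK LD1_c25 LD2_c43 LD3_c52)) :=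
  Lgr Lrot1 (Lpr_at (K30.f397602 IH) (Lpe (f167058 IH) (Lpr_at (f167061 IH) (Lpn (LP (LK LD1_c25 LD2_c43 LD3_c52))))))
theorem f397919 : Led Lsl_ct (LP (LK LD1_c8 LD2_c42 LD3_c7)) = (LP (LK LD1_c16 LD2_c1 LD3_c44)) :=
  Lgr Lrot40 (Lpe (K30.f397632 IH) (Lpr_cf (f397613 IH) (Lpr_ff (K30.f397917 IH) (Lpn (LP (LK LD1_c16 LD2_c1 LD3_c44))))))
theorem f39494 : Led Lsl_ct (LP (LK LD1_c2 LD2_c8 LD3_c31)) = (LP (LK LD1_c4 LD2_c21 LD3_c14)) :=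
  Lre_c IH (LK LD1_c2 LD2_c8 LD3_c31) (LK LD1_c4 LD2_c21 LD3_c14) Lrfl Lrfl
theorem f219595 : Led Lsl_gt (LP (LK LD1_c4 LD2_c21 LD3_c14)) = (LP (LK LD1_c8 LD2_c40 LD3_c5)) :=
  Lre_g IH (LK LD1_c4 LD2_c21 LD3_c14) (LK LD1_c8 LD2_c40 LD3_c5) Lrfl Lrfl
theorem f39717 : Led Lsl_ct (LP (LK LD1_c16 LD2_c13 LD3_c60)) = (LP (LK LD1_c8 LD2_c40 LD3_c5)) :=
  Lre_c IH (LK LD1_c16 LD2_c13 LD3_c60) (LK LD1_c8 LD2_c40 LD3_c5) Lrfl Lrfl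
theorem f39741 : Led Lsl_bt (LP (LK LD1_c16 LD2_c13 LD3_c60)) = (LP (LK LD1_c26 LD2_c10 LD3_c48)) :=
  Lre_b IH (LK LD1_c16 LD2_c13 LD3_c60) (LK LD1_c26 LD2_c10 LD3_c48) Lrfl Lrfl
theorem f392587 : Led Lsl_gt (LP (LK LD1_c26 LD2_c10 LD3_c48)) = (LP (LK LD1_c16 LD2_c16 LD3_c4)) :=
  Lre_g IH (LK LD1_c26 LD2_c10 LD3_c48) (LK LD1_c16 LD2_c16 LD3_c4) Lrfl Lrfl
theorem f270421 : Led Lsl_ct (LP (LK LD1_c8 LD2_c41 LD3_c8)) = (LP (LK LD1_c16 LD2_c16 LD3_c5)) :=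
  Lre_c IH (LK LD1_c8 LD2_c41 LD3_c8) (LK LD1_c16 LD2_c16 LD3_c5) Lrfl Lrfl
theorem f397924 : Led Lsl_gt (LP (LK LD1_c16 LD2_c16 LD3_c5)) = (LP (LK LD1_c16 LD2_c1 LD3_c44)) :=
  Lgr Lrot65 (Lpe (f270421 IH) (Lpr_bt (f397923 IH) (Lpe (f392587 IH) (Lpe (f39741 IH) (Lpr_ct (f39717 IH) (Lpe (f219595 IH) (Lpe (f39494 IH) (Lpe (K30.f39807 IH) (Lpe (K30.f39808 IH) (Lpr_ct (f397919 IH) (Lpn (LP (LK LD1_c16 LD2_c1 LD3_c44)))))))))))))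
theorem f52104 : Led Lsl_ct (LP (LK LD1_c8 LD2_c32 LD3_c13)) = (LP (LK LD1_c16 LD2_c1 LD3_c45)) :=
  Lre_c IH (LK LD1_c8 LD2_c32 LD3_c13) (LK LD1_c16 LD2_c1 LD3_c45) Lrfl Lrfl
theorem f397810 : Led Lsl_ft (LP (LK LD1_c15 LD2_c47 LD3_c7)) = (LP (LK LD1_c8 LD2_c32 LD3_c13)) :=
  Lgr Lrot4 (Lpr_cf (f167058 IH) (Lpr_ff (K30.f397805 IH) (Lpe (f52104 IH) (Lpn (LP (LK LD1_c8 LD2_c32 LD3_c13))))))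
theorem f397926 : Led Lsl_gf (LP (LK LD1_c16 LD2_c16 LD3_c5)) = (LP (LK LD1_c15 LD2_c47 LD3_c7)) :=
  Lgr Lrot47 (Lpr_gt (f397924 IH) (Lpe (K30.f397801 IH) (Lpe (f397810 IH) (Lpn (LP (LK LD1_c15 LD2_c47 LD3_c7))))))
theorem f398803 : Led Lsl_ff (LP (LK LD1_c16 LD2_c0 LD3_c46)) = (LP (LK LD1_c16 LD2_c16 LD3_c8)) :=
  Lgr Lrot52 (Lpr_at (f398750 IH) (Lpr_gf (f397926 IH) (Lpr_gf (K30.f397921 IH) (Lpn (LP (LK LD1_c16 LD2_c16 LD3_c8))))))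
theorem f398394 : Led Lsl_cf (LP (LK LD1_c25 LD2_c55 LD3_c56)) = (LP (LK LD1_c26 LD2_c13 LD3_c58)) :=
  Lgr Lrot11 (Lpr_ct (f398392 IH) (Lpn (LP (LK LD1_c26 LD2_c13 LD3_c58))))
theorem f398414 : Led Lsl_dt (LP (LK LD1_c16 LD2_c15 LD3_c8)) = (LP (LK LD1_c8 LD2_c41 LD3_c8)) :=
  Lgr Lrot42 (Lpr_df (f398409 IH) (Lpn (LP (LK LD1_c8 LD2_c41 LD3_c8))))
theorem f391229 : Led Lsl_bt (LP (LK LD1_c10 LD2_c36 LD3_c6)) = (LP (LK LD1_c19 LD2_c11 LD3_c60)) :=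
  Lre_b IH (LK LD1_c10 LD2_c36 LD3_c6) (LK LD1_c19 LD2_c11 LD3_c60) Lrfl Lrfl
theorem f398426 : Led Lsl_df (LP (LK LD1_c26 LD2_c12 LD3_c42)) = (LP (LK LD1_c19 LD2_c11 LD3_c60)) :=
  Lgr Lrot12 (Lpr_bt (f398421 IH) (Lpr_dt (f228625 IH) (Lpr_bt (f391229 IH) (Lpn (LP (LK LD1_c19 LD2_c11 LD3_c60))))))
theorem f391213 : Led Lsl_ct (LP (LK LD1_c28 LD2_c37 LD3_c61)) = (LP (LK LD1_c19 LD2_c11 LD3_c60)) :=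
  Lre_c IH (LK LD1_c28 LD2_c37 LD3_c61) (LK LD1_c19 LD2_c11 LD3_c60) Lrfl Lrfl
theorem f398805 : Led Lsl_dt (LP (LK LD1_c25 LD2_c55 LD3_c56)) = (LP (LK LD1_c28 LD2_c37 LD3_c61)) :=
  Lgr Lrot32 (Lpr_cf (f398394 IH) (Lpe (K30.f374030 IH) (Lpe (f398803 IH) (Lpr_at (f398750 IH) (Lpe (f270421 IH) (Lpe (f398414 IH) (Lpe (f373766 IH) (Lpr_df (f398426 IH) (Lpe (f391213 IH) (Lpn (LP (LK LD1_c28 LD2_c37 LD3_c61))))))))))))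
theorem f398752 : Led Lsl_at (LP (LK LD1_c17 LD2_c44 LD3_c0)) = (LP (LK LD1_c16 LD2_c15 LD3_c8)) :=
  Lgr Lrot51 (Lpe (K30.f229784 IH) (Lpr_af (f398746 IH) (Lpe (f398414 IH) (Lpn (LP (LK LD1_c16 LD2_c15 LD3_c8))))))
theorem f243203 : Led Lsl_gt (LP (LK LD1_c16 LD2_c15 LD3_c9)) = (LP (LK LD1_c8 LD2_c40 LD3_c41)) :=
  Lre_g IH (LK LD1_c16 LD2_c15 LD3_c9) (LK LD1_c8 LD2_c40 LD3_c41) Lrfl Lrfl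
theorem f398792 : Led Lsl_ff (LP (LK LD1_c17 LD2_c44 LD3_c0)) = (LP (LK LD1_c16 LD2_c15 LD3_c9)) :=
  Lgr Lrot52 (Lpr_at (f398752 IH) (Lpe (f225672 IH) (Lpe (f243203 IH) (Lpn (LP (LK LD1_c16 LD2_c15 LD3_c9))))))
theorem f398811 : Led Lsl_df (LP (LK LD1_c8 LD2_c41 LD3_c9)) = (LP (LK LD1_c16 LD2_c15 LD3_c9)) :=
  Lgr Lrot157 (Lpr_ct (f374020 IH) (Lpr_dt (K30.f374030 IH) (Lpe (f398394 IH) (Lpr_dt (f398805 IH) (Lpr_ct (f391213 IH) (Lpe (f398426 IH) (Lpr_ct (f373766 IH) (Lpe (f398752 IH) (Lpr_ff (f398792 IH) (Lpn (LP (LK LD1_c16 LD2_c15 LD3_c9))))))))))))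
theorem f398796 : Led Lsl_ft (LP (LK LD1_c17 LD2_c44 LD3_c0)) = (LP (LK LD1_c16 LD2_c15 LD3_c9)) :=
  Lgr Lrot48 (Lpr_ff (f398792 IH) (Lpn (LP (LK LD1_c16 LD2_c15 LD3_c9))))
theorem f398817 : Led Lsl_ft (LP (LK LD1_c8 LD2_c41 LD3_c9)) = (LP (LK LD1_c9 LD2_c38 LD3_c9)) :=
  Lgr Lrot54 (Lpr_df (f398811 IH) (Lpe (f398796 IH) (Lpe (K30.f229784 IH) (Lpn (LP (LK LD1_c9 LD2_c38 LD3_c9))))))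
theorem f398827 : Led Lsl_ff (LP (LK LD1_c8 LD2_c41 LD3_c9)) = (LP (LK LD1_c9 LD2_c38 LD3_c9)) :=
  Lgr Lrot3 (Lpr_ft (f398817 IH) (Lpn (LP (LK LD1_c9 LD2_c38 LD3_c9))))
theorem f374035 : Led Lsl_bt (LP (LK LD1_c8 LD2_c41 LD3_c9)) = (LP (LK LD1_c16 LD2_c16 LD3_c7)) :=
  Lre_b IH (LK LD1_c8 LD2_c41 LD3_c9) (LK LD1_c16 LD2_c16 LD3_c7) Lrfl Lrfl
theorem f398829 : Led Lsl_ft (LP (LK LD1_c16 LD2_c16 LD3_c7)) = (LP (LK LD1_c17 LD2_c43 LD3_c61)) :=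
  Lgr Lrot75 (Lpe (f374035 IH) (Lpr_ff (f398827 IH) (Lpe (K20.f229440 IH) (Lpn (LP (LK LD1_c17 LD2_c43 LD3_c61))))))
theorem f374021 : Led Lsl_ct (LP (LK LD1_c26 LD2_c13 LD3_c57)) = (LP (LK LD1_c16 LD2_c16 LD3_c7)) :=
  Lre_c IH (LK LD1_c26 LD2_c13 LD3_c57) (LK LD1_c16 LD2_c16 LD3_c7) Lrfl Lrfl
theorem f398831 : Led Lsl_ff (LP (LK LD1_c26 LD2_c13 LD3_c57)) = (LP (LK LD1_c24 LD2_c45 LD3_c18)) :=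
  Lgr Lrot23 (Lpr_ct (f374021 IH) (Lpr_ft (f398829 IH) (Lpe (K20.f229441 IH) (Lpn (LP (LK LD1_c24 LD2_c45 LD3_c18))))))
theorem f398835 : Led Lsl_ft (LP (LK LD1_c26 LD2_c13 LD3_c57)) = (LP (LK LD1_c24 LD2_c45 LD3_c18)) :=
  Lgr Lrot48 (Lpr_ff (f398831 IH) (Lpn (LP (LK LD1_c24 LD2_c45 LD3_c18))))
theorem f260559 : Led Lsl_bt (LP (LK LD1_c16 LD2_c16 LD3_c7)) = (LP (LK LD1_c8 LD2_c41 LD3_c9)) :=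
  Lre_b IH (LK LD1_c16 LD2_c16 LD3_c7) (LK LD1_c8 LD2_c41 LD3_c9) Lrfl Lrfl
theorem f365463 : Led Lsl_ct (LP (LK LD1_c15 LD2_c57 LD3_c34)) = (LP (LK LD1_c25 LD2_c54 LD3_c1)) :=
  Lre_c IH (LK LD1_c15 LD2_c57 LD3_c34) (LK LD1_c25 LD2_c54 LD3_c1) Lrfl Lrfl
theorem f374022 : Led Lsl_bf (LP (LK LD1_c26 LD2_c13 LD3_c57)) = (LP (LK LD1_c25 LD2_c54 LD3_c1)) :=
  Lgr Lrot90 (Lpr_ct (f374021 IH) (Lpr_bt (f260559 IH) (Lpr_ct (f374020 IH) (Lpr_bt (f374014 IH) (Lpr_ct (f365463 IH) (Lpn (LP (LK LD1_c25 LD2_c54 LD3_c1))))))))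
theorem f250555 : Led Lsl_bt (LP (LK LD1_c8 LD2_c31 LD3_c51)) = (LP (LK LD1_c16 LD2_c0 LD3_c46)) :=
  Lre_b IH (LK LD1_c8 LD2_c31 LD3_c51) (LK LD1_c16 LD2_c0 LD3_c46) Lrfl Lrfl
theorem f229445 : Led Lsl_bt (LP (LK LD1_c9 LD2_c38 LD3_c9)) = (LP (LK LD1_c17 LD2_c43 LD3_c61)) :=
  Lre_b IH (LK LD1_c9 LD2_c38 LD3_c9) (LK LD1_c17 LD2_c43 LD3_c61) Lrfl Lrfl
theorem f250557 : Led Lsl_bf (LP (LK LD1_c16 LD2_c0 LD3_c47)) = (LP (LK LD1_c24 LD2_c45 LD3_c18)) :=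
  Lgr Lrot90 (Lpr_ct (K20.f250556 IH) (Lpr_bt (f250555 IH) (Lpr_ct (K20.f250533 IH) (Lpr_bt (f229445 IH) (Lpe (K20.f229441 IH) (Lpn (LP (LK LD1_c24 LD2_c45 LD3_c18))))))))
theorem f398845 : Led Lsl_ff (LP (LK LD1_c25 LD2_c54 LD3_c1)) = (LP (LK LD1_c16 LD2_c0 LD3_c47)) :=
  Lgr Lrot25 (Lpe (f374022 IH) (Lpr_ft (f398835 IH) (Lpe (f250557 IH) (Lpn (LP (LK LD1_c16 LD2_c0 LD3_c47))))))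
theorem f373159 : Led Lsl_ct (LP (LK LD1_c25 LD2_c54 LD3_c1)) = (LP (LK LD1_c15 LD2_c57 LD3_c34)) :=
  Lre_c IH (LK LD1_c25 LD2_c54 LD3_c1) (LK LD1_c15 LD2_c57 LD3_c34) Lrfl Lrfl
theorem f398847 : Led Lsl_ft (LP (LK LD1_c15 LD2_c57 LD3_c34)) = (LP (LK LD1_c8 LD2_c31 LD3_c51)) :=
  Lgr Lrot4 (Lpe (f373159 IH) (Lpr_ff (f398845 IH) (Lpe (K20.f250530 IH) (Lpn (LP (LK LD1_c8 LD2_c31 LD3_c51))))))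
theorem f369316 : Led Lsl_at (LP (LK LD1_c15 LD2_c57 LD3_c36)) = (LP (LK LD1_c8 LD2_c29 LD3_c61)) :=
  Lre_a IH (LK LD1_c15 LD2_c57 LD3_c36) (LK LD1_c8 LD2_c29 LD3_c61) Lrfl Lrfl
theorem f365466 : Led Lsl_gt (LP (LK LD1_c15 LD2_c57 LD3_c35)) = (LP (LK LD1_c8 LD2_c29 LD3_c61)) :=
  Lre_g IH (LK LD1_c15 LD2_c57 LD3_c35) (LK LD1_c8 LD2_c29 LD3_c61) Lrfl Lrfl
theorem f373072 : Led Lsl_gt (LP (LK LD1_c8 LD2_c31 LD3_c53)) = (LP (LK LD1_c15 LD2_c57 LD3_c35)) :=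
  Lgr Lrot5 (Lpr_ft (K27.f373060 IH) (Lpr_at (f369316 IH) (Lpe (f365466 IH) (Lpn (LP (LK LD1_c15 LD2_c57 LD3_c35))))))
theorem f398853 : Led Lsl_af (LP (LK LD1_c15 LD2_c57 LD3_c35)) = (LP (LK LD1_c8 LD2_c31 LD3_c51)) :=
  Lgr Lrot31 (Lpe (f373072 IH) (Lpe (f377787 IH) (Lpr_ft (f398847 IH) (Lpn (LP (LK LD1_c8 LD2_c31 LD3_c51))))))
theorem f398855 : Led Lsl_at (LP (LK LD1_c15 LD2_c57 LD3_c35)) = (LP (LK LD1_c8 LD2_c31 LD3_c51)) :=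
  Lgr Lrot100 (Lpr_af (f398853 IH) (Lpn (LP (LK LD1_c8 LD2_c31 LD3_c51))))
theorem f243326 : Led Lsl_gt (LP (LK LD1_c8 LD2_c31 LD3_c52)) = (LP (LK LD1_c4 LD2_c16 LD3_c21)) :=
  Lre_g IH (LK LD1_c8 LD2_c31 LD3_c52) (LK LD1_c4 LD2_c16 LD3_c21) Lrfl Lrfl
theorem f398890 : Led Lsl_ff (LP (LK LD1_c15 LD2_c57 LD3_c35)) = (LP (LK LD1_c8 LD2_c31 LD3_c52)) :=
  Lgr Lrot52 (Lpr_at (f398855 IH) (Lpe (K20.f250529 IH) (Lpe (f243326 IH) (Lpn (LP (LK LD1_c8 LD2_c31 LD3_c52))))))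
theorem f398900 : Led Lsl_ft (LP (LK LD1_c15 LD2_c57 LD3_c35)) = (LP (LK LD1_c8 LD2_c31 LD3_c52)) :=
  Lgr Lrot48 (Lpr_ff (f398890 IH) (Lpn (LP (LK LD1_c8 LD2_c31 LD3_c52))))
theorem f373075 : Led Lsl_dt (LP (LK LD1_c25 LD2_c54 LD3_c4)) = (LP (LK LD1_c15 LD2_c57 LD3_c35)) :=
  Lre_d IH (LK LD1_c25 LD2_c54 LD3_c4) (LK LD1_c15 LD2_c57 LD3_c35) Lrfl Lrfl
theorem f374761 : Led Lsl_dt (LP (LK LD1_c8 LD2_c31 LD3_c52)) = (LP (LK LD1_c16 LD2_c0 LD3_c52)) :=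
  Lre_d IH (LK LD1_c8 LD2_c31 LD3_c52) (LK LD1_c16 LD2_c0 LD3_c52) Lrfl Lrfl
theorem f398909 : Led Lsl_ff (LP (LK LD1_c25 LD2_c54 LD3_c4)) = (LP (LK LD1_c16 LD2_c0 LD3_c52)) :=
  Lgr Lrot19 (Lpr_dt (f373075 IH) (Lpr_ft (f398900 IH) (Lpr_dt (f374761 IH) (Lpn (LP (LK LD1_c16 LD2_c0 LD3_c52))))))
theorem f398882 : Led Lsl_bt (LP (LK LD1_c25 LD2_c54 LD3_c4)) = (LP (LK LD1_c32 LD2_c1 LD3_c20)) :=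
  Lre_b IH (LK LD1_c25 LD2_c54 LD3_c4) (LK LD1_c32 LD2_c1 LD3_c20) Lrfl Lrfl
theorem f398913 : Led Lsl_bt (LP (LK LD1_c25 LD2_c58 LD3_c13)) = (LP (LK LD1_c16 LD2_c0 LD3_c52)) :=
  Lre_b IH (LK LD1_c25 LD2_c58 LD3_c13) (LK LD1_c16 LD2_c0 LD3_c52) Lrfl Lrfl
theorem f398914 : Led Lsl_ft (LP (LK LD1_c32 LD2_c1 LD3_c20)) = (LP (LK LD1_c25 LD2_c58 LD3_c13)) :=
  Lgr Lrot75 (Lpe (f398882 IH) (Lpr_ff (f398909 IH) (Lpe (f398913 IH) (Lpn (LP (LK LD1_c25 LD2_c58 LD3_c13))))))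
theorem f398929 : Led Lsl_ff (LP (LK LD1_c32 LD2_c1 LD3_c20)) = (LP (LK LD1_c25 LD2_c58 LD3_c13)) :=
  Lgr Lrot3 (Lpr_ft (f398914 IH) (Lpn (LP (LK LD1_c25 LD2_c58 LD3_c13))))
theorem f373074 : Led Lsl_dt (LP (LK LD1_c15 LD2_c57 LD3_c35)) = (LP (LK LD1_c25 LD2_c54 LD3_c4)) :=
  Lre_d IH (LK LD1_c15 LD2_c57 LD3_c35) (LK LD1_c25 LD2_c54 LD3_c4) Lrfl Lrfl
theorem f250585 : Led Lsl_dt (LP (LK LD1_c16 LD2_c0 LD3_c48)) = (LP (LK LD1_c8 LD2_c31 LD3_c51)) :=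
  Lre_d IH (LK LD1_c16 LD2_c0 LD3_c48) (LK LD1_c8 LD2_c31 LD3_c51) Lrfl Lrfl
theorem f398861 : Led Lsl_at (LP (LK LD1_c25 LD2_c54 LD3_c4)) = (LP (LK LD1_c16 LD2_c0 LD3_c48)) :=
  Lgr Lrot51 (Lpe (f373074 IH) (Lpr_af (f398853 IH) (Lpe (f250585 IH) (Lpn (LP (LK LD1_c16 LD2_c0 LD3_c48))))))
theorem f398869 : Led Lsl_bt (LP (LK LD1_c32 LD2_c1 LD3_c20)) = (LP (LK LD1_c25 LD2_c54 LD3_c4)) :=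
  Lre_b IH (LK LD1_c32 LD2_c1 LD3_c20) (LK LD1_c25 LD2_c54 LD3_c4) Lrfl Lrfl
theorem f398378 : Led Lsl_bt (LP (LK LD1_c16 LD2_c0 LD3_c48)) = (LP (LK LD1_c25 LD2_c58 LD3_c5)) :=
  Lre_b IH (LK LD1_c16 LD2_c0 LD3_c48) (LK LD1_c25 LD2_c58 LD3_c5) Lrfl Lrfl
theorem f250564 : Led Lsl_et (LP (LK LD1_c9 LD2_c38 LD3_c9)) = (LP (LK LD1_c17 LD2_c44 LD3_c1)) :=
  Lre_e IH (LK LD1_c9 LD2_c38 LD3_c9) (LK LD1_c17 LD2_c44 LD3_c1) Lrfl Lrfl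
theorem f270427 : Led Lsl_et (LP (LK LD1_c16 LD2_c16 LD3_c6)) = (LP (LK LD1_c8 LD2_c41 LD3_c8)) :=
  Lre_e IH (LK LD1_c16 LD2_c16 LD3_c6) (LK LD1_c8 LD2_c41 LD3_c8) Lrfl Lrfl
theorem f398754 : Led Lsl_at (LP (LK LD1_c17 LD2_c44 LD3_c1)) = (LP (LK LD1_c16 LD2_c16 LD3_c6)) :=
  Lgr Lrot80 (Lpe (f250564 IH) (Lpr_af (f398746 IH) (Lpe (f270427 IH) (Lpn (LP (LK LD1_c16 LD2_c16 LD3_c6))))))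
theorem f250563 : Led Lsl_et (LP (LK LD1_c25 LD2_c58 LD3_c6)) = (LP (LK LD1_c16 LD2_c0 LD3_c46)) :=
  Lre_e IH (LK LD1_c25 LD2_c58 LD3_c6) (LK LD1_c16 LD2_c0 LD3_c46) Lrfl Lrfl
theorem f250565 : Led Lsl_cf (LP (LK LD1_c25 LD2_c58 LD3_c6)) = (LP (LK LD1_c17 LD2_c44 LD3_c1)) :=
  Lgr Lrot39 (Lpr_et (f250563 IH) (Lpr_ct (K20.f250533 IH) (Lpr_et (f250564 IH) (Lpn (LP (LK LD1_c17 LD2_c44 LD3_c1))))))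
theorem f250571 : Led Lsl_ct (LP (LK LD1_c25 LD2_c58 LD3_c6)) = (LP (LK LD1_c17 LD2_c44 LD3_c1)) :=
  Lgr Lrot59 (Lpr_cf (f250565 IH) (Lpn (LP (LK LD1_c17 LD2_c44 LD3_c1))))
theorem f398758 : Led Lsl_ct (LP (LK LD1_c16 LD2_c16 LD3_c6)) = (LP (LK LD1_c26 LD2_c13 LD3_c56)) :=
  Lre_c IH (LK LD1_c16 LD2_c16 LD3_c6) (LK LD1_c26 LD2_c13 LD3_c56) Lrfl Lrfl
theorem f398759 : Led Lsl_af (LP (LK LD1_c25 LD2_c58 LD3_c6)) = (LP (LK LD1_c26 LD2_c13 LD3_c56)) :=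
  Lgr Lrot68 (Lpr_ct (f250571 IH) (Lpr_at (f398754 IH) (Lpr_ct (f398758 IH) (Lpn (LP (LK LD1_c26 LD2_c13 LD3_c56))))))
theorem f398762 : Led Lsl_at (LP (LK LD1_c25 LD2_c58 LD3_c6)) = (LP (LK LD1_c26 LD2_c13 LD3_c56)) :=
  Lgr Lrot100 (Lpr_af (f398759 IH) (Lpn (LP (LK LD1_c26 LD2_c13 LD3_c56))))
theorem f250577 : Led Lsl_et (LP (LK LD1_c16 LD2_c0 LD3_c46)) = (LP (LK LD1_c25 LD2_c58 LD3_c6)) :=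
  Lre_e IH (LK LD1_c16 LD2_c0 LD3_c46) (LK LD1_c25 LD2_c58 LD3_c6) Lrfl Lrfl
theorem f397931 : Led Lsl_et (LP (LK LD1_c26 LD2_c13 LD3_c56)) = (LP (LK LD1_c16 LD2_c16 LD3_c5)) :=
  Lre_e IH (LK LD1_c26 LD2_c13 LD3_c56) (LK LD1_c16 LD2_c16 LD3_c5) Lrfl Lrfl
theorem f398765 : Led Lsl_af (LP (LK LD1_c16 LD2_c0 LD3_c46)) = (LP (LK LD1_c16 LD2_c16 LD3_c5)) :=
  Lgr Lrot50 (Lpr_et (f250577 IH) (Lpr_at (f398762 IH) (Lpr_et (f397931 IH) (Lpn (LP (LK LD1_c16 LD2_c16 LD3_c5))))))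
theorem f250582 : Led Lsl_dt (LP (LK LD1_c16 LD2_c0 LD3_c46)) = (LP (LK LD1_c25 LD2_c58 LD3_c5)) :=
  Lre_d IH (LK LD1_c16 LD2_c0 LD3_c46) (LK LD1_c25 LD2_c58 LD3_c5) Lrfl Lrfl
theorem f397928 : Led Lsl_dt (LP (LK LD1_c26 LD2_c13 LD3_c55)) = (LP (LK LD1_c16 LD2_c16 LD3_c5)) :=
  Lre_d IH (LK LD1_c26 LD2_c13 LD3_c55) (LK LD1_c16 LD2_c16 LD3_c5) Lrfl Lrfl
theorem f398767 : Led Lsl_at (LP (LK LD1_c25 LD2_c58 LD3_c5)) = (LP (LK LD1_c26 LD2_c13 LD3_c55)) :=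
  Lgr Lrot51 (Lpe (f250582 IH) (Lpr_af (f398765 IH) (Lpe (f397928 IH) (Lpn (LP (LK LD1_c26 LD2_c13 LD3_c55))))))
theorem f398781 : Led Lsl_bt (LP (LK LD1_c26 LD2_c13 LD3_c55)) = (LP (LK LD1_c32 LD2_c6 LD3_c14)) :=
  Lre_b IH (LK LD1_c26 LD2_c13 LD3_c55) (LK LD1_c32 LD2_c6 LD3_c14) Lrfl Lrfl
theorem f398870 : Led Lsl_af (LP (LK LD1_c32 LD2_c1 LD3_c20)) = (LP (LK LD1_c32 LD2_c6 LD3_c14)) :=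
  Lgr Lrot36 (Lpr_bt (f398869 IH) (Lpr_at (f398861 IH) (Lpr_bt (f398378 IH) (Lpr_at (f398767 IH) (Lpr_bt (f398781 IH) (Lpn (LP (LK LD1_c32 LD2_c6 LD3_c14))))))))
theorem f398879 : Led Lsl_at (LP (LK LD1_c32 LD2_c1 LD3_c20)) = (LP (LK LD1_c32 LD2_c6 LD3_c14)) :=
  Lgr Lrot100 (Lpr_af (f398870 IH) (Lpn (LP (LK LD1_c32 LD2_c6 LD3_c14))))
theorem f397904 : Led Lsl_af (LP (LK LD1_c15 LD2_c24 LD3_c13)) = (LP (LK LD1_c16 LD2_c8 LD3_c40)) :=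
  Lgr Lrot0 (Lpr_at (K30.f397902 IH) (Lpn (LP (LK LD1_c16 LD2_c8 LD3_c40))))
theorem f54018 : Led Lsl_gt (LP (LK LD1_c8 LD2_c10 LD3_c50)) = (LP (LK LD1_c15 LD2_c24 LD3_c12)) :=
  Lre_g IH (LK LD1_c8 LD2_c10 LD3_c50) (LK LD1_c15 LD2_c24 LD3_c12) Lrfl Lrfl
theorem f374387 : Led Lsl_gf (LP (LK LD1_c16 LD2_c8 LD3_c41)) = (LP (LK LD1_c15 LD2_c24 LD3_c12)) :=
  Lgr Lrot76 (Lpe (K30.f374379 IH) (Lpr_ff (K30.f374375 IH) (Lpr_gt (f54018 IH) (Lpn (LP (LK LD1_c15 LD2_c24 LD3_c12))))))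
theorem f398243 : Led Lsl_ft (LP (LK LD1_c15 LD2_c24 LD3_c12)) = (LP (LK LD1_c16 LD2_c8 LD3_c40)) :=
  Lgr Lrot2 (Lpe (f374387 IH) (Lpr_gt (K30.f374455 IH) (Lpr_af (f397904 IH) (Lpn (LP (LK LD1_c16 LD2_c8 LD3_c40))))))
theorem f397915 : Led Lsl_bf (LP (LK LD1_c25 LD2_c43 LD3_c49)) = (LP (LK LD1_c16 LD2_c1 LD3_c44)) :=
  Lgr Lrot24 (Lpr_bt (K30.f397908 IH) (Lpn (LP (LK LD1_c16 LD2_c1 LD3_c44))))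
theorem f397826 : Led Lsl_at (LP (LK LD1_c16 LD2_c1 LD3_c44)) = (LP (LK LD1_c8 LD2_c32 LD3_c13)) :=
  Lre_a IH (LK LD1_c16 LD2_c1 LD3_c44) (LK LD1_c8 LD2_c32 LD3_c13) Lrfl Lrfl
theorem f397827 : Led Lsl_ft (LP (LK LD1_c25 LD2_c43 LD3_c52)) = (LP (LK LD1_c16 LD2_c1 LD3_c44)) :=
  Lgr Lrot101 (Lpe (f167061 IH) (Lpr_ff (K30.f397821 IH) (Lpe (f397826 IH) (Lpn (LP (LK LD1_c16 LD2_c1 LD3_c44))))))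
theorem f398233 : Led Lsl_ft (LP (LK LD1_c25 LD2_c43 LD3_c49)) = (LP (LK LD1_c16 LD2_c1 LD3_c41)) :=
  Lgr Lrot75 (Lpr_bf (f397915 IH) (Lpe (f397827 IH) (Lpr_bf (K30.f397872 IH) (Lpn (LP (LK LD1_c16 LD2_c1 LD3_c41))))))
theorem f398249 : Led Lsl_cf (LP (LK LD1_c15 LD2_c24 LD3_c12)) = (LP (LK LD1_c16 LD2_c1 LD3_c41)) :=
  Lgr Lrot108 (Lpr_ft (f398243 IH) (Lpe (K30.f397906 IH) (Lpr_ft (f398233 IH) (Lpn (LP (LK LD1_c16 LD2_c1 LD3_c41))))))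
theorem f398261 : Led Lsl_gf (LP (LK LD1_c16 LD2_c0 LD3_c46)) = (LP (LK LD1_c25 LD2_c43 LD3_c52)) :=
  Lgr Lrot181 (Lpr_ct (K20.f250533 IH) (Lpr_gt (K20.f229439 IH) (Lpe (K16.f229770 IH) (Lpr_bt (K16.f229763 IH) (Lpr_gt (K16.f189093 IH) (Lpe (K30.f53850 IH) (Lpr_ct (K30.f54023 IH) (Lpr_gt (f54018 IH) (Lpr_cf (f398249 IH) (Lpe (K30.f397872 IH) (Lpn (LP (LK LD1_c25 LD2_c43 LD3_c52)))))))))))))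
theorem f397064 : Led Lsl_gt (LP (LK LD1_c8 LD2_c32 LD3_c13)) = (LP (LK LD1_c16 LD2_c1 LD3_c43)) :=
  Lre_g IH (LK LD1_c8 LD2_c32 LD3_c13) (LK LD1_c16 LD2_c1 LD3_c43) Lrfl Lrfl
theorem f397834 : Led Lsl_gf (LP (LK LD1_c25 LD2_c43 LD3_c52)) = (LP (LK LD1_c16 LD2_c1 LD3_c43)) :=
  Lgr Lrot76 (Lpe (f167061 IH) (Lpr_ff (K30.f397821 IH) (Lpr_gt (f397064 IH) (Lpn (LP (LK LD1_c16 LD2_c1 LD3_c43))))))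
theorem f398769 : Led Lsl_ft (LP (LK LD1_c16 LD2_c1 LD3_c43)) = (LP (LK LD1_c16 LD2_c16 LD3_c5)) :=
  Lgr Lrot2 (Lpe (f397834 IH) (Lpe (f398261 IH) (Lpr_af (f398765 IH) (Lpn (LP (LK LD1_c16 LD2_c16 LD3_c5))))))
theorem f397837 : Led Lsl_dt (LP (LK LD1_c25 LD2_c59 LD3_c10)) = (LP (LK LD1_c16 LD2_c1 LD3_c43)) :=
  Lre_d IH (LK LD1_c25 LD2_c59 LD3_c10) (LK LD1_c16 LD2_c1 LD3_c43) Lrfl Lrfl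
theorem f397929 : Led Lsl_dt (LP (LK LD1_c16 LD2_c16 LD3_c5)) = (LP (LK LD1_c26 LD2_c13 LD3_c55)) :=
  Lre_d IH (LK LD1_c16 LD2_c16 LD3_c5) (LK LD1_c26 LD2_c13 LD3_c55) Lrfl Lrfl
theorem f398773 : Led Lsl_ff (LP (LK LD1_c25 LD2_c59 LD3_c10)) = (LP (LK LD1_c26 LD2_c13 LD3_c55)) :=
  Lgr Lrot19 (Lpr_dt (f397837 IH) (Lpr_ft (f398769 IH) (Lpr_dt (f397929 IH) (Lpn (LP (LK LD1_c26 LD2_c13 LD3_c55))))))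
theorem f398779 : Led Lsl_ft (LP (LK LD1_c25 LD2_c59 LD3_c10)) = (LP (LK LD1_c26 LD2_c13 LD3_c55)) :=
  Lgr Lrot48 (Lpr_ff (f398773 IH) (Lpn (LP (LK LD1_c26 LD2_c13 LD3_c55))))
theorem f397630 : Led Lsl_ct (LP (LK LD1_c16 LD2_c17 LD3_c50)) = (LP (LK LD1_c25 LD2_c43 LD3_c52)) :=
  Lgr Lrot59 (Lpr_cf (f397613 IH) (Lpn (LP (LK LD1_c25 LD2_c43 LD3_c52))))
theorem f397628 : Led Lsl_bt (LP (LK LD1_c16 LD2_c17 LD3_c50)) = (LP (LK LD1_c8 LD2_c42 LD3_c1)) :=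
  Lre_b IH (LK LD1_c16 LD2_c17 LD3_c50) (LK LD1_c8 LD2_c42 LD3_c1) Lrfl Lrfl
theorem f397771 : Led Lsl_at (LP (LK LD1_c4 LD2_c22 LD3_c7)) = (LP (LK LD1_c8 LD2_c42 LD3_c6)) :=
  Lre_a IH (LK LD1_c4 LD2_c22 LD3_c7) (LK LD1_c8 LD2_c42 LD3_c6) Lrfl Lrfl
theorem f397772 : Led Lsl_ft (LP (LK LD1_c8 LD2_c42 LD3_c1)) = (LP (LK LD1_c4 LD2_c22 LD3_c7)) :=
  Lre_f IH (LK LD1_c8 LD2_c42 LD3_c1) (LK LD1_c4 LD2_c22 LD3_c7) Lrfl Lrfl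
theorem f397773 : Led Lsl_gt (LP (LK LD1_c8 LD2_c42 LD3_c1)) = (LP (LK LD1_c4 LD2_c22 LD3_c10)) :=
  Lgr Lrot5 (Lpr_ft (f397772 IH) (Lpr_at (f397771 IH) (Lpr_gf (K30.f397769 IH) (Lpn (LP (LK LD1_c4 LD2_c22 LD3_c10))))))
theorem f397838 : Led Lsl_ct (LP (LK LD1_c9 LD2_c38 LD3_c8)) = (LP (LK LD1_c16 LD2_c1 LD3_c43)) :=
  Lgr Lrot91 (Lpe (K30.f229443 IH) (Lpe (K16.f229438 IH) (Lpe (K12.f229414 IH) (Lpr_gf (K13.f229483 IH) (Lpe (K13.f39160 IH) (Lpr_bt (K30.f39736 IH) (Lpe (f397773 IH) (Lpe (f397628 IH) (Lpr_ct (f397630 IH) (Lpr_gf (f397834 IH) (Lpn (LP (LK LD1_c16 LD2_c1 LD3_c43)))))))))))))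
theorem f397840 : Led Lsl_cf (LP (LK LD1_c9 LD2_c38 LD3_c8)) = (LP (LK LD1_c16 LD2_c1 LD3_c43)) :=
  Lgr Lrot11 (Lpr_ct (f397838 IH) (Lpn (LP (LK LD1_c16 LD2_c1 LD3_c43))))
theorem f188830 : Led Lsl_gt (LP (LK LD1_c16 LD2_c5 LD3_c13)) = (LP (LK LD1_c8 LD2_c34 LD3_c18)) :=
  Lre_g IH (LK LD1_c16 LD2_c5 LD3_c13) (LK LD1_c8 LD2_c34 LD3_c18) Lrfl Lrfl
theorem f883 : Led Lsl_bt (LP (LK LD1_c2 LD2_c5 LD3_c8)) = (LP (LK LD1_c4 LD2_c15 LD3_c33)) :=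
  Lre_b IH (LK LD1_c2 LD2_c5 LD3_c8) (LK LD1_c4 LD2_c15 LD3_c33) Lrfl Lrfl
theorem f1190 : Led Lsl_gt (LP (LK LD1_c4 LD2_c15 LD3_c33)) = (LP (LK LD1_c8 LD2_c30 LD3_c2)) :=
  Lre_g IH (LK LD1_c4 LD2_c15 LD3_c33) (LK LD1_c8 LD2_c30 LD3_c2) Lrfl Lrfl
theorem f51888 : Led Lsl_bt (LP (LK LD1_c15 LD2_c57 LD3_c43)) = (LP (LK LD1_c8 LD2_c30 LD3_c2)) :=
  Lre_b IH (LK LD1_c15 LD2_c57 LD3_c43) (LK LD1_c8 LD2_c30 LD3_c2) Lrfl Lrfl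
theorem f374192 : Led Lsl_cf (LP (LK LD1_c16 LD2_c5 LD3_c13)) = (LP (LK LD1_c15 LD2_c57 LD3_c43)) :=
  Lgr Lrot160 (Lpr_gt (f188830 IH) (Lpr_cf (K30.f374188 IH) (Lpr_bt (K30.f222056 IH) (Lpr_gt (K16.f271491 IH) (Lpr_ct (K16.f48249 IH) (Lpr_gt (K10.f804 IH) (Lpe (K16.f887 IH) (Lpr_bt (f883 IH) (Lpr_gt (f1190 IH) (Lpe (f51888 IH) (Lpn (LP (LK LD1_c15 LD2_c57 LD3_c43)))))))))))))
theorem f374204 : Led Lsl_gt (LP (LK LD1_c25 LD2_c54 LD3_c21)) = (LP (LK LD1_c15 LD2_c57 LD3_c43)) :=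
  Lre_g IH (LK LD1_c25 LD2_c54 LD3_c21) (LK LD1_c15 LD2_c57 LD3_c43) Lrfl Lrfl
theorem f397844 : Led Lsl_bf (LP (LK LD1_c25 LD2_c54 LD3_c21)) = (LP (LK LD1_c16 LD2_c1 LD3_c43)) :=
  Lgr Lrot165 (Lpr_gt (f374204 IH) (Lpe (f374192 IH) (Lpr_gt (f188830 IH) (Lpr_cf (K30.f374188 IH) (Lpr_bt (K30.f222056 IH) (Lpr_gt (K16.f271491 IH) (Lpe (K16.f229763 IH) (Lpr_ct (K16.f229770 IH) (Lpr_gt (K30.f229443 IH) (Lpr_cf (f397840 IH) (Lpn (LP (LK LD1_c16 LD2_c1 LD3_c43)))))))))))))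
theorem f374206 : Led Lsl_dt (LP (LK LD1_c25 LD2_c54 LD3_c21)) = (LP (LK LD1_c32 LD2_c1 LD3_c30)) :=
  Lre_d IH (LK LD1_c25 LD2_c54 LD3_c21) (LK LD1_c32 LD2_c1 LD3_c30) Lrfl Lrfl
theorem f397848 : Led Lsl_bt (LP (LK LD1_c32 LD2_c1 LD3_c30)) = (LP (LK LD1_c25 LD2_c59 LD3_c10)) :=
  Lgr Lrot95 (Lpe (f374206 IH) (Lpr_bf (f397844 IH) (Lpe (f397837 IH) (Lpn (LP (LK LD1_c25 LD2_c59 LD3_c10))))))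
theorem f398782 : Led Lsl_ff (LP (LK LD1_c32 LD2_c1 LD3_c30)) = (LP (LK LD1_c32 LD2_c6 LD3_c14)) :=
  Lgr Lrot25 (Lpr_bt (f397848 IH) (Lpr_ft (f398779 IH) (Lpr_bt (f398781 IH) (Lpn (LP (LK LD1_c32 LD2_c6 LD3_c14))))))
theorem f398931 : Led Lsl_at (LP (LK LD1_c32 LD2_c1 LD3_c30)) = (LP (LK LD1_c25 LD2_c58 LD3_c13)) :=
  Lgr Lrot66 (Lpr_ff (f398782 IH) (Lpe (f398879 IH) (Lpr_ff (f398929 IH) (Lpn (LP (LK LD1_c25 LD2_c58 LD3_c13))))))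
theorem f271524 : Led Lsl_dt (LP (LK LD1_c25 LD2_c58 LD3_c13)) = (LP (LK LD1_c16 LD2_c0 LD3_c50)) :=
  Lre_d IH (LK LD1_c25 LD2_c58 LD3_c13) (LK LD1_c16 LD2_c0 LD3_c50) Lrfl Lrfl
theorem f398934 : Led Lsl_af (LP (LK LD1_c25 LD2_c54 LD3_c21)) = (LP (LK LD1_c16 LD2_c0 LD3_c50)) :=
  Lgr Lrot117 (Lpr_dt (f374206 IH) (Lpr_at (f398931 IH) (Lpr_dt (f271524 IH) (Lpn (LP (LK LD1_c16 LD2_c0 LD3_c50))))))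
theorem f397846 : Led Lsl_bt (LP (LK LD1_c25 LD2_c54 LD3_c21)) = (LP (LK LD1_c16 LD2_c1 LD3_c43)) :=
  Lgr Lrot127 (Lpr_bf (f397844 IH) (Lpn (LP (LK LD1_c16 LD2_c1 LD3_c43))))
theorem f398904 : Led Lsl_bt (LP (LK LD1_c8 LD2_c31 LD3_c52)) = (LP (LK LD1_c16 LD2_c0 LD3_c50)) :=
  Lre_b IH (LK LD1_c8 LD2_c31 LD3_c52) (LK LD1_c16 LD2_c0 LD3_c50) Lrfl Lrfl
theorem f398851 : Led Lsl_ff (LP (LK LD1_c15 LD2_c57 LD3_c34)) = (LP (LK LD1_c8 LD2_c31 LD3_c51)) :=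
  Lgr Lrot3 (Lpr_ft (f398847 IH) (Lpn (LP (LK LD1_c8 LD2_c31 LD3_c51))))
theorem f398892 : Led Lsl_at (LP (LK LD1_c15 LD2_c57 LD3_c34)) = (LP (LK LD1_c8 LD2_c31 LD3_c52)) :=
  Lgr Lrot66 (Lpr_ff (f398851 IH) (Lpe (f398855 IH) (Lpr_ff (f398890 IH) (Lpn (LP (LK LD1_c8 LD2_c31 LD3_c52))))))
theorem f398938 : Led Lsl_at (LP (LK LD1_c16 LD2_c1 LD3_c43)) = (LP (LK LD1_c16 LD2_c16 LD3_c8)) :=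
  Lgr Lrot67 (Lpe (f397846 IH) (Lpr_af (f398934 IH) (Lpe (f398904 IH) (Lpe (f398892 IH) (Lpe (f374014 IH) (Lpn (LP (LK LD1_c16 LD2_c16 LD3_c8))))))))
theorem f398942 : Led Lsl_af (LP (LK LD1_c25 LD2_c59 LD3_c10)) = (LP (LK LD1_c26 LD2_c13 LD3_c58)) :=
  Lgr Lrot117 (Lpr_dt (f397837 IH) (Lpr_at (f398938 IH) (Lpr_dt (K30.f374030 IH) (Lpn (LP (LK LD1_c26 LD2_c13 LD3_c58))))))
theorem f224127 : Led Lsl_gt (LP (LK LD1_c17 LD2_c48 LD3_c57)) = (LP (LK LD1_c9 LD2_c41 LD3_c8)) :=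
  Lre_g IH (LK LD1_c17 LD2_c48 LD3_c57) (LK LD1_c9 LD2_c41 LD3_c8) Lrfl Lrfl
theorem f395663 : Led Lsl_gt (LP (LK LD1_c25 LD2_c31 LD3_c15)) = (LP (LK LD1_c17 LD2_c48 LD3_c57)) :=
  Lgr Lrot5 (Lpr_ft (K30.f339377 IH) (Lpr_at (K30.f224138 IH) (Lpe (f224127 IH) (Lpn (LP (LK LD1_c17 LD2_c48 LD3_c57))))))
theorem f221799 : Led Lsl_ct (LP (LK LD1_c15 LD2_c36 LD3_c45)) = (LP (LK LD1_c25 LD2_c31 LD3_c15)) :=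
  Lre_c IH (LK LD1_c15 LD2_c36 LD3_c45) (LK LD1_c25 LD2_c31 LD3_c15) Lrfl Lrfl
theorem f339350 : Led Lsl_gf (LP (LK LD1_c15 LD2_c36 LD3_c45)) = (LP (LK LD1_c10 LD2_c52 LD3_c24)) :=
  Lgr Lrot76 (Lpe (K23.f221798 IH) (Lpr_ff (K22.f339342 IH) (Lpr_gt (K30.f234789 IH) (Lpn (LP (LK LD1_c10 LD2_c52 LD3_c24))))))
theorem f245698 : Led Lsl_at (LP (LK LD1_c2 LD2_c41 LD3_c29)) = (LP (LK LD1_c1 LD2_c17 LD3_c25)) :=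
  Lre_a IH (LK LD1_c2 LD2_c41 LD3_c29) (LK LD1_c1 LD2_c17 LD3_c25) Lrfl Lrfl
theorem f385177 : Led Lsl_gt (LP (LK LD1_c4 LD2_c28 LD3_c59)) = (LP (LK LD1_c2 LD2_c41 LD3_c28)) :=
  Lgr Lrot5 (Lpr_ft (K30.f385168 IH) (Lpr_at (f245698 IH) (Lpe (K30.f234786 IH) (Lpn (LP (LK LD1_c2 LD2_c41 LD3_c28))))))
theorem f386398 : Led Lsl_bt (LP (LK LD1_c8 LD2_c55 LD3_c56)) = (LP (LK LD1_c15 LD2_c15 LD3_c7)) :=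
  Lgr Lrot127 (Lpr_bf (f386371 IH) (Lpn (LP (LK LD1_c15 LD2_c15 LD3_c7))))
theorem f222539 : Led Lsl_bt (LP (LK LD1_c2 LD2_c40 LD3_c59)) = (LP (LK LD1_c5 LD2_c29 LD3_c25)) :=
  Lre_b IH (LK LD1_c2 LD2_c40 LD3_c59) (LK LD1_c5 LD2_c29 LD3_c25) Lrfl Lrfl
theorem f222541 : Led Lsl_ft (LP (LK LD1_c5 LD2_c29 LD3_c25)) = (LP (LK LD1_c8 LD2_c6 LD3_c4)) :=
  Lgr Lrot75 (Lpe (f222539 IH) (Lpr_ff (K13.f222535 IH) (Lpe (f222540 IH) (Lpn (LP (LK LD1_c8 LD2_c6 LD3_c4))))))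
theorem f222663 : Led Lsl_gt (LP (LK LD1_c5 LD2_c29 LD3_c25)) = (LP (LK LD1_c10 LD2_c50 LD3_c7)) :=
  Lre_g IH (LK LD1_c5 LD2_c29 LD3_c25) (LK LD1_c10 LD2_c50 LD3_c7) Lrfl Lrfl
theorem f222616 : Led Lsl_at (LP (LK LD1_c8 LD2_c6 LD3_c4)) = (LP (LK LD1_c15 LD2_c15 LD3_c7)) :=
  Lre_a IH (LK LD1_c8 LD2_c6 LD3_c4) (LK LD1_c15 LD2_c15 LD3_c7) Lrfl Lrfl
theorem f222664 : Led Lsl_gt (LP (LK LD1_c10 LD2_c50 LD3_c7)) = (LP (LK LD1_c15 LD2_c15 LD3_c7)) :=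
  Lgr Lrot46 (Lpe (f222663 IH) (Lpr_ft (f222541 IH) (Lpr_at (f222616 IH) (Lpn (LP (LK LD1_c15 LD2_c15 LD3_c7))))))
theorem f222670 : Led Lsl_bt (LP (LK LD1_c19 LD2_c35 LD3_c10)) = (LP (LK LD1_c10 LD2_c50 LD3_c7)) :=
  Lre_b IH (LK LD1_c19 LD2_c35 LD3_c10) (LK LD1_c10 LD2_c50 LD3_c7) Lrfl Lrfl
theorem f395665 : Led Lsl_ct (LP (LK LD1_c19 LD2_c35 LD3_c10)) = (LP (LK LD1_c17 LD2_c48 LD3_c57)) :=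
  Lgr Lrot63 (Lpr_bt (f222670 IH) (Lpr_gt (f222664 IH) (Lpe (f386398 IH) (Lpr_ct (f385172 IH) (Lpr_gt (f385177 IH) (Lpe (K30.f234787 IH) (Lpr_bt (K30.f234788 IH) (Lpe (f339350 IH) (Lpr_ct (f221799 IH) (Lpr_gt (f395663 IH) (Lpn (LP (LK LD1_c17 LD2_c48 LD3_c57)))))))))))))
theorem f395675 : Led Lsl_gt (LP (LK LD1_c28 LD2_c56 LD3_c59)) = (LP (LK LD1_c19 LD2_c35 LD3_c10)) :=
  Lre_g IH (LK LD1_c28 LD2_c56 LD3_c59) (LK LD1_c19 LD2_c35 LD3_c10) Lrfl Lrfl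
theorem f390038 : Led Lsl_ct (LP (LK LD1_c19 LD2_c37 LD3_c12)) = (LP (LK LD1_c11 LD2_c9 LD3_c2)) :=
  Lgr Lrot59 (Lpr_cf (f390036 IH) (Lpn (LP (LK LD1_c11 LD2_c9 LD3_c2))))
theorem f395676 : Led Lsl_bf (LP (LK LD1_c28 LD2_c56 LD3_c59)) = (LP (LK LD1_c19 LD2_c37 LD3_c12)) :=
  Lgr Lrot165 (Lpr_gt (f395675 IH) (Lpr_ct (f395665 IH) (Lpr_gt (f224127 IH) (Lpe (K22.f214020 IH) (Lpr_bt (K22.f234766 IH) (Lpe (K14.f251748 IH) (Lpe (K12.f228027 IH) (Lpe (K18.f228087 IH) (Lpr_gt (K18.f228094 IH) (Lpe (f390038 IH) (Lpn (LP (LK LD1_c19 LD2_c37 LD3_c12)))))))))))))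
theorem f391204 : Led Lsl_gt (LP (LK LD1_c19 LD2_c3 LD3_c35)) = (LP (LK LD1_c10 LD2_c36 LD3_c6)) :=
  Lgr Lrot150 (Lpe (K18.f256963 IH) (Lpr_gf (f388709 IH) (Lpe (f196943 IH) (Lpr_gt (f52754 IH) (Lpr_ct (K10.f52723 IH) (Lpr_gt (K11.f52840 IH) (Lpr_ct (f200779 IH) (Lpr_df (f391193 IH) (Lpe (f391192 IH) (Lpn (LP (LK LD1_c10 LD2_c36 LD3_c6))))))))))))
theorem f275067 : Led Lsl_at (LP (LK LD1_c16 LD2_c44 LD3_c17)) = (LP (LK LD1_c8 LD2_c56 LD3_c29)) :=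
  Lre_a IH (LK LD1_c16 LD2_c44 LD3_c17) (LK LD1_c8 LD2_c56 LD3_c29) Lrfl Lrfl
theorem f244644 : Led Lsl_at (LP (LK LD1_c5 LD2_c27 LD3_c53)) = (LP (LK LD1_c10 LD2_c46 LD3_c56)) :=
  Lre_a IH (LK LD1_c5 LD2_c27 LD3_c53) (LK LD1_c10 LD2_c46 LD3_c56) Lrfl Lrfl
theorem f286216 : Led Lsl_bf (LP (LK LD1_c16 LD2_c44 LD3_c17)) = (LP (LK LD1_c10 LD2_c46 LD3_c56)) :=
  Lgr Lrot81 (Lpr_at (f275067 IH) (Lpr_bt (K17.f245078 IH) (Lpr_at (K17.f286212 IH) (Lpr_bt (K18.f243652 IH) (Lpr_at (f244644 IH) (Lpn (LP (LK LD1_c10 LD2_c46 LD3_c56))))))))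
theorem f297834 : Led Lsl_bt (LP (LK LD1_c15 LD2_c22 LD3_c23)) = (LP (LK LD1_c11 LD2_c8 LD3_c41)) :=
  Lgr Lrot128 (Lpr_cf (K18.f256972 IH) (Lpr_bf (K18.f297832 IH) (Lpe (K17.f275054 IH) (Lpr_bf (f286216 IH) (Lpe (f244637 IH) (Lpn (LP (LK LD1_c11 LD2_c8 LD3_c41))))))))
theorem f391209 : Led Lsl_bf (LP (LK LD1_c15 LD2_c17 LD3_c53)) = (LP (LK LD1_c19 LD2_c11 LD3_c61)) :=
  Lgr Lrot165 (Lpe (K22.f296578 IH) (Lpe (K22.f296704 IH) (Lpr_gt (K22.f296706 IH) (Lpe (K22.f220298 IH) (Lpe (K22.f226782 IH) (Lpe (K30.f332148 IH) (Lpe (f297834 IH) (Lpr_ct (K18.f256963 IH) (Lpr_gt (f391204 IH) (Lpe (f228624 IH) (Lpn (LP (LK LD1_c19 LD2_c11 LD3_c61)))))))))))))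
theorem f228413 : Led Lsl_bt (LP (LK LD1_c19 LD2_c11 LD3_c60)) = (LP (LK LD1_c10 LD2_c36 LD3_c6)) :=
  Lre_b IH (LK LD1_c19 LD2_c11 LD3_c60) (LK LD1_c10 LD2_c36 LD3_c6) Lrfl Lrfl
theorem f391214 : Led Lsl_bt (LP (LK LD1_c25 LD2_c8 LD3_c32)) = (LP (LK LD1_c28 LD2_c37 LD3_c61)) :=
  Lgr Lrot128 (Lpe (f220317 IH) (Lpr_bf (f391209 IH) (Lpe (f391192 IH) (Lpe (f228413 IH) (Lpe (f391213 IH) (Lpn (LP (LK LD1_c28 LD2_c37 LD3_c61))))))))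
theorem f391225 : Led Lsl_bf (LP (LK LD1_c25 LD2_c8 LD3_c32)) = (LP (LK LD1_c28 LD2_c37 LD3_c61)) :=
  Lgr Lrot24 (Lpr_bt (f391214 IH) (Lpn (LP (LK LD1_c28 LD2_c37 LD3_c61))))
theorem f395687 : Led Lsl_ft (LP (LK LD1_c28 LD2_c56 LD3_c59)) = (LP (LK LD1_c28 LD2_c37 LD3_c61)) :=
  Lgr Lrot75 (Lpr_bf (f395676 IH) (Lpr_ff (f390048 IH) (Lpr_bf (f391225 IH) (Lpn (LP (LK LD1_c28 LD2_c37 LD3_c61))))))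
theorem f391162 : Led Lsl_dt (LP (LK LD1_c25 LD2_c46 LD3_c5)) = (LP (LK LD1_c19 LD2_c3 LD3_c34)) :=
  Lgr Lrot44 (Lpe (f389945 IH) (Lpe (f228622 IH) (Lpr_af (f391158 IH) (Lpn (LP (LK LD1_c19 LD2_c3 LD3_c34))))))
theorem f391188 : Led Lsl_ft (LP (LK LD1_c19 LD2_c3 LD3_c34)) = (LP (LK LD1_c10 LD2_c36 LD3_c6)) :=
  Lgr Lrot54 (Lpe (f391162 IH) (Lpr_ff (f391184 IH) (Lpe (f228626 IH) (Lpn (LP (LK LD1_c10 LD2_c36 LD3_c6))))))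
theorem f256927 : Led Lsl_bt (LP (LK LD1_c28 LD2_c29 LD3_c47)) = (LP (LK LD1_c19 LD2_c3 LD3_c34)) :=
  Lre_b IH (LK LD1_c28 LD2_c29 LD3_c47) (LK LD1_c19 LD2_c3 LD3_c34) Lrfl Lrfl
theorem f391296 : Led Lsl_ff (LP (LK LD1_c28 LD2_c29 LD3_c47)) = (LP (LK LD1_c19 LD2_c11 LD3_c60)) :=
  Lgr Lrot25 (Lpr_bt (f256927 IH) (Lpr_ft (f391188 IH) (Lpr_bt (f391229 IH) (Lpn (LP (LK LD1_c19 LD2_c11 LD3_c60))))))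
theorem f395714 : Led Lsl_cf (LP (LK LD1_c28 LD2_c56 LD3_c59)) = (LP (LK LD1_c28 LD2_c29 LD3_c47)) :=
  Lgr Lrot108 (Lpr_ft (f395687 IH) (Lpr_ct (f391213 IH) (Lpe (f391296 IH) (Lpn (LP (LK LD1_c28 LD2_c29 LD3_c47))))))
theorem f395720 : Led Lsl_gf (LP (LK LD1_c28 LD2_c56 LD3_c59)) = (LP (LK LD1_c27 LD2_c35 LD3_c59)) :=
  Lgr Lrot129 (Lpr_cf (f395714 IH) (Lpr_bt (f256927 IH) (Lpr_gt (f256926 IH) (Lpe (K17.f256925 IH) (Lpe (K15.f256921 IH) (Lpr_gt (K15.f256820 IH) (Lpe (K13.f214018 IH) (Lpr_bt (K16.f216307 IH) (Lpr_gt (K16.f216308 IH) (Lpr_ct (K16.f224124 IH) (Lpn (LP (LK LD1_c27 LD2_c35 LD3_c59)))))))))))))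
theorem f256993 : Led Lsl_cf (LP (LK LD1_c20 LD2_c2 LD3_c56)) = (LP (LK LD1_c19 LD2_c3 LD3_c34)) :=
  Lgr Lrot11 (Lpr_ct (f256989 IH) (Lpn (LP (LK LD1_c19 LD2_c3 LD3_c34))))
theorem f395682 : Led Lsl_ct (LP (LK LD1_c28 LD2_c56 LD3_c59)) = (LP (LK LD1_c28 LD2_c29 LD3_c47)) :=
  Lgr Lrot83 (Lpr_bf (f395676 IH) (Lpr_cf (f390036 IH) (Lpe (f228158 IH) (Lpr_cf (f256993 IH) (Lpe (f256927 IH) (Lpn (LP (LK LD1_c28 LD2_c29 LD3_c47))))))))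
theorem f397417 : Led Lsl_df (LP (LK LD1_c28 LD2_c29 LD3_c47)) = (LP (LK LD1_c27 LD2_c30 LD3_c46)) :=
  Lgr Lrot162 (Lpe (f395682 IH) (Lpr_gf (f395720 IH) (Lpe (K16.f224124 IH) (Lpe (K16.f216308 IH) (Lpe (K22.f224062 IH) (Lpr_gt (f397272 IH) (Lpe (K18.f246598 IH) (Lpe (f396923 IH) (Lpr_ct (f229720 IH) (Lpn (LP (LK LD1_c27 LD2_c30 LD3_c46))))))))))))
theorem f374542 : Led Lsl_ff (LP (LK LD1_c10 LD2_c40 LD3_c20)) = (LP (LK LD1_c19 LD2_c4 LD3_c59)) :=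
  Lgr Lrot3 (Lpr_ft (f374535 IH) (Lpn (LP (LK LD1_c19 LD2_c4 LD3_c59))))
theorem f374546 : Led Lsl_ft (LP (LK LD1_c19 LD2_c19 LD3_c34)) = (LP (LK LD1_c28 LD2_c30 LD3_c57)) :=
  Lgr Lrot54 (Lpe (f246627 IH) (Lpr_ff (f374542 IH) (Lpe (f220790 IH) (Lpn (LP (LK LD1_c28 LD2_c30 LD3_c57))))))
theorem f373832 : Led Lsl_gt (LP (LK LD1_c19 LD2_c19 LD3_c34)) = (LP (LK LD1_c28 LD2_c44 LD3_c44)) :=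
  Lre_g IH (LK LD1_c19 LD2_c19 LD3_c34) (LK LD1_c28 LD2_c44 LD3_c44) Lrfl Lrfl
theorem f374519 : Led Lsl_af (LP (LK LD1_c19 LD2_c19 LD3_c40)) = (LP (LK LD1_c28 LD2_c30 LD3_c57)) :=
  Lgr Lrot68 (Lpe (f374499 IH) (Lpr_at (f373861 IH) (Lpr_ct (f374517 IH) (Lpn (LP (LK LD1_c28 LD2_c30 LD3_c57))))))
theorem f374548 : Led Lsl_gt (LP (LK LD1_c28 LD2_c44 LD3_c44)) = (LP (LK LD1_c19 LD2_c19 LD3_c40)) :=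
  Lgr Lrot46 (Lpe (f373832 IH) (Lpr_ft (f374546 IH) (Lpe (f374519 IH) (Lpn (LP (LK LD1_c19 LD2_c19 LD3_c40))))))
theorem f396913 : Led Lsl_dt (LP (LK LD1_c28 LD2_c56 LD3_c59)) = (LP (LK LD1_c28 LD2_c44 LD3_c44)) :=
  Lgr Lrot6 (Lpr_gt (f395675 IH) (Lpr_ct (f395665 IH) (Lpr_gt (f224127 IH) (Lpe (K30.f339391 IH) (Lpr_df (K22.f234767 IH) (Lpr_cf (K30.f396906 IH) (Lpe (K30.f245043 IH) (Lpr_cf (f374499 IH) (Lpe (f374548 IH) (Lpn (LP (LK LD1_c28 LD2_c44 LD3_c44))))))))))))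
theorem f398373 : Led Lsl_cf (LP (LK LD1_c25 LD2_c58 LD3_c5)) = (LP (LK LD1_c28 LD2_c44 LD3_c44)) :=
  Lgr Lrot99 (Lpe (f250582 IH) (Lpr_cf (K20.f250559 IH) (Lpr_gf (K30.f397450 IH) (Lpe (K16.f260528 IH) (Lpe (K30.f397264 IH) (Lpr_df (K30.f396919 IH) (Lpe (K30.f373858 IH) (Lpr_ct (K27.f373823 IH) (Lpr_gt (f373832 IH) (Lpn (LP (LK LD1_c28 LD2_c44 LD3_c44))))))))))))
theorem f398784 : Led Lsl_af (LP (LK LD1_c25 LD2_c58 LD3_c5)) = (LP (LK LD1_c26 LD2_c13 LD3_c55)) :=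
  Lgr Lrot109 (Lpr_cf (f398373 IH) (Lpe (f396913 IH) (Lpr_cf (f395714 IH) (Lpr_df (f397417 IH) (Lpe (f229720 IH) (Lpe (K30.f229719 IH) (Lpr_cf (f397840 IH) (Lpe (f397837 IH) (Lpr_ft (f398779 IH) (Lpn (LP (LK LD1_c26 LD2_c13 LD3_c55))))))))))))
theorem f398948 : Led Lsl_ft (LP (LK LD1_c25 LD2_c58 LD3_c5)) = (LP (LK LD1_c26 LD2_c13 LD3_c58)) :=
  Lgr Lrot101 (Lpr_af (f398784 IH) (Lpe (f398779 IH) (Lpr_af (f398942 IH) (Lpn (LP (LK LD1_c26 LD2_c13 LD3_c58))))))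
theorem f398952 : Led Lsl_ff (LP (LK LD1_c28 LD2_c44 LD3_c44)) = (LP (LK LD1_c25 LD2_c55 LD3_c56)) :=
  Lgr Lrot23 (Lpe (f398373 IH) (Lpr_ft (f398948 IH) (Lpe (f398394 IH) (Lpn (LP (LK LD1_c25 LD2_c55 LD3_c56))))))
theorem f373752 : Led Lsl_gt (LP (LK LD1_c15 LD2_c58 LD3_c42)) = (LP (LK LD1_c25 LD2_c55 LD3_c55)) :=
  Lre_g IH (LK LD1_c15 LD2_c58 LD3_c42) (LK LD1_c25 LD2_c55 LD3_c55) Lrfl Lrfl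
theorem f398958 : Led Lsl_at (LP (LK LD1_c28 LD2_c44 LD3_c44)) = (LP (LK LD1_c25 LD2_c55 LD3_c55)) :=
  Lgr Lrot26 (Lpr_ff (f398952 IH) (Lpr_gt (f243228 IH) (Lpr_gt (f373752 IH) (Lpn (LP (LK LD1_c25 LD2_c55 LD3_c55))))))
theorem f398960 : Led Lsl_cf (LP (LK LD1_c25 LD2_c55 LD3_c55)) = (LP (LK LD1_c26 LD2_c13 LD3_c55)) :=
  Lgr Lrot102 (Lpe (f398958 IH) (Lpr_ff (f398952 IH) (Lpr_dt (f398805 IH) (Lpr_ct (f391213 IH) (Lpe (f398426 IH) (Lpr_ct (f373766 IH) (Lpr_dt (f398414 IH) (Lpr_ct (f270421 IH) (Lpr_dt (f397929 IH) (Lpn (LP (LK LD1_c26 LD2_c13 LD3_c55))))))))))))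
theorem f398964 : Led Lsl_ct (LP (LK LD1_c25 LD2_c55 LD3_c55)) = (LP (LK LD1_c26 LD2_c13 LD3_c55)) :=
  Lgr Lrot59 (Lpr_cf (f398960 IH) (Lpn (LP (LK LD1_c26 LD2_c13 LD3_c55))))
theorem f243201 : Led Lsl_gt (LP (LK LD1_c15 LD2_c58 LD3_c41)) = (LP (LK LD1_c8 LD2_c30 LD3_c29)) :=
  Lre_g IH (LK LD1_c15 LD2_c58 LD3_c41) (LK LD1_c8 LD2_c30 LD3_c29) Lrfl Lrfl
theorem f399087 : Led Lsl_df (LP (LK LD1_c15 LD2_c58 LD3_c41)) = (LP (LK LD1_c8 LD2_c31 LD3_c13)) :=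
  Lgr Lrot155 (Lpr_gt (f243201 IH) (Lpr_ct (K27.f243225 IH) (Lpr_gt (f373752 IH) (Lpr_ct (f398964 IH) (Lpr_dt (f397928 IH) (Lpe (f270421 IH) (Lpe (f227218 IH) (Lpr_cf (K30.f237766 IH) (Lpe (K30.f260561 IH) (Lpn (LP (LK LD1_c8 LD2_c31 LD3_c13))))))))))))
theorem f373985 : Led Lsl_ct (LP (LK LD1_c15 LD2_c58 LD3_c41)) = (LP (LK LD1_c25 LD2_c55 LD3_c53)) :=
  Lre_c IH (LK LD1_c15 LD2_c58 LD3_c41) (LK LD1_c25 LD2_c55 LD3_c53) Lrfl Lrfl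
theorem f399098 : Led Lsl_af (LP (LK LD1_c25 LD2_c55 LD3_c53)) = (LP (LK LD1_c18 LD2_c51 LD3_c19)) :=
  Lgr Lrot109 (Lpe (f373985 IH) (Lpr_df (f399087 IH) (Lpe (K30.f260562 IH) (Lpr_df (f397079 IH) (Lpe (f218769 IH) (Lpr_df (K30.f221781 IH) (Lpe (K30.f221787 IH) (Lpr_df (K23.f339358 IH) (Lpr_ft (K22.f339337 IH) (Lpn (LP (LK LD1_c18 LD2_c51 LD3_c19))))))))))))
theorem f218738 : Led Lsl_gt (LP (LK LD1_c15 LD2_c2 LD3_c20)) = (LP (LK LD1_c7 LD2_c58 LD3_c19)) :=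
  Lre_g IH (LK LD1_c15 LD2_c2 LD3_c20) (LK LD1_c7 LD2_c58 LD3_c19) Lrfl Lrfl
theorem f374637 : Led Lsl_gt (LP (LK LD1_c24 LD2_c48 LD3_c43)) = (LP (LK LD1_c15 LD2_c2 LD3_c20)) :=
  Lgr Lrot5 (Lpr_ft (f374625 IH) (Lpr_at (f218936 IH) (Lpe (f218738 IH) (Lpn (LP (LK LD1_c15 LD2_c2 LD3_c20))))))
theorem f251752 : Led Lsl_gt (LP (LK LD1_c8 LD2_c6 LD3_c17)) = (LP (LK LD1_c15 LD2_c15 LD3_c33)) :=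
  Lre_g IH (LK LD1_c8 LD2_c6 LD3_c17) (LK LD1_c15 LD2_c15 LD3_c33) Lrfl Lrfl
theorem f361881 : Led Lsl_at (LP (LK LD1_c5 LD2_c24 LD3_c54)) = (LP (LK LD1_c10 LD2_c40 LD3_c26)) :=
  Lre_a IH (LK LD1_c5 LD2_c24 LD3_c54) (LK LD1_c10 LD2_c40 LD3_c26) Lrfl Lrfl
theorem f373700 : Led Lsl_gt (LP (LK LD1_c15 LD2_c15 LD3_c33)) = (LP (LK LD1_c10 LD2_c40 LD3_c26)) :=
  Lgr Lrot46 (Lpe (f251752 IH) (Lpr_ft (K27.f373694 IH) (Lpr_at (f361881 IH) (Lpn (LP (LK LD1_c10 LD2_c40 LD3_c26))))))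
theorem f218732 : Led Lsl_bt (LP (LK LD1_c2 LD2_c11 LD3_c48)) = (LP (LK LD1_c4 LD2_c29 LD3_c26)) :=
  Lre_b IH (LK LD1_c2 LD2_c11 LD3_c48) (LK LD1_c4 LD2_c29 LD3_c26) Lrfl Lrfl
theorem f173539 : Led Lsl_gt (LP (LK LD1_c4 LD2_c29 LD3_c26)) = (LP (LK LD1_c8 LD2_c57 LD3_c2)) :=
  Lre_g IH (LK LD1_c4 LD2_c29 LD3_c26) (LK LD1_c8 LD2_c57 LD3_c2) Lrfl Lrfl
theorem f218737 : Led Lsl_bt (LP (LK LD1_c16 LD2_c45 LD3_c30)) = (LP (LK LD1_c8 LD2_c57 LD3_c2)) :=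
  Lre_b IH (LK LD1_c16 LD2_c45 LD3_c30) (LK LD1_c8 LD2_c57 LD3_c2) Lrfl Lrfl
theorem f50174 : Led Lsl_bt (LP (LK LD1_c10 LD2_c23 LD3_c26)) = (LP (LK LD1_c5 LD2_c16 LD3_c57)) :=
  Lre_b IH (LK LD1_c10 LD2_c23 LD3_c26) (LK LD1_c5 LD2_c16 LD3_c57) Lrfl Lrfl
theorem f218714 : Led Lsl_bt (LP (LK LD1_c5 LD2_c16 LD3_c57)) = (LP (LK LD1_c10 LD2_c23 LD3_c26)) :=
  Lre_b IH (LK LD1_c5 LD2_c16 LD3_c57) (LK LD1_c10 LD2_c23 LD3_c26) Lrfl Lrfl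
theorem f218715 : Led Lsl_cf (LP (LK LD1_c7 LD2_c58 LD3_c19)) = (LP (LK LD1_c10 LD2_c23 LD3_c26)) :=
  Lgr Lrot97 (Lpr_bt (f218713 IH) (Lpr_ct (K12.f218712 IH) (Lpr_bt (K12.f218711 IH) (Lpr_ct (K12.f218709 IH) (Lpr_bt (f218714 IH) (Lpn (LP (LK LD1_c10 LD2_c23 LD3_c26))))))))
theorem f218739 : Led Lsl_ct (LP (LK LD1_c16 LD2_c45 LD3_c30)) = (LP (LK LD1_c15 LD2_c2 LD3_c20)) :=
  Lgr Lrot64 (Lpr_bt (f218737 IH) (Lpe (f173539 IH) (Lpe (f218732 IH) (Lpr_ct (K15.f40800 IH) (Lpr_gf (K12.f218726 IH) (Lpe (K12.f49339 IH) (Lpe (K12.f49348 IH) (Lpe (f50174 IH) (Lpe (f218715 IH) (Lpe (f218738 IH) (Lpn (LP (LK LD1_c15 LD2_c2 LD3_c20)))))))))))))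
theorem f281100 : Led Lsl_gf (LP (LK LD1_c5 LD2_c32 LD3_c19)) = (LP (LK LD1_c8 LD2_c57 LD3_c2)) :=
  Lgr Lrot76 (Lpe (K20.f281091 IH) (Lpr_ff (K20.f281079 IH) (Lpr_gt (f173539 IH) (Lpn (LP (LK LD1_c8 LD2_c57 LD3_c2))))))
theorem f213347 : Led Lsl_ct (LP (LK LD1_c5 LD2_c32 LD3_c19)) = (LP (LK LD1_c2 LD2_c42 LD3_c29)) :=
  Lre_c IH (LK LD1_c5 LD2_c32 LD3_c19) (LK LD1_c2 LD2_c42 LD3_c29) Lrfl Lrfl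
theorem f232134 : Led Lsl_gt (LP (LK LD1_c4 LD2_c29 LD3_c34)) = (LP (LK LD1_c2 LD2_c11 LD3_c50)) :=
  Lre_g IH (LK LD1_c4 LD2_c29 LD3_c34) (LK LD1_c2 LD2_c11 LD3_c50) Lrfl Lrfl
theorem f281159 : Led Lsl_gt (LP (LK LD1_c2 LD2_c42 LD3_c29)) = (LP (LK LD1_c4 LD2_c29 LD3_c34)) :=
  Lgr Lrot5 (Lpr_ft (K20.f281145 IH) (Lpr_at (K24.f280969 IH) (Lpe (f232134 IH) (Lpn (LP (LK LD1_c4 LD2_c29 LD3_c34))))))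
theorem f232135 : Led Lsl_ct (LP (LK LD1_c8 LD2_c57 LD3_c23)) = (LP (LK LD1_c4 LD2_c29 LD3_c34)) :=
  Lre_c IH (LK LD1_c8 LD2_c57 LD3_c23) (LK LD1_c4 LD2_c29 LD3_c34) Lrfl Lrfl
theorem f374639 : Led Lsl_bf (LP (LK LD1_c15 LD2_c15 LD3_c33)) = (LP (LK LD1_c8 LD2_c57 LD3_c23)) :=
  Lgr Lrot156 (Lpr_gt (f373700 IH) (Lpe (K27.f373276 IH) (Lpr_ct (f196521 IH) (Lpr_gt (f374637 IH) (Lpe (f218739 IH) (Lpr_bt (f218737 IH) (Lpe (f281100 IH) (Lpr_ct (f213347 IH) (Lpr_gt (f281159 IH) (Lpe (f232135 IH) (Lpn (LP (LK LD1_c8 LD2_c57 LD3_c23)))))))))))))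
theorem f213340 : Led Lsl_bt (LP (LK LD1_c5 LD2_c32 LD3_c19)) = (LP (LK LD1_c10 LD2_c55 LD3_c57)) :=
  Lre_b IH (LK LD1_c5 LD2_c32 LD3_c19) (LK LD1_c10 LD2_c55 LD3_c57) Lrfl Lrfl
theorem f374645 : Led Lsl_gt (LP (LK LD1_c5 LD2_c24 LD3_c53)) = (LP (LK LD1_c10 LD2_c32 LD3_c0)) :=
  Lgr Lrot149 (Lpe (K27.f373275 IH) (Lpe (f373700 IH) (Lpr_bf (f374639 IH) (Lpr_ct (f232135 IH) (Lpe (f281159 IH) (Lpe (f213347 IH) (Lpr_bt (f213340 IH) (Lpe (K27.f213362 IH) (Lpr_bf (K27.f373719 IH) (Lpr_ct (K27.f373705 IH) (Lpn (LP (LK LD1_c10 LD2_c32 LD3_c0)))))))))))))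
theorem f251753 : Led Lsl_dt (LP (LK LD1_c15 LD2_c15 LD3_c33)) = (LP (LK LD1_c25 LD2_c4 LD3_c55)) :=
  Lre_d IH (LK LD1_c15 LD2_c15 LD3_c33) (LK LD1_c25 LD2_c4 LD3_c55) Lrfl Lrfl
theorem f373753 : Led Lsl_ct (LP (LK LD1_c25 LD2_c55 LD3_c53)) = (LP (LK LD1_c15 LD2_c58 LD3_c41)) :=
  Lre_c IH (LK LD1_c25 LD2_c55 LD3_c53) (LK LD1_c15 LD2_c58 LD3_c41) Lrfl Lrfl
theorem f374649 : Led Lsl_gt (LP (LK LD1_c25 LD2_c4 LD3_c55)) = (LP (LK LD1_c25 LD2_c55 LD3_c53)) :=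
  Lgr Lrot9 (Lpe (f251753 IH) (Lpr_gt (f373700 IH) (Lpr_ct (K27.f373275 IH) (Lpr_gt (f374645 IH) (Lpr_ct (K27.f373723 IH) (Lpe (K27.f373744 IH) (Lpe (K27.f243225 IH) (Lpe (f243201 IH) (Lpe (f373753 IH) (Lpn (LP (LK LD1_c25 LD2_c55 LD3_c53))))))))))))
theorem f399109 : Led Lsl_gf (LP (LK LD1_c25 LD2_c4 LD3_c55)) = (LP (LK LD1_c15 LD2_c15 LD3_c55)) :=
  Lgr Lrot47 (Lpr_gt (f374649 IH) (Lpr_af (f399098 IH) (Lpe (K22.f339337 IH) (Lpn (LP (LK LD1_c15 LD2_c15 LD3_c55))))))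
theorem f373702 : Led Lsl_dt (LP (LK LD1_c25 LD2_c4 LD3_c55)) = (LP (LK LD1_c15 LD2_c15 LD3_c33)) :=
  Lre_d IH (LK LD1_c25 LD2_c4 LD3_c55) (LK LD1_c15 LD2_c15 LD3_c33) Lrfl Lrfl
theorem f397060 : Led Lsl_df (LP (LK LD1_c15 LD2_c59 LD3_c41)) = (LP (LK LD1_c19 LD2_c22 LD3_c22)) :=
  Lgr Lrot38 (Lpr_dt (K30.f397058 IH) (Lpn (LP (LK LD1_c19 LD2_c22 LD3_c22))))
theorem f224120 : Led Lsl_at (LP (LK LD1_c9 LD2_c41 LD3_c8)) = (LP (LK LD1_c17 LD2_c48 LD3_c58)) :=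
  Lre_a IH (LK LD1_c9 LD2_c41 LD3_c8) (LK LD1_c17 LD2_c48 LD3_c58) Lrfl Lrfl
theorem f224121 : Led Lsl_df (LP (LK LD1_c10 LD2_c42 LD3_c3)) = (LP (LK LD1_c17 LD2_c48 LD3_c58)) :=
  Lgr Lrot18 (Lpr_at (K30.f224119 IH) (Lpr_dt (K30.f224116 IH) (Lpr_at (f224120 IH) (Lpn (LP (LK LD1_c17 LD2_c48 LD3_c58))))))
theorem f339387 : Led Lsl_ff (LP (LK LD1_c25 LD2_c31 LD3_c15)) = (LP (LK LD1_c17 LD2_c48 LD3_c58)) :=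
  Lgr Lrot30 (Lpr_at (K30.f221792 IH) (Lpr_ft (K22.f339383 IH) (Lpr_at (f224120 IH) (Lpn (LP (LK LD1_c17 LD2_c48 LD3_c58))))))
theorem f398407 : Led Lsl_ct (LP (LK LD1_c15 LD2_c58 LD3_c40)) = (LP (LK LD1_c15 LD2_c15 LD3_c55)) :=
  Lgr Lrot53 (Lpr_df (f398398 IH) (Lpe (K30.f260558 IH) (Lpr_df (f397060 IH) (Lpe (K30.f224129 IH) (Lpr_df (f224121 IH) (Lpe (f339387 IH) (Lpr_at (K30.f221792 IH) (Lpe (K30.f221787 IH) (Lpr_df (K23.f339358 IH) (Lpn (LP (LK LD1_c15 LD2_c15 LD3_c55))))))))))))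
theorem f243204 : Led Lsl_gt (LP (LK LD1_c8 LD2_c30 LD3_c27)) = (LP (LK LD1_c4 LD2_c15 LD3_c43)) :=
  Lre_g IH (LK LD1_c8 LD2_c30 LD3_c27) (LK LD1_c4 LD2_c15 LD3_c43) Lrfl Lrfl
theorem f373847 : Led Lsl_gf (LP (LK LD1_c8 LD2_c30 LD3_c27)) = (LP (LK LD1_c15 LD2_c56 LD3_c60)) :=
  Lgr Lrot47 (Lpr_gt (f243204 IH) (Lpe (K27.f243187 IH) (Lpr_ff (K30.f373835 IH) (Lpn (LP (LK LD1_c15 LD2_c56 LD3_c60))))))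
theorem f243205 : Led Lsl_dt (LP (LK LD1_c8 LD2_c30 LD3_c27)) = (LP (LK LD1_c15 LD2_c58 LD3_c36)) :=
  Lre_d IH (LK LD1_c8 LD2_c30 LD3_c27) (LK LD1_c15 LD2_c58 LD3_c36) Lrfl Lrfl
theorem f399111 : Led Lsl_ct (LP (LK LD1_c19 LD2_c19 LD3_c42)) = (LP (LK LD1_c15 LD2_c58 LD3_c36)) :=
  Lgr Lrot7 (Lpe (K27.f373280 IH) (Lpe (f373700 IH) (Lpe (f373702 IH) (Lpr_gf (f399109 IH) (Lpe (f398407 IH) (Lpr_gt (f373863 IH) (Lpr_dt (K30.f197703 IH) (Lpe (f373847 IH) (Lpr_dt (f243205 IH) (Lpn (LP (LK LD1_c15 LD2_c58 LD3_c36))))))))))))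
theorem f399125 : Led Lsl_cf (LP (LK LD1_c19 LD2_c19 LD3_c42)) = (LP (LK LD1_c15 LD2_c58 LD3_c36)) :=
  Lgr Lrot11 (Lpr_ct (f399111 IH) (Lpn (LP (LK LD1_c15 LD2_c58 LD3_c36))))
theorem f399128 : Led Lsl_ct (LP (LK LD1_c15 LD2_c15 LD3_c55)) = (LP (LK LD1_c15 LD2_c58 LD3_c40)) :=
  Lgr Lrot8 (Lpe (f399109 IH) (Lpr_dt (f373702 IH) (Lpr_gt (f373700 IH) (Lpr_dt (K27.f373280 IH) (Lpr_cf (f399125 IH) (Lpe (f243205 IH) (Lpr_gf (f373847 IH) (Lpe (K30.f197703 IH) (Lpe (f373863 IH) (Lpn (LP (LK LD1_c15 LD2_c58 LD3_c40))))))))))))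
theorem f339344 : Led Lsl_et (LP (LK LD1_c25 LD2_c5 LD3_c39)) = (LP (LK LD1_c15 LD2_c15 LD3_c55)) :=
  Lre_e IH (LK LD1_c25 LD2_c5 LD3_c39) (LK LD1_c15 LD2_c15 LD3_c55) Lrfl Lrfl
theorem f398404 : Led Lsl_et (LP (LK LD1_c15 LD2_c58 LD3_c40)) = (LP (LK LD1_c25 LD2_c55 LD3_c51)) :=
  Lre_e IH (LK LD1_c15 LD2_c58 LD3_c40) (LK LD1_c25 LD2_c55 LD3_c51) Lrfl Lrfl
theorem f399132 : Led Lsl_cf (LP (LK LD1_c25 LD2_c5 LD3_c39)) = (LP (LK LD1_c25 LD2_c55 LD3_c51)) :=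
  Lgr Lrot39 (Lpr_et (f339344 IH) (Lpr_ct (f399128 IH) (Lpr_et (f398404 IH) (Lpn (LP (LK LD1_c25 LD2_c55 LD3_c51))))))
theorem f399246 : Led Lsl_ct (LP (LK LD1_c25 LD2_c5 LD3_c39)) = (LP (LK LD1_c25 LD2_c55 LD3_c51)) :=
  Lgr Lrot59 (Lpr_cf (f399132 IH) (Lpn (LP (LK LD1_c25 LD2_c55 LD3_c51))))
theorem f222698 : Led Lsl_bt (LP (LK LD1_c15 LD2_c15 LD3_c56)) = (LP (LK LD1_c25 LD2_c5 LD3_c39)) :=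
  Lre_b IH (LK LD1_c15 LD2_c15 LD3_c56) (LK LD1_c25 LD2_c5 LD3_c39) Lrfl Lrfl
theorem f222699 : Led Lsl_bt (LP (LK LD1_c15 LD2_c35 LD3_c41)) = (LP (LK LD1_c8 LD2_c17 LD3_c39)) :=
  Lre_b IH (LK LD1_c15 LD2_c35 LD3_c41) (LK LD1_c8 LD2_c17 LD3_c39) Lrfl Lrfl
theorem f222700 : Led Lsl_ct (LP (LK LD1_c25 LD2_c30 LD3_c5)) = (LP (LK LD1_c15 LD2_c35 LD3_c41)) :=
  Lre_c IH (LK LD1_c25 LD2_c30 LD3_c5) (LK LD1_c15 LD2_c35 LD3_c41) Lrfl Lrfl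
theorem f399248 : Led Lsl_bf (LP (LK LD1_c25 LD2_c30 LD3_c5)) = (LP (LK LD1_c25 LD2_c55 LD3_c51)) :=
  Lgr Lrot90 (Lpr_ct (f222700 IH) (Lpr_bt (f222699 IH) (Lpe (K23.f222692 IH) (Lpr_bt (f222698 IH) (Lpr_ct (f399246 IH) (Lpn (LP (LK LD1_c25 LD2_c55 LD3_c51))))))))
theorem f394408 : Led Lsl_et (LP (LK LD1_c25 LD2_c30 LD3_c5)) = (LP (LK LD1_c15 LD2_c35 LD3_c40)) :=
  Lre_e IH (LK LD1_c25 LD2_c30 LD3_c5) (LK LD1_c15 LD2_c35 LD3_c40) Lrfl Lrfl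
theorem f399250 : Led Lsl_bt (LP (LK LD1_c15 LD2_c35 LD3_c40)) = (LP (LK LD1_c15 LD2_c58 LD3_c40)) :=
  Lgr Lrot119 (Lpe (f394408 IH) (Lpr_bf (f399248 IH) (Lpe (f398404 IH) (Lpn (LP (LK LD1_c15 LD2_c58 LD3_c40))))))
theorem f222742 : Led Lsl_ct (LP (LK LD1_c15 LD2_c35 LD3_c40)) = (LP (LK LD1_c8 LD2_c17 LD3_c35)) :=
  Lre_c IH (LK LD1_c15 LD2_c35 LD3_c40) (LK LD1_c8 LD2_c17 LD3_c35) Lrfl Lrfl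
theorem f222696 : Led Lsl_gt (LP (LK LD1_c8 LD2_c17 LD3_c35)) = (LP (LK LD1_c15 LD2_c35 LD3_c38)) :=
  Lre_g IH (LK LD1_c8 LD2_c17 LD3_c35) (LK LD1_c15 LD2_c35 LD3_c38) Lrfl Lrfl
theorem f243519 : Led Lsl_bt (LP (LK LD1_c4 LD2_c15 LD3_c44)) = (LP (LK LD1_c8 LD2_c30 LD3_c29)) :=
  Lre_b IH (LK LD1_c4 LD2_c15 LD3_c44) (LK LD1_c8 LD2_c30 LD3_c29) Lrfl Lrfl
theorem f7920 : Led Lsl_bt (LP (LK LD1_c8 LD2_c32 LD3_c22)) = (LP (LK LD1_c4 LD2_c16 LD3_c34)) :=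
  Lre_b IH (LK LD1_c8 LD2_c32 LD3_c22) (LK LD1_c4 LD2_c16 LD3_c34) Lrfl Lrfl
theorem f399253 : Led Lsl_cf (LP (LK LD1_c15 LD2_c35 LD3_c38)) = (LP (LK LD1_c8 LD2_c32 LD3_c22)) :=
  Lgr Lrot58 (Lpe (f222696 IH) (Lpe (f222742 IH) (Lpr_bt (f399250 IH) (Lpe (f243526 IH) (Lpe (f243519 IH) (Lpr_ct (K13.f243520 IH) (Lpe (K13.f52087 IH) (Lpe (K12.f221069 IH) (Lpe (K12.f1021 IH) (Lpe (f7920 IH) (Lpn (LP (LK LD1_c8 LD2_c32 LD3_c22)))))))))))))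
theorem f394399 : Led Lsl_ft (LP (LK LD1_c8 LD2_c17 LD3_c35)) = (LP (LK LD1_c15 LD2_c33 LD3_c39)) :=
  Lgr Lrot4 (Lpe (f222742 IH) (Lpr_ff (K30.f394397 IH) (Lpe (K30.f222268 IH) (Lpn (LP (LK LD1_c15 LD2_c33 LD3_c39))))))
theorem f394419 : Led Lsl_gt (LP (LK LD1_c15 LD2_c35 LD3_c38)) = (LP (LK LD1_c25 LD2_c27 LD3_c14)) :=
  Lgr Lrot46 (Lpe (f222696 IH) (Lpr_ft (f394399 IH) (Lpr_at (K30.f394381 IH) (Lpn (LP (LK LD1_c25 LD2_c27 LD3_c14))))))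
theorem f394377 : Led Lsl_gt (LP (LK LD1_c15 LD2_c33 LD3_c38)) = (LP (LK LD1_c8 LD2_c17 LD3_c33)) :=
  Lgr Lrot5 (Lpr_ft (K30.f394354 IH) (Lpr_at (K30.f328504 IH) (Lpe (K27.f220079 IH) (Lpn (LP (LK LD1_c8 LD2_c17 LD3_c33))))))
theorem f263823 : Led Lsl_dt (LP (LK LD1_c8 LD2_c17 LD3_c33)) = (LP (LK LD1_c15 LD2_c35 LD3_c34)) :=
  Lre_d IH (LK LD1_c8 LD2_c17 LD3_c33) (LK LD1_c15 LD2_c35 LD3_c34) Lrfl Lrfl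
theorem f263847 : Led Lsl_ct (LP (LK LD1_c15 LD2_c35 LD3_c34)) = (LP (LK LD1_c25 LD2_c29 LD3_c54)) :=
  Lre_c IH (LK LD1_c15 LD2_c35 LD3_c34) (LK LD1_c25 LD2_c29 LD3_c54) Lrfl Lrfl
theorem f170471 : Led Lsl_bt (LP (LK LD1_c2 LD2_c5 LD3_c32)) = (LP (LK LD1_c4 LD2_c16 LD3_c25)) :=
  Lre_b IH (LK LD1_c2 LD2_c5 LD3_c32) (LK LD1_c4 LD2_c16 LD3_c25) Lrfl Lrfl
theorem f365391 : Led Lsl_ff (LP (LK LD1_c8 LD2_c29 LD3_c58)) = (LP (LK LD1_c4 LD2_c16 LD3_c25)) :=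
  Lgr Lrot25 (Lpr_bt (K27.f52201 IH) (Lpr_ft (K26.f365389 IH) (Lpr_bt (f170471 IH) (Lpn (LP (LK LD1_c4 LD2_c16 LD3_c25))))))
theorem f170476 : Led Lsl_gt (LP (LK LD1_c4 LD2_c16 LD3_c25)) = (LP (LK LD1_c8 LD2_c32 LD3_c1)) :=
  Lre_g IH (LK LD1_c4 LD2_c16 LD3_c25) (LK LD1_c8 LD2_c32 LD3_c1) Lrfl Lrfl
theorem f377796 : Led Lsl_gf (LP (LK LD1_c15 LD2_c57 LD3_c31)) = (LP (LK LD1_c8 LD2_c32 LD3_c1)) :=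
  Lgr Lrot76 (Lpe (K27.f171098 IH) (Lpr_ff (f365391 IH) (Lpr_gt (f170476 IH) (Lpn (LP (LK LD1_c8 LD2_c32 LD3_c1))))))
theorem f232505 : Led Lsl_dt (LP (LK LD1_c16 LD2_c1 LD3_c14)) = (LP (LK LD1_c8 LD2_c32 LD3_c1)) :=
  Lre_d IH (LK LD1_c16 LD2_c1 LD3_c14) (LK LD1_c8 LD2_c32 LD3_c1) Lrfl Lrfl
theorem f399267 : Led Lsl_gf (LP (LK LD1_c16 LD2_c1 LD3_c14)) = (LP (LK LD1_c8 LD2_c32 LD3_c22)) :=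
  Lgr Lrot144 (Lpr_dt (f232505 IH) (Lpe (f377796 IH) (Lpe (K27.f373015 IH) (Lpe (f263847 IH) (Lpe (f263823 IH) (Lpe (f394377 IH) (Lpe (K30.f236092 IH) (Lpe (f394419 IH) (Lpr_cf (f399253 IH) (Lpn (LP (LK LD1_c8 LD2_c32 LD3_c22))))))))))))
theorem f359059 : Led Lsl_bt (LP (LK LD1_c25 LD2_c58 LD3_c37)) = (LP (LK LD1_c16 LD2_c1 LD3_c14)) :=
  Lre_b IH (LK LD1_c25 LD2_c58 LD3_c37) (LK LD1_c16 LD2_c1 LD3_c14) Lrfl Lrfl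
theorem f359003 : Led Lsl_bt (LP (LK LD1_c4 LD2_c19 LD3_c7)) = (LP (LK LD1_c4 LD2_c9 LD3_c6)) :=
  Lgr Lrot130 (Lpr_ct (K18.f200626 IH) (Lpe (K14.f200612 IH) (Lpe (K14.f200607 IH) (Lpr_bt (K14.f7927 IH) (Lpe (K9.f179106 IH) (Lpe (K12.f168330 IH) (Lpr_ct (K13.f168317 IH) (Lpe (K13.f168345 IH) (Lpr_cf (K13.f236358 IH) (Lpr_gf (K26.f359001 IH) (Lpn (LP (LK LD1_c4 LD2_c9 LD3_c6)))))))))))))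
theorem f1105 : Led Lsl_bt (LP (LK LD1_c0 LD2_c58 LD3_c27)) = (LP (LK LD1_c0 LD2_c26 LD3_c30)) :=
  Lre_b IH (LK LD1_c0 LD2_c58 LD3_c27) (LK LD1_c0 LD2_c26 LD3_c30) Lrfl Lrfl
theorem f1053 : Led Lsl_ct (LP (LK LD1_c2 LD2_c2 LD3_c8)) = (LP (LK LD1_c0 LD2_c58 LD3_c27)) :=
  Lre_c IH (LK LD1_c2 LD2_c2 LD3_c8) (LK LD1_c0 LD2_c58 LD3_c27) Lrfl Lrfl
theorem f1085 : Led Lsl_dt (LP (LK LD1_c4 LD2_c9 LD3_c50)) = (LP (LK LD1_c2 LD2_c2 LD3_c8)) :=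
  Lre_d IH (LK LD1_c4 LD2_c9 LD3_c50) (LK LD1_c2 LD2_c2 LD3_c8) Lrfl Lrfl
theorem f1094 : Led Lsl_gt (LP (LK LD1_c8 LD2_c19 LD3_c49)) = (LP (LK LD1_c4 LD2_c9 LD3_c50)) :=
  Lre_g IH (LK LD1_c8 LD2_c19 LD3_c49) (LK LD1_c4 LD2_c9 LD3_c50) Lrfl Lrfl
theorem f50526 : Led Lsl_bt (LP (LK LD1_c15 LD2_c40 LD3_c34)) = (LP (LK LD1_c8 LD2_c19 LD3_c49)) :=
  Lre_b IH (LK LD1_c15 LD2_c40 LD3_c34) (LK LD1_c8 LD2_c19 LD3_c49) Lrfl Lrfl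
theorem f170550 : Led Lsl_dt (LP (LK LD1_c8 LD2_c32 LD3_c1)) = (LP (LK LD1_c16 LD2_c1 LD3_c14)) :=
  Lre_d IH (LK LD1_c8 LD2_c32 LD3_c1) (LK LD1_c16 LD2_c1 LD3_c14) Lrfl Lrfl
theorem f359054 : Led Lsl_cf (LP (LK LD1_c15 LD2_c40 LD3_c34)) = (LP (LK LD1_c16 LD2_c1 LD3_c14)) :=
  Lgr Lrot89 (Lpr_bt (f50526 IH) (Lpr_gt (f1094 IH) (Lpr_dt (f1085 IH) (Lpr_ct (f1053 IH) (Lpr_bt (f1105 IH) (Lpr_gt (K9.f1399 IH) (Lpe (K9.f178274 IH) (Lpr_ct (K9.f51581 IH) (Lpr_bt (K14.f178350 IH) (Lpr_gt (K14.f178507 IH) (Lpe (K14.f255932 IH) (Lpr_ct (K14.f200625 IH) (Lpr_bt (f359003 IH) (Lpe (K26.f359001 IH) (Lpe (K10.f167285 IH) (Lpr_ct (K9.f53423 IH) (Lpr_bt (f170471 IH) (Lpr_gt (f170476 IH) (Lpr_dt (f170550 IH) (Lpn (LP (LK LD1_c16 LD2_c1 LD3_c14))))))))))))))))))))))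
theorem f359062 : Led Lsl_ct (LP (LK LD1_c15 LD2_c40 LD3_c34)) = (LP (LK LD1_c16 LD2_c1 LD3_c14)) :=
  Lgr Lrot59 (Lpr_cf (f359054 IH) (Lpn (LP (LK LD1_c16 LD2_c1 LD3_c14))))
theorem f359067 : Led Lsl_bt (LP (LK LD1_c8 LD2_c19 LD3_c49)) = (LP (LK LD1_c15 LD2_c40 LD3_c34)) :=
  Lre_b IH (LK LD1_c8 LD2_c19 LD3_c49) (LK LD1_c15 LD2_c40 LD3_c34) Lrfl Lrfl
theorem f359068 : Led Lsl_ct (LP (LK LD1_c15 LD2_c40 LD3_c35)) = (LP (LK LD1_c8 LD2_c19 LD3_c49)) :=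
  Lre_c IH (LK LD1_c15 LD2_c40 LD3_c35) (LK LD1_c8 LD2_c19 LD3_c49) Lrfl Lrfl
theorem f359069 : Led Lsl_bt (LP (LK LD1_c25 LD2_c36 LD3_c8)) = (LP (LK LD1_c15 LD2_c40 LD3_c35)) :=
  Lre_b IH (LK LD1_c25 LD2_c36 LD3_c8) (LK LD1_c15 LD2_c40 LD3_c35) Lrfl Lrfl
theorem f359066 : Led Lsl_bt (LP (LK LD1_c16 LD2_c1 LD3_c14)) = (LP (LK LD1_c25 LD2_c58 LD3_c37)) :=
  Lre_b IH (LK LD1_c16 LD2_c1 LD3_c14) (LK LD1_c25 LD2_c58 LD3_c37) Lrfl Lrfl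
theorem f359070 : Led Lsl_cf (LP (LK LD1_c25 LD2_c36 LD3_c8)) = (LP (LK LD1_c25 LD2_c58 LD3_c37)) :=
  Lgr Lrot97 (Lpr_bt (f359069 IH) (Lpr_ct (f359068 IH) (Lpr_bt (f359067 IH) (Lpr_ct (f359062 IH) (Lpr_bt (f359066 IH) (Lpn (LP (LK LD1_c25 LD2_c58 LD3_c37))))))))
theorem f221075 : Led Lsl_bt (LP (LK LD1_c4 LD2_c16 LD3_c34)) = (LP (LK LD1_c8 LD2_c32 LD3_c22)) :=
  Lre_b IH (LK LD1_c4 LD2_c16 LD3_c34) (LK LD1_c8 LD2_c32 LD3_c22) Lrfl Lrfl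
theorem f33439 : Led Lsl_ct (LP (LK LD1_c10 LD2_c19 LD3_c16)) = (LP (LK LD1_c5 LD2_c14 LD3_c56)) :=
  Lre_c IH (LK LD1_c10 LD2_c19 LD3_c16) (LK LD1_c5 LD2_c14 LD3_c56) Lrfl Lrfl
theorem f373931 : Led Lsl_bt (LP (LK LD1_c15 LD2_c56 LD3_c52)) = (LP (LK LD1_c8 LD2_c29 LD3_c37)) :=
  Lre_b IH (LK LD1_c15 LD2_c56 LD3_c52) (LK LD1_c8 LD2_c29 LD3_c37) Lrfl Lrfl
theorem f213897 : Led Lsl_ct (LP (LK LD1_c15 LD2_c56 LD3_c52)) = (LP (LK LD1_c25 LD2_c53 LD3_c26)) :=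
  Lre_c IH (LK LD1_c15 LD2_c56 LD3_c52) (LK LD1_c25 LD2_c53 LD3_c26) Lrfl Lrfl
theorem f399395 : Led Lsl_gt (LP (LK LD1_c25 LD2_c36 LD3_c8)) = (LP (LK LD1_c25 LD2_c53 LD3_c26)) :=
  Lgr Lrot65 (Lpr_cf (f359070 IH) (Lpr_bt (f359059 IH) (Lpr_gf (f399267 IH) (Lpe (f221075 IH) (Lpe (K13.f221076 IH) (Lpr_gf (K12.f188900 IH) (Lpe (f33439 IH) (Lpr_gf (K23.f271531 IH) (Lpe (f373931 IH) (Lpr_ct (f213897 IH) (Lpn (LP (LK LD1_c25 LD2_c53 LD3_c26)))))))))))))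
theorem f359058 : Led Lsl_bt (LP (LK LD1_c15 LD2_c40 LD3_c35)) = (LP (LK LD1_c25 LD2_c36 LD3_c8)) :=
  Lre_b IH (LK LD1_c15 LD2_c40 LD3_c35) (LK LD1_c25 LD2_c36 LD3_c8) Lrfl Lrfl
theorem f359073 : Led Lsl_gt (LP (LK LD1_c15 LD2_c40 LD3_c9)) = (LP (LK LD1_c8 LD2_c19 LD3_c49)) :=
  Lre_g IH (LK LD1_c15 LD2_c40 LD3_c9) (LK LD1_c8 LD2_c19 LD3_c49) Lrfl Lrfl
theorem f51783 : Led Lsl_ct (LP (LK LD1_c25 LD2_c35 LD3_c32)) = (LP (LK LD1_c15 LD2_c40 LD3_c9)) :=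
  Lre_c IH (LK LD1_c25 LD2_c35 LD3_c32) (LK LD1_c15 LD2_c40 LD3_c9) Lrfl Lrfl
theorem f51929 : Led Lsl_gt (LP (LK LD1_c15 LD2_c40 LD3_c36)) = (LP (LK LD1_c25 LD2_c35 LD3_c32)) :=
  Lre_g IH (LK LD1_c15 LD2_c40 LD3_c36) (LK LD1_c25 LD2_c35 LD3_c32) Lrfl Lrfl
theorem f51930 : Led Lsl_bt (LP (LK LD1_c25 LD2_c36 LD3_c10)) = (LP (LK LD1_c15 LD2_c40 LD3_c36)) :=
  Lre_b IH (LK LD1_c25 LD2_c36 LD3_c10) (LK LD1_c15 LD2_c40 LD3_c36) Lrfl Lrfl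
theorem f243221 : Led Lsl_at (LP (LK LD1_c4 LD2_c15 LD3_c43)) = (LP (LK LD1_c8 LD2_c30 LD3_c28)) :=
  Lre_a IH (LK LD1_c4 LD2_c15 LD3_c43) (LK LD1_c8 LD2_c30 LD3_c28) Lrfl Lrfl
theorem f213860 : Led Lsl_bt (LP (LK LD1_c8 LD2_c29 LD3_c36)) = (LP (LK LD1_c4 LD2_c15 LD3_c22)) :=
  Lre_b IH (LK LD1_c8 LD2_c29 LD3_c36) (LK LD1_c4 LD2_c15 LD3_c22) Lrfl Lrfl
theorem f213887 : Led Lsl_at (LP (LK LD1_c15 LD2_c56 LD3_c51)) = (LP (LK LD1_c8 LD2_c29 LD3_c36)) :=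
  Lre_a IH (LK LD1_c15 LD2_c56 LD3_c51) (LK LD1_c8 LD2_c29 LD3_c36) Lrfl Lrfl
theorem f251105 : Led Lsl_bt (LP (LK LD1_c8 LD2_c30 LD3_c28)) = (LP (LK LD1_c15 LD2_c56 LD3_c51)) :=
  Lgr Lrot62 (Lpe (f243221 IH) (Lpe (K13.f8012 IH) (Lpr_af (K14.f251101 IH) (Lpe (f213860 IH) (Lpe (f213887 IH) (Lpn (LP (LK LD1_c15 LD2_c56 LD3_c51))))))))
theorem f262744 : Led Lsl_bt (LP (LK LD1_c8 LD2_c30 LD3_c60)) = (LP (LK LD1_c15 LD2_c56 LD3_c60)) :=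
  Lgr Lrot127 (Lpr_bf (K15.f262737 IH) (Lpn (LP (LK LD1_c15 LD2_c56 LD3_c60))))
theorem f373840 : Led Lsl_ft (LP (LK LD1_c15 LD2_c56 LD3_c51)) = (LP (LK LD1_c8 LD2_c30 LD3_c60)) :=
  Lgr Lrot75 (Lpe (f251105 IH) (Lpr_ff (K30.f373835 IH) (Lpe (f262744 IH) (Lpn (LP (LK LD1_c8 LD2_c30 LD3_c60))))))
theorem f373902 : Led Lsl_ff (LP (LK LD1_c15 LD2_c56 LD3_c51)) = (LP (LK LD1_c8 LD2_c30 LD3_c60)) :=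
  Lgr Lrot3 (Lpr_ft (f373840 IH) (Lpn (LP (LK LD1_c8 LD2_c30 LD3_c60))))
theorem f373877 : Led Lsl_dt (LP (LK LD1_c15 LD2_c56 LD3_c51)) = (LP (LK LD1_c25 LD2_c53 LD3_c23)) :=
  Lre_d IH (LK LD1_c15 LD2_c56 LD3_c51) (LK LD1_c25 LD2_c53 LD3_c23) Lrfl Lrfl
theorem f262740 : Led Lsl_dt (LP (LK LD1_c15 LD2_c59 LD3_c17)) = (LP (LK LD1_c8 LD2_c30 LD3_c60)) :=
  Lre_d IH (LK LD1_c15 LD2_c59 LD3_c17) (LK LD1_c8 LD2_c30 LD3_c60) Lrfl Lrfl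
theorem f373916 : Led Lsl_ft (LP (LK LD1_c25 LD2_c53 LD3_c23)) = (LP (LK LD1_c15 LD2_c59 LD3_c17)) :=
  Lgr Lrot54 (Lpe (f373877 IH) (Lpr_ff (f373902 IH) (Lpe (f262740 IH) (Lpn (LP (LK LD1_c15 LD2_c59 LD3_c17))))))
theorem f373920 : Led Lsl_at (LP (LK LD1_c15 LD2_c56 LD3_c52)) = (LP (LK LD1_c25 LD2_c53 LD3_c23)) :=
  Lre_a IH (LK LD1_c15 LD2_c56 LD3_c52) (LK LD1_c25 LD2_c53 LD3_c23) Lrfl Lrfl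
theorem f373921 : Led Lsl_at (LP (LK LD1_c15 LD2_c59 LD3_c17)) = (LP (LK LD1_c8 LD2_c30 LD3_c61)) :=
  Lre_a IH (LK LD1_c15 LD2_c59 LD3_c17) (LK LD1_c8 LD2_c30 LD3_c61) Lrfl Lrfl
theorem f373922 : Led Lsl_ff (LP (LK LD1_c15 LD2_c56 LD3_c52)) = (LP (LK LD1_c8 LD2_c30 LD3_c61)) :=
  Lgr Lrot30 (Lpr_at (f373920 IH) (Lpr_ft (f373916 IH) (Lpr_at (f373921 IH) (Lpn (LP (LK LD1_c8 LD2_c30 LD3_c61))))))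
theorem f373954 : Led Lsl_ft (LP (LK LD1_c15 LD2_c56 LD3_c52)) = (LP (LK LD1_c8 LD2_c30 LD3_c61)) :=
  Lgr Lrot48 (Lpr_ff (f373922 IH) (Lpn (LP (LK LD1_c8 LD2_c30 LD3_c61))))
theorem f213889 : Led Lsl_ct (LP (LK LD1_c25 LD2_c53 LD3_c26)) = (LP (LK LD1_c15 LD2_c56 LD3_c52)) :=
  Lre_c IH (LK LD1_c25 LD2_c53 LD3_c26) (LK LD1_c15 LD2_c56 LD3_c52) Lrfl Lrfl
theorem f244929 : Led Lsl_ct (LP (LK LD1_c8 LD2_c30 LD3_c61)) = (LP (LK LD1_c15 LD2_c59 LD3_c21)) :=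
  Lre_c IH (LK LD1_c8 LD2_c30 LD3_c61) (LK LD1_c15 LD2_c59 LD3_c21) Lrfl Lrfl
theorem f373961 : Led Lsl_ff (LP (LK LD1_c25 LD2_c53 LD3_c26)) = (LP (LK LD1_c15 LD2_c59 LD3_c21)) :=
  Lgr Lrot23 (Lpr_ct (f213889 IH) (Lpr_ft (f373954 IH) (Lpr_ct (f244929 IH) (Lpn (LP (LK LD1_c15 LD2_c59 LD3_c21))))))
theorem f244818 : Led Lsl_bt (LP (LK LD1_c8 LD2_c30 LD3_c61)) = (LP (LK LD1_c4 LD2_c15 LD3_c60)) :=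
  Lre_b IH (LK LD1_c8 LD2_c30 LD3_c61) (LK LD1_c4 LD2_c15 LD3_c60) Lrfl Lrfl
theorem f244819 : Led Lsl_ct (LP (LK LD1_c15 LD2_c59 LD3_c21)) = (LP (LK LD1_c8 LD2_c30 LD3_c61)) :=
  Lre_c IH (LK LD1_c15 LD2_c59 LD3_c21) (LK LD1_c8 LD2_c30 LD3_c61) Lrfl Lrfl
theorem f244820 : Led Lsl_bt (LP (LK LD1_c10 LD2_c47 LD3_c11)) = (LP (LK LD1_c15 LD2_c59 LD3_c21)) :=
  Lgr Lrot128 (Lpe (K30.f244681 IH) (Lpe (K13.f244817 IH) (Lpr_cf (K14.f244814 IH) (Lpe (f244818 IH) (Lpe (f244819 IH) (Lpn (LP (LK LD1_c15 LD2_c59 LD3_c21))))))))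
theorem f244678 : Led Lsl_ct (LP (LK LD1_c10 LD2_c47 LD3_c11)) = (LP (LK LD1_c5 LD2_c27 LD3_c59)) :=
  Lre_c IH (LK LD1_c10 LD2_c47 LD3_c11) (LK LD1_c5 LD2_c27 LD3_c59) Lrfl Lrfl
theorem f226497 : Led Lsl_ct (LP (LK LD1_c8 LD2_c56 LD3_c36)) = (LP (LK LD1_c16 LD2_c44 LD3_c35)) :=
  Lre_c IH (LK LD1_c8 LD2_c56 LD3_c36) (LK LD1_c16 LD2_c44 LD3_c35) Lrfl Lrfl
theorem f245218 : Led Lsl_ff (LP (LK LD1_c10 LD2_c47 LD3_c11)) = (LP (LK LD1_c16 LD2_c44 LD3_c35)) :=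
  Lgr Lrot23 (Lpr_ct (f244678 IH) (Lpr_ft (K13.f245211 IH) (Lpr_ct (f226497 IH) (Lpn (LP (LK LD1_c16 LD2_c44 LD3_c35))))))
theorem f373971 : Led Lsl_bt (LP (LK LD1_c25 LD2_c53 LD3_c26)) = (LP (LK LD1_c16 LD2_c44 LD3_c35)) :=
  Lgr Lrot35 (Lpr_ff (f373961 IH) (Lpe (f244820 IH) (Lpr_ff (f245218 IH) (Lpn (LP (LK LD1_c16 LD2_c44 LD3_c35))))))
theorem f373973 : Led Lsl_bf (LP (LK LD1_c25 LD2_c53 LD3_c26)) = (LP (LK LD1_c16 LD2_c44 LD3_c35)) :=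
  Lgr Lrot24 (Lpr_bt (f373971 IH) (Lpn (LP (LK LD1_c16 LD2_c44 LD3_c35))))
theorem f245307 : Led Lsl_ct (LP (LK LD1_c16 LD2_c44 LD3_c35)) = (LP (LK LD1_c8 LD2_c56 LD3_c36)) :=
  Lre_c IH (LK LD1_c16 LD2_c44 LD3_c35) (LK LD1_c8 LD2_c56 LD3_c36) Lrfl Lrfl
theorem f226433 : Led Lsl_gt (LP (LK LD1_c8 LD2_c56 LD3_c36)) = (LP (LK LD1_c16 LD2_c44 LD3_c33)) :=
  Lre_g IH (LK LD1_c8 LD2_c56 LD3_c36) (LK LD1_c16 LD2_c44 LD3_c33) Lrfl Lrfl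
theorem f399397 : Led Lsl_ct (LP (LK LD1_c25 LD2_c36 LD3_c10)) = (LP (LK LD1_c16 LD2_c44 LD3_c33)) :=
  Lgr Lrot10 (Lpr_bt (f51930 IH) (Lpr_gt (f51929 IH) (Lpr_ct (f51783 IH) (Lpr_gt (f359073 IH) (Lpe (f359068 IH) (Lpr_bt (f359058 IH) (Lpr_gt (f399395 IH) (Lpr_bf (f373973 IH) (Lpr_ct (f245307 IH) (Lpr_gt (f226433 IH) (Lpn (LP (LK LD1_c16 LD2_c44 LD3_c33)))))))))))))
theorem f399400 : Led Lsl_cf (LP (LK LD1_c25 LD2_c36 LD3_c10)) = (LP (LK LD1_c16 LD2_c44 LD3_c33)) :=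
  Lgr Lrot11 (Lpr_ct (f399397 IH) (Lpn (LP (LK LD1_c16 LD2_c44 LD3_c33))))
theorem f317676 : Led Lsl_gt (LP (LK LD1_c2 LD2_c1 LD3_c59)) = (LP (LK LD1_c1 LD2_c25 LD3_c9)) :=
  Lgr Lrot146 (Lpr_dt (K20.f317661 IH) (Lpr_gt (K17.f197004 IH) (Lpr_ct (K13.f236001 IH) (Lpr_gt (K15.f172918 IH) (Lpr_ct (K15.f245136 IH) (Lpe (K17.f262857 IH) (Lpe (K16.f262854 IH) (Lpr_gf (K16.f261408 IH) (Lpe (K15.f182079 IH) (Lpn (LP (LK LD1_c1 LD2_c25 LD3_c9))))))))))))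
theorem f218135 : Led Lsl_bt (LP (LK LD1_c2 LD2_c11 LD3_c58)) = (LP (LK LD1_c4 LD2_c29 LD3_c50)) :=
  Lre_b IH (LK LD1_c2 LD2_c11 LD3_c58) (LK LD1_c4 LD2_c29 LD3_c50) Lrfl Lrfl
theorem f399406 : Led Lsl_dt (LP (LK LD1_c8 LD2_c57 LD3_c48)) = (LP (LK LD1_c16 LD2_c44 LD3_c33)) :=
  Lgr Lrot182 (Lpe (f169310 IH) (Lpe (f218135 IH) (Lpe (K12.f167924 IH) (Lpe (K16.f181784 IH) (Lpe (f317676 IH) (Lpe (K20.f259266 IH) (Lpe (K20.f318024 IH) (Lpr_df (K19.f255930 IH) (Lpe (K19.f311743 IH) (Lpr_bf (K19.f311762 IH) (Lpr_cf (K16.f219087 IH) (Lpr_df (K16.f278075 IH) (Lpe (K16.f51928 IH) (Lpr_bf (K30.f51904 IH) (Lpe (K30.f51803 IH) (Lpe (K30.f51728 IH) (Lpe (f51929 IH) (Lpe (f51930 IH) (Lpr_cf (f399400 IH) (Lpn (LP (LK LD1_c16 LD2_c44 LD3_c33))))))))))))))))))))))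
theorem f399410 : Led Lsl_df (LP (LK LD1_c8 LD2_c57 LD3_c48)) = (LP (LK LD1_c16 LD2_c44 LD3_c33)) :=
  Lgr Lrot38 (Lpr_dt (f399406 IH) (Lpn (LP (LK LD1_c16 LD2_c44 LD3_c33))))
theorem f281718 : Led Lsl_dt (LP (LK LD1_c11 LD2_c0 LD3_c25)) = (LP (LK LD1_c5 LD2_c34 LD3_c8)) :=
  Lre_d IH (LK LD1_c11 LD2_c0 LD3_c25) (LK LD1_c5 LD2_c34 LD3_c8) Lrfl Lrfl
theorem f226432 : Led Lsl_dt (LP (LK LD1_c4 LD2_c29 LD3_c9)) = (LP (LK LD1_c8 LD2_c56 LD3_c36)) :=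
  Lre_d IH (LK LD1_c4 LD2_c29 LD3_c9) (LK LD1_c8 LD2_c56 LD3_c36) Lrfl Lrfl
theorem f387809 : Led Lsl_dt (LP (LK LD1_c5 LD2_c34 LD3_c3)) = (LP (LK LD1_c2 LD2_c43 LD3_c3)) :=
  Lre_d IH (LK LD1_c5 LD2_c34 LD3_c3) (LK LD1_c2 LD2_c43 LD3_c3) Lrfl Lrfl
theorem f390747 : Led Lsl_at (LP (LK LD1_c1 LD2_c17 LD3_c60)) = (LP (LK LD1_c2 LD2_c42 LD3_c60)) :=
  Lre_a IH (LK LD1_c1 LD2_c17 LD3_c60) (LK LD1_c2 LD2_c42 LD3_c60) Lrfl Lrfl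
theorem f390748 : Led Lsl_ft (LP (LK LD1_c2 LD2_c43 LD3_c3)) = (LP (LK LD1_c1 LD2_c17 LD3_c60)) :=
  Lre_f IH (LK LD1_c2 LD2_c43 LD3_c3) (LK LD1_c1 LD2_c17 LD3_c60) Lrfl Lrfl
theorem f390749 : Led Lsl_gt (LP (LK LD1_c2 LD2_c43 LD3_c3)) = (LP (LK LD1_c1 LD2_c18 LD3_c0)) :=
  Lgr Lrot5 (Lpr_ft (f390748 IH) (Lpr_at (f390747 IH) (Lpr_gf (f390744 IH) (Lpn (LP (LK LD1_c1 LD2_c18 LD3_c0))))))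
theorem f332336 : Led Lsl_dt (LP (LK LD1_c1 LD2_c18 LD3_c0)) = (LP (LK LD1_c2 LD2_c43 LD3_c8)) :=
  Lre_d IH (LK LD1_c1 LD2_c18 LD3_c0) (LK LD1_c2 LD2_c43 LD3_c8) Lrfl Lrfl
theorem f173456 : Led Lsl_ct (LP (LK LD1_c2 LD2_c43 LD3_c8)) = (LP (LK LD1_c5 LD2_c34 LD3_c21)) :=
  Lre_c IH (LK LD1_c2 LD2_c43 LD3_c8) (LK LD1_c5 LD2_c34 LD3_c21) Lrfl Lrfl
theorem f179167 : Led Lsl_dt (LP (LK LD1_c11 LD2_c0 LD3_c53)) = (LP (LK LD1_c5 LD2_c34 LD3_c21)) :=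
  Lre_d IH (LK LD1_c11 LD2_c0 LD3_c53) (LK LD1_c5 LD2_c34 LD3_c21) Lrfl Lrfl
theorem f179168 : Led Lsl_gt (LP (LK LD1_c16 LD2_c55 LD3_c19)) = (LP (LK LD1_c11 LD2_c0 LD3_c53)) :=
  Lre_g IH (LK LD1_c16 LD2_c55 LD3_c19) (LK LD1_c11 LD2_c0 LD3_c53) Lrfl Lrfl
theorem f173008 : Led Lsl_ct (LP (LK LD1_c10 LD2_c48 LD3_c28)) = (LP (LK LD1_c5 LD2_c28 LD3_c42)) :=
  Lre_c IH (LK LD1_c10 LD2_c48 LD3_c28) (LK LD1_c5 LD2_c28 LD3_c42) Lrfl Lrfl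
theorem f390783 : Led Lsl_df (LP (LK LD1_c16 LD2_c55 LD3_c19)) = (LP (LK LD1_c19 LD2_c32 LD3_c33)) :=
  Lgr Lrot153 (Lpr_gt (f179168 IH) (Lpr_dt (f179167 IH) (Lpe (f173456 IH) (Lpe (f332336 IH) (Lpe (f390749 IH) (Lpe (f387809 IH) (Lpr_gf (f390770 IH) (Lpe (f173008 IH) (Lpr_gt (f173017 IH) (Lpn (LP (LK LD1_c19 LD2_c32 LD3_c33))))))))))))
theorem f391591 : Led Lsl_ct (LP (LK LD1_c16 LD2_c55 LD3_c19)) = (LP (LK LD1_c26 LD2_c51 LD3_c31)) :=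
  Lre_c IH (LK LD1_c16 LD2_c55 LD3_c19) (LK LD1_c26 LD2_c51 LD3_c31) Lrfl Lrfl
theorem f332322 : Led Lsl_dt (LP (LK LD1_c10 LD2_c41 LD3_c23)) = (LP (LK LD1_c19 LD2_c21 LD3_c0)) :=
  Lre_d IH (LK LD1_c10 LD2_c41 LD3_c23) (LK LD1_c19 LD2_c21 LD3_c0) Lrfl Lrfl
theorem f387681 : Led Lsl_ft (LP (LK LD1_c10 LD2_c41 LD3_c27)) = (LP (LK LD1_c5 LD2_c25 LD3_c15)) :=
  Lre_f IH (LK LD1_c10 LD2_c41 LD3_c27) (LK LD1_c5 LD2_c25 LD3_c15) Lrfl Lrfl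
theorem f387682 : Led Lsl_at (LP (LK LD1_c5 LD2_c25 LD3_c15)) = (LP (LK LD1_c10 LD2_c41 LD3_c12)) :=
  Lre_a IH (LK LD1_c5 LD2_c25 LD3_c15) (LK LD1_c10 LD2_c41 LD3_c12) Lrfl Lrfl
theorem f332290 : Led Lsl_ct (LP (LK LD1_c19 LD2_c20 LD3_c45)) = (LP (LK LD1_c10 LD2_c41 LD3_c12)) :=
  Lre_c IH (LK LD1_c19 LD2_c20 LD3_c45) (LK LD1_c10 LD2_c41 LD3_c12) Lrfl Lrfl
theorem f391596 : Led Lsl_dt (LP (LK LD1_c26 LD2_c51 LD3_c31)) = (LP (LK LD1_c19 LD2_c20 LD3_c45)) :=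
  Lgr Lrot120 (Lpe (f391591 IH) (Lpr_df (f390783 IH) (Lpe (f387677 IH) (Lpe (f332322 IH) (Lpe (f332321 IH) (Lpe (f332325 IH) (Lpr_ft (f387681 IH) (Lpr_at (f387682 IH) (Lpe (f332290 IH) (Lpn (LP (LK LD1_c19 LD2_c20 LD3_c45))))))))))))
theorem f387707 : Led Lsl_ft (LP (LK LD1_c19 LD2_c20 LD3_c45)) = (LP (LK LD1_c10 LD2_c41 LD3_c38)) :=
  Lre_f IH (LK LD1_c19 LD2_c20 LD3_c45) (LK LD1_c10 LD2_c41 LD3_c38) Lrfl Lrfl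
theorem f226255 : Led Lsl_dt (LP (LK LD1_c10 LD2_c41 LD3_c38)) = (LP (LK LD1_c19 LD2_c21 LD3_c24)) :=
  Lre_d IH (LK LD1_c10 LD2_c41 LD3_c38) (LK LD1_c19 LD2_c21 LD3_c24) Lrfl Lrfl
theorem f391610 : Led Lsl_ff (LP (LK LD1_c26 LD2_c51 LD3_c31)) = (LP (LK LD1_c19 LD2_c21 LD3_c24)) :=
  Lgr Lrot19 (Lpr_dt (f391596 IH) (Lpr_ft (f387707 IH) (Lpr_dt (f226255 IH) (Lpn (LP (LK LD1_c19 LD2_c21 LD3_c24))))))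
theorem f391614 : Led Lsl_at (LP (LK LD1_c26 LD2_c51 LD3_c31)) = (LP (LK LD1_c19 LD2_c21 LD3_c8)) :=
  Lgr Lrot33 (Lpr_ff (f391610 IH) (Lpr_dt (K30.f226246 IH) (Lpr_ct (K30.f226245 IH) (Lpr_dt (K30.f226244 IH) (Lpr_ct (K22.f226243 IH) (Lpr_dt (K22.f226242 IH) (Lpr_ct (K22.f226241 IH) (Lpr_dt (K30.f226240 IH) (Lpr_ct (K30.f226239 IH) (Lpn (LP (LK LD1_c19 LD2_c21 LD3_c8))))))))))))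
theorem f226272 : Led Lsl_ct (LP (LK LD1_c19 LD2_c21 LD3_c8)) = (LP (LK LD1_c11 LD2_c1 LD3_c10)) :=
  Lre_c IH (LK LD1_c19 LD2_c21 LD3_c8) (LK LD1_c11 LD2_c1 LD3_c10) Lrfl Lrfl
theorem f391616 : Led Lsl_af (LP (LK LD1_c16 LD2_c55 LD3_c19)) = (LP (LK LD1_c11 LD2_c1 LD3_c10)) :=
  Lgr Lrot68 (Lpr_ct (f391591 IH) (Lpr_at (f391614 IH) (Lpr_ct (f226272 IH) (Lpn (LP (LK LD1_c11 LD2_c1 LD3_c10))))))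
theorem f391598 : Led Lsl_ct (LP (LK LD1_c26 LD2_c51 LD3_c31)) = (LP (LK LD1_c16 LD2_c55 LD3_c19)) :=
  Lre_c IH (LK LD1_c26 LD2_c51 LD3_c31) (LK LD1_c16 LD2_c55 LD3_c19) Lrfl Lrfl
theorem f391608 : Led Lsl_df (LP (LK LD1_c26 LD2_c51 LD3_c31)) = (LP (LK LD1_c19 LD2_c20 LD3_c45)) :=
  Lgr Lrot38 (Lpr_dt (f391596 IH) (Lpn (LP (LK LD1_c19 LD2_c20 LD3_c45))))
theorem f332277 : Led Lsl_ct (LP (LK LD1_c10 LD2_c41 LD3_c12)) = (LP (LK LD1_c19 LD2_c20 LD3_c45)) :=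
  Lre_c IH (LK LD1_c10 LD2_c41 LD3_c12) (LK LD1_c19 LD2_c20 LD3_c45) Lrfl Lrfl
theorem f332279 : Led Lsl_ct (LP (LK LD1_c17 LD2_c53 LD3_c20)) = (LP (LK LD1_c9 LD2_c44 LD3_c3)) :=
  Lre_c IH (LK LD1_c17 LD2_c53 LD3_c20) (LK LD1_c9 LD2_c44 LD3_c3) Lrfl Lrfl
theorem f391602 : Led Lsl_gt (LP (LK LD1_c9 LD2_c4 LD3_c2)) = (LP (LK LD1_c16 LD2_c55 LD3_c19)) :=
  Lre_g IH (LK LD1_c9 LD2_c4 LD3_c2) (LK LD1_c16 LD2_c55 LD3_c19) Lrfl Lrfl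
theorem f311594 : Led Lsl_gt (LP (LK LD1_c16 LD2_c55 LD3_c20)) = (LP (LK LD1_c9 LD2_c4 LD3_c2)) :=
  Lre_g IH (LK LD1_c16 LD2_c55 LD3_c20) (LK LD1_c9 LD2_c4 LD3_c2) Lrfl Lrfl
theorem f391620 : Led Lsl_ft (LP (LK LD1_c16 LD2_c55 LD3_c20)) = (LP (LK LD1_c11 LD2_c1 LD3_c10)) :=
  Lgr Lrot2 (Lpr_gt (f311594 IH) (Lpr_gt (f391602 IH) (Lpr_af (f391616 IH) (Lpn (LP (LK LD1_c11 LD2_c1 LD3_c10))))))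
theorem f391622 : Led Lsl_df (LP (LK LD1_c17 LD2_c53 LD3_c20)) = (LP (LK LD1_c16 LD2_c55 LD3_c20)) :=
  Lgr Lrot157 (Lpr_ct (f332279 IH) (Lpr_dt (K22.f332278 IH) (Lpe (K22.f332267 IH) (Lpr_dt (f332276 IH) (Lpr_ct (f332277 IH) (Lpe (f391608 IH) (Lpr_ct (f391598 IH) (Lpr_af (f391616 IH) (Lpe (f391620 IH) (Lpn (LP (LK LD1_c16 LD2_c55 LD3_c20))))))))))))
theorem f391629 : Led Lsl_dt (LP (LK LD1_c17 LD2_c53 LD3_c20)) = (LP (LK LD1_c16 LD2_c55 LD3_c20)) :=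
  Lgr Lrot42 (Lpr_df (f391622 IH) (Lpn (LP (LK LD1_c16 LD2_c55 LD3_c20))))
theorem f387667 : Led Lsl_gf (LP (LK LD1_c17 LD2_c53 LD3_c20)) = (LP (LK LD1_c19 LD2_c48 LD3_c58)) :=
  Lgr Lrot47 (Lpr_gt (f387663 IH) (Lpe (K30.f277284 IH) (Lpr_ff (K30.f226358 IH) (Lpn (LP (LK LD1_c19 LD2_c48 LD3_c58))))))
theorem f277393 : Led Lsl_dt (LP (LK LD1_c10 LD2_c48 LD3_c47)) = (LP (LK LD1_c19 LD2_c32 LD3_c61)) :=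
  Lre_d IH (LK LD1_c10 LD2_c48 LD3_c47) (LK LD1_c19 LD2_c32 LD3_c61) Lrfl Lrfl
theorem f384438 : Led Lsl_gt (LP (LK LD1_c19 LD2_c32 LD3_c61)) = (LP (LK LD1_c10 LD2_c54 LD3_c39)) :=
  Lgr Lrot9 (Lpe (f277393 IH) (Lpr_gt (f267740 IH) (Lpr_ct (K27.f226820 IH) (Lpr_gt (K30.f226773 IH) (Lpr_ct (K30.f276259 IH) (Lpe (K30.f384262 IH) (Lpr_cf (K30.f384431 IH) (Lpe (K30.f384428 IH) (Lpe (K20.f173695 IH) (Lpn (LP (LK LD1_c10 LD2_c54 LD3_c39))))))))))))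
theorem f173650 : Led Lsl_dt (LP (LK LD1_c10 LD2_c54 LD3_c39)) = (LP (LK LD1_c5 LD2_c31 LD3_c30)) :=
  Lre_d IH (LK LD1_c10 LD2_c54 LD3_c39) (LK LD1_c5 LD2_c31 LD3_c30) Lrfl Lrfl
theorem f384440 : Led Lsl_gf (LP (LK LD1_c10 LD2_c48 LD3_c47)) = (LP (LK LD1_c11 LD2_c5 LD3_c9)) :=
  Lgr Lrot144 (Lpr_dt (f277393 IH) (Lpr_gt (f384438 IH) (Lpr_dt (f173650 IH) (Lpe (K9.f173076 IH) (Lpe (K9.f173652 IH) (Lpe (K30.f140435 IH) (Lpe (K30.f384234 IH) (Lpr_gf (K30.f289555 IH) (Lpe (K30.f178921 IH) (Lpn (LP (LK LD1_c11 LD2_c5 LD3_c9))))))))))))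
theorem f384292 : Led Lsl_cf (LP (LK LD1_c16 LD2_c37 LD3_c26)) = (LP (LK LD1_c10 LD2_c48 LD3_c38)) :=
  Lgr Lrot116 (Lpr_dt (K30.f341368 IH) (Lpr_ct (K27.f290371 IH) (Lpr_dt (K30.f383000 IH) (Lpe (K27.f179680 IH) (Lpe (K30.f179699 IH) (Lpe (K30.f329425 IH) (Lpe (K30.f255945 IH) (Lpr_ct (K30.f384273 IH) (Lpe (K30.f384260 IH) (Lpn (LP (LK LD1_c10 LD2_c48 LD3_c38))))))))))))
theorem f384442 : Led Lsl_gt (LP (LK LD1_c5 LD2_c28 LD3_c39)) = (LP (LK LD1_c8 LD2_c21 LD3_c54)) :=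
  Lgr Lrot164 (Lpe (f267739 IH) (Lpr_ct (f267741 IH) (Lpr_gf (f384440 IH) (Lpe (K30.f178933 IH) (Lpe (K30.f384325 IH) (Lpe (K30.f384259 IH) (Lpe (f384292 IH) (Lpr_gf (K30.f341366 IH) (Lpe (K30.f279097 IH) (Lpr_bt (K17.f289131 IH) (Lpn (LP (LK LD1_c8 LD2_c21 LD3_c54)))))))))))))
theorem f172932 : Led Lsl_ct (LP (LK LD1_c1 LD2_c18 LD3_c1)) = (LP (LK LD1_c2 LD2_c43 LD3_c11)) :=
  Lre_c IH (LK LD1_c1 LD2_c18 LD3_c1) (LK LD1_c2 LD2_c43 LD3_c11) Lrfl Lrfl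
theorem f172933 : Led Lsl_gt (LP (LK LD1_c2 LD2_c43 LD3_c11)) = (LP (LK LD1_c5 LD2_c34 LD3_c27)) :=
  Lre_g IH (LK LD1_c2 LD2_c43 LD3_c11) (LK LD1_c5 LD2_c34 LD3_c27) Lrfl Lrfl
theorem f277347 : Led Lsl_dt (LP (LK LD1_c5 LD2_c34 LD3_c27)) = (LP (LK LD1_c11 LD2_c1 LD3_c6)) :=
  Lre_d IH (LK LD1_c5 LD2_c34 LD3_c27) (LK LD1_c11 LD2_c1 LD3_c6) Lrfl Lrfl
theorem f277348 : Led Lsl_gt (LP (LK LD1_c11 LD2_c1 LD3_c6)) = (LP (LK LD1_c19 LD2_c52 LD3_c8)) :=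
  Lre_g IH (LK LD1_c11 LD2_c1 LD3_c6) (LK LD1_c19 LD2_c52 LD3_c8) Lrfl Lrfl
theorem f384444 : Led Lsl_dt (LP (LK LD1_c19 LD2_c52 LD3_c8)) = (LP (LK LD1_c19 LD2_c48 LD3_c58)) :=
  Lgr Lrot105 (Lpe (f277348 IH) (Lpe (f277347 IH) (Lpe (f172933 IH) (Lpe (f172932 IH) (Lpr_gt (K30.f173020 IH) (Lpe (K30.f277332 IH) (Lpr_gt (f384442 IH) (Lpr_dt (K30.f225394 IH) (Lpe (K22.f225412 IH) (Lpn (LP (LK LD1_c19 LD2_c48 LD3_c58))))))))))))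
theorem f389235 : Led Lsl_ft (LP (LK LD1_c16 LD2_c43 LD3_c46)) = (LP (LK LD1_c10 LD2_c52 LD3_c19)) :=
  Lgr Lrot4 (Lpr_cf (f382882 IH) (Lpr_ff (f389233 IH) (Lpr_cf (K30.f384850 IH) (Lpn (LP (LK LD1_c10 LD2_c52 LD3_c19))))))
theorem f172968 : Led Lsl_df (LP (LK LD1_c5 LD2_c28 LD3_c40)) = (LP (LK LD1_c2 LD2_c43 LD3_c10)) :=
  Lgr Lrot38 (Lpr_dt (K30.f172958 IH) (Lpn (LP (LK LD1_c2 LD2_c43 LD3_c10))))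
theorem f172979 : Led Lsl_ct (LP (LK LD1_c5 LD2_c34 LD3_c27)) = (LP (LK LD1_c11 LD2_c1 LD3_c5)) :=
  Lre_c IH (LK LD1_c5 LD2_c34 LD3_c27) (LK LD1_c11 LD2_c1 LD3_c5) Lrfl Lrfl
theorem f382890 : Led Lsl_dt (LP (LK LD1_c16 LD2_c43 LD3_c46)) = (LP (LK LD1_c11 LD2_c1 LD3_c5)) :=
  Lgr Lrot27 (Lpr_cf (f382882 IH) (Lpe (K30.f224202 IH) (Lpr_cf (K21.f277106 IH) (Lpe (K30.f172978 IH) (Lpr_df (f172968 IH) (Lpr_gt (K30.f172867 IH) (Lpr_ct (f172932 IH) (Lpr_gt (f172933 IH) (Lpr_ct (f172979 IH) (Lpn (LP (LK LD1_c11 LD2_c1 LD3_c5))))))))))))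
theorem f172934 : Led Lsl_ct (LP (LK LD1_c11 LD2_c1 LD3_c5)) = (LP (LK LD1_c5 LD2_c34 LD3_c27)) :=
  Lre_c IH (LK LD1_c11 LD2_c1 LD3_c5) (LK LD1_c5 LD2_c34 LD3_c27) Lrfl Lrfl
theorem f389219 : Led Lsl_af (LP (LK LD1_c11 LD2_c4 LD3_c53)) = (LP (LK LD1_c10 LD2_c52 LD3_c19)) :=
  Lgr Lrot0 (Lpr_at (f389217 IH) (Lpn (LP (LK LD1_c10 LD2_c52 LD3_c19))))
theorem f277315 : Led Lsl_df (LP (LK LD1_c10 LD2_c35 LD3_c59)) = (LP (LK LD1_c5 LD2_c25 LD3_c24)) :=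
  Lgr Lrot38 (Lpr_dt (K30.f277303 IH) (Lpn (LP (LK LD1_c5 LD2_c25 LD3_c24))))
theorem f226289 : Led Lsl_ct (LP (LK LD1_c10 LD2_c41 LD3_c51)) = (LP (LK LD1_c5 LD2_c25 LD3_c24)) :=
  Lre_c IH (LK LD1_c10 LD2_c41 LD3_c51) (LK LD1_c5 LD2_c25 LD3_c24) Lrfl Lrfl
theorem f277306 : Led Lsl_dt (LP (LK LD1_c19 LD2_c21 LD3_c49)) = (LP (LK LD1_c10 LD2_c41 LD3_c51)) :=
  Lre_d IH (LK LD1_c19 LD2_c21 LD3_c49) (LK LD1_c10 LD2_c41 LD3_c51) Lrfl Lrfl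
theorem f389290 : Led Lsl_ct (LP (LK LD1_c11 LD2_c1 LD3_c6)) = (LP (LK LD1_c19 LD2_c21 LD3_c49)) :=
  Lgr Lrot41 (Lpe (f277347 IH) (Lpe (f172934 IH) (Lpe (f382890 IH) (Lpr_ft (f389235 IH) (Lpe (f389219 IH) (Lpe (f277126 IH) (Lpr_df (f277315 IH) (Lpe (f226289 IH) (Lpe (f277306 IH) (Lpn (LP (LK LD1_c19 LD2_c21 LD3_c49))))))))))))
theorem f391626 : Led Lsl_ct (LP (LK LD1_c26 LD2_c51 LD3_c32)) = (LP (LK LD1_c16 LD2_c55 LD3_c20)) :=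
  Lre_c IH (LK LD1_c26 LD2_c51 LD3_c32) (LK LD1_c16 LD2_c55 LD3_c20) Lrfl Lrfl
theorem f391592 : Led Lsl_dt (LP (LK LD1_c16 LD2_c55 LD3_c19)) = (LP (LK LD1_c19 LD2_c32 LD3_c33)) :=
  Lgr Lrot42 (Lpr_df (f390783 IH) (Lpn (LP (LK LD1_c19 LD2_c32 LD3_c33))))
theorem f387673 : Led Lsl_cf (LP (LK LD1_c19 LD2_c21 LD3_c0)) = (LP (LK LD1_c19 LD2_c32 LD3_c33)) :=
  Lgr Lrot1 (Lpr_at (K22.f332369 IH) (Lpr_ct (K22.f226241 IH) (Lpr_at (f387669 IH) (Lpn (LP (LK LD1_c19 LD2_c32 LD3_c33))))))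
theorem f332284 : Led Lsl_dt (LP (LK LD1_c5 LD2_c25 LD3_c17)) = (LP (LK LD1_c10 LD2_c41 LD3_c27)) :=
  Lre_d IH (LK LD1_c5 LD2_c25 LD3_c17) (LK LD1_c10 LD2_c41 LD3_c27) Lrfl Lrfl
theorem f332285 : Led Lsl_ct (LP (LK LD1_c10 LD2_c41 LD3_c27)) = (LP (LK LD1_c19 LD2_c21 LD3_c10)) :=
  Lre_c IH (LK LD1_c10 LD2_c41 LD3_c27) (LK LD1_c19 LD2_c21 LD3_c10) Lrfl Lrfl
theorem f391627 : Led Lsl_dt (LP (LK LD1_c19 LD2_c21 LD3_c10)) = (LP (LK LD1_c26 LD2_c51 LD3_c32)) :=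
  Lgr Lrot173 (Lpe (f332285 IH) (Lpe (f332284 IH) (Lpe (f332324 IH) (Lpe (f332323 IH) (Lpr_cf (f387673 IH) (Lpe (f391592 IH) (Lpe (f391598 IH) (Lpr_df (f391608 IH) (Lpe (f332277 IH) (Lpe (f332276 IH) (Lpr_cf (K22.f332267 IH) (Lpe (K22.f332278 IH) (Lpe (f332279 IH) (Lpr_df (f391622 IH) (Lpe (f391626 IH) (Lpn (LP (LK LD1_c26 LD2_c51 LD3_c32))))))))))))))))))
theorem f332319 : Led Lsl_ct (LP (LK LD1_c19 LD2_c21 LD3_c10)) = (LP (LK LD1_c10 LD2_c41 LD3_c27)) :=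
  Lre_c IH (LK LD1_c19 LD2_c21 LD3_c10) (LK LD1_c10 LD2_c41 LD3_c27) Lrfl Lrfl
theorem f246529 : Led Lsl_gt (LP (LK LD1_c5 LD2_c33 LD3_c59)) = (LP (LK LD1_c11 LD2_c0 LD3_c1)) :=
  Lre_g IH (LK LD1_c5 LD2_c33 LD3_c59) (LK LD1_c11 LD2_c0 LD3_c1) Lrfl Lrfl
theorem f246530 : Led Lsl_ct (LP (LK LD1_c11 LD2_c0 LD3_c1)) = (LP (LK LD1_c19 LD2_c50 LD3_c57)) :=
  Lre_c IH (LK LD1_c11 LD2_c0 LD3_c1) (LK LD1_c19 LD2_c50 LD3_c57) Lrfl Lrfl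
theorem f387704 : Led Lsl_gf (LP (LK LD1_c19 LD2_c21 LD3_c10)) = (LP (LK LD1_c19 LD2_c50 LD3_c57)) :=
  Lgr Lrot104 (Lpr_ct (f332319 IH) (Lpe (f332284 IH) (Lpe (f332324 IH) (Lpr_gf (f387695 IH) (Lpe (K30.f174382 IH) (Lpe (K30.f172997 IH) (Lpe (K14.f226169 IH) (Lpr_gt (f246529 IH) (Lpr_ct (f246530 IH) (Lpn (LP (LK LD1_c19 LD2_c50 LD3_c57))))))))))))
theorem f387706 : Led Lsl_at (LP (LK LD1_c10 LD2_c41 LD3_c38)) = (LP (LK LD1_c19 LD2_c21 LD3_c10)) :=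
  Lre_a IH (LK LD1_c10 LD2_c41 LD3_c38) (LK LD1_c19 LD2_c21 LD3_c10) Lrfl Lrfl
theorem f387708 : Led Lsl_gt (LP (LK LD1_c19 LD2_c20 LD3_c45)) = (LP (LK LD1_c19 LD2_c50 LD3_c57)) :=
  Lgr Lrot5 (Lpr_ft (f387707 IH) (Lpr_at (f387706 IH) (Lpr_gf (f387704 IH) (Lpn (LP (LK LD1_c19 LD2_c50 LD3_c57))))))
theorem f277376 : Led Lsl_ct (LP (LK LD1_c10 LD2_c41 LD3_c48)) = (LP (LK LD1_c5 LD2_c25 LD3_c23)) :=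
  Lre_c IH (LK LD1_c10 LD2_c41 LD3_c48) (LK LD1_c5 LD2_c25 LD3_c23) Lrfl Lrfl
theorem f218421 : Led Lsl_dt (LP (LK LD1_c19 LD2_c21 LD3_c42)) = (LP (LK LD1_c10 LD2_c41 LD3_c48)) :=
  Lre_d IH (LK LD1_c19 LD2_c21 LD3_c42) (LK LD1_c10 LD2_c41 LD3_c48) Lrfl Lrfl
theorem f277377 : Led Lsl_gt (LP (LK LD1_c28 LD2_c46 LD3_c12)) = (LP (LK LD1_c19 LD2_c21 LD3_c42)) :=
  Lre_g IH (LK LD1_c28 LD2_c46 LD3_c12) (LK LD1_c19 LD2_c21 LD3_c42) Lrfl Lrfl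
theorem f389271 : Led Lsl_dt (LP (LK LD1_c19 LD2_c50 LD3_c57)) = (LP (LK LD1_c28 LD2_c46 LD3_c12)) :=
  Lgr Lrot57 (Lpe (f387708 IH) (Lpe (f332277 IH) (Lpr_gt (f389257 IH) (Lpr_dt (f277039 IH) (Lpr_gt (K30.f224202 IH) (Lpr_dt (K30.f277357 IH) (Lpe (f277376 IH) (Lpe (f218421 IH) (Lpe (f277377 IH) (Lpn (LP (LK LD1_c28 LD2_c46 LD3_c12))))))))))))
theorem f389274 : Led Lsl_df (LP (LK LD1_c19 LD2_c50 LD3_c57)) = (LP (LK LD1_c28 LD2_c46 LD3_c12)) :=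
  Lgr Lrot38 (Lpr_dt (f389271 IH) (Lpn (LP (LK LD1_c28 LD2_c46 LD3_c12))))
theorem f391686 : Led Lsl_gt (LP (LK LD1_c19 LD2_c21 LD3_c49)) = (LP (LK LD1_c28 LD2_c46 LD3_c12)) :=
  Lgr Lrot94 (Lpe (f389290 IH) (Lpr_gt (f277348 IH) (Lpr_dt (f384444 IH) (Lpe (f387667 IH) (Lpr_dt (f391629 IH) (Lpe (f391626 IH) (Lpe (f391627 IH) (Lpr_gf (f387704 IH) (Lpr_df (f389274 IH) (Lpn (LP (LK LD1_c28 LD2_c46 LD3_c12))))))))))))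
theorem f277314 : Led Lsl_dt (LP (LK LD1_c10 LD2_c41 LD3_c51)) = (LP (LK LD1_c19 LD2_c21 LD3_c49)) :=
  Lre_d IH (LK LD1_c10 LD2_c41 LD3_c51) (LK LD1_c19 LD2_c21 LD3_c49) Lrfl Lrfl
theorem f391631 : Led Lsl_ft (LP (LK LD1_c11 LD2_c1 LD3_c10)) = (LP (LK LD1_c16 LD2_c55 LD3_c20)) :=
  Lgr Lrot54 (Lpe (K30.f226240 IH) (Lpr_ff (K22.f332377 IH) (Lpr_df (f391622 IH) (Lpn (LP (LK LD1_c16 LD2_c55 LD3_c20))))))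
theorem f189443 : Led Lsl_gt (LP (LK LD1_c11 LD2_c1 LD3_c10)) = (LP (LK LD1_c5 LD2_c34 LD3_c29)) :=
  Lre_g IH (LK LD1_c11 LD2_c1 LD3_c10) (LK LD1_c5 LD2_c34 LD3_c29) Lrfl Lrfl
theorem f391641 : Led Lsl_af (LP (LK LD1_c11 LD2_c1 LD3_c9)) = (LP (LK LD1_c16 LD2_c55 LD3_c20)) :=
  Lgr Lrot31 (Lpe (K30.f226264 IH) (Lpe (f189443 IH) (Lpr_ft (f391631 IH) (Lpn (LP (LK LD1_c16 LD2_c55 LD3_c20))))))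
theorem f391643 : Led Lsl_at (LP (LK LD1_c19 LD2_c21 LD3_c24)) = (LP (LK LD1_c26 LD2_c51 LD3_c32)) :=
  Lgr Lrot107 (Lpe (K30.f226247 IH) (Lpr_af (f391641 IH) (Lpe (f391626 IH) (Lpn (LP (LK LD1_c26 LD2_c51 LD3_c32))))))
theorem f391649 : Led Lsl_at (LP (LK LD1_c19 LD2_c21 LD3_c10)) = (LP (LK LD1_c10 LD2_c41 LD3_c38)) :=
  Lre_a IH (LK LD1_c19 LD2_c21 LD3_c10) (LK LD1_c10 LD2_c41 LD3_c38) Lrfl Lrfl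
theorem f391650 : Led Lsl_df (LP (LK LD1_c19 LD2_c21 LD3_c10)) = (LP (LK LD1_c26 LD2_c51 LD3_c32)) :=
  Lgr Lrot18 (Lpr_at (f391649 IH) (Lpr_dt (f226255 IH) (Lpr_at (f391643 IH) (Lpn (LP (LK LD1_c26 LD2_c51 LD3_c32))))))
theorem f332287 : Led Lsl_ft (LP (LK LD1_c19 LD2_c21 LD3_c10)) = (LP (LK LD1_c10 LD2_c41 LD3_c25)) :=
  Lre_f IH (LK LD1_c19 LD2_c21 LD3_c10) (LK LD1_c10 LD2_c41 LD3_c25) Lrfl Lrfl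
theorem f226271 : Led Lsl_dt (LP (LK LD1_c10 LD2_c41 LD3_c25)) = (LP (LK LD1_c19 LD2_c21 LD3_c8)) :=
  Lre_d IH (LK LD1_c10 LD2_c41 LD3_c25) (LK LD1_c19 LD2_c21 LD3_c8) Lrfl Lrfl
theorem f391652 : Led Lsl_ft (LP (LK LD1_c19 LD2_c21 LD3_c8)) = (LP (LK LD1_c26 LD2_c51 LD3_c32)) :=
  Lgr Lrot54 (Lpe (f226271 IH) (Lpe (f332287 IH) (Lpr_df (f391650 IH) (Lpn (LP (LK LD1_c26 LD2_c51 LD3_c32))))))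
theorem f384844 : Led Lsl_gt (LP (LK LD1_c19 LD2_c21 LD3_c8)) = (LP (LK LD1_c28 LD2_c45 LD3_c50)) :=
  Lre_g IH (LK LD1_c19 LD2_c21 LD3_c8) (LK LD1_c28 LD2_c45 LD3_c50) Lrfl Lrfl
theorem f391647 : Led Lsl_af (LP (LK LD1_c19 LD2_c21 LD3_c24)) = (LP (LK LD1_c26 LD2_c51 LD3_c32)) :=
  Lgr Lrot0 (Lpr_at (f391643 IH) (Lpn (LP (LK LD1_c26 LD2_c51 LD3_c32))))
theorem f391655 : Led Lsl_gt (LP (LK LD1_c28 LD2_c45 LD3_c50)) = (LP (LK LD1_c19 LD2_c21 LD3_c24)) :=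
  Lgr Lrot46 (Lpe (f384844 IH) (Lpr_ft (f391652 IH) (Lpe (f391647 IH) (Lpn (LP (LK LD1_c19 LD2_c21 LD3_c24))))))
theorem f218411 : Led Lsl_gt (LP (LK LD1_c10 LD2_c41 LD3_c48)) = (LP (LK LD1_c19 LD2_c21 LD3_c39)) :=
  Lre_g IH (LK LD1_c10 LD2_c41 LD3_c48) (LK LD1_c19 LD2_c21 LD3_c39) Lrfl Lrfl
theorem f391657 : Led Lsl_df (LP (LK LD1_c28 LD2_c45 LD3_c50)) = (LP (LK LD1_c19 LD2_c21 LD3_c39)) :=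
  Lgr Lrot153 (Lpr_gt (f391655 IH) (Lpr_dt (K30.f226246 IH) (Lpe (K30.f226276 IH) (Lpe (K14.f226149 IH) (Lpe (K14.f169325 IH) (Lpe (K30.f277355 IH) (Lpe (K30.f277356 IH) (Lpe (f277376 IH) (Lpr_gt (f218411 IH) (Lpn (LP (LK LD1_c19 LD2_c21 LD3_c39))))))))))))
theorem f226269 : Led Lsl_dt (LP (LK LD1_c2 LD2_c39 LD3_c5)) = (LP (LK LD1_c5 LD2_c25 LD3_c15)) :=
  Lre_d IH (LK LD1_c2 LD2_c39 LD3_c5) (LK LD1_c5 LD2_c25 LD3_c15) Lrfl Lrfl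
theorem f226270 : Led Lsl_ct (LP (LK LD1_c5 LD2_c25 LD3_c15)) = (LP (LK LD1_c10 LD2_c41 LD3_c25)) :=
  Lre_c IH (LK LD1_c5 LD2_c25 LD3_c15) (LK LD1_c10 LD2_c41 LD3_c25) Lrfl Lrfl
theorem f226273 : Led Lsl_dt (LP (LK LD1_c11 LD2_c1 LD3_c10)) = (LP (LK LD1_c19 LD2_c21 LD3_c21)) :=
  Lre_d IH (LK LD1_c11 LD2_c1 LD3_c10) (LK LD1_c19 LD2_c21 LD3_c21) Lrfl Lrfl
theorem f169326 : Led Lsl_ct (LP (LK LD1_c5 LD2_c25 LD3_c19)) = (LP (LK LD1_c2 LD2_c39 LD3_c6)) :=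
  Lre_c IH (LK LD1_c5 LD2_c25 LD3_c19) (LK LD1_c2 LD2_c39 LD3_c6) Lrfl Lrfl
theorem f226277 : Led Lsl_cf (LP (LK LD1_c11 LD2_c1 LD3_c9)) = (LP (LK LD1_c19 LD2_c21 LD3_c24)) :=
  Lgr Lrot55 (Lpr_dt (K30.f226249 IH) (Lpr_ct (K22.f226132 IH) (Lpr_dt (K30.f226134 IH) (Lpr_ct (K30.f218280 IH) (Lpr_dt (f226269 IH) (Lpr_ct (f226270 IH) (Lpr_dt (f226271 IH) (Lpr_ct (f226272 IH) (Lpr_dt (f226273 IH) (Lpr_ct (K22.f226274 IH) (Lpr_dt (f226275 IH) (Lpr_ct (f169326 IH) (Lpr_dt (K14.f226149 IH) (Lpr_ct (K30.f226276 IH) (Lpr_dt (f226255 IH) (Lpn (LP (LK LD1_c19 LD2_c21 LD3_c24))))))))))))))))))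
theorem f224074 : Led Lsl_dt (LP (LK LD1_c10 LD2_c41 LD3_c55)) = (LP (LK LD1_c5 LD2_c25 LD3_c25)) :=
  Lre_d IH (LK LD1_c10 LD2_c41 LD3_c55) (LK LD1_c5 LD2_c25 LD3_c25) Lrfl Lrfl
theorem f391659 : Led Lsl_gt (LP (LK LD1_c19 LD2_c21 LD3_c39)) = (LP (LK LD1_c10 LD2_c41 LD3_c51)) :=
  Lgr Lrot146 (Lpe (f391657 IH) (Lpr_gt (f391655 IH) (Lpe (f226277 IH) (Lpr_gt (K30.f173529 IH) (Lpr_ct (K30.f226258 IH) (Lpr_dt (f224074 IH) (Lpe (K30.f226288 IH) (Lpe (K30.f172974 IH) (Lpe (f226289 IH) (Lpn (LP (LK LD1_c10 LD2_c41 LD3_c51))))))))))))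
theorem f218408 : Led Lsl_gt (LP (LK LD1_c10 LD2_c37 LD3_c58)) = (LP (LK LD1_c5 LD2_c23 LD3_c43)) :=
  Lre_g IH (LK LD1_c10 LD2_c37 LD3_c58) (LK LD1_c5 LD2_c23 LD3_c43) Lrfl Lrfl
theorem f218409 : Led Lsl_bt (LP (LK LD1_c19 LD2_c15 LD3_c29)) = (LP (LK LD1_c10 LD2_c37 LD3_c58)) :=
  Lre_b IH (LK LD1_c19 LD2_c15 LD3_c29) (LK LD1_c10 LD2_c37 LD3_c58) Lrfl Lrfl
theorem f218410 : Led Lsl_ct (LP (LK LD1_c5 LD2_c25 LD3_c23)) = (LP (LK LD1_c10 LD2_c41 LD3_c48)) :=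
  Lre_c IH (LK LD1_c5 LD2_c25 LD3_c23) (LK LD1_c10 LD2_c41 LD3_c48) Lrfl Lrfl
theorem f218412 : Led Lsl_ct (LP (LK LD1_c19 LD2_c15 LD3_c29)) = (LP (LK LD1_c19 LD2_c21 LD3_c39)) :=
  Lgr Lrot63 (Lpr_bt (f218409 IH) (Lpr_gt (f218408 IH) (Lpe (K19.f218394 IH) (Lpr_ct (K13.f218232 IH) (Lpr_gt (K13.f41242 IH) (Lpe (K18.f217343 IH) (Lpr_bt (K30.f217687 IH) (Lpr_gt (K30.f218403 IH) (Lpr_ct (f218410 IH) (Lpr_gt (f218411 IH) (Lpn (LP (LK LD1_c19 LD2_c21 LD3_c39)))))))))))))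
theorem f218415 : Led Lsl_cf (LP (LK LD1_c19 LD2_c15 LD3_c29)) = (LP (LK LD1_c19 LD2_c21 LD3_c39)) :=
  Lgr Lrot11 (Lpr_ct (f218412 IH) (Lpn (LP (LK LD1_c19 LD2_c21 LD3_c39))))
theorem f226344 : Led Lsl_dt (LP (LK LD1_c5 LD2_c34 LD3_c14)) = (LP (LK LD1_c2 LD2_c43 LD3_c5)) :=
  Lre_d IH (LK LD1_c5 LD2_c34 LD3_c14) (LK LD1_c2 LD2_c43 LD3_c5) Lrfl Lrfl
theorem f246560 : Led Lsl_gt (LP (LK LD1_c11 LD2_c0 LD3_c1)) = (LP (LK LD1_c5 LD2_c34 LD3_c14)) :=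
  Lre_g IH (LK LD1_c11 LD2_c0 LD3_c1) (LK LD1_c5 LD2_c34 LD3_c14) Lrfl Lrfl
theorem f226926 : Led Lsl_ct (LP (LK LD1_c15 LD2_c44 LD3_c23)) = (LP (LK LD1_c8 LD2_c21 LD3_c52)) :=
  Lre_c IH (LK LD1_c15 LD2_c44 LD3_c23) (LK LD1_c8 LD2_c21 LD3_c52) Lrfl Lrfl
theorem f386541 : Led Lsl_df (LP (LK LD1_c11 LD2_c0 LD3_c1)) = (LP (LK LD1_c16 LD2_c43 LD3_c48)) :=
  Lgr Lrot153 (Lpr_gt (f246560 IH) (Lpr_dt (f226344 IH) (Lpe (K30.f218314 IH) (Lpe (K30.f218315 IH) (Lpe (K22.f218316 IH) (Lpr_df (K30.f277180 IH) (Lpr_gf (K30.f384812 IH) (Lpe (f226926 IH) (Lpr_gt (K30.f183322 IH) (Lpn (LP (LK LD1_c16 LD2_c43 LD3_c48))))))))))))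
theorem f382885 : Led Lsl_dt (LP (LK LD1_c25 LD2_c40 LD3_c45)) = (LP (LK LD1_c15 LD2_c44 LD3_c23)) :=
  Lre_d IH (LK LD1_c25 LD2_c40 LD3_c45) (LK LD1_c15 LD2_c44 LD3_c23) Lrfl Lrfl
theorem f391691 : Led Lsl_gt (LP (LK LD1_c19 LD2_c15 LD3_c29)) = (LP (LK LD1_c25 LD2_c40 LD3_c45)) :=
  Lgr Lrot94 (Lpr_cf (f218415 IH) (Lpr_gt (f391659 IH) (Lpr_dt (f277314 IH) (Lpr_gt (f391686 IH) (Lpe (f389274 IH) (Lpe (f246530 IH) (Lpr_df (f386541 IH) (Lpe (K30.f183322 IH) (Lpe (f382885 IH) (Lpn (LP (LK LD1_c25 LD2_c40 LD3_c45))))))))))))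
theorem f218423 : Led Lsl_df (LP (LK LD1_c19 LD2_c15 LD3_c29)) = (LP (LK LD1_c10 LD2_c39 LD3_c52)) :=
  Lgr Lrot162 (Lpr_cf (f218415 IH) (Lpe (f218411 IH) (Lpe (f218410 IH) (Lpe (K30.f218403 IH) (Lpr_dt (K30.f172973 IH) (Lpr_gt (K12.f218239 IH) (Lpr_ct (K30.f218360 IH) (Lpr_gt (K30.f218373 IH) (Lpr_ct (K30.f218376 IH) (Lpn (LP (LK LD1_c10 LD2_c39 LD3_c52))))))))))))
theorem f387794 : Led Lsl_at (LP (LK LD1_c2 LD2_c43 LD3_c5)) = (LP (LK LD1_c5 LD2_c33 LD3_c61)) :=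
  Lre_a IH (LK LD1_c2 LD2_c43 LD3_c5) (LK LD1_c5 LD2_c33 LD3_c61) Lrfl Lrfl
theorem f387795 : Led Lsl_ft (LP (LK LD1_c5 LD2_c33 LD3_c47)) = (LP (LK LD1_c2 LD2_c43 LD3_c5)) :=
  Lre_f IH (LK LD1_c5 LD2_c33 LD3_c47) (LK LD1_c2 LD2_c43 LD3_c5) Lrfl Lrfl
theorem f387796 : Led Lsl_gt (LP (LK LD1_c5 LD2_c33 LD3_c47)) = (LP (LK LD1_c10 LD2_c39 LD3_c52)) :=
  Lgr Lrot5 (Lpr_ft (f387795 IH) (Lpr_at (f387794 IH) (Lpr_gf (K30.f387629 IH) (Lpn (LP (LK LD1_c10 LD2_c39 LD3_c52))))))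
theorem f390760 : Led Lsl_ct (LP (LK LD1_c5 LD2_c33 LD3_c47)) = (LP (LK LD1_c2 LD2_c42 LD3_c60)) :=
  Lre_c IH (LK LD1_c5 LD2_c33 LD3_c47) (LK LD1_c2 LD2_c42 LD3_c60) Lrfl Lrfl
theorem f332360 : Led Lsl_ft (LP (LK LD1_c10 LD2_c41 LD3_c23)) = (LP (LK LD1_c5 LD2_c25 LD3_c14)) :=
  Lre_f IH (LK LD1_c10 LD2_c41 LD3_c23) (LK LD1_c5 LD2_c25 LD3_c14) Lrfl Lrfl
theorem f332450 : Led Lsl_bf (LP (LK LD1_c10 LD2_c41 LD3_c23)) = (LP (LK LD1_c9 LD2_c44 LD3_c14)) :=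
  Lgr Lrot61 (Lpr_ft (f332360 IH) (Lpr_bt (K30.f218361 IH) (Lpr_ft (K30.f332444 IH) (Lpn (LP (LK LD1_c9 LD2_c44 LD3_c14))))))
theorem f332461 : Led Lsl_bt (LP (LK LD1_c10 LD2_c41 LD3_c23)) = (LP (LK LD1_c9 LD2_c44 LD3_c14)) :=
  Lgr Lrot127 (Lpr_bf (f332450 IH) (Lpn (LP (LK LD1_c9 LD2_c44 LD3_c14))))
theorem f332298 : Led Lsl_at (LP (LK LD1_c2 LD2_c39 LD3_c6)) = (LP (LK LD1_c5 LD2_c25 LD3_c17)) :=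
  Lre_a IH (LK LD1_c2 LD2_c39 LD3_c6) (LK LD1_c5 LD2_c25 LD3_c17) Lrfl Lrfl
theorem f332299 : Led Lsl_gf (LP (LK LD1_c5 LD2_c25 LD3_c17)) = (LP (LK LD1_c2 LD2_c39 LD3_c9)) :=
  Lgr Lrot76 (Lpe (f332298 IH) (Lpe (K22.f332280 IH) (Lpr_gt (f332292 IH) (Lpn (LP (LK LD1_c2 LD2_c39 LD3_c9))))))
theorem f332466 : Led Lsl_gf (LP (LK LD1_c8 LD2_c57 LD3_c61)) = (LP (LK LD1_c9 LD2_c44 LD3_c14)) :=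
  Lgr Lrot181 (Lpe (K30.f319646 IH) (Lpr_gt (K30.f319645 IH) (Lpr_cf (K20.f319633 IH) (Lpr_bt (K20.f168796 IH) (Lpr_gt (K9.f167840 IH) (Lpe (f225189 IH) (Lpr_ct (f218848 IH) (Lpe (f332299 IH) (Lpe (f332324 IH) (Lpr_bt (f332461 IH) (Lpn (LP (LK LD1_c9 LD2_c44 LD3_c14)))))))))))))
theorem f390630 : Led Lsl_gt (LP (LK LD1_c2 LD2_c42 LD3_c60)) = (LP (LK LD1_c1 LD2_c18 LD3_c2)) :=
  Lgr Lrot82 (Lpe (f387601 IH) (Lpr_ct (f390629 IH) (Lpr_gf (f390622 IH) (Lpe (f280826 IH) (Lpr_bt (K30.f319649 IH) (Lpr_gf (f332466 IH) (Lpe (f332461 IH) (Lpr_ct (f332324 IH) (Lpr_gf (f332299 IH) (Lpe (f218848 IH) (Lpn (LP (LK LD1_c1 LD2_c18 LD3_c2)))))))))))))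
theorem f173438 : Led Lsl_dt (LP (LK LD1_c1 LD2_c18 LD3_c2)) = (LP (LK LD1_c2 LD2_c13 LD3_c43)) :=
  Lre_d IH (LK LD1_c1 LD2_c18 LD3_c2) (LK LD1_c2 LD2_c13 LD3_c43) Lrfl Lrfl
theorem f173421 : Led Lsl_gt (LP (LK LD1_c2 LD2_c13 LD3_c43)) = (LP (LK LD1_c4 LD2_c33 LD3_c36)) :=
  Lre_g IH (LK LD1_c2 LD2_c13 LD3_c43) (LK LD1_c4 LD2_c33 LD3_c36) Lrfl Lrfl
theorem f391694 : Led Lsl_dt (LP (LK LD1_c4 LD2_c33 LD3_c36)) = (LP (LK LD1_c8 LD2_c21 LD3_c52)) :=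
  Lgr Lrot105 (Lpe (f173421 IH) (Lpe (f173438 IH) (Lpe (f390630 IH) (Lpe (f390760 IH) (Lpr_gt (f387796 IH) (Lpe (f218423 IH) (Lpr_gt (f391691 IH) (Lpr_dt (f382885 IH) (Lpe (K30.f183317 IH) (Lpn (LP (LK LD1_c8 LD2_c21 LD3_c52))))))))))))
theorem f391705 : Led Lsl_df (LP (LK LD1_c4 LD2_c33 LD3_c36)) = (LP (LK LD1_c8 LD2_c21 LD3_c52)) :=
  Lgr Lrot38 (Lpr_dt (f391694 IH) (Lpn (LP (LK LD1_c8 LD2_c21 LD3_c52))))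
theorem f173435 : Led Lsl_bt (LP (LK LD1_c4 LD2_c33 LD3_c36)) = (LP (LK LD1_c9 LD2_c4 LD3_c47)) :=
  Lre_b IH (LK LD1_c4 LD2_c33 LD3_c36) (LK LD1_c9 LD2_c4 LD3_c47) Lrfl Lrfl
theorem f391738 : Led Lsl_dt (LP (LK LD1_c9 LD2_c4 LD3_c47)) = (LP (LK LD1_c15 LD2_c44 LD3_c22)) :=
  Lgr Lrot79 (Lpe (f173435 IH) (Lpr_df (f391705 IH) (Lpe (K30.f183324 IH) (Lpn (LP (LK LD1_c15 LD2_c44 LD3_c22))))))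
theorem f318738 : Led Lsl_et (LP (LK LD1_c10 LD2_c59 LD3_c46)) = (LP (LK LD1_c19 LD2_c50 LD3_c35)) :=
  Lre_e IH (LK LD1_c10 LD2_c59 LD3_c46) (LK LD1_c19 LD2_c50 LD3_c35) Lrfl Lrfl
theorem f289530 : Led Lsl_et (LP (LK LD1_c28 LD2_c55 LD3_c26)) = (LP (LK LD1_c19 LD2_c33 LD3_c6)) :=
  Lre_e IH (LK LD1_c28 LD2_c55 LD3_c26) (LK LD1_c19 LD2_c33 LD3_c6) Lrfl Lrfl
theorem f390142 : Led Lsl_at (LP (LK LD1_c19 LD2_c50 LD3_c35)) = (LP (LK LD1_c28 LD2_c55 LD3_c26)) :=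
  Lgr Lrot80 (Lpe (f318738 IH) (Lpr_af (f390135 IH) (Lpe (f289530 IH) (Lpn (LP (LK LD1_c28 LD2_c55 LD3_c26))))))
theorem f318905 : Led Lsl_ct (LP (LK LD1_c10 LD2_c59 LD3_c47)) = (LP (LK LD1_c19 LD2_c50 LD3_c35)) :=
  Lre_c IH (LK LD1_c10 LD2_c59 LD3_c47) (LK LD1_c19 LD2_c50 LD3_c35) Lrfl Lrfl
theorem f390146 : Led Lsl_at (LP (LK LD1_c19 LD2_c50 LD3_c26)) = (LP (LK LD1_c10 LD2_c59 LD3_c47)) :=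
  Lre_a IH (LK LD1_c19 LD2_c50 LD3_c26) (LK LD1_c10 LD2_c59 LD3_c47) Lrfl Lrfl
theorem f390147 : Led Lsl_cf (LP (LK LD1_c19 LD2_c50 LD3_c26)) = (LP (LK LD1_c28 LD2_c55 LD3_c26)) :=
  Lgr Lrot1 (Lpr_at (f390146 IH) (Lpr_ct (f318905 IH) (Lpr_at (f390142 IH) (Lpn (LP (LK LD1_c28 LD2_c55 LD3_c26))))))
theorem f390149 : Led Lsl_ct (LP (LK LD1_c19 LD2_c50 LD3_c26)) = (LP (LK LD1_c28 LD2_c55 LD3_c26)) :=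
  Lgr Lrot59 (Lpr_cf (f390147 IH) (Lpn (LP (LK LD1_c28 LD2_c55 LD3_c26))))
theorem f387599 : Led Lsl_et (LP (LK LD1_c10 LD2_c59 LD3_c40)) = (LP (LK LD1_c19 LD2_c50 LD3_c26)) :=
  Lre_e IH (LK LD1_c10 LD2_c59 LD3_c40) (LK LD1_c19 LD2_c50 LD3_c26) Lrfl Lrfl
theorem f390154 : Led Lsl_cf (LP (LK LD1_c10 LD2_c59 LD3_c40)) = (LP (LK LD1_c19 LD2_c33 LD3_c6)) :=
  Lgr Lrot39 (Lpr_et (f387599 IH) (Lpr_ct (f390149 IH) (Lpr_et (f289530 IH) (Lpn (LP (LK LD1_c19 LD2_c33 LD3_c6))))))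
theorem f387620 : Led Lsl_dt (LP (LK LD1_c5 LD2_c33 LD3_c51)) = (LP (LK LD1_c10 LD2_c59 LD3_c40)) :=
  Lre_d IH (LK LD1_c5 LD2_c33 LD3_c51) (LK LD1_c10 LD2_c59 LD3_c40) Lrfl Lrfl
theorem f318412 : Led Lsl_dt (LP (LK LD1_c16 LD2_c47 LD3_c17)) = (LP (LK LD1_c8 LD2_c58 LD3_c18)) :=
  Lre_d IH (LK LD1_c16 LD2_c47 LD3_c17) (LK LD1_c8 LD2_c58 LD3_c18) Lrfl Lrfl
theorem f140386 : Led Lsl_dt (LP (LK LD1_c17 LD2_c55 LD3_c43)) = (LP (LK LD1_c9 LD2_c45 LD3_c61)) :=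
  Lre_d IH (LK LD1_c17 LD2_c55 LD3_c43) (LK LD1_c9 LD2_c45 LD3_c61) Lrfl Lrfl
theorem f140375 : Led Lsl_at (LP (LK LD1_c9 LD2_c46 LD3_c0)) = (LP (LK LD1_c17 LD2_c55 LD3_c43)) :=
  Lre_a IH (LK LD1_c9 LD2_c46 LD3_c0) (LK LD1_c17 LD2_c55 LD3_c43) Lrfl Lrfl
theorem f140382 : Led Lsl_gt (LP (LK LD1_c15 LD2_c3 LD3_c44)) = (LP (LK LD1_c24 LD2_c52 LD3_c53)) :=
  Lre_g IH (LK LD1_c15 LD2_c3 LD3_c44) (LK LD1_c24 LD2_c52 LD3_c53) Lrfl Lrfl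
theorem f140383 : Led Lsl_gf (LP (LK LD1_c17 LD2_c55 LD3_c43)) = (LP (LK LD1_c24 LD2_c52 LD3_c53)) :=
  Lgr Lrot76 (Lpe (f140375 IH) (Lpr_ff (K20.f140370 IH) (Lpr_gt (f140382 IH) (Lpn (LP (LK LD1_c24 LD2_c52 LD3_c53))))))
theorem f381102 : Led Lsl_df (LP (LK LD1_c24 LD2_c52 LD3_c53)) = (LP (LK LD1_c19 LD2_c33 LD3_c6)) :=
  Lgr Lrot153 (Lpe (f140383 IH) (Lpr_dt (f140386 IH) (Lpe (K20.f140362 IH) (Lpr_df (K9.f173692 IH) (Lpe (K30.f173629 IH) (Lpe (K20.f173634 IH) (Lpr_gf (K27.f380873 IH) (Lpe (K30.f165022 IH) (Lpr_gt (f289527 IH) (Lpn (LP (LK LD1_c19 LD2_c33 LD3_c6))))))))))))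
theorem f387477 : Led Lsl_dt (LP (LK LD1_c24 LD2_c52 LD3_c53)) = (LP (LK LD1_c19 LD2_c33 LD3_c6)) :=
  Lgr Lrot42 (Lpr_df (f381102 IH) (Lpn (LP (LK LD1_c19 LD2_c33 LD3_c6))))
theorem f140348 : Led Lsl_gt (LP (LK LD1_c15 LD2_c3 LD3_c43)) = (LP (LK LD1_c7 LD2_c59 LD3_c2)) :=
  Lre_g IH (LK LD1_c15 LD2_c3 LD3_c43) (LK LD1_c7 LD2_c59 LD3_c2) Lrfl Lrfl
theorem f140337 : Led Lsl_bt (LP (LK LD1_c3 LD2_c58 LD3_c47)) = (LP (LK LD1_c1 LD2_c56 LD3_c7)) :=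
  Lre_b IH (LK LD1_c3 LD2_c58 LD3_c47) (LK LD1_c1 LD2_c56 LD3_c7) Lrfl Lrfl
theorem f173420 : Led Lsl_bt (LP (LK LD1_c1 LD2_c3 LD3_c52)) = (LP (LK LD1_c2 LD2_c13 LD3_c43)) :=
  Lre_b IH (LK LD1_c1 LD2_c3 LD3_c52) (LK LD1_c2 LD2_c13 LD3_c43) Lrfl Lrfl
theorem f173422 : Led Lsl_bt (LP (LK LD1_c9 LD2_c4 LD3_c47)) = (LP (LK LD1_c4 LD2_c33 LD3_c36)) :=
  Lre_b IH (LK LD1_c9 LD2_c4 LD3_c47) (LK LD1_c4 LD2_c33 LD3_c36) Lrfl Lrfl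
theorem f173423 : Led Lsl_cf (LP (LK LD1_c15 LD2_c3 LD3_c43)) = (LP (LK LD1_c9 LD2_c4 LD3_c47)) :=
  Lgr Lrot160 (Lpr_gt (f140348 IH) (Lpe (K9.f40740 IH) (Lpr_bt (f140337 IH) (Lpr_gt (K9.f169277 IH) (Lpr_ct (K9.f173382 IH) (Lpr_gt (K9.f173380 IH) (Lpe (K9.f173419 IH) (Lpr_bt (f173420 IH) (Lpr_gt (f173421 IH) (Lpe (f173422 IH) (Lpn (LP (LK LD1_c9 LD2_c4 LD3_c47)))))))))))))
theorem f390156 : Led Lsl_gf (LP (LK LD1_c16 LD2_c47 LD3_c17)) = (LP (LK LD1_c9 LD2_c4 LD3_c47)) :=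
  Lgr Lrot144 (Lpr_dt (f318412 IH) (Lpe (K30.f387615 IH) (Lpr_dt (f387620 IH) (Lpr_cf (f390154 IH) (Lpe (f387477 IH) (Lpe (f140382 IH) (Lpe (K20.f140340 IH) (Lpe (f140348 IH) (Lpr_cf (f173423 IH) (Lpn (LP (LK LD1_c9 LD2_c4 LD3_c47))))))))))))
theorem f392148 : Led Lsl_gf (LP (LK LD1_c8 LD2_c59 LD3_c61)) = (LP (LK LD1_c15 LD2_c44 LD3_c22)) :=
  Lgr Lrot179 (Lpr_ct (K30.f179860 IH) (Lpr_gt (K30.f319271 IH) (Lpr_ct (K30.f226822 IH) (Lpr_dt (K30.f384234 IH) (Lpe (K30.f140439 IH) (Lpe (K30.f319129 IH) (Lpe (K20.f318588 IH) (Lpr_gf (f390156 IH) (Lpr_dt (f391738 IH) (Lpn (LP (LK LD1_c15 LD2_c44 LD3_c22))))))))))))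
theorem f392155 : Led Lsl_gt (LP (LK LD1_c10 LD2_c59 LD3_c15)) = (LP (LK LD1_c19 LD2_c49 LD3_c18)) :=
  Lgr Lrot189 (Lpr_df (K30.f384343 IH) (Lpr_gf (f392148 IH) (Lpr_ct (K30.f183325 IH) (Lpr_gt (K30.f178102 IH) (Lpr_dt (K20.f178910 IH) (Lpr_gt (K20.f289585 IH) (Lpr_dt (K20.f174018 IH) (Lpe (f390375 IH) (Lpe (f390344 IH) (Lpn (LP (LK LD1_c19 LD2_c49 LD3_c18))))))))))))
theorem f178894 : Led Lsl_bt (LP (LK LD1_c2 LD2_c42 LD3_c1)) = (LP (LK LD1_c1 LD2_c17 LD3_c39)) :=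
  Lre_b IH (LK LD1_c2 LD2_c42 LD3_c1) (LK LD1_c1 LD2_c17 LD3_c39) Lrfl Lrfl
theorem f175229 : Led Lsl_cf (LP (LK LD1_c5 LD2_c34 LD3_c23)) = (LP (LK LD1_c9 LD2_c45 LD3_c60)) :=
  Lgr Lrot11 (Lpr_ct (f175088 IH) (Lpn (LP (LK LD1_c9 LD2_c45 LD3_c60))))
theorem f390365 : Led Lsl_ct (LP (LK LD1_c19 LD2_c49 LD3_c18)) = (LP (LK LD1_c19 LD2_c43 LD3_c53)) :=
  Lgr Lrot7 (Lpe (f238394 IH) (Lpe (f238393 IH) (Lpe (f238414 IH) (Lpe (f390338 IH) (Lpr_cf (f175229 IH) (Lpr_gt (f173663 IH) (Lpr_dt (K20.f140353 IH) (Lpr_gt (f140447 IH) (Lpr_dt (f390357 IH) (Lpn (LP (LK LD1_c19 LD2_c43 LD3_c53))))))))))))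
theorem f390725 : Led Lsl_bf (LP (LK LD1_c11 LD2_c0 LD3_c27)) = (LP (LK LD1_c19 LD2_c49 LD3_c18)) :=
  Lgr Lrot165 (Lpr_gt (f390718 IH) (Lpe (f388253 IH) (Lpr_gt (f225222 IH) (Lpe (f226407 IH) (Lpr_bt (f178894 IH) (Lpr_gt (K12.f173037 IH) (Lpe (K20.f178887 IH) (Lpr_ct (K20.f178938 IH) (Lpr_gt (f281671 IH) (Lpe (f390365 IH) (Lpn (LP (LK LD1_c19 LD2_c49 LD3_c18)))))))))))))
theorem f390729 : Led Lsl_at (LP (LK LD1_c10 LD2_c59 LD3_c48)) = (LP (LK LD1_c19 LD2_c49 LD3_c18)) :=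
  Lgr Lrot67 (Lpe (K30.f387817 IH) (Lpe (f390728 IH) (Lpe (K14.f226028 IH) (Lpe (K30.f387582 IH) (Lpr_bf (f390725 IH) (Lpn (LP (LK LD1_c19 LD2_c49 LD3_c18))))))))
theorem f390348 : Led Lsl_ft (LP (LK LD1_c5 LD2_c33 LD3_c53)) = (LP (LK LD1_c10 LD2_c59 LD3_c48)) :=
  Lre_f IH (LK LD1_c5 LD2_c33 LD3_c53) (LK LD1_c10 LD2_c59 LD3_c48) Lrfl Lrfl
theorem f392158 : Led Lsl_gf (LP (LK LD1_c10 LD2_c59 LD3_c15)) = (LP (LK LD1_c5 LD2_c33 LD3_c53)) :=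
  Lgr Lrot47 (Lpr_gt (f392155 IH) (Lpe (f390729 IH) (Lpe (f390348 IH) (Lpn (LP (LK LD1_c5 LD2_c33 LD3_c53))))))
theorem f384513 : Led Lsl_df (LP (LK LD1_c9 LD2_c46 LD3_c29)) = (LP (LK LD1_c16 LD2_c3 LD3_c7)) :=
  Lgr Lrot43 (Lpr_ct (K30.f140439 IH) (Lpe (K30.f384230 IH) (Lpr_ct (K30.f289557 IH) (Lpr_dt (K30.f289558 IH) (Lpe (K30.f381079 IH) (Lpr_dt (f167173 IH) (Lpe (K30.f167162 IH) (Lpr_dt (K30.f384275 IH) (Lpr_ct (K30.f140455 IH) (Lpe (K30.f384263 IH) (Lpr_ct (K30.f276259 IH) (Lpr_dt (K30.f384277 IH) (Lpe (K30.f384417 IH) (Lpr_dt (K30.f384433 IH) (Lpr_ct (K30.f384509 IH) (Lpn (LP (LK LD1_c16 LD2_c3 LD3_c7))))))))))))))))))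
theorem f167113 : Led Lsl_gt (LP (LK LD1_c8 LD2_c21 LD3_c21)) = (LP (LK LD1_c15 LD2_c43 LD3_c32)) :=
  Lre_g IH (LK LD1_c8 LD2_c21 LD3_c21) (LK LD1_c15 LD2_c43 LD3_c32) Lrfl Lrfl
theorem f384507 : Led Lsl_gt (LP (LK LD1_c15 LD2_c43 LD3_c32)) = (LP (LK LD1_c16 LD2_c3 LD3_c7)) :=
  Lgr Lrot46 (Lpe (f167113 IH) (Lpr_ft (K30.f384502 IH) (Lpr_at (K30.f384504 IH) (Lpn (LP (LK LD1_c16 LD2_c3 LD3_c7))))))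
theorem f384534 : Led Lsl_dt (LP (LK LD1_c19 LD2_c49 LD3_c58)) = (LP (LK LD1_c15 LD2_c43 LD3_c32)) :=
  Lgr Lrot57 (Lpe (K30.f381109 IH) (Lpe (K17.f171760 IH) (Lpr_gt (f380893 IH) (Lpe (K30.f178924 IH) (Lpe (K30.f289555 IH) (Lpr_dt (K30.f384234 IH) (Lpe (K30.f140439 IH) (Lpr_df (f384513 IH) (Lpe (f384507 IH) (Lpn (LP (LK LD1_c15 LD2_c43 LD3_c32))))))))))))
theorem f384511 : Led Lsl_cf (LP (LK LD1_c16 LD2_c8 LD3_c50)) = (LP (LK LD1_c16 LD2_c3 LD3_c7)) :=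
  Lgr Lrot11 (Lpr_ct (K30.f384509 IH) (Lpn (LP (LK LD1_c16 LD2_c3 LD3_c7))))
theorem f384331 : Led Lsl_df (LP (LK LD1_c19 LD2_c32 LD3_c45)) = (LP (LK LD1_c24 LD2_c52 LD3_c42)) :=
  Lgr Lrot155 (Lpr_gt (K30.f384266 IH) (Lpr_ct (K30.f276248 IH) (Lpr_gt (K30.f384325 IH) (Lpr_ct (K30.f178933 IH) (Lpr_dt (K30.f178934 IH) (Lpe (K30.f380900 IH) (Lpr_gf (K30.f318568 IH) (Lpe (K30.f318458 IH) (Lpe (K30.f318496 IH) (Lpn (LP (LK LD1_c24 LD2_c52 LD3_c42))))))))))))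
theorem f318538 : Led Lsl_at (LP (LK LD1_c19 LD2_c42 LD3_c35)) = (LP (LK LD1_c15 LD2_c3 LD3_c30)) :=
  Lgr Lrot100 (Lpr_af (K20.f318536 IH) (Lpn (LP (LK LD1_c15 LD2_c3 LD3_c30))))
theorem f318598 : Led Lsl_gt (LP (LK LD1_c15 LD2_c3 LD3_c38)) = (LP (LK LD1_c24 LD2_c52 LD3_c42)) :=
  Lgr Lrot5 (Lpr_ft (K20.f318424 IH) (Lpr_at (f318538 IH) (Lpe (K30.f318496 IH) (Lpn (LP (LK LD1_c24 LD2_c52 LD3_c42))))))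
theorem f384436 : Led Lsl_gt (LP (LK LD1_c15 LD2_c47 LD3_c56)) = (LP (LK LD1_c16 LD2_c8 LD3_c50)) :=
  Lgr Lrot49 (Lpe (K20.f305160 IH) (Lpe (K27.f380884 IH) (Lpe (K27.f275504 IH) (Lpr_gt (f318598 IH) (Lpe (f384331 IH) (Lpr_gt (K30.f384266 IH) (Lpr_dt (K30.f384277 IH) (Lpr_cf (K30.f384431 IH) (Lpe (K30.f384430 IH) (Lpn (LP (LK LD1_c16 LD2_c8 LD3_c50))))))))))))
theorem f319617 : Led Lsl_ff (LP (LK LD1_c16 LD2_c8 LD3_c48)) = (LP (LK LD1_c15 LD2_c47 LD3_c56)) :=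
  Lgr Lrot3 (Lpr_ft (K20.f319613 IH) (Lpn (LP (LK LD1_c15 LD2_c47 LD3_c56))))
theorem f319611 : Led Lsl_at (LP (LK LD1_c16 LD2_c8 LD3_c48)) = (LP (LK LD1_c15 LD2_c47 LD3_c57)) :=
  Lgr Lrot100 (Lpr_af (K20.f319609 IH) (Lpn (LP (LK LD1_c15 LD2_c47 LD3_c57))))
theorem f384488 : Led Lsl_gf (LP (LK LD1_c15 LD2_c47 LD3_c57)) = (LP (LK LD1_c16 LD2_c8 LD3_c50)) :=
  Lgr Lrot76 (Lpe (f319611 IH) (Lpr_ff (f319617 IH) (Lpr_gt (f384436 IH) (Lpn (LP (LK LD1_c16 LD2_c8 LD3_c50))))))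
theorem f174024 : Led Lsl_ct (LP (LK LD1_c15 LD2_c3 LD3_c40)) = (LP (LK LD1_c7 LD2_c58 LD3_c60)) :=
  Lre_c IH (LK LD1_c15 LD2_c3 LD3_c40) (LK LD1_c7 LD2_c58 LD3_c60) Lrfl Lrfl
theorem f384539 : Led Lsl_gt (LP (LK LD1_c19 LD2_c49 LD3_c58)) = (LP (LK LD1_c15 LD2_c3 LD3_c40)) :=
  Lgr Lrot146 (Lpr_dt (f384534 IH) (Lpr_gt (f384507 IH) (Lpe (f384511 IH) (Lpe (f384488 IH) (Lpe (K30.f319607 IH) (Lpr_dt (K30.f165023 IH) (Lpe (K20.f165024 IH) (Lpe (K27.f380869 IH) (Lpe (f174024 IH) (Lpn (LP (LK LD1_c15 LD2_c3 LD3_c40))))))))))))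
theorem f238396 : Led Lsl_ct (LP (LK LD1_c5 LD2_c33 LD3_c28)) = (LP (LK LD1_c10 LD2_c58 LD3_c55)) :=
  Lre_c IH (LK LD1_c5 LD2_c33 LD3_c28) (LK LD1_c10 LD2_c58 LD3_c55) Lrfl Lrfl
theorem f392389 : Led Lsl_gf (LP (LK LD1_c5 LD2_c33 LD3_c28)) = (LP (LK LD1_c2 LD2_c42 LD3_c61)) :=
  Lgr Lrot147 (Lpr_ct (f238396 IH) (Lpr_gt (K27.f238387 IH) (Lpr_ct (K16.f174029 IH) (Lpe (K20.f174032 IH) (Lpe (f174024 IH) (Lpe (f384539 IH) (Lpe (K30.f381108 IH) (Lpr_gf (f392158 IH) (Lpe (K20.f174082 IH) (Lpn (LP (LK LD1_c2 LD2_c42 LD3_c61))))))))))))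
theorem f318498 : Led Lsl_dt (LP (LK LD1_c5 LD2_c33 LD3_c28)) = (LP (LK LD1_c10 LD2_c58 LD3_c56)) :=
  Lre_d IH (LK LD1_c5 LD2_c33 LD3_c28) (LK LD1_c10 LD2_c58 LD3_c56) Lrfl Lrfl
theorem f174084 : Led Lsl_dt (LP (LK LD1_c5 LD2_c33 LD3_c53)) = (LP (LK LD1_c2 LD2_c42 LD3_c61)) :=
  Lre_d IH (LK LD1_c5 LD2_c33 LD3_c53) (LK LD1_c2 LD2_c42 LD3_c61) Lrfl Lrfl
theorem f281677 : Led Lsl_ct (LP (LK LD1_c19 LD2_c50 LD3_c33)) = (LP (LK LD1_c10 LD2_c59 LD3_c45)) :=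
  Lre_c IH (LK LD1_c19 LD2_c50 LD3_c33) (LK LD1_c10 LD2_c59 LD3_c45) Lrfl Lrfl
theorem f392397 : Led Lsl_gf (LP (LK LD1_c15 LD2_c3 LD3_c32)) = (LP (LK LD1_c19 LD2_c50 LD3_c33)) :=
  Lgr Lrot144 (Lpr_dt (f319021 IH) (Lpr_gt (f319028 IH) (Lpr_dt (f388035 IH) (Lpe (f388037 IH) (Lpe (f318498 IH) (Lpr_gf (f392389 IH) (Lpe (f174084 IH) (Lpe (K20.f226199 IH) (Lpe (f281677 IH) (Lpn (LP (LK LD1_c19 LD2_c50 LD3_c33))))))))))))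
theorem f281675 : Led Lsl_ct (LP (LK LD1_c10 LD2_c59 LD3_c45)) = (LP (LK LD1_c19 LD2_c50 LD3_c33)) :=
  Lre_c IH (LK LD1_c10 LD2_c59 LD3_c45) (LK LD1_c19 LD2_c50 LD3_c33) Lrfl Lrfl
theorem f281673 : Led Lsl_bt (LP (LK LD1_c10 LD2_c59 LD3_c45)) = (LP (LK LD1_c16 LD2_c48 LD3_c24)) :=
  Lgr Lrot127 (Lpr_bf (K20.f281667 IH) (Lpn (LP (LK LD1_c16 LD2_c48 LD3_c24))))
theorem f281664 : Led Lsl_bt (LP (LK LD1_c4 LD2_c30 LD3_c28)) = (LP (LK LD1_c8 LD2_c59 LD3_c11)) :=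
  Lre_b IH (LK LD1_c4 LD2_c30 LD3_c28) (LK LD1_c8 LD2_c59 LD3_c11) Lrfl Lrfl
theorem f281665 : Led Lsl_ct (LP (LK LD1_c4 LD2_c30 LD3_c28)) = (LP (LK LD1_c8 LD2_c59 LD3_c16)) :=
  Lre_c IH (LK LD1_c4 LD2_c30 LD3_c28) (LK LD1_c8 LD2_c59 LD3_c16) Lrfl Lrfl
theorem f281666 : Led Lsl_gt (LP (LK LD1_c16 LD2_c48 LD3_c13)) = (LP (LK LD1_c8 LD2_c59 LD3_c16)) :=
  Lre_g IH (LK LD1_c16 LD2_c48 LD3_c13) (LK LD1_c8 LD2_c59 LD3_c16) Lrfl Lrfl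
theorem f236225 : Led Lsl_ct (LP (LK LD1_c4 LD2_c30 LD3_c23)) = (LP (LK LD1_c8 LD2_c59 LD3_c2)) :=
  Lre_c IH (LK LD1_c4 LD2_c30 LD3_c23) (LK LD1_c8 LD2_c59 LD3_c2) Lrfl Lrfl
theorem f382493 : Led Lsl_gt (LP (LK LD1_c8 LD2_c59 LD3_c2)) = (LP (LK LD1_c16 LD2_c48 LD3_c13)) :=
  Lre_g IH (LK LD1_c8 LD2_c59 LD3_c2) (LK LD1_c16 LD2_c48 LD3_c13) Lrfl Lrfl
theorem f274898 : Led Lsl_ct (LP (LK LD1_c5 LD2_c28 LD3_c26)) = (LP (LK LD1_c10 LD2_c47 LD3_c60)) :=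
  Lre_c IH (LK LD1_c5 LD2_c28 LD3_c26) (LK LD1_c10 LD2_c47 LD3_c60) Lrfl Lrfl
theorem f341297 : Led Lsl_gt (LP (LK LD1_c10 LD2_c47 LD3_c60)) = (LP (LK LD1_c10 LD2_c49 LD3_c28)) :=
  Lre_g IH (LK LD1_c10 LD2_c47 LD3_c60) (LK LD1_c10 LD2_c49 LD3_c28) Lrfl Lrfl
theorem f382494 : Led Lsl_ct (LP (LK LD1_c10 LD2_c49 LD3_c28)) = (LP (LK LD1_c5 LD2_c29 LD3_c6)) :=
  Lre_c IH (LK LD1_c10 LD2_c49 LD3_c28) (LK LD1_c5 LD2_c29 LD3_c6) Lrfl Lrfl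
theorem f382495 : Led Lsl_dt (LP (LK LD1_c10 LD2_c49 LD3_c29)) = (LP (LK LD1_c5 LD2_c29 LD3_c6)) :=
  Lre_d IH (LK LD1_c10 LD2_c49 LD3_c29) (LK LD1_c5 LD2_c29 LD3_c6) Lrfl Lrfl
theorem f382496 : Led Lsl_ct (LP (LK LD1_c16 LD2_c48 LD3_c13)) = (LP (LK LD1_c10 LD2_c49 LD3_c29)) :=
  Lgr Lrot110 (Lpe (f382493 IH) (Lpe (f236225 IH) (Lpr_gf (K27.f382481 IH) (Lpe (K27.f178155 IH) (Lpr_gt (K27.f7736 IH) (Lpr_ct (f274898 IH) (Lpr_gt (f341297 IH) (Lpr_ct (f382494 IH) (Lpe (f382495 IH) (Lpn (LP (LK LD1_c10 LD2_c49 LD3_c29))))))))))))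
theorem f382514 : Led Lsl_cf (LP (LK LD1_c16 LD2_c48 LD3_c13)) = (LP (LK LD1_c10 LD2_c49 LD3_c29)) :=
  Lgr Lrot11 (Lpr_ct (f382496 IH) (Lpn (LP (LK LD1_c10 LD2_c49 LD3_c29))))
theorem f392429 : Led Lsl_gt (LP (LK LD1_c15 LD2_c3 LD3_c27)) = (LP (LK LD1_c10 LD2_c49 LD3_c29)) :=
  Lgr Lrot82 (Lpe (K20.f200603 IH) (Lpr_ct (K17.f171760 IH) (Lpr_gf (f392397 IH) (Lpe (f281675 IH) (Lpr_bt (f281673 IH) (Lpe (K20.f281640 IH) (Lpe (f281664 IH) (Lpr_ct (f281665 IH) (Lpe (f281666 IH) (Lpr_cf (f382514 IH) (Lpn (LP (LK LD1_c10 LD2_c49 LD3_c29)))))))))))))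
theorem f255939 : Led Lsl_dt (LP (LK LD1_c10 LD2_c58 LD3_c28)) = (LP (LK LD1_c15 LD2_c49 LD3_c21)) :=
  Lgr Lrot42 (Lpr_df (K27.f255935 IH) (Lpn (LP (LK LD1_c15 LD2_c49 LD3_c21))))
theorem f382724 : Led Lsl_af (LP (LK LD1_c16 LD2_c7 LD3_c27)) = (LP (LK LD1_c15 LD2_c49 LD3_c21)) :=
  Lgr Lrot117 (Lpr_dt (K27.f382715 IH) (Lpr_at (K27.f382565 IH) (Lpr_dt (f255939 IH) (Lpn (LP (LK LD1_c15 LD2_c49 LD3_c21))))))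
theorem f382766 : Led Lsl_ft (LP (LK LD1_c16 LD2_c7 LD3_c26)) = (LP (LK LD1_c15 LD2_c49 LD3_c21)) :=
  Lgr Lrot101 (Lpr_af (K27.f382760 IH) (Lpe (K27.f382756 IH) (Lpr_af (f382724 IH) (Lpn (LP (LK LD1_c15 LD2_c49 LD3_c21))))))
theorem f382772 : Led Lsl_ff (LP (LK LD1_c16 LD2_c7 LD3_c26)) = (LP (LK LD1_c15 LD2_c49 LD3_c21)) :=
  Lgr Lrot3 (Lpr_ft (f382766 IH) (Lpn (LP (LK LD1_c15 LD2_c49 LD3_c21))))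
theorem f382762 : Led Lsl_at (LP (LK LD1_c16 LD2_c7 LD3_c26)) = (LP (LK LD1_c15 LD2_c49 LD3_c22)) :=
  Lgr Lrot100 (Lpr_af (K27.f382760 IH) (Lpn (LP (LK LD1_c15 LD2_c49 LD3_c22))))
theorem f382778 : Led Lsl_gf (LP (LK LD1_c16 LD2_c7 LD3_c28)) = (LP (LK LD1_c15 LD2_c49 LD3_c21)) :=
  Lgr Lrot47 (Lpr_gt (K30.f382711 IH) (Lpe (f382762 IH) (Lpr_ff (f382772 IH) (Lpn (LP (LK LD1_c15 LD2_c49 LD3_c21))))))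
theorem f383109 : Led Lsl_df (LP (LK LD1_c8 LD2_c59 LD3_c25)) = (LP (LK LD1_c16 LD2_c7 LD3_c28)) :=
  Lgr Lrot38 (Lpr_dt (K30.f383089 IH) (Lpn (LP (LK LD1_c16 LD2_c7 LD3_c28))))
theorem f173508 : Led Lsl_ct (LP (LK LD1_c8 LD2_c59 LD3_c25)) = (LP (LK LD1_c16 LD2_c48 LD3_c46)) :=
  Lre_c IH (LK LD1_c8 LD2_c59 LD3_c25) (LK LD1_c16 LD2_c48 LD3_c46) Lrfl Lrfl
theorem f392433 : Led Lsl_gt (LP (LK LD1_c5 LD2_c29 LD3_c6)) = (LP (LK LD1_c10 LD2_c49 LD3_c26)) :=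
  Lre_g IH (LK LD1_c5 LD2_c29 LD3_c6) (LK LD1_c10 LD2_c49 LD3_c26) Lrfl Lrfl
theorem f392434 : Led Lsl_df (LP (LK LD1_c16 LD2_c48 LD3_c46)) = (LP (LK LD1_c10 LD2_c49 LD3_c26)) :=
  Lgr Lrot84 (Lpe (f173508 IH) (Lpr_df (f383109 IH) (Lpr_gf (f382778 IH) (Lpe (f255939 IH) (Lpe (K27.f381111 IH) (Lpr_cf (K17.f290335 IH) (Lpr_gt (f392429 IH) (Lpr_dt (f382495 IH) (Lpr_gt (f392433 IH) (Lpn (LP (LK LD1_c10 LD2_c49 LD3_c26))))))))))))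
theorem f392444 : Led Lsl_dt (LP (LK LD1_c16 LD2_c48 LD3_c46)) = (LP (LK LD1_c10 LD2_c49 LD3_c26)) :=
  Lgr Lrot42 (Lpr_df (f392434 IH) (Lpn (LP (LK LD1_c10 LD2_c49 LD3_c26))))
theorem f178758 : Led Lsl_bt (LP (LK LD1_c4 LD2_c10 LD3_c16)) = (LP (LK LD1_c8 LD2_c20 LD3_c43)) :=
  Lre_b IH (LK LD1_c4 LD2_c10 LD3_c16) (LK LD1_c8 LD2_c20 LD3_c43) Lrfl Lrfl
theorem f178762 : Led Lsl_ct (LP (LK LD1_c8 LD2_c20 LD3_c43)) = (LP (LK LD1_c8 LD2_c25 LD3_c15)) :=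
  Lgr Lrot83 (Lpe (f178758 IH) (Lpr_cf (K15.f178509 IH) (Lpe (K19.f178759 IH) (Lpe (K16.f178760 IH) (Lpe (K27.f178761 IH) (Lpn (LP (LK LD1_c8 LD2_c25 LD3_c15))))))))
theorem f392456 : Led Lsl_cf (LP (LK LD1_c16 LD2_c37 LD3_c25)) = (LP (LK LD1_c10 LD2_c49 LD3_c26)) :=
  Lgr Lrot55 (Lpe (K30.f383023 IH) (Lpr_ct (K30.f383031 IH) (Lpr_dt (K27.f178811 IH) (Lpr_ct (f178762 IH) (Lpe (K30.f255945 IH) (Lpr_ct (K30.f384273 IH) (Lpe (K30.f384260 IH) (Lpe (f384292 IH) (Lpr_dt (K30.f341368 IH) (Lpr_ct (K27.f290371 IH) (Lpr_dt (K30.f383000 IH) (Lpe (K27.f179680 IH) (Lpe (f383109 IH) (Lpr_ct (f173508 IH) (Lpr_dt (f392444 IH) (Lpn (LP (LK LD1_c10 LD2_c49 LD3_c26))))))))))))))))))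
theorem f172960 : Led Lsl_ct (LP (LK LD1_c10 LD2_c48 LD3_c24)) = (LP (LK LD1_c10 LD2_c49 LD3_c16)) :=
  Lre_c IH (LK LD1_c10 LD2_c48 LD3_c24) (LK LD1_c10 LD2_c49 LD3_c16) Lrfl Lrfl
theorem f392447 : Led Lsl_bt (LP (LK LD1_c2 LD2_c40 LD3_c48)) = (LP (LK LD1_c5 LD2_c29 LD3_c6)) :=
  Lre_b IH (LK LD1_c2 LD2_c40 LD3_c48) (LK LD1_c5 LD2_c29 LD3_c6) Lrfl Lrfl
theorem f349410 : Led Lsl_ct (LP (LK LD1_c2 LD2_c40 LD3_c48)) = (LP (LK LD1_c5 LD2_c29 LD3_c7)) :=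
  Lre_c IH (LK LD1_c2 LD2_c40 LD3_c48) (LK LD1_c5 LD2_c29 LD3_c7) Lrfl Lrfl
theorem f392462 : Led Lsl_gt (LP (LK LD1_c10 LD2_c49 LD3_c16)) = (LP (LK LD1_c5 LD2_c29 LD3_c7)) :=
  Lgr Lrot65 (Lpe (f172960 IH) (Lpr_bt (K30.f172956 IH) (Lpe (K30.f277196 IH) (Lpe (K17.f289131 IH) (Lpr_ct (K30.f279097 IH) (Lpe (K30.f341263 IH) (Lpr_cf (f392456 IH) (Lpe (f392433 IH) (Lpe (f392447 IH) (Lpr_ct (f349410 IH) (Lpn (LP (LK LD1_c5 LD2_c29 LD3_c7)))))))))))))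
theorem f354453 : Led Lsl_dt (LP (LK LD1_c2 LD2_c12 LD3_c44)) = (LP (LK LD1_c4 LD2_c30 LD3_c37)) :=
  Lgr Lrot42 (Lpr_df (K30.f354450 IH) (Lpn (LP (LK LD1_c4 LD2_c30 LD3_c37))))
theorem f384718 : Led Lsl_dt (LP (LK LD1_c17 LD2_c56 LD3_c29)) = (LP (LK LD1_c16 LD2_c43 LD3_c36)) :=
  Lgr Lrot6 (Lpr_gt (K30.f384714 IH) (Lpr_ct (K30.f173417 IH) (Lpr_gt (K30.f173416 IH) (Lpr_ct (K30.f173468 IH) (Lpe (f354453 IH) (Lpe (K19.f235845 IH) (Lpe (K30.f235855 IH) (Lpe (K30.f276227 IH) (Lpe (K30.f225913 IH) (Lpn (LP (LK LD1_c16 LD2_c43 LD3_c36))))))))))))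
theorem f392440 : Led Lsl_bt (LP (LK LD1_c16 LD2_c43 LD3_c36)) = (LP (LK LD1_c10 LD2_c49 LD3_c26)) :=
  Lgr Lrot95 (Lpe (f384718 IH) (Lpr_bf (K30.f384706 IH) (Lpr_df (f392434 IH) (Lpn (LP (LK LD1_c10 LD2_c49 LD3_c26))))))
theorem f178065 : Led Lsl_ct (LP (LK LD1_c2 LD2_c44 LD3_c14)) = (LP (LK LD1_c5 LD2_c36 LD3_c46)) :=
  Lre_c IH (LK LD1_c2 LD2_c44 LD3_c14) (LK LD1_c5 LD2_c36 LD3_c46) Lrfl Lrfl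
theorem f392469 : Led Lsl_gf (LP (LK LD1_c10 LD2_c48 LD3_c24)) = (LP (LK LD1_c5 LD2_c36 LD3_c45)) :=
  Lgr Lrot181 (Lpr_ct (f172960 IH) (Lpr_gt (f392462 IH) (Lpe (f349410 IH) (Lpr_bt (f392447 IH) (Lpr_gt (f392433 IH) (Lpe (f392440 IH) (Lpe (K30.f384963 IH) (Lpr_gt (K30.f226500 IH) (Lpe (f178065 IH) (Lpr_bt (K30.f226420 IH) (Lpn (LP (LK LD1_c5 LD2_c36 LD3_c45)))))))))))))
theorem f172949 : Led Lsl_dt (LP (LK LD1_c10 LD2_c48 LD3_c24)) = (LP (LK LD1_c5 LD2_c34 LD3_c25)) :=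
  Lgr Lrot27 (Lpe (K30.f172948 IH) (Lpe (K30.f172947 IH) (Lpe (K30.f172946 IH) (Lpe (K22.f172945 IH) (Lpe (K30.f172915 IH) (Lpr_gt (K30.f172412 IH) (Lpr_ct (K30.f172865 IH) (Lpr_gt (K30.f172870 IH) (Lpr_ct (K30.f172941 IH) (Lpn (LP (LK LD1_c5 LD2_c34 LD3_c25))))))))))))
theorem f399414 : Led Lsl_gf (LP (LK LD1_c11 LD2_c0 LD3_c25)) = (LP (LK LD1_c5 LD2_c34 LD3_c25)) :=
  Lgr Lrot143 (Lpr_dt (f281718 IH) (Lpr_cf (f281716 IH) (Lpr_df (f399410 IH) (Lpe (f226433 IH) (Lpe (f226432 IH) (Lpe (K30.f226412 IH) (Lpe (K30.f226413 IH) (Lpe (f392469 IH) (Lpr_dt (f172949 IH) (Lpn (LP (LK LD1_c5 LD2_c34 LD3_c25))))))))))))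
theorem f384362 : Led Lsl_bt (LP (LK LD1_c5 LD2_c33 LD3_c39)) = (LP (LK LD1_c10 LD2_c59 LD3_c15)) :=
  Lre_b IH (LK LD1_c5 LD2_c33 LD3_c39) (LK LD1_c10 LD2_c59 LD3_c15) Lrfl Lrfl
theorem f384363 : Led Lsl_ct (LP (LK LD1_c5 LD2_c33 LD3_c39)) = (LP (LK LD1_c10 LD2_c59 LD3_c16)) :=
  Lre_c IH (LK LD1_c5 LD2_c33 LD3_c39) (LK LD1_c10 LD2_c59 LD3_c16) Lrfl Lrfl
theorem f180408 : Led Lsl_ct (LP (LK LD1_c8 LD2_c58 LD3_c23)) = (LP (LK LD1_c4 LD2_c30 LD3_c7)) :=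
  Lre_c IH (LK LD1_c8 LD2_c58 LD3_c23) (LK LD1_c4 LD2_c30 LD3_c7) Lrfl Lrfl
theorem f332426 : Led Lsl_dt (LP (LK LD1_c17 LD2_c53 LD3_c30)) = (LP (LK LD1_c9 LD2_c44 LD3_c14)) :=
  Lre_d IH (LK LD1_c17 LD2_c53 LD3_c30) (LK LD1_c9 LD2_c44 LD3_c14) Lrfl Lrfl
theorem f387739 : Led Lsl_gf (LP (LK LD1_c10 LD2_c49 LD3_c14)) = (LP (LK LD1_c17 LD2_c53 LD3_c30)) :=
  Lgr Lrot147 (Lpr_ct (f387735 IH) (Lpr_gt (f180407 IH) (Lpr_ct (f180408 IH) (Lpe (f168817 IH) (Lpe (K20.f196405 IH) (Lpe (K30.f319645 IH) (Lpr_cf (K30.f319646 IH) (Lpr_gf (f332466 IH) (Lpe (f332426 IH) (Lpn (LP (LK LD1_c17 LD2_c53 LD3_c30))))))))))))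
theorem f387789 : Led Lsl_gt (LP (LK LD1_c10 LD2_c49 LD3_c14)) = (LP (LK LD1_c17 LD2_c53 LD3_c17)) :=
  Lgr Lrot46 (Lpr_gf (f387739 IH) (Lpe (K30.f332429 IH) (Lpr_at (f332408 IH) (Lpn (LP (LK LD1_c17 LD2_c53 LD3_c17))))))
theorem f179330 : Led Lsl_dt (LP (LK LD1_c10 LD2_c49 LD3_c14)) = (LP (LK LD1_c5 LD2_c29 LD3_c2)) :=
  Lre_d IH (LK LD1_c10 LD2_c49 LD3_c14) (LK LD1_c5 LD2_c29 LD3_c2) Lrfl Lrfl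
theorem f386507 : Led Lsl_gt (LP (LK LD1_c5 LD2_c29 LD3_c2)) = (LP (LK LD1_c10 LD2_c49 LD3_c0)) :=
  Lgr Lrot82 (Lpe (K22.f179322 IH) (Lpr_ct (K30.f172946 IH) (Lpe (f179389 IH) (Lpr_cf (f386454 IH) (Lpe (f319284 IH) (Lpe (f319218 IH) (Lpe (K30.f319217 IH) (Lpr_ct (f319216 IH) (Lpr_gf (K30.f319146 IH) (Lpe (K30.f174003 IH) (Lpn (LP (LK LD1_c10 LD2_c49 LD3_c0)))))))))))))
theorem f380480 : Led Lsl_ct (LP (LK LD1_c10 LD2_c59 LD3_c16)) = (LP (LK LD1_c5 LD2_c33 LD3_c39)) :=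
  Lre_c IH (LK LD1_c10 LD2_c59 LD3_c16) (LK LD1_c5 LD2_c33 LD3_c39) Lrfl Lrfl
theorem f387791 : Led Lsl_gf (LP (LK LD1_c10 LD2_c59 LD3_c16)) = (LP (LK LD1_c19 LD2_c49 LD3_c53)) :=
  Lgr Lrot104 (Lpr_ct (f380480 IH) (Lpr_df (K30.f384357 IH) (Lpe (K30.f319145 IH) (Lpr_gf (K30.f319146 IH) (Lpe (K30.f174003 IH) (Lpe (f386507 IH) (Lpe (f179330 IH) (Lpr_gt (f387789 IH) (Lpe (K22.f332508 IH) (Lpn (LP (LK LD1_c19 LD2_c49 LD3_c53))))))))))))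
theorem f387737 : Led Lsl_bt (LP (LK LD1_c5 LD2_c29 LD3_c4)) = (LP (LK LD1_c10 LD2_c49 LD3_c14)) :=
  Lre_b IH (LK LD1_c5 LD2_c29 LD3_c4) (LK LD1_c10 LD2_c49 LD3_c14) Lrfl Lrfl
theorem f312045 : Led Lsl_ct (LP (LK LD1_c5 LD2_c29 LD3_c4)) = (LP (LK LD1_c10 LD2_c49 LD3_c21)) :=
  Lre_c IH (LK LD1_c5 LD2_c29 LD3_c4) (LK LD1_c10 LD2_c49 LD3_c21) Lrfl Lrfl
theorem f386504 : Led Lsl_gt (LP (LK LD1_c19 LD2_c33 LD3_c41)) = (LP (LK LD1_c10 LD2_c49 LD3_c21)) :=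
  Lre_g IH (LK LD1_c19 LD2_c33 LD3_c41) (LK LD1_c10 LD2_c49 LD3_c21) Lrfl Lrfl
theorem f390731 : Led Lsl_bt (LP (LK LD1_c11 LD2_c0 LD3_c27)) = (LP (LK LD1_c19 LD2_c49 LD3_c18)) :=
  Lgr Lrot127 (Lpr_bf (f390725 IH) (Lpn (LP (LK LD1_c19 LD2_c49 LD3_c18))))
theorem f392162 : Led Lsl_cf (LP (LK LD1_c19 LD2_c33 LD3_c41)) = (LP (LK LD1_c11 LD2_c0 LD3_c27)) :=
  Lgr Lrot160 (Lpr_gt (f386504 IH) (Lpe (f312045 IH) (Lpr_bt (f387737 IH) (Lpr_gt (f387789 IH) (Lpe (K22.f332508 IH) (Lpe (f387791 IH) (Lpe (f384363 IH) (Lpr_bt (f384362 IH) (Lpr_gt (f392155 IH) (Lpe (f390731 IH) (Lpn (LP (LK LD1_c11 LD2_c0 LD3_c27)))))))))))))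
theorem f386503 : Led Lsl_ct (LP (LK LD1_c10 LD2_c49 LD3_c21)) = (LP (LK LD1_c5 LD2_c29 LD3_c4)) :=
  Lre_c IH (LK LD1_c10 LD2_c49 LD3_c21) (LK LD1_c5 LD2_c29 LD3_c4) Lrfl Lrfl
theorem f245271 : Led Lsl_dt (LP (LK LD1_c2 LD2_c40 LD3_c47)) = (LP (LK LD1_c5 LD2_c29 LD3_c4)) :=
  Lre_d IH (LK LD1_c2 LD2_c40 LD3_c47) (LK LD1_c5 LD2_c29 LD3_c4) Lrfl Lrfl
theorem f386441 : Led Lsl_bt (LP (LK LD1_c10 LD2_c49 LD3_c17)) = (LP (LK LD1_c15 LD2_c37 LD3_c35)) :=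
  Lgr Lrot127 (Lpr_bf (f386439 IH) (Lpn (LP (LK LD1_c15 LD2_c37 LD3_c35))))
theorem f177931 : Led Lsl_gt (LP (LK LD1_c4 LD2_c29 LD3_c9)) = (LP (LK LD1_c8 LD2_c56 LD3_c33)) :=
  Lre_g IH (LK LD1_c4 LD2_c29 LD3_c9) (LK LD1_c8 LD2_c56 LD3_c33) Lrfl Lrfl
theorem f236262 : Led Lsl_ct (LP (LK LD1_c8 LD2_c56 LD3_c33)) = (LP (LK LD1_c16 LD2_c44 LD3_c27)) :=
  Lre_c IH (LK LD1_c8 LD2_c56 LD3_c33) (LK LD1_c16 LD2_c44 LD3_c27) Lrfl Lrfl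
theorem f386457 : Led Lsl_gt (LP (LK LD1_c16 LD2_c44 LD3_c27)) = (LP (LK LD1_c11 LD2_c5 LD3_c35)) :=
  Lgr Lrot149 (Lpe (f236262 IH) (Lpe (f177931 IH) (Lpe (K30.f218084 IH) (Lpr_ct (K14.f187232 IH) (Lpr_gf (K13.f236254 IH) (Lpe (K18.f236258 IH) (Lpr_bt (K21.f236263 IH) (Lpe (f236264 IH) (Lpe (f386441 IH) (Lpr_ct (f386443 IH) (Lpn (LP (LK LD1_c11 LD2_c5 LD3_c35)))))))))))))
theorem f390836 : Led Lsl_ft (LP (LK LD1_c10 LD2_c59 LD3_c30)) = (LP (LK LD1_c5 LD2_c34 LD3_c11)) :=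
  Lre_f IH (LK LD1_c10 LD2_c59 LD3_c30) (LK LD1_c5 LD2_c34 LD3_c11) Lrfl Lrfl
theorem f390733 : Led Lsl_at (LP (LK LD1_c5 LD2_c34 LD3_c11)) = (LP (LK LD1_c11 LD2_c0 LD3_c27)) :=
  Lre_a IH (LK LD1_c5 LD2_c34 LD3_c11) (LK LD1_c11 LD2_c0 LD3_c27) Lrfl Lrfl
theorem f390837 : Led Lsl_gf (LP (LK LD1_c11 LD2_c0 LD3_c27)) = (LP (LK LD1_c19 LD2_c43 LD3_c32)) :=
  Lgr Lrot76 (Lpe (f390733 IH) (Lpe (f390836 IH) (Lpr_gt (f390834 IH) (Lpn (LP (LK LD1_c19 LD2_c43 LD3_c32))))))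
theorem f392172 : Led Lsl_df (LP (LK LD1_c16 LD2_c44 LD3_c27)) = (LP (LK LD1_c19 LD2_c43 LD3_c32)) :=
  Lgr Lrot155 (Lpr_gt (f386457 IH) (Lpe (f386454 IH) (Lpr_gt (f179389 IH) (Lpr_ct (K22.f179323 IH) (Lpr_dt (f245271 IH) (Lpe (f386503 IH) (Lpe (f386504 IH) (Lpr_cf (f392162 IH) (Lpr_gf (f390837 IH) (Lpn (LP (LK LD1_c19 LD2_c43 LD3_c32))))))))))))
theorem f225828 : Led Lsl_gt (LP (LK LD1_c4 LD2_c29 LD3_c16)) = (LP (LK LD1_c2 LD2_c11 LD3_c43)) :=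
  Lre_g IH (LK LD1_c4 LD2_c29 LD3_c16) (LK LD1_c2 LD2_c11 LD3_c43) Lrfl Lrfl
theorem f280888 : Led Lsl_ct (LP (LK LD1_c10 LD2_c55 LD3_c9)) = (LP (LK LD1_c19 LD2_c43 LD3_c32)) :=
  Lre_c IH (LK LD1_c10 LD2_c55 LD3_c9) (LK LD1_c19 LD2_c43 LD3_c32) Lrfl Lrfl
theorem f221290 : Led Lsl_gt (LP (LK LD1_c5 LD2_c31 LD3_c41)) = (LP (LK LD1_c2 LD2_c42 LD3_c1)) :=
  Lre_g IH (LK LD1_c5 LD2_c31 LD3_c41) (LK LD1_c2 LD2_c42 LD3_c1) Lrfl Lrfl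
theorem f392177 : Led Lsl_dt (LP (LK LD1_c4 LD2_c29 LD3_c16)) = (LP (LK LD1_c5 LD2_c31 LD3_c41)) :=
  Lgr Lrot6 (Lpr_gt (f225828 IH) (Lpr_ct (K30.f177930 IH) (Lpr_gt (f177931 IH) (Lpr_ct (f236262 IH) (Lpr_df (f392172 IH) (Lpe (f280888 IH) (Lpe (f280886 IH) (Lpe (f226407 IH) (Lpe (f221290 IH) (Lpn (LP (LK LD1_c5 LD2_c31 LD3_c41))))))))))))
theorem f392183 : Led Lsl_df (LP (LK LD1_c4 LD2_c29 LD3_c16)) = (LP (LK LD1_c5 LD2_c31 LD3_c41)) :=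
  Lgr Lrot38 (Lpr_dt (f392177 IH) (Lpn (LP (LK LD1_c5 LD2_c31 LD3_c41))))
theorem f280746 : Led Lsl_at (LP (LK LD1_c5 LD2_c31 LD3_c38)) = (LP (LK LD1_c2 LD2_c42 LD3_c1)) :=
  Lre_a IH (LK LD1_c5 LD2_c31 LD3_c38) (LK LD1_c2 LD2_c42 LD3_c1) Lrfl Lrfl
theorem f280747 : Led Lsl_ff (LP (LK LD1_c5 LD2_c31 LD3_c38)) = (LP (LK LD1_c8 LD2_c58 LD3_c4)) :=
  Lgr Lrot103 (Lpr_at (f280746 IH) (Lpe (K20.f178895 IH) (Lpe (K20.f178896 IH) (Lpe (K20.f280730 IH) (Lpr_df (K20.f280732 IH) (Lpe (K20.f280731 IH) (Lpe (K20.f280706 IH) (Lpe (K20.f280667 IH) (Lpe (K20.f280649 IH) (Lpn (LP (LK LD1_c8 LD2_c58 LD3_c4))))))))))))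
theorem f281610 : Led Lsl_gf (LP (LK LD1_c5 LD2_c31 LD3_c41)) = (LP (LK LD1_c8 LD2_c58 LD3_c4)) :=
  Lgr Lrot47 (Lpr_gt (f221290 IH) (Lpe (f280746 IH) (Lpr_ff (f280747 IH) (Lpn (LP (LK LD1_c8 LD2_c58 LD3_c4))))))
theorem f281236 : Led Lsl_dt (LP (LK LD1_c10 LD2_c55 LD3_c10)) = (LP (LK LD1_c19 LD2_c43 LD3_c36)) :=
  Lre_d IH (LK LD1_c10 LD2_c55 LD3_c10) (LK LD1_c19 LD2_c43 LD3_c36) Lrfl Lrfl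
theorem f392209 : Led Lsl_gf (LP (LK LD1_c16 LD2_c45 LD3_c10)) = (LP (LK LD1_c19 LD2_c43 LD3_c36)) :=
  Lgr Lrot143 (Lpr_dt (K30.f245322 IH) (Lpe (K30.f174635 IH) (Lpe (K30.f226436 IH) (Lpe (f225828 IH) (Lpr_df (f392183 IH) (Lpr_gf (f281610 IH) (Lpe (f280467 IH) (Lpe (f281229 IH) (Lpr_dt (f281236 IH) (Lpn (LP (LK LD1_c19 LD2_c43 LD3_c36))))))))))))
theorem f245355 : Led Lsl_at (LP (LK LD1_c26 LD2_c43 LD3_c59)) = (LP (LK LD1_c16 LD2_c45 LD3_c10)) :=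
  Lre_a IH (LK LD1_c26 LD2_c43 LD3_c59) (LK LD1_c16 LD2_c45 LD3_c10) Lrfl Lrfl
theorem f245335 : Led Lsl_at (LP (LK LD1_c19 LD2_c34 LD3_c15)) = (LP (LK LD1_c10 LD2_c49 LD3_c48)) :=
  Lre_a IH (LK LD1_c19 LD2_c34 LD3_c15) (LK LD1_c10 LD2_c49 LD3_c48) Lrfl Lrfl
theorem f245337 : Led Lsl_ff (LP (LK LD1_c19 LD2_c34 LD3_c15)) = (LP (LK LD1_c26 LD2_c43 LD3_c59)) :=
  Lgr Lrot30 (Lpr_at (f245335 IH) (Lpr_ft (K30.f245323 IH) (Lpr_at (K30.f245336 IH) (Lpn (LP (LK LD1_c26 LD2_c43 LD3_c59))))))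
theorem f245306 : Led Lsl_dt (LP (LK LD1_c10 LD2_c49 LD3_c39)) = (LP (LK LD1_c19 LD2_c34 LD3_c15)) :=
  Lre_d IH (LK LD1_c10 LD2_c49 LD3_c39) (LK LD1_c19 LD2_c34 LD3_c15) Lrfl Lrfl
theorem f226404 : Led Lsl_dt (LP (LK LD1_c8 LD2_c56 LD3_c36)) = (LP (LK LD1_c4 LD2_c29 LD3_c9)) :=
  Lre_d IH (LK LD1_c8 LD2_c56 LD3_c36) (LK LD1_c4 LD2_c29 LD3_c9) Lrfl Lrfl
theorem f245308 : Led Lsl_dt (LP (LK LD1_c26 LD2_c43 LD3_c34)) = (LP (LK LD1_c16 LD2_c44 LD3_c35)) :=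
  Lre_d IH (LK LD1_c26 LD2_c43 LD3_c34) (LK LD1_c16 LD2_c44 LD3_c35) Lrfl Lrfl
theorem f245309 : Led Lsl_ct (LP (LK LD1_c19 LD2_c34 LD3_c15)) = (LP (LK LD1_c26 LD2_c43 LD3_c34)) :=
  Lgr Lrot176 (Lpe (f245306 IH) (Lpe (K30.f245305 IH) (Lpe (K30.f245304 IH) (Lpe (K30.f244978 IH) (Lpe (K30.f245296 IH) (Lpe (K30.f245297 IH) (Lpr_df (K30.f245300 IH) (Lpe (K30.f245299 IH) (Lpe (K30.f245298 IH) (Lpe (K30.f174635 IH) (Lpe (K30.f226436 IH) (Lpe (K30.f226403 IH) (Lpe (f226404 IH) (Lpe (f245307 IH) (Lpe (f245308 IH) (Lpn (LP (LK LD1_c26 LD2_c43 LD3_c34))))))))))))))))))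
theorem f245363 : Led Lsl_ff (LP (LK LD1_c19 LD2_c30 LD3_c51)) = (LP (LK LD1_c26 LD2_c43 LD3_c34)) :=
  Lgr Lrot23 (Lpr_ct (K30.f245353 IH) (Lpe (f245337 IH) (Lpr_ct (f245309 IH) (Lpn (LP (LK LD1_c26 LD2_c43 LD3_c34))))))
theorem f245302 : Led Lsl_at (LP (LK LD1_c19 LD2_c30 LD3_c51)) = (LP (LK LD1_c26 LD2_c44 LD3_c6)) :=
  Lgr Lrot51 (Lpe (K30.f244930 IH) (Lpe (K30.f244945 IH) (Lpr_df (K30.f245300 IH) (Lpn (LP (LK LD1_c26 LD2_c44 LD3_c6))))))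
theorem f245339 : Led Lsl_ct (LP (LK LD1_c19 LD2_c34 LD3_c31)) = (LP (LK LD1_c10 LD2_c49 LD3_c48)) :=
  Lre_c IH (LK LD1_c19 LD2_c34 LD3_c31) (LK LD1_c10 LD2_c49 LD3_c48) Lrfl Lrfl
theorem f245340 : Led Lsl_ff (LP (LK LD1_c19 LD2_c34 LD3_c31)) = (LP (LK LD1_c26 LD2_c44 LD3_c6)) :=
  Lgr Lrot23 (Lpr_ct (f245339 IH) (Lpr_ft (K30.f245323 IH) (Lpr_ct (K30.f245299 IH) (Lpn (LP (LK LD1_c26 LD2_c44 LD3_c6))))))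
theorem f245427 : Led Lsl_at (LP (LK LD1_c19 LD2_c34 LD3_c31)) = (LP (LK LD1_c26 LD2_c43 LD3_c34)) :=
  Lgr Lrot66 (Lpr_ff (f245340 IH) (Lpe (f245302 IH) (Lpr_ff (f245363 IH) (Lpn (LP (LK LD1_c26 LD2_c43 LD3_c34))))))
theorem f245430 : Led Lsl_cf (LP (LK LD1_c19 LD2_c34 LD3_c15)) = (LP (LK LD1_c26 LD2_c43 LD3_c34)) :=
  Lgr Lrot1 (Lpr_at (f245335 IH) (Lpr_ct (K13.f245228 IH) (Lpr_at (f245427 IH) (Lpn (LP (LK LD1_c26 LD2_c43 LD3_c34))))))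
theorem f245379 : Led Lsl_ft (LP (LK LD1_c19 LD2_c30 LD3_c44)) = (LP (LK LD1_c26 LD2_c43 LD3_c27)) :=
  Lgr Lrot48 (Lpr_ff (K30.f245370 IH) (Lpn (LP (LK LD1_c26 LD2_c43 LD3_c27))))
theorem f245243 : Led Lsl_df (LP (LK LD1_c19 LD2_c34 LD3_c31)) = (LP (LK LD1_c26 LD2_c43 LD3_c27)) :=
  Lgr Lrot38 (Lpr_dt (K13.f245230 IH) (Lpn (LP (LK LD1_c26 LD2_c43 LD3_c27))))
theorem f245383 : Led Lsl_ff (LP (LK LD1_c26 LD2_c44 LD3_c6)) = (LP (LK LD1_c19 LD2_c34 LD3_c31)) :=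
  Lgr Lrot19 (Lpe (K30.f245300 IH) (Lpr_ft (f245379 IH) (Lpe (f245243 IH) (Lpn (LP (LK LD1_c19 LD2_c34 LD3_c31))))))
theorem f245356 : Led Lsl_af (LP (LK LD1_c19 LD2_c30 LD3_c51)) = (LP (LK LD1_c26 LD2_c44 LD3_c6)) :=
  Lgr Lrot68 (Lpr_ct (K30.f245353 IH) (Lpr_at (f245355 IH) (Lpr_ct (K30.f245299 IH) (Lpn (LP (LK LD1_c26 LD2_c44 LD3_c6))))))
theorem f245232 : Led Lsl_at (LP (LK LD1_c26 LD2_c43 LD3_c27)) = (LP (LK LD1_c16 LD2_c44 LD3_c35)) :=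
  Lre_a IH (LK LD1_c26 LD2_c43 LD3_c27) (LK LD1_c16 LD2_c44 LD3_c35) Lrfl Lrfl
theorem f245233 : Led Lsl_dt (LP (LK LD1_c16 LD2_c44 LD3_c35)) = (LP (LK LD1_c26 LD2_c43 LD3_c34)) :=
  Lre_d IH (LK LD1_c16 LD2_c44 LD3_c35) (LK LD1_c26 LD2_c43 LD3_c34) Lrfl Lrfl
theorem f245234 : Led Lsl_af (LP (LK LD1_c19 LD2_c34 LD3_c31)) = (LP (LK LD1_c26 LD2_c43 LD3_c34)) :=
  Lgr Lrot117 (Lpr_dt (K13.f245230 IH) (Lpr_at (f245232 IH) (Lpr_dt (f245233 IH) (Lpn (LP (LK LD1_c26 LD2_c43 LD3_c34))))))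
theorem f245390 : Led Lsl_ft (LP (LK LD1_c19 LD2_c30 LD3_c51)) = (LP (LK LD1_c26 LD2_c43 LD3_c34)) :=
  Lgr Lrot101 (Lpr_af (f245356 IH) (Lpr_ff (f245383 IH) (Lpr_af (f245234 IH) (Lpn (LP (LK LD1_c26 LD2_c43 LD3_c34))))))
theorem f244679 : Led Lsl_dt (LP (LK LD1_c19 LD2_c30 LD3_c51)) = (LP (LK LD1_c10 LD2_c47 LD3_c11)) :=
  Lre_d IH (LK LD1_c19 LD2_c30 LD3_c51) (LK LD1_c10 LD2_c47 LD3_c11) Lrfl Lrfl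
theorem f245238 : Led Lsl_dt (LP (LK LD1_c4 LD2_c29 LD3_c17)) = (LP (LK LD1_c8 LD2_c56 LD3_c49)) :=
  Lre_d IH (LK LD1_c4 LD2_c29 LD3_c17) (LK LD1_c8 LD2_c56 LD3_c49) Lrfl Lrfl
theorem f245239 : Led Lsl_ct (LP (LK LD1_c8 LD2_c56 LD3_c49)) = (LP (LK LD1_c16 LD2_c45 LD3_c0)) :=
  Lre_c IH (LK LD1_c8 LD2_c56 LD3_c49) (LK LD1_c16 LD2_c45 LD3_c0) Lrfl Lrfl
theorem f245240 : Led Lsl_dt (LP (LK LD1_c16 LD2_c45 LD3_c0)) = (LP (LK LD1_c26 LD2_c43 LD3_c59)) :=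
  Lre_d IH (LK LD1_c16 LD2_c45 LD3_c0) (LK LD1_c26 LD2_c43 LD3_c59) Lrfl Lrfl
theorem f245241 : Led Lsl_cf (LP (LK LD1_c19 LD2_c30 LD3_c51)) = (LP (LK LD1_c26 LD2_c43 LD3_c59)) :=
  Lgr Lrot55 (Lpr_dt (f244679 IH) (Lpr_ct (f244678 IH) (Lpr_dt (K13.f245226 IH) (Lpr_ct (K13.f245148 IH) (Lpr_dt (K13.f172951 IH) (Lpr_ct (K13.f168544 IH) (Lpr_dt (K13.f245227 IH) (Lpr_ct (K13.f245228 IH) (Lpr_dt (K13.f245230 IH) (Lpr_ct (K13.f245229 IH) (Lpr_dt (K13.f245236 IH) (Lpr_ct (K13.f245237 IH) (Lpr_dt (f245238 IH) (Lpr_ct (f245239 IH) (Lpr_dt (f245240 IH) (Lpn (LP (LK LD1_c26 LD2_c43 LD3_c59))))))))))))))))))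
theorem f245432 : Led Lsl_ft (LP (LK LD1_c19 LD2_c34 LD3_c15)) = (LP (LK LD1_c26 LD2_c43 LD3_c59)) :=
  Lgr Lrot4 (Lpr_cf (f245430 IH) (Lpe (f245390 IH) (Lpr_cf (f245241 IH) (Lpn (LP (LK LD1_c26 LD2_c43 LD3_c59))))))
theorem f392211 : Led Lsl_gt (LP (LK LD1_c19 LD2_c34 LD3_c15)) = (LP (LK LD1_c19 LD2_c43 LD3_c36)) :=
  Lgr Lrot5 (Lpr_ft (f245432 IH) (Lpr_at (f245355 IH) (Lpr_gf (f392209 IH) (Lpn (LP (LK LD1_c19 LD2_c43 LD3_c36))))))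
theorem f280887 : Led Lsl_dt (LP (LK LD1_c10 LD2_c55 LD3_c9)) = (LP (LK LD1_c19 LD2_c43 LD3_c33)) :=
  Lre_d IH (LK LD1_c10 LD2_c55 LD3_c9) (LK LD1_c19 LD2_c43 LD3_c33) Lrfl Lrfl
theorem f245330 : Led Lsl_ct (LP (LK LD1_c10 LD2_c49 LD3_c39)) = (LP (LK LD1_c5 LD2_c29 LD3_c10)) :=
  Lre_c IH (LK LD1_c10 LD2_c49 LD3_c39) (LK LD1_c5 LD2_c29 LD3_c10) Lrfl Lrfl
theorem f245333 : Led Lsl_dt (LP (LK LD1_c19 LD2_c34 LD3_c15)) = (LP (LK LD1_c10 LD2_c49 LD3_c39)) :=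
  Lre_d IH (LK LD1_c19 LD2_c34 LD3_c15) (LK LD1_c10 LD2_c49 LD3_c39) Lrfl Lrfl
theorem f388241 : Led Lsl_gt (LP (LK LD1_c19 LD2_c43 LD3_c33)) = (LP (LK LD1_c19 LD2_c34 LD3_c15)) :=
  Lgr Lrot49 (Lpe (f280887 IH) (Lpe (f280886 IH) (Lpe (f226407 IH) (Lpr_gt (K14.f224535 IH) (Lpr_dt (K30.f388230 IH) (Lpe (K30.f245294 IH) (Lpr_dt (K30.f245304 IH) (Lpe (f245330 IH) (Lpe (f245333 IH) (Lpn (LP (LK LD1_c19 LD2_c34 LD3_c15))))))))))))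
theorem f245434 : Led Lsl_at (LP (LK LD1_c10 LD2_c49 LD3_c48)) = (LP (LK LD1_c19 LD2_c34 LD3_c15)) :=
  Lre_a IH (LK LD1_c10 LD2_c49 LD3_c48) (LK LD1_c19 LD2_c34 LD3_c15) Lrfl Lrfl
theorem f245348 : Led Lsl_ff (LP (LK LD1_c10 LD2_c49 LD3_c48)) = (LP (LK LD1_c16 LD2_c45 LD3_c10)) :=
  Lgr Lrot3 (Lpr_ft (K30.f245323 IH) (Lpn (LP (LK LD1_c16 LD2_c45 LD3_c10))))
theorem f388305 : Led Lsl_gf (LP (LK LD1_c19 LD2_c43 LD3_c33)) = (LP (LK LD1_c16 LD2_c45 LD3_c10)) :=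
  Lgr Lrot47 (Lpr_gt (f388241 IH) (Lpe (f245434 IH) (Lpr_ff (f245348 IH) (Lpn (LP (LK LD1_c16 LD2_c45 LD3_c10))))))
theorem f281585 : Led Lsl_dt (LP (LK LD1_c19 LD2_c43 LD3_c33)) = (LP (LK LD1_c10 LD2_c55 LD3_c9)) :=
  Lre_d IH (LK LD1_c19 LD2_c43 LD3_c33) (LK LD1_c10 LD2_c55 LD3_c9) Lrfl Lrfl
theorem f280814 : Led Lsl_dt (LP (LK LD1_c16 LD2_c47 LD3_c0)) = (LP (LK LD1_c26 LD2_c45 LD3_c31)) :=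
  Lre_d IH (LK LD1_c16 LD2_c47 LD3_c0) (LK LD1_c26 LD2_c45 LD3_c31) Lrfl Lrfl
theorem f224503 : Led Lsl_dt (LP (LK LD1_c5 LD2_c31 LD3_c9)) = (LP (LK LD1_c2 LD2_c41 LD3_c50)) :=
  Lre_d IH (LK LD1_c5 LD2_c31 LD3_c9) (LK LD1_c2 LD2_c41 LD3_c50) Lrfl Lrfl
theorem f224504 : Led Lsl_ct (LP (LK LD1_c10 LD2_c53 LD3_c52)) = (LP (LK LD1_c5 LD2_c31 LD3_c9)) :=
  Lre_c IH (LK LD1_c10 LD2_c53 LD3_c52) (LK LD1_c5 LD2_c31 LD3_c9) Lrfl Lrfl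
theorem f274966 : Led Lsl_dt (LP (LK LD1_c19 LD2_c41 LD3_c42)) = (LP (LK LD1_c10 LD2_c53 LD3_c52)) :=
  Lre_d IH (LK LD1_c19 LD2_c41 LD3_c42) (LK LD1_c10 LD2_c53 LD3_c52) Lrfl Lrfl
theorem f281231 : Led Lsl_cf (LP (LK LD1_c19 LD2_c41 LD3_c42)) = (LP (LK LD1_c26 LD2_c45 LD3_c31)) :=
  Lgr Lrot118 (Lpr_dt (f274966 IH) (Lpr_ct (f224504 IH) (Lpr_dt (f224503 IH) (Lpr_ct (K20.f220883 IH) (Lpr_dt (K30.f224534 IH) (Lpr_ct (f226407 IH) (Lpe (f281225 IH) (Lpr_ff (f281216 IH) (Lpr_dt (f280814 IH) (Lpn (LP (LK LD1_c26 LD2_c45 LD3_c31))))))))))))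
theorem f280737 : Led Lsl_dt (LP (LK LD1_c10 LD2_c53 LD3_c52)) = (LP (LK LD1_c19 LD2_c41 LD3_c42)) :=
  Lre_d IH (LK LD1_c10 LD2_c53 LD3_c52) (LK LD1_c19 LD2_c41 LD3_c42) Lrfl Lrfl
theorem f224505 : Led Lsl_gt (LP (LK LD1_c19 LD2_c41 LD3_c41)) = (LP (LK LD1_c10 LD2_c53 LD3_c52)) :=
  Lre_g IH (LK LD1_c19 LD2_c41 LD3_c41) (LK LD1_c10 LD2_c53 LD3_c52) Lrfl Lrfl
theorem f280764 : Led Lsl_dt (LP (LK LD1_c29 LD2_c1 LD3_c43)) = (LP (LK LD1_c19 LD2_c41 LD3_c41)) :=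
  Lre_d IH (LK LD1_c29 LD2_c1 LD3_c43) (LK LD1_c19 LD2_c41 LD3_c41) Lrfl Lrfl
theorem f245387 : Led Lsl_ct (LP (LK LD1_c26 LD2_c44 LD3_c6)) = (LP (LK LD1_c16 LD2_c45 LD3_c10)) :=
  Lre_c IH (LK LD1_c26 LD2_c44 LD3_c6) (LK LD1_c16 LD2_c45 LD3_c10) Lrfl Lrfl
theorem f388311 : Led Lsl_gf (LP (LK LD1_c29 LD2_c1 LD3_c43)) = (LP (LK LD1_c26 LD2_c44 LD3_c6)) :=
  Lgr Lrot144 (Lpr_dt (f280764 IH) (Lpr_gt (f224505 IH) (Lpr_dt (f280737 IH) (Lpr_cf (f281231 IH) (Lpe (f280814 IH) (Lpe (f281583 IH) (Lpe (f281585 IH) (Lpr_gf (f388305 IH) (Lpe (f245387 IH) (Lpn (LP (LK LD1_c26 LD2_c44 LD3_c6))))))))))))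
theorem f388313 : Led Lsl_gt (LP (LK LD1_c29 LD2_c1 LD3_c43)) = (LP (LK LD1_c26 LD2_c43 LD3_c34)) :=
  Lgr Lrot46 (Lpr_gf (f388311 IH) (Lpe (f245340 IH) (Lpr_at (f245427 IH) (Lpn (LP (LK LD1_c26 LD2_c43 LD3_c34))))))
theorem f225221 : Led Lsl_gt (LP (LK LD1_c5 LD2_c31 LD3_c9)) = (LP (LK LD1_c10 LD2_c53 LD3_c50)) :=
  Lre_g IH (LK LD1_c5 LD2_c31 LD3_c9) (LK LD1_c10 LD2_c53 LD3_c50) Lrfl Lrfl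
theorem f271650 : Led Lsl_ct (LP (LK LD1_c10 LD2_c53 LD3_c50)) = (LP (LK LD1_c19 LD2_c41 LD3_c35)) :=
  Lre_c IH (LK LD1_c10 LD2_c53 LD3_c50) (LK LD1_c19 LD2_c41 LD3_c35) Lrfl Lrfl
theorem f388318 : Led Lsl_dt (LP (LK LD1_c19 LD2_c41 LD3_c35)) = (LP (LK LD1_c29 LD2_c1 LD3_c27)) :=
  Lre_d IH (LK LD1_c19 LD2_c41 LD3_c35) (LK LD1_c29 LD2_c1 LD3_c27) Lrfl Lrfl
theorem f392221 : Led Lsl_cf (LP (LK LD1_c29 LD2_c1 LD3_c27)) = (LP (LK LD1_c19 LD2_c43 LD3_c36)) :=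
  Lgr Lrot99 (Lpe (f388318 IH) (Lpe (f271650 IH) (Lpe (f225221 IH) (Lpe (f224504 IH) (Lpe (f224505 IH) (Lpe (f280764 IH) (Lpr_gt (f388313 IH) (Lpe (f245430 IH) (Lpr_gt (f392211 IH) (Lpn (LP (LK LD1_c19 LD2_c43 LD3_c36))))))))))))
theorem f388319 : Led Lsl_dt (LP (LK LD1_c29 LD2_c1 LD3_c27)) = (LP (LK LD1_c19 LD2_c41 LD3_c35)) :=
  Lre_d IH (LK LD1_c29 LD2_c1 LD3_c27) (LK LD1_c19 LD2_c41 LD3_c35) Lrfl Lrfl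
theorem f392225 : Led Lsl_ct (LP (LK LD1_c19 LD2_c41 LD3_c35)) = (LP (LK LD1_c10 LD2_c53 LD3_c50)) :=
  Lre_c IH (LK LD1_c19 LD2_c41 LD3_c35) (LK LD1_c10 LD2_c53 LD3_c50) Lrfl Lrfl
theorem f177932 : Led Lsl_ct (LP (LK LD1_c16 LD2_c44 LD3_c27)) = (LP (LK LD1_c8 LD2_c56 LD3_c33)) :=
  Lre_c IH (LK LD1_c16 LD2_c44 LD3_c27) (LK LD1_c8 LD2_c56 LD3_c33) Lrfl Lrfl
theorem f387592 : Led Lsl_dt (LP (LK LD1_c5 LD2_c33 LD3_c46)) = (LP (LK LD1_c10 LD2_c59 LD3_c30)) :=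
  Lre_d IH (LK LD1_c5 LD2_c33 LD3_c46) (LK LD1_c10 LD2_c59 LD3_c30) Lrfl Lrfl
theorem f225219 : Led Lsl_ct (LP (LK LD1_c5 LD2_c31 LD3_c7)) = (LP (LK LD1_c8 LD2_c58 LD3_c35)) :=
  Lgr Lrot59 (Lpr_cf (K24.f225195 IH) (Lpn (LP (LK LD1_c8 LD2_c58 LD3_c35))))
theorem f392175 : Led Lsl_df (LP (LK LD1_c8 LD2_c56 LD3_c33)) = (LP (LK LD1_c10 LD2_c53 LD3_c50)) :=
  Lgr Lrot84 (Lpe (f177932 IH) (Lpr_df (f392172 IH) (Lpe (f390834 IH) (Lpe (f387592 IH) (Lpr_gf (f390734 IH) (Lpe (f225219 IH) (Lpr_gt (K24.f220907 IH) (Lpr_dt (K20.f224506 IH) (Lpr_gt (f225221 IH) (Lpn (LP (LK LD1_c10 LD2_c53 LD3_c50))))))))))))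
theorem f392170 : Led Lsl_dt (LP (LK LD1_c16 LD2_c44 LD3_c27)) = (LP (LK LD1_c19 LD2_c43 LD3_c32)) :=
  Lgr Lrot6 (Lpr_gt (f386457 IH) (Lpe (f386454 IH) (Lpr_gt (f179389 IH) (Lpr_ct (K22.f179323 IH) (Lpe (f245268 IH) (Lpe (f386503 IH) (Lpe (f386504 IH) (Lpr_cf (f392162 IH) (Lpr_gf (f390837 IH) (Lpn (LP (LK LD1_c19 LD2_c43 LD3_c32))))))))))))
theorem f280762 : Led Lsl_dt (LP (LK LD1_c19 LD2_c41 LD3_c41)) = (LP (LK LD1_c29 LD2_c1 LD3_c43)) :=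
  Lre_d IH (LK LD1_c19 LD2_c41 LD3_c41) (LK LD1_c29 LD2_c1 LD3_c43) Lrfl Lrfl
theorem f280760 : Led Lsl_gf (LP (LK LD1_c19 LD2_c41 LD3_c41)) = (LP (LK LD1_c26 LD2_c44 LD3_c61)) :=
  Lgr Lrot47 (Lpr_gt (f224505 IH) (Lpe (K20.f280749 IH) (Lpr_ff (K20.f280750 IH) (Lpn (LP (LK LD1_c26 LD2_c44 LD3_c61))))))
theorem f280705 : Led Lsl_dt (LP (LK LD1_c10 LD2_c53 LD3_c48)) = (LP (LK LD1_c5 LD2_c31 LD3_c8)) :=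
  Lre_d IH (LK LD1_c10 LD2_c53 LD3_c48) (LK LD1_c5 LD2_c31 LD3_c8) Lrfl Lrfl
theorem f280707 : Led Lsl_ff (LP (LK LD1_c10 LD2_c53 LD3_c48)) = (LP (LK LD1_c16 LD2_c46 LD3_c32)) :=
  Lgr Lrot19 (Lpr_dt (f280705 IH) (Lpr_ft (K20.f280698 IH) (Lpr_dt (K20.f280706 IH) (Lpn (LP (LK LD1_c16 LD2_c46 LD3_c32))))))
theorem f281233 : Led Lsl_at (LP (LK LD1_c10 LD2_c53 LD3_c48)) = (LP (LK LD1_c5 LD2_c31 LD3_c9)) :=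
  Lre_a IH (LK LD1_c10 LD2_c53 LD3_c48) (LK LD1_c5 LD2_c31 LD3_c9) Lrfl Lrfl
theorem f271652 : Led Lsl_gt (LP (LK LD1_c10 LD2_c53 LD3_c51)) = (LP (LK LD1_c5 LD2_c31 LD3_c9)) :=
  Lre_g IH (LK LD1_c10 LD2_c53 LD3_c51) (LK LD1_c5 LD2_c31 LD3_c9) Lrfl Lrfl
theorem f281699 : Led Lsl_gf (LP (LK LD1_c10 LD2_c53 LD3_c51)) = (LP (LK LD1_c16 LD2_c46 LD3_c32)) :=
  Lgr Lrot47 (Lpr_gt (f271652 IH) (Lpe (f281233 IH) (Lpr_ff (f280707 IH) (Lpn (LP (LK LD1_c16 LD2_c46 LD3_c32))))))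
theorem f388316 : Led Lsl_dt (LP (LK LD1_c10 LD2_c53 LD3_c51)) = (LP (LK LD1_c8 LD2_c56 LD3_c34)) :=
  Lgr Lrot57 (Lpr_gf (f281699 IH) (Lpe (K30.f280763 IH) (Lpe (f280760 IH) (Lpr_dt (f280762 IH) (Lpr_gt (f388313 IH) (Lpr_dt (f245308 IH) (Lpe (f226497 IH) (Lpe (f226432 IH) (Lpe (K30.f226412 IH) (Lpn (LP (LK LD1_c8 LD2_c56 LD3_c34))))))))))))
theorem f281235 : Led Lsl_ct (LP (LK LD1_c19 LD2_c41 LD3_c38)) = (LP (LK LD1_c10 LD2_c53 LD3_c51)) :=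
  Lre_c IH (LK LD1_c19 LD2_c41 LD3_c38) (LK LD1_c10 LD2_c53 LD3_c51) Lrfl Lrfl
theorem f281703 : Led Lsl_dt (LP (LK LD1_c29 LD2_c1 LD3_c34)) = (LP (LK LD1_c19 LD2_c41 LD3_c38)) :=
  Lre_d IH (LK LD1_c29 LD2_c1 LD3_c34) (LK LD1_c19 LD2_c41 LD3_c38) Lrfl Lrfl
theorem f392226 : Led Lsl_ct (LP (LK LD1_c19 LD2_c43 LD3_c33)) = (LP (LK LD1_c29 LD2_c1 LD3_c34)) :=
  Lgr Lrot176 (Lpe (f280887 IH) (Lpe (f281586 IH) (Lpe (f392170 IH) (Lpe (f236262 IH) (Lpr_df (f392175 IH) (Lpe (f392225 IH) (Lpe (f388319 IH) (Lpr_cf (f392221 IH) (Lpe (f281236 IH) (Lpr_cf (f388253 IH) (Lpe (f226521 IH) (Lpr_cf (f226425 IH) (Lpe (f388316 IH) (Lpe (f281235 IH) (Lpe (f281703 IH) (Lpn (LP (LK LD1_c29 LD2_c1 LD3_c34))))))))))))))))))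
theorem f281702 : Led Lsl_dt (LP (LK LD1_c19 LD2_c41 LD3_c38)) = (LP (LK LD1_c29 LD2_c1 LD3_c34)) :=
  Lre_d IH (LK LD1_c19 LD2_c41 LD3_c38) (LK LD1_c29 LD2_c1 LD3_c34) Lrfl Lrfl
theorem f281701 : Led Lsl_ct (LP (LK LD1_c10 LD2_c53 LD3_c51)) = (LP (LK LD1_c19 LD2_c41 LD3_c38)) :=
  Lre_c IH (LK LD1_c10 LD2_c53 LD3_c51) (LK LD1_c19 LD2_c41 LD3_c38) Lrfl Lrfl
theorem f281601 : Led Lsl_dt (LP (LK LD1_c29 LD2_c1 LD3_c41)) = (LP (LK LD1_c19 LD2_c41 LD3_c40)) :=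
  Lre_d IH (LK LD1_c29 LD2_c1 LD3_c41) (LK LD1_c19 LD2_c41 LD3_c40) Lrfl Lrfl
theorem f392230 : Led Lsl_gf (LP (LK LD1_c26 LD2_c44 LD3_c6)) = (LP (LK LD1_c29 LD2_c1 LD3_c41)) :=
  Lgr Lrot147 (Lpr_ct (f245387 IH) (Lpe (f388305 IH) (Lpr_ct (f392226 IH) (Lpe (f281702 IH) (Lpe (f281701 IH) (Lpr_gf (f281699 IH) (Lpe (K30.f280763 IH) (Lpe (K30.f281599 IH) (Lpe (f281601 IH) (Lpn (LP (LK LD1_c29 LD2_c1 LD3_c41))))))))))))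
theorem f281602 : Led Lsl_dt (LP (LK LD1_c19 LD2_c41 LD3_c40)) = (LP (LK LD1_c29 LD2_c1 LD3_c41)) :=
  Lre_d IH (LK LD1_c19 LD2_c41 LD3_c40) (LK LD1_c29 LD2_c1 LD3_c41) Lrfl Lrfl
theorem f392233 : Led Lsl_gf (LP (LK LD1_c5 LD2_c27 LD3_c58)) = (LP (LK LD1_c8 LD2_c56 LD3_c33)) :=
  Lgr Lrot143 (Lpr_dt (K30.f245317 IH) (Lpe (K30.f245297 IH) (Lpr_df (K30.f245300 IH) (Lpr_gf (f392230 IH) (Lpe (f281602 IH) (Lpe (K30.f281598 IH) (Lpe (K20.f225233 IH) (Lpr_gt (f225221 IH) (Lpe (f392175 IH) (Lpn (LP (LK LD1_c8 LD2_c56 LD3_c33))))))))))))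
theorem f245534 : Led Lsl_bt (LP (LK LD1_c2 LD2_c40 LD3_c49)) = (LP (LK LD1_c4 LD2_c28 LD3_c59)) :=
  Lgr Lrot62 (Lpe (K30.f245283 IH) (Lpe (K22.f179301 IH) (Lpr_af (K13.f245529 IH) (Lpe (K30.f178105 IH) (Lpe (K30.f245533 IH) (Lpn (LP (LK LD1_c4 LD2_c28 LD3_c59))))))))
theorem f189442 : Led Lsl_dt (LP (LK LD1_c5 LD2_c34 LD3_c29)) = (LP (LK LD1_c2 LD2_c43 LD3_c11)) :=
  Lre_d IH (LK LD1_c5 LD2_c34 LD3_c29) (LK LD1_c2 LD2_c43 LD3_c11) Lrfl Lrfl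
theorem f391664 : Led Lsl_df (LP (LK LD1_c19 LD2_c21 LD3_c39)) = (LP (LK LD1_c28 LD2_c45 LD3_c50)) :=
  Lgr Lrot153 (Lpr_gt (f391659 IH) (Lpr_dt (f277314 IH) (Lpe (f389290 IH) (Lpe (f277347 IH) (Lpe (f172933 IH) (Lpe (f189442 IH) (Lpe (f189443 IH) (Lpe (f226272 IH) (Lpr_gt (f384844 IH) (Lpn (LP (LK LD1_c28 LD2_c45 LD3_c50))))))))))))
theorem f390759 : Led Lsl_dt (LP (LK LD1_c10 LD2_c59 LD3_c33)) = (LP (LK LD1_c5 LD2_c33 LD3_c47)) :=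
  Lre_d IH (LK LD1_c10 LD2_c59 LD3_c33) (LK LD1_c5 LD2_c33 LD3_c47) Lrfl Lrfl
theorem f384843 : Led Lsl_gt (LP (LK LD1_c19 LD2_c21 LD3_c6)) = (LP (LK LD1_c10 LD2_c41 LD3_c25)) :=
  Lre_g IH (LK LD1_c19 LD2_c21 LD3_c6) (LK LD1_c10 LD2_c41 LD3_c25) Lrfl Lrfl
theorem f277023 : Led Lsl_bt (LP (LK LD1_c10 LD2_c35 LD3_c61)) = (LP (LK LD1_c5 LD2_c22 LD3_c52)) :=
  Lre_b IH (LK LD1_c10 LD2_c35 LD3_c61) (LK LD1_c5 LD2_c22 LD3_c52) Lrfl Lrfl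
theorem f277024 : Led Lsl_ff (LP (LK LD1_c10 LD2_c35 LD3_c61)) = (LP (LK LD1_c10 LD2_c40 LD3_c42)) :=
  Lgr Lrot25 (Lpr_bt (f277023 IH) (Lpr_ft (K16.f277018 IH) (Lpr_bt (K14.f246500 IH) (Lpn (LP (LK LD1_c10 LD2_c40 LD3_c42))))))
theorem f277043 : Led Lsl_gt (LP (LK LD1_c5 LD2_c25 LD3_c15)) = (LP (LK LD1_c10 LD2_c41 LD3_c24)) :=
  Lre_g IH (LK LD1_c5 LD2_c25 LD3_c15) (LK LD1_c10 LD2_c41 LD3_c24) Lrfl Lrfl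
theorem f277044 : Led Lsl_at (LP (LK LD1_c10 LD2_c35 LD3_c61)) = (LP (LK LD1_c10 LD2_c41 LD3_c24)) :=
  Lgr Lrot26 (Lpr_ff (f277024 IH) (Lpe (K30.f246527 IH) (Lpr_gt (f277043 IH) (Lpn (LP (LK LD1_c10 LD2_c41 LD3_c24))))))
theorem f277053 : Led Lsl_df (LP (LK LD1_c10 LD2_c35 LD3_c60)) = (LP (LK LD1_c10 LD2_c41 LD3_c24)) :=
  Lgr Lrot18 (Lpr_at (K17.f277052 IH) (Lpr_dt (f277051 IH) (Lpr_at (f277044 IH) (Lpn (LP (LK LD1_c10 LD2_c41 LD3_c24))))))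
theorem f277069 : Led Lsl_dt (LP (LK LD1_c10 LD2_c35 LD3_c60)) = (LP (LK LD1_c10 LD2_c41 LD3_c24)) :=
  Lgr Lrot42 (Lpr_df (f277053 IH) (Lpn (LP (LK LD1_c10 LD2_c41 LD3_c24))))
theorem f246538 : Led Lsl_gt (LP (LK LD1_c10 LD2_c41 LD3_c38)) = (LP (LK LD1_c19 LD2_c21 LD3_c6)) :=
  Lre_g IH (LK LD1_c10 LD2_c41 LD3_c38) (LK LD1_c19 LD2_c21 LD3_c6) Lrfl Lrfl
theorem f277340 : Led Lsl_dt (LP (LK LD1_c19 LD2_c39 LD3_c26)) = (LP (LK LD1_c10 LD2_c52 LD3_c21)) :=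
  Lre_d IH (LK LD1_c19 LD2_c39 LD3_c26) (LK LD1_c10 LD2_c52 LD3_c21) Lrfl Lrfl
theorem f384833 : Led Lsl_ct (LP (LK LD1_c19 LD2_c21 LD3_c6)) = (LP (LK LD1_c19 LD2_c39 LD3_c26)) :=
  Lgr Lrot110 (Lpe (f246538 IH) (Lpe (K30.f226276 IH) (Lpe (K30.f226294 IH) (Lpe (f277069 IH) (Lpe (K30.f277262 IH) (Lpe (K30.f384821 IH) (Lpr_gt (K30.f384825 IH) (Lpr_ct (f267736 IH) (Lpe (f277340 IH) (Lpn (LP (LK LD1_c19 LD2_c39 LD3_c26))))))))))))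
theorem f384840 : Led Lsl_cf (LP (LK LD1_c19 LD2_c21 LD3_c6)) = (LP (LK LD1_c19 LD2_c39 LD3_c26)) :=
  Lgr Lrot11 (Lpr_ct (f384833 IH) (Lpn (LP (LK LD1_c19 LD2_c39 LD3_c26))))
theorem f391669 : Led Lsl_gf (LP (LK LD1_c10 LD2_c59 LD3_c33)) = (LP (LK LD1_c19 LD2_c39 LD3_c26)) :=
  Lgr Lrot144 (Lpr_dt (f390759 IH) (Lpr_gt (f387796 IH) (Lpe (f218423 IH) (Lpr_cf (f218415 IH) (Lpr_df (f391664 IH) (Lpe (f384844 IH) (Lpe (f226271 IH) (Lpe (f384843 IH) (Lpr_cf (f384840 IH) (Lpn (LP (LK LD1_c19 LD2_c39 LD3_c26))))))))))))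
theorem f391370 : Led Lsl_ct (LP (LK LD1_c10 LD2_c59 LD3_c33)) = (LP (LK LD1_c19 LD2_c50 LD3_c17)) :=
  Lre_c IH (LK LD1_c10 LD2_c59 LD3_c33) (LK LD1_c19 LD2_c50 LD3_c17) Lrfl Lrfl
theorem f390738 : Led Lsl_bt (LP (LK LD1_c2 LD2_c42 LD3_c60)) = (LP (LK LD1_c5 LD2_c33 LD3_c46)) :=
  Lre_b IH (LK LD1_c2 LD2_c42 LD3_c60) (LK LD1_c5 LD2_c33 LD3_c46) Lrfl Lrfl
theorem f390639 : Led Lsl_ct (LP (LK LD1_c2 LD2_c42 LD3_c60)) = (LP (LK LD1_c5 LD2_c33 LD3_c47)) :=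
  Lre_c IH (LK LD1_c2 LD2_c42 LD3_c60) (LK LD1_c5 LD2_c33 LD3_c47) Lrfl Lrfl
theorem f390833 : Led Lsl_gt (LP (LK LD1_c10 LD2_c59 LD3_c32)) = (LP (LK LD1_c5 LD2_c33 LD3_c47)) :=
  Lre_g IH (LK LD1_c10 LD2_c59 LD3_c32) (LK LD1_c5 LD2_c33 LD3_c47) Lrfl Lrfl
theorem f281164 : Led Lsl_bt (LP (LK LD1_c8 LD2_c57 LD3_c22)) = (LP (LK LD1_c4 LD2_c29 LD3_c34)) :=
  Lre_b IH (LK LD1_c8 LD2_c57 LD3_c22) (LK LD1_c4 LD2_c29 LD3_c34) Lrfl Lrfl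
theorem f390843 : Led Lsl_cf (LP (LK LD1_c10 LD2_c59 LD3_c32)) = (LP (LK LD1_c8 LD2_c57 LD3_c22)) :=
  Lgr Lrot160 (Lpr_gt (f390833 IH) (Lpe (f390639 IH) (Lpr_bt (f390738 IH) (Lpr_gt (f390839 IH) (Lpr_ct (f173049 IH) (Lpr_gt (K27.f281694 IH) (Lpe (K20.f280667 IH) (Lpe (K20.f280650 IH) (Lpr_gt (f281159 IH) (Lpe (f281164 IH) (Lpn (LP (LK LD1_c8 LD2_c57 LD3_c22)))))))))))))
theorem f387798 : Led Lsl_gt (LP (LK LD1_c5 LD2_c33 LD3_c61)) = (LP (LK LD1_c10 LD2_c59 LD3_c32)) :=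
  Lre_g IH (LK LD1_c5 LD2_c33 LD3_c61) (LK LD1_c10 LD2_c59 LD3_c32) Lrfl Lrfl
theorem f173347 : Led Lsl_bt (LP (LK LD1_c0 LD2_c36 LD3_c0)) = (LP (LK LD1_c1 LD2_c18 LD3_c2)) :=
  Lre_b IH (LK LD1_c0 LD2_c36 LD3_c0) (LK LD1_c1 LD2_c18 LD3_c2) Lrfl Lrfl
theorem f391324 : Led Lsl_gf (LP (LK LD1_c2 LD2_c43 LD3_c3)) = (LP (LK LD1_c1 LD2_c18 LD3_c2)) :=
  Lgr Lrot181 (Lpr_ct (K30.f387628 IH) (Lpr_gt (f387798 IH) (Lpr_cf (f390843 IH) (Lpr_bt (f281164 IH) (Lpr_gt (f232134 IH) (Lpe (K24.f165014 IH) (Lpr_ct (K9.f165008 IH) (Lpr_gt (K9.f7630 IH) (Lpe (K9.f42261 IH) (Lpr_bt (f173347 IH) (Lpn (LP (LK LD1_c1 LD2_c18 LD3_c2)))))))))))))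
theorem f387799 : Led Lsl_dt (LP (LK LD1_c5 LD2_c33 LD3_c61)) = (LP (LK LD1_c11 LD2_c0 LD3_c5)) :=
  Lre_d IH (LK LD1_c5 LD2_c33 LD3_c61) (LK LD1_c11 LD2_c0 LD3_c5) Lrfl Lrfl
theorem f387803 : Led Lsl_ct (LP (LK LD1_c19 LD2_c51 LD3_c1)) = (LP (LK LD1_c11 LD2_c0 LD3_c5)) :=
  Lre_c IH (LK LD1_c19 LD2_c51 LD3_c1) (LK LD1_c11 LD2_c0 LD3_c5) Lrfl Lrfl
theorem f168054 : Led Lsl_ct (LP (LK LD1_c2 LD2_c39 LD3_c9)) = (LP (LK LD1_c1 LD2_c18 LD3_c2)) :=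
  Lre_c IH (LK LD1_c2 LD2_c39 LD3_c9) (LK LD1_c1 LD2_c18 LD3_c2) Lrfl Lrfl
theorem f332288 : Led Lsl_dt (LP (LK LD1_c10 LD2_c41 LD3_c12)) = (LP (LK LD1_c5 LD2_c25 LD3_c12)) :=
  Lre_d IH (LK LD1_c10 LD2_c41 LD3_c12) (LK LD1_c5 LD2_c25 LD3_c12) Lrfl Lrfl
theorem f277032 : Led Lsl_ct (LP (LK LD1_c10 LD2_c35 LD3_c61)) = (LP (LK LD1_c19 LD2_c11 LD3_c40)) :=
  Lre_c IH (LK LD1_c10 LD2_c35 LD3_c61) (LK LD1_c19 LD2_c11 LD3_c40) Lrfl Lrfl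
theorem f391333 : Led Lsl_gf (LP (LK LD1_c19 LD2_c51 LD3_c1)) = (LP (LK LD1_c19 LD2_c11 LD3_c40)) :=
  Lgr Lrot104 (Lpr_ct (f387803 IH) (Lpe (f387799 IH) (Lpe (K30.f387628 IH) (Lpr_gf (f391324 IH) (Lpe (f168054 IH) (Lpe (f332292 IH) (Lpe (f332288 IH) (Lpr_gt (f389257 IH) (Lpr_ct (f277032 IH) (Lpn (LP (LK LD1_c19 LD2_c11 LD3_c40))))))))))))
theorem f391366 : Led Lsl_at (LP (LK LD1_c11 LD2_c0 LD3_c40)) = (LP (LK LD1_c19 LD2_c51 LD3_c1)) :=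
  Lre_a IH (LK LD1_c11 LD2_c0 LD3_c40) (LK LD1_c19 LD2_c51 LD3_c1) Lrfl Lrfl
theorem f391367 : Led Lsl_ft (LP (LK LD1_c19 LD2_c50 LD3_c17)) = (LP (LK LD1_c11 LD2_c0 LD3_c40)) :=
  Lre_f IH (LK LD1_c19 LD2_c50 LD3_c17) (LK LD1_c11 LD2_c0 LD3_c40) Lrfl Lrfl
theorem f391368 : Led Lsl_gt (LP (LK LD1_c19 LD2_c50 LD3_c17)) = (LP (LK LD1_c19 LD2_c11 LD3_c40)) :=
  Lgr Lrot5 (Lpr_ft (f391367 IH) (Lpr_at (f391366 IH) (Lpr_gf (f391333 IH) (Lpn (LP (LK LD1_c19 LD2_c11 LD3_c40))))))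
theorem f277030 : Led Lsl_ct (LP (LK LD1_c19 LD2_c11 LD3_c40)) = (LP (LK LD1_c10 LD2_c35 LD3_c61)) :=
  Lre_c IH (LK LD1_c19 LD2_c11 LD3_c40) (LK LD1_c10 LD2_c35 LD3_c61) Lrfl Lrfl
theorem f172965 : Led Lsl_ct (LP (LK LD1_c10 LD2_c48 LD3_c25)) = (LP (LK LD1_c5 LD2_c28 LD3_c40)) :=
  Lre_c IH (LK LD1_c10 LD2_c48 LD3_c25) (LK LD1_c5 LD2_c28 LD3_c40) Lrfl Lrfl
theorem f277334 : Led Lsl_dt (LP (LK LD1_c10 LD2_c52 LD3_c21)) = (LP (LK LD1_c19 LD2_c39 LD3_c26)) :=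
  Lre_d IH (LK LD1_c10 LD2_c52 LD3_c21) (LK LD1_c19 LD2_c39 LD3_c26) Lrfl Lrfl
theorem f391674 : Led Lsl_gf (LP (LK LD1_c10 LD2_c48 LD3_c25)) = (LP (LK LD1_c10 LD2_c52 LD3_c21)) :=
  Lgr Lrot147 (Lpr_ct (f172965 IH) (Lpr_gt (K30.f172978 IH) (Lpe (K21.f277106 IH) (Lpe (f277039 IH) (Lpe (f277030 IH) (Lpe (f391368 IH) (Lpe (f391370 IH) (Lpr_gf (f391669 IH) (Lpe (f277334 IH) (Lpn (LP (LK LD1_c10 LD2_c52 LD3_c21))))))))))))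
theorem f172995 : Led Lsl_ct (LP (LK LD1_c5 LD2_c28 LD3_c40)) = (LP (LK LD1_c10 LD2_c48 LD3_c25)) :=
  Lre_c IH (LK LD1_c5 LD2_c28 LD3_c40) (LK LD1_c10 LD2_c48 LD3_c25) Lrfl Lrfl
theorem f172994 : Led Lsl_bt (LP (LK LD1_c5 LD2_c28 LD3_c40)) = (LP (LK LD1_c10 LD2_c48 LD3_c24)) :=
  Lre_b IH (LK LD1_c5 LD2_c28 LD3_c40) (LK LD1_c10 LD2_c48 LD3_c24) Lrfl Lrfl
theorem f392235 : Led Lsl_gt (LP (LK LD1_c10 LD2_c48 LD3_c24)) = (LP (LK LD1_c16 LD2_c44 LD3_c27)) :=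
  Lgr Lrot82 (Lpe (f172994 IH) (Lpr_ct (f172995 IH) (Lpr_gf (f391674 IH) (Lpe (f267736 IH) (Lpr_bt (f267735 IH) (Lpe (f385177 IH) (Lpe (f245534 IH) (Lpr_ct (K30.f244984 IH) (Lpr_gf (f392233 IH) (Lpe (f177932 IH) (Lpn (LP (LK LD1_c16 LD2_c44 LD3_c27)))))))))))))
theorem f244985 : Led Lsl_dt (LP (LK LD1_c5 LD2_c29 LD3_c10)) = (LP (LK LD1_c2 LD2_c40 LD3_c49)) :=
  Lre_d IH (LK LD1_c5 LD2_c29 LD3_c10) (LK LD1_c2 LD2_c40 LD3_c49) Lrfl Lrfl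
theorem f245325 : Led Lsl_gt (LP (LK LD1_c8 LD2_c56 LD3_c53)) = (LP (LK LD1_c16 LD2_c45 LD3_c8)) :=
  Lre_g IH (LK LD1_c8 LD2_c56 LD3_c53) (LK LD1_c16 LD2_c45 LD3_c8) Lrfl Lrfl
theorem f245326 : Led Lsl_gf (LP (LK LD1_c10 LD2_c49 LD3_c39)) = (LP (LK LD1_c16 LD2_c45 LD3_c8)) :=
  Lgr Lrot76 (Lpe (K30.f245314 IH) (Lpr_ff (K30.f245315 IH) (Lpr_gt (f245325 IH) (Lpn (LP (LK LD1_c16 LD2_c45 LD3_c8))))))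
theorem f399418 : Led Lsl_ct (LP (LK LD1_c11 LD2_c0 LD3_c25)) = (LP (LK LD1_c16 LD2_c45 LD3_c8)) :=
  Lgr Lrot152 (Lpr_gf (f399414 IH) (Lpe (f172949 IH) (Lpr_gt (f392235 IH) (Lpr_ct (f177932 IH) (Lpe (f392233 IH) (Lpr_ct (K30.f244978 IH) (Lpe (f244985 IH) (Lpe (f245330 IH) (Lpr_gf (f245326 IH) (Lpn (LP (LK LD1_c16 LD2_c45 LD3_c8))))))))))))
theorem f399420 : Led Lsl_cf (LP (LK LD1_c11 LD2_c0 LD3_c25)) = (LP (LK LD1_c16 LD2_c45 LD3_c8)) :=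
  Lgr Lrot11 (Lpr_ct (f399418 IH) (Lpn (LP (LK LD1_c16 LD2_c45 LD3_c8))))
theorem f224498 : Led Lsl_dt (LP (LK LD1_c5 LD2_c34 LD3_c8)) = (LP (LK LD1_c11 LD2_c0 LD3_c25)) :=
  Lre_d IH (LK LD1_c5 LD2_c34 LD3_c8) (LK LD1_c11 LD2_c0 LD3_c25) Lrfl Lrfl
theorem f245455 : Led Lsl_gt (LP (LK LD1_c8 LD2_c56 LD3_c52)) = (LP (LK LD1_c4 LD2_c29 LD3_c18)) :=
  Lre_g IH (LK LD1_c8 LD2_c56 LD3_c52) (LK LD1_c4 LD2_c29 LD3_c18) Lrfl Lrfl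
theorem f399436 : Led Lsl_df (LP (LK LD1_c4 LD2_c29 LD3_c57)) = (LP (LK LD1_c8 LD2_c56 LD3_c52)) :=
  Lgr Lrot155 (Lpr_gt (K20.f174507 IH) (Lpr_ct (K20.f169286 IH) (Lpr_gt (f169310 IH) (Lpe (f281716 IH) (Lpr_dt (f224498 IH) (Lpr_cf (f399420 IH) (Lpe (f245325 IH) (Lpe (K30.f174635 IH) (Lpe (f245455 IH) (Lpn (LP (LK LD1_c8 LD2_c56 LD3_c52))))))))))))
theorem f281624 : Led Lsl_dt (LP (LK LD1_c16 LD2_c46 LD3_c58)) = (LP (LK LD1_c8 LD2_c58 LD3_c2)) :=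
  Lre_d IH (LK LD1_c16 LD2_c46 LD3_c58) (LK LD1_c8 LD2_c58 LD3_c2) Lrfl Lrfl
theorem f245436 : Led Lsl_ff (LP (LK LD1_c10 LD2_c49 LD3_c39)) = (LP (LK LD1_c16 LD2_c45 LD3_c0)) :=
  Lgr Lrot19 (Lpr_dt (f245306 IH) (Lpr_ft (f245432 IH) (Lpr_dt (K30.f245270 IH) (Lpn (LP (LK LD1_c16 LD2_c45 LD3_c0))))))
theorem f245444 : Led Lsl_ft (LP (LK LD1_c5 LD2_c29 LD3_c10)) = (LP (LK LD1_c8 LD2_c56 LD3_c49)) :=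
  Lgr Lrot4 (Lpe (f245330 IH) (Lpr_ff (f245436 IH) (Lpe (f245239 IH) (Lpn (LP (LK LD1_c8 LD2_c56 LD3_c49))))))
theorem f245452 : Led Lsl_at (LP (LK LD1_c8 LD2_c56 LD3_c49)) = (LP (LK LD1_c4 LD2_c29 LD3_c18)) :=
  Lre_a IH (LK LD1_c8 LD2_c56 LD3_c49) (LK LD1_c4 LD2_c29 LD3_c18) Lrfl Lrfl
theorem f245456 : Led Lsl_gt (LP (LK LD1_c5 LD2_c29 LD3_c10)) = (LP (LK LD1_c8 LD2_c56 LD3_c52)) :=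
  Lgr Lrot5 (Lpr_ft (f245444 IH) (Lpr_at (f245452 IH) (Lpe (f245455 IH) (Lpn (LP (LK LD1_c8 LD2_c56 LD3_c52))))))
theorem f179767 : Led Lsl_gt (LP (LK LD1_c8 LD2_c56 LD3_c44)) = (LP (LK LD1_c16 LD2_c44 LD3_c46)) :=
  Lre_g IH (LK LD1_c8 LD2_c56 LD3_c44) (LK LD1_c16 LD2_c44 LD3_c46) Lrfl Lrfl
theorem f245458 : Led Lsl_dt (LP (LK LD1_c16 LD2_c44 LD3_c46)) = (LP (LK LD1_c26 LD2_c43 LD3_c41)) :=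
  Lre_d IH (LK LD1_c16 LD2_c44 LD3_c46) (LK LD1_c26 LD2_c43 LD3_c41) Lrfl Lrfl
theorem f399441 : Led Lsl_gf (LP (LK LD1_c16 LD2_c46 LD3_c58)) = (LP (LK LD1_c26 LD2_c43 LD3_c41)) :=
  Lgr Lrot143 (Lpr_dt (f281624 IH) (Lpe (f281623 IH) (Lpr_df (f399436 IH) (Lpe (f245456 IH) (Lpe (K30.f245304 IH) (Lpr_gf (K30.f245294 IH) (Lpe (K30.f226524 IH) (Lpr_gt (f179767 IH) (Lpr_dt (f245458 IH) (Lpn (LP (LK LD1_c26 LD2_c43 LD3_c41))))))))))))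
theorem f392950 : Led Lsl_dt (LP (LK LD1_c19 LD2_c30 LD3_c14)) = (LP (LK LD1_c15 LD2_c52 LD3_c10)) :=
  Lgr Lrot42 (Lpr_df (f392939 IH) (Lpn (LP (LK LD1_c15 LD2_c52 LD3_c10))))
theorem f244541 : Led Lsl_dt (LP (LK LD1_c5 LD2_c27 LD3_c53)) = (LP (LK LD1_c10 LD2_c46 LD3_c57)) :=
  Lre_d IH (LK LD1_c5 LD2_c27 LD3_c53) (LK LD1_c10 LD2_c46 LD3_c57) Lrfl Lrfl
theorem f392991 : Led Lsl_gt (LP (LK LD1_c15 LD2_c21 LD3_c0)) = (LP (LK LD1_c15 LD2_c22 LD3_c30)) :=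
  Lgr Lrot94 (Lpe (K18.f280055 IH) (Lpr_gt (K18.f179429 IH) (Lpr_dt (f244541 IH) (Lpr_gt (f244713 IH) (Lpr_dt (f392950 IH) (Lpe (f389801 IH) (Lpe (f391245 IH) (Lpe (f385127 IH) (Lpe (f385119 IH) (Lpn (LP (LK LD1_c15 LD2_c22 LD3_c30))))))))))))
theorem f286593 : Led Lsl_bf (LP (LK LD1_c16 LD2_c44 LD3_c22)) = (LP (LK LD1_c10 LD2_c46 LD3_c48)) :=
  Lgr Lrot61 (Lpr_ft (K17.f286589 IH) (Lpe (f286216 IH) (Lpe (K17.f286525 IH) (Lpn (LP (LK LD1_c10 LD2_c46 LD3_c48))))))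
theorem f286792 : Led Lsl_gt (LP (LK LD1_c10 LD2_c36 LD3_c5)) = (LP (LK LD1_c19 LD2_c3 LD3_c35)) :=
  Lgr Lrot46 (Lpe (f228425 IH) (Lpr_ft (K17.f286711 IH) (Lpr_at (K18.f256975 IH) (Lpn (LP (LK LD1_c19 LD2_c3 LD3_c35))))))
theorem f391207 : Led Lsl_at (LP (LK LD1_c19 LD2_c3 LD3_c33)) = (LP (LK LD1_c10 LD2_c36 LD3_c6)) :=
  Lgr Lrot26 (Lpe (f389933 IH) (Lpr_gt (f286792 IH) (Lpr_gt (f391204 IH) (Lpn (LP (LK LD1_c10 LD2_c36 LD3_c6))))))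
theorem f391243 : Led Lsl_ct (LP (LK LD1_c25 LD2_c49 LD3_c16)) = (LP (LK LD1_c19 LD2_c3 LD3_c33)) :=
  Lgr Lrot111 (Lpr_af (f391239 IH) (Lpe (f391192 IH) (Lpe (f391207 IH) (Lpn (LP (LK LD1_c19 LD2_c3 LD3_c33))))))
theorem f331952 : Led Lsl_at (LP (LK LD1_c15 LD2_c22 LD3_c10)) = (LP (LK LD1_c11 LD2_c8 LD3_c40)) :=
  Lgr Lrot66 (Lpr_ff (K22.f331931 IH) (Lpe (K30.f331944 IH) (Lpr_ff (K30.f331950 IH) (Lpn (LP (LK LD1_c11 LD2_c8 LD3_c40))))))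
theorem f332117 : Led Lsl_gt (LP (LK LD1_c15 LD2_c22 LD3_c12)) = (LP (LK LD1_c11 LD2_c8 LD3_c40)) :=
  Lgr Lrot46 (Lpr_gf (K18.f286676 IH) (Lpe (K22.f331931 IH) (Lpr_at (f331952 IH) (Lpn (LP (LK LD1_c11 LD2_c8 LD3_c40))))))
theorem f298464 : Led Lsl_bf (LP (LK LD1_c15 LD2_c22 LD3_c12)) = (LP (LK LD1_c11 LD2_c8 LD3_c50)) :=
  Lgr Lrot81 (Lpr_at (K30.f247302 IH) (Lpr_bt (f200713 IH) (Lpr_at (K18.f298460 IH) (Lpr_bt (K17.f200425 IH) (Lpr_at (f228615 IH) (Lpn (LP (LK LD1_c11 LD2_c8 LD3_c50))))))))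
theorem f228617 : Led Lsl_ct (LP (LK LD1_c11 LD2_c8 LD3_c50)) = (LP (LK LD1_c10 LD2_c36 LD3_c7)) :=
  Lgr Lrot111 (Lpe (f228615 IH) (Lpr_cf (K30.f228596 IH) (Lpe (K18.f228616 IH) (Lpn (LP (LK LD1_c10 LD2_c36 LD3_c7))))))
theorem f391259 : Led Lsl_gf (LP (LK LD1_c10 LD2_c36 LD3_c7)) = (LP (LK LD1_c19 LD2_c3 LD3_c33)) :=
  Lgr Lrot129 (Lpe (f228617 IH) (Lpe (f298464 IH) (Lpr_gt (f332117 IH) (Lpe (K30.f244659 IH) (Lpr_ct (K30.f244662 IH) (Lpe (K30.f332730 IH) (Lpe (K30.f238463 IH) (Lpr_bt (f385090 IH) (Lpr_gt (f385127 IH) (Lpr_ct (f391243 IH) (Lpn (LP (LK LD1_c19 LD2_c3 LD3_c33)))))))))))))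
theorem f297828 : Led Lsl_bf (LP (LK LD1_c10 LD2_c36 LD3_c7)) = (LP (LK LD1_c19 LD2_c3 LD3_c29)) :=
  Lgr Lrot24 (Lpr_bt (K18.f297826 IH) (Lpn (LP (LK LD1_c19 LD2_c3 LD3_c29))))
theorem f286924 : Led Lsl_ct (LP (LK LD1_c19 LD2_c3 LD3_c29)) = (LP (LK LD1_c10 LD2_c46 LD3_c48)) :=
  Lgr Lrot40 (Lpr_ff (K17.f286921 IH) (Lpe (K17.f275054 IH) (Lpe (K17.f286531 IH) (Lpn (LP (LK LD1_c10 LD2_c46 LD3_c48))))))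
theorem f275082 : Led Lsl_gt (LP (LK LD1_c16 LD2_c44 LD3_c16)) = (LP (LK LD1_c8 LD2_c56 LD3_c29)) :=
  Lre_g IH (LK LD1_c16 LD2_c44 LD3_c16) (LK LD1_c8 LD2_c56 LD3_c29) Lrfl Lrfl
theorem f286542 : Led Lsl_gt (LP (LK LD1_c10 LD2_c46 LD3_c48)) = (LP (LK LD1_c16 LD2_c44 LD3_c16)) :=
  Lgr Lrot5 (Lpr_ft (K17.f286531 IH) (Lpr_at (f275067 IH) (Lpe (f275082 IH) (Lpn (LP (LK LD1_c16 LD2_c44 LD3_c16))))))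
theorem f217830 : Led Lsl_bt (LP (LK LD1_c2 LD2_c37 LD3_c61)) = (LP (LK LD1_c5 LD2_c22 LD3_c57)) :=
  Lre_b IH (LK LD1_c2 LD2_c37 LD3_c61) (LK LD1_c5 LD2_c22 LD3_c57) Lrfl Lrfl
theorem f274961 : Led Lsl_cf (LP (LK LD1_c8 LD2_c56 LD3_c29)) = (LP (LK LD1_c5 LD2_c22 LD3_c57)) :=
  Lgr Lrot97 (Lpr_bt (K17.f245078 IH) (Lpe (K16.f266471 IH) (Lpr_bt (K16.f274959 IH) (Lpr_ct (K12.f196603 IH) (Lpr_bt (f217830 IH) (Lpn (LP (LK LD1_c5 LD2_c22 LD3_c57))))))))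
theorem f228408 : Led Lsl_bt (LP (LK LD1_c2 LD2_c38 LD3_c0)) = (LP (LK LD1_c1 LD2_c15 LD3_c59)) :=
  Lre_b IH (LK LD1_c2 LD2_c38 LD3_c0) (LK LD1_c1 LD2_c15 LD3_c59) Lrfl Lrfl
theorem f228409 : Led Lsl_ct (LP (LK LD1_c2 LD2_c38 LD3_c0)) = (LP (LK LD1_c5 LD2_c22 LD3_c19)) :=
  Lre_c IH (LK LD1_c2 LD2_c38 LD3_c0) (LK LD1_c5 LD2_c22 LD3_c19) Lrfl Lrfl
theorem f182173 : Led Lsl_gt (LP (LK LD1_c5 LD2_c22 LD3_c19)) = (LP (LK LD1_c10 LD2_c35 LD3_c3)) :=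
  Lre_g IH (LK LD1_c5 LD2_c22 LD3_c19) (LK LD1_c10 LD2_c35 LD3_c3) Lrfl Lrfl
theorem f263746 : Led Lsl_ct (LP (LK LD1_c19 LD2_c10 LD3_c35)) = (LP (LK LD1_c10 LD2_c35 LD3_c3)) :=
  Lre_c IH (LK LD1_c19 LD2_c10 LD3_c35) (LK LD1_c10 LD2_c35 LD3_c3) Lrfl Lrfl
theorem f263757 : Led Lsl_bt (LP (LK LD1_c19 LD2_c10 LD3_c35)) = (LP (LK LD1_c28 LD2_c36 LD3_c40)) :=
  Lre_b IH (LK LD1_c19 LD2_c10 LD3_c35) (LK LD1_c28 LD2_c36 LD3_c40) Lrfl Lrfl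
theorem f263761 : Led Lsl_gt (LP (LK LD1_c28 LD2_c36 LD3_c40)) = (LP (LK LD1_c19 LD2_c11 LD3_c19)) :=
  Lre_g IH (LK LD1_c28 LD2_c36 LD3_c40) (LK LD1_c19 LD2_c11 LD3_c19) Lrfl Lrfl
theorem f275083 : Led Lsl_cf (LP (LK LD1_c16 LD2_c44 LD3_c16)) = (LP (LK LD1_c19 LD2_c11 LD3_c19)) :=
  Lgr Lrot125 (Lpr_gt (f275082 IH) (Lpr_cf (f274961 IH) (Lpr_bt (K17.f217677 IH) (Lpr_gt (K12.f196602 IH) (Lpe (f228408 IH) (Lpr_ct (f228409 IH) (Lpr_gt (f182173 IH) (Lpe (f263746 IH) (Lpr_bt (f263757 IH) (Lpr_gt (f263761 IH) (Lpn (LP (LK LD1_c19 LD2_c11 LD3_c19)))))))))))))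
theorem f275085 : Led Lsl_bt (LP (LK LD1_c19 LD2_c11 LD3_c19)) = (LP (LK LD1_c10 LD2_c35 LD3_c47)) :=
  Lre_b IH (LK LD1_c19 LD2_c11 LD3_c19) (LK LD1_c10 LD2_c35 LD3_c47) Lrfl Lrfl
theorem f389909 : Led Lsl_ff (LP (LK LD1_c25 LD2_c7 LD3_c53)) = (LP (LK LD1_c16 LD2_c37 LD3_c13)) :=
  Lgr Lrot3 (Lpr_ft (f389907 IH) (Lpn (LP (LK LD1_c16 LD2_c37 LD3_c13))))
theorem f389921 : Led Lsl_at (LP (LK LD1_c25 LD2_c7 LD3_c53)) = (LP (LK LD1_c16 LD2_c37 LD3_c14)) :=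
  Lgr Lrot66 (Lpr_ff (f389909 IH) (Lpe (f389913 IH) (Lpr_ff (f389919 IH) (Lpn (LP (LK LD1_c16 LD2_c37 LD3_c14))))))
theorem f389953 : Led Lsl_gt (LP (LK LD1_c25 LD2_c7 LD3_c55)) = (LP (LK LD1_c16 LD2_c37 LD3_c14)) :=
  Lgr Lrot46 (Lpe (K30.f289114 IH) (Lpe (f389909 IH) (Lpr_at (f389921 IH) (Lpn (LP (LK LD1_c16 LD2_c37 LD3_c14))))))
theorem f391265 : Led Lsl_gt (LP (LK LD1_c10 LD2_c35 LD3_c47)) = (LP (LK LD1_c19 LD2_c3 LD3_c26)) :=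
  Lgr Lrot82 (Lpe (f275085 IH) (Lpe (f275083 IH) (Lpe (f286542 IH) (Lpe (f286924 IH) (Lpe (f297828 IH) (Lpr_gf (f391259 IH) (Lpe (f289096 IH) (Lpr_ct (f289095 IH) (Lpe (f389953 IH) (Lpe (K30.f223316 IH) (Lpn (LP (LK LD1_c19 LD2_c3 LD3_c26)))))))))))))
theorem f225414 : Led Lsl_at (LP (LK LD1_c8 LD2_c21 LD3_c54)) = (LP (LK LD1_c4 LD2_c11 LD3_c0)) :=
  Lre_a IH (LK LD1_c8 LD2_c21 LD3_c54) (LK LD1_c4 LD2_c11 LD3_c0) Lrfl Lrfl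
theorem f179769 : Led Lsl_gt (LP (LK LD1_c8 LD2_c21 LD3_c53)) = (LP (LK LD1_c4 LD2_c11 LD3_c0)) :=
  Lre_g IH (LK LD1_c8 LD2_c21 LD3_c53) (LK LD1_c4 LD2_c11 LD3_c0) Lrfl Lrfl
theorem f277190 : Led Lsl_gf (LP (LK LD1_c8 LD2_c21 LD3_c53)) = (LP (LK LD1_c5 LD2_c28 LD3_c41)) :=
  Lgr Lrot47 (Lpr_gt (f179769 IH) (Lpe (f225414 IH) (Lpr_ff (K30.f277183 IH) (Lpn (LP (LK LD1_c5 LD2_c28 LD3_c41))))))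
theorem f225424 : Led Lsl_ct (LP (LK LD1_c15 LD2_c44 LD3_c25)) = (LP (LK LD1_c8 LD2_c21 LD3_c53)) :=
  Lre_c IH (LK LD1_c15 LD2_c44 LD3_c25) (LK LD1_c8 LD2_c21 LD3_c53) Lrfl Lrfl
theorem f220741 : Led Lsl_gt (LP (LK LD1_c5 LD2_c22 LD3_c57)) = (LP (LK LD1_c10 LD2_c36 LD3_c13)) :=
  Lre_g IH (LK LD1_c5 LD2_c22 LD3_c57) (LK LD1_c10 LD2_c36 LD3_c13) Lrfl Lrfl
theorem f226947 : Led Lsl_bt (LP (LK LD1_c15 LD2_c44 LD3_c25)) = (LP (LK LD1_c10 LD2_c36 LD3_c13)) :=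
  Lgr Lrot92 (Lpr_ct (f225424 IH) (Lpr_gt (f179769 IH) (Lpe (K21.f225400 IH) (Lpr_bt (K14.f225403 IH) (Lpr_gt (K13.f226911 IH) (Lpr_ct (K12.f218832 IH) (Lpe (K12.f220734 IH) (Lpe (K15.f217826 IH) (Lpr_bt (f217830 IH) (Lpr_gt (f220741 IH) (Lpn (LP (LK LD1_c10 LD2_c36 LD3_c13)))))))))))))
theorem f391267 : Led Lsl_gf (LP (LK LD1_c19 LD2_c3 LD3_c29)) = (LP (LK LD1_c10 LD2_c36 LD3_c13)) :=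
  Lgr Lrot181 (Lpr_ct (f286924 IH) (Lpr_gt (f286542 IH) (Lpr_cf (f275083 IH) (Lpr_bt (f275085 IH) (Lpr_gt (f391265 IH) (Lpe (K17.f277411 IH) (Lpr_ct (K30.f277113 IH) (Lpe (f277190 IH) (Lpe (f225424 IH) (Lpr_bt (f226947 IH) (Lpn (LP (LK LD1_c10 LD2_c36 LD3_c13)))))))))))))
theorem f226976 : Led Lsl_ct (LP (LK LD1_c19 LD2_c12 LD3_c13)) = (LP (LK LD1_c10 LD2_c36 LD3_c13)) :=
  Lre_c IH (LK LD1_c19 LD2_c12 LD3_c13) (LK LD1_c10 LD2_c36 LD3_c13) Lrfl Lrfl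
theorem f392993 : Led Lsl_bt (LP (LK LD1_c19 LD2_c12 LD3_c13)) = (LP (LK LD1_c16 LD2_c44 LD3_c46)) :=
  Lgr Lrot92 (Lpr_ct (f226976 IH) (Lpe (f391267 IH) (Lpr_cf (K17.f286933 IH) (Lpe (f286593 IH) (Lpr_gt (K18.f286600 IH) (Lpr_ct (K18.f280055 IH) (Lpr_gt (f392991 IH) (Lpe (f319187 IH) (Lpr_bt (K30.f319152 IH) (Lpr_gt (f179767 IH) (Lpn (LP (LK LD1_c16 LD2_c44 LD3_c46)))))))))))))
theorem f253937 : Led Lsl_dt (LP (LK LD1_c8 LD2_c11 LD3_c3)) = (LP (LK LD1_c5 LD2_c22 LD3_c58)) :=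
  Lgr Lrot57 (Lpe (K13.f246292 IH) (Lpe (K13.f183240 IH) (Lpr_gt (K14.f246296 IH) (Lpr_dt (K14.f253930 IH) (Lpe (K14.f253905 IH) (Lpr_dt (K10.f55106 IH) (Lpe (K9.f167792 IH) (Lpe (K10.f167797 IH) (Lpr_gf (K15.f217824 IH) (Lpn (LP (LK LD1_c5 LD2_c22 LD3_c58))))))))))))
theorem f266803 : Led Lsl_bt (LP (LK LD1_c5 LD2_c22 LD3_c58)) = (LP (LK LD1_c4 LD2_c55 LD3_c5)) :=
  Lgr Lrot95 (Lpe (f253937 IH) (Lpr_bf (K15.f266778 IH) (Lpe (K25.f266466 IH) (Lpn (LP (LK LD1_c4 LD2_c55 LD3_c5))))))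
theorem f274946 : Led Lsl_bt (LP (LK LD1_c4 LD2_c29 LD3_c7)) = (LP (LK LD1_c8 LD2_c56 LD3_c29)) :=
  Lre_b IH (LK LD1_c4 LD2_c29 LD3_c7) (LK LD1_c8 LD2_c56 LD3_c29) Lrfl Lrfl
theorem f274947 : Led Lsl_cf (LP (LK LD1_c5 LD2_c22 LD3_c57)) = (LP (LK LD1_c8 LD2_c56 LD3_c29)) :=
  Lgr Lrot97 (Lpr_bt (K17.f217677 IH) (Lpr_ct (K15.f217826 IH) (Lpr_bt (f266803 IH) (Lpr_ct (K16.f274944 IH) (Lpr_bt (f274946 IH) (Lpn (LP (LK LD1_c8 LD2_c56 LD3_c29))))))))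
theorem f392181 : Led Lsl_ct (LP (LK LD1_c8 LD2_c56 LD3_c47)) = (LP (LK LD1_c4 LD2_c29 LD3_c16)) :=
  Lre_c IH (LK LD1_c8 LD2_c56 LD3_c47) (LK LD1_c4 LD2_c29 LD3_c16) Lrfl Lrfl
theorem f392998 : Led Lsl_gf (LP (LK LD1_c8 LD2_c56 LD3_c47)) = (LP (LK LD1_c16 LD2_c44 LD3_c46)) :=
  Lgr Lrot181 (Lpr_ct (f392181 IH) (Lpr_gt (f225828 IH) (Lpe (K30.f226403 IH) (Lpr_bt (K30.f245065 IH) (Lpr_gt (K16.f179772 IH) (Lpe (K17.f245078 IH) (Lpe (f274947 IH) (Lpr_gt (f220741 IH) (Lpe (f226976 IH) (Lpr_bt (f392993 IH) (Lpn (LP (LK LD1_c16 LD2_c44 LD3_c46)))))))))))))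
theorem f245328 : Led Lsl_gt (LP (LK LD1_c26 LD2_c43 LD3_c33)) = (LP (LK LD1_c16 LD2_c44 LD3_c35)) :=
  Lre_g IH (LK LD1_c26 LD2_c43 LD3_c33) (LK LD1_c16 LD2_c44 LD3_c35) Lrfl Lrfl
theorem f399462 : Led Lsl_ct (LP (LK LD1_c16 LD2_c46 LD3_c58)) = (LP (LK LD1_c26 LD2_c43 LD3_c33)) :=
  Lgr Lrot152 (Lpr_gf (f399441 IH) (Lpe (f245458 IH) (Lpe (f392998 IH) (Lpr_ct (f392181 IH) (Lpr_gt (f225828 IH) (Lpr_ct (K30.f177930 IH) (Lpe (f226404 IH) (Lpe (f245307 IH) (Lpe (f245328 IH) (Lpn (LP (LK LD1_c26 LD2_c43 LD3_c33))))))))))))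
theorem f399467 : Led Lsl_cf (LP (LK LD1_c16 LD2_c46 LD3_c58)) = (LP (LK LD1_c26 LD2_c43 LD3_c33)) :=
  Lgr Lrot11 (Lpr_ct (f399462 IH) (Lpn (LP (LK LD1_c26 LD2_c43 LD3_c33))))
theorem f245385 : Led Lsl_gt (LP (LK LD1_c19 LD2_c30 LD3_c44)) = (LP (LK LD1_c26 LD2_c43 LD3_c33)) :=
  Lgr Lrot5 (Lpr_ft (f245379 IH) (Lpr_at (f245232 IH) (Lpe (f245328 IH) (Lpn (LP (LK LD1_c26 LD2_c43 LD3_c33))))))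
theorem f245318 : Led Lsl_ct (LP (LK LD1_c10 LD2_c47 LD3_c7)) = (LP (LK LD1_c19 LD2_c30 LD3_c44)) :=
  Lre_c IH (LK LD1_c10 LD2_c47 LD3_c7) (LK LD1_c19 LD2_c30 LD3_c44) Lrfl Lrfl
theorem f399480 : Led Lsl_gt (LP (LK LD1_c16 LD2_c44 LD3_c33)) = (LP (LK LD1_c10 LD2_c47 LD3_c7)) :=
  Lgr Lrot9 (Lpe (f399406 IH) (Lpe (f281711 IH) (Lpr_ct (K20.f221398 IH) (Lpr_gt (K20.f281621 IH) (Lpr_ct (f281623 IH) (Lpe (f281624 IH) (Lpr_cf (f399467 IH) (Lpe (f245385 IH) (Lpe (f245318 IH) (Lpn (LP (LK LD1_c10 LD2_c47 LD3_c7))))))))))))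
theorem f281721 : Led Lsl_dt (LP (LK LD1_c5 LD2_c34 LD3_c11)) = (LP (LK LD1_c2 LD2_c43 LD3_c4)) :=
  Lre_d IH (LK LD1_c5 LD2_c34 LD3_c11) (LK LD1_c2 LD2_c43 LD3_c4) Lrfl Lrfl
theorem f387594 : Led Lsl_bt (LP (LK LD1_c10 LD2_c59 LD3_c40)) = (LP (LK LD1_c19 LD2_c47 LD3_c25)) :=
  Lgr Lrot127 (Lpr_bf (K30.f387590 IH) (Lpn (LP (LK LD1_c19 LD2_c47 LD3_c25))))
theorem f380868 : Led Lsl_bt (LP (LK LD1_c5 LD2_c33 LD3_c6)) = (LP (LK LD1_c10 LD2_c58 LD3_c7)) :=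
  Lre_b IH (LK LD1_c5 LD2_c33 LD3_c6) (LK LD1_c10 LD2_c58 LD3_c7) Lrfl Lrfl
theorem f390165 : Led Lsl_gt (LP (LK LD1_c19 LD2_c47 LD3_c25)) = (LP (LK LD1_c10 LD2_c58 LD3_c7)) :=
  Lgr Lrot164 (Lpe (f387594 IH) (Lpr_ct (f390138 IH) (Lpe (f289527 IH) (Lpe (K20.f165024 IH) (Lpe (K27.f380869 IH) (Lpe (K27.f380864 IH) (Lpr_ct (K27.f380865 IH) (Lpe (K27.f380861 IH) (Lpe (K27.f380860 IH) (Lpr_bt (f380868 IH) (Lpn (LP (LK LD1_c10 LD2_c58 LD3_c7)))))))))))))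
theorem f390167 : Led Lsl_gf (LP (LK LD1_c5 LD2_c34 LD3_c11)) = (LP (LK LD1_c10 LD2_c58 LD3_c7)) :=
  Lgr Lrot76 (Lpe (K30.f387582 IH) (Lpr_ff (K30.f387577 IH) (Lpr_gt (f390165 IH) (Lpn (LP (LK LD1_c10 LD2_c58 LD3_c7))))))
theorem f174477 : Led Lsl_gt (LP (LK LD1_c16 LD2_c47 LD3_c2)) = (LP (LK LD1_c8 LD2_c58 LD3_c6)) :=
  Lre_g IH (LK LD1_c16 LD2_c47 LD3_c2) (LK LD1_c8 LD2_c58 LD3_c6) Lrfl Lrfl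
theorem f390169 : Led Lsl_cf (LP (LK LD1_c16 LD2_c47 LD3_c2)) = (LP (LK LD1_c10 LD2_c58 LD3_c7)) :=
  Lgr Lrot169 (Lpr_gt (f174477 IH) (Lpr_ct (K20.f174456 IH) (Lpe (K24.f174506 IH) (Lpe (f169284 IH) (Lpe (K24.f169287 IH) (Lpr_cf (K24.f380731 IH) (Lpe (K30.f380748 IH) (Lpe (f380749 IH) (Lpr_gt (f390165 IH) (Lpn (LP (LK LD1_c10 LD2_c58 LD3_c7))))))))))))
theorem f390174 : Led Lsl_ct (LP (LK LD1_c16 LD2_c47 LD3_c2)) = (LP (LK LD1_c10 LD2_c58 LD3_c7)) :=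
  Lgr Lrot59 (Lpr_cf (f390169 IH) (Lpn (LP (LK LD1_c10 LD2_c58 LD3_c7))))
theorem f245329 : Led Lsl_dt (LP (LK LD1_c26 LD2_c44 LD3_c2)) = (LP (LK LD1_c16 LD2_c45 LD3_c8)) :=
  Lre_d IH (LK LD1_c26 LD2_c44 LD3_c2) (LK LD1_c16 LD2_c45 LD3_c8) Lrfl Lrfl
theorem f399422 : Led Lsl_gt (LP (LK LD1_c16 LD2_c47 LD3_c3)) = (LP (LK LD1_c26 LD2_c44 LD3_c2)) :=
  Lgr Lrot189 (Lpe (K20.f174467 IH) (Lpe (f174477 IH) (Lpr_ct (f390174 IH) (Lpe (f390167 IH) (Lpr_dt (f281721 IH) (Lpr_gt (f224497 IH) (Lpr_dt (f224498 IH) (Lpr_ct (f399418 IH) (Lpe (f245329 IH) (Lpn (LP (LK LD1_c26 LD2_c44 LD3_c2))))))))))))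
theorem f280783 : Led Lsl_at (LP (LK LD1_c10 LD2_c55 LD3_c11)) = (LP (LK LD1_c19 LD2_c43 LD3_c6)) :=
  Lre_a IH (LK LD1_c10 LD2_c55 LD3_c11) (LK LD1_c19 LD2_c43 LD3_c6) Lrfl Lrfl
theorem f280784 : Led Lsl_ff (LP (LK LD1_c10 LD2_c55 LD3_c11)) = (LP (LK LD1_c16 LD2_c47 LD3_c3)) :=
  Lgr Lrot103 (Lpr_at (f280783 IH) (Lpr_cf (K20.f280777 IH) (Lpe (K20.f280776 IH) (Lpe (K20.f262875 IH) (Lpe (K20.f280770 IH) (Lpe (K20.f169286 IH) (Lpe (K20.f217963 IH) (Lpe (K20.f174456 IH) (Lpe (K20.f174493 IH) (Lpn (LP (LK LD1_c16 LD2_c47 LD3_c3))))))))))))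
theorem f399424 : Led Lsl_gf (LP (LK LD1_c19 LD2_c43 LD3_c6)) = (LP (LK LD1_c26 LD2_c44 LD3_c2)) :=
  Lgr Lrot76 (Lpe (f280783 IH) (Lpr_ff (f280784 IH) (Lpr_gt (f399422 IH) (Lpn (LP (LK LD1_c26 LD2_c44 LD3_c2))))))
theorem f280825 : Led Lsl_dt (LP (LK LD1_c2 LD2_c42 LD3_c0)) = (LP (LK LD1_c5 LD2_c31 LD3_c38)) :=
  Lre_d IH (LK LD1_c2 LD2_c42 LD3_c0) (LK LD1_c5 LD2_c31 LD3_c38) Lrfl Lrfl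
theorem f245331 : Led Lsl_dt (LP (LK LD1_c16 LD2_c45 LD3_c8)) = (LP (LK LD1_c26 LD2_c44 LD3_c2)) :=
  Lre_d IH (LK LD1_c16 LD2_c45 LD3_c8) (LK LD1_c26 LD2_c44 LD3_c2) Lrfl Lrfl
theorem f174626 : Led Lsl_gt (LP (LK LD1_c4 LD2_c29 LD3_c18)) = (LP (LK LD1_c8 LD2_c56 LD3_c51)) :=
  Lre_g IH (LK LD1_c4 LD2_c29 LD3_c18) (LK LD1_c8 LD2_c56 LD3_c51) Lrfl Lrfl
theorem f399426 : Led Lsl_df (LP (LK LD1_c4 LD2_c29 LD3_c56)) = (LP (LK LD1_c8 LD2_c56 LD3_c51)) :=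
  Lgr Lrot153 (Lpe (f280823 IH) (Lpr_dt (f280825 IH) (Lpe (K20.f280774 IH) (Lpe (K20.f280775 IH) (Lpr_gf (f399424 IH) (Lpe (f245331 IH) (Lpe (f245325 IH) (Lpe (K30.f174635 IH) (Lpr_gt (f174626 IH) (Lpn (LP (LK LD1_c8 LD2_c56 LD3_c51))))))))))))
theorem f399428 : Led Lsl_dt (LP (LK LD1_c4 LD2_c29 LD3_c56)) = (LP (LK LD1_c8 LD2_c56 LD3_c51)) :=
  Lgr Lrot42 (Lpr_df (f399426 IH) (Lpn (LP (LK LD1_c8 LD2_c56 LD3_c51))))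
theorem f399482 : Led Lsl_gt (LP (LK LD1_c8 LD2_c56 LD3_c51)) = (LP (LK LD1_c5 LD2_c29 LD3_c10)) :=
  Lgr Lrot49 (Lpe (f399428 IH) (Lpe (K30.f217951 IH) (Lpe (f169284 IH) (Lpr_gt (f169310 IH) (Lpr_dt (f399406 IH) (Lpr_gt (f399480 IH) (Lpr_dt (K30.f245296 IH) (Lpe (K30.f244984 IH) (Lpe (f244985 IH) (Lpn (LP (LK LD1_c5 LD2_c29 LD3_c10))))))))))))
theorem f380788 : Led Lsl_dt (LP (LK LD1_c5 LD2_c32 LD3_c55)) = (LP (LK LD1_c10 LD2_c57 LD3_c33)) :=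
  Lre_d IH (LK LD1_c5 LD2_c32 LD3_c55) (LK LD1_c10 LD2_c57 LD3_c33) Lrfl Lrfl
theorem f245319 : Led Lsl_at (LP (LK LD1_c16 LD2_c45 LD3_c0)) = (LP (LK LD1_c8 LD2_c56 LD3_c53)) :=
  Lre_a IH (LK LD1_c16 LD2_c45 LD3_c0) (LK LD1_c8 LD2_c56 LD3_c53) Lrfl Lrfl
theorem f245320 : Led Lsl_ft (LP (LK LD1_c10 LD2_c49 LD3_c39)) = (LP (LK LD1_c16 LD2_c45 LD3_c0)) :=
  Lgr Lrot101 (Lpe (K30.f245314 IH) (Lpr_ff (K30.f245315 IH) (Lpe (f245319 IH) (Lpn (LP (LK LD1_c16 LD2_c45 LD3_c0))))))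
theorem f226435 : Led Lsl_gt (LP (LK LD1_c16 LD2_c45 LD3_c9)) = (LP (LK LD1_c8 LD2_c56 LD3_c53)) :=
  Lre_g IH (LK LD1_c16 LD2_c45 LD3_c9) (LK LD1_c8 LD2_c56 LD3_c53) Lrfl Lrfl
theorem f245498 : Led Lsl_gt (LP (LK LD1_c10 LD2_c49 LD3_c39)) = (LP (LK LD1_c16 LD2_c45 LD3_c9)) :=
  Lgr Lrot5 (Lpr_ft (f245320 IH) (Lpr_at (f245319 IH) (Lpe (f226435 IH) (Lpn (LP (LK LD1_c16 LD2_c45 LD3_c9))))))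
theorem f399487 : Led Lsl_cf (LP (LK LD1_c10 LD2_c57 LD3_c33)) = (LP (LK LD1_c16 LD2_c45 LD3_c9)) :=
  Lgr Lrot99 (Lpe (f380788 IH) (Lpe (K24.f380741 IH) (Lpe (K24.f280714 IH) (Lpe (K20.f221407 IH) (Lpr_gf (f280823 IH) (Lpr_df (f399426 IH) (Lpr_gt (f399482 IH) (Lpr_ct (K30.f245305 IH) (Lpr_gt (f245498 IH) (Lpn (LP (LK LD1_c16 LD2_c45 LD3_c9))))))))))))
theorem f399496 : Led Lsl_gt (LP (LK LD1_c10 LD2_c57 LD3_c33)) = (LP (LK LD1_c5 LD2_c34 LD3_c25)) :=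
  Lgr Lrot94 (Lpr_cf (f399487 IH) (Lpr_gt (f226435 IH) (Lpr_dt (K30.f245298 IH) (Lpe (f388305 IH) (Lpr_dt (f281585 IH) (Lpe (f281586 IH) (Lpe (f392170 IH) (Lpe (f392235 IH) (Lpr_df (K30.f172952 IH) (Lpn (LP (LK LD1_c5 LD2_c34 LD3_c25))))))))))))
theorem f387572 : Led Lsl_ct (LP (LK LD1_c11 LD2_c0 LD3_c26)) = (LP (LK LD1_c5 LD2_c34 LD3_c9)) :=
  Lre_c IH (LK LD1_c11 LD2_c0 LD3_c26) (LK LD1_c5 LD2_c34 LD3_c9) Lrfl Lrfl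
theorem f387574 : Led Lsl_cf (LP (LK LD1_c10 LD2_c54 LD3_c49)) = (LP (LK LD1_c10 LD2_c57 LD3_c32)) :=
  Lgr Lrot108 (Lpr_ft (f387573 IH) (Lpr_ct (f387572 IH) (Lpr_ft (K30.f387566 IH) (Lpn (LP (LK LD1_c10 LD2_c57 LD3_c32))))))
theorem f281720 : Led Lsl_dt (LP (LK LD1_c5 LD2_c31 LD3_c34)) = (LP (LK LD1_c10 LD2_c54 LD3_c51)) :=
  Lre_d IH (LK LD1_c5 LD2_c31 LD3_c34) (LK LD1_c10 LD2_c54 LD3_c51) Lrfl Lrfl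
theorem f172963 : Led Lsl_dt (LP (LK LD1_c19 LD2_c33 LD3_c26)) = (LP (LK LD1_c10 LD2_c49 LD3_c16)) :=
  Lre_d IH (LK LD1_c19 LD2_c33 LD3_c26) (LK LD1_c10 LD2_c49 LD3_c16) Lrfl Lrfl
theorem f399498 : Led Lsl_gt (LP (LK LD1_c10 LD2_c54 LD3_c51)) = (LP (LK LD1_c19 LD2_c33 LD3_c26)) :=
  Lgr Lrot49 (Lpe (f281720 IH) (Lpe (K30.f224532 IH) (Lpr_cf (f387574 IH) (Lpr_gt (K30.f380748 IH) (Lpr_dt (f380788 IH) (Lpr_gt (f399496 IH) (Lpe (K30.f172952 IH) (Lpe (K30.f172948 IH) (Lpe (f172963 IH) (Lpn (LP (LK LD1_c19 LD2_c33 LD3_c26))))))))))))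
theorem f387767 : Led Lsl_dt (LP (LK LD1_c5 LD2_c29 LD3_c7)) = (LP (LK LD1_c10 LD2_c49 LD3_c32)) :=
  Lre_d IH (LK LD1_c5 LD2_c29 LD3_c7) (LK LD1_c10 LD2_c49 LD3_c32) Lrfl Lrfl
theorem f387768 : Led Lsl_ct (LP (LK LD1_c10 LD2_c49 LD3_c32)) = (LP (LK LD1_c19 LD2_c34 LD3_c2)) :=
  Lre_c IH (LK LD1_c10 LD2_c49 LD3_c32) (LK LD1_c19 LD2_c34 LD3_c2) Lrfl Lrfl
theorem f224502 : Led Lsl_dt (LP (LK LD1_c5 LD2_c34 LD3_c10)) = (LP (LK LD1_c11 LD2_c0 LD3_c30)) :=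
  Lre_d IH (LK LD1_c5 LD2_c34 LD3_c10) (LK LD1_c11 LD2_c0 LD3_c30) Lrfl Lrfl
theorem f390709 : Led Lsl_ft (LP (LK LD1_c11 LD2_c0 LD3_c30)) = (LP (LK LD1_c19 LD2_c33 LD3_c33)) :=
  Lgr Lrot54 (Lpe (f224502 IH) (Lpe (f390643 IH) (Lpr_df (f390703 IH) (Lpn (LP (LK LD1_c19 LD2_c33 LD3_c33))))))
theorem f392630 : Led Lsl_ff (LP (LK LD1_c11 LD2_c0 LD3_c30)) = (LP (LK LD1_c19 LD2_c33 LD3_c33)) :=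
  Lgr Lrot3 (Lpr_ft (f390709 IH) (Lpn (LP (LK LD1_c19 LD2_c33 LD3_c33))))
theorem f392632 : Led Lsl_at (LP (LK LD1_c11 LD2_c0 LD3_c30)) = (LP (LK LD1_c19 LD2_c33 LD3_c34)) :=
  Lgr Lrot66 (Lpr_ff (f392630 IH) (Lpe (f390699 IH) (Lpr_ff (f390662 IH) (Lpn (LP (LK LD1_c19 LD2_c33 LD3_c34))))))
theorem f387557 : Led Lsl_ct (LP (LK LD1_c5 LD2_c34 LD3_c9)) = (LP (LK LD1_c11 LD2_c0 LD3_c26)) :=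
  Lre_c IH (LK LD1_c5 LD2_c34 LD3_c9) (LK LD1_c11 LD2_c0 LD3_c26) Lrfl Lrfl
theorem f390658 : Led Lsl_df (LP (LK LD1_c11 LD2_c0 LD3_c26)) = (LP (LK LD1_c19 LD2_c33 LD3_c34)) :=
  Lgr Lrot38 (Lpr_dt (f390651 IH) (Lpn (LP (LK LD1_c19 LD2_c33 LD3_c34))))
theorem f392464 : Led Lsl_gf (LP (LK LD1_c19 LD2_c33 LD3_c34)) = (LP (LK LD1_c10 LD2_c49 LD3_c32)) :=
  Lgr Lrot143 (Lpe (f390658 IH) (Lpe (f387557 IH) (Lpe (K30.f387576 IH) (Lpr_gf (f390837 IH) (Lpe (f392170 IH) (Lpe (f392235 IH) (Lpe (K30.f172948 IH) (Lpr_gt (f392462 IH) (Lpr_dt (f387767 IH) (Lpn (LP (LK LD1_c10 LD2_c49 LD3_c32))))))))))))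
theorem f392636 : Led Lsl_gf (LP (LK LD1_c10 LD2_c49 LD3_c32)) = (LP (LK LD1_c19 LD2_c33 LD3_c33)) :=
  Lgr Lrot47 (Lpe (f392464 IH) (Lpe (f392632 IH) (Lpr_ff (f392630 IH) (Lpn (LP (LK LD1_c19 LD2_c33 LD3_c33))))))
theorem f390707 : Led Lsl_dt (LP (LK LD1_c10 LD2_c59 LD3_c29)) = (LP (LK LD1_c19 LD2_c33 LD3_c33)) :=
  Lgr Lrot42 (Lpr_df (f390703 IH) (Lpn (LP (LK LD1_c19 LD2_c33 LD3_c33))))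
theorem f169285 : Led Lsl_dt (LP (LK LD1_c8 LD2_c57 LD3_c51)) = (LP (LK LD1_c4 LD2_c29 LD3_c50)) :=
  Lre_d IH (LK LD1_c8 LD2_c57 LD3_c51) (LK LD1_c4 LD2_c29 LD3_c50) Lrfl Lrfl
theorem f262873 : Led Lsl_ct (LP (LK LD1_c16 LD2_c46 LD3_c34)) = (LP (LK LD1_c8 LD2_c57 LD3_c51)) :=
  Lre_c IH (LK LD1_c16 LD2_c46 LD3_c34) (LK LD1_c8 LD2_c57 LD3_c51) Lrfl Lrfl
theorem f392638 : Led Lsl_gt (LP (LK LD1_c19 LD2_c34 LD3_c2)) = (LP (LK LD1_c16 LD2_c46 LD3_c34)) :=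
  Lgr Lrot150 (Lpe (f387768 IH) (Lpr_gf (f392636 IH) (Lpe (f390707 IH) (Lpr_gt (f390646 IH) (Lpr_ct (f217964 IH) (Lpr_gt (K20.f174507 IH) (Lpr_ct (K20.f169286 IH) (Lpe (f169285 IH) (Lpe (f262873 IH) (Lpn (LP (LK LD1_c16 LD2_c46 LD3_c34))))))))))))
theorem f280780 : Led Lsl_ct (LP (LK LD1_c19 LD2_c43 LD3_c6)) = (LP (LK LD1_c26 LD2_c45 LD3_c1)) :=
  Lgr Lrot59 (Lpr_cf (K20.f280777 IH) (Lpn (LP (LK LD1_c26 LD2_c45 LD3_c1))))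
theorem f280789 : Led Lsl_dt (LP (LK LD1_c10 LD2_c54 LD3_c59)) = (LP (LK LD1_c19 LD2_c43 LD3_c6)) :=
  Lre_d IH (LK LD1_c10 LD2_c54 LD3_c59) (LK LD1_c19 LD2_c43 LD3_c6) Lrfl Lrfl
theorem f174472 : Led Lsl_gt (LP (LK LD1_c8 LD2_c58 LD3_c6)) = (LP (LK LD1_c16 LD2_c47 LD3_c1)) :=
  Lre_g IH (LK LD1_c8 LD2_c58 LD3_c6) (LK LD1_c16 LD2_c47 LD3_c1) Lrfl Lrfl
theorem f280842 : Led Lsl_gf (LP (LK LD1_c10 LD2_c54 LD3_c59)) = (LP (LK LD1_c16 LD2_c47 LD3_c1)) :=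
  Lgr Lrot76 (Lpe (f280833 IH) (Lpr_ff (K20.f280804 IH) (Lpr_gt (f174472 IH) (Lpn (LP (LK LD1_c16 LD2_c47 LD3_c1))))))
theorem f245350 : Led Lsl_gt (LP (LK LD1_c10 LD2_c49 LD3_c48)) = (LP (LK LD1_c19 LD2_c34 LD3_c29)) :=
  Lre_g IH (LK LD1_c10 LD2_c49 LD3_c48) (LK LD1_c19 LD2_c34 LD3_c29) Lrfl Lrfl
theorem f245351 : Led Lsl_gt (LP (LK LD1_c19 LD2_c34 LD3_c29)) = (LP (LK LD1_c26 LD2_c43 LD3_c59)) :=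
  Lgr Lrot46 (Lpe (f245350 IH) (Lpr_ft (K30.f245323 IH) (Lpr_at (K30.f245336 IH) (Lpn (LP (LK LD1_c26 LD2_c43 LD3_c59))))))
theorem f387745 : Led Lsl_df (LP (LK LD1_c19 LD2_c34 LD3_c29)) = (LP (LK LD1_c16 LD2_c47 LD3_c1)) :=
  Lgr Lrot153 (Lpr_gt (f245351 IH) (Lpr_dt (K30.f245270 IH) (Lpe (f245239 IH) (Lpe (f245238 IH) (Lpe (K30.f245266 IH) (Lpe (f245268 IH) (Lpr_gf (f387743 IH) (Lpe (K20.f174456 IH) (Lpr_gt (f174472 IH) (Lpn (LP (LK LD1_c16 LD2_c47 LD3_c1))))))))))))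
theorem f387758 : Led Lsl_dt (LP (LK LD1_c19 LD2_c34 LD3_c29)) = (LP (LK LD1_c16 LD2_c47 LD3_c1)) :=
  Lgr Lrot42 (Lpr_df (f387745 IH) (Lpn (LP (LK LD1_c16 LD2_c47 LD3_c1))))
theorem f244680 : Led Lsl_gt (LP (LK LD1_c28 LD2_c53 LD3_c42)) = (LP (LK LD1_c19 LD2_c30 LD3_c51)) :=
  Lre_g IH (LK LD1_c28 LD2_c53 LD3_c42) (LK LD1_c19 LD2_c30 LD3_c51) Lrfl Lrfl
theorem f245392 : Led Lsl_gf (LP (LK LD1_c28 LD2_c53 LD3_c42)) = (LP (LK LD1_c19 LD2_c34 LD3_c31)) :=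
  Lgr Lrot47 (Lpr_gt (f244680 IH) (Lpr_af (f245356 IH) (Lpr_ff (f245383 IH) (Lpn (LP (LK LD1_c19 LD2_c34 LD3_c31))))))
theorem f392644 : Led Lsl_df (LP (LK LD1_c19 LD2_c34 LD3_c2)) = (LP (LK LD1_c28 LD2_c53 LD3_c42)) :=
  Lgr Lrot153 (Lpr_gt (f392638 IH) (Lpr_dt (K20.f280776 IH) (Lpe (f280780 IH) (Lpe (f280789 IH) (Lpr_gf (f280842 IH) (Lpe (f387758 IH) (Lpe (f245350 IH) (Lpe (f245339 IH) (Lpe (f245392 IH) (Lpn (LP (LK LD1_c28 LD2_c53 LD3_c42))))))))))))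
theorem f244699 : Led Lsl_gt (LP (LK LD1_c10 LD2_c47 LD3_c11)) = (LP (LK LD1_c19 LD2_c30 LD3_c49)) :=
  Lre_g IH (LK LD1_c10 LD2_c47 LD3_c11) (LK LD1_c19 LD2_c30 LD3_c49) Lrfl Lrfl
theorem f245373 : Led Lsl_gt (LP (LK LD1_c19 LD2_c30 LD3_c49)) = (LP (LK LD1_c26 LD2_c43 LD3_c27)) :=
  Lgr Lrot46 (Lpe (f244699 IH) (Lpr_ft (K30.f245366 IH) (Lpr_at (K30.f245365 IH) (Lpn (LP (LK LD1_c26 LD2_c43 LD3_c27))))))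
theorem f399504 : Led Lsl_cf (LP (LK LD1_c10 LD2_c54 LD3_c51)) = (LP (LK LD1_c19 LD2_c30 LD3_c49)) :=
  Lgr Lrot166 (Lpr_gt (f399498 IH) (Lpr_dt (f172963 IH) (Lpr_gt (f392462 IH) (Lpr_dt (f387767 IH) (Lpr_ct (f387768 IH) (Lpr_df (f392644 IH) (Lpr_gf (f245392 IH) (Lpr_df (f245243 IH) (Lpe (f245373 IH) (Lpn (LP (LK LD1_c19 LD2_c30 LD3_c49))))))))))))
theorem f281722 : Led Lsl_dt (LP (LK LD1_c10 LD2_c54 LD3_c51)) = (LP (LK LD1_c5 LD2_c31 LD3_c34)) :=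
  Lre_d IH (LK LD1_c10 LD2_c54 LD3_c51) (LK LD1_c5 LD2_c31 LD3_c34) Lrfl Lrfl
theorem f220903 : Led Lsl_ct (LP (LK LD1_c2 LD2_c41 LD3_c60)) = (LP (LK LD1_c5 LD2_c31 LD3_c34)) :=
  Lre_c IH (LK LD1_c2 LD2_c41 LD3_c60) (LK LD1_c5 LD2_c31 LD3_c34) Lrfl Lrfl
theorem f244953 : Led Lsl_gt (LP (LK LD1_c10 LD2_c47 LD3_c10)) = (LP (LK LD1_c5 LD2_c27 LD3_c59)) :=
  Lre_g IH (LK LD1_c10 LD2_c47 LD3_c10) (LK LD1_c5 LD2_c27 LD3_c59) Lrfl Lrfl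
theorem f399513 : Led Lsl_dt (LP (LK LD1_c5 LD2_c31 LD3_c7)) = (LP (LK LD1_c10 LD2_c47 LD3_c10)) :=
  Lgr Lrot6 (Lpr_gt (K24.f220907 IH) (Lpr_ct (K20.f220883 IH) (Lpr_gt (K20.f178873 IH) (Lpr_ct (f220903 IH) (Lpe (f281722 IH) (Lpr_cf (f399504 IH) (Lpe (f244699 IH) (Lpe (K30.f244681 IH) (Lpe (f244953 IH) (Lpn (LP (LK LD1_c10 LD2_c47 LD3_c10))))))))))))
theorem f280703 : Led Lsl_ff (LP (LK LD1_c2 LD2_c42 LD3_c0)) = (LP (LK LD1_c4 LD2_c29 LD3_c58)) :=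
  Lgr Lrot23 (Lpr_ct (K20.f221407 IH) (Lpr_ft (K20.f280698 IH) (Lpr_ct (f280661 IH) (Lpn (LP (LK LD1_c4 LD2_c29 LD3_c58))))))
theorem f281234 : Led Lsl_at (LP (LK LD1_c2 LD2_c42 LD3_c0)) = (LP (LK LD1_c1 LD2_c17 LD3_c38)) :=
  Lre_a IH (LK LD1_c2 LD2_c42 LD3_c0) (LK LD1_c1 LD2_c17 LD3_c38) Lrfl Lrfl
theorem f281706 : Led Lsl_gf (LP (LK LD1_c2 LD2_c41 LD3_c61)) = (LP (LK LD1_c4 LD2_c29 LD3_c58)) :=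
  Lgr Lrot47 (Lpr_gt (K27.f221294 IH) (Lpe (f281234 IH) (Lpr_ff (f280703 IH) (Lpn (LP (LK LD1_c4 LD2_c29 LD3_c58))))))
theorem f172879 : Led Lsl_gt (LP (LK LD1_c5 LD2_c29 LD3_c13)) = (LP (LK LD1_c2 LD2_c40 LD3_c50)) :=
  Lre_g IH (LK LD1_c5 LD2_c29 LD3_c13) (LK LD1_c2 LD2_c40 LD3_c50) Lrfl Lrfl
theorem f399537 : Led Lsl_dt (LP (LK LD1_c2 LD2_c41 LD3_c61)) = (LP (LK LD1_c5 LD2_c29 LD3_c13)) :=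
  Lgr Lrot57 (Lpr_gf (f281706 IH) (Lpe (f280661 IH) (Lpe (K24.f280728 IH) (Lpr_dt (f399513 IH) (Lpr_gt (f244953 IH) (Lpr_dt (K13.f245226 IH) (Lpe (K30.f172916 IH) (Lpe (K30.f172915 IH) (Lpe (f172879 IH) (Lpn (LP (LK LD1_c5 LD2_c29 LD3_c13))))))))))))
theorem f399542 : Led Lsl_df (LP (LK LD1_c2 LD2_c41 LD3_c61)) = (LP (LK LD1_c5 LD2_c29 LD3_c13)) :=
  Lgr Lrot38 (Lpr_dt (f399537 IH) (Lpn (LP (LK LD1_c5 LD2_c29 LD3_c13))))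
theorem f224516 : Led Lsl_dt (LP (LK LD1_c10 LD2_c54 LD3_c58)) = (LP (LK LD1_c5 LD2_c31 LD3_c37)) :=
  Lre_d IH (LK LD1_c10 LD2_c54 LD3_c58) (LK LD1_c5 LD2_c31 LD3_c37) Lrfl Lrfl
theorem f245453 : Led Lsl_ff (LP (LK LD1_c5 LD2_c29 LD3_c10)) = (LP (LK LD1_c8 LD2_c56 LD3_c49)) :=
  Lgr Lrot3 (Lpr_ft (f245444 IH) (Lpn (LP (LK LD1_c8 LD2_c56 LD3_c49))))
theorem f245468 : Led Lsl_at (LP (LK LD1_c5 LD2_c29 LD3_c10)) = (LP (LK LD1_c2 LD2_c40 LD3_c50)) :=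
  Lre_a IH (LK LD1_c5 LD2_c29 LD3_c10) (LK LD1_c2 LD2_c40 LD3_c50) Lrfl Lrfl
theorem f245470 : Led Lsl_gf (LP (LK LD1_c5 LD2_c29 LD3_c13)) = (LP (LK LD1_c8 LD2_c56 LD3_c49)) :=
  Lgr Lrot47 (Lpr_gt (f172879 IH) (Lpe (f245468 IH) (Lpr_ff (f245453 IH) (Lpn (LP (LK LD1_c8 LD2_c56 LD3_c49))))))
theorem f172961 : Led Lsl_dt (LP (LK LD1_c10 LD2_c49 LD3_c16)) = (LP (LK LD1_c19 LD2_c33 LD3_c26)) :=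
  Lre_d IH (LK LD1_c10 LD2_c49 LD3_c16) (LK LD1_c19 LD2_c33 LD3_c26) Lrfl Lrfl
theorem f399648 : Led Lsl_gf (LP (LK LD1_c10 LD2_c54 LD3_c58)) = (LP (LK LD1_c19 LD2_c33 LD3_c26)) :=
  Lgr Lrot143 (Lpr_dt (f224516 IH) (Lpe (K27.f224507 IH) (Lpr_df (f399542 IH) (Lpr_gf (f245470 IH) (Lpe (f245238 IH) (Lpe (K30.f245266 IH) (Lpe (K22.f179323 IH) (Lpr_gt (K30.f172947 IH) (Lpr_dt (f172961 IH) (Lpn (LP (LK LD1_c19 LD2_c33 LD3_c26))))))))))))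
theorem f245150 : Led Lsl_ct (LP (LK LD1_c5 LD2_c29 LD3_c7)) = (LP (LK LD1_c2 LD2_c40 LD3_c48)) :=
  Lre_c IH (LK LD1_c5 LD2_c29 LD3_c7) (LK LD1_c2 LD2_c40 LD3_c48) Lrfl Lrfl
theorem f245149 : Led Lsl_gt (LP (LK LD1_c2 LD2_c40 LD3_c48)) = (LP (LK LD1_c1 LD2_c17 LD3_c3)) :=
  Lre_g IH (LK LD1_c2 LD2_c40 LD3_c48) (LK LD1_c1 LD2_c17 LD3_c3) Lrfl Lrfl
theorem f244682 : Led Lsl_gt (LP (LK LD1_c19 LD2_c30 LD3_c50)) = (LP (LK LD1_c10 LD2_c47 LD3_c11)) :=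
  Lre_g IH (LK LD1_c19 LD2_c30 LD3_c50) (LK LD1_c10 LD2_c47 LD3_c11) Lrfl Lrfl
theorem f399666 : Led Lsl_ct (LP (LK LD1_c10 LD2_c54 LD3_c58)) = (LP (LK LD1_c19 LD2_c30 LD3_c50)) :=
  Lgr Lrot152 (Lpr_gf (f399648 IH) (Lpe (f172961 IH) (Lpr_gt (f392462 IH) (Lpr_ct (f245150 IH) (Lpr_gt (f245149 IH) (Lpr_ct (K30.f172916 IH) (Lpe (K13.f245226 IH) (Lpe (f244678 IH) (Lpe (f244682 IH) (Lpn (LP (LK LD1_c19 LD2_c30 LD3_c50))))))))))))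
theorem f399696 : Led Lsl_cf (LP (LK LD1_c10 LD2_c54 LD3_c58)) = (LP (LK LD1_c19 LD2_c30 LD3_c50)) :=
  Lgr Lrot11 (Lpr_ct (f399666 IH) (Lpn (LP (LK LD1_c19 LD2_c30 LD3_c50))))
theorem f245381 : Led Lsl_gf (LP (LK LD1_c19 LD2_c30 LD3_c50)) = (LP (LK LD1_c26 LD2_c43 LD3_c27)) :=
  Lgr Lrot47 (Lpr_gt (f244682 IH) (Lpe (K30.f244945 IH) (Lpr_ff (K30.f245370 IH) (Lpn (LP (LK LD1_c26 LD2_c43 LD3_c27))))))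
theorem f244830 : Led Lsl_gt (LP (LK LD1_c5 LD2_c27 LD3_c59)) = (LP (LK LD1_c10 LD2_c47 LD3_c9)) :=
  Lre_g IH (LK LD1_c5 LD2_c27 LD3_c59) (LK LD1_c10 LD2_c47 LD3_c9) Lrfl Lrfl
theorem f245224 : Led Lsl_gt (LP (LK LD1_c10 LD2_c47 LD3_c9)) = (LP (LK LD1_c16 LD2_c44 LD3_c31)) :=
  Lgr Lrot46 (Lpe (f244830 IH) (Lpr_ft (K13.f245211 IH) (Lpr_at (K13.f245215 IH) (Lpn (LP (LK LD1_c16 LD2_c44 LD3_c31))))))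
theorem f399705 : Led Lsl_dt (LP (LK LD1_c5 LD2_c31 LD3_c6)) = (LP (LK LD1_c10 LD2_c47 LD3_c9)) :=
  Lgr Lrot6 (Lpr_gt (K27.f281694 IH) (Lpr_ct (f280661 IH) (Lpe (f281706 IH) (Lpr_ct (K27.f224507 IH) (Lpe (f224516 IH) (Lpr_cf (f399696 IH) (Lpr_gf (f245381 IH) (Lpe (K30.f245252 IH) (Lpe (f245224 IH) (Lpn (LP (LK LD1_c10 LD2_c47 LD3_c9))))))))))))
theorem f245368 : Led Lsl_at (LP (LK LD1_c4 LD2_c29 LD3_c18)) = (LP (LK LD1_c8 LD2_c56 LD3_c49)) :=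
  Lre_a IH (LK LD1_c4 LD2_c29 LD3_c18) (LK LD1_c8 LD2_c56 LD3_c49) Lrfl Lrfl
theorem f245512 : Led Lsl_gt (LP (LK LD1_c5 LD2_c29 LD3_c12)) = (LP (LK LD1_c8 LD2_c56 LD3_c49)) :=
  Lgr Lrot46 (Lpe (K30.f172412 IH) (Lpr_ft (K13.f245290 IH) (Lpr_at (f245368 IH) (Lpn (LP (LK LD1_c8 LD2_c56 LD3_c49))))))
theorem f399720 : Led Lsl_dt (LP (LK LD1_c2 LD2_c41 LD3_c60)) = (LP (LK LD1_c5 LD2_c29 LD3_c12)) :=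
  Lgr Lrot57 (Lpe (K20.f178873 IH) (Lpe (K20.f220883 IH) (Lpr_gt (K27.f173048 IH) (Lpr_dt (f399705 IH) (Lpr_gt (f245224 IH) (Lpr_dt (K13.f245236 IH) (Lpe (K30.f245272 IH) (Lpe (K13.f245278 IH) (Lpe (f245512 IH) (Lpn (LP (LK LD1_c5 LD2_c29 LD3_c12))))))))))))
theorem f178871 : Led Lsl_bt (LP (LK LD1_c0 LD2_c58 LD3_c14)) = (LP (LK LD1_c0 LD2_c26 LD3_c27)) :=
  Lre_b IH (LK LD1_c0 LD2_c58 LD3_c14) (LK LD1_c0 LD2_c26 LD3_c27) Lrfl Lrfl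
theorem f33489 : Led Lsl_bt (LP (LK LD1_c10 LD2_c19 LD3_c15)) = (LP (LK LD1_c5 LD2_c14 LD3_c56)) :=
  Lre_b IH (LK LD1_c10 LD2_c19 LD3_c15) (LK LD1_c5 LD2_c14 LD3_c56) Lrfl Lrfl
theorem f33523 : Led Lsl_ct (LP (LK LD1_c18 LD2_c44 LD3_c11)) = (LP (LK LD1_c10 LD2_c19 LD3_c15)) :=
  Lre_c IH (LK LD1_c18 LD2_c44 LD3_c11) (LK LD1_c10 LD2_c19 LD3_c15) Lrfl Lrfl
theorem f33524 : Led Lsl_dt (LP (LK LD1_c28 LD2_c14 LD3_c14)) = (LP (LK LD1_c18 LD2_c44 LD3_c11)) :=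
  Lre_d IH (LK LD1_c28 LD2_c14 LD3_c14) (LK LD1_c18 LD2_c44 LD3_c11) Lrfl Lrfl
theorem f399734 : Led Lsl_gf (LP (LK LD1_c28 LD2_c14 LD3_c14)) = (LP (LK LD1_c19 LD2_c34 LD3_c16)) :=
  Lgr Lrot85 (Lpr_dt (f33524 IH) (Lpr_ct (f33523 IH) (Lpr_bt (f33489 IH) (Lpe (K12.f188900 IH) (Lpr_dt (K12.f188567 IH) (Lpr_ct (K15.f188561 IH) (Lpe (K10.f188557 IH) (Lpe (K12.f228792 IH) (Lpr_dt (K12.f178288 IH) (Lpr_ct (K22.f228806 IH) (Lpr_bt (f178871 IH) (Lpr_gt (K9.f178848 IH) (Lpr_dt (K9.f173038 IH) (Lpr_ct (K9.f173044 IH) (Lpr_bt (K24.f178872 IH) (Lpr_gt (K20.f178873 IH) (Lpr_dt (f399720 IH) (Lpr_ct (K30.f172865 IH) (Lpr_bt (K30.f172935 IH) (Lpn (LP (LK LD1_c19 LD2_c34 LD3_c16))))))))))))))))))))))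
theorem f422912 : Led Lsl_cf (LP (LK LD1_c20 LD2_c0 LD3_c59)) = (LP (LK LD1_c28 LD2_c14 LD3_c14)) :=
  Lgr Lrot125 (Lpr_gt (K30.f402634 IH) (Lpr_cf (K30.f422863 IH) (Lpr_bt (K30.f385501 IH) (Lpr_gt (K30.f168269 IH) (Lpe (K30.f172402 IH) (Lpr_ct (K30.f168551 IH) (Lpr_gt (K30.f172412 IH) (Lpe (K30.f172921 IH) (Lpr_bt (K30.f172935 IH) (Lpe (f399734 IH) (Lpn (LP (LK LD1_c28 LD2_c14 LD3_c14)))))))))))))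
theorem f271545 : Led Lsl_bt (LP (LK LD1_c18 LD2_c44 LD3_c12)) = (LP (LK LD1_c10 LD2_c19 LD3_c16)) :=
  Lre_b IH (LK LD1_c18 LD2_c44 LD3_c12) (LK LD1_c10 LD2_c19 LD3_c16) Lrfl Lrfl
theorem f271546 : Led Lsl_ct (LP (LK LD1_c28 LD2_c14 LD3_c13)) = (LP (LK LD1_c18 LD2_c44 LD3_c12)) :=
  Lre_c IH (LK LD1_c28 LD2_c14 LD3_c13) (LK LD1_c18 LD2_c44 LD3_c12) Lrfl Lrfl
theorem f183233 : Led Lsl_dt (LP (LK LD1_c0 LD2_c25 LD3_c51)) = (LP (LK LD1_c0 LD2_c14 LD3_c40)) :=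
  Lgr Lrot6 (Lpr_gt (K9.f183227 IH) (Lpr_ct (K9.f165158 IH) (Lpr_gt (K9.f178299 IH) (Lpe (K9.f181873 IH) (Lpe (K9.f20237 IH) (Lpe (K9.f164712 IH) (Lpe (K9.f168829 IH) (Lpe (K1.f40724 IH) (Lpe (K9.f168550 IH) (Lpn (LP (LK LD1_c0 LD2_c14 LD3_c40))))))))))))
theorem f172438 : Led Lsl_gt (LP (LK LD1_c0 LD2_c37 LD3_c0)) = (LP (LK LD1_c1 LD2_c19 LD3_c59)) :=
  Lre_g IH (LK LD1_c0 LD2_c37 LD3_c0) (LK LD1_c1 LD2_c19 LD3_c59) Lrfl Lrfl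
theorem f172844 : Led Lsl_dt (LP (LK LD1_c1 LD2_c19 LD3_c59)) = (LP (LK LD1_c2 LD2_c47 LD3_c12)) :=
  Lre_d IH (LK LD1_c1 LD2_c19 LD3_c59) (LK LD1_c2 LD2_c47 LD3_c12) Lrfl Lrfl
theorem f172845 : Led Lsl_ct (LP (LK LD1_c2 LD2_c47 LD3_c12)) = (LP (LK LD1_c5 LD2_c42 LD3_c28)) :=
  Lre_c IH (LK LD1_c2 LD2_c47 LD3_c12) (LK LD1_c5 LD2_c42 LD3_c28) Lrfl Lrfl
theorem f172846 : Led Lsl_bt (LP (LK LD1_c5 LD2_c42 LD3_c28)) = (LP (LK LD1_c11 LD2_c15 LD3_c9)) :=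
  Lre_b IH (LK LD1_c5 LD2_c42 LD3_c28) (LK LD1_c11 LD2_c15 LD3_c9) Lrfl Lrfl
theorem f172847 : Led Lsl_gt (LP (LK LD1_c11 LD2_c15 LD3_c9)) = (LP (LK LD1_c20 LD2_c10 LD3_c6)) :=
  Lre_g IH (LK LD1_c11 LD2_c15 LD3_c9) (LK LD1_c20 LD2_c10 LD3_c6) Lrfl Lrfl
theorem f271547 : Led Lsl_df (LP (LK LD1_c28 LD2_c14 LD3_c13)) = (LP (LK LD1_c20 LD2_c10 LD3_c6)) :=
  Lgr Lrot183 (Lpr_ct (f271546 IH) (Lpr_bt (f271545 IH) (Lpr_gt (K16.f271536 IH) (Lpr_dt (K13.f190852 IH) (Lpr_ct (K13.f187240 IH) (Lpe (K13.f197629 IH) (Lpr_gt (K15.f236936 IH) (Lpr_dt (K19.f255101 IH) (Lpr_ct (K14.f253578 IH) (Lpr_bt (K14.f253554 IH) (Lpe (K14.f253570 IH) (Lpr_dt (f183233 IH) (Lpr_ct (K9.f172418 IH) (Lpr_bt (K16.f172433 IH) (Lpr_gt (f172438 IH) (Lpr_dt (f172844 IH) (Lpr_ct (f172845 IH) (Lpr_bt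 (f172846 IH) (Lpr_gt (f172847 IH) (Lpn (LP (LK LD1_c20 LD2_c10 LD3_c6))))))))))))))))))))))
theorem f271557 : Led Lsl_bt (LP (LK LD1_c28 LD2_c14 LD3_c13)) = (LP (LK LD1_c18 LD2_c44 LD3_c11)) :=
  Lre_b IH (LK LD1_c28 LD2_c14 LD3_c13) (LK LD1_c18 LD2_c44 LD3_c11) Lrfl Lrfl
theorem f33540 : Led Lsl_dt (LP (LK LD1_c18 LD2_c44 LD3_c11)) = (LP (LK LD1_c28 LD2_c14 LD3_c14)) :=
  Lre_d IH (LK LD1_c18 LD2_c44 LD3_c11) (LK LD1_c28 LD2_c14 LD3_c14) Lrfl Lrfl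
theorem f271558 : Led Lsl_bt (LP (LK LD1_c28 LD2_c14 LD3_c14)) = (LP (LK LD1_c20 LD2_c10 LD3_c6)) :=
  Lgr Lrot95 (Lpe (f33540 IH) (Lpe (f271557 IH) (Lpr_df (f271547 IH) (Lpn (LP (LK LD1_c20 LD2_c10 LD3_c6))))))
theorem f271572 : Led Lsl_ct (LP (LK LD1_c5 LD2_c42 LD3_c28)) = (LP (LK LD1_c2 LD2_c47 LD3_c12)) :=
  Lre_c IH (LK LD1_c5 LD2_c42 LD3_c28) (LK LD1_c2 LD2_c47 LD3_c12) Lrfl Lrfl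
theorem f422914 : Led Lsl_gf (LP (LK LD1_c2 LD2_c47 LD3_c12)) = (LP (LK LD1_c1 LD2_c20 LD3_c25)) :=
  Lgr Lrot129 (Lpe (f271572 IH) (Lpr_bt (f172846 IH) (Lpr_gt (f172847 IH) (Lpe (f271558 IH) (Lpe (f422912 IH) (Lpr_gt (K30.f402634 IH) (Lpr_cf (K30.f422863 IH) (Lpr_bt (K30.f385501 IH) (Lpr_gt (K30.f168269 IH) (Lpr_ct (K30.f168264 IH) (Lpn (LP (LK LD1_c1 LD2_c20 LD3_c25)))))))))))))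
theorem f412032 : Led Lsl_dt (LP (LK LD1_c2 LD2_c47 LD3_c12)) = (LP (LK LD1_c1 LD2_c19 LD3_c59)) :=
  Lre_d IH (LK LD1_c2 LD2_c47 LD3_c12) (LK LD1_c1 LD2_c19 LD3_c59) Lrfl Lrfl
theorem f268891 : Led Lsl_ft (LP (LK LD1_c0 LD2_c37 LD3_c0)) = (LP (LK LD1_c1 LD2_c3 LD3_c39)) :=
  Lgr Lrot75 (Lpe (K16.f172433 IH) (Lpr_ff (K16.f268887 IH) (Lpe (K16.f181409 IH) (Lpn (LP (LK LD1_c1 LD2_c3 LD3_c39))))))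
theorem f181769 : Led Lsl_at (LP (LK LD1_c1 LD2_c3 LD3_c39)) = (LP (LK LD1_c2 LD2_c13 LD3_c9)) :=
  Lre_a IH (LK LD1_c1 LD2_c3 LD3_c39) (LK LD1_c2 LD2_c13 LD3_c9) Lrfl Lrfl
theorem f412030 : Led Lsl_gt (LP (LK LD1_c1 LD2_c19 LD3_c59)) = (LP (LK LD1_c2 LD2_c13 LD3_c9)) :=
  Lgr Lrot46 (Lpe (f172438 IH) (Lpr_ft (f268891 IH) (Lpr_at (f181769 IH) (Lpn (LP (LK LD1_c2 LD2_c13 LD3_c9))))))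
theorem f174233 : Led Lsl_ct (LP (LK LD1_c2 LD2_c47 LD3_c25)) = (LP (LK LD1_c1 LD2_c20 LD3_c1)) :=
  Lre_c IH (LK LD1_c2 LD2_c47 LD3_c25) (LK LD1_c1 LD2_c20 LD3_c1) Lrfl Lrfl
theorem f174480 : Led Lsl_at (LP (LK LD1_c9 LD2_c2 LD3_c7)) = (LP (LK LD1_c16 LD2_c52 LD3_c2)) :=
  Lre_a IH (LK LD1_c9 LD2_c2 LD3_c7) (LK LD1_c16 LD2_c52 LD3_c2) Lrfl Lrfl
theorem f280283 : Led Lsl_ft (LP (LK LD1_c5 LD2_c42 LD3_c55)) = (LP (LK LD1_c9 LD2_c2 LD3_c7)) :=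
  Lgr Lrot142 (Lpr_dt (K20.f174234 IH) (Lpr_ct (f174233 IH) (Lpr_dt (K16.f172745 IH) (Lpr_ct (K16.f172462 IH) (Lpr_dt (K16.f172833 IH) (Lpr_ct (K16.f172754 IH) (Lpr_dt (K16.f269673 IH) (Lpr_ct (K16.f280270 IH) (Lpe (f174480 IH) (Lpn (LP (LK LD1_c9 LD2_c2 LD3_c7))))))))))))
theorem f280881 : Led Lsl_gt (LP (LK LD1_c5 LD2_c42 LD3_c55)) = (LP (LK LD1_c11 LD2_c16 LD3_c3)) :=
  Lre_g IH (LK LD1_c5 LD2_c42 LD3_c55) (LK LD1_c11 LD2_c16 LD3_c3) Lrfl Lrfl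
theorem f281976 : Led Lsl_gt (LP (LK LD1_c11 LD2_c16 LD3_c3)) = (LP (LK LD1_c16 LD2_c52 LD3_c2)) :=
  Lgr Lrot46 (Lpe (f280881 IH) (Lpr_ft (f280283 IH) (Lpr_at (f174480 IH) (Lpn (LP (LK LD1_c16 LD2_c52 LD3_c2))))))
theorem f172398 : Led Lsl_gt (LP (LK LD1_c2 LD2_c48 LD3_c29)) = (LP (LK LD1_c5 LD2_c45 LD3_c24)) :=
  Lre_g IH (LK LD1_c2 LD2_c48 LD3_c29) (LK LD1_c5 LD2_c45 LD3_c24) Lrfl Lrfl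
theorem f422918 : Led Lsl_df (LP (LK LD1_c11 LD2_c16 LD3_c3)) = (LP (LK LD1_c5 LD2_c45 LD3_c24)) :=
  Lgr Lrot153 (Lpr_gt (f281976 IH) (Lpr_dt (K16.f181774 IH) (Lpe (K16.f181767 IH) (Lpe (K16.f181766 IH) (Lpe (f412030 IH) (Lpe (f412032 IH) (Lpr_gf (f422914 IH) (Lpe (K30.f168264 IH) (Lpr_gt (f172398 IH) (Lpn (LP (LK LD1_c5 LD2_c45 LD3_c24))))))))))))
theorem f211988 : Led Lsl_bf (LP (LK LD1_c0 LD2_c26 LD3_c49)) = (LP (LK LD1_c0 LD2_c28 LD3_c49)) :=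
  Lgr Lrot24 (Lpr_bt (K12.f211984 IH) (Lpn (LP (LK LD1_c0 LD2_c28 LD3_c49))))
theorem f174222 : Led Lsl_bt (LP (LK LD1_c1 LD2_c20 LD3_c1)) = (LP (LK LD1_c0 LD2_c37 LD3_c1)) :=
  Lre_b IH (LK LD1_c1 LD2_c20 LD3_c1) (LK LD1_c0 LD2_c37 LD3_c1) Lrfl Lrfl
theorem f174235 : Led Lsl_gt (LP (LK LD1_c11 LD2_c16 LD3_c4)) = (LP (LK LD1_c5 LD2_c42 LD3_c55)) :=
  Lre_g IH (LK LD1_c11 LD2_c16 LD3_c4) (LK LD1_c5 LD2_c42 LD3_c55) Lrfl Lrfl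
theorem f174236 : Led Lsl_bt (LP (LK LD1_c20 LD2_c11 LD3_c59)) = (LP (LK LD1_c11 LD2_c16 LD3_c4)) :=
  Lre_b IH (LK LD1_c20 LD2_c11 LD3_c59) (LK LD1_c11 LD2_c16 LD3_c4) Lrfl Lrfl
theorem f418930 : Led Lsl_ct (LP (LK LD1_c18 LD2_c44 LD3_c2)) = (LP (LK LD1_c20 LD2_c11 LD3_c59)) :=
  Lgr Lrot191 (Lpe (f33529 IH) (Lpe (f33528 IH) (Lpe (K10.f33497 IH) (Lpe (K10.f33456 IH) (Lpe (K12.f32315 IH) (Lpe (K10.f188919 IH) (Lpe (K10.f167773 IH) (Lpe (K9.f167771 IH) (Lpe (K9.f6809 IH) (Lpr_gf (K9.f53317 IH) (Lpr_bf (f211988 IH) (Lpe (K9.f20692 IH) (Lpr_df (K9.f178876 IH) (Lpr_gf (K9.f174220 IH) (Lpe (f174222 IH) (Lpe (f174233 IH) (Lpe (K20.f174234 IH) (Lpe (f174235 IH) (Lpe (f174236 IH) (Lpn (LP (LK LD1_c20 LD2_c11 LD3_c59))))))))))))))))))))))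
theorem f242680 : Led Lsl_ct (LP (LK LD1_c26 LD2_c49 LD3_c17)) = (LP (LK LD1_c19 LD2_c28 LD3_c0)) :=
  Lgr Lrot59 (Lpr_cf (f242669 IH) (Lpn (LP (LK LD1_c19 LD2_c28 LD3_c0))))
theorem f418934 : Led Lsl_ff (LP (LK LD1_c26 LD2_c49 LD3_c17)) = (LP (LK LD1_c20 LD2_c11 LD3_c59)) :=
  Lgr Lrot23 (Lpr_ct (f242680 IH) (Lpr_ft (f389477 IH) (Lpr_ct (f418930 IH) (Lpn (LP (LK LD1_c20 LD2_c11 LD3_c59))))))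
theorem f418939 : Led Lsl_ft (LP (LK LD1_c26 LD2_c49 LD3_c17)) = (LP (LK LD1_c20 LD2_c11 LD3_c59)) :=
  Lgr Lrot48 (Lpr_ff (f418934 IH) (Lpn (LP (LK LD1_c20 LD2_c11 LD3_c59))))
theorem f242687 : Led Lsl_bt (LP (LK LD1_c16 LD2_c52 LD3_c16)) = (LP (LK LD1_c26 LD2_c49 LD3_c17)) :=
  Lre_b IH (LK LD1_c16 LD2_c52 LD3_c16) (LK LD1_c26 LD2_c49 LD3_c17) Lrfl Lrfl
theorem f418941 : Led Lsl_ff (LP (LK LD1_c16 LD2_c52 LD3_c16)) = (LP (LK LD1_c11 LD2_c16 LD3_c4)) :=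
  Lgr Lrot25 (Lpr_bt (f242687 IH) (Lpr_ft (f418939 IH) (Lpr_bt (f174236 IH) (Lpn (LP (LK LD1_c11 LD2_c16 LD3_c4))))))
theorem f418943 : Led Lsl_at (LP (LK LD1_c16 LD2_c52 LD3_c16)) = (LP (LK LD1_c11 LD2_c16 LD3_c3)) :=
  Lgr Lrot26 (Lpr_ff (f418941 IH) (Lpr_gt (f174235 IH) (Lpr_gt (f280881 IH) (Lpn (LP (LK LD1_c11 LD2_c16 LD3_c3))))))
theorem f418945 : Led Lsl_af (LP (LK LD1_c16 LD2_c52 LD3_c16)) = (LP (LK LD1_c11 LD2_c16 LD3_c3)) :=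
  Lgr Lrot0 (Lpr_at (f418943 IH) (Lpn (LP (LK LD1_c11 LD2_c16 LD3_c3))))
theorem f280394 : Led Lsl_at (LP (LK LD1_c5 LD2_c42 LD3_c55)) = (LP (LK LD1_c11 LD2_c15 LD3_c21)) :=
  Lre_a IH (LK LD1_c5 LD2_c42 LD3_c55) (LK LD1_c11 LD2_c15 LD3_c21) Lrfl Lrfl
theorem f174486 : Led Lsl_gt (LP (LK LD1_c9 LD2_c2 LD3_c7)) = (LP (LK LD1_c16 LD2_c52 LD3_c15)) :=
  Lre_g IH (LK LD1_c9 LD2_c2 LD3_c7) (LK LD1_c16 LD2_c52 LD3_c15) Lrfl Lrfl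
theorem f281945 : Led Lsl_gf (LP (LK LD1_c11 LD2_c15 LD3_c21)) = (LP (LK LD1_c16 LD2_c52 LD3_c15)) :=
  Lgr Lrot76 (Lpe (f280394 IH) (Lpr_ff (K20.f280358 IH) (Lpr_gt (f174486 IH) (Lpn (LP (LK LD1_c16 LD2_c52 LD3_c15))))))
theorem f418959 : Led Lsl_ft (LP (LK LD1_c16 LD2_c52 LD3_c15)) = (LP (LK LD1_c11 LD2_c16 LD3_c3)) :=
  Lgr Lrot2 (Lpe (f281945 IH) (Lpr_gt (f280406 IH) (Lpr_af (f418945 IH) (Lpn (LP (LK LD1_c11 LD2_c16 LD3_c3))))))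
theorem f418963 : Led Lsl_ff (LP (LK LD1_c16 LD2_c52 LD3_c15)) = (LP (LK LD1_c11 LD2_c16 LD3_c3)) :=
  Lgr Lrot3 (Lpr_ft (f418959 IH) (Lpn (LP (LK LD1_c11 LD2_c16 LD3_c3))))
theorem f398504 : Led Lsl_dt (LP (LK LD1_c26 LD2_c17 LD3_c23)) = (LP (LK LD1_c16 LD2_c19 LD3_c29)) :=
  Lre_d IH (LK LD1_c26 LD2_c17 LD3_c23) (LK LD1_c16 LD2_c19 LD3_c29) Lrfl Lrfl
theorem f398493 : Led Lsl_ct (LP (LK LD1_c8 LD2_c42 LD3_c56)) = (LP (LK LD1_c16 LD2_c19 LD3_c29)) :=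
  Lre_c IH (LK LD1_c8 LD2_c42 LD3_c56) (LK LD1_c16 LD2_c19 LD3_c29) Lrfl Lrfl
theorem f173341 : Led Lsl_gt (LP (LK LD1_c16 LD2_c19 LD3_c34)) = (LP (LK LD1_c8 LD2_c42 LD3_c58)) :=
  Lre_g IH (LK LD1_c16 LD2_c19 LD3_c34) (LK LD1_c8 LD2_c42 LD3_c58) Lrfl Lrfl
theorem f398600 : Led Lsl_dt (LP (LK LD1_c16 LD2_c19 LD3_c34)) = (LP (LK LD1_c26 LD2_c17 LD3_c34)) :=
  Lre_d IH (LK LD1_c16 LD2_c19 LD3_c34) (LK LD1_c26 LD2_c17 LD3_c34) Lrfl Lrfl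
theorem f398601 : Led Lsl_gt (LP (LK LD1_c26 LD2_c17 LD3_c34)) = (LP (LK LD1_c16 LD2_c20 LD3_c41)) :=
  Lgr Lrot9 (Lpe (f398600 IH) (Lpr_gt (f173341 IH) (Lpr_ct (f173330 IH) (Lpr_gt (f178968 IH) (Lpr_ct (f398493 IH) (Lpe (f398504 IH) (Lpr_cf (f398588 IH) (Lpe (f280406 IH) (Lpr_cf (f280382 IH) (Lpn (LP (LK LD1_c16 LD2_c20 LD3_c41))))))))))))
theorem f280468 : Led Lsl_ct (LP (LK LD1_c11 LD2_c15 LD3_c19)) = (LP (LK LD1_c5 LD2_c42 LD3_c34)) :=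
  Lre_c IH (LK LD1_c11 LD2_c15 LD3_c19) (LK LD1_c5 LD2_c42 LD3_c34) Lrfl Lrfl
theorem f280384 : Led Lsl_df (LP (LK LD1_c11 LD2_c15 LD3_c19)) = (LP (LK LD1_c16 LD2_c52 LD3_c17)) :=
  Lgr Lrot38 (Lpr_dt (K16.f280377 IH) (Lpn (LP (LK LD1_c16 LD2_c52 LD3_c17))))
theorem f280469 : Led Lsl_at (LP (LK LD1_c11 LD2_c16 LD3_c5)) = (LP (LK LD1_c16 LD2_c20 LD3_c41)) :=
  Lgr Lrot33 (Lpr_ff (K16.f280374 IH) (Lpe (f280384 IH) (Lpr_ct (f280468 IH) (Lpr_dt (K30.f268876 IH) (Lpr_ct (K30.f268873 IH) (Lpr_dt (K16.f268839 IH) (Lpr_ct (K16.f268844 IH) (Lpr_dt (K16.f280398 IH) (Lpr_ct (K16.f280415 IH) (Lpn (LP (LK LD1_c16 LD2_c20 LD3_c41))))))))))))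
theorem f398603 : Led Lsl_gf (LP (LK LD1_c26 LD2_c17 LD3_c34)) = (LP (LK LD1_c16 LD2_c52 LD3_c17)) :=
  Lgr Lrot47 (Lpr_gt (f398601 IH) (Lpe (f280469 IH) (Lpr_ff (K16.f280374 IH) (Lpn (LP (LK LD1_c16 LD2_c52 LD3_c17))))))
theorem f297067 : Led Lsl_dt (LP (LK LD1_c26 LD2_c17 LD3_c34)) = (LP (LK LD1_c16 LD2_c19 LD3_c34)) :=
  Lre_d IH (LK LD1_c26 LD2_c17 LD3_c34) (LK LD1_c16 LD2_c19 LD3_c34) Lrfl Lrfl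
theorem f385436 : Led Lsl_gt (LP (LK LD1_c4 LD2_c33 LD3_c27)) = (LP (LK LD1_c9 LD2_c4 LD3_c27)) :=
  Lre_g IH (LK LD1_c4 LD2_c33 LD3_c27) (LK LD1_c9 LD2_c4 LD3_c27) Lrfl Lrfl
theorem f385437 : Led Lsl_gt (LP (LK LD1_c9 LD2_c4 LD3_c27)) = (LP (LK LD1_c5 LD2_c45 LD3_c22)) :=
  Lgr Lrot46 (Lpe (f385436 IH) (Lpr_ft (K30.f385426 IH) (Lpr_at (K30.f168290 IH) (Lpn (LP (LK LD1_c5 LD2_c45 LD3_c22))))))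
theorem f398607 : Led Lsl_df (LP (LK LD1_c9 LD2_c4 LD3_c27)) = (LP (LK LD1_c16 LD2_c52 LD3_c15)) :=
  Lgr Lrot153 (Lpr_gt (f385437 IH) (Lpr_dt (K30.f168289 IH) (Lpe (K18.f297050 IH) (Lpe (K18.f173339 IH) (Lpe (f173341 IH) (Lpe (f297067 IH) (Lpr_gf (f398603 IH) (Lpe (K16.f174484 IH) (Lpr_gt (f174486 IH) (Lpn (LP (LK LD1_c16 LD2_c52 LD3_c15))))))))))))
theorem f422942 : Led Lsl_ft (LP (LK LD1_c9 LD2_c4 LD3_c27)) = (LP (LK LD1_c5 LD2_c45 LD3_c24)) :=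
  Lgr Lrot54 (Lpr_df (f398607 IH) (Lpr_ff (f418963 IH) (Lpr_df (f422918 IH) (Lpn (LP (LK LD1_c5 LD2_c45 LD3_c24))))))
theorem f422946 : Led Lsl_ff (LP (LK LD1_c9 LD2_c4 LD3_c27)) = (LP (LK LD1_c5 LD2_c45 LD3_c24)) :=
  Lgr Lrot3 (Lpr_ft (f422942 IH) (Lpn (LP (LK LD1_c5 LD2_c45 LD3_c24))))
theorem f297041 : Led Lsl_ff (LP (LK LD1_c4 LD2_c33 LD3_c27)) = (LP (LK LD1_c2 LD2_c48 LD3_c29)) :=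
  Lgr Lrot23 (Lpr_ct (K30.f174636 IH) (Lpr_ft (K18.f297037 IH) (Lpr_ct (K30.f168259 IH) (Lpn (LP (LK LD1_c2 LD2_c48 LD3_c29))))))
theorem f385408 : Led Lsl_at (LP (LK LD1_c4 LD2_c33 LD3_c27)) = (LP (LK LD1_c9 LD2_c4 LD3_c25)) :=
  Lre_a IH (LK LD1_c4 LD2_c33 LD3_c27) (LK LD1_c9 LD2_c4 LD3_c25) Lrfl Lrfl
theorem f407092 : Led Lsl_gf (LP (LK LD1_c9 LD2_c4 LD3_c25)) = (LP (LK LD1_c5 LD2_c45 LD3_c24)) :=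
  Lgr Lrot76 (Lpe (f385408 IH) (Lpr_ff (f297041 IH) (Lpr_gt (f172398 IH) (Lpn (LP (LK LD1_c5 LD2_c45 LD3_c24))))))
theorem f385450 : Led Lsl_ft (LP (LK LD1_c9 LD2_c4 LD3_c25)) = (LP (LK LD1_c5 LD2_c45 LD3_c22)) :=
  Lgr Lrot48 (Lpr_ff (K30.f385431 IH) (Lpn (LP (LK LD1_c5 LD2_c45 LD3_c22))))
theorem f168262 : Led Lsl_at (LP (LK LD1_c5 LD2_c45 LD3_c22)) = (LP (LK LD1_c2 LD2_c48 LD3_c29)) :=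
  Lre_a IH (LK LD1_c5 LD2_c45 LD3_c22) (LK LD1_c2 LD2_c48 LD3_c29) Lrfl Lrfl
theorem f385461 : Led Lsl_gt (LP (LK LD1_c9 LD2_c4 LD3_c25)) = (LP (LK LD1_c5 LD2_c45 LD3_c25)) :=
  Lgr Lrot5 (Lpr_ft (f385450 IH) (Lpr_at (f168262 IH) (Lpe (K30.f168269 IH) (Lpn (LP (LK LD1_c5 LD2_c45 LD3_c25))))))
theorem f422961 : Led Lsl_at (LP (LK LD1_c9 LD2_c4 LD3_c27)) = (LP (LK LD1_c5 LD2_c45 LD3_c25)) :=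
  Lgr Lrot26 (Lpr_ff (f422946 IH) (Lpe (f407092 IH) (Lpr_gt (f385461 IH) (Lpn (LP (LK LD1_c5 LD2_c45 LD3_c25))))))
theorem f244698 : Led Lsl_bt (LP (LK LD1_c8 LD2_c27 LD3_c8)) = (LP (LK LD1_c4 LD2_c14 LD3_c16)) :=
  Lre_b IH (LK LD1_c8 LD2_c27 LD3_c8) (LK LD1_c4 LD2_c14 LD3_c16) Lrfl Lrfl
theorem f181744 : Led Lsl_gt (LP (LK LD1_c2 LD2_c8 LD3_c52)) = (LP (LK LD1_c4 LD2_c22 LD3_c51)) :=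
  Lre_g IH (LK LD1_c2 LD2_c8 LD3_c52) (LK LD1_c4 LD2_c22 LD3_c51) Lrfl Lrfl
theorem f398494 : Led Lsl_df (LP (LK LD1_c8 LD2_c42 LD3_c56)) = (LP (LK LD1_c4 LD2_c22 LD3_c51)) :=
  Lgr Lrot183 (Lpr_ct (f398493 IH) (Lpr_bt (f398482 IH) (Lpr_gt (f398483 IH) (Lpr_dt (K18.f52775 IH) (Lpr_ct (K18.f52827 IH) (Lpr_bt (f244698 IH) (Lpe (K14.f244675 IH) (Lpr_dt (K13.f7893 IH) (Lpr_ct (K14.f7892 IH) (Lpr_bt (K18.f7891 IH) (Lpr_gt (K0.f7714 IH) (Lpe (K0.f7723 IH) (Lpr_ct (K9.f7882 IH) (Lpr_bt (K11.f201250 IH) (Lpr_gt (K12.f201263 IH) (Lpr_dt (K12.f227214 IH) (Lpr_ct (K10.f181407 IH) (Lpr_bt (K16.f181408 IH) (Lpr_gt (f181744 IH) (Lpn (LP (LK LD1_c4 LD2_c22 LD3_c51))))))))))))))))))))))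
theorem f398497 : Led Lsl_dt (LP (LK LD1_c8 LD2_c42 LD3_c56)) = (LP (LK LD1_c4 LD2_c22 LD3_c51)) :=
  Lgr Lrot42 (Lpr_df (f398494 IH) (Lpn (LP (LK LD1_c4 LD2_c22 LD3_c51))))
theorem f229319 : Led Lsl_gt (LP (LK LD1_c8 LD2_c42 LD3_c58)) = (LP (LK LD1_c16 LD2_c19 LD3_c33)) :=
  Lre_g IH (LK LD1_c8 LD2_c42 LD3_c58) (LK LD1_c16 LD2_c19 LD3_c33) Lrfl Lrfl
theorem f297087 : Led Lsl_dt (LP (LK LD1_c16 LD2_c19 LD3_c33)) = (LP (LK LD1_c26 LD2_c17 LD3_c31)) :=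
  Lre_d IH (LK LD1_c16 LD2_c19 LD3_c33) (LK LD1_c26 LD2_c17 LD3_c31) Lrfl Lrfl
theorem f181742 : Led Lsl_at (LP (LK LD1_c4 LD2_c22 LD3_c53)) = (LP (LK LD1_c2 LD2_c8 LD3_c52)) :=
  Lre_a IH (LK LD1_c4 LD2_c22 LD3_c53) (LK LD1_c2 LD2_c8 LD3_c52) Lrfl Lrfl
theorem f280388 : Led Lsl_ft (LP (LK LD1_c2 LD2_c47 LD3_c16)) = (LP (LK LD1_c4 LD2_c22 LD3_c53)) :=
  Lgr Lrot142 (Lpr_dt (K16.f280381 IH) (Lpr_ct (K16.f280380 IH) (Lpr_dt (K16.f280377 IH) (Lpr_ct (K16.f174492 IH) (Lpr_dt (K20.f174468 IH) (Lpr_ct (f174442 IH) (Lpr_dt (f181741 IH) (Lpe (K16.f181731 IH) (Lpe (f181742 IH) (Lpn (LP (LK LD1_c4 LD2_c22 LD3_c53))))))))))))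
theorem f172850 : Led Lsl_at (LP (LK LD1_c1 LD2_c20 LD3_c0)) = (LP (LK LD1_c2 LD2_c47 LD3_c16)) :=
  Lre_a IH (LK LD1_c1 LD2_c20 LD3_c0) (LK LD1_c2 LD2_c47 LD3_c16) Lrfl Lrfl
theorem f281920 : Led Lsl_ff (LP (LK LD1_c1 LD2_c20 LD3_c0)) = (LP (LK LD1_c2 LD2_c8 LD3_c52)) :=
  Lgr Lrot30 (Lpr_at (f172850 IH) (Lpr_ft (f280388 IH) (Lpr_at (f181742 IH) (Lpn (LP (LK LD1_c2 LD2_c8 LD3_c52))))))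
theorem f281924 : Led Lsl_gf (LP (LK LD1_c2 LD2_c47 LD3_c16)) = (LP (LK LD1_c4 LD2_c22 LD3_c51)) :=
  Lgr Lrot76 (Lpe (f172850 IH) (Lpr_ff (f281920 IH) (Lpr_gt (f181744 IH) (Lpn (LP (LK LD1_c4 LD2_c22 LD3_c51))))))
theorem f398511 : Led Lsl_gt (LP (LK LD1_c26 LD2_c17 LD3_c31)) = (LP (LK LD1_c16 LD2_c52 LD3_c17)) :=
  Lgr Lrot49 (Lpe (f297087 IH) (Lpe (f229319 IH) (Lpe (K18.f173338 IH) (Lpr_gt (f178968 IH) (Lpr_dt (f398497 IH) (Lpe (f281924 IH) (Lpr_dt (K16.f280381 IH) (Lpe (f280468 IH) (Lpr_df (f280384 IH) (Lpn (LP (LK LD1_c16 LD2_c52 LD3_c17))))))))))))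
theorem f281906 : Led Lsl_af (LP (LK LD1_c16 LD2_c52 LD3_c17)) = (LP (LK LD1_c11 LD2_c15 LD3_c42)) :=
  Lgr Lrot45 (Lpe (K16.f280374 IH) (Lpr_at (f280469 IH) (Lpe (K16.f280263 IH) (Lpn (LP (LK LD1_c11 LD2_c15 LD3_c42))))))
theorem f398515 : Led Lsl_gf (LP (LK LD1_c26 LD2_c17 LD3_c31)) = (LP (LK LD1_c16 LD2_c20 LD3_c41)) :=
  Lgr Lrot47 (Lpr_gt (f398511 IH) (Lpr_af (f281906 IH) (Lpr_ff (K16.f280263 IH) (Lpn (LP (LK LD1_c16 LD2_c20 LD3_c41))))))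
theorem f297086 : Led Lsl_dt (LP (LK LD1_c26 LD2_c17 LD3_c31)) = (LP (LK LD1_c16 LD2_c19 LD3_c33)) :=
  Lre_d IH (LK LD1_c26 LD2_c17 LD3_c31) (LK LD1_c16 LD2_c19 LD3_c33) Lrfl Lrfl
theorem f297084 : Led Lsl_gt (LP (LK LD1_c16 LD2_c19 LD3_c33)) = (LP (LK LD1_c17 LD2_c54 LD3_c19)) :=
  Lgr Lrot46 (Lpe (f229319 IH) (Lpr_ft (K18.f297065 IH) (Lpr_at (K18.f168280 IH) (Lpn (LP (LK LD1_c17 LD2_c54 LD3_c19))))))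
theorem f174751 : Led Lsl_gt (LP (LK LD1_c9 LD2_c4 LD3_c28)) = (LP (LK LD1_c4 LD2_c33 LD3_c27)) :=
  Lre_g IH (LK LD1_c9 LD2_c4 LD3_c28) (LK LD1_c4 LD2_c33 LD3_c27) Lrfl Lrfl
theorem f398523 : Led Lsl_df (LP (LK LD1_c9 LD2_c4 LD3_c28)) = (LP (LK LD1_c16 LD2_c52 LD3_c16)) :=
  Lgr Lrot153 (Lpr_gt (f174751 IH) (Lpr_dt (K30.f174859 IH) (Lpe (K30.f297058 IH) (Lpr_df (K30.f297059 IH) (Lpe (f297084 IH) (Lpe (f297086 IH) (Lpr_gf (f398515 IH) (Lpe (K16.f280415 IH) (Lpr_gt (f280406 IH) (Lpn (LP (LK LD1_c16 LD2_c52 LD3_c16))))))))))))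
theorem f422935 : Led Lsl_at (LP (LK LD1_c9 LD2_c4 LD3_c28)) = (LP (LK LD1_c5 LD2_c45 LD3_c24)) :=
  Lgr Lrot51 (Lpr_df (f398523 IH) (Lpr_af (f418945 IH) (Lpr_df (f422918 IH) (Lpn (LP (LK LD1_c5 LD2_c45 LD3_c24))))))
theorem f422971 : Led Lsl_ff (LP (LK LD1_c9 LD2_c4 LD3_c28)) = (LP (LK LD1_c5 LD2_c45 LD3_c25)) :=
  Lgr Lrot30 (Lpr_at (f422935 IH) (Lpe (f422946 IH) (Lpr_at (f422961 IH) (Lpn (LP (LK LD1_c5 LD2_c45 LD3_c25))))))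
theorem f422979 : Led Lsl_ft (LP (LK LD1_c9 LD2_c4 LD3_c28)) = (LP (LK LD1_c5 LD2_c45 LD3_c25)) :=
  Lgr Lrot48 (Lpr_ff (f422971 IH) (Lpn (LP (LK LD1_c5 LD2_c45 LD3_c25))))
theorem f174746 : Led Lsl_bt (LP (LK LD1_c1 LD2_c3 LD3_c26)) = (LP (LK LD1_c2 LD2_c12 LD3_c52)) :=
  Lre_b IH (LK LD1_c1 LD2_c3 LD3_c26) (LK LD1_c2 LD2_c12 LD3_c52) Lrfl Lrfl
theorem f169121 : Led Lsl_gt (LP (LK LD1_c2 LD2_c12 LD3_c52)) = (LP (LK LD1_c4 LD2_c31 LD3_c44)) :=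
  Lre_g IH (LK LD1_c2 LD2_c12 LD3_c52) (LK LD1_c4 LD2_c31 LD3_c44) Lrfl Lrfl
theorem f174749 : Led Lsl_bt (LP (LK LD1_c9 LD2_c1 LD3_c22)) = (LP (LK LD1_c4 LD2_c31 LD3_c44)) :=
  Lre_b IH (LK LD1_c9 LD2_c1 LD3_c22) (LK LD1_c4 LD2_c31 LD3_c44) Lrfl Lrfl
theorem f174750 : Led Lsl_ct (LP (LK LD1_c2 LD2_c13 LD3_c39)) = (LP (LK LD1_c4 LD2_c33 LD3_c27)) :=
  Lre_c IH (LK LD1_c2 LD2_c13 LD3_c39) (LK LD1_c4 LD2_c33 LD3_c27) Lrfl Lrfl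
theorem f174752 : Led Lsl_ct (LP (LK LD1_c9 LD2_c1 LD3_c22)) = (LP (LK LD1_c9 LD2_c4 LD3_c28)) :=
  Lgr Lrot64 (Lpr_bt (f174749 IH) (Lpe (f169121 IH) (Lpe (f174746 IH) (Lpr_ct (K9.f174735 IH) (Lpe (K9.f9232 IH) (Lpe (K9.f169302 IH) (Lpe (K9.f169303 IH) (Lpe (K18.f174592 IH) (Lpr_ct (f174750 IH) (Lpe (f174751 IH) (Lpn (LP (LK LD1_c9 LD2_c4 LD3_c28)))))))))))))
theorem f422865 : Led Lsl_cf (LP (LK LD1_c5 LD2_c38 LD3_c8)) = (LP (LK LD1_c5 LD2_c45 LD3_c25)) :=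
  Lgr Lrot11 (Lpr_ct (K30.f172338 IH) (Lpn (LP (LK LD1_c5 LD2_c45 LD3_c25))))
theorem f422983 : Led Lsl_ff (LP (LK LD1_c9 LD2_c1 LD3_c22)) = (LP (LK LD1_c5 LD2_c38 LD3_c8)) :=
  Lgr Lrot23 (Lpr_ct (f174752 IH) (Lpr_ft (f422979 IH) (Lpe (f422865 IH) (Lpn (LP (LK LD1_c5 LD2_c38 LD3_c8))))))
theorem f422985 : Led Lsl_ft (LP (LK LD1_c4 LD2_c31 LD3_c44)) = (LP (LK LD1_c2 LD2_c44 LD3_c60)) :=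
  Lgr Lrot75 (Lpe (f174749 IH) (Lpr_ff (f422983 IH) (Lpe (K30.f211903 IH) (Lpn (LP (LK LD1_c2 LD2_c44 LD3_c60))))))
theorem f380246 : Led Lsl_ft (LP (LK LD1_c1 LD2_c19 LD3_c27)) = (LP (LK LD1_c2 LD2_c13 LD3_c0)) :=
  Lgr Lrot4 (Lpe (K30.f380222 IH) (Lpr_ff (K30.f380234 IH) (Lpr_cf (K30.f181464 IH) (Lpn (LP (LK LD1_c2 LD2_c13 LD3_c0))))))
theorem f380259 : Led Lsl_gt (LP (LK LD1_c1 LD2_c19 LD3_c27)) = (LP (LK LD1_c2 LD2_c12 LD3_c61)) :=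
  Lgr Lrot5 (Lpr_ft (f380246 IH) (Lpr_at (K30.f181462 IH) (Lpe (K10.f174831 IH) (Lpn (LP (LK LD1_c2 LD2_c12 LD3_c61))))))
theorem f169122 : Led Lsl_gt (LP (LK LD1_c4 LD2_c31 LD3_c45)) = (LP (LK LD1_c2 LD2_c12 LD3_c52)) :=
  Lre_g IH (LK LD1_c4 LD2_c31 LD3_c45) (LK LD1_c2 LD2_c12 LD3_c52) Lrfl Lrfl
theorem f174754 : Led Lsl_bt (LP (LK LD1_c9 LD2_c1 LD3_c25)) = (LP (LK LD1_c4 LD2_c31 LD3_c45)) :=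
  Lre_b IH (LK LD1_c9 LD2_c1 LD3_c25) (LK LD1_c4 LD2_c31 LD3_c45) Lrfl Lrfl
theorem f174755 : Led Lsl_ct (LP (LK LD1_c2 LD2_c13 LD3_c33)) = (LP (LK LD1_c4 LD2_c33 LD3_c11)) :=
  Lre_c IH (LK LD1_c2 LD2_c13 LD3_c33) (LK LD1_c4 LD2_c33 LD3_c11) Lrfl Lrfl
theorem f174756 : Led Lsl_gt (LP (LK LD1_c4 LD2_c33 LD3_c11)) = (LP (LK LD1_c9 LD2_c3 LD3_c40)) :=
  Lre_g IH (LK LD1_c4 LD2_c33 LD3_c11) (LK LD1_c9 LD2_c3 LD3_c40) Lrfl Lrfl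
theorem f174757 : Led Lsl_ct (LP (LK LD1_c9 LD2_c1 LD3_c25)) = (LP (LK LD1_c9 LD2_c3 LD3_c40)) :=
  Lgr Lrot63 (Lpr_bt (f174754 IH) (Lpr_gt (f169122 IH) (Lpe (f174746 IH) (Lpr_ct (K9.f174735 IH) (Lpr_gt (K9.f42263 IH) (Lpe (K9.f173381 IH) (Lpr_bt (K9.f174734 IH) (Lpr_gt (K9.f174733 IH) (Lpr_ct (f174755 IH) (Lpr_gt (f174756 IH) (Lpn (LP (LK LD1_c9 LD2_c3 LD3_c40)))))))))))))
theorem f174765 : Led Lsl_cf (LP (LK LD1_c9 LD2_c1 LD3_c25)) = (LP (LK LD1_c9 LD2_c3 LD3_c40)) :=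
  Lgr Lrot11 (Lpr_ct (f174757 IH) (Lpn (LP (LK LD1_c9 LD2_c3 LD3_c40))))
theorem f174816 : Led Lsl_dt (LP (LK LD1_c1 LD2_c3 LD3_c48)) = (LP (LK LD1_c0 LD2_c29 LD3_c6)) :=
  Lre_d IH (LK LD1_c1 LD2_c3 LD3_c48) (LK LD1_c0 LD2_c29 LD3_c6) Lrfl Lrfl
theorem f174809 : Led Lsl_gt (LP (LK LD1_c0 LD2_c29 LD3_c6)) = (LP (LK LD1_c1 LD2_c3 LD3_c45)) :=
  Lre_g IH (LK LD1_c0 LD2_c29 LD3_c6) (LK LD1_c1 LD2_c3 LD3_c45) Lrfl Lrfl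
theorem f174810 : Led Lsl_ct (LP (LK LD1_c1 LD2_c3 LD3_c45)) = (LP (LK LD1_c2 LD2_c13 LD3_c26)) :=
  Lre_c IH (LK LD1_c1 LD2_c3 LD3_c45) (LK LD1_c2 LD2_c13 LD3_c26) Lrfl Lrfl
theorem f174811 : Led Lsl_gt (LP (LK LD1_c2 LD2_c13 LD3_c26)) = (LP (LK LD1_c4 LD2_c32 LD3_c53)) :=
  Lre_g IH (LK LD1_c2 LD2_c13 LD3_c26) (LK LD1_c4 LD2_c32 LD3_c53) Lrfl Lrfl
theorem f174817 : Led Lsl_df (LP (LK LD1_c9 LD2_c1 LD3_c25)) = (LP (LK LD1_c4 LD2_c31 LD3_c57)) :=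
  Lgr Lrot162 (Lpr_cf (f174765 IH) (Lpe (f174756 IH) (Lpe (f174755 IH) (Lpe (K9.f174733 IH) (Lpr_dt (f174816 IH) (Lpr_gt (f174809 IH) (Lpr_ct (f174810 IH) (Lpr_gt (f174811 IH) (Lpr_ct (K10.f174812 IH) (Lpn (LP (LK LD1_c4 LD2_c31 LD3_c57))))))))))))
theorem f174822 : Led Lsl_dt (LP (LK LD1_c4 LD2_c31 LD3_c45)) = (LP (LK LD1_c2 LD2_c12 LD3_c61)) :=
  Lgr Lrot79 (Lpe (f174754 IH) (Lpr_df (f174817 IH) (Lpe (K30.f174821 IH) (Lpn (LP (LK LD1_c2 LD2_c12 LD3_c61))))))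
theorem f174826 : Led Lsl_df (LP (LK LD1_c4 LD2_c31 LD3_c45)) = (LP (LK LD1_c2 LD2_c12 LD3_c61)) :=
  Lgr Lrot38 (Lpr_dt (f174822 IH) (Lpn (LP (LK LD1_c2 LD2_c12 LD3_c61))))
theorem f169120 : Led Lsl_dt (LP (LK LD1_c2 LD2_c12 LD3_c52)) = (LP (LK LD1_c1 LD2_c3 LD3_c25)) :=
  Lre_d IH (LK LD1_c2 LD2_c12 LD3_c52) (LK LD1_c1 LD2_c3 LD3_c25) Lrfl Lrfl
theorem f380261 : Led Lsl_ct (LP (LK LD1_c1 LD2_c3 LD3_c25)) = (LP (LK LD1_c1 LD2_c3 LD3_c25)) :=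
  Lgr Lrot7 (Lpe (f169120 IH) (Lpe (f169122 IH) (Lpr_df (f174826 IH) (Lpe (f380259 IH) (Lpe (K30.f380222 IH) (Lpr_gt (f380259 IH) (Lpe (f174826 IH) (Lpr_gt (f169122 IH) (Lpr_dt (f169120 IH) (Lpn (LP (LK LD1_c1 LD2_c3 LD3_c25))))))))))))
theorem f169119 : Led Lsl_bt (LP (LK LD1_c0 LD2_c28 LD3_c58)) = (LP (LK LD1_c1 LD2_c3 LD3_c25)) :=
  Lre_b IH (LK LD1_c0 LD2_c28 LD3_c58) (LK LD1_c1 LD2_c3 LD3_c25) Lrfl Lrfl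
theorem f165163 : Led Lsl_bt (LP (LK LD1_c0 LD2_c36 LD3_c18)) = (LP (LK LD1_c0 LD2_c16 LD3_c9)) :=
  Lre_b IH (LK LD1_c0 LD2_c36 LD3_c18) (LK LD1_c0 LD2_c16 LD3_c9) Lrfl Lrfl
theorem f319384 : Led Lsl_ft (LP (LK LD1_c1 LD2_c3 LD3_c25)) = (LP (LK LD1_c0 LD2_c36 LD3_c18)) :=
  Lgr Lrot75 (Lpe (f169119 IH) (Lpr_ff (K20.f319382 IH) (Lpe (f165163 IH) (Lpn (LP (LK LD1_c0 LD2_c36 LD3_c18))))))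
theorem f164716 : Led Lsl_ct (LP (LK LD1_c0 LD2_c16 LD3_c9)) = (LP (LK LD1_c0 LD2_c7 LD3_c15)) :=
  Lre_c IH (LK LD1_c0 LD2_c16 LD3_c9) (LK LD1_c0 LD2_c7 LD3_c15) Lrfl Lrfl
theorem f177842 : Led Lsl_bt (LP (LK LD1_c0 LD2_c16 LD3_c9)) = (LP (LK LD1_c0 LD2_c36 LD3_c18)) :=
  Lre_b IH (LK LD1_c0 LD2_c16 LD3_c9) (LK LD1_c0 LD2_c36 LD3_c18) Lrfl Lrfl
theorem f177843 : Led Lsl_cf (LP (LK LD1_c0 LD2_c36 LD3_c18)) = (LP (LK LD1_c0 LD2_c36 LD3_c18)) :=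
  Lgr Lrot97 (Lpr_bt (f165163 IH) (Lpr_ct (f164716 IH) (Lpr_bt (K9.f177840 IH) (Lpr_ct (K9.f164709 IH) (Lpr_bt (f177842 IH) (Lpn (LP (LK LD1_c0 LD2_c36 LD3_c18))))))))
theorem f380268 : Led Lsl_ff (LP (LK LD1_c1 LD2_c3 LD3_c25)) = (LP (LK LD1_c0 LD2_c36 LD3_c18)) :=
  Lgr Lrot23 (Lpr_ct (f380261 IH) (Lpr_ft (f319384 IH) (Lpe (f177843 IH) (Lpn (LP (LK LD1_c0 LD2_c36 LD3_c18))))))
theorem f169111 : Led Lsl_dt (LP (LK LD1_c1 LD2_c3 LD3_c25)) = (LP (LK LD1_c2 LD2_c12 LD3_c52)) :=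
  Lre_d IH (LK LD1_c1 LD2_c3 LD3_c25) (LK LD1_c2 LD2_c12 LD3_c52) Lrfl Lrfl
theorem f289594 : Led Lsl_dt (LP (LK LD1_c1 LD2_c18 LD3_c48)) = (LP (LK LD1_c0 LD2_c36 LD3_c18)) :=
  Lre_d IH (LK LD1_c1 LD2_c18 LD3_c48) (LK LD1_c0 LD2_c36 LD3_c18) Lrfl Lrfl
theorem f380286 : Led Lsl_ft (LP (LK LD1_c2 LD2_c12 LD3_c52)) = (LP (LK LD1_c1 LD2_c18 LD3_c48)) :=
  Lgr Lrot54 (Lpe (f169111 IH) (Lpr_ff (f380268 IH) (Lpe (f289594 IH) (Lpn (LP (LK LD1_c1 LD2_c18 LD3_c48))))))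
theorem f380396 : Led Lsl_at (LP (LK LD1_c1 LD2_c18 LD3_c48)) = (LP (LK LD1_c2 LD2_c44 LD3_c58)) :=
  Lre_a IH (LK LD1_c1 LD2_c18 LD3_c48) (LK LD1_c2 LD2_c44 LD3_c58) Lrfl Lrfl
theorem f380401 : Led Lsl_gt (LP (LK LD1_c4 LD2_c31 LD3_c44)) = (LP (LK LD1_c2 LD2_c44 LD3_c58)) :=
  Lgr Lrot46 (Lpe (f169121 IH) (Lpr_ft (f380286 IH) (Lpr_at (f380396 IH) (Lpn (LP (LK LD1_c2 LD2_c44 LD3_c58))))))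
theorem f354427 : Led Lsl_at (LP (LK LD1_c4 LD2_c31 LD3_c43)) = (LP (LK LD1_c2 LD2_c12 LD3_c52)) :=
  Lre_a IH (LK LD1_c4 LD2_c31 LD3_c43) (LK LD1_c2 LD2_c12 LD3_c52) Lrfl Lrfl
theorem f380397 : Led Lsl_ff (LP (LK LD1_c4 LD2_c31 LD3_c43)) = (LP (LK LD1_c2 LD2_c44 LD3_c58)) :=
  Lgr Lrot30 (Lpr_at (f354427 IH) (Lpr_ft (f380286 IH) (Lpr_at (f380396 IH) (Lpn (LP (LK LD1_c2 LD2_c44 LD3_c58))))))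
theorem f380417 : Led Lsl_gf (LP (LK LD1_c4 LD2_c31 LD3_c45)) = (LP (LK LD1_c2 LD2_c44 LD3_c58)) :=
  Lgr Lrot47 (Lpr_gt (f169122 IH) (Lpe (f354427 IH) (Lpr_ff (f380397 IH) (Lpn (LP (LK LD1_c2 LD2_c44 LD3_c58))))))
theorem f422993 : Led Lsl_af (LP (LK LD1_c4 LD2_c31 LD3_c45)) = (LP (LK LD1_c2 LD2_c44 LD3_c60)) :=
  Lgr Lrot31 (Lpr_gf (f380417 IH) (Lpe (f380401 IH) (Lpr_ft (f422985 IH) (Lpn (LP (LK LD1_c2 LD2_c44 LD3_c60))))))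
theorem f422995 : Led Lsl_at (LP (LK LD1_c4 LD2_c31 LD3_c45)) = (LP (LK LD1_c2 LD2_c44 LD3_c60)) :=
  Lgr Lrot100 (Lpr_af (f422993 IH) (Lpn (LP (LK LD1_c2 LD2_c44 LD3_c60))))
theorem f172345 : Led Lsl_gt (LP (LK LD1_c2 LD2_c44 LD3_c61)) = (LP (LK LD1_c1 LD2_c18 LD3_c48)) :=
  Lre_g IH (LK LD1_c2 LD2_c44 LD3_c61) (LK LD1_c1 LD2_c18 LD3_c48) Lrfl Lrfl
theorem f423056 : Led Lsl_ff (LP (LK LD1_c4 LD2_c31 LD3_c45)) = (LP (LK LD1_c2 LD2_c44 LD3_c61)) :=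
  Lgr Lrot52 (Lpr_at (f422995 IH) (Lpe (K30.f172335 IH) (Lpe (f172345 IH) (Lpn (LP (LK LD1_c2 LD2_c44 LD3_c61))))))
theorem f423064 : Led Lsl_ft (LP (LK LD1_c4 LD2_c31 LD3_c45)) = (LP (LK LD1_c2 LD2_c44 LD3_c61)) :=
  Lgr Lrot48 (Lpr_ff (f423056 IH) (Lpn (LP (LK LD1_c2 LD2_c44 LD3_c61))))
theorem f174760 : Led Lsl_ct (LP (LK LD1_c9 LD2_c1 LD3_c26)) = (LP (LK LD1_c4 LD2_c31 LD3_c45)) :=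
  Lre_c IH (LK LD1_c9 LD2_c1 LD3_c26) (LK LD1_c4 LD2_c31 LD3_c45) Lrfl Lrfl
theorem f380425 : Led Lsl_ct (LP (LK LD1_c2 LD2_c44 LD3_c61)) = (LP (LK LD1_c5 LD2_c38 LD3_c12)) :=
  Lre_c IH (LK LD1_c2 LD2_c44 LD3_c61) (LK LD1_c5 LD2_c38 LD3_c12) Lrfl Lrfl
theorem f423071 : Led Lsl_ff (LP (LK LD1_c9 LD2_c1 LD3_c26)) = (LP (LK LD1_c5 LD2_c38 LD3_c12)) :=
  Lgr Lrot23 (Lpr_ct (f174760 IH) (Lpr_ft (f423064 IH) (Lpr_ct (f380425 IH) (Lpn (LP (LK LD1_c5 LD2_c38 LD3_c12))))))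
theorem f174803 : Led Lsl_ct (LP (LK LD1_c4 LD2_c31 LD3_c45)) = (LP (LK LD1_c9 LD2_c1 LD3_c26)) :=
  Lre_c IH (LK LD1_c4 LD2_c31 LD3_c45) (LK LD1_c9 LD2_c1 LD3_c26) Lrfl Lrfl
theorem f422997 : Led Lsl_at (LP (LK LD1_c9 LD2_c1 LD3_c26)) = (LP (LK LD1_c5 LD2_c38 LD3_c9)) :=
  Lgr Lrot107 (Lpe (f174803 IH) (Lpr_af (f422993 IH) (Lpe (K30.f402631 IH) (Lpn (LP (LK LD1_c5 LD2_c38 LD3_c9))))))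
theorem f174848 : Led Lsl_ct (LP (LK LD1_c9 LD2_c1 LD3_c23)) = (LP (LK LD1_c4 LD2_c31 LD3_c44)) :=
  Lre_c IH (LK LD1_c9 LD2_c1 LD3_c23) (LK LD1_c4 LD2_c31 LD3_c44) Lrfl Lrfl
theorem f172336 : Led Lsl_ct (LP (LK LD1_c2 LD2_c44 LD3_c60)) = (LP (LK LD1_c5 LD2_c38 LD3_c9)) :=
  Lre_c IH (LK LD1_c2 LD2_c44 LD3_c60) (LK LD1_c5 LD2_c38 LD3_c9) Lrfl Lrfl
theorem f422987 : Led Lsl_ff (LP (LK LD1_c9 LD2_c1 LD3_c23)) = (LP (LK LD1_c5 LD2_c38 LD3_c9)) :=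
  Lgr Lrot23 (Lpr_ct (f174848 IH) (Lpr_ft (f422985 IH) (Lpr_ct (f172336 IH) (Lpn (LP (LK LD1_c5 LD2_c38 LD3_c9))))))
theorem f423074 : Led Lsl_at (LP (LK LD1_c9 LD2_c1 LD3_c23)) = (LP (LK LD1_c5 LD2_c38 LD3_c12)) :=
  Lgr Lrot66 (Lpr_ff (f422987 IH) (Lpe (f422997 IH) (Lpr_ff (f423071 IH) (Lpn (LP (LK LD1_c5 LD2_c38 LD3_c12))))))
theorem f407079 : Led Lsl_dt (LP (LK LD1_c16 LD2_c51 LD3_c21)) = (LP (LK LD1_c9 LD2_c1 LD3_c23)) :=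
  Lre_d IH (LK LD1_c16 LD2_c51 LD3_c21) (LK LD1_c9 LD2_c1 LD3_c23) Lrfl Lrfl
theorem f380427 : Led Lsl_dt (LP (LK LD1_c5 LD2_c38 LD3_c12)) = (LP (LK LD1_c11 LD2_c7 LD3_c42)) :=
  Lre_d IH (LK LD1_c5 LD2_c38 LD3_c12) (LK LD1_c11 LD2_c7 LD3_c42) Lrfl Lrfl
theorem f423118 : Led Lsl_af (LP (LK LD1_c16 LD2_c51 LD3_c21)) = (LP (LK LD1_c11 LD2_c7 LD3_c42)) :=
  Lgr Lrot117 (Lpr_dt (f407079 IH) (Lpr_at (f423074 IH) (Lpr_dt (f380427 IH) (Lpn (LP (LK LD1_c11 LD2_c7 LD3_c42))))))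
theorem f174841 : Led Lsl_dt (LP (LK LD1_c9 LD2_c1 LD3_c26)) = (LP (LK LD1_c16 LD2_c51 LD3_c25)) :=
  Lre_d IH (LK LD1_c9 LD2_c1 LD3_c26) (LK LD1_c16 LD2_c51 LD3_c25) Lrfl Lrfl
theorem f380426 : Led Lsl_dt (LP (LK LD1_c11 LD2_c7 LD3_c42)) = (LP (LK LD1_c5 LD2_c38 LD3_c12)) :=
  Lre_d IH (LK LD1_c11 LD2_c7 LD3_c42) (LK LD1_c5 LD2_c38 LD3_c12) Lrfl Lrfl
theorem f423079 : Led Lsl_ft (LP (LK LD1_c16 LD2_c51 LD3_c25)) = (LP (LK LD1_c11 LD2_c7 LD3_c42)) :=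
  Lgr Lrot54 (Lpe (f174841 IH) (Lpr_ff (f423071 IH) (Lpe (f380426 IH) (Lpn (LP (LK LD1_c11 LD2_c7 LD3_c42))))))
theorem f174836 : Led Lsl_et (LP (LK LD1_c4 LD2_c31 LD3_c45)) = (LP (LK LD1_c9 LD2_c1 LD3_c27)) :=
  Lre_e IH (LK LD1_c4 LD2_c31 LD3_c45) (LK LD1_c9 LD2_c1 LD3_c27) Lrfl Lrfl
theorem f402635 : Led Lsl_et (LP (LK LD1_c5 LD2_c38 LD3_c10)) = (LP (LK LD1_c2 LD2_c44 LD3_c60)) :=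
  Lre_e IH (LK LD1_c5 LD2_c38 LD3_c10) (LK LD1_c2 LD2_c44 LD3_c60) Lrfl Lrfl
theorem f422999 : Led Lsl_at (LP (LK LD1_c9 LD2_c1 LD3_c27)) = (LP (LK LD1_c5 LD2_c38 LD3_c10)) :=
  Lgr Lrot80 (Lpe (f174836 IH) (Lpr_af (f422993 IH) (Lpe (f402635 IH) (Lpn (LP (LK LD1_c5 LD2_c38 LD3_c10))))))
theorem f174787 : Led Lsl_ct (LP (LK LD1_c16 LD2_c51 LD3_c26)) = (LP (LK LD1_c9 LD2_c1 LD3_c27)) :=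
  Lre_c IH (LK LD1_c16 LD2_c51 LD3_c26) (LK LD1_c9 LD2_c1 LD3_c27) Lrfl Lrfl
theorem f422874 : Led Lsl_ct (LP (LK LD1_c5 LD2_c38 LD3_c10)) = (LP (LK LD1_c11 LD2_c7 LD3_c36)) :=
  Lre_c IH (LK LD1_c5 LD2_c38 LD3_c10) (LK LD1_c11 LD2_c7 LD3_c36) Lrfl Lrfl
theorem f423003 : Led Lsl_af (LP (LK LD1_c16 LD2_c51 LD3_c26)) = (LP (LK LD1_c11 LD2_c7 LD3_c36)) :=
  Lgr Lrot68 (Lpr_ct (f174787 IH) (Lpr_at (f422999 IH) (Lpr_ct (f422874 IH) (Lpn (LP (LK LD1_c11 LD2_c7 LD3_c36))))))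
theorem f423007 : Led Lsl_at (LP (LK LD1_c16 LD2_c51 LD3_c26)) = (LP (LK LD1_c11 LD2_c7 LD3_c36)) :=
  Lgr Lrot100 (Lpr_af (f423003 IH) (Lpn (LP (LK LD1_c11 LD2_c7 LD3_c36))))
theorem f423030 : Led Lsl_et (LP (LK LD1_c9 LD2_c1 LD3_c26)) = (LP (LK LD1_c16 LD2_c51 LD3_c26)) :=
  Lre_e IH (LK LD1_c9 LD2_c1 LD3_c26) (LK LD1_c16 LD2_c51 LD3_c26) Lrfl Lrfl
theorem f423031 : Led Lsl_et (LP (LK LD1_c11 LD2_c7 LD3_c36)) = (LP (LK LD1_c5 LD2_c38 LD3_c9)) :=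
  Lre_e IH (LK LD1_c11 LD2_c7 LD3_c36) (LK LD1_c5 LD2_c38 LD3_c9) Lrfl Lrfl
theorem f423032 : Led Lsl_af (LP (LK LD1_c9 LD2_c1 LD3_c26)) = (LP (LK LD1_c5 LD2_c38 LD3_c9)) :=
  Lgr Lrot50 (Lpr_et (f423030 IH) (Lpr_at (f423007 IH) (Lpr_et (f423031 IH) (Lpn (LP (LK LD1_c5 LD2_c38 LD3_c9))))))
theorem f423036 : Led Lsl_dt (LP (LK LD1_c11 LD2_c7 LD3_c35)) = (LP (LK LD1_c5 LD2_c38 LD3_c9)) :=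
  Lre_d IH (LK LD1_c11 LD2_c7 LD3_c35) (LK LD1_c5 LD2_c38 LD3_c9) Lrfl Lrfl
theorem f423037 : Led Lsl_at (LP (LK LD1_c16 LD2_c51 LD3_c25)) = (LP (LK LD1_c11 LD2_c7 LD3_c35)) :=
  Lgr Lrot51 (Lpe (f174841 IH) (Lpr_af (f423032 IH) (Lpe (f423036 IH) (Lpn (LP (LK LD1_c11 LD2_c7 LD3_c35))))))
theorem f423039 : Led Lsl_af (LP (LK LD1_c16 LD2_c51 LD3_c25)) = (LP (LK LD1_c11 LD2_c7 LD3_c35)) :=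
  Lgr Lrot0 (Lpr_at (f423037 IH) (Lpn (LP (LK LD1_c11 LD2_c7 LD3_c35))))
theorem f423144 : Led Lsl_ft (LP (LK LD1_c16 LD2_c51 LD3_c21)) = (LP (LK LD1_c11 LD2_c7 LD3_c35)) :=
  Lgr Lrot101 (Lpr_af (f423118 IH) (Lpe (f423079 IH) (Lpr_af (f423039 IH) (Lpn (LP (LK LD1_c11 LD2_c7 LD3_c35))))))
theorem f423150 : Led Lsl_ff (LP (LK LD1_c16 LD2_c51 LD3_c21)) = (LP (LK LD1_c11 LD2_c7 LD3_c35)) :=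
  Lgr Lrot3 (Lpr_ft (f423144 IH) (Lpn (LP (LK LD1_c11 LD2_c7 LD3_c35))))
theorem f423140 : Led Lsl_bt (LP (LK LD1_c16 LD2_c51 LD3_c21)) = (LP (LK LD1_c26 LD2_c48 LD3_c39)) :=
  Lre_b IH (LK LD1_c16 LD2_c51 LD3_c21) (LK LD1_c26 LD2_c48 LD3_c39) Lrfl Lrfl
theorem f423053 : Led Lsl_bt (LP (LK LD1_c20 LD2_c0 LD3_c61)) = (LP (LK LD1_c11 LD2_c7 LD3_c35)) :=
  Lre_b IH (LK LD1_c20 LD2_c0 LD3_c61) (LK LD1_c11 LD2_c7 LD3_c35) Lrfl Lrfl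
theorem f423152 : Led Lsl_ft (LP (LK LD1_c26 LD2_c48 LD3_c39)) = (LP (LK LD1_c20 LD2_c0 LD3_c61)) :=
  Lgr Lrot75 (Lpe (f423140 IH) (Lpr_ff (f423150 IH) (Lpe (f423053 IH) (Lpn (LP (LK LD1_c20 LD2_c0 LD3_c61))))))
theorem f174877 : Led Lsl_dt (LP (LK LD1_c26 LD2_c48 LD3_c39)) = (LP (LK LD1_c16 LD2_c51 LD3_c20)) :=
  Lre_d IH (LK LD1_c26 LD2_c48 LD3_c39) (LK LD1_c16 LD2_c51 LD3_c20) Lrfl Lrfl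
theorem f174853 : Led Lsl_cf (LP (LK LD1_c9 LD2_c1 LD3_c22)) = (LP (LK LD1_c9 LD2_c4 LD3_c28)) :=
  Lgr Lrot11 (Lpr_ct (f174752 IH) (Lpn (LP (LK LD1_c9 LD2_c4 LD3_c28))))
theorem f174747 : Led Lsl_ct (LP (LK LD1_c4 LD2_c31 LD3_c44)) = (LP (LK LD1_c9 LD2_c1 LD3_c23)) :=
  Lre_c IH (LK LD1_c4 LD2_c31 LD3_c44) (LK LD1_c9 LD2_c1 LD3_c23) Lrfl Lrfl
theorem f174873 : Led Lsl_bt (LP (LK LD1_c9 LD2_c1 LD3_c23)) = (LP (LK LD1_c16 LD2_c51 LD3_c20)) :=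
  Lre_b IH (LK LD1_c9 LD2_c1 LD3_c23) (LK LD1_c16 LD2_c51 LD3_c20) Lrfl Lrfl
theorem f174874 : Led Lsl_bt (LP (LK LD1_c16 LD2_c56 LD3_c7)) = (LP (LK LD1_c9 LD2_c4 LD3_c28)) :=
  Lre_b IH (LK LD1_c16 LD2_c56 LD3_c7) (LK LD1_c9 LD2_c4 LD3_c28) Lrfl Lrfl
theorem f174875 : Led Lsl_ct (LP (LK LD1_c16 LD2_c51 LD3_c20)) = (LP (LK LD1_c16 LD2_c56 LD3_c7)) :=
  Lgr Lrot83 (Lpe (f174873 IH) (Lpe (f174747 IH) (Lpe (f174749 IH) (Lpr_cf (f174853 IH) (Lpe (f174874 IH) (Lpn (LP (LK LD1_c16 LD2_c56 LD3_c7))))))))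
theorem f174850 : Led Lsl_bt (LP (LK LD1_c9 LD2_c4 LD3_c28)) = (LP (LK LD1_c16 LD2_c56 LD3_c7)) :=
  Lre_b IH (LK LD1_c9 LD2_c4 LD3_c28) (LK LD1_c16 LD2_c56 LD3_c7) Lrfl Lrfl
theorem f398525 : Led Lsl_dt (LP (LK LD1_c16 LD2_c56 LD3_c7)) = (LP (LK LD1_c26 LD2_c49 LD3_c17)) :=
  Lgr Lrot79 (Lpe (f174850 IH) (Lpr_df (f398523 IH) (Lpe (f174488 IH) (Lpn (LP (LK LD1_c26 LD2_c49 LD3_c17))))))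
theorem f242690 : Led Lsl_dt (LP (LK LD1_c19 LD2_c27 LD3_c61)) = (LP (LK LD1_c28 LD2_c50 LD3_c19)) :=
  Lre_d IH (LK LD1_c19 LD2_c27 LD3_c61) (LK LD1_c28 LD2_c50 LD3_c19) Lrfl Lrfl
theorem f282727 : Led Lsl_bt (LP (LK LD1_c8 LD2_c56 LD3_c27)) = (LP (LK LD1_c16 LD2_c44 LD3_c10)) :=
  Lre_b IH (LK LD1_c8 LD2_c56 LD3_c27) (LK LD1_c16 LD2_c44 LD3_c10) Lrfl Lrfl
theorem f388581 : Led Lsl_gt (LP (LK LD1_c16 LD2_c44 LD3_c10)) = (LP (LK LD1_c19 LD2_c28 LD3_c0)) :=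
  Lgr Lrot164 (Lpe (f282727 IH) (Lpe (K17.f282725 IH) (Lpe (K23.f282824 IH) (Lpe (K16.f271625 IH) (Lpe (K17.f174993 IH) (Lpe (K18.f174994 IH) (Lpr_ct (K18.f221374 IH) (Lpe (K30.f388206 IH) (Lpe (K30.f220901 IH) (Lpr_bt (f388570 IH) (Lpn (LP (LK LD1_c19 LD2_c28 LD3_c0)))))))))))))
theorem f295122 : Led Lsl_bt (LP (LK LD1_c10 LD2_c46 LD3_c20)) = (LP (LK LD1_c5 LD2_c27 LD3_c38)) :=
  Lre_b IH (LK LD1_c10 LD2_c46 LD3_c20) (LK LD1_c5 LD2_c27 LD3_c38) Lrfl Lrfl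
theorem f323119 : Led Lsl_ft (LP (LK LD1_c16 LD2_c44 LD3_c10)) = (LP (LK LD1_c10 LD2_c46 LD3_c20)) :=
  Lgr Lrot75 (Lpe (f282727 IH) (Lpr_ff (K20.f323042 IH) (Lpe (f295122 IH) (Lpn (LP (LK LD1_c10 LD2_c46 LD3_c20))))))
theorem f324440 : Led Lsl_at (LP (LK LD1_c10 LD2_c46 LD3_c20)) = (LP (LK LD1_c19 LD2_c28 LD3_c51)) :=
  Lre_a IH (LK LD1_c10 LD2_c46 LD3_c20) (LK LD1_c19 LD2_c28 LD3_c51) Lrfl Lrfl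
theorem f388583 : Led Lsl_gf (LP (LK LD1_c19 LD2_c28 LD3_c51)) = (LP (LK LD1_c19 LD2_c28 LD3_c0)) :=
  Lgr Lrot76 (Lpe (f324440 IH) (Lpe (f323119 IH) (Lpr_gt (f388581 IH) (Lpn (LP (LK LD1_c19 LD2_c28 LD3_c0))))))
theorem f295327 : Led Lsl_dt (LP (LK LD1_c19 LD2_c28 LD3_c3)) = (LP (LK LD1_c10 LD2_c45 LD3_c56)) :=
  Lre_d IH (LK LD1_c19 LD2_c28 LD3_c3) (LK LD1_c10 LD2_c45 LD3_c56) Lrfl Lrfl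
theorem f389392 : Led Lsl_af (LP (LK LD1_c19 LD2_c28 LD3_c3)) = (LP (LK LD1_c18 LD2_c44 LD3_c2)) :=
  Lgr Lrot117 (Lpr_dt (f295327 IH) (Lpr_at (f389383 IH) (Lpr_dt (f33529 IH) (Lpn (LP (LK LD1_c18 LD2_c44 LD3_c2))))))
theorem f389483 : Led Lsl_gt (LP (LK LD1_c19 LD2_c28 LD3_c51)) = (LP (LK LD1_c19 LD2_c28 LD3_c3)) :=
  Lgr Lrot46 (Lpr_gf (f388583 IH) (Lpr_ft (f389477 IH) (Lpe (f389392 IH) (Lpn (LP (LK LD1_c19 LD2_c28 LD3_c3))))))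
theorem f199490 : Led Lsl_bt (LP (LK LD1_c19 LD2_c54 LD3_c58)) = (LP (LK LD1_c11 LD2_c3 LD3_c15)) :=
  Lre_b IH (LK LD1_c19 LD2_c54 LD3_c58) (LK LD1_c11 LD2_c3 LD3_c15) Lrfl Lrfl
theorem f384976 : Led Lsl_af (LP (LK LD1_c19 LD2_c54 LD3_c58)) = (LP (LK LD1_c26 LD2_c48 LD3_c21)) :=
  Lgr Lrot36 (Lpr_bt (f199490 IH) (Lpe (K30.f382830 IH) (Lpe (K30.f384961 IH) (Lpr_at (K30.f384971 IH) (Lpr_bt (K30.f384975 IH) (Lpn (LP (LK LD1_c26 LD2_c48 LD3_c21))))))))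
theorem f332654 : Led Lsl_gt (LP (LK LD1_c19 LD2_c54 LD3_c59)) = (LP (LK LD1_c25 LD2_c8 LD3_c47)) :=
  Lgr Lrot149 (Lpe (K30.f199494 IH) (Lpe (K30.f199489 IH) (Lpe (K30.f199488 IH) (Lpr_ct (K12.f199487 IH) (Lpe (K12.f199480 IH) (Lpe (K16.f192824 IH) (Lpr_bt (K19.f199397 IH) (Lpe (K22.f199459 IH) (Lpe (K30.f199463 IH) (Lpr_ct (K30.f332581 IH) (Lpn (LP (LK LD1_c25 LD2_c8 LD3_c47)))))))))))))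
theorem f332656 : Led Lsl_bt (LP (LK LD1_c11 LD2_c3 LD3_c15)) = (LP (LK LD1_c19 LD2_c54 LD3_c58)) :=
  Lre_b IH (LK LD1_c11 LD2_c3 LD3_c15) (LK LD1_c19 LD2_c54 LD3_c58) Lrfl Lrfl
theorem f244015 : Led Lsl_ct (LP (LK LD1_c15 LD2_c22 LD3_c58)) = (LP (LK LD1_c8 LD2_c10 LD3_c5)) :=
  Lre_c IH (LK LD1_c15 LD2_c22 LD3_c58) (LK LD1_c8 LD2_c10 LD3_c5) Lrfl Lrfl
theorem f244037 : Led Lsl_bt (LP (LK LD1_c15 LD2_c22 LD3_c58)) = (LP (LK LD1_c25 LD2_c14 LD3_c48)) :=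
  Lre_b IH (LK LD1_c15 LD2_c22 LD3_c58) (LK LD1_c25 LD2_c14 LD3_c48) Lrfl Lrfl
theorem f332657 : Led Lsl_gf (LP (LK LD1_c19 LD2_c54 LD3_c58)) = (LP (LK LD1_c25 LD2_c14 LD3_c48)) :=
  Lgr Lrot124 (Lpe (f332656 IH) (Lpr_ct (K30.f199494 IH) (Lpr_gt (f332654 IH) (Lpe (K30.f332581 IH) (Lpr_bt (K30.f199463 IH) (Lpr_gt (K22.f199459 IH) (Lpr_ct (K22.f199395 IH) (Lpr_gt (f193330 IH) (Lpe (f244015 IH) (Lpr_bt (f244037 IH) (Lpn (LP (LK LD1_c25 LD2_c14 LD3_c48)))))))))))))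
theorem f324555 : Led Lsl_bt (LP (LK LD1_c5 LD2_c35 LD3_c38)) = (LP (LK LD1_c2 LD2_c43 LD3_c45)) :=
  Lre_b IH (LK LD1_c5 LD2_c35 LD3_c38) (LK LD1_c2 LD2_c43 LD3_c45) Lrfl Lrfl
theorem f316775 : Led Lsl_ct (LP (LK LD1_c5 LD2_c35 LD3_c38)) = (LP (LK LD1_c11 LD2_c3 LD3_c28)) :=
  Lre_c IH (LK LD1_c5 LD2_c35 LD3_c38) (LK LD1_c11 LD2_c3 LD3_c28) Lrfl Lrfl
theorem f332659 : Led Lsl_gt (LP (LK LD1_c19 LD2_c55 LD3_c30)) = (LP (LK LD1_c11 LD2_c3 LD3_c28)) :=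
  Lre_g IH (LK LD1_c19 LD2_c55 LD3_c30) (LK LD1_c11 LD2_c3 LD3_c28) Lrfl Lrfl
theorem f332660 : Led Lsl_ct (LP (LK LD1_c19 LD2_c54 LD3_c58)) = (LP (LK LD1_c19 LD2_c55 LD3_c30)) :=
  Lgr Lrot91 (Lpr_gf (f332657 IH) (Lpe (f244037 IH) (Lpr_ct (f244015 IH) (Lpe (f193330 IH) (Lpe (K22.f199395 IH) (Lpr_bt (K22.f199350 IH) (Lpr_gf (K20.f312118 IH) (Lpe (f324555 IH) (Lpr_ct (f316775 IH) (Lpe (f332659 IH) (Lpn (LP (LK LD1_c19 LD2_c55 LD3_c30)))))))))))))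
theorem f385007 : Led Lsl_af (LP (LK LD1_c19 LD2_c32 LD3_c49)) = (LP (LK LD1_c19 LD2_c55 LD3_c30)) :=
  Lgr Lrot68 (Lpr_ct (K30.f384992 IH) (Lpe (f384976 IH) (Lpr_ct (f332660 IH) (Lpn (LP (LK LD1_c19 LD2_c55 LD3_c30))))))
theorem f371480 : Led Lsl_gt (LP (LK LD1_c24 LD2_c49 LD3_c33)) = (LP (LK LD1_c15 LD2_c1 LD3_c30)) :=
  Lre_g IH (LK LD1_c24 LD2_c49 LD3_c33) (LK LD1_c15 LD2_c1 LD3_c30) Lrfl Lrfl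
theorem f385013 : Led Lsl_ft (LP (LK LD1_c24 LD2_c49 LD3_c33)) = (LP (LK LD1_c19 LD2_c55 LD3_c30)) :=
  Lgr Lrot2 (Lpr_gt (f371480 IH) (Lpr_gt (K30.f371476 IH) (Lpr_af (f385007 IH) (Lpn (LP (LK LD1_c19 LD2_c55 LD3_c30))))))
theorem f385015 : Led Lsl_ff (LP (LK LD1_c24 LD2_c49 LD3_c33)) = (LP (LK LD1_c19 LD2_c55 LD3_c30)) :=
  Lgr Lrot3 (Lpr_ft (f385013 IH) (Lpn (LP (LK LD1_c19 LD2_c55 LD3_c30))))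
theorem f344691 : Led Lsl_gt (LP (LK LD1_c11 LD2_c3 LD3_c28)) = (LP (LK LD1_c19 LD2_c55 LD3_c29)) :=
  Lre_g IH (LK LD1_c11 LD2_c3 LD3_c28) (LK LD1_c19 LD2_c55 LD3_c29) Lrfl Lrfl
theorem f385017 : Led Lsl_at (LP (LK LD1_c24 LD2_c49 LD3_c33)) = (LP (LK LD1_c19 LD2_c55 LD3_c29)) :=
  Lgr Lrot26 (Lpr_ff (f385015 IH) (Lpr_gt (f332659 IH) (Lpr_gt (f344691 IH) (Lpn (LP (LK LD1_c19 LD2_c55 LD3_c29))))))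
theorem f385011 : Led Lsl_at (LP (LK LD1_c19 LD2_c32 LD3_c49)) = (LP (LK LD1_c19 LD2_c55 LD3_c30)) :=
  Lgr Lrot100 (Lpr_af (f385007 IH) (Lpn (LP (LK LD1_c19 LD2_c55 LD3_c30))))
theorem f385021 : Led Lsl_ff (LP (LK LD1_c19 LD2_c32 LD3_c49)) = (LP (LK LD1_c19 LD2_c55 LD3_c29)) :=
  Lgr Lrot30 (Lpr_at (f385011 IH) (Lpe (f385015 IH) (Lpr_at (f385017 IH) (Lpn (LP (LK LD1_c19 LD2_c55 LD3_c29))))))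
theorem f385023 : Led Lsl_bt (LP (LK LD1_c11 LD2_c5 LD3_c23)) = (LP (LK LD1_c19 LD2_c55 LD3_c29)) :=
  Lgr Lrot35 (Lpr_ff (K30.f384386 IH) (Lpe (K30.f319273 IH) (Lpr_ff (f385021 IH) (Lpn (LP (LK LD1_c19 LD2_c55 LD3_c29))))))
theorem f253837 : Led Lsl_ct (LP (LK LD1_c10 LD2_c48 LD3_c43)) = (LP (LK LD1_c5 LD2_c28 LD3_c49)) :=
  Lre_c IH (LK LD1_c10 LD2_c48 LD3_c43) (LK LD1_c5 LD2_c28 LD3_c49) Lrfl Lrfl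
theorem f344692 : Led Lsl_gt (LP (LK LD1_c19 LD2_c55 LD3_c29)) = (LP (LK LD1_c24 LD2_c49 LD3_c34)) :=
  Lgr Lrot46 (Lpe (f344691 IH) (Lpr_ft (K23.f344678 IH) (Lpr_at (K23.f344618 IH) (Lpn (LP (LK LD1_c24 LD2_c49 LD3_c34))))))
theorem f344622 : Led Lsl_bf (LP (LK LD1_c24 LD2_c49 LD3_c34)) = (LP (LK LD1_c19 LD2_c29 LD3_c13)) :=
  Lgr Lrot24 (Lpr_bt (K23.f344620 IH) (Lpn (LP (LK LD1_c19 LD2_c29 LD3_c13))))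
theorem f385065 : Led Lsl_gf (LP (LK LD1_c15 LD2_c37 LD3_c35)) = (LP (LK LD1_c10 LD2_c46 LD3_c38)) :=
  Lgr Lrot126 (Lpr_cf (f371511 IH) (Lpr_bt (f228018 IH) (Lpe (f253831 IH) (Lpr_ct (f253837 IH) (Lpr_gt (K30.f289545 IH) (Lpe (K30.f178944 IH) (Lpr_bt (f385023 IH) (Lpr_gt (f344692 IH) (Lpr_bf (f344622 IH) (Lpr_ct (f324367 IH) (Lpn (LP (LK LD1_c10 LD2_c46 LD3_c38)))))))))))))
theorem f337522 : Led Lsl_bt (LP (LK LD1_c16 LD2_c44 LD3_c9)) = (LP (LK LD1_c10 LD2_c46 LD3_c38)) :=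
  Lgr Lrot35 (Lpr_ff (K22.f337515 IH) (Lpe (f323135 IH) (Lpr_ff (f324355 IH) (Lpn (LP (LK LD1_c10 LD2_c46 LD3_c38))))))
theorem f226437 : Led Lsl_gt (LP (LK LD1_c16 LD2_c44 LD3_c29)) = (LP (LK LD1_c26 LD2_c43 LD3_c22)) :=
  Lre_g IH (LK LD1_c16 LD2_c44 LD3_c29) (LK LD1_c26 LD2_c43 LD3_c22) Lrfl Lrfl
theorem f226428 : Led Lsl_et (LP (LK LD1_c11 LD2_c5 LD3_c37)) = (LP (LK LD1_c5 LD2_c36 LD3_c45)) :=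
  Lre_e IH (LK LD1_c11 LD2_c5 LD3_c37) (LK LD1_c5 LD2_c36 LD3_c45) Lrfl Lrfl
theorem f226429 : Led Lsl_et (LP (LK LD1_c8 LD2_c56 LD3_c34)) = (LP (LK LD1_c16 LD2_c44 LD3_c30)) :=
  Lre_e IH (LK LD1_c8 LD2_c56 LD3_c34) (LK LD1_c16 LD2_c44 LD3_c30) Lrfl Lrfl
theorem f226430 : Led Lsl_cf (LP (LK LD1_c11 LD2_c5 LD3_c37)) = (LP (LK LD1_c16 LD2_c44 LD3_c30)) :=
  Lgr Lrot39 (Lpr_et (f226428 IH) (Lpr_ct (K30.f226413 IH) (Lpr_et (f226429 IH) (Lpn (LP (LK LD1_c16 LD2_c44 LD3_c30))))))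
theorem f226447 : Led Lsl_ft (LP (LK LD1_c11 LD2_c5 LD3_c37)) = (LP (LK LD1_c19 LD2_c58 LD3_c46)) :=
  Lre_f IH (LK LD1_c11 LD2_c5 LD3_c37) (LK LD1_c19 LD2_c58 LD3_c46) Lrfl Lrfl
theorem f226448 : Led Lsl_ft (LP (LK LD1_c26 LD2_c43 LD3_c26)) = (LP (LK LD1_c16 LD2_c44 LD3_c30)) :=
  Lre_f IH (LK LD1_c26 LD2_c43 LD3_c26) (LK LD1_c16 LD2_c44 LD3_c30) Lrfl Lrfl
theorem f226449 : Led Lsl_ct (LP (LK LD1_c19 LD2_c58 LD3_c46)) = (LP (LK LD1_c26 LD2_c43 LD3_c26)) :=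
  Lgr Lrot40 (Lpe (f226447 IH) (Lpr_cf (f226430 IH) (Lpe (f226448 IH) (Lpn (LP (LK LD1_c26 LD2_c43 LD3_c26))))))
theorem f226462 : Led Lsl_cf (LP (LK LD1_c19 LD2_c58 LD3_c46)) = (LP (LK LD1_c26 LD2_c43 LD3_c26)) :=
  Lgr Lrot11 (Lpr_ct (f226449 IH) (Lpn (LP (LK LD1_c26 LD2_c43 LD3_c26))))
theorem f226464 : Led Lsl_bt (LP (LK LD1_c19 LD2_c58 LD3_c46)) = (LP (LK LD1_c11 LD2_c5 LD3_c47)) :=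
  Lre_b IH (LK LD1_c19 LD2_c58 LD3_c46) (LK LD1_c11 LD2_c5 LD3_c47) Lrfl Lrfl
theorem f226465 : Led Lsl_ct (LP (LK LD1_c11 LD2_c5 LD3_c47)) = (LP (LK LD1_c19 LD2_c58 LD3_c59)) :=
  Lre_c IH (LK LD1_c11 LD2_c5 LD3_c47) (LK LD1_c19 LD2_c58 LD3_c59) Lrfl Lrfl
theorem f226466 : Led Lsl_bt (LP (LK LD1_c19 LD2_c58 LD3_c59)) = (LP (LK LD1_c29 LD2_c13 LD3_c52)) :=
  Lre_b IH (LK LD1_c19 LD2_c58 LD3_c59) (LK LD1_c29 LD2_c13 LD3_c52) Lrfl Lrfl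
theorem f226467 : Led Lsl_bt (LP (LK LD1_c32 LD2_c15 LD3_c14)) = (LP (LK LD1_c26 LD2_c43 LD3_c26)) :=
  Lre_b IH (LK LD1_c32 LD2_c15 LD3_c14) (LK LD1_c26 LD2_c43 LD3_c26) Lrfl Lrfl
theorem f226468 : Led Lsl_ct (LP (LK LD1_c29 LD2_c13 LD3_c52)) = (LP (LK LD1_c32 LD2_c15 LD3_c14)) :=
  Lgr Lrot83 (Lpe (f226466 IH) (Lpe (f226465 IH) (Lpe (f226464 IH) (Lpr_cf (f226462 IH) (Lpe (f226467 IH) (Lpn (LP (LK LD1_c32 LD2_c15 LD3_c14))))))))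
theorem f226472 : Led Lsl_ft (LP (LK LD1_c19 LD2_c58 LD3_c51)) = (LP (LK LD1_c29 LD2_c13 LD3_c52)) :=
  Lre_f IH (LK LD1_c19 LD2_c58 LD3_c51) (LK LD1_c29 LD2_c13 LD3_c52) Lrfl Lrfl
theorem f226473 : Led Lsl_ft (LP (LK LD1_c32 LD2_c15 LD3_c14)) = (LP (LK LD1_c26 LD2_c43 LD3_c24)) :=
  Lre_f IH (LK LD1_c32 LD2_c15 LD3_c14) (LK LD1_c26 LD2_c43 LD3_c24) Lrfl Lrfl
theorem f226474 : Led Lsl_cf (LP (LK LD1_c19 LD2_c58 LD3_c51)) = (LP (LK LD1_c26 LD2_c43 LD3_c24)) :=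
  Lgr Lrot108 (Lpr_ft (f226472 IH) (Lpr_ct (f226468 IH) (Lpr_ft (f226473 IH) (Lpn (LP (LK LD1_c26 LD2_c43 LD3_c24))))))
theorem f178069 : Led Lsl_et (LP (LK LD1_c19 LD2_c58 LD3_c51)) = (LP (LK LD1_c11 LD2_c5 LD3_c40)) :=
  Lre_e IH (LK LD1_c19 LD2_c58 LD3_c51) (LK LD1_c11 LD2_c5 LD3_c40) Lrfl Lrfl
theorem f226483 : Led Lsl_et (LP (LK LD1_c16 LD2_c44 LD3_c29)) = (LP (LK LD1_c26 LD2_c43 LD3_c24)) :=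
  Lre_e IH (LK LD1_c16 LD2_c44 LD3_c29) (LK LD1_c26 LD2_c43 LD3_c24) Lrfl Lrfl
theorem f226484 : Led Lsl_ct (LP (LK LD1_c11 LD2_c5 LD3_c40)) = (LP (LK LD1_c16 LD2_c44 LD3_c29)) :=
  Lgr Lrot15 (Lpe (f178069 IH) (Lpr_cf (f226474 IH) (Lpe (f226483 IH) (Lpn (LP (LK LD1_c16 LD2_c44 LD3_c29))))))
theorem f382959 : Led Lsl_cf (LP (LK LD1_c19 LD2_c54 LD3_c12)) = (LP (LK LD1_c26 LD2_c4 LD3_c43)) :=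
  Lgr Lrot11 (Lpr_ct (K30.f382954 IH) (Lpn (LP (LK LD1_c26 LD2_c4 LD3_c43))))
theorem f228172 : Led Lsl_bt (LP (LK LD1_c26 LD2_c4 LD3_c43)) = (LP (LK LD1_c16 LD2_c8 LD3_c11)) :=
  Lre_b IH (LK LD1_c26 LD2_c4 LD3_c43) (LK LD1_c16 LD2_c8 LD3_c11) Lrfl Lrfl
theorem f234813 : Led Lsl_ct (LP (LK LD1_c10 LD2_c50 LD3_c60)) = (LP (LK LD1_c19 LD2_c36 LD3_c44)) :=
  Lre_c IH (LK LD1_c10 LD2_c50 LD3_c60) (LK LD1_c19 LD2_c36 LD3_c44) Lrfl Lrfl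
theorem f234824 : Led Lsl_bf (LP (LK LD1_c26 LD2_c4 LD3_c41)) = (LP (LK LD1_c19 LD2_c36 LD3_c44)) :=
  Lgr Lrot90 (Lpe (f228163 IH) (Lpr_bt (f228099 IH) (Lpr_ct (f234821 IH) (Lpr_bt (f234809 IH) (Lpr_ct (f234813 IH) (Lpn (LP (LK LD1_c19 LD2_c36 LD3_c44))))))))
theorem f234818 : Led Lsl_ct (LP (LK LD1_c19 LD2_c36 LD3_c44)) = (LP (LK LD1_c10 LD2_c50 LD3_c60)) :=
  Lre_c IH (LK LD1_c19 LD2_c36 LD3_c44) (LK LD1_c10 LD2_c50 LD3_c60) Lrfl Lrfl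
theorem f375725 : Led Lsl_gf (LP (LK LD1_c16 LD2_c43 LD3_c0)) = (LP (LK LD1_c10 LD2_c50 LD3_c60)) :=
  Lgr Lrot76 (Lpe (K30.f254853 IH) (Lpr_ff (K30.f375703 IH) (Lpr_gt (f234808 IH) (Lpn (LP (LK LD1_c10 LD2_c50 LD3_c60))))))
theorem f199520 : Led Lsl_gt (LP (LK LD1_c19 LD2_c54 LD3_c52)) = (LP (LK LD1_c11 LD2_c3 LD3_c11)) :=
  Lre_g IH (LK LD1_c19 LD2_c54 LD3_c52) (LK LD1_c11 LD2_c3 LD3_c11) Lrfl Lrfl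
theorem f334272 : Led Lsl_gf (LP (LK LD1_c19 LD2_c54 LD3_c52)) = (LP (LK LD1_c16 LD2_c37 LD3_c36)) :=
  Lgr Lrot47 (Lpr_gt (f199520 IH) (Lpe (K30.f334205 IH) (Lpr_ff (K30.f334207 IH) (Lpn (LP (LK LD1_c16 LD2_c37 LD3_c36))))))
theorem f235682 : Led Lsl_gt (LP (LK LD1_c9 LD2_c0 LD3_c44)) = (LP (LK LD1_c16 LD2_c50 LD3_c23)) :=
  Lre_g IH (LK LD1_c9 LD2_c0 LD3_c44) (LK LD1_c16 LD2_c50 LD3_c23) Lrfl Lrfl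
theorem f235927 : Led Lsl_bt (LP (LK LD1_c26 LD2_c47 LD3_c50)) = (LP (LK LD1_c16 LD2_c50 LD3_c23)) :=
  Lre_b IH (LK LD1_c26 LD2_c47 LD3_c50) (LK LD1_c16 LD2_c50 LD3_c23) Lrfl Lrfl
theorem f235928 : Led Lsl_cf (LP (LK LD1_c19 LD2_c54 LD3_c52)) = (LP (LK LD1_c26 LD2_c47 LD3_c50)) :=
  Lgr Lrot160 (Lpr_gt (f199520 IH) (Lpe (K30.f199500 IH) (Lpr_bt (K30.f199519 IH) (Lpe (K12.f199483 IH) (Lpr_ct (K12.f172011 IH) (Lpe (K13.f235637 IH) (Lpr_cf (K14.f235917 IH) (Lpr_bt (K14.f235681 IH) (Lpr_gt (f235682 IH) (Lpe (f235927 IH) (Lpn (LP (LK LD1_c26 LD2_c47 LD3_c50)))))))))))))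
theorem f235931 : Led Lsl_ct (LP (LK LD1_c19 LD2_c54 LD3_c52)) = (LP (LK LD1_c26 LD2_c47 LD3_c50)) :=
  Lgr Lrot59 (Lpr_cf (f235928 IH) (Lpn (LP (LK LD1_c26 LD2_c47 LD3_c50))))
theorem f382988 : Led Lsl_gf (LP (LK LD1_c19 LD2_c54 LD3_c12)) = (LP (LK LD1_c26 LD2_c47 LD3_c50)) :=
  Lgr Lrot129 (Lpr_cf (f382959 IH) (Lpr_bt (f228172 IH) (Lpr_gt (f223651 IH) (Lpr_bf (f234824 IH) (Lpr_ct (f234818 IH) (Lpe (f375725 IH) (Lpe (K30.f375734 IH) (Lpr_bt (K30.f375732 IH) (Lpe (f334272 IH) (Lpr_ct (f235931 IH) (Lpn (LP (LK LD1_c26 LD2_c47 LD3_c50)))))))))))))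
theorem f235930 : Led Lsl_bt (LP (LK LD1_c16 LD2_c50 LD3_c23)) = (LP (LK LD1_c26 LD2_c47 LD3_c50)) :=
  Lre_b IH (LK LD1_c16 LD2_c50 LD3_c23) (LK LD1_c26 LD2_c47 LD3_c50) Lrfl Lrfl
theorem f385079 : Led Lsl_cf (LP (LK LD1_c26 LD2_c43 LD3_c22)) = (LP (LK LD1_c16 LD2_c50 LD3_c23)) :=
  Lgr Lrot58 (Lpe (f226437 IH) (Lpe (f226484 IH) (Lpr_bt (K30.f226421 IH) (Lpe (K30.f226500 IH) (Lpr_bf (K30.f384961 IH) (Lpr_ct (K30.f334196 IH) (Lpe (K30.f334199 IH) (Lpe (K30.f382954 IH) (Lpr_gf (f382988 IH) (Lpe (f235930 IH) (Lpn (LP (LK LD1_c16 LD2_c50 LD3_c23)))))))))))))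
theorem f385081 : Led Lsl_ct (LP (LK LD1_c26 LD2_c43 LD3_c22)) = (LP (LK LD1_c16 LD2_c50 LD3_c23)) :=
  Lgr Lrot59 (Lpr_cf (f385079 IH) (Lpn (LP (LK LD1_c16 LD2_c50 LD3_c23))))
theorem f386459 : Led Lsl_gf (LP (LK LD1_c11 LD2_c3 LD3_c36)) = (LP (LK LD1_c16 LD2_c50 LD3_c23)) :=
  Lgr Lrot129 (Lpe (K22.f178029 IH) (Lpr_bt (f337522 IH) (Lpe (f385065 IH) (Lpe (f386441 IH) (Lpr_ct (f386443 IH) (Lpr_gt (f226416 IH) (Lpr_cf (f226425 IH) (Lpr_bt (K30.f226422 IH) (Lpr_gt (f226437 IH) (Lpr_ct (f385081 IH) (Lpn (LP (LK LD1_c16 LD2_c50 LD3_c23)))))))))))))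
theorem f303281 : Led Lsl_bt (LP (LK LD1_c4 LD2_c31 LD3_c23)) = (LP (LK LD1_c9 LD2_c0 LD3_c41)) :=
  Lre_b IH (LK LD1_c4 LD2_c31 LD3_c23) (LK LD1_c9 LD2_c0 LD3_c41) Lrfl Lrfl
theorem f324474 : Led Lsl_at (LP (LK LD1_c9 LD2_c0 LD3_c41)) = (LP (LK LD1_c16 LD2_c50 LD3_c18)) :=
  Lre_a IH (LK LD1_c9 LD2_c0 LD3_c41) (LK LD1_c16 LD2_c50 LD3_c18) Lrfl Lrfl
theorem f177980 : Led Lsl_at (LP (LK LD1_c11 LD2_c3 LD3_c36)) = (LP (LK LD1_c5 LD2_c35 LD3_c41)) :=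
  Lre_a IH (LK LD1_c11 LD2_c3 LD3_c36) (LK LD1_c5 LD2_c35 LD3_c41) Lrfl Lrfl
theorem f324475 : Led Lsl_bt (LP (LK LD1_c16 LD2_c50 LD3_c18)) = (LP (LK LD1_c11 LD2_c3 LD3_c36)) :=
  Lgr Lrot62 (Lpe (f324474 IH) (Lpe (f303281 IH) (Lpr_af (K21.f324470 IH) (Lpe (K22.f177962 IH) (Lpe (f177980 IH) (Lpn (LP (LK LD1_c11 LD2_c3 LD3_c36))))))))
theorem f334185 : Led Lsl_ct (LP (LK LD1_c16 LD2_c50 LD3_c6)) = (LP (LK LD1_c16 LD2_c37 LD3_c36)) :=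
  Lgr Lrot111 (Lpe (K30.f317113 IH) (Lpr_cf (K30.f334174 IH) (Lpe (f334184 IH) (Lpn (LP (LK LD1_c16 LD2_c37 LD3_c36))))))
theorem f385029 : Led Lsl_gf (LP (LK LD1_c19 LD2_c55 LD3_c30)) = (LP (LK LD1_c24 LD2_c49 LD3_c34)) :=
  Lgr Lrot76 (Lpe (f385011 IH) (Lpr_ff (f385021 IH) (Lpr_gt (f344692 IH) (Lpn (LP (LK LD1_c24 LD2_c49 LD3_c34))))))
theorem f386463 : Led Lsl_ct (LP (LK LD1_c16 LD2_c50 LD3_c18)) = (LP (LK LD1_c24 LD2_c49 LD3_c34)) :=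
  Lgr Lrot64 (Lpr_bt (f324475 IH) (Lpr_gf (f386459 IH) (Lpe (f235927 IH) (Lpe (f235928 IH) (Lpr_gf (f334272 IH) (Lpe (f334185 IH) (Lpr_gf (K30.f317125 IH) (Lpe (f199490 IH) (Lpr_ct (f332660 IH) (Lpr_gf (f385029 IH) (Lpn (LP (LK LD1_c24 LD2_c49 LD3_c34)))))))))))))
theorem f324622 : Led Lsl_bt (LP (LK LD1_c11 LD2_c3 LD3_c30)) = (LP (LK LD1_c5 LD2_c35 LD3_c40)) :=
  Lre_b IH (LK LD1_c11 LD2_c3 LD3_c30) (LK LD1_c5 LD2_c35 LD3_c40) Lrfl Lrfl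
theorem f340504 : Led Lsl_at (LP (LK LD1_c19 LD2_c55 LD3_c28)) = (LP (LK LD1_c11 LD2_c3 LD3_c30)) :=
  Lre_a IH (LK LD1_c19 LD2_c55 LD3_c28) (LK LD1_c11 LD2_c3 LD3_c30) Lrfl Lrfl
theorem f235864 : Led Lsl_at (LP (LK LD1_c16 LD2_c50 LD3_c27)) = (LP (LK LD1_c26 LD2_c47 LD3_c52)) :=
  Lre_a IH (LK LD1_c16 LD2_c50 LD3_c27) (LK LD1_c26 LD2_c47 LD3_c52) Lrfl Lrfl
theorem f340505 : Led Lsl_bf (LP (LK LD1_c19 LD2_c55 LD3_c28)) = (LP (LK LD1_c26 LD2_c47 LD3_c52)) :=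
  Lgr Lrot81 (Lpr_at (f340504 IH) (Lpr_bt (f324622 IH) (Lpr_at (K24.f340500 IH) (Lpr_bt (K14.f235904 IH) (Lpr_at (f235864 IH) (Lpn (LP (LK LD1_c26 LD2_c47 LD3_c52))))))))
theorem f340547 : Led Lsl_et (LP (LK LD1_c19 LD2_c55 LD3_c28)) = (LP (LK LD1_c11 LD2_c3 LD3_c27)) :=
  Lre_e IH (LK LD1_c19 LD2_c55 LD3_c28) (LK LD1_c11 LD2_c3 LD3_c27) Lrfl Lrfl
theorem f235990 : Led Lsl_et (LP (LK LD1_c16 LD2_c50 LD3_c25)) = (LP (LK LD1_c26 LD2_c47 LD3_c52)) :=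
  Lre_e IH (LK LD1_c16 LD2_c50 LD3_c25) (LK LD1_c26 LD2_c47 LD3_c52) Lrfl Lrfl
theorem f340548 : Led Lsl_bt (LP (LK LD1_c11 LD2_c3 LD3_c27)) = (LP (LK LD1_c16 LD2_c50 LD3_c25)) :=
  Lgr Lrot119 (Lpe (f340547 IH) (Lpr_bf (f340505 IH) (Lpe (f235990 IH) (Lpn (LP (LK LD1_c16 LD2_c50 LD3_c25))))))
theorem f340554 : Led Lsl_dt (LP (LK LD1_c19 LD2_c55 LD3_c27)) = (LP (LK LD1_c11 LD2_c3 LD3_c27)) :=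
  Lre_d IH (LK LD1_c19 LD2_c55 LD3_c27) (LK LD1_c11 LD2_c3 LD3_c27) Lrfl Lrfl
theorem f235994 : Led Lsl_dt (LP (LK LD1_c16 LD2_c50 LD3_c25)) = (LP (LK LD1_c26 LD2_c47 LD3_c51)) :=
  Lre_d IH (LK LD1_c16 LD2_c50 LD3_c25) (LK LD1_c26 LD2_c47 LD3_c51) Lrfl Lrfl
theorem f340555 : Led Lsl_bf (LP (LK LD1_c19 LD2_c55 LD3_c27)) = (LP (LK LD1_c26 LD2_c47 LD3_c51)) :=
  Lgr Lrot93 (Lpr_dt (f340554 IH) (Lpr_bt (f340548 IH) (Lpr_dt (f235994 IH) (Lpn (LP (LK LD1_c26 LD2_c47 LD3_c51))))))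
theorem f340558 : Led Lsl_bt (LP (LK LD1_c19 LD2_c55 LD3_c27)) = (LP (LK LD1_c26 LD2_c47 LD3_c51)) :=
  Lgr Lrot127 (Lpr_bf (f340555 IH) (Lpn (LP (LK LD1_c26 LD2_c47 LD3_c51))))
theorem f337483 : Led Lsl_at (LP (LK LD1_c19 LD2_c55 LD3_c51)) = (LP (LK LD1_c11 LD2_c3 LD3_c37)) :=
  Lre_a IH (LK LD1_c19 LD2_c55 LD3_c51) (LK LD1_c11 LD2_c3 LD3_c37) Lrfl Lrfl
theorem f337484 : Led Lsl_at (LP (LK LD1_c16 LD2_c50 LD3_c26)) = (LP (LK LD1_c26 LD2_c47 LD3_c51)) :=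
  Lre_a IH (LK LD1_c16 LD2_c50 LD3_c26) (LK LD1_c26 LD2_c47 LD3_c51) Lrfl Lrfl
theorem f337485 : Led Lsl_ff (LP (LK LD1_c19 LD2_c55 LD3_c51)) = (LP (LK LD1_c26 LD2_c47 LD3_c51)) :=
  Lgr Lrot30 (Lpr_at (f337483 IH) (Lpr_ft (K22.f337472 IH) (Lpr_at (f337484 IH) (Lpn (LP (LK LD1_c26 LD2_c47 LD3_c51))))))
theorem f293461 : Led Lsl_bt (LP (LK LD1_c16 LD2_c50 LD3_c19)) = (LP (LK LD1_c9 LD2_c0 LD3_c42)) :=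
  Lre_b IH (LK LD1_c16 LD2_c50 LD3_c19) (LK LD1_c9 LD2_c0 LD3_c42) Lrfl Lrfl
theorem f324479 : Led Lsl_at (LP (LK LD1_c26 LD2_c47 LD3_c40)) = (LP (LK LD1_c16 LD2_c50 LD3_c19)) :=
  Lre_a IH (LK LD1_c26 LD2_c47 LD3_c40) (LK LD1_c16 LD2_c50 LD3_c19) Lrfl Lrfl
theorem f324481 : Led Lsl_bf (LP (LK LD1_c26 LD2_c47 LD3_c40)) = (LP (LK LD1_c19 LD2_c55 LD3_c51)) :=
  Lgr Lrot81 (Lpr_at (f324479 IH) (Lpr_bt (f293461 IH) (Lpr_at (K21.f324477 IH) (Lpr_bt (K22.f279544 IH) (Lpr_at (K22.f324480 IH) (Lpn (LP (LK LD1_c19 LD2_c55 LD3_c51))))))))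
theorem f340564 : Led Lsl_ff (LP (LK LD1_c19 LD2_c55 LD3_c27)) = (LP (LK LD1_c26 LD2_c47 LD3_c40)) :=
  Lgr Lrot25 (Lpr_bt (f340558 IH) (Lpe (f337485 IH) (Lpe (f324481 IH) (Lpn (LP (LK LD1_c26 LD2_c47 LD3_c40))))))
theorem f340572 : Led Lsl_ft (LP (LK LD1_c19 LD2_c55 LD3_c27)) = (LP (LK LD1_c26 LD2_c47 LD3_c40)) :=
  Lgr Lrot48 (Lpr_ff (f340564 IH) (Lpn (LP (LK LD1_c26 LD2_c47 LD3_c40))))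
theorem f340562 : Led Lsl_dt (LP (LK LD1_c11 LD2_c3 LD3_c27)) = (LP (LK LD1_c19 LD2_c55 LD3_c27)) :=
  Lre_d IH (LK LD1_c11 LD2_c3 LD3_c27) (LK LD1_c19 LD2_c55 LD3_c27) Lrfl Lrfl
theorem f340576 : Led Lsl_dt (LP (LK LD1_c26 LD2_c47 LD3_c40)) = (LP (LK LD1_c16 LD2_c50 LD3_c18)) :=
  Lre_d IH (LK LD1_c26 LD2_c47 LD3_c40) (LK LD1_c16 LD2_c50 LD3_c18) Lrfl Lrfl
theorem f340580 : Led Lsl_ff (LP (LK LD1_c11 LD2_c3 LD3_c27)) = (LP (LK LD1_c16 LD2_c50 LD3_c18)) :=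
  Lgr Lrot19 (Lpr_dt (f340562 IH) (Lpr_ft (f340572 IH) (Lpr_dt (f340576 IH) (Lpn (LP (LK LD1_c16 LD2_c50 LD3_c18))))))
theorem f340583 : Led Lsl_bt (LP (LK LD1_c11 LD2_c3 LD3_c36)) = (LP (LK LD1_c16 LD2_c50 LD3_c18)) :=
  Lgr Lrot35 (Lpr_ff (K22.f337506 IH) (Lpe (f340548 IH) (Lpr_ff (f340580 IH) (Lpn (LP (LK LD1_c16 LD2_c50 LD3_c18))))))
theorem f386465 : Led Lsl_bf (LP (LK LD1_c16 LD2_c44 LD3_c9)) = (LP (LK LD1_c10 LD2_c46 LD3_c38)) :=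
  Lgr Lrot90 (Lpr_ct (K22.f178029 IH) (Lpr_bt (f340583 IH) (Lpr_ct (f386463 IH) (Lpr_bt (K23.f344620 IH) (Lpr_ct (f324367 IH) (Lpn (LP (LK LD1_c10 LD2_c46 LD3_c38))))))))
theorem f178042 : Led Lsl_dt (LP (LK LD1_c16 LD2_c44 LD3_c9)) = (LP (LK LD1_c26 LD2_c42 LD3_c50)) :=
  Lre_d IH (LK LD1_c16 LD2_c44 LD3_c9) (LK LD1_c26 LD2_c42 LD3_c50) Lrfl Lrfl
theorem f324370 : Led Lsl_dt (LP (LK LD1_c19 LD2_c29 LD3_c25)) = (LP (LK LD1_c10 LD2_c46 LD3_c38)) :=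
  Lre_d IH (LK LD1_c19 LD2_c29 LD3_c25) (LK LD1_c10 LD2_c46 LD3_c38) Lrfl Lrfl
theorem f386475 : Led Lsl_bt (LP (LK LD1_c26 LD2_c42 LD3_c50)) = (LP (LK LD1_c19 LD2_c29 LD3_c25)) :=
  Lgr Lrot95 (Lpe (f178042 IH) (Lpr_bf (f386465 IH) (Lpe (f324370 IH) (Lpn (LP (LK LD1_c19 LD2_c29 LD3_c25))))))
theorem f324397 : Led Lsl_dt (LP (LK LD1_c25 LD2_c32 LD3_c36)) = (LP (LK LD1_c15 LD2_c37 LD3_c36)) :=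
  Lre_d IH (LK LD1_c25 LD2_c32 LD3_c36) (LK LD1_c15 LD2_c37 LD3_c36) Lrfl Lrfl
theorem f324368 : Led Lsl_dt (LP (LK LD1_c10 LD2_c46 LD3_c38)) = (LP (LK LD1_c19 LD2_c29 LD3_c25)) :=
  Lre_d IH (LK LD1_c10 LD2_c46 LD3_c38) (LK LD1_c19 LD2_c29 LD3_c25) Lrfl Lrfl
theorem f324398 : Led Lsl_ff (LP (LK LD1_c25 LD2_c32 LD3_c36)) = (LP (LK LD1_c19 LD2_c29 LD3_c25)) :=
  Lgr Lrot19 (Lpr_dt (f324397 IH) (Lpr_ft (K30.f324391 IH) (Lpr_dt (f324368 IH) (Lpn (LP (LK LD1_c19 LD2_c29 LD3_c25))))))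
theorem f235985 : Led Lsl_dt (LP (LK LD1_c19 LD2_c28 LD3_c51)) = (LP (LK LD1_c10 LD2_c46 LD3_c19)) :=
  Lre_d IH (LK LD1_c19 LD2_c28 LD3_c51) (LK LD1_c10 LD2_c46 LD3_c19) Lrfl Lrfl
theorem f324402 : Led Lsl_dt (LP (LK LD1_c15 LD2_c37 LD3_c36)) = (LP (LK LD1_c25 LD2_c32 LD3_c36)) :=
  Lre_d IH (LK LD1_c15 LD2_c37 LD3_c36) (LK LD1_c25 LD2_c32 LD3_c36) Lrfl Lrfl
theorem f324434 : Led Lsl_bf (LP (LK LD1_c19 LD2_c28 LD3_c51)) = (LP (LK LD1_c25 LD2_c32 LD3_c36)) :=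
  Lgr Lrot93 (Lpr_dt (f235985 IH) (Lpr_bt (f324432 IH) (Lpr_dt (f324402 IH) (Lpn (LP (LK LD1_c25 LD2_c32 LD3_c36))))))
theorem f386490 : Led Lsl_ff (LP (LK LD1_c26 LD2_c42 LD3_c50)) = (LP (LK LD1_c19 LD2_c28 LD3_c51)) :=
  Lgr Lrot25 (Lpr_bt (f386475 IH) (Lpe (f324398 IH) (Lpe (f324434 IH) (Lpn (LP (LK LD1_c19 LD2_c28 LD3_c51))))))
theorem f386492 : Led Lsl_at (LP (LK LD1_c26 LD2_c42 LD3_c50)) = (LP (LK LD1_c16 LD2_c44 LD3_c10)) :=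
  Lre_a IH (LK LD1_c26 LD2_c42 LD3_c50) (LK LD1_c16 LD2_c44 LD3_c10) Lrfl Lrfl
theorem f389485 : Led Lsl_gf (LP (LK LD1_c16 LD2_c44 LD3_c10)) = (LP (LK LD1_c19 LD2_c28 LD3_c3)) :=
  Lgr Lrot76 (Lpe (f386492 IH) (Lpr_ff (f386490 IH) (Lpr_gt (f389483 IH) (Lpn (LP (LK LD1_c19 LD2_c28 LD3_c3))))))
theorem f177972 : Led Lsl_dt (LP (LK LD1_c16 LD2_c44 LD3_c10)) = (LP (LK LD1_c8 LD2_c56 LD3_c26)) :=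
  Lre_d IH (LK LD1_c16 LD2_c44 LD3_c10) (LK LD1_c8 LD2_c56 LD3_c26) Lrfl Lrfl
theorem f177983 : Led Lsl_dt (LP (LK LD1_c11 LD2_c3 LD3_c37)) = (LP (LK LD1_c5 LD2_c35 LD3_c41)) :=
  Lre_d IH (LK LD1_c11 LD2_c3 LD3_c37) (LK LD1_c5 LD2_c35 LD3_c41) Lrfl Lrfl
theorem f177984 : Led Lsl_gt (LP (LK LD1_c19 LD2_c55 LD3_c54)) = (LP (LK LD1_c11 LD2_c3 LD3_c37)) :=
  Lre_g IH (LK LD1_c19 LD2_c55 LD3_c54) (LK LD1_c11 LD2_c3 LD3_c37) Lrfl Lrfl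
theorem f295328 : Led Lsl_dt (LP (LK LD1_c10 LD2_c45 LD3_c56)) = (LP (LK LD1_c19 LD2_c28 LD3_c3)) :=
  Lre_d IH (LK LD1_c10 LD2_c45 LD3_c56) (LK LD1_c19 LD2_c28 LD3_c3) Lrfl Lrfl
theorem f33518 : Led Lsl_ct (LP (LK LD1_c16 LD2_c12 LD3_c27)) = (LP (LK LD1_c10 LD2_c19 LD3_c14)) :=
  Lgr Lrot111 (Lpe (K10.f31291 IH) (Lpr_cf (K10.f33516 IH) (Lpe (K10.f33464 IH) (Lpn (LP (LK LD1_c10 LD2_c19 LD3_c14))))))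
theorem f389487 : Led Lsl_df (LP (LK LD1_c19 LD2_c55 LD3_c54)) = (LP (LK LD1_c17 LD2_c52 LD3_c59)) :=
  Lgr Lrot153 (Lpr_gt (f177984 IH) (Lpr_dt (f177983 IH) (Lpe (K22.f177963 IH) (Lpe (f177972 IH) (Lpr_gf (f389485 IH) (Lpe (f295328 IH) (Lpe (f295373 IH) (Lpe (f33518 IH) (Lpe (K21.f235533 IH) (Lpn (LP (LK LD1_c17 LD2_c52 LD3_c59))))))))))))
theorem f177975 : Led Lsl_ct (LP (LK LD1_c11 LD2_c3 LD3_c37)) = (LP (LK LD1_c19 LD2_c55 LD3_c55)) :=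
  Lre_c IH (LK LD1_c11 LD2_c3 LD3_c37) (LK LD1_c19 LD2_c55 LD3_c55) Lrfl Lrfl
theorem f279689 : Led Lsl_gt (LP (LK LD1_c19 LD2_c55 LD3_c55)) = (LP (LK LD1_c29 LD2_c11 LD3_c45)) :=
  Lre_g IH (LK LD1_c19 LD2_c55 LD3_c55) (LK LD1_c29 LD2_c11 LD3_c45) Lrfl Lrfl
theorem f242683 : Led Lsl_dt (LP (LK LD1_c28 LD2_c50 LD3_c19)) = (LP (LK LD1_c19 LD2_c27 LD3_c61)) :=
  Lre_d IH (LK LD1_c28 LD2_c50 LD3_c19) (LK LD1_c19 LD2_c27 LD3_c61) Lrfl Lrfl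
theorem f389491 : Led Lsl_ct (LP (LK LD1_c29 LD2_c11 LD3_c45)) = (LP (LK LD1_c28 LD2_c50 LD3_c19)) :=
  Lgr Lrot110 (Lpe (f279689 IH) (Lpe (f177975 IH) (Lpe (f177984 IH) (Lpr_df (f389487 IH) (Lpr_gt (K21.f235364 IH) (Lpr_ct (f295184 IH) (Lpr_gt (f174981 IH) (Lpr_ct (f242689 IH) (Lpe (f242683 IH) (Lpn (LP (LK LD1_c28 LD2_c50 LD3_c19))))))))))))
theorem f389493 : Led Lsl_cf (LP (LK LD1_c29 LD2_c11 LD3_c45)) = (LP (LK LD1_c28 LD2_c50 LD3_c19)) :=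
  Lgr Lrot11 (Lpr_ct (f389491 IH) (Lpn (LP (LK LD1_c28 LD2_c50 LD3_c19))))
theorem f423160 : Led Lsl_af (LP (LK LD1_c29 LD2_c11 LD3_c45)) = (LP (LK LD1_c20 LD2_c0 LD3_c61)) :=
  Lgr Lrot109 (Lpr_cf (f389493 IH) (Lpe (f242690 IH) (Lpe (f242689 IH) (Lpe (f242688 IH) (Lpe (f242680 IH) (Lpe (f398525 IH) (Lpe (f174875 IH) (Lpe (f174877 IH) (Lpr_ft (f423152 IH) (Lpn (LP (LK LD1_c20 LD2_c0 LD3_c61))))))))))))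
theorem f389404 : Led Lsl_at (LP (LK LD1_c18 LD2_c2 LD3_c52)) = (LP (LK LD1_c18 LD2_c44 LD3_c1)) :=
  Lgr Lrot100 (Lpr_af (f389390 IH) (Lpn (LP (LK LD1_c18 LD2_c44 LD3_c1))))
theorem f213422 : Led Lsl_bt (LP (LK LD1_c18 LD2_c2 LD3_c52)) = (LP (LK LD1_c9 LD2_c51 LD3_c35)) :=
  Lre_b IH (LK LD1_c18 LD2_c2 LD3_c52) (LK LD1_c9 LD2_c51 LD3_c35) Lrfl Lrfl
theorem f389064 : Led Lsl_ft (LP (LK LD1_c18 LD2_c44 LD3_c5)) = (LP (LK LD1_c18 LD2_c2 LD3_c52)) :=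
  Lgr Lrot75 (Lpr_bf (f218155 IH) (Lpr_ff (f389060 IH) (Lpe (f213422 IH) (Lpn (LP (LK LD1_c18 LD2_c2 LD3_c52))))))
theorem f389463 : Led Lsl_at (LP (LK LD1_c19 LD2_c27 LD3_c61)) = (LP (LK LD1_c18 LD2_c44 LD3_c5)) :=
  Lgr Lrot66 (Lpr_ff (f389461 IH) (Lpe (f389404 IH) (Lpe (f389064 IH) (Lpn (LP (LK LD1_c18 LD2_c44 LD3_c5))))))
theorem f218147 : Led Lsl_dt (LP (LK LD1_c18 LD2_c44 LD3_c5)) = (LP (LK LD1_c28 LD2_c14 LD3_c6)) :=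
  Lre_d IH (LK LD1_c18 LD2_c44 LD3_c5) (LK LD1_c28 LD2_c14 LD3_c6) Lrfl Lrfl
theorem f389530 : Led Lsl_af (LP (LK LD1_c28 LD2_c50 LD3_c19)) = (LP (LK LD1_c28 LD2_c14 LD3_c6)) :=
  Lgr Lrot117 (Lpr_dt (f242683 IH) (Lpr_at (f389463 IH) (Lpr_dt (f218147 IH) (Lpn (LP (LK LD1_c28 LD2_c14 LD3_c6))))))
theorem f389532 : Led Lsl_at (LP (LK LD1_c28 LD2_c50 LD3_c19)) = (LP (LK LD1_c28 LD2_c14 LD3_c6)) :=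
  Lgr Lrot100 (Lpr_af (f389530 IH) (Lpn (LP (LK LD1_c28 LD2_c14 LD3_c6))))
theorem f423164 : Led Lsl_ct (LP (LK LD1_c28 LD2_c14 LD3_c6)) = (LP (LK LD1_c20 LD2_c0 LD3_c61)) :=
  Lgr Lrot111 (Lpe (f389532 IH) (Lpe (f389491 IH) (Lpr_af (f423160 IH) (Lpn (LP (LK LD1_c20 LD2_c0 LD3_c61))))))
theorem f218152 : Led Lsl_dt (LP (LK LD1_c5 LD2_c32 LD3_c57)) = (LP (LK LD1_c2 LD2_c42 LD3_c40)) :=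
  Lre_d IH (LK LD1_c5 LD2_c32 LD3_c57) (LK LD1_c2 LD2_c42 LD3_c40) Lrfl Lrfl
theorem f399492 : Led Lsl_ct (LP (LK LD1_c10 LD2_c57 LD3_c33)) = (LP (LK LD1_c16 LD2_c45 LD3_c9)) :=
  Lgr Lrot59 (Lpr_cf (f399487 IH) (Lpn (LP (LK LD1_c16 LD2_c45 LD3_c9))))
theorem f399489 : Led Lsl_bt (LP (LK LD1_c10 LD2_c57 LD3_c33)) = (LP (LK LD1_c5 LD2_c32 LD3_c57)) :=
  Lre_b IH (LK LD1_c10 LD2_c57 LD3_c33) (LK LD1_c5 LD2_c32 LD3_c57) Lrfl Lrfl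
theorem f399804 : Led Lsl_gf (LP (LK LD1_c5 LD2_c32 LD3_c57)) = (LP (LK LD1_c2 LD2_c43 LD3_c14)) :=
  Lgr Lrot124 (Lpe (f399489 IH) (Lpr_ct (f399492 IH) (Lpr_gt (f226435 IH) (Lpe (K30.f174635 IH) (Lpr_bt (K13.f245508 IH) (Lpr_gt (K9.f174642 IH) (Lpr_ct (K9.f40745 IH) (Lpe (K9.f172135 IH) (Lpe (K30.f179520 IH) (Lpr_bt (K30.f226529 IH) (Lpn (LP (LK LD1_c2 LD2_c43 LD3_c14)))))))))))))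
theorem f381851 : Led Lsl_bt (LP (LK LD1_c2 LD2_c47 LD3_c52)) = (LP (LK LD1_c1 LD2_c20 LD3_c14)) :=
  Lre_b IH (LK LD1_c2 LD2_c47 LD3_c52) (LK LD1_c1 LD2_c20 LD3_c14) Lrfl Lrfl
theorem f381835 : Led Lsl_ct (LP (LK LD1_c5 LD2_c43 LD3_c41)) = (LP (LK LD1_c2 LD2_c47 LD3_c52)) :=
  Lre_c IH (LK LD1_c5 LD2_c43 LD3_c41) (LK LD1_c2 LD2_c47 LD3_c52) Lrfl Lrfl
theorem f381834 : Led Lsl_dt (LP (LK LD1_c11 LD2_c17 LD3_c21)) = (LP (LK LD1_c5 LD2_c43 LD3_c41)) :=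
  Lre_d IH (LK LD1_c11 LD2_c17 LD3_c21) (LK LD1_c5 LD2_c43 LD3_c41) Lrfl Lrfl
theorem f423176 : Led Lsl_gf (LP (LK LD1_c11 LD2_c17 LD3_c21)) = (LP (LK LD1_c11 LD2_c7 LD3_c35)) :=
  Lgr Lrot85 (Lpr_dt (f381834 IH) (Lpr_ct (f381835 IH) (Lpr_bt (f381851 IH) (Lpr_gt (K28.f381120 IH) (Lpe (K27.f178950 IH) (Lpe (K17.f211990 IH) (Lpr_bt (K17.f165074 IH) (Lpe (K9.f171864 IH) (Lpr_dt (K9.f165211 IH) (Lpr_ct (K9.f172139 IH) (Lpr_bt (K30.f226529 IH) (Lpe (f399804 IH) (Lpr_dt (f218152 IH) (Lpr_ct (K27.f218151 IH) (Lpr_bt (f213566 IH) (Lpe (f218145 IH) (Lpr_dt (f218147 IH) (Lpr_ct (f423164 IH) (Lpr_bt (f423053 IH) (Lpn (LP (LK LD1_c11 LD2_c7 LD3_c35))))))))))))))))))))))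
theorem f423138 : Led Lsl_at (LP (LK LD1_c16 LD2_c51 LD3_c21)) = (LP (LK LD1_c11 LD2_c7 LD3_c42)) :=
  Lgr Lrot100 (Lpr_af (f423118 IH) (Lpn (LP (LK LD1_c11 LD2_c7 LD3_c42))))
theorem f423178 : Led Lsl_gt (LP (LK LD1_c11 LD2_c17 LD3_c21)) = (LP (LK LD1_c11 LD2_c7 LD3_c42)) :=
  Lgr Lrot46 (Lpr_gf (f423176 IH) (Lpe (f423150 IH) (Lpr_at (f423138 IH) (Lpn (LP (LK LD1_c11 LD2_c7 LD3_c42))))))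
theorem f381966 : Led Lsl_dt (LP (LK LD1_c5 LD2_c43 LD3_c41)) = (LP (LK LD1_c11 LD2_c17 LD3_c21)) :=
  Lre_d IH (LK LD1_c5 LD2_c43 LD3_c41) (LK LD1_c11 LD2_c17 LD3_c21) Lrfl Lrfl
theorem f381832 : Led Lsl_dt (LP (LK LD1_c1 LD2_c20 LD3_c12)) = (LP (LK LD1_c2 LD2_c47 LD3_c52)) :=
  Lre_d IH (LK LD1_c1 LD2_c20 LD3_c12) (LK LD1_c2 LD2_c47 LD3_c52) Lrfl Lrfl
theorem f380164 : Led Lsl_gt (LP (LK LD1_c1 LD2_c19 LD3_c28)) = (LP (LK LD1_c2 LD2_c46 LD3_c10)) :=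
  Lre_g IH (LK LD1_c1 LD2_c19 LD3_c28) (LK LD1_c2 LD2_c46 LD3_c10) Lrfl Lrfl
theorem f380250 : Led Lsl_ct (LP (LK LD1_c2 LD2_c46 LD3_c10)) = (LP (LK LD1_c5 LD2_c40 LD3_c24)) :=
  Lre_c IH (LK LD1_c2 LD2_c46 LD3_c10) (LK LD1_c5 LD2_c40 LD3_c24) Lrfl Lrfl
theorem f382014 : Led Lsl_gf (LP (LK LD1_c5 LD2_c43 LD3_c41)) = (LP (LK LD1_c5 LD2_c40 LD3_c24)) :=
  Lgr Lrot104 (Lpr_ct (f381835 IH) (Lpe (f381832 IH) (Lpe (K27.f381955 IH) (Lpr_gf (K30.f382008 IH) (Lpe (K30.f380256 IH) (Lpe (K30.f380255 IH) (Lpe (K30.f380167 IH) (Lpr_gt (f380164 IH) (Lpr_ct (f380250 IH) (Lpn (LP (LK LD1_c5 LD2_c40 LD3_c24))))))))))))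
theorem f380186 : Led Lsl_ct (LP (LK LD1_c5 LD2_c40 LD3_c24)) = (LP (LK LD1_c2 LD2_c46 LD3_c10)) :=
  Lre_c IH (LK LD1_c5 LD2_c40 LD3_c24) (LK LD1_c2 LD2_c46 LD3_c10) Lrfl Lrfl
theorem f380165 : Led Lsl_gt (LP (LK LD1_c2 LD2_c46 LD3_c10)) = (LP (LK LD1_c4 LD2_c31 LD3_c59)) :=
  Lgr Lrot46 (Lpe (f380164 IH) (Lpr_ft (K30.f380149 IH) (Lpr_at (K30.f380155 IH) (Lpn (LP (LK LD1_c4 LD2_c31 LD3_c59))))))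
theorem f423188 : Led Lsl_dt (LP (LK LD1_c1 LD2_c19 LD3_c26)) = (LP (LK LD1_c2 LD2_c44 LD3_c61)) :=
  Lgr Lrot105 (Lpr_gf (K30.f380248 IH) (Lpe (K30.f181699 IH) (Lpe (f380165 IH) (Lpe (f380186 IH) (Lpe (f382014 IH) (Lpr_dt (f381966 IH) (Lpr_gt (f423178 IH) (Lpr_dt (f380426 IH) (Lpe (f380425 IH) (Lpn (LP (LK LD1_c2 LD2_c44 LD3_c61))))))))))))
theorem f423198 : Led Lsl_ff (LP (LK LD1_c1 LD2_c19 LD3_c26)) = (LP (LK LD1_c2 LD2_c12 LD3_c61)) :=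
  Lgr Lrot19 (Lpr_dt (f423188 IH) (Lpe (f423056 IH) (Lpr_dt (f174822 IH) (Lpn (LP (LK LD1_c2 LD2_c12 LD3_c61))))))
theorem f20648 : Led Lsl_gt (LP (LK LD1_c1 LD2_c3 LD3_c34)) = (LP (LK LD1_c2 LD2_c12 LD3_c60)) :=
  Lre_g IH (LK LD1_c1 LD2_c3 LD3_c34) (LK LD1_c2 LD2_c12 LD3_c60) Lrfl Lrfl
theorem f423241 : Led Lsl_at (LP (LK LD1_c1 LD2_c19 LD3_c26)) = (LP (LK LD1_c2 LD2_c12 LD3_c60)) :=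
  Lgr Lrot26 (Lpr_ff (f423198 IH) (Lpr_gt (K10.f174831 IH) (Lpr_gt (f20648 IH) (Lpn (LP (LK LD1_c2 LD2_c12 LD3_c60))))))
theorem f381808 : Led Lsl_at (LP (LK LD1_c2 LD2_c47 LD3_c37)) = (LP (LK LD1_c2 LD2_c47 LD3_c42)) :=
  Lgr Lrot100 (Lpr_af (K27.f381783 IH) (Lpn (LP (LK LD1_c2 LD2_c47 LD3_c42))))
theorem f381831 : Led Lsl_gt (LP (LK LD1_c1 LD2_c20 LD3_c12)) = (LP (LK LD1_c2 LD2_c47 LD3_c50)) :=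
  Lre_g IH (LK LD1_c1 LD2_c20 LD3_c12) (LK LD1_c2 LD2_c47 LD3_c50) Lrfl Lrfl
theorem f382043 : Led Lsl_gt (LP (LK LD1_c2 LD2_c47 LD3_c50)) = (LP (LK LD1_c2 LD2_c47 LD3_c42)) :=
  Lgr Lrot46 (Lpe (f381831 IH) (Lpr_ft (K27.f381825 IH) (Lpr_at (f381808 IH) (Lpn (LP (LK LD1_c2 LD2_c47 LD3_c42))))))
theorem f381670 : Led Lsl_at (LP (LK LD1_c0 LD2_c37 LD3_c4)) = (LP (LK LD1_c1 LD2_c20 LD3_c11)) :=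
  Lre_a IH (LK LD1_c0 LD2_c37 LD3_c4) (LK LD1_c1 LD2_c20 LD3_c11) Lrfl Lrfl
theorem f381671 : Led Lsl_ft (LP (LK LD1_c1 LD2_c20 LD3_c7)) = (LP (LK LD1_c0 LD2_c37 LD3_c4)) :=
  Lre_f IH (LK LD1_c1 LD2_c20 LD3_c7) (LK LD1_c0 LD2_c37 LD3_c4) Lrfl Lrfl
theorem f381672 : Led Lsl_gt (LP (LK LD1_c1 LD2_c20 LD3_c7)) = (LP (LK LD1_c0 LD2_c37 LD3_c7)) :=
  Lgr Lrot5 (Lpr_ft (f381671 IH) (Lpr_at (f381670 IH) (Lpr_gf (K27.f381668 IH) (Lpn (LP (LK LD1_c0 LD2_c37 LD3_c7))))))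
theorem f20647 : Led Lsl_bt (LP (LK LD1_c0 LD2_c29 LD3_c2)) = (LP (LK LD1_c1 LD2_c3 LD3_c34)) :=
  Lre_b IH (LK LD1_c0 LD2_c29 LD3_c2) (LK LD1_c1 LD2_c3 LD3_c34) Lrfl Lrfl
theorem f382046 : Led Lsl_cf (LP (LK LD1_c2 LD2_c47 LD3_c50)) = (LP (LK LD1_c2 LD2_c12 LD3_c60)) :=
  Lgr Lrot125 (Lpr_gt (f382043 IH) (Lpr_cf (K27.f381970 IH) (Lpr_bt (K27.f381782 IH) (Lpr_gt (f381672 IH) (Lpe (K27.f168870 IH) (Lpr_ct (K9.f20812 IH) (Lpr_gt (K9.f20649 IH) (Lpe (K9.f20643 IH) (Lpr_bt (f20647 IH) (Lpr_gt (f20648 IH) (Lpn (LP (LK LD1_c2 LD2_c12 LD3_c60)))))))))))))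
theorem f423243 : Led Lsl_af (LP (LK LD1_c2 LD2_c46 LD3_c8)) = (LP (LK LD1_c2 LD2_c47 LD3_c50)) :=
  Lgr Lrot68 (Lpr_ct (K30.f181226 IH) (Lpr_at (f423241 IH) (Lpe (f382046 IH) (Lpn (LP (LK LD1_c2 LD2_c47 LD3_c50))))))
theorem f181266 : Led Lsl_ct (LP (LK LD1_c1 LD2_c19 LD3_c26)) = (LP (LK LD1_c2 LD2_c46 LD3_c8)) :=
  Lre_c IH (LK LD1_c1 LD2_c19 LD3_c26) (LK LD1_c2 LD2_c46 LD3_c8) Lrfl Lrfl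
theorem f423196 : Led Lsl_df (LP (LK LD1_c1 LD2_c19 LD3_c26)) = (LP (LK LD1_c2 LD2_c44 LD3_c61)) :=
  Lgr Lrot38 (Lpr_dt (f423188 IH) (Lpn (LP (LK LD1_c2 LD2_c44 LD3_c61))))
theorem f380428 : Led Lsl_ct (LP (LK LD1_c5 LD2_c38 LD3_c12)) = (LP (LK LD1_c2 LD2_c44 LD3_c61)) :=
  Lre_c IH (LK LD1_c5 LD2_c38 LD3_c12) (LK LD1_c2 LD2_c44 LD3_c61) Lrfl Lrfl
theorem f381686 : Led Lsl_ct (LP (LK LD1_c2 LD2_c47 LD3_c44)) = (LP (LK LD1_c1 LD2_c20 LD3_c11)) :=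
  Lre_c IH (LK LD1_c2 LD2_c47 LD3_c44) (LK LD1_c1 LD2_c20 LD3_c11) Lrfl Lrfl
theorem f171859 : Led Lsl_ct (LP (LK LD1_c1 LD2_c10 LD3_c37)) = (LP (LK LD1_c0 LD2_c37 LD3_c7)) :=
  Lre_c IH (LK LD1_c1 LD2_c10 LD3_c37) (LK LD1_c0 LD2_c37 LD3_c7) Lrfl Lrfl
theorem f381957 : Led Lsl_gt (LP (LK LD1_c2 LD2_c47 LD3_c51)) = (LP (LK LD1_c2 LD2_c46 LD3_c8)) :=
  Lgr Lrot82 (Lpr_bf (K27.f381816 IH) (Lpr_ct (f381686 IH) (Lpr_gf (K27.f381668 IH) (Lpe (f171859 IH) (Lpr_bt (K9.f40163 IH) (Lpe (K9.f172137 IH) (Lpe (K30.f172309 IH) (Lpr_ct (K30.f174929 IH) (Lpe (K30.f181225 IH) (Lpe (K30.f181226 IH) (Lpn (LP (LK LD1_c2 LD2_c46 LD3_c8)))))))))))))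
theorem f423249 : Led Lsl_ft (LP (LK LD1_c2 LD2_c46 LD3_c6)) = (LP (LK LD1_c2 LD2_c47 LD3_c50)) :=
  Lgr Lrot2 (Lpe (K30.f382008 IH) (Lpr_gt (f381957 IH) (Lpr_af (f423243 IH) (Lpn (LP (LK LD1_c2 LD2_c47 LD3_c50))))))
theorem f382016 : Led Lsl_dt (LP (LK LD1_c2 LD2_c46 LD3_c6)) = (LP (LK LD1_c5 LD2_c40 LD3_c18)) :=
  Lre_d IH (LK LD1_c2 LD2_c46 LD3_c6) (LK LD1_c5 LD2_c40 LD3_c18) Lrfl Lrfl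
theorem f382013 : Led Lsl_dt (LP (LK LD1_c5 LD2_c40 LD3_c18)) = (LP (LK LD1_c2 LD2_c46 LD3_c6)) :=
  Lre_d IH (LK LD1_c5 LD2_c40 LD3_c18) (LK LD1_c2 LD2_c46 LD3_c6) Lrfl Lrfl
theorem f171818 : Led Lsl_ct (LP (LK LD1_c1 LD2_c18 LD3_c48)) = (LP (LK LD1_c2 LD2_c45 LD3_c0)) :=
  Lre_c IH (LK LD1_c1 LD2_c18 LD3_c48) (LK LD1_c2 LD2_c45 LD3_c0) Lrfl Lrfl
theorem f171819 : Led Lsl_gt (LP (LK LD1_c2 LD2_c45 LD3_c0)) = (LP (LK LD1_c5 LD2_c38 LD3_c14)) :=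
  Lre_g IH (LK LD1_c2 LD2_c45 LD3_c0) (LK LD1_c5 LD2_c38 LD3_c14) Lrfl Lrfl
theorem f423202 : Led Lsl_cf (LP (LK LD1_c5 LD2_c40 LD3_c18)) = (LP (LK LD1_c5 LD2_c38 LD3_c14)) :=
  Lgr Lrot175 (Lpr_dt (f382013 IH) (Lpe (K30.f380256 IH) (Lpe (K30.f380255 IH) (Lpe (K30.f174929 IH) (Lpe (K30.f181225 IH) (Lpr_dt (f423188 IH) (Lpr_gt (f172345 IH) (Lpr_ct (f171818 IH) (Lpr_gt (f171819 IH) (Lpn (LP (LK LD1_c5 LD2_c38 LD3_c14))))))))))))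
theorem f423204 : Led Lsl_ct (LP (LK LD1_c5 LD2_c40 LD3_c18)) = (LP (LK LD1_c5 LD2_c38 LD3_c14)) :=
  Lgr Lrot59 (Lpr_cf (f423202 IH) (Lpn (LP (LK LD1_c5 LD2_c38 LD3_c14))))
theorem f179472 : Led Lsl_dt (LP (LK LD1_c5 LD2_c38 LD3_c14)) = (LP (LK LD1_c11 LD2_c7 LD3_c45)) :=
  Lre_d IH (LK LD1_c5 LD2_c38 LD3_c14) (LK LD1_c11 LD2_c7 LD3_c45) Lrfl Lrfl
theorem f423251 : Led Lsl_cf (LP (LK LD1_c11 LD2_c7 LD3_c42)) = (LP (LK LD1_c11 LD2_c7 LD3_c45)) :=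
  Lgr Lrot116 (Lpr_dt (f380426 IH) (Lpr_ct (f380428 IH) (Lpe (f423196 IH) (Lpr_ct (f181266 IH) (Lpr_af (f423243 IH) (Lpe (f423249 IH) (Lpr_dt (f382016 IH) (Lpr_ct (f423204 IH) (Lpr_dt (f179472 IH) (Lpn (LP (LK LD1_c11 LD2_c7 LD3_c45))))))))))))
theorem f181292 : Led Lsl_dt (LP (LK LD1_c2 LD2_c46 LD3_c8)) = (LP (LK LD1_c5 LD2_c40 LD3_c20)) :=
  Lre_d IH (LK LD1_c2 LD2_c46 LD3_c8) (LK LD1_c5 LD2_c40 LD3_c20) Lrfl Lrfl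
theorem f172650 : Led Lsl_at (LP (LK LD1_c1 LD2_c20 LD3_c23)) = (LP (LK LD1_c2 LD2_c48 LD3_c21)) :=
  Lre_a IH (LK LD1_c1 LD2_c20 LD3_c23) (LK LD1_c2 LD2_c48 LD3_c21) Lrfl Lrfl
theorem f385266 : Led Lsl_ft (LP (LK LD1_c2 LD2_c13 LD3_c41)) = (LP (LK LD1_c1 LD2_c20 LD3_c23)) :=
  Lgr Lrot54 (Lpe (K30.f173375 IH) (Lpr_ff (K30.f385258 IH) (Lpr_df (K30.f172598 IH) (Lpn (LP (LK LD1_c1 LD2_c20 LD3_c23))))))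
theorem f411837 : Led Lsl_gt (LP (LK LD1_c2 LD2_c13 LD3_c41)) = (LP (LK LD1_c4 LD2_c32 LD3_c23)) :=
  Lgr Lrot5 (Lpr_ft (f385266 IH) (Lpr_at (f172650 IH) (Lpr_gf (K30.f411831 IH) (Lpn (LP (LK LD1_c4 LD2_c32 LD3_c23))))))
theorem f171817 : Led Lsl_bt (LP (LK LD1_c1 LD2_c18 LD3_c48)) = (LP (LK LD1_c0 LD2_c36 LD3_c19)) :=
  Lre_b IH (LK LD1_c1 LD2_c18 LD3_c48) (LK LD1_c0 LD2_c36 LD3_c19) Lrfl Lrfl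
theorem f171847 : Led Lsl_gt (LP (LK LD1_c5 LD2_c38 LD3_c15)) = (LP (LK LD1_c2 LD2_c45 LD3_c0)) :=
  Lre_g IH (LK LD1_c5 LD2_c38 LD3_c15) (LK LD1_c2 LD2_c45 LD3_c0) Lrfl Lrfl
theorem f181272 : Led Lsl_dt (LP (LK LD1_c5 LD2_c40 LD3_c20)) = (LP (LK LD1_c2 LD2_c46 LD3_c8)) :=
  Lre_d IH (LK LD1_c5 LD2_c40 LD3_c20) (LK LD1_c2 LD2_c46 LD3_c8) Lrfl Lrfl
theorem f181273 : Led Lsl_bt (LP (LK LD1_c4 LD2_c32 LD3_c23)) = (LP (LK LD1_c5 LD2_c40 LD3_c20)) :=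
  Lgr Lrot95 (Lpe (K30.f181271 IH) (Lpr_bf (K30.f181227 IH) (Lpe (f181272 IH) (Lpn (LP (LK LD1_c5 LD2_c40 LD3_c20))))))
theorem f181275 : Led Lsl_bf (LP (LK LD1_c4 LD2_c32 LD3_c23)) = (LP (LK LD1_c5 LD2_c40 LD3_c20)) :=
  Lgr Lrot24 (Lpr_bt (f181273 IH) (Lpn (LP (LK LD1_c5 LD2_c40 LD3_c20))))
theorem f411840 : Led Lsl_cf (LP (LK LD1_c5 LD2_c38 LD3_c15)) = (LP (LK LD1_c5 LD2_c40 LD3_c20)) :=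
  Lgr Lrot160 (Lpr_gt (f171847 IH) (Lpe (f171818 IH) (Lpr_bt (f171817 IH) (Lpr_gt (K9.f171810 IH) (Lpe (K1.f40737 IH) (Lpr_gt (K9.f169277 IH) (Lpr_cf (K9.f173397 IH) (Lpr_bt (K30.f173393 IH) (Lpr_gt (f411837 IH) (Lpr_bf (f181275 IH) (Lpn (LP (LK LD1_c5 LD2_c40 LD3_c20)))))))))))))
theorem f411844 : Led Lsl_dt (LP (LK LD1_c5 LD2_c38 LD3_c15)) = (LP (LK LD1_c11 LD2_c7 LD3_c47)) :=
  Lre_d IH (LK LD1_c5 LD2_c38 LD3_c15) (LK LD1_c11 LD2_c7 LD3_c47) Lrfl Lrfl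
theorem f411842 : Led Lsl_ct (LP (LK LD1_c5 LD2_c38 LD3_c15)) = (LP (LK LD1_c5 LD2_c40 LD3_c20)) :=
  Lgr Lrot59 (Lpr_cf (f411840 IH) (Lpn (LP (LK LD1_c5 LD2_c40 LD3_c20))))
theorem f411849 : Led Lsl_dt (LP (LK LD1_c11 LD2_c7 LD3_c47)) = (LP (LK LD1_c5 LD2_c38 LD3_c15)) :=
  Lre_d IH (LK LD1_c11 LD2_c7 LD3_c47) (LK LD1_c5 LD2_c38 LD3_c15) Lrfl Lrfl
theorem f423054 : Led Lsl_dt (LP (LK LD1_c5 LD2_c38 LD3_c9)) = (LP (LK LD1_c11 LD2_c7 LD3_c35)) :=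
  Lre_d IH (LK LD1_c5 LD2_c38 LD3_c9) (LK LD1_c11 LD2_c7 LD3_c35) Lrfl Lrfl
theorem f423200 : Led Lsl_cf (LP (LK LD1_c11 LD2_c7 LD3_c47)) = (LP (LK LD1_c11 LD2_c7 LD3_c35)) :=
  Lgr Lrot118 (Lpr_dt (f411849 IH) (Lpr_ct (f411842 IH) (Lpr_dt (f181272 IH) (Lpr_ct (K30.f181226 IH) (Lpr_dt (f423188 IH) (Lpr_ct (f380425 IH) (Lpe (f423074 IH) (Lpr_ff (f422987 IH) (Lpr_dt (f423054 IH) (Lpn (LP (LK LD1_c11 LD2_c7 LD3_c35))))))))))))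
theorem f423225 : Led Lsl_ct (LP (LK LD1_c11 LD2_c7 LD3_c47)) = (LP (LK LD1_c11 LD2_c7 LD3_c35)) :=
  Lgr Lrot59 (Lpr_cf (f423200 IH) (Lpn (LP (LK LD1_c11 LD2_c7 LD3_c35))))
theorem f423256 : Led Lsl_dt (LP (LK LD1_c2 LD2_c44 LD3_c60)) = (LP (LK LD1_c1 LD2_c19 LD3_c25)) :=
  Lgr Lrot173 (Lpe (K30.f402631 IH) (Lpe (f423036 IH) (Lpe (f423225 IH) (Lpe (f411844 IH) (Lpr_cf (f411840 IH) (Lpe (f181292 IH) (Lpe (f181266 IH) (Lpr_df (f423196 IH) (Lpe (f380428 IH) (Lpe (f380426 IH) (Lpr_cf (f423251 IH) (Lpe (f179472 IH) (Lpe (f423204 IH) (Lpe (f382016 IH) (Lpe (K30.f380256 IH) (Lpn (LP (LK LD1_c1 LD2_c19 LD3_c25))))))))))))))))))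
theorem f168305 : Led Lsl_ct (LP (LK LD1_c4 LD2_c56 LD3_c54)) = (LP (LK LD1_c9 LD2_c44 LD3_c59)) :=
  Lre_c IH (LK LD1_c4 LD2_c56 LD3_c54) (LK LD1_c9 LD2_c44 LD3_c59) Lrfl Lrfl
theorem f297098 : Led Lsl_ft (LP (LK LD1_c4 LD2_c22 LD3_c32)) = (LP (LK LD1_c4 LD2_c56 LD3_c54)) :=
  Lgr Lrot4 (Lpe (f173330 IH) (Lpr_ff (K18.f297082 IH) (Lpe (f168305 IH) (Lpn (LP (LK LD1_c4 LD2_c56 LD3_c54))))))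
theorem f385428 : Led Lsl_at (LP (LK LD1_c4 LD2_c56 LD3_c54)) = (LP (LK LD1_c9 LD2_c44 LD3_c58)) :=
  Lre_a IH (LK LD1_c4 LD2_c56 LD3_c54) (LK LD1_c9 LD2_c44 LD3_c58) Lrfl Lrfl
theorem f407036 : Led Lsl_gt (LP (LK LD1_c8 LD2_c42 LD3_c56)) = (LP (LK LD1_c9 LD2_c44 LD3_c58)) :=
  Lgr Lrot46 (Lpe (f178968 IH) (Lpr_ft (f297098 IH) (Lpr_at (f385428 IH) (Lpn (LP (LK LD1_c9 LD2_c44 LD3_c58))))))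
theorem f174474 : Led Lsl_gt (LP (LK LD1_c2 LD2_c13 LD3_c8)) = (LP (LK LD1_c1 LD2_c3 LD3_c39)) :=
  Lre_g IH (LK LD1_c2 LD2_c13 LD3_c8) (LK LD1_c1 LD2_c3 LD3_c39) Lrfl Lrfl
theorem f280513 : Led Lsl_gt (LP (LK LD1_c1 LD2_c19 LD3_c61)) = (LP (LK LD1_c2 LD2_c13 LD3_c8)) :=
  Lgr Lrot5 (Lpr_ft (K16.f280471 IH) (Lpr_at (K16.f181734 IH) (Lpe (f174474 IH) (Lpn (LP (LK LD1_c2 LD2_c13 LD3_c8))))))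
theorem f280518 : Led Lsl_ct (LP (LK LD1_c2 LD2_c13 LD3_c8)) = (LP (LK LD1_c4 LD2_c32 LD3_c10)) :=
  Lre_c IH (LK LD1_c2 LD2_c13 LD3_c8) (LK LD1_c4 LD2_c32 LD3_c10) Lrfl Lrfl
theorem f280520 : Led Lsl_dt (LP (LK LD1_c4 LD2_c32 LD3_c10)) = (LP (LK LD1_c9 LD2_c1 LD3_c60)) :=
  Lre_d IH (LK LD1_c4 LD2_c32 LD3_c10) (LK LD1_c9 LD2_c1 LD3_c60) Lrfl Lrfl
theorem f181417 : Led Lsl_gt (LP (LK LD1_c4 LD2_c22 LD3_c52)) = (LP (LK LD1_c2 LD2_c8 LD3_c52)) :=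
  Lre_g IH (LK LD1_c4 LD2_c22 LD3_c52) (LK LD1_c2 LD2_c8 LD3_c52) Lrfl Lrfl
theorem f398527 : Led Lsl_dt (LP (LK LD1_c9 LD2_c4 LD3_c28)) = (LP (LK LD1_c16 LD2_c52 LD3_c16)) :=
  Lgr Lrot42 (Lpr_df (f398523 IH) (Lpn (LP (LK LD1_c16 LD2_c52 LD3_c16))))
theorem f385452 : Led Lsl_gf (LP (LK LD1_c9 LD2_c4 LD3_c28)) = (LP (LK LD1_c5 LD2_c45 LD3_c22)) :=
  Lgr Lrot47 (Lpr_gt (f174751 IH) (Lpe (K30.f385430 IH) (Lpr_ff (K30.f385431 IH) (Lpn (LP (LK LD1_c5 LD2_c45 LD3_c22))))))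
theorem f174473 : Led Lsl_dt (LP (LK LD1_c1 LD2_c3 LD3_c39)) = (LP (LK LD1_c2 LD2_c13 LD3_c10)) :=
  Lre_d IH (LK LD1_c1 LD2_c3 LD3_c39) (LK LD1_c2 LD2_c13 LD3_c10) Lrfl Lrfl
theorem f181750 : Led Lsl_dt (LP (LK LD1_c4 LD2_c32 LD3_c11)) = (LP (LK LD1_c2 LD2_c13 LD3_c8)) :=
  Lre_d IH (LK LD1_c4 LD2_c32 LD3_c11) (LK LD1_c2 LD2_c13 LD3_c8) Lrfl Lrfl
theorem f398537 : Led Lsl_gt (LP (LK LD1_c2 LD2_c48 LD3_c28)) = (LP (LK LD1_c4 LD2_c32 LD3_c11)) :=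
  Lgr Lrot94 (Lpe (K18.f168274 IH) (Lpe (f385452 IH) (Lpr_dt (f398527 IH) (Lpr_gt (f174487 IH) (Lpr_dt (K20.f174468 IH) (Lpe (K20.f174457 IH) (Lpe (f174473 IH) (Lpe (f174474 IH) (Lpe (f181750 IH) (Lpn (LP (LK LD1_c4 LD2_c32 LD3_c11))))))))))))
theorem f245645 : Led Lsl_at (LP (LK LD1_c4 LD2_c33 LD3_c26)) = (LP (LK LD1_c2 LD2_c13 LD3_c39)) :=
  Lre_a IH (LK LD1_c4 LD2_c33 LD3_c26) (LK LD1_c2 LD2_c13 LD3_c39) Lrfl Lrfl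
theorem f297039 : Led Lsl_ff (LP (LK LD1_c4 LD2_c33 LD3_c26)) = (LP (LK LD1_c2 LD2_c48 LD3_c28)) :=
  Lgr Lrot30 (Lpr_at (f245645 IH) (Lpr_ft (K18.f297037 IH) (Lpr_at (K18.f168252 IH) (Lpn (LP (LK LD1_c2 LD2_c48 LD3_c28))))))
theorem f398539 : Led Lsl_gf (LP (LK LD1_c2 LD2_c13 LD3_c39)) = (LP (LK LD1_c4 LD2_c32 LD3_c11)) :=
  Lgr Lrot76 (Lpe (f245645 IH) (Lpr_ff (f297039 IH) (Lpr_gt (f398537 IH) (Lpn (LP (LK LD1_c4 LD2_c32 LD3_c11))))))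
theorem f173329 : Led Lsl_dt (LP (LK LD1_c4 LD2_c22 LD3_c32)) = (LP (LK LD1_c2 LD2_c8 LD3_c42)) :=
  Lre_d IH (LK LD1_c4 LD2_c22 LD3_c32) (LK LD1_c2 LD2_c8 LD3_c42) Lrfl Lrfl
theorem f173333 : Led Lsl_gt (LP (LK LD1_c8 LD2_c42 LD3_c57)) = (LP (LK LD1_c4 LD2_c22 LD3_c32)) :=
  Lre_g IH (LK LD1_c8 LD2_c42 LD3_c57) (LK LD1_c4 LD2_c22 LD3_c32) Lrfl Lrfl
theorem f181751 : Led Lsl_dt (LP (LK LD1_c2 LD2_c13 LD3_c8)) = (LP (LK LD1_c4 LD2_c32 LD3_c11)) :=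
  Lre_d IH (LK LD1_c2 LD2_c13 LD3_c8) (LK LD1_c4 LD2_c32 LD3_c11) Lrfl Lrfl
theorem f281922 : Led Lsl_gt (LP (LK LD1_c2 LD2_c47 LD3_c16)) = (LP (LK LD1_c4 LD2_c22 LD3_c52)) :=
  Lgr Lrot5 (Lpr_ft (f280388 IH) (Lpr_at (f181742 IH) (Lpe (f181417 IH) (Lpn (LP (LK LD1_c4 LD2_c22 LD3_c52))))))
theorem f398544 : Led Lsl_df (LP (LK LD1_c8 LD2_c42 LD3_c57)) = (LP (LK LD1_c4 LD2_c22 LD3_c52)) :=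
  Lgr Lrot153 (Lpr_gt (f173333 IH) (Lpr_dt (f173329 IH) (Lpe (K18.f173273 IH) (Lpr_df (K18.f174615 IH) (Lpr_gf (f398539 IH) (Lpe (f181751 IH) (Lpe (f280513 IH) (Lpe (K30.f268873 IH) (Lpr_gt (f281922 IH) (Lpn (LP (LK LD1_c4 LD2_c22 LD3_c52))))))))))))
theorem f398548 : Led Lsl_dt (LP (LK LD1_c8 LD2_c42 LD3_c57)) = (LP (LK LD1_c4 LD2_c22 LD3_c52)) :=
  Lgr Lrot42 (Lpr_df (f398544 IH) (Lpn (LP (LK LD1_c4 LD2_c22 LD3_c52))))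
theorem f385378 : Led Lsl_dt (LP (LK LD1_c8 LD2_c42 LD3_c54)) = (LP (LK LD1_c4 LD2_c22 LD3_c31)) :=
  Lre_d IH (LK LD1_c8 LD2_c42 LD3_c54) (LK LD1_c4 LD2_c22 LD3_c31) Lrfl Lrfl
theorem f385382 : Led Lsl_ff (LP (LK LD1_c8 LD2_c42 LD3_c54)) = (LP (LK LD1_c9 LD2_c44 LD3_c58)) :=
  Lgr Lrot19 (Lpr_dt (f385378 IH) (Lpr_ft (K30.f385372 IH) (Lpr_dt (K18.f168272 IH) (Lpn (LP (LK LD1_c9 LD2_c44 LD3_c58))))))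
theorem f385868 : Led Lsl_at (LP (LK LD1_c8 LD2_c42 LD3_c54)) = (LP (LK LD1_c4 LD2_c22 LD3_c32)) :=
  Lre_a IH (LK LD1_c8 LD2_c42 LD3_c54) (LK LD1_c4 LD2_c22 LD3_c32) Lrfl Lrfl
theorem f385872 : Led Lsl_gf (LP (LK LD1_c8 LD2_c42 LD3_c57)) = (LP (LK LD1_c9 LD2_c44 LD3_c58)) :=
  Lgr Lrot47 (Lpr_gt (f173333 IH) (Lpe (f385868 IH) (Lpr_ff (f385382 IH) (Lpn (LP (LK LD1_c9 LD2_c44 LD3_c58))))))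
theorem f398605 : Led Lsl_gf (LP (LK LD1_c16 LD2_c19 LD3_c34)) = (LP (LK LD1_c17 LD2_c54 LD3_c19)) :=
  Lgr Lrot144 (Lpr_dt (f398600 IH) (Lpr_gt (f398601 IH) (Lpr_dt (K16.f181776 IH) (Lpe (K16.f181739 IH) (Lpe (f181738 IH) (Lpe (f181417 IH) (Lpe (f398548 IH) (Lpr_gf (f385872 IH) (Lpe (K30.f168287 IH) (Lpn (LP (LK LD1_c17 LD2_c54 LD3_c19))))))))))))
theorem f407040 : Led Lsl_cf (LP (LK LD1_c9 LD2_c1 LD3_c60)) = (LP (LK LD1_c16 LD2_c19 LD3_c34)) :=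
  Lgr Lrot99 (Lpe (f280520 IH) (Lpe (f280518 IH) (Lpe (f280513 IH) (Lpe (K30.f268873 IH) (Lpr_gf (f281924 IH) (Lpe (f398497 IH) (Lpr_gt (f407036 IH) (Lpr_ct (K18.f168273 IH) (Lpe (f398605 IH) (Lpn (LP (LK LD1_c16 LD2_c19 LD3_c34))))))))))))
theorem f280519 : Led Lsl_dt (LP (LK LD1_c9 LD2_c1 LD3_c60)) = (LP (LK LD1_c4 LD2_c32 LD3_c10)) :=
  Lre_d IH (LK LD1_c9 LD2_c1 LD3_c60) (LK LD1_c4 LD2_c32 LD3_c10) Lrfl Lrfl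
theorem f181749 : Led Lsl_ct (LP (LK LD1_c4 LD2_c32 LD3_c10)) = (LP (LK LD1_c2 LD2_c13 LD3_c8)) :=
  Lre_c IH (LK LD1_c4 LD2_c32 LD3_c10) (LK LD1_c2 LD2_c13 LD3_c8) Lrfl Lrfl
theorem f280517 : Led Lsl_ct (LP (LK LD1_c4 LD2_c32 LD3_c11)) = (LP (LK LD1_c9 LD2_c1 LD3_c61)) :=
  Lre_c IH (LK LD1_c4 LD2_c32 LD3_c11) (LK LD1_c9 LD2_c1 LD3_c61) Lrfl Lrfl
theorem f398541 : Led Lsl_dt (LP (LK LD1_c9 LD2_c1 LD3_c61)) = (LP (LK LD1_c16 LD2_c51 LD3_c61)) :=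
  Lre_d IH (LK LD1_c9 LD2_c1 LD3_c61) (LK LD1_c16 LD2_c51 LD3_c61) Lrfl Lrfl
theorem f398613 : Led Lsl_cf (LP (LK LD1_c16 LD2_c51 LD3_c61)) = (LP (LK LD1_c26 LD2_c17 LD3_c31)) :=
  Lgr Lrot99 (Lpe (f398541 IH) (Lpe (f280517 IH) (Lpe (f398537 IH) (Lpe (K18.f168274 IH) (Lpe (f385437 IH) (Lpr_df (f398607 IH) (Lpe (f281945 IH) (Lpr_ct (K16.f280415 IH) (Lpe (f398515 IH) (Lpn (LP (LK LD1_c26 LD2_c17 LD3_c31))))))))))))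
theorem f398616 : Led Lsl_ct (LP (LK LD1_c16 LD2_c51 LD3_c61)) = (LP (LK LD1_c26 LD2_c17 LD3_c31)) :=
  Lgr Lrot59 (Lpr_cf (f398613 IH) (Lpn (LP (LK LD1_c26 LD2_c17 LD3_c31))))
theorem f173368 : Led Lsl_gt (LP (LK LD1_c1 LD2_c3 LD3_c39)) = (LP (LK LD1_c2 LD2_c13 LD3_c7)) :=
  Lre_g IH (LK LD1_c1 LD2_c3 LD3_c39) (LK LD1_c2 LD2_c13 LD3_c7) Lrfl Lrfl
theorem f181777 : Led Lsl_ct (LP (LK LD1_c2 LD2_c13 LD3_c7)) = (LP (LK LD1_c4 LD2_c32 LD3_c8)) :=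
  Lre_c IH (LK LD1_c2 LD2_c13 LD3_c7) (LK LD1_c4 LD2_c32 LD3_c8) Lrfl Lrfl
theorem f181778 : Led Lsl_dt (LP (LK LD1_c9 LD2_c1 LD3_c57)) = (LP (LK LD1_c4 LD2_c32 LD3_c8)) :=
  Lre_d IH (LK LD1_c9 LD2_c1 LD3_c57) (LK LD1_c4 LD2_c32 LD3_c8) Lrfl Lrfl
theorem f398551 : Led Lsl_ct (LP (LK LD1_c16 LD2_c19 LD3_c33)) = (LP (LK LD1_c9 LD2_c1 LD3_c57)) :=
  Lgr Lrot110 (Lpe (f229319 IH) (Lpe (K18.f173338 IH) (Lpe (f173333 IH) (Lpr_df (f398544 IH) (Lpr_gt (f181417 IH) (Lpr_ct (K16.f181410 IH) (Lpr_gt (f173368 IH) (Lpr_ct (f181777 IH) (Lpe (f181778 IH) (Lpn (LP (LK LD1_c9 LD2_c1 LD3_c57))))))))))))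
theorem f181781 : Led Lsl_ct (LP (LK LD1_c4 LD2_c32 LD3_c8)) = (LP (LK LD1_c2 LD2_c13 LD3_c7)) :=
  Lre_c IH (LK LD1_c4 LD2_c32 LD3_c8) (LK LD1_c2 LD2_c13 LD3_c7) Lrfl Lrfl
theorem f173369 : Led Lsl_dt (LP (LK LD1_c2 LD2_c13 LD3_c7)) = (LP (LK LD1_c4 LD2_c32 LD3_c9)) :=
  Lre_d IH (LK LD1_c2 LD2_c13 LD3_c7) (LK LD1_c4 LD2_c32 LD3_c9) Lrfl Lrfl
theorem f173370 : Led Lsl_ct (LP (LK LD1_c4 LD2_c32 LD3_c9)) = (LP (LK LD1_c9 LD2_c1 LD3_c58)) :=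
  Lre_c IH (LK LD1_c4 LD2_c32 LD3_c9) (LK LD1_c9 LD2_c1 LD3_c58) Lrfl Lrfl
theorem f398555 : Led Lsl_dt (LP (LK LD1_c9 LD2_c1 LD3_c58)) = (LP (LK LD1_c16 LD2_c51 LD3_c57)) :=
  Lre_d IH (LK LD1_c9 LD2_c1 LD3_c58) (LK LD1_c16 LD2_c51 LD3_c57) Lrfl Lrfl
theorem f407044 : Led Lsl_ct (LP (LK LD1_c16 LD2_c51 LD3_c57)) = (LP (LK LD1_c26 LD2_c17 LD3_c34)) :=
  Lgr Lrot176 (Lpe (f398555 IH) (Lpe (f173370 IH) (Lpe (f173369 IH) (Lpe (f181781 IH) (Lpe (f181778 IH) (Lpe (f398551 IH) (Lpe (f297086 IH) (Lpe (f398616 IH) (Lpe (f398541 IH) (Lpe (f280517 IH) (Lpe (f181751 IH) (Lpe (f181749 IH) (Lpe (f280519 IH) (Lpr_cf (f407040 IH) (Lpe (f297067 IH) (Lpn (LP (LK LD1_c26 LD2_c17 LD3_c34))))))))))))))))))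
theorem f407048 : Led Lsl_cf (LP (LK LD1_c16 LD2_c51 LD3_c57)) = (LP (LK LD1_c26 LD2_c17 LD3_c34)) :=
  Lgr Lrot11 (Lpr_ct (f407044 IH) (Lpn (LP (LK LD1_c26 LD2_c17 LD3_c34))))
theorem f398567 : Led Lsl_dt (LP (LK LD1_c16 LD2_c51 LD3_c57)) = (LP (LK LD1_c9 LD2_c1 LD3_c58)) :=
  Lre_d IH (LK LD1_c16 LD2_c51 LD3_c57) (LK LD1_c9 LD2_c1 LD3_c58) Lrfl Lrfl
theorem f407062 : Led Lsl_gf (LP (LK LD1_c4 LD2_c32 LD3_c9)) = (LP (LK LD1_c2 LD2_c13 LD3_c39)) :=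
  Lgr Lrot104 (Lpr_ct (f173370 IH) (Lpe (f398567 IH) (Lpr_cf (f407048 IH) (Lpr_gf (f398603 IH) (Lpe (K16.f174484 IH) (Lpe (f174487 IH) (Lpe (f398527 IH) (Lpr_gt (f174751 IH) (Lpr_ct (K30.f174636 IH) (Lpn (LP (LK LD1_c2 LD2_c13 LD3_c39))))))))))))
theorem f398565 : Led Lsl_dt (LP (LK LD1_c4 LD2_c32 LD3_c9)) = (LP (LK LD1_c2 LD2_c13 LD3_c7)) :=
  Lre_d IH (LK LD1_c4 LD2_c32 LD3_c9) (LK LD1_c2 LD2_c13 LD3_c7) Lrfl Lrfl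
theorem f398610 : Led Lsl_dt (LP (LK LD1_c9 LD2_c4 LD3_c27)) = (LP (LK LD1_c16 LD2_c52 LD3_c15)) :=
  Lgr Lrot42 (Lpr_df (f398607 IH) (Lpn (LP (LK LD1_c16 LD2_c52 LD3_c15))))
theorem f407064 : Led Lsl_gt (LP (LK LD1_c2 LD2_c13 LD3_c7)) = (LP (LK LD1_c1 LD2_c19 LD3_c61)) :=
  Lgr Lrot49 (Lpe (f398565 IH) (Lpr_gf (f407062 IH) (Lpe (K30.f174636 IH) (Lpr_gt (f385436 IH) (Lpr_dt (f398610 IH) (Lpe (f281945 IH) (Lpr_dt (K16.f268843 IH) (Lpe (K16.f268844 IH) (Lpe (K16.f268839 IH) (Lpn (LP (LK LD1_c1 LD2_c19 LD3_c61))))))))))))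
theorem f407038 : Led Lsl_gt (LP (LK LD1_c4 LD2_c32 LD3_c9)) = (LP (LK LD1_c2 LD2_c48 LD3_c28)) :=
  Lgr Lrot49 (Lpe (f173369 IH) (Lpe (f173368 IH) (Lpe (K16.f181410 IH) (Lpr_gt (f181744 IH) (Lpe (f398494 IH) (Lpr_gt (f407036 IH) (Lpr_dt (K30.f168281 IH) (Lpe (K18.f168271 IH) (Lpr_df (K18.f168253 IH) (Lpn (LP (LK LD1_c2 LD2_c48 LD3_c28))))))))))))
theorem f181755 : Led Lsl_bt (LP (LK LD1_c4 LD2_c31 LD3_c56)) = (LP (LK LD1_c2 LD2_c12 LD3_c60)) :=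
  Lre_b IH (LK LD1_c4 LD2_c31 LD3_c56) (LK LD1_c2 LD2_c12 LD3_c60) Lrfl Lrfl
theorem f181756 : Led Lsl_cf (LP (LK LD1_c4 LD2_c22 LD3_c52)) = (LP (LK LD1_c4 LD2_c31 LD3_c56)) :=
  Lgr Lrot160 (Lpr_gt (f181417 IH) (Lpr_cf (K16.f181731 IH) (Lpr_bt (K16.f181409 IH) (Lpr_gt (K9.f23960 IH) (Lpr_ct (K9.f20812 IH) (Lpr_gt (K9.f20649 IH) (Lpe (K9.f20643 IH) (Lpr_bt (f20647 IH) (Lpr_gt (f20648 IH) (Lpe (f181755 IH) (Lpn (LP (LK LD1_c4 LD2_c31 LD3_c56)))))))))))))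
theorem f181759 : Led Lsl_ct (LP (LK LD1_c4 LD2_c22 LD3_c52)) = (LP (LK LD1_c4 LD2_c31 LD3_c56)) :=
  Lgr Lrot59 (Lpr_cf (f181756 IH) (Lpn (LP (LK LD1_c4 LD2_c31 LD3_c56))))
theorem f407074 : Led Lsl_df (LP (LK LD1_c9 LD2_c1 LD3_c22)) = (LP (LK LD1_c4 LD2_c31 LD3_c56)) :=
  Lgr Lrot162 (Lpr_cf (f174853 IH) (Lpr_gf (f385452 IH) (Lpe (K30.f168288 IH) (Lpe (f407038 IH) (Lpr_dt (f398565 IH) (Lpr_gt (f407064 IH) (Lpr_ct (K16.f268851 IH) (Lpr_gt (f281922 IH) (Lpr_ct (f181759 IH) (Lpn (LP (LK LD1_c4 LD2_c31 LD3_c56))))))))))))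
theorem f181758 : Led Lsl_bt (LP (LK LD1_c2 LD2_c12 LD3_c60)) = (LP (LK LD1_c4 LD2_c31 LD3_c56)) :=
  Lre_b IH (LK LD1_c2 LD2_c12 LD3_c60) (LK LD1_c4 LD2_c31 LD3_c56) Lrfl Lrfl
theorem f407077 : Led Lsl_dt (LP (LK LD1_c4 LD2_c31 LD3_c44)) = (LP (LK LD1_c2 LD2_c12 LD3_c60)) :=
  Lgr Lrot79 (Lpe (f174749 IH) (Lpr_df (f407074 IH) (Lpe (f181758 IH) (Lpn (LP (LK LD1_c2 LD2_c12 LD3_c60))))))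
theorem f407080 : Led Lsl_df (LP (LK LD1_c4 LD2_c31 LD3_c44)) = (LP (LK LD1_c2 LD2_c12 LD3_c60)) :=
  Lgr Lrot38 (Lpr_dt (f407077 IH) (Lpn (LP (LK LD1_c2 LD2_c12 LD3_c60))))
theorem f423273 : Led Lsl_ff (LP (LK LD1_c2 LD2_c12 LD3_c60)) = (LP (LK LD1_c1 LD2_c19 LD3_c25)) :=
  Lgr Lrot19 (Lpe (f407080 IH) (Lpr_ft (f422985 IH) (Lpr_dt (f423256 IH) (Lpn (LP (LK LD1_c1 LD2_c19 LD3_c25))))))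
theorem f423722 : Led Lsl_ft (LP (LK LD1_c2 LD2_c12 LD3_c60)) = (LP (LK LD1_c1 LD2_c19 LD3_c25)) :=
  Lgr Lrot48 (Lpr_ff (f423273 IH) (Lpn (LP (LK LD1_c1 LD2_c19 LD3_c25))))
theorem f382010 : Led Lsl_bt (LP (LK LD1_c1 LD2_c19 LD3_c25)) = (LP (LK LD1_c2 LD2_c46 LD3_c5)) :=
  Lre_b IH (LK LD1_c1 LD2_c19 LD3_c25) (LK LD1_c2 LD2_c46 LD3_c5) Lrfl Lrfl
theorem f423724 : Led Lsl_ff (LP (LK LD1_c4 LD2_c31 LD3_c56)) = (LP (LK LD1_c2 LD2_c46 LD3_c5)) :=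
  Lgr Lrot25 (Lpr_bt (f181755 IH) (Lpr_ft (f423722 IH) (Lpr_bt (f382010 IH) (Lpn (LP (LK LD1_c2 LD2_c46 LD3_c5))))))
theorem f382050 : Led Lsl_ct (LP (LK LD1_c2 LD2_c47 LD3_c50)) = (LP (LK LD1_c2 LD2_c12 LD3_c60)) :=
  Lgr Lrot59 (Lpr_cf (f382046 IH) (Lpn (LP (LK LD1_c2 LD2_c12 LD3_c60))))
theorem f100939 : Led Lsl_bt (LP (LK LD1_c1 LD2_c56 LD3_c18)) = (LP (LK LD1_c0 LD2_c54 LD3_c60)) :=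
  Lre_b IH (LK LD1_c1 LD2_c56 LD3_c18) (LK LD1_c0 LD2_c54 LD3_c60) Lrfl Lrfl
theorem f101544 : Led Lsl_ct (LP (LK LD1_c1 LD2_c56 LD3_c18)) = (LP (LK LD1_c3 LD2_c57 LD3_c31)) :=
  Lre_c IH (LK LD1_c1 LD2_c56 LD3_c18) (LK LD1_c3 LD2_c57 LD3_c31) Lrfl Lrfl
theorem f167778 : Led Lsl_ct (LP (LK LD1_c0 LD2_c12 LD3_c51)) = (LP (LK LD1_c0 LD2_c5 LD3_c50)) :=
  Lre_c IH (LK LD1_c0 LD2_c12 LD3_c51) (LK LD1_c0 LD2_c5 LD3_c50) Lrfl Lrfl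
theorem f174889 : Led Lsl_bt (LP (LK LD1_c0 LD2_c12 LD3_c51)) = (LP (LK LD1_c0 LD2_c29 LD3_c6)) :=
  Lre_b IH (LK LD1_c0 LD2_c12 LD3_c51) (LK LD1_c0 LD2_c29 LD3_c6) Lrfl Lrfl
theorem f174892 : Led Lsl_gf (LP (LK LD1_c3 LD2_c57 LD3_c31)) = (LP (LK LD1_c4 LD2_c32 LD3_c50)) :=
  Lgr Lrot126 (Lpe (f101544 IH) (Lpr_bt (f100939 IH) (Lpr_gt (K9.f174744 IH) (Lpr_ct (K9.f20643 IH) (Lpr_gt (K9.f20624 IH) (Lpe (f167778 IH) (Lpr_bt (f174889 IH) (Lpr_gt (f174809 IH) (Lpe (K30.f174890 IH) (Lpr_ct (K30.f174891 IH) (Lpn (LP (LK LD1_c4 LD2_c32 LD3_c50)))))))))))))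
theorem f174894 : Led Lsl_gt (LP (LK LD1_c4 LD2_c32 LD3_c49)) = (LP (LK LD1_c2 LD2_c13 LD3_c25)) :=
  Lre_g IH (LK LD1_c4 LD2_c32 LD3_c49) (LK LD1_c2 LD2_c13 LD3_c25) Lrfl Lrfl
theorem f382052 : Led Lsl_bt (LP (LK LD1_c2 LD2_c47 LD3_c50)) = (LP (LK LD1_c4 LD2_c32 LD3_c49)) :=
  Lgr Lrot130 (Lpr_ct (f382050 IH) (Lpe (f20648 IH) (Lpe (K10.f181460 IH) (Lpr_bt (K10.f174895 IH) (Lpe (K9.f174744 IH) (Lpe (f100939 IH) (Lpr_ct (f101544 IH) (Lpr_gf (f174892 IH) (Lpe (K30.f174891 IH) (Lpe (f174894 IH) (Lpn (LP (LK LD1_c4 LD2_c32 LD3_c49)))))))))))))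
theorem f382054 : Led Lsl_bf (LP (LK LD1_c2 LD2_c47 LD3_c50)) = (LP (LK LD1_c4 LD2_c32 LD3_c49)) :=
  Lgr Lrot24 (Lpr_bt (f382052 IH) (Lpn (LP (LK LD1_c4 LD2_c32 LD3_c49))))
theorem f40168 : Led Lsl_ct (LP (LK LD1_c2 LD2_c26 LD3_c27)) = (LP (LK LD1_c1 LD2_c20 LD3_c6)) :=
  Lre_c IH (LK LD1_c2 LD2_c26 LD3_c27) (LK LD1_c1 LD2_c20 LD3_c6) Lrfl Lrfl
theorem f100560 : Led Lsl_gt (LP (LK LD1_c3 LD2_c58 LD3_c56)) = (LP (LK LD1_c1 LD2_c56 LD3_c15)) :=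
  Lre_g IH (LK LD1_c3 LD2_c58 LD3_c56) (LK LD1_c1 LD2_c56 LD3_c15) Lrfl Lrfl
theorem f174556 : Led Lsl_ct (LP (LK LD1_c1 LD2_c56 LD3_c15)) = (LP (LK LD1_c3 LD2_c59 LD3_c2)) :=
  Lre_c IH (LK LD1_c1 LD2_c56 LD3_c15) (LK LD1_c3 LD2_c59 LD3_c2) Lrfl Lrfl
theorem f382048 : Led Lsl_gt (LP (LK LD1_c3 LD2_c59 LD3_c2)) = (LP (LK LD1_c7 LD2_c59 LD3_c13)) :=
  Lre_g IH (LK LD1_c3 LD2_c59 LD3_c2) (LK LD1_c7 LD2_c59 LD3_c13) Lrfl Lrfl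
theorem f382072 : Led Lsl_cf (LP (LK LD1_c7 LD2_c59 LD3_c13)) = (LP (LK LD1_c4 LD2_c32 LD3_c49)) :=
  Lgr Lrot163 (Lpe (f382048 IH) (Lpe (f174556 IH) (Lpe (f100560 IH) (Lpr_bf (K7.f40166 IH) (Lpr_ct (f40168 IH) (Lpe (K30.f381124 IH) (Lpe (K27.f174920 IH) (Lpr_bt (K27.f174921 IH) (Lpe (f382043 IH) (Lpr_bf (f382054 IH) (Lpn (LP (LK LD1_c4 LD2_c32 LD3_c49)))))))))))))
theorem f174557 : Led Lsl_bt (LP (LK LD1_c1 LD2_c56 LD3_c15)) = (LP (LK LD1_c3 LD2_c59 LD3_c1)) :=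
  Lre_b IH (LK LD1_c1 LD2_c56 LD3_c15) (LK LD1_c3 LD2_c59 LD3_c1) Lrfl Lrfl
theorem f381975 : Led Lsl_ct (LP (LK LD1_c2 LD2_c47 LD3_c42)) = (LP (LK LD1_c2 LD2_c47 LD3_c37)) :=
  Lgr Lrot59 (Lpr_cf (K27.f381970 IH) (Lpn (LP (LK LD1_c2 LD2_c47 LD3_c37))))
theorem f382084 : Led Lsl_gf (LP (LK LD1_c3 LD2_c59 LD3_c1)) = (LP (LK LD1_c2 LD2_c46 LD3_c5)) :=
  Lgr Lrot124 (Lpe (f174557 IH) (Lpr_ct (f174556 IH) (Lpr_gt (f382048 IH) (Lpr_cf (f382072 IH) (Lpe (f382054 IH) (Lpr_gt (f382043 IH) (Lpr_ct (f381975 IH) (Lpr_gt (K30.f382011 IH) (Lpe (K30.f380256 IH) (Lpr_bt (f382010 IH) (Lpn (LP (LK LD1_c2 LD2_c46 LD3_c5)))))))))))))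
theorem f280285 : Led Lsl_ft (LP (LK LD1_c1 LD2_c20 LD3_c0)) = (LP (LK LD1_c2 LD2_c8 LD3_c52)) :=
  Lgr Lrot142 (Lpr_dt (K16.f172833 IH) (Lpr_ct (K16.f172754 IH) (Lpr_dt (K16.f269673 IH) (Lpr_ct (K16.f280270 IH) (Lpr_dt (K16.f181774 IH) (Lpr_ct (K16.f181771 IH) (Lpr_dt (K16.f181770 IH) (Lpe (K16.f181762 IH) (Lpe (K16.f181733 IH) (Lpn (LP (LK LD1_c2 LD2_c8 LD3_c52))))))))))))
theorem f172463 : Led Lsl_gt (LP (LK LD1_c1 LD2_c20 LD3_c0)) = (LP (LK LD1_c2 LD2_c47 LD3_c19)) :=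
  Lre_g IH (LK LD1_c1 LD2_c20 LD3_c0) (LK LD1_c2 LD2_c47 LD3_c19) Lrfl Lrfl
theorem f281973 : Led Lsl_gt (LP (LK LD1_c2 LD2_c47 LD3_c19)) = (LP (LK LD1_c4 LD2_c22 LD3_c53)) :=
  Lgr Lrot46 (Lpe (f172463 IH) (Lpr_ft (f280285 IH) (Lpr_at (K16.f181733 IH) (Lpn (LP (LK LD1_c4 LD2_c22 LD3_c53))))))
theorem f172464 : Led Lsl_ct (LP (LK LD1_c5 LD2_c42 LD3_c39)) = (LP (LK LD1_c2 LD2_c47 LD3_c19)) :=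
  Lre_c IH (LK LD1_c5 LD2_c42 LD3_c39) (LK LD1_c2 LD2_c47 LD3_c19) Lrfl Lrfl
theorem f174550 : Led Lsl_gt (LP (LK LD1_c7 LD2_c59 LD3_c12)) = (LP (LK LD1_c3 LD2_c59 LD3_c2)) :=
  Lre_g IH (LK LD1_c7 LD2_c59 LD3_c12) (LK LD1_c3 LD2_c59 LD3_c2) Lrfl Lrfl
theorem f411660 : Led Lsl_gf (LP (LK LD1_c5 LD2_c42 LD3_c39)) = (LP (LK LD1_c3 LD2_c59 LD3_c1)) :=
  Lgr Lrot181 (Lpr_ct (f172464 IH) (Lpr_gt (f281973 IH) (Lpr_cf (K16.f181762 IH) (Lpe (K16.f280509 IH) (Lpr_gt (K30.f411656 IH) (Lpe (K30.f174539 IH) (Lpe (K30.f174540 IH) (Lpr_gt (f174550 IH) (Lpe (f174556 IH) (Lpr_bt (f174557 IH) (Lpn (LP (LK LD1_c3 LD2_c59 LD3_c1)))))))))))))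
theorem f423731 : Led Lsl_at (LP (LK LD1_c4 LD2_c31 LD3_c56)) = (LP (LK LD1_c5 LD2_c42 LD3_c39)) :=
  Lgr Lrot26 (Lpr_ff (f423724 IH) (Lpe (f382084 IH) (Lpe (f411660 IH) (Lpn (LP (LK LD1_c5 LD2_c42 LD3_c39))))))
theorem f172469 : Led Lsl_ct (LP (LK LD1_c2 LD2_c47 LD3_c19)) = (LP (LK LD1_c5 LD2_c42 LD3_c39)) :=
  Lre_c IH (LK LD1_c2 LD2_c47 LD3_c19) (LK LD1_c5 LD2_c42 LD3_c39) Lrfl Lrfl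
theorem f172477 : Led Lsl_dt (LP (LK LD1_c5 LD2_c42 LD3_c40)) = (LP (LK LD1_c2 LD2_c47 LD3_c19)) :=
  Lre_d IH (LK LD1_c5 LD2_c42 LD3_c40) (LK LD1_c2 LD2_c47 LD3_c19) Lrfl Lrfl
theorem f411666 : Led Lsl_ct (LP (LK LD1_c11 LD2_c15 LD3_c30)) = (LP (LK LD1_c5 LD2_c42 LD3_c40)) :=
  Lre_c IH (LK LD1_c11 LD2_c15 LD3_c30) (LK LD1_c5 LD2_c42 LD3_c40) Lrfl Lrfl
theorem f411720 : Led Lsl_dt (LP (LK LD1_c20 LD2_c10 LD3_c41)) = (LP (LK LD1_c11 LD2_c15 LD3_c30)) :=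
  Lre_d IH (LK LD1_c20 LD2_c10 LD3_c41) (LK LD1_c11 LD2_c15 LD3_c30) Lrfl Lrfl
theorem f423269 : Led Lsl_df (LP (LK LD1_c5 LD2_c38 LD3_c8)) = (LP (LK LD1_c2 LD2_c46 LD3_c5)) :=
  Lgr Lrot12 (Lpr_bt (K30.f172337 IH) (Lpr_dt (f423256 IH) (Lpr_bt (f382010 IH) (Lpn (LP (LK LD1_c2 LD2_c46 LD3_c5))))))
theorem f418936 : Led Lsl_bt (LP (LK LD1_c11 LD2_c16 LD3_c4)) = (LP (LK LD1_c20 LD2_c11 LD3_c59)) :=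
  Lre_b IH (LK LD1_c11 LD2_c16 LD3_c4) (LK LD1_c20 LD2_c11 LD3_c59) Lrfl Lrfl
theorem f418937 : Led Lsl_ft (LP (LK LD1_c16 LD2_c52 LD3_c16)) = (LP (LK LD1_c11 LD2_c16 LD3_c4)) :=
  Lgr Lrot75 (Lpe (f174488 IH) (Lpr_ff (f418934 IH) (Lpe (f418936 IH) (Lpn (LP (LK LD1_c11 LD2_c16 LD3_c4))))))
theorem f418961 : Led Lsl_af (LP (LK LD1_c16 LD2_c52 LD3_c15)) = (LP (LK LD1_c11 LD2_c16 LD3_c4)) :=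
  Lgr Lrot45 (Lpr_ft (f418959 IH) (Lpe (f418945 IH) (Lpr_ft (f418937 IH) (Lpn (LP (LK LD1_c11 LD2_c16 LD3_c4))))))
theorem f422967 : Led Lsl_df (LP (LK LD1_c11 LD2_c16 LD3_c4)) = (LP (LK LD1_c5 LD2_c45 LD3_c25)) :=
  Lgr Lrot18 (Lpe (f418961 IH) (Lpe (f398607 IH) (Lpr_at (f422961 IH) (Lpn (LP (LK LD1_c5 LD2_c45 LD3_c25))))))
theorem f423733 : Led Lsl_cf (LP (LK LD1_c20 LD2_c10 LD3_c41)) = (LP (LK LD1_c11 LD2_c16 LD3_c4)) :=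
  Lgr Lrot116 (Lpr_dt (f411720 IH) (Lpr_ct (f411666 IH) (Lpr_dt (f172477 IH) (Lpr_ct (f172469 IH) (Lpe (f423731 IH) (Lpr_ff (f423724 IH) (Lpe (f423269 IH) (Lpr_ct (K30.f172338 IH) (Lpe (f422967 IH) (Lpn (LP (LK LD1_c11 LD2_c16 LD3_c4))))))))))))
theorem f172489 : Led Lsl_dt (LP (LK LD1_c5 LD2_c42 LD3_c39)) = (LP (LK LD1_c11 LD2_c15 LD3_c29)) :=
  Lre_d IH (LK LD1_c5 LD2_c42 LD3_c39) (LK LD1_c11 LD2_c15 LD3_c29) Lrfl Lrfl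
theorem f423741 : Led Lsl_ct (LP (LK LD1_c11 LD2_c15 LD3_c29)) = (LP (LK LD1_c5 LD2_c45 LD3_c24)) :=
  Lgr Lrot98 (Lpe (f172489 IH) (Lpe (f172469 IH) (Lpe (f172477 IH) (Lpe (f411666 IH) (Lpe (f411720 IH) (Lpr_cf (f423733 IH) (Lpr_df (f422967 IH) (Lpe (f422971 IH) (Lpr_at (f422935 IH) (Lpn (LP (LK LD1_c5 LD2_c45 LD3_c24))))))))))))
theorem f423739 : Led Lsl_ft (LP (LK LD1_c20 LD2_c10 LD3_c41)) = (LP (LK LD1_c26 LD2_c17 LD3_c23)) :=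
  Lgr Lrot4 (Lpr_cf (f423733 IH) (Lpe (f418937 IH) (Lpe (f398596 IH) (Lpn (LP (LK LD1_c26 LD2_c17 LD3_c23))))))
theorem f280501 : Led Lsl_ct (LP (LK LD1_c2 LD2_c47 LD3_c20)) = (LP (LK LD1_c2 LD2_c46 LD3_c5)) :=
  Lre_c IH (LK LD1_c2 LD2_c47 LD3_c20) (LK LD1_c2 LD2_c46 LD3_c5) Lrfl Lrfl
theorem f280506 : Led Lsl_dt (LP (LK LD1_c5 LD2_c42 LD3_c41)) = (LP (LK LD1_c2 LD2_c47 LD3_c20)) :=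
  Lre_d IH (LK LD1_c5 LD2_c42 LD3_c41) (LK LD1_c2 LD2_c47 LD3_c20) Lrfl Lrfl
theorem f280500 : Led Lsl_ct (LP (LK LD1_c11 LD2_c15 LD3_c32)) = (LP (LK LD1_c5 LD2_c42 LD3_c41)) :=
  Lre_c IH (LK LD1_c11 LD2_c15 LD3_c32) (LK LD1_c5 LD2_c42 LD3_c41) Lrfl Lrfl
theorem f280499 : Led Lsl_dt (LP (LK LD1_c20 LD2_c10 LD3_c45)) = (LP (LK LD1_c11 LD2_c15 LD3_c32)) :=
  Lre_d IH (LK LD1_c20 LD2_c10 LD3_c45) (LK LD1_c11 LD2_c15 LD3_c32) Lrfl Lrfl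
theorem f423751 : Led Lsl_cf (LP (LK LD1_c20 LD2_c10 LD3_c45)) = (LP (LK LD1_c11 LD2_c16 LD3_c3)) :=
  Lgr Lrot55 (Lpr_dt (f280499 IH) (Lpr_ct (f280500 IH) (Lpr_dt (f280506 IH) (Lpr_ct (f280501 IH) (Lpe (f423269 IH) (Lpr_ct (K30.f172338 IH) (Lpe (f422967 IH) (Lpe (f423733 IH) (Lpr_dt (f411720 IH) (Lpr_ct (f411666 IH) (Lpr_dt (f172477 IH) (Lpr_ct (f172469 IH) (Lpr_dt (f172489 IH) (Lpr_ct (f423741 IH) (Lpe (f422918 IH) (Lpn (LP (LK LD1_c11 LD2_c16 LD3_c3))))))))))))))))))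
theorem f423757 : Led Lsl_at (LP (LK LD1_c26 LD2_c17 LD3_c23)) = (LP (LK LD1_c20 LD2_c10 LD3_c45)) :=
  Lgr Lrot33 (Lpe (f423739 IH) (Lpr_dt (f411720 IH) (Lpr_ct (f411666 IH) (Lpr_dt (f172477 IH) (Lpr_ct (f172469 IH) (Lpr_dt (f172489 IH) (Lpr_ct (f423741 IH) (Lpe (f422918 IH) (Lpe (f423751 IH) (Lpn (LP (LK LD1_c20 LD2_c10 LD3_c45))))))))))))
theorem f423773 : Led Lsl_af (LP (LK LD1_c16 LD2_c19 LD3_c29)) = (LP (LK LD1_c11 LD2_c15 LD3_c32)) :=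
  Lgr Lrot117 (Lpr_dt (f398496 IH) (Lpr_at (f423757 IH) (Lpr_dt (f280499 IH) (Lpn (LP (LK LD1_c11 LD2_c15 LD3_c32))))))
theorem f423794 : Led Lsl_et (LP (LK LD1_c16 LD2_c19 LD3_c29)) = (LP (LK LD1_c26 LD2_c17 LD3_c24)) :=
  Lre_e IH (LK LD1_c16 LD2_c19 LD3_c29) (LK LD1_c26 LD2_c17 LD3_c24) Lrfl Lrfl
theorem f423795 : Led Lsl_et (LP (LK LD1_c20 LD2_c10 LD3_c46)) = (LP (LK LD1_c11 LD2_c15 LD3_c32)) :=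
  Lre_e IH (LK LD1_c20 LD2_c10 LD3_c46) (LK LD1_c11 LD2_c15 LD3_c32) Lrfl Lrfl
theorem f423796 : Led Lsl_at (LP (LK LD1_c26 LD2_c17 LD3_c24)) = (LP (LK LD1_c20 LD2_c10 LD3_c46)) :=
  Lgr Lrot80 (Lpe (f423794 IH) (Lpr_af (f423773 IH) (Lpe (f423795 IH) (Lpn (LP (LK LD1_c20 LD2_c10 LD3_c46))))))
theorem f423800 : Led Lsl_ct (LP (LK LD1_c16 LD2_c19 LD3_c30)) = (LP (LK LD1_c26 LD2_c17 LD3_c24)) :=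
  Lre_c IH (LK LD1_c16 LD2_c19 LD3_c30) (LK LD1_c26 LD2_c17 LD3_c24) Lrfl Lrfl
theorem f423801 : Led Lsl_ct (LP (LK LD1_c20 LD2_c10 LD3_c46)) = (LP (LK LD1_c11 LD2_c15 LD3_c33)) :=
  Lre_c IH (LK LD1_c20 LD2_c10 LD3_c46) (LK LD1_c11 LD2_c15 LD3_c33) Lrfl Lrfl
theorem f423802 : Led Lsl_af (LP (LK LD1_c16 LD2_c19 LD3_c30)) = (LP (LK LD1_c11 LD2_c15 LD3_c33)) :=
  Lgr Lrot68 (Lpr_ct (f423800 IH) (Lpr_at (f423796 IH) (Lpr_ct (f423801 IH) (Lpn (LP (LK LD1_c11 LD2_c15 LD3_c33))))))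
theorem f423812 : Led Lsl_at (LP (LK LD1_c16 LD2_c19 LD3_c30)) = (LP (LK LD1_c11 LD2_c15 LD3_c33)) :=
  Lgr Lrot100 (Lpr_af (f423802 IH) (Lpn (LP (LK LD1_c11 LD2_c15 LD3_c33))))
theorem f398499 : Led Lsl_et (LP (LK LD1_c8 LD2_c42 LD3_c56)) = (LP (LK LD1_c16 LD2_c19 LD3_c30)) :=
  Lre_e IH (LK LD1_c8 LD2_c42 LD3_c56) (LK LD1_c16 LD2_c19 LD3_c30) Lrfl Lrfl
theorem f423829 : Led Lsl_et (LP (LK LD1_c11 LD2_c15 LD3_c33)) = (LP (LK LD1_c5 LD2_c42 LD3_c41)) :=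
  Lre_e IH (LK LD1_c11 LD2_c15 LD3_c33) (LK LD1_c5 LD2_c42 LD3_c41) Lrfl Lrfl
theorem f423830 : Led Lsl_af (LP (LK LD1_c8 LD2_c42 LD3_c56)) = (LP (LK LD1_c5 LD2_c42 LD3_c41)) :=
  Lgr Lrot50 (Lpr_et (f398499 IH) (Lpr_at (f423812 IH) (Lpr_et (f423829 IH) (Lpn (LP (LK LD1_c5 LD2_c42 LD3_c41))))))
theorem f423837 : Led Lsl_ft (LP (LK LD1_c8 LD2_c42 LD3_c57)) = (LP (LK LD1_c5 LD2_c42 LD3_c41)) :=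
  Lgr Lrot2 (Lpr_gt (f173333 IH) (Lpr_gt (f178968 IH) (Lpr_af (f423830 IH) (Lpn (LP (LK LD1_c5 LD2_c42 LD3_c41))))))
theorem f423843 : Led Lsl_ff (LP (LK LD1_c8 LD2_c42 LD3_c57)) = (LP (LK LD1_c5 LD2_c42 LD3_c41)) :=
  Lgr Lrot3 (Lpr_ft (f423837 IH) (Lpn (LP (LK LD1_c5 LD2_c42 LD3_c41))))
theorem f423847 : Led Lsl_at (LP (LK LD1_c8 LD2_c42 LD3_c57)) = (LP (LK LD1_c5 LD2_c42 LD3_c40)) :=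
  Lgr Lrot33 (Lpr_ff (f423843 IH) (Lpr_dt (f280506 IH) (Lpr_ct (f280501 IH) (Lpe (f423269 IH) (Lpr_ct (K30.f172338 IH) (Lpe (f422967 IH) (Lpe (f423733 IH) (Lpr_dt (f411720 IH) (Lpr_ct (f411666 IH) (Lpn (LP (LK LD1_c5 LD2_c42 LD3_c40))))))))))))
theorem f280498 : Led Lsl_ct (LP (LK LD1_c5 LD2_c42 LD3_c41)) = (LP (LK LD1_c11 LD2_c15 LD3_c32)) :=
  Lre_c IH (LK LD1_c5 LD2_c42 LD3_c41) (LK LD1_c11 LD2_c15 LD3_c32) Lrfl Lrfl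
theorem f423792 : Led Lsl_at (LP (LK LD1_c8 LD2_c42 LD3_c56)) = (LP (LK LD1_c5 LD2_c42 LD3_c41)) :=
  Lgr Lrot107 (Lpe (f398481 IH) (Lpr_af (f423773 IH) (Lpe (f280498 IH) (Lpn (LP (LK LD1_c5 LD2_c42 LD3_c41))))))
theorem f423857 : Led Lsl_ff (LP (LK LD1_c8 LD2_c42 LD3_c56)) = (LP (LK LD1_c5 LD2_c42 LD3_c40)) :=
  Lgr Lrot30 (Lpr_at (f423792 IH) (Lpe (f423843 IH) (Lpr_at (f423847 IH) (Lpn (LP (LK LD1_c5 LD2_c42 LD3_c40))))))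
theorem f424071 : Led Lsl_ft (LP (LK LD1_c8 LD2_c42 LD3_c56)) = (LP (LK LD1_c5 LD2_c42 LD3_c40)) :=
  Lgr Lrot48 (Lpr_ff (f423857 IH) (Lpn (LP (LK LD1_c5 LD2_c42 LD3_c40))))
theorem f424075 : Led Lsl_ff (LP (LK LD1_c4 LD2_c22 LD3_c51)) = (LP (LK LD1_c2 LD2_c47 LD3_c19)) :=
  Lgr Lrot19 (Lpe (f398494 IH) (Lpr_ft (f424071 IH) (Lpr_dt (f172477 IH) (Lpn (LP (LK LD1_c2 LD2_c47 LD3_c19))))))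
theorem f280497 : Led Lsl_dt (LP (LK LD1_c2 LD2_c47 LD3_c20)) = (LP (LK LD1_c5 LD2_c42 LD3_c41)) :=
  Lre_d IH (LK LD1_c2 LD2_c47 LD3_c20) (LK LD1_c5 LD2_c42 LD3_c41) Lrfl Lrfl
theorem f423835 : Led Lsl_at (LP (LK LD1_c4 LD2_c22 LD3_c51)) = (LP (LK LD1_c2 LD2_c47 LD3_c20)) :=
  Lgr Lrot51 (Lpe (f398497 IH) (Lpr_af (f423830 IH) (Lpe (f280497 IH) (Lpn (LP (LK LD1_c2 LD2_c47 LD3_c20))))))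
theorem f423841 : Led Lsl_ff (LP (LK LD1_c4 LD2_c22 LD3_c52)) = (LP (LK LD1_c2 LD2_c47 LD3_c20)) :=
  Lgr Lrot19 (Lpe (f398544 IH) (Lpr_ft (f423837 IH) (Lpr_dt (f280506 IH) (Lpn (LP (LK LD1_c2 LD2_c47 LD3_c20))))))
theorem f424080 : Led Lsl_at (LP (LK LD1_c4 LD2_c22 LD3_c52)) = (LP (LK LD1_c2 LD2_c47 LD3_c19)) :=
  Lgr Lrot66 (Lpr_ff (f423841 IH) (Lpe (f423835 IH) (Lpr_ff (f424075 IH) (Lpn (LP (LK LD1_c2 LD2_c47 LD3_c19))))))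
theorem f424082 : Led Lsl_af (LP (LK LD1_c4 LD2_c31 LD3_c56)) = (LP (LK LD1_c5 LD2_c42 LD3_c39)) :=
  Lgr Lrot68 (Lpe (f181756 IH) (Lpr_at (f424080 IH) (Lpr_ct (f172469 IH) (Lpn (LP (LK LD1_c5 LD2_c42 LD3_c39))))))
theorem f385877 : Led Lsl_ct (LP (LK LD1_c16 LD2_c19 LD3_c31)) = (LP (LK LD1_c8 LD2_c42 LD3_c57)) :=
  Lre_c IH (LK LD1_c16 LD2_c19 LD3_c31) (LK LD1_c8 LD2_c42 LD3_c57) Lrfl Lrfl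
theorem f385876 : Led Lsl_dt (LP (LK LD1_c26 LD2_c17 LD3_c29)) = (LP (LK LD1_c16 LD2_c19 LD3_c31)) :=
  Lre_d IH (LK LD1_c26 LD2_c17 LD3_c29) (LK LD1_c16 LD2_c19 LD3_c31) Lrfl Lrfl
theorem f385874 : Led Lsl_ct (LP (LK LD1_c8 LD2_c42 LD3_c57)) = (LP (LK LD1_c16 LD2_c19 LD3_c31)) :=
  Lre_c IH (LK LD1_c8 LD2_c42 LD3_c57) (LK LD1_c16 LD2_c19 LD3_c31) Lrfl Lrfl
theorem f385875 : Led Lsl_dt (LP (LK LD1_c16 LD2_c19 LD3_c31)) = (LP (LK LD1_c26 LD2_c17 LD3_c29)) :=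
  Lre_d IH (LK LD1_c16 LD2_c19 LD3_c31) (LK LD1_c26 LD2_c17 LD3_c29) Lrfl Lrfl
theorem f398517 : Led Lsl_cf (LP (LK LD1_c26 LD2_c17 LD3_c29)) = (LP (LK LD1_c16 LD2_c52 LD3_c15)) :=
  Lgr Lrot99 (Lpe (f385875 IH) (Lpe (f385874 IH) (Lpr_gf (f385872 IH) (Lpe (K30.f168287 IH) (Lpe (f297084 IH) (Lpe (f297086 IH) (Lpr_gt (f398511 IH) (Lpr_ct (K16.f174492 IH) (Lpr_gt (f174486 IH) (Lpn (LP (LK LD1_c16 LD2_c52 LD3_c15))))))))))))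
theorem f422903 : Led Lsl_at (LP (LK LD1_c5 LD2_c38 LD3_c8)) = (LP (LK LD1_c11 LD2_c7 LD3_c31)) :=
  Lre_a IH (LK LD1_c5 LD2_c38 LD3_c8) (LK LD1_c11 LD2_c7 LD3_c31) Lrfl Lrfl
theorem f422965 : Led Lsl_cf (LP (LK LD1_c9 LD2_c4 LD3_c27)) = (LP (LK LD1_c11 LD2_c7 LD3_c31)) :=
  Lgr Lrot1 (Lpr_at (f422961 IH) (Lpe (f422865 IH) (Lpr_at (f422903 IH) (Lpn (LP (LK LD1_c11 LD2_c7 LD3_c31))))))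
theorem f423720 : Led Lsl_ft (LP (LK LD1_c4 LD2_c31 LD3_c56)) = (LP (LK LD1_c2 LD2_c46 LD3_c5)) :=
  Lgr Lrot75 (Lpe (f181758 IH) (Lpr_ff (f423273 IH) (Lpe (K30.f280505 IH) (Lpn (LP (LK LD1_c2 LD2_c46 LD3_c5))))))
theorem f423326 : Led Lsl_at (LP (LK LD1_c2 LD2_c46 LD3_c5)) = (LP (LK LD1_c5 LD2_c40 LD3_c17)) :=
  Lre_a IH (LK LD1_c2 LD2_c46 LD3_c5) (LK LD1_c5 LD2_c40 LD3_c17) Lrfl Lrfl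
theorem f424086 : Led Lsl_ft (LP (LK LD1_c5 LD2_c40 LD3_c17)) = (LP (LK LD1_c5 LD2_c42 LD3_c39)) :=
  Lgr Lrot101 (Lpe (f423326 IH) (Lpe (f423720 IH) (Lpr_af (f424082 IH) (Lpn (LP (LK LD1_c5 LD2_c42 LD3_c39))))))
theorem f424088 : Led Lsl_df (LP (LK LD1_c11 LD2_c7 LD3_c31)) = (LP (LK LD1_c5 LD2_c40 LD3_c17)) :=
  Lgr Lrot157 (Lpe (f422965 IH) (Lpr_dt (f398610 IH) (Lpe (f398517 IH) (Lpr_dt (f385876 IH) (Lpr_ct (f385877 IH) (Lpr_dt (f398548 IH) (Lpr_ct (f181759 IH) (Lpr_af (f424082 IH) (Lpe (f424086 IH) (Lpn (LP (LK LD1_c5 LD2_c40 LD3_c17))))))))))))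
theorem f424090 : Led Lsl_ct (LP (LK LD1_c4 LD2_c22 LD3_c51)) = (LP (LK LD1_c5 LD2_c40 LD3_c17)) :=
  Lgr Lrot176 (Lpe (f398497 IH) (Lpe (f398481 IH) (Lpe (f398504 IH) (Lpr_cf (f398588 IH) (Lpe (f398527 IH) (Lpe (f174752 IH) (Lpr_df (f407074 IH) (Lpe (f181759 IH) (Lpe (f398548 IH) (Lpe (f385877 IH) (Lpe (f385876 IH) (Lpr_cf (f398517 IH) (Lpe (f398610 IH) (Lpr_cf (f422965 IH) (Lpr_df (f424088 IH) (Lpn (LP (LK LD1_c5 LD2_c40 LD3_c17))))))))))))))))))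
theorem f424099 : Led Lsl_cf (LP (LK LD1_c11 LD2_c7 LD3_c31)) = (LP (LK LD1_c9 LD2_c4 LD3_c27)) :=
  Lgr Lrot99 (Lpr_df (f424088 IH) (Lpe (f424090 IH) (Lpe (f181744 IH) (Lpr_cf (K16.f181731 IH) (Lpe (f174474 IH) (Lpe (f181750 IH) (Lpe (f398539 IH) (Lpr_ct (f174750 IH) (Lpr_gt (f385436 IH) (Lpn (LP (LK LD1_c9 LD2_c4 LD3_c27))))))))))))
theorem f424092 : Led Lsl_dt (LP (LK LD1_c11 LD2_c7 LD3_c31)) = (LP (LK LD1_c5 LD2_c40 LD3_c17)) :=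
  Lgr Lrot42 (Lpr_df (f424088 IH) (Lpn (LP (LK LD1_c5 LD2_c40 LD3_c17))))
theorem f398521 : Led Lsl_ct (LP (LK LD1_c26 LD2_c17 LD3_c29)) = (LP (LK LD1_c16 LD2_c52 LD3_c15)) :=
  Lgr Lrot59 (Lpr_cf (f398517 IH) (Lpn (LP (LK LD1_c16 LD2_c52 LD3_c15))))
theorem f407072 : Led Lsl_dt (LP (LK LD1_c9 LD2_c1 LD3_c22)) = (LP (LK LD1_c4 LD2_c31 LD3_c56)) :=
  Lgr Lrot27 (Lpr_cf (f174853 IH) (Lpr_gf (f385452 IH) (Lpe (K30.f168288 IH) (Lpe (f407038 IH) (Lpe (f173369 IH) (Lpr_gt (f407064 IH) (Lpr_ct (K16.f268851 IH) (Lpr_gt (f281922 IH) (Lpr_ct (f181759 IH) (Lpn (LP (LK LD1_c4 LD2_c31 LD3_c56))))))))))))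
theorem f424101 : Led Lsl_ct (LP (LK LD1_c5 LD2_c40 LD3_c17)) = (LP (LK LD1_c4 LD2_c22 LD3_c51)) :=
  Lgr Lrot176 (Lpe (f424092 IH) (Lpr_cf (f424099 IH) (Lpr_df (f398607 IH) (Lpe (f398521 IH) (Lpe (f385875 IH) (Lpe (f385874 IH) (Lpr_df (f398544 IH) (Lpr_cf (f181756 IH) (Lpe (f407072 IH) (Lpr_cf (f174853 IH) (Lpr_df (f398523 IH) (Lpe (f398596 IH) (Lpe (f398496 IH) (Lpe (f398493 IH) (Lpr_df (f398494 IH) (Lpn (LP (LK LD1_c4 LD2_c22 LD3_c51))))))))))))))))))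
theorem f174448 : Led Lsl_bt (LP (LK LD1_c0 LD2_c29 LD3_c6)) = (LP (LK LD1_c0 LD2_c12 LD3_c51)) :=
  Lre_b IH (LK LD1_c0 LD2_c29 LD3_c6) (LK LD1_c0 LD2_c12 LD3_c51) Lrfl Lrfl
theorem f181752 : Led Lsl_ct (LP (LK LD1_c0 LD2_c29 LD3_c6)) = (LP (LK LD1_c1 LD2_c1 LD3_c44)) :=
  Lre_c IH (LK LD1_c0 LD2_c29 LD3_c6) (LK LD1_c1 LD2_c1 LD3_c44) Lrfl Lrfl
theorem f80230 : Led Lsl_gt (LP (LK LD1_c2 LD2_c9 LD3_c7)) = (LP (LK LD1_c1 LD2_c1 LD3_c44)) :=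
  Lre_g IH (LK LD1_c2 LD2_c9 LD3_c7) (LK LD1_c1 LD2_c1 LD3_c44) Lrfl Lrfl
theorem f181754 : Led Lsl_gt (LP (LK LD1_c8 LD2_c44 LD3_c19)) = (LP (LK LD1_c4 LD2_c23 LD3_c24)) :=
  Lre_g IH (LK LD1_c8 LD2_c44 LD3_c19) (LK LD1_c4 LD2_c23 LD3_c24) Lrfl Lrfl
theorem f424124 : Led Lsl_bt (LP (LK LD1_c5 LD2_c40 LD3_c17)) = (LP (LK LD1_c8 LD2_c44 LD3_c19)) :=
  Lgr Lrot130 (Lpr_ct (f424101 IH) (Lpe (f181744 IH) (Lpr_cf (K16.f181731 IH) (Lpr_bt (K16.f181409 IH) (Lpe (K9.f20646 IH) (Lpe (f174448 IH) (Lpr_ct (f181752 IH) (Lpe (f80230 IH) (Lpe (K30.f181753 IH) (Lpe (f181754 IH) (Lpn (LP (LK LD1_c8 LD2_c44 LD3_c19)))))))))))))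
theorem f423726 : Led Lsl_at (LP (LK LD1_c5 LD2_c40 LD3_c17)) = (LP (LK LD1_c2 LD2_c46 LD3_c5)) :=
  Lre_a IH (LK LD1_c5 LD2_c40 LD3_c17) (LK LD1_c2 LD2_c46 LD3_c5) Lrfl Lrfl
theorem f423755 : Led Lsl_ft (LP (LK LD1_c5 LD2_c42 LD3_c39)) = (LP (LK LD1_c5 LD2_c40 LD3_c17)) :=
  Lgr Lrot142 (Lpr_dt (f172489 IH) (Lpr_ct (f423741 IH) (Lpe (f422918 IH) (Lpe (f423751 IH) (Lpr_dt (f280499 IH) (Lpr_ct (f280500 IH) (Lpr_dt (f280506 IH) (Lpr_ct (f280501 IH) (Lpe (f423726 IH) (Lpn (LP (LK LD1_c5 LD2_c40 LD3_c17))))))))))))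
theorem f172431 : Led Lsl_ct (LP (LK LD1_c1 LD2_c10 LD3_c33)) = (LP (LK LD1_c2 LD2_c26 LD3_c30)) :=
  Lre_c IH (LK LD1_c1 LD2_c10 LD3_c33) (LK LD1_c2 LD2_c26 LD3_c30) Lrfl Lrfl
theorem f172432 : Led Lsl_gt (LP (LK LD1_c2 LD2_c26 LD3_c30)) = (LP (LK LD1_c4 LD2_c57 LD3_c7)) :=
  Lre_g IH (LK LD1_c2 LD2_c26 LD3_c30) (LK LD1_c4 LD2_c57 LD3_c7) Lrfl Lrfl
theorem f172434 : Led Lsl_gt (LP (LK LD1_c1 LD2_c19 LD3_c60)) = (LP (LK LD1_c0 LD2_c37 LD3_c0)) :=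
  Lre_g IH (LK LD1_c1 LD2_c19 LD3_c60) (LK LD1_c0 LD2_c37 LD3_c0) Lrfl Lrfl
theorem f172435 : Led Lsl_bt (LP (LK LD1_c2 LD2_c47 LD3_c13)) = (LP (LK LD1_c1 LD2_c19 LD3_c60)) :=
  Lre_b IH (LK LD1_c2 LD2_c47 LD3_c13) (LK LD1_c1 LD2_c19 LD3_c60) Lrfl Lrfl
theorem f172436 : Led Lsl_cf (LP (LK LD1_c4 LD2_c57 LD3_c7)) = (LP (LK LD1_c2 LD2_c47 LD3_c13)) :=
  Lgr Lrot163 (Lpe (f172432 IH) (Lpe (f172431 IH) (Lpe (K27.f76106 IH) (Lpe (K9.f40141 IH) (Lpr_ct (K1.f40854 IH) (Lpe (K9.f168550 IH) (Lpr_cf (K9.f172410 IH) (Lpr_bt (K16.f172433 IH) (Lpe (f172434 IH) (Lpe (f172435 IH) (Lpn (LP (LK LD1_c2 LD2_c47 LD3_c13)))))))))))))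
theorem f172460 : Led Lsl_bt (LP (LK LD1_c1 LD2_c10 LD3_c33)) = (LP (LK LD1_c2 LD2_c26 LD3_c29)) :=
  Lre_b IH (LK LD1_c1 LD2_c10 LD3_c33) (LK LD1_c2 LD2_c26 LD3_c29) Lrfl Lrfl
theorem f172461 : Led Lsl_gt (LP (LK LD1_c4 LD2_c57 LD3_c4)) = (LP (LK LD1_c2 LD2_c26 LD3_c29)) :=
  Lre_g IH (LK LD1_c4 LD2_c57 LD3_c4) (LK LD1_c2 LD2_c26 LD3_c29) Lrfl Lrfl
theorem f172465 : Led Lsl_bf (LP (LK LD1_c4 LD2_c57 LD3_c4)) = (LP (LK LD1_c5 LD2_c42 LD3_c39)) :=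
  Lgr Lrot156 (Lpr_gt (f172461 IH) (Lpe (f172460 IH) (Lpr_ct (f172431 IH) (Lpr_gt (f172432 IH) (Lpr_cf (f172436 IH) (Lpr_bt (f172435 IH) (Lpr_gt (f172434 IH) (Lpr_ct (K16.f172462 IH) (Lpr_gt (f172463 IH) (Lpe (f172464 IH) (Lpn (LP (LK LD1_c5 LD2_c42 LD3_c39)))))))))))))
theorem f172467 : Led Lsl_bt (LP (LK LD1_c4 LD2_c57 LD3_c4)) = (LP (LK LD1_c5 LD2_c42 LD3_c39)) :=
  Lgr Lrot127 (Lpr_bf (f172465 IH) (Lpn (LP (LK LD1_c5 LD2_c42 LD3_c39))))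
theorem f424133 : Led Lsl_ff (LP (LK LD1_c4 LD2_c57 LD3_c4)) = (LP (LK LD1_c8 LD2_c44 LD3_c19)) :=
  Lgr Lrot25 (Lpr_bt (f172467 IH) (Lpr_ft (f423755 IH) (Lpr_bt (f424124 IH) (Lpn (LP (LK LD1_c8 LD2_c44 LD3_c19))))))
theorem f424139 : Led Lsl_ft (LP (LK LD1_c4 LD2_c57 LD3_c4)) = (LP (LK LD1_c8 LD2_c44 LD3_c19)) :=
  Lgr Lrot48 (Lpr_ff (f424133 IH) (Lpn (LP (LK LD1_c8 LD2_c44 LD3_c19))))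
theorem f402632 : Led Lsl_gt (LP (LK LD1_c11 LD2_c7 LD3_c33)) = (LP (LK LD1_c5 LD2_c38 LD3_c9)) :=
  Lre_g IH (LK LD1_c11 LD2_c7 LD3_c33) (LK LD1_c5 LD2_c38 LD3_c9) Lrfl Lrfl
theorem f181483 : Led Lsl_dt (LP (LK LD1_c5 LD2_c41 LD3_c18)) = (LP (LK LD1_c2 LD2_c46 LD3_c42)) :=
  Lre_d IH (LK LD1_c5 LD2_c41 LD3_c18) (LK LD1_c2 LD2_c46 LD3_c42) Lrfl Lrfl
theorem f181538 : Led Lsl_gt (LP (LK LD1_c11 LD2_c12 LD3_c51)) = (LP (LK LD1_c5 LD2_c41 LD3_c18)) :=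
  Lre_g IH (LK LD1_c11 LD2_c12 LD3_c51) (LK LD1_c5 LD2_c41 LD3_c18) Lrfl Lrfl
theorem f423180 : Led Lsl_ct (LP (LK LD1_c11 LD2_c12 LD3_c51)) = (LP (LK LD1_c11 LD2_c7 LD3_c33)) :=
  Lgr Lrot8 (Lpr_gt (f181538 IH) (Lpr_dt (f181483 IH) (Lpe (K30.f381829 IH) (Lpr_dt (f381832 IH) (Lpe (f381835 IH) (Lpe (f381834 IH) (Lpr_gf (f423176 IH) (Lpe (f423054 IH) (Lpe (f402632 IH) (Lpn (LP (LK LD1_c11 LD2_c7 LD3_c33))))))))))))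
theorem f381961 : Led Lsl_dt (LP (LK LD1_c2 LD2_c47 LD3_c50)) = (LP (LK LD1_c5 LD2_c43 LD3_c38)) :=
  Lre_d IH (LK LD1_c2 LD2_c47 LD3_c50) (LK LD1_c5 LD2_c43 LD3_c38) Lrfl Lrfl
theorem f423279 : Led Lsl_gf (LP (LK LD1_c11 LD2_c12 LD3_c51)) = (LP (LK LD1_c5 LD2_c43 LD3_c38)) :=
  Lgr Lrot179 (Lpr_ct (f423180 IH) (Lpr_gt (f402632 IH) (Lpr_ct (K30.f402631 IH) (Lpr_dt (f423256 IH) (Lpe (K30.f380257 IH) (Lpe (K30.f382011 IH) (Lpe (f381975 IH) (Lpe (f382043 IH) (Lpr_dt (f381961 IH) (Lpn (LP (LK LD1_c5 LD2_c43 LD3_c38))))))))))))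
theorem f174114 : Led Lsl_bt (LP (LK LD1_c0 LD2_c36 LD3_c60)) = (LP (LK LD1_c1 LD2_c19 LD3_c52)) :=
  Lre_b IH (LK LD1_c0 LD2_c36 LD3_c60) (LK LD1_c1 LD2_c19 LD3_c52) Lrfl Lrfl
theorem f268924 : Led Lsl_ft (LP (LK LD1_c1 LD2_c19 LD3_c52)) = (LP (LK LD1_c2 LD2_c13 LD3_c19)) :=
  Lgr Lrot75 (Lpe (f174114 IH) (Lpr_ff (K16.f268922 IH) (Lpe (K16.f177735 IH) (Lpn (LP (LK LD1_c2 LD2_c13 LD3_c19))))))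
theorem f174115 : Led Lsl_gt (LP (LK LD1_c1 LD2_c19 LD3_c52)) = (LP (LK LD1_c2 LD2_c46 LD3_c55)) :=
  Lre_g IH (LK LD1_c1 LD2_c19 LD3_c52) (LK LD1_c2 LD2_c46 LD3_c55) Lrfl Lrfl
theorem f280567 : Led Lsl_at (LP (LK LD1_c2 LD2_c13 LD3_c19)) = (LP (LK LD1_c4 LD2_c32 LD3_c29)) :=
  Lre_a IH (LK LD1_c2 LD2_c13 LD3_c19) (LK LD1_c4 LD2_c32 LD3_c29) Lrfl Lrfl
theorem f411916 : Led Lsl_gt (LP (LK LD1_c2 LD2_c46 LD3_c55)) = (LP (LK LD1_c4 LD2_c32 LD3_c29)) :=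
  Lgr Lrot46 (Lpe (f174115 IH) (Lpr_ft (f268924 IH) (Lpr_at (f280567 IH) (Lpn (LP (LK LD1_c4 LD2_c32 LD3_c29))))))
theorem f174141 : Led Lsl_ct (LP (LK LD1_c2 LD2_c46 LD3_c55)) = (LP (LK LD1_c5 LD2_c41 LD3_c47)) :=
  Lre_c IH (LK LD1_c2 LD2_c46 LD3_c55) (LK LD1_c5 LD2_c41 LD3_c47) Lrfl Lrfl
theorem f40183 : Led Lsl_bt (LP (LK LD1_c2 LD2_c26 LD3_c33)) = (LP (LK LD1_c1 LD2_c10 LD3_c34)) :=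
  Lre_b IH (LK LD1_c2 LD2_c26 LD3_c33) (LK LD1_c1 LD2_c10 LD3_c34) Lrfl Lrfl
theorem f40184 : Led Lsl_ct (LP (LK LD1_c2 LD2_c26 LD3_c33)) = (LP (LK LD1_c4 LD2_c57 LD3_c17)) :=
  Lre_c IH (LK LD1_c2 LD2_c26 LD3_c33) (LK LD1_c4 LD2_c57 LD3_c17) Lrfl Lrfl
theorem f181479 : Led Lsl_bt (LP (LK LD1_c1 LD2_c19 LD3_c48)) = (LP (LK LD1_c2 LD2_c46 LD3_c42)) :=
  Lre_b IH (LK LD1_c1 LD2_c19 LD3_c48) (LK LD1_c2 LD2_c46 LD3_c42) Lrfl Lrfl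
theorem f181481 : Led Lsl_gf (LP (LK LD1_c4 LD2_c57 LD3_c17)) = (LP (LK LD1_c2 LD2_c46 LD3_c43)) :=
  Lgr Lrot126 (Lpe (f40184 IH) (Lpr_bt (f40183 IH) (Lpr_gt (K27.f75515 IH) (Lpr_ct (K27.f168868 IH) (Lpr_gt (K27.f76147 IH) (Lpe (K27.f174920 IH) (Lpr_bt (K27.f174921 IH) (Lpr_gt (K30.f181471 IH) (Lpe (f181479 IH) (Lpr_ct (K10.f181480 IH) (Lpn (LP (LK LD1_c2 LD2_c46 LD3_c43)))))))))))))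
theorem f181498 : Led Lsl_ct (LP (LK LD1_c4 LD2_c57 LD3_c17)) = (LP (LK LD1_c2 LD2_c26 LD3_c33)) :=
  Lre_c IH (LK LD1_c4 LD2_c57 LD3_c17) (LK LD1_c2 LD2_c26 LD3_c33) Lrfl Lrfl
theorem f181501 : Led Lsl_dt (LP (LK LD1_c2 LD2_c26 LD3_c33)) = (LP (LK LD1_c4 LD2_c57 LD3_c18)) :=
  Lre_d IH (LK LD1_c2 LD2_c26 LD3_c33) (LK LD1_c4 LD2_c57 LD3_c18) Lrfl Lrfl
theorem f181502 : Led Lsl_ct (LP (LK LD1_c9 LD2_c45 LD3_c36)) = (LP (LK LD1_c4 LD2_c57 LD3_c18)) :=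
  Lre_c IH (LK LD1_c9 LD2_c45 LD3_c36) (LK LD1_c4 LD2_c57 LD3_c18) Lrfl Lrfl
theorem f181504 : Led Lsl_gf (LP (LK LD1_c9 LD2_c45 LD3_c36)) = (LP (LK LD1_c5 LD2_c41 LD3_c47)) :=
  Lgr Lrot104 (Lpr_ct (f181502 IH) (Lpe (f181501 IH) (Lpe (f181498 IH) (Lpr_gf (f181481 IH) (Lpe (K10.f181480 IH) (Lpe (K10.f174963 IH) (Lpe (K30.f181503 IH) (Lpr_gt (f174115 IH) (Lpr_ct (f174141 IH) (Lpn (LP (LK LD1_c5 LD2_c41 LD3_c47))))))))))))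
theorem f181515 : Led Lsl_dt (LP (LK LD1_c9 LD2_c45 LD3_c36)) = (LP (LK LD1_c17 LD2_c55 LD3_c10)) :=
  Lre_d IH (LK LD1_c9 LD2_c45 LD3_c36) (LK LD1_c17 LD2_c55 LD3_c10) Lrfl Lrfl
theorem f280534 : Led Lsl_at (LP (LK LD1_c1 LD2_c19 LD3_c50)) = (LP (LK LD1_c0 LD2_c36 LD3_c59)) :=
  Lre_a IH (LK LD1_c1 LD2_c19 LD3_c50) (LK LD1_c0 LD2_c36 LD3_c59) Lrfl Lrfl
theorem f174339 : Led Lsl_gt (LP (LK LD1_c1 LD2_c19 LD3_c49)) = (LP (LK LD1_c0 LD2_c36 LD3_c59)) :=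
  Lre_g IH (LK LD1_c1 LD2_c19 LD3_c49) (LK LD1_c0 LD2_c36 LD3_c59) Lrfl Lrfl
theorem f280545 : Led Lsl_gf (LP (LK LD1_c1 LD2_c19 LD3_c49)) = (LP (LK LD1_c2 LD2_c13 LD3_c17)) :=
  Lgr Lrot47 (Lpr_gt (f174339 IH) (Lpe (f280534 IH) (Lpr_ff (K20.f280539 IH) (Lpn (LP (LK LD1_c2 LD2_c13 LD3_c17))))))
theorem f172614 : Led Lsl_dt (LP (LK LD1_c1 LD2_c19 LD3_c49)) = (LP (LK LD1_c2 LD2_c46 LD3_c48)) :=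
  Lre_d IH (LK LD1_c1 LD2_c19 LD3_c49) (LK LD1_c2 LD2_c46 LD3_c48) Lrfl Lrfl
theorem f172616 : Led Lsl_ct (LP (LK LD1_c5 LD2_c41 LD3_c29)) = (LP (LK LD1_c2 LD2_c46 LD3_c48)) :=
  Lre_c IH (LK LD1_c5 LD2_c41 LD3_c29) (LK LD1_c2 LD2_c46 LD3_c48) Lrfl Lrfl
theorem f280547 : Led Lsl_dt (LP (LK LD1_c11 LD2_c13 LD3_c10)) = (LP (LK LD1_c5 LD2_c41 LD3_c29)) :=
  Lre_d IH (LK LD1_c11 LD2_c13 LD3_c10) (LK LD1_c5 LD2_c41 LD3_c29) Lrfl Lrfl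
theorem f411918 : Led Lsl_gt (LP (LK LD1_c17 LD2_c55 LD3_c10)) = (LP (LK LD1_c11 LD2_c13 LD3_c10)) :=
  Lgr Lrot49 (Lpe (f181515 IH) (Lpr_gf (f181504 IH) (Lpe (f174141 IH) (Lpr_gt (f411916 IH) (Lpr_dt (K16.f268840 IH) (Lpe (f280545 IH) (Lpr_dt (f172614 IH) (Lpe (f172616 IH) (Lpe (f280547 IH) (Lpn (LP (LK LD1_c11 LD2_c13 LD3_c10))))))))))))
theorem f181528 : Led Lsl_dt (LP (LK LD1_c17 LD2_c55 LD3_c10)) = (LP (LK LD1_c9 LD2_c45 LD3_c36)) :=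
  Lre_d IH (LK LD1_c17 LD2_c55 LD3_c10) (LK LD1_c9 LD2_c45 LD3_c36) Lrfl Lrfl
theorem f392166 : Led Lsl_ct (LP (LK LD1_c19 LD2_c33 LD3_c41)) = (LP (LK LD1_c11 LD2_c0 LD3_c27)) :=
  Lgr Lrot59 (Lpr_cf (f392162 IH) (Lpn (LP (LK LD1_c11 LD2_c0 LD3_c27))))
theorem f281125 : Led Lsl_ct (LP (LK LD1_c8 LD2_c57 LD3_c24)) = (LP (LK LD1_c16 LD2_c46 LD3_c4)) :=
  Lre_c IH (LK LD1_c8 LD2_c57 LD3_c24) (LK LD1_c16 LD2_c46 LD3_c4) Lrfl Lrfl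
theorem f280962 : Led Lsl_at (LP (LK LD1_c4 LD2_c29 LD3_c36)) = (LP (LK LD1_c8 LD2_c57 LD3_c24)) :=
  Lre_a IH (LK LD1_c4 LD2_c29 LD3_c36) (LK LD1_c8 LD2_c57 LD3_c24) Lrfl Lrfl
theorem f280963 : Led Lsl_bf (LP (LK LD1_c5 LD2_c31 LD3_c38)) = (LP (LK LD1_c8 LD2_c57 LD3_c24)) :=
  Lgr Lrot81 (Lpr_at (f280746 IH) (Lpr_bt (f178894 IH) (Lpr_at (K20.f280958 IH) (Lpr_bt (f226739 IH) (Lpr_at (f280962 IH) (Lpn (LP (LK LD1_c8 LD2_c57 LD3_c24))))))))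
theorem f382509 : Led Lsl_bt (LP (LK LD1_c10 LD2_c49 LD3_c29)) = (LP (LK LD1_c5 LD2_c29 LD3_c8)) :=
  Lre_b IH (LK LD1_c10 LD2_c49 LD3_c29) (LK LD1_c5 LD2_c29 LD3_c8) Lrfl Lrfl
theorem f382530 : Led Lsl_gt (LP (LK LD1_c5 LD2_c31 LD3_c38)) = (LP (LK LD1_c5 LD2_c29 LD3_c8)) :=
  Lgr Lrot164 (Lpr_bf (f280963 IH) (Lpr_ct (f281125 IH) (Lpe (K20.f281294 IH) (Lpr_cf (K20.f281641 IH) (Lpe (K20.f281640 IH) (Lpe (f281664 IH) (Lpr_ct (f281665 IH) (Lpe (f281666 IH) (Lpr_cf (f382514 IH) (Lpr_bt (f382509 IH) (Lpn (LP (LK LD1_c5 LD2_c29 LD3_c8)))))))))))))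
theorem f382510 : Led Lsl_ct (LP (LK LD1_c5 LD2_c29 LD3_c8)) = (LP (LK LD1_c10 LD2_c49 LD3_c34)) :=
  Lre_c IH (LK LD1_c5 LD2_c29 LD3_c8) (LK LD1_c10 LD2_c49 LD3_c34) Lrfl Lrfl
theorem f392315 : Led Lsl_gf (LP (LK LD1_c19 LD2_c33 LD3_c41)) = (LP (LK LD1_c10 LD2_c49 LD3_c34)) :=
  Lgr Lrot104 (Lpr_ct (f392166 IH) (Lpe (f387561 IH) (Lpe (f387572 IH) (Lpr_gf (f390649 IH) (Lpe (f281623 IH) (Lpe (K20.f281621 IH) (Lpe (K20.f221408 IH) (Lpr_gt (f382530 IH) (Lpr_ct (f382510 IH) (Lpn (LP (LK LD1_c10 LD2_c49 LD3_c34))))))))))))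
theorem f392321 : Led Lsl_gt (LP (LK LD1_c19 LD2_c49 LD3_c18)) = (LP (LK LD1_c10 LD2_c59 LD3_c45)) :=
  Lgr Lrot164 (Lpe (f390731 IH) (Lpe (f392162 IH) (Lpr_gf (f392315 IH) (Lpe (f382510 IH) (Lpe (f382530 IH) (Lpr_bf (f280963 IH) (Lpr_ct (f281125 IH) (Lpe (K20.f281294 IH) (Lpr_cf (K20.f281641 IH) (Lpe (K20.f281667 IH) (Lpn (LP (LK LD1_c10 LD2_c59 LD3_c45)))))))))))))
theorem f172455 : Led Lsl_ct (LP (LK LD1_c4 LD2_c57 LD3_c22)) = (LP (LK LD1_c2 LD2_c26 LD3_c35)) :=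
  Lre_c IH (LK LD1_c4 LD2_c57 LD3_c22) (LK LD1_c2 LD2_c26 LD3_c35) Lrfl Lrfl
theorem f40179 : Led Lsl_bt (LP (LK LD1_c4 LD2_c57 LD3_c22)) = (LP (LK LD1_c9 LD2_c45 LD3_c40)) :=
  Lre_b IH (LK LD1_c4 LD2_c57 LD3_c22) (LK LD1_c9 LD2_c45 LD3_c40) Lrfl Lrfl
theorem f381399 : Led Lsl_gt (LP (LK LD1_c17 LD2_c55 LD3_c19)) = (LP (LK LD1_c9 LD2_c45 LD3_c40)) :=
  Lre_g IH (LK LD1_c17 LD2_c55 LD3_c19) (LK LD1_c9 LD2_c45 LD3_c40) Lrfl Lrfl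
theorem f392324 : Led Lsl_bf (LP (LK LD1_c17 LD2_c55 LD3_c19)) = (LP (LK LD1_c19 LD2_c50 LD3_c33)) :=
  Lgr Lrot156 (Lpr_gt (f381399 IH) (Lpe (f40179 IH) (Lpr_ct (f172455 IH) (Lpr_gt (K27.f381384 IH) (Lpe (K20.f164991 IH) (Lpe (K20.f226393 IH) (Lpr_gt (f281671 IH) (Lpe (f390367 IH) (Lpr_gt (f392321 IH) (Lpe (f281677 IH) (Lpn (LP (LK LD1_c19 LD2_c50 LD3_c33)))))))))))))
theorem f281660 : Led Lsl_ct (LP (LK LD1_c10 LD2_c57 LD3_c11)) = (LP (LK LD1_c16 LD2_c48 LD3_c24)) :=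
  Lgr Lrot59 (Lpr_cf (K20.f281641 IH) (Lpn (LP (LK LD1_c16 LD2_c48 LD3_c24))))
theorem f174345 : Led Lsl_bt (LP (LK LD1_c19 LD2_c46 LD3_c61)) = (LP (LK LD1_c10 LD2_c57 LD3_c11)) :=
  Lre_b IH (LK LD1_c19 LD2_c46 LD3_c61) (LK LD1_c10 LD2_c57 LD3_c11) Lrfl Lrfl
theorem f392329 : Led Lsl_ct (LP (LK LD1_c17 LD2_c55 LD3_c19)) = (LP (LK LD1_c19 LD2_c46 LD3_c61)) :=
  Lgr Lrot83 (Lpr_bf (f392324 IH) (Lpe (f281675 IH) (Lpr_bf (K20.f281667 IH) (Lpe (f281660 IH) (Lpe (f174345 IH) (Lpn (LP (LK LD1_c19 LD2_c46 LD3_c61))))))))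
theorem f392341 : Led Lsl_cf (LP (LK LD1_c17 LD2_c55 LD3_c19)) = (LP (LK LD1_c19 LD2_c46 LD3_c61)) :=
  Lgr Lrot11 (Lpr_ct (f392329 IH) (Lpn (LP (LK LD1_c19 LD2_c46 LD3_c61))))
theorem f181526 : Led Lsl_ct (LP (LK LD1_c17 LD2_c55 LD3_c9)) = (LP (LK LD1_c9 LD2_c45 LD3_c40)) :=
  Lre_c IH (LK LD1_c17 LD2_c55 LD3_c9) (LK LD1_c9 LD2_c45 LD3_c40) Lrfl Lrfl
theorem f181525 : Led Lsl_bt (LP (LK LD1_c17 LD2_c55 LD3_c9)) = (LP (LK LD1_c9 LD2_c45 LD3_c36)) :=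
  Lre_b IH (LK LD1_c17 LD2_c55 LD3_c9) (LK LD1_c9 LD2_c45 LD3_c36) Lrfl Lrfl
theorem f174138 : Led Lsl_gt (LP (LK LD1_c2 LD2_c46 LD3_c56)) = (LP (LK LD1_c1 LD2_c19 LD3_c52)) :=
  Lre_g IH (LK LD1_c2 LD2_c46 LD3_c56) (LK LD1_c1 LD2_c19 LD3_c52) Lrfl Lrfl
theorem f174343 : Led Lsl_ct (LP (LK LD1_c5 LD2_c41 LD3_c50)) = (LP (LK LD1_c2 LD2_c46 LD3_c56)) :=
  Lre_c IH (LK LD1_c5 LD2_c41 LD3_c50) (LK LD1_c2 LD2_c46 LD3_c56) Lrfl Lrfl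
theorem f392343 : Led Lsl_gt (LP (LK LD1_c9 LD2_c45 LD3_c36)) = (LP (LK LD1_c5 LD2_c41 LD3_c50)) :=
  Lgr Lrot82 (Lpe (f181525 IH) (Lpr_ct (f181526 IH) (Lpe (f381399 IH) (Lpr_cf (f392341 IH) (Lpr_bt (f174345 IH) (Lpe (K20.f174336 IH) (Lpr_bf (K20.f174316 IH) (Lpr_ct (K30.f174120 IH) (Lpe (f174138 IH) (Lpe (f174343 IH) (Lpn (LP (LK LD1_c5 LD2_c41 LD3_c50)))))))))))))
theorem f174359 : Led Lsl_ct (LP (LK LD1_c11 LD2_c14 LD3_c3)) = (LP (LK LD1_c5 LD2_c41 LD3_c54)) :=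
  Lre_c IH (LK LD1_c11 LD2_c14 LD3_c3) (LK LD1_c5 LD2_c41 LD3_c54) Lrfl Lrfl
theorem f172621 : Led Lsl_gt (LP (LK LD1_c5 LD2_c45 LD3_c10)) = (LP (LK LD1_c2 LD2_c48 LD3_c22)) :=
  Lre_g IH (LK LD1_c5 LD2_c45 LD3_c10) (LK LD1_c2 LD2_c48 LD3_c22) Lrfl Lrfl
theorem f385558 : Led Lsl_gf (LP (LK LD1_c5 LD2_c45 LD3_c10)) = (LP (LK LD1_c9 LD2_c4 LD3_c39)) :=
  Lgr Lrot47 (Lpr_gt (f172621 IH) (Lpe (K30.f172689 IH) (Lpr_ff (K30.f385549 IH) (Lpn (LP (LK LD1_c9 LD2_c4 LD3_c39))))))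
theorem f172613 : Led Lsl_gt (LP (LK LD1_c2 LD2_c46 LD3_c48)) = (LP (LK LD1_c1 LD2_c20 LD3_c23)) :=
  Lre_g IH (LK LD1_c2 LD2_c46 LD3_c48) (LK LD1_c1 LD2_c20 LD3_c23) Lrfl Lrfl
theorem f385546 : Led Lsl_gf (LP (LK LD1_c2 LD2_c46 LD3_c48)) = (LP (LK LD1_c4 LD2_c33 LD3_c32)) :=
  Lgr Lrot47 (Lpr_gt (f172613 IH) (Lpe (K30.f172603 IH) (Lpr_ff (K30.f385517 IH) (Lpn (LP (LK LD1_c4 LD2_c33 LD3_c32))))))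
theorem f237377 : Led Lsl_dt (LP (LK LD1_c2 LD2_c46 LD3_c48)) = (LP (LK LD1_c1 LD2_c19 LD3_c49)) :=
  Lre_d IH (LK LD1_c2 LD2_c46 LD3_c48) (LK LD1_c1 LD2_c19 LD3_c49) Lrfl Lrfl
theorem f174356 : Led Lsl_gt (LP (LK LD1_c11 LD2_c14 LD3_c2)) = (LP (LK LD1_c5 LD2_c41 LD3_c54)) :=
  Lre_g IH (LK LD1_c11 LD2_c14 LD3_c2) (LK LD1_c5 LD2_c41 LD3_c54) Lrfl Lrfl
theorem f385806 : Led Lsl_dt (LP (LK LD1_c5 LD2_c45 LD3_c10)) = (LP (LK LD1_c11 LD2_c14 LD3_c2)) :=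
  Lgr Lrot57 (Lpr_gf (f385558 IH) (Lpe (K30.f175989 IH) (Lpe (f385546 IH) (Lpr_dt (f237377 IH) (Lpr_gt (f174339 IH) (Lpr_dt (K16.f174338 IH) (Lpe (K30.f174120 IH) (Lpe (K30.f174333 IH) (Lpe (f174356 IH) (Lpn (LP (LK LD1_c11 LD2_c14 LD3_c2))))))))))))
theorem f385810 : Led Lsl_df (LP (LK LD1_c5 LD2_c45 LD3_c10)) = (LP (LK LD1_c11 LD2_c14 LD3_c2)) :=
  Lgr Lrot38 (Lpr_dt (f385806 IH) (Lpn (LP (LK LD1_c11 LD2_c14 LD3_c2))))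
theorem f210458 : Led Lsl_ff (LP (LK LD1_c16 LD2_c22 LD3_c26)) = (LP (LK LD1_c20 LD2_c18 LD3_c13)) :=
  Lgr Lrot3 (Lpr_ft (K30.f210454 IH) (Lpn (LP (LK LD1_c20 LD2_c18 LD3_c13))))
theorem f385597 : Led Lsl_ft (LP (LK LD1_c8 LD2_c44 LD3_c53)) = (LP (LK LD1_c14 LD2_c59 LD3_c3)) :=
  Lgr Lrot54 (Lpe (K30.f183247 IH) (Lpr_ff (f210458 IH) (Lpr_df (K30.f385594 IH) (Lpn (LP (LK LD1_c14 LD2_c59 LD3_c3))))))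
theorem f281783 : Led Lsl_ff (LP (LK LD1_c2 LD2_c46 LD3_c49)) = (LP (LK LD1_c4 LD2_c32 LD3_c28)) :=
  Lgr Lrot3 (Lpr_ft (K30.f280541 IH) (Lpn (LP (LK LD1_c4 LD2_c32 LD3_c28))))
theorem f181564 : Led Lsl_at (LP (LK LD1_c2 LD2_c46 LD3_c49)) = (LP (LK LD1_c1 LD2_c19 LD3_c51)) :=
  Lre_a IH (LK LD1_c2 LD2_c46 LD3_c49) (LK LD1_c1 LD2_c19 LD3_c51) Lrfl Lrfl
theorem f181559 : Led Lsl_gt (LP (LK LD1_c2 LD2_c46 LD3_c52)) = (LP (LK LD1_c1 LD2_c19 LD3_c51)) :=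
  Lre_g IH (LK LD1_c2 LD2_c46 LD3_c52) (LK LD1_c1 LD2_c19 LD3_c51) Lrfl Lrfl
theorem f281794 : Led Lsl_gf (LP (LK LD1_c2 LD2_c46 LD3_c52)) = (LP (LK LD1_c4 LD2_c32 LD3_c28)) :=
  Lgr Lrot47 (Lpr_gt (f181559 IH) (Lpe (f181564 IH) (Lpr_ff (f281783 IH) (Lpn (LP (LK LD1_c4 LD2_c32 LD3_c28))))))
theorem f281796 : Led Lsl_dt (LP (LK LD1_c2 LD2_c46 LD3_c52)) = (LP (LK LD1_c5 LD2_c41 LD3_c39)) :=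
  Lre_d IH (LK LD1_c2 LD2_c46 LD3_c52) (LK LD1_c5 LD2_c41 LD3_c39) Lrfl Lrfl
theorem f268858 : Led Lsl_ct (LP (LK LD1_c2 LD2_c13 LD3_c17)) = (LP (LK LD1_c4 LD2_c32 LD3_c28)) :=
  Lre_c IH (LK LD1_c2 LD2_c13 LD3_c17) (LK LD1_c4 LD2_c32 LD3_c28) Lrfl Lrfl
theorem f281797 : Led Lsl_gt (LP (LK LD1_c5 LD2_c41 LD3_c39)) = (LP (LK LD1_c4 LD2_c23 LD3_c34)) :=
  Lgr Lrot49 (Lpe (f281796 IH) (Lpr_gf (f281794 IH) (Lpe (f268858 IH) (Lpe (f280545 IH) (Lpr_dt (f172614 IH) (Lpr_gt (f172613 IH) (Lpe (K30.f172598 IH) (Lpe (K30.f172617 IH) (Lpe (K30.f210329 IH) (Lpn (LP (LK LD1_c4 LD2_c23 LD3_c34))))))))))))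
theorem f281802 : Led Lsl_dt (LP (LK LD1_c5 LD2_c41 LD3_c39)) = (LP (LK LD1_c2 LD2_c46 LD3_c52)) :=
  Lre_d IH (LK LD1_c5 LD2_c41 LD3_c39) (LK LD1_c2 LD2_c46 LD3_c52) Lrfl Lrfl
theorem f181507 : Led Lsl_dt (LP (LK LD1_c2 LD2_c46 LD3_c43)) = (LP (LK LD1_c5 LD2_c41 LD3_c21)) :=
  Lre_d IH (LK LD1_c2 LD2_c46 LD3_c43) (LK LD1_c5 LD2_c41 LD3_c21) Lrfl Lrfl
theorem f181693 : Led Lsl_ct (LP (LK LD1_c11 LD2_c12 LD3_c57)) = (LP (LK LD1_c5 LD2_c41 LD3_c21)) :=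
  Lre_c IH (LK LD1_c11 LD2_c12 LD3_c57) (LK LD1_c5 LD2_c41 LD3_c21) Lrfl Lrfl
theorem f210428 : Led Lsl_ct (LP (LK LD1_c4 LD2_c23 LD3_c34)) = (LP (LK LD1_c8 LD2_c44 LD3_c53)) :=
  Lre_c IH (LK LD1_c4 LD2_c23 LD3_c34) (LK LD1_c8 LD2_c44 LD3_c53) Lrfl Lrfl
theorem f281804 : Led Lsl_gf (LP (LK LD1_c11 LD2_c12 LD3_c57)) = (LP (LK LD1_c8 LD2_c44 LD3_c53)) :=
  Lgr Lrot104 (Lpr_ct (f181693 IH) (Lpe (f181507 IH) (Lpe (K10.f181480 IH) (Lpe (K10.f174963 IH) (Lpe (K10.f181558 IH) (Lpe (f181559 IH) (Lpe (f281802 IH) (Lpr_gt (f281797 IH) (Lpr_ct (f210428 IH) (Lpn (LP (LK LD1_c8 LD2_c44 LD3_c53))))))))))))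
theorem f181695 : Led Lsl_gt (LP (LK LD1_c11 LD2_c12 LD3_c57)) = (LP (LK LD1_c20 LD2_c7 LD3_c25)) :=
  Lre_g IH (LK LD1_c11 LD2_c12 LD3_c57) (LK LD1_c20 LD2_c7 LD3_c25) Lrfl Lrfl
theorem f385605 : Led Lsl_af (LP (LK LD1_c20 LD2_c7 LD3_c25)) = (LP (LK LD1_c14 LD2_c59 LD3_c3)) :=
  Lgr Lrot31 (Lpe (f181695 IH) (Lpr_gf (f281804 IH) (Lpr_ft (f385597 IH) (Lpn (LP (LK LD1_c14 LD2_c59 LD3_c3))))))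
theorem f172635 : Led Lsl_dt (LP (LK LD1_c5 LD2_c45 LD3_c7)) = (LP (LK LD1_c11 LD2_c20 LD3_c43)) :=
  Lre_d IH (LK LD1_c5 LD2_c45 LD3_c7) (LK LD1_c11 LD2_c20 LD3_c43) Lrfl Lrfl
theorem f172636 : Led Lsl_ct (LP (LK LD1_c11 LD2_c20 LD3_c43)) = (LP (LK LD1_c20 LD2_c18 LD3_c13)) :=
  Lre_c IH (LK LD1_c11 LD2_c20 LD3_c43) (LK LD1_c20 LD2_c18 LD3_c13) Lrfl Lrfl
theorem f385244 : Led Lsl_df (LP (LK LD1_c14 LD2_c59 LD3_c3)) = (LP (LK LD1_c20 LD2_c18 LD3_c13)) :=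
  Lgr Lrot43 (Lpr_ct (K30.f170317 IH) (Lpr_dt (K30.f193483 IH) (Lpr_ct (K30.f175984 IH) (Lpr_dt (K30.f173375 IH) (Lpr_ct (K30.f173394 IH) (Lpr_dt (K30.f174584 IH) (Lpr_ct (K30.f193613 IH) (Lpr_dt (K30.f385237 IH) (Lpr_ct (K30.f210432 IH) (Lpr_dt (K30.f210426 IH) (Lpr_ct (K30.f172633 IH) (Lpr_dt (K30.f172604 IH) (Lpr_ct (K30.f172634 IH) (Lpr_dt (f172635 IH) (Lpr_ct (f172636 IH) (Lpn (LP (LK LD1_c20 LD2_c18 LD3_c13))))))))))))))))))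
theorem f172642 : Led Lsl_at (LP (LK LD1_c11 LD2_c20 LD3_c53)) = (LP (LK LD1_c20 LD2_c18 LD3_c13)) :=
  Lre_a IH (LK LD1_c11 LD2_c20 LD3_c53) (LK LD1_c20 LD2_c18 LD3_c13) Lrfl Lrfl
theorem f385610 : Led Lsl_dt (LP (LK LD1_c20 LD2_c7 LD3_c25)) = (LP (LK LD1_c11 LD2_c20 LD3_c53)) :=
  Lgr Lrot44 (Lpr_af (f385605 IH) (Lpr_df (f385244 IH) (Lpe (f172642 IH) (Lpn (LP (LK LD1_c11 LD2_c20 LD3_c53))))))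
theorem f181694 : Led Lsl_dt (LP (LK LD1_c20 LD2_c7 LD3_c26)) = (LP (LK LD1_c11 LD2_c12 LD3_c57)) :=
  Lre_d IH (LK LD1_c20 LD2_c7 LD3_c26) (LK LD1_c11 LD2_c12 LD3_c57) Lrfl Lrfl
theorem f280599 : Led Lsl_gf (LP (LK LD1_c11 LD2_c14 LD3_c2)) = (LP (LK LD1_c16 LD2_c52 LD3_c52)) :=
  Lgr Lrot47 (Lpr_gt (f174356 IH) (Lpe (K30.f174357 IH) (Lpr_ff (K20.f280585 IH) (Lpn (LP (LK LD1_c16 LD2_c52 LD3_c52))))))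
theorem f385814 : Led Lsl_gf (LP (LK LD1_c20 LD2_c7 LD3_c26)) = (LP (LK LD1_c11 LD2_c13 LD3_c36)) :=
  Lgr Lrot144 (Lpr_dt (f181694 IH) (Lpr_gt (f181695 IH) (Lpr_dt (f385610 IH) (Lpe (K30.f172687 IH) (Lpe (K30.f172686 IH) (Lpe (f172621 IH) (Lpr_df (f385810 IH) (Lpr_gf (f280599 IH) (Lpe (K30.f281734 IH) (Lpn (LP (LK LD1_c11 LD2_c13 LD3_c36))))))))))))
theorem f268994 : Led Lsl_at (LP (LK LD1_c16 LD2_c52 LD3_c50)) = (LP (LK LD1_c9 LD2_c2 LD3_c37)) :=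
  Lre_a IH (LK LD1_c16 LD2_c52 LD3_c50) (LK LD1_c9 LD2_c2 LD3_c37) Lrfl Lrfl
theorem f268995 : Led Lsl_dt (LP (LK LD1_c9 LD2_c2 LD3_c37)) = (LP (LK LD1_c16 LD2_c53 LD3_c2)) :=
  Lre_d IH (LK LD1_c9 LD2_c2 LD3_c37) (LK LD1_c16 LD2_c53 LD3_c2) Lrfl Lrfl
theorem f268996 : Led Lsl_af (LP (LK LD1_c11 LD2_c14 LD3_c3)) = (LP (LK LD1_c16 LD2_c53 LD3_c2)) :=
  Lgr Lrot117 (Lpr_dt (K16.f268992 IH) (Lpr_at (f268994 IH) (Lpr_dt (f268995 IH) (Lpn (LP (LK LD1_c16 LD2_c53 LD3_c2))))))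
theorem f385818 : Led Lsl_gt (LP (LK LD1_c20 LD2_c7 LD3_c26)) = (LP (LK LD1_c11 LD2_c14 LD3_c3)) :=
  Lgr Lrot46 (Lpr_gf (f385814 IH) (Lpr_ft (K30.f281747 IH) (Lpe (f268996 IH) (Lpn (LP (LK LD1_c11 LD2_c14 LD3_c3))))))
theorem f411922 : Led Lsl_cf (LP (LK LD1_c20 LD2_c7 LD3_c26)) = (LP (LK LD1_c11 LD2_c13 LD3_c10)) :=
  Lgr Lrot169 (Lpr_gt (f385818 IH) (Lpr_ct (f174359 IH) (Lpe (K16.f174362 IH) (Lpe (K16.f174331 IH) (Lpe (f174138 IH) (Lpe (f174343 IH) (Lpe (f392343 IH) (Lpe (f181528 IH) (Lpr_gt (f411918 IH) (Lpn (LP (LK LD1_c11 LD2_c13 LD3_c10))))))))))))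
theorem f181492 : Led Lsl_dt (LP (LK LD1_c5 LD2_c41 LD3_c21)) = (LP (LK LD1_c2 LD2_c46 LD3_c43)) :=
  Lre_d IH (LK LD1_c5 LD2_c41 LD3_c21) (LK LD1_c2 LD2_c46 LD3_c43) Lrfl Lrfl
theorem f174964 : Led Lsl_dt (LP (LK LD1_c1 LD2_c19 LD3_c48)) = (LP (LK LD1_c2 LD2_c46 LD3_c44)) :=
  Lre_d IH (LK LD1_c1 LD2_c19 LD3_c48) (LK LD1_c2 LD2_c46 LD3_c44) Lrfl Lrfl
theorem f174965 : Led Lsl_ct (LP (LK LD1_c2 LD2_c46 LD3_c44)) = (LP (LK LD1_c5 LD2_c41 LD3_c23)) :=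
  Lre_c IH (LK LD1_c2 LD2_c46 LD3_c44) (LK LD1_c5 LD2_c41 LD3_c23) Lrfl Lrfl
theorem f411933 : Led Lsl_dt (LP (LK LD1_c5 LD2_c41 LD3_c23)) = (LP (LK LD1_c11 LD2_c12 LD3_c60)) :=
  Lre_d IH (LK LD1_c5 LD2_c41 LD3_c23) (LK LD1_c11 LD2_c12 LD3_c60) Lrfl Lrfl
theorem f411934 : Led Lsl_ct (LP (LK LD1_c11 LD2_c12 LD3_c60)) = (LP (LK LD1_c20 LD2_c7 LD3_c30)) :=
  Lre_c IH (LK LD1_c11 LD2_c12 LD3_c60) (LK LD1_c20 LD2_c7 LD3_c30) Lrfl Lrfl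
theorem f385548 : Led Lsl_dt (LP (LK LD1_c5 LD2_c41 LD3_c29)) = (LP (LK LD1_c11 LD2_c13 LD3_c10)) :=
  Lre_d IH (LK LD1_c5 LD2_c41 LD3_c29) (LK LD1_c11 LD2_c13 LD3_c10) Lrfl Lrfl
theorem f172618 : Led Lsl_ct (LP (LK LD1_c2 LD2_c46 LD3_c48)) = (LP (LK LD1_c5 LD2_c41 LD3_c29)) :=
  Lre_c IH (LK LD1_c2 LD2_c46 LD3_c48) (LK LD1_c5 LD2_c41 LD3_c29) Lrfl Lrfl
theorem f181577 : Led Lsl_ct (LP (LK LD1_c2 LD2_c46 LD3_c47)) = (LP (LK LD1_c1 LD2_c19 LD3_c49)) :=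
  Lre_c IH (LK LD1_c2 LD2_c46 LD3_c47) (LK LD1_c1 LD2_c19 LD3_c49) Lrfl Lrfl
theorem f237376 : Led Lsl_dt (LP (LK LD1_c5 LD2_c41 LD3_c28)) = (LP (LK LD1_c2 LD2_c46 LD3_c47)) :=
  Lre_d IH (LK LD1_c5 LD2_c41 LD3_c28) (LK LD1_c2 LD2_c46 LD3_c47) Lrfl Lrfl
theorem f280548 : Led Lsl_ct (LP (LK LD1_c11 LD2_c13 LD3_c7)) = (LP (LK LD1_c5 LD2_c41 LD3_c28)) :=
  Lre_c IH (LK LD1_c11 LD2_c13 LD3_c7) (LK LD1_c5 LD2_c41 LD3_c28) Lrfl Lrfl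
theorem f411935 : Led Lsl_dt (LP (LK LD1_c20 LD2_c7 LD3_c30)) = (LP (LK LD1_c11 LD2_c13 LD3_c7)) :=
  Lgr Lrot173 (Lpe (f411934 IH) (Lpe (f411933 IH) (Lpe (f174965 IH) (Lpe (f174964 IH) (Lpe (K10.f181497 IH) (Lpe (f181492 IH) (Lpe (f181693 IH) (Lpe (f181694 IH) (Lpr_cf (f411922 IH) (Lpe (f385548 IH) (Lpe (f172618 IH) (Lpe (f172614 IH) (Lpe (f181577 IH) (Lpe (f237376 IH) (Lpe (f280548 IH) (Lpn (LP (LK LD1_c11 LD2_c13 LD3_c7))))))))))))))))))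
theorem f411938 : Led Lsl_df (LP (LK LD1_c20 LD2_c7 LD3_c30)) = (LP (LK LD1_c11 LD2_c13 LD3_c7)) :=
  Lgr Lrot38 (Lpr_dt (f411935 IH) (Lpn (LP (LK LD1_c11 LD2_c13 LD3_c7))))
theorem f238728 : Led Lsl_bt (LP (LK LD1_c2 LD2_c8 LD3_c51)) = (LP (LK LD1_c4 LD2_c22 LD3_c49)) :=
  Lre_b IH (LK LD1_c2 LD2_c8 LD3_c51) (LK LD1_c4 LD2_c22 LD3_c49) Lrfl Lrfl
theorem f297315 : Led Lsl_ft (LP (LK LD1_c4 LD2_c22 LD3_c49)) = (LP (LK LD1_c7 LD2_c56 LD3_c15)) :=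
  Lgr Lrot75 (Lpe (f238728 IH) (Lpr_ff (K18.f297311 IH) (Lpe (K18.f211119 IH) (Lpn (LP (LK LD1_c7 LD2_c56 LD3_c15))))))
theorem f225111 : Led Lsl_gt (LP (LK LD1_c4 LD2_c22 LD3_c49)) = (LP (LK LD1_c8 LD2_c43 LD3_c27)) :=
  Lre_g IH (LK LD1_c4 LD2_c22 LD3_c49) (LK LD1_c8 LD2_c43 LD3_c27) Lrfl Lrfl
theorem f331807 : Led Lsl_at (LP (LK LD1_c7 LD2_c56 LD3_c15)) = (LP (LK LD1_c14 LD2_c58 LD3_c21)) :=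
  Lre_a IH (LK LD1_c7 LD2_c56 LD3_c15) (LK LD1_c14 LD2_c58 LD3_c21) Lrfl Lrfl
theorem f406921 : Led Lsl_gt (LP (LK LD1_c8 LD2_c43 LD3_c27)) = (LP (LK LD1_c14 LD2_c58 LD3_c21)) :=
  Lgr Lrot46 (Lpe (f225111 IH) (Lpr_ft (f297315 IH) (Lpr_at (f331807 IH) (Lpn (LP (LK LD1_c14 LD2_c58 LD3_c21))))))
theorem f331802 : Led Lsl_dt (LP (LK LD1_c14 LD2_c58 LD3_c21)) = (LP (LK LD1_c7 LD2_c56 LD3_c14)) :=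
  Lre_d IH (LK LD1_c14 LD2_c58 LD3_c21) (LK LD1_c7 LD2_c56 LD3_c14) Lrfl Lrfl
theorem f297427 : Led Lsl_cf (LP (LK LD1_c7 LD2_c56 LD3_c14)) = (LP (LK LD1_c8 LD2_c1 LD3_c1)) :=
  Lgr Lrot1 (Lpr_at (K22.f246625 IH) (Lpr_ct (K18.f297425 IH) (Lpr_at (K18.f210755 IH) (Lpn (LP (LK LD1_c8 LD2_c1 LD3_c1))))))
theorem f210766 : Led Lsl_df (LP (LK LD1_c8 LD2_c1 LD3_c1)) = (LP (LK LD1_c14 LD2_c58 LD3_c59)) :=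
  Lgr Lrot18 (Lpr_at (K18.f210764 IH) (Lpr_dt (K18.f210759 IH) (Lpr_at (K18.f210765 IH) (Lpn (LP (LK LD1_c14 LD2_c58 LD3_c59))))))
theorem f313430 : Led Lsl_gt (LP (LK LD1_c1 LD2_c57 LD3_c28)) = (LP (LK LD1_c0 LD2_c55 LD3_c38)) :=
  Lgr Lrot94 (Lpr_cf (K19.f196991 IH) (Lpr_gt (K19.f313424 IH) (Lpe (K10.f33142 IH) (Lpr_gt (K9.f29652 IH) (Lpr_dt (K1.f28940 IH) (Lpe (K1.f28939 IH) (Lpe (K1.f29257 IH) (Lpe (K12.f29302 IH) (Lpr_df (K12.f192837 IH) (Lpn (LP (LK LD1_c0 LD2_c55 LD3_c38))))))))))))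
theorem f211252 : Led Lsl_gt (LP (LK LD1_c0 LD2_c31 LD3_c49)) = (LP (LK LD1_c0 LD2_c16 LD3_c16)) :=
  Lgr Lrot164 (Lpr_bf (K11.f211238 IH) (Lpe (K12.f211244 IH) (Lpr_gf (K11.f211248 IH) (Lpe (K11.f166451 IH) (Lpe (K11.f166434 IH) (Lpe (K11.f166461 IH) (Lpr_ct (K9.f53156 IH) (Lpr_gf (K9.f178278 IH) (Lpe (K9.f165221 IH) (Lpr_bt (K19.f170077 IH) (Lpn (LP (LK LD1_c0 LD2_c16 LD3_c16)))))))))))))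
theorem f217667 : Led Lsl_bt (LP (LK LD1_c5 LD2_c23 LD3_c2)) = (LP (LK LD1_c2 LD2_c38 LD3_c1)) :=
  Lre_b IH (LK LD1_c5 LD2_c23 LD3_c2) (LK LD1_c2 LD2_c38 LD3_c1) Lrfl Lrfl
theorem f29609 : Led Lsl_bt (LP (LK LD1_c1 LD2_c1 LD3_c43)) = (LP (LK LD1_c2 LD2_c9 LD3_c3)) :=
  Lre_b IH (LK LD1_c1 LD2_c1 LD3_c43) (LK LD1_c2 LD2_c9 LD3_c3) Lrfl Lrfl
theorem f29619 : Led Lsl_gt (LP (LK LD1_c2 LD2_c9 LD3_c3)) = (LP (LK LD1_c4 LD2_c23 LD3_c12)) :=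
  Lre_g IH (LK LD1_c2 LD2_c9 LD3_c3) (LK LD1_c4 LD2_c23 LD3_c12) Lrfl Lrfl
theorem f29620 : Led Lsl_dt (LP (LK LD1_c4 LD2_c23 LD3_c12)) = (LP (LK LD1_c8 LD2_c44 LD3_c5)) :=
  Lre_d IH (LK LD1_c4 LD2_c23 LD3_c12) (LK LD1_c8 LD2_c44 LD3_c5) Lrfl Lrfl
theorem f403270 : Led Lsl_cf (LP (LK LD1_c5 LD2_c23 LD3_c2)) = (LP (LK LD1_c8 LD2_c44 LD3_c5)) :=
  Lgr Lrot89 (Lpr_bt (f217667 IH) (Lpr_gt (K12.f217674 IH) (Lpe (K12.f217735 IH) (Lpr_ct (K10.f196594 IH) (Lpr_bt (K10.f196834 IH) (Lpe (K13.f238329 IH) (Lpe (K11.f211263 IH) (Lpr_ct (K11.f211242 IH) (Lpe (K11.f211238 IH) (Lpr_gt (f211252 IH) (Lpr_dt (K19.f197384 IH) (Lpe (K19.f313407 IH) (Lpr_bt (K19.f313398 IH) (Lpr_gt (f313430 IH) (Lpe (K12.f192837 IH) (Lpr_ct (K13.f29605 IH) (Lpr_bt (f29609 IH) (Lpr_gt (f29619 IH)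 (Lpr_dt (f29620 IH) (Lpn (LP (LK LD1_c8 LD2_c44 LD3_c5))))))))))))))))))))))
theorem f228687 : Led Lsl_dt (LP (LK LD1_c5 LD2_c23 LD3_c2)) = (LP (LK LD1_c2 LD2_c38 LD3_c0)) :=
  Lre_d IH (LK LD1_c5 LD2_c23 LD3_c2) (LK LD1_c2 LD2_c38 LD3_c0) Lrfl Lrfl
theorem f228688 : Led Lsl_ct (LP (LK LD1_c5 LD2_c22 LD3_c19)) = (LP (LK LD1_c2 LD2_c38 LD3_c0)) :=
  Lre_c IH (LK LD1_c5 LD2_c22 LD3_c19) (LK LD1_c2 LD2_c38 LD3_c0) Lrfl Lrfl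
theorem f228410 : Led Lsl_gt (LP (LK LD1_c10 LD2_c35 LD3_c4)) = (LP (LK LD1_c5 LD2_c22 LD3_c19)) :=
  Lre_g IH (LK LD1_c10 LD2_c35 LD3_c4) (LK LD1_c5 LD2_c22 LD3_c19) Lrfl Lrfl
theorem f218367 : Led Lsl_ct (LP (LK LD1_c15 LD2_c54 LD3_c25)) = (LP (LK LD1_c8 LD2_c28 LD3_c20)) :=
  Lre_c IH (LK LD1_c15 LD2_c54 LD3_c25) (LK LD1_c8 LD2_c28 LD3_c20) Lrfl Lrfl
theorem f196945 : Led Lsl_bt (LP (LK LD1_c15 LD2_c54 LD3_c25)) = (LP (LK LD1_c25 LD2_c50 LD3_c27)) :=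
  Lre_b IH (LK LD1_c15 LD2_c54 LD3_c25) (LK LD1_c25 LD2_c50 LD3_c27) Lrfl Lrfl
theorem f237281 : Led Lsl_bt (LP (LK LD1_c4 LD2_c23 LD3_c14)) = (LP (LK LD1_c2 LD2_c9 LD3_c4)) :=
  Lre_b IH (LK LD1_c4 LD2_c23 LD3_c14) (LK LD1_c2 LD2_c9 LD3_c4) Lrfl Lrfl
theorem f237282 : Led Lsl_ct (LP (LK LD1_c8 LD2_c44 LD3_c11)) = (LP (LK LD1_c4 LD2_c23 LD3_c14)) :=
  Lre_c IH (LK LD1_c8 LD2_c44 LD3_c11) (LK LD1_c4 LD2_c23 LD3_c14) Lrfl Lrfl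
theorem f237283 : Led Lsl_dt (LP (LK LD1_c16 LD2_c21 LD3_c31)) = (LP (LK LD1_c8 LD2_c44 LD3_c11)) :=
  Lre_d IH (LK LD1_c16 LD2_c21 LD3_c31) (LK LD1_c8 LD2_c44 LD3_c11) Lrfl Lrfl
theorem f237284 : Led Lsl_gf (LP (LK LD1_c16 LD2_c21 LD3_c31)) = (LP (LK LD1_c25 LD2_c50 LD3_c27)) :=
  Lgr Lrot85 (Lpr_dt (f237283 IH) (Lpr_ct (f237282 IH) (Lpr_bt (f237281 IH) (Lpr_gt (K13.f237272 IH) (Lpr_dt (K13.f164908 IH) (Lpr_ct (K13.f164975 IH) (Lpr_bt (K11.f164723 IH) (Lpr_gt (K9.f165200 IH) (Lpr_dt (K9.f8337 IH) (Lpr_ct (K9.f165208 IH) (Lpr_bt (K10.f165212 IH) (Lpe (K10.f196932 IH) (Lpr_dt (K11.f27781 IH) (Lpr_ct (K11.f52667 IH) (Lpr_bt (K20.f196941 IH) (Lpr_gt (K20.f196942 IH) (Lpr_dt (f196943 IH) (Lpr_ct (f196944 IH) (Lpr_bt (f196945 IH) (Lpn (LP (LK LD1_c25 LD2_c50 LD3_c27))))))))))))))))))))))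
theorem f388741 : Led Lsl_cf (LP (LK LD1_c10 LD2_c35 LD3_c4)) = (LP (LK LD1_c16 LD2_c21 LD3_c31)) :=
  Lgr Lrot125 (Lpr_gt (f228410 IH) (Lpe (f228409 IH) (Lpr_bt (f228408 IH) (Lpr_gt (K12.f217729 IH) (Lpe (K17.f228415 IH) (Lpe (K30.f228596 IH) (Lpr_gt (f388711 IH) (Lpe (f218367 IH) (Lpr_bt (f196945 IH) (Lpe (f237284 IH) (Lpn (LP (LK LD1_c16 LD2_c21 LD3_c31)))))))))))))
theorem f52727 : Led Lsl_ct (LP (LK LD1_c15 LD2_c54 LD3_c45)) = (LP (LK LD1_c8 LD2_c28 LD3_c28)) :=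
  Lre_c IH (LK LD1_c15 LD2_c54 LD3_c45) (LK LD1_c8 LD2_c28 LD3_c28) Lrfl Lrfl
theorem f53030 : Led Lsl_bt (LP (LK LD1_c15 LD2_c19 LD3_c24)) = (LP (LK LD1_c8 LD2_c8 LD3_c17)) :=
  Lre_b IH (LK LD1_c15 LD2_c19 LD3_c24) (LK LD1_c8 LD2_c8 LD3_c17) Lrfl Lrfl
theorem f393059 : Led Lsl_dt (LP (LK LD1_c15 LD2_c20 LD3_c6)) = (LP (LK LD1_c15 LD2_c19 LD3_c24)) :=
  Lgr Lrot79 (Lpe (f196461 IH) (Lpr_df (f393057 IH) (Lpe (f53030 IH) (Lpn (LP (LK LD1_c15 LD2_c19 LD3_c24))))))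
theorem f50658 : Led Lsl_ct (LP (LK LD1_c8 LD2_c6 LD3_c22)) = (LP (LK LD1_c4 LD2_c4 LD3_c13)) :=
  Lre_c IH (LK LD1_c8 LD2_c6 LD3_c22) (LK LD1_c4 LD2_c4 LD3_c13) Lrfl Lrfl
theorem f50729 : Led Lsl_dt (LP (LK LD1_c8 LD2_c9 LD3_c16)) = (LP (LK LD1_c4 LD2_c4 LD3_c13)) :=
  Lre_d IH (LK LD1_c8 LD2_c9 LD3_c16) (LK LD1_c4 LD2_c4 LD3_c13) Lrfl Lrfl
theorem f332553 : Led Lsl_ct (LP (LK LD1_c19 LD2_c49 LD3_c8)) = (LP (LK LD1_c15 LD2_c8 LD3_c56)) :=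
  Lgr Lrot40 (Lpr_ff (K22.f332547 IH) (Lpe (K22.f318379 IH) (Lpr_ff (K22.f332204 IH) (Lpn (LP (LK LD1_c15 LD2_c8 LD3_c56))))))
theorem f393873 : Led Lsl_gf (LP (LK LD1_c19 LD2_c49 LD3_c8)) = (LP (LK LD1_c15 LD2_c19 LD3_c24)) :=
  Lgr Lrot179 (Lpr_ct (f332553 IH) (Lpe (K22.f52951 IH) (Lpr_ct (K11.f52482 IH) (Lpr_dt (f50729 IH) (Lpe (f50658 IH) (Lpe (f389079 IH) (Lpe (K30.f388626 IH) (Lpr_gf (f390084 IH) (Lpr_dt (f393059 IH) (Lpn (LP (LK LD1_c15 LD2_c19 LD3_c24))))))))))))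
theorem f332163 : Led Lsl_af (LP (LK LD1_c19 LD2_c36 LD3_c12)) = (LP (LK LD1_c20 LD2_c2 LD3_c10)) :=
  Lgr Lrot0 (Lpr_at (K22.f332160 IH) (Lpn (LP (LK LD1_c20 LD2_c2 LD3_c10))))
theorem f332175 : Led Lsl_af (LP (LK LD1_c19 LD2_c36 LD3_c15)) = (LP (LK LD1_c20 LD2_c4 LD3_c21)) :=
  Lgr Lrot45 (Lpr_ft (K22.f331934 IH) (Lpe (f332163 IH) (Lpr_ft (f332173 IH) (Lpn (LP (LK LD1_c20 LD2_c4 LD3_c21))))))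
theorem f332558 : Led Lsl_af (LP (LK LD1_c19 LD2_c49 LD3_c8)) = (LP (LK LD1_c15 LD2_c50 LD3_c2)) :=
  Lgr Lrot117 (Lpr_dt (K22.f332555 IH) (Lpe (f332175 IH) (Lpr_dt (K30.f297474 IH) (Lpn (LP (LK LD1_c15 LD2_c50 LD3_c2))))))
theorem f331927 : Led Lsl_ff (LP (LK LD1_c15 LD2_c50 LD3_c2)) = (LP (LK LD1_c15 LD2_c54 LD3_c44)) :=
  Lgr Lrot25 (Lpr_bt (K11.f52877 IH) (Lpr_ft (K22.f331925 IH) (Lpr_bt (K18.f200849 IH) (Lpn (LP (LK LD1_c15 LD2_c54 LD3_c44))))))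
theorem f393875 : Led Lsl_gt (LP (LK LD1_c15 LD2_c54 LD3_c44)) = (LP (LK LD1_c15 LD2_c19 LD3_c24)) :=
  Lgr Lrot5 (Lpe (f331927 IH) (Lpe (f332558 IH) (Lpr_gf (f393873 IH) (Lpn (LP (LK LD1_c15 LD2_c19 LD3_c24))))))
theorem f220832 : Led Lsl_bt (LP (LK LD1_c8 LD2_c8 LD3_c17)) = (LP (LK LD1_c15 LD2_c19 LD3_c24)) :=
  Lre_b IH (LK LD1_c8 LD2_c8 LD3_c17) (LK LD1_c15 LD2_c19 LD3_c24) Lrfl Lrfl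
theorem f220820 : Led Lsl_ct (LP (LK LD1_c8 LD2_c8 LD3_c17)) = (LP (LK LD1_c15 LD2_c19 LD3_c25)) :=
  Lre_c IH (LK LD1_c8 LD2_c8 LD3_c17) (LK LD1_c15 LD2_c19 LD3_c25) Lrfl Lrfl
theorem f217797 : Led Lsl_dt (LP (LK LD1_c10 LD2_c38 LD3_c60)) = (LP (LK LD1_c19 LD2_c13 LD3_c6)) :=
  Lgr Lrot42 (Lpr_df (f217791 IH) (Lpn (LP (LK LD1_c19 LD2_c13 LD3_c6))))
theorem f393145 : Led Lsl_gt (LP (LK LD1_c15 LD2_c20 LD3_c61)) = (LP (LK LD1_c19 LD2_c20 LD3_c10)) :=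
  Lgr Lrot94 (Lpr_cf (f393138 IH) (Lpr_gt (f196877 IH) (Lpr_dt (f217797 IH) (Lpe (f217802 IH) (Lpr_dt (f391162 IH) (Lpe (f256989 IH) (Lpe (f296680 IH) (Lpe (f223582 IH) (Lpr_df (f390965 IH) (Lpn (LP (LK LD1_c19 LD2_c20 LD3_c10))))))))))))
theorem f219027 : Led Lsl_ct (LP (LK LD1_c24 LD2_c51 LD3_c14)) = (LP (LK LD1_c15 LD2_c2 LD3_c33)) :=
  Lre_c IH (LK LD1_c24 LD2_c51 LD3_c14) (LK LD1_c15 LD2_c2 LD3_c33) Lrfl Lrfl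
theorem f244038 : Led Lsl_df (LP (LK LD1_c4 LD2_c52 LD3_c46)) = (LP (LK LD1_c8 LD2_c2 LD3_c60)) :=
  Lgr Lrot12 (Lpr_bt (K30.f170702 IH) (Lpr_dt (K15.f244007 IH) (Lpr_bt (K27.f187921 IH) (Lpn (LP (LK LD1_c8 LD2_c2 LD3_c60))))))
theorem f292256 : Led Lsl_ff (LP (LK LD1_c8 LD2_c8 LD3_c18)) = (LP (LK LD1_c15 LD2_c9 LD3_c23)) :=
  Lgr Lrot3 (Lpr_ft (K17.f292241 IH) (Lpn (LP (LK LD1_c15 LD2_c9 LD3_c23))))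
theorem f292260 : Led Lsl_ft (LP (LK LD1_c8 LD2_c7 LD3_c58)) = (LP (LK LD1_c9 LD2_c37 LD3_c34)) :=
  Lgr Lrot54 (Lpe (K17.f227159 IH) (Lpr_ff (f292256 IH) (Lpe (K17.f244104 IH) (Lpn (LP (LK LD1_c9 LD2_c37 LD3_c34))))))
theorem f170800 : Led Lsl_cf (LP (LK LD1_c15 LD2_c41 LD3_c55)) = (LP (LK LD1_c9 LD2_c37 LD3_c34)) :=
  Lgr Lrot11 (Lpr_ct (K16.f170788 IH) (Lpn (LP (LK LD1_c9 LD2_c37 LD3_c34))))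
theorem f292264 : Led Lsl_ff (LP (LK LD1_c15 LD2_c18 LD3_c34)) = (LP (LK LD1_c15 LD2_c41 LD3_c55)) :=
  Lgr Lrot23 (Lpr_ct (K17.f227180 IH) (Lpr_ft (f292260 IH) (Lpe (f170800 IH) (Lpn (LP (LK LD1_c15 LD2_c41 LD3_c55))))))
theorem f227110 : Led Lsl_at (LP (LK LD1_c15 LD2_c18 LD3_c34)) = (LP (LK LD1_c8 LD2_c7 LD3_c49)) :=
  Lre_a IH (LK LD1_c15 LD2_c18 LD3_c34) (LK LD1_c8 LD2_c7 LD3_c49) Lrfl Lrfl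
theorem f292270 : Led Lsl_ft (LP (LK LD1_c8 LD2_c7 LD3_c49)) = (LP (LK LD1_c8 LD2_c20 LD3_c25)) :=
  Lgr Lrot101 (Lpe (f227110 IH) (Lpr_ff (f292264 IH) (Lpe (K16.f170786 IH) (Lpn (LP (LK LD1_c8 LD2_c20 LD3_c25))))))
theorem f292288 : Led Lsl_ff (LP (LK LD1_c8 LD2_c7 LD3_c49)) = (LP (LK LD1_c8 LD2_c20 LD3_c25)) :=
  Lgr Lrot3 (Lpr_ft (f292270 IH) (Lpn (LP (LK LD1_c8 LD2_c20 LD3_c25))))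
theorem f227103 : Led Lsl_dt (LP (LK LD1_c8 LD2_c7 LD3_c49)) = (LP (LK LD1_c15 LD2_c18 LD3_c35)) :=
  Lre_d IH (LK LD1_c8 LD2_c7 LD3_c49) (LK LD1_c15 LD2_c18 LD3_c35) Lrfl Lrfl
theorem f231178 : Led Lsl_bt (LP (LK LD1_c8 LD2_c7 LD3_c50)) = (LP (LK LD1_c15 LD2_c18 LD3_c35)) :=
  Lre_b IH (LK LD1_c8 LD2_c7 LD3_c50) (LK LD1_c15 LD2_c18 LD3_c35) Lrfl Lrfl
theorem f43141 : Led Lsl_bt (LP (LK LD1_c15 LD2_c2 LD3_c59)) = (LP (LK LD1_c7 LD2_c58 LD3_c36)) :=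
  Lre_b IH (LK LD1_c15 LD2_c2 LD3_c59) (LK LD1_c7 LD2_c58 LD3_c36) Lrfl Lrfl
theorem f275425 : Led Lsl_ft (LP (LK LD1_c15 LD2_c18 LD3_c35)) = (LP (LK LD1_c15 LD2_c2 LD3_c59)) :=
  Lgr Lrot75 (Lpe (f231178 IH) (Lpr_ff (K16.f275420 IH) (Lpe (f43141 IH) (Lpn (LP (LK LD1_c15 LD2_c2 LD3_c59))))))
theorem f292299 : Led Lsl_dt (LP (LK LD1_c15 LD2_c2 LD3_c59)) = (LP (LK LD1_c8 LD2_c20 LD3_c25)) :=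
  Lgr Lrot60 (Lpe (f275425 IH) (Lpe (f227103 IH) (Lpr_ff (f292288 IH) (Lpn (LP (LK LD1_c8 LD2_c20 LD3_c25))))))
theorem f43143 : Led Lsl_ct (LP (LK LD1_c15 LD2_c2 LD3_c59)) = (LP (LK LD1_c24 LD2_c51 LD3_c57)) :=
  Lre_c IH (LK LD1_c15 LD2_c2 LD3_c59) (LK LD1_c24 LD2_c51 LD3_c57) Lrfl Lrfl
theorem f292324 : Led Lsl_gt (LP (LK LD1_c24 LD2_c51 LD3_c57)) = (LP (LK LD1_c31 LD2_c41 LD3_c47)) :=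
  Lre_g IH (LK LD1_c24 LD2_c51 LD3_c57) (LK LD1_c31 LD2_c41 LD3_c47) Lrfl Lrfl
theorem f384640 : Led Lsl_bt (LP (LK LD1_c29 LD2_c6 LD3_c51)) = (LP (LK LD1_c19 LD2_c49 LD3_c21)) :=
  Lre_b IH (LK LD1_c29 LD2_c6 LD3_c51) (LK LD1_c19 LD2_c49 LD3_c21) Lrfl Lrfl
theorem f384641 : Led Lsl_cf (LP (LK LD1_c31 LD2_c41 LD3_c47)) = (LP (LK LD1_c29 LD2_c6 LD3_c51)) :=
  Lgr Lrot58 (Lpe (f292324 IH) (Lpe (f43143 IH) (Lpr_bt (f43141 IH) (Lpe (K16.f42711 IH) (Lpe (K20.f173895 IH) (Lpr_ct (K30.f140385 IH) (Lpr_gf (K30.f384632 IH) (Lpe (K30.f332617 IH) (Lpe (K30.f384638 IH) (Lpe (f384640 IH) (Lpn (LP (LK LD1_c29 LD2_c6 LD3_c51)))))))))))))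
theorem f384644 : Led Lsl_ct (LP (LK LD1_c31 LD2_c41 LD3_c47)) = (LP (LK LD1_c29 LD2_c6 LD3_c51)) :=
  Lgr Lrot59 (Lpr_cf (f384641 IH) (Lpn (LP (LK LD1_c29 LD2_c6 LD3_c51))))
theorem f238381 : Led Lsl_dt (LP (LK LD1_c19 LD2_c49 LD3_c20)) = (LP (LK LD1_c29 LD2_c6 LD3_c51)) :=
  Lre_d IH (LK LD1_c19 LD2_c49 LD3_c20) (LK LD1_c29 LD2_c6 LD3_c51) Lrfl Lrfl
theorem f219038 : Led Lsl_dt (LP (LK LD1_c24 LD2_c51 LD3_c17)) = (LP (LK LD1_c15 LD2_c2 LD3_c34)) :=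
  Lre_d IH (LK LD1_c24 LD2_c51 LD3_c17) (LK LD1_c15 LD2_c2 LD3_c34) Lrfl Lrfl
theorem f384646 : Led Lsl_gf (LP (LK LD1_c15 LD2_c2 LD3_c59)) = (LP (LK LD1_c24 LD2_c51 LD3_c17)) :=
  Lgr Lrot147 (Lpr_ct (f43143 IH) (Lpr_gt (f292324 IH) (Lpr_ct (f384644 IH) (Lpe (f238381 IH) (Lpe (K27.f238380 IH) (Lpr_gf (K27.f238352 IH) (Lpe (K27.f218699 IH) (Lpe (f219028 IH) (Lpe (f219038 IH) (Lpn (LP (LK LD1_c24 LD2_c51 LD3_c17))))))))))))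
theorem f219036 : Led Lsl_dt (LP (LK LD1_c15 LD2_c2 LD3_c34)) = (LP (LK LD1_c24 LD2_c51 LD3_c17)) :=
  Lre_d IH (LK LD1_c15 LD2_c2 LD3_c34) (LK LD1_c24 LD2_c51 LD3_c17) Lrfl Lrfl
theorem f390979 : Led Lsl_gt (LP (LK LD1_c8 LD2_c8 LD3_c42)) = (LP (LK LD1_c15 LD2_c9 LD3_c11)) :=
  Lgr Lrot94 (Lpe (K17.f200984 IH) (Lpe (f292983 IH) (Lpr_dt (f219036 IH) (Lpe (f384646 IH) (Lpr_dt (f292299 IH) (Lpr_cf (K16.f170773 IH) (Lpr_df (f244038 IH) (Lpe (f223485 IH) (Lpr_df (f390973 IH) (Lpn (LP (LK LD1_c15 LD2_c9 LD3_c11))))))))))))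
theorem f373186 : Led Lsl_ft (LP (LK LD1_c7 LD2_c58 LD3_c19)) = (LP (LK LD1_c15 LD2_c0 LD3_c60)) :=
  Lgr Lrot75 (Lpe (f218940 IH) (Lpr_ff (K27.f373184 IH) (Lpe (f196478 IH) (Lpn (LP (LK LD1_c15 LD2_c0 LD3_c60))))))
theorem f374727 : Led Lsl_gt (LP (LK LD1_c15 LD2_c2 LD3_c19)) = (LP (LK LD1_c24 LD2_c48 LD3_c43)) :=
  Lgr Lrot46 (Lpe (f218945 IH) (Lpr_ft (f373186 IH) (Lpr_at (K27.f196474 IH) (Lpn (LP (LK LD1_c24 LD2_c48 LD3_c43))))))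
theorem f168024 : Led Lsl_ct (LP (LK LD1_c15 LD2_c2 LD3_c6)) = (LP (LK LD1_c10 LD2_c31 LD3_c57)) :=
  Lgr Lrot59 (Lpr_cf (K27.f168002 IH) (Lpn (LP (LK LD1_c10 LD2_c31 LD3_c57))))
theorem f370149 : Led Lsl_at (LP (LK LD1_c5 LD2_c25 LD3_c3)) = (LP (LK LD1_c2 LD2_c39 LD3_c1)) :=
  Lre_a IH (LK LD1_c5 LD2_c25 LD3_c3) (LK LD1_c2 LD2_c39 LD3_c1) Lrfl Lrfl
theorem f370150 : Led Lsl_ft (LP (LK LD1_c10 LD2_c31 LD3_c57)) = (LP (LK LD1_c5 LD2_c25 LD3_c3)) :=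
  Lgr Lrot101 (Lpe (K27.f168001 IH) (Lpr_ff (K27.f370136 IH) (Lpe (f370149 IH) (Lpn (LP (LK LD1_c5 LD2_c25 LD3_c3))))))
theorem f375082 : Led Lsl_gt (LP (LK LD1_c10 LD2_c31 LD3_c57)) = (LP (LK LD1_c5 LD2_c25 LD3_c2)) :=
  Lgr Lrot5 (Lpr_ft (f370150 IH) (Lpr_at (f370149 IH) (Lpe (f174401 IH) (Lpn (LP (LK LD1_c5 LD2_c25 LD3_c2))))))
theorem f390981 : Led Lsl_gf (LP (LK LD1_c15 LD2_c19 LD3_c59)) = (LP (LK LD1_c15 LD2_c2 LD3_c33)) :=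
  Lgr Lrot181 (Lpr_ct (K17.f200984 IH) (Lpr_gt (f390979 IH) (Lpe (f219056 IH) (Lpr_bt (f219055 IH) (Lpr_gt (f374727 IH) (Lpr_bf (K27.f373273 IH) (Lpr_ct (f168024 IH) (Lpr_gt (f375082 IH) (Lpe (f224018 IH) (Lpr_bt (f253205 IH) (Lpn (LP (LK LD1_c15 LD2_c2 LD3_c33)))))))))))))
theorem f292262 : Led Lsl_gf (LP (LK LD1_c8 LD2_c8 LD3_c17)) = (LP (LK LD1_c15 LD2_c9 LD3_c23)) :=
  Lgr Lrot47 (Lpr_gt (f53029 IH) (Lpe (K17.f227097 IH) (Lpr_ff (f292256 IH) (Lpn (LP (LK LD1_c15 LD2_c9 LD3_c23))))))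
theorem f393147 : Led Lsl_gf (LP (LK LD1_c25 LD2_c10 LD3_c23)) = (LP (LK LD1_c15 LD2_c19 LD3_c25)) :=
  Lgr Lrot129 (Lpe (f393124 IH) (Lpr_bt (f393111 IH) (Lpr_gt (f393145 IH) (Lpr_bf (f253212 IH) (Lpr_ct (f219027 IH) (Lpe (f390981 IH) (Lpe (K17.f200977 IH) (Lpe (f293043 IH) (Lpe (f292262 IH) (Lpr_ct (f220820 IH) (Lpn (LP (LK LD1_c15 LD2_c19 LD3_c25)))))))))))))
theorem f393880 : Led Lsl_gf (LP (LK LD1_c15 LD2_c54 LD3_c45)) = (LP (LK LD1_c10 LD2_c40 LD3_c48)) :=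
  Lgr Lrot129 (Lpe (K30.f52743 IH) (Lpr_bt (K18.f200849 IH) (Lpr_gt (f393875 IH) (Lpe (f220832 IH) (Lpr_ct (f220820 IH) (Lpe (f393147 IH) (Lpe (f393124 IH) (Lpr_bt (f393111 IH) (Lpr_gt (f393145 IH) (Lpr_ct (f253211 IH) (Lpn (LP (LK LD1_c10 LD2_c40 LD3_c48)))))))))))))
theorem f253239 : Led Lsl_dt (LP (LK LD1_c19 LD2_c20 LD3_c11)) = (LP (LK LD1_c10 LD2_c40 LD3_c48)) :=
  Lre_d IH (LK LD1_c19 LD2_c20 LD3_c11) (LK LD1_c10 LD2_c40 LD3_c48) Lrfl Lrfl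
theorem f218294 : Led Lsl_dt (LP (LK LD1_c25 LD2_c50 LD3_c28)) = (LP (LK LD1_c15 LD2_c54 LD3_c25)) :=
  Lre_d IH (LK LD1_c25 LD2_c50 LD3_c28) (LK LD1_c15 LD2_c54 LD3_c25) Lrfl Lrfl
theorem f390960 : Led Lsl_dt (LP (LK LD1_c10 LD2_c40 LD3_c48)) = (LP (LK LD1_c19 LD2_c20 LD3_c11)) :=
  Lre_d IH (LK LD1_c10 LD2_c40 LD3_c48) (LK LD1_c19 LD2_c20 LD3_c11) Lrfl Lrfl
theorem f390961 : Led Lsl_gf (LP (LK LD1_c25 LD2_c50 LD3_c28)) = (LP (LK LD1_c19 LD2_c20 LD3_c11)) :=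
  Lgr Lrot143 (Lpr_dt (f218294 IH) (Lpe (f196944 IH) (Lpe (f196943 IH) (Lpe (K20.f196942 IH) (Lpe (K10.f52707 IH) (Lpe (K12.f52869 IH) (Lpr_cf (K12.f218241 IH) (Lpr_gt (f390954 IH) (Lpr_dt (f390960 IH) (Lpn (LP (LK LD1_c19 LD2_c20 LD3_c11))))))))))))
theorem f398489 : Led Lsl_cf (LP (LK LD1_c26 LD2_c17 LD3_c22)) = (LP (LK LD1_c25 LD2_c50 LD3_c28)) :=
  Lgr Lrot169 (Lpr_gt (f398483 IH) (Lpe (K10.f52712 IH) (Lpe (K18.f51165 IH) (Lpe (K10.f51156 IH) (Lpr_gf (K18.f52705 IH) (Lpe (f52727 IH) (Lpr_gf (f393880 IH) (Lpe (f253239 IH) (Lpe (f390961 IH) (Lpn (LP (LK LD1_c25 LD2_c50 LD3_c28))))))))))))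
theorem f52716 : Led Lsl_at (LP (LK LD1_c25 LD2_c46 LD3_c6)) = (LP (LK LD1_c25 LD2_c48 LD3_c11)) :=
  Lgr Lrot107 (Lpe (K10.f52715 IH) (Lpe (K12.f52714 IH) (Lpr_cf (K10.f52712 IH) (Lpn (LP (LK LD1_c25 LD2_c48 LD3_c11))))))
theorem f217785 : Led Lsl_ft (LP (LK LD1_c25 LD2_c46 LD3_c6)) = (LP (LK LD1_c19 LD2_c13 LD3_c7)) :=
  Lgr Lrot4 (Lpe (K10.f52715 IH) (Lpr_ff (f217777 IH) (Lpe (K30.f217722 IH) (Lpn (LP (LK LD1_c19 LD2_c13 LD3_c7))))))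
theorem f217805 : Led Lsl_ff (LP (LK LD1_c25 LD2_c46 LD3_c6)) = (LP (LK LD1_c19 LD2_c13 LD3_c7)) :=
  Lgr Lrot3 (Lpr_ft (f217785 IH) (Lpn (LP (LK LD1_c19 LD2_c13 LD3_c7))))
theorem f398485 : Led Lsl_gf (LP (LK LD1_c26 LD2_c17 LD3_c22)) = (LP (LK LD1_c19 LD2_c13 LD3_c7)) :=
  Lgr Lrot47 (Lpr_gt (f398483 IH) (Lpe (f52716 IH) (Lpr_ff (f217805 IH) (Lpn (LP (LK LD1_c19 LD2_c13 LD3_c7))))))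
theorem f373773 : Led Lsl_ft (LP (LK LD1_c16 LD2_c15 LD3_c10)) = (LP (LK LD1_c10 LD2_c40 LD3_c21)) :=
  Lgr Lrot4 (Lpe (f243199 IH) (Lpr_ff (K27.f373761 IH) (Lpr_cf (K18.f246598 IH) (Lpn (LP (LK LD1_c10 LD2_c40 LD3_c21))))))
theorem f201542 : Led Lsl_at (LP (LK LD1_c8 LD2_c44 LD3_c60)) = (LP (LK LD1_c16 LD2_c22 LD3_c39)) :=
  Lre_a IH (LK LD1_c8 LD2_c44 LD3_c60) (LK LD1_c16 LD2_c22 LD3_c39) Lrfl Lrfl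
theorem f210768 : Led Lsl_at (LP (LK LD1_c24 LD2_c46 LD3_c27)) = (LP (LK LD1_c14 LD2_c58 LD3_c60)) :=
  Lre_a IH (LK LD1_c24 LD2_c46 LD3_c27) (LK LD1_c14 LD2_c58 LD3_c60) Lrfl Lrfl
theorem f297404 : Led Lsl_ff (LP (LK LD1_c8 LD2_c44 LD3_c60)) = (LP (LK LD1_c14 LD2_c58 LD3_c60)) :=
  Lgr Lrot30 (Lpr_at (f201542 IH) (Lpr_ft (K18.f297399 IH) (Lpr_at (f210768 IH) (Lpn (LP (LK LD1_c14 LD2_c58 LD3_c60))))))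
theorem f373777 : Led Lsl_bf (LP (LK LD1_c16 LD2_c15 LD3_c10)) = (LP (LK LD1_c8 LD2_c44 LD3_c60)) :=
  Lgr Lrot61 (Lpr_ft (f373773 IH) (Lpe (K18.f246617 IH) (Lpe (f297404 IH) (Lpn (LP (LK LD1_c8 LD2_c44 LD3_c60))))))
theorem f373780 : Led Lsl_bt (LP (LK LD1_c16 LD2_c15 LD3_c10)) = (LP (LK LD1_c8 LD2_c44 LD3_c60)) :=
  Lgr Lrot127 (Lpr_bf (f373777 IH) (Lpn (LP (LK LD1_c8 LD2_c44 LD3_c60))))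
theorem f39303 : Led Lsl_gt (LP (LK LD1_c16 LD2_c22 LD3_c42)) = (LP (LK LD1_c8 LD2_c44 LD3_c60)) :=
  Lre_g IH (LK LD1_c16 LD2_c22 LD3_c42) (LK LD1_c8 LD2_c44 LD3_c60) Lrfl Lrfl
theorem f400027 : Led Lsl_bf (LP (LK LD1_c16 LD2_c22 LD3_c42)) = (LP (LK LD1_c25 LD2_c50 LD3_c28)) :=
  Lgr Lrot156 (Lpr_gt (f39303 IH) (Lpe (f373780 IH) (Lpr_ct (f243208 IH) (Lpr_gt (f225672 IH) (Lpe (f373766 IH) (Lpr_bt (f398421 IH) (Lpe (f391190 IH) (Lpr_ct (K30.f217762 IH) (Lpe (f398485 IH) (Lpr_cf (f398489 IH) (Lpn (LP (LK LD1_c25 LD2_c50 LD3_c28)))))))))))))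
theorem f388093 : Led Lsl_dt (LP (LK LD1_c15 LD2_c54 LD3_c25)) = (LP (LK LD1_c25 LD2_c50 LD3_c28)) :=
  Lre_d IH (LK LD1_c15 LD2_c54 LD3_c25) (LK LD1_c25 LD2_c50 LD3_c28) Lrfl Lrfl
theorem f388760 : Led Lsl_bt (LP (LK LD1_c25 LD2_c50 LD3_c27)) = (LP (LK LD1_c15 LD2_c54 LD3_c25)) :=
  Lre_b IH (LK LD1_c25 LD2_c50 LD3_c27) (LK LD1_c15 LD2_c54 LD3_c25) Lrfl Lrfl
theorem f400033 : Led Lsl_dt (LP (LK LD1_c16 LD2_c22 LD3_c42)) = (LP (LK LD1_c25 LD2_c50 LD3_c27)) :=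
  Lgr Lrot79 (Lpr_bf (f400027 IH) (Lpe (f388093 IH) (Lpe (f388760 IH) (Lpn (LP (LK LD1_c25 LD2_c50 LD3_c27))))))
theorem f400038 : Led Lsl_df (LP (LK LD1_c16 LD2_c22 LD3_c42)) = (LP (LK LD1_c25 LD2_c50 LD3_c27)) :=
  Lgr Lrot38 (Lpr_dt (f400033 IH) (Lpn (LP (LK LD1_c25 LD2_c50 LD3_c27))))
theorem f181879 : Led Lsl_ct (LP (LK LD1_c8 LD2_c44 LD3_c60)) = (LP (LK LD1_c4 LD2_c23 LD3_c36)) :=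
  Lre_c IH (LK LD1_c8 LD2_c44 LD3_c60) (LK LD1_c4 LD2_c23 LD3_c36) Lrfl Lrfl
theorem f403278 : Led Lsl_gt (LP (LK LD1_c4 LD2_c23 LD3_c36)) = (LP (LK LD1_c8 LD2_c44 LD3_c5)) :=
  Lgr Lrot150 (Lpe (f181879 IH) (Lpe (f39303 IH) (Lpr_df (f400038 IH) (Lpe (f237284 IH) (Lpe (f388741 IH) (Lpr_gt (f228410 IH) (Lpr_ct (f228688 IH) (Lpe (f228687 IH) (Lpr_cf (f403270 IH) (Lpn (LP (LK LD1_c8 LD2_c44 LD3_c5))))))))))))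
theorem f403280 : Led Lsl_gf (LP (LK LD1_c14 LD2_c58 LD3_c59)) = (LP (LK LD1_c8 LD2_c44 LD3_c5)) :=
  Lgr Lrot76 (Lpe (K18.f210765 IH) (Lpe (K18.f262294 IH) (Lpr_gt (f403278 IH) (Lpn (LP (LK LD1_c8 LD2_c44 LD3_c5))))))
theorem f29633 : Led Lsl_bt (LP (LK LD1_c2 LD2_c9 LD3_c3)) = (LP (LK LD1_c1 LD2_c1 LD3_c43)) :=
  Lre_b IH (LK LD1_c2 LD2_c9 LD3_c3) (LK LD1_c1 LD2_c1 LD3_c43) Lrfl Lrfl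
theorem f237310 : Led Lsl_bt (LP (LK LD1_c1 LD2_c1 LD3_c40)) = (LP (LK LD1_c2 LD2_c8 LD3_c58)) :=
  Lre_b IH (LK LD1_c1 LD2_c1 LD3_c40) (LK LD1_c2 LD2_c8 LD3_c58) Lrfl Lrfl
theorem f237311 : Led Lsl_cf (LP (LK LD1_c2 LD2_c9 LD3_c3)) = (LP (LK LD1_c2 LD2_c8 LD3_c58)) :=
  Lgr Lrot97 (Lpr_bt (f29633 IH) (Lpe (K13.f29610 IH) (Lpr_bt (K13.f237293 IH) (Lpr_ct (K13.f229314 IH) (Lpr_bt (f237310 IH) (Lpn (LP (LK LD1_c2 LD2_c8 LD3_c58))))))))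
theorem f237324 : Led Lsl_gt (LP (LK LD1_c2 LD2_c8 LD3_c58)) = (LP (LK LD1_c4 LD2_c23 LD3_c2)) :=
  Lre_g IH (LK LD1_c2 LD2_c8 LD3_c58) (LK LD1_c4 LD2_c23 LD3_c2) Lrfl Lrfl
theorem f406923 : Led Lsl_df (LP (LK LD1_c8 LD2_c43 LD3_c27)) = (LP (LK LD1_c4 LD2_c23 LD3_c2)) :=
  Lgr Lrot153 (Lpr_gt (f406921 IH) (Lpr_dt (f331802 IH) (Lpr_cf (f297427 IH) (Lpr_df (f210766 IH) (Lpr_gf (f403280 IH) (Lpe (f29620 IH) (Lpe (f29619 IH) (Lpr_cf (f237311 IH) (Lpr_gt (f237324 IH) (Lpn (LP (LK LD1_c4 LD2_c23 LD3_c2))))))))))))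
theorem f406927 : Led Lsl_dt (LP (LK LD1_c8 LD2_c43 LD3_c27)) = (LP (LK LD1_c4 LD2_c23 LD3_c2)) :=
  Lgr Lrot42 (Lpr_df (f406923 IH) (Lpn (LP (LK LD1_c4 LD2_c23 LD3_c2))))
theorem f237325 : Led Lsl_bt (LP (LK LD1_c2 LD2_c46 LD3_c47)) = (LP (LK LD1_c4 LD2_c23 LD3_c2)) :=
  Lgr Lrot92 (Lpr_ct (f181577 IH) (Lpr_gt (f174339 IH) (Lpe (K10.f181558 IH) (Lpr_bt (K10.f181562 IH) (Lpe (K13.f39203 IH) (Lpr_ct (K1.f38940 IH) (Lpr_gt (K13.f237318 IH) (Lpe (K14.f39432 IH) (Lpr_bt (f237310 IH) (Lpr_gt (f237324 IH) (Lpn (LP (LK LD1_c4 LD2_c23 LD3_c2)))))))))))))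
theorem f237373 : Led Lsl_bf (LP (LK LD1_c2 LD2_c46 LD3_c47)) = (LP (LK LD1_c4 LD2_c23 LD3_c2)) :=
  Lgr Lrot24 (Lpr_bt (f237325 IH) (Lpn (LP (LK LD1_c4 LD2_c23 LD3_c2))))
theorem f237379 : Led Lsl_dt (LP (LK LD1_c2 LD2_c46 LD3_c47)) = (LP (LK LD1_c5 LD2_c41 LD3_c28)) :=
  Lre_d IH (LK LD1_c2 LD2_c46 LD3_c47) (LK LD1_c5 LD2_c41 LD3_c28) Lrfl Lrfl
theorem f406930 : Led Lsl_bf (LP (LK LD1_c8 LD2_c43 LD3_c27)) = (LP (LK LD1_c5 LD2_c41 LD3_c28)) :=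
  Lgr Lrot93 (Lpr_dt (f406927 IH) (Lpe (f237373 IH) (Lpr_dt (f237379 IH) (Lpn (LP (LK LD1_c5 LD2_c41 LD3_c28))))))
theorem f406936 : Led Lsl_ct (LP (LK LD1_c5 LD2_c41 LD3_c28)) = (LP (LK LD1_c11 LD2_c13 LD3_c7)) :=
  Lre_c IH (LK LD1_c5 LD2_c41 LD3_c28) (LK LD1_c11 LD2_c13 LD3_c7) Lrfl Lrfl
theorem f406937 : Led Lsl_gf (LP (LK LD1_c8 LD2_c44 LD3_c53)) = (LP (LK LD1_c11 LD2_c13 LD3_c7)) :=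
  Lgr Lrot126 (Lpe (f210428 IH) (Lpr_bt (K30.f183245 IH) (Lpe (K12.f38926 IH) (Lpr_ct (K1.f38938 IH) (Lpr_gt (K13.f38963 IH) (Lpe (K19.f237270 IH) (Lpr_bt (f238728 IH) (Lpr_gt (f225111 IH) (Lpr_bf (f406930 IH) (Lpr_ct (f406936 IH) (Lpn (LP (LK LD1_c11 LD2_c13 LD3_c7)))))))))))))
theorem f210430 : Led Lsl_at (LP (LK LD1_c16 LD2_c22 LD3_c24)) = (LP (LK LD1_c8 LD2_c44 LD3_c53)) :=
  Lre_a IH (LK LD1_c16 LD2_c22 LD3_c24) (LK LD1_c8 LD2_c44 LD3_c53) Lrfl Lrfl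
theorem f385612 : Led Lsl_ft (LP (LK LD1_c20 LD2_c7 LD3_c25)) = (LP (LK LD1_c16 LD2_c22 LD3_c24)) :=
  Lgr Lrot101 (Lpr_af (f385605 IH) (Lpe (f385597 IH) (Lpe (f210430 IH) (Lpn (LP (LK LD1_c16 LD2_c22 LD3_c24))))))
theorem f406939 : Led Lsl_gt (LP (LK LD1_c20 LD2_c7 LD3_c25)) = (LP (LK LD1_c11 LD2_c13 LD3_c7)) :=
  Lgr Lrot5 (Lpr_ft (f385612 IH) (Lpr_at (f210430 IH) (Lpr_gf (f406937 IH) (Lpn (LP (LK LD1_c11 LD2_c13 LD3_c7))))))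
theorem f181359 : Led Lsl_dt (LP (LK LD1_c2 LD2_c13 LD3_c18)) = (LP (LK LD1_c4 LD2_c32 LD3_c33)) :=
  Lre_d IH (LK LD1_c2 LD2_c13 LD3_c18) (LK LD1_c4 LD2_c32 LD3_c33) Lrfl Lrfl
theorem f269039 : Led Lsl_ft (LP (LK LD1_c1 LD2_c19 LD3_c51)) = (LP (LK LD1_c2 LD2_c13 LD3_c18)) :=
  Lgr Lrot54 (Lpe (K16.f181570 IH) (Lpr_ff (K16.f269024 IH) (Lpe (f181359 IH) (Lpn (LP (LK LD1_c2 LD2_c13 LD3_c18))))))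
theorem f172508 : Led Lsl_gt (LP (LK LD1_c1 LD2_c19 LD3_c51)) = (LP (LK LD1_c2 LD2_c46 LD3_c51)) :=
  Lre_g IH (LK LD1_c1 LD2_c19 LD3_c51) (LK LD1_c2 LD2_c46 LD3_c51) Lrfl Lrfl
theorem f181404 : Led Lsl_at (LP (LK LD1_c2 LD2_c13 LD3_c18)) = (LP (LK LD1_c4 LD2_c32 LD3_c28)) :=
  Lre_a IH (LK LD1_c2 LD2_c13 LD3_c18) (LK LD1_c4 LD2_c32 LD3_c28) Lrfl Lrfl
theorem f411681 : Led Lsl_gt (LP (LK LD1_c2 LD2_c46 LD3_c51)) = (LP (LK LD1_c4 LD2_c32 LD3_c28)) :=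
  Lgr Lrot46 (Lpe (f172508 IH) (Lpr_ft (f269039 IH) (Lpr_at (f181404 IH) (Lpn (LP (LK LD1_c4 LD2_c32 LD3_c28))))))
theorem f172502 : Led Lsl_dt (LP (LK LD1_c2 LD2_c46 LD3_c51)) = (LP (LK LD1_c5 LD2_c41 LD3_c36)) :=
  Lre_d IH (LK LD1_c2 LD2_c46 LD3_c51) (LK LD1_c5 LD2_c41 LD3_c36) Lrfl Lrfl
theorem f172538 : Led Lsl_gt (LP (LK LD1_c5 LD2_c41 LD3_c36)) = (LP (LK LD1_c11 LD2_c13 LD3_c22)) :=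
  Lre_g IH (LK LD1_c5 LD2_c41 LD3_c36) (LK LD1_c11 LD2_c13 LD3_c22) Lrfl Lrfl
theorem f237375 : Led Lsl_ct (LP (LK LD1_c1 LD2_c19 LD3_c49)) = (LP (LK LD1_c2 LD2_c46 LD3_c47)) :=
  Lre_c IH (LK LD1_c1 LD2_c19 LD3_c49) (LK LD1_c2 LD2_c46 LD3_c47) Lrfl Lrfl
theorem f411685 : Led Lsl_ct (LP (LK LD1_c11 LD2_c13 LD3_c22)) = (LP (LK LD1_c20 LD2_c7 LD3_c25)) :=
  Lgr Lrot152 (Lpe (f172538 IH) (Lpe (f172502 IH) (Lpr_gt (f411681 IH) (Lpr_ct (K16.f268852 IH) (Lpe (f280545 IH) (Lpr_ct (f237375 IH) (Lpe (f237376 IH) (Lpe (f280548 IH) (Lpe (f406939 IH) (Lpn (LP (LK LD1_c20 LD2_c7 LD3_c25))))))))))))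
theorem f172446 : Led Lsl_ct (LP (LK LD1_c4 LD2_c57 LD3_c7)) = (LP (LK LD1_c2 LD2_c47 LD3_c13)) :=
  Lgr Lrot59 (Lpr_cf (f172436 IH) (Lpn (LP (LK LD1_c2 LD2_c47 LD3_c13))))
theorem f172491 : Led Lsl_bt (LP (LK LD1_c5 LD2_c41 LD3_c35)) = (LP (LK LD1_c4 LD2_c57 LD3_c7)) :=
  Lre_b IH (LK LD1_c5 LD2_c41 LD3_c35) (LK LD1_c4 LD2_c57 LD3_c7) Lrfl Lrfl
theorem f172492 : Led Lsl_ct (LP (LK LD1_c2 LD2_c46 LD3_c51)) = (LP (LK LD1_c5 LD2_c41 LD3_c35)) :=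
  Lre_c IH (LK LD1_c2 LD2_c46 LD3_c51) (LK LD1_c5 LD2_c41 LD3_c35) Lrfl Lrfl
theorem f172493 : Led Lsl_ct (LP (LK LD1_c1 LD2_c19 LD3_c60)) = (LP (LK LD1_c2 LD2_c47 LD3_c14)) :=
  Lre_c IH (LK LD1_c1 LD2_c19 LD3_c60) (LK LD1_c2 LD2_c47 LD3_c14) Lrfl Lrfl
theorem f172494 : Led Lsl_bf (LP (LK LD1_c2 LD2_c46 LD3_c51)) = (LP (LK LD1_c2 LD2_c47 LD3_c14)) :=
  Lgr Lrot90 (Lpr_ct (f172492 IH) (Lpr_bt (f172491 IH) (Lpr_ct (f172446 IH) (Lpr_bt (f172435 IH) (Lpr_ct (f172493 IH) (Lpn (LP (LK LD1_c2 LD2_c47 LD3_c14))))))))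
theorem f172503 : Led Lsl_dt (LP (LK LD1_c5 LD2_c42 LD3_c31)) = (LP (LK LD1_c2 LD2_c47 LD3_c14)) :=
  Lre_d IH (LK LD1_c5 LD2_c42 LD3_c31) (LK LD1_c2 LD2_c47 LD3_c14) Lrfl Lrfl
theorem f172504 : Led Lsl_bt (LP (LK LD1_c5 LD2_c41 LD3_c36)) = (LP (LK LD1_c5 LD2_c42 LD3_c31)) :=
  Lgr Lrot95 (Lpe (f172502 IH) (Lpr_bf (f172494 IH) (Lpe (f172503 IH) (Lpn (LP (LK LD1_c5 LD2_c42 LD3_c31))))))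
theorem f172509 : Led Lsl_bf (LP (LK LD1_c5 LD2_c41 LD3_c36)) = (LP (LK LD1_c5 LD2_c42 LD3_c31)) :=
  Lgr Lrot24 (Lpr_bt (f172504 IH) (Lpn (LP (LK LD1_c5 LD2_c42 LD3_c31))))
theorem f172512 : Led Lsl_ct (LP (LK LD1_c5 LD2_c42 LD3_c31)) = (LP (LK LD1_c11 LD2_c15 LD3_c13)) :=
  Lre_c IH (LK LD1_c5 LD2_c42 LD3_c31) (LK LD1_c11 LD2_c15 LD3_c13) Lrfl Lrfl
theorem f197261 : Led Lsl_bt (LP (LK LD1_c4 LD2_c56 LD3_c54)) = (LP (LK LD1_c2 LD2_c26 LD3_c18)) :=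
  Lre_b IH (LK LD1_c4 LD2_c56 LD3_c54) (LK LD1_c2 LD2_c26 LD3_c18) Lrfl Lrfl
theorem f297143 : Led Lsl_at (LP (LK LD1_c9 LD2_c44 LD3_c58)) = (LP (LK LD1_c4 LD2_c56 LD3_c54)) :=
  Lre_a IH (LK LD1_c9 LD2_c44 LD3_c58) (LK LD1_c4 LD2_c56 LD3_c54) Lrfl Lrfl
theorem f297144 : Led Lsl_bt (LP (LK LD1_c8 LD2_c43 LD3_c26)) = (LP (LK LD1_c9 LD2_c44 LD3_c58)) :=
  Lgr Lrot62 (Lpe (K18.f297142 IH) (Lpe (f238728 IH) (Lpr_af (K18.f297138 IH) (Lpe (f197261 IH) (Lpe (f297143 IH) (Lpn (LP (LK LD1_c9 LD2_c44 LD3_c58))))))))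
theorem f385869 : Led Lsl_bt (LP (LK LD1_c8 LD2_c42 LD3_c54)) = (LP (LK LD1_c14 LD2_c58 LD3_c21)) :=
  Lgr Lrot35 (Lpr_ff (f385382 IH) (Lpe (f297144 IH) (Lpr_ff (K22.f331805 IH) (Lpn (LP (LK LD1_c14 LD2_c58 LD3_c21))))))
theorem f411695 : Led Lsl_gf (LP (LK LD1_c11 LD2_c15 LD3_c13)) = (LP (LK LD1_c16 LD2_c19 LD3_c26)) :=
  Lgr Lrot126 (Lpe (f172512 IH) (Lpe (f172509 IH) (Lpr_gt (f172538 IH) (Lpr_ct (f411685 IH) (Lpr_gt (f406939 IH) (Lpe (f406936 IH) (Lpe (f406930 IH) (Lpr_gt (f406921 IH) (Lpe (f385869 IH) (Lpr_ct (K30.f297108 IH) (Lpn (LP (LK LD1_c16 LD2_c19 LD3_c26)))))))))))))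
theorem f172534 : Led Lsl_ct (LP (LK LD1_c11 LD2_c15 LD3_c13)) = (LP (LK LD1_c5 LD2_c42 LD3_c31)) :=
  Lre_c IH (LK LD1_c11 LD2_c15 LD3_c13) (LK LD1_c5 LD2_c42 LD3_c31) Lrfl Lrfl
theorem f268845 : Led Lsl_at (LP (LK LD1_c1 LD2_c19 LD3_c61)) = (LP (LK LD1_c0 LD2_c37 LD3_c0)) :=
  Lre_a IH (LK LD1_c1 LD2_c19 LD3_c61) (LK LD1_c0 LD2_c37 LD3_c0) Lrfl Lrfl
theorem f280524 : Led Lsl_gf (LP (LK LD1_c1 LD2_c19 LD3_c60)) = (LP (LK LD1_c2 LD2_c13 LD3_c9)) :=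
  Lgr Lrot47 (Lpr_gt (f172434 IH) (Lpe (f268845 IH) (Lpr_ff (K20.f280511 IH) (Lpn (LP (LK LD1_c2 LD2_c13 LD3_c9))))))
theorem f172851 : Led Lsl_dt (LP (LK LD1_c2 LD2_c47 LD3_c19)) = (LP (LK LD1_c5 LD2_c42 LD3_c40)) :=
  Lre_d IH (LK LD1_c2 LD2_c47 LD3_c19) (LK LD1_c5 LD2_c42 LD3_c40) Lrfl Lrfl
theorem f411699 : Led Lsl_gt (LP (LK LD1_c5 LD2_c42 LD3_c40)) = (LP (LK LD1_c8 LD2_c42 LD3_c54)) :=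
  Lgr Lrot9 (Lpe (f172851 IH) (Lpr_gt (f281973 IH) (Lpr_ct (K16.f181735 IH) (Lpe (f280524 IH) (Lpr_ct (f172493 IH) (Lpe (f172503 IH) (Lpe (f172534 IH) (Lpr_gf (f411695 IH) (Lpe (K30.f297108 IH) (Lpn (LP (LK LD1_c8 LD2_c42 LD3_c54))))))))))))
theorem f385407 : Led Lsl_at (LP (LK LD1_c4 LD2_c22 LD3_c32)) = (LP (LK LD1_c8 LD2_c42 LD3_c54)) :=
  Lre_a IH (LK LD1_c4 LD2_c22 LD3_c32) (LK LD1_c8 LD2_c42 LD3_c54) Lrfl Lrfl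
theorem f168257 : Led Lsl_ct (LP (LK LD1_c9 LD2_c44 LD3_c59)) = (LP (LK LD1_c4 LD2_c56 LD3_c54)) :=
  Lre_c IH (LK LD1_c9 LD2_c44 LD3_c59) (LK LD1_c4 LD2_c56 LD3_c54) Lrfl Lrfl
theorem f297072 : Led Lsl_ff (LP (LK LD1_c4 LD2_c22 LD3_c32)) = (LP (LK LD1_c4 LD2_c56 LD3_c54)) :=
  Lgr Lrot23 (Lpr_ct (K18.f173338 IH) (Lpr_ft (K18.f297065 IH) (Lpr_ct (f168257 IH) (Lpn (LP (LK LD1_c4 LD2_c56 LD3_c54))))))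
theorem f411704 : Led Lsl_gf (LP (LK LD1_c5 LD2_c42 LD3_c40)) = (LP (LK LD1_c4 LD2_c56 LD3_c54)) :=
  Lgr Lrot47 (Lpr_gt (f411699 IH) (Lpe (f385407 IH) (Lpr_ff (f297072 IH) (Lpn (LP (LK LD1_c4 LD2_c56 LD3_c54))))))
theorem f411701 : Led Lsl_bt (LP (LK LD1_c11 LD2_c15 LD3_c28)) = (LP (LK LD1_c5 LD2_c42 LD3_c40)) :=
  Lre_b IH (LK LD1_c11 LD2_c15 LD3_c28) (LK LD1_c5 LD2_c42 LD3_c40) Lrfl Lrfl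
theorem f411702 : Led Lsl_ct (LP (LK LD1_c11 LD2_c15 LD3_c28)) = (LP (LK LD1_c20 LD2_c10 LD3_c35)) :=
  Lre_c IH (LK LD1_c11 LD2_c15 LD3_c28) (LK LD1_c20 LD2_c10 LD3_c35) Lrfl Lrfl
theorem f236499 : Led Lsl_bt (LP (LK LD1_c2 LD2_c26 LD3_c18)) = (LP (LK LD1_c4 LD2_c56 LD3_c54)) :=
  Lre_b IH (LK LD1_c2 LD2_c26 LD3_c18) (LK LD1_c4 LD2_c56 LD3_c54) Lrfl Lrfl
theorem f411723 : Led Lsl_gt (LP (LK LD1_c20 LD2_c10 LD3_c35)) = (LP (LK LD1_c14 LD2_c58 LD3_c60)) :=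
  Lgr Lrot65 (Lpe (f411702 IH) (Lpr_bt (f411701 IH) (Lpr_gf (f411704 IH) (Lpe (f236499 IH) (Lpr_ct (K13.f182335 IH) (Lpe (K13.f236488 IH) (Lpr_cf (K12.f39253 IH) (Lpr_gf (K12.f229408 IH) (Lpe (K18.f197735 IH) (Lpr_ct (K18.f197789 IH) (Lpn (LP (LK LD1_c14 LD2_c58 LD3_c60)))))))))))))
theorem f411725 : Led Lsl_gf (LP (LK LD1_c20 LD2_c10 LD3_c35)) = (LP (LK LD1_c16 LD2_c22 LD3_c39)) :=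
  Lgr Lrot47 (Lpr_gt (f411723 IH) (Lpe (f210768 IH) (Lpe (K18.f297399 IH) (Lpn (LP (LK LD1_c16 LD2_c22 LD3_c39))))))
theorem f411730 : Led Lsl_bf (LP (LK LD1_c11 LD2_c13 LD3_c22)) = (LP (LK LD1_c8 LD2_c44 LD3_c59)) :=
  Lgr Lrot34 (Lpe (f172538 IH) (Lpr_bf (f172509 IH) (Lpr_ct (f172512 IH) (Lpr_gf (f411695 IH) (Lpe (K30.f297108 IH) (Lpe (f411699 IH) (Lpe (f411701 IH) (Lpr_ct (f411702 IH) (Lpr_gf (f411725 IH) (Lpe (K18.f201541 IH) (Lpn (LP (LK LD1_c8 LD2_c44 LD3_c59)))))))))))))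
theorem f262276 : Led Lsl_bt (LP (LK LD1_c8 LD2_c44 LD3_c52)) = (LP (LK LD1_c14 LD2_c58 LD3_c59)) :=
  Lgr Lrot62 (Lpe (K30.f210425 IH) (Lpe (K30.f210328 IH) (Lpr_af (K15.f262270 IH) (Lpe (K18.f197735 IH) (Lpe (K18.f210756 IH) (Lpn (LP (LK LD1_c14 LD2_c58 LD3_c59))))))))
theorem f411739 : Led Lsl_ft (LP (LK LD1_c11 LD2_c13 LD3_c22)) = (LP (LK LD1_c8 LD2_c44 LD3_c52)) :=
  Lgr Lrot75 (Lpr_bf (f411730 IH) (Lpr_ff (K18.f297406 IH) (Lpe (f262276 IH) (Lpn (LP (LK LD1_c8 LD2_c44 LD3_c52))))))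
theorem f210440 : Led Lsl_at (LP (LK LD1_c8 LD2_c44 LD3_c52)) = (LP (LK LD1_c4 LD2_c23 LD3_c34)) :=
  Lre_a IH (LK LD1_c8 LD2_c44 LD3_c52) (LK LD1_c4 LD2_c23 LD3_c34) Lrfl Lrfl
theorem f411741 : Led Lsl_gt (LP (LK LD1_c11 LD2_c13 LD3_c22)) = (LP (LK LD1_c5 LD2_c41 LD3_c39)) :=
  Lgr Lrot5 (Lpr_ft (f411739 IH) (Lpr_at (f210440 IH) (Lpe (f281797 IH) (Lpn (LP (LK LD1_c5 LD2_c41 LD3_c39))))))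
theorem f411947 : Led Lsl_gt (LP (LK LD1_c20 LD2_c7 LD3_c30)) = (LP (LK LD1_c11 LD2_c13 LD3_c36)) :=
  Lgr Lrot49 (Lpr_df (f411938 IH) (Lpe (f406939 IH) (Lpe (f411685 IH) (Lpr_gt (f411741 IH) (Lpr_dt (f281802 IH) (Lpr_gt (f181559 IH) (Lpr_dt (K30.f181658 IH) (Lpe (K30.f181656 IH) (Lpe (K30.f181659 IH) (Lpn (LP (LK LD1_c11 LD2_c13 LD3_c36))))))))))))
theorem f281736 : Led Lsl_af (LP (LK LD1_c11 LD2_c13 LD3_c36)) = (LP (LK LD1_c16 LD2_c53 LD3_c16)) :=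
  Lgr Lrot68 (Lpr_ct (K30.f281734 IH) (Lpr_at (K30.f280603 IH) (Lpr_ct (K16.f269046 IH) (Lpn (LP (LK LD1_c16 LD2_c53 LD3_c16))))))
theorem f281749 : Led Lsl_ff (LP (LK LD1_c16 LD2_c53 LD3_c16)) = (LP (LK LD1_c11 LD2_c14 LD3_c3)) :=
  Lgr Lrot30 (Lpe (f281736 IH) (Lpr_ft (K30.f281747 IH) (Lpe (f268996 IH) (Lpn (LP (LK LD1_c11 LD2_c14 LD3_c3))))))
theorem f411949 : Led Lsl_gf (LP (LK LD1_c20 LD2_c7 LD3_c30)) = (LP (LK LD1_c11 LD2_c14 LD3_c3)) :=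
  Lgr Lrot47 (Lpr_gt (f411947 IH) (Lpr_af (f281736 IH) (Lpr_ff (f281749 IH) (Lpn (LP (LK LD1_c11 LD2_c14 LD3_c3))))))
theorem f411942 : Led Lsl_ct (LP (LK LD1_c20 LD2_c7 LD3_c30)) = (LP (LK LD1_c11 LD2_c12 LD3_c60)) :=
  Lre_c IH (LK LD1_c20 LD2_c7 LD3_c30) (LK LD1_c11 LD2_c12 LD3_c60) Lrfl Lrfl
theorem f411943 : Led Lsl_dt (LP (LK LD1_c11 LD2_c12 LD3_c60)) = (LP (LK LD1_c5 LD2_c41 LD3_c23)) :=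
  Lre_d IH (LK LD1_c11 LD2_c12 LD3_c60) (LK LD1_c5 LD2_c41 LD3_c23) Lrfl Lrfl
theorem f172609 : Led Lsl_ct (LP (LK LD1_c2 LD2_c48 LD3_c22)) = (LP (LK LD1_c1 LD2_c20 LD3_c23)) :=
  Lre_c IH (LK LD1_c2 LD2_c48 LD3_c22) (LK LD1_c1 LD2_c20 LD3_c23) Lrfl Lrfl
theorem f411972 : Led Lsl_gf (LP (LK LD1_c2 LD2_c46 LD3_c44)) = (LP (LK LD1_c1 LD2_c20 LD3_c23)) :=
  Lgr Lrot104 (Lpr_ct (f174965 IH) (Lpe (f411943 IH) (Lpe (f411942 IH) (Lpr_gf (f411949 IH) (Lpe (K16.f174352 IH) (Lpe (f174356 IH) (Lpe (f385806 IH) (Lpr_gt (f172621 IH) (Lpr_ct (f172609 IH) (Lpn (LP (LK LD1_c1 LD2_c20 LD3_c23))))))))))))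
theorem f174134 : Led Lsl_bt (LP (LK LD1_c4 LD2_c57 LD3_c33)) = (LP (LK LD1_c2 LD2_c26 LD3_c39)) :=
  Lre_b IH (LK LD1_c4 LD2_c57 LD3_c33) (LK LD1_c2 LD2_c26 LD3_c39) Lrfl Lrfl
theorem f175248 : Led Lsl_ct (LP (LK LD1_c4 LD2_c57 LD3_c33)) = (LP (LK LD1_c9 LD2_c45 LD3_c56)) :=
  Lre_c IH (LK LD1_c4 LD2_c57 LD3_c33) (LK LD1_c9 LD2_c45 LD3_c56) Lrfl Lrfl
theorem f411978 : Led Lsl_gt (LP (LK LD1_c5 LD2_c41 LD3_c23)) = (LP (LK LD1_c9 LD2_c45 LD3_c56)) :=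
  Lgr Lrot149 (Lpe (f174965 IH) (Lpr_gf (f411972 IH) (Lpe (K30.f172607 IH) (Lpr_ct (K9.f175080 IH) (Lpe (K9.f175085 IH) (Lpe (K1.f40983 IH) (Lpr_bt (K9.f168556 IH) (Lpe (K27.f79681 IH) (Lpe (f174134 IH) (Lpr_ct (f175248 IH) (Lpn (LP (LK LD1_c9 LD2_c45 LD3_c56)))))))))))))
theorem f411985 : Led Lsl_bt (LP (LK LD1_c2 LD2_c46 LD3_c44)) = (LP (LK LD1_c5 LD2_c41 LD3_c18)) :=
  Lre_b IH (LK LD1_c2 LD2_c46 LD3_c44) (LK LD1_c5 LD2_c41 LD3_c18) Lrfl Lrfl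
theorem f411986 : Led Lsl_bf (LP (LK LD1_c11 LD2_c12 LD3_c51)) = (LP (LK LD1_c5 LD2_c44 LD3_c10)) :=
  Lgr Lrot156 (Lpr_gt (f181538 IH) (Lpe (f411985 IH) (Lpr_ct (f174965 IH) (Lpr_gt (f411978 IH) (Lpe (f175248 IH) (Lpr_bt (f174134 IH) (Lpr_gt (K27.f79681 IH) (Lpr_ct (K28.f168858 IH) (Lpr_gt (K27.f168859 IH) (Lpr_cf (K28.f384164 IH) (Lpn (LP (LK LD1_c5 LD2_c44 LD3_c10)))))))))))))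
theorem f411992 : Led Lsl_bt (LP (LK LD1_c11 LD2_c12 LD3_c51)) = (LP (LK LD1_c5 LD2_c44 LD3_c10)) :=
  Lgr Lrot127 (Lpr_bf (f411986 IH) (Lpn (LP (LK LD1_c5 LD2_c44 LD3_c10))))
theorem f383556 : Led Lsl_at (LP (LK LD1_c5 LD2_c44 LD3_c10)) = (LP (LK LD1_c2 LD2_c48 LD3_c3)) :=
  Lre_a IH (LK LD1_c5 LD2_c44 LD3_c10) (LK LD1_c2 LD2_c48 LD3_c3) Lrfl Lrfl
theorem f382432 : Led Lsl_bt (LP (LK LD1_c2 LD2_c47 LD3_c61)) = (LP (LK LD1_c5 LD2_c43 LD3_c58)) :=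
  Lre_b IH (LK LD1_c2 LD2_c47 LD3_c61) (LK LD1_c5 LD2_c43 LD3_c58) Lrfl Lrfl
theorem f411994 : Led Lsl_af (LP (LK LD1_c11 LD2_c12 LD3_c51)) = (LP (LK LD1_c5 LD2_c43 LD3_c58)) :=
  Lgr Lrot36 (Lpr_bt (f411992 IH) (Lpr_at (f383556 IH) (Lpr_bt (K27.f172142 IH) (Lpe (K27.f383543 IH) (Lpr_bt (f382432 IH) (Lpn (LP (LK LD1_c5 LD2_c43 LD3_c58))))))))
theorem f171856 : Led Lsl_bt (LP (LK LD1_c5 LD2_c43 LD3_c58)) = (LP (LK LD1_c2 LD2_c47 LD3_c61)) :=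
  Lre_b IH (LK LD1_c5 LD2_c43 LD3_c58) (LK LD1_c2 LD2_c47 LD3_c61) Lrfl Lrfl
theorem f381550 : Led Lsl_bt (LP (LK LD1_c1 LD2_c20 LD3_c18)) = (LP (LK LD1_c2 LD2_c48 LD3_c6)) :=
  Lre_b IH (LK LD1_c1 LD2_c20 LD3_c18) (LK LD1_c2 LD2_c48 LD3_c6) Lrfl Lrfl
theorem f383650 : Led Lsl_ff (LP (LK LD1_c5 LD2_c43 LD3_c58)) = (LP (LK LD1_c2 LD2_c48 LD3_c6)) :=
  Lgr Lrot25 (Lpr_bt (f171856 IH) (Lpr_ft (K27.f383646 IH) (Lpr_bt (f381550 IH) (Lpn (LP (LK LD1_c2 LD2_c48 LD3_c6))))))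
theorem f423282 : Led Lsl_gt (LP (LK LD1_c2 LD2_c48 LD3_c6)) = (LP (LK LD1_c5 LD2_c43 LD3_c38)) :=
  Lgr Lrot5 (Lpe (f383650 IH) (Lpe (f411994 IH) (Lpr_gf (f423279 IH) (Lpn (LP (LK LD1_c5 LD2_c43 LD3_c38))))))
theorem f384043 : Led Lsl_at (LP (LK LD1_c5 LD2_c44 LD3_c22)) = (LP (LK LD1_c2 LD2_c48 LD3_c6)) :=
  Lre_a IH (LK LD1_c5 LD2_c44 LD3_c22) (LK LD1_c2 LD2_c48 LD3_c6) Lrfl Lrfl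
theorem f411996 : Led Lsl_ft (LP (LK LD1_c11 LD2_c12 LD3_c51)) = (LP (LK LD1_c5 LD2_c44 LD3_c22)) :=
  Lgr Lrot101 (Lpr_af (f411994 IH) (Lpr_ff (f383650 IH) (Lpe (f384043 IH) (Lpn (LP (LK LD1_c5 LD2_c44 LD3_c22))))))
theorem f412000 : Led Lsl_gt (LP (LK LD1_c5 LD2_c41 LD3_c18)) = (LP (LK LD1_c2 LD2_c48 LD3_c6)) :=
  Lgr Lrot46 (Lpe (f181538 IH) (Lpr_ft (f411996 IH) (Lpr_at (f384043 IH) (Lpn (LP (LK LD1_c2 LD2_c48 LD3_c6))))))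
theorem f382045 : Led Lsl_dt (LP (LK LD1_c5 LD2_c43 LD3_c38)) = (LP (LK LD1_c2 LD2_c47 LD3_c50)) :=
  Lre_d IH (LK LD1_c5 LD2_c43 LD3_c38) (LK LD1_c2 LD2_c47 LD3_c50) Lrfl Lrfl
theorem f423247 : Led Lsl_at (LP (LK LD1_c5 LD2_c40 LD3_c20)) = (LP (LK LD1_c5 LD2_c43 LD3_c38)) :=
  Lgr Lrot51 (Lpe (f181292 IH) (Lpr_af (f423243 IH) (Lpe (f382045 IH) (Lpn (LP (LK LD1_c5 LD2_c43 LD3_c38))))))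
theorem f423284 : Led Lsl_ft (LP (LK LD1_c5 LD2_c41 LD3_c18)) = (LP (LK LD1_c5 LD2_c40 LD3_c20)) :=
  Lgr Lrot2 (Lpr_gt (f412000 IH) (Lpr_gt (f423282 IH) (Lpe (f423247 IH) (Lpn (LP (LK LD1_c5 LD2_c40 LD3_c20))))))
theorem f423292 : Led Lsl_ff (LP (LK LD1_c5 LD2_c41 LD3_c18)) = (LP (LK LD1_c5 LD2_c40 LD3_c20)) :=
  Lgr Lrot3 (Lpr_ft (f423284 IH) (Lpn (LP (LK LD1_c5 LD2_c40 LD3_c20))))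
theorem f423254 : Led Lsl_ct (LP (LK LD1_c11 LD2_c7 LD3_c42)) = (LP (LK LD1_c11 LD2_c7 LD3_c45)) :=
  Lgr Lrot59 (Lpr_cf (f423251 IH) (Lpn (LP (LK LD1_c11 LD2_c7 LD3_c45))))
theorem f423206 : Led Lsl_dt (LP (LK LD1_c11 LD2_c7 LD3_c45)) = (LP (LK LD1_c5 LD2_c38 LD3_c14)) :=
  Lre_d IH (LK LD1_c11 LD2_c7 LD3_c45) (LK LD1_c5 LD2_c38 LD3_c14) Lrfl Lrfl
theorem f423299 : Led Lsl_at (LP (LK LD1_c5 LD2_c41 LD3_c18)) = (LP (LK LD1_c5 LD2_c40 LD3_c18)) :=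
  Lgr Lrot33 (Lpr_ff (f423292 IH) (Lpr_dt (f181272 IH) (Lpr_ct (K30.f181226 IH) (Lpr_dt (f423188 IH) (Lpr_ct (f380425 IH) (Lpr_dt (f380427 IH) (Lpr_ct (f423254 IH) (Lpr_dt (f423206 IH) (Lpe (f423202 IH) (Lpn (LP (LK LD1_c5 LD2_c40 LD3_c18))))))))))))
theorem f181474 : Led Lsl_dt (LP (LK LD1_c2 LD2_c46 LD3_c42)) = (LP (LK LD1_c5 LD2_c41 LD3_c18)) :=
  Lre_d IH (LK LD1_c2 LD2_c46 LD3_c42) (LK LD1_c5 LD2_c41 LD3_c18) Lrfl Lrfl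
theorem f423303 : Led Lsl_af (LP (LK LD1_c2 LD2_c46 LD3_c42)) = (LP (LK LD1_c2 LD2_c46 LD3_c6)) :=
  Lgr Lrot117 (Lpr_dt (f181474 IH) (Lpr_at (f423299 IH) (Lpr_dt (f382013 IH) (Lpn (LP (LK LD1_c2 LD2_c46 LD3_c6))))))
theorem f423312 : Led Lsl_at (LP (LK LD1_c2 LD2_c12 LD3_c61)) = (LP (LK LD1_c1 LD2_c19 LD3_c25)) :=
  Lgr Lrot107 (Lpe (K10.f181469 IH) (Lpr_af (f423303 IH) (Lpe (K30.f380256 IH) (Lpn (LP (LK LD1_c1 LD2_c19 LD3_c25))))))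
theorem f424126 : Led Lsl_af (LP (LK LD1_c4 LD2_c31 LD3_c57)) = (LP (LK LD1_c8 LD2_c44 LD3_c19)) :=
  Lgr Lrot36 (Lpr_bt (K10.f174840 IH) (Lpr_at (f423312 IH) (Lpr_bt (f382010 IH) (Lpr_at (f423326 IH) (Lpr_bt (f424124 IH) (Lpn (LP (LK LD1_c8 LD2_c44 LD3_c19))))))))
theorem f424143 : Led Lsl_gt (LP (LK LD1_c2 LD2_c26 LD3_c29)) = (LP (LK LD1_c4 LD2_c31 LD3_c57)) :=
  Lgr Lrot46 (Lpe (f172461 IH) (Lpr_ft (f424139 IH) (Lpe (f424126 IH) (Lpn (LP (LK LD1_c4 LD2_c31 LD3_c57))))))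
theorem f495870 : Led Lsl_gt (LP (LK LD1_c4 LD2_c31 LD3_c48)) = (LP (LK LD1_c2 LD2_c26 LD3_c30)) :=
  Lgr Lrot149 (Lpr_cf (K30.f495865 IH) (Lpe (K30.f495860 IH) (Lpe (K30.f381703 IH) (Lpr_ct (K27.f381955 IH) (Lpr_gf (K30.f381829 IH) (Lpr_cf (K10.f181534 IH) (Lpr_bt (K30.f174821 IH) (Lpe (f424143 IH) (Lpe (f172460 IH) (Lpr_ct (f172431 IH) (Lpn (LP (LK LD1_c2 LD2_c26 LD3_c30)))))))))))))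
theorem f495871 : Led Lsl_gt (LP (LK LD1_c4 LD2_c31 LD3_c48)) = (LP (LK LD1_c2 LD2_c26 LD3_c30)) :=
  Leop (Lpe (f495870 IH) (Lpn (LP (LK LD1_c4 LD2_c31 LD3_c48))))
theorem seed_112 : LEOK LG_g (LK LD1_c4 LD2_c31 LD3_c48) :=
  Leoe_g (LK LD1_c4 LD2_c31 LD3_c48) (f495871 IH)
def v1504 : LQ := Led Lsl_at (LP (LK LD1_c1 LD2_c20 LD3_c29))
theorem f495925 : Led Lsl_at (LP (LK LD1_c1 LD2_c20 LD3_c29)) = v1504 :=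
  Lrfl
theorem f495926 : Led Lsl_af (LP (LK LD1_c1 LD2_c20 LD3_c29)) = v1504 :=
  Lgr Lrot0 (Lpr_at (f495925 IH) (Lpn v1504))
theorem f140576 : Led Lsl_ct (LP (LK LD1_c2 LD2_c48 LD3_c43)) = (LP (LK LD1_c1 LD2_c20 LD3_c29)) :=
  Lre_c IH (LK LD1_c2 LD2_c48 LD3_c43) (LK LD1_c1 LD2_c20 LD3_c29) Lrfl Lrfl
theorem f140262 : Led Lsl_dt (LP (LK LD1_c5 LD2_c45 LD3_c56)) = (LP (LK LD1_c2 LD2_c48 LD3_c43)) :=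
  Lre_d IH (LK LD1_c5 LD2_c45 LD3_c56) (LK LD1_c2 LD2_c48 LD3_c43) Lrfl Lrfl
theorem f495929 : Led Lsl_ft (LP (LK LD1_c1 LD2_c20 LD3_c30)) = v1504 :=
  Lgr Lrot2 (Lpr_gt (K1.f59814 IH) (Lpr_gt (K9.f140245 IH) (Lpr_af (f495926 IH) (Lpn v1504))))
theorem f140237 : Led Lsl_dt (LP (LK LD1_c1 LD2_c20 LD3_c30)) = (LP (LK LD1_c2 LD2_c48 LD3_c48)) :=
  Lre_d IH (LK LD1_c1 LD2_c20 LD3_c30) (LK LD1_c2 LD2_c48 LD3_c48) Lrfl Lrfl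
theorem f140236 : Led Lsl_ct (LP (LK LD1_c1 LD2_c24 LD3_c30)) = (LP (LK LD1_c0 LD2_c38 LD3_c57)) :=
  Lre_c IH (LK LD1_c1 LD2_c24 LD3_c30) (LK LD1_c0 LD2_c38 LD3_c57) Lrfl Lrfl
theorem f27121 : Led Lsl_gt (LP (LK LD1_c0 LD2_c38 LD3_c57)) = (LP (LK LD1_c1 LD2_c5 LD3_c10)) :=
  Lre_g IH (LK LD1_c0 LD2_c38 LD3_c57) (LK LD1_c1 LD2_c5 LD3_c10) Lrfl Lrfl
theorem f83264 : Led Lsl_dt (LP (LK LD1_c1 LD2_c38 LD3_c28)) = (LP (LK LD1_c3 LD2_c9 LD3_c21)) :=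
  Lgr Lrot42 (Lpr_df (K2.f83255 IH) (Lpn (LP (LK LD1_c3 LD2_c9 LD3_c21))))
theorem f67055 : Led Lsl_gt (LP (LK LD1_c3 LD2_c8 LD3_c21)) = (LP (LK LD1_c1 LD2_c30 LD3_c23)) :=
  Lre_g IH (LK LD1_c3 LD2_c8 LD3_c21) (LK LD1_c1 LD2_c30 LD3_c23) Lrfl Lrfl
theorem f83258 : Led Lsl_ft (LP (LK LD1_c3 LD2_c9 LD3_c21)) = (LP (LK LD1_c1 LD2_c30 LD3_c49)) :=
  Lre_f IH (LK LD1_c3 LD2_c9 LD3_c21) (LK LD1_c1 LD2_c30 LD3_c49) Lrfl Lrfl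
theorem f83555 : Led Lsl_gf (LP (LK LD1_c3 LD2_c8 LD3_c21)) = (LP (LK LD1_c3 LD2_c9 LD3_c21)) :=
  Lgr Lrot47 (Lpr_gt (f67055 IH) (Lpr_af (K6.f83551 IH) (Lpe (f83258 IH) (Lpn (LP (LK LD1_c3 LD2_c9 LD3_c21))))))
theorem f66985 : Led Lsl_et (LP (LK LD1_c3 LD2_c6 LD3_c61)) = (LP (LK LD1_c1 LD2_c29 LD3_c37)) :=
  Lre_e IH (LK LD1_c3 LD2_c6 LD3_c61) (LK LD1_c1 LD2_c29 LD3_c37) Lrfl Lrfl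
theorem f67056 : Led Lsl_dt (LP (LK LD1_c3 LD2_c6 LD3_c61)) = (LP (LK LD1_c3 LD2_c8 LD3_c21)) :=
  Lgr Lrot136 (Lpr_et (f66985 IH) (Lpe (K9.f66976 IH) (Lpe (K2.f66945 IH) (Lpr_dt (K2.f25184 IH) (Lpr_gf (K1.f67039 IH) (Lpe (K1.f58928 IH) (Lpr_gf (K1.f58929 IH) (Lpe (K2.f58907 IH) (Lpr_dt (K2.f58925 IH) (Lpe (f67055 IH) (Lpn (LP (LK LD1_c3 LD2_c8 LD3_c21)))))))))))))
theorem f67059 : Led Lsl_df (LP (LK LD1_c3 LD2_c6 LD3_c61)) = (LP (LK LD1_c3 LD2_c8 LD3_c21)) :=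
  Lgr Lrot38 (Lpr_dt (f67056 IH) (Lpn (LP (LK LD1_c3 LD2_c8 LD3_c21))))
theorem f140238 : Led Lsl_ct (LP (LK LD1_c2 LD2_c48 LD3_c48)) = (LP (LK LD1_c3 LD2_c6 LD3_c61)) :=
  Lgr Lrot7 (Lpe (f140237 IH) (Lpe (K1.f27144 IH) (Lpe (K1.f27143 IH) (Lpe (f27121 IH) (Lpe (f140236 IH) (Lpr_gt (K9.f140231 IH) (Lpr_dt (f83264 IH) (Lpe (f83555 IH) (Lpe (f67059 IH) (Lpn (LP (LK LD1_c3 LD2_c6 LD3_c61))))))))))))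
theorem f116886 : Led Lsl_ct (LP (LK LD1_c2 LD2_c16 LD3_c2)) = (LP (LK LD1_c4 LD2_c37 LD3_c42)) :=
  Lre_c IH (LK LD1_c2 LD2_c16 LD3_c2) (LK LD1_c4 LD2_c37 LD3_c42) Lrfl Lrfl
theorem f415600 : Led Lsl_gt (LP (LK LD1_c4 LD2_c37 LD3_c42)) = (LP (LK LD1_c9 LD2_c10 LD3_c59)) :=
  Lre_g IH (LK LD1_c4 LD2_c37 LD3_c42) (LK LD1_c9 LD2_c10 LD3_c59) Lrfl Lrfl
theorem f414490 : Led Lsl_bf (LP (LK LD1_c6 LD2_c46 LD3_c27)) = (LP (LK LD1_c9 LD2_c32 LD3_c9)) :=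
  Lgr Lrot34 (Lpr_gf (K17.f413898 IH) (Lpe (K17.f413904 IH) (Lpr_ct (K17.f414482 IH) (Lpe (K17.f414225 IH) (Lpe (K17.f75026 IH) (Lpe (K17.f77002 IH) (Lpe (K17.f77003 IH) (Lpr_ct (K17.f414090 IH) (Lpe (K17.f414226 IH) (Lpe (K17.f413833 IH) (Lpn (LP (LK LD1_c9 LD2_c32 LD3_c9)))))))))))))
theorem f413900 : Led Lsl_ct (LP (LK LD1_c12 LD2_c56 LD3_c24)) = (LP (LK LD1_c6 LD2_c46 LD3_c27)) :=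
  Lre_c IH (LK LD1_c12 LD2_c56 LD3_c24) (LK LD1_c6 LD2_c46 LD3_c27) Lrfl Lrfl
theorem f414025 : Led Lsl_et (LP (LK LD1_c6 LD2_c46 LD3_c27)) = (LP (LK LD1_c8 LD2_c0 LD3_c24)) :=
  Lgr Lrot158 (Lpe (f413900 IH) (Lpr_ef (K17.f414022 IH) (Lpe (K24.f414024 IH) (Lpn (LP (LK LD1_c8 LD2_c0 LD3_c24))))))
theorem f413804 : Led Lsl_at (LP (LK LD1_c9 LD2_c32 LD3_c9)) = (LP (LK LD1_c4 LD2_c49 LD3_c46)) :=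
  Lre_a IH (LK LD1_c9 LD2_c32 LD3_c9) (LK LD1_c4 LD2_c49 LD3_c46) Lrfl Lrfl
theorem f77387 : Led Lsl_at (LP (LK LD1_c2 LD2_c27 LD3_c46)) = (LP (LK LD1_c4 LD2_c59 LD3_c20)) :=
  Lre_a IH (LK LD1_c2 LD2_c27 LD3_c46) (LK LD1_c4 LD2_c59 LD3_c20) Lrfl Lrfl
theorem f413805 : Led Lsl_ef (LP (LK LD1_c9 LD2_c32 LD3_c9)) = (LP (LK LD1_c4 LD2_c59 LD3_c20)) :=
  Lgr Lrot20 (Lpr_at (f413804 IH) (Lpr_et (K17.f413764 IH) (Lpr_at (f77387 IH) (Lpn (LP (LK LD1_c4 LD2_c59 LD3_c20))))))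
theorem f415080 : Led Lsl_bt (LP (LK LD1_c8 LD2_c0 LD3_c24)) = (LP (LK LD1_c4 LD2_c59 LD3_c20)) :=
  Lgr Lrot119 (Lpe (f414025 IH) (Lpr_bf (f414490 IH) (Lpr_ef (f413805 IH) (Lpn (LP (LK LD1_c4 LD2_c59 LD3_c20))))))
theorem f75466 : Led Lsl_gt (LP (LK LD1_c2 LD2_c27 LD3_c44)) = (LP (LK LD1_c4 LD2_c59 LD3_c20)) :=
  Lre_g IH (LK LD1_c2 LD2_c27 LD3_c44) (LK LD1_c4 LD2_c59 LD3_c20) Lrfl Lrfl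
theorem f415088 : Led Lsl_bt (LP (LK LD1_c4 LD2_c59 LD3_c54)) = (LP (LK LD1_c2 LD2_c27 LD3_c44)) :=
  Lre_b IH (LK LD1_c4 LD2_c59 LD3_c54) (LK LD1_c2 LD2_c27 LD3_c44) Lrfl Lrfl
theorem f415601 : Led Lsl_cf (LP (LK LD1_c9 LD2_c10 LD3_c59)) = (LP (LK LD1_c4 LD2_c59 LD3_c54)) :=
  Lgr Lrot163 (Lpe (f415600 IH) (Lpe (f116886 IH) (Lpe (K24.f142127 IH) (Lpe (K24.f415560 IH) (Lpr_ct (K24.f415561 IH) (Lpe (K24.f414044 IH) (Lpe (K24.f414024 IH) (Lpr_bt (f415080 IH) (Lpe (f75466 IH) (Lpe (f415088 IH) (Lpn (LP (LK LD1_c4 LD2_c59 LD3_c54)))))))))))))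
theorem f116887 : Led Lsl_gt (LP (LK LD1_c9 LD2_c10 LD3_c59)) = (LP (LK LD1_c4 LD2_c38 LD3_c14)) :=
  Lre_g IH (LK LD1_c9 LD2_c10 LD3_c59) (LK LD1_c4 LD2_c38 LD3_c14) Lrfl Lrfl
theorem f415836 : Led Lsl_ct (LP (LK LD1_c2 LD2_c16 LD3_c14)) = (LP (LK LD1_c4 LD2_c38 LD3_c14)) :=
  Lre_c IH (LK LD1_c2 LD2_c16 LD3_c14) (LK LD1_c4 LD2_c38 LD3_c14) Lrfl Lrfl
theorem f415837 : Led Lsl_bt (LP (LK LD1_c2 LD2_c16 LD3_c14)) = (LP (LK LD1_c1 LD2_c5 LD3_c10)) :=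
  Lre_b IH (LK LD1_c2 LD2_c16 LD3_c14) (LK LD1_c1 LD2_c5 LD3_c10) Lrfl Lrfl
theorem f415838 : Led Lsl_ct (LP (LK LD1_c0 LD2_c38 LD3_c58)) = (LP (LK LD1_c1 LD2_c24 LD3_c34)) :=
  Lre_c IH (LK LD1_c0 LD2_c38 LD3_c58) (LK LD1_c1 LD2_c24 LD3_c34) Lrfl Lrfl
theorem f77408 : Led Lsl_gt (LP (LK LD1_c1 LD2_c10 LD3_c61)) = (LP (LK LD1_c2 LD2_c27 LD3_c44)) :=
  Lre_g IH (LK LD1_c1 LD2_c10 LD3_c61) (LK LD1_c2 LD2_c27 LD3_c44) Lrfl Lrfl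
theorem f40952 : Led Lsl_bt (LP (LK LD1_c0 LD2_c32 LD3_c56)) = (LP (LK LD1_c1 LD2_c10 LD3_c61)) :=
  Lre_b IH (LK LD1_c0 LD2_c32 LD3_c56) (LK LD1_c1 LD2_c10 LD3_c61) Lrfl Lrfl
theorem f415839 : Led Lsl_gt (LP (LK LD1_c1 LD2_c24 LD3_c34)) = (LP (LK LD1_c0 LD2_c41 LD3_c45)) :=
  Lgr Lrot149 (Lpe (f415838 IH) (Lpe (K17.f180314 IH) (Lpe (f415837 IH) (Lpr_ct (f415836 IH) (Lpe (f116887 IH) (Lpr_cf (f415601 IH) (Lpr_bt (f415088 IH) (Lpe (f77408 IH) (Lpe (f40952 IH) (Lpr_ct (K2.f58908 IH) (Lpn (LP (LK LD1_c0 LD2_c41 LD3_c45)))))))))))))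
theorem f415841 : Led Lsl_gf (LP (LK LD1_c1 LD2_c24 LD3_c34)) = (LP (LK LD1_c1 LD2_c38 LD3_c28)) :=
  Lgr Lrot47 (Lpr_gt (f415839 IH) (Lpr_af (K9.f77339 IH) (Lpe (K9.f40501 IH) (Lpn (LP (LK LD1_c1 LD2_c38 LD3_c28))))))
theorem f415843 : Led Lsl_ct (LP (LK LD1_c1 LD2_c24 LD3_c34)) = (LP (LK LD1_c0 LD2_c38 LD3_c58)) :=
  Lre_c IH (LK LD1_c1 LD2_c24 LD3_c34) (LK LD1_c0 LD2_c38 LD3_c58) Lrfl Lrfl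
theorem f140849 : Led Lsl_ct (LP (LK LD1_c0 LD2_c17 LD3_c18)) = (LP (LK LD1_c0 LD2_c31 LD3_c21)) :=
  Lre_c IH (LK LD1_c0 LD2_c17 LD3_c18) (LK LD1_c0 LD2_c31 LD3_c21) Lrfl Lrfl
theorem f135601 : Led Lsl_ct (LP (LK LD1_c2 LD2_c22 LD3_c56)) = (LP (LK LD1_c1 LD2_c8 LD3_c34)) :=
  Lre_c IH (LK LD1_c2 LD2_c22 LD3_c56) (LK LD1_c1 LD2_c8 LD3_c34) Lrfl Lrfl
theorem f7522 : Led Lsl_gt (LP (LK LD1_c4 LD2_c50 LD3_c16)) = (LP (LK LD1_c2 LD2_c22 LD3_c56)) :=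
  Lre_g IH (LK LD1_c4 LD2_c50 LD3_c16) (LK LD1_c2 LD2_c22 LD3_c56) Lrfl Lrfl
theorem f415893 : Led Lsl_cf (LP (LK LD1_c4 LD2_c50 LD3_c16)) = (LP (LK LD1_c3 LD2_c8 LD3_c21)) :=
  Lgr Lrot169 (Lpr_gt (f7522 IH) (Lpr_ct (f135601 IH) (Lpe (K16.f135600 IH) (Lpe (f140849 IH) (Lpe (K17.f172564 IH) (Lpe (f415843 IH) (Lpr_gf (f415841 IH) (Lpr_df (K2.f83255 IH) (Lpe (f83555 IH) (Lpn (LP (LK LD1_c3 LD2_c8 LD3_c21))))))))))))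
theorem f415544 : Led Lsl_dt (LP (LK LD1_c4 LD2_c50 LD3_c16)) = (LP (LK LD1_c9 LD2_c32 LD3_c53)) :=
  Lre_d IH (LK LD1_c4 LD2_c50 LD3_c16) (LK LD1_c9 LD2_c32 LD3_c53) Lrfl Lrfl
theorem f495930 : Led Lsl_cf (LP (LK LD1_c5 LD2_c45 LD3_c56)) = (LP (LK LD1_c9 LD2_c32 LD3_c53)) :=
  Lgr Lrot161 (Lpr_dt (f140262 IH) (Lpr_ct (f140576 IH) (Lpr_af (f495926 IH) (Lpe (f495929 IH) (Lpr_dt (f140237 IH) (Lpr_ct (f140238 IH) (Lpr_dt (f67056 IH) (Lpe (f415893 IH) (Lpr_dt (f415544 IH) (Lpn (LP (LK LD1_c9 LD2_c32 LD3_c53))))))))))))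
theorem f495931 : Led Lsl_ct (LP (LK LD1_c9 LD2_c32 LD3_c53)) = (LP (LK LD1_c5 LD2_c45 LD3_c56)) :=
  Leop (Lpr_cf (f495930 IH) (Lpn (LP (LK LD1_c9 LD2_c32 LD3_c53))))
theorem seed_113 : LEOK LG_c (LK LD1_c9 LD2_c32 LD3_c53) :=
  Leoe_c (LK LD1_c9 LD2_c32 LD3_c53) (f495931 IH)
def v1526 : LQ := Led Lsl_ft (LP (LK LD1_c1 LD2_c21 LD3_c7))
theorem f496054 : Led Lsl_ft (LP (LK LD1_c1 LD2_c21 LD3_c7)) = v1526 :=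
  Lrfl
theorem f206046 : Led Lsl_gt (LP (LK LD1_c1 LD2_c21 LD3_c7)) = (LP (LK LD1_c2 LD2_c50 LD3_c7)) :=
  Lre_g IH (LK LD1_c1 LD2_c21 LD3_c7) (LK LD1_c2 LD2_c50 LD3_c7) Lrfl Lrfl
theorem f146382 : Led Lsl_at (LP (LK LD1_c0 LD2_c37 LD3_c29)) = (LP (LK LD1_c1 LD2_c21 LD3_c7)) :=
  Lre_a IH (LK LD1_c0 LD2_c37 LD3_c29) (LK LD1_c1 LD2_c21 LD3_c7) Lrfl Lrfl
def v393 : LQ := Led Lsl_ft (LP (LK LD1_c0 LD2_c37 LD3_c29))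
theorem f452606 : Led Lsl_ft (LP (LK LD1_c0 LD2_c37 LD3_c29)) = v393 :=
  Lrfl
theorem f452608 : Led Lsl_ff (LP (LK LD1_c0 LD2_c37 LD3_c29)) = v393 :=
  Lgr Lrot3 (Lpr_ft (f452606 IH) (Lpn v393))
theorem f496055 : Led Lsl_af v393 = v1526 :=
  Lgr Lrot45 (Lpe (f452608 IH) (Lpr_at (f146382 IH) (Lpr_ft (f496054 IH) (Lpn v1526))))
theorem f496057 : Led Lsl_gt (LP (LK LD1_c2 LD2_c50 LD3_c7)) = v393 :=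
  Lgr Lrot46 (Lpe (f206046 IH) (Lpr_ft (f496054 IH) (Lpe (f496055 IH) (Lpn v393))))
theorem f205226 : Led Lsl_bt (LP (LK LD1_c0 LD2_c37 LD3_c29)) = (LP (LK LD1_c0 LD2_c16 LD3_c43)) :=
  Lre_b IH (LK LD1_c0 LD2_c37 LD3_c29) (LK LD1_c0 LD2_c16 LD3_c43) Lrfl Lrfl
theorem f146381 : Led Lsl_bt (LP (LK LD1_c0 LD2_c16 LD3_c43)) = (LP (LK LD1_c0 LD2_c37 LD3_c29)) :=
  Lre_b IH (LK LD1_c0 LD2_c16 LD3_c43) (LK LD1_c0 LD2_c37 LD3_c29) Lrfl Lrfl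
theorem f422768 : Led Lsl_cf (LP (LK LD1_c0 LD2_c37 LD3_c29)) = (LP (LK LD1_c0 LD2_c37 LD3_c29)) :=
  Lgr Lrot97 (Lpr_bt (f205226 IH) (Lpr_ct (K11.f61313 IH) (Lpr_bt (K11.f176873 IH) (Lpr_ct (K11.f61311 IH) (Lpr_bt (f146381 IH) (Lpn (LP (LK LD1_c0 LD2_c37 LD3_c29))))))))
theorem f452610 : Led Lsl_ct v393 = v393 :=
  Lgr Lrot40 (Lpe (f452606 IH) (Lpr_cf (f422768 IH) (Lpr_ff (f452608 IH) (Lpn v393))))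
theorem f452607 : Led Lsl_bf (LP (LK LD1_c0 LD2_c37 LD3_c34)) = v393 :=
  Lgr Lrot61 (Lpr_ft (K11.f146367 IH) (Lpr_bt (f146381 IH) (Lpr_ft (f452606 IH) (Lpn v393))))
theorem f59007 : Led Lsl_bt (LP (LK LD1_c0 LD2_c18 LD3_c21)) = (LP (LK LD1_c0 LD2_c40 LD3_c60)) :=
  Lre_b IH (LK LD1_c0 LD2_c18 LD3_c21) (LK LD1_c0 LD2_c40 LD3_c60) Lrfl Lrfl
theorem f59008 : Led Lsl_gt (LP (LK LD1_c0 LD2_c40 LD3_c60)) = (LP (LK LD1_c1 LD2_c28 LD3_c40)) :=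
  Lre_g IH (LK LD1_c0 LD2_c40 LD3_c60) (LK LD1_c1 LD2_c28 LD3_c40) Lrfl Lrfl
theorem f211012 : Led Lsl_bt (LP (LK LD1_c3 LD2_c5 LD3_c16)) = (LP (LK LD1_c1 LD2_c28 LD3_c40)) :=
  Lre_b IH (LK LD1_c3 LD2_c5 LD3_c16) (LK LD1_c1 LD2_c28 LD3_c40) Lrfl Lrfl
theorem f496058 : Led Lsl_cf (LP (LK LD1_c2 LD2_c50 LD3_c7)) = (LP (LK LD1_c3 LD2_c5 LD3_c16)) :=
  Lgr Lrot160 (Lpr_gt (f496057 IH) (Lpe (f452610 IH) (Lpe (f452607 IH) (Lpr_gt (K11.f211004 IH) (Lpr_ct (K16.f59022 IH) (Lpr_gt (K9.f59013 IH) (Lpe (K11.f59003 IH) (Lpr_bt (f59007 IH) (Lpr_gt (f59008 IH) (Lpe (f211012 IH) (Lpn (LP (LK LD1_c3 LD2_c5 LD3_c16)))))))))))))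
theorem f496059 : Led Lsl_ct (LP (LK LD1_c3 LD2_c5 LD3_c16)) = (LP (LK LD1_c2 LD2_c50 LD3_c7)) :=
  Leop (Lpr_cf (f496058 IH) (Lpn (LP (LK LD1_c3 LD2_c5 LD3_c16))))
theorem seed_114 : LEOK LG_c (LK LD1_c3 LD2_c5 LD3_c16) :=
  Leoe_c (LK LD1_c3 LD2_c5 LD3_c16) (f496059 IH)
def v1531 : LQ := Led Lsl_ft (LP (LK LD1_c1 LD2_c21 LD3_c13))
theorem f496094 : Led Lsl_ft (LP (LK LD1_c1 LD2_c21 LD3_c13)) = v1531 :=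
  Lrfl
theorem f496098 : Led Lsl_ff (LP (LK LD1_c1 LD2_c21 LD3_c13)) = v1531 :=
  Lgr Lrot3 (Lpr_ft (f496094 IH) (Lpn v1531))
theorem f206044 : Led Lsl_at (LP (LK LD1_c1 LD2_c21 LD3_c13)) = (LP (LK LD1_c2 LD2_c50 LD3_c8)) :=
  Lre_a IH (LK LD1_c1 LD2_c21 LD3_c13) (LK LD1_c2 LD2_c50 LD3_c8) Lrfl Lrfl
theorem f206039 : Led Lsl_et (LP (LK LD1_c1 LD2_c21 LD3_c7)) = (LP (LK LD1_c0 LD2_c37 LD3_c27)) :=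
  Lre_e IH (LK LD1_c1 LD2_c21 LD3_c7) (LK LD1_c0 LD2_c37 LD3_c27) Lrfl Lrfl
theorem f206040 : Led Lsl_dt (LP (LK LD1_c1 LD2_c21 LD3_c7)) = (LP (LK LD1_c2 LD2_c50 LD3_c8)) :=
  Lre_d IH (LK LD1_c1 LD2_c21 LD3_c7) (LK LD1_c2 LD2_c50 LD3_c8) Lrfl Lrfl
theorem f22373 : Led Lsl_et (LP (LK LD1_c2 LD2_c31 LD3_c6)) = (LP (LK LD1_c1 LD2_c12 LD3_c33)) :=
  Lre_e IH (LK LD1_c2 LD2_c31 LD3_c6) (LK LD1_c1 LD2_c12 LD3_c33) Lrfl Lrfl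
theorem f22374 : Led Lsl_dt (LP (LK LD1_c2 LD2_c31 LD3_c6)) = (LP (LK LD1_c5 LD2_c7 LD3_c43)) :=
  Lre_d IH (LK LD1_c2 LD2_c31 LD3_c6) (LK LD1_c5 LD2_c7 LD3_c43) Lrfl Lrfl
theorem f206041 : Led Lsl_gf (LP (LK LD1_c2 LD2_c50 LD3_c8)) = (LP (LK LD1_c5 LD2_c7 LD3_c43)) :=
  Lgr Lrot145 (Lpe (f206040 IH) (Lpr_et (f206039 IH) (Lpr_gt (K11.f206003 IH) (Lpr_dt (K8.f157202 IH) (Lpr_gt (K8.f8360 IH) (Lpe (K7.f8355 IH) (Lpr_et (K7.f22225 IH) (Lpr_gt (K27.f3278 IH) (Lpe (f22373 IH) (Lpr_dt (f22374 IH) (Lpn (LP (LK LD1_c5 LD2_c7 LD3_c43)))))))))))))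
theorem f496102 : Led Lsl_gf (LP (LK LD1_c5 LD2_c7 LD3_c43)) = v1531 :=
  Lgr Lrot47 (Lpe (f206041 IH) (Lpe (f206044 IH) (Lpr_ff (f496098 IH) (Lpn v1531))))
theorem f206053 : Led Lsl_bt (LP (LK LD1_c10 LD2_c5 LD3_c29)) = (LP (LK LD1_c5 LD2_c7 LD3_c43)) :=
  Lre_b IH (LK LD1_c10 LD2_c5 LD3_c29) (LK LD1_c5 LD2_c7 LD3_c43) Lrfl Lrfl
theorem f146388 : Led Lsl_bt (LP (LK LD1_c1 LD2_c21 LD3_c13)) = (LP (LK LD1_c0 LD2_c37 LD3_c33)) :=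
  Lre_b IH (LK LD1_c1 LD2_c21 LD3_c13) (LK LD1_c0 LD2_c37 LD3_c33) Lrfl Lrfl
theorem f437497 : Led Lsl_ft (LP (LK LD1_c0 LD2_c37 LD3_c33)) = (LP (LK LD1_c1 LD2_c21 LD3_c26)) :=
  Lre_f IH (LK LD1_c0 LD2_c37 LD3_c33) (LK LD1_c1 LD2_c21 LD3_c26) Lrfl Lrfl
theorem f496099 : Led Lsl_bt (LP (LK LD1_c1 LD2_c21 LD3_c26)) = v1531 :=
  Lgr Lrot35 (Lpe (f437497 IH) (Lpe (f146388 IH) (Lpr_ff (f496098 IH) (Lpn v1531))))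
theorem f146402 : Led Lsl_ct (LP (LK LD1_c1 LD2_c21 LD3_c26)) = (LP (LK LD1_c2 LD2_c50 LD3_c54)) :=
  Lre_c IH (LK LD1_c1 LD2_c21 LD3_c26) (LK LD1_c2 LD2_c50 LD3_c54) Lrfl Lrfl
theorem f20784 : Led Lsl_ct (LP (LK LD1_c1 LD2_c4 LD3_c2)) = (LP (LK LD1_c0 LD2_c29 LD3_c15)) :=
  Lre_c IH (LK LD1_c1 LD2_c4 LD3_c2) (LK LD1_c0 LD2_c29 LD3_c15) Lrfl Lrfl
theorem f146401 : Led Lsl_dt (LP (LK LD1_c0 LD2_c37 LD3_c34)) = (LP (LK LD1_c1 LD2_c21 LD3_c26)) :=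
  Lre_d IH (LK LD1_c0 LD2_c37 LD3_c34) (LK LD1_c1 LD2_c21 LD3_c26) Lrfl Lrfl
theorem f146400 : Led Lsl_ct (LP (LK LD1_c2 LD2_c50 LD3_c54)) = (LP (LK LD1_c1 LD2_c21 LD3_c26)) :=
  Lre_c IH (LK LD1_c2 LD2_c50 LD3_c54) (LK LD1_c1 LD2_c21 LD3_c26) Lrfl Lrfl
theorem f225447 : Led Lsl_gf (LP (LK LD1_c2 LD2_c50 LD3_c54)) = (LP (LK LD1_c4 LD2_c34 LD3_c11)) :=
  Lgr Lrot104 (Lpr_ct (f146400 IH) (Lpe (f146401 IH) (Lpe (K11.f146357 IH) (Lpe (K11.f177110 IH) (Lpe (f20784 IH) (Lpe (K10.f175527 IH) (Lpe (K8.f25927 IH) (Lpr_gt (K11.f26795 IH) (Lpr_ct (K18.f225443 IH) (Lpn (LP (LK LD1_c4 LD2_c34 LD3_c11))))))))))))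
theorem f26837 : Led Lsl_ct (LP (LK LD1_c2 LD2_c17 LD3_c49)) = (LP (LK LD1_c4 LD2_c41 LD3_c30)) :=
  Lre_c IH (LK LD1_c2 LD2_c17 LD3_c49) (LK LD1_c4 LD2_c41 LD3_c30) Lrfl Lrfl
theorem f26916 : Led Lsl_gt (LP (LK LD1_c9 LD2_c17 LD3_c56)) = (LP (LK LD1_c4 LD2_c41 LD3_c30)) :=
  Lre_g IH (LK LD1_c9 LD2_c17 LD3_c56) (LK LD1_c4 LD2_c41 LD3_c30) Lrfl Lrfl
theorem f496105 : Led Lsl_ct (LP (LK LD1_c10 LD2_c5 LD3_c29)) = (LP (LK LD1_c9 LD2_c17 LD3_c56)) :=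
  Lgr Lrot64 (Lpr_bt (f206053 IH) (Lpr_gf (f496102 IH) (Lpe (f496099 IH) (Lpr_ct (f146402 IH) (Lpr_gf (f225447 IH) (Lpe (K18.f225443 IH) (Lpe (K11.f26795 IH) (Lpe (K8.f26828 IH) (Lpr_ct (f26837 IH) (Lpe (f26916 IH) (Lpn (LP (LK LD1_c9 LD2_c17 LD3_c56)))))))))))))
theorem f496106 : Led Lsl_ct (LP (LK LD1_c10 LD2_c5 LD3_c29)) = (LP (LK LD1_c9 LD2_c17 LD3_c56)) :=
  Leop (Lpe (f496105 IH) (Lpn (LP (LK LD1_c10 LD2_c5 LD3_c29))))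
theorem seed_115 : LEOK LG_c (LK LD1_c10 LD2_c5 LD3_c29) :=
  Leoe_c (LK LD1_c10 LD2_c5 LD3_c29) (f496106 IH)
def v1551 : LQ := Led Lsl_gf (LP (LK LD1_c1 LD2_c21 LD3_c36))
theorem f496215 : Led Lsl_gf (LP (LK LD1_c1 LD2_c21 LD3_c36)) = v1551 :=
  Lrfl
theorem f37328 : Led Lsl_bt (LP (LK LD1_c1 LD2_c27 LD3_c46)) = (LP (LK LD1_c0 LD2_c40 LD3_c37)) :=
  Lre_b IH (LK LD1_c1 LD2_c27 LD3_c46) (LK LD1_c0 LD2_c40 LD3_c37) Lrfl Lrfl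
theorem f37914 : Led Lsl_bt (LP (LK LD1_c3 LD2_c57 LD3_c51)) = (LP (LK LD1_c1 LD2_c55 LD3_c42)) :=
  Lre_b IH (LK LD1_c3 LD2_c57 LD3_c51) (LK LD1_c1 LD2_c55 LD3_c42) Lrfl Lrfl
theorem f496216 : Led Lsl_ct (LP (LK LD1_c3 LD2_c57 LD3_c51)) = v1551 :=
  Lgr Lrot64 (Lpr_bt (f37914 IH) (Lpe (K8.f36299 IH) (Lpe (K7.f36298 IH) (Lpr_ct (K1.f35590 IH) (Lpe (K1.f37903 IH) (Lpe (K1.f37327 IH) (Lpe (K1.f37320 IH) (Lpe (f37328 IH) (Lpr_ct (K8.f37977 IH) (Lpr_gf (f496215 IH) (Lpn v1551)))))))))))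
theorem f3027 : Led Lsl_bt (LP (LK LD1_c0 LD2_c55 LD3_c12)) = (LP (LK LD1_c0 LD2_c25 LD3_c0)) :=
  Lre_b IH (LK LD1_c0 LD2_c55 LD3_c12) (LK LD1_c0 LD2_c25 LD3_c0) Lrfl Lrfl
theorem f2952 : Led Lsl_ct (LP (LK LD1_c0 LD2_c31 LD3_c44)) = (LP (LK LD1_c0 LD2_c14 LD3_c6)) :=
  Lre_c IH (LK LD1_c0 LD2_c31 LD3_c44) (LK LD1_c0 LD2_c14 LD3_c6) Lrfl Lrfl
theorem f2956 : Led Lsl_cf (LP (LK LD1_c1 LD2_c9 LD3_c13)) = (LP (LK LD1_c0 LD2_c55 LD3_c12)) :=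
  Lgr Lrot97 (Lpr_bt (K8.f2953 IH) (Lpr_ct (f2952 IH) (Lpr_bt (K0.f2948 IH) (Lpr_ct (K0.f2954 IH) (Lpr_bt (K6.f2955 IH) (Lpn (LP (LK LD1_c0 LD2_c55 LD3_c12))))))))
theorem f3034 : Led Lsl_gt (LP (LK LD1_c2 LD2_c24 LD3_c15)) = (LP (LK LD1_c1 LD2_c9 LD3_c13)) :=
  Lre_g IH (LK LD1_c2 LD2_c24 LD3_c15) (LK LD1_c1 LD2_c9 LD3_c13) Lrfl Lrfl
theorem f3035 : Led Lsl_ct (LP (LK LD1_c4 LD2_c52 LD3_c53)) = (LP (LK LD1_c2 LD2_c24 LD3_c15)) :=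
  Lre_c IH (LK LD1_c4 LD2_c52 LD3_c53) (LK LD1_c2 LD2_c24 LD3_c15) Lrfl Lrfl
theorem f443880 : Led Lsl_bt (LP (LK LD1_c4 LD2_c52 LD3_c53)) = (LP (LK LD1_c3 LD2_c3 LD3_c15)) :=
  Lgr Lrot92 (Lpr_ct (f3035 IH) (Lpr_gt (f3034 IH) (Lpr_cf (f2956 IH) (Lpr_bt (f3027 IH) (Lpe (K0.f35345 IH) (Lpr_ct (K0.f34743 IH) (Lpr_gt (K1.f59577 IH) (Lpe (K2.f59518 IH) (Lpr_bt (K8.f59585 IH) (Lpr_gt (K8.f59553 IH) (Lpn (LP (LK LD1_c3 LD2_c3 LD3_c15)))))))))))))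
theorem f159116 : Led Lsl_ft (LP (LK LD1_c4 LD2_c36 LD3_c44)) = (LP (LK LD1_c3 LD2_c57 LD3_c55)) :=
  Lgr Lrot48 (Lpr_ff (K8.f159107 IH) (Lpn (LP (LK LD1_c3 LD2_c57 LD3_c55))))
theorem f157692 : Led Lsl_af (LP (LK LD1_c7 LD2_c25 LD3_c21)) = (LP (LK LD1_c9 LD2_c9 LD3_c26)) :=
  Lgr Lrot0 (Lpr_at (K8.f157690 IH) (Lpn (LP (LK LD1_c9 LD2_c9 LD3_c26))))
theorem f158972 : Led Lsl_at (LP (LK LD1_c3 LD2_c57 LD3_c52)) = (LP (LK LD1_c4 LD2_c36 LD3_c44)) :=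
  Lgr Lrot107 (Lpr_cf (K8.f158967 IH) (Lpr_af (f157692 IH) (Lpe (K8.f99592 IH) (Lpn (LP (LK LD1_c4 LD2_c36 LD3_c44))))))
theorem f159118 : Led Lsl_ff (LP (LK LD1_c3 LD2_c57 LD3_c52)) = (LP (LK LD1_c5 LD2_c47 LD3_c23)) :=
  Lgr Lrot30 (Lpr_at (f158972 IH) (Lpr_ft (f159116 IH) (Lpe (K24.f159096 IH) (Lpn (LP (LK LD1_c5 LD2_c47 LD3_c23))))))
theorem f159159 : Led Lsl_ft (LP (LK LD1_c1 LD2_c55 LD3_c42)) = (LP (LK LD1_c3 LD2_c3 LD3_c15)) :=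
  Lgr Lrot54 (Lpe (K8.f101677 IH) (Lpr_ff (f159118 IH) (Lpr_df (K8.f99507 IH) (Lpn (LP (LK LD1_c3 LD2_c3 LD3_c15))))))
theorem f159162 : Led Lsl_ff (LP (LK LD1_c1 LD2_c55 LD3_c42)) = (LP (LK LD1_c3 LD2_c3 LD3_c15)) :=
  Lgr Lrot3 (Lpr_ft (f159159 IH) (Lpn (LP (LK LD1_c3 LD2_c3 LD3_c15))))
theorem f159000 : Led Lsl_bt (LP (LK LD1_c1 LD2_c55 LD3_c42)) = (LP (LK LD1_c3 LD2_c57 LD3_c51)) :=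
  Lre_b IH (LK LD1_c1 LD2_c55 LD3_c42) (LK LD1_c3 LD2_c57 LD3_c51) Lrfl Lrfl
theorem f443885 : Led Lsl_ff (LP (LK LD1_c4 LD2_c52 LD3_c53)) = (LP (LK LD1_c3 LD2_c57 LD3_c51)) :=
  Lgr Lrot25 (Lpr_bt (f443880 IH) (Lpe (f159162 IH) (Lpr_bt (f159000 IH) (Lpn (LP (LK LD1_c3 LD2_c57 LD3_c51))))))
theorem f443887 : Led Lsl_ft (LP (LK LD1_c4 LD2_c52 LD3_c53)) = (LP (LK LD1_c3 LD2_c57 LD3_c51)) :=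
  Lgr Lrot48 (Lpr_ff (f443885 IH) (Lpn (LP (LK LD1_c3 LD2_c57 LD3_c51))))
theorem f443884 : Led Lsl_ct (LP (LK LD1_c2 LD2_c24 LD3_c15)) = (LP (LK LD1_c4 LD2_c52 LD3_c53)) :=
  Lre_c IH (LK LD1_c2 LD2_c24 LD3_c15) (LK LD1_c4 LD2_c52 LD3_c53) Lrfl Lrfl
theorem f496218 : Led Lsl_ff (LP (LK LD1_c2 LD2_c24 LD3_c15)) = v1551 :=
  Lgr Lrot23 (Lpr_ct (f443884 IH) (Lpr_ft (f443887 IH) (Lpr_ct (f496216 IH) (Lpn v1551))))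
theorem f37317 : Led Lsl_gt (LP (LK LD1_c1 LD2_c21 LD3_c36)) = (LP (LK LD1_c2 LD2_c51 LD3_c6)) :=
  Lre_g IH (LK LD1_c1 LD2_c21 LD3_c36) (LK LD1_c2 LD2_c51 LD3_c6) Lrfl Lrfl
theorem f496221 : Led Lsl_at (LP (LK LD1_c2 LD2_c24 LD3_c15)) = (LP (LK LD1_c2 LD2_c51 LD3_c6)) :=
  Lgr Lrot26 (Lpr_ff (f496218 IH) (Lpe (f496215 IH) (Lpr_gt (f37317 IH) (Lpn (LP (LK LD1_c2 LD2_c51 LD3_c6))))))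
theorem f496222 : Led Lsl_at (LP (LK LD1_c2 LD2_c24 LD3_c15)) = (LP (LK LD1_c2 LD2_c51 LD3_c6)) :=
  Leop (Lpe (f496221 IH) (Lpn (LP (LK LD1_c2 LD2_c24 LD3_c15))))
theorem seed_116 : LEOK LG_a (LK LD1_c2 LD2_c24 LD3_c15) :=
  Leoe_a (LK LD1_c2 LD2_c24 LD3_c15) (f496222 IH)
def v1562 : LQ := Led Lsl_ft (LP (LK LD1_c1 LD2_c21 LD3_c38))
theorem f496276 : Led Lsl_ft (LP (LK LD1_c1 LD2_c21 LD3_c38)) = v1562 :=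
  Lrfl
theorem f496279 : Led Lsl_ff (LP (LK LD1_c1 LD2_c21 LD3_c38)) = v1562 :=
  Lgr Lrot3 (Lpr_ft (f496276 IH) (Lpn v1562))
def v405 : LQ := Led Lsl_ft (LP (LK LD1_c0 LD2_c37 LD3_c47))
theorem f452679 : Led Lsl_ft (LP (LK LD1_c0 LD2_c37 LD3_c47)) = v405 :=
  Lrfl
theorem f496281 : Led Lsl_bt v405 = v1562 :=
  Lgr Lrot35 (Lpe (f452679 IH) (Lpe (K11.f59805 IH) (Lpr_ff (f496279 IH) (Lpn v1562))))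
theorem f452681 : Led Lsl_ff (LP (LK LD1_c0 LD2_c37 LD3_c47)) = v405 :=
  Lgr Lrot3 (Lpr_ft (f452679 IH) (Lpn v405))
def v402 : LQ := Led Lsl_at (LP (LK LD1_c0 LD2_c37 LD3_c47))
theorem f452670 : Led Lsl_at (LP (LK LD1_c0 LD2_c37 LD3_c47)) = v402 :=
  Lrfl
theorem f452671 : Led Lsl_af (LP (LK LD1_c0 LD2_c37 LD3_c47)) = v402 :=
  Lgr Lrot0 (Lpr_at (f452670 IH) (Lpn v402))
theorem f452672 : Led Lsl_ft (LP (LK LD1_c0 LD2_c37 LD3_c48)) = v402 :=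
  Lgr Lrot2 (Lpr_gt (K11.f21185 IH) (Lpr_gt (K11.f16658 IH) (Lpr_af (f452671 IH) (Lpn v402))))
theorem f452673 : Led Lsl_ff (LP (LK LD1_c0 LD2_c37 LD3_c48)) = v402 :=
  Lgr Lrot3 (Lpr_ft (f452672 IH) (Lpn v402))
theorem f452682 : Led Lsl_at (LP (LK LD1_c0 LD2_c37 LD3_c48)) = v405 :=
  Lgr Lrot66 (Lpr_ff (f452673 IH) (Lpe (f452670 IH) (Lpr_ff (f452681 IH) (Lpn v405))))
theorem f21186 : Led Lsl_bt (LP (LK LD1_c1 LD2_c21 LD3_c40)) = (LP (LK LD1_c0 LD2_c37 LD3_c48)) :=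
  Lre_b IH (LK LD1_c1 LD2_c21 LD3_c40) (LK LD1_c0 LD2_c37 LD3_c48) Lrfl Lrfl
theorem f452683 : Led Lsl_at (LP (LK LD1_c2 LD2_c51 LD3_c11)) = (LP (LK LD1_c1 LD2_c21 LD3_c40)) :=
  Lre_a IH (LK LD1_c2 LD2_c51 LD3_c11) (LK LD1_c1 LD2_c21 LD3_c40) Lrfl Lrfl
theorem f210015 : Led Lsl_at (LP (LK LD1_c2 LD2_c51 LD3_c7)) = (LP (LK LD1_c1 LD2_c21 LD3_c38)) :=
  Lre_a IH (LK LD1_c2 LD2_c51 LD3_c7) (LK LD1_c1 LD2_c21 LD3_c38) Lrfl Lrfl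
theorem f205783 : Led Lsl_at (LP (LK LD1_c5 LD2_c49 LD3_c59)) = (LP (LK LD1_c2 LD2_c51 LD3_c8)) :=
  Lre_a IH (LK LD1_c5 LD2_c49 LD3_c59) (LK LD1_c2 LD2_c51 LD3_c8) Lrfl Lrfl
theorem f205784 : Led Lsl_ft (LP (LK LD1_c4 LD2_c58 LD3_c56)) = (LP (LK LD1_c5 LD2_c49 LD3_c59)) :=
  Lgr Lrot142 (Lpe (K8.f138827 IH) (Lpr_ct (K8.f75094 IH) (Lpr_dt (K4.f75082 IH) (Lpr_ct (K4.f75084 IH) (Lpr_dt (K11.f69034 IH) (Lpr_ct (K6.f69024 IH) (Lpe (K11.f112357 IH) (Lpr_ct (K11.f205767 IH) (Lpe (f205783 IH) (Lpn (LP (LK LD1_c5 LD2_c49 LD3_c59))))))))))))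
theorem f210002 : Led Lsl_ff (LP (LK LD1_c4 LD2_c58 LD3_c56)) = (LP (LK LD1_c5 LD2_c49 LD3_c59)) :=
  Lgr Lrot3 (Lpr_ft (f205784 IH) (Lpn (LP (LK LD1_c5 LD2_c49 LD3_c59))))
theorem f210004 : Led Lsl_dt (LP (LK LD1_c2 LD2_c51 LD3_c7)) = (LP (LK LD1_c5 LD2_c49 LD3_c59)) :=
  Lre_d IH (LK LD1_c2 LD2_c51 LD3_c7) (LK LD1_c5 LD2_c49 LD3_c59) Lrfl Lrfl
theorem f210005 : Led Lsl_ft (LP (LK LD1_c3 LD2_c4 LD3_c7)) = (LP (LK LD1_c2 LD2_c51 LD3_c7)) :=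
  Lgr Lrot54 (Lpr_df (K8.f138827 IH) (Lpr_ff (f210002 IH) (Lpe (f210004 IH) (Lpn (LP (LK LD1_c2 LD2_c51 LD3_c7))))))
theorem f496277 : Led Lsl_af (LP (LK LD1_c3 LD2_c4 LD3_c7)) = v1562 :=
  Lgr Lrot45 (Lpr_ft (f210005 IH) (Lpr_at (f210015 IH) (Lpr_ft (f496276 IH) (Lpn v1562))))
theorem f496282 : Led Lsl_bf (LP (LK LD1_c2 LD2_c51 LD3_c11)) = (LP (LK LD1_c3 LD2_c4 LD3_c7)) :=
  Lgr Lrot81 (Lpr_at (f452683 IH) (Lpr_bt (f21186 IH) (Lpr_at (f452682 IH) (Lpr_bt (f496281 IH) (Lpe (f496277 IH) (Lpn (LP (LK LD1_c3 LD2_c4 LD3_c7))))))))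
theorem f496283 : Led Lsl_bt (LP (LK LD1_c3 LD2_c4 LD3_c7)) = (LP (LK LD1_c2 LD2_c51 LD3_c11)) :=
  Leop (Lpr_bf (f496282 IH) (Lpn (LP (LK LD1_c3 LD2_c4 LD3_c7))))
theorem seed_117 : LEOK LG_b (LK LD1_c3 LD2_c4 LD3_c7) :=
  Leoe_b (LK LD1_c3 LD2_c4 LD3_c7) (f496283 IH)
def v1572 : LQ := Led Lsl_at (LP (LK LD1_c1 LD2_c21 LD3_c46))
theorem f500022 : Led Lsl_at (LP (LK LD1_c1 LD2_c21 LD3_c46)) = v1572 :=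
  Lrfl
def v1298 : LQ := Led Lsl_at (LP (LK LD1_c1 LD2_c6 LD3_c11))
theorem f494694 : Led Lsl_at (LP (LK LD1_c1 LD2_c6 LD3_c11)) = v1298 :=
  Lrfl
theorem f494695 : Led Lsl_af (LP (LK LD1_c1 LD2_c6 LD3_c11)) = v1298 :=
  Lgr Lrot0 (Lpr_at (f494694 IH) (Lpn v1298))
theorem f500025 : Led Lsl_cf v1298 = v1572 :=
  Lgr Lrot1 (Lpe (f494695 IH) (Lpr_ct (K24.f436245 IH) (Lpr_at (f500022 IH) (Lpn v1572))))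
theorem f59488 : Led Lsl_gt (LP (LK LD1_c1 LD2_c6 LD3_c12)) = (LP (LK LD1_c0 LD2_c30 LD3_c15)) :=
  Lre_g IH (LK LD1_c1 LD2_c6 LD3_c12) (LK LD1_c0 LD2_c30 LD3_c15) Lrfl Lrfl
theorem f494696 : Led Lsl_ft (LP (LK LD1_c1 LD2_c6 LD3_c12)) = v1298 :=
  Lgr Lrot2 (Lpr_gt (f59488 IH) (Lpr_gt (K8.f61012 IH) (Lpr_af (f494695 IH) (Lpn v1298))))
theorem f494697 : Led Lsl_ff (LP (LK LD1_c1 LD2_c6 LD3_c12)) = v1298 :=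
  Lgr Lrot3 (Lpr_ft (f494696 IH) (Lpn v1298))
def v1300 : LQ := Led Lsl_ct (LP (LK LD1_c1 LD2_c6 LD3_c12))
theorem f494705 : Led Lsl_ct (LP (LK LD1_c1 LD2_c6 LD3_c12)) = v1300 :=
  Lrfl
theorem f500027 : Led Lsl_ft v1300 = v1572 :=
  Lgr Lrot4 (Lpe (f494705 IH) (Lpr_ff (f494697 IH) (Lpr_cf (f500025 IH) (Lpn v1572))))
theorem f500023 : Led Lsl_af (LP (LK LD1_c1 LD2_c21 LD3_c46)) = v1572 :=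
  Lgr Lrot0 (Lpr_at (f500022 IH) (Lpn v1572))
theorem f59435 : Led Lsl_gt (LP (LK LD1_c1 LD2_c21 LD3_c47)) = (LP (LK LD1_c0 LD2_c37 LD3_c50)) :=
  Lre_g IH (LK LD1_c1 LD2_c21 LD3_c47) (LK LD1_c0 LD2_c37 LD3_c50) Lrfl Lrfl
theorem f500029 : v1300 = (LP (LK LD1_c1 LD2_c21 LD3_c47)) :=
  (Llr Lrot52 (Lpr_ft (f500027 IH) (Lpe (f500023 IH) (Lpe (K9.f139883 IH) (Lpe (f59435 IH) (Lpn (LP (LK LD1_c1 LD2_c21 LD3_c47)))))))).symm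
theorem f494707 : Led Lsl_cf (LP (LK LD1_c1 LD2_c6 LD3_c12)) = v1300 :=
  Lgr Lrot11 (Lpr_ct (f494705 IH) (Lpn v1300))
theorem f500030 : Led Lsl_ct (LP (LK LD1_c1 LD2_c21 LD3_c47)) = (LP (LK LD1_c1 LD2_c6 LD3_c12)) :=
  Leop (Lpr_cf (f494707 IH) (Lpqs (f500029 IH) (Lpn (LP (LK LD1_c1 LD2_c21 LD3_c47)))))
theorem seed_118 : LEOK LG_c (LK LD1_c1 LD2_c21 LD3_c47) :=
  Leoe_c (LK LD1_c1 LD2_c21 LD3_c47) (f500030 IH)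
def v1574 : LQ := Led Lsl_dt (LP (LK LD1_c1 LD2_c21 LD3_c48))
theorem f500151 : Led Lsl_dt (LP (LK LD1_c1 LD2_c21 LD3_c48)) = v1574 :=
  Lrfl
def v409 : LQ := Led Lsl_dt (LP (LK LD1_c0 LD2_c37 LD3_c50))
theorem f452700 : Led Lsl_dt (LP (LK LD1_c0 LD2_c37 LD3_c50)) = v409 :=
  Lrfl
theorem f452702 : Led Lsl_df (LP (LK LD1_c0 LD2_c37 LD3_c50)) = v409 :=
  Lgr Lrot38 (Lpr_dt (f452700 IH) (Lpn v409))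
theorem f500154 : Led Lsl_ff v409 = v1574 :=
  Lgr Lrot19 (Lpe (f452702 IH) (Lpr_ft (K6.f139852 IH) (Lpr_dt (f500151 IH) (Lpn v1574))))
theorem f26474 : Led Lsl_ct (LP (LK LD1_c0 LD2_c19 LD3_c50)) = (LP (LK LD1_c0 LD2_c37 LD3_c50)) :=
  Lgr Lrot15 (Lpe (K9.f24619 IH) (Lpr_cf (K0.f26459 IH) (Lpe (K6.f20432 IH) (Lpn (LP (LK LD1_c0 LD2_c37 LD3_c50))))))
theorem f135649 : Led Lsl_at (LP (LK LD1_c1 LD2_c4 LD3_c11)) = (LP (LK LD1_c0 LD2_c37 LD3_c50)) :=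
  Lgr Lrot33 (Lpe (K6.f92123 IH) (Lpr_dt (K6.f92118 IH) (Lpr_ct (K6.f92119 IH) (Lpr_dt (K6.f135639 IH) (Lpr_ct (K6.f135638 IH) (Lpr_dt (K5.f24938 IH) (Lpr_ct (K5.f24690 IH) (Lpr_dt (K5.f24611 IH) (Lpr_ct (f26474 IH) (Lpn (LP (LK LD1_c0 LD2_c37 LD3_c50))))))))))))
theorem f79867 : Led Lsl_dt (LP (LK LD1_c2 LD2_c14 LD3_c16)) = (LP (LK LD1_c1 LD2_c4 LD3_c11)) :=
  Lre_d IH (LK LD1_c2 LD2_c14 LD3_c16) (LK LD1_c1 LD2_c4 LD3_c11) Lrfl Lrfl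
theorem f452701 : Led Lsl_af (LP (LK LD1_c2 LD2_c14 LD3_c16)) = v409 :=
  Lgr Lrot117 (Lpr_dt (f79867 IH) (Lpr_at (f135649 IH) (Lpr_dt (f452700 IH) (Lpn v409))))
theorem f58951 : Led Lsl_gt (LP (LK LD1_c4 LD2_c34 LD3_c37)) = (LP (LK LD1_c2 LD2_c14 LD3_c16)) :=
  Lre_g IH (LK LD1_c4 LD2_c34 LD3_c37) (LK LD1_c2 LD2_c14 LD3_c16) Lrfl Lrfl
theorem f500157 : Led Lsl_gf (LP (LK LD1_c4 LD2_c34 LD3_c37)) = v1574 :=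
  Lgr Lrot47 (Lpr_gt (f58951 IH) (Lpr_af (f452701 IH) (Lpr_ff (f500154 IH) (Lpn v1574))))
theorem f92158 : Led Lsl_ft (LP (LK LD1_c1 LD2_c4 LD3_c11)) = (LP (LK LD1_c2 LD2_c14 LD3_c17)) :=
  Lre_f IH (LK LD1_c1 LD2_c4 LD3_c11) (LK LD1_c2 LD2_c14 LD3_c17) Lrfl Lrfl
theorem f146031 : Led Lsl_at (LP (LK LD1_c0 LD2_c37 LD3_c50)) = (LP (LK LD1_c1 LD2_c4 LD3_c11)) :=
  Lgr Lrot66 (Lpe (K6.f139844 IH) (Lpr_af (K6.f146017 IH) (Lpe (f92158 IH) (Lpn (LP (LK LD1_c1 LD2_c4 LD3_c11))))))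
theorem f68270 : Led Lsl_af (LP (LK LD1_c0 LD2_c42 LD3_c61)) = (LP (LK LD1_c0 LD2_c41 LD3_c20)) :=
  Lgr Lrot117 (Lpr_dt (K2.f68248 IH) (Lpe (K2.f67429 IH) (Lpr_dt (K2.f61781 IH) (Lpn (LP (LK LD1_c0 LD2_c41 LD3_c20))))))
theorem f73615 : Led Lsl_ct (LP (LK LD1_c1 LD2_c22 LD3_c2)) = (LP (LK LD1_c0 LD2_c41 LD3_c20)) :=
  Lgr Lrot111 (Lpr_af (K2.f73605 IH) (Lpe (K8.f73514 IH) (Lpr_af (f68270 IH) (Lpn (LP (LK LD1_c0 LD2_c41 LD3_c20))))))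
theorem f73607 : Led Lsl_gt (LP (LK LD1_c1 LD2_c22 LD3_c2)) = (LP (LK LD1_c2 LD2_c52 LD3_c2)) :=
  Lre_g IH (LK LD1_c1 LD2_c22 LD3_c2) (LK LD1_c2 LD2_c52 LD3_c2) Lrfl Lrfl
theorem f73611 : Led Lsl_dt (LP (LK LD1_c2 LD2_c52 LD3_c2)) = (LP (LK LD1_c5 LD2_c51 LD3_c39)) :=
  Lre_d IH (LK LD1_c2 LD2_c52 LD3_c2) (LK LD1_c5 LD2_c51 LD3_c39) Lrfl Lrfl
theorem f61832 : Led Lsl_gt (LP (LK LD1_c0 LD2_c41 LD3_c20)) = (LP (LK LD1_c1 LD2_c29 LD3_c26)) :=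
  Lre_g IH (LK LD1_c0 LD2_c41 LD3_c20) (LK LD1_c1 LD2_c29 LD3_c26) Lrfl Lrfl
theorem f79838 : Led Lsl_dt (LP (LK LD1_c3 LD2_c8 LD3_c47)) = (LP (LK LD1_c1 LD2_c30 LD3_c32)) :=
  Lre_d IH (LK LD1_c3 LD2_c8 LD3_c47) (LK LD1_c1 LD2_c30 LD3_c32) Lrfl Lrfl
theorem f79839 : Led Lsl_ct (LP (LK LD1_c1 LD2_c30 LD3_c32)) = (LP (LK LD1_c3 LD2_c8 LD3_c44)) :=
  Lre_c IH (LK LD1_c1 LD2_c30 LD3_c32) (LK LD1_c3 LD2_c8 LD3_c44) Lrfl Lrfl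
theorem f79840 : Led Lsl_dt (LP (LK LD1_c6 LD2_c22 LD3_c6)) = (LP (LK LD1_c3 LD2_c8 LD3_c44)) :=
  Lre_d IH (LK LD1_c6 LD2_c22 LD3_c6) (LK LD1_c3 LD2_c8 LD3_c44) Lrfl Lrfl
theorem f79841 : Led Lsl_gt (LP (LK LD1_c5 LD2_c51 LD3_c39)) = (LP (LK LD1_c6 LD2_c22 LD3_c6)) :=
  Lgr Lrot189 (Lpe (f73611 IH) (Lpe (f73607 IH) (Lpr_ct (f73615 IH) (Lpr_gt (f61832 IH) (Lpr_dt (K9.f67309 IH) (Lpr_gt (K9.f67308 IH) (Lpr_dt (f79838 IH) (Lpr_ct (f79839 IH) (Lpe (f79840 IH) (Lpn (LP (LK LD1_c6 LD2_c22 LD3_c6))))))))))))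
theorem f79706 : Led Lsl_et (LP (LK LD1_c0 LD2_c37 LD3_c58)) = (LP (LK LD1_c1 LD2_c22 LD3_c2)) :=
  Lre_e IH (LK LD1_c0 LD2_c37 LD3_c58) (LK LD1_c1 LD2_c22 LD3_c2) Lrfl Lrfl
theorem f20246 : Led Lsl_et (LP (LK LD1_c0 LD2_c29 LD3_c19)) = (LP (LK LD1_c1 LD2_c4 LD3_c11)) :=
  Lre_e IH (LK LD1_c0 LD2_c29 LD3_c19) (LK LD1_c1 LD2_c4 LD3_c11) Lrfl Lrfl
theorem f79846 : Led Lsl_dt (LP (LK LD1_c3 LD2_c8 LD3_c44)) = (LP (LK LD1_c6 LD2_c22 LD3_c6)) :=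
  Lre_d IH (LK LD1_c3 LD2_c8 LD3_c44) (LK LD1_c6 LD2_c22 LD3_c6) Lrfl Lrfl
theorem f79847 : Led Lsl_et (LP (LK LD1_c3 LD2_c8 LD3_c44)) = (LP (LK LD1_c1 LD2_c30 LD3_c30)) :=
  Lre_e IH (LK LD1_c3 LD2_c8 LD3_c44) (LK LD1_c1 LD2_c30 LD3_c30) Lrfl Lrfl
theorem f79848 : Led Lsl_gf (LP (LK LD1_c1 LD2_c4 LD3_c11)) = (LP (LK LD1_c1 LD2_c30 LD3_c30)) :=
  Lgr Lrot141 (Lpe (f20246 IH) (Lpr_dt (K0.f20199 IH) (Lpr_gt (K1.f20196 IH) (Lpr_df (K1.f37754 IH) (Lpr_et (f79706 IH) (Lpr_gt (f73607 IH) (Lpr_dt (f73611 IH) (Lpr_gt (f79841 IH) (Lpe (f79846 IH) (Lpr_et (f79847 IH) (Lpn (LP (LK LD1_c1 LD2_c30 LD3_c30)))))))))))))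
theorem f146034 : Led Lsl_gt (LP (LK LD1_c1 LD2_c21 LD3_c48)) = (LP (LK LD1_c1 LD2_c30 LD3_c30)) :=
  Lgr Lrot5 (Lpr_ft (K6.f139844 IH) (Lpr_at (f146031 IH) (Lpr_gf (f79848 IH) (Lpn (LP (LK LD1_c1 LD2_c30 LD3_c30))))))
theorem f79855 : Led Lsl_ct (LP (LK LD1_c1 LD2_c30 LD3_c30)) = (LP (LK LD1_c0 LD2_c41 LD3_c47)) :=
  Lre_c IH (LK LD1_c1 LD2_c30 LD3_c30) (LK LD1_c0 LD2_c41 LD3_c47) Lrfl Lrfl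
theorem f68983 : Led Lsl_gt (LP (LK LD1_c6 LD2_c2 LD3_c45)) = (LP (LK LD1_c2 LD2_c57 LD3_c28)) :=
  Lre_g IH (LK LD1_c6 LD2_c2 LD3_c45) (LK LD1_c2 LD2_c57 LD3_c28) Lrfl Lrfl
theorem f500158 : Led Lsl_ct (LP (LK LD1_c4 LD2_c34 LD3_c37)) = (LP (LK LD1_c6 LD2_c2 LD3_c45)) :=
  Lgr Lrot152 (Lpr_gf (f500157 IH) (Lpe (f500151 IH) (Lpr_gt (f146034 IH) (Lpr_ct (f79855 IH) (Lpr_gt (K9.f67106 IH) (Lpe (K11.f204263 IH) (Lpe (K11.f68640 IH) (Lpe (K11.f68919 IH) (Lpe (f68983 IH) (Lpn (LP (LK LD1_c6 LD2_c2 LD3_c45))))))))))))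
theorem f500159 : Led Lsl_ct (LP (LK LD1_c4 LD2_c34 LD3_c37)) = (LP (LK LD1_c6 LD2_c2 LD3_c45)) :=
  Leop (Lpe (f500158 IH) (Lpn (LP (LK LD1_c4 LD2_c34 LD3_c37))))
theorem seed_119 : LEOK LG_c (LK LD1_c4 LD2_c34 LD3_c37) :=
  Leoe_c (LK LD1_c4 LD2_c34 LD3_c37) (f500159 IH)
def v1595 : LQ := Led Lsl_ct (LP (LK LD1_c1 LD2_c22 LD3_c10))
theorem f500254 : Led Lsl_ct (LP (LK LD1_c1 LD2_c22 LD3_c10)) = v1595 :=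
  Lrfl
theorem f500255 : Led Lsl_cf (LP (LK LD1_c1 LD2_c22 LD3_c10)) = v1595 :=
  Lgr Lrot11 (Lpr_ct (f500254 IH) (Lpn v1595))
def v423 : LQ := Led Lsl_ft (LP (LK LD1_c0 LD2_c38 LD3_c2))
theorem f452762 : Led Lsl_ft (LP (LK LD1_c0 LD2_c38 LD3_c2)) = v423 :=
  Lrfl
theorem f452764 : Led Lsl_ff (LP (LK LD1_c0 LD2_c38 LD3_c2)) = v423 :=
  Lgr Lrot3 (Lpr_ft (f452762 IH) (Lpn v423))
theorem f198454 : Led Lsl_gt (LP (LK LD1_c1 LD2_c3 LD3_c58)) = (LP (LK LD1_c0 LD2_c29 LD3_c11)) :=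
  Lre_g IH (LK LD1_c1 LD2_c3 LD3_c58) (LK LD1_c0 LD2_c29 LD3_c11) Lrfl Lrfl
theorem f453033 : Led Lsl_ft (LP (LK LD1_c1 LD2_c3 LD3_c58)) = (LP (LK LD1_c1 LD2_c3 LD3_c57)) :=
  Lgr Lrot2 (Lpr_gt (f198454 IH) (Lpr_gt (K11.f37101 IH) (Lpr_af (K24.f453029 IH) (Lpn (LP (LK LD1_c1 LD2_c3 LD3_c57))))))
theorem f453037 : Led Lsl_ff (LP (LK LD1_c1 LD2_c3 LD3_c58)) = (LP (LK LD1_c1 LD2_c3 LD3_c57)) :=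
  Lgr Lrot3 (Lpr_ft (f453033 IH) (Lpn (LP (LK LD1_c1 LD2_c3 LD3_c57))))
theorem f272442 : Led Lsl_bf (LP (LK LD1_c1 LD2_c26 LD3_c20)) = (LP (LK LD1_c1 LD2_c26 LD3_c20)) :=
  Lgr Lrot156 (Lpr_gt (K11.f27267 IH) (Lpe (K1.f27228 IH) (Lpe (K2.f71449 IH) (Lpr_gt (K11.f193806 IH) (Lpe (K12.f20325 IH) (Lpe (K12.f210967 IH) (Lpr_gt (K12.f210971 IH) (Lpr_ct (K1.f37514 IH) (Lpe (K18.f272404 IH) (Lpr_cf (K18.f272432 IH) (Lpn (LP (LK LD1_c1 LD2_c26 LD3_c20)))))))))))))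
theorem f272446 : Led Lsl_bt (LP (LK LD1_c3 LD2_c1 LD3_c0)) = (LP (LK LD1_c3 LD2_c1 LD3_c0)) :=
  Lgr Lrot95 (Lpe (K11.f34719 IH) (Lpr_bf (f272442 IH) (Lpe (K12.f27268 IH) (Lpn (LP (LK LD1_c3 LD2_c1 LD3_c0))))))
theorem f205261 : Led Lsl_gt (LP (LK LD1_c0 LD2_c5 LD3_c11)) = (LP (LK LD1_c0 LD2_c8 LD3_c12)) :=
  Lgr Lrot94 (Lpr_cf (K1.f29322 IH) (Lpr_gt (K2.f37087 IH) (Lpr_dt (K1.f36604 IH) (Lpr_gt (K1.f21183 IH) (Lpe (K1.f37164 IH) (Lpe (K0.f35368 IH) (Lpe (K2.f59163 IH) (Lpr_gf (K11.f205255 IH) (Lpe (K11.f80815 IH) (Lpn (LP (LK LD1_c0 LD2_c8 LD3_c12))))))))))))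
theorem f205238 : Led Lsl_gt (LP (LK LD1_c0 LD2_c40 LD3_c40)) = (LP (LK LD1_c1 LD2_c27 LD3_c54)) :=
  Lre_g IH (LK LD1_c0 LD2_c40 LD3_c40) (LK LD1_c1 LD2_c27 LD3_c54) Lrfl Lrfl
theorem f210914 : Led Lsl_et (LP (LK LD1_c3 LD2_c1 LD3_c0)) = (LP (LK LD1_c1 LD2_c27 LD3_c54)) :=
  Lgr Lrot122 (Lpr_dt (K12.f27268 IH) (Lpr_gt (K11.f27267 IH) (Lpe (K12.f27230 IH) (Lpr_et (K1.f27265 IH) (Lpe (K0.f34705 IH) (Lpr_dt (K0.f2947 IH) (Lpr_gt (f205261 IH) (Lpe (K13.f38135 IH) (Lpr_et (K11.f80808 IH) (Lpr_gt (f205238 IH) (Lpn (LP (LK LD1_c1 LD2_c27 LD3_c54)))))))))))))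
theorem f210916 : Led Lsl_ef (LP (LK LD1_c3 LD2_c1 LD3_c0)) = (LP (LK LD1_c1 LD2_c27 LD3_c54)) :=
  Lgr Lrot88 (Lpr_et (f210914 IH) (Lpn (LP (LK LD1_c1 LD2_c27 LD3_c54))))
theorem f272456 : Led Lsl_bf (LP (LK LD1_c1 LD2_c27 LD3_c54)) = (LP (LK LD1_c1 LD2_c27 LD3_c54)) :=
  Lgr Lrot96 (Lpe (f210916 IH) (Lpr_bt (f272446 IH) (Lpr_et (f210914 IH) (Lpn (LP (LK LD1_c1 LD2_c27 LD3_c54))))))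
theorem f205243 : Led Lsl_bt (LP (LK LD1_c0 LD2_c54 LD3_c32)) = (LP (LK LD1_c0 LD2_c40 LD3_c40)) :=
  Lgr Lrot127 (Lpr_bf (K11.f205239 IH) (Lpn (LP (LK LD1_c0 LD2_c40 LD3_c40))))
theorem f59394 : Led Lsl_ct (LP (LK LD1_c0 LD2_c54 LD3_c32)) = (LP (LK LD1_c1 LD2_c55 LD3_c36)) :=
  Lre_c IH (LK LD1_c0 LD2_c54 LD3_c32) (LK LD1_c1 LD2_c55 LD3_c36) Lrfl Lrfl
theorem f227724 : Led Lsl_bf (LP (LK LD1_c1 LD2_c27 LD3_c56)) = (LP (LK LD1_c1 LD2_c28 LD3_c48)) :=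
  Lgr Lrot96 (Lpr_et (K13.f80810 IH) (Lpr_bt (K12.f80650 IH) (Lpr_et (K12.f227720 IH) (Lpn (LP (LK LD1_c1 LD2_c28 LD3_c48))))))
theorem f210464 : Led Lsl_ct (LP (LK LD1_c1 LD2_c28 LD3_c48)) = (LP (LK LD1_c3 LD2_c5 LD3_c36)) :=
  Lre_c IH (LK LD1_c1 LD2_c28 LD3_c48) (LK LD1_c3 LD2_c5 LD3_c36) Lrfl Lrfl
theorem f59072 : Led Lsl_gt (LP (LK LD1_c1 LD2_c27 LD3_c54)) = (LP (LK LD1_c0 LD2_c40 LD3_c50)) :=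
  Lre_g IH (LK LD1_c1 LD2_c27 LD3_c54) (LK LD1_c0 LD2_c40 LD3_c50) Lrfl Lrfl
theorem f35828 : Led Lsl_gt (LP (LK LD1_c1 LD2_c1 LD3_c52)) = (LP (LK LD1_c2 LD2_c9 LD3_c28)) :=
  Lre_g IH (LK LD1_c1 LD2_c1 LD3_c52) (LK LD1_c2 LD2_c9 LD3_c28) Lrfl Lrfl
theorem f272458 : Led Lsl_cf (LP (LK LD1_c2 LD2_c9 LD3_c28)) = (LP (LK LD1_c1 LD2_c27 LD3_c54)) :=
  Lgr Lrot58 (Lpe (f35828 IH) (Lpe (K13.f36430 IH) (Lpe (K13.f36425 IH) (Lpe (K10.f25940 IH) (Lpe (K11.f25950 IH) (Lpr_ct (K11.f36598 IH) (Lpr_gf (K11.f205227 IH) (Lpe (K11.f59098 IH) (Lpe (f59072 IH) (Lpr_bf (f272456 IH) (Lpn (LP (LK LD1_c1 LD2_c27 LD3_c54)))))))))))))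
theorem f272460 : Led Lsl_gf (LP (LK LD1_c3 LD2_c5 LD3_c36)) = (LP (LK LD1_c2 LD2_c9 LD3_c28)) :=
  Lgr Lrot126 (Lpe (f210464 IH) (Lpe (f227724 IH) (Lpr_gt (K11.f69686 IH) (Lpr_ct (K13.f59145 IH) (Lpr_gt (K13.f239180 IH) (Lpe (f59394 IH) (Lpr_bt (f205243 IH) (Lpr_gt (f205238 IH) (Lpr_bf (f272456 IH) (Lpe (f272458 IH) (Lpn (LP (LK LD1_c2 LD2_c9 LD3_c28)))))))))))))
theorem f205436 : Led Lsl_ft (LP (LK LD1_c1 LD2_c1 LD3_c52)) = (LP (LK LD1_c2 LD2_c9 LD3_c31)) :=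
  Lre_f IH (LK LD1_c1 LD2_c1 LD3_c52) (LK LD1_c2 LD2_c9 LD3_c31) Lrfl Lrfl
theorem f272462 : Led Lsl_af (LP (LK LD1_c3 LD2_c5 LD3_c36)) = (LP (LK LD1_c2 LD2_c9 LD3_c31)) :=
  Lgr Lrot31 (Lpr_gf (f272460 IH) (Lpe (f35828 IH) (Lpr_ft (f205436 IH) (Lpn (LP (LK LD1_c2 LD2_c9 LD3_c31))))))
theorem f35827 : Led Lsl_et (LP (LK LD1_c0 LD2_c28 LD3_c13)) = (LP (LK LD1_c1 LD2_c1 LD3_c52)) :=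
  Lre_e IH (LK LD1_c0 LD2_c28 LD3_c13) (LK LD1_c1 LD2_c1 LD3_c52) Lrfl Lrfl
theorem f70200 : Led Lsl_et (LP (LK LD1_c1 LD2_c55 LD3_c36)) = (LP (LK LD1_c0 LD2_c54 LD3_c31)) :=
  Lre_e IH (LK LD1_c1 LD2_c55 LD3_c36) (LK LD1_c0 LD2_c54 LD3_c31) Lrfl Lrfl
theorem f205431 : Led Lsl_at (LP (LK LD1_c1 LD2_c1 LD3_c52)) = (LP (LK LD1_c1 LD2_c55 LD3_c36)) :=
  Lgr Lrot80 (Lpe (f35827 IH) (Lpr_af (K11.f205427 IH) (Lpe (f70200 IH) (Lpn (LP (LK LD1_c1 LD2_c55 LD3_c36))))))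
theorem f205433 : Led Lsl_af (LP (LK LD1_c1 LD2_c1 LD3_c52)) = (LP (LK LD1_c1 LD2_c55 LD3_c36)) :=
  Lgr Lrot0 (Lpr_at (f205431 IH) (Lpn (LP (LK LD1_c1 LD2_c55 LD3_c36))))
theorem f272466 : Led Lsl_ft (LP (LK LD1_c3 LD2_c5 LD3_c36)) = (LP (LK LD1_c1 LD2_c55 LD3_c36)) :=
  Lgr Lrot101 (Lpr_af (f272462 IH) (Lpe (f205436 IH) (Lpr_af (f205433 IH) (Lpn (LP (LK LD1_c1 LD2_c55 LD3_c36))))))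
theorem f272470 : Led Lsl_gt (LP (LK LD1_c3 LD2_c5 LD3_c36)) = (LP (LK LD1_c2 LD2_c9 LD3_c29)) :=
  Lgr Lrot5 (Lpr_ft (f272466 IH) (Lpe (f205433 IH) (Lpe (K13.f36440 IH) (Lpn (LP (LK LD1_c2 LD2_c9 LD3_c29))))))
theorem f272472 : Led Lsl_bf (LP (LK LD1_c1 LD2_c3 LD3_c58)) = (LP (LK LD1_c1 LD2_c27 LD3_c55)) :=
  Lgr Lrot156 (Lpr_gt (f198454 IH) (Lpe (K11.f211019 IH) (Lpr_ct (K11.f20775 IH) (Lpe (K12.f227761 IH) (Lpe (K12.f59006 IH) (Lpr_bt (K11.f210308 IH) (Lpr_gt (K12.f210316 IH) (Lpr_ct (f210464 IH) (Lpr_gt (f272470 IH) (Lpr_cf (K13.f204812 IH) (Lpn (LP (LK LD1_c1 LD2_c27 LD3_c55)))))))))))))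
theorem f272474 : Led Lsl_bt (LP (LK LD1_c1 LD2_c3 LD3_c58)) = (LP (LK LD1_c1 LD2_c27 LD3_c55)) :=
  Lgr Lrot127 (Lpr_bf (f272472 IH) (Lpn (LP (LK LD1_c1 LD2_c27 LD3_c55))))
theorem f453041 : Led Lsl_ft (LP (LK LD1_c1 LD2_c27 LD3_c55)) = (LP (LK LD1_c0 LD2_c40 LD3_c48)) :=
  Lgr Lrot75 (Lpe (f272474 IH) (Lpr_ff (f453037 IH) (Lpr_bf (K11.f211020 IH) (Lpn (LP (LK LD1_c0 LD2_c40 LD3_c48))))))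
theorem f453047 : (LP (LK LD1_c1 LD2_c27 LD3_c54)) = K24.v463 :=
  (Llr Lrot46 (Lpe (f205238 IH) (Lpe (K13.f204820 IH) (Lpr_ft (f453041 IH) (Lpr_at (K24.f453024 IH) (Lpn K24.v463)))))).symm
theorem f59144 : Led Lsl_ct (LP (LK LD1_c1 LD2_c28 LD3_c18)) = (LP (LK LD1_c0 LD2_c40 LD3_c49)) :=
  Lre_c IH (LK LD1_c1 LD2_c28 LD3_c18) (LK LD1_c0 LD2_c40 LD3_c49) Lrfl Lrfl
theorem f453054 : Led Lsl_ff (LP (LK LD1_c1 LD2_c28 LD3_c18)) = (LP (LK LD1_c2 LD2_c9 LD3_c28)) :=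
  Lgr Lrot23 (Lpr_ct (f59144 IH) (Lpr_ft (K24.f453026 IH) (Lpq (f453047 IH) (Lpe (f272458 IH) (Lpn (LP (LK LD1_c2 LD2_c9 LD3_c28)))))))
theorem f453060 : Led Lsl_at (LP (LK LD1_c1 LD2_c28 LD3_c18)) = (LP (LK LD1_c2 LD2_c9 LD3_c29)) :=
  Lgr Lrot26 (Lpr_ff (f453054 IH) (Lpe (f272460 IH) (Lpr_gt (f272470 IH) (Lpn (LP (LK LD1_c2 LD2_c9 LD3_c29))))))
theorem f453064 : Led Lsl_af (LP (LK LD1_c3 LD2_c4 LD3_c37)) = (LP (LK LD1_c4 LD2_c24 LD3_c9)) :=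
  Lgr Lrot50 (Lpr_et (K13.f239193 IH) (Lpr_at (f453060 IH) (Lpr_et (K13.f204816 IH) (Lpn (LP (LK LD1_c4 LD2_c24 LD3_c9))))))
theorem f453070 : Led Lsl_at (LP (LK LD1_c6 LD2_c15 LD3_c12)) = (LP (LK LD1_c8 LD2_c46 LD3_c1)) :=
  Lgr Lrot51 (Lpe (K13.f197980 IH) (Lpr_af (f453064 IH) (Lpe (K13.f204823 IH) (Lpn (LP (LK LD1_c8 LD2_c46 LD3_c1))))))
theorem f196250 : Led Lsl_gt (LP (LK LD1_c5 LD2_c0 LD3_c32)) = (LP (LK LD1_c9 LD2_c51 LD3_c23)) :=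
  Lre_g IH (LK LD1_c5 LD2_c0 LD3_c32) (LK LD1_c9 LD2_c51 LD3_c23) Lrfl Lrfl
theorem f272196 : Led Lsl_gt (LP (LK LD1_c9 LD2_c51 LD3_c23)) = (LP (LK LD1_c6 LD2_c13 LD3_c13)) :=
  Lgr Lrot46 (Lpe (f196250 IH) (Lpr_ft (K16.f272185 IH) (Lpe (K16.f272129 IH) (Lpn (LP (LK LD1_c6 LD2_c13 LD3_c13))))))
theorem f453076 : Led Lsl_ff (LP (LK LD1_c6 LD2_c15 LD3_c12)) = (LP (LK LD1_c9 LD2_c51 LD3_c23)) :=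
  Lgr Lrot52 (Lpr_at (f453070 IH) (Lpe (K13.f227895 IH) (Lpe (f272196 IH) (Lpn (LP (LK LD1_c9 LD2_c51 LD3_c23))))))
theorem f453083 : Led Lsl_ft (LP (LK LD1_c6 LD2_c15 LD3_c12)) = (LP (LK LD1_c9 LD2_c51 LD3_c23)) :=
  Lgr Lrot48 (Lpr_ff (f453076 IH) (Lpn (LP (LK LD1_c9 LD2_c51 LD3_c23))))
theorem f453087 : Led Lsl_ft (LP (LK LD1_c6 LD2_c15 LD3_c13)) = (LP (LK LD1_c3 LD2_c4 LD3_c37)) :=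
  Lre_f IH (LK LD1_c6 LD2_c15 LD3_c13) (LK LD1_c3 LD2_c4 LD3_c37) Lrfl Lrfl
theorem f453088 : Led Lsl_df (LP (LK LD1_c6 LD2_c15 LD3_c13)) = (LP (LK LD1_c9 LD2_c51 LD3_c23)) :=
  Lgr Lrot78 (Lpr_ft (f453087 IH) (Lpr_dt (K13.f197980 IH) (Lpr_ft (f453083 IH) (Lpn (LP (LK LD1_c9 LD2_c51 LD3_c23))))))
theorem f453095 : Led Lsl_cf (LP (LK LD1_c6 LD2_c15 LD3_c13)) = (LP (LK LD1_c3 LD2_c4 LD3_c38)) :=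
  Lgr Lrot14 (Lpr_df (f453088 IH) (Lpe (f196250 IH) (Lpe (K13.f175821 IH) (Lpr_gf (K10.f196236 IH) (Lpr_ct (K1.f36712 IH) (Lpr_gt (K13.f197975 IH) (Lpr_dt (K12.f37199 IH) (Lpe (K13.f197978 IH) (Lpr_dt (K12.f59149 IH) (Lpn (LP (LK LD1_c3 LD2_c4 LD3_c38))))))))))))
theorem f193758 : Led Lsl_gf (LP (LK LD1_c3 LD2_c3 LD3_c34)) = (LP (LK LD1_c3 LD2_c4 LD3_c38)) :=
  Lgr Lrot138 (Lpr_dt (K10.f101536 IH) (Lpr_gt (K10.f193754 IH) (Lpr_df (K10.f36738 IH) (Lpr_et (K1.f36732 IH) (Lpr_gt (K1.f37962 IH) (Lpe (K1.f35618 IH) (Lpe (K1.f35620 IH) (Lpr_gt (K11.f35622 IH) (Lpe (K12.f182407 IH) (Lpr_et (K12.f182409 IH) (Lpn (LP (LK LD1_c3 LD2_c4 LD3_c38)))))))))))))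
theorem f453101 : Led Lsl_gf (LP (LK LD1_c6 LD2_c15 LD3_c13)) = (LP (LK LD1_c4 LD2_c27 LD3_c3)) :=
  Lgr Lrot129 (Lpr_cf (f453095 IH) (Lpr_bt (K12.f227838 IH) (Lpe (f193758 IH) (Lpe (K10.f101531 IH) (Lpe (K10.f175905 IH) (Lpr_gt (K10.f177687 IH) (Lpe (K12.f26666 IH) (Lpe (K12.f210946 IH) (Lpr_gt (K12.f210953 IH) (Lpr_ct (K13.f101362 IH) (Lpn (LP (LK LD1_c4 LD2_c27 LD3_c3)))))))))))))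
theorem f204909 : Led Lsl_et (LP (LK LD1_c2 LD2_c29 LD3_c50)) = (LP (LK LD1_c4 LD2_c27 LD3_c3)) :=
  Lgr Lrot158 (Lpe (K12.f180535 IH) (Lpr_ef (K12.f204905 IH) (Lpe (K13.f101361 IH) (Lpn (LP (LK LD1_c4 LD2_c27 LD3_c3))))))
theorem f453103 : Led Lsl_ef (LP (LK LD1_c6 LD2_c15 LD3_c13)) = (LP (LK LD1_c4 LD2_c56 LD3_c38)) :=
  Lgr Lrot17 (Lpr_gf (f453101 IH) (Lpe (f204909 IH) (Lpr_dt (K13.f205074 IH) (Lpe (K13.f210631 IH) (Lpe (K13.f31582 IH) (Lpe (K13.f194093 IH) (Lpr_ef (K1.f35792 IH) (Lpr_dt (K1.f35484 IH) (Lpr_gf (K12.f227806 IH) (Lpr_df (K12.f227786 IH) (Lpn (LP (LK LD1_c4 LD2_c56 LD3_c38)))))))))))))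
theorem f453058 : Led Lsl_ft (LP (LK LD1_c1 LD2_c28 LD3_c18)) = (LP (LK LD1_c2 LD2_c9 LD3_c28)) :=
  Lgr Lrot48 (Lpr_ff (f453054 IH) (Lpn (LP (LK LD1_c2 LD2_c9 LD3_c28))))
theorem f229331 : Led Lsl_et (LP (LK LD1_c4 LD2_c22 LD3_c35)) = (LP (LK LD1_c2 LD2_c9 LD3_c28)) :=
  Lgr Lrot122 (Lpr_dt (K12.f229322 IH) (Lpr_gt (K12.f35471 IH) (Lpe (K12.f35461 IH) (Lpr_et (K1.f35811 IH) (Lpe (K1.f35818 IH) (Lpr_dt (K1.f29551 IH) (Lpr_gt (K1.f35824 IH) (Lpe (K12.f35826 IH) (Lpr_et (f35827 IH) (Lpr_gt (f35828 IH) (Lpn (LP (LK LD1_c2 LD2_c9 LD3_c28)))))))))))))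
theorem f229336 : Led Lsl_ef (LP (LK LD1_c4 LD2_c22 LD3_c35)) = (LP (LK LD1_c2 LD2_c9 LD3_c28)) :=
  Lgr Lrot88 (Lpr_et (f229331 IH) (Lpn (LP (LK LD1_c2 LD2_c9 LD3_c28))))
theorem f453121 : Led Lsl_ft (LP (LK LD1_c4 LD2_c22 LD3_c35)) = (LP (LK LD1_c4 LD2_c56 LD3_c38)) :=
  Lgr Lrot86 (Lpr_ef (f229336 IH) (Lpe (f453058 IH) (Lpe (K13.f239193 IH) (Lpe (f453087 IH) (Lpr_ef (f453103 IH) (Lpn (LP (LK LD1_c4 LD2_c56 LD3_c38))))))))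
theorem f37694 : Led Lsl_dt (LP (LK LD1_c4 LD2_c58 LD3_c6)) = (LP (LK LD1_c2 LD2_c26 LD3_c53)) :=
  Lre_d IH (LK LD1_c4 LD2_c58 LD3_c6) (LK LD1_c2 LD2_c26 LD3_c53) Lrfl Lrfl
theorem f211604 : Led Lsl_dt (LP (LK LD1_c4 LD2_c1 LD3_c32)) = (LP (LK LD1_c8 LD2_c3 LD3_c43)) :=
  Lre_d IH (LK LD1_c4 LD2_c1 LD3_c32) (LK LD1_c8 LD2_c3 LD3_c43) Lrfl Lrfl
theorem f272642 : Led Lsl_gt (LP (LK LD1_c4 LD2_c22 LD3_c35)) = (LP (LK LD1_c4 LD2_c1 LD3_c32)) :=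
  Lgr Lrot94 (Lpr_cf (K12.f229346 IH) (Lpr_gt (K11.f211206 IH) (Lpe (K11.f182365 IH) (Lpe (K12.f211667 IH) (Lpe (K11.f211036 IH) (Lpr_cf (K11.f211049 IH) (Lpe (f37694 IH) (Lpr_gf (K18.f272640 IH) (Lpe (f211604 IH) (Lpn (LP (LK LD1_c4 LD2_c1 LD3_c32))))))))))))
theorem f453131 : Led Lsl_af (LP (LK LD1_c4 LD2_c22 LD3_c36)) = (LP (LK LD1_c4 LD2_c56 LD3_c38)) :=
  Lgr Lrot31 (Lpe (K18.f272549 IH) (Lpe (f272642 IH) (Lpr_ft (f453121 IH) (Lpn (LP (LK LD1_c4 LD2_c56 LD3_c38))))))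
theorem f453137 : Led Lsl_at (LP (LK LD1_c4 LD2_c24 LD3_c61)) = (LP (LK LD1_c4 LD2_c58 LD3_c7)) :=
  Lgr Lrot51 (Lpr_df (K18.f272542 IH) (Lpr_af (f453131 IH) (Lpr_df (K12.f211053 IH) (Lpn (LP (LK LD1_c4 LD2_c58 LD3_c7))))))
theorem f453145 : Led Lsl_ff (LP (LK LD1_c4 LD2_c24 LD3_c61)) = (LP (LK LD1_c4 LD2_c58 LD3_c8)) :=
  Lgr Lrot52 (Lpr_at (f453137 IH) (Lpe (K12.f37336 IH) (Lpe (K11.f37386 IH) (Lpn (LP (LK LD1_c4 LD2_c58 LD3_c8))))))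
theorem f453154 : Led Lsl_ft (LP (LK LD1_c4 LD2_c24 LD3_c61)) = (LP (LK LD1_c4 LD2_c58 LD3_c8)) :=
  Lgr Lrot48 (Lpr_ff (f453145 IH) (Lpn (LP (LK LD1_c4 LD2_c58 LD3_c8))))
theorem f453161 : Led Lsl_af (LP (LK LD1_c4 LD2_c25 LD3_c0)) = (LP (LK LD1_c4 LD2_c58 LD3_c8)) :=
  Lgr Lrot31 (Lpe (K12.f37572 IH) (Lpr_gf (K12.f37587 IH) (Lpr_ft (f453154 IH) (Lpn (LP (LK LD1_c4 LD2_c58 LD3_c8))))))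
theorem f453139 : Led Lsl_af (LP (LK LD1_c4 LD2_c24 LD3_c61)) = (LP (LK LD1_c4 LD2_c58 LD3_c7)) :=
  Lgr Lrot0 (Lpr_at (f453137 IH) (Lpn (LP (LK LD1_c4 LD2_c58 LD3_c7))))
theorem f453169 : Led Lsl_ft (LP (LK LD1_c4 LD2_c25 LD3_c0)) = (LP (LK LD1_c4 LD2_c58 LD3_c7)) :=
  Lgr Lrot101 (Lpr_af (f453161 IH) (Lpe (f453154 IH) (Lpr_af (f453139 IH) (Lpn (LP (LK LD1_c4 LD2_c58 LD3_c7))))))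
theorem f453173 : Led Lsl_ff (LP (LK LD1_c8 LD2_c47 LD3_c35)) = (LP (LK LD1_c8 LD2_c48 LD3_c44)) :=
  Lgr Lrot23 (Lpr_ct (K12.f37557 IH) (Lpr_ft (f453169 IH) (Lpe (K18.f227801 IH) (Lpn (LP (LK LD1_c8 LD2_c48 LD3_c44))))))
theorem f453185 : Led Lsl_ft (LP (LK LD1_c8 LD2_c47 LD3_c35)) = (LP (LK LD1_c8 LD2_c48 LD3_c44)) :=
  Lgr Lrot48 (Lpr_ff (f453173 IH) (Lpn (LP (LK LD1_c8 LD2_c48 LD3_c44))))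
theorem f453189 : Led Lsl_ff (LP (LK LD1_c8 LD2_c47 LD3_c26)) = (LP (LK LD1_c9 LD2_c47 LD3_c7)) :=
  Lgr Lrot19 (Lpr_dt (K12.f227532 IH) (Lpr_ft (f453185 IH) (Lpe (K18.f272633 IH) (Lpn (LP (LK LD1_c9 LD2_c47 LD3_c7))))))
theorem f37512 : Led Lsl_at (LP (LK LD1_c2 LD2_c9 LD3_c58)) = (LP (LK LD1_c2 LD2_c26 LD3_c55)) :=
  Lgr Lrot80 (Lpe (K1.f35801 IH) (Lpe (K0.f31759 IH) (Lpr_ef (K1.f37509 IH) (Lpn (LP (LK LD1_c2 LD2_c26 LD3_c55))))))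
theorem f37536 : Led Lsl_ct (LP (LK LD1_c8 LD2_c47 LD3_c40)) = (LP (LK LD1_c4 LD2_c58 LD3_c10)) :=
  Lgr Lrot41 (Lpe (K1.f35463 IH) (Lpe (K12.f35462 IH) (Lpe (K12.f35461 IH) (Lpr_ft (K1.f35791 IH) (Lpr_at (f37512 IH) (Lpe (K1.f37514 IH) (Lpr_df (K1.f37525 IH) (Lpe (K1.f37506 IH) (Lpe (K1.f37517 IH) (Lpn (LP (LK LD1_c4 LD2_c58 LD3_c10))))))))))))
theorem f272754 : Led Lsl_dt (LP (LK LD1_c15 LD2_c13 LD3_c12)) = (LP (LK LD1_c11 LD2_c32 LD3_c39)) :=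
  Lgr Lrot113 (Lpe (K18.f227576 IH) (Lpe (K18.f272510 IH) (Lpe (K18.f37673 IH) (Lpr_ct (f37536 IH) (Lpr_gt (K12.f37572 IH) (Lpe (K12.f229328 IH) (Lpr_gt (f272642 IH) (Lpr_dt (f211604 IH) (Lpr_ct (K18.f272727 IH) (Lpn (LP (LK LD1_c11 LD2_c32 LD3_c39))))))))))))
theorem f272756 : Led Lsl_gf (LP (LK LD1_c9 LD2_c47 LD3_c5)) = (LP (LK LD1_c15 LD2_c5 LD3_c44)) :=
  Lgr Lrot147 (Lpr_ct (K18.f211627 IH) (Lpe (K18.f211621 IH) (Lpr_ct (K18.f272727 IH) (Lpe (f272754 IH) (Lpe (K18.f81212 IH) (Lpe (K10.f81208 IH) (Lpe (K12.f81211 IH) (Lpe (K12.f227480 IH) (Lpe (K18.f272578 IH) (Lpn (LP (LK LD1_c15 LD2_c5 LD3_c44))))))))))))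
theorem f453195 : Led Lsl_at (LP (LK LD1_c8 LD2_c47 LD3_c26)) = (LP (LK LD1_c9 LD2_c47 LD3_c5)) :=
  Lgr Lrot26 (Lpr_ff (f453189 IH) (Lpr_gt (K18.f272638 IH) (Lpe (f272756 IH) (Lpn (LP (LK LD1_c9 LD2_c47 LD3_c5))))))
theorem f453199 : Led Lsl_af (LP (LK LD1_c4 LD2_c24 LD3_c58)) = (LP (LK LD1_c4 LD2_c58 LD3_c5)) :=
  Lgr Lrot68 (Lpr_ct (K12.f38499 IH) (Lpr_at (f453195 IH) (Lpr_ct (K18.f211627 IH) (Lpn (LP (LK LD1_c4 LD2_c58 LD3_c5))))))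
theorem f453207 : Led Lsl_ft (LP (LK LD1_c4 LD2_c24 LD3_c60)) = (LP (LK LD1_c4 LD2_c58 LD3_c5)) :=
  Lgr Lrot2 (Lpr_gt (K18.f272406 IH) (Lpr_gt (K18.f272610 IH) (Lpr_af (f453199 IH) (Lpn (LP (LK LD1_c4 LD2_c58 LD3_c5))))))
theorem f453220 : Led Lsl_ff (LP (LK LD1_c4 LD2_c24 LD3_c60)) = (LP (LK LD1_c4 LD2_c58 LD3_c5)) :=
  Lgr Lrot3 (Lpr_ft (f453207 IH) (Lpn (LP (LK LD1_c4 LD2_c58 LD3_c5))))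
theorem f453231 : Led Lsl_at (LP (LK LD1_c4 LD2_c24 LD3_c60)) = (LP (LK LD1_c4 LD2_c58 LD3_c6)) :=
  Lgr Lrot26 (Lpr_ff (f453220 IH) (Lpe (K18.f211621 IH) (Lpe (K18.f272640 IH) (Lpn (LP (LK LD1_c4 LD2_c58 LD3_c6))))))
theorem f453201 : Led Lsl_at (LP (LK LD1_c4 LD2_c24 LD3_c58)) = (LP (LK LD1_c4 LD2_c58 LD3_c5)) :=
  Lgr Lrot100 (Lpr_af (f453199 IH) (Lpn (LP (LK LD1_c4 LD2_c58 LD3_c5))))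
theorem f453239 : Led Lsl_ff (LP (LK LD1_c4 LD2_c24 LD3_c58)) = (LP (LK LD1_c4 LD2_c58 LD3_c6)) :=
  Lgr Lrot30 (Lpr_at (f453201 IH) (Lpe (f453220 IH) (Lpr_at (f453231 IH) (Lpn (LP (LK LD1_c4 LD2_c58 LD3_c6))))))
theorem f453241 : Led Lsl_ft (LP (LK LD1_c2 LD2_c9 LD3_c55)) = (LP (LK LD1_c2 LD2_c26 LD3_c53)) :=
  Lgr Lrot54 (Lpe (K12.f80392 IH) (Lpr_ff (f453239 IH) (Lpe (K12.f211051 IH) (Lpn (LP (LK LD1_c2 LD2_c26 LD3_c53))))))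
theorem f453255 : Led Lsl_ff (LP (LK LD1_c2 LD2_c9 LD3_c55)) = (LP (LK LD1_c2 LD2_c26 LD3_c53)) :=
  Lgr Lrot3 (Lpr_ft (f453241 IH) (Lpn (LP (LK LD1_c2 LD2_c26 LD3_c53))))
theorem f453259 : Led Lsl_ft (LP (LK LD1_c1 LD2_c22 LD3_c9)) = (LP (LK LD1_c1 LD2_c22 LD3_c11)) :=
  Lgr Lrot4 (Lpr_cf (K12.f227468 IH) (Lpr_ff (f453255 IH) (Lpe (K11.f211043 IH) (Lpn (LP (LK LD1_c1 LD2_c22 LD3_c11))))))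
theorem f227467 : Led Lsl_bt (LP (LK LD1_c0 LD2_c38 LD3_c2)) = (LP (LK LD1_c1 LD2_c22 LD3_c9)) :=
  Lre_b IH (LK LD1_c0 LD2_c38 LD3_c2) (LK LD1_c1 LD2_c22 LD3_c9) Lrfl Lrfl
theorem f453265 : v423 = (LP (LK LD1_c0 LD2_c38 LD3_c3)) :=
  (Llr Lrot25 (Lpe (f452764 IH) (Lpr_bt (f227467 IH) (Lpr_ft (f453259 IH) (Lpr_bt (K11.f24591 IH) (Lpn (LP (LK LD1_c0 LD2_c38 LD3_c3)))))))).symm
theorem f24590 : Led Lsl_dt (LP (LK LD1_c0 LD2_c38 LD3_c2)) = (LP (LK LD1_c1 LD2_c22 LD3_c10)) :=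
  Lre_d IH (LK LD1_c0 LD2_c38 LD3_c2) (LK LD1_c1 LD2_c22 LD3_c10) Lrfl Lrfl
theorem f453272 : Led Lsl_ff (LP (LK LD1_c1 LD2_c22 LD3_c12)) = (LP (LK LD1_c1 LD2_c22 LD3_c10)) :=
  Lgr Lrot19 (Lpr_dt (K11.f24588 IH) (Lpq (f453265 IH) (Lpe (f452764 IH) (Lpr_dt (f24590 IH) (Lpn (LP (LK LD1_c1 LD2_c22 LD3_c10)))))))
theorem f453274 : Led Lsl_ft (LP (LK LD1_c1 LD2_c22 LD3_c12)) = (LP (LK LD1_c1 LD2_c22 LD3_c10)) :=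
  Lgr Lrot48 (Lpr_ff (f453272 IH) (Lpn (LP (LK LD1_c1 LD2_c22 LD3_c10))))
theorem f211029 : Led Lsl_bt (LP (LK LD1_c1 LD2_c22 LD3_c12)) = (LP (LK LD1_c1 LD2_c28 LD3_c17)) :=
  Lgr Lrot127 (Lpr_bf (K11.f211026 IH) (Lpn (LP (LK LD1_c1 LD2_c28 LD3_c17))))
theorem f419040 : Led Lsl_ef (LP (LK LD1_c1 LD2_c22 LD3_c12)) = (LP (LK LD1_c1 LD2_c3 LD3_c57)) :=
  Lgr Lrot29 (Lpr_bt (f211029 IH) (Lpr_et (K11.f80824 IH) (Lpe (K11.f211020 IH) (Lpn (LP (LK LD1_c1 LD2_c3 LD3_c57))))))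
theorem f453031 : Led Lsl_at (LP (LK LD1_c1 LD2_c22 LD3_c12)) = (LP (LK LD1_c1 LD2_c22 LD3_c12)) :=
  Lgr Lrot80 (Lpr_ef (f419040 IH) (Lpr_af (K24.f453029 IH) (Lpe (K11.f37102 IH) (Lpn (LP (LK LD1_c1 LD2_c22 LD3_c12))))))
theorem f453276 : Led Lsl_af (LP (LK LD1_c1 LD2_c22 LD3_c10)) = (LP (LK LD1_c1 LD2_c22 LD3_c10)) :=
  Lgr Lrot45 (Lpe (f453272 IH) (Lpr_at (f453031 IH) (Lpr_ft (f453274 IH) (Lpn (LP (LK LD1_c1 LD2_c22 LD3_c10))))))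
theorem f500259 : Led Lsl_at v1595 = v1595 :=
  Lgr Lrot107 (Lpe (f500254 IH) (Lpr_af (f453276 IH) (Lpr_cf (f500255 IH) (Lpn v1595))))
def v419 : LQ := Led Lsl_gf (LP (LK LD1_c0 LD2_c38 LD3_c1))
theorem f452741 : Led Lsl_gf (LP (LK LD1_c0 LD2_c38 LD3_c1)) = v419 :=
  Lrfl
theorem f452742 : Led Lsl_ct (LP (LK LD1_c0 LD2_c38 LD3_c3)) = v419 :=
  Lgr Lrot64 (Lpr_bt (K11.f211032 IH) (Lpr_gf (K11.f211040 IH) (Lpe (K1.f27248 IH) (Lpe (K10.f71477 IH) (Lpe (K11.f198503 IH) (Lpe (K11.f24257 IH) (Lpe (K9.f24216 IH) (Lpe (K11.f24252 IH) (Lpr_ct (K12.f24583 IH) (Lpr_gf (f452741 IH) (Lpn v419)))))))))))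
theorem f452743 : Led Lsl_cf (LP (LK LD1_c0 LD2_c38 LD3_c3)) = v419 :=
  Lgr Lrot11 (Lpr_ct (f452742 IH) (Lpn v419))
theorem f24584 : Led Lsl_dt (LP (LK LD1_c0 LD2_c38 LD3_c1)) = (LP (LK LD1_c1 LD2_c22 LD3_c8)) :=
  Lre_d IH (LK LD1_c0 LD2_c38 LD3_c1) (LK LD1_c1 LD2_c22 LD3_c8) Lrfl Lrfl
def v1589 : LQ := Led Lsl_gt (LP (LK LD1_c1 LD2_c22 LD3_c8))
theorem f500223 : Led Lsl_gt (LP (LK LD1_c1 LD2_c22 LD3_c8)) = v1589 :=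
  Lrfl
theorem f500256 : Led Lsl_dt v1589 = v1595 :=
  Lgr Lrot113 (Lpe (f500223 IH) (Lpe (f24584 IH) (Lpr_gf (f452741 IH) (Lpe (f452743 IH) (Lpr_gt (K11.f24587 IH) (Lpe (K11.f24418 IH) (Lpr_gt (K12.f24589 IH) (Lpr_dt (f24590 IH) (Lpr_ct (f500254 IH) (Lpn v1595))))))))))
theorem f500258 : Led Lsl_df v1589 = v1595 :=
  Lgr Lrot38 (Lpr_dt (f500256 IH) (Lpn v1595))
theorem f500260 : Led Lsl_af v1589 = v1589 :=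
  Lgr Lrot117 (Lpr_dt (f500256 IH) (Lpr_at (f500259 IH) (Lpe (f500258 IH) (Lpn v1589))))
theorem f24255 : Led Lsl_gt (LP (LK LD1_c2 LD2_c52 LD3_c16)) = (LP (LK LD1_c1 LD2_c22 LD3_c8)) :=
  Lre_g IH (LK LD1_c2 LD2_c52 LD3_c16) (LK LD1_c1 LD2_c22 LD3_c8) Lrfl Lrfl
theorem f500261 : Led Lsl_ft (LP (LK LD1_c2 LD2_c52 LD3_c16)) = v1589 :=
  Lgr Lrot2 (Lpr_gt (f24255 IH) (Lpr_gt (f500223 IH) (Lpr_af (f500260 IH) (Lpn v1589))))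
theorem f500262 : Led Lsl_ff (LP (LK LD1_c2 LD2_c52 LD3_c16)) = v1589 :=
  Lgr Lrot3 (Lpr_ft (f500261 IH) (Lpn v1589))
theorem f500263 : Led Lsl_at (LP (LK LD1_c2 LD2_c52 LD3_c16)) = (LP (LK LD1_c2 LD2_c52 LD3_c16)) :=
  Lgr Lrot66 (Lpr_ff (f500262 IH) (Lpr_af (f500260 IH) (Lpe (f500261 IH) (Lpn (LP (LK LD1_c2 LD2_c52 LD3_c16))))))
theorem f500264 : Led Lsl_at (LP (LK LD1_c2 LD2_c52 LD3_c16)) = (LP (LK LD1_c2 LD2_c52 LD3_c16)) :=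
  Leop (Lpe (f500263 IH) (Lpn (LP (LK LD1_c2 LD2_c52 LD3_c16))))
theorem seed_120 : LEOK LG_a (LK LD1_c2 LD2_c52 LD3_c16) :=
  Leoe_a (LK LD1_c2 LD2_c52 LD3_c16) (f500264 IH)
def v1701 : LQ := Led Lsl_ct (LP (LK LD1_c1 LD2_c24 LD3_c13))
theorem f500913 : Led Lsl_ct (LP (LK LD1_c1 LD2_c24 LD3_c13)) = v1701 :=
  Lrfl
theorem f500914 : Led Lsl_cf (LP (LK LD1_c1 LD2_c24 LD3_c13)) = v1701 :=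
  Lgr Lrot11 (Lpr_ct (f500913 IH) (Lpn v1701))
theorem f101562 : Led Lsl_gt (LP (LK LD1_c2 LD2_c47 LD3_c36)) = (LP (LK LD1_c1 LD2_c24 LD3_c13)) :=
  Lre_g IH (LK LD1_c2 LD2_c47 LD3_c36) (LK LD1_c1 LD2_c24 LD3_c13) Lrfl Lrfl
theorem f100571 : Led Lsl_ct (LP (LK LD1_c4 LD2_c57 LD3_c2)) = (LP (LK LD1_c2 LD2_c47 LD3_c36)) :=
  Lre_c IH (LK LD1_c4 LD2_c57 LD3_c2) (LK LD1_c2 LD2_c47 LD3_c36) Lrfl Lrfl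
theorem f100576 : Led Lsl_gt (LP (LK LD1_c2 LD2_c27 LD3_c48)) = (LP (LK LD1_c4 LD2_c57 LD3_c2)) :=
  Lre_g IH (LK LD1_c2 LD2_c27 LD3_c48) (LK LD1_c4 LD2_c57 LD3_c2) Lrfl Lrfl
theorem f100577 : Led Lsl_bt (LP (LK LD1_c5 LD2_c0 LD3_c3)) = (LP (LK LD1_c2 LD2_c27 LD3_c48)) :=
  Lre_b IH (LK LD1_c5 LD2_c0 LD3_c3) (LK LD1_c2 LD2_c27 LD3_c48) Lrfl Lrfl
theorem f175578 : Led Lsl_bt (LP (LK LD1_c2 LD2_c13 LD3_c38)) = (LP (LK LD1_c1 LD2_c3 LD3_c55)) :=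
  Lre_b IH (LK LD1_c2 LD2_c13 LD3_c38) (LK LD1_c1 LD2_c3 LD3_c55) Lrfl Lrfl
theorem f101288 : Led Lsl_ct (LP (LK LD1_c2 LD2_c13 LD3_c38)) = (LP (LK LD1_c4 LD2_c23 LD3_c33)) :=
  Lre_c IH (LK LD1_c2 LD2_c13 LD3_c38) (LK LD1_c4 LD2_c23 LD3_c33) Lrfl Lrfl
theorem f99767 : Led Lsl_gt (LP (LK LD1_c8 LD2_c44 LD3_c50)) = (LP (LK LD1_c4 LD2_c23 LD3_c33)) :=
  Lre_g IH (LK LD1_c8 LD2_c44 LD3_c50) (LK LD1_c4 LD2_c23 LD3_c33) Lrfl Lrfl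
theorem f104895 : Led Lsl_gt (LP (LK LD1_c1 LD2_c11 LD3_c1)) = (LP (LK LD1_c2 LD2_c27 LD3_c48)) :=
  Lre_g IH (LK LD1_c1 LD2_c11 LD3_c1) (LK LD1_c2 LD2_c27 LD3_c48) Lrfl Lrfl
theorem f175579 : Led Lsl_cf (LP (LK LD1_c8 LD2_c44 LD3_c50)) = (LP (LK LD1_c5 LD2_c0 LD3_c3)) :=
  Lgr Lrot160 (Lpr_gt (f99767 IH) (Lpe (f101288 IH) (Lpr_bt (f175578 IH) (Lpr_gt (K9.f101494 IH) (Lpr_ct (K9.f175565 IH) (Lpr_gt (K9.f27239 IH) (Lpe (K9.f26035 IH) (Lpr_bt (K9.f100579 IH) (Lpr_gt (f104895 IH) (Lpe (f100577 IH) (Lpn (LP (LK LD1_c5 LD2_c0 LD3_c3)))))))))))))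
theorem f176571 : Led Lsl_gt (LP (LK LD1_c1 LD2_c24 LD3_c13)) = (LP (LK LD1_c0 LD2_c38 LD3_c52)) :=
  Lre_g IH (LK LD1_c1 LD2_c24 LD3_c13) (LK LD1_c0 LD2_c38 LD3_c52) Lrfl Lrfl
theorem f176570 : Led Lsl_ct (LP (LK LD1_c1 LD2_c11 LD3_c1)) = (LP (LK LD1_c0 LD2_c38 LD3_c52)) :=
  Lre_c IH (LK LD1_c1 LD2_c11 LD3_c1) (LK LD1_c0 LD2_c38 LD3_c52) Lrfl Lrfl
theorem f101541 : Led Lsl_bt (LP (LK LD1_c1 LD2_c11 LD3_c1)) = (LP (LK LD1_c0 LD2_c32 LD3_c58)) :=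
  Lre_b IH (LK LD1_c1 LD2_c11 LD3_c1) (LK LD1_c0 LD2_c32 LD3_c58) Lrfl Lrfl
theorem f176569 : Led Lsl_bt (LP (LK LD1_c0 LD2_c37 LD3_c13)) = (LP (LK LD1_c1 LD2_c20 LD3_c22)) :=
  Lre_b IH (LK LD1_c0 LD2_c37 LD3_c13) (LK LD1_c1 LD2_c20 LD3_c22) Lrfl Lrfl
def v1502 : LQ := Led Lsl_gt (LP (LK LD1_c1 LD2_c20 LD3_c22))
theorem f495908 : Led Lsl_gt (LP (LK LD1_c1 LD2_c20 LD3_c22)) = v1502 :=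
  Lrfl
theorem f500919 : Led Lsl_bf v1502 = v1701 :=
  Lgr Lrot34 (Lpe (f495908 IH) (Lpe (f176569 IH) (Lpr_ct (K10.f26665 IH) (Lpe (K0.f20585 IH) (Lpe (K10.f26690 IH) (Lpr_gf (K10.f176553 IH) (Lpe (f101541 IH) (Lpr_ct (f176570 IH) (Lpe (f176571 IH) (Lpr_cf (f500914 IH) (Lpn v1701)))))))))))
theorem f495909 : Led Lsl_ft (LP (LK LD1_c1 LD2_c20 LD3_c22)) = (LP (LK LD1_c0 LD2_c38 LD3_c52)) :=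
  Lre_f IH (LK LD1_c1 LD2_c20 LD3_c22) (LK LD1_c0 LD2_c38 LD3_c52) Lrfl Lrfl
theorem f452886 : Led Lsl_at (LP (LK LD1_c0 LD2_c38 LD3_c52)) = (LP (LK LD1_c1 LD2_c23 LD3_c27)) :=
  Lre_a IH (LK LD1_c0 LD2_c38 LD3_c52) (LK LD1_c1 LD2_c23 LD3_c27) Lrfl Lrfl
theorem f495910 : Led Lsl_gf (LP (LK LD1_c1 LD2_c23 LD3_c27)) = v1502 :=
  Lgr Lrot76 (Lpe (f452886 IH) (Lpe (f495909 IH) (Lpr_gt (f495908 IH) (Lpn v1502))))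
theorem f100584 : Led Lsl_bt (LP (LK LD1_c2 LD2_c15 LD3_c30)) = (LP (LK LD1_c1 LD2_c23 LD3_c27)) :=
  Lre_b IH (LK LD1_c2 LD2_c15 LD3_c30) (LK LD1_c1 LD2_c23 LD3_c27) Lrfl Lrfl
theorem f99687 : Led Lsl_ct (LP (LK LD1_c2 LD2_c15 LD3_c30)) = (LP (LK LD1_c4 LD2_c25 LD3_c39)) :=
  Lre_c IH (LK LD1_c2 LD2_c15 LD3_c30) (LK LD1_c4 LD2_c25 LD3_c39) Lrfl Lrfl
theorem f500920 : Led Lsl_gf (LP (LK LD1_c8 LD2_c44 LD3_c50)) = (LP (LK LD1_c4 LD2_c25 LD3_c39)) :=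
  Lgr Lrot126 (Lpr_cf (f175579 IH) (Lpr_bt (f100577 IH) (Lpr_gt (f100576 IH) (Lpr_ct (f100571 IH) (Lpr_gt (f101562 IH) (Lpr_cf (f500914 IH) (Lpe (f500919 IH) (Lpe (f495910 IH) (Lpe (f100584 IH) (Lpr_ct (f99687 IH) (Lpn (LP (LK LD1_c4 LD2_c25 LD3_c39)))))))))))))
theorem f500921 : Led Lsl_gt (LP (LK LD1_c4 LD2_c25 LD3_c39)) = (LP (LK LD1_c8 LD2_c44 LD3_c50)) :=
  Leop (Lpr_gf (f500920 IH) (Lpn (LP (LK LD1_c4 LD2_c25 LD3_c39))))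
theorem seed_121 : LEOK LG_g (LK LD1_c4 LD2_c25 LD3_c39) :=
  Leoe_g (LK LD1_c4 LD2_c25 LD3_c39) (f500921 IH)

end

end K31

end

end Cfsg.Agent.Helper28.S1692
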