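import Cfsg.Agent.Lib.Helper28.S1692.Seeds31

set_option autoImplicit false
set_option maxRecDepth 100000
set_option linter.all false

namespace Cfsg.Agent.Helper28.S1692

open Cfsg.Agent.Helper28
open Cfsg.Spor.ON (Gen)

noncomputable section

namespace K32
abbrev LD1_c0 := D1.c0
abbrev LD1_c1 := D1.c1
abbrev LD1_c2 := D1.c2
abbrev LD1_c3 := D1.c3
abbrev LD1_c4 := D1.c4
abbrev LD1_c5 := D1.c5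
abbrev LD1_c6 := D1.c6
abbrev LD1_c7 := D1.c7
abbrev LD1_c8 := D1.c8
abbrev LD1_c9 := D1.c9
abbrev LD1_c10 := D1.c10
abbrev LD1_c11 := D1.c11
abbrev LD1_c12 := D1.c12
abbrev LD1_c13 := D1.c13
abbrev LD1_c14 := D1.c14
abbrev LD1_c15 := D1.c15
abbrev LD1_c16 := D1.c16
abbrev LD1_c17 := D1.c17
abbrev LD1_c18 := D1.c18
abbrev LD1_c19 := D1.c19
abbrev LD1_c20 := D1.c20
abbrev LD1_c21 := D1.c21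
abbrev LD1_c22 := D1.c22
abbrev LD1_c23 := D1.c23
abbrev LD1_c24 := D1.c24
abbrev LD1_c25 := D1.c25
abbrev LD1_c26 := D1.c26
abbrev LD1_c27 := D1.c27
abbrev LD1_c28 := D1.c28
abbrev LD1_c29 := D1.c29
abbrev LD1_c30 := D1.c30
abbrev LD1_c31 := D1.c31
abbrev LD1_c32 := D1.c32
abbrev LD2_c0 := D2.c0
abbrev LD2_c1 := D2.c1
abbrev LD2_c2 := D2.c2
abbrev LD2_c3 := D2.c3
abbrev LD2_c4 := D2.c4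
abbrev LD2_c5 := D2.c5
abbrev LD2_c6 := D2.c6
abbrev LD2_c7 := D2.c7
abbrev LD2_c8 := D2.c8
abbrev LD2_c9 := D2.c9
abbrev LD2_c10 := D2.c10
abbrev LD2_c11 := D2.c11
abbrev LD2_c12 := D2.c12
abbrev LD2_c13 := D2.c13
abbrev LD2_c14 := D2.c14
abbrev LD2_c15 := D2.c15
abbrev LD2_c16 := D2.c16
abbrev LD2_c17 := D2.c17
abbrev LD2_c18 := D2.c18
abbrev LD2_c19 := D2.c19
abbrev LD2_c20 := D2.c20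
abbrev LD2_c21 := D2.c21
abbrev LD2_c22 := D2.c22
abbrev LD2_c23 := D2.c23
abbrev LD2_c24 := D2.c24
abbrev LD2_c25 := D2.c25
abbrev LD2_c26 := D2.c26
abbrev LD2_c27 := D2.c27
abbrev LD2_c28 := D2.c28
abbrev LD2_c29 := D2.c29
abbrev LD2_c30 := D2.c30
abbrev LD2_c31 := D2.c31
abbrev LD2_c32 := D2.c32
abbrev LD2_c33 := D2.c33
abbrev LD2_c34 := D2.c34
abbrev LD2_c35 := D2.c35
abbrev LD2_c36 := D2.c36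
abbrev LD2_c37 := D2.c37
abbrev LD2_c38 := D2.c38
abbrev LD2_c39 := D2.c39
abbrev LD2_c40 := D2.c40
abbrev LD2_c41 := D2.c41
abbrev LD2_c42 := D2.c42
abbrev LD2_c43 := D2.c43
abbrev LD2_c44 := D2.c44
abbrev LD2_c45 := D2.c45
abbrev LD2_c46 := D2.c46
abbrev LD2_c47 := D2.c47
abbrev LD2_c48 := D2.c48
abbrev LD2_c49 := D2.c49
abbrev LD2_c50 := D2.c50
abbrev LD2_c51 := D2.c51
abbrev LD2_c52 := D2.c52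
abbrev LD2_c53 := D2.c53
abbrev LD2_c54 := D2.c54
abbrev LD2_c55 := D2.c55
abbrev LD2_c56 := D2.c56
abbrev LD2_c57 := D2.c57
abbrev LD2_c58 := D2.c58
abbrev LD2_c59 := D2.c59
abbrev LD3_c0 := D3.c0
abbrev LD3_c1 := D3.c1
abbrev LD3_c2 := D3.c2
abbrev LD3_c3 := D3.c3
abbrev LD3_c4 := D3.c4
abbrev LD3_c5 := D3.c5
abbrev LD3_c6 := D3.c6
abbrev LD3_c7 := D3.c7
abbrev LD3_c8 := D3.c8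
abbrev LD3_c9 := D3.c9
abbrev LD3_c10 := D3.c10
abbrev LD3_c11 := D3.c11
abbrev LD3_c12 := D3.c12
abbrev LD3_c13 := D3.c13
abbrev LD3_c14 := D3.c14
abbrev LD3_c15 := D3.c15
abbrev LD3_c16 := D3.c16
abbrev LD3_c17 := D3.c17
abbrev LD3_c18 := D3.c18
abbrev LD3_c19 := D3.c19
abbrev LD3_c20 := D3.c20
abbrev LD3_c21 := D3.c21
abbrev LD3_c22 := D3.c22
abbrev LD3_c23 := D3.c23
abbrev LD3_c24 := D3.c24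
abbrev LD3_c25 := D3.c25
abbrev LD3_c26 := D3.c26
abbrev LD3_c27 := D3.c27
abbrev LD3_c28 := D3.c28
abbrev LD3_c29 := D3.c29
abbrev LD3_c30 := D3.c30
abbrev LD3_c31 := D3.c31
abbrev LD3_c32 := D3.c32
abbrev LD3_c33 := D3.c33
abbrev LD3_c34 := D3.c34
abbrev LD3_c35 := D3.c35
abbrev LD3_c36 := D3.c36
abbrev LD3_c37 := D3.c37
abbrev LD3_c38 := D3.c38
abbrev LD3_c39 := D3.c39
abbrev LD3_c40 := D3.c40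
abbrev LD3_c41 := D3.c41
abbrev LD3_c42 := D3.c42
abbrev LD3_c43 := D3.c43
abbrev LD3_c44 := D3.c44
abbrev LD3_c45 := D3.c45
abbrev LD3_c46 := D3.c46
abbrev LD3_c47 := D3.c47
abbrev LD3_c48 := D3.c48
abbrev LD3_c49 := D3.c49
abbrev LD3_c50 := D3.c50
abbrev LD3_c51 := D3.c51
abbrev LD3_c52 := D3.c52
abbrev LD3_c53 := D3.c53
abbrev LD3_c54 := D3.c54
abbrev LD3_c55 := D3.c55
abbrev LD3_c56 := D3.c56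
abbrev LD3_c57 := D3.c57
abbrev LD3_c58 := D3.c58
abbrev LD3_c59 := D3.c59
abbrev LD3_c60 := D3.c60
abbrev LD3_c61 := D3.c61
abbrev LG_g := Gen.g
abbrev Lsl_gt : Gen × Bool := sl_gt
alias Lfl_gt := fl_gt
alias Lpr_gt := pr_gt
abbrev Lsl_gf : Gen × Bool := sl_gf
alias Lfl_gf := fl_gf
alias Lpr_gf := pr_gf
alias Lre_g := re_g
alias Leoe_g := eoe_g
abbrev LG_a := Gen.a
abbrev Lsl_at : Gen × Bool := sl_at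
alias Lfl_at := fl_at
alias Lpr_at := pr_at
abbrev Lsl_af : Gen × Bool := sl_af
alias Lfl_af := fl_af
alias Lpr_af := pr_af
alias Lre_a := re_a
alias Leoe_a := eoe_a
abbrev LG_b := Gen.b
abbrev Lsl_bt : Gen × Bool := sl_bt
alias Lfl_bt := fl_bt
alias Lpr_bt := pr_bt
abbrev Lsl_bf : Gen × Bool := sl_bf
alias Lfl_bf := fl_bf
alias Lpr_bf := pr_bf
alias Lre_b := re_b
alias Leoe_b := eoe_b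
abbrev LG_c := Gen.c
abbrev Lsl_ct : Gen × Bool := sl_ct
alias Lfl_ct := fl_ct
alias Lpr_ct := pr_ct
abbrev Lsl_cf : Gen × Bool := sl_cf
alias Lfl_cf := fl_cf
alias Lpr_cf := pr_cf
alias Lre_c := re_c
alias Leoe_c := eoe_c
abbrev LG_d := Gen.d
abbrev Lsl_dt : Gen × Bool := sl_dt
alias Lfl_dt := fl_dt
alias Lpr_dt := pr_dt
abbrev Lsl_df : Gen × Bool := sl_df
alias Lfl_df := fl_df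
alias Lpr_df := pr_df
alias Lre_d := re_d
alias Leoe_d := eoe_d
abbrev LG_e := Gen.e
abbrev Lsl_et : Gen × Bool := sl_et
alias Lfl_et := fl_et
alias Lpr_et := pr_et
abbrev Lsl_ef : Gen × Bool := sl_ef
alias Lfl_ef := fl_ef
alias Lpr_ef := pr_ef
alias Lre_e := re_e
alias Leoe_e := eoe_e
abbrev LG_f := Gen.f
abbrev Lsl_ft : Gen × Bool := sl_ft
alias Lfl_ft := fl_ft
alias Lpr_ft := pr_ft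
abbrev Lsl_ff : Gen × Bool := sl_ff
alias Lfl_ff := fl_ff
alias Lpr_ff := pr_ff
alias Lre_f := re_f
alias Leoe_f := eoe_f
abbrev LK := Pt.mk
abbrev LQ : Type := Qt rels S
abbrev LP (p : Pt) : LQ := P p
abbrev Led (l : Gen × Bool) (c : LQ) : LQ := ed l c
abbrev LEOK (x : Gen) (p : Pt) : Prop := EntryOK rels S fwd inv o plet idx x p
alias Lpe := pe
alias Lpn := pn
alias Lgr := gr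
alias Lpq := pq
alias Lpqs := pqs
alias Llr := lr
alias Leop := eop
alias Lefun := efun
alias Lecon := econ
theorem Lrfl {α : Sort _} {a : α} : a = a := rfl
alias Lrot0 := rot0
alias Lrot1 := rot1
alias Lrot2 := rot2
alias Lrot3 := rot3
alias Lrot4 := rot4
alias Lrot5 := rot5
alias Lrot6 := rot6
alias Lrot7 := rot7
alias Lrot8 := rot8
alias Lrot9 := rot9
alias Lrot10 := rot10
alias Lrot11 := rot11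
alias Lrot12 := rot12
alias Lrot13 := rot13
alias Lrot14 := rot14
alias Lrot15 := rot15
alias Lrot17 := rot17
alias Lrot18 := rot18
alias Lrot19 := rot19
alias Lrot20 := rot20
alias Lrot21 := rot21
alias Lrot22 := rot22
alias Lrot23 := rot23
alias Lrot24 := rot24
alias Lrot25 := rot25
alias Lrot26 := rot26
alias Lrot27 := rot27
alias Lrot28 := rot28
alias Lrot29 := rot29
alias Lrot30 := rot30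
alias Lrot31 := rot31
alias Lrot32 := rot32
alias Lrot33 := rot33
alias Lrot34 := rot34
alias Lrot35 := rot35
alias Lrot36 := rot36
alias Lrot37 := rot37
alias Lrot38 := rot38
alias Lrot39 := rot39
alias Lrot40 := rot40
alias Lrot41 := rot41
alias Lrot42 := rot42
alias Lrot43 := rot43
alias Lrot44 := rot44
alias Lrot45 := rot45
alias Lrot46 := rot46
alias Lrot47 := rot47
alias Lrot48 := rot48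
alias Lrot49 := rot49
alias Lrot50 := rot50
alias Lrot51 := rot51
alias Lrot52 := rot52
alias Lrot53 := rot53
alias Lrot54 := rot54
alias Lrot55 := rot55
alias Lrot56 := rot56
alias Lrot57 := rot57
alias Lrot58 := rot58
alias Lrot59 := rot59
alias Lrot60 := rot60
alias Lrot61 := rot61
alias Lrot62 := rot62
alias Lrot63 := rot63
alias Lrot64 := rot64
alias Lrot65 := rot65
alias Lrot66 := rot66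
alias Lrot67 := rot67
alias Lrot68 := rot68
alias Lrot69 := rot69
alias Lrot70 := rot70
alias Lrot71 := rot71
alias Lrot72 := rot72
alias Lrot73 := rot73
alias Lrot74 := rot74
alias Lrot75 := rot75
alias Lrot76 := rot76
alias Lrot77 := rot77
alias Lrot78 := rot78
alias Lrot79 := rot79
alias Lrot80 := rot80
alias Lrot81 := rot81
alias Lrot82 := rot82
alias Lrot83 := rot83
alias Lrot84 := rot84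
alias Lrot86 := rot86
alias Lrot87 := rot87
alias Lrot88 := rot88
alias Lrot90 := rot90
alias Lrot91 := rot91
alias Lrot92 := rot92
alias Lrot93 := rot93
alias Lrot94 := rot94
alias Lrot95 := rot95
alias Lrot96 := rot96
alias Lrot97 := rot97
alias Lrot98 := rot98
alias Lrot99 := rot99
alias Lrot100 := rot100
alias Lrot101 := rot101
alias Lrot102 := rot102
alias Lrot103 := rot103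
alias Lrot104 := rot104
alias Lrot105 := rot105
alias Lrot106 := rot106
alias Lrot107 := rot107
alias Lrot108 := rot108
alias Lrot109 := rot109
alias Lrot110 := rot110
alias Lrot111 := rot111
alias Lrot112 := rot112
alias Lrot113 := rot113
alias Lrot114 := rot114
alias Lrot115 := rot115
alias Lrot117 := rot117
alias Lrot118 := rot118
alias Lrot119 := rot119
alias Lrot120 := rot120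
alias Lrot121 := rot121
alias Lrot122 := rot122
alias Lrot123 := rot123
alias Lrot124 := rot124
alias Lrot125 := rot125
alias Lrot126 := rot126
alias Lrot127 := rot127
alias Lrot128 := rot128
alias Lrot129 := rot129
alias Lrot130 := rot130
alias Lrot131 := rot131
alias Lrot132 := rot132
alias Lrot133 := rot133
alias Lrot134 := rot134
alias Lrot135 := rot135
alias Lrot136 := rot136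
alias Lrot137 := rot137
alias Lrot138 := rot138
alias Lrot139 := rot139
alias Lrot140 := rot140
alias Lrot141 := rot141
alias Lrot142 := rot142
alias Lrot143 := rot143
alias Lrot144 := rot144
alias Lrot145 := rot145
alias Lrot147 := rot147
alias Lrot148 := rot148
alias Lrot149 := rot149
alias Lrot150 := rot150
alias Lrot152 := rot152
alias Lrot153 := rot153
alias Lrot154 := rot154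
alias Lrot155 := rot155
alias Lrot156 := rot156
alias Lrot157 := rot157
alias Lrot158 := rot158
alias Lrot159 := rot159
alias Lrot160 := rot160
alias Lrot161 := rot161
alias Lrot162 := rot162
alias Lrot163 := rot163
alias Lrot164 := rot164
alias Lrot165 := rot165
alias Lrot166 := rot166
alias Lrot167 := rot167
alias Lrot168 := rot168
alias Lrot169 := rot169
alias Lrot170 := rot170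
alias Lrot171 := rot171
alias Lrot172 := rot172
alias Lrot173 := rot173
alias Lrot174 := rot174
alias Lrot176 := rot176
alias Lrot177 := rot177
alias Lrot178 := rot178
alias Lrot179 := rot179
alias Lrot180 := rot180
alias Lrot181 := rot181
alias Lrot182 := rot182
alias Lrot183 := rot183
alias Lrot184 := rot184
alias Lrot185 := rot185
alias Lrot187 := rot187
alias Lrot191 := rot191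

section
variable (IH : IHT)
include IH

def v1721 : LQ := Led Lsl_at (LP (LK LD1_c1 LD2_c24 LD3_c31))
theorem f501047 : Led Lsl_at (LP (LK LD1_c1 LD2_c24 LD3_c31)) = v1721 :=
  Lrfl
def v446 : LQ := Led Lsl_at (LP (LK LD1_c0 LD2_c38 LD3_c57))
theorem f452888 : Led Lsl_at (LP (LK LD1_c0 LD2_c38 LD3_c57)) = v446 :=
  Lrfl
theorem f452889 : Led Lsl_af (LP (LK LD1_c0 LD2_c38 LD3_c57)) = v446 :=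
  Lgr Lrot0 (Lpr_at (f452888 IH) (Lpn v446))
theorem f501050 : Led Lsl_df v446 = v1721 :=
  Lgr Lrot18 (Lpe (f452889 IH) (Lpr_dt (K0.f23859 IH) (Lpr_at (f501047 IH) (Lpn v1721))))
theorem f452892 : Led Lsl_ft (LP (LK LD1_c0 LD2_c38 LD3_c58)) = v446 :=
  Lgr Lrot2 (Lpr_gt (K17.f172564 IH) (Lpr_gt (K9.f23899 IH) (Lpr_af (f452889 IH) (Lpn v446))))
theorem f452894 : Led Lsl_ff (LP (LK LD1_c0 LD2_c38 LD3_c58)) = v446 :=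
  Lgr Lrot3 (Lpr_ft (f452892 IH) (Lpn v446))
theorem f415895 : Led Lsl_dt (LP (LK LD1_c0 LD2_c38 LD3_c58)) = (LP (LK LD1_c1 LD2_c24 LD3_c35)) :=
  Lre_d IH (LK LD1_c0 LD2_c38 LD3_c58) (LK LD1_c1 LD2_c24 LD3_c35) Lrfl Lrfl
theorem f501052 : Led Lsl_ft (LP (LK LD1_c1 LD2_c24 LD3_c35)) = v1721 :=
  Lgr Lrot54 (Lpe (f415895 IH) (Lpr_ff (f452894 IH) (Lpr_df (f501050 IH) (Lpn v1721))))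
theorem f501048 : Led Lsl_af (LP (LK LD1_c1 LD2_c24 LD3_c31)) = v1721 :=
  Lgr Lrot0 (Lpr_at (f501047 IH) (Lpn v1721))
theorem f501027 : Led Lsl_gt (LP (LK LD1_c2 LD2_c57 LD3_c36)) = (LP (LK LD1_c1 LD2_c24 LD3_c31)) :=
  Lre_g IH (LK LD1_c2 LD2_c57 LD3_c36) (LK LD1_c1 LD2_c24 LD3_c31) Lrfl Lrfl
theorem f501055 : Led Lsl_gt (LP (LK LD1_c1 LD2_c24 LD3_c35)) = (LP (LK LD1_c2 LD2_c57 LD3_c36)) :=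
  Lgr Lrot5 (Lpr_ft (f501052 IH) (Lpe (f501048 IH) (Lpe (f501027 IH) (Lpn (LP (LK LD1_c2 LD2_c57 LD3_c36))))))
theorem f501056 : Led Lsl_gt (LP (LK LD1_c1 LD2_c24 LD3_c35)) = (LP (LK LD1_c2 LD2_c57 LD3_c36)) :=
  Leop (Lpe (f501055 IH) (Lpn (LP (LK LD1_c1 LD2_c24 LD3_c35))))
theorem seed_122 : LEOK LG_g (LK LD1_c1 LD2_c24 LD3_c35) :=
  Leoe_g (LK LD1_c1 LD2_c24 LD3_c35) (f501056 IH)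
def v1722 : LQ := Led Lsl_ft (LP (LK LD1_c1 LD2_c24 LD3_c31))
theorem f501120 : Led Lsl_ft (LP (LK LD1_c1 LD2_c24 LD3_c31)) = v1722 :=
  Lrfl
theorem f501121 : Led Lsl_af (LP (LK LD1_c1 LD2_c24 LD3_c35)) = v1722 :=
  Lgr Lrot45 (Lpr_ft (f501052 IH) (Lpe (f501048 IH) (Lpr_ft (f501120 IH) (Lpn v1722))))
theorem f501124 : Led Lsl_gt (LP (LK LD1_c2 LD2_c57 LD3_c35)) = (LP (LK LD1_c1 LD2_c24 LD3_c35)) :=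
  Lgr Lrot46 (Lpe (K0.f23858 IH) (Lpr_ft (f501120 IH) (Lpe (f501121 IH) (Lpn (LP (LK LD1_c1 LD2_c24 LD3_c35))))))
theorem f501125 : Led Lsl_gt (LP (LK LD1_c2 LD2_c57 LD3_c35)) = (LP (LK LD1_c1 LD2_c24 LD3_c35)) :=
  Leop (Lpe (f501124 IH) (Lpn (LP (LK LD1_c2 LD2_c57 LD3_c35))))
theorem seed_123 : LEOK LG_g (LK LD1_c2 LD2_c57 LD3_c35) :=
  Leoe_g (LK LD1_c2 LD2_c57 LD3_c35) (f501125 IH)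
def v1767 : LQ := Led Lsl_bt (LP (LK LD1_c1 LD2_c26 LD3_c0))
theorem f501349 : Led Lsl_bt (LP (LK LD1_c1 LD2_c26 LD3_c0)) = v1767 :=
  Lrfl
theorem f75049 : Led Lsl_ft (LP (LK LD1_c0 LD2_c39 LD3_c45)) = (LP (LK LD1_c1 LD2_c26 LD3_c0)) :=
  Lre_f IH (LK LD1_c0 LD2_c39 LD3_c45) (LK LD1_c1 LD2_c26 LD3_c0) Lrfl Lrfl
theorem f501352 : Led Lsl_ff (LP (LK LD1_c1 LD2_c26 LD3_c5)) = v1767 :=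
  Lgr Lrot25 (Lpr_bt (K8.f20560 IH) (Lpr_ft (f75049 IH) (Lpr_bt (f501349 IH) (Lpn v1767))))
theorem f501354 : Led Lsl_ft (LP (LK LD1_c1 LD2_c26 LD3_c5)) = v1767 :=
  Lgr Lrot48 (Lpr_ff (f501352 IH) (Lpn v1767))
theorem f26872 : Led Lsl_gt (LP (LK LD1_c2 LD2_c17 LD3_c43)) = (LP (LK LD1_c4 LD2_c41 LD3_c18)) :=
  Lre_g IH (LK LD1_c2 LD2_c17 LD3_c43) (LK LD1_c4 LD2_c41 LD3_c18) Lrfl Lrfl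
theorem f425851 : Led Lsl_cf (LP (LK LD1_c2 LD2_c49 LD3_c34)) = (LP (LK LD1_c4 LD2_c41 LD3_c18)) :=
  Lgr Lrot99 (Lpe (K8.f157822 IH) (Lpe (K8.f37455 IH) (Lpr_gf (K8.f161441 IH) (Lpe (K8.f117014 IH) (Lpe (K8.f161435 IH) (Lpr_df (K8.f26844 IH) (Lpr_gt (K8.f26870 IH) (Lpr_ct (K8.f26871 IH) (Lpr_gt (f26872 IH) (Lpn (LP (LK LD1_c4 LD2_c41 LD3_c18))))))))))))
theorem f72415 : Led Lsl_ct (LP (LK LD1_c11 LD2_c32 LD3_c61)) = (LP (LK LD1_c5 LD2_c53 LD3_c30)) :=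
  Lre_c IH (LK LD1_c11 LD2_c32 LD3_c61) (LK LD1_c5 LD2_c53 LD3_c30) Lrfl Lrfl
theorem f104463 : Led Lsl_cf (LP (LK LD1_c5 LD2_c53 LD3_c47)) = (LP (LK LD1_c4 LD2_c44 LD3_c48)) :=
  Lgr Lrot11 (Lpr_ct (K6.f104459 IH) (Lpn (LP (LK LD1_c4 LD2_c44 LD3_c48))))
theorem f104472 : Led Lsl_ft (LP (LK LD1_c5 LD2_c53 LD3_c47)) = (LP (LK LD1_c6 LD2_c53 LD3_c56)) :=
  Lgr Lrot48 (Lpr_ff (K8.f104468 IH) (Lpn (LP (LK LD1_c6 LD2_c53 LD3_c56))))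
theorem f104478 : Led Lsl_gt (LP (LK LD1_c5 LD2_c53 LD3_c47)) = (LP (LK LD1_c6 LD2_c53 LD3_c55)) :=
  Lgr Lrot5 (Lpr_ft (f104472 IH) (Lpr_at (K7.f94797 IH) (Lpe (K11.f94799 IH) (Lpn (LP (LK LD1_c6 LD2_c53 LD3_c55))))))
theorem f163437 : Led Lsl_cf (LP (LK LD1_c11 LD2_c58 LD3_c43)) = (LP (LK LD1_c6 LD2_c53 LD3_c55)) :=
  Lgr Lrot99 (Lpr_df (K11.f163352 IH) (Lpe (K8.f72413 IH) (Lpe (K8.f138136 IH) (Lpr_cf (K8.f138125 IH) (Lpe (K8.f70901 IH) (Lpe (K7.f70892 IH) (Lpr_gt (K8.f102931 IH) (Lpe (f104463 IH) (Lpr_gt (f104478 IH) (Lpn (LP (LK LD1_c6 LD2_c53 LD3_c55))))))))))))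
theorem f163354 : Led Lsl_gt (LP (LK LD1_c2 LD2_c18 LD3_c46)) = (LP (LK LD1_c4 LD2_c36 LD3_c5)) :=
  Lgr Lrot187 (Lpe (K6.f59256 IH) (Lpe (K7.f149928 IH) (Lpr_dt (K7.f102344 IH) (Lpr_gt (K7.f99087 IH) (Lpe (K8.f149451 IH) (Lpe (K6.f71170 IH) (Lpr_ct (K11.f139446 IH) (Lpr_dt (K11.f163344 IH) (Lpe (K11.f112741 IH) (Lpn (LP (LK LD1_c4 LD2_c36 LD3_c5))))))))))))
theorem f59722 : Led Lsl_bt (LP (LK LD1_c1 LD2_c28 LD3_c1)) = (LP (LK LD1_c0 LD2_c40 LD3_c43)) :=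
  Lre_b IH (LK LD1_c1 LD2_c28 LD3_c1) (LK LD1_c0 LD2_c40 LD3_c43) Lrfl Lrfl
theorem f70210 : Led Lsl_et (LP (LK LD1_c3 LD2_c3 LD3_c61)) = (LP (LK LD1_c1 LD2_c28 LD3_c2)) :=
  Lre_e IH (LK LD1_c3 LD2_c3 LD3_c61) (LK LD1_c1 LD2_c28 LD3_c2) Lrfl Lrfl
theorem f34474 : Led Lsl_et (LP (LK LD1_c1 LD2_c58 LD3_c9)) = (LP (LK LD1_c4 LD2_c2 LD3_c24)) :=
  Lre_e IH (LK LD1_c1 LD2_c58 LD3_c9) (LK LD1_c4 LD2_c2 LD3_c24) Lrfl Lrfl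
theorem f81206 : Led Lsl_df (LP (LK LD1_c3 LD2_c3 LD3_c61)) = (LP (LK LD1_c4 LD2_c2 LD3_c24)) :=
  Lgr Lrot70 (Lpr_et (f70210 IH) (Lpr_dt (K2.f59694 IH) (Lpr_et (K10.f81202 IH) (Lpr_dt (K13.f33685 IH) (Lpr_et (f34474 IH) (Lpn (LP (LK LD1_c4 LD2_c2 LD3_c24))))))))
theorem f70125 : Led Lsl_dt (LP (LK LD1_c6 LD2_c13 LD3_c59)) = (LP (LK LD1_c3 LD2_c3 LD3_c50)) :=
  Lre_d IH (LK LD1_c6 LD2_c13 LD3_c59) (LK LD1_c3 LD2_c3 LD3_c50) Lrfl Lrfl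
theorem f70126 : Led Lsl_dt (LP (LK LD1_c4 LD2_c23 LD3_c50)) = (LP (LK LD1_c8 LD2_c45 LD3_c31)) :=
  Lre_d IH (LK LD1_c4 LD2_c23 LD3_c50) (LK LD1_c8 LD2_c45 LD3_c31) Lrfl Lrfl
theorem f70127 : Led Lsl_at (LP (LK LD1_c3 LD2_c3 LD3_c50)) = (LP (LK LD1_c4 LD2_c23 LD3_c50)) :=
  Lgr Lrot51 (Lpe (f70125 IH) (Lpr_af (K2.f70116 IH) (Lpe (f70126 IH) (Lpn (LP (LK LD1_c4 LD2_c23 LD3_c50))))))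
theorem f81230 : Led Lsl_ct (LP (LK LD1_c3 LD2_c3 LD3_c61)) = (LP (LK LD1_c4 LD2_c23 LD3_c50)) :=
  Lgr Lrot98 (Lpr_df (f81206 IH) (Lpe (K10.f34439 IH) (Lpe (K10.f34242 IH) (Lpe (K10.f34246 IH) (Lpe (K10.f69921 IH) (Lpe (K10.f69925 IH) (Lpe (K2.f69924 IH) (Lpr_ft (K10.f69927 IH) (Lpr_at (f70127 IH) (Lpn (LP (LK LD1_c4 LD2_c23 LD3_c50))))))))))))
theorem f81244 : Led Lsl_ft (LP (LK LD1_c6 LD2_c14 LD3_c14)) = (LP (LK LD1_c3 LD2_c3 LD3_c61)) :=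
  Lre_f IH (LK LD1_c6 LD2_c14 LD3_c14) (LK LD1_c3 LD2_c3 LD3_c61) Lrfl Lrfl
theorem f70143 : Led Lsl_ft (LP (LK LD1_c4 LD2_c23 LD3_c50)) = (LP (LK LD1_c8 LD2_c45 LD3_c32)) :=
  Lre_f IH (LK LD1_c4 LD2_c23 LD3_c50) (LK LD1_c8 LD2_c45 LD3_c32) Lrfl Lrfl
theorem f81245 : Led Lsl_cf (LP (LK LD1_c6 LD2_c14 LD3_c14)) = (LP (LK LD1_c8 LD2_c45 LD3_c32)) :=
  Lgr Lrot108 (Lpr_ft (f81244 IH) (Lpr_ct (f81230 IH) (Lpr_ft (f70143 IH) (Lpn (LP (LK LD1_c8 LD2_c45 LD3_c32))))))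
theorem f69973 : Led Lsl_ct (LP (LK LD1_c26 LD2_c21 LD3_c42)) = (LP (LK LD1_c16 LD2_c23 LD3_c42)) :=
  Lre_c IH (LK LD1_c26 LD2_c21 LD3_c42) (LK LD1_c16 LD2_c23 LD3_c42) Lrfl Lrfl
theorem f69907 : Led Lsl_df (LP (LK LD1_c29 LD2_c54 LD3_c9)) = (LP (LK LD1_c27 LD2_c48 LD3_c43)) :=
  Lgr Lrot38 (Lpr_dt (K2.f69903 IH) (Lpn (LP (LK LD1_c27 LD2_c48 LD3_c43))))
theorem f3549 : Led Lsl_at (LP (LK LD1_c27 LD2_c45 LD3_c56)) = (LP (LK LD1_c18 LD2_c8 LD3_c45)) :=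
  Lre_a IH (LK LD1_c27 LD2_c45 LD3_c56) (LK LD1_c18 LD2_c8 LD3_c45) Lrfl Lrfl
theorem f3551 : Led Lsl_at (LP (LK LD1_c27 LD2_c48 LD3_c56)) = (LP (LK LD1_c27 LD2_c48 LD3_c43)) :=
  Lgr Lrot80 (Lpe (K10.f3550 IH) (Lpe (f3549 IH) (Lpr_ef (K10.f3546 IH) (Lpn (LP (LK LD1_c27 LD2_c48 LD3_c43))))))
theorem f69928 : Led Lsl_dt (LP (LK LD1_c29 LD2_c54 LD3_c16)) = (LP (LK LD1_c27 LD2_c48 LD3_c56)) :=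
  Lgr Lrot44 (Lpe (K10.f69854 IH) (Lpr_df (f69907 IH) (Lpe (f3551 IH) (Lpn (LP (LK LD1_c27 LD2_c48 LD3_c56))))))
theorem f3555 : Led Lsl_et (LP (LK LD1_c27 LD2_c48 LD3_c56)) = (LP (LK LD1_c18 LD2_c8 LD3_c45)) :=
  Lre_e IH (LK LD1_c27 LD2_c48 LD3_c56) (LK LD1_c18 LD2_c8 LD3_c45) Lrfl Lrfl
theorem f69985 : Led Lsl_dt (LP (LK LD1_c25 LD2_c0 LD3_c4)) = (LP (LK LD1_c26 LD2_c21 LD3_c42)) :=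
  Lgr Lrot77 (Lpr_ef (K10.f34459 IH) (Lpr_df (K0.f33914 IH) (Lpe (f3555 IH) (Lpe (f69928 IH) (Lpr_ef (K2.f69978 IH) (Lpn (LP (LK LD1_c26 LD2_c21 LD3_c42))))))))
theorem f34452 : Led Lsl_ct (LP (LK LD1_c15 LD2_c10 LD3_c52)) = (LP (LK LD1_c25 LD2_c0 LD3_c4)) :=
  Lre_c IH (LK LD1_c15 LD2_c10 LD3_c52) (LK LD1_c25 LD2_c0 LD3_c4) Lrfl Lrfl
theorem f34113 : Led Lsl_dt (LP (LK LD1_c8 LD2_c3 LD3_c51)) = (LP (LK LD1_c15 LD2_c10 LD3_c52)) :=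
  Lre_d IH (LK LD1_c8 LD2_c3 LD3_c51) (LK LD1_c15 LD2_c10 LD3_c52) Lrfl Lrfl
theorem f81113 : Led Lsl_ft (LP (LK LD1_c8 LD2_c45 LD3_c37)) = (LP (LK LD1_c4 LD2_c23 LD3_c53)) :=
  Lre_f IH (LK LD1_c8 LD2_c45 LD3_c37) (LK LD1_c4 LD2_c23 LD3_c53) Lrfl Lrfl
theorem f34475 : Led Lsl_ft (LP (LK LD1_c4 LD2_c1 LD3_c37)) = (LP (LK LD1_c8 LD2_c3 LD3_c54)) :=
  Lre_f IH (LK LD1_c4 LD2_c1 LD3_c37) (LK LD1_c8 LD2_c3 LD3_c54) Lrfl Lrfl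
theorem f81135 : Led Lsl_dt (LP (LK LD1_c4 LD2_c23 LD3_c53)) = (LP (LK LD1_c4 LD2_c1 LD3_c37)) :=
  Lgr Lrot60 (Lpe (f81113 IH) (Lpr_df (K10.f81128 IH) (Lpe (f34475 IH) (Lpn (LP (LK LD1_c4 LD2_c1 LD3_c37))))))
theorem f81348 : Led Lsl_af (LP (LK LD1_c6 LD2_c14 LD3_c14)) = (LP (LK LD1_c8 LD2_c45 LD3_c37)) :=
  Lgr Lrot109 (Lpr_cf (f81245 IH) (Lpe (K2.f69988 IH) (Lpe (f69973 IH) (Lpe (f69985 IH) (Lpe (f34452 IH) (Lpe (f34113 IH) (Lpe (K10.f34438 IH) (Lpe (f81135 IH) (Lpr_ft (K10.f81122 IH) (Lpn (LP (LK LD1_c8 LD2_c45 LD3_c37))))))))))))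
theorem f80330 : Led Lsl_et (LP (LK LD1_c4 LD2_c23 LD3_c53)) = (LP (LK LD1_c2 LD2_c9 LD3_c21)) :=
  Lre_e IH (LK LD1_c4 LD2_c23 LD3_c53) (LK LD1_c2 LD2_c9 LD3_c21) Lrfl Lrfl
theorem f80358 : Led Lsl_et (LP (LK LD1_c1 LD2_c27 LD3_c58)) = (LP (LK LD1_c3 LD2_c3 LD3_c50)) :=
  Lre_e IH (LK LD1_c1 LD2_c27 LD3_c58) (LK LD1_c3 LD2_c3 LD3_c50) Lrfl Lrfl
theorem f81114 : Led Lsl_ef (LP (LK LD1_c8 LD2_c45 LD3_c37)) = (LP (LK LD1_c6 LD2_c13 LD3_c60)) :=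
  Lgr Lrot21 (Lpr_ft (f81113 IH) (Lpr_et (f80330 IH) (Lpr_ft (K10.f81109 IH) (Lpr_et (f80358 IH) (Lpr_ft (K2.f70150 IH) (Lpn (LP (LK LD1_c6 LD2_c13 LD3_c60))))))))
theorem f81350 : Led Lsl_et (LP (LK LD1_c6 LD2_c14 LD3_c14)) = (LP (LK LD1_c8 LD2_c45 LD3_c32)) :=
  Lgr Lrot123 (Lpr_af (f81348 IH) (Lpr_ef (f81114 IH) (Lpr_af (K2.f70137 IH) (Lpn (LP (LK LD1_c8 LD2_c45 LD3_c32))))))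
theorem f81359 : Led Lsl_ef (LP (LK LD1_c6 LD2_c14 LD3_c14)) = (LP (LK LD1_c8 LD2_c45 LD3_c32)) :=
  Lgr Lrot88 (Lpr_et (f81350 IH) (Lpn (LP (LK LD1_c8 LD2_c45 LD3_c32))))
theorem f81345 : Led Lsl_bt (LP (LK LD1_c6 LD2_c14 LD3_c14)) = (LP (LK LD1_c12 LD2_c6 LD3_c52)) :=
  Lre_b IH (LK LD1_c6 LD2_c14 LD3_c14) (LK LD1_c12 LD2_c6 LD3_c52) Lrfl Lrfl
theorem f70142 : Led Lsl_bt (LP (LK LD1_c16 LD2_c23 LD3_c35)) = (LP (LK LD1_c8 LD2_c45 LD3_c32)) :=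
  Lre_b IH (LK LD1_c16 LD2_c23 LD3_c35) (LK LD1_c8 LD2_c45 LD3_c32) Lrfl Lrfl
theorem f81361 : Led Lsl_et (LP (LK LD1_c12 LD2_c6 LD3_c52)) = (LP (LK LD1_c16 LD2_c23 LD3_c35)) :=
  Lgr Lrot74 (Lpe (f81345 IH) (Lpr_ef (f81359 IH) (Lpe (f70142 IH) (Lpn (LP (LK LD1_c16 LD2_c23 LD3_c35))))))
theorem f81367 : Led Lsl_ft (LP (LK LD1_c6 LD2_c14 LD3_c11)) = (LP (LK LD1_c12 LD2_c6 LD3_c52)) :=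
  Lre_f IH (LK LD1_c6 LD2_c14 LD3_c11) (LK LD1_c12 LD2_c6 LD3_c52) Lrfl Lrfl
theorem f81368 : Led Lsl_et (LP (LK LD1_c3 LD2_c3 LD3_c60)) = (LP (LK LD1_c6 LD2_c14 LD3_c11)) :=
  Lre_e IH (LK LD1_c3 LD2_c3 LD3_c60) (LK LD1_c6 LD2_c14 LD3_c11) Lrfl Lrfl
theorem f81369 : Led Lsl_ft (LP (LK LD1_c16 LD2_c23 LD3_c35)) = (LP (LK LD1_c8 LD2_c45 LD3_c27)) :=
  Lre_f IH (LK LD1_c16 LD2_c23 LD3_c35) (LK LD1_c8 LD2_c45 LD3_c27) Lrfl Lrfl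
theorem f81370 : Led Lsl_et (LP (LK LD1_c8 LD2_c45 LD3_c27)) = (LP (LK LD1_c4 LD2_c23 LD3_c48)) :=
  Lre_e IH (LK LD1_c8 LD2_c45 LD3_c27) (LK LD1_c4 LD2_c23 LD3_c48) Lrfl Lrfl
theorem f81371 : Led Lsl_ff (LP (LK LD1_c3 LD2_c3 LD3_c60)) = (LP (LK LD1_c4 LD2_c23 LD3_c48)) :=
  Lgr Lrot72 (Lpr_et (f81368 IH) (Lpr_ft (f81367 IH) (Lpr_et (f81361 IH) (Lpr_ft (f81369 IH) (Lpr_et (f81370 IH) (Lpn (LP (LK LD1_c4 LD2_c23 LD3_c48))))))))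
theorem f81374 : Led Lsl_dt (LP (LK LD1_c3 LD2_c3 LD3_c60)) = (LP (LK LD1_c1 LD2_c28 LD3_c1)) :=
  Lre_d IH (LK LD1_c3 LD2_c3 LD3_c60) (LK LD1_c1 LD2_c28 LD3_c1) Lrfl Lrfl
theorem f70100 : Led Lsl_dt (LP (LK LD1_c2 LD2_c9 LD3_c17)) = (LP (LK LD1_c4 LD2_c23 LD3_c48)) :=
  Lre_d IH (LK LD1_c2 LD2_c9 LD3_c17) (LK LD1_c4 LD2_c23 LD3_c48) Lrfl Lrfl
theorem f81375 : Led Lsl_ft (LP (LK LD1_c1 LD2_c28 LD3_c1)) = (LP (LK LD1_c2 LD2_c9 LD3_c17)) :=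
  Lgr Lrot54 (Lpe (f81374 IH) (Lpr_ff (f81371 IH) (Lpe (f70100 IH) (Lpn (LP (LK LD1_c2 LD2_c9 LD3_c17))))))
theorem f70184 : Led Lsl_ff (LP (LK LD1_c1 LD2_c28 LD3_c1)) = (LP (LK LD1_c2 LD2_c9 LD3_c17)) :=
  Lgr Lrot25 (Lpr_bt (f59722 IH) (Lpr_ft (K2.f70182 IH) (Lpr_bt (K9.f59190 IH) (Lpn (LP (LK LD1_c2 LD2_c9 LD3_c17))))))
theorem f81387 : Led Lsl_cf (LP (LK LD1_c1 LD2_c28 LD3_c1)) = (LP (LK LD1_c1 LD2_c28 LD3_c1)) :=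
  Lgr Lrot108 (Lpr_ft (f81375 IH) (Lpr_ct (K9.f70091 IH) (Lpe (f70184 IH) (Lpn (LP (LK LD1_c1 LD2_c28 LD3_c1))))))
theorem f139310 : Led Lsl_gt (LP (LK LD1_c6 LD2_c8 LD3_c36)) = (LP (LK LD1_c11 LD2_c58 LD3_c42)) :=
  Lre_g IH (LK LD1_c6 LD2_c8 LD3_c36) (LK LD1_c11 LD2_c58 LD3_c42) Lrfl Lrfl
theorem f163356 : Led Lsl_df (LP (LK LD1_c11 LD2_c32 LD3_c56)) = (LP (LK LD1_c11 LD2_c58 LD3_c42)) :=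
  Lgr Lrot183 (Lpr_ct (K8.f138140 IH) (Lpe (K8.f158592 IH) (Lpr_gt (K8.f70220 IH) (Lpr_dt (f81374 IH) (Lpe (f81387 IH) (Lpr_bt (f59722 IH) (Lpr_gt (K2.f70190 IH) (Lpr_dt (K1.f59240 IH) (Lpe (K1.f59186 IH) (Lpr_bt (K6.f59232 IH) (Lpr_gt (f163354 IH) (Lpr_dt (K11.f112746 IH) (Lpe (K8.f161322 IH) (Lpr_bt (K8.f161315 IH) (Lpe (K8.f150384 IH) (Lpr_dt (K8.f139389 IH) (Lpr_ct (K8.f139397 IH) (Lpr_bt (K11.f139305 IH) (Lpr_gt (f139310 IH) (Lpn (LP (LK LD1_c11 LD2_c58 LD3_c42))))))))))))))))))))))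
theorem f163362 : Led Lsl_ct (LP (LK LD1_c6 LD2_c53 LD3_c54)) = (LP (LK LD1_c11 LD2_c58 LD3_c42)) :=
  Lgr Lrot53 (Lpr_df (K6.f104744 IH) (Lpe (K2.f72434 IH) (Lpe (K2.f72422 IH) (Lpe (K2.f72418 IH) (Lpe (K8.f72427 IH) (Lpr_ft (K8.f158297 IH) (Lpe (K8.f158303 IH) (Lpe (K8.f138140 IH) (Lpr_df (f163356 IH) (Lpn (LP (LK LD1_c11 LD2_c58 LD3_c42))))))))))))
theorem f163365 : Led Lsl_cf (LP (LK LD1_c6 LD2_c53 LD3_c54)) = (LP (LK LD1_c11 LD2_c58 LD3_c42)) :=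
  Lgr Lrot11 (Lpr_ct (f163362 IH) (Lpn (LP (LK LD1_c11 LD2_c58 LD3_c42))))
theorem f163410 : Led Lsl_gf (LP (LK LD1_c11 LD2_c32 LD3_c61)) = (LP (LK LD1_c9 LD2_c8 LD3_c23)) :=
  Lgr Lrot147 (Lpr_ct (f72415 IH) (Lpr_gt (K11.f72414 IH) (Lpr_ct (K6.f72359 IH) (Lpr_df (K6.f104456 IH) (Lpe (K6.f104459 IH) (Lpr_gf (K6.f104497 IH) (Lpr_cf (f163365 IH) (Lpe (f139310 IH) (Lpr_df (K11.f163346 IH) (Lpn (LP (LK LD1_c9 LD2_c8 LD3_c23))))))))))))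
theorem f40383 : Led Lsl_bt (LP (LK LD1_c2 LD2_c27 LD3_c36)) = (LP (LK LD1_c1 LD2_c10 LD3_c59)) :=
  Lre_b IH (LK LD1_c2 LD2_c27 LD3_c36) (LK LD1_c1 LD2_c10 LD3_c59) Lrfl Lrfl
theorem f139487 : Led Lsl_gf (LP (LK LD1_c4 LD2_c59 LD3_c31)) = (LP (LK LD1_c2 LD2_c53 LD3_c7)) :=
  Lgr Lrot129 (Lpe (K11.f40384 IH) (Lpr_bt (f40383 IH) (Lpr_gt (K6.f68993 IH) (Lpe (K5.f40309 IH) (Lpr_ct (K1.f58904 IH) (Lpe (K1.f58929 IH) (Lpe (K4.f68570 IH) (Lpr_bt (K4.f61668 IH) (Lpr_gt (K6.f139481 IH) (Lpr_ct (K5.f37957 IH) (Lpn (LP (LK LD1_c2 LD2_c53 LD3_c7)))))))))))))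
theorem f137476 : Led Lsl_dt (LP (LK LD1_c4 LD2_c59 LD3_c31)) = (LP (LK LD1_c6 LD2_c50 LD3_c18)) :=
  Lgr Lrot6 (Lpe (K6.f79347 IH) (Lpr_ct (K6.f69188 IH) (Lpr_gt (K4.f68997 IH) (Lpr_ct (K4.f26486 IH) (Lpe (K6.f37430 IH) (Lpe (K6.f69145 IH) (Lpr_gf (K6.f133157 IH) (Lpe (K6.f133142 IH) (Lpr_gf (K6.f137474 IH) (Lpn (LP (LK LD1_c6 LD2_c50 LD3_c18))))))))))))
theorem f113745 : Led Lsl_at (LP (LK LD1_c4 LD2_c46 LD3_c1)) = (LP (LK LD1_c2 LD2_c21 LD3_c2)) :=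
  Lre_a IH (LK LD1_c4 LD2_c46 LD3_c1) (LK LD1_c2 LD2_c21 LD3_c2) Lrfl Lrfl
theorem f125745 : Led Lsl_gt (LP (LK LD1_c9 LD2_c22 LD3_c45)) = (LP (LK LD1_c4 LD2_c46 LD3_c0)) :=
  Lgr Lrot5 (Lpr_ft (K5.f125737 IH) (Lpr_at (f113745 IH) (Lpe (K8.f78692 IH) (Lpn (LP (LK LD1_c4 LD2_c46 LD3_c0))))))
theorem f138305 : Led Lsl_gt (LP (LK LD1_c4 LD2_c46 LD3_c37)) = (LP (LK LD1_c9 LD2_c25 LD3_c54)) :=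
  Lre_g IH (LK LD1_c4 LD2_c46 LD3_c37) (LK LD1_c9 LD2_c25 LD3_c54) Lrfl Lrfl
theorem f156792 : Led Lsl_cf (LP (LK LD1_c6 LD2_c50 LD3_c18)) = (LP (LK LD1_c9 LD2_c25 LD3_c54)) :=
  Lgr Lrot125 (Lpe (K6.f137474 IH) (Lpr_cf (K6.f133136 IH) (Lpe (K5.f113719 IH) (Lpr_gt (f125745 IH) (Lpr_bf (K8.f150394 IH) (Lpr_ct (K8.f150374 IH) (Lpr_gt (K8.f156784 IH) (Lpe (K7.f156777 IH) (Lpr_bt (K11.f138172 IH) (Lpr_gt (f138305 IH) (Lpn (LP (LK LD1_c9 LD2_c25 LD3_c54)))))))))))))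
theorem f163439 : Led Lsl_dt (LP (LK LD1_c11 LD2_c32 LD3_c61)) = (LP (LK LD1_c9 LD2_c25 LD3_c54)) :=
  Lgr Lrot105 (Lpr_gf (f163410 IH) (Lpe (K11.f163344 IH) (Lpe (K11.f150234 IH) (Lpr_cf (f163437 IH) (Lpr_gt (K11.f94799 IH) (Lpe (K6.f94919 IH) (Lpe (f139487 IH) (Lpr_dt (f137476 IH) (Lpr_cf (f156792 IH) (Lpn (LP (LK LD1_c9 LD2_c25 LD3_c54))))))))))))
theorem f163441 : Led Lsl_df (LP (LK LD1_c11 LD2_c32 LD3_c61)) = (LP (LK LD1_c9 LD2_c25 LD3_c54)) :=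
  Lgr Lrot38 (Lpr_dt (f163439 IH) (Lpn (LP (LK LD1_c9 LD2_c25 LD3_c54))))
theorem f112614 : Led Lsl_et (LP (LK LD1_c5 LD2_c56 LD3_c13)) = (LP (LK LD1_c11 LD2_c37 LD3_c41)) :=
  Lre_e IH (LK LD1_c5 LD2_c56 LD3_c13) (LK LD1_c11 LD2_c37 LD3_c41) Lrfl Lrfl
theorem f138259 : Led Lsl_cf (LP (LK LD1_c9 LD2_c17 LD3_c45)) = (LP (LK LD1_c11 LD2_c37 LD3_c41)) :=
  Lgr Lrot39 (Lpr_et (K8.f138245 IH) (Lpr_ct (K8.f138257 IH) (Lpr_et (f112614 IH) (Lpn (LP (LK LD1_c11 LD2_c37 LD3_c41))))))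
theorem f138235 : Led Lsl_ct (LP (LK LD1_c5 LD2_c54 LD3_c10)) = (LP (LK LD1_c11 LD2_c34 LD3_c6)) :=
  Lre_c IH (LK LD1_c5 LD2_c54 LD3_c10) (LK LD1_c11 LD2_c34 LD3_c6) Lrfl Lrfl
theorem f105057 : Led Lsl_et (LP (LK LD1_c17 LD2_c23 LD3_c26)) = (LP (LK LD1_c9 LD2_c25 LD3_c57)) :=
  Lre_e IH (LK LD1_c17 LD2_c23 LD3_c26) (LK LD1_c9 LD2_c25 LD3_c57) Lrfl Lrfl
theorem f112615 : Led Lsl_bt (LP (LK LD1_c11 LD2_c37 LD3_c41)) = (LP (LK LD1_c17 LD2_c23 LD3_c26)) :=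
  Lgr Lrot119 (Lpe (f112614 IH) (Lpr_bf (K4.f112610 IH) (Lpe (f105057 IH) (Lpn (LP (LK LD1_c17 LD2_c23 LD3_c26))))))
theorem f112867 : Led Lsl_bf (LP (LK LD1_c11 LD2_c37 LD3_c41)) = (LP (LK LD1_c17 LD2_c23 LD3_c26)) :=
  Lgr Lrot24 (Lpr_bt (f112615 IH) (Lpn (LP (LK LD1_c17 LD2_c23 LD3_c26))))
theorem f112870 : Led Lsl_ct (LP (LK LD1_c9 LD2_c25 LD3_c58)) = (LP (LK LD1_c17 LD2_c23 LD3_c26)) :=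
  Lre_c IH (LK LD1_c9 LD2_c25 LD3_c58) (LK LD1_c17 LD2_c23 LD3_c26) Lrfl Lrfl
theorem f138264 : Led Lsl_bt (LP (LK LD1_c11 LD2_c34 LD3_c6)) = (LP (LK LD1_c9 LD2_c25 LD3_c58)) :=
  Lgr Lrot128 (Lpe (f138235 IH) (Lpe (K8.f138228 IH) (Lpr_cf (f138259 IH) (Lpr_bf (f112867 IH) (Lpe (f112870 IH) (Lpn (LP (LK LD1_c9 LD2_c25 LD3_c58))))))))
theorem f138251 : Led Lsl_dt (LP (LK LD1_c20 LD2_c31 LD3_c34)) = (LP (LK LD1_c11 LD2_c34 LD3_c6)) :=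
  Lre_d IH (LK LD1_c20 LD2_c31 LD3_c34) (LK LD1_c11 LD2_c34 LD3_c6) Lrfl Lrfl
theorem f105047 : Led Lsl_dt (LP (LK LD1_c9 LD2_c25 LD3_c58)) = (LP (LK LD1_c17 LD2_c23 LD3_c28)) :=
  Lre_d IH (LK LD1_c9 LD2_c25 LD3_c58) (LK LD1_c17 LD2_c23 LD3_c28) Lrfl Lrfl
theorem f138267 : Led Lsl_bf (LP (LK LD1_c20 LD2_c31 LD3_c34)) = (LP (LK LD1_c17 LD2_c23 LD3_c28)) :=
  Lgr Lrot93 (Lpr_dt (f138251 IH) (Lpr_bt (f138264 IH) (Lpr_dt (f105047 IH) (Lpn (LP (LK LD1_c17 LD2_c23 LD3_c28))))))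
theorem f138286 : Led Lsl_et (LP (LK LD1_c9 LD2_c25 LD3_c59)) = (LP (LK LD1_c17 LD2_c23 LD3_c28)) :=
  Lre_e IH (LK LD1_c9 LD2_c25 LD3_c59) (LK LD1_c17 LD2_c23 LD3_c28) Lrfl Lrfl
theorem f138287 : Led Lsl_bt (LP (LK LD1_c17 LD2_c23 LD3_c25)) = (LP (LK LD1_c9 LD2_c25 LD3_c59)) :=
  Lre_b IH (LK LD1_c17 LD2_c23 LD3_c25) (LK LD1_c9 LD2_c25 LD3_c59) Lrfl Lrfl
theorem f138288 : Led Lsl_et (LP (LK LD1_c20 LD2_c31 LD3_c34)) = (LP (LK LD1_c17 LD2_c23 LD3_c25)) :=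
  Lgr Lrot74 (Lpr_bf (f138267 IH) (Lpe (f138286 IH) (Lpe (f138287 IH) (Lpn (LP (LK LD1_c17 LD2_c23 LD3_c25))))))
theorem f138294 : Led Lsl_ef (LP (LK LD1_c20 LD2_c31 LD3_c34)) = (LP (LK LD1_c17 LD2_c23 LD3_c25)) :=
  Lgr Lrot88 (Lpr_et (f138288 IH) (Lpn (LP (LK LD1_c17 LD2_c23 LD3_c25))))
theorem f138176 : Led Lsl_et (LP (LK LD1_c11 LD2_c34 LD3_c6)) = (LP (LK LD1_c5 LD2_c54 LD3_c9)) :=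
  Lre_e IH (LK LD1_c11 LD2_c34 LD3_c6) (LK LD1_c5 LD2_c54 LD3_c9) Lrfl Lrfl
theorem f138299 : Led Lsl_dt (LP (LK LD1_c9 LD2_c25 LD3_c56)) = (LP (LK LD1_c17 LD2_c23 LD3_c25)) :=
  Lre_d IH (LK LD1_c9 LD2_c25 LD3_c56) (LK LD1_c17 LD2_c23 LD3_c25) Lrfl Lrfl
theorem f138300 : Led Lsl_et (LP (LK LD1_c4 LD2_c46 LD3_c37)) = (LP (LK LD1_c9 LD2_c25 LD3_c56)) :=
  Lre_e IH (LK LD1_c4 LD2_c46 LD3_c37) (LK LD1_c9 LD2_c25 LD3_c56) Lrfl Lrfl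
theorem f138301 : Led Lsl_dt (LP (LK LD1_c5 LD2_c54 LD3_c9)) = (LP (LK LD1_c4 LD2_c46 LD3_c37)) :=
  Lgr Lrot77 (Lpe (f138176 IH) (Lpe (f138251 IH) (Lpr_ef (f138294 IH) (Lpe (f138299 IH) (Lpe (f138300 IH) (Lpn (LP (LK LD1_c4 LD2_c46 LD3_c37))))))))
theorem f138191 : Led Lsl_gt (LP (LK LD1_c11 LD2_c34 LD3_c5)) = (LP (LK LD1_c5 LD2_c54 LD3_c9)) :=
  Lre_g IH (LK LD1_c11 LD2_c34 LD3_c5) (LK LD1_c5 LD2_c54 LD3_c9) Lrfl Lrfl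
theorem f202574 : Led Lsl_ct (LP (LK LD1_c6 LD2_c15 LD3_c39)) = (LP (LK LD1_c11 LD2_c34 LD3_c5)) :=
  Lgr Lrot8 (Lpr_gt (K8.f132687 IH) (Lpr_dt (K6.f80269 IH) (Lpe (K11.f133005 IH) (Lpr_dt (K11.f202566 IH) (Lpe (f72415 IH) (Lpr_df (f163441 IH) (Lpe (f138305 IH) (Lpe (f138301 IH) (Lpe (f138191 IH) (Lpn (LP (LK LD1_c11 LD2_c34 LD3_c5))))))))))))
theorem f142025 : Led Lsl_bt (LP (LK LD1_c2 LD2_c10 LD3_c19)) = (LP (LK LD1_c4 LD2_c25 LD3_c59)) :=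
  Lre_b IH (LK LD1_c2 LD2_c10 LD3_c19) (LK LD1_c4 LD2_c25 LD3_c59) Lrfl Lrfl
theorem f138181 : Led Lsl_bf (LP (LK LD1_c4 LD2_c41 LD3_c21)) = (LP (LK LD1_c2 LD2_c53 LD3_c29)) :=
  Lgr Lrot93 (Lpr_dt (K8.f59196 IH) (Lpe (K8.f59188 IH) (Lpr_dt (K8.f138179 IH) (Lpn (LP (LK LD1_c2 LD2_c53 LD3_c29))))))
theorem f202601 : Led Lsl_gf (LP (LK LD1_c4 LD2_c25 LD3_c59)) = (LP (LK LD1_c4 LD2_c41 LD3_c21)) :=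
  Lgr Lrot124 (Lpe (f142025 IH) (Lpr_ct (K6.f99708 IH) (Lpr_gt (K8.f99735 IH) (Lpe (K8.f157220 IH) (Lpr_bt (K8.f132681 IH) (Lpr_gt (K8.f80277 IH) (Lpr_ct (f202574 IH) (Lpr_gt (f138191 IH) (Lpe (K8.f72243 IH) (Lpe (f138181 IH) (Lpn (LP (LK LD1_c4 LD2_c41 LD3_c21)))))))))))))
theorem f425857 : Led Lsl_gf (LP (LK LD1_c2 LD2_c17 LD3_c45)) = (LP (LK LD1_c4 LD2_c41 LD3_c18)) :=
  Lgr Lrot144 (Lpr_dt (K8.f59231 IH) (Lpe (f202601 IH) (Lpr_dt (K8.f112468 IH) (Lpr_cf (K8.f161262 IH) (Lpr_df (K8.f160900 IH) (Lpr_gf (K8.f117528 IH) (Lpe (K4.f117504 IH) (Lpr_gf (K8.f160875 IH) (Lpr_cf (f425851 IH) (Lpn (LP (LK LD1_c4 LD2_c41 LD3_c18))))))))))))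
theorem f59230 : Led Lsl_bt (LP (LK LD1_c1 LD2_c5 LD3_c48)) = (LP (LK LD1_c2 LD2_c17 LD3_c44)) :=
  Lre_b IH (LK LD1_c1 LD2_c5 LD3_c48) (LK LD1_c2 LD2_c17 LD3_c44) Lrfl Lrfl
theorem f425855 : Led Lsl_ct (LP (LK LD1_c2 LD2_c49 LD3_c34)) = (LP (LK LD1_c4 LD2_c41 LD3_c18)) :=
  Lgr Lrot59 (Lpr_cf (f425851 IH) (Lpn (LP (LK LD1_c4 LD2_c41 LD3_c18))))
theorem f20242 : Led Lsl_ct (LP (LK LD1_c1 LD2_c26 LD3_c2)) = (LP (LK LD1_c0 LD2_c39 LD3_c44)) :=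
  Lre_c IH (LK LD1_c1 LD2_c26 LD3_c2) (LK LD1_c0 LD2_c39 LD3_c44) Lrfl Lrfl
theorem f425859 : Led Lsl_gt (LP (LK LD1_c2 LD2_c17 LD3_c44)) = (LP (LK LD1_c1 LD2_c26 LD3_c2)) :=
  Lgr Lrot82 (Lpe (f59230 IH) (Lpr_ct (K8.f26869 IH) (Lpr_gf (f425857 IH) (Lpe (f425855 IH) (Lpr_bt (K8.f73476 IH) (Lpe (K8.f73470 IH) (Lpr_bf (K4.f72962 IH) (Lpe (K2.f72863 IH) (Lpe (K4.f72887 IH) (Lpe (f20242 IH) (Lpn (LP (LK LD1_c1 LD2_c26 LD3_c2)))))))))))))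
theorem f425861 : Led Lsl_bt (LP (LK LD1_c3 LD2_c0 LD3_c32)) = (LP (LK LD1_c1 LD2_c26 LD3_c2)) :=
  Lre_b IH (LK LD1_c3 LD2_c0 LD3_c32) (LK LD1_c1 LD2_c26 LD3_c2) Lrfl Lrfl
theorem f117820 : Led Lsl_bt (LP (LK LD1_c0 LD2_c37 LD3_c25)) = (LP (LK LD1_c1 LD2_c20 LD3_c61)) :=
  Lre_b IH (LK LD1_c0 LD2_c37 LD3_c25) (LK LD1_c1 LD2_c20 LD3_c61) Lrfl Lrfl
theorem f66379 : Led Lsl_gt (LP (LK LD1_c2 LD2_c49 LD3_c53)) = (LP (LK LD1_c1 LD2_c21 LD3_c0)) :=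
  Lre_g IH (LK LD1_c2 LD2_c49 LD3_c53) (LK LD1_c1 LD2_c21 LD3_c0) Lrfl Lrfl
theorem f425862 : Led Lsl_ct (LP (LK LD1_c3 LD2_c0 LD3_c32)) = (LP (LK LD1_c2 LD2_c49 LD3_c53)) :=
  Lgr Lrot64 (Lpr_bt (f425861 IH) (Lpe (f425859 IH) (Lpe (f59230 IH) (Lpr_ct (K8.f26869 IH) (Lpr_gf (f425857 IH) (Lpe (f425855 IH) (Lpe (K8.f160877 IH) (Lpe (f117820 IH) (Lpr_ct (K8.f20561 IH) (Lpe (f66379 IH) (Lpn (LP (LK LD1_c2 LD2_c49 LD3_c53)))))))))))))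
theorem f136262 : Led Lsl_cf (LP (LK LD1_c2 LD2_c50 LD3_c14)) = (LP (LK LD1_c2 LD2_c51 LD3_c43)) :=
  Lgr Lrot11 (Lpr_ct (K6.f136255 IH) (Lpn (LP (LK LD1_c2 LD2_c51 LD3_c43))))
theorem f136275 : Led Lsl_dt (LP (LK LD1_c2 LD2_c22 LD3_c18)) = (LP (LK LD1_c2 LD2_c49 LD3_c53)) :=
  Lgr Lrot6 (Lpr_gt (K6.f136271 IH) (Lpe (f136262 IH) (Lpe (K6.f135862 IH) (Lpr_ct (K6.f135834 IH) (Lpe (K6.f135868 IH) (Lpe (K6.f135901 IH) (Lpr_gf (K6.f135899 IH) (Lpe (K5.f66378 IH) (Lpe (f66379 IH) (Lpn (LP (LK LD1_c2 LD2_c49 LD3_c53))))))))))))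
theorem f425866 : Led Lsl_gf (LP (LK LD1_c3 LD2_c0 LD3_c32)) = (LP (LK LD1_c2 LD2_c14 LD3_c8)) :=
  Lgr Lrot104 (Lpr_ct (f425862 IH) (Lpe (f136275 IH) (Lpe (K3.f26573 IH) (Lpr_gf (K3.f109912 IH) (Lpe (K3.f109918 IH) (Lpe (K3.f92248 IH) (Lpe (K6.f92048 IH) (Lpr_gt (K4.f20208 IH) (Lpr_ct (K5.f20209 IH) (Lpn (LP (LK LD1_c2 LD2_c14 LD3_c8))))))))))))
theorem f501355 : Led Lsl_af (LP (LK LD1_c3 LD2_c0 LD3_c32)) = v1767 :=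
  Lgr Lrot31 (Lpr_gf (f425866 IH) (Lpr_gf (K8.f161000 IH) (Lpr_ft (f501354 IH) (Lpn v1767))))
theorem f75857 : Led Lsl_at (LP (LK LD1_c0 LD2_c39 LD3_c44)) = (LP (LK LD1_c1 LD2_c26 LD3_c0)) :=
  Lre_a IH (LK LD1_c0 LD2_c39 LD3_c44) (LK LD1_c1 LD2_c26 LD3_c0) Lrfl Lrfl
theorem f21184 : Led Lsl_bt (LP (LK LD1_c1 LD2_c26 LD3_c1)) = (LP (LK LD1_c0 LD2_c39 LD3_c44)) :=
  Lre_b IH (LK LD1_c1 LD2_c26 LD3_c1) (LK LD1_c0 LD2_c39 LD3_c44) Lrfl Lrfl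
theorem f501357 : Led Lsl_at (LP (LK LD1_c1 LD2_c26 LD3_c2)) = (LP (LK LD1_c1 LD2_c26 LD3_c1)) :=
  Lgr Lrot67 (Lpe (f425861 IH) (Lpr_af (f501355 IH) (Lpe (f501349 IH) (Lpe (f75857 IH) (Lpe (f21184 IH) (Lpn (LP (LK LD1_c1 LD2_c26 LD3_c1))))))))
theorem f501358 : Led Lsl_at (LP (LK LD1_c1 LD2_c26 LD3_c2)) = (LP (LK LD1_c1 LD2_c26 LD3_c1)) :=
  Leop (Lpe (f501357 IH) (Lpn (LP (LK LD1_c1 LD2_c26 LD3_c2))))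
theorem seed_124 : LEOK LG_a (LK LD1_c1 LD2_c26 LD3_c2) :=
  Leoe_a (LK LD1_c1 LD2_c26 LD3_c2) (f501358 IH)
def v1768 : LQ := Led Lsl_gf (LP (LK LD1_c1 LD2_c26 LD3_c1))
theorem f502766 : Led Lsl_gf (LP (LK LD1_c1 LD2_c26 LD3_c1)) = v1768 :=
  Lrfl
theorem f26533 : Led Lsl_bt (LP (LK LD1_c0 LD2_c38 LD3_c48)) = (LP (LK LD1_c1 LD2_c23 LD3_c61)) :=
  Lre_b IH (LK LD1_c0 LD2_c38 LD3_c48) (LK LD1_c1 LD2_c23 LD3_c61) Lrfl Lrfl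
theorem f75524 : Led Lsl_dt (LP (LK LD1_c1 LD2_c23 LD3_c61)) = (LP (LK LD1_c1 LD2_c26 LD3_c1)) :=
  Lgr Lrot79 (Lpe (f26533 IH) (Lpr_df (K4.f75506 IH) (Lpe (f21184 IH) (Lpn (LP (LK LD1_c1 LD2_c26 LD3_c1))))))
theorem f75838 : Led Lsl_et (LP (LK LD1_c1 LD2_c23 LD3_c61)) = (LP (LK LD1_c2 LD2_c56 LD3_c10)) :=
  Lre_e IH (LK LD1_c1 LD2_c23 LD3_c61) (LK LD1_c2 LD2_c56 LD3_c10) Lrfl Lrfl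
theorem f75845 : Led Lsl_gt (LP (LK LD1_c2 LD2_c56 LD3_c10)) = (LP (LK LD1_c5 LD2_c59 LD3_c39)) :=
  Lre_g IH (LK LD1_c2 LD2_c56 LD3_c10) (LK LD1_c5 LD2_c59 LD3_c39) Lrfl Lrfl
theorem f76072 : Led Lsl_et (LP (LK LD1_c11 LD2_c43 LD3_c54)) = (LP (LK LD1_c5 LD2_c59 LD3_c39)) :=
  Lre_e IH (LK LD1_c11 LD2_c43 LD3_c54) (LK LD1_c5 LD2_c59 LD3_c39) Lrfl Lrfl
theorem f75528 : Led Lsl_et (LP (LK LD1_c0 LD2_c38 LD3_c48)) = (LP (LK LD1_c1 LD2_c24 LD3_c1)) :=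
  Lre_e IH (LK LD1_c0 LD2_c38 LD3_c48) (LK LD1_c1 LD2_c24 LD3_c1) Lrfl Lrfl
theorem f75529 : Led Lsl_dt (LP (LK LD1_c1 LD2_c24 LD3_c1)) = (LP (LK LD1_c2 LD2_c56 LD3_c18)) :=
  Lre_d IH (LK LD1_c1 LD2_c24 LD3_c1) (LK LD1_c2 LD2_c56 LD3_c18) Lrfl Lrfl
theorem f75530 : Led Lsl_et (LP (LK LD1_c1 LD2_c26 LD3_c3)) = (LP (LK LD1_c0 LD2_c39 LD3_c44)) :=
  Lre_e IH (LK LD1_c1 LD2_c26 LD3_c3) (LK LD1_c0 LD2_c39 LD3_c44) Lrfl Lrfl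
theorem f75531 : Led Lsl_dt (LP (LK LD1_c3 LD2_c0 LD3_c34)) = (LP (LK LD1_c1 LD2_c26 LD3_c3)) :=
  Lre_d IH (LK LD1_c3 LD2_c0 LD3_c34) (LK LD1_c1 LD2_c26 LD3_c3) Lrfl Lrfl
theorem f75532 : Led Lsl_et (LP (LK LD1_c2 LD2_c56 LD3_c18)) = (LP (LK LD1_c3 LD2_c0 LD3_c34)) :=
  Lgr Lrot71 (Lpe (f75529 IH) (Lpe (f75528 IH) (Lpr_df (K4.f75506 IH) (Lpe (f75530 IH) (Lpe (f75531 IH) (Lpn (LP (LK LD1_c3 LD2_c0 LD3_c34))))))))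
theorem f75816 : Led Lsl_ef (LP (LK LD1_c2 LD2_c56 LD3_c18)) = (LP (LK LD1_c3 LD2_c0 LD3_c34)) :=
  Lgr Lrot88 (Lpr_et (f75532 IH) (Lpn (LP (LK LD1_c3 LD2_c0 LD3_c34))))
theorem f75828 : Led Lsl_bt (LP (LK LD1_c2 LD2_c56 LD3_c18)) = (LP (LK LD1_c5 LD2_c59 LD3_c41)) :=
  Lre_b IH (LK LD1_c2 LD2_c56 LD3_c18) (LK LD1_c5 LD2_c59 LD3_c41) Lrfl Lrfl
theorem f75829 : Led Lsl_bt (LP (LK LD1_c6 LD2_c8 LD3_c33)) = (LP (LK LD1_c3 LD2_c0 LD3_c34)) :=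
  Lre_b IH (LK LD1_c6 LD2_c8 LD3_c33) (LK LD1_c3 LD2_c0 LD3_c34) Lrfl Lrfl
theorem f75830 : Led Lsl_et (LP (LK LD1_c5 LD2_c59 LD3_c41)) = (LP (LK LD1_c6 LD2_c8 LD3_c33)) :=
  Lgr Lrot74 (Lpe (f75828 IH) (Lpr_ef (f75816 IH) (Lpe (f75829 IH) (Lpn (LP (LK LD1_c6 LD2_c8 LD3_c33))))))
theorem f75837 : Led Lsl_dt (LP (LK LD1_c2 LD2_c56 LD3_c10)) = (LP (LK LD1_c5 LD2_c59 LD3_c41)) :=
  Lre_d IH (LK LD1_c2 LD2_c56 LD3_c10) (LK LD1_c5 LD2_c59 LD3_c41) Lrfl Lrfl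
theorem f75839 : Led Lsl_dt (LP (LK LD1_c6 LD2_c8 LD3_c33)) = (LP (LK LD1_c3 LD2_c0 LD3_c31)) :=
  Lre_d IH (LK LD1_c6 LD2_c8 LD3_c33) (LK LD1_c3 LD2_c0 LD3_c31) Lrfl Lrfl
theorem f75840 : Led Lsl_et (LP (LK LD1_c3 LD2_c0 LD3_c31)) = (LP (LK LD1_c1 LD2_c26 LD3_c1)) :=
  Lre_e IH (LK LD1_c3 LD2_c0 LD3_c31) (LK LD1_c1 LD2_c26 LD3_c1) Lrfl Lrfl
theorem f75841 : Led Lsl_df (LP (LK LD1_c1 LD2_c23 LD3_c61)) = (LP (LK LD1_c1 LD2_c26 LD3_c1)) :=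
  Lgr Lrot70 (Lpr_et (f75838 IH) (Lpr_dt (f75837 IH) (Lpr_et (f75830 IH) (Lpr_dt (f75839 IH) (Lpr_et (f75840 IH) (Lpn (LP (LK LD1_c1 LD2_c26 LD3_c1))))))))
def v1667 : LQ := Led Lsl_gt (LP (LK LD1_c1 LD2_c23 LD3_c37))
theorem f500647 : Led Lsl_gt (LP (LK LD1_c1 LD2_c23 LD3_c37)) = v1667 :=
  Lrfl
theorem f502769 : Led Lsl_dt v1667 = v1768 :=
  Lgr Lrot57 (Lpe (f500647 IH) (Lpe (K2.f72468 IH) (Lpe (K2.f74502 IH) (Lpe (K2.f74269 IH) (Lpr_gt (K4.f104929 IH) (Lpr_dt (K4.f26434 IH) (Lpe (K0.f26406 IH) (Lpr_df (f75841 IH) (Lpr_gf (f502766 IH) (Lpn v1768))))))))))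
theorem f426167 : Led Lsl_et (LP (LK LD1_c2 LD2_c55 LD3_c21)) = (LP (LK LD1_c1 LD2_c23 LD3_c37)) :=
  Lre_e IH (LK LD1_c2 LD2_c55 LD3_c21) (LK LD1_c1 LD2_c23 LD3_c37) Lrfl Lrfl
theorem f428122 : Led Lsl_gt (LP (LK LD1_c11 LD2_c40 LD3_c44)) = (LP (LK LD1_c5 LD2_c57 LD3_c61)) :=
  Lre_g IH (LK LD1_c11 LD2_c40 LD3_c44) (LK LD1_c5 LD2_c57 LD3_c61) Lrfl Lrfl
theorem f502772 : Led Lsl_dt (LP (LK LD1_c11 LD2_c43 LD3_c54)) = (LP (LK LD1_c11 LD2_c40 LD3_c44)) :=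
  Lgr Lrot136 (Lpr_et (f76072 IH) (Lpe (f75845 IH) (Lpe (f75838 IH) (Lpr_dt (f75524 IH) (Lpr_gf (f502766 IH) (Lpe (f502769 IH) (Lpe (f500647 IH) (Lpe (f426167 IH) (Lpr_dt (K24.f426152 IH) (Lpe (f428122 IH) (Lpn (LP (LK LD1_c11 LD2_c40 LD3_c44)))))))))))))
theorem f502773 : Led Lsl_dt (LP (LK LD1_c11 LD2_c43 LD3_c54)) = (LP (LK LD1_c11 LD2_c40 LD3_c44)) :=
  Leop (Lpe (f502772 IH) (Lpn (LP (LK LD1_c11 LD2_c43 LD3_c54))))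
theorem seed_125 : LEOK LG_d (LK LD1_c11 LD2_c43 LD3_c54) :=
  Leoe_d (LK LD1_c11 LD2_c43 LD3_c54) (f502773 IH)
def v1814 : LQ := Led Lsl_gt (LP (LK LD1_c1 LD2_c28 LD3_c3))
theorem f503058 : Led Lsl_gt (LP (LK LD1_c1 LD2_c28 LD3_c3)) = v1814 :=
  Lrfl
theorem f503061 : Led Lsl_df (LP (LK LD1_c4 LD2_c26 LD3_c35)) = v1814 :=
  Lgr Lrot153 (Lpr_gt (K28.f207786 IH) (Lpr_dt (K4.f40360 IH) (Lpe (K2.f40337 IH) (Lpe (K2.f40317 IH) (Lpr_gf (K4.f69054 IH) (Lpe (K4.f79929 IH) (Lpe (K4.f60852 IH) (Lpe (K2.f60850 IH) (Lpr_gt (f503058 IH) (Lpn v1814))))))))))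
theorem f503063 : Led Lsl_dt (LP (LK LD1_c4 LD2_c26 LD3_c35)) = v1814 :=
  Lgr Lrot42 (Lpr_df (f503061 IH) (Lpn v1814))
theorem f101269 : Led Lsl_et (LP (LK LD1_c4 LD2_c26 LD3_c38)) = (LP (LK LD1_c2 LD2_c10 LD3_c30)) :=
  Lre_e IH (LK LD1_c4 LD2_c26 LD3_c38) (LK LD1_c2 LD2_c10 LD3_c30) Lrfl Lrfl
theorem f101244 : Led Lsl_dt (LP (LK LD1_c4 LD2_c26 LD3_c38)) = (LP (LK LD1_c8 LD2_c50 LD3_c49)) :=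
  Lre_d IH (LK LD1_c4 LD2_c26 LD3_c38) (LK LD1_c8 LD2_c50 LD3_c49) Lrfl Lrfl
theorem f101272 : Led Lsl_gt (LP (LK LD1_c16 LD2_c32 LD3_c6)) = (LP (LK LD1_c8 LD2_c50 LD3_c49)) :=
  Lre_g IH (LK LD1_c16 LD2_c32 LD3_c6) (LK LD1_c8 LD2_c50 LD3_c49) Lrfl Lrfl
theorem f503067 : Led Lsl_dt (LP (LK LD1_c26 LD2_c28 LD3_c41)) = (LP (LK LD1_c16 LD2_c32 LD3_c6)) :=
  Lre_d IH (LK LD1_c26 LD2_c28 LD3_c41) (LK LD1_c16 LD2_c32 LD3_c6) Lrfl Lrfl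
theorem f73293 : Led Lsl_ft (LP (LK LD1_c1 LD2_c28 LD3_c3)) = (LP (LK LD1_c1 LD2_c20 LD3_c58)) :=
  Lgr Lrot4 (Lpr_cf (K2.f60793 IH) (Lpr_ff (K2.f73282 IH) (Lpe (K2.f56747 IH) (Lpn (LP (LK LD1_c1 LD2_c20 LD3_c58))))))
theorem f503060 : Led Lsl_gf (LP (LK LD1_c2 LD2_c49 LD3_c37)) = v1814 :=
  Lgr Lrot76 (Lpe (K2.f73380 IH) (Lpe (f73293 IH) (Lpr_gt (f503058 IH) (Lpn v1814))))
theorem f73399 : Led Lsl_et (LP (LK LD1_c5 LD2_c47 LD3_c19)) = (LP (LK LD1_c11 LD2_c24 LD3_c43)) :=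
  Lre_e IH (LK LD1_c5 LD2_c47 LD3_c19) (LK LD1_c11 LD2_c24 LD3_c43) Lrfl Lrfl
theorem f73449 : Led Lsl_gt (LP (LK LD1_c11 LD2_c24 LD3_c43)) = (LP (LK LD1_c20 LD2_c22 LD3_c25)) :=
  Lre_g IH (LK LD1_c11 LD2_c24 LD3_c43) (LK LD1_c20 LD2_c22 LD3_c25) Lrfl Lrfl
theorem f503068 : Led Lsl_et (LP (LK LD1_c26 LD2_c28 LD3_c41)) = (LP (LK LD1_c20 LD2_c22 LD3_c25)) :=
  Lgr Lrot122 (Lpr_dt (f503067 IH) (Lpr_gt (f101272 IH) (Lpe (f101244 IH) (Lpr_et (f101269 IH) (Lpr_gt (K8.f38520 IH) (Lpr_dt (f503063 IH) (Lpe (f503060 IH) (Lpe (K5.f73391 IH) (Lpr_et (f73399 IH) (Lpr_gt (f73449 IH) (Lpn (LP (LK LD1_c20 LD2_c22 LD3_c25)))))))))))))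
theorem f503069 : Led Lsl_et (LP (LK LD1_c26 LD2_c28 LD3_c41)) = (LP (LK LD1_c20 LD2_c22 LD3_c25)) :=
  Leop (Lpe (f503068 IH) (Lpn (LP (LK LD1_c26 LD2_c28 LD3_c41))))
theorem seed_126 : LEOK LG_e (LK LD1_c26 LD2_c28 LD3_c41) :=
  Leoe_e (LK LD1_c26 LD2_c28 LD3_c41) (f503069 IH)
def v1818 : LQ := Led Lsl_ct (LP (LK LD1_c1 LD2_c28 LD3_c19))
theorem f503083 : Led Lsl_ct (LP (LK LD1_c1 LD2_c28 LD3_c19)) = v1818 :=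
  Lrfl
def v1212 : LQ := Led Lsl_gt (LP (LK LD1_c1 LD2_c1 LD3_c57))
theorem f493990 : Led Lsl_gt (LP (LK LD1_c1 LD2_c1 LD3_c57)) = v1212 :=
  Lrfl
theorem f205383 : Led Lsl_af (LP (LK LD1_c0 LD2_c28 LD3_c16)) = (LP (LK LD1_c0 LD2_c18 LD3_c48)) :=
  Lgr Lrot0 (Lpr_at (K11.f205300 IH) (Lpn (LP (LK LD1_c0 LD2_c18 LD3_c48))))
theorem f210573 : Led Lsl_gf (LP (LK LD1_c0 LD2_c28 LD3_c16)) = (LP (LK LD1_c0 LD2_c42 LD3_c14)) :=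
  Lgr Lrot76 (Lpr_af (f205383 IH) (Lpe (K1.f36432 IH) (Lpr_gt (K11.f210563 IH) (Lpn (LP (LK LD1_c0 LD2_c42 LD3_c14))))))
theorem f237341 : Led Lsl_ct (LP (LK LD1_c1 LD2_c1 LD3_c41)) = (LP (LK LD1_c2 LD2_c8 LD3_c60)) :=
  Lre_c IH (LK LD1_c1 LD2_c1 LD3_c41) (LK LD1_c2 LD2_c8 LD3_c60) Lrfl Lrfl
theorem f237360 : Led Lsl_gt (LP (LK LD1_c2 LD2_c8 LD3_c60)) = (LP (LK LD1_c4 LD2_c23 LD3_c6)) :=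
  Lre_g IH (LK LD1_c2 LD2_c8 LD3_c60) (LK LD1_c4 LD2_c23 LD3_c6) Lrfl Lrfl
theorem f242759 : Led Lsl_gt (LP (LK LD1_c2 LD2_c18 LD3_c52)) = (LP (LK LD1_c1 LD2_c56 LD3_c13)) :=
  Lgr Lrot9 (Lpe (K13.f59154 IH) (Lpr_gt (K13.f37092 IH) (Lpr_ct (K14.f59136 IH) (Lpe (K14.f204961 IH) (Lpr_ct (K14.f36343 IH) (Lpe (K13.f36347 IH) (Lpe (K16.f164153 IH) (Lpr_gf (K13.f242757 IH) (Lpe (K13.f181335 IH) (Lpn (LP (LK LD1_c1 LD2_c56 LD3_c13))))))))))))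
theorem f242761 : Led Lsl_cf (LP (LK LD1_c4 LD2_c20 LD3_c9)) = (LP (LK LD1_c2 LD2_c18 LD3_c52)) :=
  Lgr Lrot58 (Lpr_gf (K13.f241378 IH) (Lpe (K13.f172711 IH) (Lpr_bt (K24.f172716 IH) (Lpe (K13.f242621 IH) (Lpr_bf (K13.f164149 IH) (Lpr_ct (K13.f164154 IH) (Lpr_gf (K13.f242757 IH) (Lpe (K13.f181335 IH) (Lpe (f242759 IH) (Lpr_bf (K13.f239172 IH) (Lpn (LP (LK LD1_c2 LD2_c18 LD3_c52)))))))))))))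
theorem f315242 : Led Lsl_ff (LP (LK LD1_c4 LD2_c56 LD3_c61)) = (LP (LK LD1_c4 LD2_c20 LD3_c9)) :=
  Lgr Lrot23 (Lpr_ct (K13.f241808 IH) (Lpr_ft (K20.f315236 IH) (Lpe (f242761 IH) (Lpn (LP (LK LD1_c4 LD2_c20 LD3_c9))))))
theorem f402973 : Led Lsl_at (LP (LK LD1_c4 LD2_c56 LD3_c61)) = (LP (LK LD1_c4 LD2_c23 LD3_c6)) :=
  Lgr Lrot26 (Lpr_ff (f315242 IH) (Lpr_gt (K13.f241376 IH) (Lpr_gt (f237360 IH) (Lpn (LP (LK LD1_c4 LD2_c23 LD3_c6))))))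
theorem f242500 : Led Lsl_ef (LP (LK LD1_c4 LD2_c1 LD3_c14)) = (LP (LK LD1_c4 LD2_c56 LD3_c61)) :=
  Lgr Lrot88 (Lpr_et (K13.f242495 IH) (Lpn (LP (LK LD1_c4 LD2_c56 LD3_c61))))
theorem f242508 : Led Lsl_cf (LP (LK LD1_c4 LD2_c56 LD3_c61)) = (LP (LK LD1_c4 LD2_c0 LD3_c23)) :=
  Lgr Lrot39 (Lpe (f242500 IH) (Lpr_ct (K12.f190439 IH) (Lpr_et (K13.f242504 IH) (Lpn (LP (LK LD1_c4 LD2_c0 LD3_c23))))))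
theorem f402977 : Led Lsl_cf (LP (LK LD1_c2 LD2_c18 LD3_c51)) = (LP (LK LD1_c4 LD2_c23 LD3_c6)) :=
  Lgr Lrot1 (Lpe (K20.f315220 IH) (Lpe (f242508 IH) (Lpr_at (f402973 IH) (Lpn (LP (LK LD1_c4 LD2_c23 LD3_c6))))))
theorem f493993 : Led Lsl_cf (LP (LK LD1_c1 LD2_c6 LD3_c26)) = v1212 :=
  Lgr Lrot99 (Lpe (K13.f59147 IH) (Lpr_cf (f402977 IH) (Lpe (f237360 IH) (Lpe (f237341 IH) (Lpr_gf (K14.f237358 IH) (Lpe (K14.f205109 IH) (Lpe (f210573 IH) (Lpr_ct (K13.f59381 IH) (Lpr_gt (f493990 IH) (Lpn v1212))))))))))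
theorem f205615 : Led Lsl_ft (LP (LK LD1_c1 LD2_c1 LD3_c57)) = (LP (LK LD1_c2 LD2_c9 LD3_c42)) :=
  Lre_f IH (LK LD1_c1 LD2_c1 LD3_c57) (LK LD1_c2 LD2_c9 LD3_c42) Lrfl Lrfl
theorem f493992 : Led Lsl_gf (LP (LK LD1_c1 LD2_c31 LD3_c12)) = v1212 :=
  Lgr Lrot76 (Lpe (K11.f205603 IH) (Lpe (f205615 IH) (Lpr_gt (f493990 IH) (Lpn v1212))))
theorem f205531 : Led Lsl_et (LP (LK LD1_c2 LD2_c9 LD3_c41)) = (LP (LK LD1_c4 LD2_c24 LD3_c26)) :=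
  Lre_e IH (LK LD1_c2 LD2_c9 LD3_c41) (LK LD1_c4 LD2_c24 LD3_c26) Lrfl Lrfl
theorem f205532 : Led Lsl_et (LP (LK LD1_c3 LD2_c10 LD3_c2)) = (LP (LK LD1_c1 LD2_c31 LD3_c11)) :=
  Lre_e IH (LK LD1_c3 LD2_c10 LD3_c2) (LK LD1_c1 LD2_c31 LD3_c11) Lrfl Lrfl
theorem f205533 : Led Lsl_af (LP (LK LD1_c2 LD2_c9 LD3_c41)) = (LP (LK LD1_c1 LD2_c31 LD3_c11)) :=
  Lgr Lrot50 (Lpr_et (f205531 IH) (Lpr_at (K11.f205514 IH) (Lpr_et (f205532 IH) (Lpn (LP (LK LD1_c1 LD2_c31 LD3_c11))))))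
theorem f59387 : Led Lsl_gt (LP (LK LD1_c4 LD2_c24 LD3_c29)) = (LP (LK LD1_c2 LD2_c9 LD3_c41)) :=
  Lre_g IH (LK LD1_c4 LD2_c24 LD3_c29) (LK LD1_c2 LD2_c9 LD3_c41) Lrfl Lrfl
theorem f36478 : Led Lsl_ft (LP (LK LD1_c3 LD2_c10 LD3_c7)) = (LP (LK LD1_c1 LD2_c31 LD3_c11)) :=
  Lre_f IH (LK LD1_c3 LD2_c10 LD3_c7) (LK LD1_c1 LD2_c31 LD3_c11) Lrfl Lrfl
theorem f205653 : Led Lsl_gf (LP (LK LD1_c4 LD2_c24 LD3_c29)) = (LP (LK LD1_c3 LD2_c10 LD3_c7)) :=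
  Lgr Lrot47 (Lpr_gt (f59387 IH) (Lpr_af (f205533 IH) (Lpe (f36478 IH) (Lpn (LP (LK LD1_c3 LD2_c10 LD3_c7))))))
theorem f503086 : Led Lsl_dt (LP (LK LD1_c4 LD2_c24 LD3_c29)) = v1818 :=
  Lgr Lrot113 (Lpr_gf (f205653 IH) (Lpe (K11.f36468 IH) (Lpr_gf (f493992 IH) (Lpe (f493993 IH) (Lpe (K13.f210871 IH) (Lpr_dt (K11.f205283 IH) (Lpr_gt (K11.f69686 IH) (Lpr_dt (K12.f69682 IH) (Lpr_ct (f503083 IH) (Lpn v1818))))))))))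
theorem f205655 : Led Lsl_et (LP (LK LD1_c8 LD2_c46 LD3_c37)) = (LP (LK LD1_c4 LD2_c24 LD3_c29)) :=
  Lre_e IH (LK LD1_c8 LD2_c46 LD3_c37) (LK LD1_c4 LD2_c24 LD3_c29) Lrfl Lrfl
theorem f503085 : Led Lsl_ef (LP (LK LD1_c2 LD2_c26 LD3_c52)) = v1818 :=
  Lgr Lrot28 (Lpr_ct (K18.f227828 IH) (Lpr_et (K12.f69684 IH) (Lpr_ct (f503083 IH) (Lpn v1818))))
theorem f70410 : Led Lsl_et (LP (LK LD1_c4 LD2_c58 LD3_c5)) = (LP (LK LD1_c9 LD2_c47 LD3_c6)) :=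
  Lre_e IH (LK LD1_c4 LD2_c58 LD3_c5) (LK LD1_c9 LD2_c47 LD3_c6) Lrfl Lrfl
theorem f503088 : Led Lsl_df (LP (LK LD1_c8 LD2_c46 LD3_c37)) = (LP (LK LD1_c9 LD2_c47 LD3_c6)) :=
  Lgr Lrot70 (Lpr_et (f205655 IH) (Lpr_dt (f503086 IH) (Lpe (f503085 IH) (Lpr_dt (K18.f56076 IH) (Lpr_et (f70410 IH) (Lpn (LP (LK LD1_c9 LD2_c47 LD3_c6))))))))
theorem f503089 : Led Lsl_dt (LP (LK LD1_c9 LD2_c47 LD3_c6)) = (LP (LK LD1_c8 LD2_c46 LD3_c37)) :=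
  Leop (Lpr_df (f503088 IH) (Lpn (LP (LK LD1_c9 LD2_c47 LD3_c6))))
theorem seed_127 : LEOK LG_d (LK LD1_c9 LD2_c47 LD3_c6) :=
  Leoe_d (LK LD1_c9 LD2_c47 LD3_c6) (f503089 IH)
def v1827 : LQ := Led Lsl_gf (LP (LK LD1_c1 LD2_c28 LD3_c46))
theorem f503154 : Led Lsl_gf (LP (LK LD1_c1 LD2_c28 LD3_c46)) = v1827 :=
  Lrfl
theorem f146395 : Led Lsl_ft (LP (LK LD1_c1 LD2_c21 LD3_c26)) = (LP (LK LD1_c0 LD2_c37 LD3_c33)) :=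
  Lre_f IH (LK LD1_c1 LD2_c21 LD3_c26) (LK LD1_c0 LD2_c37 LD3_c33) Lrfl Lrfl
theorem f146396 : Led Lsl_gf (LP (LK LD1_c2 LD2_c13 LD3_c60)) = (LP (LK LD1_c1 LD2_c21 LD3_c26)) :=
  Lgr Lrot47 (Lpr_gt (K18.f68539 IH) (Lpr_af (K6.f146383 IH) (Lpe (f146395 IH) (Lpn (LP (LK LD1_c1 LD2_c21 LD3_c26))))))
theorem f503157 : Led Lsl_ct (LP (LK LD1_c2 LD2_c13 LD3_c60)) = v1827 :=
  Lgr Lrot152 (Lpr_gf (f146396 IH) (Lpe (K31.f146401 IH) (Lpr_gt (K11.f211004 IH) (Lpr_ct (K16.f59022 IH) (Lpr_gt (K9.f59013 IH) (Lpr_ct (K11.f58987 IH) (Lpe (K11.f59004 IH) (Lpe (K11.f59106 IH) (Lpr_gf (f503154 IH) (Lpn v1827))))))))))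
theorem f68542 : Led Lsl_bt (LP (LK LD1_c2 LD2_c13 LD3_c60)) = (LP (LK LD1_c4 LD2_c34 LD3_c10)) :=
  Lre_b IH (LK LD1_c2 LD2_c13 LD3_c60) (LK LD1_c4 LD2_c34 LD3_c10) Lrfl Lrfl
theorem f426221 : Led Lsl_cf (LP (LK LD1_c2 LD2_c30 LD3_c46)) = (LP (LK LD1_c2 LD2_c55 LD3_c13)) :=
  Lgr Lrot11 (Lpr_ct (K27.f426211 IH) (Lpn (LP (LK LD1_c2 LD2_c55 LD3_c13))))
theorem f387096 : Led Lsl_bt (LP (LK LD1_c2 LD2_c27 LD3_c3)) = (LP (LK LD1_c1 LD2_c10 LD3_c51)) :=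
  Lre_b IH (LK LD1_c2 LD2_c27 LD3_c3) (LK LD1_c1 LD2_c10 LD3_c51) Lrfl Lrfl
theorem f186685 : Led Lsl_bt (LP (LK LD1_c1 LD2_c13 LD3_c58)) = (LP (LK LD1_c0 LD2_c34 LD3_c17)) :=
  Lre_b IH (LK LD1_c1 LD2_c13 LD3_c58) (LK LD1_c0 LD2_c34 LD3_c17) Lrfl Lrfl
theorem f194110 : Led Lsl_ct (LP (LK LD1_c1 LD2_c12 LD3_c24)) = (LP (LK LD1_c1 LD2_c13 LD3_c58)) :=
  Lgr Lrot83 (Lpe (K19.f21258 IH) (Lpe (K9.f21247 IH) (Lpr_bf (K10.f194106 IH) (Lpr_cf (K10.f186682 IH) (Lpe (f186685 IH) (Lpn (LP (LK LD1_c1 LD2_c13 LD3_c58))))))))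
theorem f166164 : Led Lsl_bt (LP (LK LD1_c1 LD2_c12 LD3_c24)) = (LP (LK LD1_c0 LD2_c33 LD3_c32)) :=
  Lre_b IH (LK LD1_c1 LD2_c12 LD3_c24) (LK LD1_c0 LD2_c33 LD3_c32) Lrfl Lrfl
theorem f61381 : Led Lsl_gt (LP (LK LD1_c1 LD2_c13 LD3_c55)) = (LP (LK LD1_c2 LD2_c33 LD3_c51)) :=
  Lre_g IH (LK LD1_c1 LD2_c13 LD3_c55) (LK LD1_c2 LD2_c33 LD3_c51) Lrfl Lrfl
theorem f171696 : Led Lsl_bt (LP (LK LD1_c5 LD2_c13 LD3_c52)) = (LP (LK LD1_c2 LD2_c33 LD3_c51)) :=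
  Lre_b IH (LK LD1_c5 LD2_c13 LD3_c52) (LK LD1_c2 LD2_c33 LD3_c51) Lrfl Lrfl
theorem f186693 : Led Lsl_gt (LP (LK LD1_c2 LD2_c33 LD3_c58)) = (LP (LK LD1_c1 LD2_c13 LD3_c58)) :=
  Lre_g IH (LK LD1_c2 LD2_c33 LD3_c58) (LK LD1_c1 LD2_c13 LD3_c58) Lrfl Lrfl
theorem f421179 : Led Lsl_ct (LP (LK LD1_c5 LD2_c13 LD3_c52)) = (LP (LK LD1_c2 LD2_c33 LD3_c58)) :=
  Lgr Lrot64 (Lpr_bt (f171696 IH) (Lpe (f61381 IH) (Lpe (K16.f171689 IH) (Lpe (K10.f171690 IH) (Lpe (K10.f31442 IH) (Lpe (K9.f37949 IH) (Lpr_gf (K9.f166118 IH) (Lpe (f166164 IH) (Lpr_ct (f194110 IH) (Lpe (f186693 IH) (Lpn (LP (LK LD1_c2 LD2_c33 LD3_c58)))))))))))))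
theorem f161203 : Led Lsl_at (LP (LK LD1_c2 LD2_c27 LD3_c0)) = (LP (LK LD1_c1 LD2_c10 LD3_c51)) :=
  Lre_a IH (LK LD1_c2 LD2_c27 LD3_c0) (LK LD1_c1 LD2_c10 LD3_c51) Lrfl Lrfl
theorem f387087 : Led Lsl_ff (LP (LK LD1_c2 LD2_c27 LD3_c0)) = (LP (LK LD1_c2 LD2_c33 LD3_c58)) :=
  Lgr Lrot52 (Lpr_at (f161203 IH) (Lpr_gf (K28.f387085 IH) (Lpe (f186693 IH) (Lpn (LP (LK LD1_c2 LD2_c33 LD3_c58))))))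
theorem f139377 : Led Lsl_et (LP (LK LD1_c3 LD2_c59 LD3_c18)) = (LP (LK LD1_c1 LD2_c56 LD3_c22)) :=
  Lre_e IH (LK LD1_c3 LD2_c59 LD3_c18) (LK LD1_c1 LD2_c56 LD3_c22) Lrfl Lrfl
theorem f139346 : Led Lsl_et (LP (LK LD1_c1 LD2_c10 LD3_c47)) = (LP (LK LD1_c2 LD2_c27 LD3_c0)) :=
  Lre_e IH (LK LD1_c1 LD2_c10 LD3_c47) (LK LD1_c2 LD2_c27 LD3_c0) Lrfl Lrfl
theorem f139378 : Led Lsl_cf (LP (LK LD1_c3 LD2_c59 LD3_c18)) = (LP (LK LD1_c2 LD2_c27 LD3_c0)) :=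
  Lgr Lrot39 (Lpr_et (f139377 IH) (Lpr_ct (K6.f139358 IH) (Lpr_et (f139346 IH) (Lpn (LP (LK LD1_c2 LD2_c27 LD3_c0))))))
theorem f421187 : Led Lsl_ff (LP (LK LD1_c5 LD2_c13 LD3_c52)) = (LP (LK LD1_c3 LD2_c59 LD3_c18)) :=
  Lgr Lrot23 (Lpr_ct (f421179 IH) (Lpe (f387087 IH) (Lpe (f139378 IH) (Lpn (LP (LK LD1_c3 LD2_c59 LD3_c18))))))
theorem f161190 : Led Lsl_bt (LP (LK LD1_c1 LD2_c56 LD3_c25)) = (LP (LK LD1_c3 LD2_c59 LD3_c18)) :=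
  Lre_b IH (LK LD1_c1 LD2_c56 LD3_c25) (LK LD1_c3 LD2_c59 LD3_c18) Lrfl Lrfl
theorem f421191 : Led Lsl_ft (LP (LK LD1_c2 LD2_c33 LD3_c51)) = (LP (LK LD1_c1 LD2_c56 LD3_c25)) :=
  Lgr Lrot75 (Lpe (f171696 IH) (Lpr_ff (f421187 IH) (Lpe (f161190 IH) (Lpn (LP (LK LD1_c1 LD2_c56 LD3_c25))))))
theorem f3299 : Led Lsl_bt (LP (LK LD1_c1 LD2_c12 LD3_c30)) = (LP (LK LD1_c0 LD2_c33 LD3_c35)) :=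
  Lre_b IH (LK LD1_c1 LD2_c12 LD3_c30) (LK LD1_c0 LD2_c33 LD3_c35) Lrfl Lrfl
theorem f301795 : Led Lsl_ft (LP (LK LD1_c1 LD2_c13 LD3_c55)) = (LP (LK LD1_c1 LD2_c12 LD3_c30)) :=
  Lgr Lrot75 (Lpe (K16.f171689 IH) (Lpr_ff (K18.f301793 IH) (Lpe (f3299 IH) (Lpn (LP (LK LD1_c1 LD2_c12 LD3_c30))))))
theorem f301860 : Led Lsl_at (LP (LK LD1_c1 LD2_c12 LD3_c30)) = (LP (LK LD1_c2 LD2_c30 LD3_c58)) :=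
  Lre_a IH (LK LD1_c1 LD2_c12 LD3_c30) (LK LD1_c2 LD2_c30 LD3_c58) Lrfl Lrfl
theorem f406592 : Led Lsl_gt (LP (LK LD1_c2 LD2_c33 LD3_c51)) = (LP (LK LD1_c2 LD2_c30 LD3_c58)) :=
  Lgr Lrot46 (Lpe (f61381 IH) (Lpr_ft (f301795 IH) (Lpr_at (f301860 IH) (Lpn (LP (LK LD1_c2 LD2_c30 LD3_c58))))))
theorem f256608 : Led Lsl_ff (LP (LK LD1_c4 LD2_c19 LD3_c58)) = (LP (LK LD1_c4 LD2_c3 LD3_c34)) :=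
  Lgr Lrot23 (Lpe (K13.f231454 IH) (Lpr_ft (K15.f256606 IH) (Lpr_ct (K13.f28964 IH) (Lpn (LP (LK LD1_c4 LD2_c3 LD3_c34))))))
theorem f256614 : Led Lsl_at (LP (LK LD1_c4 LD2_c19 LD3_c59)) = (LP (LK LD1_c4 LD2_c3 LD3_c34)) :=
  Lgr Lrot107 (Lpe (K11.f190095 IH) (Lpr_af (K15.f256610 IH) (Lpe (K13.f28959 IH) (Lpn (LP (LK LD1_c4 LD2_c3 LD3_c34))))))
theorem f308315 : Led Lsl_ff (LP (LK LD1_c4 LD2_c19 LD3_c59)) = (LP (LK LD1_c4 LD2_c20 LD3_c25)) :=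
  Lgr Lrot30 (Lpr_at (f256614 IH) (Lpe (f256608 IH) (Lpr_at (K21.f308309 IH) (Lpn (LP (LK LD1_c4 LD2_c20 LD3_c25))))))
theorem f308319 : Led Lsl_ft (LP (LK LD1_c4 LD2_c19 LD3_c59)) = (LP (LK LD1_c4 LD2_c20 LD3_c25)) :=
  Lgr Lrot48 (Lpr_ff (f308315 IH) (Lpn (LP (LK LD1_c4 LD2_c20 LD3_c25))))
theorem f308327 : Led Lsl_ff (LP (LK LD1_c8 LD2_c37 LD3_c55)) = (LP (LK LD1_c8 LD2_c23 LD3_c57)) :=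
  Lgr Lrot19 (Lpr_dt (K14.f31743 IH) (Lpr_ft (f308319 IH) (Lpr_dt (K13.f227341 IH) (Lpn (LP (LK LD1_c8 LD2_c23 LD3_c57))))))
theorem f255134 : Led Lsl_dt (LP (LK LD1_c1 LD2_c58 LD3_c46)) = (LP (LK LD1_c2 LD2_c7 LD3_c52)) :=
  Lgr Lrot27 (Lpr_cf (K12.f199161 IH) (Lpr_gf (K14.f255128 IH) (Lpr_cf (K12.f195696 IH) (Lpr_gf (K12.f225638 IH) (Lpe (K10.f28997 IH) (Lpr_gt (K13.f223715 IH) (Lpr_ct (K11.f31744 IH) (Lpr_gt (K13.f33021 IH) (Lpe (K13.f231454 IH) (Lpn (LP (LK LD1_c2 LD2_c7 LD3_c52))))))))))))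
theorem f191284 : Led Lsl_dt (LP (LK LD1_c4 LD2_c19 LD3_c59)) = (LP (LK LD1_c8 LD2_c37 LD3_c55)) :=
  Lre_d IH (LK LD1_c4 LD2_c19 LD3_c59) (LK LD1_c8 LD2_c37 LD3_c55) Lrfl Lrfl
theorem f255138 : Led Lsl_ct (LP (LK LD1_c8 LD2_c37 LD3_c55)) = (LP (LK LD1_c4 LD2_c20 LD3_c6)) :=
  Lgr Lrot176 (Lpe (f191284 IH) (Lpe (K11.f190095 IH) (Lpr_df (K10.f187923 IH) (Lpe (K13.f170684 IH) (Lpe (K12.f170691 IH) (Lpe (K11.f187927 IH) (Lpe (K24.f187928 IH) (Lpe (K15.f187929 IH) (Lpe (K15.f201748 IH) (Lpr_cf (K13.f231450 IH) (Lpe (f255134 IH) (Lpr_cf (K12.f199161 IH) (Lpr_df (K14.f255136 IH) (Lpe (K11.f32020 IH) (Lpe (K14.f201576 IH) (Lpn (LP (LK LD1_c4 LD2_c20 LD3_c6))))))))))))))))))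
theorem f308331 : Led Lsl_ft (LP (LK LD1_c4 LD2_c20 LD3_c6)) = (LP (LK LD1_c4 LD2_c12 LD3_c9)) :=
  Lgr Lrot4 (Lpe (f255138 IH) (Lpr_ff (f308327 IH) (Lpe (K13.f53254 IH) (Lpn (LP (LK LD1_c4 LD2_c12 LD3_c9))))))
theorem f308337 : Led Lsl_ff (LP (LK LD1_c4 LD2_c20 LD3_c6)) = (LP (LK LD1_c4 LD2_c12 LD3_c9)) :=
  Lgr Lrot3 (Lpr_ft (f308331 IH) (Lpn (LP (LK LD1_c4 LD2_c12 LD3_c9))))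
theorem f164080 : Led Lsl_dt (LP (LK LD1_c5 LD2_c13 LD3_c61)) = (LP (LK LD1_c2 LD2_c33 LD3_c54)) :=
  Lre_d IH (LK LD1_c5 LD2_c13 LD3_c61) (LK LD1_c2 LD2_c33 LD3_c54) Lrfl Lrfl
theorem f201591 : Led Lsl_bt (LP (LK LD1_c4 LD2_c20 LD3_c6)) = (LP (LK LD1_c5 LD2_c13 LD3_c61)) :=
  Lgr Lrot95 (Lpe (K14.f201577 IH) (Lpr_bf (K16.f201586 IH) (Lpe (f164080 IH) (Lpn (LP (LK LD1_c5 LD2_c13 LD3_c61))))))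
theorem f53236 : Led Lsl_ct (LP (LK LD1_c2 LD2_c30 LD3_c59)) = (LP (LK LD1_c1 LD2_c12 LD3_c30)) :=
  Lre_c IH (LK LD1_c2 LD2_c30 LD3_c59) (LK LD1_c1 LD2_c12 LD3_c30) Lrfl Lrfl
theorem f53237 : Led Lsl_bf (LP (LK LD1_c2 LD2_c30 LD3_c59)) = (LP (LK LD1_c2 LD2_c3 LD3_c17)) :=
  Lgr Lrot90 (Lpr_ct (f53236 IH) (Lpr_bt (f3299 IH) (Lpr_ct (K9.f53198 IH) (Lpr_bt (K9.f53206 IH) (Lpr_ct (K11.f53193 IH) (Lpn (LP (LK LD1_c2 LD2_c3 LD3_c17))))))))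
theorem f53243 : Led Lsl_dt (LP (LK LD1_c2 LD2_c30 LD3_c59)) = (LP (LK LD1_c5 LD2_c7 LD3_c19)) :=
  Lre_d IH (LK LD1_c2 LD2_c30 LD3_c59) (LK LD1_c5 LD2_c7 LD3_c19) Lrfl Lrfl
theorem f53245 : Led Lsl_bt (LP (LK LD1_c5 LD2_c7 LD3_c19)) = (LP (LK LD1_c4 LD2_c12 LD3_c9)) :=
  Lgr Lrot95 (Lpe (f53243 IH) (Lpr_bf (f53237 IH) (Lpe (K13.f53244 IH) (Lpn (LP (LK LD1_c4 LD2_c12 LD3_c9))))))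
theorem f308339 : Led Lsl_ft (LP (LK LD1_c5 LD2_c13 LD3_c61)) = (LP (LK LD1_c5 LD2_c7 LD3_c19)) :=
  Lgr Lrot75 (Lpe (f201591 IH) (Lpr_ff (f308337 IH) (Lpe (f53245 IH) (Lpn (LP (LK LD1_c5 LD2_c7 LD3_c19))))))
theorem f164079 : Led Lsl_ct (LP (LK LD1_c2 LD2_c33 LD3_c54)) = (LP (LK LD1_c1 LD2_c13 LD3_c55)) :=
  Lre_c IH (LK LD1_c2 LD2_c33 LD3_c54) (LK LD1_c1 LD2_c13 LD3_c55) Lrfl Lrfl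
theorem f61410 : Led Lsl_dt (LP (LK LD1_c1 LD2_c13 LD3_c55)) = (LP (LK LD1_c2 LD2_c33 LD3_c55)) :=
  Lre_d IH (LK LD1_c1 LD2_c13 LD3_c55) (LK LD1_c2 LD2_c33 LD3_c55) Lrfl Lrfl
theorem f181072 : Led Lsl_ct (LP (LK LD1_c2 LD2_c33 LD3_c55)) = (LP (LK LD1_c5 LD2_c14 LD3_c3)) :=
  Lre_c IH (LK LD1_c2 LD2_c33 LD3_c55) (LK LD1_c5 LD2_c14 LD3_c3) Lrfl Lrfl
theorem f308460 : Led Lsl_dt (LP (LK LD1_c5 LD2_c14 LD3_c3)) = (LP (LK LD1_c10 LD2_c18 LD3_c6)) :=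
  Lre_d IH (LK LD1_c5 LD2_c14 LD3_c3) (LK LD1_c10 LD2_c18 LD3_c6) Lrfl Lrfl
theorem f308461 : Led Lsl_ct (LP (LK LD1_c10 LD2_c18 LD3_c6)) = (LP (LK LD1_c18 LD2_c43 LD3_c13)) :=
  Lre_c IH (LK LD1_c10 LD2_c18 LD3_c6) (LK LD1_c18 LD2_c43 LD3_c13) Lrfl Lrfl
theorem f53300 : Led Lsl_at (LP (LK LD1_c5 LD2_c7 LD3_c19)) = (LP (LK LD1_c10 LD2_c5 LD3_c3)) :=
  Lre_a IH (LK LD1_c5 LD2_c7 LD3_c19) (LK LD1_c10 LD2_c5 LD3_c3) Lrfl Lrfl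
theorem f308445 : Led Lsl_ct (LP (LK LD1_c18 LD2_c23 LD3_c42)) = (LP (LK LD1_c10 LD2_c5 LD3_c3)) :=
  Lre_c IH (LK LD1_c18 LD2_c23 LD3_c42) (LK LD1_c10 LD2_c5 LD3_c3) Lrfl Lrfl
theorem f308462 : Led Lsl_dt (LP (LK LD1_c18 LD2_c43 LD3_c13)) = (LP (LK LD1_c18 LD2_c23 LD3_c42)) :=
  Lgr Lrot120 (Lpe (f308461 IH) (Lpe (f308460 IH) (Lpe (f181072 IH) (Lpe (f61410 IH) (Lpe (f164079 IH) (Lpe (f164080 IH) (Lpr_ft (f308339 IH) (Lpr_at (f53300 IH) (Lpe (f308445 IH) (Lpn (LP (LK LD1_c18 LD2_c23 LD3_c42))))))))))))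
theorem f308419 : Led Lsl_dt (LP (LK LD1_c10 LD2_c5 LD3_c3)) = (LP (LK LD1_c5 LD2_c7 LD3_c15)) :=
  Lre_d IH (LK LD1_c10 LD2_c5 LD3_c3) (LK LD1_c5 LD2_c7 LD3_c15) Lrfl Lrfl
theorem f308074 : Led Lsl_ct (LP (LK LD1_c5 LD2_c7 LD3_c15)) = (LP (LK LD1_c2 LD2_c30 LD3_c58)) :=
  Lre_c IH (LK LD1_c5 LD2_c7 LD3_c15) (LK LD1_c2 LD2_c30 LD3_c58) Lrfl Lrfl
theorem f308430 : Led Lsl_dt (LP (LK LD1_c2 LD2_c30 LD3_c58)) = (LP (LK LD1_c5 LD2_c7 LD3_c16)) :=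
  Lre_d IH (LK LD1_c2 LD2_c30 LD3_c58) (LK LD1_c5 LD2_c7 LD3_c16) Lrfl Lrfl
theorem f308442 : Led Lsl_ct (LP (LK LD1_c5 LD2_c7 LD3_c16)) = (LP (LK LD1_c10 LD2_c5 LD3_c4)) :=
  Lre_c IH (LK LD1_c5 LD2_c7 LD3_c16) (LK LD1_c10 LD2_c5 LD3_c4) Lrfl Lrfl
theorem f308471 : Led Lsl_at (LP (LK LD1_c5 LD2_c7 LD3_c22)) = (LP (LK LD1_c10 LD2_c5 LD3_c4)) :=
  Lre_a IH (LK LD1_c5 LD2_c7 LD3_c22) (LK LD1_c10 LD2_c5 LD3_c4) Lrfl Lrfl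
theorem f308472 : Led Lsl_ft (LP (LK LD1_c5 LD2_c14 LD3_c3)) = (LP (LK LD1_c5 LD2_c7 LD3_c22)) :=
  Lgr Lrot142 (Lpr_dt (f308460 IH) (Lpr_ct (f308461 IH) (Lpr_dt (f308462 IH) (Lpr_ct (f308445 IH) (Lpr_dt (f308419 IH) (Lpr_ct (f308074 IH) (Lpr_dt (f308430 IH) (Lpr_ct (f308442 IH) (Lpe (f308471 IH) (Lpn (LP (LK LD1_c5 LD2_c7 LD3_c22))))))))))))
theorem f308483 : Led Lsl_ff (LP (LK LD1_c5 LD2_c14 LD3_c3)) = (LP (LK LD1_c5 LD2_c7 LD3_c22)) :=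
  Lgr Lrot3 (Lpr_ft (f308472 IH) (Lpn (LP (LK LD1_c5 LD2_c7 LD3_c22))))
theorem f308485 : Led Lsl_at (LP (LK LD1_c5 LD2_c14 LD3_c3)) = (LP (LK LD1_c10 LD2_c17 LD3_c59)) :=
  Lre_a IH (LK LD1_c5 LD2_c14 LD3_c3) (LK LD1_c10 LD2_c17 LD3_c59) Lrfl Lrfl
theorem f308492 : Led Lsl_ct (LP (LK LD1_c5 LD2_c13 LD3_c59)) = (LP (LK LD1_c10 LD2_c17 LD3_c59)) :=
  Lre_c IH (LK LD1_c5 LD2_c13 LD3_c59) (LK LD1_c10 LD2_c17 LD3_c59) Lrfl Lrfl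
theorem f61387 : Led Lsl_dt (LP (LK LD1_c2 LD2_c33 LD3_c53)) = (LP (LK LD1_c5 LD2_c13 LD3_c59)) :=
  Lre_d IH (LK LD1_c2 LD2_c33 LD3_c53) (LK LD1_c5 LD2_c13 LD3_c59) Lrfl Lrfl
theorem f308493 : Led Lsl_ct (LP (LK LD1_c5 LD2_c13 LD3_c58)) = (LP (LK LD1_c2 LD2_c33 LD3_c53)) :=
  Lre_c IH (LK LD1_c5 LD2_c13 LD3_c58) (LK LD1_c2 LD2_c33 LD3_c53) Lrfl Lrfl
theorem f308494 : Led Lsl_dt (LP (LK LD1_c10 LD2_c17 LD3_c58)) = (LP (LK LD1_c5 LD2_c13 LD3_c58)) :=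
  Lre_d IH (LK LD1_c10 LD2_c17 LD3_c58) (LK LD1_c5 LD2_c13 LD3_c58) Lrfl Lrfl
theorem f308495 : Led Lsl_ct (LP (LK LD1_c18 LD2_c43 LD3_c1)) = (LP (LK LD1_c10 LD2_c17 LD3_c58)) :=
  Lre_c IH (LK LD1_c18 LD2_c43 LD3_c1) (LK LD1_c10 LD2_c17 LD3_c58) Lrfl Lrfl
theorem f308479 : Led Lsl_dt (LP (LK LD1_c5 LD2_c7 LD3_c22)) = (LP (LK LD1_c10 LD2_c5 LD3_c12)) :=
  Lre_d IH (LK LD1_c5 LD2_c7 LD3_c22) (LK LD1_c10 LD2_c5 LD3_c12) Lrfl Lrfl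
theorem f308496 : Led Lsl_ct (LP (LK LD1_c10 LD2_c5 LD3_c12)) = (LP (LK LD1_c18 LD2_c23 LD3_c57)) :=
  Lre_c IH (LK LD1_c10 LD2_c5 LD3_c12) (LK LD1_c18 LD2_c23 LD3_c57) Lrfl Lrfl
theorem f308497 : Led Lsl_df (LP (LK LD1_c18 LD2_c43 LD3_c1)) = (LP (LK LD1_c18 LD2_c23 LD3_c57)) :=
  Lgr Lrot106 (Lpr_ct (f308495 IH) (Lpr_dt (f308494 IH) (Lpr_ct (f308493 IH) (Lpr_dt (f61387 IH) (Lpr_ct (f308492 IH) (Lpe (f308485 IH) (Lpr_ff (f308483 IH) (Lpr_dt (f308479 IH) (Lpr_ct (f308496 IH) (Lpn (LP (LK LD1_c18 LD2_c23 LD3_c57))))))))))))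
theorem f308505 : Led Lsl_dt (LP (LK LD1_c18 LD2_c43 LD3_c1)) = (LP (LK LD1_c18 LD2_c23 LD3_c57)) :=
  Lgr Lrot42 (Lpr_df (f308497 IH) (Lpn (LP (LK LD1_c18 LD2_c23 LD3_c57))))
theorem f308509 : Led Lsl_ct (LP (LK LD1_c10 LD2_c17 LD3_c58)) = (LP (LK LD1_c18 LD2_c43 LD3_c1)) :=
  Lre_c IH (LK LD1_c10 LD2_c17 LD3_c58) (LK LD1_c18 LD2_c43 LD3_c1) Lrfl Lrfl
theorem f308508 : Led Lsl_dt (LP (LK LD1_c5 LD2_c13 LD3_c58)) = (LP (LK LD1_c10 LD2_c17 LD3_c58)) :=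
  Lre_d IH (LK LD1_c5 LD2_c13 LD3_c58) (LK LD1_c10 LD2_c17 LD3_c58) Lrfl Lrfl
theorem f308514 : Led Lsl_ct (LP (LK LD1_c2 LD2_c33 LD3_c53)) = (LP (LK LD1_c5 LD2_c13 LD3_c58)) :=
  Lre_c IH (LK LD1_c2 LD2_c33 LD3_c53) (LK LD1_c5 LD2_c13 LD3_c58) Lrfl Lrfl
theorem f61394 : Led Lsl_dt (LP (LK LD1_c5 LD2_c13 LD3_c59)) = (LP (LK LD1_c2 LD2_c33 LD3_c53)) :=
  Lre_d IH (LK LD1_c5 LD2_c13 LD3_c59) (LK LD1_c2 LD2_c33 LD3_c53) Lrfl Lrfl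
theorem f308516 : Led Lsl_ct (LP (LK LD1_c18 LD2_c23 LD3_c57)) = (LP (LK LD1_c10 LD2_c5 LD3_c12)) :=
  Lre_c IH (LK LD1_c18 LD2_c23 LD3_c57) (LK LD1_c10 LD2_c5 LD3_c12) Lrfl Lrfl
theorem f194048 : Led Lsl_dt (LP (LK LD1_c10 LD2_c5 LD3_c12)) = (LP (LK LD1_c5 LD2_c7 LD3_c22)) :=
  Lre_d IH (LK LD1_c10 LD2_c5 LD3_c12) (LK LD1_c5 LD2_c7 LD3_c22) Lrfl Lrfl
theorem f194047 : Led Lsl_ct (LP (LK LD1_c5 LD2_c7 LD3_c22)) = (LP (LK LD1_c2 LD2_c30 LD3_c60)) :=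
  Lre_c IH (LK LD1_c5 LD2_c7 LD3_c22) (LK LD1_c2 LD2_c30 LD3_c60) Lrfl Lrfl
theorem f308443 : Led Lsl_at (LP (LK LD1_c5 LD2_c7 LD3_c16)) = (LP (LK LD1_c2 LD2_c30 LD3_c60)) :=
  Lre_a IH (LK LD1_c5 LD2_c7 LD3_c16) (LK LD1_c2 LD2_c30 LD3_c60) Lrfl Lrfl
theorem f308521 : Led Lsl_ft (LP (LK LD1_c5 LD2_c13 LD3_c59)) = (LP (LK LD1_c5 LD2_c7 LD3_c16)) :=
  Lgr Lrot142 (Lpr_dt (f61394 IH) (Lpr_ct (f308514 IH) (Lpr_dt (f308508 IH) (Lpr_ct (f308509 IH) (Lpr_dt (f308505 IH) (Lpr_ct (f308516 IH) (Lpr_dt (f194048 IH) (Lpr_ct (f194047 IH) (Lpe (f308443 IH) (Lpn (LP (LK LD1_c5 LD2_c7 LD3_c16))))))))))))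
theorem f308428 : Led Lsl_dt (LP (LK LD1_c5 LD2_c7 LD3_c16)) = (LP (LK LD1_c2 LD2_c30 LD3_c58)) :=
  Lre_d IH (LK LD1_c5 LD2_c7 LD3_c16) (LK LD1_c2 LD2_c30 LD3_c58) Lrfl Lrfl
theorem f308523 : Led Lsl_ff (LP (LK LD1_c2 LD2_c33 LD3_c53)) = (LP (LK LD1_c2 LD2_c30 LD3_c58)) :=
  Lgr Lrot19 (Lpr_dt (f61387 IH) (Lpr_ft (f308521 IH) (Lpr_dt (f308428 IH) (Lpn (LP (LK LD1_c2 LD2_c30 LD3_c58))))))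
theorem f301790 : Led Lsl_at (LP (LK LD1_c2 LD2_c33 LD3_c53)) = (LP (LK LD1_c1 LD2_c13 LD3_c55)) :=
  Lre_a IH (LK LD1_c2 LD2_c33 LD3_c53) (LK LD1_c1 LD2_c13 LD3_c55) Lrfl Lrfl
theorem f61383 : Led Lsl_gt (LP (LK LD1_c2 LD2_c33 LD3_c52)) = (LP (LK LD1_c1 LD2_c13 LD3_c55)) :=
  Lre_g IH (LK LD1_c2 LD2_c33 LD3_c52) (LK LD1_c1 LD2_c13 LD3_c55) Lrfl Lrfl
theorem f308589 : Led Lsl_gf (LP (LK LD1_c2 LD2_c33 LD3_c52)) = (LP (LK LD1_c2 LD2_c30 LD3_c58)) :=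
  Lgr Lrot47 (Lpr_gt (f61383 IH) (Lpe (f301790 IH) (Lpr_ff (f308523 IH) (Lpn (LP (LK LD1_c2 LD2_c30 LD3_c58))))))
theorem f421260 : Led Lsl_af (LP (LK LD1_c2 LD2_c33 LD3_c52)) = (LP (LK LD1_c1 LD2_c56 LD3_c25)) :=
  Lgr Lrot31 (Lpr_gf (f308589 IH) (Lpe (f406592 IH) (Lpr_ft (f421191 IH) (Lpn (LP (LK LD1_c1 LD2_c56 LD3_c25))))))
theorem f139405 : Led Lsl_et (LP (LK LD1_c0 LD2_c54 LD3_c61)) = (LP (LK LD1_c1 LD2_c56 LD3_c25)) :=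
  Lre_e IH (LK LD1_c0 LD2_c54 LD3_c61) (LK LD1_c1 LD2_c56 LD3_c25) Lrfl Lrfl
theorem f139410 : Led Lsl_af (LP (LK LD1_c0 LD2_c54 LD3_c61)) = (LP (LK LD1_c1 LD2_c27 LD3_c37)) :=
  Lgr Lrot0 (Lpr_at (K6.f139408 IH) (Lpn (LP (LK LD1_c1 LD2_c27 LD3_c37))))
theorem f421271 : Led Lsl_et (LP (LK LD1_c2 LD2_c33 LD3_c52)) = (LP (LK LD1_c1 LD2_c27 LD3_c37)) :=
  Lgr Lrot123 (Lpr_af (f421260 IH) (Lpe (f139405 IH) (Lpr_af (f139410 IH) (Lpn (LP (LK LD1_c1 LD2_c27 LD3_c37))))))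
theorem f421277 : Led Lsl_ef (LP (LK LD1_c2 LD2_c33 LD3_c52)) = (LP (LK LD1_c1 LD2_c27 LD3_c37)) :=
  Lgr Lrot88 (Lpr_et (f421271 IH) (Lpn (LP (LK LD1_c1 LD2_c27 LD3_c37))))
theorem f421264 : Led Lsl_bt (LP (LK LD1_c2 LD2_c33 LD3_c52)) = (LP (LK LD1_c5 LD2_c13 LD3_c55)) :=
  Lre_b IH (LK LD1_c2 LD2_c33 LD3_c52) (LK LD1_c5 LD2_c13 LD3_c55) Lrfl Lrfl
theorem f421279 : Led Lsl_et (LP (LK LD1_c5 LD2_c13 LD3_c55)) = (LP (LK LD1_c3 LD2_c3 LD3_c25)) :=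
  Lgr Lrot74 (Lpe (f421264 IH) (Lpr_ef (f421277 IH) (Lpe (K6.f59539 IH) (Lpn (LP (LK LD1_c3 LD2_c3 LD3_c25))))))
theorem f24083 : Led Lsl_et (LP (LK LD1_c2 LD2_c27 LD3_c5)) = (LP (LK LD1_c4 LD2_c58 LD3_c30)) :=
  Lre_e IH (LK LD1_c2 LD2_c27 LD3_c5) (LK LD1_c4 LD2_c58 LD3_c30) Lrfl Lrfl
theorem f421401 : Led Lsl_af (LP (LK LD1_c5 LD2_c13 LD3_c55)) = (LP (LK LD1_c4 LD2_c58 LD3_c30)) :=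
  Lgr Lrot50 (Lpr_et (f421279 IH) (Lpe (K8.f139285 IH) (Lpr_et (f24083 IH) (Lpn (LP (LK LD1_c4 LD2_c58 LD3_c30))))))
theorem f308592 : Led Lsl_ct (LP (LK LD1_c2 LD2_c33 LD3_c52)) = (LP (LK LD1_c5 LD2_c13 LD3_c56)) :=
  Lre_c IH (LK LD1_c2 LD2_c33 LD3_c52) (LK LD1_c5 LD2_c13 LD3_c56) Lrfl Lrfl
theorem f421281 : Led Lsl_et (LP (LK LD1_c5 LD2_c13 LD3_c56)) = (LP (LK LD1_c3 LD2_c3 LD3_c26)) :=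
  Lgr Lrot158 (Lpe (f308592 IH) (Lpr_ef (f421277 IH) (Lpe (K6.f59544 IH) (Lpn (LP (LK LD1_c3 LD2_c3 LD3_c26))))))
theorem f69426 : Led Lsl_et (LP (LK LD1_c1 LD2_c57 LD3_c8)) = (LP (LK LD1_c4 LD2_c0 LD3_c43)) :=
  Lre_e IH (LK LD1_c1 LD2_c57 LD3_c8) (LK LD1_c4 LD2_c0 LD3_c43) Lrfl Lrfl
theorem f421291 : Led Lsl_bf (LP (LK LD1_c5 LD2_c13 LD3_c56)) = (LP (LK LD1_c4 LD2_c0 LD3_c43)) :=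
  Lgr Lrot96 (Lpr_et (f421281 IH) (Lpe (K6.f69362 IH) (Lpr_et (f69426 IH) (Lpn (LP (LK LD1_c4 LD2_c0 LD3_c43))))))
theorem f201594 : Led Lsl_ct (LP (LK LD1_c5 LD2_c13 LD3_c56)) = (LP (LK LD1_c2 LD2_c33 LD3_c52)) :=
  Lre_c IH (LK LD1_c5 LD2_c13 LD3_c56) (LK LD1_c2 LD2_c33 LD3_c52) Lrfl Lrfl
theorem f69465 : Led Lsl_ct (LP (LK LD1_c8 LD2_c2 LD3_c13)) = (LP (LK LD1_c4 LD2_c0 LD3_c43)) :=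
  Lre_c IH (LK LD1_c8 LD2_c2 LD3_c13) (LK LD1_c4 LD2_c0 LD3_c43) Lrfl Lrfl
theorem f69436 : Led Lsl_et (LP (LK LD1_c8 LD2_c2 LD3_c13)) = (LP (LK LD1_c4 LD2_c0 LD3_c41)) :=
  Lre_e IH (LK LD1_c8 LD2_c2 LD3_c13) (LK LD1_c4 LD2_c0 LD3_c41) Lrfl Lrfl
theorem f59549 : Led Lsl_et (LP (LK LD1_c2 LD2_c54 LD3_c5)) = (LP (LK LD1_c5 LD2_c55 LD3_c30)) :=
  Lre_e IH (LK LD1_c2 LD2_c54 LD3_c5) (LK LD1_c5 LD2_c55 LD3_c30) Lrfl Lrfl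
theorem f69437 : Led Lsl_bf (LP (LK LD1_c8 LD2_c2 LD3_c13)) = (LP (LK LD1_c5 LD2_c55 LD3_c30)) :=
  Lgr Lrot96 (Lpr_et (f69436 IH) (Lpr_bt (K6.f69421 IH) (Lpr_et (f59549 IH) (Lpn (LP (LK LD1_c5 LD2_c55 LD3_c30))))))
theorem f421296 : Led Lsl_ct (LP (LK LD1_c5 LD2_c13 LD3_c55)) = (LP (LK LD1_c5 LD2_c55 LD3_c30)) :=
  Lgr Lrot83 (Lpe (f421264 IH) (Lpe (f201594 IH) (Lpr_bf (f421291 IH) (Lpe (f69465 IH) (Lpr_bf (f69437 IH) (Lpn (LP (LK LD1_c5 LD2_c55 LD3_c30))))))))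
theorem f158174 : Led Lsl_bt (LP (LK LD1_c2 LD2_c10 LD3_c16)) = (LP (LK LD1_c4 LD2_c0 LD3_c45)) :=
  Lgr Lrot127 (Lpr_bf (K8.f158160 IH) (Lpn (LP (LK LD1_c4 LD2_c0 LD3_c45))))
theorem f158268 : Led Lsl_gt (LP (LK LD1_c4 LD2_c0 LD3_c45)) = (LP (LK LD1_c7 LD2_c56 LD3_c58)) :=
  Lgr Lrot82 (Lpe (f158174 IH) (Lpr_ct (K8.f138885 IH) (Lpe (K8.f148938 IH) (Lpe (K5.f25394 IH) (Lpr_bt (K7.f72257 IH) (Lpe (K8.f71211 IH) (Lpr_bf (K8.f158258 IH) (Lpe (K8.f158184 IH) (Lpe (K8.f38525 IH) (Lpe (K8.f158251 IH) (Lpn (LP (LK LD1_c7 LD2_c56 LD3_c58)))))))))))))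
theorem f203289 : Led Lsl_af (LP (LK LD1_c4 LD2_c0 LD3_c41)) = (LP (LK LD1_c2 LD2_c10 LD3_c12)) :=
  Lgr Lrot31 (Lpr_gf (K28.f203287 IH) (Lpe (f158268 IH) (Lpe (K8.f158191 IH) (Lpn (LP (LK LD1_c2 LD2_c10 LD3_c12))))))
theorem f69469 : Led Lsl_et (LP (LK LD1_c4 LD2_c0 LD3_c41)) = (LP (LK LD1_c8 LD2_c2 LD3_c13)) :=
  Lre_e IH (LK LD1_c4 LD2_c0 LD3_c41) (LK LD1_c8 LD2_c2 LD3_c13) Lrfl Lrfl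
theorem f149425 : Led Lsl_et (LP (LK LD1_c4 LD2_c25 LD3_c45)) = (LP (LK LD1_c2 LD2_c10 LD3_c12)) :=
  Lre_e IH (LK LD1_c4 LD2_c25 LD3_c45) (LK LD1_c2 LD2_c10 LD3_c12) Lrfl Lrfl
theorem f203295 : Led Lsl_at (LP (LK LD1_c8 LD2_c2 LD3_c13)) = (LP (LK LD1_c4 LD2_c25 LD3_c45)) :=
  Lgr Lrot80 (Lpe (f69469 IH) (Lpr_af (f203289 IH) (Lpe (f149425 IH) (Lpn (LP (LK LD1_c4 LD2_c25 LD3_c45))))))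
theorem f203299 : Led Lsl_bt (LP (LK LD1_c4 LD2_c25 LD3_c45)) = (LP (LK LD1_c2 LD2_c10 LD3_c15)) :=
  Lre_b IH (LK LD1_c4 LD2_c25 LD3_c45) (LK LD1_c2 LD2_c10 LD3_c15) Lrfl Lrfl
theorem f203300 : Led Lsl_at (LP (LK LD1_c2 LD2_c10 LD3_c15)) = (LP (LK LD1_c4 LD2_c25 LD3_c42)) :=
  Lre_a IH (LK LD1_c2 LD2_c10 LD3_c15) (LK LD1_c4 LD2_c25 LD3_c42) Lrfl Lrfl
theorem f203301 : Led Lsl_bt (LP (LK LD1_c4 LD2_c25 LD3_c42)) = (LP (LK LD1_c8 LD2_c48 LD3_c53)) :=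
  Lre_b IH (LK LD1_c4 LD2_c25 LD3_c42) (LK LD1_c8 LD2_c48 LD3_c53) Lrfl Lrfl
theorem f203302 : Led Lsl_af (LP (LK LD1_c5 LD2_c55 LD3_c30)) = (LP (LK LD1_c8 LD2_c48 LD3_c53)) :=
  Lgr Lrot36 (Lpe (f69437 IH) (Lpr_at (f203295 IH) (Lpr_bt (f203299 IH) (Lpr_at (f203300 IH) (Lpr_bt (f203301 IH) (Lpn (LP (LK LD1_c8 LD2_c48 LD3_c53))))))))
theorem f203349 : Led Lsl_at (LP (LK LD1_c5 LD2_c55 LD3_c30)) = (LP (LK LD1_c8 LD2_c48 LD3_c53)) :=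
  Lgr Lrot100 (Lpr_af (f203302 IH) (Lpn (LP (LK LD1_c8 LD2_c48 LD3_c53))))
theorem f421403 : Led Lsl_ct (LP (LK LD1_c8 LD2_c48 LD3_c53)) = (LP (LK LD1_c4 LD2_c58 LD3_c30)) :=
  Lgr Lrot111 (Lpe (f203349 IH) (Lpe (f421296 IH) (Lpr_af (f421401 IH) (Lpn (LP (LK LD1_c4 LD2_c58 LD3_c30))))))
theorem f161216 : Led Lsl_bt (LP (LK LD1_c4 LD2_c58 LD3_c30)) = (LP (LK LD1_c2 LD2_c27 LD3_c7)) :=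
  Lre_b IH (LK LD1_c4 LD2_c58 LD3_c30) (LK LD1_c2 LD2_c27 LD3_c7) Lrfl Lrfl
theorem f161222 : Led Lsl_ct (LP (LK LD1_c2 LD2_c27 LD3_c7)) = (LP (LK LD1_c1 LD2_c10 LD3_c51)) :=
  Lre_c IH (LK LD1_c2 LD2_c27 LD3_c7) (LK LD1_c1 LD2_c10 LD3_c51) Lrfl Lrfl
theorem f421406 : Led Lsl_bt (LP (LK LD1_c1 LD2_c10 LD3_c51)) = (LP (LK LD1_c2 LD2_c27 LD3_c3)) :=
  Lre_b IH (LK LD1_c1 LD2_c10 LD3_c51) (LK LD1_c2 LD2_c27 LD3_c3) Lrfl Lrfl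
theorem f421407 : Led Lsl_cf (LP (LK LD1_c4 LD2_c25 LD3_c42)) = (LP (LK LD1_c2 LD2_c27 LD3_c3)) :=
  Lgr Lrot97 (Lpr_bt (f203301 IH) (Lpr_ct (f421403 IH) (Lpr_bt (f161216 IH) (Lpr_ct (f161222 IH) (Lpr_bt (f421406 IH) (Lpn (LP (LK LD1_c2 LD2_c27 LD3_c3))))))))
theorem f421294 : Led Lsl_bt (LP (LK LD1_c5 LD2_c13 LD3_c56)) = (LP (LK LD1_c4 LD2_c0 LD3_c43)) :=
  Lgr Lrot127 (Lpr_bf (f421291 IH) (Lpn (LP (LK LD1_c4 LD2_c0 LD3_c43))))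
theorem f239242 : Led Lsl_bt (LP (LK LD1_c2 LD2_c7 LD3_c47)) = (LP (LK LD1_c4 LD2_c20 LD3_c35)) :=
  Lre_b IH (LK LD1_c2 LD2_c7 LD3_c47) (LK LD1_c4 LD2_c20 LD3_c35) Lrfl Lrfl
theorem f421326 : Led Lsl_gt (LP (LK LD1_c4 LD2_c20 LD3_c35)) = (LP (LK LD1_c4 LD2_c0 LD3_c43)) :=
  Lgr Lrot164 (Lpe (f239242 IH) (Lpr_ct (K15.f239243 IH) (Lpr_gf (K12.f31587 IH) (Lpr_cf (K11.f201557 IH) (Lpe (K11.f201574 IH) (Lpr_bf (K16.f201586 IH) (Lpr_ct (f164079 IH) (Lpe (f61383 IH) (Lpe (f201594 IH) (Lpr_bt (f421294 IH) (Lpn (LP (LK LD1_c4 LD2_c0 LD3_c43)))))))))))))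
theorem f402922 : Led Lsl_gt (LP (LK LD1_c8 LD2_c38 LD3_c55)) = (LP (LK LD1_c4 LD2_c20 LD3_c35)) :=
  Lre_g IH (LK LD1_c8 LD2_c38 LD3_c55) (LK LD1_c4 LD2_c20 LD3_c35) Lrfl Lrfl
theorem f158335 : Led Lsl_at (LP (LK LD1_c8 LD2_c2 LD3_c10)) = (LP (LK LD1_c4 LD2_c0 LD3_c43)) :=
  Lre_a IH (LK LD1_c8 LD2_c2 LD3_c10) (LK LD1_c4 LD2_c0 LD3_c43) Lrfl Lrfl
theorem f421328 : Led Lsl_ft (LP (LK LD1_c8 LD2_c38 LD3_c55)) = (LP (LK LD1_c8 LD2_c2 LD3_c10)) :=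
  Lgr Lrot2 (Lpr_gt (f402922 IH) (Lpr_gt (f421326 IH) (Lpe (f158335 IH) (Lpn (LP (LK LD1_c8 LD2_c2 LD3_c10))))))
theorem f158207 : Led Lsl_et (LP (LK LD1_c4 LD2_c0 LD3_c40)) = (LP (LK LD1_c8 LD2_c2 LD3_c10)) :=
  Lre_e IH (LK LD1_c4 LD2_c0 LD3_c40) (LK LD1_c8 LD2_c2 LD3_c10) Lrfl Lrfl
theorem f158208 : Led Lsl_cf (LP (LK LD1_c4 LD2_c25 LD3_c45)) = (LP (LK LD1_c8 LD2_c2 LD3_c10)) :=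
  Lgr Lrot39 (Lpr_et (f149425 IH) (Lpr_ct (K8.f158194 IH) (Lpr_et (f158207 IH) (Lpn (LP (LK LD1_c8 LD2_c2 LD3_c10))))))
theorem f158197 : Led Lsl_ft (LP (LK LD1_c4 LD2_c25 LD3_c45)) = (LP (LK LD1_c8 LD2_c49 LD3_c0)) :=
  Lre_f IH (LK LD1_c4 LD2_c25 LD3_c45) (LK LD1_c8 LD2_c49 LD3_c0) Lrfl Lrfl
theorem f421346 : Led Lsl_cf (LP (LK LD1_c8 LD2_c38 LD3_c55)) = (LP (LK LD1_c8 LD2_c49 LD3_c0)) :=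
  Lgr Lrot108 (Lpr_ft (f421328 IH) (Lpe (f158208 IH) (Lpr_ft (f158197 IH) (Lpn (LP (LK LD1_c8 LD2_c49 LD3_c0))))))
theorem f315713 : Led Lsl_ft (LP (LK LD1_c4 LD2_c20 LD3_c36)) = (LP (LK LD1_c4 LD2_c20 LD3_c8)) :=
  Lgr Lrot4 (Lpr_cf (K19.f241014 IH) (Lpr_ff (K20.f315711 IH) (Lpe (K13.f241367 IH) (Lpn (LP (LK LD1_c4 LD2_c20 LD3_c8))))))
theorem f31774 : Led Lsl_dt (LP (LK LD1_c4 LD2_c20 LD3_c8)) = (LP (LK LD1_c2 LD2_c7 LD3_c33)) :=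
  Lre_d IH (LK LD1_c4 LD2_c20 LD3_c8) (LK LD1_c2 LD2_c7 LD3_c33) Lrfl Lrfl
theorem f402895 : Led Lsl_ff (LP (LK LD1_c2 LD2_c7 LD3_c47)) = (LP (LK LD1_c2 LD2_c7 LD3_c33)) :=
  Lgr Lrot19 (Lpr_dt (K13.f239245 IH) (Lpr_ft (f315713 IH) (Lpr_dt (f31774 IH) (Lpn (LP (LK LD1_c2 LD2_c7 LD3_c33))))))
theorem f31776 : Led Lsl_bt (LP (LK LD1_c4 LD2_c20 LD3_c7)) = (LP (LK LD1_c2 LD2_c7 LD3_c33)) :=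
  Lre_b IH (LK LD1_c4 LD2_c20 LD3_c7) (LK LD1_c2 LD2_c7 LD3_c33) Lrfl Lrfl
theorem f402897 : Led Lsl_ft (LP (LK LD1_c4 LD2_c20 LD3_c35)) = (LP (LK LD1_c4 LD2_c20 LD3_c7)) :=
  Lgr Lrot75 (Lpe (f239242 IH) (Lpr_ff (f402895 IH) (Lpe (f31776 IH) (Lpn (LP (LK LD1_c4 LD2_c20 LD3_c7))))))
theorem f402914 : Led Lsl_ff (LP (LK LD1_c4 LD2_c20 LD3_c35)) = (LP (LK LD1_c4 LD2_c20 LD3_c7)) :=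
  Lgr Lrot3 (Lpr_ft (f402897 IH) (Lpn (LP (LK LD1_c4 LD2_c20 LD3_c7))))
theorem f31777 : Led Lsl_et (LP (LK LD1_c4 LD2_c20 LD3_c9)) = (LP (LK LD1_c2 LD2_c7 LD3_c33)) :=
  Lre_e IH (LK LD1_c4 LD2_c20 LD3_c9) (LK LD1_c2 LD2_c7 LD3_c33) Lrfl Lrfl
theorem f402899 : Led Lsl_ft (LP (LK LD1_c4 LD2_c56 LD3_c61)) = (LP (LK LD1_c4 LD2_c20 LD3_c9)) :=
  Lgr Lrot86 (Lpe (K13.f242495 IH) (Lpr_ff (K20.f315178 IH) (Lpe (K13.f240607 IH) (Lpr_ff (f402895 IH) (Lpe (f31777 IH) (Lpn (LP (LK LD1_c4 LD2_c20 LD3_c9))))))))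
theorem f172842 : Led Lsl_bt (LP (LK LD1_c9 LD2_c45 LD3_c10)) = (LP (LK LD1_c4 LD2_c56 LD3_c61)) :=
  Lre_b IH (LK LD1_c9 LD2_c45 LD3_c10) (LK LD1_c4 LD2_c56 LD3_c61) Lrfl Lrfl
theorem f315747 : Led Lsl_bt (LP (LK LD1_c4 LD2_c20 LD3_c9)) = (LP (LK LD1_c8 LD2_c38 LD3_c11)) :=
  Lre_b IH (LK LD1_c4 LD2_c20 LD3_c9) (LK LD1_c8 LD2_c38 LD3_c11) Lrfl Lrfl
theorem f402901 : Led Lsl_ff (LP (LK LD1_c9 LD2_c45 LD3_c10)) = (LP (LK LD1_c8 LD2_c38 LD3_c11)) :=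
  Lgr Lrot25 (Lpr_bt (f172842 IH) (Lpr_ft (f402899 IH) (Lpr_bt (f315747 IH) (Lpn (LP (LK LD1_c8 LD2_c38 LD3_c11))))))
theorem f402904 : Led Lsl_ft (LP (LK LD1_c9 LD2_c45 LD3_c10)) = (LP (LK LD1_c8 LD2_c38 LD3_c11)) :=
  Lgr Lrot48 (Lpr_ff (f402901 IH) (Lpn (LP (LK LD1_c8 LD2_c38 LD3_c11))))
theorem f242497 : Led Lsl_bt (LP (LK LD1_c4 LD2_c56 LD3_c61)) = (LP (LK LD1_c9 LD2_c45 LD3_c10)) :=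
  Lre_b IH (LK LD1_c4 LD2_c56 LD3_c61) (LK LD1_c9 LD2_c45 LD3_c10) Lrfl Lrfl
theorem f242506 : Led Lsl_bf (LP (LK LD1_c4 LD2_c0 LD3_c23)) = (LP (LK LD1_c4 LD2_c0 LD3_c23)) :=
  Lgr Lrot96 (Lpe (K13.f242498 IH) (Lpe (K12.f227927 IH) (Lpr_et (K13.f242504 IH) (Lpn (LP (LK LD1_c4 LD2_c0 LD3_c23))))))
theorem f242514 : Led Lsl_ct (LP (LK LD1_c9 LD2_c45 LD3_c10)) = (LP (LK LD1_c9 LD2_c45 LD3_c10)) :=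
  Lgr Lrot83 (Lpe (f242497 IH) (Lpr_cf (f242508 IH) (Lpr_bf (f242506 IH) (Lpe (K13.f241808 IH) (Lpe (f172842 IH) (Lpn (LP (LK LD1_c9 LD2_c45 LD3_c10))))))))
theorem f402906 : Led Lsl_cf (LP (LK LD1_c8 LD2_c38 LD3_c11)) = (LP (LK LD1_c8 LD2_c38 LD3_c11)) :=
  Lgr Lrot108 (Lpe (f402901 IH) (Lpr_ct (f242514 IH) (Lpr_ft (f402904 IH) (Lpn (LP (LK LD1_c8 LD2_c38 LD3_c11))))))
theorem f402908 : Led Lsl_et (LP (LK LD1_c8 LD2_c38 LD3_c11)) = (LP (LK LD1_c4 LD2_c20 LD3_c7)) :=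
  Lre_e IH (LK LD1_c8 LD2_c38 LD3_c11) (LK LD1_c4 LD2_c20 LD3_c7) Lrfl Lrfl
theorem f402903 : Led Lsl_et (LP (LK LD1_c4 LD2_c20 LD3_c7)) = (LP (LK LD1_c8 LD2_c38 LD3_c11)) :=
  Lre_e IH (LK LD1_c4 LD2_c20 LD3_c7) (LK LD1_c8 LD2_c38 LD3_c11) Lrfl Lrfl
theorem f402909 : Led Lsl_ct (LP (LK LD1_c4 LD2_c20 LD3_c7)) = (LP (LK LD1_c4 LD2_c20 LD3_c7)) :=
  Lgr Lrot15 (Lpe (f402908 IH) (Lpr_cf (f402906 IH) (Lpe (f402903 IH) (Lpn (LP (LK LD1_c4 LD2_c20 LD3_c7))))))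
theorem f402917 : Led Lsl_ct (LP (LK LD1_c4 LD2_c20 LD3_c35)) = (LP (LK LD1_c4 LD2_c20 LD3_c35)) :=
  Lgr Lrot40 (Lpr_ff (f402914 IH) (Lpe (f402909 IH) (Lpe (f402897 IH) (Lpn (LP (LK LD1_c4 LD2_c20 LD3_c35))))))
theorem f239256 : Led Lsl_bt (LP (LK LD1_c4 LD2_c20 LD3_c35)) = (LP (LK LD1_c2 LD2_c7 LD3_c47)) :=
  Lre_b IH (LK LD1_c4 LD2_c20 LD3_c35) (LK LD1_c2 LD2_c7 LD3_c47) Lrfl Lrfl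
theorem f204988 : Led Lsl_bt (LP (LK LD1_c1 LD2_c12 LD3_c19)) = (LP (LK LD1_c2 LD2_c30 LD3_c38)) :=
  Lre_b IH (LK LD1_c1 LD2_c12 LD3_c19) (LK LD1_c2 LD2_c30 LD3_c38) Lrfl Lrfl
theorem f421362 : Led Lsl_bt (LP (LK LD1_c8 LD2_c49 LD3_c0)) = (LP (LK LD1_c4 LD2_c25 LD3_c57)) :=
  Lre_b IH (LK LD1_c8 LD2_c49 LD3_c0) (LK LD1_c4 LD2_c25 LD3_c57) Lrfl Lrfl
theorem f421366 : Led Lsl_gt (LP (LK LD1_c2 LD2_c30 LD3_c38)) = (LP (LK LD1_c4 LD2_c25 LD3_c57)) :=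
  Lgr Lrot164 (Lpe (f204988 IH) (Lpr_ct (K13.f165474 IH) (Lpr_gf (K11.f201371 IH) (Lpe (K0.f28651 IH) (Lpe (K13.f28657 IH) (Lpe (f239256 IH) (Lpr_ct (f402917 IH) (Lpe (f402922 IH) (Lpr_cf (f421346 IH) (Lpr_bt (f421362 IH) (Lpn (LP (LK LD1_c4 LD2_c25 LD3_c57)))))))))))))
theorem f185090 : Led Lsl_ct (LP (LK LD1_c2 LD2_c33 LD3_c43)) = (LP (LK LD1_c1 LD2_c13 LD3_c52)) :=
  Lre_c IH (LK LD1_c2 LD2_c33 LD3_c43) (LK LD1_c1 LD2_c13 LD3_c52) Lrfl Lrfl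
theorem f166378 : Led Lsl_ct (LP (LK LD1_c1 LD2_c12 LD3_c21)) = (LP (LK LD1_c2 LD2_c30 LD3_c38)) :=
  Lre_c IH (LK LD1_c1 LD2_c12 LD3_c21) (LK LD1_c2 LD2_c30 LD3_c38) Lrfl Lrfl
theorem f308139 : Led Lsl_ff (LP (LK LD1_c2 LD2_c33 LD3_c43)) = (LP (LK LD1_c2 LD2_c30 LD3_c38)) :=
  Lgr Lrot23 (Lpr_ct (f185090 IH) (Lpr_ft (K19.f308131 IH) (Lpr_ct (f166378 IH) (Lpn (LP (LK LD1_c2 LD2_c30 LD3_c38))))))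
theorem f405148 : Led Lsl_at (LP (LK LD1_c2 LD2_c33 LD3_c43)) = (LP (LK LD1_c5 LD2_c13 LD3_c39)) :=
  Lre_a IH (LK LD1_c2 LD2_c33 LD3_c43) (LK LD1_c5 LD2_c13 LD3_c39) Lrfl Lrfl
theorem f421368 : Led Lsl_gf (LP (LK LD1_c5 LD2_c13 LD3_c39)) = (LP (LK LD1_c4 LD2_c25 LD3_c57)) :=
  Lgr Lrot76 (Lpe (f405148 IH) (Lpr_ff (f308139 IH) (Lpr_gt (f421366 IH) (Lpn (LP (LK LD1_c4 LD2_c25 LD3_c57))))))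
theorem f421379 : Led Lsl_ft (LP (LK LD1_c4 LD2_c25 LD3_c57)) = (LP (LK LD1_c2 LD2_c10 LD3_c15)) :=
  Lre_f IH (LK LD1_c4 LD2_c25 LD3_c57) (LK LD1_c2 LD2_c10 LD3_c15) Lrfl Lrfl
theorem f421380 : Led Lsl_gt (LP (LK LD1_c5 LD2_c13 LD3_c39)) = (LP (LK LD1_c4 LD2_c25 LD3_c42)) :=
  Lgr Lrot46 (Lpr_gf (f421368 IH) (Lpr_ft (f421379 IH) (Lpr_at (f203300 IH) (Lpn (LP (LK LD1_c4 LD2_c25 LD3_c42))))))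
theorem f308085 : Led Lsl_ct (LP (LK LD1_c2 LD2_c33 LD3_c46)) = (LP (LK LD1_c5 LD2_c13 LD3_c39)) :=
  Lre_c IH (LK LD1_c2 LD2_c33 LD3_c46) (LK LD1_c5 LD2_c13 LD3_c39) Lrfl Lrfl
theorem f308083 : Led Lsl_bt (LP (LK LD1_c2 LD2_c33 LD3_c46)) = (LP (LK LD1_c2 LD2_c30 LD3_c47)) :=
  Lgr Lrot127 (Lpr_bf (K19.f308081 IH) (Lpn (LP (LK LD1_c2 LD2_c30 LD3_c47))))
theorem f386857 : Led Lsl_bt (LP (LK LD1_c2 LD2_c55 LD3_c13)) = (LP (LK LD1_c1 LD2_c23 LD3_c46)) :=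
  Lre_b IH (LK LD1_c2 LD2_c55 LD3_c13) (LK LD1_c1 LD2_c23 LD3_c46) Lrfl Lrfl
theorem f427780 : Led Lsl_gf (LP (LK LD1_c2 LD2_c30 LD3_c47)) = (LP (LK LD1_c1 LD2_c23 LD3_c46)) :=
  Lgr Lrot124 (Lpe (f308083 IH) (Lpr_ct (f308085 IH) (Lpr_gt (f421380 IH) (Lpr_cf (f421407 IH) (Lpr_bt (f387096 IH) (Lpr_gt (K28.f386899 IH) (Lpr_ct (K28.f387139 IH) (Lpr_gt (K27.f386788 IH) (Lpr_cf (f426221 IH) (Lpr_bt (f386857 IH) (Lpn (LP (LK LD1_c1 LD2_c23 LD3_c46)))))))))))))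
theorem f427782 : Led Lsl_gt (LP (LK LD1_c2 LD2_c30 LD3_c47)) = (LP (LK LD1_c1 LD2_c23 LD3_c30)) :=
  Lgr Lrot46 (Lpr_gf (f427780 IH) (Lpr_ft (K27.f386735 IH) (Lpr_at (K27.f386736 IH) (Lpn (LP (LK LD1_c1 LD2_c23 LD3_c30))))))
theorem f301859 : Led Lsl_at (LP (LK LD1_c2 LD2_c33 LD3_c59)) = (LP (LK LD1_c1 LD2_c13 LD3_c58)) :=
  Lre_a IH (LK LD1_c2 LD2_c33 LD3_c59) (LK LD1_c1 LD2_c13 LD3_c58) Lrfl Lrfl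
theorem f308055 : Led Lsl_ct (LP (LK LD1_c2 LD2_c30 LD3_c47)) = (LP (LK LD1_c2 LD2_c33 LD3_c59)) :=
  Lgr Lrot111 (Lpe (K19.f308054 IH) (Lpr_cf (K27.f308052 IH) (Lpe (f301859 IH) (Lpn (LP (LK LD1_c2 LD2_c33 LD3_c59))))))
theorem f308068 : Led Lsl_cf (LP (LK LD1_c2 LD2_c30 LD3_c47)) = (LP (LK LD1_c2 LD2_c33 LD3_c59)) :=
  Lgr Lrot11 (Lpr_ct (f308055 IH) (Lpn (LP (LK LD1_c2 LD2_c33 LD3_c59))))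
theorem f161310 : Led Lsl_et (LP (LK LD1_c1 LD2_c23 LD3_c33)) = (LP (LK LD1_c0 LD2_c38 LD3_c38)) :=
  Lre_e IH (LK LD1_c1 LD2_c23 LD3_c33) (LK LD1_c0 LD2_c38 LD3_c38) Lrfl Lrfl
theorem f386745 : Led Lsl_et (LP (LK LD1_c0 LD2_c38 LD3_c37)) = (LP (LK LD1_c1 LD2_c23 LD3_c30)) :=
  Lre_e IH (LK LD1_c0 LD2_c38 LD3_c37) (LK LD1_c1 LD2_c23 LD3_c30) Lrfl Lrfl
theorem f426272 : Led Lsl_cf (LP (LK LD1_c1 LD2_c23 LD3_c33)) = (LP (LK LD1_c1 LD2_c23 LD3_c30)) :=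
  Lgr Lrot39 (Lpr_et (f161310 IH) (Lpr_ct (K28.f426262 IH) (Lpr_et (f386745 IH) (Lpn (LP (LK LD1_c1 LD2_c23 LD3_c30))))))
theorem f387066 : Led Lsl_dt (LP (LK LD1_c2 LD2_c55 LD3_c12)) = (LP (LK LD1_c1 LD2_c23 LD3_c33)) :=
  Lre_d IH (LK LD1_c2 LD2_c55 LD3_c12) (LK LD1_c1 LD2_c23 LD3_c33) Lrfl Lrfl
theorem f386689 : Led Lsl_ct (LP (LK LD1_c5 LD2_c57 LD3_c47)) = (LP (LK LD1_c2 LD2_c55 LD3_c12)) :=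
  Lre_c IH (LK LD1_c5 LD2_c57 LD3_c47) (LK LD1_c2 LD2_c55 LD3_c12) Lrfl Lrfl
theorem f299848 : Led Lsl_dt (LP (LK LD1_c5 LD2_c3 LD3_c6)) = (LP (LK LD1_c9 LD2_c57 LD3_c4)) :=
  Lre_d IH (LK LD1_c5 LD2_c3 LD3_c6) (LK LD1_c9 LD2_c57 LD3_c4) Lrfl Lrfl
theorem f299876 : Led Lsl_dt (LP (LK LD1_c10 LD2_c10 LD3_c39)) = (LP (LK LD1_c5 LD2_c9 LD3_c56)) :=
  Lre_d IH (LK LD1_c10 LD2_c10 LD3_c39) (LK LD1_c5 LD2_c9 LD3_c56) Lrfl Lrfl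
theorem f299877 : Led Lsl_ft (LP (LK LD1_c9 LD2_c57 LD3_c4)) = (LP (LK LD1_c10 LD2_c10 LD3_c39)) :=
  Lgr Lrot54 (Lpe (f299848 IH) (Lpr_ff (K18.f299862 IH) (Lpe (f299876 IH) (Lpn (LP (LK LD1_c10 LD2_c10 LD3_c39))))))
theorem f299897 : Led Lsl_ct (LP (LK LD1_c18 LD2_c12 LD3_c49)) = (LP (LK LD1_c9 LD2_c57 LD3_c4)) :=
  Lre_c IH (LK LD1_c18 LD2_c12 LD3_c49) (LK LD1_c9 LD2_c57 LD3_c4) Lrfl Lrfl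
theorem f299883 : Led Lsl_ct (LP (LK LD1_c10 LD2_c10 LD3_c39)) = (LP (LK LD1_c18 LD2_c32 LD3_c31)) :=
  Lre_c IH (LK LD1_c10 LD2_c10 LD3_c39) (LK LD1_c18 LD2_c32 LD3_c31) Lrfl Lrfl
theorem f299898 : Led Lsl_ff (LP (LK LD1_c18 LD2_c12 LD3_c49)) = (LP (LK LD1_c18 LD2_c32 LD3_c31)) :=
  Lgr Lrot23 (Lpr_ct (f299897 IH) (Lpr_ft (f299877 IH) (Lpr_ct (f299883 IH) (Lpn (LP (LK LD1_c18 LD2_c32 LD3_c31))))))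
theorem f299907 : Led Lsl_ft (LP (LK LD1_c18 LD2_c12 LD3_c49)) = (LP (LK LD1_c18 LD2_c32 LD3_c31)) :=
  Lgr Lrot48 (Lpr_ff (f299898 IH) (Lpn (LP (LK LD1_c18 LD2_c32 LD3_c31))))
theorem f177287 : Led Lsl_at (LP (LK LD1_c9 LD2_c57 LD3_c8)) = (LP (LK LD1_c18 LD2_c12 LD3_c49)) :=
  Lre_a IH (LK LD1_c9 LD2_c57 LD3_c8) (LK LD1_c18 LD2_c12 LD3_c49) Lrfl Lrfl
theorem f180732 : Led Lsl_at (LP (LK LD1_c18 LD2_c32 LD3_c31)) = (LP (LK LD1_c10 LD2_c10 LD3_c42)) :=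
  Lre_a IH (LK LD1_c18 LD2_c32 LD3_c31) (LK LD1_c10 LD2_c10 LD3_c42) Lrfl Lrfl
theorem f299912 : Led Lsl_ff (LP (LK LD1_c9 LD2_c57 LD3_c8)) = (LP (LK LD1_c10 LD2_c10 LD3_c42)) :=
  Lgr Lrot30 (Lpr_at (f177287 IH) (Lpr_ft (f299907 IH) (Lpr_at (f180732 IH) (Lpn (LP (LK LD1_c10 LD2_c10 LD3_c42))))))
theorem f177213 : Led Lsl_et (LP (LK LD1_c5 LD2_c3 LD3_c9)) = (LP (LK LD1_c2 LD2_c29 LD3_c6)) :=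
  Lre_e IH (LK LD1_c5 LD2_c3 LD3_c9) (LK LD1_c2 LD2_c29 LD3_c6) Lrfl Lrfl
theorem f177214 : Led Lsl_cf (LP (LK LD1_c5 LD2_c3 LD3_c9)) = (LP (LK LD1_c2 LD2_c31 LD3_c18)) :=
  Lgr Lrot39 (Lpr_et (f177213 IH) (Lpr_ct (K10.f177206 IH) (Lpr_et (K17.f53215 IH) (Lpn (LP (LK LD1_c2 LD2_c31 LD3_c18))))))
theorem f177250 : Led Lsl_ct (LP (LK LD1_c5 LD2_c3 LD3_c9)) = (LP (LK LD1_c2 LD2_c31 LD3_c18)) :=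
  Lgr Lrot59 (Lpr_cf (f177214 IH) (Lpn (LP (LK LD1_c2 LD2_c31 LD3_c18))))
theorem f177266 : Led Lsl_bt (LP (LK LD1_c9 LD2_c57 LD3_c9)) = (LP (LK LD1_c5 LD2_c3 LD3_c9)) :=
  Lre_b IH (LK LD1_c9 LD2_c57 LD3_c9) (LK LD1_c5 LD2_c3 LD3_c9) Lrfl Lrfl
theorem f177267 : Led Lsl_ct (LP (LK LD1_c18 LD2_c12 LD3_c54)) = (LP (LK LD1_c9 LD2_c57 LD3_c9)) :=
  Lre_c IH (LK LD1_c18 LD2_c12 LD3_c54) (LK LD1_c9 LD2_c57 LD3_c9) Lrfl Lrfl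
theorem f165120 : Led Lsl_bt (LP (LK LD1_c2 LD2_c31 LD3_c18)) = (LP (LK LD1_c5 LD2_c8 LD3_c7)) :=
  Lre_b IH (LK LD1_c2 LD2_c31 LD3_c18) (LK LD1_c5 LD2_c8 LD3_c7) Lrfl Lrfl
theorem f165137 : Led Lsl_ct (LP (LK LD1_c5 LD2_c8 LD3_c7)) = (LP (LK LD1_c10 LD2_c6 LD3_c45)) :=
  Lre_c IH (LK LD1_c5 LD2_c8 LD3_c7) (LK LD1_c10 LD2_c6 LD3_c45) Lrfl Lrfl
theorem f177268 : Led Lsl_bf (LP (LK LD1_c18 LD2_c12 LD3_c54)) = (LP (LK LD1_c10 LD2_c6 LD3_c45)) :=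
  Lgr Lrot90 (Lpr_ct (f177267 IH) (Lpr_bt (f177266 IH) (Lpr_ct (f177250 IH) (Lpr_bt (f165120 IH) (Lpr_ct (f165137 IH) (Lpn (LP (LK LD1_c10 LD2_c6 LD3_c45))))))))
theorem f177273 : Led Lsl_et (LP (LK LD1_c18 LD2_c12 LD3_c54)) = (LP (LK LD1_c9 LD2_c57 LD3_c8)) :=
  Lre_e IH (LK LD1_c18 LD2_c12 LD3_c54) (LK LD1_c9 LD2_c57 LD3_c8) Lrfl Lrfl
theorem f177274 : Led Lsl_et (LP (LK LD1_c5 LD2_c8 LD3_c6)) = (LP (LK LD1_c10 LD2_c6 LD3_c45)) :=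
  Lre_e IH (LK LD1_c5 LD2_c8 LD3_c6) (LK LD1_c10 LD2_c6 LD3_c45) Lrfl Lrfl
theorem f177275 : Led Lsl_bt (LP (LK LD1_c9 LD2_c57 LD3_c8)) = (LP (LK LD1_c5 LD2_c8 LD3_c6)) :=
  Lgr Lrot119 (Lpe (f177273 IH) (Lpr_bf (f177268 IH) (Lpe (f177274 IH) (Lpn (LP (LK LD1_c5 LD2_c8 LD3_c6))))))
theorem f180683 : Led Lsl_bt (LP (LK LD1_c1 LD2_c14 LD3_c2)) = (LP (LK LD1_c2 LD2_c34 LD3_c8)) :=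
  Lre_b IH (LK LD1_c1 LD2_c14 LD3_c2) (LK LD1_c2 LD2_c34 LD3_c8) Lrfl Lrfl
theorem f180587 : Led Lsl_bt (LP (LK LD1_c5 LD2_c9 LD3_c57)) = (LP (LK LD1_c2 LD2_c32 LD3_c1)) :=
  Lre_b IH (LK LD1_c5 LD2_c9 LD3_c57) (LK LD1_c2 LD2_c32 LD3_c1) Lrfl Lrfl
theorem f180588 : Led Lsl_ct (LP (LK LD1_c10 LD2_c10 LD3_c42)) = (LP (LK LD1_c5 LD2_c9 LD3_c57)) :=
  Lre_c IH (LK LD1_c10 LD2_c10 LD3_c42) (LK LD1_c5 LD2_c9 LD3_c57) Lrfl Lrfl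
theorem f180691 : Led Lsl_bt (LP (LK LD1_c5 LD2_c14 LD3_c38)) = (LP (LK LD1_c10 LD2_c10 LD3_c42)) :=
  Lgr Lrot128 (Lpe (K28.f163943 IH) (Lpe (f180683 IH) (Lpr_cf (K10.f180633 IH) (Lpe (f180587 IH) (Lpe (f180588 IH) (Lpn (LP (LK LD1_c10 LD2_c10 LD3_c42))))))))
theorem f299914 : Led Lsl_ft (LP (LK LD1_c5 LD2_c8 LD3_c6)) = (LP (LK LD1_c5 LD2_c14 LD3_c38)) :=
  Lgr Lrot75 (Lpe (f177275 IH) (Lpr_ff (f299912 IH) (Lpe (f180691 IH) (Lpn (LP (LK LD1_c5 LD2_c14 LD3_c38))))))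
theorem f299945 : Led Lsl_ff (LP (LK LD1_c5 LD2_c8 LD3_c6)) = (LP (LK LD1_c5 LD2_c14 LD3_c38)) :=
  Lgr Lrot3 (Lpr_ft (f299914 IH) (Lpn (LP (LK LD1_c5 LD2_c14 LD3_c38))))
theorem f386894 : Led Lsl_af (LP (LK LD1_c9 LD2_c48 LD3_c3)) = (LP (LK LD1_c5 LD2_c8 LD3_c6)) :=
  Lgr Lrot45 (Lpr_ft (K28.f386891 IH) (Lpr_at (K28.f180676 IH) (Lpe (f299945 IH) (Lpn (LP (LK LD1_c5 LD2_c8 LD3_c6))))))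
theorem f386902 : Led Lsl_at (LP (LK LD1_c9 LD2_c48 LD3_c3)) = (LP (LK LD1_c5 LD2_c8 LD3_c6)) :=
  Lgr Lrot100 (Lpr_af (f386894 IH) (Lpn (LP (LK LD1_c5 LD2_c8 LD3_c6))))
theorem f386880 : Led Lsl_ct (LP (LK LD1_c9 LD2_c48 LD3_c3)) = (LP (LK LD1_c4 LD2_c58 LD3_c48)) :=
  Lre_c IH (LK LD1_c9 LD2_c48 LD3_c3) (LK LD1_c4 LD2_c58 LD3_c48) Lrfl Lrfl
theorem f180686 : Led Lsl_ct (LP (LK LD1_c5 LD2_c14 LD3_c37)) = (LP (LK LD1_c10 LD2_c18 LD3_c45)) :=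
  Lre_c IH (LK LD1_c5 LD2_c14 LD3_c37) (LK LD1_c10 LD2_c18 LD3_c45) Lrfl Lrfl
theorem f386883 : Led Lsl_ff (LP (LK LD1_c9 LD2_c48 LD3_c3)) = (LP (LK LD1_c10 LD2_c18 LD3_c45)) :=
  Lgr Lrot23 (Lpr_ct (f386880 IH) (Lpr_ft (K28.f386878 IH) (Lpr_ct (f180686 IH) (Lpn (LP (LK LD1_c10 LD2_c18 LD3_c45))))))
theorem f386677 : Led Lsl_bt (LP (LK LD1_c2 LD2_c55 LD3_c12)) = (LP (LK LD1_c1 LD2_c23 LD3_c45)) :=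
  Lre_b IH (LK LD1_c2 LD2_c55 LD3_c12) (LK LD1_c1 LD2_c23 LD3_c45) Lrfl Lrfl
theorem f386678 : Led Lsl_ct (LP (LK LD1_c2 LD2_c55 LD3_c12)) = (LP (LK LD1_c5 LD2_c57 LD3_c47)) :=
  Lre_c IH (LK LD1_c2 LD2_c55 LD3_c12) (LK LD1_c5 LD2_c57 LD3_c47) Lrfl Lrfl
theorem f53207 : Led Lsl_bt (LP (LK LD1_c2 LD2_c31 LD3_c17)) = (LP (LK LD1_c1 LD2_c12 LD3_c38)) :=
  Lre_b IH (LK LD1_c2 LD2_c31 LD3_c17) (LK LD1_c1 LD2_c12 LD3_c38) Lrfl Lrfl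
theorem f53235 : Led Lsl_ct (LP (LK LD1_c2 LD2_c31 LD3_c17)) = (LP (LK LD1_c5 LD2_c8 LD3_c6)) :=
  Lre_c IH (LK LD1_c2 LD2_c31 LD3_c17) (LK LD1_c5 LD2_c8 LD3_c6) Lrfl Lrfl
theorem f386679 : Led Lsl_gt (LP (LK LD1_c5 LD2_c57 LD3_c47)) = (LP (LK LD1_c5 LD2_c8 LD3_c6)) :=
  Lgr Lrot65 (Lpe (f386678 IH) (Lpr_bt (f386677 IH) (Lpr_gf (K27.f386663 IH) (Lpe (K27.f169684 IH) (Lpr_ct (K9.f169580 IH) (Lpe (K9.f21423 IH) (Lpr_cf (K8.f163642 IH) (Lpe (K9.f164091 IH) (Lpe (f53207 IH) (Lpr_ct (f53235 IH) (Lpn (LP (LK LD1_c5 LD2_c8 LD3_c6)))))))))))))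
theorem f387064 : Led Lsl_gt (LP (LK LD1_c10 LD2_c18 LD3_c45)) = (LP (LK LD1_c5 LD2_c57 LD3_c47)) :=
  Lgr Lrot5 (Lpe (f386883 IH) (Lpr_at (f386902 IH) (Lpe (f386679 IH) (Lpn (LP (LK LD1_c5 LD2_c57 LD3_c47))))))
theorem f426257 : Led Lsl_dt (LP (LK LD1_c1 LD2_c23 LD3_c29)) = (LP (LK LD1_c0 LD2_c38 LD3_c37)) :=
  Lre_d IH (LK LD1_c1 LD2_c23 LD3_c29) (LK LD1_c0 LD2_c38 LD3_c37) Lrfl Lrfl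
theorem f426260 : Led Lsl_gf (LP (LK LD1_c0 LD2_c39 LD3_c47)) = (LP (LK LD1_c1 LD2_c23 LD3_c29)) :=
  Lgr Lrot147 (Lpr_ct (K2.f23018 IH) (Lpr_gt (K6.f75079 IH) (Lpe (K6.f139146 IH) (Lpe (K6.f139132 IH) (Lpe (K6.f138900 IH) (Lpe (K8.f139060 IH) (Lpe (K3.f26450 IH) (Lpr_gf (K28.f426248 IH) (Lpe (f426257 IH) (Lpn (LP (LK LD1_c1 LD2_c23 LD3_c29))))))))))))
theorem f55980 : Led Lsl_gt (LP (LK LD1_c0 LD2_c39 LD3_c40)) = (LP (LK LD1_c1 LD2_c25 LD3_c50)) :=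
  Lre_g IH (LK LD1_c0 LD2_c39 LD3_c40) (LK LD1_c1 LD2_c25 LD3_c50) Lrfl Lrfl
theorem f427504 : Led Lsl_et (LP (LK LD1_c3 LD2_c0 LD3_c8)) = (LP (LK LD1_c1 LD2_c25 LD3_c50)) :=
  Lre_e IH (LK LD1_c3 LD2_c0 LD3_c8) (LK LD1_c1 LD2_c25 LD3_c50) Lrfl Lrfl
theorem f426250 : Led Lsl_at (LP (LK LD1_c0 LD2_c38 LD3_c36)) = (LP (LK LD1_c0 LD2_c17 LD3_c15)) :=
  Lre_a IH (LK LD1_c0 LD2_c38 LD3_c36) (LK LD1_c0 LD2_c17 LD3_c15) Lrfl Lrfl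
theorem f426251 : Led Lsl_ft (LP (LK LD1_c0 LD2_c17 LD3_c13)) = (LP (LK LD1_c0 LD2_c38 LD3_c36)) :=
  Lre_f IH (LK LD1_c0 LD2_c17 LD3_c13) (LK LD1_c0 LD2_c38 LD3_c36) Lrfl Lrfl
theorem f426252 : Led Lsl_gt (LP (LK LD1_c0 LD2_c17 LD3_c13)) = (LP (LK LD1_c0 LD2_c38 LD3_c37)) :=
  Lgr Lrot5 (Lpr_ft (f426251 IH) (Lpr_at (f426250 IH) (Lpr_gf (K28.f426248 IH) (Lpn (LP (LK LD1_c0 LD2_c38 LD3_c37))))))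
theorem f383976 : Led Lsl_et (LP (LK LD1_c0 LD2_c37 LD3_c5)) = (LP (LK LD1_c0 LD2_c17 LD3_c13)) :=
  Lre_e IH (LK LD1_c0 LD2_c37 LD3_c5) (LK LD1_c0 LD2_c17 LD3_c13) Lrfl Lrfl
theorem f381718 : Led Lsl_dt (LP (LK LD1_c0 LD2_c37 LD3_c5)) = (LP (LK LD1_c1 LD2_c20 LD3_c16)) :=
  Lre_d IH (LK LD1_c0 LD2_c37 LD3_c5) (LK LD1_c1 LD2_c20 LD3_c16) Lrfl Lrfl
theorem f427505 : Led Lsl_dt (LP (LK LD1_c3 LD2_c0 LD3_c8)) = (LP (LK LD1_c2 LD2_c48 LD3_c0)) :=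
  Lgr Lrot136 (Lpr_et (f427504 IH) (Lpe (f55980 IH) (Lpe (K1.f55975 IH) (Lpr_dt (K2.f72876 IH) (Lpr_gf (f426260 IH) (Lpe (K28.f426264 IH) (Lpe (f426252 IH) (Lpe (f383976 IH) (Lpr_dt (f381718 IH) (Lpe (K27.f40157 IH) (Lpn (LP (LK LD1_c2 LD2_c48 LD3_c0)))))))))))))
theorem f381167 : Led Lsl_gt (LP (LK LD1_c5 LD2_c43 LD3_c29)) = (LP (LK LD1_c2 LD2_c47 LD3_c46)) :=
  Lre_g IH (LK LD1_c5 LD2_c43 LD3_c29) (LK LD1_c2 LD2_c47 LD3_c46) Lrfl Lrfl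
theorem f381168 : Led Lsl_dt (LP (LK LD1_c5 LD2_c43 LD3_c29)) = (LP (LK LD1_c11 LD2_c17 LD3_c3)) :=
  Lre_d IH (LK LD1_c5 LD2_c43 LD3_c29) (LK LD1_c11 LD2_c17 LD3_c3) Lrfl Lrfl
theorem f184304 : Led Lsl_ct (LP (LK LD1_c8 LD2_c25 LD3_c27)) = (LP (LK LD1_c8 LD2_c32 LD3_c51)) :=
  Lgr Lrot83 (Lpe (K27.f184302 IH) (Lpr_cf (K15.f184300 IH) (Lpe (K14.f184246 IH) (Lpe (K15.f184255 IH) (Lpe (K27.f184303 IH) (Lpn (LP (LK LD1_c8 LD2_c32 LD3_c51))))))))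
theorem f381169 : Led Lsl_gt (LP (LK LD1_c11 LD2_c17 LD3_c3)) = (LP (LK LD1_c8 LD2_c25 LD3_c27)) :=
  Lgr Lrot9 (Lpe (f381168 IH) (Lpr_gt (f381167 IH) (Lpr_ct (K27.f381115 IH) (Lpr_gt (K27.f76149 IH) (Lpr_ct (K27.f381144 IH) (Lpe (K27.f381155 IH) (Lpr_cf (K27.f381156 IH) (Lpe (K20.f258320 IH) (Lpe (f184304 IH) (Lpn (LP (LK LD1_c8 LD2_c25 LD3_c27))))))))))))
theorem f381172 : Led Lsl_gt (LP (LK LD1_c2 LD2_c47 LD3_c56)) = (LP (LK LD1_c5 LD2_c43 LD3_c29)) :=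
  Lre_g IH (LK LD1_c2 LD2_c47 LD3_c56) (LK LD1_c5 LD2_c43 LD3_c29) Lrfl Lrfl
theorem f427515 : Led Lsl_gf (LP (LK LD1_c3 LD2_c0 LD3_c8)) = (LP (LK LD1_c2 LD2_c12 LD3_c28)) :=
  Lgr Lrot143 (Lpr_dt (f427505 IH) (Lpe (K27.f255977 IH) (Lpr_df (K27.f310096 IH) (Lpe (f381169 IH) (Lpe (f381168 IH) (Lpe (f381172 IH) (Lpe (K27.f381174 IH) (Lpr_gt (K28.f381120 IH) (Lpe (K27.f178950 IH) (Lpn (LP (LK LD1_c2 LD2_c12 LD3_c28))))))))))))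
theorem f165144 : Led Lsl_gt (LP (LK LD1_c1 LD2_c18 LD3_c41)) = (LP (LK LD1_c2 LD2_c44 LD3_c40)) :=
  Lre_g IH (LK LD1_c1 LD2_c18 LD3_c41) (LK LD1_c2 LD2_c44 LD3_c40) Lrfl Lrfl
theorem f427517 : Led Lsl_dt (LP (LK LD1_c2 LD2_c44 LD3_c40)) = (LP (LK LD1_c4 LD2_c57 LD3_c27)) :=
  Lgr Lrot115 (Lpe (f165144 IH) (Lpe (K18.f289399 IH) (Lpe (f427515 IH) (Lpr_dt (f427505 IH) (Lpr_gt (K27.f40157 IH) (Lpr_dt (K27.f40156 IH) (Lpr_ct (K1.f40115 IH) (Lpe (K9.f40147 IH) (Lpe (K9.f174655 IH) (Lpn (LP (LK LD1_c4 LD2_c57 LD3_c27))))))))))))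
theorem f53208 : Led Lsl_df (LP (LK LD1_c2 LD2_c31 LD3_c17)) = (LP (LK LD1_c2 LD2_c24 LD3_c49)) :=
  Lgr Lrot12 (Lpr_bt (f53207 IH) (Lpr_dt (K9.f53202 IH) (Lpr_bt (K18.f28345 IH) (Lpn (LP (LK LD1_c2 LD2_c24 LD3_c49))))))
theorem f161281 : Led Lsl_dt (LP (LK LD1_c1 LD2_c10 LD3_c35)) = (LP (LK LD1_c2 LD2_c26 LD3_c37)) :=
  Lre_d IH (LK LD1_c1 LD2_c10 LD3_c35) (LK LD1_c2 LD2_c26 LD3_c37) Lrfl Lrfl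
theorem f40706 : Led Lsl_et (LP (LK LD1_c1 LD2_c10 LD3_c35)) = (LP (LK LD1_c0 LD2_c32 LD3_c53)) :=
  Lre_e IH (LK LD1_c1 LD2_c10 LD3_c35) (LK LD1_c0 LD2_c32 LD3_c53) Lrfl Lrfl
theorem f139360 : Led Lsl_et (LP (LK LD1_c2 LD2_c27 LD3_c0)) = (LP (LK LD1_c1 LD2_c10 LD3_c47)) :=
  Lre_e IH (LK LD1_c2 LD2_c27 LD3_c0) (LK LD1_c1 LD2_c10 LD3_c47) Lrfl Lrfl
theorem f139361 : Led Lsl_dt (LP (LK LD1_c2 LD2_c27 LD3_c0)) = (LP (LK LD1_c4 LD2_c58 LD3_c20)) :=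
  Lre_d IH (LK LD1_c2 LD2_c27 LD3_c0) (LK LD1_c4 LD2_c58 LD3_c20) Lrfl Lrfl
theorem f427524 : Led Lsl_gf (LP (LK LD1_c2 LD2_c31 LD3_c17)) = (LP (LK LD1_c4 LD2_c58 LD3_c20)) :=
  Lgr Lrot145 (Lpr_df (f53208 IH) (Lpe (K18.f165075 IH) (Lpr_gt (f165144 IH) (Lpr_dt (f427517 IH) (Lpr_gt (K9.f174655 IH) (Lpe (f161281 IH) (Lpr_et (f40706 IH) (Lpr_gt (K8.f139355 IH) (Lpe (f139360 IH) (Lpr_dt (f139361 IH) (Lpn (LP (LK LD1_c4 LD2_c58 LD3_c20)))))))))))))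
theorem f387143 : Led Lsl_ft (LP (LK LD1_c2 LD2_c27 LD3_c13)) = (LP (LK LD1_c2 LD2_c33 LD3_c59)) :=
  Lgr Lrot101 (Lpr_af (K28.f387089 IH) (Lpe (K28.f301867 IH) (Lpe (f301859 IH) (Lpn (LP (LK LD1_c2 LD2_c33 LD3_c59))))))
theorem f387153 : Led Lsl_gt (LP (LK LD1_c2 LD2_c27 LD3_c13)) = (LP (LK LD1_c2 LD2_c33 LD3_c58)) :=
  Lgr Lrot5 (Lpr_ft (f387143 IH) (Lpr_at (f301859 IH) (Lpe (f186693 IH) (Lpn (LP (LK LD1_c2 LD2_c33 LD3_c58))))))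
theorem f169711 : Led Lsl_df (LP (LK LD1_c5 LD2_c6 LD3_c33)) = (LP (LK LD1_c2 LD2_c30 LD3_c46)) :=
  Lgr Lrot38 (Lpr_dt (K27.f169709 IH) (Lpn (LP (LK LD1_c2 LD2_c30 LD3_c46))))
theorem f180673 : Led Lsl_df (LP (LK LD1_c2 LD2_c24 LD3_c48)) = (LP (LK LD1_c2 LD2_c34 LD3_c8)) :=
  Lgr Lrot38 (Lpr_dt (K28.f180659 IH) (Lpn (LP (LK LD1_c2 LD2_c34 LD3_c8))))
theorem f308063 : Led Lsl_dt (LP (LK LD1_c2 LD2_c33 LD3_c58)) = (LP (LK LD1_c5 LD2_c14 LD3_c11)) :=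
  Lre_d IH (LK LD1_c2 LD2_c33 LD3_c58) (LK LD1_c5 LD2_c14 LD3_c11) Lrfl Lrfl
theorem f387158 : Led Lsl_gf (LP (LK LD1_c2 LD2_c34 LD3_c8)) = (LP (LK LD1_c5 LD2_c14 LD3_c11)) :=
  Lgr Lrot143 (Lpe (f180673 IH) (Lpe (K27.f205134 IH) (Lpe (K11.f22190 IH) (Lpe (K27.f22201 IH) (Lpr_df (f169711 IH) (Lpe (K27.f386788 IH) (Lpe (K28.f387139 IH) (Lpr_gt (f387153 IH) (Lpr_dt (f308063 IH) (Lpn (LP (LK LD1_c5 LD2_c14 LD3_c11))))))))))))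
theorem f180679 : Led Lsl_at (LP (LK LD1_c5 LD2_c14 LD3_c37)) = (LP (LK LD1_c2 LD2_c34 LD3_c8)) :=
  Lre_a IH (LK LD1_c5 LD2_c14 LD3_c37) (LK LD1_c2 LD2_c34 LD3_c8) Lrfl Lrfl
theorem f288095 : Led Lsl_ft (LP (LK LD1_c2 LD2_c34 LD3_c8)) = (LP (LK LD1_c2 LD2_c31 LD3_c17)) :=
  Lgr Lrot75 (Lpe (f180683 IH) (Lpr_ff (K17.f288093 IH) (Lpe (f53207 IH) (Lpn (LP (LK LD1_c2 LD2_c31 LD3_c17))))))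
theorem f386881 : Led Lsl_af (LP (LK LD1_c4 LD2_c58 LD3_c48)) = (LP (LK LD1_c2 LD2_c31 LD3_c17)) :=
  Lgr Lrot45 (Lpr_ft (K28.f386878 IH) (Lpr_at (f180679 IH) (Lpr_ft (f288095 IH) (Lpn (LP (LK LD1_c2 LD2_c31 LD3_c17))))))
theorem f387067 : Led Lsl_gf (LP (LK LD1_c2 LD2_c27 LD3_c14)) = (LP (LK LD1_c2 LD2_c34 LD3_c8)) :=
  Lgr Lrot47 (Lpr_gt (K28.f384181 IH) (Lpr_af (f386881 IH) (Lpe (f288095 IH) (Lpn (LP (LK LD1_c2 LD2_c34 LD3_c8))))))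
theorem f387069 : Led Lsl_at (LP (LK LD1_c4 LD2_c58 LD3_c20)) = (LP (LK LD1_c2 LD2_c27 LD3_c14)) :=
  Lre_a IH (LK LD1_c4 LD2_c58 LD3_c20) (LK LD1_c2 LD2_c27 LD3_c14) Lrfl Lrfl
theorem f387164 : Led Lsl_ff (LP (LK LD1_c4 LD2_c58 LD3_c20)) = (LP (LK LD1_c5 LD2_c14 LD3_c11)) :=
  Lgr Lrot52 (Lpr_at (f387069 IH) (Lpr_gf (f387067 IH) (Lpr_gf (f387158 IH) (Lpn (LP (LK LD1_c5 LD2_c14 LD3_c11))))))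
theorem f387180 : Led Lsl_ft (LP (LK LD1_c4 LD2_c58 LD3_c20)) = (LP (LK LD1_c5 LD2_c14 LD3_c11)) :=
  Lgr Lrot48 (Lpr_ff (f387164 IH) (Lpn (LP (LK LD1_c5 LD2_c14 LD3_c11))))
theorem f387182 : Led Lsl_at (LP (LK LD1_c2 LD2_c27 LD3_c14)) = (LP (LK LD1_c4 LD2_c58 LD3_c20)) :=
  Lre_a IH (LK LD1_c2 LD2_c27 LD3_c14) (LK LD1_c4 LD2_c58 LD3_c20) Lrfl Lrfl
theorem f387183 : Led Lsl_ft (LP (LK LD1_c4 LD2_c58 LD3_c50)) = (LP (LK LD1_c2 LD2_c27 LD3_c14)) :=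
  Lre_f IH (LK LD1_c4 LD2_c58 LD3_c50) (LK LD1_c2 LD2_c27 LD3_c14) Lrfl Lrfl
theorem f387184 : Led Lsl_af (LP (LK LD1_c4 LD2_c58 LD3_c50)) = (LP (LK LD1_c5 LD2_c14 LD3_c11)) :=
  Lgr Lrot45 (Lpr_ft (f387183 IH) (Lpr_at (f387182 IH) (Lpr_ft (f387180 IH) (Lpn (LP (LK LD1_c5 LD2_c14 LD3_c11))))))
theorem f427591 : Led Lsl_gt (LP (LK LD1_c2 LD2_c31 LD3_c17)) = (LP (LK LD1_c4 LD2_c58 LD3_c50)) :=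
  Lgr Lrot46 (Lpr_gf (f427524 IH) (Lpr_ft (f387180 IH) (Lpe (f387184 IH) (Lpn (LP (LK LD1_c4 LD2_c58 LD3_c50))))))
theorem f53221 : Led Lsl_bt (LP (LK LD1_c1 LD2_c12 LD3_c38)) = (LP (LK LD1_c2 LD2_c31 LD3_c17)) :=
  Lre_b IH (LK LD1_c1 LD2_c12 LD3_c38) (LK LD1_c2 LD2_c31 LD3_c17) Lrfl Lrfl
theorem f288085 : Led Lsl_ff (LP (LK LD1_c2 LD2_c34 LD3_c8)) = (LP (LK LD1_c2 LD2_c31 LD3_c17)) :=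
  Lgr Lrot25 (Lpr_bt (K28.f163942 IH) (Lpr_ft (K17.f288083 IH) (Lpr_bt (f53221 IH) (Lpn (LP (LK LD1_c2 LD2_c31 LD3_c17))))))
theorem f427595 : Led Lsl_gf (LP (LK LD1_c5 LD2_c14 LD3_c37)) = (LP (LK LD1_c4 LD2_c58 LD3_c50)) :=
  Lgr Lrot76 (Lpe (K28.f180670 IH) (Lpr_ff (f288085 IH) (Lpr_gt (f427591 IH) (Lpn (LP (LK LD1_c4 LD2_c58 LD3_c50))))))
theorem f161210 : Led Lsl_dt (LP (LK LD1_c2 LD2_c27 LD3_c15)) = (LP (LK LD1_c4 LD2_c58 LD3_c50)) :=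
  Lre_d IH (LK LD1_c2 LD2_c27 LD3_c15) (LK LD1_c4 LD2_c58 LD3_c50) Lrfl Lrfl
theorem f427801 : Led Lsl_gf (LP (LK LD1_c2 LD2_c33 LD3_c59)) = (LP (LK LD1_c2 LD2_c27 LD3_c15)) :=
  Lgr Lrot147 (Lpe (f308068 IH) (Lpr_gt (f427782 IH) (Lpe (f426272 IH) (Lpe (f387066 IH) (Lpe (f386689 IH) (Lpe (f387064 IH) (Lpe (f180686 IH) (Lpr_gf (f427595 IH) (Lpe (f161210 IH) (Lpn (LP (LK LD1_c2 LD2_c27 LD3_c15))))))))))))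
theorem f308051 : Led Lsl_at (LP (LK LD1_c1 LD2_c13 LD3_c58)) = (LP (LK LD1_c2 LD2_c33 LD3_c59)) :=
  Lre_a IH (LK LD1_c1 LD2_c13 LD3_c58) (LK LD1_c2 LD2_c33 LD3_c59) Lrfl Lrfl
theorem f427803 : Led Lsl_gt (LP (LK LD1_c1 LD2_c12 LD3_c27)) = (LP (LK LD1_c2 LD2_c27 LD3_c15)) :=
  Lgr Lrot5 (Lpr_ft (K27.f308049 IH) (Lpr_at (f308051 IH) (Lpr_gf (f427801 IH) (Lpn (LP (LK LD1_c2 LD2_c27 LD3_c15))))))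
theorem f161212 : Led Lsl_dt (LP (LK LD1_c4 LD2_c58 LD3_c20)) = (LP (LK LD1_c2 LD2_c27 LD3_c0)) :=
  Lre_d IH (LK LD1_c4 LD2_c58 LD3_c20) (LK LD1_c2 LD2_c27 LD3_c0) Lrfl Lrfl
theorem f387176 : Led Lsl_ft (LP (LK LD1_c2 LD2_c27 LD3_c0)) = (LP (LK LD1_c2 LD2_c33 LD3_c58)) :=
  Lgr Lrot54 (Lpe (f161212 IH) (Lpr_ff (f387164 IH) (Lpe (f308063 IH) (Lpn (LP (LK LD1_c2 LD2_c33 LD3_c58))))))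
theorem f161208 : Led Lsl_at (LP (LK LD1_c1 LD2_c10 LD3_c51)) = (LP (LK LD1_c2 LD2_c27 LD3_c0)) :=
  Lre_a IH (LK LD1_c1 LD2_c10 LD3_c51) (LK LD1_c2 LD2_c27 LD3_c0) Lrfl Lrfl
theorem f161209 : Led Lsl_ft (LP (LK LD1_c2 LD2_c27 LD3_c15)) = (LP (LK LD1_c1 LD2_c10 LD3_c51)) :=
  Lre_f IH (LK LD1_c2 LD2_c27 LD3_c15) (LK LD1_c1 LD2_c10 LD3_c51) Lrfl Lrfl
theorem f387196 : Led Lsl_af (LP (LK LD1_c2 LD2_c27 LD3_c15)) = (LP (LK LD1_c2 LD2_c33 LD3_c58)) :=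
  Lgr Lrot45 (Lpr_ft (f161209 IH) (Lpr_at (f161208 IH) (Lpr_ft (f387176 IH) (Lpn (LP (LK LD1_c2 LD2_c33 LD3_c58))))))
theorem f427805 : Led Lsl_gf (LP (LK LD1_c1 LD2_c12 LD3_c27)) = (LP (LK LD1_c2 LD2_c27 LD3_c0)) :=
  Lgr Lrot47 (Lpr_gt (f427803 IH) (Lpr_af (f387196 IH) (Lpe (f387176 IH) (Lpn (LP (LK LD1_c2 LD2_c27 LD3_c0))))))
theorem f68554 : Led Lsl_bt (LP (LK LD1_c4 LD2_c34 LD3_c10)) = (LP (LK LD1_c2 LD2_c13 LD3_c60)) :=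
  Lre_b IH (LK LD1_c4 LD2_c34 LD3_c10) (LK LD1_c2 LD2_c13 LD3_c60) Lrfl Lrfl
theorem f68555 : Led Lsl_bt (LP (LK LD1_c1 LD2_c12 LD3_c29)) = (LP (LK LD1_c2 LD2_c30 LD3_c53)) :=
  Lre_b IH (LK LD1_c1 LD2_c12 LD3_c29) (LK LD1_c2 LD2_c30 LD3_c53) Lrfl Lrfl
theorem f68556 : Led Lsl_df (LP (LK LD1_c4 LD2_c34 LD3_c10)) = (LP (LK LD1_c2 LD2_c30 LD3_c53)) :=
  Lgr Lrot12 (Lpr_bt (f68554 IH) (Lpr_dt (K18.f68546 IH) (Lpr_bt (f68555 IH) (Lpn (LP (LK LD1_c2 LD2_c30 LD3_c53))))))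
theorem f56024 : Led Lsl_et (LP (LK LD1_c2 LD2_c58 LD3_c17)) = (LP (LK LD1_c1 LD2_c24 LD3_c48)) :=
  Lre_e IH (LK LD1_c2 LD2_c58 LD3_c17) (LK LD1_c1 LD2_c24 LD3_c48) Lrfl Lrfl
theorem f428070 : Led Lsl_gt (LP (LK LD1_c4 LD2_c34 LD3_c10)) = (LP (LK LD1_c6 LD2_c4 LD3_c15)) :=
  Lgr Lrot112 (Lpr_df (f68556 IH) (Lpr_et (K27.f68563 IH) (Lpr_gf (f427805 IH) (Lpe (f139346 IH) (Lpr_dt (K6.f139157 IH) (Lpe (K6.f139337 IH) (Lpe (K4.f72844 IH) (Lpe (K4.f72839 IH) (Lpe (f56024 IH) (Lpr_dt (K8.f56025 IH) (Lpn (LP (LK LD1_c6 LD2_c4 LD3_c15)))))))))))))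
theorem f75474 : Led Lsl_bt (LP (LK LD1_c11 LD2_c51 LD3_c59)) = (LP (LK LD1_c6 LD2_c4 LD3_c15)) :=
  Lre_b IH (LK LD1_c11 LD2_c51 LD3_c59) (LK LD1_c6 LD2_c4 LD3_c15) Lrfl Lrfl
theorem f210268 : Led Lsl_ft (LP (LK LD1_c4 LD2_c41 LD3_c37)) = (LP (LK LD1_c2 LD2_c17 LD3_c53)) :=
  Lre_f IH (LK LD1_c4 LD2_c41 LD3_c37) (LK LD1_c2 LD2_c17 LD3_c53) Lrfl Lrfl
theorem f210277 : Led Lsl_af (LP (LK LD1_c1 LD2_c28 LD3_c46)) = (LP (LK LD1_c2 LD2_c17 LD3_c53)) :=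
  Lgr Lrot109 (Lpe (K18.f58989 IH) (Lpe (K11.f58988 IH) (Lpe (K11.f58987 IH) (Lpe (K9.f58979 IH) (Lpe (K11.f58985 IH) (Lpe (K11.f26931 IH) (Lpe (K11.f58986 IH) (Lpr_df (K11.f210269 IH) (Lpr_ft (f210268 IH) (Lpn (LP (LK LD1_c2 LD2_c17 LD3_c53))))))))))))
theorem f503155 : Led Lsl_gt (LP (LK LD1_c4 LD2_c41 LD3_c37)) = v1827 :=
  Lgr Lrot5 (Lpr_ft (f210268 IH) (Lpe (f210277 IH) (Lpr_gf (f503154 IH) (Lpn v1827))))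
theorem f242728 : Led Lsl_gf (LP (LK LD1_c2 LD2_c17 LD3_c54)) = (LP (LK LD1_c1 LD2_c28 LD3_c44)) :=
  Lgr Lrot145 (Lpe (K11.f25964 IH) (Lpr_et (K11.f204475 IH) (Lpe (K13.f242644 IH) (Lpr_dt (K17.f177090 IH) (Lpr_gt (K18.f242726 IH) (Lpe (K10.f28394 IH) (Lpr_et (K16.f181147 IH) (Lpr_gt (K9.f181134 IH) (Lpe (K18.f186364 IH) (Lpr_dt (K18.f186349 IH) (Lpn (LP (LK LD1_c1 LD2_c28 LD3_c44)))))))))))))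
theorem f186346 : Led Lsl_bt (LP (LK LD1_c3 LD2_c5 LD3_c27)) = (LP (LK LD1_c1 LD2_c28 LD3_c44)) :=
  Lre_b IH (LK LD1_c3 LD2_c5 LD3_c27) (LK LD1_c1 LD2_c28 LD3_c44) Lrfl Lrfl
theorem f186387 : Led Lsl_ct (LP (LK LD1_c3 LD2_c5 LD3_c27)) = (LP (LK LD1_c6 LD2_c16 LD3_c44)) :=
  Lre_c IH (LK LD1_c3 LD2_c5 LD3_c27) (LK LD1_c6 LD2_c16 LD3_c44) Lrfl Lrfl
theorem f186385 : Led Lsl_gt (LP (LK LD1_c12 LD2_c10 LD3_c31)) = (LP (LK LD1_c6 LD2_c16 LD3_c44)) :=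
  Lre_g IH (LK LD1_c12 LD2_c10 LD3_c31) (LK LD1_c6 LD2_c16 LD3_c44) Lrfl Lrfl
theorem f503162 : Led Lsl_ct (LP (LK LD1_c11 LD2_c51 LD3_c59)) = (LP (LK LD1_c12 LD2_c10 LD3_c31)) :=
  Lgr Lrot64 (Lpr_bt (f75474 IH) (Lpe (f428070 IH) (Lpe (f68542 IH) (Lpr_ct (f503157 IH) (Lpe (f503155 IH) (Lpe (K11.f25965 IH) (Lpr_gf (f242728 IH) (Lpe (f186346 IH) (Lpr_ct (f186387 IH) (Lpe (f186385 IH) (Lpn (LP (LK LD1_c12 LD2_c10 LD3_c31)))))))))))))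
theorem f503163 : Led Lsl_ct (LP (LK LD1_c11 LD2_c51 LD3_c59)) = (LP (LK LD1_c12 LD2_c10 LD3_c31)) :=
  Leop (Lpe (f503162 IH) (Lpn (LP (LK LD1_c11 LD2_c51 LD3_c59))))
theorem seed_128 : LEOK LG_c (LK LD1_c11 LD2_c51 LD3_c59) :=
  Leoe_c (LK LD1_c11 LD2_c51 LD3_c59) (f503163 IH)
def v1828 : LQ := Led Lsl_ct (LP (LK LD1_c1 LD2_c28 LD3_c49))
theorem f503172 : Led Lsl_ct (LP (LK LD1_c1 LD2_c28 LD3_c49)) = v1828 :=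
  Lrfl
theorem f227704 : Led Lsl_gt (LP (LK LD1_c0 LD2_c28 LD3_c14)) = (LP (LK LD1_c0 LD2_c41 LD3_c1)) :=
  Lgr Lrot131 (Lpe (K13.f35480 IH) (Lpr_dt (K1.f35479 IH) (Lpe (K1.f16635 IH) (Lpe (K0.f16620 IH) (Lpe (K0.f16637 IH) (Lpe (K1.f35453 IH) (Lpr_dt (K1.f35454 IH) (Lpe (K12.f35469 IH) (Lpr_df (K12.f227699 IH) (Lpr_et (K12.f210313 IH) (Lpn (LP (LK LD1_c0 LD2_c41 LD3_c1)))))))))))))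
theorem f177129 : Led Lsl_ct (LP (LK LD1_c1 LD2_c21 LD3_c51)) = (LP (LK LD1_c0 LD2_c37 LD3_c52)) :=
  Lre_c IH (LK LD1_c1 LD2_c21 LD3_c51) (LK LD1_c0 LD2_c37 LD3_c52) Lrfl Lrfl
theorem f56618 : Led Lsl_gt (LP (LK LD1_c2 LD2_c18 LD3_c49)) = (LP (LK LD1_c4 LD2_c42 LD3_c43)) :=
  Lre_g IH (LK LD1_c2 LD2_c18 LD3_c49) (LK LD1_c4 LD2_c42 LD3_c43) Lrfl Lrfl
theorem f503176 : Led Lsl_dt (LP (LK LD1_c4 LD2_c42 LD3_c43)) = v1828 :=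
  Lgr Lrot113 (Lpe (f56618 IH) (Lpe (K14.f56617 IH) (Lpr_gf (K14.f227757 IH) (Lpr_ct (f177129 IH) (Lpr_gt (K12.f205179 IH) (Lpr_dt (K1.f36419 IH) (Lpr_gt (f227704 IH) (Lpr_dt (K12.f210463 IH) (Lpr_ct (f503172 IH) (Lpn v1828))))))))))
theorem f204975 : Led Lsl_et (LP (LK LD1_c4 LD2_c42 LD3_c41)) = (LP (LK LD1_c2 LD2_c18 LD3_c49)) :=
  Lre_e IH (LK LD1_c4 LD2_c42 LD3_c41) (LK LD1_c2 LD2_c18 LD3_c49) Lrfl Lrfl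
theorem f59316 : Led Lsl_dt (LP (LK LD1_c4 LD2_c42 LD3_c41)) = (LP (LK LD1_c2 LD2_c18 LD3_c48)) :=
  Lre_d IH (LK LD1_c4 LD2_c42 LD3_c41) (LK LD1_c2 LD2_c18 LD3_c48) Lrfl Lrfl
theorem f201975 : Led Lsl_gt (LP (LK LD1_c4 LD2_c42 LD3_c40)) = (LP (LK LD1_c2 LD2_c18 LD3_c48)) :=
  Lre_g IH (LK LD1_c4 LD2_c42 LD3_c40) (LK LD1_c2 LD2_c18 LD3_c48) Lrfl Lrfl
theorem f201982 : Led Lsl_dt (LP (LK LD1_c9 LD2_c19 LD3_c36)) = (LP (LK LD1_c4 LD2_c42 LD3_c40)) :=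
  Lre_d IH (LK LD1_c9 LD2_c19 LD3_c36) (LK LD1_c4 LD2_c42 LD3_c40) Lrfl Lrfl
theorem f201983 : Led Lsl_et (LP (LK LD1_c9 LD2_c19 LD3_c36)) = (LP (LK LD1_c17 LD2_c15 LD3_c20)) :=
  Lre_e IH (LK LD1_c9 LD2_c19 LD3_c36) (LK LD1_c17 LD2_c15 LD3_c20) Lrfl Lrfl
theorem f205322 : Led Lsl_dt (LP (LK LD1_c4 LD2_c24 LD3_c32)) = (LP (LK LD1_c2 LD2_c9 LD3_c43)) :=
  Lre_d IH (LK LD1_c4 LD2_c24 LD3_c32) (LK LD1_c2 LD2_c9 LD3_c43) Lrfl Lrfl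
theorem f174624 : Led Lsl_bt (LP (LK LD1_c2 LD2_c12 LD3_c29)) = (LP (LK LD1_c1 LD2_c3 LD3_c13)) :=
  Lre_b IH (LK LD1_c2 LD2_c12 LD3_c29) (LK LD1_c1 LD2_c3 LD3_c13) Lrfl Lrfl
theorem f164729 : Led Lsl_bt (LP (LK LD1_c0 LD2_c36 LD3_c14)) = (LP (LK LD1_c1 LD2_c18 LD3_c37)) :=
  Lre_b IH (LK LD1_c0 LD2_c36 LD3_c14) (LK LD1_c1 LD2_c18 LD3_c37) Lrfl Lrfl
theorem f407816 : Led Lsl_ff (LP (LK LD1_c2 LD2_c12 LD3_c29)) = (LP (LK LD1_c1 LD2_c18 LD3_c37)) :=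
  Lgr Lrot25 (Lpr_bt (f174624 IH) (Lpr_ft (K18.f289327 IH) (Lpr_bt (f164729 IH) (Lpn (LP (LK LD1_c1 LD2_c18 LD3_c37))))))
theorem f407818 : Led Lsl_ft (LP (LK LD1_c2 LD2_c12 LD3_c29)) = (LP (LK LD1_c1 LD2_c18 LD3_c37)) :=
  Lgr Lrot48 (Lpr_ff (f407816 IH) (Lpn (LP (LK LD1_c1 LD2_c18 LD3_c37))))
theorem f210338 : Led Lsl_bt (LP (LK LD1_c4 LD2_c22 LD3_c26)) = (LP (LK LD1_c2 LD2_c8 LD3_c40)) :=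
  Lre_b IH (LK LD1_c4 LD2_c22 LD3_c26) (LK LD1_c2 LD2_c8 LD3_c40) Lrfl Lrfl
theorem f174631 : Led Lsl_bt (LP (LK LD1_c1 LD2_c3 LD3_c13)) = (LP (LK LD1_c2 LD2_c12 LD3_c29)) :=
  Lre_b IH (LK LD1_c1 LD2_c3 LD3_c13) (LK LD1_c2 LD2_c12 LD3_c29) Lrfl Lrfl
theorem f210362 : Led Lsl_cf (LP (LK LD1_c4 LD2_c22 LD3_c26)) = (LP (LK LD1_c2 LD2_c12 LD3_c29)) :=
  Lgr Lrot97 (Lpr_bt (f210338 IH) (Lpr_ct (K13.f181965 IH) (Lpr_bt (K12.f210341 IH) (Lpr_ct (K9.f174623 IH) (Lpr_bt (f174631 IH) (Lpn (LP (LK LD1_c2 LD2_c12 LD3_c29))))))))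
theorem f210364 : Led Lsl_ct (LP (LK LD1_c4 LD2_c22 LD3_c26)) = (LP (LK LD1_c2 LD2_c12 LD3_c29)) :=
  Lgr Lrot59 (Lpr_cf (f210362 IH) (Lpn (LP (LK LD1_c2 LD2_c12 LD3_c29))))
theorem f407820 : Led Lsl_ff (LP (LK LD1_c4 LD2_c22 LD3_c26)) = (LP (LK LD1_c2 LD2_c44 LD3_c28)) :=
  Lgr Lrot23 (Lpr_ct (f210364 IH) (Lpr_ft (f407818 IH) (Lpr_ct (K11.f164843 IH) (Lpn (LP (LK LD1_c2 LD2_c44 LD3_c28))))))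
theorem f210366 : Led Lsl_dt (LP (LK LD1_c4 LD2_c22 LD3_c26)) = (LP (LK LD1_c8 LD2_c42 LD3_c49)) :=
  Lre_d IH (LK LD1_c4 LD2_c22 LD3_c26) (LK LD1_c8 LD2_c42 LD3_c49) Lrfl Lrfl
theorem f164857 : Led Lsl_dt (LP (LK LD1_c5 LD2_c37 LD3_c8)) = (LP (LK LD1_c2 LD2_c44 LD3_c28)) :=
  Lre_d IH (LK LD1_c5 LD2_c37 LD3_c8) (LK LD1_c2 LD2_c44 LD3_c28) Lrfl Lrfl
theorem f407825 : Led Lsl_ft (LP (LK LD1_c8 LD2_c42 LD3_c49)) = (LP (LK LD1_c5 LD2_c37 LD3_c8)) :=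
  Lgr Lrot54 (Lpe (f210366 IH) (Lpr_ff (f407820 IH) (Lpe (f164857 IH) (Lpn (LP (LK LD1_c5 LD2_c37 LD3_c8))))))
theorem f238619 : Led Lsl_bt (LP (LK LD1_c4 LD2_c22 LD3_c27)) = (LP (LK LD1_c8 LD2_c42 LD3_c49)) :=
  Lre_b IH (LK LD1_c4 LD2_c22 LD3_c27) (LK LD1_c8 LD2_c42 LD3_c49) Lrfl Lrfl
theorem f236575 : Led Lsl_bt (LP (LK LD1_c5 LD2_c37 LD3_c8)) = (LP (LK LD1_c2 LD2_c44 LD3_c29)) :=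
  Lre_b IH (LK LD1_c5 LD2_c37 LD3_c8) (LK LD1_c2 LD2_c44 LD3_c29) Lrfl Lrfl
theorem f407827 : Led Lsl_ff (LP (LK LD1_c4 LD2_c22 LD3_c27)) = (LP (LK LD1_c2 LD2_c44 LD3_c29)) :=
  Lgr Lrot25 (Lpr_bt (f238619 IH) (Lpr_ft (f407825 IH) (Lpr_bt (f236575 IH) (Lpn (LP (LK LD1_c2 LD2_c44 LD3_c29))))))
theorem f210344 : Led Lsl_et (LP (LK LD1_c4 LD2_c22 LD3_c27)) = (LP (LK LD1_c8 LD2_c42 LD3_c50)) :=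
  Lre_e IH (LK LD1_c4 LD2_c22 LD3_c27) (LK LD1_c8 LD2_c42 LD3_c50) Lrfl Lrfl
theorem f239068 : Led Lsl_ft (LP (LK LD1_c8 LD2_c42 LD3_c50)) = (LP (LK LD1_c16 LD2_c19 LD3_c22)) :=
  Lre_f IH (LK LD1_c8 LD2_c42 LD3_c50) (LK LD1_c16 LD2_c19 LD3_c22) Lrfl Lrfl
theorem f164907 : Led Lsl_et (LP (LK LD1_c5 LD2_c37 LD3_c10)) = (LP (LK LD1_c2 LD2_c44 LD3_c29)) :=
  Lre_e IH (LK LD1_c5 LD2_c37 LD3_c10) (LK LD1_c2 LD2_c44 LD3_c29) Lrfl Lrfl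
theorem f164940 : Led Lsl_ft (LP (LK LD1_c11 LD2_c6 LD3_c16)) = (LP (LK LD1_c5 LD2_c37 LD3_c10)) :=
  Lre_f IH (LK LD1_c11 LD2_c6 LD3_c16) (LK LD1_c5 LD2_c37 LD3_c10) Lrfl Lrfl
theorem f407831 : Led Lsl_et (LP (LK LD1_c16 LD2_c19 LD3_c22)) = (LP (LK LD1_c11 LD2_c6 LD3_c16)) :=
  Lgr Lrot69 (Lpe (f239068 IH) (Lpe (f210344 IH) (Lpr_ff (f407827 IH) (Lpe (f164907 IH) (Lpe (f164940 IH) (Lpn (LP (LK LD1_c11 LD2_c6 LD3_c16))))))))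
theorem f407837 : Led Lsl_ef (LP (LK LD1_c16 LD2_c19 LD3_c22)) = (LP (LK LD1_c11 LD2_c6 LD3_c16)) :=
  Lgr Lrot88 (Lpr_et (f407831 IH) (Lpn (LP (LK LD1_c11 LD2_c6 LD3_c16))))
theorem f303751 : Led Lsl_at (LP (LK LD1_c4 LD2_c20 LD3_c2)) = (LP (LK LD1_c2 LD2_c29 LD3_c48)) :=
  Lgr Lrot51 (Lpe (K11.f201650 IH) (Lpr_af (K26.f303747 IH) (Lpe (K14.f255269 IH) (Lpn (LP (LK LD1_c2 LD2_c29 LD3_c48))))))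
theorem f303862 : Led Lsl_ff (LP (LK LD1_c4 LD2_c20 LD3_c2)) = (LP (LK LD1_c4 LD2_c20 LD3_c30)) :=
  Lgr Lrot52 (Lpr_at (f303751 IH) (Lpe (K15.f201315 IH) (Lpe (K15.f265310 IH) (Lpn (LP (LK LD1_c4 LD2_c20 LD3_c30))))))
theorem f255264 : Led Lsl_df (LP (LK LD1_c4 LD2_c20 LD3_c30)) = (LP (LK LD1_c5 LD2_c5 LD3_c15)) :=
  Lgr Lrot43 (Lpr_ct (K15.f192330 IH) (Lpr_dt (K15.f164160 IH) (Lpr_ct (K10.f164159 IH) (Lpr_dt (K12.f36339 IH) (Lpr_ct (K12.f36344 IH) (Lpr_dt (K12.f36355 IH) (Lpr_ct (K14.f255258 IH) (Lpr_dt (K14.f31644 IH) (Lpr_ct (K14.f31645 IH) (Lpr_dt (K13.f31627 IH) (Lpr_ct (K11.f31626 IH) (Lpr_dt (K11.f31646 IH) (Lpr_ct (K12.f164157 IH) (Lpr_dt (K11.f164909 IH) (Lpr_ct (K13.f201351 IH) (Lpn (LP (LK LD1_c5 LD2_c5 LD3_c15))))))))))))))))))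
theorem f303868 : Led Lsl_ft (LP (LK LD1_c5 LD2_c13 LD3_c0)) = (LP (LK LD1_c5 LD2_c5 LD3_c15)) :=
  Lgr Lrot54 (Lpr_df (K11.f201659 IH) (Lpr_ff (f303862 IH) (Lpr_df (f255264 IH) (Lpn (LP (LK LD1_c5 LD2_c5 LD3_c15))))))
theorem f303877 : Led Lsl_ff (LP (LK LD1_c5 LD2_c13 LD3_c0)) = (LP (LK LD1_c5 LD2_c5 LD3_c15)) :=
  Lgr Lrot3 (Lpr_ft (f303868 IH) (Lpn (LP (LK LD1_c5 LD2_c5 LD3_c15))))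
theorem f303778 : Led Lsl_ft (LP (LK LD1_c10 LD2_c16 LD3_c20)) = (LP (LK LD1_c18 LD2_c40 LD3_c60)) :=
  Lre_f IH (LK LD1_c10 LD2_c16 LD3_c20) (LK LD1_c18 LD2_c40 LD3_c60) Lrfl Lrfl
theorem f204995 : Led Lsl_et (LP (LK LD1_c10 LD2_c1 LD3_c34)) = (LP (LK LD1_c5 LD2_c5 LD3_c15)) :=
  Lre_e IH (LK LD1_c10 LD2_c1 LD3_c34) (LK LD1_c5 LD2_c5 LD3_c15) Lrfl Lrfl
theorem f303883 : Led Lsl_ft (LP (LK LD1_c18 LD2_c19 LD3_c20)) = (LP (LK LD1_c10 LD2_c1 LD3_c34)) :=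
  Lre_f IH (LK LD1_c18 LD2_c19 LD3_c20) (LK LD1_c10 LD2_c1 LD3_c34) Lrfl Lrfl
theorem f303884 : Led Lsl_et (LP (LK LD1_c18 LD2_c40 LD3_c60)) = (LP (LK LD1_c18 LD2_c19 LD3_c20)) :=
  Lgr Lrot69 (Lpe (f303778 IH) (Lpe (K26.f201666 IH) (Lpr_ff (f303877 IH) (Lpe (f204995 IH) (Lpe (f303883 IH) (Lpn (LP (LK LD1_c18 LD2_c19 LD3_c20))))))))
theorem f205371 : Led Lsl_ct (LP (LK LD1_c10 LD2_c16 LD3_c23)) = (LP (LK LD1_c18 LD2_c40 LD3_c60)) :=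
  Lre_c IH (LK LD1_c10 LD2_c16 LD3_c23) (LK LD1_c18 LD2_c40 LD3_c60) Lrfl Lrfl
theorem f164941 : Led Lsl_ct (LP (LK LD1_c18 LD2_c19 LD3_c20)) = (LP (LK LD1_c10 LD2_c1 LD3_c37)) :=
  Lre_c IH (LK LD1_c18 LD2_c19 LD3_c20) (LK LD1_c10 LD2_c1 LD3_c37) Lrfl Lrfl
theorem f303888 : Led Lsl_ef (LP (LK LD1_c10 LD2_c16 LD3_c23)) = (LP (LK LD1_c10 LD2_c1 LD3_c37)) :=
  Lgr Lrot28 (Lpr_ct (f205371 IH) (Lpr_et (f303884 IH) (Lpr_ct (f164941 IH) (Lpn (LP (LK LD1_c10 LD2_c1 LD3_c37))))))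
theorem f303894 : Led Lsl_et (LP (LK LD1_c10 LD2_c16 LD3_c23)) = (LP (LK LD1_c10 LD2_c1 LD3_c37)) :=
  Lgr Lrot87 (Lpr_ef (f303888 IH) (Lpn (LP (LK LD1_c10 LD2_c1 LD3_c37))))
theorem f205346 : Led Lsl_ct (LP (LK LD1_c5 LD2_c13 LD3_c1)) = (LP (LK LD1_c10 LD2_c16 LD3_c20)) :=
  Lre_c IH (LK LD1_c5 LD2_c13 LD3_c1) (LK LD1_c10 LD2_c16 LD3_c20) Lrfl Lrfl
theorem f36352 : Led Lsl_et (LP (LK LD1_c8 LD2_c38 LD3_c53)) = (LP (LK LD1_c4 LD2_c20 LD3_c32)) :=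
  Lre_e IH (LK LD1_c8 LD2_c38 LD3_c53) (LK LD1_c4 LD2_c20 LD3_c32) Lrfl Lrfl
theorem f255266 : Led Lsl_et (LP (LK LD1_c5 LD2_c4 LD3_c61)) = (LP (LK LD1_c10 LD2_c1 LD3_c7)) :=
  Lre_e IH (LK LD1_c5 LD2_c4 LD3_c61) (LK LD1_c10 LD2_c1 LD3_c7) Lrfl Lrfl
theorem f255267 : Led Lsl_cf (LP (LK LD1_c8 LD2_c38 LD3_c53)) = (LP (LK LD1_c10 LD2_c1 LD3_c7)) :=
  Lgr Lrot39 (Lpr_et (f36352 IH) (Lpr_ct (K14.f255258 IH) (Lpr_et (f255266 IH) (Lpn (LP (LK LD1_c10 LD2_c1 LD3_c7))))))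
theorem f303759 : Led Lsl_af (LP (LK LD1_c5 LD2_c13 LD3_c1)) = (LP (LK LD1_c8 LD2_c38 LD3_c53)) :=
  Lgr Lrot68 (Lpr_ct (f205346 IH) (Lpr_at (K26.f303753 IH) (Lpe (f255267 IH) (Lpn (LP (LK LD1_c8 LD2_c38 LD3_c53))))))
theorem f205350 : Led Lsl_ft (LP (LK LD1_c5 LD2_c13 LD3_c1)) = (LP (LK LD1_c10 LD2_c16 LD3_c23)) :=
  Lre_f IH (LK LD1_c5 LD2_c13 LD3_c1) (LK LD1_c10 LD2_c16 LD3_c23) Lrfl Lrfl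
theorem f36380 : Led Lsl_ft (LP (LK LD1_c16 LD2_c11 LD3_c50)) = (LP (LK LD1_c8 LD2_c38 LD3_c53)) :=
  Lre_f IH (LK LD1_c16 LD2_c11 LD3_c50) (LK LD1_c8 LD2_c38 LD3_c53) Lrfl Lrfl
theorem f303803 : Led Lsl_at (LP (LK LD1_c10 LD2_c16 LD3_c23)) = (LP (LK LD1_c16 LD2_c11 LD3_c50)) :=
  Lgr Lrot66 (Lpe (f205350 IH) (Lpr_af (f303759 IH) (Lpe (f36380 IH) (Lpn (LP (LK LD1_c16 LD2_c11 LD3_c50))))))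
theorem f303811 : Led Lsl_af (LP (LK LD1_c10 LD2_c16 LD3_c23)) = (LP (LK LD1_c16 LD2_c11 LD3_c50)) :=
  Lgr Lrot0 (Lpr_at (f303803 IH) (Lpn (LP (LK LD1_c16 LD2_c11 LD3_c50))))
theorem f205366 : Led Lsl_ct (LP (LK LD1_c18 LD2_c40 LD3_c60)) = (LP (LK LD1_c10 LD2_c16 LD3_c23)) :=
  Lre_c IH (LK LD1_c18 LD2_c40 LD3_c60) (LK LD1_c10 LD2_c16 LD3_c23) Lrfl Lrfl
theorem f303763 : Led Lsl_ft (LP (LK LD1_c18 LD2_c40 LD3_c60)) = (LP (LK LD1_c10 LD2_c16 LD3_c20)) :=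
  Lre_f IH (LK LD1_c18 LD2_c40 LD3_c60) (LK LD1_c10 LD2_c16 LD3_c20) Lrfl Lrfl
theorem f303742 : Led Lsl_ft (LP (LK LD1_c10 LD2_c1 LD3_c7)) = (LP (LK LD1_c18 LD2_c18 LD3_c37)) :=
  Lre_f IH (LK LD1_c10 LD2_c1 LD3_c7) (LK LD1_c18 LD2_c18 LD3_c37) Lrfl Lrfl
theorem f303764 : Led Lsl_af (LP (LK LD1_c18 LD2_c40 LD3_c60)) = (LP (LK LD1_c18 LD2_c18 LD3_c37)) :=
  Lgr Lrot45 (Lpr_ft (f303763 IH) (Lpr_at (K26.f303753 IH) (Lpr_ft (f303742 IH) (Lpn (LP (LK LD1_c18 LD2_c18 LD3_c37))))))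
theorem f303813 : Led Lsl_cf (LP (LK LD1_c18 LD2_c18 LD3_c37)) = (LP (LK LD1_c16 LD2_c11 LD3_c50)) :=
  Lgr Lrot1 (Lpe (f303764 IH) (Lpr_ct (f205366 IH) (Lpr_at (f303803 IH) (Lpn (LP (LK LD1_c16 LD2_c11 LD3_c50))))))
theorem f201685 : Led Lsl_et (LP (LK LD1_c10 LD2_c15 LD3_c55)) = (LP (LK LD1_c5 LD2_c12 LD3_c45)) :=
  Lre_e IH (LK LD1_c10 LD2_c15 LD3_c55) (LK LD1_c5 LD2_c12 LD3_c45) Lrfl Lrfl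
theorem f201707 : Led Lsl_ft (LP (LK LD1_c18 LD2_c40 LD3_c19)) = (LP (LK LD1_c10 LD2_c15 LD3_c55)) :=
  Lre_f IH (LK LD1_c18 LD2_c40 LD3_c19) (LK LD1_c10 LD2_c15 LD3_c55) Lrfl Lrfl
theorem f303743 : Led Lsl_ef (LP (LK LD1_c18 LD2_c40 LD3_c19)) = (LP (LK LD1_c18 LD2_c18 LD3_c37)) :=
  Lgr Lrot21 (Lpr_ft (f201707 IH) (Lpr_et (f201685 IH) (Lpr_ft (K26.f303727 IH) (Lpr_et (f255266 IH) (Lpr_ft (f303742 IH) (Lpn (LP (LK LD1_c18 LD2_c18 LD3_c37))))))))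
theorem f180148 : Led Lsl_et (LP (LK LD1_c4 LD2_c20 LD3_c5)) = (LP (LK LD1_c8 LD2_c38 LD3_c8)) :=
  Lre_e IH (LK LD1_c4 LD2_c20 LD3_c5) (LK LD1_c8 LD2_c38 LD3_c8) Lrfl Lrfl
theorem f201686 : Led Lsl_cf (LP (LK LD1_c10 LD2_c15 LD3_c55)) = (LP (LK LD1_c8 LD2_c38 LD3_c8)) :=
  Lgr Lrot39 (Lpr_et (f201685 IH) (Lpr_ct (K11.f201678 IH) (Lpr_et (f180148 IH) (Lpn (LP (LK LD1_c8 LD2_c38 LD3_c8))))))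
theorem f201696 : Led Lsl_ft (LP (LK LD1_c10 LD2_c15 LD3_c55)) = (LP (LK LD1_c18 LD2_c40 LD3_c19)) :=
  Lre_f IH (LK LD1_c10 LD2_c15 LD3_c55) (LK LD1_c18 LD2_c40 LD3_c19) Lrfl Lrfl
theorem f180158 : Led Lsl_ft (LP (LK LD1_c16 LD2_c10 LD3_c28)) = (LP (LK LD1_c8 LD2_c38 LD3_c8)) :=
  Lre_f IH (LK LD1_c16 LD2_c10 LD3_c28) (LK LD1_c8 LD2_c38 LD3_c8) Lrfl Lrfl
theorem f201697 : Led Lsl_ct (LP (LK LD1_c18 LD2_c40 LD3_c19)) = (LP (LK LD1_c16 LD2_c10 LD3_c28)) :=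
  Lgr Lrot40 (Lpe (f201696 IH) (Lpr_cf (f201686 IH) (Lpe (f180158 IH) (Lpn (LP (LK LD1_c16 LD2_c10 LD3_c28))))))
theorem f303835 : Led Lsl_et (LP (LK LD1_c16 LD2_c10 LD3_c28)) = (LP (LK LD1_c16 LD2_c11 LD3_c50)) :=
  Lgr Lrot158 (Lpe (f201697 IH) (Lpr_ef (f303743 IH) (Lpr_cf (f303813 IH) (Lpn (LP (LK LD1_c16 LD2_c11 LD3_c50))))))
theorem f303896 : Led Lsl_af (LP (LK LD1_c16 LD2_c10 LD3_c28)) = (LP (LK LD1_c10 LD2_c1 LD3_c37)) :=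
  Lgr Lrot50 (Lpr_et (f303835 IH) (Lpe (f303811 IH) (Lpr_et (f303894 IH) (Lpn (LP (LK LD1_c10 LD2_c1 LD3_c37))))))
theorem f180147 : Led Lsl_et (LP (LK LD1_c8 LD2_c37 LD3_c2)) = (LP (LK LD1_c4 LD2_c19 LD3_c20)) :=
  Lre_e IH (LK LD1_c8 LD2_c37 LD3_c2) (LK LD1_c4 LD2_c19 LD3_c20) Lrfl Lrfl
theorem f180149 : Led Lsl_df (LP (LK LD1_c8 LD2_c37 LD3_c2)) = (LP (LK LD1_c8 LD2_c38 LD3_c8)) :=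
  Lgr Lrot70 (Lpr_et (f180147 IH) (Lpr_dt (K13.f180146 IH) (Lpr_et (K13.f180139 IH) (Lpr_dt (K11.f180141 IH) (Lpr_et (f180148 IH) (Lpn (LP (LK LD1_c8 LD2_c38 LD3_c8))))))))
theorem f180157 : Led Lsl_ft (LP (LK LD1_c8 LD2_c37 LD3_c2)) = (LP (LK LD1_c16 LD2_c8 LD3_c38)) :=
  Lre_f IH (LK LD1_c8 LD2_c37 LD3_c2) (LK LD1_c16 LD2_c8 LD3_c38) Lrfl Lrfl
theorem f180159 : Led Lsl_dt (LP (LK LD1_c16 LD2_c8 LD3_c38)) = (LP (LK LD1_c16 LD2_c10 LD3_c28)) :=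
  Lgr Lrot60 (Lpe (f180157 IH) (Lpr_df (f180149 IH) (Lpe (f180158 IH) (Lpn (LP (LK LD1_c16 LD2_c10 LD3_c28))))))
theorem f180174 : Led Lsl_df (LP (LK LD1_c16 LD2_c8 LD3_c38)) = (LP (LK LD1_c16 LD2_c10 LD3_c28)) :=
  Lgr Lrot38 (Lpr_dt (f180159 IH) (Lpn (LP (LK LD1_c16 LD2_c10 LD3_c28))))
theorem f164865 : Led Lsl_dt (LP (LK LD1_c2 LD2_c44 LD3_c28)) = (LP (LK LD1_c5 LD2_c37 LD3_c8)) :=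
  Lre_d IH (LK LD1_c2 LD2_c44 LD3_c28) (LK LD1_c5 LD2_c37 LD3_c8) Lrfl Lrfl
theorem f164880 : Led Lsl_et (LP (LK LD1_c5 LD2_c37 LD3_c8)) = (LP (LK LD1_c11 LD2_c6 LD3_c12)) :=
  Lre_e IH (LK LD1_c5 LD2_c37 LD3_c8) (LK LD1_c11 LD2_c6 LD3_c12) Lrfl Lrfl
theorem f164881 : Led Lsl_dt (LP (LK LD1_c5 LD2_c5 LD3_c14)) = (LP (LK LD1_c2 LD2_c29 LD3_c55)) :=
  Lre_d IH (LK LD1_c5 LD2_c5 LD3_c14) (LK LD1_c2 LD2_c29 LD3_c55) Lrfl Lrfl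
theorem f164882 : Led Lsl_et (LP (LK LD1_c10 LD2_c1 LD3_c32)) = (LP (LK LD1_c5 LD2_c5 LD3_c14)) :=
  Lre_e IH (LK LD1_c10 LD2_c1 LD3_c32) (LK LD1_c5 LD2_c5 LD3_c14) Lrfl Lrfl
theorem f164883 : Led Lsl_dt (LP (LK LD1_c11 LD2_c6 LD3_c12)) = (LP (LK LD1_c10 LD2_c1 LD3_c32)) :=
  Lgr Lrot77 (Lpe (f164880 IH) (Lpe (f164865 IH) (Lpr_ef (K13.f164863 IH) (Lpe (f164881 IH) (Lpe (f164882 IH) (Lpn (LP (LK LD1_c10 LD2_c1 LD3_c32))))))))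
theorem f164888 : Led Lsl_bt (LP (LK LD1_c5 LD2_c37 LD3_c10)) = (LP (LK LD1_c11 LD2_c6 LD3_c12)) :=
  Lre_b IH (LK LD1_c5 LD2_c37 LD3_c10) (LK LD1_c11 LD2_c6 LD3_c12) Lrfl Lrfl
theorem f164889 : Led Lsl_bt (LP (LK LD1_c10 LD2_c1 LD3_c32)) = (LP (LK LD1_c5 LD2_c5 LD3_c16)) :=
  Lre_b IH (LK LD1_c10 LD2_c1 LD3_c32) (LK LD1_c5 LD2_c5 LD3_c16) Lrfl Lrfl
theorem f164890 : Led Lsl_df (LP (LK LD1_c5 LD2_c37 LD3_c10)) = (LP (LK LD1_c5 LD2_c5 LD3_c16)) :=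
  Lgr Lrot12 (Lpr_bt (f164888 IH) (Lpr_dt (f164883 IH) (Lpr_bt (f164889 IH) (Lpn (LP (LK LD1_c5 LD2_c5 LD3_c16))))))
theorem f164911 : Led Lsl_ft (LP (LK LD1_c5 LD2_c37 LD3_c10)) = (LP (LK LD1_c11 LD2_c6 LD3_c16)) :=
  Lre_f IH (LK LD1_c5 LD2_c37 LD3_c10) (LK LD1_c11 LD2_c6 LD3_c16) Lrfl Lrfl
theorem f164912 : Led Lsl_ft (LP (LK LD1_c10 LD2_c1 LD3_c37)) = (LP (LK LD1_c5 LD2_c5 LD3_c16)) :=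
  Lre_f IH (LK LD1_c10 LD2_c1 LD3_c37) (LK LD1_c5 LD2_c5 LD3_c16) Lrfl Lrfl
theorem f164913 : Led Lsl_dt (LP (LK LD1_c11 LD2_c6 LD3_c16)) = (LP (LK LD1_c10 LD2_c1 LD3_c37)) :=
  Lgr Lrot60 (Lpe (f164911 IH) (Lpr_df (f164890 IH) (Lpe (f164912 IH) (Lpn (LP (LK LD1_c10 LD2_c1 LD3_c37))))))
theorem f303932 : Led Lsl_at (LP (LK LD1_c16 LD2_c8 LD3_c38)) = (LP (LK LD1_c11 LD2_c6 LD3_c16)) :=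
  Lgr Lrot51 (Lpr_df (f180174 IH) (Lpr_af (f303896 IH) (Lpe (f164913 IH) (Lpn (LP (LK LD1_c11 LD2_c6 LD3_c16))))))
theorem f180176 : Led Lsl_ft (LP (LK LD1_c16 LD2_c8 LD3_c38)) = (LP (LK LD1_c8 LD2_c37 LD3_c2)) :=
  Lre_f IH (LK LD1_c16 LD2_c8 LD3_c38) (LK LD1_c8 LD2_c37 LD3_c2) Lrfl Lrfl
theorem f269593 : Led Lsl_et (LP (LK LD1_c4 LD2_c23 LD3_c8)) = (LP (LK LD1_c8 LD2_c43 LD3_c61)) :=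
  Lre_e IH (LK LD1_c4 LD2_c23 LD3_c8) (LK LD1_c8 LD2_c43 LD3_c61) Lrfl Lrfl
theorem f269594 : Led Lsl_ft (LP (LK LD1_c8 LD2_c43 LD3_c61)) = (LP (LK LD1_c16 LD2_c21 LD3_c14)) :=
  Lre_f IH (LK LD1_c8 LD2_c43 LD3_c61) (LK LD1_c16 LD2_c21 LD3_c14) Lrfl Lrfl
theorem f269595 : Led Lsl_ef (LP (LK LD1_c16 LD2_c8 LD3_c38)) = (LP (LK LD1_c16 LD2_c21 LD3_c14)) :=
  Lgr Lrot21 (Lpr_ft (f180176 IH) (Lpr_et (f180147 IH) (Lpr_ft (K16.f269589 IH) (Lpr_et (f269593 IH) (Lpr_ft (f269594 IH) (Lpn (LP (LK LD1_c16 LD2_c21 LD3_c14))))))))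
theorem f407839 : Led Lsl_at (LP (LK LD1_c16 LD2_c19 LD3_c22)) = (LP (LK LD1_c16 LD2_c21 LD3_c14)) :=
  Lgr Lrot80 (Lpr_ef (f407837 IH) (Lpe (f303932 IH) (Lpr_ef (f269595 IH) (Lpn (LP (LK LD1_c16 LD2_c21 LD3_c14))))))
theorem f269599 : Led Lsl_ft (LP (LK LD1_c16 LD2_c21 LD3_c14)) = (LP (LK LD1_c8 LD2_c43 LD3_c61)) :=
  Lre_f IH (LK LD1_c16 LD2_c21 LD3_c14) (LK LD1_c8 LD2_c43 LD3_c61) Lrfl Lrfl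
theorem f407843 : Led Lsl_af (LP (LK LD1_c8 LD2_c42 LD3_c50)) = (LP (LK LD1_c8 LD2_c43 LD3_c61)) :=
  Lgr Lrot45 (Lpr_ft (f239068 IH) (Lpr_at (f407839 IH) (Lpr_ft (f269599 IH) (Lpn (LP (LK LD1_c8 LD2_c43 LD3_c61))))))
theorem f177130 : Led Lsl_dt (LP (LK LD1_c2 LD2_c51 LD3_c37)) = (LP (LK LD1_c1 LD2_c21 LD3_c51)) :=
  Lre_d IH (LK LD1_c2 LD2_c51 LD3_c37) (LK LD1_c1 LD2_c21 LD3_c51) Lrfl Lrfl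
theorem f238999 : Led Lsl_et (LP (LK LD1_c5 LD2_c50 LD3_c52)) = (LP (LK LD1_c2 LD2_c51 LD3_c37)) :=
  Lre_e IH (LK LD1_c5 LD2_c50 LD3_c52) (LK LD1_c2 LD2_c51 LD3_c37) Lrfl Lrfl
theorem f239000 : Led Lsl_df (LP (LK LD1_c5 LD2_c50 LD3_c52)) = (LP (LK LD1_c8 LD2_c42 LD3_c50)) :=
  Lgr Lrot70 (Lpr_et (f238999 IH) (Lpr_dt (f177130 IH) (Lpr_et (K14.f238995 IH) (Lpr_dt (K13.f210339 IH) (Lpr_et (f210344 IH) (Lpn (LP (LK LD1_c8 LD2_c42 LD3_c50))))))))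
theorem f205184 : Led Lsl_dt (LP (LK LD1_c1 LD2_c31 LD3_c28)) = (LP (LK LD1_c3 LD2_c10 LD3_c27)) :=
  Lre_d IH (LK LD1_c1 LD2_c31 LD3_c28) (LK LD1_c3 LD2_c10 LD3_c27) Lrfl Lrfl
theorem f205189 : Led Lsl_et (LP (LK LD1_c3 LD2_c10 LD3_c27)) = (LP (LK LD1_c6 LD2_c25 LD3_c35)) :=
  Lre_e IH (LK LD1_c3 LD2_c10 LD3_c27) (LK LD1_c6 LD2_c25 LD3_c35) Lrfl Lrfl
theorem f237704 : Led Lsl_et (LP (LK LD1_c8 LD2_c43 LD3_c61)) = (LP (LK LD1_c4 LD2_c23 LD3_c8)) :=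
  Lre_e IH (LK LD1_c8 LD2_c43 LD3_c61) (LK LD1_c4 LD2_c23 LD3_c8) Lrfl Lrfl
theorem f269604 : Led Lsl_dt (LP (LK LD1_c6 LD2_c25 LD3_c35)) = (LP (LK LD1_c8 LD2_c43 LD3_c61)) :=
  Lgr Lrot77 (Lpe (f205189 IH) (Lpe (f205184 IH) (Lpe (K14.f255154 IH) (Lpr_df (K16.f269591 IH) (Lpe (f237704 IH) (Lpn (LP (LK LD1_c8 LD2_c43 LD3_c61))))))))
theorem f407908 : Led Lsl_at (LP (LK LD1_c5 LD2_c50 LD3_c52)) = (LP (LK LD1_c6 LD2_c25 LD3_c35)) :=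
  Lgr Lrot51 (Lpr_df (f239000 IH) (Lpr_af (f407843 IH) (Lpe (f269604 IH) (Lpn (LP (LK LD1_c6 LD2_c25 LD3_c35))))))
theorem f239089 : Led Lsl_ft (LP (LK LD1_c11 LD2_c29 LD3_c18)) = (LP (LK LD1_c5 LD2_c50 LD3_c52)) :=
  Lre_f IH (LK LD1_c11 LD2_c29 LD3_c18) (LK LD1_c5 LD2_c50 LD3_c52) Lrfl Lrfl
theorem f407920 : Led Lsl_ft (LP (LK LD1_c6 LD2_c25 LD3_c35)) = (LP (LK LD1_c12 LD2_c23 LD3_c53)) :=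
  Lre_f IH (LK LD1_c6 LD2_c25 LD3_c35) (LK LD1_c12 LD2_c23 LD3_c53) Lrfl Lrfl
theorem f407921 : Led Lsl_af (LP (LK LD1_c11 LD2_c29 LD3_c18)) = (LP (LK LD1_c12 LD2_c23 LD3_c53)) :=
  Lgr Lrot45 (Lpr_ft (f239089 IH) (Lpr_at (f407908 IH) (Lpr_ft (f407920 IH) (Lpn (LP (LK LD1_c12 LD2_c23 LD3_c53))))))
theorem f239064 : Led Lsl_ft (LP (LK LD1_c5 LD2_c50 LD3_c52)) = (LP (LK LD1_c11 LD2_c29 LD3_c18)) :=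
  Lre_f IH (LK LD1_c5 LD2_c50 LD3_c52) (LK LD1_c11 LD2_c29 LD3_c18) Lrfl Lrfl
theorem f239065 : Led Lsl_ft (LP (LK LD1_c16 LD2_c19 LD3_c22)) = (LP (LK LD1_c8 LD2_c42 LD3_c50)) :=
  Lre_f IH (LK LD1_c16 LD2_c19 LD3_c22) (LK LD1_c8 LD2_c42 LD3_c50) Lrfl Lrfl
theorem f239066 : Led Lsl_dt (LP (LK LD1_c11 LD2_c29 LD3_c18)) = (LP (LK LD1_c16 LD2_c19 LD3_c22)) :=
  Lgr Lrot60 (Lpe (f239064 IH) (Lpr_df (f239000 IH) (Lpe (f239065 IH) (Lpn (LP (LK LD1_c16 LD2_c19 LD3_c22))))))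
theorem f239087 : Led Lsl_df (LP (LK LD1_c11 LD2_c29 LD3_c18)) = (LP (LK LD1_c16 LD2_c19 LD3_c22)) :=
  Lgr Lrot38 (Lpr_dt (f239066 IH) (Lpn (LP (LK LD1_c16 LD2_c19 LD3_c22))))
theorem f164938 : Led Lsl_df (LP (LK LD1_c11 LD2_c6 LD3_c16)) = (LP (LK LD1_c10 LD2_c1 LD3_c37)) :=
  Lgr Lrot38 (Lpr_dt (f164913 IH) (Lpn (LP (LK LD1_c10 LD2_c1 LD3_c37))))
theorem f205323 : Led Lsl_dt (LP (LK LD1_c2 LD2_c9 LD3_c43)) = (LP (LK LD1_c4 LD2_c24 LD3_c32)) :=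
  Lre_d IH (LK LD1_c2 LD2_c9 LD3_c43) (LK LD1_c4 LD2_c24 LD3_c32) Lrfl Lrfl
theorem f205327 : Led Lsl_et (LP (LK LD1_c4 LD2_c24 LD3_c32)) = (LP (LK LD1_c8 LD2_c46 LD3_c38)) :=
  Lre_e IH (LK LD1_c4 LD2_c24 LD3_c32) (LK LD1_c8 LD2_c46 LD3_c38) Lrfl Lrfl
theorem f205342 : Led Lsl_et (LP (LK LD1_c5 LD2_c13 LD3_c1)) = (LP (LK LD1_c2 LD2_c33 LD3_c22)) :=
  Lre_e IH (LK LD1_c5 LD2_c13 LD3_c1) (LK LD1_c2 LD2_c33 LD3_c22) Lrfl Lrfl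
theorem f205343 : Led Lsl_dt (LP (LK LD1_c8 LD2_c46 LD3_c38)) = (LP (LK LD1_c5 LD2_c13 LD3_c1)) :=
  Lgr Lrot77 (Lpe (f205327 IH) (Lpe (f205323 IH) (Lpr_ef (K14.f205337 IH) (Lpe (K11.f181110 IH) (Lpe (f205342 IH) (Lpn (LP (LK LD1_c5 LD2_c13 LD3_c1))))))))
theorem f205349 : Led Lsl_ft (LP (LK LD1_c16 LD2_c25 LD3_c18)) = (LP (LK LD1_c8 LD2_c46 LD3_c38)) :=
  Lre_f IH (LK LD1_c16 LD2_c25 LD3_c18) (LK LD1_c8 LD2_c46 LD3_c38) Lrfl Lrfl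
theorem f205351 : Led Lsl_df (LP (LK LD1_c16 LD2_c25 LD3_c18)) = (LP (LK LD1_c10 LD2_c16 LD3_c23)) :=
  Lgr Lrot78 (Lpr_ft (f205349 IH) (Lpr_dt (f205343 IH) (Lpr_ft (f205350 IH) (Lpn (LP (LK LD1_c10 LD2_c16 LD3_c23))))))
theorem f205367 : Led Lsl_dt (LP (LK LD1_c16 LD2_c25 LD3_c18)) = (LP (LK LD1_c10 LD2_c16 LD3_c23)) :=
  Lgr Lrot42 (Lpr_df (f205351 IH) (Lpn (LP (LK LD1_c10 LD2_c16 LD3_c23))))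
theorem f407841 : Led Lsl_et (LP (LK LD1_c11 LD2_c29 LD3_c18)) = (LP (LK LD1_c16 LD2_c25 LD3_c18)) :=
  Lgr Lrot71 (Lpr_df (f239087 IH) (Lpr_ef (f407837 IH) (Lpr_df (f164938 IH) (Lpe (f303894 IH) (Lpe (f205367 IH) (Lpn (LP (LK LD1_c16 LD2_c25 LD3_c18))))))))
theorem f36349 : Led Lsl_dt (LP (LK LD1_c1 LD2_c31 LD3_c13)) = (LP (LK LD1_c3 LD2_c10 LD3_c8)) :=
  Lre_d IH (LK LD1_c1 LD2_c31 LD3_c13) (LK LD1_c3 LD2_c10 LD3_c8) Lrfl Lrfl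
theorem f36350 : Led Lsl_et (LP (LK LD1_c3 LD2_c10 LD3_c8)) = (LP (LK LD1_c6 LD2_c25 LD3_c2)) :=
  Lre_e IH (LK LD1_c3 LD2_c10 LD3_c8) (LK LD1_c6 LD2_c25 LD3_c2) Lrfl Lrfl
theorem f36353 : Led Lsl_dt (LP (LK LD1_c6 LD2_c25 LD3_c2)) = (LP (LK LD1_c8 LD2_c38 LD3_c53)) :=
  Lgr Lrot77 (Lpe (f36350 IH) (Lpe (f36349 IH) (Lpr_ef (K14.f36345 IH) (Lpe (K12.f36351 IH) (Lpe (f36352 IH) (Lpn (LP (LK LD1_c8 LD2_c38 LD3_c53))))))))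
theorem f36360 : Led Lsl_ft (LP (LK LD1_c12 LD2_c23 LD3_c8)) = (LP (LK LD1_c6 LD2_c25 LD3_c2)) :=
  Lre_f IH (LK LD1_c12 LD2_c23 LD3_c8) (LK LD1_c6 LD2_c25 LD3_c2) Lrfl Lrfl
theorem f36361 : Led Lsl_ft (LP (LK LD1_c8 LD2_c38 LD3_c53)) = (LP (LK LD1_c16 LD2_c11 LD3_c50)) :=
  Lre_f IH (LK LD1_c8 LD2_c38 LD3_c53) (LK LD1_c16 LD2_c11 LD3_c50) Lrfl Lrfl
theorem f36362 : Led Lsl_df (LP (LK LD1_c12 LD2_c23 LD3_c8)) = (LP (LK LD1_c16 LD2_c11 LD3_c50)) :=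
  Lgr Lrot78 (Lpr_ft (f36360 IH) (Lpr_dt (f36353 IH) (Lpr_ft (f36361 IH) (Lpn (LP (LK LD1_c16 LD2_c11 LD3_c50))))))
theorem f303815 : Led Lsl_af (LP (LK LD1_c16 LD2_c25 LD3_c18)) = (LP (LK LD1_c12 LD2_c23 LD3_c8)) :=
  Lgr Lrot117 (Lpr_dt (f205367 IH) (Lpr_at (f303803 IH) (Lpe (f36362 IH) (Lpn (LP (LK LD1_c12 LD2_c23 LD3_c8))))))
theorem f303820 : Led Lsl_at (LP (LK LD1_c16 LD2_c25 LD3_c18)) = (LP (LK LD1_c12 LD2_c23 LD3_c8)) :=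
  Lgr Lrot100 (Lpr_af (f303815 IH) (Lpn (LP (LK LD1_c12 LD2_c23 LD3_c8))))
theorem f407932 : Led Lsl_et (LP (LK LD1_c12 LD2_c23 LD3_c8)) = (LP (LK LD1_c12 LD2_c23 LD3_c53)) :=
  Lgr Lrot123 (Lpe (f303820 IH) (Lpe (f407841 IH) (Lpr_af (f407921 IH) (Lpn (LP (LK LD1_c12 LD2_c23 LD3_c53))))))
theorem f36364 : Led Lsl_ft (LP (LK LD1_c6 LD2_c25 LD3_c2)) = (LP (LK LD1_c12 LD2_c23 LD3_c8)) :=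
  Lre_f IH (LK LD1_c6 LD2_c25 LD3_c2) (LK LD1_c12 LD2_c23 LD3_c8) Lrfl Lrfl
theorem f407944 : Led Lsl_ft (LP (LK LD1_c12 LD2_c23 LD3_c53)) = (LP (LK LD1_c6 LD2_c25 LD3_c35)) :=
  Lre_f IH (LK LD1_c12 LD2_c23 LD3_c53) (LK LD1_c6 LD2_c25 LD3_c35) Lrfl Lrfl
theorem f407917 : Led Lsl_et (LP (LK LD1_c6 LD2_c25 LD3_c35)) = (LP (LK LD1_c3 LD2_c10 LD3_c27)) :=
  Lre_e IH (LK LD1_c6 LD2_c25 LD3_c35) (LK LD1_c3 LD2_c10 LD3_c27) Lrfl Lrfl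
theorem f407945 : Led Lsl_ff (LP (LK LD1_c3 LD2_c10 LD3_c8)) = (LP (LK LD1_c3 LD2_c10 LD3_c27)) :=
  Lgr Lrot72 (Lpr_et (f36350 IH) (Lpr_ft (f36364 IH) (Lpr_et (f407932 IH) (Lpr_ft (f407944 IH) (Lpr_et (f407917 IH) (Lpn (LP (LK LD1_c3 LD2_c10 LD3_c27))))))))
theorem f255413 : Led Lsl_af (LP (LK LD1_c4 LD2_c24 LD3_c32)) = (LP (LK LD1_c3 LD2_c10 LD3_c8)) :=
  Lgr Lrot117 (Lpr_dt (f205322 IH) (Lpr_at (K14.f255409 IH) (Lpr_dt (f36349 IH) (Lpn (LP (LK LD1_c3 LD2_c10 LD3_c8))))))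
theorem f205185 : Led Lsl_gt (LP (LK LD1_c3 LD2_c10 LD3_c27)) = (LP (LK LD1_c6 LD2_c25 LD3_c32)) :=
  Lre_g IH (LK LD1_c3 LD2_c10 LD3_c27) (LK LD1_c6 LD2_c25 LD3_c32) Lrfl Lrfl
theorem f407949 : Led Lsl_gf (LP (LK LD1_c4 LD2_c24 LD3_c32)) = (LP (LK LD1_c6 LD2_c25 LD3_c32)) :=
  Lgr Lrot76 (Lpr_af (f255413 IH) (Lpr_ff (f407945 IH) (Lpr_gt (f205185 IH) (Lpn (LP (LK LD1_c6 LD2_c25 LD3_c32))))))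
theorem f241081 : Led Lsl_ef (LP (LK LD1_c4 LD2_c1 LD3_c16)) = (LP (LK LD1_c2 LD2_c3 LD3_c17)) :=
  Lgr Lrot17 (Lpe (K12.f227327 IH) (Lpe (K12.f192717 IH) (Lpr_dt (K12.f101409 IH) (Lpe (K12.f101402 IH) (Lpe (K12.f210959 IH) (Lpr_gf (K13.f241077 IH) (Lpe (K13.f239507 IH) (Lpr_dt (K13.f239502 IH) (Lpr_gf (K13.f240989 IH) (Lpe (K13.f53302 IH) (Lpn (LP (LK LD1_c2 LD2_c3 LD3_c17)))))))))))))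
theorem f241155 : Led Lsl_et (LP (LK LD1_c4 LD2_c1 LD3_c18)) = (LP (LK LD1_c1 LD2_c57 LD3_c33)) :=
  Lre_e IH (LK LD1_c4 LD2_c1 LD3_c18) (LK LD1_c1 LD2_c57 LD3_c33) Lrfl Lrfl
theorem f407953 : Led Lsl_dt (LP (LK LD1_c4 LD2_c1 LD3_c18)) = (LP (LK LD1_c6 LD2_c25 LD3_c32)) :=
  Lgr Lrot136 (Lpr_et (f241155 IH) (Lpe (K12.f193101 IH) (Lpr_ef (f241081 IH) (Lpr_dt (K13.f53302 IH) (Lpe (K13.f227293 IH) (Lpe (K13.f211524 IH) (Lpe (K12.f201869 IH) (Lpe (K14.f205333 IH) (Lpr_dt (f205323 IH) (Lpr_gf (f407949 IH) (Lpn (LP (LK LD1_c6 LD2_c25 LD3_c32)))))))))))))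
theorem f503175 : Led Lsl_gf (LP (LK LD1_c4 LD2_c1 LD3_c18)) = v1828 :=
  Lgr Lrot148 (Lpr_dt (f407953 IH) (Lpe (f407949 IH) (Lpr_dt (f205322 IH) (Lpr_ct (K14.f205321 IH) (Lpr_df (K14.f237346 IH) (Lpe (K13.f237339 IH) (Lpe (K13.f237335 IH) (Lpr_gf (K13.f227695 IH) (Lpr_ct (f503172 IH) (Lpn v1828))))))))))
theorem f407956 : Led Lsl_df (LP (LK LD1_c4 LD2_c1 LD3_c18)) = (LP (LK LD1_c6 LD2_c25 LD3_c32)) :=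
  Lgr Lrot38 (Lpr_dt (f407953 IH) (Lpn (LP (LK LD1_c6 LD2_c25 LD3_c32))))
theorem f407958 : Led Lsl_et (LP (LK LD1_c6 LD2_c25 LD3_c32)) = (LP (LK LD1_c12 LD2_c23 LD3_c47)) :=
  Lre_e IH (LK LD1_c6 LD2_c25 LD3_c32) (LK LD1_c12 LD2_c23 LD3_c47) Lrfl Lrfl
theorem f503180 : Led Lsl_gf (LP (LK LD1_c17 LD2_c15 LD3_c20)) = (LP (LK LD1_c12 LD2_c23 LD3_c47)) :=
  Lgr Lrot141 (Lpe (f201983 IH) (Lpr_dt (f201982 IH) (Lpr_gt (f201975 IH) (Lpe (f59316 IH) (Lpr_et (f204975 IH) (Lpr_gt (f56618 IH) (Lpr_dt (f503176 IH) (Lpe (f503175 IH) (Lpr_df (f407956 IH) (Lpr_et (f407958 IH) (Lpn (LP (LK LD1_c12 LD2_c23 LD3_c47)))))))))))))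
theorem f503181 : Led Lsl_gt (LP (LK LD1_c12 LD2_c23 LD3_c47)) = (LP (LK LD1_c17 LD2_c15 LD3_c20)) :=
  Leop (Lpr_gf (f503180 IH) (Lpn (LP (LK LD1_c12 LD2_c23 LD3_c47))))
theorem seed_129 : LEOK LG_g (LK LD1_c12 LD2_c23 LD3_c47) :=
  Leoe_g (LK LD1_c12 LD2_c23 LD3_c47) (f503181 IH)
def v1833 : LQ := Led Lsl_at (LP (LK LD1_c1 LD2_c29 LD3_c7))
theorem f503213 : Led Lsl_at (LP (LK LD1_c1 LD2_c29 LD3_c7)) = v1833 :=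
  Lrfl
theorem f503214 : Led Lsl_af (LP (LK LD1_c1 LD2_c29 LD3_c7)) = v1833 :=
  Lgr Lrot0 (Lpr_at (f503213 IH) (Lpn v1833))
theorem f503217 : Led Lsl_ft (LP (LK LD1_c1 LD2_c29 LD3_c8)) = v1833 :=
  Lgr Lrot2 (Lpr_gt (K24.f25646 IH) (Lpr_gt (K29.f57673 IH) (Lpr_af (f503214 IH) (Lpn v1833))))
theorem f443958 : Led Lsl_et (LP (LK LD1_c1 LD2_c27 LD3_c25)) = (LP (LK LD1_c1 LD2_c29 LD3_c7)) :=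
  Lgr Lrot121 (Lpr_dt (K24.f22959 IH) (Lpe (K9.f23226 IH) (Lpe (K16.f23225 IH) (Lpr_et (K24.f25525 IH) (Lpe (K0.f23255 IH) (Lpe (K0.f23256 IH) (Lpe (K0.f25408 IH) (Lpr_gf (K0.f25526 IH) (Lpe (K0.f23254 IH) (Lpr_gf (K29.f443948 IH) (Lpn (LP (LK LD1_c1 LD2_c29 LD3_c7)))))))))))))
def v1797 : LQ := Led Lsl_ft (LP (LK LD1_c1 LD2_c27 LD3_c21))
theorem f502962 : Led Lsl_ft (LP (LK LD1_c1 LD2_c27 LD3_c21)) = v1797 :=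
  Lrfl
def v1796 : LQ := Led Lsl_at (LP (LK LD1_c1 LD2_c27 LD3_c21))
theorem f502955 : Led Lsl_at (LP (LK LD1_c1 LD2_c27 LD3_c21)) = v1796 :=
  Lrfl
theorem f502956 : Led Lsl_af (LP (LK LD1_c1 LD2_c27 LD3_c21)) = v1796 :=
  Lgr Lrot0 (Lpr_at (f502955 IH) (Lpn v1796))
def v461 : LQ := Led Lsl_at (LP (LK LD1_c0 LD2_c40 LD3_c25))
theorem f453009 : Led Lsl_at (LP (LK LD1_c0 LD2_c40 LD3_c25)) = v461 :=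
  Lrfl
theorem f453010 : Led Lsl_af (LP (LK LD1_c0 LD2_c40 LD3_c25)) = v461 :=
  Lgr Lrot0 (Lpr_at (f453009 IH) (Lpn v461))
theorem f502957 : Led Lsl_df v461 = v1796 :=
  Lgr Lrot18 (Lpe (f453010 IH) (Lpr_dt (K16.f59834 IH) (Lpr_at (f502955 IH) (Lpn v1796))))
theorem f453013 : Led Lsl_ft (LP (LK LD1_c0 LD2_c40 LD3_c26)) = v461 :=
  Lgr Lrot2 (Lpr_gt (K9.f22958 IH) (Lpr_gt (K16.f59833 IH) (Lpr_af (f453010 IH) (Lpn v461))))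
theorem f453015 : Led Lsl_ff (LP (LK LD1_c0 LD2_c40 LD3_c26)) = v461 :=
  Lgr Lrot3 (Lpr_ft (f453013 IH) (Lpn v461))
theorem f502959 : Led Lsl_ft (LP (LK LD1_c1 LD2_c27 LD3_c25)) = v1796 :=
  Lgr Lrot54 (Lpe (K16.f141012 IH) (Lpr_ff (f453015 IH) (Lpr_df (f502957 IH) (Lpn v1796))))
theorem f502963 : Led Lsl_af (LP (LK LD1_c1 LD2_c27 LD3_c25)) = v1797 :=
  Lgr Lrot45 (Lpr_ft (f502959 IH) (Lpe (f502956 IH) (Lpr_ft (f502962 IH) (Lpn v1797))))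
theorem f503215 : Led Lsl_ef v1797 = v1833 :=
  Lgr Lrot20 (Lpe (f502963 IH) (Lpr_et (f443958 IH) (Lpr_at (f503213 IH) (Lpn v1833))))
theorem f502965 : Led Lsl_ff (LP (LK LD1_c1 LD2_c27 LD3_c21)) = v1797 :=
  Lgr Lrot3 (Lpr_ft (f502962 IH) (Lpn v1797))
theorem f503218 : Led Lsl_ff (LP (LK LD1_c3 LD2_c6 LD3_c8)) = (LP (LK LD1_c3 LD2_c2 LD3_c53)) :=
  Lgr Lrot72 (Lpr_et (K24.f57603 IH) (Lpr_ft (f503217 IH) (Lpe (f503215 IH) (Lpe (f502965 IH) (Lpr_et (K29.f57166 IH) (Lpn (LP (LK LD1_c3 LD2_c2 LD3_c53))))))))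
theorem f503219 : Led Lsl_ft (LP (LK LD1_c3 LD2_c2 LD3_c53)) = (LP (LK LD1_c3 LD2_c6 LD3_c8)) :=
  Leop (Lpr_ff (f503218 IH) (Lpn (LP (LK LD1_c3 LD2_c2 LD3_c53))))
theorem seed_130 : LEOK LG_f (LK LD1_c3 LD2_c2 LD3_c53) :=
  Leoe_f (LK LD1_c3 LD2_c2 LD3_c53) (f503219 IH)
def v1842 : LQ := Led Lsl_et (LP (LK LD1_c1 LD2_c29 LD3_c38))
theorem f504510 : Led Lsl_et (LP (LK LD1_c1 LD2_c29 LD3_c38)) = v1842 :=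
  Lrfl
theorem f504513 : Led Lsl_ef (LP (LK LD1_c1 LD2_c29 LD3_c38)) = v1842 :=
  Lgr Lrot88 (Lpr_et (f504510 IH) (Lpn v1842))
theorem f444001 : Led Lsl_cf (LP (LK LD1_c0 LD2_c44 LD3_c34)) = (LP (LK LD1_c1 LD2_c24 LD3_c26)) :=
  Lgr Lrot11 (Lpr_ct (K29.f443997 IH) (Lpn (LP (LK LD1_c1 LD2_c24 LD3_c26))))
theorem f415411 : Led Lsl_dt (LP (LK LD1_c0 LD2_c44 LD3_c34)) = (LP (LK LD1_c1 LD2_c36 LD3_c9)) :=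
  Lre_d IH (LK LD1_c0 LD2_c44 LD3_c34) (LK LD1_c1 LD2_c36 LD3_c9) Lrfl Lrfl
theorem f416957 : Led Lsl_ct (LP (LK LD1_c3 LD2_c19 LD3_c29)) = (LP (LK LD1_c1 LD2_c36 LD3_c9)) :=
  Lre_c IH (LK LD1_c3 LD2_c19 LD3_c29) (LK LD1_c1 LD2_c36 LD3_c9) Lrfl Lrfl
theorem f153592 : Led Lsl_af (LP (LK LD1_c0 LD2_c38 LD3_c56)) = (LP (LK LD1_c1 LD2_c5 LD3_c7)) :=
  Lgr Lrot68 (Lpe (K11.f61870 IH) (Lpr_at (K7.f153576 IH) (Lpe (K8.f61062 IH) (Lpn (LP (LK LD1_c1 LD2_c5 LD3_c7))))))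
theorem f61115 : Led Lsl_ft (LP (LK LD1_c2 LD2_c16 LD3_c30)) = (LP (LK LD1_c1 LD2_c5 LD3_c7)) :=
  Lre_f IH (LK LD1_c2 LD2_c16 LD3_c30) (LK LD1_c1 LD2_c5 LD3_c7) Lrfl Lrfl
theorem f435525 : Led Lsl_gf (LP (LK LD1_c1 LD2_c24 LD3_c26)) = (LP (LK LD1_c2 LD2_c16 LD3_c30)) :=
  Lgr Lrot47 (Lpr_gt (K29.f68641 IH) (Lpr_af (f153592 IH) (Lpe (f61115 IH) (Lpn (LP (LK LD1_c2 LD2_c16 LD3_c30))))))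
theorem f61098 : Led Lsl_cf (LP (LK LD1_c2 LD2_c16 LD3_c30)) = (LP (LK LD1_c1 LD2_c6 LD3_c14)) :=
  Lgr Lrot11 (Lpr_ct (K11.f61076 IH) (Lpn (LP (LK LD1_c1 LD2_c6 LD3_c14))))
theorem f82583 : Led Lsl_gt (LP (LK LD1_c1 LD2_c30 LD3_c27)) = (LP (LK LD1_c3 LD2_c8 LD3_c32)) :=
  Lre_g IH (LK LD1_c1 LD2_c30 LD3_c27) (LK LD1_c3 LD2_c8 LD3_c32) Lrfl Lrfl
theorem f435556 : Led Lsl_ct (LP (LK LD1_c3 LD2_c8 LD3_c32)) = (LP (LK LD1_c6 LD2_c21 LD3_c42)) :=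
  Lre_c IH (LK LD1_c3 LD2_c8 LD3_c32) (LK LD1_c6 LD2_c21 LD3_c42) Lrfl Lrfl
theorem f444109 : Led Lsl_gf (LP (LK LD1_c3 LD2_c19 LD3_c29)) = (LP (LK LD1_c6 LD2_c21 LD3_c42)) :=
  Lgr Lrot104 (Lpr_ct (f416957 IH) (Lpe (f415411 IH) (Lpr_cf (f444001 IH) (Lpr_gf (f435525 IH) (Lpr_cf (f61098 IH) (Lpe (K24.f435550 IH) (Lpe (K24.f82591 IH) (Lpr_gt (f82583 IH) (Lpr_ct (f435556 IH) (Lpn (LP (LK LD1_c6 LD2_c21 LD3_c42))))))))))))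
theorem f86026 : Led Lsl_dt (LP (LK LD1_c2 LD2_c18 LD3_c26)) = (LP (LK LD1_c4 LD2_c42 LD3_c14)) :=
  Lre_d IH (LK LD1_c2 LD2_c18 LD3_c26) (LK LD1_c4 LD2_c42 LD3_c14) Lrfl Lrfl
theorem f153500 : Led Lsl_af (LP (LK LD1_c3 LD2_c8 LD3_c56)) = (LP (LK LD1_c4 LD2_c42 LD3_c14)) :=
  Lgr Lrot117 (Lpr_dt (K11.f153499 IH) (Lpr_at (K7.f153486 IH) (Lpr_dt (f86026 IH) (Lpn (LP (LK LD1_c4 LD2_c42 LD3_c14))))))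
theorem f84031 : Led Lsl_gt (LP (LK LD1_c6 LD2_c22 LD3_c28)) = (LP (LK LD1_c3 LD2_c8 LD3_c56)) :=
  Lre_g IH (LK LD1_c6 LD2_c22 LD3_c28) (LK LD1_c3 LD2_c8 LD3_c56) Lrfl Lrfl
theorem f61117 : Led Lsl_ft (LP (LK LD1_c9 LD2_c18 LD3_c51)) = (LP (LK LD1_c4 LD2_c42 LD3_c14)) :=
  Lre_f IH (LK LD1_c9 LD2_c18 LD3_c51) (LK LD1_c4 LD2_c42 LD3_c14) Lrfl Lrfl
theorem f435635 : Led Lsl_gf (LP (LK LD1_c6 LD2_c22 LD3_c28)) = (LP (LK LD1_c9 LD2_c18 LD3_c51)) :=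
  Lgr Lrot47 (Lpr_gt (f84031 IH) (Lpr_af (f153500 IH) (Lpe (f61117 IH) (Lpn (LP (LK LD1_c9 LD2_c18 LD3_c51))))))
theorem f153517 : Led Lsl_at (LP (LK LD1_c3 LD2_c8 LD3_c57)) = (LP (LK LD1_c4 LD2_c42 LD3_c15)) :=
  Lgr Lrot100 (Lpr_af (K7.f153504 IH) (Lpn (LP (LK LD1_c4 LD2_c42 LD3_c15))))
theorem f204295 : Led Lsl_ft (LP (LK LD1_c1 LD2_c30 LD3_c35)) = (LP (LK LD1_c3 LD2_c8 LD3_c57)) :=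
  Lre_f IH (LK LD1_c1 LD2_c30 LD3_c35) (LK LD1_c3 LD2_c8 LD3_c57) Lrfl Lrfl
theorem f435569 : Led Lsl_gt (LP (LK LD1_c3 LD2_c8 LD3_c53)) = (LP (LK LD1_c4 LD2_c42 LD3_c15)) :=
  Lgr Lrot46 (Lpe (K29.f154399 IH) (Lpr_ft (f204295 IH) (Lpr_at (f153517 IH) (Lpn (LP (LK LD1_c4 LD2_c42 LD3_c15))))))
theorem f416967 : Led Lsl_ct (LP (LK LD1_c1 LD2_c36 LD3_c11)) = (LP (LK LD1_c3 LD2_c8 LD3_c53)) :=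
  Lgr Lrot59 (Lpr_cf (K29.f416962 IH) (Lpn (LP (LK LD1_c3 LD2_c8 LD3_c53))))
theorem f146106 : Led Lsl_et (LP (LK LD1_c1 LD2_c36 LD3_c28)) = (LP (LK LD1_c3 LD2_c20 LD3_c6)) :=
  Lre_e IH (LK LD1_c1 LD2_c36 LD3_c28) (LK LD1_c3 LD2_c20 LD3_c6) Lrfl Lrfl
theorem f415349 : Led Lsl_et (LP (LK LD1_c3 LD2_c2 LD3_c54)) = (LP (LK LD1_c3 LD2_c20 LD3_c5)) :=
  Lgr Lrot71 (Lpr_df (K29.f415347 IH) (Lpe (K29.f415333 IH) (Lpr_df (K29.f146102 IH) (Lpe (f146106 IH) (Lpe (K16.f135417 IH) (Lpn (LP (LK LD1_c3 LD2_c20 LD3_c5))))))))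
theorem f135513 : Led Lsl_dt (LP (LK LD1_c0 LD2_c44 LD3_c61)) = (LP (LK LD1_c1 LD2_c37 LD3_c17)) :=
  Lre_d IH (LK LD1_c0 LD2_c44 LD3_c61) (LK LD1_c1 LD2_c37 LD3_c17) Lrfl Lrfl
theorem f25516 : Led Lsl_et (LP (LK LD1_c0 LD2_c44 LD3_c61)) = (LP (LK LD1_c1 LD2_c37 LD3_c18)) :=
  Lre_e IH (LK LD1_c0 LD2_c44 LD3_c61) (LK LD1_c1 LD2_c37 LD3_c18) Lrfl Lrfl
theorem f68456 : Led Lsl_dt (LP (LK LD1_c1 LD2_c8 LD3_c8)) = (LP (LK LD1_c0 LD2_c31 LD3_c13)) :=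
  Lre_d IH (LK LD1_c1 LD2_c8 LD3_c8) (LK LD1_c0 LD2_c31 LD3_c13) Lrfl Lrfl
theorem f20101 : Led Lsl_gt (LP (LK LD1_c1 LD2_c8 LD3_c7)) = (LP (LK LD1_c0 LD2_c31 LD3_c13)) :=
  Lre_g IH (LK LD1_c1 LD2_c8 LD3_c7) (LK LD1_c0 LD2_c31 LD3_c13) Lrfl Lrfl
theorem f27091 : Led Lsl_dt (LP (LK LD1_c2 LD2_c21 LD3_c56)) = (LP (LK LD1_c1 LD2_c8 LD3_c7)) :=
  Lre_d IH (LK LD1_c2 LD2_c21 LD3_c56) (LK LD1_c1 LD2_c8 LD3_c7) Lrfl Lrfl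
theorem f20169 : Led Lsl_et (LP (LK LD1_c1 LD2_c27 LD3_c30)) = (LP (LK LD1_c0 LD2_c40 LD3_c29)) :=
  Lre_e IH (LK LD1_c1 LD2_c27 LD3_c30) (LK LD1_c0 LD2_c40 LD3_c29) Lrfl Lrfl
theorem f135498 : Led Lsl_gf (LP (LK LD1_c2 LD2_c21 LD3_c56)) = (LP (LK LD1_c4 LD2_c41 LD3_c16)) :=
  Lgr Lrot138 (Lpr_dt (f27091 IH) (Lpr_gt (f20101 IH) (Lpe (f68456 IH) (Lpe (K6.f113159 IH) (Lpr_gt (K6.f135484 IH) (Lpe (f20169 IH) (Lpr_dt (K0.f20168 IH) (Lpr_gt (K24.f20095 IH) (Lpe (K24.f20115 IH) (Lpe (K24.f20131 IH) (Lpn (LP (LK LD1_c4 LD2_c41 LD3_c16)))))))))))))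
theorem f135504 : Led Lsl_et (LP (LK LD1_c4 LD2_c48 LD3_c6)) = (LP (LK LD1_c2 LD2_c21 LD3_c56)) :=
  Lre_e IH (LK LD1_c4 LD2_c48 LD3_c6) (LK LD1_c2 LD2_c21 LD3_c56) Lrfl Lrfl
theorem f135505 : Led Lsl_dt (LP (LK LD1_c4 LD2_c48 LD3_c6)) = (LP (LK LD1_c9 LD2_c29 LD3_c0)) :=
  Lre_d IH (LK LD1_c4 LD2_c48 LD3_c6) (LK LD1_c9 LD2_c29 LD3_c0) Lrfl Lrfl
theorem f135506 : Led Lsl_gt (LP (LK LD1_c9 LD2_c29 LD3_c0)) = (LP (LK LD1_c4 LD2_c50 LD3_c6)) :=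
  Lgr Lrot112 (Lpe (f135505 IH) (Lpr_et (f135504 IH) (Lpr_gf (f135498 IH) (Lpr_ef (K24.f20131 IH) (Lpr_dt (K24.f20115 IH) (Lpe (K24.f20095 IH) (Lpe (K0.f20168 IH) (Lpe (K0.f20170 IH) (Lpe (K29.f20171 IH) (Lpr_dt (K29.f23811 IH) (Lpn (LP (LK LD1_c4 LD2_c50 LD3_c6)))))))))))))
theorem f135508 : Led Lsl_et (LP (LK LD1_c4 LD2_c48 LD3_c7)) = (LP (LK LD1_c9 LD2_c29 LD3_c0)) :=
  Lre_e IH (LK LD1_c4 LD2_c48 LD3_c7) (LK LD1_c9 LD2_c29 LD3_c0) Lrfl Lrfl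
theorem f20107 : Led Lsl_dt (LP (LK LD1_c4 LD2_c48 LD3_c7)) = (LP (LK LD1_c2 LD2_c21 LD3_c57)) :=
  Lre_d IH (LK LD1_c4 LD2_c48 LD3_c7) (LK LD1_c2 LD2_c21 LD3_c57) Lrfl Lrfl
theorem f25542 : Led Lsl_dt (LP (LK LD1_c1 LD2_c37 LD3_c15)) = (LP (LK LD1_c0 LD2_c44 LD3_c60)) :=
  Lre_d IH (LK LD1_c1 LD2_c37 LD3_c15) (LK LD1_c0 LD2_c44 LD3_c60) Lrfl Lrfl
theorem f25541 : Led Lsl_et (LP (LK LD1_c1 LD2_c37 LD3_c15)) = (LP (LK LD1_c3 LD2_c3 LD3_c5)) :=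
  Lre_e IH (LK LD1_c1 LD2_c37 LD3_c15) (LK LD1_c3 LD2_c3 LD3_c5) Lrfl Lrfl
theorem f25513 : Led Lsl_dt (LP (LK LD1_c3 LD2_c6 LD3_c10)) = (LP (LK LD1_c1 LD2_c37 LD3_c18)) :=
  Lgr Lrot42 (Lpr_df (K0.f25408 IH) (Lpn (LP (LK LD1_c1 LD2_c37 LD3_c18))))
theorem f135509 : Led Lsl_gf (LP (LK LD1_c2 LD2_c21 LD3_c57)) = (LP (LK LD1_c1 LD2_c37 LD3_c18)) :=
  Lgr Lrot134 (Lpe (f20107 IH) (Lpr_et (f135508 IH) (Lpr_gt (f135506 IH) (Lpe (K29.f23833 IH) (Lpr_dt (K29.f23809 IH) (Lpr_gt (K24.f20139 IH) (Lpe (f25542 IH) (Lpr_et (f25541 IH) (Lpe (K0.f25526 IH) (Lpr_dt (f25513 IH) (Lpn (LP (LK LD1_c1 LD2_c37 LD3_c18)))))))))))))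
theorem f20103 : Led Lsl_dt (LP (LK LD1_c2 LD2_c21 LD3_c57)) = (LP (LK LD1_c4 LD2_c48 LD3_c7)) :=
  Lre_d IH (LK LD1_c2 LD2_c21 LD3_c57) (LK LD1_c4 LD2_c48 LD3_c7) Lrfl Lrfl
theorem f113288 : Led Lsl_et (LP (LK LD1_c2 LD2_c21 LD3_c56)) = (LP (LK LD1_c4 LD2_c48 LD3_c6)) :=
  Lre_e IH (LK LD1_c2 LD2_c21 LD3_c56) (LK LD1_c4 LD2_c48 LD3_c6) Lrfl Lrfl
theorem f135494 : Led Lsl_gf (LP (LK LD1_c4 LD2_c48 LD3_c6)) = (LP (LK LD1_c2 LD2_c22 LD3_c58)) :=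
  Lgr Lrot141 (Lpe (f113288 IH) (Lpr_dt (f27091 IH) (Lpr_gt (f20101 IH) (Lpe (f68456 IH) (Lpe (K6.f113159 IH) (Lpr_gt (K6.f135484 IH) (Lpr_dt (K2.f7488 IH) (Lpr_gt (K5.f23830 IH) (Lpe (K7.f7501 IH) (Lpr_et (K6.f23831 IH) (Lpn (LP (LK LD1_c2 LD2_c22 LD3_c58)))))))))))))
theorem f20126 : Led Lsl_dt (LP (LK LD1_c9 LD2_c29 LD3_c0)) = (LP (LK LD1_c4 LD2_c48 LD3_c6)) :=
  Lre_d IH (LK LD1_c9 LD2_c29 LD3_c0) (LK LD1_c4 LD2_c48 LD3_c6) Lrfl Lrfl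
theorem f20125 : Led Lsl_et (LP (LK LD1_c9 LD2_c29 LD3_c0)) = (LP (LK LD1_c4 LD2_c48 LD3_c7)) :=
  Lre_e IH (LK LD1_c9 LD2_c29 LD3_c0) (LK LD1_c4 LD2_c48 LD3_c7) Lrfl Lrfl
theorem f20961 : Led Lsl_gt (LP (LK LD1_c1 LD2_c27 LD3_c29)) = (LP (LK LD1_c0 LD2_c40 LD3_c28)) :=
  Lre_g IH (LK LD1_c1 LD2_c27 LD3_c29) (LK LD1_c0 LD2_c40 LD3_c28) Lrfl Lrfl
theorem f23289 : Led Lsl_dt (LP (LK LD1_c3 LD2_c3 LD3_c9)) = (LP (LK LD1_c1 LD2_c27 LD3_c29)) :=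
  Lre_d IH (LK LD1_c3 LD2_c3 LD3_c9) (LK LD1_c1 LD2_c27 LD3_c29) Lrfl Lrfl
theorem f146100 : Led Lsl_gt (LP (LK LD1_c4 LD2_c48 LD3_c7)) = (LP (LK LD1_c3 LD2_c3 LD3_c9)) :=
  Lgr Lrot137 (Lpe (f20125 IH) (Lpr_dt (f20126 IH) (Lpr_gf (f135494 IH) (Lpr_df (K6.f146094 IH) (Lpr_et (K6.f62602 IH) (Lpe (K3.f20099 IH) (Lpe (f20169 IH) (Lpr_dt (K0.f20168 IH) (Lpe (f20961 IH) (Lpe (f23289 IH) (Lpn (LP (LK LD1_c3 LD2_c3 LD3_c9)))))))))))))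
theorem f23293 : Led Lsl_dt (LP (LK LD1_c1 LD2_c27 LD3_c29)) = (LP (LK LD1_c3 LD2_c3 LD3_c9)) :=
  Lre_d IH (LK LD1_c1 LD2_c27 LD3_c29) (LK LD1_c3 LD2_c3 LD3_c9) Lrfl Lrfl
theorem f23288 : Led Lsl_et (LP (LK LD1_c1 LD2_c27 LD3_c29)) = (LP (LK LD1_c3 LD2_c3 LD3_c10)) :=
  Lre_e IH (LK LD1_c1 LD2_c27 LD3_c29) (LK LD1_c3 LD2_c3 LD3_c10) Lrfl Lrfl
theorem f415351 : Led Lsl_gt (LP (LK LD1_c3 LD2_c3 LD3_c10)) = (LP (LK LD1_c3 LD2_c20 LD3_c5)) :=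
  Lgr Lrot131 (Lpe (f23288 IH) (Lpr_dt (f23293 IH) (Lpe (f146100 IH) (Lpe (f20103 IH) (Lpr_gf (f135509 IH) (Lpe (f25516 IH) (Lpr_dt (f135513 IH) (Lpe (K29.f25606 IH) (Lpe (K29.f415345 IH) (Lpr_et (f415349 IH) (Lpn (LP (LK LD1_c3 LD2_c20 LD3_c5)))))))))))))
theorem f20102 : Led Lsl_et (LP (LK LD1_c2 LD2_c21 LD3_c57)) = (LP (LK LD1_c1 LD2_c8 LD3_c7)) :=
  Lre_e IH (LK LD1_c2 LD2_c21 LD3_c57) (LK LD1_c1 LD2_c8 LD3_c7) Lrfl Lrfl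
theorem f415355 : Led Lsl_gf (LP (LK LD1_c1 LD2_c8 LD3_c7)) = (LP (LK LD1_c0 LD2_c44 LD3_c36)) :=
  Lgr Lrot141 (Lpe (f20102 IH) (Lpr_dt (f20103 IH) (Lpr_gt (f146100 IH) (Lpe (f23293 IH) (Lpr_et (f23288 IH) (Lpr_gt (f415351 IH) (Lpr_dt (K16.f135417 IH) (Lpr_gt (K24.f135415 IH) (Lpe (K6.f135390 IH) (Lpe (K6.f146064 IH) (Lpn (LP (LK LD1_c0 LD2_c44 LD3_c36)))))))))))))
theorem f146096 : Led Lsl_gt (LP (LK LD1_c4 LD2_c48 LD3_c6)) = (LP (LK LD1_c3 LD2_c20 LD3_c14)) :=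
  Lgr Lrot46 (Lpr_gf (f135494 IH) (Lpr_ft (K6.f146085 IH) (Lpe (K6.f135400 IH) (Lpn (LP (LK LD1_c3 LD2_c20 LD3_c14))))))
theorem f415361 : Led Lsl_gt (LP (LK LD1_c0 LD2_c44 LD3_c43)) = (LP (LK LD1_c1 LD2_c8 LD3_c14)) :=
  Lgr Lrot112 (Lpe (K29.f57182 IH) (Lpr_et (K6.f62597 IH) (Lpe (f146096 IH) (Lpe (f113288 IH) (Lpr_dt (f27091 IH) (Lpr_gf (f415355 IH) (Lpe (K6.f139842 IH) (Lpr_gf (K24.f146011 IH) (Lpr_ef (K24.f135519 IH) (Lpr_dt (K24.f84346 IH) (Lpn (LP (LK LD1_c1 LD2_c8 LD3_c14)))))))))))))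
theorem f416948 : Led Lsl_gt (LP (LK LD1_c1 LD2_c36 LD3_c11)) = (LP (LK LD1_c2 LD2_c21 LD3_c61)) :=
  Lgr Lrot139 (Lpe (K29.f416935 IH) (Lpr_gf (K29.f416944 IH) (Lpe (K29.f20142 IH) (Lpr_dt (K24.f20128 IH) (Lpr_gf (K29.f416679 IH) (Lpe (K24.f416665 IH) (Lpe (K24.f416666 IH) (Lpe (f415361 IH) (Lpe (K24.f143086 IH) (Lpr_dt (K6.f92219 IH) (Lpn (LP (LK LD1_c2 LD2_c21 LD3_c61)))))))))))))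
theorem f416938 : Led Lsl_ef (LP (LK LD1_c1 LD2_c36 LD3_c11)) = (LP (LK LD1_c1 LD2_c36 LD3_c26)) :=
  Lgr Lrot73 (Lpr_dt (K29.f24684 IH) (Lpr_et (K29.f416936 IH) (Lpe (K16.f415415 IH) (Lpr_et (K16.f415412 IH) (Lpr_dt (K17.f57141 IH) (Lpn (LP (LK LD1_c1 LD2_c36 LD3_c26))))))))
theorem f57670 : Led Lsl_et (LP (LK LD1_c0 LD2_c45 LD3_c5)) = (LP (LK LD1_c1 LD2_c37 LD3_c27)) :=
  Lre_e IH (LK LD1_c0 LD2_c45 LD3_c5) (LK LD1_c1 LD2_c37 LD3_c27) Lrfl Lrfl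
theorem f24697 : Led Lsl_dt (LP (LK LD1_c1 LD2_c36 LD3_c9)) = (LP (LK LD1_c0 LD2_c44 LD3_c34)) :=
  Lre_d IH (LK LD1_c1 LD2_c36 LD3_c9) (LK LD1_c0 LD2_c44 LD3_c34) Lrfl Lrfl
theorem f24698 : Led Lsl_et (LP (LK LD1_c1 LD2_c36 LD3_c9)) = (LP (LK LD1_c3 LD2_c19 LD3_c30)) :=
  Lre_e IH (LK LD1_c1 LD2_c36 LD3_c9) (LK LD1_c3 LD2_c19 LD3_c30) Lrfl Lrfl
theorem f57671 : Led Lsl_gt (LP (LK LD1_c1 LD2_c37 LD3_c27)) = (LP (LK LD1_c3 LD2_c19 LD3_c30)) :=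
  Lgr Lrot131 (Lpe (f57670 IH) (Lpr_dt (K7.f25700 IH) (Lpe (K5.f25682 IH) (Lpe (K0.f25623 IH) (Lpr_gf (K1.f57600 IH) (Lpe (K5.f24679 IH) (Lpr_dt (K5.f24611 IH) (Lpe (K29.f24630 IH) (Lpe (f24697 IH) (Lpr_et (f24698 IH) (Lpn (LP (LK LD1_c3 LD2_c19 LD3_c30)))))))))))))
theorem f135403 : Led Lsl_gt (LP (LK LD1_c3 LD2_c19 LD3_c30)) = (LP (LK LD1_c4 LD2_c48 LD3_c41)) :=
  Lgr Lrot46 (Lpe (f57671 IH) (Lpe (K6.f135261 IH) (Lpr_at (K6.f135398 IH) (Lpn (LP (LK LD1_c4 LD2_c48 LD3_c41))))))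
theorem f416954 : Led Lsl_gf (LP (LK LD1_c0 LD2_c44 LD3_c34)) = (LP (LK LD1_c1 LD2_c8 LD3_c9)) :=
  Lgr Lrot134 (Lpe (f24697 IH) (Lpr_et (f24698 IH) (Lpr_gt (f135403 IH) (Lpe (K6.f84625 IH) (Lpr_dt (K6.f135392 IH) (Lpr_gt (K24.f416812 IH) (Lpe (K24.f57142 IH) (Lpe (f416938 IH) (Lpr_gt (f416948 IH) (Lpr_dt (K6.f92120 IH) (Lpn (LP (LK LD1_c1 LD2_c8 LD3_c9)))))))))))))
theorem f435637 : Led Lsl_dt (LP (LK LD1_c6 LD2_c22 LD3_c28)) = (LP (LK LD1_c3 LD2_c19 LD3_c29)) :=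
  Lgr Lrot105 (Lpr_gf (f435635 IH) (Lpe (K11.f61104 IH) (Lpe (f435569 IH) (Lpe (f416967 IH) (Lpr_gt (f416948 IH) (Lpr_dt (K6.f92120 IH) (Lpe (f416954 IH) (Lpr_dt (f415411 IH) (Lpe (f416957 IH) (Lpn (LP (LK LD1_c3 LD2_c19 LD3_c29))))))))))))
theorem f435642 : Led Lsl_df (LP (LK LD1_c6 LD2_c22 LD3_c28)) = (LP (LK LD1_c3 LD2_c19 LD3_c29)) :=
  Lgr Lrot38 (Lpr_dt (f435637 IH) (Lpn (LP (LK LD1_c3 LD2_c19 LD3_c29))))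
theorem f84029 : Led Lsl_et (LP (LK LD1_c1 LD2_c30 LD3_c35)) = (LP (LK LD1_c0 LD2_c41 LD3_c55)) :=
  Lre_e IH (LK LD1_c1 LD2_c30 LD3_c35) (LK LD1_c0 LD2_c41 LD3_c55) Lrfl Lrfl
theorem f58480 : Led Lsl_dt (LP (LK LD1_c3 LD2_c6 LD3_c11)) = (LP (LK LD1_c6 LD2_c17 LD3_c59)) :=
  Lre_d IH (LK LD1_c3 LD2_c6 LD3_c11) (LK LD1_c6 LD2_c17 LD3_c59) Lrfl Lrfl
theorem f84035 : Led Lsl_gt (LP (LK LD1_c6 LD2_c17 LD3_c59)) = (LP (LK LD1_c12 LD2_c12 LD3_c11)) :=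
  Lre_g IH (LK LD1_c6 LD2_c17 LD3_c59) (LK LD1_c12 LD2_c12 LD3_c11) Lrfl Lrfl
theorem f57135 : Led Lsl_gt (LP (LK LD1_c1 LD2_c36 LD3_c29)) = (LP (LK LD1_c0 LD2_c44 LD3_c42)) :=
  Lre_g IH (LK LD1_c1 LD2_c36 LD3_c29) (LK LD1_c0 LD2_c44 LD3_c42) Lrfl Lrfl
theorem f135427 : Led Lsl_gf (LP (LK LD1_c1 LD2_c36 LD3_c29)) = (LP (LK LD1_c2 LD2_c22 LD3_c14)) :=
  Lgr Lrot47 (Lpr_gt (f57135 IH) (Lpr_af (K6.f135413 IH) (Lpe (K6.f84344 IH) (Lpn (LP (LK LD1_c2 LD2_c22 LD3_c14))))))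
theorem f69110 : Led Lsl_gt (LP (LK LD1_c3 LD2_c11 LD3_c33)) = (LP (LK LD1_c1 LD2_c32 LD3_c8)) :=
  Lre_g IH (LK LD1_c3 LD2_c11 LD3_c33) (LK LD1_c1 LD2_c32 LD3_c8) Lrfl Lrfl
theorem f416814 : Led Lsl_ct (LP (LK LD1_c1 LD2_c36 LD3_c29)) = (LP (LK LD1_c3 LD2_c11 LD3_c33)) :=
  Lgr Lrot152 (Lpr_gf (f135427 IH) (Lpe (K6.f135390 IH) (Lpr_gt (K24.f416812 IH) (Lpr_ct (K16.f415424 IH) (Lpr_gt (K16.f59823 IH) (Lpr_ct (K24.f69058 IH) (Lpe (K9.f25848 IH) (Lpe (K7.f69060 IH) (Lpe (f69110 IH) (Lpn (LP (LK LD1_c3 LD2_c11 LD3_c33))))))))))))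
theorem f23837 : Led Lsl_et (LP (LK LD1_c3 LD2_c20 LD3_c8)) = (LP (LK LD1_c1 LD2_c36 LD3_c29)) :=
  Lre_e IH (LK LD1_c3 LD2_c20 LD3_c8) (LK LD1_c1 LD2_c36 LD3_c29) Lrfl Lrfl
theorem f416824 : Led Lsl_et (LP (LK LD1_c3 LD2_c11 LD3_c33)) = (LP (LK LD1_c6 LD2_c27 LD3_c19)) :=
  Lre_e IH (LK LD1_c3 LD2_c11 LD3_c33) (LK LD1_c6 LD2_c27 LD3_c19) Lrfl Lrfl
theorem f416825 : Led Lsl_cf (LP (LK LD1_c3 LD2_c20 LD3_c8)) = (LP (LK LD1_c6 LD2_c27 LD3_c19)) :=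
  Lgr Lrot39 (Lpr_et (f23837 IH) (Lpr_ct (f416814 IH) (Lpr_et (f416824 IH) (Lpn (LP (LK LD1_c6 LD2_c27 LD3_c19))))))
theorem f416886 : Led Lsl_ct (LP (LK LD1_c3 LD2_c20 LD3_c8)) = (LP (LK LD1_c6 LD2_c27 LD3_c19)) :=
  Lgr Lrot59 (Lpr_cf (f416825 IH) (Lpn (LP (LK LD1_c6 LD2_c27 LD3_c19))))
theorem f57620 : Led Lsl_dt (LP (LK LD1_c1 LD2_c29 LD3_c8)) = (LP (LK LD1_c3 LD2_c6 LD3_c7)) :=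
  Lre_d IH (LK LD1_c1 LD2_c29 LD3_c8) (LK LD1_c3 LD2_c6 LD3_c7) Lrfl Lrfl
theorem f23866 : Led Lsl_et (LP (LK LD1_c3 LD2_c14 LD3_c28)) = (LP (LK LD1_c1 LD2_c33 LD3_c44)) :=
  Lre_e IH (LK LD1_c3 LD2_c14 LD3_c28) (LK LD1_c1 LD2_c33 LD3_c44) Lrfl Lrfl
theorem f23838 : Led Lsl_dt (LP (LK LD1_c3 LD2_c14 LD3_c28)) = (LP (LK LD1_c3 LD2_c20 LD3_c8)) :=
  Lre_d IH (LK LD1_c3 LD2_c14 LD3_c28) (LK LD1_c3 LD2_c20 LD3_c8) Lrfl Lrfl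
theorem f416134 : Led Lsl_gt (LP (LK LD1_c3 LD2_c6 LD3_c7)) = (LP (LK LD1_c3 LD2_c20 LD3_c8)) :=
  Lgr Lrot139 (Lpe (f57620 IH) (Lpe (K24.f58470 IH) (Lpe (K24.f23224 IH) (Lpr_dt (K0.f23215 IH) (Lpe (K16.f20137 IH) (Lpe (K24.f68367 IH) (Lpr_et (K24.f415306 IH) (Lpe (K24.f22522 IH) (Lpe (f23866 IH) (Lpr_dt (f23838 IH) (Lpn (LP (LK LD1_c3 LD2_c20 LD3_c8)))))))))))))
theorem f25647 : Led Lsl_dt (LP (LK LD1_c3 LD2_c6 LD3_c7)) = (LP (LK LD1_c1 LD2_c29 LD3_c8)) :=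
  Lre_d IH (LK LD1_c3 LD2_c6 LD3_c7) (LK LD1_c1 LD2_c29 LD3_c8) Lrfl Lrfl
theorem f140089 : Led Lsl_ct (LP (LK LD1_c1 LD2_c26 LD3_c11)) = (LP (LK LD1_c1 LD2_c29 LD3_c26)) :=
  Lgr Lrot59 (Lpr_cf (K9.f140086 IH) (Lpn (LP (LK LD1_c1 LD2_c29 LD3_c26))))
theorem f140092 : Led Lsl_ct (LP (LK LD1_c6 LD2_c18 LD3_c49)) = (LP (LK LD1_c3 LD2_c6 LD3_c40)) :=
  Lre_c IH (LK LD1_c6 LD2_c18 LD3_c49) (LK LD1_c3 LD2_c6 LD3_c40) Lrfl Lrfl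
theorem f416891 : Led Lsl_gf (LP (LK LD1_c6 LD2_c18 LD3_c49)) = (LP (LK LD1_c6 LD2_c27 LD3_c19)) :=
  Lgr Lrot104 (Lpr_ct (f140092 IH) (Lpe (K9.f67309 IH) (Lpe (f140089 IH) (Lpe (K29.f22979 IH) (Lpe (K29.f25168 IH) (Lpe (K24.f25646 IH) (Lpe (f25647 IH) (Lpr_gt (f416134 IH) (Lpr_ct (f416886 IH) (Lpn (LP (LK LD1_c6 LD2_c27 LD3_c19))))))))))))
theorem f25531 : Led Lsl_ct (LP (LK LD1_c6 LD2_c12 LD3_c46)) = (LP (LK LD1_c3 LD2_c3 LD3_c5)) :=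
  Lre_c IH (LK LD1_c6 LD2_c12 LD3_c46) (LK LD1_c3 LD2_c3 LD3_c5) Lrfl Lrfl
theorem f58548 : Led Lsl_af (LP (LK LD1_c11 LD2_c58 LD3_c36)) = (LP (LK LD1_c12 LD2_c12 LD3_c12)) :=
  Lgr Lrot50 (Lpr_et (K0.f7518 IH) (Lpe (K0.f7561 IH) (Lpr_et (K1.f58545 IH) (Lpn (LP (LK LD1_c12 LD2_c12 LD3_c12))))))
theorem f58547 : Led Lsl_ft (LP (LK LD1_c6 LD2_c17 LD3_c59)) = (LP (LK LD1_c12 LD2_c12 LD3_c12)) :=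
  Lre_f IH (LK LD1_c6 LD2_c17 LD3_c59) (LK LD1_c12 LD2_c12 LD3_c12) Lrfl Lrfl
theorem f443933 : Led Lsl_gf (LP (LK LD1_c11 LD2_c58 LD3_c36)) = (LP (LK LD1_c12 LD2_c12 LD3_c11)) :=
  Lgr Lrot76 (Lpr_af (f58548 IH) (Lpe (f58547 IH) (Lpr_gt (f84035 IH) (Lpn (LP (LK LD1_c12 LD2_c12 LD3_c11))))))
theorem f443964 : Led Lsl_dt (LP (LK LD1_c6 LD2_c18 LD3_c49)) = (LP (LK LD1_c12 LD2_c12 LD3_c11)) :=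
  Lgr Lrot57 (Lpr_gf (f416891 IH) (Lpe (f416886 IH) (Lpr_gt (K29.f443962 IH) (Lpr_dt (K29.f57674 IH) (Lpe (K29.f443948 IH) (Lpr_dt (K0.f23254 IH) (Lpe (f25531 IH) (Lpe (K0.f7541 IH) (Lpr_gf (f443933 IH) (Lpn (LP (LK LD1_c12 LD2_c12 LD3_c11))))))))))))
theorem f444120 : Led Lsl_et (LP (LK LD1_c6 LD2_c18 LD3_c49)) = (LP (LK LD1_c6 LD2_c21 LD3_c42)) :=
  Lgr Lrot121 (Lpr_dt (f443964 IH) (Lpe (f84035 IH) (Lpe (f58480 IH) (Lpr_et (K3.f25693 IH) (Lpr_gf (K2.f83939 IH) (Lpe (f84029 IH) (Lpr_dt (K11.f84030 IH) (Lpe (f84031 IH) (Lpr_df (f435642 IH) (Lpr_gf (f444109 IH) (Lpn (LP (LK LD1_c6 LD2_c21 LD3_c42)))))))))))))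
theorem f444127 : Led Lsl_ef (LP (LK LD1_c6 LD2_c18 LD3_c49)) = (LP (LK LD1_c6 LD2_c21 LD3_c42)) :=
  Lgr Lrot88 (Lpr_et (f444120 IH) (Lpn (LP (LK LD1_c6 LD2_c21 LD3_c42))))
theorem f444131 : Led Lsl_et (LP (LK LD1_c3 LD2_c6 LD3_c40)) = (LP (LK LD1_c3 LD2_c8 LD3_c32)) :=
  Lgr Lrot158 (Lpe (f140092 IH) (Lpr_ef (f444127 IH) (Lpe (f435556 IH) (Lpn (LP (LK LD1_c3 LD2_c8 LD3_c32))))))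
theorem f504515 : Led Lsl_dt (LP (LK LD1_c3 LD2_c8 LD3_c32)) = v1842 :=
  Lgr Lrot77 (Lpe (f444131 IH) (Lpe (K9.f67309 IH) (Lpe (K9.f61833 IH) (Lpe (K9.f79732 IH) (Lpr_ef (f504513 IH) (Lpn v1842))))))
theorem f444114 : Led Lsl_ct (LP (LK LD1_c6 LD2_c21 LD3_c42)) = (LP (LK LD1_c3 LD2_c8 LD3_c32)) :=
  Lre_c IH (LK LD1_c6 LD2_c21 LD3_c42) (LK LD1_c3 LD2_c8 LD3_c32) Lrfl Lrfl
theorem f413437 : Led Lsl_et (LP (LK LD1_c1 LD2_c27 LD3_c16)) = (LP (LK LD1_c3 LD2_c2 LD3_c38)) :=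
  Lre_e IH (LK LD1_c1 LD2_c27 LD3_c16) (LK LD1_c3 LD2_c2 LD3_c38) Lrfl Lrfl
theorem f504514 : Led Lsl_ct (LP (LK LD1_c3 LD2_c2 LD3_c38)) = v1842 :=
  Lgr Lrot15 (Lpe (f413437 IH) (Lpe (K17.f414621 IH) (Lpr_ef (f504513 IH) (Lpn v1842))))
theorem f24655 : Led Lsl_et (LP (LK LD1_c3 LD2_c19 LD3_c28)) = (LP (LK LD1_c1 LD2_c36 LD3_c7)) :=
  Lre_e IH (LK LD1_c3 LD2_c19 LD3_c28) (LK LD1_c1 LD2_c36 LD3_c7) Lrfl Lrfl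
theorem f24627 : Led Lsl_et (LP (LK LD1_c1 LD2_c36 LD3_c8)) = (LP (LK LD1_c0 LD2_c44 LD3_c33)) :=
  Lre_e IH (LK LD1_c1 LD2_c36 LD3_c8) (LK LD1_c0 LD2_c44 LD3_c33) Lrfl Lrfl
theorem f25232 : Led Lsl_gt (LP (LK LD1_c1 LD2_c7 LD3_c22)) = (LP (LK LD1_c0 LD2_c30 LD3_c54)) :=
  Lre_g IH (LK LD1_c1 LD2_c7 LD3_c22) (LK LD1_c0 LD2_c30 LD3_c54) Lrfl Lrfl
theorem f144062 : Led Lsl_dt (LP (LK LD1_c1 LD2_c36 LD3_c8)) = (LP (LK LD1_c1 LD2_c7 LD3_c22)) :=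
  Lgr Lrot136 (Lpr_et (f24627 IH) (Lpe (K9.f24620 IH) (Lpe (K9.f24619 IH) (Lpr_dt (K0.f24599 IH) (Lpe (K0.f9933 IH) (Lpe (K1.f7100 IH) (Lpr_gf (K0.f25397 IH) (Lpe (K7.f25198 IH) (Lpr_dt (K24.f144055 IH) (Lpe (f25232 IH) (Lpn (LP (LK LD1_c1 LD2_c7 LD3_c22)))))))))))))
theorem f24656 : Led Lsl_et (LP (LK LD1_c0 LD2_c44 LD3_c33)) = (LP (LK LD1_c1 LD2_c36 LD3_c8)) :=
  Lre_e IH (LK LD1_c0 LD2_c44 LD3_c33) (LK LD1_c1 LD2_c36 LD3_c8) Lrfl Lrfl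
theorem f24640 : Led Lsl_dt (LP (LK LD1_c1 LD2_c36 LD3_c7)) = (LP (LK LD1_c0 LD2_c44 LD3_c33)) :=
  Lre_d IH (LK LD1_c1 LD2_c36 LD3_c7) (LK LD1_c0 LD2_c44 LD3_c33) Lrfl Lrfl
theorem f144067 : Led Lsl_et (LP (LK LD1_c1 LD2_c7 LD3_c22)) = (LP (LK LD1_c2 LD2_c20 LD3_c13)) :=
  Lre_e IH (LK LD1_c1 LD2_c7 LD3_c22) (LK LD1_c2 LD2_c20 LD3_c13) Lrfl Lrfl
theorem f144068 : Led Lsl_df (LP (LK LD1_c3 LD2_c19 LD3_c28)) = (LP (LK LD1_c2 LD2_c20 LD3_c13)) :=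
  Lgr Lrot70 (Lpr_et (f24655 IH) (Lpr_dt (f24640 IH) (Lpr_et (f24656 IH) (Lpr_dt (f144062 IH) (Lpr_et (f144067 IH) (Lpn (LP (LK LD1_c2 LD2_c20 LD3_c13))))))))
theorem f144071 : Led Lsl_dt (LP (LK LD1_c3 LD2_c19 LD3_c28)) = (LP (LK LD1_c2 LD2_c20 LD3_c13)) :=
  Lgr Lrot42 (Lpr_df (f144068 IH) (Lpn (LP (LK LD1_c2 LD2_c20 LD3_c13))))
theorem f438816 : Led Lsl_gf (LP (LK LD1_c2 LD2_c20 LD3_c13)) = (LP (LK LD1_c1 LD2_c27 LD3_c22)) :=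
  Lgr Lrot145 (Lpe (f144071 IH) (Lpr_et (f24655 IH) (Lpr_gt (K9.f24625 IH) (Lpr_dt (K9.f24635 IH) (Lpr_gt (K24.f24636 IH) (Lpe (K29.f416807 IH) (Lpr_et (K24.f135527 IH) (Lpr_gt (K29.f438814 IH) (Lpe (K29.f438800 IH) (Lpr_dt (K24.f415317 IH) (Lpn (LP (LK LD1_c1 LD2_c27 LD3_c22)))))))))))))
theorem f443960 : Led Lsl_ef (LP (LK LD1_c3 LD2_c3 LD3_c3)) = (LP (LK LD1_c3 LD2_c6 LD3_c5)) :=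
  Lgr Lrot17 (Lpe (K9.f24625 IH) (Lpe (f24655 IH) (Lpr_dt (f144071 IH) (Lpr_gf (f438816 IH) (Lpe (K24.f415317 IH) (Lpe (K16.f23821 IH) (Lpe (K0.f25572 IH) (Lpr_dt (K29.f25533 IH) (Lpr_gf (K29.f443948 IH) (Lpe (K29.f57674 IH) (Lpn (LP (LK LD1_c3 LD2_c6 LD3_c5)))))))))))))
theorem f25521 : Led Lsl_dt (LP (LK LD1_c1 LD2_c29 LD3_c9)) = (LP (LK LD1_c0 LD2_c41 LD3_c13)) :=
  Lre_d IH (LK LD1_c1 LD2_c29 LD3_c9) (LK LD1_c0 LD2_c41 LD3_c13) Lrfl Lrfl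
theorem f444275 : Led Lsl_gt (LP (LK LD1_c3 LD2_c3 LD3_c3)) = (LP (LK LD1_c1 LD2_c36 LD3_c9)) :=
  Lgr Lrot137 (Lpr_ef (f443960 IH) (Lpr_dt (K29.f57674 IH) (Lpe (K29.f57673 IH) (Lpe (f25521 IH) (Lpr_et (K0.f25554 IH) (Lpr_gf (K1.f57600 IH) (Lpe (K5.f24679 IH) (Lpr_dt (K5.f24611 IH) (Lpe (K29.f24630 IH) (Lpe (f24697 IH) (Lpn (LP (LK LD1_c1 LD2_c36 LD3_c9)))))))))))))
theorem f57693 : Led Lsl_et (LP (LK LD1_c6 LD2_c42 LD3_c55)) = (LP (LK LD1_c3 LD2_c19 LD3_c32)) :=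
  Lre_e IH (LK LD1_c6 LD2_c42 LD3_c55) (LK LD1_c3 LD2_c19 LD3_c32) Lrfl Lrfl
theorem f57692 : Led Lsl_dt (LP (LK LD1_c6 LD2_c42 LD3_c55)) = (LP (LK LD1_c3 LD2_c19 LD3_c30)) :=
  Lre_d IH (LK LD1_c6 LD2_c42 LD3_c55) (LK LD1_c3 LD2_c19 LD3_c30) Lrfl Lrfl
theorem f22340 : Led Lsl_ft (LP (LK LD1_c5 LD2_c51 LD3_c6)) = (LP (LK LD1_c2 LD2_c51 LD3_c49)) :=
  Lre_f IH (LK LD1_c5 LD2_c51 LD3_c6) (LK LD1_c2 LD2_c51 LD3_c49) Lrfl Lrfl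
theorem f163601 : Led Lsl_ft (LP (LK LD1_c4 LD2_c34 LD3_c43)) = (LP (LK LD1_c9 LD2_c6 LD3_c12)) :=
  Lre_f IH (LK LD1_c4 LD2_c34 LD3_c43) (LK LD1_c9 LD2_c6 LD3_c12) Lrfl Lrfl
theorem f163602 : Led Lsl_bf (LP (LK LD1_c5 LD2_c51 LD3_c6)) = (LP (LK LD1_c9 LD2_c6 LD3_c12)) :=
  Lgr Lrot61 (Lpr_ft (f22340 IH) (Lpr_bt (K8.f163593 IH) (Lpr_ft (f163601 IH) (Lpn (LP (LK LD1_c9 LD2_c6 LD3_c12))))))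
theorem f22343 : Led Lsl_at (LP (LK LD1_c5 LD2_c51 LD3_c6)) = (LP (LK LD1_c2 LD2_c51 LD3_c61)) :=
  Lre_a IH (LK LD1_c5 LD2_c51 LD3_c6) (LK LD1_c2 LD2_c51 LD3_c61) Lrfl Lrfl
theorem f152039 : Led Lsl_at (LP (LK LD1_c4 LD2_c34 LD3_c46)) = (LP (LK LD1_c9 LD2_c6 LD3_c12)) :=
  Lre_a IH (LK LD1_c4 LD2_c34 LD3_c46) (LK LD1_c9 LD2_c6 LD3_c12) Lrfl Lrfl
theorem f163604 : Led Lsl_at (LP (LK LD1_c1 LD2_c22 LD3_c7)) = (LP (LK LD1_c2 LD2_c14 LD3_c26)) :=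
  Lgr Lrot67 (Lpe (K7.f22260 IH) (Lpe (f22343 IH) (Lpr_bf (f163602 IH) (Lpe (f152039 IH) (Lpe (K7.f152052 IH) (Lpn (LP (LK LD1_c2 LD2_c14 LD3_c26))))))))
theorem f206526 : Led Lsl_af (LP (LK LD1_c0 LD2_c43 LD3_c43)) = (LP (LK LD1_c1 LD2_c7 LD3_c26)) :=
  Lgr Lrot68 (Lpe (K24.f24038 IH) (Lpr_at (f163604 IH) (Lpr_ct (K24.f206520 IH) (Lpn (LP (LK LD1_c1 LD2_c7 LD3_c26))))))
theorem f152071 : Led Lsl_ft (LP (LK LD1_c0 LD2_c30 LD3_c55)) = (LP (LK LD1_c1 LD2_c7 LD3_c26)) :=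
  Lre_f IH (LK LD1_c0 LD2_c30 LD3_c55) (LK LD1_c1 LD2_c7 LD3_c26) Lrfl Lrfl
theorem f206522 : Led Lsl_gt (LP (LK LD1_c0 LD2_c30 LD3_c55)) = (LP (LK LD1_c1 LD2_c7 LD3_c24)) :=
  Lre_g IH (LK LD1_c0 LD2_c30 LD3_c55) (LK LD1_c1 LD2_c7 LD3_c24) Lrfl Lrfl
theorem f206545 : Led Lsl_gf (LP (LK LD1_c0 LD2_c43 LD3_c43)) = (LP (LK LD1_c1 LD2_c7 LD3_c24)) :=
  Lgr Lrot76 (Lpr_af (f206526 IH) (Lpe (f152071 IH) (Lpr_gt (f206522 IH) (Lpn (LP (LK LD1_c1 LD2_c7 LD3_c24))))))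
theorem f24050 : Led Lsl_ft (LP (LK LD1_c0 LD2_c43 LD3_c43)) = (LP (LK LD1_c0 LD2_c19 LD3_c30)) :=
  Lre_f IH (LK LD1_c0 LD2_c43 LD3_c43) (LK LD1_c0 LD2_c19 LD3_c30) Lrfl Lrfl
theorem f152093 : Led Lsl_et (LP (LK LD1_c1 LD2_c7 LD3_c23)) = (LP (LK LD1_c0 LD2_c43 LD3_c43)) :=
  Lgr Lrot69 (Lpe (K7.f25222 IH) (Lpe (K24.f25255 IH) (Lpr_ff (K7.f152087 IH) (Lpe (K24.f23186 IH) (Lpe (f24050 IH) (Lpn (LP (LK LD1_c0 LD2_c43 LD3_c43))))))))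
theorem f135433 : Led Lsl_et (LP (LK LD1_c1 LD2_c33 LD3_c45)) = (LP (LK LD1_c0 LD2_c43 LD3_c26)) :=
  Lre_e IH (LK LD1_c1 LD2_c33 LD3_c45) (LK LD1_c0 LD2_c43 LD3_c26) Lrfl Lrfl
theorem f57136 : Led Lsl_dt (LP (LK LD1_c1 LD2_c33 LD3_c45)) = (LP (LK LD1_c1 LD2_c36 LD3_c29)) :=
  Lre_d IH (LK LD1_c1 LD2_c33 LD3_c45) (LK LD1_c1 LD2_c36 LD3_c29) Lrfl Lrfl
theorem f146055 : Led Lsl_gf (LP (LK LD1_c0 LD2_c44 LD3_c36)) = (LP (LK LD1_c1 LD2_c8 LD3_c6)) :=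
  Lgr Lrot76 (Lpr_af (K6.f146014 IH) (Lpe (K6.f92124 IH) (Lpr_gt (K24.f68362 IH) (Lpn (LP (LK LD1_c1 LD2_c8 LD3_c6))))))
theorem f151950 : Led Lsl_gt (LP (LK LD1_c1 LD2_c7 LD3_c23)) = (LP (LK LD1_c0 LD2_c43 LD3_c27)) :=
  Lgr Lrot139 (Lpr_df (K24.f144060 IH) (Lpr_gf (K24.f151942 IH) (Lpe (f135433 IH) (Lpr_dt (f57136 IH) (Lpr_gf (f135427 IH) (Lpe (K6.f135390 IH) (Lpe (K6.f146064 IH) (Lpr_gf (f146055 IH) (Lpe (K24.f68363 IH) (Lpr_dt (K24.f22731 IH) (Lpn (LP (LK LD1_c0 LD2_c43 LD3_c27)))))))))))))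
theorem f206547 : Led Lsl_et (LP (LK LD1_c2 LD2_c20 LD3_c14)) = (LP (LK LD1_c1 LD2_c7 LD3_c24)) :=
  Lre_e IH (LK LD1_c2 LD2_c20 LD3_c14) (LK LD1_c1 LD2_c7 LD3_c24) Lrfl Lrfl
theorem f92141 : Led Lsl_dt (LP (LK LD1_c2 LD2_c20 LD3_c14)) = (LP (LK LD1_c2 LD2_c21 LD3_c59)) :=
  Lre_d IH (LK LD1_c2 LD2_c20 LD3_c14) (LK LD1_c2 LD2_c21 LD3_c59) Lrfl Lrfl
theorem f206548 : Led Lsl_gt (LP (LK LD1_c1 LD2_c36 LD3_c14)) = (LP (LK LD1_c2 LD2_c21 LD3_c59)) :=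
  Lgr Lrot139 (Lpe (K6.f135703 IH) (Lpr_gf (f146055 IH) (Lpe (K24.f68363 IH) (Lpr_dt (K24.f22731 IH) (Lpe (f151950 IH) (Lpr_df (K24.f144060 IH) (Lpr_et (f152093 IH) (Lpr_gf (f206545 IH) (Lpe (f206547 IH) (Lpr_dt (f92141 IH) (Lpn (LP (LK LD1_c2 LD2_c21 LD3_c59)))))))))))))
theorem f206550 : Led Lsl_dt (LP (LK LD1_c2 LD2_c21 LD3_c59)) = (LP (LK LD1_c2 LD2_c20 LD3_c14)) :=
  Lre_d IH (LK LD1_c2 LD2_c21 LD3_c59) (LK LD1_c2 LD2_c20 LD3_c14) Lrfl Lrfl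
theorem f443985 : Led Lsl_gt (LP (LK LD1_c2 LD2_c20 LD3_c14)) = (LP (LK LD1_c1 LD2_c27 LD3_c26)) :=
  Lgr Lrot139 (Lpe (f206550 IH) (Lpe (f206548 IH) (Lpe (K6.f24695 IH) (Lpr_dt (K6.f146074 IH) (Lpe (f135403 IH) (Lpe (f57692 IH) (Lpr_et (f57693 IH) (Lpr_gf (K29.f443977 IH) (Lpe (K29.f443969 IH) (Lpr_dt (K9.f24635 IH) (Lpn (LP (LK LD1_c1 LD2_c27 LD3_c26)))))))))))))
theorem f69083 : Led Lsl_cf (LP (LK LD1_c1 LD2_c24 LD3_c21)) = (LP (LK LD1_c0 LD2_c42 LD3_c38)) :=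
  Lgr Lrot11 (Lpr_ct (K11.f69064 IH) (Lpn (LP (LK LD1_c0 LD2_c42 LD3_c38))))
theorem f416659 : Led Lsl_ct (LP (LK LD1_c1 LD2_c37 LD3_c0)) = (LP (LK LD1_c3 LD2_c21 LD3_c34)) :=
  Lre_c IH (LK LD1_c1 LD2_c37 LD3_c0) (LK LD1_c3 LD2_c21 LD3_c34) Lrfl Lrfl
theorem f416696 : Led Lsl_ct (LP (LK LD1_c2 LD2_c16 LD3_c21)) = (LP (LK LD1_c1 LD2_c8 LD3_c14)) :=
  Lgr Lrot15 (Lpr_ef (K24.f416692 IH) (Lpe (f416659 IH) (Lpe (K24.f416669 IH) (Lpn (LP (LK LD1_c1 LD2_c8 LD3_c14))))))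
theorem f135525 : Led Lsl_ct (LP (LK LD1_c4 LD2_c48 LD3_c34)) = (LP (LK LD1_c2 LD2_c22 LD3_c10)) :=
  Lre_c IH (LK LD1_c4 LD2_c48 LD3_c34) (LK LD1_c2 LD2_c22 LD3_c10) Lrfl Lrfl
theorem f61269 : Led Lsl_dt (LP (LK LD1_c2 LD2_c19 LD3_c28)) = (LP (LK LD1_c1 LD2_c6 LD3_c51)) :=
  Lre_d IH (LK LD1_c2 LD2_c19 LD3_c28) (LK LD1_c1 LD2_c6 LD3_c51) Lrfl Lrfl
theorem f59490 : Led Lsl_ct (LP (LK LD1_c4 LD2_c43 LD3_c27)) = (LP (LK LD1_c9 LD2_c20 LD3_c14)) :=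
  Lre_c IH (LK LD1_c4 LD2_c43 LD3_c27) (LK LD1_c9 LD2_c20 LD3_c14) Lrfl Lrfl
theorem f435378 : Led Lsl_gf (LP (LK LD1_c4 LD2_c48 LD3_c34)) = (LP (LK LD1_c9 LD2_c20 LD3_c14)) :=
  Lgr Lrot104 (Lpr_ct (f135525 IH) (Lpe (K29.f135526 IH) (Lpe (f416696 IH) (Lpr_gf (K29.f210130 IH) (Lpr_cf (f69083 IH) (Lpr_gf (K24.f435371 IH) (Lpe (f61269 IH) (Lpr_gt (K11.f26312 IH) (Lpr_ct (f59490 IH) (Lpn (LP (LK LD1_c9 LD2_c20 LD3_c14))))))))))))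
theorem f150569 : Led Lsl_ct (LP (LK LD1_c2 LD2_c19 LD3_c34)) = (LP (LK LD1_c1 LD2_c6 LD3_c53)) :=
  Lre_c IH (LK LD1_c2 LD2_c19 LD3_c34) (LK LD1_c1 LD2_c6 LD3_c53) Lrfl Lrfl
theorem f153712 : Led Lsl_dt (LP (LK LD1_c4 LD2_c43 LD3_c38)) = (LP (LK LD1_c2 LD2_c19 LD3_c34)) :=
  Lre_d IH (LK LD1_c4 LD2_c43 LD3_c38) (LK LD1_c2 LD2_c19 LD3_c34) Lrfl Lrfl
theorem f153459 : Led Lsl_gt (LP (LK LD1_c9 LD2_c20 LD3_c30)) = (LP (LK LD1_c4 LD2_c43 LD3_c38)) :=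
  Lre_g IH (LK LD1_c9 LD2_c20 LD3_c30) (LK LD1_c4 LD2_c43 LD3_c38) Lrfl Lrfl
theorem f435381 : Led Lsl_dt (LP (LK LD1_c4 LD2_c48 LD3_c34)) = (LP (LK LD1_c9 LD2_c20 LD3_c30)) :=
  Lgr Lrot57 (Lpr_gf (f435378 IH) (Lpe (f59490 IH) (Lpe (K24.f435268 IH) (Lpr_dt (K24.f152206 IH) (Lpr_gt (K24.f61254 IH) (Lpr_dt (K24.f26261 IH) (Lpe (f150569 IH) (Lpe (f153712 IH) (Lpe (f153459 IH) (Lpn (LP (LK LD1_c9 LD2_c20 LD3_c30))))))))))))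
theorem f150567 : Led Lsl_dt (LP (LK LD1_c2 LD2_c19 LD3_c34)) = (LP (LK LD1_c4 LD2_c43 LD3_c38)) :=
  Lre_d IH (LK LD1_c2 LD2_c19 LD3_c34) (LK LD1_c4 LD2_c43 LD3_c38) Lrfl Lrfl
theorem f153458 : Led Lsl_et (LP (LK LD1_c2 LD2_c19 LD3_c34)) = (LP (LK LD1_c1 LD2_c6 LD3_c55)) :=
  Lre_e IH (LK LD1_c2 LD2_c19 LD3_c34) (LK LD1_c1 LD2_c6 LD3_c55) Lrfl Lrfl
theorem f154432 : Led Lsl_et (LP (LK LD1_c1 LD2_c6 LD3_c18)) = (LP (LK LD1_c2 LD2_c18 LD3_c26)) :=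
  Lre_e IH (LK LD1_c1 LD2_c6 LD3_c18) (LK LD1_c2 LD2_c18 LD3_c26) Lrfl Lrfl
theorem f153525 : Led Lsl_gt (LP (LK LD1_c2 LD2_c18 LD3_c26)) = (LP (LK LD1_c4 LD2_c42 LD3_c11)) :=
  Lre_g IH (LK LD1_c2 LD2_c18 LD3_c26) (LK LD1_c4 LD2_c42 LD3_c11) Lrfl Lrfl
theorem f435388 : Led Lsl_et (LP (LK LD1_c4 LD2_c48 LD3_c34)) = (LP (LK LD1_c4 LD2_c42 LD3_c11)) :=
  Lgr Lrot122 (Lpr_dt (f435381 IH) (Lpr_gt (f153459 IH) (Lpe (f150567 IH) (Lpr_et (f153458 IH) (Lpr_gt (K7.f153440 IH) (Lpr_dt (K11.f154182 IH) (Lpr_gt (K11.f154386 IH) (Lpe (K7.f25778 IH) (Lpr_et (f154432 IH) (Lpr_gt (f153525 IH) (Lpn (LP (LK LD1_c4 LD2_c42 LD3_c11)))))))))))))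
theorem f435395 : Led Lsl_ef (LP (LK LD1_c4 LD2_c48 LD3_c34)) = (LP (LK LD1_c4 LD2_c42 LD3_c11)) :=
  Lgr Lrot88 (Lpr_et (f435388 IH) (Lpn (LP (LK LD1_c4 LD2_c42 LD3_c11))))
theorem f435399 : Led Lsl_ct (LP (LK LD1_c2 LD2_c21 LD3_c58)) = (LP (LK LD1_c4 LD2_c42 LD3_c11)) :=
  Lgr Lrot15 (Lpr_ef (K24.f135519 IH) (Lpe (f135525 IH) (Lpr_ef (f435395 IH) (Lpn (LP (LK LD1_c4 LD2_c42 LD3_c11))))))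
theorem f153526 : Led Lsl_gf (LP (LK LD1_c3 LD2_c8 LD3_c57)) = (LP (LK LD1_c4 LD2_c42 LD3_c11)) :=
  Lgr Lrot76 (Lpr_af (K7.f153504 IH) (Lpe (K7.f153503 IH) (Lpr_gt (f153525 IH) (Lpn (LP (LK LD1_c4 LD2_c42 LD3_c11))))))
theorem f204242 : Led Lsl_ct (LP (LK LD1_c1 LD2_c24 LD3_c28)) = (LP (LK LD1_c0 LD2_c41 LD3_c49)) :=
  Lgr Lrot111 (Lpr_af (K11.f204224 IH) (Lpr_cf (f61098 IH) (Lpe (K7.f153571 IH) (Lpn (LP (LK LD1_c0 LD2_c41 LD3_c49))))))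
theorem f204250 : Led Lsl_gf (LP (LK LD1_c1 LD2_c24 LD3_c28)) = (LP (LK LD1_c2 LD2_c16 LD3_c27)) :=
  Lgr Lrot76 (Lpr_af (K11.f204224 IH) (Lpe (K11.f61074 IH) (Lpr_gt (K8.f27026 IH) (Lpn (LP (LK LD1_c2 LD2_c16 LD3_c27))))))
theorem f435403 : Led Lsl_ct (LP (LK LD1_c1 LD2_c8 LD3_c6)) = (LP (LK LD1_c2 LD2_c16 LD3_c27)) :=
  Lgr Lrot152 (Lpe (K24.f68362 IH) (Lpe (f68456 IH) (Lpr_gt (K24.f20124 IH) (Lpr_ct (f435399 IH) (Lpe (f153526 IH) (Lpr_ct (K7.f153510 IH) (Lpe (K7.f153528 IH) (Lpe (f204242 IH) (Lpr_gf (f204250 IH) (Lpn (LP (LK LD1_c2 LD2_c16 LD3_c27))))))))))))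
theorem f204271 : Led Lsl_at (LP (LK LD1_c1 LD2_c24 LD3_c27)) = (LP (LK LD1_c2 LD2_c16 LD3_c29)) :=
  Lgr Lrot100 (Lpr_af (K11.f204265 IH) (Lpn (LP (LK LD1_c2 LD2_c16 LD3_c29))))
theorem f61081 : Led Lsl_gt (LP (LK LD1_c4 LD2_c38 LD3_c58)) = (LP (LK LD1_c2 LD2_c16 LD3_c29)) :=
  Lre_g IH (LK LD1_c4 LD2_c38 LD3_c58) (LK LD1_c2 LD2_c16 LD3_c29) Lrfl Lrfl
theorem f419087 : Led Lsl_gt (LP (LK LD1_c2 LD2_c57 LD3_c29)) = (LP (LK LD1_c4 LD2_c38 LD3_c58)) :=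
  Lgr Lrot5 (Lpr_ft (K11.f68924 IH) (Lpr_at (f204271 IH) (Lpe (f61081 IH) (Lpn (LP (LK LD1_c4 LD2_c38 LD3_c58))))))
theorem f419089 : Led Lsl_dt (LP (LK LD1_c4 LD2_c38 LD3_c58)) = (LP (LK LD1_c4 LD2_c35 LD3_c41)) :=
  Lre_d IH (LK LD1_c4 LD2_c38 LD3_c58) (LK LD1_c4 LD2_c35 LD3_c41) Lrfl Lrfl
theorem f435409 : Led Lsl_cf (LP (LK LD1_c2 LD2_c20 LD3_c14)) = (LP (LK LD1_c4 LD2_c35 LD3_c41)) :=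
  Lgr Lrot14 (Lpe (f206550 IH) (Lpe (f206548 IH) (Lpe (K6.f135703 IH) (Lpr_gf (f146055 IH) (Lpr_ct (f435403 IH) (Lpe (f204250 IH) (Lpr_dt (K29.f204244 IH) (Lpr_gt (f419087 IH) (Lpr_dt (f419089 IH) (Lpn (LP (LK LD1_c4 LD2_c35 LD3_c41))))))))))))
theorem f435424 : Led Lsl_ct (LP (LK LD1_c2 LD2_c20 LD3_c14)) = (LP (LK LD1_c4 LD2_c35 LD3_c41)) :=
  Lgr Lrot59 (Lpr_cf (f435409 IH) (Lpn (LP (LK LD1_c4 LD2_c35 LD3_c41))))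
theorem f68642 : Led Lsl_dt (LP (LK LD1_c2 LD2_c57 LD3_c24)) = (LP (LK LD1_c1 LD2_c24 LD3_c26)) :=
  Lre_d IH (LK LD1_c2 LD2_c57 LD3_c24) (LK LD1_c1 LD2_c24 LD3_c26) Lrfl Lrfl
theorem f59891 : Led Lsl_et (LP (LK LD1_c3 LD2_c2 LD3_c38)) = (LP (LK LD1_c1 LD2_c27 LD3_c16)) :=
  Lre_e IH (LK LD1_c3 LD2_c2 LD3_c38) (LK LD1_c1 LD2_c27 LD3_c16) Lrfl Lrfl
theorem f68929 : Led Lsl_gt (LP (LK LD1_c0 LD2_c38 LD3_c56)) = (LP (LK LD1_c1 LD2_c24 LD3_c25)) :=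
  Lre_g IH (LK LD1_c0 LD2_c38 LD3_c56) (LK LD1_c1 LD2_c24 LD3_c25) Lrfl Lrfl
theorem f419100 : Led Lsl_dt (LP (LK LD1_c1 LD2_c24 LD3_c25)) = (LP (LK LD1_c2 LD2_c57 LD3_c21)) :=
  Lre_d IH (LK LD1_c1 LD2_c24 LD3_c25) (LK LD1_c2 LD2_c57 LD3_c21) Lrfl Lrfl
theorem f419101 : Led Lsl_gt (LP (LK LD1_c2 LD2_c57 LD3_c21)) = (LP (LK LD1_c6 LD2_c2 LD3_c33)) :=
  Lre_g IH (LK LD1_c2 LD2_c57 LD3_c21) (LK LD1_c6 LD2_c2 LD3_c33) Lrfl Lrfl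
theorem f443719 : Led Lsl_dt (LP (LK LD1_c3 LD2_c2 LD3_c38)) = (LP (LK LD1_c6 LD2_c2 LD3_c33)) :=
  Lgr Lrot56 (Lpr_et (f59891 IH) (Lpr_gt (K16.f59890 IH) (Lpe (K1.f59816 IH) (Lpr_dt (K1.f59817 IH) (Lpr_gt (K1.f56567 IH) (Lpr_df (K2.f61867 IH) (Lpr_et (K11.f61869 IH) (Lpr_gt (f68929 IH) (Lpr_dt (f419100 IH) (Lpr_gt (f419101 IH) (Lpn (LP (LK LD1_c6 LD2_c2 LD3_c33)))))))))))))
theorem f413438 : Led Lsl_et (LP (LK LD1_c6 LD2_c12 LD3_c7)) = (LP (LK LD1_c3 LD2_c2 LD3_c37)) :=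
  Lre_e IH (LK LD1_c6 LD2_c12 LD3_c7) (LK LD1_c3 LD2_c2 LD3_c37) Lrfl Lrfl
theorem f443724 : Led Lsl_et (LP (LK LD1_c6 LD2_c2 LD3_c33)) = (LP (LK LD1_c11 LD2_c49 LD3_c23)) :=
  Lre_e IH (LK LD1_c6 LD2_c2 LD3_c33) (LK LD1_c11 LD2_c49 LD3_c23) Lrfl Lrfl
theorem f443725 : Led Lsl_df (LP (LK LD1_c6 LD2_c12 LD3_c7)) = (LP (LK LD1_c11 LD2_c49 LD3_c23)) :=
  Lgr Lrot70 (Lpr_et (f413438 IH) (Lpr_dt (K16.f59972 IH) (Lpr_et (f413437 IH) (Lpr_dt (f443719 IH) (Lpr_et (f443724 IH) (Lpn (LP (LK LD1_c11 LD2_c49 LD3_c23))))))))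
theorem f175554 : Led Lsl_gf (LP (LK LD1_c1 LD2_c10 LD3_c28)) = (LP (LK LD1_c1 LD2_c28 LD3_c30)) :=
  Lgr Lrot134 (Lpr_df (K10.f175550 IH) (Lpr_et (K10.f27238 IH) (Lpr_gt (K10.f27236 IH) (Lpe (K1.f27195 IH) (Lpr_dt (K0.f20609 IH) (Lpe (K0.f35513 IH) (Lpe (K10.f59670 IH) (Lpr_et (K1.f60728 IH) (Lpr_gt (K9.f60459 IH) (Lpr_dt (K16.f60460 IH) (Lpn (LP (LK LD1_c1 LD2_c28 LD3_c30)))))))))))))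
theorem f268631 : Led Lsl_gt (LP (LK LD1_c1 LD2_c26 LD3_c23)) = (LP (LK LD1_c1 LD2_c10 LD3_c29)) :=
  Lgr Lrot131 (Lpe (K10.f175549 IH) (Lpe (K10.f175547 IH) (Lpr_gf (K10.f175543 IH) (Lpe (K10.f55618 IH) (Lpr_gf (K10.f186489 IH) (Lpe (K10.f186466 IH) (Lpr_dt (K10.f59001 IH) (Lpe (K14.f210475 IH) (Lpe (K14.f205176 IH) (Lpr_et (K16.f268623 IH) (Lpn (LP (LK LD1_c1 LD2_c10 LD3_c29)))))))))))))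
theorem f268489 : Led Lsl_gt (LP (LK LD1_c2 LD2_c46 LD3_c32)) = (LP (LK LD1_c3 LD2_c0 LD3_c53)) :=
  Lgr Lrot46 (Lpe (K10.f60213 IH) (Lpr_ft (K16.f268477 IH) (Lpr_at (K16.f268449 IH) (Lpn (LP (LK LD1_c3 LD2_c0 LD3_c53))))))
theorem f268715 : Led Lsl_gt (LP (LK LD1_c2 LD2_c13 LD3_c14)) = (LP (LK LD1_c1 LD2_c19 LD3_c39)) :=
  Lgr Lrot180 (Lpr_ct (K16.f268705 IH) (Lpe (f175554 IH) (Lpr_dt (K10.f175552 IH) (Lpr_gt (f268631 IH) (Lpe (K16.f268629 IH) (Lpe (K10.f175907 IH) (Lpe (K16.f22900 IH) (Lpe (f268489 IH) (Lpe (K10.f60178 IH) (Lpn (LP (LK LD1_c1 LD2_c19 LD3_c39))))))))))))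
theorem f59973 : Led Lsl_et (LP (LK LD1_c3 LD2_c2 LD3_c37)) = (LP (LK LD1_c6 LD2_c12 LD3_c7)) :=
  Lre_e IH (LK LD1_c3 LD2_c2 LD3_c37) (LK LD1_c6 LD2_c12 LD3_c7) Lrfl Lrfl
theorem f60179 : Led Lsl_et (LP (LK LD1_c2 LD2_c46 LD3_c32)) = (LP (LK LD1_c5 LD2_c41 LD3_c1)) :=
  Lre_e IH (LK LD1_c2 LD2_c46 LD3_c32) (LK LD1_c5 LD2_c41 LD3_c1) Lrfl Lrfl
theorem f412294 : Led Lsl_gf (LP (LK LD1_c6 LD2_c12 LD3_c7)) = (LP (LK LD1_c5 LD2_c41 LD3_c1)) :=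
  Lgr Lrot141 (Lpe (f59973 IH) (Lpr_dt (K16.f59972 IH) (Lpr_gt (K16.f59890 IH) (Lpe (K16.f27134 IH) (Lpr_et (K16.f59962 IH) (Lpr_gt (K16.f59821 IH) (Lpe (K16.f268679 IH) (Lpr_gt (f268715 IH) (Lpe (K10.f60181 IH) (Lpr_et (f60179 IH) (Lpn (LP (LK LD1_c5 LD2_c41 LD3_c1)))))))))))))
theorem f60182 : Led Lsl_et (LP (LK LD1_c5 LD2_c41 LD3_c1)) = (LP (LK LD1_c2 LD2_c46 LD3_c32)) :=
  Lre_e IH (LK LD1_c5 LD2_c41 LD3_c1) (LK LD1_c2 LD2_c46 LD3_c32) Lrfl Lrfl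
theorem f68630 : Led Lsl_et (LP (LK LD1_c1 LD2_c31 LD3_c21)) = (LP (LK LD1_c3 LD2_c10 LD3_c20)) :=
  Lre_e IH (LK LD1_c1 LD2_c31 LD3_c21) (LK LD1_c3 LD2_c10 LD3_c20) Lrfl Lrfl
theorem f68631 : Led Lsl_df (LP (LK LD1_c5 LD2_c41 LD3_c1)) = (LP (LK LD1_c3 LD2_c10 LD3_c20)) :=
  Lgr Lrot70 (Lpr_et (f60182 IH) (Lpr_dt (K10.f60181 IH) (Lpr_et (K10.f60168 IH) (Lpr_dt (K11.f68626 IH) (Lpr_et (f68630 IH) (Lpn (LP (LK LD1_c3 LD2_c10 LD3_c20))))))))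
theorem f68639 : Led Lsl_et (LP (LK LD1_c3 LD2_c10 LD3_c20)) = (LP (LK LD1_c1 LD2_c31 LD3_c21)) :=
  Lre_e IH (LK LD1_c3 LD2_c10 LD3_c20) (LK LD1_c1 LD2_c31 LD3_c21) Lrfl Lrfl
theorem f443734 : Led Lsl_et (LP (LK LD1_c11 LD2_c49 LD3_c23)) = (LP (LK LD1_c6 LD2_c2 LD3_c33)) :=
  Lre_e IH (LK LD1_c11 LD2_c49 LD3_c23) (LK LD1_c6 LD2_c2 LD3_c33) Lrfl Lrfl
theorem f443735 : Led Lsl_gf (LP (LK LD1_c2 LD2_c57 LD3_c24)) = (LP (LK LD1_c6 LD2_c2 LD3_c33)) :=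
  Lgr Lrot138 (Lpr_dt (f68642 IH) (Lpr_gt (K29.f68641 IH) (Lpe (K11.f68640 IH) (Lpr_et (K11.f68573 IH) (Lpr_gt (K11.f68625 IH) (Lpe (f68639 IH) (Lpe (f68631 IH) (Lpe (f412294 IH) (Lpr_df (f443725 IH) (Lpr_et (f443734 IH) (Lpn (LP (LK LD1_c6 LD2_c2 LD3_c33)))))))))))))
theorem f444277 : Led Lsl_gt (LP (LK LD1_c4 LD2_c35 LD3_c41)) = (LP (LK LD1_c3 LD2_c2 LD3_c38)) :=
  Lgr Lrot94 (Lpe (f435424 IH) (Lpr_gt (f443985 IH) (Lpr_dt (K9.f24624 IH) (Lpr_gt (f444275 IH) (Lpr_dt (f24697 IH) (Lpr_cf (f444001 IH) (Lpe (f68642 IH) (Lpr_gf (f443735 IH) (Lpe (f443719 IH) (Lpn (LP (LK LD1_c3 LD2_c2 LD3_c38))))))))))))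
theorem f503220 : Led Lsl_ff (LP (LK LD1_c1 LD2_c29 LD3_c8)) = v1833 :=
  Lgr Lrot3 (Lpr_ft (f503217 IH) (Lpn v1833))
theorem f503216 : Led Lsl_et v1797 = v1833 :=
  Lgr Lrot87 (Lpr_ef (f503215 IH) (Lpn v1833))
def v462 : LQ := Led Lsl_ft (LP (LK LD1_c0 LD2_c40 LD3_c25))
theorem f453017 : Led Lsl_ft (LP (LK LD1_c0 LD2_c40 LD3_c25)) = v462 :=
  Lrfl
theorem f502967 : Led Lsl_dt v462 = v1797 :=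
  Lgr Lrot60 (Lpe (f453017 IH) (Lpe (K29.f413468 IH) (Lpr_ff (f502965 IH) (Lpn v1797))))
def v1289 : LQ := Led Lsl_at (LP (LK LD1_c1 LD2_c5 LD3_c42))
theorem f494652 : Led Lsl_at (LP (LK LD1_c1 LD2_c5 LD3_c42)) = v1289 :=
  Lrfl
theorem f494653 : Led Lsl_af (LP (LK LD1_c1 LD2_c5 LD3_c42)) = v1289 :=
  Lgr Lrot0 (Lpr_at (f494652 IH) (Lpn v1289))
theorem f494654 : Led Lsl_ft (LP (LK LD1_c1 LD2_c5 LD3_c43)) = v1289 :=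
  Lgr Lrot2 (Lpr_gt (K17.f20092 IH) (Lpr_gt (K0.f23263 IH) (Lpr_af (f494653 IH) (Lpn v1289))))
theorem f494656 : Led Lsl_ff (LP (LK LD1_c1 LD2_c5 LD3_c43)) = v1289 :=
  Lgr Lrot3 (Lpr_ft (f494654 IH) (Lpn v1289))
def v1798 : LQ := Led Lsl_at (LP (LK LD1_c1 LD2_c27 LD3_c22))
theorem f502968 : Led Lsl_at (LP (LK LD1_c1 LD2_c27 LD3_c22)) = v1798 :=
  Lrfl
theorem f502970 : Led Lsl_ef v461 = v1798 :=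
  Lgr Lrot20 (Lpe (f453010 IH) (Lpr_et (K16.f415319 IH) (Lpr_at (f502968 IH) (Lpn v1798))))
theorem f57613 : Led Lsl_et (LP (LK LD1_c1 LD2_c29 LD3_c8)) = (LP (LK LD1_c3 LD2_c6 LD3_c8)) :=
  Lre_e IH (LK LD1_c1 LD2_c29 LD3_c8) (LK LD1_c3 LD2_c6 LD3_c8) Lrfl Lrfl
theorem f503221 : Led Lsl_ft (LP (LK LD1_c3 LD2_c6 LD3_c8)) = (LP (LK LD1_c3 LD2_c2 LD3_c53)) :=
  Lgr Lrot86 (Lpe (f57613 IH) (Lpr_ff (f503220 IH) (Lpe (f503216 IH) (Lpe (f502962 IH) (Lpe (K29.f57159 IH) (Lpn (LP (LK LD1_c3 LD2_c2 LD3_c53))))))))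
theorem f57611 : Led Lsl_df (LP (LK LD1_c3 LD2_c6 LD3_c8)) = (LP (LK LD1_c3 LD2_c19 LD3_c61)) :=
  Lgr Lrot38 (Lpr_dt (K24.f57604 IH) (Lpn (LP (LK LD1_c3 LD2_c19 LD3_c61))))
theorem f503227 : Led Lsl_ff (LP (LK LD1_c3 LD2_c19 LD3_c61)) = (LP (LK LD1_c4 LD2_c48 LD3_c30)) :=
  Lgr Lrot19 (Lpe (f57611 IH) (Lpr_ft (f503221 IH) (Lpr_dt (K29.f438810 IH) (Lpn (LP (LK LD1_c4 LD2_c48 LD3_c30))))))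
theorem f23282 : Led Lsl_gt (LP (LK LD1_c2 LD2_c22 LD3_c8)) = (LP (LK LD1_c4 LD2_c48 LD3_c29)) :=
  Lre_g IH (LK LD1_c2 LD2_c22 LD3_c8) (LK LD1_c4 LD2_c48 LD3_c29) Lrfl Lrfl
theorem f503233 : Led Lsl_at (LP (LK LD1_c3 LD2_c19 LD3_c61)) = (LP (LK LD1_c4 LD2_c48 LD3_c29)) :=
  Lgr Lrot26 (Lpr_ff (f503227 IH) (Lpr_gt (K29.f417083 IH) (Lpr_gt (f23282 IH) (Lpn (LP (LK LD1_c4 LD2_c48 LD3_c29))))))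
theorem f57120 : Led Lsl_dt (LP (LK LD1_c0 LD2_c44 LD3_c42)) = (LP (LK LD1_c0 LD2_c19 LD3_c52)) :=
  Lre_d IH (LK LD1_c0 LD2_c44 LD3_c42) (LK LD1_c0 LD2_c19 LD3_c52) Lrfl Lrfl
theorem f154193 : Led Lsl_gt (LP (LK LD1_c1 LD2_c31 LD3_c2)) = (LP (LK LD1_c3 LD2_c9 LD3_c46)) :=
  Lre_g IH (LK LD1_c1 LD2_c31 LD3_c2) (LK LD1_c3 LD2_c9 LD3_c46) Lrfl Lrfl
theorem f154225 : Led Lsl_dt (LP (LK LD1_c6 LD2_c24 LD3_c18)) = (LP (LK LD1_c3 LD2_c9 LD3_c46)) :=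
  Lre_d IH (LK LD1_c6 LD2_c24 LD3_c18) (LK LD1_c3 LD2_c9 LD3_c46) Lrfl Lrfl
theorem f416563 : Led Lsl_et (LP (LK LD1_c6 LD2_c24 LD3_c18)) = (LP (LK LD1_c3 LD2_c19 LD3_c61)) :=
  Lgr Lrot121 (Lpr_dt (f154225 IH) (Lpe (f154193 IH) (Lpr_df (K11.f154204 IH) (Lpr_et (K11.f154203 IH) (Lpe (K11.f154115 IH) (Lpe (K6.f57537 IH) (Lpr_dt (f57120 IH) (Lpe (K16.f57140 IH) (Lpe (K24.f57142 IH) (Lpr_gf (K24.f416558 IH) (Lpn (LP (LK LD1_c3 LD2_c19 LD3_c61)))))))))))))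
theorem f86097 : Led Lsl_gt (LP (LK LD1_c2 LD2_c18 LD3_c41)) = (LP (LK LD1_c4 LD2_c42 LD3_c32)) :=
  Lre_g IH (LK LD1_c2 LD2_c18 LD3_c41) (LK LD1_c4 LD2_c42 LD3_c32) Lrfl Lrfl
theorem f437956 : Led Lsl_et (LP (LK LD1_c3 LD2_c3 LD3_c9)) = (LP (LK LD1_c4 LD2_c42 LD3_c32)) :=
  Lgr Lrot122 (Lpr_dt (f23289 IH) (Lpr_gt (f20961 IH) (Lpe (K0.f20168 IH) (Lpr_et (f20169 IH) (Lpr_gt (K3.f20099 IH) (Lpr_dt (K6.f143023 IH) (Lpe (K7.f143017 IH) (Lpe (K7.f25811 IH) (Lpr_et (K11.f86083 IH) (Lpr_gt (f86097 IH) (Lpn (LP (LK LD1_c4 LD2_c42 LD3_c32)))))))))))))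
theorem f437960 : Led Lsl_ef (LP (LK LD1_c3 LD2_c3 LD3_c9)) = (LP (LK LD1_c4 LD2_c42 LD3_c32)) :=
  Lgr Lrot88 (Lpr_et (f437956 IH) (Lpn (LP (LK LD1_c4 LD2_c42 LD3_c32))))
theorem f20962 : Led Lsl_et (LP (LK LD1_c3 LD2_c3 LD3_c10)) = (LP (LK LD1_c1 LD2_c27 LD3_c29)) :=
  Lre_e IH (LK LD1_c3 LD2_c3 LD3_c10) (LK LD1_c1 LD2_c27 LD3_c29) Lrfl Lrfl
theorem f23281 : Led Lsl_dt (LP (LK LD1_c1 LD2_c8 LD3_c13)) = (LP (LK LD1_c2 LD2_c22 LD3_c8)) :=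
  Lre_d IH (LK LD1_c1 LD2_c8 LD3_c13) (LK LD1_c2 LD2_c22 LD3_c8) Lrfl Lrfl
theorem f23283 : Led Lsl_dt (LP (LK LD1_c3 LD2_c3 LD3_c10)) = (LP (LK LD1_c4 LD2_c48 LD3_c29)) :=
  Lgr Lrot56 (Lpr_et (f20962 IH) (Lpr_gt (f20961 IH) (Lpe (K24.f20094 IH) (Lpr_dt (K1.f11026 IH) (Lpe (K0.f20952 IH) (Lpr_df (K0.f23265 IH) (Lpr_et (K5.f23278 IH) (Lpr_gt (K29.f23280 IH) (Lpr_dt (f23281 IH) (Lpr_gt (f23282 IH) (Lpn (LP (LK LD1_c4 LD2_c48 LD3_c29)))))))))))))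
theorem f86101 : Led Lsl_dt (LP (LK LD1_c9 LD2_c19 LD3_c23)) = (LP (LK LD1_c4 LD2_c42 LD3_c32)) :=
  Lre_d IH (LK LD1_c9 LD2_c19 LD3_c23) (LK LD1_c4 LD2_c42 LD3_c32) Lrfl Lrfl
theorem f437969 : Led Lsl_et (LP (LK LD1_c4 LD2_c48 LD3_c29)) = (LP (LK LD1_c9 LD2_c19 LD3_c23)) :=
  Lgr Lrot71 (Lpe (f23283 IH) (Lpe (f23288 IH) (Lpe (f23289 IH) (Lpr_ef (f437960 IH) (Lpe (f86101 IH) (Lpn (LP (LK LD1_c9 LD2_c19 LD3_c23))))))))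
theorem f503239 : Led Lsl_af (LP (LK LD1_c6 LD2_c24 LD3_c18)) = (LP (LK LD1_c9 LD2_c19 LD3_c23)) :=
  Lgr Lrot50 (Lpr_et (f416563 IH) (Lpr_at (f503233 IH) (Lpr_et (f437969 IH) (Lpn (LP (LK LD1_c9 LD2_c19 LD3_c23))))))
theorem f86098 : Led Lsl_dt (LP (LK LD1_c4 LD2_c42 LD3_c32)) = (LP (LK LD1_c9 LD2_c19 LD3_c23)) :=
  Lre_d IH (LK LD1_c4 LD2_c42 LD3_c32) (LK LD1_c9 LD2_c19 LD3_c23) Lrfl Lrfl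
theorem f503243 : Led Lsl_at (LP (LK LD1_c3 LD2_c9 LD3_c46)) = (LP (LK LD1_c4 LD2_c42 LD3_c32)) :=
  Lgr Lrot51 (Lpe (f154225 IH) (Lpr_af (f503239 IH) (Lpe (f86098 IH) (Lpn (LP (LK LD1_c4 LD2_c42 LD3_c32))))))
theorem f86096 : Led Lsl_gt (LP (LK LD1_c4 LD2_c42 LD3_c33)) = (LP (LK LD1_c2 LD2_c18 LD3_c41)) :=
  Lre_g IH (LK LD1_c4 LD2_c42 LD3_c33) (LK LD1_c2 LD2_c18 LD3_c41) Lrfl Lrfl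
theorem f503249 : Led Lsl_ff (LP (LK LD1_c3 LD2_c9 LD3_c46)) = (LP (LK LD1_c4 LD2_c42 LD3_c33)) :=
  Lgr Lrot52 (Lpr_at (f503243 IH) (Lpe (f86097 IH) (Lpe (f86096 IH) (Lpn (LP (LK LD1_c4 LD2_c42 LD3_c33))))))
theorem f503255 : Led Lsl_ft (LP (LK LD1_c3 LD2_c9 LD3_c46)) = (LP (LK LD1_c4 LD2_c42 LD3_c33)) :=
  Lgr Lrot48 (Lpr_ff (f503249 IH) (Lpn (LP (LK LD1_c4 LD2_c42 LD3_c33))))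
theorem f433541 : Led Lsl_gf (LP (LK LD1_c4 LD2_c42 LD3_c34)) = (LP (LK LD1_c3 LD2_c9 LD3_c46)) :=
  Lgr Lrot76 (Lpr_af (K11.f433537 IH) (Lpe (K11.f154212 IH) (Lpr_gt (f154193 IH) (Lpn (LP (LK LD1_c3 LD2_c9 LD3_c46))))))
theorem f86093 : Led Lsl_ft (LP (LK LD1_c4 LD2_c42 LD3_c34)) = (LP (LK LD1_c2 LD2_c18 LD3_c41)) :=
  Lre_f IH (LK LD1_c4 LD2_c42 LD3_c34) (LK LD1_c2 LD2_c18 LD3_c41) Lrfl Lrfl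
theorem f86094 : Led Lsl_dt (LP (LK LD1_c4 LD2_c42 LD3_c34)) = (LP (LK LD1_c4 LD2_c42 LD3_c34)) :=
  Lgr Lrot60 (Lpe (K11.f86092 IH) (Lpr_df (K11.f86084 IH) (Lpe (f86093 IH) (Lpn (LP (LK LD1_c4 LD2_c42 LD3_c34))))))
theorem f154194 : Led Lsl_et (LP (LK LD1_c3 LD2_c6 LD3_c7)) = (LP (LK LD1_c3 LD2_c9 LD3_c46)) :=
  Lgr Lrot122 (Lpr_dt (f25647 IH) (Lpr_gt (K24.f25646 IH) (Lpe (f25521 IH) (Lpr_et (K0.f25554 IH) (Lpr_gt (K11.f25621 IH) (Lpe (K11.f154174 IH) (Lpr_gt (K7.f154176 IH) (Lpe (K11.f84275 IH) (Lpr_et (K11.f154192 IH) (Lpr_gt (f154193 IH) (Lpn (LP (LK LD1_c3 LD2_c9 LD3_c46)))))))))))))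
theorem f24671 : Led Lsl_gt (LP (LK LD1_c2 LD2_c22 LD3_c54)) = (LP (LK LD1_c1 LD2_c37 LD3_c15)) :=
  Lre_g IH (LK LD1_c2 LD2_c22 LD3_c54) (LK LD1_c1 LD2_c37 LD3_c15) Lrfl Lrfl
theorem f154227 : Led Lsl_et (LP (LK LD1_c4 LD2_c50 LD3_c12)) = (LP (LK LD1_c2 LD2_c22 LD3_c54)) :=
  Lre_e IH (LK LD1_c4 LD2_c50 LD3_c12) (LK LD1_c2 LD2_c22 LD3_c54) Lrfl Lrfl
theorem f154216 : Led Lsl_gt (LP (LK LD1_c3 LD2_c9 LD3_c47)) = (LP (LK LD1_c1 LD2_c31 LD3_c2)) :=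
  Lre_g IH (LK LD1_c3 LD2_c9 LD3_c47) (LK LD1_c1 LD2_c31 LD3_c2) Lrfl Lrfl
theorem f154226 : Led Lsl_gt (LP (LK LD1_c1 LD2_c8 LD3_c34)) = (LP (LK LD1_c2 LD2_c22 LD3_c54)) :=
  Lre_g IH (LK LD1_c1 LD2_c8 LD3_c34) (LK LD1_c2 LD2_c22 LD3_c54) Lrfl Lrfl
theorem f154228 : Led Lsl_df (LP (LK LD1_c3 LD2_c9 LD3_c47)) = (LP (LK LD1_c4 LD2_c50 LD3_c12)) :=
  Lgr Lrot170 (Lpr_gt (f154216 IH) (Lpr_df (K11.f154204 IH) (Lpr_et (K11.f154203 IH) (Lpe (K7.f154179 IH) (Lpr_dt (K7.f7501 IH) (Lpr_gt (K5.f7472 IH) (Lpe (K0.f7456 IH) (Lpr_et (K0.f25601 IH) (Lpr_gt (f154226 IH) (Lpe (f154227 IH) (Lpn (LP (LK LD1_c4 LD2_c50 LD3_c12)))))))))))))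
theorem f433543 : Led Lsl_gt (LP (LK LD1_c4 LD2_c42 LD3_c34)) = (LP (LK LD1_c3 LD2_c9 LD3_c47)) :=
  Lgr Lrot139 (Lpe (f86094 IH) (Lpr_gf (f433541 IH) (Lpe (f154194 IH) (Lpr_dt (f25647 IH) (Lpe (K24.f58470 IH) (Lpe (K29.f25533 IH) (Lpr_et (K0.f25572 IH) (Lpe (f24671 IH) (Lpe (f154227 IH) (Lpe (f154228 IH) (Lpn (LP (LK LD1_c3 LD2_c9 LD3_c47)))))))))))))
theorem f503261 : Led Lsl_af (LP (LK LD1_c3 LD2_c9 LD3_c47)) = (LP (LK LD1_c4 LD2_c42 LD3_c33)) :=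
  Lgr Lrot31 (Lpe (f433543 IH) (Lpr_gf (f433541 IH) (Lpr_ft (f503255 IH) (Lpn (LP (LK LD1_c4 LD2_c42 LD3_c33))))))
theorem f503245 : Led Lsl_af (LP (LK LD1_c3 LD2_c9 LD3_c46)) = (LP (LK LD1_c4 LD2_c42 LD3_c32)) :=
  Lgr Lrot0 (Lpr_at (f503243 IH) (Lpn (LP (LK LD1_c4 LD2_c42 LD3_c32))))
theorem f503267 : Led Lsl_ft (LP (LK LD1_c3 LD2_c9 LD3_c47)) = (LP (LK LD1_c4 LD2_c42 LD3_c32)) :=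
  Lgr Lrot101 (Lpr_af (f503261 IH) (Lpe (f503255 IH) (Lpr_af (f503245 IH) (Lpn (LP (LK LD1_c4 LD2_c42 LD3_c32))))))
theorem f503271 : Led Lsl_ff (LP (LK LD1_c3 LD2_c9 LD3_c47)) = (LP (LK LD1_c4 LD2_c42 LD3_c32)) :=
  Lgr Lrot3 (Lpr_ft (f503267 IH) (Lpn (LP (LK LD1_c4 LD2_c42 LD3_c32))))
theorem f154234 : Led Lsl_dt (LP (LK LD1_c3 LD2_c9 LD3_c47)) = (LP (LK LD1_c4 LD2_c50 LD3_c12)) :=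
  Lgr Lrot42 (Lpr_df (f154228 IH) (Lpn (LP (LK LD1_c4 LD2_c50 LD3_c12))))
theorem f503273 : Led Lsl_ft (LP (LK LD1_c4 LD2_c50 LD3_c12)) = (LP (LK LD1_c9 LD2_c19 LD3_c23)) :=
  Lgr Lrot54 (Lpe (f154234 IH) (Lpr_ff (f503271 IH) (Lpe (f86101 IH) (Lpn (LP (LK LD1_c9 LD2_c19 LD3_c23))))))
theorem f154198 : Led Lsl_dt (LP (LK LD1_c3 LD2_c9 LD3_c46)) = (LP (LK LD1_c6 LD2_c24 LD3_c18)) :=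
  Lre_d IH (LK LD1_c3 LD2_c9 LD3_c46) (LK LD1_c6 LD2_c24 LD3_c18) Lrfl Lrfl
theorem f84627 : Led Lsl_et (LP (LK LD1_c0 LD2_c19 LD3_c61)) = (LP (LK LD1_c0 LD2_c45 LD3_c1)) :=
  Lre_e IH (LK LD1_c0 LD2_c19 LD3_c61) (LK LD1_c0 LD2_c45 LD3_c1) Lrfl Lrfl
theorem f140866 : Led Lsl_gt (LP (LK LD1_c0 LD2_c45 LD3_c1)) = (LP (LK LD1_c1 LD2_c37 LD3_c20)) :=
  Lre_g IH (LK LD1_c0 LD2_c45 LD3_c1) (LK LD1_c1 LD2_c37 LD3_c20) Lrfl Lrfl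
theorem f436030 : Led Lsl_et (LP (LK LD1_c3 LD2_c22 LD3_c6)) = (LP (LK LD1_c1 LD2_c37 LD3_c20)) :=
  Lre_e IH (LK LD1_c3 LD2_c22 LD3_c6) (LK LD1_c1 LD2_c37 LD3_c20) Lrfl Lrfl
theorem f436107 : Led Lsl_dt (LP (LK LD1_c3 LD2_c22 LD3_c6)) = (LP (LK LD1_c4 LD2_c42 LD3_c33)) :=
  Lgr Lrot136 (Lpr_et (f436030 IH) (Lpe (f140866 IH) (Lpe (f84627 IH) (Lpr_dt (K0.f7432 IH) (Lpe (K5.f7443 IH) (Lpe (K7.f25700 IH) (Lpr_gf (K7.f152178 IH) (Lpe (K11.f86082 IH) (Lpe (K11.f86084 IH) (Lpe (f86096 IH) (Lpn (LP (LK LD1_c4 LD2_c42 LD3_c33)))))))))))))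
theorem f503253 : Led Lsl_ft (LP (LK LD1_c6 LD2_c24 LD3_c18)) = (LP (LK LD1_c3 LD2_c22 LD3_c6)) :=
  Lgr Lrot54 (Lpe (f154198 IH) (Lpr_ff (f503249 IH) (Lpe (f436107 IH) (Lpn (LP (LK LD1_c3 LD2_c22 LD3_c6))))))
theorem f503275 : Led Lsl_af (LP (LK LD1_c4 LD2_c50 LD3_c12)) = (LP (LK LD1_c3 LD2_c22 LD3_c6)) :=
  Lgr Lrot45 (Lpr_ft (f503273 IH) (Lpe (f503239 IH) (Lpr_ft (f503253 IH) (Lpn (LP (LK LD1_c3 LD2_c22 LD3_c6))))))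
theorem f436114 : Led Lsl_et (LP (LK LD1_c1 LD2_c37 LD3_c20)) = (LP (LK LD1_c3 LD2_c22 LD3_c6)) :=
  Lre_e IH (LK LD1_c1 LD2_c37 LD3_c20) (LK LD1_c3 LD2_c22 LD3_c6) Lrfl Lrfl
theorem f503291 : Led Lsl_at (LP (LK LD1_c2 LD2_c22 LD3_c54)) = (LP (LK LD1_c1 LD2_c37 LD3_c20)) :=
  Lgr Lrot80 (Lpe (f154227 IH) (Lpr_af (f503275 IH) (Lpe (f436114 IH) (Lpn (LP (LK LD1_c1 LD2_c37 LD3_c20))))))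
theorem f503297 : Led Lsl_ff (LP (LK LD1_c2 LD2_c22 LD3_c54)) = (LP (LK LD1_c1 LD2_c37 LD3_c21)) :=
  Lgr Lrot52 (Lpr_at (f503291 IH) (Lpe (f140866 IH) (Lpe (K0.f23242 IH) (Lpn (LP (LK LD1_c1 LD2_c37 LD3_c21))))))
theorem f503307 : Led Lsl_ft (LP (LK LD1_c2 LD2_c22 LD3_c54)) = (LP (LK LD1_c1 LD2_c37 LD3_c21)) :=
  Lgr Lrot48 (Lpr_ff (f503297 IH) (Lpn (LP (LK LD1_c1 LD2_c37 LD3_c21))))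
theorem f503317 : Led Lsl_af (LP (LK LD1_c2 LD2_c22 LD3_c55)) = (LP (LK LD1_c1 LD2_c37 LD3_c21)) :=
  Lgr Lrot31 (Lpe (K16.f23821 IH) (Lpe (f24671 IH) (Lpr_ft (f503307 IH) (Lpn (LP (LK LD1_c1 LD2_c37 LD3_c21))))))
theorem f503327 : v1798 = (LP (LK LD1_c2 LD2_c17 LD3_c37)) :=
  (Llr Lrot51 (Lpe (f502968 IH) (Lpe (K24.f415317 IH) (Lpr_af (f503317 IH) (Lpe (K0.f23222 IH) (Lpn (LP (LK LD1_c2 LD2_c17 LD3_c37)))))))).symm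
theorem f503330 : v461 = (LP (LK LD1_c1 LD2_c5 LD3_c42)) :=
  Lefun (Lecon (Lfl_ef (f502970 IH)) (f503327 IH)) (K0.f23217 IH)
theorem f503331 : (LP (LK LD1_c0 LD2_c40 LD3_c25)) = v1289 :=
  Lefun (Lecon (Lfl_af (f453010 IH)) (f503330 IH)) (f494652 IH)
theorem f503351 : (LP (LK LD1_c1 LD2_c5 LD3_c43)) = v462 :=
  Lefun (Lecon (Lfl_ff (f494656 IH)) (f503331 IH).symm) (f453017 IH)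
theorem f503365 : v1797 = (LP (LK LD1_c2 LD2_c17 LD3_c40)) :=
  Lefun (Lecon (f502967 IH) (f503351 IH).symm) (K24.f20128 IH)
theorem f503373 : v1833 = (LP (LK LD1_c1 LD2_c27 LD3_c28)) :=
  Lefun (Lecon (f503216 IH) (f503365 IH)) (K24.f20096 IH)
theorem f503388 : Led Lsl_ff (LP (LK LD1_c3 LD2_c3 LD3_c7)) = (LP (LK LD1_c3 LD2_c6 LD3_c7)) :=
  Lgr Lrot19 (Lpr_dt (K24.f20115 IH) (Lpq (f503373 IH) (Lpe (f503220 IH) (Lpr_dt (f57620 IH) (Lpn (LP (LK LD1_c3 LD2_c6 LD3_c7)))))))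
theorem f503398 : Led Lsl_at (LP (LK LD1_c3 LD2_c3 LD3_c7)) = (LP (LK LD1_c3 LD2_c6 LD3_c5)) :=
  Lgr Lrot26 (Lpr_ff (f503388 IH) (Lpr_gt (f416134 IH) (Lpr_gt (K29.f443962 IH) (Lpn (LP (LK LD1_c3 LD2_c6 LD3_c5))))))
theorem f20133 : Led Lsl_ef (LP (LK LD1_c2 LD2_c17 LD3_c40)) = (LP (LK LD1_c1 LD2_c27 LD3_c28)) :=
  Lgr Lrot88 (Lpr_et (K24.f20096 IH) (Lpn (LP (LK LD1_c1 LD2_c27 LD3_c28))))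
theorem f20144 : Led Lsl_et (LP (LK LD1_c4 LD2_c41 LD3_c16)) = (LP (LK LD1_c3 LD2_c3 LD3_c7)) :=
  Lgr Lrot71 (Lpe (K24.f20143 IH) (Lpe (K29.f20142 IH) (Lpe (K24.f20093 IH) (Lpr_ef (f20133 IH) (Lpe (K24.f20115 IH) (Lpn (LP (LK LD1_c3 LD2_c3 LD3_c7))))))))
theorem f503479 : Led Lsl_af (LP (LK LD1_c4 LD2_c41 LD3_c16)) = (LP (LK LD1_c3 LD2_c3 LD3_c3)) :=
  Lgr Lrot50 (Lpr_et (f20144 IH) (Lpr_at (f503398 IH) (Lpe (f443960 IH) (Lpn (LP (LK LD1_c3 LD2_c3 LD3_c3))))))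
theorem f68387 : Led Lsl_gt (LP (LK LD1_c4 LD2_c48 LD3_c3)) = (LP (LK LD1_c2 LD2_c21 LD3_c55)) :=
  Lre_g IH (LK LD1_c4 LD2_c48 LD3_c3) (LK LD1_c2 LD2_c21 LD3_c55) Lrfl Lrfl
theorem f503531 : Led Lsl_ft (LP (LK LD1_c4 LD2_c48 LD3_c3)) = (LP (LK LD1_c3 LD2_c3 LD3_c3)) :=
  Lgr Lrot2 (Lpr_gt (f68387 IH) (Lpr_gt (K24.f416139 IH) (Lpr_af (f503479 IH) (Lpn (LP (LK LD1_c3 LD2_c3 LD3_c3))))))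
theorem f503541 : Led Lsl_ff (LP (LK LD1_c4 LD2_c48 LD3_c3)) = (LP (LK LD1_c3 LD2_c3 LD3_c3)) :=
  Lgr Lrot3 (Lpr_ft (f503531 IH) (Lpn (LP (LK LD1_c3 LD2_c3 LD3_c3))))
theorem f153596 : Led Lsl_gt (LP (LK LD1_c0 LD2_c41 LD3_c49)) = (LP (LK LD1_c1 LD2_c6 LD3_c12)) :=
  Lgr Lrot5 (Lpr_ft (K7.f153575 IH) (Lpr_at (K7.f153576 IH) (Lpe (K31.f59488 IH) (Lpn (LP (LK LD1_c1 LD2_c6 LD3_c12))))))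
theorem f25906 : Led Lsl_ft (LP (LK LD1_c1 LD2_c6 LD3_c19)) = (LP (LK LD1_c0 LD2_c30 LD3_c18)) :=
  Lre_f IH (LK LD1_c1 LD2_c6 LD3_c19) (LK LD1_c0 LD2_c30 LD3_c18) Lrfl Lrfl
theorem f153966 : Led Lsl_at (LP (LK LD1_c0 LD2_c30 LD3_c18)) = (LP (LK LD1_c0 LD2_c18 LD3_c42)) :=
  Lgr Lrot33 (Lpe (f25906 IH) (Lpr_dt (K7.f25903 IH) (Lpr_ct (K7.f25902 IH) (Lpe (K7.f25781 IH) (Lpr_ct (K7.f25900 IH) (Lpr_dt (K7.f25901 IH) (Lpr_ct (K7.f153745 IH) (Lpr_dt (K7.f67154 IH) (Lpr_ct (K2.f67085 IH) (Lpn (LP (LK LD1_c0 LD2_c18 LD3_c42))))))))))))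
theorem f82777 : Led Lsl_et (LP (LK LD1_c1 LD2_c6 LD3_c13)) = (LP (LK LD1_c0 LD2_c30 LD3_c18)) :=
  Lre_e IH (LK LD1_c1 LD2_c6 LD3_c13) (LK LD1_c0 LD2_c30 LD3_c18) Lrfl Lrfl
theorem f154000 : Led Lsl_af (LP (LK LD1_c1 LD2_c6 LD3_c13)) = (LP (LK LD1_c0 LD2_c41 LD3_c48)) :=
  Lgr Lrot50 (Lpr_et (f82777 IH) (Lpr_at (f153966 IH) (Lpr_et (K9.f67172 IH) (Lpn (LP (LK LD1_c0 LD2_c41 LD3_c48))))))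
theorem f61083 : Led Lsl_gt (LP (LK LD1_c2 LD2_c18 LD3_c25)) = (LP (LK LD1_c1 LD2_c6 LD3_c13)) :=
  Lre_g IH (LK LD1_c2 LD2_c18 LD3_c25) (LK LD1_c1 LD2_c6 LD3_c13) Lrfl Lrfl
theorem f154050 : Led Lsl_ft (LP (LK LD1_c1 LD2_c30 LD3_c36)) = (LP (LK LD1_c0 LD2_c41 LD3_c48)) :=
  Lre_f IH (LK LD1_c1 LD2_c30 LD3_c36) (LK LD1_c0 LD2_c41 LD3_c48) Lrfl Lrfl
theorem f154051 : Led Lsl_gf (LP (LK LD1_c2 LD2_c18 LD3_c25)) = (LP (LK LD1_c1 LD2_c30 LD3_c36)) :=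
  Lgr Lrot47 (Lpr_gt (f61083 IH) (Lpr_af (f154000 IH) (Lpe (f154050 IH) (Lpn (LP (LK LD1_c1 LD2_c30 LD3_c36))))))
theorem f24709 : Led Lsl_gt (LP (LK LD1_c3 LD2_c19 LD3_c37)) = (LP (LK LD1_c1 LD2_c36 LD3_c13)) :=
  Lre_g IH (LK LD1_c3 LD2_c19 LD3_c37) (LK LD1_c1 LD2_c36 LD3_c13) Lrfl Lrfl
theorem f500049 : Led Lsl_ct (LP (LK LD1_c2 LD2_c18 LD3_c25)) = (LP (LK LD1_c3 LD2_c19 LD3_c37)) :=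
  Lgr Lrot152 (Lpr_gf (f154051 IH) (Lpe (K7.f153528 IH) (Lpr_gt (f153596 IH) (Lpr_ct (K31.f494705 IH) (Lpqs (K31.f500029 IH) (Lpr_gt (K31.f59435 IH) (Lpe (K9.f139805 IH) (Lpe (K5.f24611 IH) (Lpe (K5.f24690 IH) (Lpe (f24709 IH) (Lpn (LP (LK LD1_c3 LD2_c19 LD3_c37)))))))))))))
theorem f61071 : Led Lsl_dt (LP (LK LD1_c1 LD2_c6 LD3_c13)) = (LP (LK LD1_c0 LD2_c30 LD3_c15)) :=
  Lre_d IH (LK LD1_c1 LD2_c6 LD3_c13) (LK LD1_c0 LD2_c30 LD3_c15) Lrfl Lrfl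
theorem f61031 : Led Lsl_ct (LP (LK LD1_c4 LD2_c42 LD3_c4)) = (LP (LK LD1_c2 LD2_c18 LD3_c21)) :=
  Lre_c IH (LK LD1_c4 LD2_c42 LD3_c4) (LK LD1_c2 LD2_c18 LD3_c21) Lrfl Lrfl
theorem f24703 : Led Lsl_dt (LP (LK LD1_c1 LD2_c36 LD3_c13)) = (LP (LK LD1_c3 LD2_c19 LD3_c39)) :=
  Lre_d IH (LK LD1_c1 LD2_c36 LD3_c13) (LK LD1_c3 LD2_c19 LD3_c39) Lrfl Lrfl
theorem f24942 : Led Lsl_gt (LP (LK LD1_c3 LD2_c19 LD3_c39)) = (LP (LK LD1_c6 LD2_c43 LD3_c5)) :=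
  Lre_g IH (LK LD1_c3 LD2_c19 LD3_c39) (LK LD1_c6 LD2_c43 LD3_c5) Lrfl Lrfl
theorem f500078 : Led Lsl_df (LP (LK LD1_c4 LD2_c42 LD3_c4)) = (LP (LK LD1_c6 LD2_c43 LD3_c5)) :=
  Lgr Lrot174 (Lpr_ct (f61031 IH) (Lpe (K8.f61014 IH) (Lpe (K8.f61012 IH) (Lpe (f61071 IH) (Lpe (f61083 IH) (Lpr_ct (f500049 IH) (Lpr_gt (f24709 IH) (Lpr_dt (f24703 IH) (Lpr_gt (f24942 IH) (Lpn (LP (LK LD1_c6 LD2_c43 LD3_c5))))))))))))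
theorem f500083 : Led Lsl_dt (LP (LK LD1_c4 LD2_c42 LD3_c4)) = (LP (LK LD1_c6 LD2_c43 LD3_c5)) :=
  Lgr Lrot42 (Lpr_df (f500078 IH) (Lpn (LP (LK LD1_c6 LD2_c43 LD3_c5))))
theorem f135683 : Led Lsl_gf (LP (LK LD1_c9 LD2_c29 LD3_c9)) = (LP (LK LD1_c6 LD2_c43 LD3_c5)) :=
  Lgr Lrot76 (Lpr_af (K6.f135666 IH) (Lpe (K6.f135665 IH) (Lpr_gt (f24942 IH) (Lpn (LP (LK LD1_c6 LD2_c43 LD3_c5))))))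
theorem f92220 : Led Lsl_ct (LP (LK LD1_c2 LD2_c21 LD3_c61)) = (LP (LK LD1_c4 LD2_c48 LD3_c11)) :=
  Lre_c IH (LK LD1_c2 LD2_c21 LD3_c61) (LK LD1_c4 LD2_c48 LD3_c11) Lrfl Lrfl
theorem f139843 : Led Lsl_ft (LP (LK LD1_c0 LD2_c19 LD3_c50)) = (LP (LK LD1_c0 LD2_c44 LD3_c36)) :=
  Lre_f IH (LK LD1_c0 LD2_c19 LD3_c50) (LK LD1_c0 LD2_c44 LD3_c36) Lrfl Lrfl
theorem f146019 : Led Lsl_gt (LP (LK LD1_c0 LD2_c44 LD3_c33)) = (LP (LK LD1_c1 LD2_c8 LD3_c9)) :=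
  Lgr Lrot46 (Lpe (K9.f24620 IH) (Lpr_ft (f139843 IH) (Lpr_at (K6.f146009 IH) (Lpn (LP (LK LD1_c1 LD2_c8 LD3_c9))))))
theorem f24633 : Led Lsl_gt (LP (LK LD1_c3 LD2_c19 LD3_c26)) = (LP (LK LD1_c1 LD2_c36 LD3_c7)) :=
  Lre_g IH (LK LD1_c3 LD2_c19 LD3_c26) (LK LD1_c1 LD2_c36 LD3_c7) Lrfl Lrfl
theorem f146022 : Led Lsl_ct (LP (LK LD1_c6 LD2_c42 LD3_c52)) = (LP (LK LD1_c3 LD2_c19 LD3_c26)) :=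
  Lre_c IH (LK LD1_c6 LD2_c42 LD3_c52) (LK LD1_c3 LD2_c19 LD3_c26) Lrfl Lrfl
theorem f500089 : Led Lsl_gf (LP (LK LD1_c4 LD2_c42 LD3_c4)) = (LP (LK LD1_c6 LD2_c42 LD3_c52)) :=
  Lgr Lrot144 (Lpr_dt (f500083 IH) (Lpe (f135683 IH) (Lpr_dt (K6.f92122 IH) (Lpe (f92220 IH) (Lpe (K6.f92219 IH) (Lpe (f146019 IH) (Lpe (f24640 IH) (Lpe (f24633 IH) (Lpe (f146022 IH) (Lpn (LP (LK LD1_c6 LD2_c42 LD3_c52))))))))))))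
theorem f82708 : Led Lsl_dt (LP (LK LD1_c2 LD2_c18 LD3_c21)) = (LP (LK LD1_c1 LD2_c6 LD3_c11)) :=
  Lre_d IH (LK LD1_c2 LD2_c18 LD3_c21) (LK LD1_c1 LD2_c6 LD3_c11) Lrfl Lrfl
theorem f436255 : Led Lsl_cf (LP (LK LD1_c1 LD2_c6 LD3_c11)) = (LP (LK LD1_c1 LD2_c21 LD3_c46)) :=
  Lgr Lrot11 (Lpr_ct (K24.f436245 IH) (Lpn (LP (LK LD1_c1 LD2_c21 LD3_c46))))
theorem f146021 : Led Lsl_ct (LP (LK LD1_c3 LD2_c19 LD3_c26)) = (LP (LK LD1_c6 LD2_c42 LD3_c52)) :=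
  Lre_c IH (LK LD1_c3 LD2_c19 LD3_c26) (LK LD1_c6 LD2_c42 LD3_c52) Lrfl Lrfl
theorem f500092 : Led Lsl_gt (LP (LK LD1_c1 LD2_c36 LD3_c9)) = (LP (LK LD1_c3 LD2_c19 LD3_c26)) :=
  Lgr Lrot9 (Lpe (f415411 IH) (Lpr_gt (K29.f24630 IH) (Lpr_ct (K31.f26474 IH) (Lpr_gt (K9.f139883 IH) (Lpe (f436255 IH) (Lpe (f82708 IH) (Lpe (f61031 IH) (Lpr_gf (f500089 IH) (Lpe (f146021 IH) (Lpn (LP (LK LD1_c3 LD2_c19 LD3_c26))))))))))))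
theorem f503549 : Led Lsl_at (LP (LK LD1_c4 LD2_c48 LD3_c3)) = (LP (LK LD1_c3 LD2_c19 LD3_c26)) :=
  Lgr Lrot26 (Lpr_ff (f503541 IH) (Lpr_gt (f444275 IH) (Lpr_gt (f500092 IH) (Lpn (LP (LK LD1_c3 LD2_c19 LD3_c26))))))
theorem f503529 : Led Lsl_at (LP (LK LD1_c4 LD2_c41 LD3_c16)) = (LP (LK LD1_c3 LD2_c3 LD3_c3)) :=
  Lgr Lrot100 (Lpr_af (f503479 IH) (Lpn (LP (LK LD1_c3 LD2_c3 LD3_c3))))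
theorem f503553 : Led Lsl_ff (LP (LK LD1_c4 LD2_c41 LD3_c16)) = (LP (LK LD1_c3 LD2_c19 LD3_c26)) :=
  Lgr Lrot30 (Lpr_at (f503529 IH) (Lpe (f503541 IH) (Lpr_at (f503549 IH) (Lpn (LP (LK LD1_c3 LD2_c19 LD3_c26))))))
theorem f416946 : Led Lsl_ft (LP (LK LD1_c2 LD2_c17 LD3_c41)) = (LP (LK LD1_c4 LD2_c41 LD3_c17)) :=
  Lre_f IH (LK LD1_c2 LD2_c17 LD3_c41) (LK LD1_c4 LD2_c41 LD3_c17) Lrfl Lrfl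
theorem f503555 : Led Lsl_dt (LP (LK LD1_c4 LD2_c41 LD3_c17)) = (LP (LK LD1_c3 LD2_c19 LD3_c26)) :=
  Lgr Lrot60 (Lpe (f416946 IH) (Lpe (K24.f20130 IH) (Lpr_ff (f503553 IH) (Lpn (LP (LK LD1_c3 LD2_c19 LD3_c26))))))
theorem f503559 : Led Lsl_df (LP (LK LD1_c4 LD2_c41 LD3_c17)) = (LP (LK LD1_c3 LD2_c19 LD3_c26)) :=
  Lgr Lrot38 (Lpr_dt (f503555 IH) (Lpn (LP (LK LD1_c3 LD2_c19 LD3_c26))))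
theorem f453016 : Led Lsl_ft (LP (LK LD1_c1 LD2_c27 LD3_c26)) = (LP (LK LD1_c3 LD2_c3 LD3_c4)) :=
  Lre_f IH (LK LD1_c1 LD2_c27 LD3_c26) (LK LD1_c3 LD2_c3 LD3_c4) Lrfl Lrfl
theorem f503537 : Led Lsl_df (LP (LK LD1_c4 LD2_c48 LD3_c3)) = (LP (LK LD1_c3 LD2_c3 LD3_c4)) :=
  Lgr Lrot78 (Lpr_ft (f503531 IH) (Lpr_dt (K9.f24635 IH) (Lpr_ft (f453016 IH) (Lpn (LP (LK LD1_c3 LD2_c3 LD3_c4))))))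
theorem f503639 : Led Lsl_at (LP (LK LD1_c4 LD2_c41 LD3_c17)) = (LP (LK LD1_c3 LD2_c3 LD3_c4)) :=
  Lgr Lrot51 (Lpr_df (f503559 IH) (Lpe (f503549 IH) (Lpr_df (f503537 IH) (Lpn (LP (LK LD1_c3 LD2_c3 LD3_c4))))))
theorem f503641 : Led Lsl_gt (LP (LK LD1_c3 LD2_c19 LD3_c35)) = (LP (LK LD1_c3 LD2_c3 LD3_c4)) :=
  Lgr Lrot46 (Lpr_gf (K29.f416944 IH) (Lpr_ft (f416946 IH) (Lpr_at (f503639 IH) (Lpn (LP (LK LD1_c3 LD2_c3 LD3_c4))))))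
theorem f23240 : Led Lsl_ft (LP (LK LD1_c2 LD2_c17 LD3_c37)) = (LP (LK LD1_c4 LD2_c41 LD3_c10)) :=
  Lre_f IH (LK LD1_c2 LD2_c17 LD3_c37) (LK LD1_c4 LD2_c41 LD3_c10) Lrfl Lrfl
theorem f503313 : Led Lsl_df (LP (LK LD1_c2 LD2_c22 LD3_c54)) = (LP (LK LD1_c4 LD2_c41 LD3_c10)) :=
  Lgr Lrot78 (Lpr_ft (f503307 IH) (Lpe (K24.f23234 IH) (Lpr_ft (f23240 IH) (Lpn (LP (LK LD1_c4 LD2_c41 LD3_c10))))))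
theorem f503645 : Led Lsl_et (LP (LK LD1_c4 LD2_c41 LD3_c10)) = (LP (LK LD1_c3 LD2_c3 LD3_c4)) :=
  Lgr Lrot122 (Lpe (f503313 IH) (Lpr_gt (f24671 IH) (Lpe (K16.f23820 IH) (Lpr_et (K16.f24670 IH) (Lpr_gt (K0.f23214 IH) (Lpr_dt (K16.f23200 IH) (Lpr_gt (K24.f416790 IH) (Lpr_df (K16.f415415 IH) (Lpe (K29.f416940 IH) (Lpr_gt (f503641 IH) (Lpn (LP (LK LD1_c3 LD2_c3 LD3_c4)))))))))))))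
theorem f503647 : Led Lsl_ef (LP (LK LD1_c4 LD2_c41 LD3_c10)) = (LP (LK LD1_c3 LD2_c3 LD3_c4)) :=
  Lgr Lrot88 (Lpr_et (f503645 IH) (Lpn (LP (LK LD1_c3 LD2_c3 LD3_c4))))
theorem f24658 : Led Lsl_gf (LP (LK LD1_c1 LD2_c36 LD3_c8)) = (LP (LK LD1_c1 LD2_c37 LD3_c2)) :=
  Lgr Lrot141 (Lpe (f24656 IH) (Lpr_dt (K9.f24621 IH) (Lpr_gt (K9.f24625 IH) (Lpe (K9.f24624 IH) (Lpr_et (K9.f24623 IH) (Lpr_gt (K9.f22958 IH) (Lpr_dt (K16.f22957 IH) (Lpr_gt (K0.f23179 IH) (Lpe (K17.f23204 IH) (Lpr_et (K24.f24657 IH) (Lpn (LP (LK LD1_c1 LD2_c37 LD3_c2)))))))))))))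
theorem f144065 : Led Lsl_df (LP (LK LD1_c1 LD2_c36 LD3_c8)) = (LP (LK LD1_c1 LD2_c7 LD3_c22)) :=
  Lgr Lrot38 (Lpr_dt (f144062 IH) (Lpn (LP (LK LD1_c1 LD2_c7 LD3_c22))))
theorem f503653 : Led Lsl_gf (LP (LK LD1_c4 LD2_c41 LD3_c10)) = (LP (LK LD1_c2 LD2_c20 LD3_c13)) :=
  Lgr Lrot141 (Lpr_ef (f503647 IH) (Lpe (f503537 IH) (Lpr_gt (f68387 IH) (Lpe (K24.f68373 IH) (Lpe (K24.f68376 IH) (Lpe (K24.f446145 IH) (Lpr_dt (K24.f23206 IH) (Lpe (f24658 IH) (Lpr_df (f144065 IH) (Lpr_et (f144067 IH) (Lpn (LP (LK LD1_c2 LD2_c20 LD3_c13)))))))))))))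
theorem f415321 : Led Lsl_ft (LP (LK LD1_c1 LD2_c27 LD3_c22)) = (LP (LK LD1_c3 LD2_c2 LD3_c55)) :=
  Lre_f IH (LK LD1_c1 LD2_c27 LD3_c22) (LK LD1_c3 LD2_c2 LD3_c55) Lrfl Lrfl
theorem f503655 : Led Lsl_af (LP (LK LD1_c4 LD2_c41 LD3_c10)) = (LP (LK LD1_c3 LD2_c2 LD3_c55)) :=
  Lgr Lrot31 (Lpr_gf (f503653 IH) (Lpr_gf (f438816 IH) (Lpr_ft (f415321 IH) (Lpn (LP (LK LD1_c3 LD2_c2 LD3_c55))))))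
theorem f416567 : Led Lsl_ef (LP (LK LD1_c6 LD2_c24 LD3_c18)) = (LP (LK LD1_c3 LD2_c19 LD3_c61)) :=
  Lgr Lrot88 (Lpr_et (f416563 IH) (Lpn (LP (LK LD1_c3 LD2_c19 LD3_c61))))
theorem f416571 : Led Lsl_et (LP (LK LD1_c3 LD2_c9 LD3_c46)) = (LP (LK LD1_c3 LD2_c6 LD3_c7)) :=
  Lgr Lrot71 (Lpe (f154225 IH) (Lpr_ef (f416567 IH) (Lpe (K24.f57604 IH) (Lpe (f57613 IH) (Lpe (f25647 IH) (Lpn (LP (LK LD1_c3 LD2_c6 LD3_c7))))))))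
theorem f154238 : Led Lsl_gt (LP (LK LD1_c4 LD2_c50 LD3_c12)) = (LP (LK LD1_c9 LD2_c32 LD3_c46)) :=
  Lre_g IH (LK LD1_c4 LD2_c50 LD3_c12) (LK LD1_c9 LD2_c32 LD3_c46) Lrfl Lrfl
theorem f503277 : Led Lsl_gt (LP (LK LD1_c9 LD2_c32 LD3_c46)) = (LP (LK LD1_c6 LD2_c24 LD3_c18)) :=
  Lgr Lrot46 (Lpe (f154238 IH) (Lpr_ft (f503273 IH) (Lpe (f503239 IH) (Lpn (LP (LK LD1_c6 LD2_c24 LD3_c18))))))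
theorem f433547 : Led Lsl_gt (LP (LK LD1_c4 LD2_c42 LD3_c32)) = (LP (LK LD1_c3 LD2_c9 LD3_c48)) :=
  Lgr Lrot46 (Lpe (f86097 IH) (Lpr_ft (K11.f86092 IH) (Lpr_at (K11.f433539 IH) (Lpn (LP (LK LD1_c3 LD2_c9 LD3_c48))))))
theorem f433553 : Led Lsl_gf (LP (LK LD1_c4 LD2_c42 LD3_c33)) = (LP (LK LD1_c3 LD2_c9 LD3_c48)) :=
  Lgr Lrot47 (Lpr_gt (f86096 IH) (Lpr_af (K11.f433545 IH) (Lpe (K11.f154213 IH) (Lpn (LP (LK LD1_c3 LD2_c9 LD3_c48))))))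
theorem f415758 : Led Lsl_gt (LP (LK LD1_c1 LD2_c37 LD3_c20)) = (LP (LK LD1_c2 LD2_c22 LD3_c49)) :=
  Lre_g IH (LK LD1_c1 LD2_c37 LD3_c20) (LK LD1_c2 LD2_c22 LD3_c49) Lrfl Lrfl
theorem f437962 : Led Lsl_gf (LP (LK LD1_c1 LD2_c27 LD3_c29)) = (LP (LK LD1_c1 LD2_c29 LD3_c10)) :=
  Lgr Lrot145 (Lpe (f23289 IH) (Lpr_et (f437956 IH) (Lpr_gt (f433547 IH) (Lpr_dt (K11.f154214 IH) (Lpe (f433553 IH) (Lpe (f436107 IH) (Lpr_et (f436030 IH) (Lpr_gt (f415758 IH) (Lpe (K24.f25597 IH) (Lpr_dt (K24.f25593 IH) (Lpn (LP (LK LD1_c1 LD2_c29 LD3_c10)))))))))))))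
theorem f415337 : Led Lsl_et (LP (LK LD1_c1 LD2_c5 LD3_c44)) = (LP (LK LD1_c1 LD2_c29 LD3_c10)) :=
  Lgr Lrot122 (Lpr_dt (K9.f25594 IH) (Lpr_gt (K16.f139931 IH) (Lpe (K16.f27137 IH) (Lpe (K16.f415251 IH) (Lpr_gt (K16.f20137 IH) (Lpr_dt (K24.f20136 IH) (Lpr_gt (K17.f20135 IH) (Lpe (K24.f20093 IH) (Lpr_et (K24.f20096 IH) (Lpr_gt (K24.f415335 IH) (Lpn (LP (LK LD1_c1 LD2_c29 LD3_c10)))))))))))))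
theorem f437964 : Led Lsl_gt (LP (LK LD1_c4 LD2_c48 LD3_c29)) = (LP (LK LD1_c2 LD2_c22 LD3_c10)) :=
  Lgr Lrot112 (Lpe (f23283 IH) (Lpr_et (f20962 IH) (Lpr_gf (f437962 IH) (Lpe (f415337 IH) (Lpr_dt (K9.f25594 IH) (Lpe (K0.f23218 IH) (Lpe (K17.f23204 IH) (Lpe (K24.f415342 IH) (Lpe (K24.f416669 IH) (Lpr_dt (K29.f135526 IH) (Lpn (LP (LK LD1_c2 LD2_c22 LD3_c10)))))))))))))
theorem f443005 : Led Lsl_et (LP (LK LD1_c0 LD2_c43 LD3_c26)) = (LP (LK LD1_c1 LD2_c33 LD3_c45)) :=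
  Lre_e IH (LK LD1_c0 LD2_c43 LD3_c26) (LK LD1_c1 LD2_c33 LD3_c45) Lrfl Lrfl
theorem f446162 : Led Lsl_gf (LP (LK LD1_c3 LD2_c3 LD3_c10)) = (LP (LK LD1_c1 LD2_c33 LD3_c45)) :=
  Lgr Lrot138 (Lpr_dt (f23283 IH) (Lpr_gt (f437964 IH) (Lpe (K29.f135526 IH) (Lpr_et (K24.f416669 IH) (Lpr_gt (K24.f415342 IH) (Lpe (K24.f23205 IH) (Lpe (K24.f446137 IH) (Lpr_gt (K24.f446151 IH) (Lpe (K0.f22521 IH) (Lpr_et (f443005 IH) (Lpn (LP (LK LD1_c1 LD2_c33 LD3_c45)))))))))))))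
theorem f23286 : Led Lsl_df (LP (LK LD1_c3 LD2_c3 LD3_c10)) = (LP (LK LD1_c4 LD2_c48 LD3_c29)) :=
  Lgr Lrot38 (Lpr_dt (f23283 IH) (Lpn (LP (LK LD1_c4 LD2_c48 LD3_c29))))
theorem f143888 : Led Lsl_ct (LP (LK LD1_c6 LD2_c48 LD3_c40)) = (LP (LK LD1_c3 LD2_c22 LD3_c29)) :=
  Lre_c IH (LK LD1_c6 LD2_c48 LD3_c40) (LK LD1_c3 LD2_c22 LD3_c29) Lrfl Lrfl
theorem f145981 : Led Lsl_af (LP (LK LD1_c3 LD2_c19 LD3_c41)) = (LP (LK LD1_c3 LD2_c22 LD3_c29)) :=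
  Lgr Lrot68 (Lpr_ct (K6.f145980 IH) (Lpr_at (K6.f145966 IH) (Lpr_ct (f143888 IH) (Lpn (LP (LK LD1_c3 LD2_c22 LD3_c29))))))
theorem f146118 : Led Lsl_gt (LP (LK LD1_c1 LD2_c37 LD3_c30)) = (LP (LK LD1_c3 LD2_c22 LD3_c27)) :=
  Lre_g IH (LK LD1_c1 LD2_c37 LD3_c30) (LK LD1_c3 LD2_c22 LD3_c27) Lrfl Lrfl
theorem f437557 : Led Lsl_gf (LP (LK LD1_c3 LD2_c19 LD3_c41)) = (LP (LK LD1_c3 LD2_c22 LD3_c27)) :=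
  Lgr Lrot76 (Lpr_af (f145981 IH) (Lpe (K6.f143893 IH) (Lpr_gt (f146118 IH) (Lpn (LP (LK LD1_c3 LD2_c22 LD3_c27))))))
theorem f146124 : Led Lsl_dt (LP (LK LD1_c6 LD2_c48 LD3_c42)) = (LP (LK LD1_c3 LD2_c22 LD3_c27)) :=
  Lre_d IH (LK LD1_c6 LD2_c48 LD3_c42) (LK LD1_c3 LD2_c22 LD3_c27) Lrfl Lrfl
theorem f436109 : Led Lsl_gt (LP (LK LD1_c6 LD2_c47 LD3_c50)) = (LP (LK LD1_c3 LD2_c22 LD3_c6)) :=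
  Lre_g IH (LK LD1_c6 LD2_c47 LD3_c50) (LK LD1_c3 LD2_c22 LD3_c6) Lrfl Lrfl
theorem f436110 : Led Lsl_et (LP (LK LD1_c6 LD2_c48 LD3_c42)) = (LP (LK LD1_c6 LD2_c47 LD3_c50)) :=
  Lgr Lrot121 (Lpr_dt (f146124 IH) (Lpe (f146118 IH) (Lpe (K6.f146098 IH) (Lpr_et (K6.f146122 IH) (Lpr_gf (K7.f152178 IH) (Lpe (K11.f86082 IH) (Lpe (K11.f86084 IH) (Lpe (f86096 IH) (Lpe (f436107 IH) (Lpe (f436109 IH) (Lpn (LP (LK LD1_c6 LD2_c47 LD3_c50)))))))))))))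
theorem f446166 : Led Lsl_gt (LP (LK LD1_c9 LD2_c19 LD3_c23)) = (LP (LK LD1_c6 LD2_c47 LD3_c50)) :=
  Lgr Lrot131 (Lpe (f437969 IH) (Lpe (f23286 IH) (Lpr_gf (f446162 IH) (Lpe (K29.f135429 IH) (Lpr_gf (f135427 IH) (Lpe (K6.f84345 IH) (Lpe (K6.f146062 IH) (Lpr_gf (f437557 IH) (Lpe (f146124 IH) (Lpr_et (f436110 IH) (Lpn (LP (LK LD1_c6 LD2_c47 LD3_c50)))))))))))))
theorem f503279 : Led Lsl_df (LP (LK LD1_c9 LD2_c32 LD3_c46)) = (LP (LK LD1_c6 LD2_c47 LD3_c50)) :=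
  Lgr Lrot135 (Lpr_gt (f503277 IH) (Lpe (f154198 IH) (Lpr_et (f416571 IH) (Lpr_gt (f416134 IH) (Lpe (K29.f416167 IH) (Lpr_dt (K29.f135429 IH) (Lpe (f446162 IH) (Lpr_df (f23286 IH) (Lpr_et (f437969 IH) (Lpr_gt (f446166 IH) (Lpn (LP (LK LD1_c6 LD2_c47 LD3_c50)))))))))))))
theorem f146119 : Led Lsl_dt (LP (LK LD1_c3 LD2_c22 LD3_c27)) = (LP (LK LD1_c6 LD2_c48 LD3_c42)) :=
  Lre_d IH (LK LD1_c3 LD2_c22 LD3_c27) (LK LD1_c6 LD2_c48 LD3_c42) Lrfl Lrfl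
theorem f435210 : Led Lsl_et (LP (LK LD1_c6 LD2_c48 LD3_c43)) = (LP (LK LD1_c3 LD2_c22 LD3_c27)) :=
  Lre_e IH (LK LD1_c6 LD2_c48 LD3_c43) (LK LD1_c3 LD2_c22 LD3_c27) Lrfl Lrfl
theorem f86382 : Led Lsl_gt (LP (LK LD1_c4 LD2_c50 LD3_c26)) = (LP (LK LD1_c2 LD2_c22 LD3_c61)) :=
  Lre_g IH (LK LD1_c4 LD2_c50 LD3_c26) (LK LD1_c2 LD2_c22 LD3_c61) Lrfl Lrfl
theorem f435211 : Led Lsl_df (LP (LK LD1_c4 LD2_c50 LD3_c26)) = (LP (LK LD1_c6 LD2_c48 LD3_c43)) :=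
  Lgr Lrot170 (Lpr_gt (f86382 IH) (Lpe (K6.f143036 IH) (Lpr_et (K11.f121410 IH) (Lpr_gt (K7.f152790 IH) (Lpr_dt (K11.f25798 IH) (Lpr_gt (K7.f82527 IH) (Lpr_df (K11.f154174 IH) (Lpr_et (K6.f143894 IH) (Lpr_gt (f146118 IH) (Lpe (f435210 IH) (Lpn (LP (LK LD1_c6 LD2_c48 LD3_c43)))))))))))))
theorem f435213 : Led Lsl_dt (LP (LK LD1_c4 LD2_c50 LD3_c26)) = (LP (LK LD1_c6 LD2_c48 LD3_c43)) :=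
  Lgr Lrot42 (Lpr_df (f435211 IH) (Lpn (LP (LK LD1_c6 LD2_c48 LD3_c43))))
theorem f503283 : Led Lsl_et (LP (LK LD1_c9 LD2_c32 LD3_c46)) = (LP (LK LD1_c4 LD2_c50 LD3_c26)) :=
  Lgr Lrot71 (Lpr_df (f503279 IH) (Lpe (f436110 IH) (Lpe (f146119 IH) (Lpe (f435210 IH) (Lpe (f435213 IH) (Lpn (LP (LK LD1_c4 LD2_c50 LD3_c26))))))))
theorem f503281 : Led Lsl_dt (LP (LK LD1_c9 LD2_c32 LD3_c46)) = (LP (LK LD1_c6 LD2_c47 LD3_c50)) :=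
  Lgr Lrot42 (Lpr_df (f503279 IH) (Lpn (LP (LK LD1_c6 LD2_c47 LD3_c50))))
theorem f436120 : Led Lsl_df (LP (LK LD1_c3 LD2_c22 LD3_c6)) = (LP (LK LD1_c4 LD2_c42 LD3_c33)) :=
  Lgr Lrot38 (Lpr_dt (f436107 IH) (Lpn (LP (LK LD1_c4 LD2_c42 LD3_c33))))
theorem f57675 : Led Lsl_gt (LP (LK LD1_c3 LD2_c22 LD3_c22)) = (LP (LK LD1_c1 LD2_c37 LD3_c27)) :=
  Lre_g IH (LK LD1_c3 LD2_c22 LD3_c22) (LK LD1_c1 LD2_c37 LD3_c27) Lrfl Lrfl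
theorem f146087 : Led Lsl_gf (LP (LK LD1_c3 LD2_c22 LD3_c22)) = (LP (LK LD1_c4 LD2_c48 LD3_c41)) :=
  Lgr Lrot47 (Lpr_gt (f57675 IH) (Lpe (K6.f146079 IH) (Lpr_ff (K6.f146077 IH) (Lpn (LP (LK LD1_c4 LD2_c48 LD3_c41))))))
theorem f23262 : Led Lsl_gt (LP (LK LD1_c1 LD2_c8 LD3_c15)) = (LP (LK LD1_c2 LD2_c22 LD3_c11)) :=
  Lre_g IH (LK LD1_c1 LD2_c8 LD3_c15) (LK LD1_c2 LD2_c22 LD3_c11) Lrfl Lrfl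
theorem f84626 : Led Lsl_et (LP (LK LD1_c4 LD2_c48 LD3_c35)) = (LP (LK LD1_c2 LD2_c22 LD3_c11)) :=
  Lre_e IH (LK LD1_c4 LD2_c48 LD3_c35) (LK LD1_c2 LD2_c22 LD3_c11) Lrfl Lrfl
theorem f146137 : Led Lsl_df (LP (LK LD1_c3 LD2_c22 LD3_c22)) = (LP (LK LD1_c4 LD2_c48 LD3_c35)) :=
  Lgr Lrot170 (Lpr_gt (f57675 IH) (Lpr_df (K6.f146116 IH) (Lpr_et (K6.f25648 IH) (Lpr_gt (K2.f7442 IH) (Lpr_dt (K0.f7432 IH) (Lpr_gt (K2.f10992 IH) (Lpe (K5.f84289 IH) (Lpr_et (K6.f84324 IH) (Lpr_gt (f23262 IH) (Lpe (f84626 IH) (Lpn (LP (LK LD1_c4 LD2_c48 LD3_c35)))))))))))))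
theorem f415367 : Led Lsl_gf (LP (LK LD1_c1 LD2_c36 LD3_c31)) = (LP (LK LD1_c2 LD2_c22 LD3_c11)) :=
  Lgr Lrot138 (Lpr_dt (K29.f57182 IH) (Lpr_gt (f415361 IH) (Lpe (K24.f84346 IH) (Lpe (K24.f135519 IH) (Lpe (K24.f146011 IH) (Lpe (K6.f24695 IH) (Lpr_dt (K6.f146074 IH) (Lpe (f146087 IH) (Lpr_df (f146137 IH) (Lpr_et (f84626 IH) (Lpn (LP (LK LD1_c2 LD2_c22 LD3_c11)))))))))))))
theorem f143891 : Led Lsl_df (LP (LK LD1_c3 LD2_c22 LD3_c29)) = (LP (LK LD1_c3 LD2_c20 LD3_c14)) :=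
  Lgr Lrot70 (Lpr_et (K6.f143884 IH) (Lpr_dt (K6.f92120 IH) (Lpr_et (K24.f143086 IH) (Lpr_dt (K6.f57177 IH) (Lpr_et (K6.f62597 IH) (Lpn (LP (LK LD1_c3 LD2_c20 LD3_c14))))))))
theorem f437561 : Led Lsl_gt (LP (LK LD1_c3 LD2_c22 LD3_c29)) = (LP (LK LD1_c4 LD2_c50 LD3_c26)) :=
  Lgr Lrot112 (Lpr_df (f143891 IH) (Lpr_et (K6.f135407 IH) (Lpr_gf (f415367 IH) (Lpe (f84626 IH) (Lpe (f146137 IH) (Lpr_gf (f146087 IH) (Lpe (K6.f146074 IH) (Lpr_gf (f437557 IH) (Lpe (f435210 IH) (Lpe (f435211 IH) (Lpn (LP (LK LD1_c4 LD2_c50 LD3_c26)))))))))))))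
theorem f143877 : Led Lsl_bt (LP (LK LD1_c3 LD2_c22 LD3_c29)) = (LP (LK LD1_c6 LD2_c48 LD3_c34)) :=
  Lre_b IH (LK LD1_c3 LD2_c22 LD3_c29) (LK LD1_c6 LD2_c48 LD3_c34) Lrfl Lrfl
theorem f143878 : Led Lsl_bt (LP (LK LD1_c4 LD2_c48 LD3_c0)) = (LP (LK LD1_c2 LD2_c21 LD3_c61)) :=
  Lre_b IH (LK LD1_c4 LD2_c48 LD3_c0) (LK LD1_c2 LD2_c21 LD3_c61) Lrfl Lrfl
theorem f143879 : Led Lsl_ef (LP (LK LD1_c3 LD2_c22 LD3_c29)) = (LP (LK LD1_c2 LD2_c21 LD3_c61)) :=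
  Lgr Lrot29 (Lpr_bt (f143877 IH) (Lpr_et (K6.f143875 IH) (Lpr_bt (f143878 IH) (Lpn (LP (LK LD1_c2 LD2_c21 LD3_c61))))))
theorem f503287 : Led Lsl_et (LP (LK LD1_c4 LD2_c42 LD3_c33)) = (LP (LK LD1_c3 LD2_c19 LD3_c26)) :=
  Lgr Lrot121 (Lpe (f436120 IH) (Lpe (f436109 IH) (Lpe (f503281 IH) (Lpr_et (f503283 IH) (Lpe (f437561 IH) (Lpr_ef (f143879 IH) (Lpr_dt (K6.f92120 IH) (Lpe (f146019 IH) (Lpe (f24640 IH) (Lpe (f24633 IH) (Lpn (LP (LK LD1_c3 LD2_c19 LD3_c26)))))))))))))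
theorem f503289 : Led Lsl_ef (LP (LK LD1_c4 LD2_c42 LD3_c33)) = (LP (LK LD1_c3 LD2_c19 LD3_c26)) :=
  Lgr Lrot88 (Lpr_et (f503287 IH) (Lpn (LP (LK LD1_c3 LD2_c19 LD3_c26))))
theorem f503394 : Led Lsl_ft (LP (LK LD1_c4 LD2_c41 LD3_c16)) = (LP (LK LD1_c3 LD2_c19 LD3_c26)) :=
  Lgr Lrot86 (Lpr_ef (K24.f20131 IH) (Lpr_ff (f503388 IH) (Lpe (f416571 IH) (Lpr_ff (f503249 IH) (Lpr_ef (f503289 IH) (Lpn (LP (LK LD1_c3 LD2_c19 LD3_c26))))))))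
theorem f503533 : Led Lsl_af (LP (LK LD1_c4 LD2_c48 LD3_c3)) = (LP (LK LD1_c3 LD2_c19 LD3_c26)) :=
  Lgr Lrot45 (Lpr_ft (f503531 IH) (Lpe (f503479 IH) (Lpr_ft (f503394 IH) (Lpn (LP (LK LD1_c3 LD2_c19 LD3_c26))))))
theorem f453014 : Led Lsl_ft (LP (LK LD1_c3 LD2_c3 LD3_c4)) = (LP (LK LD1_c1 LD2_c27 LD3_c26)) :=
  Lre_f IH (LK LD1_c3 LD2_c3 LD3_c4) (LK LD1_c1 LD2_c27 LD3_c26) Lrfl Lrfl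
theorem f503545 : Led Lsl_dt (LP (LK LD1_c4 LD2_c48 LD3_c3)) = (LP (LK LD1_c3 LD2_c3 LD3_c4)) :=
  Lgr Lrot60 (Lpr_ff (f503541 IH) (Lpe (K9.f24624 IH) (Lpe (f453014 IH) (Lpn (LP (LK LD1_c3 LD2_c3 LD3_c4))))))
theorem f503557 : Led Lsl_af (LP (LK LD1_c4 LD2_c41 LD3_c17)) = (LP (LK LD1_c3 LD2_c3 LD3_c4)) :=
  Lgr Lrot117 (Lpr_dt (f503555 IH) (Lpe (f503533 IH) (Lpr_dt (f503545 IH) (Lpn (LP (LK LD1_c3 LD2_c3 LD3_c4))))))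
theorem f503664 : Led Lsl_et (LP (LK LD1_c4 LD2_c41 LD3_c17)) = (LP (LK LD1_c3 LD2_c2 LD3_c55)) :=
  Lgr Lrot123 (Lpr_af (f503557 IH) (Lpe (f503645 IH) (Lpr_af (f503655 IH) (Lpn (LP (LK LD1_c3 LD2_c2 LD3_c55))))))
theorem f503669 : Led Lsl_ef (LP (LK LD1_c4 LD2_c41 LD3_c17)) = (LP (LK LD1_c3 LD2_c2 LD3_c55)) :=
  Lgr Lrot88 (Lpr_et (f503664 IH) (Lpn (LP (LK LD1_c3 LD2_c2 LD3_c55))))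
theorem f503667 : Led Lsl_df (LP (LK LD1_c1 LD2_c37 LD3_c20)) = (LP (LK LD1_c3 LD2_c2 LD3_c55)) :=
  Lgr Lrot70 (Lpr_et (f436114 IH) (Lpr_dt (f436107 IH) (Lpr_et (f503287 IH) (Lpe (f503559 IH) (Lpr_et (f503664 IH) (Lpn (LP (LK LD1_c3 LD2_c2 LD3_c55))))))))
theorem f20123 : Led Lsl_dt (LP (LK LD1_c0 LD2_c31 LD3_c13)) = (LP (LK LD1_c1 LD2_c8 LD3_c8)) :=
  Lre_d IH (LK LD1_c0 LD2_c31 LD3_c13) (LK LD1_c1 LD2_c8 LD3_c8) Lrfl Lrfl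
theorem f68457 : Led Lsl_gt (LP (LK LD1_c2 LD2_c21 LD3_c59)) = (LP (LK LD1_c1 LD2_c8 LD3_c8)) :=
  Lre_g IH (LK LD1_c2 LD2_c21 LD3_c59) (LK LD1_c1 LD2_c8 LD3_c8) Lrfl Lrfl
theorem f504206 : Led Lsl_gt (LP (LK LD1_c4 LD2_c41 LD3_c17)) = (LP (LK LD1_c2 LD2_c20 LD3_c14)) :=
  Lgr Lrot137 (Lpr_ef (f503669 IH) (Lpe (f503667 IH) (Lpe (f140866 IH) (Lpe (K0.f23257 IH) (Lpr_et (K0.f23258 IH) (Lpe (K1.f11009 IH) (Lpe (K6.f92139 IH) (Lpr_dt (f20123 IH) (Lpe (f68457 IH) (Lpe (f92141 IH) (Lpn (LP (LK LD1_c2 LD2_c20 LD3_c14)))))))))))))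
theorem f24634 : Led Lsl_ct (LP (LK LD1_c1 LD2_c36 LD3_c7)) = (LP (LK LD1_c3 LD2_c19 LD3_c27)) :=
  Lre_c IH (LK LD1_c1 LD2_c36 LD3_c7) (LK LD1_c3 LD2_c19 LD3_c27) Lrfl Lrfl
theorem f504516 : Led Lsl_gf (LP (LK LD1_c6 LD2_c21 LD3_c42)) = (LP (LK LD1_c3 LD2_c19 LD3_c27)) :=
  Lgr Lrot172 (Lpr_ct (f444114 IH) (Lpr_dt (f504515 IH) (Lpe (f504514 IH) (Lpe (f444277 IH) (Lpe (f435424 IH) (Lpe (f504206 IH) (Lpr_dt (f503555 IH) (Lpr_gt (f24633 IH) (Lpr_ct (f24634 IH) (Lpn (LP (LK LD1_c3 LD2_c19 LD3_c27))))))))))))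
theorem f504517 : Led Lsl_gt (LP (LK LD1_c3 LD2_c19 LD3_c27)) = (LP (LK LD1_c6 LD2_c21 LD3_c42)) :=
  Leop (Lpr_gf (f504516 IH) (Lpn (LP (LK LD1_c3 LD2_c19 LD3_c27))))
theorem seed_131 : LEOK LG_g (LK LD1_c3 LD2_c19 LD3_c27) :=
  Leoe_g (LK LD1_c3 LD2_c19 LD3_c27) (f504517 IH)
def v1878 : LQ := Led Lsl_gt (LP (LK LD1_c1 LD2_c30 LD3_c28))
theorem f504698 : Led Lsl_gt (LP (LK LD1_c1 LD2_c30 LD3_c28)) = v1878 :=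
  Lrfl
def v1880 : LQ := Led Lsl_ft (LP (LK LD1_c1 LD2_c30 LD3_c28))
theorem f504707 : Led Lsl_ft (LP (LK LD1_c1 LD2_c30 LD3_c28)) = v1880 :=
  Lrfl
def v1879 : LQ := Led Lsl_at (LP (LK LD1_c1 LD2_c30 LD3_c28))
theorem f504699 : Led Lsl_at (LP (LK LD1_c1 LD2_c30 LD3_c28)) = v1879 :=
  Lrfl
theorem f504700 : Led Lsl_af (LP (LK LD1_c1 LD2_c30 LD3_c28)) = v1879 :=
  Lgr Lrot0 (Lpr_at (f504699 IH) (Lpn v1879))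
theorem f82589 : Led Lsl_df (LP (LK LD1_c1 LD2_c30 LD3_c28)) = (LP (LK LD1_c1 LD2_c7 LD3_c1)) :=
  Lgr Lrot38 (Lpr_dt (K24.f82574 IH) (Lpn (LP (LK LD1_c1 LD2_c7 LD3_c1))))
def v1321 : LQ := Led Lsl_ft (LP (LK LD1_c1 LD2_c7 LD3_c0))
theorem f494826 : Led Lsl_ft (LP (LK LD1_c1 LD2_c7 LD3_c0)) = v1321 :=
  Lrfl
def v1320 : LQ := Led Lsl_at (LP (LK LD1_c1 LD2_c7 LD3_c0))
theorem f494822 : Led Lsl_at (LP (LK LD1_c1 LD2_c7 LD3_c0)) = v1320 :=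
  Lrfl
theorem f494823 : Led Lsl_af (LP (LK LD1_c1 LD2_c7 LD3_c0)) = v1320 :=
  Lgr Lrot0 (Lpr_at (f494822 IH) (Lpn v1320))
theorem f494824 : Led Lsl_ft (LP (LK LD1_c1 LD2_c7 LD3_c1)) = v1320 :=
  Lgr Lrot2 (Lpr_gt (K24.f26065 IH) (Lpr_gt (K24.f26270 IH) (Lpr_af (f494823 IH) (Lpn v1320))))
theorem f494827 : Led Lsl_af (LP (LK LD1_c1 LD2_c7 LD3_c1)) = v1321 :=
  Lgr Lrot45 (Lpr_ft (f494824 IH) (Lpe (f494823 IH) (Lpr_ft (f494826 IH) (Lpn v1321))))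
theorem f504701 : Led Lsl_df v1321 = v1879 :=
  Lgr Lrot18 (Lpe (f494827 IH) (Lpe (f82589 IH) (Lpr_at (f504699 IH) (Lpn v1879))))
theorem f494828 : Led Lsl_ff (LP (LK LD1_c1 LD2_c7 LD3_c0)) = v1321 :=
  Lgr Lrot3 (Lpr_ft (f494826 IH) (Lpn v1321))
theorem f504705 : Led Lsl_ft (LP (LK LD1_c2 LD2_c19 LD3_c42)) = v1879 :=
  Lgr Lrot54 (Lpe (K24.f26290 IH) (Lpr_ff (f494828 IH) (Lpr_df (f504701 IH) (Lpn v1879))))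
theorem f504708 : Led Lsl_af (LP (LK LD1_c2 LD2_c19 LD3_c42)) = v1880 :=
  Lgr Lrot45 (Lpr_ft (f504705 IH) (Lpe (f504700 IH) (Lpr_ft (f504707 IH) (Lpn v1880))))
theorem f504711 : v1878 = (LP (LK LD1_c1 LD2_c38 LD3_c27)) :=
  (Llr Lrot5 (Lpe (f504698 IH) (Lpr_ft (f504707 IH) (Lpe (f504708 IH) (Lpr_gf (K24.f442819 IH) (Lpn (LP (LK LD1_c1 LD2_c38 LD3_c27)))))))).symm
theorem f504712 : Led Lsl_gt (LP (LK LD1_c1 LD2_c30 LD3_c28)) = (LP (LK LD1_c1 LD2_c38 LD3_c27)) :=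
  Leop (Lpq (f504711 IH) (Lpe (f504698 IH) (Lpn (LP (LK LD1_c1 LD2_c30 LD3_c28)))))
theorem seed_132 : LEOK LG_g (LK LD1_c1 LD2_c30 LD3_c28) :=
  Leoe_g (LK LD1_c1 LD2_c30 LD3_c28) (f504712 IH)
def v1883 : LQ := Led Lsl_gt (LP (LK LD1_c1 LD2_c30 LD3_c32))
theorem f504792 : Led Lsl_gt (LP (LK LD1_c1 LD2_c30 LD3_c32)) = v1883 :=
  Lrfl
theorem f444046 : Led Lsl_et (LP (LK LD1_c0 LD2_c41 LD3_c47)) = (LP (LK LD1_c1 LD2_c30 LD3_c32)) :=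
  Lre_e IH (LK LD1_c0 LD2_c41 LD3_c47) (LK LD1_c1 LD2_c30 LD3_c32) Lrfl Lrfl
theorem f146039 : Led Lsl_dt (LP (LK LD1_c0 LD2_c41 LD3_c47)) = (LP (LK LD1_c1 LD2_c30 LD3_c31)) :=
  Lre_d IH (LK LD1_c0 LD2_c41 LD3_c47) (LK LD1_c1 LD2_c30 LD3_c31) Lrfl Lrfl
theorem f67107 : Led Lsl_dt (LP (LK LD1_c1 LD2_c30 LD3_c31)) = (LP (LK LD1_c0 LD2_c41 LD3_c47)) :=
  Lre_d IH (LK LD1_c1 LD2_c30 LD3_c31) (LK LD1_c0 LD2_c41 LD3_c47) Lrfl Lrfl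
theorem f444111 : Led Lsl_gf (LP (LK LD1_c1 LD2_c30 LD3_c31)) = (LP (LK LD1_c3 LD2_c8 LD3_c32)) :=
  Lgr Lrot144 (Lpr_dt (f67107 IH) (Lpr_gt (K9.f67106 IH) (Lpr_dt (K9.f61836 IH) (Lpe (K11.f153545 IH) (Lpe (K11.f153499 IH) (Lpe (f84031 IH) (Lpr_df (f435642 IH) (Lpr_gf (f444109 IH) (Lpe (f435556 IH) (Lpn (LP (LK LD1_c3 LD2_c8 LD3_c32))))))))))))
theorem f67110 : Led Lsl_dt (LP (LK LD1_c3 LD2_c6 LD3_c40)) = (LP (LK LD1_c1 LD2_c29 LD3_c26)) :=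
  Lre_d IH (LK LD1_c3 LD2_c6 LD3_c40) (LK LD1_c1 LD2_c29 LD3_c26) Lrfl Lrfl
theorem f140969 : Led Lsl_ct (LP (LK LD1_c3 LD2_c6 LD3_c40)) = (LP (LK LD1_c6 LD2_c18 LD3_c49)) :=
  Lre_c IH (LK LD1_c3 LD2_c6 LD3_c40) (LK LD1_c6 LD2_c18 LD3_c49) Lrfl Lrfl
theorem f444125 : Led Lsl_ef (LP (LK LD1_c3 LD2_c6 LD3_c40)) = (LP (LK LD1_c3 LD2_c8 LD3_c32)) :=
  Lgr Lrot28 (Lpr_ct (f140969 IH) (Lpr_et (f444120 IH) (Lpr_ct (f444114 IH) (Lpn (LP (LK LD1_c3 LD2_c8 LD3_c32))))))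
theorem f504512 : Led Lsl_df (LP (LK LD1_c3 LD2_c8 LD3_c32)) = v1842 :=
  Lgr Lrot70 (Lpe (f444125 IH) (Lpr_dt (f67110 IH) (Lpr_et (K9.f67310 IH) (Lpe (K9.f79730 IH) (Lpr_et (f504510 IH) (Lpn v1842))))))
theorem f67456 : Led Lsl_af (LP (LK LD1_c3 LD2_c6 LD3_c47)) = (LP (LK LD1_c3 LD2_c11 LD3_c48)) :=
  Lgr Lrot0 (Lpr_at (K2.f67444 IH) (Lpn (LP (LK LD1_c3 LD2_c11 LD3_c48))))
theorem f25844 : Led Lsl_gt (LP (LK LD1_c1 LD2_c32 LD3_c14)) = (LP (LK LD1_c3 LD2_c11 LD3_c46)) :=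
  Lre_g IH (LK LD1_c1 LD2_c32 LD3_c14) (LK LD1_c3 LD2_c11 LD3_c46) Lrfl Lrfl
theorem f68057 : Led Lsl_gf (LP (LK LD1_c3 LD2_c6 LD3_c47)) = (LP (LK LD1_c3 LD2_c11 LD3_c46)) :=
  Lgr Lrot76 (Lpr_af (f67456 IH) (Lpe (K2.f68056 IH) (Lpr_gt (f25844 IH) (Lpn (LP (LK LD1_c3 LD2_c11 LD3_c46))))))
theorem f504797 : Led Lsl_df (LP (LK LD1_c3 LD2_c11 LD3_c46)) = v1883 :=
  Lgr Lrot135 (Lpe (f68057 IH) (Lpe (K2.f67464 IH) (Lpe (K2.f68284 IH) (Lpe (K9.f66969 IH) (Lpr_ef (f504513 IH) (Lpe (f504512 IH) (Lpe (f444111 IH) (Lpe (f146039 IH) (Lpr_et (f444046 IH) (Lpr_gt (f504792 IH) (Lpn v1883)))))))))))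
theorem f67501 : Led Lsl_dt (LP (LK LD1_c3 LD2_c6 LD3_c47)) = (LP (LK LD1_c1 LD2_c29 LD3_c29)) :=
  Lre_d IH (LK LD1_c3 LD2_c6 LD3_c47) (LK LD1_c1 LD2_c29 LD3_c29) Lrfl Lrfl
theorem f73601 : Led Lsl_cf (LP (LK LD1_c2 LD2_c52 LD3_c4)) = (LP (LK LD1_c1 LD2_c29 LD3_c29)) :=
  Lgr Lrot1 (Lpr_at (K2.f73596 IH) (Lpe (K2.f73510 IH) (Lpr_at (K2.f68276 IH) (Lpn (LP (LK LD1_c1 LD2_c29 LD3_c29))))))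
theorem f73603 : Led Lsl_df (LP (LK LD1_c2 LD2_c52 LD3_c4)) = (LP (LK LD1_c4 LD2_c7 LD3_c27)) :=
  Lgr Lrot18 (Lpr_at (K2.f73596 IH) (Lpe (K2.f73226 IH) (Lpr_at (K9.f55701 IH) (Lpn (LP (LK LD1_c4 LD2_c7 LD3_c27))))))
theorem f55714 : Led Lsl_gt (LP (LK LD1_c2 LD2_c0 LD3_c19)) = (LP (LK LD1_c4 LD2_c6 LD3_c4)) :=
  Lre_g IH (LK LD1_c2 LD2_c0 LD3_c19) (LK LD1_c4 LD2_c6 LD3_c4) Lrfl Lrfl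
theorem f55715 : Led Lsl_gt (LP (LK LD1_c4 LD2_c6 LD3_c4)) = (LP (LK LD1_c4 LD2_c7 LD3_c27)) :=
  Lgr Lrot46 (Lpe (f55714 IH) (Lpr_ft (K2.f55699 IH) (Lpr_at (K9.f55701 IH) (Lpn (LP (LK LD1_c4 LD2_c7 LD3_c27))))))
theorem f79844 : Led Lsl_ct (LP (LK LD1_c3 LD2_c8 LD3_c44)) = (LP (LK LD1_c1 LD2_c30 LD3_c32)) :=
  Lre_c IH (LK LD1_c3 LD2_c8 LD3_c44) (LK LD1_c1 LD2_c30 LD3_c32) Lrfl Lrfl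
theorem f79843 : Led Lsl_gt (LP (LK LD1_c3 LD2_c8 LD3_c44)) = (LP (LK LD1_c6 LD2_c22 LD3_c5)) :=
  Lre_g IH (LK LD1_c3 LD2_c8 LD3_c44) (LK LD1_c6 LD2_c22 LD3_c5) Lrfl Lrfl
theorem f504799 : Led Lsl_df (LP (LK LD1_c4 LD2_c6 LD3_c4)) = (LP (LK LD1_c6 LD2_c22 LD3_c5)) :=
  Lgr Lrot153 (Lpr_gt (f55715 IH) (Lpe (f73603 IH) (Lpr_cf (f73601 IH) (Lpe (f67501 IH) (Lpr_gf (f68057 IH) (Lpr_df (f504797 IH) (Lpe (f504792 IH) (Lpe (f79844 IH) (Lpr_gt (f79843 IH) (Lpn (LP (LK LD1_c6 LD2_c22 LD3_c5))))))))))))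
theorem f504800 : Led Lsl_dt (LP (LK LD1_c6 LD2_c22 LD3_c5)) = (LP (LK LD1_c4 LD2_c6 LD3_c4)) :=
  Leop (Lpr_df (f504799 IH) (Lpn (LP (LK LD1_c6 LD2_c22 LD3_c5))))
theorem seed_133 : LEOK LG_d (LK LD1_c6 LD2_c22 LD3_c5) :=
  Leoe_d (LK LD1_c6 LD2_c22 LD3_c5) (f504800 IH)
def v1886 : LQ := Led Lsl_ft (LP (LK LD1_c1 LD2_c30 LD3_c32))
theorem f504820 : Led Lsl_ft (LP (LK LD1_c1 LD2_c30 LD3_c32)) = v1886 :=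
  Lrfl
theorem f67479 : Led Lsl_ct (LP (LK LD1_c3 LD2_c6 LD3_c47)) = (LP (LK LD1_c6 LD2_c18 LD3_c55)) :=
  Lre_c IH (LK LD1_c3 LD2_c6 LD3_c47) (LK LD1_c6 LD2_c18 LD3_c55) Lrfl Lrfl
theorem f57643 : Led Lsl_gt (LP (LK LD1_c2 LD2_c49 LD3_c47)) = (LP (LK LD1_c1 LD2_c20 LD3_c60)) :=
  Lre_g IH (LK LD1_c2 LD2_c49 LD3_c47) (LK LD1_c1 LD2_c20 LD3_c60) Lrfl Lrfl
theorem f57132 : Led Lsl_dt (LP (LK LD1_c1 LD2_c21 LD3_c14)) = (LP (LK LD1_c2 LD2_c50 LD3_c28)) :=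
  Lre_d IH (LK LD1_c1 LD2_c21 LD3_c14) (LK LD1_c2 LD2_c50 LD3_c28) Lrfl Lrfl
theorem f57133 : Led Lsl_gt (LP (LK LD1_c2 LD2_c50 LD3_c28)) = (LP (LK LD1_c5 LD2_c48 LD3_c51)) :=
  Lre_g IH (LK LD1_c2 LD2_c50 LD3_c28) (LK LD1_c5 LD2_c48 LD3_c51) Lrfl Lrfl
theorem f57134 : Led Lsl_dt (LP (LK LD1_c5 LD2_c48 LD3_c51)) = (LP (LK LD1_c5 LD2_c47 LD3_c41)) :=
  Lre_d IH (LK LD1_c5 LD2_c48 LD3_c51) (LK LD1_c5 LD2_c47 LD3_c41) Lrfl Lrfl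
theorem f57624 : Led Lsl_cf (LP (LK LD1_c3 LD2_c6 LD3_c8)) = (LP (LK LD1_c5 LD2_c47 LD3_c41)) :=
  Lgr Lrot14 (Lpr_df (f57611 IH) (Lpe (K24.f57131 IH) (Lpe (K24.f57130 IH) (Lpe (K24.f57129 IH) (Lpr_ct (K1.f56744 IH) (Lpr_gt (K24.f56661 IH) (Lpr_dt (f57132 IH) (Lpr_gt (f57133 IH) (Lpr_dt (f57134 IH) (Lpn (LP (LK LD1_c5 LD2_c47 LD3_c41))))))))))))
theorem f57629 : Led Lsl_et (LP (LK LD1_c2 LD2_c49 LD3_c47)) = (LP (LK LD1_c5 LD2_c47 LD3_c41)) :=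
  Lre_e IH (LK LD1_c2 LD2_c49 LD3_c47) (LK LD1_c5 LD2_c47 LD3_c41) Lrfl Lrfl
theorem f57630 : Led Lsl_ct (LP (LK LD1_c1 LD2_c29 LD3_c8)) = (LP (LK LD1_c2 LD2_c49 LD3_c47)) :=
  Lgr Lrot15 (Lpe (K24.f57603 IH) (Lpr_cf (f57624 IH) (Lpe (f57629 IH) (Lpn (LP (LK LD1_c2 LD2_c49 LD3_c47))))))
theorem f25512 : Led Lsl_ct (LP (LK LD1_c3 LD2_c6 LD3_c10)) = (LP (LK LD1_c6 LD2_c17 LD3_c55)) :=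
  Lre_c IH (LK LD1_c3 LD2_c6 LD3_c10) (LK LD1_c6 LD2_c17 LD3_c55) Lrfl Lrfl
theorem f68252 : Led Lsl_gt (LP (LK LD1_c6 LD2_c17 LD3_c55)) = (LP (LK LD1_c3 LD2_c11 LD3_c45)) :=
  Lgr Lrot150 (Lpe (f25512 IH) (Lpr_gf (K0.f25526 IH) (Lpe (K0.f23254 IH) (Lpr_gt (K24.f58470 IH) (Lpr_ct (f57630 IH) (Lpr_gt (f57643 IH) (Lpr_ct (K2.f59449 IH) (Lpr_df (K2.f68231 IH) (Lpe (K2.f67439 IH) (Lpn (LP (LK LD1_c3 LD2_c11 LD3_c45))))))))))))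
theorem f68255 : Led Lsl_gf (LP (LK LD1_c6 LD2_c17 LD3_c55)) = (LP (LK LD1_c6 LD2_c18 LD3_c55)) :=
  Lgr Lrot47 (Lpr_gt (f68252 IH) (Lpe (K2.f67440 IH) (Lpe (K2.f67477 IH) (Lpn (LP (LK LD1_c6 LD2_c18 LD3_c55))))))
theorem f25522 : Led Lsl_ct (LP (LK LD1_c6 LD2_c17 LD3_c55)) = (LP (LK LD1_c3 LD2_c6 LD3_c10)) :=
  Lre_c IH (LK LD1_c6 LD2_c17 LD3_c55) (LK LD1_c3 LD2_c6 LD3_c10) Lrfl Lrfl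
theorem f383995 : Led Lsl_gt (LP (LK LD1_c2 LD2_c56 LD3_c6)) = (LP (LK LD1_c1 LD2_c23 LD3_c60)) :=
  Lre_g IH (LK LD1_c2 LD2_c56 LD3_c6) (LK LD1_c1 LD2_c23 LD3_c60) Lrfl Lrfl
theorem f415624 : Led Lsl_bt (LP (LK LD1_c5 LD2_c59 LD3_c31)) = (LP (LK LD1_c2 LD2_c56 LD3_c6)) :=
  Lre_b IH (LK LD1_c5 LD2_c59 LD3_c31) (LK LD1_c2 LD2_c56 LD3_c6) Lrfl Lrfl
theorem f40246 : Led Lsl_dt (LP (LK LD1_c8 LD2_c0 LD3_c24)) = (LP (LK LD1_c15 LD2_c4 LD3_c12)) :=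
  Lre_d IH (LK LD1_c8 LD2_c0 LD3_c24) (LK LD1_c15 LD2_c4 LD3_c12) Lrfl Lrfl
theorem f40247 : Led Lsl_dt (LP (LK LD1_c9 LD2_c45 LD3_c51)) = (LP (LK LD1_c4 LD2_c59 LD3_c20)) :=
  Lre_d IH (LK LD1_c9 LD2_c45 LD3_c51) (LK LD1_c4 LD2_c59 LD3_c20) Lrfl Lrfl
theorem f40248 : Led Lsl_bf (LP (LK LD1_c8 LD2_c0 LD3_c24)) = (LP (LK LD1_c4 LD2_c59 LD3_c20)) :=
  Lgr Lrot93 (Lpr_dt (f40246 IH) (Lpr_bt (K1.f40233 IH) (Lpr_dt (f40247 IH) (Lpn (LP (LK LD1_c4 LD2_c59 LD3_c20))))))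
theorem f415083 : Led Lsl_ct (LP (LK LD1_c4 LD2_c59 LD3_c20)) = (LP (LK LD1_c9 LD2_c48 LD3_c60)) :=
  Lre_c IH (LK LD1_c4 LD2_c59 LD3_c20) (LK LD1_c9 LD2_c48 LD3_c60) Lrfl Lrfl
theorem f415096 : Led Lsl_gt (LP (LK LD1_c9 LD2_c48 LD3_c60)) = (LP (LK LD1_c4 LD2_c59 LD3_c50)) :=
  Lre_g IH (LK LD1_c9 LD2_c48 LD3_c60) (LK LD1_c4 LD2_c59 LD3_c50) Lrfl Lrfl
theorem f415625 : Led Lsl_ct (LP (LK LD1_c5 LD2_c59 LD3_c31)) = (LP (LK LD1_c4 LD2_c59 LD3_c50)) :=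
  Lgr Lrot10 (Lpr_bt (f415624 IH) (Lpr_gt (f383995 IH) (Lpr_ct (K24.f74627 IH) (Lpr_gt (K24.f139233 IH) (Lpr_cf (K24.f415604 IH) (Lpr_bt (K24.f40482 IH) (Lpr_gt (K24.f414039 IH) (Lpr_bf (f40248 IH) (Lpr_ct (f415083 IH) (Lpr_gt (f415096 IH) (Lpn (LP (LK LD1_c4 LD2_c59 LD3_c50)))))))))))))
theorem f384008 : Led Lsl_gt (LP (LK LD1_c1 LD2_c24 LD3_c11)) = (LP (LK LD1_c2 LD2_c56 LD3_c6)) :=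
  Lre_g IH (LK LD1_c1 LD2_c24 LD3_c11) (LK LD1_c2 LD2_c56 LD3_c6) Lrfl Lrfl
theorem f140875 : Led Lsl_bt (LP (LK LD1_c0 LD2_c38 LD3_c59)) = (LP (LK LD1_c1 LD2_c24 LD3_c11)) :=
  Lre_b IH (LK LD1_c0 LD2_c38 LD3_c59) (LK LD1_c1 LD2_c24 LD3_c11) Lrfl Lrfl
theorem f140109 : Led Lsl_ct (LP (LK LD1_c0 LD2_c38 LD3_c59)) = (LP (LK LD1_c1 LD2_c8 LD3_c31)) :=
  Lre_c IH (LK LD1_c0 LD2_c38 LD3_c59) (LK LD1_c1 LD2_c8 LD3_c31) Lrfl Lrfl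
theorem f72560 : Led Lsl_gt (LP (LK LD1_c4 LD2_c59 LD3_c50)) = (LP (LK LD1_c2 LD2_c27 LD3_c42)) :=
  Lre_g IH (LK LD1_c4 LD2_c59 LD3_c50) (LK LD1_c2 LD2_c27 LD3_c42) Lrfl Lrfl
theorem f77400 : Led Lsl_ct (LP (LK LD1_c1 LD2_c10 LD3_c61)) = (LP (LK LD1_c2 LD2_c27 LD3_c42)) :=
  Lre_c IH (LK LD1_c1 LD2_c10 LD3_c61) (LK LD1_c2 LD2_c27 LD3_c42) Lrfl Lrfl
theorem f415642 : Led Lsl_cf (LP (LK LD1_c0 LD2_c44 LD3_c61)) = (LP (LK LD1_c1 LD2_c11 LD3_c2)) :=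
  Lgr Lrot125 (Lpr_gt (K0.f23255 IH) (Lpe (f140109 IH) (Lpr_bt (f140875 IH) (Lpr_gt (f384008 IH) (Lpe (f415624 IH) (Lpr_ct (f415625 IH) (Lpr_gt (f72560 IH) (Lpe (f77400 IH) (Lpr_bt (K24.f40286 IH) (Lpr_gt (K24.f73209 IH) (Lpn (LP (LK LD1_c1 LD2_c11 LD3_c2)))))))))))))
theorem f73210 : Led Lsl_et (LP (LK LD1_c2 LD2_c27 LD3_c52)) = (LP (LK LD1_c1 LD2_c11 LD3_c2)) :=
  Lre_e IH (LK LD1_c2 LD2_c27 LD3_c52) (LK LD1_c1 LD2_c11 LD3_c2) Lrfl Lrfl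
theorem f415650 : Led Lsl_ct (LP (LK LD1_c1 LD2_c37 LD3_c18)) = (LP (LK LD1_c2 LD2_c27 LD3_c52)) :=
  Lgr Lrot15 (Lpe (f25516 IH) (Lpr_cf (f415642 IH) (Lpe (f73210 IH) (Lpn (LP (LK LD1_c2 LD2_c27 LD3_c52))))))
theorem f415732 : Led Lsl_cf (LP (LK LD1_c1 LD2_c37 LD3_c18)) = (LP (LK LD1_c2 LD2_c27 LD3_c52)) :=
  Lgr Lrot11 (Lpr_ct (f415650 IH) (Lpn (LP (LK LD1_c2 LD2_c27 LD3_c52))))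
theorem f73220 : Led Lsl_gt (LP (LK LD1_c5 LD2_c0 LD3_c15)) = (LP (LK LD1_c2 LD2_c27 LD3_c52)) :=
  Lre_g IH (LK LD1_c5 LD2_c0 LD3_c15) (LK LD1_c2 LD2_c27 LD3_c52) Lrfl Lrfl
theorem f25254 : Led Lsl_dt (LP (LK LD1_c1 LD2_c4 LD3_c25)) = (LP (LK LD1_c2 LD2_c14 LD3_c37)) :=
  Lre_d IH (LK LD1_c1 LD2_c4 LD3_c25) (LK LD1_c2 LD2_c14 LD3_c37) Lrfl Lrfl
theorem f73208 : Led Lsl_gt (LP (LK LD1_c2 LD2_c14 LD3_c37)) = (LP (LK LD1_c4 LD2_c35 LD3_c2)) :=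
  Lre_g IH (LK LD1_c2 LD2_c14 LD3_c37) (LK LD1_c4 LD2_c35 LD3_c2) Lrfl Lrfl
theorem f82683 : Led Lsl_ct (LP (LK LD1_c0 LD2_c43 LD3_c1)) = (LP (LK LD1_c1 LD2_c33 LD3_c0)) :=
  Lre_c IH (LK LD1_c0 LD2_c43 LD3_c1) (LK LD1_c1 LD2_c33 LD3_c0) Lrfl Lrfl
theorem f13575 : Led Lsl_ct (LP (LK LD1_c3 LD2_c13 LD3_c3)) = (LP (LK LD1_c1 LD2_c32 LD3_c59)) :=
  Lre_c IH (LK LD1_c3 LD2_c13 LD3_c3) (LK LD1_c1 LD2_c32 LD3_c59) Lrfl Lrfl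
theorem f140745 : Led Lsl_dt (LP (LK LD1_c4 LD2_c35 LD3_c2)) = (LP (LK LD1_c3 LD2_c13 LD3_c3)) :=
  Lgr Lrot105 (Lpe (f73208 IH) (Lpe (f25254 IH) (Lpr_gf (K24.f140743 IH) (Lpe (f82683 IH) (Lpr_gt (K11.f82680 IH) (Lpe (K11.f82665 IH) (Lpr_gt (K11.f13558 IH) (Lpr_dt (K11.f13563 IH) (Lpe (f13575 IH) (Lpn (LP (LK LD1_c3 LD2_c13 LD3_c3))))))))))))
theorem f140756 : Led Lsl_df (LP (LK LD1_c4 LD2_c35 LD3_c2)) = (LP (LK LD1_c3 LD2_c13 LD3_c3)) :=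
  Lgr Lrot38 (Lpr_dt (f140745 IH) (Lpn (LP (LK LD1_c3 LD2_c13 LD3_c3))))
theorem f73216 : Led Lsl_et (LP (LK LD1_c1 LD2_c11 LD3_c2)) = (LP (LK LD1_c2 LD2_c27 LD3_c52)) :=
  Lre_e IH (LK LD1_c1 LD2_c11 LD3_c2) (LK LD1_c2 LD2_c27 LD3_c52) Lrfl Lrfl
theorem f140770 : Led Lsl_ef (LP (LK LD1_c5 LD2_c0 LD3_c15)) = (LP (LK LD1_c3 LD2_c13 LD3_c3)) :=
  Lgr Lrot114 (Lpr_gt (f73220 IH) (Lpe (f73216 IH) (Lpr_dt (K24.f73222 IH) (Lpr_gt (K24.f77407 IH) (Lpr_df (K24.f140728 IH) (Lpr_et (K24.f140730 IH) (Lpe (K24.f140743 IH) (Lpr_dt (f25254 IH) (Lpr_gt (f73208 IH) (Lpr_df (f140756 IH) (Lpn (LP (LK LD1_c3 LD2_c13 LD3_c3)))))))))))))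
theorem f140774 : Led Lsl_et (LP (LK LD1_c5 LD2_c0 LD3_c15)) = (LP (LK LD1_c3 LD2_c13 LD3_c3)) :=
  Lgr Lrot87 (Lpr_ef (f140770 IH) (Lpn (LP (LK LD1_c3 LD2_c13 LD3_c3))))
theorem f79772 : Led Lsl_et (LP (LK LD1_c1 LD2_c32 LD3_c59)) = (LP (LK LD1_c3 LD2_c13 LD3_c4)) :=
  Lre_e IH (LK LD1_c1 LD2_c32 LD3_c59) (LK LD1_c3 LD2_c13 LD3_c4) Lrfl Lrfl
theorem f140776 : Led Lsl_cf (LP (LK LD1_c5 LD2_c0 LD3_c15)) = (LP (LK LD1_c3 LD2_c13 LD3_c4)) :=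
  Lgr Lrot39 (Lpr_et (f140774 IH) (Lpr_ct (f13575 IH) (Lpr_et (f79772 IH) (Lpn (LP (LK LD1_c3 LD2_c13 LD3_c4))))))
theorem f504801 : Led Lsl_gf (LP (LK LD1_c3 LD2_c13 LD3_c4)) = v1883 :=
  Lgr Lrot147 (Lpe (f140776 IH) (Lpr_gt (f73220 IH) (Lpe (f415732 IH) (Lpe (f25513 IH) (Lpe (f25522 IH) (Lpr_gf (f68255 IH) (Lpe (f67479 IH) (Lpr_gf (f68057 IH) (Lpr_df (f504797 IH) (Lpn v1883))))))))))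
theorem f504823 : Led Lsl_af (LP (LK LD1_c3 LD2_c13 LD3_c4)) = v1886 :=
  Lgr Lrot31 (Lpr_gf (f504801 IH) (Lpe (f504792 IH) (Lpr_ft (f504820 IH) (Lpn v1886))))
def v1885 : LQ := Led Lsl_at (LP (LK LD1_c1 LD2_c30 LD3_c32))
theorem f504814 : Led Lsl_at (LP (LK LD1_c1 LD2_c30 LD3_c32)) = v1885 :=
  Lrfl
theorem f504815 : Led Lsl_af (LP (LK LD1_c1 LD2_c30 LD3_c32)) = v1885 :=
  Lgr Lrot0 (Lpr_at (f504814 IH) (Lpn v1885))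
theorem f504825 : Led Lsl_ft (LP (LK LD1_c3 LD2_c13 LD3_c4)) = v1885 :=
  Lgr Lrot101 (Lpr_af (f504823 IH) (Lpe (f504820 IH) (Lpr_af (f504815 IH) (Lpn v1885))))
def v471 : LQ := Led Lsl_ft (LP (LK LD1_c0 LD2_c41 LD3_c46))
theorem f453516 : Led Lsl_ft (LP (LK LD1_c0 LD2_c41 LD3_c46)) = v471 :=
  Lrfl
def v470 : LQ := Led Lsl_at (LP (LK LD1_c0 LD2_c41 LD3_c46))
theorem f453510 : Led Lsl_at (LP (LK LD1_c0 LD2_c41 LD3_c46)) = v470 :=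
  Lrfl
theorem f453511 : Led Lsl_af (LP (LK LD1_c0 LD2_c41 LD3_c46)) = v470 :=
  Lgr Lrot0 (Lpr_at (f453510 IH) (Lpn v470))
theorem f453514 : Led Lsl_ft (LP (LK LD1_c0 LD2_c41 LD3_c47)) = v470 :=
  Lgr Lrot2 (Lpr_gt (K9.f67106 IH) (Lpr_gt (K24.f82572 IH) (Lpr_af (f453511 IH) (Lpn v470))))
theorem f453517 : Led Lsl_af (LP (LK LD1_c0 LD2_c41 LD3_c47)) = v471 :=
  Lgr Lrot45 (Lpr_ft (f453514 IH) (Lpe (f453511 IH) (Lpr_ft (f453516 IH) (Lpn v471))))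
theorem f504817 : Led Lsl_ef v471 = v1885 :=
  Lgr Lrot20 (Lpe (f453517 IH) (Lpr_et (f444046 IH) (Lpr_at (f504814 IH) (Lpn v1885))))
theorem f453518 : Led Lsl_ff (LP (LK LD1_c0 LD2_c41 LD3_c46)) = v471 :=
  Lgr Lrot3 (Lpr_ft (f453516 IH) (Lpn v471))
theorem f504827 : (LP (LK LD1_c1 LD2_c32 LD3_c59)) = v1880 :=
  (Llr Lrot21 (Lpr_et (f79772 IH) (Lpr_ft (f504825 IH) (Lpe (f504817 IH) (Lpe (f453518 IH) (Lpr_et (K24.f82581 IH) (Lpr_ft (f504707 IH) (Lpn v1880)))))))).symm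
theorem f504828 : Led Lsl_at (LP (LK LD1_c1 LD2_c32 LD3_c59)) = (LP (LK LD1_c2 LD2_c19 LD3_c42)) :=
  Leop (Lpr_af (f504708 IH) (Lpq (f504827 IH) (Lpn (LP (LK LD1_c1 LD2_c32 LD3_c59)))))
theorem seed_134 : LEOK LG_a (LK LD1_c1 LD2_c32 LD3_c59) :=
  Leoe_a (LK LD1_c1 LD2_c32 LD3_c59) (f504828 IH)
def v1723 : LQ := Led Lsl_gt (LP (LK LD1_c1 LD2_c24 LD3_c32))
theorem f501141 : Led Lsl_gt (LP (LK LD1_c1 LD2_c24 LD3_c32)) = v1723 :=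
  Lrfl
def v1877 : LQ := Led Lsl_ft (LP (LK LD1_c1 LD2_c30 LD3_c27))
theorem f504690 : Led Lsl_ft (LP (LK LD1_c1 LD2_c30 LD3_c27)) = v1877 :=
  Lrfl
theorem f504693 : Led Lsl_ff (LP (LK LD1_c1 LD2_c30 LD3_c27)) = v1877 :=
  Lgr Lrot3 (Lpr_ft (f504690 IH) (Lpn v1877))
theorem f504695 : Led Lsl_dt v471 = v1877 :=
  Lgr Lrot60 (Lpe (f453516 IH) (Lpe (K24.f82591 IH) (Lpr_ff (f504693 IH) (Lpn v1877))))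
theorem f61086 : Led Lsl_dt (LP (LK LD1_c1 LD2_c6 LD3_c12)) = (LP (LK LD1_c2 LD2_c18 LD3_c23)) :=
  Lre_d IH (LK LD1_c1 LD2_c6 LD3_c12) (LK LD1_c2 LD2_c18 LD3_c23) Lrfl Lrfl
theorem f504702 : Led Lsl_ef v470 = v1879 :=
  Lgr Lrot20 (Lpe (f453511 IH) (Lpr_et (K24.f82581 IH) (Lpr_at (f504699 IH) (Lpn v1879))))
theorem f504704 : Led Lsl_dt v1321 = v1879 :=
  Lgr Lrot42 (Lpr_df (f504701 IH) (Lpn v1879))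
def v499 : LQ := Led Lsl_at (LP (LK LD1_c0 LD2_c43 LD3_c0))
theorem f453635 : Led Lsl_at (LP (LK LD1_c0 LD2_c43 LD3_c0)) = v499 :=
  Lrfl
theorem f453636 : Led Lsl_af (LP (LK LD1_c0 LD2_c43 LD3_c0)) = v499 :=
  Lgr Lrot0 (Lpr_at (f453635 IH) (Lpn v499))
theorem f453639 : Led Lsl_ft (LP (LK LD1_c0 LD2_c43 LD3_c1)) = v499 :=
  Lgr Lrot2 (Lpr_gt (K11.f82680 IH) (Lpr_gt (K11.f13558 IH) (Lpr_af (f453636 IH) (Lpn v499))))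
theorem f453641 : Led Lsl_ff (LP (LK LD1_c0 LD2_c43 LD3_c1)) = v499 :=
  Lgr Lrot3 (Lpr_ft (f453639 IH) (Lpn v499))
theorem f494825 : Led Lsl_ff (LP (LK LD1_c1 LD2_c7 LD3_c1)) = v1320 :=
  Lgr Lrot3 (Lpr_ft (f494824 IH) (Lpn v1320))
theorem f504709 : Led Lsl_df v1320 = v1880 :=
  Lgr Lrot78 (Lpe (f494825 IH) (Lpe (f82589 IH) (Lpr_ft (f504707 IH) (Lpn v1880))))
theorem f504833 : v1320 = (LP (LK LD1_c0 LD2_c43 LD3_c0)) :=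
  Lefun (Lecon (Lfl_df (f504709 IH)) (f504827 IH).symm) (K11.f79748 IH)
theorem f504834 : (LP (LK LD1_c1 LD2_c7 LD3_c0)) = v499 :=
  Lefun (Lecon (Lfl_af (f494823 IH)) (f504833 IH)) (f453635 IH)
theorem f504845 : (LP (LK LD1_c0 LD2_c43 LD3_c1)) = v1321 :=
  Lefun (Lecon (Lfl_ff (f453641 IH)) (f504834 IH).symm) (f494826 IH)
theorem f504855 : v1879 = (LP (LK LD1_c1 LD2_c33 LD3_c1)) :=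
  Lefun (Lecon (f504704 IH) (f504845 IH).symm) (K24.f82697 IH)
theorem f504860 : v470 = (LP (LK LD1_c1 LD2_c6 LD3_c11)) :=
  Lefun (Lecon (Lfl_ef (f504702 IH)) (f504855 IH)) (K11.f82691 IH)
theorem f504861 : (LP (LK LD1_c0 LD2_c41 LD3_c46)) = K31.v1298 :=
  Lefun (Lecon (Lfl_af (f453511 IH)) (f504860 IH)) (K31.f494694 IH)
theorem f504879 : (LP (LK LD1_c1 LD2_c6 LD3_c12)) = v471 :=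
  Lefun (Lecon (Lfl_ff (K31.f494697 IH)) (f504861 IH).symm) (f453516 IH)
theorem f504896 : v1877 = (LP (LK LD1_c2 LD2_c18 LD3_c23)) :=
  Lefun (Lecon (f504695 IH) (f504879 IH).symm) (f61086 IH)
theorem f435696 : Led Lsl_ct (LP (LK LD1_c3 LD2_c8 LD3_c34)) = (LP (LK LD1_c1 LD2_c30 LD3_c27)) :=
  Lre_c IH (LK LD1_c3 LD2_c8 LD3_c34) (LK LD1_c1 LD2_c30 LD3_c27) Lrfl Lrfl
theorem f82833 : Led Lsl_ct (LP (LK LD1_c2 LD2_c18 LD3_c23)) = (LP (LK LD1_c4 LD2_c42 LD3_c9)) :=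
  Lre_c IH (LK LD1_c2 LD2_c18 LD3_c23) (LK LD1_c4 LD2_c42 LD3_c9) Lrfl Lrfl
theorem f505071 : Led Lsl_ff (LP (LK LD1_c3 LD2_c8 LD3_c34)) = (LP (LK LD1_c4 LD2_c42 LD3_c9)) :=
  Lgr Lrot23 (Lpr_ct (f435696 IH) (Lpr_ft (f504690 IH) (Lpqs (f504896 IH) (Lpr_ct (f82833 IH) (Lpn (LP (LK LD1_c4 LD2_c42 LD3_c9)))))))
theorem f23185 : Led Lsl_gt (LP (LK LD1_c1 LD2_c37 LD3_c3)) = (LP (LK LD1_c0 LD2_c44 LD3_c55)) :=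
  Lre_g IH (LK LD1_c1 LD2_c37 LD3_c3) (LK LD1_c0 LD2_c44 LD3_c55) Lrfl Lrfl
theorem f24051 : Led Lsl_et (LP (LK LD1_c0 LD2_c8 LD3_c46)) = (LP (LK LD1_c0 LD2_c19 LD3_c30)) :=
  Lre_e IH (LK LD1_c0 LD2_c8 LD3_c46) (LK LD1_c0 LD2_c19 LD3_c30) Lrfl Lrfl
theorem f152085 : Led Lsl_af (LP (LK LD1_c0 LD2_c30 LD3_c55)) = (LP (LK LD1_c0 LD2_c19 LD3_c30)) :=
  Lgr Lrot50 (Lpr_et (K24.f57602 IH) (Lpr_at (K7.f152076 IH) (Lpr_et (f24051 IH) (Lpn (LP (LK LD1_c0 LD2_c19 LD3_c30))))))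
theorem f206523 : Led Lsl_gt (LP (LK LD1_c1 LD2_c7 LD3_c25)) = (LP (LK LD1_c0 LD2_c30 LD3_c55)) :=
  Lre_g IH (LK LD1_c1 LD2_c7 LD3_c25) (LK LD1_c0 LD2_c30 LD3_c55) Lrfl Lrfl
theorem f436221 : Led Lsl_gf (LP (LK LD1_c1 LD2_c7 LD3_c25)) = (LP (LK LD1_c0 LD2_c43 LD3_c43)) :=
  Lgr Lrot47 (Lpr_gt (f206523 IH) (Lpr_af (f152085 IH) (Lpe (f24050 IH) (Lpn (LP (LK LD1_c0 LD2_c43 LD3_c43))))))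
theorem f436223 : Led Lsl_et (LP (LK LD1_c2 LD2_c20 LD3_c16)) = (LP (LK LD1_c1 LD2_c7 LD3_c25)) :=
  Lre_e IH (LK LD1_c2 LD2_c20 LD3_c16) (LK LD1_c1 LD2_c7 LD3_c25) Lrfl Lrfl
theorem f446158 : Led Lsl_df (LP (LK LD1_c1 LD2_c37 LD3_c3)) = (LP (LK LD1_c2 LD2_c20 LD3_c16)) :=
  Lgr Lrot170 (Lpr_gt (f23185 IH) (Lpe (K16.f23200 IH) (Lpr_et (K24.f23202 IH) (Lpr_gt (K24.f446151 IH) (Lpr_dt (K0.f23797 IH) (Lpe (K24.f151942 IH) (Lpr_df (K24.f144060 IH) (Lpr_et (f152093 IH) (Lpe (f436221 IH) (Lpe (f436223 IH) (Lpn (LP (LK LD1_c2 LD2_c20 LD3_c16)))))))))))))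
theorem f152070 : Led Lsl_et (LP (LK LD1_c0 LD2_c13 LD3_c44)) = (LP (LK LD1_c0 LD2_c30 LD3_c55)) :=
  Lre_e IH (LK LD1_c0 LD2_c13 LD3_c44) (LK LD1_c0 LD2_c30 LD3_c55) Lrfl Lrfl
theorem f446231 : Led Lsl_gf (LP (LK LD1_c1 LD2_c37 LD3_c3)) = (LP (LK LD1_c1 LD2_c8 LD3_c27)) :=
  Lgr Lrot134 (Lpr_df (f446158 IH) (Lpr_et (f436223 IH) (Lpr_gt (f206523 IH) (Lpe (f152070 IH) (Lpr_dt (K5.f13593 IH) (Lpr_gt (K0.f13588 IH) (Lpe (K1.f13615 IH) (Lpr_et (K24.f414581 IH) (Lpr_gt (K16.f68366 IH) (Lpr_dt (K24.f76974 IH) (Lpn (LP (LK LD1_c1 LD2_c8 LD3_c27)))))))))))))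
theorem f446229 : Led Lsl_dt (LP (LK LD1_c1 LD2_c37 LD3_c3)) = (LP (LK LD1_c2 LD2_c20 LD3_c16)) :=
  Lgr Lrot42 (Lpr_df (f446158 IH) (Lpn (LP (LK LD1_c2 LD2_c20 LD3_c16))))
theorem f446160 : Led Lsl_gf (LP (LK LD1_c2 LD2_c20 LD3_c16)) = (LP (LK LD1_c1 LD2_c27 LD3_c25)) :=
  Lgr Lrot138 (Lpe (f446158 IH) (Lpr_gt (f23185 IH) (Lpe (K16.f23200 IH) (Lpr_et (K24.f23202 IH) (Lpr_gt (K24.f446151 IH) (Lpe (f23866 IH) (Lpr_dt (f23838 IH) (Lpr_gt (K29.f443962 IH) (Lpe (K29.f58489 IH) (Lpe (K29.f443975 IH) (Lpn (LP (LK LD1_c1 LD2_c27 LD3_c25)))))))))))))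
theorem f446180 : Led Lsl_ct (LP (LK LD1_c2 LD2_c20 LD3_c16)) = (LP (LK LD1_c4 LD2_c35 LD3_c43)) :=
  Lgr Lrot152 (Lpr_gf (f446160 IH) (Lpe (K16.f141012 IH) (Lpr_gt (K9.f22958 IH) (Lpr_ct (K16.f27135 IH) (Lpr_gt (K1.f59815 IH) (Lpr_ct (K17.f140030 IH) (Lpe (K11.f66979 IH) (Lpr_cf (K24.f414595 IH) (Lpr_gf (K24.f416520 IH) (Lpn (LP (LK LD1_c4 LD2_c35 LD3_c43))))))))))))
theorem f446193 : Led Lsl_gt (LP (LK LD1_c2 LD2_c20 LD3_c16)) = (LP (LK LD1_c1 LD2_c27 LD3_c21)) :=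
  Lgr Lrot180 (Lpr_ct (f446180 IH) (Lpe (K24.f416520 IH) (Lpr_dt (K17.f186134 IH) (Lpr_gt (K17.f98995 IH) (Lpr_dt (K24.f26992 IH) (Lpr_ct (K9.f98994 IH) (Lpe (K9.f25594 IH) (Lpe (K16.f413457 IH) (Lpe (K29.f413468 IH) (Lpn (LP (LK LD1_c1 LD2_c27 LD3_c21))))))))))))
theorem f446233 : Led Lsl_gt (LP (LK LD1_c1 LD2_c36 LD3_c8)) = (LP (LK LD1_c0 LD2_c44 LD3_c59)) :=
  Lgr Lrot112 (Lpr_df (f144065 IH) (Lpr_et (f144067 IH) (Lpr_gf (f438816 IH) (Lpe (K16.f415319 IH) (Lpr_dt (K16.f59834 IH) (Lpe (f446193 IH) (Lpe (f446229 IH) (Lpr_gf (f446231 IH) (Lpr_ef (K24.f416132 IH) (Lpr_dt (K24.f22523 IH) (Lpn (LP (LK LD1_c0 LD2_c44 LD3_c59)))))))))))))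
theorem f503561 : Led Lsl_gf (LP (LK LD1_c4 LD2_c41 LD3_c17)) = (LP (LK LD1_c3 LD2_c3 LD3_c2)) :=
  Lgr Lrot138 (Lpr_dt (f503555 IH) (Lpr_gt (f24633 IH) (Lpe (K9.f24621 IH) (Lpr_et (f24656 IH) (Lpr_gt (f446233 IH) (Lpe (K24.f414547 IH) (Lpr_dt (K16.f140981 IH) (Lpr_gt (K29.f416681 IH) (Lpe (K24.f416652 IH) (Lpr_et (K24.f416801 IH) (Lpn (LP (LK LD1_c3 LD2_c3 LD3_c2)))))))))))))
theorem f92142 : Led Lsl_ct (LP (LK LD1_c2 LD2_c21 LD3_c60)) = (LP (LK LD1_c1 LD2_c8 LD3_c8)) :=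
  Lre_c IH (LK LD1_c2 LD2_c21 LD3_c60) (LK LD1_c1 LD2_c8 LD3_c8) Lrfl Lrfl
theorem f82588 : Led Lsl_ct (LP (LK LD1_c3 LD2_c8 LD3_c31)) = (LP (LK LD1_c1 LD2_c30 LD3_c28)) :=
  Lre_c IH (LK LD1_c3 LD2_c8 LD3_c31) (LK LD1_c1 LD2_c30 LD3_c28) Lrfl Lrfl
theorem f25240 : Led Lsl_dt (LP (LK LD1_c2 LD2_c14 LD3_c38)) = (LP (LK LD1_c4 LD2_c35 LD3_c3)) :=
  Lre_d IH (LK LD1_c2 LD2_c14 LD3_c38) (LK LD1_c4 LD2_c35 LD3_c3) Lrfl Lrfl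
theorem f22557 : Led Lsl_dt (LP (LK LD1_c2 LD2_c52 LD3_c43)) = (LP (LK LD1_c1 LD2_c22 LD3_c24)) :=
  Lre_d IH (LK LD1_c2 LD2_c52 LD3_c43) (LK LD1_c1 LD2_c22 LD3_c24) Lrfl Lrfl
theorem f151880 : Led Lsl_af (LP (LK LD1_c2 LD2_c14 LD3_c38)) = (LP (LK LD1_c1 LD2_c22 LD3_c24)) :=
  Lgr Lrot117 (Lpr_dt (f25240 IH) (Lpr_at (K7.f151873 IH) (Lpr_dt (f22557 IH) (Lpn (LP (LK LD1_c1 LD2_c22 LD3_c24))))))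
theorem f436286 : Led Lsl_gf (LP (LK LD1_c2 LD2_c14 LD3_c38)) = (LP (LK LD1_c1 LD2_c22 LD3_c21)) :=
  Lgr Lrot76 (Lpr_af (f151880 IH) (Lpe (K7.f22568 IH) (Lpr_gt (K24.f22526 IH) (Lpn (LP (LK LD1_c1 LD2_c22 LD3_c21))))))
theorem f151889 : Led Lsl_at (LP (LK LD1_c2 LD2_c14 LD3_c37)) = (LP (LK LD1_c1 LD2_c22 LD3_c23)) :=
  Lgr Lrot100 (Lpr_af (K7.f151882 IH) (Lpn (LP (LK LD1_c1 LD2_c22 LD3_c23))))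
theorem f25247 : Led Lsl_ft (LP (LK LD1_c4 LD2_c35 LD3_c3)) = (LP (LK LD1_c2 LD2_c14 LD3_c37)) :=
  Lre_f IH (LK LD1_c4 LD2_c35 LD3_c3) (LK LD1_c2 LD2_c14 LD3_c37) Lrfl Lrfl
theorem f22527 : Led Lsl_gt (LP (LK LD1_c2 LD2_c52 LD3_c42)) = (LP (LK LD1_c1 LD2_c22 LD3_c23)) :=
  Lre_g IH (LK LD1_c2 LD2_c52 LD3_c42) (LK LD1_c1 LD2_c22 LD3_c23) Lrfl Lrfl
theorem f436278 : Led Lsl_gt (LP (LK LD1_c4 LD2_c35 LD3_c3)) = (LP (LK LD1_c2 LD2_c52 LD3_c42)) :=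
  Lgr Lrot5 (Lpr_ft (f25247 IH) (Lpr_at (f151889 IH) (Lpe (f22527 IH) (Lpn (LP (LK LD1_c2 LD2_c52 LD3_c42))))))
theorem f438451 : Led Lsl_df (LP (LK LD1_c3 LD2_c8 LD3_c31)) = (LP (LK LD1_c2 LD2_c52 LD3_c42)) :=
  Lgr Lrot174 (Lpr_ct (f82588 IH) (Lpr_df (f82589 IH) (Lpr_gf (K24.f82886 IH) (Lpe (K24.f82678 IH) (Lpr_gf (K24.f435564 IH) (Lpr_ct (K24.f438440 IH) (Lpe (f436286 IH) (Lpr_dt (f25240 IH) (Lpr_gt (f436278 IH) (Lpn (LP (LK LD1_c2 LD2_c52 LD3_c42))))))))))))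
theorem f438457 : Led Lsl_dt (LP (LK LD1_c3 LD2_c8 LD3_c31)) = (LP (LK LD1_c2 LD2_c52 LD3_c42)) :=
  Lgr Lrot42 (Lpr_df (f438451 IH) (Lpn (LP (LK LD1_c2 LD2_c52 LD3_c42))))
theorem f438459 : Led Lsl_et (LP (LK LD1_c3 LD2_c8 LD3_c31)) = (LP (LK LD1_c1 LD2_c30 LD3_c26)) :=
  Lre_e IH (LK LD1_c3 LD2_c8 LD3_c31) (LK LD1_c1 LD2_c30 LD3_c26) Lrfl Lrfl
theorem f438467 : Led Lsl_gt (LP (LK LD1_c1 LD2_c30 LD3_c26)) = (LP (LK LD1_c1 LD2_c21 LD3_c48)) :=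
  Lgr Lrot131 (Lpe (f438459 IH) (Lpr_dt (f438457 IH) (Lpe (f436278 IH) (Lpe (f25240 IH) (Lpr_gf (f436286 IH) (Lpe (K24.f26580 IH) (Lpr_dt (K24.f56684 IH) (Lpe (K24.f146414 IH) (Lpe (K24.f143131 IH) (Lpe (K6.f143125 IH) (Lpn (LP (LK LD1_c1 LD2_c21 LD3_c48)))))))))))))
theorem f435552 : Led Lsl_ct (LP (LK LD1_c0 LD2_c41 LD3_c46)) = (LP (LK LD1_c1 LD2_c30 LD3_c26)) :=
  Lre_c IH (LK LD1_c0 LD2_c41 LD3_c46) (LK LD1_c1 LD2_c30 LD3_c26) Lrfl Lrfl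
theorem f67182 : Led Lsl_ct (LP (LK LD1_c1 LD2_c30 LD3_c33)) = (LP (LK LD1_c3 LD2_c8 LD3_c49)) :=
  Lre_c IH (LK LD1_c1 LD2_c30 LD3_c33) (LK LD1_c3 LD2_c8 LD3_c49) Lrfl Lrfl
theorem f134828 : Led Lsl_ct (LP (LK LD1_c3 LD2_c19 LD3_c40)) = (LP (LK LD1_c1 LD2_c36 LD3_c14)) :=
  Lre_c IH (LK LD1_c3 LD2_c19 LD3_c40) (LK LD1_c1 LD2_c36 LD3_c14) Lrfl Lrfl
theorem f438506 : Led Lsl_gt (LP (LK LD1_c3 LD2_c8 LD3_c49)) = (LP (LK LD1_c3 LD2_c19 LD3_c40)) :=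
  Lgr Lrot150 (Lpe (f67182 IH) (Lpe (K9.f61837 IH) (Lpe (K9.f61836 IH) (Lpr_gt (K24.f82572 IH) (Lpr_ct (f435552 IH) (Lpr_gt (f438467 IH) (Lpe (K6.f139840 IH) (Lpe (K6.f139842 IH) (Lpe (f134828 IH) (Lpn (LP (LK LD1_c3 LD2_c19 LD3_c40))))))))))))
theorem f113237 : Led Lsl_ft (LP (LK LD1_c2 LD2_c21 LD3_c60)) = (LP (LK LD1_c4 LD2_c48 LD3_c11)) :=
  Lre_f IH (LK LD1_c2 LD2_c21 LD3_c60) (LK LD1_c4 LD2_c48 LD3_c11) Lrfl Lrfl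
theorem f438510 : Led Lsl_gf (LP (LK LD1_c3 LD2_c8 LD3_c49)) = (LP (LK LD1_c2 LD2_c21 LD3_c60)) :=
  Lgr Lrot47 (Lpr_gt (f438506 IH) (Lpe (K6.f135677 IH) (Lpe (f113237 IH) (Lpn (LP (LK LD1_c2 LD2_c21 LD3_c60))))))
theorem f67210 : Led Lsl_dt (LP (LK LD1_c3 LD2_c8 LD3_c49)) = (LP (LK LD1_c6 LD2_c22 LD3_c14)) :=
  Lre_d IH (LK LD1_c3 LD2_c8 LD3_c49) (LK LD1_c6 LD2_c22 LD3_c14) Lrfl Lrfl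
theorem f67315 : Led Lsl_gt (LP (LK LD1_c6 LD2_c22 LD3_c14)) = (LP (LK LD1_c12 LD2_c17 LD3_c60)) :=
  Lre_g IH (LK LD1_c6 LD2_c22 LD3_c14) (LK LD1_c12 LD2_c17 LD3_c60) Lrfl Lrfl
theorem f503563 : Led Lsl_df (LP (LK LD1_c6 LD2_c42 LD3_c52)) = (LP (LK LD1_c12 LD2_c17 LD3_c60)) :=
  Lgr Lrot84 (Lpe (f146021 IH) (Lpe (f503555 IH) (Lpr_gf (f503561 IH) (Lpe (K29.f416807 IH) (Lpe (K24.f20124 IH) (Lpe (f92142 IH) (Lpe (f438510 IH) (Lpr_dt (f67210 IH) (Lpr_gt (f67315 IH) (Lpn (LP (LK LD1_c12 LD2_c17 LD3_c60))))))))))))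
theorem f503567 : Led Lsl_dt (LP (LK LD1_c6 LD2_c42 LD3_c52)) = (LP (LK LD1_c12 LD2_c17 LD3_c60)) :=
  Lgr Lrot42 (Lpr_df (f503563 IH) (Lpn (LP (LK LD1_c12 LD2_c17 LD3_c60))))
theorem f113218 : Led Lsl_bt (LP (LK LD1_c1 LD2_c37 LD3_c45)) = (LP (LK LD1_c3 LD2_c22 LD3_c49)) :=
  Lre_b IH (LK LD1_c1 LD2_c37 LD3_c45) (LK LD1_c3 LD2_c22 LD3_c49) Lrfl Lrfl
theorem f113219 : Led Lsl_bt (LP (LK LD1_c4 LD2_c48 LD3_c9)) = (LP (LK LD1_c2 LD2_c21 LD3_c60)) :=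
  Lre_b IH (LK LD1_c4 LD2_c48 LD3_c9) (LK LD1_c2 LD2_c21 LD3_c60) Lrfl Lrfl
theorem f113220 : Led Lsl_ef (LP (LK LD1_c1 LD2_c37 LD3_c45)) = (LP (LK LD1_c2 LD2_c21 LD3_c60)) :=
  Lgr Lrot29 (Lpr_bt (f113218 IH) (Lpr_et (K6.f113207 IH) (Lpr_bt (f113219 IH) (Lpn (LP (LK LD1_c2 LD2_c21 LD3_c60))))))
theorem f113231 : Led Lsl_et (LP (LK LD1_c1 LD2_c37 LD3_c45)) = (LP (LK LD1_c2 LD2_c21 LD3_c60)) :=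
  Lgr Lrot87 (Lpr_ef (f113220 IH) (Lpn (LP (LK LD1_c2 LD2_c21 LD3_c60))))
theorem f154900 : Led Lsl_df (LP (LK LD1_c2 LD2_c18 LD3_c32)) = (LP (LK LD1_c1 LD2_c30 LD3_c45)) :=
  Lgr Lrot153 (Lpr_gt (K7.f152195 IH) (Lpe (K6.f135444 IH) (Lpe (K7.f86368 IH) (Lpe (K7.f20088 IH) (Lpr_gf (K7.f135488 IH) (Lpe (K7.f25811 IH) (Lpr_gf (K24.f135496 IH) (Lpe (K6.f84091 IH) (Lpr_gt (K7.f154896 IH) (Lpn (LP (LK LD1_c1 LD2_c30 LD3_c45))))))))))))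
theorem f155868 : Led Lsl_et (LP (LK LD1_c1 LD2_c30 LD3_c45)) = (LP (LK LD1_c3 LD2_c9 LD3_c10)) :=
  Lre_e IH (LK LD1_c1 LD2_c30 LD3_c45) (LK LD1_c3 LD2_c9 LD3_c10) Lrfl Lrfl
theorem f434995 : Led Lsl_gt (LP (LK LD1_c6 LD2_c23 LD3_c2)) = (LP (LK LD1_c3 LD2_c9 LD3_c10)) :=
  Lre_g IH (LK LD1_c6 LD2_c23 LD3_c2) (LK LD1_c3 LD2_c9 LD3_c10) Lrfl Lrfl
theorem f503571 : Led Lsl_et (LP (LK LD1_c6 LD2_c42 LD3_c52)) = (LP (LK LD1_c6 LD2_c23 LD3_c2)) :=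
  Lgr Lrot185 (Lpr_dt (f503567 IH) (Lpe (f67315 IH) (Lpe (f67210 IH) (Lpr_gf (f438510 IH) (Lpe (f113231 IH) (Lpr_dt (K6.f135448 IH) (Lpe (K7.f152195 IH) (Lpr_df (f154900 IH) (Lpr_et (f155868 IH) (Lpe (f434995 IH) (Lpn (LP (LK LD1_c6 LD2_c23 LD3_c2)))))))))))))
theorem f503578 : Led Lsl_ef (LP (LK LD1_c6 LD2_c42 LD3_c52)) = (LP (LK LD1_c6 LD2_c23 LD3_c2)) :=
  Lgr Lrot88 (Lpr_et (f503571 IH) (Lpn (LP (LK LD1_c6 LD2_c23 LD3_c2))))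
theorem f503583 : Led Lsl_ct (LP (LK LD1_c4 LD2_c42 LD3_c33)) = (LP (LK LD1_c6 LD2_c23 LD3_c2)) :=
  Lgr Lrot15 (Lpr_ef (f503289 IH) (Lpe (f146022 IH) (Lpr_ef (f503578 IH) (Lpn (LP (LK LD1_c6 LD2_c23 LD3_c2))))))
theorem f503263 : Led Lsl_at (LP (LK LD1_c3 LD2_c9 LD3_c47)) = (LP (LK LD1_c4 LD2_c42 LD3_c33)) :=
  Lgr Lrot100 (Lpr_af (f503261 IH) (Lpn (LP (LK LD1_c4 LD2_c42 LD3_c33))))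
theorem f154218 : Led Lsl_ct (LP (LK LD1_c6 LD2_c24 LD3_c20)) = (LP (LK LD1_c3 LD2_c9 LD3_c47)) :=
  Lre_c IH (LK LD1_c6 LD2_c24 LD3_c20) (LK LD1_c3 LD2_c9 LD3_c47) Lrfl Lrfl
theorem f503585 : Led Lsl_af (LP (LK LD1_c6 LD2_c24 LD3_c20)) = (LP (LK LD1_c6 LD2_c23 LD3_c2)) :=
  Lgr Lrot68 (Lpr_ct (f154218 IH) (Lpr_at (f503263 IH) (Lpr_ct (f503583 IH) (Lpn (LP (LK LD1_c6 LD2_c23 LD3_c2))))))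
theorem f503587 : Led Lsl_at (LP (LK LD1_c6 LD2_c24 LD3_c20)) = (LP (LK LD1_c6 LD2_c23 LD3_c2)) :=
  Lgr Lrot100 (Lpr_af (f503585 IH) (Lpn (LP (LK LD1_c6 LD2_c23 LD3_c2))))
theorem f435680 : Led Lsl_ct (LP (LK LD1_c1 LD2_c30 LD3_c34)) = (LP (LK LD1_c3 LD2_c8 LD3_c52)) :=
  Lre_c IH (LK LD1_c1 LD2_c30 LD3_c34) (LK LD1_c3 LD2_c8 LD3_c52) Lrfl Lrfl
theorem f435542 : Led Lsl_gf (LP (LK LD1_c0 LD2_c41 LD3_c47)) = (LP (LK LD1_c1 LD2_c6 LD3_c14)) :=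
  Lgr Lrot47 (Lpr_gt (K9.f67106 IH) (Lpr_af (K11.f153585 IH) (Lpe (K11.f61075 IH) (Lpn (LP (LK LD1_c1 LD2_c6 LD3_c14))))))
theorem f79851 : Led Lsl_ct (LP (LK LD1_c0 LD2_c41 LD3_c47)) = (LP (LK LD1_c1 LD2_c30 LD3_c30)) :=
  Lre_c IH (LK LD1_c0 LD2_c41 LD3_c47) (LK LD1_c1 LD2_c30 LD3_c30) Lrfl Lrfl
theorem f435681 : Led Lsl_gt (LP (LK LD1_c3 LD2_c8 LD3_c52)) = (LP (LK LD1_c2 LD2_c21 LD3_c60)) :=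
  Lgr Lrot150 (Lpe (f435680 IH) (Lpr_gf (K29.f435678 IH) (Lpe (K11.f61102 IH) (Lpe (f435542 IH) (Lpr_ct (f79851 IH) (Lpe (K31.f79848 IH) (Lpr_ct (K6.f92125 IH) (Lpe (f68456 IH) (Lpe (f92142 IH) (Lpn (LP (LK LD1_c2 LD2_c21 LD3_c60))))))))))))
theorem f435685 : Led Lsl_ct (LP (LK LD1_c3 LD2_c8 LD3_c52)) = (LP (LK LD1_c1 LD2_c30 LD3_c34)) :=
  Lre_c IH (LK LD1_c3 LD2_c8 LD3_c52) (LK LD1_c1 LD2_c30 LD3_c34) Lrfl Lrfl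
theorem f82582 : Led Lsl_dt (LP (LK LD1_c0 LD2_c41 LD3_c46)) = (LP (LK LD1_c1 LD2_c30 LD3_c27)) :=
  Lre_d IH (LK LD1_c0 LD2_c41 LD3_c46) (LK LD1_c1 LD2_c30 LD3_c27) Lrfl Lrfl
theorem f435692 : Led Lsl_ct (LP (LK LD1_c1 LD2_c30 LD3_c27)) = (LP (LK LD1_c3 LD2_c8 LD3_c34)) :=
  Lre_c IH (LK LD1_c1 LD2_c30 LD3_c27) (LK LD1_c3 LD2_c8 LD3_c34) Lrfl Lrfl
theorem f435693 : Led Lsl_dt (LP (LK LD1_c6 LD2_c21 LD3_c47)) = (LP (LK LD1_c3 LD2_c8 LD3_c34)) :=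
  Lre_d IH (LK LD1_c6 LD2_c21 LD3_c47) (LK LD1_c3 LD2_c8 LD3_c34) Lrfl Lrfl
theorem f92138 : Led Lsl_dt (LP (LK LD1_c2 LD2_c21 LD3_c60)) = (LP (LK LD1_c4 LD2_c48 LD3_c10)) :=
  Lre_d IH (LK LD1_c2 LD2_c21 LD3_c60) (LK LD1_c4 LD2_c48 LD3_c10) Lrfl Lrfl
theorem f435694 : Led Lsl_gf (LP (LK LD1_c6 LD2_c21 LD3_c47)) = (LP (LK LD1_c4 LD2_c48 LD3_c10)) :=
  Lgr Lrot143 (Lpr_dt (f435693 IH) (Lpe (f435692 IH) (Lpe (f82582 IH) (Lpe (K24.f82572 IH) (Lpe (K11.f67105 IH) (Lpe (K29.f416969 IH) (Lpe (f435685 IH) (Lpr_gt (f435681 IH) (Lpr_dt (f92138 IH) (Lpn (LP (LK LD1_c4 LD2_c48 LD3_c10))))))))))))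
theorem f92160 : Led Lsl_ft (LP (LK LD1_c4 LD2_c48 LD3_c10)) = (LP (LK LD1_c9 LD2_c29 LD3_c9)) :=
  Lre_f IH (LK LD1_c4 LD2_c48 LD3_c10) (LK LD1_c9 LD2_c29 LD3_c9) Lrfl Lrfl
theorem f135668 : Led Lsl_at (LP (LK LD1_c9 LD2_c29 LD3_c9)) = (LP (LK LD1_c6 LD2_c43 LD3_c8)) :=
  Lgr Lrot100 (Lpr_af (K6.f135666 IH) (Lpn (LP (LK LD1_c6 LD2_c43 LD3_c8))))
theorem f435706 : Led Lsl_gt (LP (LK LD1_c6 LD2_c21 LD3_c47)) = (LP (LK LD1_c6 LD2_c43 LD3_c8)) :=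
  Lgr Lrot46 (Lpr_gf (f435694 IH) (Lpr_ft (f92160 IH) (Lpr_at (f135668 IH) (Lpn (LP (LK LD1_c6 LD2_c43 LD3_c8))))))
theorem f435704 : Led Lsl_dt (LP (LK LD1_c3 LD2_c8 LD3_c34)) = (LP (LK LD1_c6 LD2_c21 LD3_c47)) :=
  Lre_d IH (LK LD1_c3 LD2_c8 LD3_c34) (LK LD1_c6 LD2_c21 LD3_c47) Lrfl Lrfl
theorem f435718 : Led Lsl_gt (LP (LK LD1_c6 LD2_c21 LD3_c45)) = (LP (LK LD1_c3 LD2_c8 LD3_c34)) :=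
  Lre_g IH (LK LD1_c6 LD2_c21 LD3_c45) (LK LD1_c3 LD2_c8 LD3_c34) Lrfl Lrfl
theorem f134829 : Led Lsl_dt (LP (LK LD1_c6 LD2_c43 LD3_c8)) = (LP (LK LD1_c3 LD2_c19 LD3_c40)) :=
  Lre_d IH (LK LD1_c6 LD2_c43 LD3_c8) (LK LD1_c3 LD2_c19 LD3_c40) Lrfl Lrfl
theorem f135702 : Led Lsl_ct (LP (LK LD1_c1 LD2_c36 LD3_c14)) = (LP (LK LD1_c3 LD2_c19 LD3_c40)) :=
  Lre_c IH (LK LD1_c1 LD2_c36 LD3_c14) (LK LD1_c3 LD2_c19 LD3_c40) Lrfl Lrfl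
theorem f435719 : Led Lsl_ct (LP (LK LD1_c6 LD2_c21 LD3_c45)) = (LP (LK LD1_c4 LD2_c48 LD3_c3)) :=
  Lgr Lrot8 (Lpr_gt (f435718 IH) (Lpr_dt (f435704 IH) (Lpr_gt (f435706 IH) (Lpr_dt (f134829 IH) (Lpe (f135702 IH) (Lpe (K6.f135703 IH) (Lpr_gf (f146055 IH) (Lpe (K24.f68384 IH) (Lpe (f68387 IH) (Lpn (LP (LK LD1_c4 LD2_c48 LD3_c3))))))))))))
theorem f503551 : Led Lsl_af (LP (LK LD1_c6 LD2_c21 LD3_c45)) = (LP (LK LD1_c6 LD2_c42 LD3_c52)) :=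
  Lgr Lrot68 (Lpr_ct (f435719 IH) (Lpr_at (f503549 IH) (Lpr_ct (f146021 IH) (Lpn (LP (LK LD1_c6 LD2_c42 LD3_c52))))))
theorem f503592 : Led Lsl_ef (LP (LK LD1_c6 LD2_c24 LD3_c20)) = (LP (LK LD1_c6 LD2_c21 LD3_c45)) :=
  Lgr Lrot20 (Lpr_at (f503587 IH) (Lpe (f503578 IH) (Lpe (f503551 IH) (Lpn (LP (LK LD1_c6 LD2_c21 LD3_c45))))))
theorem f503596 : Led Lsl_et (LP (LK LD1_c6 LD2_c24 LD3_c20)) = (LP (LK LD1_c6 LD2_c21 LD3_c45)) :=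
  Lgr Lrot87 (Lpr_ef (f503592 IH) (Lpn (LP (LK LD1_c6 LD2_c21 LD3_c45))))
theorem f503598 : Led Lsl_af (LP (LK LD1_c6 LD2_c42 LD3_c52)) = (LP (LK LD1_c6 LD2_c21 LD3_c45)) :=
  Lgr Lrot50 (Lpr_et (f503571 IH) (Lpe (f503585 IH) (Lpr_et (f503596 IH) (Lpn (LP (LK LD1_c6 LD2_c21 LD3_c45))))))
theorem f24641 : Led Lsl_ct (LP (LK LD1_c3 LD2_c3 LD3_c3)) = (LP (LK LD1_c6 LD2_c12 LD3_c45)) :=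
  Lre_c IH (LK LD1_c3 LD2_c3 LD3_c3) (LK LD1_c6 LD2_c12 LD3_c45) Lrfl Lrfl
theorem f503535 : Led Lsl_ff (LP (LK LD1_c6 LD2_c21 LD3_c45)) = (LP (LK LD1_c6 LD2_c12 LD3_c45)) :=
  Lgr Lrot23 (Lpr_ct (f435719 IH) (Lpr_ft (f503531 IH) (Lpr_ct (f24641 IH) (Lpn (LP (LK LD1_c6 LD2_c12 LD3_c45))))))
theorem f82834 : Led Lsl_ct (LP (LK LD1_c4 LD2_c42 LD3_c9)) = (LP (LK LD1_c2 LD2_c18 LD3_c23)) :=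
  Lre_c IH (LK LD1_c4 LD2_c42 LD3_c9) (LK LD1_c2 LD2_c18 LD3_c23) Lrfl Lrfl
theorem f438773 : Led Lsl_gt (LP (LK LD1_c2 LD2_c14 LD3_c17)) = (LP (LK LD1_c1 LD2_c21 LD3_c47)) :=
  Lgr Lrot5 (Lpr_ft (K6.f92123 IH) (Lpr_at (K31.f135649 IH) (Lpe (K31.f59435 IH) (Lpn (LP (LK LD1_c1 LD2_c21 LD3_c47))))))
theorem f500136 : Led Lsl_gf (LP (LK LD1_c4 LD2_c42 LD3_c9)) = (LP (LK LD1_c6 LD2_c12 LD3_c45)) :=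
  Lgr Lrot104 (Lpr_ct (f82834 IH) (Lpe (f61086 IH) (Lpr_cf (K31.f494707 IH) (Lpqs (K31.f500029 IH) (Lpe (f438773 IH) (Lpr_cf (K6.f92110 IH) (Lpe (f146019 IH) (Lpe (f24640 IH) (Lpr_gt (K9.f24625 IH) (Lpr_ct (f24641 IH) (Lpn (LP (LK LD1_c6 LD2_c12 LD3_c45)))))))))))))
theorem f503612 : Led Lsl_gf (LP (LK LD1_c6 LD2_c42 LD3_c52)) = (LP (LK LD1_c4 LD2_c42 LD3_c9)) :=
  Lgr Lrot76 (Lpr_af (f503598 IH) (Lpr_ff (f503535 IH) (Lpe (f500136 IH) (Lpn (LP (LK LD1_c4 LD2_c42 LD3_c9))))))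
theorem f505078 : Led Lsl_at (LP (LK LD1_c3 LD2_c8 LD3_c34)) = (LP (LK LD1_c4 LD2_c42 LD3_c4)) :=
  Lgr Lrot26 (Lpr_ff (f505071 IH) (Lpe (f503612 IH) (Lpe (f500089 IH) (Lpn (LP (LK LD1_c4 LD2_c42 LD3_c4))))))
theorem f503602 : Led Lsl_et (LP (LK LD1_c6 LD2_c21 LD3_c48)) = (LP (LK LD1_c3 LD2_c8 LD3_c34)) :=
  Lre_e IH (LK LD1_c6 LD2_c21 LD3_c48) (LK LD1_c3 LD2_c8 LD3_c34) Lrfl Lrfl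
theorem f82701 : Led Lsl_ef (LP (LK LD1_c1 LD2_c33 LD3_c1)) = (LP (LK LD1_c1 LD2_c6 LD3_c11)) :=
  Lgr Lrot88 (Lpr_et (K11.f82691 IH) (Lpn (LP (LK LD1_c1 LD2_c6 LD3_c11))))
theorem f82709 : Led Lsl_et (LP (LK LD1_c3 LD2_c13 LD3_c16)) = (LP (LK LD1_c2 LD2_c18 LD3_c21)) :=
  Lgr Lrot71 (Lpe (K24.f82690 IH) (Lpe (K24.f82707 IH) (Lpe (K11.f82681 IH) (Lpr_ef (f82701 IH) (Lpe (f82708 IH) (Lpn (LP (LK LD1_c2 LD2_c18 LD3_c21))))))))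
theorem f82716 : Led Lsl_ct (LP (LK LD1_c6 LD2_c30 LD3_c26)) = (LP (LK LD1_c3 LD2_c13 LD3_c16)) :=
  Lre_c IH (LK LD1_c6 LD2_c30 LD3_c26) (LK LD1_c3 LD2_c13 LD3_c16) Lrfl Lrfl
theorem f61030 : Led Lsl_ct (LP (LK LD1_c2 LD2_c18 LD3_c21)) = (LP (LK LD1_c4 LD2_c42 LD3_c4)) :=
  Lre_c IH (LK LD1_c2 LD2_c18 LD3_c21) (LK LD1_c4 LD2_c42 LD3_c4) Lrfl Lrfl
theorem f82717 : Led Lsl_ef (LP (LK LD1_c6 LD2_c30 LD3_c26)) = (LP (LK LD1_c4 LD2_c42 LD3_c4)) :=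
  Lgr Lrot28 (Lpr_ct (f82716 IH) (Lpr_et (f82709 IH) (Lpr_ct (f61030 IH) (Lpn (LP (LK LD1_c4 LD2_c42 LD3_c4))))))
theorem f505087 : Led Lsl_af (LP (LK LD1_c6 LD2_c21 LD3_c48)) = (LP (LK LD1_c6 LD2_c30 LD3_c26)) :=
  Lgr Lrot50 (Lpr_et (f503602 IH) (Lpr_at (f505078 IH) (Lpe (f82717 IH) (Lpn (LP (LK LD1_c6 LD2_c30 LD3_c26))))))
theorem f82605 : Led Lsl_ct (LP (LK LD1_c6 LD2_c21 LD3_c48)) = (LP (LK LD1_c3 LD2_c8 LD3_c35)) :=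
  Lre_c IH (LK LD1_c6 LD2_c21 LD3_c48) (LK LD1_c3 LD2_c8 LD3_c35) Lrfl Lrfl
theorem f82730 : Led Lsl_ct (LP (LK LD1_c3 LD2_c13 LD3_c16)) = (LP (LK LD1_c6 LD2_c30 LD3_c26)) :=
  Lre_c IH (LK LD1_c3 LD2_c13 LD3_c16) (LK LD1_c6 LD2_c30 LD3_c26) Lrfl Lrfl
theorem f505091 : Led Lsl_at (LP (LK LD1_c3 LD2_c8 LD3_c35)) = (LP (LK LD1_c3 LD2_c13 LD3_c16)) :=
  Lgr Lrot107 (Lpe (f82605 IH) (Lpr_af (f505087 IH) (Lpe (f82730 IH) (Lpn (LP (LK LD1_c3 LD2_c13 LD3_c16))))))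
theorem f140241 : Led Lsl_gt (LP (LK LD1_c6 LD2_c2 LD3_c60)) = (LP (LK LD1_c2 LD2_c57 LD3_c34)) :=
  Lre_g IH (LK LD1_c6 LD2_c2 LD3_c60) (LK LD1_c2 LD2_c57 LD3_c34) Lrfl Lrfl
theorem f505097 : Led Lsl_ff (LP (LK LD1_c3 LD2_c8 LD3_c35)) = (LP (LK LD1_c6 LD2_c2 LD3_c60)) :=
  Lgr Lrot52 (Lpr_at (f505091 IH) (Lpe (K24.f140721 IH) (Lpe (f140241 IH) (Lpn (LP (LK LD1_c6 LD2_c2 LD3_c60))))))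
theorem f82604 : Led Lsl_ft (LP (LK LD1_c2 LD2_c19 LD3_c45)) = (LP (LK LD1_c4 LD2_c43 LD3_c53)) :=
  Lre_f IH (LK LD1_c2 LD2_c19 LD3_c45) (LK LD1_c4 LD2_c43 LD3_c53) Lrfl Lrfl
theorem f505099 : Led Lsl_dt (LP (LK LD1_c4 LD2_c43 LD3_c53)) = (LP (LK LD1_c6 LD2_c2 LD3_c60)) :=
  Lgr Lrot60 (Lpe (f82604 IH) (Lpe (K24.f82601 IH) (Lpr_ff (f505097 IH) (Lpn (LP (LK LD1_c6 LD2_c2 LD3_c60))))))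
theorem f140240 : Led Lsl_dt (LP (LK LD1_c2 LD2_c57 LD3_c34)) = (LP (LK LD1_c1 LD2_c24 LD3_c30)) :=
  Lre_d IH (LK LD1_c2 LD2_c57 LD3_c34) (LK LD1_c1 LD2_c24 LD3_c30) Lrfl Lrfl
theorem f140711 : Led Lsl_dt (LP (LK LD1_c1 LD2_c24 LD3_c31)) = (LP (LK LD1_c0 LD2_c38 LD3_c57)) :=
  Lre_d IH (LK LD1_c1 LD2_c24 LD3_c31) (LK LD1_c0 LD2_c38 LD3_c57) Lrfl Lrfl
theorem f501075 : Led Lsl_dt (LP (LK LD1_c6 LD2_c3 LD3_c3)) = (LP (LK LD1_c2 LD2_c57 LD3_c36)) :=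
  Lre_d IH (LK LD1_c6 LD2_c3 LD3_c3) (LK LD1_c2 LD2_c57 LD3_c36) Lrfl Lrfl
theorem f140713 : Led Lsl_ct (LP (LK LD1_c0 LD2_c44 LD3_c60)) = (LP (LK LD1_c1 LD2_c5 LD3_c10)) :=
  Lre_c IH (LK LD1_c0 LD2_c44 LD3_c60) (LK LD1_c1 LD2_c5 LD3_c10) Lrfl Lrfl
theorem f25586 : Led Lsl_gt (LP (LK LD1_c0 LD2_c44 LD3_c60)) = (LP (LK LD1_c1 LD2_c8 LD3_c33)) :=
  Lre_g IH (LK LD1_c0 LD2_c44 LD3_c60) (LK LD1_c1 LD2_c8 LD3_c33) Lrfl Lrfl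
theorem f135608 : Led Lsl_dt (LP (LK LD1_c1 LD2_c8 LD3_c33)) = (LP (LK LD1_c2 LD2_c22 LD3_c53)) :=
  Lre_d IH (LK LD1_c1 LD2_c8 LD3_c33) (LK LD1_c2 LD2_c22 LD3_c53) Lrfl Lrfl
theorem f140820 : Led Lsl_gt (LP (LK LD1_c4 LD2_c50 LD3_c18)) = (LP (LK LD1_c9 LD2_c32 LD3_c58)) :=
  Lre_g IH (LK LD1_c4 LD2_c50 LD3_c18) (LK LD1_c9 LD2_c32 LD3_c58) Lrfl Lrfl
theorem f67062 : Led Lsl_dt (LP (LK LD1_c1 LD2_c30 LD3_c23)) = (LP (LK LD1_c0 LD2_c41 LD3_c45)) :=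
  Lre_d IH (LK LD1_c1 LD2_c30 LD3_c23) (LK LD1_c0 LD2_c41 LD3_c45) Lrfl Lrfl
theorem f140705 : Led Lsl_ct (LP (LK LD1_c6 LD2_c2 LD3_c61)) = (LP (LK LD1_c2 LD2_c57 LD3_c34)) :=
  Lre_c IH (LK LD1_c6 LD2_c2 LD3_c61) (LK LD1_c2 LD2_c57 LD3_c34) Lrfl Lrfl
theorem f415903 : Led Lsl_dt (LP (LK LD1_c9 LD2_c32 LD3_c58)) = (LP (LK LD1_c6 LD2_c2 LD3_c61)) :=
  Lgr Lrot105 (Lpe (f140820 IH) (Lpe (K0.f7495 IH) (Lpe (K31.f7522 IH) (Lpr_cf (K31.f415893 IH) (Lpr_gt (K31.f67055 IH) (Lpr_dt (f67062 IH) (Lpe (K24.f140234 IH) (Lpr_dt (K24.f140244 IH) (Lpe (f140705 IH) (Lpn (LP (LK LD1_c6 LD2_c2 LD3_c61))))))))))))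
theorem f415919 : Led Lsl_df (LP (LK LD1_c9 LD2_c32 LD3_c58)) = (LP (LK LD1_c6 LD2_c2 LD3_c61)) :=
  Lgr Lrot38 (Lpr_dt (f415903 IH) (Lpn (LP (LK LD1_c6 LD2_c2 LD3_c61))))
theorem f7574 : Led Lsl_gt (LP (LK LD1_c9 LD2_c32 LD3_c58)) = (LP (LK LD1_c5 LD2_c45 LD3_c48)) :=
  Lre_g IH (LK LD1_c9 LD2_c32 LD3_c58) (LK LD1_c5 LD2_c45 LD3_c48) Lrfl Lrfl
theorem f7535 : Led Lsl_dt (LP (LK LD1_c5 LD2_c45 LD3_c48)) = (LP (LK LD1_c3 LD2_c21 LD3_c58)) :=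
  Lre_d IH (LK LD1_c5 LD2_c45 LD3_c48) (LK LD1_c3 LD2_c21 LD3_c58) Lrfl Lrfl
theorem f62074 : Led Lsl_ct (LP (LK LD1_c3 LD2_c21 LD3_c58)) = (LP (LK LD1_c1 LD2_c37 LD3_c15)) :=
  Lre_c IH (LK LD1_c3 LD2_c21 LD3_c58) (LK LD1_c1 LD2_c37 LD3_c15) Lrfl Lrfl
theorem f23834 : Led Lsl_gt (LP (LK LD1_c4 LD2_c50 LD3_c4)) = (LP (LK LD1_c2 LD2_c22 LD3_c50)) :=
  Lre_g IH (LK LD1_c4 LD2_c50 LD3_c4) (LK LD1_c2 LD2_c22 LD3_c50) Lrfl Lrfl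
theorem f146148 : Led Lsl_ct (LP (LK LD1_c4 LD2_c50 LD3_c4)) = (LP (LK LD1_c9 LD2_c32 LD3_c37)) :=
  Lre_c IH (LK LD1_c4 LD2_c50 LD3_c4) (LK LD1_c9 LD2_c32 LD3_c37) Lrfl Lrfl
theorem f415922 : Led Lsl_gt (LP (LK LD1_c9 LD2_c32 LD3_c37)) = (LP (LK LD1_c6 LD2_c2 LD3_c61)) :=
  Lgr Lrot94 (Lpe (f146148 IH) (Lpr_gt (f23834 IH) (Lpr_dt (K29.f23809 IH) (Lpr_gt (K24.f20139 IH) (Lpr_dt (K16.f23820 IH) (Lpe (f62074 IH) (Lpe (f7535 IH) (Lpe (f7574 IH) (Lpr_df (f415919 IH) (Lpn (LP (LK LD1_c6 LD2_c2 LD3_c61))))))))))))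
theorem f415323 : Led Lsl_ct (LP (LK LD1_c0 LD2_c31 LD3_c21)) = (LP (LK LD1_c0 LD2_c17 LD3_c18)) :=
  Lre_c IH (LK LD1_c0 LD2_c31 LD3_c21) (LK LD1_c0 LD2_c17 LD3_c18) Lrfl Lrfl
theorem f135597 : Led Lsl_gt (LP (LK LD1_c1 LD2_c8 LD3_c33)) = (LP (LK LD1_c0 LD2_c31 LD3_c21)) :=
  Lre_g IH (LK LD1_c1 LD2_c8 LD3_c33) (LK LD1_c0 LD2_c31 LD3_c21) Lrfl Lrfl
theorem f25587 : Led Lsl_dt (LP (LK LD1_c2 LD2_c22 LD3_c53)) = (LP (LK LD1_c1 LD2_c8 LD3_c33)) :=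
  Lre_d IH (LK LD1_c2 LD2_c22 LD3_c53) (LK LD1_c1 LD2_c8 LD3_c33) Lrfl Lrfl
theorem f415925 : Led Lsl_gf (LP (LK LD1_c4 LD2_c50 LD3_c4)) = (LP (LK LD1_c2 LD2_c22 LD3_c53)) :=
  Lgr Lrot147 (Lpr_ct (f146148 IH) (Lpr_gt (f415922 IH) (Lpr_ct (f140705 IH) (Lpe (K24.f140244 IH) (Lpe (K9.f140230 IH) (Lpe (K9.f23899 IH) (Lpe (f415323 IH) (Lpe (f135597 IH) (Lpe (f25587 IH) (Lpn (LP (LK LD1_c2 LD2_c22 LD3_c53))))))))))))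
theorem f438432 : Led Lsl_cf (LP (LK LD1_c1 LD2_c6 LD3_c51)) = (LP (LK LD1_c1 LD2_c21 LD3_c14)) :=
  Lgr Lrot11 (Lpr_ct (K24.f438428 IH) (Lpn (LP (LK LD1_c1 LD2_c21 LD3_c14))))
theorem f59501 : Led Lsl_ct (LP (LK LD1_c4 LD2_c43 LD3_c29)) = (LP (LK LD1_c2 LD2_c19 LD3_c28)) :=
  Lre_c IH (LK LD1_c4 LD2_c43 LD3_c29) (LK LD1_c2 LD2_c19 LD3_c28) Lrfl Lrfl
theorem f438331 : Led Lsl_ct (LP (LK LD1_c1 LD2_c6 LD3_c52)) = (LP (LK LD1_c1 LD2_c21 LD3_c15)) :=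
  Lgr Lrot59 (Lpr_cf (K24.f438323 IH) (Lpn (LP (LK LD1_c1 LD2_c21 LD3_c15))))
theorem f57118 : Led Lsl_cf (LP (LK LD1_c0 LD2_c19 LD3_c52)) = (LP (LK LD1_c0 LD2_c37 LD3_c30)) :=
  Lgr Lrot11 (Lpr_ct (K1.f56744 IH) (Lpn (LP (LK LD1_c0 LD2_c37 LD3_c30))))
theorem f57121 : Led Lsl_ct (LP (LK LD1_c1 LD2_c36 LD3_c30)) = (LP (LK LD1_c0 LD2_c44 LD3_c42)) :=
  Lre_c IH (LK LD1_c1 LD2_c36 LD3_c30) (LK LD1_c0 LD2_c44 LD3_c42) Lrfl Lrfl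
theorem f57503 : Led Lsl_gt (LP (LK LD1_c3 LD2_c20 LD3_c10)) = (LP (LK LD1_c1 LD2_c36 LD3_c30)) :=
  Lre_g IH (LK LD1_c3 LD2_c20 LD3_c10) (LK LD1_c1 LD2_c36 LD3_c30) Lrfl Lrfl
theorem f438354 : Led Lsl_ct (LP (LK LD1_c2 LD2_c19 LD3_c33)) = (LP (LK LD1_c3 LD2_c20 LD3_c10)) :=
  Lgr Lrot152 (Lpe (K24.f153710 IH) (Lpe (K24.f69086 IH) (Lpe (K24.f210120 IH) (Lpr_ct (f438331 IH) (Lpr_gt (K24.f57152 IH) (Lpe (f57118 IH) (Lpe (f57120 IH) (Lpe (f57121 IH) (Lpe (f57503 IH) (Lpn (LP (LK LD1_c3 LD2_c20 LD3_c10))))))))))))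
theorem f62486 : Led Lsl_gt (LP (LK LD1_c3 LD2_c20 LD3_c12)) = (LP (LK LD1_c6 LD2_c44 LD3_c8)) :=
  Lre_g IH (LK LD1_c3 LD2_c20 LD3_c12) (LK LD1_c6 LD2_c44 LD3_c8) Lrfl Lrfl
theorem f438362 : Led Lsl_df (LP (LK LD1_c4 LD2_c43 LD3_c29)) = (LP (LK LD1_c6 LD2_c44 LD3_c8)) :=
  Lgr Lrot174 (Lpr_ct (f59501 IH) (Lpe (K11.f26311 IH) (Lpe (K11.f26310 IH) (Lpe (K24.f26283 IH) (Lpe (K24.f26269 IH) (Lpr_ct (f438354 IH) (Lpr_gt (f57503 IH) (Lpr_dt (K6.f57500 IH) (Lpr_gt (f62486 IH) (Lpn (LP (LK LD1_c6 LD2_c44 LD3_c8))))))))))))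
theorem f438369 : Led Lsl_dt (LP (LK LD1_c4 LD2_c43 LD3_c29)) = (LP (LK LD1_c6 LD2_c44 LD3_c8)) :=
  Lgr Lrot42 (Lpr_df (f438362 IH) (Lpn (LP (LK LD1_c6 LD2_c44 LD3_c8))))
theorem f57128 : Led Lsl_ft (LP (LK LD1_c3 LD2_c20 LD3_c12)) = (LP (LK LD1_c6 LD2_c44 LD3_c11)) :=
  Lre_f IH (LK LD1_c3 LD2_c20 LD3_c12) (LK LD1_c6 LD2_c44 LD3_c11) Lrfl Lrfl
theorem f143930 : Led Lsl_af (LP (LK LD1_c9 LD2_c29 LD3_c52)) = (LP (LK LD1_c6 LD2_c44 LD3_c11)) :=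
  Lgr Lrot45 (Lpr_ft (K24.f84506 IH) (Lpr_at (K6.f143924 IH) (Lpr_ft (f57128 IH) (Lpn (LP (LK LD1_c6 LD2_c44 LD3_c11))))))
theorem f143938 : Led Lsl_gf (LP (LK LD1_c9 LD2_c29 LD3_c52)) = (LP (LK LD1_c6 LD2_c44 LD3_c8)) :=
  Lgr Lrot76 (Lpr_af (f143930 IH) (Lpe (f57128 IH) (Lpr_gt (f62486 IH) (Lpn (LP (LK LD1_c6 LD2_c44 LD3_c8))))))
theorem f135363 : Led Lsl_dt (LP (LK LD1_c9 LD2_c29 LD3_c52)) = (LP (LK LD1_c4 LD2_c48 LD3_c40)) :=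
  Lre_d IH (LK LD1_c9 LD2_c29 LD3_c52) (LK LD1_c4 LD2_c48 LD3_c40) Lrfl Lrfl
theorem f135362 : Led Lsl_ct (LP (LK LD1_c2 LD2_c22 LD3_c14)) = (LP (LK LD1_c4 LD2_c48 LD3_c40)) :=
  Lre_c IH (LK LD1_c2 LD2_c22 LD3_c14) (LK LD1_c4 LD2_c48 LD3_c40) Lrfl Lrfl
theorem f416853 : Led Lsl_dt (LP (LK LD1_c1 LD2_c36 LD3_c24)) = (LP (LK LD1_c0 LD2_c44 LD3_c40)) :=
  Lre_d IH (LK LD1_c1 LD2_c36 LD3_c24) (LK LD1_c0 LD2_c44 LD3_c40) Lrfl Lrfl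
theorem f416856 : Led Lsl_gt (LP (LK LD1_c3 LD2_c20 LD3_c0)) = (LP (LK LD1_c1 LD2_c36 LD3_c24)) :=
  Lre_g IH (LK LD1_c3 LD2_c20 LD3_c0) (LK LD1_c1 LD2_c36 LD3_c24) Lrfl Lrfl
theorem f416857 : Led Lsl_ct (LP (LK LD1_c6 LD2_c43 LD3_c54)) = (LP (LK LD1_c3 LD2_c20 LD3_c0)) :=
  Lre_c IH (LK LD1_c6 LD2_c43 LD3_c54) (LK LD1_c3 LD2_c20 LD3_c0) Lrfl Lrfl
theorem f438379 : Led Lsl_gf (LP (LK LD1_c4 LD2_c43 LD3_c29)) = (LP (LK LD1_c6 LD2_c43 LD3_c54)) :=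
  Lgr Lrot144 (Lpr_dt (f438369 IH) (Lpe (f143938 IH) (Lpr_dt (f135363 IH) (Lpe (f135362 IH) (Lpe (K6.f135390 IH) (Lpe (K24.f437546 IH) (Lpe (f416853 IH) (Lpe (f416856 IH) (Lpe (f416857 IH) (Lpn (LP (LK LD1_c6 LD2_c43 LD3_c54))))))))))))
theorem f437548 : Led Lsl_ct (LP (LK LD1_c3 LD2_c20 LD3_c0)) = (LP (LK LD1_c6 LD2_c43 LD3_c54)) :=
  Lre_c IH (LK LD1_c3 LD2_c20 LD3_c0) (LK LD1_c6 LD2_c43 LD3_c54) Lrfl Lrfl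
theorem f438672 : Led Lsl_gf (LP (LK LD1_c3 LD2_c20 LD3_c0)) = (LP (LK LD1_c1 LD2_c36 LD3_c26)) :=
  Lgr Lrot147 (Lpr_ct (f437548 IH) (Lpe (f438379 IH) (Lpr_ct (f59501 IH) (Lpe (K11.f26311 IH) (Lpr_cf (f438432 IH) (Lpe (K24.f56661 IH) (Lpe (K1.f56744 IH) (Lpe (K16.f57140 IH) (Lpe (K24.f57142 IH) (Lpn (LP (LK LD1_c1 LD2_c36 LD3_c26))))))))))))
theorem f438681 : Led Lsl_ef (LP (LK LD1_c3 LD2_c20 LD3_c0)) = (LP (LK LD1_c1 LD2_c37 LD3_c21)) :=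
  Lgr Lrot17 (Lpr_gf (f438672 IH) (Lpe (K29.f416942 IH) (Lpr_dt (K29.f24684 IH) (Lpr_gf (K29.f416944 IH) (Lpe (K24.f20130 IH) (Lpe (K24.f416139 IH) (Lpe (K24.f68385 IH) (Lpr_dt (K24.f23835 IH) (Lpr_gf (K24.f416143 IH) (Lpr_df (K24.f23234 IH) (Lpn (LP (LK LD1_c1 LD2_c37 LD3_c21)))))))))))))
theorem f25435 : Led Lsl_et (LP (LK LD1_c0 LD2_c45 LD3_c1)) = (LP (LK LD1_c0 LD2_c19 LD3_c61)) :=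
  Lre_e IH (LK LD1_c0 LD2_c45 LD3_c1) (LK LD1_c0 LD2_c19 LD3_c61) Lrfl Lrfl
theorem f23243 : Led Lsl_dt (LP (LK LD1_c0 LD2_c45 LD3_c1)) = (LP (LK LD1_c0 LD2_c19 LD3_c58)) :=
  Lre_d IH (LK LD1_c0 LD2_c45 LD3_c1) (LK LD1_c0 LD2_c19 LD3_c58) Lrfl Lrfl
theorem f25605 : Led Lsl_et (LP (LK LD1_c1 LD2_c37 LD3_c17)) = (LP (LK LD1_c3 LD2_c22 LD3_c2)) :=
  Lre_e IH (LK LD1_c1 LD2_c37 LD3_c17) (LK LD1_c3 LD2_c22 LD3_c2) Lrfl Lrfl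
theorem f146142 : Led Lsl_gt (LP (LK LD1_c3 LD2_c22 LD3_c2)) = (LP (LK LD1_c4 LD2_c48 LD3_c35)) :=
  Lgr Lrot137 (Lpe (f25605 IH) (Lpr_dt (K29.f25517 IH) (Lpe (K0.f25407 IH) (Lpe (f23243 IH) (Lpr_et (f25435 IH) (Lpe (K2.f7442 IH) (Lpe (K6.f25648 IH) (Lpe (K6.f146116 IH) (Lpe (f57675 IH) (Lpr_df (f146137 IH) (Lpn (LP (LK LD1_c4 LD2_c48 LD3_c35)))))))))))))
theorem f25515 : Led Lsl_et (LP (LK LD1_c3 LD2_c6 LD3_c10)) = (LP (LK LD1_c6 LD2_c17 LD3_c56)) :=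
  Lre_e IH (LK LD1_c3 LD2_c6 LD3_c10) (LK LD1_c6 LD2_c17 LD3_c56) Lrfl Lrfl
theorem f25518 : Led Lsl_et (LP (LK LD1_c3 LD2_c22 LD3_c2)) = (LP (LK LD1_c1 LD2_c37 LD3_c17)) :=
  Lre_e IH (LK LD1_c3 LD2_c22 LD3_c2) (LK LD1_c1 LD2_c37 LD3_c17) Lrfl Lrfl
theorem f25519 : Led Lsl_dt (LP (LK LD1_c6 LD2_c17 LD3_c56)) = (LP (LK LD1_c3 LD2_c22 LD3_c2)) :=
  Lgr Lrot77 (Lpe (f25515 IH) (Lpr_df (K0.f25408 IH) (Lpe (f25516 IH) (Lpe (K29.f25517 IH) (Lpe (f25518 IH) (Lpn (LP (LK LD1_c3 LD2_c22 LD3_c2))))))))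
theorem f25543 : Led Lsl_et (LP (LK LD1_c6 LD2_c17 LD3_c56)) = (LP (LK LD1_c3 LD2_c6 LD3_c10)) :=
  Lre_e IH (LK LD1_c6 LD2_c17 LD3_c56) (LK LD1_c3 LD2_c6 LD3_c10) Lrfl Lrfl
theorem f146139 : Led Lsl_dt (LP (LK LD1_c3 LD2_c22 LD3_c22)) = (LP (LK LD1_c4 LD2_c48 LD3_c35)) :=
  Lgr Lrot42 (Lpr_df (f146137 IH) (Lpn (LP (LK LD1_c4 LD2_c48 LD3_c35))))
theorem f146146 : Led Lsl_ef (LP (LK LD1_c4 LD2_c50 LD3_c4)) = (LP (LK LD1_c3 LD2_c22 LD3_c22)) :=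
  Lgr Lrot167 (Lpr_gt (f23834 IH) (Lpr_dt (K29.f23809 IH) (Lpr_gt (K24.f20139 IH) (Lpe (f25542 IH) (Lpr_et (f25541 IH) (Lpe (K0.f25526 IH) (Lpe (f25543 IH) (Lpr_dt (f25519 IH) (Lpr_gt (f146142 IH) (Lpe (f146139 IH) (Lpn (LP (LK LD1_c3 LD2_c22 LD3_c22)))))))))))))
theorem f146149 : Led Lsl_et (LP (LK LD1_c4 LD2_c50 LD3_c4)) = (LP (LK LD1_c3 LD2_c22 LD3_c22)) :=
  Lgr Lrot87 (Lpr_ef (f146146 IH) (Lpn (LP (LK LD1_c3 LD2_c22 LD3_c22))))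
theorem f23241 : Led Lsl_gt (LP (LK LD1_c4 LD2_c41 LD3_c9)) = (LP (LK LD1_c2 LD2_c17 LD3_c37)) :=
  Lre_g IH (LK LD1_c4 LD2_c41 LD3_c9) (LK LD1_c2 LD2_c17 LD3_c37) Lrfl Lrfl
theorem f438689 : Led Lsl_dt (LP (LK LD1_c4 LD2_c50 LD3_c4)) = (LP (LK LD1_c4 LD2_c41 LD3_c9)) :=
  Lgr Lrot136 (Lpr_et (f146149 IH) (Lpr_gf (f146087 IH) (Lpe (K6.f84625 IH) (Lpr_dt (K6.f135392 IH) (Lpe (K24.f437546 IH) (Lpe (f416853 IH) (Lpe (f416856 IH) (Lpr_ef (f438681 IH) (Lpe (K24.f23234 IH) (Lpe (f23241 IH) (Lpn (LP (LK LD1_c4 LD2_c41 LD3_c9)))))))))))))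
theorem f501057 : Led Lsl_dt (LP (LK LD1_c2 LD2_c57 LD3_c36)) = (LP (LK LD1_c6 LD2_c3 LD3_c3)) :=
  Lre_d IH (LK LD1_c2 LD2_c57 LD3_c36) (LK LD1_c6 LD2_c3 LD3_c3) Lrfl Lrfl
theorem f501060 : Led Lsl_cf (LP (LK LD1_c4 LD2_c41 LD3_c9)) = (LP (LK LD1_c6 LD2_c3 LD3_c3)) :=
  Lgr Lrot14 (Lpe (f438689 IH) (Lpr_gf (f415925 IH) (Lpe (f135608 IH) (Lpe (f25586 IH) (Lpr_ct (f140713 IH) (Lpr_gt (K17.f180314 IH) (Lpr_dt (f415895 IH) (Lpr_gt (f501055 IH) (Lpr_dt (f501057 IH) (Lpn (LP (LK LD1_c6 LD2_c3 LD3_c3))))))))))))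
theorem f415652 : Led Lsl_ct (LP (LK LD1_c2 LD2_c17 LD3_c37)) = (LP (LK LD1_c4 LD2_c41 LD3_c6)) :=
  Lre_c IH (LK LD1_c2 LD2_c17 LD3_c37) (LK LD1_c4 LD2_c41 LD3_c6) Lrfl Lrfl
theorem f413651 : Led Lsl_et (LP (LK LD1_c4 LD2_c41 LD3_c6)) = (LP (LK LD1_c2 LD2_c17 LD3_c35)) :=
  Lre_e IH (LK LD1_c4 LD2_c41 LD3_c6) (LK LD1_c2 LD2_c17 LD3_c35) Lrfl Lrfl
theorem f40953 : Led Lsl_et (LP (LK LD1_c0 LD2_c32 LD3_c56)) = (LP (LK LD1_c0 LD2_c14 LD3_c47)) :=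
  Lre_e IH (LK LD1_c0 LD2_c32 LD3_c56) (LK LD1_c0 LD2_c14 LD3_c47) Lrfl Lrfl
theorem f67064 : Led Lsl_gt (LP (LK LD1_c2 LD2_c26 LD3_c47)) = (LP (LK LD1_c1 LD2_c10 LD3_c39)) :=
  Lre_g IH (LK LD1_c2 LD2_c26 LD3_c47) (LK LD1_c1 LD2_c10 LD3_c39) Lrfl Lrfl
theorem f416252 : Led Lsl_dt (LP (LK LD1_c4 LD2_c41 LD3_c6)) = (LP (LK LD1_c2 LD2_c26 LD3_c47)) :=
  Lgr Lrot136 (Lpr_et (f413651 IH) (Lpr_gf (K17.f413652 IH) (Lpe (K17.f59656 IH) (Lpr_dt (K4.f59645 IH) (Lpe (K2.f68328 IH) (Lpe (K2.f21213 IH) (Lpr_gf (K1.f58850 IH) (Lpe (f40953 IH) (Lpr_dt (K2.f40940 IH) (Lpe (f67064 IH) (Lpn (LP (LK LD1_c2 LD2_c26 LD3_c47)))))))))))))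
theorem f413561 : Led Lsl_ef (LP (LK LD1_c1 LD2_c36 LD3_c57)) = (LP (LK LD1_c1 LD2_c56 LD3_c37)) :=
  Lgr Lrot28 (Lpr_ct (K16.f413544 IH) (Lpr_et (K24.f40492 IH) (Lpe (K2.f40467 IH) (Lpn (LP (LK LD1_c1 LD2_c56 LD3_c37))))))
theorem f416265 : Led Lsl_gt (LP (LK LD1_c3 LD2_c59 LD3_c15)) = (LP (LK LD1_c2 LD2_c26 LD3_c47)) :=
  Lgr Lrot112 (Lpe (K2.f40491 IH) (Lpe (f413561 IH) (Lpe (K16.f413543 IH) (Lpe (K16.f413622 IH) (Lpr_dt (K16.f413623 IH) (Lpr_gf (K16.f413636 IH) (Lpe (K2.f61479 IH) (Lpe (K16.f413640 IH) (Lpe (f413651 IH) (Lpr_dt (f416252 IH) (Lpn (LP (LK LD1_c2 LD2_c26 LD3_c47)))))))))))))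
theorem f40941 : Led Lsl_at (LP (LK LD1_c0 LD2_c55 LD3_c3)) = (LP (LK LD1_c0 LD2_c32 LD3_c56)) :=
  Lgr Lrot51 (Lpe (K24.f40464 IH) (Lpr_af (K1.f40920 IH) (Lpe (K2.f40940 IH) (Lpn (LP (LK LD1_c0 LD2_c32 LD3_c56))))))
theorem f40955 : Led Lsl_gt (LP (LK LD1_c1 LD2_c11 LD3_c3)) = (LP (LK LD1_c0 LD2_c32 LD3_c56)) :=
  Lre_g IH (LK LD1_c1 LD2_c11 LD3_c3) (LK LD1_c0 LD2_c32 LD3_c56) Lrfl Lrfl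
theorem f40956 : Led Lsl_gt (LP (LK LD1_c1 LD2_c56 LD3_c37)) = (LP (LK LD1_c1 LD2_c11 LD3_c3)) :=
  Lgr Lrot5 (Lpr_ft (K2.f36275 IH) (Lpr_at (f40941 IH) (Lpe (f40955 IH) (Lpn (LP (LK LD1_c1 LD2_c11 LD3_c3))))))
theorem f79996 : Led Lsl_gt (LP (LK LD1_c2 LD2_c16 LD3_c12)) = (LP (LK LD1_c4 LD2_c37 LD3_c45)) :=
  Lre_g IH (LK LD1_c2 LD2_c16 LD3_c12) (LK LD1_c4 LD2_c37 LD3_c45) Lrfl Lrfl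
theorem f140162 : Led Lsl_bt (LP (LK LD1_c4 LD2_c38 LD3_c15)) = (LP (LK LD1_c2 LD2_c16 LD3_c12)) :=
  Lre_b IH (LK LD1_c4 LD2_c38 LD3_c15) (LK LD1_c2 LD2_c16 LD3_c12) Lrfl Lrfl
theorem f140163 : Led Lsl_ct (LP (LK LD1_c4 LD2_c38 LD3_c15)) = (LP (LK LD1_c9 LD2_c12 LD3_c14)) :=
  Lre_c IH (LK LD1_c4 LD2_c38 LD3_c15) (LK LD1_c9 LD2_c12 LD3_c14) Lrfl Lrfl
theorem f40305 : Led Lsl_ct (LP (LK LD1_c3 LD2_c59 LD3_c40)) = (LP (LK LD1_c8 LD2_c0 LD3_c21)) :=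
  Lre_c IH (LK LD1_c3 LD2_c59 LD3_c40) (LK LD1_c8 LD2_c0 LD3_c21) Lrfl Lrfl
theorem f140164 : Led Lsl_gf (LP (LK LD1_c9 LD2_c12 LD3_c14)) = (LP (LK LD1_c8 LD2_c0 LD3_c21)) :=
  Lgr Lrot126 (Lpe (f140163 IH) (Lpr_bt (f140162 IH) (Lpr_gt (f79996 IH) (Lpr_ct (K9.f140161 IH) (Lpr_gt (K9.f140160 IH) (Lpe (K9.f140149 IH) (Lpr_bt (K9.f140150 IH) (Lpr_gt (K9.f40306 IH) (Lpe (K1.f40274 IH) (Lpr_ct (f40305 IH) (Lpn (LP (LK LD1_c8 LD2_c0 LD3_c21)))))))))))))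
theorem f140851 : Led Lsl_at (LP (LK LD1_c15 LD2_c5 LD3_c1)) = (LP (LK LD1_c8 LD2_c0 LD3_c43)) :=
  Lre_a IH (LK LD1_c15 LD2_c5 LD3_c1) (LK LD1_c8 LD2_c0 LD3_c43) Lrfl Lrfl
theorem f140852 : Led Lsl_gt (LP (LK LD1_c9 LD2_c12 LD3_c14)) = (LP (LK LD1_c8 LD2_c0 LD3_c43)) :=
  Lgr Lrot46 (Lpr_gf (f140164 IH) (Lpr_ft (K17.f40693 IH) (Lpr_at (f140851 IH) (Lpn (LP (LK LD1_c8 LD2_c0 LD3_c43))))))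
theorem f140860 : Led Lsl_gt (LP (LK LD1_c1 LD2_c5 LD3_c2)) = (LP (LK LD1_c2 LD2_c16 LD3_c12)) :=
  Lre_g IH (LK LD1_c1 LD2_c5 LD3_c2) (LK LD1_c2 LD2_c16 LD3_c12) Lrfl Lrfl
theorem f140861 : Led Lsl_bt (LP (LK LD1_c0 LD2_c29 LD3_c46)) = (LP (LK LD1_c1 LD2_c5 LD3_c2)) :=
  Lre_b IH (LK LD1_c0 LD2_c29 LD3_c46) (LK LD1_c1 LD2_c5 LD3_c2) Lrfl Lrfl
theorem f25436 : Led Lsl_gt (LP (LK LD1_c0 LD2_c45 LD3_c0)) = (LP (LK LD1_c0 LD2_c19 LD3_c58)) :=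
  Lre_g IH (LK LD1_c0 LD2_c45 LD3_c0) (LK LD1_c0 LD2_c19 LD3_c58) Lrfl Lrfl
theorem f40498 : Led Lsl_bt (LP (LK LD1_c3 LD2_c59 LD3_c52)) = (LP (LK LD1_c1 LD2_c56 LD3_c37)) :=
  Lre_b IH (LK LD1_c3 LD2_c59 LD3_c52) (LK LD1_c1 LD2_c56 LD3_c37) Lrfl Lrfl
theorem f140862 : Led Lsl_cf (LP (LK LD1_c0 LD2_c45 LD3_c0)) = (LP (LK LD1_c1 LD2_c11 LD3_c3)) :=
  Lgr Lrot125 (Lpr_gt (f25436 IH) (Lpe (K24.f23244 IH) (Lpr_bt (f140861 IH) (Lpr_gt (f140860 IH) (Lpe (f140162 IH) (Lpr_ct (f140163 IH) (Lpr_gt (f140852 IH) (Lpe (K17.f40487 IH) (Lpr_bt (f40498 IH) (Lpr_gt (f40956 IH) (Lpn (LP (LK LD1_c1 LD2_c11 LD3_c3)))))))))))))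
theorem f23248 : Led Lsl_ct (LP (LK LD1_c0 LD2_c19 LD3_c58)) = (LP (LK LD1_c0 LD2_c29 LD3_c46)) :=
  Lre_c IH (LK LD1_c0 LD2_c19 LD3_c58) (LK LD1_c0 LD2_c29 LD3_c46) Lrfl Lrfl
theorem f140869 : Led Lsl_ct (LP (LK LD1_c2 LD2_c13 LD3_c44)) = (LP (LK LD1_c1 LD2_c3 LD3_c53)) :=
  Lre_c IH (LK LD1_c2 LD2_c13 LD3_c44) (LK LD1_c1 LD2_c3 LD3_c53) Lrfl Lrfl
theorem f140870 : Led Lsl_gt (LP (LK LD1_c4 LD2_c33 LD3_c41)) = (LP (LK LD1_c2 LD2_c13 LD3_c44)) :=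
  Lre_g IH (LK LD1_c4 LD2_c33 LD3_c41) (LK LD1_c2 LD2_c13 LD3_c44) Lrfl Lrfl
theorem f416267 : Led Lsl_cf (LP (LK LD1_c4 LD2_c33 LD3_c41)) = (LP (LK LD1_c2 LD2_c26 LD3_c47)) :=
  Lgr Lrot169 (Lpr_gt (f140870 IH) (Lpr_ct (f140869 IH) (Lpe (K24.f23122 IH) (Lpe (f23248 IH) (Lpe (f25436 IH) (Lpr_cf (f140862 IH) (Lpe (f40956 IH) (Lpe (K9.f40493 IH) (Lpr_gt (f416265 IH) (Lpn (LP (LK LD1_c2 LD2_c26 LD3_c47))))))))))))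
theorem f416276 : Led Lsl_ct (LP (LK LD1_c4 LD2_c33 LD3_c41)) = (LP (LK LD1_c2 LD2_c26 LD3_c47)) :=
  Lgr Lrot59 (Lpr_cf (f416267 IH) (Lpn (LP (LK LD1_c2 LD2_c26 LD3_c47))))
theorem f416281 : Led Lsl_gt (LP (LK LD1_c2 LD2_c48 LD3_c41)) = (LP (LK LD1_c4 LD2_c33 LD3_c41)) :=
  Lre_g IH (LK LD1_c2 LD2_c48 LD3_c41) (LK LD1_c4 LD2_c33 LD3_c41) Lrfl Lrfl
theorem f140280 : Led Lsl_ct (LP (LK LD1_c1 LD2_c20 LD3_c31)) = (LP (LK LD1_c2 LD2_c48 LD3_c41)) :=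
  Lre_c IH (LK LD1_c1 LD2_c20 LD3_c31) (LK LD1_c2 LD2_c48 LD3_c41) Lrfl Lrfl
theorem f140279 : Led Lsl_gt (LP (LK LD1_c2 LD2_c13 LD3_c45)) = (LP (LK LD1_c1 LD2_c20 LD3_c31)) :=
  Lre_g IH (LK LD1_c2 LD2_c13 LD3_c45) (LK LD1_c1 LD2_c20 LD3_c31) Lrfl Lrfl
theorem f501078 : Led Lsl_gt (LP (LK LD1_c4 LD2_c33 LD3_c46)) = (LP (LK LD1_c6 LD2_c3 LD3_c3)) :=
  Lgr Lrot9 (Lpe (K24.f140281 IH) (Lpr_gt (f140279 IH) (Lpr_ct (f140280 IH) (Lpr_gt (f416281 IH) (Lpr_ct (f416276 IH) (Lpe (f416252 IH) (Lpe (f415652 IH) (Lpe (f23241 IH) (Lpr_cf (f501060 IH) (Lpn (LP (LK LD1_c6 LD2_c3 LD3_c3))))))))))))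
theorem f505105 : Led Lsl_gf (LP (LK LD1_c4 LD2_c43 LD3_c53)) = (LP (LK LD1_c3 LD2_c13 LD3_c15)) :=
  Lgr Lrot144 (Lpr_dt (f505099 IH) (Lpr_gt (f140241 IH) (Lpr_dt (f140240 IH) (Lpe (K9.f140230 IH) (Lpe (f140711 IH) (Lpe (f501027 IH) (Lpe (f501075 IH) (Lpe (f501078 IH) (Lpr_cf (K24.f454831 IH) (Lpn (LP (LK LD1_c3 LD2_c13 LD3_c15))))))))))))
theorem f445606 : Led Lsl_ft (LP (LK LD1_c2 LD2_c52 LD3_c40)) = (LP (LK LD1_c5 LD2_c52 LD3_c51)) :=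
  Lre_f IH (LK LD1_c2 LD2_c52 LD3_c40) (LK LD1_c5 LD2_c52 LD3_c51) Lrfl Lrfl
theorem f82603 : Led Lsl_ft (LP (LK LD1_c4 LD2_c43 LD3_c53)) = (LP (LK LD1_c2 LD2_c19 LD3_c45)) :=
  Lre_f IH (LK LD1_c4 LD2_c43 LD3_c53) (LK LD1_c2 LD2_c19 LD3_c45) Lrfl Lrfl
theorem f445607 : Led Lsl_ct (LP (LK LD1_c5 LD2_c52 LD3_c51)) = (LP (LK LD1_c4 LD2_c43 LD3_c53)) :=
  Lgr Lrot40 (Lpe (f445606 IH) (Lpr_cf (K24.f445598 IH) (Lpe (f82603 IH) (Lpn (LP (LK LD1_c4 LD2_c43 LD3_c53))))))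
theorem f445612 : Led Lsl_cf (LP (LK LD1_c5 LD2_c52 LD3_c51)) = (LP (LK LD1_c4 LD2_c43 LD3_c53)) :=
  Lgr Lrot11 (Lpr_ct (f445607 IH) (Lpn (LP (LK LD1_c4 LD2_c43 LD3_c53))))
theorem f77365 : Led Lsl_ct (LP (LK LD1_c3 LD2_c8 LD3_c23)) = (LP (LK LD1_c6 LD2_c21 LD3_c21)) :=
  Lre_c IH (LK LD1_c3 LD2_c8 LD3_c23) (LK LD1_c6 LD2_c21 LD3_c21) Lrfl Lrfl
theorem f35538 : Led Lsl_gt (LP (LK LD1_c1 LD2_c56 LD3_c36)) = (LP (LK LD1_c0 LD2_c55 LD3_c3)) :=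
  Lre_g IH (LK LD1_c1 LD2_c56 LD3_c36) (LK LD1_c0 LD2_c55 LD3_c3) Lrfl Lrfl
theorem f77376 : Led Lsl_ft (LP (LK LD1_c1 LD2_c11 LD3_c4)) = (LP (LK LD1_c0 LD2_c32 LD3_c56)) :=
  Lre_f IH (LK LD1_c1 LD2_c11 LD3_c4) (LK LD1_c0 LD2_c32 LD3_c56) Lrfl Lrfl
theorem f444578 : Led Lsl_gf (LP (LK LD1_c1 LD2_c56 LD3_c36)) = (LP (LK LD1_c1 LD2_c11 LD3_c4)) :=
  Lgr Lrot47 (Lpr_gt (f35538 IH) (Lpr_af (K24.f40287 IH) (Lpe (f77376 IH) (Lpn (LP (LK LD1_c1 LD2_c11 LD3_c4))))))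
theorem f77382 : Led Lsl_bt (LP (LK LD1_c2 LD2_c27 LD3_c46)) = (LP (LK LD1_c1 LD2_c11 LD3_c4)) :=
  Lre_b IH (LK LD1_c2 LD2_c27 LD3_c46) (LK LD1_c1 LD2_c11 LD3_c4) Lrfl Lrfl
theorem f77373 : Led Lsl_ct (LP (LK LD1_c2 LD2_c27 LD3_c46)) = (LP (LK LD1_c4 LD2_c59 LD3_c52)) :=
  Lre_c IH (LK LD1_c2 LD2_c27 LD3_c46) (LK LD1_c4 LD2_c59 LD3_c52) Lrfl Lrfl
theorem f140171 : Led Lsl_ft (LP (LK LD1_c4 LD2_c59 LD3_c17)) = (LP (LK LD1_c9 LD2_c48 LD3_c60)) :=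
  Lre_f IH (LK LD1_c4 LD2_c59 LD3_c17) (LK LD1_c9 LD2_c48 LD3_c60) Lrfl Lrfl
theorem f140172 : Led Lsl_at (LP (LK LD1_c9 LD2_c48 LD3_c60)) = (LP (LK LD1_c4 LD2_c59 LD3_c52)) :=
  Lre_a IH (LK LD1_c9 LD2_c48 LD3_c60) (LK LD1_c4 LD2_c59 LD3_c52) Lrfl Lrfl
theorem f140173 : Led Lsl_gt (LP (LK LD1_c6 LD2_c1 LD3_c2)) = (LP (LK LD1_c4 LD2_c59 LD3_c52)) :=
  Lgr Lrot46 (Lpr_gf (K9.f140169 IH) (Lpr_ft (f140171 IH) (Lpr_at (f140172 IH) (Lpn (LP (LK LD1_c4 LD2_c59 LD3_c52))))))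
theorem f140847 : Led Lsl_gt (LP (LK LD1_c0 LD2_c38 LD3_c51)) = (LP (LK LD1_c1 LD2_c24 LD3_c9)) :=
  Lre_g IH (LK LD1_c0 LD2_c38 LD3_c51) (LK LD1_c1 LD2_c24 LD3_c9) Lrfl Lrfl
theorem f140848 : Led Lsl_bt (LP (LK LD1_c0 LD2_c17 LD3_c18)) = (LP (LK LD1_c0 LD2_c38 LD3_c51)) :=
  Lre_b IH (LK LD1_c0 LD2_c17 LD3_c18) (LK LD1_c0 LD2_c38 LD3_c51) Lrfl Lrfl
theorem f444581 : Led Lsl_ct (LP (LK LD1_c1 LD2_c56 LD3_c36)) = (LP (LK LD1_c1 LD2_c8 LD3_c33)) :=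
  Lgr Lrot91 (Lpr_gf (f444578 IH) (Lpe (f77382 IH) (Lpr_ct (f77373 IH) (Lpe (f140173 IH) (Lpe (K9.f140168 IH) (Lpr_bt (K9.f140167 IH) (Lpe (f140847 IH) (Lpe (f140848 IH) (Lpr_ct (K31.f140849 IH) (Lpe (f135597 IH) (Lpn (LP (LK LD1_c1 LD2_c8 LD3_c33)))))))))))))
theorem f444589 : Led Lsl_cf (LP (LK LD1_c1 LD2_c56 LD3_c36)) = (LP (LK LD1_c1 LD2_c8 LD3_c33)) :=
  Lgr Lrot11 (Lpr_ct (f444581 IH) (Lpn (LP (LK LD1_c1 LD2_c8 LD3_c33))))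
theorem f83285 : Led Lsl_ct (LP (LK LD1_c3 LD2_c9 LD3_c18)) = (LP (LK LD1_c1 LD2_c30 LD3_c49)) :=
  Lre_c IH (LK LD1_c3 LD2_c9 LD3_c18) (LK LD1_c1 LD2_c30 LD3_c49) Lrfl Lrfl
theorem f415315 : Led Lsl_ct (LP (LK LD1_c2 LD2_c22 LD3_c55)) = (LP (LK LD1_c4 LD2_c50 LD3_c14)) :=
  Lre_c IH (LK LD1_c2 LD2_c22 LD3_c55) (LK LD1_c4 LD2_c50 LD3_c14) Lrfl Lrfl
theorem f444662 : Led Lsl_gf (LP (LK LD1_c3 LD2_c9 LD3_c18)) = (LP (LK LD1_c4 LD2_c50 LD3_c14)) :=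
  Lgr Lrot104 (Lpr_ct (f83285 IH) (Lpe (K24.f83267 IH) (Lpe (K2.f40436 IH) (Lpe (f35538 IH) (Lpr_cf (f444589 IH) (Lpe (f25586 IH) (Lpe (f25542 IH) (Lpr_gt (K16.f23821 IH) (Lpr_ct (f415315 IH) (Lpn (LP (LK LD1_c4 LD2_c50 LD3_c14))))))))))))
theorem f83310 : Led Lsl_at (LP (LK LD1_c3 LD2_c8 LD3_c22)) = (LP (LK LD1_c3 LD2_c9 LD3_c18)) :=
  Lgr Lrot100 (Lpr_af (K2.f83307 IH) (Lpn (LP (LK LD1_c3 LD2_c9 LD3_c18))))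
theorem f444666 : Led Lsl_gt (LP (LK LD1_c6 LD2_c21 LD3_c21)) = (LP (LK LD1_c4 LD2_c50 LD3_c14)) :=
  Lgr Lrot5 (Lpr_ft (K2.f77721 IH) (Lpr_at (f83310 IH) (Lpr_gf (f444662 IH) (Lpn (LP (LK LD1_c4 LD2_c50 LD3_c14))))))
theorem f415324 : Led Lsl_ct (LP (LK LD1_c4 LD2_c50 LD3_c14)) = (LP (LK LD1_c2 LD2_c22 LD3_c55)) :=
  Lre_c IH (LK LD1_c4 LD2_c50 LD3_c14) (LK LD1_c2 LD2_c22 LD3_c55) Lrfl Lrfl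
theorem f413502 : Led Lsl_ct (LP (LK LD1_c3 LD2_c2 LD3_c50)) = (LP (LK LD1_c1 LD2_c27 LD3_c22)) :=
  Lre_c IH (LK LD1_c3 LD2_c2 LD3_c50) (LK LD1_c1 LD2_c27 LD3_c22) Lrfl Lrfl
theorem f505109 : Led Lsl_gt (LP (LK LD1_c5 LD2_c52 LD3_c51)) = (LP (LK LD1_c3 LD2_c2 LD3_c50)) :=
  Lgr Lrot150 (Lpr_cf (f445612 IH) (Lpr_gf (f505105 IH) (Lpr_df (K24.f454659 IH) (Lpe (K24.f83921 IH) (Lpr_ct (f77365 IH) (Lpr_gt (f444666 IH) (Lpr_ct (f415324 IH) (Lpr_df (K16.f415309 IH) (Lpe (f413502 IH) (Lpn (LP (LK LD1_c3 LD2_c2 LD3_c50))))))))))))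
theorem f146425 : Led Lsl_gt (LP (LK LD1_c1 LD2_c21 LD3_c16)) = (LP (LK LD1_c2 LD2_c50 LD3_c32)) :=
  Lre_g IH (LK LD1_c1 LD2_c21 LD3_c16) (LK LD1_c2 LD2_c50 LD3_c32) Lrfl Lrfl
theorem f146428 : Led Lsl_dt (LP (LK LD1_c5 LD2_c48 LD3_c61)) = (LP (LK LD1_c2 LD2_c50 LD3_c32)) :=
  Lre_d IH (LK LD1_c5 LD2_c48 LD3_c61) (LK LD1_c2 LD2_c50 LD3_c32) Lrfl Lrfl
theorem f505122 : Led Lsl_ef (LP (LK LD1_c5 LD2_c52 LD3_c51)) = (LP (LK LD1_c5 LD2_c48 LD3_c61)) :=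
  Lgr Lrot167 (Lpr_gt (f505109 IH) (Lpr_dt (K16.f413487 IH) (Lpr_gt (K16.f40472 IH) (Lpe (K16.f36236 IH) (Lpr_et (K16.f36235 IH) (Lpr_gt (K2.f56667 IH) (Lpe (K1.f56681 IH) (Lpr_dt (K24.f56682 IH) (Lpr_gt (f146425 IH) (Lpe (f146428 IH) (Lpn (LP (LK LD1_c5 LD2_c48 LD3_c61)))))))))))))
theorem f445617 : Led Lsl_ft (LP (LK LD1_c5 LD2_c52 LD3_c51)) = (LP (LK LD1_c2 LD2_c52 LD3_c40)) :=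
  Lre_f IH (LK LD1_c5 LD2_c52 LD3_c51) (LK LD1_c2 LD2_c52 LD3_c40) Lrfl Lrfl
def v1602 : LQ := Led Lsl_at (LP (LK LD1_c1 LD2_c22 LD3_c21))
theorem f500313 : Led Lsl_at (LP (LK LD1_c1 LD2_c22 LD3_c21)) = v1602 :=
  Lrfl
theorem f500316 : Led Lsl_cf v1320 = v1602 :=
  Lgr Lrot1 (Lpe (f494823 IH) (Lpr_ct (K24.f438440 IH) (Lpr_at (f500313 IH) (Lpn v1602))))
theorem f445619 : Led Lsl_cf (LP (LK LD1_c1 LD2_c22 LD3_c22)) = (LP (LK LD1_c1 LD2_c7 LD3_c1)) :=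
  Lgr Lrot11 (Lpr_ct (K24.f445604 IH) (Lpn (LP (LK LD1_c1 LD2_c7 LD3_c1))))
theorem f500318 : Led Lsl_ft (LP (LK LD1_c1 LD2_c22 LD3_c22)) = v1602 :=
  Lgr Lrot4 (Lpr_cf (f445619 IH) (Lpr_ff (f494825 IH) (Lpr_cf (f500316 IH) (Lpn v1602))))
theorem f500317 : Led Lsl_ct v1320 = v1602 :=
  Lgr Lrot59 (Lpr_cf (f500316 IH) (Lpn v1602))
theorem f82684 : Led Lsl_ct (LP (LK LD1_c0 LD2_c43 LD3_c0)) = (LP (LK LD1_c1 LD2_c32 LD3_c58)) :=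
  Lre_c IH (LK LD1_c0 LD2_c43 LD3_c0) (LK LD1_c1 LD2_c32 LD3_c58) Lrfl Lrfl
theorem f504837 : v1602 = (LP (LK LD1_c1 LD2_c32 LD3_c58)) :=
  Lefun (Lecon (f500317 IH) (f504833 IH)) (f82684 IH)
theorem f446023 : Led Lsl_et (LP (LK LD1_c1 LD2_c32 LD3_c58)) = (LP (LK LD1_c3 LD2_c13 LD3_c0)) :=
  Lre_e IH (LK LD1_c1 LD2_c32 LD3_c58) (LK LD1_c3 LD2_c13 LD3_c0) Lrfl Lrfl
theorem f505130 : Led Lsl_ft (LP (LK LD1_c3 LD2_c13 LD3_c0)) = (LP (LK LD1_c5 LD2_c48 LD3_c61)) :=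
  Lgr Lrot86 (Lpe (f446023 IH) (Lpq (f504837 IH) (Lpe (f500318 IH) (Lpe (K24.f151909 IH) (Lpe (f445617 IH) (Lpr_ef (f505122 IH) (Lpn (LP (LK LD1_c5 LD2_c48 LD3_c61)))))))))
theorem f57504 : Led Lsl_dt (LP (LK LD1_c2 LD2_c50 LD3_c30)) = (LP (LK LD1_c1 LD2_c21 LD3_c15)) :=
  Lre_d IH (LK LD1_c2 LD2_c50 LD3_c30) (LK LD1_c1 LD2_c21 LD3_c15) Lrfl Lrfl
theorem f415034 : Led Lsl_et (LP (LK LD1_c1 LD2_c21 LD3_c15)) = (LP (LK LD1_c2 LD2_c50 LD3_c31)) :=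
  Lre_e IH (LK LD1_c1 LD2_c21 LD3_c15) (LK LD1_c2 LD2_c50 LD3_c31) Lrfl Lrfl
theorem f57505 : Led Lsl_dt (LP (LK LD1_c1 LD2_c21 LD3_c15)) = (LP (LK LD1_c2 LD2_c50 LD3_c30)) :=
  Lre_d IH (LK LD1_c1 LD2_c21 LD3_c15) (LK LD1_c2 LD2_c50 LD3_c30) Lrfl Lrfl
theorem f73612 : Led Lsl_at (LP (LK LD1_c1 LD2_c22 LD3_c2)) = (LP (LK LD1_c1 LD2_c20 LD3_c60)) :=
  Lgr Lrot100 (Lpr_af (K2.f73605 IH) (Lpn (LP (LK LD1_c1 LD2_c20 LD3_c60))))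
theorem f79677 : Led Lsl_ft (LP (LK LD1_c2 LD2_c52 LD3_c4)) = (LP (LK LD1_c1 LD2_c22 LD3_c2)) :=
  Lre_f IH (LK LD1_c2 LD2_c52 LD3_c4) (LK LD1_c1 LD2_c22 LD3_c2) Lrfl Lrfl
theorem f79869 : Led Lsl_gt (LP (LK LD1_c2 LD2_c52 LD3_c4)) = (LP (LK LD1_c2 LD2_c49 LD3_c47)) :=
  Lgr Lrot5 (Lpr_ft (f79677 IH) (Lpr_at (f73612 IH) (Lpe (f57643 IH) (Lpn (LP (LK LD1_c2 LD2_c49 LD3_c47))))))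
theorem f57650 : Led Lsl_et (LP (LK LD1_c5 LD2_c47 LD3_c41)) = (LP (LK LD1_c2 LD2_c49 LD3_c47)) :=
  Lre_e IH (LK LD1_c5 LD2_c47 LD3_c41) (LK LD1_c2 LD2_c49 LD3_c47) Lrfl Lrfl
theorem f57653 : Led Lsl_dt (LP (LK LD1_c5 LD2_c47 LD3_c41)) = (LP (LK LD1_c5 LD2_c48 LD3_c51)) :=
  Lre_d IH (LK LD1_c5 LD2_c47 LD3_c41) (LK LD1_c5 LD2_c48 LD3_c51) Lrfl Lrfl
theorem f416638 : Led Lsl_gf (LP (LK LD1_c2 LD2_c50 LD3_c30)) = (LP (LK LD1_c5 LD2_c48 LD3_c51)) :=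
  Lgr Lrot145 (Lpe (f57505 IH) (Lpr_et (f415034 IH) (Lpr_gt (K24.f416629 IH) (Lpr_dt (K24.f414316 IH) (Lpe (K24.f414318 IH) (Lpe (K2.f61479 IH) (Lpe (K16.f73790 IH) (Lpr_gt (f79869 IH) (Lpe (f57650 IH) (Lpr_dt (f57653 IH) (Lpn (LP (LK LD1_c5 LD2_c48 LD3_c51)))))))))))))
theorem f79743 : Led Lsl_ct (LP (LK LD1_c3 LD2_c13 LD3_c0)) = (LP (LK LD1_c1 LD2_c32 LD3_c60)) :=
  Lre_c IH (LK LD1_c3 LD2_c13 LD3_c0) (LK LD1_c1 LD2_c32 LD3_c60) Lrfl Lrfl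
theorem f445960 : Led Lsl_gf (LP (LK LD1_c5 LD2_c47 LD3_c41)) = (LP (LK LD1_c3 LD2_c13 LD3_c0)) :=
  Lgr Lrot144 (Lpr_dt (f57653 IH) (Lpe (f416638 IH) (Lpr_dt (f57504 IH) (Lpe (f438331 IH) (Lpe (K24.f152206 IH) (Lpr_gf (K24.f435268 IH) (Lpr_df (K11.f59484 IH) (Lpr_gf (K24.f445956 IH) (Lpe (f79743 IH) (Lpn (LP (LK LD1_c3 LD2_c13 LD3_c0))))))))))))
theorem f26281 : Led Lsl_et (LP (LK LD1_c1 LD2_c7 LD3_c0)) = (LP (LK LD1_c2 LD2_c19 LD3_c43)) :=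
  Lre_e IH (LK LD1_c1 LD2_c7 LD3_c0) (LK LD1_c2 LD2_c19 LD3_c43) Lrfl Lrfl
theorem f13579 : Led Lsl_et (LP (LK LD1_c3 LD2_c13 LD3_c4)) = (LP (LK LD1_c1 LD2_c32 LD3_c59)) :=
  Lre_e IH (LK LD1_c3 LD2_c13 LD3_c4) (LK LD1_c1 LD2_c32 LD3_c59) Lrfl Lrfl
theorem f79749 : Led Lsl_et (LP (LK LD1_c1 LD2_c32 LD3_c7)) = (LP (LK LD1_c3 LD2_c11 LD3_c31)) :=
  Lre_e IH (LK LD1_c1 LD2_c32 LD3_c7) (LK LD1_c3 LD2_c11 LD3_c31) Lrfl Lrfl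
theorem f79750 : Led Lsl_df (LP (LK LD1_c3 LD2_c13 LD3_c4)) = (LP (LK LD1_c3 LD2_c11 LD3_c31)) :=
  Lgr Lrot70 (Lpr_et (f13579 IH) (Lpr_dt (K11.f79748 IH) (Lpr_et (K11.f13571 IH) (Lpr_dt (K11.f79728 IH) (Lpr_et (f79749 IH) (Lpn (LP (LK LD1_c3 LD2_c11 LD3_c31))))))))
theorem f79764 : Led Lsl_dt (LP (LK LD1_c3 LD2_c13 LD3_c4)) = (LP (LK LD1_c3 LD2_c11 LD3_c31)) :=
  Lgr Lrot42 (Lpr_df (f79750 IH) (Lpn (LP (LK LD1_c3 LD2_c11 LD3_c31))))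
theorem f67197 : Led Lsl_ct (LP (LK LD1_c3 LD2_c8 LD3_c49)) = (LP (LK LD1_c1 LD2_c30 LD3_c33)) :=
  Lre_c IH (LK LD1_c3 LD2_c8 LD3_c49) (LK LD1_c1 LD2_c30 LD3_c33) Lrfl Lrfl
theorem f153567 : Led Lsl_ft (LP (LK LD1_c0 LD2_c41 LD3_c48)) = (LP (LK LD1_c1 LD2_c30 LD3_c36)) :=
  Lre_f IH (LK LD1_c0 LD2_c41 LD3_c48) (LK LD1_c1 LD2_c30 LD3_c36) Lrfl Lrfl
theorem f153568 : Led Lsl_gt (LP (LK LD1_c1 LD2_c30 LD3_c33)) = (LP (LK LD1_c2 LD2_c18 LD3_c27)) :=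
  Lgr Lrot46 (Lpe (K9.f61837 IH) (Lpr_ft (f153567 IH) (Lpr_at (K7.f153521 IH) (Lpn (LP (LK LD1_c2 LD2_c18 LD3_c27))))))
theorem f435544 : Led Lsl_ct (LP (LK LD1_c1 LD2_c30 LD3_c31)) = (LP (LK LD1_c3 LD2_c8 LD3_c45)) :=
  Lre_c IH (LK LD1_c1 LD2_c30 LD3_c31) (LK LD1_c3 LD2_c8 LD3_c45) Lrfl Lrfl
theorem f435545 : Led Lsl_dt (LP (LK LD1_c6 LD2_c22 LD3_c8)) = (LP (LK LD1_c3 LD2_c8 LD3_c45)) :=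
  Lre_d IH (LK LD1_c6 LD2_c22 LD3_c8) (LK LD1_c3 LD2_c8 LD3_c45) Lrfl Lrfl
theorem f438512 : Led Lsl_gf (LP (LK LD1_c6 LD2_c22 LD3_c8)) = (LP (LK LD1_c6 LD2_c43 LD3_c8)) :=
  Lgr Lrot143 (Lpr_dt (f435545 IH) (Lpe (f435544 IH) (Lpe (f146039 IH) (Lpr_gf (f435542 IH) (Lpe (K7.f61106 IH) (Lpe (f153568 IH) (Lpe (f67197 IH) (Lpr_gt (f438506 IH) (Lpr_dt (K6.f135676 IH) (Lpn (LP (LK LD1_c6 LD2_c43 LD3_c8))))))))))))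
theorem f139845 : Led Lsl_ft (LP (LK LD1_c6 LD2_c43 LD3_c8)) = (LP (LK LD1_c3 LD2_c19 LD3_c39)) :=
  Lre_f IH (LK LD1_c6 LD2_c43 LD3_c8) (LK LD1_c3 LD2_c19 LD3_c39) Lrfl Lrfl
theorem f135656 : Led Lsl_af (LP (LK LD1_c4 LD2_c48 LD3_c10)) = (LP (LK LD1_c3 LD2_c19 LD3_c39)) :=
  Lgr Lrot0 (Lpr_at (K6.f135651 IH) (Lpn (LP (LK LD1_c3 LD2_c19 LD3_c39))))
theorem f438516 : Led Lsl_gt (LP (LK LD1_c6 LD2_c22 LD3_c8)) = (LP (LK LD1_c4 LD2_c48 LD3_c10)) :=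
  Lgr Lrot46 (Lpr_gf (f438512 IH) (Lpr_ft (f139845 IH) (Lpe (f135656 IH) (Lpn (LP (LK LD1_c4 LD2_c48 LD3_c10))))))
theorem f438514 : Led Lsl_dt (LP (LK LD1_c3 LD2_c8 LD3_c45)) = (LP (LK LD1_c6 LD2_c22 LD3_c8)) :=
  Lre_d IH (LK LD1_c3 LD2_c8 LD3_c45) (LK LD1_c6 LD2_c22 LD3_c8) Lrfl Lrfl
theorem f438515 : Led Lsl_et (LP (LK LD1_c3 LD2_c8 LD3_c45)) = (LP (LK LD1_c6 LD2_c22 LD3_c9)) :=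
  Lre_e IH (LK LD1_c3 LD2_c8 LD3_c45) (LK LD1_c6 LD2_c22 LD3_c9) Lrfl Lrfl
theorem f135455 : Led Lsl_et (LP (LK LD1_c2 LD2_c22 LD3_c57)) = (LP (LK LD1_c4 LD2_c50 LD3_c20)) :=
  Lre_e IH (LK LD1_c2 LD2_c22 LD3_c57) (LK LD1_c4 LD2_c50 LD3_c20) Lrfl Lrfl
theorem f438523 : Led Lsl_gf (LP (LK LD1_c6 LD2_c22 LD3_c9)) = (LP (LK LD1_c4 LD2_c50 LD3_c20)) :=
  Lgr Lrot141 (Lpe (f438515 IH) (Lpr_dt (f438514 IH) (Lpr_gt (f438516 IH) (Lpe (f92138 IH) (Lpe (f113220 IH) (Lpe (K6.f135482 IH) (Lpr_dt (K6.f83213 IH) (Lpr_gt (K6.f135470 IH) (Lpr_df (K6.f135444 IH) (Lpr_et (f135455 IH) (Lpn (LP (LK LD1_c4 LD2_c50 LD3_c20)))))))))))))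
theorem f121415 : Led Lsl_ct (LP (LK LD1_c2 LD2_c22 LD3_c58)) = (LP (LK LD1_c4 LD2_c50 LD3_c20)) :=
  Lre_c IH (LK LD1_c2 LD2_c22 LD3_c58) (LK LD1_c4 LD2_c50 LD3_c20) Lrfl Lrfl
theorem f135405 : Led Lsl_ct (LP (LK LD1_c9 LD2_c29 LD3_c53)) = (LP (LK LD1_c4 LD2_c48 LD3_c41)) :=
  Lre_c IH (LK LD1_c9 LD2_c29 LD3_c53) (LK LD1_c4 LD2_c48 LD3_c41) Lrfl Lrfl
theorem f146083 : Led Lsl_ft (LP (LK LD1_c4 LD2_c50 LD3_c20)) = (LP (LK LD1_c9 LD2_c29 LD3_c53)) :=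
  Lgr Lrot4 (Lpe (f121415 IH) (Lpr_ff (K6.f146077 IH) (Lpe (f135405 IH) (Lpn (LP (LK LD1_c9 LD2_c29 LD3_c53))))))
theorem f438525 : Led Lsl_gt (LP (LK LD1_c6 LD2_c22 LD3_c9)) = (LP (LK LD1_c6 LD2_c44 LD3_c12)) :=
  Lgr Lrot46 (Lpr_gf (f438523 IH) (Lpr_ft (f146083 IH) (Lpe (K6.f135386 IH) (Lpn (LP (LK LD1_c6 LD2_c44 LD3_c12))))))
theorem f67191 : Led Lsl_et (LP (LK LD1_c1 LD2_c30 LD3_c33)) = (LP (LK LD1_c1 LD2_c32 LD3_c4)) :=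
  Lgr Lrot87 (Lpr_ef (K9.f67174 IH) (Lpn (LP (LK LD1_c1 LD2_c32 LD3_c4))))
theorem f67198 : Led Lsl_ct (LP (LK LD1_c1 LD2_c32 LD3_c4)) = (LP (LK LD1_c3 LD2_c11 LD3_c23)) :=
  Lre_c IH (LK LD1_c1 LD2_c32 LD3_c4) (LK LD1_c3 LD2_c11 LD3_c23) Lrfl Lrfl
theorem f67199 : Led Lsl_ef (LP (LK LD1_c3 LD2_c8 LD3_c49)) = (LP (LK LD1_c3 LD2_c11 LD3_c23)) :=
  Lgr Lrot28 (Lpr_ct (f67197 IH) (Lpr_et (f67191 IH) (Lpr_ct (f67198 IH) (Lpn (LP (LK LD1_c3 LD2_c11 LD3_c23))))))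
theorem f67212 : Led Lsl_dt (LP (LK LD1_c3 LD2_c11 LD3_c23)) = (LP (LK LD1_c6 LD2_c27 LD3_c1)) :=
  Lre_d IH (LK LD1_c3 LD2_c11 LD3_c23) (LK LD1_c6 LD2_c27 LD3_c1) Lrfl Lrfl
theorem f57179 : Led Lsl_dt (LP (LK LD1_c3 LD2_c20 LD3_c13)) = (LP (LK LD1_c6 LD2_c44 LD3_c11)) :=
  Lre_d IH (LK LD1_c3 LD2_c20 LD3_c13) (LK LD1_c6 LD2_c44 LD3_c11) Lrfl Lrfl
theorem f438533 : Led Lsl_gf (LP (LK LD1_c6 LD2_c27 LD3_c1)) = (LP (LK LD1_c6 LD2_c44 LD3_c11)) :=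
  Lgr Lrot145 (Lpe (f67212 IH) (Lpe (f67199 IH) (Lpr_gt (f438506 IH) (Lpr_dt (K6.f135676 IH) (Lpe (f438512 IH) (Lpe (f438514 IH) (Lpr_et (f438515 IH) (Lpr_gt (f438525 IH) (Lpe (K5.f62492 IH) (Lpr_dt (f57179 IH) (Lpn (LP (LK LD1_c6 LD2_c44 LD3_c11)))))))))))))
theorem f67211 : Led Lsl_dt (LP (LK LD1_c6 LD2_c27 LD3_c1)) = (LP (LK LD1_c3 LD2_c11 LD3_c23)) :=
  Lre_d IH (LK LD1_c6 LD2_c27 LD3_c1) (LK LD1_c3 LD2_c11 LD3_c23) Lrfl Lrfl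
theorem f67183 : Led Lsl_ct (LP (LK LD1_c3 LD2_c11 LD3_c23)) = (LP (LK LD1_c1 LD2_c32 LD3_c4)) :=
  Lre_c IH (LK LD1_c3 LD2_c11 LD3_c23) (LK LD1_c1 LD2_c32 LD3_c4) Lrfl Lrfl
theorem f153632 : Led Lsl_af (LP (LK LD1_c0 LD2_c18 LD3_c59)) = (LP (LK LD1_c0 LD2_c30 LD3_c35)) :=
  Lgr Lrot50 (Lpr_et (K7.f67066 IH) (Lpr_at (K7.f153625 IH) (Lpr_et (K7.f26309 IH) (Lpn (LP (LK LD1_c0 LD2_c30 LD3_c35))))))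
theorem f150518 : Led Lsl_ft (LP (LK LD1_c1 LD2_c6 LD3_c54)) = (LP (LK LD1_c0 LD2_c30 LD3_c35)) :=
  Lre_f IH (LK LD1_c1 LD2_c6 LD3_c54) (LK LD1_c0 LD2_c30 LD3_c35) Lrfl Lrfl
theorem f435519 : Led Lsl_gf (LP (LK LD1_c0 LD2_c42 LD3_c36)) = (LP (LK LD1_c1 LD2_c6 LD3_c54)) :=
  Lgr Lrot47 (Lpr_gt (K9.f67048 IH) (Lpr_af (f153632 IH) (Lpe (f150518 IH) (Lpn (LP (LK LD1_c1 LD2_c6 LD3_c54))))))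
theorem f150502 : Led Lsl_dt (LP (LK LD1_c2 LD2_c19 LD3_c35)) = (LP (LK LD1_c1 LD2_c6 LD3_c54)) :=
  Lre_d IH (LK LD1_c2 LD2_c19 LD3_c35) (LK LD1_c1 LD2_c6 LD3_c54) Lrfl Lrfl
theorem f153691 : Led Lsl_at (LP (LK LD1_c1 LD2_c32 LD3_c9)) = (LP (LK LD1_c2 LD2_c19 LD3_c35)) :=
  Lgr Lrot100 (Lpr_af (K7.f153679 IH) (Lpn (LP (LK LD1_c2 LD2_c19 LD3_c35))))
theorem f69067 : Led Lsl_ft (LP (LK LD1_c0 LD2_c42 LD3_c37)) = (LP (LK LD1_c1 LD2_c32 LD3_c9)) :=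
  Lre_f IH (LK LD1_c0 LD2_c42 LD3_c37) (LK LD1_c1 LD2_c32 LD3_c9) Lrfl Lrfl
theorem f67068 : Led Lsl_gt (LP (LK LD1_c0 LD2_c42 LD3_c37)) = (LP (LK LD1_c1 LD2_c32 LD3_c6)) :=
  Lre_g IH (LK LD1_c0 LD2_c42 LD3_c37) (LK LD1_c1 LD2_c32 LD3_c6) Lrfl Lrfl
theorem f435357 : Led Lsl_gt (LP (LK LD1_c1 LD2_c32 LD3_c6)) = (LP (LK LD1_c2 LD2_c19 LD3_c35)) :=
  Lgr Lrot46 (Lpe (f67068 IH) (Lpr_ft (f69067 IH) (Lpr_at (f153691 IH) (Lpn (LP (LK LD1_c2 LD2_c19 LD3_c35))))))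
theorem f435359 : Led Lsl_ct (LP (LK LD1_c1 LD2_c32 LD3_c6)) = (LP (LK LD1_c3 LD2_c11 LD3_c26)) :=
  Lre_c IH (LK LD1_c1 LD2_c32 LD3_c6) (LK LD1_c3 LD2_c11 LD3_c26) Lrfl Lrfl
theorem f438537 : Led Lsl_gt (LP (LK LD1_c3 LD2_c11 LD3_c26)) = (LP (LK LD1_c3 LD2_c20 LD3_c13)) :=
  Lgr Lrot94 (Lpe (f435359 IH) (Lpr_gt (f435357 IH) (Lpr_dt (f150502 IH) (Lpe (f435519 IH) (Lpr_dt (K9.f67187 IH) (Lpe (f67183 IH) (Lpe (f67211 IH) (Lpr_gf (f438533 IH) (Lpe (f57179 IH) (Lpn (LP (LK LD1_c3 LD2_c20 LD3_c13))))))))))))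
theorem f69108 : Led Lsl_ct (LP (LK LD1_c0 LD2_c42 LD3_c35)) = (LP (LK LD1_c1 LD2_c32 LD3_c0)) :=
  Lre_c IH (LK LD1_c0 LD2_c42 LD3_c35) (LK LD1_c1 LD2_c32 LD3_c0) Lrfl Lrfl
theorem f57183 : Led Lsl_ct (LP (LK LD1_c3 LD2_c20 LD3_c13)) = (LP (LK LD1_c1 LD2_c36 LD3_c31)) :=
  Lre_c IH (LK LD1_c3 LD2_c20 LD3_c13) (LK LD1_c1 LD2_c36 LD3_c31) Lrfl Lrfl
theorem f438544 : Led Lsl_gt (LP (LK LD1_c1 LD2_c32 LD3_c0)) = (LP (LK LD1_c1 LD2_c21 LD3_c17)) :=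
  Lgr Lrot150 (Lpe (f69108 IH) (Lpe (K17.f25849 IH) (Lpe (K9.f25848 IH) (Lpr_gt (f67068 IH) (Lpr_ct (f435359 IH) (Lpr_gt (f438537 IH) (Lpr_ct (f57183 IH) (Lpe (K6.f57177 IH) (Lpr_cf (K1.f57125 IH) (Lpn (LP (LK LD1_c1 LD2_c21 LD3_c17))))))))))))
theorem f438554 : Led Lsl_gf (LP (LK LD1_c1 LD2_c32 LD3_c0)) = (LP (LK LD1_c1 LD2_c4 LD3_c0)) :=
  Lgr Lrot47 (Lpr_gt (f438544 IH) (Lpe (K6.f146422 IH) (Lpe (K6.f143124 IH) (Lpn (LP (LK LD1_c1 LD2_c4 LD3_c0))))))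
theorem f69112 : Led Lsl_dt (LP (LK LD1_c1 LD2_c32 LD3_c0)) = (LP (LK LD1_c3 LD2_c11 LD3_c11)) :=
  Lre_d IH (LK LD1_c1 LD2_c32 LD3_c0) (LK LD1_c3 LD2_c11 LD3_c11) Lrfl Lrfl
theorem f438556 : Led Lsl_gt (LP (LK LD1_c3 LD2_c11 LD3_c11)) = (LP (LK LD1_c6 LD2_c26 LD3_c36)) :=
  Lre_g IH (LK LD1_c3 LD2_c11 LD3_c11) (LK LD1_c6 LD2_c26 LD3_c36) Lrfl Lrfl
theorem f73619 : Led Lsl_gt (LP (LK LD1_c2 LD2_c52 LD3_c3)) = (LP (LK LD1_c1 LD2_c22 LD3_c2)) :=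
  Lre_g IH (LK LD1_c2 LD2_c52 LD3_c3) (LK LD1_c1 LD2_c22 LD3_c2) Lrfl Lrfl
theorem f73626 : Led Lsl_et (LP (LK LD1_c5 LD2_c51 LD3_c41)) = (LP (LK LD1_c2 LD2_c52 LD3_c3)) :=
  Lre_e IH (LK LD1_c5 LD2_c51 LD3_c41) (LK LD1_c2 LD2_c52 LD3_c3) Lrfl Lrfl
theorem f438565 : Led Lsl_df (LP (LK LD1_c6 LD2_c26 LD3_c36)) = (LP (LK LD1_c5 LD2_c51 LD3_c41)) :=
  Lgr Lrot132 (Lpe (f438556 IH) (Lpe (f69112 IH) (Lpr_gf (f438554 IH) (Lpe (K6.f37271 IH) (Lpr_dt (K2.f21213 IH) (Lpe (K1.f37263 IH) (Lpr_df (K1.f37754 IH) (Lpr_et (K31.f79706 IH) (Lpe (f73619 IH) (Lpe (f73626 IH) (Lpn (LP (LK LD1_c5 LD2_c51 LD3_c41)))))))))))))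
theorem f438568 : Led Lsl_dt (LP (LK LD1_c6 LD2_c26 LD3_c36)) = (LP (LK LD1_c5 LD2_c51 LD3_c41)) :=
  Lgr Lrot42 (Lpr_df (f438565 IH) (Lpn (LP (LK LD1_c5 LD2_c51 LD3_c41))))
theorem f58848 : Led Lsl_cf (LP (LK LD1_c1 LD2_c4 LD3_c0)) = (LP (LK LD1_c0 LD2_c31 LD3_c15)) :=
  Lgr Lrot39 (Lpr_et (K6.f58847 IH) (Lpr_ct (K1.f58778 IH) (Lpr_et (K5.f23278 IH) (Lpn (LP (LK LD1_c0 LD2_c31 LD3_c15))))))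
theorem f438584 : Led Lsl_cf (LP (LK LD1_c3 LD2_c3 LD3_c10)) = (LP (LK LD1_c5 LD2_c51 LD3_c41)) :=
  Lgr Lrot14 (Lpr_df (f23286 IH) (Lpe (f23282 IH) (Lpe (f23281 IH) (Lpe (K29.f23280 IH) (Lpe (f58848 IH) (Lpe (f438554 IH) (Lpr_dt (f69112 IH) (Lpr_gt (f438556 IH) (Lpr_dt (f438568 IH) (Lpn (LP (LK LD1_c5 LD2_c51 LD3_c41))))))))))))
theorem f438571 : Led Lsl_et (LP (LK LD1_c2 LD2_c52 LD3_c3)) = (LP (LK LD1_c5 LD2_c51 LD3_c41)) :=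
  Lre_e IH (LK LD1_c2 LD2_c52 LD3_c3) (LK LD1_c5 LD2_c51 LD3_c41) Lrfl Lrfl
theorem f438589 : Led Lsl_ct (LP (LK LD1_c1 LD2_c27 LD3_c29)) = (LP (LK LD1_c2 LD2_c52 LD3_c3)) :=
  Lgr Lrot15 (Lpe (f20962 IH) (Lpr_cf (f438584 IH) (Lpe (f438571 IH) (Lpn (LP (LK LD1_c2 LD2_c52 LD3_c3))))))
theorem f23805 : Led Lsl_ct (LP (LK LD1_c3 LD2_c3 LD3_c12)) = (LP (LK LD1_c6 LD2_c12 LD3_c57)) :=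
  Lre_c IH (LK LD1_c3 LD2_c3 LD3_c12) (LK LD1_c6 LD2_c12 LD3_c57) Lrfl Lrfl
theorem f438619 : Led Lsl_gt (LP (LK LD1_c6 LD2_c12 LD3_c57)) = (LP (LK LD1_c3 LD2_c6 LD3_c46)) :=
  Lgr Lrot150 (Lpe (f23805 IH) (Lpr_gf (K24.f415329 IH) (Lpe (K1.f25569 IH) (Lpe (f437962 IH) (Lpr_ct (f438589 IH) (Lpr_gt (f73619 IH) (Lpr_ct (K31.f73615 IH) (Lpe (K2.f61781 IH) (Lpe (K2.f67448 IH) (Lpn (LP (LK LD1_c3 LD2_c6 LD3_c46))))))))))))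
theorem f23815 : Led Lsl_ct (LP (LK LD1_c6 LD2_c12 LD3_c57)) = (LP (LK LD1_c3 LD2_c3 LD3_c12)) :=
  Lre_c IH (LK LD1_c6 LD2_c12 LD3_c57) (LK LD1_c3 LD2_c3 LD3_c12) Lrfl Lrfl
theorem f20113 : Led Lsl_ct (LP (LK LD1_c3 LD2_c3 LD3_c7)) = (LP (LK LD1_c6 LD2_c12 LD3_c48)) :=
  Lre_c IH (LK LD1_c3 LD2_c3 LD3_c7) (LK LD1_c6 LD2_c12 LD3_c48) Lrfl Lrfl
theorem f416060 : Led Lsl_dt (LP (LK LD1_c12 LD2_c4 LD3_c45)) = (LP (LK LD1_c6 LD2_c12 LD3_c48)) :=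
  Lre_d IH (LK LD1_c12 LD2_c4 LD3_c45) (LK LD1_c6 LD2_c12 LD3_c48) Lrfl Lrfl
theorem f438638 : Led Lsl_gf (LP (LK LD1_c12 LD2_c4 LD3_c45)) = (LP (LK LD1_c6 LD2_c18 LD3_c54)) :=
  Lgr Lrot143 (Lpr_dt (f416060 IH) (Lpe (f20113 IH) (Lpe (K24.f20104 IH) (Lpe (K24.f20095 IH) (Lpe (K0.f20168 IH) (Lpe (K0.f20170 IH) (Lpe (f23815 IH) (Lpr_gt (f438619 IH) (Lpr_dt (K2.f67495 IH) (Lpn (LP (LK LD1_c6 LD2_c18 LD3_c54))))))))))))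
theorem f438643 : Led Lsl_gt (LP (LK LD1_c12 LD2_c4 LD3_c45)) = (LP (LK LD1_c12 LD2_c26 LD3_c60)) :=
  Lgr Lrot46 (Lpr_gf (f438638 IH) (Lpr_ft (K2.f67483 IH) (Lpr_at (K2.f67475 IH) (Lpn (LP (LK LD1_c12 LD2_c26 LD3_c60))))))
theorem f416059 : Led Lsl_dt (LP (LK LD1_c6 LD2_c12 LD3_c48)) = (LP (LK LD1_c12 LD2_c4 LD3_c45)) :=
  Lre_d IH (LK LD1_c6 LD2_c12 LD3_c48) (LK LD1_c12 LD2_c4 LD3_c45) Lrfl Lrfl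
theorem f435386 : Led Lsl_df (LP (LK LD1_c4 LD2_c48 LD3_c34)) = (LP (LK LD1_c9 LD2_c20 LD3_c30)) :=
  Lgr Lrot38 (Lpr_dt (f435381 IH) (Lpn (LP (LK LD1_c9 LD2_c20 LD3_c30))))
theorem f153721 : Led Lsl_at (LP (LK LD1_c3 LD2_c11 LD3_c35)) = (LP (LK LD1_c4 LD2_c43 LD3_c38)) :=
  Lgr Lrot51 (Lpe (K29.f69105 IH) (Lpr_af (K7.f153708 IH) (Lpe (f153712 IH) (Lpn (LP (LK LD1_c4 LD2_c43 LD3_c38))))))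
theorem f69100 : Led Lsl_ft (LP (LK LD1_c6 LD2_c27 LD3_c27)) = (LP (LK LD1_c3 LD2_c11 LD3_c35)) :=
  Lre_f IH (LK LD1_c6 LD2_c27 LD3_c27) (LK LD1_c3 LD2_c11 LD3_c35) Lrfl Lrfl
theorem f435277 : Led Lsl_gt (LP (LK LD1_c6 LD2_c27 LD3_c27)) = (LP (LK LD1_c9 LD2_c20 LD3_c30)) :=
  Lgr Lrot5 (Lpr_ft (f69100 IH) (Lpr_at (f153721 IH) (Lpe (f153459 IH) (Lpn (LP (LK LD1_c9 LD2_c20 LD3_c30))))))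
theorem f69088 : Led Lsl_dt (LP (LK LD1_c3 LD2_c11 LD3_c36)) = (LP (LK LD1_c6 LD2_c27 LD3_c27)) :=
  Lre_d IH (LK LD1_c3 LD2_c11 LD3_c36) (LK LD1_c6 LD2_c27 LD3_c27) Lrfl Lrfl
theorem f69066 : Led Lsl_ft (LP (LK LD1_c3 LD2_c11 LD3_c35)) = (LP (LK LD1_c6 LD2_c27 LD3_c27)) :=
  Lre_f IH (LK LD1_c3 LD2_c11 LD3_c35) (LK LD1_c6 LD2_c27 LD3_c27) Lrfl Lrfl
theorem f154547 : Led Lsl_at (LP (LK LD1_c6 LD2_c27 LD3_c27)) = (LP (LK LD1_c9 LD2_c20 LD3_c31)) :=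
  Lgr Lrot66 (Lpe (f69066 IH) (Lpr_af (K16.f154533 IH) (Lpe (K17.f150507 IH) (Lpn (LP (LK LD1_c9 LD2_c20 LD3_c31))))))
theorem f150504 : Led Lsl_dt (LP (LK LD1_c9 LD2_c20 LD3_c31)) = (LP (LK LD1_c4 LD2_c43 LD3_c39)) :=
  Lre_d IH (LK LD1_c9 LD2_c20 LD3_c31) (LK LD1_c4 LD2_c43 LD3_c39) Lrfl Lrfl
theorem f154557 : Led Lsl_af (LP (LK LD1_c3 LD2_c11 LD3_c36)) = (LP (LK LD1_c4 LD2_c43 LD3_c39)) :=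
  Lgr Lrot117 (Lpr_dt (f69088 IH) (Lpr_at (f154547 IH) (Lpr_dt (f150504 IH) (Lpn (LP (LK LD1_c4 LD2_c43 LD3_c39))))))
theorem f154566 : Led Lsl_ft (LP (LK LD1_c2 LD2_c19 LD3_c34)) = (LP (LK LD1_c4 LD2_c43 LD3_c39)) :=
  Lre_f IH (LK LD1_c2 LD2_c19 LD3_c34) (LK LD1_c4 LD2_c43 LD3_c39) Lrfl Lrfl
theorem f26285 : Led Lsl_gt (LP (LK LD1_c2 LD2_c19 LD3_c34)) = (LP (LK LD1_c4 LD2_c43 LD3_c35)) :=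
  Lre_g IH (LK LD1_c2 LD2_c19 LD3_c34) (LK LD1_c4 LD2_c43 LD3_c35) Lrfl Lrfl
theorem f154567 : Led Lsl_gf (LP (LK LD1_c3 LD2_c11 LD3_c36)) = (LP (LK LD1_c4 LD2_c43 LD3_c35)) :=
  Lgr Lrot76 (Lpr_af (f154557 IH) (Lpe (f154566 IH) (Lpr_gt (f26285 IH) (Lpn (LP (LK LD1_c4 LD2_c43 LD3_c35))))))
theorem f435473 : Led Lsl_ct (LP (LK LD1_c2 LD2_c22 LD3_c11)) = (LP (LK LD1_c4 LD2_c43 LD3_c35)) :=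
  Lgr Lrot8 (Lpe (f415367 IH) (Lpr_dt (K29.f57182 IH) (Lpr_gt (f415361 IH) (Lpr_dt (K29.f135526 IH) (Lpe (f135525 IH) (Lpr_df (f435386 IH) (Lpe (f435277 IH) (Lpe (f69088 IH) (Lpr_gf (f154567 IH) (Lpn (LP (LK LD1_c4 LD2_c43 LD3_c35))))))))))))
theorem f150517 : Led Lsl_ft (LP (LK LD1_c1 LD2_c5 LD3_c5)) = (LP (LK LD1_c2 LD2_c16 LD3_c23)) :=
  Lre_f IH (LK LD1_c1 LD2_c5 LD3_c5) (LK LD1_c2 LD2_c16 LD3_c23) Lrfl Lrfl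
theorem f435367 : Led Lsl_gf (LP (LK LD1_c1 LD2_c24 LD3_c21)) = (LP (LK LD1_c2 LD2_c16 LD3_c20)) :=
  Lgr Lrot76 (Lpr_af (K11.f153677 IH) (Lpe (f150517 IH) (Lpr_gt (K11.f26813 IH) (Lpn (LP (LK LD1_c2 LD2_c16 LD3_c20))))))
theorem f435484 : Led Lsl_ct (LP (LK LD1_c1 LD2_c8 LD3_c13)) = (LP (LK LD1_c2 LD2_c16 LD3_c20)) :=
  Lgr Lrot152 (Lpe (K29.f23280 IH) (Lpe (K6.f23271 IH) (Lpr_gt (f23262 IH) (Lpr_ct (f435473 IH) (Lpe (f154567 IH) (Lpr_ct (K16.f69091 IH) (Lpe (K24.f69086 IH) (Lpe (K11.f69064 IH) (Lpr_gf (f435367 IH) (Lpn (LP (LK LD1_c2 LD2_c16 LD3_c20))))))))))))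
theorem f435487 : Led Lsl_cf (LP (LK LD1_c1 LD2_c8 LD3_c13)) = (LP (LK LD1_c2 LD2_c16 LD3_c20)) :=
  Lgr Lrot11 (Lpr_ct (f435484 IH) (Lpn (LP (LK LD1_c2 LD2_c16 LD3_c20))))
theorem f23294 : Led Lsl_ct (LP (LK LD1_c4 LD2_c48 LD3_c31)) = (LP (LK LD1_c2 LD2_c22 LD3_c8)) :=
  Lre_c IH (LK LD1_c4 LD2_c48 LD3_c31) (LK LD1_c2 LD2_c22 LD3_c8) Lrfl Lrfl
theorem f69097 : Led Lsl_dt (LP (LK LD1_c6 LD2_c27 LD3_c27)) = (LP (LK LD1_c3 LD2_c11 LD3_c36)) :=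
  Lre_d IH (LK LD1_c6 LD2_c27 LD3_c27) (LK LD1_c3 LD2_c11 LD3_c36) Lrfl Lrfl
theorem f154553 : Led Lsl_af (LP (LK LD1_c6 LD2_c27 LD3_c27)) = (LP (LK LD1_c9 LD2_c20 LD3_c31)) :=
  Lgr Lrot0 (Lpr_at (f154547 IH) (Lpn (LP (LK LD1_c9 LD2_c20 LD3_c31))))
theorem f154572 : Led Lsl_ft (LP (LK LD1_c4 LD2_c43 LD3_c38)) = (LP (LK LD1_c9 LD2_c20 LD3_c31)) :=
  Lre_f IH (LK LD1_c4 LD2_c43 LD3_c38) (LK LD1_c9 LD2_c20 LD3_c31) Lrfl Lrfl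
theorem f154573 : Led Lsl_gt (LP (LK LD1_c4 LD2_c43 LD3_c38)) = (LP (LK LD1_c9 LD2_c20 LD3_c29)) :=
  Lre_g IH (LK LD1_c4 LD2_c43 LD3_c38) (LK LD1_c9 LD2_c20 LD3_c29) Lrfl Lrfl
theorem f154574 : Led Lsl_gf (LP (LK LD1_c6 LD2_c27 LD3_c27)) = (LP (LK LD1_c9 LD2_c20 LD3_c29)) :=
  Lgr Lrot76 (Lpr_af (f154553 IH) (Lpe (f154572 IH) (Lpr_gt (f154573 IH) (Lpn (LP (LK LD1_c9 LD2_c20 LD3_c29))))))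
theorem f416702 : Led Lsl_cf (LP (LK LD1_c2 LD2_c16 LD3_c21)) = (LP (LK LD1_c1 LD2_c8 LD3_c14)) :=
  Lgr Lrot39 (Lpr_et (K24.f416700 IH) (Lpr_ct (K24.f416655 IH) (Lpe (K24.f416666 IH) (Lpn (LP (LK LD1_c1 LD2_c8 LD3_c14))))))
theorem f150570 : Led Lsl_gt (LP (LK LD1_c4 LD2_c43 LD3_c36)) = (LP (LK LD1_c2 LD2_c19 LD3_c34)) :=
  Lre_g IH (LK LD1_c4 LD2_c43 LD3_c36) (LK LD1_c2 LD2_c19 LD3_c34) Lrfl Lrfl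
theorem f151930 : Led Lsl_et (LP (LK LD1_c2 LD2_c20 LD3_c12)) = (LP (LK LD1_c1 LD2_c7 LD3_c21)) :=
  Lre_e IH (LK LD1_c2 LD2_c20 LD3_c12) (LK LD1_c1 LD2_c7 LD3_c21) Lrfl Lrfl
theorem f151931 : Led Lsl_dt (LP (LK LD1_c2 LD2_c20 LD3_c12)) = (LP (LK LD1_c2 LD2_c22 LD3_c12)) :=
  Lre_d IH (LK LD1_c2 LD2_c20 LD3_c12) (LK LD1_c2 LD2_c22 LD3_c12) Lrfl Lrfl
theorem f151920 : Led Lsl_gf (LP (LK LD1_c1 LD2_c7 LD3_c22)) = (LP (LK LD1_c0 LD2_c43 LD3_c28)) :=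
  Lgr Lrot47 (Lpr_gt (f25232 IH) (Lpr_af (K7.f151903 IH) (Lpe (K7.f22567 IH) (Lpn (LP (LK LD1_c0 LD2_c43 LD3_c28))))))
theorem f151932 : Led Lsl_gf (LP (LK LD1_c2 LD2_c22 LD3_c12)) = (LP (LK LD1_c1 LD2_c36 LD3_c31)) :=
  Lgr Lrot145 (Lpe (f151931 IH) (Lpr_et (f151930 IH) (Lpr_gt (K24.f151924 IH) (Lpe (K24.f23780 IH) (Lpe (f151920 IH) (Lpe (f144062 IH) (Lpr_et (f24627 IH) (Lpr_gt (f146019 IH) (Lpr_ef (K6.f143078 IH) (Lpr_dt (K6.f57177 IH) (Lpn (LP (LK LD1_c1 LD2_c36 LD3_c31)))))))))))))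
theorem f417063 : Led Lsl_cf (LP (LK LD1_c4 LD2_c43 LD3_c36)) = (LP (LK LD1_c2 LD2_c22 LD3_c12)) :=
  Lgr Lrot169 (Lpr_gt (f150570 IH) (Lpr_ct (f150569 IH) (Lpe (K24.f26261 IH) (Lpe (K11.f150466 IH) (Lpe (K24.f26768 IH) (Lpr_cf (f416702 IH) (Lpe (f415361 IH) (Lpe (K29.f57182 IH) (Lpe (f151932 IH) (Lpn (LP (LK LD1_c2 LD2_c22 LD3_c12))))))))))))
theorem f84331 : Led Lsl_gt (LP (LK LD1_c2 LD2_c22 LD3_c12)) = (LP (LK LD1_c1 LD2_c8 LD3_c15)) :=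
  Lre_g IH (LK LD1_c2 LD2_c22 LD3_c12) (LK LD1_c1 LD2_c8 LD3_c15) Lrfl Lrfl
theorem f417076 : Led Lsl_dt (LP (LK LD1_c9 LD2_c20 LD3_c29)) = (LP (LK LD1_c4 LD2_c48 LD3_c31)) :=
  Lgr Lrot105 (Lpe (f154573 IH) (Lpe (f150567 IH) (Lpe (f150570 IH) (Lpr_cf (f417063 IH) (Lpr_gt (f84331 IH) (Lpr_dt (K6.f23271 IH) (Lpr_gt (K29.f23280 IH) (Lpr_dt (f23281 IH) (Lpe (f23294 IH) (Lpn (LP (LK LD1_c4 LD2_c48 LD3_c31))))))))))))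
theorem f417081 : Led Lsl_df (LP (LK LD1_c9 LD2_c20 LD3_c29)) = (LP (LK LD1_c4 LD2_c48 LD3_c31)) :=
  Lgr Lrot38 (Lpr_dt (f417076 IH) (Lpn (LP (LK LD1_c4 LD2_c48 LD3_c31))))
theorem f435373 : Led Lsl_gt (LP (LK LD1_c4 LD2_c43 LD3_c28)) = (LP (LK LD1_c2 LD2_c19 LD3_c28)) :=
  Lre_g IH (LK LD1_c4 LD2_c43 LD3_c28) (LK LD1_c2 LD2_c19 LD3_c28) Lrfl Lrfl
theorem f435374 : Led Lsl_ct (LP (LK LD1_c9 LD2_c20 LD3_c15)) = (LP (LK LD1_c4 LD2_c43 LD3_c28)) :=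
  Lre_c IH (LK LD1_c9 LD2_c20 LD3_c15) (LK LD1_c4 LD2_c43 LD3_c28) Lrfl Lrfl
theorem f435375 : Led Lsl_gf (LP (LK LD1_c4 LD2_c48 LD3_c31)) = (LP (LK LD1_c9 LD2_c20 LD3_c15)) :=
  Lgr Lrot144 (Lpe (f417081 IH) (Lpe (f154574 IH) (Lpr_dt (f69097 IH) (Lpe (K16.f69087 IH) (Lpe (K24.f69086 IH) (Lpr_gf (K24.f435371 IH) (Lpe (f61269 IH) (Lpe (f435373 IH) (Lpe (f435374 IH) (Lpn (LP (LK LD1_c9 LD2_c20 LD3_c15))))))))))))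
theorem f435377 : Led Lsl_ct (LP (LK LD1_c4 LD2_c43 LD3_c28)) = (LP (LK LD1_c9 LD2_c20 LD3_c15)) :=
  Lre_c IH (LK LD1_c4 LD2_c43 LD3_c28) (LK LD1_c9 LD2_c20 LD3_c15) Lrfl Lrfl
theorem f435490 : Led Lsl_gf (LP (LK LD1_c4 LD2_c43 LD3_c28)) = (LP (LK LD1_c2 LD2_c19 LD3_c30)) :=
  Lgr Lrot147 (Lpr_ct (f435377 IH) (Lpe (f435375 IH) (Lpr_ct (f23294 IH) (Lpe (f23281 IH) (Lpr_cf (f435487 IH) (Lpe (K11.f26813 IH) (Lpr_cf (K24.f26370 IH) (Lpe (K24.f61254 IH) (Lpe (K24.f152206 IH) (Lpn (LP (LK LD1_c2 LD2_c19 LD3_c30))))))))))))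
theorem f79828 : Led Lsl_ef (LP (LK LD1_c3 LD2_c6 LD3_c60)) = (LP (LK LD1_c3 LD2_c13 LD3_c5)) :=
  Lgr Lrot88 (Lpr_et (K11.f79726 IH) (Lpn (LP (LK LD1_c3 LD2_c13 LD3_c5))))
theorem f435494 : Led Lsl_df (LP (LK LD1_c4 LD2_c43 LD3_c28)) = (LP (LK LD1_c3 LD2_c13 LD3_c5)) :=
  Lgr Lrot132 (Lpr_gf (f435490 IH) (Lpe (K24.f152216 IH) (Lpr_gf (K24.f210120 IH) (Lpr_ef (K7.f153613 IH) (Lpr_dt (K11.f61102 IH) (Lpe (f153568 IH) (Lpe (K9.f61838 IH) (Lpr_et (K9.f67189 IH) (Lpe (K17.f67051 IH) (Lpr_ef (f79828 IH) (Lpn (LP (LK LD1_c3 LD2_c13 LD3_c5)))))))))))))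
theorem f435498 : Led Lsl_et (LP (LK LD1_c4 LD2_c43 LD3_c28)) = (LP (LK LD1_c3 LD2_c8 LD3_c21)) :=
  Lgr Lrot71 (Lpr_df (f435494 IH) (Lpe (K11.f79726 IH) (Lpe (K17.f66980 IH) (Lpe (K31.f66985 IH) (Lpr_df (K31.f67059 IH) (Lpn (LP (LK LD1_c3 LD2_c8 LD3_c21))))))))
theorem f435496 : Led Lsl_dt (LP (LK LD1_c4 LD2_c43 LD3_c28)) = (LP (LK LD1_c3 LD2_c13 LD3_c5)) :=
  Lgr Lrot42 (Lpr_df (f435494 IH) (Lpn (LP (LK LD1_c3 LD2_c13 LD3_c5))))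
theorem f79746 : Led Lsl_df (LP (LK LD1_c1 LD2_c32 LD3_c60)) = (LP (LK LD1_c1 LD2_c32 LD3_c7)) :=
  Lgr Lrot38 (Lpr_dt (K11.f79728 IH) (Lpn (LP (LK LD1_c1 LD2_c32 LD3_c7))))
theorem f435504 : Led Lsl_gt (LP (LK LD1_c3 LD2_c11 LD3_c31)) = (LP (LK LD1_c3 LD2_c6 LD3_c40)) :=
  Lgr Lrot137 (Lpe (f79749 IH) (Lpe (f79746 IH) (Lpe (K11.f13572 IH) (Lpe (f435496 IH) (Lpr_et (f435498 IH) (Lpr_gf (K31.f83555 IH) (Lpe (K2.f83247 IH) (Lpe (K2.f68273 IH) (Lpr_gf (K9.f79734 IH) (Lpe (f67110 IH) (Lpn (LP (LK LD1_c3 LD2_c6 LD3_c40)))))))))))))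
theorem f79763 : Led Lsl_ct (LP (LK LD1_c6 LD2_c27 LD3_c14)) = (LP (LK LD1_c3 LD2_c11 LD3_c31)) :=
  Lre_c IH (LK LD1_c6 LD2_c27 LD3_c14) (LK LD1_c3 LD2_c11 LD3_c31) Lrfl Lrfl
theorem f438646 : Led Lsl_gf (LP (LK LD1_c6 LD2_c12 LD3_c48)) = (LP (LK LD1_c6 LD2_c27 LD3_c14)) :=
  Lgr Lrot144 (Lpr_dt (f416059 IH) (Lpr_gt (f438643 IH) (Lpr_dt (K2.f67465 IH) (Lpe (K2.f67451 IH) (Lpe (K2.f68219 IH) (Lpr_gf (K9.f79734 IH) (Lpe (f67110 IH) (Lpe (f435504 IH) (Lpe (f79763 IH) (Lpn (LP (LK LD1_c6 LD2_c27 LD3_c14))))))))))))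
theorem f20108 : Led Lsl_ct (LP (LK LD1_c6 LD2_c12 LD3_c48)) = (LP (LK LD1_c3 LD2_c3 LD3_c7)) :=
  Lre_c IH (LK LD1_c6 LD2_c12 LD3_c48) (LK LD1_c3 LD2_c3 LD3_c7) Lrfl Lrfl
theorem f77398 : Led Lsl_et (LP (LK LD1_c3 LD2_c59 LD3_c55)) = (LP (LK LD1_c1 LD2_c56 LD3_c35)) :=
  Lre_e IH (LK LD1_c3 LD2_c59 LD3_c55) (LK LD1_c1 LD2_c56 LD3_c35) Lrfl Lrfl
theorem f415553 : Led Lsl_ct (LP (LK LD1_c2 LD2_c22 LD3_c51)) = (LP (LK LD1_c3 LD2_c59 LD3_c55)) :=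
  Lgr Lrot15 (Lpe (K0.f23796 IH) (Lpr_cf (K24.f415547 IH) (Lpe (f77398 IH) (Lpn (LP (LK LD1_c3 LD2_c59 LD3_c55))))))
theorem f23806 : Led Lsl_dt (LP (LK LD1_c3 LD2_c3 LD3_c12)) = (LP (LK LD1_c2 LD2_c22 LD3_c51)) :=
  Lgr Lrot42 (Lpr_df (K0.f23802 IH) (Lpn (LP (LK LD1_c2 LD2_c22 LD3_c51))))
theorem f55798 : Led Lsl_gt (LP (LK LD1_c4 LD2_c7 LD3_c26)) = (LP (LK LD1_c2 LD2_c1 LD3_c3)) :=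
  Lre_g IH (LK LD1_c4 LD2_c7 LD3_c26) (LK LD1_c2 LD2_c1 LD3_c3) Lrfl Lrfl
theorem f79888 : Led Lsl_df (LP (LK LD1_c4 LD2_c7 LD3_c26)) = (LP (LK LD1_c3 LD2_c59 LD3_c55)) :=
  Lgr Lrot170 (Lpr_gt (f55798 IH) (Lpr_df (K2.f73593 IH) (Lpr_et (K2.f22250 IH) (Lpe (K4.f61816 IH) (Lpr_dt (K1.f22455 IH) (Lpr_gt (K4.f38627 IH) (Lpe (K0.f35520 IH) (Lpr_et (K24.f35537 IH) (Lpr_gt (K24.f40470 IH) (Lpe (f77398 IH) (Lpn (LP (LK LD1_c3 LD2_c59 LD3_c55)))))))))))))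
theorem f79894 : Led Lsl_dt (LP (LK LD1_c4 LD2_c7 LD3_c26)) = (LP (LK LD1_c3 LD2_c59 LD3_c55)) :=
  Lgr Lrot42 (Lpr_df (f79888 IH) (Lpn (LP (LK LD1_c3 LD2_c59 LD3_c55))))
theorem f55799 : Led Lsl_gt (LP (LK LD1_c4 LD2_c6 LD3_c6)) = (LP (LK LD1_c4 LD2_c7 LD3_c26)) :=
  Lgr Lrot5 (Lpr_ft (K2.f55786 IH) (Lpr_at (K2.f55692 IH) (Lpe (f55798 IH) (Lpn (LP (LK LD1_c4 LD2_c7 LD3_c26))))))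
theorem f73608 : Led Lsl_gt (LP (LK LD1_c2 LD2_c52 LD3_c2)) = (LP (LK LD1_c2 LD2_c49 LD3_c48)) :=
  Lgr Lrot46 (Lpe (K31.f73607 IH) (Lpr_ft (K2.f73595 IH) (Lpr_at (K2.f73596 IH) (Lpn (LP (LK LD1_c2 LD2_c49 LD3_c48))))))
theorem f416055 : Led Lsl_cf (LP (LK LD1_c1 LD2_c27 LD3_c28)) = (LP (LK LD1_c2 LD2_c52 LD3_c2)) :=
  Lgr Lrot166 (Lpr_gt (K24.f415335 IH) (Lpr_dt (K1.f25569 IH) (Lpe (K24.f415329 IH) (Lpr_dt (f23806 IH) (Lpr_ct (f415553 IH) (Lpe (f79894 IH) (Lpe (f55799 IH) (Lpr_df (K2.f73226 IH) (Lpe (f73608 IH) (Lpn (LP (LK LD1_c2 LD2_c52 LD3_c2))))))))))))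
theorem f79771 : Led Lsl_ct (LP (LK LD1_c3 LD2_c11 LD3_c31)) = (LP (LK LD1_c6 LD2_c27 LD3_c14)) :=
  Lre_c IH (LK LD1_c3 LD2_c11 LD3_c31) (LK LD1_c6 LD2_c27 LD3_c14) Lrfl Lrfl
theorem f438649 : Led Lsl_gt (LP (LK LD1_c3 LD2_c6 LD3_c43)) = (LP (LK LD1_c3 LD2_c11 LD3_c31)) :=
  Lgr Lrot9 (Lpe (K17.f61698 IH) (Lpr_gt (K17.f61680 IH) (Lpr_ct (K2.f61810 IH) (Lpr_gt (K31.f73607 IH) (Lpe (f416055 IH) (Lpe (K24.f20115 IH) (Lpe (f20108 IH) (Lpr_gf (f438646 IH) (Lpe (f79771 IH) (Lpn (LP (LK LD1_c3 LD2_c11 LD3_c31))))))))))))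
theorem f61691 : Led Lsl_et (LP (LK LD1_c1 LD2_c29 LD3_c27)) = (LP (LK LD1_c3 LD2_c6 LD3_c44)) :=
  Lre_e IH (LK LD1_c1 LD2_c29 LD3_c27) (LK LD1_c3 LD2_c6 LD3_c44) Lrfl Lrfl
theorem f442831 : Led Lsl_gt (LP (LK LD1_c2 LD2_c19 LD3_c43)) = (LP (LK LD1_c3 LD2_c6 LD3_c44)) :=
  Lgr Lrot131 (Lpe (f26281 IH) (Lpr_dt (K24.f26290 IH) (Lpr_gf (K24.f442819 IH) (Lpr_df (K24.f13567 IH) (Lpe (K11.f13564 IH) (Lpe (f13579 IH) (Lpr_dt (f79764 IH) (Lpe (f438649 IH) (Lpe (K17.f61698 IH) (Lpr_et (f61691 IH) (Lpn (LP (LK LD1_c3 LD2_c6 LD3_c44)))))))))))))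
theorem f438438 : Led Lsl_ct (LP (LK LD1_c2 LD2_c19 LD3_c43)) = (LP (LK LD1_c2 LD2_c52 LD3_c38)) :=
  Lgr Lrot59 (Lpr_cf (K24.f438434 IH) (Lpn (LP (LK LD1_c2 LD2_c52 LD3_c38))))
theorem f69073 : Led Lsl_ct (LP (LK LD1_c1 LD2_c32 LD3_c3)) = (LP (LK LD1_c0 LD2_c42 LD3_c36)) :=
  Lre_c IH (LK LD1_c1 LD2_c32 LD3_c3) (LK LD1_c0 LD2_c42 LD3_c36) Lrfl Lrfl
theorem f73620 : Led Lsl_gf (LP (LK LD1_c2 LD2_c52 LD3_c3)) = (LP (LK LD1_c2 LD2_c49 LD3_c48)) :=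
  Lgr Lrot47 (Lpr_gt (f73619 IH) (Lpr_af (K2.f73605 IH) (Lpe (K2.f73204 IH) (Lpn (LP (LK LD1_c2 LD2_c49 LD3_c48))))))
theorem f79834 : Led Lsl_ct (LP (LK LD1_c1 LD2_c32 LD3_c5)) = (LP (LK LD1_c3 LD2_c11 LD3_c22)) :=
  Lre_c IH (LK LD1_c1 LD2_c32 LD3_c5) (LK LD1_c3 LD2_c11 LD3_c22) Lrfl Lrfl
theorem f139930 : Led Lsl_ct (LP (LK LD1_c1 LD2_c37 LD3_c1)) = (LP (LK LD1_c0 LD2_c44 LD3_c54)) :=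
  Lre_c IH (LK LD1_c1 LD2_c37 LD3_c1) (LK LD1_c0 LD2_c44 LD3_c54) Lrfl Lrfl
theorem f416539 : Led Lsl_gt (LP (LK LD1_c3 LD2_c11 LD3_c22)) = (LP (LK LD1_c1 LD2_c37 LD3_c1)) :=
  Lgr Lrot150 (Lpe (f79834 IH) (Lpr_gf (K24.f416535 IH) (Lpr_df (K24.f73779 IH) (Lpr_gt (K9.f73775 IH) (Lpr_ct (K2.f73760 IH) (Lpe (K17.f414081 IH) (Lpr_ct (K16.f413451 IH) (Lpe (K17.f23204 IH) (Lpe (f139930 IH) (Lpn (LP (LK LD1_c1 LD2_c37 LD3_c1))))))))))))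
theorem f414847 : Led Lsl_et (LP (LK LD1_c1 LD2_c32 LD3_c3)) = (LP (LK LD1_c3 LD2_c11 LD3_c22)) :=
  Lre_e IH (LK LD1_c1 LD2_c32 LD3_c3) (LK LD1_c3 LD2_c11 LD3_c22) Lrfl Lrfl
theorem f414848 : Led Lsl_dt (LP (LK LD1_c1 LD2_c32 LD3_c3)) = (LP (LK LD1_c3 LD2_c11 LD3_c21)) :=
  Lre_d IH (LK LD1_c1 LD2_c32 LD3_c3) (LK LD1_c3 LD2_c11 LD3_c21) Lrfl Lrfl
theorem f438572 : Led Lsl_gt (LP (LK LD1_c6 LD2_c26 LD3_c36)) = (LP (LK LD1_c3 LD2_c11 LD3_c21)) :=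
  Lgr Lrot112 (Lpr_df (f438565 IH) (Lpr_et (f73626 IH) (Lpr_gf (f73620 IH) (Lpr_ef (K2.f73794 IH) (Lpr_dt (K16.f73668 IH) (Lpe (K16.f141143 IH) (Lpe (K17.f139945 IH) (Lpe (f416539 IH) (Lpe (f414847 IH) (Lpr_dt (f414848 IH) (Lpn (LP (LK LD1_c3 LD2_c11 LD3_c21)))))))))))))
theorem f442833 : Led Lsl_gt (LP (LK LD1_c2 LD2_c52 LD3_c38)) = (LP (LK LD1_c5 LD2_c51 LD3_c41)) :=
  Lgr Lrot94 (Lpe (f438438 IH) (Lpr_gt (f442831 IH) (Lpr_dt (K17.f61684 IH) (Lpr_gt (K17.f155859 IH) (Lpr_dt (K9.f67173 IH) (Lpe (f69073 IH) (Lpe (K17.f155862 IH) (Lpe (f438572 IH) (Lpr_df (f438565 IH) (Lpn (LP (LK LD1_c5 LD2_c51 LD3_c41))))))))))))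
theorem f56699 : Led Lsl_ft (LP (LK LD1_c2 LD2_c52 LD3_c38)) = (LP (LK LD1_c5 LD2_c52 LD3_c47)) :=
  Lre_f IH (LK LD1_c2 LD2_c52 LD3_c38) (LK LD1_c5 LD2_c52 LD3_c47) Lrfl Lrfl
theorem f146426 : Led Lsl_gf (LP (LK LD1_c4 LD2_c34 LD3_c7)) = (LP (LK LD1_c2 LD2_c50 LD3_c32)) :=
  Lgr Lrot76 (Lpr_af (K6.f146412 IH) (Lpe (K6.f57502 IH) (Lpr_gt (f146425 IH) (Lpn (LP (LK LD1_c2 LD2_c50 LD3_c32))))))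
theorem f438591 : Led Lsl_gf (LP (LK LD1_c5 LD2_c48 LD3_c61)) = (LP (LK LD1_c5 LD2_c51 LD3_c41)) :=
  Lgr Lrot144 (Lpr_dt (f146428 IH) (Lpe (f146426 IH) (Lpr_dt (K6.f143130 IH) (Lpr_cf (K24.f146060 IH) (Lpe (K6.f135392 IH) (Lpe (K24.f135415 IH) (Lpe (K16.f135417 IH) (Lpe (f415351 IH) (Lpr_cf (f438584 IH) (Lpn (LP (LK LD1_c5 LD2_c51 LD3_c41))))))))))))
theorem f442842 : Led Lsl_at (LP (LK LD1_c5 LD2_c52 LD3_c47)) = (LP (LK LD1_c5 LD2_c48 LD3_c61)) :=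
  Lgr Lrot26 (Lpe (f56699 IH) (Lpr_gt (f442833 IH) (Lpe (f438591 IH) (Lpn (LP (LK LD1_c5 LD2_c48 LD3_c61))))))
theorem f442844 : Led Lsl_af (LP (LK LD1_c5 LD2_c52 LD3_c47)) = (LP (LK LD1_c5 LD2_c48 LD3_c61)) :=
  Lgr Lrot0 (Lpr_at (f442842 IH) (Lpn (LP (LK LD1_c5 LD2_c48 LD3_c61))))
theorem f505140 : Led Lsl_gt (LP (LK LD1_c5 LD2_c47 LD3_c41)) = (LP (LK LD1_c5 LD2_c52 LD3_c47)) :=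
  Lgr Lrot46 (Lpr_gf (f445960 IH) (Lpr_ft (f505130 IH) (Lpe (f442844 IH) (Lpn (LP (LK LD1_c5 LD2_c52 LD3_c47))))))
theorem f57641 : Led Lsl_dt (LP (LK LD1_c2 LD2_c49 LD3_c47)) = (LP (LK LD1_c5 LD2_c47 LD3_c40)) :=
  Lre_d IH (LK LD1_c2 LD2_c49 LD3_c47) (LK LD1_c5 LD2_c47 LD3_c40) Lrfl Lrfl
theorem f68261 : Led Lsl_ct (LP (LK LD1_c6 LD2_c17 LD3_c48)) = (LP (LK LD1_c3 LD2_c6 LD3_c5)) :=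
  Lre_c IH (LK LD1_c6 LD2_c17 LD3_c48) (LK LD1_c3 LD2_c6 LD3_c5) Lrfl Lrfl
theorem f68258 : Led Lsl_dt (LP (LK LD1_c12 LD2_c11 LD3_c61)) = (LP (LK LD1_c6 LD2_c17 LD3_c48)) :=
  Lre_d IH (LK LD1_c12 LD2_c11 LD3_c61) (LK LD1_c6 LD2_c17 LD3_c48) Lrfl Lrfl
theorem f55703 : Led Lsl_gt (LP (LK LD1_c4 LD2_c6 LD3_c5)) = (LP (LK LD1_c2 LD2_c0 LD3_c19)) :=
  Lre_g IH (LK LD1_c4 LD2_c6 LD3_c5) (LK LD1_c2 LD2_c0 LD3_c19) Lrfl Lrfl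
theorem f56663 : Led Lsl_et (LP (LK LD1_c1 LD2_c20 LD3_c60)) = (LP (LK LD1_c0 LD2_c37 LD3_c24)) :=
  Lre_e IH (LK LD1_c1 LD2_c20 LD3_c60) (LK LD1_c0 LD2_c37 LD3_c24) Lrfl Lrfl
theorem f73211 : Led Lsl_df (LP (LK LD1_c4 LD2_c6 LD3_c5)) = (LP (LK LD1_c2 LD2_c27 LD3_c52)) :=
  Lgr Lrot170 (Lpr_gt (f55703 IH) (Lpr_df (K2.f73196 IH) (Lpr_et (f56663 IH) (Lpr_gt (K4.f59422 IH) (Lpr_dt (K2.f20306 IH) (Lpr_gt (K2.f20254 IH) (Lpe (K1.f8333 IH) (Lpr_et (K2.f58906 IH) (Lpr_gt (K24.f73209 IH) (Lpe (f73210 IH) (Lpn (LP (LK LD1_c2 LD2_c27 LD3_c52)))))))))))))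
theorem f73214 : Led Lsl_dt (LP (LK LD1_c4 LD2_c6 LD3_c5)) = (LP (LK LD1_c2 LD2_c27 LD3_c52)) :=
  Lgr Lrot42 (Lpr_df (f73211 IH) (Lpn (LP (LK LD1_c2 LD2_c27 LD3_c52))))
theorem f55704 : Led Lsl_gf (LP (LK LD1_c4 LD2_c6 LD3_c5)) = (LP (LK LD1_c4 LD2_c7 LD3_c27)) :=
  Lgr Lrot47 (Lpr_gt (f55703 IH) (Lpr_af (K2.f55652 IH) (Lpe (K9.f55700 IH) (Lpn (LP (LK LD1_c4 LD2_c7 LD3_c27))))))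
theorem f55970 : Led Lsl_dt (LP (LK LD1_c0 LD2_c57 LD3_c33)) = (LP (LK LD1_c2 LD2_c0 LD3_c61)) :=
  Lre_d IH (LK LD1_c0 LD2_c57 LD3_c33) (LK LD1_c2 LD2_c0 LD3_c61) Lrfl Lrfl
theorem f56033 : Led Lsl_et (LP (LK LD1_c2 LD2_c0 LD3_c61)) = (LP (LK LD1_c4 LD2_c7 LD3_c19)) :=
  Lre_e IH (LK LD1_c2 LD2_c0 LD3_c61) (LK LD1_c4 LD2_c7 LD3_c19) Lrfl Lrfl
theorem f74450 : Led Lsl_dt (LP (LK LD1_c4 LD2_c7 LD3_c19)) = (LP (LK LD1_c2 LD2_c52 LD3_c1)) :=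
  Lgr Lrot77 (Lpe (f56033 IH) (Lpe (f55970 IH) (Lpr_ef (K1.f56018 IH) (Lpr_df (K2.f74445 IH) (Lpe (K2.f74243 IH) (Lpn (LP (LK LD1_c2 LD2_c52 LD3_c1))))))))
theorem f79669 : Led Lsl_df (LP (LK LD1_c4 LD2_c7 LD3_c19)) = (LP (LK LD1_c2 LD2_c52 LD3_c1)) :=
  Lgr Lrot38 (Lpr_dt (f74450 IH) (Lpn (LP (LK LD1_c2 LD2_c52 LD3_c1))))
theorem f55696 : Led Lsl_bt (LP (LK LD1_c4 LD2_c7 LD3_c19)) = (LP (LK LD1_c2 LD2_c1 LD3_c3)) :=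
  Lre_b IH (LK LD1_c4 LD2_c7 LD3_c19) (LK LD1_c2 LD2_c1 LD3_c3) Lrfl Lrfl
theorem f73614 : Led Lsl_bt (LP (LK LD1_c1 LD2_c22 LD3_c2)) = (LP (LK LD1_c2 LD2_c52 LD3_c1)) :=
  Lre_b IH (LK LD1_c1 LD2_c22 LD3_c2) (LK LD1_c2 LD2_c52 LD3_c1) Lrfl Lrfl
theorem f79671 : Led Lsl_dt (LP (LK LD1_c2 LD2_c1 LD3_c3)) = (LP (LK LD1_c1 LD2_c22 LD3_c2)) :=
  Lgr Lrot79 (Lpe (f55696 IH) (Lpr_df (f79669 IH) (Lpe (f73614 IH) (Lpn (LP (LK LD1_c1 LD2_c22 LD3_c2))))))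
theorem f79673 : Led Lsl_df (LP (LK LD1_c4 LD2_c7 LD3_c27)) = (LP (LK LD1_c2 LD2_c52 LD3_c4)) :=
  Lgr Lrot78 (Lpr_ft (K9.f55700 IH) (Lpr_dt (f79671 IH) (Lpr_ft (K2.f73595 IH) (Lpn (LP (LK LD1_c2 LD2_c52 LD3_c4))))))
theorem f443952 : Led Lsl_cf (LP (LK LD1_c2 LD2_c49 LD3_c46)) = (LP (LK LD1_c1 LD2_c29 LD3_c7)) :=
  Lgr Lrot166 (Lpe (K16.f79881 IH) (Lpe (f79673 IH) (Lpe (f55704 IH) (Lpr_dt (f73214 IH) (Lpe (f415732 IH) (Lpe (f25513 IH) (Lpr_gf (K0.f25526 IH) (Lpe (K0.f23254 IH) (Lpr_gf (K29.f443948 IH) (Lpn (LP (LK LD1_c1 LD2_c29 LD3_c7))))))))))))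
theorem f76384 : Led Lsl_ft (LP (LK LD1_c11 LD2_c30 LD3_c36)) = (LP (LK LD1_c5 LD2_c51 LD3_c35)) :=
  Lre_f IH (LK LD1_c11 LD2_c30 LD3_c36) (LK LD1_c5 LD2_c51 LD3_c35) Lrfl Lrfl
theorem f76604 : Led Lsl_ft (LP (LK LD1_c3 LD2_c6 LD3_c29)) = (LP (LK LD1_c6 LD2_c18 LD3_c30)) :=
  Lre_f IH (LK LD1_c3 LD2_c6 LD3_c29) (LK LD1_c6 LD2_c18 LD3_c30) Lrfl Lrfl
theorem f76605 : Led Lsl_bf (LP (LK LD1_c11 LD2_c30 LD3_c36)) = (LP (LK LD1_c6 LD2_c18 LD3_c30)) :=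
  Lgr Lrot61 (Lpr_ft (f76384 IH) (Lpr_bt (K6.f76595 IH) (Lpr_ft (f76604 IH) (Lpn (LP (LK LD1_c6 LD2_c18 LD3_c30))))))
theorem f74229 : Led Lsl_ct (LP (LK LD1_c11 LD2_c30 LD3_c36)) = (LP (LK LD1_c5 LD2_c51 LD3_c38)) :=
  Lre_c IH (LK LD1_c11 LD2_c30 LD3_c36) (LK LD1_c5 LD2_c51 LD3_c38) Lrfl Lrfl
theorem f73600 : Led Lsl_bt (LP (LK LD1_c5 LD2_c51 LD3_c38)) = (LP (LK LD1_c2 LD2_c52 LD3_c4)) :=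
  Lre_b IH (LK LD1_c5 LD2_c51 LD3_c38) (LK LD1_c2 LD2_c52 LD3_c4) Lrfl Lrfl
theorem f68290 : Led Lsl_ct (LP (LK LD1_c3 LD2_c6 LD3_c33)) = (LP (LK LD1_c6 LD2_c18 LD3_c30)) :=
  Lre_c IH (LK LD1_c3 LD2_c6 LD3_c33) (LK LD1_c6 LD2_c18 LD3_c30) Lrfl Lrfl
theorem f68280 : Led Lsl_bt (LP (LK LD1_c1 LD2_c29 LD3_c29)) = (LP (LK LD1_c3 LD2_c6 LD3_c33)) :=
  Lre_b IH (LK LD1_c1 LD2_c29 LD3_c29) (LK LD1_c3 LD2_c6 LD3_c33) Lrfl Lrfl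
theorem f76611 : Led Lsl_ct (LP (LK LD1_c2 LD2_c52 LD3_c4)) = (LP (LK LD1_c1 LD2_c29 LD3_c29)) :=
  Lgr Lrot83 (Lpe (f73600 IH) (Lpe (f74229 IH) (Lpr_bf (f76605 IH) (Lpe (f68290 IH) (Lpe (f68280 IH) (Lpn (LP (LK LD1_c1 LD2_c29 LD3_c29))))))))
theorem f25576 : Led Lsl_gt (LP (LK LD1_c1 LD2_c29 LD3_c9)) = (LP (LK LD1_c3 LD2_c6 LD3_c9)) :=
  Lre_g IH (LK LD1_c1 LD2_c29 LD3_c9) (LK LD1_c3 LD2_c6 LD3_c9) Lrfl Lrfl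
theorem f25579 : Led Lsl_ct (LP (LK LD1_c3 LD2_c6 LD3_c9)) = (LP (LK LD1_c6 LD2_c17 LD3_c53)) :=
  Lre_c IH (LK LD1_c3 LD2_c6 LD3_c9) (LK LD1_c6 LD2_c17 LD3_c53) Lrfl Lrfl
theorem f444283 : Led Lsl_gf (LP (LK LD1_c6 LD2_c18 LD3_c55)) = (LP (LK LD1_c6 LD2_c17 LD3_c53)) :=
  Lgr Lrot104 (Lpr_ct (K2.f67461 IH) (Lpe (K2.f67464 IH) (Lpe (f76611 IH) (Lpr_gf (K16.f79881 IH) (Lpr_cf (f443952 IH) (Lpe (K29.f57673 IH) (Lpe (f25521 IH) (Lpr_gt (f25576 IH) (Lpr_ct (f25579 IH) (Lpn (LP (LK LD1_c6 LD2_c17 LD3_c53))))))))))))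
theorem f444285 : Led Lsl_gt (LP (LK LD1_c3 LD2_c11 LD3_c45)) = (LP (LK LD1_c6 LD2_c17 LD3_c53)) :=
  Lgr Lrot5 (Lpr_ft (K2.f67478 IH) (Lpe (K2.f67462 IH) (Lpr_gf (f444283 IH) (Lpn (LP (LK LD1_c6 LD2_c17 LD3_c53))))))
theorem f68257 : Led Lsl_ct (LP (LK LD1_c3 LD2_c6 LD3_c5)) = (LP (LK LD1_c6 LD2_c17 LD3_c48)) :=
  Lre_c IH (LK LD1_c3 LD2_c6 LD3_c5) (LK LD1_c6 LD2_c17 LD3_c48) Lrfl Lrfl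
theorem f68259 : Led Lsl_gf (LP (LK LD1_c12 LD2_c11 LD3_c61)) = (LP (LK LD1_c6 LD2_c27 LD3_c48)) :=
  Lgr Lrot143 (Lpr_dt (f68258 IH) (Lpe (f68257 IH) (Lpe (K29.f58489 IH) (Lpe (K29.f57673 IH) (Lpe (f25521 IH) (Lpe (K0.f25405 IH) (Lpe (f25522 IH) (Lpr_gt (f68252 IH) (Lpr_dt (K2.f67418 IH) (Lpn (LP (LK LD1_c6 LD2_c27 LD3_c48))))))))))))
theorem f25583 : Led Lsl_ct (LP (LK LD1_c6 LD2_c17 LD3_c53)) = (LP (LK LD1_c3 LD2_c6 LD3_c9)) :=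
  Lre_c IH (LK LD1_c6 LD2_c17 LD3_c53) (LK LD1_c3 LD2_c6 LD3_c9) Lrfl Lrfl
theorem f25577 : Led Lsl_gt (LP (LK LD1_c3 LD2_c6 LD3_c9)) = (LP (LK LD1_c3 LD2_c3 LD3_c5)) :=
  Lgr Lrot46 (Lpe (f25576 IH) (Lpr_ft (K0.f25557 IH) (Lpr_at (K0.f25558 IH) (Lpn (LP (LK LD1_c3 LD2_c3 LD3_c5))))))
theorem f7529 : Led Lsl_ct (LP (LK LD1_c6 LD2_c8 LD3_c24)) = (LP (LK LD1_c11 LD2_c58 LD3_c36)) :=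
  Lre_c IH (LK LD1_c6 LD2_c8 LD3_c24) (LK LD1_c11 LD2_c58 LD3_c36) Lrfl Lrfl
theorem f9100 : Led Lsl_gt (LP (LK LD1_c11 LD2_c58 LD3_c35)) = (LP (LK LD1_c6 LD2_c8 LD3_c24)) :=
  Lre_g IH (LK LD1_c11 LD2_c58 LD3_c35) (LK LD1_c6 LD2_c8 LD3_c24) Lrfl Lrfl
theorem f444289 : Led Lsl_ct (LP (LK LD1_c12 LD2_c11 LD3_c61)) = (LP (LK LD1_c11 LD2_c58 LD3_c35)) :=
  Lgr Lrot152 (Lpr_gf (f68259 IH) (Lpe (K2.f67418 IH) (Lpr_gt (f444285 IH) (Lpr_ct (f25583 IH) (Lpr_gt (f25577 IH) (Lpr_ct (K1.f25532 IH) (Lpe (K0.f7541 IH) (Lpe (f7529 IH) (Lpe (f9100 IH) (Lpn (LP (LK LD1_c11 LD2_c58 LD3_c35))))))))))))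
theorem f444292 : Led Lsl_cf (LP (LK LD1_c12 LD2_c11 LD3_c61)) = (LP (LK LD1_c11 LD2_c58 LD3_c35)) :=
  Lgr Lrot11 (Lpr_ct (f444289 IH) (Lpn (LP (LK LD1_c11 LD2_c58 LD3_c35))))
theorem f57642 : Led Lsl_ct (LP (LK LD1_c5 LD2_c47 LD3_c40)) = (LP (LK LD1_c11 LD2_c25 LD3_c9)) :=
  Lre_c IH (LK LD1_c5 LD2_c47 LD3_c40) (LK LD1_c11 LD2_c25 LD3_c9) Lrfl Lrfl
theorem f503400 : Led Lsl_df (LP (LK LD1_c11 LD2_c58 LD3_c35)) = (LP (LK LD1_c11 LD2_c25 LD3_c9)) :=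
  Lgr Lrot13 (Lpe (f444292 IH) (Lpr_dt (f68258 IH) (Lpr_ct (f68261 IH) (Lpe (f503398 IH) (Lpr_ff (f503388 IH) (Lpr_dt (f25647 IH) (Lpr_ct (f57630 IH) (Lpr_dt (f57641 IH) (Lpr_ct (f57642 IH) (Lpn (LP (LK LD1_c11 LD2_c25 LD3_c9))))))))))))
theorem f503386 : Led Lsl_ff (LP (LK LD1_c2 LD2_c52 LD3_c2)) = (LP (LK LD1_c2 LD2_c49 LD3_c47)) :=
  Lgr Lrot23 (Lpe (f416055 IH) (Lpq (f503373 IH) (Lpe (f503220 IH) (Lpr_ct (f57630 IH) (Lpn (LP (LK LD1_c2 LD2_c49 LD3_c47)))))))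
theorem f503404 : Led Lsl_af (LP (LK LD1_c2 LD2_c49 LD3_c46)) = (LP (LK LD1_c2 LD2_c52 LD3_c2)) :=
  Lgr Lrot109 (Lpr_cf (f443952 IH) (Lpe (K29.f57674 IH) (Lpe (f68261 IH) (Lpe (f68258 IH) (Lpr_cf (f444292 IH) (Lpr_df (f503400 IH) (Lpe (f57642 IH) (Lpe (f57641 IH) (Lpe (f503386 IH) (Lpn (LP (LK LD1_c2 LD2_c52 LD3_c2))))))))))))
theorem f503406 : Led Lsl_at (LP (LK LD1_c2 LD2_c49 LD3_c46)) = (LP (LK LD1_c2 LD2_c52 LD3_c2)) :=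
  Lgr Lrot100 (Lpr_af (f503404 IH) (Lpn (LP (LK LD1_c2 LD2_c52 LD3_c2))))
theorem f503413 : Led Lsl_ff (LP (LK LD1_c2 LD2_c49 LD3_c46)) = (LP (LK LD1_c2 LD2_c52 LD3_c3)) :=
  Lgr Lrot52 (Lpr_at (f503406 IH) (Lpe (K31.f73607 IH) (Lpe (f73619 IH) (Lpn (LP (LK LD1_c2 LD2_c52 LD3_c3))))))
theorem f503417 : Led Lsl_ft (LP (LK LD1_c2 LD2_c49 LD3_c46)) = (LP (LK LD1_c2 LD2_c52 LD3_c3)) :=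
  Lgr Lrot48 (Lpr_ff (f503413 IH) (Lpn (LP (LK LD1_c2 LD2_c52 LD3_c3))))
theorem f503419 : Led Lsl_af (LP (LK LD1_c2 LD2_c49 LD3_c47)) = (LP (LK LD1_c2 LD2_c52 LD3_c3)) :=
  Lgr Lrot45 (Lpe (f503386 IH) (Lpe (f503404 IH) (Lpr_ft (f503417 IH) (Lpn (LP (LK LD1_c2 LD2_c52 LD3_c3))))))
theorem f73625 : Led Lsl_dt (LP (LK LD1_c5 LD2_c51 LD3_c40)) = (LP (LK LD1_c2 LD2_c52 LD3_c3)) :=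
  Lre_d IH (LK LD1_c5 LD2_c51 LD3_c40) (LK LD1_c2 LD2_c52 LD3_c3) Lrfl Lrfl
theorem f503425 : Led Lsl_at (LP (LK LD1_c5 LD2_c47 LD3_c40)) = (LP (LK LD1_c5 LD2_c51 LD3_c40)) :=
  Lgr Lrot51 (Lpe (f57641 IH) (Lpr_af (f503419 IH) (Lpe (f73625 IH) (Lpn (LP (LK LD1_c5 LD2_c51 LD3_c40))))))
theorem f503459 : Led Lsl_af (LP (LK LD1_c5 LD2_c47 LD3_c40)) = (LP (LK LD1_c5 LD2_c51 LD3_c40)) :=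
  Lgr Lrot0 (Lpr_at (f503425 IH) (Lpn (LP (LK LD1_c5 LD2_c51 LD3_c40))))
theorem f59433 : Led Lsl_dt (LP (LK LD1_c2 LD2_c49 LD3_c46)) = (LP (LK LD1_c5 LD2_c47 LD3_c38)) :=
  Lre_d IH (LK LD1_c2 LD2_c49 LD3_c46) (LK LD1_c5 LD2_c47 LD3_c38) Lrfl Lrfl
theorem f503415 : Led Lsl_ft (LP (LK LD1_c5 LD2_c47 LD3_c38)) = (LP (LK LD1_c5 LD2_c51 LD3_c40)) :=
  Lgr Lrot54 (Lpe (f59433 IH) (Lpr_ff (f503413 IH) (Lpe (f73625 IH) (Lpn (LP (LK LD1_c5 LD2_c51 LD3_c40))))))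
theorem f59436 : Led Lsl_et (LP (LK LD1_c2 LD2_c51 LD3_c30)) = (LP (LK LD1_c1 LD2_c21 LD3_c47)) :=
  Lre_e IH (LK LD1_c2 LD2_c51 LD3_c30) (LK LD1_c1 LD2_c21 LD3_c47) Lrfl Lrfl
theorem f59437 : Led Lsl_dt (LP (LK LD1_c2 LD2_c51 LD3_c30)) = (LP (LK LD1_c5 LD2_c50 LD3_c39)) :=
  Lre_d IH (LK LD1_c2 LD2_c51 LD3_c30) (LK LD1_c5 LD2_c50 LD3_c39) Lrfl Lrfl
theorem f59438 : Led Lsl_gt (LP (LK LD1_c5 LD2_c47 LD3_c38)) = (LP (LK LD1_c5 LD2_c50 LD3_c39)) :=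
  Lgr Lrot139 (Lpe (f59433 IH) (Lpe (K16.f59432 IH) (Lpe (K2.f59431 IH) (Lpr_dt (K1.f56584 IH) (Lpr_gf (K1.f59332 IH) (Lpe (K0.f20275 IH) (Lpr_et (K6.f59434 IH) (Lpe (K31.f59435 IH) (Lpe (f59436 IH) (Lpr_dt (f59437 IH) (Lpn (LP (LK LD1_c5 LD2_c50 LD3_c39)))))))))))))
theorem f503471 : Led Lsl_gf (LP (LK LD1_c5 LD2_c47 LD3_c40)) = (LP (LK LD1_c5 LD2_c50 LD3_c39)) :=
  Lgr Lrot76 (Lpr_af (f503459 IH) (Lpe (f503415 IH) (Lpr_gt (f59438 IH) (Lpn (LP (LK LD1_c5 LD2_c50 LD3_c39))))))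
theorem f146417 : Led Lsl_at (LP (LK LD1_c4 LD2_c34 LD3_c7)) = (LP (LK LD1_c2 LD2_c50 LD3_c34)) :=
  Lgr Lrot100 (Lpr_af (K6.f146412 IH) (Lpn (LP (LK LD1_c2 LD2_c50 LD3_c34))))
theorem f437396 : Led Lsl_ft (LP (LK LD1_c2 LD2_c13 LD3_c57)) = (LP (LK LD1_c4 LD2_c34 LD3_c7)) :=
  Lre_f IH (LK LD1_c2 LD2_c13 LD3_c57) (LK LD1_c4 LD2_c34 LD3_c7) Lrfl Lrfl
theorem f211022 : Led Lsl_gt (LP (LK LD1_c2 LD2_c13 LD3_c57)) = (LP (LK LD1_c4 LD2_c34 LD3_c6)) :=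
  Lre_g IH (LK LD1_c2 LD2_c13 LD3_c57) (LK LD1_c4 LD2_c34 LD3_c6) Lrfl Lrfl
theorem f437488 : Led Lsl_gt (LP (LK LD1_c4 LD2_c34 LD3_c6)) = (LP (LK LD1_c2 LD2_c50 LD3_c34)) :=
  Lgr Lrot46 (Lpe (f211022 IH) (Lpr_ft (f437396 IH) (Lpr_at (f146417 IH) (Lpn (LP (LK LD1_c2 LD2_c50 LD3_c34))))))
theorem f505146 : Led Lsl_df (LP (LK LD1_c4 LD2_c34 LD3_c6)) = (LP (LK LD1_c5 LD2_c52 LD3_c47)) :=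
  Lgr Lrot135 (Lpr_gt (f437488 IH) (Lpe (K6.f57194 IH) (Lpe (K6.f146440 IH) (Lpr_gt (f438773 IH) (Lpe (f59436 IH) (Lpr_dt (f59437 IH) (Lpe (f503471 IH) (Lpe (f57641 IH) (Lpr_et (f57629 IH) (Lpr_gt (f505140 IH) (Lpn (LP (LK LD1_c5 LD2_c52 LD3_c47)))))))))))))
theorem f505153 : Led Lsl_dt (LP (LK LD1_c4 LD2_c34 LD3_c6)) = (LP (LK LD1_c5 LD2_c52 LD3_c47)) :=
  Lgr Lrot42 (Lpr_df (f505146 IH) (Lpn (LP (LK LD1_c5 LD2_c52 LD3_c47))))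
theorem f69271 : Led Lsl_dt (LP (LK LD1_c1 LD2_c4 LD3_c0)) = (LP (LK LD1_c2 LD2_c13 LD3_c57)) :=
  Lre_d IH (LK LD1_c1 LD2_c4 LD3_c0) (LK LD1_c2 LD2_c13 LD3_c57) Lrfl Lrfl
theorem f77741 : Led Lsl_dt (LP (LK LD1_c1 LD2_c32 LD3_c6)) = (LP (LK LD1_c3 LD2_c11 LD3_c27)) :=
  Lre_d IH (LK LD1_c1 LD2_c32 LD3_c6) (LK LD1_c3 LD2_c11 LD3_c27) Lrfl Lrfl
theorem f505171 : Led Lsl_ct (LP (LK LD1_c3 LD2_c11 LD3_c27)) = (LP (LK LD1_c5 LD2_c52 LD3_c47)) :=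
  Lgr Lrot7 (Lpe (f77741 IH) (Lpe (f67068 IH) (Lpe (K11.f67067 IH) (Lpe (K9.f67048 IH) (Lpe (f69073 IH) (Lpr_gt (K17.f416250 IH) (Lpr_dt (f69271 IH) (Lpr_gt (f211022 IH) (Lpr_dt (f505153 IH) (Lpn (LP (LK LD1_c5 LD2_c52 LD3_c47))))))))))))
theorem f56698 : Led Lsl_ft (LP (LK LD1_c5 LD2_c52 LD3_c47)) = (LP (LK LD1_c2 LD2_c52 LD3_c38)) :=
  Lre_f IH (LK LD1_c5 LD2_c52 LD3_c47) (LK LD1_c2 LD2_c52 LD3_c38) Lrfl Lrfl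
theorem f505174 : Led Lsl_ff (LP (LK LD1_c3 LD2_c11 LD3_c27)) = (LP (LK LD1_c2 LD2_c19 LD3_c43)) :=
  Lgr Lrot23 (Lpr_ct (f505171 IH) (Lpr_ft (f56698 IH) (Lpe (K24.f438434 IH) (Lpn (LP (LK LD1_c2 LD2_c19 LD3_c43))))))
theorem f150509 : Led Lsl_dt (LP (LK LD1_c4 LD2_c38 LD3_c42)) = (LP (LK LD1_c2 LD2_c16 LD3_c23)) :=
  Lre_d IH (LK LD1_c4 LD2_c38 LD3_c42) (LK LD1_c2 LD2_c16 LD3_c23) Lrfl Lrfl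
theorem f67069 : Led Lsl_dt (LP (LK LD1_c3 LD2_c11 LD3_c27)) = (LP (LK LD1_c1 LD2_c32 LD3_c6)) :=
  Lre_d IH (LK LD1_c3 LD2_c11 LD3_c27) (LK LD1_c1 LD2_c32 LD3_c6) Lrfl Lrfl
theorem f445912 : Led Lsl_gt (LP (LK LD1_c3 LD2_c12 LD3_c56)) = (LP (LK LD1_c3 LD2_c11 LD3_c27)) :=
  Lgr Lrot94 (Lpr_cf (K29.f445906 IH) (Lpe (K16.f421007 IH) (Lpr_dt (K16.f59862 IH) (Lpe (K16.f210140 IH) (Lpr_dt (f150509 IH) (Lpr_cf (K11.f150490 IH) (Lpe (f150502 IH) (Lpe (f435357 IH) (Lpe (f67069 IH) (Lpn (LP (LK LD1_c3 LD2_c11 LD3_c27))))))))))))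
theorem f79753 : Led Lsl_ft (LP (LK LD1_c1 LD2_c32 LD3_c60)) = (LP (LK LD1_c3 LD2_c13 LD3_c6)) :=
  Lre_f IH (LK LD1_c1 LD2_c32 LD3_c60) (LK LD1_c3 LD2_c13 LD3_c6) Lrfl Lrfl
theorem f445958 : Led Lsl_af (LP (LK LD1_c3 LD2_c11 LD3_c27)) = (LP (LK LD1_c3 LD2_c13 LD3_c6)) :=
  Lgr Lrot31 (Lpe (f445912 IH) (Lpr_gf (K24.f445956 IH) (Lpr_ft (f79753 IH) (Lpn (LP (LK LD1_c3 LD2_c13 LD3_c6))))))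
theorem f446025 : Led Lsl_at (LP (LK LD1_c3 LD2_c11 LD3_c27)) = (LP (LK LD1_c3 LD2_c13 LD3_c6)) :=
  Lgr Lrot100 (Lpr_af (f445958 IH) (Lpn (LP (LK LD1_c3 LD2_c13 LD3_c6))))
theorem f505186 : Led Lsl_gf (LP (LK LD1_c3 LD2_c13 LD3_c6)) = (LP (LK LD1_c3 LD2_c6 LD3_c44)) :=
  Lgr Lrot76 (Lpe (f446025 IH) (Lpr_ff (f505174 IH) (Lpr_gt (f442831 IH) (Lpn (LP (LK LD1_c3 LD2_c6 LD3_c44))))))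
theorem f504818 : Led Lsl_et v471 = v1885 :=
  Lgr Lrot87 (Lpr_ef (f504817 IH) (Lpn v1885))
def v1301 : LQ := Led Lsl_et (LP (LK LD1_c1 LD2_c6 LD3_c12))
theorem f494709 : Led Lsl_et (LP (LK LD1_c1 LD2_c6 LD3_c12)) = v1301 :=
  Lrfl
theorem f504901 : v1885 = v1301 :=
  Lefun (Lecon (f504818 IH) (f504879 IH).symm) (f494709 IH)
theorem f13576 : Led Lsl_ct (LP (LK LD1_c1 LD2_c32 LD3_c59)) = (LP (LK LD1_c3 LD2_c13 LD3_c3)) :=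
  Lre_c IH (LK LD1_c1 LD2_c32 LD3_c59) (LK LD1_c3 LD2_c13 LD3_c3) Lrfl Lrfl
theorem f140772 : Led Lsl_ct (LP (LK LD1_c5 LD2_c0 LD3_c15)) = (LP (LK LD1_c3 LD2_c13 LD3_c4)) :=
  Lgr Lrot15 (Lpr_ef (f140770 IH) (Lpe (f13576 IH) (Lpe (f13579 IH) (Lpn (LP (LK LD1_c3 LD2_c13 LD3_c4))))))
theorem f500036 : Led Lsl_cf (LP (LK LD1_c2 LD2_c51 LD3_c30)) = v1301 :=
  Lgr Lrot39 (Lpr_et (f59436 IH) (Lpq (K31.f500029 IH) (Lpe (K31.f494707 IH) (Lpr_et (f494709 IH) (Lpn v1301)))))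
theorem f504902 : Led Lsl_ff (LP (LK LD1_c5 LD2_c0 LD3_c15)) = (LP (LK LD1_c2 LD2_c51 LD3_c30)) :=
  Lgr Lrot23 (Lpr_ct (f140772 IH) (Lpr_ft (f504825 IH) (Lpqs (f504901 IH) (Lpe (f500036 IH) (Lpn (LP (LK LD1_c2 LD2_c51 LD3_c30)))))))
theorem f504906 : Led Lsl_ft (LP (LK LD1_c5 LD2_c0 LD3_c15)) = (LP (LK LD1_c2 LD2_c51 LD3_c30)) :=
  Lgr Lrot48 (Lpr_ff (f504902 IH) (Lpn (LP (LK LD1_c2 LD2_c51 LD3_c30))))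
theorem f500026 : Led Lsl_ct K31.v1298 = K31.v1572 :=
  Lgr Lrot59 (Lpr_cf (K31.f500025 IH) (Lpn K31.v1572))
theorem f504876 : K31.v1572 = (LP (LK LD1_c1 LD2_c30 LD3_c26)) :=
  Lefun (Lecon (f500026 IH) (f504861 IH).symm) (f435552 IH)
theorem f438465 : Led Lsl_et (LP (LK LD1_c1 LD2_c30 LD3_c26)) = (LP (LK LD1_c3 LD2_c8 LD3_c31)) :=
  Lre_e IH (LK LD1_c1 LD2_c30 LD3_c26) (LK LD1_c3 LD2_c8 LD3_c31) Lrfl Lrfl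
theorem f504908 : Led Lsl_ff (LP (LK LD1_c3 LD2_c13 LD3_c3)) = (LP (LK LD1_c3 LD2_c8 LD3_c31)) :=
  Lgr Lrot72 (Lpe (f140770 IH) (Lpr_ft (f504906 IH) (Lpr_et (f59436 IH) (Lpq (K31.f500029 IH) (Lpr_ft (K31.f500027 IH) (Lpqs (f504876 IH) (Lpr_et (f438465 IH) (Lpn (LP (LK LD1_c3 LD2_c8 LD3_c31))))))))))
theorem f454583 : Led Lsl_ef (LP (LK LD1_c2 LD2_c22 LD3_c41)) = (LP (LK LD1_c3 LD2_c21 LD3_c55)) :=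
  Lgr Lrot20 (Lpr_at (K24.f454178 IH) (Lpr_et (K24.f139946 IH) (Lpr_at (K24.f454578 IH) (Lpn (LP (LK LD1_c3 LD2_c21 LD3_c55))))))
theorem f454589 : Led Lsl_et (LP (LK LD1_c2 LD2_c22 LD3_c41)) = (LP (LK LD1_c3 LD2_c21 LD3_c55)) :=
  Lgr Lrot87 (Lpr_ef (f454583 IH) (Lpn (LP (LK LD1_c3 LD2_c21 LD3_c55))))
theorem f414317 : Led Lsl_et (LP (LK LD1_c4 LD2_c41 LD3_c15)) = (LP (LK LD1_c2 LD2_c17 LD3_c39)) :=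
  Lre_e IH (LK LD1_c4 LD2_c41 LD3_c15) (LK LD1_c2 LD2_c17 LD3_c39) Lrfl Lrfl
theorem f22728 : Led Lsl_et (LP (LK LD1_c0 LD2_c38 LD3_c10)) = (LP (LK LD1_c0 LD2_c17 LD3_c0)) :=
  Lre_e IH (LK LD1_c0 LD2_c38 LD3_c10) (LK LD1_c0 LD2_c17 LD3_c0) Lrfl Lrfl
theorem f438469 : Led Lsl_gf (LP (LK LD1_c1 LD2_c30 LD3_c26)) = (LP (LK LD1_c1 LD2_c4 LD3_c11)) :=
  Lgr Lrot141 (Lpe (f438459 IH) (Lpr_dt (f438457 IH) (Lpr_gt (f22527 IH) (Lpe (K7.f22726 IH) (Lpr_et (f22728 IH) (Lpr_gt (K2.f68330 IH) (Lpr_dt (K4.f59645 IH) (Lpe (K1.f59640 IH) (Lpe (K0.f20199 IH) (Lpr_et (K31.f20246 IH) (Lpn (LP (LK LD1_c1 LD2_c4 LD3_c11)))))))))))))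
theorem f438460 : Led Lsl_dt (LP (LK LD1_c1 LD2_c30 LD3_c26)) = (LP (LK LD1_c3 LD2_c8 LD3_c30)) :=
  Lre_d IH (LK LD1_c1 LD2_c30 LD3_c26) (LK LD1_c3 LD2_c8 LD3_c30) Lrfl Lrfl
theorem f438471 : Led Lsl_gt (LP (LK LD1_c3 LD2_c8 LD3_c30)) = (LP (LK LD1_c6 LD2_c21 LD3_c40)) :=
  Lre_g IH (LK LD1_c3 LD2_c8 LD3_c30) (LK LD1_c6 LD2_c21 LD3_c40) Lrfl Lrfl
theorem f438484 : Led Lsl_df (LP (LK LD1_c6 LD2_c21 LD3_c40)) = (LP (LK LD1_c4 LD2_c41 LD3_c15)) :=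
  Lgr Lrot132 (Lpe (f438471 IH) (Lpe (f438460 IH) (Lpr_gf (f438469 IH) (Lpe (K31.f20246 IH) (Lpr_dt (K0.f20199 IH) (Lpr_gf (K1.f59640 IH) (Lpe (K4.f59645 IH) (Lpr_et (K17.f59656 IH) (Lpr_gf (K17.f414276 IH) (Lpe (f414317 IH) (Lpn (LP (LK LD1_c4 LD2_c41 LD3_c15)))))))))))))
theorem f454593 : Led Lsl_gf (LP (LK LD1_c3 LD2_c8 LD3_c31)) = (LP (LK LD1_c3 LD2_c21 LD3_c55)) :=
  Lgr Lrot141 (Lpe (f438465 IH) (Lpr_dt (f438460 IH) (Lpr_gt (f438471 IH) (Lpr_df (f438484 IH) (Lpr_et (f414317 IH) (Lpe (K17.f414276 IH) (Lpr_dt (K17.f20297 IH) (Lpr_gt (K24.f414303 IH) (Lpe (K24.f414316 IH) (Lpr_et (f454589 IH) (Lpn (LP (LK LD1_c3 LD2_c21 LD3_c55)))))))))))))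
theorem f454595 : Led Lsl_gt (LP (LK LD1_c3 LD2_c8 LD3_c31)) = (LP (LK LD1_c2 LD2_c22 LD3_c48)) :=
  Lgr Lrot46 (Lpr_gf (f454593 IH) (Lpr_ft (K24.f454012 IH) (Lpe (K24.f454572 IH) (Lpn (LP (LK LD1_c2 LD2_c22 LD3_c48))))))
theorem f504924 : Led Lsl_at (LP (LK LD1_c3 LD2_c13 LD3_c3)) = (LP (LK LD1_c4 LD2_c43 LD3_c49)) :=
  Lgr Lrot26 (Lpr_ff (f504908 IH) (Lpr_gt (f454595 IH) (Lpr_gt (K24.f446147 IH) (Lpn (LP (LK LD1_c4 LD2_c43 LD3_c49))))))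
theorem f504930 : Led Lsl_af (LP (LK LD1_c4 LD2_c35 LD3_c2)) = (LP (LK LD1_c2 LD2_c52 LD3_c41)) :=
  Lgr Lrot117 (Lpr_dt (f140745 IH) (Lpr_at (f504924 IH) (Lpe (K24.f445647 IH) (Lpn (LP (LK LD1_c2 LD2_c52 LD3_c41))))))
theorem f504932 : Led Lsl_at (LP (LK LD1_c4 LD2_c35 LD3_c2)) = (LP (LK LD1_c2 LD2_c52 LD3_c41)) :=
  Lgr Lrot100 (Lpr_af (f504930 IH) (Lpn (LP (LK LD1_c2 LD2_c52 LD3_c41))))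
theorem f504940 : Led Lsl_ff (LP (LK LD1_c4 LD2_c35 LD3_c2)) = (LP (LK LD1_c2 LD2_c52 LD3_c42)) :=
  Lgr Lrot52 (Lpr_at (f504932 IH) (Lpe (K24.f79887 IH) (Lpe (f22527 IH) (Lpn (LP (LK LD1_c2 LD2_c52 LD3_c42))))))
theorem f140766 : Led Lsl_bt (LP (LK LD1_c4 LD2_c35 LD3_c2)) = (LP (LK LD1_c9 LD2_c6 LD3_c52)) :=
  Lre_b IH (LK LD1_c4 LD2_c35 LD3_c2) (LK LD1_c9 LD2_c6 LD3_c52) Lrfl Lrfl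
theorem f22533 : Led Lsl_bt (LP (LK LD1_c5 LD2_c52 LD3_c53)) = (LP (LK LD1_c2 LD2_c52 LD3_c42)) :=
  Lre_b IH (LK LD1_c5 LD2_c52 LD3_c53) (LK LD1_c2 LD2_c52 LD3_c42) Lrfl Lrfl
theorem f504942 : Led Lsl_ft (LP (LK LD1_c9 LD2_c6 LD3_c52)) = (LP (LK LD1_c5 LD2_c52 LD3_c53)) :=
  Lgr Lrot75 (Lpe (f140766 IH) (Lpr_ff (f504940 IH) (Lpe (f22533 IH) (Lpn (LP (LK LD1_c5 LD2_c52 LD3_c53))))))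
theorem f140752 : Led Lsl_bt (LP (LK LD1_c9 LD2_c6 LD3_c52)) = (LP (LK LD1_c4 LD2_c35 LD3_c2)) :=
  Lre_b IH (LK LD1_c9 LD2_c6 LD3_c52) (LK LD1_c4 LD2_c35 LD3_c2) Lrfl Lrfl
theorem f140753 : Led Lsl_bt (LP (LK LD1_c3 LD2_c13 LD3_c3)) = (LP (LK LD1_c6 LD2_c30 LD3_c6)) :=
  Lre_b IH (LK LD1_c3 LD2_c13 LD3_c3) (LK LD1_c6 LD2_c30 LD3_c6) Lrfl Lrfl
theorem f140754 : Led Lsl_df (LP (LK LD1_c9 LD2_c6 LD3_c52)) = (LP (LK LD1_c6 LD2_c30 LD3_c6)) :=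
  Lgr Lrot12 (Lpr_bt (f140752 IH) (Lpr_dt (f140745 IH) (Lpr_bt (f140753 IH) (Lpn (LP (LK LD1_c6 LD2_c30 LD3_c6))))))
theorem f438461 : Led Lsl_bt (LP (LK LD1_c6 LD2_c21 LD3_c39)) = (LP (LK LD1_c3 LD2_c8 LD3_c31)) :=
  Lre_b IH (LK LD1_c6 LD2_c21 LD3_c39) (LK LD1_c3 LD2_c8 LD3_c31) Lrfl Lrfl
theorem f438462 : Led Lsl_bt (LP (LK LD1_c2 LD2_c52 LD3_c42)) = (LP (LK LD1_c5 LD2_c52 LD3_c53)) :=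
  Lre_b IH (LK LD1_c2 LD2_c52 LD3_c42) (LK LD1_c5 LD2_c52 LD3_c53) Lrfl Lrfl
theorem f438463 : Led Lsl_df (LP (LK LD1_c6 LD2_c21 LD3_c39)) = (LP (LK LD1_c5 LD2_c52 LD3_c53)) :=
  Lgr Lrot12 (Lpr_bt (f438461 IH) (Lpr_dt (f438457 IH) (Lpr_bt (f438462 IH) (Lpn (LP (LK LD1_c5 LD2_c52 LD3_c53))))))
theorem f504946 : Led Lsl_ff (LP (LK LD1_c6 LD2_c30 LD3_c6)) = (LP (LK LD1_c6 LD2_c21 LD3_c39)) :=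
  Lgr Lrot19 (Lpe (f140754 IH) (Lpr_ft (f504942 IH) (Lpe (f438463 IH) (Lpn (LP (LK LD1_c6 LD2_c21 LD3_c39))))))
theorem f140784 : Led Lsl_ct (LP (LK LD1_c6 LD2_c30 LD3_c6)) = (LP (LK LD1_c12 LD2_c29 LD3_c40)) :=
  Lre_c IH (LK LD1_c6 LD2_c30 LD3_c6) (LK LD1_c12 LD2_c29 LD3_c40) Lrfl Lrfl
theorem f438659 : Led Lsl_ct (LP (LK LD1_c12 LD2_c16 LD3_c52)) = (LP (LK LD1_c6 LD2_c21 LD3_c39)) :=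
  Lre_c IH (LK LD1_c12 LD2_c16 LD3_c52) (LK LD1_c6 LD2_c21 LD3_c39) Lrfl Lrfl
theorem f504960 : Led Lsl_ft (LP (LK LD1_c12 LD2_c29 LD3_c40)) = (LP (LK LD1_c12 LD2_c16 LD3_c52)) :=
  Lgr Lrot4 (Lpe (f140784 IH) (Lpr_ff (f504946 IH) (Lpe (f438659 IH) (Lpn (LP (LK LD1_c12 LD2_c16 LD3_c52))))))
theorem f504966 : Led Lsl_ff (LP (LK LD1_c12 LD2_c29 LD3_c40)) = (LP (LK LD1_c12 LD2_c16 LD3_c52)) :=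
  Lgr Lrot3 (Lpr_ft (f504960 IH) (Lpn (LP (LK LD1_c12 LD2_c16 LD3_c52))))
theorem f140787 : Led Lsl_bt (LP (LK LD1_c12 LD2_c29 LD3_c40)) = (LP (LK LD1_c6 LD2_c29 LD3_c59)) :=
  Lre_b IH (LK LD1_c12 LD2_c29 LD3_c40) (LK LD1_c6 LD2_c29 LD3_c59) Lrfl Lrfl
theorem f82648 : Led Lsl_bt (LP (LK LD1_c6 LD2_c21 LD3_c29)) = (LP (LK LD1_c12 LD2_c16 LD3_c52)) :=
  Lre_b IH (LK LD1_c6 LD2_c21 LD3_c29) (LK LD1_c12 LD2_c16 LD3_c52) Lrfl Lrfl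
theorem f504968 : Led Lsl_ft (LP (LK LD1_c6 LD2_c29 LD3_c59)) = (LP (LK LD1_c6 LD2_c21 LD3_c29)) :=
  Lgr Lrot75 (Lpe (f140787 IH) (Lpr_ff (f504966 IH) (Lpe (f82648 IH) (Lpn (LP (LK LD1_c6 LD2_c21 LD3_c29))))))
theorem f504972 : Led Lsl_ct (LP (LK LD1_c3 LD2_c12 LD3_c59)) = (LP (LK LD1_c6 LD2_c29 LD3_c59)) :=
  Lre_c IH (LK LD1_c3 LD2_c12 LD3_c59) (LK LD1_c6 LD2_c29 LD3_c59) Lrfl Lrfl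
theorem f82634 : Led Lsl_ct (LP (LK LD1_c6 LD2_c21 LD3_c29)) = (LP (LK LD1_c3 LD2_c8 LD3_c28)) :=
  Lre_c IH (LK LD1_c6 LD2_c21 LD3_c29) (LK LD1_c3 LD2_c8 LD3_c28) Lrfl Lrfl
theorem f504973 : Led Lsl_ff (LP (LK LD1_c3 LD2_c12 LD3_c59)) = (LP (LK LD1_c3 LD2_c8 LD3_c28)) :=
  Lgr Lrot23 (Lpr_ct (f504972 IH) (Lpr_ft (f504968 IH) (Lpr_ct (f82634 IH) (Lpn (LP (LK LD1_c3 LD2_c8 LD3_c28))))))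
theorem f504979 : Led Lsl_ft (LP (LK LD1_c3 LD2_c12 LD3_c59)) = (LP (LK LD1_c3 LD2_c8 LD3_c28)) :=
  Lgr Lrot48 (Lpr_ff (f504973 IH) (Lpn (LP (LK LD1_c3 LD2_c8 LD3_c28))))
theorem f79818 : Led Lsl_dt (LP (LK LD1_c1 LD2_c32 LD3_c57)) = (LP (LK LD1_c3 LD2_c12 LD3_c59)) :=
  Lre_d IH (LK LD1_c1 LD2_c32 LD3_c57) (LK LD1_c3 LD2_c12 LD3_c59) Lrfl Lrfl
theorem f82613 : Led Lsl_bt (LP (LK LD1_c6 LD2_c21 LD3_c33)) = (LP (LK LD1_c3 LD2_c8 LD3_c35)) :=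
  Lre_b IH (LK LD1_c6 LD2_c21 LD3_c33) (LK LD1_c3 LD2_c8 LD3_c35) Lrfl Lrfl
theorem f82615 : Led Lsl_bt (LP (LK LD1_c2 LD2_c19 LD3_c45)) = (LP (LK LD1_c4 LD2_c43 LD3_c51)) :=
  Lre_b IH (LK LD1_c2 LD2_c19 LD3_c45) (LK LD1_c4 LD2_c43 LD3_c51) Lrfl Lrfl
theorem f82616 : Led Lsl_df (LP (LK LD1_c6 LD2_c21 LD3_c33)) = (LP (LK LD1_c4 LD2_c43 LD3_c51)) :=
  Lgr Lrot12 (Lpr_bt (f82613 IH) (Lpr_dt (K24.f82601 IH) (Lpr_bt (f82615 IH) (Lpn (LP (LK LD1_c4 LD2_c43 LD3_c51))))))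
theorem f82619 : Led Lsl_et (LP (LK LD1_c6 LD2_c21 LD3_c33)) = (LP (LK LD1_c3 LD2_c8 LD3_c27)) :=
  Lre_e IH (LK LD1_c6 LD2_c21 LD3_c33) (LK LD1_c3 LD2_c8 LD3_c27) Lrfl Lrfl
theorem f82620 : Led Lsl_dt (LP (LK LD1_c3 LD2_c8 LD3_c27)) = (LP (LK LD1_c1 LD2_c30 LD3_c25)) :=
  Lre_d IH (LK LD1_c3 LD2_c8 LD3_c27) (LK LD1_c1 LD2_c30 LD3_c25) Lrfl Lrfl
theorem f82621 : Led Lsl_et (LP (LK LD1_c1 LD2_c30 LD3_c25)) = (LP (LK LD1_c3 LD2_c8 LD3_c28)) :=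
  Lre_e IH (LK LD1_c1 LD2_c30 LD3_c25) (LK LD1_c3 LD2_c8 LD3_c28) Lrfl Lrfl
theorem f82622 : Led Lsl_et (LP (LK LD1_c2 LD2_c19 LD3_c44)) = (LP (LK LD1_c4 LD2_c43 LD3_c51)) :=
  Lre_e IH (LK LD1_c2 LD2_c19 LD3_c44) (LK LD1_c4 LD2_c43 LD3_c51) Lrfl Lrfl
theorem f82623 : Led Lsl_dt (LP (LK LD1_c3 LD2_c8 LD3_c28)) = (LP (LK LD1_c2 LD2_c19 LD3_c44)) :=
  Lgr Lrot77 (Lpe (f82621 IH) (Lpe (f82620 IH) (Lpe (f82619 IH) (Lpr_df (f82616 IH) (Lpe (f82622 IH) (Lpn (LP (LK LD1_c2 LD2_c19 LD3_c44))))))))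
theorem f504987 : Led Lsl_ff (LP (LK LD1_c1 LD2_c32 LD3_c57)) = (LP (LK LD1_c2 LD2_c19 LD3_c44)) :=
  Lgr Lrot19 (Lpr_dt (f79818 IH) (Lpr_ft (f504979 IH) (Lpr_dt (f82623 IH) (Lpn (LP (LK LD1_c2 LD2_c19 LD3_c44))))))
theorem f79778 : Led Lsl_et (LP (LK LD1_c1 LD2_c32 LD3_c57)) = (LP (LK LD1_c3 LD2_c12 LD3_c60)) :=
  Lre_e IH (LK LD1_c1 LD2_c32 LD3_c57) (LK LD1_c3 LD2_c12 LD3_c60) Lrfl Lrfl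
theorem f79792 : Led Lsl_ft (LP (LK LD1_c3 LD2_c12 LD3_c60)) = (LP (LK LD1_c6 LD2_c30 LD3_c1)) :=
  Lre_f IH (LK LD1_c3 LD2_c12 LD3_c60) (LK LD1_c6 LD2_c30 LD3_c1) Lrfl Lrfl
theorem f82632 : Led Lsl_et (LP (LK LD1_c4 LD2_c43 LD3_c51)) = (LP (LK LD1_c2 LD2_c19 LD3_c44)) :=
  Lre_e IH (LK LD1_c4 LD2_c43 LD3_c51) (LK LD1_c2 LD2_c19 LD3_c44) Lrfl Lrfl
theorem f82625 : Led Lsl_ft (LP (LK LD1_c9 LD2_c20 LD3_c43)) = (LP (LK LD1_c4 LD2_c43 LD3_c51)) :=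
  Lre_f IH (LK LD1_c9 LD2_c20 LD3_c43) (LK LD1_c4 LD2_c43 LD3_c51) Lrfl Lrfl
theorem f504991 : Led Lsl_et (LP (LK LD1_c6 LD2_c30 LD3_c1)) = (LP (LK LD1_c9 LD2_c20 LD3_c43)) :=
  Lgr Lrot69 (Lpe (f79792 IH) (Lpe (f79778 IH) (Lpr_ff (f504987 IH) (Lpe (f82632 IH) (Lpe (f82625 IH) (Lpn (LP (LK LD1_c9 LD2_c20 LD3_c43))))))))
theorem f446038 : Led Lsl_bt (LP (LK LD1_c3 LD2_c13 LD3_c6)) = (LP (LK LD1_c6 LD2_c30 LD3_c1)) :=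
  Lre_b IH (LK LD1_c3 LD2_c13 LD3_c6) (LK LD1_c6 LD2_c30 LD3_c1) Lrfl Lrfl
theorem f445616 : Led Lsl_bt (LP (LK LD1_c9 LD2_c20 LD3_c43)) = (LP (LK LD1_c4 LD2_c43 LD3_c53)) :=
  Lre_b IH (LK LD1_c9 LD2_c20 LD3_c43) (LK LD1_c4 LD2_c43 LD3_c53) Lrfl Lrfl
theorem f504993 : Led Lsl_ef (LP (LK LD1_c3 LD2_c13 LD3_c6)) = (LP (LK LD1_c4 LD2_c43 LD3_c53)) :=
  Lgr Lrot29 (Lpr_bt (f446038 IH) (Lpr_et (f504991 IH) (Lpr_bt (f445616 IH) (Lpn (LP (LK LD1_c4 LD2_c43 LD3_c53))))))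
def v1719 : LQ := Led Lsl_et (LP (LK LD1_c1 LD2_c24 LD3_c30))
theorem f501028 : Led Lsl_et (LP (LK LD1_c1 LD2_c24 LD3_c30)) = v1719 :=
  Lrfl
theorem f501031 : Led Lsl_gt (LP (LK LD1_c3 LD2_c13 LD3_c4)) = v1719 :=
  Lgr Lrot131 (Lpe (f79772 IH) (Lpr_dt (K11.f79748 IH) (Lpe (K11.f13558 IH) (Lpr_df (K11.f82665 IH) (Lpe (K11.f82680 IH) (Lpe (K24.f82689 IH) (Lpr_dt (K24.f82690 IH) (Lpe (K24.f140721 IH) (Lpe (K24.f140244 IH) (Lpr_et (f501028 IH) (Lpn v1719)))))))))))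
def v1884 : LQ := Led Lsl_gf (LP (LK LD1_c1 LD2_c30 LD3_c32))
theorem f504813 : Led Lsl_gf (LP (LK LD1_c1 LD2_c30 LD3_c32)) = v1884 :=
  Lrfl
theorem f504832 : v1719 = v1884 :=
  (Llr Lrot5 (Lpe (f501031 IH) (Lpr_ft (f504825 IH) (Lpe (f504815 IH) (Lpr_gf (f504813 IH) (Lpn v1884)))))).symm
theorem f505188 : Led Lsl_gt (LP (LK LD1_c3 LD2_c8 LD3_c47)) = (LP (LK LD1_c3 LD2_c6 LD3_c43)) :=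
  Lgr Lrot139 (Lpe (K9.f67307 IH) (Lpr_gf (f504813 IH) (Lpq (f504832 IH) (Lpe (f501028 IH) (Lpr_dt (K24.f140244 IH) (Lpe (f140241 IH) (Lpe (f505099 IH) (Lpe (f504993 IH) (Lpr_gf (f505186 IH) (Lpe (f61691 IH) (Lpr_dt (K17.f61698 IH) (Lpn (LP (LK LD1_c3 LD2_c6 LD3_c43))))))))))))))
theorem f23898 : Led Lsl_et (LP (LK LD1_c1 LD2_c24 LD3_c32)) = (LP (LK LD1_c0 LD2_c38 LD3_c57)) :=
  Lre_e IH (LK LD1_c1 LD2_c24 LD3_c32) (LK LD1_c0 LD2_c38 LD3_c57) Lrfl Lrfl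
theorem f501029 : Led Lsl_cf (LP (LK LD1_c1 LD2_c24 LD3_c32)) = v1719 :=
  Lgr Lrot39 (Lpr_et (f23898 IH) (Lpr_ct (K9.f140230 IH) (Lpr_et (f501028 IH) (Lpn v1719))))
theorem f444190 : Led Lsl_df (LP (LK LD1_c6 LD2_c18 LD3_c49)) = (LP (LK LD1_c12 LD2_c12 LD3_c11)) :=
  Lgr Lrot38 (Lpr_dt (f443964 IH) (Lpn (LP (LK LD1_c12 LD2_c12 LD3_c11))))
theorem f25703 : Led Lsl_gt (LP (LK LD1_c6 LD2_c17 LD3_c57)) = (LP (LK LD1_c3 LD2_c6 LD3_c11)) :=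
  Lre_g IH (LK LD1_c6 LD2_c17 LD3_c57) (LK LD1_c3 LD2_c6 LD3_c11) Lrfl Lrfl
theorem f444192 : Led Lsl_ct (LP (LK LD1_c3 LD2_c6 LD3_c45)) = (LP (LK LD1_c6 LD2_c17 LD3_c57)) :=
  Lgr Lrot8 (Lpr_gt (K9.f61771 IH) (Lpr_dt (K2.f61781 IH) (Lpr_gt (K31.f61832 IH) (Lpr_dt (K9.f67309 IH) (Lpe (f140092 IH) (Lpr_df (f444190 IH) (Lpe (f84035 IH) (Lpe (f58480 IH) (Lpe (f25703 IH) (Lpn (LP (LK LD1_c6 LD2_c17 LD3_c57))))))))))))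
theorem f68246 : Led Lsl_at (LP (LK LD1_c0 LD2_c42 LD3_c61)) = (LP (LK LD1_c0 LD2_c41 LD3_c20)) :=
  Lgr Lrot51 (Lpr_df (K2.f68231 IH) (Lpe (K29.f67431 IH) (Lpe (K9.f61696 IH) (Lpn (LP (LK LD1_c0 LD2_c41 LD3_c20))))))
theorem f443219 : Led Lsl_gt (LP (LK LD1_c1 LD2_c32 LD3_c56)) = (LP (LK LD1_c1 LD2_c29 LD3_c27)) :=
  Lgr Lrot5 (Lpr_ft (K2.f66947 IH) (Lpr_at (f68246 IH) (Lpe (K17.f61680 IH) (Lpn (LP (LK LD1_c1 LD2_c29 LD3_c27))))))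
theorem f25560 : Led Lsl_ct (LP (LK LD1_c3 LD2_c6 LD3_c11)) = (LP (LK LD1_c1 LD2_c29 LD3_c9)) :=
  Lre_c IH (LK LD1_c3 LD2_c6 LD3_c11) (LK LD1_c1 LD2_c29 LD3_c9) Lrfl Lrfl
theorem f58490 : Led Lsl_gt (LP (LK LD1_c1 LD2_c26 LD3_c12)) = (LP (LK LD1_c0 LD2_c39 LD3_c49)) :=
  Lre_g IH (LK LD1_c1 LD2_c26 LD3_c12) (LK LD1_c0 LD2_c39 LD3_c49) Lrfl Lrfl
theorem f444198 : Led Lsl_ct (LP (LK LD1_c1 LD2_c29 LD3_c27)) = (LP (LK LD1_c1 LD2_c26 LD3_c12)) :=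
  Lgr Lrot152 (Lpe (f443219 IH) (Lpr_df (K2.f68273 IH) (Lpe (K9.f67446 IH) (Lpr_ct (f444192 IH) (Lpr_gt (f25703 IH) (Lpr_ct (f25560 IH) (Lpe (K0.f25404 IH) (Lpe (K1.f58472 IH) (Lpe (f58490 IH) (Lpn (LP (LK LD1_c1 LD2_c26 LD3_c12))))))))))))
theorem f444204 : Led Lsl_cf (LP (LK LD1_c1 LD2_c29 LD3_c27)) = (LP (LK LD1_c1 LD2_c26 LD3_c12)) :=
  Lgr Lrot11 (Lpr_ct (f444198 IH) (Lpn (LP (LK LD1_c1 LD2_c26 LD3_c12))))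
theorem f58492 : Led Lsl_dt (LP (LK LD1_c3 LD2_c0 LD3_c50)) = (LP (LK LD1_c1 LD2_c26 LD3_c12)) :=
  Lre_d IH (LK LD1_c3 LD2_c0 LD3_c50) (LK LD1_c1 LD2_c26 LD3_c12) Lrfl Lrfl
theorem f272014 : Led Lsl_at (LP (LK LD1_c4 LD2_c7 LD3_c5)) = (LP (LK LD1_c2 LD2_c51 LD3_c33)) :=
  Lgr Lrot51 (Lpe (K10.f28394 IH) (Lpr_af (K16.f272010 IH) (Lpe (K11.f198625 IH) (Lpn (LP (LK LD1_c2 LD2_c51 LD3_c33))))))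
theorem f411183 : Led Lsl_af (LP (LK LD1_c4 LD2_c7 LD3_c5)) = (LP (LK LD1_c2 LD2_c51 LD3_c33)) :=
  Lgr Lrot0 (Lpr_at (f272014 IH) (Lpn (LP (LK LD1_c2 LD2_c51 LD3_c33))))
theorem f22171 : Led Lsl_et (LP (LK LD1_c5 LD2_c50 LD3_c44)) = (LP (LK LD1_c2 LD2_c51 LD3_c33)) :=
  Lre_e IH (LK LD1_c5 LD2_c50 LD3_c44) (LK LD1_c2 LD2_c51 LD3_c33) Lrfl Lrfl
theorem f411185 : Led Lsl_et (LP (LK LD1_c4 LD2_c7 LD3_c5)) = (LP (LK LD1_c6 LD2_c8 LD3_c13)) :=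
  Lgr Lrot123 (Lpr_af (f411183 IH) (Lpe (f22171 IH) (Lpe (K16.f411173 IH) (Lpn (LP (LK LD1_c6 LD2_c8 LD3_c13))))))
theorem f68652 : Led Lsl_et (LP (LK LD1_c2 LD2_c57 LD3_c24)) = (LP (LK LD1_c6 LD2_c2 LD3_c39)) :=
  Lre_e IH (LK LD1_c2 LD2_c57 LD3_c24) (LK LD1_c6 LD2_c2 LD3_c39) Lrfl Lrfl
theorem f411187 : Led Lsl_gf (LP (LK LD1_c6 LD2_c2 LD3_c39)) = (LP (LK LD1_c6 LD2_c8 LD3_c13)) :=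
  Lgr Lrot141 (Lpe (f68652 IH) (Lpr_dt (f68642 IH) (Lpr_gt (K29.f68641 IH) (Lpe (K11.f68640 IH) (Lpr_et (K11.f68573 IH) (Lpr_gt (K11.f68625 IH) (Lpe (K11.f68628 IH) (Lpr_gt (K10.f181153 IH) (Lpe (K18.f28397 IH) (Lpr_et (f411185 IH) (Lpn (LP (LK LD1_c6 LD2_c8 LD3_c13)))))))))))))
theorem f411190 : Led Lsl_dt (LP (LK LD1_c11 LD2_c49 LD3_c30)) = (LP (LK LD1_c6 LD2_c2 LD3_c39)) :=
  Lre_d IH (LK LD1_c11 LD2_c49 LD3_c30) (LK LD1_c6 LD2_c2 LD3_c39) Lrfl Lrfl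
theorem f411191 : Led Lsl_et (LP (LK LD1_c11 LD2_c49 LD3_c30)) = (LP (LK LD1_c6 LD2_c2 LD3_c40)) :=
  Lre_e IH (LK LD1_c11 LD2_c49 LD3_c30) (LK LD1_c6 LD2_c2 LD3_c40) Lrfl Lrfl
theorem f59954 : Led Lsl_et (LP (LK LD1_c3 LD2_c0 LD3_c20)) = (LP (LK LD1_c1 LD2_c25 LD3_c55)) :=
  Lre_e IH (LK LD1_c3 LD2_c0 LD3_c20) (LK LD1_c1 LD2_c25 LD3_c55) Lrfl Lrfl
theorem f176043 : Led Lsl_et (LP (LK LD1_c1 LD2_c25 LD3_c58)) = (LP (LK LD1_c0 LD2_c39 LD3_c41)) :=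
  Lre_e IH (LK LD1_c1 LD2_c25 LD3_c58) (LK LD1_c0 LD2_c39 LD3_c41) Lrfl Lrfl
theorem f411192 : Led Lsl_gt (LP (LK LD1_c6 LD2_c2 LD3_c40)) = (LP (LK LD1_c3 LD2_c0 LD3_c50)) :=
  Lgr Lrot137 (Lpe (f411191 IH) (Lpr_dt (f411190 IH) (Lpr_gf (f411187 IH) (Lpe (K16.f59955 IH) (Lpr_et (f59954 IH) (Lpe (K9.f9094 IH) (Lpe (f176043 IH) (Lpr_dt (K1.f22994 IH) (Lpe (f58490 IH) (Lpe (f58492 IH) (Lpn (LP (LK LD1_c3 LD2_c0 LD3_c50)))))))))))))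
theorem f505195 : v1723 = (LP (LK LD1_c2 LD2_c57 LD3_c25)) :=
  (Llr Lrot94 (Lpe (f501141 IH) (Lpr_cf (f501029 IH) (Lpqs (f504832 IH) (Lpe (f504813 IH) (Lpr_dt (K9.f67307 IH) (Lpr_gt (f505188 IH) (Lpr_dt (K17.f61692 IH) (Lpr_cf (f444204 IH) (Lpe (f58492 IH) (Lpe (f411192 IH) (Lpe (K29.f411195 IH) (Lpn (LP (LK LD1_c2 LD2_c57 LD3_c25))))))))))))))).symm
theorem f505196 : Led Lsl_gt (LP (LK LD1_c1 LD2_c24 LD3_c32)) = (LP (LK LD1_c2 LD2_c57 LD3_c25)) :=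
  Leop (Lpq (f505195 IH) (Lpe (f501141 IH) (Lpn (LP (LK LD1_c1 LD2_c24 LD3_c32)))))
theorem seed_135 : LEOK LG_g (LK LD1_c1 LD2_c24 LD3_c32) :=
  Leoe_g (LK LD1_c1 LD2_c24 LD3_c32) (f505196 IH)
theorem f146153 : Led Lsl_ct (LP (LK LD1_c6 LD2_c42 LD3_c56)) = (LP (LK LD1_c3 LD2_c19 LD3_c32)) :=
  Lre_c IH (LK LD1_c6 LD2_c42 LD3_c56) (LK LD1_c3 LD2_c19 LD3_c32) Lrfl Lrfl
theorem f505203 : Led Lsl_gf (LP (LK LD1_c6 LD2_c42 LD3_c56)) = (LP (LK LD1_c6 LD2_c18 LD3_c49)) :=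
  Lgr Lrot104 (Lpr_ct (f146153 IH) (Lpe (K29.f24632 IH) (Lpr_cf (K29.f443981 IH) (Lpq (f505195 IH) (Lpe (f501141 IH) (Lpr_cf (f501029 IH) (Lpe (f501031 IH) (Lpr_df (f79750 IH) (Lpr_gt (f435504 IH) (Lpr_ct (f140969 IH) (Lpn (LP (LK LD1_c6 LD2_c18 LD3_c49)))))))))))))
theorem f505204 : Led Lsl_gt (LP (LK LD1_c6 LD2_c18 LD3_c49)) = (LP (LK LD1_c6 LD2_c42 LD3_c56)) :=
  Leop (Lpr_gf (f505203 IH) (Lpn (LP (LK LD1_c6 LD2_c18 LD3_c49))))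
theorem seed_136 : LEOK LG_g (LK LD1_c6 LD2_c18 LD3_c49) :=
  Leoe_g (LK LD1_c6 LD2_c18 LD3_c49) (f505204 IH)
def v1968 : LQ := Led Lsl_dt (LP (LK LD1_c1 LD2_c32 LD3_c32))
theorem f506647 : Led Lsl_dt (LP (LK LD1_c1 LD2_c32 LD3_c32)) = v1968 :=
  Lrfl
theorem f129624 : Led Lsl_df (LP (LK LD1_c1 LD2_c33 LD3_c3)) = (LP (LK LD1_c3 LD2_c1 LD3_c51)) :=
  Lgr Lrot38 (Lpr_dt (K5.f129622 IH) (Lpn (LP (LK LD1_c3 LD2_c1 LD3_c51))))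
theorem f159234 : Led Lsl_at (LP (LK LD1_c7 LD2_c24 LD3_c59)) = (LP (LK LD1_c14 LD2_c1 LD3_c38)) :=
  Lre_a IH (LK LD1_c7 LD2_c24 LD3_c59) (LK LD1_c14 LD2_c1 LD3_c38) Lrfl Lrfl
theorem f159250 : Led Lsl_ff (LP (LK LD1_c7 LD2_c24 LD3_c59)) = (LP (LK LD1_c6 LD2_c31 LD3_c60)) :=
  Lgr Lrot30 (Lpr_at (f159234 IH) (Lpr_ft (K8.f159245 IH) (Lpr_at (K8.f157694 IH) (Lpn (LP (LK LD1_c6 LD2_c31 LD3_c60))))))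
theorem f428443 : Led Lsl_gf (LP (LK LD1_c14 LD2_c1 LD3_c38)) = (LP (LK LD1_c12 LD2_c31 LD3_c26)) :=
  Lgr Lrot76 (Lpe (f159234 IH) (Lpr_ff (f159250 IH) (Lpe (K8.f149833 IH) (Lpn (LP (LK LD1_c12 LD2_c31 LD3_c26))))))
theorem f62936 : Led Lsl_gt (LP (LK LD1_c3 LD2_c45 LD3_c18)) = (LP (LK LD1_c7 LD2_c31 LD3_c20)) :=
  Lre_g IH (LK LD1_c3 LD2_c45 LD3_c18) (LK LD1_c7 LD2_c31 LD3_c20) Lrfl Lrfl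
theorem f428445 : Led Lsl_df (LP (LK LD1_c6 LD2_c20 LD3_c9)) = (LP (LK LD1_c7 LD2_c31 LD3_c20)) :=
  Lgr Lrot153 (Lpe (K7.f141338 IH) (Lpr_dt (K7.f150591 IH) (Lpr_cf (K7.f130906 IH) (Lpe (K8.f130949 IH) (Lpr_gf (f428443 IH) (Lpe (K8.f148544 IH) (Lpe (K8.f148543 IH) (Lpe (K7.f148445 IH) (Lpr_gt (f62936 IH) (Lpn (LP (LK LD1_c7 LD2_c31 LD3_c20))))))))))))
theorem f108704 : Led Lsl_dt (LP (LK LD1_c9 LD2_c10 LD3_c37)) = (LP (LK LD1_c4 LD2_c37 LD3_c30)) :=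
  Lre_d IH (LK LD1_c9 LD2_c10 LD3_c37) (LK LD1_c4 LD2_c37 LD3_c30) Lrfl Lrfl
theorem f428453 : Led Lsl_ft (LP (LK LD1_c4 LD2_c37 LD3_c30)) = (LP (LK LD1_c7 LD2_c31 LD3_c20)) :=
  Lgr Lrot54 (Lpe (f108704 IH) (Lpr_ff (K6.f141330 IH) (Lpr_df (f428445 IH) (Lpn (LP (LK LD1_c7 LD2_c31 LD3_c20))))))
theorem f141317 : Led Lsl_ft (LP (LK LD1_c4 LD2_c36 LD3_c39)) = (LP (LK LD1_c2 LD2_c15 LD3_c58)) :=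
  Lre_f IH (LK LD1_c4 LD2_c36 LD3_c39) (LK LD1_c2 LD2_c15 LD3_c58) Lrfl Lrfl
theorem f428455 : Led Lsl_bf (LP (LK LD1_c4 LD2_c36 LD3_c39)) = (LP (LK LD1_c7 LD2_c31 LD3_c20)) :=
  Lgr Lrot61 (Lpr_ft (f141317 IH) (Lpr_bt (K28.f57105 IH) (Lpr_ft (f428453 IH) (Lpn (LP (LK LD1_c7 LD2_c31 LD3_c20))))))
theorem f428460 : Led Lsl_at (LP (LK LD1_c4 LD2_c36 LD3_c39)) = (LP (LK LD1_c2 LD2_c15 LD3_c46)) :=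
  Lre_a IH (LK LD1_c4 LD2_c36 LD3_c39) (LK LD1_c2 LD2_c15 LD3_c46) Lrfl Lrfl
theorem f25138 : Led Lsl_bt (LP (LK LD1_c2 LD2_c15 LD3_c46)) = (LP (LK LD1_c4 LD2_c37 LD3_c10)) :=
  Lre_b IH (LK LD1_c2 LD2_c15 LD3_c46) (LK LD1_c4 LD2_c37 LD3_c10) Lrfl Lrfl
theorem f94977 : Led Lsl_dt (LP (LK LD1_c3 LD2_c7 LD3_c39)) = (LP (LK LD1_c6 LD2_c20 LD3_c11)) :=
  Lre_d IH (LK LD1_c3 LD2_c7 LD3_c39) (LK LD1_c6 LD2_c20 LD3_c11) Lrfl Lrfl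
theorem f428447 : Led Lsl_at (LP (LK LD1_c6 LD2_c20 LD3_c11)) = (LP (LK LD1_c7 LD2_c31 LD3_c20)) :=
  Lgr Lrot51 (Lpe (f94977 IH) (Lpe (K6.f124784 IH) (Lpr_df (f428445 IH) (Lpn (LP (LK LD1_c7 LD2_c31 LD3_c20))))))
theorem f124796 : Led Lsl_bt (LP (LK LD1_c3 LD2_c7 LD3_c40)) = (LP (LK LD1_c6 LD2_c20 LD3_c11)) :=
  Lre_b IH (LK LD1_c3 LD2_c7 LD3_c40) (LK LD1_c6 LD2_c20 LD3_c11) Lrfl Lrfl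
theorem f428461 : Led Lsl_at (LP (LK LD1_c4 LD2_c37 LD3_c10)) = (LP (LK LD1_c3 LD2_c7 LD3_c40)) :=
  Lgr Lrot67 (Lpe (f25138 IH) (Lpe (f428460 IH) (Lpr_bf (f428455 IH) (Lpe (f428447 IH) (Lpe (f124796 IH) (Lpn (LP (LK LD1_c3 LD2_c7 LD3_c40))))))))
theorem f124544 : Led Lsl_dt (LP (LK LD1_c4 LD2_c43 LD3_c11)) = (LP (LK LD1_c2 LD2_c19 LD3_c16)) :=
  Lre_d IH (LK LD1_c4 LD2_c43 LD3_c11) (LK LD1_c2 LD2_c19 LD3_c16) Lrfl Lrfl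
theorem f124791 : Led Lsl_ft (LP (LK LD1_c3 LD2_c7 LD3_c40)) = (LP (LK LD1_c4 LD2_c43 LD3_c11)) :=
  Lgr Lrot54 (Lpe (K8.f69244 IH) (Lpr_ff (K5.f124785 IH) (Lpe (f124544 IH) (Lpn (LP (LK LD1_c4 LD2_c43 LD3_c11))))))
theorem f124560 : Led Lsl_dt (LP (LK LD1_c2 LD2_c19 LD3_c16)) = (LP (LK LD1_c4 LD2_c43 LD3_c11)) :=
  Lre_d IH (LK LD1_c2 LD2_c19 LD3_c16) (LK LD1_c4 LD2_c43 LD3_c11) Lrfl Lrfl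
theorem f104271 : Led Lsl_dt (LP (LK LD1_c3 LD2_c7 LD3_c43)) = (LP (LK LD1_c1 LD2_c30 LD3_c4)) :=
  Lre_d IH (LK LD1_c3 LD2_c7 LD3_c43) (LK LD1_c1 LD2_c30 LD3_c4) Lrfl Lrfl
theorem f128967 : Led Lsl_at (LP (LK LD1_c4 LD2_c43 LD3_c11)) = (LP (LK LD1_c3 LD2_c7 LD3_c43)) :=
  Lgr Lrot51 (Lpe (f124560 IH) (Lpr_af (K5.f128963 IH) (Lpe (f104271 IH) (Lpn (LP (LK LD1_c3 LD2_c7 LD3_c43))))))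
theorem f428467 : Led Lsl_ff (LP (LK LD1_c4 LD2_c37 LD3_c10)) = (LP (LK LD1_c3 LD2_c7 LD3_c43)) :=
  Lgr Lrot30 (Lpr_at (f428461 IH) (Lpr_ft (f124791 IH) (Lpr_at (f128967 IH) (Lpn (LP (LK LD1_c3 LD2_c7 LD3_c43))))))
theorem f104276 : Led Lsl_dt (LP (LK LD1_c1 LD2_c30 LD3_c4)) = (LP (LK LD1_c3 LD2_c7 LD3_c43)) :=
  Lre_d IH (LK LD1_c1 LD2_c30 LD3_c4) (LK LD1_c3 LD2_c7 LD3_c43) Lrfl Lrfl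
theorem f428469 : Led Lsl_dt (LP (LK LD1_c4 LD2_c37 LD3_c10)) = (LP (LK LD1_c2 LD2_c19 LD3_c17)) :=
  Lgr Lrot60 (Lpr_ff (f428467 IH) (Lpe (f104276 IH) (Lpe (K5.f128953 IH) (Lpn (LP (LK LD1_c2 LD2_c19 LD3_c17))))))
theorem f506652 : Led Lsl_gf (LP (LK LD1_c4 LD2_c37 LD3_c10)) = v1968 :=
  Lgr Lrot143 (Lpr_dt (f428469 IH) (Lpr_cf (K5.f124074 IH) (Lpe (K5.f23651 IH) (Lpe (K5.f124590 IH) (Lpr_df (f129624 IH) (Lpe (K5.f115552 IH) (Lpe (K5.f128917 IH) (Lpr_gt (K5.f82355 IH) (Lpr_dt (f506647 IH) (Lpn v1968))))))))))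
theorem f428463 : Led Lsl_af (LP (LK LD1_c4 LD2_c37 LD3_c10)) = (LP (LK LD1_c3 LD2_c7 LD3_c40)) :=
  Lgr Lrot0 (Lpr_at (f428461 IH) (Lpn (LP (LK LD1_c3 LD2_c7 LD3_c40))))
theorem f124794 : Led Lsl_ff (LP (LK LD1_c3 LD2_c7 LD3_c40)) = (LP (LK LD1_c4 LD2_c43 LD3_c11)) :=
  Lgr Lrot3 (Lpr_ft (f124791 IH) (Lpn (LP (LK LD1_c4 LD2_c43 LD3_c11))))
theorem f506654 : Led Lsl_gt (LP (LK LD1_c4 LD2_c43 LD3_c11)) = v1968 :=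
  Lgr Lrot5 (Lpe (f124794 IH) (Lpe (f428463 IH) (Lpr_gf (f506652 IH) (Lpn v1968))))
theorem f150578 : Led Lsl_et (LP (LK LD1_c2 LD2_c19 LD3_c19)) = (LP (LK LD1_c1 LD2_c6 LD3_c46)) :=
  Lre_e IH (LK LD1_c2 LD2_c19 LD3_c19) (LK LD1_c1 LD2_c6 LD3_c46) Lrfl Lrfl
theorem f150563 : Led Lsl_dt (LP (LK LD1_c2 LD2_c19 LD3_c19)) = (LP (LK LD1_c4 LD2_c43 LD3_c16)) :=
  Lre_d IH (LK LD1_c2 LD2_c19 LD3_c19) (LK LD1_c4 LD2_c43 LD3_c16) Lrfl Lrfl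
theorem f150534 : Led Lsl_gt (LP (LK LD1_c9 LD2_c20 LD3_c5)) = (LP (LK LD1_c4 LD2_c43 LD3_c16)) :=
  Lre_g IH (LK LD1_c9 LD2_c20 LD3_c5) (LK LD1_c4 LD2_c43 LD3_c16) Lrfl Lrfl
theorem f442412 : Led Lsl_et (LP (LK LD1_c1 LD2_c32 LD3_c32)) = (LP (LK LD1_c3 LD2_c12 LD3_c4)) :=
  Lre_e IH (LK LD1_c1 LD2_c32 LD3_c32) (LK LD1_c3 LD2_c12 LD3_c4) Lrfl Lrfl
theorem f494778 : Led Lsl_gt (LP (LK LD1_c3 LD2_c12 LD3_c4)) = (LP (LK LD1_c6 LD2_c28 LD3_c13)) :=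
  Lre_g IH (LK LD1_c3 LD2_c12 LD3_c4) (LK LD1_c6 LD2_c28 LD3_c13) Lrfl Lrfl
theorem f506653 : Led Lsl_et (LP (LK LD1_c12 LD2_c27 LD3_c47)) = (LP (LK LD1_c6 LD2_c28 LD3_c13)) :=
  Lre_e IH (LK LD1_c12 LD2_c27 LD3_c47) (LK LD1_c6 LD2_c28 LD3_c13) Lrfl Lrfl
theorem f506657 : Led Lsl_df (LP (LK LD1_c9 LD2_c20 LD3_c5)) = (LP (LK LD1_c12 LD2_c27 LD3_c47)) :=
  Lgr Lrot170 (Lpr_gt (f150534 IH) (Lpe (f150563 IH) (Lpr_et (f150578 IH) (Lpr_gt (K5.f26257 IH) (Lpr_dt (f124560 IH) (Lpr_gt (f506654 IH) (Lpe (f506647 IH) (Lpr_et (f442412 IH) (Lpr_gt (f494778 IH) (Lpe (f506653 IH) (Lpn (LP (LK LD1_c12 LD2_c27 LD3_c47)))))))))))))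
theorem f506658 : Led Lsl_dt (LP (LK LD1_c12 LD2_c27 LD3_c47)) = (LP (LK LD1_c9 LD2_c20 LD3_c5)) :=
  Leop (Lpr_df (f506657 IH) (Lpn (LP (LK LD1_c12 LD2_c27 LD3_c47))))
theorem seed_137 : LEOK LG_d (LK LD1_c12 LD2_c27 LD3_c47) :=
  Leoe_d (LK LD1_c12 LD2_c27 LD3_c47) (f506658 IH)
def v1980 : LQ := Led Lsl_dt (LP (LK LD1_c1 LD2_c32 LD3_c48))
theorem f506734 : Led Lsl_dt (LP (LK LD1_c1 LD2_c32 LD3_c48)) = v1980 :=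
  Lrfl
theorem f506738 : Led Lsl_ct (LP (LK LD1_c4 LD2_c49 LD3_c31)) = v1980 :=
  Lgr Lrot7 (Lpe (K24.f73939 IH) (Lpe (K24.f76939 IH) (Lpe (K0.f27058 IH) (Lpe (K17.f61053 IH) (Lpe (K17.f76927 IH) (Lpr_gt (K9.f73775 IH) (Lpe (K9.f73763 IH) (Lpr_gt (K9.f61021 IH) (Lpr_dt (f506734 IH) (Lpn v1980))))))))))
theorem f61022 : Led Lsl_et (LP (LK LD1_c3 LD2_c12 LD3_c43)) = (LP (LK LD1_c1 LD2_c32 LD3_c48)) :=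
  Lre_e IH (LK LD1_c3 LD2_c12 LD3_c43) (LK LD1_c1 LD2_c32 LD3_c48) Lrfl Lrfl
theorem f83697 : Led Lsl_dt (LP (LK LD1_c3 LD2_c12 LD3_c43)) = (LP (LK LD1_c3 LD2_c9 LD3_c20)) :=
  Lgr Lrot56 (Lpr_et (f61022 IH) (Lpe (K24.f67021 IH) (Lpr_ef (K1.f66928 IH) (Lpr_dt (K2.f68219 IH) (Lpe (K9.f67446 IH) (Lpr_df (K9.f61772 IH) (Lpr_et (K9.f26063 IH) (Lpe (K9.f77363 IH) (Lpr_dt (K24.f77359 IH) (Lpr_gt (K24.f83695 IH) (Lpn (LP (LK LD1_c3 LD2_c9 LD3_c20)))))))))))))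
theorem f83699 : Led Lsl_df (LP (LK LD1_c3 LD2_c12 LD3_c43)) = (LP (LK LD1_c3 LD2_c9 LD3_c20)) :=
  Lgr Lrot38 (Lpr_dt (f83697 IH) (Lpn (LP (LK LD1_c3 LD2_c9 LD3_c20))))
theorem f435291 : Led Lsl_cf (LP (LK LD1_c3 LD2_c11 LD3_c32)) = (LP (LK LD1_c1 LD2_c36 LD3_c28)) :=
  Lgr Lrot166 (Lpr_gt (K16.f435287 IH) (Lpr_dt (K16.f150516 IH) (Lpe (K17.f154549 IH) (Lpe (K17.f415469 IH) (Lpr_ct (K17.f415429 IH) (Lpe (K17.f57141 IH) (Lpe (K24.f416812 IH) (Lpe (K6.f135392 IH) (Lpe (K24.f135415 IH) (Lpn (LP (LK LD1_c1 LD2_c36 LD3_c28))))))))))))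
theorem f150499 : Led Lsl_ct (LP (LK LD1_c2 LD2_c16 LD3_c23)) = (LP (LK LD1_c1 LD2_c6 LD3_c54)) :=
  Lgr Lrot59 (Lpr_cf (K11.f150490 IH) (Lpn (LP (LK LD1_c1 LD2_c6 LD3_c54))))
theorem f204209 : Led Lsl_at (LP (LK LD1_c6 LD2_c2 LD3_c16)) = (LP (LK LD1_c2 LD2_c57 LD3_c20)) :=
  Lre_a IH (LK LD1_c6 LD2_c2 LD3_c16) (LK LD1_c2 LD2_c57 LD3_c20) Lrfl Lrfl
theorem f204210 : Led Lsl_bt (LP (LK LD1_c2 LD2_c57 LD3_c20)) = (LP (LK LD1_c1 LD2_c24 LD3_c28)) :=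
  Lre_b IH (LK LD1_c2 LD2_c57 LD3_c20) (LK LD1_c1 LD2_c24 LD3_c28) Lrfl Lrfl
theorem f204211 : Led Lsl_at (LP (LK LD1_c4 LD2_c38 LD3_c52)) = (LP (LK LD1_c9 LD2_c13 LD3_c19)) :=
  Lre_a IH (LK LD1_c4 LD2_c38 LD3_c52) (LK LD1_c9 LD2_c13 LD3_c19) Lrfl Lrfl
theorem f61108 : Led Lsl_bt (LP (LK LD1_c2 LD2_c16 LD3_c30)) = (LP (LK LD1_c4 LD2_c38 LD3_c52)) :=
  Lre_b IH (LK LD1_c2 LD2_c16 LD3_c30) (LK LD1_c4 LD2_c38 LD3_c52) Lrfl Lrfl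
theorem f204212 : Led Lsl_at (LP (LK LD1_c1 LD2_c24 LD3_c28)) = (LP (LK LD1_c2 LD2_c16 LD3_c30)) :=
  Lgr Lrot67 (Lpe (f204210 IH) (Lpe (f204209 IH) (Lpr_bf (K11.f204205 IH) (Lpe (f204211 IH) (Lpe (f61108 IH) (Lpn (LP (LK LD1_c2 LD2_c16 LD3_c30))))))))
theorem f204641 : Led Lsl_at (LP (LK LD1_c1 LD2_c24 LD3_c21)) = (LP (LK LD1_c2 LD2_c16 LD3_c23)) :=
  Lgr Lrot80 (Lpr_ef (K11.f204639 IH) (Lpe (f204212 IH) (Lpe (K16.f204497 IH) (Lpn (LP (LK LD1_c2 LD2_c16 LD3_c23))))))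
theorem f69068 : Led Lsl_gt (LP (LK LD1_c0 LD2_c38 LD3_c54)) = (LP (LK LD1_c1 LD2_c24 LD3_c18)) :=
  Lre_g IH (LK LD1_c0 LD2_c38 LD3_c54) (LK LD1_c1 LD2_c24 LD3_c18) Lrfl Lrfl
theorem f419065 : Led Lsl_gt (LP (LK LD1_c1 LD2_c24 LD3_c18)) = (LP (LK LD1_c2 LD2_c16 LD3_c23)) :=
  Lgr Lrot46 (Lpe (f69068 IH) (Lpr_ft (K11.f69062 IH) (Lpr_at (f204641 IH) (Lpn (LP (LK LD1_c2 LD2_c16 LD3_c23))))))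
theorem f435293 : Led Lsl_ct (LP (LK LD1_c0 LD2_c44 LD3_c40)) = (LP (LK LD1_c1 LD2_c24 LD3_c18)) :=
  Lgr Lrot152 (Lpe (K24.f57129 IH) (Lpe (f57120 IH) (Lpr_gt (K16.f62598 IH) (Lpe (f435291 IH) (Lpr_gt (K16.f435287 IH) (Lpr_ct (K16.f150503 IH) (Lpe (K7.f150514 IH) (Lpe (f150499 IH) (Lpe (f419065 IH) (Lpn (LP (LK LD1_c1 LD2_c24 LD3_c18))))))))))))
theorem f435300 : Led Lsl_cf (LP (LK LD1_c0 LD2_c44 LD3_c40)) = (LP (LK LD1_c1 LD2_c24 LD3_c18)) :=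
  Lgr Lrot11 (Lpr_ct (f435293 IH) (Lpn (LP (LK LD1_c1 LD2_c24 LD3_c18))))
theorem f57623 : Led Lsl_ct (LP (LK LD1_c3 LD2_c20 LD3_c1)) = (LP (LK LD1_c1 LD2_c36 LD3_c24)) :=
  Lre_c IH (LK LD1_c3 LD2_c20 LD3_c1) (LK LD1_c1 LD2_c36 LD3_c24) Lrfl Lrfl
theorem f152805 : Led Lsl_gt (LP (LK LD1_c3 LD2_c11 LD3_c35)) = (LP (LK LD1_c6 LD2_c27 LD3_c25)) :=
  Lre_g IH (LK LD1_c3 LD2_c11 LD3_c35) (LK LD1_c6 LD2_c27 LD3_c25) Lrfl Lrfl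
theorem f416828 : Led Lsl_df (LP (LK LD1_c3 LD2_c20 LD3_c1)) = (LP (LK LD1_c6 LD2_c27 LD3_c25)) :=
  Lgr Lrot174 (Lpr_ct (f57623 IH) (Lpe (K24.f57130 IH) (Lpe (K24.f57129 IH) (Lpe (f57120 IH) (Lpe (f57135 IH) (Lpr_ct (f416814 IH) (Lpr_gt (f69110 IH) (Lpr_dt (K29.f69105 IH) (Lpr_gt (f152805 IH) (Lpn (LP (LK LD1_c6 LD2_c27 LD3_c25))))))))))))
theorem f416854 : Led Lsl_dt (LP (LK LD1_c3 LD2_c20 LD3_c1)) = (LP (LK LD1_c6 LD2_c27 LD3_c25)) :=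
  Lgr Lrot42 (Lpr_df (f416828 IH) (Lpn (LP (LK LD1_c6 LD2_c27 LD3_c25))))
theorem f154561 : Led Lsl_gt (LP (LK LD1_c6 LD2_c27 LD3_c25)) = (LP (LK LD1_c9 LD2_c20 LD3_c31)) :=
  Lgr Lrot46 (Lpe (f152805 IH) (Lpr_ft (f69066 IH) (Lpr_at (f154547 IH) (Lpn (LP (LK LD1_c9 LD2_c20 LD3_c31))))))
theorem f150515 : Led Lsl_ct (LP (LK LD1_c2 LD2_c19 LD3_c35)) = (LP (LK LD1_c4 LD2_c43 LD3_c39)) :=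
  Lre_c IH (LK LD1_c2 LD2_c19 LD3_c35) (LK LD1_c4 LD2_c43 LD3_c39) Lrfl Lrfl
theorem f153683 : Led Lsl_gt (LP (LK LD1_c3 LD2_c11 LD3_c13)) = (LP (LK LD1_c1 LD2_c32 LD3_c1)) :=
  Lre_g IH (LK LD1_c3 LD2_c11 LD3_c13) (LK LD1_c1 LD2_c32 LD3_c1) Lrfl Lrfl
theorem f153685 : Led Lsl_ct (LP (LK LD1_c6 LD2_c26 LD3_c38)) = (LP (LK LD1_c3 LD2_c11 LD3_c13)) :=
  Lre_c IH (LK LD1_c6 LD2_c26 LD3_c38) (LK LD1_c3 LD2_c11 LD3_c13) Lrfl Lrfl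
theorem f416863 : Led Lsl_gf (LP (LK LD1_c3 LD2_c20 LD3_c1)) = (LP (LK LD1_c6 LD2_c26 LD3_c38)) :=
  Lgr Lrot144 (Lpr_dt (f416854 IH) (Lpr_gt (f154561 IH) (Lpr_dt (f150504 IH) (Lpe (f150515 IH) (Lpe (K7.f150514 IH) (Lpe (K17.f153681 IH) (Lpe (K17.f25850 IH) (Lpe (f153683 IH) (Lpe (f153685 IH) (Lpn (LP (LK LD1_c6 LD2_c26 LD3_c38))))))))))))
theorem f153684 : Led Lsl_ct (LP (LK LD1_c3 LD2_c11 LD3_c13)) = (LP (LK LD1_c6 LD2_c26 LD3_c38)) :=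
  Lre_c IH (LK LD1_c3 LD2_c11 LD3_c13) (LK LD1_c6 LD2_c26 LD3_c38) Lrfl Lrfl
theorem f435313 : Led Lsl_gf (LP (LK LD1_c3 LD2_c11 LD3_c13)) = (LP (LK LD1_c1 LD2_c32 LD3_c4)) :=
  Lgr Lrot147 (Lpr_ct (f153684 IH) (Lpe (f416863 IH) (Lpr_ct (f57623 IH) (Lpe (K24.f57130 IH) (Lpr_cf (f435300 IH) (Lpe (f69068 IH) (Lpr_cf (K11.f68989 IH) (Lpe (K9.f67048 IH) (Lpe (K9.f67173 IH) (Lpn (LP (LK LD1_c1 LD2_c32 LD3_c4))))))))))))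
theorem f419119 : Led Lsl_gf (LP (LK LD1_c3 LD2_c8 LD3_c50)) = (LP (LK LD1_c3 LD2_c12 LD3_c45)) :=
  Lgr Lrot144 (Lpr_dt (K9.f61838 IH) (Lpr_gt (f153568 IH) (Lpr_dt (K7.f61106 IH) (Lpe (K11.f61076 IH) (Lpe (K11.f61100 IH) (Lpe (K29.f419115 IH) (Lpe (K29.f22978 IH) (Lpr_gf (K29.f419117 IH) (Lpr_cf (K8.f61032 IH) (Lpn (LP (LK LD1_c3 LD2_c12 LD3_c45))))))))))))
theorem f77122 : Led Lsl_bt (LP (LK LD1_c3 LD2_c8 LD3_c23)) = (LP (LK LD1_c6 LD2_c21 LD3_c17)) :=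
  Lre_b IH (LK LD1_c3 LD2_c8 LD3_c23) (LK LD1_c6 LD2_c21 LD3_c17) Lrfl Lrfl
theorem f67458 : Led Lsl_bt (LP (LK LD1_c6 LD2_c18 LD3_c40)) = (LP (LK LD1_c3 LD2_c6 LD3_c47)) :=
  Lre_b IH (LK LD1_c6 LD2_c18 LD3_c40) (LK LD1_c3 LD2_c6 LD3_c47) Lrfl Lrfl
theorem f77123 : Led Lsl_ef (LP (LK LD1_c3 LD2_c8 LD3_c23)) = (LP (LK LD1_c3 LD2_c6 LD3_c47)) :=
  Lgr Lrot29 (Lpr_bt (f77122 IH) (Lpr_et (K2.f77117 IH) (Lpr_bt (f67458 IH) (Lpn (LP (LK LD1_c3 LD2_c6 LD3_c47))))))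
theorem f79710 : Led Lsl_ef (LP (LK LD1_c4 LD2_c42 LD3_c2)) = (LP (LK LD1_c3 LD2_c12 LD3_c53)) :=
  Lgr Lrot73 (Lpr_dt (K8.f61024 IH) (Lpr_et (K8.f61018 IH) (Lpr_dt (K24.f61029 IH) (Lpr_et (K9.f79708 IH) (Lpr_dt (K29.f59489 IH) (Lpn (LP (LK LD1_c3 LD2_c12 LD3_c53))))))))
theorem f83702 : Led Lsl_gt (LP (LK LD1_c3 LD2_c12 LD3_c43)) = (LP (LK LD1_c1 LD2_c33 LD3_c2)) :=
  Lgr Lrot139 (Lpr_df (f83699 IH) (Lpe (K24.f83695 IH) (Lpr_ef (f77123 IH) (Lpr_dt (f67501 IH) (Lpe (K9.f68287 IH) (Lpe (K29.f68254 IH) (Lpe (f79710 IH) (Lpe (K8.f61015 IH) (Lpe (f82709 IH) (Lpr_dt (K24.f82698 IH) (Lpn (LP (LK LD1_c1 LD2_c33 LD3_c2)))))))))))))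
theorem f435318 : Led Lsl_ef (LP (LK LD1_c3 LD2_c11 LD3_c13)) = (LP (LK LD1_c3 LD2_c9 LD3_c20)) :=
  Lgr Lrot17 (Lpr_gf (f435313 IH) (Lpe (f67191 IH) (Lpr_dt (K9.f67186 IH) (Lpr_gf (f419119 IH) (Lpe (K8.f61024 IH) (Lpe (K8.f61015 IH) (Lpe (f82709 IH) (Lpr_dt (K24.f82698 IH) (Lpe (f83702 IH) (Lpr_df (f83699 IH) (Lpn (LP (LK LD1_c3 LD2_c9 LD3_c20)))))))))))))
theorem f435320 : Led Lsl_et (LP (LK LD1_c3 LD2_c11 LD3_c13)) = (LP (LK LD1_c3 LD2_c9 LD3_c20)) :=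
  Lgr Lrot87 (Lpr_ef (f435318 IH) (Lpn (LP (LK LD1_c3 LD2_c9 LD3_c20))))
theorem f416138 : Led Lsl_dt (LP (LK LD1_c0 LD2_c44 LD3_c59)) = (LP (LK LD1_c1 LD2_c37 LD3_c14)) :=
  Lre_d IH (LK LD1_c0 LD2_c44 LD3_c59) (LK LD1_c1 LD2_c37 LD3_c14) Lrfl Lrfl
theorem f503671 : Led Lsl_gt (LP (LK LD1_c1 LD2_c33 LD3_c48)) = (LP (LK LD1_c3 LD2_c2 LD3_c55)) :=
  Lgr Lrot131 (Lpe (K24.f68383 IH) (Lpr_dt (K24.f22730 IH) (Lpr_gf (K24.f416136 IH) (Lpe (f416138 IH) (Lpe (f446233 IH) (Lpe (f24656 IH) (Lpr_dt (K9.f24621 IH) (Lpe (f24633 IH) (Lpe (f503555 IH) (Lpr_et (f503664 IH) (Lpn (LP (LK LD1_c3 LD2_c2 LD3_c55)))))))))))))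
theorem f416155 : Led Lsl_ct (LP (LK LD1_c2 LD2_c54 LD3_c57)) = (LP (LK LD1_c1 LD2_c33 LD3_c48)) :=
  Lre_c IH (LK LD1_c2 LD2_c54 LD3_c57) (LK LD1_c1 LD2_c33 LD3_c48) Lrfl Lrfl
theorem f415844 : Led Lsl_dt (LP (LK LD1_c2 LD2_c57 LD3_c46)) = (LP (LK LD1_c1 LD2_c24 LD3_c34)) :=
  Lre_d IH (LK LD1_c2 LD2_c57 LD3_c46) (LK LD1_c1 LD2_c24 LD3_c34) Lrfl Lrfl
theorem f82699 : Led Lsl_ef (LP (LK LD1_c3 LD2_c13 LD3_c16)) = (LP (LK LD1_c2 LD2_c18 LD3_c21)) :=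
  Lgr Lrot73 (Lpr_dt (K24.f82698 IH) (Lpr_et (K24.f82689 IH) (Lpr_dt (K24.f82697 IH) (Lpr_et (K11.f82691 IH) (Lpr_dt (K8.f61014 IH) (Lpn (LP (LK LD1_c2 LD2_c18 LD3_c21))))))))
theorem f415852 : Led Lsl_gf (LP (LK LD1_c2 LD2_c57 LD3_c46)) = (LP (LK LD1_c3 LD2_c13 LD3_c16)) :=
  Lgr Lrot138 (Lpr_dt (f415844 IH) (Lpr_gt (K31.f415839 IH) (Lpe (f67062 IH) (Lpr_et (K6.f77109 IH) (Lpe (K3.f82789 IH) (Lpe (f82777 IH) (Lpr_dt (f61071 IH) (Lpr_gt (K8.f61012 IH) (Lpe (f82708 IH) (Lpe (f82699 IH) (Lpn (LP (LK LD1_c3 LD2_c13 LD3_c16)))))))))))))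
theorem f22929 : Led Lsl_et (LP (LK LD1_c0 LD2_c38 LD3_c59)) = (LP (LK LD1_c1 LD2_c8 LD3_c24)) :=
  Lre_e IH (LK LD1_c0 LD2_c38 LD3_c59) (LK LD1_c1 LD2_c8 LD3_c24) Lrfl Lrfl
theorem f22932 : Led Lsl_dt (LP (LK LD1_c4 LD2_c33 LD3_c50)) = (LP (LK LD1_c2 LD2_c13 LD3_c46)) :=
  Lre_d IH (LK LD1_c4 LD2_c33 LD3_c50) (LK LD1_c2 LD2_c13 LD3_c46) Lrfl Lrfl
theorem f22933 : Led Lsl_ef (LP (LK LD1_c2 LD2_c17 LD3_c30)) = (LP (LK LD1_c4 LD2_c33 LD3_c50)) :=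
  Lgr Lrot167 (Lpr_gt (K9.f22914 IH) (Lpr_dt (K0.f22913 IH) (Lpr_gt (K0.f22856 IH) (Lpe (K0.f22849 IH) (Lpr_et (K0.f22848 IH) (Lpr_gt (K0.f22928 IH) (Lpe (f22929 IH) (Lpr_dt (K24.f22930 IH) (Lpr_gt (K24.f22931 IH) (Lpe (f22932 IH) (Lpn (LP (LK LD1_c4 LD2_c33 LD3_c50)))))))))))))
theorem f23118 : Led Lsl_et (LP (LK LD1_c2 LD2_c17 LD3_c30)) = (LP (LK LD1_c4 LD2_c33 LD3_c50)) :=
  Lgr Lrot87 (Lpr_ef (f22933 IH) (Lpn (LP (LK LD1_c4 LD2_c33 LD3_c50))))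
theorem f139978 : Led Lsl_ct (LP (LK LD1_c4 LD2_c33 LD3_c50)) = (LP (LK LD1_c3 LD2_c12 LD3_c43)) :=
  Lgr Lrot15 (Lpe (f23118 IH) (Lpr_cf (K9.f139974 IH) (Lpe (f61022 IH) (Lpn (LP (LK LD1_c3 LD2_c12 LD3_c43))))))
theorem f501126 : Led Lsl_gf (LP (LK LD1_c2 LD2_c54 LD3_c57)) = (LP (LK LD1_c4 LD2_c33 LD3_c50)) :=
  Lgr Lrot144 (Lpr_dt (K0.f23857 IH) (Lpr_gt (f501124 IH) (Lpr_dt (K17.f172565 IH) (Lpe (K31.f415843 IH) (Lpe (f415844 IH) (Lpr_gf (f415852 IH) (Lpe (K24.f82690 IH) (Lpe (f83702 IH) (Lpe (f139978 IH) (Lpn (LP (LK LD1_c4 LD2_c33 LD3_c50))))))))))))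
theorem f23121 : Led Lsl_gt (LP (LK LD1_c2 LD2_c13 LD3_c46)) = (LP (LK LD1_c1 LD2_c3 LD3_c53)) :=
  Lre_g IH (LK LD1_c2 LD2_c13 LD3_c46) (LK LD1_c1 LD2_c3 LD3_c53) Lrfl Lrfl
theorem f415679 : Led Lsl_ct (LP (LK LD1_c1 LD2_c3 LD3_c53)) = (LP (LK LD1_c2 LD2_c13 LD3_c44)) :=
  Lre_c IH (LK LD1_c1 LD2_c3 LD3_c53) (LK LD1_c2 LD2_c13 LD3_c44) Lrfl Lrfl
theorem f415678 : Led Lsl_gt (LP (LK LD1_c2 LD2_c13 LD3_c44)) = (LP (LK LD1_c4 LD2_c33 LD3_c40)) :=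
  Lre_g IH (LK LD1_c2 LD2_c13 LD3_c44) (LK LD1_c4 LD2_c33 LD3_c40) Lrfl Lrfl
theorem f140112 : Led Lsl_ct (LP (LK LD1_c1 LD2_c8 LD3_c31)) = (LP (LK LD1_c0 LD2_c38 LD3_c59)) :=
  Lre_c IH (LK LD1_c1 LD2_c8 LD3_c31) (LK LD1_c0 LD2_c38 LD3_c59) Lrfl Lrfl
theorem f74653 : Led Lsl_ct (LP (LK LD1_c2 LD2_c48 LD3_c41)) = (LP (LK LD1_c1 LD2_c20 LD3_c31)) :=
  Lre_c IH (LK LD1_c2 LD2_c48 LD3_c41) (LK LD1_c1 LD2_c20 LD3_c31) Lrfl Lrfl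
theorem f415653 : Led Lsl_gt (LP (LK LD1_c4 LD2_c33 LD3_c40)) = (LP (LK LD1_c2 LD2_c48 LD3_c41)) :=
  Lre_g IH (LK LD1_c4 LD2_c33 LD3_c40) (LK LD1_c2 LD2_c48 LD3_c41) Lrfl Lrfl
theorem f58953 : Led Lsl_gt (LP (LK LD1_c1 LD2_c10 LD3_c39)) = (LP (LK LD1_c2 LD2_c26 LD3_c46)) :=
  Lre_g IH (LK LD1_c1 LD2_c10 LD3_c39) (LK LD1_c2 LD2_c26 LD3_c46) Lrfl Lrfl
theorem f415654 : Led Lsl_cf (LP (LK LD1_c4 LD2_c33 LD3_c40)) = (LP (LK LD1_c2 LD2_c26 LD3_c46)) :=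
  Lgr Lrot169 (Lpr_gt (f415653 IH) (Lpr_ct (f74653 IH) (Lpe (K24.f22930 IH) (Lpe (f140112 IH) (Lpe (K0.f23255 IH) (Lpr_cf (f415642 IH) (Lpe (K24.f73209 IH) (Lpe (K2.f67063 IH) (Lpr_gt (f58953 IH) (Lpn (LP (LK LD1_c2 LD2_c26 LD3_c46))))))))))))
theorem f415667 : Led Lsl_ct (LP (LK LD1_c4 LD2_c33 LD3_c40)) = (LP (LK LD1_c2 LD2_c26 LD3_c46)) :=
  Lgr Lrot59 (Lpr_cf (f415654 IH) (Lpn (LP (LK LD1_c2 LD2_c26 LD3_c46))))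
theorem f140575 : Led Lsl_dt (LP (LK LD1_c2 LD2_c26 LD3_c46)) = (LP (LK LD1_c4 LD2_c57 LD3_c53)) :=
  Lre_d IH (LK LD1_c2 LD2_c26 LD3_c46) (LK LD1_c4 LD2_c57 LD3_c53) Lrfl Lrfl
theorem f503706 : Led Lsl_cf (LP (LK LD1_c4 LD2_c57 LD3_c53)) = (LP (LK LD1_c3 LD2_c2 LD3_c55)) :=
  Lgr Lrot99 (Lpe (f140575 IH) (Lpe (f415667 IH) (Lpe (f415678 IH) (Lpe (f415679 IH) (Lpe (f23121 IH) (Lpe (f22932 IH) (Lpe (f501126 IH) (Lpr_ct (f416155 IH) (Lpr_gt (f503671 IH) (Lpn (LP (LK LD1_c3 LD2_c2 LD3_c55))))))))))))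
theorem f503738 : Led Lsl_ft (LP (LK LD1_c4 LD2_c57 LD3_c53)) = (LP (LK LD1_c3 LD2_c2 LD3_c50)) :=
  Lgr Lrot4 (Lpr_cf (f503706 IH) (Lpe (f415321 IH) (Lpe (f413502 IH) (Lpn (LP (LK LD1_c3 LD2_c2 LD3_c50))))))
theorem f503745 : Led Lsl_ff (LP (LK LD1_c4 LD2_c57 LD3_c53)) = (LP (LK LD1_c3 LD2_c2 LD3_c50)) :=
  Lgr Lrot3 (Lpr_ft (f503738 IH) (Lpn (LP (LK LD1_c3 LD2_c2 LD3_c50))))
theorem f140282 : Led Lsl_dt (LP (LK LD1_c4 LD2_c33 LD3_c46)) = (LP (LK LD1_c2 LD2_c13 LD3_c45)) :=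
  Lre_d IH (LK LD1_c4 LD2_c33 LD3_c46) (LK LD1_c2 LD2_c13 LD3_c45) Lrfl Lrfl
theorem f140278 : Led Lsl_ct (LP (LK LD1_c4 LD2_c33 LD3_c45)) = (LP (LK LD1_c2 LD2_c13 LD3_c45)) :=
  Lre_c IH (LK LD1_c4 LD2_c33 LD3_c45) (LK LD1_c2 LD2_c13 LD3_c45) Lrfl Lrfl
theorem f40965 : Led Lsl_af (LP (LK LD1_c3 LD2_c59 LD3_c12)) = (LP (LK LD1_c2 LD2_c26 LD3_c45)) :=
  Lgr Lrot0 (Lpr_at (K1.f40938 IH) (Lpn (LP (LK LD1_c2 LD2_c26 LD3_c45))))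
theorem f83929 : Led Lsl_ft (LP (LK LD1_c4 LD2_c57 LD3_c51)) = (LP (LK LD1_c2 LD2_c26 LD3_c45)) :=
  Lre_f IH (LK LD1_c4 LD2_c57 LD3_c51) (LK LD1_c2 LD2_c26 LD3_c45) Lrfl Lrfl
theorem f140267 : Led Lsl_at (LP (LK LD1_c5 LD2_c45 LD3_c54)) = (LP (LK LD1_c4 LD2_c57 LD3_c51)) :=
  Lgr Lrot66 (Lpr_ff (K9.f140258 IH) (Lpr_af (f40965 IH) (Lpe (f83929 IH) (Lpn (LP (LK LD1_c4 LD2_c57 LD3_c51))))))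
theorem f140143 : Led Lsl_ct (LP (LK LD1_c2 LD2_c13 LD3_c45)) = (LP (LK LD1_c4 LD2_c33 LD3_c45)) :=
  Lre_c IH (LK LD1_c2 LD2_c13 LD3_c45) (LK LD1_c4 LD2_c33 LD3_c45) Lrfl Lrfl
theorem f40924 : Led Lsl_ct (LP (LK LD1_c4 LD2_c57 LD3_c51)) = (LP (LK LD1_c2 LD2_c26 LD3_c48)) :=
  Lre_c IH (LK LD1_c4 LD2_c57 LD3_c51) (LK LD1_c2 LD2_c26 LD3_c48) Lrfl Lrfl
theorem f140144 : Led Lsl_gt (LP (LK LD1_c4 LD2_c33 LD3_c45)) = (LP (LK LD1_c4 LD2_c57 LD3_c51)) :=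
  Lgr Lrot150 (Lpe (f140143 IH) (Lpe (K24.f140142 IH) (Lpe (K24.f23122 IH) (Lpr_gt (K0.f22998 IH) (Lpr_ct (K9.f140106 IH) (Lpe (K9.f77363 IH) (Lpr_ct (K9.f77357 IH) (Lpe (K2.f40916 IH) (Lpe (f40924 IH) (Lpn (LP (LK LD1_c4 LD2_c57 LD3_c51))))))))))))
theorem f140275 : Led Lsl_gf (LP (LK LD1_c4 LD2_c33 LD3_c45)) = (LP (LK LD1_c3 LD2_c59 LD3_c12)) :=
  Lgr Lrot47 (Lpr_gt (f140144 IH) (Lpe (f140267 IH) (Lpr_ff (K9.f140258 IH) (Lpn (LP (LK LD1_c3 LD2_c59 LD3_c12))))))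
theorem f454866 : Led Lsl_gt (LP (LK LD1_c3 LD2_c2 LD3_c50)) = (LP (LK LD1_c3 LD2_c13 LD3_c14)) :=
  Lgr Lrot9 (Lpr_df (K24.f413494 IH) (Lpr_gt (K16.f40472 IH) (Lpr_ct (K1.f40937 IH) (Lpe (f140275 IH) (Lpr_ct (f140278 IH) (Lpe (f140282 IH) (Lpr_cf (K24.f454831 IH) (Lpe (K24.f82719 IH) (Lpe (K24.f83706 IH) (Lpn (LP (LK LD1_c3 LD2_c13 LD3_c14))))))))))))
theorem f83705 : Led Lsl_gt (LP (LK LD1_c3 LD2_c13 LD3_c14)) = (LP (LK LD1_c6 LD2_c30 LD3_c24)) :=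
  Lre_g IH (LK LD1_c3 LD2_c13 LD3_c14) (LK LD1_c6 LD2_c30 LD3_c24) Lrfl Lrfl
theorem f503751 : Led Lsl_at (LP (LK LD1_c4 LD2_c57 LD3_c53)) = (LP (LK LD1_c6 LD2_c30 LD3_c24)) :=
  Lgr Lrot26 (Lpr_ff (f503745 IH) (Lpr_gt (f454866 IH) (Lpr_gt (f83705 IH) (Lpn (LP (LK LD1_c6 LD2_c30 LD3_c24))))))
theorem f83704 : Led Lsl_ct (LP (LK LD1_c1 LD2_c33 LD3_c2)) = (LP (LK LD1_c3 LD2_c13 LD3_c14)) :=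
  Lre_c IH (LK LD1_c1 LD2_c33 LD3_c2) (LK LD1_c3 LD2_c13 LD3_c14) Lrfl Lrfl
theorem f36237 : Led Lsl_gt (LP (LK LD1_c1 LD2_c56 LD3_c20)) = (LP (LK LD1_c3 LD2_c59 LD3_c13)) :=
  Lre_g IH (LK LD1_c1 LD2_c56 LD3_c20) (LK LD1_c3 LD2_c59 LD3_c13) Lrfl Lrfl
theorem f40922 : Led Lsl_gt (LP (LK LD1_c3 LD2_c59 LD3_c13)) = (LP (LK LD1_c2 LD2_c26 LD3_c48)) :=
  Lgr Lrot46 (Lpe (f36237 IH) (Lpr_ft (K1.f40469 IH) (Lpr_at (K1.f40901 IH) (Lpn (LP (LK LD1_c2 LD2_c26 LD3_c48))))))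
theorem f454661 : Led Lsl_dt (LP (LK LD1_c6 LD2_c30 LD3_c24)) = (LP (LK LD1_c3 LD2_c59 LD3_c13)) :=
  Lgr Lrot57 (Lpe (f83705 IH) (Lpe (f83704 IH) (Lpr_gt (K24.f82719 IH) (Lpr_dt (K24.f454657 IH) (Lpe (K24.f83921 IH) (Lpr_dt (K24.f77354 IH) (Lpr_cf (K9.f77374 IH) (Lpe (K2.f40916 IH) (Lpe (f40922 IH) (Lpn (LP (LK LD1_c3 LD2_c59 LD3_c13))))))))))))
theorem f503757 : Led Lsl_af (LP (LK LD1_c2 LD2_c26 LD3_c46)) = (LP (LK LD1_c3 LD2_c59 LD3_c13)) :=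
  Lgr Lrot117 (Lpr_dt (f140575 IH) (Lpr_at (f503751 IH) (Lpr_dt (f454661 IH) (Lpn (LP (LK LD1_c3 LD2_c59 LD3_c13))))))
theorem f415673 : Led Lsl_dt (LP (LK LD1_c9 LD2_c4 LD3_c57)) = (LP (LK LD1_c4 LD2_c33 LD3_c40)) :=
  Lre_d IH (LK LD1_c9 LD2_c4 LD3_c57) (LK LD1_c4 LD2_c33 LD3_c40) Lrfl Lrfl
theorem f503765 : Led Lsl_ft (LP (LK LD1_c2 LD2_c26 LD3_c47)) = (LP (LK LD1_c3 LD2_c59 LD3_c13)) :=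
  Lgr Lrot2 (Lpr_gt (f67064 IH) (Lpr_gt (f58953 IH) (Lpr_af (f503757 IH) (Lpn (LP (LK LD1_c3 LD2_c59 LD3_c13))))))
theorem f416258 : Led Lsl_df (LP (LK LD1_c4 LD2_c41 LD3_c6)) = (LP (LK LD1_c2 LD2_c26 LD3_c47)) :=
  Lgr Lrot38 (Lpr_dt (f416252 IH) (Lpn (LP (LK LD1_c2 LD2_c26 LD3_c47))))
theorem f23231 : Led Lsl_ct (LP (LK LD1_c4 LD2_c41 LD3_c6)) = (LP (LK LD1_c2 LD2_c17 LD3_c37)) :=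
  Lre_c IH (LK LD1_c4 LD2_c41 LD3_c6) (LK LD1_c2 LD2_c17 LD3_c37) Lrfl Lrfl
theorem f23232 : Led Lsl_ct (LP (LK LD1_c1 LD2_c37 LD3_c21)) = (LP (LK LD1_c3 LD2_c22 LD3_c8)) :=
  Lre_c IH (LK LD1_c1 LD2_c37 LD3_c21) (LK LD1_c3 LD2_c22 LD3_c8) Lrfl Lrfl
theorem f23233 : Led Lsl_dt (LP (LK LD1_c3 LD2_c22 LD3_c8)) = (LP (LK LD1_c6 LD2_c47 LD3_c53)) :=
  Lre_d IH (LK LD1_c3 LD2_c22 LD3_c8) (LK LD1_c6 LD2_c47 LD3_c53) Lrfl Lrfl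
theorem f503767 : Led Lsl_cf (LP (LK LD1_c9 LD2_c4 LD3_c57)) = (LP (LK LD1_c6 LD2_c47 LD3_c53)) :=
  Lgr Lrot161 (Lpr_dt (f415673 IH) (Lpr_ct (f415667 IH) (Lpr_af (f503757 IH) (Lpe (f503765 IH) (Lpe (f416258 IH) (Lpr_ct (f23231 IH) (Lpr_dt (K0.f23222 IH) (Lpr_ct (f23232 IH) (Lpr_dt (f23233 IH) (Lpn (LP (LK LD1_c6 LD2_c47 LD3_c53))))))))))))
theorem f503736 : Led Lsl_ct (LP (LK LD1_c4 LD2_c57 LD3_c53)) = (LP (LK LD1_c3 LD2_c2 LD3_c55)) :=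
  Lgr Lrot59 (Lpr_cf (f503706 IH) (Lpn (LP (LK LD1_c3 LD2_c2 LD3_c55))))
theorem f415750 : Led Lsl_ct (LP (LK LD1_c1 LD2_c37 LD3_c20)) = (LP (LK LD1_c3 LD2_c22 LD3_c5)) :=
  Lre_c IH (LK LD1_c1 LD2_c37 LD3_c20) (LK LD1_c3 LD2_c22 LD3_c5) Lrfl Lrfl
theorem f416083 : Led Lsl_ct (LP (LK LD1_c4 LD2_c50 LD3_c11)) = (LP (LK LD1_c2 LD2_c22 LD3_c54)) :=
  Lre_c IH (LK LD1_c4 LD2_c50 LD3_c11) (LK LD1_c2 LD2_c22 LD3_c54) Lrfl Lrfl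
theorem f503311 : Led Lsl_ff (LP (LK LD1_c4 LD2_c50 LD3_c11)) = (LP (LK LD1_c3 LD2_c22 LD3_c8)) :=
  Lgr Lrot23 (Lpr_ct (f416083 IH) (Lpr_ft (f503307 IH) (Lpr_ct (f23232 IH) (Lpn (LP (LK LD1_c3 LD2_c22 LD3_c8))))))
theorem f503773 : Led Lsl_af (LP (LK LD1_c3 LD2_c22 LD3_c5)) = (LP (LK LD1_c4 LD2_c50 LD3_c11)) :=
  Lgr Lrot109 (Lpe (f415750 IH) (Lpr_df (f503667 IH) (Lpe (f503736 IH) (Lpe (f140575 IH) (Lpe (f415667 IH) (Lpe (f415673 IH) (Lpr_cf (f503767 IH) (Lpe (f23233 IH) (Lpe (f503311 IH) (Lpn (LP (LK LD1_c4 LD2_c50 LD3_c11))))))))))))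
theorem f23246 : Led Lsl_ct (LP (LK LD1_c3 LD2_c22 LD3_c8)) = (LP (LK LD1_c1 LD2_c37 LD3_c21)) :=
  Lre_c IH (LK LD1_c3 LD2_c22 LD3_c8) (LK LD1_c1 LD2_c37 LD3_c21) Lrfl Lrfl
theorem f503321 : Led Lsl_at (LP (LK LD1_c4 LD2_c50 LD3_c14)) = (LP (LK LD1_c3 LD2_c22 LD3_c8)) :=
  Lgr Lrot107 (Lpe (f415315 IH) (Lpr_af (f503317 IH) (Lpe (f23246 IH) (Lpn (LP (LK LD1_c3 LD2_c22 LD3_c8))))))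
theorem f503777 : Led Lsl_ft (LP (LK LD1_c3 LD2_c22 LD3_c5)) = (LP (LK LD1_c4 LD2_c50 LD3_c14)) :=
  Lgr Lrot101 (Lpr_af (f503773 IH) (Lpr_ff (f503311 IH) (Lpe (f503321 IH) (Lpn (LP (LK LD1_c4 LD2_c50 LD3_c14))))))
theorem f503779 : Led Lsl_ff (LP (LK LD1_c3 LD2_c22 LD3_c5)) = (LP (LK LD1_c4 LD2_c50 LD3_c14)) :=
  Lgr Lrot3 (Lpr_ft (f503777 IH) (Lpn (LP (LK LD1_c4 LD2_c50 LD3_c14))))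
theorem f503776 : Led Lsl_et (LP (LK LD1_c3 LD2_c22 LD3_c5)) = (LP (LK LD1_c6 LD2_c47 LD3_c48)) :=
  Lre_e IH (LK LD1_c3 LD2_c22 LD3_c5) (LK LD1_c6 LD2_c47 LD3_c48) Lrfl Lrfl
theorem f57193 : Led Lsl_dt (LP (LK LD1_c6 LD2_c44 LD3_c11)) = (LP (LK LD1_c3 LD2_c20 LD3_c13)) :=
  Lre_d IH (LK LD1_c6 LD2_c44 LD3_c11) (LK LD1_c3 LD2_c20 LD3_c13) Lrfl Lrfl
theorem f143145 : Led Lsl_at (LP (LK LD1_c9 LD2_c5 LD3_c27)) = (LP (LK LD1_c4 LD2_c34 LD3_c4)) :=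
  Lre_a IH (LK LD1_c9 LD2_c5 LD3_c27) (LK LD1_c4 LD2_c34 LD3_c4) Lrfl Lrfl
theorem f146437 : Led Lsl_at (LP (LK LD1_c2 LD2_c50 LD3_c21)) = (LP (LK LD1_c5 LD2_c48 LD3_c11)) :=
  Lre_a IH (LK LD1_c2 LD2_c50 LD3_c21) (LK LD1_c5 LD2_c48 LD3_c11) Lrfl Lrfl
theorem f146438 : Led Lsl_bf (LP (LK LD1_c9 LD2_c5 LD3_c27)) = (LP (LK LD1_c5 LD2_c48 LD3_c11)) :=
  Lgr Lrot81 (Lpr_at (f143145 IH) (Lpr_bt (K6.f143127 IH) (Lpr_at (K6.f146422 IH) (Lpr_bt (K1.f57184 IH) (Lpr_at (f146437 IH) (Lpn (LP (LK LD1_c5 LD2_c48 LD3_c11))))))))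
theorem f437262 : Led Lsl_ft (LP (LK LD1_c9 LD2_c5 LD3_c27)) = (LP (LK LD1_c4 LD2_c33 LD3_c57)) :=
  Lre_f IH (LK LD1_c9 LD2_c5 LD3_c27) (LK LD1_c4 LD2_c33 LD3_c57) Lrfl Lrfl
theorem f135915 : Led Lsl_ft (LP (LK LD1_c2 LD2_c50 LD3_c6)) = (LP (LK LD1_c5 LD2_c48 LD3_c11)) :=
  Lre_f IH (LK LD1_c2 LD2_c50 LD3_c6) (LK LD1_c5 LD2_c48 LD3_c11) Lrfl Lrfl
theorem f437263 : Led Lsl_bt (LP (LK LD1_c4 LD2_c33 LD3_c57)) = (LP (LK LD1_c2 LD2_c50 LD3_c6)) :=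
  Lgr Lrot35 (Lpe (f437262 IH) (Lpr_bf (f146438 IH) (Lpe (f135915 IH) (Lpn (LP (LK LD1_c2 LD2_c50 LD3_c6))))))
theorem f437278 : Led Lsl_et (LP (LK LD1_c2 LD2_c13 LD3_c51)) = (LP (LK LD1_c4 LD2_c33 LD3_c57)) :=
  Lre_e IH (LK LD1_c2 LD2_c13 LD3_c51) (LK LD1_c4 LD2_c33 LD3_c57) Lrfl Lrfl
theorem f146492 : Led Lsl_et (LP (LK LD1_c2 LD2_c50 LD3_c6)) = (LP (LK LD1_c1 LD2_c21 LD3_c6)) :=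
  Lre_e IH (LK LD1_c2 LD2_c50 LD3_c6) (LK LD1_c1 LD2_c21 LD3_c6) Lrfl Lrfl
theorem f437279 : Led Lsl_bf (LP (LK LD1_c2 LD2_c13 LD3_c51)) = (LP (LK LD1_c1 LD2_c21 LD3_c6)) :=
  Lgr Lrot96 (Lpr_et (f437278 IH) (Lpr_bt (f437263 IH) (Lpr_et (f146492 IH) (Lpn (LP (LK LD1_c1 LD2_c21 LD3_c6))))))
theorem f61841 : Led Lsl_bt (LP (LK LD1_c2 LD2_c53 LD3_c2)) = (LP (LK LD1_c1 LD2_c22 LD3_c39)) :=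
  Lre_b IH (LK LD1_c2 LD2_c53 LD3_c2) (LK LD1_c1 LD2_c22 LD3_c39) Lrfl Lrfl
theorem f202064 : Led Lsl_gt (LP (LK LD1_c1 LD2_c22 LD3_c39)) = (LP (LK LD1_c2 LD2_c16 LD3_c24)) :=
  Lgr Lrot49 (Lpe (K5.f37956 IH) (Lpe (K2.f37955 IH) (Lpe (K2.f22774 IH) (Lpr_gt (K4.f69347 IH) (Lpr_dt (K6.f69348 IH) (Lpr_gt (K11.f202059 IH) (Lpr_dt (K11.f104878 IH) (Lpe (K11.f104868 IH) (Lpr_df (K11.f104810 IH) (Lpn (LP (LK LD1_c2 LD2_c16 LD3_c24))))))))))))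
theorem f202150 : Led Lsl_gf (LP (LK LD1_c2 LD2_c57 LD3_c0)) = (LP (LK LD1_c4 LD2_c38 LD3_c43)) :=
  Lgr Lrot147 (Lpr_ct (K8.f26500 IH) (Lpr_gt (K8.f158856 IH) (Lpe (K4.f104780 IH) (Lpe (K7.f128351 IH) (Lpe (K8.f158580 IH) (Lpe (K8.f69036 IH) (Lpe (K11.f69035 IH) (Lpr_gf (K11.f202127 IH) (Lpe (K11.f104887 IH) (Lpn (LP (LK LD1_c4 LD2_c38 LD3_c43))))))))))))
theorem f437289 : Led Lsl_gf (LP (LK LD1_c2 LD2_c13 LD3_c51)) = (LP (LK LD1_c1 LD2_c21 LD3_c42)) :=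
  Lgr Lrot124 (Lpr_bf (f437279 IH) (Lpr_ct (K6.f135845 IH) (Lpe (K7.f146482 IH) (Lpe (K5.f94980 IH) (Lpr_bt (f61841 IH) (Lpr_gt (f202064 IH) (Lpr_ct (K11.f104886 IH) (Lpe (f202150 IH) (Lpr_cf (K6.f26490 IH) (Lpr_bt (K6.f26489 IH) (Lpn (LP (LK LD1_c1 LD2_c21 LD3_c42)))))))))))))
theorem f143172 : Led Lsl_ct (LP (LK LD1_c4 LD2_c33 LD3_c56)) = (LP (LK LD1_c2 LD2_c13 LD3_c51)) :=
  Lre_c IH (LK LD1_c4 LD2_c33 LD3_c56) (LK LD1_c2 LD2_c13 LD3_c51) Lrfl Lrfl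
theorem f437284 : Led Lsl_bt (LP (LK LD1_c4 LD2_c33 LD3_c56)) = (LP (LK LD1_c9 LD2_c5 LD3_c23)) :=
  Lre_b IH (LK LD1_c4 LD2_c33 LD3_c56) (LK LD1_c9 LD2_c5 LD3_c23) Lrfl Lrfl
theorem f14548 : Led Lsl_bf (LP (LK LD1_c6 LD2_c50 LD3_c29)) = (LP (LK LD1_c7 LD2_c36 LD3_c4)) :=
  Lgr Lrot90 (Lpr_ct (K2.f14545 IH) (Lpr_bt (K6.f14544 IH) (Lpr_ct (K0.f14531 IH) (Lpr_bt (K6.f14546 IH) (Lpr_ct (K0.f14547 IH) (Lpn (LP (LK LD1_c7 LD2_c36 LD3_c4))))))))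
theorem f145266 : Led Lsl_cf (LP (LK LD1_c6 LD2_c39 LD3_c44)) = (LP (LK LD1_c6 LD2_c41 LD3_c52)) :=
  Lgr Lrot11 (Lpr_ct (K6.f145256 IH) (Lpn (LP (LK LD1_c6 LD2_c41 LD3_c52))))
theorem f437291 : Led Lsl_gt (LP (LK LD1_c9 LD2_c5 LD3_c23)) = (LP (LK LD1_c6 LD2_c41 LD3_c52)) :=
  Lgr Lrot82 (Lpe (f437284 IH) (Lpr_ct (f143172 IH) (Lpr_gf (f437289 IH) (Lpe (K6.f26496 IH) (Lpr_bt (K6.f26511 IH) (Lpr_gf (K6.f139489 IH) (Lpr_bf (f14548 IH) (Lpr_ct (K0.f14730 IH) (Lpe (K6.f14760 IH) (Lpr_cf (f145266 IH) (Lpn (LP (LK LD1_c6 LD2_c41 LD3_c52)))))))))))))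
theorem f205935 : Led Lsl_dt (LP (LK LD1_c6 LD2_c41 LD3_c52)) = (LP (LK LD1_c7 LD2_c29 LD3_c13)) :=
  Lgr Lrot42 (Lpr_df (K11.f205933 IH) (Lpn (LP (LK LD1_c7 LD2_c29 LD3_c13))))
theorem f437296 : Led Lsl_cf (LP (LK LD1_c9 LD2_c5 LD3_c23)) = (LP (LK LD1_c5 LD2_c48 LD3_c6)) :=
  Lgr Lrot166 (Lpr_gt (f437291 IH) (Lpr_dt (f205935 IH) (Lpr_gt (K11.f13334 IH) (Lpe (K11.f205959 IH) (Lpr_ct (K8.f156526 IH) (Lpe (K7.f156575 IH) (Lpe (K7.f151504 IH) (Lpe (K7.f156668 IH) (Lpr_gf (K7.f135843 IH) (Lpn (LP (LK LD1_c5 LD2_c48 LD3_c6))))))))))))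
theorem f437304 : Led Lsl_af (LP (LK LD1_c9 LD2_c5 LD3_c23)) = (LP (LK LD1_c4 LD2_c48 LD3_c12)) :=
  Lgr Lrot109 (Lpr_cf (f437296 IH) (Lpr_df (K6.f145107 IH) (Lpr_cf (K6.f145141 IH) (Lpe (K6.f57450 IH) (Lpr_cf (K6.f145272 IH) (Lpr_df (K6.f145274 IH) (Lpe (K6.f122982 IH) (Lpr_df (K6.f144644 IH) (Lpe (K6.f144437 IH) (Lpn (LP (LK LD1_c4 LD2_c48 LD3_c12))))))))))))
theorem f437301 : Led Lsl_et (LP (LK LD1_c9 LD2_c5 LD3_c23)) = (LP (LK LD1_c16 LD2_c57 LD3_c25)) :=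
  Lre_e IH (LK LD1_c9 LD2_c5 LD3_c23) (LK LD1_c16 LD2_c57 LD3_c25) Lrfl Lrfl
theorem f144434 : Led Lsl_et (LP (LK LD1_c9 LD2_c29 LD3_c10)) = (LP (LK LD1_c4 LD2_c48 LD3_c12)) :=
  Lre_e IH (LK LD1_c9 LD2_c29 LD3_c10) (LK LD1_c4 LD2_c48 LD3_c12) Lrfl Lrfl
theorem f437327 : Led Lsl_at (LP (LK LD1_c16 LD2_c57 LD3_c25)) = (LP (LK LD1_c9 LD2_c29 LD3_c10)) :=
  Lgr Lrot80 (Lpe (f437301 IH) (Lpr_af (f437304 IH) (Lpe (f144434 IH) (Lpn (LP (LK LD1_c9 LD2_c29 LD3_c10))))))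
theorem f437331 : Led Lsl_bt (LP (LK LD1_c9 LD2_c5 LD3_c24)) = (LP (LK LD1_c16 LD2_c57 LD3_c25)) :=
  Lre_b IH (LK LD1_c9 LD2_c5 LD3_c24) (LK LD1_c16 LD2_c57 LD3_c25) Lrfl Lrfl
theorem f437332 : Led Lsl_at (LP (LK LD1_c4 LD2_c34 LD3_c0)) = (LP (LK LD1_c9 LD2_c5 LD3_c24)) :=
  Lre_a IH (LK LD1_c4 LD2_c34 LD3_c0) (LK LD1_c9 LD2_c5 LD3_c24) Lrfl Lrfl
theorem f437333 : Led Lsl_bt (LP (LK LD1_c9 LD2_c29 LD3_c10)) = (LP (LK LD1_c4 LD2_c48 LD3_c13)) :=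
  Lre_b IH (LK LD1_c9 LD2_c29 LD3_c10) (LK LD1_c4 LD2_c48 LD3_c13) Lrfl Lrfl
theorem f437334 : Led Lsl_at (LP (LK LD1_c4 LD2_c48 LD3_c13)) = (LP (LK LD1_c2 LD2_c22 LD3_c3)) :=
  Lre_a IH (LK LD1_c4 LD2_c48 LD3_c13) (LK LD1_c2 LD2_c22 LD3_c3) Lrfl Lrfl
theorem f437335 : Led Lsl_bf (LP (LK LD1_c4 LD2_c34 LD3_c0)) = (LP (LK LD1_c2 LD2_c22 LD3_c3)) :=
  Lgr Lrot81 (Lpr_at (f437332 IH) (Lpr_bt (f437331 IH) (Lpr_at (f437327 IH) (Lpr_bt (f437333 IH) (Lpr_at (f437334 IH) (Lpn (LP (LK LD1_c2 LD2_c22 LD3_c3))))))))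
theorem f437344 : Led Lsl_ct (LP (LK LD1_c4 LD2_c34 LD3_c0)) = (LP (LK LD1_c2 LD2_c13 LD3_c55)) :=
  Lre_c IH (LK LD1_c4 LD2_c34 LD3_c0) (LK LD1_c2 LD2_c13 LD3_c55) Lrfl Lrfl
theorem f416354 : Led Lsl_bt (LP (LK LD1_c2 LD2_c13 LD3_c55)) = (LP (LK LD1_c1 LD2_c4 LD3_c0)) :=
  Lre_b IH (LK LD1_c2 LD2_c13 LD3_c55) (LK LD1_c1 LD2_c4 LD3_c0) Lrfl Lrfl
theorem f148384 : Led Lsl_ct (LP (LK LD1_c1 LD2_c8 LD3_c12)) = (LP (LK LD1_c2 LD2_c22 LD3_c3)) :=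
  Lre_c IH (LK LD1_c1 LD2_c8 LD3_c12) (LK LD1_c2 LD2_c22 LD3_c3) Lrfl Lrfl
theorem f416353 : Led Lsl_bt (LP (LK LD1_c0 LD2_c31 LD3_c15)) = (LP (LK LD1_c1 LD2_c8 LD3_c12)) :=
  Lre_b IH (LK LD1_c0 LD2_c31 LD3_c15) (LK LD1_c1 LD2_c8 LD3_c12) Lrfl Lrfl
theorem f437345 : Led Lsl_ct (LP (LK LD1_c1 LD2_c4 LD3_c0)) = (LP (LK LD1_c0 LD2_c31 LD3_c15)) :=
  Lgr Lrot83 (Lpe (f416354 IH) (Lpe (f437344 IH) (Lpr_bf (f437335 IH) (Lpe (f148384 IH) (Lpe (f416353 IH) (Lpn (LP (LK LD1_c0 LD2_c31 LD3_c15))))))))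
theorem f155863 : Led Lsl_ct (LP (LK LD1_c0 LD2_c42 LD3_c36)) = (LP (LK LD1_c1 LD2_c32 LD3_c3)) :=
  Lre_c IH (LK LD1_c0 LD2_c42 LD3_c36) (LK LD1_c1 LD2_c32 LD3_c3) Lrfl Lrfl
theorem f79744 : Led Lsl_ct (LP (LK LD1_c1 LD2_c32 LD3_c7)) = (LP (LK LD1_c3 LD2_c11 LD3_c30)) :=
  Lre_c IH (LK LD1_c1 LD2_c32 LD3_c7) (LK LD1_c3 LD2_c11 LD3_c30) Lrfl Lrfl
theorem f437397 : Led Lsl_gt (LP (LK LD1_c3 LD2_c11 LD3_c30)) = (LP (LK LD1_c2 LD2_c22 LD3_c13)) :=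
  Lgr Lrot150 (Lpe (f79744 IH) (Lpr_gf (K11.f435285 IH) (Lpe (K7.f150514 IH) (Lpe (f435519 IH) (Lpr_ct (f155863 IH) (Lpr_gt (K17.f416250 IH) (Lpr_ct (f437345 IH) (Lpe (K6.f23271 IH) (Lpe (K6.f84341 IH) (Lpn (LP (LK LD1_c2 LD2_c22 LD3_c13))))))))))))
theorem f79754 : Led Lsl_ct (LP (LK LD1_c3 LD2_c11 LD3_c30)) = (LP (LK LD1_c1 LD2_c32 LD3_c7)) :=
  Lre_c IH (LK LD1_c3 LD2_c11 LD3_c30) (LK LD1_c1 LD2_c32 LD3_c7) Lrfl Lrfl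
theorem f61701 : Led Lsl_ct (LP (LK LD1_c1 LD2_c32 LD3_c1)) = (LP (LK LD1_c3 LD2_c11 LD3_c14)) :=
  Lre_c IH (LK LD1_c1 LD2_c32 LD3_c1) (LK LD1_c3 LD2_c11 LD3_c14) Lrfl Lrfl
theorem f437406 : Led Lsl_dt (LP (LK LD1_c6 LD2_c26 LD3_c42)) = (LP (LK LD1_c3 LD2_c11 LD3_c14)) :=
  Lre_d IH (LK LD1_c6 LD2_c26 LD3_c42) (LK LD1_c3 LD2_c11 LD3_c14) Lrfl Lrfl
theorem f437407 : Led Lsl_gf (LP (LK LD1_c6 LD2_c26 LD3_c42)) = (LP (LK LD1_c4 LD2_c48 LD3_c39)) :=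
  Lgr Lrot143 (Lpr_dt (f437406 IH) (Lpe (f61701 IH) (Lpe (K17.f61682 IH) (Lpe (K17.f25849 IH) (Lpe (K9.f25848 IH) (Lpe (K11.f69072 IH) (Lpe (f79754 IH) (Lpr_gt (f437397 IH) (Lpr_dt (K6.f84353 IH) (Lpn (LP (LK LD1_c4 LD2_c48 LD3_c39))))))))))))
theorem f84516 : Led Lsl_ft (LP (LK LD1_c4 LD2_c48 LD3_c39)) = (LP (LK LD1_c9 LD2_c29 LD3_c52)) :=
  Lre_f IH (LK LD1_c4 LD2_c48 LD3_c39) (LK LD1_c9 LD2_c29 LD3_c52) Lrfl Lrfl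
theorem f135384 : Led Lsl_af (LP (LK LD1_c6 LD2_c44 LD3_c11)) = (LP (LK LD1_c9 LD2_c29 LD3_c52)) :=
  Lgr Lrot117 (Lpr_dt (f57193 IH) (Lpr_at (K6.f135356 IH) (Lpr_dt (K24.f135360 IH) (Lpn (LP (LK LD1_c9 LD2_c29 LD3_c52))))))
theorem f437414 : Led Lsl_gt (LP (LK LD1_c6 LD2_c26 LD3_c42)) = (LP (LK LD1_c6 LD2_c44 LD3_c11)) :=
  Lgr Lrot46 (Lpr_gf (f437407 IH) (Lpr_ft (f84516 IH) (Lpe (f135384 IH) (Lpn (LP (LK LD1_c6 LD2_c44 LD3_c11))))))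
theorem f437412 : Led Lsl_dt (LP (LK LD1_c3 LD2_c11 LD3_c14)) = (LP (LK LD1_c6 LD2_c26 LD3_c42)) :=
  Lre_d IH (LK LD1_c3 LD2_c11 LD3_c14) (LK LD1_c6 LD2_c26 LD3_c42) Lrfl Lrfl
theorem f437419 : Led Lsl_gt (LP (LK LD1_c6 LD2_c26 LD3_c40)) = (LP (LK LD1_c3 LD2_c11 LD3_c14)) :=
  Lre_g IH (LK LD1_c6 LD2_c26 LD3_c40) (LK LD1_c3 LD2_c11 LD3_c14) Lrfl Lrfl
theorem f438796 : Led Lsl_cf (LP (LK LD1_c6 LD2_c26 LD3_c40)) = (LP (LK LD1_c4 LD2_c48 LD3_c30)) :=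
  Lgr Lrot166 (Lpr_gt (f437419 IH) (Lpr_dt (f437412 IH) (Lpr_gt (f437414 IH) (Lpr_dt (f57193 IH) (Lpr_ct (f57183 IH) (Lpe (K6.f57177 IH) (Lpr_gf (K29.f438792 IH) (Lpe (K29.f84347 IH) (Lpe (K29.f417083 IH) (Lpn (LP (LK LD1_c4 LD2_c48 LD3_c30))))))))))))
theorem f438802 : Led Lsl_ef (LP (LK LD1_c4 LD2_c50 LD3_c14)) = (LP (LK LD1_c6 LD2_c26 LD3_c40)) :=
  Lgr Lrot28 (Lpr_ct (f415324 IH) (Lpr_et (K29.f438800 IH) (Lpe (f438796 IH) (Lpn (LP (LK LD1_c6 LD2_c26 LD3_c40))))))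
theorem f57178 : Led Lsl_ct (LP (LK LD1_c1 LD2_c36 LD3_c31)) = (LP (LK LD1_c3 LD2_c20 LD3_c13)) :=
  Lre_c IH (LK LD1_c1 LD2_c36 LD3_c31) (LK LD1_c3 LD2_c20 LD3_c13) Lrfl Lrfl
theorem f438794 : Led Lsl_ct (LP (LK LD1_c6 LD2_c26 LD3_c40)) = (LP (LK LD1_c4 LD2_c48 LD3_c30)) :=
  Lgr Lrot8 (Lpr_gt (f437419 IH) (Lpr_dt (f437412 IH) (Lpr_gt (f437414 IH) (Lpr_dt (f57193 IH) (Lpe (f57178 IH) (Lpe (K6.f57177 IH) (Lpr_gf (K29.f438792 IH) (Lpe (K29.f84347 IH) (Lpe (K29.f417083 IH) (Lpn (LP (LK LD1_c4 LD2_c48 LD3_c30))))))))))))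
theorem f503229 : Led Lsl_ft (LP (LK LD1_c6 LD2_c43 LD3_c53)) = (LP (LK LD1_c6 LD2_c26 LD3_c40)) :=
  Lgr Lrot4 (Lpe (K24.f57610 IH) (Lpr_ff (f503227 IH) (Lpe (f438794 IH) (Lpn (LP (LK LD1_c6 LD2_c26 LD3_c40))))))
theorem f154217 : Led Lsl_ct (LP (LK LD1_c6 LD2_c24 LD3_c18)) = (LP (LK LD1_c12 LD2_c21 LD3_c50)) :=
  Lre_c IH (LK LD1_c6 LD2_c24 LD3_c18) (LK LD1_c12 LD2_c21 LD3_c50) Lrfl Lrfl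
theorem f416569 : Led Lsl_et (LP (LK LD1_c12 LD2_c21 LD3_c50)) = (LP (LK LD1_c6 LD2_c43 LD3_c53)) :=
  Lgr Lrot158 (Lpe (f154217 IH) (Lpr_ef (f416567 IH) (Lpe (K24.f57614 IH) (Lpn (LP (LK LD1_c6 LD2_c43 LD3_c53))))))
theorem f503785 : Led Lsl_ft (LP (LK LD1_c6 LD2_c47 LD3_c48)) = (LP (LK LD1_c12 LD2_c21 LD3_c50)) :=
  Lgr Lrot86 (Lpe (f503776 IH) (Lpr_ff (f503779 IH) (Lpr_ef (f438802 IH) (Lpe (f503229 IH) (Lpe (f416569 IH) (Lpn (LP (LK LD1_c12 LD2_c21 LD3_c50))))))))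
theorem f503919 : Led Lsl_ff (LP (LK LD1_c6 LD2_c47 LD3_c48)) = (LP (LK LD1_c12 LD2_c21 LD3_c50)) :=
  Lgr Lrot3 (Lpr_ft (f503785 IH) (Lpn (LP (LK LD1_c12 LD2_c21 LD3_c50))))
theorem f415762 : Led Lsl_et (LP (LK LD1_c6 LD2_c47 LD3_c48)) = (LP (LK LD1_c3 LD2_c22 LD3_c5)) :=
  Lre_e IH (LK LD1_c6 LD2_c47 LD3_c48) (LK LD1_c3 LD2_c22 LD3_c5) Lrfl Lrfl
theorem f438808 : Led Lsl_et (LP (LK LD1_c4 LD2_c50 LD3_c14)) = (LP (LK LD1_c6 LD2_c26 LD3_c40)) :=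
  Lgr Lrot158 (Lpe (f415315 IH) (Lpr_ef (K29.f438806 IH) (Lpe (f438794 IH) (Lpn (LP (LK LD1_c6 LD2_c26 LD3_c40))))))
theorem f154219 : Led Lsl_ct (LP (LK LD1_c12 LD2_c21 LD3_c50)) = (LP (LK LD1_c6 LD2_c24 LD3_c18)) :=
  Lre_c IH (LK LD1_c12 LD2_c21 LD3_c50) (LK LD1_c6 LD2_c24 LD3_c18) Lrfl Lrfl
theorem f416565 : Led Lsl_ef (LP (LK LD1_c12 LD2_c21 LD3_c50)) = (LP (LK LD1_c6 LD2_c43 LD3_c53)) :=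
  Lgr Lrot28 (Lpr_ct (f154219 IH) (Lpr_et (f416563 IH) (Lpr_ct (K24.f57610 IH) (Lpn (LP (LK LD1_c6 LD2_c43 LD3_c53))))))
theorem f503921 : Led Lsl_ft (LP (LK LD1_c6 LD2_c26 LD3_c40)) = (LP (LK LD1_c6 LD2_c43 LD3_c53)) :=
  Lgr Lrot86 (Lpe (f438808 IH) (Lpe (f503777 IH) (Lpe (f415762 IH) (Lpr_ff (f503919 IH) (Lpr_ef (f416565 IH) (Lpn (LP (LK LD1_c6 LD2_c43 LD3_c53))))))))
theorem f61700 : Led Lsl_gt (LP (LK LD1_c3 LD2_c11 LD3_c14)) = (LP (LK LD1_c6 LD2_c26 LD3_c39)) :=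
  Lre_g IH (LK LD1_c3 LD2_c11 LD3_c14) (LK LD1_c6 LD2_c26 LD3_c39) Lrfl Lrfl
theorem f503925 : Led Lsl_af (LP (LK LD1_c6 LD2_c26 LD3_c39)) = (LP (LK LD1_c6 LD2_c43 LD3_c53)) :=
  Lgr Lrot31 (Lpe (f61700 IH) (Lpe (f437419 IH) (Lpr_ft (f503921 IH) (Lpn (LP (LK LD1_c6 LD2_c43 LD3_c53))))))
theorem f503235 : Led Lsl_af (LP (LK LD1_c3 LD2_c19 LD3_c61)) = (LP (LK LD1_c4 LD2_c48 LD3_c29)) :=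
  Lgr Lrot0 (Lpr_at (f503233 IH) (Lpn (LP (LK LD1_c4 LD2_c48 LD3_c29))))
theorem f503931 : Led Lsl_ct (LP (LK LD1_c6 LD2_c26 LD3_c39)) = (LP (LK LD1_c4 LD2_c48 LD3_c29)) :=
  Lgr Lrot111 (Lpr_af (f503925 IH) (Lpe (K24.f57610 IH) (Lpr_af (f503235 IH) (Lpn (LP (LK LD1_c4 LD2_c48 LD3_c29))))))
theorem f26274 : Led Lsl_gt (LP (LK LD1_c4 LD2_c43 LD3_c50)) = (LP (LK LD1_c2 LD2_c19 LD3_c43)) :=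
  Lre_g IH (LK LD1_c4 LD2_c43 LD3_c50) (LK LD1_c2 LD2_c19 LD3_c43) Lrfl Lrfl
theorem f503943 : Led Lsl_df (LP (LK LD1_c3 LD2_c11 LD3_c13)) = (LP (LK LD1_c4 LD2_c43 LD3_c50)) :=
  Lgr Lrot155 (Lpr_gt (f153683 IH) (Lpr_ct (f61701 IH) (Lpr_gt (f61700 IH) (Lpr_ct (f503931 IH) (Lpe (f23286 IH) (Lpr_cf (f438584 IH) (Lpe (f442833 IH) (Lpe (f438438 IH) (Lpe (f26274 IH) (Lpn (LP (LK LD1_c4 LD2_c43 LD3_c50))))))))))))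
theorem f506737 : Led Lsl_ef (LP (LK LD1_c4 LD2_c43 LD3_c50)) = v1980 :=
  Lgr Lrot73 (Lpe (f503943 IH) (Lpr_et (f435320 IH) (Lpe (f83699 IH) (Lpr_et (f61022 IH) (Lpr_dt (f506734 IH) (Lpn v1980))))))
theorem f505193 : Led Lsl_df (LP (LK LD1_c2 LD2_c19 LD3_c32)) = (LP (LK LD1_c3 LD2_c13 LD3_c6)) :=
  Lgr Lrot135 (Lpe (K24.f153699 IH) (Lpe (K24.f69086 IH) (Lpr_et (K24.f153623 IH) (Lpe (f435542 IH) (Lpe (K9.f67306 IH) (Lpr_dt (K9.f67307 IH) (Lpr_gt (f505188 IH) (Lpe (K17.f61698 IH) (Lpr_et (f61691 IH) (Lpe (f505186 IH) (Lpn (LP (LK LD1_c3 LD2_c13 LD3_c6)))))))))))))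
theorem f505210 : Led Lsl_dt (LP (LK LD1_c2 LD2_c19 LD3_c32)) = (LP (LK LD1_c3 LD2_c13 LD3_c6)) :=
  Lgr Lrot42 (Lpr_df (f505193 IH) (Lpn (LP (LK LD1_c3 LD2_c13 LD3_c6))))
theorem f83938 : Led Lsl_et (LP (LK LD1_c0 LD2_c30 LD3_c36)) = (LP (LK LD1_c1 LD2_c6 LD3_c53)) :=
  Lre_e IH (LK LD1_c0 LD2_c30 LD3_c36) (LK LD1_c1 LD2_c6 LD3_c53) Lrfl Lrfl
theorem f503941 : Led Lsl_dt (LP (LK LD1_c3 LD2_c11 LD3_c13)) = (LP (LK LD1_c4 LD2_c43 LD3_c50)) :=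
  Lgr Lrot6 (Lpr_gt (f153683 IH) (Lpr_ct (f61701 IH) (Lpr_gt (f61700 IH) (Lpr_ct (f503931 IH) (Lpe (f23283 IH) (Lpr_cf (f438584 IH) (Lpe (f442833 IH) (Lpe (f438438 IH) (Lpe (f26274 IH) (Lpn (LP (LK LD1_c4 LD2_c43 LD3_c50))))))))))))
theorem f505475 : Led Lsl_gf (LP (LK LD1_c4 LD2_c43 LD3_c50)) = (LP (LK LD1_c3 LD2_c13 LD3_c6)) :=
  Lgr Lrot134 (Lpe (f503941 IH) (Lpr_et (f435320 IH) (Lpr_gt (K24.f83694 IH) (Lpe (K6.f83198 IH) (Lpe (K2.f83196 IH) (Lpe (K2.f83935 IH) (Lpe (K6.f25746 IH) (Lpr_et (f83938 IH) (Lpr_gt (K24.f26262 IH) (Lpr_dt (f505210 IH) (Lpn (LP (LK LD1_c3 LD2_c13 LD3_c6)))))))))))))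
theorem f153713 : Led Lsl_at (LP (LK LD1_c1 LD2_c32 LD3_c8)) = (LP (LK LD1_c2 LD2_c19 LD3_c34)) :=
  Lgr Lrot100 (Lpr_af (K7.f153708 IH) (Lpn (LP (LK LD1_c2 LD2_c19 LD3_c34))))
theorem f153768 : Led Lsl_ft (LP (LK LD1_c3 LD2_c11 LD3_c36)) = (LP (LK LD1_c1 LD2_c32 LD3_c8)) :=
  Lre_f IH (LK LD1_c3 LD2_c11 LD3_c36) (LK LD1_c1 LD2_c32 LD3_c8) Lrfl Lrfl
theorem f435281 : Led Lsl_gt (LP (LK LD1_c3 LD2_c11 LD3_c36)) = (LP (LK LD1_c4 LD2_c43 LD3_c36)) :=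
  Lgr Lrot5 (Lpr_ft (f153768 IH) (Lpr_at (f153713 IH) (Lpe (f150570 IH) (Lpn (LP (LK LD1_c4 LD2_c43 LD3_c36))))))
theorem f417070 : Led Lsl_ct (LP (LK LD1_c4 LD2_c43 LD3_c36)) = (LP (LK LD1_c2 LD2_c22 LD3_c12)) :=
  Lgr Lrot59 (Lpr_cf (f417063 IH) (Lpn (LP (LK LD1_c2 LD2_c22 LD3_c12))))
theorem f71369 : Led Lsl_et (LP (LK LD1_c4 LD2_c36 LD3_c30)) = (LP (LK LD1_c2 LD2_c15 LD3_c24)) :=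
  Lre_e IH (LK LD1_c4 LD2_c36 LD3_c30) (LK LD1_c2 LD2_c15 LD3_c24) Lrfl Lrfl
theorem f442817 : Led Lsl_dt (LP (LK LD1_c4 LD2_c36 LD3_c33)) = (LP (LK LD1_c3 LD2_c20 LD3_c60)) :=
  Lgr Lrot42 (Lpr_df (K24.f442814 IH) (Lpn (LP (LK LD1_c3 LD2_c20 LD3_c60))))
theorem f23026 : Led Lsl_dt (LP (LK LD1_c1 LD2_c4 LD3_c46)) = (LP (LK LD1_c2 LD2_c15 LD3_c26)) :=
  Lre_d IH (LK LD1_c1 LD2_c4 LD3_c46) (LK LD1_c2 LD2_c15 LD3_c26) Lrfl Lrfl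
theorem f71341 : Led Lsl_gt (LP (LK LD1_c2 LD2_c15 LD3_c25)) = (LP (LK LD1_c1 LD2_c4 LD3_c46)) :=
  Lre_g IH (LK LD1_c2 LD2_c15 LD3_c25) (LK LD1_c1 LD2_c4 LD3_c46) Lrfl Lrfl
theorem f144064 : Led Lsl_et (LP (LK LD1_c2 LD2_c20 LD3_c13)) = (LP (LK LD1_c1 LD2_c7 LD3_c22)) :=
  Lre_e IH (LK LD1_c2 LD2_c20 LD3_c13) (LK LD1_c1 LD2_c7 LD3_c22) Lrfl Lrfl
theorem f144073 : Led Lsl_gf (LP (LK LD1_c3 LD2_c19 LD3_c28)) = (LP (LK LD1_c1 LD2_c37 LD3_c17)) :=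
  Lgr Lrot134 (Lpr_df (f144068 IH) (Lpr_et (f144064 IH) (Lpr_gt (f25232 IH) (Lpe (K24.f25255 IH) (Lpr_dt (K0.f20835 IH) (Lpr_gt (K0.f20048 IH) (Lpe (K0.f11008 IH) (Lpr_et (K0.f25406 IH) (Lpr_gt (K0.f25407 IH) (Lpr_dt (f135513 IH) (Lpn (LP (LK LD1_c1 LD2_c37 LD3_c17)))))))))))))
theorem f23050 : Led Lsl_dt (LP (LK LD1_c1 LD2_c5 LD3_c8)) = (LP (LK LD1_c2 LD2_c16 LD3_c32)) :=
  Lre_d IH (LK LD1_c1 LD2_c5 LD3_c8) (LK LD1_c2 LD2_c16 LD3_c32) Lrfl Lrfl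
theorem f140881 : Led Lsl_gt (LP (LK LD1_c2 LD2_c16 LD3_c32)) = (LP (LK LD1_c4 LD2_c39 LD3_c4)) :=
  Lre_g IH (LK LD1_c2 LD2_c16 LD3_c32) (LK LD1_c4 LD2_c39 LD3_c4) Lrfl Lrfl
theorem f144075 : Led Lsl_dt (LP (LK LD1_c4 LD2_c39 LD3_c4)) = (LP (LK LD1_c4 LD2_c36 LD3_c32)) :=
  Lre_d IH (LK LD1_c4 LD2_c39 LD3_c4) (LK LD1_c4 LD2_c36 LD3_c32) Lrfl Lrfl
theorem f144078 : Led Lsl_cf (LP (LK LD1_c2 LD2_c20 LD3_c13)) = (LP (LK LD1_c4 LD2_c36 LD3_c32)) :=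
  Lgr Lrot14 (Lpe (f144071 IH) (Lpr_gf (f144073 IH) (Lpe (f135513 IH) (Lpe (K0.f25407 IH) (Lpr_ct (f23248 IH) (Lpr_gt (K0.f22998 IH) (Lpr_dt (f23050 IH) (Lpr_gt (f140881 IH) (Lpr_dt (f144075 IH) (Lpn (LP (LK LD1_c4 LD2_c36 LD3_c32))))))))))))
theorem f144088 : Led Lsl_et (LP (LK LD1_c2 LD2_c15 LD3_c25)) = (LP (LK LD1_c4 LD2_c36 LD3_c32)) :=
  Lre_e IH (LK LD1_c2 LD2_c15 LD3_c25) (LK LD1_c4 LD2_c36 LD3_c32) Lrfl Lrfl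
theorem f144089 : Led Lsl_ct (LP (LK LD1_c1 LD2_c7 LD3_c22)) = (LP (LK LD1_c2 LD2_c15 LD3_c25)) :=
  Lgr Lrot15 (Lpe (f144064 IH) (Lpr_cf (f144078 IH) (Lpe (f144088 IH) (Lpn (LP (LK LD1_c2 LD2_c15 LD3_c25))))))
theorem f442851 : Led Lsl_cf (LP (LK LD1_c1 LD2_c37 LD3_c13)) = (LP (LK LD1_c3 LD2_c20 LD3_c60)) :=
  Lgr Lrot14 (Lpr_df (K24.f414552 IH) (Lpe (K24.f25227 IH) (Lpe (K24.f144055 IH) (Lpe (f25232 IH) (Lpr_ct (f144089 IH) (Lpr_gt (f71341 IH) (Lpr_dt (f23026 IH) (Lpr_gt (K24.f23027 IH) (Lpr_dt (f442817 IH) (Lpn (LP (LK LD1_c3 LD2_c20 LD3_c60))))))))))))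
def v1330 : LQ := Led Lsl_ct (LP (LK LD1_c1 LD2_c7 LD3_c21))
theorem f494882 : Led Lsl_ct (LP (LK LD1_c1 LD2_c7 LD3_c21)) = v1330 :=
  Lrfl
theorem f494883 : Led Lsl_cf (LP (LK LD1_c1 LD2_c7 LD3_c21)) = v1330 :=
  Lgr Lrot11 (Lpr_ct (f494882 IH) (Lpn v1330))
theorem f71361 : Led Lsl_gt (LP (LK LD1_c1 LD2_c4 LD3_c46)) = (LP (LK LD1_c2 LD2_c15 LD3_c24)) :=
  Lre_g IH (LK LD1_c1 LD2_c4 LD3_c46) (LK LD1_c2 LD2_c15 LD3_c24) Lrfl Lrfl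
theorem f504713 : v1330 = (LP (LK LD1_c2 LD2_c15 LD3_c24)) :=
  (Llr Lrot99 (Lpe (f494883 IH) (Lpe (K24.f414549 IH) (Lpr_cf (f442851 IH) (Lpe (K24.f414608 IH) (Lpe (K24.f414506 IH) (Lpq (f504711 IH) (Lpe (f504698 IH) (Lpr_df (f82589 IH) (Lpr_gt (K24.f26065 IH) (Lpe (K24.f82914 IH) (Lpr_gt (f71361 IH) (Lpn (LP (LK LD1_c2 LD2_c15 LD3_c24))))))))))))))).symm
theorem f414554 : Led Lsl_et (LP (LK LD1_c1 LD2_c7 LD3_c21)) = (LP (LK LD1_c2 LD2_c20 LD3_c12)) :=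
  Lre_e IH (LK LD1_c1 LD2_c7 LD3_c21) (LK LD1_c2 LD2_c20 LD3_c12) Lrfl Lrfl
theorem f504720 : Led Lsl_cf (LP (LK LD1_c4 LD2_c36 LD3_c30)) = (LP (LK LD1_c2 LD2_c20 LD3_c12)) :=
  Lgr Lrot39 (Lpr_et (f71369 IH) (Lpq (f504713 IH) (Lpe (f494883 IH) (Lpr_et (f414554 IH) (Lpn (LP (LK LD1_c2 LD2_c20 LD3_c12)))))))
theorem f504726 : Led Lsl_ct (LP (LK LD1_c4 LD2_c36 LD3_c30)) = (LP (LK LD1_c2 LD2_c20 LD3_c12)) :=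
  Lgr Lrot59 (Lpr_cf (f504720 IH) (Lpn (LP (LK LD1_c2 LD2_c20 LD3_c12))))
theorem f504734 : Led Lsl_gt (LP (LK LD1_c9 LD2_c9 LD3_c9)) = (LP (LK LD1_c4 LD2_c36 LD3_c30)) :=
  Lre_g IH (LK LD1_c9 LD2_c9 LD3_c9) (LK LD1_c4 LD2_c36 LD3_c30) Lrfl Lrfl
theorem f505477 : Led Lsl_ct (LP (LK LD1_c4 LD2_c43 LD3_c50)) = (LP (LK LD1_c9 LD2_c9 LD3_c9)) :=
  Lgr Lrot152 (Lpr_gf (f505475 IH) (Lpe (f505210 IH) (Lpe (K24.f153699 IH) (Lpr_ct (K16.f69087 IH) (Lpr_gt (f435281 IH) (Lpr_ct (f417070 IH) (Lpe (f151931 IH) (Lpe (f504726 IH) (Lpe (f504734 IH) (Lpn (LP (LK LD1_c9 LD2_c9 LD3_c9))))))))))))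
theorem f506739 : Led Lsl_ef (LP (LK LD1_c4 LD2_c49 LD3_c31)) = (LP (LK LD1_c9 LD2_c9 LD3_c9)) :=
  Lgr Lrot28 (Lpr_ct (f506738 IH) (Lpe (f506737 IH) (Lpr_ct (f505477 IH) (Lpn (LP (LK LD1_c9 LD2_c9 LD3_c9))))))
theorem f506740 : Led Lsl_et (LP (LK LD1_c9 LD2_c9 LD3_c9)) = (LP (LK LD1_c4 LD2_c49 LD3_c31)) :=
  Leop (Lpr_ef (f506739 IH) (Lpn (LP (LK LD1_c9 LD2_c9 LD3_c9))))
theorem seed_138 : LEOK LG_e (LK LD1_c9 LD2_c9 LD3_c9) :=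
  Leoe_e (LK LD1_c9 LD2_c9 LD3_c9) (f506740 IH)
def v2010 : LQ := Led Lsl_ft (LP (LK LD1_c1 LD2_c33 LD3_c29))
theorem f506870 : Led Lsl_ft (LP (LK LD1_c1 LD2_c33 LD3_c29)) = v2010 :=
  Lrfl
theorem f148372 : Led Lsl_gt (LP (LK LD1_c1 LD2_c33 LD3_c29)) = (LP (LK LD1_c3 LD2_c13 LD3_c50)) :=
  Lre_g IH (LK LD1_c1 LD2_c33 LD3_c29) (LK LD1_c3 LD2_c13 LD3_c50) Lrfl Lrfl
theorem f23720 : Led Lsl_at (LP (LK LD1_c0 LD2_c43 LD3_c25)) = (LP (LK LD1_c1 LD2_c33 LD3_c29)) :=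
  Lre_a IH (LK LD1_c0 LD2_c43 LD3_c25) (LK LD1_c1 LD2_c33 LD3_c29) Lrfl Lrfl
theorem f506871 : Led Lsl_af (LP (LK LD1_c1 LD2_c33 LD3_c42)) = v2010 :=
  Lgr Lrot45 (Lpr_ft (K24.f23728 IH) (Lpr_at (f23720 IH) (Lpr_ft (f506870 IH) (Lpn v2010))))
theorem f506873 : Led Lsl_gt (LP (LK LD1_c3 LD2_c13 LD3_c50)) = (LP (LK LD1_c1 LD2_c33 LD3_c42)) :=
  Lgr Lrot46 (Lpe (f148372 IH) (Lpr_ft (f506870 IH) (Lpe (f506871 IH) (Lpn (LP (LK LD1_c1 LD2_c33 LD3_c42))))))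
theorem f506874 : Led Lsl_gt (LP (LK LD1_c3 LD2_c13 LD3_c50)) = (LP (LK LD1_c1 LD2_c33 LD3_c42)) :=
  Leop (Lpe (f506873 IH) (Lpn (LP (LK LD1_c3 LD2_c13 LD3_c50))))
theorem seed_139 : LEOK LG_g (LK LD1_c3 LD2_c13 LD3_c50) :=
  Leoe_g (LK LD1_c3 LD2_c13 LD3_c50) (f506874 IH)
def v1358 : LQ := Led Lsl_ft (LP (LK LD1_c1 LD2_c8 LD3_c6))
theorem f495108 : Led Lsl_ft (LP (LK LD1_c1 LD2_c8 LD3_c6)) = v1358 :=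
  Lrfl
theorem f495110 : Led Lsl_ff (LP (LK LD1_c1 LD2_c8 LD3_c6)) = v1358 :=
  Lgr Lrot3 (Lpr_ft (f495108 IH) (Lpn v1358))
def v1357 : LQ := Led Lsl_at (LP (LK LD1_c1 LD2_c8 LD3_c6))
theorem f495104 : Led Lsl_at (LP (LK LD1_c1 LD2_c8 LD3_c6)) = v1357 :=
  Lrfl
theorem f495105 : Led Lsl_af (LP (LK LD1_c1 LD2_c8 LD3_c6)) = v1357 :=
  Lgr Lrot0 (Lpr_at (f495104 IH) (Lpn v1357))
theorem f495106 : Led Lsl_ft (LP (LK LD1_c1 LD2_c8 LD3_c7)) = v1357 :=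
  Lgr Lrot2 (Lpr_gt (f20101 IH) (Lpr_gt (K24.f68362 IH) (Lpr_af (f495105 IH) (Lpn v1357))))
theorem f495107 : Led Lsl_ff (LP (LK LD1_c1 LD2_c8 LD3_c7)) = v1357 :=
  Lgr Lrot3 (Lpr_ft (f495106 IH) (Lpn v1357))
theorem f495111 : Led Lsl_at (LP (LK LD1_c1 LD2_c8 LD3_c7)) = v1358 :=
  Lgr Lrot66 (Lpr_ff (f495107 IH) (Lpe (f495104 IH) (Lpr_ff (f495110 IH) (Lpn v1358))))
def v2022 : LQ := Led Lsl_at (LP (LK LD1_c1 LD2_c33 LD3_c44))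
theorem f506932 : Led Lsl_at (LP (LK LD1_c1 LD2_c33 LD3_c44)) = v2022 :=
  Lrfl
def v510 : LQ := Led Lsl_at (LP (LK LD1_c0 LD2_c43 LD3_c26))
theorem f453707 : Led Lsl_at (LP (LK LD1_c0 LD2_c43 LD3_c26)) = v510 :=
  Lrfl
theorem f453708 : Led Lsl_af (LP (LK LD1_c0 LD2_c43 LD3_c26)) = v510 :=
  Lgr Lrot0 (Lpr_at (f453707 IH) (Lpn v510))
theorem f506934 : Led Lsl_df v510 = v2022 :=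
  Lgr Lrot18 (Lpe (f453708 IH) (Lpr_dt (K0.f22521 IH) (Lpr_at (f506932 IH) (Lpn v2022))))
theorem f453709 : Led Lsl_ft (LP (LK LD1_c0 LD2_c43 LD3_c27)) = v510 :=
  Lgr Lrot2 (Lpr_gt (K0.f22542 IH) (Lpr_gt (K0.f22520 IH) (Lpr_af (f453708 IH) (Lpn v510))))
theorem f453710 : Led Lsl_ff (LP (LK LD1_c0 LD2_c43 LD3_c27)) = v510 :=
  Lgr Lrot3 (Lpr_ft (f453709 IH) (Lpn v510))
theorem f506938 : Led Lsl_ft (LP (LK LD1_c1 LD2_c33 LD3_c47)) = v2022 :=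
  Lgr Lrot54 (Lpe (K24.f22730 IH) (Lpr_ff (f453710 IH) (Lpr_df (f506934 IH) (Lpn v2022))))
theorem f25563 : Led Lsl_af (LP (LK LD1_c3 LD2_c6 LD3_c12)) = (LP (LK LD1_c3 LD2_c3 LD3_c5)) :=
  Lgr Lrot0 (Lpr_at (K0.f25558 IH) (Lpn (LP (LK LD1_c3 LD2_c3 LD3_c5))))
theorem f443936 : Led Lsl_ft (LP (LK LD1_c1 LD2_c27 LD3_c30)) = (LP (LK LD1_c3 LD2_c3 LD3_c5)) :=
  Lre_f IH (LK LD1_c1 LD2_c27 LD3_c30) (LK LD1_c3 LD2_c3 LD3_c5) Lrfl Lrfl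
theorem f23291 : Led Lsl_gt (LP (LK LD1_c1 LD2_c27 LD3_c30)) = (LP (LK LD1_c3 LD2_c3 LD3_c11)) :=
  Lre_g IH (LK LD1_c1 LD2_c27 LD3_c30) (LK LD1_c3 LD2_c3 LD3_c11) Lrfl Lrfl
theorem f446069 : Led Lsl_gf (LP (LK LD1_c3 LD2_c6 LD3_c12)) = (LP (LK LD1_c3 LD2_c3 LD3_c11)) :=
  Lgr Lrot76 (Lpr_af (f25563 IH) (Lpe (f443936 IH) (Lpr_gt (f23291 IH) (Lpn (LP (LK LD1_c3 LD2_c3 LD3_c11))))))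
theorem f415410 : Led Lsl_et (LP (LK LD1_c0 LD2_c44 LD3_c34)) = (LP (LK LD1_c1 LD2_c36 LD3_c10)) :=
  Lre_e IH (LK LD1_c0 LD2_c44 LD3_c34) (LK LD1_c1 LD2_c36 LD3_c10) Lrfl Lrfl
theorem f146154 : Led Lsl_gt (LP (LK LD1_c1 LD2_c36 LD3_c10)) = (LP (LK LD1_c3 LD2_c19 LD3_c31)) :=
  Lre_g IH (LK LD1_c1 LD2_c36 LD3_c10) (LK LD1_c3 LD2_c19 LD3_c31) Lrfl Lrfl
theorem f446076 : Led Lsl_dt (LP (LK LD1_c3 LD2_c19 LD3_c31)) = (LP (LK LD1_c3 LD2_c3 LD3_c11)) :=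
  Lgr Lrot171 (Lpe (f146154 IH) (Lpe (f415410 IH) (Lpr_dt (f415411 IH) (Lpe (f444275 IH) (Lpe (K9.f24624 IH) (Lpr_et (K9.f24623 IH) (Lpe (K9.f23226 IH) (Lpe (K24.f25595 IH) (Lpr_dt (K1.f25569 IH) (Lpr_gf (f446069 IH) (Lpn (LP (LK LD1_c3 LD2_c3 LD3_c11)))))))))))))
theorem f446078 : Led Lsl_df (LP (LK LD1_c3 LD2_c19 LD3_c31)) = (LP (LK LD1_c3 LD2_c3 LD3_c11)) :=
  Lgr Lrot38 (Lpr_dt (f446076 IH) (Lpn (LP (LK LD1_c3 LD2_c3 LD3_c11))))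
theorem f23813 : Led Lsl_dt (LP (LK LD1_c3 LD2_c20 LD3_c8)) = (LP (LK LD1_c3 LD2_c14 LD3_c28)) :=
  Lre_d IH (LK LD1_c3 LD2_c20 LD3_c8) (LK LD1_c3 LD2_c14 LD3_c28) Lrfl Lrfl
theorem f446082 : Led Lsl_gt (LP (LK LD1_c3 LD2_c19 LD3_c31)) = (LP (LK LD1_c3 LD2_c14 LD3_c28)) :=
  Lgr Lrot139 (Lpr_df (f446078 IH) (Lpe (f23291 IH) (Lpe (K6.f23829 IH) (Lpr_dt (K2.f7488 IH) (Lpr_gf (K1.f57547 IH) (Lpe (K6.f57536 IH) (Lpe (K6.f62357 IH) (Lpe (f57135 IH) (Lpe (f23837 IH) (Lpr_dt (f23813 IH) (Lpn (LP (LK LD1_c3 LD2_c14 LD3_c28)))))))))))))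
theorem f443999 : Led Lsl_ft (LP (LK LD1_c1 LD2_c36 LD3_c10)) = (LP (LK LD1_c3 LD2_c19 LD3_c33)) :=
  Lre_f IH (LK LD1_c1 LD2_c36 LD3_c10) (LK LD1_c3 LD2_c19 LD3_c33) Lrfl Lrfl
theorem f446084 : Led Lsl_at (LP (LK LD1_c3 LD2_c19 LD3_c33)) = (LP (LK LD1_c3 LD2_c14 LD3_c28)) :=
  Lgr Lrot26 (Lpe (f443999 IH) (Lpr_gt (f146154 IH) (Lpr_gt (f446082 IH) (Lpn (LP (LK LD1_c3 LD2_c14 LD3_c28))))))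
theorem f506935 : Led Lsl_ef (LP (LK LD1_c3 LD2_c19 LD3_c33)) = v2022 :=
  Lgr Lrot20 (Lpr_at (f446084 IH) (Lpr_et (f23866 IH) (Lpr_at (f506932 IH) (Lpn v2022))))
theorem f444151 : Led Lsl_ft (LP (LK LD1_c3 LD2_c19 LD3_c33)) = (LP (LK LD1_c1 LD2_c36 LD3_c10)) :=
  Lre_f IH (LK LD1_c3 LD2_c19 LD3_c33) (LK LD1_c1 LD2_c36 LD3_c10) Lrfl Lrfl
theorem f506940 : v1358 = (LP (LK LD1_c0 LD2_c44 LD3_c34)) :=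
  (Llr Lrot72 (Lpe (f495110 IH) (Lpe (K24.f68376 IH) (Lpr_ft (f506938 IH) (Lpe (f506935 IH) (Lpr_ft (f444151 IH) (Lpr_et (K29.f24631 IH) (Lpn (LP (LK LD1_c0 LD2_c44 LD3_c34)))))))))).symm
theorem f506942 : Led Lsl_at (LP (LK LD1_c1 LD2_c8 LD3_c7)) = (LP (LK LD1_c0 LD2_c44 LD3_c34)) :=
  Leop (Lpq (f506940 IH) (Lpe (f495111 IH) (Lpn (LP (LK LD1_c1 LD2_c8 LD3_c7)))))
theorem seed_140 : LEOK LG_a (LK LD1_c1 LD2_c8 LD3_c7) :=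
  Leoe_a (LK LD1_c1 LD2_c8 LD3_c7) (f506942 IH)
def v2048 : LQ := Led Lsl_at (LP (LK LD1_c1 LD2_c34 LD3_c11))
theorem f507914 : Led Lsl_at (LP (LK LD1_c1 LD2_c34 LD3_c11)) = v2048 :=
  Lrfl
theorem f507915 : Led Lsl_af (LP (LK LD1_c1 LD2_c34 LD3_c11)) = v2048 :=
  Lgr Lrot0 (Lpr_at (f507914 IH) (Lpn v2048))
theorem f24685 : Led Lsl_gt (LP (LK LD1_c1 LD2_c36 LD3_c12)) = (LP (LK LD1_c0 LD2_c44 LD3_c35)) :=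
  Lre_g IH (LK LD1_c1 LD2_c36 LD3_c12) (LK LD1_c0 LD2_c44 LD3_c35) Lrfl Lrfl
theorem f139888 : Led Lsl_dt (LP (LK LD1_c1 LD2_c34 LD3_c11)) = (LP (LK LD1_c1 LD2_c36 LD3_c12)) :=
  Lre_d IH (LK LD1_c1 LD2_c34 LD3_c11) (LK LD1_c1 LD2_c36 LD3_c12) Lrfl Lrfl
theorem f503649 : Led Lsl_gf (LP (LK LD1_c1 LD2_c34 LD3_c11)) = (LP (LK LD1_c3 LD2_c3 LD3_c4)) :=
  Lgr Lrot138 (Lpr_dt (f139888 IH) (Lpr_gt (f24685 IH) (Lpe (K29.f24693 IH) (Lpr_et (K5.f24610 IH) (Lpr_gt (K0.f24025 IH) (Lpe (K16.f415326 IH) (Lpr_dt (K16.f135600 IH) (Lpr_gt (f154226 IH) (Lpr_df (f503313 IH) (Lpr_et (f503645 IH) (Lpn (LP (LK LD1_c3 LD2_c3 LD3_c4)))))))))))))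
theorem f507918 : Led Lsl_ft (LP (LK LD1_c3 LD2_c19 LD3_c35)) = v2048 :=
  Lgr Lrot2 (Lpr_gt (f503641 IH) (Lpe (f503649 IH) (Lpr_af (f507915 IH) (Lpn v2048))))
theorem f435608 : Led Lsl_et (LP (LK LD1_c0 LD2_c43 LD3_c41)) = (LP (LK LD1_c1 LD2_c34 LD3_c11)) :=
  Lre_e IH (LK LD1_c0 LD2_c43 LD3_c41) (LK LD1_c1 LD2_c34 LD3_c11) Lrfl Lrfl
def v519 : LQ := Led Lsl_at (LP (LK LD1_c0 LD2_c43 LD3_c41))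
theorem f453754 : Led Lsl_at (LP (LK LD1_c0 LD2_c43 LD3_c41)) = v519 :=
  Lrfl
theorem f453755 : Led Lsl_af (LP (LK LD1_c0 LD2_c43 LD3_c41)) = v519 :=
  Lgr Lrot0 (Lpr_at (f453754 IH) (Lpn v519))
theorem f507916 : Led Lsl_ef v519 = v2048 :=
  Lgr Lrot20 (Lpe (f453755 IH) (Lpr_et (f435608 IH) (Lpr_at (f507914 IH) (Lpn v2048))))
theorem f24041 : Led Lsl_gt (LP (LK LD1_c0 LD2_c19 LD3_c30)) = (LP (LK LD1_c0 LD2_c43 LD3_c41)) :=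
  Lre_g IH (LK LD1_c0 LD2_c19 LD3_c30) (LK LD1_c0 LD2_c43 LD3_c41) Lrfl Lrfl
theorem f453756 : Led Lsl_ft (LP (LK LD1_c0 LD2_c43 LD3_c42)) = v519 :=
  Lgr Lrot2 (Lpr_gt (K24.f24043 IH) (Lpr_gt (f24041 IH) (Lpr_af (f453755 IH) (Lpn v519))))
theorem f453757 : Led Lsl_ff (LP (LK LD1_c0 LD2_c43 LD3_c42)) = v519 :=
  Lgr Lrot3 (Lpr_ft (f453756 IH) (Lpn v519))
theorem f180341 : Led Lsl_et (LP (LK LD1_c0 LD2_c43 LD3_c42)) = (LP (LK LD1_c1 LD2_c34 LD3_c12)) :=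
  Lre_e IH (LK LD1_c0 LD2_c43 LD3_c42) (LK LD1_c1 LD2_c34 LD3_c12) Lrfl Lrfl
theorem f507919 : Led Lsl_ff (LP (LK LD1_c3 LD2_c2 LD3_c51)) = (LP (LK LD1_c1 LD2_c34 LD3_c12)) :=
  Lgr Lrot72 (Lpe (K29.f416940 IH) (Lpr_ft (f507918 IH) (Lpe (f507916 IH) (Lpe (f453757 IH) (Lpr_et (f180341 IH) (Lpn (LP (LK LD1_c1 LD2_c34 LD3_c12))))))))
theorem f507920 : Led Lsl_ft (LP (LK LD1_c1 LD2_c34 LD3_c12)) = (LP (LK LD1_c3 LD2_c2 LD3_c51)) :=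
  Leop (Lpr_ff (f507919 IH) (Lpn (LP (LK LD1_c1 LD2_c34 LD3_c12))))
theorem seed_141 : LEOK LG_f (LK LD1_c1 LD2_c34 LD3_c12) :=
  Leoe_f (LK LD1_c1 LD2_c34 LD3_c12) (f507920 IH)
def v2057 : LQ := Led Lsl_ft (LP (LK LD1_c1 LD2_c34 LD3_c33))
theorem f508613 : Led Lsl_ft (LP (LK LD1_c1 LD2_c34 LD3_c33)) = v2057 :=
  Lrfl
theorem f65473 : Led Lsl_ct (LP (LK LD1_c1 LD2_c34 LD3_c33)) = (LP (LK LD1_c0 LD2_c43 LD3_c57)) :=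
  Lre_c IH (LK LD1_c1 LD2_c34 LD3_c33) (LK LD1_c0 LD2_c43 LD3_c57) Lrfl Lrfl
theorem f130783 : Led Lsl_ct (LP (LK LD1_c1 LD2_c27 LD3_c0)) = (LP (LK LD1_c3 LD2_c1 LD3_c56)) :=
  Lre_c IH (LK LD1_c1 LD2_c27 LD3_c0) (LK LD1_c3 LD2_c1 LD3_c56) Lrfl Lrfl
theorem f130784 : Led Lsl_af (LP (LK LD1_c1 LD2_c34 LD3_c33)) = (LP (LK LD1_c3 LD2_c1 LD3_c56)) :=
  Lgr Lrot68 (Lpr_ct (f65473 IH) (Lpr_at (K5.f130778 IH) (Lpr_ct (f130783 IH) (Lpn (LP (LK LD1_c3 LD2_c1 LD3_c56))))))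
theorem f150984 : Led Lsl_ft (LP (LK LD1_c6 LD2_c10 LD3_c36)) = (LP (LK LD1_c3 LD2_c1 LD3_c56)) :=
  Lre_f IH (LK LD1_c6 LD2_c10 LD3_c36) (LK LD1_c3 LD2_c1 LD3_c56) Lrfl Lrfl
theorem f508614 : Led Lsl_af (LP (LK LD1_c6 LD2_c10 LD3_c36)) = v2057 :=
  Lgr Lrot45 (Lpr_ft (f150984 IH) (Lpe (f130784 IH) (Lpr_ft (f508613 IH) (Lpn v2057))))
theorem f508617 : Led Lsl_gt (LP (LK LD1_c3 LD2_c15 LD3_c39)) = (LP (LK LD1_c6 LD2_c10 LD3_c36)) :=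
  Lgr Lrot46 (Lpe (K5.f66012 IH) (Lpr_ft (f508613 IH) (Lpe (f508614 IH) (Lpn (LP (LK LD1_c6 LD2_c10 LD3_c36))))))
theorem f508618 : Led Lsl_gt (LP (LK LD1_c3 LD2_c15 LD3_c39)) = (LP (LK LD1_c6 LD2_c10 LD3_c36)) :=
  Leop (Lpe (f508617 IH) (Lpn (LP (LK LD1_c3 LD2_c15 LD3_c39))))
theorem seed_142 : LEOK LG_g (LK LD1_c3 LD2_c15 LD3_c39) :=
  Leoe_g (LK LD1_c3 LD2_c15 LD3_c39) (f508618 IH)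
def v2102 : LQ := Led Lsl_at (LP (LK LD1_c1 LD2_c35 LD3_c40))
theorem f508862 : Led Lsl_at (LP (LK LD1_c1 LD2_c35 LD3_c40)) = v2102 :=
  Lrfl
theorem f414627 : Led Lsl_ct (LP (LK LD1_c0 LD2_c44 LD3_c23)) = (LP (LK LD1_c1 LD2_c35 LD3_c40)) :=
  Lre_c IH (LK LD1_c0 LD2_c44 LD3_c23) (LK LD1_c1 LD2_c35 LD3_c40) Lrfl Lrfl
def v546 : LQ := Led Lsl_at (LP (LK LD1_c0 LD2_c44 LD3_c23))
theorem f453897 : Led Lsl_at (LP (LK LD1_c0 LD2_c44 LD3_c23)) = v546 :=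
  Lrfl
theorem f453898 : Led Lsl_af (LP (LK LD1_c0 LD2_c44 LD3_c23)) = v546 :=
  Lgr Lrot0 (Lpr_at (f453897 IH) (Lpn v546))
theorem f508865 : Led Lsl_cf v546 = v2102 :=
  Lgr Lrot1 (Lpe (f453898 IH) (Lpr_ct (f414627 IH) (Lpr_at (f508862 IH) (Lpn v2102))))
theorem f62106 : Led Lsl_gt (LP (LK LD1_c0 LD2_c44 LD3_c24)) = (LP (LK LD1_c0 LD2_c19 LD3_c46)) :=
  Lre_g IH (LK LD1_c0 LD2_c44 LD3_c24) (LK LD1_c0 LD2_c19 LD3_c46) Lrfl Lrfl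
theorem f453901 : Led Lsl_ft (LP (LK LD1_c0 LD2_c44 LD3_c24)) = v546 :=
  Lgr Lrot2 (Lpr_gt (f62106 IH) (Lpr_gt (K5.f62968 IH) (Lpr_af (f453898 IH) (Lpn v546))))
theorem f453904 : Led Lsl_ff (LP (LK LD1_c0 LD2_c44 LD3_c24)) = v546 :=
  Lgr Lrot3 (Lpr_ft (f453901 IH) (Lpn v546))
theorem f508867 : Led Lsl_ft (LP (LK LD1_c1 LD2_c35 LD3_c43)) = v2102 :=
  Lgr Lrot4 (Lpe (K5.f66031 IH) (Lpr_ff (f453904 IH) (Lpr_cf (f508865 IH) (Lpn v2102))))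
theorem f508863 : Led Lsl_af (LP (LK LD1_c1 LD2_c35 LD3_c40)) = v2102 :=
  Lgr Lrot0 (Lpr_at (f508862 IH) (Lpn v2102))
def v2101 : LQ := Led Lsl_gf (LP (LK LD1_c1 LD2_c35 LD3_c40))
theorem f508852 : Led Lsl_gf (LP (LK LD1_c1 LD2_c35 LD3_c40)) = v2101 :=
  Lrfl
theorem f508871 : (LP (LK LD1_c3 LD2_c16 LD3_c41)) = v2101 :=
  (Llr Lrot5 (Lpe (K5.f66024 IH) (Lpr_ft (f508867 IH) (Lpe (f508863 IH) (Lpr_gf (f508852 IH) (Lpn v2101)))))).symm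
theorem f508872 : Led Lsl_gt (LP (LK LD1_c3 LD2_c16 LD3_c41)) = (LP (LK LD1_c1 LD2_c35 LD3_c40)) :=
  Leop (Lpr_gf (f508852 IH) (Lpq (f508871 IH) (Lpn (LP (LK LD1_c3 LD2_c16 LD3_c41)))))
theorem seed_143 : LEOK LG_g (LK LD1_c3 LD2_c16 LD3_c41) :=
  Leoe_g (LK LD1_c3 LD2_c16 LD3_c41) (f508872 IH)
def v2104 : LQ := Led Lsl_ft (LP (LK LD1_c1 LD2_c35 LD3_c40))
theorem f508885 : Led Lsl_ft (LP (LK LD1_c1 LD2_c35 LD3_c40)) = v2104 :=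
  Lrfl
theorem f414628 : Led Lsl_gt (LP (LK LD1_c1 LD2_c35 LD3_c40)) = (LP (LK LD1_c3 LD2_c18 LD3_c23)) :=
  Lre_g IH (LK LD1_c1 LD2_c35 LD3_c40) (LK LD1_c3 LD2_c18 LD3_c23) Lrfl Lrfl
theorem f508886 : Led Lsl_af (LP (LK LD1_c1 LD2_c35 LD3_c43)) = v2104 :=
  Lgr Lrot45 (Lpr_ft (f508867 IH) (Lpe (f508863 IH) (Lpr_ft (f508885 IH) (Lpn v2104))))
theorem f508889 : Led Lsl_gt (LP (LK LD1_c3 LD2_c18 LD3_c23)) = (LP (LK LD1_c1 LD2_c35 LD3_c43)) :=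
  Lgr Lrot46 (Lpe (f414628 IH) (Lpr_ft (f508885 IH) (Lpe (f508886 IH) (Lpn (LP (LK LD1_c1 LD2_c35 LD3_c43))))))
theorem f508890 : Led Lsl_gt (LP (LK LD1_c3 LD2_c18 LD3_c23)) = (LP (LK LD1_c1 LD2_c35 LD3_c43)) :=
  Leop (Lpe (f508889 IH) (Lpn (LP (LK LD1_c3 LD2_c18 LD3_c23))))
theorem seed_144 : LEOK LG_g (LK LD1_c3 LD2_c18 LD3_c23) :=
  Leoe_g (LK LD1_c3 LD2_c18 LD3_c23) (f508890 IH)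
theorem f508883 : Led Lsl_dt (LP (LK LD1_c3 LD2_c18 LD3_c23)) = (LP (LK LD1_c6 LD2_c40 LD3_c46)) :=
  Lre_d IH (LK LD1_c3 LD2_c18 LD3_c23) (LK LD1_c6 LD2_c40 LD3_c46) Lrfl Lrfl
theorem f508884 : Led Lsl_gt (LP (LK LD1_c6 LD2_c40 LD3_c46)) = (LP (LK LD1_c12 LD2_c3 LD3_c6)) :=
  Lre_g IH (LK LD1_c6 LD2_c40 LD3_c46) (LK LD1_c12 LD2_c3 LD3_c6) Lrfl Lrfl
theorem f66026 : Led Lsl_ct (LP (LK LD1_c1 LD2_c35 LD3_c43)) = (LP (LK LD1_c0 LD2_c44 LD3_c24)) :=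
  Lre_c IH (LK LD1_c1 LD2_c35 LD3_c43) (LK LD1_c0 LD2_c44 LD3_c24) Lrfl Lrfl
theorem f140078 : Led Lsl_ct (LP (LK LD1_c0 LD2_c19 LD3_c46)) = (LP (LK LD1_c0 LD2_c44 LD3_c21)) :=
  Lre_c IH (LK LD1_c0 LD2_c19 LD3_c46) (LK LD1_c0 LD2_c44 LD3_c21) Lrfl Lrfl
theorem f454786 : Led Lsl_dt (LP (LK LD1_c1 LD2_c35 LD3_c36)) = (LP (LK LD1_c0 LD2_c44 LD3_c21)) :=
  Lre_d IH (LK LD1_c1 LD2_c35 LD3_c36) (LK LD1_c0 LD2_c44 LD3_c21) Lrfl Lrfl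
theorem f508894 : Led Lsl_ct (LP (LK LD1_c3 LD2_c18 LD3_c16)) = (LP (LK LD1_c1 LD2_c35 LD3_c36)) :=
  Lre_c IH (LK LD1_c3 LD2_c18 LD3_c16) (LK LD1_c1 LD2_c35 LD3_c36) Lrfl Lrfl
theorem f508895 : Led Lsl_gt (LP (LK LD1_c6 LD2_c40 LD3_c30)) = (LP (LK LD1_c3 LD2_c18 LD3_c16)) :=
  Lre_g IH (LK LD1_c6 LD2_c40 LD3_c30) (LK LD1_c3 LD2_c18 LD3_c16) Lrfl Lrfl
theorem f508896 : Led Lsl_ct (LP (LK LD1_c12 LD2_c3 LD3_c6)) = (LP (LK LD1_c6 LD2_c40 LD3_c30)) :=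
  Lgr Lrot152 (Lpe (f508884 IH) (Lpe (f508883 IH) (Lpr_gt (f508889 IH) (Lpr_ct (f66026 IH) (Lpr_gt (f62106 IH) (Lpr_ct (f140078 IH) (Lpe (f454786 IH) (Lpe (f508894 IH) (Lpe (f508895 IH) (Lpn (LP (LK LD1_c6 LD2_c40 LD3_c30))))))))))))
theorem f502900 : Led Lsl_dt (LP (LK LD1_c6 LD2_c11 LD3_c32)) = (LP (LK LD1_c12 LD2_c3 LD3_c6)) :=
  Lre_d IH (LK LD1_c6 LD2_c11 LD3_c32) (LK LD1_c12 LD2_c3 LD3_c6) Lrfl Lrfl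
theorem f443622 : Led Lsl_ct (LP (LK LD1_c3 LD2_c2 LD3_c20)) = (LP (LK LD1_c6 LD2_c11 LD3_c32)) :=
  Lre_c IH (LK LD1_c3 LD2_c2 LD3_c20) (LK LD1_c6 LD2_c11 LD3_c32) Lrfl Lrfl
theorem f443618 : Led Lsl_dt (LP (LK LD1_c1 LD2_c27 LD3_c8)) = (LP (LK LD1_c3 LD2_c2 LD3_c20)) :=
  Lre_d IH (LK LD1_c1 LD2_c27 LD3_c8) (LK LD1_c3 LD2_c2 LD3_c20) Lrfl Lrfl
def v1787 : LQ := Led Lsl_at (LP (LK LD1_c1 LD2_c27 LD3_c7))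
theorem f502893 : Led Lsl_at (LP (LK LD1_c1 LD2_c27 LD3_c7)) = v1787 :=
  Lrfl
theorem f502894 : Led Lsl_af (LP (LK LD1_c1 LD2_c27 LD3_c7)) = v1787 :=
  Lgr Lrot0 (Lpr_at (f502893 IH) (Lpn v1787))
theorem f62013 : Led Lsl_gt (LP (LK LD1_c0 LD2_c40 LD3_c20)) = (LP (LK LD1_c1 LD2_c27 LD3_c7)) :=
  Lre_g IH (LK LD1_c0 LD2_c40 LD3_c20) (LK LD1_c1 LD2_c27 LD3_c7) Lrfl Lrfl
theorem f502897 : Led Lsl_ft (LP (LK LD1_c1 LD2_c27 LD3_c8)) = v1787 :=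
  Lgr Lrot2 (Lpr_gt (K5.f130828 IH) (Lpr_gt (f62013 IH) (Lpr_af (f502894 IH) (Lpn v1787))))
theorem f502895 : Led Lsl_ct (LP (LK LD1_c3 LD2_c2 LD3_c16)) = (LP (LK LD1_c1 LD2_c27 LD3_c7)) :=
  Lre_c IH (LK LD1_c3 LD2_c2 LD3_c16) (LK LD1_c1 LD2_c27 LD3_c7) Lrfl Lrfl
theorem f502898 : Led Lsl_dt (LP (LK LD1_c6 LD2_c11 LD3_c20)) = (LP (LK LD1_c3 LD2_c2 LD3_c16)) :=
  Lre_d IH (LK LD1_c6 LD2_c11 LD3_c20) (LK LD1_c3 LD2_c2 LD3_c16) Lrfl Lrfl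
theorem f502899 : Led Lsl_ct (LP (LK LD1_c12 LD2_c2 LD3_c55)) = (LP (LK LD1_c6 LD2_c11 LD3_c20)) :=
  Lre_c IH (LK LD1_c12 LD2_c2 LD3_c55) (LK LD1_c6 LD2_c11 LD3_c20) Lrfl Lrfl
theorem f508907 : Led Lsl_df (LP (LK LD1_c12 LD2_c2 LD3_c55)) = (LP (LK LD1_c6 LD2_c40 LD3_c30)) :=
  Lgr Lrot13 (Lpr_ct (f502899 IH) (Lpr_dt (f502898 IH) (Lpr_ct (f502895 IH) (Lpr_af (f502894 IH) (Lpe (f502897 IH) (Lpr_dt (f443618 IH) (Lpr_ct (f443622 IH) (Lpr_dt (f502900 IH) (Lpr_ct (f508896 IH) (Lpn (LP (LK LD1_c6 LD2_c40 LD3_c30))))))))))))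
theorem f508908 : Led Lsl_dt (LP (LK LD1_c6 LD2_c40 LD3_c30)) = (LP (LK LD1_c12 LD2_c2 LD3_c55)) :=
  Leop (Lpr_df (f508907 IH) (Lpn (LP (LK LD1_c6 LD2_c40 LD3_c30))))
theorem seed_145 : LEOK LG_d (LK LD1_c6 LD2_c40 LD3_c30) :=
  Leoe_d (LK LD1_c6 LD2_c40 LD3_c30) (f508908 IH)
def v2105 : LQ := Led Lsl_at (LP (LK LD1_c1 LD2_c35 LD3_c41))
theorem f508980 : Led Lsl_at (LP (LK LD1_c1 LD2_c35 LD3_c41)) = v2105 :=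
  Lrfl
theorem f130874 : Led Lsl_dt (LP (LK LD1_c0 LD2_c44 LD3_c23)) = (LP (LK LD1_c1 LD2_c35 LD3_c41)) :=
  Lre_d IH (LK LD1_c0 LD2_c44 LD3_c23) (LK LD1_c1 LD2_c35 LD3_c41) Lrfl Lrfl
theorem f508982 : Led Lsl_df v546 = v2105 :=
  Lgr Lrot18 (Lpe (f453898 IH) (Lpr_dt (f130874 IH) (Lpr_at (f508980 IH) (Lpn v2105))))
theorem f62098 : Led Lsl_dt (LP (LK LD1_c0 LD2_c44 LD3_c24)) = (LP (LK LD1_c1 LD2_c35 LD3_c44)) :=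
  Lre_d IH (LK LD1_c0 LD2_c44 LD3_c24) (LK LD1_c1 LD2_c35 LD3_c44) Lrfl Lrfl
theorem f508984 : Led Lsl_ft (LP (LK LD1_c1 LD2_c35 LD3_c44)) = v2105 :=
  Lgr Lrot54 (Lpe (f62098 IH) (Lpr_ff (f453904 IH) (Lpr_df (f508982 IH) (Lpn v2105))))
theorem f508981 : Led Lsl_af (LP (LK LD1_c1 LD2_c35 LD3_c41)) = v2105 :=
  Lgr Lrot0 (Lpr_at (f508980 IH) (Lpn v2105))
theorem f453908 : Led Lsl_gt (LP (LK LD1_c3 LD2_c18 LD3_c27)) = (LP (LK LD1_c1 LD2_c35 LD3_c41)) :=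
  Lre_g IH (LK LD1_c3 LD2_c18 LD3_c27) (LK LD1_c1 LD2_c35 LD3_c41) Lrfl Lrfl
theorem f508986 : Led Lsl_gt (LP (LK LD1_c1 LD2_c35 LD3_c44)) = (LP (LK LD1_c3 LD2_c18 LD3_c27)) :=
  Lgr Lrot5 (Lpr_ft (f508984 IH) (Lpe (f508981 IH) (Lpe (f453908 IH) (Lpn (LP (LK LD1_c3 LD2_c18 LD3_c27))))))
theorem f508987 : Led Lsl_gt (LP (LK LD1_c1 LD2_c35 LD3_c44)) = (LP (LK LD1_c3 LD2_c18 LD3_c27)) :=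
  Leop (Lpe (f508986 IH) (Lpn (LP (LK LD1_c1 LD2_c35 LD3_c44))))
theorem seed_146 : LEOK LG_g (LK LD1_c1 LD2_c35 LD3_c44) :=
  Leoe_g (LK LD1_c1 LD2_c35 LD3_c44) (f508987 IH)
def v2106 : LQ := Led Lsl_ft (LP (LK LD1_c1 LD2_c35 LD3_c41))
theorem f508993 : Led Lsl_ft (LP (LK LD1_c1 LD2_c35 LD3_c41)) = v2106 :=
  Lrfl
theorem f453865 : Led Lsl_gt (LP (LK LD1_c1 LD2_c35 LD3_c41)) = (LP (LK LD1_c3 LD2_c18 LD3_c26)) :=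
  Lre_g IH (LK LD1_c1 LD2_c35 LD3_c41) (LK LD1_c3 LD2_c18 LD3_c26) Lrfl Lrfl
theorem f508994 : Led Lsl_af (LP (LK LD1_c1 LD2_c35 LD3_c44)) = v2106 :=
  Lgr Lrot45 (Lpr_ft (f508984 IH) (Lpe (f508981 IH) (Lpr_ft (f508993 IH) (Lpn v2106))))
theorem f508997 : Led Lsl_gt (LP (LK LD1_c3 LD2_c18 LD3_c26)) = (LP (LK LD1_c1 LD2_c35 LD3_c44)) :=
  Lgr Lrot46 (Lpe (f453865 IH) (Lpr_ft (f508993 IH) (Lpe (f508994 IH) (Lpn (LP (LK LD1_c1 LD2_c35 LD3_c44))))))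
theorem f508998 : Led Lsl_gt (LP (LK LD1_c3 LD2_c18 LD3_c26)) = (LP (LK LD1_c1 LD2_c35 LD3_c44)) :=
  Leop (Lpe (f508997 IH) (Lpn (LP (LK LD1_c3 LD2_c18 LD3_c26))))
theorem seed_147 : LEOK LG_g (LK LD1_c3 LD2_c18 LD3_c26) :=
  Leoe_g (LK LD1_c3 LD2_c18 LD3_c26) (f508998 IH)
theorem f508996 : Led Lsl_ff (LP (LK LD1_c1 LD2_c35 LD3_c41)) = v2106 :=
  Lgr Lrot3 (Lpr_ft (f508993 IH) (Lpn v2106))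
theorem f508985 : Led Lsl_ff (LP (LK LD1_c1 LD2_c35 LD3_c44)) = v2105 :=
  Lgr Lrot3 (Lpr_ft (f508984 IH) (Lpn v2105))
theorem f509002 : Led Lsl_at (LP (LK LD1_c1 LD2_c35 LD3_c44)) = v2106 :=
  Lgr Lrot66 (Lpr_ff (f508985 IH) (Lpe (f508980 IH) (Lpr_ff (f508996 IH) (Lpn v2106))))
theorem f62012 : Led Lsl_et (LP (LK LD1_c0 LD2_c18 LD3_c2)) = (LP (LK LD1_c0 LD2_c40 LD3_c20)) :=
  Lre_e IH (LK LD1_c0 LD2_c18 LD3_c2) (LK LD1_c0 LD2_c40 LD3_c20) Lrfl Lrfl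
theorem f62014 : Led Lsl_et (LP (LK LD1_c3 LD2_c2 LD3_c17)) = (LP (LK LD1_c1 LD2_c27 LD3_c7)) :=
  Lre_e IH (LK LD1_c3 LD2_c2 LD3_c17) (LK LD1_c1 LD2_c27 LD3_c7) Lrfl Lrfl
theorem f62015 : Led Lsl_dt (LP (LK LD1_c3 LD2_c2 LD3_c17)) = (LP (LK LD1_c6 LD2_c11 LD3_c23)) :=
  Lre_d IH (LK LD1_c3 LD2_c2 LD3_c17) (LK LD1_c6 LD2_c11 LD3_c23) Lrfl Lrfl
theorem f62016 : Led Lsl_et (LP (LK LD1_c1 LD2_c34 LD3_c14)) = (LP (LK LD1_c0 LD2_c43 LD3_c45)) :=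
  Lre_e IH (LK LD1_c1 LD2_c34 LD3_c14) (LK LD1_c0 LD2_c43 LD3_c45) Lrfl Lrfl
theorem f62017 : Led Lsl_dt (LP (LK LD1_c1 LD2_c34 LD3_c14)) = (LP (LK LD1_c3 LD2_c15 LD3_c11)) :=
  Lre_d IH (LK LD1_c1 LD2_c34 LD3_c14) (LK LD1_c3 LD2_c15 LD3_c11) Lrfl Lrfl
theorem f62018 : Led Lsl_gt (LP (LK LD1_c6 LD2_c11 LD3_c23)) = (LP (LK LD1_c3 LD2_c15 LD3_c11)) :=
  Lgr Lrot112 (Lpe (f62015 IH) (Lpr_et (f62014 IH) (Lpe (f62013 IH) (Lpe (f62012 IH) (Lpr_dt (K3.f12750 IH) (Lpe (K1.f21160 IH) (Lpr_df (K1.f61987 IH) (Lpe (K3.f13806 IH) (Lpe (f62016 IH) (Lpr_dt (f62017 IH) (Lpn (LP (LK LD1_c3 LD2_c15 LD3_c11)))))))))))))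
theorem f62026 : Led Lsl_at (LP (LK LD1_c1 LD2_c35 LD3_c49)) = (LP (LK LD1_c3 LD2_c15 LD3_c11)) :=
  Lre_a IH (LK LD1_c1 LD2_c35 LD3_c49) (LK LD1_c3 LD2_c15 LD3_c11) Lrfl Lrfl
theorem f62027 : Led Lsl_ft (LP (LK LD1_c3 LD2_c18 LD3_c41)) = (LP (LK LD1_c1 LD2_c35 LD3_c49)) :=
  Lre_f IH (LK LD1_c3 LD2_c18 LD3_c41) (LK LD1_c1 LD2_c35 LD3_c49) Lrfl Lrfl
theorem f62028 : Led Lsl_gf (LP (LK LD1_c6 LD2_c11 LD3_c23)) = (LP (LK LD1_c3 LD2_c18 LD3_c41)) :=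
  Lgr Lrot47 (Lpr_gt (f62018 IH) (Lpe (f62026 IH) (Lpe (f62027 IH) (Lpn (LP (LK LD1_c3 LD2_c18 LD3_c41))))))
theorem f62081 : Led Lsl_gt (LP (LK LD1_c1 LD2_c27 LD3_c7)) = (LP (LK LD1_c3 LD2_c1 LD3_c47)) :=
  Lre_g IH (LK LD1_c1 LD2_c27 LD3_c7) (LK LD1_c3 LD2_c1 LD3_c47) Lrfl Lrfl
theorem f62084 : Led Lsl_dt (LP (LK LD1_c1 LD2_c35 LD3_c44)) = (LP (LK LD1_c0 LD2_c44 LD3_c24)) :=
  Lre_d IH (LK LD1_c1 LD2_c35 LD3_c44) (LK LD1_c0 LD2_c44 LD3_c24) Lrfl Lrfl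
theorem f62064 : Led Lsl_dt (LP (LK LD1_c1 LD2_c35 LD3_c46)) = (LP (LK LD1_c3 LD2_c18 LD3_c41)) :=
  Lre_d IH (LK LD1_c1 LD2_c35 LD3_c46) (LK LD1_c3 LD2_c18 LD3_c41) Lrfl Lrfl
theorem f62085 : Led Lsl_et (LP (LK LD1_c1 LD2_c35 LD3_c46)) = (LP (LK LD1_c0 LD2_c44 LD3_c25)) :=
  Lre_e IH (LK LD1_c1 LD2_c35 LD3_c46) (LK LD1_c0 LD2_c44 LD3_c25) Lrfl Lrfl
theorem f62086 : Led Lsl_gt (LP (LK LD1_c1 LD2_c34 LD3_c55)) = (LP (LK LD1_c0 LD2_c44 LD3_c25)) :=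
  Lre_g IH (LK LD1_c1 LD2_c34 LD3_c55) (LK LD1_c0 LD2_c44 LD3_c25) Lrfl Lrfl
theorem f62087 : Led Lsl_et (LP (LK LD1_c1 LD2_c35 LD3_c44)) = (LP (LK LD1_c1 LD2_c34 LD3_c55)) :=
  Lgr Lrot185 (Lpr_dt (f62084 IH) (Lpe (K5.f62083 IH) (Lpe (K5.f62082 IH) (Lpe (f62081 IH) (Lpe (f62014 IH) (Lpr_dt (f62015 IH) (Lpr_gf (f62028 IH) (Lpe (f62064 IH) (Lpr_et (f62085 IH) (Lpe (f62086 IH) (Lpn (LP (LK LD1_c1 LD2_c34 LD3_c55)))))))))))))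
theorem f62104 : Led Lsl_ef (LP (LK LD1_c1 LD2_c35 LD3_c44)) = (LP (LK LD1_c1 LD2_c34 LD3_c55)) :=
  Lgr Lrot88 (Lpr_et (f62087 IH) (Lpn (LP (LK LD1_c1 LD2_c34 LD3_c55))))
def v2075 : LQ := Led Lsl_at (LP (LK LD1_c1 LD2_c34 LD3_c55))
theorem f508701 : Led Lsl_at (LP (LK LD1_c1 LD2_c34 LD3_c55)) = v2075 :=
  Lrfl
theorem f508702 : Led Lsl_af (LP (LK LD1_c1 LD2_c34 LD3_c55)) = v2075 :=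
  Lgr Lrot0 (Lpr_at (f508701 IH) (Lpn v2075))
theorem f509004 : Led Lsl_ef v2075 = v2106 :=
  Lgr Lrot20 (Lpe (f508702 IH) (Lpe (f62104 IH) (Lpr_at (f509002 IH) (Lpn v2106))))
theorem f62109 : Led Lsl_gt (LP (LK LD1_c0 LD2_c44 LD3_c10)) = (LP (LK LD1_c1 LD2_c34 LD3_c55)) :=
  Lre_g IH (LK LD1_c0 LD2_c44 LD3_c10) (LK LD1_c1 LD2_c34 LD3_c55) Lrfl Lrfl
theorem f62965 : Led Lsl_gt (LP (LK LD1_c1 LD2_c34 LD3_c56)) = (LP (LK LD1_c0 LD2_c44 LD3_c10)) :=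
  Lre_g IH (LK LD1_c1 LD2_c34 LD3_c56) (LK LD1_c0 LD2_c44 LD3_c10) Lrfl Lrfl
theorem f508703 : Led Lsl_ft (LP (LK LD1_c1 LD2_c34 LD3_c56)) = v2075 :=
  Lgr Lrot2 (Lpr_gt (f62965 IH) (Lpr_gt (f62109 IH) (Lpr_af (f508702 IH) (Lpn v2075))))
theorem f508705 : Led Lsl_ff (LP (LK LD1_c1 LD2_c34 LD3_c56)) = v2075 :=
  Lgr Lrot3 (Lpr_ft (f508703 IH) (Lpn v2075))
theorem f509006 : Led Lsl_ft (LP (LK LD1_c3 LD2_c16 LD3_c27)) = (LP (LK LD1_c3 LD2_c18 LD3_c29)) :=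
  Lgr Lrot86 (Lpe (K24.f453914 IH) (Lpr_ff (f508705 IH) (Lpr_ef (f509004 IH) (Lpe (f508993 IH) (Lpe (K24.f453906 IH) (Lpn (LP (LK LD1_c3 LD2_c18 LD3_c29))))))))
theorem f509007 : Led Lsl_ft (LP (LK LD1_c3 LD2_c16 LD3_c27)) = (LP (LK LD1_c3 LD2_c18 LD3_c29)) :=
  Leop (Lpe (f509006 IH) (Lpn (LP (LK LD1_c3 LD2_c16 LD3_c27))))
theorem seed_148 : LEOK LG_f (LK LD1_c3 LD2_c16 LD3_c27) :=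
  Leoe_f (LK LD1_c3 LD2_c16 LD3_c27) (f509007 IH)
def v2148 : LQ := Led Lsl_at (LP (LK LD1_c1 LD2_c36 LD3_c32))
theorem f509230 : Led Lsl_at (LP (LK LD1_c1 LD2_c36 LD3_c32)) = v2148 :=
  Lrfl
theorem f206888 : Led Lsl_ft (LP (LK LD1_c2 LD2_c16 LD3_c3)) = (LP (LK LD1_c1 LD2_c36 LD3_c32)) :=
  Lgr Lrot75 (Lpe (K8.f40599 IH) (Lpr_ff (K11.f206886 IH) (Lpe (K4.f40101 IH) (Lpn (LP (LK LD1_c1 LD2_c36 LD3_c32))))))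
theorem f207724 : Led Lsl_df (LP (LK LD1_c6 LD2_c31 LD3_c54)) = (LP (LK LD1_c8 LD2_c50 LD3_c45)) :=
  Lgr Lrot38 (Lpr_dt (K24.f207720 IH) (Lpn (LP (LK LD1_c8 LD2_c50 LD3_c45))))
theorem f68514 : Led Lsl_at (LP (LK LD1_c6 LD2_c30 LD3_c32)) = (LP (LK LD1_c3 LD2_c13 LD3_c21)) :=
  Lre_a IH (LK LD1_c6 LD2_c30 LD3_c32) (LK LD1_c3 LD2_c13 LD3_c21) Lrfl Lrfl
theorem f68515 : Led Lsl_ct (LP (LK LD1_c6 LD2_c31 LD3_c54)) = (LP (LK LD1_c6 LD2_c30 LD3_c32)) :=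
  Lgr Lrot111 (Lpe (K28.f68513 IH) (Lpr_cf (K8.f68509 IH) (Lpe (f68514 IH) (Lpn (LP (LK LD1_c6 LD2_c30 LD3_c32))))))
theorem f207819 : Led Lsl_gt (LP (LK LD1_c12 LD2_c49 LD3_c24)) = (LP (LK LD1_c8 LD2_c50 LD3_c45)) :=
  Lgr Lrot46 (Lpe (K8.f161390 IH) (Lpr_ft (K28.f207809 IH) (Lpe (K28.f207811 IH) (Lpn (LP (LK LD1_c8 LD2_c50 LD3_c45))))))
theorem f40402 : Led Lsl_gt (LP (LK LD1_c1 LD2_c38 LD3_c7)) = (LP (LK LD1_c3 LD2_c23 LD3_c34)) :=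
  Lre_g IH (LK LD1_c1 LD2_c38 LD3_c7) (LK LD1_c3 LD2_c23 LD3_c34) Lrfl Lrfl
theorem f68522 : Led Lsl_cf (LP (LK LD1_c6 LD2_c31 LD3_c54)) = (LP (LK LD1_c6 LD2_c30 LD3_c32)) :=
  Lgr Lrot11 (Lpr_ct (f68515 IH) (Lpn (LP (LK LD1_c6 LD2_c30 LD3_c32))))
theorem f207821 : Led Lsl_dt (LP (LK LD1_c3 LD2_c23 LD3_c34)) = (LP (LK LD1_c6 LD2_c30 LD3_c32)) :=
  Lgr Lrot105 (Lpe (f40402 IH) (Lpe (K2.f40339 IH) (Lpe (K6.f139498 IH) (Lpe (K6.f139779 IH) (Lpr_gt (K8.f129256 IH) (Lpr_dt (K8.f139503 IH) (Lpr_gt (f207819 IH) (Lpe (f207724 IH) (Lpr_cf (f68522 IH) (Lpn (LP (LK LD1_c6 LD2_c30 LD3_c32))))))))))))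
theorem f207825 : Led Lsl_df (LP (LK LD1_c3 LD2_c23 LD3_c34)) = (LP (LK LD1_c6 LD2_c30 LD3_c32)) :=
  Lgr Lrot38 (Lpr_dt (f207821 IH) (Lpn (LP (LK LD1_c6 LD2_c30 LD3_c32))))
theorem f509235 : Led Lsl_ct (LP (LK LD1_c3 LD2_c23 LD3_c34)) = v2148 :=
  Lgr Lrot98 (Lpr_df (f207825 IH) (Lpe (f68515 IH) (Lpr_df (f207724 IH) (Lpe (K8.f101684 IH) (Lpe (K8.f149207 IH) (Lpr_cf (K4.f60856 IH) (Lpr_df (K4.f79933 IH) (Lpr_ft (f206888 IH) (Lpr_at (f509230 IH) (Lpn v2148))))))))))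
theorem f207833 : Led Lsl_bt (LP (LK LD1_c3 LD2_c23 LD3_c34)) = (LP (LK LD1_c6 LD2_c50 LD3_c23)) :=
  Lre_b IH (LK LD1_c3 LD2_c23 LD3_c34) (LK LD1_c6 LD2_c50 LD3_c23) Lrfl Lrfl
theorem f40403 : Led Lsl_gf (LP (LK LD1_c3 LD2_c59 LD3_c39)) = (LP (LK LD1_c3 LD2_c23 LD3_c34)) :=
  Lgr Lrot76 (Lpe (K4.f40390 IH) (Lpr_ff (K2.f40376 IH) (Lpr_gt (f40402 IH) (Lpn (LP (LK LD1_c3 LD2_c23 LD3_c34))))))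
theorem f509236 : Led Lsl_gf (LP (LK LD1_c4 LD2_c36 LD3_c41)) = v2148 :=
  Lgr Lrot148 (Lpr_dt (K8.f99559 IH) (Lpr_gt (K8.f20418 IH) (Lpr_dt (K8.f99598 IH) (Lpr_ct (K4.f99611 IH) (Lpr_df (K8.f139516 IH) (Lpe (K6.f139500 IH) (Lpr_df (K8.f139532 IH) (Lpr_gf (f40403 IH) (Lpr_ct (f509235 IH) (Lpn v2148))))))))))
theorem f208108 : Led Lsl_cf (LP (LK LD1_c1 LD2_c34 LD3_c35)) = (LP (LK LD1_c3 LD2_c7 LD3_c6)) :=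
  Lgr Lrot166 (Lpr_gt (K30.f208104 IH) (Lpr_dt (K30.f82414 IH) (Lpr_gt (K4.f115514 IH) (Lpr_dt (K4.f61935 IH) (Lpr_ct (K1.f61877 IH) (Lpe (K5.f61945 IH) (Lpe (K5.f131639 IH) (Lpe (K5.f89452 IH) (Lpe (K30.f89466 IH) (Lpn (LP (LK LD1_c3 LD2_c7 LD3_c6))))))))))))
theorem f115537 : Led Lsl_ft (LP (LK LD1_c1 LD2_c34 LD3_c35)) = (LP (LK LD1_c3 LD2_c1 LD3_c51)) :=
  Lgr Lrot101 (Lpe (K30.f115536 IH) (Lpr_ff (K4.f115534 IH) (Lpe (K5.f115522 IH) (Lpn (LP (LK LD1_c3 LD2_c1 LD3_c51))))))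
theorem f208118 : Led Lsl_ft (LP (LK LD1_c3 LD2_c12 LD3_c7)) = (LP (LK LD1_c3 LD2_c7 LD3_c6)) :=
  Lgr Lrot4 (Lpr_cf (K5.f128904 IH) (Lpe (f115537 IH) (Lpr_cf (f208108 IH) (Lpn (LP (LK LD1_c3 LD2_c7 LD3_c6))))))
theorem f208260 : Led Lsl_ff (LP (LK LD1_c3 LD2_c12 LD3_c7)) = (LP (LK LD1_c3 LD2_c7 LD3_c6)) :=
  Lgr Lrot3 (Lpr_ft (f208118 IH) (Lpn (LP (LK LD1_c3 LD2_c7 LD3_c6))))
theorem f89496 : Led Lsl_bt (LP (LK LD1_c6 LD2_c19 LD3_c18)) = (LP (LK LD1_c3 LD2_c7 LD3_c6)) :=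
  Lre_b IH (LK LD1_c6 LD2_c19 LD3_c18) (LK LD1_c3 LD2_c7 LD3_c6) Lrfl Lrfl
theorem f208262 : Led Lsl_ft (LP (LK LD1_c6 LD2_c28 LD3_c20)) = (LP (LK LD1_c6 LD2_c19 LD3_c18)) :=
  Lgr Lrot75 (Lpe (K8.f128901 IH) (Lpr_ff (f208260 IH) (Lpe (f89496 IH) (Lpn (LP (LK LD1_c6 LD2_c19 LD3_c18))))))
theorem f208264 : Led Lsl_at (LP (LK LD1_c6 LD2_c19 LD3_c18)) = (LP (LK LD1_c12 LD2_c14 LD3_c0)) :=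
  Lre_a IH (LK LD1_c6 LD2_c19 LD3_c18) (LK LD1_c12 LD2_c14 LD3_c0) Lrfl Lrfl
theorem f208265 : Led Lsl_gt (LP (LK LD1_c6 LD2_c25 LD3_c15)) = (LP (LK LD1_c12 LD2_c14 LD3_c0)) :=
  Lgr Lrot46 (Lpr_gf (K8.f128927 IH) (Lpr_ft (f208262 IH) (Lpr_at (f208264 IH) (Lpn (LP (LK LD1_c12 LD2_c14 LD3_c0))))))
theorem f150874 : Led Lsl_gf (LP (LK LD1_c6 LD2_c10 LD3_c30)) = (LP (LK LD1_c3 LD2_c15 LD3_c52)) :=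
  Lgr Lrot144 (Lpe (K7.f119628 IH) (Lpr_gt (K6.f87389 IH) (Lpr_dt (K7.f98862 IH) (Lpe (K4.f61940 IH) (Lpe (K7.f66010 IH) (Lpe (K7.f150857 IH) (Lpr_df (K7.f150861 IH) (Lpr_gf (K7.f149838 IH) (Lpe (K7.f115583 IH) (Lpn (LP (LK LD1_c3 LD2_c15 LD3_c52))))))))))))
theorem f115584 : Led Lsl_ct (LP (LK LD1_c6 LD2_c34 LD3_c52)) = (LP (LK LD1_c3 LD2_c15 LD3_c52)) :=
  Lre_c IH (LK LD1_c6 LD2_c34 LD3_c52) (LK LD1_c3 LD2_c15 LD3_c52) Lrfl Lrfl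
theorem f208267 : Led Lsl_bt (LP (LK LD1_c6 LD2_c34 LD3_c52)) = (LP (LK LD1_c12 LD2_c14 LD3_c0)) :=
  Lgr Lrot92 (Lpr_ct (f115584 IH) (Lpe (f150874 IH) (Lpr_cf (K4.f119567 IH) (Lpe (K4.f117905 IH) (Lpe (K6.f83015 IH) (Lpr_ct (K6.f71912 IH) (Lpe (K8.f116975 IH) (Lpe (K8.f116984 IH) (Lpr_bt (K8.f116985 IH) (Lpr_gt (f208265 IH) (Lpn (LP (LK LD1_c12 LD2_c14 LD3_c0)))))))))))))
theorem f208269 : Led Lsl_bf (LP (LK LD1_c6 LD2_c34 LD3_c52)) = (LP (LK LD1_c12 LD2_c14 LD3_c0)) :=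
  Lgr Lrot24 (Lpr_bt (f208267 IH) (Lpn (LP (LK LD1_c12 LD2_c14 LD3_c0))))
theorem f115574 : Led Lsl_at (LP (LK LD1_c3 LD2_c15 LD3_c46)) = (LP (LK LD1_c6 LD2_c34 LD3_c52)) :=
  Lre_a IH (LK LD1_c3 LD2_c15 LD3_c46) (LK LD1_c6 LD2_c34 LD3_c52) Lrfl Lrfl
theorem f115575 : Led Lsl_at (LP (LK LD1_c12 LD2_c1 LD3_c34)) = (LP (LK LD1_c6 LD2_c10 LD3_c27)) :=
  Lre_a IH (LK LD1_c12 LD2_c1 LD3_c34) (LK LD1_c6 LD2_c10 LD3_c27) Lrfl Lrfl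
theorem f115576 : Led Lsl_ft (LP (LK LD1_c6 LD2_c34 LD3_c52)) = (LP (LK LD1_c12 LD2_c1 LD3_c34)) :=
  Lgr Lrot101 (Lpe (f115574 IH) (Lpr_ff (K4.f115565 IH) (Lpe (f115575 IH) (Lpn (LP (LK LD1_c12 LD2_c1 LD3_c34))))))
theorem f83006 : Led Lsl_ct (LP (LK LD1_c2 LD2_c54 LD3_c37)) = (LP (LK LD1_c1 LD2_c23 LD3_c15)) :=
  Lre_c IH (LK LD1_c2 LD2_c54 LD3_c37) (LK LD1_c1 LD2_c23 LD3_c15) Lrfl Lrfl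
theorem f83007 : Led Lsl_bt (LP (LK LD1_c2 LD2_c54 LD3_c37)) = (LP (LK LD1_c5 LD2_c56 LD3_c35)) :=
  Lre_b IH (LK LD1_c2 LD2_c54 LD3_c37) (LK LD1_c5 LD2_c56 LD3_c35) Lrfl Lrfl
theorem f83034 : Led Lsl_gt (LP (LK LD1_c5 LD2_c56 LD3_c35)) = (LP (LK LD1_c11 LD2_c38 LD3_c28)) :=
  Lre_g IH (LK LD1_c5 LD2_c56 LD3_c35) (LK LD1_c11 LD2_c38 LD3_c28) Lrfl Lrfl
theorem f119990 : Led Lsl_bf (LP (LK LD1_c11 LD2_c38 LD3_c28)) = (LP (LK LD1_c12 LD2_c1 LD3_c34)) :=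
  Lgr Lrot34 (Lpe (f83034 IH) (Lpe (f83007 IH) (Lpr_ct (f83006 IH) (Lpr_gf (K8.f71857 IH) (Lpe (K8.f35255 IH) (Lpe (K4.f83029 IH) (Lpe (K4.f83033 IH) (Lpr_ct (K4.f119983 IH) (Lpe (K7.f119639 IH) (Lpe (K7.f115572 IH) (Lpn (LP (LK LD1_c12 LD2_c1 LD3_c34)))))))))))))
theorem f208271 : Led Lsl_ft (LP (LK LD1_c11 LD2_c38 LD3_c28)) = (LP (LK LD1_c12 LD2_c14 LD3_c0)) :=
  Lgr Lrot75 (Lpr_bf (f119990 IH) (Lpe (f115576 IH) (Lpr_bf (f208269 IH) (Lpn (LP (LK LD1_c12 LD2_c14 LD3_c0))))))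
theorem f208275 : Led Lsl_ff (LP (LK LD1_c11 LD2_c38 LD3_c28)) = (LP (LK LD1_c12 LD2_c14 LD3_c0)) :=
  Lgr Lrot3 (Lpr_ft (f208271 IH) (Lpn (LP (LK LD1_c12 LD2_c14 LD3_c0))))
theorem f115559 : Led Lsl_at (LP (LK LD1_c6 LD2_c34 LD3_c52)) = (LP (LK LD1_c3 LD2_c15 LD3_c46)) :=
  Lre_a IH (LK LD1_c6 LD2_c34 LD3_c52) (LK LD1_c3 LD2_c15 LD3_c46) Lrfl Lrfl
theorem f115561 : Led Lsl_ff (LP (LK LD1_c6 LD2_c34 LD3_c52)) = (LP (LK LD1_c12 LD2_c1 LD3_c34)) :=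
  Lgr Lrot30 (Lpr_at (f115559 IH) (Lpr_ft (K4.f115557 IH) (Lpr_at (K7.f115560 IH) (Lpn (LP (LK LD1_c12 LD2_c1 LD3_c34))))))
theorem f208287 : Led Lsl_bt (LP (LK LD1_c11 LD2_c38 LD3_c28)) = (LP (LK LD1_c12 LD2_c1 LD3_c34)) :=
  Lgr Lrot35 (Lpr_ff (f208275 IH) (Lpe (f208267 IH) (Lpr_ff (f115561 IH) (Lpn (LP (LK LD1_c12 LD2_c1 LD3_c34))))))
theorem f149851 : Led Lsl_cf (LP (LK LD1_c6 LD2_c37 LD3_c41)) = (LP (LK LD1_c12 LD2_c36 LD3_c4)) :=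
  Lgr Lrot11 (Lpr_ct (K7.f149849 IH) (Lpn (LP (LK LD1_c12 LD2_c36 LD3_c4))))
theorem f150907 : Led Lsl_df (LP (LK LD1_c3 LD2_c15 LD3_c52)) = (LP (LK LD1_c6 LD2_c2 LD3_c17)) :=
  Lgr Lrot153 (Lpe (f150874 IH) (Lpe (K7.f119628 IH) (Lpr_cf (f149851 IH) (Lpe (K7.f149814 IH) (Lpr_gf (K7.f118785 IH) (Lpr_df (K7.f150891 IH) (Lpr_gf (K7.f141746 IH) (Lpe (K7.f149762 IH) (Lpr_gt (K7.f82019 IH) (Lpn (LP (LK LD1_c6 LD2_c2 LD3_c17))))))))))))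
theorem f150913 : Led Lsl_ft (LP (LK LD1_c3 LD2_c15 LD3_c52)) = (LP (LK LD1_c6 LD2_c10 LD3_c31)) :=
  Lgr Lrot54 (Lpr_df (f150907 IH) (Lpe (K7.f149737 IH) (Lpe (K7.f148691 IH) (Lpn (LP (LK LD1_c6 LD2_c10 LD3_c31))))))
theorem f150930 : Led Lsl_bf (LP (LK LD1_c3 LD2_c15 LD3_c34)) = (LP (LK LD1_c6 LD2_c10 LD3_c31)) :=
  Lgr Lrot61 (Lpe (K7.f137741 IH) (Lpr_bt (K7.f137736 IH) (Lpr_ft (f150913 IH) (Lpn (LP (LK LD1_c6 LD2_c10 LD3_c31))))))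
theorem f23563 : Led Lsl_bt (LP (LK LD1_c1 LD2_c34 LD3_c18)) = (LP (LK LD1_c3 LD2_c15 LD3_c16)) :=
  Lre_b IH (LK LD1_c1 LD2_c34 LD3_c18) (LK LD1_c3 LD2_c15 LD3_c16) Lrfl Lrfl
theorem f110996 : Led Lsl_at (LP (LK LD1_c12 LD2_c12 LD3_c48)) = (LP (LK LD1_c6 LD2_c18 LD3_c23)) :=
  Lre_a IH (LK LD1_c12 LD2_c12 LD3_c48) (LK LD1_c6 LD2_c18 LD3_c23) Lrfl Lrfl
theorem f110997 : Led Lsl_bt (LP (LK LD1_c6 LD2_c33 LD3_c57)) = (LP (LK LD1_c12 LD2_c12 LD3_c48)) :=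
  Lgr Lrot62 (Lpe (K7.f110995 IH) (Lpe (f23563 IH) (Lpr_af (K3.f110966 IH) (Lpe (K8.f76674 IH) (Lpe (f110996 IH) (Lpn (LP (LK LD1_c12 LD2_c12 LD3_c48))))))))
theorem f208290 : Led Lsl_cf (LP (LK LD1_c11 LD2_c38 LD3_c28)) = (LP (LK LD1_c12 LD2_c12 LD3_c48)) :=
  Lgr Lrot97 (Lpr_bt (f208287 IH) (Lpr_ct (K7.f115572 IH) (Lpe (f150930 IH) (Lpr_ct (K7.f137683 IH) (Lpr_bt (f110997 IH) (Lpn (LP (LK LD1_c12 LD2_c12 LD3_c48))))))))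
theorem f157048 : Led Lsl_bt (LP (LK LD1_c4 LD2_c58 LD3_c37)) = (LP (LK LD1_c9 LD2_c47 LD3_c45)) :=
  Lre_b IH (LK LD1_c4 LD2_c58 LD3_c37) (LK LD1_c9 LD2_c47 LD3_c45) Lrfl Lrfl
theorem f157050 : Led Lsl_bt (LP (LK LD1_c5 LD2_c56 LD3_c35)) = (LP (LK LD1_c2 LD2_c54 LD3_c37)) :=
  Lre_b IH (LK LD1_c5 LD2_c56 LD3_c35) (LK LD1_c2 LD2_c54 LD3_c37) Lrfl Lrfl
theorem f157051 : Led Lsl_ct (LP (LK LD1_c9 LD2_c47 LD3_c45)) = (LP (LK LD1_c5 LD2_c56 LD3_c35)) :=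
  Lgr Lrot83 (Lpe (f157048 IH) (Lpr_cf (K8.f157046 IH) (Lpe (K24.f157049 IH) (Lpe (f83006 IH) (Lpe (f157050 IH) (Lpn (LP (LK LD1_c5 LD2_c56 LD3_c35))))))))
theorem f66276 : Led Lsl_ct (LP (LK LD1_c6 LD2_c36 LD3_c52)) = (LP (LK LD1_c12 LD2_c39 LD3_c32)) :=
  Lre_c IH (LK LD1_c6 LD2_c36 LD3_c52) (LK LD1_c12 LD2_c39 LD3_c32) Lrfl Lrfl
theorem f104999 : Led Lsl_et (LP (LK LD1_c4 LD2_c58 LD3_c37)) = (LP (LK LD1_c9 LD2_c47 LD3_c47)) :=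
  Lre_e IH (LK LD1_c4 LD2_c58 LD3_c37) (LK LD1_c9 LD2_c47 LD3_c47) Lrfl Lrfl
theorem f157055 : Led Lsl_et (LP (LK LD1_c5 LD2_c56 LD3_c34)) = (LP (LK LD1_c2 LD2_c54 LD3_c36)) :=
  Lre_e IH (LK LD1_c5 LD2_c56 LD3_c34) (LK LD1_c2 LD2_c54 LD3_c36) Lrfl Lrfl
theorem f157056 : Led Lsl_ct (LP (LK LD1_c9 LD2_c47 LD3_c47)) = (LP (LK LD1_c5 LD2_c56 LD3_c34)) :=
  Lgr Lrot15 (Lpe (f104999 IH) (Lpr_cf (K8.f157046 IH) (Lpe (f157055 IH) (Lpn (LP (LK LD1_c5 LD2_c56 LD3_c34))))))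
theorem f157082 : Led Lsl_cf (LP (LK LD1_c9 LD2_c47 LD3_c47)) = (LP (LK LD1_c5 LD2_c56 LD3_c34)) :=
  Lgr Lrot11 (Lpr_ct (f157056 IH) (Lpn (LP (LK LD1_c5 LD2_c56 LD3_c34))))
theorem f157090 : Led Lsl_bt (LP (LK LD1_c9 LD2_c47 LD3_c47)) = (LP (LK LD1_c17 LD2_c58 LD3_c1)) :=
  Lre_b IH (LK LD1_c9 LD2_c47 LD3_c47) (LK LD1_c17 LD2_c58 LD3_c1) Lrfl Lrfl
theorem f157102 : Led Lsl_bt (LP (LK LD1_c2 LD2_c54 LD3_c38)) = (LP (LK LD1_c5 LD2_c56 LD3_c34)) :=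
  Lre_b IH (LK LD1_c2 LD2_c54 LD3_c38) (LK LD1_c5 LD2_c56 LD3_c34) Lrfl Lrfl
theorem f157103 : Led Lsl_ct (LP (LK LD1_c5 LD2_c56 LD3_c37)) = (LP (LK LD1_c2 LD2_c54 LD3_c38)) :=
  Lre_c IH (LK LD1_c5 LD2_c56 LD3_c37) (LK LD1_c2 LD2_c54 LD3_c38) Lrfl Lrfl
theorem f157104 : Led Lsl_bt (LP (LK LD1_c11 LD2_c38 LD3_c29)) = (LP (LK LD1_c5 LD2_c56 LD3_c37)) :=
  Lre_b IH (LK LD1_c11 LD2_c38 LD3_c29) (LK LD1_c5 LD2_c56 LD3_c37) Lrfl Lrfl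
theorem f157105 : Led Lsl_ct (LP (LK LD1_c17 LD2_c58 LD3_c1)) = (LP (LK LD1_c11 LD2_c38 LD3_c29)) :=
  Lgr Lrot83 (Lpe (f157090 IH) (Lpr_cf (f157082 IH) (Lpe (f157102 IH) (Lpe (f157103 IH) (Lpe (f157104 IH) (Lpn (LP (LK LD1_c11 LD2_c38 LD3_c29))))))))
theorem f157110 : Led Lsl_et (LP (LK LD1_c9 LD2_c47 LD3_c45)) = (LP (LK LD1_c17 LD2_c58 LD3_c1)) :=
  Lre_e IH (LK LD1_c9 LD2_c47 LD3_c45) (LK LD1_c17 LD2_c58 LD3_c1) Lrfl Lrfl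
theorem f157111 : Led Lsl_et (LP (LK LD1_c11 LD2_c38 LD3_c29)) = (LP (LK LD1_c5 LD2_c56 LD3_c35)) :=
  Lre_e IH (LK LD1_c11 LD2_c38 LD3_c29) (LK LD1_c5 LD2_c56 LD3_c35) Lrfl Lrfl
theorem f157112 : Led Lsl_cf (LP (LK LD1_c9 LD2_c47 LD3_c45)) = (LP (LK LD1_c5 LD2_c56 LD3_c35)) :=
  Lgr Lrot39 (Lpr_et (f157110 IH) (Lpr_ct (f157105 IH) (Lpr_et (f157111 IH) (Lpn (LP (LK LD1_c5 LD2_c56 LD3_c35))))))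
theorem f161235 : Led Lsl_gt (LP (LK LD1_c12 LD2_c39 LD3_c32)) = (LP (LK LD1_c9 LD2_c47 LD3_c45)) :=
  Lgr Lrot65 (Lpe (f66276 IH) (Lpr_bt (K4.f66275 IH) (Lpe (K3.f64911 IH) (Lpe (K5.f66273 IH) (Lpr_ct (K4.f66160 IH) (Lpe (K8.f66274 IH) (Lpr_cf (K8.f160881 IH) (Lpr_gf (K8.f161100 IH) (Lpe (f157050 IH) (Lpe (f157112 IH) (Lpn (LP (LK LD1_c9 LD2_c47 LD3_c45)))))))))))))
theorem f208297 : Led Lsl_bf (LP (LK LD1_c6 LD2_c33 LD3_c57)) = (LP (LK LD1_c12 LD2_c12 LD3_c48)) :=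
  Lgr Lrot156 (Lpr_gt (K11.f138813 IH) (Lpr_bf (K4.f111859 IH) (Lpr_ct (K4.f94162 IH) (Lpr_gt (K4.f92450 IH) (Lpe (K28.f89127 IH) (Lpr_bt (K4.f94137 IH) (Lpr_gt (f161235 IH) (Lpr_ct (f157051 IH) (Lpr_gt (f83034 IH) (Lpr_cf (f208290 IH) (Lpn (LP (LK LD1_c12 LD2_c12 LD3_c48)))))))))))))
theorem f99260 : Led Lsl_ct (LP (LK LD1_c8 LD2_c45 LD3_c44)) = (LP (LK LD1_c4 LD2_c23 LD3_c60)) :=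
  Lre_c IH (LK LD1_c8 LD2_c45 LD3_c44) (LK LD1_c4 LD2_c23 LD3_c60) Lrfl Lrfl
theorem f161270 : Led Lsl_at (LP (LK LD1_c2 LD2_c54 LD3_c21)) = (LP (LK LD1_c2 LD2_c14 LD3_c27)) :=
  Lgr Lrot26 (Lpr_ff (K6.f119698 IH) (Lpr_gt (K8.f161266 IH) (Lpr_gt (K8.f160932 IH) (Lpn (LP (LK LD1_c2 LD2_c14 LD3_c27))))))
theorem f161416 : Led Lsl_df (LP (LK LD1_c8 LD2_c45 LD3_c44)) = (LP (LK LD1_c6 LD2_c33 LD3_c57)) :=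
  Lgr Lrot13 (Lpr_ct (f99260 IH) (Lpr_dt (K8.f161400 IH) (Lpe (K6.f35241 IH) (Lpe (f161270 IH) (Lpr_ff (K6.f119698 IH) (Lpr_dt (K7.f149692 IH) (Lpe (K7.f149703 IH) (Lpr_dt (K7.f149712 IH) (Lpr_ct (K7.f137683 IH) (Lpn (LP (LK LD1_c6 LD2_c33 LD3_c57))))))))))))
theorem f99261 : Led Lsl_bt (LP (LK LD1_c8 LD2_c45 LD3_c44)) = (LP (LK LD1_c16 LD2_c23 LD3_c57)) :=
  Lre_b IH (LK LD1_c8 LD2_c45 LD3_c44) (LK LD1_c16 LD2_c23 LD3_c57) Lrfl Lrfl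
theorem f208299 : Led Lsl_dt (LP (LK LD1_c16 LD2_c23 LD3_c57)) = (LP (LK LD1_c12 LD2_c12 LD3_c48)) :=
  Lgr Lrot79 (Lpe (f99261 IH) (Lpr_df (f161416 IH) (Lpr_bf (f208297 IH) (Lpn (LP (LK LD1_c12 LD2_c12 LD3_c48))))))
theorem f208301 : Led Lsl_dt (LP (LK LD1_c6 LD2_c18 LD3_c23)) = (LP (LK LD1_c12 LD2_c12 LD3_c49)) :=
  Lre_d IH (LK LD1_c6 LD2_c18 LD3_c23) (LK LD1_c12 LD2_c12 LD3_c49) Lrfl Lrfl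
theorem f208302 : Led Lsl_af (LP (LK LD1_c16 LD2_c23 LD3_c57)) = (LP (LK LD1_c12 LD2_c12 LD3_c49)) :=
  Lgr Lrot117 (Lpr_dt (f208299 IH) (Lpr_at (f110996 IH) (Lpr_dt (f208301 IH) (Lpn (LP (LK LD1_c12 LD2_c12 LD3_c49))))))
theorem f208305 : Led Lsl_et (LP (LK LD1_c16 LD2_c23 LD3_c57)) = (LP (LK LD1_c26 LD2_c21 LD3_c50)) :=
  Lre_e IH (LK LD1_c16 LD2_c23 LD3_c57) (LK LD1_c26 LD2_c21 LD3_c50) Lrfl Lrfl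
theorem f208312 : Led Lsl_et (LP (LK LD1_c21 LD2_c18 LD3_c36)) = (LP (LK LD1_c12 LD2_c12 LD3_c49)) :=
  Lre_e IH (LK LD1_c21 LD2_c18 LD3_c36) (LK LD1_c12 LD2_c12 LD3_c49) Lrfl Lrfl
theorem f208313 : Led Lsl_at (LP (LK LD1_c26 LD2_c21 LD3_c50)) = (LP (LK LD1_c21 LD2_c18 LD3_c36)) :=
  Lgr Lrot80 (Lpe (f208305 IH) (Lpr_af (f208302 IH) (Lpe (f208312 IH) (Lpn (LP (LK LD1_c21 LD2_c18 LD3_c36))))))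
theorem f161412 : Led Lsl_bt (LP (LK LD1_c16 LD2_c23 LD3_c58)) = (LP (LK LD1_c26 LD2_c21 LD3_c50)) :=
  Lre_b IH (LK LD1_c16 LD2_c23 LD3_c58) (LK LD1_c26 LD2_c21 LD3_c50) Lrfl Lrfl
theorem f110972 : Led Lsl_bt (LP (LK LD1_c21 LD2_c18 LD3_c36)) = (LP (LK LD1_c12 LD2_c12 LD3_c50)) :=
  Lre_b IH (LK LD1_c21 LD2_c18 LD3_c36) (LK LD1_c12 LD2_c12 LD3_c50) Lrfl Lrfl
theorem f79337 : Led Lsl_et (LP (LK LD1_c6 LD2_c33 LD3_c59)) = (LP (LK LD1_c3 LD2_c15 LD3_c17)) :=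
  Lre_e IH (LK LD1_c6 LD2_c33 LD3_c59) (LK LD1_c3 LD2_c15 LD3_c17) Lrfl Lrfl
theorem f76694 : Led Lsl_et (LP (LK LD1_c6 LD2_c18 LD3_c24)) = (LP (LK LD1_c12 LD2_c12 LD3_c50)) :=
  Lre_e IH (LK LD1_c6 LD2_c18 LD3_c24) (LK LD1_c12 LD2_c12 LD3_c50) Lrfl Lrfl
theorem f110968 : Led Lsl_af (LP (LK LD1_c6 LD2_c33 LD3_c59)) = (LP (LK LD1_c12 LD2_c12 LD3_c50)) :=
  Lgr Lrot50 (Lpr_et (f79337 IH) (Lpr_at (K3.f110961 IH) (Lpr_et (f76694 IH) (Lpn (LP (LK LD1_c12 LD2_c12 LD3_c50))))))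
theorem f119733 : Led Lsl_et (LP (LK LD1_c5 LD2_c56 LD3_c1)) = (LP (LK LD1_c11 LD2_c37 LD3_c15)) :=
  Lre_e IH (LK LD1_c5 LD2_c56 LD3_c1) (LK LD1_c11 LD2_c37 LD3_c15) Lrfl Lrfl
theorem f119745 : Led Lsl_bt (LP (LK LD1_c11 LD2_c37 LD3_c15)) = (LP (LK LD1_c6 LD2_c33 LD3_c59)) :=
  Lgr Lrot119 (Lpe (f119733 IH) (Lpr_bf (K6.f119741 IH) (Lpe (f79337 IH) (Lpn (LP (LK LD1_c6 LD2_c33 LD3_c59))))))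
theorem f119747 : Led Lsl_bf (LP (LK LD1_c11 LD2_c37 LD3_c15)) = (LP (LK LD1_c6 LD2_c33 LD3_c59)) :=
  Lgr Lrot24 (Lpr_bt (f119745 IH) (Lpn (LP (LK LD1_c6 LD2_c33 LD3_c59))))
theorem f208317 : Led Lsl_af (LP (LK LD1_c16 LD2_c23 LD3_c58)) = (LP (LK LD1_c11 LD2_c37 LD3_c15)) :=
  Lgr Lrot36 (Lpr_bt (f161412 IH) (Lpr_at (f208313 IH) (Lpr_bt (f110972 IH) (Lpe (f110968 IH) (Lpe (f119747 IH) (Lpn (LP (LK LD1_c11 LD2_c37 LD3_c15))))))))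
theorem f161408 : Led Lsl_ct (LP (LK LD1_c16 LD2_c23 LD3_c58)) = (LP (LK LD1_c8 LD2_c45 LD3_c45)) :=
  Lre_c IH (LK LD1_c16 LD2_c23 LD3_c58) (LK LD1_c8 LD2_c45 LD3_c45) Lrfl Lrfl
theorem f119749 : Led Lsl_ct (LP (LK LD1_c5 LD2_c56 LD3_c2)) = (LP (LK LD1_c11 LD2_c37 LD3_c15)) :=
  Lre_c IH (LK LD1_c5 LD2_c56 LD3_c2) (LK LD1_c11 LD2_c37 LD3_c15) Lrfl Lrfl
theorem f208321 : Led Lsl_at (LP (LK LD1_c8 LD2_c45 LD3_c45)) = (LP (LK LD1_c5 LD2_c56 LD3_c2)) :=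
  Lgr Lrot107 (Lpe (f161408 IH) (Lpr_af (f208317 IH) (Lpe (f119749 IH) (Lpn (LP (LK LD1_c5 LD2_c56 LD3_c2))))))
theorem f161402 : Led Lsl_et (LP (LK LD1_c4 LD2_c23 LD3_c60)) = (LP (LK LD1_c8 LD2_c45 LD3_c45)) :=
  Lre_e IH (LK LD1_c4 LD2_c23 LD3_c60) (LK LD1_c8 LD2_c45 LD3_c45) Lrfl Lrfl
theorem f161937 : Led Lsl_et (LP (LK LD1_c5 LD2_c56 LD3_c2)) = (LP (LK LD1_c2 LD2_c54 LD3_c22)) :=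
  Lre_e IH (LK LD1_c5 LD2_c56 LD3_c2) (LK LD1_c2 LD2_c54 LD3_c22) Lrfl Lrfl
theorem f208325 : Led Lsl_af (LP (LK LD1_c4 LD2_c23 LD3_c60)) = (LP (LK LD1_c2 LD2_c54 LD3_c22)) :=
  Lgr Lrot50 (Lpr_et (f161402 IH) (Lpr_at (f208321 IH) (Lpr_et (f161937 IH) (Lpn (LP (LK LD1_c2 LD2_c54 LD3_c22))))))
theorem f137699 : Led Lsl_ff (LP (LK LD1_c2 LD2_c54 LD3_c22)) = (LP (LK LD1_c4 LD2_c23 LD3_c59)) :=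
  Lgr Lrot23 (Lpr_ct (K6.f82011 IH) (Lpr_ft (K6.f137651 IH) (Lpr_ct (K6.f99259 IH) (Lpn (LP (LK LD1_c4 LD2_c23 LD3_c59))))))
theorem f137771 : Led Lsl_af (LP (LK LD1_c4 LD2_c23 LD3_c59)) = (LP (LK LD1_c2 LD2_c54 LD3_c24)) :=
  Lgr Lrot0 (Lpr_at (K6.f137768 IH) (Lpn (LP (LK LD1_c2 LD2_c54 LD3_c24))))
theorem f208332 : Led Lsl_ft (LP (LK LD1_c4 LD2_c23 LD3_c60)) = (LP (LK LD1_c2 LD2_c54 LD3_c24)) :=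
  Lgr Lrot101 (Lpr_af (f208325 IH) (Lpr_ff (f137699 IH) (Lpr_af (f137771 IH) (Lpn (LP (LK LD1_c2 LD2_c54 LD3_c24))))))
theorem f208338 : Led Lsl_ff (LP (LK LD1_c4 LD2_c23 LD3_c60)) = (LP (LK LD1_c2 LD2_c54 LD3_c24)) :=
  Lgr Lrot3 (Lpr_ft (f208332 IH) (Lpn (LP (LK LD1_c2 LD2_c54 LD3_c24))))
theorem f208340 : Led Lsl_ft (LP (LK LD1_c7 LD2_c59 LD3_c55)) = (LP (LK LD1_c5 LD2_c56 LD3_c3)) :=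
  Lgr Lrot75 (Lpe (K8.f161396 IH) (Lpr_ff (f208338 IH) (Lpe (K8.f149611 IH) (Lpn (LP (LK LD1_c5 LD2_c56 LD3_c3))))))
theorem f40054 : Led Lsl_dt (LP (LK LD1_c3 LD2_c57 LD3_c60)) = (LP (LK LD1_c7 LD2_c57 LD3_c20)) :=
  Lre_d IH (LK LD1_c3 LD2_c57 LD3_c60) (LK LD1_c7 LD2_c57 LD3_c20) Lrfl Lrfl
theorem f158957 : Led Lsl_gf (LP (LK LD1_c7 LD2_c59 LD3_c53)) = (LP (LK LD1_c5 LD2_c47 LD3_c15)) :=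
  Lgr Lrot104 (Lpr_ct (K28.f157744 IH) (Lpe (K8.f139790 IH) (Lpe (K8.f139791 IH) (Lpe (K8.f157639 IH) (Lpr_cf (K8.f158939 IH) (Lpe (K8.f158955 IH) (Lpe (f40054 IH) (Lpr_gt (K8.f59258 IH) (Lpr_ct (K8.f157843 IH) (Lpn (LP (LK LD1_c5 LD2_c47 LD3_c15))))))))))))
theorem f208346 : Led Lsl_af (LP (LK LD1_c7 LD2_c59 LD3_c53)) = (LP (LK LD1_c5 LD2_c56 LD3_c3)) :=
  Lgr Lrot31 (Lpr_gf (f158957 IH) (Lpe (K8.f160950 IH) (Lpr_ft (f208340 IH) (Lpn (LP (LK LD1_c5 LD2_c56 LD3_c3))))))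
theorem f208350 : Led Lsl_at (LP (LK LD1_c12 LD2_c49 LD3_c27)) = (LP (LK LD1_c11 LD2_c37 LD3_c18)) :=
  Lgr Lrot107 (Lpe (K28.f157744 IH) (Lpr_af (f208346 IH) (Lpe (K8.f149612 IH) (Lpn (LP (LK LD1_c11 LD2_c37 LD3_c18))))))
theorem f208356 : Led Lsl_ff (LP (LK LD1_c12 LD2_c49 LD3_c27)) = (LP (LK LD1_c11 LD2_c33 LD3_c19)) :=
  Lgr Lrot52 (Lpr_at (f208350 IH) (Lpr_gf (K8.f159005 IH) (Lpr_gf (K8.f149268 IH) (Lpn (LP (LK LD1_c11 LD2_c33 LD3_c19))))))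
theorem f208364 : Led Lsl_ft (LP (LK LD1_c12 LD2_c49 LD3_c27)) = (LP (LK LD1_c11 LD2_c33 LD3_c19)) :=
  Lgr Lrot48 (Lpr_ff (f208356 IH) (Lpn (LP (LK LD1_c11 LD2_c33 LD3_c19))))
theorem f208370 : Led Lsl_af (LP (LK LD1_c12 LD2_c49 LD3_c24)) = (LP (LK LD1_c11 LD2_c33 LD3_c19)) :=
  Lgr Lrot31 (Lpe (K8.f161390 IH) (Lpr_gf (K28.f207796 IH) (Lpr_ft (f208364 IH) (Lpn (LP (LK LD1_c11 LD2_c33 LD3_c19))))))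
theorem f208352 : Led Lsl_af (LP (LK LD1_c12 LD2_c49 LD3_c27)) = (LP (LK LD1_c11 LD2_c37 LD3_c18)) :=
  Lgr Lrot0 (Lpr_at (f208350 IH) (Lpn (LP (LK LD1_c11 LD2_c37 LD3_c18))))
theorem f208376 : Led Lsl_ft (LP (LK LD1_c12 LD2_c49 LD3_c24)) = (LP (LK LD1_c11 LD2_c37 LD3_c18)) :=
  Lgr Lrot101 (Lpr_af (f208370 IH) (Lpe (f208364 IH) (Lpr_af (f208352 IH) (Lpn (LP (LK LD1_c11 LD2_c37 LD3_c18))))))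
theorem f157681 : Led Lsl_dt (LP (LK LD1_c12 LD2_c49 LD3_c24)) = (LP (LK LD1_c6 LD2_c42 LD3_c8)) :=
  Lre_d IH (LK LD1_c12 LD2_c49 LD3_c24) (LK LD1_c6 LD2_c42 LD3_c8) Lrfl Lrfl
theorem f129258 : Led Lsl_ct (LP (LK LD1_c6 LD2_c42 LD3_c8)) = (LP (LK LD1_c12 LD2_c49 LD3_c23)) :=
  Lre_c IH (LK LD1_c6 LD2_c42 LD3_c8) (LK LD1_c12 LD2_c49 LD3_c23) Lrfl Lrfl
theorem f159044 : Led Lsl_dt (LP (LK LD1_c4 LD2_c35 LD3_c52)) = (LP (LK LD1_c2 LD2_c15 LD3_c7)) :=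
  Lre_d IH (LK LD1_c4 LD2_c35 LD3_c52) (LK LD1_c2 LD2_c15 LD3_c7) Lrfl Lrfl
theorem f149649 : Led Lsl_ct (LP (LK LD1_c6 LD2_c44 LD3_c13)) = (LP (LK LD1_c3 LD2_c20 LD3_c15)) :=
  Lre_c IH (LK LD1_c6 LD2_c44 LD3_c13) (LK LD1_c3 LD2_c20 LD3_c15) Lrfl Lrfl
theorem f158945 : Led Lsl_ct (LP (LK LD1_c7 LD2_c25 LD3_c40)) = (LP (LK LD1_c11 LD2_c48 LD3_c11)) :=
  Lgr Lrot59 (Lpr_cf (K28.f158943 IH) (Lpn (LP (LK LD1_c11 LD2_c48 LD3_c11))))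
theorem f156737 : Led Lsl_df (LP (LK LD1_c7 LD2_c25 LD3_c40)) = (LP (LK LD1_c11 LD2_c33 LD3_c19)) :=
  Lgr Lrot155 (Lpr_gt (K8.f125634 IH) (Lpe (K7.f124123 IH) (Lpe (K4.f104729 IH) (Lpr_ct (K1.f40037 IH) (Lpr_dt (K1.f40038 IH) (Lpe (K7.f16156 IH) (Lpe (K7.f40033 IH) (Lpr_cf (K7.f156728 IH) (Lpr_gf (K8.f149268 IH) (Lpn (LP (LK LD1_c11 LD2_c33 LD3_c19))))))))))))
theorem f99536 : Led Lsl_ct (LP (LK LD1_c5 LD2_c53 LD3_c41)) = (LP (LK LD1_c11 LD2_c33 LD3_c19)) :=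
  Lre_c IH (LK LD1_c5 LD2_c53 LD3_c41) (LK LD1_c11 LD2_c33 LD3_c19) Lrfl Lrfl
theorem f79355 : Led Lsl_bt (LP (LK LD1_c1 LD2_c22 LD3_c43)) = (LP (LK LD1_c2 LD2_c53 LD3_c12)) :=
  Lre_b IH (LK LD1_c1 LD2_c22 LD3_c43) (LK LD1_c2 LD2_c53 LD3_c12) Lrfl Lrfl
theorem f149326 : Led Lsl_bt (LP (LK LD1_c4 LD2_c35 LD3_c52)) = (LP (LK LD1_c2 LD2_c15 LD3_c9)) :=
  Lre_b IH (LK LD1_c4 LD2_c35 LD3_c52) (LK LD1_c2 LD2_c15 LD3_c9) Lrfl Lrfl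
theorem f149327 : Led Lsl_ft (LP (LK LD1_c2 LD2_c53 LD3_c12)) = (LP (LK LD1_c4 LD2_c35 LD3_c52)) :=
  Lgr Lrot75 (Lpe (f79355 IH) (Lpr_ff (K7.f149322 IH) (Lpe (f149326 IH) (Lpn (LP (LK LD1_c4 LD2_c35 LD3_c52))))))
theorem f159020 : Led Lsl_af (LP (LK LD1_c3 LD2_c20 LD3_c15)) = (LP (LK LD1_c4 LD2_c35 LD3_c52)) :=
  Lgr Lrot109 (Lpe (f149649 IH) (Lpr_df (K8.f159003 IH) (Lpe (f158945 IH) (Lpr_df (f156737 IH) (Lpe (f99536 IH) (Lpe (K8.f99535 IH) (Lpe (K4.f81851 IH) (Lpe (K4.f69007 IH) (Lpr_ft (f149327 IH) (Lpn (LP (LK LD1_c4 LD2_c35 LD3_c52))))))))))))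
theorem f159061 : Led Lsl_cf (LP (LK LD1_c4 LD2_c35 LD3_c52)) = (LP (LK LD1_c8 LD2_c0 LD3_c26)) :=
  Lgr Lrot1 (Lpe (f159020 IH) (Lpr_ct (K8.f149638 IH) (Lpr_at (K8.f159054 IH) (Lpn (LP (LK LD1_c8 LD2_c0 LD3_c26))))))
theorem f208382 : Led Lsl_dt (LP (LK LD1_c12 LD2_c49 LD3_c23)) = (LP (LK LD1_c8 LD2_c0 LD3_c26)) :=
  Lgr Lrot32 (Lpe (f129258 IH) (Lpe (f157681 IH) (Lpr_ft (f208376 IH) (Lpe (f208352 IH) (Lpe (K28.f157744 IH) (Lpe (K8.f101691 IH) (Lpe (K8.f161344 IH) (Lpe (f159044 IH) (Lpr_cf (f159061 IH) (Lpn (LP (LK LD1_c8 LD2_c0 LD3_c26))))))))))))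
theorem f159067 : Led Lsl_ct (LP (LK LD1_c4 LD2_c35 LD3_c52)) = (LP (LK LD1_c8 LD2_c0 LD3_c26)) :=
  Lgr Lrot40 (Lpe (f149327 IH) (Lpe (K4.f69006 IH) (Lpr_ff (K8.f159063 IH) (Lpn (LP (LK LD1_c8 LD2_c0 LD3_c26))))))
theorem f208394 : Led Lsl_gt (LP (LK LD1_c2 LD2_c16 LD3_c3)) = (LP (LK LD1_c4 LD2_c35 LD3_c52)) :=
  Lgr Lrot187 (Lpr_cf (K4.f40601 IH) (Lpe (K4.f40593 IH) (Lpe (K8.f139532 IH) (Lpr_gt (K6.f139500 IH) (Lpr_ct (K8.f129249 IH) (Lpr_gt (K8.f129256 IH) (Lpr_ct (f129258 IH) (Lpr_dt (f208382 IH) (Lpe (f159067 IH) (Lpn (LP (LK LD1_c4 LD2_c35 LD3_c52))))))))))))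
theorem f37225 : Led Lsl_dt (LP (LK LD1_c1 LD2_c28 LD3_c3)) = (LP (LK LD1_c3 LD2_c4 LD3_c2)) :=
  Lre_d IH (LK LD1_c1 LD2_c28 LD3_c3) (LK LD1_c3 LD2_c4 LD3_c2) Lrfl Lrfl
theorem f158998 : Led Lsl_gt (LP (LK LD1_c2 LD2_c16 LD3_c61)) = (LP (LK LD1_c2 LD2_c18 LD3_c55)) :=
  Lgr Lrot180 (Lpe (K4.f60856 IH) (Lpr_gt (K4.f37226 IH) (Lpr_dt (f37225 IH) (Lpe (K8.f158963 IH) (Lpr_dt (K8.f101677 IH) (Lpr_ct (K8.f158980 IH) (Lpe (K8.f157872 IH) (Lpr_gf (K8.f157868 IH) (Lpe (K8.f138519 IH) (Lpn (LP (LK LD1_c2 LD2_c18 LD3_c55))))))))))))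
theorem f40426 : Led Lsl_ct (LP (LK LD1_c3 LD2_c59 LD3_c45)) = (LP (LK LD1_c1 LD2_c56 LD3_c32)) :=
  Lre_c IH (LK LD1_c3 LD2_c59 LD3_c45) (LK LD1_c1 LD2_c56 LD3_c32) Lrfl Lrfl
theorem f208396 : Led Lsl_gf (LP (LK LD1_c3 LD2_c59 LD3_c45)) = (LP (LK LD1_c8 LD2_c0 LD3_c26)) :=
  Lgr Lrot104 (Lpr_ct (f40426 IH) (Lpr_df (K8.f157809 IH) (Lpe (K28.f73475 IH) (Lpe (K28.f205711 IH) (Lpe (K8.f59420 IH) (Lpe (f158998 IH) (Lpr_df (K4.f79933 IH) (Lpr_gt (f208394 IH) (Lpr_ct (f159067 IH) (Lpn (LP (LK LD1_c8 LD2_c0 LD3_c26))))))))))))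
theorem f208398 : Led Lsl_gt (LP (LK LD1_c3 LD2_c59 LD3_c45)) = (LP (LK LD1_c8 LD2_c0 LD3_c27)) :=
  Lgr Lrot46 (Lpr_gf (f208396 IH) (Lpe (K8.f159063 IH) (Lpr_at (K8.f156767 IH) (Lpn (LP (LK LD1_c8 LD2_c0 LD3_c27))))))
theorem f40681 : Led Lsl_ct (LP (LK LD1_c1 LD2_c56 LD3_c32)) = (LP (LK LD1_c3 LD2_c59 LD3_c45)) :=
  Lre_c IH (LK LD1_c1 LD2_c56 LD3_c32) (LK LD1_c3 LD2_c59 LD3_c45) Lrfl Lrfl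
theorem f208416 : Led Lsl_cf (LP (LK LD1_c4 LD2_c36 LD3_c41)) = (LP (LK LD1_c8 LD2_c0 LD3_c27)) :=
  Lgr Lrot99 (Lpe (K8.f99566 IH) (Lpe (K8.f160938 IH) (Lpr_gf (K8.f160946 IH) (Lpe (K8.f37071 IH) (Lpr_gf (K5.f101598 IH) (Lpe (K7.f99547 IH) (Lpe (K8.f40679 IH) (Lpr_ct (f40681 IH) (Lpr_gt (f208398 IH) (Lpn (LP (LK LD1_c8 LD2_c0 LD3_c27))))))))))))
def v1294 : LQ := Led Lsl_ft (LP (LK LD1_c1 LD2_c5 LD3_c47))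
theorem f494671 : Led Lsl_ft (LP (LK LD1_c1 LD2_c5 LD3_c47)) = v1294 :=
  Lrfl
theorem f494673 : Led Lsl_ff (LP (LK LD1_c1 LD2_c5 LD3_c47)) = v1294 :=
  Lgr Lrot3 (Lpr_ft (f494671 IH) (Lpn v1294))
def v473 : LQ := Led Lsl_at (LP (LK LD1_c0 LD2_c42 LD3_c6))
theorem f453528 : Led Lsl_at (LP (LK LD1_c0 LD2_c42 LD3_c6)) = v473 :=
  Lrfl
theorem f453529 : Led Lsl_af (LP (LK LD1_c0 LD2_c42 LD3_c6)) = v473 :=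
  Lgr Lrot0 (Lpr_at (f453528 IH) (Lpn v473))
def v1291 : LQ := Led Lsl_at (LP (LK LD1_c1 LD2_c5 LD3_c47))
theorem f494661 : Led Lsl_at (LP (LK LD1_c1 LD2_c5 LD3_c47)) = v1291 :=
  Lrfl
theorem f494662 : Led Lsl_af (LP (LK LD1_c1 LD2_c5 LD3_c47)) = v1291 :=
  Lgr Lrot0 (Lpr_at (f494661 IH) (Lpn v1291))
theorem f494663 : Led Lsl_ft (LP (LK LD1_c1 LD2_c5 LD3_c48)) = v1291 :=
  Lgr Lrot2 (Lpr_gt (K8.f26867 IH) (Lpr_gt (K8.f26870 IH) (Lpr_af (f494662 IH) (Lpn v1291))))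
theorem f494664 : Led Lsl_ff (LP (LK LD1_c1 LD2_c5 LD3_c48)) = v1291 :=
  Lgr Lrot3 (Lpr_ft (f494663 IH) (Lpn v1291))
theorem f494674 : Led Lsl_at (LP (LK LD1_c1 LD2_c5 LD3_c48)) = v1294 :=
  Lgr Lrot66 (Lpr_ff (f494664 IH) (Lpe (f494661 IH) (Lpr_ff (f494673 IH) (Lpn v1294))))
theorem f448947 : Led Lsl_et (LP (LK LD1_c1 LD2_c21 LD3_c41)) = (LP (LK LD1_c2 LD2_c51 LD3_c14)) :=
  Lre_e IH (LK LD1_c1 LD2_c21 LD3_c41) (LK LD1_c2 LD2_c51 LD3_c14) Lrfl Lrfl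
theorem f116988 : Led Lsl_dt (LP (LK LD1_c0 LD2_c42 LD3_c7)) = (LP (LK LD1_c1 LD2_c31 LD3_c19)) :=
  Lre_d IH (LK LD1_c0 LD2_c42 LD3_c7) (LK LD1_c1 LD2_c31 LD3_c19) Lrfl Lrfl
theorem f161920 : Led Lsl_gf (LP (LK LD1_c0 LD2_c42 LD3_c7)) = (LP (LK LD1_c1 LD2_c5 LD3_c49)) :=
  Lgr Lrot143 (Lpr_dt (f116988 IH) (Lpe (K8.f116984 IH) (Lpe (K8.f116983 IH) (Lpr_gf (K8.f161847 IH) (Lpr_df (K8.f161849 IH) (Lpe (K8.f161254 IH) (Lpe (K8.f37938 IH) (Lpr_gt (K8.f161913 IH) (Lpr_dt (K8.f26859 IH) (Lpn (LP (LK LD1_c1 LD2_c5 LD3_c49))))))))))))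
theorem f59716 : Led Lsl_ct (LP (LK LD1_c1 LD2_c31 LD3_c18)) = (LP (LK LD1_c0 LD2_c42 LD3_c7)) :=
  Lre_c IH (LK LD1_c1 LD2_c31 LD3_c18) (LK LD1_c0 LD2_c42 LD3_c7) Lrfl Lrfl
theorem f59710 : Led Lsl_bt (LP (LK LD1_c0 LD2_c42 LD3_c1)) = (LP (LK LD1_c0 LD2_c18 LD3_c47)) :=
  Lre_b IH (LK LD1_c0 LD2_c42 LD3_c1) (LK LD1_c0 LD2_c18 LD3_c47) Lrfl Lrfl
theorem f59717 : Led Lsl_bf (LP (LK LD1_c1 LD2_c28 LD3_c6)) = (LP (LK LD1_c1 LD2_c31 LD3_c18)) :=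
  Lgr Lrot34 (Lpe (K4.f59713 IH) (Lpe (K4.f59712 IH) (Lpr_ct (K1.f36615 IH) (Lpe (K1.f36612 IH) (Lpe (K1.f59693 IH) (Lpr_gf (K1.f59701 IH) (Lpe (f59710 IH) (Lpr_ct (K4.f59714 IH) (Lpe (K8.f59715 IH) (Lpe (f59716 IH) (Lpn (LP (LK LD1_c1 LD2_c31 LD3_c18)))))))))))))
theorem f117558 : Led Lsl_bt (LP (LK LD1_c3 LD2_c9 LD3_c50)) = (LP (LK LD1_c1 LD2_c31 LD3_c4)) :=
  Lre_b IH (LK LD1_c3 LD2_c9 LD3_c50) (LK LD1_c1 LD2_c31 LD3_c4) Lrfl Lrfl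
theorem f202805 : Led Lsl_gt (LP (LK LD1_c2 LD2_c9 LD3_c36)) = (LP (LK LD1_c3 LD2_c57 LD3_c38)) :=
  Lgr Lrot46 (Lpr_gf (K11.f202801 IH) (Lpe (K8.f133039 IH) (Lpr_at (K8.f133023 IH) (Lpn (LP (LK LD1_c3 LD2_c57 LD3_c38))))))
theorem f69192 : Led Lsl_at (LP (LK LD1_c1 LD2_c24 LD3_c22)) = (LP (LK LD1_c0 LD2_c38 LD3_c55)) :=
  Lre_a IH (LK LD1_c1 LD2_c24 LD3_c22) (LK LD1_c0 LD2_c38 LD3_c55) Lrfl Lrfl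
theorem f69193 : Led Lsl_at (LP (LK LD1_c0 LD2_c18 LD3_c49)) = (LP (LK LD1_c0 LD2_c42 LD3_c8)) :=
  Lre_a IH (LK LD1_c0 LD2_c18 LD3_c49) (LK LD1_c0 LD2_c42 LD3_c8) Lrfl Lrfl
theorem f69194 : Led Lsl_df (LP (LK LD1_c1 LD2_c24 LD3_c22)) = (LP (LK LD1_c0 LD2_c42 LD3_c8)) :=
  Lgr Lrot18 (Lpr_at (f69192 IH) (Lpr_dt (K6.f68568 IH) (Lpr_at (f69193 IH) (Lpn (LP (LK LD1_c0 LD2_c42 LD3_c8))))))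
theorem f202375 : Led Lsl_bf (LP (LK LD1_c0 LD2_c42 LD3_c8)) = (LP (LK LD1_c1 LD2_c6 LD3_c31)) :=
  Lgr Lrot93 (Lpe (f69194 IH) (Lpr_bt (K11.f202367 IH) (Lpe (K11.f104810 IH) (Lpn (LP (LK LD1_c1 LD2_c6 LD3_c31))))))
theorem f104879 : Led Lsl_ct (LP (LK LD1_c2 LD2_c18 LD3_c45)) = (LP (LK LD1_c1 LD2_c6 LD3_c31)) :=
  Lre_c IH (LK LD1_c2 LD2_c18 LD3_c45) (LK LD1_c1 LD2_c6 LD3_c31) Lrfl Lrfl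
theorem f202827 : Led Lsl_bt (LP (LK LD1_c4 LD2_c0 LD3_c36)) = (LP (LK LD1_c2 LD2_c18 LD3_c45)) :=
  Lgr Lrot128 (Lpr_cf (K11.f80678 IH) (Lpr_bf (K11.f202809 IH) (Lpe (K8.f69248 IH) (Lpr_bf (f202375 IH) (Lpe (f104879 IH) (Lpn (LP (LK LD1_c2 LD2_c18 LD3_c45))))))))
theorem f205709 : Led Lsl_gt (LP (LK LD1_c1 LD2_c28 LD3_c6)) = (LP (LK LD1_c2 LD2_c18 LD3_c45)) :=
  Lgr Lrot164 (Lpr_bf (f59717 IH) (Lpr_ct (f59716 IH) (Lpr_gf (f161920 IH) (Lpr_cf (K8.f36518 IH) (Lpr_gf (K11.f205705 IH) (Lpe (f117558 IH) (Lpr_ct (K8.f133013 IH) (Lpe (f202805 IH) (Lpe (K11.f80698 IH) (Lpr_bt (f202827 IH) (Lpn (LP (LK LD1_c2 LD2_c18 LD3_c45)))))))))))))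
theorem f80108 : Led Lsl_ct (LP (LK LD1_c4 LD2_c36 LD3_c53)) = (LP (LK LD1_c9 LD2_c9 LD3_c35)) :=
  Lre_c IH (LK LD1_c4 LD2_c36 LD3_c53) (LK LD1_c9 LD2_c9 LD3_c35) Lrfl Lrfl
theorem f150167 : Led Lsl_bt (LP (LK LD1_c4 LD2_c26 LD3_c6)) = (LP (LK LD1_c8 LD2_c49 LD3_c34)) :=
  Lre_b IH (LK LD1_c4 LD2_c26 LD3_c6) (LK LD1_c8 LD2_c49 LD3_c34) Lrfl Lrfl
theorem f161733 : Led Lsl_af (LP (LK LD1_c8 LD2_c45 LD3_c47)) = (LP (LK LD1_c5 LD2_c55 LD3_c32)) :=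
  Lgr Lrot45 (Lpr_ft (K6.f139112 IH) (Lpe (K8.f139119 IH) (Lpr_ft (K8.f161731 IH) (Lpn (LP (LK LD1_c5 LD2_c55 LD3_c32))))))
theorem f202892 : Led Lsl_gt (LP (LK LD1_c8 LD2_c45 LD3_c46)) = (LP (LK LD1_c6 LD2_c24 LD3_c37)) :=
  Lgr Lrot5 (Lpr_ft (K8.f161731 IH) (Lpe (f161733 IH) (Lpr_gf (K11.f202890 IH) (Lpn (LP (LK LD1_c6 LD2_c24 LD3_c37))))))
theorem f420329 : Led Lsl_gt (LP (LK LD1_c8 LD2_c49 LD3_c34)) = (LP (LK LD1_c4 LD2_c35 LD3_c15)) :=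
  Lgr Lrot82 (Lpe (f150167 IH) (Lpr_ct (K7.f40088 IH) (Lpr_gf (K7.f150161 IH) (Lpe (f80108 IH) (Lpr_bt (K7.f150097 IH) (Lpr_gf (K28.f202905 IH) (Lpr_bf (K11.f202833 IH) (Lpr_ct (K11.f69250 IH) (Lpe (f202892 IH) (Lpr_cf (K8.f161423 IH) (Lpn (LP (LK LD1_c4 LD2_c35 LD3_c15)))))))))))))
theorem f69261 : Led Lsl_ct (LP (LK LD1_c6 LD2_c24 LD3_c37)) = (LP (LK LD1_c3 LD2_c9 LD3_c57)) :=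
  Lre_c IH (LK LD1_c6 LD2_c24 LD3_c37) (LK LD1_c3 LD2_c9 LD3_c57) Lrfl Lrfl
theorem f205703 : Led Lsl_ft (LP (LK LD1_c0 LD2_c30 LD3_c4)) = (LP (LK LD1_c0 LD2_c18 LD3_c49)) :=
  Lgr Lrot4 (Lpr_cf (K8.f36520 IH) (Lpr_ff (K11.f205448 IH) (Lpe (K4.f59711 IH) (Lpn (LP (LK LD1_c0 LD2_c18 LD3_c49))))))
theorem f210817 : Led Lsl_gt (LP (LK LD1_c1 LD2_c5 LD3_c47)) = (LP (LK LD1_c0 LD2_c42 LD3_c8)) :=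
  Lgr Lrot46 (Lpe (K8.f26870 IH) (Lpr_ft (f205703 IH) (Lpr_at (f69193 IH) (Lpn (LP (LK LD1_c0 LD2_c42 LD3_c8))))))
theorem f36569 : Led Lsl_ct (LP (LK LD1_c2 LD2_c17 LD3_c43)) = (LP (LK LD1_c1 LD2_c5 LD3_c47)) :=
  Lre_c IH (LK LD1_c2 LD2_c17 LD3_c43) (LK LD1_c1 LD2_c5 LD3_c47) Lrfl Lrfl
theorem f119682 : Led Lsl_gt (LP (LK LD1_c4 LD2_c41 LD3_c19)) = (LP (LK LD1_c2 LD2_c17 LD3_c43)) :=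
  Lre_g IH (LK LD1_c4 LD2_c41 LD3_c19) (LK LD1_c2 LD2_c17 LD3_c43) Lrfl Lrfl
theorem f420337 : Led Lsl_df (LP (LK LD1_c8 LD2_c49 LD3_c34)) = (LP (LK LD1_c4 LD2_c41 LD3_c19)) :=
  Lgr Lrot155 (Lpr_gt (f420329 IH) (Lpe (K8.f161423 IH) (Lpr_gt (f202892 IH) (Lpr_ct (f69261 IH) (Lpr_dt (K11.f69255 IH) (Lpe (K8.f69248 IH) (Lpe (f210817 IH) (Lpe (f36569 IH) (Lpe (f119682 IH) (Lpn (LP (LK LD1_c4 LD2_c41 LD3_c19))))))))))))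
theorem f119735 : Led Lsl_gt (LP (LK LD1_c5 LD2_c56 LD3_c1)) = (LP (LK LD1_c11 LD2_c37 LD3_c13)) :=
  Lre_g IH (LK LD1_c5 LD2_c56 LD3_c1) (LK LD1_c11 LD2_c37 LD3_c13) Lrfl Lrfl
theorem f16563 : Led Lsl_bt (LP (LK LD1_c1 LD2_c2 LD3_c19)) = (LP (LK LD1_c2 LD2_c10 LD3_c26)) :=
  Lre_b IH (LK LD1_c1 LD2_c2 LD3_c19) (LK LD1_c2 LD2_c10 LD3_c26) Lrfl Lrfl
theorem f37895 : Led Lsl_bt (LP (LK LD1_c8 LD2_c49 LD3_c34)) = (LP (LK LD1_c4 LD2_c26 LD3_c6)) :=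
  Lre_b IH (LK LD1_c8 LD2_c49 LD3_c34) (LK LD1_c4 LD2_c26 LD3_c6) Lrfl Lrfl
theorem f202037 : Led Lsl_cf (LP (LK LD1_c11 LD2_c37 LD3_c13)) = (LP (LK LD1_c8 LD2_c49 LD3_c34)) :=
  Lgr Lrot163 (Lpe (f119735 IH) (Lpe (K6.f82011 IH) (Lpr_gf (K11.f161625 IH) (Lpe (K11.f149617 IH) (Lpr_ct (K11.f202015 IH) (Lpe (K11.f202013 IH) (Lpe (K1.f37875 IH) (Lpr_bt (f16563 IH) (Lpe (K7.f37894 IH) (Lpe (f37895 IH) (Lpn (LP (LK LD1_c8 LD2_c49 LD3_c34)))))))))))))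
theorem f69198 : Led Lsl_dt (LP (LK LD1_c3 LD2_c9 LD3_c58)) = (LP (LK LD1_c6 LD2_c24 LD3_c39)) :=
  Lre_d IH (LK LD1_c3 LD2_c9 LD3_c58) (LK LD1_c6 LD2_c24 LD3_c39) Lrfl Lrfl
theorem f69203 : Led Lsl_at (LP (LK LD1_c6 LD2_c24 LD3_c37)) = (LP (LK LD1_c3 LD2_c9 LD3_c58)) :=
  Lre_a IH (LK LD1_c6 LD2_c24 LD3_c37) (LK LD1_c3 LD2_c9 LD3_c58) Lrfl Lrfl
theorem f202737 : Led Lsl_df (LP (LK LD1_c6 LD2_c24 LD3_c37)) = (LP (LK LD1_c9 LD2_c12 LD3_c56)) :=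
  Lgr Lrot18 (Lpr_at (f69203 IH) (Lpr_dt (f69198 IH) (Lpr_at (K11.f202733 IH) (Lpn (LP (LK LD1_c9 LD2_c12 LD3_c56))))))
theorem f132551 : Led Lsl_dt (LP (LK LD1_c8 LD2_c0 LD3_c31)) = (LP (LK LD1_c9 LD2_c11 LD3_c47)) :=
  Lgr Lrot42 (Lpr_df (K8.f132548 IH) (Lpn (LP (LK LD1_c9 LD2_c11 LD3_c47))))
theorem f141762 : Led Lsl_cf (LP (LK LD1_c9 LD2_c11 LD3_c47)) = (LP (LK LD1_c6 LD2_c36 LD3_c22)) :=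
  Lgr Lrot11 (Lpr_ct (K7.f141757 IH) (Lpn (LP (LK LD1_c6 LD2_c36 LD3_c22))))
theorem f162959 : Led Lsl_dt (LP (LK LD1_c11 LD2_c37 LD3_c13)) = (LP (LK LD1_c6 LD2_c36 LD3_c22)) :=
  Lgr Lrot105 (Lpe (f119735 IH) (Lpr_df (K6.f119726 IH) (Lpe (K6.f65633 IH) (Lpr_cf (K8.f161799 IH) (Lpr_gt (K8.f162953 IH) (Lpr_dt (K8.f161448 IH) (Lpe (K8.f161441 IH) (Lpr_dt (f132551 IH) (Lpr_cf (f141762 IH) (Lpn (LP (LK LD1_c6 LD2_c36 LD3_c22))))))))))))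
theorem f202896 : Led Lsl_gt (LP (LK LD1_c4 LD2_c35 LD3_c18)) = (LP (LK LD1_c8 LD2_c49 LD3_c34)) :=
  Lgr Lrot150 (Lpe (K8.f161629 IH) (Lpr_gf (K11.f202890 IH) (Lpr_df (f202737 IH) (Lpe (K8.f141779 IH) (Lpr_ct (K4.f26388 IH) (Lpr_gt (K7.f80029 IH) (Lpr_ct (K7.f141757 IH) (Lpe (f162959 IH) (Lpr_cf (f202037 IH) (Lpn (LP (LK LD1_c8 LD2_c49 LD3_c34))))))))))))
theorem f69249 : Led Lsl_dt (LP (LK LD1_c1 LD2_c31 LD3_c6)) = (LP (LK LD1_c3 LD2_c9 LD3_c57)) :=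
  Lre_d IH (LK LD1_c1 LD2_c31 LD3_c6) (LK LD1_c3 LD2_c9 LD3_c57) Lrfl Lrfl
theorem f160834 : Led Lsl_df (LP (LK LD1_c9 LD2_c12 LD3_c56)) = (LP (LK LD1_c6 LD2_c24 LD3_c37)) :=
  Lgr Lrot43 (Lpr_ct (K8.f36522 IH) (Lpr_dt (K8.f26866 IH) (Lpr_ct (K6.f26361 IH) (Lpr_dt (K8.f26770 IH) (Lpr_ct (K4.f36492 IH) (Lpr_dt (K6.f36523 IH) (Lpr_ct (K8.f35870 IH) (Lpr_dt (K8.f36524 IH) (Lpr_ct (K8.f160826 IH) (Lpr_dt (K8.f64576 IH) (Lpr_ct (K8.f64589 IH) (Lpr_dt (K8.f69237 IH) (Lpr_ct (K8.f69248 IH) (Lpr_dt (f69249 IH) (Lpr_ct (K11.f69250 IH) (Lpn (LP (LK LD1_c6 LD2_c24 LD3_c37))))))))))))))))))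
theorem f202900 : Led Lsl_df (LP (LK LD1_c11 LD2_c37 LD3_c13)) = (LP (LK LD1_c6 LD2_c36 LD3_c22)) :=
  Lgr Lrot162 (Lpr_cf (f202037 IH) (Lpe (f202896 IH) (Lpe (K8.f161629 IH) (Lpr_gf (K11.f202890 IH) (Lpe (f160834 IH) (Lpe (K8.f141779 IH) (Lpr_ct (K4.f26388 IH) (Lpr_gt (K7.f80029 IH) (Lpr_ct (K7.f141757 IH) (Lpn (LP (LK LD1_c6 LD2_c36 LD3_c22))))))))))))
theorem f420345 : Led Lsl_gt (LP (LK LD1_c2 LD2_c17 LD3_c45)) = (LP (LK LD1_c4 LD2_c41 LD3_c19)) :=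
  Lgr Lrot49 (Lpe (K8.f59196 IH) (Lpr_gf (K8.f138261 IH) (Lpe (K8.f59551 IH) (Lpr_gt (K11.f138784 IH) (Lpr_dt (K4.f79078 IH) (Lpr_gt (K7.f64539 IH) (Lpe (f202900 IH) (Lpr_cf (f202037 IH) (Lpr_df (f420337 IH) (Lpn (LP (LK LD1_c4 LD2_c41 LD3_c19))))))))))))
theorem f132556 : Led Lsl_at (LP (LK LD1_c8 LD2_c0 LD3_c30)) = (LP (LK LD1_c3 LD2_c59 LD3_c44)) :=
  Lre_a IH (LK LD1_c8 LD2_c0 LD3_c30) (LK LD1_c3 LD2_c59 LD3_c44) Lrfl Lrfl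
theorem f160873 : Led Lsl_ft (LP (LK LD1_c5 LD2_c47 LD3_c42)) = (LP (LK LD1_c8 LD2_c0 LD3_c30)) :=
  Lgr Lrot2 (Lpe (K6.f119838 IH) (Lpr_gt (K8.f160870 IH) (Lpe (f132556 IH) (Lpn (LP (LK LD1_c8 LD2_c0 LD3_c30))))))
theorem f420343 : Led Lsl_ct (LP (LK LD1_c2 LD2_c49 LD3_c49)) = (LP (LK LD1_c4 LD2_c41 LD3_c19)) :=
  Lgr Lrot133 (Lpe (K6.f66272 IH) (Lpr_ft (f160873 IH) (Lpr_at (f132556 IH) (Lpe (K8.f37455 IH) (Lpr_df (K8.f132548 IH) (Lpr_cf (f141762 IH) (Lpe (f162959 IH) (Lpr_cf (f202037 IH) (Lpr_df (f420337 IH) (Lpn (LP (LK LD1_c4 LD2_c41 LD3_c19))))))))))))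
theorem f119843 : Led Lsl_bf (LP (LK LD1_c2 LD2_c58 LD3_c16)) = (LP (LK LD1_c2 LD2_c49 LD3_c49)) :=
  Lgr Lrot24 (Lpr_bt (K5.f119841 IH) (Lpn (LP (LK LD1_c2 LD2_c49 LD3_c49))))
theorem f496293 : Led Lsl_gf (LP (LK LD1_c2 LD2_c51 LD3_c11)) = (LP (LK LD1_c2 LD2_c58 LD3_c16)) :=
  Lgr Lrot124 (Lpr_bf (K31.f496282 IH) (Lpr_ct (K8.f75094 IH) (Lpr_gt (f205709 IH) (Lpe (K11.f104868 IH) (Lpe (f202375 IH) (Lpr_gt (K8.f161025 IH) (Lpr_ct (K8.f26869 IH) (Lpr_gt (f420345 IH) (Lpe (f420343 IH) (Lpe (f119843 IH) (Lpn (LP (LK LD1_c2 LD2_c58 LD3_c16)))))))))))))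
theorem f69245 : Led Lsl_bt (LP (LK LD1_c1 LD2_c31 LD3_c17)) = (LP (LK LD1_c0 LD2_c42 LD3_c7)) :=
  Lre_b IH (LK LD1_c1 LD2_c31 LD3_c17) (LK LD1_c0 LD2_c42 LD3_c7) Lrfl Lrfl
theorem f496301 : Led Lsl_cf (LP (LK LD1_c2 LD2_c51 LD3_c11)) = (LP (LK LD1_c1 LD2_c31 LD3_c17)) :=
  Lgr Lrot58 (Lpr_gf (f496293 IH) (Lpe (K5.f72843 IH) (Lpr_bt (K8.f75078 IH) (Lpe (K8.f161561 IH) (Lpe (K8.f132430 IH) (Lpr_ct (K4.f79087 IH) (Lpe (K4.f36321 IH) (Lpe (K4.f59711 IH) (Lpe (K8.f59715 IH) (Lpe (f69245 IH) (Lpn (LP (LK LD1_c1 LD2_c31 LD3_c17)))))))))))))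
theorem f496303 : Led Lsl_dt (LP (LK LD1_c5 LD2_c50 LD3_c3)) = (LP (LK LD1_c2 LD2_c51 LD3_c11)) :=
  Lre_d IH (LK LD1_c5 LD2_c50 LD3_c3) (LK LD1_c2 LD2_c51 LD3_c11) Lrfl Lrfl
theorem f150293 : Led Lsl_et (LP (LK LD1_c6 LD2_c25 LD3_c15)) = (LP (LK LD1_c12 LD2_c23 LD3_c25)) :=
  Lre_e IH (LK LD1_c6 LD2_c25 LD3_c15) (LK LD1_c12 LD2_c23 LD3_c25) Lrfl Lrfl
theorem f150294 : Led Lsl_et (LP (LK LD1_c20 LD2_c40 LD3_c30)) = (LP (LK LD1_c11 LD2_c40 LD3_c34)) :=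
  Lre_e IH (LK LD1_c20 LD2_c40 LD3_c30) (LK LD1_c11 LD2_c40 LD3_c34) Lrfl Lrfl
theorem f150295 : Led Lsl_ct (LP (LK LD1_c12 LD2_c23 LD3_c25)) = (LP (LK LD1_c20 LD2_c40 LD3_c30)) :=
  Lgr Lrot15 (Lpe (f150293 IH) (Lpr_cf (K8.f150284 IH) (Lpe (f150294 IH) (Lpn (LP (LK LD1_c20 LD2_c40 LD3_c30))))))
theorem f150303 : Led Lsl_cf (LP (LK LD1_c12 LD2_c23 LD3_c25)) = (LP (LK LD1_c20 LD2_c40 LD3_c30)) :=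
  Lgr Lrot11 (Lpr_ct (f150295 IH) (Lpn (LP (LK LD1_c20 LD2_c40 LD3_c30))))
theorem f150305 : Led Lsl_bt (LP (LK LD1_c12 LD2_c23 LD3_c25)) = (LP (LK LD1_c6 LD2_c25 LD3_c17)) :=
  Lre_b IH (LK LD1_c12 LD2_c23 LD3_c25) (LK LD1_c6 LD2_c25 LD3_c17) Lrfl Lrfl
theorem f150308 : Led Lsl_ct (LP (LK LD1_c6 LD2_c25 LD3_c17)) = (LP (LK LD1_c3 LD2_c10 LD3_c18)) :=
  Lre_c IH (LK LD1_c6 LD2_c25 LD3_c17) (LK LD1_c3 LD2_c10 LD3_c18) Lrfl Lrfl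
theorem f150309 : Led Lsl_bt (LP (LK LD1_c11 LD2_c40 LD3_c35)) = (LP (LK LD1_c20 LD2_c40 LD3_c30)) :=
  Lre_b IH (LK LD1_c11 LD2_c40 LD3_c35) (LK LD1_c20 LD2_c40 LD3_c30) Lrfl Lrfl
theorem f150310 : Led Lsl_ct (LP (LK LD1_c5 LD2_c57 LD3_c56)) = (LP (LK LD1_c11 LD2_c40 LD3_c35)) :=
  Lre_c IH (LK LD1_c5 LD2_c57 LD3_c56) (LK LD1_c11 LD2_c40 LD3_c35) Lrfl Lrfl
theorem f150311 : Led Lsl_bt (LP (LK LD1_c3 LD2_c10 LD3_c18)) = (LP (LK LD1_c5 LD2_c57 LD3_c56)) :=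
  Lgr Lrot128 (Lpe (f150308 IH) (Lpe (f150305 IH) (Lpr_cf (f150303 IH) (Lpe (f150309 IH) (Lpe (f150310 IH) (Lpn (LP (LK LD1_c5 LD2_c57 LD3_c56))))))))
theorem f69217 : Led Lsl_et (LP (LK LD1_c1 LD2_c31 LD3_c19)) = (LP (LK LD1_c3 LD2_c10 LD3_c18)) :=
  Lre_e IH (LK LD1_c1 LD2_c31 LD3_c19) (LK LD1_c3 LD2_c10 LD3_c18) Lrfl Lrfl
theorem f150316 : Led Lsl_et (LP (LK LD1_c5 LD2_c57 LD3_c56)) = (LP (LK LD1_c2 LD2_c55 LD3_c19)) :=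
  Lre_e IH (LK LD1_c5 LD2_c57 LD3_c56) (LK LD1_c2 LD2_c55 LD3_c19) Lrfl Lrfl
theorem f150317 : Led Lsl_bf (LP (LK LD1_c1 LD2_c31 LD3_c19)) = (LP (LK LD1_c2 LD2_c55 LD3_c19)) :=
  Lgr Lrot96 (Lpr_et (f69217 IH) (Lpr_bt (f150311 IH) (Lpr_et (f150316 IH) (Lpn (LP (LK LD1_c2 LD2_c55 LD3_c19))))))
theorem f117766 : Led Lsl_bt (LP (LK LD1_c0 LD2_c42 LD3_c7)) = (LP (LK LD1_c1 LD2_c31 LD3_c17)) :=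
  Lre_b IH (LK LD1_c0 LD2_c42 LD3_c7) (LK LD1_c1 LD2_c31 LD3_c17) Lrfl Lrfl
theorem f150335 : Led Lsl_dt (LP (LK LD1_c1 LD2_c31 LD3_c17)) = (LP (LK LD1_c2 LD2_c55 LD3_c19)) :=
  Lgr Lrot79 (Lpe (f117766 IH) (Lpe (K8.f69216 IH) (Lpr_bf (f150317 IH) (Lpn (LP (LK LD1_c2 LD2_c55 LD3_c19))))))
theorem f150337 : Led Lsl_df (LP (LK LD1_c1 LD2_c31 LD3_c17)) = (LP (LK LD1_c2 LD2_c55 LD3_c19)) :=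
  Lgr Lrot38 (Lpr_dt (f150335 IH) (Lpn (LP (LK LD1_c2 LD2_c55 LD3_c19))))
theorem f496305 : Led Lsl_gf (LP (LK LD1_c5 LD2_c50 LD3_c3)) = (LP (LK LD1_c4 LD2_c58 LD3_c32)) :=
  Lgr Lrot143 (Lpr_dt (f496303 IH) (Lpr_cf (f496301 IH) (Lpr_df (f150337 IH) (Lpe (K8.f150359 IH) (Lpe (K8.f72535 IH) (Lpe (K7.f56888 IH) (Lpe (K7.f26553 IH) (Lpe (K7.f150253 IH) (Lpr_dt (K6.f139132 IH) (Lpn (LP (LK LD1_c4 LD2_c58 LD3_c32))))))))))))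
theorem f139271 : Led Lsl_bf (LP (LK LD1_c4 LD2_c58 LD3_c32)) = (LP (LK LD1_c5 LD2_c47 LD3_c45)) :=
  Lgr Lrot24 (Lpr_bt (K8.f139269 IH) (Lpn (LP (LK LD1_c5 LD2_c47 LD3_c45))))
theorem f496310 : Led Lsl_bf (LP (LK LD1_c5 LD2_c50 LD3_c3)) = (LP (LK LD1_c4 LD2_c58 LD3_c56)) :=
  Lgr Lrot34 (Lpr_gf (f496305 IH) (Lpr_bf (f139271 IH) (Lpr_ct (K8.f160879 IH) (Lpr_gf (K8.f161100 IH) (Lpe (K8.f71955 IH) (Lpr_gf (K8.f71857 IH) (Lpe (K2.f71827 IH) (Lpr_ct (K7.f71008 IH) (Lpe (K8.f157059 IH) (Lpr_cf (K8.f138851 IH) (Lpn (LP (LK LD1_c4 LD2_c58 LD3_c56)))))))))))))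
theorem f496288 : Led Lsl_dt (LP (LK LD1_c2 LD2_c51 LD3_c11)) = (LP (LK LD1_c5 LD2_c50 LD3_c3)) :=
  Lre_d IH (LK LD1_c2 LD2_c51 LD3_c11) (LK LD1_c5 LD2_c50 LD3_c3) Lrfl Lrfl
theorem f203098 : Led Lsl_gt (LP (LK LD1_c4 LD2_c48 LD3_c43)) = (LP (LK LD1_c2 LD2_c22 LD3_c19)) :=
  Lgr Lrot5 (Lpr_ft (K28.f203090 IH) (Lpe (K8.f163214 IH) (Lpr_gf (K8.f158492 IH) (Lpn (LP (LK LD1_c2 LD2_c22 LD3_c19))))))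
theorem f104988 : Led Lsl_dt (LP (LK LD1_c2 LD2_c22 LD3_c19)) = (LP (LK LD1_c4 LD2_c48 LD3_c54)) :=
  Lre_d IH (LK LD1_c2 LD2_c22 LD3_c19) (LK LD1_c4 LD2_c48 LD3_c54) Lrfl Lrfl
theorem f72533 : Led Lsl_dt (LP (LK LD1_c2 LD2_c55 LD3_c51)) = (LP (LK LD1_c4 LD2_c59 LD3_c46)) :=
  Lre_d IH (LK LD1_c2 LD2_c55 LD3_c51) (LK LD1_c4 LD2_c59 LD3_c46) Lrfl Lrfl
theorem f26531 : Led Lsl_gt (LP (LK LD1_c2 LD2_c55 LD3_c29)) = (LP (LK LD1_c1 LD2_c23 LD3_c41)) :=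
  Lre_g IH (LK LD1_c2 LD2_c55 LD3_c29) (LK LD1_c1 LD2_c23 LD3_c41) Lrfl Lrfl
theorem f74279 : Led Lsl_dt (LP (LK LD1_c5 LD2_c58 LD3_c14)) = (LP (LK LD1_c2 LD2_c55 LD3_c29)) :=
  Lre_d IH (LK LD1_c5 LD2_c58 LD3_c14) (LK LD1_c2 LD2_c55 LD3_c29) Lrfl Lrfl
theorem f105012 : Led Lsl_gf (LP (LK LD1_c5 LD2_c58 LD3_c14)) = (LP (LK LD1_c4 LD2_c48 LD3_c54)) :=
  Lgr Lrot144 (Lpr_dt (f74279 IH) (Lpr_gt (f26531 IH) (Lpr_dt (K2.f26530 IH) (Lpe (K2.f56977 IH) (Lpe (f72533 IH) (Lpe (K4.f74278 IH) (Lpe (K2.f74262 IH) (Lpr_gf (K4.f105009 IH) (Lpe (K8.f104989 IH) (Lpn (LP (LK LD1_c4 LD2_c48 LD3_c54))))))))))))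
theorem f496297 : Led Lsl_ct (LP (LK LD1_c5 LD2_c50 LD3_c3)) = (LP (LK LD1_c2 LD2_c55 LD3_c29)) :=
  Lgr Lrot7 (Lpe (f496288 IH) (Lpr_gf (f496293 IH) (Lpr_df (K6.f75071 IH) (Lpr_gf (K28.f150444 IH) (Lpr_cf (K28.f58868 IH) (Lpr_gt (f203098 IH) (Lpr_dt (f104988 IH) (Lpe (f105012 IH) (Lpr_dt (f74279 IH) (Lpn (LP (LK LD1_c2 LD2_c55 LD3_c29))))))))))))
theorem f100292 : Led Lsl_bt (LP (LK LD1_c4 LD2_c37 LD3_c10)) = (LP (LK LD1_c2 LD2_c15 LD3_c46)) :=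
  Lre_b IH (LK LD1_c4 LD2_c37 LD3_c10) (LK LD1_c2 LD2_c15 LD3_c46) Lrfl Lrfl
theorem f157187 : Led Lsl_at (LP (LK LD1_c2 LD2_c15 LD3_c46)) = (LP (LK LD1_c4 LD2_c36 LD3_c39)) :=
  Lre_a IH (LK LD1_c2 LD2_c15 LD3_c46) (LK LD1_c4 LD2_c36 LD3_c39) Lrfl Lrfl
theorem f128973 : Led Lsl_af (LP (LK LD1_c1 LD2_c30 LD3_c3)) = (LP (LK LD1_c2 LD2_c19 LD3_c17)) :=
  Lgr Lrot0 (Lpr_at (K5.f128971 IH) (Lpn (LP (LK LD1_c2 LD2_c19 LD3_c17))))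
theorem f141221 : Led Lsl_bt (LP (LK LD1_c6 LD2_c20 LD3_c9)) = (LP (LK LD1_c9 LD2_c9 LD3_c21)) :=
  Lgr Lrot62 (Lpe (K6.f124777 IH) (Lpe (K5.f91411 IH) (Lpr_af (f128973 IH) (Lpr_bf (K6.f141219 IH) (Lpe (K6.f141205 IH) (Lpn (LP (LK LD1_c9 LD2_c9 LD3_c21))))))))
theorem f428449 : Led Lsl_bt (LP (LK LD1_c4 LD2_c36 LD3_c39)) = (LP (LK LD1_c7 LD2_c31 LD3_c20)) :=
  Lgr Lrot95 (Lpe (K6.f141254 IH) (Lpe (f141221 IH) (Lpr_df (f428445 IH) (Lpn (LP (LK LD1_c7 LD2_c31 LD3_c20))))))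
theorem f107543 : Led Lsl_bt (LP (LK LD1_c6 LD2_c20 LD3_c11)) = (LP (LK LD1_c3 LD2_c7 LD3_c40)) :=
  Lre_b IH (LK LD1_c6 LD2_c20 LD3_c11) (LK LD1_c3 LD2_c7 LD3_c40) Lrfl Lrfl
theorem f428525 : Led Lsl_at (LP (LK LD1_c7 LD2_c31 LD3_c20)) = (LP (LK LD1_c6 LD2_c20 LD3_c11)) :=
  Lgr Lrot67 (Lpe (f428449 IH) (Lpe (f157187 IH) (Lpe (f100292 IH) (Lpr_af (f428463 IH) (Lpe (f107543 IH) (Lpn (LP (LK LD1_c6 LD2_c20 LD3_c11))))))))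
theorem f428527 : Led Lsl_gt (LP (LK LD1_c7 LD2_c31 LD3_c22)) = (LP (LK LD1_c6 LD2_c20 LD3_c11)) :=
  Lgr Lrot46 (Lpr_gf (K28.f209195 IH) (Lpr_ft (f428453 IH) (Lpr_at (f428525 IH) (Lpn (LP (LK LD1_c6 LD2_c20 LD3_c11))))))
theorem f91489 : Led Lsl_dt (LP (LK LD1_c6 LD2_c20 LD3_c11)) = (LP (LK LD1_c3 LD2_c7 LD3_c39)) :=
  Lre_d IH (LK LD1_c6 LD2_c20 LD3_c11) (LK LD1_c3 LD2_c7 LD3_c39) Lrfl Lrfl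
theorem f130909 : Led Lsl_dt (LP (LK LD1_c7 LD2_c24 LD3_c59)) = (LP (LK LD1_c3 LD2_c42 LD3_c5)) :=
  Lre_d IH (LK LD1_c7 LD2_c24 LD3_c59) (LK LD1_c3 LD2_c42 LD3_c5) Lrfl Lrfl
theorem f125601 : Led Lsl_gt (LP (LK LD1_c14 LD2_c1 LD3_c40)) = (LP (LK LD1_c7 LD2_c24 LD3_c59)) :=
  Lre_g IH (LK LD1_c14 LD2_c1 LD3_c40) (LK LD1_c7 LD2_c24 LD3_c59) Lrfl Lrfl
theorem f428531 : Led Lsl_dt (LP (LK LD1_c7 LD2_c27 LD3_c19)) = (LP (LK LD1_c14 LD2_c1 LD3_c40)) :=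
  Lgr Lrot57 (Lpe (K28.f209197 IH) (Lpe (K24.f148584 IH) (Lpr_gt (f428527 IH) (Lpr_dt (f91489 IH) (Lpr_gt (K6.f91420 IH) (Lpr_dt (K6.f141402 IH) (Lpe (K30.f104092 IH) (Lpe (f130909 IH) (Lpe (f125601 IH) (Lpn (LP (LK LD1_c14 LD2_c1 LD3_c40))))))))))))
theorem f419199 : Led Lsl_dt (LP (LK LD1_c9 LD2_c24 LD3_c40)) = (LP (LK LD1_c6 LD2_c31 LD3_c46)) :=
  Lgr Lrot42 (Lpr_df (K28.f419195 IH) (Lpn (LP (LK LD1_c6 LD2_c31 LD3_c46))))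
theorem f428540 : Led Lsl_ff (LP (LK LD1_c9 LD2_c24 LD3_c40)) = (LP (LK LD1_c14 LD2_c1 LD3_c40)) :=
  Lgr Lrot19 (Lpr_dt (f419199 IH) (Lpr_ft (K28.f419193 IH) (Lpr_dt (f428531 IH) (Lpn (LP (LK LD1_c14 LD2_c1 LD3_c40))))))
theorem f125600 : Led Lsl_gt (LP (LK LD1_c7 LD2_c24 LD3_c59)) = (LP (LK LD1_c14 LD2_c1 LD3_c39)) :=
  Lre_g IH (LK LD1_c7 LD2_c24 LD3_c59) (LK LD1_c14 LD2_c1 LD3_c39) Lrfl Lrfl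
theorem f428548 : Led Lsl_at (LP (LK LD1_c9 LD2_c24 LD3_c40)) = (LP (LK LD1_c14 LD2_c1 LD3_c39)) :=
  Lgr Lrot26 (Lpr_ff (f428540 IH) (Lpr_gt (f125601 IH) (Lpr_gt (f125600 IH) (Lpn (LP (LK LD1_c14 LD2_c1 LD3_c39))))))
theorem f78577 : Led Lsl_et (LP (LK LD1_c17 LD2_c21 LD3_c52)) = (LP (LK LD1_c9 LD2_c24 LD3_c40)) :=
  Lre_e IH (LK LD1_c17 LD2_c21 LD3_c52) (LK LD1_c9 LD2_c24 LD3_c40) Lrfl Lrfl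
theorem f428558 : Led Lsl_et (LP (LK LD1_c14 LD2_c1 LD3_c39)) = (LP (LK LD1_c23 LD2_c34 LD3_c33)) :=
  Lre_e IH (LK LD1_c14 LD2_c1 LD3_c39) (LK LD1_c23 LD2_c34 LD3_c33) Lrfl Lrfl
theorem f428559 : Led Lsl_af (LP (LK LD1_c17 LD2_c21 LD3_c52)) = (LP (LK LD1_c23 LD2_c34 LD3_c33)) :=
  Lgr Lrot50 (Lpr_et (f78577 IH) (Lpr_at (f428548 IH) (Lpr_et (f428558 IH) (Lpn (LP (LK LD1_c23 LD2_c34 LD3_c33))))))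
theorem f78529 : Led Lsl_ct (LP (LK LD1_c17 LD2_c21 LD3_c52)) = (LP (LK LD1_c9 LD2_c24 LD3_c41)) :=
  Lre_c IH (LK LD1_c17 LD2_c21 LD3_c52) (LK LD1_c9 LD2_c24 LD3_c41) Lrfl Lrfl
theorem f113798 : Led Lsl_at (LP (LK LD1_c9 LD2_c24 LD3_c41)) = (LP (LK LD1_c17 LD2_c21 LD3_c49)) :=
  Lre_a IH (LK LD1_c9 LD2_c24 LD3_c41) (LK LD1_c17 LD2_c21 LD3_c49) Lrfl Lrfl
theorem f428565 : Led Lsl_ct (LP (LK LD1_c17 LD2_c21 LD3_c49)) = (LP (LK LD1_c23 LD2_c34 LD3_c33)) :=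
  Lgr Lrot111 (Lpe (f113798 IH) (Lpe (f78529 IH) (Lpr_af (f428559 IH) (Lpn (LP (LK LD1_c23 LD2_c34 LD3_c33))))))
theorem f428569 : Led Lsl_cf (LP (LK LD1_c17 LD2_c21 LD3_c49)) = (LP (LK LD1_c23 LD2_c34 LD3_c33)) :=
  Lgr Lrot11 (Lpr_ct (f428565 IH) (Lpn (LP (LK LD1_c23 LD2_c34 LD3_c33))))
theorem f138347 : Led Lsl_et (LP (LK LD1_c17 LD2_c21 LD3_c49)) = (LP (LK LD1_c9 LD2_c24 LD3_c37)) :=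
  Lre_e IH (LK LD1_c17 LD2_c21 LD3_c49) (LK LD1_c9 LD2_c24 LD3_c37) Lrfl Lrfl
theorem f428572 : Led Lsl_ct (LP (LK LD1_c9 LD2_c24 LD3_c37)) = (LP (LK LD1_c14 LD2_c1 LD3_c39)) :=
  Lgr Lrot15 (Lpe (f138347 IH) (Lpr_cf (f428569 IH) (Lpe (f428558 IH) (Lpn (LP (LK LD1_c14 LD2_c1 LD3_c39))))))
theorem f428574 : Led Lsl_ff (LP (LK LD1_c12 LD2_c31 LD3_c26)) = (LP (LK LD1_c14 LD2_c1 LD3_c39)) :=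
  Lgr Lrot23 (Lpr_ct (K8.f157270 IH) (Lpr_ft (K8.f138348 IH) (Lpr_ct (f428572 IH) (Lpn (LP (LK LD1_c14 LD2_c1 LD3_c39))))))
theorem f428576 : Led Lsl_at (LP (LK LD1_c12 LD2_c31 LD3_c26)) = (LP (LK LD1_c14 LD2_c1 LD3_c40)) :=
  Lgr Lrot66 (Lpr_ff (f428574 IH) (Lpe (f428548 IH) (Lpr_ff (f428540 IH) (Lpn (LP (LK LD1_c14 LD2_c1 LD3_c40))))))
theorem f159226 : Led Lsl_at (LP (LK LD1_c14 LD2_c1 LD3_c38)) = (LP (LK LD1_c7 LD2_c24 LD3_c59)) :=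
  Lre_a IH (LK LD1_c14 LD2_c1 LD3_c38) (LK LD1_c7 LD2_c24 LD3_c59) Lrfl Lrfl
theorem f159247 : Led Lsl_gf (LP (LK LD1_c14 LD2_c1 LD3_c40)) = (LP (LK LD1_c12 LD2_c31 LD3_c44)) :=
  Lgr Lrot47 (Lpr_gt (f125601 IH) (Lpe (f159226 IH) (Lpr_ff (K8.f159237 IH) (Lpn (LP (LK LD1_c12 LD2_c31 LD3_c44))))))
theorem f428584 : Led Lsl_gf (LP (LK LD1_c12 LD2_c31 LD3_c44)) = (LP (LK LD1_c14 LD2_c1 LD3_c39)) :=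
  Lgr Lrot47 (Lpe (f159247 IH) (Lpe (f428576 IH) (Lpr_ff (f428574 IH) (Lpn (LP (LK LD1_c14 LD2_c1 LD3_c39))))))
theorem f66521 : Led Lsl_at (LP (LK LD1_c3 LD2_c19 LD3_c1)) = (LP (LK LD1_c6 LD2_c42 LD3_c4)) :=
  Lre_a IH (LK LD1_c3 LD2_c19 LD3_c1) (LK LD1_c6 LD2_c42 LD3_c4) Lrfl Lrfl
theorem f66522 : Led Lsl_cf (LP (LK LD1_c7 LD2_c30 LD3_c57)) = (LP (LK LD1_c6 LD2_c42 LD3_c4)) :=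
  Lgr Lrot1 (Lpr_at (K7.f66520 IH) (Lpr_ct (K7.f66503 IH) (Lpr_at (f66521 IH) (Lpn (LP (LK LD1_c6 LD2_c42 LD3_c4))))))
theorem f66529 : Led Lsl_ct (LP (LK LD1_c7 LD2_c30 LD3_c57)) = (LP (LK LD1_c6 LD2_c42 LD3_c4)) :=
  Lgr Lrot59 (Lpr_cf (f66522 IH) (Lpn (LP (LK LD1_c6 LD2_c42 LD3_c4))))
theorem f150607 : Led Lsl_ft (LP (LK LD1_c6 LD2_c42 LD3_c4)) = (LP (LK LD1_c7 LD2_c24 LD3_c58)) :=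
  Lgr Lrot4 (Lpe (f66529 IH) (Lpr_ff (K7.f150603 IH) (Lpr_cf (K7.f130906 IH) (Lpn (LP (LK LD1_c7 LD2_c24 LD3_c58))))))
theorem f159254 : Led Lsl_df (LP (LK LD1_c6 LD2_c42 LD3_c4)) = (LP (LK LD1_c12 LD2_c31 LD3_c44)) :=
  Lgr Lrot78 (Lpr_ft (f150607 IH) (Lpr_dt (K8.f130952 IH) (Lpr_ft (K8.f159245 IH) (Lpn (LP (LK LD1_c12 LD2_c31 LD3_c44))))))
theorem f157752 : Led Lsl_bt (LP (LK LD1_c7 LD2_c25 LD3_c41)) = (LP (LK LD1_c6 LD2_c42 LD3_c4)) :=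
  Lgr Lrot35 (Lpr_ff (K8.f157740 IH) (Lpr_bf (K8.f150667 IH) (Lpe (f150607 IH) (Lpn (LP (LK LD1_c6 LD2_c42 LD3_c4))))))
theorem f14758 : Led Lsl_at (LP (LK LD1_c3 LD2_c47 LD3_c41)) = (LP (LK LD1_c7 LD2_c36 LD3_c4)) :=
  Lre_a IH (LK LD1_c3 LD2_c47 LD3_c41) (LK LD1_c7 LD2_c36 LD3_c4) Lrfl Lrfl
theorem f40669 : Led Lsl_bt (LP (LK LD1_c4 LD2_c38 LD3_c9)) = (LP (LK LD1_c3 LD2_c47 LD3_c41)) :=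
  Lre_b IH (LK LD1_c4 LD2_c38 LD3_c9) (LK LD1_c3 LD2_c47 LD3_c41) Lrfl Lrfl
theorem f139548 : Led Lsl_at (LP (LK LD1_c7 LD2_c26 LD3_c42)) = (LP (LK LD1_c4 LD2_c38 LD3_c9)) :=
  Lgr Lrot67 (Lpr_bf (K7.f139546 IH) (Lpr_af (K6.f40342 IH) (Lpr_bf (f14548 IH) (Lpe (f14758 IH) (Lpe (f40669 IH) (Lpn (LP (LK LD1_c4 LD2_c38 LD3_c9))))))))
theorem f139571 : Led Lsl_ff (LP (LK LD1_c7 LD2_c26 LD3_c42)) = (LP (LK LD1_c4 LD2_c26 LD3_c19)) :=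
  Lgr Lrot3 (Lpr_ft (K7.f139557 IH) (Lpn (LP (LK LD1_c4 LD2_c26 LD3_c19))))
theorem f141396 : Led Lsl_gf (LP (LK LD1_c7 LD2_c26 LD3_c43)) = (LP (LK LD1_c4 LD2_c26 LD3_c19)) :=
  Lgr Lrot47 (Lpr_gt (K6.f141393 IH) (Lpe (f139548 IH) (Lpr_ff (f139571 IH) (Lpn (LP (LK LD1_c4 LD2_c26 LD3_c19))))))
theorem f157791 : Led Lsl_gf (LP (LK LD1_c6 LD2_c42 LD3_c4)) = (LP (LK LD1_c7 LD2_c24 LD3_c56)) :=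
  Lgr Lrot124 (Lpe (f157752 IH) (Lpr_ct (K8.f157754 IH) (Lpe (K8.f139742 IH) (Lpr_cf (K6.f139530 IH) (Lpr_bt (K6.f15586 IH) (Lpe (f141396 IH) (Lpe (K6.f141315 IH) (Lpr_gt (K7.f100290 IH) (Lpe (K7.f149884 IH) (Lpr_bt (K7.f149896 IH) (Lpn (LP (LK LD1_c7 LD2_c24 LD3_c56)))))))))))))
theorem f150778 : Led Lsl_ff (LP (LK LD1_c6 LD2_c42 LD3_c2)) = (LP (LK LD1_c7 LD2_c24 LD3_c56)) :=
  Lgr Lrot3 (Lpr_ft (K30.f150774 IH) (Lpn (LP (LK LD1_c7 LD2_c24 LD3_c56))))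
theorem f150765 : Led Lsl_at (LP (LK LD1_c6 LD2_c42 LD3_c2)) = (LP (LK LD1_c7 LD2_c24 LD3_c57)) :=
  Lgr Lrot100 (Lpr_af (K7.f150763 IH) (Lpn (LP (LK LD1_c7 LD2_c24 LD3_c57))))
theorem f157793 : Led Lsl_gt (LP (LK LD1_c6 LD2_c42 LD3_c4)) = (LP (LK LD1_c7 LD2_c24 LD3_c57)) :=
  Lgr Lrot46 (Lpr_gf (f157791 IH) (Lpe (f150778 IH) (Lpr_at (f150765 IH) (Lpn (LP (LK LD1_c7 LD2_c24 LD3_c57))))))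
theorem f99065 : Led Lsl_dt (LP (LK LD1_c2 LD2_c20 LD3_c37)) = (LP (LK LD1_c4 LD2_c44 LD3_c59)) :=
  Lre_d IH (LK LD1_c2 LD2_c20 LD3_c37) (LK LD1_c4 LD2_c44 LD3_c59) Lrfl Lrfl
theorem f98948 : Led Lsl_gt (LP (LK LD1_c4 LD2_c44 LD3_c57)) = (LP (LK LD1_c2 LD2_c20 LD3_c37)) :=
  Lre_g IH (LK LD1_c4 LD2_c44 LD3_c57) (LK LD1_c2 LD2_c20 LD3_c37) Lrfl Lrfl
theorem f104557 : Led Lsl_dt (LP (LK LD1_c9 LD2_c22 LD3_c34)) = (LP (LK LD1_c4 LD2_c44 LD3_c57)) :=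
  Lre_d IH (LK LD1_c9 LD2_c22 LD3_c34) (LK LD1_c4 LD2_c44 LD3_c57) Lrfl Lrfl
theorem f428586 : Led Lsl_gf (LP (LK LD1_c9 LD2_c22 LD3_c34)) = (LP (LK LD1_c9 LD2_c24 LD3_c37)) :=
  Lgr Lrot144 (Lpr_dt (f104557 IH) (Lpr_gt (f98948 IH) (Lpr_dt (f99065 IH) (Lpe (K7.f99001 IH) (Lpr_df (K11.f150761 IH) (Lpe (f157793 IH) (Lpr_df (f159254 IH) (Lpr_gf (f428584 IH) (Lpe (f428572 IH) (Lpn (LP (LK LD1_c9 LD2_c24 LD3_c37))))))))))))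
theorem f75131 : Led Lsl_bt (LP (LK LD1_c2 LD2_c56 LD3_c36)) = (LP (LK LD1_c6 LD2_c0 LD3_c41)) :=
  Lre_b IH (LK LD1_c2 LD2_c56 LD3_c36) (LK LD1_c6 LD2_c0 LD3_c41) Lrfl Lrfl
theorem f75372 : Led Lsl_gt (LP (LK LD1_c9 LD2_c49 LD3_c14)) = (LP (LK LD1_c4 LD2_c59 LD3_c25)) :=
  Lre_g IH (LK LD1_c9 LD2_c49 LD3_c14) (LK LD1_c4 LD2_c59 LD3_c25) Lrfl Lrfl
theorem f158494 : Led Lsl_cf (LP (LK LD1_c9 LD2_c49 LD3_c14)) = (LP (LK LD1_c5 LD2_c58 LD3_c14)) :=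
  Lgr Lrot169 (Lpr_gt (f75372 IH) (Lpe (K11.f75365 IH) (Lpe (K2.f72724 IH) (Lpe (K4.f26425 IH) (Lpe (K4.f69014 IH) (Lpe (K8.f158480 IH) (Lpr_gf (K8.f158492 IH) (Lpe (K4.f104982 IH) (Lpe (f105012 IH) (Lpn (LP (LK LD1_c5 LD2_c58 LD3_c14))))))))))))
theorem f428590 : Led Lsl_bf (LP (LK LD1_c9 LD2_c22 LD3_c34)) = (LP (LK LD1_c5 LD2_c58 LD3_c14)) :=
  Lgr Lrot34 (Lpr_gf (f428586 IH) (Lpr_bf (K8.f138320 IH) (Lpe (K8.f138125 IH) (Lpr_gf (K8.f138138 IH) (Lpe (K8.f138140 IH) (Lpe (K8.f158583 IH) (Lpe (f75131 IH) (Lpr_ct (K8.f75342 IH) (Lpe (f75372 IH) (Lpr_cf (f158494 IH) (Lpn (LP (LK LD1_c5 LD2_c58 LD3_c14)))))))))))))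
theorem f72616 : Led Lsl_dt (LP (LK LD1_c2 LD2_c55 LD3_c29)) = (LP (LK LD1_c5 LD2_c58 LD3_c14)) :=
  Lre_d IH (LK LD1_c2 LD2_c55 LD3_c29) (LK LD1_c5 LD2_c58 LD3_c14) Lrfl Lrfl
theorem f428597 : Led Lsl_bt (LP (LK LD1_c4 LD2_c44 LD3_c57)) = (LP (LK LD1_c2 LD2_c55 LD3_c29)) :=
  Lgr Lrot95 (Lpe (f104557 IH) (Lpr_bf (f428590 IH) (Lpe (f72616 IH) (Lpn (LP (LK LD1_c2 LD2_c55 LD3_c29))))))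
theorem f428603 : Led Lsl_bf (LP (LK LD1_c4 LD2_c44 LD3_c57)) = (LP (LK LD1_c2 LD2_c55 LD3_c29)) :=
  Lgr Lrot24 (Lpr_bt (f428597 IH) (Lpn (LP (LK LD1_c2 LD2_c55 LD3_c29))))
theorem f138850 : Led Lsl_bt (LP (LK LD1_c9 LD2_c8 LD3_c38)) = (LP (LK LD1_c4 LD2_c36 LD3_c14)) :=
  Lre_b IH (LK LD1_c9 LD2_c8 LD3_c38) (LK LD1_c4 LD2_c36 LD3_c14) Lrfl Lrfl
theorem f496315 : Led Lsl_ct (LP (LK LD1_c4 LD2_c44 LD3_c57)) = (LP (LK LD1_c9 LD2_c8 LD3_c38)) :=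
  Lgr Lrot83 (Lpr_bf (f428603 IH) (Lpe (f496297 IH) (Lpr_bf (f496310 IH) (Lpe (K8.f138844 IH) (Lpe (f138850 IH) (Lpn (LP (LK LD1_c9 LD2_c8 LD3_c38))))))))
theorem f104559 : Led Lsl_et (LP (LK LD1_c9 LD2_c22 LD3_c35)) = (LP (LK LD1_c4 LD2_c44 LD3_c57)) :=
  Lre_e IH (LK LD1_c9 LD2_c22 LD3_c35) (LK LD1_c4 LD2_c44 LD3_c57) Lrfl Lrfl
theorem f157074 : Led Lsl_et (LP (LK LD1_c9 LD2_c8 LD3_c38)) = (LP (LK LD1_c17 LD2_c1 LD3_c23)) :=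
  Lre_e IH (LK LD1_c9 LD2_c8 LD3_c38) (LK LD1_c17 LD2_c1 LD3_c23) Lrfl Lrfl
theorem f496339 : Led Lsl_cf (LP (LK LD1_c9 LD2_c22 LD3_c35)) = (LP (LK LD1_c17 LD2_c1 LD3_c23)) :=
  Lgr Lrot39 (Lpr_et (f104559 IH) (Lpr_ct (f496315 IH) (Lpr_et (f157074 IH) (Lpn (LP (LK LD1_c17 LD2_c1 LD3_c23))))))
theorem f496343 : Led Lsl_ct (LP (LK LD1_c9 LD2_c22 LD3_c35)) = (LP (LK LD1_c17 LD2_c1 LD3_c23)) :=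
  Lgr Lrot59 (Lpr_cf (f496339 IH) (Lpn (LP (LK LD1_c17 LD2_c1 LD3_c23))))
theorem f105149 : Led Lsl_et (LP (LK LD1_c2 LD2_c55 LD3_c29)) = (LP (LK LD1_c5 LD2_c58 LD3_c15)) :=
  Lre_e IH (LK LD1_c2 LD2_c55 LD3_c29) (LK LD1_c5 LD2_c58 LD3_c15) Lrfl Lrfl
theorem f428605 : Led Lsl_bf (LP (LK LD1_c9 LD2_c22 LD3_c35)) = (LP (LK LD1_c5 LD2_c58 LD3_c15)) :=
  Lgr Lrot96 (Lpr_et (f104559 IH) (Lpr_bt (f428597 IH) (Lpr_et (f105149 IH) (Lpn (LP (LK LD1_c5 LD2_c58 LD3_c15))))))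
theorem f138861 : Led Lsl_bt (LP (LK LD1_c17 LD2_c1 LD3_c23)) = (LP (LK LD1_c9 LD2_c8 LD3_c39)) :=
  Lre_b IH (LK LD1_c17 LD2_c1 LD3_c23) (LK LD1_c9 LD2_c8 LD3_c39) Lrfl Lrfl
theorem f138853 : Led Lsl_et (LP (LK LD1_c9 LD2_c8 LD3_c39)) = (LP (LK LD1_c4 LD2_c36 LD3_c14)) :=
  Lre_e IH (LK LD1_c9 LD2_c8 LD3_c39) (LK LD1_c4 LD2_c36 LD3_c14) Lrfl Lrfl
theorem f138848 : Led Lsl_et (LP (LK LD1_c4 LD2_c58 LD3_c56)) = (LP (LK LD1_c9 LD2_c48 LD3_c12)) :=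
  Lre_e IH (LK LD1_c4 LD2_c58 LD3_c56) (LK LD1_c9 LD2_c48 LD3_c12) Lrfl Lrfl
theorem f138854 : Led Lsl_cf (LP (LK LD1_c9 LD2_c8 LD3_c39)) = (LP (LK LD1_c9 LD2_c48 LD3_c12)) :=
  Lgr Lrot39 (Lpr_et (f138853 IH) (Lpr_ct (K8.f138844 IH) (Lpr_et (f138848 IH) (Lpn (LP (LK LD1_c9 LD2_c48 LD3_c12))))))
theorem f138858 : Led Lsl_ct (LP (LK LD1_c9 LD2_c8 LD3_c39)) = (LP (LK LD1_c9 LD2_c48 LD3_c12)) :=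
  Lgr Lrot59 (Lpr_cf (f138854 IH) (Lpn (LP (LK LD1_c9 LD2_c48 LD3_c12))))
theorem f496304 : Led Lsl_et (LP (LK LD1_c5 LD2_c50 LD3_c3)) = (LP (LK LD1_c11 LD2_c28 LD3_c30)) :=
  Lre_e IH (LK LD1_c5 LD2_c50 LD3_c3) (LK LD1_c11 LD2_c28 LD3_c30) Lrfl Lrfl
theorem f138843 : Led Lsl_et (LP (LK LD1_c9 LD2_c48 LD3_c12)) = (LP (LK LD1_c4 LD2_c58 LD3_c56)) :=
  Lre_e IH (LK LD1_c9 LD2_c48 LD3_c12) (LK LD1_c4 LD2_c58 LD3_c56) Lrfl Lrfl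
theorem f496317 : Led Lsl_bt (LP (LK LD1_c11 LD2_c28 LD3_c30)) = (LP (LK LD1_c9 LD2_c48 LD3_c12)) :=
  Lgr Lrot119 (Lpe (f496304 IH) (Lpr_bf (f496310 IH) (Lpe (f138843 IH) (Lpn (LP (LK LD1_c9 LD2_c48 LD3_c12))))))
theorem f496321 : Led Lsl_bf (LP (LK LD1_c11 LD2_c28 LD3_c30)) = (LP (LK LD1_c9 LD2_c48 LD3_c12)) :=
  Lgr Lrot24 (Lpr_bt (f496317 IH) (Lpn (LP (LK LD1_c9 LD2_c48 LD3_c12))))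
theorem f496345 : Led Lsl_cf (LP (LK LD1_c5 LD2_c58 LD3_c15)) = (LP (LK LD1_c11 LD2_c28 LD3_c30)) :=
  Lgr Lrot97 (Lpe (f428605 IH) (Lpr_ct (f496343 IH) (Lpr_bt (f138861 IH) (Lpr_ct (f138858 IH) (Lpe (f496321 IH) (Lpn (LP (LK LD1_c11 LD2_c28 LD3_c30))))))))
theorem f496319 : Led Lsl_at (LP (LK LD1_c5 LD2_c50 LD3_c5)) = (LP (LK LD1_c11 LD2_c28 LD3_c30)) :=
  Lre_a IH (LK LD1_c5 LD2_c50 LD3_c5) (LK LD1_c11 LD2_c28 LD3_c30) Lrfl Lrfl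
theorem f496347 : Led Lsl_ct (LP (LK LD1_c11 LD2_c28 LD3_c32)) = (LP (LK LD1_c5 LD2_c50 LD3_c5)) :=
  Lre_c IH (LK LD1_c11 LD2_c28 LD3_c32) (LK LD1_c5 LD2_c50 LD3_c5) Lrfl Lrfl
theorem f496348 : Led Lsl_at (LP (LK LD1_c5 LD2_c58 LD3_c15)) = (LP (LK LD1_c11 LD2_c28 LD3_c32)) :=
  Lgr Lrot107 (Lpr_cf (f496345 IH) (Lpe (f496319 IH) (Lpe (f496347 IH) (Lpn (LP (LK LD1_c11 LD2_c28 LD3_c32))))))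
theorem f496367 : Led Lsl_et (LP (LK LD1_c11 LD2_c28 LD3_c32)) = (LP (LK LD1_c5 LD2_c50 LD3_c4)) :=
  Lre_e IH (LK LD1_c11 LD2_c28 LD3_c32) (LK LD1_c5 LD2_c50 LD3_c4) Lrfl Lrfl
theorem f496368 : Led Lsl_af (LP (LK LD1_c2 LD2_c55 LD3_c29)) = (LP (LK LD1_c5 LD2_c50 LD3_c4)) :=
  Lgr Lrot50 (Lpr_et (f105149 IH) (Lpr_at (f496348 IH) (Lpr_et (f496367 IH) (Lpn (LP (LK LD1_c5 LD2_c50 LD3_c4))))))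
theorem f72615 : Led Lsl_gt (LP (LK LD1_c1 LD2_c23 LD3_c54)) = (LP (LK LD1_c2 LD2_c55 LD3_c29)) :=
  Lre_g IH (LK LD1_c1 LD2_c23 LD3_c54) (LK LD1_c2 LD2_c55 LD3_c29) Lrfl Lrfl
theorem f496375 : Led Lsl_ft (LP (LK LD1_c2 LD2_c55 LD3_c28)) = (LP (LK LD1_c5 LD2_c50 LD3_c4)) :=
  Lgr Lrot2 (Lpr_gt (K7.f72553 IH) (Lpr_gt (f72615 IH) (Lpr_af (f496368 IH) (Lpn (LP (LK LD1_c5 LD2_c50 LD3_c4))))))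
theorem f496384 : Led Lsl_ff (LP (LK LD1_c2 LD2_c55 LD3_c28)) = (LP (LK LD1_c5 LD2_c50 LD3_c4)) :=
  Lgr Lrot3 (Lpr_ft (f496375 IH) (Lpn (LP (LK LD1_c5 LD2_c50 LD3_c4))))
theorem f74718 : Led Lsl_bt (LP (LK LD1_c2 LD2_c55 LD3_c28)) = (LP (LK LD1_c5 LD2_c58 LD3_c11)) :=
  Lre_b IH (LK LD1_c2 LD2_c55 LD3_c28) (LK LD1_c5 LD2_c58 LD3_c11) Lrfl Lrfl
theorem f496373 : Led Lsl_bt (LP (LK LD1_c11 LD2_c28 LD3_c31)) = (LP (LK LD1_c5 LD2_c50 LD3_c4)) :=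
  Lre_b IH (LK LD1_c11 LD2_c28 LD3_c31) (LK LD1_c5 LD2_c50 LD3_c4) Lrfl Lrfl
theorem f496386 : Led Lsl_ft (LP (LK LD1_c5 LD2_c58 LD3_c11)) = (LP (LK LD1_c11 LD2_c28 LD3_c31)) :=
  Lgr Lrot75 (Lpe (f74718 IH) (Lpr_ff (f496384 IH) (Lpe (f496373 IH) (Lpn (LP (LK LD1_c11 LD2_c28 LD3_c31))))))
theorem f74762 : Led Lsl_ct (LP (LK LD1_c1 LD2_c22 LD3_c17)) = (LP (LK LD1_c2 LD2_c52 LD3_c24)) :=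
  Lre_c IH (LK LD1_c1 LD2_c22 LD3_c17) (LK LD1_c2 LD2_c52 LD3_c24) Lrfl Lrfl
theorem f22822 : Led Lsl_bt (LP (LK LD1_c2 LD2_c52 LD3_c24)) = (LP (LK LD1_c5 LD2_c52 LD3_c12)) :=
  Lre_b IH (LK LD1_c2 LD2_c52 LD3_c24) (LK LD1_c5 LD2_c52 LD3_c12) Lrfl Lrfl
theorem f72648 : Led Lsl_bt (LP (LK LD1_c5 LD2_c58 LD3_c11)) = (LP (LK LD1_c2 LD2_c55 LD3_c28)) :=
  Lre_b IH (LK LD1_c5 LD2_c58 LD3_c11) (LK LD1_c2 LD2_c55 LD3_c28) Lrfl Lrfl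
theorem f74763 : Led Lsl_ct (LP (LK LD1_c5 LD2_c52 LD3_c12)) = (LP (LK LD1_c5 LD2_c58 LD3_c11)) :=
  Lgr Lrot83 (Lpe (f22822 IH) (Lpe (f74762 IH) (Lpe (K7.f22752 IH) (Lpr_cf (K7.f74721 IH) (Lpe (f72648 IH) (Lpn (LP (LK LD1_c5 LD2_c58 LD3_c11))))))))
theorem f496388 : Led Lsl_ct (LP (LK LD1_c11 LD2_c28 LD3_c31)) = (LP (LK LD1_c5 LD2_c50 LD3_c6)) :=
  Lre_c IH (LK LD1_c11 LD2_c28 LD3_c31) (LK LD1_c5 LD2_c50 LD3_c6) Lrfl Lrfl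
theorem f496389 : Led Lsl_ff (LP (LK LD1_c5 LD2_c52 LD3_c12)) = (LP (LK LD1_c5 LD2_c50 LD3_c6)) :=
  Lgr Lrot23 (Lpr_ct (f74763 IH) (Lpr_ft (f496386 IH) (Lpr_ct (f496388 IH) (Lpn (LP (LK LD1_c5 LD2_c50 LD3_c6))))))
theorem f496398 : Led Lsl_ft (LP (LK LD1_c5 LD2_c52 LD3_c12)) = (LP (LK LD1_c5 LD2_c50 LD3_c6)) :=
  Lgr Lrot48 (Lpr_ff (f496389 IH) (Lpn (LP (LK LD1_c5 LD2_c50 LD3_c6))))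
theorem f496405 : Led Lsl_bt (LP (LK LD1_c5 LD2_c50 LD3_c6)) = (LP (LK LD1_c2 LD2_c51 LD3_c13)) :=
  Lre_b IH (LK LD1_c5 LD2_c50 LD3_c6) (LK LD1_c2 LD2_c51 LD3_c13) Lrfl Lrfl
theorem f496406 : Led Lsl_ff (LP (LK LD1_c2 LD2_c52 LD3_c24)) = (LP (LK LD1_c2 LD2_c51 LD3_c13)) :=
  Lgr Lrot25 (Lpr_bt (f22822 IH) (Lpr_ft (f496398 IH) (Lpr_bt (f496405 IH) (Lpn (LP (LK LD1_c2 LD2_c51 LD3_c13))))))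
theorem f22821 : Led Lsl_ct (LP (LK LD1_c2 LD2_c52 LD3_c24)) = (LP (LK LD1_c1 LD2_c22 LD3_c17)) :=
  Lre_c IH (LK LD1_c2 LD2_c52 LD3_c24) (LK LD1_c1 LD2_c22 LD3_c17) Lrfl Lrfl
theorem f448944 : Led Lsl_ct (LP (LK LD1_c1 LD2_c21 LD3_c41)) = (LP (LK LD1_c2 LD2_c51 LD3_c13)) :=
  Lre_c IH (LK LD1_c1 LD2_c21 LD3_c41) (LK LD1_c2 LD2_c51 LD3_c13) Lrfl Lrfl
theorem f496410 : Led Lsl_ft (LP (LK LD1_c1 LD2_c22 LD3_c17)) = (LP (LK LD1_c1 LD2_c21 LD3_c41)) :=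
  Lgr Lrot4 (Lpe (f22821 IH) (Lpr_ff (f496406 IH) (Lpe (f448944 IH) (Lpn (LP (LK LD1_c1 LD2_c21 LD3_c41))))))
theorem f496421 : Led Lsl_af (LP (LK LD1_c1 LD2_c22 LD3_c16)) = (LP (LK LD1_c1 LD2_c21 LD3_c41)) :=
  Lgr Lrot31 (Lpe (K11.f22495 IH) (Lpe (K7.f22751 IH) (Lpr_ft (f496410 IH) (Lpn (LP (LK LD1_c1 LD2_c21 LD3_c41))))))
theorem f496423 : Led Lsl_at (LP (LK LD1_c1 LD2_c22 LD3_c16)) = (LP (LK LD1_c1 LD2_c21 LD3_c41)) :=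
  Lgr Lrot100 (Lpr_af (f496421 IH) (Lpn (LP (LK LD1_c1 LD2_c21 LD3_c41))))
theorem f206498 : Led Lsl_et (LP (LK LD1_c2 LD2_c52 LD3_c22)) = (LP (LK LD1_c1 LD2_c22 LD3_c16)) :=
  Lre_e IH (LK LD1_c2 LD2_c52 LD3_c22) (LK LD1_c1 LD2_c22 LD3_c16) Lrfl Lrfl
theorem f496474 : Led Lsl_at (LP (LK LD1_c2 LD2_c51 LD3_c14)) = (LP (LK LD1_c2 LD2_c52 LD3_c22)) :=
  Lgr Lrot80 (Lpe (f448947 IH) (Lpe (f496423 IH) (Lpe (f206498 IH) (Lpn (LP (LK LD1_c2 LD2_c52 LD3_c22))))))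
theorem f496462 : Led Lsl_ft (LP (LK LD1_c5 LD2_c50 LD3_c9)) = (LP (LK LD1_c2 LD2_c51 LD3_c14)) :=
  Lre_f IH (LK LD1_c5 LD2_c50 LD3_c9) (LK LD1_c2 LD2_c51 LD3_c14) Lrfl Lrfl
theorem f496453 : Led Lsl_ft (LP (LK LD1_c2 LD2_c52 LD3_c22)) = (LP (LK LD1_c5 LD2_c52 LD3_c10)) :=
  Lre_f IH (LK LD1_c2 LD2_c52 LD3_c22) (LK LD1_c5 LD2_c52 LD3_c10) Lrfl Lrfl
theorem f496482 : Led Lsl_af (LP (LK LD1_c5 LD2_c50 LD3_c9)) = (LP (LK LD1_c5 LD2_c52 LD3_c10)) :=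
  Lgr Lrot45 (Lpr_ft (f496462 IH) (Lpr_at (f496474 IH) (Lpr_ft (f496453 IH) (Lpn (LP (LK LD1_c5 LD2_c52 LD3_c10))))))
theorem f496333 : Led Lsl_bt (LP (LK LD1_c5 LD2_c50 LD3_c9)) = (LP (LK LD1_c11 LD2_c28 LD3_c35)) :=
  Lre_b IH (LK LD1_c5 LD2_c50 LD3_c9) (LK LD1_c11 LD2_c28 LD3_c35) Lrfl Lrfl
theorem f496332 : Led Lsl_at (LP (LK LD1_c11 LD2_c28 LD3_c35)) = (LP (LK LD1_c20 LD2_c25 LD3_c58)) :=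
  Lre_a IH (LK LD1_c11 LD2_c28 LD3_c35) (LK LD1_c20 LD2_c25 LD3_c58) Lrfl Lrfl
theorem f496323 : Led Lsl_ft (LP (LK LD1_c20 LD2_c25 LD3_c58)) = (LP (LK LD1_c11 LD2_c28 LD3_c30)) :=
  Lre_f IH (LK LD1_c20 LD2_c25 LD3_c58) (LK LD1_c11 LD2_c28 LD3_c30) Lrfl Lrfl
theorem f138863 : Led Lsl_ft (LP (LK LD1_c9 LD2_c48 LD3_c12)) = (LP (LK LD1_c17 LD2_c58 LD3_c27)) :=
  Lre_f IH (LK LD1_c9 LD2_c48 LD3_c12) (LK LD1_c17 LD2_c58 LD3_c27) Lrfl Lrfl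
theorem f496324 : Led Lsl_bf (LP (LK LD1_c20 LD2_c25 LD3_c58)) = (LP (LK LD1_c17 LD2_c58 LD3_c27)) :=
  Lgr Lrot61 (Lpr_ft (f496323 IH) (Lpr_bt (f496317 IH) (Lpr_ft (f138863 IH) (Lpn (LP (LK LD1_c17 LD2_c58 LD3_c27))))))
theorem f496328 : Led Lsl_bt (LP (LK LD1_c20 LD2_c25 LD3_c58)) = (LP (LK LD1_c17 LD2_c58 LD3_c27)) :=
  Lgr Lrot127 (Lpr_bf (f496324 IH) (Lpn (LP (LK LD1_c17 LD2_c58 LD3_c27))))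
theorem f22794 : Led Lsl_bt (LP (LK LD1_c11 LD2_c31 LD3_c10)) = (LP (LK LD1_c5 LD2_c52 LD3_c10)) :=
  Lre_b IH (LK LD1_c11 LD2_c31 LD3_c10) (LK LD1_c5 LD2_c52 LD3_c10) Lrfl Lrfl
theorem f496486 : Led Lsl_at (LP (LK LD1_c17 LD2_c58 LD3_c27)) = (LP (LK LD1_c11 LD2_c31 LD3_c10)) :=
  Lgr Lrot67 (Lpe (f496328 IH) (Lpe (f496332 IH) (Lpe (f496333 IH) (Lpr_af (f496482 IH) (Lpe (f22794 IH) (Lpn (LP (LK LD1_c11 LD2_c31 LD3_c10))))))))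
theorem f496504 : Led Lsl_af (LP (LK LD1_c17 LD2_c58 LD3_c27)) = (LP (LK LD1_c11 LD2_c31 LD3_c10)) :=
  Lgr Lrot0 (Lpr_at (f496486 IH) (Lpn (LP (LK LD1_c11 LD2_c31 LD3_c10))))
theorem f138860 : Led Lsl_ft (LP (LK LD1_c17 LD2_c58 LD3_c27)) = (LP (LK LD1_c9 LD2_c48 LD3_c12)) :=
  Lre_f IH (LK LD1_c17 LD2_c58 LD3_c27) (LK LD1_c9 LD2_c48 LD3_c12) Lrfl Lrfl
theorem f22783 : Led Lsl_ft (LP (LK LD1_c5 LD2_c52 LD3_c6)) = (LP (LK LD1_c11 LD2_c31 LD3_c10)) :=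
  Lre_f IH (LK LD1_c5 LD2_c52 LD3_c6) (LK LD1_c11 LD2_c31 LD3_c10) Lrfl Lrfl
theorem f496512 : Led Lsl_at (LP (LK LD1_c9 LD2_c48 LD3_c12)) = (LP (LK LD1_c5 LD2_c52 LD3_c6)) :=
  Lgr Lrot66 (Lpe (f138860 IH) (Lpr_af (f496504 IH) (Lpe (f22783 IH) (Lpn (LP (LK LD1_c5 LD2_c52 LD3_c6))))))
theorem f22766 : Led Lsl_et (LP (LK LD1_c2 LD2_c53 LD3_c43)) = (LP (LK LD1_c5 LD2_c54 LD3_c45)) :=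
  Lre_e IH (LK LD1_c2 LD2_c53 LD3_c43) (LK LD1_c5 LD2_c54 LD3_c45) Lrfl Lrfl
theorem f22767 : Led Lsl_et (LP (LK LD1_c5 LD2_c52 LD3_c6)) = (LP (LK LD1_c2 LD2_c52 LD3_c20)) :=
  Lre_e IH (LK LD1_c5 LD2_c52 LD3_c6) (LK LD1_c2 LD2_c52 LD3_c20) Lrfl Lrfl
theorem f22768 : Led Lsl_ct (LP (LK LD1_c5 LD2_c54 LD3_c45)) = (LP (LK LD1_c5 LD2_c52 LD3_c6)) :=
  Lgr Lrot15 (Lpe (f22766 IH) (Lpr_cf (K11.f22754 IH) (Lpe (f22767 IH) (Lpn (LP (LK LD1_c5 LD2_c52 LD3_c6))))))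
theorem f22780 : Led Lsl_cf (LP (LK LD1_c5 LD2_c54 LD3_c45)) = (LP (LK LD1_c5 LD2_c52 LD3_c6)) :=
  Lgr Lrot11 (Lpr_ct (f22768 IH) (Lpn (LP (LK LD1_c5 LD2_c52 LD3_c6))))
theorem f496517 : Led Lsl_af (LP (LK LD1_c9 LD2_c8 LD3_c39)) = (LP (LK LD1_c5 LD2_c54 LD3_c45)) :=
  Lgr Lrot68 (Lpr_ct (f138858 IH) (Lpr_at (f496512 IH) (Lpe (f22780 IH) (Lpn (LP (LK LD1_c5 LD2_c54 LD3_c45))))))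
theorem f496525 : Led Lsl_at (LP (LK LD1_c4 LD2_c36 LD3_c14)) = (LP (LK LD1_c2 LD2_c53 LD3_c43)) :=
  Lgr Lrot80 (Lpe (f138853 IH) (Lpr_af (f496517 IH) (Lpe (f22766 IH) (Lpn (LP (LK LD1_c2 LD2_c53 LD3_c43))))))
theorem f71161 : Led Lsl_gt (LP (LK LD1_c4 LD2_c36 LD3_c0)) = (LP (LK LD1_c2 LD2_c53 LD3_c43)) :=
  Lgr Lrot5 (Lpr_ft (K2.f71151 IH) (Lpr_at (K2.f71155 IH) (Lpe (K7.f22466 IH) (Lpn (LP (LK LD1_c2 LD2_c53 LD3_c43))))))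
theorem f22842 : Led Lsl_gt (LP (LK LD1_c1 LD2_c22 LD3_c53)) = (LP (LK LD1_c2 LD2_c53 LD3_c42)) :=
  Lre_g IH (LK LD1_c1 LD2_c22 LD3_c53) (LK LD1_c2 LD2_c53 LD3_c42) Lrfl Lrfl
theorem f71184 : Led Lsl_gf (LP (LK LD1_c4 LD2_c36 LD3_c0)) = (LP (LK LD1_c2 LD2_c53 LD3_c42)) :=
  Lgr Lrot76 (Lpe (K2.f71154 IH) (Lpr_ff (K2.f71156 IH) (Lpr_gt (f22842 IH) (Lpn (LP (LK LD1_c2 LD2_c53 LD3_c42))))))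
theorem f496531 : Led Lsl_ff (LP (LK LD1_c4 LD2_c36 LD3_c14)) = (LP (LK LD1_c2 LD2_c53 LD3_c42)) :=
  Lgr Lrot52 (Lpr_at (f496525 IH) (Lpe (f71161 IH) (Lpr_gf (f71184 IH) (Lpn (LP (LK LD1_c2 LD2_c53 LD3_c42))))))
theorem f496540 : Led Lsl_ft (LP (LK LD1_c4 LD2_c36 LD3_c14)) = (LP (LK LD1_c2 LD2_c53 LD3_c42)) :=
  Lgr Lrot48 (Lpr_ff (f496531 IH) (Lpn (LP (LK LD1_c2 LD2_c53 LD3_c42))))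
theorem f496550 : Led Lsl_af (LP (LK LD1_c4 LD2_c36 LD3_c15)) = (LP (LK LD1_c2 LD2_c53 LD3_c42)) :=
  Lgr Lrot31 (Lpe (K11.f202617 IH) (Lpe (K8.f157059 IH) (Lpr_ft (f496540 IH) (Lpn (LP (LK LD1_c2 LD2_c53 LD3_c42))))))
theorem f496527 : Led Lsl_af (LP (LK LD1_c4 LD2_c36 LD3_c14)) = (LP (LK LD1_c2 LD2_c53 LD3_c43)) :=
  Lgr Lrot0 (Lpr_at (f496525 IH) (Lpn (LP (LK LD1_c2 LD2_c53 LD3_c43))))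
theorem f496558 : Led Lsl_ft (LP (LK LD1_c4 LD2_c36 LD3_c15)) = (LP (LK LD1_c2 LD2_c53 LD3_c43)) :=
  Lgr Lrot101 (Lpr_af (f496550 IH) (Lpe (f496540 IH) (Lpr_af (f496527 IH) (Lpn (LP (LK LD1_c2 LD2_c53 LD3_c43))))))
theorem f496564 : Led Lsl_ff (LP (LK LD1_c4 LD2_c36 LD3_c15)) = (LP (LK LD1_c2 LD2_c53 LD3_c43)) :=
  Lgr Lrot3 (Lpr_ft (f496558 IH) (Lpn (LP (LK LD1_c2 LD2_c53 LD3_c43))))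
theorem f496552 : Led Lsl_at (LP (LK LD1_c4 LD2_c36 LD3_c15)) = (LP (LK LD1_c2 LD2_c53 LD3_c42)) :=
  Lgr Lrot100 (Lpr_af (f496550 IH) (Lpn (LP (LK LD1_c2 LD2_c53 LD3_c42))))
theorem f496535 : Led Lsl_ct (LP (LK LD1_c5 LD2_c49 LD3_c59)) = (LP (LK LD1_c2 LD2_c53 LD3_c42)) :=
  Lgr Lrot40 (Lpe (K31.f205784 IH) (Lpe (K8.f138844 IH) (Lpr_ff (f496531 IH) (Lpn (LP (LK LD1_c2 LD2_c53 LD3_c42))))))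
theorem f156794 : Led Lsl_ct (LP (LK LD1_c6 LD2_c50 LD3_c18)) = (LP (LK LD1_c9 LD2_c25 LD3_c54)) :=
  Lgr Lrot59 (Lpr_cf (f156792 IH) (Lpn (LP (LK LD1_c9 LD2_c25 LD3_c54))))
theorem f130097 : Led Lsl_bt (LP (LK LD1_c6 LD2_c50 LD3_c18)) = (LP (LK LD1_c13 LD2_c1 LD3_c32)) :=
  Lre_b IH (LK LD1_c6 LD2_c50 LD3_c18) (LK LD1_c13 LD2_c1 LD3_c32) Lrfl Lrfl
theorem f130098 : Led Lsl_cf (LP (LK LD1_c13 LD2_c1 LD3_c32)) = (LP (LK LD1_c12 LD2_c32 LD3_c55)) :=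
  Lgr Lrot11 (Lpr_ct (K8.f130095 IH) (Lpn (LP (LK LD1_c12 LD2_c32 LD3_c55))))
theorem f155644 : Led Lsl_gt (LP (LK LD1_c13 LD2_c1 LD3_c32)) = (LP (LK LD1_c14 LD2_c13 LD3_c47)) :=
  Lgr Lrot150 (Lpr_cf (f130098 IH) (Lpe (K8.f137481 IH) (Lpe (K8.f155541 IH) (Lpr_gt (K8.f155642 IH) (Lpr_ct (K6.f126480 IH) (Lpe (K8.f129351 IH) (Lpr_ct (K8.f129372 IH) (Lpr_df (K5.f88228 IH) (Lpe (K6.f88244 IH) (Lpn (LP (LK LD1_c14 LD2_c13 LD3_c47))))))))))))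
theorem f156811 : Led Lsl_ct (LP (LK LD1_c5 LD2_c54 LD3_c44)) = (LP (LK LD1_c4 LD2_c46 LD3_c37)) :=
  Lgr Lrot64 (Lpr_bt (K11.f149975 IH) (Lpe (K8.f149992 IH) (Lpe (K8.f156756 IH) (Lpr_ct (K8.f130233 IH) (Lpe (K6.f130263 IH) (Lpe (K6.f88244 IH) (Lpe (f155644 IH) (Lpe (f130097 IH) (Lpr_ct (f156794 IH) (Lpe (f138305 IH) (Lpn (LP (LK LD1_c4 LD2_c46 LD3_c37)))))))))))))
theorem f138173 : Led Lsl_dt (LP (LK LD1_c4 LD2_c46 LD3_c37)) = (LP (LK LD1_c5 LD2_c54 LD3_c9)) :=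
  Lgr Lrot79 (Lpe (K11.f138172 IH) (Lpe (K4.f105025 IH) (Lpr_bf (K8.f138165 IH) (Lpn (LP (LK LD1_c5 LD2_c54 LD3_c9))))))
theorem f496570 : Led Lsl_cf (LP (LK LD1_c2 LD2_c51 LD3_c7)) = (LP (LK LD1_c2 LD2_c18 LD3_c43)) :=
  Lgr Lrot161 (Lpr_dt (K31.f210004 IH) (Lpr_ct (f496535 IH) (Lpe (f496552 IH) (Lpr_ff (f496564 IH) (Lpr_dt (K11.f22765 IH) (Lpr_ct (f156811 IH) (Lpr_dt (f138173 IH) (Lpr_ct (K8.f138164 IH) (Lpe (K11.f138183 IH) (Lpn (LP (LK LD1_c2 LD2_c18 LD3_c43))))))))))))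
theorem f59194 : Led Lsl_bt (LP (LK LD1_c2 LD2_c18 LD3_c43)) = (LP (LK LD1_c2 LD2_c17 LD3_c45)) :=
  Lgr Lrot127 (Lpr_bf (K8.f59188 IH) (Lpn (LP (LK LD1_c2 LD2_c17 LD3_c45))))
theorem f420340 : Led Lsl_bt (LP (LK LD1_c2 LD2_c48 LD3_c56)) = (LP (LK LD1_c4 LD2_c41 LD3_c19)) :=
  Lgr Lrot95 (Lpr_df (K8.f161544 IH) (Lpe (f37895 IH) (Lpr_df (f420337 IH) (Lpn (LP (LK LD1_c4 LD2_c41 LD3_c19))))))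
theorem f161550 : Led Lsl_ct (LP (LK LD1_c2 LD2_c48 LD3_c56)) = (LP (LK LD1_c2 LD2_c58 LD3_c15)) :=
  Lgr Lrot7 (Lpr_df (K8.f161544 IH) (Lpe (K7.f40086 IH) (Lpe (K7.f139611 IH) (Lpr_gf (K8.f148956 IH) (Lpe (K8.f138887 IH) (Lpe (K8.f158137 IH) (Lpr_dt (K7.f82035 IH) (Lpr_gt (K7.f82050 IH) (Lpr_dt (K8.f75496 IH) (Lpn (LP (LK LD1_c2 LD2_c58 LD3_c15))))))))))))
theorem f157192 : Led Lsl_dt (LP (LK LD1_c2 LD2_c14 LD3_c10)) = (LP (LK LD1_c2 LD2_c51 LD3_c53)) :=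
  Lgr Lrot27 (Lpr_cf (K5.f132495 IH) (Lpe (K8.f132511 IH) (Lpe (K7.f60862 IH) (Lpe (K4.f22447 IH) (Lpe (K8.f59362 IH) (Lpe (K8.f157154 IH) (Lpr_ct (K7.f141269 IH) (Lpr_gt (K8.f157168 IH) (Lpr_ct (K8.f8368 IH) (Lpn (LP (LK LD1_c2 LD2_c51 LD3_c53))))))))))))
theorem f161559 : Led Lsl_gf (LP (LK LD1_c2 LD2_c14 LD3_c10)) = (LP (LK LD1_c2 LD2_c58 LD3_c15)) :=
  Lgr Lrot144 (Lpr_dt (f157192 IH) (Lpe (K8.f157190 IH) (Lpr_dt (K6.f99661 IH) (Lpe (K6.f38523 IH) (Lpe (K6.f99719 IH) (Lpe (K6.f99733 IH) (Lpe (K5.f60263 IH) (Lpe (K8.f73027 IH) (Lpr_cf (K8.f161554 IH) (Lpn (LP (LK LD1_c2 LD2_c58 LD3_c15))))))))))))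
theorem f80255 : Led Lsl_cf (LP (LK LD1_c2 LD2_c58 LD3_c18)) = (LP (LK LD1_c3 LD2_c4 LD3_c54)) :=
  Lgr Lrot97 (Lpr_bt (K5.f58963 IH) (Lpr_ct (K4.f76086 IH) (Lpe (K4.f79925 IH) (Lpr_ct (K8.f60866 IH) (Lpr_bt (K5.f80252 IH) (Lpn (LP (LK LD1_c3 LD2_c4 LD3_c54))))))))
theorem f496581 : Led Lsl_gf (LP (LK LD1_c2 LD2_c51 LD3_c7)) = (LP (LK LD1_c2 LD2_c58 LD3_c18)) :=
  Lgr Lrot129 (Lpr_cf (f496570 IH) (Lpr_bt (f59194 IH) (Lpr_gt (f420345 IH) (Lpe (f420340 IH) (Lpr_ct (f161550 IH) (Lpe (f161559 IH) (Lpr_cf (K5.f132495 IH) (Lpr_bt (K5.f80257 IH) (Lpr_gt (K5.f58965 IH) (Lpe (f80255 IH) (Lpn (LP (LK LD1_c2 LD2_c58 LD3_c18)))))))))))))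
theorem f158176 : Led Lsl_ct (LP (LK LD1_c2 LD2_c27 LD3_c18)) = (LP (LK LD1_c4 LD2_c0 LD3_c44)) :=
  Lgr Lrot83 (Lpe (K6.f138878 IH) (Lpe (K8.f138885 IH) (Lpr_bf (K8.f158160 IH) (Lpe (K7.f29486 IH) (Lpe (K8.f29506 IH) (Lpn (LP (LK LD1_c4 LD2_c0 LD3_c44))))))))
theorem f496584 : Led Lsl_gt (LP (LK LD1_c5 LD2_c49 LD3_c59)) = (LP (LK LD1_c4 LD2_c58 LD3_c53)) :=
  Lgr Lrot49 (Lpe (K31.f210004 IH) (Lpr_gf (f496581 IH) (Lpr_cf (f80255 IH) (Lpe (K5.f80258 IH) (Lpr_dt (K5.f80260 IH) (Lpr_gt (K7.f132872 IH) (Lpr_dt (K7.f149410 IH) (Lpe (f158176 IH) (Lpe (K8.f138880 IH) (Lpn (LP (LK LD1_c4 LD2_c58 LD3_c53))))))))))))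
theorem f426307 : Led Lsl_bt (LP (LK LD1_c5 LD2_c57 LD3_c34)) = (LP (LK LD1_c2 LD2_c55 LD3_c4)) :=
  Lre_b IH (LK LD1_c5 LD2_c57 LD3_c34) (LK LD1_c2 LD2_c55 LD3_c4) Lrfl Lrfl
theorem f426281 : Led Lsl_ct (LP (LK LD1_c2 LD2_c55 LD3_c4)) = (LP (LK LD1_c1 LD2_c23 LD3_c29)) :=
  Lre_c IH (LK LD1_c2 LD2_c55 LD3_c4) (LK LD1_c1 LD2_c23 LD3_c29) Lrfl Lrfl
theorem f426063 : Led Lsl_bt (LP (LK LD1_c1 LD2_c23 LD3_c29)) = (LP (LK LD1_c2 LD2_c55 LD3_c2)) :=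
  Lre_b IH (LK LD1_c1 LD2_c23 LD3_c29) (LK LD1_c2 LD2_c55 LD3_c2) Lrfl Lrfl
theorem f426577 : Led Lsl_bt (LP (LK LD1_c3 LD2_c50 LD3_c32)) = (LP (LK LD1_c7 LD2_c42 LD3_c7)) :=
  Lre_b IH (LK LD1_c3 LD2_c50 LD3_c32) (LK LD1_c7 LD2_c42 LD3_c7) Lrfl Lrfl
theorem f426578 : Led Lsl_ct (LP (LK LD1_c2 LD2_c55 LD3_c2)) = (LP (LK LD1_c3 LD2_c50 LD3_c32)) :=
  Lgr Lrot83 (Lpe (f426063 IH) (Lpe (f426281 IH) (Lpe (f426307 IH) (Lpr_cf (K28.f426575 IH) (Lpe (f426577 IH) (Lpn (LP (LK LD1_c3 LD2_c50 LD3_c32))))))))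
theorem f426592 : Led Lsl_gt (LP (LK LD1_c3 LD2_c4 LD3_c52)) = (LP (LK LD1_c2 LD2_c55 LD3_c2)) :=
  Lgr Lrot9 (Lpe (K5.f112188 IH) (Lpr_gt (K8.f160996 IH) (Lpr_ct (K8.f20563 IH) (Lpr_gt (K8.f132404 IH) (Lpr_ct (K5.f117230 IH) (Lpe (K7.f64343 IH) (Lpe (K7.f100332 IH) (Lpr_gf (K28.f426586 IH) (Lpe (f426578 IH) (Lpn (LP (LK LD1_c2 LD2_c55 LD3_c2))))))))))))
theorem f496589 : Led Lsl_bf (LP (LK LD1_c5 LD2_c49 LD3_c59)) = (LP (LK LD1_c4 LD2_c58 LD3_c31)) :=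
  Lgr Lrot165 (Lpr_gt (f496584 IH) (Lpr_ct (K8.f158442 IH) (Lpr_gt (K8.f83801 IH) (Lpe (K4.f83763 IH) (Lpr_bt (K6.f83797 IH) (Lpr_gt (f426592 IH) (Lpe (f426063 IH) (Lpr_ct (K28.f426062 IH) (Lpr_gt (K28.f426061 IH) (Lpr_cf (K24.f426047 IH) (Lpn (LP (LK LD1_c4 LD2_c58 LD3_c31)))))))))))))
theorem f496597 : Led Lsl_ft (LP (LK LD1_c5 LD2_c50 LD3_c3)) = (LP (LK LD1_c4 LD2_c58 LD3_c31)) :=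
  Lgr Lrot75 (Lpr_bf (f496310 IH) (Lpr_ff (K31.f210002 IH) (Lpr_bf (f496589 IH) (Lpn (LP (LK LD1_c4 LD2_c58 LD3_c31))))))
theorem f496605 : Led Lsl_ff (LP (LK LD1_c5 LD2_c50 LD3_c3)) = (LP (LK LD1_c4 LD2_c58 LD3_c31)) :=
  Lgr Lrot3 (Lpr_ft (f496597 IH) (Lpn (LP (LK LD1_c4 LD2_c58 LD3_c31))))
theorem f496313 : Led Lsl_at (LP (LK LD1_c5 LD2_c50 LD3_c3)) = (LP (LK LD1_c2 LD2_c51 LD3_c12)) :=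
  Lre_a IH (LK LD1_c5 LD2_c50 LD3_c3) (LK LD1_c2 LD2_c51 LD3_c12) Lrfl Lrfl
theorem f74542 : Led Lsl_gt (LP (LK LD1_c4 LD2_c58 LD3_c31)) = (LP (LK LD1_c2 LD2_c27 LD3_c22)) :=
  Lre_g IH (LK LD1_c4 LD2_c58 LD3_c31) (LK LD1_c2 LD2_c27 LD3_c22) Lrfl Lrfl
theorem f496611 : Led Lsl_gf (LP (LK LD1_c2 LD2_c51 LD3_c12)) = (LP (LK LD1_c2 LD2_c27 LD3_c22)) :=
  Lgr Lrot76 (Lpe (f496313 IH) (Lpr_ff (f496605 IH) (Lpr_gt (f74542 IH) (Lpn (LP (LK LD1_c2 LD2_c27 LD3_c22))))))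
theorem f496374 : Led Lsl_ct (LP (LK LD1_c2 LD2_c51 LD3_c12)) = (LP (LK LD1_c5 LD2_c50 LD3_c4)) :=
  Lre_c IH (LK LD1_c2 LD2_c51 LD3_c12) (LK LD1_c5 LD2_c50 LD3_c4) Lrfl Lrfl
theorem f74803 : Led Lsl_dt (LP (LK LD1_c2 LD2_c55 LD3_c26)) = (LP (LK LD1_c5 LD2_c58 LD3_c5)) :=
  Lre_d IH (LK LD1_c2 LD2_c55 LD3_c26) (LK LD1_c5 LD2_c58 LD3_c5) Lrfl Lrfl
theorem f72886 : Led Lsl_ct (LP (LK LD1_c0 LD2_c39 LD3_c45)) = (LP (LK LD1_c1 LD2_c26 LD3_c6)) :=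
  Lre_c IH (LK LD1_c0 LD2_c39 LD3_c45) (LK LD1_c1 LD2_c26 LD3_c6) Lrfl Lrfl
theorem f426080 : Led Lsl_dt (LP (LK LD1_c2 LD2_c55 LD3_c22)) = (LP (LK LD1_c1 LD2_c23 LD3_c39)) :=
  Lre_d IH (LK LD1_c2 LD2_c55 LD3_c22) (LK LD1_c1 LD2_c23 LD3_c39) Lrfl Lrfl
theorem f161068 : Led Lsl_df (LP (LK LD1_c2 LD2_c54 LD3_c36)) = (LP (LK LD1_c2 LD2_c17 LD3_c44)) :=
  Lgr Lrot12 (Lpr_bt (K8.f157045 IH) (Lpr_dt (K8.f161036 IH) (Lpr_bt (f59230 IH) (Lpn (LP (LK LD1_c2 LD2_c17 LD3_c44))))))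
theorem f426316 : Led Lsl_gt (LP (LK LD1_c1 LD2_c26 LD3_c6)) = (LP (LK LD1_c2 LD2_c17 LD3_c44)) :=
  Lgr Lrot94 (Lpe (f72886 IH) (Lpr_gt (K2.f20559 IH) (Lpr_dt (K2.f72876 IH) (Lpr_gt (K28.f426309 IH) (Lpr_dt (K24.f426057 IH) (Lpe (K24.f426058 IH) (Lpe (f426080 IH) (Lpr_gf (K24.f426114 IH) (Lpr_df (f161068 IH) (Lpn (LP (LK LD1_c2 LD2_c17 LD3_c44))))))))))))
theorem f56897 : Led Lsl_dt (LP (LK LD1_c0 LD2_c38 LD3_c36)) = (LP (LK LD1_c1 LD2_c8 LD3_c19)) :=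
  Lre_d IH (LK LD1_c0 LD2_c38 LD3_c36) (LK LD1_c1 LD2_c8 LD3_c19) Lrfl Lrfl
theorem f75050 : Led Lsl_df (LP (LK LD1_c1 LD2_c26 LD3_c6)) = (LP (LK LD1_c2 LD2_c22 LD3_c15)) :=
  Lgr Lrot84 (Lpe (f72886 IH) (Lpr_df (K2.f75036 IH) (Lpe (K2.f56898 IH) (Lpe (f56897 IH) (Lpe (K2.f56896 IH) (Lpe (K2.f20411 IH) (Lpr_gt (K7.f26540 IH) (Lpr_dt (K8.f26554 IH) (Lpe (K28.f56889 IH) (Lpn (LP (LK LD1_c2 LD2_c22 LD3_c15))))))))))))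
theorem f69679 : Led Lsl_gt (LP (LK LD1_c4 LD2_c46 LD3_c43)) = (LP (LK LD1_c2 LD2_c21 LD3_c17)) :=
  Lre_g IH (LK LD1_c4 LD2_c46 LD3_c43) (LK LD1_c2 LD2_c21 LD3_c17) Lrfl Lrfl
theorem f26417 : Led Lsl_dt (LP (LK LD1_c4 LD2_c46 LD3_c44)) = (LP (LK LD1_c2 LD2_c27 LD3_c31)) :=
  Lre_d IH (LK LD1_c4 LD2_c46 LD3_c44) (LK LD1_c2 LD2_c27 LD3_c31) Lrfl Lrfl
theorem f150269 : Led Lsl_gf (LP (LK LD1_c4 LD2_c59 LD3_c13)) = (LP (LK LD1_c5 LD2_c57 LD3_c49)) :=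
  Lgr Lrot147 (Lpr_ct (K4.f26455 IH) (Lpr_gt (K0.f26396 IH) (Lpr_ct (K0.f26407 IH) (Lpe (f26417 IH) (Lpe (K6.f99076 IH) (Lpe (f69679 IH) (Lpe (K6.f105007 IH) (Lpr_gf (K8.f150259 IH) (Lpe (K8.f26556 IH) (Lpn (LP (LK LD1_c5 LD2_c57 LD3_c49))))))))))))
theorem f105035 : Led Lsl_df (LP (LK LD1_c9 LD2_c25 LD3_c57)) = (LP (LK LD1_c4 LD2_c59 LD3_c13)) :=
  Lgr Lrot162 (Lpe (K6.f105032 IH) (Lpr_gf (K4.f105026 IH) (Lpe (K2.f74791 IH) (Lpr_gf (K4.f104909 IH) (Lpr_dt (K4.f26434 IH) (Lpr_gt (K0.f26413 IH) (Lpr_ct (K4.f20421 IH) (Lpr_gt (K0.f23455 IH) (Lpr_ct (K4.f26268 IH) (Lpn (LP (LK LD1_c4 LD2_c59 LD3_c13))))))))))))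
theorem f427437 : Led Lsl_gt (LP (LK LD1_c9 LD2_c25 LD3_c57)) = (LP (LK LD1_c9 LD2_c47 LD3_c46)) :=
  Lgr Lrot49 (Lpr_df (f105035 IH) (Lpr_gf (f150269 IH) (Lpe (K8.f26555 IH) (Lpe (K28.f56889 IH) (Lpe (f75050 IH) (Lpr_gt (f426316 IH) (Lpe (f161068 IH) (Lpe (K28.f157053 IH) (Lpe (K8.f72474 IH) (Lpn (LP (LK LD1_c9 LD2_c47 LD3_c46))))))))))))
theorem f161288 : Led Lsl_ct (LP (LK LD1_c9 LD2_c47 LD3_c46)) = (LP (LK LD1_c5 LD2_c59 LD3_c51)) :=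
  Lgr Lrot59 (Lpr_cf (K8.f161285 IH) (Lpn (LP (LK LD1_c5 LD2_c59 LD3_c51))))
theorem f496622 : Led Lsl_df (LP (LK LD1_c5 LD2_c50 LD3_c4)) = (LP (LK LD1_c5 LD2_c59 LD3_c51)) :=
  Lgr Lrot162 (Lpe (f496374 IH) (Lpr_gf (f496611 IH) (Lpe (K4.f74532 IH) (Lpr_gf (K4.f74957 IH) (Lpr_dt (f74803 IH) (Lpe (K4.f105026 IH) (Lpr_ct (K6.f105032 IH) (Lpr_gt (f427437 IH) (Lpr_ct (f161288 IH) (Lpn (LP (LK LD1_c5 LD2_c59 LD3_c51))))))))))))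
theorem f496632 : Led Lsl_ft (LP (LK LD1_c5 LD2_c58 LD3_c12)) = (LP (LK LD1_c5 LD2_c59 LD3_c51)) :=
  Lgr Lrot54 (Lpe (K8.f74723 IH) (Lpr_ff (f496384 IH) (Lpr_df (f496622 IH) (Lpn (LP (LK LD1_c5 LD2_c59 LD3_c51))))))
theorem f496648 : Led Lsl_af (LP (LK LD1_c5 LD2_c58 LD3_c14)) = (LP (LK LD1_c5 LD2_c59 LD3_c51)) :=
  Lgr Lrot31 (Lpr_gf (f105012 IH) (Lpe (K8.f105016 IH) (Lpr_ft (f496632 IH) (Lpn (LP (LK LD1_c5 LD2_c59 LD3_c51))))))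
theorem f496650 : Led Lsl_at (LP (LK LD1_c9 LD2_c49 LD3_c14)) = (LP (LK LD1_c9 LD2_c47 LD3_c46)) :=
  Lgr Lrot107 (Lpr_cf (f158494 IH) (Lpr_af (f496648 IH) (Lpe (f161288 IH) (Lpn (LP (LK LD1_c9 LD2_c47 LD3_c46))))))
theorem f105059 : Led Lsl_gf (LP (LK LD1_c9 LD2_c25 LD3_c57)) = (LP (LK LD1_c9 LD2_c47 LD3_c48)) :=
  Lgr Lrot143 (Lpr_dt (K6.f105033 IH) (Lpe (K4.f26268 IH) (Lpe (K4.f80030 IH) (Lpe (K4.f60930 IH) (Lpe (K2.f72454 IH) (Lpe (K2.f72439 IH) (Lpe (K4.f72462 IH) (Lpr_gt (K28.f72452 IH) (Lpr_dt (K28.f72453 IH) (Lpn (LP (LK LD1_c9 LD2_c47 LD3_c48))))))))))))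
theorem f496672 : Led Lsl_ff (LP (LK LD1_c9 LD2_c49 LD3_c14)) = (LP (LK LD1_c9 LD2_c47 LD3_c48)) :=
  Lgr Lrot52 (Lpr_at (f496650 IH) (Lpe (f427437 IH) (Lpr_gf (f105059 IH) (Lpn (LP (LK LD1_c9 LD2_c47 LD3_c48))))))
theorem f496678 : Led Lsl_ft (LP (LK LD1_c9 LD2_c49 LD3_c14)) = (LP (LK LD1_c9 LD2_c47 LD3_c48)) :=
  Lgr Lrot48 (Lpr_ff (f496672 IH) (Lpn (LP (LK LD1_c9 LD2_c47 LD3_c48))))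
theorem f496682 : Led Lsl_af (LP (LK LD1_c9 LD2_c49 LD3_c13)) = (LP (LK LD1_c9 LD2_c47 LD3_c48)) :=
  Lgr Lrot31 (Lpe (K8.f75344 IH) (Lpe (f75372 IH) (Lpr_ft (f496678 IH) (Lpn (LP (LK LD1_c9 LD2_c47 LD3_c48))))))
theorem f496670 : Led Lsl_af (LP (LK LD1_c9 LD2_c49 LD3_c14)) = (LP (LK LD1_c9 LD2_c47 LD3_c46)) :=
  Lgr Lrot0 (Lpr_at (f496650 IH) (Lpn (LP (LK LD1_c9 LD2_c47 LD3_c46))))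
theorem f496688 : Led Lsl_ft (LP (LK LD1_c9 LD2_c49 LD3_c13)) = (LP (LK LD1_c9 LD2_c47 LD3_c46)) :=
  Lgr Lrot101 (Lpr_af (f496682 IH) (Lpe (f496678 IH) (Lpr_af (f496670 IH) (Lpn (LP (LK LD1_c9 LD2_c47 LD3_c46))))))
theorem f496690 : Led Lsl_ff (LP (LK LD1_c5 LD2_c57 LD3_c55)) = (LP (LK LD1_c4 LD2_c58 LD3_c37)) :=
  Lgr Lrot19 (Lpe (K8.f150281 IH) (Lpr_ft (f496688 IH) (Lpr_dt (K8.f72474 IH) (Lpn (LP (LK LD1_c4 LD2_c58 LD3_c37))))))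
theorem f496696 : Led Lsl_ft (LP (LK LD1_c5 LD2_c57 LD3_c55)) = (LP (LK LD1_c4 LD2_c58 LD3_c37)) :=
  Lgr Lrot48 (Lpr_ff (f496690 IH) (Lpn (LP (LK LD1_c4 LD2_c58 LD3_c37))))
theorem f496700 : Led Lsl_ff (LP (LK LD1_c2 LD2_c55 LD3_c19)) = (LP (LK LD1_c2 LD2_c54 LD3_c36)) :=
  Lgr Lrot23 (Lpr_ct (K8.f150273 IH) (Lpr_ft (f496696 IH) (Lpr_ct (K28.f157053 IH) (Lpn (LP (LK LD1_c2 LD2_c54 LD3_c36))))))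
theorem f150339 : Led Lsl_et (LP (LK LD1_c2 LD2_c55 LD3_c19)) = (LP (LK LD1_c5 LD2_c57 LD3_c56)) :=
  Lre_e IH (LK LD1_c2 LD2_c55 LD3_c19) (LK LD1_c5 LD2_c57 LD3_c56) Lrfl Lrfl
theorem f150320 : Led Lsl_ft (LP (LK LD1_c5 LD2_c57 LD3_c56)) = (LP (LK LD1_c11 LD2_c40 LD3_c37)) :=
  Lre_f IH (LK LD1_c5 LD2_c57 LD3_c56) (LK LD1_c11 LD2_c40 LD3_c37) Lrfl Lrfl
theorem f157101 : Led Lsl_ft (LP (LK LD1_c11 LD2_c38 LD3_c27)) = (LP (LK LD1_c5 LD2_c56 LD3_c34)) :=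
  Lre_f IH (LK LD1_c11 LD2_c38 LD3_c27) (LK LD1_c5 LD2_c56 LD3_c34) Lrfl Lrfl
theorem f496706 : Led Lsl_et (LP (LK LD1_c11 LD2_c40 LD3_c37)) = (LP (LK LD1_c11 LD2_c38 LD3_c27)) :=
  Lgr Lrot69 (Lpe (f150320 IH) (Lpe (f150339 IH) (Lpr_ff (f496700 IH) (Lpe (f157055 IH) (Lpe (f157101 IH) (Lpn (LP (LK LD1_c11 LD2_c38 LD3_c27))))))))
theorem f496732 : Led Lsl_ef (LP (LK LD1_c11 LD2_c40 LD3_c37)) = (LP (LK LD1_c11 LD2_c38 LD3_c27)) :=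
  Lgr Lrot88 (Lpr_et (f496706 IH) (Lpn (LP (LK LD1_c11 LD2_c38 LD3_c27))))
theorem f150319 : Led Lsl_ft (LP (LK LD1_c6 LD2_c25 LD3_c20)) = (LP (LK LD1_c3 LD2_c10 LD3_c18)) :=
  Lre_f IH (LK LD1_c6 LD2_c25 LD3_c20) (LK LD1_c3 LD2_c10 LD3_c18) Lrfl Lrfl
theorem f150321 : Led Lsl_bf (LP (LK LD1_c6 LD2_c25 LD3_c20)) = (LP (LK LD1_c11 LD2_c40 LD3_c37)) :=
  Lgr Lrot61 (Lpr_ft (f150319 IH) (Lpr_bt (f150311 IH) (Lpr_ft (f150320 IH) (Lpn (LP (LK LD1_c11 LD2_c40 LD3_c37))))))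
theorem f157092 : Led Lsl_bt (LP (LK LD1_c5 LD2_c56 LD3_c40)) = (LP (LK LD1_c11 LD2_c38 LD3_c27)) :=
  Lre_b IH (LK LD1_c5 LD2_c56 LD3_c40) (LK LD1_c11 LD2_c38 LD3_c27) Lrfl Lrfl
theorem f496734 : Led Lsl_et (LP (LK LD1_c6 LD2_c25 LD3_c20)) = (LP (LK LD1_c5 LD2_c56 LD3_c40)) :=
  Lgr Lrot74 (Lpr_bf (f150321 IH) (Lpr_ef (f496732 IH) (Lpe (f157092 IH) (Lpn (LP (LK LD1_c5 LD2_c56 LD3_c40))))))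
theorem f150332 : Led Lsl_ft (LP (LK LD1_c3 LD2_c10 LD3_c18)) = (LP (LK LD1_c6 LD2_c25 LD3_c20)) :=
  Lre_f IH (LK LD1_c3 LD2_c10 LD3_c18) (LK LD1_c6 LD2_c25 LD3_c20) Lrfl Lrfl
theorem f496739 : Led Lsl_ft (LP (LK LD1_c5 LD2_c56 LD3_c40)) = (LP (LK LD1_c2 LD2_c54 LD3_c38)) :=
  Lre_f IH (LK LD1_c5 LD2_c56 LD3_c40) (LK LD1_c2 LD2_c54 LD3_c38) Lrfl Lrfl
theorem f161056 : Led Lsl_et (LP (LK LD1_c2 LD2_c54 LD3_c38)) = (LP (LK LD1_c1 LD2_c23 LD3_c15)) :=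
  Lre_e IH (LK LD1_c2 LD2_c54 LD3_c38) (LK LD1_c1 LD2_c23 LD3_c15) Lrfl Lrfl
theorem f496740 : Led Lsl_ff (LP (LK LD1_c1 LD2_c31 LD3_c19)) = (LP (LK LD1_c1 LD2_c23 LD3_c15)) :=
  Lgr Lrot72 (Lpr_et (f69217 IH) (Lpr_ft (f150332 IH) (Lpr_et (f496734 IH) (Lpr_ft (f496739 IH) (Lpr_et (f161056 IH) (Lpn (LP (LK LD1_c1 LD2_c23 LD3_c15))))))))
theorem f453530 : Led Lsl_ft (LP (LK LD1_c0 LD2_c42 LD3_c7)) = v473 :=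
  Lgr Lrot2 (Lpr_gt (K8.f59715 IH) (Lpr_gt (K4.f68538 IH) (Lpr_af (f453529 IH) (Lpn v473))))
theorem f496746 : v473 = (LP (LK LD1_c1 LD2_c5 LD3_c48)) :=
  (Llr Lrot54 (Lpe (f453530 IH) (Lpe (K8.f69216 IH) (Lpr_ff (f496740 IH) (Lpr_df (K8.f161032 IH) (Lpn (LP (LK LD1_c1 LD2_c5 LD3_c48)))))))).symm
theorem f496747 : (LP (LK LD1_c0 LD2_c42 LD3_c6)) = v1294 :=
  Lefun (Lecon (Lfl_af (f453529 IH)) (f496746 IH)) (f494674 IH)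
theorem f496761 : Led Lsl_ff (LP (LK LD1_c1 LD2_c31 LD3_c16)) = (LP (LK LD1_c1 LD2_c23 LD3_c14)) :=
  Lgr Lrot19 (Lpr_dt (K8.f69220 IH) (Lpqs (f496747 IH) (Lpe (f494673 IH) (Lpe (K8.f141833 IH) (Lpn (LP (LK LD1_c1 LD2_c23 LD3_c14)))))))
theorem f496771 : Led Lsl_ft (LP (LK LD1_c1 LD2_c31 LD3_c16)) = (LP (LK LD1_c1 LD2_c23 LD3_c14)) :=
  Lgr Lrot48 (Lpr_ff (f496761 IH) (Lpn (LP (LK LD1_c1 LD2_c23 LD3_c14))))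
theorem f496779 : Led Lsl_af (LP (LK LD1_c1 LD2_c31 LD3_c19)) = (LP (LK LD1_c1 LD2_c23 LD3_c14)) :=
  Lgr Lrot31 (Lpr_gf (K8.f116975 IH) (Lpr_gf (K4.f112473 IH) (Lpr_ft (f496771 IH) (Lpn (LP (LK LD1_c1 LD2_c23 LD3_c14))))))
theorem f496702 : Led Lsl_ft (LP (LK LD1_c1 LD2_c31 LD3_c19)) = (LP (LK LD1_c1 LD2_c23 LD3_c15)) :=
  Lgr Lrot75 (Lpr_bf (f150317 IH) (Lpr_ff (f496700 IH) (Lpe (K24.f157049 IH) (Lpn (LP (LK LD1_c1 LD2_c23 LD3_c15))))))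
theorem f496785 : Led Lsl_at (LP (LK LD1_c1 LD2_c23 LD3_c15)) = (LP (LK LD1_c1 LD2_c31 LD3_c16)) :=
  Lgr Lrot66 (Lpe (f496702 IH) (Lpr_af (f496779 IH) (Lpe (f496771 IH) (Lpn (LP (LK LD1_c1 LD2_c31 LD3_c16))))))
theorem f69221 : Led Lsl_et (LP (LK LD1_c1 LD2_c31 LD3_c16)) = (LP (LK LD1_c3 LD2_c10 LD3_c14)) :=
  Lre_e IH (LK LD1_c1 LD2_c31 LD3_c16) (LK LD1_c3 LD2_c10 LD3_c14) Lrfl Lrfl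
theorem f496789 : Led Lsl_af (LP (LK LD1_c2 LD2_c54 LD3_c38)) = (LP (LK LD1_c3 LD2_c10 LD3_c14)) :=
  Lgr Lrot50 (Lpr_et (f161056 IH) (Lpr_at (f496785 IH) (Lpr_et (f69221 IH) (Lpn (LP (LK LD1_c3 LD2_c10 LD3_c14))))))
theorem f496795 : Led Lsl_ft (LP (LK LD1_c2 LD2_c54 LD3_c38)) = (LP (LK LD1_c5 LD2_c56 LD3_c40)) :=
  Lre_f IH (LK LD1_c2 LD2_c54 LD3_c38) (LK LD1_c5 LD2_c56 LD3_c40) Lrfl Lrfl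
theorem f496775 : Led Lsl_ft (LP (LK LD1_c6 LD2_c25 LD3_c11)) = (LP (LK LD1_c3 LD2_c10 LD3_c14)) :=
  Lre_f IH (LK LD1_c6 LD2_c25 LD3_c11) (LK LD1_c3 LD2_c10 LD3_c14) Lrfl Lrfl
theorem f496796 : Led Lsl_at (LP (LK LD1_c5 LD2_c56 LD3_c40)) = (LP (LK LD1_c6 LD2_c25 LD3_c11)) :=
  Lgr Lrot66 (Lpe (f496795 IH) (Lpr_af (f496789 IH) (Lpe (f496775 IH) (Lpn (LP (LK LD1_c6 LD2_c25 LD3_c11))))))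
theorem f496767 : Led Lsl_ft (LP (LK LD1_c3 LD2_c10 LD3_c14)) = (LP (LK LD1_c6 LD2_c25 LD3_c11)) :=
  Lre_f IH (LK LD1_c3 LD2_c10 LD3_c14) (LK LD1_c6 LD2_c25 LD3_c11) Lrfl Lrfl
theorem f141858 : Led Lsl_et (LP (LK LD1_c2 LD2_c54 LD3_c35)) = (LP (LK LD1_c1 LD2_c23 LD3_c14)) :=
  Lre_e IH (LK LD1_c2 LD2_c54 LD3_c35) (LK LD1_c1 LD2_c23 LD3_c14) Lrfl Lrfl
theorem f496768 : Led Lsl_ft (LP (LK LD1_c5 LD2_c56 LD3_c33)) = (LP (LK LD1_c2 LD2_c54 LD3_c35)) :=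
  Lre_f IH (LK LD1_c5 LD2_c56 LD3_c33) (LK LD1_c2 LD2_c54 LD3_c35) Lrfl Lrfl
theorem f496769 : Led Lsl_et (LP (LK LD1_c6 LD2_c25 LD3_c11)) = (LP (LK LD1_c5 LD2_c56 LD3_c33)) :=
  Lgr Lrot69 (Lpe (f496767 IH) (Lpe (f69221 IH) (Lpr_ff (f496761 IH) (Lpe (f141858 IH) (Lpe (f496768 IH) (Lpn (LP (LK LD1_c5 LD2_c56 LD3_c33))))))))
theorem f496810 : Led Lsl_af (LP (LK LD1_c6 LD2_c25 LD3_c20)) = (LP (LK LD1_c5 LD2_c56 LD3_c33)) :=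
  Lgr Lrot50 (Lpr_et (f496734 IH) (Lpr_at (f496796 IH) (Lpr_et (f496769 IH) (Lpn (LP (LK LD1_c5 LD2_c56 LD3_c33))))))
theorem f150328 : Led Lsl_ct (LP (LK LD1_c6 LD2_c25 LD3_c20)) = (LP (LK LD1_c12 LD2_c23 LD3_c30)) :=
  Lre_c IH (LK LD1_c6 LD2_c25 LD3_c20) (LK LD1_c12 LD2_c23 LD3_c30) Lrfl Lrfl
theorem f141821 : Led Lsl_ct (LP (LK LD1_c11 LD2_c38 LD3_c22)) = (LP (LK LD1_c5 LD2_c56 LD3_c33)) :=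
  Lre_c IH (LK LD1_c11 LD2_c38 LD3_c22) (LK LD1_c5 LD2_c56 LD3_c33) Lrfl Lrfl
theorem f496814 : Led Lsl_at (LP (LK LD1_c12 LD2_c23 LD3_c30)) = (LP (LK LD1_c11 LD2_c38 LD3_c22)) :=
  Lgr Lrot107 (Lpe (f150328 IH) (Lpr_af (f496810 IH) (Lpe (f141821 IH) (Lpn (LP (LK LD1_c11 LD2_c38 LD3_c22))))))
theorem f496828 : Led Lsl_ft (LP (LK LD1_c6 LD2_c25 LD3_c17)) = (LP (LK LD1_c12 LD2_c23 LD3_c30)) :=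
  Lre_f IH (LK LD1_c6 LD2_c25 LD3_c17) (LK LD1_c12 LD2_c23 LD3_c30) Lrfl Lrfl
theorem f141812 : Led Lsl_ft (LP (LK LD1_c11 LD2_c38 LD3_c22)) = (LP (LK LD1_c5 LD2_c56 LD3_c31)) :=
  Lre_f IH (LK LD1_c11 LD2_c38 LD3_c22) (LK LD1_c5 LD2_c56 LD3_c31) Lrfl Lrfl
theorem f496829 : Led Lsl_af (LP (LK LD1_c6 LD2_c25 LD3_c17)) = (LP (LK LD1_c5 LD2_c56 LD3_c31)) :=
  Lgr Lrot45 (Lpr_ft (f496828 IH) (Lpr_at (f496814 IH) (Lpr_ft (f141812 IH) (Lpn (LP (LK LD1_c5 LD2_c56 LD3_c31))))))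
theorem f150349 : Led Lsl_dt (LP (LK LD1_c6 LD2_c25 LD3_c17)) = (LP (LK LD1_c12 LD2_c23 LD3_c29)) :=
  Lre_d IH (LK LD1_c6 LD2_c25 LD3_c17) (LK LD1_c12 LD2_c23 LD3_c29) Lrfl Lrfl
theorem f496837 : Led Lsl_at (LP (LK LD1_c12 LD2_c23 LD3_c29)) = (LP (LK LD1_c11 LD2_c38 LD3_c21)) :=
  Lgr Lrot51 (Lpe (f150349 IH) (Lpr_af (f496829 IH) (Lpe (K7.f141775 IH) (Lpn (LP (LK LD1_c11 LD2_c38 LD3_c21))))))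
theorem f496850 : Led Lsl_et (LP (LK LD1_c21 LD2_c30 LD3_c23)) = (LP (LK LD1_c12 LD2_c23 LD3_c29)) :=
  Lre_e IH (LK LD1_c21 LD2_c30 LD3_c23) (LK LD1_c12 LD2_c23 LD3_c29) Lrfl Lrfl
theorem f496851 : Led Lsl_af (LP (LK LD1_c21 LD2_c30 LD3_c23)) = (LP (LK LD1_c17 LD2_c5 LD3_c39)) :=
  Lgr Lrot50 (Lpr_et (f496850 IH) (Lpr_at (f496837 IH) (Lpe (K7.f141791 IH) (Lpn (LP (LK LD1_c17 LD2_c5 LD3_c39))))))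
theorem f117730 : Led Lsl_dt (LP (LK LD1_c21 LD2_c30 LD3_c23)) = (LP (LK LD1_c12 LD2_c23 LD3_c26)) :=
  Lre_d IH (LK LD1_c21 LD2_c30 LD3_c23) (LK LD1_c12 LD2_c23 LD3_c26) Lrfl Lrfl
theorem f496858 : Led Lsl_at (LP (LK LD1_c12 LD2_c23 LD3_c26)) = (LP (LK LD1_c9 LD2_c11 LD3_c50)) :=
  Lgr Lrot51 (Lpe (f117730 IH) (Lpr_af (f496851 IH) (Lpe (K7.f132558 IH) (Lpn (LP (LK LD1_c9 LD2_c11 LD3_c50))))))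
theorem f117725 : Led Lsl_et (LP (LK LD1_c6 LD2_c25 LD3_c16)) = (LP (LK LD1_c12 LD2_c23 LD3_c26)) :=
  Lre_e IH (LK LD1_c6 LD2_c25 LD3_c16) (LK LD1_c12 LD2_c23 LD3_c26) Lrfl Lrfl
theorem f132557 : Led Lsl_et (LP (LK LD1_c9 LD2_c11 LD3_c50)) = (LP (LK LD1_c4 LD2_c38 LD3_c3)) :=
  Lre_e IH (LK LD1_c9 LD2_c11 LD3_c50) (LK LD1_c4 LD2_c38 LD3_c3) Lrfl Lrfl
theorem f496864 : Led Lsl_af (LP (LK LD1_c6 LD2_c25 LD3_c16)) = (LP (LK LD1_c4 LD2_c38 LD3_c3)) :=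
  Lgr Lrot50 (Lpr_et (f117725 IH) (Lpr_at (f496858 IH) (Lpr_et (f132557 IH) (Lpn (LP (LK LD1_c4 LD2_c38 LD3_c3))))))
theorem f496871 : Led Lsl_ft (LP (LK LD1_c3 LD2_c17 LD3_c45)) = (LP (LK LD1_c4 LD2_c38 LD3_c3)) :=
  Lgr Lrot2 (Lpr_gt (K8.f56862 IH) (Lpe (K8.f161847 IH) (Lpr_af (f496864 IH) (Lpn (LP (LK LD1_c4 LD2_c38 LD3_c3))))))
theorem f496879 : Led Lsl_ff (LP (LK LD1_c3 LD2_c17 LD3_c45)) = (LP (LK LD1_c4 LD2_c38 LD3_c3)) :=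
  Lgr Lrot3 (Lpr_ft (f496871 IH) (Lpn (LP (LK LD1_c4 LD2_c38 LD3_c3))))
theorem f83031 : Led Lsl_dt (LP (LK LD1_c5 LD2_c56 LD3_c36)) = (LP (LK LD1_c2 LD2_c54 LD3_c37)) :=
  Lre_d IH (LK LD1_c5 LD2_c56 LD3_c36) (LK LD1_c2 LD2_c54 LD3_c37) Lrfl Lrfl
theorem f161231 : Led Lsl_gt (LP (LK LD1_c9 LD2_c11 LD3_c47)) = (LP (LK LD1_c5 LD2_c56 LD3_c36)) :=
  Lgr Lrot94 (Lpr_cf (f141762 IH) (Lpe (K7.f118883 IH) (Lpr_dt (K5.f117681 IH) (Lpe (K8.f138782 IH) (Lpr_dt (K8.f138786 IH) (Lpr_cf (K4.f96074 IH) (Lpr_df (K8.f160893 IH) (Lpr_gf (K8.f161100 IH) (Lpe (f83031 IH) (Lpn (LP (LK LD1_c5 LD2_c56 LD3_c36))))))))))))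
theorem f496888 : Led Lsl_at (LP (LK LD1_c3 LD2_c17 LD3_c45)) = (LP (LK LD1_c5 LD2_c56 LD3_c36)) :=
  Lgr Lrot26 (Lpr_ff (f496879 IH) (Lpr_gt (K7.f80029 IH) (Lpr_gt (f161231 IH) (Lpn (LP (LK LD1_c5 LD2_c56 LD3_c36))))))
theorem f496867 : Led Lsl_at (LP (LK LD1_c6 LD2_c25 LD3_c16)) = (LP (LK LD1_c4 LD2_c38 LD3_c3)) :=
  Lgr Lrot100 (Lpr_af (f496864 IH) (Lpn (LP (LK LD1_c4 LD2_c38 LD3_c3))))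
theorem f496898 : Led Lsl_ff (LP (LK LD1_c6 LD2_c25 LD3_c16)) = (LP (LK LD1_c5 LD2_c56 LD3_c36)) :=
  Lgr Lrot30 (Lpr_at (f496867 IH) (Lpe (f496879 IH) (Lpr_at (f496888 IH) (Lpn (LP (LK LD1_c5 LD2_c56 LD3_c36))))))
theorem f496902 : Led Lsl_ft (LP (LK LD1_c6 LD2_c25 LD3_c16)) = (LP (LK LD1_c5 LD2_c56 LD3_c36)) :=
  Lgr Lrot48 (Lpr_ff (f496898 IH) (Lpn (LP (LK LD1_c5 LD2_c56 LD3_c36))))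
theorem f496904 : Led Lsl_ff (LP (LK LD1_c3 LD2_c10 LD3_c17)) = (LP (LK LD1_c2 LD2_c54 LD3_c37)) :=
  Lgr Lrot19 (Lpr_dt (K8.f116982 IH) (Lpr_ft (f496902 IH) (Lpr_dt (f83031 IH) (Lpn (LP (LK LD1_c2 LD2_c54 LD3_c37))))))
theorem f496781 : Led Lsl_at (LP (LK LD1_c3 LD2_c10 LD3_c17)) = (LP (LK LD1_c2 LD2_c54 LD3_c34)) :=
  Lgr Lrot107 (Lpe (K8.f116981 IH) (Lpr_af (f496779 IH) (Lpe (K7.f83004 IH) (Lpn (LP (LK LD1_c2 LD2_c54 LD3_c34))))))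
theorem f83032 : Led Lsl_dt (LP (LK LD1_c2 LD2_c54 LD3_c37)) = (LP (LK LD1_c5 LD2_c56 LD3_c36)) :=
  Lre_d IH (LK LD1_c2 LD2_c54 LD3_c37) (LK LD1_c5 LD2_c56 LD3_c36) Lrfl Lrfl
theorem f496892 : Led Lsl_cf (LP (LK LD1_c9 LD2_c49 LD3_c11)) = (LP (LK LD1_c5 LD2_c56 LD3_c36)) :=
  Lgr Lrot1 (Lpr_at (K4.f57068 IH) (Lpe (K4.f57061 IH) (Lpr_at (f496888 IH) (Lpn (LP (LK LD1_c5 LD2_c56 LD3_c36))))))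
theorem f496911 : Led Lsl_df (LP (LK LD1_c5 LD2_c56 LD3_c12)) = (LP (LK LD1_c9 LD2_c49 LD3_c11)) :=
  Lgr Lrot106 (Lpr_ct (K8.f119670 IH) (Lpr_dt (K8.f36568 IH) (Lpr_ct (f36569 IH) (Lpe (K8.f141833 IH) (Lpr_ct (K7.f59560 IH) (Lpe (f496781 IH) (Lpr_ff (f496904 IH) (Lpr_dt (f83032 IH) (Lpe (f496892 IH) (Lpn (LP (LK LD1_c9 LD2_c49 LD3_c11))))))))))))
theorem f496917 : Led Lsl_ft (LP (LK LD1_c5 LD2_c56 LD3_c12)) = (LP (LK LD1_c6 LD2_c25 LD3_c5)) :=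
  Lgr Lrot54 (Lpr_df (f496911 IH) (Lpe (K4.f64562 IH) (Lpr_df (K5.f116801 IH) (Lpn (LP (LK LD1_c6 LD2_c25 LD3_c5))))))
theorem f496936 : Led Lsl_af (LP (LK LD1_c5 LD2_c56 LD3_c13)) = (LP (LK LD1_c6 LD2_c25 LD3_c5)) :=
  Lgr Lrot31 (Lpr_gf (K6.f71889 IH) (Lpr_gf (K8.f160687 IH) (Lpr_ft (f496917 IH) (Lpn (LP (LK LD1_c6 LD2_c25 LD3_c5))))))
theorem f116809 : Led Lsl_et (LP (LK LD1_c12 LD2_c23 LD3_c12)) = (LP (LK LD1_c6 LD2_c25 LD3_c5)) :=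
  Lre_e IH (LK LD1_c12 LD2_c23 LD3_c12) (LK LD1_c6 LD2_c25 LD3_c5) Lrfl Lrfl
theorem f496944 : Led Lsl_at (LP (LK LD1_c11 LD2_c37 LD3_c41)) = (LP (LK LD1_c12 LD2_c23 LD3_c12)) :=
  Lgr Lrot80 (Lpe (f112614 IH) (Lpr_af (f496936 IH) (Lpe (f116809 IH) (Lpn (LP (LK LD1_c12 LD2_c23 LD3_c12))))))
theorem f138241 : Led Lsl_ct (LP (LK LD1_c11 LD2_c34 LD3_c6)) = (LP (LK LD1_c5 LD2_c54 LD3_c10)) :=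
  Lre_c IH (LK LD1_c11 LD2_c34 LD3_c6) (LK LD1_c5 LD2_c54 LD3_c10) Lrfl Lrfl
theorem f138175 : Led Lsl_et (LP (LK LD1_c4 LD2_c46 LD3_c38)) = (LP (LK LD1_c9 LD2_c25 LD3_c58)) :=
  Lre_e IH (LK LD1_c4 LD2_c46 LD3_c38) (LK LD1_c9 LD2_c25 LD3_c58) Lrfl Lrfl
theorem f138177 : Led Lsl_bt (LP (LK LD1_c9 LD2_c25 LD3_c58)) = (LP (LK LD1_c11 LD2_c34 LD3_c6)) :=
  Lgr Lrot119 (Lpe (f138175 IH) (Lpr_bf (K8.f138165 IH) (Lpe (f138176 IH) (Lpn (LP (LK LD1_c11 LD2_c34 LD3_c6))))))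
theorem f112869 : Led Lsl_ct (LP (LK LD1_c17 LD2_c23 LD3_c26)) = (LP (LK LD1_c9 LD2_c25 LD3_c58)) :=
  Lre_c IH (LK LD1_c17 LD2_c23 LD3_c26) (LK LD1_c9 LD2_c25 LD3_c58) Lrfl Lrfl
theorem f138242 : Led Lsl_ct (LP (LK LD1_c9 LD2_c17 LD3_c45)) = (LP (LK LD1_c11 LD2_c37 LD3_c41)) :=
  Lgr Lrot83 (Lpr_bf (K8.f138233 IH) (Lpe (f138241 IH) (Lpe (f138177 IH) (Lpe (f112869 IH) (Lpe (f112615 IH) (Lpn (LP (LK LD1_c11 LD2_c37 LD3_c41))))))))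
theorem f151263 : Led Lsl_ct (LP (LK LD1_c12 LD2_c23 LD3_c12)) = (LP (LK LD1_c6 LD2_c25 LD3_c6)) :=
  Lre_c IH (LK LD1_c12 LD2_c23 LD3_c12) (LK LD1_c6 LD2_c25 LD3_c6) Lrfl Lrfl
theorem f496948 : Led Lsl_af (LP (LK LD1_c9 LD2_c17 LD3_c45)) = (LP (LK LD1_c6 LD2_c25 LD3_c6)) :=
  Lgr Lrot68 (Lpr_ct (f138242 IH) (Lpr_at (f496944 IH) (Lpr_ct (f151263 IH) (Lpn (LP (LK LD1_c6 LD2_c25 LD3_c6))))))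
theorem f496950 : Led Lsl_at (LP (LK LD1_c9 LD2_c17 LD3_c45)) = (LP (LK LD1_c6 LD2_c25 LD3_c6)) :=
  Lgr Lrot100 (Lpr_af (f496948 IH) (Lpn (LP (LK LD1_c6 LD2_c25 LD3_c6))))
theorem f138236 : Led Lsl_et (LP (LK LD1_c4 LD2_c41 LD3_c21)) = (LP (LK LD1_c9 LD2_c17 LD3_c45)) :=
  Lre_e IH (LK LD1_c4 LD2_c41 LD3_c21) (LK LD1_c9 LD2_c17 LD3_c45) Lrfl Lrfl
theorem f425929 : Led Lsl_et (LP (LK LD1_c6 LD2_c25 LD3_c6)) = (LP (LK LD1_c3 LD2_c10 LD3_c12)) :=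
  Lre_e IH (LK LD1_c6 LD2_c25 LD3_c6) (LK LD1_c3 LD2_c10 LD3_c12) Lrfl Lrfl
theorem f496955 : Led Lsl_af (LP (LK LD1_c4 LD2_c41 LD3_c21)) = (LP (LK LD1_c3 LD2_c10 LD3_c12)) :=
  Lgr Lrot50 (Lpr_et (f138236 IH) (Lpr_at (f496950 IH) (Lpr_et (f425929 IH) (Lpn (LP (LK LD1_c3 LD2_c10 LD3_c12))))))
theorem f161093 : Led Lsl_gf (LP (LK LD1_c5 LD2_c55 LD3_c29)) = (LP (LK LD1_c4 LD2_c41 LD3_c20)) :=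
  Lgr Lrot76 (Lpe (K8.f158817 IH) (Lpr_ff (K8.f158736 IH) (Lpr_gt (K8.f161081 IH) (Lpn (LP (LK LD1_c4 LD2_c41 LD3_c20))))))
theorem f496960 : Led Lsl_ft (LP (LK LD1_c4 LD2_c41 LD3_c20)) = (LP (LK LD1_c3 LD2_c10 LD3_c12)) :=
  Lgr Lrot2 (Lpe (f161093 IH) (Lpe (K8.f138261 IH) (Lpr_af (f496955 IH) (Lpn (LP (LK LD1_c3 LD2_c10 LD3_c12))))))
theorem f496962 : Led Lsl_ff (LP (LK LD1_c2 LD2_c17 LD3_c43)) = (LP (LK LD1_c1 LD2_c31 LD3_c15)) :=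
  Lgr Lrot19 (Lpr_dt (K8.f36567 IH) (Lpr_ft (f496960 IH) (Lpr_dt (K4.f112486 IH) (Lpn (LP (LK LD1_c1 LD2_c31 LD3_c15))))))
theorem f161817 : Led Lsl_gf (LP (LK LD1_c1 LD2_c31 LD3_c18)) = (LP (LK LD1_c3 LD2_c10 LD3_c10)) :=
  Lgr Lrot144 (Lpr_dt (K8.f117721 IH) (Lpr_gt (K8.f158834 IH) (Lpr_dt (K8.f158724 IH) (Lpr_cf (K8.f158671 IH) (Lpe (K6.f24077 IH) (Lpe (K7.f117538 IH) (Lpe (K4.f117532 IH) (Lpr_gf (K8.f161008 IH) (Lpr_cf (K8.f161811 IH) (Lpn (LP (LK LD1_c3 LD2_c10 LD3_c10))))))))))))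
theorem f496964 : Led Lsl_at (LP (LK LD1_c2 LD2_c17 LD3_c43)) = (LP (LK LD1_c1 LD2_c31 LD3_c18)) :=
  Lgr Lrot26 (Lpr_ff (f496962 IH) (Lpr_gt (K8.f69210 IH) (Lpe (f161817 IH) (Lpn (LP (LK LD1_c1 LD2_c31 LD3_c18))))))
theorem f496958 : Led Lsl_at (LP (LK LD1_c2 LD2_c17 LD3_c45)) = (LP (LK LD1_c1 LD2_c31 LD3_c15)) :=
  Lgr Lrot51 (Lpe (K8.f59196 IH) (Lpr_af (f496955 IH) (Lpe (K4.f116806 IH) (Lpn (LP (LK LD1_c1 LD2_c31 LD3_c15))))))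
theorem f496970 : Led Lsl_ff (LP (LK LD1_c2 LD2_c17 LD3_c45)) = (LP (LK LD1_c1 LD2_c31 LD3_c18)) :=
  Lgr Lrot30 (Lpr_at (f496958 IH) (Lpe (f496962 IH) (Lpr_at (f496964 IH) (Lpn (LP (LK LD1_c1 LD2_c31 LD3_c18))))))
theorem f496976 : Led Lsl_ft (LP (LK LD1_c2 LD2_c17 LD3_c45)) = (LP (LK LD1_c1 LD2_c31 LD3_c18)) :=
  Lgr Lrot48 (Lpr_ff (f496970 IH) (Lpn (LP (LK LD1_c1 LD2_c31 LD3_c18))))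
theorem f496980 : Led Lsl_ff (LP (LK LD1_c4 LD2_c41 LD3_c21)) = (LP (LK LD1_c3 LD2_c10 LD3_c15)) :=
  Lgr Lrot19 (Lpr_dt (K8.f59196 IH) (Lpr_ft (f496976 IH) (Lpr_dt (K8.f117721 IH) (Lpn (LP (LK LD1_c3 LD2_c10 LD3_c15))))))
theorem f496986 : Led Lsl_ft (LP (LK LD1_c5 LD2_c56 LD3_c13)) = (LP (LK LD1_c6 LD2_c25 LD3_c12)) :=
  Lgr Lrot4 (Lpe (K8.f138257 IH) (Lpr_ff (f496980 IH) (Lpe (K8.f117744 IH) (Lpn (LP (LK LD1_c6 LD2_c25 LD3_c12))))))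
theorem f496992 : Led Lsl_ff (LP (LK LD1_c5 LD2_c56 LD3_c13)) = (LP (LK LD1_c6 LD2_c25 LD3_c12)) :=
  Lgr Lrot3 (Lpr_ft (f496986 IH) (Lpn (LP (LK LD1_c6 LD2_c25 LD3_c12))))
theorem f496994 : Led Lsl_ft (LP (LK LD1_c9 LD2_c25 LD3_c57)) = (LP (LK LD1_c4 LD2_c59 LD3_c25)) :=
  Lgr Lrot75 (Lpe (K6.f112612 IH) (Lpr_ff (f496992 IH) (Lpr_bf (K11.f117734 IH) (Lpn (LP (LK LD1_c4 LD2_c59 LD3_c25))))))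
theorem f497000 : Led Lsl_af (LP (LK LD1_c9 LD2_c25 LD3_c49)) = (LP (LK LD1_c4 LD2_c59 LD3_c25)) :=
  Lgr Lrot31 (Lpe (K4.f104986 IH) (Lpe (f427437 IH) (Lpr_ft (f496994 IH) (Lpn (LP (LK LD1_c4 LD2_c59 LD3_c25))))))
theorem f105004 : Led Lsl_et (LP (LK LD1_c9 LD2_c25 LD3_c49)) = (LP (LK LD1_c17 LD2_c23 LD3_c18)) :=
  Lre_e IH (LK LD1_c9 LD2_c25 LD3_c49) (LK LD1_c17 LD2_c23 LD3_c18) Lrfl Lrfl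
theorem f75385 : Led Lsl_et (LP (LK LD1_c9 LD2_c49 LD3_c15)) = (LP (LK LD1_c4 LD2_c59 LD3_c25)) :=
  Lre_e IH (LK LD1_c9 LD2_c49 LD3_c15) (LK LD1_c4 LD2_c59 LD3_c25) Lrfl Lrfl
theorem f497010 : Led Lsl_at (LP (LK LD1_c17 LD2_c23 LD3_c18)) = (LP (LK LD1_c9 LD2_c49 LD3_c15)) :=
  Lgr Lrot80 (Lpe (f105004 IH) (Lpr_af (f497000 IH) (Lpe (f75385 IH) (Lpn (LP (LK LD1_c9 LD2_c49 LD3_c15))))))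
theorem f147857 : Led Lsl_ct (LP (LK LD1_c9 LD2_c25 LD3_c50)) = (LP (LK LD1_c17 LD2_c23 LD3_c18)) :=
  Lre_c IH (LK LD1_c9 LD2_c25 LD3_c50) (LK LD1_c17 LD2_c23 LD3_c18) Lrfl Lrfl
theorem f75086 : Led Lsl_et (LP (LK LD1_c6 LD2_c0 LD3_c43)) = (LP (LK LD1_c2 LD2_c56 LD3_c36)) :=
  Lre_e IH (LK LD1_c6 LD2_c0 LD3_c43) (LK LD1_c2 LD2_c56 LD3_c36) Lrfl Lrfl
theorem f74401 : Led Lsl_et (LP (LK LD1_c4 LD2_c59 LD3_c25)) = (LP (LK LD1_c9 LD2_c49 LD3_c15)) :=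
  Lre_e IH (LK LD1_c4 LD2_c59 LD3_c25) (LK LD1_c9 LD2_c49 LD3_c15) Lrfl Lrfl
theorem f75367 : Led Lsl_cf (LP (LK LD1_c6 LD2_c0 LD3_c43)) = (LP (LK LD1_c9 LD2_c49 LD3_c15)) :=
  Lgr Lrot39 (Lpr_et (f75086 IH) (Lpr_ct (K8.f75342 IH) (Lpr_et (f74401 IH) (Lpn (LP (LK LD1_c9 LD2_c49 LD3_c15))))))
theorem f497014 : Led Lsl_af (LP (LK LD1_c9 LD2_c25 LD3_c50)) = (LP (LK LD1_c6 LD2_c0 LD3_c43)) :=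
  Lgr Lrot68 (Lpr_ct (f147857 IH) (Lpr_at (f497010 IH) (Lpe (f75367 IH) (Lpn (LP (LK LD1_c6 LD2_c0 LD3_c43))))))
theorem f104963 : Led Lsl_dt (LP (LK LD1_c9 LD2_c25 LD3_c50)) = (LP (LK LD1_c17 LD2_c23 LD3_c20)) :=
  Lre_d IH (LK LD1_c9 LD2_c25 LD3_c50) (LK LD1_c17 LD2_c23 LD3_c20) Lrfl Lrfl
theorem f75382 : Led Lsl_dt (LP (LK LD1_c11 LD2_c45 LD3_c47)) = (LP (LK LD1_c6 LD2_c0 LD3_c43)) :=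
  Lre_d IH (LK LD1_c11 LD2_c45 LD3_c47) (LK LD1_c6 LD2_c0 LD3_c43) Lrfl Lrfl
theorem f497018 : Led Lsl_at (LP (LK LD1_c17 LD2_c23 LD3_c20)) = (LP (LK LD1_c11 LD2_c45 LD3_c47)) :=
  Lgr Lrot51 (Lpe (f104963 IH) (Lpr_af (f497014 IH) (Lpe (f75382 IH) (Lpn (LP (LK LD1_c11 LD2_c45 LD3_c47))))))
theorem f497039 : Led Lsl_et (LP (LK LD1_c9 LD2_c25 LD3_c52)) = (LP (LK LD1_c17 LD2_c23 LD3_c20)) :=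
  Lre_e IH (LK LD1_c9 LD2_c25 LD3_c52) (LK LD1_c17 LD2_c23 LD3_c20) Lrfl Lrfl
theorem f497040 : Led Lsl_et (LP (LK LD1_c11 LD2_c45 LD3_c47)) = (LP (LK LD1_c6 LD2_c0 LD3_c44)) :=
  Lre_e IH (LK LD1_c11 LD2_c45 LD3_c47) (LK LD1_c6 LD2_c0 LD3_c44) Lrfl Lrfl
theorem f497041 : Led Lsl_af (LP (LK LD1_c9 LD2_c25 LD3_c52)) = (LP (LK LD1_c6 LD2_c0 LD3_c44)) :=
  Lgr Lrot50 (Lpr_et (f497039 IH) (Lpr_at (f497018 IH) (Lpr_et (f497040 IH) (Lpn (LP (LK LD1_c6 LD2_c0 LD3_c44))))))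
theorem f497050 : Led Lsl_dt (LP (LK LD1_c9 LD2_c25 LD3_c52)) = (LP (LK LD1_c4 LD2_c46 LD3_c36)) :=
  Lre_d IH (LK LD1_c9 LD2_c25 LD3_c52) (LK LD1_c4 LD2_c46 LD3_c36) Lrfl Lrfl
theorem f497051 : Led Lsl_dt (LP (LK LD1_c2 LD2_c56 LD3_c37)) = (LP (LK LD1_c6 LD2_c0 LD3_c44)) :=
  Lre_d IH (LK LD1_c2 LD2_c56 LD3_c37) (LK LD1_c6 LD2_c0 LD3_c44) Lrfl Lrfl
theorem f497052 : Led Lsl_at (LP (LK LD1_c4 LD2_c46 LD3_c36)) = (LP (LK LD1_c2 LD2_c56 LD3_c37)) :=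
  Lgr Lrot51 (Lpe (f497050 IH) (Lpr_af (f497041 IH) (Lpe (f497051 IH) (Lpn (LP (LK LD1_c2 LD2_c56 LD3_c37))))))
theorem f104960 : Led Lsl_et (LP (LK LD1_c2 LD2_c21 LD3_c14)) = (LP (LK LD1_c4 LD2_c46 LD3_c36)) :=
  Lre_e IH (LK LD1_c2 LD2_c21 LD3_c14) (LK LD1_c4 LD2_c46 LD3_c36) Lrfl Lrfl
theorem f497061 : Led Lsl_et (LP (LK LD1_c2 LD2_c56 LD3_c37)) = (LP (LK LD1_c1 LD2_c24 LD3_c6)) :=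
  Lre_e IH (LK LD1_c2 LD2_c56 LD3_c37) (LK LD1_c1 LD2_c24 LD3_c6) Lrfl Lrfl
theorem f497062 : Led Lsl_af (LP (LK LD1_c2 LD2_c21 LD3_c14)) = (LP (LK LD1_c1 LD2_c24 LD3_c6)) :=
  Lgr Lrot50 (Lpr_et (f104960 IH) (Lpr_at (f497052 IH) (Lpr_et (f497061 IH) (Lpn (LP (LK LD1_c1 LD2_c24 LD3_c6))))))
theorem f497088 : Led Lsl_ft (LP (LK LD1_c2 LD2_c21 LD3_c15)) = (LP (LK LD1_c1 LD2_c24 LD3_c6)) :=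
  Lgr Lrot2 (Lpr_gt (K4.f105024 IH) (Lpr_gt (K8.f79304 IH) (Lpr_af (f497062 IH) (Lpn (LP (LK LD1_c1 LD2_c24 LD3_c6))))))
theorem f497094 : Led Lsl_ff (LP (LK LD1_c2 LD2_c21 LD3_c15)) = (LP (LK LD1_c1 LD2_c24 LD3_c6)) :=
  Lgr Lrot3 (Lpr_ft (f497088 IH) (Lpn (LP (LK LD1_c1 LD2_c24 LD3_c6))))
theorem f497102 : Led Lsl_at (LP (LK LD1_c2 LD2_c21 LD3_c15)) = (LP (LK LD1_c1 LD2_c24 LD3_c5)) :=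
  Lgr Lrot26 (Lpr_ff (f497094 IH) (Lpr_gt (K2.f68994 IH) (Lpr_gt (K6.f56782 IH) (Lpn (LP (LK LD1_c1 LD2_c24 LD3_c5))))))
theorem f497082 : Led Lsl_at (LP (LK LD1_c2 LD2_c21 LD3_c14)) = (LP (LK LD1_c1 LD2_c24 LD3_c6)) :=
  Lgr Lrot100 (Lpr_af (f497062 IH) (Lpn (LP (LK LD1_c1 LD2_c24 LD3_c6))))
theorem f497115 : Led Lsl_ff (LP (LK LD1_c2 LD2_c21 LD3_c14)) = (LP (LK LD1_c1 LD2_c24 LD3_c5)) :=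
  Lgr Lrot30 (Lpr_at (f497082 IH) (Lpe (f497094 IH) (Lpr_at (f497102 IH) (Lpn (LP (LK LD1_c1 LD2_c24 LD3_c5))))))
theorem f497126 : Led Lsl_ft (LP (LK LD1_c2 LD2_c21 LD3_c14)) = (LP (LK LD1_c1 LD2_c24 LD3_c5)) :=
  Lgr Lrot48 (Lpr_ff (f497115 IH) (Lpn (LP (LK LD1_c1 LD2_c24 LD3_c5))))
theorem f497132 : Led Lsl_ff (LP (LK LD1_c4 LD2_c46 LD3_c35)) = (LP (LK LD1_c2 LD2_c56 LD3_c32)) :=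
  Lgr Lrot19 (Lpr_dt (K4.f26447 IH) (Lpr_ft (f497126 IH) (Lpr_dt (K28.f72715 IH) (Lpn (LP (LK LD1_c2 LD2_c56 LD3_c32))))))
theorem f497143 : Led Lsl_ft (LP (LK LD1_c9 LD2_c25 LD3_c49)) = (LP (LK LD1_c4 LD2_c59 LD3_c34)) :=
  Lgr Lrot4 (Lpe (K4.f79306 IH) (Lpr_ff (f497132 IH) (Lpe (K8.f75408 IH) (Lpn (LP (LK LD1_c4 LD2_c59 LD3_c34))))))
theorem f497156 : Led Lsl_ff (LP (LK LD1_c9 LD2_c25 LD3_c49)) = (LP (LK LD1_c4 LD2_c59 LD3_c34)) :=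
  Lgr Lrot3 (Lpr_ft (f497143 IH) (Lpn (LP (LK LD1_c4 LD2_c59 LD3_c34))))
theorem f497162 : Led Lsl_ft (LP (LK LD1_c4 LD2_c59 LD3_c11)) = (LP (LK LD1_c2 LD2_c27 LD3_c37)) :=
  Lgr Lrot54 (Lpr_df (K4.f104994 IH) (Lpr_ff (f497156 IH) (Lpe (K8.f74391 IH) (Lpn (LP (LK LD1_c2 LD2_c27 LD3_c37))))))
def v1386 : LQ := Led Lsl_at (LP (LK LD1_c1 LD2_c10 LD3_c58))
theorem f495274 : Led Lsl_at (LP (LK LD1_c1 LD2_c10 LD3_c58)) = v1386 :=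
  Lrfl
theorem f495275 : Led Lsl_af (LP (LK LD1_c1 LD2_c10 LD3_c58)) = v1386 :=
  Lgr Lrot0 (Lpr_at (f495274 IH) (Lpn v1386))
theorem f495276 : Led Lsl_ft (LP (LK LD1_c1 LD2_c10 LD3_c59)) = v1386 :=
  Lgr Lrot2 (Lpr_gt (K6.f68993 IH) (Lpr_gt (K4.f56864 IH) (Lpr_af (f495275 IH) (Lpn v1386))))
theorem f497169 : (LP (LK LD1_c2 LD2_c27 LD3_c29)) = v1386 :=
  (Llr Lrot108 (Lpr_ct (K4.f40411 IH) (Lpr_ft (f497162 IH) (Lpr_ct (K6.f74382 IH) (Lpr_ft (f495276 IH) (Lpn v1386)))))).symm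
theorem f76089 : Led Lsl_dt (LP (LK LD1_c1 LD2_c24 LD3_c49)) = (LP (LK LD1_c1 LD2_c10 LD3_c59)) :=
  Lgr Lrot42 (Lpr_df (K4.f76077 IH) (Lpn (LP (LK LD1_c1 LD2_c10 LD3_c59))))
def v1512 : LQ := Led Lsl_at (LP (LK LD1_c1 LD2_c20 LD3_c48))
theorem f495983 : Led Lsl_at (LP (LK LD1_c1 LD2_c20 LD3_c48)) = v1512 :=
  Lrfl
theorem f495984 : Led Lsl_af (LP (LK LD1_c1 LD2_c20 LD3_c48)) = v1512 :=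
  Lgr Lrot0 (Lpr_at (f495983 IH) (Lpn v1512))
theorem f495985 : Led Lsl_ft (LP (LK LD1_c1 LD2_c20 LD3_c49)) = v1512 :=
  Lgr Lrot2 (Lpr_gt (K4.f60937 IH) (Lpr_gt (K4.f60930 IH) (Lpr_af (f495984 IH) (Lpn v1512))))
theorem f497176 : (LP (LK LD1_c1 LD2_c24 LD3_c49)) = v1512 :=
  (Llr Lrot78 (Lpr_dt (f76089 IH) (Lpr_ft (f495276 IH) (Lpq (f497169 IH) (Lpe (K4.f104801 IH) (Lpr_ft (f495985 IH) (Lpn v1512))))))).symm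
theorem f60944 : Led Lsl_ct (LP (LK LD1_c2 LD2_c49 LD3_c20)) = (LP (LK LD1_c1 LD2_c20 LD3_c49)) :=
  Lre_c IH (LK LD1_c2 LD2_c49 LD3_c20) (LK LD1_c1 LD2_c20 LD3_c49) Lrfl Lrfl
theorem f497183 : Led Lsl_ff (LP (LK LD1_c2 LD2_c49 LD3_c20)) = (LP (LK LD1_c2 LD2_c58 LD3_c19)) :=
  Lgr Lrot23 (Lpr_ct (f60944 IH) (Lpr_ft (f495985 IH) (Lpq (f497176 IH) (Lpr_ct (K4.f76086 IH) (Lpn (LP (LK LD1_c2 LD2_c58 LD3_c19)))))))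
theorem f205756 : Led Lsl_bt (LP (LK LD1_c1 LD2_c20 LD3_c55)) = (LP (LK LD1_c2 LD2_c49 LD3_c20)) :=
  Lgr Lrot128 (Lpe (K8.f73468 IH) (Lpr_bf (K11.f205752 IH) (Lpe (K4.f60941 IH) (Lpe (K4.f60943 IH) (Lpe (f60944 IH) (Lpn (LP (LK LD1_c2 LD2_c49 LD3_c20))))))))
theorem f210034 : Led Lsl_bf (LP (LK LD1_c1 LD2_c20 LD3_c55)) = (LP (LK LD1_c2 LD2_c49 LD3_c20)) :=
  Lgr Lrot24 (Lpr_bt (f205756 IH) (Lpn (LP (LK LD1_c2 LD2_c49 LD3_c20))))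
def v1519 : LQ := Led Lsl_ft (LP (LK LD1_c1 LD2_c20 LD3_c55))
theorem f496025 : Led Lsl_ft (LP (LK LD1_c1 LD2_c20 LD3_c55)) = v1519 :=
  Lrfl
theorem f497189 : v1519 = (LP (LK LD1_c1 LD2_c28 LD3_c24)) :=
  (Llr Lrot75 (Lpe (f496025 IH) (Lpr_bf (f210034 IH) (Lpr_ff (f497183 IH) (Lpe (K5.f79927 IH) (Lpn (LP (LK LD1_c1 LD2_c28 LD3_c24)))))))).symm
theorem f497196 : Led Lsl_ff (LP (LK LD1_c1 LD2_c56 LD3_c31)) = (LP (LK LD1_c1 LD2_c38 LD3_c17)) :=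
  Lgr Lrot19 (Lpe (K8.f149985 IH) (Lpr_ft (f496025 IH) (Lpqs (f497189 IH) (Lpr_dt (K4.f79929 IH) (Lpn (LP (LK LD1_c1 LD2_c38 LD3_c17)))))))
theorem f497202 : Led Lsl_at (LP (LK LD1_c1 LD2_c56 LD3_c31)) = (LP (LK LD1_c1 LD2_c38 LD3_c18)) :=
  Lgr Lrot26 (Lpr_ff (f497196 IH) (Lpe (K4.f69054 IH) (Lpr_gt (K8.f40335 IH) (Lpn (LP (LK LD1_c1 LD2_c38 LD3_c18))))))
def v1518 : LQ := Led Lsl_at (LP (LK LD1_c1 LD2_c20 LD3_c55))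
theorem f496021 : Led Lsl_at (LP (LK LD1_c1 LD2_c20 LD3_c55)) = v1518 :=
  Lrfl
theorem f496022 : Led Lsl_af (LP (LK LD1_c1 LD2_c20 LD3_c55)) = v1518 :=
  Lgr Lrot0 (Lpr_at (f496021 IH) (Lpn v1518))
theorem f497212 : v1518 = (LP (LK LD1_c1 LD2_c28 LD3_c25)) :=
  (Llr Lrot117 (Lpe (f496022 IH) (Lpr_dt (K7.f149982 IH) (Lpr_at (f497202 IH) (Lpe (K8.f149215 IH) (Lpn (LP (LK LD1_c1 LD2_c28 LD3_c25)))))))).symm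
theorem f496023 : Led Lsl_ft (LP (LK LD1_c1 LD2_c20 LD3_c56)) = v1518 :=
  Lgr Lrot2 (Lpr_gt (K8.f73285 IH) (Lpr_gt (K7.f56587 IH) (Lpr_af (f496022 IH) (Lpn v1518))))
theorem f497221 : Led Lsl_ff (LP (LK LD1_c1 LD2_c56 LD3_c32)) = (LP (LK LD1_c1 LD2_c38 LD3_c18)) :=
  Lgr Lrot19 (Lpr_dt (K8.f157800 IH) (Lpr_ft (f496023 IH) (Lpqs (f497212 IH) (Lpr_dt (K8.f149211 IH) (Lpn (LP (LK LD1_c1 LD2_c38 LD3_c18)))))))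
theorem f497229 : Led Lsl_ft (LP (LK LD1_c1 LD2_c56 LD3_c32)) = (LP (LK LD1_c1 LD2_c38 LD3_c18)) :=
  Lgr Lrot48 (Lpr_ff (f497221 IH) (Lpn (LP (LK LD1_c1 LD2_c38 LD3_c18))))
theorem f497235 : Led Lsl_ff (LP (LK LD1_c3 LD2_c59 LD3_c45)) = (LP (LK LD1_c3 LD2_c24 LD3_c1)) :=
  Lgr Lrot23 (Lpr_ct (f40426 IH) (Lpr_ft (f497229 IH) (Lpr_ct (K11.f40405 IH) (Lpn (LP (LK LD1_c3 LD2_c24 LD3_c1))))))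
theorem f159073 : Led Lsl_gt (LP (LK LD1_c3 LD2_c24 LD3_c1)) = (LP (LK LD1_c6 LD2_c44 LD3_c13)) :=
  Lgr Lrot46 (Lpr_gf (K11.f120799 IH) (Lpr_ft (K8.f159069 IH) (Lpe (K8.f159056 IH) (Lpn (LP (LK LD1_c6 LD2_c44 LD3_c13))))))
theorem f497242 : Led Lsl_at (LP (LK LD1_c3 LD2_c59 LD3_c45)) = (LP (LK LD1_c3 LD2_c23 LD3_c60)) :=
  Lgr Lrot26 (Lpr_ff (f497235 IH) (Lpr_gt (f159073 IH) (Lpr_gt (K8.f159022 IH) (Lpn (LP (LK LD1_c3 LD2_c23 LD3_c60))))))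
theorem f40683 : Led Lsl_dt (LP (LK LD1_c8 LD2_c0 LD3_c34)) = (LP (LK LD1_c3 LD2_c59 LD3_c45)) :=
  Lre_d IH (LK LD1_c8 LD2_c0 LD3_c34) (LK LD1_c3 LD2_c59 LD3_c45) Lrfl Lrfl
theorem f69010 : Led Lsl_dt (LP (LK LD1_c3 LD2_c23 LD3_c60)) = (LP (LK LD1_c6 LD2_c50 LD3_c60)) :=
  Lre_d IH (LK LD1_c3 LD2_c23 LD3_c60) (LK LD1_c6 LD2_c50 LD3_c60) Lrfl Lrfl
theorem f497249 : Led Lsl_af (LP (LK LD1_c8 LD2_c0 LD3_c34)) = (LP (LK LD1_c6 LD2_c50 LD3_c60)) :=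
  Lgr Lrot117 (Lpr_dt (f40683 IH) (Lpr_at (f497242 IH) (Lpr_dt (f69010 IH) (Lpn (LP (LK LD1_c6 LD2_c50 LD3_c60))))))
theorem f40682 : Led Lsl_dt (LP (LK LD1_c3 LD2_c59 LD3_c45)) = (LP (LK LD1_c8 LD2_c0 LD3_c34)) :=
  Lre_d IH (LK LD1_c3 LD2_c59 LD3_c45) (LK LD1_c8 LD2_c0 LD3_c34) Lrfl Lrfl
theorem f40407 : Led Lsl_dt (LP (LK LD1_c6 LD2_c51 LD3_c2)) = (LP (LK LD1_c3 LD2_c24 LD3_c1)) :=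
  Lre_d IH (LK LD1_c6 LD2_c51 LD3_c2) (LK LD1_c3 LD2_c24 LD3_c1) Lrfl Lrfl
theorem f497239 : Led Lsl_ft (LP (LK LD1_c8 LD2_c0 LD3_c34)) = (LP (LK LD1_c6 LD2_c51 LD3_c2)) :=
  Lgr Lrot54 (Lpe (f40682 IH) (Lpr_ff (f497235 IH) (Lpe (f40407 IH) (Lpn (LP (LK LD1_c6 LD2_c51 LD3_c2))))))
theorem f69004 : Led Lsl_dt (LP (LK LD1_c6 LD2_c50 LD3_c60)) = (LP (LK LD1_c3 LD2_c23 LD3_c60)) :=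
  Lre_d IH (LK LD1_c6 LD2_c50 LD3_c60) (LK LD1_c3 LD2_c23 LD3_c60) Lrfl Lrfl
theorem f112378 : Led Lsl_bt (LP (LK LD1_c4 LD2_c36 LD3_c15)) = (LP (LK LD1_c6 LD2_c50 LD3_c60)) :=
  Lgr Lrot95 (Lpr_df (K11.f112357 IH) (Lpr_bf (K6.f69028 IH) (Lpe (f69004 IH) (Lpn (LP (LK LD1_c6 LD2_c50 LD3_c60))))))
theorem f112382 : Led Lsl_bf (LP (LK LD1_c4 LD2_c36 LD3_c15)) = (LP (LK LD1_c6 LD2_c50 LD3_c60)) :=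
  Lgr Lrot24 (Lpr_bt (f112378 IH) (Lpn (LP (LK LD1_c6 LD2_c50 LD3_c60))))
theorem f22757 : Led Lsl_bt (LP (LK LD1_c2 LD2_c53 LD3_c43)) = (LP (LK LD1_c5 LD2_c54 LD3_c43)) :=
  Lre_b IH (LK LD1_c2 LD2_c53 LD3_c43) (LK LD1_c5 LD2_c54 LD3_c43) Lrfl Lrfl
theorem f496560 : Led Lsl_ff (LP (LK LD1_c6 LD2_c50 LD3_c60)) = (LP (LK LD1_c5 LD2_c54 LD3_c43)) :=
  Lgr Lrot25 (Lpe (f112382 IH) (Lpr_ft (f496558 IH) (Lpr_bt (f22757 IH) (Lpn (LP (LK LD1_c5 LD2_c54 LD3_c43))))))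
theorem f497266 : Led Lsl_at (LP (LK LD1_c6 LD2_c51 LD3_c2)) = (LP (LK LD1_c5 LD2_c54 LD3_c43)) :=
  Lgr Lrot66 (Lpe (f497239 IH) (Lpr_af (f497249 IH) (Lpr_ff (f496560 IH) (Lpn (LP (LK LD1_c5 LD2_c54 LD3_c43))))))
theorem f40406 : Led Lsl_dt (LP (LK LD1_c3 LD2_c24 LD3_c1)) = (LP (LK LD1_c6 LD2_c51 LD3_c2)) :=
  Lre_d IH (LK LD1_c3 LD2_c24 LD3_c1) (LK LD1_c6 LD2_c51 LD3_c2) Lrfl Lrfl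
theorem f149977 : Led Lsl_dt (LP (LK LD1_c5 LD2_c54 LD3_c43)) = (LP (LK LD1_c3 LD2_c59 LD3_c42)) :=
  Lgr Lrot79 (Lpe (f22757 IH) (Lpe (K7.f22772 IH) (Lpr_bf (K7.f149973 IH) (Lpn (LP (LK LD1_c3 LD2_c59 LD3_c42))))))
theorem f497272 : Led Lsl_af (LP (LK LD1_c3 LD2_c24 LD3_c1)) = (LP (LK LD1_c3 LD2_c59 LD3_c42)) :=
  Lgr Lrot117 (Lpr_dt (f40406 IH) (Lpr_at (f497266 IH) (Lpr_dt (f149977 IH) (Lpn (LP (LK LD1_c3 LD2_c59 LD3_c42))))))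
theorem f209192 : Led Lsl_et (LP (LK LD1_c3 LD2_c24 LD3_c1)) = (LP (LK LD1_c6 LD2_c51 LD3_c3)) :=
  Lre_e IH (LK LD1_c3 LD2_c24 LD3_c1) (LK LD1_c6 LD2_c51 LD3_c3) Lrfl Lrfl
theorem f149979 : Led Lsl_et (LP (LK LD1_c8 LD2_c0 LD3_c28)) = (LP (LK LD1_c3 LD2_c59 LD3_c42)) :=
  Lre_e IH (LK LD1_c8 LD2_c0 LD3_c28) (LK LD1_c3 LD2_c59 LD3_c42) Lrfl Lrfl
theorem f497274 : Led Lsl_at (LP (LK LD1_c6 LD2_c51 LD3_c3)) = (LP (LK LD1_c8 LD2_c0 LD3_c28)) :=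
  Lgr Lrot80 (Lpe (f209192 IH) (Lpr_af (f497272 IH) (Lpe (f149979 IH) (Lpn (LP (LK LD1_c8 LD2_c0 LD3_c28))))))
theorem f425760 : Led Lsl_ct (LP (LK LD1_c3 LD2_c24 LD3_c2)) = (LP (LK LD1_c6 LD2_c51 LD3_c3)) :=
  Lre_c IH (LK LD1_c3 LD2_c24 LD3_c2) (LK LD1_c6 LD2_c51 LD3_c3) Lrfl Lrfl
theorem f150015 : Led Lsl_ct (LP (LK LD1_c8 LD2_c0 LD3_c28)) = (LP (LK LD1_c3 LD2_c59 LD3_c43)) :=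
  Lre_c IH (LK LD1_c8 LD2_c0 LD3_c28) (LK LD1_c3 LD2_c59 LD3_c43) Lrfl Lrfl
theorem f497280 : Led Lsl_af (LP (LK LD1_c3 LD2_c24 LD3_c2)) = (LP (LK LD1_c3 LD2_c59 LD3_c43)) :=
  Lgr Lrot68 (Lpr_ct (f425760 IH) (Lpr_at (f497274 IH) (Lpr_ct (f150015 IH) (Lpn (LP (LK LD1_c3 LD2_c59 LD3_c43))))))
theorem f150001 : Led Lsl_dt (LP (LK LD1_c8 LD2_c0 LD3_c29)) = (LP (LK LD1_c3 LD2_c59 LD3_c43)) :=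
  Lre_d IH (LK LD1_c8 LD2_c0 LD3_c29) (LK LD1_c3 LD2_c59 LD3_c43) Lrfl Lrfl
theorem f497282 : Led Lsl_at (LP (LK LD1_c6 LD2_c51 LD3_c4)) = (LP (LK LD1_c8 LD2_c0 LD3_c29)) :=
  Lgr Lrot51 (Lpe (K8.f40673 IH) (Lpr_af (f497280 IH) (Lpe (f150001 IH) (Lpn (LP (LK LD1_c8 LD2_c0 LD3_c29))))))
theorem f73288 : Led Lsl_et (LP (LK LD1_c2 LD2_c49 LD3_c33)) = (LP (LK LD1_c1 LD2_c20 LD3_c55)) :=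
  Lre_e IH (LK LD1_c2 LD2_c49 LD3_c33) (LK LD1_c1 LD2_c20 LD3_c55) Lrfl Lrfl
theorem f149987 : Led Lsl_dt (LP (LK LD1_c5 LD2_c47 LD3_c17)) = (LP (LK LD1_c2 LD2_c49 LD3_c33)) :=
  Lre_d IH (LK LD1_c5 LD2_c47 LD3_c17) (LK LD1_c2 LD2_c49 LD3_c33) Lrfl Lrfl
theorem f149988 : Led Lsl_et (LP (LK LD1_c1 LD2_c56 LD3_c31)) = (LP (LK LD1_c3 LD2_c59 LD3_c43)) :=
  Lre_e IH (LK LD1_c1 LD2_c56 LD3_c31) (LK LD1_c3 LD2_c59 LD3_c43) Lrfl Lrfl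
theorem f149989 : Led Lsl_dt (LP (LK LD1_c3 LD2_c59 LD3_c43)) = (LP (LK LD1_c8 LD2_c0 LD3_c29)) :=
  Lre_d IH (LK LD1_c3 LD2_c59 LD3_c43) (LK LD1_c8 LD2_c0 LD3_c29) Lrfl Lrfl
theorem f149990 : Led Lsl_ef (LP (LK LD1_c5 LD2_c47 LD3_c17)) = (LP (LK LD1_c8 LD2_c0 LD3_c29)) :=
  Lgr Lrot73 (Lpr_dt (f149987 IH) (Lpr_et (f73288 IH) (Lpr_dt (K7.f149982 IH) (Lpr_et (f149988 IH) (Lpr_dt (f149989 IH) (Lpn (LP (LK LD1_c8 LD2_c0 LD3_c29))))))))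
theorem f497286 : Led Lsl_af (LP (LK LD1_c6 LD2_c15 LD3_c21)) = (LP (LK LD1_c5 LD2_c47 LD3_c17)) :=
  Lgr Lrot50 (Lpr_et (K8.f149225 IH) (Lpr_at (f497282 IH) (Lpe (f149990 IH) (Lpn (LP (LK LD1_c5 LD2_c47 LD3_c17))))))
theorem f73289 : Led Lsl_dt (LP (LK LD1_c2 LD2_c49 LD3_c33)) = (LP (LK LD1_c5 LD2_c47 LD3_c17)) :=
  Lre_d IH (LK LD1_c2 LD2_c49 LD3_c33) (LK LD1_c5 LD2_c47 LD3_c17) Lrfl Lrfl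
theorem f497290 : Led Lsl_at (LP (LK LD1_c3 LD2_c4 LD3_c45)) = (LP (LK LD1_c2 LD2_c49 LD3_c33)) :=
  Lgr Lrot51 (Lpe (K8.f80639 IH) (Lpr_af (f497286 IH) (Lpe (f73289 IH) (Lpn (LP (LK LD1_c2 LD2_c49 LD3_c33))))))
theorem f80633 : Led Lsl_ct (LP (LK LD1_c6 LD2_c15 LD3_c20)) = (LP (LK LD1_c3 LD2_c4 LD3_c45)) :=
  Lre_c IH (LK LD1_c6 LD2_c15 LD3_c20) (LK LD1_c3 LD2_c4 LD3_c45) Lrfl Lrfl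
theorem f421288 : Led Lsl_ct (LP (LK LD1_c2 LD2_c49 LD3_c33)) = (LP (LK LD1_c5 LD2_c47 LD3_c16)) :=
  Lre_c IH (LK LD1_c2 LD2_c49 LD3_c33) (LK LD1_c5 LD2_c47 LD3_c16) Lrfl Lrfl
theorem f497294 : Led Lsl_af (LP (LK LD1_c6 LD2_c15 LD3_c20)) = (LP (LK LD1_c5 LD2_c47 LD3_c16)) :=
  Lgr Lrot68 (Lpr_ct (f80633 IH) (Lpr_at (f497290 IH) (Lpr_ct (f421288 IH) (Lpn (LP (LK LD1_c5 LD2_c47 LD3_c16))))))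
theorem f80628 : Led Lsl_et (LP (LK LD1_c6 LD2_c15 LD3_c20)) = (LP (LK LD1_c3 LD2_c4 LD3_c44)) :=
  Lre_e IH (LK LD1_c6 LD2_c15 LD3_c20) (LK LD1_c3 LD2_c4 LD3_c44) Lrfl Lrfl
theorem f158959 : Led Lsl_et (LP (LK LD1_c2 LD2_c49 LD3_c32)) = (LP (LK LD1_c5 LD2_c47 LD3_c16)) :=
  Lre_e IH (LK LD1_c2 LD2_c49 LD3_c32) (LK LD1_c5 LD2_c47 LD3_c16) Lrfl Lrfl
theorem f497298 : Led Lsl_at (LP (LK LD1_c3 LD2_c4 LD3_c44)) = (LP (LK LD1_c2 LD2_c49 LD3_c32)) :=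
  Lgr Lrot80 (Lpe (f80628 IH) (Lpr_af (f497294 IH) (Lpe (f158959 IH) (Lpn (LP (LK LD1_c2 LD2_c49 LD3_c32))))))
theorem f497304 : Led Lsl_ff (LP (LK LD1_c3 LD2_c4 LD3_c44)) = (LP (LK LD1_c2 LD2_c49 LD3_c35)) :=
  Lgr Lrot52 (Lpr_at (f497298 IH) (Lpr_gf (K11.f138572 IH) (Lpr_gf (K28.f205713 IH) (Lpn (LP (LK LD1_c2 LD2_c49 LD3_c35))))))
theorem f73431 : Led Lsl_dt (LP (LK LD1_c3 LD2_c4 LD3_c44)) = (LP (LK LD1_c6 LD2_c15 LD3_c19)) :=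
  Lre_d IH (LK LD1_c3 LD2_c4 LD3_c44) (LK LD1_c6 LD2_c15 LD3_c19) Lrfl Lrfl
theorem f497308 : Led Lsl_ft (LP (LK LD1_c6 LD2_c15 LD3_c19)) = (LP (LK LD1_c5 LD2_c47 LD3_c18)) :=
  Lgr Lrot54 (Lpe (f73431 IH) (Lpr_ff (f497304 IH) (Lpe (K28.f73473 IH) (Lpn (LP (LK LD1_c5 LD2_c47 LD3_c18))))))
theorem f208366 : Led Lsl_ff (LP (LK LD1_c7 LD2_c59 LD3_c53)) = (LP (LK LD1_c5 LD2_c53 LD3_c41)) :=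
  Lgr Lrot23 (Lpr_ct (K28.f157744 IH) (Lpr_ft (f208364 IH) (Lpr_ct (K8.f99537 IH) (Lpn (LP (LK LD1_c5 LD2_c53 LD3_c41))))))
theorem f208348 : Led Lsl_at (LP (LK LD1_c7 LD2_c59 LD3_c53)) = (LP (LK LD1_c5 LD2_c56 LD3_c3)) :=
  Lgr Lrot100 (Lpr_af (f208346 IH) (Lpn (LP (LK LD1_c5 LD2_c56 LD3_c3))))
theorem f208747 : Led Lsl_gf (LP (LK LD1_c5 LD2_c56 LD3_c3)) = (LP (LK LD1_c6 LD2_c15 LD3_c19)) :=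
  Lgr Lrot76 (Lpe (f208348 IH) (Lpr_ff (f208366 IH) (Lpe (K8.f149242 IH) (Lpn (LP (LK LD1_c6 LD2_c15 LD3_c19))))))
theorem f497312 : Led Lsl_af (LP (LK LD1_c6 LD2_c15 LD3_c17)) = (LP (LK LD1_c5 LD2_c47 LD3_c18)) :=
  Lgr Lrot31 (Lpr_gf (K24.f158664 IH) (Lpr_gf (f208747 IH) (Lpr_ft (f497308 IH) (Lpn (LP (LK LD1_c5 LD2_c47 LD3_c18))))))
theorem f497302 : Led Lsl_af (LP (LK LD1_c6 LD2_c15 LD3_c19)) = (LP (LK LD1_c5 LD2_c47 LD3_c15)) :=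
  Lgr Lrot117 (Lpr_dt (K8.f73432 IH) (Lpr_at (f497298 IH) (Lpr_dt (K11.f138540 IH) (Lpn (LP (LK LD1_c5 LD2_c47 LD3_c15))))))
theorem f497320 : Led Lsl_ft (LP (LK LD1_c6 LD2_c15 LD3_c17)) = (LP (LK LD1_c5 LD2_c47 LD3_c15)) :=
  Lgr Lrot101 (Lpr_af (f497312 IH) (Lpe (f497308 IH) (Lpr_af (f497302 IH) (Lpn (LP (LK LD1_c5 LD2_c47 LD3_c15))))))
theorem f497328 : Led Lsl_ff (LP (LK LD1_c6 LD2_c15 LD3_c17)) = (LP (LK LD1_c5 LD2_c47 LD3_c15)) :=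
  Lgr Lrot3 (Lpr_ft (f497320 IH) (Lpn (LP (LK LD1_c5 LD2_c47 LD3_c15))))
theorem f161183 : Led Lsl_bf (LP (LK LD1_c5 LD2_c47 LD3_c15)) = (LP (LK LD1_c9 LD2_c7 LD3_c59)) :=
  Lgr Lrot24 (Lpr_bt (K8.f161179 IH) (Lpn (LP (LK LD1_c9 LD2_c7 LD3_c59))))
theorem f497332 : Led Lsl_ft (LP (LK LD1_c5 LD2_c53 LD3_c29)) = (LP (LK LD1_c9 LD2_c7 LD3_c59)) :=
  Lgr Lrot75 (Lpe (K8.f149178 IH) (Lpr_ff (f497328 IH) (Lpr_bf (f161183 IH) (Lpn (LP (LK LD1_c9 LD2_c7 LD3_c59))))))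
theorem f163475 : Led Lsl_gt (LP (LK LD1_c11 LD2_c32 LD3_c61)) = (LP (LK LD1_c9 LD2_c8 LD3_c25)) :=
  Lgr Lrot46 (Lpr_gf (f163410 IH) (Lpe (K11.f163348 IH) (Lpr_at (K11.f163444 IH) (Lpn (LP (LK LD1_c9 LD2_c8 LD3_c25))))))
theorem f72417 : Led Lsl_ct (LP (LK LD1_c5 LD2_c53 LD3_c30)) = (LP (LK LD1_c11 LD2_c32 LD3_c61)) :=
  Lre_c IH (LK LD1_c5 LD2_c53 LD3_c30) (LK LD1_c11 LD2_c32 LD3_c61) Lrfl Lrfl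
theorem f71052 : Led Lsl_ct (LP (LK LD1_c9 LD2_c8 LD3_c25)) = (LP (LK LD1_c4 LD2_c36 LD3_c7)) :=
  Lre_c IH (LK LD1_c9 LD2_c8 LD3_c25) (LK LD1_c4 LD2_c36 LD3_c7) Lrfl Lrfl
theorem f138145 : Led Lsl_gt (LP (LK LD1_c1 LD2_c22 LD3_c42)) = (LP (LK LD1_c2 LD2_c53 LD3_c4)) :=
  Lgr Lrot94 (Lpe (K11.f81846 IH) (Lpr_gt (K4.f72247 IH) (Lpr_dt (K2.f22777 IH) (Lpr_gt (K2.f22812 IH) (Lpr_dt (K6.f137310 IH) (Lpe (K5.f56603 IH) (Lpe (K5.f60948 IH) (Lpr_gf (K8.f138138 IH) (Lpe (K8.f71213 IH) (Lpn (LP (LK LD1_c2 LD2_c53 LD3_c4))))))))))))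
theorem f163477 : Led Lsl_gf (LP (LK LD1_c5 LD2_c53 LD3_c30)) = (LP (LK LD1_c2 LD2_c53 LD3_c13)) :=
  Lgr Lrot147 (Lpr_ct (f72417 IH) (Lpr_gt (f163475 IH) (Lpr_ct (f71052 IH) (Lpe (K11.f71050 IH) (Lpe (K7.f71054 IH) (Lpe (K6.f100241 IH) (Lpe (K8.f158262 IH) (Lpe (f138145 IH) (Lpe (K6.f81847 IH) (Lpn (LP (LK LD1_c2 LD2_c53 LD3_c13))))))))))))
theorem f497340 : Led Lsl_af (LP (LK LD1_c5 LD2_c53 LD3_c30)) = (LP (LK LD1_c9 LD2_c7 LD3_c59)) :=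
  Lgr Lrot31 (Lpr_gf (f163477 IH) (Lpr_gf (K8.f149171 IH) (Lpr_ft (f497332 IH) (Lpn (LP (LK LD1_c9 LD2_c7 LD3_c59))))))
theorem f163427 : Led Lsl_et (LP (LK LD1_c5 LD2_c53 LD3_c30)) = (LP (LK LD1_c11 LD2_c33 LD3_c0)) :=
  Lre_e IH (LK LD1_c5 LD2_c53 LD3_c30) (LK LD1_c11 LD2_c33 LD3_c0) Lrfl Lrfl
theorem f161165 : Led Lsl_et (LP (LK LD1_c17 LD2_c0 LD3_c18)) = (LP (LK LD1_c9 LD2_c7 LD3_c59)) :=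
  Lre_e IH (LK LD1_c17 LD2_c0 LD3_c18) (LK LD1_c9 LD2_c7 LD3_c59) Lrfl Lrfl
theorem f497350 : Led Lsl_at (LP (LK LD1_c11 LD2_c33 LD3_c0)) = (LP (LK LD1_c17 LD2_c0 LD3_c18)) :=
  Lgr Lrot80 (Lpe (f163427 IH) (Lpr_af (f497340 IH) (Lpe (f161165 IH) (Lpn (LP (LK LD1_c17 LD2_c0 LD3_c18))))))
theorem f163426 : Led Lsl_ct (LP (LK LD1_c20 LD2_c30 LD3_c5)) = (LP (LK LD1_c11 LD2_c33 LD3_c0)) :=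
  Lre_c IH (LK LD1_c20 LD2_c30 LD3_c5) (LK LD1_c11 LD2_c33 LD3_c0) Lrfl Lrfl
theorem f161166 : Led Lsl_et (LP (LK LD1_c11 LD2_c33 LD3_c56)) = (LP (LK LD1_c20 LD2_c31 LD3_c16)) :=
  Lre_e IH (LK LD1_c11 LD2_c33 LD3_c56) (LK LD1_c20 LD2_c31 LD3_c16) Lrfl Lrfl
theorem f161167 : Led Lsl_cf (LP (LK LD1_c17 LD2_c0 LD3_c18)) = (LP (LK LD1_c20 LD2_c31 LD3_c16)) :=
  Lgr Lrot39 (Lpr_et (f161165 IH) (Lpr_ct (K8.f161116 IH) (Lpr_et (f161166 IH) (Lpn (LP (LK LD1_c20 LD2_c31 LD3_c16))))))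
theorem f161169 : Led Lsl_ct (LP (LK LD1_c17 LD2_c0 LD3_c18)) = (LP (LK LD1_c20 LD2_c31 LD3_c16)) :=
  Lgr Lrot59 (Lpr_cf (f161167 IH) (Lpn (LP (LK LD1_c20 LD2_c31 LD3_c16))))
theorem f497354 : Led Lsl_af (LP (LK LD1_c20 LD2_c30 LD3_c5)) = (LP (LK LD1_c20 LD2_c31 LD3_c16)) :=
  Lgr Lrot68 (Lpr_ct (f163426 IH) (Lpr_at (f497350 IH) (Lpr_ct (f161169 IH) (Lpn (LP (LK LD1_c20 LD2_c31 LD3_c16))))))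
theorem f497356 : Led Lsl_at (LP (LK LD1_c20 LD2_c30 LD3_c5)) = (LP (LK LD1_c20 LD2_c31 LD3_c16)) :=
  Lgr Lrot100 (Lpr_af (f497354 IH) (Lpn (LP (LK LD1_c20 LD2_c31 LD3_c16))))
theorem f163443 : Led Lsl_et (LP (LK LD1_c11 LD2_c32 LD3_c61)) = (LP (LK LD1_c20 LD2_c30 LD3_c5)) :=
  Lre_e IH (LK LD1_c11 LD2_c32 LD3_c61) (LK LD1_c20 LD2_c30 LD3_c5) Lrfl Lrfl
theorem f76362 : Led Lsl_et (LP (LK LD1_c20 LD2_c31 LD3_c16)) = (LP (LK LD1_c11 LD2_c33 LD3_c56)) :=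
  Lre_e IH (LK LD1_c20 LD2_c31 LD3_c16) (LK LD1_c11 LD2_c33 LD3_c56) Lrfl Lrfl
theorem f497358 : Led Lsl_af (LP (LK LD1_c11 LD2_c32 LD3_c61)) = (LP (LK LD1_c11 LD2_c33 LD3_c56)) :=
  Lgr Lrot50 (Lpr_et (f163443 IH) (Lpr_at (f497356 IH) (Lpr_et (f76362 IH) (Lpn (LP (LK LD1_c11 LD2_c33 LD3_c56))))))
theorem f72421 : Led Lsl_ct (LP (LK LD1_c5 LD2_c53 LD3_c29)) = (LP (LK LD1_c11 LD2_c32 LD3_c59)) :=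
  Lre_c IH (LK LD1_c5 LD2_c53 LD3_c29) (LK LD1_c11 LD2_c32 LD3_c59) Lrfl Lrfl
theorem f161340 : Led Lsl_gf (LP (LK LD1_c9 LD2_c8 LD3_c23)) = (LP (LK LD1_c11 LD2_c32 LD3_c59)) :=
  Lgr Lrot104 (Lpr_ct (K11.f112740 IH) (Lpe (K11.f112739 IH) (Lpr_cf (K8.f161328 IH) (Lpe (K8.f72419 IH) (Lpe (K2.f72418 IH) (Lpr_gf (K2.f72405 IH) (Lpe (K6.f72262 IH) (Lpr_gt (K8.f72420 IH) (Lpr_ct (f72421 IH) (Lpn (LP (LK LD1_c11 LD2_c32 LD3_c59))))))))))))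
theorem f497362 : Led Lsl_ft (LP (LK LD1_c11 LD2_c32 LD3_c59)) = (LP (LK LD1_c11 LD2_c33 LD3_c56)) :=
  Lgr Lrot2 (Lpe (f161340 IH) (Lpe (f163410 IH) (Lpr_af (f497358 IH) (Lpn (LP (LK LD1_c11 LD2_c33 LD3_c56))))))
theorem f27024 : Led Lsl_ct (LP (LK LD1_c0 LD2_c30 LD3_c25)) = (LP (LK LD1_c1 LD2_c6 LD3_c23)) :=
  Lre_c IH (LK LD1_c0 LD2_c30 LD3_c25) (LK LD1_c1 LD2_c6 LD3_c23) Lrfl Lrfl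
theorem f202189 : Led Lsl_dt (LP (LK LD1_c1 LD2_c28 LD3_c8)) = (LP (LK LD1_c3 LD2_c4 LD3_c12)) :=
  Lre_d IH (LK LD1_c1 LD2_c28 LD3_c8) (LK LD1_c3 LD2_c4 LD3_c12) Lrfl Lrfl
theorem f202334 : Led Lsl_df (LP (LK LD1_c4 LD2_c45 LD3_c39)) = (LP (LK LD1_c6 LD2_c14 LD3_c37)) :=
  Lgr Lrot43 (Lpe (K7.f149937 IH) (Lpr_dt (K7.f34766 IH) (Lpr_ct (K4.f34765 IH) (Lpe (K4.f26928 IH) (Lpr_ct (f27024 IH) (Lpr_dt (K11.f78293 IH) (Lpr_ct (K6.f59233 IH) (Lpe (K8.f78281 IH) (Lpr_ct (K11.f202330 IH) (Lpr_dt (K11.f202228 IH) (Lpr_ct (K11.f202229 IH) (Lpr_dt (K11.f202214 IH) (Lpr_ct (K11.f80727 IH) (Lpr_dt (f202189 IH) (Lpr_ct (K11.f80777 IH) (Lpn (LP (LK LD1_c6 LD2_c14 LD3_c37))))))))))))))))))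
theorem f205828 : Led Lsl_df (LP (LK LD1_c11 LD2_c32 LD3_c59)) = (LP (LK LD1_c9 LD2_c25 LD3_c2)) :=
  Lgr Lrot155 (Lpe (f161340 IH) (Lpr_ct (K11.f112740 IH) (Lpr_gt (K11.f202163 IH) (Lpr_ct (K11.f80777 IH) (Lpe (f202334 IH) (Lpe (K7.f149941 IH) (Lpr_gf (K7.f149971 IH) (Lpe (K11.f156775 IH) (Lpr_gf (K11.f205824 IH) (Lpn (LP (LK LD1_c9 LD2_c25 LD3_c2))))))))))))
theorem f497366 : Led Lsl_ff (LP (LK LD1_c9 LD2_c25 LD3_c2)) = (LP (LK LD1_c6 LD2_c0 LD3_c38)) :=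
  Lgr Lrot19 (Lpe (f205828 IH) (Lpr_ft (f497362 IH) (Lpr_dt (K11.f163533 IH) (Lpn (LP (LK LD1_c6 LD2_c0 LD3_c38))))))
theorem f497374 : Led Lsl_at (LP (LK LD1_c9 LD2_c25 LD3_c2)) = (LP (LK LD1_c6 LD2_c0 LD3_c37)) :=
  Lgr Lrot26 (Lpr_ff (f497366 IH) (Lpr_gt (K11.f69037 IH) (Lpr_gt (K8.f69036 IH) (Lpn (LP (LK LD1_c6 LD2_c0 LD3_c37))))))
theorem f497360 : Led Lsl_at (LP (LK LD1_c9 LD2_c25 LD3_c54)) = (LP (LK LD1_c6 LD2_c0 LD3_c38)) :=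
  Lgr Lrot51 (Lpe (f163439 IH) (Lpr_af (f497358 IH) (Lpr_df (K11.f163537 IH) (Lpn (LP (LK LD1_c6 LD2_c0 LD3_c38))))))
theorem f497382 : Led Lsl_ff (LP (LK LD1_c9 LD2_c25 LD3_c54)) = (LP (LK LD1_c6 LD2_c0 LD3_c37)) :=
  Lgr Lrot30 (Lpr_at (f497360 IH) (Lpe (f497366 IH) (Lpr_at (f497374 IH) (Lpn (LP (LK LD1_c6 LD2_c0 LD3_c37))))))
theorem f497388 : Led Lsl_ft (LP (LK LD1_c9 LD2_c25 LD3_c54)) = (LP (LK LD1_c6 LD2_c0 LD3_c37)) :=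
  Lgr Lrot48 (Lpr_ff (f497382 IH) (Lpn (LP (LK LD1_c6 LD2_c0 LD3_c37))))
theorem f76313 : Led Lsl_gt (LP (LK LD1_c5 LD2_c54 LD3_c4)) = (LP (LK LD1_c11 LD2_c33 LD3_c55)) :=
  Lre_g IH (LK LD1_c5 LD2_c54 LD3_c4) (LK LD1_c11 LD2_c33 LD3_c55) Lrfl Lrfl
theorem f70227 : Led Lsl_ct (LP (LK LD1_c0 LD2_c40 LD3_c46)) = (LP (LK LD1_c1 LD2_c1 LD3_c56)) :=
  Lgr Lrot7 (Lpe (K2.f36606 IH) (Lpr_gf (K1.f59355 IH) (Lpe (K1.f13644 IH) (Lpr_gf (K1.f35592 IH) (Lpr_cf (K1.f37448 IH) (Lpr_gt (K2.f59184 IH) (Lpr_dt (K2.f35872 IH) (Lpr_gt (K2.f70216 IH) (Lpr_dt (K2.f70224 IH) (Lpn (LP (LK LD1_c1 LD2_c1 LD3_c56))))))))))))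
theorem f30705 : Led Lsl_bt (LP (LK LD1_c0 LD2_c55 LD3_c25)) = (LP (LK LD1_c1 LD2_c57 LD3_c11)) :=
  Lre_b IH (LK LD1_c0 LD2_c55 LD3_c25) (LK LD1_c1 LD2_c57 LD3_c11) Lrfl Lrfl
theorem f29499 : Led Lsl_gt (LP (LK LD1_c4 LD2_c0 LD3_c50)) = (LP (LK LD1_c1 LD2_c57 LD3_c11)) :=
  Lre_g IH (LK LD1_c4 LD2_c0 LD3_c50) (LK LD1_c1 LD2_c57 LD3_c11) Lrfl Lrfl
theorem f29505 : Led Lsl_bt (LP (LK LD1_c8 LD2_c2 LD3_c25)) = (LP (LK LD1_c4 LD2_c0 LD3_c50)) :=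
  Lre_b IH (LK LD1_c8 LD2_c2 LD3_c25) (LK LD1_c4 LD2_c0 LD3_c50) Lrfl Lrfl
theorem f438176 : Led Lsl_cf (LP (LK LD1_c11 LD2_c33 LD3_c55)) = (LP (LK LD1_c8 LD2_c2 LD3_c25)) :=
  Lgr Lrot163 (Lpe (f76313 IH) (Lpe (K6.f69349 IH) (Lpr_gf (K11.f137508 IH) (Lpe (K11.f70231 IH) (Lpr_ct (f70227 IH) (Lpr_gf (K4.f59622 IH) (Lpe (K4.f30706 IH) (Lpr_bt (f30705 IH) (Lpe (f29499 IH) (Lpe (f29505 IH) (Lpn (LP (LK LD1_c8 LD2_c2 LD3_c25)))))))))))))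
theorem f163526 : Led Lsl_gt (LP (LK LD1_c11 LD2_c33 LD3_c55)) = (LP (LK LD1_c5 LD2_c54 LD3_c7)) :=
  Lgr Lrot46 (Lpe (f76313 IH) (Lpr_ft (K11.f163522 IH) (Lpe (K11.f163510 IH) (Lpn (LP (LK LD1_c5 LD2_c54 LD3_c7))))))
theorem f438194 : Led Lsl_gt (LP (LK LD1_c4 LD2_c35 LD3_c54)) = (LP (LK LD1_c8 LD2_c2 LD3_c25)) :=
  Lgr Lrot9 (Lpe (K7.f37811 IH) (Lpr_gt (K8.f149408 IH) (Lpe (K8.f158458 IH) (Lpr_gt (K8.f158158 IH) (Lpr_ct (K8.f22776 IH) (Lpe (K11.f99484 IH) (Lpe (K11.f137499 IH) (Lpe (f163526 IH) (Lpr_cf (f438176 IH) (Lpn (LP (LK LD1_c8 LD2_c2 LD3_c25))))))))))))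
theorem f438196 : Led Lsl_df (LP (LK LD1_c11 LD2_c33 LD3_c55)) = (LP (LK LD1_c6 LD2_c0 LD3_c37)) :=
  Lgr Lrot162 (Lpr_cf (f438176 IH) (Lpe (f438194 IH) (Lpe (K8.f149297 IH) (Lpr_gf (K11.f202155 IH) (Lpe (f202334 IH) (Lpr_gt (K7.f78705 IH) (Lpr_ct (K6.f78291 IH) (Lpr_gt (K7.f78211 IH) (Lpe (K11.f158505 IH) (Lpn (LP (LK LD1_c6 LD2_c0 LD3_c37))))))))))))
theorem f497394 : Led Lsl_ff (LP (LK LD1_c11 LD2_c32 LD3_c61)) = (LP (LK LD1_c11 LD2_c33 LD3_c55)) :=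
  Lgr Lrot19 (Lpr_dt (f163439 IH) (Lpr_ft (f497388 IH) (Lpe (f438196 IH) (Lpn (LP (LK LD1_c11 LD2_c33 LD3_c55))))))
theorem f497398 : Led Lsl_ft (LP (LK LD1_c5 LD2_c53 LD3_c30)) = (LP (LK LD1_c8 LD2_c2 LD3_c25)) :=
  Lgr Lrot4 (Lpe (f72415 IH) (Lpr_ff (f497394 IH) (Lpr_cf (f438176 IH) (Lpn (LP (LK LD1_c8 LD2_c2 LD3_c25))))))
theorem f497408 : Led Lsl_ff (LP (LK LD1_c5 LD2_c53 LD3_c30)) = (LP (LK LD1_c8 LD2_c2 LD3_c25)) :=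
  Lgr Lrot3 (Lpr_ft (f497398 IH) (Lpn (LP (LK LD1_c8 LD2_c2 LD3_c25))))
theorem f202568 : Led Lsl_df (LP (LK LD1_c3 LD2_c4 LD3_c55)) = (LP (LK LD1_c5 LD2_c53 LD3_c30)) :=
  Lgr Lrot155 (Lpr_gt (K11.f132505 IH) (Lpr_ct (K5.f59365 IH) (Lpr_gt (K11.f202383 IH) (Lpr_ct (K11.f104868 IH) (Lpr_dt (K11.f104869 IH) (Lpe (K11.f104885 IH) (Lpe (K11.f202089 IH) (Lpe (K6.f72359 IH) (Lpe (K11.f72414 IH) (Lpn (LP (LK LD1_c5 LD2_c53 LD3_c30))))))))))))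
theorem f438188 : Led Lsl_ct (LP (LK LD1_c11 LD2_c33 LD3_c55)) = (LP (LK LD1_c8 LD2_c2 LD3_c25)) :=
  Lgr Lrot59 (Lpr_cf (f438176 IH) (Lpn (LP (LK LD1_c8 LD2_c2 LD3_c25))))
theorem f132808 : Led Lsl_gt (LP (LK LD1_c4 LD2_c42 LD3_c47)) = (LP (LK LD1_c2 LD2_c18 LD3_c53)) :=
  Lre_g IH (LK LD1_c4 LD2_c42 LD3_c47) (LK LD1_c2 LD2_c18 LD3_c53) Lrfl Lrfl
theorem f132858 : Led Lsl_gf (LP (LK LD1_c4 LD2_c42 LD3_c47)) = (LP (LK LD1_c2 LD2_c18 LD3_c56)) :=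
  Lgr Lrot47 (Lpr_gt (f132808 IH) (Lpe (K8.f132608 IH) (Lpr_ff (K5.f132837 IH) (Lpn (LP (LK LD1_c2 LD2_c18 LD3_c56))))))
theorem f438200 : Led Lsl_df (LP (LK LD1_c8 LD2_c2 LD3_c25)) = (LP (LK LD1_c4 LD2_c42 LD3_c47)) :=
  Lgr Lrot84 (Lpe (f438188 IH) (Lpr_df (f438196 IH) (Lpe (K8.f69036 IH) (Lpe (K11.f69034 IH) (Lpr_gf (K8.f158849 IH) (Lpe (K8.f72413 IH) (Lpe (K8.f138162 IH) (Lpr_dt (K5.f59402 IH) (Lpe (f132858 IH) (Lpn (LP (LK LD1_c4 LD2_c42 LD3_c47))))))))))))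
theorem f497414 : Led Lsl_ft (LP (LK LD1_c3 LD2_c4 LD3_c55)) = (LP (LK LD1_c4 LD2_c42 LD3_c47)) :=
  Lgr Lrot54 (Lpr_df (f202568 IH) (Lpr_ff (f497408 IH) (Lpr_df (f438200 IH) (Lpn (LP (LK LD1_c4 LD2_c42 LD3_c47))))))
theorem f497421 : Led Lsl_af (LP (LK LD1_c3 LD2_c4 LD3_c54)) = (LP (LK LD1_c4 LD2_c42 LD3_c47)) :=
  Lgr Lrot31 (Lpe (K5.f58965 IH) (Lpe (K11.f132505 IH) (Lpr_ft (f497414 IH) (Lpn (LP (LK LD1_c4 LD2_c42 LD3_c47))))))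
def v1560 : LQ := Led Lsl_gf (LP (LK LD1_c1 LD2_c21 LD3_c38))
theorem f496261 : Led Lsl_gf (LP (LK LD1_c1 LD2_c21 LD3_c38)) = v1560 :=
  Lrfl
theorem f205769 : Led Lsl_dt (LP (LK LD1_c1 LD2_c21 LD3_c38)) = (LP (LK LD1_c2 LD2_c51 LD3_c8)) :=
  Lre_d IH (LK LD1_c1 LD2_c21 LD3_c38) (LK LD1_c2 LD2_c51 LD3_c8) Lrfl Lrfl
theorem f496264 : Led Lsl_cf (LP (LK LD1_c4 LD2_c42 LD3_c47)) = v1560 :=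
  Lgr Lrot166 (Lpr_gt (f132808 IH) (Lpr_dt (K5.f60949 IH) (Lpr_gt (K8.f138136 IH) (Lpr_dt (K8.f72427 IH) (Lpr_ct (K2.f72418 IH) (Lpe (K11.f72426 IH) (Lpr_gf (K11.f205786 IH) (Lpe (f205769 IH) (Lpr_gf (f496261 IH) (Lpn v1560))))))))))
theorem f497427 : Led Lsl_at (LP (LK LD1_c2 LD2_c58 LD3_c18)) = v1560 :=
  Lgr Lrot107 (Lpr_cf (f80255 IH) (Lpr_af (f497421 IH) (Lpr_cf (f496264 IH) (Lpn v1560))))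
theorem f496262 : Led Lsl_gt (LP (LK LD1_c3 LD2_c4 LD3_c7)) = v1560 :=
  Lgr Lrot5 (Lpr_ft (K31.f210005 IH) (Lpr_at (K31.f210015 IH) (Lpr_gf (f496261 IH) (Lpn v1560))))
theorem f497432 : Led Lsl_ff (LP (LK LD1_c2 LD2_c58 LD3_c18)) = (LP (LK LD1_c2 LD2_c49 LD3_c19)) :=
  Lgr Lrot52 (Lpr_at (f497427 IH) (Lpe (f496262 IH) (Lpr_gf (K8.f158851 IH) (Lpn (LP (LK LD1_c2 LD2_c49 LD3_c19))))))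
theorem f76084 : Led Lsl_dt (LP (LK LD1_c2 LD2_c58 LD3_c18)) = (LP (LK LD1_c2 LD2_c27 LD3_c36)) :=
  Lgr Lrot79 (Lpe (K5.f76083 IH) (Lpr_df (K4.f76077 IH) (Lpe (f40383 IH) (Lpn (LP (LK LD1_c2 LD2_c27 LD3_c36))))))
theorem f497436 : Led Lsl_ft (LP (LK LD1_c2 LD2_c27 LD3_c36)) = (LP (LK LD1_c4 LD2_c59 LD3_c10)) :=
  Lgr Lrot54 (Lpe (f76084 IH) (Lpr_ff (f497432 IH) (Lpr_df (K4.f104803 IH) (Lpn (LP (LK LD1_c4 LD2_c59 LD3_c10))))))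
theorem f76117 : Led Lsl_ct (LP (LK LD1_c4 LD2_c59 LD3_c31)) = (LP (LK LD1_c2 LD2_c27 LD3_c36)) :=
  Lre_c IH (LK LD1_c4 LD2_c59 LD3_c31) (LK LD1_c2 LD2_c27 LD3_c36) Lrfl Lrfl
theorem f497438 : Led Lsl_ff (LP (LK LD1_c4 LD2_c59 LD3_c31)) = (LP (LK LD1_c9 LD2_c8 LD3_c0)) :=
  Lgr Lrot23 (Lpr_ct (f76117 IH) (Lpr_ft (f497436 IH) (Lpe (K4.f104780 IH) (Lpn (LP (LK LD1_c9 LD2_c8 LD3_c0))))))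
theorem f497443 : Led Lsl_ft (LP (LK LD1_c4 LD2_c59 LD3_c31)) = (LP (LK LD1_c9 LD2_c8 LD3_c0)) :=
  Lgr Lrot48 (Lpr_ff (f497438 IH) (Lpn (LP (LK LD1_c9 LD2_c8 LD3_c0))))
theorem f497490 : Led Lsl_ff (LP (LK LD1_c9 LD2_c49 LD3_c25)) = (LP (LK LD1_c17 LD2_c0 LD3_c22)) :=
  Lgr Lrot25 (Lpr_bt (K6.f79346 IH) (Lpr_ft (f497443 IH) (Lpr_bt (K8.f104785 IH) (Lpn (LP (LK LD1_c17 LD2_c0 LD3_c22))))))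
theorem f76124 : Led Lsl_bt (LP (LK LD1_c4 LD2_c59 LD3_c31)) = (LP (LK LD1_c9 LD2_c49 LD3_c25)) :=
  Lre_b IH (LK LD1_c4 LD2_c59 LD3_c31) (LK LD1_c9 LD2_c49 LD3_c25) Lrfl Lrfl
theorem f137487 : Led Lsl_dt (LP (LK LD1_c9 LD2_c49 LD3_c25)) = (LP (LK LD1_c13 LD2_c1 LD3_c32)) :=
  Lgr Lrot79 (Lpe (f76124 IH) (Lpr_df (K6.f137478 IH) (Lpe (K8.f91312 IH) (Lpn (LP (LK LD1_c13 LD2_c1 LD3_c32))))))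
theorem f130324 : Led Lsl_df (LP (LK LD1_c17 LD2_c0 LD3_c22)) = (LP (LK LD1_c14 LD2_c13 LD3_c49)) :=
  Lgr Lrot38 (Lpr_dt (K8.f130317 IH) (Lpn (LP (LK LD1_c14 LD2_c13 LD3_c49))))
theorem f497492 : Led Lsl_ft (LP (LK LD1_c13 LD2_c1 LD3_c32)) = (LP (LK LD1_c14 LD2_c13 LD3_c49)) :=
  Lgr Lrot54 (Lpe (f137487 IH) (Lpr_ff (f497490 IH) (Lpr_df (f130324 IH) (Lpn (LP (LK LD1_c14 LD2_c13 LD3_c49))))))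
theorem f497498 : Led Lsl_af (LP (LK LD1_c14 LD2_c20 LD3_c1)) = (LP (LK LD1_c14 LD2_c13 LD3_c49)) :=
  Lgr Lrot31 (Lpr_gf (K7.f156681 IH) (Lpe (f155644 IH) (Lpr_ft (f497492 IH) (Lpn (LP (LK LD1_c14 LD2_c13 LD3_c49))))))
theorem f497504 : Led Lsl_et (LP (LK LD1_c14 LD2_c20 LD3_c1)) = (LP (LK LD1_c23 LD2_c58 LD3_c0)) :=
  Lre_e IH (LK LD1_c14 LD2_c20 LD3_c1) (LK LD1_c23 LD2_c58 LD3_c0) Lrfl Lrfl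
theorem f497505 : Led Lsl_at (LP (LK LD1_c23 LD2_c58 LD3_c0)) = (LP (LK LD1_c23 LD2_c49 LD3_c21)) :=
  Lgr Lrot80 (Lpe (f497504 IH) (Lpr_af (f497498 IH) (Lpe (K8.f130310 IH) (Lpn (LP (LK LD1_c23 LD2_c49 LD3_c21))))))
theorem f497509 : Led Lsl_ct (LP (LK LD1_c14 LD2_c20 LD3_c2)) = (LP (LK LD1_c23 LD2_c58 LD3_c0)) :=
  Lre_c IH (LK LD1_c14 LD2_c20 LD3_c2) (LK LD1_c23 LD2_c58 LD3_c0) Lrfl Lrfl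
theorem f130398 : Led Lsl_cf (LP (LK LD1_c22 LD2_c11 LD3_c18)) = (LP (LK LD1_c23 LD2_c49 LD3_c21)) :=
  Lgr Lrot11 (Lpr_ct (K8.f130311 IH) (Lpn (LP (LK LD1_c23 LD2_c49 LD3_c21))))
theorem f497510 : Led Lsl_af (LP (LK LD1_c14 LD2_c20 LD3_c2)) = (LP (LK LD1_c22 LD2_c11 LD3_c18)) :=
  Lgr Lrot68 (Lpr_ct (f497509 IH) (Lpr_at (f497505 IH) (Lpe (f130398 IH) (Lpn (LP (LK LD1_c22 LD2_c11 LD3_c18))))))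
theorem f497512 : Led Lsl_at (LP (LK LD1_c14 LD2_c20 LD3_c2)) = (LP (LK LD1_c22 LD2_c11 LD3_c18)) :=
  Lgr Lrot100 (Lpr_af (f497510 IH) (Lpn (LP (LK LD1_c22 LD2_c11 LD3_c18))))
theorem f156690 : Led Lsl_et (LP (LK LD1_c7 LD2_c36 LD3_c10)) = (LP (LK LD1_c14 LD2_c20 LD3_c2)) :=
  Lre_e IH (LK LD1_c7 LD2_c36 LD3_c10) (LK LD1_c14 LD2_c20 LD3_c2) Lrfl Lrfl
theorem f497518 : Led Lsl_af (LP (LK LD1_c7 LD2_c36 LD3_c10)) = (LP (LK LD1_c13 LD2_c1 LD3_c15)) :=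
  Lgr Lrot50 (Lpr_et (f156690 IH) (Lpr_at (f497512 IH) (Lpr_et (K8.f130287 IH) (Lpn (LP (LK LD1_c13 LD2_c1 LD3_c15))))))
theorem f156695 : Led Lsl_gt (LP (LK LD1_c7 LD2_c36 LD3_c10)) = (LP (LK LD1_c12 LD2_c24 LD3_c12)) :=
  Lgr Lrot9 (Lpr_df (K7.f156685 IH) (Lpr_gt (K24.f116526 IH) (Lpr_ct (K4.f103624 IH) (Lpr_gt (K4.f102871 IH) (Lpr_ct (K5.f103662 IH) (Lpr_df (K6.f130122 IH) (Lpe (K6.f130104 IH) (Lpr_gf (K8.f155548 IH) (Lpe (K8.f137486 IH) (Lpn (LP (LK LD1_c12 LD2_c24 LD3_c12))))))))))))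
theorem f148778 : Led Lsl_bf (LP (LK LD1_c3 LD2_c14 LD3_c37)) = (LP (LK LD1_c3 LD2_c49 LD3_c56)) :=
  Lgr Lrot90 (Lpe (K7.f129902 IH) (Lpe (K5.f90473 IH) (Lpr_ct (K3.f93456 IH) (Lpr_bt (K7.f93659 IH) (Lpr_ct (K7.f148762 IH) (Lpn (LP (LK LD1_c3 LD2_c49 LD3_c56))))))))
theorem f155539 : Led Lsl_at (LP (LK LD1_c6 LD2_c49 LD3_c60)) = (LP (LK LD1_c12 LD2_c24 LD3_c12)) :=
  Lgr Lrot67 (Lpe (K5.f83918 IH) (Lpr_af (K5.f129900 IH) (Lpr_bf (f148778 IH) (Lpr_af (K7.f151404 IH) (Lpr_bf (K8.f155537 IH) (Lpn (LP (LK LD1_c12 LD2_c24 LD3_c12))))))))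
theorem f156697 : Led Lsl_gf (LP (LK LD1_c7 LD2_c36 LD3_c10)) = (LP (LK LD1_c6 LD2_c32 LD3_c44)) :=
  Lgr Lrot47 (Lpr_gt (f156695 IH) (Lpe (f155539 IH) (Lpr_ff (K8.f130089 IH) (Lpn (LP (LK LD1_c6 LD2_c32 LD3_c44))))))
theorem f497523 : Led Lsl_ft (LP (LK LD1_c12 LD2_c32 LD3_c55)) = (LP (LK LD1_c13 LD2_c1 LD3_c15)) :=
  Lgr Lrot2 (Lpr_gt (K8.f120259 IH) (Lpe (f156697 IH) (Lpr_af (f497518 IH) (Lpn (LP (LK LD1_c13 LD2_c1 LD3_c15))))))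
theorem f155562 : Led Lsl_dt (LP (LK LD1_c7 LD2_c22 LD3_c39)) = (LP (LK LD1_c12 LD2_c32 LD3_c55)) :=
  Lgr Lrot42 (Lpr_df (K8.f155560 IH) (Lpn (LP (LK LD1_c12 LD2_c32 LD3_c55))))
theorem f497527 : Led Lsl_ff (LP (LK LD1_c7 LD2_c22 LD3_c39)) = (LP (LK LD1_c7 LD2_c28 LD3_c27)) :=
  Lgr Lrot19 (Lpr_dt (f155562 IH) (Lpr_ft (f497523 IH) (Lpr_dt (K8.f130255 IH) (Lpn (LP (LK LD1_c7 LD2_c28 LD3_c27))))))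
theorem f497535 : Led Lsl_at (LP (LK LD1_c7 LD2_c22 LD3_c39)) = (LP (LK LD1_c6 LD2_c59 LD3_c42)) :=
  Lgr Lrot26 (Lpr_ff (f497527 IH) (Lpe (K5.f123601 IH) (Lpe (K5.f123964 IH) (Lpn (LP (LK LD1_c6 LD2_c59 LD3_c42))))))
theorem f156683 : Led Lsl_dt (LP (LK LD1_c7 LD2_c36 LD3_c10)) = (LP (LK LD1_c7 LD2_c22 LD3_c43)) :=
  Lgr Lrot27 (Lpe (K7.f16788 IH) (Lpr_gf (K7.f156681 IH) (Lpe (K6.f88254 IH) (Lpr_gf (K6.f130259 IH) (Lpe (K4.f12846 IH) (Lpr_gt (K4.f111343 IH) (Lpr_ct (K5.f123647 IH) (Lpr_gt (K7.f144698 IH) (Lpr_ct (K4.f116520 IH) (Lpn (LP (LK LD1_c7 LD2_c22 LD3_c43))))))))))))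
theorem f497521 : Led Lsl_at (LP (LK LD1_c7 LD2_c22 LD3_c43)) = (LP (LK LD1_c7 LD2_c28 LD3_c27)) :=
  Lgr Lrot51 (Lpe (f156683 IH) (Lpr_af (f497518 IH) (Lpr_df (K6.f130257 IH) (Lpn (LP (LK LD1_c7 LD2_c28 LD3_c27))))))
theorem f497545 : Led Lsl_ff (LP (LK LD1_c7 LD2_c22 LD3_c43)) = (LP (LK LD1_c6 LD2_c59 LD3_c42)) :=
  Lgr Lrot30 (Lpr_at (f497521 IH) (Lpe (f497527 IH) (Lpr_at (f497535 IH) (Lpn (LP (LK LD1_c6 LD2_c59 LD3_c42))))))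
theorem f497553 : Led Lsl_ft (LP (LK LD1_c7 LD2_c22 LD3_c43)) = (LP (LK LD1_c6 LD2_c59 LD3_c42)) :=
  Lgr Lrot48 (Lpr_ff (f497545 IH) (Lpn (LP (LK LD1_c6 LD2_c59 LD3_c42))))
theorem f497561 : Led Lsl_ff (LP (LK LD1_c7 LD2_c36 LD3_c10)) = (LP (LK LD1_c12 LD2_c45 LD3_c18)) :=
  Lgr Lrot19 (Lpr_dt (f156683 IH) (Lpr_ft (f497553 IH) (Lpr_dt (K6.f130450 IH) (Lpn (LP (LK LD1_c12 LD2_c45 LD3_c18))))))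
theorem f497565 : Led Lsl_ft (LP (LK LD1_c3 LD2_c47 LD3_c39)) = (LP (LK LD1_c6 LD2_c39 LD3_c44)) :=
  Lgr Lrot75 (Lpe (K7.f16787 IH) (Lpr_ff (f497561 IH) (Lpe (K8.f130445 IH) (Lpn (LP (LK LD1_c6 LD2_c39 LD3_c44))))))
theorem f497580 : Led Lsl_af (LP (LK LD1_c3 LD2_c47 LD3_c40)) = (LP (LK LD1_c6 LD2_c39 LD3_c44)) :=
  Lgr Lrot31 (Lpe (K7.f16116 IH) (Lpe (K7.f16783 IH) (Lpr_ft (f497565 IH) (Lpn (LP (LK LD1_c6 LD2_c39 LD3_c44))))))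
theorem f497588 : Led Lsl_at (LP (LK LD1_c6 LD2_c58 LD3_c42)) = (LP (LK LD1_c3 LD2_c29 LD3_c0)) :=
  Lgr Lrot51 (Lpe (K7.f156662 IH) (Lpr_af (f497580 IH) (Lpe (K8.f130454 IH) (Lpn (LP (LK LD1_c3 LD2_c29 LD3_c0))))))
theorem f497596 : Led Lsl_ff (LP (LK LD1_c6 LD2_c58 LD3_c42)) = (LP (LK LD1_c3 LD2_c29 LD3_c1)) :=
  Lgr Lrot52 (Lpr_at (f497588 IH) (Lpe (K5.f18628 IH) (Lpe (K2.f18647 IH) (Lpn (LP (LK LD1_c3 LD2_c29 LD3_c1))))))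
theorem f497606 : Led Lsl_ft (LP (LK LD1_c6 LD2_c58 LD3_c42)) = (LP (LK LD1_c3 LD2_c29 LD3_c1)) :=
  Lgr Lrot48 (Lpr_ff (f497596 IH) (Lpn (LP (LK LD1_c3 LD2_c29 LD3_c1))))
theorem f497614 : Led Lsl_ff (LP (LK LD1_c3 LD2_c47 LD3_c40)) = (LP (LK LD1_c6 LD2_c39 LD3_c45)) :=
  Lgr Lrot19 (Lpr_dt (K7.f156662 IH) (Lpr_ft (f497606 IH) (Lpe (K11.f205860 IH) (Lpn (LP (LK LD1_c6 LD2_c39 LD3_c45))))))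
theorem f497620 : Led Lsl_ft (LP (LK LD1_c7 LD2_c36 LD3_c14)) = (LP (LK LD1_c6 LD2_c41 LD3_c51)) :=
  Lgr Lrot4 (Lpe (K7.f16118 IH) (Lpr_ff (f497614 IH) (Lpe (K11.f139674 IH) (Lpn (LP (LK LD1_c6 LD2_c41 LD3_c51))))))
theorem f205939 : Led Lsl_df (LP (LK LD1_c7 LD2_c36 LD3_c16)) = (LP (LK LD1_c13 LD2_c58 LD3_c36)) :=
  Lgr Lrot38 (Lpr_dt (K11.f205937 IH) (Lpn (LP (LK LD1_c13 LD2_c58 LD3_c36))))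
theorem f135816 : Led Lsl_cf (LP (LK LD1_c9 LD2_c28 LD3_c28)) = (LP (LK LD1_c7 LD2_c36 LD3_c16)) :=
  Lgr Lrot11 (Lpr_ct (K6.f135805 IH) (Lpn (LP (LK LD1_c7 LD2_c36 LD3_c16))))
theorem f151477 : Led Lsl_dt (LP (LK LD1_c9 LD2_c28 LD3_c28)) = (LP (LK LD1_c7 LD2_c32 LD3_c26)) :=
  Lgr Lrot79 (Lpe (K7.f151462 IH) (Lpr_df (K7.f151472 IH) (Lpr_bf (K4.f122089 IH) (Lpn (LP (LK LD1_c7 LD2_c32 LD3_c26))))))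
theorem f156712 : Led Lsl_df (LP (LK LD1_c3 LD2_c47 LD3_c39)) = (LP (LK LD1_c6 LD2_c58 LD3_c41)) :=
  Lgr Lrot38 (Lpr_dt (K7.f156688 IH) (Lpn (LP (LK LD1_c6 LD2_c58 LD3_c41))))
theorem f16785 : Led Lsl_ct (LP (LK LD1_c3 LD2_c47 LD3_c39)) = (LP (LK LD1_c7 LD2_c36 LD3_c11)) :=
  Lre_c IH (LK LD1_c3 LD2_c47 LD3_c39) (LK LD1_c7 LD2_c36 LD3_c11) Lrfl Lrfl
theorem f497628 : Led Lsl_af (LP (LK LD1_c7 LD2_c36 LD3_c11)) = (LP (LK LD1_c6 LD2_c41 LD3_c51)) :=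
  Lgr Lrot109 (Lpe (f16785 IH) (Lpr_df (f156712 IH) (Lpe (K4.f65916 IH) (Lpe (f151477 IH) (Lpr_cf (f135816 IH) (Lpr_df (f205939 IH) (Lpe (K11.f13387 IH) (Lpe (K11.f205941 IH) (Lpr_ft (f497620 IH) (Lpn (LP (LK LD1_c6 LD2_c41 LD3_c51))))))))))))
theorem f497632 : Led Lsl_et (LP (LK LD1_c7 LD2_c36 LD3_c11)) = (LP (LK LD1_c14 LD2_c20 LD3_c4)) :=
  Lre_e IH (LK LD1_c7 LD2_c36 LD3_c11) (LK LD1_c14 LD2_c20 LD3_c4) Lrfl Lrfl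
theorem f139683 : Led Lsl_et (LP (LK LD1_c12 LD2_c48 LD3_c57)) = (LP (LK LD1_c6 LD2_c41 LD3_c51)) :=
  Lre_e IH (LK LD1_c12 LD2_c48 LD3_c57) (LK LD1_c6 LD2_c41 LD3_c51) Lrfl Lrfl
theorem f497633 : Led Lsl_at (LP (LK LD1_c14 LD2_c20 LD3_c4)) = (LP (LK LD1_c12 LD2_c48 LD3_c57)) :=
  Lgr Lrot80 (Lpe (f497632 IH) (Lpr_af (f497628 IH) (Lpe (f139683 IH) (Lpn (LP (LK LD1_c12 LD2_c48 LD3_c57))))))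
theorem f497637 : Led Lsl_ct (LP (LK LD1_c7 LD2_c36 LD3_c12)) = (LP (LK LD1_c14 LD2_c20 LD3_c4)) :=
  Lre_c IH (LK LD1_c7 LD2_c36 LD3_c12) (LK LD1_c14 LD2_c20 LD3_c4) Lrfl Lrfl
theorem f139684 : Led Lsl_et (LP (LK LD1_c6 LD2_c39 LD3_c45)) = (LP (LK LD1_c12 LD2_c45 LD3_c19)) :=
  Lre_e IH (LK LD1_c6 LD2_c39 LD3_c45) (LK LD1_c12 LD2_c45 LD3_c19) Lrfl Lrfl
theorem f139685 : Led Lsl_cf (LP (LK LD1_c12 LD2_c48 LD3_c57)) = (LP (LK LD1_c12 LD2_c45 LD3_c19)) :=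
  Lgr Lrot39 (Lpr_et (f139683 IH) (Lpr_ct (K11.f139674 IH) (Lpr_et (f139684 IH) (Lpn (LP (LK LD1_c12 LD2_c45 LD3_c19))))))
theorem f139689 : Led Lsl_ct (LP (LK LD1_c12 LD2_c48 LD3_c57)) = (LP (LK LD1_c12 LD2_c45 LD3_c19)) :=
  Lgr Lrot59 (Lpr_cf (f139685 IH) (Lpn (LP (LK LD1_c12 LD2_c45 LD3_c19))))
theorem f497638 : Led Lsl_af (LP (LK LD1_c7 LD2_c36 LD3_c12)) = (LP (LK LD1_c12 LD2_c45 LD3_c19)) :=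
  Lgr Lrot68 (Lpr_ct (f497637 IH) (Lpr_at (f497633 IH) (Lpr_ct (f139689 IH) (Lpn (LP (LK LD1_c12 LD2_c45 LD3_c19))))))
theorem f497517 : Led Lsl_bt (LP (LK LD1_c7 LD2_c36 LD3_c12)) = (LP (LK LD1_c14 LD2_c20 LD3_c2)) :=
  Lre_b IH (LK LD1_c7 LD2_c36 LD3_c12) (LK LD1_c14 LD2_c20 LD3_c2) Lrfl Lrfl
theorem f130408 : Led Lsl_bt (LP (LK LD1_c22 LD2_c11 LD3_c18)) = (LP (LK LD1_c23 LD2_c14 LD3_c38)) :=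
  Lgr Lrot127 (Lpr_bf (K8.f130406 IH) (Lpn (LP (LK LD1_c23 LD2_c14 LD3_c38))))
theorem f437306 : Led Lsl_gf (LP (LK LD1_c9 LD2_c5 LD3_c23)) = (LP (LK LD1_c6 LD2_c41 LD3_c51)) :=
  Lgr Lrot129 (Lpr_cf (f437296 IH) (Lpr_bt (K6.f57248 IH) (Lpe (K7.f146482 IH) (Lpe (K5.f94777 IH) (Lpe (K3.f94921 IH) (Lpr_gt (K2.f14580 IH) (Lpr_cf (K0.f14550 IH) (Lpr_bt (K6.f14546 IH) (Lpe (K11.f16772 IH) (Lpe (K11.f139681 IH) (Lpn (LP (LK LD1_c6 LD2_c41 LD3_c51)))))))))))))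
theorem f130218 : Led Lsl_df (LP (LK LD1_c4 LD2_c34 LD3_c31)) = (LP (LK LD1_c6 LD2_c51 LD3_c41)) :=
  Lgr Lrot78 (Lpr_ft (K5.f130214 IH) (Lpe (K6.f130120 IH) (Lpr_ft (K4.f103743 IH) (Lpn (LP (LK LD1_c6 LD2_c51 LD3_c41))))))
theorem f72395 : Led Lsl_dt (LP (LK LD1_c2 LD2_c53 LD3_c2)) = (LP (LK LD1_c1 LD2_c22 LD3_c37)) :=
  Lre_d IH (LK LD1_c2 LD2_c53 LD3_c2) (LK LD1_c1 LD2_c22 LD3_c37) Lrfl Lrfl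
theorem f136326 : Led Lsl_ft (LP (LK LD1_c2 LD2_c53 LD3_c2)) = (LP (LK LD1_c2 LD2_c51 LD3_c47)) :=
  Lgr Lrot48 (Lpr_ff (K6.f136320 IH) (Lpn (LP (LK LD1_c2 LD2_c51 LD3_c47))))
theorem f160986 : Led Lsl_af (LP (LK LD1_c2 LD2_c55 LD3_c43)) = (LP (LK LD1_c2 LD2_c51 LD3_c47)) :=
  Lgr Lrot109 (Lpr_cf (K8.f160978 IH) (Lpr_df (f130218 IH) (Lpe (K4.f65934 IH) (Lpr_df (K5.f65971 IH) (Lpe (K6.f130541 IH) (Lpr_df (K5.f130550 IH) (Lpr_cf (K2.f72390 IH) (Lpe (f72395 IH) (Lpr_ft (f136326 IH) (Lpn (LP (LK LD1_c2 LD2_c51 LD3_c47))))))))))))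
theorem f160994 : Led Lsl_gt (LP (LK LD1_c2 LD2_c53 LD3_c2)) = (LP (LK LD1_c1 LD2_c24 LD3_c2)) :=
  Lgr Lrot5 (Lpr_ft (f136326 IH) (Lpe (f160986 IH) (Lpr_gf (K8.f160992 IH) (Lpn (LP (LK LD1_c1 LD2_c24 LD3_c2))))))
theorem f76162 : Led Lsl_bt (LP (LK LD1_c2 LD2_c56 LD3_c21)) = (LP (LK LD1_c6 LD2_c0 LD3_c3)) :=
  Lre_b IH (LK LD1_c2 LD2_c56 LD3_c21) (LK LD1_c6 LD2_c0 LD3_c3) Lrfl Lrfl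
theorem f72665 : Led Lsl_gt (LP (LK LD1_c6 LD2_c0 LD3_c3)) = (LP (LK LD1_c11 LD2_c44 LD3_c34)) :=
  Lre_g IH (LK LD1_c6 LD2_c0 LD3_c3) (LK LD1_c11 LD2_c44 LD3_c34) Lrfl Lrfl
theorem f437308 : Led Lsl_bt (LP (LK LD1_c6 LD2_c39 LD3_c45)) = (LP (LK LD1_c11 LD2_c44 LD3_c34)) :=
  Lgr Lrot92 (Lpe (K11.f139681 IH) (Lpe (f437306 IH) (Lpr_cf (f437296 IH) (Lpr_bt (K6.f57248 IH) (Lpe (K7.f146482 IH) (Lpe (K8.f95231 IH) (Lpr_gt (f160994 IH) (Lpe (K6.f76151 IH) (Lpr_bt (f76162 IH) (Lpr_gt (f72665 IH) (Lpn (LP (LK LD1_c11 LD2_c44 LD3_c34)))))))))))))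
theorem f16777 : Led Lsl_et (LP (LK LD1_c12 LD2_c45 LD3_c19)) = (LP (LK LD1_c6 LD2_c39 LD3_c45)) :=
  Lre_e IH (LK LD1_c12 LD2_c45 LD3_c19) (LK LD1_c6 LD2_c39 LD3_c45) Lrfl Lrfl
theorem f437314 : Led Lsl_et (LP (LK LD1_c11 LD2_c44 LD3_c34)) = (LP (LK LD1_c20 LD2_c45 LD3_c56)) :=
  Lre_e IH (LK LD1_c11 LD2_c44 LD3_c34) (LK LD1_c20 LD2_c45 LD3_c56) Lrfl Lrfl
theorem f437315 : Led Lsl_bf (LP (LK LD1_c12 LD2_c45 LD3_c19)) = (LP (LK LD1_c20 LD2_c45 LD3_c56)) :=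
  Lgr Lrot96 (Lpr_et (f16777 IH) (Lpr_bt (f437308 IH) (Lpr_et (f437314 IH) (Lpn (LP (LK LD1_c20 LD2_c45 LD3_c56))))))
theorem f497642 : Led Lsl_at (LP (LK LD1_c23 LD2_c14 LD3_c38)) = (LP (LK LD1_c20 LD2_c45 LD3_c56)) :=
  Lgr Lrot67 (Lpe (f130408 IH) (Lpe (f497512 IH) (Lpe (f497517 IH) (Lpr_af (f497638 IH) (Lpr_bf (f437315 IH) (Lpn (LP (LK LD1_c20 LD2_c45 LD3_c56))))))))
theorem f437321 : Led Lsl_et (LP (LK LD1_c20 LD2_c45 LD3_c56)) = (LP (LK LD1_c11 LD2_c44 LD3_c34)) :=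
  Lre_e IH (LK LD1_c20 LD2_c45 LD3_c56) (LK LD1_c11 LD2_c44 LD3_c34) Lrfl Lrfl
theorem f497655 : Led Lsl_af (LP (LK LD1_c13 LD2_c47 LD3_c3)) = (LP (LK LD1_c11 LD2_c44 LD3_c34)) :=
  Lgr Lrot50 (Lpr_et (K8.f130405 IH) (Lpr_at (f497642 IH) (Lpr_et (f437321 IH) (Lpn (LP (LK LD1_c11 LD2_c44 LD3_c34))))))
theorem f97466 : Led Lsl_dt (LP (LK LD1_c3 LD2_c29 LD3_c40)) = (LP (LK LD1_c1 LD2_c41 LD3_c32)) :=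
  Lre_d IH (LK LD1_c3 LD2_c29 LD3_c40) (LK LD1_c1 LD2_c41 LD3_c32) Lrfl Lrfl
theorem f135980 : Led Lsl_gt (LP (LK LD1_c11 LD2_c44 LD3_c35)) = (LP (LK LD1_c6 LD2_c0 LD3_c3)) :=
  Lre_g IH (LK LD1_c11 LD2_c44 LD3_c35) (LK LD1_c6 LD2_c0 LD3_c3) Lrfl Lrfl
theorem f426633 : Led Lsl_df (LP (LK LD1_c11 LD2_c44 LD3_c35)) = (LP (LK LD1_c7 LD2_c18 LD3_c53)) :=
  Lgr Lrot155 (Lpr_gt (f135980 IH) (Lpr_ct (K6.f110365 IH) (Lpr_gt (K6.f76144 IH) (Lpr_ct (K7.f135973 IH) (Lpr_dt (f97466 IH) (Lpe (K3.f64640 IH) (Lpe (K28.f64795 IH) (Lpr_cf (K28.f426619 IH) (Lpe (K28.f426613 IH) (Lpn (LP (LK LD1_c7 LD2_c18 LD3_c53))))))))))))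
theorem f426638 : Led Lsl_bt (LP (LK LD1_c11 LD2_c44 LD3_c35)) = (LP (LK LD1_c12 LD2_c32 LD3_c55)) :=
  Lgr Lrot95 (Lpr_df (f426633 IH) (Lpe (K28.f155602 IH) (Lpr_df (K8.f155560 IH) (Lpn (LP (LK LD1_c12 LD2_c32 LD3_c55))))))
theorem f497525 : Led Lsl_ff (LP (LK LD1_c11 LD2_c44 LD3_c35)) = (LP (LK LD1_c13 LD2_c47 LD3_c3)) :=
  Lgr Lrot25 (Lpr_bt (f426638 IH) (Lpr_ft (f497523 IH) (Lpr_bt (K6.f130303 IH) (Lpn (LP (LK LD1_c13 LD2_c47 LD3_c3))))))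
theorem f156659 : Led Lsl_bt (LP (LK LD1_c3 LD2_c47 LD3_c40)) = (LP (LK LD1_c7 LD2_c36 LD3_c13)) :=
  Lre_b IH (LK LD1_c3 LD2_c47 LD3_c40) (LK LD1_c7 LD2_c36 LD3_c13) Lrfl Lrfl
theorem f437310 : Led Lsl_bf (LP (LK LD1_c6 LD2_c39 LD3_c45)) = (LP (LK LD1_c11 LD2_c44 LD3_c34)) :=
  Lgr Lrot24 (Lpr_bt (f437308 IH) (Lpn (LP (LK LD1_c11 LD2_c44 LD3_c34))))
theorem f497618 : Led Lsl_ft (LP (LK LD1_c7 LD2_c36 LD3_c13)) = (LP (LK LD1_c11 LD2_c44 LD3_c34)) :=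
  Lgr Lrot75 (Lpe (f156659 IH) (Lpr_ff (f497614 IH) (Lpr_bf (f437310 IH) (Lpn (LP (LK LD1_c11 LD2_c44 LD3_c34))))))
theorem f497661 : Led Lsl_at (LP (LK LD1_c11 LD2_c44 LD3_c35)) = (LP (LK LD1_c7 LD2_c36 LD3_c13)) :=
  Lgr Lrot66 (Lpr_ff (f497525 IH) (Lpr_af (f497655 IH) (Lpe (f497618 IH) (Lpn (LP (LK LD1_c7 LD2_c36 LD3_c13))))))
theorem f97498 : Led Lsl_bt (LP (LK LD1_c7 LD2_c17 LD3_c9)) = (LP (LK LD1_c6 LD2_c58 LD3_c42)) :=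
  Lgr Lrot128 (Lpe (K24.f97497 IH) (Lpe (K24.f18025 IH) (Lpr_cf (K24.f97477 IH) (Lpe (K7.f92478 IH) (Lpe (K7.f94639 IH) (Lpn (LP (LK LD1_c6 LD2_c58 LD3_c42))))))))
theorem f156660 : Led Lsl_dt (LP (LK LD1_c7 LD2_c36 LD3_c13)) = (LP (LK LD1_c7 LD2_c17 LD3_c9)) :=
  Lgr Lrot79 (Lpe (f156659 IH) (Lpr_df (K7.f156657 IH) (Lpe (f97498 IH) (Lpn (LP (LK LD1_c7 LD2_c17 LD3_c9))))))
theorem f497663 : Led Lsl_af (LP (LK LD1_c7 LD2_c18 LD3_c53)) = (LP (LK LD1_c7 LD2_c17 LD3_c9)) :=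
  Lgr Lrot117 (Lpe (f426633 IH) (Lpr_at (f497661 IH) (Lpr_dt (f156660 IH) (Lpn (LP (LK LD1_c7 LD2_c17 LD3_c9))))))
theorem f497675 : Led Lsl_at (LP (LK LD1_c3 LD2_c39 LD3_c20)) = (LP (LK LD1_c3 LD2_c38 LD3_c25)) :=
  Lgr Lrot107 (Lpe (K28.f94565 IH) (Lpr_af (f497663 IH) (Lpe (K24.f97497 IH) (Lpn (LP (LK LD1_c3 LD2_c38 LD3_c25))))))
theorem f121892 : Led Lsl_gt (LP (LK LD1_c3 LD2_c39 LD3_c22)) = (LP (LK LD1_c3 LD2_c38 LD3_c25)) :=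
  Lgr Lrot149 (Lpr_cf (K8.f121863 IH) (Lpe (K4.f95987 IH) (Lpe (K3.f95329 IH) (Lpr_ct (K2.f64296 IH) (Lpe (K3.f18883 IH) (Lpe (K1.f18876 IH) (Lpr_bt (K2.f18612 IH) (Lpe (K7.f18665 IH) (Lpe (f97498 IH) (Lpr_ct (K28.f97474 IH) (Lpn (LP (LK LD1_c3 LD2_c38 LD3_c25)))))))))))))
theorem f497683 : Led Lsl_ff (LP (LK LD1_c3 LD2_c39 LD3_c20)) = (LP (LK LD1_c3 LD2_c38 LD3_c24)) :=
  Lgr Lrot52 (Lpr_at (f497675 IH) (Lpe (f121892 IH) (Lpr_gf (K8.f121850 IH) (Lpn (LP (LK LD1_c3 LD2_c38 LD3_c24))))))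
theorem f497686 : Led Lsl_ft (LP (LK LD1_c3 LD2_c39 LD3_c20)) = (LP (LK LD1_c3 LD2_c38 LD3_c24)) :=
  Lgr Lrot48 (Lpr_ff (f497683 IH) (Lpn (LP (LK LD1_c3 LD2_c38 LD3_c24))))
theorem f497688 : Led Lsl_ff (LP (LK LD1_c7 LD2_c18 LD3_c53)) = (LP (LK LD1_c7 LD2_c17 LD3_c6)) :=
  Lgr Lrot23 (Lpr_ct (K28.f94565 IH) (Lpr_ft (f497686 IH) (Lpr_ct (K28.f18027 IH) (Lpn (LP (LK LD1_c7 LD2_c17 LD3_c6))))))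
theorem f497537 : Led Lsl_af (LP (LK LD1_c7 LD2_c22 LD3_c39)) = (LP (LK LD1_c6 LD2_c59 LD3_c42)) :=
  Lgr Lrot0 (Lpr_at (f497535 IH) (Lpn (LP (LK LD1_c6 LD2_c59 LD3_c42))))
theorem f497592 : Led Lsl_af (LP (LK LD1_c7 LD2_c17 LD3_c9)) = (LP (LK LD1_c7 LD2_c18 LD3_c53)) :=
  Lgr Lrot36 (Lpr_bt (f97498 IH) (Lpr_at (f497588 IH) (Lpr_bt (K8.f123955 IH) (Lpe (f497537 IH) (Lpr_bt (K28.f155602 IH) (Lpn (LP (LK LD1_c7 LD2_c18 LD3_c53))))))))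
theorem f497600 : Led Lsl_ft (LP (LK LD1_c7 LD2_c17 LD3_c9)) = (LP (LK LD1_c6 LD2_c59 LD3_c45)) :=
  Lgr Lrot75 (Lpr_bf (K28.f97475 IH) (Lpr_ff (f497596 IH) (Lpe (K2.f18652 IH) (Lpn (LP (LK LD1_c6 LD2_c59 LD3_c45))))))
theorem f497690 : Led Lsl_at (LP (LK LD1_c6 LD2_c59 LD3_c45)) = (LP (LK LD1_c7 LD2_c17 LD3_c6)) :=
  Lgr Lrot66 (Lpe (f497600 IH) (Lpr_af (f497592 IH) (Lpr_ff (f497688 IH) (Lpn (LP (LK LD1_c7 LD2_c17 LD3_c6))))))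
theorem f94528 : Led Lsl_et (LP (LK LD1_c13 LD2_c16 LD3_c28)) = (LP (LK LD1_c6 LD2_c59 LD3_c45)) :=
  Lre_e IH (LK LD1_c13 LD2_c16 LD3_c28) (LK LD1_c6 LD2_c59 LD3_c45) Lrfl Lrfl
theorem f123633 : Led Lsl_et (LP (LK LD1_c7 LD2_c17 LD3_c6)) = (LP (LK LD1_c13 LD2_c47 LD3_c4)) :=
  Lre_e IH (LK LD1_c7 LD2_c17 LD3_c6) (LK LD1_c13 LD2_c47 LD3_c4) Lrfl Lrfl
theorem f497698 : Led Lsl_af (LP (LK LD1_c13 LD2_c16 LD3_c28)) = (LP (LK LD1_c13 LD2_c47 LD3_c4)) :=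
  Lgr Lrot50 (Lpr_et (f94528 IH) (Lpr_at (f497690 IH) (Lpr_et (f123633 IH) (Lpn (LP (LK LD1_c13 LD2_c47 LD3_c4))))))
theorem f91244 : Led Lsl_et (LP (LK LD1_c7 LD2_c0 LD3_c16)) = (LP (LK LD1_c13 LD2_c17 LD3_c21)) :=
  Lre_e IH (LK LD1_c7 LD2_c0 LD3_c16) (LK LD1_c13 LD2_c17 LD3_c21) Lrfl Lrfl
theorem f94504 : Led Lsl_et (LP (LK LD1_c13 LD2_c50 LD3_c21)) = (LP (LK LD1_c7 LD2_c18 LD3_c55)) :=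
  Lre_e IH (LK LD1_c13 LD2_c50 LD3_c21) (LK LD1_c7 LD2_c18 LD3_c55) Lrfl Lrfl
theorem f94505 : Led Lsl_ct (LP (LK LD1_c13 LD2_c17 LD3_c21)) = (LP (LK LD1_c13 LD2_c50 LD3_c21)) :=
  Lgr Lrot15 (Lpe (f91244 IH) (Lpr_cf (K2.f94489 IH) (Lpe (f94504 IH) (Lpn (LP (LK LD1_c13 LD2_c50 LD3_c21))))))
theorem f94510 : Led Lsl_cf (LP (LK LD1_c13 LD2_c17 LD3_c21)) = (LP (LK LD1_c13 LD2_c50 LD3_c21)) :=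
  Lgr Lrot11 (Lpr_ct (f94505 IH) (Lpn (LP (LK LD1_c13 LD2_c50 LD3_c21))))
theorem f91245 : Led Lsl_et (LP (LK LD1_c13 LD2_c16 LD3_c29)) = (LP (LK LD1_c6 LD2_c59 LD3_c46)) :=
  Lre_e IH (LK LD1_c13 LD2_c16 LD3_c29) (LK LD1_c6 LD2_c59 LD3_c46) Lrfl Lrfl
theorem f91246 : Led Lsl_bt (LP (LK LD1_c13 LD2_c17 LD3_c21)) = (LP (LK LD1_c13 LD2_c16 LD3_c29)) :=
  Lgr Lrot119 (Lpe (f91244 IH) (Lpr_bf (K2.f91238 IH) (Lpe (f91245 IH) (Lpn (LP (LK LD1_c13 LD2_c16 LD3_c29))))))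
theorem f91250 : Led Lsl_ct (LP (LK LD1_c13 LD2_c16 LD3_c29)) = (LP (LK LD1_c6 LD2_c59 LD3_c47)) :=
  Lre_c IH (LK LD1_c13 LD2_c16 LD3_c29) (LK LD1_c6 LD2_c59 LD3_c47) Lrfl Lrfl
theorem f91251 : Led Lsl_bt (LP (LK LD1_c6 LD2_c59 LD3_c47)) = (LP (LK LD1_c13 LD2_c16 LD3_c28)) :=
  Lre_b IH (LK LD1_c6 LD2_c59 LD3_c47) (LK LD1_c13 LD2_c16 LD3_c28) Lrfl Lrfl
theorem f94512 : Led Lsl_bt (LP (LK LD1_c7 LD2_c18 LD3_c56)) = (LP (LK LD1_c13 LD2_c50 LD3_c21)) :=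
  Lre_b IH (LK LD1_c7 LD2_c18 LD3_c56) (LK LD1_c13 LD2_c50 LD3_c21) Lrfl Lrfl
theorem f94513 : Led Lsl_ct (LP (LK LD1_c13 LD2_c16 LD3_c28)) = (LP (LK LD1_c7 LD2_c18 LD3_c56)) :=
  Lgr Lrot83 (Lpe (f91251 IH) (Lpe (f91250 IH) (Lpe (f91246 IH) (Lpr_cf (f94510 IH) (Lpe (f94512 IH) (Lpn (LP (LK LD1_c7 LD2_c18 LD3_c56))))))))
theorem f123632 : Led Lsl_ct (LP (LK LD1_c7 LD2_c17 LD3_c7)) = (LP (LK LD1_c13 LD2_c47 LD3_c4)) :=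
  Lre_c IH (LK LD1_c7 LD2_c17 LD3_c7) (LK LD1_c13 LD2_c47 LD3_c4) Lrfl Lrfl
theorem f497702 : Led Lsl_at (LP (LK LD1_c7 LD2_c18 LD3_c56)) = (LP (LK LD1_c7 LD2_c17 LD3_c7)) :=
  Lgr Lrot107 (Lpe (f94513 IH) (Lpr_af (f497698 IH) (Lpe (f123632 IH) (Lpn (LP (LK LD1_c7 LD2_c17 LD3_c7))))))
theorem f497708 : Led Lsl_af (LP (LK LD1_c7 LD2_c18 LD3_c56)) = (LP (LK LD1_c7 LD2_c17 LD3_c7)) :=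
  Lgr Lrot0 (Lpr_at (f497702 IH) (Lpn (LP (LK LD1_c7 LD2_c17 LD3_c7))))
theorem f94520 : Led Lsl_et (LP (LK LD1_c7 LD2_c18 LD3_c56)) = (LP (LK LD1_c3 LD2_c39 LD3_c21)) :=
  Lre_e IH (LK LD1_c7 LD2_c18 LD3_c56) (LK LD1_c3 LD2_c39 LD3_c21) Lrfl Lrfl
theorem f147255 : Led Lsl_et (LP (LK LD1_c3 LD2_c38 LD3_c24)) = (LP (LK LD1_c7 LD2_c17 LD3_c7)) :=
  Lre_e IH (LK LD1_c3 LD2_c38 LD3_c24) (LK LD1_c7 LD2_c17 LD3_c7) Lrfl Lrfl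
theorem f497710 : Led Lsl_at (LP (LK LD1_c3 LD2_c39 LD3_c21)) = (LP (LK LD1_c3 LD2_c38 LD3_c24)) :=
  Lgr Lrot80 (Lpe (f94520 IH) (Lpr_af (f497708 IH) (Lpe (f147255 IH) (Lpn (LP (LK LD1_c3 LD2_c38 LD3_c24))))))
theorem f497712 : Led Lsl_ff (LP (LK LD1_c3 LD2_c39 LD3_c21)) = (LP (LK LD1_c3 LD2_c38 LD3_c25)) :=
  Lgr Lrot30 (Lpr_at (f497710 IH) (Lpe (f497683 IH) (Lpr_at (f497675 IH) (Lpn (LP (LK LD1_c3 LD2_c38 LD3_c25))))))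
theorem f497716 : Led Lsl_ft (LP (LK LD1_c3 LD2_c39 LD3_c21)) = (LP (LK LD1_c3 LD2_c38 LD3_c25)) :=
  Lgr Lrot48 (Lpr_ff (f497712 IH) (Lpn (LP (LK LD1_c3 LD2_c38 LD3_c25))))
theorem f497718 : Led Lsl_ff (LP (LK LD1_c7 LD2_c18 LD3_c55)) = (LP (LK LD1_c7 LD2_c17 LD3_c8)) :=
  Lgr Lrot25 (Lpr_bt (K2.f92341 IH) (Lpr_ft (f497716 IH) (Lpr_bt (K24.f97473 IH) (Lpn (LP (LK LD1_c7 LD2_c17 LD3_c8))))))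
theorem f497720 : Led Lsl_ft (LP (LK LD1_c7 LD2_c0 LD3_c16)) = (LP (LK LD1_c3 LD2_c45 LD3_c38)) :=
  Lgr Lrot4 (Lpr_cf (K2.f94489 IH) (Lpr_ff (f497718 IH) (Lpr_cf (K24.f97477 IH) (Lpn (LP (LK LD1_c3 LD2_c45 LD3_c38))))))
theorem f497726 : Led Lsl_af (LP (LK LD1_c7 LD2_c0 LD3_c17)) = (LP (LK LD1_c3 LD2_c45 LD3_c38)) :=
  Lgr Lrot31 (Lpr_gf (K8.f127657 IH) (Lpr_gf (K4.f111497 IH) (Lpr_ft (f497720 IH) (Lpn (LP (LK LD1_c3 LD2_c45 LD3_c38))))))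
theorem f497734 : Led Lsl_at (LP (LK LD1_c13 LD2_c17 LD3_c22)) = (LP (LK LD1_c7 LD2_c31 LD3_c55)) :=
  Lgr Lrot51 (Lpe (K8.f17911 IH) (Lpr_af (f497726 IH) (Lpe (K7.f97483 IH) (Lpn (LP (LK LD1_c7 LD2_c31 LD3_c55))))))
theorem f419427 : Led Lsl_bt (LP (LK LD1_c1 LD2_c50 LD3_c24)) = (LP (LK LD1_c3 LD2_c46 LD3_c32)) :=
  Lre_b IH (LK LD1_c1 LD2_c50 LD3_c24) (LK LD1_c3 LD2_c46 LD3_c32) Lrfl Lrfl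
theorem f419451 : Led Lsl_ft (LP (LK LD1_c3 LD2_c46 LD3_c32)) = (LP (LK LD1_c7 LD2_c0 LD3_c49)) :=
  Lgr Lrot75 (Lpe (f419427 IH) (Lpr_ff (K28.f419447 IH) (Lpe (K4.f121891 IH) (Lpn (LP (LK LD1_c7 LD2_c0 LD3_c49))))))
theorem f108822 : Led Lsl_gt (LP (LK LD1_c7 LD2_c22 LD3_c10)) = (LP (LK LD1_c3 LD2_c40 LD3_c57)) :=
  Lre_g IH (LK LD1_c7 LD2_c22 LD3_c10) (LK LD1_c3 LD2_c40 LD3_c57) Lrfl Lrfl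
theorem f419778 : Led Lsl_gt (LP (LK LD1_c3 LD2_c46 LD3_c32)) = (LP (LK LD1_c7 LD2_c22 LD3_c10)) :=
  Lgr Lrot5 (Lpr_ft (f419451 IH) (Lpe (K4.f122051 IH) (Lpe (f108822 IH) (Lpn (LP (LK LD1_c7 LD2_c22 LD3_c10))))))
theorem f419408 : Led Lsl_cf (LP (LK LD1_c3 LD2_c46 LD3_c32)) = (LP (LK LD1_c3 LD2_c43 LD3_c47)) :=
  Lgr Lrot99 (Lpe (K28.f419407 IH) (Lpe (K28.f419387 IH) (Lpr_gf (K28.f419397 IH) (Lpe (K4.f117133 IH) (Lpe (K4.f117148 IH) (Lpr_df (K6.f122283 IH) (Lpr_gt (K4.f115814 IH) (Lpr_ct (K28.f137053 IH) (Lpr_gt (K28.f122152 IH) (Lpn (LP (LK LD1_c3 LD2_c43 LD3_c47))))))))))))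
theorem f137051 : Led Lsl_bt (LP (LK LD1_c6 LD2_c53 LD3_c46)) = (LP (LK LD1_c3 LD2_c41 LD3_c0)) :=
  Lgr Lrot35 (Lpr_ff (K4.f102866 IH) (Lpe (K7.f136961 IH) (Lpr_ff (K6.f137049 IH) (Lpn (LP (LK LD1_c3 LD2_c41 LD3_c0))))))
theorem f146915 : Led Lsl_at (LP (LK LD1_c1 LD2_c47 LD3_c35)) = (LP (LK LD1_c3 LD2_c41 LD3_c19)) :=
  Lre_a IH (LK LD1_c1 LD2_c47 LD3_c35) (LK LD1_c3 LD2_c41 LD3_c19) Lrfl Lrfl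
theorem f147189 : Led Lsl_ff (LP (LK LD1_c1 LD2_c47 LD3_c35)) = (LP (LK LD1_c1 LD2_c49 LD3_c3)) :=
  Lgr Lrot30 (Lpr_at (f146915 IH) (Lpr_ft (K8.f147187 IH) (Lpr_at (K4.f116187 IH) (Lpn (LP (LK LD1_c1 LD2_c49 LD3_c3))))))
theorem f116133 : Led Lsl_gt (LP (LK LD1_c1 LD2_c49 LD3_c3)) = (LP (LK LD1_c3 LD2_c44 LD3_c0)) :=
  Lre_g IH (LK LD1_c1 LD2_c49 LD3_c3) (LK LD1_c3 LD2_c44 LD3_c0) Lrfl Lrfl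
theorem f147345 : Led Lsl_gf (LP (LK LD1_c3 LD2_c41 LD3_c19)) = (LP (LK LD1_c3 LD2_c44 LD3_c0)) :=
  Lgr Lrot76 (Lpe (f146915 IH) (Lpr_ff (f147189 IH) (Lpr_gt (f116133 IH) (Lpn (LP (LK LD1_c3 LD2_c44 LD3_c0))))))
theorem f116134 : Led Lsl_bt (LP (LK LD1_c7 LD2_c28 LD3_c51)) = (LP (LK LD1_c3 LD2_c44 LD3_c0)) :=
  Lre_b IH (LK LD1_c7 LD2_c28 LD3_c51) (LK LD1_c3 LD2_c44 LD3_c0) Lrfl Lrfl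
theorem f419780 : Led Lsl_ct (LP (LK LD1_c7 LD2_c28 LD3_c51)) = (LP (LK LD1_c7 LD2_c22 LD3_c10)) :=
  Lgr Lrot63 (Lpr_bt (f116134 IH) (Lpe (f147345 IH) (Lpr_bf (K8.f147183 IH) (Lpe (K7.f123718 IH) (Lpr_gt (K7.f136750 IH) (Lpe (K4.f102450 IH) (Lpr_bt (f137051 IH) (Lpr_gt (K28.f122152 IH) (Lpe (f419408 IH) (Lpr_gt (f419778 IH) (Lpn (LP (LK LD1_c7 LD2_c22 LD3_c10)))))))))))))
theorem f111115 : Led Lsl_ct (LP (LK LD1_c12 LD2_c34 LD3_c49)) = (LP (LK LD1_c6 LD2_c34 LD3_c5)) :=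
  Lre_c IH (LK LD1_c12 LD2_c34 LD3_c49) (LK LD1_c6 LD2_c34 LD3_c5) Lrfl Lrfl
theorem f111165 : Led Lsl_bt (LP (LK LD1_c12 LD2_c34 LD3_c49)) = (LP (LK LD1_c7 LD2_c1 LD3_c13)) :=
  Lgr Lrot128 (Lpe (K4.f94534 IH) (Lpr_bf (K4.f111074 IH) (Lpr_cf (K4.f111044 IH) (Lpr_bf (K4.f111155 IH) (Lpe (K7.f111138 IH) (Lpn (LP (LK LD1_c7 LD2_c1 LD3_c13))))))))
theorem f419791 : Led Lsl_gf (LP (LK LD1_c7 LD2_c28 LD3_c51)) = (LP (LK LD1_c7 LD2_c1 LD3_c13)) :=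
  Lgr Lrot181 (Lpr_ct (f419780 IH) (Lpr_gt (f108822 IH) (Lpe (K4.f122058 IH) (Lpr_bt (K4.f122165 IH) (Lpe (K4.f122477 IH) (Lpe (K7.f122485 IH) (Lpr_ct (K6.f122614 IH) (Lpr_gt (K4.f94533 IH) (Lpe (f111115 IH) (Lpr_bt (f111165 IH) (Lpn (LP (LK LD1_c7 LD2_c1 LD3_c13)))))))))))))
theorem f419785 : Led Lsl_cf (LP (LK LD1_c7 LD2_c28 LD3_c51)) = (LP (LK LD1_c7 LD2_c22 LD3_c10)) :=
  Lgr Lrot11 (Lpr_ct (f419780 IH) (Lpn (LP (LK LD1_c7 LD2_c22 LD3_c10))))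
theorem f103618 : Led Lsl_ct (LP (LK LD1_c3 LD2_c29 LD3_c49)) = (LP (LK LD1_c7 LD2_c1 LD3_c13)) :=
  Lre_c IH (LK LD1_c3 LD2_c29 LD3_c49) (LK LD1_c7 LD2_c1 LD3_c13) Lrfl Lrfl
theorem f92451 : Led Lsl_gt (LP (LK LD1_c3 LD2_c45 LD3_c39)) = (LP (LK LD1_c1 LD2_c49 LD3_c57)) :=
  Lre_g IH (LK LD1_c3 LD2_c45 LD3_c39) (LK LD1_c1 LD2_c49 LD3_c57) Lrfl Lrfl
theorem f419799 : Led Lsl_bt (LP (LK LD1_c7 LD2_c22 LD3_c10)) = (LP (LK LD1_c3 LD2_c45 LD3_c39)) :=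
  Lgr Lrot130 (Lpe (f419785 IH) (Lpr_gf (f419791 IH) (Lpe (f103618 IH) (Lpe (K4.f111155 IH) (Lpr_gf (K4.f111040 IH) (Lpe (K7.f95506 IH) (Lpe (K7.f109565 IH) (Lpe (K3.f10785 IH) (Lpe (K24.f92350 IH) (Lpe (f92451 IH) (Lpn (LP (LK LD1_c3 LD2_c45 LD3_c39)))))))))))))
theorem f62203 : Led Lsl_gt (LP (LK LD1_c1 LD2_c35 LD3_c18)) = (LP (LK LD1_c3 LD2_c17 LD3_c27)) :=
  Lre_g IH (LK LD1_c1 LD2_c35 LD3_c18) (LK LD1_c3 LD2_c17 LD3_c27) Lrfl Lrfl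
theorem f62205 : Led Lsl_ct (LP (LK LD1_c3 LD2_c17 LD3_c27)) = (LP (LK LD1_c6 LD2_c38 LD3_c14)) :=
  Lre_c IH (LK LD1_c3 LD2_c17 LD3_c27) (LK LD1_c6 LD2_c38 LD3_c14) Lrfl Lrfl
theorem f419797 : Led Lsl_df (LP (LK LD1_c7 LD2_c22 LD3_c10)) = (LP (LK LD1_c6 LD2_c38 LD3_c14)) :=
  Lgr Lrot162 (Lpe (f419780 IH) (Lpr_gf (f419791 IH) (Lpe (f103618 IH) (Lpe (K4.f103617 IH) (Lpr_dt (K6.f103647 IH) (Lpe (K7.f146699 IH) (Lpr_ct (K4.f62179 IH) (Lpr_gt (f62203 IH) (Lpr_ct (f62205 IH) (Lpn (LP (LK LD1_c6 LD2_c38 LD3_c14))))))))))))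
theorem f92480 : Led Lsl_dt (LP (LK LD1_c3 LD2_c45 LD3_c39)) = (LP (LK LD1_c7 LD2_c31 LD3_c57)) :=
  Lre_d IH (LK LD1_c3 LD2_c45 LD3_c39) (LK LD1_c7 LD2_c31 LD3_c57) Lrfl Lrfl
theorem f419804 : Led Lsl_bf (LP (LK LD1_c6 LD2_c38 LD3_c14)) = (LP (LK LD1_c7 LD2_c31 LD3_c57)) :=
  Lgr Lrot93 (Lpe (f419797 IH) (Lpr_bt (f419799 IH) (Lpr_dt (f92480 IH) (Lpn (LP (LK LD1_c7 LD2_c31 LD3_c57))))))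
theorem f419823 : Led Lsl_bt (LP (LK LD1_c6 LD2_c38 LD3_c14)) = (LP (LK LD1_c7 LD2_c31 LD3_c57)) :=
  Lgr Lrot127 (Lpr_bf (f419804 IH) (Lpn (LP (LK LD1_c7 LD2_c31 LD3_c57))))
theorem f62289 : Led Lsl_ct (LP (LK LD1_c6 LD2_c38 LD3_c14)) = (LP (LK LD1_c3 LD2_c17 LD3_c27)) :=
  Lre_c IH (LK LD1_c6 LD2_c38 LD3_c14) (LK LD1_c3 LD2_c17 LD3_c27) Lrfl Lrfl
theorem f96234 : Led Lsl_bt (LP (LK LD1_c1 LD2_c41 LD3_c38)) = (LP (LK LD1_c3 LD2_c29 LD3_c53)) :=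
  Lre_b IH (LK LD1_c1 LD2_c41 LD3_c38) (LK LD1_c3 LD2_c29 LD3_c53) Lrfl Lrfl
theorem f419843 : Led Lsl_gf (LP (LK LD1_c3 LD2_c45 LD3_c59)) = (LP (LK LD1_c7 LD2_c31 LD3_c57)) :=
  Lgr Lrot124 (Lpe (K5.f92929 IH) (Lpe (K3.f93366 IH) (Lpe (K5.f96120 IH) (Lpr_cf (K3.f65104 IH) (Lpr_bt (f96234 IH) (Lpe (K7.f146699 IH) (Lpr_ct (K4.f62179 IH) (Lpr_gt (f62203 IH) (Lpe (f62289 IH) (Lpr_bt (f419823 IH) (Lpn (LP (LK LD1_c7 LD2_c31 LD3_c57)))))))))))))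
theorem f497742 : Led Lsl_ff (LP (LK LD1_c13 LD2_c17 LD3_c22)) = (LP (LK LD1_c7 LD2_c31 LD3_c57)) :=
  Lgr Lrot52 (Lpr_at (f497734 IH) (Lpr_gf (K7.f136760 IH) (Lpr_gf (f419843 IH) (Lpn (LP (LK LD1_c7 LD2_c31 LD3_c57))))))
theorem f497752 : Led Lsl_ft (LP (LK LD1_c13 LD2_c17 LD3_c22)) = (LP (LK LD1_c7 LD2_c31 LD3_c57)) :=
  Lgr Lrot48 (Lpr_ff (f497742 IH) (Lpn (LP (LK LD1_c7 LD2_c31 LD3_c57))))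
theorem f104285 : Led Lsl_ct (LP (LK LD1_c1 LD2_c52 LD3_c30)) = (LP (LK LD1_c1 LD2_c21 LD3_c8)) :=
  Lgr Lrot10 (Lpr_bt (K5.f20838 IH) (Lpr_gt (K2.f20837 IH) (Lpr_ct (K2.f65193 IH) (Lpr_gt (K1.f62193 IH) (Lpe (K3.f66417 IH) (Lpr_bt (K3.f104234 IH) (Lpr_gt (K2.f57260 IH) (Lpr_bf (K1.f57232 IH) (Lpr_ct (K1.f56674 IH) (Lpr_gt (K6.f56762 IH) (Lpn (LP (LK LD1_c1 LD2_c21 LD3_c8)))))))))))))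
theorem f64345 : Led Lsl_dt (LP (LK LD1_c1 LD2_c52 LD3_c7)) = (LP (LK LD1_c3 LD2_c50 LD3_c25)) :=
  Lre_d IH (LK LD1_c1 LD2_c52 LD3_c7) (LK LD1_c3 LD2_c50 LD3_c25) Lrfl Lrfl
theorem f137168 : Led Lsl_gt (LP (LK LD1_c3 LD2_c50 LD3_c25)) = (LP (LK LD1_c1 LD2_c52 LD3_c30)) :=
  Lgr Lrot9 (Lpe (f64345 IH) (Lpr_gt (K6.f12298 IH) (Lpr_ct (K1.f12290 IH) (Lpe (K1.f64341 IH) (Lpr_ct (K1.f64309 IH) (Lpe (K6.f135865 IH) (Lpe (K6.f135849 IH) (Lpr_gf (K7.f136934 IH) (Lpe (f104285 IH) (Lpn (LP (LK LD1_c1 LD2_c52 LD3_c30))))))))))))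
theorem f66381 : Led Lsl_bt (LP (LK LD1_c7 LD2_c41 LD3_c54)) = (LP (LK LD1_c3 LD2_c50 LD3_c25)) :=
  Lre_b IH (LK LD1_c7 LD2_c41 LD3_c54) (LK LD1_c3 LD2_c50 LD3_c25) Lrfl Lrfl
theorem f96524 : Led Lsl_dt (LP (LK LD1_c3 LD2_c50 LD3_c24)) = (LP (LK LD1_c7 LD2_c41 LD3_c54)) :=
  Lre_d IH (LK LD1_c3 LD2_c50 LD3_c24) (LK LD1_c7 LD2_c41 LD3_c54) Lrfl Lrfl
theorem f104075 : Led Lsl_ct (LP (LK LD1_c3 LD2_c33 LD3_c20)) = (LP (LK LD1_c7 LD2_c7 LD3_c30)) :=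
  Lre_c IH (LK LD1_c3 LD2_c33 LD3_c20) (LK LD1_c7 LD2_c7 LD3_c30) Lrfl Lrfl
theorem f127839 : Led Lsl_cf (LP (LK LD1_c13 LD2_c17 LD3_c42)) = (LP (LK LD1_c14 LD2_c32 LD3_c55)) :=
  Lgr Lrot108 (Lpr_ft (K5.f127835 IH) (Lpe (K5.f127668 IH) (Lpr_ft (K5.f127675 IH) (Lpn (LP (LK LD1_c14 LD2_c32 LD3_c55))))))
theorem f130280 : Led Lsl_gf (LP (LK LD1_c14 LD2_c32 LD3_c55)) = (LP (LK LD1_c9 LD2_c20 LD3_c58)) :=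
  Lgr Lrot126 (Lpe (K7.f127831 IH) (Lpr_bt (K5.f127821 IH) (Lpr_gt (K6.f130263 IH) (Lpe (K6.f130229 IH) (Lpr_gt (K6.f130228 IH) (Lpe (K6.f93278 IH) (Lpr_bt (K6.f111046 IH) (Lpr_gt (K3.f104198 IH) (Lpe (K4.f111013 IH) (Lpr_ct (K5.f111014 IH) (Lpn (LP (LK LD1_c9 LD2_c20 LD3_c58)))))))))))))
theorem f136390 : Led Lsl_gt (LP (LK LD1_c7 LD2_c41 LD3_c54)) = (LP (LK LD1_c4 LD2_c44 LD3_c3)) :=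
  Lgr Lrot9 (Lpe (f96524 IH) (Lpr_gt (K6.f136359 IH) (Lpr_ct (K3.f97876 IH) (Lpe (K6.f127864 IH) (Lpr_ct (f104075 IH) (Lpr_df (K5.f104058 IH) (Lpr_cf (f127839 IH) (Lpr_gf (f130280 IH) (Lpe (K5.f111014 IH) (Lpn (LP (LK LD1_c4 LD2_c44 LD3_c3))))))))))))
theorem f40569 : Led Lsl_bt (LP (LK LD1_c4 LD2_c59 LD3_c39)) = (LP (LK LD1_c2 LD2_c27 LD3_c39)) :=
  Lre_b IH (LK LD1_c4 LD2_c59 LD3_c39) (LK LD1_c2 LD2_c27 LD3_c39) Lrfl Lrfl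
theorem f136400 : Led Lsl_cf (LP (LK LD1_c7 LD2_c41 LD3_c54)) = (LP (LK LD1_c4 LD2_c59 LD3_c39)) :=
  Lgr Lrot160 (Lpr_gt (f136390 IH) (Lpe (K5.f78398 IH) (Lpr_bt (K5.f78397 IH) (Lpe (K6.f115008 IH) (Lpr_ct (K2.f61723 IH) (Lpr_gt (K4.f79042 IH) (Lpe (K2.f58901 IH) (Lpe (K7.f77203 IH) (Lpr_gt (K4.f58947 IH) (Lpe (f40569 IH) (Lpn (LP (LK LD1_c4 LD2_c59 LD3_c39)))))))))))))
theorem f136407 : Led Lsl_ct (LP (LK LD1_c7 LD2_c41 LD3_c54)) = (LP (LK LD1_c4 LD2_c59 LD3_c39)) :=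
  Lgr Lrot59 (Lpr_cf (f136400 IH) (Lpn (LP (LK LD1_c4 LD2_c59 LD3_c39))))
theorem f136414 : Led Lsl_gt (LP (LK LD1_c9 LD2_c49 LD3_c42)) = (LP (LK LD1_c4 LD2_c59 LD3_c39)) :=
  Lre_g IH (LK LD1_c9 LD2_c49 LD3_c42) (LK LD1_c4 LD2_c59 LD3_c39) Lrfl Lrfl
theorem f144034 : Led Lsl_bt (LP (LK LD1_c12 LD2_c51 LD3_c14)) = (LP (LK LD1_c6 LD2_c43 LD3_c11)) :=
  Lre_b IH (LK LD1_c12 LD2_c51 LD3_c14) (LK LD1_c6 LD2_c43 LD3_c11) Lrfl Lrfl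
theorem f205901 : Led Lsl_cf (LP (LK LD1_c9 LD2_c49 LD3_c42)) = (LP (LK LD1_c12 LD2_c51 LD3_c14)) :=
  Lgr Lrot160 (Lpr_gt (f136414 IH) (Lpe (f136407 IH) (Lpr_bt (f66381 IH) (Lpr_gt (f137168 IH) (Lpr_ct (f104285 IH) (Lpe (K7.f136934 IH) (Lpe (K6.f135834 IH) (Lpr_bt (K6.f92185 IH) (Lpr_gt (K11.f205881 IH) (Lpe (f144034 IH) (Lpn (LP (LK LD1_c12 LD2_c51 LD3_c14)))))))))))))
theorem f96525 : Led Lsl_dt (LP (LK LD1_c7 LD2_c41 LD3_c54)) = (LP (LK LD1_c3 LD2_c50 LD3_c24)) :=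
  Lre_d IH (LK LD1_c7 LD2_c41 LD3_c54) (LK LD1_c3 LD2_c50 LD3_c24) Lrfl Lrfl
theorem f205908 : Led Lsl_gt (LP (LK LD1_c7 LD2_c0 LD3_c27)) = (LP (LK LD1_c12 LD2_c51 LD3_c14)) :=
  Lgr Lrot9 (Lpe (K5.f104049 IH) (Lpr_gt (K5.f89721 IH) (Lpr_ct (K6.f96483 IH) (Lpe (K6.f96522 IH) (Lpr_ct (K6.f66380 IH) (Lpe (f96525 IH) (Lpr_cf (f136400 IH) (Lpe (f136414 IH) (Lpr_cf (f205901 IH) (Lpn (LP (LK LD1_c12 LD2_c51 LD3_c14))))))))))))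
theorem f497760 : Led Lsl_af (LP (LK LD1_c12 LD2_c51 LD3_c14)) = (LP (LK LD1_c7 LD2_c31 LD3_c57)) :=
  Lgr Lrot31 (Lpe (f205908 IH) (Lpe (K8.f127655 IH) (Lpr_ft (f497752 IH) (Lpn (LP (LK LD1_c7 LD2_c31 LD3_c57))))))
theorem f497736 : Led Lsl_af (LP (LK LD1_c13 LD2_c17 LD3_c22)) = (LP (LK LD1_c7 LD2_c31 LD3_c55)) :=
  Lgr Lrot0 (Lpr_at (f497734 IH) (Lpn (LP (LK LD1_c7 LD2_c31 LD3_c55))))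
theorem f497766 : Led Lsl_ft (LP (LK LD1_c12 LD2_c51 LD3_c14)) = (LP (LK LD1_c7 LD2_c31 LD3_c55)) :=
  Lgr Lrot101 (Lpr_af (f497760 IH) (Lpe (f497752 IH) (Lpr_af (f497736 IH) (Lpn (LP (LK LD1_c7 LD2_c31 LD3_c55))))))
theorem f205904 : Led Lsl_bt (LP (LK LD1_c6 LD2_c43 LD3_c11)) = (LP (LK LD1_c12 LD2_c51 LD3_c14)) :=
  Lre_b IH (LK LD1_c6 LD2_c43 LD3_c11) (LK LD1_c12 LD2_c51 LD3_c14) Lrfl Lrfl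
theorem f156673 : Led Lsl_bf (LP (LK LD1_c9 LD2_c28 LD3_c29)) = (LP (LK LD1_c7 LD2_c31 LD3_c55)) :=
  Lgr Lrot93 (Lpr_dt (K7.f156668 IH) (Lpr_bt (K7.f92478 IH) (Lpr_dt (K7.f92358 IH) (Lpn (LP (LK LD1_c7 LD2_c31 LD3_c55))))))
theorem f497768 : Led Lsl_ff (LP (LK LD1_c6 LD2_c43 LD3_c11)) = (LP (LK LD1_c9 LD2_c28 LD3_c29)) :=
  Lgr Lrot25 (Lpr_bt (f205904 IH) (Lpr_ft (f497766 IH) (Lpe (f156673 IH) (Lpn (LP (LK LD1_c9 LD2_c28 LD3_c29))))))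
theorem f497790 : Led Lsl_at (LP (LK LD1_c6 LD2_c43 LD3_c11)) = (LP (LK LD1_c9 LD2_c28 LD3_c28)) :=
  Lgr Lrot26 (Lpr_ff (f497768 IH) (Lpr_gt (K7.f92194 IH) (Lpr_gt (K6.f113300 IH) (Lpn (LP (LK LD1_c9 LD2_c28 LD3_c28))))))
theorem f497798 : Led Lsl_af (LP (LK LD1_c6 LD2_c59 LD3_c46)) = (LP (LK LD1_c7 LD2_c32 LD3_c26)) :=
  Lgr Lrot117 (Lpe (K11.f157315 IH) (Lpr_at (f497790 IH) (Lpr_dt (f151477 IH) (Lpn (LP (LK LD1_c7 LD2_c32 LD3_c26))))))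
theorem f497806 : Led Lsl_ft (LP (LK LD1_c6 LD2_c59 LD3_c43)) = (LP (LK LD1_c7 LD2_c32 LD3_c26)) :=
  Lgr Lrot2 (Lpe (K8.f157328 IH) (Lpr_gt (K11.f157311 IH) (Lpr_af (f497798 IH) (Lpn (LP (LK LD1_c7 LD2_c32 LD3_c26))))))
theorem f497814 : Led Lsl_ff (LP (LK LD1_c6 LD2_c59 LD3_c43)) = (LP (LK LD1_c7 LD2_c32 LD3_c26)) :=
  Lgr Lrot3 (Lpr_ft (f497806 IH) (Lpn (LP (LK LD1_c7 LD2_c32 LD3_c26))))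
theorem f497818 : Led Lsl_ft (LP (LK LD1_c6 LD2_c43 LD3_c10)) = (LP (LK LD1_c9 LD2_c28 LD3_c28)) :=
  Lgr Lrot54 (Lpr_df (K8.f157330 IH) (Lpr_ff (f497814 IH) (Lpe (f151477 IH) (Lpn (LP (LK LD1_c9 LD2_c28 LD3_c28))))))
theorem f123960 : Led Lsl_et (LP (LK LD1_c13 LD2_c16 LD3_c24)) = (LP (LK LD1_c6 LD2_c59 LD3_c42)) :=
  Lre_e IH (LK LD1_c13 LD2_c16 LD3_c24) (LK LD1_c6 LD2_c59 LD3_c42) Lrfl Lrfl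
theorem f123961 : Led Lsl_et (LP (LK LD1_c3 LD2_c43 LD3_c55)) = (LP (LK LD1_c7 LD2_c28 LD3_c32)) :=
  Lre_e IH (LK LD1_c3 LD2_c43 LD3_c55) (LK LD1_c7 LD2_c28 LD3_c32) Lrfl Lrfl
theorem f123962 : Led Lsl_cf (LP (LK LD1_c13 LD2_c16 LD3_c24)) = (LP (LK LD1_c7 LD2_c28 LD3_c32)) :=
  Lgr Lrot39 (Lpr_et (f123960 IH) (Lpr_ct (K5.f123949 IH) (Lpr_et (f123961 IH) (Lpn (LP (LK LD1_c7 LD2_c28 LD3_c32))))))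
theorem f123970 : Led Lsl_bt (LP (LK LD1_c13 LD2_c16 LD3_c24)) = (LP (LK LD1_c6 LD2_c59 LD3_c44)) :=
  Lre_b IH (LK LD1_c13 LD2_c16 LD3_c24) (LK LD1_c6 LD2_c59 LD3_c44) Lrfl Lrfl
theorem f123971 : Led Lsl_ct (LP (LK LD1_c6 LD2_c59 LD3_c44)) = (LP (LK LD1_c13 LD2_c16 LD3_c25)) :=
  Lre_c IH (LK LD1_c6 LD2_c59 LD3_c44) (LK LD1_c13 LD2_c16 LD3_c25) Lrfl Lrfl
theorem f123972 : Led Lsl_bt (LP (LK LD1_c14 LD2_c6 LD3_c37)) = (LP (LK LD1_c7 LD2_c28 LD3_c32)) :=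
  Lre_b IH (LK LD1_c14 LD2_c6 LD3_c37) (LK LD1_c7 LD2_c28 LD3_c32) Lrfl Lrfl
theorem f123640 : Led Lsl_et (LP (LK LD1_c7 LD2_c22 LD3_c9)) = (LP (LK LD1_c13 LD2_c56 LD3_c11)) :=
  Lre_e IH (LK LD1_c7 LD2_c22 LD3_c9) (LK LD1_c13 LD2_c56 LD3_c11) Lrfl Lrfl
theorem f123641 : Led Lsl_et (LP (LK LD1_c14 LD2_c6 LD3_c37)) = (LP (LK LD1_c7 LD2_c28 LD3_c30)) :=
  Lre_e IH (LK LD1_c14 LD2_c6 LD3_c37) (LK LD1_c7 LD2_c28 LD3_c30) Lrfl Lrfl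
theorem f123642 : Led Lsl_ct (LP (LK LD1_c13 LD2_c56 LD3_c11)) = (LP (LK LD1_c14 LD2_c6 LD3_c37)) :=
  Lgr Lrot15 (Lpe (f123640 IH) (Lpr_cf (K4.f123597 IH) (Lpe (f123641 IH) (Lpn (LP (LK LD1_c14 LD2_c6 LD3_c37))))))
theorem f123973 : Led Lsl_bt (LP (LK LD1_c13 LD2_c16 LD3_c25)) = (LP (LK LD1_c13 LD2_c56 LD3_c11)) :=
  Lgr Lrot128 (Lpe (f123971 IH) (Lpe (f123970 IH) (Lpr_cf (f123962 IH) (Lpe (f123972 IH) (Lpe (f123642 IH) (Lpn (LP (LK LD1_c13 LD2_c56 LD3_c11))))))))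
theorem f123988 : Led Lsl_bf (LP (LK LD1_c13 LD2_c16 LD3_c25)) = (LP (LK LD1_c13 LD2_c56 LD3_c11)) :=
  Lgr Lrot24 (Lpr_bt (f123973 IH) (Lpn (LP (LK LD1_c13 LD2_c56 LD3_c11))))
theorem f124003 : Led Lsl_et (LP (LK LD1_c13 LD2_c16 LD3_c25)) = (LP (LK LD1_c6 LD2_c59 LD3_c43)) :=
  Lre_e IH (LK LD1_c13 LD2_c16 LD3_c25) (LK LD1_c6 LD2_c59 LD3_c43) Lrfl Lrfl
theorem f124004 : Led Lsl_bt (LP (LK LD1_c6 LD2_c59 LD3_c43)) = (LP (LK LD1_c7 LD2_c22 LD3_c9)) :=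
  Lgr Lrot119 (Lpe (f124003 IH) (Lpr_bf (f123988 IH) (Lpe (f123640 IH) (Lpn (LP (LK LD1_c7 LD2_c22 LD3_c9))))))
theorem f151376 : Led Lsl_dt (LP (LK LD1_c7 LD2_c35 LD3_c37)) = (LP (LK LD1_c13 LD2_c54 LD3_c30)) :=
  Lgr Lrot159 (Lpr_ft (K7.f144839 IH) (Lpe (K7.f144812 IH) (Lpe (K5.f91266 IH) (Lpr_df (K5.f116665 IH) (Lpe (K5.f62286 IH) (Lpe (K5.f62287 IH) (Lpe (K7.f87291 IH) (Lpe (K7.f87314 IH) (Lpr_cf (K7.f151368 IH) (Lpn (LP (LK LD1_c13 LD2_c54 LD3_c30))))))))))))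
theorem f144856 : Led Lsl_ft (LP (LK LD1_c7 LD2_c35 LD3_c34)) = (LP (LK LD1_c3 LD2_c49 LD3_c55)) :=
  Lgr Lrot4 (Lpe (K5.f91266 IH) (Lpr_ff (K6.f144852 IH) (Lpe (K6.f96389 IH) (Lpn (LP (LK LD1_c3 LD2_c49 LD3_c55))))))
theorem f144847 : Led Lsl_af (LP (LK LD1_c7 LD2_c35 LD3_c37)) = (LP (LK LD1_c3 LD2_c49 LD3_c55)) :=
  Lgr Lrot68 (Lpr_ct (K6.f114437 IH) (Lpr_at (K6.f144842 IH) (Lpr_ct (K6.f96334 IH) (Lpn (LP (LK LD1_c3 LD2_c49 LD3_c55))))))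
theorem f144881 : Led Lsl_gf (LP (LK LD1_c7 LD2_c35 LD3_c37)) = (LP (LK LD1_c7 LD2_c51 LD3_c43)) :=
  Lgr Lrot76 (Lpr_af (f144847 IH) (Lpe (f144856 IH) (Lpr_gt (K8.f144879 IH) (Lpn (LP (LK LD1_c7 LD2_c51 LD3_c43))))))
theorem f122733 : Led Lsl_dt (LP (LK LD1_c3 LD2_c40 LD3_c24)) = (LP (LK LD1_c7 LD2_c21 LD3_c2)) :=
  Lre_d IH (LK LD1_c3 LD2_c40 LD3_c24) (LK LD1_c7 LD2_c21 LD3_c2) Lrfl Lrfl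
theorem f62288 : Led Lsl_ct (LP (LK LD1_c6 LD2_c38 LD3_c18)) = (LP (LK LD1_c3 LD2_c17 LD3_c28)) :=
  Lre_c IH (LK LD1_c6 LD2_c38 LD3_c18) (LK LD1_c3 LD2_c17 LD3_c28) Lrfl Lrfl
theorem f123466 : Led Lsl_gt (LP (LK LD1_c7 LD2_c21 LD3_c2)) = (LP (LK LD1_c6 LD2_c38 LD3_c18)) :=
  Lgr Lrot9 (Lpe (f122733 IH) (Lpr_gt (K5.f107281 IH) (Lpe (K5.f123450 IH) (Lpr_gt (K5.f123464 IH) (Lpr_ct (K5.f116663 IH) (Lpr_df (K5.f116665 IH) (Lpe (K5.f62286 IH) (Lpe (K7.f62201 IH) (Lpe (f62288 IH) (Lpn (LP (LK LD1_c6 LD2_c38 LD3_c18))))))))))))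
theorem f151382 : Led Lsl_df (LP (LK LD1_c7 LD2_c22 LD3_c9)) = (LP (LK LD1_c6 LD2_c38 LD3_c18)) :=
  Lgr Lrot84 (Lpr_cf (K4.f123597 IH) (Lpe (K7.f123639 IH) (Lpr_gf (K7.f151378 IH) (Lpe (f151376 IH) (Lpr_gf (f144881 IH) (Lpr_cf (K8.f132132 IH) (Lpr_gt (K8.f107305 IH) (Lpr_dt (f122733 IH) (Lpr_gt (f123466 IH) (Lpn (LP (LK LD1_c6 LD2_c38 LD3_c18))))))))))))
theorem f151384 : Led Lsl_dt (LP (LK LD1_c7 LD2_c22 LD3_c9)) = (LP (LK LD1_c6 LD2_c38 LD3_c18)) :=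
  Lgr Lrot42 (Lpr_df (f151382 IH) (Lpn (LP (LK LD1_c6 LD2_c38 LD3_c18))))
theorem f157340 : Led Lsl_bf (LP (LK LD1_c6 LD2_c43 LD3_c10)) = (LP (LK LD1_c6 LD2_c38 LD3_c18)) :=
  Lgr Lrot93 (Lpr_dt (K8.f157338 IH) (Lpr_bt (f124004 IH) (Lpr_dt (f151384 IH) (Lpn (LP (LK LD1_c6 LD2_c38 LD3_c18))))))
theorem f497822 : Led Lsl_ff (LP (LK LD1_c6 LD2_c38 LD3_c18)) = (LP (LK LD1_c12 LD2_c37 LD3_c15)) :=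
  Lgr Lrot25 (Lpe (f157340 IH) (Lpr_ft (f497818 IH) (Lpe (K7.f151466 IH) (Lpn (LP (LK LD1_c12 LD2_c37 LD3_c15))))))
theorem f497828 : Led Lsl_at (LP (LK LD1_c6 LD2_c38 LD3_c18)) = (LP (LK LD1_c12 LD2_c37 LD3_c13)) :=
  Lgr Lrot26 (Lpr_ff (f497822 IH) (Lpr_gt (K7.f151468 IH) (Lpe (K8.f158587 IH) (Lpn (LP (LK LD1_c12 LD2_c37 LD3_c13))))))
theorem f497746 : Led Lsl_ft (LP (LK LD1_c12 LD2_c37 LD3_c13)) = (LP (LK LD1_c6 LD2_c38 LD3_c14)) :=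
  Lgr Lrot75 (Lpr_bf (K8.f151435 IH) (Lpr_ff (f497742 IH) (Lpe (f419823 IH) (Lpn (LP (LK LD1_c6 LD2_c38 LD3_c14))))))
theorem f497836 : Led Lsl_af (LP (LK LD1_c12 LD2_c37 LD3_c15)) = (LP (LK LD1_c6 LD2_c38 LD3_c14)) :=
  Lgr Lrot45 (Lpe (f497822 IH) (Lpr_at (f497828 IH) (Lpr_ft (f497746 IH) (Lpn (LP (LK LD1_c6 LD2_c38 LD3_c14))))))
theorem f151470 : Led Lsl_dt (LP (LK LD1_c12 LD2_c37 LD3_c15)) = (LP (LK LD1_c6 LD2_c53 LD3_c5)) :=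
  Lgr Lrot6 (Lpr_gt (K7.f151468 IH) (Lpr_ct (K7.f141609 IH) (Lpr_gt (K7.f141608 IH) (Lpe (K7.f141561 IH) (Lpe (K6.f103647 IH) (Lpe (K6.f63505 IH) (Lpe (K4.f122071 IH) (Lpr_cf (K4.f122061 IH) (Lpe (K4.f122087 IH) (Lpn (LP (LK LD1_c6 LD2_c53 LD3_c5))))))))))))
theorem f419795 : Led Lsl_dt (LP (LK LD1_c7 LD2_c22 LD3_c10)) = (LP (LK LD1_c6 LD2_c38 LD3_c14)) :=
  Lgr Lrot27 (Lpe (f419780 IH) (Lpr_gf (f419791 IH) (Lpe (f103618 IH) (Lpe (K4.f103617 IH) (Lpe (K6.f111229 IH) (Lpe (K7.f146699 IH) (Lpr_ct (K4.f62179 IH) (Lpr_gt (f62203 IH) (Lpr_ct (f62205 IH) (Lpn (LP (LK LD1_c6 LD2_c38 LD3_c14))))))))))))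
theorem f497840 : Led Lsl_at (LP (LK LD1_c6 LD2_c53 LD3_c5)) = (LP (LK LD1_c7 LD2_c22 LD3_c10)) :=
  Lgr Lrot51 (Lpe (f151470 IH) (Lpr_af (f497836 IH) (Lpe (f419795 IH) (Lpn (LP (LK LD1_c7 LD2_c22 LD3_c10))))))
theorem f497816 : Led Lsl_ft (LP (LK LD1_c7 LD2_c22 LD3_c9)) = (LP (LK LD1_c6 LD2_c53 LD3_c5)) :=
  Lgr Lrot75 (Lpe (f124004 IH) (Lpr_ff (f497814 IH) (Lpe (K7.f122093 IH) (Lpn (LP (LK LD1_c6 LD2_c53 LD3_c5))))))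
theorem f162934 : Led Lsl_bf (LP (LK LD1_c6 LD2_c53 LD3_c6)) = (LP (LK LD1_c7 LD2_c0 LD3_c17)) :=
  Lgr Lrot24 (Lpr_bt (K8.f162931 IH) (Lpn (LP (LK LD1_c7 LD2_c0 LD3_c17))))
theorem f497594 : Led Lsl_af (LP (LK LD1_c7 LD2_c31 LD3_c54)) = (LP (LK LD1_c6 LD2_c59 LD3_c43)) :=
  Lgr Lrot68 (Lpe (K7.f94627 IH) (Lpr_at (f497588 IH) (Lpr_ct (K8.f18634 IH) (Lpn (LP (LK LD1_c6 LD2_c59 LD3_c43))))))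
theorem f497730 : Led Lsl_at (LP (LK LD1_c6 LD2_c53 LD3_c6)) = (LP (LK LD1_c7 LD2_c22 LD3_c9)) :=
  Lgr Lrot67 (Lpr_bf (f162934 IH) (Lpr_af (f497726 IH) (Lpe (K7.f92478 IH) (Lpr_af (f497594 IH) (Lpr_bf (K8.f123956 IH) (Lpn (LP (LK LD1_c7 LD2_c22 LD3_c9))))))))
theorem f497848 : Led Lsl_ff (LP (LK LD1_c6 LD2_c53 LD3_c6)) = (LP (LK LD1_c7 LD2_c22 LD3_c10)) :=
  Lgr Lrot30 (Lpr_at (f497730 IH) (Lpr_ft (f497816 IH) (Lpr_at (f497840 IH) (Lpn (LP (LK LD1_c7 LD2_c22 LD3_c10))))))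
theorem f497852 : Led Lsl_ft (LP (LK LD1_c6 LD2_c53 LD3_c6)) = (LP (LK LD1_c7 LD2_c22 LD3_c10)) :=
  Lgr Lrot48 (Lpr_ff (f497848 IH) (Lpn (LP (LK LD1_c7 LD2_c22 LD3_c10))))
theorem f147317 : Led Lsl_bt (LP (LK LD1_c3 LD2_c39 LD3_c26)) = (LP (LK LD1_c7 LD2_c19 LD3_c4)) :=
  Lre_b IH (LK LD1_c3 LD2_c39 LD3_c26) (LK LD1_c7 LD2_c19 LD3_c4) Lrfl Lrfl
theorem f147328 : Led Lsl_gf (LP (LK LD1_c7 LD2_c16 LD3_c44)) = (LP (LK LD1_c7 LD2_c19 LD3_c4)) :=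
  Lgr Lrot181 (Lpe (K7.f116622 IH) (Lpr_gt (K7.f95399 IH) (Lpr_cf (K7.f116624 IH) (Lpr_bt (K3.f94424 IH) (Lpr_gt (K3.f94418 IH) (Lpe (K24.f98542 IH) (Lpr_ct (K28.f147263 IH) (Lpr_gt (K8.f124037 IH) (Lpr_cf (K8.f147315 IH) (Lpr_bt (f147317 IH) (Lpn (LP (LK LD1_c7 LD2_c19 LD3_c4)))))))))))))
theorem f147252 : Led Lsl_bf (LP (LK LD1_c3 LD2_c39 LD3_c27)) = (LP (LK LD1_c3 LD2_c38 LD3_c24)) :=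
  Lgr Lrot24 (Lpr_bt (K28.f147217 IH) (Lpn (LP (LK LD1_c3 LD2_c38 LD3_c24))))
theorem f147310 : Led Lsl_gt (LP (LK LD1_c7 LD2_c33 LD3_c42)) = (LP (LK LD1_c7 LD2_c17 LD3_c6)) :=
  Lgr Lrot149 (Lpe (K28.f94454 IH) (Lpe (K3.f92365 IH) (Lpe (K3.f92298 IH) (Lpr_ct (K3.f62821 IH) (Lpe (K2.f94450 IH) (Lpr_cf (K2.f94416 IH) (Lpr_bt (K8.f93169 IH) (Lpe (K28.f94455 IH) (Lpr_bf (f147252 IH) (Lpr_ct (K28.f18027 IH) (Lpn (LP (LK LD1_c7 LD2_c17 LD3_c6)))))))))))))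
theorem f123613 : Led Lsl_bf (LP (LK LD1_c7 LD2_c17 LD3_c6)) = (LP (LK LD1_c7 LD2_c28 LD3_c27)) :=
  Lgr Lrot24 (Lpr_bt (K6.f123609 IH) (Lpn (LP (LK LD1_c7 LD2_c28 LD3_c27))))
theorem f147330 : Led Lsl_ct (LP (LK LD1_c7 LD2_c0 LD3_c17)) = (LP (LK LD1_c7 LD2_c19 LD3_c4)) :=
  Lgr Lrot91 (Lpr_gf (K8.f127657 IH) (Lpr_bf (K8.f111462 IH) (Lpe (K4.f116452 IH) (Lpr_gf (K5.f123689 IH) (Lpe (K8.f123605 IH) (Lpe (f123613 IH) (Lpe (f147310 IH) (Lpe (K28.f116569 IH) (Lpr_ct (K28.f116571 IH) (Lpr_gf (f147328 IH) (Lpn (LP (LK LD1_c7 LD2_c19 LD3_c4)))))))))))))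
theorem f94457 : Led Lsl_bt (LP (LK LD1_c7 LD2_c19 LD3_c4)) = (LP (LK LD1_c3 LD2_c39 LD3_c26)) :=
  Lre_b IH (LK LD1_c7 LD2_c19 LD3_c4) (LK LD1_c3 LD2_c39 LD3_c26) Lrfl Lrfl
theorem f162936 : Led Lsl_cf (LP (LK LD1_c6 LD2_c53 LD3_c6)) = (LP (LK LD1_c7 LD2_c22 LD3_c61)) :=
  Lgr Lrot97 (Lpr_bt (K8.f162931 IH) (Lpr_ct (f147330 IH) (Lpr_bt (f94457 IH) (Lpe (K8.f147315 IH) (Lpr_bt (K8.f147320 IH) (Lpn (LP (LK LD1_c7 LD2_c22 LD3_c61))))))))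
theorem f497856 : Led Lsl_ff (LP (LK LD1_c7 LD2_c22 LD3_c61)) = (LP (LK LD1_c7 LD2_c28 LD3_c51)) :=
  Lgr Lrot23 (Lpe (f162936 IH) (Lpr_ft (f497852 IH) (Lpe (f419785 IH) (Lpn (LP (LK LD1_c7 LD2_c28 LD3_c51))))))
theorem f111157 : Led Lsl_ff (LP (LK LD1_c12 LD2_c34 LD3_c49)) = (LP (LK LD1_c7 LD2_c1 LD3_c13)) :=
  Lgr Lrot23 (Lpr_ct (f111115 IH) (Lpr_ft (K4.f111153 IH) (Lpr_ct (f103618 IH) (Lpn (LP (LK LD1_c7 LD2_c1 LD3_c13))))))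
theorem f419793 : Led Lsl_gt (LP (LK LD1_c7 LD2_c28 LD3_c51)) = (LP (LK LD1_c7 LD2_c1 LD3_c16)) :=
  Lgr Lrot46 (Lpr_gf (f419791 IH) (Lpe (f111157 IH) (Lpr_at (K4.f111113 IH) (Lpn (LP (LK LD1_c7 LD2_c1 LD3_c16))))))
theorem f497860 : Led Lsl_at (LP (LK LD1_c7 LD2_c22 LD3_c61)) = (LP (LK LD1_c7 LD2_c28 LD3_c30)) :=
  Lgr Lrot26 (Lpr_ff (f497856 IH) (Lpr_gt (f419793 IH) (Lpe (K7.f147834 IH) (Lpn (LP (LK LD1_c7 LD2_c28 LD3_c30))))))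
theorem f497539 : Led Lsl_af (LP (LK LD1_c3 LD2_c41 LD3_c10)) = (LP (LK LD1_c3 LD2_c43 LD3_c55)) :=
  Lgr Lrot68 (Lpr_ct (K8.f116510 IH) (Lpr_at (f497535 IH) (Lpr_ct (K5.f123949 IH) (Lpn (LP (LK LD1_c3 LD2_c43 LD3_c55))))))
theorem f497864 : Led Lsl_af (LP (LK LD1_c3 LD2_c41 LD3_c17)) = (LP (LK LD1_c3 LD2_c44 LD3_c1)) :=
  Lgr Lrot36 (Lpr_bt (K8.f147320 IH) (Lpr_at (f497860 IH) (Lpr_bt (K4.f123596 IH) (Lpe (f497539 IH) (Lpr_bt (K24.f155576 IH) (Lpn (LP (LK LD1_c3 LD2_c44 LD3_c1))))))))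
theorem f497890 : Led Lsl_ft (LP (LK LD1_c3 LD2_c41 LD3_c18)) = (LP (LK LD1_c3 LD2_c44 LD3_c1)) :=
  Lgr Lrot2 (Lpr_gt (K24.f147203 IH) (Lpr_gt (K8.f124037 IH) (Lpr_af (f497864 IH) (Lpn (LP (LK LD1_c3 LD2_c44 LD3_c1))))))
theorem f497894 : Led Lsl_ff (LP (LK LD1_c3 LD2_c41 LD3_c18)) = (LP (LK LD1_c3 LD2_c44 LD3_c1)) :=
  Lgr Lrot3 (Lpr_ft (f497890 IH) (Lpn (LP (LK LD1_c3 LD2_c44 LD3_c1))))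
theorem f497898 : Led Lsl_at (LP (LK LD1_c3 LD2_c41 LD3_c18)) = (LP (LK LD1_c3 LD2_c44 LD3_c0)) :=
  Lgr Lrot26 (Lpr_ff (f497894 IH) (Lpr_gt (K24.f116132 IH) (Lpr_gt (f116133 IH) (Lpn (LP (LK LD1_c3 LD2_c44 LD3_c0))))))
theorem f419784 : Led Lsl_bt (LP (LK LD1_c3 LD2_c44 LD3_c0)) = (LP (LK LD1_c7 LD2_c28 LD3_c51)) :=
  Lre_b IH (LK LD1_c3 LD2_c44 LD3_c0) (LK LD1_c7 LD2_c28 LD3_c51) Lrfl Lrfl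
theorem f497844 : Led Lsl_af (LP (LK LD1_c7 LD2_c22 LD3_c42)) = (LP (LK LD1_c7 LD2_c28 LD3_c51)) :=
  Lgr Lrot68 (Lpe (K4.f122109 IH) (Lpr_at (f497840 IH) (Lpe (f419785 IH) (Lpn (LP (LK LD1_c7 LD2_c28 LD3_c51))))))
theorem f497900 : Led Lsl_af (LP (LK LD1_c3 LD2_c43 LD3_c54)) = (LP (LK LD1_c3 LD2_c41 LD3_c11)) :=
  Lgr Lrot36 (Lpe (K24.f147209 IH) (Lpr_at (f497898 IH) (Lpr_bt (f419784 IH) (Lpe (f497844 IH) (Lpr_bt (K4.f116521 IH) (Lpn (LP (LK LD1_c3 LD2_c41 LD3_c11))))))))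
theorem f147215 : Led Lsl_bt (LP (LK LD1_c3 LD2_c41 LD3_c18)) = (LP (LK LD1_c3 LD2_c43 LD3_c54)) :=
  Lgr Lrot127 (Lpr_bf (K24.f147209 IH) (Lpn (LP (LK LD1_c3 LD2_c43 LD3_c54))))
theorem f497896 : Led Lsl_ft (LP (LK LD1_c3 LD2_c43 LD3_c54)) = (LP (LK LD1_c3 LD2_c41 LD3_c10)) :=
  Lgr Lrot75 (Lpe (f147215 IH) (Lpr_ff (f497894 IH) (Lpe (K24.f155576 IH) (Lpn (LP (LK LD1_c3 LD2_c41 LD3_c10))))))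
theorem f497559 : Led Lsl_ff (LP (LK LD1_c3 LD2_c41 LD3_c11)) = (LP (LK LD1_c3 LD2_c43 LD3_c55)) :=
  Lgr Lrot23 (Lpr_ct (K4.f116520 IH) (Lpr_ft (f497553 IH) (Lpr_ct (K5.f123949 IH) (Lpn (LP (LK LD1_c3 LD2_c43 LD3_c55))))))
theorem f497922 : Led Lsl_at (LP (LK LD1_c3 LD2_c41 LD3_c10)) = (LP (LK LD1_c3 LD2_c43 LD3_c55)) :=
  Lgr Lrot66 (Lpe (f497896 IH) (Lpr_af (f497900 IH) (Lpr_ff (f497559 IH) (Lpn (LP (LK LD1_c3 LD2_c43 LD3_c55))))))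
theorem f123676 : Led Lsl_et (LP (LK LD1_c7 LD2_c22 LD3_c41)) = (LP (LK LD1_c3 LD2_c41 LD3_c10)) :=
  Lre_e IH (LK LD1_c7 LD2_c22 LD3_c41) (LK LD1_c3 LD2_c41 LD3_c10) Lrfl Lrfl
theorem f497926 : Led Lsl_af (LP (LK LD1_c7 LD2_c22 LD3_c41)) = (LP (LK LD1_c7 LD2_c28 LD3_c32)) :=
  Lgr Lrot50 (Lpr_et (f123676 IH) (Lpr_at (f497922 IH) (Lpr_et (f123961 IH) (Lpn (LP (LK LD1_c7 LD2_c28 LD3_c32))))))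
theorem f123677 : Led Lsl_dt (LP (LK LD1_c7 LD2_c22 LD3_c41)) = (LP (LK LD1_c13 LD2_c57 LD3_c3)) :=
  Lre_d IH (LK LD1_c7 LD2_c22 LD3_c41) (LK LD1_c13 LD2_c57 LD3_c3) Lrfl Lrfl
theorem f123977 : Led Lsl_dt (LP (LK LD1_c14 LD2_c6 LD3_c40)) = (LP (LK LD1_c7 LD2_c28 LD3_c32)) :=
  Lre_d IH (LK LD1_c14 LD2_c6 LD3_c40) (LK LD1_c7 LD2_c28 LD3_c32) Lrfl Lrfl
theorem f497934 : Led Lsl_at (LP (LK LD1_c13 LD2_c57 LD3_c3)) = (LP (LK LD1_c14 LD2_c6 LD3_c40)) :=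
  Lgr Lrot51 (Lpe (f123677 IH) (Lpr_af (f497926 IH) (Lpe (f123977 IH) (Lpn (LP (LK LD1_c14 LD2_c6 LD3_c40))))))
theorem f155593 : Led Lsl_et (LP (LK LD1_c23 LD2_c28 LD3_c50)) = (LP (LK LD1_c13 LD2_c57 LD3_c3)) :=
  Lre_e IH (LK LD1_c23 LD2_c28 LD3_c50) (LK LD1_c13 LD2_c57 LD3_c3) Lrfl Lrfl
theorem f497942 : Led Lsl_et (LP (LK LD1_c14 LD2_c6 LD3_c40)) = (LP (LK LD1_c23 LD2_c40 LD3_c41)) :=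
  Lre_e IH (LK LD1_c14 LD2_c6 LD3_c40) (LK LD1_c23 LD2_c40 LD3_c41) Lrfl Lrfl
theorem f497943 : Led Lsl_af (LP (LK LD1_c23 LD2_c28 LD3_c50)) = (LP (LK LD1_c23 LD2_c40 LD3_c41)) :=
  Lgr Lrot50 (Lpr_et (f155593 IH) (Lpr_at (f497934 IH) (Lpr_et (f497942 IH) (Lpn (LP (LK LD1_c23 LD2_c40 LD3_c41))))))
theorem f497947 : Led Lsl_dt (LP (LK LD1_c23 LD2_c28 LD3_c50)) = (LP (LK LD1_c13 LD2_c57 LD3_c2)) :=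
  Lre_d IH (LK LD1_c23 LD2_c28 LD3_c50) (LK LD1_c13 LD2_c57 LD3_c2) Lrfl Lrfl
theorem f129191 : Led Lsl_dt (LP (LK LD1_c14 LD2_c6 LD3_c39)) = (LP (LK LD1_c23 LD2_c40 LD3_c41)) :=
  Lre_d IH (LK LD1_c14 LD2_c6 LD3_c39) (LK LD1_c23 LD2_c40 LD3_c41) Lrfl Lrfl
theorem f497948 : Led Lsl_at (LP (LK LD1_c13 LD2_c57 LD3_c2)) = (LP (LK LD1_c14 LD2_c6 LD3_c39)) :=
  Lgr Lrot51 (Lpe (f497947 IH) (Lpr_af (f497943 IH) (Lpe (f129191 IH) (Lpn (LP (LK LD1_c14 LD2_c6 LD3_c39))))))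
theorem f497950 : Led Lsl_af (LP (LK LD1_c13 LD2_c57 LD3_c2)) = (LP (LK LD1_c14 LD2_c6 LD3_c39)) :=
  Lgr Lrot0 (Lpr_at (f497948 IH) (Lpn (LP (LK LD1_c14 LD2_c6 LD3_c39))))
theorem f130269 : Led Lsl_et (LP (LK LD1_c13 LD2_c57 LD3_c2)) = (LP (LK LD1_c7 LD2_c22 LD3_c40)) :=
  Lre_e IH (LK LD1_c13 LD2_c57 LD3_c2) (LK LD1_c7 LD2_c22 LD3_c40) Lrfl Lrfl
theorem f123951 : Led Lsl_et (LP (LK LD1_c7 LD2_c28 LD3_c31)) = (LP (LK LD1_c14 LD2_c6 LD3_c39)) :=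
  Lre_e IH (LK LD1_c7 LD2_c28 LD3_c31) (LK LD1_c14 LD2_c6 LD3_c39) Lrfl Lrfl
theorem f497952 : Led Lsl_at (LP (LK LD1_c7 LD2_c22 LD3_c40)) = (LP (LK LD1_c7 LD2_c28 LD3_c31)) :=
  Lgr Lrot80 (Lpe (f130269 IH) (Lpr_af (f497950 IH) (Lpe (f123951 IH) (Lpn (LP (LK LD1_c7 LD2_c28 LD3_c31))))))
theorem f112420 : Led Lsl_bt (LP (LK LD1_c4 LD2_c25 LD3_c22)) = (LP (LK LD1_c8 LD2_c48 LD3_c14)) :=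
  Lre_b IH (LK LD1_c4 LD2_c25 LD3_c22) (LK LD1_c8 LD2_c48 LD3_c14) Lrfl Lrfl
theorem f72751 : Led Lsl_bt (LP (LK LD1_c5 LD2_c59 LD3_c49)) = (LP (LK LD1_c2 LD2_c56 LD3_c14)) :=
  Lre_b IH (LK LD1_c5 LD2_c59 LD3_c49) (LK LD1_c2 LD2_c56 LD3_c14) Lrfl Lrfl
theorem f112421 : Led Lsl_bf (LP (LK LD1_c8 LD2_c48 LD3_c15)) = (LP (LK LD1_c4 LD2_c59 LD3_c43)) :=
  Lgr Lrot90 (Lpr_ct (K4.f70382 IH) (Lpr_bt (f112420 IH) (Lpr_ct (K4.f112414 IH) (Lpr_bt (f72751 IH) (Lpr_ct (K4.f72717 IH) (Lpn (LP (LK LD1_c4 LD2_c59 LD3_c43))))))))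
theorem f104953 : Led Lsl_bt (LP (LK LD1_c9 LD2_c25 LD3_c47)) = (LP (LK LD1_c4 LD2_c46 LD3_c35)) :=
  Lre_b IH (LK LD1_c9 LD2_c25 LD3_c47) (LK LD1_c4 LD2_c46 LD3_c35) Lrfl Lrfl
theorem f147842 : Led Lsl_cf (LP (LK LD1_c14 LD2_c6 LD3_c36)) = (LP (LK LD1_c9 LD2_c25 LD3_c47)) :=
  Lgr Lrot160 (Lpr_gt (K7.f147836 IH) (Lpr_cf (K5.f128801 IH) (Lpr_bt (K5.f110390 IH) (Lpr_gt (K5.f110397 IH) (Lpr_ct (K5.f78517 IH) (Lpr_gt (K3.f78492 IH) (Lpe (K1.f13656 IH) (Lpr_bt (K2.f58240 IH) (Lpr_gt (K4.f104946 IH) (Lpe (f104953 IH) (Lpn (LP (LK LD1_c9 LD2_c25 LD3_c47)))))))))))))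
theorem f129188 : Led Lsl_bt (LP (LK LD1_c14 LD2_c6 LD3_c36)) = (LP (LK LD1_c7 LD2_c28 LD3_c31)) :=
  Lre_b IH (LK LD1_c14 LD2_c6 LD3_c36) (LK LD1_c7 LD2_c28 LD3_c31) Lrfl Lrfl
theorem f123948 : Led Lsl_ct (LP (LK LD1_c7 LD2_c28 LD3_c31)) = (LP (LK LD1_c14 LD2_c6 LD3_c38)) :=
  Lre_c IH (LK LD1_c7 LD2_c28 LD3_c31) (LK LD1_c14 LD2_c6 LD3_c38) Lrfl Lrfl
theorem f104996 : Led Lsl_bt (LP (LK LD1_c4 LD2_c46 LD3_c35)) = (LP (LK LD1_c9 LD2_c25 LD3_c47)) :=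
  Lre_b IH (LK LD1_c4 LD2_c46 LD3_c35) (LK LD1_c9 LD2_c25 LD3_c47) Lrfl Lrfl
theorem f147845 : Led Lsl_bt (LP (LK LD1_c14 LD2_c6 LD3_c38)) = (LP (LK LD1_c9 LD2_c25 LD3_c49)) :=
  Lgr Lrot128 (Lpe (f123948 IH) (Lpe (f129188 IH) (Lpr_cf (f147842 IH) (Lpe (f104996 IH) (Lpe (K4.f104952 IH) (Lpn (LP (LK LD1_c9 LD2_c25 LD3_c49))))))))
theorem f123947 : Led Lsl_ct (LP (LK LD1_c14 LD2_c6 LD3_c38)) = (LP (LK LD1_c7 LD2_c28 LD3_c31)) :=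
  Lre_c IH (LK LD1_c14 LD2_c6 LD3_c38) (LK LD1_c7 LD2_c28 LD3_c31) Lrfl Lrfl
theorem f160689 : Led Lsl_gt (LP (LK LD1_c7 LD2_c23 LD3_c19)) = (LP (LK LD1_c7 LD2_c28 LD3_c31)) :=
  Lgr Lrot65 (Lpe (K6.f129328 IH) (Lpr_bt (K28.f160677 IH) (Lpe (K8.f38246 IH) (Lpr_bf (f112421 IH) (Lpe (K2.f72642 IH) (Lpe (K28.f72617 IH) (Lpe (K28.f150261 IH) (Lpr_gf (K28.f104979 IH) (Lpe (f147845 IH) (Lpr_ct (f123947 IH) (Lpn (LP (LK LD1_c7 LD2_c28 LD3_c31)))))))))))))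
theorem f497954 : Led Lsl_ff (LP (LK LD1_c7 LD2_c22 LD3_c40)) = (LP (LK LD1_c7 LD2_c28 LD3_c28)) :=
  Lgr Lrot52 (Lpr_at (f497952 IH) (Lpe (f160689 IH) (Lpr_gf (K8.f129382 IH) (Lpn (LP (LK LD1_c7 LD2_c28 LD3_c28))))))
theorem f497958 : Led Lsl_ft (LP (LK LD1_c7 LD2_c22 LD3_c40)) = (LP (LK LD1_c7 LD2_c28 LD3_c28)) :=
  Lgr Lrot48 (Lpr_ff (f497954 IH) (Lpn (LP (LK LD1_c7 LD2_c28 LD3_c28))))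
theorem f497924 : Led Lsl_af (LP (LK LD1_c7 LD2_c22 LD3_c40)) = (LP (LK LD1_c7 LD2_c28 LD3_c31)) :=
  Lgr Lrot117 (Lpr_dt (K7.f123673 IH) (Lpr_at (f497922 IH) (Lpr_dt (K5.f123658 IH) (Lpn (LP (LK LD1_c7 LD2_c28 LD3_c31))))))
theorem f116523 : Led Lsl_dt (LP (LK LD1_c7 LD2_c22 LD3_c44)) = (LP (LK LD1_c3 LD2_c41 LD3_c11)) :=
  Lre_d IH (LK LD1_c7 LD2_c22 LD3_c44) (LK LD1_c3 LD2_c41 LD3_c11) Lrfl Lrfl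
theorem f497918 : Led Lsl_at (LP (LK LD1_c7 LD2_c28 LD3_c28)) = (LP (LK LD1_c7 LD2_c22 LD3_c44)) :=
  Lgr Lrot51 (Lpe (K8.f123635 IH) (Lpr_af (f497900 IH) (Lpe (f116523 IH) (Lpn (LP (LK LD1_c7 LD2_c22 LD3_c44))))))
theorem f497960 : Led Lsl_ff (LP (LK LD1_c7 LD2_c28 LD3_c31)) = (LP (LK LD1_c7 LD2_c22 LD3_c44)) :=
  Lgr Lrot30 (Lpe (f497924 IH) (Lpr_ft (f497958 IH) (Lpr_at (f497918 IH) (Lpn (LP (LK LD1_c7 LD2_c22 LD3_c44))))))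
theorem f497964 : Led Lsl_ft (LP (LK LD1_c7 LD2_c28 LD3_c31)) = (LP (LK LD1_c7 LD2_c22 LD3_c44)) :=
  Lgr Lrot48 (Lpr_ff (f497960 IH) (Lpn (LP (LK LD1_c7 LD2_c22 LD3_c44))))
theorem f497966 : Led Lsl_af (LP (LK LD1_c7 LD2_c28 LD3_c28)) = (LP (LK LD1_c7 LD2_c22 LD3_c44)) :=
  Lgr Lrot45 (Lpe (f497954 IH) (Lpr_at (f497952 IH) (Lpr_ft (f497964 IH) (Lpn (LP (LK LD1_c7 LD2_c22 LD3_c44))))))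
theorem f151257 : Led Lsl_ct (LP (LK LD1_c7 LD2_c28 LD3_c28)) = (LP (LK LD1_c12 LD2_c23 LD3_c11)) :=
  Lgr Lrot59 (Lpr_cf (K28.f151254 IH) (Lpn (LP (LK LD1_c12 LD2_c23 LD3_c11))))
theorem f79345 : Led Lsl_dt (LP (LK LD1_c4 LD2_c59 LD3_c33)) = (LP (LK LD1_c9 LD2_c49 LD3_c31)) :=
  Lre_d IH (LK LD1_c4 LD2_c59 LD3_c33) (LK LD1_c9 LD2_c49 LD3_c31) Lrfl Lrfl
theorem f155621 : Led Lsl_cf (LP (LK LD1_c7 LD2_c22 LD3_c44)) = (LP (LK LD1_c9 LD2_c49 LD3_c31)) :=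
  Lgr Lrot14 (Lpe (K7.f116528 IH) (Lpe (K7.f144698 IH) (Lpe (K5.f123678 IH) (Lpe (K5.f123712 IH) (Lpr_ct (K8.f123714 IH) (Lpr_gt (K8.f155572 IH) (Lpr_dt (K8.f79197 IH) (Lpr_gt (K6.f79342 IH) (Lpr_dt (f79345 IH) (Lpn (LP (LK LD1_c9 LD2_c49 LD3_c31))))))))))))
theorem f498017 : Led Lsl_at (LP (LK LD1_c12 LD2_c23 LD3_c11)) = (LP (LK LD1_c9 LD2_c49 LD3_c31)) :=
  Lgr Lrot107 (Lpe (f151257 IH) (Lpr_af (f497966 IH) (Lpr_cf (f155621 IH) (Lpn (LP (LK LD1_c9 LD2_c49 LD3_c31))))))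
theorem f79349 : Led Lsl_dt (LP (LK LD1_c9 LD2_c49 LD3_c31)) = (LP (LK LD1_c4 LD2_c59 LD3_c33)) :=
  Lre_d IH (LK LD1_c9 LD2_c49 LD3_c31) (LK LD1_c4 LD2_c59 LD3_c33) Lrfl Lrfl
theorem f498025 : Led Lsl_at (LP (LK LD1_c4 LD2_c59 LD3_c33)) = (LP (LK LD1_c9 LD2_c49 LD3_c30)) :=
  Lre_a IH (LK LD1_c4 LD2_c59 LD3_c33) (LK LD1_c9 LD2_c49 LD3_c30) Lrfl Lrfl
theorem f498026 : Led Lsl_df (LP (LK LD1_c12 LD2_c23 LD3_c11)) = (LP (LK LD1_c9 LD2_c49 LD3_c30)) :=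
  Lgr Lrot18 (Lpr_at (f498017 IH) (Lpr_dt (f79349 IH) (Lpr_at (f498025 IH) (Lpn (LP (LK LD1_c9 LD2_c49 LD3_c30))))))
theorem f498030 : Led Lsl_dt (LP (LK LD1_c12 LD2_c23 LD3_c11)) = (LP (LK LD1_c9 LD2_c49 LD3_c30)) :=
  Lgr Lrot42 (Lpr_df (f498026 IH) (Lpn (LP (LK LD1_c9 LD2_c49 LD3_c30))))
theorem f123672 : Led Lsl_dt (LP (LK LD1_c3 LD2_c43 LD3_c56)) = (LP (LK LD1_c7 LD2_c28 LD3_c33)) :=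
  Lre_d IH (LK LD1_c3 LD2_c43 LD3_c56) (LK LD1_c7 LD2_c28 LD3_c33) Lrfl Lrfl
theorem f116378 : Led Lsl_at (LP (LK LD1_c7 LD2_c22 LD3_c46)) = (LP (LK LD1_c3 LD2_c41 LD3_c13)) :=
  Lre_a IH (LK LD1_c7 LD2_c22 LD3_c46) (LK LD1_c3 LD2_c41 LD3_c13) Lrfl Lrfl
theorem f123700 : Led Lsl_ff (LP (LK LD1_c7 LD2_c22 LD3_c46)) = (LP (LK LD1_c7 LD2_c28 LD3_c33)) :=
  Lgr Lrot30 (Lpr_at (f116378 IH) (Lpr_ft (K5.f123686 IH) (Lpr_at (K5.f123699 IH) (Lpn (LP (LK LD1_c7 LD2_c28 LD3_c33))))))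
theorem f116507 : Led Lsl_gt (LP (LK LD1_c7 LD2_c22 LD3_c49)) = (LP (LK LD1_c3 LD2_c41 LD3_c13)) :=
  Lre_g IH (LK LD1_c7 LD2_c22 LD3_c49) (LK LD1_c3 LD2_c41 LD3_c13) Lrfl Lrfl
theorem f123943 : Led Lsl_gf (LP (LK LD1_c7 LD2_c22 LD3_c49)) = (LP (LK LD1_c7 LD2_c28 LD3_c33)) :=
  Lgr Lrot47 (Lpr_gt (f116507 IH) (Lpe (f116378 IH) (Lpr_ff (f123700 IH) (Lpn (LP (LK LD1_c7 LD2_c28 LD3_c33))))))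
theorem f155570 : Led Lsl_dt (LP (LK LD1_c7 LD2_c22 LD3_c49)) = (LP (LK LD1_c3 LD2_c54 LD3_c59)) :=
  Lgr Lrot105 (Lpr_gf (f123943 IH) (Lpe (f123672 IH) (Lpe (K7.f123670 IH) (Lpe (K28.f116511 IH) (Lpr_gt (K8.f155566 IH) (Lpr_dt (K4.f93207 IH) (Lpr_gt (K5.f93188 IH) (Lpr_dt (K5.f129570 IH) (Lpe (K6.f129564 IH) (Lpn (LP (LK LD1_c3 LD2_c54 LD3_c59))))))))))))
theorem f155756 : Led Lsl_df (LP (LK LD1_c7 LD2_c22 LD3_c49)) = (LP (LK LD1_c3 LD2_c54 LD3_c59)) :=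
  Lgr Lrot38 (Lpr_dt (f155570 IH) (Lpn (LP (LK LD1_c3 LD2_c54 LD3_c59))))
theorem f104741 : Led Lsl_bt (LP (LK LD1_c4 LD2_c58 LD3_c57)) = (LP (LK LD1_c9 LD2_c48 LD3_c13)) :=
  Lre_b IH (LK LD1_c4 LD2_c58 LD3_c57) (LK LD1_c9 LD2_c48 LD3_c13) Lrfl Lrfl
theorem f104742 : Led Lsl_df (LP (LK LD1_c13 LD2_c6 LD3_c33)) = (LP (LK LD1_c9 LD2_c48 LD3_c13)) :=
  Lgr Lrot12 (Lpr_bt (K30.f104499 IH) (Lpr_dt (K6.f104737 IH) (Lpr_bt (f104741 IH) (Lpn (LP (LK LD1_c9 LD2_c48 LD3_c13))))))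
theorem f104771 : Led Lsl_ct (LP (LK LD1_c4 LD2_c59 LD3_c0)) = (LP (LK LD1_c9 LD2_c48 LD3_c13)) :=
  Lre_c IH (LK LD1_c4 LD2_c59 LD3_c0) (LK LD1_c9 LD2_c48 LD3_c13) Lrfl Lrfl
theorem f104772 : Led Lsl_dt (LP (LK LD1_c9 LD2_c48 LD3_c28)) = (LP (LK LD1_c4 LD2_c59 LD3_c0)) :=
  Lre_d IH (LK LD1_c9 LD2_c48 LD3_c28) (LK LD1_c4 LD2_c59 LD3_c0) Lrfl Lrfl
theorem f209693 : Led Lsl_ct (LP (LK LD1_c7 LD2_c22 LD3_c49)) = (LP (LK LD1_c9 LD2_c48 LD3_c28)) :=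
  Lgr Lrot41 (Lpr_df (f155756 IH) (Lpr_cf (K5.f129559 IH) (Lpe (K5.f129570 IH) (Lpe (K30.f162393 IH) (Lpr_at (K30.f162402 IH) (Lpr_cf (K30.f209556 IH) (Lpr_df (f104742 IH) (Lpe (f104771 IH) (Lpe (f104772 IH) (Lpn (LP (LK LD1_c9 LD2_c48 LD3_c28))))))))))))
theorem f209704 : Led Lsl_cf (LP (LK LD1_c7 LD2_c22 LD3_c49)) = (LP (LK LD1_c9 LD2_c48 LD3_c28)) :=
  Lgr Lrot11 (Lpr_ct (f209693 IH) (Lpn (LP (LK LD1_c9 LD2_c48 LD3_c28))))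
theorem f209706 : Led Lsl_gt (LP (LK LD1_c12 LD2_c24 LD3_c9)) = (LP (LK LD1_c9 LD2_c48 LD3_c28)) :=
  Lgr Lrot150 (Lpr_cf (K8.f127610 IH) (Lpr_gf (K28.f203543 IH) (Lpe (K8.f127888 IH) (Lpe (K6.f127995 IH) (Lpr_ct (K5.f122712 IH) (Lpr_gt (K5.f129579 IH) (Lpe (K5.f129559 IH) (Lpe (f155570 IH) (Lpr_cf (f209704 IH) (Lpn (LP (LK LD1_c9 LD2_c48 LD3_c28))))))))))))
theorem f72438 : Led Lsl_gt (LP (LK LD1_c4 LD2_c59 LD3_c0)) = (LP (LK LD1_c9 LD2_c48 LD3_c26)) :=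
  Lre_g IH (LK LD1_c4 LD2_c59 LD3_c0) (LK LD1_c9 LD2_c48 LD3_c26) Lrfl Lrfl
theorem f100589 : Led Lsl_dt (LP (LK LD1_c9 LD2_c48 LD3_c26)) = (LP (LK LD1_c17 LD2_c58 LD3_c41)) :=
  Lre_d IH (LK LD1_c9 LD2_c48 LD3_c26) (LK LD1_c17 LD2_c58 LD3_c41) Lrfl Lrfl
theorem f209710 : Led Lsl_ct (LP (LK LD1_c14 LD2_c1 LD3_c41)) = (LP (LK LD1_c17 LD2_c58 LD3_c41)) :=
  Lgr Lrot7 (Lpe (K6.f120976 IH) (Lpe (K5.f120975 IH) (Lpe (K5.f122675 IH) (Lpr_gf (K5.f122686 IH) (Lpe (K8.f127612 IH) (Lpr_gt (f209706 IH) (Lpr_dt (f104772 IH) (Lpr_gt (f72438 IH) (Lpr_dt (f100589 IH) (Lpn (LP (LK LD1_c17 LD2_c58 LD3_c41))))))))))))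
theorem f209766 : Led Lsl_gf (LP (LK LD1_c12 LD2_c23 LD3_c11)) = (LP (LK LD1_c17 LD2_c58 LD3_c41)) :=
  Lgr Lrot104 (Lpe (K28.f151254 IH) (Lpe (K8.f123635 IH) (Lpe (K8.f123605 IH) (Lpe (K8.f123603 IH) (Lpe (K4.f111288 IH) (Lpe (K4.f12780 IH) (Lpe (K6.f144681 IH) (Lpr_gt (K6.f144760 IH) (Lpr_ct (f209710 IH) (Lpn (LP (LK LD1_c17 LD2_c58 LD3_c41))))))))))))
theorem f209712 : Led Lsl_cf (LP (LK LD1_c14 LD2_c1 LD3_c41)) = (LP (LK LD1_c17 LD2_c58 LD3_c41)) :=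
  Lgr Lrot14 (Lpe (K6.f120976 IH) (Lpe (K5.f120975 IH) (Lpe (K5.f122675 IH) (Lpr_gf (K5.f122686 IH) (Lpe (K8.f127610 IH) (Lpr_gt (f209706 IH) (Lpr_dt (f104772 IH) (Lpr_gt (f72438 IH) (Lpr_dt (f100589 IH) (Lpn (LP (LK LD1_c17 LD2_c58 LD3_c41))))))))))))
theorem f155636 : Led Lsl_df (LP (LK LD1_c13 LD2_c8 LD3_c51)) = (LP (LK LD1_c7 LD2_c27 LD3_c36)) :=
  Lgr Lrot38 (Lpr_dt (K8.f155627 IH) (Lpn (LP (LK LD1_c7 LD2_c27 LD3_c36))))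
theorem f127596 : Led Lsl_df (LP (LK LD1_c6 LD2_c25 LD3_c58)) = (LP (LK LD1_c3 LD2_c22 LD3_c59)) :=
  Lgr Lrot12 (Lpr_bt (K8.f127588 IH) (Lpr_dt (K2.f91983 IH) (Lpr_bt (K2.f13521 IH) (Lpn (LP (LK LD1_c3 LD2_c22 LD3_c59))))))
theorem f127603 : Led Lsl_ct (LP (LK LD1_c6 LD2_c25 LD3_c58)) = (LP (LK LD1_c12 LD2_c24 LD3_c7)) :=
  Lre_c IH (LK LD1_c6 LD2_c25 LD3_c58) (LK LD1_c12 LD2_c24 LD3_c7) Lrfl Lrfl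
theorem f124498 : Led Lsl_dt (LP (LK LD1_c9 LD2_c18 LD3_c12)) = (LP (LK LD1_c17 LD2_c13 LD3_c15)) :=
  Lre_d IH (LK LD1_c9 LD2_c18 LD3_c12) (LK LD1_c17 LD2_c13 LD3_c15) Lrfl Lrfl
theorem f155640 : Led Lsl_cf (LP (LK LD1_c13 LD2_c8 LD3_c51)) = (LP (LK LD1_c17 LD2_c13 LD3_c15)) :=
  Lgr Lrot118 (Lpr_dt (K8.f155627 IH) (Lpe (K5.f108902 IH) (Lpr_dt (K5.f95626 IH) (Lpr_ct (K8.f91972 IH) (Lpe (f127596 IH) (Lpr_ct (f127603 IH) (Lpe (K5.f79165 IH) (Lpe (K8.f130330 IH) (Lpr_dt (f124498 IH) (Lpn (LP (LK LD1_c17 LD2_c13 LD3_c15))))))))))))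
theorem f155711 : Led Lsl_ct (LP (LK LD1_c13 LD2_c8 LD3_c51)) = (LP (LK LD1_c17 LD2_c13 LD3_c15)) :=
  Lgr Lrot59 (Lpr_cf (f155640 IH) (Lpn (LP (LK LD1_c17 LD2_c13 LD3_c15))))
theorem f498036 : Led Lsl_gf (LP (LK LD1_c9 LD2_c18 LD3_c12)) = (LP (LK LD1_c9 LD2_c49 LD3_c30)) :=
  Lgr Lrot143 (Lpr_dt (f124498 IH) (Lpe (f155711 IH) (Lpr_df (f155636 IH) (Lpe (K7.f102893 IH) (Lpe (K6.f102455 IH) (Lpe (K6.f130274 IH) (Lpr_cf (f209712 IH) (Lpe (f209766 IH) (Lpr_dt (f498030 IH) (Lpn (LP (LK LD1_c9 LD2_c49 LD3_c30))))))))))))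
def v486 : LQ := Led Lsl_ct (LP (LK LD1_c0 LD2_c42 LD3_c25))
theorem f453576 : Led Lsl_ct (LP (LK LD1_c0 LD2_c42 LD3_c25)) = v486 :=
  Lrfl
theorem f153627 : Led Lsl_af (LP (LK LD1_c0 LD2_c8 LD3_c31)) = (LP (LK LD1_c0 LD2_c13 LD3_c34)) :=
  Lgr Lrot0 (Lpr_at (K7.f153625 IH) (Lpn (LP (LK LD1_c0 LD2_c13 LD3_c34))))
theorem f131589 : Led Lsl_at (LP (LK LD1_c0 LD2_c18 LD3_c57)) = (LP (LK LD1_c0 LD2_c42 LD3_c25)) :=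
  Lre_a IH (LK LD1_c0 LD2_c18 LD3_c57) (LK LD1_c0 LD2_c42 LD3_c25) Lrfl Lrfl
theorem f155796 : Led Lsl_at (LP (LK LD1_c1 LD2_c6 LD3_c42)) = (LP (LK LD1_c0 LD2_c30 LD3_c33)) :=
  Lre_a IH (LK LD1_c1 LD2_c6 LD3_c42) (LK LD1_c0 LD2_c30 LD3_c33) Lrfl Lrfl
theorem f435521 : Led Lsl_bt (LP (LK LD1_c0 LD2_c42 LD3_c25)) = (LP (LK LD1_c1 LD2_c6 LD3_c42)) :=
  Lgr Lrot62 (Lpe (f131589 IH) (Lpe (K6.f68984 IH) (Lpr_af (f153627 IH) (Lpe (K5.f26255 IH) (Lpe (f155796 IH) (Lpn (LP (LK LD1_c1 LD2_c6 LD3_c42))))))))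
theorem f453582 : Led Lsl_gt (LP (LK LD1_c2 LD2_c18 LD3_c6)) = v486 :=
  Lgr Lrot65 (Lpe (K7.f124453 IH) (Lpr_bt (K7.f113347 IH) (Lpr_gf (K4.f114862 IH) (Lpe (K8.f125500 IH) (Lpr_ct (K5.f125502 IH) (Lpe (K5.f118692 IH) (Lpe (K5.f89459 IH) (Lpe (K5.f131559 IH) (Lpe (f435521 IH) (Lpr_ct (f453576 IH) (Lpn v486)))))))))))
theorem f453578 : Led Lsl_cf (LP (LK LD1_c0 LD2_c42 LD3_c25)) = v486 :=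
  Lgr Lrot11 (Lpr_ct (f453576 IH) (Lpn v486))
theorem f124427 : Led Lsl_bf (LP (LK LD1_c0 LD2_c51 LD3_c42)) = (LP (LK LD1_c1 LD2_c6 LD3_c4)) :=
  Lgr Lrot93 (Lpr_dt (K1.f62309 IH) (Lpr_bt (K3.f79326 IH) (Lpr_dt (K5.f124423 IH) (Lpn (LP (LK LD1_c1 LD2_c6 LD3_c4))))))
theorem f124502 : Led Lsl_gf (LP (LK LD1_c4 LD2_c41 LD3_c44)) = (LP (LK LD1_c2 LD2_c18 LD3_c4)) :=
  Lgr Lrot126 (Lpr_cf (K4.f120787 IH) (Lpr_bt (K4.f83756 IH) (Lpr_gt (K3.f94924 IH) (Lpr_ct (K3.f26136 IH) (Lpe (K3.f94926 IH) (Lpe (K1.f23367 IH) (Lpe (K1.f66573 IH) (Lpe (K3.f93363 IH) (Lpr_bf (f124427 IH) (Lpr_ct (K7.f124425 IH) (Lpn (LP (LK LD1_c2 LD2_c18 LD3_c4)))))))))))))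
theorem f131406 : Led Lsl_gt (LP (LK LD1_c0 LD2_c42 LD3_c25)) = (LP (LK LD1_c1 LD2_c6 LD3_c4)) :=
  Lgr Lrot9 (Lpe (K5.f82513 IH) (Lpr_gt (K5.f131400 IH) (Lpr_ct (K3.f104332 IH) (Lpr_gt (K4.f118732 IH) (Lpe (K3.f110005 IH) (Lpe (K3.f82398 IH) (Lpe (K5.f120791 IH) (Lpr_gf (f124502 IH) (Lpe (K7.f124425 IH) (Lpn (LP (LK LD1_c1 LD2_c6 LD3_c4))))))))))))
theorem f124426 : Led Lsl_gt (LP (LK LD1_c4 LD2_c41 LD3_c46)) = (LP (LK LD1_c9 LD2_c18 LD3_c10)) :=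
  Lre_g IH (LK LD1_c4 LD2_c41 LD3_c46) (LK LD1_c9 LD2_c18 LD3_c10) Lrfl Lrfl
theorem f150655 : Led Lsl_bt (LP (LK LD1_c17 LD2_c13 LD3_c14)) = (LP (LK LD1_c9 LD2_c18 LD3_c10)) :=
  Lre_b IH (LK LD1_c17 LD2_c13 LD3_c14) (LK LD1_c9 LD2_c18 LD3_c10) Lrfl Lrfl
theorem f498040 : Led Lsl_ct (LP (LK LD1_c17 LD2_c13 LD3_c14)) = (LP (LK LD1_c9 LD2_c49 LD3_c30)) :=
  Lgr Lrot64 (Lpr_bt (f150655 IH) (Lpe (f124426 IH) (Lpe (K7.f61143 IH) (Lpr_ct (K7.f61142 IH) (Lpe (f131406 IH) (Lpr_cf (f453578 IH) (Lpe (f453582 IH) (Lpe (K8.f124449 IH) (Lpr_ct (K8.f124456 IH) (Lpr_gf (f498036 IH) (Lpn (LP (LK LD1_c9 LD2_c49 LD3_c30)))))))))))))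
theorem f137048 : Led Lsl_et (LP (LK LD1_c14 LD2_c6 LD3_c36)) = (LP (LK LD1_c23 LD2_c40 LD3_c38)) :=
  Lre_e IH (LK LD1_c14 LD2_c6 LD3_c36) (LK LD1_c23 LD2_c40 LD3_c38) Lrfl Lrfl
theorem f147850 : Led Lsl_et (LP (LK LD1_c17 LD2_c23 LD3_c17)) = (LP (LK LD1_c9 LD2_c25 LD3_c47)) :=
  Lre_e IH (LK LD1_c17 LD2_c23 LD3_c17) (LK LD1_c9 LD2_c25 LD3_c47) Lrfl Lrfl
theorem f147851 : Led Lsl_ct (LP (LK LD1_c23 LD2_c40 LD3_c38)) = (LP (LK LD1_c17 LD2_c23 LD3_c17)) :=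
  Lgr Lrot15 (Lpe (f137048 IH) (Lpr_cf (f147842 IH) (Lpe (f147850 IH) (Lpn (LP (LK LD1_c17 LD2_c23 LD3_c17))))))
theorem f147860 : Led Lsl_cf (LP (LK LD1_c23 LD2_c40 LD3_c38)) = (LP (LK LD1_c17 LD2_c23 LD3_c17)) :=
  Lgr Lrot11 (Lpr_ct (f147851 IH) (Lpn (LP (LK LD1_c17 LD2_c23 LD3_c17))))
theorem f147863 : Led Lsl_bt (LP (LK LD1_c23 LD2_c40 LD3_c38)) = (LP (LK LD1_c14 LD2_c6 LD3_c39)) :=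
  Lre_b IH (LK LD1_c23 LD2_c40 LD3_c38) (LK LD1_c14 LD2_c6 LD3_c39) Lrfl Lrfl
theorem f147864 : Led Lsl_ct (LP (LK LD1_c14 LD2_c6 LD3_c39)) = (LP (LK LD1_c23 LD2_c40 LD3_c40)) :=
  Lre_c IH (LK LD1_c14 LD2_c6 LD3_c39) (LK LD1_c23 LD2_c40 LD3_c40) Lrfl Lrfl
theorem f147865 : Led Lsl_bt (LP (LK LD1_c9 LD2_c25 LD3_c50)) = (LP (LK LD1_c17 LD2_c23 LD3_c17)) :=
  Lre_b IH (LK LD1_c9 LD2_c25 LD3_c50) (LK LD1_c17 LD2_c23 LD3_c17) Lrfl Lrfl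
theorem f147866 : Led Lsl_ct (LP (LK LD1_c17 LD2_c23 LD3_c18)) = (LP (LK LD1_c9 LD2_c25 LD3_c50)) :=
  Lre_c IH (LK LD1_c17 LD2_c23 LD3_c18) (LK LD1_c9 LD2_c25 LD3_c50) Lrfl Lrfl
theorem f147867 : Led Lsl_bt (LP (LK LD1_c23 LD2_c40 LD3_c40)) = (LP (LK LD1_c17 LD2_c23 LD3_c18)) :=
  Lgr Lrot128 (Lpe (f147864 IH) (Lpe (f147863 IH) (Lpr_cf (f147860 IH) (Lpe (f147865 IH) (Lpe (f147866 IH) (Lpn (LP (LK LD1_c17 LD2_c23 LD3_c18))))))))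
theorem f147870 : Led Lsl_et (LP (LK LD1_c14 LD2_c6 LD3_c38)) = (LP (LK LD1_c23 LD2_c40 LD3_c40)) :=
  Lre_e IH (LK LD1_c14 LD2_c6 LD3_c38) (LK LD1_c23 LD2_c40 LD3_c40) Lrfl Lrfl
theorem f104998 : Led Lsl_et (LP (LK LD1_c17 LD2_c23 LD3_c18)) = (LP (LK LD1_c9 LD2_c25 LD3_c49)) :=
  Lre_e IH (LK LD1_c17 LD2_c23 LD3_c18) (LK LD1_c9 LD2_c25 LD3_c49) Lrfl Lrfl
theorem f147871 : Led Lsl_bf (LP (LK LD1_c14 LD2_c6 LD3_c38)) = (LP (LK LD1_c9 LD2_c25 LD3_c49)) :=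
  Lgr Lrot96 (Lpr_et (f147870 IH) (Lpr_bt (f147867 IH) (Lpr_et (f104998 IH) (Lpn (LP (LK LD1_c9 LD2_c25 LD3_c49))))))
theorem f147874 : Led Lsl_dt (LP (LK LD1_c14 LD2_c6 LD3_c38)) = (LP (LK LD1_c9 LD2_c48 LD3_c50)) :=
  Lgr Lrot79 (Lpr_bf (f147871 IH) (Lpe (K4.f105000 IH) (Lpe (K8.f104788 IH) (Lpn (LP (LK LD1_c9 LD2_c48 LD3_c50))))))
theorem f147876 : Led Lsl_df (LP (LK LD1_c14 LD2_c6 LD3_c38)) = (LP (LK LD1_c9 LD2_c48 LD3_c50)) :=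
  Lgr Lrot38 (Lpr_dt (f147874 IH) (Lpn (LP (LK LD1_c9 LD2_c48 LD3_c50))))
theorem f498047 : Led Lsl_df (LP (LK LD1_c17 LD2_c13 LD3_c14)) = (LP (LK LD1_c14 LD2_c13 LD3_c50)) :=
  Lgr Lrot43 (Lpr_ct (f498040 IH) (Lpe (f498026 IH) (Lpe (K28.f151254 IH) (Lpr_dt (K8.f123634 IH) (Lpr_ct (K5.f123600 IH) (Lpe (K6.f130257 IH) (Lpr_ct (K6.f130308 IH) (Lpe (f130324 IH) (Lpr_ct (K8.f104789 IH) (Lpe (f147876 IH) (Lpr_ct (f123947 IH) (Lpr_dt (K5.f123657 IH) (Lpe (K6.f123958 IH) (Lpr_dt (K6.f130450 IH) (Lpe (K6.f130443 IH) (Lpn (LP (LK LD1_c14 LD2_c13 LD3_c50))))))))))))))))))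
theorem f497567 : Led Lsl_ft (LP (LK LD1_c14 LD2_c20 LD3_c1)) = (LP (LK LD1_c14 LD2_c13 LD3_c50)) :=
  Lgr Lrot4 (Lpe (K7.f16789 IH) (Lpr_ff (f497561 IH) (Lpe (K6.f130446 IH) (Lpn (LP (LK LD1_c14 LD2_c13 LD3_c50))))))
theorem f497571 : Led Lsl_ff (LP (LK LD1_c14 LD2_c20 LD3_c1)) = (LP (LK LD1_c14 LD2_c13 LD3_c50)) :=
  Lgr Lrot3 (Lpr_ft (f497567 IH) (Lpn (LP (LK LD1_c14 LD2_c13 LD3_c50))))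
theorem f497500 : Led Lsl_at (LP (LK LD1_c14 LD2_c20 LD3_c1)) = (LP (LK LD1_c14 LD2_c13 LD3_c49)) :=
  Lgr Lrot100 (Lpr_af (f497498 IH) (Lpn (LP (LK LD1_c14 LD2_c13 LD3_c49))))
theorem f497496 : Led Lsl_ff (LP (LK LD1_c13 LD2_c1 LD3_c32)) = (LP (LK LD1_c14 LD2_c13 LD3_c49)) :=
  Lgr Lrot3 (Lpr_ft (f497492 IH) (Lpn (LP (LK LD1_c14 LD2_c13 LD3_c49))))
theorem f497573 : Led Lsl_at (LP (LK LD1_c13 LD2_c1 LD3_c32)) = (LP (LK LD1_c14 LD2_c13 LD3_c50)) :=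
  Lgr Lrot66 (Lpr_ff (f497496 IH) (Lpe (f497500 IH) (Lpr_ff (f497571 IH) (Lpn (LP (LK LD1_c14 LD2_c13 LD3_c50))))))
theorem f498061 : Led Lsl_at (LP (LK LD1_c17 LD2_c13 LD3_c14)) = (LP (LK LD1_c9 LD2_c49 LD3_c25)) :=
  Lgr Lrot51 (Lpr_df (f498047 IH) (Lpe (f497573 IH) (Lpe (f137487 IH) (Lpn (LP (LK LD1_c9 LD2_c49 LD3_c25))))))
theorem f498044 : Led Lsl_bt (LP (LK LD1_c9 LD2_c18 LD3_c10)) = (LP (LK LD1_c17 LD2_c13 LD3_c14)) :=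
  Lre_b IH (LK LD1_c9 LD2_c18 LD3_c10) (LK LD1_c17 LD2_c13 LD3_c14) Lrfl Lrfl
theorem f149092 : Led Lsl_gt (LP (LK LD1_c9 LD2_c8 LD3_c1)) = (LP (LK LD1_c4 LD2_c35 LD3_c49)) :=
  Lre_g IH (LK LD1_c9 LD2_c8 LD3_c1) (LK LD1_c4 LD2_c35 LD3_c49) Lrfl Lrfl
theorem f149315 : Led Lsl_gf (LP (LK LD1_c9 LD2_c8 LD3_c1)) = (LP (LK LD1_c4 LD2_c35 LD3_c56)) :=
  Lgr Lrot47 (Lpr_gt (f149092 IH) (Lpr_af (K7.f149124 IH) (Lpr_ff (K7.f149306 IH) (Lpn (LP (LK LD1_c4 LD2_c35 LD3_c56))))))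
theorem f497445 : Led Lsl_at (LP (LK LD1_c4 LD2_c59 LD3_c31)) = (LP (LK LD1_c9 LD2_c8 LD3_c1)) :=
  Lgr Lrot26 (Lpr_ff (f497438 IH) (Lpe (K7.f149930 IH) (Lpe (f149315 IH) (Lpn (LP (LK LD1_c9 LD2_c8 LD3_c1))))))
theorem f208113 : Led Lsl_at (LP (LK LD1_c12 LD2_c14 LD3_c0)) = (LP (LK LD1_c6 LD2_c19 LD3_c18)) :=
  Lre_a IH (LK LD1_c12 LD2_c14 LD3_c0) (LK LD1_c6 LD2_c19 LD3_c18) Lrfl Lrfl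
theorem f208110 : Led Lsl_bt (LP (LK LD1_c3 LD2_c7 LD3_c6)) = (LP (LK LD1_c6 LD2_c19 LD3_c18)) :=
  Lre_b IH (LK LD1_c3 LD2_c7 LD3_c6) (LK LD1_c6 LD2_c19 LD3_c18) Lrfl Lrfl
theorem f152610 : Led Lsl_cf (LP (LK LD1_c1 LD2_c31 LD3_c38)) = (LP (LK LD1_c1 LD2_c32 LD3_c41)) :=
  Lgr Lrot14 (Lpe (K4.f82441 IH) (Lpe (K7.f125517 IH) (Lpe (K5.f125469 IH) (Lpe (K7.f125521 IH) (Lpr_ct (K5.f124542 IH) (Lpr_gt (K7.f152603 IH) (Lpr_dt (K7.f104716 IH) (Lpe (K7.f152598 IH) (Lpr_dt (K7.f128889 IH) (Lpn (LP (LK LD1_c1 LD2_c32 LD3_c41))))))))))))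
theorem f161588 : Led Lsl_bt (LP (LK LD1_c3 LD2_c17 LD3_c43)) = (LP (LK LD1_c6 LD2_c38 LD3_c53)) :=
  Lre_b IH (LK LD1_c3 LD2_c17 LD3_c43) (LK LD1_c6 LD2_c38 LD3_c53) Lrfl Lrfl
theorem f208111 : Led Lsl_gf (LP (LK LD1_c6 LD2_c19 LD3_c18)) = (LP (LK LD1_c6 LD2_c38 LD3_c53)) :=
  Lgr Lrot124 (Lpe (f208110 IH) (Lpe (f208108 IH) (Lpr_gt (K30.f208104 IH) (Lpr_cf (f152610 IH) (Lpr_bt (K7.f152531 IH) (Lpr_gt (K8.f152571 IH) (Lpe (K8.f161586 IH) (Lpr_gt (K8.f161584 IH) (Lpe (K11.f132535 IH) (Lpr_bt (f161588 IH) (Lpn (LP (LK LD1_c6 LD2_c38 LD3_c53)))))))))))))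
theorem f208277 : Led Lsl_gt (LP (LK LD1_c11 LD2_c38 LD3_c28)) = (LP (LK LD1_c6 LD2_c38 LD3_c53)) :=
  Lgr Lrot5 (Lpr_ft (f208271 IH) (Lpr_at (f208113 IH) (Lpr_gf (f208111 IH) (Lpn (LP (LK LD1_c6 LD2_c38 LD3_c53))))))
theorem f115570 : Led Lsl_ct (LP (LK LD1_c6 LD2_c10 LD3_c31)) = (LP (LK LD1_c12 LD2_c1 LD3_c34)) :=
  Lre_c IH (LK LD1_c6 LD2_c10 LD3_c31) (LK LD1_c12 LD2_c1 LD3_c34) Lrfl Lrfl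
theorem f110392 : Led Lsl_cf (LP (LK LD1_c4 LD2_c45 LD3_c43)) = (LP (LK LD1_c4 LD2_c44 LD3_c41)) :=
  Lgr Lrot11 (Lpr_ct (K5.f110385 IH) (Lpn (LP (LK LD1_c4 LD2_c44 LD3_c41))))
theorem f103898 : Led Lsl_dt (LP (LK LD1_c6 LD2_c38 LD3_c53)) = (LP (LK LD1_c3 LD2_c17 LD3_c41)) :=
  Lre_d IH (LK LD1_c6 LD2_c38 LD3_c53) (LK LD1_c3 LD2_c17 LD3_c41) Lrfl Lrfl
theorem f208279 : Led Lsl_bf (LP (LK LD1_c9 LD2_c8 LD3_c1)) = (LP (LK LD1_c6 LD2_c25 LD3_c55)) :=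
  Lgr Lrot184 (Lpr_gt (f149092 IH) (Lpr_dt (K7.f149085 IH) (Lpr_ct (K3.f102345 IH) (Lpr_bt (K3.f102927 IH) (Lpr_gt (K3.f99085 IH) (Lpr_dt (K3.f102167 IH) (Lpe (f110392 IH) (Lpr_bt (K5.f110399 IH) (Lpe (K7.f147839 IH) (Lpe (K7.f151230 IH) (Lpr_ct (K7.f151228 IH) (Lpr_bt (K7.f141624 IH) (Lpe (K6.f141714 IH) (Lpr_dt (K8.f141712 IH) (Lpr_ct (f115570 IH) (Lpe (f119990 IH) (Lpr_gt (f208277 IH) (Lpr_dt (f103898 IH) (Lpr_ct (K7.f103834 IH) (Lpn (LP (LK LD1_c6 LD2_c25 LD3_c55))))))))))))))))))))))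
theorem f208283 : Led Lsl_bt (LP (LK LD1_c9 LD2_c8 LD3_c1)) = (LP (LK LD1_c6 LD2_c25 LD3_c55)) :=
  Lgr Lrot127 (Lpr_bf (f208279 IH) (Lpn (LP (LK LD1_c6 LD2_c25 LD3_c55))))
theorem f498063 : Led Lsl_af (LP (LK LD1_c9 LD2_c18 LD3_c10)) = (LP (LK LD1_c6 LD2_c25 LD3_c55)) :=
  Lgr Lrot36 (Lpr_bt (f498044 IH) (Lpr_at (f498061 IH) (Lpr_bt (K6.f79346 IH) (Lpr_at (f497445 IH) (Lpr_bt (f208283 IH) (Lpn (LP (LK LD1_c6 LD2_c25 LD3_c55))))))))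
theorem f103894 : Led Lsl_at (LP (LK LD1_c6 LD2_c38 LD3_c52)) = (LP (LK LD1_c3 LD2_c17 LD3_c41)) :=
  Lre_a IH (LK LD1_c6 LD2_c38 LD3_c52) (LK LD1_c3 LD2_c17 LD3_c41) Lrfl Lrfl
theorem f498067 : Led Lsl_ct (LP (LK LD1_c9 LD2_c18 LD3_c10)) = (LP (LK LD1_c6 LD2_c38 LD3_c52)) :=
  Lgr Lrot111 (Lpr_af (f498063 IH) (Lpe (K7.f103834 IH) (Lpe (f103894 IH) (Lpn (LP (LK LD1_c6 LD2_c38 LD3_c52))))))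
theorem f62656 : Led Lsl_gt (LP (LK LD1_c7 LD2_c31 LD3_c4)) = (LP (LK LD1_c3 LD2_c45 LD3_c9)) :=
  Lre_g IH (LK LD1_c7 LD2_c31 LD3_c4) (LK LD1_c3 LD2_c45 LD3_c9) Lrfl Lrfl
theorem f82359 : Led Lsl_ft (LP (LK LD1_c0 LD2_c30 LD3_c46)) = (LP (LK LD1_c0 LD2_c19 LD3_c6)) :=
  Lgr Lrot4 (Lpe (K4.f23447 IH) (Lpr_ff (K4.f82352 IH) (Lpe (K5.f26145 IH) (Lpn (LP (LK LD1_c0 LD2_c19 LD3_c6))))))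
theorem f116770 : Led Lsl_gt (LP (LK LD1_c0 LD2_c41 LD3_c29)) = (LP (LK LD1_c0 LD2_c42 LD3_c53)) :=
  Lgr Lrot46 (Lpr_gf (K4.f116726 IH) (Lpr_ft (f82359 IH) (Lpr_at (K8.f82378 IH) (Lpn (LP (LK LD1_c0 LD2_c42 LD3_c53))))))
theorem f82995 : Led Lsl_bt (LP (LK LD1_c1 LD2_c32 LD3_c32)) = (LP (LK LD1_c3 LD2_c12 LD3_c3)) :=
  Lre_b IH (LK LD1_c1 LD2_c32 LD3_c32) (LK LD1_c3 LD2_c12 LD3_c3) Lrfl Lrfl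
theorem f144032 : Led Lsl_gt (LP (LK LD1_c3 LD2_c12 LD3_c3)) = (LP (LK LD1_c6 LD2_c28 LD3_c11)) :=
  Lre_g IH (LK LD1_c3 LD2_c12 LD3_c3) (LK LD1_c6 LD2_c28 LD3_c11) Lrfl Lrfl
theorem f440867 : Led Lsl_ct (LP (LK LD1_c6 LD2_c28 LD3_c11)) = (LP (LK LD1_c12 LD2_c27 LD3_c40)) :=
  Lre_c IH (LK LD1_c6 LD2_c28 LD3_c11) (LK LD1_c12 LD2_c27 LD3_c40) Lrfl Lrfl
theorem f440868 : Led Lsl_gf (LP (LK LD1_c7 LD2_c1 LD3_c57)) = (LP (LK LD1_c12 LD2_c27 LD3_c40)) :=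
  Lgr Lrot129 (Lpe (K2.f18269 IH) (Lpr_bt (K4.f64275 IH) (Lpr_gt (K1.f64259 IH) (Lpe (K4.f89441 IH) (Lpr_ct (K4.f89391 IH) (Lpr_gt (f116770 IH) (Lpe (K5.f26171 IH) (Lpr_bt (f82995 IH) (Lpr_gt (f144032 IH) (Lpr_ct (f440867 IH) (Lpn (LP (LK LD1_c12 LD2_c27 LD3_c40)))))))))))))
theorem f76478 : Led Lsl_df (LP (LK LD1_c6 LD2_c29 LD3_c16)) = (LP (LK LD1_c12 LD2_c12 LD3_c53)) :=
  Lgr Lrot12 (Lpr_bt (K2.f61526 IH) (Lpr_dt (K2.f76474 IH) (Lpr_bt (K4.f61789 IH) (Lpn (LP (LK LD1_c12 LD2_c12 LD3_c53))))))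
theorem f101793 : Led Lsl_gt (LP (LK LD1_c20 LD2_c30 LD3_c50)) = (LP (LK LD1_c11 LD2_c33 LD3_c34)) :=
  Lre_g IH (LK LD1_c20 LD2_c30 LD3_c50) (LK LD1_c11 LD2_c33 LD3_c34) Lrfl Lrfl
theorem f101794 : Led Lsl_gt (LP (LK LD1_c20 LD2_c41 LD3_c1)) = (LP (LK LD1_c20 LD2_c30 LD3_c50)) :=
  Lgr Lrot5 (Lpe (K2.f81633 IH) (Lpr_at (K7.f101776 IH) (Lpe (f101793 IH) (Lpn (LP (LK LD1_c20 LD2_c30 LD3_c50))))))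
theorem f160824 : Led Lsl_gt (LP (LK LD1_c3 LD2_c16 LD3_c43)) = (LP (LK LD1_c6 LD2_c2 LD3_c12)) :=
  Lgr Lrot46 (Lpe (K8.f149576 IH) (Lpr_ft (K8.f160813 IH) (Lpr_at (K8.f64581 IH) (Lpn (LP (LK LD1_c6 LD2_c2 LD3_c12))))))
theorem f202385 : Led Lsl_dt (LP (LK LD1_c20 LD2_c30 LD3_c50)) = (LP (LK LD1_c12 LD2_c34 LD3_c17)) :=
  Lgr Lrot182 (Lpe (f101794 IH) (Lpe (K2.f81630 IH) (Lpe (K6.f81618 IH) (Lpe (K2.f35995 IH) (Lpr_gf (K6.f35992 IH) (Lpr_bf (K6.f72249 IH) (Lpe (K11.f81846 IH) (Lpe (K11.f79352 IH) (Lpr_gf (K11.f202381 IH) (Lpe (K11.f202367 IH) (Lpe (K8.f64589 IH) (Lpe (K8.f64576 IH) (Lpe (f160824 IH) (Lpr_bf (K8.f118789 IH) (Lpe (K6.f118663 IH) (Lpr_df (K7.f150891 IH) (Lpr_gf (K7.f141746 IH) (Lpe (K7.f79231 IH) (Lpe (K7.f40580 IH) (Lpn (LP (LK LD1_c12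 LD2_c34 LD3_c17))))))))))))))))))))))
theorem f149516 : Led Lsl_gt (LP (LK LD1_c17 LD2_c18 LD3_c29)) = (LP (LK LD1_c11 LD2_c41 LD3_c13)) :=
  Lgr Lrot46 (Lpe (K28.f149376 IH) (Lpr_ft (K7.f149509 IH) (Lpe (K7.f101796 IH) (Lpn (LP (LK LD1_c11 LD2_c41 LD3_c13))))))
theorem f100213 : Led Lsl_gt (LP (LK LD1_c12 LD2_c1 LD3_c14)) = (LP (LK LD1_c7 LD2_c2 LD3_c7)) :=
  Lre_g IH (LK LD1_c12 LD2_c1 LD3_c14) (LK LD1_c7 LD2_c2 LD3_c7) Lrfl Lrfl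
theorem f202395 : Led Lsl_dt (LP (LK LD1_c7 LD2_c2 LD3_c7)) = (LP (LK LD1_c6 LD2_c33 LD3_c40)) :=
  Lgr Lrot105 (Lpe (f100213 IH) (Lpe (K7.f75221 IH) (Lpe (K28.f74945 IH) (Lpr_cf (K28.f163446 IH) (Lpr_gt (f149516 IH) (Lpr_dt (K7.f81675 IH) (Lpr_gt (f101794 IH) (Lpr_dt (f202385 IH) (Lpe (K7.f79230 IH) (Lpn (LP (LK LD1_c6 LD2_c33 LD3_c40))))))))))))
theorem f202407 : Led Lsl_ff (LP (LK LD1_c7 LD2_c2 LD3_c7)) = (LP (LK LD1_c6 LD2_c35 LD3_c48)) :=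
  Lgr Lrot19 (Lpr_dt (f202395 IH) (Lpr_ft (K7.f151049 IH) (Lpr_dt (K7.f101904 IH) (Lpn (LP (LK LD1_c6 LD2_c35 LD3_c48))))))
theorem f202418 : Led Lsl_ft (LP (LK LD1_c7 LD2_c2 LD3_c7)) = (LP (LK LD1_c6 LD2_c35 LD3_c48)) :=
  Lgr Lrot48 (Lpr_ff (f202407 IH) (Lpn (LP (LK LD1_c6 LD2_c35 LD3_c48))))
theorem f58411 : Led Lsl_gt (LP (LK LD1_c7 LD2_c2 LD3_c7)) = (LP (LK LD1_c3 LD2_c30 LD3_c12)) :=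
  Lre_g IH (LK LD1_c7 LD2_c2 LD3_c7) (LK LD1_c3 LD2_c30 LD3_c12) Lrfl Lrfl
theorem f64917 : Led Lsl_gt (LP (LK LD1_c3 LD2_c30 LD3_c12)) = (LP (LK LD1_c7 LD2_c2 LD3_c6)) :=
  Lre_g IH (LK LD1_c3 LD2_c30 LD3_c12) (LK LD1_c7 LD2_c2 LD3_c6) Lrfl Lrfl
theorem f202423 : Led Lsl_af (LP (LK LD1_c7 LD2_c2 LD3_c6)) = (LP (LK LD1_c6 LD2_c35 LD3_c48)) :=
  Lgr Lrot31 (Lpe (f64917 IH) (Lpe (f58411 IH) (Lpr_ft (f202418 IH) (Lpn (LP (LK LD1_c6 LD2_c35 LD3_c48))))))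
theorem f151062 : Led Lsl_at (LP (LK LD1_c6 LD2_c33 LD3_c40)) = (LP (LK LD1_c3 LD2_c16 LD3_c13)) :=
  Lgr Lrot66 (Lpr_ff (K7.f151060 IH) (Lpr_af (K7.f150823 IH) (Lpe (K7.f150814 IH) (Lpn (LP (LK LD1_c3 LD2_c16 LD3_c13))))))
theorem f150825 : Led Lsl_dt (LP (LK LD1_c3 LD2_c16 LD3_c13)) = (LP (LK LD1_c6 LD2_c35 LD3_c44)) :=
  Lre_d IH (LK LD1_c3 LD2_c16 LD3_c13) (LK LD1_c6 LD2_c35 LD3_c44) Lrfl Lrfl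
theorem f202397 : Led Lsl_af (LP (LK LD1_c7 LD2_c2 LD3_c7)) = (LP (LK LD1_c6 LD2_c35 LD3_c44)) :=
  Lgr Lrot117 (Lpr_dt (f202395 IH) (Lpr_at (f151062 IH) (Lpr_dt (f150825 IH) (Lpn (LP (LK LD1_c6 LD2_c35 LD3_c44))))))
theorem f202430 : Led Lsl_ft (LP (LK LD1_c7 LD2_c2 LD3_c6)) = (LP (LK LD1_c6 LD2_c35 LD3_c44)) :=
  Lgr Lrot101 (Lpr_af (f202423 IH) (Lpe (f202418 IH) (Lpr_af (f202397 IH) (Lpn (LP (LK LD1_c6 LD2_c35 LD3_c44))))))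
theorem f14094 : Led Lsl_dt (LP (LK LD1_c6 LD2_c35 LD3_c44)) = (LP (LK LD1_c3 LD2_c16 LD3_c13)) :=
  Lre_d IH (LK LD1_c6 LD2_c35 LD3_c44) (LK LD1_c3 LD2_c16 LD3_c13) Lrfl Lrfl
theorem f202432 : Led Lsl_df (LP (LK LD1_c7 LD2_c2 LD3_c6)) = (LP (LK LD1_c6 LD2_c33 LD3_c39)) :=
  Lgr Lrot78 (Lpr_ft (f202430 IH) (Lpr_dt (f14094 IH) (Lpr_ft (K7.f150814 IH) (Lpn (LP (LK LD1_c6 LD2_c33 LD3_c39))))))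
theorem f74944 : Led Lsl_gt (LP (LK LD1_c7 LD2_c2 LD3_c6)) = (LP (LK LD1_c12 LD2_c1 LD3_c14)) :=
  Lre_g IH (LK LD1_c7 LD2_c2 LD3_c6) (LK LD1_c12 LD2_c1 LD3_c14) Lrfl Lrfl
theorem f66880 : Led Lsl_dt (LP (LK LD1_c12 LD2_c1 LD3_c14)) = (LP (LK LD1_c6 LD2_c10 LD3_c10)) :=
  Lre_d IH (LK LD1_c12 LD2_c1 LD3_c14) (LK LD1_c6 LD2_c10 LD3_c10) Lrfl Lrfl
theorem f75198 : Led Lsl_at (LP (LK LD1_c9 LD2_c16 LD3_c0)) = (LP (LK LD1_c11 LD2_c45 LD3_c26)) :=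
  Lgr Lrot66 (Lpr_ff (K2.f74009 IH) (Lpr_af (K11.f74804 IH) (Lpr_ff (K2.f75196 IH) (Lpn (LP (LK LD1_c11 LD2_c45 LD3_c26))))))
theorem f74019 : Led Lsl_gt (LP (LK LD1_c9 LD2_c16 LD3_c40)) = (LP (LK LD1_c17 LD2_c11 LD3_c25)) :=
  Lre_g IH (LK LD1_c9 LD2_c16 LD3_c40) (LK LD1_c17 LD2_c11 LD3_c25) Lrfl Lrfl
theorem f75329 : Led Lsl_gt (LP (LK LD1_c17 LD2_c11 LD3_c25)) = (LP (LK LD1_c11 LD2_c45 LD3_c26)) :=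
  Lgr Lrot46 (Lpe (f74019 IH) (Lpe (K2.f74009 IH) (Lpr_at (f75198 IH) (Lpn (LP (LK LD1_c11 LD2_c45 LD3_c26))))))
theorem f202438 : Led Lsl_df (LP (LK LD1_c17 LD2_c11 LD3_c25)) = (LP (LK LD1_c9 LD2_c21 LD3_c42)) :=
  Lgr Lrot153 (Lpr_gt (f75329 IH) (Lpe (K4.f75215 IH) (Lpe (K6.f66881 IH) (Lpe (f66880 IH) (Lpe (f74944 IH) (Lpr_df (f202432 IH) (Lpe (K7.f79384 IH) (Lpe (K7.f15574 IH) (Lpr_gt (K7.f40577 IH) (Lpn (LP (LK LD1_c9 LD2_c21 LD3_c42))))))))))))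
theorem f202443 : Led Lsl_dt (LP (LK LD1_c17 LD2_c11 LD3_c25)) = (LP (LK LD1_c9 LD2_c21 LD3_c42)) :=
  Lgr Lrot42 (Lpr_df (f202438 IH) (Lpn (LP (LK LD1_c9 LD2_c21 LD3_c42))))
theorem f77303 : Led Lsl_at (LP (LK LD1_c6 LD2_c21 LD3_c4)) = (LP (LK LD1_c4 LD2_c59 LD3_c16)) :=
  Lgr Lrot51 (Lpr_df (K7.f77298 IH) (Lpe (K7.f14088 IH) (Lpe (K6.f14105 IH) (Lpn (LP (LK LD1_c4 LD2_c59 LD3_c16))))))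
theorem f14012 : Led Lsl_dt (LP (LK LD1_c9 LD2_c23 LD3_c19)) = (LP (LK LD1_c4 LD2_c45 LD3_c18)) :=
  Lre_d IH (LK LD1_c9 LD2_c23 LD3_c19) (LK LD1_c4 LD2_c45 LD3_c18) Lrfl Lrfl
theorem f79004 : Led Lsl_dt (LP (LK LD1_c6 LD2_c36 LD3_c20)) = (LP (LK LD1_c11 LD2_c45 LD3_c58)) :=
  Lgr Lrot159 (Lpr_ft (K7.f78994 IH) (Lpr_at (f77303 IH) (Lpe (K6.f40315 IH) (Lpr_df (K11.f40555 IH) (Lpe (K11.f15567 IH) (Lpe (K11.f15587 IH) (Lpe (K7.f14017 IH) (Lpe (f14012 IH) (Lpe (K11.f14032 IH) (Lpn (LP (LK LD1_c11 LD2_c45 LD3_c58))))))))))))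
theorem f40565 : Led Lsl_ft (LP (LK LD1_c4 LD2_c59 LD3_c16)) = (LP (LK LD1_c9 LD2_c47 LD3_c18)) :=
  Lre_f IH (LK LD1_c4 LD2_c59 LD3_c16) (LK LD1_c9 LD2_c47 LD3_c18) Lrfl Lrfl
theorem f78996 : Led Lsl_af (LP (LK LD1_c6 LD2_c36 LD3_c20)) = (LP (LK LD1_c9 LD2_c47 LD3_c18)) :=
  Lgr Lrot45 (Lpr_ft (K7.f78994 IH) (Lpr_at (f77303 IH) (Lpr_ft (f40565 IH) (Lpn (LP (LK LD1_c9 LD2_c47 LD3_c18))))))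
theorem f40413 : Led Lsl_gt (LP (LK LD1_c4 LD2_c59 LD3_c16)) = (LP (LK LD1_c9 LD2_c48 LD3_c55)) :=
  Lre_g IH (LK LD1_c4 LD2_c59 LD3_c16) (LK LD1_c9 LD2_c48 LD3_c55) Lrfl Lrfl
theorem f79015 : Led Lsl_gf (LP (LK LD1_c6 LD2_c36 LD3_c20)) = (LP (LK LD1_c9 LD2_c48 LD3_c55)) :=
  Lgr Lrot76 (Lpr_af (f78996 IH) (Lpe (f40565 IH) (Lpr_gt (f40413 IH) (Lpn (LP (LK LD1_c9 LD2_c48 LD3_c55))))))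
theorem f79017 : Led Lsl_dt (LP (LK LD1_c17 LD2_c59 LD3_c13)) = (LP (LK LD1_c9 LD2_c48 LD3_c55)) :=
  Lre_d IH (LK LD1_c17 LD2_c59 LD3_c13) (LK LD1_c9 LD2_c48 LD3_c55) Lrfl Lrfl
theorem f202447 : Led Lsl_gt (LP (LK LD1_c17 LD2_c11 LD3_c16)) = (LP (LK LD1_c17 LD2_c59 LD3_c13)) :=
  Lgr Lrot94 (Lpe (K11.f74021 IH) (Lpr_gt (f74019 IH) (Lpr_dt (f202443 IH) (Lpr_gt (K7.f14146 IH) (Lpr_dt (K8.f14025 IH) (Lpe (K11.f14032 IH) (Lpe (f79004 IH) (Lpr_gf (f79015 IH) (Lpe (f79017 IH) (Lpn (LP (LK LD1_c17 LD2_c59 LD3_c13))))))))))))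
theorem f72913 : Led Lsl_ft (LP (LK LD1_c17 LD2_c11 LD3_c16)) = (LP (LK LD1_c11 LD2_c58 LD3_c44)) :=
  Lre_f IH (LK LD1_c17 LD2_c11 LD3_c16) (LK LD1_c11 LD2_c58 LD3_c44) Lrfl Lrfl
theorem f76423 : Led Lsl_af (LP (LK LD1_c17 LD2_c11 LD3_c16)) = (LP (LK LD1_c12 LD2_c12 LD3_c36)) :=
  Lgr Lrot68 (Lpr_ct (K2.f58404 IH) (Lpe (K2.f75211 IH) (Lpr_ct (K2.f76419 IH) (Lpn (LP (LK LD1_c12 LD2_c12 LD3_c36))))))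
theorem f76515 : Led Lsl_at (LP (LK LD1_c11 LD2_c58 LD3_c44)) = (LP (LK LD1_c12 LD2_c12 LD3_c53)) :=
  Lgr Lrot66 (Lpe (f72913 IH) (Lpr_af (f76423 IH) (Lpr_ff (K4.f76501 IH) (Lpn (LP (LK LD1_c12 LD2_c12 LD3_c53))))))
theorem f202451 : Led Lsl_gf (LP (LK LD1_c12 LD2_c12 LD3_c53)) = (LP (LK LD1_c17 LD2_c59 LD3_c13)) :=
  Lgr Lrot76 (Lpe (f76515 IH) (Lpe (f72913 IH) (Lpr_gt (f202447 IH) (Lpn (LP (LK LD1_c17 LD2_c59 LD3_c13))))))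
theorem f40535 : Led Lsl_dt (LP (LK LD1_c9 LD2_c48 LD3_c55)) = (LP (LK LD1_c17 LD2_c59 LD3_c13)) :=
  Lre_d IH (LK LD1_c9 LD2_c48 LD3_c55) (LK LD1_c17 LD2_c59 LD3_c13) Lrfl Lrfl
theorem f440870 : Led Lsl_dt (LP (LK LD1_c6 LD2_c49 LD3_c38)) = (LP (LK LD1_c12 LD2_c27 LD3_c40)) :=
  Lgr Lrot57 (Lpe (K6.f40560 IH) (Lpr_cf (K6.f40529 IH) (Lpr_gt (f40413 IH) (Lpr_dt (f40535 IH) (Lpe (f202451 IH) (Lpe (f76478 IH) (Lpe (K4.f67017 IH) (Lpr_df (K4.f66874 IH) (Lpr_gf (f440868 IH) (Lpn (LP (LK LD1_c12 LD2_c27 LD3_c40))))))))))))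
theorem f203400 : Led Lsl_at (LP (LK LD1_c3 LD2_c7 LD3_c17)) = (LP (LK LD1_c6 LD2_c2 LD3_c11)) :=
  Lgr Lrot51 (Lpe (K11.f152475 IH) (Lpr_af (K11.f203398 IH) (Lpe (K11.f64594 IH) (Lpn (LP (LK LD1_c6 LD2_c2 LD3_c11))))))
theorem f131562 : Led Lsl_bt (LP (LK LD1_c2 LD2_c19 LD3_c7)) = (LP (LK LD1_c4 LD2_c43 LD3_c2)) :=
  Lre_b IH (LK LD1_c2 LD2_c19 LD3_c7) (LK LD1_c4 LD2_c43 LD3_c2) Lrfl Lrfl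
theorem f152443 : Led Lsl_ft (LP (LK LD1_c4 LD2_c43 LD3_c2)) = (LP (LK LD1_c3 LD2_c7 LD3_c17)) :=
  Lgr Lrot75 (Lpe (f131562 IH) (Lpr_ff (K7.f152424 IH) (Lpe (K11.f152442 IH) (Lpn (LP (LK LD1_c3 LD2_c7 LD3_c17))))))
theorem f131563 : Led Lsl_gt (LP (LK LD1_c4 LD2_c43 LD3_c2)) = (LP (LK LD1_c9 LD2_c19 LD3_c53)) :=
  Lre_g IH (LK LD1_c4 LD2_c43 LD3_c2) (LK LD1_c9 LD2_c19 LD3_c53) Lrfl Lrfl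
theorem f420218 : Led Lsl_gt (LP (LK LD1_c9 LD2_c19 LD3_c53)) = (LP (LK LD1_c6 LD2_c2 LD3_c11)) :=
  Lgr Lrot46 (Lpe (f131563 IH) (Lpr_ft (f152443 IH) (Lpr_at (f203400 IH) (Lpn (LP (LK LD1_c6 LD2_c2 LD3_c11))))))
theorem f130348 : Led Lsl_ct (LP (LK LD1_c9 LD2_c49 LD3_c29)) = (LP (LK LD1_c7 LD2_c30 LD3_c39)) :=
  Lgr Lrot59 (Lpr_cf (K8.f130344 IH) (Lpn (LP (LK LD1_c7 LD2_c30 LD3_c39))))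
theorem f130346 : Led Lsl_bt (LP (LK LD1_c9 LD2_c49 LD3_c29)) = (LP (LK LD1_c7 LD2_c43 LD3_c3)) :=
  Lgr Lrot128 (Lpr_cf (K8.f130344 IH) (Lpe (K8.f95282 IH) (Lpr_cf (K2.f95279 IH) (Lpe (K4.f17140 IH) (Lpe (K7.f17141 IH) (Lpn (LP (LK LD1_c7 LD2_c43 LD3_c3))))))))
theorem f93392 : Led Lsl_bt (LP (LK LD1_c14 LD2_c11 LD3_c31)) = (LP (LK LD1_c7 LD2_c32 LD3_c46)) :=
  Lgr Lrot128 (Lpe (K6.f93391 IH) (Lpe (K6.f93390 IH) (Lpr_cf (K3.f93366 IH) (Lpe (K5.f92756 IH) (Lpe (K5.f92757 IH) (Lpn (LP (LK LD1_c7 LD2_c32 LD3_c46))))))))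
theorem f203547 : Led Lsl_bt (LP (LK LD1_c12 LD2_c38 LD3_c38)) = (LP (LK LD1_c14 LD2_c6 LD3_c49)) :=
  Lgr Lrot130 (Lpe (K6.f118835 IH) (Lpe (K6.f93388 IH) (Lpe (K6.f93424 IH) (Lpr_bt (f93392 IH) (Lpr_gf (K5.f92759 IH) (Lpe (f130346 IH) (Lpr_ct (f130348 IH) (Lpr_gf (K8.f130364 IH) (Lpe (K28.f79200 IH) (Lpr_gf (K28.f203541 IH) (Lpn (LP (LK LD1_c14 LD2_c6 LD3_c49)))))))))))))
theorem f203551 : Led Lsl_df (LP (LK LD1_c12 LD2_c38 LD3_c38)) = (LP (LK LD1_c14 LD2_c4 LD3_c48)) :=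
  Lgr Lrot12 (Lpr_bt (f203547 IH) (Lpr_dt (K28.f123650 IH) (Lpr_bt (K8.f148122 IH) (Lpn (LP (LK LD1_c14 LD2_c4 LD3_c48))))))
theorem f420222 : Led Lsl_bf (LP (LK LD1_c9 LD2_c19 LD3_c53)) = (LP (LK LD1_c14 LD2_c11 LD3_c30)) :=
  Lgr Lrot184 (Lpr_gt (f420218 IH) (Lpr_dt (K11.f64594 IH) (Lpe (K11.f160830 IH) (Lpr_bt (K11.f99247 IH) (Lpr_gt (K4.f26454 IH) (Lpr_dt (K4.f99241 IH) (Lpe (K4.f112423 IH) (Lpr_bt (K4.f38247 IH) (Lpr_gt (K6.f112696 IH) (Lpr_dt (K2.f72108 IH) (Lpr_ct (K4.f71825 IH) (Lpe (K4.f35768 IH) (Lpr_gt (K7.f149582 IH) (Lpr_dt (K7.f149581 IH) (Lpr_ct (K7.f137770 IH) (Lpr_bt (K8.f149590 IH) (Lpr_gt (K8.f159008 IH) (Lpe (f203551 IH) (Lpe (K6.f118835 IH) (Lpn (LP (LK LD1_c14 LD2_c11 LD3_c30))))))))))))))))))))))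
theorem f203549 : Led Lsl_bf (LP (LK LD1_c12 LD2_c38 LD3_c38)) = (LP (LK LD1_c14 LD2_c6 LD3_c49)) :=
  Lgr Lrot24 (Lpr_bt (f203547 IH) (Lpn (LP (LK LD1_c14 LD2_c6 LD3_c49))))
theorem f203522 : Led Lsl_bt (LP (LK LD1_c7 LD2_c43 LD3_c10)) = (LP (LK LD1_c14 LD2_c33 LD3_c5)) :=
  Lre_b IH (LK LD1_c7 LD2_c43 LD3_c10) (LK LD1_c14 LD2_c33 LD3_c5) Lrfl Lrfl
theorem f420227 : Led Lsl_ct (LP (LK LD1_c9 LD2_c19 LD3_c53)) = (LP (LK LD1_c7 LD2_c43 LD3_c10)) :=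
  Lgr Lrot83 (Lpr_bf (f420222 IH) (Lpr_cf (K6.f118835 IH) (Lpr_bf (f203549 IH) (Lpe (K28.f203537 IH) (Lpe (f203522 IH) (Lpn (LP (LK LD1_c7 LD2_c43 LD3_c10))))))))
theorem f111388 : Led Lsl_ff (LP (LK LD1_c13 LD2_c6 LD3_c35)) = (LP (LK LD1_c13 LD2_c9 LD3_c1)) :=
  Lgr Lrot23 (Lpr_ct (K8.f96312 IH) (Lpr_ft (K4.f111386 IH) (Lpr_ct (K4.f91288 IH) (Lpn (LP (LK LD1_c13 LD2_c9 LD3_c1))))))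
theorem f113016 : Led Lsl_ff (LP (LK LD1_c12 LD2_c13 LD3_c52)) = (LP (LK LD1_c12 LD2_c29 LD3_c8)) :=
  Lgr Lrot25 (Lpr_bt (K4.f111362 IH) (Lpe (f111388 IH) (Lpr_bt (K28.f112092 IH) (Lpn (LP (LK LD1_c12 LD2_c29 LD3_c8))))))
theorem f113018 : Led Lsl_ft (LP (LK LD1_c12 LD2_c13 LD3_c52)) = (LP (LK LD1_c12 LD2_c29 LD3_c8)) :=
  Lgr Lrot48 (Lpr_ff (f113016 IH) (Lpn (LP (LK LD1_c12 LD2_c29 LD3_c8))))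
theorem f419292 : Led Lsl_ff (LP (LK LD1_c6 LD2_c56 LD3_c37)) = (LP (LK LD1_c7 LD2_c43 LD3_c10)) :=
  Lgr Lrot19 (Lpr_dt (K28.f419282 IH) (Lpr_ft (f113018 IH) (Lpe (K11.f203520 IH) (Lpn (LP (LK LD1_c7 LD2_c43 LD3_c10))))))
theorem f419296 : Led Lsl_ft (LP (LK LD1_c6 LD2_c56 LD3_c37)) = (LP (LK LD1_c7 LD2_c43 LD3_c10)) :=
  Lgr Lrot48 (Lpr_ff (f419292 IH) (Lpn (LP (LK LD1_c7 LD2_c43 LD3_c10))))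
theorem f12036 : Led Lsl_gt (LP (LK LD1_c3 LD2_c27 LD3_c19)) = (LP (LK LD1_c6 LD2_c56 LD3_c36)) :=
  Lre_g IH (LK LD1_c3 LD2_c27 LD3_c19) (LK LD1_c6 LD2_c56 LD3_c36) Lrfl Lrfl
theorem f419302 : Led Lsl_af (LP (LK LD1_c6 LD2_c56 LD3_c36)) = (LP (LK LD1_c7 LD2_c43 LD3_c10)) :=
  Lgr Lrot31 (Lpe (f12036 IH) (Lpe (K7.f15555 IH) (Lpr_ft (f419296 IH) (Lpn (LP (LK LD1_c7 LD2_c43 LD3_c10))))))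
theorem f152471 : Led Lsl_gt (LP (LK LD1_c6 LD2_c19 LD3_c35)) = (LP (LK LD1_c3 LD2_c7 LD3_c17)) :=
  Lre_g IH (LK LD1_c6 LD2_c19 LD3_c35) (LK LD1_c3 LD2_c7 LD3_c17) Lrfl Lrfl
theorem f155799 : Led Lsl_gf (LP (LK LD1_c17 LD2_c7 LD3_c21)) = (LP (LK LD1_c22 LD2_c11 LD3_c3)) :=
  Lgr Lrot129 (Lpr_cf (K11.f155797 IH) (Lpr_bt (K11.f61172 IH) (Lpe (K7.f152523 IH) (Lpr_bf (K7.f91360 IH) (Lpr_ct (K2.f69277 IH) (Lpr_gt (K2.f9805 IH) (Lpe (K0.f14980 IH) (Lpr_bt (K4.f40418 IH) (Lpr_gt (K6.f72604 IH) (Lpr_ct (K6.f14090 IH) (Lpn (LP (LK LD1_c22 LD2_c11 LD3_c3)))))))))))))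
theorem f203415 : Led Lsl_cf (LP (LK LD1_c6 LD2_c19 LD3_c35)) = (LP (LK LD1_c6 LD2_c56 LD3_c36)) :=
  Lgr Lrot169 (Lpr_gt (f152471 IH) (Lpr_ct (K11.f203408 IH) (Lpe (K11.f61179 IH) (Lpe (K11.f155794 IH) (Lpr_gf (f155799 IH) (Lpe (K6.f14090 IH) (Lpe (K6.f72604 IH) (Lpe (K4.f15540 IH) (Lpr_gt (f12036 IH) (Lpn (LP (LK LD1_c6 LD2_c56 LD3_c36))))))))))))
theorem f420234 : Led Lsl_af (LP (LK LD1_c9 LD2_c19 LD3_c53)) = (LP (LK LD1_c6 LD2_c19 LD3_c35)) :=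
  Lgr Lrot68 (Lpr_ct (f420227 IH) (Lpe (f419302 IH) (Lpe (f203415 IH) (Lpn (LP (LK LD1_c6 LD2_c19 LD3_c35))))))
theorem f131571 : Led Lsl_gt (LP (LK LD1_c9 LD2_c19 LD3_c54)) = (LP (LK LD1_c4 LD2_c43 LD3_c2)) :=
  Lre_g IH (LK LD1_c9 LD2_c19 LD3_c54) (LK LD1_c4 LD2_c43 LD3_c2) Lrfl Lrfl
theorem f420250 : Led Lsl_ft (LP (LK LD1_c9 LD2_c19 LD3_c54)) = (LP (LK LD1_c6 LD2_c19 LD3_c35)) :=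
  Lgr Lrot2 (Lpr_gt (f131571 IH) (Lpr_gt (f131563 IH) (Lpr_af (f420234 IH) (Lpn (LP (LK LD1_c6 LD2_c19 LD3_c35))))))
theorem f420135 : Led Lsl_ct (LP (LK LD1_c6 LD2_c19 LD3_c35)) = (LP (LK LD1_c6 LD2_c56 LD3_c36)) :=
  Lgr Lrot59 (Lpr_cf (f203415 IH) (Lpn (LP (LK LD1_c6 LD2_c56 LD3_c36))))
theorem f113020 : Led Lsl_at (LP (LK LD1_c12 LD2_c13 LD3_c52)) = (LP (LK LD1_c12 LD2_c29 LD3_c7)) :=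
  Lgr Lrot26 (Lpr_ff (f113016 IH) (Lpr_gt (K11.f66736 IH) (Lpr_gt (K11.f66735 IH) (Lpn (LP (LK LD1_c12 LD2_c29 LD3_c7))))))
theorem f419286 : Led Lsl_af (LP (LK LD1_c6 LD2_c56 LD3_c37)) = (LP (LK LD1_c7 LD2_c43 LD3_c9)) :=
  Lgr Lrot117 (Lpr_dt (K28.f419282 IH) (Lpr_at (f113020 IH) (Lpe (K11.f204064 IH) (Lpn (LP (LK LD1_c7 LD2_c43 LD3_c9))))))
theorem f419309 : Led Lsl_ft (LP (LK LD1_c6 LD2_c56 LD3_c36)) = (LP (LK LD1_c7 LD2_c43 LD3_c9)) :=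
  Lgr Lrot101 (Lpr_af (f419302 IH) (Lpe (f419296 IH) (Lpr_af (f419286 IH) (Lpn (LP (LK LD1_c7 LD2_c43 LD3_c9))))))
theorem f420256 : Led Lsl_cf (LP (LK LD1_c9 LD2_c19 LD3_c54)) = (LP (LK LD1_c7 LD2_c43 LD3_c9)) :=
  Lgr Lrot108 (Lpr_ft (f420250 IH) (Lpr_ct (f420135 IH) (Lpr_ft (f419309 IH) (Lpn (LP (LK LD1_c7 LD2_c43 LD3_c9))))))
theorem f150451 : Led Lsl_bt (LP (LK LD1_c9 LD2_c12 LD3_c47)) = (LP (LK LD1_c4 LD2_c38 LD3_c28)) :=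
  Lre_b IH (LK LD1_c9 LD2_c12 LD3_c47) (LK LD1_c4 LD2_c38 LD3_c28) Lrfl Lrfl
theorem f150453 : Led Lsl_af (LP (LK LD1_c9 LD2_c12 LD3_c47)) = (LP (LK LD1_c4 LD2_c43 LD3_c2)) :=
  Lgr Lrot36 (Lpr_bt (f150451 IH) (Lpr_at (K8.f26865 IH) (Lpr_bt (K8.f150449 IH) (Lpr_at (K7.f150452 IH) (Lpr_bt (f131562 IH) (Lpn (LP (LK LD1_c4 LD2_c43 LD3_c2))))))))
theorem f150583 : Led Lsl_at (LP (LK LD1_c9 LD2_c12 LD3_c47)) = (LP (LK LD1_c4 LD2_c43 LD3_c2)) :=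
  Lgr Lrot100 (Lpr_af (f150453 IH) (Lpn (LP (LK LD1_c4 LD2_c43 LD3_c2))))
theorem f204135 : Led Lsl_dt (LP (LK LD1_c4 LD2_c43 LD3_c2)) = (LP (LK LD1_c9 LD2_c18 LD3_c13)) :=
  Lgr Lrot44 (Lpe (f150583 IH) (Lpr_df (K11.f204093 IH) (Lpe (K11.f203403 IH) (Lpn (LP (LK LD1_c9 LD2_c18 LD3_c13))))))
theorem f440883 : Led Lsl_dt (LP (LK LD1_c12 LD2_c27 LD3_c41)) = (LP (LK LD1_c6 LD2_c28 LD3_c11)) :=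
  Lre_d IH (LK LD1_c12 LD2_c27 LD3_c41) (LK LD1_c6 LD2_c28 LD3_c11) Lrfl Lrfl
theorem f440884 : Led Lsl_gt (LP (LK LD1_c9 LD2_c18 LD3_c13)) = (LP (LK LD1_c12 LD2_c27 LD3_c41)) :=
  Lgr Lrot49 (Lpe (f204135 IH) (Lpe (f131571 IH) (Lpr_cf (f420256 IH) (Lpr_gt (K11.f17160 IH) (Lpe (K11.f40555 IH) (Lpr_gt (K6.f40560 IH) (Lpr_dt (f440870 IH) (Lpe (f440867 IH) (Lpe (f440883 IH) (Lpn (LP (LK LD1_c12 LD2_c27 LD3_c41))))))))))))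
theorem f150586 : Led Lsl_bt (LP (LK LD1_c4 LD2_c43 LD3_c2)) = (LP (LK LD1_c2 LD2_c19 LD3_c7)) :=
  Lre_b IH (LK LD1_c4 LD2_c43 LD3_c2) (LK LD1_c2 LD2_c19 LD3_c7) Lrfl Lrfl
theorem f152396 : Led Lsl_df (LP (LK LD1_c4 LD2_c43 LD3_c2)) = (LP (LK LD1_c9 LD2_c18 LD3_c13)) :=
  Lgr Lrot12 (Lpr_bt (f150586 IH) (Lpr_dt (K7.f152392 IH) (Lpr_bt (K8.f61155 IH) (Lpn (LP (LK LD1_c9 LD2_c18 LD3_c13))))))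
theorem f440890 : Led Lsl_cf (LP (LK LD1_c9 LD2_c21 LD3_c43)) = (LP (LK LD1_c12 LD2_c27 LD3_c41)) :=
  Lgr Lrot169 (Lpr_gt (K8.f40587 IH) (Lpr_ct (K7.f15574 IH) (Lpe (K6.f14135 IH) (Lpe (K6.f14136 IH) (Lpe (K11.f15569 IH) (Lpe (f420227 IH) (Lpe (f131563 IH) (Lpr_df (f152396 IH) (Lpr_gt (f440884 IH) (Lpn (LP (LK LD1_c12 LD2_c27 LD3_c41))))))))))))
theorem f40582 : Led Lsl_bt (LP (LK LD1_c3 LD2_c15 LD3_c7)) = (LP (LK LD1_c1 LD2_c34 LD3_c13)) :=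
  Lre_b IH (LK LD1_c3 LD2_c15 LD3_c7) (LK LD1_c1 LD2_c34 LD3_c13) Lrfl Lrfl
theorem f93369 : Led Lsl_gt (LP (LK LD1_c3 LD2_c45 LD3_c9)) = (LP (LK LD1_c7 LD2_c31 LD3_c3)) :=
  Lre_g IH (LK LD1_c3 LD2_c45 LD3_c9) (LK LD1_c7 LD2_c31 LD3_c3) Lrfl Lrfl
theorem f440904 : Led Lsl_bf (LP (LK LD1_c7 LD2_c31 LD3_c3)) = (LP (LK LD1_c12 LD2_c27 LD3_c41)) :=
  Lgr Lrot34 (Lpe (f93369 IH) (Lpe (K8.f62655 IH) (Lpr_ct (K5.f62312 IH) (Lpr_gf (K3.f93363 IH) (Lpr_cf (K1.f64478 IH) (Lpe (K1.f40583 IH) (Lpe (f40582 IH) (Lpr_ct (K6.f14134 IH) (Lpe (K8.f40587 IH) (Lpr_cf (f440890 IH) (Lpn (LP (LK LD1_c12 LD2_c27 LD3_c41)))))))))))))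
theorem f144033 : Led Lsl_dt (LP (LK LD1_c6 LD2_c28 LD3_c11)) = (LP (LK LD1_c12 LD2_c27 LD3_c41)) :=
  Lre_d IH (LK LD1_c6 LD2_c28 LD3_c11) (LK LD1_c12 LD2_c27 LD3_c41) Lrfl Lrfl
theorem f440866 : Led Lsl_bt (LP (LK LD1_c12 LD2_c27 LD3_c39)) = (LP (LK LD1_c6 LD2_c28 LD3_c11)) :=
  Lre_b IH (LK LD1_c12 LD2_c27 LD3_c39) (LK LD1_c6 LD2_c28 LD3_c11) Lrfl Lrfl
theorem f440906 : Led Lsl_dt (LP (LK LD1_c7 LD2_c31 LD3_c3)) = (LP (LK LD1_c12 LD2_c27 LD3_c39)) :=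
  Lgr Lrot79 (Lpr_bf (f440904 IH) (Lpe (f144033 IH) (Lpe (f440866 IH) (Lpn (LP (LK LD1_c12 LD2_c27 LD3_c39))))))
theorem f141526 : Led Lsl_gt (LP (LK LD1_c14 LD2_c11 LD3_c31)) = (LP (LK LD1_c9 LD2_c49 LD3_c7)) :=
  Lgr Lrot5 (Lpr_ft (K6.f141520 IH) (Lpe (K6.f141447 IH) (Lpe (K6.f81967 IH) (Lpn (LP (LK LD1_c9 LD2_c49 LD3_c7))))))
theorem f79436 : Led Lsl_bt (LP (LK LD1_c12 LD2_c38 LD3_c39)) = (LP (LK LD1_c6 LD2_c36 LD3_c24)) :=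
  Lre_b IH (LK LD1_c12 LD2_c38 LD3_c39) (LK LD1_c6 LD2_c36 LD3_c24) Lrfl Lrfl
theorem f111007 : Led Lsl_gt (LP (LK LD1_c12 LD2_c36 LD3_c53)) = (LP (LK LD1_c6 LD2_c35 LD3_c26)) :=
  Lre_g IH (LK LD1_c12 LD2_c36 LD3_c53) (LK LD1_c6 LD2_c35 LD3_c26) Lrfl Lrfl
theorem f119641 : Led Lsl_gt (LP (LK LD1_c6 LD2_c36 LD3_c24)) = (LP (LK LD1_c12 LD2_c36 LD3_c53)) :=
  Lgr Lrot5 (Lpe (K4.f117705 IH) (Lpr_at (K4.f117897 IH) (Lpe (f111007 IH) (Lpn (LP (LK LD1_c12 LD2_c36 LD3_c53))))))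
theorem f419811 : Led Lsl_ct (LP (LK LD1_c14 LD2_c12 LD3_c25)) = (LP (LK LD1_c7 LD2_c31 LD3_c57)) :=
  Lre_c IH (LK LD1_c14 LD2_c12 LD3_c25) (LK LD1_c7 LD2_c31 LD3_c57) Lrfl Lrfl
theorem f419847 : Led Lsl_bf (LP (LK LD1_c12 LD2_c36 LD3_c53)) = (LP (LK LD1_c14 LD2_c12 LD3_c25)) :=
  Lgr Lrot34 (Lpe (f119641 IH) (Lpe (f79436 IH) (Lpr_ct (K8.f118775 IH) (Lpe (K6.f71957 IH) (Lpe (K8.f81986 IH) (Lpe (f141526 IH) (Lpr_bf (K6.f93425 IH) (Lpr_ct (K5.f92757 IH) (Lpr_gf (f419843 IH) (Lpe (f419811 IH) (Lpn (LP (LK LD1_c14 LD2_c12 LD3_c25)))))))))))))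
theorem f419812 : Led Lsl_ct (LP (LK LD1_c7 LD2_c31 LD3_c57)) = (LP (LK LD1_c14 LD2_c12 LD3_c25)) :=
  Lre_c IH (LK LD1_c7 LD2_c31 LD3_c57) (LK LD1_c14 LD2_c12 LD3_c25) Lrfl Lrfl
theorem f62204 : Led Lsl_bt (LP (LK LD1_c6 LD2_c38 LD3_c13)) = (LP (LK LD1_c3 LD2_c17 LD3_c27)) :=
  Lre_b IH (LK LD1_c6 LD2_c38 LD3_c13) (LK LD1_c3 LD2_c17 LD3_c27) Lrfl Lrfl
theorem f419865 : Led Lsl_ct (LP (LK LD1_c12 LD2_c36 LD3_c53)) = (LP (LK LD1_c6 LD2_c38 LD3_c13)) :=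
  Lgr Lrot83 (Lpr_bf (f419847 IH) (Lpe (f419812 IH) (Lpe (f419823 IH) (Lpe (f62205 IH) (Lpe (f62204 IH) (Lpn (LP (LK LD1_c6 LD2_c38 LD3_c13))))))))
theorem f419871 : Led Lsl_gf (LP (LK LD1_c3 LD2_c17 LD3_c45)) = (LP (LK LD1_c6 LD2_c38 LD3_c13)) :=
  Lgr Lrot148 (Lpr_dt (K8.f116781 IH) (Lpr_gt (K5.f112482 IH) (Lpe (K8.f150351 IH) (Lpr_ct (K8.f158830 IH) (Lpr_df (K7.f119909 IH) (Lpe (K7.f81789 IH) (Lpr_df (K4.f112624 IH) (Lpe (f111007 IH) (Lpr_ct (f419865 IH) (Lpn (LP (LK LD1_c6 LD2_c38 LD3_c13))))))))))))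
theorem f79218 : Led Lsl_gf (LP (LK LD1_c9 LD2_c23 LD3_c12)) = (LP (LK LD1_c6 LD2_c36 LD3_c44)) :=
  Lgr Lrot181 (Lpr_ct (K7.f17123 IH) (Lpr_gt (K3.f17122 IH) (Lpe (K7.f14058 IH) (Lpr_bt (K7.f14353 IH) (Lpr_gt (K4.f14354 IH) (Lpe (K4.f57069 IH) (Lpr_ct (K4.f56849 IH) (Lpr_gt (K7.f75508 IH) (Lpr_cf (K7.f79203 IH) (Lpr_bt (K11.f64583 IH) (Lpn (LP (LK LD1_c6 LD2_c36 LD3_c44)))))))))))))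
theorem f122727 : Led Lsl_at (LP (LK LD1_c3 LD2_c40 LD3_c30)) = (LP (LK LD1_c1 LD2_c47 LD3_c12)) :=
  Lre_a IH (LK LD1_c3 LD2_c40 LD3_c30) (LK LD1_c1 LD2_c47 LD3_c12) Lrfl Lrfl
theorem f203691 : Led Lsl_gf (LP (LK LD1_c1 LD2_c51 LD3_c60)) = (LP (LK LD1_c3 LD2_c42 LD3_c37)) :=
  Lgr Lrot47 (Lpr_gt (K5.f122707 IH) (Lpe (f122727 IH) (Lpr_ff (K28.f203684 IH) (Lpn (LP (LK LD1_c3 LD2_c42 LD3_c37))))))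
theorem f203693 : Led Lsl_gt (LP (LK LD1_c3 LD2_c40 LD3_c29)) = (LP (LK LD1_c3 LD2_c42 LD3_c37)) :=
  Lgr Lrot5 (Lpe (K8.f142530 IH) (Lpr_at (K8.f142619 IH) (Lpr_gf (f203691 IH) (Lpn (LP (LK LD1_c3 LD2_c42 LD3_c37))))))
theorem f203705 : Led Lsl_ct (LP (LK LD1_c7 LD2_c43 LD3_c56)) = (LP (LK LD1_c7 LD2_c34 LD3_c4)) :=
  Lgr Lrot110 (Lpe (K7.f148906 IH) (Lpe (K7.f130582 IH) (Lpr_gf (K7.f148753 IH) (Lpe (K7.f84967 IH) (Lpe (K6.f144865 IH) (Lpr_ct (K6.f136771 IH) (Lpr_gt (f203693 IH) (Lpe (K28.f162877 IH) (Lpr_df (K8.f110281 IH) (Lpn (LP (LK LD1_c7 LD2_c34 LD3_c4))))))))))))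
theorem f144959 : Led Lsl_dt (LP (LK LD1_c3 LD2_c49 LD3_c55)) = (LP (LK LD1_c7 LD2_c40 LD3_c46)) :=
  Lre_d IH (LK LD1_c3 LD2_c49 LD3_c55) (LK LD1_c7 LD2_c40 LD3_c46) Lrfl Lrfl
theorem f128499 : Led Lsl_dt (LP (LK LD1_c3 LD2_c12 LD3_c17)) = (LP (LK LD1_c6 LD2_c28 LD3_c40)) :=
  Lre_d IH (LK LD1_c3 LD2_c12 LD3_c17) (LK LD1_c6 LD2_c28 LD3_c40) Lrfl Lrfl
theorem f128816 : Led Lsl_df (LP (LK LD1_c3 LD2_c7 LD3_c12)) = (LP (LK LD1_c3 LD2_c17 LD3_c29)) :=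
  Lgr Lrot78 (Lpr_ft (K5.f128494 IH) (Lpr_dt (f128499 IH) (Lpr_ft (K5.f128810 IH) (Lpn (LP (LK LD1_c3 LD2_c17 LD3_c29))))))
theorem f110501 : Led Lsl_dt (LP (LK LD1_c4 LD2_c44 LD3_c40)) = (LP (LK LD1_c9 LD2_c22 LD3_c3)) :=
  Lre_d IH (LK LD1_c4 LD2_c44 LD3_c40) (LK LD1_c9 LD2_c22 LD3_c3) Lrfl Lrfl
theorem f144844 : Led Lsl_dt (LP (LK LD1_c7 LD2_c40 LD3_c46)) = (LP (LK LD1_c3 LD2_c49 LD3_c55)) :=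
  Lre_d IH (LK LD1_c7 LD2_c40 LD3_c46) (LK LD1_c3 LD2_c49 LD3_c55) Lrfl Lrfl
theorem f151458 : Led Lsl_ct (LP (LK LD1_c9 LD2_c22 LD3_c3)) = (LP (LK LD1_c7 LD2_c40 LD3_c46)) :=
  Lgr Lrot53 (Lpe (f110501 IH) (Lpr_cf (K5.f110492 IH) (Lpr_df (f128816 IH) (Lpr_cf (K7.f151451 IH) (Lpe (K8.f122730 IH) (Lpe (K6.f144835 IH) (Lpr_at (K6.f144842 IH) (Lpe (K6.f96389 IH) (Lpe (f144844 IH) (Lpn (LP (LK LD1_c7 LD2_c40 LD3_c46))))))))))))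
theorem f75406 : Led Lsl_bt (LP (LK LD1_c4 LD2_c59 LD3_c34)) = (LP (LK LD1_c9 LD2_c49 LD3_c31)) :=
  Lre_b IH (LK LD1_c4 LD2_c59 LD3_c34) (LK LD1_c9 LD2_c49 LD3_c31) Lrfl Lrfl
theorem f75143 : Led Lsl_bt (LP (LK LD1_c6 LD2_c0 LD3_c31)) = (LP (LK LD1_c2 LD2_c56 LD3_c32)) :=
  Lre_b IH (LK LD1_c6 LD2_c0 LD3_c31) (LK LD1_c2 LD2_c56 LD3_c32) Lrfl Lrfl
theorem f75407 : Led Lsl_ct (LP (LK LD1_c11 LD2_c45 LD3_c23)) = (LP (LK LD1_c6 LD2_c0 LD3_c31)) :=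
  Lre_c IH (LK LD1_c11 LD2_c45 LD3_c23) (LK LD1_c6 LD2_c0 LD3_c31) Lrfl Lrfl
theorem f155729 : Led Lsl_bt (LP (LK LD1_c7 LD2_c22 LD3_c44)) = (LP (LK LD1_c11 LD2_c45 LD3_c23)) :=
  Lgr Lrot128 (Lpr_cf (f155621 IH) (Lpe (f75406 IH) (Lpr_cf (K8.f75400 IH) (Lpe (f75143 IH) (Lpe (f75407 IH) (Lpn (LP (LK LD1_c11 LD2_c45 LD3_c23))))))))
theorem f155733 : Led Lsl_df (LP (LK LD1_c7 LD2_c22 LD3_c42)) = (LP (LK LD1_c11 LD2_c45 LD3_c23)) :=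
  Lgr Lrot12 (Lpr_bt (K4.f116521 IH) (Lpr_dt (K7.f116528 IH) (Lpr_bt (f155729 IH) (Lpn (LP (LK LD1_c11 LD2_c45 LD3_c23))))))
theorem f155741 : Led Lsl_dt (LP (LK LD1_c7 LD2_c22 LD3_c42)) = (LP (LK LD1_c11 LD2_c45 LD3_c23)) :=
  Lgr Lrot42 (Lpr_df (f155733 IH) (Lpn (LP (LK LD1_c11 LD2_c45 LD3_c23))))
theorem f65179 : Led Lsl_df (LP (LK LD1_c1 LD2_c52 LD3_c28)) = (LP (LK LD1_c3 LD2_c15 LD3_c23)) :=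
  Lgr Lrot12 (Lpr_bt (K7.f14676 IH) (Lpr_dt (K1.f65175 IH) (Lpr_bt (K4.f65178 IH) (Lpn (LP (LK LD1_c3 LD2_c15 LD3_c23))))))
theorem f155747 : Led Lsl_gf (LP (LK LD1_c7 LD2_c40 LD3_c46)) = (LP (LK LD1_c11 LD2_c45 LD3_c23)) :=
  Lgr Lrot143 (Lpr_dt (f144844 IH) (Lpe (K6.f96334 IH) (Lpe (K7.f144858 IH) (Lpe (K7.f148755 IH) (Lpr_df (f65179 IH) (Lpe (K4.f65362 IH) (Lpr_cf (K7.f147782 IH) (Lpr_gt (K7.f151481 IH) (Lpr_dt (f155741 IH) (Lpn (LP (LK LD1_c11 LD2_c45 LD3_c23))))))))))))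
theorem f102233 : Led Lsl_bt (LP (LK LD1_c9 LD2_c22 LD3_c3)) = (LP (LK LD1_c4 LD2_c44 LD3_c41)) :=
  Lre_b IH (LK LD1_c9 LD2_c22 LD3_c3) (LK LD1_c4 LD2_c44 LD3_c41) Lrfl Lrfl
theorem f144996 : Led Lsl_ct (LP (LK LD1_c7 LD2_c40 LD3_c46)) = (LP (LK LD1_c9 LD2_c22 LD3_c3)) :=
  Lgr Lrot191 (Lpe (f144959 IH) (Lpe (K6.f144867 IH) (Lpr_bf (K6.f144964 IH) (Lpe (K5.f126477 IH) (Lpe (K5.f126484 IH) (Lpr_gf (K5.f126488 IH) (Lpe (K2.f95559 IH) (Lpe (K2.f91963 IH) (Lpe (K2.f91969 IH) (Lpr_gf (K3.f95557 IH) (Lpe (K3.f24326 IH) (Lpe (K3.f24327 IH) (Lpe (K4.f26148 IH) (Lpe (K4.f113341 IH) (Lpe (K4.f102164 IH) (Lpe (K4.f13747 IH) (Lpe (K3.f101919 IH) (Lpr_gf (K3.f102168 IH) (Lpe (f102233 IH) (Lpn (LP (LK LD1_c9 LD2_c22 LD3_c3))))))))))))))))))))))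
theorem f155749 : Led Lsl_gf (LP (LK LD1_c13 LD2_c54 LD3_c2)) = (LP (LK LD1_c9 LD2_c22 LD3_c3)) :=
  Lgr Lrot172 (Lpr_ct (K7.f148713 IH) (Lpe (K7.f148706 IH) (Lpe (K28.f137053 IH) (Lpe (K4.f115814 IH) (Lpe (f111115 IH) (Lpr_gf (K24.f122114 IH) (Lpr_dt (f155741 IH) (Lpe (f155747 IH) (Lpr_ct (f144996 IH) (Lpn (LP (LK LD1_c9 LD2_c22 LD3_c3))))))))))))
theorem f155752 : Led Lsl_gt (LP (LK LD1_c13 LD2_c52 LD3_c61)) = (LP (LK LD1_c9 LD2_c22 LD3_c3)) :=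
  Lgr Lrot5 (Lpe (K7.f147947 IH) (Lpr_at (K7.f148723 IH) (Lpr_gf (f155749 IH) (Lpn (LP (LK LD1_c9 LD2_c22 LD3_c3))))))
theorem f203695 : Led Lsl_gf (LP (LK LD1_c7 LD2_c20 LD3_c29)) = (LP (LK LD1_c7 LD2_c25 LD3_c50)) :=
  Lgr Lrot147 (Lpr_ct (K7.f146816 IH) (Lpr_gt (f155752 IH) (Lpr_ct (f151458 IH) (Lpe (f144959 IH) (Lpe (K6.f96334 IH) (Lpe (K6.f84966 IH) (Lpe (K5.f84929 IH) (Lpr_gf (f203691 IH) (Lpe (K28.f162891 IH) (Lpn (LP (LK LD1_c7 LD2_c25 LD3_c50))))))))))))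
theorem f147938 : Led Lsl_at (LP (LK LD1_c7 LD2_c25 LD3_c52)) = (LP (LK LD1_c7 LD2_c20 LD3_c29)) :=
  Lgr Lrot100 (Lpr_af (K7.f147902 IH) (Lpn (LP (LK LD1_c7 LD2_c20 LD3_c29))))
theorem f203699 : Led Lsl_gt (LP (LK LD1_c7 LD2_c21 LD3_c10)) = (LP (LK LD1_c7 LD2_c25 LD3_c50)) :=
  Lgr Lrot5 (Lpe (K7.f148709 IH) (Lpr_at (f147938 IH) (Lpr_gf (f203695 IH) (Lpn (LP (LK LD1_c7 LD2_c25 LD3_c50))))))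
theorem f148716 : Led Lsl_dt (LP (LK LD1_c3 LD2_c41 LD3_c0)) = (LP (LK LD1_c7 LD2_c21 LD3_c10)) :=
  Lgr Lrot60 (Lpe (K6.f137055 IH) (Lpe (K7.f146705 IH) (Lpr_ff (K7.f148709 IH) (Lpn (LP (LK LD1_c7 LD2_c21 LD3_c10))))))
theorem f203703 : Led Lsl_gt (LP (LK LD1_c6 LD2_c38 LD3_c18)) = (LP (LK LD1_c7 LD2_c34 LD3_c4)) :=
  Lgr Lrot49 (Lpe (f151384 IH) (Lpe (K4.f111076 IH) (Lpe (K4.f122058 IH) (Lpr_gt (K6.f108790 IH) (Lpr_dt (f148716 IH) (Lpr_gt (f203699 IH) (Lpr_dt (K28.f162891 IH) (Lpe (K28.f203686 IH) (Lpr_df (K8.f110281 IH) (Lpn (LP (LK LD1_c7 LD2_c34 LD3_c4))))))))))))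
theorem f123472 : Led Lsl_ct (LP (LK LD1_c3 LD2_c17 LD3_c28)) = (LP (LK LD1_c6 LD2_c38 LD3_c18)) :=
  Lre_c IH (LK LD1_c3 LD2_c17 LD3_c28) (LK LD1_c6 LD2_c38 LD3_c18) Lrfl Lrfl
theorem f128823 : Led Lsl_gt (LP (LK LD1_c6 LD2_c28 LD3_c40)) = (LP (LK LD1_c3 LD2_c17 LD3_c28)) :=
  Lgr Lrot5 (Lpr_ft (K5.f128810 IH) (Lpr_at (K5.f93439 IH) (Lpe (K7.f62201 IH) (Lpn (LP (LK LD1_c3 LD2_c17 LD3_c28))))))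
theorem f203405 : Led Lsl_gf (LP (LK LD1_c6 LD2_c19 LD3_c36)) = (LP (LK LD1_c9 LD2_c23 LD3_c12)) :=
  Lgr Lrot76 (Lpr_af (K11.f203398 IH) (Lpr_ff (K11.f64584 IH) (Lpe (f79218 IH) (Lpn (LP (LK LD1_c9 LD2_c23 LD3_c12))))))
theorem f203711 : Led Lsl_bt (LP (LK LD1_c7 LD2_c43 LD3_c56)) = (LP (LK LD1_c9 LD2_c23 LD3_c12)) :=
  Lgr Lrot22 (Lpr_ct (f203705 IH) (Lpe (f203703 IH) (Lpe (f123472 IH) (Lpe (f128823 IH) (Lpe (K5.f128815 IH) (Lpr_ct (K8.f155521 IH) (Lpe (K8.f69151 IH) (Lpr_cf (K7.f152451 IH) (Lpr_bt (K7.f152467 IH) (Lpr_gf (f203405 IH) (Lpn (LP (LK LD1_c9 LD2_c23 LD3_c12)))))))))))))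
theorem f419825 : Led Lsl_bt (LP (LK LD1_c3 LD2_c17 LD3_c27)) = (LP (LK LD1_c6 LD2_c38 LD3_c13)) :=
  Lre_b IH (LK LD1_c3 LD2_c17 LD3_c27) (LK LD1_c6 LD2_c38 LD3_c13) Lrfl Lrfl
theorem f419877 : Led Lsl_gt (LP (LK LD1_c7 LD2_c34 LD3_c4)) = (LP (LK LD1_c6 LD2_c38 LD3_c14)) :=
  Lgr Lrot65 (Lpe (f203705 IH) (Lpr_bt (f203711 IH) (Lpr_gf (f79218 IH) (Lpe (K11.f64583 IH) (Lpe (K7.f79203 IH) (Lpe (K7.f75508 IH) (Lpe (K4.f56849 IH) (Lpr_gf (f419871 IH) (Lpe (f419825 IH) (Lpr_ct (f62205 IH) (Lpn (LP (LK LD1_c6 LD2_c38 LD3_c14)))))))))))))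
theorem f162779 : Led Lsl_dt (LP (LK LD1_c12 LD2_c51 LD3_c33)) = (LP (LK LD1_c7 LD2_c21 LD3_c1)) :=
  Lgr Lrot27 (Lpr_cf (K8.f141611 IH) (Lpr_gf (K8.f146713 IH) (Lpr_cf (K7.f146695 IH) (Lpe (K6.f146697 IH) (Lpe (K4.f116659 IH) (Lpr_gt (K6.f137234 IH) (Lpe (K6.f142525 IH) (Lpr_gt (K8.f162770 IH) (Lpr_ct (K8.f159463 IH) (Lpn (LP (LK LD1_c7 LD2_c21 LD3_c1))))))))))))
theorem f162871 : Led Lsl_ft (LP (LK LD1_c7 LD2_c34 LD3_c4)) = (LP (LK LD1_c12 LD2_c51 LD3_c33)) :=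
  Lgr Lrot54 (Lpe (K8.f110245 IH) (Lpr_ff (K8.f162867 IH) (Lpe (f162779 IH) (Lpn (LP (LK LD1_c12 LD2_c51 LD3_c33))))))
theorem f419881 : Led Lsl_gf (LP (LK LD1_c7 LD2_c21 LD3_c2)) = (LP (LK LD1_c6 LD2_c38 LD3_c14)) :=
  Lgr Lrot76 (Lpr_af (K28.f162896 IH) (Lpe (f162871 IH) (Lpr_gt (f419877 IH) (Lpn (LP (LK LD1_c6 LD2_c38 LD3_c14))))))
theorem f65381 : Led Lsl_gt (LP (LK LD1_c3 LD2_c51 LD3_c15)) = (LP (LK LD1_c7 LD2_c43 LD3_c55)) :=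
  Lre_g IH (LK LD1_c3 LD2_c51 LD3_c15) (LK LD1_c7 LD2_c43 LD3_c55) Lrfl Lrfl
theorem f151425 : Led Lsl_cf (LP (LK LD1_c7 LD2_c21 LD3_c2)) = (LP (LK LD1_c7 LD2_c43 LD3_c55)) :=
  Lgr Lrot99 (Lpe (f122733 IH) (Lpe (K5.f107312 IH) (Lpe (K5.f122707 IH) (Lpe (K5.f14745 IH) (Lpe (K5.f65963 IH) (Lpe (K7.f122732 IH) (Lpr_gt (K7.f151419 IH) (Lpr_ct (K8.f65359 IH) (Lpr_gt (f65381 IH) (Lpn (LP (LK LD1_c7 LD2_c43 LD3_c55))))))))))))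
theorem f62200 : Led Lsl_bt (LP (LK LD1_c0 LD2_c44 LD3_c17)) = (LP (LK LD1_c1 LD2_c35 LD3_c18)) :=
  Lre_b IH (LK LD1_c0 LD2_c44 LD3_c17) (LK LD1_c1 LD2_c35 LD3_c18) Lrfl Lrfl
theorem f419898 : Led Lsl_bt (LP (LK LD1_c7 LD2_c43 LD3_c55)) = (LP (LK LD1_c7 LD2_c31 LD3_c4)) :=
  Lgr Lrot22 (Lpe (f151425 IH) (Lpr_gf (f419881 IH) (Lpe (f62205 IH) (Lpe (f62203 IH) (Lpe (f62200 IH) (Lpe (K1.f62010 IH) (Lpr_gf (K1.f62310 IH) (Lpe (K5.f62312 IH) (Lpr_bt (K8.f62655 IH) (Lpe (f62656 IH) (Lpn (LP (LK LD1_c7 LD2_c31 LD3_c4)))))))))))))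
theorem f419903 : Led Lsl_bf (LP (LK LD1_c7 LD2_c43 LD3_c55)) = (LP (LK LD1_c7 LD2_c31 LD3_c4)) :=
  Lgr Lrot24 (Lpr_bt (f419898 IH) (Lpn (LP (LK LD1_c7 LD2_c31 LD3_c4))))
theorem f151444 : Led Lsl_ct (LP (LK LD1_c7 LD2_c21 LD3_c2)) = (LP (LK LD1_c7 LD2_c43 LD3_c55)) :=
  Lgr Lrot59 (Lpr_cf (f151425 IH) (Lpn (LP (LK LD1_c7 LD2_c43 LD3_c55))))
theorem f162917 : Led Lsl_ft (LP (LK LD1_c7 LD2_c43 LD3_c55)) = (LP (LK LD1_c12 LD2_c39 LD3_c7)) :=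
  Lgr Lrot4 (Lpe (f151444 IH) (Lpr_ff (K8.f162889 IH) (Lpr_cf (K8.f162908 IH) (Lpn (LP (LK LD1_c12 LD2_c39 LD3_c7))))))
theorem f419905 : Led Lsl_ft (LP (LK LD1_c6 LD2_c36 LD3_c38)) = (LP (LK LD1_c7 LD2_c31 LD3_c4)) :=
  Lgr Lrot75 (Lpe (K8.f79136 IH) (Lpe (f162917 IH) (Lpr_bf (f419903 IH) (Lpn (LP (LK LD1_c7 LD2_c31 LD3_c4))))))
theorem f419908 : Led Lsl_ff (LP (LK LD1_c6 LD2_c36 LD3_c38)) = (LP (LK LD1_c7 LD2_c31 LD3_c4)) :=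
  Lgr Lrot3 (Lpr_ft (f419905 IH) (Lpn (LP (LK LD1_c7 LD2_c31 LD3_c4))))
theorem f419917 : Led Lsl_at (LP (LK LD1_c6 LD2_c36 LD3_c38)) = (LP (LK LD1_c7 LD2_c31 LD3_c3)) :=
  Lgr Lrot26 (Lpr_ff (f419908 IH) (Lpr_gt (f62656 IH) (Lpr_gt (f93369 IH) (Lpn (LP (LK LD1_c7 LD2_c31 LD3_c3))))))
theorem f419910 : Led Lsl_af (LP (LK LD1_c6 LD2_c36 LD3_c37)) = (LP (LK LD1_c7 LD2_c31 LD3_c4)) :=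
  Lgr Lrot31 (Lpe (K7.f79123 IH) (Lpe (K8.f79135 IH) (Lpr_ft (f419905 IH) (Lpn (LP (LK LD1_c7 LD2_c31 LD3_c4))))))
theorem f419912 : Led Lsl_at (LP (LK LD1_c6 LD2_c36 LD3_c37)) = (LP (LK LD1_c7 LD2_c31 LD3_c4)) :=
  Lgr Lrot100 (Lpr_af (f419910 IH) (Lpn (LP (LK LD1_c7 LD2_c31 LD3_c4))))
theorem f419926 : Led Lsl_ff (LP (LK LD1_c6 LD2_c36 LD3_c37)) = (LP (LK LD1_c7 LD2_c31 LD3_c3)) :=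
  Lgr Lrot30 (Lpr_at (f419912 IH) (Lpe (f419908 IH) (Lpr_at (f419917 IH) (Lpn (LP (LK LD1_c7 LD2_c31 LD3_c3))))))
theorem f419931 : Led Lsl_ft (LP (LK LD1_c6 LD2_c36 LD3_c37)) = (LP (LK LD1_c7 LD2_c31 LD3_c3)) :=
  Lgr Lrot48 (Lpr_ff (f419926 IH) (Lpn (LP (LK LD1_c7 LD2_c31 LD3_c3))))
theorem f94130 : Led Lsl_dt (LP (LK LD1_c12 LD2_c39 LD3_c6)) = (LP (LK LD1_c6 LD2_c36 LD3_c37)) :=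
  Lre_d IH (LK LD1_c12 LD2_c39 LD3_c6) (LK LD1_c6 LD2_c36 LD3_c37) Lrfl Lrfl
theorem f440917 : Led Lsl_ff (LP (LK LD1_c12 LD2_c39 LD3_c6)) = (LP (LK LD1_c12 LD2_c27 LD3_c39)) :=
  Lgr Lrot19 (Lpr_dt (f94130 IH) (Lpr_ft (f419931 IH) (Lpr_dt (f440906 IH) (Lpn (LP (LK LD1_c12 LD2_c27 LD3_c39))))))
theorem f440873 : Led Lsl_bt (LP (LK LD1_c6 LD2_c28 LD3_c11)) = (LP (LK LD1_c12 LD2_c27 LD3_c39)) :=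
  Lre_b IH (LK LD1_c6 LD2_c28 LD3_c11) (LK LD1_c12 LD2_c27 LD3_c39) Lrfl Lrfl
theorem f440874 : Led Lsl_gt (LP (LK LD1_c6 LD2_c34 LD3_c14)) = (LP (LK LD1_c12 LD2_c27 LD3_c39)) :=
  Lgr Lrot164 (Lpe (K4.f96711 IH) (Lpe (K4.f96714 IH) (Lpe (K2.f17456 IH) (Lpr_cf (K1.f64611 IH) (Lpe (K1.f64259 IH) (Lpe (K4.f64275 IH) (Lpr_ct (K2.f18269 IH) (Lpr_gf (f440868 IH) (Lpe (f440867 IH) (Lpr_bt (f440873 IH) (Lpn (LP (LK LD1_c12 LD2_c27 LD3_c39)))))))))))))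
theorem f65615 : Led Lsl_ct (LP (LK LD1_c12 LD2_c35 LD3_c0)) = (LP (LK LD1_c6 LD2_c34 LD3_c14)) :=
  Lre_c IH (LK LD1_c12 LD2_c35 LD3_c0) (LK LD1_c6 LD2_c34 LD3_c14) Lrfl Lrfl
theorem f111531 : Led Lsl_ff (LP (LK LD1_c6 LD2_c36 LD3_c52)) = (LP (LK LD1_c6 LD2_c34 LD3_c14)) :=
  Lgr Lrot23 (Lpr_ct (f66276 IH) (Lpr_ft (K4.f111529 IH) (Lpr_ct (f65615 IH) (Lpn (LP (LK LD1_c6 LD2_c34 LD3_c14))))))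
theorem f96290 : Led Lsl_at (LP (LK LD1_c6 LD2_c36 LD3_c52)) = (LP (LK LD1_c12 LD2_c39 LD3_c31)) :=
  Lre_a IH (LK LD1_c6 LD2_c36 LD3_c52) (LK LD1_c12 LD2_c39 LD3_c31) Lrfl Lrfl
theorem f440877 : Led Lsl_gf (LP (LK LD1_c12 LD2_c39 LD3_c31)) = (LP (LK LD1_c12 LD2_c27 LD3_c39)) :=
  Lgr Lrot76 (Lpe (f96290 IH) (Lpr_ff (f111531 IH) (Lpr_gt (f440874 IH) (Lpn (LP (LK LD1_c12 LD2_c27 LD3_c39))))))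
theorem f111565 : Led Lsl_af (LP (LK LD1_c3 LD2_c16 LD3_c47)) = (LP (LK LD1_c3 LD2_c15 LD3_c28)) :=
  Lgr Lrot45 (Lpr_ft (K3.f109327 IH) (Lpe (K3.f109321 IH) (Lpr_ft (K4.f111562 IH) (Lpn (LP (LK LD1_c3 LD2_c15 LD3_c28))))))
theorem f96761 : Led Lsl_bt (LP (LK LD1_c6 LD2_c34 LD3_c14)) = (LP (LK LD1_c3 LD2_c15 LD3_c28)) :=
  Lre_b IH (LK LD1_c6 LD2_c34 LD3_c14) (LK LD1_c3 LD2_c15 LD3_c28) Lrfl Lrfl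
theorem f207508 : Led Lsl_bt (LP (LK LD1_c6 LD2_c28 LD3_c51)) = (LP (LK LD1_c12 LD2_c28 LD3_c16)) :=
  Lre_b IH (LK LD1_c6 LD2_c28 LD3_c51) (LK LD1_c12 LD2_c28 LD3_c16) Lrfl Lrfl
theorem f207509 : Led Lsl_af (LP (LK LD1_c6 LD2_c34 LD3_c14)) = (LP (LK LD1_c12 LD2_c28 LD3_c16)) :=
  Lgr Lrot36 (Lpr_bt (f96761 IH) (Lpe (f111565 IH) (Lpr_bt (K7.f96096 IH) (Lpr_at (K24.f207503 IH) (Lpr_bt (f207508 IH) (Lpn (LP (LK LD1_c12 LD2_c28 LD3_c16))))))))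
theorem f65614 : Led Lsl_gt (LP (LK LD1_c12 LD2_c34 LD3_c61)) = (LP (LK LD1_c6 LD2_c34 LD3_c14)) :=
  Lre_g IH (LK LD1_c12 LD2_c34 LD3_c61) (LK LD1_c6 LD2_c34 LD3_c14) Lrfl Lrfl
theorem f207524 : Led Lsl_ft (LP (LK LD1_c12 LD2_c39 LD3_c31)) = (LP (LK LD1_c12 LD2_c28 LD3_c16)) :=
  Lgr Lrot101 (Lpe (f96290 IH) (Lpr_ff (f111531 IH) (Lpr_af (f207509 IH) (Lpn (LP (LK LD1_c12 LD2_c28 LD3_c16))))))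
theorem f207526 : Led Lsl_gf (LP (LK LD1_c12 LD2_c34 LD3_c61)) = (LP (LK LD1_c12 LD2_c39 LD3_c31)) :=
  Lgr Lrot47 (Lpr_gt (f65614 IH) (Lpr_af (f207509 IH) (Lpe (f207524 IH) (Lpn (LP (LK LD1_c12 LD2_c39 LD3_c31))))))
theorem f440922 : Led Lsl_at (LP (LK LD1_c12 LD2_c39 LD3_c6)) = (LP (LK LD1_c12 LD2_c34 LD3_c61)) :=
  Lgr Lrot26 (Lpr_ff (f440917 IH) (Lpe (f440877 IH) (Lpe (f207526 IH) (Lpn (LP (LK LD1_c12 LD2_c34 LD3_c61))))))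
theorem f79124 : Led Lsl_dt (LP (LK LD1_c6 LD2_c36 LD3_c37)) = (LP (LK LD1_c12 LD2_c39 LD3_c6)) :=
  Lre_d IH (LK LD1_c6 LD2_c36 LD3_c37) (LK LD1_c12 LD2_c39 LD3_c6) Lrfl Lrfl
theorem f440926 : Led Lsl_df (LP (LK LD1_c7 LD2_c31 LD3_c4)) = (LP (LK LD1_c12 LD2_c34 LD3_c61)) :=
  Lgr Lrot18 (Lpe (f419910 IH) (Lpr_dt (f79124 IH) (Lpr_at (f440922 IH) (Lpn (LP (LK LD1_c12 LD2_c34 LD3_c61))))))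
theorem f94144 : Led Lsl_bt (LP (LK LD1_c3 LD2_c16 LD3_c46)) = (LP (LK LD1_c6 LD2_c36 LD3_c52)) :=
  Lre_b IH (LK LD1_c3 LD2_c16 LD3_c46) (LK LD1_c6 LD2_c36 LD3_c52) Lrfl Lrfl
theorem f94160 : Led Lsl_bf (LP (LK LD1_c7 LD2_c32 LD3_c1)) = (LP (LK LD1_c12 LD2_c39 LD3_c32)) :=
  Lgr Lrot90 (Lpr_ct (K28.f89127 IH) (Lpr_bt (K4.f89126 IH) (Lpr_ct (K3.f94139 IH) (Lpr_bt (f94144 IH) (Lpr_ct (f66276 IH) (Lpn (LP (LK LD1_c12 LD2_c39 LD3_c32))))))))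
theorem f111536 : Led Lsl_bt (LP (LK LD1_c7 LD2_c38 LD3_c16)) = (LP (LK LD1_c12 LD2_c35 LD3_c0)) :=
  Lgr Lrot35 (Lpe (K4.f111522 IH) (Lpr_bf (f94160 IH) (Lpr_ff (K4.f111534 IH) (Lpn (LP (LK LD1_c12 LD2_c35 LD3_c0))))))
theorem f162977 : Led Lsl_gt (LP (LK LD1_c12 LD2_c35 LD3_c0)) = (LP (LK LD1_c11 LD2_c40 LD3_c34)) :=
  Lgr Lrot164 (Lpe (f111536 IH) (Lpr_ct (K4.f89304 IH) (Lpr_gf (K8.f127427 IH) (Lpr_cf (K8.f162969 IH) (Lpe (K8.f72807 IH) (Lpe (K8.f72561 IH) (Lpr_ct (K2.f72468 IH) (Lpe (K8.f72555 IH) (Lpe (K8.f72556 IH) (Lpr_bt (K8.f150288 IH) (Lpn (LP (LK LD1_c11 LD2_c40 LD3_c34)))))))))))))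
theorem f498076 : Led Lsl_df (LP (LK LD1_c6 LD2_c25 LD3_c15)) = (LP (LK LD1_c6 LD2_c38 LD3_c52)) :=
  Lgr Lrot162 (Lpr_cf (K8.f150284 IH) (Lpe (f162977 IH) (Lpe (K4.f65610 IH) (Lpe (f65614 IH) (Lpe (f440926 IH) (Lpr_gt (f62656 IH) (Lpr_ct (K8.f124479 IH) (Lpr_gt (f124426 IH) (Lpr_ct (f498067 IH) (Lpn (LP (LK LD1_c6 LD2_c38 LD3_c52))))))))))))
theorem f498080 : Led Lsl_bt (LP (LK LD1_c6 LD2_c25 LD3_c16)) = (LP (LK LD1_c6 LD2_c38 LD3_c52)) :=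
  Lgr Lrot95 (Lpe (K8.f116982 IH) (Lpe (K8.f150287 IH) (Lpr_df (f498076 IH) (Lpn (LP (LK LD1_c6 LD2_c38 LD3_c52))))))
theorem f498089 : Led Lsl_gf (LP (LK LD1_c9 LD2_c11 LD3_c40)) = (LP (LK LD1_c6 LD2_c38 LD3_c52)) :=
  Lgr Lrot124 (Lpe (K7.f141738 IH) (Lpr_ct (K7.f141739 IH) (Lpe (K7.f118679 IH) (Lpe (K4.f79374 IH) (Lpe (K7.f117691 IH) (Lpr_gt (K7.f117714 IH) (Lpe (K7.f79203 IH) (Lpe (K8.f117679 IH) (Lpe (K8.f117719 IH) (Lpr_bt (f498080 IH) (Lpn (LP (LK LD1_c6 LD2_c38 LD3_c52)))))))))))))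
theorem f498091 : Led Lsl_at (LP (LK LD1_c9 LD2_c11 LD3_c41)) = (LP (LK LD1_c4 LD2_c37 LD3_c61)) :=
  Lre_a IH (LK LD1_c9 LD2_c11 LD3_c41) (LK LD1_c4 LD2_c37 LD3_c61) Lrfl Lrfl
theorem f498092 : Led Lsl_ff (LP (LK LD1_c9 LD2_c11 LD3_c41)) = (LP (LK LD1_c6 LD2_c38 LD3_c52)) :=
  Lgr Lrot52 (Lpr_at (f498091 IH) (Lpe (K7.f141737 IH) (Lpr_gf (f498089 IH) (Lpn (LP (LK LD1_c6 LD2_c38 LD3_c52))))))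
theorem f498098 : Led Lsl_ft (LP (LK LD1_c9 LD2_c11 LD3_c41)) = (LP (LK LD1_c6 LD2_c38 LD3_c52)) :=
  Lgr Lrot48 (Lpr_ff (f498092 IH) (Lpn (LP (LK LD1_c6 LD2_c38 LD3_c52))))
theorem f498107 : Led Lsl_gt (LP (LK LD1_c9 LD2_c11 LD3_c41)) = (LP (LK LD1_c6 LD2_c38 LD3_c51)) :=
  Lgr Lrot5 (Lpr_ft (f498098 IH) (Lpr_at (f103894 IH) (Lpe (K7.f103837 IH) (Lpn (LP (LK LD1_c6 LD2_c38 LD3_c51))))))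
theorem f103904 : Led Lsl_ct (LP (LK LD1_c12 LD2_c43 LD3_c22)) = (LP (LK LD1_c6 LD2_c38 LD3_c51)) :=
  Lre_c IH (LK LD1_c12 LD2_c43 LD3_c22) (LK LD1_c6 LD2_c38 LD3_c51) Lrfl Lrfl
theorem f149866 : Led Lsl_cf (LP (LK LD1_c12 LD2_c37 LD3_c33)) = (LP (LK LD1_c6 LD2_c37 LD3_c25)) :=
  Lgr Lrot11 (Lpr_ct (K7.f149863 IH) (Lpn (LP (LK LD1_c6 LD2_c37 LD3_c25))))
theorem f203425 : Led Lsl_ct (LP (LK LD1_c6 LD2_c38 LD3_c51)) = (LP (LK LD1_c12 LD2_c43 LD3_c22)) :=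
  Lre_c IH (LK LD1_c6 LD2_c38 LD3_c51) (LK LD1_c12 LD2_c43 LD3_c22) Lrfl Lrfl
theorem f203426 : Led Lsl_bf (LP (LK LD1_c7 LD2_c44 LD3_c24)) = (LP (LK LD1_c12 LD2_c43 LD3_c22)) :=
  Lgr Lrot90 (Lpr_ct (K11.f15603 IH) (Lpr_bt (K11.f203421 IH) (Lpe (f149866 IH) (Lpr_bt (K7.f149876 IH) (Lpr_ct (f203425 IH) (Lpn (LP (LK LD1_c12 LD2_c43 LD3_c22))))))))
theorem f61185 : Led Lsl_bt (LP (LK LD1_c2 LD2_c17 LD3_c60)) = (LP (LK LD1_c4 LD2_c41 LD3_c40)) :=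
  Lre_b IH (LK LD1_c2 LD2_c17 LD3_c60) (LK LD1_c4 LD2_c41 LD3_c40) Lrfl Lrfl
theorem f152622 : Led Lsl_gf (LP (LK LD1_c0 LD2_c42 LD3_c28)) = (LP (LK LD1_c1 LD2_c6 LD3_c1)) :=
  Lgr Lrot143 (Lpr_dt (K2.f79139 IH) (Lpe (K0.f23450 IH) (Lpe (K5.f23602 IH) (Lpe (K5.f125515 IH) (Lpe (K5.f125511 IH) (Lpe (K5.f124824 IH) (Lpe (K5.f82399 IH) (Lpr_gt (K7.f152612 IH) (Lpr_dt (K7.f104682 IH) (Lpn (LP (LK LD1_c1 LD2_c6 LD3_c1))))))))))))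
theorem f79145 : Led Lsl_gt (LP (LK LD1_c3 LD2_c10 LD3_c45)) = (LP (LK LD1_c6 LD2_c25 LD3_c54)) :=
  Lre_g IH (LK LD1_c3 LD2_c10 LD3_c45) (LK LD1_c6 LD2_c25 LD3_c54) Lrfl Lrfl
theorem f498111 : Led Lsl_cf (LP (LK LD1_c9 LD2_c11 LD3_c41)) = (LP (LK LD1_c6 LD2_c25 LD3_c54)) :=
  Lgr Lrot125 (Lpr_gt (f498107 IH) (Lpe (f103904 IH) (Lpe (f203426 IH) (Lpr_gt (K11.f203417 IH) (Lpe (f61185 IH) (Lpr_ct (K7.f104689 IH) (Lpe (f152622 IH) (Lpe (K5.f69135 IH) (Lpr_bt (K7.f69136 IH) (Lpr_gt (f79145 IH) (Lpn (LP (LK LD1_c6 LD2_c25 LD3_c54)))))))))))))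
theorem f79158 : Led Lsl_dt (LP (LK LD1_c12 LD2_c39 LD3_c8)) = (LP (LK LD1_c6 LD2_c36 LD3_c38)) :=
  Lre_d IH (LK LD1_c12 LD2_c39 LD3_c8) (LK LD1_c6 LD2_c36 LD3_c38) Lrfl Lrfl
theorem f79159 : Led Lsl_dt (LP (LK LD1_c6 LD2_c36 LD3_c38)) = (LP (LK LD1_c12 LD2_c39 LD3_c8)) :=
  Lre_d IH (LK LD1_c6 LD2_c36 LD3_c38) (LK LD1_c12 LD2_c39 LD3_c8) Lrfl Lrfl
theorem f440935 : Led Lsl_ft (LP (LK LD1_c12 LD2_c39 LD3_c8)) = (LP (LK LD1_c12 LD2_c34 LD3_c61)) :=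
  Lgr Lrot54 (Lpe (f79159 IH) (Lpr_ff (f419908 IH) (Lpr_df (f440926 IH) (Lpn (LP (LK LD1_c12 LD2_c34 LD3_c61))))))
theorem f440924 : Led Lsl_af (LP (LK LD1_c12 LD2_c39 LD3_c6)) = (LP (LK LD1_c12 LD2_c34 LD3_c61)) :=
  Lgr Lrot0 (Lpr_at (f440922 IH) (Lpn (LP (LK LD1_c12 LD2_c34 LD3_c61))))
theorem f157058 : Led Lsl_gt (LP (LK LD1_c9 LD2_c47 LD3_c45)) = (LP (LK LD1_c17 LD2_c58 LD3_c0)) :=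
  Lre_g IH (LK LD1_c9 LD2_c47 LD3_c45) (LK LD1_c17 LD2_c58 LD3_c0) Lrfl Lrfl
theorem f161245 : Led Lsl_at (LP (LK LD1_c12 LD2_c35 LD3_c0)) = (LP (LK LD1_c17 LD2_c58 LD3_c0)) :=
  Lgr Lrot26 (Lpe (K4.f111529 IH) (Lpr_gt (f161235 IH) (Lpr_gt (f157058 IH) (Lpn (LP (LK LD1_c17 LD2_c58 LD3_c0))))))
theorem f207520 : Led Lsl_ct (LP (LK LD1_c17 LD2_c58 LD3_c0)) = (LP (LK LD1_c12 LD2_c28 LD3_c16)) :=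
  Lgr Lrot111 (Lpe (f161245 IH) (Lpe (K4.f65610 IH) (Lpr_af (f207509 IH) (Lpn (LP (LK LD1_c12 LD2_c28 LD3_c16))))))
theorem f207533 : Led Lsl_cf (LP (LK LD1_c17 LD2_c58 LD3_c0)) = (LP (LK LD1_c12 LD2_c28 LD3_c16)) :=
  Lgr Lrot11 (Lpr_ct (f207520 IH) (Lpn (LP (LK LD1_c12 LD2_c28 LD3_c16))))
theorem f128406 : Led Lsl_bt (LP (LK LD1_c12 LD2_c28 LD3_c16)) = (LP (LK LD1_c6 LD2_c28 LD3_c51)) :=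
  Lre_b IH (LK LD1_c12 LD2_c28 LD3_c16) (LK LD1_c6 LD2_c28 LD3_c51) Lrfl Lrfl
theorem f156963 : Led Lsl_bt (LP (LK LD1_c6 LD2_c38 LD3_c53)) = (LP (LK LD1_c3 LD2_c17 LD3_c43)) :=
  Lre_b IH (LK LD1_c6 LD2_c38 LD3_c53) (LK LD1_c3 LD2_c17 LD3_c43) Lrfl Lrfl
theorem f103923 : Led Lsl_ct (LP (LK LD1_c6 LD2_c38 LD3_c53)) = (LP (LK LD1_c12 LD2_c43 LD3_c25)) :=
  Lre_c IH (LK LD1_c6 LD2_c38 LD3_c53) (LK LD1_c12 LD2_c43 LD3_c25) Lrfl Lrfl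
theorem f207536 : Led Lsl_gt (LP (LK LD1_c17 LD2_c58 LD3_c0)) = (LP (LK LD1_c12 LD2_c43 LD3_c25)) :=
  Lgr Lrot65 (Lpr_cf (f207533 IH) (Lpr_bt (f128406 IH) (Lpe (K24.f207501 IH) (Lpe (K24.f141895 IH) (Lpr_ct (K8.f116967 IH) (Lpe (K8.f156958 IH) (Lpr_cf (K8.f156961 IH) (Lpe (K8.f156960 IH) (Lpe (f156963 IH) (Lpr_ct (f103923 IH) (Lpn (LP (LK LD1_c12 LD2_c43 LD3_c25)))))))))))))
theorem f103899 : Led Lsl_ct (LP (LK LD1_c12 LD2_c43 LD3_c25)) = (LP (LK LD1_c6 LD2_c38 LD3_c53)) :=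
  Lre_c IH (LK LD1_c12 LD2_c43 LD3_c25) (LK LD1_c6 LD2_c38 LD3_c53) Lrfl Lrfl
theorem f103922 : Led Lsl_dt (LP (LK LD1_c3 LD2_c17 LD3_c41)) = (LP (LK LD1_c6 LD2_c38 LD3_c53)) :=
  Lre_d IH (LK LD1_c3 LD2_c17 LD3_c41) (LK LD1_c6 LD2_c38 LD3_c53) Lrfl Lrfl
theorem f103896 : Led Lsl_cf (LP (LK LD1_c3 LD2_c17 LD3_c41)) = (LP (LK LD1_c6 LD2_c25 LD3_c55)) :=
  Lgr Lrot11 (Lpr_ct (K7.f103834 IH) (Lpn (LP (LK LD1_c6 LD2_c25 LD3_c55))))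
theorem f207538 : Led Lsl_gf (LP (LK LD1_c12 LD2_c28 LD3_c16)) = (LP (LK LD1_c12 LD2_c39 LD3_c6)) :=
  Lgr Lrot147 (Lpe (f207533 IH) (Lpr_gt (f207536 IH) (Lpr_ct (f103899 IH) (Lpe (f103922 IH) (Lpr_cf (f103896 IH) (Lpr_gf (K7.f150639 IH) (Lpe (K7.f124477 IH) (Lpe (K7.f150643 IH) (Lpe (f94130 IH) (Lpn (LP (LK LD1_c12 LD2_c39 LD3_c6))))))))))))
theorem f207518 : Led Lsl_at (LP (LK LD1_c6 LD2_c34 LD3_c14)) = (LP (LK LD1_c12 LD2_c28 LD3_c16)) :=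
  Lgr Lrot100 (Lpr_af (f207509 IH) (Lpn (LP (LK LD1_c12 LD2_c28 LD3_c16))))
theorem f207541 : Led Lsl_gt (LP (LK LD1_c6 LD2_c36 LD3_c52)) = (LP (LK LD1_c12 LD2_c39 LD3_c6)) :=
  Lgr Lrot5 (Lpr_ft (K4.f111538 IH) (Lpr_at (f207518 IH) (Lpr_gf (f207538 IH) (Lpn (LP (LK LD1_c12 LD2_c39 LD3_c6))))))
theorem f440939 : Led Lsl_gt (LP (LK LD1_c12 LD2_c39 LD3_c8)) = (LP (LK LD1_c6 LD2_c36 LD3_c52)) :=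
  Lgr Lrot5 (Lpr_ft (f440935 IH) (Lpe (f440924 IH) (Lpe (f207541 IH) (Lpn (LP (LK LD1_c6 LD2_c36 LD3_c52))))))
theorem f498136 : Led Lsl_dt (LP (LK LD1_c9 LD2_c11 LD3_c41)) = (LP (LK LD1_c5 LD2_c56 LD3_c35)) :=
  Lgr Lrot27 (Lpr_cf (f498111 IH) (Lpe (f79145 IH) (Lpr_cf (K7.f79118 IH) (Lpe (K8.f79135 IH) (Lpe (f79158 IH) (Lpr_gt (f440939 IH) (Lpr_ct (f66276 IH) (Lpr_gt (f161235 IH) (Lpr_ct (f157051 IH) (Lpn (LP (LK LD1_c5 LD2_c56 LD3_c35))))))))))))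
theorem f498100 : Led Lsl_at (LP (LK LD1_c4 LD2_c37 LD3_c61)) = (LP (LK LD1_c9 LD2_c11 LD3_c41)) :=
  Lre_a IH (LK LD1_c4 LD2_c37 LD3_c61) (LK LD1_c9 LD2_c11 LD3_c41) Lrfl Lrfl
theorem f142057 : Led Lsl_dt (LP (LK LD1_c9 LD2_c11 LD3_c42)) = (LP (LK LD1_c4 LD2_c37 LD3_c61)) :=
  Lre_d IH (LK LD1_c9 LD2_c11 LD3_c42) (LK LD1_c4 LD2_c37 LD3_c61) Lrfl Lrfl
theorem f498138 : Led Lsl_af (LP (LK LD1_c9 LD2_c11 LD3_c42)) = (LP (LK LD1_c5 LD2_c56 LD3_c35)) :=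
  Lgr Lrot117 (Lpr_dt (f142057 IH) (Lpr_at (f498100 IH) (Lpr_dt (f498136 IH) (Lpn (LP (LK LD1_c5 LD2_c56 LD3_c35))))))
theorem f142066 : Led Lsl_et (LP (LK LD1_c9 LD2_c11 LD3_c42)) = (LP (LK LD1_c17 LD2_c5 LD3_c22)) :=
  Lre_e IH (LK LD1_c9 LD2_c11 LD3_c42) (LK LD1_c17 LD2_c5 LD3_c22) Lrfl Lrfl
theorem f498146 : Led Lsl_at (LP (LK LD1_c17 LD2_c5 LD3_c22)) = (LP (LK LD1_c11 LD2_c38 LD3_c29)) :=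
  Lgr Lrot80 (Lpe (f142066 IH) (Lpr_af (f498138 IH) (Lpe (f157111 IH) (Lpn (LP (LK LD1_c11 LD2_c38 LD3_c29))))))
theorem f498150 : Led Lsl_bt (LP (LK LD1_c9 LD2_c11 LD3_c44)) = (LP (LK LD1_c17 LD2_c5 LD3_c22)) :=
  Lre_b IH (LK LD1_c9 LD2_c11 LD3_c44) (LK LD1_c17 LD2_c5 LD3_c22) Lrfl Lrfl
theorem f157078 : Led Lsl_ct (LP (LK LD1_c2 LD2_c54 LD3_c38)) = (LP (LK LD1_c5 LD2_c56 LD3_c37)) :=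
  Lre_c IH (LK LD1_c2 LD2_c54 LD3_c38) (LK LD1_c5 LD2_c56 LD3_c37) Lrfl Lrfl
theorem f69230 : Led Lsl_ct (LP (LK LD1_c6 LD2_c25 LD3_c9)) = (LP (LK LD1_c3 LD2_c10 LD3_c14)) :=
  Lre_c IH (LK LD1_c6 LD2_c25 LD3_c9) (LK LD1_c3 LD2_c10 LD3_c14) Lrfl Lrfl
theorem f496793 : Led Lsl_at (LP (LK LD1_c5 LD2_c56 LD3_c37)) = (LP (LK LD1_c6 LD2_c25 LD3_c9)) :=
  Lgr Lrot107 (Lpe (f157078 IH) (Lpr_af (f496789 IH) (Lpe (f69230 IH) (Lpn (LP (LK LD1_c6 LD2_c25 LD3_c9))))))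
theorem f498151 : Led Lsl_af (LP (LK LD1_c9 LD2_c11 LD3_c44)) = (LP (LK LD1_c6 LD2_c39 LD3_c2)) :=
  Lgr Lrot36 (Lpr_bt (f498150 IH) (Lpr_at (f498146 IH) (Lpr_bt (f157104 IH) (Lpr_at (f496793 IH) (Lpe (K6.f116837 IH) (Lpn (LP (LK LD1_c6 LD2_c39 LD3_c2))))))))
theorem f498157 : Led Lsl_ft (LP (LK LD1_c9 LD2_c11 LD3_c44)) = (LP (LK LD1_c17 LD2_c5 LD3_c28)) :=
  Lre_f IH (LK LD1_c9 LD2_c11 LD3_c44) (LK LD1_c17 LD2_c5 LD3_c28) Lrfl Lrfl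
theorem f116856 : Led Lsl_ft (LP (LK LD1_c12 LD2_c43 LD3_c45)) = (LP (LK LD1_c6 LD2_c39 LD3_c2)) :=
  Lre_f IH (LK LD1_c12 LD2_c43 LD3_c45) (LK LD1_c6 LD2_c39 LD3_c2) Lrfl Lrfl
theorem f498158 : Led Lsl_at (LP (LK LD1_c17 LD2_c5 LD3_c28)) = (LP (LK LD1_c12 LD2_c43 LD3_c45)) :=
  Lgr Lrot66 (Lpe (f498157 IH) (Lpr_af (f498151 IH) (Lpe (f116856 IH) (Lpn (LP (LK LD1_c12 LD2_c43 LD3_c45))))))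
theorem f498168 : Led Lsl_dt (LP (LK LD1_c26 LD2_c59 LD3_c10)) = (LP (LK LD1_c17 LD2_c5 LD3_c28)) :=
  Lre_d IH (LK LD1_c26 LD2_c59 LD3_c10) (LK LD1_c17 LD2_c5 LD3_c28) Lrfl Lrfl
theorem f116855 : Led Lsl_dt (LP (LK LD1_c12 LD2_c43 LD3_c45)) = (LP (LK LD1_c21 LD2_c50 LD3_c56)) :=
  Lre_d IH (LK LD1_c12 LD2_c43 LD3_c45) (LK LD1_c21 LD2_c50 LD3_c56) Lrfl Lrfl
theorem f498169 : Led Lsl_af (LP (LK LD1_c26 LD2_c59 LD3_c10)) = (LP (LK LD1_c21 LD2_c50 LD3_c56)) :=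
  Lgr Lrot117 (Lpr_dt (f498168 IH) (Lpr_at (f498158 IH) (Lpr_dt (f116855 IH) (Lpn (LP (LK LD1_c21 LD2_c50 LD3_c56))))))
theorem f498174 : Led Lsl_at (LP (LK LD1_c26 LD2_c59 LD3_c10)) = (LP (LK LD1_c21 LD2_c50 LD3_c56)) :=
  Lgr Lrot100 (Lpr_af (f498169 IH) (Lpn (LP (LK LD1_c21 LD2_c50 LD3_c56))))
theorem f498178 : Led Lsl_ft (LP (LK LD1_c17 LD2_c5 LD3_c27)) = (LP (LK LD1_c26 LD2_c59 LD3_c10)) :=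
  Lre_f IH (LK LD1_c17 LD2_c5 LD3_c27) (LK LD1_c26 LD2_c59 LD3_c10) Lrfl Lrfl
theorem f116839 : Led Lsl_ft (LP (LK LD1_c21 LD2_c50 LD3_c56)) = (LP (LK LD1_c12 LD2_c43 LD3_c44)) :=
  Lre_f IH (LK LD1_c21 LD2_c50 LD3_c56) (LK LD1_c12 LD2_c43 LD3_c44) Lrfl Lrfl
theorem f498179 : Led Lsl_af (LP (LK LD1_c17 LD2_c5 LD3_c27)) = (LP (LK LD1_c12 LD2_c43 LD3_c44)) :=
  Lgr Lrot45 (Lpr_ft (f498178 IH) (Lpr_at (f498174 IH) (Lpr_ft (f116839 IH) (Lpn (LP (LK LD1_c12 LD2_c43 LD3_c44))))))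
theorem f498183 : Led Lsl_et (LP (LK LD1_c17 LD2_c5 LD3_c27)) = (LP (LK LD1_c9 LD2_c11 LD3_c45)) :=
  Lre_e IH (LK LD1_c17 LD2_c5 LD3_c27) (LK LD1_c9 LD2_c11 LD3_c45) Lrfl Lrfl
theorem f498184 : Led Lsl_at (LP (LK LD1_c9 LD2_c11 LD3_c45)) = (LP (LK LD1_c6 LD2_c39 LD3_c4)) :=
  Lgr Lrot80 (Lpe (f498183 IH) (Lpr_af (f498179 IH) (Lpe (K6.f116822 IH) (Lpn (LP (LK LD1_c6 LD2_c39 LD3_c4))))))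
theorem f498195 : Led Lsl_ft (LP (LK LD1_c17 LD2_c5 LD3_c32)) = (LP (LK LD1_c9 LD2_c11 LD3_c45)) :=
  Lre_f IH (LK LD1_c17 LD2_c5 LD3_c32) (LK LD1_c9 LD2_c11 LD3_c45) Lrfl Lrfl
theorem f57004 : Led Lsl_ft (LP (LK LD1_c6 LD2_c39 LD3_c4)) = (LP (LK LD1_c12 LD2_c43 LD3_c50)) :=
  Lre_f IH (LK LD1_c6 LD2_c39 LD3_c4) (LK LD1_c12 LD2_c43 LD3_c50) Lrfl Lrfl
theorem f498196 : Led Lsl_af (LP (LK LD1_c17 LD2_c5 LD3_c32)) = (LP (LK LD1_c12 LD2_c43 LD3_c50)) :=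
  Lgr Lrot45 (Lpr_ft (f498195 IH) (Lpr_at (f498184 IH) (Lpr_ft (f57004 IH) (Lpn (LP (LK LD1_c12 LD2_c43 LD3_c50))))))
theorem f498200 : Led Lsl_dt (LP (LK LD1_c17 LD2_c5 LD3_c32)) = (LP (LK LD1_c9 LD2_c11 LD3_c46)) :=
  Lre_d IH (LK LD1_c17 LD2_c5 LD3_c32) (LK LD1_c9 LD2_c11 LD3_c46) Lrfl Lrfl
theorem f57032 : Led Lsl_dt (LP (LK LD1_c6 LD2_c39 LD3_c5)) = (LP (LK LD1_c12 LD2_c43 LD3_c50)) :=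
  Lre_d IH (LK LD1_c6 LD2_c39 LD3_c5) (LK LD1_c12 LD2_c43 LD3_c50) Lrfl Lrfl
theorem f498213 : Led Lsl_at (LP (LK LD1_c9 LD2_c11 LD3_c46)) = (LP (LK LD1_c6 LD2_c39 LD3_c5)) :=
  Lgr Lrot51 (Lpe (f498200 IH) (Lpr_af (f498196 IH) (Lpe (f57032 IH) (Lpn (LP (LK LD1_c6 LD2_c39 LD3_c5))))))
theorem f498218 : Led Lsl_ct (LP (LK LD1_c17 LD2_c5 LD3_c24)) = (LP (LK LD1_c9 LD2_c11 LD3_c46)) :=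
  Lre_c IH (LK LD1_c17 LD2_c5 LD3_c24) (LK LD1_c9 LD2_c11 LD3_c46) Lrfl Lrfl
theorem f498219 : Led Lsl_af (LP (LK LD1_c17 LD2_c5 LD3_c24)) = (LP (LK LD1_c9 LD2_c49 LD3_c6)) :=
  Lgr Lrot68 (Lpr_ct (f498218 IH) (Lpr_at (f498213 IH) (Lpr_ct (K4.f57030 IH) (Lpn (LP (LK LD1_c9 LD2_c49 LD3_c6))))))
theorem f498227 : Led Lsl_ft (LP (LK LD1_c17 LD2_c5 LD3_c24)) = (LP (LK LD1_c9 LD2_c11 LD3_c43)) :=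
  Lre_f IH (LK LD1_c17 LD2_c5 LD3_c24) (LK LD1_c9 LD2_c11 LD3_c43) Lrfl Lrfl
theorem f498228 : Led Lsl_at (LP (LK LD1_c9 LD2_c11 LD3_c43)) = (LP (LK LD1_c4 LD2_c59 LD3_c21)) :=
  Lgr Lrot66 (Lpe (f498227 IH) (Lpr_af (f498219 IH) (Lpe (K4.f57001 IH) (Lpn (LP (LK LD1_c4 LD2_c59 LD3_c21))))))
theorem f142043 : Led Lsl_et (LP (LK LD1_c4 LD2_c38 LD3_c0)) = (LP (LK LD1_c9 LD2_c11 LD3_c43)) :=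
  Lre_e IH (LK LD1_c4 LD2_c38 LD3_c0) (LK LD1_c9 LD2_c11 LD3_c43) Lrfl Lrfl
theorem f498238 : Led Lsl_af (LP (LK LD1_c4 LD2_c38 LD3_c0)) = (LP (LK LD1_c2 LD2_c27 LD3_c33)) :=
  Lgr Lrot50 (Lpr_et (f142043 IH) (Lpr_at (f498228 IH) (Lpr_et (K4.f56854 IH) (Lpn (LP (LK LD1_c2 LD2_c27 LD3_c33))))))
theorem f498248 : Led Lsl_ft (LP (LK LD1_c4 LD2_c38 LD3_c4)) = (LP (LK LD1_c2 LD2_c27 LD3_c33)) :=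
  Lgr Lrot2 (Lpr_gt (K6.f141960 IH) (Lpe (K6.f135944 IH) (Lpr_af (f498238 IH) (Lpn (LP (LK LD1_c2 LD2_c27 LD3_c33))))))
def v1387 : LQ := Led Lsl_ft (LP (LK LD1_c1 LD2_c10 LD3_c58))
theorem f495280 : Led Lsl_ft (LP (LK LD1_c1 LD2_c10 LD3_c58)) = v1387 :=
  Lrfl
theorem f498254 : (LP (LK LD1_c2 LD2_c27 LD3_c30)) = v1387 :=
  (Llr Lrot61 (Lpe (K4.f26384 IH) (Lpr_ft (f498248 IH) (Lpr_bt (K4.f56839 IH) (Lpr_ft (f495280 IH) (Lpn v1387)))))).symm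
def v1514 : LQ := Led Lsl_ft (LP (LK LD1_c1 LD2_c20 LD3_c48))
theorem f495991 : Led Lsl_ft (LP (LK LD1_c1 LD2_c20 LD3_c48)) = v1514 :=
  Lrfl
theorem f498261 : (LP (LK LD1_c1 LD2_c24 LD3_c48)) = v1514 :=
  (Llr Lrot78 (Lpe (K4.f75441 IH) (Lpr_ft (f495280 IH) (Lpq (f498254 IH) (Lpe (K4.f80023 IH) (Lpr_ft (f495991 IH) (Lpn v1514))))))).symm
theorem f60953 : Led Lsl_ct (LP (LK LD1_c2 LD2_c49 LD3_c18)) = (LP (LK LD1_c1 LD2_c20 LD3_c48)) :=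
  Lre_c IH (LK LD1_c2 LD2_c49 LD3_c18) (LK LD1_c1 LD2_c20 LD3_c48) Lrfl Lrfl
theorem f498266 : Led Lsl_ff (LP (LK LD1_c2 LD2_c49 LD3_c18)) = (LP (LK LD1_c2 LD2_c58 LD3_c16)) :=
  Lgr Lrot23 (Lpr_ct (f60953 IH) (Lpr_ft (f495991 IH) (Lpq (f498261 IH) (Lpr_ct (K5.f72843 IH) (Lpn (LP (LK LD1_c2 LD2_c58 LD3_c16)))))))
theorem f498272 : Led Lsl_ft (LP (LK LD1_c2 LD2_c49 LD3_c18)) = (LP (LK LD1_c2 LD2_c58 LD3_c16)) :=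
  Lgr Lrot48 (Lpr_ff (f498266 IH) (Lpn (LP (LK LD1_c2 LD2_c58 LD3_c16))))
theorem f210036 : Led Lsl_df (LP (LK LD1_c3 LD2_c59 LD3_c41)) = (LP (LK LD1_c2 LD2_c49 LD3_c20)) :=
  Lgr Lrot12 (Lpr_bt (K7.f36255 IH) (Lpe (K8.f149985 IH) (Lpr_bt (f205756 IH) (Lpn (LP (LK LD1_c2 LD2_c49 LD3_c20))))))
theorem f105044 : Led Lsl_dt (LP (LK LD1_c2 LD2_c21 LD3_c15)) = (LP (LK LD1_c4 LD2_c46 LD3_c38)) :=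
  Lre_d IH (LK LD1_c2 LD2_c21 LD3_c15) (LK LD1_c4 LD2_c46 LD3_c38) Lrfl Lrfl
theorem f60931 : Led Lsl_ct (LP (LK LD1_c1 LD2_c20 LD3_c48)) = (LP (LK LD1_c2 LD2_c49 LD3_c18)) :=
  Lre_c IH (LK LD1_c1 LD2_c20 LD3_c48) (LK LD1_c2 LD2_c49 LD3_c18) Lrfl Lrfl
theorem f60947 : Led Lsl_ct (LP (LK LD1_c1 LD2_c20 LD3_c49)) = (LP (LK LD1_c2 LD2_c49 LD3_c20)) :=
  Lre_c IH (LK LD1_c1 LD2_c20 LD3_c49) (LK LD1_c2 LD2_c49 LD3_c20) Lrfl Lrfl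
theorem f210038 : Led Lsl_dt (LP (LK LD1_c2 LD2_c49 LD3_c18)) = (LP (LK LD1_c4 LD2_c46 LD3_c34)) :=
  Lgr Lrot173 (Lpe (f60931 IH) (Lpr_df (K4.f80023 IH) (Lpe (K4.f26455 IH) (Lpe (K6.f105033 IH) (Lpe (K6.f105032 IH) (Lpe (f105044 IH) (Lpr_cf (K7.f156754 IH) (Lpr_df (f210036 IH) (Lpe (f60947 IH) (Lpr_df (K4.f104801 IH) (Lpe (K7.f104787 IH) (Lpr_df (K4.f104994 IH) (Lpe (K4.f79306 IH) (Lpe (K4.f79305 IH) (Lpe (K8.f104950 IH) (Lpn (LP (LK LD1_c4 LD2_c46 LD3_c34))))))))))))))))))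
theorem f498276 : Led Lsl_af (LP (LK LD1_c2 LD2_c49 LD3_c20)) = (LP (LK LD1_c2 LD2_c58 LD3_c16)) :=
  Lgr Lrot109 (Lpe (f60947 IH) (Lpr_df (K4.f104801 IH) (Lpe (K7.f104787 IH) (Lpr_df (K4.f104994 IH) (Lpe (K4.f79306 IH) (Lpe (K4.f79305 IH) (Lpe (K8.f104950 IH) (Lpe (f210038 IH) (Lpr_ft (f498272 IH) (Lpn (LP (LK LD1_c2 LD2_c58 LD3_c16))))))))))))
theorem f497185 : Led Lsl_ft (LP (LK LD1_c2 LD2_c49 LD3_c20)) = (LP (LK LD1_c2 LD2_c58 LD3_c19)) :=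
  Lgr Lrot48 (Lpr_ff (f497183 IH) (Lpn (LP (LK LD1_c2 LD2_c58 LD3_c19))))
theorem f498282 : Led Lsl_at (LP (LK LD1_c2 LD2_c58 LD3_c19)) = (LP (LK LD1_c2 LD2_c49 LD3_c18)) :=
  Lgr Lrot66 (Lpe (f497185 IH) (Lpr_af (f498276 IH) (Lpe (f498272 IH) (Lpn (LP (LK LD1_c2 LD2_c49 LD3_c18))))))
theorem f496027 : Led Lsl_ff (LP (LK LD1_c1 LD2_c20 LD3_c55)) = v1519 :=
  Lgr Lrot3 (Lpr_ft (f496025 IH) (Lpn v1519))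
theorem f496024 : Led Lsl_ff (LP (LK LD1_c1 LD2_c20 LD3_c56)) = v1518 :=
  Lgr Lrot3 (Lpr_ft (f496023 IH) (Lpn v1518))
theorem f496028 : Led Lsl_at (LP (LK LD1_c1 LD2_c20 LD3_c56)) = v1519 :=
  Lgr Lrot66 (Lpr_ff (f496024 IH) (Lpe (f496021 IH) (Lpr_ff (f496027 IH) (Lpn v1519))))
theorem f96729 : Led Lsl_gt (LP (LK LD1_c3 LD2_c16 LD3_c5)) = (LP (LK LD1_c3 LD2_c15 LD3_c28)) :=
  Lgr Lrot94 (Lpe (K3.f96622 IH) (Lpe (K3.f93476 IH) (Lpr_dt (K4.f11406 IH) (Lpr_gt (K1.f62818 IH) (Lpe (K2.f65182 IH) (Lpr_cf (K3.f65191 IH) (Lpe (K3.f62946 IH) (Lpr_gf (K3.f96725 IH) (Lpe (K3.f65571 IH) (Lpn (LP (LK LD1_c3 LD2_c15 LD3_c28))))))))))))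
theorem f65564 : Led Lsl_ct (LP (LK LD1_c1 LD2_c34 LD3_c29)) = (LP (LK LD1_c1 LD2_c33 LD3_c9)) :=
  Lgr Lrot59 (Lpr_cf (K3.f65391 IH) (Lpn (LP (LK LD1_c1 LD2_c33 LD3_c9))))
theorem f112942 : Led Lsl_bt (LP (LK LD1_c2 LD2_c49 LD3_c18)) = (LP (LK LD1_c4 LD2_c34 LD3_c19)) :=
  Lgr Lrot178 (Lpe (f60931 IH) (Lpr_df (K4.f80023 IH) (Lpe (K0.f23455 IH) (Lpe (K0.f23454 IH) (Lpe (K0.f13476 IH) (Lpe (K1.f13469 IH) (Lpe (K0.f20873 IH) (Lpe (K0.f20875 IH) (Lpr_cf (K2.f23426 IH) (Lpe (K5.f23440 IH) (Lpe (K3.f23446 IH) (Lpe (K3.f23456 IH) (Lpe (f65564 IH) (Lpe (K3.f65571 IH) (Lpe (f96729 IH) (Lpe (K4.f112261 IH) (Lpe (K4.f24057 IH) (Lpr_df (K4.f112934 IH) (Lpe (K11.f36535 IH) (Lpn (LP (LK LD1_c4 LD2_c34 LD3_c19))))))))))))))))))))))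
theorem f498284 : Led Lsl_af (LP (LK LD1_c2 LD2_c49 LD3_c34)) = (LP (LK LD1_c4 LD2_c34 LD3_c19)) :=
  Lgr Lrot36 (Lpr_bt (K8.f73476 IH) (Lpr_at (f496028 IH) (Lpqs (f497189 IH) (Lpr_bt (K5.f79927 IH) (Lpr_at (f498282 IH) (Lpr_bt (f112942 IH) (Lpn (LP (LK LD1_c4 LD2_c34 LD3_c19)))))))))
theorem f112944 : Led Lsl_bf (LP (LK LD1_c2 LD2_c49 LD3_c18)) = (LP (LK LD1_c4 LD2_c34 LD3_c19)) :=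
  Lgr Lrot24 (Lpr_bt (f112942 IH) (Lpn (LP (LK LD1_c4 LD2_c34 LD3_c19))))
theorem f498274 : Led Lsl_ff (LP (LK LD1_c4 LD2_c34 LD3_c19)) = (LP (LK LD1_c2 LD2_c49 LD3_c49)) :=
  Lgr Lrot25 (Lpe (f112944 IH) (Lpr_ft (f498272 IH) (Lpr_bt (K5.f119841 IH) (Lpn (LP (LK LD1_c2 LD2_c49 LD3_c49))))))
theorem f498278 : Led Lsl_at (LP (LK LD1_c3 LD2_c4 LD3_c43)) = (LP (LK LD1_c2 LD2_c49 LD3_c49)) :=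
  Lgr Lrot67 (Lpe (K8.f80641 IH) (Lpq (f497212 IH) (Lpe (f496021 IH) (Lpr_bf (f210034 IH) (Lpr_af (f498276 IH) (Lpr_bf (f119843 IH) (Lpn (LP (LK LD1_c2 LD2_c49 LD3_c49)))))))))
theorem f498292 : Led Lsl_ft (LP (LK LD1_c2 LD2_c49 LD3_c34)) = (LP (LK LD1_c3 LD2_c4 LD3_c43)) :=
  Lgr Lrot101 (Lpr_af (f498284 IH) (Lpr_ff (f498274 IH) (Lpe (f498278 IH) (Lpn (LP (LK LD1_c3 LD2_c4 LD3_c43))))))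
theorem f161815 : Led Lsl_ct (LP (LK LD1_c3 LD2_c4 LD3_c43)) = (LP (LK LD1_c3 LD2_c10 LD3_c10)) :=
  Lgr Lrot59 (Lpr_cf (K8.f161811 IH) (Lpn (LP (LK LD1_c3 LD2_c10 LD3_c10))))
theorem f498294 : Led Lsl_ff (LP (LK LD1_c4 LD2_c41 LD3_c18)) = (LP (LK LD1_c3 LD2_c10 LD3_c10)) :=
  Lgr Lrot23 (Lpe (f425851 IH) (Lpr_ft (f498292 IH) (Lpr_ct (f161815 IH) (Lpn (LP (LK LD1_c3 LD2_c10 LD3_c10))))))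
theorem f498288 : Led Lsl_at (LP (LK LD1_c4 LD2_c41 LD3_c18)) = (LP (LK LD1_c3 LD2_c10 LD3_c11)) :=
  Lgr Lrot107 (Lpe (f425855 IH) (Lpr_af (f498284 IH) (Lpr_cf (K11.f205735 IH) (Lpn (LP (LK LD1_c3 LD2_c10 LD3_c11))))))
theorem f157859 : Led Lsl_at (LP (LK LD1_c3 LD2_c59 LD3_c44)) = (LP (LK LD1_c8 LD2_c0 LD3_c30)) :=
  Lre_a IH (LK LD1_c3 LD2_c59 LD3_c44) (LK LD1_c8 LD2_c0 LD3_c30) Lrfl Lrfl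
theorem f498290 : Led Lsl_dt (LP (LK LD1_c8 LD2_c0 LD3_c30)) = (LP (LK LD1_c4 LD2_c34 LD3_c19)) :=
  Lgr Lrot44 (Lpe (f157859 IH) (Lpr_df (K8.f157807 IH) (Lpr_af (f498284 IH) (Lpn (LP (LK LD1_c4 LD2_c34 LD3_c19))))))
theorem f161887 : Led Lsl_df (LP (LK LD1_c3 LD2_c16 LD3_c42)) = (LP (LK LD1_c4 LD2_c38 LD3_c28)) :=
  Lgr Lrot78 (Lpe (K8.f64536 IH) (Lpr_dt (K8.f64576 IH) (Lpr_ft (K8.f161870 IH) (Lpn (LP (LK LD1_c4 LD2_c38 LD3_c28))))))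
theorem f161084 : Led Lsl_gt (LP (LK LD1_c5 LD2_c55 LD3_c35)) = (LP (LK LD1_c2 LD2_c54 LD3_c7)) :=
  Lre_g IH (LK LD1_c5 LD2_c55 LD3_c35) (LK LD1_c2 LD2_c54 LD3_c7) Lrfl Lrfl
theorem f419875 : Led Lsl_df (LP (LK LD1_c5 LD2_c55 LD3_c35)) = (LP (LK LD1_c6 LD2_c38 LD3_c13)) :=
  Lgr Lrot155 (Lpr_gt (f161084 IH) (Lpr_ct (K8.f161083 IH) (Lpr_gt (K8.f161913 IH) (Lpr_ct (K8.f26892 IH) (Lpe (f161887 IH) (Lpe (K7.f79093 IH) (Lpe (K7.f75508 IH) (Lpe (K4.f56849 IH) (Lpr_gf (f419871 IH) (Lpn (LP (LK LD1_c6 LD2_c38 LD3_c13))))))))))))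
theorem f161940 : Led Lsl_dt (LP (LK LD1_c6 LD2_c2 LD3_c21)) = (LP (LK LD1_c8 LD2_c45 LD3_c40)) :=
  Lgr Lrot42 (Lpr_df (K8.f161935 IH) (Lpn (LP (LK LD1_c8 LD2_c45 LD3_c40))))
theorem f420032 : Led Lsl_gt (LP (LK LD1_c6 LD2_c25 LD3_c16)) = (LP (LK LD1_c6 LD2_c38 LD3_c13)) :=
  Lgr Lrot94 (Lpr_cf (K8.f117716 IH) (Lpr_gt (K4.f64561 IH) (Lpr_dt (f161940 IH) (Lpe (K11.f161933 IH) (Lpe (K6.f81915 IH) (Lpr_cf (K8.f161747 IH) (Lpe (K8.f161237 IH) (Lpe (f161084 IH) (Lpr_df (f419875 IH) (Lpn (LP (LK LD1_c6 LD2_c38 LD3_c13))))))))))))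
theorem f149609 : Led Lsl_gt (LP (LK LD1_c3 LD2_c9 LD3_c58)) = (LP (LK LD1_c5 LD2_c55 LD3_c32)) :=
  Lgr Lrot150 (Lpe (K8.f69197 IH) (Lpr_gf (K8.f149588 IH) (Lpe (K7.f149581 IH) (Lpr_gt (K6.f24074 IH) (Lpr_ct (K6.f24073 IH) (Lpr_gt (K6.f37936 IH) (Lpr_ct (K6.f59536 IH) (Lpe (K8.f59562 IH) (Lpe (K8.f149608 IH) (Lpn (LP (LK LD1_c5 LD2_c55 LD3_c32))))))))))))
theorem f59557 : Led Lsl_gt (LP (LK LD1_c2 LD2_c54 LD3_c6)) = (LP (LK LD1_c5 LD2_c55 LD3_c31)) :=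
  Lre_g IH (LK LD1_c2 LD2_c54 LD3_c6) (LK LD1_c5 LD2_c55 LD3_c31) Lrfl Lrfl
theorem f59558 : Led Lsl_ct (LP (LK LD1_c5 LD2_c55 LD3_c31)) = (LP (LK LD1_c11 LD2_c36 LD3_c18)) :=
  Lre_c IH (LK LD1_c5 LD2_c55 LD3_c31) (LK LD1_c11 LD2_c36 LD3_c18) Lrfl Lrfl
theorem f419868 : Led Lsl_cf (LP (LK LD1_c12 LD2_c36 LD3_c53)) = (LP (LK LD1_c6 LD2_c38 LD3_c13)) :=
  Lgr Lrot11 (Lpr_ct (f419865 IH) (Lpn (LP (LK LD1_c6 LD2_c38 LD3_c13))))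
theorem f420036 : Led Lsl_df (LP (LK LD1_c11 LD2_c36 LD3_c18)) = (LP (LK LD1_c12 LD2_c36 LD3_c53)) :=
  Lgr Lrot162 (Lpe (f59558 IH) (Lpe (f59557 IH) (Lpe (K8.f149608 IH) (Lpe (f149609 IH) (Lpr_dt (f69198 IH) (Lpe (K8.f117679 IH) (Lpe (K8.f117716 IH) (Lpr_gt (f420032 IH) (Lpe (f419868 IH) (Lpn (LP (LK LD1_c12 LD2_c36 LD3_c53))))))))))))
theorem f149655 : Led Lsl_ct (LP (LK LD1_c11 LD2_c36 LD3_c18)) = (LP (LK LD1_c5 LD2_c55 LD3_c31)) :=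
  Lre_c IH (LK LD1_c11 LD2_c36 LD3_c18) (LK LD1_c5 LD2_c55 LD3_c31) Lrfl Lrfl
theorem f420039 : Led Lsl_df (LP (LK LD1_c5 LD2_c55 LD3_c31)) = (LP (LK LD1_c3 LD2_c10 LD3_c10)) :=
  Lgr Lrot84 (Lpe (f149655 IH) (Lpr_df (f420036 IH) (Lpe (f119641 IH) (Lpe (K7.f119711 IH) (Lpr_gf (K7.f119759 IH) (Lpe (K8.f158826 IH) (Lpr_gt (K8.f112487 IH) (Lpr_dt (K4.f112486 IH) (Lpr_gt (K8.f69210 IH) (Lpn (LP (LK LD1_c3 LD2_c10 LD3_c10))))))))))))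
theorem f420034 : Led Lsl_dt (LP (LK LD1_c11 LD2_c36 LD3_c18)) = (LP (LK LD1_c12 LD2_c36 LD3_c53)) :=
  Lgr Lrot27 (Lpe (f59558 IH) (Lpe (f59557 IH) (Lpe (K8.f149608 IH) (Lpe (f149609 IH) (Lpe (K7.f69240 IH) (Lpe (K8.f117679 IH) (Lpe (K8.f117716 IH) (Lpr_gt (f420032 IH) (Lpe (f419868 IH) (Lpn (LP (LK LD1_c12 LD2_c36 LD3_c53))))))))))))
theorem f498302 : Led Lsl_cf (LP (LK LD1_c8 LD2_c0 LD3_c30)) = (LP (LK LD1_c5 LD2_c55 LD3_c35)) :=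
  Lgr Lrot161 (Lpr_dt (f498290 IH) (Lpr_ct (K11.f205731 IH) (Lpe (f498288 IH) (Lpr_ff (f498294 IH) (Lpe (f420039 IH) (Lpr_ct (f59558 IH) (Lpr_dt (f420034 IH) (Lpr_ct (f419865 IH) (Lpe (f419875 IH) (Lpn (LP (LK LD1_c5 LD2_c55 LD3_c35))))))))))))
theorem f151232 : Led Lsl_dt (LP (LK LD1_c6 LD2_c38 LD3_c15)) = (LP (LK LD1_c3 LD2_c17 LD3_c27)) :=
  Lre_d IH (LK LD1_c6 LD2_c38 LD3_c15) (LK LD1_c3 LD2_c17 LD3_c27) Lrfl Lrfl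
theorem f420030 : Led Lsl_bt (LP (LK LD1_c5 LD2_c55 LD3_c35)) = (LP (LK LD1_c6 LD2_c38 LD3_c15)) :=
  Lgr Lrot95 (Lpr_df (f419875 IH) (Lpe (f419825 IH) (Lpe (f151232 IH) (Lpn (LP (LK LD1_c6 LD2_c38 LD3_c15))))))
theorem f420050 : Led Lsl_bf (LP (LK LD1_c5 LD2_c55 LD3_c35)) = (LP (LK LD1_c6 LD2_c38 LD3_c15)) :=
  Lgr Lrot24 (Lpr_bt (f420030 IH) (Lpn (LP (LK LD1_c6 LD2_c38 LD3_c15))))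
theorem f151456 : Led Lsl_ct (LP (LK LD1_c6 LD2_c28 LD3_c40)) = (LP (LK LD1_c7 LD2_c1 LD3_c22)) :=
  Lgr Lrot40 (Lpr_ff (K5.f128821 IH) (Lpr_cf (K7.f151451 IH) (Lpr_ff (K7.f151411 IH) (Lpn (LP (LK LD1_c7 LD2_c1 LD3_c22))))))
theorem f419883 : Led Lsl_gf (LP (LK LD1_c6 LD2_c28 LD3_c40)) = (LP (LK LD1_c3 LD2_c17 LD3_c27)) :=
  Lgr Lrot104 (Lpr_ct (f151456 IH) (Lpe (K7.f151402 IH) (Lpe (K6.f114437 IH) (Lpr_gf (f144881 IH) (Lpr_cf (K8.f132132 IH) (Lpe (K8.f162856 IH) (Lpr_df (K8.f110281 IH) (Lpr_gt (f419877 IH) (Lpr_ct (f62289 IH) (Lpn (LP (LK LD1_c3 LD2_c17 LD3_c27))))))))))))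
theorem f147963 : Led Lsl_ft (LP (LK LD1_c13 LD2_c19 LD3_c10)) = (LP (LK LD1_c13 LD2_c52 LD3_c61)) :=
  Lgr Lrot4 (Lpe (K6.f122075 IH) (Lpr_ff (K7.f147955 IH) (Lpe (K7.f12368 IH) (Lpn (LP (LK LD1_c13 LD2_c52 LD3_c61))))))
theorem f147979 : Led Lsl_af (LP (LK LD1_c14 LD2_c2 LD3_c57)) = (LP (LK LD1_c13 LD2_c52 LD3_c61)) :=
  Lgr Lrot109 (Lpe (K7.f142535 IH) (Lpr_df (K7.f147881 IH) (Lpr_cf (K6.f136945 IH) (Lpr_df (K6.f146664 IH) (Lpe (K6.f146715 IH) (Lpe (K6.f141978 IH) (Lpe (K6.f136157 IH) (Lpr_df (K6.f146724 IH) (Lpr_ft (f147963 IH) (Lpn (LP (LK LD1_c13 LD2_c52 LD3_c61))))))))))))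
theorem f147982 : Led Lsl_gf (LP (LK LD1_c9 LD2_c24 LD3_c4)) = (LP (LK LD1_c13 LD2_c19 LD3_c10)) :=
  Lgr Lrot47 (Lpe (K7.f147839 IH) (Lpr_af (f147979 IH) (Lpe (f147963 IH) (Lpn (LP (LK LD1_c13 LD2_c19 LD3_c10))))))
theorem f419885 : Led Lsl_gt (LP (LK LD1_c3 LD2_c17 LD3_c58)) = (LP (LK LD1_c6 LD2_c38 LD3_c15)) :=
  Lgr Lrot94 (Lpe (K6.f65223 IH) (Lpr_gt (K6.f136010 IH) (Lpr_dt (K6.f146726 IH) (Lpe (f147982 IH) (Lpr_dt (K5.f128520 IH) (Lpe (K5.f120000 IH) (Lpe (K5.f128506 IH) (Lpr_gf (f419883 IH) (Lpe (f151232 IH) (Lpn (LP (LK LD1_c6 LD2_c38 LD3_c15))))))))))))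
theorem f151224 : Led Lsl_gt (LP (LK LD1_c9 LD2_c23 LD3_c48)) = (LP (LK LD1_c6 LD2_c39 LD3_c34)) :=
  Lgr Lrot5 (Lpr_ft (K7.f151216 IH) (Lpe (K7.f151210 IH) (Lpe (K6.f136010 IH) (Lpn (LP (LK LD1_c6 LD2_c39 LD3_c34))))))
theorem f151218 : Led Lsl_bf (LP (LK LD1_c9 LD2_c23 LD3_c48)) = (LP (LK LD1_c6 LD2_c35 LD3_c47)) :=
  Lgr Lrot61 (Lpr_ft (K7.f151216 IH) (Lpr_bt (K7.f98887 IH) (Lpr_ft (K7.f151064 IH) (Lpn (LP (LK LD1_c6 LD2_c35 LD3_c47))))))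
theorem f109911 : Led Lsl_bt (LP (LK LD1_c4 LD2_c46 LD3_c33)) = (LP (LK LD1_c2 LD2_c21 LD3_c14)) :=
  Lre_b IH (LK LD1_c4 LD2_c46 LD3_c33) (LK LD1_c2 LD2_c21 LD3_c14) Lrfl Lrfl
theorem f419892 : Led Lsl_ct (LP (LK LD1_c4 LD2_c46 LD3_c33)) = (LP (LK LD1_c6 LD2_c38 LD3_c15)) :=
  Lgr Lrot63 (Lpr_bt (f109911 IH) (Lpr_gt (K4.f26446 IH) (Lpe (K7.f112617 IH) (Lpr_ct (K4.f14352 IH) (Lpr_gt (K6.f109908 IH) (Lpe (K7.f99187 IH) (Lpe (f151218 IH) (Lpr_gt (f151224 IH) (Lpr_ct (K6.f65223 IH) (Lpr_gt (f419885 IH) (Lpn (LP (LK LD1_c6 LD2_c38 LD3_c15)))))))))))))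
theorem f150396 : Led Lsl_bt (LP (LK LD1_c2 LD2_c21 LD3_c14)) = (LP (LK LD1_c4 LD2_c46 LD3_c33)) :=
  Lre_b IH (LK LD1_c2 LD2_c21 LD3_c14) (LK LD1_c4 LD2_c46 LD3_c33) Lrfl Lrfl
theorem f498306 : Led Lsl_bt (LP (LK LD1_c8 LD2_c0 LD3_c30)) = (LP (LK LD1_c4 LD2_c46 LD3_c34)) :=
  Lgr Lrot128 (Lpr_cf (f498302 IH) (Lpr_bf (f420050 IH) (Lpe (f419892 IH) (Lpe (f150396 IH) (Lpe (K8.f104950 IH) (Lpn (LP (LK LD1_c4 LD2_c46 LD3_c34))))))))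
theorem f35243 : Led Lsl_dt (LP (LK LD1_c0 LD2_c29 LD3_c33)) = (LP (LK LD1_c1 LD2_c4 LD3_c35)) :=
  Lre_d IH (LK LD1_c0 LD2_c29 LD3_c33) (LK LD1_c1 LD2_c4 LD3_c35) Lrfl Lrfl
theorem f129028 : Led Lsl_bt (LP (LK LD1_c3 LD2_c13 LD3_c27)) = (LP (LK LD1_c6 LD2_c30 LD3_c39)) :=
  Lre_b IH (LK LD1_c3 LD2_c13 LD3_c27) (LK LD1_c6 LD2_c30 LD3_c39) Lrfl Lrfl
theorem f96755 : Led Lsl_gt (LP (LK LD1_c6 LD2_c30 LD3_c39)) = (LP (LK LD1_c12 LD2_c30 LD3_c18)) :=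
  Lre_g IH (LK LD1_c6 LD2_c30 LD3_c39) (LK LD1_c12 LD2_c30 LD3_c18) Lrfl Lrfl
theorem f498045 : Led Lsl_cf (LP (LK LD1_c17 LD2_c13 LD3_c14)) = (LP (LK LD1_c9 LD2_c49 LD3_c30)) :=
  Lgr Lrot11 (Lpr_ct (f498040 IH) (Lpn (LP (LK LD1_c9 LD2_c49 LD3_c30))))
theorem f498028 : Led Lsl_bt (LP (LK LD1_c11 LD2_c49 LD3_c0)) = (LP (LK LD1_c9 LD2_c49 LD3_c30)) :=
  Lgr Lrot95 (Lpr_df (K5.f116801 IH) (Lpe (K28.f116808 IH) (Lpr_df (f498026 IH) (Lpn (LP (LK LD1_c9 LD2_c49 LD3_c30))))))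
theorem f498069 : Led Lsl_bf (LP (LK LD1_c6 LD2_c25 LD3_c16)) = (LP (LK LD1_c6 LD2_c38 LD3_c52)) :=
  Lgr Lrot90 (Lpr_ct (K8.f117719 IH) (Lpr_bt (f498028 IH) (Lpe (f498045 IH) (Lpr_bt (f150655 IH) (Lpr_ct (f498067 IH) (Lpn (LP (LK LD1_c6 LD2_c38 LD3_c52))))))))
theorem f498318 : Led Lsl_dt (LP (LK LD1_c12 LD2_c30 LD3_c18)) = (LP (LK LD1_c9 LD2_c18 LD3_c10)) :=
  Lgr Lrot182 (Lpe (f96755 IH) (Lpe (f129028 IH) (Lpr_cf (K5.f129023 IH) (Lpe (K5.f128935 IH) (Lpe (K5.f82354 IH) (Lpr_bf (K8.f83023 IH) (Lpe (K8.f25188 IH) (Lpe (f35243 IH) (Lpe (K7.f26594 IH) (Lpr_bf (K8.f101612 IH) (Lpe (K8.f72587 IH) (Lpe (K8.f72586 IH) (Lpe (K8.f150391 IH) (Lpe (f498306 IH) (Lpr_cf (f498302 IH) (Lpr_df (f419875 IH) (Lpe (f420032 IH) (Lpr_bf (f498069 IH) (Lpe (f498067 IH) (Lpn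 (LP (LK LD1_c9 LD2_c18 LD3_c10))))))))))))))))))))))
theorem f130362 : Led Lsl_dt (LP (LK LD1_c7 LD2_c30 LD3_c38)) = (LP (LK LD1_c4 LD2_c41 LD3_c47)) :=
  Lgr Lrot44 (Lpe (K4.f93228 IH) (Lpe (K8.f93217 IH) (Lpr_af (K8.f130358 IH) (Lpn (LP (LK LD1_c4 LD2_c41 LD3_c47))))))
theorem f203523 : Led Lsl_dt (LP (LK LD1_c14 LD2_c33 LD3_c5)) = (LP (LK LD1_c13 LD2_c6 LD3_c35)) :=
  Lgr Lrot79 (Lpe (f203522 IH) (Lpr_df (K11.f203520 IH) (Lpe (K28.f112092 IH) (Lpn (LP (LK LD1_c13 LD2_c6 LD3_c35))))))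
theorem f498051 : Led Lsl_gf (LP (LK LD1_c17 LD2_c13 LD3_c14)) = (LP (LK LD1_c14 LD2_c33 LD3_c5)) :=
  Lgr Lrot147 (Lpr_ct (f498040 IH) (Lpe (f498036 IH) (Lpr_ct (K8.f124450 IH) (Lpe (f130362 IH) (Lpr_cf (K4.f93223 IH) (Lpe (K8.f126490 IH) (Lpr_cf (K8.f129422 IH) (Lpr_gf (K8.f111442 IH) (Lpe (f203523 IH) (Lpn (LP (LK LD1_c14 LD2_c33 LD3_c5))))))))))))
theorem f498055 : Led Lsl_dt (LP (LK LD1_c17 LD2_c13 LD3_c14)) = (LP (LK LD1_c14 LD2_c13 LD3_c50)) :=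
  Lgr Lrot105 (Lpr_gf (f498051 IH) (Lpr_df (K28.f203533 IH) (Lpe (K8.f129465 IH) (Lpr_cf (K8.f129467 IH) (Lpr_gt (K8.f95634 IH) (Lpr_dt (K8.f95630 IH) (Lpe (K5.f123964 IH) (Lpr_dt (K6.f130450 IH) (Lpe (K6.f130446 IH) (Lpn (LP (LK LD1_c14 LD2_c13 LD3_c50))))))))))))
theorem f498331 : Led Lsl_bf (LP (LK LD1_c12 LD2_c30 LD3_c18)) = (LP (LK LD1_c14 LD2_c13 LD3_c50)) :=
  Lgr Lrot93 (Lpr_dt (f498318 IH) (Lpr_bt (f498044 IH) (Lpr_dt (f498055 IH) (Lpn (LP (LK LD1_c14 LD2_c13 LD3_c50))))))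
theorem f509237 : Led Lsl_gf (LP (LK LD1_c6 LD2_c50 LD3_c23)) = (LP (LK LD1_c12 LD2_c30 LD3_c18)) :=
  Lgr Lrot124 (Lpe (f207833 IH) (Lpr_ct (f509235 IH) (Lpe (f509236 IH) (Lpr_cf (f208416 IH) (Lpe (K8.f156760 IH) (Lpr_gt (K6.f130228 IH) (Lpr_ct (K5.f93264 IH) (Lpr_gt (K6.f130448 IH) (Lpe (K6.f130446 IH) (Lpe (f498331 IH) (Lpn (LP (LK LD1_c12 LD2_c30 LD3_c18)))))))))))))
theorem f509238 : Led Lsl_gt (LP (LK LD1_c12 LD2_c30 LD3_c18)) = (LP (LK LD1_c6 LD2_c50 LD3_c23)) :=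
  Leop (Lpr_gf (f509237 IH) (Lpn (LP (LK LD1_c12 LD2_c30 LD3_c18))))
theorem seed_149 : LEOK LG_g (LK LD1_c12 LD2_c30 LD3_c18) :=
  Leoe_g (LK LD1_c12 LD2_c30 LD3_c18) (f509238 IH)
def v2200 : LQ := Led Lsl_dt (LP (LK LD1_c1 LD2_c37 LD3_c8))
theorem f509577 : Led Lsl_dt (LP (LK LD1_c1 LD2_c37 LD3_c8)) = v2200 :=
  Lrfl
theorem f416179 : Led Lsl_et (LP (LK LD1_c0 LD2_c44 LD3_c56)) = (LP (LK LD1_c1 LD2_c37 LD3_c8)) :=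
  Lre_e IH (LK LD1_c0 LD2_c44 LD3_c56) (LK LD1_c1 LD2_c37 LD3_c8) Lrfl Lrfl
theorem f416178 : Led Lsl_dt (LP (LK LD1_c1 LD2_c37 LD3_c7)) = (LP (LK LD1_c0 LD2_c44 LD3_c56)) :=
  Lre_d IH (LK LD1_c1 LD2_c37 LD3_c7) (LK LD1_c0 LD2_c44 LD3_c56) Lrfl Lrfl
def v1370 : LQ := Led Lsl_dt (LP (LK LD1_c1 LD2_c8 LD3_c25))
theorem f495177 : Led Lsl_dt (LP (LK LD1_c1 LD2_c8 LD3_c25)) = v1370 :=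
  Lrfl
theorem f495179 : Led Lsl_df (LP (LK LD1_c1 LD2_c8 LD3_c25)) = v1370 :=
  Lgr Lrot38 (Lpr_dt (f495177 IH) (Lpn v1370))
theorem f509581 : Led Lsl_ef v1370 = v2200 :=
  Lgr Lrot73 (Lpe (f495179 IH) (Lpr_et (K24.f415303 IH) (Lpr_dt (f416178 IH) (Lpr_et (f416179 IH) (Lpr_dt (f509577 IH) (Lpn v2200))))))
theorem f413688 : Led Lsl_ct (LP (LK LD1_c2 LD2_c22 LD3_c39)) = (LP (LK LD1_c4 LD2_c49 LD3_c44)) :=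
  Lre_c IH (LK LD1_c2 LD2_c22 LD3_c39) (LK LD1_c4 LD2_c49 LD3_c44) Lrfl Lrfl
theorem f141109 : Led Lsl_ct (LP (LK LD1_c3 LD2_c21 LD3_c43)) = (LP (LK LD1_c1 LD2_c37 LD3_c9)) :=
  Lre_c IH (LK LD1_c3 LD2_c21 LD3_c43) (LK LD1_c1 LD2_c37 LD3_c9) Lrfl Lrfl
theorem f454308 : Led Lsl_ft (LP (LK LD1_c4 LD2_c49 LD3_c44)) = (LP (LK LD1_c3 LD2_c21 LD3_c43)) :=
  Lgr Lrot4 (Lpe (f413688 IH) (Lpr_ff (K24.f454303 IH) (Lpe (f141109 IH) (Lpn (LP (LK LD1_c3 LD2_c21 LD3_c43))))))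
theorem f454322 : Led Lsl_ff (LP (LK LD1_c4 LD2_c49 LD3_c44)) = (LP (LK LD1_c3 LD2_c21 LD3_c43)) :=
  Lgr Lrot3 (Lpr_ft (f454308 IH) (Lpn (LP (LK LD1_c3 LD2_c21 LD3_c43))))
theorem f454340 : Led Lsl_bt (LP (LK LD1_c1 LD2_c37 LD3_c6)) = (LP (LK LD1_c3 LD2_c21 LD3_c43)) :=
  Lre_b IH (LK LD1_c1 LD2_c37 LD3_c6) (LK LD1_c3 LD2_c21 LD3_c43) Lrfl Lrfl
theorem f454341 : Led Lsl_ft (LP (LK LD1_c2 LD2_c22 LD3_c37)) = (LP (LK LD1_c1 LD2_c37 LD3_c6)) :=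
  Lgr Lrot75 (Lpe (K24.f416187 IH) (Lpr_ff (f454322 IH) (Lpe (f454340 IH) (Lpn (LP (LK LD1_c1 LD2_c37 LD3_c6))))))
theorem f454373 : Led Lsl_ct (LP (LK LD1_c1 LD2_c37 LD3_c6)) = (LP (LK LD1_c0 LD2_c44 LD3_c56)) :=
  Lre_c IH (LK LD1_c1 LD2_c37 LD3_c6) (LK LD1_c0 LD2_c44 LD3_c56) Lrfl Lrfl
theorem f454411 : Led Lsl_ff (LP (LK LD1_c1 LD2_c8 LD3_c25)) = (LP (LK LD1_c0 LD2_c44 LD3_c56)) :=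
  Lgr Lrot23 (Lpr_ct (K24.f76946 IH) (Lpr_ft (f454341 IH) (Lpr_ct (f454373 IH) (Lpn (LP (LK LD1_c0 LD2_c44 LD3_c56))))))
theorem f495180 : Led Lsl_ff (LP (LK LD1_c1 LD2_c37 LD3_c7)) = v1370 :=
  Lgr Lrot19 (Lpr_dt (f416178 IH) (Lpe (f454411 IH) (Lpr_dt (f495177 IH) (Lpn v1370))))
theorem f454424 : Led Lsl_ft (LP (LK LD1_c1 LD2_c8 LD3_c25)) = (LP (LK LD1_c0 LD2_c44 LD3_c56)) :=
  Lgr Lrot48 (Lpr_ff (f454411 IH) (Lpn (LP (LK LD1_c0 LD2_c44 LD3_c56))))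
theorem f509586 : Led Lsl_ft (LP (LK LD1_c1 LD2_c37 LD3_c8)) = v2200 :=
  Lgr Lrot86 (Lpe (f416179 IH) (Lpe (f454424 IH) (Lpr_ef (K24.f416180 IH) (Lpr_ff (f495180 IH) (Lpr_ef (f509581 IH) (Lpn v2200))))))
theorem f509587 : Led Lsl_ff (LP (LK LD1_c1 LD2_c37 LD3_c8)) = v2200 :=
  Lgr Lrot3 (Lpr_ft (f509586 IH) (Lpn v2200))
theorem f454612 : Led Lsl_at (LP (LK LD1_c1 LD2_c37 LD3_c8)) = (LP (LK LD1_c3 LD2_c21 LD3_c41)) :=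
  Lre_a IH (LK LD1_c1 LD2_c37 LD3_c8) (LK LD1_c3 LD2_c21 LD3_c41) Lrfl Lrfl
theorem f454619 : Led Lsl_ct (LP (LK LD1_c6 LD2_c46 LD3_c60)) = (LP (LK LD1_c3 LD2_c21 LD3_c41)) :=
  Lre_c IH (LK LD1_c6 LD2_c46 LD3_c60) (LK LD1_c3 LD2_c21 LD3_c41) Lrfl Lrfl
theorem f454627 : Led Lsl_dt (LP (LK LD1_c12 LD2_c56 LD3_c59)) = (LP (LK LD1_c6 LD2_c46 LD3_c60)) :=
  Lre_d IH (LK LD1_c12 LD2_c56 LD3_c59) (LK LD1_c6 LD2_c46 LD3_c60) Lrfl Lrfl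
theorem f509588 : Led Lsl_ct (LP (LK LD1_c22 LD2_c6 LD3_c39)) = (LP (LK LD1_c12 LD2_c56 LD3_c59)) :=
  Lre_c IH (LK LD1_c22 LD2_c6 LD3_c39) (LK LD1_c12 LD2_c56 LD3_c59) Lrfl Lrfl
theorem f509580 : Led Lsl_df (LP (LK LD1_c1 LD2_c37 LD3_c8)) = v2200 :=
  Lgr Lrot38 (Lpr_dt (f509577 IH) (Lpn v2200))
theorem f442857 : Led Lsl_ct (LP (LK LD1_c1 LD2_c37 LD3_c8)) = (LP (LK LD1_c3 LD2_c21 LD3_c45)) :=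
  Lre_c IH (LK LD1_c1 LD2_c37 LD3_c8) (LK LD1_c3 LD2_c21 LD3_c45) Lrfl Lrfl
theorem f509570 : Led Lsl_dt (LP (LK LD1_c3 LD2_c21 LD3_c45)) = (LP (LK LD1_c6 LD2_c47 LD3_c12)) :=
  Lre_d IH (LK LD1_c3 LD2_c21 LD3_c45) (LK LD1_c6 LD2_c47 LD3_c12) Lrfl Lrfl
theorem f509589 : Led Lsl_ct (LP (LK LD1_c6 LD2_c47 LD3_c12)) = (LP (LK LD1_c12 LD2_c57 LD3_c27)) :=
  Lre_c IH (LK LD1_c6 LD2_c47 LD3_c12) (LK LD1_c12 LD2_c57 LD3_c27) Lrfl Lrfl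
theorem f509590 : Led Lsl_df (LP (LK LD1_c22 LD2_c6 LD3_c39)) = (LP (LK LD1_c12 LD2_c57 LD3_c27)) :=
  Lgr Lrot13 (Lpr_ct (f509588 IH) (Lpr_dt (f454627 IH) (Lpr_ct (f454619 IH) (Lpe (f454612 IH) (Lpr_ff (f509587 IH) (Lpe (f509580 IH) (Lpr_ct (f442857 IH) (Lpr_dt (f509570 IH) (Lpr_ct (f509589 IH) (Lpn (LP (LK LD1_c12 LD2_c57 LD3_c27))))))))))))
theorem f509591 : Led Lsl_dt (LP (LK LD1_c12 LD2_c57 LD3_c27)) = (LP (LK LD1_c22 LD2_c6 LD3_c39)) :=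
  Leop (Lpr_df (f509590 IH) (Lpn (LP (LK LD1_c12 LD2_c57 LD3_c27))))
theorem seed_150 : LEOK LG_d (LK LD1_c12 LD2_c57 LD3_c27) :=
  Leoe_d (LK LD1_c12 LD2_c57 LD3_c27) (f509591 IH)
def v2235 : LQ := Led Lsl_ct (LP (LK LD1_c1 LD2_c38 LD3_c23))
theorem f509792 : Led Lsl_ct (LP (LK LD1_c1 LD2_c38 LD3_c23)) = v2235 :=
  Lrfl
theorem f509796 : Led Lsl_dt (LP (LK LD1_c3 LD2_c2 LD3_c39)) = v2235 :=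
  Lgr Lrot113 (Lpe (K17.f23044 IH) (Lpe (K0.f23043 IH) (Lpe (K16.f59890 IH) (Lpe (K17.f414630 IH) (Lpr_gt (K9.f66968 IH) (Lpr_dt (K2.f67075 IH) (Lpr_gt (K9.f61207 IH) (Lpr_dt (K24.f73784 IH) (Lpr_ct (f509792 IH) (Lpn v2235))))))))))
theorem f59878 : Led Lsl_ef (LP (LK LD1_c1 LD2_c27 LD3_c17)) = (LP (LK LD1_c1 LD2_c20 LD3_c46)) :=
  Lgr Lrot73 (Lpr_dt (K16.f27134 IH) (Lpr_et (K0.f23042 IH) (Lpr_dt (K1.f59817 IH) (Lpr_et (K1.f59877 IH) (Lpr_dt (K10.f59820 IH) (Lpn (LP (LK LD1_c1 LD2_c20 LD3_c46))))))))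
theorem f180365 : Led Lsl_et (LP (LK LD1_c2 LD2_c49 LD3_c13)) = (LP (LK LD1_c5 LD2_c46 LD3_c55)) :=
  Lre_e IH (LK LD1_c2 LD2_c49 LD3_c13) (LK LD1_c5 LD2_c46 LD3_c55) Lrfl Lrfl
theorem f180375 : Led Lsl_gt (LP (LK LD1_c11 LD2_c23 LD3_c59)) = (LP (LK LD1_c5 LD2_c46 LD3_c55)) :=
  Lre_g IH (LK LD1_c11 LD2_c23 LD3_c59) (LK LD1_c5 LD2_c46 LD3_c55) Lrfl Lrfl
def v2233 : LQ := Led Lsl_gt (LP (LK LD1_c1 LD2_c38 LD3_c23))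
theorem f509778 : Led Lsl_gt (LP (LK LD1_c1 LD2_c38 LD3_c23)) = v2233 :=
  Lrfl
def v267 : LQ := Led Lsl_gf K29.v81
theorem f451466 : Led Lsl_gf K29.v81 = v267 :=
  Lrfl
def v1120 : LQ := Led Lsl_et v267
theorem f491591 : Led Lsl_et v267 = v1120 :=
  Lrfl
theorem f491592 : Led Lsl_ef v267 = v1120 :=
  Lgr Lrot88 (Lpr_et (f491591 IH) (Lpn v1120))
theorem f509780 : Led Lsl_dt v1120 = v2233 :=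
  Lgr Lrot56 (Lpe (f491592 IH) (Lpe (f451466 IH) (Lpe (K29.f446807 IH) (Lpr_dt (K1.f23380 IH) (Lpe (K2.f23373 IH) (Lpe (K1.f3826 IH) (Lpr_et (K9.f13560 IH) (Lpr_gt (K9.f61207 IH) (Lpr_dt (K24.f73784 IH) (Lpr_gt (f509778 IH) (Lpn v2233)))))))))))
theorem f509781 : Led Lsl_df v1120 = v2233 :=
  Lgr Lrot38 (Lpr_dt (f509780 IH) (Lpn v2233))
theorem f452350 : Led Lsl_gf v267 = K29.v349 :=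
  Lgr Lrot47 (Lpe (f451466 IH) (Lpe (K29.f446811 IH) (Lpr_ff (K29.f452345 IH) (Lpn K29.v349))))
theorem f509783 : Led Lsl_gf (LP (LK LD1_c1 LD2_c38 LD3_c26)) = v2233 :=
  Lgr Lrot145 (Lpe (K9.f13574 IH) (Lpr_et (K24.f13569 IH) (Lpe (K24.f442819 IH) (Lpr_dt (K24.f26282 IH) (Lpe (K24.f435564 IH) (Lpe (K24.f82678 IH) (Lpr_et (K29.f452349 IH) (Lpe (f452350 IH) (Lpr_ef (f491592 IH) (Lpr_dt (f509780 IH) (Lpn v2233)))))))))))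
theorem f140021 : Led Lsl_cf (LP (LK LD1_c2 LD2_c22 LD3_c28)) = (LP (LK LD1_c1 LD2_c38 LD3_c26)) :=
  Lgr Lrot11 (Lpr_ct (K9.f139994 IH) (Lpn (LP (LK LD1_c1 LD2_c38 LD3_c26))))
theorem f417124 : Led Lsl_gt (LP (LK LD1_c2 LD2_c22 LD3_c28)) = (LP (LK LD1_c3 LD2_c21 LD3_c34)) :=
  Lgr Lrot49 (Lpr_df (K9.f27125 IH) (Lpe (K0.f27117 IH) (Lpe (K16.f75907 IH) (Lpr_gt (K17.f9205 IH) (Lpe (K17.f414084 IH) (Lpr_gt (K24.f417122 IH) (Lpr_dt (K24.f414425 IH) (Lpr_cf (K24.f416686 IH) (Lpe (K24.f416683 IH) (Lpn (LP (LK LD1_c3 LD2_c21 LD3_c34))))))))))))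
theorem f416677 : Led Lsl_ct (LP (LK LD1_c6 LD2_c45 LD3_c29)) = (LP (LK LD1_c3 LD2_c21 LD3_c35)) :=
  Lgr Lrot59 (Lpr_cf (K24.f416660 IH) (Lpn (LP (LK LD1_c3 LD2_c21 LD3_c35))))
theorem f140008 : Led Lsl_cf (LP (LK LD1_c4 LD2_c40 LD3_c5)) = (LP (LK LD1_c3 LD2_c12 LD3_c44)) :=
  Lgr Lrot11 (Lpr_ct (K24.f139996 IH) (Lpn (LP (LK LD1_c3 LD2_c12 LD3_c44))))
theorem f506735 : Led Lsl_cf (LP (LK LD1_c4 LD2_c49 LD3_c31)) = v1980 :=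
  Lgr Lrot55 (Lpr_dt (K17.f73938 IH) (Lpr_ct (K24.f73945 IH) (Lpe (K24.f141056 IH) (Lpr_ct (K24.f61045 IH) (Lpr_dt (K24.f27038 IH) (Lpr_ct (K17.f61039 IH) (Lpr_dt (K24.f61029 IH) (Lpe (f140008 IH) (Lpe (K0.f27062 IH) (Lpr_ct (K17.f27100 IH) (Lpe (K24.f413958 IH) (Lpr_ct (K24.f22867 IH) (Lpr_dt (K24.f22895 IH) (Lpr_ct (K24.f139976 IH) (Lpr_dt (f506734 IH) (Lpn v1980))))))))))))))))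
theorem f509785 : Led Lsl_gf v1980 = v1120 :=
  Lgr Lrot147 (Lpe (f506735 IH) (Lpr_gt (K24.f416726 IH) (Lpr_ct (f416677 IH) (Lpe (K24.f416665 IH) (Lpe (K24.f416655 IH) (Lpe (f417124 IH) (Lpr_cf (f140021 IH) (Lpr_gf (f509783 IH) (Lpe (f509780 IH) (Lpn v1120))))))))))
theorem f506736 : Led Lsl_df (LP (LK LD1_c1 LD2_c32 LD3_c48)) = v1980 :=
  Lgr Lrot38 (Lpr_dt (f506734 IH) (Lpn v1980))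
theorem f414525 : Led Lsl_dt (LP (LK LD1_c3 LD2_c21 LD3_c33)) = (LP (LK LD1_c6 LD2_c46 LD3_c48)) :=
  Lre_d IH (LK LD1_c3 LD2_c21 LD3_c33) (LK LD1_c6 LD2_c46 LD3_c48) Lrfl Lrfl
theorem f509795 : Led Lsl_gf (LP (LK LD1_c3 LD2_c21 LD3_c33)) = v2235 :=
  Lgr Lrot148 (Lpr_dt (f414525 IH) (Lpe (K24.f416736 IH) (Lpr_dt (K24.f22895 IH) (Lpr_ct (K24.f139976 IH) (Lpr_df (f506736 IH) (Lpr_gf (f509785 IH) (Lpr_df (f509781 IH) (Lpe (f509778 IH) (Lpr_ct (f509792 IH) (Lpn v2235))))))))))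
theorem f509798 : Led Lsl_ef (LP (LK LD1_c11 LD2_c23 LD3_c59)) = (LP (LK LD1_c6 LD2_c46 LD3_c48)) :=
  Lgr Lrot114 (Lpr_gt (f180375 IH) (Lpe (f180365 IH) (Lpr_dt (K10.f175858 IH) (Lpr_gt (K10.f175847 IH) (Lpe (K10.f60122 IH) (Lpe (f59878 IH) (Lpr_gt (K17.f23044 IH) (Lpr_dt (f509796 IH) (Lpe (f509795 IH) (Lpe (K24.f414524 IH) (Lpn (LP (LK LD1_c6 LD2_c46 LD3_c48)))))))))))))
theorem f509799 : Led Lsl_et (LP (LK LD1_c6 LD2_c46 LD3_c48)) = (LP (LK LD1_c11 LD2_c23 LD3_c59)) :=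
  Leop (Lpr_ef (f509798 IH) (Lpn (LP (LK LD1_c6 LD2_c46 LD3_c48))))
theorem seed_151 : LEOK LG_e (LK LD1_c6 LD2_c46 LD3_c48) :=
  Leoe_e (LK LD1_c6 LD2_c46 LD3_c48) (f509799 IH)
theorem f509797 : Led Lsl_et (LP (LK LD1_c3 LD2_c2 LD3_c39)) = (LP (LK LD1_c6 LD2_c12 LD3_c10)) :=
  Lre_e IH (LK LD1_c3 LD2_c2 LD3_c39) (LK LD1_c6 LD2_c12 LD3_c10) Lrfl Lrfl
theorem f509800 : Led Lsl_gt (LP (LK LD1_c12 LD2_c4 LD3_c1)) = (LP (LK LD1_c6 LD2_c12 LD3_c10)) :=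
  Lre_g IH (LK LD1_c12 LD2_c4 LD3_c1) (LK LD1_c6 LD2_c12 LD3_c10) Lrfl Lrfl
theorem f180364 : Led Lsl_et (LP (LK LD1_c5 LD2_c5 LD3_c56)) = (LP (LK LD1_c2 LD2_c30 LD3_c15)) :=
  Lre_e IH (LK LD1_c5 LD2_c5 LD3_c56) (LK LD1_c2 LD2_c30 LD3_c15) Lrfl Lrfl
theorem f180366 : Led Lsl_df (LP (LK LD1_c5 LD2_c5 LD3_c56)) = (LP (LK LD1_c5 LD2_c46 LD3_c55)) :=
  Lgr Lrot70 (Lpr_et (f180364 IH) (Lpr_dt (K10.f166251 IH) (Lpr_et (K10.f180360 IH) (Lpr_dt (K10.f175854 IH) (Lpr_et (f180365 IH) (Lpn (LP (LK LD1_c5 LD2_c46 LD3_c55))))))))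
theorem f180376 : Led Lsl_gt (LP (LK LD1_c5 LD2_c5 LD3_c56)) = (LP (LK LD1_c10 LD2_c2 LD3_c49)) :=
  Lre_g IH (LK LD1_c5 LD2_c5 LD3_c56) (LK LD1_c10 LD2_c2 LD3_c49) Lrfl Lrfl
theorem f180378 : Led Lsl_dt (LP (LK LD1_c18 LD2_c21 LD3_c6)) = (LP (LK LD1_c10 LD2_c2 LD3_c49)) :=
  Lre_d IH (LK LD1_c18 LD2_c21 LD3_c6) (LK LD1_c10 LD2_c2 LD3_c49) Lrfl Lrfl
theorem f509801 : Led Lsl_ef (LP (LK LD1_c12 LD2_c4 LD3_c1)) = (LP (LK LD1_c18 LD2_c21 LD3_c6)) :=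
  Lgr Lrot114 (Lpr_gt (f509800 IH) (Lpe (f509797 IH) (Lpr_dt (f509796 IH) (Lpe (f509795 IH) (Lpe (K24.f414524 IH) (Lpe (f509798 IH) (Lpr_gt (f180375 IH) (Lpe (f180366 IH) (Lpr_gt (f180376 IH) (Lpe (f180378 IH) (Lpn (LP (LK LD1_c18 LD2_c21 LD3_c6)))))))))))))
theorem f509802 : Led Lsl_et (LP (LK LD1_c18 LD2_c21 LD3_c6)) = (LP (LK LD1_c12 LD2_c4 LD3_c1)) :=
  Leop (Lpr_ef (f509801 IH) (Lpn (LP (LK LD1_c18 LD2_c21 LD3_c6))))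
theorem seed_152 : LEOK LG_e (LK LD1_c18 LD2_c21 LD3_c6) :=
  Leoe_e (LK LD1_c18 LD2_c21 LD3_c6) (f509802 IH)
def v2163 : LQ := Led Lsl_gf (LP (LK LD1_c1 LD2_c36 LD3_c44))
theorem f509408 : Led Lsl_gf (LP (LK LD1_c1 LD2_c36 LD3_c44)) = v2163 :=
  Lrfl
theorem f509413 : Led Lsl_df (LP (LK LD1_c6 LD2_c12 LD3_c3)) = v2163 :=
  Lgr Lrot155 (Lpr_gt (K24.f59829 IH) (Lpr_ct (K24.f59836 IH) (Lpr_gt (K24.f59832 IH) (Lpe (K24.f416366 IH) (Lpr_dt (K17.f79835 IH) (Lpe (f79834 IH) (Lpr_gf (K24.f416535 IH) (Lpe (K24.f139980 IH) (Lpr_gf (f509408 IH) (Lpn v2163))))))))))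
def v1704 : LQ := Led Lsl_at (LP (LK LD1_c1 LD2_c24 LD3_c18))
theorem f500942 : Led Lsl_at (LP (LK LD1_c1 LD2_c24 LD3_c18)) = v1704 :=
  Lrfl
def v553 : LQ := Led Lsl_at (LP (LK LD1_c0 LD2_c44 LD3_c40))
theorem f453960 : Led Lsl_at (LP (LK LD1_c0 LD2_c44 LD3_c40)) = v553 :=
  Lrfl
theorem f453961 : Led Lsl_af (LP (LK LD1_c0 LD2_c44 LD3_c40)) = v553 :=
  Lgr Lrot0 (Lpr_at (f453960 IH) (Lpn v553))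
theorem f500944 : Led Lsl_cf v553 = v1704 :=
  Lgr Lrot1 (Lpe (f453961 IH) (Lpr_ct (f435293 IH) (Lpr_at (f500942 IH) (Lpn v1704))))
theorem f500945 : Led Lsl_ct v553 = v1704 :=
  Lgr Lrot59 (Lpr_cf (f500944 IH) (Lpn v1704))
def v1363 : LQ := Led Lsl_ft (LP (LK LD1_c1 LD2_c8 LD3_c13))
theorem f495125 : Led Lsl_ft (LP (LK LD1_c1 LD2_c8 LD3_c13)) = v1363 :=
  Lrfl
theorem f495127 : Led Lsl_ff (LP (LK LD1_c1 LD2_c8 LD3_c13)) = v1363 :=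
  Lgr Lrot3 (Lpr_ft (f495125 IH) (Lpn v1363))
theorem f453962 : Led Lsl_ft (LP (LK LD1_c0 LD2_c44 LD3_c41)) = v553 :=
  Lgr Lrot2 (Lpr_gt (K16.f57140 IH) (Lpr_gt (K24.f57129 IH) (Lpr_af (f453961 IH) (Lpn v553))))
def v556 : LQ := Led Lsl_ft (LP (LK LD1_c0 LD2_c44 LD3_c40))
theorem f453968 : Led Lsl_ft (LP (LK LD1_c0 LD2_c44 LD3_c40)) = v556 :=
  Lrfl
theorem f453969 : Led Lsl_af (LP (LK LD1_c0 LD2_c44 LD3_c41)) = v556 :=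
  Lgr Lrot45 (Lpr_ft (f453962 IH) (Lpe (f453961 IH) (Lpr_ft (f453968 IH) (Lpn v556))))
def v1360 : LQ := Led Lsl_at (LP (LK LD1_c1 LD2_c8 LD3_c13))
theorem f495114 : Led Lsl_at (LP (LK LD1_c1 LD2_c8 LD3_c13)) = v1360 :=
  Lrfl
theorem f495115 : Led Lsl_af (LP (LK LD1_c1 LD2_c8 LD3_c13)) = v1360 :=
  Lgr Lrot0 (Lpr_at (f495114 IH) (Lpn v1360))
theorem f495116 : Led Lsl_ft (LP (LK LD1_c1 LD2_c8 LD3_c14)) = v1360 :=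
  Lgr Lrot2 (Lpr_gt (K24.f23279 IH) (Lpr_gt (K29.f23280 IH) (Lpr_af (f495115 IH) (Lpn v1360))))
theorem f495117 : Led Lsl_ff (LP (LK LD1_c1 LD2_c8 LD3_c14)) = v1360 :=
  Lgr Lrot3 (Lpr_ft (f495116 IH) (Lpn v1360))
theorem f495128 : Led Lsl_at (LP (LK LD1_c1 LD2_c8 LD3_c14)) = v1363 :=
  Lgr Lrot66 (Lpr_ff (f495117 IH) (Lpe (f495114 IH) (Lpr_ff (f495127 IH) (Lpn v1363))))
theorem f507917 : Led Lsl_et v519 = v2048 :=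
  Lgr Lrot87 (Lpr_ef (f507916 IH) (Lpn v2048))
theorem f435431 : Led Lsl_et (LP (LK LD1_c1 LD2_c7 LD3_c24)) = (LP (LK LD1_c2 LD2_c20 LD3_c14)) :=
  Lre_e IH (LK LD1_c1 LD2_c7 LD3_c24) (LK LD1_c2 LD2_c20 LD3_c14) Lrfl Lrfl
def v1336 : LQ := Led Lsl_ft (LP (LK LD1_c1 LD2_c7 LD3_c24))
theorem f494907 : Led Lsl_ft (LP (LK LD1_c1 LD2_c7 LD3_c24)) = v1336 :=
  Lrfl
theorem f494909 : Led Lsl_ff (LP (LK LD1_c1 LD2_c7 LD3_c24)) = v1336 :=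
  Lgr Lrot3 (Lpr_ft (f494907 IH) (Lpn v1336))
theorem f507921 : Led Lsl_ff (LP (LK LD1_c3 LD2_c19 LD3_c35)) = v2048 :=
  Lgr Lrot3 (Lpr_ft (f507918 IH) (Lpn v2048))
theorem f507922 : Led Lsl_ft (LP (LK LD1_c3 LD2_c2 LD3_c51)) = (LP (LK LD1_c1 LD2_c34 LD3_c12)) :=
  Lgr Lrot86 (Lpe (K29.f416936 IH) (Lpr_ff (f507921 IH) (Lpe (f507917 IH) (Lpe (f453756 IH) (Lpe (K24.f206544 IH) (Lpn (LP (LK LD1_c1 LD2_c34 LD3_c12))))))))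
theorem f507928 : Led Lsl_af (LP (LK LD1_c2 LD2_c20 LD3_c16)) = (LP (LK LD1_c1 LD2_c34 LD3_c12)) :=
  Lgr Lrot31 (Lpr_gf (f446160 IH) (Lpr_gf (K24.f416793 IH) (Lpr_ft (f507922 IH) (Lpn (LP (LK LD1_c1 LD2_c34 LD3_c12))))))
def v1333 : LQ := Led Lsl_at (LP (LK LD1_c1 LD2_c7 LD3_c24))
theorem f494899 : Led Lsl_at (LP (LK LD1_c1 LD2_c7 LD3_c24)) = v1333 :=
  Lrfl
theorem f494900 : Led Lsl_af (LP (LK LD1_c1 LD2_c7 LD3_c24)) = v1333 :=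
  Lgr Lrot0 (Lpr_at (f494899 IH) (Lpn v1333))
theorem f494901 : Led Lsl_ft (LP (LK LD1_c1 LD2_c7 LD3_c25)) = v1333 :=
  Lgr Lrot2 (Lpr_gt (f206523 IH) (Lpr_gt (f206522 IH) (Lpr_af (f494900 IH) (Lpn v1333))))
theorem f494902 : Led Lsl_ff (LP (LK LD1_c1 LD2_c7 LD3_c25)) = v1333 :=
  Lgr Lrot3 (Lpr_ft (f494901 IH) (Lpn v1333))
theorem f494910 : Led Lsl_at (LP (LK LD1_c1 LD2_c7 LD3_c25)) = v1336 :=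
  Lgr Lrot66 (Lpr_ff (f494902 IH) (Lpe (f494899 IH) (Lpr_ff (f494909 IH) (Lpn v1336))))
theorem f507936 : v1336 = (LP (LK LD1_c0 LD2_c43 LD3_c42)) :=
  (Llr Lrot80 (Lpe (f494910 IH) (Lpe (f436223 IH) (Lpr_af (f507928 IH) (Lpe (f180341 IH) (Lpn (LP (LK LD1_c0 LD2_c43 LD3_c42)))))))).symm
theorem f507940 : (LP (LK LD1_c1 LD2_c7 LD3_c24)) = v519 :=
  Lefun (Lecon (Lfl_ff (f494909 IH)) (f507936 IH)) (f453756 IH)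
theorem f507963 : v2048 = (LP (LK LD1_c2 LD2_c20 LD3_c14)) :=
  Lefun (Lecon (f507917 IH) (f507940 IH).symm) (f435431 IH)
theorem f507970 : Led Lsl_ff (LP (LK LD1_c1 LD2_c36 LD3_c11)) = (LP (LK LD1_c2 LD2_c21 LD3_c59)) :=
  Lgr Lrot19 (Lpr_dt (K29.f24684 IH) (Lpr_ft (f507918 IH) (Lpqs (f507963 IH) (Lpr_dt (f92141 IH) (Lpn (LP (LK LD1_c2 LD2_c21 LD3_c59)))))))
theorem f507976 : Led Lsl_at (LP (LK LD1_c1 LD2_c36 LD3_c11)) = (LP (LK LD1_c2 LD2_c21 LD3_c58)) :=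
  Lgr Lrot26 (Lpr_ff (f507970 IH) (Lpr_gt (f68457 IH) (Lpr_gt (K24.f20124 IH) (Lpn (LP (LK LD1_c2 LD2_c21 LD3_c58))))))
theorem f507984 : Led Lsl_af (LP (LK LD1_c1 LD2_c36 LD3_c26)) = (LP (LK LD1_c2 LD2_c22 LD3_c10)) :=
  Lgr Lrot50 (Lpe (f416938 IH) (Lpr_at (f507976 IH) (Lpr_et (K24.f135527 IH) (Lpn (LP (LK LD1_c2 LD2_c22 LD3_c10))))))
theorem f453970 : Led Lsl_ff (LP (LK LD1_c0 LD2_c44 LD3_c40)) = v556 :=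
  Lgr Lrot3 (Lpr_ft (f453968 IH) (Lpn v556))
theorem f453963 : Led Lsl_ff (LP (LK LD1_c0 LD2_c44 LD3_c41)) = v553 :=
  Lgr Lrot3 (Lpr_ft (f453962 IH) (Lpn v553))
theorem f453971 : Led Lsl_at (LP (LK LD1_c0 LD2_c44 LD3_c41)) = v556 :=
  Lgr Lrot66 (Lpr_ff (f453963 IH) (Lpe (f453960 IH) (Lpr_ff (f453970 IH) (Lpn v556))))
theorem f507992 : v556 = (LP (LK LD1_c1 LD2_c8 LD3_c14)) :=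
  (Llr Lrot51 (Lpe (f453971 IH) (Lpe (K24.f57142 IH) (Lpr_af (f507984 IH) (Lpe (K29.f135526 IH) (Lpn (LP (LK LD1_c1 LD2_c8 LD3_c14)))))))).symm
theorem f507993 : (LP (LK LD1_c0 LD2_c44 LD3_c41)) = v1363 :=
  Lefun (Lecon (Lfl_af (f453969 IH)) (f507992 IH)) (f495128 IH)
theorem f508004 : (LP (LK LD1_c1 LD2_c8 LD3_c13)) = v553 :=
  Lefun (Lecon (Lfl_ff (f495127 IH)) (f507993 IH).symm) (f453962 IH)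
theorem f508009 : v1704 = (LP (LK LD1_c2 LD2_c16 LD3_c20)) :=
  Lefun (Lecon (f500945 IH) (f508004 IH).symm) (f435484 IH)
theorem f500946 : Led Lsl_ft (LP (LK LD1_c1 LD2_c24 LD3_c19)) = v1704 :=
  Lgr Lrot4 (Lpe (K16.f415424 IH) (Lpr_ff (f453963 IH) (Lpr_cf (f500944 IH) (Lpn v1704))))
theorem f508015 : Led Lsl_ff (LP (LK LD1_c2 LD2_c57 LD3_c8)) = (LP (LK LD1_c4 LD2_c38 LD3_c39)) :=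
  Lgr Lrot19 (Lpr_dt (K16.f69111 IH) (Lpr_ft (f500946 IH) (Lpqs (f508009 IH) (Lpr_dt (K11.f59499 IH) (Lpn (LP (LK LD1_c4 LD2_c38 LD3_c39)))))))
theorem f416827 : Led Lsl_ft (LP (LK LD1_c1 LD2_c33 LD3_c45)) = (LP (LK LD1_c3 LD2_c14 LD3_c29)) :=
  Lre_f IH (LK LD1_c1 LD2_c33 LD3_c45) (LK LD1_c3 LD2_c14 LD3_c29) Lrfl Lrfl
theorem f446164 : Led Lsl_af (LP (LK LD1_c3 LD2_c20 LD3_c5)) = (LP (LK LD1_c3 LD2_c14 LD3_c29)) :=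
  Lgr Lrot31 (Lpe (f415351 IH) (Lpr_gf (f446162 IH) (Lpr_ft (f416827 IH) (Lpn (LP (LK LD1_c3 LD2_c14 LD3_c29))))))
theorem f415435 : Led Lsl_ct (LP (LK LD1_c3 LD2_c20 LD3_c5)) = (LP (LK LD1_c6 LD2_c2 LD3_c9)) :=
  Lgr Lrot59 (Lpr_cf (K16.f415430 IH) (Lpn (LP (LK LD1_c6 LD2_c2 LD3_c9))))
theorem f24477 : Led Lsl_dt (LP (LK LD1_c1 LD2_c23 LD3_c23)) = (LP (LK LD1_c0 LD2_c38 LD3_c33)) :=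
  Lre_d IH (LK LD1_c1 LD2_c23 LD3_c23) (LK LD1_c0 LD2_c38 LD3_c33) Lrfl Lrfl
theorem f71336 : Led Lsl_at (LP (LK LD1_c2 LD2_c15 LD3_c26)) = (LP (LK LD1_c1 LD2_c23 LD3_c23)) :=
  Lgr Lrot51 (Lpe (f23026 IH) (Lpr_af (K2.f71326 IH) (Lpe (f24477 IH) (Lpn (LP (LK LD1_c1 LD2_c23 LD3_c23))))))
theorem f71378 : Led Lsl_ft (LP (LK LD1_c4 LD2_c36 LD3_c34)) = (LP (LK LD1_c2 LD2_c15 LD3_c26)) :=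
  Lre_f IH (LK LD1_c4 LD2_c36 LD3_c34) (LK LD1_c2 LD2_c15 LD3_c26) Lrfl Lrfl
theorem f23926 : Led Lsl_gt (LP (LK LD1_c2 LD2_c54 LD3_c59)) = (LP (LK LD1_c1 LD2_c23 LD3_c23)) :=
  Lre_g IH (LK LD1_c2 LD2_c54 LD3_c59) (LK LD1_c1 LD2_c23 LD3_c23) Lrfl Lrfl
theorem f442867 : Led Lsl_gt (LP (LK LD1_c4 LD2_c36 LD3_c34)) = (LP (LK LD1_c2 LD2_c54 LD3_c59)) :=
  Lgr Lrot5 (Lpr_ft (f71378 IH) (Lpr_at (f71336 IH) (Lpe (f23926 IH) (Lpn (LP (LK LD1_c2 LD2_c54 LD3_c59))))))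
theorem f71385 : Led Lsl_dt (LP (LK LD1_c2 LD2_c15 LD3_c27)) = (LP (LK LD1_c4 LD2_c36 LD3_c34)) :=
  Lre_d IH (LK LD1_c2 LD2_c15 LD3_c27) (LK LD1_c4 LD2_c36 LD3_c34) Lrfl Lrfl
theorem f71354 : Led Lsl_af (LP (LK LD1_c2 LD2_c15 LD3_c27)) = (LP (LK LD1_c1 LD2_c23 LD3_c24)) :=
  Lgr Lrot0 (Lpr_at (K2.f71339 IH) (Lpn (LP (LK LD1_c1 LD2_c23 LD3_c24))))
theorem f82898 : Led Lsl_gt (LP (LK LD1_c0 LD2_c38 LD3_c33)) = (LP (LK LD1_c1 LD2_c23 LD3_c21)) :=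
  Lre_g IH (LK LD1_c0 LD2_c38 LD3_c33) (LK LD1_c1 LD2_c23 LD3_c21) Lrfl Lrfl
theorem f442859 : Led Lsl_gf (LP (LK LD1_c2 LD2_c15 LD3_c27)) = (LP (LK LD1_c1 LD2_c23 LD3_c21)) :=
  Lgr Lrot76 (Lpr_af (f71354 IH) (Lpe (K2.f82226 IH) (Lpr_gt (f82898 IH) (Lpn (LP (LK LD1_c1 LD2_c23 LD3_c21))))))
theorem f68372 : Led Lsl_ct (LP (LK LD1_c3 LD2_c14 LD3_c33)) = (LP (LK LD1_c1 LD2_c33 LD3_c47)) :=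
  Lre_c IH (LK LD1_c3 LD2_c14 LD3_c33) (LK LD1_c1 LD2_c33 LD3_c47) Lrfl Lrfl
theorem f435407 : Led Lsl_ef (LP (LK LD1_c3 LD2_c14 LD3_c33)) = (LP (LK LD1_c2 LD2_c16 LD3_c27)) :=
  Lgr Lrot28 (Lpr_ct (f68372 IH) (Lpr_et (K24.f68363 IH) (Lpr_ct (f435403 IH) (Lpn (LP (LK LD1_c2 LD2_c16 LD3_c27))))))
theorem f435444 : Led Lsl_et (LP (LK LD1_c3 LD2_c14 LD3_c33)) = (LP (LK LD1_c2 LD2_c16 LD3_c27)) :=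
  Lgr Lrot87 (Lpr_ef (f435407 IH) (Lpn (LP (LK LD1_c2 LD2_c16 LD3_c27))))
theorem f435447 : Led Lsl_dt (LP (LK LD1_c3 LD2_c14 LD3_c33)) = (LP (LK LD1_c2 LD2_c54 LD3_c59)) :=
  Lgr Lrot136 (Lpr_et (f435444 IH) (Lpe (K8.f27026 IH) (Lpe (K8.f26932 IH) (Lpe (K0.f26608 IH) (Lpr_gf (K0.f26936 IH) (Lpe (K0.f22836 IH) (Lpe (K0.f23906 IH) (Lpe (K0.f23864 IH) (Lpr_dt (K0.f23784 IH) (Lpe (f23926 IH) (Lpn (LP (LK LD1_c2 LD2_c54 LD3_c59)))))))))))))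
theorem f435452 : Led Lsl_df (LP (LK LD1_c3 LD2_c14 LD3_c33)) = (LP (LK LD1_c2 LD2_c54 LD3_c59)) :=
  Lgr Lrot38 (Lpr_dt (f435447 IH) (Lpn (LP (LK LD1_c2 LD2_c54 LD3_c59))))
theorem f442871 : Led Lsl_cf (LP (LK LD1_c1 LD2_c23 LD3_c21)) = (LP (LK LD1_c0 LD2_c43 LD3_c26)) :=
  Lgr Lrot166 (Lpe (f442859 IH) (Lpr_dt (f71385 IH) (Lpr_gt (f442867 IH) (Lpe (f435452 IH) (Lpr_ct (f68372 IH) (Lpe (K24.f22730 IH) (Lpe (f151950 IH) (Lpr_df (K24.f144060 IH) (Lpr_gf (K24.f151942 IH) (Lpn (LP (LK LD1_c0 LD2_c43 LD3_c26))))))))))))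
theorem f442876 : Led Lsl_et (LP (LK LD1_c1 LD2_c23 LD3_c21)) = (LP (LK LD1_c2 LD2_c54 LD3_c54)) :=
  Lre_e IH (LK LD1_c1 LD2_c23 LD3_c21) (LK LD1_c2 LD2_c54 LD3_c54) Lrfl Lrfl
theorem f442877 : Led Lsl_ct (LP (LK LD1_c2 LD2_c54 LD3_c54)) = (LP (LK LD1_c1 LD2_c33 LD3_c45)) :=
  Lgr Lrot15 (Lpe (f442876 IH) (Lpr_cf (f442871 IH) (Lpe (f135433 IH) (Lpn (LP (LK LD1_c1 LD2_c33 LD3_c45))))))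
theorem f442892 : Led Lsl_ft (LP (LK LD1_c5 LD2_c57 LD3_c19)) = (LP (LK LD1_c2 LD2_c54 LD3_c54)) :=
  Lre_f IH (LK LD1_c5 LD2_c57 LD3_c19) (LK LD1_c2 LD2_c54 LD3_c54) Lrfl Lrfl
theorem f442893 : Led Lsl_cf (LP (LK LD1_c5 LD2_c57 LD3_c19)) = (LP (LK LD1_c3 LD2_c14 LD3_c29)) :=
  Lgr Lrot108 (Lpr_ft (f442892 IH) (Lpr_ct (f442877 IH) (Lpr_ft (f416827 IH) (Lpn (LP (LK LD1_c3 LD2_c14 LD3_c29))))))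
theorem f442917 : Led Lsl_ct (LP (LK LD1_c5 LD2_c57 LD3_c19)) = (LP (LK LD1_c3 LD2_c14 LD3_c29)) :=
  Lgr Lrot59 (Lpr_cf (f442893 IH) (Lpn (LP (LK LD1_c3 LD2_c14 LD3_c29))))
theorem f446170 : Led Lsl_at (LP (LK LD1_c6 LD2_c2 LD3_c9)) = (LP (LK LD1_c5 LD2_c57 LD3_c19)) :=
  Lgr Lrot107 (Lpe (f415435 IH) (Lpr_af (f446164 IH) (Lpe (f442917 IH) (Lpn (LP (LK LD1_c5 LD2_c57 LD3_c19))))))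
theorem f446172 : Led Lsl_af (LP (LK LD1_c6 LD2_c2 LD3_c9)) = (LP (LK LD1_c5 LD2_c57 LD3_c19)) :=
  Lgr Lrot0 (Lpr_at (f446170 IH) (Lpn (LP (LK LD1_c5 LD2_c57 LD3_c19))))
theorem f442925 : Led Lsl_ft (LP (LK LD1_c2 LD2_c54 LD3_c54)) = (LP (LK LD1_c5 LD2_c57 LD3_c19)) :=
  Lre_f IH (LK LD1_c2 LD2_c54 LD3_c54) (LK LD1_c5 LD2_c57 LD3_c19) Lrfl Lrfl
theorem f446174 : Led Lsl_gf (LP (LK LD1_c4 LD2_c40 LD3_c8)) = (LP (LK LD1_c2 LD2_c54 LD3_c54)) :=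
  Lgr Lrot47 (Lpe (K16.f421007 IH) (Lpr_af (f446172 IH) (Lpe (f442925 IH) (Lpn (LP (LK LD1_c2 LD2_c54 LD3_c54))))))
theorem f442890 : Led Lsl_cf (LP (LK LD1_c2 LD2_c54 LD3_c54)) = (LP (LK LD1_c1 LD2_c33 LD3_c45)) :=
  Lgr Lrot11 (Lpr_ct (f442877 IH) (Lpn (LP (LK LD1_c1 LD2_c33 LD3_c45))))
theorem f446176 : Led Lsl_gt (LP (LK LD1_c9 LD2_c13 LD3_c8)) = (LP (LK LD1_c4 LD2_c38 LD3_c40)) :=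
  Lgr Lrot49 (Lpr_df (K11.f445893 IH) (Lpr_gf (f446174 IH) (Lpr_cf (f442890 IH) (Lpe (f446162 IH) (Lpr_dt (f23283 IH) (Lpr_gt (f437964 IH) (Lpr_dt (K24.f84346 IH) (Lpe (f416696 IH) (Lpe (K24.f26816 IH) (Lpn (LP (LK LD1_c4 LD2_c38 LD3_c40))))))))))))
theorem f508019 : Led Lsl_at (LP (LK LD1_c2 LD2_c57 LD3_c8)) = (LP (LK LD1_c4 LD2_c38 LD3_c40)) :=
  Lgr Lrot26 (Lpr_ff (f508015 IH) (Lpr_gt (K11.f59500 IH) (Lpr_gt (f446176 IH) (Lpn (LP (LK LD1_c4 LD2_c38 LD3_c40))))))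
theorem f444242 : Led Lsl_et (LP (LK LD1_c6 LD2_c2 LD3_c6)) = (LP (LK LD1_c2 LD2_c57 LD3_c8)) :=
  Lre_e IH (LK LD1_c6 LD2_c2 LD3_c6) (LK LD1_c2 LD2_c57 LD3_c8) Lrfl Lrfl
theorem f508025 : Led Lsl_af (LP (LK LD1_c6 LD2_c2 LD3_c6)) = (LP (LK LD1_c9 LD2_c13 LD3_c11)) :=
  Lgr Lrot50 (Lpr_et (f444242 IH) (Lpr_at (f508019 IH) (Lpr_et (K24.f26818 IH) (Lpn (LP (LK LD1_c9 LD2_c13 LD3_c11))))))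
theorem f413429 : Led Lsl_dt (LP (LK LD1_c6 LD2_c2 LD3_c6)) = (LP (LK LD1_c11 LD2_c48 LD3_c44)) :=
  Lre_d IH (LK LD1_c6 LD2_c2 LD3_c6) (LK LD1_c11 LD2_c48 LD3_c44) Lrfl Lrfl
theorem f508029 : Led Lsl_at (LP (LK LD1_c11 LD2_c48 LD3_c44)) = (LP (LK LD1_c12 LD2_c56 LD3_c51)) :=
  Lgr Lrot51 (Lpe (f413429 IH) (Lpr_af (f508025 IH) (Lpr_df (K24.f416706 IH) (Lpn (LP (LK LD1_c12 LD2_c56 LD3_c51))))))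
theorem f416556 : Led Lsl_et (LP (LK LD1_c6 LD2_c2 LD3_c7)) = (LP (LK LD1_c11 LD2_c48 LD3_c44)) :=
  Lre_e IH (LK LD1_c6 LD2_c2 LD3_c7) (LK LD1_c11 LD2_c48 LD3_c44) Lrfl Lrfl
theorem f508033 : Led Lsl_af (LP (LK LD1_c6 LD2_c2 LD3_c7)) = (LP (LK LD1_c6 LD2_c46 LD3_c50)) :=
  Lgr Lrot50 (Lpr_et (f416556 IH) (Lpr_at (f508029 IH) (Lpr_et (K24.f416694 IH) (Lpn (LP (LK LD1_c6 LD2_c46 LD3_c50))))))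
theorem f508041 : Led Lsl_ft (LP (LK LD1_c6 LD2_c12 LD3_c3)) = (LP (LK LD1_c6 LD2_c46 LD3_c50)) :=
  Lgr Lrot2 (Lpr_gt (K24.f59829 IH) (Lpe (K16.f59827 IH) (Lpr_af (f508033 IH) (Lpn (LP (LK LD1_c6 LD2_c46 LD3_c50))))))
theorem f509417 : Led Lsl_ft (LP (LK LD1_c3 LD2_c21 LD3_c34)) = v2163 :=
  Lgr Lrot54 (Lpe (K24.f416656 IH) (Lpe (f508041 IH) (Lpr_df (f509413 IH) (Lpn v2163))))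
theorem f508039 : Led Lsl_at (LP (LK LD1_c2 LD2_c57 LD3_c9)) = (LP (LK LD1_c3 LD2_c21 LD3_c34)) :=
  Lgr Lrot51 (Lpe (K16.f59830 IH) (Lpr_af (f508033 IH) (Lpe (K24.f416683 IH) (Lpn (LP (LK LD1_c3 LD2_c21 LD3_c34))))))
theorem f508045 : Led Lsl_ff (LP (LK LD1_c6 LD2_c12 LD3_c3)) = (LP (LK LD1_c6 LD2_c46 LD3_c50)) :=
  Lgr Lrot3 (Lpr_ft (f508041 IH) (Lpn (LP (LK LD1_c6 LD2_c46 LD3_c50))))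
theorem f508049 : Led Lsl_at (LP (LK LD1_c6 LD2_c12 LD3_c3)) = (LP (LK LD1_c6 LD2_c46 LD3_c48)) :=
  Lgr Lrot26 (Lpr_ff (f508045 IH) (Lpe (K24.f416710 IH) (Lpr_gt (K24.f416612 IH) (Lpn (LP (LK LD1_c6 LD2_c46 LD3_c48))))))
theorem f508035 : Led Lsl_at (LP (LK LD1_c6 LD2_c2 LD3_c7)) = (LP (LK LD1_c6 LD2_c46 LD3_c50)) :=
  Lgr Lrot100 (Lpr_af (f508033 IH) (Lpn (LP (LK LD1_c6 LD2_c46 LD3_c50))))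
theorem f508055 : Led Lsl_ff (LP (LK LD1_c6 LD2_c2 LD3_c7)) = (LP (LK LD1_c6 LD2_c46 LD3_c48)) :=
  Lgr Lrot30 (Lpr_at (f508035 IH) (Lpe (f508045 IH) (Lpr_at (f508049 IH) (Lpn (LP (LK LD1_c6 LD2_c46 LD3_c48))))))
theorem f508061 : Led Lsl_ft (LP (LK LD1_c6 LD2_c2 LD3_c7)) = (LP (LK LD1_c6 LD2_c46 LD3_c48)) :=
  Lgr Lrot48 (Lpr_ff (f508055 IH) (Lpn (LP (LK LD1_c6 LD2_c46 LD3_c48))))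
theorem f508065 : Led Lsl_ff (LP (LK LD1_c2 LD2_c57 LD3_c9)) = (LP (LK LD1_c3 LD2_c21 LD3_c33)) :=
  Lgr Lrot19 (Lpr_dt (K16.f59825 IH) (Lpr_ft (f508061 IH) (Lpr_dt (K24.f414524 IH) (Lpn (LP (LK LD1_c3 LD2_c21 LD3_c33))))))
theorem f509418 : Led Lsl_af (LP (LK LD1_c3 LD2_c21 LD3_c33)) = v2163 :=
  Lgr Lrot45 (Lpe (f508065 IH) (Lpr_at (f508039 IH) (Lpr_ft (f509417 IH) (Lpn v2163))))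
theorem f509811 : Led Lsl_gt (LP (LK LD1_c3 LD2_c21 LD3_c34)) = v2235 :=
  Lgr Lrot5 (Lpr_ft (f509417 IH) (Lpe (f509418 IH) (Lpr_gf (f509795 IH) (Lpn v2235))))
theorem f23128 : Led Lsl_et (LP (LK LD1_c2 LD2_c13 LD3_c46)) = (LP (LK LD1_c4 LD2_c33 LD3_c51)) :=
  Lre_e IH (LK LD1_c2 LD2_c13 LD3_c46) (LK LD1_c4 LD2_c33 LD3_c51) Lrfl Lrfl
theorem f23129 : Led Lsl_dt (LP (LK LD1_c4 LD2_c33 LD3_c51)) = (LP (LK LD1_c9 LD2_c5 LD3_c14)) :=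
  Lre_d IH (LK LD1_c4 LD2_c33 LD3_c51) (LK LD1_c9 LD2_c5 LD3_c14) Lrfl Lrfl
theorem f23130 : Led Lsl_ef (LP (LK LD1_c4 LD2_c40 LD3_c56)) = (LP (LK LD1_c9 LD2_c5 LD3_c14)) :=
  Lgr Lrot73 (Lpr_dt (K24.f22895 IH) (Lpr_et (f23118 IH) (Lpr_dt (f22932 IH) (Lpr_et (f23128 IH) (Lpr_dt (f23129 IH) (Lpn (LP (LK LD1_c9 LD2_c5 LD3_c14))))))))
theorem f23115 : Led Lsl_dt (LP (LK LD1_c9 LD2_c5 LD3_c14)) = (LP (LK LD1_c4 LD2_c33 LD3_c51)) :=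
  Lre_d IH (LK LD1_c9 LD2_c5 LD3_c14) (LK LD1_c4 LD2_c33 LD3_c51) Lrfl Lrfl
theorem f396299 : Led Lsl_ft (LP (LK LD1_c5 LD2_c49 LD3_c45)) = (LP (LK LD1_c11 LD2_c28 LD3_c11)) :=
  Lre_f IH (LK LD1_c5 LD2_c49 LD3_c45) (LK LD1_c11 LD2_c28 LD3_c11) Lrfl Lrfl
theorem f396282 : Led Lsl_ft (LP (LK LD1_c11 LD2_c28 LD3_c11)) = (LP (LK LD1_c5 LD2_c49 LD3_c45)) :=
  Lre_f IH (LK LD1_c11 LD2_c28 LD3_c11) (LK LD1_c5 LD2_c49 LD3_c45) Lrfl Lrfl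
theorem f281881 : Led Lsl_ft (LP (LK LD1_c5 LD2_c43 LD3_c9)) = (LP (LK LD1_c11 LD2_c16 LD3_c29)) :=
  Lre_f IH (LK LD1_c5 LD2_c43 LD3_c9) (LK LD1_c11 LD2_c16 LD3_c29) Lrfl Lrfl
theorem f396283 : Led Lsl_af (LP (LK LD1_c11 LD2_c28 LD3_c11)) = (LP (LK LD1_c11 LD2_c16 LD3_c29)) :=
  Lgr Lrot45 (Lpr_ft (f396282 IH) (Lpr_at (K24.f396275 IH) (Lpr_ft (f281881 IH) (Lpn (LP (LK LD1_c11 LD2_c16 LD3_c29))))))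
theorem f396285 : Led Lsl_at (LP (LK LD1_c11 LD2_c28 LD3_c11)) = (LP (LK LD1_c11 LD2_c16 LD3_c29)) :=
  Lgr Lrot100 (Lpr_af (f396283 IH) (Lpn (LP (LK LD1_c11 LD2_c16 LD3_c29))))
theorem f396348 : Led Lsl_gf (LP (LK LD1_c11 LD2_c16 LD3_c29)) = (LP (LK LD1_c9 LD2_c13 LD3_c11)) :=
  Lgr Lrot76 (Lpe (f396285 IH) (Lpe (f396299 IH) (Lpr_gt (K24.f396346 IH) (Lpn (LP (LK LD1_c9 LD2_c13 LD3_c11))))))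
theorem f26967 : Led Lsl_et (LP (LK LD1_c4 LD2_c32 LD3_c19)) = (LP (LK LD1_c2 LD2_c13 LD3_c13)) :=
  Lre_e IH (LK LD1_c4 LD2_c32 LD3_c19) (LK LD1_c2 LD2_c13 LD3_c13) Lrfl Lrfl
theorem f268681 : Led Lsl_ft (LP (LK LD1_c9 LD2_c2 LD3_c21)) = (LP (LK LD1_c4 LD2_c32 LD3_c19)) :=
  Lre_f IH (LK LD1_c9 LD2_c2 LD3_c21) (LK LD1_c4 LD2_c32 LD3_c19) Lrfl Lrfl
theorem f268682 : Led Lsl_ef (LP (LK LD1_c9 LD2_c2 LD3_c21)) = (LP (LK LD1_c11 LD2_c24 LD3_c3)) :=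
  Lgr Lrot21 (Lpr_ft (f268681 IH) (Lpr_et (f26967 IH) (Lpr_ft (K16.f268674 IH) (Lpr_et (K16.f68734 IH) (Lpr_ft (K16.f68761 IH) (Lpn (LP (LK LD1_c11 LD2_c24 LD3_c3))))))))
theorem f27014 : Led Lsl_et (LP (LK LD1_c2 LD2_c13 LD3_c13)) = (LP (LK LD1_c4 LD2_c32 LD3_c19)) :=
  Lre_e IH (LK LD1_c2 LD2_c13 LD3_c13) (LK LD1_c4 LD2_c32 LD3_c19) Lrfl Lrfl
theorem f68616 : Led Lsl_et (LP (LK LD1_c2 LD2_c47 LD3_c6)) = (LP (LK LD1_c1 LD2_c19 LD3_c57)) :=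
  Lre_e IH (LK LD1_c2 LD2_c47 LD3_c6) (LK LD1_c1 LD2_c19 LD3_c57) Lrfl Lrfl
theorem f268672 : Led Lsl_at (LP (LK LD1_c4 LD2_c32 LD3_c19)) = (LP (LK LD1_c2 LD2_c47 LD3_c6)) :=
  Lgr Lrot80 (Lpe (f27014 IH) (Lpr_af (K16.f268664 IH) (Lpe (f68616 IH) (Lpn (LP (LK LD1_c2 LD2_c47 LD3_c6))))))
theorem f68860 : Led Lsl_gt (LP (LK LD1_c5 LD2_c42 LD3_c18)) = (LP (LK LD1_c2 LD2_c47 LD3_c6)) :=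
  Lre_g IH (LK LD1_c5 LD2_c42 LD3_c18) (LK LD1_c2 LD2_c47 LD3_c6) Lrfl Lrfl
theorem f412316 : Led Lsl_gt (LP (LK LD1_c9 LD2_c2 LD3_c21)) = (LP (LK LD1_c5 LD2_c42 LD3_c18)) :=
  Lgr Lrot5 (Lpr_ft (f268681 IH) (Lpr_at (f268672 IH) (Lpe (f68860 IH) (Lpn (LP (LK LD1_c5 LD2_c42 LD3_c18))))))
theorem f140685 : Led Lsl_dt (LP (LK LD1_c1 LD2_c19 LD3_c56)) = (LP (LK LD1_c2 LD2_c47 LD3_c6)) :=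
  Lre_d IH (LK LD1_c1 LD2_c19 LD3_c56) (LK LD1_c2 LD2_c47 LD3_c6) Lrfl Lrfl
theorem f174611 : Led Lsl_gt (LP (LK LD1_c2 LD2_c13 LD3_c40)) = (LP (LK LD1_c4 LD2_c33 LD3_c29)) :=
  Lre_g IH (LK LD1_c2 LD2_c13 LD3_c40) (LK LD1_c4 LD2_c33 LD3_c29) Lrfl Lrfl
theorem f174612 : Led Lsl_et (LP (LK LD1_c9 LD2_c4 LD3_c36)) = (LP (LK LD1_c4 LD2_c33 LD3_c29)) :=
  Lre_e IH (LK LD1_c9 LD2_c4 LD3_c36) (LK LD1_c4 LD2_c33 LD3_c29) Lrfl Lrfl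
theorem f225944 : Led Lsl_df (LP (LK LD1_c5 LD2_c42 LD3_c18)) = (LP (LK LD1_c9 LD2_c4 LD3_c36)) :=
  Lgr Lrot170 (Lpr_gt (f68860 IH) (Lpe (f140685 IH) (Lpr_et (K20.f174123 IH) (Lpr_gt (K12.f68582 IH) (Lpr_dt (K12.f225926 IH) (Lpe (K9.f174621 IH) (Lpr_df (K9.f174531 IH) (Lpr_et (K13.f174608 IH) (Lpr_gt (f174611 IH) (Lpe (f174612 IH) (Lpn (LP (LK LD1_c9 LD2_c4 LD3_c36)))))))))))))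
theorem f225951 : Led Lsl_dt (LP (LK LD1_c5 LD2_c42 LD3_c18)) = (LP (LK LD1_c9 LD2_c4 LD3_c36)) :=
  Lgr Lrot42 (Lpr_df (f225944 IH) (Lpn (LP (LK LD1_c9 LD2_c4 LD3_c36))))
theorem f416708 : Led Lsl_gt (LP (LK LD1_c9 LD2_c4 LD3_c36)) = (LP (LK LD1_c4 LD2_c33 LD3_c51)) :=
  Lgr Lrot139 (Lpe (f225951 IH) (Lpe (f412316 IH) (Lpr_ef (f268682 IH) (Lpr_dt (K16.f281871 IH) (Lpr_gf (f396348 IH) (Lpr_df (K24.f416706 IH) (Lpr_et (K24.f416694 IH) (Lpe (K24.f416657 IH) (Lpr_ef (f23130 IH) (Lpr_dt (f23115 IH) (Lpn (LP (LK LD1_c4 LD2_c33 LD3_c51)))))))))))))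
theorem f225953 : Led Lsl_et (LP (LK LD1_c5 LD2_c42 LD3_c18)) = (LP (LK LD1_c11 LD2_c14 LD3_c50)) :=
  Lre_e IH (LK LD1_c5 LD2_c42 LD3_c18) (LK LD1_c11 LD2_c14 LD3_c50) Lrfl Lrfl
theorem f509812 : Led Lsl_gf (LP (LK LD1_c11 LD2_c14 LD3_c50)) = (LP (LK LD1_c6 LD2_c12 LD3_c10)) :=
  Lgr Lrot141 (Lpe (f225953 IH) (Lpr_dt (f225951 IH) (Lpr_gt (f416708 IH) (Lpe (f23115 IH) (Lpe (f23130 IH) (Lpr_gt (K24.f416657 IH) (Lpr_dt (K24.f416656 IH) (Lpr_gt (f509811 IH) (Lpe (f509796 IH) (Lpr_et (f509797 IH) (Lpn (LP (LK LD1_c6 LD2_c12 LD3_c10)))))))))))))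
theorem f509813 : Led Lsl_gt (LP (LK LD1_c6 LD2_c12 LD3_c10)) = (LP (LK LD1_c11 LD2_c14 LD3_c50)) :=
  Leop (Lpr_gf (f509812 IH) (Lpn (LP (LK LD1_c6 LD2_c12 LD3_c10))))
theorem seed_153 : LEOK LG_g (LK LD1_c6 LD2_c12 LD3_c10) :=
  Leoe_g (LK LD1_c6 LD2_c12 LD3_c10) (f509813 IH)
def v2236 : LQ := Led Lsl_ft (LP (LK LD1_c1 LD2_c38 LD3_c23))
theorem f509818 : Led Lsl_ft (LP (LK LD1_c1 LD2_c38 LD3_c23)) = v2236 :=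
  Lrfl
theorem f509821 : Led Lsl_ff (LP (LK LD1_c1 LD2_c38 LD3_c23)) = v2236 :=
  Lgr Lrot3 (Lpr_ft (f509818 IH) (Lpn v2236))
def v2234 : LQ := Led Lsl_at (LP (LK LD1_c1 LD2_c38 LD3_c23))
theorem f509786 : Led Lsl_at (LP (LK LD1_c1 LD2_c38 LD3_c23)) = v2234 :=
  Lrfl
def v571 : LQ := Led Lsl_at (LP (LK LD1_c0 LD2_c45 LD3_c35))
theorem f454813 : Led Lsl_at (LP (LK LD1_c0 LD2_c45 LD3_c35)) = v571 :=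
  Lrfl
theorem f454814 : Led Lsl_af (LP (LK LD1_c0 LD2_c45 LD3_c35)) = v571 :=
  Lgr Lrot0 (Lpr_at (f454813 IH) (Lpn v571))
theorem f509788 : Led Lsl_df v571 = v2234 :=
  Lgr Lrot18 (Lpe (f454814 IH) (Lpr_dt (K24.f73784 IH) (Lpr_at (f509786 IH) (Lpn v2234))))
def v558 : LQ := Led Lsl_at (LP (LK LD1_c0 LD2_c44 LD3_c48))
theorem f453978 : Led Lsl_at (LP (LK LD1_c0 LD2_c44 LD3_c48)) = v558 :=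
  Lrfl
theorem f453979 : Led Lsl_af (LP (LK LD1_c0 LD2_c44 LD3_c48)) = v558 :=
  Lgr Lrot0 (Lpr_at (f453978 IH) (Lpn v558))
theorem f454816 : Led Lsl_cf v558 = v571 :=
  Lgr Lrot1 (Lpe (f453979 IH) (Lpr_ct (K17.f140046 IH) (Lpr_at (f454813 IH) (Lpn v571))))
theorem f453982 : Led Lsl_ft (LP (LK LD1_c0 LD2_c44 LD3_c49)) = v558 :=
  Lgr Lrot2 (Lpr_gt (K17.f185972 IH) (Lpr_gt (K0.f22847 IH) (Lpr_af (f453979 IH) (Lpn v558))))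
theorem f453983 : Led Lsl_ff (LP (LK LD1_c0 LD2_c44 LD3_c49)) = v558 :=
  Lgr Lrot3 (Lpr_ft (f453982 IH) (Lpn v558))
theorem f454818 : Led Lsl_ft (LP (LK LD1_c0 LD2_c45 LD3_c36)) = v571 :=
  Lgr Lrot4 (Lpr_cf (K17.f414496 IH) (Lpr_ff (f453983 IH) (Lpr_cf (f454816 IH) (Lpn v571))))
theorem f454819 : Led Lsl_ff (LP (LK LD1_c0 LD2_c45 LD3_c36)) = v571 :=
  Lgr Lrot3 (Lpr_ft (f454818 IH) (Lpn v571))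
theorem f509790 : Led Lsl_ft (LP (LK LD1_c1 LD2_c38 LD3_c26)) = v2234 :=
  Lgr Lrot54 (Lpe (K9.f13574 IH) (Lpr_ff (f454819 IH) (Lpr_df (f509788 IH) (Lpn v2234))))
theorem f509791 : Led Lsl_ff (LP (LK LD1_c1 LD2_c38 LD3_c26)) = v2234 :=
  Lgr Lrot3 (Lpr_ft (f509790 IH) (Lpn v2234))
theorem f509822 : Led Lsl_at (LP (LK LD1_c1 LD2_c38 LD3_c26)) = v2236 :=
  Lgr Lrot66 (Lpr_ff (f509791 IH) (Lpe (f509786 IH) (Lpr_ff (f509821 IH) (Lpn v2236))))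
theorem f79716 : Led Lsl_et (LP (LK LD1_c1 LD2_c37 LD3_c38)) = (LP (LK LD1_c1 LD2_c38 LD3_c26)) :=
  Lgr Lrot87 (Lpr_ef (K9.f79714 IH) (Lpn (LP (LK LD1_c1 LD2_c38 LD3_c26))))
def v2212 : LQ := Led Lsl_at (LP (LK LD1_c1 LD2_c37 LD3_c38))
theorem f509698 : Led Lsl_at (LP (LK LD1_c1 LD2_c37 LD3_c38)) = v2212 :=
  Lrfl
theorem f509699 : Led Lsl_af (LP (LK LD1_c1 LD2_c37 LD3_c38)) = v2212 :=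
  Lgr Lrot0 (Lpr_at (f509698 IH) (Lpn v2212))
theorem f509824 : Led Lsl_ef v2212 = v2236 :=
  Lgr Lrot20 (Lpe (f509699 IH) (Lpr_et (f79716 IH) (Lpr_at (f509822 IH) (Lpn v2236))))
def v1366 : LQ := Led Lsl_at (LP (LK LD1_c1 LD2_c8 LD3_c21))
theorem f495145 : Led Lsl_at (LP (LK LD1_c1 LD2_c8 LD3_c21)) = v1366 :=
  Lrfl
theorem f495146 : Led Lsl_af (LP (LK LD1_c1 LD2_c8 LD3_c21)) = v1366 :=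
  Lgr Lrot0 (Lpr_at (f495145 IH) (Lpn v1366))
theorem f509700 : Led Lsl_cf v1366 = v2212 :=
  Lgr Lrot1 (Lpe (f495146 IH) (Lpr_ct (K17.f139992 IH) (Lpr_at (f509698 IH) (Lpn v2212))))
theorem f495149 : Led Lsl_ft (LP (LK LD1_c1 LD2_c8 LD3_c22)) = v1366 :=
  Lgr Lrot2 (Lpr_gt (K17.f61053 IH) (Lpr_gt (K0.f23211 IH) (Lpr_af (f495146 IH) (Lpn v1366))))
theorem f495150 : Led Lsl_ff (LP (LK LD1_c1 LD2_c8 LD3_c22)) = v1366 :=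
  Lgr Lrot3 (Lpr_ft (f495149 IH) (Lpn v1366))
theorem f509702 : Led Lsl_ft (LP (LK LD1_c1 LD2_c37 LD3_c39)) = v2212 :=
  Lgr Lrot4 (Lpr_cf (K17.f76934 IH) (Lpr_ff (f495150 IH) (Lpr_cf (f509700 IH) (Lpn v2212))))
theorem f509703 : Led Lsl_ff (LP (LK LD1_c1 LD2_c37 LD3_c39)) = v2212 :=
  Lgr Lrot3 (Lpr_ft (f509702 IH) (Lpn v2212))
theorem f509826 : Led Lsl_ft (LP (LK LD1_c3 LD2_c13 LD3_c2)) = (LP (LK LD1_c3 LD2_c8 LD3_c36)) :=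
  Lgr Lrot86 (Lpe (K24.f445973 IH) (Lpr_ff (f509703 IH) (Lpr_ef (f509824 IH) (Lpe (f509818 IH) (Lpr_ef (K24.f82579 IH) (Lpn (LP (LK LD1_c3 LD2_c8 LD3_c36))))))))
theorem f509827 : Led Lsl_ft (LP (LK LD1_c3 LD2_c13 LD3_c2)) = (LP (LK LD1_c3 LD2_c8 LD3_c36)) :=
  Leop (Lpe (f509826 IH) (Lpn (LP (LK LD1_c3 LD2_c13 LD3_c2))))
theorem seed_154 : LEOK LG_f (LK LD1_c3 LD2_c13 LD3_c2) :=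
  Leoe_f (LK LD1_c3 LD2_c13 LD3_c2) (f509827 IH)
def v2251 : LQ := Led Lsl_at (LP (LK LD1_c1 LD2_c38 LD3_c53))
theorem f510482 : Led Lsl_at (LP (LK LD1_c1 LD2_c38 LD3_c53)) = v2251 :=
  Lrfl
theorem f510483 : Led Lsl_af (LP (LK LD1_c1 LD2_c38 LD3_c53)) = v2251 :=
  Lgr Lrot0 (Lpr_at (f510482 IH) (Lpn v2251))
theorem f16707 : Led Lsl_dt (LP (LK LD1_c6 LD2_c52 LD3_c20)) = (LP (LK LD1_c3 LD2_c24 LD3_c57)) :=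
  Lre_d IH (LK LD1_c6 LD2_c52 LD3_c20) (LK LD1_c3 LD2_c24 LD3_c57) Lrfl Lrfl
theorem f458557 : Led Lsl_ct (LP (LK LD1_c13 LD2_c4 LD3_c14)) = (LP (LK LD1_c6 LD2_c52 LD3_c20)) :=
  Lre_c IH (LK LD1_c13 LD2_c4 LD3_c14) (LK LD1_c6 LD2_c52 LD3_c20) Lrfl Lrfl
theorem f510484 : Led Lsl_ft (LP (LK LD1_c1 LD2_c43 LD3_c2)) = v2251 :=
  Lgr Lrot2 (Lpr_gt (K24.f92420 IH) (Lpr_gt (K28.f455822 IH) (Lpqs (K28.f464172 IH) (Lpr_af (f510483 IH) (Lpn v2251)))))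
theorem f455311 : Led Lsl_dt (LP (LK LD1_c6 LD2_c58 LD3_c15)) = (LP (LK LD1_c3 LD2_c28 LD3_c1)) :=
  Lre_d IH (LK LD1_c6 LD2_c58 LD3_c15) (LK LD1_c3 LD2_c28 LD3_c1) Lrfl Lrfl
theorem f128103 : Led Lsl_ct (LP (LK LD1_c7 LD2_c7 LD3_c46)) = (LP (LK LD1_c3 LD2_c33 LD3_c25)) :=
  Lre_c IH (LK LD1_c7 LD2_c7 LD3_c46) (LK LD1_c3 LD2_c33 LD3_c25) Lrfl Lrfl
theorem f440174 : Led Lsl_gt (LP (LK LD1_c13 LD2_c30 LD3_c17)) = (LP (LK LD1_c7 LD2_c7 LD3_c46)) :=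
  Lre_g IH (LK LD1_c13 LD2_c30 LD3_c17) (LK LD1_c7 LD2_c7 LD3_c46) Lrfl Lrfl
theorem f465650 : Led Lsl_cf (LP (LK LD1_c13 LD2_c30 LD3_c17)) = (LP (LK LD1_c7 LD2_c8 LD3_c12)) :=
  Lgr Lrot169 (Lpr_gt (f440174 IH) (Lpr_ct (f128103 IH) (Lpe (K28.f96477 IH) (Lpe (K5.f128096 IH) (Lpq (K28.f461943 IH) (Lpr_gf (K28.f455438 IH) (Lpe (K24.f446458 IH) (Lpe (K28.f455309 IH) (Lpe (f455311 IH) (Lpr_gt (K28.f465646 IH) (Lpn (LP (LK LD1_c7 LD2_c8 LD3_c12)))))))))))))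
theorem f510485 : Led Lsl_df (LP (LK LD1_c13 LD2_c4 LD3_c14)) = (LP (LK LD1_c13 LD2_c30 LD3_c17)) :=
  Lgr Lrot13 (Lpr_ct (f458557 IH) (Lpr_dt (f16707 IH) (Lpr_ct (K28.f16706 IH) (Lpr_af (f510483 IH) (Lpe (f510484 IH) (Lpr_dt (K28.f128114 IH) (Lpr_ct (K28.f128163 IH) (Lpr_dt (K28.f465660 IH) (Lpe (f465650 IH) (Lpn (LP (LK LD1_c13 LD2_c30 LD3_c17))))))))))))
theorem f510486 : Led Lsl_dt (LP (LK LD1_c13 LD2_c30 LD3_c17)) = (LP (LK LD1_c13 LD2_c4 LD3_c14)) :=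
  Leop (Lpr_df (f510485 IH) (Lpn (LP (LK LD1_c13 LD2_c30 LD3_c17))))
theorem seed_155 : LEOK LG_d (LK LD1_c13 LD2_c30 LD3_c17) :=
  Leoe_d (LK LD1_c13 LD2_c30 LD3_c17) (f510486 IH)
theorem f510499 : Led Lsl_ff (LP (LK LD1_c1 LD2_c43 LD3_c2)) = v2251 :=
  Lgr Lrot3 (Lpr_ft (f510484 IH) (Lpn v2251))
theorem f468354 : Led Lsl_bt (LP (LK LD1_c1 LD2_c43 LD3_c2)) = (LP (LK LD1_c1 LD2_c43 LD3_c2)) :=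
  Lgr Lrot22 (Lpr_ct (K24.f93159 IH) (Lpr_gf (K29.f439437 IH) (Lpe (K28.f18040 IH) (Lpr_gf (K29.f468352 IH) (Lpe (K28.f460230 IH) (Lpr_ct (K24.f18792 IH) (Lpe (K29.f460222 IH) (Lpr_cf (K4.f92402 IH) (Lpr_bt (K3.f92397 IH) (Lpe (K24.f92420 IH) (Lpn (LP (LK LD1_c1 LD2_c43 LD3_c2)))))))))))))
theorem f510500 : Led Lsl_bt v2251 = v2251 :=
  Lgr Lrot35 (Lpe (f510484 IH) (Lpe (f468354 IH) (Lpr_ff (f510499 IH) (Lpn v2251))))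
theorem f510501 : K24.v574 = (LP (LK LD1_c0 LD2_c45 LD3_c50)) :=
  (Llr Lrot36 (Lpe (K24.f454955 IH) (Lpr_bt (K28.f454956 IH) (Lpr_at (f510482 IH) (Lpr_bt (f510500 IH) (Lpe (f510483 IH) (Lpr_bt (K28.f16705 IH) (Lpn (LP (LK LD1_c0 LD2_c45 LD3_c50)))))))))).symm
theorem f510502 : Led Lsl_at (LP (LK LD1_c0 LD2_c45 LD3_c50)) = (LP (LK LD1_c0 LD2_c45 LD3_c50)) :=
  Leop (Lpq (f510501 IH) (Lpe (K24.f454954 IH) (Lpn (LP (LK LD1_c0 LD2_c45 LD3_c50)))))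
theorem seed_156 : LEOK LG_a (LK LD1_c0 LD2_c45 LD3_c50) :=
  Leoe_a (LK LD1_c0 LD2_c45 LD3_c50) (f510502 IH)
def v915 : LQ := Led Lsl_ft (LP (LK LD1_c0 LD2_c54 LD3_c2))
theorem f490416 : Led Lsl_ft (LP (LK LD1_c0 LD2_c54 LD3_c2)) = v915 :=
  Lrfl
theorem f490418 : Led Lsl_ff (LP (LK LD1_c0 LD2_c54 LD3_c2)) = v915 :=
  Lgr Lrot3 (Lpr_ft (f490416 IH) (Lpn v915))
theorem f454958 : Led Lsl_ff (LP (LK LD1_c0 LD2_c45 LD3_c51)) = K24.v574 :=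
  Lgr Lrot3 (Lpr_ft (K24.f454957 IH) (Lpn K24.v574))
theorem f457418 : Led Lsl_cf K24.v574 = K24.v624 :=
  Lgr Lrot108 (Lpe (f454958 IH) (Lpr_ct (K24.f454966 IH) (Lpqs (K24.f457414 IH) (Lpr_ft (K24.f455594 IH) (Lpn K24.v624)))))
theorem f457419 : Led Lsl_ct K24.v574 = K24.v624 :=
  Lgr Lrot59 (Lpr_cf (f457418 IH) (Lpn K24.v624))
theorem f510503 : K24.v624 = K24.v575 :=
  Lefun (Lecon (f457419 IH) (f510501 IH)) (K24.f454960 IH)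
theorem f510515 : Led Lsl_ff (LP (LK LD1_c1 LD2_c42 LD3_c13)) = K30.v628 :=
  Lgr Lrot19 (Lpr_dt (K24.f18956 IH) (Lpq (K24.f457405 IH) (Lpq (f510503 IH) (Lpe (K24.f455595 IH) (Lpr_dt (K30.f455606 IH) (Lpn K30.v628))))))
theorem f12137 : Led Lsl_dt (LP (LK LD1_c0 LD2_c47 LD3_c36)) = (LP (LK LD1_c1 LD2_c42 LD3_c13)) :=
  Lre_d IH (LK LD1_c0 LD2_c47 LD3_c36) (LK LD1_c1 LD2_c42 LD3_c13) Lrfl Lrfl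
theorem f479107 : Led Lsl_gt K29.v724 = (LP (LK LD1_c1 LD2_c42 LD3_c13)) :=
  Lgr Lrot112 (Lpe (K29.f479092 IH) (Lpr_et (K29.f479093 IH) (Lpr_gf (K24.f455208 IH) (Lpe (K24.f446435 IH) (Lpe (K24.f446432 IH) (Lpe (K24.f455206 IH) (Lpe (K24.f455164 IH) (Lpr_gf (K24.f457109 IH) (Lpqs (K24.f457406 IH) (Lpr_ef (K24.f446424 IH) (Lpr_dt (f12137 IH) (Lpn (LP (LK LD1_c1 LD2_c42 LD3_c13))))))))))))))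
theorem f510517 : Led Lsl_at (LP (LK LD1_c1 LD2_c42 LD3_c13)) = (LP (LK LD1_c1 LD2_c42 LD3_c13)) :=
  Lgr Lrot26 (Lpr_ff (f510515 IH) (Lpe (K30.f479108 IH) (Lpr_gt (f479107 IH) (Lpn (LP (LK LD1_c1 LD2_c42 LD3_c13))))))
theorem f510516 : Led Lsl_ft (LP (LK LD1_c1 LD2_c42 LD3_c13)) = K30.v628 :=
  Lgr Lrot48 (Lpr_ff (f510515 IH) (Lpn K30.v628))
theorem f510521 : Led Lsl_af K30.v628 = K30.v628 :=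
  Lgr Lrot45 (Lpe (f510515 IH) (Lpr_at (f510517 IH) (Lpr_ft (f510516 IH) (Lpn K30.v628))))
def v162 : LQ := Led Lsl_et (LP (LK LD1_c0 LD2_c21 LD3_c52))
def v997 : LQ := Led Lsl_gt v162
theorem f490927 : Led Lsl_gt v162 = v997 :=
  Lrfl
theorem f450828 : Led Lsl_et (LP (LK LD1_c0 LD2_c21 LD3_c52)) = v162 :=
  Lrfl
theorem f455607 : Led Lsl_df (LP (LK LD1_c0 LD2_c47 LD3_c37)) = K30.v628 :=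
  Lgr Lrot38 (Lpr_dt (K30.f455606 IH) (Lpn K30.v628))
theorem f490928 : Led Lsl_et K30.v628 = v997 :=
  Lgr Lrot122 (Lpe (f455607 IH) (Lpr_gt (K24.f446507 IH) (Lpr_df (K24.f450702 IH) (Lpe (K24.f450703 IH) (Lpe (K0.f11491 IH) (Lpr_dt (K0.f9974 IH) (Lpr_gt (K6.f10911 IH) (Lpe (K7.f10919 IH) (Lpr_et (f450828 IH) (Lpr_gt (f490927 IH) (Lpn v997)))))))))))
theorem f490929 : Led Lsl_ef K30.v628 = v997 :=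
  Lgr Lrot88 (Lpr_et (f490928 IH) (Lpn v997))
theorem f510522 : Led Lsl_at v997 = v997 :=
  Lgr Lrot80 (Lpe (f490928 IH) (Lpr_af (f510521 IH) (Lpr_ef (f490929 IH) (Lpn v997))))
def v998 : LQ := Led Lsl_gf v162
theorem f490930 : Led Lsl_gf v162 = v998 :=
  Lrfl
theorem f510523 : Led Lsl_ff v997 = v998 :=
  Lgr Lrot52 (Lpr_at (f510522 IH) (Lpe (f490927 IH) (Lpr_gf (f490930 IH) (Lpn v998))))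
theorem f510525 : Led Lsl_ft v997 = v998 :=
  Lgr Lrot48 (Lpr_ff (f510523 IH) (Lpn v998))
def v1143 : LQ := Led Lsl_gf K24.v281
theorem f493355 : Led Lsl_gf K24.v281 = v1143 :=
  Lrfl
theorem f493359 : Led Lsl_et (LP (LK LD1_c1 LD2_c46 LD3_c33)) = v1143 :=
  Lgr Lrot121 (Lpe (K24.f455193 IH) (Lpe (K24.f14941 IH) (Lpe (K24.f11532 IH) (Lpr_et (K24.f11531 IH) (Lpr_gf (K0.f11509 IH) (Lpe (K0.f6635 IH) (Lpr_dt (K24.f6633 IH) (Lpr_gf (K24.f450794 IH) (Lpr_df (K24.f451508 IH) (Lpr_gf (f493355 IH) (Lpn v1143)))))))))))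
theorem f493360 : Led Lsl_ef (LP (LK LD1_c1 LD2_c46 LD3_c33)) = v1143 :=
  Lgr Lrot88 (Lpr_et (f493359 IH) (Lpn v1143))
def v1078 : LQ := Led Lsl_gf K24.v228
theorem f491304 : Led Lsl_gf K24.v228 = v1078 :=
  Lrfl
theorem f451217 : Led Lsl_df (LP (LK LD1_c0 LD2_c24 LD3_c16)) = K24.v228 :=
  Lgr Lrot38 (Lpr_dt (K24.f451216 IH) (Lpn K24.v228))
def v606 : LQ := Led Lsl_gf (LP (LK LD1_c0 LD2_c46 LD3_c46))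
theorem f455168 : Led Lsl_gf (LP (LK LD1_c0 LD2_c46 LD3_c46)) = v606 :=
  Lrfl
theorem f455177 : Led Lsl_gt (LP (LK LD1_c0 LD2_c46 LD3_c47)) = v606 :=
  Lgr Lrot5 (Lpr_ft (K24.f455175 IH) (Lpe (K24.f455171 IH) (Lpr_gf (f455168 IH) (Lpn v606))))
theorem f457132 : (LP (LK LD1_c0 LD2_c49 LD3_c36)) = v606 :=
  Lefun (Lecon (Lfl_gf (K24.f456921 IH)) (K24.f457131 IH)) (f455177 IH)
theorem f491307 : Led Lsl_dt K30.v741 = v1078 :=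
  Lgr Lrot57 (Lpe (K30.f479120 IH) (Lpe (K28.f458345 IH) (Lpr_gt (K24.f11036 IH) (Lpr_dt (K24.f11040 IH) (Lpqs (f457132 IH) (Lpe (f455168 IH) (Lpr_dt (K24.f15751 IH) (Lpqs (K24.f457390 IH) (Lpe (K24.f451214 IH) (Lpr_df (f451217 IH) (Lpr_gf (f491304 IH) (Lpn v1078))))))))))))
theorem f455926 : Led Lsl_af (LP (LK LD1_c0 LD2_c48 LD3_c40)) = K29.v675 :=
  Lgr Lrot0 (Lpr_at (K29.f455925 IH) (Lpn K29.v675))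
def v674 : LQ := Led Lsl_gf (LP (LK LD1_c0 LD2_c48 LD3_c40))
theorem f455923 : Led Lsl_gf (LP (LK LD1_c0 LD2_c48 LD3_c40)) = v674 :=
  Lrfl
theorem f455931 : Led Lsl_gt (LP (LK LD1_c0 LD2_c48 LD3_c42)) = v674 :=
  Lgr Lrot5 (Lpr_ft (K29.f455929 IH) (Lpe (f455926 IH) (Lpr_gf (f455923 IH) (Lpn v674))))
theorem f493361 : Led Lsl_df v674 = v1143 :=
  Lgr Lrot168 (Lpe (f455931 IH) (Lpe (K29.f5930 IH) (Lpr_et (K24.f450772 IH) (Lpr_gf (K24.f456760 IH) (Lpq (K24.f459343 IH) (Lpqs (K24.f457393 IH) (Lpe (K24.f451210 IH) (Lpr_dt (K24.f451216 IH) (Lpr_gf (f491304 IH) (Lpe (f491307 IH) (Lpe (K30.f479120 IH) (Lpr_ef (f493360 IH) (Lpn v1143)))))))))))))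
def v914 : LQ := Led Lsl_et (LP (LK LD1_c0 LD2_c54 LD3_c2))
theorem f490414 : Led Lsl_et (LP (LK LD1_c0 LD2_c54 LD3_c2)) = v914 :=
  Lrfl
theorem f490415 : Led Lsl_ef (LP (LK LD1_c0 LD2_c54 LD3_c2)) = v914 :=
  Lgr Lrot88 (Lpr_et (f490414 IH) (Lpn v914))
theorem f450829 : Led Lsl_ef (LP (LK LD1_c0 LD2_c21 LD3_c52)) = v162 :=
  Lgr Lrot88 (Lpr_et (f450828 IH) (Lpn v162))
theorem f450831 : Led Lsl_dt v162 = v162 :=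
  Lgr Lrot77 (Lpe (f450828 IH) (Lpe (K6.f10913 IH) (Lpe (K6.f10917 IH) (Lpe (K7.f10919 IH) (Lpr_ef (f450829 IH) (Lpn v162))))))
theorem f490931 : Led Lsl_dt v914 = v998 :=
  Lgr Lrot136 (Lpe (f490415 IH) (Lpe (K24.f14941 IH) (Lpr_ef (K24.f17256 IH) (Lpr_dt (K7.f9869 IH) (Lpr_gf (K0.f11476 IH) (Lpe (K0.f9965 IH) (Lpr_gf (K6.f10914 IH) (Lpr_ef (f450829 IH) (Lpr_dt (f450831 IH) (Lpr_gf (f490930 IH) (Lpn v998)))))))))))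
theorem f490932 : Led Lsl_df v914 = v998 :=
  Lgr Lrot38 (Lpr_dt (f490931 IH) (Lpn v998))
theorem f493363 : Led Lsl_et v674 = v998 :=
  Lgr Lrot71 (Lpr_df (f493361 IH) (Lpe (f493359 IH) (Lpe (K30.f455196 IH) (Lpr_ef (f490415 IH) (Lpr_df (f490932 IH) (Lpn v998))))))
theorem f493364 : Led Lsl_ef v674 = v998 :=
  Lgr Lrot88 (Lpr_et (f493363 IH) (Lpn v998))
theorem f510527 : Led Lsl_ff (LP (LK LD1_c1 LD2_c44 LD3_c13)) = v674 :=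
  Lgr Lrot72 (Lpr_et (K24.f454973 IH) (Lpr_ft (f510516 IH) (Lpr_et (f490928 IH) (Lpr_ft (f510525 IH) (Lpe (f493364 IH) (Lpn v674))))))
theorem f454972 : Led Lsl_dt (LP (LK LD1_c1 LD2_c44 LD3_c13)) = K24.v578 :=
  Lgr Lrot42 (Lpr_df (K24.f454970 IH) (Lpn K24.v578))
theorem f510529 : Led Lsl_ft K24.v578 = v1143 :=
  Lgr Lrot54 (Lpe (f454972 IH) (Lpr_ff (f510527 IH) (Lpr_df (f493361 IH) (Lpn v1143))))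
theorem f490869 : Led Lsl_ff K24.v281 = K30.v985 :=
  Lgr Lrot19 (Lpe (K24.f451508 IH) (Lpr_ft (K29.f457346 IH) (Lpr_dt (K30.f490866 IH) (Lpn K30.v985))))
theorem f493356 : Led Lsl_gt K30.v985 = v1143 :=
  Lgr Lrot5 (Lpe (f490869 IH) (Lpe (K29.f457349 IH) (Lpr_gf (f493355 IH) (Lpn v1143))))
theorem f510534 : Led Lsl_af v1143 = v1143 :=
  Lgr Lrot31 (Lpe (f493356 IH) (Lpe (K30.f490876 IH) (Lpr_ft (f510529 IH) (Lpn v1143))))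
theorem f510533 : Led Lsl_ff K24.v578 = v1143 :=
  Lgr Lrot3 (Lpr_ft (f510529 IH) (Lpn v1143))
theorem f510538 : Led Lsl_at K24.v578 = K24.v578 :=
  Lgr Lrot66 (Lpr_ff (f510533 IH) (Lpr_af (f510534 IH) (Lpe (f510529 IH) (Lpn K24.v578))))
theorem f457421 : Led Lsl_ct K24.v578 = K30.v629 :=
  Lgr Lrot59 (Lpr_cf (K30.f457420 IH) (Lpn K30.v629))
theorem f510539 : Led Lsl_af K30.v629 = K30.v629 :=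
  Lgr Lrot68 (Lpe (K30.f457420 IH) (Lpr_at (f510538 IH) (Lpr_ct (f457421 IH) (Lpn K30.v629))))
def v1135 : LQ := Led Lsl_gf K24.v277
theorem f491701 : Led Lsl_gf K24.v277 = v1135 :=
  Lrfl
theorem f493358 : Led Lsl_cf v1135 = v1143 :=
  Lgr Lrot166 (Lpe (f491701 IH) (Lpe (K24.f451497 IH) (Lpr_gt (K24.f5926 IH) (Lpr_dt (K28.f5925 IH) (Lpr_ct (K29.f5912 IH) (Lpe (K24.f5916 IH) (Lpr_gf (K24.f450794 IH) (Lpr_df (K24.f451508 IH) (Lpr_gf (f493355 IH) (Lpn v1143))))))))))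
theorem f510530 : Led Lsl_ff K30.v629 = v1135 :=
  Lgr Lrot23 (Lpe (K30.f457420 IH) (Lpr_ft (f510529 IH) (Lpe (f493358 IH) (Lpn v1135))))
theorem f493357 : Led Lsl_ct v1135 = v1143 :=
  Lgr Lrot8 (Lpe (f491701 IH) (Lpe (K24.f451497 IH) (Lpr_gt (K24.f5926 IH) (Lpr_dt (K28.f5925 IH) (Lpr_cf (K0.f5896 IH) (Lpe (K24.f5916 IH) (Lpr_gf (K24.f450794 IH) (Lpr_df (K24.f451508 IH) (Lpr_gf (f493355 IH) (Lpn v1143))))))))))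
theorem f510535 : Led Lsl_at v1135 = v1135 :=
  Lgr Lrot107 (Lpr_cf (f493358 IH) (Lpr_af (f510534 IH) (Lpe (f493357 IH) (Lpn v1135))))
theorem f510541 : Led Lsl_ft K30.v629 = v1135 :=
  Lgr Lrot101 (Lpr_af (f510539 IH) (Lpr_ff (f510530 IH) (Lpe (f510535 IH) (Lpn v1135))))
def v1011 : LQ := Led Lsl_gf K29.v170
theorem f490993 : Led Lsl_gf K29.v170 = v1011 :=
  Lrfl
theorem f490994 : Led Lsl_gt K29.v174 = v1011 :=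
  Lgr Lrot5 (Lpr_ft (K29.f457273 IH) (Lpe (K29.f457343 IH) (Lpr_gf (f490993 IH) (Lpn v1011))))
theorem f490995 : Led Lsl_et K24.v233 = v1011 :=
  Lgr Lrot122 (Lpe (K24.f451241 IH) (Lpr_gt (K24.f455945 IH) (Lpr_df (K24.f455941 IH) (Lpe (K24.f455942 IH) (Lpr_gt (K24.f5924 IH) (Lpr_dt (f454972 IH) (Lpr_gt (K30.f490876 IH) (Lpe (K30.f490866 IH) (Lpr_et (K29.f450915 IH) (Lpr_gt (f490994 IH) (Lpn v1011)))))))))))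
theorem f490996 : Led Lsl_ef K24.v233 = v1011 :=
  Lgr Lrot88 (Lpr_et (f490995 IH) (Lpn v1011))
theorem f491704 : Led Lsl_dt v1011 = v1135 :=
  Lgr Lrot136 (Lpe (f490996 IH) (Lpe (K24.f451235 IH) (Lpr_ef (K24.f455613 IH) (Lpe (K24.f455612 IH) (Lpe (K24.f18954 IH) (Lpe (K24.f18956 IH) (Lpe (f479107 IH) (Lpe (K29.f456935 IH) (Lpr_dt (K24.f451499 IH) (Lpr_gf (f491701 IH) (Lpn v1135)))))))))))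
theorem f491706 : Led Lsl_ef (LP (LK LD1_c1 LD2_c38 LD3_c54)) = v1135 :=
  Lgr Lrot73 (Lpr_dt (K28.f11041 IH) (Lpr_et (K24.f11047 IH) (Lpr_dt (K24.f451239 IH) (Lpr_et (f490995 IH) (Lpr_dt (f491704 IH) (Lpn v1135))))))
theorem f510543 : Led Lsl_ff (LP (LK LD1_c1 LD2_c38 LD3_c57)) = (LP (LK LD1_c1 LD2_c38 LD3_c54)) :=
  Lgr Lrot72 (Lpr_et (K24.f446418 IH) (Lpq (K24.f457405 IH) (Lpq (f510503 IH) (Lpe (K24.f455595 IH) (Lpr_et (K30.f455609 IH) (Lpr_ft (f510541 IH) (Lpe (f491706 IH) (Lpn (LP (LK LD1_c1 LD2_c38 LD3_c54))))))))))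
theorem f510551 : Led Lsl_at (LP (LK LD1_c1 LD2_c38 LD3_c57)) = K24.v760 :=
  Lgr Lrot26 (Lpr_ff (f510543 IH) (Lpr_gt (K24.f11036 IH) (Lpr_gt (K24.f457123 IH) (Lpn K24.v760))))
theorem f510553 : Led Lsl_af (LP (LK LD1_c1 LD2_c38 LD3_c55)) = (LP (LK LD1_c1 LD2_c38 LD3_c55)) :=
  Lgr Lrot68 (Lpr_ct (K29.f457403 IH) (Lpr_at (f510551 IH) (Lpqs (K24.f457406 IH) (Lpe (K24.f457399 IH) (Lpn (LP (LK LD1_c1 LD2_c38 LD3_c55)))))))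
def v912 : LQ := Led Lsl_at (LP (LK LD1_c0 LD2_c54 LD3_c2))
theorem f490407 : Led Lsl_at (LP (LK LD1_c0 LD2_c54 LD3_c2)) = v912 :=
  Lrfl
theorem f490408 : Led Lsl_af (LP (LK LD1_c0 LD2_c54 LD3_c2)) = v912 :=
  Lgr Lrot0 (Lpr_at (f490407 IH) (Lpn v912))
theorem f490409 : Led Lsl_ft K24.v233 = v912 :=
  Lgr Lrot2 (Lpe (K24.f451234 IH) (Lpr_gt (K24.f14941 IH) (Lpr_af (f490408 IH) (Lpn v912))))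
theorem f490410 : Led Lsl_ff K24.v233 = v912 :=
  Lgr Lrot3 (Lpr_ft (f490409 IH) (Lpn v912))
theorem f490419 : Led Lsl_at K24.v233 = v915 :=
  Lgr Lrot66 (Lpr_ff (f490410 IH) (Lpe (f490407 IH) (Lpr_ff (f490418 IH) (Lpn v915))))
theorem f510557 : v915 = K24.v233 :=
  (Llr Lrot51 (Lpe (f490419 IH) (Lpe (K24.f451239 IH) (Lpr_af (f510553 IH) (Lpr_df (K24.f451241 IH) (Lpn K24.v233)))))).symm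
theorem f491330 : Led Lsl_bf K24.v233 = K29.v1083 :=
  Lgr Lrot24 (Lpr_bt (K29.f491329 IH) (Lpn K29.v1083))
theorem f510560 : Led Lsl_ff K29.v1083 = (LP (LK LD1_c1 LD2_c54 LD3_c46)) :=
  Lgr Lrot25 (Lpe (f491330 IH) (Lpq (f510557 IH) (Lpe (f490418 IH) (Lpr_bt (K30.f455195 IH) (Lpn (LP (LK LD1_c1 LD2_c54 LD3_c46)))))))
theorem f510567 : Led Lsl_ft K29.v1083 = (LP (LK LD1_c1 LD2_c54 LD3_c46)) :=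
  Lgr Lrot48 (Lpr_ff (f510560 IH) (Lpn (LP (LK LD1_c1 LD2_c54 LD3_c46))))
theorem f107611 : Led Lsl_gt (LP (LK LD1_c1 LD2_c43 LD3_c21)) = (LP (LK LD1_c3 LD2_c33 LD3_c15)) :=
  Lre_g IH (LK LD1_c1 LD2_c43 LD3_c21) (LK LD1_c3 LD2_c33 LD3_c15) Lrfl Lrfl
theorem f510570 : Led Lsl_af (LP (LK LD1_c3 LD2_c33 LD3_c15)) = (LP (LK LD1_c1 LD2_c54 LD3_c46)) :=
  Lgr Lrot31 (Lpe (f107611 IH) (Lpr_gf (K29.f491334 IH) (Lpr_ft (f510567 IH) (Lpn (LP (LK LD1_c1 LD2_c54 LD3_c46))))))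
theorem f510571 : Led Lsl_at (LP (LK LD1_c1 LD2_c54 LD3_c46)) = (LP (LK LD1_c3 LD2_c33 LD3_c15)) :=
  Leop (Lpr_af (f510570 IH) (Lpn (LP (LK LD1_c1 LD2_c54 LD3_c46))))
theorem seed_157 : LEOK LG_a (LK LD1_c1 LD2_c54 LD3_c46) :=
  Leoe_a (LK LD1_c1 LD2_c54 LD3_c46) (f510571 IH)
theorem f510594 : Led Lsl_at (LP (LK LD1_c3 LD2_c33 LD3_c15)) = (LP (LK LD1_c1 LD2_c54 LD3_c46)) :=
  Lgr Lrot100 (Lpr_af (f510570 IH) (Lpn (LP (LK LD1_c1 LD2_c54 LD3_c46))))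
theorem f107843 : Led Lsl_gt (LP (LK LD1_c3 LD2_c34 LD3_c35)) = (LP (LK LD1_c1 LD2_c44 LD3_c4)) :=
  Lre_g IH (LK LD1_c3 LD2_c34 LD3_c35) (LK LD1_c1 LD2_c44 LD3_c4) Lrfl Lrfl
theorem f510639 : Led Lsl_ff (LP (LK LD1_c3 LD2_c33 LD3_c15)) = (LP (LK LD1_c3 LD2_c34 LD3_c35)) :=
  Lgr Lrot52 (Lpr_at (f510594 IH) (Lpe (K30.f493656 IH) (Lpe (f107843 IH) (Lpn (LP (LK LD1_c3 LD2_c34 LD3_c35))))))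
theorem f107955 : Led Lsl_et (LP (LK LD1_c3 LD2_c35 LD3_c54)) = (LP (LK LD1_c1 LD2_c44 LD3_c46)) :=
  Lre_e IH (LK LD1_c3 LD2_c35 LD3_c54) (LK LD1_c1 LD2_c44 LD3_c46) Lrfl Lrfl
theorem f107956 : Led Lsl_df (LP (LK LD1_c3 LD2_c34 LD3_c35)) = (LP (LK LD1_c3 LD2_c35 LD3_c54)) :=
  Lgr Lrot170 (Lpr_gt (f107843 IH) (Lpr_df (K29.f107839 IH) (Lpr_et (K24.f10807 IH) (Lpr_gt (K0.f5904 IH) (Lpr_dt (K0.f10232 IH) (Lpr_gt (K1.f5856 IH) (Lpe (K3.f10299 IH) (Lpr_et (K3.f10306 IH) (Lpr_gt (K29.f106222 IH) (Lpe (f107955 IH) (Lpn (LP (LK LD1_c3 LD2_c35 LD3_c54)))))))))))))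
theorem f107960 : Led Lsl_dt (LP (LK LD1_c3 LD2_c34 LD3_c35)) = (LP (LK LD1_c3 LD2_c35 LD3_c54)) :=
  Lgr Lrot42 (Lpr_df (f107956 IH) (Lpn (LP (LK LD1_c3 LD2_c35 LD3_c54))))
theorem f107967 : Led Lsl_ct (LP (LK LD1_c3 LD2_c35 LD3_c54)) = (LP (LK LD1_c7 LD2_c12 LD3_c23)) :=
  Lre_c IH (LK LD1_c3 LD2_c35 LD3_c54) (LK LD1_c7 LD2_c12 LD3_c23) Lrfl Lrfl
theorem f470667 : Led Lsl_et (LP (LK LD1_c7 LD2_c12 LD3_c23)) = (LP (LK LD1_c3 LD2_c35 LD3_c52)) :=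
  Lre_e IH (LK LD1_c7 LD2_c12 LD3_c23) (LK LD1_c3 LD2_c35 LD3_c52) Lrfl Lrfl
theorem f446481 : Led Lsl_dt (LP (LK LD1_c3 LD2_c28 LD3_c3)) = (LP (LK LD1_c6 LD2_c58 LD3_c21)) :=
  Lre_d IH (LK LD1_c3 LD2_c28 LD3_c3) (LK LD1_c6 LD2_c58 LD3_c21) Lrfl Lrfl
theorem f455307 : Led Lsl_et (LP (LK LD1_c3 LD2_c28 LD3_c3)) = (LP (LK LD1_c1 LD2_c40 LD3_c37)) :=
  Lre_e IH (LK LD1_c3 LD2_c28 LD3_c3) (LK LD1_c1 LD2_c40 LD3_c37) Lrfl Lrfl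
theorem f425322 : Led Lsl_et (LP (LK LD1_c7 LD2_c14 LD3_c26)) = (LP (LK LD1_c13 LD2_c42 LD3_c1)) :=
  Lre_e IH (LK LD1_c7 LD2_c14 LD3_c26) (LK LD1_c13 LD2_c42 LD3_c1) Lrfl Lrfl
theorem f425323 : Led Lsl_et (LP (LK LD1_c13 LD2_c30 LD3_c48)) = (LP (LK LD1_c7 LD2_c8 LD3_c1)) :=
  Lre_e IH (LK LD1_c13 LD2_c30 LD3_c48) (LK LD1_c7 LD2_c8 LD3_c1) Lrfl Lrfl
theorem f425324 : Led Lsl_at (LP (LK LD1_c13 LD2_c42 LD3_c1)) = (LP (LK LD1_c13 LD2_c30 LD3_c48)) :=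
  Lgr Lrot80 (Lpe (f425322 IH) (Lpr_af (K30.f425312 IH) (Lpe (f425323 IH) (Lpn (LP (LK LD1_c13 LD2_c30 LD3_c48))))))
theorem f425341 : Led Lsl_ct (LP (LK LD1_c23 LD2_c7 LD3_c35)) = (LP (LK LD1_c13 LD2_c42 LD3_c1)) :=
  Lre_c IH (LK LD1_c23 LD2_c7 LD3_c35) (LK LD1_c13 LD2_c42 LD3_c1) Lrfl Lrfl
theorem f425342 : Led Lsl_ct (LP (LK LD1_c13 LD2_c30 LD3_c48)) = (LP (LK LD1_c22 LD2_c51 LD3_c45)) :=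
  Lre_c IH (LK LD1_c13 LD2_c30 LD3_c48) (LK LD1_c22 LD2_c51 LD3_c45) Lrfl Lrfl
theorem f425343 : Led Lsl_af (LP (LK LD1_c23 LD2_c7 LD3_c35)) = (LP (LK LD1_c22 LD2_c51 LD3_c45)) :=
  Lgr Lrot68 (Lpr_ct (f425341 IH) (Lpr_at (f425324 IH) (Lpr_ct (f425342 IH) (Lpn (LP (LK LD1_c22 LD2_c51 LD3_c45))))))
theorem f425346 : Led Lsl_at (LP (LK LD1_c23 LD2_c7 LD3_c35)) = (LP (LK LD1_c22 LD2_c51 LD3_c45)) :=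
  Lgr Lrot100 (Lpr_af (f425343 IH) (Lpn (LP (LK LD1_c22 LD2_c51 LD3_c45))))
theorem f425351 : Led Lsl_et (LP (LK LD1_c13 LD2_c42 LD3_c0)) = (LP (LK LD1_c23 LD2_c7 LD3_c35)) :=
  Lre_e IH (LK LD1_c13 LD2_c42 LD3_c0) (LK LD1_c23 LD2_c7 LD3_c35) Lrfl Lrfl
theorem f425352 : Led Lsl_et (LP (LK LD1_c22 LD2_c51 LD3_c45)) = (LP (LK LD1_c13 LD2_c30 LD3_c47)) :=
  Lre_e IH (LK LD1_c22 LD2_c51 LD3_c45) (LK LD1_c13 LD2_c30 LD3_c47) Lrfl Lrfl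
theorem f425353 : Led Lsl_af (LP (LK LD1_c13 LD2_c42 LD3_c0)) = (LP (LK LD1_c13 LD2_c30 LD3_c47)) :=
  Lgr Lrot50 (Lpr_et (f425351 IH) (Lpr_at (f425346 IH) (Lpr_et (f425352 IH) (Lpn (LP (LK LD1_c13 LD2_c30 LD3_c47))))))
theorem f425360 : Led Lsl_ft (LP (LK LD1_c13 LD2_c42 LD3_c0)) = (LP (LK LD1_c7 LD2_c14 LD3_c25)) :=
  Lre_f IH (LK LD1_c13 LD2_c42 LD3_c0) (LK LD1_c7 LD2_c14 LD3_c25) Lrfl Lrfl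
theorem f425361 : Led Lsl_ft (LP (LK LD1_c7 LD2_c8 LD3_c0)) = (LP (LK LD1_c13 LD2_c30 LD3_c47)) :=
  Lre_f IH (LK LD1_c7 LD2_c8 LD3_c0) (LK LD1_c13 LD2_c30 LD3_c47) Lrfl Lrfl
theorem f425362 : Led Lsl_at (LP (LK LD1_c7 LD2_c14 LD3_c25)) = (LP (LK LD1_c7 LD2_c8 LD3_c0)) :=
  Lgr Lrot66 (Lpe (f425360 IH) (Lpr_af (f425353 IH) (Lpe (f425361 IH) (Lpn (LP (LK LD1_c7 LD2_c8 LD3_c0))))))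
theorem f425314 : Led Lsl_ct (LP (LK LD1_c3 LD2_c37 LD3_c1)) = (LP (LK LD1_c7 LD2_c14 LD3_c25)) :=
  Lre_c IH (LK LD1_c3 LD2_c37 LD3_c1) (LK LD1_c7 LD2_c14 LD3_c25) Lrfl Lrfl
theorem f97338 : Led Lsl_ct (LP (LK LD1_c7 LD2_c8 LD3_c0)) = (LP (LK LD1_c3 LD2_c33 LD3_c33)) :=
  Lre_c IH (LK LD1_c7 LD2_c8 LD3_c0) (LK LD1_c3 LD2_c33 LD3_c33) Lrfl Lrfl
theorem f425377 : Led Lsl_af (LP (LK LD1_c3 LD2_c37 LD3_c1)) = (LP (LK LD1_c3 LD2_c33 LD3_c33)) :=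
  Lgr Lrot68 (Lpr_ct (f425314 IH) (Lpr_at (f425362 IH) (Lpr_ct (f97338 IH) (Lpn (LP (LK LD1_c3 LD2_c33 LD3_c33))))))
theorem f425386 : Led Lsl_gt (LP (LK LD1_c7 LD2_c14 LD3_c24)) = (LP (LK LD1_c3 LD2_c37 LD3_c1)) :=
  Lre_g IH (LK LD1_c7 LD2_c14 LD3_c24) (LK LD1_c3 LD2_c37 LD3_c1) Lrfl Lrfl
theorem f97346 : Led Lsl_ft (LP (LK LD1_c7 LD2_c8 LD3_c1)) = (LP (LK LD1_c3 LD2_c33 LD3_c33)) :=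
  Lre_f IH (LK LD1_c7 LD2_c8 LD3_c1) (LK LD1_c3 LD2_c33 LD3_c33) Lrfl Lrfl
theorem f425387 : Led Lsl_gf (LP (LK LD1_c7 LD2_c14 LD3_c24)) = (LP (LK LD1_c7 LD2_c8 LD3_c1)) :=
  Lgr Lrot47 (Lpr_gt (f425386 IH) (Lpr_af (f425377 IH) (Lpe (f97346 IH) (Lpn (LP (LK LD1_c7 LD2_c8 LD3_c1))))))
theorem f470668 : Led Lsl_dt (LP (LK LD1_c7 LD2_c12 LD3_c23)) = (LP (LK LD1_c7 LD2_c14 LD3_c24)) :=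
  Lgr Lrot37 (Lpr_et (f470667 IH) (Lpr_gt (K29.f470633 IH) (Lpr_dt (K29.f208974 IH) (Lpe (K29.f470661 IH) (Lpe (f446481 IH) (Lpr_et (f455307 IH) (Lpr_gt (K28.f455150 IH) (Lpr_ef (K28.f465623 IH) (Lpr_dt (K30.f97350 IH) (Lpe (f425387 IH) (Lpn (LP (LK LD1_c7 LD2_c14 LD3_c24)))))))))))))
theorem f471378 : Led Lsl_gf (LP (LK LD1_c3 LD2_c36 LD3_c53)) = (LP (LK LD1_c3 LD2_c33 LD3_c34)) :=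
  Lgr Lrot47 (Lpr_gt (K30.f471336 IH) (Lpr_af (K28.f425289 IH) (Lpe (K28.f97352 IH) (Lpn (LP (LK LD1_c3 LD2_c33 LD3_c34))))))
theorem f107940 : Led Lsl_ct (LP (LK LD1_c7 LD2_c13 LD3_c58)) = (LP (LK LD1_c3 LD2_c36 LD3_c51)) :=
  Lre_c IH (LK LD1_c7 LD2_c13 LD3_c58) (LK LD1_c3 LD2_c36 LD3_c51) Lrfl Lrfl
theorem f160397 : Led Lsl_gt (LP (LK LD1_c13 LD2_c41 LD3_c16)) = (LP (LK LD1_c7 LD2_c13 LD3_c58)) :=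
  Lre_g IH (LK LD1_c13 LD2_c41 LD3_c16) (LK LD1_c7 LD2_c13 LD3_c58) Lrfl Lrfl
theorem f97344 : Led Lsl_dt (LP (LK LD1_c7 LD2_c8 LD3_c1)) = (LP (LK LD1_c3 LD2_c33 LD3_c34)) :=
  Lre_d IH (LK LD1_c7 LD2_c8 LD3_c1) (LK LD1_c3 LD2_c33 LD3_c34) Lrfl Lrfl
theorem f471556 : Led Lsl_cf (LP (LK LD1_c13 LD2_c41 LD3_c16)) = (LP (LK LD1_c7 LD2_c14 LD3_c24)) :=
  Lgr Lrot169 (Lpr_gt (f160397 IH) (Lpr_ct (f107940 IH) (Lpe (K28.f96774 IH) (Lpe (K8.f17320 IH) (Lpe (K29.f17442 IH) (Lpe (K30.f107950 IH) (Lpr_gf (f471378 IH) (Lpe (f97344 IH) (Lpe (f425387 IH) (Lpn (LP (LK LD1_c7 LD2_c14 LD3_c24))))))))))))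
theorem f14945 : Led Lsl_ct (LP (LK LD1_c3 LD2_c56 LD3_c6)) = (LP (LK LD1_c1 LD2_c54 LD3_c46)) :=
  Lre_c IH (LK LD1_c3 LD2_c56 LD3_c6) (LK LD1_c1 LD2_c54 LD3_c46) Lrfl Lrfl
theorem f14946 : Led Lsl_dt (LP (LK LD1_c7 LD2_c53 LD3_c55)) = (LP (LK LD1_c3 LD2_c56 LD3_c6)) :=
  Lre_d IH (LK LD1_c7 LD2_c53 LD3_c55) (LK LD1_c3 LD2_c56 LD3_c6) Lrfl Lrfl
theorem f491448 : Led Lsl_ct (LP (LK LD1_c14 LD2_c53 LD3_c51)) = (LP (LK LD1_c7 LD2_c53 LD3_c55)) :=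
  Lre_c IH (LK LD1_c14 LD2_c53 LD3_c51) (LK LD1_c7 LD2_c53 LD3_c55) Lrfl Lrfl
theorem f510641 : Led Lsl_dt (LP (LK LD1_c13 LD2_c41 LD3_c16)) = (LP (LK LD1_c14 LD2_c53 LD3_c51)) :=
  Lgr Lrot140 (Lpr_cf (f471556 IH) (Lpe (f470668 IH) (Lpe (f107967 IH) (Lpe (f107960 IH) (Lpe (f510639 IH) (Lpr_at (f510594 IH) (Lpe (f14945 IH) (Lpe (f14946 IH) (Lpe (f491448 IH) (Lpn (LP (LK LD1_c14 LD2_c53 LD3_c51))))))))))))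
theorem f510647 : Led Lsl_df (LP (LK LD1_c13 LD2_c41 LD3_c16)) = (LP (LK LD1_c14 LD2_c53 LD3_c51)) :=
  Lgr Lrot38 (Lpr_dt (f510641 IH) (Lpn (LP (LK LD1_c14 LD2_c53 LD3_c51))))
theorem f471559 : Led Lsl_ct (LP (LK LD1_c13 LD2_c41 LD3_c16)) = (LP (LK LD1_c7 LD2_c14 LD3_c24)) :=
  Lgr Lrot59 (Lpr_cf (f471556 IH) (Lpn (LP (LK LD1_c7 LD2_c14 LD3_c24))))
theorem f470675 : Led Lsl_df (LP (LK LD1_c7 LD2_c12 LD3_c23)) = (LP (LK LD1_c7 LD2_c14 LD3_c24)) :=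
  Lgr Lrot38 (Lpr_dt (f470668 IH) (Lpn (LP (LK LD1_c7 LD2_c14 LD3_c24))))
theorem f107959 : Led Lsl_ct (LP (LK LD1_c7 LD2_c12 LD3_c23)) = (LP (LK LD1_c3 LD2_c35 LD3_c54)) :=
  Lre_c IH (LK LD1_c7 LD2_c12 LD3_c23) (LK LD1_c3 LD2_c35 LD3_c54) Lrfl Lrfl
theorem f491449 : Led Lsl_ct (LP (LK LD1_c7 LD2_c53 LD3_c55)) = (LP (LK LD1_c14 LD2_c53 LD3_c51)) :=
  Lre_c IH (LK LD1_c7 LD2_c53 LD3_c55) (LK LD1_c14 LD2_c53 LD3_c51) Lrfl Lrfl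
theorem f491447 : Led Lsl_dt (LP (LK LD1_c3 LD2_c56 LD3_c6)) = (LP (LK LD1_c7 LD2_c53 LD3_c55)) :=
  Lre_d IH (LK LD1_c3 LD2_c56 LD3_c6) (LK LD1_c7 LD2_c53 LD3_c55) Lrfl Lrfl
theorem f491332 : Led Lsl_dt (LP (LK LD1_c3 LD2_c24 LD3_c59)) = K29.v1083 :=
  Lgr Lrot42 (Lpr_df (K29.f491331 IH) (Lpn K29.v1083))
theorem f510568 : Led Lsl_ff (LP (LK LD1_c3 LD2_c24 LD3_c59)) = (LP (LK LD1_c3 LD2_c39 LD3_c2)) :=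
  Lgr Lrot19 (Lpr_dt (f491332 IH) (Lpr_ft (f510567 IH) (Lpe (K30.f493654 IH) (Lpn (LP (LK LD1_c3 LD2_c39 LD3_c2))))))
theorem f510653 : Led Lsl_af (LP (LK LD1_c3 LD2_c35 LD3_c54)) = (LP (LK LD1_c3 LD2_c24 LD3_c59)) :=
  Lgr Lrot109 (Lpe (f107959 IH) (Lpr_df (f470675 IH) (Lpe (f471559 IH) (Lpr_df (f510647 IH) (Lpe (f491449 IH) (Lpe (f491447 IH) (Lpe (K29.f14948 IH) (Lpe (K30.f493652 IH) (Lpe (f510568 IH) (Lpn (LP (LK LD1_c3 LD2_c24 LD3_c59))))))))))))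
theorem f510659 : Led Lsl_at (LP (LK LD1_c3 LD2_c34 LD3_c35)) = K29.v1083 :=
  Lgr Lrot51 (Lpr_df (f107956 IH) (Lpr_af (f510653 IH) (Lpr_df (K29.f491331 IH) (Lpn K29.v1083))))
theorem f511237 : Led Lsl_ff (LP (LK LD1_c3 LD2_c34 LD3_c35)) = (LP (LK LD1_c3 LD2_c33 LD3_c15)) :=
  Lgr Lrot30 (Lpr_at (f510659 IH) (Lpr_ft (f510567 IH) (Lpe (f510570 IH) (Lpn (LP (LK LD1_c3 LD2_c33 LD3_c15))))))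
theorem f511239 : Led Lsl_gt (LP (LK LD1_c3 LD2_c33 LD3_c15)) = (LP (LK LD1_c3 LD2_c34 LD3_c36)) :=
  Lgr Lrot5 (Lpe (f511237 IH) (Lpr_at (f510659 IH) (Lpe (K29.f491333 IH) (Lpn (LP (LK LD1_c3 LD2_c34 LD3_c36))))))
theorem f511240 : Led Lsl_gt (LP (LK LD1_c3 LD2_c33 LD3_c15)) = (LP (LK LD1_c3 LD2_c34 LD3_c36)) :=
  Leop (Lpe (f511239 IH) (Lpn (LP (LK LD1_c3 LD2_c33 LD3_c15))))
theorem seed_158 : LEOK LG_g (LK LD1_c3 LD2_c33 LD3_c15) :=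
  Leoe_g (LK LD1_c3 LD2_c33 LD3_c15) (f511240 IH)
def v2252 : LQ := Led Lsl_et (LP (LK LD1_c1 LD2_c38 LD3_c56))
theorem f511255 : Led Lsl_et (LP (LK LD1_c1 LD2_c38 LD3_c56)) = v2252 :=
  Lrfl
theorem f511258 : Led Lsl_ef (LP (LK LD1_c1 LD2_c38 LD3_c56)) = v2252 :=
  Lgr Lrot88 (Lpr_et (f511255 IH) (Lpn v2252))
theorem f15790 : Led Lsl_bt (LP (LK LD1_c1 LD2_c38 LD3_c56)) = (LP (LK LD1_c0 LD2_c45 LD3_c51)) :=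
  Lre_b IH (LK LD1_c1 LD2_c38 LD3_c56) (LK LD1_c0 LD2_c45 LD3_c51) Lrfl Lrfl
theorem f511262 : Led Lsl_bt K24.v578 = v2252 :=
  Lgr Lrot119 (Lpe (K24.f454968 IH) (Lpe (f15790 IH) (Lpr_ef (f511258 IH) (Lpn v2252))))
theorem f454975 : Led Lsl_bt (LP (LK LD1_c3 LD2_c34 LD3_c57)) = (LP (LK LD1_c1 LD2_c44 LD3_c13)) :=
  Lre_b IH (LK LD1_c3 LD2_c34 LD3_c57) (LK LD1_c1 LD2_c44 LD3_c13) Lrfl Lrfl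
theorem f511263 : Led Lsl_df (LP (LK LD1_c3 LD2_c34 LD3_c57)) = v2252 :=
  Lgr Lrot12 (Lpr_bt (f454975 IH) (Lpr_dt (f454972 IH) (Lpr_bt (f511262 IH) (Lpn v2252))))
theorem f458525 : Led Lsl_et (LP (LK LD1_c1 LD2_c38 LD3_c53)) = (LP (LK LD1_c3 LD2_c24 LD3_c59)) :=
  Lre_e IH (LK LD1_c1 LD2_c38 LD3_c53) (LK LD1_c3 LD2_c24 LD3_c59) Lrfl Lrfl
theorem f510660 : (LP (LK LD1_c1 LD2_c44 LD3_c46)) = v2251 :=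
  (Llr Lrot123 (Lpe (f107955 IH) (Lpr_af (f510653 IH) (Lpe (f458525 IH) (Lpr_af (f510483 IH) (Lpn v2251)))))).symm
theorem f106223 : Led Lsl_dt (LP (LK LD1_c1 LD2_c44 LD3_c46)) = (LP (LK LD1_c3 LD2_c35 LD3_c53)) :=
  Lre_d IH (LK LD1_c1 LD2_c44 LD3_c46) (LK LD1_c3 LD2_c35 LD3_c53) Lrfl Lrfl
theorem f510667 : Led Lsl_ff (LP (LK LD1_c3 LD2_c32 LD3_c27)) = (LP (LK LD1_c3 LD2_c35 LD3_c53)) :=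
  Lgr Lrot19 (Lpe (K28.f128110 IH) (Lpr_ft (f510484 IH) (Lpq (f510660 IH) (Lpr_dt (f106223 IH) (Lpn (LP (LK LD1_c3 LD2_c35 LD3_c53)))))))
theorem f441628 : Led Lsl_gt (LP (LK LD1_c3 LD2_c35 LD3_c53)) = (LP (LK LD1_c3 LD2_c37 LD3_c29)) :=
  Lre_g IH (LK LD1_c3 LD2_c35 LD3_c53) (LK LD1_c3 LD2_c37 LD3_c29) Lrfl Lrfl
theorem f464961 : Led Lsl_af (LP (LK LD1_c6 LD2_c58 LD3_c27)) = (LP (LK LD1_c6 LD2_c58 LD3_c9)) :=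
  Lgr Lrot0 (Lpr_at (K28.f464953 IH) (Lpn (LP (LK LD1_c6 LD2_c58 LD3_c9))))
theorem f464894 : Led Lsl_ft (LP (LK LD1_c3 LD2_c36 LD3_c41)) = (LP (LK LD1_c6 LD2_c58 LD3_c9)) :=
  Lgr Lrot54 (Lpe (K28.f128173 IH) (Lpr_ff (K28.f464864 IH) (Lpe (K28.f458597 IH) (Lpn (LP (LK LD1_c6 LD2_c58 LD3_c9))))))
theorem f462008 : Led Lsl_gt (LP (LK LD1_c3 LD2_c36 LD3_c41)) = (LP (LK LD1_c7 LD2_c13 LD3_c40)) :=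
  Lre_g IH (LK LD1_c3 LD2_c36 LD3_c41) (LK LD1_c7 LD2_c13 LD3_c40) Lrfl Lrfl
theorem f489533 : Led Lsl_gf (LP (LK LD1_c6 LD2_c58 LD3_c27)) = (LP (LK LD1_c7 LD2_c13 LD3_c40)) :=
  Lgr Lrot76 (Lpr_af (f464961 IH) (Lpe (f464894 IH) (Lpr_gt (f462008 IH) (Lpn (LP (LK LD1_c7 LD2_c13 LD3_c40))))))
theorem f440168 : Led Lsl_gt (LP (LK LD1_c13 LD2_c40 LD3_c56)) = (LP (LK LD1_c7 LD2_c13 LD3_c42)) :=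
  Lre_g IH (LK LD1_c13 LD2_c40 LD3_c56) (LK LD1_c7 LD2_c13 LD3_c42) Lrfl Lrfl
theorem f463782 : Led Lsl_gt (LP (LK LD1_c13 LD2_c14 LD3_c25)) = (LP (LK LD1_c13 LD2_c40 LD3_c56)) :=
  Lgr Lrot5 (Lpr_ft (K28.f463777 IH) (Lpe (K28.f440159 IH) (Lpe (f440168 IH) (Lpn (LP (LK LD1_c13 LD2_c40 LD3_c56))))))
theorem f470791 : Led Lsl_cf (LP (LK LD1_c13 LD2_c40 LD3_c56)) = (LP (LK LD1_c7 LD2_c14 LD3_c17)) :=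
  Lgr Lrot169 (Lpr_gt (f440168 IH) (Lpr_ct (K28.f106220 IH) (Lpe (K28.f128173 IH) (Lpe (K28.f128179 IH) (Lpqs (K28.f461930 IH) (Lpe (K28.f455489 IH) (Lpe (K29.f18579 IH) (Lpe (K28.f16741 IH) (Lpe (K29.f455335 IH) (Lpr_gt (K28.f470629 IH) (Lpn (LP (LK LD1_c7 LD2_c14 LD3_c17)))))))))))))
theorem f470794 : Led Lsl_ct (LP (LK LD1_c13 LD2_c40 LD3_c56)) = (LP (LK LD1_c7 LD2_c14 LD3_c17)) :=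
  Lgr Lrot59 (Lpr_cf (f470791 IH) (Lpn (LP (LK LD1_c7 LD2_c14 LD3_c17))))
theorem f475157 : Led Lsl_dt (LP (LK LD1_c7 LD2_c13 LD3_c40)) = (LP (LK LD1_c13 LD2_c17 LD3_c7)) :=
  Lgr Lrot105 (Lpe (f462008 IH) (Lpe (K28.f128173 IH) (Lpe (K29.f98533 IH) (Lpr_cf (K29.f475151 IH) (Lpe (K29.f473567 IH) (Lpr_dt (K5.f105997 IH) (Lpr_gt (K28.f468101 IH) (Lpr_dt (K29.f463879 IH) (Lpe (K29.f463851 IH) (Lpn (LP (LK LD1_c13 LD2_c17 LD3_c7))))))))))))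
theorem f475162 : Led Lsl_df (LP (LK LD1_c7 LD2_c13 LD3_c40)) = (LP (LK LD1_c13 LD2_c17 LD3_c7)) :=
  Lgr Lrot38 (Lpr_dt (f475157 IH) (Lpn (LP (LK LD1_c13 LD2_c17 LD3_c7))))
theorem f489535 : Led Lsl_gf (LP (LK LD1_c3 LD2_c24 LD3_c61)) = (LP (LK LD1_c3 LD2_c37 LD3_c29)) :=
  Lgr Lrot104 (Lpr_ct (K29.f446501 IH) (Lpr_df (K29.f470789 IH) (Lpe (f470794 IH) (Lpe (f463782 IH) (Lpe (K28.f463752 IH) (Lpr_gf (f489533 IH) (Lpr_df (f475162 IH) (Lpe (K29.f477548 IH) (Lpr_ct (K30.f477547 IH) (Lpn (LP (LK LD1_c3 LD2_c37 LD3_c29))))))))))))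
theorem f510673 : Led Lsl_at (LP (LK LD1_c3 LD2_c32 LD3_c27)) = (LP (LK LD1_c3 LD2_c24 LD3_c61)) :=
  Lgr Lrot26 (Lpr_ff (f510667 IH) (Lpr_gt (f441628 IH) (Lpe (f489535 IH) (Lpn (LP (LK LD1_c3 LD2_c24 LD3_c61))))))
theorem f106232 : Led Lsl_dt (LP (LK LD1_c3 LD2_c35 LD3_c53)) = (LP (LK LD1_c1 LD2_c44 LD3_c46)) :=
  Lre_d IH (LK LD1_c3 LD2_c35 LD3_c53) (LK LD1_c1 LD2_c44 LD3_c46) Lrfl Lrfl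
theorem f464951 : Led Lsl_dt (LP (LK LD1_c3 LD2_c35 LD3_c52)) = (LP (LK LD1_c7 LD2_c12 LD3_c22)) :=
  Lre_d IH (LK LD1_c3 LD2_c35 LD3_c52) (LK LD1_c7 LD2_c12 LD3_c22) Lrfl Lrfl
theorem f464952 : Led Lsl_ct (LP (LK LD1_c7 LD2_c12 LD3_c22)) = (LP (LK LD1_c13 LD2_c38 LD3_c46)) :=
  Lre_c IH (LK LD1_c7 LD2_c12 LD3_c22) (LK LD1_c13 LD2_c38 LD3_c46) Lrfl Lrfl
theorem f510675 : Led Lsl_df (LP (LK LD1_c13 LD2_c40 LD3_c56)) = (LP (LK LD1_c13 LD2_c38 LD3_c46)) :=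
  Lgr Lrot13 (Lpr_ct (f470794 IH) (Lpe (K29.f470789 IH) (Lpr_ct (K29.f446491 IH) (Lpe (f510673 IH) (Lpr_ff (f510667 IH) (Lpr_dt (f106232 IH) (Lpr_ct (K29.f106226 IH) (Lpr_dt (f464951 IH) (Lpr_ct (f464952 IH) (Lpn (LP (LK LD1_c13 LD2_c38 LD3_c46))))))))))))
theorem f510665 : Led Lsl_ff (LP (LK LD1_c3 LD2_c32 LD3_c43)) = (LP (LK LD1_c3 LD2_c35 LD3_c52)) :=
  Lgr Lrot23 (Lpr_ct (K29.f93163 IH) (Lpr_ft (f510484 IH) (Lpq (f510660 IH) (Lpr_ct (K29.f106226 IH) (Lpn (LP (LK LD1_c3 LD2_c35 LD3_c52)))))))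
theorem f510682 : Led Lsl_af (LP (LK LD1_c3 LD2_c24 LD3_c60)) = (LP (LK LD1_c3 LD2_c32 LD3_c43)) :=
  Lgr Lrot109 (Lpe (K28.f15791 IH) (Lpe (K24.f446495 IH) (Lpe (K29.f446491 IH) (Lpr_df (K29.f470789 IH) (Lpe (f470794 IH) (Lpr_df (f510675 IH) (Lpe (f464952 IH) (Lpe (f464951 IH) (Lpe (f510665 IH) (Lpn (LP (LK LD1_c3 LD2_c32 LD3_c43))))))))))))
theorem f510692 : Led Lsl_at (LP (LK LD1_c1 LD2_c38 LD3_c56)) = (LP (LK LD1_c1 LD2_c43 LD3_c2)) :=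
  Lgr Lrot107 (Lpe (K28.f16739 IH) (Lpr_af (f510682 IH) (Lpe (K24.f93159 IH) (Lpn (LP (LK LD1_c1 LD2_c43 LD3_c2))))))
theorem f128116 : Led Lsl_et (LP (LK LD1_c1 LD2_c43 LD3_c2)) = (LP (LK LD1_c3 LD2_c32 LD3_c44)) :=
  Lre_e IH (LK LD1_c1 LD2_c43 LD3_c2) (LK LD1_c3 LD2_c32 LD3_c44) Lrfl Lrfl
theorem f511261 : Led Lsl_at (LP (LK LD1_c3 LD2_c32 LD3_c44)) = v2252 :=
  Lgr Lrot80 (Lpe (f128116 IH) (Lpe (f510692 IH) (Lpr_ef (f511258 IH) (Lpn v2252))))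
theorem f128128 : Led Lsl_dt (LP (LK LD1_c3 LD2_c34 LD3_c8)) = (LP (LK LD1_c3 LD2_c32 LD3_c44)) :=
  Lre_d IH (LK LD1_c3 LD2_c34 LD3_c8) (LK LD1_c3 LD2_c32 LD3_c44) Lrfl Lrfl
theorem f511264 : Led Lsl_at (LP (LK LD1_c3 LD2_c34 LD3_c57)) = (LP (LK LD1_c3 LD2_c34 LD3_c8)) :=
  Lgr Lrot51 (Lpr_df (f511263 IH) (Lpe (f511261 IH) (Lpe (f128128 IH) (Lpn (LP (LK LD1_c3 LD2_c34 LD3_c8))))))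
theorem f511265 : Led Lsl_at (LP (LK LD1_c3 LD2_c34 LD3_c57)) = (LP (LK LD1_c3 LD2_c34 LD3_c8)) :=
  Leop (Lpe (f511264 IH) (Lpn (LP (LK LD1_c3 LD2_c34 LD3_c57))))
theorem seed_159 : LEOK LG_a (LK LD1_c3 LD2_c34 LD3_c57) :=
  Leoe_a (LK LD1_c3 LD2_c34 LD3_c57) (f511265 IH)
def v2253 : LQ := Led Lsl_dt (LP (LK LD1_c1 LD2_c39 LD3_c2))
theorem f511274 : Led Lsl_dt (LP (LK LD1_c1 LD2_c39 LD3_c2)) = v2253 :=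
  Lrfl
theorem f19466 : Led Lsl_et (LP (LK LD1_c3 LD2_c34 LD3_c49)) = (LP (LK LD1_c7 LD2_c10 LD3_c49)) :=
  Lre_e IH (LK LD1_c3 LD2_c34 LD3_c49) (LK LD1_c7 LD2_c10 LD3_c49) Lrfl Lrfl
theorem f19723 : Led Lsl_gt (LP (LK LD1_c7 LD2_c10 LD3_c49)) = (LP (LK LD1_c13 LD2_c36 LD3_c5)) :=
  Lre_g IH (LK LD1_c7 LD2_c10 LD3_c49) (LK LD1_c13 LD2_c36 LD3_c5) Lrfl Lrfl
theorem f19729 : Led Lsl_et (LP (LK LD1_c23 LD2_c0 LD3_c11)) = (LP (LK LD1_c13 LD2_c36 LD3_c5)) :=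
  Lre_e IH (LK LD1_c23 LD2_c0 LD3_c11) (LK LD1_c13 LD2_c36 LD3_c5) Lrfl Lrfl
theorem f429111 : Led Lsl_et (LP (LK LD1_c3 LD2_c37 LD3_c55)) = (LP (LK LD1_c1 LD2_c45 LD3_c47)) :=
  Lre_e IH (LK LD1_c3 LD2_c37 LD3_c55) (LK LD1_c1 LD2_c45 LD3_c47) Lrfl Lrfl
theorem f19841 : Led Lsl_dt (LP (LK LD1_c3 LD2_c37 LD3_c55)) = (LP (LK LD1_c7 LD2_c15 LD3_c50)) :=
  Lre_d IH (LK LD1_c3 LD2_c37 LD3_c55) (LK LD1_c7 LD2_c15 LD3_c50) Lrfl Lrfl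
theorem f429138 : Led Lsl_gt (LP (LK LD1_c13 LD2_c44 LD3_c34)) = (LP (LK LD1_c7 LD2_c15 LD3_c50)) :=
  Lre_g IH (LK LD1_c13 LD2_c44 LD3_c34) (LK LD1_c7 LD2_c15 LD3_c50) Lrfl Lrfl
theorem f429139 : Led Lsl_dt (LP (LK LD1_c23 LD2_c0 LD3_c11)) = (LP (LK LD1_c13 LD2_c44 LD3_c34)) :=
  Lgr Lrot136 (Lpr_et (f19729 IH) (Lpe (f19723 IH) (Lpe (f19466 IH) (Lpe (K3.f106634 IH) (Lpe (K3.f106646 IH) (Lpe (K3.f106589 IH) (Lpr_gf (K29.f429121 IH) (Lpe (f429111 IH) (Lpr_dt (f19841 IH) (Lpe (f429138 IH) (Lpn (LP (LK LD1_c13 LD2_c44 LD3_c34)))))))))))))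
theorem f19479 : Led Lsl_et (LP (LK LD1_c7 LD2_c10 LD3_c49)) = (LP (LK LD1_c3 LD2_c34 LD3_c49)) :=
  Lre_e IH (LK LD1_c7 LD2_c10 LD3_c49) (LK LD1_c3 LD2_c34 LD3_c49) Lrfl Lrfl
theorem f19480 : Led Lsl_ft (LP (LK LD1_c13 LD2_c36 LD3_c8)) = (LP (LK LD1_c7 LD2_c10 LD3_c49)) :=
  Lre_f IH (LK LD1_c13 LD2_c36 LD3_c8) (LK LD1_c7 LD2_c10 LD3_c49) Lrfl Lrfl
theorem f19451 : Led Lsl_et (LP (LK LD1_c3 LD2_c32 LD3_c60)) = (LP (LK LD1_c7 LD2_c6 LD3_c59)) :=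
  Lre_e IH (LK LD1_c3 LD2_c32 LD3_c60) (LK LD1_c7 LD2_c6 LD3_c59) Lrfl Lrfl
theorem f19481 : Led Lsl_ft (LP (LK LD1_c7 LD2_c6 LD3_c59)) = (LP (LK LD1_c13 LD2_c29 LD3_c10)) :=
  Lre_f IH (LK LD1_c7 LD2_c6 LD3_c59) (LK LD1_c13 LD2_c29 LD3_c10) Lrfl Lrfl
theorem f19482 : Led Lsl_ef (LP (LK LD1_c13 LD2_c36 LD3_c8)) = (LP (LK LD1_c13 LD2_c29 LD3_c10)) :=
  Lgr Lrot21 (Lpr_ft (f19480 IH) (Lpr_et (f19479 IH) (Lpr_ft (K3.f19472 IH) (Lpr_et (f19451 IH) (Lpr_ft (f19481 IH) (Lpn (LP (LK LD1_c13 LD2_c29 LD3_c10))))))))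
theorem f19498 : Led Lsl_at (LP (LK LD1_c7 LD2_c10 LD3_c52)) = (LP (LK LD1_c13 LD2_c29 LD3_c10)) :=
  Lre_a IH (LK LD1_c7 LD2_c10 LD3_c52) (LK LD1_c13 LD2_c29 LD3_c10) Lrfl Lrfl
theorem f19499 : Led Lsl_et (LP (LK LD1_c13 LD2_c36 LD3_c17)) = (LP (LK LD1_c7 LD2_c10 LD3_c52)) :=
  Lre_e IH (LK LD1_c13 LD2_c36 LD3_c17) (LK LD1_c7 LD2_c10 LD3_c52) Lrfl Lrfl
theorem f19500 : Led Lsl_at (LP (LK LD1_c13 LD2_c36 LD3_c8)) = (LP (LK LD1_c13 LD2_c36 LD3_c17)) :=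
  Lgr Lrot80 (Lpr_ef (f19482 IH) (Lpe (f19498 IH) (Lpe (f19499 IH) (Lpn (LP (LK LD1_c13 LD2_c36 LD3_c17))))))
theorem f19467 : Led Lsl_ft (LP (LK LD1_c7 LD2_c10 LD3_c49)) = (LP (LK LD1_c13 LD2_c36 LD3_c8)) :=
  Lre_f IH (LK LD1_c7 LD2_c10 LD3_c49) (LK LD1_c13 LD2_c36 LD3_c8) Lrfl Lrfl
theorem f19724 : Led Lsl_gt (LP (LK LD1_c13 LD2_c36 LD3_c5)) = (LP (LK LD1_c13 LD2_c36 LD3_c17)) :=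
  Lgr Lrot46 (Lpe (f19723 IH) (Lpr_ft (f19467 IH) (Lpr_at (f19500 IH) (Lpn (LP (LK LD1_c13 LD2_c36 LD3_c17))))))
theorem f19507 : Led Lsl_et (LP (LK LD1_c7 LD2_c10 LD3_c52)) = (LP (LK LD1_c13 LD2_c36 LD3_c17)) :=
  Lre_e IH (LK LD1_c7 LD2_c10 LD3_c52) (LK LD1_c13 LD2_c36 LD3_c17) Lrfl Lrfl
theorem f19567 : Led Lsl_dt (LP (LK LD1_c7 LD2_c10 LD3_c52)) = (LP (LK LD1_c13 LD2_c34 LD3_c14)) :=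
  Lre_d IH (LK LD1_c7 LD2_c10 LD3_c52) (LK LD1_c13 LD2_c34 LD3_c14) Lrfl Lrfl
theorem f19730 : Led Lsl_gt (LP (LK LD1_c13 LD2_c34 LD3_c14)) = (LP (LK LD1_c22 LD2_c48 LD3_c43)) :=
  Lre_g IH (LK LD1_c13 LD2_c34 LD3_c14) (LK LD1_c22 LD2_c48 LD3_c43) Lrfl Lrfl
theorem f19829 : Led Lsl_gt (LP (LK LD1_c23 LD2_c5 LD3_c48)) = (LP (LK LD1_c13 LD2_c44 LD3_c34)) :=
  Lre_g IH (LK LD1_c23 LD2_c5 LD3_c48) (LK LD1_c13 LD2_c44 LD3_c34) Lrfl Lrfl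
theorem f19828 : Led Lsl_dt (LP (LK LD1_c13 LD2_c40 LD3_c23)) = (LP (LK LD1_c23 LD2_c5 LD3_c48)) :=
  Lre_d IH (LK LD1_c13 LD2_c40 LD3_c23) (LK LD1_c23 LD2_c5 LD3_c48) Lrfl Lrfl
theorem f19855 : Led Lsl_gt (LP (LK LD1_c7 LD2_c16 LD3_c14)) = (LP (LK LD1_c13 LD2_c40 LD3_c23)) :=
  Lre_g IH (LK LD1_c7 LD2_c16 LD3_c14) (LK LD1_c13 LD2_c40 LD3_c23) Lrfl Lrfl
theorem f19986 : Led Lsl_et (LP (LK LD1_c13 LD2_c45 LD3_c29)) = (LP (LK LD1_c7 LD2_c16 LD3_c14)) :=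
  Lre_e IH (LK LD1_c13 LD2_c45 LD3_c29) (LK LD1_c7 LD2_c16 LD3_c14) Lrfl Lrfl
theorem f429157 : Led Lsl_df (LP (LK LD1_c22 LD2_c48 LD3_c43)) = (LP (LK LD1_c13 LD2_c45 LD3_c29)) :=
  Lgr Lrot168 (Lpe (f19730 IH) (Lpe (f19567 IH) (Lpr_et (f19507 IH) (Lpe (f19724 IH) (Lpe (f19729 IH) (Lpr_dt (f429139 IH) (Lpe (f19829 IH) (Lpe (f19828 IH) (Lpe (f19855 IH) (Lpe (f19986 IH) (Lpn (LP (LK LD1_c13 LD2_c45 LD3_c29)))))))))))))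
theorem f19574 : Led Lsl_gt (LP (LK LD1_c22 LD2_c48 LD3_c43)) = (LP (LK LD1_c13 LD2_c28 LD3_c47)) :=
  Lre_g IH (LK LD1_c22 LD2_c48 LD3_c43) (LK LD1_c13 LD2_c28 LD3_c47) Lrfl Lrfl
theorem f19562 : Led Lsl_dt (LP (LK LD1_c7 LD2_c6 LD3_c59)) = (LP (LK LD1_c13 LD2_c28 LD3_c47)) :=
  Lre_d IH (LK LD1_c7 LD2_c6 LD3_c59) (LK LD1_c13 LD2_c28 LD3_c47) Lrfl Lrfl
theorem f19468 : Led Lsl_et (LP (LK LD1_c7 LD2_c6 LD3_c59)) = (LP (LK LD1_c3 LD2_c32 LD3_c60)) :=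
  Lre_e IH (LK LD1_c7 LD2_c6 LD3_c59) (LK LD1_c3 LD2_c32 LD3_c60) Lrfl Lrfl
theorem f429164 : Led Lsl_gt (LP (LK LD1_c3 LD2_c37 LD3_c55)) = (LP (LK LD1_c7 LD2_c16 LD3_c14)) :=
  Lre_g IH (LK LD1_c3 LD2_c37 LD3_c55) (LK LD1_c7 LD2_c16 LD3_c14) Lrfl Lrfl
theorem f429165 : Led Lsl_et (LP (LK LD1_c1 LD2_c45 LD3_c47)) = (LP (LK LD1_c3 LD2_c37 LD3_c55)) :=
  Lre_e IH (LK LD1_c1 LD2_c45 LD3_c47) (LK LD1_c3 LD2_c37 LD3_c55) Lrfl Lrfl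
theorem f10943 : Led Lsl_gt (LP (LK LD1_c1 LD2_c45 LD3_c45)) = (LP (LK LD1_c0 LD2_c49 LD3_c32)) :=
  Lre_g IH (LK LD1_c1 LD2_c45 LD3_c45) (LK LD1_c0 LD2_c49 LD3_c32) Lrfl Lrfl
theorem f429166 : Led Lsl_dt (LP (LK LD1_c3 LD2_c37 LD3_c51)) = (LP (LK LD1_c1 LD2_c45 LD3_c45)) :=
  Lre_d IH (LK LD1_c3 LD2_c37 LD3_c51) (LK LD1_c1 LD2_c45 LD3_c45) Lrfl Lrfl
theorem f429167 : Led Lsl_gt (LP (LK LD1_c3 LD2_c32 LD3_c60)) = (LP (LK LD1_c3 LD2_c37 LD3_c51)) :=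
  Lgr Lrot137 (Lpe (f19468 IH) (Lpr_dt (f19562 IH) (Lpe (f19574 IH) (Lpr_df (f429157 IH) (Lpr_et (f19986 IH) (Lpe (f429164 IH) (Lpe (f429165 IH) (Lpr_dt (K29.f10941 IH) (Lpe (f10943 IH) (Lpe (f429166 IH) (Lpn (LP (LK LD1_c3 LD2_c37 LD3_c51)))))))))))))
theorem f511281 : Led Lsl_ct (LP (LK LD1_c1 LD2_c45 LD3_c45)) = v2253 :=
  Lgr Lrot7 (Lpe (f429166 IH) (Lpe (f429167 IH) (Lpe (K0.f17973 IH) (Lpe (K3.f10406 IH) (Lpe (K3.f86844 IH) (Lpe (K3.f105769 IH) (Lpr_dt (K2.f19390 IH) (Lpr_gt (K7.f143273 IH) (Lpr_dt (f511274 IH) (Lpn v2253))))))))))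
theorem f448424 : Led Lsl_bt (LP (LK LD1_c1 LD2_c45 LD3_c45)) = (LP (LK LD1_c3 LD2_c37 LD3_c50)) :=
  Lre_b IH (LK LD1_c1 LD2_c45 LD3_c45) (LK LD1_c3 LD2_c37 LD3_c50) Lrfl Lrfl
theorem f429200 : Led Lsl_gt (LP (LK LD1_c7 LD2_c16 LD3_c5)) = (LP (LK LD1_c3 LD2_c37 LD3_c50)) :=
  Lre_g IH (LK LD1_c7 LD2_c16 LD3_c5) (LK LD1_c3 LD2_c37 LD3_c50) Lrfl Lrfl
theorem f429201 : Led Lsl_bt (LP (LK LD1_c13 LD2_c45 LD3_c5)) = (LP (LK LD1_c7 LD2_c16 LD3_c5)) :=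
  Lre_b IH (LK LD1_c13 LD2_c45 LD3_c5) (LK LD1_c7 LD2_c16 LD3_c5) Lrfl Lrfl
theorem f448434 : Led Lsl_ct (LP (LK LD1_c13 LD2_c45 LD3_c5)) = (LP (LK LD1_c23 LD2_c11 LD3_c57)) :=
  Lre_c IH (LK LD1_c13 LD2_c45 LD3_c5) (LK LD1_c23 LD2_c11 LD3_c57) Lrfl Lrfl
theorem f106089 : Led Lsl_dt (LP (LK LD1_c0 LD2_c48 LD3_c32)) = (LP (LK LD1_c1 LD2_c43 LD3_c57)) :=
  Lre_d IH (LK LD1_c0 LD2_c48 LD3_c32) (LK LD1_c1 LD2_c43 LD3_c57) Lrfl Lrfl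
theorem f430273 : Led Lsl_gf (LP (LK LD1_c3 LD2_c28 LD3_c52)) = (LP (LK LD1_c1 LD2_c43 LD3_c57)) :=
  Lgr Lrot145 (Lpe (K3.f84698 IH) (Lpr_et (K3.f19380 IH) (Lpe (K2.f84689 IH) (Lpr_dt (K2.f10782 IH) (Lpr_gt (K2.f94450 IH) (Lpe (K2.f5764 IH) (Lpr_et (K2.f85192 IH) (Lpr_gt (K11.f430205 IH) (Lpr_ef (K11.f430269 IH) (Lpr_dt (f106089 IH) (Lpn (LP (LK LD1_c1 LD2_c43 LD3_c57)))))))))))))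
theorem f87126 : Led Lsl_dt (LP (LK LD1_c1 LD2_c41 LD3_c11)) = (LP (LK LD1_c0 LD2_c47 LD3_c9)) :=
  Lre_d IH (LK LD1_c1 LD2_c41 LD3_c11) (LK LD1_c0 LD2_c47 LD3_c9) Lrfl Lrfl
theorem f511280 : Led Lsl_gf (LP (LK LD1_c1 LD2_c41 LD3_c11)) = v2253 :=
  Lgr Lrot143 (Lpr_dt (f87126 IH) (Lpr_cf (K3.f84716 IH) (Lpe (K3.f85011 IH) (Lpr_gf (f430273 IH) (Lpe (f106089 IH) (Lpe (K3.f106648 IH) (Lpr_cf (K3.f90397 IH) (Lpr_gt (K7.f143273 IH) (Lpr_dt (f511274 IH) (Lpn v2253))))))))))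
theorem f87092 : Led Lsl_ct (LP (LK LD1_c3 LD2_c28 LD3_c54)) = (LP (LK LD1_c1 LD2_c41 LD3_c11)) :=
  Lre_c IH (LK LD1_c3 LD2_c28 LD3_c54) (LK LD1_c1 LD2_c41 LD3_c11) Lrfl Lrfl
theorem f87045 : Led Lsl_bt (LP (LK LD1_c3 LD2_c28 LD3_c54)) = (LP (LK LD1_c6 LD2_c59 LD3_c23)) :=
  Lre_b IH (LK LD1_c3 LD2_c28 LD3_c54) (LK LD1_c6 LD2_c59 LD3_c23) Lrfl Lrfl
theorem f87070 : Led Lsl_gt (LP (LK LD1_c6 LD2_c59 LD3_c23)) = (LP (LK LD1_c13 LD2_c15 LD3_c51)) :=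
  Lre_g IH (LK LD1_c6 LD2_c59 LD3_c23) (LK LD1_c13 LD2_c15 LD3_c51) Lrfl Lrfl
theorem f511283 : Led Lsl_ct (LP (LK LD1_c13 LD2_c15 LD3_c51)) = (LP (LK LD1_c22 LD2_c30 LD3_c59)) :=
  Lre_c IH (LK LD1_c13 LD2_c15 LD3_c51) (LK LD1_c22 LD2_c30 LD3_c59) Lrfl Lrfl
theorem f511284 : Led Lsl_gf (LP (LK LD1_c23 LD2_c11 LD3_c57)) = (LP (LK LD1_c22 LD2_c30 LD3_c59)) :=
  Lgr Lrot129 (Lpe (f448434 IH) (Lpr_bt (f429201 IH) (Lpr_gt (f429200 IH) (Lpe (f448424 IH) (Lpr_ct (f511281 IH) (Lpe (f511280 IH) (Lpe (f87092 IH) (Lpr_bt (f87045 IH) (Lpr_gt (f87070 IH) (Lpr_ct (f511283 IH) (Lpn (LP (LK LD1_c22 LD2_c30 LD3_c59)))))))))))))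
theorem f511285 : Led Lsl_gt (LP (LK LD1_c22 LD2_c30 LD3_c59)) = (LP (LK LD1_c23 LD2_c11 LD3_c57)) :=
  Leop (Lpr_gf (f511284 IH) (Lpn (LP (LK LD1_c22 LD2_c30 LD3_c59))))
theorem seed_160 : LEOK LG_g (LK LD1_c22 LD2_c30 LD3_c59) :=
  Leoe_g (LK LD1_c22 LD2_c30 LD3_c59) (f511285 IH)
def v755 : LQ := Led Lsl_gt (LP (LK LD1_c0 LD2_c50 LD3_c13))
theorem f457097 : Led Lsl_gt (LP (LK LD1_c0 LD2_c50 LD3_c13)) = v755 :=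
  Lrfl
def v2281 : LQ := Led Lsl_gf (LP (LK LD1_c1 LD2_c40 LD3_c25))
theorem f511448 : Led Lsl_gf (LP (LK LD1_c1 LD2_c40 LD3_c25)) = v2281 :=
  Lrfl
theorem f160518 : Led Lsl_bt (LP (LK LD1_c7 LD2_c13 LD3_c37)) = (LP (LK LD1_c3 LD2_c36 LD3_c40)) :=
  Lre_b IH (LK LD1_c7 LD2_c13 LD3_c37) (LK LD1_c3 LD2_c36 LD3_c40) Lrfl Lrfl
theorem f475182 : Led Lsl_ff (LP (LK LD1_c7 LD2_c13 LD3_c37)) = (LP (LK LD1_c6 LD2_c56 LD3_c48)) :=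
  Lgr Lrot25 (Lpr_bt (f160518 IH) (Lpr_ft (K29.f475155 IH) (Lpr_bt (K28.f470509 IH) (Lpn (LP (LK LD1_c6 LD2_c56 LD3_c48))))))
theorem f475097 : Led Lsl_bt (LP (LK LD1_c3 LD2_c36 LD3_c40)) = (LP (LK LD1_c7 LD2_c13 LD3_c37)) :=
  Lre_b IH (LK LD1_c3 LD2_c36 LD3_c40) (LK LD1_c7 LD2_c13 LD3_c37) Lrfl Lrfl
theorem f15937 : Led Lsl_bt (LP (LK LD1_c6 LD2_c54 LD3_c24)) = (LP (LK LD1_c3 LD2_c26 LD3_c14)) :=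
  Lre_b IH (LK LD1_c6 LD2_c54 LD3_c24) (LK LD1_c3 LD2_c26 LD3_c14) Lrfl Lrfl
theorem f475153 : Led Lsl_ct (LP (LK LD1_c7 LD2_c13 LD3_c37)) = (LP (LK LD1_c6 LD2_c54 LD3_c24)) :=
  Lgr Lrot83 (Lpe (f475097 IH) (Lpr_cf (K29.f475151 IH) (Lpe (K29.f473551 IH) (Lpr_cf (K29.f472216 IH) (Lpe (f15937 IH) (Lpn (LP (LK LD1_c6 LD2_c54 LD3_c24))))))))
theorem f475253 : Led Lsl_ft (LP (LK LD1_c6 LD2_c54 LD3_c24)) = (LP (LK LD1_c3 LD2_c27 LD3_c22)) :=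
  Lgr Lrot4 (Lpe (f475153 IH) (Lpr_ff (f475182 IH) (Lpe (K28.f15700 IH) (Lpn (LP (LK LD1_c3 LD2_c27 LD3_c22))))))
theorem f475341 : Led Lsl_ff (LP (LK LD1_c6 LD2_c54 LD3_c24)) = (LP (LK LD1_c3 LD2_c27 LD3_c22)) :=
  Lgr Lrot3 (Lpr_ft (f475253 IH) (Lpn (LP (LK LD1_c3 LD2_c27 LD3_c22))))
theorem f472547 : Led Lsl_dt (LP (LK LD1_c6 LD2_c54 LD3_c24)) = (LP (LK LD1_c13 LD2_c7 LD3_c27)) :=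
  Lre_d IH (LK LD1_c6 LD2_c54 LD3_c24) (LK LD1_c13 LD2_c7 LD3_c27) Lrfl Lrfl
theorem f472520 : Led Lsl_dt (LP (LK LD1_c6 LD2_c56 LD3_c49)) = (LP (LK LD1_c3 LD2_c27 LD3_c22)) :=
  Lre_d IH (LK LD1_c6 LD2_c56 LD3_c49) (LK LD1_c3 LD2_c27 LD3_c22) Lrfl Lrfl
theorem f475351 : Led Lsl_ft (LP (LK LD1_c13 LD2_c7 LD3_c27)) = (LP (LK LD1_c6 LD2_c56 LD3_c49)) :=
  Lgr Lrot54 (Lpe (f472547 IH) (Lpr_ff (f475341 IH) (Lpe (f472520 IH) (Lpn (LP (LK LD1_c6 LD2_c56 LD3_c49))))))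
theorem f473530 : Led Lsl_bt (LP (LK LD1_c6 LD2_c54 LD3_c25)) = (LP (LK LD1_c13 LD2_c7 LD3_c27)) :=
  Lre_b IH (LK LD1_c6 LD2_c54 LD3_c25) (LK LD1_c13 LD2_c7 LD3_c27) Lrfl Lrfl
theorem f473189 : Led Lsl_bt (LP (LK LD1_c6 LD2_c56 LD3_c49)) = (LP (LK LD1_c3 LD2_c27 LD3_c23)) :=
  Lre_b IH (LK LD1_c6 LD2_c56 LD3_c49) (LK LD1_c3 LD2_c27 LD3_c23) Lrfl Lrfl
theorem f475365 : Led Lsl_ff (LP (LK LD1_c6 LD2_c54 LD3_c25)) = (LP (LK LD1_c3 LD2_c27 LD3_c23)) :=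
  Lgr Lrot25 (Lpr_bt (f473530 IH) (Lpr_ft (f475351 IH) (Lpr_bt (f473189 IH) (Lpn (LP (LK LD1_c3 LD2_c27 LD3_c23))))))
theorem f475382 : Led Lsl_at (LP (LK LD1_c6 LD2_c54 LD3_c25)) = (LP (LK LD1_c3 LD2_c27 LD3_c26)) :=
  Lgr Lrot26 (Lpr_ff (f475365 IH) (Lpr_gt (K28.f90897 IH) (Lpe (K28.f469056 IH) (Lpn (LP (LK LD1_c3 LD2_c27 LD3_c26))))))
theorem f475389 : Led Lsl_af (LP (LK LD1_c13 LD2_c7 LD3_c28)) = (LP (LK LD1_c6 LD2_c56 LD3_c61)) :=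
  Lgr Lrot68 (Lpr_ct (K29.f464471 IH) (Lpr_at (f475382 IH) (Lpr_ct (K28.f15960 IH) (Lpn (LP (LK LD1_c6 LD2_c56 LD3_c61))))))
theorem f476063 : Led Lsl_at (LP (LK LD1_c13 LD2_c7 LD3_c28)) = (LP (LK LD1_c6 LD2_c56 LD3_c61)) :=
  Lgr Lrot100 (Lpr_af (f475389 IH) (Lpn (LP (LK LD1_c6 LD2_c56 LD3_c61))))
theorem f476075 : Led Lsl_ff (LP (LK LD1_c13 LD2_c7 LD3_c28)) = (LP (LK LD1_c6 LD2_c56 LD3_c53)) :=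
  Lgr Lrot103 (Lpr_at (f476063 IH) (Lpe (K28.f15960 IH) (Lpe (K28.f15326 IH) (Lpr_cf (K28.f457790 IH) (Lpr_df (K29.f62997 IH) (Lpe (K29.f63003 IH) (Lpr_df (K29.f458002 IH) (Lpe (K28.f458006 IH) (Lpr_df (K29.f473084 IH) (Lpn (LP (LK LD1_c6 LD2_c56 LD3_c53))))))))))))
theorem f472816 : Led Lsl_gt (LP (LK LD1_c6 LD2_c56 LD3_c53)) = (LP (LK LD1_c13 LD2_c11 LD3_c33)) :=
  Lre_g IH (LK LD1_c6 LD2_c56 LD3_c53) (LK LD1_c13 LD2_c11 LD3_c33) Lrfl Lrfl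
theorem f476081 : Led Lsl_gf (LP (LK LD1_c6 LD2_c56 LD3_c61)) = (LP (LK LD1_c13 LD2_c11 LD3_c33)) :=
  Lgr Lrot76 (Lpe (f476063 IH) (Lpr_ff (f476075 IH) (Lpr_gt (f472816 IH) (Lpn (LP (LK LD1_c13 LD2_c11 LD3_c33))))))
theorem f476083 : Led Lsl_ct (LP (LK LD1_c13 LD2_c7 LD3_c44)) = (LP (LK LD1_c13 LD2_c11 LD3_c33)) :=
  Lgr Lrot152 (Lpe (K29.f98815 IH) (Lpe (K29.f98755 IH) (Lpr_gt (K28.f15900 IH) (Lpe (K28.f464228 IH) (Lpr_gt (K28.f463594 IH) (Lpe (K28.f457790 IH) (Lpe (K28.f457801 IH) (Lpe (K28.f457802 IH) (Lpr_gf (f476081 IH) (Lpn (LP (LK LD1_c13 LD2_c11 LD3_c33))))))))))))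
theorem f472947 : Led Lsl_dt (LP (LK LD1_c6 LD2_c56 LD3_c61)) = (LP (LK LD1_c13 LD2_c3 LD3_c39)) :=
  Lgr Lrot27 (Lpe (K28.f15960 IH) (Lpr_gf (K28.f469056 IH) (Lpe (K28.f469058 IH) (Lpr_gf (K28.f472935 IH) (Lpr_df (K28.f472703 IH) (Lpr_gt (K28.f17049 IH) (Lpr_ct (K28.f18451 IH) (Lpr_gt (K28.f18363 IH) (Lpr_ct (K28.f18372 IH) (Lpn (LP (LK LD1_c13 LD2_c3 LD3_c39))))))))))))
theorem f476092 : Led Lsl_gt (LP (LK LD1_c13 LD2_c7 LD3_c44)) = (LP (LK LD1_c6 LD2_c54 LD3_c35)) :=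
  Lgr Lrot180 (Lpr_ct (f476083 IH) (Lpe (f476081 IH) (Lpr_dt (f472947 IH) (Lpr_gt (K28.f18373 IH) (Lpe (K28.f473056 IH) (Lpr_ct (K29.f473063 IH) (Lpe (K28.f95920 IH) (Lpe (K28.f463246 IH) (Lpe (K29.f90879 IH) (Lpn (LP (LK LD1_c6 LD2_c54 LD3_c35))))))))))))
theorem f11358 : Led Lsl_dt (LP (LK LD1_c3 LD2_c56 LD3_c32)) = (LP (LK LD1_c1 LD2_c54 LD3_c60)) :=
  Lre_d IH (LK LD1_c3 LD2_c56 LD3_c32) (LK LD1_c1 LD2_c54 LD3_c60) Lrfl Lrfl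
theorem f451631 : Led Lsl_bt (LP (LK LD1_c1 LD2_c55 LD3_c2)) = (LP (LK LD1_c3 LD2_c56 LD3_c36)) :=
  Lre_b IH (LK LD1_c1 LD2_c55 LD3_c2) (LK LD1_c3 LD2_c56 LD3_c36) Lrfl Lrfl
theorem f451632 : Led Lsl_bt (LP (LK LD1_c3 LD2_c56 LD3_c16)) = (LP (LK LD1_c1 LD2_c54 LD3_c53)) :=
  Lre_b IH (LK LD1_c3 LD2_c56 LD3_c16) (LK LD1_c1 LD2_c54 LD3_c53) Lrfl Lrfl
theorem f451633 : Led Lsl_ff (LP (LK LD1_c1 LD2_c55 LD3_c2)) = (LP (LK LD1_c1 LD2_c54 LD3_c53)) :=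
  Lgr Lrot25 (Lpr_bt (f451631 IH) (Lpr_ft (K28.f451627 IH) (Lpr_bt (f451632 IH) (Lpn (LP (LK LD1_c1 LD2_c54 LD3_c53))))))
theorem f451873 : Led Lsl_at (LP (LK LD1_c1 LD2_c55 LD3_c2)) = (LP (LK LD1_c3 LD2_c56 LD3_c32)) :=
  Lre_a IH (LK LD1_c1 LD2_c55 LD3_c2) (LK LD1_c3 LD2_c56 LD3_c32) Lrfl Lrfl
theorem f451996 : Led Lsl_gt (LP (LK LD1_c1 LD2_c54 LD3_c53)) = (LP (LK LD1_c3 LD2_c56 LD3_c17)) :=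
  Lre_g IH (LK LD1_c1 LD2_c54 LD3_c53) (LK LD1_c3 LD2_c56 LD3_c17) Lrfl Lrfl
theorem f451997 : Led Lsl_gf (LP (LK LD1_c3 LD2_c56 LD3_c32)) = (LP (LK LD1_c3 LD2_c56 LD3_c17)) :=
  Lgr Lrot76 (Lpe (f451873 IH) (Lpr_ff (f451633 IH) (Lpr_gt (f451996 IH) (Lpn (LP (LK LD1_c3 LD2_c56 LD3_c17))))))
theorem f455723 : Led Lsl_gt (LP (LK LD1_c3 LD2_c31 LD3_c47)) = (LP (LK LD1_c7 LD2_c5 LD3_c7)) :=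
  Lre_g IH (LK LD1_c3 LD2_c31 LD3_c47) (LK LD1_c7 LD2_c5 LD3_c7) Lrfl Lrfl
theorem f479644 : Led Lsl_df (LP (LK LD1_c3 LD2_c56 LD3_c17)) = (LP (LK LD1_c7 LD2_c5 LD3_c7)) :=
  Lgr Lrot153 (Lpe (f451997 IH) (Lpr_dt (f11358 IH) (Lpe (K28.f11371 IH) (Lpr_df (K28.f11360 IH) (Lpr_gf (K28.f451964 IH) (Lpr_df (K29.f479638 IH) (Lpe (K29.f455753 IH) (Lpe (K24.f455703 IH) (Lpr_gt (f455723 IH) (Lpn (LP (LK LD1_c7 LD2_c5 LD3_c7))))))))))))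
theorem f479787 : Led Lsl_dt (LP (LK LD1_c3 LD2_c56 LD3_c17)) = (LP (LK LD1_c7 LD2_c5 LD3_c7)) :=
  Lgr Lrot42 (Lpr_df (f479644 IH) (Lpn (LP (LK LD1_c7 LD2_c5 LD3_c7))))
theorem f451755 : Led Lsl_ct (LP (LK LD1_c1 LD2_c54 LD3_c53)) = (LP (LK LD1_c3 LD2_c56 LD3_c19)) :=
  Lre_c IH (LK LD1_c1 LD2_c54 LD3_c53) (LK LD1_c3 LD2_c56 LD3_c19) Lrfl Lrfl
theorem f451757 : Led Lsl_gt (LP (LK LD1_c3 LD2_c56 LD3_c19)) = (LP (LK LD1_c7 LD2_c54 LD3_c20)) :=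
  Lre_g IH (LK LD1_c3 LD2_c56 LD3_c19) (LK LD1_c7 LD2_c54 LD3_c20) Lrfl Lrfl
theorem f458929 : Led Lsl_gt (LP (LK LD1_c7 LD2_c5 LD3_c7)) = (LP (LK LD1_c7 LD2_c4 LD3_c30)) :=
  Lgr Lrot46 (Lpe (f455723 IH) (Lpr_ft (K24.f458912 IH) (Lpr_at (K24.f458911 IH) (Lpn (LP (LK LD1_c7 LD2_c4 LD3_c30))))))
theorem f455747 : Led Lsl_dt (LP (LK LD1_c1 LD2_c42 LD3_c27)) = (LP (LK LD1_c0 LD2_c47 LD3_c43)) :=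
  Lre_d IH (LK LD1_c1 LD2_c42 LD3_c27) (LK LD1_c0 LD2_c47 LD3_c43) Lrfl Lrfl
theorem f458891 : Led Lsl_dt (LP (LK LD1_c1 LD2_c42 LD3_c26)) = (LP (LK LD1_c3 LD2_c31 LD3_c43)) :=
  Lre_d IH (LK LD1_c1 LD2_c42 LD3_c26) (LK LD1_c3 LD2_c31 LD3_c43) Lrfl Lrfl
theorem f458950 : Led Lsl_dt (LP (LK LD1_c7 LD2_c5 LD3_c0)) = (LP (LK LD1_c13 LD2_c25 LD3_c46)) :=
  Lre_d IH (LK LD1_c7 LD2_c5 LD3_c0) (LK LD1_c13 LD2_c25 LD3_c46) Lrfl Lrfl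
theorem f460779 : Led Lsl_cf (LP (LK LD1_c7 LD2_c51 LD3_c41)) = (LP (LK LD1_c13 LD2_c25 LD3_c46)) :=
  Lgr Lrot102 (Lpr_af (K24.f460767 IH) (Lpe (K24.f458941 IH) (Lpr_dt (K28.f455704 IH) (Lpr_ct (K24.f455703 IH) (Lpr_dt (f455747 IH) (Lpr_ct (K28.f446524 IH) (Lpr_dt (f458891 IH) (Lpr_ct (K29.f459051 IH) (Lpr_dt (f458950 IH) (Lpn (LP (LK LD1_c13 LD2_c25 LD3_c46))))))))))))
theorem f459048 : Led Lsl_gt (LP (LK LD1_c13 LD2_c25 LD3_c44)) = (LP (LK LD1_c7 LD2_c5 LD3_c0)) :=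
  Lre_g IH (LK LD1_c13 LD2_c25 LD3_c44) (LK LD1_c7 LD2_c5 LD3_c0) Lrfl Lrfl
theorem f479794 : Led Lsl_dt (LP (LK LD1_c7 LD2_c54 LD3_c20)) = (LP (LK LD1_c13 LD2_c25 LD3_c44)) :=
  Lgr Lrot57 (Lpe (f451757 IH) (Lpe (f451755 IH) (Lpr_gt (f451996 IH) (Lpr_dt (f479787 IH) (Lpr_gt (f458929 IH) (Lpe (K28.f460790 IH) (Lpr_cf (f460779 IH) (Lpe (f458950 IH) (Lpe (f459048 IH) (Lpn (LP (LK LD1_c13 LD2_c25 LD3_c44))))))))))))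
theorem f459045 : Led Lsl_ft (LP (LK LD1_c13 LD2_c25 LD3_c13)) = (LP (LK LD1_c13 LD2_c25 LD3_c60)) :=
  Lgr Lrot54 (Lpe (K28.f458958 IH) (Lpr_ff (K29.f459025 IH) (Lpe (K24.f458898 IH) (Lpn (LP (LK LD1_c13 LD2_c25 LD3_c60))))))
theorem f459058 : Led Lsl_ff (LP (LK LD1_c13 LD2_c25 LD3_c13)) = (LP (LK LD1_c13 LD2_c25 LD3_c60)) :=
  Lgr Lrot3 (Lpr_ft (f459045 IH) (Lpn (LP (LK LD1_c13 LD2_c25 LD3_c60))))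
theorem f458965 : Led Lsl_at (LP (LK LD1_c7 LD2_c5 LD3_c0)) = (LP (LK LD1_c13 LD2_c25 LD3_c26)) :=
  Lre_a IH (LK LD1_c7 LD2_c5 LD3_c0) (LK LD1_c13 LD2_c25 LD3_c26) Lrfl Lrfl
theorem f458905 : Led Lsl_dt (LP (LK LD1_c13 LD2_c25 LD3_c46)) = (LP (LK LD1_c7 LD2_c5 LD3_c0)) :=
  Lre_d IH (LK LD1_c13 LD2_c25 LD3_c46) (LK LD1_c7 LD2_c5 LD3_c0) Lrfl Lrfl
theorem f458966 : Led Lsl_af (LP (LK LD1_c13 LD2_c25 LD3_c46)) = (LP (LK LD1_c13 LD2_c25 LD3_c13)) :=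
  Lgr Lrot117 (Lpr_dt (f458905 IH) (Lpr_at (f458965 IH) (Lpr_dt (K28.f458958 IH) (Lpn (LP (LK LD1_c13 LD2_c25 LD3_c13))))))
theorem f458900 : Led Lsl_at (LP (LK LD1_c13 LD2_c24 LD3_c42)) = (LP (LK LD1_c7 LD2_c4 LD3_c37)) :=
  Lre_a IH (LK LD1_c13 LD2_c24 LD3_c42) (LK LD1_c7 LD2_c4 LD3_c37) Lrfl Lrfl
theorem f458901 : Led Lsl_dt (LP (LK LD1_c7 LD2_c4 LD3_c37)) = (LP (LK LD1_c13 LD2_c25 LD3_c3)) :=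
  Lre_d IH (LK LD1_c7 LD2_c4 LD3_c37) (LK LD1_c13 LD2_c25 LD3_c3) Lrfl Lrfl
theorem f458902 : Led Lsl_af (LP (LK LD1_c13 LD2_c25 LD3_c60)) = (LP (LK LD1_c13 LD2_c25 LD3_c3)) :=
  Lgr Lrot117 (Lpr_dt (K24.f458898 IH) (Lpr_at (f458900 IH) (Lpr_dt (f458901 IH) (Lpn (LP (LK LD1_c13 LD2_c25 LD3_c3))))))
theorem f459060 : Led Lsl_ft (LP (LK LD1_c13 LD2_c25 LD3_c46)) = (LP (LK LD1_c13 LD2_c25 LD3_c3)) :=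
  Lgr Lrot101 (Lpr_af (f458966 IH) (Lpr_ff (f459058 IH) (Lpr_af (f458902 IH) (Lpn (LP (LK LD1_c13 LD2_c25 LD3_c3))))))
theorem f459067 : Led Lsl_ff (LP (LK LD1_c13 LD2_c25 LD3_c46)) = (LP (LK LD1_c13 LD2_c25 LD3_c3)) :=
  Lgr Lrot3 (Lpr_ft (f459060 IH) (Lpn (LP (LK LD1_c13 LD2_c25 LD3_c3))))
theorem f458951 : Led Lsl_at (LP (LK LD1_c13 LD2_c25 LD3_c46)) = (LP (LK LD1_c13 LD2_c25 LD3_c13)) :=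
  Lgr Lrot51 (Lpe (f458950 IH) (Lpe (K29.f458949 IH) (Lpr_df (K28.f458947 IH) (Lpn (LP (LK LD1_c13 LD2_c25 LD3_c13))))))
theorem f459069 : Led Lsl_at (LP (LK LD1_c13 LD2_c25 LD3_c60)) = (LP (LK LD1_c13 LD2_c25 LD3_c3)) :=
  Lgr Lrot66 (Lpe (f459045 IH) (Lpe (f458951 IH) (Lpr_ff (f459067 IH) (Lpn (LP (LK LD1_c13 LD2_c25 LD3_c3))))))
theorem f470055 : Led Lsl_gf (LP (LK LD1_c13 LD2_c25 LD3_c3)) = (LP (LK LD1_c7 LD2_c53 LD3_c60)) :=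
  Lgr Lrot76 (Lpe (f459069 IH) (Lpe (f459045 IH) (Lpr_gt (K28.f470051 IH) (Lpn (LP (LK LD1_c7 LD2_c53 LD3_c60))))))
theorem f470057 : Led Lsl_gt (LP (LK LD1_c13 LD2_c25 LD3_c3)) = (LP (LK LD1_c7 LD2_c21 LD3_c22)) :=
  Lgr Lrot46 (Lpr_gf (f470055 IH) (Lpe (K28.f462434 IH) (Lpr_at (K28.f428405 IH) (Lpn (LP (LK LD1_c7 LD2_c21 LD3_c22))))))
theorem f455630 : Led Lsl_dt (LP (LK LD1_c1 LD2_c42 LD3_c18)) = (LP (LK LD1_c0 LD2_c47 LD3_c39)) :=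
  Lre_d IH (LK LD1_c1 LD2_c42 LD3_c18) (LK LD1_c0 LD2_c47 LD3_c39) Lrfl Lrfl
theorem f455625 : Led Lsl_dt (LP (LK LD1_c1 LD2_c42 LD3_c17)) = (LP (LK LD1_c3 LD2_c31 LD3_c28)) :=
  Lre_d IH (LK LD1_c1 LD2_c42 LD3_c17) (LK LD1_c3 LD2_c31 LD3_c28) Lrfl Lrfl
theorem f458888 : Led Lsl_ct (LP (LK LD1_c3 LD2_c31 LD3_c28)) = (LP (LK LD1_c7 LD2_c4 LD3_c37)) :=
  Lre_c IH (LK LD1_c3 LD2_c31 LD3_c28) (LK LD1_c7 LD2_c4 LD3_c37) Lrfl Lrfl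
theorem f465822 : Led Lsl_cf (LP (LK LD1_c7 LD2_c49 LD3_c58)) = (LP (LK LD1_c13 LD2_c25 LD3_c3)) :=
  Lgr Lrot102 (Lpr_af (K28.f465815 IH) (Lpr_ff (K28.f458925 IH) (Lpr_dt (K24.f12142 IH) (Lpr_ct (K28.f12141 IH) (Lpr_dt (f455630 IH) (Lpr_ct (K28.f446546 IH) (Lpr_dt (f455625 IH) (Lpr_ct (f458888 IH) (Lpr_dt (f458901 IH) (Lpn (LP (LK LD1_c13 LD2_c25 LD3_c3))))))))))))
theorem f159941 : Led Lsl_dt (LP (LK LD1_c3 LD2_c54 LD3_c12)) = (LP (LK LD1_c1 LD2_c53 LD3_c43)) :=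
  Lre_d IH (LK LD1_c3 LD2_c54 LD3_c12) (LK LD1_c1 LD2_c53 LD3_c43) Lrfl Lrfl
theorem f451259 : Led Lsl_dt (LP (LK LD1_c0 LD2_c54 LD3_c6)) = (LP (LK LD1_c1 LD2_c54 LD3_c53)) :=
  Lre_d IH (LK LD1_c0 LD2_c54 LD3_c6) (LK LD1_c1 LD2_c54 LD3_c53) Lrfl Lrfl
theorem f463284 : Led Lsl_dt (LP (LK LD1_c7 LD2_c21 LD3_c22)) = (LP (LK LD1_c13 LD2_c24 LD3_c37)) :=
  Lgr Lrot42 (Lpr_df (K28.f463279 IH) (Lpn (LP (LK LD1_c13 LD2_c24 LD3_c37))))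
theorem f470059 : Led Lsl_gf (LP (LK LD1_c7 LD2_c54 LD3_c23)) = (LP (LK LD1_c13 LD2_c24 LD3_c37)) :=
  Lgr Lrot143 (Lpr_dt (K28.f451749 IH) (Lpe (f451755 IH) (Lpe (f451259 IH) (Lpr_gf (K28.f462866 IH) (Lpe (f159941 IH) (Lpe (K28.f159942 IH) (Lpr_cf (f465822 IH) (Lpr_gt (f470057 IH) (Lpr_dt (f463284 IH) (Lpn (LP (LK LD1_c13 LD2_c24 LD3_c37))))))))))))
theorem f459283 : Led Lsl_ct (LP (LK LD1_c13 LD2_c24 LD3_c37)) = (LP (LK LD1_c7 LD2_c4 LD3_c26)) :=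
  Lre_c IH (LK LD1_c13 LD2_c24 LD3_c37) (LK LD1_c7 LD2_c4 LD3_c26) Lrfl Lrfl
theorem f462793 : Led Lsl_df (LP (LK LD1_c6 LD2_c57 LD3_c44)) = (LP (LK LD1_c7 LD2_c28 LD3_c25)) :=
  Lgr Lrot38 (Lpr_dt (K28.f462788 IH) (Lpn (LP (LK LD1_c7 LD2_c28 LD3_c25))))
theorem f458887 : Led Lsl_ct (LP (LK LD1_c7 LD2_c5 LD3_c0)) = (LP (LK LD1_c3 LD2_c31 LD3_c43)) :=
  Lre_c IH (LK LD1_c7 LD2_c5 LD3_c0) (LK LD1_c3 LD2_c31 LD3_c43) Lrfl Lrfl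
theorem f142377 : Led Lsl_dt (LP (LK LD1_c7 LD2_c22 LD3_c2)) = (LP (LK LD1_c3 LD2_c40 LD3_c54)) :=
  Lre_d IH (LK LD1_c7 LD2_c22 LD3_c2) (LK LD1_c3 LD2_c40 LD3_c54) Lrfl Lrfl
theorem f128327 : Led Lsl_et (LP (LK LD1_c1 LD2_c54 LD3_c19)) = (LP (LK LD1_c0 LD2_c53 LD3_c43)) :=
  Lre_e IH (LK LD1_c1 LD2_c54 LD3_c19) (LK LD1_c0 LD2_c53 LD3_c43) Lrfl Lrfl
theorem f463655 : Led Lsl_df (LP (LK LD1_c3 LD2_c31 LD3_c46)) = (LP (LK LD1_c1 LD2_c54 LD3_c19)) :=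
  Lgr Lrot132 (Lpr_gf (K29.f458989 IH) (Lpe (K24.f458906 IH) (Lpe (K24.f459276 IH) (Lpq (K28.f463621 IH) (Lpe (K4.f122340 IH) (Lpr_dt (K5.f128319 IH) (Lpe (K2.f12078 IH) (Lpr_df (K2.f12144 IH) (Lpr_et (K5.f84768 IH) (Lpe (K29.f84791 IH) (Lpe (f128327 IH) (Lpn (LP (LK LD1_c1 LD2_c54 LD3_c19))))))))))))))
theorem f463659 : Led Lsl_dt (LP (LK LD1_c3 LD2_c31 LD3_c46)) = (LP (LK LD1_c1 LD2_c54 LD3_c19)) :=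
  Lgr Lrot42 (Lpr_df (f463655 IH) (Lpn (LP (LK LD1_c1 LD2_c54 LD3_c19))))
theorem f142403 : Led Lsl_dt (LP (LK LD1_c3 LD2_c40 LD3_c54)) = (LP (LK LD1_c7 LD2_c22 LD3_c2)) :=
  Lre_d IH (LK LD1_c3 LD2_c40 LD3_c54) (LK LD1_c7 LD2_c22 LD3_c2) Lrfl Lrfl
theorem f463657 : Led Lsl_ct (LP (LK LD1_c3 LD2_c55 LD3_c27)) = (LP (LK LD1_c1 LD2_c54 LD3_c19)) :=
  Lre_c IH (LK LD1_c3 LD2_c55 LD3_c27) (LK LD1_c1 LD2_c54 LD3_c19) Lrfl Lrfl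
theorem f463658 : Led Lsl_dt (LP (LK LD1_c7 LD2_c52 LD3_c48)) = (LP (LK LD1_c3 LD2_c55 LD3_c27)) :=
  Lre_d IH (LK LD1_c7 LD2_c52 LD3_c48) (LK LD1_c3 LD2_c55 LD3_c27) Lrfl Lrfl
theorem f463664 : Led Lsl_gt (LP (LK LD1_c7 LD2_c22 LD3_c2)) = (LP (LK LD1_c7 LD2_c52 LD3_c48)) :=
  Lgr Lrot49 (Lpe (f142403 IH) (Lpe (K28.f128316 IH) (Lpe (K28.f122362 IH) (Lpqs (K28.f463621 IH) (Lpr_gt (K24.f459276 IH) (Lpr_dt (K24.f458906 IH) (Lpe (K29.f458989 IH) (Lpr_dt (f463659 IH) (Lpe (f463657 IH) (Lpe (f463658 IH) (Lpn (LP (LK LD1_c7 LD2_c52 LD3_c48)))))))))))))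
theorem f468287 : Led Lsl_cf (LP (LK LD1_c13 LD2_c25 LD3_c44)) = (LP (LK LD1_c7 LD2_c52 LD3_c48)) :=
  Lgr Lrot169 (Lpr_gt (f459048 IH) (Lpr_ct (f458887 IH) (Lpe (f458891 IH) (Lpe (K28.f446524 IH) (Lpe (K28.f455664 IH) (Lpe (K28.f459188 IH) (Lpr_gf (K28.f468282 IH) (Lpe (f142377 IH) (Lpr_gt (f463664 IH) (Lpn (LP (LK LD1_c7 LD2_c52 LD3_c48))))))))))))
theorem f463663 : Led Lsl_dt (LP (LK LD1_c3 LD2_c55 LD3_c27)) = (LP (LK LD1_c7 LD2_c52 LD3_c48)) :=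
  Lre_d IH (LK LD1_c3 LD2_c55 LD3_c27) (LK LD1_c7 LD2_c52 LD3_c48) Lrfl Lrfl
theorem f479810 : Led Lsl_gt (LP (LK LD1_c6 LD2_c57 LD3_c44)) = (LP (LK LD1_c3 LD2_c55 LD3_c27)) :=
  Lgr Lrot49 (Lpr_df (f462793 IH) (Lpr_gf (K28.f463321 IH) (Lpe (f459283 IH) (Lpe (f470059 IH) (Lpr_dt (K28.f451749 IH) (Lpr_gt (f451757 IH) (Lpr_dt (f479794 IH) (Lpr_cf (f468287 IH) (Lpe (f463663 IH) (Lpn (LP (LK LD1_c3 LD2_c55 LD3_c27))))))))))))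
theorem f63005 : Led Lsl_gt (LP (LK LD1_c1 LD2_c52 LD3_c59)) = (LP (LK LD1_c3 LD2_c52 LD3_c43)) :=
  Lre_g IH (LK LD1_c1 LD2_c52 LD3_c59) (LK LD1_c3 LD2_c52 LD3_c43) Lrfl Lrfl
theorem f473676 : Led Lsl_gf (LP (LK LD1_c3 LD2_c52 LD3_c34)) = (LP (LK LD1_c3 LD2_c52 LD3_c43)) :=
  Lgr Lrot76 (Lpe (K29.f473665 IH) (Lpr_ff (K29.f473663 IH) (Lpr_gt (f63005 IH) (Lpn (LP (LK LD1_c3 LD2_c52 LD3_c43))))))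
theorem f463662 : Led Lsl_ct (LP (LK LD1_c1 LD2_c54 LD3_c19)) = (LP (LK LD1_c3 LD2_c55 LD3_c27)) :=
  Lre_c IH (LK LD1_c1 LD2_c54 LD3_c19) (LK LD1_c3 LD2_c55 LD3_c27) Lrfl Lrfl
theorem f479816 : Led Lsl_bf (LP (LK LD1_c3 LD2_c52 LD3_c43)) = (LP (LK LD1_c1 LD2_c54 LD3_c19)) :=
  Lgr Lrot156 (Lpe (f473676 IH) (Lpe (K29.f473926 IH) (Lpe (K29.f477556 IH) (Lpr_gt (K30.f477574 IH) (Lpe (K28.f455185 IH) (Lpe (K30.f464672 IH) (Lpr_gt (K28.f98822 IH) (Lpr_ct (K24.f98817 IH) (Lpr_gt (f479810 IH) (Lpe (f463662 IH) (Lpn (LP (LK LD1_c1 LD2_c54 LD3_c19)))))))))))))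
theorem f464773 : Led Lsl_bt (LP (LK LD1_c7 LD2_c45 LD3_c44)) = (LP (LK LD1_c3 LD2_c51 LD3_c58)) :=
  Lre_b IH (LK LD1_c7 LD2_c45 LD3_c44) (LK LD1_c3 LD2_c51 LD3_c58) Lrfl Lrfl
theorem f463668 : Led Lsl_gt (LP (LK LD1_c3 LD2_c55 LD3_c27)) = (LP (LK LD1_c7 LD2_c52 LD3_c47)) :=
  Lre_g IH (LK LD1_c3 LD2_c55 LD3_c27) (LK LD1_c7 LD2_c52 LD3_c47) Lrfl Lrfl
theorem f479825 : Led Lsl_ct (LP (LK LD1_c7 LD2_c45 LD3_c44)) = (LP (LK LD1_c7 LD2_c52 LD3_c47)) :=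
  Lgr Lrot10 (Lpr_bt (f464773 IH) (Lpe (K29.f464799 IH) (Lpe (K29.f463711 IH) (Lpr_gt (K29.f62793 IH) (Lpe (K24.f63013 IH) (Lpr_bt (K29.f63002 IH) (Lpr_gt (f63005 IH) (Lpr_bf (f479816 IH) (Lpr_ct (f463662 IH) (Lpr_gt (f463668 IH) (Lpn (LP (LK LD1_c7 LD2_c52 LD3_c47)))))))))))))
theorem f473964 : Led Lsl_bf (LP (LK LD1_c0 LD2_c53 LD3_c47)) = (LP (LK LD1_c1 LD2_c53 LD3_c3)) :=
  Lgr Lrot24 (Lpr_bt (K29.f473962 IH) (Lpn (LP (LK LD1_c1 LD2_c53 LD3_c3))))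
theorem f451309 : Led Lsl_gt (LP (LK LD1_c1 LD2_c54 LD3_c56)) = (LP (LK LD1_c3 LD2_c56 LD3_c25)) :=
  Lre_g IH (LK LD1_c1 LD2_c54 LD3_c56) (LK LD1_c3 LD2_c56 LD3_c25) Lrfl Lrfl
theorem f451310 : Led Lsl_ct (LP (LK LD1_c7 LD2_c54 LD3_c33)) = (LP (LK LD1_c3 LD2_c56 LD3_c25)) :=
  Lre_c IH (LK LD1_c7 LD2_c54 LD3_c33) (LK LD1_c3 LD2_c56 LD3_c25) Lrfl Lrfl
theorem f474022 : Led Lsl_bt (LP (LK LD1_c7 LD2_c54 LD3_c33)) = (LP (LK LD1_c6 LD2_c57 LD3_c19)) :=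
  Lgr Lrot130 (Lpr_ct (f451310 IH) (Lpe (f451309 IH) (Lpe (K28.f451254 IH) (Lpr_bt (K29.f451307 IH) (Lpr_gf (K24.f451308 IH) (Lpqs (K24.f458768 IH) (Lpr_bf (f473964 IH) (Lpr_ct (K29.f461511 IH) (Lpr_gf (K29.f461301 IH) (Lpe (K29.f457906 IH) (Lpe (K29.f457908 IH) (Lpn (LP (LK LD1_c6 LD2_c57 LD3_c19))))))))))))))
theorem f11365 : Led Lsl_at (LP (LK LD1_c1 LD2_c54 LD3_c54)) = (LP (LK LD1_c3 LD2_c56 LD3_c11)) :=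
  Lre_a IH (LK LD1_c1 LD2_c54 LD3_c54) (LK LD1_c3 LD2_c56 LD3_c11) Lrfl Lrfl
theorem f451956 : Led Lsl_gf (LP (LK LD1_c3 LD2_c56 LD3_c11)) = (LP (LK LD1_c3 LD2_c56 LD3_c25)) :=
  Lgr Lrot76 (Lpe (f11365 IH) (Lpr_ff (K28.f451948 IH) (Lpr_gt (f451309 IH) (Lpn (LP (LK LD1_c3 LD2_c56 LD3_c25))))))
theorem f11359 : Led Lsl_ct (LP (LK LD1_c1 LD2_c54 LD3_c50)) = (LP (LK LD1_c3 LD2_c56 LD3_c11)) :=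
  Lre_c IH (LK LD1_c1 LD2_c54 LD3_c50) (LK LD1_c3 LD2_c56 LD3_c11) Lrfl Lrfl
theorem f11373 : Led Lsl_et (LP (LK LD1_c0 LD2_c54 LD3_c5)) = (LP (LK LD1_c1 LD2_c54 LD3_c50)) :=
  Lre_e IH (LK LD1_c0 LD2_c54 LD3_c5) (LK LD1_c1 LD2_c54 LD3_c50) Lrfl Lrfl
theorem f11363 : Led Lsl_et (LP (LK LD1_c1 LD2_c54 LD3_c50)) = (LP (LK LD1_c0 LD2_c54 LD3_c5)) :=
  Lre_e IH (LK LD1_c1 LD2_c54 LD3_c50) (LK LD1_c0 LD2_c54 LD3_c5) Lrfl Lrfl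
theorem f452029 : Led Lsl_bt (LP (LK LD1_c1 LD2_c54 LD3_c50)) = (LP (LK LD1_c1 LD2_c54 LD3_c50)) :=
  Lgr Lrot119 (Lpe (f11373 IH) (Lpr_bf (K28.f452023 IH) (Lpe (f11363 IH) (Lpn (LP (LK LD1_c1 LD2_c54 LD3_c50))))))
theorem f479835 : Led Lsl_gt (LP (LK LD1_c1 LD2_c54 LD3_c50)) = (LP (LK LD1_c1 LD2_c54 LD3_c19)) :=
  Lgr Lrot82 (Lpe (f452029 IH) (Lpr_ct (f11359 IH) (Lpr_gf (f451956 IH) (Lpe (f451310 IH) (Lpr_bt (f474022 IH) (Lpr_gf (K29.f464799 IH) (Lpe (f464773 IH) (Lpr_ct (f479825 IH) (Lpe (f463668 IH) (Lpe (f463662 IH) (Lpn (LP (LK LD1_c1 LD2_c54 LD3_c19)))))))))))))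
theorem f464433 : Led Lsl_gt (LP (LK LD1_c6 LD2_c54 LD3_c30)) = (LP (LK LD1_c7 LD2_c54 LD3_c33)) :=
  Lgr Lrot9 (Lpe (K28.f98810 IH) (Lpr_gt (K28.f464425 IH) (Lpr_ct (K28.f451262 IH) (Lpe (K28.f451833 IH) (Lpr_ct (K28.f11357 IH) (Lpr_df (K28.f11360 IH) (Lpe (K28.f11366 IH) (Lpr_gf (f451956 IH) (Lpe (f451310 IH) (Lpn (LP (LK LD1_c7 LD2_c54 LD3_c33))))))))))))
theorem f462843 : Led Lsl_bt (LP (LK LD1_c3 LD2_c26 LD3_c19)) = (LP (LK LD1_c6 LD2_c54 LD3_c30)) :=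
  Lre_b IH (LK LD1_c3 LD2_c26 LD3_c19) (LK LD1_c6 LD2_c54 LD3_c30) Lrfl Lrfl
theorem f479819 : Led Lsl_bt (LP (LK LD1_c3 LD2_c52 LD3_c43)) = (LP (LK LD1_c1 LD2_c54 LD3_c19)) :=
  Lgr Lrot127 (Lpr_bf (f479816 IH) (Lpn (LP (LK LD1_c1 LD2_c54 LD3_c19))))
theorem f477140 : Led Lsl_bt (LP (LK LD1_c7 LD2_c52 LD3_c44)) = (LP (LK LD1_c3 LD2_c55 LD3_c27)) :=
  Lre_b IH (LK LD1_c7 LD2_c52 LD3_c44) (LK LD1_c3 LD2_c55 LD3_c27) Lrfl Lrfl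
theorem f477009 : Led Lsl_ct (LP (LK LD1_c3 LD2_c26 LD3_c53)) = (LP (LK LD1_c1 LD2_c54 LD3_c17)) :=
  Lgr Lrot59 (Lpr_cf (K29.f477002 IH) (Lpn (LP (LK LD1_c1 LD2_c54 LD3_c17))))
theorem f437650 : Led Lsl_ct (LP (LK LD1_c0 LD2_c53 LD3_c43)) = (LP (LK LD1_c1 LD2_c54 LD3_c18)) :=
  Lre_c IH (LK LD1_c0 LD2_c53 LD3_c43) (LK LD1_c1 LD2_c54 LD3_c18) Lrfl Lrfl
theorem f477123 : Led Lsl_cf (LP (LK LD1_c6 LD2_c55 LD3_c35)) = (LP (LK LD1_c3 LD2_c55 LD3_c25)) :=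
  Lgr Lrot97 (Lpr_bt (K29.f455111 IH) (Lpr_ct (f477009 IH) (Lpr_bt (K29.f437651 IH) (Lpr_ct (f437650 IH) (Lpr_bt (K29.f122793 IH) (Lpn (LP (LK LD1_c3 LD2_c55 LD3_c25))))))))
theorem f477130 : Led Lsl_et (LP (LK LD1_c6 LD2_c55 LD3_c35)) = (LP (LK LD1_c13 LD2_c9 LD3_c19)) :=
  Lre_e IH (LK LD1_c6 LD2_c55 LD3_c35) (LK LD1_c13 LD2_c9 LD3_c19) Lrfl Lrfl
theorem f477131 : Led Lsl_et (LP (LK LD1_c7 LD2_c52 LD3_c44)) = (LP (LK LD1_c3 LD2_c55 LD3_c25)) :=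
  Lre_e IH (LK LD1_c7 LD2_c52 LD3_c44) (LK LD1_c3 LD2_c55 LD3_c25) Lrfl Lrfl
theorem f477132 : Led Lsl_ct (LP (LK LD1_c13 LD2_c9 LD3_c19)) = (LP (LK LD1_c7 LD2_c52 LD3_c44)) :=
  Lgr Lrot15 (Lpe (f477130 IH) (Lpr_cf (f477123 IH) (Lpe (f477131 IH) (Lpn (LP (LK LD1_c7 LD2_c52 LD3_c44))))))
theorem f477139 : Led Lsl_bt (LP (LK LD1_c6 LD2_c55 LD3_c37)) = (LP (LK LD1_c13 LD2_c9 LD3_c19)) :=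
  Lre_b IH (LK LD1_c6 LD2_c55 LD3_c37) (LK LD1_c13 LD2_c9 LD3_c19) Lrfl Lrfl
theorem f479821 : Led Lsl_ct (LP (LK LD1_c3 LD2_c52 LD3_c43)) = (LP (LK LD1_c6 LD2_c55 LD3_c37)) :=
  Lgr Lrot83 (Lpr_bf (f479816 IH) (Lpe (f463657 IH) (Lpe (f477140 IH) (Lpe (f477132 IH) (Lpe (f477139 IH) (Lpn (LP (LK LD1_c6 LD2_c55 LD3_c37))))))))
theorem f479858 : Led Lsl_gf (LP (LK LD1_c6 LD2_c54 LD3_c34)) = (LP (LK LD1_c6 LD2_c55 LD3_c37)) :=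
  Lgr Lrot126 (Lpe (K29.f15894 IH) (Lpr_bt (f462843 IH) (Lpr_gt (f464433 IH) (Lpr_ct (f451310 IH) (Lpe (f451956 IH) (Lpe (f11359 IH) (Lpr_bt (f452029 IH) (Lpr_gt (f479835 IH) (Lpe (f479819 IH) (Lpr_ct (f479821 IH) (Lpn (LP (LK LD1_c6 LD2_c55 LD3_c37)))))))))))))
theorem f473078 : Led Lsl_cf (LP (LK LD1_c13 LD2_c11 LD3_c60)) = (LP (LK LD1_c7 LD2_c21 LD3_c4)) :=
  Lgr Lrot11 (Lpr_ct (K29.f473063 IH) (Lpn (LP (LK LD1_c7 LD2_c21 LD3_c4))))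
theorem f473323 : Led Lsl_gf (LP (LK LD1_c13 LD2_c12 LD3_c48)) = (LP (LK LD1_c13 LD2_c5 LD3_c19)) :=
  Lgr Lrot104 (Lpr_ct (K29.f473037 IH) (Lpe (K29.f473054 IH) (Lpr_cf (f473078 IH) (Lpr_gf (K28.f464101 IH) (Lpr_cf (K29.f464447 IH) (Lpe (K29.f15436 IH) (Lpe (K29.f15431 IH) (Lpr_gt (K29.f90903 IH) (Lpr_ct (K29.f473316 IH) (Lpn (LP (LK LD1_c13 LD2_c5 LD3_c19))))))))))))
theorem f473300 : Led Lsl_ct (LP (LK LD1_c6 LD2_c57 LD3_c29)) = (LP (LK LD1_c3 LD2_c52 LD3_c44)) :=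
  Lgr Lrot8 (Lpr_gt (K29.f90880 IH) (Lpr_dt (K28.f91987 IH) (Lpr_gt (K29.f473298 IH) (Lpr_dt (K28.f121912 IH) (Lpr_cf (K28.f420088 IH) (Lpe (K28.f124909 IH) (Lpe (K28.f464230 IH) (Lpr_df (K29.f62997 IH) (Lpe (K29.f63004 IH) (Lpn (LP (LK LD1_c3 LD2_c52 LD3_c44))))))))))))
theorem f473325 : Led Lsl_gf (LP (LK LD1_c6 LD2_c57 LD3_c29)) = (LP (LK LD1_c6 LD2_c54 LD3_c34)) :=
  Lgr Lrot179 (Lpr_ct (f473300 IH) (Lpr_gt (K29.f63004 IH) (Lpr_ct (K29.f63049 IH) (Lpr_dt (K29.f457996 IH) (Lpe (K28.f458006 IH) (Lpr_gf (K28.f473051 IH) (Lpe (K29.f473037 IH) (Lpr_gf (f473323 IH) (Lpe (K29.f463251 IH) (Lpn (LP (LK LD1_c6 LD2_c54 LD3_c34))))))))))))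
theorem f473328 : Led Lsl_df (LP (LK LD1_c13 LD2_c5 LD3_c19)) = (LP (LK LD1_c6 LD2_c54 LD3_c34)) :=
  Lgr Lrot155 (Lpe (f473323 IH) (Lpr_ct (K29.f473037 IH) (Lpe (K28.f473051 IH) (Lpr_ct (K28.f458006 IH) (Lpe (K29.f458002 IH) (Lpe (K29.f63049 IH) (Lpe (K29.f63004 IH) (Lpe (f473300 IH) (Lpr_gf (f473325 IH) (Lpn (LP (LK LD1_c6 LD2_c54 LD3_c34))))))))))))
theorem f479862 : Led Lsl_cf (LP (LK LD1_c3 LD2_c52 LD3_c43)) = (LP (LK LD1_c6 LD2_c55 LD3_c37)) :=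
  Lgr Lrot166 (Lpe (f473676 IH) (Lpr_dt (K29.f473559 IH) (Lpe (K29.f473805 IH) (Lpe (K4.f106130 IH) (Lpr_ct (K29.f464262 IH) (Lpr_df (K28.f91996 IH) (Lpr_gf (f473323 IH) (Lpr_df (f473328 IH) (Lpr_gf (f479858 IH) (Lpn (LP (LK LD1_c6 LD2_c55 LD3_c37))))))))))))
theorem f472967 : Led Lsl_ct (LP (LK LD1_c13 LD2_c3 LD3_c39)) = (LP (LK LD1_c6 LD2_c52 LD3_c2)) :=
  Lre_c IH (LK LD1_c13 LD2_c3 LD3_c39) (LK LD1_c6 LD2_c52 LD3_c2) Lrfl Lrfl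
theorem f479874 : Led Lsl_gt (LP (LK LD1_c3 LD2_c27 LD3_c38)) = (LP (LK LD1_c6 LD2_c55 LD3_c37)) :=
  Lgr Lrot9 (Lpe (K28.f90873 IH) (Lpr_gt (K29.f473298 IH) (Lpr_ct (K28.f121918 IH) (Lpr_gt (K28.f472959 IH) (Lpr_ct (f472967 IH) (Lpe (K29.f473748 IH) (Lpr_cf (K29.f473761 IH) (Lpr_gf (f473676 IH) (Lpr_cf (f479862 IH) (Lpn (LP (LK LD1_c6 LD2_c55 LD3_c37))))))))))))
theorem f477202 : Led Lsl_ct (LP (LK LD1_c13 LD2_c4 LD3_c0)) = (LP (LK LD1_c7 LD2_c3 LD3_c14)) :=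
  Lgr Lrot59 (Lpr_cf (K29.f477197 IH) (Lpn (LP (LK LD1_c7 LD2_c3 LD3_c14))))
theorem f479432 : Led Lsl_df (LP (LK LD1_c7 LD2_c3 LD3_c14)) = (LP (LK LD1_c3 LD2_c52 LD3_c43)) :=
  Lgr Lrot84 (Lpe (f477202 IH) (Lpr_df (K29.f479428 IH) (Lpr_gf (K29.f476395 IH) (Lpe (K29.f90870 IH) (Lpr_gf (K28.f464121 IH) (Lpe (K28.f464119 IH) (Lpr_gt (K28.f463594 IH) (Lpr_dt (K29.f62775 IH) (Lpr_gt (f63005 IH) (Lpn (LP (LK LD1_c3 LD2_c52 LD3_c43))))))))))))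
theorem f479426 : Led Lsl_dt (LP (LK LD1_c13 LD2_c4 LD3_c0)) = (LP (LK LD1_c13 LD2_c7 LD3_c45)) :=
  Lgr Lrot6 (Lpr_gt (K29.f477204 IH) (Lpr_ct (K28.f90862 IH) (Lpe (K28.f464358 IH) (Lpr_ct (K29.f455954 IH) (Lpe (K28.f455953 IH) (Lpe (K28.f456378 IH) (Lpr_gf (K29.f479381 IH) (Lpe (K29.f464419 IH) (Lpe (K29.f98814 IH) (Lpn (LP (LK LD1_c13 LD2_c7 LD3_c45))))))))))))
theorem f472228 : Led Lsl_ct (LP (LK LD1_c22 LD2_c14 LD3_c13)) = (LP (LK LD1_c13 LD2_c3 LD3_c56)) :=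
  Lre_c IH (LK LD1_c22 LD2_c14 LD3_c13) (LK LD1_c13 LD2_c3 LD3_c56) Lrfl Lrfl
theorem f468319 : Led Lsl_gt (LP (LK LD1_c6 LD2_c52 LD3_c10)) = (LP (LK LD1_c13 LD2_c3 LD3_c55)) :=
  Lre_g IH (LK LD1_c6 LD2_c52 LD3_c10) (LK LD1_c13 LD2_c3 LD3_c55) Lrfl Lrfl
theorem f479860 : Led Lsl_dt (LP (LK LD1_c13 LD2_c3 LD3_c55)) = (LP (LK LD1_c6 LD2_c55 LD3_c37)) :=
  Lgr Lrot57 (Lpe (f468319 IH) (Lpe (K28.f472705 IH) (Lpr_gt (K28.f473069 IH) (Lpr_dt (K28.f473197 IH) (Lpr_gt (K29.f479335 IH) (Lpe (K29.f473310 IH) (Lpr_cf (K29.f473320 IH) (Lpr_df (f473328 IH) (Lpr_gf (f479858 IH) (Lpn (LP (LK LD1_c6 LD2_c55 LD3_c37))))))))))))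
theorem f479869 : Led Lsl_ct (LP (LK LD1_c22 LD2_c14 LD3_c10)) = (LP (LK LD1_c13 LD2_c3 LD3_c55)) :=
  Lre_c IH (LK LD1_c22 LD2_c14 LD3_c10) (LK LD1_c13 LD2_c3 LD3_c55) Lrfl Lrfl
theorem f479870 : Led Lsl_dt (LP (LK LD1_c13 LD2_c11 LD3_c33)) = (LP (LK LD1_c22 LD2_c14 LD3_c10)) :=
  Lgr Lrot173 (Lpe (f476083 IH) (Lpr_df (K29.f464427 IH) (Lpr_cf (K29.f473820 IH) (Lpe (K29.f473815 IH) (Lpe (f473300 IH) (Lpe (K29.f479368 IH) (Lpe (f472228 IH) (Lpr_df (K29.f479313 IH) (Lpe (K29.f473099 IH) (Lpe (f479426 IH) (Lpr_cf (K29.f477197 IH) (Lpr_df (f479432 IH) (Lpr_cf (f479862 IH) (Lpe (f479860 IH) (Lpe (f479869 IH) (Lpn (LP (LK LD1_c22 LD2_c14 LD3_c10))))))))))))))))))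
theorem f479877 : Led Lsl_df (LP (LK LD1_c13 LD2_c3 LD3_c55)) = (LP (LK LD1_c6 LD2_c55 LD3_c37)) :=
  Lgr Lrot84 (Lpe (f479869 IH) (Lpe (f479870 IH) (Lpe (f472816 IH) (Lpe (K29.f473082 IH) (Lpr_gf (K28.f473051 IH) (Lpe (K29.f473037 IH) (Lpr_gt (K28.f91990 IH) (Lpr_dt (K28.f90873 IH) (Lpr_gt (f479874 IH) (Lpn (LP (LK LD1_c6 LD2_c55 LD3_c37))))))))))))
theorem f479879 : Led Lsl_gf (LP (LK LD1_c6 LD2_c52 LD3_c17)) = (LP (LK LD1_c13 LD2_c3 LD3_c55)) :=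
  Lgr Lrot154 (Lpr_dt (K29.f458380 IH) (Lpr_ct (K28.f18999 IH) (Lpe (K2.f17093 IH) (Lpe (K28.f458374 IH) (Lpr_df (K28.f91500 IH) (Lpr_gf (K29.f479362 IH) (Lpr_ct (K29.f91986 IH) (Lpr_gt (f479874 IH) (Lpe (f479877 IH) (Lpn (LP (LK LD1_c13 LD2_c3 LD3_c55))))))))))))
theorem f468875 : Led Lsl_gt (LP (LK LD1_c6 LD2_c54 LD3_c44)) = (LP (LK LD1_c13 LD2_c4 LD3_c2)) :=
  Lgr Lrot49 (Lpe (K28.f94990 IH) (Lpr_gf (K28.f468873 IH) (Lpe (K28.f16723 IH) (Lpr_gt (K24.f16742 IH) (Lpr_dt (K2.f19071 IH) (Lpr_gt (K28.f18584 IH) (Lpr_dt (K28.f91495 IH) (Lpe (K28.f91515 IH) (Lpe (K28.f467477 IH) (Lpn (LP (LK LD1_c13 LD2_c4 LD3_c2))))))))))))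
theorem f479914 : Led Lsl_gt (LP (LK LD1_c13 LD2_c22 LD3_c39)) = (LP (LK LD1_c22 LD2_c14 LD3_c10)) :=
  Lgr Lrot9 (Lpe (K29.f476579 IH) (Lpe (K29.f472223 IH) (Lpr_ct (K28.f95191 IH) (Lpr_gt (f468875 IH) (Lpr_ct (K29.f473251 IH) (Lpr_df (K28.f468989 IH) (Lpe (K28.f468992 IH) (Lpr_gf (f479879 IH) (Lpe (f479869 IH) (Lpn (LP (LK LD1_c22 LD2_c14 LD3_c10))))))))))))
theorem f473361 : Led Lsl_dt (LP (LK LD1_c22 LD2_c12 LD3_c43)) = (LP (LK LD1_c13 LD2_c12 LD3_c30)) :=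
  Lgr Lrot42 (Lpr_df (K29.f473354 IH) (Lpn (LP (LK LD1_c13 LD2_c12 LD3_c30))))
theorem f18397 : Led Lsl_ct (LP (LK LD1_c6 LD2_c52 LD3_c5)) = (LP (LK LD1_c13 LD2_c3 LD3_c47)) :=
  Lre_c IH (LK LD1_c6 LD2_c52 LD3_c5) (LK LD1_c13 LD2_c3 LD3_c47) Lrfl Lrfl
theorem f97598 : Led Lsl_ct (LP (LK LD1_c3 LD2_c26 LD3_c15)) = (LP (LK LD1_c6 LD2_c54 LD3_c28)) :=
  Lre_c IH (LK LD1_c3 LD2_c26 LD3_c15) (LK LD1_c6 LD2_c54 LD3_c28) Lrfl Lrfl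
theorem f97597 : Led Lsl_ct (LP (LK LD1_c13 LD2_c7 LD3_c34)) = (LP (LK LD1_c6 LD2_c54 LD3_c27)) :=
  Lre_c IH (LK LD1_c13 LD2_c7 LD3_c34) (LK LD1_c6 LD2_c54 LD3_c27) Lrfl Lrfl
theorem f473526 : Led Lsl_gt (LP (LK LD1_c13 LD2_c12 LD3_c30)) = (LP (LK LD1_c13 LD2_c7 LD3_c34)) :=
  Lgr Lrot9 (Lpe (f473361 IH) (Lpr_gt (K29.f473517 IH) (Lpr_ct (K29.f473512 IH) (Lpe (K29.f473506 IH) (Lpr_ct (f18397 IH) (Lpe (K29.f18395 IH) (Lpe (f97598 IH) (Lpe (K29.f14655 IH) (Lpe (f97597 IH) (Lpn (LP (LK LD1_c13 LD2_c7 LD3_c34))))))))))))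
theorem f456920 : Led Lsl_dt (LP (LK LD1_c7 LD2_c16 LD3_c33)) = (LP (LK LD1_c3 LD2_c38 LD3_c1)) :=
  Lre_d IH (LK LD1_c7 LD2_c16 LD3_c33) (LK LD1_c3 LD2_c38 LD3_c1) Lrfl Lrfl
theorem f479918 : Led Lsl_df (LP (LK LD1_c13 LD2_c11 LD3_c33)) = (LP (LK LD1_c22 LD2_c14 LD3_c10)) :=
  Lgr Lrot153 (Lpe (f476081 IH) (Lpr_dt (f472947 IH) (Lpe (K28.f18372 IH) (Lpe (K29.f473748 IH) (Lpr_gf (K29.f473763 IH) (Lpe (f456920 IH) (Lpe (K29.f479307 IH) (Lpe (K29.f457634 IH) (Lpr_gt (f479914 IH) (Lpn (LP (LK LD1_c22 LD2_c14 LD3_c10))))))))))))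
theorem f479920 : Led Lsl_gt (LP (LK LD1_c6 LD2_c52 LD3_c19)) = (LP (LK LD1_c13 LD2_c3 LD3_c4)) :=
  Lgr Lrot49 (Lpe (K28.f92014 IH) (Lpe (K28.f92001 IH) (Lpe (K29.f473263 IH) (Lpr_gt (f473526 IH) (Lpr_dt (K29.f476579 IH) (Lpr_gt (f479914 IH) (Lpe (f479918 IH) (Lpe (f476083 IH) (Lpr_df (K29.f464427 IH) (Lpn (LP (LK LD1_c13 LD2_c3 LD3_c4))))))))))))
theorem f511451 : Led Lsl_dt (LP (LK LD1_c1 LD2_c46 LD3_c54)) = v2281 :=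
  Lgr Lrot57 (Lpr_gf (K28.f464358 IH) (Lpe (K28.f90862 IH) (Lpr_gt (f479920 IH) (Lpe (K29.f464427 IH) (Lpr_gt (f476092 IH) (Lpr_dt (K29.f90879 IH) (Lpe (K24.f16725 IH) (Lpr_df (K2.f90867 IH) (Lpr_gf (f511448 IH) (Lpn v2281))))))))))
theorem f456428 : Led Lsl_et (LP (LK LD1_c1 LD2_c46 LD3_c54)) = (LP (LK LD1_c0 LD2_c50 LD3_c13)) :=
  Lre_e IH (LK LD1_c1 LD2_c46 LD3_c54) (LK LD1_c0 LD2_c50 LD3_c13) Lrfl Lrfl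
theorem f491723 : Led Lsl_dt (LP (LK LD1_c13 LD2_c3 LD3_c12)) = (LP (LK LD1_c6 LD2_c57 LD3_c52)) :=
  Lgr Lrot42 (Lpr_df (K30.f491716 IH) (Lpn (LP (LK LD1_c6 LD2_c57 LD3_c52))))
theorem f102700 : Led Lsl_ft (LP (LK LD1_c3 LD2_c25 LD3_c50)) = (LP (LK LD1_c1 LD2_c39 LD3_c30)) :=
  Lre_f IH (LK LD1_c3 LD2_c25 LD3_c50) (LK LD1_c1 LD2_c39 LD3_c30) Lrfl Lrfl
theorem f478479 : Led Lsl_gf (LP (LK LD1_c3 LD2_c24 LD3_c40)) = (LP (LK LD1_c3 LD2_c41 LD3_c53)) :=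
  Lgr Lrot76 (Lpe (K6.f102690 IH) (Lpe (f102700 IH) (Lpr_gt (K29.f478477 IH) (Lpn (LP (LK LD1_c3 LD2_c41 LD3_c53))))))
theorem f85213 : Led Lsl_dt (LP (LK LD1_c3 LD2_c44 LD3_c46)) = (LP (LK LD1_c7 LD2_c30 LD3_c35)) :=
  Lre_d IH (LK LD1_c3 LD2_c44 LD3_c46) (LK LD1_c7 LD2_c30 LD3_c35) Lrfl Lrfl
theorem f491726 : Led Lsl_ct (LP (LK LD1_c7 LD2_c30 LD3_c35)) = (LP (LK LD1_c6 LD2_c57 LD3_c52)) :=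
  Lgr Lrot7 (Lpe (f85213 IH) (Lpe (K29.f85212 IH) (Lpe (K3.f85201 IH) (Lpe (K29.f483576 IH) (Lpe (K29.f4891 IH) (Lpe (f478479 IH) (Lpr_dt (K6.f91143 IH) (Lpr_gt (K30.f441546 IH) (Lpr_dt (f491723 IH) (Lpn (LP (LK LD1_c6 LD2_c57 LD3_c52))))))))))))
theorem f62971 : Led Lsl_bt (LP (LK LD1_c1 LD2_c53 LD3_c5)) = (LP (LK LD1_c3 LD2_c52 LD3_c42)) :=
  Lre_b IH (LK LD1_c1 LD2_c53 LD3_c5) (LK LD1_c3 LD2_c52 LD3_c42) Lrfl Lrfl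
theorem f62999 : Led Lsl_et (LP (LK LD1_c3 LD2_c48 LD3_c5)) = (LP (LK LD1_c1 LD2_c51 LD3_c2)) :=
  Lre_e IH (LK LD1_c3 LD2_c48 LD3_c5) (LK LD1_c1 LD2_c51 LD3_c2) Lrfl Lrfl
theorem f464235 : Led Lsl_gf (LP (LK LD1_c3 LD2_c52 LD3_c42)) = (LP (LK LD1_c7 LD2_c30 LD3_c35)) :=
  Lgr Lrot134 (Lpe (K29.f62984 IH) (Lpr_et (f62999 IH) (Lpr_gt (K28.f464230 IH) (Lpe (K28.f107286 IH) (Lpr_dt (K5.f95912 IH) (Lpr_gt (K5.f107276 IH) (Lpe (K2.f5799 IH) (Lpr_et (K2.f85199 IH) (Lpr_gt (K29.f85212 IH) (Lpr_dt (f85213 IH) (Lpn (LP (LK LD1_c7 LD2_c30 LD3_c35)))))))))))))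
theorem f482919 : Led Lsl_bf (LP (LK LD1_c7 LD2_c30 LD3_c35)) = (LP (LK LD1_c3 LD2_c53 LD3_c10)) :=
  Lgr Lrot156 (Lpe (f464235 IH) (Lpe (f62971 IH) (Lpr_ct (K29.f62728 IH) (Lpe (K29.f64673 IH) (Lpr_cf (K29.f482909 IH) (Lpr_bt (K29.f97289 IH) (Lpe (K29.f482906 IH) (Lpr_ct (K29.f455211 IH) (Lpr_gt (K29.f455481 IH) (Lpe (K29.f482796 IH) (Lpn (LP (LK LD1_c3 LD2_c53 LD3_c10)))))))))))))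
theorem f482921 : Led Lsl_bt (LP (LK LD1_c7 LD2_c30 LD3_c35)) = (LP (LK LD1_c3 LD2_c53 LD3_c10)) :=
  Lgr Lrot127 (Lpr_bf (f482919 IH) (Lpn (LP (LK LD1_c3 LD2_c53 LD3_c10))))
theorem f93135 : Led Lsl_ct (LP (LK LD1_c1 LD2_c43 LD3_c45)) = (LP (LK LD1_c3 LD2_c34 LD3_c7)) :=
  Lre_c IH (LK LD1_c1 LD2_c43 LD3_c45) (LK LD1_c3 LD2_c34 LD3_c7) Lrfl Lrfl
theorem f93131 : Led Lsl_bt (LP (LK LD1_c1 LD2_c43 LD3_c45)) = (LP (LK LD1_c3 LD2_c34 LD3_c3)) :=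
  Lre_b IH (LK LD1_c1 LD2_c43 LD3_c45) (LK LD1_c3 LD2_c34 LD3_c3) Lrfl Lrfl
theorem f468894 : Led Lsl_ct (LP (LK LD1_c1 LD2_c40 LD3_c29)) = (LP (LK LD1_c3 LD2_c27 LD3_c49)) :=
  Lre_c IH (LK LD1_c1 LD2_c40 LD3_c29) (LK LD1_c3 LD2_c27 LD3_c49) Lrfl Lrfl
theorem f468900 : Led Lsl_bt (LP (LK LD1_c1 LD2_c40 LD3_c29)) = (LP (LK LD1_c3 LD2_c27 LD3_c46)) :=
  Lre_b IH (LK LD1_c1 LD2_c40 LD3_c29) (LK LD1_c3 LD2_c27 LD3_c46) Lrfl Lrfl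
theorem f491732 : Led Lsl_gt (LP (LK LD1_c3 LD2_c34 LD3_c3)) = (LP (LK LD1_c3 LD2_c27 LD3_c46)) :=
  Lgr Lrot164 (Lpe (f93131 IH) (Lpr_ct (f93135 IH) (Lpe (K29.f92501 IH) (Lpe (K30.f482423 IH) (Lpe (K29.f473622 IH) (Lpe (f482921 IH) (Lpr_ct (f491726 IH) (Lpe (K30.f468893 IH) (Lpe (f468894 IH) (Lpr_bt (f468900 IH) (Lpn (LP (LK LD1_c3 LD2_c27 LD3_c46)))))))))))))
theorem f93144 : Led Lsl_gt (LP (LK LD1_c7 LD2_c9 LD3_c13)) = (LP (LK LD1_c3 LD2_c34 LD3_c3)) :=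
  Lre_g IH (LK LD1_c7 LD2_c9 LD3_c13) (LK LD1_c3 LD2_c34 LD3_c3) Lrfl Lrfl
theorem f484704 : Led Lsl_at (LP (LK LD1_c6 LD2_c57 LD3_c38)) = (LP (LK LD1_c3 LD2_c27 LD3_c46)) :=
  Lre_a IH (LK LD1_c6 LD2_c57 LD3_c38) (LK LD1_c3 LD2_c27 LD3_c46) Lrfl Lrfl
theorem f491736 : Led Lsl_ft (LP (LK LD1_c7 LD2_c9 LD3_c13)) = (LP (LK LD1_c6 LD2_c57 LD3_c38)) :=
  Lgr Lrot2 (Lpr_gt (f93144 IH) (Lpr_gt (f491732 IH) (Lpe (f484704 IH) (Lpn (LP (LK LD1_c6 LD2_c57 LD3_c38))))))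
theorem f491740 : Led Lsl_ff (LP (LK LD1_c7 LD2_c9 LD3_c13)) = (LP (LK LD1_c6 LD2_c57 LD3_c38)) :=
  Lgr Lrot3 (Lpr_ft (f491736 IH) (Lpn (LP (LK LD1_c6 LD2_c57 LD3_c38))))
theorem f451336 : Led Lsl_ct (LP (LK LD1_c1 LD2_c47 LD3_c55)) = (LP (LK LD1_c3 LD2_c42 LD3_c0)) :=
  Lre_c IH (LK LD1_c1 LD2_c47 LD3_c55) (LK LD1_c3 LD2_c42 LD3_c0) Lrfl Lrfl
theorem f451586 : Led Lsl_gt (LP (LK LD1_c3 LD2_c42 LD3_c0)) = (LP (LK LD1_c7 LD2_c24 LD3_c50)) :=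
  Lre_g IH (LK LD1_c3 LD2_c42 LD3_c0) (LK LD1_c7 LD2_c24 LD3_c50) Lrfl Lrfl
theorem f63888 : Led Lsl_gt (LP (LK LD1_c3 LD2_c30 LD3_c1)) = (LP (LK LD1_c7 LD2_c1 LD3_c45)) :=
  Lre_g IH (LK LD1_c3 LD2_c30 LD3_c1) (LK LD1_c7 LD2_c1 LD3_c45) Lrfl Lrfl
theorem f481886 : Led Lsl_ct (LP (LK LD1_c7 LD2_c1 LD3_c45)) = (LP (LK LD1_c13 LD2_c18 LD3_c54)) :=
  Lgr Lrot152 (Lpe (f63888 IH) (Lpe (K4.f63887 IH) (Lpr_gt (K29.f481878 IH) (Lpr_ct (K29.f436801 IH) (Lpr_gt (K28.f457176 IH) (Lpqs (K28.f467667 IH) (Lpr_ct (K3.f85234 IH) (Lpe (K3.f85238 IH) (Lpe (K3.f85239 IH) (Lpe (K29.f440721 IH) (Lpn (LP (LK LD1_c13 LD2_c18 LD3_c54)))))))))))))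
theorem f481945 : Led Lsl_df (LP (LK LD1_c7 LD2_c1 LD3_c45)) = (LP (LK LD1_c3 LD2_c42 LD3_c0)) :=
  Lgr Lrot177 (Lpr_ct (f481886 IH) (Lpe (K29.f474460 IH) (Lpr_ff (K29.f474453 IH) (Lpe (K29.f474451 IH) (Lpr_ct (K29.f457180 IH) (Lpr_dt (K29.f436802 IH) (Lpr_ct (K29.f436801 IH) (Lpr_dt (K28.f451585 IH) (Lpr_ct (f451336 IH) (Lpn (LP (LK LD1_c3 LD2_c42 LD3_c0))))))))))))
theorem f109692 : Led Lsl_at (LP (LK LD1_c7 LD2_c1 LD3_c8)) = (LP (LK LD1_c3 LD2_c46 LD3_c13)) :=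
  Lgr Lrot107 (Lpe (K3.f64703 IH) (Lpr_af (K3.f109672 IH) (Lpe (K29.f85262 IH) (Lpn (LP (LK LD1_c3 LD2_c46 LD3_c13))))))
theorem f109659 : Led Lsl_ff (LP (LK LD1_c7 LD2_c1 LD3_c8)) = (LP (LK LD1_c7 LD2_c33 LD3_c32)) :=
  Lgr Lrot19 (Lpr_dt (K3.f109651 IH) (Lpr_ft (K29.f109658 IH) (Lpr_dt (K29.f85267 IH) (Lpn (LP (LK LD1_c7 LD2_c33 LD3_c32))))))
theorem f441351 : Led Lsl_gt (LP (LK LD1_c7 LD2_c33 LD3_c32)) = (LP (LK LD1_c7 LD2_c33 LD3_c30)) :=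
  Lgr Lrot5 (Lpe (f109659 IH) (Lpr_at (f109692 IH) (Lpe (K29.f440693 IH) (Lpn (LP (LK LD1_c7 LD2_c33 LD3_c30))))))
theorem f474527 : Led Lsl_gf (LP (LK LD1_c7 LD2_c48 LD3_c21)) = (LP (LK LD1_c7 LD2_c33 LD3_c37)) :=
  Lgr Lrot143 (Lpe (K29.f474511 IH) (Lpr_cf (K29.f474518 IH) (Lpe (K29.f62987 IH) (Lpr_gf (K29.f474400 IH) (Lpe (K29.f89136 IH) (Lpe (K29.f441357 IH) (Lpe (K29.f440679 IH) (Lpr_gt (f441351 IH) (Lpe (K29.f474474 IH) (Lpn (LP (LK LD1_c7 LD2_c33 LD3_c37))))))))))))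
theorem f64183 : Led Lsl_et (LP (LK LD1_c0 LD2_c10 LD3_c40)) = (LP (LK LD1_c0 LD2_c23 LD3_c53)) :=
  Lre_e IH (LK LD1_c0 LD2_c10 LD3_c40) (LK LD1_c0 LD2_c23 LD3_c53) Lrfl Lrfl
theorem f443238 : Led Lsl_et (LP (LK LD1_c1 LD2_c52 LD3_c46)) = (LP (LK LD1_c0 LD2_c53 LD3_c1)) :=
  Lre_e IH (LK LD1_c1 LD2_c52 LD3_c46) (LK LD1_c0 LD2_c53 LD3_c1) Lrfl Lrfl
theorem f443239 : Led Lsl_dt (LP (LK LD1_c1 LD2_c52 LD3_c46)) = (LP (LK LD1_c3 LD2_c52 LD3_c9)) :=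
  Lre_d IH (LK LD1_c1 LD2_c52 LD3_c46) (LK LD1_c3 LD2_c52 LD3_c9) Lrfl Lrfl
theorem f478308 : Led Lsl_gf (LP (LK LD1_c3 LD2_c52 LD3_c9)) = (LP (LK LD1_c3 LD2_c46 LD3_c16)) :=
  Lgr Lrot134 (Lpe (f443239 IH) (Lpr_et (f443238 IH) (Lpr_gt (K24.f443237 IH) (Lpe (f64183 IH) (Lpr_dt (K3.f64184 IH) (Lpr_gt (K1.f15048 IH) (Lpr_df (K2.f65182 IH) (Lpr_et (K4.f65186 IH) (Lpr_gt (K29.f478300 IH) (Lpr_dt (K29.f466864 IH) (Lpn (LP (LK LD1_c3 LD2_c46 LD3_c16)))))))))))))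
theorem f478426 : Led Lsl_dt (LP (LK LD1_c3 LD2_c52 LD3_c9)) = (LP (LK LD1_c1 LD2_c52 LD3_c46)) :=
  Lre_d IH (LK LD1_c3 LD2_c52 LD3_c9) (LK LD1_c1 LD2_c52 LD3_c46) Lrfl Lrfl
theorem f481947 : Led Lsl_gf (LP (LK LD1_c3 LD2_c42 LD3_c0)) = (LP (LK LD1_c1 LD2_c52 LD3_c46)) :=
  Lgr Lrot154 (Lpe (f481945 IH) (Lpr_ct (f481886 IH) (Lpr_df (K29.f474534 IH) (Lpe (K29.f474529 IH) (Lpr_df (K29.f474511 IH) (Lpr_gf (f474527 IH) (Lpr_ct (K29.f459571 IH) (Lpe (f478308 IH) (Lpr_dt (f478426 IH) (Lpn (LP (LK LD1_c1 LD2_c52 LD3_c46))))))))))))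
theorem f466940 : Led Lsl_af (LP (LK LD1_c3 LD2_c46 LD3_c18)) = (LP (LK LD1_c3 LD2_c42 LD3_c0)) :=
  Lgr Lrot68 (Lpr_ct (K29.f85271 IH) (Lpr_at (K29.f466927 IH) (Lpr_ct (f451336 IH) (Lpn (LP (LK LD1_c3 LD2_c42 LD3_c0))))))
theorem f466942 : Led Lsl_at (LP (LK LD1_c3 LD2_c46 LD3_c18)) = (LP (LK LD1_c3 LD2_c42 LD3_c0)) :=
  Lgr Lrot100 (Lpr_af (f466940 IH) (Lpn (LP (LK LD1_c3 LD2_c42 LD3_c0))))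
theorem f474586 : Led Lsl_af (LP (LK LD1_c3 LD2_c42 LD3_c1)) = (LP (LK LD1_c7 LD2_c1 LD3_c11)) :=
  Lgr Lrot45 (Lpe (K29.f458720 IH) (Lpe (K29.f466845 IH) (Lpr_ft (K29.f474559 IH) (Lpn (LP (LK LD1_c7 LD2_c1 LD3_c11))))))
theorem f478458 : Led Lsl_gt (LP (LK LD1_c3 LD2_c52 LD3_c9)) = (LP (LK LD1_c3 LD2_c42 LD3_c1)) :=
  Lgr Lrot46 (Lpr_gf (f478308 IH) (Lpr_ft (K29.f474559 IH) (Lpe (f474586 IH) (Lpn (LP (LK LD1_c3 LD2_c42 LD3_c1))))))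
theorem f62732 : Led Lsl_ct (LP (LK LD1_c3 LD2_c48 LD3_c58)) = (LP (LK LD1_c1 LD2_c51 LD3_c29)) :=
  Lre_c IH (LK LD1_c3 LD2_c48 LD3_c58) (LK LD1_c1 LD2_c51 LD3_c29) Lrfl Lrfl
theorem f478464 : Led Lsl_gf (LP (LK LD1_c1 LD2_c52 LD3_c46)) = (LP (LK LD1_c3 LD2_c48 LD3_c58)) :=
  Lgr Lrot144 (Lpr_dt (f443239 IH) (Lpr_gt (f478458 IH) (Lpr_dt (K29.f4496 IH) (Lpe (K29.f12854 IH) (Lpr_df (K29.f459368 IH) (Lpr_gf (K29.f467095 IH) (Lpe (K29.f129792 IH) (Lpe (K29.f474414 IH) (Lpe (f62732 IH) (Lpn (LP (LK LD1_c3 LD2_c48 LD3_c58))))))))))))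
theorem f481949 : Led Lsl_ff (LP (LK LD1_c3 LD2_c46 LD3_c18)) = (LP (LK LD1_c3 LD2_c48 LD3_c58)) :=
  Lgr Lrot52 (Lpr_at (f466942 IH) (Lpr_gf (f481947 IH) (Lpr_gf (f478464 IH) (Lpn (LP (LK LD1_c3 LD2_c48 LD3_c58))))))
theorem f441017 : Led Lsl_dt (LP (LK LD1_c3 LD2_c30 LD3_c1)) = (LP (LK LD1_c1 LD2_c41 LD3_c42)) :=
  Lre_d IH (LK LD1_c3 LD2_c30 LD3_c1) (LK LD1_c1 LD2_c41 LD3_c42) Lrfl Lrfl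
theorem f64269 : Led Lsl_gt (LP (LK LD1_c7 LD2_c1 LD3_c46)) = (LP (LK LD1_c3 LD2_c30 LD3_c1)) :=
  Lre_g IH (LK LD1_c7 LD2_c1 LD3_c46) (LK LD1_c3 LD2_c30 LD3_c1) Lrfl Lrfl
theorem f481882 : Led Lsl_ct (LP (LK LD1_c7 LD2_c1 LD3_c46)) = (LP (LK LD1_c13 LD2_c18 LD3_c55)) :=
  Lgr Lrot8 (Lpr_gt (f64269 IH) (Lpr_dt (f441017 IH) (Lpr_gt (K29.f481878 IH) (Lpr_dt (K29.f457179 IH) (Lpe (K29.f457180 IH) (Lpr_df (K29.f474451 IH) (Lpr_gf (K29.f440717 IH) (Lpe (K3.f109651 IH) (Lpe (K29.f109667 IH) (Lpn (LP (LK LD1_c13 LD2_c18 LD3_c55))))))))))))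
theorem f481965 : Led Lsl_df (LP (LK LD1_c7 LD2_c1 LD3_c46)) = (LP (LK LD1_c3 LD2_c48 LD3_c58)) :=
  Lgr Lrot157 (Lpr_ct (f481882 IH) (Lpe (K29.f474451 IH) (Lpr_ct (K29.f457180 IH) (Lpr_dt (K29.f436802 IH) (Lpr_ct (K29.f436801 IH) (Lpr_dt (K28.f451585 IH) (Lpr_ct (f451336 IH) (Lpe (f466942 IH) (Lpr_ff (f481949 IH) (Lpn (LP (LK LD1_c3 LD2_c48 LD3_c58))))))))))))
theorem f94288 : Led Lsl_df (LP (LK LD1_c1 LD2_c39 LD3_c21)) = (LP (LK LD1_c1 LD2_c39 LD3_c21)) :=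
  Lgr Lrot12 (Lpr_bt (K29.f94286 IH) (Lpr_dt (K4.f94241 IH) (Lpr_bt (K29.f94287 IH) (Lpn (LP (LK LD1_c1 LD2_c39 LD3_c21))))))
theorem f94336 : Led Lsl_dt (LP (LK LD1_c6 LD2_c53 LD3_c2)) = (LP (LK LD1_c3 LD2_c25 LD3_c27)) :=
  Lre_d IH (LK LD1_c6 LD2_c53 LD3_c2) (LK LD1_c3 LD2_c25 LD3_c27) Lrfl Lrfl
theorem f94331 : Led Lsl_et (LP (LK LD1_c1 LD2_c39 LD3_c21)) = (LP (LK LD1_c0 LD2_c46 LD3_c9)) :=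
  Lre_e IH (LK LD1_c1 LD2_c39 LD3_c21) (LK LD1_c0 LD2_c46 LD3_c9) Lrfl Lrfl
theorem f464847 : Led Lsl_et (LP (LK LD1_c3 LD2_c51 LD3_c58)) = (LP (LK LD1_c7 LD2_c45 LD3_c45)) :=
  Lre_e IH (LK LD1_c3 LD2_c51 LD3_c58) (LK LD1_c7 LD2_c45 LD3_c45) Lrfl Lrfl
theorem f464848 : Led Lsl_gf (LP (LK LD1_c6 LD2_c53 LD3_c2)) = (LP (LK LD1_c7 LD2_c45 LD3_c45)) :=
  Lgr Lrot138 (Lpr_dt (f94336 IH) (Lpr_gt (K29.f94335 IH) (Lpr_df (f94288 IH) (Lpr_et (f94331 IH) (Lpr_gt (K2.f94615 IH) (Lpe (K3.f92354 IH) (Lpr_dt (K28.f107190 IH) (Lpr_gt (K28.f464834 IH) (Lpe (K29.f459841 IH) (Lpr_et (f464847 IH) (Lpn (LP (LK LD1_c7 LD2_c45 LD3_c45)))))))))))))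
theorem f466933 : Led Lsl_ct (LP (LK LD1_c0 LD2_c53 LD3_c12)) = (LP (LK LD1_c1 LD2_c53 LD3_c13)) :=
  Lre_c IH (LK LD1_c0 LD2_c53 LD3_c12) (LK LD1_c1 LD2_c53 LD3_c13) Lrfl Lrfl
theorem f451335 : Led Lsl_ct (LP (LK LD1_c3 LD2_c42 LD3_c0)) = (LP (LK LD1_c1 LD2_c47 LD3_c55)) :=
  Lre_c IH (LK LD1_c3 LD2_c42 LD3_c0) (LK LD1_c1 LD2_c47 LD3_c55) Lrfl Lrfl
theorem f474263 : Led Lsl_df (LP (LK LD1_c7 LD2_c24 LD3_c51)) = (LP (LK LD1_c7 LD2_c24 LD3_c50)) :=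
  Lgr Lrot153 (Lpe (K29.f466856 IH) (Lpr_dt (K29.f459570 IH) (Lpe (K29.f85276 IH) (Lpe (K29.f85283 IH) (Lpr_gf (K29.f474243 IH) (Lpr_df (K29.f62976 IH) (Lpr_gf (K28.f467679 IH) (Lpe (f451335 IH) (Lpr_gt (f451586 IH) (Lpn (LP (LK LD1_c7 LD2_c24 LD3_c50))))))))))))
theorem f474756 : Led Lsl_gf (LP (LK LD1_c3 LD2_c48 LD3_c58)) = (LP (LK LD1_c7 LD2_c24 LD3_c50)) :=
  Lgr Lrot147 (Lpr_ct (f62732 IH) (Lpr_gt (K29.f474414 IH) (Lpr_ct (f466933 IH) (Lpe (K29.f88084 IH) (Lpe (K29.f466948 IH) (Lpr_gf (f474527 IH) (Lpe (K29.f466850 IH) (Lpr_gf (K29.f466856 IH) (Lpr_df (f474263 IH) (Lpn (LP (LK LD1_c7 LD2_c24 LD3_c50))))))))))))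
theorem f481978 : Led Lsl_ct (LP (LK LD1_c7 LD2_c45 LD3_c45)) = (LP (LK LD1_c7 LD2_c24 LD3_c50)) :=
  Lgr Lrot8 (Lpe (f464848 IH) (Lpr_dt (f94336 IH) (Lpr_gt (K29.f94335 IH) (Lpe (f94288 IH) (Lpr_cf (K29.f115902 IH) (Lpe (f441017 IH) (Lpe (f64269 IH) (Lpr_df (f481965 IH) (Lpr_gf (f474756 IH) (Lpn (LP (LK LD1_c7 LD2_c24 LD3_c50))))))))))))
theorem f482452 : Led Lsl_bt (LP (LK LD1_c7 LD2_c45 LD3_c45)) = (LP (LK LD1_c7 LD2_c9 LD3_c13)) :=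
  Lgr Lrot22 (Lpr_ct (f481978 IH) (Lpe (f451586 IH) (Lpe (f451336 IH) (Lpr_gf (K29.f474412 IH) (Lpe (K29.f468081 IH) (Lpr_ct (K28.f467998 IH) (Lpr_gf (K29.f482449 IH) (Lpe (f93135 IH) (Lpr_bt (f93131 IH) (Lpe (f93144 IH) (Lpn (LP (LK LD1_c7 LD2_c9 LD3_c13)))))))))))))
theorem f482459 : Led Lsl_ef (LP (LK LD1_c7 LD2_c45 LD3_c44)) = (LP (LK LD1_c7 LD2_c9 LD3_c13)) :=
  Lgr Lrot29 (Lpr_bt (f464773 IH) (Lpr_et (f464847 IH) (Lpr_bt (f482452 IH) (Lpn (LP (LK LD1_c7 LD2_c9 LD3_c13))))))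
theorem f128090 : Led Lsl_dt (LP (LK LD1_c7 LD2_c45 LD3_c44)) = (LP (LK LD1_c3 LD2_c51 LD3_c57)) :=
  Lre_d IH (LK LD1_c7 LD2_c45 LD3_c44) (LK LD1_c3 LD2_c51 LD3_c57) Lrfl Lrfl
theorem f464715 : Led Lsl_gf (LP (LK LD1_c6 LD2_c57 LD3_c43)) = (LP (LK LD1_c7 LD2_c45 LD3_c44)) :=
  Lgr Lrot147 (Lpr_ct (K28.f464626 IH) (Lpr_gt (K28.f11352 IH) (Lpr_ct (K28.f11336 IH) (Lpe (K29.f11318 IH) (Lpe (K28.f11346 IH) (Lpe (K28.f11351 IH) (Lpe (K28.f464689 IH) (Lpr_gf (K28.f464707 IH) (Lpe (f128090 IH) (Lpn (LP (LK LD1_c7 LD2_c45 LD3_c44))))))))))))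
theorem f98806 : Led Lsl_at (LP (LK LD1_c6 LD2_c57 LD3_c37)) = (LP (LK LD1_c3 LD2_c27 LD3_c45)) :=
  Lre_a IH (LK LD1_c6 LD2_c57 LD3_c37) (LK LD1_c3 LD2_c27 LD3_c45) Lrfl Lrfl
theorem f464759 : Led Lsl_ff (LP (LK LD1_c6 LD2_c57 LD3_c37)) = (LP (LK LD1_c7 LD2_c45 LD3_c44)) :=
  Lgr Lrot52 (Lpr_at (f98806 IH) (Lpe (K28.f98822 IH) (Lpr_gf (f464715 IH) (Lpn (LP (LK LD1_c7 LD2_c45 LD3_c44))))))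
theorem f489622 : Led Lsl_et (LP (LK LD1_c3 LD2_c27 LD3_c43)) = (LP (LK LD1_c6 LD2_c57 LD3_c38)) :=
  Lre_e IH (LK LD1_c3 LD2_c27 LD3_c43) (LK LD1_c6 LD2_c57 LD3_c38) Lrfl Lrfl
theorem f455127 : Led Lsl_at (LP (LK LD1_c3 LD2_c27 LD3_c43)) = (LP (LK LD1_c1 LD2_c40 LD3_c26)) :=
  Lre_a IH (LK LD1_c3 LD2_c27 LD3_c43) (LK LD1_c1 LD2_c40 LD3_c26) Lrfl Lrfl
theorem f464709 : Led Lsl_ff (LP (LK LD1_c3 LD2_c27 LD3_c43)) = (LP (LK LD1_c3 LD2_c51 LD3_c57)) :=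
  Lgr Lrot52 (Lpr_at (f455127 IH) (Lpe (K28.f98812 IH) (Lpr_gf (K28.f464707 IH) (Lpn (LP (LK LD1_c3 LD2_c51 LD3_c57))))))
theorem f491743 : Led Lsl_et (LP (LK LD1_c6 LD2_c57 LD3_c37)) = (LP (LK LD1_c3 LD2_c51 LD3_c57)) :=
  Lgr Lrot69 (Lpr_ff (f464759 IH) (Lpr_ef (f482459 IH) (Lpr_ff (f491740 IH) (Lpe (f489622 IH) (Lpr_ff (f464709 IH) (Lpn (LP (LK LD1_c3 LD2_c51 LD3_c57))))))))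
theorem f464768 : Led Lsl_dt (LP (LK LD1_c6 LD2_c57 LD3_c37)) = (LP (LK LD1_c3 LD2_c27 LD3_c43)) :=
  Lre_d IH (LK LD1_c6 LD2_c57 LD3_c37) (LK LD1_c3 LD2_c27 LD3_c43) Lrfl Lrfl
theorem f116043 : Led Lsl_af (LP (LK LD1_c6 LD2_c53 LD3_c43)) = (LP (LK LD1_c3 LD2_c32 LD3_c6)) :=
  Lgr Lrot0 (Lpr_at (K24.f116041 IH) (Lpn (LP (LK LD1_c3 LD2_c32 LD3_c6))))
theorem f108292 : Led Lsl_ft (LP (LK LD1_c1 LD2_c42 LD3_c43)) = (LP (LK LD1_c3 LD2_c32 LD3_c6)) :=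
  Lre_f IH (LK LD1_c1 LD2_c42 LD3_c43) (LK LD1_c3 LD2_c32 LD3_c6) Lrfl Lrfl
theorem f116049 : Led Lsl_gf (LP (LK LD1_c6 LD2_c53 LD3_c43)) = (LP (LK LD1_c3 LD2_c32 LD3_c3)) :=
  Lgr Lrot76 (Lpr_af (f116043 IH) (Lpe (f108292 IH) (Lpr_gt (K28.f116048 IH) (Lpn (LP (LK LD1_c3 LD2_c32 LD3_c3))))))
theorem f95889 : Led Lsl_et (LP (LK LD1_c1 LD2_c33 LD3_c19)) = (LP (LK LD1_c3 LD2_c13 LD3_c31)) :=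
  Lre_e IH (LK LD1_c1 LD2_c33 LD3_c19) (LK LD1_c3 LD2_c13 LD3_c31) Lrfl Lrfl
theorem f463141 : Led Lsl_ft (LP (LK LD1_c3 LD2_c56 LD3_c14)) = (LP (LK LD1_c3 LD2_c25 LD3_c54)) :=
  Lgr Lrot86 (Lpr_ef (K28.f463125 IH) (Lpe (K8.f95843 IH) (Lpe (f95889 IH) (Lpe (K4.f121219 IH) (Lpe (K5.f121203 IH) (Lpn (LP (LK LD1_c3 LD2_c25 LD3_c54))))))))
theorem f466454 : Led Lsl_df (LP (LK LD1_c3 LD2_c56 LD3_c14)) = (LP (LK LD1_c7 LD2_c4 LD3_c32)) :=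
  Lgr Lrot78 (Lpr_ft (f463141 IH) (Lpr_dt (K5.f128067 IH) (Lpr_ft (K28.f466448 IH) (Lpn (LP (LK LD1_c7 LD2_c4 LD3_c32))))))
theorem f491755 : Led Lsl_gf (LP (LK LD1_c3 LD2_c27 LD3_c43)) = (LP (LK LD1_c3 LD2_c56 LD3_c14)) :=
  Lgr Lrot145 (Lpe (f464768 IH) (Lpr_et (f491743 IH) (Lpe (K28.f464707 IH) (Lpr_dt (K28.f464608 IH) (Lpe (K28.f464587 IH) (Lpe (K28.f463401 IH) (Lpr_et (K28.f464576 IH) (Lpe (f116049 IH) (Lpr_ef (K28.f466444 IH) (Lpe (f466454 IH) (Lpn (LP (LK LD1_c3 LD2_c56 LD3_c14)))))))))))))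
theorem f491765 : Led Lsl_bf (LP (LK LD1_c3 LD2_c27 LD3_c43)) = (LP (LK LD1_c3 LD2_c47 LD3_c55)) :=
  Lgr Lrot34 (Lpr_gf (f491755 IH) (Lpr_bf (K28.f464801 IH) (Lpe (K28.f464788 IH) (Lpe (K24.f129710 IH) (Lpe (K28.f129659 IH) (Lpe (K24.f85281 IH) (Lpr_bf (K28.f11221 IH) (Lpr_ct (K28.f14952 IH) (Lpe (K28.f14971 IH) (Lpe (K28.f11214 IH) (Lpn (LP (LK LD1_c3 LD2_c47 LD3_c55)))))))))))))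
theorem f128087 : Led Lsl_dt (LP (LK LD1_c3 LD2_c51 LD3_c57)) = (LP (LK LD1_c7 LD2_c45 LD3_c44)) :=
  Lre_d IH (LK LD1_c3 LD2_c51 LD3_c57) (LK LD1_c7 LD2_c45 LD3_c44) Lrfl Lrfl
theorem f464769 : Led Lsl_ft (LP (LK LD1_c3 LD2_c27 LD3_c43)) = (LP (LK LD1_c3 LD2_c51 LD3_c57)) :=
  Lgr Lrot54 (Lpe (f464768 IH) (Lpr_ff (f464759 IH) (Lpe (f128087 IH) (Lpn (LP (LK LD1_c3 LD2_c51 LD3_c57))))))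
theorem f491774 : Led Lsl_ft (LP (LK LD1_c1 LD2_c52 LD3_c40)) = (LP (LK LD1_c3 LD2_c47 LD3_c55)) :=
  Lgr Lrot75 (Lpe (K28.f464775 IH) (Lpe (f464769 IH) (Lpr_bf (f491765 IH) (Lpn (LP (LK LD1_c3 LD2_c47 LD3_c55))))))
theorem f459849 : Led Lsl_ff (LP (LK LD1_c0 LD2_c53 LD3_c0)) = K24.v865 :=
  Lgr Lrot3 (Lpr_ft (K24.f459846 IH) (Lpn K24.v865))
theorem f491782 : K24.v865 = (LP (LK LD1_c1 LD2_c50 LD3_c58)) :=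
  (Llr Lrot23 (Lpe (f459849 IH) (Lpr_ct (K29.f458477 IH) (Lpr_ft (f491774 IH) (Lpr_ct (K28.f11214 IH) (Lpn (LP (LK LD1_c1 LD2_c50 LD3_c58)))))))).symm

end

end K32

end

end Cfsg.Agent.Helper28.S1692
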