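import Cfsg.Agent.Lib.Helper28.S1692.Seeds32

set_option autoImplicit false
set_option maxRecDepth 100000
set_option linter.all false

namespace Cfsg.Agent.Helper28.S1692

open Cfsg.Agent.Helper28
open Cfsg.Spor.ON (Gen)

noncomputable section

namespace K33
abbrev LD1_c0 := D1.c0
abbrev LD1_c1 := D1.c1
abbrev LD1_c2 := D1.c2
abbrev LD1_c3 := D1.c3
abbrev LD1_c4 := D1.c4
abbrev LD1_c5 := D1.c5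
abbrev LD1_c6 := D1.c6
abbrev LD1_c7 := D1.c7
abbrev LD1_c8 := D1.c8
abbrev LD1_c9 := D1.c9
abbrev LD1_c10 := D1.c10
abbrev LD1_c11 := D1.c11
abbrev LD1_c12 := D1.c12
abbrev LD1_c13 := D1.c13
abbrev LD1_c14 := D1.c14
abbrev LD1_c15 := D1.c15
abbrev LD1_c16 := D1.c16
abbrev LD1_c17 := D1.c17
abbrev LD1_c18 := D1.c18
abbrev LD1_c19 := D1.c19
abbrev LD1_c20 := D1.c20
abbrev LD1_c21 := D1.c21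
abbrev LD1_c22 := D1.c22
abbrev LD1_c23 := D1.c23
abbrev LD1_c24 := D1.c24
abbrev LD1_c25 := D1.c25
abbrev LD1_c26 := D1.c26
abbrev LD1_c27 := D1.c27
abbrev LD1_c28 := D1.c28
abbrev LD1_c29 := D1.c29
abbrev LD1_c30 := D1.c30
abbrev LD1_c31 := D1.c31
abbrev LD1_c32 := D1.c32
abbrev LD2_c0 := D2.c0
abbrev LD2_c1 := D2.c1
abbrev LD2_c2 := D2.c2
abbrev LD2_c3 := D2.c3
abbrev LD2_c4 := D2.c4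
abbrev LD2_c5 := D2.c5
abbrev LD2_c6 := D2.c6
abbrev LD2_c7 := D2.c7
abbrev LD2_c8 := D2.c8
abbrev LD2_c9 := D2.c9
abbrev LD2_c10 := D2.c10
abbrev LD2_c11 := D2.c11
abbrev LD2_c12 := D2.c12
abbrev LD2_c13 := D2.c13
abbrev LD2_c14 := D2.c14
abbrev LD2_c15 := D2.c15
abbrev LD2_c16 := D2.c16
abbrev LD2_c17 := D2.c17
abbrev LD2_c18 := D2.c18
abbrev LD2_c19 := D2.c19
abbrev LD2_c20 := D2.c20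
abbrev LD2_c21 := D2.c21
abbrev LD2_c22 := D2.c22
abbrev LD2_c23 := D2.c23
abbrev LD2_c24 := D2.c24
abbrev LD2_c25 := D2.c25
abbrev LD2_c26 := D2.c26
abbrev LD2_c27 := D2.c27
abbrev LD2_c28 := D2.c28
abbrev LD2_c29 := D2.c29
abbrev LD2_c30 := D2.c30
abbrev LD2_c31 := D2.c31
abbrev LD2_c32 := D2.c32
abbrev LD2_c33 := D2.c33
abbrev LD2_c34 := D2.c34
abbrev LD2_c35 := D2.c35
abbrev LD2_c36 := D2.c36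
abbrev LD2_c37 := D2.c37
abbrev LD2_c38 := D2.c38
abbrev LD2_c39 := D2.c39
abbrev LD2_c40 := D2.c40
abbrev LD2_c41 := D2.c41
abbrev LD2_c42 := D2.c42
abbrev LD2_c43 := D2.c43
abbrev LD2_c44 := D2.c44
abbrev LD2_c45 := D2.c45
abbrev LD2_c46 := D2.c46
abbrev LD2_c47 := D2.c47
abbrev LD2_c48 := D2.c48
abbrev LD2_c49 := D2.c49
abbrev LD2_c50 := D2.c50
abbrev LD2_c51 := D2.c51
abbrev LD2_c52 := D2.c52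
abbrev LD2_c53 := D2.c53
abbrev LD2_c54 := D2.c54
abbrev LD2_c55 := D2.c55
abbrev LD2_c56 := D2.c56
abbrev LD2_c57 := D2.c57
abbrev LD2_c58 := D2.c58
abbrev LD2_c59 := D2.c59
abbrev LD3_c0 := D3.c0
abbrev LD3_c1 := D3.c1
abbrev LD3_c2 := D3.c2
abbrev LD3_c3 := D3.c3
abbrev LD3_c4 := D3.c4
abbrev LD3_c5 := D3.c5
abbrev LD3_c6 := D3.c6
abbrev LD3_c7 := D3.c7
abbrev LD3_c8 := D3.c8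
abbrev LD3_c9 := D3.c9
abbrev LD3_c10 := D3.c10
abbrev LD3_c11 := D3.c11
abbrev LD3_c12 := D3.c12
abbrev LD3_c13 := D3.c13
abbrev LD3_c14 := D3.c14
abbrev LD3_c15 := D3.c15
abbrev LD3_c16 := D3.c16
abbrev LD3_c17 := D3.c17
abbrev LD3_c18 := D3.c18
abbrev LD3_c19 := D3.c19
abbrev LD3_c20 := D3.c20
abbrev LD3_c21 := D3.c21
abbrev LD3_c22 := D3.c22
abbrev LD3_c23 := D3.c23
abbrev LD3_c24 := D3.c24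
abbrev LD3_c25 := D3.c25
abbrev LD3_c26 := D3.c26
abbrev LD3_c27 := D3.c27
abbrev LD3_c28 := D3.c28
abbrev LD3_c29 := D3.c29
abbrev LD3_c30 := D3.c30
abbrev LD3_c31 := D3.c31
abbrev LD3_c32 := D3.c32
abbrev LD3_c33 := D3.c33
abbrev LD3_c34 := D3.c34
abbrev LD3_c35 := D3.c35
abbrev LD3_c36 := D3.c36
abbrev LD3_c37 := D3.c37
abbrev LD3_c38 := D3.c38
abbrev LD3_c39 := D3.c39
abbrev LD3_c40 := D3.c40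
abbrev LD3_c41 := D3.c41
abbrev LD3_c42 := D3.c42
abbrev LD3_c43 := D3.c43
abbrev LD3_c44 := D3.c44
abbrev LD3_c45 := D3.c45
abbrev LD3_c46 := D3.c46
abbrev LD3_c47 := D3.c47
abbrev LD3_c48 := D3.c48
abbrev LD3_c49 := D3.c49
abbrev LD3_c50 := D3.c50
abbrev LD3_c51 := D3.c51
abbrev LD3_c52 := D3.c52
abbrev LD3_c53 := D3.c53
abbrev LD3_c54 := D3.c54
abbrev LD3_c55 := D3.c55
abbrev LD3_c56 := D3.c56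
abbrev LD3_c57 := D3.c57
abbrev LD3_c58 := D3.c58
abbrev LD3_c59 := D3.c59
abbrev LD3_c60 := D3.c60
abbrev LD3_c61 := D3.c61
abbrev LG_g := Gen.g
abbrev Lsl_gt : Gen × Bool := sl_gt
alias Lfl_gt := fl_gt
alias Lpr_gt := pr_gt
abbrev Lsl_gf : Gen × Bool := sl_gf
alias Lfl_gf := fl_gf
alias Lpr_gf := pr_gf
alias Lre_g := re_g
alias Leoe_g := eoe_g
abbrev LG_a := Gen.a
abbrev Lsl_at : Gen × Bool := sl_at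
alias Lfl_at := fl_at
alias Lpr_at := pr_at
abbrev Lsl_af : Gen × Bool := sl_af
alias Lfl_af := fl_af
alias Lpr_af := pr_af
alias Lre_a := re_a
alias Leoe_a := eoe_a
abbrev LG_b := Gen.b
abbrev Lsl_bt : Gen × Bool := sl_bt
alias Lfl_bt := fl_bt
alias Lpr_bt := pr_bt
abbrev Lsl_bf : Gen × Bool := sl_bf
alias Lfl_bf := fl_bf
alias Lpr_bf := pr_bf
alias Lre_b := re_b
alias Leoe_b := eoe_b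
abbrev LG_c := Gen.c
abbrev Lsl_ct : Gen × Bool := sl_ct
alias Lfl_ct := fl_ct
alias Lpr_ct := pr_ct
abbrev Lsl_cf : Gen × Bool := sl_cf
alias Lfl_cf := fl_cf
alias Lpr_cf := pr_cf
alias Lre_c := re_c
alias Leoe_c := eoe_c
abbrev LG_d := Gen.d
abbrev Lsl_dt : Gen × Bool := sl_dt
alias Lfl_dt := fl_dt
alias Lpr_dt := pr_dt
abbrev Lsl_df : Gen × Bool := sl_df
alias Lfl_df := fl_df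
alias Lpr_df := pr_df
alias Lre_d := re_d
alias Leoe_d := eoe_d
abbrev LG_e := Gen.e
abbrev Lsl_et : Gen × Bool := sl_et
alias Lfl_et := fl_et
alias Lpr_et := pr_et
abbrev Lsl_ef : Gen × Bool := sl_ef
alias Lfl_ef := fl_ef
alias Lpr_ef := pr_ef
alias Lre_e := re_e
alias Leoe_e := eoe_e
abbrev LG_f := Gen.f
abbrev Lsl_ft : Gen × Bool := sl_ft
alias Lfl_ft := fl_ft
alias Lpr_ft := pr_ft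
abbrev Lsl_ff : Gen × Bool := sl_ff
alias Lfl_ff := fl_ff
alias Lpr_ff := pr_ff
alias Lre_f := re_f
alias Leoe_f := eoe_f
abbrev LK := Pt.mk
abbrev LQ : Type := Qt rels S
abbrev LP (p : Pt) : LQ := P p
abbrev Led (l : Gen × Bool) (c : LQ) : LQ := ed l c
abbrev LEOK (x : Gen) (p : Pt) : Prop := EntryOK rels S fwd inv o plet idx x p
alias Lpe := pe
alias Lpn := pn
alias Lgr := gr
alias Lpq := pq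
alias Lpqs := pqs
alias Llr := lr
alias Leop := eop
alias Lefun := efun
alias Lecon := econ
theorem Lrfl {α : Sort _} {a : α} : a = a := rfl
alias Lrot0 := rot0
alias Lrot1 := rot1
alias Lrot2 := rot2
alias Lrot3 := rot3
alias Lrot4 := rot4
alias Lrot5 := rot5
alias Lrot6 := rot6
alias Lrot7 := rot7
alias Lrot8 := rot8
alias Lrot9 := rot9
alias Lrot10 := rot10
alias Lrot11 := rot11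
alias Lrot12 := rot12
alias Lrot13 := rot13
alias Lrot14 := rot14
alias Lrot15 := rot15
alias Lrot16 := rot16
alias Lrot17 := rot17
alias Lrot18 := rot18
alias Lrot19 := rot19
alias Lrot20 := rot20
alias Lrot21 := rot21
alias Lrot22 := rot22
alias Lrot23 := rot23
alias Lrot24 := rot24
alias Lrot25 := rot25
alias Lrot26 := rot26
alias Lrot27 := rot27
alias Lrot28 := rot28
alias Lrot29 := rot29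
alias Lrot30 := rot30
alias Lrot31 := rot31
alias Lrot32 := rot32
alias Lrot33 := rot33
alias Lrot34 := rot34
alias Lrot35 := rot35
alias Lrot36 := rot36
alias Lrot38 := rot38
alias Lrot39 := rot39
alias Lrot40 := rot40
alias Lrot41 := rot41
alias Lrot42 := rot42
alias Lrot43 := rot43
alias Lrot44 := rot44
alias Lrot45 := rot45
alias Lrot46 := rot46
alias Lrot47 := rot47
alias Lrot48 := rot48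
alias Lrot49 := rot49
alias Lrot50 := rot50
alias Lrot51 := rot51
alias Lrot52 := rot52
alias Lrot53 := rot53
alias Lrot54 := rot54
alias Lrot55 := rot55
alias Lrot56 := rot56
alias Lrot57 := rot57
alias Lrot58 := rot58
alias Lrot59 := rot59
alias Lrot60 := rot60
alias Lrot61 := rot61
alias Lrot62 := rot62
alias Lrot63 := rot63
alias Lrot64 := rot64
alias Lrot65 := rot65
alias Lrot66 := rot66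
alias Lrot67 := rot67
alias Lrot68 := rot68
alias Lrot69 := rot69
alias Lrot70 := rot70
alias Lrot71 := rot71
alias Lrot72 := rot72
alias Lrot73 := rot73
alias Lrot74 := rot74
alias Lrot75 := rot75
alias Lrot76 := rot76
alias Lrot77 := rot77
alias Lrot78 := rot78
alias Lrot79 := rot79
alias Lrot80 := rot80
alias Lrot81 := rot81
alias Lrot82 := rot82
alias Lrot83 := rot83
alias Lrot84 := rot84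
alias Lrot86 := rot86
alias Lrot87 := rot87
alias Lrot88 := rot88
alias Lrot90 := rot90
alias Lrot91 := rot91
alias Lrot92 := rot92
alias Lrot93 := rot93
alias Lrot94 := rot94
alias Lrot95 := rot95
alias Lrot96 := rot96
alias Lrot97 := rot97
alias Lrot98 := rot98
alias Lrot99 := rot99
alias Lrot100 := rot100
alias Lrot101 := rot101
alias Lrot102 := rot102
alias Lrot103 := rot103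
alias Lrot104 := rot104
alias Lrot105 := rot105
alias Lrot106 := rot106
alias Lrot107 := rot107
alias Lrot108 := rot108
alias Lrot109 := rot109
alias Lrot110 := rot110
alias Lrot111 := rot111
alias Lrot112 := rot112
alias Lrot113 := rot113
alias Lrot114 := rot114
alias Lrot117 := rot117
alias Lrot119 := rot119
alias Lrot120 := rot120
alias Lrot121 := rot121
alias Lrot122 := rot122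
alias Lrot124 := rot124
alias Lrot125 := rot125
alias Lrot126 := rot126
alias Lrot127 := rot127
alias Lrot128 := rot128
alias Lrot129 := rot129
alias Lrot130 := rot130
alias Lrot131 := rot131
alias Lrot132 := rot132
alias Lrot133 := rot133
alias Lrot134 := rot134
alias Lrot136 := rot136
alias Lrot137 := rot137
alias Lrot138 := rot138
alias Lrot139 := rot139
alias Lrot140 := rot140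
alias Lrot141 := rot141
alias Lrot142 := rot142
alias Lrot143 := rot143
alias Lrot144 := rot144
alias Lrot146 := rot146
alias Lrot147 := rot147
alias Lrot148 := rot148
alias Lrot149 := rot149
alias Lrot150 := rot150
alias Lrot152 := rot152
alias Lrot153 := rot153
alias Lrot155 := rot155
alias Lrot156 := rot156
alias Lrot157 := rot157
alias Lrot158 := rot158
alias Lrot159 := rot159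
alias Lrot160 := rot160
alias Lrot161 := rot161
alias Lrot162 := rot162
alias Lrot163 := rot163
alias Lrot164 := rot164
alias Lrot165 := rot165
alias Lrot166 := rot166
alias Lrot167 := rot167
alias Lrot168 := rot168
alias Lrot169 := rot169
alias Lrot170 := rot170
alias Lrot173 := rot173
alias Lrot174 := rot174
alias Lrot176 := rot176
alias Lrot179 := rot179
alias Lrot180 := rot180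
alias Lrot181 := rot181
alias Lrot185 := rot185
alias Lrot187 := rot187
alias Lrot189 := rot189

section
variable (IH : IHT)
include IH

theorem f491789 : Led Lsl_ff (LP (LK LD1_c1 LD2_c52 LD3_c41)) = (LP (LK LD1_c3 LD2_c47 LD3_c56)) :=
  Lgr Lrot19 (Lpr_dt (K29.f459836 IH) (Lpr_ft (K24.f459846 IH) (Lpqs (K32.f491782 IH) (Lpr_dt (K29.f63016 IH) (Lpn (LP (LK LD1_c3 LD2_c47 LD3_c56)))))))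
theorem f491799 : Led Lsl_at (LP (LK LD1_c1 LD2_c52 LD3_c41)) = (LP (LK LD1_c3 LD2_c47 LD3_c52)) :=
  Lgr Lrot26 (Lpr_ff (f491789 IH) (Lpe (K29.f468694 IH) (Lpr_gt (K29.f443453 IH) (Lpn (LP (LK LD1_c3 LD2_c47 LD3_c52))))))
theorem f491808 : K24.v864 = (LP (LK LD1_c1 LD2_c50 LD3_c57)) :=
  (Llr Lrot117 (Lpe (K24.f459834 IH) (Lpr_dt (K24.f65781 IH) (Lpr_at (f491799 IH) (Lpr_dt (K29.f63935 IH) (Lpn (LP (LK LD1_c1 LD2_c50 LD3_c57)))))))).symm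
theorem f491817 : Led Lsl_ff (LP (LK LD1_c1 LD2_c52 LD3_c45)) = (LP (LK LD1_c3 LD2_c47 LD3_c52)) :=
  Lgr Lrot19 (Lpr_dt (K29.f457979 IH) (Lpr_ft (K24.f459840 IH) (Lpqs (f491808 IH) (Lpr_dt (K29.f14966 IH) (Lpn (LP (LK LD1_c3 LD2_c47 LD3_c52)))))))
theorem f491823 : Led Lsl_ft (LP (LK LD1_c1 LD2_c52 LD3_c45)) = (LP (LK LD1_c3 LD2_c47 LD3_c52)) :=
  Lgr Lrot48 (Lpr_ff (f491817 IH) (Lpn (LP (LK LD1_c3 LD2_c47 LD3_c52))))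
theorem f491827 : Led Lsl_ff (LP (LK LD1_c3 LD2_c52 LD3_c8)) = (LP (LK LD1_c7 LD2_c36 LD3_c51)) :=
  Lgr Lrot23 (Lpr_ct (K29.f458098 IH) (Lpr_ft (f491823 IH) (Lpr_ct (K29.f14967 IH) (Lpn (LP (LK LD1_c7 LD2_c36 LD3_c51))))))
theorem f491831 : Led Lsl_at (LP (LK LD1_c3 LD2_c52 LD3_c8)) = (LP (LK LD1_c7 LD2_c36 LD3_c57)) :=
  Lgr Lrot26 (Lpr_ff (f491827 IH) (Lpe (K29.f474120 IH) (Lpr_gt (K29.f463748 IH) (Lpn (LP (LK LD1_c7 LD2_c36 LD3_c57))))))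
theorem f463826 : Led Lsl_ct (LP (LK LD1_c3 LD2_c47 LD3_c56)) = (LP (LK LD1_c7 LD2_c36 LD3_c57)) :=
  Lre_c IH (LK LD1_c3 LD2_c47 LD3_c56) (LK LD1_c7 LD2_c36 LD3_c57) Lrfl Lrfl
theorem f63670 : Led Lsl_ct (LP (LK LD1_c1 LD2_c52 LD3_c42)) = (LP (LK LD1_c3 LD2_c51 LD3_c59)) :=
  Lre_c IH (LK LD1_c1 LD2_c52 LD3_c42) (LK LD1_c3 LD2_c51 LD3_c59) Lrfl Lrfl
theorem f63666 : Led Lsl_dt (LP (LK LD1_c3 LD2_c52 LD3_c2)) = (LP (LK LD1_c1 LD2_c52 LD3_c42)) :=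
  Lre_d IH (LK LD1_c3 LD2_c52 LD3_c2) (LK LD1_c1 LD2_c52 LD3_c42) Lrfl Lrfl
theorem f464828 : Led Lsl_dt (LP (LK LD1_c7 LD2_c36 LD3_c57)) = (LP (LK LD1_c13 LD2_c17 LD3_c3)) :=
  Lgr Lrot173 (Lpe (f463826 IH) (Lpe (K29.f63016 IH) (Lpe (K28.f11214 IH) (Lpr_df (K28.f464825 IH) (Lpe (f63670 IH) (Lpe (f63666 IH) (Lpe (K29.f63678 IH) (Lpe (K29.f463973 IH) (Lpe (K29.f14967 IH) (Lpe (K29.f14966 IH) (Lpe (K24.f457774 IH) (Lpe (K29.f457782 IH) (Lpe (K29.f457783 IH) (Lpr_df (K29.f463835 IH) (Lpe (K29.f463923 IH) (Lpn (LP (LK LD1_c13 LD2_c17 LD3_c3))))))))))))))))))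
theorem f491835 : Led Lsl_af (LP (LK LD1_c7 LD2_c2 LD3_c50)) = (LP (LK LD1_c13 LD2_c17 LD3_c3)) :=
  Lgr Lrot117 (Lpe (K29.f468576 IH) (Lpr_at (f491831 IH) (Lpr_dt (f464828 IH) (Lpn (LP (LK LD1_c13 LD2_c17 LD3_c3))))))
theorem f491843 : Led Lsl_ft (LP (LK LD1_c7 LD2_c2 LD3_c53)) = (LP (LK LD1_c13 LD2_c17 LD3_c3)) :=
  Lgr Lrot2 (Lpr_gt (K29.f468358 IH) (Lpr_gt (K29.f468562 IH) (Lpr_af (f491835 IH) (Lpn (LP (LK LD1_c13 LD2_c17 LD3_c3))))))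
theorem f491851 : Led Lsl_ff (LP (LK LD1_c7 LD2_c2 LD3_c53)) = (LP (LK LD1_c13 LD2_c17 LD3_c3)) :=
  Lgr Lrot3 (Lpr_ft (f491843 IH) (Lpn (LP (LK LD1_c13 LD2_c17 LD3_c3))))
theorem f491855 : Led Lsl_at (LP (LK LD1_c7 LD2_c2 LD3_c53)) = (LP (LK LD1_c7 LD2_c45 LD3_c59)) :=
  Lgr Lrot26 (Lpr_ff (f491851 IH) (Lpe (K29.f464048 IH) (Lpr_gt (K29.f463961 IH) (Lpn (LP (LK LD1_c7 LD2_c45 LD3_c59))))))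
theorem f491837 : Led Lsl_at (LP (LK LD1_c7 LD2_c2 LD3_c50)) = (LP (LK LD1_c13 LD2_c17 LD3_c3)) :=
  Lgr Lrot100 (Lpr_af (f491835 IH) (Lpn (LP (LK LD1_c13 LD2_c17 LD3_c3))))
theorem f491859 : Led Lsl_ff (LP (LK LD1_c7 LD2_c2 LD3_c50)) = (LP (LK LD1_c7 LD2_c45 LD3_c59)) :=
  Lgr Lrot30 (Lpr_at (f491837 IH) (Lpe (f491851 IH) (Lpr_at (f491855 IH) (Lpn (LP (LK LD1_c7 LD2_c45 LD3_c59))))))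
theorem f491861 : Led Lsl_ft (LP (LK LD1_c3 LD2_c30 LD3_c27)) = (LP (LK LD1_c3 LD2_c52 LD3_c2)) :=
  Lgr Lrot4 (Lpe (K29.f468561 IH) (Lpr_ff (f491859 IH) (Lpe (K29.f63673 IH) (Lpn (LP (LK LD1_c3 LD2_c52 LD3_c2))))))
theorem f491875 : Led Lsl_ff (LP (LK LD1_c3 LD2_c30 LD3_c27)) = (LP (LK LD1_c3 LD2_c52 LD3_c2)) :=
  Lgr Lrot3 (Lpr_ft (f491861 IH) (Lpn (LP (LK LD1_c3 LD2_c52 LD3_c2))))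
theorem f459848 : Led Lsl_ft (LP (LK LD1_c3 LD2_c52 LD3_c3)) = (LP (LK LD1_c1 LD2_c52 LD3_c42)) :=
  Lre_f IH (LK LD1_c3 LD2_c52 LD3_c3) (LK LD1_c1 LD2_c52 LD3_c42) Lrfl Lrfl
theorem f491881 : Led Lsl_dt (LP (LK LD1_c3 LD2_c30 LD3_c27)) = (LP (LK LD1_c3 LD2_c52 LD3_c3)) :=
  Lgr Lrot60 (Lpr_ff (f491875 IH) (Lpe (K3.f63657 IH) (Lpe (f459848 IH) (Lpn (LP (LK LD1_c3 LD2_c52 LD3_c3))))))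
theorem f491900 : Led Lsl_ct (LP (LK LD1_c3 LD2_c51 LD3_c58)) = (LP (LK LD1_c3 LD2_c52 LD3_c3)) :=
  Lgr Lrot7 (Lpe (K29.f459869 IH) (Lpe (K28.f464834 IH) (Lpe (K28.f107190 IH) (Lpe (K29.f468356 IH) (Lpe (K29.f18979 IH) (Lpr_gt (K24.f64272 IH) (Lpr_dt (K1.f65001 IH) (Lpr_gt (K29.f460509 IH) (Lpr_dt (f491881 IH) (Lpn (LP (LK LD1_c3 LD2_c52 LD3_c3))))))))))))
theorem f459873 : Led Lsl_ft (LP (LK LD1_c1 LD2_c52 LD3_c42)) = (LP (LK LD1_c3 LD2_c52 LD3_c3)) :=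
  Lre_f IH (LK LD1_c1 LD2_c52 LD3_c42) (LK LD1_c3 LD2_c52 LD3_c3) Lrfl Lrfl
theorem f463976 : Led Lsl_af (LP (LK LD1_c6 LD2_c57 LD3_c17)) = (LP (LK LD1_c3 LD2_c52 LD3_c3)) :=
  Lgr Lrot109 (Lpe (K29.f457890 IH) (Lpe (K29.f457957 IH) (Lpr_cf (K29.f457780 IH) (Lpe (K29.f63935 IH) (Lpe (K29.f457789 IH) (Lpr_df (K29.f463968 IH) (Lpe (K29.f63673 IH) (Lpe (K3.f63657 IH) (Lpr_ft (f459873 IH) (Lpn (LP (LK LD1_c3 LD2_c52 LD3_c3))))))))))))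
theorem f463980 : Led Lsl_at (LP (LK LD1_c6 LD2_c57 LD3_c17)) = (LP (LK LD1_c3 LD2_c52 LD3_c3)) :=
  Lgr Lrot100 (Lpr_af (f463976 IH) (Lpn (LP (LK LD1_c3 LD2_c52 LD3_c3))))
theorem f491913 : Led Lsl_ft (LP (LK LD1_c3 LD2_c47 LD3_c53)) = (LP (LK LD1_c6 LD2_c57 LD3_c17)) :=
  Lgr Lrot142 (Lpr_dt (K1.f64972 IH) (Lpr_ct (K29.f64978 IH) (Lpe (K29.f459854 IH) (Lpr_ct (K29.f459868 IH) (Lpr_dt (K29.f459836 IH) (Lpr_ct (K29.f458477 IH) (Lpr_dt (K29.f459869 IH) (Lpr_ct (f491900 IH) (Lpe (f463980 IH) (Lpn (LP (LK LD1_c6 LD2_c57 LD3_c17))))))))))))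
theorem f491972 : Led Lsl_ff (LP (LK LD1_c3 LD2_c47 LD3_c53)) = (LP (LK LD1_c6 LD2_c57 LD3_c17)) :=
  Lgr Lrot3 (Lpr_ft (f491913 IH) (Lpn (LP (LK LD1_c6 LD2_c57 LD3_c17))))
theorem f459843 : Led Lsl_ff (LP (LK LD1_c0 LD2_c53 LD3_c1)) = K24.v864 :=
  Lgr Lrot3 (Lpr_ft (K24.f459840 IH) (Lpn K24.v864))
theorem f459844 : Led Lsl_et (LP (LK LD1_c0 LD2_c53 LD3_c1)) = (LP (LK LD1_c1 LD2_c52 LD3_c46)) :=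
  Lre_e IH (LK LD1_c0 LD2_c53 LD3_c1) (LK LD1_c1 LD2_c52 LD3_c46) Lrfl Lrfl
theorem f459845 : Led Lsl_ft (LP (LK LD1_c1 LD2_c52 LD3_c46)) = (LP (LK LD1_c3 LD2_c52 LD3_c10)) :=
  Lre_f IH (LK LD1_c1 LD2_c52 LD3_c46) (LK LD1_c3 LD2_c52 LD3_c10) Lrfl Lrfl
theorem f491980 : Led Lsl_et (LP (LK LD1_c3 LD2_c52 LD3_c10)) = (LP (LK LD1_c6 LD2_c57 LD3_c17)) :=
  Lgr Lrot69 (Lpe (f459845 IH) (Lpe (f459844 IH) (Lpr_ff (f459843 IH) (Lpqs (f491808 IH) (Lpe (K1.f64969 IH) (Lpr_ff (f491972 IH) (Lpn (LP (LK LD1_c6 LD2_c57 LD3_c17)))))))))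
theorem f458099 : Led Lsl_et (LP (LK LD1_c3 LD2_c27 LD3_c33)) = (LP (LK LD1_c6 LD2_c57 LD3_c18)) :=
  Lre_e IH (LK LD1_c3 LD2_c27 LD3_c33) (LK LD1_c6 LD2_c57 LD3_c18) Lrfl Lrfl
theorem f491984 : Led Lsl_cf (LP (LK LD1_c3 LD2_c52 LD3_c10)) = (LP (LK LD1_c6 LD2_c57 LD3_c18)) :=
  Lgr Lrot39 (Lpr_et (f491980 IH) (Lpr_ct (K29.f457783 IH) (Lpr_et (f458099 IH) (Lpn (LP (LK LD1_c6 LD2_c57 LD3_c18))))))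
theorem f491990 : Led Lsl_ct (LP (LK LD1_c3 LD2_c52 LD3_c10)) = (LP (LK LD1_c6 LD2_c57 LD3_c18)) :=
  Lgr Lrot59 (Lpr_cf (f491984 IH) (Lpn (LP (LK LD1_c6 LD2_c57 LD3_c18))))
theorem f481951 : Led Lsl_af (LP (LK LD1_c7 LD2_c24 LD3_c50)) = (LP (LK LD1_c3 LD2_c52 LD3_c10)) :=
  Lgr Lrot31 (Lpe (K32.f451586 IH) (Lpr_gf (K32.f481947 IH) (Lpr_ft (f459845 IH) (Lpn (LP (LK LD1_c3 LD2_c52 LD3_c10))))))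
theorem f481953 : Led Lsl_at (LP (LK LD1_c7 LD2_c24 LD3_c50)) = (LP (LK LD1_c3 LD2_c52 LD3_c10)) :=
  Lgr Lrot100 (Lpr_af (f481951 IH) (Lpn (LP (LK LD1_c3 LD2_c52 LD3_c10))))
theorem f491992 : Led Lsl_af (LP (LK LD1_c7 LD2_c45 LD3_c45)) = (LP (LK LD1_c6 LD2_c57 LD3_c18)) :=
  Lgr Lrot68 (Lpr_ct (K32.f481978 IH) (Lpr_at (f481953 IH) (Lpr_ct (f491990 IH) (Lpn (LP (LK LD1_c6 LD2_c57 LD3_c18))))))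
theorem f464831 : Led Lsl_et (LP (LK LD1_c7 LD2_c45 LD3_c45)) = (LP (LK LD1_c3 LD2_c51 LD3_c58)) :=
  Lre_e IH (LK LD1_c7 LD2_c45 LD3_c45) (LK LD1_c3 LD2_c51 LD3_c58) Lrfl Lrfl
theorem f492299 : Led Lsl_at (LP (LK LD1_c3 LD2_c51 LD3_c58)) = (LP (LK LD1_c3 LD2_c27 LD3_c33)) :=
  Lgr Lrot80 (Lpe (f464831 IH) (Lpr_af (f491992 IH) (Lpe (f458099 IH) (Lpn (LP (LK LD1_c3 LD2_c27 LD3_c33))))))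
theorem f63668 : Led Lsl_ct (LP (LK LD1_c3 LD2_c51 LD3_c59)) = (LP (LK LD1_c1 LD2_c52 LD3_c42)) :=
  Lre_c IH (LK LD1_c3 LD2_c51 LD3_c59) (LK LD1_c1 LD2_c52 LD3_c42) Lrfl Lrfl
theorem f464046 : Led Lsl_dt (LP (LK LD1_c3 LD2_c47 LD3_c55)) = (LP (LK LD1_c3 LD2_c51 LD3_c59)) :=
  Lgr Lrot105 (Lpe (K28.f463735 IH) (Lpr_df (K28.f461903 IH) (Lpr_gf (K28.f464044 IH) (Lpr_cf (K28.f458356 IH) (Lpr_gt (K3.f63667 IH) (Lpr_dt (K3.f63655 IH) (Lpr_gt (K3.f63658 IH) (Lpr_dt (f63666 IH) (Lpe (f63668 IH) (Lpn (LP (LK LD1_c3 LD2_c51 LD3_c59))))))))))))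
theorem f491776 : Led Lsl_ff (LP (LK LD1_c3 LD2_c51 LD3_c58)) = (LP (LK LD1_c3 LD2_c51 LD3_c59)) :=
  Lgr Lrot19 (Lpr_dt (K29.f459841 IH) (Lpr_ft (K32.f491774 IH) (Lpr_dt (f464046 IH) (Lpn (LP (LK LD1_c3 LD2_c51 LD3_c59))))))
theorem f491968 : Led Lsl_ff (LP (LK LD1_c3 LD2_c27 LD3_c34)) = (LP (LK LD1_c3 LD2_c27 LD3_c33)) :=
  Lgr Lrot23 (Lpr_ct (K29.f457906 IH) (Lpr_ft (f491913 IH) (Lpr_ct (K29.f457783 IH) (Lpn (LP (LK LD1_c3 LD2_c27 LD3_c33))))))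
theorem f492303 : Led Lsl_af (LP (LK LD1_c3 LD2_c51 LD3_c59)) = (LP (LK LD1_c3 LD2_c27 LD3_c34)) :=
  Lgr Lrot45 (Lpe (f491776 IH) (Lpr_at (f492299 IH) (Lpe (f491968 IH) (Lpn (LP (LK LD1_c3 LD2_c27 LD3_c34))))))
theorem f464830 : Led Lsl_et (LP (LK LD1_c1 LD2_c52 LD3_c40)) = (LP (LK LD1_c3 LD2_c51 LD3_c59)) :=
  Lre_e IH (LK LD1_c1 LD2_c52 LD3_c40) (LK LD1_c3 LD2_c51 LD3_c59) Lrfl Lrfl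
theorem f491747 : Led Lsl_bf (LP (LK LD1_c6 LD2_c57 LD3_c37)) = (LP (LK LD1_c3 LD2_c51 LD3_c59)) :=
  Lgr Lrot96 (Lpr_et (K32.f491743 IH) (Lpr_bt (K28.f464775 IH) (Lpr_et (f464830 IH) (Lpn (LP (LK LD1_c3 LD2_c51 LD3_c59))))))
theorem f492307 : Led Lsl_at (LP (LK LD1_c1 LD2_c40 LD3_c28)) = (LP (LK LD1_c1 LD2_c40 LD3_c25)) :=
  Lgr Lrot67 (Lpe (K24.f98713 IH) (Lpe (K32.f98806 IH) (Lpr_bf (f491747 IH) (Lpr_af (f492303 IH) (Lpe (K24.f91984 IH) (Lpn (LP (LK LD1_c1 LD2_c40 LD3_c25))))))))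
theorem f457912 : Led Lsl_et (LP (LK LD1_c1 LD2_c40 LD3_c22)) = (LP (LK LD1_c3 LD2_c27 LD3_c34)) :=
  Lre_e IH (LK LD1_c1 LD2_c40 LD3_c22) (LK LD1_c3 LD2_c27 LD3_c34) Lrfl Lrfl
theorem f492309 : Led Lsl_at (LP (LK LD1_c1 LD2_c52 LD3_c40)) = (LP (LK LD1_c1 LD2_c40 LD3_c22)) :=
  Lgr Lrot80 (Lpe (K28.f464811 IH) (Lpr_af (f492303 IH) (Lpe (f457912 IH) (Lpn (LP (LK LD1_c1 LD2_c40 LD3_c22))))))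
theorem f491778 : Led Lsl_ff (LP (LK LD1_c1 LD2_c52 LD3_c40)) = (LP (LK LD1_c3 LD2_c47 LD3_c55)) :=
  Lgr Lrot3 (Lpr_ft (K32.f491774 IH) (Lpn (LP (LK LD1_c3 LD2_c47 LD3_c55))))
theorem f491815 : Led Lsl_ff (LP (LK LD1_c1 LD2_c52 LD3_c44)) = (LP (LK LD1_c1 LD2_c40 LD3_c22)) :=
  Lgr Lrot23 (Lpr_ct (K24.f446560 IH) (Lpr_ft (K24.f459840 IH) (Lpqs (f491808 IH) (Lpe (K29.f457780 IH) (Lpn (LP (LK LD1_c1 LD2_c40 LD3_c22)))))))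
theorem f492311 : Led Lsl_af (LP (LK LD1_c3 LD2_c47 LD3_c55)) = (LP (LK LD1_c1 LD2_c52 LD3_c44)) :=
  Lgr Lrot45 (Lpe (f491778 IH) (Lpr_at (f492309 IH) (Lpe (f491815 IH) (Lpn (LP (LK LD1_c1 LD2_c52 LD3_c44))))))
theorem f455122 : Led Lsl_ff (LP (LK LD1_c0 LD2_c46 LD3_c39)) = K28.v600 :=
  Lgr Lrot3 (Lpr_ft (K28.f455120 IH) (Lpn K28.v600))
theorem f455118 : Led Lsl_ff (LP (LK LD1_c0 LD2_c46 LD3_c40)) = K28.v599 :=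
  Lgr Lrot3 (Lpr_ft (K28.f455115 IH) (Lpn K28.v599))
theorem f455126 : Led Lsl_at (LP (LK LD1_c0 LD2_c46 LD3_c40)) = K28.v600 :=
  Lgr Lrot66 (Lpr_ff (f455118 IH) (Lpe (K28.f455112 IH) (Lpr_ff (f455122 IH) (Lpn K28.v600))))
theorem f492313 : K28.v600 = (LP (LK LD1_c1 LD2_c39 LD3_c51)) :=
  (Llr Lrot67 (Lpe (f455126 IH) (Lpe (K24.f16721 IH) (Lpe (K32.f455127 IH) (Lpr_bf (K32.f491765 IH) (Lpr_af (f492311 IH) (Lpr_bf (K28.f457972 IH) (Lpn (LP (LK LD1_c1 LD2_c39 LD3_c51)))))))))).symm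
theorem f492322 : Led Lsl_ff (LP (LK LD1_c1 LD2_c40 LD3_c24)) = (LP (LK LD1_c1 LD2_c40 LD3_c25)) :=
  Lgr Lrot19 (Lpr_dt (K29.f19149 IH) (Lpr_ft (K28.f455120 IH) (Lpqs (f492313 IH) (Lpr_dt (K24.f90875 IH) (Lpn (LP (LK LD1_c1 LD2_c40 LD3_c25)))))))
theorem f473818 : Led Lsl_ct (LP (LK LD1_c13 LD2_c3 LD3_c4)) = (LP (LK LD1_c7 LD2_c0 LD3_c15)) :=
  Lgr Lrot7 (Lpe (K29.f464429 IH) (Lpe (K29.f98815 IH) (Lpe (K29.f98755 IH) (Lpr_gf (K28.f464417 IH) (Lpe (K28.f420090 IH) (Lpr_gt (K29.f473786 IH) (Lpr_dt (K29.f473555 IH) (Lpe (K29.f473809 IH) (Lpr_dt (K29.f473815 IH) (Lpn (LP (LK LD1_c7 LD2_c0 LD3_c15))))))))))))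
theorem f479925 : Led Lsl_gt (LP (LK LD1_c3 LD2_c26 LD3_c57)) = (LP (LK LD1_c3 LD2_c26 LD3_c19)) :=
  Lgr Lrot9 (Lpe (K28.f91504 IH) (Lpr_gt (K28.f458374 IH) (Lpr_ct (K28.f15826 IH) (Lpr_gt (K32.f479920 IH) (Lpr_ct (f473818 IH) (Lpe (K29.f473815 IH) (Lpe (K32.f473300 IH) (Lpr_gf (K32.f473325 IH) (Lpe (K29.f15894 IH) (Lpn (LP (LK LD1_c3 LD2_c26 LD3_c19))))))))))))
theorem f492328 : Led Lsl_at (LP (LK LD1_c1 LD2_c40 LD3_c24)) = (LP (LK LD1_c3 LD2_c26 LD3_c19)) :=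
  Lgr Lrot26 (Lpr_ff (f492322 IH) (Lpe (K29.f479362 IH) (Lpr_gt (f479925 IH) (Lpn (LP (LK LD1_c3 LD2_c26 LD3_c19))))))
theorem f492336 : Led Lsl_ff (LP (LK LD1_c1 LD2_c40 LD3_c28)) = (LP (LK LD1_c3 LD2_c26 LD3_c19)) :=
  Lgr Lrot30 (Lpr_at (f492307 IH) (Lpe (f492322 IH) (Lpr_at (f492328 IH) (Lpn (LP (LK LD1_c3 LD2_c26 LD3_c19))))))
theorem f511449 : Led Lsl_gt (LP (LK LD1_c3 LD2_c26 LD3_c19)) = K32.v2281 :=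
  Lgr Lrot5 (Lpe (f492336 IH) (Lpr_at (f492307 IH) (Lpr_gf (K32.f511448 IH) (Lpn K32.v2281))))
theorem f511458 : K32.v755 = (LP (LK LD1_c1 LD2_c38 LD3_c43)) :=
  (Llr Lrot131 (Lpe (K32.f457097 IH) (Lpe (K32.f456428 IH) (Lpr_dt (K32.f511451 IH) (Lpe (f511449 IH) (Lpe (K29.f15893 IH) (Lpe (K28.f15892 IH) (Lpe (K28.f15889 IH) (Lpr_dt (K0.f9771 IH) (Lpe (K3.f98705 IH) (Lpr_df (K3.f98653 IH) (Lpr_et (K29.f65852 IH) (Lpn (LP (LK LD1_c1 LD2_c38 LD3_c43))))))))))))))).symm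
theorem f511461 : Led Lsl_gt (LP (LK LD1_c0 LD2_c50 LD3_c13)) = (LP (LK LD1_c1 LD2_c38 LD3_c43)) :=
  Leop (Lpq (f511458 IH) (Lpe (K32.f457097 IH) (Lpn (LP (LK LD1_c0 LD2_c50 LD3_c13)))))
theorem seed_161 : LEOK LG_g (LK LD1_c0 LD2_c50 LD3_c13) :=
  Leoe_g (LK LD1_c0 LD2_c50 LD3_c13) (f511461 IH)
def v2264 : LQ := Led Lsl_ft (LP (LK LD1_c1 LD2_c39 LD3_c38))
theorem f511332 : Led Lsl_ft (LP (LK LD1_c1 LD2_c39 LD3_c38)) = v2264 :=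
  Lrfl
theorem f441956 : Led Lsl_bt (LP (LK LD1_c0 LD2_c46 LD3_c25)) = (LP (LK LD1_c1 LD2_c39 LD3_c38)) :=
  Lre_b IH (LK LD1_c0 LD2_c46 LD3_c25) (LK LD1_c1 LD2_c39 LD3_c38) Lrfl Lrfl
def v594 : LQ := Led Lsl_ft (LP (LK LD1_c0 LD2_c46 LD3_c25))
theorem f455088 : Led Lsl_ft (LP (LK LD1_c0 LD2_c46 LD3_c25)) = v594 :=
  Lrfl
theorem f455089 : Led Lsl_ff (LP (LK LD1_c0 LD2_c46 LD3_c25)) = v594 :=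
  Lgr Lrot3 (Lpr_ft (f455088 IH) (Lpn v594))
theorem f511333 : Led Lsl_bf v594 = v2264 :=
  Lgr Lrot61 (Lpe (f455089 IH) (Lpr_bt (f441956 IH) (Lpr_ft (f511332 IH) (Lpn v2264))))
def v2247 : LQ := Led Lsl_gf (LP (LK LD1_c1 LD2_c38 LD3_c43))
theorem f510463 : Led Lsl_gf (LP (LK LD1_c1 LD2_c38 LD3_c43)) = v2247 :=
  Lrfl
theorem f102435 : Led Lsl_ct (LP (LK LD1_c1 LD2_c39 LD3_c45)) = (LP (LK LD1_c0 LD2_c46 LD3_c25)) :=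
  Lre_c IH (LK LD1_c1 LD2_c39 LD3_c45) (LK LD1_c0 LD2_c46 LD3_c25) Lrfl Lrfl
theorem f65927 : Led Lsl_ct (LP (LK LD1_c1 LD2_c38 LD3_c43)) = (LP (LK LD1_c3 LD2_c24 LD3_c36)) :=
  Lre_c IH (LK LD1_c1 LD2_c38 LD3_c43) (LK LD1_c3 LD2_c24 LD3_c36) Lrfl Lrfl
theorem f102436 : Led Lsl_at (LP (LK LD1_c0 LD2_c46 LD3_c25)) = (LP (LK LD1_c1 LD2_c38 LD3_c43)) :=
  Lgr Lrot107 (Lpe (f102435 IH) (Lpr_af (K4.f102426 IH) (Lpe (f65927 IH) (Lpn (LP (LK LD1_c1 LD2_c38 LD3_c43))))))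
theorem f510464 : Led Lsl_gt v594 = v2247 :=
  Lgr Lrot5 (Lpe (f455089 IH) (Lpr_at (f102436 IH) (Lpr_gf (f510463 IH) (Lpn v2247))))
theorem f511460 : (LP (LK LD1_c0 LD2_c50 LD3_c13)) = v2247 :=
  Lefun (Lecon (Lfl_gt (K32.f457097 IH)) (f511458 IH)) (f510463 IH)
theorem f450979 : Led Lsl_bt (LP (LK LD1_c0 LD2_c22 LD3_c40)) = (LP (LK LD1_c0 LD2_c50 LD3_c13)) :=
  Lre_b IH (LK LD1_c0 LD2_c22 LD3_c40) (LK LD1_c0 LD2_c50 LD3_c13) Lrfl Lrfl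
theorem f12847 : Led Lsl_bt (LP (LK LD1_c0 LD2_c10 LD3_c26)) = (LP (LK LD1_c0 LD2_c23 LD3_c10)) :=
  Lre_b IH (LK LD1_c0 LD2_c10 LD3_c26) (LK LD1_c0 LD2_c23 LD3_c10) Lrfl Lrfl
theorem f12853 : Led Lsl_gt (LP (LK LD1_c0 LD2_c23 LD3_c10)) = (LP (LK LD1_c0 LD2_c51 LD3_c22)) :=
  Lre_g IH (LK LD1_c0 LD2_c23 LD3_c10) (LK LD1_c0 LD2_c51 LD3_c22) Lrfl Lrfl
theorem f12861 : Led Lsl_ct (LP (LK LD1_c0 LD2_c51 LD3_c22)) = (LP (LK LD1_c1 LD2_c49 LD3_c14)) :=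
  Lre_c IH (LK LD1_c0 LD2_c51 LD3_c22) (LK LD1_c1 LD2_c49 LD3_c14) Lrfl Lrfl
theorem f12862 : Led Lsl_gt (LP (LK LD1_c1 LD2_c49 LD3_c14)) = (LP (LK LD1_c3 LD2_c44 LD3_c26)) :=
  Lre_g IH (LK LD1_c1 LD2_c49 LD3_c14) (LK LD1_c3 LD2_c44 LD3_c26) Lrfl Lrfl
theorem f511465 : Led Lsl_ct v2264 = (LP (LK LD1_c3 LD2_c44 LD3_c26)) :=
  Lgr Lrot63 (Lpe (f511333 IH) (Lpr_gt (f510464 IH) (Lpq (f511460 IH) (Lpe (f450979 IH) (Lpr_ct (K24.f450983 IH) (Lpqs (K24.f456262 IH) (Lpr_gt (K24.f4491 IH) (Lpe (K4.f12851 IH) (Lpr_bt (f12847 IH) (Lpr_gt (f12853 IH) (Lpr_ct (f12861 IH) (Lpr_gt (f12862 IH) (Lpn (LP (LK LD1_c3 LD2_c44 LD3_c26)))))))))))))))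
theorem f459508 : Led Lsl_bt (LP (LK LD1_c0 LD2_c51 LD3_c22)) = (LP (LK LD1_c1 LD2_c49 LD3_c13)) :=
  Lre_b IH (LK LD1_c0 LD2_c51 LD3_c22) (LK LD1_c1 LD2_c49 LD3_c13) Lrfl Lrfl
theorem f457894 : Led Lsl_dt (LP (LK LD1_c1 LD2_c52 LD3_c57)) = (LP (LK LD1_c3 LD2_c52 LD3_c37)) :=
  Lre_d IH (LK LD1_c1 LD2_c52 LD3_c57) (LK LD1_c3 LD2_c52 LD3_c37) Lrfl Lrfl
theorem f95366 : Led Lsl_et (LP (LK LD1_c1 LD2_c38 LD3_c47)) = (LP (LK LD1_c3 LD2_c24 LD3_c42)) :=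
  Lre_e IH (LK LD1_c1 LD2_c38 LD3_c47) (LK LD1_c3 LD2_c24 LD3_c42) Lrfl Lrfl
theorem f479343 : Led Lsl_gt (LP (LK LD1_c1 LD2_c46 LD3_c53)) = (LP (LK LD1_c3 LD2_c24 LD3_c42)) :=
  Lgr Lrot131 (Lpe (K29.f456285 IH) (Lpr_dt (K28.f456281 IH) (Lpr_gf (K29.f479339 IH) (Lpe (f457894 IH) (Lpr_gf (K29.f457980 IH) (Lpe (K0.f15062 IH) (Lpr_dt (K0.f14639 IH) (Lpe (K2.f17137 IH) (Lpe (K2.f95357 IH) (Lpr_et (f95366 IH) (Lpn (LP (LK LD1_c3 LD2_c24 LD3_c42)))))))))))))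
theorem f116557 : Led Lsl_et (LP (LK LD1_c1 LD2_c41 LD3_c21)) = (LP (LK LD1_c3 LD2_c29 LD3_c17)) :=
  Lre_e IH (LK LD1_c1 LD2_c41 LD3_c21) (LK LD1_c3 LD2_c29 LD3_c17) Lrfl Lrfl
theorem f18232 : Led Lsl_et (LP (LK LD1_c3 LD2_c24 LD3_c42)) = (LP (LK LD1_c1 LD2_c38 LD3_c47)) :=
  Lre_e IH (LK LD1_c3 LD2_c24 LD3_c42) (LK LD1_c1 LD2_c38 LD3_c47) Lrfl Lrfl
theorem f116657 : Led Lsl_ct (LP (LK LD1_c3 LD2_c29 LD3_c17)) = (LP (LK LD1_c3 LD2_c24 LD3_c42)) :=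
  Lgr Lrot15 (Lpe (f116557 IH) (Lpr_cf (K4.f116564 IH) (Lpe (f18232 IH) (Lpn (LP (LK LD1_c3 LD2_c24 LD3_c42))))))
theorem f109109 : Led Lsl_et (LP (LK LD1_c1 LD2_c50 LD3_c14)) = (LP (LK LD1_c0 LD2_c51 LD3_c58)) :=
  Lre_e IH (LK LD1_c1 LD2_c50 LD3_c14) (LK LD1_c0 LD2_c51 LD3_c58) Lrfl Lrfl
theorem f116558 : Led Lsl_bt (LP (LK LD1_c3 LD2_c29 LD3_c17)) = (LP (LK LD1_c1 LD2_c50 LD3_c14)) :=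
  Lgr Lrot119 (Lpe (f116557 IH) (Lpr_bf (K4.f116541 IH) (Lpe (f109109 IH) (Lpn (LP (LK LD1_c1 LD2_c50 LD3_c14))))))
theorem f511466 : Led Lsl_gf (LP (LK LD1_c1 LD2_c49 LD3_c13)) = (LP (LK LD1_c1 LD2_c50 LD3_c14)) :=
  Lgr Lrot124 (Lpe (f459508 IH) (Lpr_ct (f12861 IH) (Lpr_gt (f12862 IH) (Lpe (f511465 IH) (Lpe (f511333 IH) (Lpr_gt (f510464 IH) (Lpq (f511460 IH) (Lpr_ct (K28.f5821 IH) (Lpr_gt (f479343 IH) (Lpe (f116657 IH) (Lpr_bt (f116558 IH) (Lpn (LP (LK LD1_c1 LD2_c50 LD3_c14))))))))))))))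
theorem f511467 : Led Lsl_gt (LP (LK LD1_c1 LD2_c50 LD3_c14)) = (LP (LK LD1_c1 LD2_c49 LD3_c13)) :=
  Leop (Lpr_gf (f511466 IH) (Lpn (LP (LK LD1_c1 LD2_c50 LD3_c14))))
theorem seed_162 : LEOK LG_g (LK LD1_c1 LD2_c50 LD3_c14) :=
  Leoe_g (LK LD1_c1 LD2_c50 LD3_c14) (f511467 IH)
theorem f511335 : Led Lsl_ff (LP (LK LD1_c1 LD2_c39 LD3_c38)) = v2264 :=
  Lgr Lrot3 (Lpr_ft (f511332 IH) (Lpn v2264))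
theorem f109455 : Led Lsl_et (LP (LK LD1_c1 LD2_c39 LD3_c38)) = (LP (LK LD1_c0 LD2_c46 LD3_c20)) :=
  Lre_e IH (LK LD1_c1 LD2_c39 LD3_c38) (LK LD1_c0 LD2_c46 LD3_c20) Lrfl Lrfl
theorem f12801 : Led Lsl_et (LP (LK LD1_c1 LD2_c38 LD3_c44)) = (LP (LK LD1_c3 LD2_c24 LD3_c37)) :=
  Lre_e IH (LK LD1_c1 LD2_c38 LD3_c44) (LK LD1_c3 LD2_c24 LD3_c37) Lrfl Lrfl
theorem f511337 : Led Lsl_et (LP (LK LD1_c3 LD2_c38 LD3_c48)) = v2264 :=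
  Lgr Lrot69 (Lpe (K29.f478591 IH) (Lpe (f12801 IH) (Lpe (K4.f98659 IH) (Lpe (f109455 IH) (Lpr_ff (f511335 IH) (Lpn v2264))))))
theorem f511472 : Led Lsl_ef (LP (LK LD1_c3 LD2_c41 LD3_c47)) = (LP (LK LD1_c3 LD2_c44 LD3_c26)) :=
  Lgr Lrot28 (Lpr_ct (K29.f483522 IH) (Lpr_et (f511337 IH) (Lpr_ct (f511465 IH) (Lpn (LP (LK LD1_c3 LD2_c44 LD3_c26))))))
theorem f511473 : Led Lsl_et (LP (LK LD1_c3 LD2_c44 LD3_c26)) = (LP (LK LD1_c3 LD2_c41 LD3_c47)) :=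
  Leop (Lpr_ef (f511472 IH) (Lpn (LP (LK LD1_c3 LD2_c44 LD3_c26))))
theorem seed_163 : LEOK LG_e (LK LD1_c3 LD2_c44 LD3_c26) :=
  Leoe_e (LK LD1_c3 LD2_c44 LD3_c26) (f511473 IH)
def v2282 : LQ := Led Lsl_dt (LP (LK LD1_c1 LD2_c40 LD3_c29))
theorem f511670 : Led Lsl_dt (LP (LK LD1_c1 LD2_c40 LD3_c29)) = v2282 :=
  Lrfl
theorem f511673 : Led Lsl_ef (LP (LK LD1_c3 LD2_c26 LD3_c19)) = v2282 :=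
  Lgr Lrot73 (Lpr_dt (K29.f18198 IH) (Lpe (K28.f98720 IH) (Lpr_dt (K28.f19151 IH) (Lpr_et (K29.f98750 IH) (Lpr_dt (f511670 IH) (Lpn v2282))))))
theorem f479872 : Led Lsl_df (LP (LK LD1_c3 LD2_c52 LD3_c43)) = (LP (LK LD1_c7 LD2_c3 LD3_c14)) :=
  Lgr Lrot84 (Lpr_cf (K32.f479862 IH) (Lpe (K32.f479860 IH) (Lpe (K32.f468319 IH) (Lpe (K28.f468318 IH) (Lpr_gf (K28.f466569 IH) (Lpe (K3.f91226 IH) (Lpr_gt (K29.f468324 IH) (Lpr_dt (K29.f457635 IH) (Lpr_gt (K29.f87989 IH) (Lpn (LP (LK LD1_c7 LD2_c3 LD3_c14))))))))))))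
theorem f511452 : Led Lsl_df (LP (LK LD1_c1 LD2_c46 LD3_c54)) = K32.v2281 :=
  Lgr Lrot155 (Lpe (K28.f473244 IH) (Lpr_ct (K28.f91511 IH) (Lpr_gt (K29.f91512 IH) (Lpr_ct (K32.f477202 IH) (Lpe (f479872 IH) (Lpr_cf (K32.f479862 IH) (Lpe (K32.f479874 IH) (Lpe (K29.f91986 IH) (Lpr_gf (K32.f511448 IH) (Lpn K32.v2281))))))))))
theorem f91509 : Led Lsl_et (LP (LK LD1_c1 LD2_c38 LD3_c50)) = (LP (LK LD1_c3 LD2_c24 LD3_c52)) :=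
  Lre_e IH (LK LD1_c1 LD2_c38 LD3_c50) (LK LD1_c3 LD2_c24 LD3_c52) Lrfl Lrfl
theorem f511672 : Led Lsl_df (LP (LK LD1_c1 LD2_c40 LD3_c29)) = v2282 :=
  Lgr Lrot38 (Lpr_dt (f511670 IH) (Lpn v2282))
def v2275 : LQ := Led Lsl_et (LP (LK LD1_c1 LD2_c39 LD3_c59))
theorem f511406 : Led Lsl_et (LP (LK LD1_c1 LD2_c39 LD3_c59)) = v2275 :=
  Lrfl
theorem f15108 : Led Lsl_dt (LP (LK LD1_c1 LD2_c39 LD3_c59)) = (LP (LK LD1_c3 LD2_c26 LD3_c38)) :=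
  Lre_d IH (LK LD1_c1 LD2_c39 LD3_c59) (LK LD1_c3 LD2_c26 LD3_c38) Lrfl Lrfl
def v679 : LQ := Led Lsl_gt (LP (LK LD1_c0 LD2_c48 LD3_c41))
theorem f456738 : Led Lsl_gt (LP (LK LD1_c0 LD2_c48 LD3_c41)) = v679 :=
  Lrfl
theorem f479126 : Led Lsl_gt v679 = K29.v671 :=
  Lgr Lrot46 (Lpe (f456738 IH) (Lpq (K29.f478691 IH) (Lpe (K29.f455919 IH) (Lpr_at (K29.f455899 IH) (Lpn K29.v671)))))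
theorem f15107 : Led Lsl_gt (LP (LK LD1_c0 LD2_c46 LD3_c31)) = (LP (LK LD1_c1 LD2_c39 LD3_c59)) :=
  Lre_g IH (LK LD1_c0 LD2_c46 LD3_c31) (LK LD1_c1 LD2_c39 LD3_c59) Lrfl Lrfl
def v596 : LQ := Led Lsl_gf (LP (LK LD1_c0 LD2_c46 LD3_c31))
theorem f455098 : Led Lsl_gf (LP (LK LD1_c0 LD2_c46 LD3_c31)) = v596 :=
  Lrfl
theorem f484130 : Led Lsl_cf (LP (LK LD1_c3 LD2_c26 LD3_c33)) = (LP (LK LD1_c1 LD2_c51 LD3_c9)) :=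
  Lgr Lrot39 (Lpr_et (K29.f91155 IH) (Lpr_ct (K29.f484121 IH) (Lpr_et (K29.f483573 IH) (Lpn (LP (LK LD1_c1 LD2_c51 LD3_c9))))))
theorem f483568 : Led Lsl_bf (LP (LK LD1_c1 LD2_c53 LD3_c37)) = (LP (LK LD1_c1 LD2_c51 LD3_c9)) :=
  Lgr Lrot24 (Lpr_bt (K29.f483566 IH) (Lpn (LP (LK LD1_c1 LD2_c51 LD3_c9))))
theorem f484139 : v596 = (LP (LK LD1_c0 LD2_c48 LD3_c41)) :=
  (Llr Lrot181 (Lpe (f455098 IH) (Lpr_ct (K5.f15092 IH) (Lpr_gt (K29.f15189 IH) (Lpr_cf (f484130 IH) (Lpe (f483568 IH) (Lpr_gt (K29.f122815 IH) (Lpe (K6.f122805 IH) (Lpe (K6.f123354 IH) (Lpe (K24.f437663 IH) (Lpr_cf (K29.f451187 IH) (Lpqs (K24.f456044 IH) (Lpr_bt (K29.f450771 IH) (Lpn (LP (LK LD1_c0 LD2_c48 LD3_c41)))))))))))))))).symm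
theorem f484140 : (LP (LK LD1_c0 LD2_c46 LD3_c31)) = v679 :=
  Lefun (Lecon (Lfl_gf (f455098 IH)) (f484139 IH)) (f456738 IH)
theorem f484142 : K29.v671 = (LP (LK LD1_c1 LD2_c39 LD3_c59)) :=
  Lefun (Lecon (f479126 IH) (f484140 IH).symm) (f15107 IH)
theorem f484151 : Led Lsl_ff (LP (LK LD1_c3 LD2_c34 LD3_c60)) = (LP (LK LD1_c3 LD2_c26 LD3_c38)) :=
  Lgr Lrot19 (Lpr_dt (K29.f478728 IH) (Lpr_ft (K29.f478866 IH) (Lpqs (f484142 IH) (Lpr_dt (f15108 IH) (Lpn (LP (LK LD1_c3 LD2_c26 LD3_c38)))))))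
theorem f456736 : Led Lsl_at (LP (LK LD1_c3 LD2_c34 LD3_c60)) = (LP (LK LD1_c1 LD2_c44 LD3_c17)) :=
  Lre_a IH (LK LD1_c3 LD2_c34 LD3_c60) (LK LD1_c1 LD2_c44 LD3_c17) Lrfl Lrfl
theorem f456227 : Led Lsl_gt (LP (LK LD1_c3 LD2_c35 LD3_c3)) = (LP (LK LD1_c1 LD2_c44 LD3_c17)) :=
  Lre_g IH (LK LD1_c3 LD2_c35 LD3_c3) (LK LD1_c1 LD2_c44 LD3_c17) Lrfl Lrfl
theorem f484159 : Led Lsl_gf (LP (LK LD1_c3 LD2_c35 LD3_c3)) = (LP (LK LD1_c3 LD2_c26 LD3_c38)) :=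
  Lgr Lrot47 (Lpr_gt (f456227 IH) (Lpe (f456736 IH) (Lpr_ff (f484151 IH) (Lpn (LP (LK LD1_c3 LD2_c26 LD3_c38))))))
theorem f19145 : Led Lsl_et (LP (LK LD1_c3 LD2_c24 LD3_c56)) = (LP (LK LD1_c1 LD2_c38 LD3_c51)) :=
  Lre_e IH (LK LD1_c3 LD2_c24 LD3_c56) (LK LD1_c1 LD2_c38 LD3_c51) Lrfl Lrfl
theorem f485642 : Led Lsl_df (LP (LK LD1_c3 LD2_c35 LD3_c3)) = (LP (LK LD1_c3 LD2_c24 LD3_c56)) :=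
  Lgr Lrot132 (Lpr_gf (f484159 IH) (Lpe (f15108 IH) (Lpe (f15107 IH) (Lpe (K5.f90860 IH) (Lpe (K2.f90849 IH) (Lpe (K2.f3960 IH) (Lpe (K1.f12844 IH) (Lpr_et (K28.f18196 IH) (Lpe (K2.f17017 IH) (Lpe (f19145 IH) (Lpn (LP (LK LD1_c3 LD2_c24 LD3_c56)))))))))))))
theorem f19150 : Led Lsl_et (LP (LK LD1_c1 LD2_c40 LD3_c24)) = (LP (LK LD1_c3 LD2_c27 LD3_c41)) :=
  Lre_e IH (LK LD1_c1 LD2_c40 LD3_c24) (LK LD1_c3 LD2_c27 LD3_c41) Lrfl Lrfl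
theorem f511409 : Led Lsl_gt (LP (LK LD1_c3 LD2_c27 LD3_c41)) = v2275 :=
  Lgr Lrot131 (Lpe (f19150 IH) (Lpr_dt (K29.f19149 IH) (Lpe (K2.f16743 IH) (Lpe (K28.f17016 IH) (Lpe (K2.f17017 IH) (Lpe (f19145 IH) (Lpe (f485642 IH) (Lpr_gf (f484159 IH) (Lpe (f15108 IH) (Lpr_et (f511406 IH) (Lpn v2275)))))))))))
def v2272 : LQ := Led Lsl_et (LP (LK LD1_c1 LD2_c39 LD3_c51))
theorem f511384 : Led Lsl_et (LP (LK LD1_c1 LD2_c39 LD3_c51)) = v2272 :=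
  Lrfl
theorem f492326 : Led Lsl_ft (LP (LK LD1_c1 LD2_c40 LD3_c24)) = (LP (LK LD1_c1 LD2_c40 LD3_c25)) :=
  Lgr Lrot48 (Lpr_ff (f492322 IH) (Lpn (LP (LK LD1_c1 LD2_c40 LD3_c25))))
theorem f90878 : Led Lsl_et (LP (LK LD1_c3 LD2_c27 LD3_c41)) = (LP (LK LD1_c1 LD2_c40 LD3_c24)) :=
  Lre_e IH (LK LD1_c3 LD2_c27 LD3_c41) (LK LD1_c1 LD2_c40 LD3_c24) Lrfl Lrfl
theorem f511388 : Led Lsl_ff (LP (LK LD1_c3 LD2_c27 LD3_c41)) = v2272 :=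
  Lgr Lrot72 (Lpr_et (f90878 IH) (Lpr_ft (f492326 IH) (Lpr_et (K2.f17105 IH) (Lpr_ft (K28.f455120 IH) (Lpqs (f492313 IH) (Lpr_et (f511384 IH) (Lpn v2272)))))))
theorem f511389 : Led Lsl_ft (LP (LK LD1_c3 LD2_c27 LD3_c41)) = v2272 :=
  Lgr Lrot48 (Lpr_ff (f511388 IH) (Lpn v2272))
theorem f17106 : Led Lsl_et (LP (LK LD1_c1 LD2_c40 LD3_c29)) = (LP (LK LD1_c0 LD2_c46 LD3_c40)) :=
  Lre_e IH (LK LD1_c1 LD2_c40 LD3_c29) (LK LD1_c0 LD2_c46 LD3_c40) Lrfl Lrfl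
theorem f511385 : Led Lsl_af (LP (LK LD1_c1 LD2_c40 LD3_c29)) = v2272 :=
  Lgr Lrot50 (Lpr_et (f17106 IH) (Lpr_at (f455126 IH) (Lpqs (f492313 IH) (Lpr_et (f511384 IH) (Lpn v2272)))))
theorem f511411 : Led Lsl_gf (LP (LK LD1_c1 LD2_c40 LD3_c29)) = v2275 :=
  Lgr Lrot76 (Lpr_af (f511385 IH) (Lpe (f511389 IH) (Lpr_gt (f511409 IH) (Lpn v2275))))
theorem f478892 : Led Lsl_gt (LP (LK LD1_c1 LD2_c46 LD3_c30)) = (LP (LK LD1_c1 LD2_c38 LD3_c46)) :=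
  Lgr Lrot46 (Lpr_gf (K29.f478890 IH) (Lpr_ft (K4.f94298 IH) (Lpr_at (K29.f98680 IH) (Lpn (LP (LK LD1_c1 LD2_c38 LD3_c46))))))
theorem f511412 : Led Lsl_df (LP (LK LD1_c1 LD2_c46 LD3_c30)) = v2275 :=
  Lgr Lrot153 (Lpr_gt (f478892 IH) (Lpr_dt (K29.f102702 IH) (Lpe (K4.f12795 IH) (Lpe (K29.f91161 IH) (Lpe (K29.f91144 IH) (Lpe (K29.f91145 IH) (Lpr_gf (K29.f468943 IH) (Lpe (K29.f468945 IH) (Lpr_gt (f511409 IH) (Lpn v2275))))))))))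
theorem f511413 : Led Lsl_dt (LP (LK LD1_c1 LD2_c46 LD3_c30)) = v2275 :=
  Lgr Lrot42 (Lpr_df (f511412 IH) (Lpn v2275))
theorem f478905 : Led Lsl_et (LP (LK LD1_c1 LD2_c46 LD3_c30)) = (LP (LK LD1_c3 LD2_c39 LD3_c6)) :=
  Lre_e IH (LK LD1_c1 LD2_c46 LD3_c30) (LK LD1_c3 LD2_c39 LD3_c6) Lrfl Lrfl
theorem f511680 : Led Lsl_gt (LP (LK LD1_c3 LD2_c24 LD3_c52)) = (LP (LK LD1_c3 LD2_c39 LD3_c6)) :=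
  Lgr Lrot131 (Lpe (f91509 IH) (Lpr_dt (K28.f91495 IH) (Lpr_gf (K28.f473244 IH) (Lpr_df (f511452 IH) (Lpe (f511449 IH) (Lpr_ef (f511673 IH) (Lpe (f511672 IH) (Lpr_gf (f511411 IH) (Lpe (f511413 IH) (Lpr_et (f478905 IH) (Lpn (LP (LK LD1_c3 LD2_c39 LD3_c6)))))))))))))
theorem f511681 : Led Lsl_gt (LP (LK LD1_c3 LD2_c24 LD3_c52)) = (LP (LK LD1_c3 LD2_c39 LD3_c6)) :=
  Leop (Lpe (f511680 IH) (Lpn (LP (LK LD1_c3 LD2_c24 LD3_c52))))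
theorem seed_164 : LEOK LG_g (LK LD1_c3 LD2_c24 LD3_c52) :=
  Leoe_g (LK LD1_c3 LD2_c24 LD3_c52) (f511681 IH)
def v2286 : LQ := Led Lsl_gf (LP (LK LD1_c1 LD2_c40 LD3_c39))
theorem f511700 : Led Lsl_gf (LP (LK LD1_c1 LD2_c40 LD3_c39)) = v2286 :=
  Lrfl
theorem f446449 : Led Lsl_et (LP (LK LD1_c0 LD2_c46 LD3_c48)) = (LP (LK LD1_c1 LD2_c40 LD3_c43)) :=
  Lre_e IH (LK LD1_c0 LD2_c46 LD3_c48) (LK LD1_c1 LD2_c40 LD3_c43) Lrfl Lrfl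
def v745 : LQ := Led Lsl_ft (LP (LK LD1_c0 LD2_c50 LD3_c2))
theorem f457033 : Led Lsl_ft (LP (LK LD1_c0 LD2_c50 LD3_c2)) = v745 :=
  Lrfl
theorem f457036 : Led Lsl_ff (LP (LK LD1_c0 LD2_c50 LD3_c2)) = v745 :=
  Lgr Lrot3 (Lpr_ft (f457033 IH) (Lpn v745))
theorem f5577 : Led Lsl_et (LP (LK LD1_c0 LD2_c50 LD3_c2)) = (LP (LK LD1_c0 LD2_c22 LD3_c33)) :=
  Lre_e IH (LK LD1_c0 LD2_c50 LD3_c2) (LK LD1_c0 LD2_c22 LD3_c33) Lrfl Lrfl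
theorem f457040 : Led Lsl_et (LP (LK LD1_c1 LD2_c46 LD3_c10)) = v745 :=
  Lgr Lrot69 (Lpe (K24.f4096 IH) (Lpe (K2.f4381 IH) (Lpr_ff (K2.f4967 IH) (Lpe (f5577 IH) (Lpr_ff (f457036 IH) (Lpn v745))))))
theorem f5574 : Led Lsl_at (LP (LK LD1_c0 LD2_c50 LD3_c2)) = (LP (LK LD1_c0 LD2_c22 LD3_c36)) :=
  Lre_a IH (LK LD1_c0 LD2_c50 LD3_c2) (LK LD1_c0 LD2_c22 LD3_c36) Lrfl Lrfl
theorem f5349 : Led Lsl_gt (LP (LK LD1_c0 LD2_c50 LD3_c8)) = (LP (LK LD1_c0 LD2_c22 LD3_c36)) :=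
  Lre_g IH (LK LD1_c0 LD2_c50 LD3_c8) (LK LD1_c0 LD2_c22 LD3_c36) Lrfl Lrfl
theorem f457041 : Led Lsl_gf (LP (LK LD1_c0 LD2_c50 LD3_c8)) = v745 :=
  Lgr Lrot47 (Lpr_gt (f5349 IH) (Lpe (f5574 IH) (Lpr_ff (f457036 IH) (Lpn v745))))
theorem f92525 : Led Lsl_et (LP (LK LD1_c1 LD2_c46 LD3_c51)) = (LP (LK LD1_c0 LD2_c50 LD3_c8)) :=
  Lre_e IH (LK LD1_c1 LD2_c46 LD3_c51) (LK LD1_c0 LD2_c50 LD3_c8) Lrfl Lrfl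
theorem f511702 : Led Lsl_dt (LP (LK LD1_c1 LD2_c46 LD3_c51)) = v2286 :=
  Lgr Lrot136 (Lpr_et (f92525 IH) (Lpr_gf (f457041 IH) (Lpe (f457040 IH) (Lpe (K3.f4045 IH) (Lpe (K3.f4273 IH) (Lpe (K29.f4409 IH) (Lpr_gf (K29.f482675 IH) (Lpe (f446449 IH) (Lpe (K29.f446430 IH) (Lpr_gf (f511700 IH) (Lpn v2286)))))))))))
theorem f18580 : Led Lsl_dt (LP (LK LD1_c3 LD2_c28 LD3_c11)) = (LP (LK LD1_c1 LD2_c40 LD3_c42)) :=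
  Lre_d IH (LK LD1_c3 LD2_c28 LD3_c11) (LK LD1_c1 LD2_c40 LD3_c42) Lrfl Lrfl
theorem f18581 : Led Lsl_gt (LP (LK LD1_c6 LD2_c58 LD3_c34)) = (LP (LK LD1_c3 LD2_c28 LD3_c11)) :=
  Lre_g IH (LK LD1_c6 LD2_c58 LD3_c34) (LK LD1_c3 LD2_c28 LD3_c11) Lrfl Lrfl
theorem f147765 : Led Lsl_et (LP (LK LD1_c0 LD2_c23 LD3_c1)) = (LP (LK LD1_c0 LD2_c51 LD3_c0)) :=
  Lre_e IH (LK LD1_c0 LD2_c23 LD3_c1) (LK LD1_c0 LD2_c51 LD3_c0) Lrfl Lrfl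
def v796 : LQ := Led Lsl_gf (LP (LK LD1_c0 LD2_c51 LD3_c0))
theorem f459426 : Led Lsl_gf (LP (LK LD1_c0 LD2_c51 LD3_c0)) = v796 :=
  Lrfl
theorem f479648 : Led Lsl_ef v796 = (LP (LK LD1_c3 LD2_c31 LD3_c45)) :=
  Lgr Lrot114 (Lpe (f459426 IH) (Lpe (f147765 IH) (Lpr_dt (K7.f147741 IH) (Lpe (K28.f147774 IH) (Lpe (K4.f23678 IH) (Lpr_et (K28.f147785 IH) (Lpq (K28.f462396 IH) (Lpe (K24.f451252 IH) (Lpr_dt (K24.f11382 IH) (Lpr_gt (K24.f451253 IH) (Lpr_df (K29.f479638 IH) (Lpn (LP (LK LD1_c3 LD2_c31 LD3_c45))))))))))))))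
theorem f476489 : Led Lsl_bf (LP (LK LD1_c3 LD2_c53 LD3_c8)) = (LP (LK LD1_c1 LD2_c54 LD3_c55)) :=
  Lgr Lrot34 (Lpr_gf (K30.f476487 IH) (Lpr_bf (K29.f473930 IH) (Lpe (K29.f473761 IH) (Lpr_gf (K29.f473763 IH) (Lpe (K28.f455985 IH) (Lpr_gf (K24.f458189 IH) (Lpe (K24.f98713 IH) (Lpr_ct (K24.f98817 IH) (Lpe (K24.f458174 IH) (Lpe (K24.f451326 IH) (Lpn (LP (LK LD1_c1 LD2_c54 LD3_c55)))))))))))))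
theorem f479640 : Led Lsl_bt (LP (LK LD1_c3 LD2_c46 LD3_c27)) = (LP (LK LD1_c3 LD2_c31 LD3_c45)) :=
  Lgr Lrot95 (Lpe (K30.f476493 IH) (Lpr_bf (f476489 IH) (Lpr_df (K29.f479638 IH) (Lpn (LP (LK LD1_c3 LD2_c31 LD3_c45))))))
theorem f476495 : Led Lsl_et (LP (LK LD1_c1 LD2_c50 LD3_c19)) = (LP (LK LD1_c3 LD2_c46 LD3_c27)) :=
  Lre_e IH (LK LD1_c1 LD2_c50 LD3_c19) (LK LD1_c3 LD2_c46 LD3_c27) Lrfl Lrfl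
theorem f479649 : Led Lsl_bt v796 = (LP (LK LD1_c1 LD2_c50 LD3_c19)) :=
  Lgr Lrot119 (Lpr_ef (f479648 IH) (Lpe (f479640 IH) (Lpe (f476495 IH) (Lpn (LP (LK LD1_c1 LD2_c50 LD3_c19))))))
theorem f479651 : Led Lsl_bf v796 = (LP (LK LD1_c1 LD2_c50 LD3_c19)) :=
  Lgr Lrot24 (Lpr_bt (f479649 IH) (Lpn (LP (LK LD1_c1 LD2_c50 LD3_c19))))
theorem f436824 : Led Lsl_at (LP (LK LD1_c0 LD2_c23 LD3_c10)) = (LP (LK LD1_c0 LD2_c51 LD3_c0)) :=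
  Lre_a IH (LK LD1_c0 LD2_c23 LD3_c10) (LK LD1_c0 LD2_c51 LD3_c0) Lrfl Lrfl
def v198 : LQ := Led Lsl_ft (LP (LK LD1_c0 LD2_c23 LD3_c10))
theorem f451032 : Led Lsl_ft (LP (LK LD1_c0 LD2_c23 LD3_c10)) = v198 :=
  Lrfl
theorem f451035 : Led Lsl_ff (LP (LK LD1_c0 LD2_c23 LD3_c10)) = v198 :=
  Lgr Lrot3 (Lpr_ft (f451032 IH) (Lpn v198))
theorem f459427 : Led Lsl_gt v198 = v796 :=
  Lgr Lrot5 (Lpe (f451035 IH) (Lpr_at (f436824 IH) (Lpr_gf (f459426 IH) (Lpn v796))))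
theorem f451036 : Led Lsl_bt K11.v97 = v198 :=
  Lgr Lrot35 (Lpe (K11.f447682 IH) (Lpe (K4.f12856 IH) (Lpr_ff (f451035 IH) (Lpn v198))))
theorem f447683 : Led Lsl_cf (LP (LK LD1_c0 LD2_c22 LD3_c55)) = K11.v97 :=
  Lgr Lrot108 (Lpr_ft (K11.f4488 IH) (Lpe (K4.f12758 IH) (Lpr_ft (K11.f447682 IH) (Lpn K11.v97))))
theorem f5575 : Led Lsl_bt (LP (LK LD1_c0 LD2_c22 LD3_c36)) = (LP (LK LD1_c0 LD2_c10 LD3_c12)) :=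
  Lre_b IH (LK LD1_c0 LD2_c22 LD3_c36) (LK LD1_c0 LD2_c10 LD3_c12) Lrfl Lrfl
theorem f5386 : Led Lsl_gt (LP (LK LD1_c1 LD2_c46 LD3_c44)) = (LP (LK LD1_c0 LD2_c50 LD3_c6)) :=
  Lre_g IH (LK LD1_c1 LD2_c46 LD3_c44) (LK LD1_c0 LD2_c50 LD3_c6) Lrfl Lrfl
theorem f479654 : Led Lsl_cf (LP (LK LD1_c1 LD2_c46 LD3_c44)) = (LP (LK LD1_c1 LD2_c50 LD3_c19)) :=
  Lgr Lrot160 (Lpr_gt (f5386 IH) (Lpe (K2.f5325 IH) (Lpr_bt (f5575 IH) (Lpr_gt (K24.f447641 IH) (Lpqs (K24.f456259 IH) (Lpe (K24.f451006 IH) (Lpe (K11.f436798 IH) (Lpr_cf (f447683 IH) (Lpr_bt (f451036 IH) (Lpr_gt (f459427 IH) (Lpr_bf (f479651 IH) (Lpn (LP (LK LD1_c1 LD2_c50 LD3_c19))))))))))))))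
theorem f479660 : Led Lsl_et (LP (LK LD1_c1 LD2_c46 LD3_c44)) = (LP (LK LD1_c3 LD2_c39 LD3_c40)) :=
  Lre_e IH (LK LD1_c1 LD2_c46 LD3_c44) (LK LD1_c3 LD2_c39 LD3_c40) Lrfl Lrfl
theorem f479661 : Led Lsl_ct (LP (LK LD1_c3 LD2_c39 LD3_c40)) = (LP (LK LD1_c3 LD2_c46 LD3_c27)) :=
  Lgr Lrot15 (Lpe (f479660 IH) (Lpr_cf (f479654 IH) (Lpe (K30.f5771 IH) (Lpn (LP (LK LD1_c3 LD2_c46 LD3_c27))))))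
theorem f455302 : Led Lsl_dt (LP (LK LD1_c3 LD2_c27 LD3_c60)) = (LP (LK LD1_c6 LD2_c58 LD3_c11)) :=
  Lre_d IH (LK LD1_c3 LD2_c27 LD3_c60) (LK LD1_c6 LD2_c58 LD3_c11) Lrfl Lrfl
theorem f455280 : Led Lsl_at (LP (LK LD1_c6 LD2_c58 LD3_c29)) = (LP (LK LD1_c3 LD2_c28 LD3_c11)) :=
  Lre_a IH (LK LD1_c6 LD2_c58 LD3_c29) (LK LD1_c3 LD2_c28 LD3_c11) Lrfl Lrfl
theorem f455281 : Led Lsl_ft (LP (LK LD1_c6 LD2_c58 LD3_c11)) = (LP (LK LD1_c6 LD2_c58 LD3_c29)) :=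
  Lgr Lrot101 (Lpe (K29.f455279 IH) (Lpr_ff (K24.f455264 IH) (Lpe (f455280 IH) (Lpn (LP (LK LD1_c6 LD2_c58 LD3_c29))))))
theorem f455411 : Led Lsl_gt (LP (LK LD1_c6 LD2_c58 LD3_c11)) = (LP (LK LD1_c6 LD2_c58 LD3_c34)) :=
  Lgr Lrot5 (Lpr_ft (f455281 IH) (Lpr_at (f455280 IH) (Lpe (f18581 IH) (Lpn (LP (LK LD1_c6 LD2_c58 LD3_c34))))))
theorem f479670 : Led Lsl_df (LP (LK LD1_c3 LD2_c39 LD3_c40)) = (LP (LK LD1_c6 LD2_c58 LD3_c34)) :=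
  Lgr Lrot174 (Lpr_ct (f479661 IH) (Lpe (K30.f476493 IH) (Lpr_gf (K30.f476487 IH) (Lpe (K29.f5751 IH) (Lpe (K28.f5750 IH) (Lpe (K28.f17475 IH) (Lpr_gt (K29.f464196 IH) (Lpr_dt (f455302 IH) (Lpr_gt (f455411 IH) (Lpn (LP (LK LD1_c6 LD2_c58 LD3_c34))))))))))))
theorem f479678 : Led Lsl_dt (LP (LK LD1_c3 LD2_c39 LD3_c40)) = (LP (LK LD1_c6 LD2_c58 LD3_c34)) :=
  Lgr Lrot42 (Lpr_df (f479670 IH) (Lpn (LP (LK LD1_c6 LD2_c58 LD3_c34))))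
theorem f479667 : Led Lsl_cf (LP (LK LD1_c3 LD2_c39 LD3_c40)) = (LP (LK LD1_c3 LD2_c46 LD3_c27)) :=
  Lgr Lrot11 (Lpr_ct (f479661 IH) (Lpn (LP (LK LD1_c3 LD2_c46 LD3_c27))))
theorem f459289 : Led Lsl_bt (LP (LK LD1_c3 LD2_c31 LD3_c24)) = (LP (LK LD1_c3 LD2_c31 LD3_c24)) :=
  Lgr Lrot95 (Lpe (K24.f458906 IH) (Lpr_bf (K28.f459285 IH) (Lpe (K28.f458932 IH) (Lpn (LP (LK LD1_c3 LD2_c31 LD3_c24))))))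
theorem f479752 : Led Lsl_gf (LP (LK LD1_c3 LD2_c39 LD3_c40)) = (LP (LK LD1_c7 LD2_c5 LD3_c54)) :=
  Lgr Lrot129 (Lpr_cf (f479667 IH) (Lpr_bt (f479640 IH) (Lpr_gt (K29.f459207 IH) (Lpe (f459289 IH) (Lpr_ct (K24.f458907 IH) (Lpe (K28.f459223 IH) (Lpe (K28.f464589 IH) (Lpr_bt (K28.f464595 IH) (Lpr_gt (K28.f466613 IH) (Lpr_ct (K28.f128163 IH) (Lpn (LP (LK LD1_c7 LD2_c5 LD3_c54)))))))))))))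
theorem f511707 : Led Lsl_gf (LP (LK LD1_c1 LD2_c46 LD3_c51)) = (LP (LK LD1_c3 LD2_c32 LD3_c27)) :=
  Lgr Lrot144 (Lpr_dt (f511702 IH) (Lpe (f511700 IH) (Lpr_dt (K24.f446437 IH) (Lpe (K29.f18579 IH) (Lpe (f18580 IH) (Lpe (f18581 IH) (Lpe (f479678 IH) (Lpr_gf (f479752 IH) (Lpe (K28.f128163 IH) (Lpn (LP (LK LD1_c3 LD2_c32 LD3_c27))))))))))))
theorem f511708 : Led Lsl_gt (LP (LK LD1_c3 LD2_c32 LD3_c27)) = (LP (LK LD1_c1 LD2_c46 LD3_c51)) :=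
  Leop (Lpr_gf (f511707 IH) (Lpn (LP (LK LD1_c3 LD2_c32 LD3_c27))))
theorem seed_165 : LEOK LG_g (LK LD1_c3 LD2_c32 LD3_c27) :=
  Leoe_g (LK LD1_c3 LD2_c32 LD3_c27) (f511708 IH)
theorem f511706 : Led Lsl_df (LP (LK LD1_c1 LD2_c46 LD3_c51)) = v2286 :=
  Lgr Lrot38 (Lpr_dt (f511702 IH) (Lpn v2286))
theorem f511711 : Led Lsl_ct (LP (LK LD1_c1 LD2_c46 LD3_c51)) = (LP (LK LD1_c3 LD2_c39 LD3_c51)) :=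
  Lre_c IH (LK LD1_c1 LD2_c46 LD3_c51) (LK LD1_c3 LD2_c39 LD3_c51) Lrfl Lrfl
theorem f511705 : Led Lsl_dt (LP (LK LD1_c7 LD2_c19 LD3_c56)) = (LP (LK LD1_c3 LD2_c39 LD3_c51)) :=
  Lre_d IH (LK LD1_c7 LD2_c19 LD3_c56) (LK LD1_c3 LD2_c39 LD3_c51) Lrfl Lrfl
theorem f511701 : Led Lsl_gt (LP (LK LD1_c3 LD2_c27 LD3_c61)) = v2286 :=
  Lgr Lrot5 (Lpr_ft (K29.f455366 IH) (Lpr_at (K24.f446439 IH) (Lpr_gf (f511700 IH) (Lpn v2286))))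
theorem f94441 : Led Lsl_dt (LP (LK LD1_c3 LD2_c36 LD3_c39)) = (LP (LK LD1_c7 LD2_c13 LD3_c36)) :=
  Lre_d IH (LK LD1_c3 LD2_c36 LD3_c39) (LK LD1_c7 LD2_c13 LD3_c36) Lrfl Lrfl
theorem f511850 : Led Lsl_gf (LP (LK LD1_c7 LD2_c19 LD3_c56)) = (LP (LK LD1_c7 LD2_c13 LD3_c36)) :=
  Lgr Lrot143 (Lpr_dt (f511705 IH) (Lpe (f511711 IH) (Lpr_df (f511706 IH) (Lpe (f511701 IH) (Lpe (K29.f446464 IH) (Lpr_gf (K28.f455490 IH) (Lpq (K28.f461930 IH) (Lpe (K5.f106218 IH) (Lpr_gt (K28.f94439 IH) (Lpr_dt (f94441 IH) (Lpn (LP (LK LD1_c7 LD2_c13 LD3_c36)))))))))))))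
theorem f511851 : Led Lsl_gt (LP (LK LD1_c7 LD2_c13 LD3_c36)) = (LP (LK LD1_c7 LD2_c19 LD3_c56)) :=
  Leop (Lpr_gf (f511850 IH) (Lpn (LP (LK LD1_c7 LD2_c13 LD3_c36))))
theorem seed_166 : LEOK LG_g (LK LD1_c7 LD2_c13 LD3_c36) :=
  Leoe_g (LK LD1_c7 LD2_c13 LD3_c36) (f511851 IH)
def v2307 : LQ := Led Lsl_ft (LP (LK LD1_c1 LD2_c41 LD3_c55))
theorem f511996 : Led Lsl_ft (LP (LK LD1_c1 LD2_c41 LD3_c55)) = v2307 :=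
  Lrfl
theorem f512000 : Led Lsl_ff (LP (LK LD1_c1 LD2_c41 LD3_c55)) = v2307 :=
  Lgr Lrot3 (Lpr_ft (f511996 IH) (Lpn v2307))
def v621 : LQ := Led Lsl_ft (LP (LK LD1_c0 LD2_c47 LD3_c28))
theorem f455547 : Led Lsl_ft (LP (LK LD1_c0 LD2_c47 LD3_c28)) = v621 :=
  Lrfl
theorem f512002 : Led Lsl_bt v621 = v2307 :=
  Lgr Lrot35 (Lpe (f455547 IH) (Lpe (K24.f18824 IH) (Lpr_ff (f512000 IH) (Lpn v2307))))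
theorem f455550 : Led Lsl_ff (LP (LK LD1_c0 LD2_c47 LD3_c28)) = v621 :=
  Lgr Lrot3 (Lpr_ft (f455547 IH) (Lpn v621))
theorem f455546 : Led Lsl_ff (LP (LK LD1_c0 LD2_c47 LD3_c29)) = K24.v620 :=
  Lgr Lrot3 (Lpr_ft (K24.f455543 IH) (Lpn K24.v620))
theorem f455552 : Led Lsl_at (LP (LK LD1_c0 LD2_c47 LD3_c29)) = v621 :=
  Lgr Lrot66 (Lpr_ff (f455546 IH) (Lpe (K24.f455535 IH) (Lpr_ff (f455550 IH) (Lpn v621))))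
theorem f455554 : Led Lsl_at (LP (LK LD1_c3 LD2_c30 LD3_c51)) = (LP (LK LD1_c1 LD2_c41 LD3_c59)) :=
  Lre_a IH (LK LD1_c3 LD2_c30 LD3_c51) (LK LD1_c1 LD2_c41 LD3_c59) Lrfl Lrfl
theorem f511997 : Led Lsl_af (LP (LK LD1_c6 LD2_c58 LD3_c54)) = v2307 :=
  Lgr Lrot45 (Lpr_ft (K29.f468326 IH) (Lpr_at (K29.f455537 IH) (Lpr_ft (f511996 IH) (Lpn v2307))))
theorem f512004 : Led Lsl_bf (LP (LK LD1_c3 LD2_c30 LD3_c51)) = (LP (LK LD1_c6 LD2_c58 LD3_c54)) :=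
  Lgr Lrot81 (Lpr_at (f455554 IH) (Lpr_bt (K28.f18828 IH) (Lpr_at (f455552 IH) (Lpr_bt (f512002 IH) (Lpe (f511997 IH) (Lpn (LP (LK LD1_c6 LD2_c58 LD3_c54))))))))
theorem f512005 : Led Lsl_bt (LP (LK LD1_c6 LD2_c58 LD3_c54)) = (LP (LK LD1_c3 LD2_c30 LD3_c51)) :=
  Leop (Lpr_bf (f512004 IH) (Lpn (LP (LK LD1_c6 LD2_c58 LD3_c54))))
theorem seed_167 : LEOK LG_b (LK LD1_c6 LD2_c58 LD3_c54) :=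
  Leoe_b (LK LD1_c6 LD2_c58 LD3_c54) (f512005 IH)
def v2308 : LQ := Led Lsl_gt (LP (LK LD1_c1 LD2_c42 LD3_c0))
theorem f514531 : Led Lsl_gt (LP (LK LD1_c1 LD2_c42 LD3_c0)) = v2308 :=
  Lrfl
theorem f63055 : Led Lsl_et (LP (LK LD1_c0 LD2_c47 LD3_c29)) = (LP (LK LD1_c1 LD2_c42 LD3_c0)) :=
  Lre_e IH (LK LD1_c0 LD2_c47 LD3_c29) (LK LD1_c1 LD2_c42 LD3_c0) Lrfl Lrfl
theorem f514532 : Led Lsl_et (LP (LK LD1_c3 LD2_c31 LD3_c36)) = v2308 :=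
  Lgr Lrot122 (Lpr_dt (K29.f474016 IH) (Lpr_gt (K29.f62990 IH) (Lpe (K29.f62988 IH) (Lpr_et (K28.f62786 IH) (Lpe (K29.f477236 IH) (Lpr_dt (K29.f443499 IH) (Lpr_gt (K29.f458488 IH) (Lpe (K24.f18817 IH) (Lpr_et (f63055 IH) (Lpr_gt (f514531 IH) (Lpn v2308)))))))))))
def v893 : LQ := Led Lsl_dt (LP (LK LD1_c0 LD2_c53 LD3_c46))
theorem f490287 : Led Lsl_dt (LP (LK LD1_c0 LD2_c53 LD3_c46)) = v893 :=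
  Lrfl
theorem f490290 : Led Lsl_df (LP (LK LD1_c0 LD2_c53 LD3_c46)) = v893 :=
  Lgr Lrot38 (Lpr_dt (f490287 IH) (Lpn v893))
def v1193 : LQ := Led Lsl_bt K24.v307
theorem f493880 : Led Lsl_bt K24.v307 = v1193 :=
  Lrfl
theorem f490289 : Led Lsl_bf K24.v223 = v893 :=
  Lgr Lrot93 (Lpe (K24.f451189 IH) (Lpr_bt (K29.f451182 IH) (Lpr_dt (f490287 IH) (Lpn v893))))
theorem f493882 : Led Lsl_ef v893 = v1193 :=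
  Lgr Lrot29 (Lpe (f490289 IH) (Lpr_et (K24.f452097 IH) (Lpr_bt (f493880 IH) (Lpn v1193))))
theorem f514534 : Led Lsl_df v1193 = v2308 :=
  Lgr Lrot70 (Lpe (f493882 IH) (Lpe (f490290 IH) (Lpr_et (K29.f473977 IH) (Lpe (K29.f473968 IH) (Lpr_et (f514532 IH) (Lpn v2308))))))
theorem f87656 : Led Lsl_et (LP (LK LD1_c0 LD2_c52 LD3_c16)) = (LP (LK LD1_c0 LD2_c23 LD3_c40)) :=
  Lre_e IH (LK LD1_c0 LD2_c52 LD3_c16) (LK LD1_c0 LD2_c23 LD3_c40) Lrfl Lrfl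
theorem f459716 : Led Lsl_et (LP (LK LD1_c0 LD2_c52 LD3_c35)) = K29.v848 :=
  Lgr Lrot69 (Lpe (K29.f87657 IH) (Lpe (K5.f62687 IH) (Lpe (K2.f87620 IH) (Lpe (f87656 IH) (Lpr_ff (K29.f459711 IH) (Lpn K29.v848))))))
def v856 : LQ := Led Lsl_dt (LP (LK LD1_c0 LD2_c52 LD3_c35))
theorem f459800 : Led Lsl_dt (LP (LK LD1_c0 LD2_c52 LD3_c35)) = v856 :=
  Lrfl
theorem f514540 : Led Lsl_gt v1193 = v856 :=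
  Lgr Lrot139 (Lpr_df (f514534 IH) (Lpe (f514531 IH) (Lpe (f63055 IH) (Lpr_dt (K24.f18817 IH) (Lpe (K29.f458488 IH) (Lpe (K29.f443499 IH) (Lpr_et (K29.f443497 IH) (Lpr_gf (K29.f459717 IH) (Lpe (f459716 IH) (Lpr_dt (f459800 IH) (Lpn v856)))))))))))
theorem f62737 : Led Lsl_gt (LP (LK LD1_c3 LD2_c30 LD3_c57)) = (LP (LK LD1_c7 LD2_c3 LD3_c53)) :=
  Lre_g IH (LK LD1_c3 LD2_c30 LD3_c57) (LK LD1_c7 LD2_c3 LD3_c53) Lrfl Lrfl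
theorem f477488 : Led Lsl_gt (LP (LK LD1_c13 LD2_c16 LD3_c57)) = (LP (LK LD1_c13 LD2_c22 LD3_c57)) :=
  Lgr Lrot49 (Lpe (K29.f468493 IH) (Lpr_gf (K29.f468491 IH) (Lpe (K29.f460169 IH) (Lpr_gt (K24.f63037 IH) (Lpr_dt (K29.f63061 IH) (Lpr_gt (K29.f477458 IH) (Lpr_dt (K29.f460598 IH) (Lpr_cf (K29.f474229 IH) (Lpr_df (K29.f477303 IH) (Lpn (LP (LK LD1_c13 LD2_c22 LD3_c57))))))))))))
theorem f461394 : Led Lsl_ct (LP (LK LD1_c13 LD2_c22 LD3_c57)) = (LP (LK LD1_c7 LD2_c3 LD3_c24)) :=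
  Lre_c IH (LK LD1_c13 LD2_c22 LD3_c57) (LK LD1_c7 LD2_c3 LD3_c24) Lrfl Lrfl
theorem f477720 : Led Lsl_gf (LP (LK LD1_c3 LD2_c30 LD3_c56)) = (LP (LK LD1_c7 LD2_c3 LD3_c24)) :=
  Lgr Lrot104 (Lpr_ct (K29.f460537 IH) (Lpe (K29.f461307 IH) (Lpe (K29.f461144 IH) (Lpr_gf (K5.f87974 IH) (Lpe (K24.f87978 IH) (Lpr_gf (K29.f463737 IH) (Lpr_df (K29.f468524 IH) (Lpr_gt (f477488 IH) (Lpr_ct (f461394 IH) (Lpn (LP (LK LD1_c7 LD2_c3 LD3_c24))))))))))))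
theorem f468544 : Led Lsl_et (LP (LK LD1_c1 LD2_c41 LD3_c60)) = (LP (LK LD1_c3 LD2_c30 LD3_c57)) :=
  Lre_e IH (LK LD1_c1 LD2_c41 LD3_c60) (LK LD1_c3 LD2_c30 LD3_c57) Lrfl Lrfl
theorem f459939 : Led Lsl_et (LP (LK LD1_c0 LD2_c53 LD3_c6)) = (LP (LK LD1_c1 LD2_c53 LD3_c1)) :=
  Lre_e IH (LK LD1_c0 LD2_c53 LD3_c6) (LK LD1_c1 LD2_c53 LD3_c1) Lrfl Lrfl
theorem f464025 : Led Lsl_dt (LP (LK LD1_c7 LD2_c47 LD3_c32)) = (LP (LK LD1_c3 LD2_c52 LD3_c52)) :=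
  Lre_d IH (LK LD1_c7 LD2_c47 LD3_c32) (LK LD1_c3 LD2_c52 LD3_c52) Lrfl Lrfl
theorem f477722 : Led Lsl_ef (LP (LK LD1_c7 LD2_c3 LD3_c53)) = (LP (LK LD1_c7 LD2_c47 LD3_c32)) :=
  Lgr Lrot17 (Lpe (f62737 IH) (Lpe (f468544 IH) (Lpr_dt (K29.f64661 IH) (Lpr_gf (f477720 IH) (Lpe (K29.f461581 IH) (Lpe (K30.f477306 IH) (Lpe (f459939 IH) (Lpr_dt (K24.f459897 IH) (Lpe (K29.f460411 IH) (Lpe (f464025 IH) (Lpn (LP (LK LD1_c7 LD2_c47 LD3_c32)))))))))))))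
theorem f477727 : Led Lsl_et (LP (LK LD1_c7 LD2_c3 LD3_c53)) = (LP (LK LD1_c7 LD2_c47 LD3_c32)) :=
  Lgr Lrot87 (Lpr_ef (f477722 IH) (Lpn (LP (LK LD1_c7 LD2_c47 LD3_c32))))
theorem f464012 : Led Lsl_dt (LP (LK LD1_c3 LD2_c52 LD3_c52)) = (LP (LK LD1_c7 LD2_c47 LD3_c32)) :=
  Lre_d IH (LK LD1_c3 LD2_c52 LD3_c52) (LK LD1_c7 LD2_c47 LD3_c32) Lrfl Lrfl
theorem f468701 : Led Lsl_df (LP (LK LD1_c7 LD2_c37 LD3_c3)) = (LP (LK LD1_c13 LD2_c17 LD3_c11)) :=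
  Lgr Lrot38 (Lpr_dt (K29.f468686 IH) (Lpn (LP (LK LD1_c13 LD2_c17 LD3_c11))))
theorem f477319 : Led Lsl_gt (LP (LK LD1_c7 LD2_c47 LD3_c32)) = (LP (LK LD1_c7 LD2_c0 LD3_c14)) :=
  Lgr Lrot49 (Lpe (f464012 IH) (Lpe (K29.f464005 IH) (Lpe (K29.f451122 IH) (Lpr_gt (K29.f461165 IH) (Lpr_dt (K29.f461180 IH) (Lpr_gt (K29.f477315 IH) (Lpe (f468701 IH) (Lpr_cf (K29.f468625 IH) (Lpe (K24.f129707 IH) (Lpn (LP (LK LD1_c7 LD2_c0 LD3_c14))))))))))))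
theorem f129683 : Led Lsl_ct (LP (LK LD1_c7 LD2_c0 LD3_c14)) = (LP (LK LD1_c3 LD2_c29 LD3_c16)) :=
  Lre_c IH (LK LD1_c7 LD2_c0 LD3_c14) (LK LD1_c3 LD2_c29 LD3_c16) Lrfl Lrfl
theorem f129684 : Led Lsl_et (LP (LK LD1_c3 LD2_c30 LD3_c61)) = (LP (LK LD1_c7 LD2_c0 LD3_c14)) :=
  Lgr Lrot158 (Lpe (K28.f129682 IH) (Lpr_ef (K24.f129676 IH) (Lpe (f129683 IH) (Lpn (LP (LK LD1_c7 LD2_c0 LD3_c14))))))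
theorem f129701 : Led Lsl_dt (LP (LK LD1_c3 LD2_c30 LD3_c61)) = (LP (LK LD1_c7 LD2_c3 LD3_c60)) :=
  Lre_d IH (LK LD1_c3 LD2_c30 LD3_c61) (LK LD1_c7 LD2_c3 LD3_c60) Lrfl Lrfl
theorem f129723 : Led Lsl_gt (LP (LK LD1_c7 LD2_c3 LD3_c60)) = (LP (LK LD1_c13 LD2_c23 LD3_c45)) :=
  Lre_g IH (LK LD1_c7 LD2_c3 LD3_c60) (LK LD1_c13 LD2_c23 LD3_c45) Lrfl Lrfl
theorem f87925 : Led Lsl_et (LP (LK LD1_c0 LD2_c52 LD3_c12)) = (LP (LK LD1_c1 LD2_c50 LD3_c39)) :=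
  Lre_e IH (LK LD1_c0 LD2_c52 LD3_c12) (LK LD1_c1 LD2_c50 LD3_c39) Lrfl Lrfl
theorem f466707 : Led Lsl_et (LP (LK LD1_c7 LD2_c9 LD3_c32)) = (LP (LK LD1_c3 LD2_c34 LD3_c10)) :=
  Lre_e IH (LK LD1_c7 LD2_c9 LD3_c32) (LK LD1_c3 LD2_c34 LD3_c10) Lrfl Lrfl
theorem f467134 : Led Lsl_df (LP (LK LD1_c13 LD2_c23 LD3_c45)) = (LP (LK LD1_c7 LD2_c9 LD3_c32)) :=
  Lgr Lrot132 (Lpe (f129723 IH) (Lpe (f129701 IH) (Lpe (K24.f460705 IH) (Lpe (K24.f93604 IH) (Lpr_dt (K3.f93603 IH) (Lpr_gf (K3.f93515 IH) (Lpe (K2.f63722 IH) (Lpr_et (f87925 IH) (Lpr_gf (K28.f466693 IH) (Lpe (f466707 IH) (Lpn (LP (LK LD1_c7 LD2_c9 LD3_c32)))))))))))))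
theorem f89694 : Led Lsl_gt (LP (LK LD1_c3 LD2_c47 LD3_c5)) = (LP (LK LD1_c7 LD2_c35 LD3_c1)) :=
  Lre_g IH (LK LD1_c3 LD2_c47 LD3_c5) (LK LD1_c7 LD2_c35 LD3_c1) Lrfl Lrfl
theorem f477733 : Led Lsl_dt (LP (LK LD1_c7 LD2_c3 LD3_c53)) = (LP (LK LD1_c7 LD2_c35 LD3_c1)) :=
  Lgr Lrot56 (Lpr_et (f477727 IH) (Lpr_gt (f477319 IH) (Lpe (f129684 IH) (Lpr_dt (f129701 IH) (Lpr_gt (f129723 IH) (Lpr_df (f467134 IH) (Lpr_et (f466707 IH) (Lpe (K28.f466693 IH) (Lpr_dt (K2.f87692 IH) (Lpr_gt (f89694 IH) (Lpn (LP (LK LD1_c7 LD2_c35 LD3_c1)))))))))))))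
theorem f459801 : Led Lsl_df (LP (LK LD1_c0 LD2_c52 LD3_c35)) = v856 :=
  Lgr Lrot38 (Lpr_dt (f459800 IH) (Lpn v856))
theorem f442342 : Led Lsl_ct (LP (LK LD1_c1 LD2_c51 LD3_c26)) = (LP (LK LD1_c0 LD2_c52 LD3_c35)) :=
  Lre_c IH (LK LD1_c1 LD2_c51 LD3_c26) (LK LD1_c0 LD2_c52 LD3_c35) Lrfl Lrfl
theorem f442341 : Led Lsl_dt (LP (LK LD1_c3 LD2_c48 LD3_c55)) = (LP (LK LD1_c1 LD2_c51 LD3_c26)) :=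
  Lre_d IH (LK LD1_c3 LD2_c48 LD3_c55) (LK LD1_c1 LD2_c51 LD3_c26) Lrfl Lrfl
theorem f514541 : Led Lsl_gt (LP (LK LD1_c7 LD2_c35 LD3_c1)) = (LP (LK LD1_c3 LD2_c48 LD3_c55)) :=
  Lgr Lrot49 (Lpe (f477733 IH) (Lpe (f62737 IH) (Lpe (K5.f62702 IH) (Lpr_gt (f514531 IH) (Lpe (f514534 IH) (Lpr_gt (f514540 IH) (Lpe (f459801 IH) (Lpe (f442342 IH) (Lpe (f442341 IH) (Lpn (LP (LK LD1_c3 LD2_c48 LD3_c55))))))))))))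
theorem f514542 : Led Lsl_gt (LP (LK LD1_c7 LD2_c35 LD3_c1)) = (LP (LK LD1_c3 LD2_c48 LD3_c55)) :=
  Leop (Lpe (f514541 IH) (Lpn (LP (LK LD1_c7 LD2_c35 LD3_c1))))
theorem seed_168 : LEOK LG_g (LK LD1_c7 LD2_c35 LD3_c1) :=
  Leoe_g (LK LD1_c7 LD2_c35 LD3_c1) (f514542 IH)
def v2313 : LQ := Led Lsl_dt (LP (LK LD1_c1 LD2_c42 LD3_c4))
theorem f514565 : Led Lsl_dt (LP (LK LD1_c1 LD2_c42 LD3_c4)) = v2313 :=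
  Lrfl
theorem f430945 : Led Lsl_dt (LP (LK LD1_c1 LD2_c39 LD3_c4)) = (LP (LK LD1_c3 LD2_c25 LD3_c8)) :=
  Lre_d IH (LK LD1_c1 LD2_c39 LD3_c4) (LK LD1_c3 LD2_c25 LD3_c8) Lrfl Lrfl
theorem f154672 : Led Lsl_dt (LP (LK LD1_c0 LD2_c41 LD3_c52)) = (LP (LK LD1_c1 LD2_c30 LD3_c44)) :=
  Lre_d IH (LK LD1_c0 LD2_c41 LD3_c52) (LK LD1_c1 LD2_c30 LD3_c44) Lrfl Lrfl
theorem f430946 : Led Lsl_gt (LP (LK LD1_c3 LD2_c25 LD3_c8)) = (LP (LK LD1_c6 LD2_c27 LD3_c28)) :=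
  Lgr Lrot49 (Lpe (f430945 IH) (Lpr_gf (K11.f430941 IH) (Lpe (K11.f155038 IH) (Lpr_gt (K7.f154813 IH) (Lpr_dt (f154672 IH) (Lpr_gt (K7.f154796 IH) (Lpe (K7.f154797 IH) (Lpe (K2.f83505 IH) (Lpe (K7.f84321 IH) (Lpn (LP (LK LD1_c6 LD2_c27 LD3_c28))))))))))))
theorem f86752 : Led Lsl_dt (LP (LK LD1_c3 LD2_c11 LD3_c38)) = (LP (LK LD1_c6 LD2_c27 LD3_c28)) :=
  Lre_d IH (LK LD1_c3 LD2_c11 LD3_c38) (LK LD1_c6 LD2_c27 LD3_c28) Lrfl Lrfl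
theorem f514570 : Led Lsl_gt (LP (LK LD1_c3 LD2_c28 LD3_c28)) = v2313 :=
  Lgr Lrot112 (Lpe (K7.f94111 IH) (Lpe (K7.f156124 IH) (Lpe (K11.f94097 IH) (Lpe (K4.f94085 IH) (Lpr_dt (f86752 IH) (Lpe (f430946 IH) (Lpe (f430945 IH) (Lpr_gf (K11.f430941 IH) (Lpr_ef (K3.f88846 IH) (Lpr_dt (f514565 IH) (Lpn v2313)))))))))))
theorem f92265 : Led Lsl_dt (LP (LK LD1_c6 LD2_c51 LD3_c26)) = (LP (LK LD1_c3 LD2_c24 LD3_c22)) :=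
  Lre_d IH (LK LD1_c6 LD2_c51 LD3_c26) (LK LD1_c3 LD2_c24 LD3_c22) Lrfl Lrfl
theorem f106344 : Led Lsl_gt (LP (LK LD1_c13 LD2_c2 LD3_c39)) = (LP (LK LD1_c6 LD2_c51 LD3_c26)) :=
  Lre_g IH (LK LD1_c13 LD2_c2 LD3_c39) (LK LD1_c6 LD2_c51 LD3_c26) Lrfl Lrfl
theorem f91714 : Led Lsl_gt (LP (LK LD1_c3 LD2_c24 LD3_c26)) = (LP (LK LD1_c6 LD2_c51 LD3_c29)) :=
  Lre_g IH (LK LD1_c3 LD2_c24 LD3_c26) (LK LD1_c6 LD2_c51 LD3_c29) Lrfl Lrfl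
theorem f154968 : Led Lsl_df (LP (LK LD1_c13 LD2_c2 LD3_c39)) = (LP (LK LD1_c6 LD2_c51 LD3_c29)) :=
  Lgr Lrot153 (Lpr_gt (f106344 IH) (Lpr_dt (f92265 IH) (Lpe (K4.f92255 IH) (Lpe (K3.f18154 IH) (Lpe (K7.f154955 IH) (Lpe (K7.f10928 IH) (Lpr_gf (K7.f154965 IH) (Lpe (K7.f91593 IH) (Lpr_gt (f91714 IH) (Lpn (LP (LK LD1_c6 LD2_c51 LD3_c29))))))))))))
theorem f434852 : Led Lsl_dt (LP (LK LD1_c13 LD2_c2 LD3_c39)) = (LP (LK LD1_c6 LD2_c51 LD3_c29)) :=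
  Lgr Lrot42 (Lpr_df (f154968 IH) (Lpn (LP (LK LD1_c6 LD2_c51 LD3_c29))))
theorem f115227 : Led Lsl_ft (LP (LK LD1_c3 LD2_c27 LD3_c54)) = (LP (LK LD1_c3 LD2_c31 LD3_c52)) :=
  Lgr Lrot4 (Lpe (K4.f19321 IH) (Lpr_ff (K4.f115223 IH) (Lpe (K5.f64370 IH) (Lpn (LP (LK LD1_c3 LD2_c31 LD3_c52))))))
theorem f115386 : Led Lsl_af (LP (LK LD1_c3 LD2_c24 LD3_c22)) = (LP (LK LD1_c3 LD2_c31 LD3_c52)) :=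
  Lgr Lrot45 (Lpr_ft (K5.f115237 IH) (Lpe (K5.f115233 IH) (Lpr_ft (f115227 IH) (Lpn (LP (LK LD1_c3 LD2_c31 LD3_c52))))))
theorem f92266 : Led Lsl_dt (LP (LK LD1_c3 LD2_c24 LD3_c22)) = (LP (LK LD1_c6 LD2_c51 LD3_c26)) :=
  Lre_d IH (LK LD1_c3 LD2_c24 LD3_c22) (LK LD1_c6 LD2_c51 LD3_c26) Lrfl Lrfl
theorem f64379 : Led Lsl_dt (LP (LK LD1_c7 LD2_c5 LD3_c15)) = (LP (LK LD1_c3 LD2_c31 LD3_c52)) :=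
  Lre_d IH (LK LD1_c7 LD2_c5 LD3_c15) (LK LD1_c3 LD2_c31 LD3_c52) Lrfl Lrfl
theorem f115393 : Led Lsl_at (LP (LK LD1_c6 LD2_c51 LD3_c26)) = (LP (LK LD1_c7 LD2_c5 LD3_c15)) :=
  Lgr Lrot51 (Lpe (f92266 IH) (Lpr_af (f115386 IH) (Lpe (f64379 IH) (Lpn (LP (LK LD1_c7 LD2_c5 LD3_c15))))))
theorem f85617 : Led Lsl_dt (LP (LK LD1_c7 LD2_c5 LD3_c21)) = (LP (LK LD1_c3 LD2_c31 LD3_c57)) :=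
  Lre_d IH (LK LD1_c7 LD2_c5 LD3_c21) (LK LD1_c3 LD2_c31 LD3_c57) Lrfl Lrfl
theorem f115247 : Led Lsl_ft (LP (LK LD1_c6 LD2_c51 LD3_c26)) = (LP (LK LD1_c7 LD2_c5 LD3_c21)) :=
  Lgr Lrot54 (Lpe (f92266 IH) (Lpr_ff (K5.f115241 IH) (Lpe (f85617 IH) (Lpn (LP (LK LD1_c7 LD2_c5 LD3_c21))))))
theorem f115258 : Led Lsl_ff (LP (LK LD1_c6 LD2_c51 LD3_c26)) = (LP (LK LD1_c7 LD2_c5 LD3_c21)) :=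
  Lgr Lrot3 (Lpr_ft (f115247 IH) (Lpn (LP (LK LD1_c7 LD2_c5 LD3_c21))))
theorem f115221 : Led Lsl_ff (LP (LK LD1_c3 LD2_c27 LD3_c54)) = (LP (LK LD1_c3 LD2_c31 LD3_c52)) :=
  Lgr Lrot23 (Lpr_ct (K5.f19324 IH) (Lpr_ft (K4.f115217 IH) (Lpr_ct (K5.f64373 IH) (Lpn (LP (LK LD1_c3 LD2_c31 LD3_c52))))))
theorem f115243 : Led Lsl_at (LP (LK LD1_c3 LD2_c27 LD3_c54)) = (LP (LK LD1_c3 LD2_c31 LD3_c57)) :=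
  Lgr Lrot66 (Lpr_ff (f115221 IH) (Lpe (K5.f115215 IH) (Lpr_ff (K5.f115241 IH) (Lpn (LP (LK LD1_c3 LD2_c31 LD3_c57))))))
theorem f19322 : Led Lsl_dt (LP (LK LD1_c6 LD2_c57 LD3_c60)) = (LP (LK LD1_c3 LD2_c27 LD3_c54)) :=
  Lre_d IH (LK LD1_c6 LD2_c57 LD3_c60) (LK LD1_c3 LD2_c27 LD3_c54) Lrfl Lrfl
theorem f85616 : Led Lsl_dt (LP (LK LD1_c3 LD2_c31 LD3_c57)) = (LP (LK LD1_c7 LD2_c5 LD3_c21)) :=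
  Lre_d IH (LK LD1_c3 LD2_c31 LD3_c57) (LK LD1_c7 LD2_c5 LD3_c21) Lrfl Lrfl
theorem f115340 : Led Lsl_af (LP (LK LD1_c6 LD2_c57 LD3_c60)) = (LP (LK LD1_c7 LD2_c5 LD3_c21)) :=
  Lgr Lrot117 (Lpr_dt (f19322 IH) (Lpr_at (f115243 IH) (Lpr_dt (f85616 IH) (Lpn (LP (LK LD1_c7 LD2_c5 LD3_c21))))))
theorem f115342 : Led Lsl_at (LP (LK LD1_c6 LD2_c57 LD3_c60)) = (LP (LK LD1_c7 LD2_c5 LD3_c21)) :=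
  Lgr Lrot100 (Lpr_af (f115340 IH) (Lpn (LP (LK LD1_c7 LD2_c5 LD3_c21))))
theorem f115404 : Led Lsl_ff (LP (LK LD1_c6 LD2_c57 LD3_c60)) = (LP (LK LD1_c7 LD2_c5 LD3_c15)) :=
  Lgr Lrot30 (Lpr_at (f115342 IH) (Lpe (f115258 IH) (Lpr_at (f115393 IH) (Lpn (LP (LK LD1_c7 LD2_c5 LD3_c15))))))
theorem f115413 : Led Lsl_ft (LP (LK LD1_c6 LD2_c57 LD3_c60)) = (LP (LK LD1_c7 LD2_c5 LD3_c15)) :=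
  Lgr Lrot48 (Lpr_ff (f115404 IH) (Lpn (LP (LK LD1_c7 LD2_c5 LD3_c15))))
theorem f115395 : Led Lsl_af (LP (LK LD1_c6 LD2_c51 LD3_c26)) = (LP (LK LD1_c7 LD2_c5 LD3_c15)) :=
  Lgr Lrot0 (Lpr_at (f115393 IH) (Lpn (LP (LK LD1_c7 LD2_c5 LD3_c15))))
theorem f115420 : Led Lsl_gt (LP (LK LD1_c6 LD2_c57 LD3_c60)) = (LP (LK LD1_c13 LD2_c2 LD3_c39)) :=
  Lgr Lrot5 (Lpr_ft (f115413 IH) (Lpe (f115395 IH) (Lpe (f106344 IH) (Lpn (LP (LK LD1_c13 LD2_c2 LD3_c39))))))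
theorem f19323 : Led Lsl_dt (LP (LK LD1_c3 LD2_c27 LD3_c54)) = (LP (LK LD1_c6 LD2_c57 LD3_c60)) :=
  Lre_d IH (LK LD1_c3 LD2_c27 LD3_c54) (LK LD1_c6 LD2_c57 LD3_c60) Lrfl Lrfl
theorem f121372 : Led Lsl_cf (LP (LK LD1_c3 LD2_c25 LD3_c16)) = (LP (LK LD1_c6 LD2_c51 LD3_c23)) :=
  Lgr Lrot99 (Lpe (K3.f84661 IH) (Lpe (K4.f108829 IH) (Lpr_gf (K4.f121370 IH) (Lpe (K4.f90267 IH) (Lpe (K4.f17277 IH) (Lpe (K3.f17260 IH) (Lpr_gt (K4.f92251 IH) (Lpr_ct (K4.f92255 IH) (Lpr_gt (K5.f92254 IH) (Lpn (LP (LK LD1_c6 LD2_c51 LD3_c23))))))))))))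
theorem f434854 : Led Lsl_ct (LP (LK LD1_c3 LD2_c28 LD3_c28)) = (LP (LK LD1_c6 LD2_c51 LD3_c29)) :=
  Lgr Lrot7 (Lpe (K7.f94111 IH) (Lpe (K11.f94097 IH) (Lpe (K7.f94091 IH) (Lpe (K3.f84662 IH) (Lpr_cf (f121372 IH) (Lpr_gt (K5.f115388 IH) (Lpr_dt (f19323 IH) (Lpr_gt (f115420 IH) (Lpr_dt (f434852 IH) (Lpn (LP (LK LD1_c6 LD2_c51 LD3_c29))))))))))))
theorem f446842 : Led Lsl_af (LP (LK LD1_c0 LD2_c9 LD3_c24)) = (LP (LK LD1_c0 LD2_c9 LD3_c24)) :=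
  Lgr Lrot31 (Lpe (K7.f152 IH) (Lpr_gf (K7.f156392 IH) (Lpr_ft (K7.f446836 IH) (Lpn (LP (LK LD1_c0 LD2_c9 LD3_c24))))))
theorem f446846 : K0.v83 = (LP (LK LD1_c0 LD2_c9 LD3_c18)) :=
  (Llr Lrot80 (Lpe (K0.f446825 IH) (Lpr_ef (K7.f156398 IH) (Lpr_af (f446842 IH) (Lpe (K7.f156394 IH) (Lpn (LP (LK LD1_c0 LD2_c9 LD3_c18)))))))).symm
theorem f446854 : Led Lsl_ff (LP (LK LD1_c0 LD2_c9 LD3_c49)) = (LP (LK LD1_c0 LD2_c9 LD3_c50)) :=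
  Lgr Lrot23 (Lpr_ct (K7.f143261 IH) (Lpq (f446846 IH) (Lpe (K0.f446828 IH) (Lpe (K6.f143255 IH) (Lpn (LP (LK LD1_c0 LD2_c9 LD3_c50)))))))
theorem f429014 : Led Lsl_et (LP (LK LD1_c0 LD2_c9 LD3_c49)) = (LP (LK LD1_c0 LD2_c10 LD3_c13)) :=
  Lgr Lrot87 (Lpr_ef (K7.f156419 IH) (Lpn (LP (LK LD1_c0 LD2_c10 LD3_c13))))
theorem f156417 : Led Lsl_cf (LP (LK LD1_c0 LD2_c9 LD3_c24)) = (LP (LK LD1_c0 LD2_c10 LD3_c13)) :=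
  Lgr Lrot11 (Lpr_ct (K7.f156412 IH) (Lpn (LP (LK LD1_c0 LD2_c10 LD3_c13))))
theorem f446840 : Led Lsl_ff (LP (LK LD1_c0 LD2_c10 LD3_c13)) = (LP (LK LD1_c0 LD2_c10 LD3_c13)) :=
  Lgr Lrot23 (Lpe (f156417 IH) (Lpr_ft (K7.f446836 IH) (Lpr_ct (K7.f156412 IH) (Lpn (LP (LK LD1_c0 LD2_c10 LD3_c13))))))
theorem f446858 : Led Lsl_ft (LP (LK LD1_c0 LD2_c9 LD3_c49)) = (LP (LK LD1_c0 LD2_c9 LD3_c50)) :=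
  Lgr Lrot86 (Lpr_ef (K7.f156419 IH) (Lpr_ff (f446840 IH) (Lpe (f429014 IH) (Lpr_ff (f446854 IH) (Lpe (K6.f10917 IH) (Lpn (LP (LK LD1_c0 LD2_c9 LD3_c50))))))))
theorem f10372 : Led Lsl_bt (LP (LK LD1_c0 LD2_c21 LD3_c50)) = (LP (LK LD1_c0 LD2_c9 LD3_c49)) :=
  Lre_b IH (LK LD1_c0 LD2_c21 LD3_c50) (LK LD1_c0 LD2_c9 LD3_c49) Lrfl Lrfl
theorem f446883 : Led Lsl_ff (LP (LK LD1_c0 LD2_c21 LD3_c50)) = (LP (LK LD1_c0 LD2_c21 LD3_c51)) :=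
  Lgr Lrot25 (Lpr_bt (f10372 IH) (Lpr_ft (f446858 IH) (Lpr_bt (K7.f10920 IH) (Lpn (LP (LK LD1_c0 LD2_c21 LD3_c51))))))
theorem f429018 : Led Lsl_at (LP (LK LD1_c0 LD2_c21 LD3_c50)) = (LP (LK LD1_c0 LD2_c48 LD3_c45)) :=
  Lre_a IH (LK LD1_c0 LD2_c21 LD3_c50) (LK LD1_c0 LD2_c48 LD3_c45) Lrfl Lrfl
theorem f434299 : Led Lsl_ct (LP (LK LD1_c1 LD2_c44 LD3_c20)) = (LP (LK LD1_c0 LD2_c48 LD3_c45)) :=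
  Lre_c IH (LK LD1_c1 LD2_c44 LD3_c20) (LK LD1_c0 LD2_c48 LD3_c45) Lrfl Lrfl
theorem f434302 : Led Lsl_dt (LP (LK LD1_c3 LD2_c35 LD3_c7)) = (LP (LK LD1_c1 LD2_c44 LD3_c20)) :=
  Lre_d IH (LK LD1_c3 LD2_c35 LD3_c7) (LK LD1_c1 LD2_c44 LD3_c20) Lrfl Lrfl
theorem f446893 : Led Lsl_ct (LP (LK LD1_c7 LD2_c11 LD3_c21)) = (LP (LK LD1_c3 LD2_c35 LD3_c7)) :=
  Lre_c IH (LK LD1_c7 LD2_c11 LD3_c21) (LK LD1_c3 LD2_c35 LD3_c7) Lrfl Lrfl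
theorem f154974 : Led Lsl_dt (LP (LK LD1_c1 LD2_c44 LD3_c25)) = (LP (LK LD1_c3 LD2_c35 LD3_c14)) :=
  Lre_d IH (LK LD1_c1 LD2_c44 LD3_c25) (LK LD1_c3 LD2_c35 LD3_c14) Lrfl Lrfl
theorem f432730 : Led Lsl_ct (LP (LK LD1_c3 LD2_c35 LD3_c14)) = (LP (LK LD1_c7 LD2_c11 LD3_c28)) :=
  Lre_c IH (LK LD1_c3 LD2_c35 LD3_c14) (LK LD1_c7 LD2_c11 LD3_c28) Lrfl Lrfl
theorem f446894 : Led Lsl_df (LP (LK LD1_c7 LD2_c11 LD3_c21)) = (LP (LK LD1_c7 LD2_c11 LD3_c28)) :=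
  Lgr Lrot13 (Lpr_ct (f446893 IH) (Lpr_dt (f434302 IH) (Lpr_ct (f434299 IH) (Lpe (f429018 IH) (Lpr_ff (f446883 IH) (Lpr_dt (K7.f10927 IH) (Lpr_ct (K7.f10937 IH) (Lpr_dt (f154974 IH) (Lpr_ct (f432730 IH) (Lpn (LP (LK LD1_c7 LD2_c11 LD3_c28))))))))))))
theorem f434300 : Led Lsl_dt (LP (LK LD1_c1 LD2_c44 LD3_c20)) = (LP (LK LD1_c3 LD2_c35 LD3_c7)) :=
  Lre_d IH (LK LD1_c1 LD2_c44 LD3_c20) (LK LD1_c3 LD2_c35 LD3_c7) Lrfl Lrfl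
theorem f155024 : Led Lsl_dt (LP (LK LD1_c1 LD2_c40 LD3_c33)) = (LP (LK LD1_c0 LD2_c48 LD3_c47)) :=
  Lgr Lrot6 (Lpr_gt (K4.f17264 IH) (Lpr_ct (K3.f11480 IH) (Lpr_gt (K3.f17271 IH) (Lpe (K3.f106237 IH) (Lpe (K2.f19409 IH) (Lpe (K2.f90106 IH) (Lpe (K11.f154957 IH) (Lpr_cf (K7.f155009 IH) (Lpe (K7.f10929 IH) (Lpn (LP (LK LD1_c0 LD2_c48 LD3_c47))))))))))))
theorem f10936 : Led Lsl_dt (LP (LK LD1_c3 LD2_c35 LD3_c14)) = (LP (LK LD1_c1 LD2_c44 LD3_c25)) :=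
  Lre_d IH (LK LD1_c3 LD2_c35 LD3_c14) (LK LD1_c1 LD2_c44 LD3_c25) Lrfl Lrfl
theorem f434765 : Led Lsl_gt (LP (LK LD1_c6 LD2_c58 LD3_c2)) = (LP (LK LD1_c3 LD2_c35 LD3_c14)) :=
  Lgr Lrot49 (Lpe (K3.f19196 IH) (Lpe (K3.f19194 IH) (Lpe (K2.f18111 IH) (Lpr_gt (K4.f19319 IH) (Lpr_dt (f155024 IH) (Lpr_gt (K7.f10929 IH) (Lpr_dt (K7.f10927 IH) (Lpe (K7.f10935 IH) (Lpe (f10936 IH) (Lpn (LP (LK LD1_c3 LD2_c35 LD3_c14))))))))))))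
theorem f19198 : Led Lsl_dt (LP (LK LD1_c6 LD2_c58 LD3_c2)) = (LP (LK LD1_c3 LD2_c27 LD3_c56)) :=
  Lre_d IH (LK LD1_c6 LD2_c58 LD3_c2) (LK LD1_c3 LD2_c27 LD3_c56) Lrfl Lrfl
theorem f154962 : Led Lsl_dt (LP (LK LD1_c3 LD2_c9 LD3_c4)) = (LP (LK LD1_c1 LD2_c30 LD3_c42)) :=
  Lre_d IH (LK LD1_c3 LD2_c9 LD3_c4) (LK LD1_c1 LD2_c30 LD3_c42) Lrfl Lrfl
theorem f90608 : Led Lsl_gt (LP (LK LD1_c1 LD2_c38 LD3_c15)) = (LP (LK LD1_c1 LD2_c32 LD3_c11)) :=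
  Lgr Lrot131 (Lpr_ef (K2.f90224 IH) (Lpr_dt (K1.f66582 IH) (Lpe (K1.f23366 IH) (Lpe (K2.f14637 IH) (Lpr_gf (K0.f11883 IH) (Lpr_ef (K2.f85148 IH) (Lpr_dt (K2.f23707 IH) (Lpr_gf (K2.f90596 IH) (Lpr_df (K2.f66739 IH) (Lpr_et (K2.f68156 IH) (Lpn (LP (LK LD1_c1 LD2_c32 LD3_c11)))))))))))))
theorem f155050 : Led Lsl_gf (LP (LK LD1_c3 LD2_c9 LD3_c4)) = (LP (LK LD1_c3 LD2_c11 LD3_c39)) :=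
  Lgr Lrot143 (Lpr_dt (f154962 IH) (Lpr_cf (K7.f155034 IH) (Lpe (K5.f88845 IH) (Lpe (K3.f106270 IH) (Lpe (K3.f87508 IH) (Lpr_gf (K4.f120925 IH) (Lpe (K4.f120930 IH) (Lpr_gt (f90608 IH) (Lpr_dt (K2.f68069 IH) (Lpn (LP (LK LD1_c3 LD2_c11 LD3_c39))))))))))))
theorem f154753 : Led Lsl_dt (LP (LK LD1_c6 LD2_c22 LD3_c54)) = (LP (LK LD1_c3 LD2_c9 LD3_c7)) :=
  Lre_d IH (LK LD1_c6 LD2_c22 LD3_c54) (LK LD1_c3 LD2_c9 LD3_c7) Lrfl Lrfl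
theorem f154754 : Led Lsl_gt (LP (LK LD1_c12 LD2_c19 LD3_c18)) = (LP (LK LD1_c6 LD2_c22 LD3_c54)) :=
  Lre_g IH (LK LD1_c12 LD2_c19 LD3_c18) (LK LD1_c6 LD2_c22 LD3_c54) Lrfl Lrfl
theorem f83495 : Led Lsl_ft (LP (LK LD1_c6 LD2_c27 LD3_c29)) = (LP (LK LD1_c6 LD2_c23 LD3_c8)) :=
  Lgr Lrot4 (Lpe (K5.f67678 IH) (Lpr_ff (K2.f83487 IH) (Lpe (K7.f83494 IH) (Lpn (LP (LK LD1_c6 LD2_c23 LD3_c8))))))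
theorem f83601 : Led Lsl_at (LP (LK LD1_c6 LD2_c23 LD3_c8)) = (LP (LK LD1_c3 LD2_c9 LD3_c15)) :=
  Lre_a IH (LK LD1_c6 LD2_c23 LD3_c8) (LK LD1_c3 LD2_c9 LD3_c15) Lrfl Lrfl
theorem f83633 : Led Lsl_gt (LP (LK LD1_c6 LD2_c27 LD3_c29)) = (LP (LK LD1_c6 LD2_c23 LD3_c11)) :=
  Lgr Lrot5 (Lpr_ft (f83495 IH) (Lpr_at (f83601 IH) (Lpe (K7.f83472 IH) (Lpn (LP (LK LD1_c6 LD2_c23 LD3_c11))))))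
theorem f434734 : Led Lsl_df (LP (LK LD1_c12 LD2_c19 LD3_c18)) = (LP (LK LD1_c6 LD2_c23 LD3_c11)) :=
  Lgr Lrot153 (Lpr_gt (f154754 IH) (Lpr_dt (f154753 IH) (Lpe (K7.f67169 IH) (Lpe (f154672 IH) (Lpe (K7.f154813 IH) (Lpe (f154962 IH) (Lpr_gf (f155050 IH) (Lpe (K2.f67912 IH) (Lpr_gt (f83633 IH) (Lpn (LP (LK LD1_c6 LD2_c23 LD3_c11))))))))))))
theorem f106151 : Led Lsl_cf (LP (LK LD1_c3 LD2_c31 LD3_c51)) = (LP (LK LD1_c6 LD2_c27 LD3_c37)) :=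
  Lgr Lrot11 (Lpr_ct (K7.f106146 IH) (Lpn (LP (LK LD1_c6 LD2_c27 LD3_c37))))
theorem f156211 : Led Lsl_ft (LP (LK LD1_c3 LD2_c31 LD3_c51)) = (LP (LK LD1_c3 LD2_c35 LD3_c10)) :=
  Lgr Lrot54 (Lpe (K3.f66771 IH) (Lpr_ff (K7.f156207 IH) (Lpe (K11.f156153 IH) (Lpn (LP (LK LD1_c3 LD2_c35 LD3_c10))))))
theorem f156233 : Led Lsl_ct (LP (LK LD1_c3 LD2_c35 LD3_c10)) = (LP (LK LD1_c6 LD2_c23 LD3_c11)) :=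
  Lgr Lrot40 (Lpe (f156211 IH) (Lpr_cf (f106151 IH) (Lpr_ff (K7.f156229 IH) (Lpn (LP (LK LD1_c6 LD2_c23 LD3_c11))))))
theorem f156020 : Led Lsl_dt (LP (LK LD1_c6 LD2_c9 LD3_c22)) = (LP (LK LD1_c3 LD2_c1 LD3_c8)) :=
  Lre_d IH (LK LD1_c6 LD2_c9 LD3_c22) (LK LD1_c3 LD2_c1 LD3_c8) Lrfl Lrfl
theorem f154667 : Led Lsl_dt (LP (LK LD1_c3 LD2_c9 LD3_c7)) = (LP (LK LD1_c6 LD2_c22 LD3_c54)) :=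
  Lre_d IH (LK LD1_c3 LD2_c9 LD3_c7) (LK LD1_c6 LD2_c22 LD3_c54) Lrfl Lrfl
theorem f154668 : Led Lsl_gt (LP (LK LD1_c6 LD2_c22 LD3_c54)) = (LP (LK LD1_c12 LD2_c19 LD3_c17)) :=
  Lre_g IH (LK LD1_c6 LD2_c22 LD3_c54) (LK LD1_c12 LD2_c19 LD3_c17) Lrfl Lrfl
theorem f156132 : Led Lsl_df (LP (LK LD1_c6 LD2_c23 LD3_c10)) = (LP (LK LD1_c12 LD2_c19 LD3_c17)) :=
  Lgr Lrot84 (Lpr_cf (K5.f106377 IH) (Lpe (K7.f95188 IH) (Lpr_gf (K7.f156130 IH) (Lpe (f156020 IH) (Lpr_gf (K7.f156022 IH) (Lpe (K11.f154657 IH) (Lpr_gt (K7.f154648 IH) (Lpr_dt (f154667 IH) (Lpr_gt (f154668 IH) (Lpn (LP (LK LD1_c12 LD2_c19 LD3_c17))))))))))))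
theorem f156140 : Led Lsl_ct (LP (LK LD1_c6 LD2_c57 LD3_c60)) = (LP (LK LD1_c12 LD2_c19 LD3_c17)) :=
  Lgr Lrot133 (Lpe (f19323 IH) (Lpr_ft (f115227 IH) (Lpe (f115386 IH) (Lpe (K4.f92255 IH) (Lpe (K3.f18154 IH) (Lpe (K5.f92262 IH) (Lpe (K5.f92263 IH) (Lpe (K7.f106387 IH) (Lpr_df (f156132 IH) (Lpn (LP (LK LD1_c12 LD2_c19 LD3_c17))))))))))))
theorem f156151 : Led Lsl_cf (LP (LK LD1_c6 LD2_c57 LD3_c60)) = (LP (LK LD1_c12 LD2_c19 LD3_c17)) :=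
  Lgr Lrot11 (Lpr_ct (f156140 IH) (Lpn (LP (LK LD1_c12 LD2_c19 LD3_c17))))
theorem f156137 : Led Lsl_dt (LP (LK LD1_c6 LD2_c23 LD3_c10)) = (LP (LK LD1_c12 LD2_c19 LD3_c17)) :=
  Lgr Lrot42 (Lpr_df (f156132 IH) (Lpn (LP (LK LD1_c12 LD2_c19 LD3_c17))))
theorem f434741 : Led Lsl_ct (LP (LK LD1_c12 LD2_c19 LD3_c18)) = (LP (LK LD1_c6 LD2_c51 LD3_c26)) :=
  Lgr Lrot176 (Lpr_df (f434734 IH) (Lpe (f156233 IH) (Lpe (K11.f156166 IH) (Lpe (K7.f154995 IH) (Lpe (f155024 IH) (Lpe (K5.f19324 IH) (Lpe (f19322 IH) (Lpr_cf (f156151 IH) (Lpe (f156137 IH) (Lpr_cf (K5.f106377 IH) (Lpe (K7.f95188 IH) (Lpe (K7.f92264 IH) (Lpe (K5.f92033 IH) (Lpe (K5.f92253 IH) (Lpe (f92265 IH) (Lpn (LP (LK LD1_c6 LD2_c51 LD3_c26))))))))))))))))))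
theorem f434768 : Led Lsl_gf (LP (LK LD1_c12 LD2_c19 LD3_c18)) = (LP (LK LD1_c7 LD2_c11 LD3_c28)) :=
  Lgr Lrot104 (Lpr_ct (f434741 IH) (Lpe (f92266 IH) (Lpe (K4.f92255 IH) (Lpe (K4.f92251 IH) (Lpe (K3.f11478 IH) (Lpe (K3.f11481 IH) (Lpe (f19198 IH) (Lpr_gt (f434765 IH) (Lpr_ct (f432730 IH) (Lpn (LP (LK LD1_c7 LD2_c11 LD3_c28))))))))))))
theorem f434743 : Led Lsl_dt (LP (LK LD1_c12 LD2_c19 LD3_c18)) = (LP (LK LD1_c6 LD2_c23 LD3_c11)) :=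
  Lgr Lrot42 (Lpr_df (f434734 IH) (Lpn (LP (LK LD1_c6 LD2_c23 LD3_c11))))
theorem f83464 : Led Lsl_dt (LP (LK LD1_c3 LD2_c9 LD3_c15)) = (LP (LK LD1_c6 LD2_c23 LD3_c13)) :=
  Lre_d IH (LK LD1_c3 LD2_c9 LD3_c15) (LK LD1_c6 LD2_c23 LD3_c13) Lrfl Lrfl
theorem f83448 : Led Lsl_cf (LP (LK LD1_c7 LD2_c5 LD3_c17)) = (LP (LK LD1_c6 LD2_c23 LD3_c13)) :=
  Lgr Lrot108 (Lpr_ft (K7.f19208 IH) (Lpr_ct (K7.f68118 IH) (Lpr_ft (K2.f83442 IH) (Lpn (LP (LK LD1_c6 LD2_c23 LD3_c13))))))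
theorem f19314 : Led Lsl_dt (LP (LK LD1_c6 LD2_c58 LD3_c0)) = (LP (LK LD1_c3 LD2_c27 LD3_c55)) :=
  Lre_d IH (LK LD1_c6 LD2_c58 LD3_c0) (LK LD1_c3 LD2_c27 LD3_c55) Lrfl Lrfl
theorem f434772 : Led Lsl_gf (LP (LK LD1_c6 LD2_c58 LD3_c0)) = (LP (LK LD1_c3 LD2_c35 LD3_c14)) :=
  Lgr Lrot144 (Lpr_dt (f19314 IH) (Lpe (K4.f19312 IH) (Lpr_dt (K2.f19172 IH) (Lpr_cf (f83448 IH) (Lpe (f83464 IH) (Lpe (K7.f83472 IH) (Lpe (f434743 IH) (Lpr_gf (f434768 IH) (Lpe (f432730 IH) (Lpn (LP (LK LD1_c3 LD2_c35 LD3_c14))))))))))))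
theorem f431572 : Led Lsl_ct (LP (LK LD1_c3 LD2_c8 LD3_c3)) = (LP (LK LD1_c2 LD2_c18 LD3_c37)) :=
  Lgr Lrot59 (Lpr_cf (K11.f431568 IH) (Lpn (LP (LK LD1_c2 LD2_c18 LD3_c37))))
theorem f25814 : Led Lsl_bt (LP (LK LD1_c0 LD2_c30 LD3_c20)) = (LP (LK LD1_c1 LD2_c6 LD3_c20)) :=
  Lre_b IH (LK LD1_c0 LD2_c30 LD3_c20) (LK LD1_c1 LD2_c6 LD3_c20) Lrfl Lrfl
theorem f154374 : Led Lsl_ct (LP (LK LD1_c1 LD2_c6 LD3_c20)) = (LP (LK LD1_c1 LD2_c6 LD3_c20)) :=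
  Lgr Lrot83 (Lpe (f25814 IH) (Lpe (K7.f25800 IH) (Lpr_bf (K7.f154366 IH) (Lpe (K7.f25810 IH) (Lpe (K11.f86079 IH) (Lpn (LP (LK LD1_c1 LD2_c6 LD3_c20))))))))
theorem f86117 : Led Lsl_dt (LP (LK LD1_c2 LD2_c18 LD3_c39)) = (LP (LK LD1_c1 LD2_c6 LD3_c20)) :=
  Lre_d IH (LK LD1_c2 LD2_c18 LD3_c39) (LK LD1_c1 LD2_c6 LD3_c20) Lrfl Lrfl
theorem f431578 : Led Lsl_gf (LP (LK LD1_c3 LD2_c8 LD3_c3)) = (LP (LK LD1_c4 LD2_c40 LD3_c11)) :=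
  Lgr Lrot147 (Lpr_ct (f431572 IH) (Lpr_gt (K11.f86143 IH) (Lpr_ct (f154374 IH) (Lpe (f86117 IH) (Lpe (K7.f153416 IH) (Lpe (K7.f153409 IH) (Lpe (K7.f77943 IH) (Lpe (K5.f125285 IH) (Lpe (K5.f66792 IH) (Lpn (LP (LK LD1_c4 LD2_c40 LD3_c11))))))))))))
theorem f209677 : Led Lsl_at (LP (LK LD1_c3 LD2_c8 LD3_c4)) = (LP (LK LD1_c1 LD2_c30 LD3_c14)) :=
  Lre_a IH (LK LD1_c3 LD2_c8 LD3_c4) (LK LD1_c1 LD2_c30 LD3_c14) Lrfl Lrfl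
theorem f431580 : Led Lsl_ff (LP (LK LD1_c3 LD2_c8 LD3_c4)) = (LP (LK LD1_c4 LD2_c40 LD3_c11)) :=
  Lgr Lrot52 (Lpr_at (f209677 IH) (Lpe (K11.f133697 IH) (Lpr_gf (f431578 IH) (Lpn (LP (LK LD1_c4 LD2_c40 LD3_c11))))))
theorem f431584 : Led Lsl_ft (LP (LK LD1_c3 LD2_c8 LD3_c4)) = (LP (LK LD1_c4 LD2_c40 LD3_c11)) :=
  Lgr Lrot48 (Lpr_ff (f431580 IH) (Lpn (LP (LK LD1_c4 LD2_c40 LD3_c11))))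
theorem f104664 : Led Lsl_dt (LP (LK LD1_c0 LD2_c41 LD3_c41)) = (LP (LK LD1_c1 LD2_c30 LD3_c16)) :=
  Lre_d IH (LK LD1_c0 LD2_c41 LD3_c41) (LK LD1_c1 LD2_c30 LD3_c16) Lrfl Lrfl
theorem f209644 : Led Lsl_et (LP (LK LD1_c1 LD2_c30 LD3_c16)) = (LP (LK LD1_c3 LD2_c8 LD3_c8)) :=
  Lre_e IH (LK LD1_c1 LD2_c30 LD3_c16) (LK LD1_c3 LD2_c8 LD3_c8) Lrfl Lrfl
theorem f104705 : Led Lsl_dt (LP (LK LD1_c1 LD2_c30 LD3_c16)) = (LP (LK LD1_c0 LD2_c41 LD3_c41)) :=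
  Lre_d IH (LK LD1_c1 LD2_c30 LD3_c16) (LK LD1_c0 LD2_c41 LD3_c41) Lrfl Lrfl
theorem f209645 : Led Lsl_et (LP (LK LD1_c3 LD2_c8 LD3_c8)) = (LP (LK LD1_c1 LD2_c30 LD3_c16)) :=
  Lre_e IH (LK LD1_c3 LD2_c8 LD3_c8) (LK LD1_c1 LD2_c30 LD3_c16) Lrfl Lrfl
theorem f209646 : Led Lsl_dt (LP (LK LD1_c3 LD2_c8 LD3_c8)) = (LP (LK LD1_c3 LD2_c8 LD3_c8)) :=
  Lgr Lrot77 (Lpe (f209644 IH) (Lpe (f104664 IH) (Lpr_ef (K11.f209640 IH) (Lpe (f104705 IH) (Lpe (f209645 IH) (Lpn (LP (LK LD1_c3 LD2_c8 LD3_c8))))))))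
theorem f209655 : Led Lsl_bt (LP (LK LD1_c6 LD2_c20 LD3_c56)) = (LP (LK LD1_c3 LD2_c8 LD3_c8)) :=
  Lre_b IH (LK LD1_c6 LD2_c20 LD3_c56) (LK LD1_c3 LD2_c8 LD3_c8) Lrfl Lrfl
theorem f209656 : Led Lsl_bt (LP (LK LD1_c3 LD2_c8 LD3_c8)) = (LP (LK LD1_c6 LD2_c20 LD3_c56)) :=
  Lre_b IH (LK LD1_c3 LD2_c8 LD3_c8) (LK LD1_c6 LD2_c20 LD3_c56) Lrfl Lrfl
theorem f209657 : Led Lsl_df (LP (LK LD1_c6 LD2_c20 LD3_c56)) = (LP (LK LD1_c6 LD2_c20 LD3_c56)) :=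
  Lgr Lrot12 (Lpr_bt (f209655 IH) (Lpr_dt (f209646 IH) (Lpr_bt (f209656 IH) (Lpn (LP (LK LD1_c6 LD2_c20 LD3_c56))))))
theorem f209659 : Led Lsl_at (LP (LK LD1_c6 LD2_c20 LD3_c56)) = (LP (LK LD1_c12 LD2_c15 LD3_c57)) :=
  Lre_a IH (LK LD1_c6 LD2_c20 LD3_c56) (LK LD1_c12 LD2_c15 LD3_c57) Lrfl Lrfl
theorem f209660 : Led Lsl_at (LP (LK LD1_c12 LD2_c15 LD3_c57)) = (LP (LK LD1_c6 LD2_c20 LD3_c56)) :=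
  Lre_a IH (LK LD1_c12 LD2_c15 LD3_c57) (LK LD1_c6 LD2_c20 LD3_c56) Lrfl Lrfl
theorem f209661 : Led Lsl_dt (LP (LK LD1_c12 LD2_c15 LD3_c57)) = (LP (LK LD1_c12 LD2_c15 LD3_c57)) :=
  Lgr Lrot44 (Lpe (f209659 IH) (Lpr_df (f209657 IH) (Lpe (f209660 IH) (Lpn (LP (LK LD1_c12 LD2_c15 LD3_c57))))))
theorem f209671 : Led Lsl_et (LP (LK LD1_c6 LD2_c20 LD3_c54)) = (LP (LK LD1_c12 LD2_c15 LD3_c57)) :=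
  Lre_e IH (LK LD1_c6 LD2_c20 LD3_c54) (LK LD1_c12 LD2_c15 LD3_c57) Lrfl Lrfl
theorem f209672 : Led Lsl_dt (LP (LK LD1_c3 LD2_c8 LD3_c4)) = (LP (LK LD1_c6 LD2_c20 LD3_c54)) :=
  Lre_d IH (LK LD1_c3 LD2_c8 LD3_c4) (LK LD1_c6 LD2_c20 LD3_c54) Lrfl Lrfl
theorem f209673 : Led Lsl_et (LP (LK LD1_c12 LD2_c15 LD3_c57)) = (LP (LK LD1_c6 LD2_c20 LD3_c54)) :=
  Lre_e IH (LK LD1_c12 LD2_c15 LD3_c57) (LK LD1_c6 LD2_c20 LD3_c54) Lrfl Lrfl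
theorem f209674 : Led Lsl_dt (LP (LK LD1_c6 LD2_c20 LD3_c54)) = (LP (LK LD1_c3 LD2_c8 LD3_c4)) :=
  Lre_d IH (LK LD1_c6 LD2_c20 LD3_c54) (LK LD1_c3 LD2_c8 LD3_c4) Lrfl Lrfl
theorem f209675 : Led Lsl_ef (LP (LK LD1_c3 LD2_c8 LD3_c4)) = (LP (LK LD1_c3 LD2_c8 LD3_c4)) :=
  Lgr Lrot73 (Lpr_dt (f209672 IH) (Lpr_et (f209671 IH) (Lpr_dt (f209661 IH) (Lpr_et (f209673 IH) (Lpr_dt (f209674 IH) (Lpn (LP (LK LD1_c3 LD2_c8 LD3_c4))))))))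
theorem f431586 : Led Lsl_ff (LP (LK LD1_c2 LD2_c20 LD3_c36)) = (LP (LK LD1_c2 LD2_c20 LD3_c36)) :=
  Lgr Lrot72 (Lpe (K7.f125292 IH) (Lpe (f431580 IH) (Lpe (f209675 IH) (Lpr_ft (f431584 IH) (Lpr_et (K5.f125290 IH) (Lpn (LP (LK LD1_c2 LD2_c20 LD3_c36))))))))
theorem f431592 : Led Lsl_at (LP (LK LD1_c2 LD2_c20 LD3_c36)) = (LP (LK LD1_c2 LD2_c19 LD3_c52)) :=
  Lgr Lrot26 (Lpr_ff (f431586 IH) (Lpr_gt (K5.f102287 IH) (Lpr_gt (K7.f152943 IH) (Lpn (LP (LK LD1_c2 LD2_c19 LD3_c52))))))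
theorem f152510 : Led Lsl_bt (LP (LK LD1_c1 LD2_c7 LD3_c10)) = (LP (LK LD1_c2 LD2_c19 LD3_c52)) :=
  Lre_b IH (LK LD1_c1 LD2_c7 LD3_c10) (LK LD1_c2 LD2_c19 LD3_c52) Lrfl Lrfl
theorem f152511 : Led Lsl_et (LP (LK LD1_c2 LD2_c19 LD3_c52)) = (LP (LK LD1_c3 LD2_c7 LD3_c24)) :=
  Lgr Lrot74 (Lpe (f152510 IH) (Lpr_ef (K7.f152508 IH) (Lpe (K7.f104639 IH) (Lpn (LP (LK LD1_c3 LD2_c7 LD3_c24))))))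
theorem f431596 : Led Lsl_af (LP (LK LD1_c4 LD2_c40 LD3_c11)) = (LP (LK LD1_c3 LD2_c7 LD3_c24)) :=
  Lgr Lrot50 (Lpr_et (K5.f125290 IH) (Lpr_at (f431592 IH) (Lpr_et (f152511 IH) (Lpn (LP (LK LD1_c3 LD2_c7 LD3_c24))))))
theorem f431602 : Led Lsl_ft (LP (LK LD1_c1 LD2_c30 LD3_c14)) = (LP (LK LD1_c3 LD2_c7 LD3_c24)) :=
  Lgr Lrot101 (Lpe (f209677 IH) (Lpr_ff (f431580 IH) (Lpr_af (f431596 IH) (Lpn (LP (LK LD1_c3 LD2_c7 LD3_c24))))))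
theorem f431590 : Led Lsl_ft (LP (LK LD1_c2 LD2_c19 LD3_c52)) = (LP (LK LD1_c2 LD2_c19 LD3_c52)) :=
  Lgr Lrot4 (Lpe (K11.f152931 IH) (Lpr_ff (f431586 IH) (Lpr_cf (K7.f152929 IH) (Lpn (LP (LK LD1_c2 LD2_c19 LD3_c52))))))
theorem f431610 : Led Lsl_ff (LP (LK LD1_c1 LD2_c30 LD3_c14)) = (LP (LK LD1_c3 LD2_c7 LD3_c24)) :=
  Lgr Lrot72 (Lpr_et (K11.f209642 IH) (Lpr_ft (f431602 IH) (Lpe (K7.f152516 IH) (Lpr_ft (f431590 IH) (Lpr_et (f152511 IH) (Lpn (LP (LK LD1_c3 LD2_c7 LD3_c24))))))))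
theorem f209678 : Led Lsl_at (LP (LK LD1_c1 LD2_c30 LD3_c14)) = (LP (LK LD1_c3 LD2_c8 LD3_c4)) :=
  Lre_a IH (LK LD1_c1 LD2_c30 LD3_c14) (LK LD1_c3 LD2_c8 LD3_c4) Lrfl Lrfl
theorem f431618 : Led Lsl_gf (LP (LK LD1_c3 LD2_c8 LD3_c4)) = (LP (LK LD1_c3 LD2_c9 LD3_c32)) :=
  Lgr Lrot76 (Lpe (f209678 IH) (Lpr_ff (f431610 IH) (Lpr_gt (K7.f153149 IH) (Lpn (LP (LK LD1_c3 LD2_c9 LD3_c32))))))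
theorem f153167 : Led Lsl_et (LP (LK LD1_c3 LD2_c6 LD3_c0)) = (LP (LK LD1_c3 LD2_c9 LD3_c32)) :=
  Lgr Lrot87 (Lpr_ef (K7.f153163 IH) (Lpn (LP (LK LD1_c3 LD2_c9 LD3_c32))))
theorem f113411 : Led Lsl_ft (LP (LK LD1_c1 LD2_c28 LD3_c61)) = (LP (LK LD1_c1 LD2_c5 LD3_c33)) :=
  Lgr Lrot4 (Lpe (K4.f58190 IH) (Lpr_ff (K4.f113372 IH) (Lpe (K2.f13668 IH) (Lpn (LP (LK LD1_c1 LD2_c5 LD3_c33))))))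
theorem f113897 : Led Lsl_ff (LP (LK LD1_c2 LD2_c21 LD3_c40)) = (LP (LK LD1_c2 LD2_c17 LD3_c13)) :=
  Lgr Lrot25 (Lpe (K3.f86316 IH) (Lpr_ft (K4.f113895 IH) (Lpe (K5.f77884 IH) (Lpn (LP (LK LD1_c2 LD2_c17 LD3_c13))))))
theorem f431287 : Led Lsl_ef (LP (LK LD1_c3 LD2_c8 LD3_c3)) = (LP (LK LD1_c2 LD2_c21 LD3_c40)) :=
  Lgr Lrot21 (Lpr_ft (K11.f431283 IH) (Lpr_et (K4.f61229 IH) (Lpr_ft (f113411 IH) (Lpr_et (K2.f77898 IH) (Lpe (f113897 IH) (Lpn (LP (LK LD1_c2 LD2_c21 LD3_c40))))))))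
theorem f431628 : Led Lsl_gt (LP (LK LD1_c6 LD2_c20 LD3_c54)) = (LP (LK LD1_c4 LD2_c47 LD3_c33)) :=
  Lgr Lrot139 (Lpe (f209672 IH) (Lpr_gf (f431618 IH) (Lpe (f153167 IH) (Lpr_dt (K5.f78271 IH) (Lpe (K11.f431298 IH) (Lpe (K11.f209667 IH) (Lpr_et (K11.f209642 IH) (Lpe (K11.f133697 IH) (Lpr_ef (f431287 IH) (Lpr_dt (K7.f58165 IH) (Lpn (LP (LK LD1_c4 LD2_c47 LD3_c33)))))))))))))
theorem f431632 : Led Lsl_bf (LP (LK LD1_c6 LD2_c20 LD3_c54)) = (LP (LK LD1_c6 LD2_c59 LD3_c4)) :=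
  Lgr Lrot165 (Lpr_gt (f431628 IH) (Lpe (K7.f152967 IH) (Lpr_gt (K7.f152852 IH) (Lpe (K7.f152814 IH) (Lpr_bt (K7.f152813 IH) (Lpe (K7.f152309 IH) (Lpe (K6.f62356 IH) (Lpr_ct (K5.f62360 IH) (Lpr_gt (K6.f62409 IH) (Lpe (K7.f145750 IH) (Lpn (LP (LK LD1_c6 LD2_c59 LD3_c4)))))))))))))
theorem f431582 : Led Lsl_ft (LP (LK LD1_c6 LD2_c20 LD3_c54)) = (LP (LK LD1_c9 LD2_c15 LD3_c46)) :=
  Lgr Lrot54 (Lpe (f209672 IH) (Lpr_ff (f431580 IH) (Lpe (K7.f125289 IH) (Lpn (LP (LK LD1_c9 LD2_c15 LD3_c46))))))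
theorem f145713 : Led Lsl_dt (LP (LK LD1_c3 LD2_c7 LD3_c61)) = (LP (LK LD1_c6 LD2_c20 LD3_c52)) :=
  Lre_d IH (LK LD1_c3 LD2_c7 LD3_c61) (LK LD1_c6 LD2_c20 LD3_c52) Lrfl Lrfl
theorem f145714 : Led Lsl_ff (LP (LK LD1_c6 LD2_c59 LD3_c4)) = (LP (LK LD1_c6 LD2_c20 LD3_c52)) :=
  Lgr Lrot19 (Lpr_dt (K11.f133812 IH) (Lpr_ft (K6.f145644 IH) (Lpr_dt (f145713 IH) (Lpn (LP (LK LD1_c6 LD2_c20 LD3_c52))))))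
theorem f431640 : Led Lsl_bt (LP (LK LD1_c9 LD2_c15 LD3_c46)) = (LP (LK LD1_c6 LD2_c20 LD3_c52)) :=
  Lgr Lrot35 (Lpe (f431582 IH) (Lpr_bf (f431632 IH) (Lpr_ff (f145714 IH) (Lpn (LP (LK LD1_c6 LD2_c20 LD3_c52))))))
theorem f76746 : Led Lsl_ct (LP (LK LD1_c3 LD2_c23 LD3_c59)) = (LP (LK LD1_c6 LD2_c50 LD3_c58)) :=
  Lre_c IH (LK LD1_c3 LD2_c23 LD3_c59) (LK LD1_c6 LD2_c50 LD3_c58) Lrfl Lrfl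
theorem f431646 : Led Lsl_gt (LP (LK LD1_c6 LD2_c19 LD3_c13)) = (LP (LK LD1_c6 LD2_c20 LD3_c52)) :=
  Lgr Lrot164 (Lpr_bf (K6.f126634 IH) (Lpr_ct (f76746 IH) (Lpe (K7.f156017 IH) (Lpe (K7.f156014 IH) (Lpr_gf (K7.f156022 IH) (Lpe (K7.f102188 IH) (Lpr_ct (K5.f7476 IH) (Lpe (K5.f102204 IH) (Lpr_cf (K5.f125306 IH) (Lpr_bt (f431640 IH) (Lpn (LP (LK LD1_c6 LD2_c20 LD3_c52)))))))))))))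
theorem f431656 : Led Lsl_ef (LP (LK LD1_c1 LD2_c34 LD3_c5)) = (LP (LK LD1_c3 LD2_c7 LD3_c61)) :=
  Lgr Lrot114 (Lpr_gt (K11.f430285 IH) (Lpe (K2.f85061 IH) (Lpr_dt (K7.f104192 IH) (Lpe (K5.f116722 IH) (Lpe (K4.f25032 IH) (Lpr_et (K5.f62634 IH) (Lpr_gt (K5.f62620 IH) (Lpr_dt (K6.f62621 IH) (Lpr_gt (f431646 IH) (Lpe (f145713 IH) (Lpn (LP (LK LD1_c3 LD2_c7 LD3_c61)))))))))))))
theorem f431665 : Led Lsl_et (LP (LK LD1_c1 LD2_c34 LD3_c5)) = (LP (LK LD1_c3 LD2_c7 LD3_c61)) :=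
  Lgr Lrot87 (Lpr_ef (f431656 IH) (Lpn (LP (LK LD1_c3 LD2_c7 LD3_c61))))
theorem f24292 : Led Lsl_ct (LP (LK LD1_c0 LD2_c43 LD3_c39)) = (LP (LK LD1_c1 LD2_c34 LD3_c5)) :=
  Lre_c IH (LK LD1_c0 LD2_c43 LD3_c39) (LK LD1_c1 LD2_c34 LD3_c5) Lrfl Lrfl
theorem f126571 : Led Lsl_et (LP (LK LD1_c1 LD2_c34 LD3_c6)) = (LP (LK LD1_c0 LD2_c43 LD3_c39)) :=
  Lre_e IH (LK LD1_c1 LD2_c34 LD3_c6) (LK LD1_c0 LD2_c43 LD3_c39) Lrfl Lrfl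
theorem f431669 : Led Lsl_cf (LP (LK LD1_c1 LD2_c34 LD3_c6)) = (LP (LK LD1_c3 LD2_c7 LD3_c61)) :=
  Lgr Lrot39 (Lpr_et (f126571 IH) (Lpr_ct (f24292 IH) (Lpr_et (f431665 IH) (Lpn (LP (LK LD1_c3 LD2_c7 LD3_c61))))))
theorem f431644 : Led Lsl_bf (LP (LK LD1_c4 LD2_c40 LD3_c11)) = (LP (LK LD1_c3 LD2_c7 LD3_c61)) :=
  Lgr Lrot93 (Lpr_dt (K5.f66792 IH) (Lpr_bt (f431640 IH) (Lpr_dt (K6.f145719 IH) (Lpn (LP (LK LD1_c3 LD2_c7 LD3_c61))))))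
theorem f431677 : Led Lsl_gf (LP (LK LD1_c1 LD2_c34 LD3_c6)) = (LP (LK LD1_c0 LD2_c45 LD3_c16)) :=
  Lgr Lrot129 (Lpr_cf (f431669 IH) (Lpe (f431644 IH) (Lpe (f431578 IH) (Lpr_bf (K11.f431275 IH) (Lpr_ct (K11.f153405 IH) (Lpe (K11.f431158 IH) (Lpr_cf (K11.f431160 IH) (Lpr_bt (K11.f135815 IH) (Lpr_gt (K11.f113135 IH) (Lpe (K11.f135813 IH) (Lpn (LP (LK LD1_c0 LD2_c45 LD3_c16)))))))))))))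
theorem f431662 : Led Lsl_et (LP (LK LD1_c0 LD2_c43 LD3_c39)) = (LP (LK LD1_c1 LD2_c34 LD3_c6)) :=
  Lre_e IH (LK LD1_c0 LD2_c43 LD3_c39) (LK LD1_c1 LD2_c34 LD3_c6) Lrfl Lrfl
theorem f431663 : Led Lsl_ct (LP (LK LD1_c1 LD2_c34 LD3_c6)) = (LP (LK LD1_c3 LD2_c7 LD3_c61)) :=
  Lgr Lrot15 (Lpe (f431662 IH) (Lpe (K11.f24293 IH) (Lpr_ef (f431656 IH) (Lpn (LP (LK LD1_c3 LD2_c7 LD3_c61))))))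
theorem f133722 : Led Lsl_af (LP (LK LD1_c3 LD2_c1 LD3_c17)) = (LP (LK LD1_c3 LD2_c1 LD3_c14)) :=
  Lgr Lrot45 (Lpr_ft (K5.f133707 IH) (Lpe (K3.f107433 IH) (Lpr_ft (K5.f125356 IH) (Lpn (LP (LK LD1_c3 LD2_c1 LD3_c14))))))
theorem f143747 : Led Lsl_gf (LP (LK LD1_c3 LD2_c1 LD3_c17)) = (LP (LK LD1_c1 LD2_c37 LD3_c44)) :=
  Lgr Lrot76 (Lpr_af (f133722 IH) (Lpe (K5.f125356 IH) (Lpr_gt (K6.f143745 IH) (Lpn (LP (LK LD1_c1 LD2_c37 LD3_c44))))))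
theorem f133748 : Led Lsl_dt (LP (LK LD1_c9 LD2_c20 LD3_c55)) = (LP (LK LD1_c17 LD2_c16 LD3_c54)) :=
  Lre_d IH (LK LD1_c9 LD2_c20 LD3_c55) (LK LD1_c17 LD2_c16 LD3_c54) Lrfl Lrfl
theorem f134425 : Led Lsl_ct (LP (LK LD1_c17 LD2_c16 LD3_c54)) = (LP (LK LD1_c12 LD2_c33 LD3_c26)) :=
  Lgr Lrot59 (Lpr_cf (K7.f134421 IH) (Lpn (LP (LK LD1_c12 LD2_c33 LD3_c26))))
theorem f145602 : Led Lsl_gf (LP (LK LD1_c6 LD2_c33 LD3_c4)) = (LP (LK LD1_c6 LD2_c9 LD3_c36)) :=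
  Lgr Lrot143 (Lpr_dt (K7.f134412 IH) (Lpe (f134425 IH) (Lpe (f133748 IH) (Lpe (K6.f120064 IH) (Lpe (K5.f107484 IH) (Lpe (K6.f120060 IH) (Lpr_cf (K6.f145594 IH) (Lpe (K6.f134145 IH) (Lpr_dt (K6.f126673 IH) (Lpn (LP (LK LD1_c6 LD2_c9 LD3_c36))))))))))))
theorem f431679 : Led Lsl_gt (LP (LK LD1_c3 LD2_c7 LD3_c61)) = (LP (LK LD1_c3 LD2_c28 LD3_c38)) :=
  Lgr Lrot150 (Lpe (f431663 IH) (Lpr_gf (f431677 IH) (Lpe (K6.f113130 IH) (Lpe (f143747 IH) (Lpr_ct (K5.f57568 IH) (Lpe (f145602 IH) (Lpe (K7.f134130 IH) (Lpr_df (K7.f145687 IH) (Lpe (K7.f145677 IH) (Lpn (LP (LK LD1_c3 LD2_c28 LD3_c38))))))))))))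
theorem f431683 : Led Lsl_bt (LP (LK LD1_c3 LD2_c7 LD3_c60)) = (LP (LK LD1_c1 LD2_c30 LD3_c42)) :=
  Lgr Lrot22 (Lpe (K11.f145709 IH) (Lpe (f431679 IH) (Lpe (f431663 IH) (Lpr_gf (f431677 IH) (Lpe (K6.f20925 IH) (Lpr_ct (K6.f20907 IH) (Lpe (K1.f9691 IH) (Lpe (K1.f67083 IH) (Lpr_bt (K7.f67138 IH) (Lpe (K7.f154813 IH) (Lpn (LP (LK LD1_c1 LD2_c30 LD3_c42)))))))))))))
theorem f154959 : Led Lsl_dt (LP (LK LD1_c1 LD2_c30 LD3_c42)) = (LP (LK LD1_c3 LD2_c9 LD3_c4)) :=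
  Lre_d IH (LK LD1_c1 LD2_c30 LD3_c42) (LK LD1_c3 LD2_c9 LD3_c4) Lrfl Lrfl
theorem f431687 : Led Lsl_bf (LP (LK LD1_c6 LD2_c19 LD3_c14)) = (LP (LK LD1_c3 LD2_c9 LD3_c4)) :=
  Lgr Lrot93 (Lpr_dt (K7.f145679 IH) (Lpr_bt (f431683 IH) (Lpr_dt (f154959 IH) (Lpn (LP (LK LD1_c3 LD2_c9 LD3_c4))))))
theorem f431696 : Led Lsl_ft (LP (LK LD1_c3 LD2_c11 LD3_c41)) = (LP (LK LD1_c3 LD2_c9 LD3_c4)) :=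
  Lgr Lrot75 (Lpe (K3.f76775 IH) (Lpr_ff (K7.f134119 IH) (Lpr_bf (f431687 IH) (Lpn (LP (LK LD1_c3 LD2_c9 LD3_c4))))))
theorem f431701 : Led Lsl_ff (LP (LK LD1_c3 LD2_c11 LD3_c41)) = (LP (LK LD1_c3 LD2_c9 LD3_c4)) :=
  Lgr Lrot3 (Lpr_ft (f431696 IH) (Lpn (LP (LK LD1_c3 LD2_c9 LD3_c4))))
theorem f431703 : Led Lsl_at (LP (LK LD1_c3 LD2_c11 LD3_c40)) = (LP (LK LD1_c3 LD2_c9 LD3_c4)) :=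
  Lgr Lrot66 (Lpr_ff (K6.f90410 IH) (Lpr_af (K3.f90136 IH) (Lpr_ff (f431701 IH) (Lpn (LP (LK LD1_c3 LD2_c9 LD3_c4))))))
theorem f17272 : Led Lsl_dt (LP (LK LD1_c3 LD2_c27 LD3_c55)) = (LP (LK LD1_c6 LD2_c58 LD3_c0)) :=
  Lre_d IH (LK LD1_c3 LD2_c27 LD3_c55) (LK LD1_c6 LD2_c58 LD3_c0) Lrfl Lrfl
theorem f155052 : Led Lsl_ct (LP (LK LD1_c6 LD2_c22 LD3_c45)) = (LP (LK LD1_c3 LD2_c9 LD3_c4)) :=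
  Lre_c IH (LK LD1_c6 LD2_c22 LD3_c45) (LK LD1_c3 LD2_c9 LD3_c4) Lrfl Lrfl
theorem f156170 : Led Lsl_dt (LP (LK LD1_c12 LD2_c18 LD3_c60)) = (LP (LK LD1_c6 LD2_c22 LD3_c45)) :=
  Lre_d IH (LK LD1_c12 LD2_c18 LD3_c60) (LK LD1_c6 LD2_c22 LD3_c45) Lrfl Lrfl
theorem f431747 : Led Lsl_ct (LP (LK LD1_c6 LD2_c58 LD3_c0)) = (LP (LK LD1_c12 LD2_c18 LD3_c60)) :=
  Lgr Lrot53 (Lpe (f17272 IH) (Lpe (K3.f106109 IH) (Lpe (K2.f19409 IH) (Lpe (K2.f90106 IH) (Lpe (K3.f90129 IH) (Lpe (K6.f90410 IH) (Lpr_at (f431703 IH) (Lpe (f155052 IH) (Lpe (f156170 IH) (Lpn (LP (LK LD1_c12 LD2_c18 LD3_c60))))))))))))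
theorem f155040 : Led Lsl_ct (LP (LK LD1_c3 LD2_c9 LD3_c4)) = (LP (LK LD1_c6 LD2_c22 LD3_c45)) :=
  Lre_c IH (LK LD1_c3 LD2_c9 LD3_c4) (LK LD1_c6 LD2_c22 LD3_c45) Lrfl Lrfl
theorem f154975 : Led Lsl_ct (LP (LK LD1_c7 LD2_c11 LD3_c28)) = (LP (LK LD1_c3 LD2_c35 LD3_c14)) :=
  Lre_c IH (LK LD1_c7 LD2_c11 LD3_c28) (LK LD1_c3 LD2_c35 LD3_c14) Lrfl Lrfl
theorem f434776 : Led Lsl_gt (LP (LK LD1_c12 LD2_c19 LD3_c17)) = (LP (LK LD1_c7 LD2_c11 LD3_c28)) :=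
  Lgr Lrot9 (Lpe (f156137 IH) (Lpe (K5.f83664 IH) (Lpr_ct (K2.f67912 IH) (Lpe (f155050 IH) (Lpr_ct (f155040 IH) (Lpe (f156170 IH) (Lpe (f431747 IH) (Lpr_gf (f434772 IH) (Lpe (f154975 IH) (Lpn (LP (LK LD1_c7 LD2_c11 LD3_c28))))))))))))
theorem f83473 : Led Lsl_ct (LP (LK LD1_c1 LD2_c30 LD3_c47)) = (LP (LK LD1_c3 LD2_c9 LD3_c15)) :=
  Lre_c IH (LK LD1_c1 LD2_c30 LD3_c47) (LK LD1_c3 LD2_c9 LD3_c15) Lrfl Lrfl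
theorem f446905 : Led Lsl_gf (LP (LK LD1_c1 LD2_c44 LD3_c20)) = (LP (LK LD1_c1 LD2_c29 LD3_c31)) :=
  Lgr Lrot143 (Lpr_dt (f434300 IH) (Lpe (f446893 IH) (Lpr_df (f446894 IH) (Lpe (f434776 IH) (Lpe (f156137 IH) (Lpe (K5.f83663 IH) (Lpe (f83473 IH) (Lpr_gt (K2.f90610 IH) (Lpr_dt (K3.f90129 IH) (Lpn (LP (LK LD1_c1 LD2_c29 LD3_c31))))))))))))
theorem f446917 : Led Lsl_gt (LP (LK LD1_c3 LD2_c35 LD3_c7)) = (LP (LK LD1_c3 LD2_c6 LD3_c51)) :=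
  Lgr Lrot139 (Lpe (f434300 IH) (Lpr_gf (f446905 IH) (Lpe (K2.f90105 IH) (Lpe (K3.f90567 IH) (Lpe (K2.f59568 IH) (Lpe (K0.f14554 IH) (Lpr_et (K2.f76873 IH) (Lpe (K2.f68352 IH) (Lpe (K7.f68356 IH) (Lpr_dt (K3.f68357 IH) (Lpn (LP (LK LD1_c3 LD2_c6 LD3_c51)))))))))))))
theorem f446907 : Led Lsl_ct (LP (LK LD1_c3 LD2_c35 LD3_c7)) = (LP (LK LD1_c7 LD2_c11 LD3_c21)) :=
  Lre_c IH (LK LD1_c3 LD2_c35 LD3_c7) (LK LD1_c7 LD2_c11 LD3_c21) Lrfl Lrfl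
theorem f83454 : Led Lsl_dt (LP (LK LD1_c6 LD2_c27 LD3_c39)) = (LP (LK LD1_c3 LD2_c11 LD3_c42)) :=
  Lre_d IH (LK LD1_c6 LD2_c27 LD3_c39) (LK LD1_c3 LD2_c11 LD3_c42) Lrfl Lrfl
theorem f430130 : Led Lsl_ft (LP (LK LD1_c3 LD2_c35 LD3_c6)) = (LP (LK LD1_c3 LD2_c24 LD3_c21)) :=
  Lgr Lrot54 (Lpe (K11.f430129 IH) (Lpr_ff (K7.f430125 IH) (Lpe (K5.f92263 IH) (Lpn (LP (LK LD1_c3 LD2_c24 LD3_c21))))))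
theorem f432600 : Led Lsl_gt (LP (LK LD1_c3 LD2_c35 LD3_c6)) = (LP (LK LD1_c3 LD2_c25 LD3_c30)) :=
  Lgr Lrot5 (Lpr_ft (f430130 IH) (Lpe (K7.f156221 IH) (Lpr_gf (K7.f94345 IH) (Lpn (LP (LK LD1_c3 LD2_c25 LD3_c30))))))
theorem f430158 : Led Lsl_cf (LP (LK LD1_c3 LD2_c35 LD3_c6)) = (LP (LK LD1_c6 LD2_c27 LD3_c36)) :=
  Lgr Lrot11 (Lpr_ct (K7.f430154 IH) (Lpn (LP (LK LD1_c6 LD2_c27 LD3_c36))))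
theorem f19211 : Led Lsl_at (LP (LK LD1_c6 LD2_c52 LD3_c60)) = (LP (LK LD1_c3 LD2_c27 LD3_c58)) :=
  Lre_a IH (LK LD1_c6 LD2_c52 LD3_c60) (LK LD1_c3 LD2_c27 LD3_c58) Lrfl Lrfl
theorem f68115 : Led Lsl_at (LP (LK LD1_c6 LD2_c58 LD3_c6)) = (LP (LK LD1_c6 LD2_c27 LD3_c39)) :=
  Lgr Lrot107 (Lpe (K2.f19251 IH) (Lpe (f19211 IH) (Lpr_cf (K2.f68113 IH) (Lpn (LP (LK LD1_c6 LD2_c27 LD3_c39))))))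
theorem f19252 : Led Lsl_ff (LP (LK LD1_c7 LD2_c5 LD3_c25)) = (LP (LK LD1_c6 LD2_c58 LD3_c6)) :=
  Lgr Lrot23 (Lpr_ct (K7.f19184 IH) (Lpr_ft (K7.f19244 IH) (Lpr_ct (K2.f19251 IH) (Lpn (LP (LK LD1_c6 LD2_c58 LD3_c6))))))
theorem f19272 : Led Lsl_ft (LP (LK LD1_c7 LD2_c5 LD3_c25)) = (LP (LK LD1_c6 LD2_c58 LD3_c6)) :=
  Lgr Lrot48 (Lpr_ff (f19252 IH) (Lpn (LP (LK LD1_c6 LD2_c58 LD3_c6))))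
theorem f83446 : Led Lsl_af (LP (LK LD1_c7 LD2_c5 LD3_c25)) = (LP (LK LD1_c6 LD2_c23 LD3_c13)) :=
  Lgr Lrot45 (Lpr_ft (f19272 IH) (Lpr_at (f68115 IH) (Lpr_ft (K2.f83442 IH) (Lpn (LP (LK LD1_c6 LD2_c23 LD3_c13))))))
theorem f154794 : Led Lsl_gt (LP (LK LD1_c6 LD2_c27 LD3_c39)) = (LP (LK LD1_c12 LD2_c19 LD3_c8)) :=
  Lgr Lrot5 (Lpr_ft (K2.f83442 IH) (Lpe (f83446 IH) (Lpr_gf (K7.f154790 IH) (Lpn (LP (LK LD1_c12 LD2_c19 LD3_c8))))))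
theorem f91624 : Led Lsl_gt (LP (LK LD1_c6 LD2_c51 LD3_c31)) = (LP (LK LD1_c13 LD2_c2 LD3_c45)) :=
  Lre_g IH (LK LD1_c6 LD2_c51 LD3_c31) (LK LD1_c13 LD2_c2 LD3_c45) Lrfl Lrfl
theorem f121342 : Led Lsl_ct (LP (LK LD1_c3 LD2_c25 LD3_c30)) = (LP (LK LD1_c6 LD2_c53 LD3_c4)) :=
  Lre_c IH (LK LD1_c3 LD2_c25 LD3_c30) (LK LD1_c6 LD2_c53 LD3_c4) Lrfl Lrfl
theorem f124302 : Led Lsl_dt (LP (LK LD1_c13 LD2_c5 LD3_c11)) = (LP (LK LD1_c6 LD2_c53 LD3_c4)) :=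
  Lre_d IH (LK LD1_c13 LD2_c5 LD3_c11) (LK LD1_c6 LD2_c53 LD3_c4) Lrfl Lrfl
theorem f432606 : Led Lsl_ct (LP (LK LD1_c13 LD2_c2 LD3_c45)) = (LP (LK LD1_c13 LD2_c5 LD3_c11)) :=
  Lgr Lrot110 (Lpe (f91624 IH) (Lpr_cf (K7.f154704 IH) (Lpe (f154794 IH) (Lpe (K2.f68112 IH) (Lpr_gt (K7.f68095 IH) (Lpe (f430158 IH) (Lpr_gt (f432600 IH) (Lpr_ct (f121342 IH) (Lpe (f124302 IH) (Lpn (LP (LK LD1_c13 LD2_c5 LD3_c11))))))))))))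
theorem f106155 : Led Lsl_ct (LP (LK LD1_c6 LD2_c53 LD3_c4)) = (LP (LK LD1_c3 LD2_c25 LD3_c30)) :=
  Lre_c IH (LK LD1_c6 LD2_c53 LD3_c4) (LK LD1_c3 LD2_c25 LD3_c30) Lrfl Lrfl
theorem f26126 : Led Lsl_dt (LP (LK LD1_c3 LD2_c25 LD3_c30)) = (LP (LK LD1_c1 LD2_c39 LD3_c23)) :=
  Lre_d IH (LK LD1_c3 LD2_c25 LD3_c30) (LK LD1_c1 LD2_c39 LD3_c23) Lrfl Lrfl
theorem f432612 : Led Lsl_df (LP (LK LD1_c13 LD2_c2 LD3_c45)) = (LP (LK LD1_c7 LD2_c5 LD3_c13)) :=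
  Lgr Lrot157 (Lpr_ct (f432606 IH) (Lpr_dt (f124302 IH) (Lpr_ct (f106155 IH) (Lpr_dt (f26126 IH) (Lpr_ct (K4.f120836 IH) (Lpr_dt (K4.f120861 IH) (Lpr_ct (K5.f120869 IH) (Lpe (K5.f124967 IH) (Lpr_ff (K5.f124961 IH) (Lpn (LP (LK LD1_c7 LD2_c5 LD3_c13))))))))))))
theorem f12627 : Led Lsl_dt (LP (LK LD1_c0 LD2_c47 LD3_c54)) = (LP (LK LD1_c1 LD2_c42 LD3_c37)) :=
  Lre_d IH (LK LD1_c0 LD2_c47 LD3_c54) (LK LD1_c1 LD2_c42 LD3_c37) Lrfl Lrfl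
theorem f432619 : Led Lsl_gt (LP (LK LD1_c13 LD2_c2 LD3_c45)) = (LP (LK LD1_c7 LD2_c5 LD3_c19)) :=
  Lgr Lrot49 (Lpr_df (f432612 IH) (Lpe (K5.f64371 IH) (Lpe (K5.f64373 IH) (Lpe (K2.f64365 IH) (Lpr_dt (K7.f18134 IH) (Lpr_gt (K4.f12626 IH) (Lpr_dt (f12627 IH) (Lpe (K7.f64372 IH) (Lpe (K7.f64369 IH) (Lpn (LP (LK LD1_c7 LD2_c5 LD3_c19))))))))))))
theorem f154676 : Led Lsl_cf (LP (LK LD1_c12 LD2_c19 LD3_c10)) = (LP (LK LD1_c7 LD2_c5 LD3_c19)) :=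
  Lgr Lrot11 (Lpr_ct (K7.f154665 IH) (Lpn (LP (LK LD1_c7 LD2_c5 LD3_c19))))
theorem f432621 : Led Lsl_gt (LP (LK LD1_c12 LD2_c19 LD3_c10)) = (LP (LK LD1_c6 LD2_c27 LD3_c39)) :=
  Lgr Lrot150 (Lpr_cf (f154676 IH) (Lpe (f432619 IH) (Lpr_df (f432612 IH) (Lpe (K5.f115100 IH) (Lpr_ct (K5.f19334 IH) (Lpr_gt (K3.f19331 IH) (Lpr_ct (K3.f9832 IH) (Lpe (K2.f9838 IH) (Lpr_cf (K2.f68113 IH) (Lpn (LP (LK LD1_c6 LD2_c27 LD3_c39))))))))))))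
theorem f446923 : Led Lsl_gt (LP (LK LD1_c7 LD2_c11 LD3_c21)) = (LP (LK LD1_c6 LD2_c22 LD3_c52)) :=
  Lgr Lrot94 (Lpe (f446907 IH) (Lpr_gt (f446917 IH) (Lpr_dt (K6.f83815 IH) (Lpe (K3.f94038 IH) (Lpr_dt (K2.f68110 IH) (Lpe (K7.f83455 IH) (Lpe (f83454 IH) (Lpe (f432621 IH) (Lpe (K7.f154659 IH) (Lpn (LP (LK LD1_c6 LD2_c22 LD3_c52))))))))))))
theorem f126091 : Led Lsl_dt (LP (LK LD1_c3 LD2_c31 LD3_c55)) = (LP (LK LD1_c7 LD2_c5 LD3_c19)) :=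
  Lre_d IH (LK LD1_c3 LD2_c31 LD3_c55) (LK LD1_c7 LD2_c5 LD3_c19) Lrfl Lrfl
theorem f447615 : Led Lsl_gt (LP (LK LD1_c6 LD2_c51 LD3_c29)) = (LP (LK LD1_c3 LD2_c31 LD3_c55)) :=
  Lgr Lrot49 (Lpe (f434852 IH) (Lpe (f115420 IH) (Lpr_cf (f156151 IH) (Lpr_gt (f434776 IH) (Lpe (f446894 IH) (Lpr_gt (f446923 IH) (Lpr_dt (K7.f154659 IH) (Lpr_cf (f154676 IH) (Lpe (f126091 IH) (Lpn (LP (LK LD1_c3 LD2_c31 LD3_c55))))))))))))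
theorem f514568 : Led Lsl_df (LP (LK LD1_c1 LD2_c42 LD3_c4)) = v2313 :=
  Lgr Lrot38 (Lpr_dt (f514565 IH) (Lpn v2313))
theorem f120867 : Led Lsl_gt (LP (LK LD1_c1 LD2_c42 LD3_c4)) = (LP (LK LD1_c0 LD2_c50 LD3_c52)) :=
  Lgr Lrot94 (Lpe (K7.f94115 IH) (Lpr_gt (K2.f11933 IH) (Lpr_dt (K2.f83594 IH) (Lpr_gt (K2.f90610 IH) (Lpr_dt (K3.f90129 IH) (Lpr_cf (K2.f90127 IH) (Lpe (K3.f19403 IH) (Lpr_gf (K4.f120862 IH) (Lpe (K4.f120861 IH) (Lpn (LP (LK LD1_c0 LD2_c50 LD3_c52))))))))))))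
theorem f514572 : Led Lsl_gt (LP (LK LD1_c7 LD2_c5 LD3_c19)) = (LP (LK LD1_c7 LD2_c25 LD3_c38)) :=
  Lgr Lrot49 (Lpe (f126091 IH) (Lpe (f447615 IH) (Lpe (f434854 IH) (Lpr_gt (f514570 IH) (Lpe (f514568 IH) (Lpr_gt (f120867 IH) (Lpr_dt (K4.f120861 IH) (Lpe (K5.f120866 IH) (Lpe (K7.f124268 IH) (Lpn (LP (LK LD1_c7 LD2_c25 LD3_c38))))))))))))
theorem f514573 : Led Lsl_gt (LP (LK LD1_c7 LD2_c5 LD3_c19)) = (LP (LK LD1_c7 LD2_c25 LD3_c38)) :=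
  Leop (Lpe (f514572 IH) (Lpn (LP (LK LD1_c7 LD2_c5 LD3_c19))))
theorem seed_169 : LEOK LG_g (LK LD1_c7 LD2_c5 LD3_c19) :=
  Leoe_g (LK LD1_c7 LD2_c5 LD3_c19) (f514573 IH)
def v2351 : LQ := Led Lsl_gf (LP (LK LD1_c1 LD2_c43 LD3_c9))
theorem f514774 : Led Lsl_gf (LP (LK LD1_c1 LD2_c43 LD3_c9)) = v2351 :=
  Lrfl
theorem f10248 : Led Lsl_dt (LP (LK LD1_c0 LD2_c48 LD3_c12)) = (LP (LK LD1_c1 LD2_c43 LD3_c9)) :=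
  Lre_d IH (LK LD1_c0 LD2_c48 LD3_c12) (LK LD1_c1 LD2_c43 LD3_c9) Lrfl Lrfl
theorem f10247 : Led Lsl_et (LP (LK LD1_c0 LD2_c48 LD3_c12)) = (LP (LK LD1_c0 LD2_c21 LD3_c36)) :=
  Lre_e IH (LK LD1_c0 LD2_c48 LD3_c12) (LK LD1_c0 LD2_c21 LD3_c36) Lrfl Lrfl
theorem f4973 : Led Lsl_et (LP (LK LD1_c0 LD2_c10 LD3_c10)) = (LP (LK LD1_c0 LD2_c22 LD3_c36)) :=
  Lre_e IH (LK LD1_c0 LD2_c10 LD3_c10) (LK LD1_c0 LD2_c22 LD3_c36) Lrfl Lrfl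
theorem f5328 : Led Lsl_gt (LP (LK LD1_c0 LD2_c22 LD3_c36)) = (LP (LK LD1_c0 LD2_c50 LD3_c7)) :=
  Lre_g IH (LK LD1_c0 LD2_c22 LD3_c36) (LK LD1_c0 LD2_c50 LD3_c7) Lrfl Lrfl
theorem f17474 : Led Lsl_et (LP (LK LD1_c1 LD2_c46 LD3_c48)) = (LP (LK LD1_c0 LD2_c50 LD3_c7)) :=
  Lre_e IH (LK LD1_c1 LD2_c46 LD3_c48) (LK LD1_c0 LD2_c50 LD3_c7) Lrfl Lrfl
theorem f514776 : Led Lsl_dt (LP (LK LD1_c1 LD2_c46 LD3_c48)) = v2351 :=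
  Lgr Lrot136 (Lpr_et (f17474 IH) (Lpe (f5328 IH) (Lpe (f4973 IH) (Lpr_dt (K0.f4965 IH) (Lpe (K0.f5241 IH) (Lpe (K0.f17463 IH) (Lpe (K2.f10801 IH) (Lpe (f10247 IH) (Lpr_dt (f10248 IH) (Lpr_gf (f514774 IH) (Lpn v2351)))))))))))
theorem f514780 : Led Lsl_df (LP (LK LD1_c1 LD2_c46 LD3_c48)) = v2351 :=
  Lgr Lrot38 (Lpr_dt (f514776 IH) (Lpn v2351))
theorem f514783 : Led Lsl_ct (LP (LK LD1_c1 LD2_c46 LD3_c48)) = (LP (LK LD1_c3 LD2_c39 LD3_c47)) :=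
  Lre_c IH (LK LD1_c1 LD2_c46 LD3_c48) (LK LD1_c3 LD2_c39 LD3_c47) Lrfl Lrfl
theorem f514779 : Led Lsl_dt (LP (LK LD1_c7 LD2_c19 LD3_c49)) = (LP (LK LD1_c3 LD2_c39 LD3_c47)) :=
  Lre_d IH (LK LD1_c7 LD2_c19 LD3_c49) (LK LD1_c3 LD2_c39 LD3_c47) Lrfl Lrfl
theorem f10410 : Led Lsl_at (LP (LK LD1_c0 LD2_c48 LD3_c29)) = (LP (LK LD1_c1 LD2_c43 LD3_c9)) :=
  Lre_a IH (LK LD1_c0 LD2_c48 LD3_c29) (LK LD1_c1 LD2_c43 LD3_c9) Lrfl Lrfl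
def v666 : LQ := Led Lsl_ft (LP (LK LD1_c0 LD2_c48 LD3_c29))
theorem f455857 : Led Lsl_ft (LP (LK LD1_c0 LD2_c48 LD3_c29)) = v666 :=
  Lrfl
theorem f455860 : Led Lsl_ff (LP (LK LD1_c0 LD2_c48 LD3_c29)) = v666 :=
  Lgr Lrot3 (Lpr_ft (f455857 IH) (Lpn v666))
theorem f514775 : Led Lsl_gt v666 = v2351 :=
  Lgr Lrot5 (Lpe (f455860 IH) (Lpr_at (f10410 IH) (Lpr_gf (f514774 IH) (Lpn v2351))))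
theorem f6018 : Led Lsl_dt (LP (LK LD1_c0 LD2_c48 LD3_c29)) = (LP (LK LD1_c0 LD2_c21 LD3_c41)) :=
  Lre_d IH (LK LD1_c0 LD2_c48 LD3_c29) (LK LD1_c0 LD2_c21 LD3_c41) Lrfl Lrfl
theorem f455863 : Led Lsl_dt (LP (LK LD1_c0 LD2_c48 LD3_c30)) = v666 :=
  Lgr Lrot60 (Lpe (K0.f10214 IH) (Lpe (f6018 IH) (Lpr_ff (f455860 IH) (Lpn v666))))
theorem f442120 : Led Lsl_dt (LP (LK LD1_c7 LD2_c6 LD3_c43)) = (LP (LK LD1_c13 LD2_c28 LD3_c35)) :=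
  Lre_d IH (LK LD1_c7 LD2_c6 LD3_c43) (LK LD1_c13 LD2_c28 LD3_c35) Lrfl Lrfl
theorem f514785 : Led Lsl_gf (LP (LK LD1_c7 LD2_c19 LD3_c49)) = (LP (LK LD1_c13 LD2_c28 LD3_c35)) :=
  Lgr Lrot143 (Lpr_dt (f514779 IH) (Lpe (f514783 IH) (Lpr_df (f514780 IH) (Lpe (f514775 IH) (Lpe (f455863 IH) (Lpe (K3.f5969 IH) (Lpe (K28.f6626 IH) (Lpr_gt (K28.f10828 IH) (Lpr_dt (f442120 IH) (Lpn (LP (LK LD1_c13 LD2_c28 LD3_c35))))))))))))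
theorem f514786 : Led Lsl_gt (LP (LK LD1_c13 LD2_c28 LD3_c35)) = (LP (LK LD1_c7 LD2_c19 LD3_c49)) :=
  Leop (Lpr_gf (f514785 IH) (Lpn (LP (LK LD1_c13 LD2_c28 LD3_c35))))
theorem seed_170 : LEOK LG_g (LK LD1_c13 LD2_c28 LD3_c35) :=
  Leoe_g (LK LD1_c13 LD2_c28 LD3_c35) (f514786 IH)
def v2362 : LQ := Led Lsl_ft (LP (LK LD1_c1 LD2_c43 LD3_c42))
theorem f514983 : Led Lsl_ft (LP (LK LD1_c1 LD2_c43 LD3_c42)) = v2362 :=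
  Lrfl
theorem f514986 : Led Lsl_ff (LP (LK LD1_c1 LD2_c43 LD3_c42)) = v2362 :=
  Lgr Lrot3 (Lpr_ft (f514983 IH) (Lpn v2362))
def v664 : LQ := Led Lsl_ft (LP (LK LD1_c0 LD2_c48 LD3_c27))
theorem f455846 : Led Lsl_ft (LP (LK LD1_c0 LD2_c48 LD3_c27)) = v664 :=
  Lrfl
theorem f514988 : Led Lsl_bt v664 = v2362 :=
  Lgr Lrot35 (Lpe (f455846 IH) (Lpe (K24.f5941 IH) (Lpr_ff (f514986 IH) (Lpn v2362))))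
theorem f455848 : Led Lsl_ff (LP (LK LD1_c0 LD2_c48 LD3_c27)) = v664 :=
  Lgr Lrot3 (Lpr_ft (f455846 IH) (Lpn v664))
def v663 : LQ := Led Lsl_at (LP (LK LD1_c0 LD2_c48 LD3_c27))
theorem f455834 : Led Lsl_at (LP (LK LD1_c0 LD2_c48 LD3_c27)) = v663 :=
  Lrfl
theorem f455835 : Led Lsl_af (LP (LK LD1_c0 LD2_c48 LD3_c27)) = v663 :=
  Lgr Lrot0 (Lpr_at (f455834 IH) (Lpn v663))
theorem f455839 : Led Lsl_ft (LP (LK LD1_c0 LD2_c48 LD3_c28)) = v663 :=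
  Lgr Lrot2 (Lpr_gt (K28.f5936 IH) (Lpr_gt (K2.f5940 IH) (Lpr_af (f455835 IH) (Lpn v663))))
theorem f455843 : Led Lsl_ff (LP (LK LD1_c0 LD2_c48 LD3_c28)) = v663 :=
  Lgr Lrot3 (Lpr_ft (f455839 IH) (Lpn v663))
theorem f455851 : Led Lsl_at (LP (LK LD1_c0 LD2_c48 LD3_c28)) = v664 :=
  Lgr Lrot66 (Lpr_ff (f455843 IH) (Lpe (f455834 IH) (Lpr_ff (f455848 IH) (Lpn v664))))
theorem f455836 : Led Lsl_at (LP (LK LD1_c3 LD2_c34 LD3_c0)) = (LP (LK LD1_c1 LD2_c43 LD3_c42)) :=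
  Lre_a IH (LK LD1_c3 LD2_c34 LD3_c0) (LK LD1_c1 LD2_c43 LD3_c42) Lrfl Lrfl
theorem f455932 : Led Lsl_ct (LP (LK LD1_c3 LD2_c35 LD3_c4)) = (LP (LK LD1_c1 LD2_c44 LD3_c17)) :=
  Lre_c IH (LK LD1_c3 LD2_c35 LD3_c4) (LK LD1_c1 LD2_c44 LD3_c17) Lrfl Lrfl
theorem f455933 : Led Lsl_dt (LP (LK LD1_c7 LD2_c11 LD3_c19)) = (LP (LK LD1_c3 LD2_c35 LD3_c4)) :=
  Lre_d IH (LK LD1_c7 LD2_c11 LD3_c19) (LK LD1_c3 LD2_c35 LD3_c4) Lrfl Lrfl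
theorem f478783 : Led Lsl_ct (LP (LK LD1_c13 LD2_c37 LD3_c9)) = (LP (LK LD1_c7 LD2_c11 LD3_c19)) :=
  Lre_c IH (LK LD1_c13 LD2_c37 LD3_c9) (LK LD1_c7 LD2_c11 LD3_c19) Lrfl Lrfl
theorem f455103 : Led Lsl_dt (LP (LK LD1_c3 LD2_c26 LD3_c38)) = (LP (LK LD1_c1 LD2_c39 LD3_c59)) :=
  Lre_d IH (LK LD1_c3 LD2_c26 LD3_c38) (LK LD1_c1 LD2_c39 LD3_c59) Lrfl Lrfl
theorem f15257 : Led Lsl_ct (LP (LK LD1_c1 LD2_c39 LD3_c59)) = (LP (LK LD1_c3 LD2_c26 LD3_c37)) :=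
  Lre_c IH (LK LD1_c1 LD2_c39 LD3_c59) (LK LD1_c3 LD2_c26 LD3_c37) Lrfl Lrfl
theorem f484161 : Led Lsl_dt (LP (LK LD1_c3 LD2_c26 LD3_c37)) = (LP (LK LD1_c6 LD2_c55 LD3_c5)) :=
  Lre_d IH (LK LD1_c3 LD2_c26 LD3_c37) (LK LD1_c6 LD2_c55 LD3_c5) Lrfl Lrfl
theorem f484162 : Led Lsl_ct (LP (LK LD1_c6 LD2_c55 LD3_c5)) = (LP (LK LD1_c13 LD2_c8 LD3_c42)) :=
  Lre_c IH (LK LD1_c6 LD2_c55 LD3_c5) (LK LD1_c13 LD2_c8 LD3_c42) Lrfl Lrfl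
theorem f484163 : Led Lsl_df (LP (LK LD1_c13 LD2_c37 LD3_c9)) = (LP (LK LD1_c13 LD2_c8 LD3_c42)) :=
  Lgr Lrot13 (Lpr_ct (f478783 IH) (Lpr_dt (f455933 IH) (Lpr_ct (f455932 IH) (Lpe (f456736 IH) (Lpr_ff (f484151 IH) (Lpr_dt (f455103 IH) (Lpr_ct (f15257 IH) (Lpr_dt (f484161 IH) (Lpr_ct (f484162 IH) (Lpn (LP (LK LD1_c13 LD2_c8 LD3_c42))))))))))))
theorem f456226 : Led Lsl_dt (LP (LK LD1_c1 LD2_c44 LD3_c17)) = (LP (LK LD1_c0 LD2_c48 LD3_c41)) :=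
  Lre_d IH (LK LD1_c1 LD2_c44 LD3_c17) (LK LD1_c0 LD2_c48 LD3_c41) Lrfl Lrfl
theorem f456132 : Led Lsl_dt (LP (LK LD1_c1 LD2_c44 LD3_c16)) = (LP (LK LD1_c3 LD2_c35 LD3_c1)) :=
  Lre_d IH (LK LD1_c1 LD2_c44 LD3_c16) (LK LD1_c3 LD2_c35 LD3_c1) Lrfl Lrfl
theorem f456153 : Led Lsl_ct (LP (LK LD1_c3 LD2_c35 LD3_c1)) = (LP (LK LD1_c7 LD2_c11 LD3_c12)) :=
  Lre_c IH (LK LD1_c3 LD2_c35 LD3_c1) (LK LD1_c7 LD2_c11 LD3_c12) Lrfl Lrfl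
theorem f478764 : Led Lsl_at (LP (LK LD1_c13 LD2_c36 LD3_c45)) = (LP (LK LD1_c7 LD2_c11 LD3_c12)) :=
  Lre_a IH (LK LD1_c13 LD2_c36 LD3_c45) (LK LD1_c7 LD2_c11 LD3_c12) Lrfl Lrfl
theorem f484174 : Led Lsl_ff (LP (LK LD1_c13 LD2_c36 LD3_c45)) = (LP (LK LD1_c13 LD2_c8 LD3_c42)) :=
  Lgr Lrot103 (Lpr_at (f478764 IH) (Lpe (f456153 IH) (Lpe (f456132 IH) (Lpe (K29.f5933 IH) (Lpe (f456226 IH) (Lpe (f455932 IH) (Lpe (f455933 IH) (Lpe (f478783 IH) (Lpr_df (f484163 IH) (Lpn (LP (LK LD1_c13 LD2_c8 LD3_c42))))))))))))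
theorem f456751 : Led Lsl_ct (LP (LK LD1_c13 LD2_c36 LD3_c45)) = (LP (LK LD1_c7 LD2_c11 LD3_c5)) :=
  Lre_c IH (LK LD1_c13 LD2_c36 LD3_c45) (LK LD1_c7 LD2_c11 LD3_c5) Lrfl Lrfl
theorem f484178 : Led Lsl_ft (LP (LK LD1_c7 LD2_c11 LD3_c5)) = (LP (LK LD1_c6 LD2_c55 LD3_c5)) :=
  Lgr Lrot4 (Lpe (f456751 IH) (Lpr_ff (f484174 IH) (Lpe (f484162 IH) (Lpn (LP (LK LD1_c6 LD2_c55 LD3_c5))))))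
theorem f484193 : Led Lsl_ff (LP (LK LD1_c7 LD2_c11 LD3_c5)) = (LP (LK LD1_c6 LD2_c55 LD3_c5)) :=
  Lgr Lrot3 (Lpr_ft (f484178 IH) (Lpn (LP (LK LD1_c6 LD2_c55 LD3_c5))))
theorem f456750 : Led Lsl_dt (LP (LK LD1_c7 LD2_c11 LD3_c5)) = (LP (LK LD1_c3 LD2_c34 LD3_c59)) :=
  Lre_d IH (LK LD1_c7 LD2_c11 LD3_c5) (LK LD1_c3 LD2_c34 LD3_c59) Lrfl Lrfl
theorem f484212 : Led Lsl_ft (LP (LK LD1_c3 LD2_c34 LD3_c59)) = (LP (LK LD1_c3 LD2_c26 LD3_c37)) :=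
  Lgr Lrot54 (Lpe (f456750 IH) (Lpr_ff (f484193 IH) (Lpe (f484161 IH) (Lpn (LP (LK LD1_c3 LD2_c26 LD3_c37))))))
theorem f484221 : Led Lsl_af (LP (LK LD1_c1 LD2_c44 LD3_c11)) = (LP (LK LD1_c3 LD2_c26 LD3_c37)) :=
  Lgr Lrot45 (Lpe (K29.f478739 IH) (Lpr_at (K29.f456128 IH) (Lpr_ft (f484212 IH) (Lpn (LP (LK LD1_c3 LD2_c26 LD3_c37))))))
theorem f484233 : Led Lsl_at (LP (LK LD1_c1 LD2_c44 LD3_c11)) = (LP (LK LD1_c3 LD2_c26 LD3_c37)) :=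
  Lgr Lrot100 (Lpr_af (f484221 IH) (Lpn (LP (LK LD1_c3 LD2_c26 LD3_c37))))
theorem f478730 : Led Lsl_dt (LP (LK LD1_c3 LD2_c34 LD3_c59)) = (LP (LK LD1_c7 LD2_c11 LD3_c5)) :=
  Lre_d IH (LK LD1_c3 LD2_c34 LD3_c59) (LK LD1_c7 LD2_c11 LD3_c5) Lrfl Lrfl
theorem f478731 : Led Lsl_ct (LP (LK LD1_c7 LD2_c11 LD3_c5)) = (LP (LK LD1_c13 LD2_c36 LD3_c45)) :=
  Lre_c IH (LK LD1_c7 LD2_c11 LD3_c5) (LK LD1_c13 LD2_c36 LD3_c45) Lrfl Lrfl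
theorem f478741 : Led Lsl_at (LP (LK LD1_c7 LD2_c11 LD3_c12)) = (LP (LK LD1_c13 LD2_c36 LD3_c45)) :=
  Lre_a IH (LK LD1_c7 LD2_c11 LD3_c12) (LK LD1_c13 LD2_c36 LD3_c45) Lrfl Lrfl
theorem f478742 : Led Lsl_ff (LP (LK LD1_c7 LD2_c11 LD3_c12)) = (LP (LK LD1_c7 LD2_c10 LD3_c56)) :=
  Lgr Lrot103 (Lpr_at (f478741 IH) (Lpe (f478731 IH) (Lpe (f478730 IH) (Lpe (K29.f478729 IH) (Lpe (K29.f478728 IH) (Lpe (K29.f478717 IH) (Lpe (K29.f478718 IH) (Lpr_cf (K29.f478720 IH) (Lpe (K29.f478719 IH) (Lpn (LP (LK LD1_c7 LD2_c10 LD3_c56))))))))))))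
theorem f478754 : Led Lsl_ft (LP (LK LD1_c7 LD2_c11 LD3_c12)) = (LP (LK LD1_c7 LD2_c10 LD3_c56)) :=
  Lgr Lrot48 (Lpr_ff (f478742 IH) (Lpn (LP (LK LD1_c7 LD2_c10 LD3_c56))))
theorem f478765 : Led Lsl_ff (LP (LK LD1_c3 LD2_c35 LD3_c1)) = (LP (LK LD1_c3 LD2_c34 LD3_c53)) :=
  Lgr Lrot23 (Lpr_ct (f456153 IH) (Lpr_ft (f478754 IH) (Lpr_ct (K29.f455897 IH) (Lpn (LP (LK LD1_c3 LD2_c34 LD3_c53))))))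
theorem f450799 : Led Lsl_dt (LP (LK LD1_c3 LD2_c35 LD3_c1)) = (LP (LK LD1_c1 LD2_c44 LD3_c16)) :=
  Lre_d IH (LK LD1_c3 LD2_c35 LD3_c1) (LK LD1_c1 LD2_c44 LD3_c16) Lrfl Lrfl
theorem f478815 : Led Lsl_ft (LP (LK LD1_c1 LD2_c44 LD3_c16)) = (LP (LK LD1_c1 LD2_c44 LD3_c11)) :=
  Lgr Lrot54 (Lpe (f450799 IH) (Lpr_ff (f478765 IH) (Lpe (K29.f455896 IH) (Lpn (LP (LK LD1_c1 LD2_c44 LD3_c11))))))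
theorem f484235 : Led Lsl_gt (LP (LK LD1_c1 LD2_c40 LD3_c10)) = (LP (LK LD1_c3 LD2_c26 LD3_c37)) :=
  Lgr Lrot46 (Lpr_gf (K29.f467245 IH) (Lpr_ft (f478815 IH) (Lpr_at (f484233 IH) (Lpn (LP (LK LD1_c3 LD2_c26 LD3_c37))))))
theorem f482348 : Led Lsl_gt (LP (LK LD1_c13 LD2_c9 LD3_c54)) = (LP (LK LD1_c6 LD2_c56 LD3_c2)) :=
  Lre_g IH (LK LD1_c13 LD2_c9 LD3_c54) (LK LD1_c6 LD2_c56 LD3_c2) Lrfl Lrfl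
theorem f10279 : Led Lsl_gt (LP (LK LD1_c0 LD2_c49 LD3_c13)) = (LP (LK LD1_c1 LD2_c45 LD3_c1)) :=
  Lre_g IH (LK LD1_c0 LD2_c49 LD3_c13) (LK LD1_c1 LD2_c45 LD3_c1) Lrfl Lrfl
theorem f5997 : Led Lsl_bt (LP (LK LD1_c3 LD2_c36 LD3_c24)) = (LP (LK LD1_c7 LD2_c13 LD3_c9)) :=
  Lre_b IH (LK LD1_c3 LD2_c36 LD3_c24) (LK LD1_c7 LD2_c13 LD3_c9) Lrfl Lrfl
theorem f467020 : Led Lsl_gt (LP (LK LD1_c7 LD2_c13 LD3_c9)) = (LP (LK LD1_c13 LD2_c39 LD3_c59)) :=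
  Lre_g IH (LK LD1_c7 LD2_c13 LD3_c9) (LK LD1_c13 LD2_c39 LD3_c59) Lrfl Lrfl
theorem f482365 : Led Lsl_cf (LP (LK LD1_c13 LD2_c9 LD3_c54)) = (LP (LK LD1_c13 LD2_c39 LD3_c59)) :=
  Lgr Lrot125 (Lpr_gt (f482348 IH) (Lpe (K29.f442180 IH) (Lpr_bt (K29.f482350 IH) (Lpr_gt (K29.f6391 IH) (Lpe (K29.f5999 IH) (Lpr_ct (K29.f10656 IH) (Lpr_gt (f10279 IH) (Lpe (K28.f5995 IH) (Lpr_bt (f5997 IH) (Lpr_gt (f467020 IH) (Lpn (LP (LK LD1_c13 LD2_c39 LD3_c59)))))))))))))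
theorem f467361 : Led Lsl_at (LP (LK LD1_c13 LD2_c9 LD3_c54)) = (LP (LK LD1_c6 LD2_c56 LD3_c4)) :=
  Lre_a IH (LK LD1_c13 LD2_c9 LD3_c54) (LK LD1_c6 LD2_c56 LD3_c4) Lrfl Lrfl
def v863 : LQ := Led Lsl_gt (LP (LK LD1_c0 LD2_c52 LD3_c52))
theorem f459824 : Led Lsl_gt (LP (LK LD1_c0 LD2_c52 LD3_c52)) = v863 :=
  Lrfl
theorem f126020 : Led Lsl_ft (LP (LK LD1_c1 LD2_c40 LD3_c7)) = (LP (LK LD1_c0 LD2_c46 LD3_c34)) :=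
  Lre_f IH (LK LD1_c1 LD2_c40 LD3_c7) (LK LD1_c0 LD2_c46 LD3_c34) Lrfl Lrfl
theorem f132261 : Led Lsl_af (LP (LK LD1_c0 LD2_c53 LD3_c52)) = (LP (LK LD1_c0 LD2_c46 LD3_c34)) :=
  Lgr Lrot0 (Lpr_at (K5.f132259 IH) (Lpn (LP (LK LD1_c0 LD2_c46 LD3_c34))))
def v713 : LQ := Led Lsl_gt (LP (LK LD1_c0 LD2_c49 LD3_c35))
theorem f456901 : Led Lsl_gt (LP (LK LD1_c0 LD2_c49 LD3_c35)) = v713 :=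
  Lrfl
theorem f480732 : (LP (LK LD1_c0 LD2_c53 LD3_c52)) = v713 :=
  (Llr Lrot26 (Lpr_af (f132261 IH) (Lpe (f126020 IH) (Lpqs (K29.f480729 IH) (Lpe (K29.f456903 IH) (Lpr_gt (f456901 IH) (Lpn v713))))))).symm
theorem f480735 : Led Lsl_cf v863 = K29.v310 :=
  Lgr Lrot58 (Lpe (f459824 IH) (Lpe (K5.f12214 IH) (Lpr_bt (K5.f12212 IH) (Lpqs (f480732 IH) (Lpe (f456901 IH) (Lpe (K29.f450894 IH) (Lpr_ct (K24.f450909 IH) (Lpqs (K24.f455974 IH) (Lpe (K24.f145380 IH) (Lpe (K6.f122806 IH) (Lpr_gf (K24.f448765 IH) (Lpr_bf (K29.f452109 IH) (Lpn K29.v310)))))))))))))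
theorem f480737 : Led Lsl_ct v863 = K29.v209 :=
  Lgr Lrot59 (Lpr_cf (f480735 IH) (Lpq (K29.f478680 IH) (Lpn K29.v209)))
theorem f480736 : Led Lsl_bt v863 = (LP (LK LD1_c1 LD2_c44 LD3_c11)) :=
  Lgr Lrot128 (Lpr_cf (f480735 IH) (Lpq (K29.f478680 IH) (Lpqs (K29.f478680 IH) (Lpe (K29.f452108 IH) (Lpr_cf (K24.f452111 IH) (Lpqs (K24.f456040 IH) (Lpe (K28.f10163 IH) (Lpe (K29.f10164 IH) (Lpn (LP (LK LD1_c1 LD2_c44 LD3_c11)))))))))))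
theorem f90042 : Led Lsl_bt (LP (LK LD1_c6 LD2_c56 LD3_c4)) = (LP (LK LD1_c3 LD2_c27 LD3_c8)) :=
  Lre_b IH (LK LD1_c6 LD2_c56 LD3_c4) (LK LD1_c3 LD2_c27 LD3_c8) Lrfl Lrfl
theorem f87968 : Led Lsl_ct (LP (LK LD1_c0 LD2_c52 LD3_c41)) = (LP (LK LD1_c0 LD2_c23 LD3_c48)) :=
  Lre_c IH (LK LD1_c0 LD2_c52 LD3_c41) (LK LD1_c0 LD2_c23 LD3_c48) Lrfl Lrfl
theorem f451103 : Led Lsl_bt (LP (LK LD1_c3 LD2_c49 LD3_c37)) = (LP (LK LD1_c1 LD2_c51 LD3_c48)) :=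
  Lre_b IH (LK LD1_c3 LD2_c49 LD3_c37) (LK LD1_c1 LD2_c51 LD3_c48) Lrfl Lrfl
theorem f97103 : Led Lsl_bt (LP (LK LD1_c3 LD2_c37 LD3_c25)) = (LP (LK LD1_c1 LD2_c45 LD3_c34)) :=
  Lre_b IH (LK LD1_c3 LD2_c37 LD3_c25) (LK LD1_c1 LD2_c45 LD3_c34) Lrfl Lrfl
theorem f467453 : Led Lsl_bt (LP (LK LD1_c1 LD2_c51 LD3_c48)) = (LP (LK LD1_c3 LD2_c49 LD3_c37)) :=
  Lre_b IH (LK LD1_c1 LD2_c51 LD3_c48) (LK LD1_c3 LD2_c49 LD3_c37) Lrfl Lrfl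
theorem f467454 : Led Lsl_cf (LP (LK LD1_c3 LD2_c37 LD3_c25)) = (LP (LK LD1_c3 LD2_c49 LD3_c37)) :=
  Lgr Lrot97 (Lpr_bt (f97103 IH) (Lpr_ct (K29.f6619 IH) (Lpr_bt (K29.f97104 IH) (Lpr_ct (K29.f467448 IH) (Lpr_bt (f467453 IH) (Lpn (LP (LK LD1_c3 LD2_c49 LD3_c37))))))))
theorem f6664 : Led Lsl_gt (LP (LK LD1_c7 LD2_c15 LD3_c18)) = (LP (LK LD1_c3 LD2_c37 LD3_c25)) :=
  Lre_g IH (LK LD1_c7 LD2_c15 LD3_c18) (LK LD1_c3 LD2_c37 LD3_c25) Lrfl Lrfl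
theorem f480741 : Led Lsl_ct (LP (LK LD1_c6 LD2_c56 LD3_c4)) = (LP (LK LD1_c7 LD2_c15 LD3_c18)) :=
  Lgr Lrot64 (Lpr_bt (f90042 IH) (Lpe (K29.f467909 IH) (Lpe (f480736 IH) (Lpr_ct (f480737 IH) (Lpe (K29.f451097 IH) (Lpe (f87968 IH) (Lpe (K29.f87813 IH) (Lpe (f451103 IH) (Lpe (f467454 IH) (Lpe (f6664 IH) (Lpn (LP (LK LD1_c7 LD2_c15 LD3_c18)))))))))))))
theorem f482367 : Led Lsl_at (LP (LK LD1_c7 LD2_c15 LD3_c18)) = (LP (LK LD1_c13 LD2_c39 LD3_c59)) :=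
  Lgr Lrot107 (Lpe (f480741 IH) (Lpe (f467361 IH) (Lpr_cf (f482365 IH) (Lpn (LP (LK LD1_c13 LD2_c39 LD3_c59))))))
theorem f97751 : Led Lsl_ft (LP (LK LD1_c3 LD2_c27 LD3_c4)) = (LP (LK LD1_c6 LD2_c56 LD3_c4)) :=
  Lre_f IH (LK LD1_c3 LD2_c27 LD3_c4) (LK LD1_c6 LD2_c56 LD3_c4) Lrfl Lrfl
theorem f480748 : Led Lsl_ff (LP (LK LD1_c6 LD2_c55 LD3_c58)) = (LP (LK LD1_c7 LD2_c15 LD3_c18)) :=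
  Lgr Lrot23 (Lpr_ct (K3.f90055 IH) (Lpr_ft (f97751 IH) (Lpr_ct (f480741 IH) (Lpn (LP (LK LD1_c7 LD2_c15 LD3_c18))))))
theorem f480758 : Led Lsl_ft (LP (LK LD1_c6 LD2_c55 LD3_c58)) = (LP (LK LD1_c7 LD2_c15 LD3_c18)) :=
  Lgr Lrot48 (Lpr_ff (f480748 IH) (Lpn (LP (LK LD1_c7 LD2_c15 LD3_c18))))
theorem f482389 : Led Lsl_gt (LP (LK LD1_c6 LD2_c55 LD3_c58)) = (LP (LK LD1_c7 LD2_c13 LD3_c9)) :=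
  Lgr Lrot5 (Lpr_ft (f480758 IH) (Lpr_at (f482367 IH) (Lpe (f467020 IH) (Lpn (LP (LK LD1_c7 LD2_c13 LD3_c9))))))
theorem f467923 : Led Lsl_ct (LP (LK LD1_c3 LD2_c32 LD3_c50)) = (LP (LK LD1_c3 LD2_c48 LD3_c17)) :=
  Lgr Lrot59 (Lpr_cf (K28.f467915 IH) (Lpn (LP (LK LD1_c3 LD2_c48 LD3_c17))))
theorem f482392 : Led Lsl_gf (LP (LK LD1_c3 LD2_c35 LD3_c35)) = (LP (LK LD1_c3 LD2_c48 LD3_c17)) :=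
  Lgr Lrot129 (Lpr_cf (K3.f96959 IH) (Lpe (K3.f96939 IH) (Lpr_gt (f482389 IH) (Lpe (f5997 IH) (Lpr_ct (K28.f5995 IH) (Lpr_gt (K28.f5959 IH) (Lpe (K29.f5946 IH) (Lpr_bt (K3.f5964 IH) (Lpr_gt (K28.f5987 IH) (Lpr_ct (f467923 IH) (Lpn (LP (LK LD1_c3 LD2_c48 LD3_c17)))))))))))))
theorem f467922 : Led Lsl_bt (LP (LK LD1_c1 LD2_c51 LD3_c10)) = (LP (LK LD1_c3 LD2_c48 LD3_c17)) :=
  Lre_b IH (LK LD1_c1 LD2_c51 LD3_c10) (LK LD1_c3 LD2_c48 LD3_c17) Lrfl Lrfl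
theorem f15163 : Led Lsl_bt (LP (LK LD1_c0 LD2_c46 LD3_c31)) = (LP (LK LD1_c1 LD2_c39 LD3_c53)) :=
  Lre_b IH (LK LD1_c0 LD2_c46 LD3_c31) (LK LD1_c1 LD2_c39 LD3_c53) Lrfl Lrfl
theorem f15270 : Led Lsl_gt (LP (LK LD1_c3 LD2_c26 LD3_c34)) = (LP (LK LD1_c1 LD2_c39 LD3_c58)) :=
  Lre_g IH (LK LD1_c3 LD2_c26 LD3_c34) (LK LD1_c1 LD2_c39 LD3_c58) Lrfl Lrfl
theorem f481709 : Led Lsl_cf (LP (LK LD1_c3 LD2_c26 LD3_c34)) = (LP (LK LD1_c1 LD2_c51 LD3_c10)) :=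
  Lgr Lrot125 (Lpr_gt (f15270 IH) (Lpe (K5.f15092 IH) (Lpr_bt (f15163 IH) (Lpr_gt (K29.f15105 IH) (Lpr_bf (K29.f481703 IH) (Lpr_ct (K28.f10827 IH) (Lpr_gt (K28.f10828 IH) (Lpr_cf (K28.f467932 IH) (Lpr_bt (K28.f467428 IH) (Lpr_gt (K28.f90047 IH) (Lpn (LP (LK LD1_c1 LD2_c51 LD3_c10)))))))))))))
theorem f450786 : Led Lsl_at (LP (LK LD1_c1 LD2_c44 LD3_c15)) = (LP (LK LD1_c0 LD2_c48 LD3_c41)) :=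
  Lre_a IH (LK LD1_c1 LD2_c44 LD3_c15) (LK LD1_c0 LD2_c48 LD3_c41) Lrfl Lrfl
theorem f450791 : Led Lsl_gt (LP (LK LD1_c1 LD2_c44 LD3_c14)) = (LP (LK LD1_c0 LD2_c48 LD3_c41)) :=
  Lre_g IH (LK LD1_c1 LD2_c44 LD3_c14) (LK LD1_c0 LD2_c48 LD3_c41) Lrfl Lrfl
theorem f478872 : Led Lsl_gf (LP (LK LD1_c1 LD2_c44 LD3_c14)) = K29.v671 :=
  Lgr Lrot47 (Lpr_gt (f450791 IH) (Lpe (f450786 IH) (Lpr_ff (K29.f478869 IH) (Lpn K29.v671))))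
theorem f478873 : Led Lsl_ct (LP (LK LD1_c1 LD2_c44 LD3_c14)) = (LP (LK LD1_c3 LD2_c34 LD3_c58)) :=
  Lre_c IH (LK LD1_c1 LD2_c44 LD3_c14) (LK LD1_c3 LD2_c34 LD3_c58) Lrfl Lrfl
theorem f484239 : Led Lsl_gf (LP (LK LD1_c3 LD2_c26 LD3_c34)) = (LP (LK LD1_c3 LD2_c34 LD3_c58)) :=
  Lgr Lrot129 (Lpr_cf (f481709 IH) (Lpr_bt (f467922 IH) (Lpe (f482392 IH) (Lpe (K2.f88630 IH) (Lpe (K2.f89860 IH) (Lpr_gt (f484235 IH) (Lpe (f15257 IH) (Lpq (f484142 IH) (Lpe (K29.f479140 IH) (Lpe (f478872 IH) (Lpr_ct (f478873 IH) (Lpn (LP (LK LD1_c3 LD2_c34 LD3_c58))))))))))))))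
theorem f5943 : Led Lsl_ct (LP (LK LD1_c0 LD2_c48 LD3_c27)) = (LP (LK LD1_c1 LD2_c43 LD3_c43)) :=
  Lre_c IH (LK LD1_c0 LD2_c48 LD3_c27) (LK LD1_c1 LD2_c43 LD3_c43) Lrfl Lrfl
theorem f455837 : Led Lsl_bt (LP (LK LD1_c0 LD2_c48 LD3_c27)) = (LP (LK LD1_c1 LD2_c43 LD3_c42)) :=
  Lre_b IH (LK LD1_c0 LD2_c48 LD3_c27) (LK LD1_c1 LD2_c43 LD3_c42) Lrfl Lrfl
theorem f93146 : Led Lsl_gt (LP (LK LD1_c1 LD2_c43 LD3_c42)) = (LP (LK LD1_c3 LD2_c33 LD3_c61)) :=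
  Lre_g IH (LK LD1_c1 LD2_c43 LD3_c42) (LK LD1_c3 LD2_c33 LD3_c61) Lrfl Lrfl
theorem f484299 : Led Lsl_bf (LP (LK LD1_c3 LD2_c33 LD3_c61)) = (LP (LK LD1_c1 LD2_c44 LD3_c14)) :=
  Lgr Lrot34 (Lpe (f93146 IH) (Lpe (f455837 IH) (Lpr_ct (f5943 IH) (Lpe (K29.f482363 IH) (Lpe (K3.f96945 IH) (Lpr_gf (f482392 IH) (Lpe (f467922 IH) (Lpe (f481709 IH) (Lpr_gf (f484239 IH) (Lpe (f478873 IH) (Lpn (LP (LK LD1_c1 LD2_c44 LD3_c14)))))))))))))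
theorem f482585 : Led Lsl_et (LP (LK LD1_c7 LD2_c45 LD3_c44)) = (LP (LK LD1_c7 LD2_c9 LD3_c13)) :=
  Lgr Lrot87 (Lpr_ef (K32.f482459 IH) (Lpn (LP (LK LD1_c7 LD2_c9 LD3_c13))))
theorem f92495 : Led Lsl_dt (LP (LK LD1_c1 LD2_c46 LD3_c9)) = (LP (LK LD1_c1 LD2_c43 LD3_c45)) :=
  Lgr Lrot42 (Lpr_df (K2.f92484 IH) (Lpn (LP (LK LD1_c1 LD2_c43 LD3_c45))))
theorem f93132 : Led Lsl_df (LP (LK LD1_c3 LD2_c38 LD3_c21)) = (LP (LK LD1_c3 LD2_c34 LD3_c3)) :=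
  Lgr Lrot12 (Lpr_bt (K24.f4390 IH) (Lpr_dt (f92495 IH) (Lpr_bt (K32.f93131 IH) (Lpn (LP (LK LD1_c3 LD2_c34 LD3_c3))))))
theorem f482590 : Led Lsl_gf (LP (LK LD1_c3 LD2_c24 LD3_c37)) = (LP (LK LD1_c3 LD2_c38 LD3_c21)) :=
  Lgr Lrot134 (Lpr_df (K29.f102704 IH) (Lpr_et (K4.f12777 IH) (Lpe (K3.f109120 IH) (Lpe (K3.f108773 IH) (Lpe (K5.f128065 IH) (Lpr_gt (K28.f128085 IH) (Lpe (K32.f128090 IH) (Lpr_et (f482585 IH) (Lpr_gt (K32.f93144 IH) (Lpe (f93132 IH) (Lpn (LP (LK LD1_c3 LD2_c38 LD3_c21)))))))))))))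
theorem f93145 : Led Lsl_et (LP (LK LD1_c3 LD2_c34 LD3_c3)) = (LP (LK LD1_c1 LD2_c43 LD3_c42)) :=
  Lre_e IH (LK LD1_c3 LD2_c34 LD3_c3) (LK LD1_c1 LD2_c43 LD3_c42) Lrfl Lrfl
theorem f482594 : Led Lsl_gt (LP (LK LD1_c3 LD2_c31 LD3_c60)) = (LP (LK LD1_c1 LD2_c43 LD3_c42)) :=
  Lgr Lrot131 (Lpe (K5.f84932 IH) (Lpr_dt (K2.f84762 IH) (Lpr_gf (K3.f109357 IH) (Lpe (K3.f109310 IH) (Lpr_gf (K3.f109120 IH) (Lpe (K4.f12777 IH) (Lpe (K29.f102704 IH) (Lpr_gf (f482590 IH) (Lpr_df (f93132 IH) (Lpr_et (f93145 IH) (Lpn (LP (LK LD1_c1 LD2_c43 LD3_c42)))))))))))))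
theorem f482596 : Led Lsl_at (LP (LK LD1_c7 LD2_c5 LD3_c27)) = (LP (LK LD1_c3 LD2_c33 LD3_c61)) :=
  Lgr Lrot26 (Lpe (K5.f84954 IH) (Lpr_gt (f482594 IH) (Lpr_gt (f93146 IH) (Lpn (LP (LK LD1_c3 LD2_c33 LD3_c61))))))
theorem f15091 : Led Lsl_bt (LP (LK LD1_c1 LD2_c39 LD3_c53)) = (LP (LK LD1_c0 LD2_c46 LD3_c31)) :=
  Lre_b IH (LK LD1_c1 LD2_c39 LD3_c53) (LK LD1_c0 LD2_c46 LD3_c31) Lrfl Lrfl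
theorem f84956 : Led Lsl_ct (LP (LK LD1_c0 LD2_c52 LD3_c48)) = (LP (LK LD1_c1 LD2_c52 LD3_c1)) :=
  Lre_c IH (LK LD1_c0 LD2_c52 LD3_c48) (LK LD1_c1 LD2_c52 LD3_c1) Lrfl Lrfl
theorem f15097 : Led Lsl_ct (LP (LK LD1_c1 LD2_c39 LD3_c53)) = (LP (LK LD1_c1 LD2_c50 LD3_c47)) :=
  Lgr Lrot59 (Lpr_cf (K4.f15086 IH) (Lpn (LP (LK LD1_c1 LD2_c50 LD3_c47))))
theorem f117343 : Led Lsl_at (LP (LK LD1_c1 LD2_c52 LD3_c1)) = (LP (LK LD1_c1 LD2_c39 LD3_c53)) :=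
  Lgr Lrot107 (Lpe (f84956 IH) (Lpr_af (K4.f117339 IH) (Lpe (f15097 IH) (Lpn (LP (LK LD1_c1 LD2_c39 LD3_c53))))))
theorem f126005 : Led Lsl_at (LP (LK LD1_c1 LD2_c54 LD3_c29)) = (LP (LK LD1_c3 LD2_c31 LD3_c60)) :=
  Lgr Lrot67 (Lpe (K29.f123510 IH) (Lpr_af (K5.f126002 IH) (Lpe (f15091 IH) (Lpe (f117343 IH) (Lpe (K7.f84933 IH) (Lpn (LP (LK LD1_c3 LD2_c31 LD3_c60))))))))
theorem f482603 : Led Lsl_ff (LP (LK LD1_c1 LD2_c54 LD3_c29)) = (LP (LK LD1_c3 LD2_c33 LD3_c61)) :=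
  Lgr Lrot30 (Lpr_at (f126005 IH) (Lpr_ft (K5.f84954 IH) (Lpr_at (f482596 IH) (Lpn (LP (LK LD1_c3 LD2_c33 LD3_c61))))))
theorem f484310 : Led Lsl_ft (LP (LK LD1_c0 LD2_c53 LD3_c55)) = (LP (LK LD1_c1 LD2_c44 LD3_c14)) :=
  Lgr Lrot75 (Lpe (K29.f123523 IH) (Lpr_ff (f482603 IH) (Lpr_bf (f484299 IH) (Lpn (LP (LK LD1_c1 LD2_c44 LD3_c14))))))
theorem f484316 : Led Lsl_ff (LP (LK LD1_c0 LD2_c53 LD3_c55)) = (LP (LK LD1_c1 LD2_c44 LD3_c14)) :=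
  Lgr Lrot3 (Lpr_ft (f484310 IH) (Lpn (LP (LK LD1_c1 LD2_c44 LD3_c14))))
theorem f456228 : Led Lsl_ct (LP (LK LD1_c3 LD2_c34 LD3_c58)) = (LP (LK LD1_c1 LD2_c44 LD3_c14)) :=
  Lre_c IH (LK LD1_c3 LD2_c34 LD3_c58) (LK LD1_c1 LD2_c44 LD3_c14) Lrfl Lrfl
theorem f484318 : Led Lsl_ft (LP (LK LD1_c1 LD2_c54 LD3_c32)) = (LP (LK LD1_c3 LD2_c34 LD3_c58)) :=
  Lgr Lrot4 (Lpe (K29.f123524 IH) (Lpr_ff (f484316 IH) (Lpe (f456228 IH) (Lpn (LP (LK LD1_c3 LD2_c34 LD3_c58))))))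
theorem f97728 : Led Lsl_et (LP (LK LD1_c0 LD2_c53 LD3_c54)) = (LP (LK LD1_c1 LD2_c54 LD3_c32)) :=
  Lre_e IH (LK LD1_c0 LD2_c53 LD3_c54) (LK LD1_c1 LD2_c54 LD3_c32) Lrfl Lrfl
theorem f95031 : Led Lsl_et (LP (LK LD1_c1 LD2_c40 LD3_c4)) = (LP (LK LD1_c0 LD2_c46 LD3_c33)) :=
  Lre_e IH (LK LD1_c1 LD2_c40 LD3_c4) (LK LD1_c0 LD2_c46 LD3_c33) Lrfl Lrfl
theorem f484326 : Led Lsl_ef (LP (LK LD1_c3 LD2_c26 LD3_c55)) = (LP (LK LD1_c3 LD2_c34 LD3_c58)) :=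
  Lgr Lrot21 (Lpr_ft (K29.f125875 IH) (Lpr_et (f95031 IH) (Lpe (K5.f125861 IH) (Lpr_et (f97728 IH) (Lpr_ft (f484318 IH) (Lpn (LP (LK LD1_c3 LD2_c34 LD3_c58))))))))
theorem f484411 : Led Lsl_at (LP (LK LD1_c3 LD2_c26 LD3_c36)) = (LP (LK LD1_c3 LD2_c34 LD3_c58)) :=
  Lgr Lrot80 (Lpr_ef (K29.f476802 IH) (Lpe (K29.f476940 IH) (Lpr_ef (f484326 IH) (Lpn (LP (LK LD1_c3 LD2_c34 LD3_c58))))))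
theorem f132291 : Led Lsl_ft (LP (LK LD1_c1 LD2_c39 LD3_c58)) = (LP (LK LD1_c3 LD2_c26 LD3_c36)) :=
  Lre_f IH (LK LD1_c1 LD2_c39 LD3_c58) (LK LD1_c3 LD2_c26 LD3_c36) Lrfl Lrfl
theorem f484514 : Led Lsl_gt (LP (LK LD1_c3 LD2_c26 LD3_c33)) = (LP (LK LD1_c3 LD2_c34 LD3_c58)) :=
  Lgr Lrot46 (Lpe (K29.f15189 IH) (Lpr_ft (f132291 IH) (Lpr_at (f484411 IH) (Lpn (LP (LK LD1_c3 LD2_c34 LD3_c58))))))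
theorem f437667 : Led Lsl_gt (LP (LK LD1_c0 LD2_c53 LD3_c24)) = (LP (LK LD1_c1 LD2_c53 LD3_c37)) :=
  Lre_g IH (LK LD1_c0 LD2_c53 LD3_c24) (LK LD1_c1 LD2_c53 LD3_c37) Lrfl Lrfl
theorem f145372 : Led Lsl_at (LP (LK LD1_c0 LD2_c53 LD3_c24)) = (LP (LK LD1_c0 LD2_c24 LD3_c2)) :=
  Lre_a IH (LK LD1_c0 LD2_c53 LD3_c24) (LK LD1_c0 LD2_c24 LD3_c2) Lrfl Lrfl
theorem f145373 : Led Lsl_at (LP (LK LD1_c0 LD2_c24 LD3_c2)) = (LP (LK LD1_c0 LD2_c53 LD3_c24)) :=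
  Lre_a IH (LK LD1_c0 LD2_c24 LD3_c2) (LK LD1_c0 LD2_c53 LD3_c24) Lrfl Lrfl
theorem f145374 : Led Lsl_bf (LP (LK LD1_c0 LD2_c53 LD3_c24)) = (LP (LK LD1_c0 LD2_c53 LD3_c24)) :=
  Lgr Lrot81 (Lpr_at (f145372 IH) (Lpr_bt (K24.f122769 IH) (Lpr_at (K6.f145370 IH) (Lpr_bt (K29.f123406 IH) (Lpr_at (f145373 IH) (Lpn (LP (LK LD1_c0 LD2_c53 LD3_c24))))))))
theorem f437669 : Led Lsl_gt (LP (LK LD1_c3 LD2_c53 LD3_c57)) = (LP (LK LD1_c1 LD2_c53 LD3_c36)) :=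
  Lre_g IH (LK LD1_c3 LD2_c53 LD3_c57) (LK LD1_c1 LD2_c53 LD3_c36) Lrfl Lrfl
theorem f15114 : Led Lsl_gt (LP (LK LD1_c3 LD2_c26 LD3_c22)) = (LP (LK LD1_c1 LD2_c39 LD3_c53)) :=
  Lre_g IH (LK LD1_c3 LD2_c26 LD3_c22) (LK LD1_c1 LD2_c39 LD3_c53) Lrfl Lrfl
theorem f15258 : Led Lsl_bt (LP (LK LD1_c6 LD2_c54 LD3_c37)) = (LP (LK LD1_c3 LD2_c26 LD3_c22)) :=
  Lre_b IH (LK LD1_c6 LD2_c54 LD3_c37) (LK LD1_c3 LD2_c26 LD3_c22) Lrfl Lrfl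
theorem f123376 : Led Lsl_gt (LP (LK LD1_c1 LD2_c53 LD3_c49)) = (LP (LK LD1_c3 LD2_c53 LD3_c57)) :=
  Lre_g IH (LK LD1_c1 LD2_c53 LD3_c49) (LK LD1_c3 LD2_c53 LD3_c57) Lrfl Lrfl
theorem f484137 : Led Lsl_ct (LP (LK LD1_c6 LD2_c54 LD3_c37)) = (LP (LK LD1_c3 LD2_c53 LD3_c57)) :=
  Lgr Lrot63 (Lpr_bt (f15258 IH) (Lpr_gt (f15114 IH) (Lpe (f15163 IH) (Lpr_ct (K5.f15092 IH) (Lpr_gt (K29.f15189 IH) (Lpr_cf (f484130 IH) (Lpe (f483568 IH) (Lpr_gt (K29.f122815 IH) (Lpr_ct (K6.f122804 IH) (Lpr_gt (f123376 IH) (Lpn (LP (LK LD1_c3 LD2_c53 LD3_c57)))))))))))))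
theorem f484518 : Led Lsl_gf (LP (LK LD1_c6 LD2_c54 LD3_c37)) = (LP (LK LD1_c3 LD2_c33 LD3_c61)) :=
  Lgr Lrot181 (Lpr_ct (f484137 IH) (Lpr_gt (f437669 IH) (Lpe (K24.f142300 IH) (Lpe (f145374 IH) (Lpr_gt (f437667 IH) (Lpr_bf (f483568 IH) (Lpe (f484130 IH) (Lpr_gt (f484514 IH) (Lpe (f478873 IH) (Lpe (f484299 IH) (Lpn (LP (LK LD1_c3 LD2_c33 LD3_c61)))))))))))))
theorem f484520 : Led Lsl_gt (LP (LK LD1_c6 LD2_c54 LD3_c37)) = (LP (LK LD1_c3 LD2_c31 LD3_c60)) :=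
  Lgr Lrot46 (Lpr_gf (f484518 IH) (Lpe (f482603 IH) (Lpr_at (f126005 IH) (Lpn (LP (LK LD1_c3 LD2_c31 LD3_c60))))))
theorem f485511 : Led Lsl_ft (LP (LK LD1_c6 LD2_c54 LD3_c37)) = (LP (LK LD1_c3 LD2_c34 LD3_c0)) :=
  Lgr Lrot2 (Lpr_gt (f484520 IH) (Lpr_gt (f482594 IH) (Lpe (f455836 IH) (Lpn (LP (LK LD1_c3 LD2_c34 LD3_c0))))))
theorem f514984 : Led Lsl_af (LP (LK LD1_c6 LD2_c54 LD3_c37)) = v2362 :=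
  Lgr Lrot45 (Lpr_ft (f485511 IH) (Lpr_at (f455836 IH) (Lpr_ft (f514983 IH) (Lpn v2362))))
theorem f514989 : Led Lsl_af (LP (LK LD1_c1 LD2_c43 LD3_c46)) = (LP (LK LD1_c3 LD2_c26 LD3_c22)) :=
  Lgr Lrot36 (Lpr_bt (K28.f5937 IH) (Lpr_at (f455851 IH) (Lpr_bt (f514988 IH) (Lpe (f514984 IH) (Lpr_bt (f15258 IH) (Lpn (LP (LK LD1_c3 LD2_c26 LD3_c22))))))))
theorem f514990 : Led Lsl_at (LP (LK LD1_c3 LD2_c26 LD3_c22)) = (LP (LK LD1_c1 LD2_c43 LD3_c46)) :=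
  Leop (Lpr_af (f514989 IH) (Lpn (LP (LK LD1_c3 LD2_c26 LD3_c22))))
theorem seed_171 : LEOK LG_a (LK LD1_c3 LD2_c26 LD3_c22) :=
  Leoe_a (LK LD1_c3 LD2_c26 LD3_c22) (f514990 IH)
def v2345 : LQ := Led Lsl_at (LP (LK LD1_c1 LD2_c43 LD3_c7))
theorem f514751 : Led Lsl_at (LP (LK LD1_c1 LD2_c43 LD3_c7)) = v2345 :=
  Lrfl
theorem f514752 : Led Lsl_af (LP (LK LD1_c1 LD2_c43 LD3_c7)) = v2345 :=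
  Lgr Lrot0 (Lpr_at (f514751 IH) (Lpn v2345))
theorem f10774 : Led Lsl_gt (LP (LK LD1_c1 LD2_c43 LD3_c8)) = (LP (LK LD1_c0 LD2_c48 LD3_c12)) :=
  Lre_g IH (LK LD1_c1 LD2_c43 LD3_c8) (LK LD1_c0 LD2_c48 LD3_c12) Lrfl Lrfl
theorem f514753 : Led Lsl_ft (LP (LK LD1_c1 LD2_c43 LD3_c8)) = v2345 :=
  Lgr Lrot2 (Lpr_gt (f10774 IH) (Lpr_gt (K3.f10305 IH) (Lpr_af (f514752 IH) (Lpn v2345))))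
theorem f514754 : Led Lsl_ff (LP (LK LD1_c1 LD2_c43 LD3_c8)) = v2345 :=
  Lgr Lrot3 (Lpr_ft (f514753 IH) (Lpn v2345))
theorem f125892 : Led Lsl_ft (LP (LK LD1_c3 LD2_c26 LD3_c36)) = (LP (LK LD1_c1 LD2_c39 LD3_c58)) :=
  Lre_f IH (LK LD1_c3 LD2_c26 LD3_c36) (LK LD1_c1 LD2_c39 LD3_c58) Lrfl Lrfl
theorem f484320 : Led Lsl_af (LP (LK LD1_c3 LD2_c26 LD3_c36)) = (LP (LK LD1_c3 LD2_c34 LD3_c58)) :=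
  Lgr Lrot45 (Lpr_ft (f125892 IH) (Lpe (K5.f125883 IH) (Lpr_ft (f484318 IH) (Lpn (LP (LK LD1_c3 LD2_c34 LD3_c58))))))
theorem f484328 : Led Lsl_gt (LP (LK LD1_c3 LD2_c55 LD3_c50)) = (LP (LK LD1_c3 LD2_c26 LD3_c36)) :=
  Lgr Lrot46 (Lpe (K29.f121975 IH) (Lpr_ft (f484318 IH) (Lpe (f484320 IH) (Lpn (LP (LK LD1_c3 LD2_c26 LD3_c36))))))
theorem f455844 : Led Lsl_bt (LP (LK LD1_c0 LD2_c48 LD3_c28)) = (LP (LK LD1_c1 LD2_c43 LD3_c46)) :=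
  Lre_b IH (LK LD1_c0 LD2_c48 LD3_c28) (LK LD1_c1 LD2_c43 LD3_c46) Lrfl Lrfl
theorem f484331 : Led Lsl_gf (LP (LK LD1_c1 LD2_c43 LD3_c46)) = (LP (LK LD1_c3 LD2_c26 LD3_c23)) :=
  Lgr Lrot124 (Lpe (f455844 IH) (Lpr_ct (K28.f10834 IH) (Lpe (K28.f466641 IH) (Lpe (K3.f96945 IH) (Lpe (K2.f88632 IH) (Lpr_gt (K28.f88642 IH) (Lpr_ct (K29.f482316 IH) (Lpr_gt (f484328 IH) (Lpe (K4.f15127 IH) (Lpr_bt (K29.f15117 IH) (Lpn (LP (LK LD1_c3 LD2_c26 LD3_c23)))))))))))))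
theorem f84935 : Led Lsl_bf (LP (LK LD1_c3 LD2_c31 LD3_c60)) = (LP (LK LD1_c1 LD2_c52 LD3_c1)) :=
  Lgr Lrot24 (Lpr_bt (K7.f84933 IH) (Lpn (LP (LK LD1_c1 LD2_c52 LD3_c1))))
theorem f132064 : Led Lsl_af (LP (LK LD1_c1 LD2_c52 LD3_c1)) = (LP (LK LD1_c1 LD2_c39 LD3_c53)) :=
  Lgr Lrot36 (Lpe (f84935 IH) (Lpr_at (K29.f132062 IH) (Lpr_bt (K29.f123523 IH) (Lpr_at (K5.f125887 IH) (Lpr_bt (f15163 IH) (Lpn (LP (LK LD1_c1 LD2_c39 LD3_c53))))))))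
theorem f15132 : Led Lsl_ft (LP (LK LD1_c3 LD2_c26 LD3_c23)) = (LP (LK LD1_c1 LD2_c39 LD3_c53)) :=
  Lre_f IH (LK LD1_c3 LD2_c26 LD3_c23) (LK LD1_c1 LD2_c39 LD3_c53) Lrfl Lrfl
theorem f132066 : Led Lsl_at (LP (LK LD1_c3 LD2_c50 LD3_c12)) = (LP (LK LD1_c3 LD2_c26 LD3_c23)) :=
  Lgr Lrot66 (Lpe (K7.f84941 IH) (Lpr_af (f132064 IH) (Lpe (f15132 IH) (Lpn (LP (LK LD1_c3 LD2_c26 LD3_c23))))))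
theorem f84944 : Led Lsl_gt (LP (LK LD1_c1 LD2_c52 LD3_c1)) = (LP (LK LD1_c3 LD2_c50 LD3_c11)) :=
  Lre_g IH (LK LD1_c1 LD2_c52 LD3_c1) (LK LD1_c3 LD2_c50 LD3_c11) Lrfl Lrfl
theorem f132068 : Led Lsl_gt (LP (LK LD1_c3 LD2_c50 LD3_c11)) = (LP (LK LD1_c3 LD2_c26 LD3_c23)) :=
  Lgr Lrot46 (Lpe (f84944 IH) (Lpr_ft (K7.f84941 IH) (Lpr_at (f132066 IH) (Lpn (LP (LK LD1_c3 LD2_c26 LD3_c23))))))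
theorem f515000 : Led Lsl_ft (LP (LK LD1_c3 LD2_c50 LD3_c11)) = (LP (LK LD1_c3 LD2_c26 LD3_c22)) :=
  Lgr Lrot2 (Lpr_gt (f132068 IH) (Lpe (f484331 IH) (Lpr_af (f514989 IH) (Lpn (LP (LK LD1_c3 LD2_c26 LD3_c22))))))
theorem f515006 : Led Lsl_ff (LP (LK LD1_c3 LD2_c50 LD3_c11)) = (LP (LK LD1_c3 LD2_c26 LD3_c22)) :=
  Lgr Lrot3 (Lpr_ft (f515000 IH) (Lpn (LP (LK LD1_c3 LD2_c26 LD3_c22))))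
theorem f515012 : Led Lsl_at (LP (LK LD1_c3 LD2_c50 LD3_c11)) = (LP (LK LD1_c3 LD2_c26 LD3_c21)) :=
  Lgr Lrot26 (Lpr_ff (f515006 IH) (Lpr_gt (f15114 IH) (Lpr_gt (K29.f15105 IH) (Lpn (LP (LK LD1_c3 LD2_c26 LD3_c21))))))
theorem f484524 : Led Lsl_bt (LP (LK LD1_c3 LD2_c26 LD3_c22)) = (LP (LK LD1_c6 LD2_c54 LD3_c37)) :=
  Lre_b IH (LK LD1_c3 LD2_c26 LD3_c22) (LK LD1_c6 LD2_c54 LD3_c37) Lrfl Lrfl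
theorem f515002 : Led Lsl_bf (LP (LK LD1_c3 LD2_c50 LD3_c11)) = (LP (LK LD1_c3 LD2_c34 LD3_c0)) :=
  Lgr Lrot61 (Lpr_ft (f515000 IH) (Lpr_bt (f484524 IH) (Lpr_ft (f485511 IH) (Lpn (LP (LK LD1_c3 LD2_c34 LD3_c0))))))
theorem f455838 : Led Lsl_at (LP (LK LD1_c1 LD2_c43 LD3_c42)) = (LP (LK LD1_c3 LD2_c34 LD3_c0)) :=
  Lre_a IH (LK LD1_c1 LD2_c43 LD3_c42) (LK LD1_c3 LD2_c34 LD3_c0) Lrfl Lrfl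
theorem f4430 : Led Lsl_bt (LP (LK LD1_c1 LD2_c46 LD3_c27)) = (LP (LK LD1_c3 LD2_c38 LD3_c58)) :=
  Lre_b IH (LK LD1_c1 LD2_c46 LD3_c27) (LK LD1_c3 LD2_c38 LD3_c58) Lrfl Lrfl
theorem f481699 : Led Lsl_bt (LP (LK LD1_c3 LD2_c26 LD3_c21)) = (LP (LK LD1_c1 LD2_c43 LD3_c7)) :=
  Lgr Lrot119 (Lpr_ef (K29.f481693 IH) (Lpe (f4430 IH) (Lpr_ef (K28.f97292 IH) (Lpn (LP (LK LD1_c1 LD2_c43 LD3_c7))))))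
theorem f515022 : v663 = (LP (LK LD1_c1 LD2_c43 LD3_c7)) :=
  (Llr Lrot36 (Lpe (f455835 IH) (Lpr_bt (f455837 IH) (Lpr_at (f455838 IH) (Lpe (f515002 IH) (Lpr_at (f515012 IH) (Lpr_bt (f481699 IH) (Lpn (LP (LK LD1_c1 LD2_c43 LD3_c7)))))))))).symm
theorem f515023 : (LP (LK LD1_c0 LD2_c48 LD3_c27)) = v2345 :=
  Lefun (Lecon (Lfl_af (f455835 IH)) (f515022 IH)) (f514751 IH)
theorem f515029 : (LP (LK LD1_c1 LD2_c43 LD3_c8)) = v664 :=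
  Lefun (Lecon (Lfl_ff (f514754 IH)) (f515023 IH).symm) (f455846 IH)
theorem f515034 : v2362 = (LP (LK LD1_c3 LD2_c32 LD3_c54)) :=
  Lefun (Lecon (f514988 IH) (f515029 IH).symm) (K29.f456074 IH)
theorem f455995 : Led Lsl_ct (LP (LK LD1_c3 LD2_c34 LD3_c1)) = (LP (LK LD1_c1 LD2_c43 LD3_c42)) :=
  Lre_c IH (LK LD1_c3 LD2_c34 LD3_c1) (LK LD1_c1 LD2_c43 LD3_c42) Lrfl Lrfl
theorem f5970 : Led Lsl_bt (LP (LK LD1_c3 LD2_c32 LD3_c54)) = (LP (LK LD1_c1 LD2_c43 LD3_c8)) :=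
  Lre_b IH (LK LD1_c3 LD2_c32 LD3_c54) (LK LD1_c1 LD2_c43 LD3_c8) Lrfl Lrfl
theorem f123439 : Led Lsl_gt (LP (LK LD1_c0 LD2_c53 LD3_c29)) = (LP (LK LD1_c1 LD2_c53 LD3_c39)) :=
  Lre_g IH (LK LD1_c0 LD2_c53 LD3_c29) (LK LD1_c1 LD2_c53 LD3_c39) Lrfl Lrfl
theorem f145350 : Led Lsl_at (LP (LK LD1_c0 LD2_c53 LD3_c31)) = (LP (LK LD1_c1 LD2_c53 LD3_c39)) :=
  Lre_a IH (LK LD1_c0 LD2_c53 LD3_c31) (LK LD1_c1 LD2_c53 LD3_c39) Lrfl Lrfl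
theorem f145384 : Led Lsl_at (LP (LK LD1_c1 LD2_c53 LD3_c39)) = (LP (LK LD1_c0 LD2_c53 LD3_c31)) :=
  Lre_a IH (LK LD1_c1 LD2_c53 LD3_c39) (LK LD1_c0 LD2_c53 LD3_c31) Lrfl Lrfl
theorem f145385 : Led Lsl_bt (LP (LK LD1_c1 LD2_c53 LD3_c39)) = (LP (LK LD1_c1 LD2_c53 LD3_c39)) :=
  Lgr Lrot62 (Lpe (f145350 IH) (Lpe (K6.f122805 IH) (Lpr_af (K6.f145378 IH) (Lpe (K6.f123368 IH) (Lpe (f145384 IH) (Lpn (LP (LK LD1_c1 LD2_c53 LD3_c39))))))))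
theorem f123438 : Led Lsl_ct (LP (LK LD1_c1 LD2_c53 LD3_c39)) = (LP (LK LD1_c3 LD2_c53 LD3_c59)) :=
  Lre_c IH (LK LD1_c1 LD2_c53 LD3_c39) (LK LD1_c3 LD2_c53 LD3_c59) Lrfl Lrfl
theorem f437639 : Led Lsl_gt (LP (LK LD1_c3 LD2_c53 LD3_c59)) = (LP (LK LD1_c1 LD2_c53 LD3_c47)) :=
  Lre_g IH (LK LD1_c3 LD2_c53 LD3_c59) (LK LD1_c1 LD2_c53 LD3_c47) Lrfl Lrfl
theorem f456072 : Led Lsl_ct (LP (LK LD1_c3 LD2_c32 LD3_c54)) = (LP (LK LD1_c1 LD2_c53 LD3_c47)) :=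
  Lgr Lrot10 (Lpr_bt (f5970 IH) (Lpr_gt (f10774 IH) (Lpr_ct (K28.f10636 IH) (Lpr_gt (K29.f10602 IH) (Lpr_cf (K29.f456061 IH) (Lpr_bt (K29.f123411 IH) (Lpr_gt (f123439 IH) (Lpe (f145385 IH) (Lpr_ct (f123438 IH) (Lpr_gt (f437639 IH) (Lpn (LP (LK LD1_c1 LD2_c53 LD3_c47)))))))))))))
theorem f515039 : Led Lsl_ff (LP (LK LD1_c3 LD2_c34 LD3_c1)) = (LP (LK LD1_c1 LD2_c53 LD3_c47)) :=
  Lgr Lrot23 (Lpr_ct (f455995 IH) (Lpr_ft (f514983 IH) (Lpqs (f515034 IH) (Lpr_ct (f456072 IH) (Lpn (LP (LK LD1_c1 LD2_c53 LD3_c47)))))))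
theorem f122789 : Led Lsl_gt (LP (LK LD1_c1 LD2_c53 LD3_c47)) = (LP (LK LD1_c0 LD2_c53 LD3_c28)) :=
  Lre_g IH (LK LD1_c1 LD2_c53 LD3_c47) (LK LD1_c0 LD2_c53 LD3_c28) Lrfl Lrfl
theorem f515047 : Led Lsl_at (LP (LK LD1_c3 LD2_c34 LD3_c1)) = (LP (LK LD1_c1 LD2_c53 LD3_c46)) :=
  Lgr Lrot26 (Lpr_ff (f515039 IH) (Lpr_gt (f122789 IH) (Lpr_gt (K29.f122781 IH) (Lpn (LP (LK LD1_c1 LD2_c53 LD3_c46))))))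
theorem f451368 : Led Lsl_gt (LP (LK LD1_c3 LD2_c56 LD3_c42)) = (LP (LK LD1_c1 LD2_c55 LD3_c3)) :=
  Lre_g IH (LK LD1_c3 LD2_c56 LD3_c42) (LK LD1_c1 LD2_c55 LD3_c3) Lrfl Lrfl
theorem f482461 : Led Lsl_cf (LP (LK LD1_c3 LD2_c56 LD3_c42)) = (LP (LK LD1_c3 LD2_c34 LD3_c3)) :=
  Lgr Lrot125 (Lpr_gt (f451368 IH) (Lpe (K29.f451365 IH) (Lpr_bt (K30.f451332 IH) (Lpr_gt (K11.f451366 IH) (Lpq (K11.f451580 IH) (Lpe (K28.f451334 IH) (Lpr_ct (K32.f451336 IH) (Lpr_gt (K32.f451586 IH) (Lpe (K32.f481978 IH) (Lpr_bt (K32.f482452 IH) (Lpr_gt (K32.f93144 IH) (Lpn (LP (LK LD1_c3 LD2_c34 LD3_c3))))))))))))))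
theorem f93142 : Led Lsl_et (LP (LK LD1_c1 LD2_c43 LD3_c42)) = (LP (LK LD1_c3 LD2_c34 LD3_c3)) :=
  Lre_e IH (LK LD1_c1 LD2_c43 LD3_c42) (LK LD1_c3 LD2_c34 LD3_c3) Lrfl Lrfl
theorem f482468 : Led Lsl_et (LP (LK LD1_c3 LD2_c56 LD3_c42)) = (LP (LK LD1_c3 LD2_c34 LD3_c1)) :=
  Lgr Lrot158 (Lpr_cf (f482461 IH) (Lpe (f93142 IH) (Lpe (f455995 IH) (Lpn (LP (LK LD1_c3 LD2_c34 LD3_c1))))))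
theorem f148171 : Led Lsl_et (LP (LK LD1_c1 LD2_c53 LD3_c46)) = (LP (LK LD1_c3 LD2_c54 LD3_c21)) :=
  Lre_e IH (LK LD1_c1 LD2_c53 LD3_c46) (LK LD1_c3 LD2_c54 LD3_c21) Lrfl Lrfl
theorem f515057 : Led Lsl_af (LP (LK LD1_c3 LD2_c56 LD3_c42)) = (LP (LK LD1_c3 LD2_c54 LD3_c21)) :=
  Lgr Lrot50 (Lpr_et (f482468 IH) (Lpr_at (f515047 IH) (Lpr_et (f148171 IH) (Lpn (LP (LK LD1_c3 LD2_c54 LD3_c21))))))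
theorem f92486 : Led Lsl_bt (LP (LK LD1_c1 LD2_c46 LD3_c9)) = (LP (LK LD1_c3 LD2_c38 LD3_c21)) :=
  Lre_b IH (LK LD1_c1 LD2_c46 LD3_c9) (LK LD1_c3 LD2_c38 LD3_c21) Lrfl Lrfl
theorem f92487 : Led Lsl_bt (LP (LK LD1_c3 LD2_c34 LD3_c3)) = (LP (LK LD1_c1 LD2_c43 LD3_c45)) :=
  Lre_b IH (LK LD1_c3 LD2_c34 LD3_c3) (LK LD1_c1 LD2_c43 LD3_c45) Lrfl Lrfl
theorem f92488 : Led Lsl_dt (LP (LK LD1_c3 LD2_c38 LD3_c21)) = (LP (LK LD1_c3 LD2_c34 LD3_c3)) :=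
  Lgr Lrot79 (Lpe (f92486 IH) (Lpr_df (K2.f92484 IH) (Lpe (f92487 IH) (Lpn (LP (LK LD1_c3 LD2_c34 LD3_c3))))))
theorem f456462 : Led Lsl_ct (LP (LK LD1_c1 LD2_c47 LD3_c43)) = (LP (LK LD1_c3 LD2_c38 LD3_c21)) :=
  Lgr Lrot59 (Lpr_cf (K24.f456456 IH) (Lpn (LP (LK LD1_c3 LD2_c38 LD3_c21))))
theorem f456467 : Led Lsl_ct (LP (LK LD1_c7 LD2_c23 LD3_c61)) = (LP (LK LD1_c3 LD2_c41 LD3_c39)) :=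
  Lre_c IH (LK LD1_c7 LD2_c23 LD3_c61) (LK LD1_c3 LD2_c41 LD3_c39) Lrfl Lrfl
theorem f490437 : Led Lsl_dt (LP (LK LD1_c13 LD2_c59 LD3_c30)) = (LP (LK LD1_c7 LD2_c55 LD3_c12)) :=
  Lgr Lrot42 (Lpr_df (K29.f490435 IH) (Lpn (LP (LK LD1_c7 LD2_c55 LD3_c12))))
theorem f134732 : Led Lsl_et (LP (LK LD1_c0 LD2_c53 LD3_c23)) = (LP (LK LD1_c1 LD2_c53 LD3_c36)) :=
  Lre_e IH (LK LD1_c0 LD2_c53 LD3_c23) (LK LD1_c1 LD2_c53 LD3_c36) Lrfl Lrfl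
theorem f13407 : Led Lsl_et (LP (LK LD1_c0 LD2_c50 LD3_c36)) = (LP (LK LD1_c0 LD2_c22 LD3_c51)) :=
  Lre_e IH (LK LD1_c0 LD2_c50 LD3_c36) (LK LD1_c0 LD2_c22 LD3_c51) Lrfl Lrfl
theorem f4651 : Led Lsl_gt (LP (LK LD1_c3 LD2_c41 LD3_c42)) = (LP (LK LD1_c1 LD2_c47 LD3_c44)) :=
  Lre_g IH (LK LD1_c3 LD2_c41 LD3_c42) (LK LD1_c1 LD2_c47 LD3_c44) Lrfl Lrfl
theorem f482476 : Led Lsl_dt (LP (LK LD1_c3 LD2_c56 LD3_c42)) = (LP (LK LD1_c3 LD2_c41 LD3_c42)) :=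
  Lgr Lrot136 (Lpr_et (f482468 IH) (Lpe (K24.f455992 IH) (Lpe (f134732 IH) (Lpr_dt (K5.f134727 IH) (Lpr_gf (K6.f146870 IH) (Lpe (K6.f12900 IH) (Lpe (K3.f11407 IH) (Lpe (f13407 IH) (Lpr_dt (K29.f4613 IH) (Lpe (f4651 IH) (Lpn (LP (LK LD1_c3 LD2_c41 LD3_c42)))))))))))))
theorem f482481 : Led Lsl_df (LP (LK LD1_c3 LD2_c56 LD3_c42)) = (LP (LK LD1_c3 LD2_c41 LD3_c42)) :=
  Lgr Lrot38 (Lpr_dt (f482476 IH) (Lpn (LP (LK LD1_c3 LD2_c41 LD3_c42))))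
theorem f4615 : Led Lsl_gt (LP (LK LD1_c7 LD2_c21 LD3_c41)) = (LP (LK LD1_c3 LD2_c41 LD3_c42)) :=
  Lre_g IH (LK LD1_c7 LD2_c21 LD3_c41) (LK LD1_c3 LD2_c41 LD3_c42) Lrfl Lrfl
theorem f4607 : Led Lsl_gt (LP (LK LD1_c7 LD2_c24 LD3_c11)) = (LP (LK LD1_c7 LD2_c24 LD3_c9)) :=
  Lgr Lrot5 (Lpr_ft (K29.f4583 IH) (Lpr_at (K29.f4537 IH) (Lpe (K29.f4606 IH) (Lpn (LP (LK LD1_c7 LD2_c24 LD3_c9))))))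
theorem f490440 : Led Lsl_gf (LP (LK LD1_c13 LD2_c59 LD3_c30)) = (LP (LK LD1_c7 LD2_c24 LD3_c22)) :=
  Lgr Lrot143 (Lpr_dt (f490437 IH) (Lpe (K29.f462996 IH) (Lpe (K29.f462990 IH) (Lpe (f451368 IH) (Lpr_df (f482481 IH) (Lpe (f4615 IH) (Lpe (K29.f4578 IH) (Lpr_gt (f4607 IH) (Lpr_dt (K29.f483612 IH) (Lpn (LP (LK LD1_c7 LD2_c24 LD3_c22))))))))))))
theorem f436796 : Led Lsl_ct (LP (LK LD1_c3 LD2_c41 LD3_c39)) = (LP (LK LD1_c7 LD2_c23 LD3_c61)) :=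
  Lre_c IH (LK LD1_c3 LD2_c41 LD3_c39) (LK LD1_c7 LD2_c23 LD3_c61) Lrfl Lrfl
theorem f483627 : Led Lsl_df (LP (LK LD1_c7 LD2_c24 LD3_c9)) = (LP (LK LD1_c7 LD2_c24 LD3_c22)) :=
  Lgr Lrot38 (Lpr_dt (K29.f483612 IH) (Lpn (LP (LK LD1_c7 LD2_c24 LD3_c22))))
theorem f13398 : Led Lsl_gt (LP (LK LD1_c1 LD2_c47 LD3_c44)) = (LP (LK LD1_c3 LD2_c41 LD3_c41)) :=
  Lre_g IH (LK LD1_c1 LD2_c47 LD3_c44) (LK LD1_c3 LD2_c41 LD3_c41) Lrfl Lrfl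
theorem f13402 : Led Lsl_ct (LP (LK LD1_c3 LD2_c41 LD3_c41)) = (LP (LK LD1_c7 LD2_c24 LD3_c3)) :=
  Lre_c IH (LK LD1_c3 LD2_c41 LD3_c41) (LK LD1_c7 LD2_c24 LD3_c3) Lrfl Lrfl
theorem f490448 : Led Lsl_df (LP (LK LD1_c7 LD2_c23 LD3_c61)) = (LP (LK LD1_c7 LD2_c24 LD3_c3)) :=
  Lgr Lrot162 (Lpe (f436796 IH) (Lpe (K29.f483712 IH) (Lpe (K29.f462960 IH) (Lpr_gf (f490440 IH) (Lpe (f483627 IH) (Lpr_gt (K29.f4606 IH) (Lpr_ct (K29.f4609 IH) (Lpr_gt (f13398 IH) (Lpr_ct (f13402 IH) (Lpn (LP (LK LD1_c7 LD2_c24 LD3_c3))))))))))))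
theorem f483665 : Led Lsl_cf (LP (LK LD1_c7 LD2_c24 LD3_c28)) = (LP (LK LD1_c7 LD2_c24 LD3_c8)) :=
  Lgr Lrot11 (Lpr_ct (K29.f483660 IH) (Lpn (LP (LK LD1_c7 LD2_c24 LD3_c8))))
theorem f451364 : Led Lsl_ct (LP (LK LD1_c1 LD2_c55 LD3_c3)) = (LP (LK LD1_c0 LD2_c54 LD3_c13)) :=
  Lre_c IH (LK LD1_c1 LD2_c55 LD3_c3) (LK LD1_c0 LD2_c54 LD3_c13) Lrfl Lrfl
theorem f483753 : Led Lsl_gf (LP (LK LD1_c1 LD2_c47 LD3_c48)) = (LP (LK LD1_c0 LD2_c54 LD3_c13)) :=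
  Lgr Lrot104 (Lpr_ct (K29.f4889 IH) (Lpe (K29.f4887 IH) (Lpr_cf (f483665 IH) (Lpe (K29.f4616 IH) (Lpe (K29.f4614 IH) (Lpe (f4651 IH) (Lpe (f482476 IH) (Lpr_gt (f451368 IH) (Lpr_ct (f451364 IH) (Lpn (LP (LK LD1_c0 LD2_c54 LD3_c13))))))))))))
theorem f4854 : Led Lsl_dt (LP (LK LD1_c1 LD2_c47 LD3_c48)) = (LP (LK LD1_c0 LD2_c50 LD3_c37)) :=
  Lre_d IH (LK LD1_c1 LD2_c47 LD3_c48) (LK LD1_c0 LD2_c50 LD3_c37) Lrfl Lrfl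
theorem f4617 : Led Lsl_gt (LP (LK LD1_c3 LD2_c41 LD3_c41)) = (LP (LK LD1_c7 LD2_c21 LD3_c41)) :=
  Lre_g IH (LK LD1_c3 LD2_c41 LD3_c41) (LK LD1_c7 LD2_c21 LD3_c41) Lrfl Lrfl
theorem f451370 : Led Lsl_gt (LP (LK LD1_c1 LD2_c55 LD3_c3)) = (LP (LK LD1_c3 LD2_c56 LD3_c41)) :=
  Lre_g IH (LK LD1_c1 LD2_c55 LD3_c3) (LK LD1_c3 LD2_c56 LD3_c41) Lrfl Lrfl
theorem f483755 : Led Lsl_df (LP (LK LD1_c3 LD2_c41 LD3_c41)) = (LP (LK LD1_c3 LD2_c56 LD3_c41)) :=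
  Lgr Lrot153 (Lpr_gt (f4617 IH) (Lpr_dt (K29.f4637 IH) (Lpe (K28.f4639 IH) (Lpe (K29.f4505 IH) (Lpe (K28.f4812 IH) (Lpe (f4854 IH) (Lpr_gf (f483753 IH) (Lpe (f451364 IH) (Lpr_gt (f451370 IH) (Lpn (LP (LK LD1_c3 LD2_c56 LD3_c41))))))))))))
theorem f515065 : Led Lsl_ft (LP (LK LD1_c3 LD2_c56 LD3_c41)) = (LP (LK LD1_c3 LD2_c54 LD3_c21)) :=
  Lgr Lrot142 (Lpe (f483755 IH) (Lpr_ct (f13402 IH) (Lpe (f490448 IH) (Lpr_ct (f456467 IH) (Lpr_dt (K29.f4810 IH) (Lpr_ct (f456462 IH) (Lpr_dt (f92488 IH) (Lpe (f482461 IH) (Lpr_af (f515057 IH) (Lpn (LP (LK LD1_c3 LD2_c54 LD3_c21))))))))))))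
theorem f483864 : Led Lsl_dt (LP (LK LD1_c3 LD2_c41 LD3_c41)) = (LP (LK LD1_c3 LD2_c56 LD3_c41)) :=
  Lgr Lrot42 (Lpr_df (f483755 IH) (Lpn (LP (LK LD1_c3 LD2_c56 LD3_c41))))
theorem f148161 : Led Lsl_et (LP (LK LD1_c3 LD2_c54 LD3_c21)) = (LP (LK LD1_c1 LD2_c53 LD3_c46)) :=
  Lre_e IH (LK LD1_c3 LD2_c54 LD3_c21) (LK LD1_c1 LD2_c53 LD3_c46) Lrfl Lrfl
theorem f148162 : Led Lsl_et (LP (LK LD1_c1 LD2_c47 LD3_c17)) = (LP (LK LD1_c0 LD2_c50 LD3_c26)) :=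
  Lre_e IH (LK LD1_c1 LD2_c47 LD3_c17) (LK LD1_c0 LD2_c50 LD3_c26) Lrfl Lrfl
theorem f4564 : Led Lsl_gt (LP (LK LD1_c7 LD2_c21 LD3_c39)) = (LP (LK LD1_c3 LD2_c40 LD3_c41)) :=
  Lre_g IH (LK LD1_c7 LD2_c21 LD3_c39) (LK LD1_c3 LD2_c40 LD3_c41) Lrfl Lrfl
theorem f148163 : Led Lsl_dt (LP (LK LD1_c3 LD2_c54 LD3_c21)) = (LP (LK LD1_c7 LD2_c21 LD3_c39)) :=
  Lgr Lrot136 (Lpr_et (f148161 IH) (Lpe (K29.f122781 IH) (Lpe (K29.f123416 IH) (Lpr_dt (K6.f95897 IH) (Lpr_gf (K7.f148154 IH) (Lpe (K4.f116073 IH) (Lpe (K7.f147687 IH) (Lpe (f148162 IH) (Lpr_dt (K29.f4517 IH) (Lpe (f4564 IH) (Lpn (LP (LK LD1_c7 LD2_c21 LD3_c39)))))))))))))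
theorem f515069 : Led Lsl_ff (LP (LK LD1_c3 LD2_c41 LD3_c41)) = (LP (LK LD1_c7 LD2_c21 LD3_c39)) :=
  Lgr Lrot19 (Lpr_dt (f483864 IH) (Lpr_ft (f515065 IH) (Lpr_dt (f148163 IH) (Lpn (LP (LK LD1_c7 LD2_c21 LD3_c39))))))
theorem f436967 : Led Lsl_gt (LP (LK LD1_c3 LD2_c40 LD3_c41)) = (LP (LK LD1_c7 LD2_c21 LD3_c38)) :=
  Lre_g IH (LK LD1_c3 LD2_c40 LD3_c41) (LK LD1_c7 LD2_c21 LD3_c38) Lrfl Lrfl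
theorem f515196 : Led Lsl_at (LP (LK LD1_c3 LD2_c41 LD3_c41)) = (LP (LK LD1_c7 LD2_c21 LD3_c38)) :=
  Lgr Lrot26 (Lpr_ff (f515069 IH) (Lpr_gt (f4564 IH) (Lpr_gt (f436967 IH) (Lpn (LP (LK LD1_c7 LD2_c21 LD3_c38))))))
theorem f148169 : Led Lsl_df (LP (LK LD1_c3 LD2_c54 LD3_c21)) = (LP (LK LD1_c7 LD2_c21 LD3_c39)) :=
  Lgr Lrot38 (Lpr_dt (f148163 IH) (Lpn (LP (LK LD1_c7 LD2_c21 LD3_c39))))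
theorem f515063 : Led Lsl_at (LP (LK LD1_c3 LD2_c41 LD3_c42)) = (LP (LK LD1_c7 LD2_c21 LD3_c39)) :=
  Lgr Lrot51 (Lpe (f482476 IH) (Lpr_af (f515057 IH) (Lpr_df (f148169 IH) (Lpn (LP (LK LD1_c7 LD2_c21 LD3_c39))))))
theorem f515208 : Led Lsl_ff (LP (LK LD1_c3 LD2_c41 LD3_c42)) = (LP (LK LD1_c7 LD2_c21 LD3_c38)) :=
  Lgr Lrot30 (Lpr_at (f515063 IH) (Lpe (f515069 IH) (Lpr_at (f515196 IH) (Lpn (LP (LK LD1_c7 LD2_c21 LD3_c38))))))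
theorem f515218 : Led Lsl_ft (LP (LK LD1_c3 LD2_c41 LD3_c42)) = (LP (LK LD1_c7 LD2_c21 LD3_c38)) :=
  Lgr Lrot48 (Lpr_ff (f515208 IH) (Lpn (LP (LK LD1_c7 LD2_c21 LD3_c38))))
theorem f482504 : Led Lsl_et (LP (LK LD1_c7 LD2_c24 LD3_c7)) = (LP (LK LD1_c3 LD2_c41 LD3_c42)) :=
  Lre_e IH (LK LD1_c7 LD2_c24 LD3_c7) (LK LD1_c3 LD2_c41 LD3_c42) Lrfl Lrfl
theorem f482495 : Led Lsl_ft (LP (LK LD1_c14 LD2_c0 LD3_c9)) = (LP (LK LD1_c7 LD2_c24 LD3_c7)) :=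
  Lre_f IH (LK LD1_c14 LD2_c0 LD3_c9) (LK LD1_c7 LD2_c24 LD3_c7) Lrfl Lrfl
theorem f515205 : Led Lsl_et (LP (LK LD1_c7 LD2_c21 LD3_c38)) = (LP (LK LD1_c13 LD2_c55 LD3_c0)) :=
  Lre_e IH (LK LD1_c7 LD2_c21 LD3_c38) (LK LD1_c13 LD2_c55 LD3_c0) Lrfl Lrfl
theorem f515224 : Led Lsl_ft (LP (LK LD1_c13 LD2_c55 LD3_c0)) = (LP (LK LD1_c23 LD2_c25 LD3_c32)) :=
  Lre_f IH (LK LD1_c13 LD2_c55 LD3_c0) (LK LD1_c23 LD2_c25 LD3_c32) Lrfl Lrfl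
theorem f515225 : Led Lsl_ef (LP (LK LD1_c14 LD2_c0 LD3_c9)) = (LP (LK LD1_c23 LD2_c25 LD3_c32)) :=
  Lgr Lrot21 (Lpr_ft (f482495 IH) (Lpr_et (f482504 IH) (Lpr_ft (f515218 IH) (Lpr_et (f515205 IH) (Lpr_ft (f515224 IH) (Lpn (LP (LK LD1_c23 LD2_c25 LD3_c32))))))))
theorem f515071 : Led Lsl_ff (LP (LK LD1_c3 LD2_c56 LD3_c41)) = (LP (LK LD1_c3 LD2_c54 LD3_c21)) :=
  Lgr Lrot3 (Lpr_ft (f515065 IH) (Lpn (LP (LK LD1_c3 LD2_c54 LD3_c21))))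
theorem f515075 : Led Lsl_ft (LP (LK LD1_c3 LD2_c41 LD3_c41)) = (LP (LK LD1_c7 LD2_c21 LD3_c39)) :=
  Lgr Lrot54 (Lpr_df (f483755 IH) (Lpr_ff (f515071 IH) (Lpr_df (f148169 IH) (Lpn (LP (LK LD1_c7 LD2_c21 LD3_c39))))))
theorem f515084 : Led Lsl_af (LP (LK LD1_c3 LD2_c41 LD3_c42)) = (LP (LK LD1_c7 LD2_c21 LD3_c39)) :=
  Lgr Lrot31 (Lpe (f4615 IH) (Lpe (f4617 IH) (Lpr_ft (f515075 IH) (Lpn (LP (LK LD1_c7 LD2_c21 LD3_c39))))))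
theorem f482484 : Led Lsl_et (LP (LK LD1_c3 LD2_c41 LD3_c42)) = (LP (LK LD1_c7 LD2_c24 LD3_c7)) :=
  Lre_e IH (LK LD1_c3 LD2_c41 LD3_c42) (LK LD1_c7 LD2_c24 LD3_c7) Lrfl Lrfl
theorem f148197 : Led Lsl_et (LP (LK LD1_c13 LD2_c55 LD3_c3)) = (LP (LK LD1_c7 LD2_c21 LD3_c39)) :=
  Lre_e IH (LK LD1_c13 LD2_c55 LD3_c3) (LK LD1_c7 LD2_c21 LD3_c39) Lrfl Lrfl
theorem f515090 : Led Lsl_at (LP (LK LD1_c7 LD2_c24 LD3_c7)) = (LP (LK LD1_c13 LD2_c55 LD3_c3)) :=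
  Lgr Lrot80 (Lpe (f482484 IH) (Lpr_af (f515084 IH) (Lpe (f148197 IH) (Lpn (LP (LK LD1_c13 LD2_c55 LD3_c3))))))
theorem f148190 : Led Lsl_ft (LP (LK LD1_c13 LD2_c55 LD3_c3)) = (LP (LK LD1_c23 LD2_c25 LD3_c38)) :=
  Lre_f IH (LK LD1_c13 LD2_c55 LD3_c3) (LK LD1_c23 LD2_c25 LD3_c38) Lrfl Lrfl
theorem f515098 : Led Lsl_af (LP (LK LD1_c14 LD2_c0 LD3_c9)) = (LP (LK LD1_c23 LD2_c25 LD3_c38)) :=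
  Lgr Lrot45 (Lpr_ft (f482495 IH) (Lpr_at (f515090 IH) (Lpr_ft (f148190 IH) (Lpn (LP (LK LD1_c23 LD2_c25 LD3_c38))))))
theorem f515100 : Led Lsl_at (LP (LK LD1_c14 LD2_c0 LD3_c9)) = (LP (LK LD1_c23 LD2_c25 LD3_c38)) :=
  Lgr Lrot100 (Lpr_af (f515098 IH) (Lpn (LP (LK LD1_c23 LD2_c25 LD3_c38))))
theorem f483872 : Led Lsl_et (LP (LK LD1_c7 LD2_c24 LD3_c4)) = (LP (LK LD1_c3 LD2_c41 LD3_c41)) :=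
  Lre_e IH (LK LD1_c7 LD2_c24 LD3_c4) (LK LD1_c3 LD2_c41 LD3_c41) Lrfl Lrfl
theorem f515081 : Led Lsl_ft (LP (LK LD1_c14 LD2_c0 LD3_c1)) = (LP (LK LD1_c7 LD2_c24 LD3_c4)) :=
  Lre_f IH (LK LD1_c14 LD2_c0 LD3_c1) (LK LD1_c7 LD2_c24 LD3_c4) Lrfl Lrfl
theorem f148174 : Led Lsl_et (LP (LK LD1_c7 LD2_c21 LD3_c39)) = (LP (LK LD1_c13 LD2_c55 LD3_c3)) :=
  Lre_e IH (LK LD1_c7 LD2_c21 LD3_c39) (LK LD1_c13 LD2_c55 LD3_c3) Lrfl Lrfl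
theorem f515082 : Led Lsl_ef (LP (LK LD1_c14 LD2_c0 LD3_c1)) = (LP (LK LD1_c23 LD2_c25 LD3_c38)) :=
  Lgr Lrot21 (Lpr_ft (f515081 IH) (Lpr_et (f483872 IH) (Lpr_ft (f515075 IH) (Lpr_et (f148174 IH) (Lpr_ft (f148190 IH) (Lpn (LP (LK LD1_c23 LD2_c25 LD3_c38))))))))
theorem f515227 : Led Lsl_at (LP (LK LD1_c14 LD2_c0 LD3_c1)) = (LP (LK LD1_c23 LD2_c25 LD3_c32)) :=
  Lgr Lrot80 (Lpr_ef (f515082 IH) (Lpe (f515100 IH) (Lpr_ef (f515225 IH) (Lpn (LP (LK LD1_c23 LD2_c25 LD3_c32))))))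
theorem f515229 : Led Lsl_af (LP (LK LD1_c14 LD2_c0 LD3_c1)) = (LP (LK LD1_c23 LD2_c25 LD3_c32)) :=
  Lgr Lrot0 (Lpr_at (f515227 IH) (Lpn (LP (LK LD1_c23 LD2_c25 LD3_c32))))
theorem f515238 : Led Lsl_at (LP (LK LD1_c7 LD2_c24 LD3_c4)) = (LP (LK LD1_c13 LD2_c55 LD3_c0)) :=
  Lgr Lrot66 (Lpe (f515081 IH) (Lpr_af (f515229 IH) (Lpe (f515224 IH) (Lpn (LP (LK LD1_c13 LD2_c55 LD3_c0))))))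
theorem f483890 : Led Lsl_ct (LP (LK LD1_c13 LD2_c59 LD3_c59)) = (LP (LK LD1_c7 LD2_c24 LD3_c4)) :=
  Lre_c IH (LK LD1_c13 LD2_c59 LD3_c59) (LK LD1_c7 LD2_c24 LD3_c4) Lrfl Lrfl
theorem f515247 : Led Lsl_ct (LP (LK LD1_c13 LD2_c55 LD3_c0)) = (LP (LK LD1_c23 LD2_c25 LD3_c29)) :=
  Lre_c IH (LK LD1_c13 LD2_c55 LD3_c0) (LK LD1_c23 LD2_c25 LD3_c29) Lrfl Lrfl
theorem f515248 : Led Lsl_af (LP (LK LD1_c13 LD2_c59 LD3_c59)) = (LP (LK LD1_c23 LD2_c25 LD3_c29)) :=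
  Lgr Lrot68 (Lpr_ct (f483890 IH) (Lpr_at (f515238 IH) (Lpr_ct (f515247 IH) (Lpn (LP (LK LD1_c23 LD2_c25 LD3_c29))))))
theorem f490455 : Led Lsl_et (LP (LK LD1_c13 LD2_c59 LD3_c59)) = (LP (LK LD1_c7 LD2_c24 LD3_c3)) :=
  Lre_e IH (LK LD1_c13 LD2_c59 LD3_c59) (LK LD1_c7 LD2_c24 LD3_c3) Lrfl Lrfl
theorem f515261 : Led Lsl_et (LP (LK LD1_c13 LD2_c54 LD3_c61)) = (LP (LK LD1_c23 LD2_c25 LD3_c29)) :=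
  Lre_e IH (LK LD1_c13 LD2_c54 LD3_c61) (LK LD1_c23 LD2_c25 LD3_c29) Lrfl Lrfl
theorem f515262 : Led Lsl_at (LP (LK LD1_c7 LD2_c24 LD3_c3)) = (LP (LK LD1_c13 LD2_c54 LD3_c61)) :=
  Lgr Lrot80 (Lpe (f490455 IH) (Lpr_af (f515248 IH) (Lpe (f515261 IH) (Lpn (LP (LK LD1_c13 LD2_c54 LD3_c61))))))
theorem f4653 : Led Lsl_ct (LP (LK LD1_c7 LD2_c24 LD3_c3)) = (LP (LK LD1_c3 LD2_c41 LD3_c41)) :=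
  Lre_c IH (LK LD1_c7 LD2_c24 LD3_c3) (LK LD1_c3 LD2_c41 LD3_c41) Lrfl Lrfl
theorem f4588 : Led Lsl_ct (LP (LK LD1_c7 LD2_c21 LD3_c39)) = (LP (LK LD1_c13 LD2_c55 LD3_c2)) :=
  Lre_c IH (LK LD1_c7 LD2_c21 LD3_c39) (LK LD1_c13 LD2_c55 LD3_c2) Lrfl Lrfl
theorem f515079 : Led Lsl_ff (LP (LK LD1_c7 LD2_c24 LD3_c3)) = (LP (LK LD1_c13 LD2_c55 LD3_c2)) :=
  Lgr Lrot23 (Lpr_ct (f4653 IH) (Lpr_ft (f515075 IH) (Lpr_ct (f4588 IH) (Lpn (LP (LK LD1_c13 LD2_c55 LD3_c2))))))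
theorem f483459 : Led Lsl_cf (LP (LK LD1_c6 LD2_c34 LD3_c1)) = (LP (LK LD1_c3 LD2_c40 LD3_c40)) :=
  Lgr Lrot11 (Lpr_ct (K29.f483454 IH) (Lpn (LP (LK LD1_c3 LD2_c40 LD3_c40))))
theorem f4587 : Led Lsl_gt (LP (LK LD1_c3 LD2_c41 LD3_c44)) = (LP (LK LD1_c7 LD2_c21 LD3_c39)) :=
  Lre_g IH (LK LD1_c3 LD2_c41 LD3_c44) (LK LD1_c7 LD2_c21 LD3_c39) Lrfl Lrfl
theorem f486090 : Led Lsl_gf (LP (LK LD1_c13 LD2_c55 LD3_c16)) = (LP (LK LD1_c13 LD2_c55 LD3_c2)) :=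
  Lgr Lrot104 (Lpr_ct (K29.f123543 IH) (Lpe (K29.f122495 IH) (Lpr_cf (K4.f123540 IH) (Lpe (K29.f65535 IH) (Lpr_cf (f483459 IH) (Lpe (K29.f148259 IH) (Lpe (K29.f4511 IH) (Lpr_gt (f4587 IH) (Lpr_ct (f4588 IH) (Lpn (LP (LK LD1_c13 LD2_c55 LD3_c2))))))))))))
theorem f515266 : Led Lsl_gt (LP (LK LD1_c13 LD2_c55 LD3_c16)) = (LP (LK LD1_c13 LD2_c54 LD3_c61)) :=
  Lgr Lrot46 (Lpr_gf (f486090 IH) (Lpe (f515079 IH) (Lpr_at (f515262 IH) (Lpn (LP (LK LD1_c13 LD2_c54 LD3_c61))))))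
theorem f4863 : Led Lsl_ct (LP (LK LD1_c14 LD2_c0 LD3_c27)) = (LP (LK LD1_c7 LD2_c24 LD3_c15)) :=
  Lre_c IH (LK LD1_c14 LD2_c0 LD3_c27) (LK LD1_c7 LD2_c24 LD3_c15) Lrfl Lrfl
theorem f123544 : Led Lsl_ct (LP (LK LD1_c7 LD2_c21 LD3_c47)) = (LP (LK LD1_c13 LD2_c55 LD3_c16)) :=
  Lre_c IH (LK LD1_c7 LD2_c21 LD3_c47) (LK LD1_c13 LD2_c55 LD3_c16) Lrfl Lrfl
theorem f483541 : Led Lsl_df (LP (LK LD1_c14 LD2_c0 LD3_c27)) = (LP (LK LD1_c13 LD2_c55 LD3_c16)) :=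
  Lgr Lrot43 (Lpr_ct (f4863 IH) (Lpr_dt (K29.f4864 IH) (Lpr_ct (K29.f483522 IH) (Lpe (K29.f478587 IH) (Lpe (K29.f483530 IH) (Lpr_dt (K29.f4847 IH) (Lpr_ct (K29.f4862 IH) (Lpr_dt (K29.f483536 IH) (Lpr_ct (K29.f123543 IH) (Lpr_dt (K29.f123542 IH) (Lpr_ct (K4.f122619 IH) (Lpe (K29.f65507 IH) (Lpe (K4.f123540 IH) (Lpr_dt (K29.f122495 IH) (Lpr_ct (f123544 IH) (Lpn (LP (LK LD1_c13 LD2_c55 LD3_c16))))))))))))))))))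
theorem f4563 : Led Lsl_ct (LP (LK LD1_c13 LD2_c54 LD3_c61)) = (LP (LK LD1_c7 LD2_c21 LD3_c38)) :=
  Lre_c IH (LK LD1_c13 LD2_c54 LD3_c61) (LK LD1_c7 LD2_c21 LD3_c38) Lrfl Lrfl
theorem f4529 : Led Lsl_gt (LP (LK LD1_c7 LD2_c21 LD3_c38)) = (LP (LK LD1_c3 LD2_c41 LD3_c44)) :=
  Lre_g IH (LK LD1_c7 LD2_c21 LD3_c38) (LK LD1_c3 LD2_c41 LD3_c44) Lrfl Lrfl
theorem f4565 : Led Lsl_ct (LP (LK LD1_c13 LD2_c55 LD3_c2)) = (LP (LK LD1_c7 LD2_c21 LD3_c39)) :=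
  Lre_c IH (LK LD1_c13 LD2_c55 LD3_c2) (LK LD1_c7 LD2_c21 LD3_c39) Lrfl Lrfl
theorem f515270 : Led Lsl_gt (LP (LK LD1_c14 LD2_c0 LD3_c27)) = (LP (LK LD1_c13 LD2_c55 LD3_c2)) :=
  Lgr Lrot9 (Lpr_df (f483541 IH) (Lpr_gt (f515266 IH) (Lpr_ct (f4563 IH) (Lpr_gt (f4529 IH) (Lpr_ct (K29.f4509 IH) (Lpe (K29.f4519 IH) (Lpe (K29.f4518 IH) (Lpe (f4564 IH) (Lpe (f4565 IH) (Lpn (LP (LK LD1_c13 LD2_c55 LD3_c2))))))))))))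
theorem f456431 : Led Lsl_gt (LP (LK LD1_c1 LD2_c47 LD3_c17)) = (LP (LK LD1_c3 LD2_c38 LD3_c50)) :=
  Lgr Lrot5 (Lpr_ft (K29.f4516 IH) (Lpr_at (K29.f4515 IH) (Lpr_gf (K29.f456429 IH) (Lpn (LP (LK LD1_c3 LD2_c38 LD3_c50))))))
theorem f456434 : Led Lsl_dt (LP (LK LD1_c3 LD2_c38 LD3_c50)) = (LP (LK LD1_c7 LD2_c18 LD3_c5)) :=
  Lre_d IH (LK LD1_c3 LD2_c38 LD3_c50) (LK LD1_c7 LD2_c18 LD3_c5) Lrfl Lrfl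
theorem f456444 : Led Lsl_ct (LP (LK LD1_c7 LD2_c18 LD3_c5)) = (LP (LK LD1_c13 LD2_c48 LD3_c59)) :=
  Lre_c IH (LK LD1_c7 LD2_c18 LD3_c5) (LK LD1_c13 LD2_c48 LD3_c59) Lrfl Lrfl
theorem f515272 : Led Lsl_df (LP (LK LD1_c13 LD2_c48 LD3_c59)) = (LP (LK LD1_c13 LD2_c55 LD3_c2)) :=
  Lgr Lrot84 (Lpe (f456444 IH) (Lpe (f456434 IH) (Lpe (f456431 IH) (Lpe (K29.f4526 IH) (Lpe (f4564 IH) (Lpe (f4565 IH) (Lpe (f486090 IH) (Lpe (f483541 IH) (Lpr_gt (f515270 IH) (Lpn (LP (LK LD1_c13 LD2_c55 LD3_c2))))))))))))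
theorem f456443 : Led Lsl_ct (LP (LK LD1_c13 LD2_c48 LD3_c59)) = (LP (LK LD1_c7 LD2_c18 LD3_c5)) :=
  Lre_c IH (LK LD1_c13 LD2_c48 LD3_c59) (LK LD1_c7 LD2_c18 LD3_c5) Lrfl Lrfl
theorem f4424 : Led Lsl_dt (LP (LK LD1_c7 LD2_c18 LD3_c5)) = (LP (LK LD1_c3 LD2_c38 LD3_c50)) :=
  Lre_d IH (LK LD1_c7 LD2_c18 LD3_c5) (LK LD1_c3 LD2_c38 LD3_c50) Lrfl Lrfl
theorem f4423 : Led Lsl_ct (LP (LK LD1_c3 LD2_c38 LD3_c50)) = (LP (LK LD1_c1 LD2_c46 LD3_c21)) :=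
  Lre_c IH (LK LD1_c3 LD2_c38 LD3_c50) (LK LD1_c1 LD2_c46 LD3_c21) Lrfl Lrfl
theorem f456987 : Led Lsl_at (LP (LK LD1_c3 LD2_c38 LD3_c49)) = (LP (LK LD1_c1 LD2_c46 LD3_c21)) :=
  Lre_a IH (LK LD1_c3 LD2_c38 LD3_c49) (LK LD1_c1 LD2_c46 LD3_c21) Lrfl Lrfl
theorem f478291 : Led Lsl_ft (LP (LK LD1_c6 LD2_c34 LD3_c1)) = (LP (LK LD1_c3 LD2_c38 LD3_c49)) :=
  Lgr Lrot2 (Lpr_gt (K29.f65535 IH) (Lpr_gt (K29.f478289 IH) (Lpe (f456987 IH) (Lpn (LP (LK LD1_c3 LD2_c38 LD3_c49))))))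
theorem f482466 : Led Lsl_ct (LP (LK LD1_c3 LD2_c56 LD3_c42)) = (LP (LK LD1_c3 LD2_c34 LD3_c3)) :=
  Lgr Lrot59 (Lpr_cf (f482461 IH) (Lpn (LP (LK LD1_c3 LD2_c34 LD3_c3))))
theorem f93147 : Led Lsl_at (LP (LK LD1_c3 LD2_c34 LD3_c3)) = (LP (LK LD1_c7 LD2_c9 LD3_c8)) :=
  Lre_a IH (LK LD1_c3 LD2_c34 LD3_c3) (LK LD1_c7 LD2_c9 LD3_c8) Lrfl Lrfl
theorem f515061 : Led Lsl_ct (LP (LK LD1_c7 LD2_c9 LD3_c8)) = (LP (LK LD1_c3 LD2_c54 LD3_c21)) :=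
  Lgr Lrot111 (Lpe (f93147 IH) (Lpe (f482466 IH) (Lpr_af (f515057 IH) (Lpn (LP (LK LD1_c3 LD2_c54 LD3_c21))))))
theorem f515280 : Led Lsl_dt (LP (LK LD1_c6 LD2_c34 LD3_c1)) = (LP (LK LD1_c7 LD2_c9 LD3_c8)) :=
  Lgr Lrot159 (Lpr_ft (f478291 IH) (Lpr_at (f456987 IH) (Lpe (f4423 IH) (Lpe (f4424 IH) (Lpe (f456443 IH) (Lpr_df (f515272 IH) (Lpe (f4588 IH) (Lpe (f148163 IH) (Lpe (f515061 IH) (Lpn (LP (LK LD1_c7 LD2_c9 LD3_c8))))))))))))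
theorem f4886 : Led Lsl_ct (LP (LK LD1_c3 LD2_c41 LD3_c51)) = (LP (LK LD1_c1 LD2_c47 LD3_c48)) :=
  Lre_c IH (LK LD1_c3 LD2_c41 LD3_c51) (LK LD1_c1 LD2_c47 LD3_c48) Lrfl Lrfl
theorem f468083 : Led Lsl_gt (LP (LK LD1_c7 LD2_c24 LD3_c26)) = (LP (LK LD1_c3 LD2_c41 LD3_c51)) :=
  Lre_g IH (LK LD1_c7 LD2_c24 LD3_c26) (LK LD1_c3 LD2_c41 LD3_c51) Lrfl Lrfl
theorem f137118 : Led Lsl_ct (LP (LK LD1_c3 LD2_c25 LD3_c59)) = (LP (LK LD1_c1 LD2_c39 LD3_c38)) :=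
  Lre_c IH (LK LD1_c3 LD2_c25 LD3_c59) (LK LD1_c1 LD2_c39 LD3_c38) Lrfl Lrfl
theorem f511474 : Led Lsl_ff (LP (LK LD1_c3 LD2_c25 LD3_c59)) = (LP (LK LD1_c3 LD2_c44 LD3_c26)) :=
  Lgr Lrot23 (Lpr_ct (f137118 IH) (Lpr_ft (f511332 IH) (Lpr_ct (f511465 IH) (Lpn (LP (LK LD1_c3 LD2_c44 LD3_c26))))))
theorem f137114 : Led Lsl_at (LP (LK LD1_c3 LD2_c25 LD3_c59)) = (LP (LK LD1_c3 LD2_c43 LD3_c32)) :=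
  Lgr Lrot100 (Lpr_af (K6.f137112 IH) (Lpn (LP (LK LD1_c3 LD2_c43 LD3_c32))))
def v798 : LQ := Led Lsl_ft (LP (LK LD1_c0 LD2_c51 LD3_c0))
theorem f459436 : Led Lsl_ft (LP (LK LD1_c0 LD2_c51 LD3_c0)) = v798 :=
  Lrfl
theorem f459439 : Led Lsl_ff (LP (LK LD1_c0 LD2_c51 LD3_c0)) = v798 :=
  Lgr Lrot3 (Lpr_ft (f459436 IH) (Lpn v798))
theorem f147764 : Led Lsl_et (LP (LK LD1_c0 LD2_c51 LD3_c0)) = (LP (LK LD1_c0 LD2_c23 LD3_c1)) :=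
  Lre_e IH (LK LD1_c0 LD2_c51 LD3_c0) (LK LD1_c0 LD2_c23 LD3_c1) Lrfl Lrfl
theorem f147757 : Led Lsl_at (LP (LK LD1_c0 LD2_c23 LD3_c1)) = (LP (LK LD1_c0 LD2_c10 LD3_c24)) :=
  Lre_a IH (LK LD1_c0 LD2_c23 LD3_c1) (LK LD1_c0 LD2_c10 LD3_c24) Lrfl Lrfl
theorem f148232 : Led Lsl_ff (LP (LK LD1_c0 LD2_c23 LD3_c1)) = (LP (LK LD1_c0 LD2_c22 LD3_c48)) :=
  Lgr Lrot52 (Lpr_at (f147757 IH) (Lpe (K4.f12766 IH) (Lpr_gf (K7.f148158 IH) (Lpn (LP (LK LD1_c0 LD2_c22 LD3_c48))))))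
theorem f148280 : Led Lsl_ff (LP (LK LD1_c0 LD2_c22 LD3_c48)) = (LP (LK LD1_c0 LD2_c23 LD3_c1)) :=
  Lgr Lrot25 (Lpr_bt (K7.f148238 IH) (Lpe (f148232 IH) (Lpr_bt (K7.f147747 IH) (Lpn (LP (LK LD1_c0 LD2_c23 LD3_c1))))))
theorem f459443 : Led Lsl_et (LP (LK LD1_c1 LD2_c47 LD3_c20)) = v798 :=
  Lgr Lrot69 (Lpe (K11.f4834 IH) (Lpe (K11.f4830 IH) (Lpr_ff (f148280 IH) (Lpe (f147764 IH) (Lpr_ff (f459439 IH) (Lpn v798))))))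
theorem f436825 : Led Lsl_at (LP (LK LD1_c0 LD2_c51 LD3_c0)) = (LP (LK LD1_c0 LD2_c23 LD3_c10)) :=
  Lre_a IH (LK LD1_c0 LD2_c51 LD3_c0) (LK LD1_c0 LD2_c23 LD3_c10) Lrfl Lrfl
theorem f12864 : Led Lsl_gt (LP (LK LD1_c0 LD2_c51 LD3_c23)) = (LP (LK LD1_c0 LD2_c23 LD3_c10)) :=
  Lre_g IH (LK LD1_c0 LD2_c51 LD3_c23) (LK LD1_c0 LD2_c23 LD3_c10) Lrfl Lrfl
theorem f459444 : Led Lsl_gf (LP (LK LD1_c0 LD2_c51 LD3_c23)) = v798 :=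
  Lgr Lrot47 (Lpr_gt (f12864 IH) (Lpe (f436825 IH) (Lpr_ff (f459439 IH) (Lpn v798))))
theorem f451029 : Led Lsl_et (LP (LK LD1_c1 LD2_c49 LD3_c18)) = (LP (LK LD1_c0 LD2_c51 LD3_c23)) :=
  Lre_e IH (LK LD1_c1 LD2_c49 LD3_c18) (LK LD1_c0 LD2_c51 LD3_c23) Lrfl Lrfl
theorem f11338 : Led Lsl_et (LP (LK LD1_c0 LD2_c24 LD3_c24)) = (LP (LK LD1_c0 LD2_c54 LD3_c13)) :=
  Lre_e IH (LK LD1_c0 LD2_c24 LD3_c24) (LK LD1_c0 LD2_c54 LD3_c13) Lrfl Lrfl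
theorem f11344 : Led Lsl_gt (LP (LK LD1_c1 LD2_c54 LD3_c58)) = (LP (LK LD1_c0 LD2_c54 LD3_c8)) :=
  Lre_g IH (LK LD1_c1 LD2_c54 LD3_c58) (LK LD1_c0 LD2_c54 LD3_c8) Lrfl Lrfl
theorem f483758 : Led Lsl_dt (LP (LK LD1_c1 LD2_c49 LD3_c18)) = (LP (LK LD1_c1 LD2_c54 LD3_c58)) :=
  Lgr Lrot136 (Lpr_et (f451029 IH) (Lpr_gf (f459444 IH) (Lpe (f459443 IH) (Lpr_dt (K29.f4505 IH) (Lpe (K28.f4812 IH) (Lpe (f4854 IH) (Lpr_gf (f483753 IH) (Lpe (f11338 IH) (Lpr_dt (K29.f11318 IH) (Lpe (f11344 IH) (Lpn (LP (LK LD1_c1 LD2_c54 LD3_c58)))))))))))))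
theorem f451343 : Led Lsl_gt (LP (LK LD1_c1 LD2_c54 LD3_c54)) = (LP (LK LD1_c3 LD2_c56 LD3_c21)) :=
  Lre_g IH (LK LD1_c1 LD2_c54 LD3_c54) (LK LD1_c3 LD2_c56 LD3_c21) Lrfl Lrfl
theorem f98808 : Led Lsl_dt (LP (LK LD1_c1 LD2_c40 LD3_c26)) = (LP (LK LD1_c3 LD2_c27 LD3_c45)) :=
  Lre_d IH (LK LD1_c1 LD2_c40 LD3_c26) (LK LD1_c3 LD2_c27 LD3_c45) Lrfl Lrfl
theorem f98820 : Led Lsl_gt (LP (LK LD1_c3 LD2_c27 LD3_c45)) = (LP (LK LD1_c6 LD2_c57 LD3_c42)) :=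
  Lre_g IH (LK LD1_c3 LD2_c27 LD3_c45) (LK LD1_c6 LD2_c57 LD3_c42) Lrfl Lrfl
theorem f451624 : Led Lsl_ft (LP (LK LD1_c0 LD2_c54 LD3_c12)) = (LP (LK LD1_c0 LD2_c54 LD3_c6)) :=
  Lgr Lrot75 (Lpe (K29.f451623 IH) (Lpr_ff (K28.f451621 IH) (Lpe (K28.f451263 IH) (Lpn (LP (LK LD1_c0 LD2_c54 LD3_c6))))))
theorem f451854 : Led Lsl_at (LP (LK LD1_c0 LD2_c54 LD3_c6)) = (LP (LK LD1_c1 LD2_c54 LD3_c48)) :=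
  Lre_a IH (LK LD1_c0 LD2_c54 LD3_c6) (LK LD1_c1 LD2_c54 LD3_c48) Lrfl Lrfl
theorem f463689 : Led Lsl_gt (LP (LK LD1_c1 LD2_c54 LD3_c6)) = (LP (LK LD1_c1 LD2_c54 LD3_c48)) :=
  Lgr Lrot46 (Lpr_gf (K28.f463653 IH) (Lpr_ft (f451624 IH) (Lpr_at (f451854 IH) (Lpn (LP (LK LD1_c1 LD2_c54 LD3_c48))))))
theorem f451911 : Led Lsl_ct (LP (LK LD1_c3 LD2_c56 LD3_c12)) = (LP (LK LD1_c1 LD2_c54 LD3_c49)) :=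
  Lre_c IH (LK LD1_c3 LD2_c56 LD3_c12) (LK LD1_c1 LD2_c54 LD3_c49) Lrfl Lrfl
theorem f451950 : Led Lsl_gt (LP (LK LD1_c3 LD2_c56 LD3_c21)) = (LP (LK LD1_c3 LD2_c56 LD3_c12)) :=
  Lgr Lrot46 (Lpe (f451343 IH) (Lpr_ft (K28.f451928 IH) (Lpr_at (K28.f451927 IH) (Lpn (LP (LK LD1_c3 LD2_c56 LD3_c12))))))
theorem f464630 : Led Lsl_ct (LP (LK LD1_c6 LD2_c57 LD3_c42)) = (LP (LK LD1_c3 LD2_c56 LD3_c21)) :=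
  Lgr Lrot152 (Lpe (f98820 IH) (Lpe (f98808 IH) (Lpr_gt (K28.f464624 IH) (Lpr_ct (K28.f121013 IH) (Lpr_gt (f463689 IH) (Lpr_ct (K28.f451270 IH) (Lpe (K28.f11374 IH) (Lpe (f451911 IH) (Lpe (f451950 IH) (Lpn (LP (LK LD1_c3 LD2_c56 LD3_c21))))))))))))
theorem f464663 : Led Lsl_cf (LP (LK LD1_c6 LD2_c57 LD3_c42)) = (LP (LK LD1_c3 LD2_c56 LD3_c21)) :=
  Lgr Lrot11 (Lpr_ct (f464630 IH) (Lpn (LP (LK LD1_c3 LD2_c56 LD3_c21))))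
theorem f98821 : Led Lsl_dt (LP (LK LD1_c6 LD2_c57 LD3_c42)) = (LP (LK LD1_c13 LD2_c13 LD3_c8)) :=
  Lre_d IH (LK LD1_c6 LD2_c57 LD3_c42) (LK LD1_c13 LD2_c13 LD3_c8) Lrfl Lrfl
theorem f11378 : Led Lsl_dt (LP (LK LD1_c7 LD2_c55 LD3_c4)) = (LP (LK LD1_c3 LD2_c56 LD3_c39)) :=
  Lre_d IH (LK LD1_c7 LD2_c55 LD3_c4) (LK LD1_c3 LD2_c56 LD3_c39) Lrfl Lrfl
theorem f469523 : Led Lsl_gf (LP (LK LD1_c7 LD2_c54 LD3_c44)) = (LP (LK LD1_c13 LD2_c25 LD3_c46)) :=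
  Lgr Lrot144 (Lpe (K28.f462193 IH) (Lpr_gt (K28.f469517 IH) (Lpr_dt (f11378 IH) (Lpe (K28.f11334 IH) (Lpe (K28.f11333 IH) (Lpe (K28.f11351 IH) (Lpe (K28.f451352 IH) (Lpe (K28.f465101 IH) (Lpr_cf (K32.f460779 IH) (Lpn (LP (LK LD1_c13 LD2_c25 LD3_c46))))))))))))
theorem f469530 : Led Lsl_gf (LP (LK LD1_c7 LD2_c22 LD3_c5)) = (LP (LK LD1_c7 LD2_c52 LD3_c48)) :=
  Lgr Lrot144 (Lpr_dt (K29.f457146 IH) (Lpr_gt (K28.f122361 IH) (Lpr_dt (K4.f12598 IH) (Lpe (K28.f122368 IH) (Lpr_df (K28.f462193 IH) (Lpr_gf (f469523 IH) (Lpe (K32.f458950 IH) (Lpe (K32.f459048 IH) (Lpr_cf (K32.f468287 IH) (Lpn (LP (LK LD1_c7 LD2_c52 LD3_c48))))))))))))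
theorem f469532 : Led Lsl_cf (LP (LK LD1_c7 LD2_c52 LD3_c48)) = (LP (LK LD1_c13 LD2_c25 LD3_c44)) :=
  Lgr Lrot166 (Lpe (f469530 IH) (Lpr_dt (K29.f457146 IH) (Lpr_gt (K28.f122361 IH) (Lpr_dt (K4.f12598 IH) (Lpr_ct (K28.f129183 IH) (Lpr_df (K28.f462193 IH) (Lpr_gf (f469523 IH) (Lpe (K32.f458950 IH) (Lpe (K32.f459048 IH) (Lpn (LP (LK LD1_c13 LD2_c25 LD3_c44))))))))))))
theorem f459049 : Led Lsl_gf (LP (LK LD1_c13 LD2_c25 LD3_c44)) = (LP (LK LD1_c13 LD2_c24 LD3_c42)) :=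
  Lgr Lrot47 (Lpr_gt (K32.f459048 IH) (Lpe (K29.f458949 IH) (Lpr_ff (K29.f459025 IH) (Lpn (LP (LK LD1_c13 LD2_c24 LD3_c42))))))
theorem f458894 : Led Lsl_gt (LP (LK LD1_c3 LD2_c31 LD3_c43)) = (LP (LK LD1_c7 LD2_c4 LD3_c60)) :=
  Lre_g IH (LK LD1_c3 LD2_c31 LD3_c43) (LK LD1_c7 LD2_c4 LD3_c60) Lrfl Lrfl
theorem f458895 : Led Lsl_gt (LP (LK LD1_c7 LD2_c4 LD3_c60)) = (LP (LK LD1_c7 LD2_c4 LD3_c28)) :=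
  Lgr Lrot46 (Lpe (f458894 IH) (Lpr_ft (K24.f458838 IH) (Lpr_at (K24.f458884 IH) (Lpn (LP (LK LD1_c7 LD2_c4 LD3_c28))))))
theorem f479856 : Led Lsl_df (LP (LK LD1_c3 LD2_c56 LD3_c25)) = (LP (LK LD1_c7 LD2_c4 LD3_c60)) :=
  Lgr Lrot155 (Lpe (K32.f451956 IH) (Lpr_ct (K28.f11366 IH) (Lpr_gt (K32.f479835 IH) (Lpr_ct (K32.f463662 IH) (Lpr_dt (K32.f463663 IH) (Lpr_cf (f469532 IH) (Lpr_gf (f459049 IH) (Lpe (K28.f458914 IH) (Lpe (f458895 IH) (Lpn (LP (LK LD1_c7 LD2_c4 LD3_c60))))))))))))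
theorem f462839 : Led Lsl_dt (LP (LK LD1_c3 LD2_c56 LD3_c27)) = (LP (LK LD1_c7 LD2_c54 LD3_c38)) :=
  Lre_d IH (LK LD1_c3 LD2_c56 LD3_c27) (LK LD1_c7 LD2_c54 LD3_c38) Lrfl Lrfl
theorem f458916 : Led Lsl_ct (LP (LK LD1_c13 LD2_c25 LD3_c38)) = (LP (LK LD1_c7 LD2_c4 LD3_c60)) :=
  Lre_c IH (LK LD1_c13 LD2_c25 LD3_c38) (LK LD1_c7 LD2_c4 LD3_c60) Lrfl Lrfl
theorem f469175 : Led Lsl_ct (LP (LK LD1_c3 LD2_c31 LD3_c41)) = (LP (LK LD1_c3 LD2_c35 LD3_c34)) :=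
  Lgr Lrot40 (Lpr_ff (K28.f469168 IH) (Lpe (K4.f116127 IH) (Lpe (K28.f106208 IH) (Lpn (LP (LK LD1_c3 LD2_c35 LD3_c34))))))
theorem f459253 : Led Lsl_ct (LP (LK LD1_c7 LD2_c4 LD3_c61)) = (LP (LK LD1_c13 LD2_c25 LD3_c41)) :=
  Lre_c IH (LK LD1_c7 LD2_c4 LD3_c61) (LK LD1_c13 LD2_c25 LD3_c41) Lrfl Lrfl
theorem f459482 : Led Lsl_dt (LP (LK LD1_c7 LD2_c28 LD3_c22)) = (LP (LK LD1_c3 LD2_c43 LD3_c52)) :=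
  Lre_d IH (LK LD1_c7 LD2_c28 LD3_c22) (LK LD1_c3 LD2_c43 LD3_c52) Lrfl Lrfl
theorem f463390 : Led Lsl_ct (LP (LK LD1_c14 LD2_c6 LD3_c27)) = (LP (LK LD1_c7 LD2_c28 LD3_c22)) :=
  Lre_c IH (LK LD1_c14 LD2_c6 LD3_c27) (LK LD1_c7 LD2_c28 LD3_c22) Lrfl Lrfl
theorem f470253 : Led Lsl_gt (LP (LK LD1_c13 LD2_c25 LD3_c41)) = (LP (LK LD1_c14 LD2_c6 LD3_c27)) :=
  Lgr Lrot150 (Lpe (f459253 IH) (Lpr_gf (K29.f459251 IH) (Lpe (K28.f458915 IH) (Lpe (K28.f459010 IH) (Lpr_ct (f469175 IH) (Lpe (K28.f464587 IH) (Lpe (K28.f463391 IH) (Lpe (f459482 IH) (Lpe (f463390 IH) (Lpn (LP (LK LD1_c14 LD2_c6 LD3_c27))))))))))))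
theorem f459255 : Led Lsl_ct (LP (LK LD1_c13 LD2_c25 LD3_c41)) = (LP (LK LD1_c7 LD2_c4 LD3_c61)) :=
  Lre_c IH (LK LD1_c13 LD2_c25 LD3_c41) (LK LD1_c7 LD2_c4 LD3_c61) Lrfl Lrfl
theorem f464702 : Led Lsl_df (LP (LK LD1_c7 LD2_c22 LD3_c60)) = (LP (LK LD1_c7 LD2_c54 LD3_c54)) :=
  Lgr Lrot13 (Lpr_ct (K28.f116297 IH) (Lpr_dt (K28.f116500 IH) (Lpr_ct (K28.f116284 IH) (Lpe (K3.f106213 IH) (Lpe (K28.f106208 IH) (Lpe (K28.f464610 IH) (Lpr_ct (K28.f464689 IH) (Lpr_dt (K28.f451351 IH) (Lpr_ct (K28.f451866 IH) (Lpn (LP (LK LD1_c7 LD2_c54 LD3_c54))))))))))))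
theorem f464711 : Led Lsl_ct (LP (LK LD1_c3 LD2_c40 LD3_c34)) = (LP (LK LD1_c3 LD2_c51 LD3_c57)) :=
  Lgr Lrot8 (Lpr_gt (K28.f462785 IH) (Lpr_dt (K28.f452021 IH) (Lpe (K28.f462459 IH) (Lpe (K28.f132090 IH) (Lpe (K28.f464351 IH) (Lpe (K28.f463441 IH) (Lpr_gf (K28.f464587 IH) (Lpe (K28.f464608 IH) (Lpr_gf (K28.f464707 IH) (Lpn (LP (LK LD1_c3 LD2_c51 LD3_c57))))))))))))
theorem f107321 : Led Lsl_gt (LP (LK LD1_c3 LD2_c40 LD3_c35)) = (LP (LK LD1_c7 LD2_c21 LD3_c20)) :=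
  Lre_g IH (LK LD1_c3 LD2_c40 LD3_c35) (LK LD1_c7 LD2_c21 LD3_c20) Lrfl Lrfl
theorem f462720 : Led Lsl_ct (LP (LK LD1_c7 LD2_c21 LD3_c20)) = (LP (LK LD1_c13 LD2_c54 LD3_c21)) :=
  Lre_c IH (LK LD1_c7 LD2_c21 LD3_c20) (LK LD1_c13 LD2_c54 LD3_c21) Lrfl Lrfl
theorem f464717 : Led Lsl_gf (LP (LK LD1_c7 LD2_c54 LD3_c54)) = (LP (LK LD1_c13 LD2_c54 LD3_c21)) :=
  Lgr Lrot104 (Lpr_ct (K28.f451867 IH) (Lpe (K28.f451351 IH) (Lpe (K28.f464689 IH) (Lpr_gf (K28.f464707 IH) (Lpe (f464711 IH) (Lpe (K28.f129166 IH) (Lpe (K8.f132098 IH) (Lpr_gt (f107321 IH) (Lpr_ct (f462720 IH) (Lpn (LP (LK LD1_c13 LD2_c54 LD3_c21))))))))))))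
theorem f470270 : Led Lsl_df (LP (LK LD1_c13 LD2_c54 LD3_c21)) = (LP (LK LD1_c14 LD2_c6 LD3_c27)) :=
  Lgr Lrot153 (Lpe (f464717 IH) (Lpe (f464702 IH) (Lpe (K28.f116404 IH) (Lpe (K4.f116286 IH) (Lpr_gf (K28.f463691 IH) (Lpe (K24.f458897 IH) (Lpe (K29.f459250 IH) (Lpe (f459255 IH) (Lpr_gt (f470253 IH) (Lpn (LP (LK LD1_c14 LD2_c6 LD3_c27))))))))))))
theorem f470278 : Led Lsl_gf (LP (LK LD1_c13 LD2_c25 LD3_c38)) = (LP (LK LD1_c14 LD2_c6 LD3_c27)) :=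
  Lgr Lrot147 (Lpr_ct (f458916 IH) (Lpr_gt (f458895 IH) (Lpr_ct (K28.f458914 IH) (Lpe (K24.f458898 IH) (Lpe (K24.f455767 IH) (Lpr_gf (K28.f465106 IH) (Lpe (K28.f451867 IH) (Lpr_gf (f464717 IH) (Lpr_df (f470270 IH) (Lpn (LP (LK LD1_c14 LD2_c6 LD3_c27))))))))))))
theorem f463367 : Led Lsl_ct (LP (LK LD1_c7 LD2_c28 LD3_c22)) = (LP (LK LD1_c14 LD2_c6 LD3_c27)) :=
  Lre_c IH (LK LD1_c7 LD2_c28 LD3_c22) (LK LD1_c14 LD2_c6 LD3_c27) Lrfl Lrfl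
theorem f479992 : Led Lsl_gt (LP (LK LD1_c7 LD2_c54 LD3_c38)) = (LP (LK LD1_c7 LD2_c28 LD3_c22)) :=
  Lgr Lrot9 (Lpe (f462839 IH) (Lpr_gt (K28.f11350 IH) (Lpe (K28.f462830 IH) (Lpr_gt (K32.f464433 IH) (Lpr_ct (K32.f451310 IH) (Lpr_df (f479856 IH) (Lpe (f458916 IH) (Lpr_gf (f470278 IH) (Lpe (f463367 IH) (Lpn (LP (LK LD1_c7 LD2_c28 LD3_c22))))))))))))
theorem f458889 : Led Lsl_ff (LP (LK LD1_c7 LD2_c5 LD3_c0)) = (LP (LK LD1_c7 LD2_c4 LD3_c37)) :=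
  Lgr Lrot23 (Lpr_ct (K32.f458887 IH) (Lpr_ft (K24.f458838 IH) (Lpr_ct (K32.f458888 IH) (Lpn (LP (LK LD1_c7 LD2_c4 LD3_c37))))))
theorem f459240 : Led Lsl_gt (LP (LK LD1_c7 LD2_c4 LD3_c37)) = (LP (LK LD1_c13 LD2_c25 LD3_c0)) :=
  Lre_g IH (LK LD1_c7 LD2_c4 LD3_c37) (LK LD1_c13 LD2_c25 LD3_c0) Lrfl Lrfl
theorem f459241 : Led Lsl_gf (LP (LK LD1_c13 LD2_c25 LD3_c26)) = (LP (LK LD1_c13 LD2_c25 LD3_c0)) :=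
  Lgr Lrot76 (Lpe (K32.f458965 IH) (Lpr_ff (f458889 IH) (Lpr_gt (f459240 IH) (Lpn (LP (LK LD1_c13 LD2_c25 LD3_c0))))))
theorem f480020 : Led Lsl_cf (LP (LK LD1_c7 LD2_c54 LD3_c38)) = (LP (LK LD1_c13 LD2_c25 LD3_c0)) :=
  Lgr Lrot166 (Lpr_gt (f479992 IH) (Lpr_dt (f459482 IH) (Lpr_gt (K28.f159497 IH) (Lpr_dt (K28.f116548 IH) (Lpr_ct (K28.f122369 IH) (Lpr_df (K28.f462423 IH) (Lpe (K28.f470051 IH) (Lpe (K28.f458958 IH) (Lpr_gf (f459241 IH) (Lpn (LP (LK LD1_c13 LD2_c25 LD3_c0))))))))))))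
theorem f446543 : Led Lsl_gt (LP (LK LD1_c7 LD2_c4 LD3_c36)) = (LP (LK LD1_c3 LD2_c31 LD3_c28)) :=
  Lre_g IH (LK LD1_c7 LD2_c4 LD3_c36) (LK LD1_c3 LD2_c31 LD3_c28) Lrfl Lrfl
theorem f480036 : Led Lsl_df (LP (LK LD1_c3 LD2_c56 LD3_c22)) = (LP (LK LD1_c7 LD2_c4 LD3_c36)) :=
  Lgr Lrot155 (Lpr_gt (K28.f11352 IH) (Lpr_ct (K28.f11336 IH) (Lpr_gt (K28.f11348 IH) (Lpr_ct (K28.f11349 IH) (Lpr_dt (f462839 IH) (Lpr_cf (f480020 IH) (Lpe (f459240 IH) (Lpe (K32.f458888 IH) (Lpe (f446543 IH) (Lpn (LP (LK LD1_c7 LD2_c4 LD3_c36))))))))))))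
theorem f464628 : Led Lsl_cf (LP (LK LD1_c6 LD2_c57 LD3_c43)) = (LP (LK LD1_c3 LD2_c56 LD3_c22)) :=
  Lgr Lrot166 (Lpr_gt (K28.f98822 IH) (Lpr_dt (K24.f98811 IH) (Lpr_gt (K28.f464624 IH) (Lpr_dt (K5.f128067 IH) (Lpe (K28.f116477 IH) (Lpe (K28.f116500 IH) (Lpe (K28.f462873 IH) (Lpe (K28.f11380 IH) (Lpe (K28.f11352 IH) (Lpn (LP (LK LD1_c3 LD2_c56 LD3_c22))))))))))))
theorem f98618 : Led Lsl_et (LP (LK LD1_c0 LD2_c46 LD3_c20)) = (LP (LK LD1_c1 LD2_c39 LD3_c38)) :=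
  Lre_e IH (LK LD1_c0 LD2_c46 LD3_c20) (LK LD1_c1 LD2_c39 LD3_c38) Lrfl Lrfl
theorem f128088 : Led Lsl_gt (LP (LK LD1_c3 LD2_c25 LD3_c61)) = (LP (LK LD1_c1 LD2_c39 LD3_c38)) :=
  Lre_g IH (LK LD1_c3 LD2_c25 LD3_c61) (LK LD1_c1 LD2_c39 LD3_c38) Lrfl Lrfl
theorem f128089 : Led Lsl_et (LP (LK LD1_c6 LD2_c53 LD3_c53)) = (LP (LK LD1_c3 LD2_c25 LD3_c61)) :=
  Lre_e IH (LK LD1_c6 LD2_c53 LD3_c53) (LK LD1_c3 LD2_c25 LD3_c61) Lrfl Lrfl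
theorem f464762 : Led Lsl_df (LP (LK LD1_c6 LD2_c57 LD3_c43)) = (LP (LK LD1_c6 LD2_c53 LD3_c53)) :=
  Lgr Lrot132 (Lpr_gf (K32.f464715 IH) (Lpe (K32.f128087 IH) (Lpe (K28.f128085 IH) (Lpe (K5.f109454 IH) (Lpr_dt (K4.f109453 IH) (Lpe (K4.f12568 IH) (Lpe (K4.f12575 IH) (Lpr_et (f98618 IH) (Lpe (f128088 IH) (Lpe (f128089 IH) (Lpn (LP (LK LD1_c6 LD2_c53 LD3_c53)))))))))))))
theorem f459021 : Led Lsl_at (LP (LK LD1_c7 LD2_c4 LD3_c28)) = (LP (LK LD1_c3 LD2_c31 LD3_c28)) :=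
  Lre_a IH (LK LD1_c7 LD2_c4 LD3_c28) (LK LD1_c3 LD2_c31 LD3_c28) Lrfl Lrfl
theorem f459029 : Led Lsl_gt (LP (LK LD1_c7 LD2_c4 LD3_c54)) = (LP (LK LD1_c7 LD2_c4 LD3_c36)) :=
  Lgr Lrot5 (Lpr_ft (K29.f459006 IH) (Lpr_at (f459021 IH) (Lpe (f446543 IH) (Lpn (LP (LK LD1_c7 LD2_c4 LD3_c36))))))
theorem f446542 : Led Lsl_dt (LP (LK LD1_c3 LD2_c31 LD3_c28)) = (LP (LK LD1_c1 LD2_c42 LD3_c17)) :=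
  Lre_d IH (LK LD1_c3 LD2_c31 LD3_c28) (LK LD1_c1 LD2_c42 LD3_c17) Lrfl Lrfl
theorem f458892 : Led Lsl_ff (LP (LK LD1_c1 LD2_c42 LD3_c26)) = (LP (LK LD1_c1 LD2_c42 LD3_c17)) :=
  Lgr Lrot19 (Lpr_dt (K32.f458891 IH) (Lpr_ft (K24.f458838 IH) (Lpr_dt (f446542 IH) (Lpn (LP (LK LD1_c1 LD2_c42 LD3_c17))))))
theorem f459191 : Led Lsl_at (LP (LK LD1_c1 LD2_c42 LD3_c26)) = (LP (LK LD1_c3 LD2_c31 LD3_c38)) :=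
  Lre_a IH (LK LD1_c1 LD2_c42 LD3_c26) (LK LD1_c3 LD2_c31 LD3_c38) Lrfl Lrfl
theorem f459229 : Led Lsl_gf (LP (LK LD1_c3 LD2_c31 LD3_c38)) = (LP (LK LD1_c3 LD2_c31 LD3_c26)) :=
  Lgr Lrot76 (Lpe (f459191 IH) (Lpr_ff (f458892 IH) (Lpr_gt (K28.f455623 IH) (Lpn (LP (LK LD1_c3 LD2_c31 LD3_c26))))))
theorem f480041 : Led Lsl_gf (LP (LK LD1_c6 LD2_c53 LD3_c53)) = (LP (LK LD1_c7 LD2_c11 LD3_c56)) :=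
  Lgr Lrot143 (Lpe (f464762 IH) (Lpr_cf (f464628 IH) (Lpr_df (f480036 IH) (Lpe (f459029 IH) (Lpe (K28.f458961 IH) (Lpr_gf (f459229 IH) (Lpe (K28.f455628 IH) (Lpe (K28.f468115 IH) (Lpr_dt (K28.f116059 IH) (Lpn (LP (LK LD1_c7 LD2_c11 LD3_c56))))))))))))
theorem f19073 : Led Lsl_dt (LP (LK LD1_c6 LD2_c57 LD3_c40)) = (LP (LK LD1_c3 LD2_c27 LD3_c44)) :=
  Lre_d IH (LK LD1_c6 LD2_c57 LD3_c40) (LK LD1_c3 LD2_c27 LD3_c44) Lrfl Lrfl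
theorem f19074 : Led Lsl_gt (LP (LK LD1_c13 LD2_c13 LD3_c5)) = (LP (LK LD1_c6 LD2_c57 LD3_c40)) :=
  Lre_g IH (LK LD1_c13 LD2_c13 LD3_c5) (LK LD1_c6 LD2_c57 LD3_c40) Lrfl Lrfl
theorem f479650 : Led Lsl_et v796 = (LP (LK LD1_c3 LD2_c31 LD3_c45)) :=
  Lgr Lrot87 (Lpr_ef (f479648 IH) (Lpn (LP (LK LD1_c3 LD2_c31 LD3_c45))))
theorem f479652 : Led Lsl_bt (LP (LK LD1_c3 LD2_c31 LD3_c45)) = (LP (LK LD1_c3 LD2_c46 LD3_c27)) :=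
  Lgr Lrot119 (Lpe (f479650 IH) (Lpr_bf (f479651 IH) (Lpe (K30.f5771 IH) (Lpn (LP (LK LD1_c3 LD2_c46 LD3_c27))))))
theorem f455754 : Led Lsl_ct (LP (LK LD1_c3 LD2_c31 LD3_c45)) = (LP (LK LD1_c7 LD2_c5 LD3_c5)) :=
  Lre_c IH (LK LD1_c3 LD2_c31 LD3_c45) (LK LD1_c7 LD2_c5 LD3_c5) Lrfl Lrfl
theorem f479782 : Led Lsl_gf (LP (LK LD1_c7 LD2_c5 LD3_c5)) = (LP (LK LD1_c7 LD2_c22 LD3_c29)) :=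
  Lgr Lrot126 (Lpe (f455754 IH) (Lpr_bt (f479652 IH) (Lpe (K30.f477669 IH) (Lpr_ct (K29.f463880 IH) (Lpe (K29.f477548 IH) (Lpe (K29.f441629 IH) (Lpr_bt (K29.f467478 IH) (Lpr_gt (K29.f477543 IH) (Lpe (K28.f461820 IH) (Lpe (K28.f468139 IH) (Lpn (LP (LK LD1_c7 LD2_c22 LD3_c29)))))))))))))
theorem f480050 : Led Lsl_df (LP (LK LD1_c13 LD2_c13 LD3_c5)) = (LP (LK LD1_c7 LD2_c5 LD3_c5)) :=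
  Lgr Lrot153 (Lpr_gt (f19074 IH) (Lpr_dt (f19073 IH) (Lpe (K24.f16722 IH) (Lpe (K24.f98811 IH) (Lpe (K28.f98822 IH) (Lpr_df (f464762 IH) (Lpr_gf (f480041 IH) (Lpe (K28.f464548 IH) (Lpe (f479782 IH) (Lpn (LP (LK LD1_c7 LD2_c5 LD3_c5))))))))))))
theorem f470061 : Led Lsl_gt (LP (LK LD1_c7 LD2_c54 LD3_c23)) = (LP (LK LD1_c7 LD2_c28 LD3_c26)) :=
  Lgr Lrot46 (Lpr_gf (K32.f470059 IH) (Lpe (K28.f463292 IH) (Lpr_at (K28.f440399 IH) (Lpn (LP (LK LD1_c7 LD2_c28 LD3_c26))))))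
theorem f116549 : Led Lsl_gt (LP (LK LD1_c3 LD2_c43 LD3_c53)) = (LP (LK LD1_c7 LD2_c28 LD3_c24)) :=
  Lre_g IH (LK LD1_c3 LD2_c43 LD3_c53) (LK LD1_c7 LD2_c28 LD3_c24) Lrfl Lrfl
theorem f469593 : Led Lsl_af (LP (LK LD1_c7 LD2_c4 LD3_c26)) = (LP (LK LD1_c7 LD2_c4 LD3_c52)) :=
  Lgr Lrot68 (Lpr_ct (K28.f463278 IH) (Lpr_at (K28.f469521 IH) (Lpr_ct (K28.f459186 IH) (Lpn (LP (LK LD1_c7 LD2_c4 LD3_c52))))))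
theorem f468188 : Led Lsl_bt (LP (LK LD1_c7 LD2_c4 LD3_c52)) = (LP (LK LD1_c13 LD2_c25 LD3_c20)) :=
  Lre_b IH (LK LD1_c7 LD2_c4 LD3_c52) (LK LD1_c13 LD2_c25 LD3_c20) Lrfl Lrfl
theorem f440456 : Led Lsl_bt (LP (LK LD1_c7 LD2_c28 LD3_c14)) = (LP (LK LD1_c3 LD2_c43 LD3_c53)) :=
  Lre_b IH (LK LD1_c7 LD2_c28 LD3_c14) (LK LD1_c3 LD2_c43 LD3_c53) Lrfl Lrfl
theorem f468189 : Led Lsl_ff (LP (LK LD1_c7 LD2_c4 LD3_c52)) = (LP (LK LD1_c3 LD2_c43 LD3_c53)) :=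
  Lgr Lrot25 (Lpr_bt (f468188 IH) (Lpr_ft (K28.f468185 IH) (Lpr_bt (f440456 IH) (Lpn (LP (LK LD1_c3 LD2_c43 LD3_c53))))))
theorem f469914 : Led Lsl_gf (LP (LK LD1_c7 LD2_c4 LD3_c26)) = (LP (LK LD1_c7 LD2_c28 LD3_c24)) :=
  Lgr Lrot76 (Lpr_af (f469593 IH) (Lpr_ff (f468189 IH) (Lpr_gt (f116549 IH) (Lpn (LP (LK LD1_c7 LD2_c28 LD3_c24))))))
theorem f462879 : Led Lsl_gt (LP (LK LD1_c7 LD2_c22 LD3_c60)) = (LP (LK LD1_c13 LD2_c57 LD3_c39)) :=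
  Lre_g IH (LK LD1_c7 LD2_c22 LD3_c60) (LK LD1_c13 LD2_c57 LD3_c39) Lrfl Lrfl
theorem f469916 : Led Lsl_ct (LP (LK LD1_c13 LD2_c57 LD3_c39)) = (LP (LK LD1_c7 LD2_c28 LD3_c24)) :=
  Lgr Lrot152 (Lpe (f462879 IH) (Lpr_df (f464702 IH) (Lpe (K28.f465099 IH) (Lpr_ct (K28.f132100 IH) (Lpr_gt (K28.f132081 IH) (Lpr_ct (K28.f132102 IH) (Lpr_df (K28.f463279 IH) (Lpe (K28.f463278 IH) (Lpr_gf (f469914 IH) (Lpn (LP (LK LD1_c7 LD2_c28 LD3_c24))))))))))))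
theorem f469924 : Led Lsl_cf (LP (LK LD1_c13 LD2_c57 LD3_c39)) = (LP (LK LD1_c7 LD2_c28 LD3_c24)) :=
  Lgr Lrot11 (Lpr_ct (f469916 IH) (Lpn (LP (LK LD1_c7 LD2_c28 LD3_c24))))
theorem f451981 : Led Lsl_dt (LP (LK LD1_c3 LD2_c56 LD3_c30)) = (LP (LK LD1_c1 LD2_c54 LD3_c59)) :=
  Lre_d IH (LK LD1_c3 LD2_c56 LD3_c30) (LK LD1_c1 LD2_c54 LD3_c59) Lrfl Lrfl
theorem f462184 : Led Lsl_ft (LP (LK LD1_c3 LD2_c40 LD3_c35)) = (LP (LK LD1_c3 LD2_c56 LD3_c30)) :=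
  Lgr Lrot54 (Lpe (K28.f107320 IH) (Lpr_ff (K28.f462179 IH) (Lpe (f451981 IH) (Lpn (LP (LK LD1_c3 LD2_c56 LD3_c30))))))
theorem f462450 : Led Lsl_at (LP (LK LD1_c3 LD2_c56 LD3_c30)) = (LP (LK LD1_c3 LD2_c56 LD3_c8)) :=
  Lgr Lrot66 (Lpe (f462184 IH) (Lpe (K8.f159335 IH) (Lpr_ff (K28.f462447 IH) (Lpn (LP (LK LD1_c3 LD2_c56 LD3_c8))))))
theorem f462718 : Led Lsl_gt (LP (LK LD1_c7 LD2_c21 LD3_c20)) = (LP (LK LD1_c3 LD2_c56 LD3_c8)) :=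
  Lgr Lrot46 (Lpe (f107321 IH) (Lpr_ft (f462184 IH) (Lpr_at (f462450 IH) (Lpn (LP (LK LD1_c3 LD2_c56 LD3_c8))))))
theorem f458170 : Led Lsl_dt (LP (LK LD1_c3 LD2_c27 LD3_c44)) = (LP (LK LD1_c6 LD2_c57 LD3_c40)) :=
  Lre_d IH (LK LD1_c3 LD2_c27 LD3_c44) (LK LD1_c6 LD2_c57 LD3_c40) Lrfl Lrfl
theorem f458172 : Led Lsl_ct (LP (LK LD1_c13 LD2_c13 LD3_c6)) = (LP (LK LD1_c6 LD2_c57 LD3_c40)) :=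
  Lre_c IH (LK LD1_c13 LD2_c13 LD3_c6) (LK LD1_c6 LD2_c57 LD3_c40) Lrfl Lrfl
theorem f464728 : Led Lsl_dt (LP (LK LD1_c13 LD2_c57 LD3_c39)) = (LP (LK LD1_c13 LD2_c13 LD3_c6)) :=
  Lgr Lrot105 (Lpe (f462879 IH) (Lpr_df (f464702 IH) (Lpr_gf (f464717 IH) (Lpe (f462720 IH) (Lpr_gt (f462718 IH) (Lpr_dt (K28.f452019 IH) (Lpr_gt (K24.f457968 IH) (Lpr_dt (f458170 IH) (Lpe (f458172 IH) (Lpn (LP (LK LD1_c13 LD2_c13 LD3_c6))))))))))))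
theorem f464749 : Led Lsl_df (LP (LK LD1_c13 LD2_c57 LD3_c39)) = (LP (LK LD1_c13 LD2_c13 LD3_c6)) :=
  Lgr Lrot38 (Lpr_dt (f464728 IH) (Lpn (LP (LK LD1_c13 LD2_c13 LD3_c6))))
theorem f458173 : Led Lsl_ct (LP (LK LD1_c6 LD2_c57 LD3_c40)) = (LP (LK LD1_c13 LD2_c13 LD3_c6)) :=
  Lre_c IH (LK LD1_c6 LD2_c57 LD3_c40) (LK LD1_c13 LD2_c13 LD3_c6) Lrfl Lrfl
theorem f470119 : Led Lsl_ct (LP (LK LD1_c7 LD2_c54 LD3_c20)) = (LP (LK LD1_c13 LD2_c13 LD3_c5)) :=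
  Lgr Lrot152 (Lpe (K32.f451757 IH) (Lpe (K28.f451749 IH) (Lpr_gt (f470061 IH) (Lpr_ct (K28.f122353 IH) (Lpr_gt (f116549 IH) (Lpe (f469924 IH) (Lpr_df (f464749 IH) (Lpe (f458173 IH) (Lpe (f19074 IH) (Lpn (LP (LK LD1_c13 LD2_c13 LD3_c5))))))))))))
theorem f11205 : Led Lsl_gt (LP (LK LD1_c3 LD2_c56 LD3_c18)) = (LP (LK LD1_c1 LD2_c54 LD3_c53)) :=
  Lre_g IH (LK LD1_c3 LD2_c56 LD3_c18) (LK LD1_c1 LD2_c54 LD3_c53) Lrfl Lrfl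
theorem f480056 : Led Lsl_dt (LP (LK LD1_c3 LD2_c56 LD3_c18)) = (LP (LK LD1_c7 LD2_c5 LD3_c8)) :=
  Lgr Lrot6 (Lpr_gt (f11205 IH) (Lpr_ct (K32.f451755 IH) (Lpr_gt (K32.f451757 IH) (Lpr_ct (f470119 IH) (Lpr_df (f480050 IH) (Lpe (f455754 IH) (Lpe (K29.f455753 IH) (Lpe (K24.f455703 IH) (Lpe (K28.f455706 IH) (Lpn (LP (LK LD1_c7 LD2_c5 LD3_c8))))))))))))
theorem f480061 : Led Lsl_df (LP (LK LD1_c3 LD2_c56 LD3_c18)) = (LP (LK LD1_c7 LD2_c5 LD3_c8)) :=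
  Lgr Lrot38 (Lpr_dt (f480056 IH) (Lpn (LP (LK LD1_c7 LD2_c5 LD3_c8))))
theorem f451882 : Led Lsl_ct (LP (LK LD1_c3 LD2_c56 LD3_c18)) = (LP (LK LD1_c7 LD2_c54 LD3_c18)) :=
  Lre_c IH (LK LD1_c3 LD2_c56 LD3_c18) (LK LD1_c7 LD2_c54 LD3_c18) Lrfl Lrfl
theorem f470276 : Led Lsl_dt (LP (LK LD1_c13 LD2_c54 LD3_c21)) = (LP (LK LD1_c14 LD2_c6 LD3_c27)) :=
  Lgr Lrot42 (Lpr_df (f470270 IH) (Lpn (LP (LK LD1_c14 LD2_c6 LD3_c27))))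
theorem f459481 : Led Lsl_dt (LP (LK LD1_c3 LD2_c43 LD3_c52)) = (LP (LK LD1_c7 LD2_c28 LD3_c22)) :=
  Lre_d IH (LK LD1_c3 LD2_c43 LD3_c52) (LK LD1_c7 LD2_c28 LD3_c22) Lrfl Lrfl
theorem f466460 : Led Lsl_cf (LP (LK LD1_c7 LD2_c2 LD3_c30)) = (LP (LK LD1_c3 LD2_c43 LD3_c51)) :=
  Lgr Lrot166 (Lpr_gt (K28.f466458 IH) (Lpe (K28.f464610 IH) (Lpr_gt (K28.f98812 IH) (Lpr_dt (f98808 IH) (Lpr_ct (K24.f98817 IH) (Lpr_df (K32.f462793 IH) (Lpr_gf (K28.f463321 IH) (Lpe (K28.f459284 IH) (Lpe (K28.f463326 IH) (Lpn (LP (LK LD1_c3 LD2_c43 LD3_c51))))))))))))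
theorem f455757 : Led Lsl_dt (LP (LK LD1_c7 LD2_c4 LD3_c58)) = (LP (LK LD1_c3 LD2_c31 LD3_c41)) :=
  Lre_d IH (LK LD1_c7 LD2_c4 LD3_c58) (LK LD1_c3 LD2_c31 LD3_c41) Lrfl Lrfl
theorem f459013 : Led Lsl_ct (LP (LK LD1_c13 LD2_c25 LD3_c33)) = (LP (LK LD1_c7 LD2_c4 LD3_c58)) :=
  Lre_c IH (LK LD1_c13 LD2_c25 LD3_c33) (LK LD1_c7 LD2_c4 LD3_c58) Lrfl Lrfl
theorem f469927 : Led Lsl_gt (LP (LK LD1_c13 LD2_c57 LD3_c39)) = (LP (LK LD1_c13 LD2_c25 LD3_c33)) :=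
  Lgr Lrot150 (Lpr_cf (f469924 IH) (Lpe (f116549 IH) (Lpe (K28.f116548 IH) (Lpr_gt (K28.f132011 IH) (Lpe (f466460 IH) (Lpr_gt (K28.f466458 IH) (Lpe (K28.f466462 IH) (Lpe (f455757 IH) (Lpe (f459013 IH) (Lpn (LP (LK LD1_c13 LD2_c25 LD3_c33))))))))))))
theorem f470282 : Led Lsl_gf (LP (LK LD1_c13 LD2_c54 LD3_c21)) = (LP (LK LD1_c7 LD2_c51 LD3_c42)) :=
  Lgr Lrot143 (Lpr_dt (f470276 IH) (Lpe (f463367 IH) (Lpe (f459481 IH) (Lpr_gf (K28.f463276 IH) (Lpe (K28.f459282 IH) (Lpr_gf (f469914 IH) (Lpe (f469916 IH) (Lpr_gt (f469927 IH) (Lpr_dt (K28.f469183 IH) (Lpn (LP (LK LD1_c7 LD2_c51 LD3_c42))))))))))))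
theorem f480070 : Led Lsl_df (LP (LK LD1_c7 LD2_c54 LD3_c18)) = (LP (LK LD1_c13 LD2_c25 LD3_c38)) :=
  Lgr Lrot84 (Lpe (f451882 IH) (Lpr_df (f480061 IH) (Lpr_gf (K28.f459223 IH) (Lpe (K24.f460774 IH) (Lpe (K24.f121082 IH) (Lpe (K28.f121062 IH) (Lpe (f470282 IH) (Lpr_dt (f470276 IH) (Lpe (f470278 IH) (Lpn (LP (LK LD1_c13 LD2_c25 LD3_c38))))))))))))
theorem f108148 : Led Lsl_dt (LP (LK LD1_c3 LD2_c42 LD3_c22)) = (LP (LK LD1_c7 LD2_c25 LD3_c28)) :=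
  Lre_d IH (LK LD1_c3 LD2_c42 LD3_c22) (LK LD1_c7 LD2_c25 LD3_c28) Lrfl Lrfl
theorem f462811 : Led Lsl_ct (LP (LK LD1_c14 LD2_c2 LD3_c27)) = (LP (LK LD1_c7 LD2_c25 LD3_c28)) :=
  Lre_c IH (LK LD1_c14 LD2_c2 LD3_c27) (LK LD1_c7 LD2_c25 LD3_c28) Lrfl Lrfl
theorem f11372 : Led Lsl_dt (LP (LK LD1_c1 LD2_c54 LD3_c60)) = (LP (LK LD1_c3 LD2_c56 LD3_c32)) :=
  Lre_d IH (LK LD1_c1 LD2_c54 LD3_c60) (LK LD1_c3 LD2_c56 LD3_c32) Lrfl Lrfl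
theorem f451271 : Led Lsl_dt (LP (LK LD1_c3 LD2_c56 LD3_c10)) = (LP (LK LD1_c1 LD2_c54 LD3_c48)) :=
  Lre_d IH (LK LD1_c3 LD2_c56 LD3_c10) (LK LD1_c1 LD2_c54 LD3_c48) Lrfl Lrfl
theorem f451860 : Led Lsl_ft (LP (LK LD1_c3 LD2_c56 LD3_c32)) = (LP (LK LD1_c3 LD2_c56 LD3_c10)) :=
  Lgr Lrot54 (Lpe (f11372 IH) (Lpr_ff (K28.f451852 IH) (Lpe (f451271 IH) (Lpn (LP (LK LD1_c3 LD2_c56 LD3_c10))))))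
theorem f451874 : Led Lsl_at (LP (LK LD1_c3 LD2_c56 LD3_c10)) = (LP (LK LD1_c1 LD2_c54 LD3_c53)) :=
  Lre_a IH (LK LD1_c3 LD2_c56 LD3_c10) (LK LD1_c1 LD2_c54 LD3_c53) Lrfl Lrfl
theorem f451880 : Led Lsl_gt (LP (LK LD1_c3 LD2_c56 LD3_c32)) = (LP (LK LD1_c3 LD2_c56 LD3_c18)) :=
  Lgr Lrot5 (Lpr_ft (f451860 IH) (Lpr_at (f451874 IH) (Lpe (f11205 IH) (Lpn (LP (LK LD1_c3 LD2_c56 LD3_c18))))))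
theorem f464640 : Led Lsl_gf (LP (LK LD1_c14 LD2_c2 LD3_c27)) = (LP (LK LD1_c7 LD2_c54 LD3_c18)) :=
  Lgr Lrot104 (Lpr_ct (f462811 IH) (Lpe (f108148 IH) (Lpe (K28.f462807 IH) (Lpr_gf (K28.f464636 IH) (Lpr_cf (K28.f142708 IH) (Lpe (K28.f462868 IH) (Lpe (K32.f11358 IH) (Lpr_gt (f451880 IH) (Lpr_ct (f451882 IH) (Lpn (LP (LK LD1_c7 LD2_c54 LD3_c18))))))))))))
theorem f463026 : Led Lsl_df (LP (LK LD1_c7 LD2_c54 LD3_c8)) = (LP (LK LD1_c7 LD2_c29 LD3_c1)) :=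
  Lgr Lrot38 (Lpr_dt (K28.f463021 IH) (Lpn (LP (LK LD1_c7 LD2_c29 LD3_c1))))
theorem f451886 : Led Lsl_ct (LP (LK LD1_c7 LD2_c54 LD3_c18)) = (LP (LK LD1_c3 LD2_c56 LD3_c18)) :=
  Lre_c IH (LK LD1_c7 LD2_c54 LD3_c18) (LK LD1_c3 LD2_c56 LD3_c18) Lrfl Lrfl
theorem f469826 : Led Lsl_df (LP (LK LD1_c13 LD2_c56 LD3_c8)) = (LP (LK LD1_c14 LD2_c2 LD3_c27)) :=
  Lgr Lrot153 (Lpr_gt (K28.f469644 IH) (Lpe (f463026 IH) (Lpe (K28.f457965 IH) (Lpe (K28.f451836 IH) (Lpe (K28.f451257 IH) (Lpe (K28.f11204 IH) (Lpe (f11205 IH) (Lpe (f451886 IH) (Lpe (f464640 IH) (Lpn (LP (LK LD1_c14 LD2_c2 LD3_c27))))))))))))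
theorem f11347 : Led Lsl_ct (LP (LK LD1_c1 LD2_c54 LD3_c58)) = (LP (LK LD1_c3 LD2_c56 LD3_c28)) :=
  Lre_c IH (LK LD1_c1 LD2_c54 LD3_c58) (LK LD1_c3 LD2_c56 LD3_c28) Lrfl Lrfl
theorem f462394 : Led Lsl_gt (LP (LK LD1_c3 LD2_c56 LD3_c28)) = (LP (LK LD1_c7 LD2_c21 LD3_c19)) :=
  Lgr Lrot94 (Lpe (f11347 IH) (Lpr_gt (f11344 IH) (Lpe (K24.f11327 IH) (Lpr_gt (K24.f451350 IH) (Lpqs (K28.f462169 IH) (Lpe (K28.f128308 IH) (Lpe (K4.f122347 IH) (Lpe (K28.f128312 IH) (Lpe (K28.f12599 IH) (Lpe (K28.f129173 IH) (Lpn (LP (LK LD1_c7 LD2_c21 LD3_c19)))))))))))))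
theorem f451920 : Led Lsl_dt (LP (LK LD1_c7 LD2_c54 LD3_c40)) = (LP (LK LD1_c3 LD2_c56 LD3_c28)) :=
  Lre_d IH (LK LD1_c7 LD2_c54 LD3_c40) (LK LD1_c3 LD2_c56 LD3_c28) Lrfl Lrfl
theorem f480076 : Led Lsl_gf (LP (LK LD1_c7 LD2_c54 LD3_c40)) = (LP (LK LD1_c7 LD2_c28 LD3_c22)) :=
  Lgr Lrot144 (Lpr_dt (f451920 IH) (Lpr_gt (f462394 IH) (Lpr_dt (K28.f129173 IH) (Lpe (K28.f129182 IH) (Lpr_df (f469826 IH) (Lpr_gf (f464640 IH) (Lpr_df (f480070 IH) (Lpr_gf (f470278 IH) (Lpe (f463367 IH) (Lpn (LP (LK LD1_c7 LD2_c28 LD3_c22))))))))))))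
theorem f455626 : Led Lsl_ct (LP (LK LD1_c7 LD2_c4 LD3_c37)) = (LP (LK LD1_c3 LD2_c31 LD3_c28)) :=
  Lre_c IH (LK LD1_c7 LD2_c4 LD3_c37) (LK LD1_c3 LD2_c31 LD3_c28) Lrfl Lrfl
theorem f455627 : Led Lsl_gt (LP (LK LD1_c13 LD2_c25 LD3_c1)) = (LP (LK LD1_c7 LD2_c4 LD3_c37)) :=
  Lre_g IH (LK LD1_c13 LD2_c25 LD3_c1) (LK LD1_c7 LD2_c4 LD3_c37) Lrfl Lrfl
theorem f480078 : Led Lsl_ct (LP (LK LD1_c7 LD2_c54 LD3_c40)) = (LP (LK LD1_c13 LD2_c25 LD3_c1)) :=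
  Lgr Lrot152 (Lpr_gf (f480076 IH) (Lpe (f459481 IH) (Lpr_gt (K28.f159497 IH) (Lpr_ct (K28.f122351 IH) (Lpr_gt (K24.f459480 IH) (Lpq (K28.f463254 IH) (Lpr_ct (K28.f446546 IH) (Lpe (f446542 IH) (Lpe (f455626 IH) (Lpe (f455627 IH) (Lpn (LP (LK LD1_c13 LD2_c25 LD3_c1)))))))))))))
theorem f132024 : Led Lsl_dt (LP (LK LD1_c7 LD2_c28 LD3_c19)) = (LP (LK LD1_c3 LD2_c43 LD3_c51)) :=
  Lre_d IH (LK LD1_c7 LD2_c28 LD3_c19) (LK LD1_c3 LD2_c43 LD3_c51) Lrfl Lrfl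
theorem f480085 : Led Lsl_gt (LP (LK LD1_c7 LD2_c54 LD3_c40)) = (LP (LK LD1_c7 LD2_c28 LD3_c19)) :=
  Lgr Lrot180 (Lpr_ct (f480078 IH) (Lpr_gt (f455627 IH) (Lpr_dt (K32.f458901 IH) (Lpr_gt (K32.f470057 IH) (Lpr_dt (K32.f463284 IH) (Lpr_ct (K32.f459283 IH) (Lpe (K28.f459284 IH) (Lpe (K28.f463326 IH) (Lpe (f132024 IH) (Lpn (LP (LK LD1_c7 LD2_c28 LD3_c19))))))))))))
theorem f480083 : Led Lsl_cf (LP (LK LD1_c7 LD2_c54 LD3_c40)) = (LP (LK LD1_c13 LD2_c25 LD3_c1)) :=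
  Lgr Lrot11 (Lpr_ct (f480078 IH) (Lpn (LP (LK LD1_c13 LD2_c25 LD3_c1))))
theorem f458976 : Led Lsl_ft (LP (LK LD1_c13 LD2_c25 LD3_c26)) = (LP (LK LD1_c13 LD2_c24 LD3_c42)) :=
  Lgr Lrot142 (Lpr_dt (K28.f458958 IH) (Lpr_ct (K28.f458975 IH) (Lpr_dt (K24.f12142 IH) (Lpr_ct (K28.f12141 IH) (Lpr_dt (K32.f455630 IH) (Lpr_ct (K28.f446546 IH) (Lpr_dt (K32.f455625 IH) (Lpr_ct (K32.f458888 IH) (Lpe (K32.f458900 IH) (Lpn (LP (LK LD1_c13 LD2_c24 LD3_c42))))))))))))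
theorem f459194 : Led Lsl_gt (LP (LK LD1_c13 LD2_c25 LD3_c26)) = (LP (LK LD1_c13 LD2_c25 LD3_c1)) :=
  Lgr Lrot5 (Lpr_ft (f458976 IH) (Lpr_at (K32.f458900 IH) (Lpe (f455627 IH) (Lpn (LP (LK LD1_c13 LD2_c25 LD3_c1))))))
theorem f440462 : Led Lsl_ct (LP (LK LD1_c7 LD2_c28 LD3_c19)) = (LP (LK LD1_c14 LD2_c6 LD3_c21)) :=
  Lre_c IH (LK LD1_c7 LD2_c28 LD3_c19) (LK LD1_c14 LD2_c6 LD3_c21) Lrfl Lrfl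
theorem f480103 : Led Lsl_df (LP (LK LD1_c13 LD2_c54 LD3_c24)) = (LP (LK LD1_c14 LD2_c6 LD3_c21)) :=
  Lgr Lrot162 (Lpe (K28.f132089 IH) (Lpr_gf (K28.f462459 IH) (Lpe (K28.f452020 IH) (Lpe (K28.f470051 IH) (Lpe (K28.f458947 IH) (Lpr_gt (f459194 IH) (Lpe (f480083 IH) (Lpr_gt (f480085 IH) (Lpr_ct (f440462 IH) (Lpn (LP (LK LD1_c14 LD2_c6 LD3_c21))))))))))))
theorem f460772 : Led Lsl_ct (LP (LK LD1_c7 LD2_c51 LD3_c41)) = (LP (LK LD1_c13 LD2_c25 LD3_c46)) :=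
  Lgr Lrot111 (Lpr_af (K24.f460767 IH) (Lpe (K28.f458975 IH) (Lpe (K32.f458951 IH) (Lpn (LP (LK LD1_c13 LD2_c25 LD3_c46))))))
theorem f480111 : Led Lsl_gf (LP (LK LD1_c13 LD2_c25 LD3_c41)) = (LP (LK LD1_c14 LD2_c6 LD3_c21)) :=
  Lgr Lrot147 (Lpr_ct (f459255 IH) (Lpr_gt (K29.f459250 IH) (Lpr_ct (K29.f459051 IH) (Lpe (K32.f458905 IH) (Lpe (f460772 IH) (Lpe (K24.f121082 IH) (Lpe (K28.f121062 IH) (Lpe (K28.f464632 IH) (Lpr_df (f480103 IH) (Lpn (LP (LK LD1_c14 LD2_c6 LD3_c21))))))))))))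
theorem f480101 : Led Lsl_dt (LP (LK LD1_c13 LD2_c54 LD3_c24)) = (LP (LK LD1_c14 LD2_c6 LD3_c21)) :=
  Lgr Lrot27 (Lpe (K28.f132089 IH) (Lpr_gf (K28.f462459 IH) (Lpe (K28.f452020 IH) (Lpe (K28.f470051 IH) (Lpe (K28.f458958 IH) (Lpr_gt (f459194 IH) (Lpe (f480083 IH) (Lpr_gt (f480085 IH) (Lpr_ct (f440462 IH) (Lpn (LP (LK LD1_c14 LD2_c6 LD3_c21))))))))))))
theorem f451999 : Led Lsl_ct (LP (LK LD1_c7 LD2_c54 LD3_c15)) = (LP (LK LD1_c3 LD2_c56 LD3_c17)) :=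
  Lre_c IH (LK LD1_c7 LD2_c54 LD3_c15) (LK LD1_c3 LD2_c56 LD3_c17) Lrfl Lrfl
theorem f480114 : Led Lsl_dt (LP (LK LD1_c13 LD2_c25 LD3_c41)) = (LP (LK LD1_c7 LD2_c54 LD3_c15)) :=
  Lgr Lrot105 (Lpr_gf (f480111 IH) (Lpe (f480101 IH) (Lpr_gf (K28.f465099 IH) (Lpe (K28.f451866 IH) (Lpe (K28.f465106 IH) (Lpr_dt (K28.f455704 IH) (Lpr_gt (K32.f455723 IH) (Lpe (K32.f479644 IH) (Lpe (f451999 IH) (Lpn (LP (LK LD1_c7 LD2_c54 LD3_c15))))))))))))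
theorem f468119 : Led Lsl_ct (LP (LK LD1_c13 LD2_c56 LD3_c2)) = (LP (LK LD1_c7 LD2_c22 LD3_c5)) :=
  Lre_c IH (LK LD1_c13 LD2_c56 LD3_c2) (LK LD1_c7 LD2_c22 LD3_c5) Lrfl Lrfl
theorem f459262 : Led Lsl_gt (LP (LK LD1_c3 LD2_c31 LD3_c28)) = (LP (LK LD1_c7 LD2_c4 LD3_c35)) :=
  Lre_g IH (LK LD1_c3 LD2_c31 LD3_c28) (LK LD1_c7 LD2_c4 LD3_c35) Lrfl Lrfl
theorem f459266 : Led Lsl_ct (LP (LK LD1_c7 LD2_c4 LD3_c35)) = (LP (LK LD1_c13 LD2_c24 LD3_c57)) :=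
  Lre_c IH (LK LD1_c7 LD2_c4 LD3_c35) (LK LD1_c13 LD2_c24 LD3_c57) Lrfl Lrfl
theorem f468120 : Led Lsl_gf (LP (LK LD1_c13 LD2_c56 LD3_c2)) = (LP (LK LD1_c13 LD2_c24 LD3_c57)) :=
  Lgr Lrot104 (Lpr_ct (f468119 IH) (Lpe (K29.f457145 IH) (Lpr_cf (K28.f468113 IH) (Lpr_gf (K28.f468115 IH) (Lpe (K28.f455624 IH) (Lpe (K28.f455623 IH) (Lpe (f446542 IH) (Lpr_gt (f459262 IH) (Lpr_ct (f459266 IH) (Lpn (LP (LK LD1_c13 LD2_c24 LD3_c57))))))))))))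
theorem f458823 : Led Lsl_bt (LP (LK LD1_c3 LD2_c31 LD3_c43)) = (LP (LK LD1_c7 LD2_c4 LD3_c59)) :=
  Lre_b IH (LK LD1_c3 LD2_c31 LD3_c43) (LK LD1_c7 LD2_c4 LD3_c59) Lrfl Lrfl
theorem f458824 : Led Lsl_bt (LP (LK LD1_c7 LD2_c4 LD3_c34)) = (LP (LK LD1_c3 LD2_c31 LD3_c28)) :=
  Lre_b IH (LK LD1_c7 LD2_c4 LD3_c34) (LK LD1_c3 LD2_c31 LD3_c28) Lrfl Lrfl
theorem f458825 : Led Lsl_ff (LP (LK LD1_c3 LD2_c31 LD3_c43)) = (LP (LK LD1_c3 LD2_c31 LD3_c28)) :=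
  Lgr Lrot25 (Lpr_bt (f458823 IH) (Lpr_ft (K24.f458820 IH) (Lpr_bt (f458824 IH) (Lpn (LP (LK LD1_c3 LD2_c31 LD3_c28))))))
theorem f458960 : Led Lsl_at (LP (LK LD1_c3 LD2_c31 LD3_c43)) = (LP (LK LD1_c7 LD2_c4 LD3_c54)) :=
  Lre_a IH (LK LD1_c3 LD2_c31 LD3_c43) (LK LD1_c7 LD2_c4 LD3_c54) Lrfl Lrfl
theorem f459263 : Led Lsl_gf (LP (LK LD1_c7 LD2_c4 LD3_c54)) = (LP (LK LD1_c7 LD2_c4 LD3_c35)) :=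
  Lgr Lrot76 (Lpe (f458960 IH) (Lpr_ff (f458825 IH) (Lpr_gt (f459262 IH) (Lpn (LP (LK LD1_c7 LD2_c4 LD3_c35))))))
theorem f116140 : Led Lsl_dt (LP (LK LD1_c1 LD2_c49 LD3_c5)) = (LP (LK LD1_c3 LD2_c44 LD3_c5)) :=
  Lre_d IH (LK LD1_c1 LD2_c49 LD3_c5) (LK LD1_c3 LD2_c44 LD3_c5) Lrfl Lrfl
theorem f468122 : Led Lsl_dt (LP (LK LD1_c13 LD2_c56 LD3_c2)) = (LP (LK LD1_c14 LD2_c2 LD3_c32)) :=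
  Lgr Lrot57 (Lpr_gf (f468120 IH) (Lpe (f459266 IH) (Lpe (f459263 IH) (Lpr_dt (K28.f455770 IH) (Lpe (K29.f463476 IH) (Lpr_dt (f116140 IH) (Lpe (K28.f116144 IH) (Lpe (K28.f463021 IH) (Lpe (K28.f464435 IH) (Lpn (LP (LK LD1_c14 LD2_c2 LD3_c32))))))))))))
theorem f468131 : Led Lsl_df (LP (LK LD1_c13 LD2_c56 LD3_c2)) = (LP (LK LD1_c14 LD2_c2 LD3_c32)) :=
  Lgr Lrot38 (Lpr_dt (f468122 IH) (Lpn (LP (LK LD1_c14 LD2_c2 LD3_c32))))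
theorem f469620 : Led Lsl_ct (LP (LK LD1_c7 LD2_c22 LD3_c6)) = (LP (LK LD1_c13 LD2_c56 LD3_c5)) :=
  Lre_c IH (LK LD1_c7 LD2_c22 LD3_c6) (LK LD1_c13 LD2_c56 LD3_c5) Lrfl Lrfl
theorem f451258 : Led Lsl_ct (LP (LK LD1_c1 LD2_c54 LD3_c51)) = (LP (LK LD1_c3 LD2_c56 LD3_c14)) :=
  Lre_c IH (LK LD1_c1 LD2_c54 LD3_c51) (LK LD1_c3 LD2_c56 LD3_c14) Lrfl Lrfl
theorem f159943 : Led Lsl_ct (LP (LK LD1_c7 LD2_c49 LD3_c59)) = (LP (LK LD1_c3 LD2_c54 LD3_c12)) :=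
  Lre_c IH (LK LD1_c7 LD2_c49 LD3_c59) (LK LD1_c3 LD2_c54 LD3_c12) Lrfl Lrfl
theorem f459232 : Led Lsl_dt (LP (LK LD1_c3 LD2_c31 LD3_c26)) = (LP (LK LD1_c7 LD2_c4 LD3_c33)) :=
  Lre_d IH (LK LD1_c3 LD2_c31 LD3_c26) (LK LD1_c7 LD2_c4 LD3_c33) Lrfl Lrfl
theorem f468137 : Led Lsl_df (LP (LK LD1_c7 LD2_c49 LD3_c59)) = (LP (LK LD1_c13 LD2_c24 LD3_c50)) :=
  Lgr Lrot43 (Lpr_ct (f159943 IH) (Lpr_dt (K32.f159941 IH) (Lpe (K28.f142708 IH) (Lpe (K5.f106206 IH) (Lpr_ct (K4.f116127 IH) (Lpr_dt (f116140 IH) (Lpr_ct (K28.f116141 IH) (Lpe (f463026 IH) (Lpr_ct (K28.f463042 IH) (Lpr_dt (K28.f451835 IH) (Lpr_ct (f451258 IH) (Lpr_dt (K28.f468117 IH) (Lpr_ct (K28.f455628 IH) (Lpr_dt (f459232 IH) (Lpr_ct (K28.f466166 IH) (Lpn (LP (LK LD1_c13 LD2_c24 LD3_c50))))))))))))))))))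
theorem f469972 : Led Lsl_gt (LP (LK LD1_c13 LD2_c56 LD3_c5)) = (LP (LK LD1_c13 LD2_c24 LD3_c50)) :=
  Lgr Lrot94 (Lpe (f469620 IH) (Lpr_gt (K28.f469618 IH) (Lpr_dt (K28.f459187 IH) (Lpr_gt (K28.f469134 IH) (Lpr_dt (K29.f457145 IH) (Lpe (f468119 IH) (Lpr_df (f468131 IH) (Lpr_gf (K28.f469967 IH) (Lpr_df (f468137 IH) (Lpn (LP (LK LD1_c13 LD2_c24 LD3_c50))))))))))))
theorem f469504 : Led Lsl_ct (LP (LK LD1_c13 LD2_c24 LD3_c50)) = (LP (LK LD1_c7 LD2_c4 LD3_c33)) :=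
  Lre_c IH (LK LD1_c13 LD2_c24 LD3_c50) (LK LD1_c7 LD2_c4 LD3_c33) Lrfl Lrfl
theorem f469505 : Led Lsl_at (LP (LK LD1_c13 LD2_c25 LD3_c33)) = (LP (LK LD1_c13 LD2_c24 LD3_c50)) :=
  Lgr Lrot107 (Lpe (K28.f459012 IH) (Lpr_af (K28.f469502 IH) (Lpe (f469504 IH) (Lpn (LP (LK LD1_c13 LD2_c24 LD3_c50))))))
theorem f469196 : Led Lsl_ff (LP (LK LD1_c13 LD2_c25 LD3_c33)) = (LP (LK LD1_c7 LD2_c29 LD3_c1)) :=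
  Lgr Lrot19 (Lpr_dt (K28.f469183 IH) (Lpe (K28.f463038 IH) (Lpr_dt (K28.f463021 IH) (Lpn (LP (LK LD1_c7 LD2_c29 LD3_c1))))))
theorem f469975 : Led Lsl_gf (LP (LK LD1_c13 LD2_c56 LD3_c5)) = (LP (LK LD1_c7 LD2_c29 LD3_c1)) :=
  Lgr Lrot47 (Lpr_gt (f469972 IH) (Lpe (f469505 IH) (Lpr_ff (f469196 IH) (Lpn (LP (LK LD1_c7 LD2_c29 LD3_c1))))))
theorem f26211 : Led Lsl_gt (LP (LK LD1_c3 LD2_c42 LD3_c23)) = (LP (LK LD1_c1 LD2_c48 LD3_c8)) :=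
  Lre_g IH (LK LD1_c3 LD2_c42 LD3_c23) (LK LD1_c1 LD2_c48 LD3_c8) Lrfl Lrfl
theorem f462190 : Led Lsl_gf (LP (LK LD1_c3 LD2_c42 LD3_c23)) = (LP (LK LD1_c1 LD2_c54 LD3_c59)) :=
  Lgr Lrot47 (Lpr_gt (f26211 IH) (Lpr_af (K8.f159353 IH) (Lpr_ff (K28.f462179 IH) (Lpn (LP (LK LD1_c1 LD2_c54 LD3_c59))))))
theorem f459382 : Led Lsl_dt (LP (LK LD1_c3 LD2_c42 LD3_c23)) = (LP (LK LD1_c7 LD2_c25 LD3_c30)) :=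
  Lre_d IH (LK LD1_c3 LD2_c42 LD3_c23) (LK LD1_c7 LD2_c25 LD3_c30) Lrfl Lrfl
theorem f462387 : Led Lsl_ct (LP (LK LD1_c14 LD2_c2 LD3_c30)) = (LP (LK LD1_c7 LD2_c25 LD3_c30)) :=
  Lre_c IH (LK LD1_c14 LD2_c2 LD3_c30) (LK LD1_c7 LD2_c25 LD3_c30) Lrfl Lrfl
theorem f469977 : Led Lsl_dt (LP (LK LD1_c13 LD2_c56 LD3_c5)) = (LP (LK LD1_c14 LD2_c2 LD3_c30)) :=
  Lgr Lrot105 (Lpr_gf (f469975 IH) (Lpe (K28.f463021 IH) (Lpe (K28.f464435 IH) (Lpe (K28.f462671 IH) (Lpe (K28.f462668 IH) (Lpr_dt (f451981 IH) (Lpe (f462190 IH) (Lpr_dt (f459382 IH) (Lpe (f462387 IH) (Lpn (LP (LK LD1_c14 LD2_c2 LD3_c30))))))))))))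
theorem f469980 : Led Lsl_df (LP (LK LD1_c13 LD2_c56 LD3_c5)) = (LP (LK LD1_c14 LD2_c2 LD3_c30)) :=
  Lgr Lrot38 (Lpr_dt (f469977 IH) (Lpn (LP (LK LD1_c14 LD2_c2 LD3_c30))))
theorem f452000 : Led Lsl_ct (LP (LK LD1_c3 LD2_c56 LD3_c17)) = (LP (LK LD1_c7 LD2_c54 LD3_c15)) :=
  Lre_c IH (LK LD1_c3 LD2_c56 LD3_c17) (LK LD1_c7 LD2_c54 LD3_c15) Lrfl Lrfl
theorem f469984 : Led Lsl_gt (LP (LK LD1_c7 LD2_c54 LD3_c15)) = (LP (LK LD1_c14 LD2_c2 LD3_c30)) :=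
  Lgr Lrot94 (Lpe (f452000 IH) (Lpe (K32.f451997 IH) (Lpr_dt (K32.f11358 IH) (Lpr_gt (K28.f462868 IH) (Lpr_dt (K8.f134742 IH) (Lpe (f159943 IH) (Lpr_df (f468137 IH) (Lpe (f469972 IH) (Lpr_df (f469980 IH) (Lpn (LP (LK LD1_c14 LD2_c2 LD3_c30))))))))))))
theorem f462838 : Led Lsl_dt (LP (LK LD1_c7 LD2_c54 LD3_c38)) = (LP (LK LD1_c3 LD2_c56 LD3_c27)) :=
  Lre_d IH (LK LD1_c7 LD2_c54 LD3_c38) (LK LD1_c3 LD2_c56 LD3_c27) Lrfl Lrfl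
theorem f480105 : Led Lsl_ct (LP (LK LD1_c14 LD2_c6 LD3_c21)) = (LP (LK LD1_c7 LD2_c28 LD3_c19)) :=
  Lre_c IH (LK LD1_c14 LD2_c6 LD3_c21) (LK LD1_c7 LD2_c28 LD3_c19) Lrfl Lrfl
theorem f480116 : Led Lsl_gf (LP (LK LD1_c7 LD2_c54 LD3_c38)) = (LP (LK LD1_c7 LD2_c28 LD3_c19)) :=
  Lgr Lrot148 (Lpr_dt (f462838 IH) (Lpr_gt (K28.f11350 IH) (Lpe (K28.f469621 IH) (Lpr_ct (f469620 IH) (Lpr_df (f469980 IH) (Lpe (f469984 IH) (Lpe (f480114 IH) (Lpr_gf (f480111 IH) (Lpr_ct (f480105 IH) (Lpn (LP (LK LD1_c7 LD2_c28 LD3_c19))))))))))))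
theorem f132012 : Led Lsl_dt (LP (LK LD1_c3 LD2_c43 LD3_c51)) = (LP (LK LD1_c7 LD2_c28 LD3_c19)) :=
  Lre_d IH (LK LD1_c3 LD2_c43 LD3_c51) (LK LD1_c7 LD2_c28 LD3_c19) Lrfl Lrfl
theorem f128041 : Led Lsl_et (LP (LK LD1_c1 LD2_c40 LD3_c0)) = (LP (LK LD1_c3 LD2_c26 LD3_c42)) :=
  Lre_e IH (LK LD1_c1 LD2_c40 LD3_c0) (LK LD1_c3 LD2_c26 LD3_c42) Lrfl Lrfl
theorem f123364 : Led Lsl_gt (LP (LK LD1_c0 LD2_c53 LD3_c45)) = (LP (LK LD1_c1 LD2_c54 LD3_c2)) :=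
  Lre_g IH (LK LD1_c0 LD2_c53 LD3_c45) (LK LD1_c1 LD2_c54 LD3_c2) Lrfl Lrfl
theorem f123365 : Led Lsl_ct (LP (LK LD1_c1 LD2_c54 LD3_c2)) = (LP (LK LD1_c3 LD2_c54 LD3_c55)) :=
  Lre_c IH (LK LD1_c1 LD2_c54 LD3_c2) (LK LD1_c3 LD2_c54 LD3_c55) Lrfl Lrfl
theorem f439097 : Led Lsl_bt (LP (LK LD1_c1 LD2_c40 LD3_c1)) = (LP (LK LD1_c0 LD2_c46 LD3_c34)) :=
  Lre_b IH (LK LD1_c1 LD2_c40 LD3_c1) (LK LD1_c0 LD2_c46 LD3_c34) Lrfl Lrfl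
theorem f476759 : Led Lsl_gt (LP (LK LD1_c3 LD2_c54 LD3_c55)) = (LP (LK LD1_c3 LD2_c26 LD3_c42)) :=
  Lgr Lrot149 (Lpe (f123365 IH) (Lpe (f123364 IH) (Lpe (K6.f123363 IH) (Lpr_ct (K6.f122806 IH) (Lpr_gf (K24.f145389 IH) (Lpq (K24.f455968 IH) (Lpe (K24.f450896 IH) (Lpr_bt (K29.f450890 IH) (Lpr_gf (K29.f456883 IH) (Lpqs (K29.f476756 IH) (Lpe (f439097 IH) (Lpr_ct (K29.f132179 IH) (Lpn (LP (LK LD1_c3 LD2_c26 LD3_c42)))))))))))))))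
theorem f480120 : Led Lsl_et (LP (LK LD1_c3 LD2_c56 LD3_c27)) = (LP (LK LD1_c3 LD2_c54 LD3_c55)) :=
  Lgr Lrot185 (Lpr_dt (f462839 IH) (Lpr_gf (f480116 IH) (Lpe (f132012 IH) (Lpe (K28.f132011 IH) (Lpe (K28.f122246 IH) (Lpr_dt (K5.f116533 IH) (Lpr_gf (K5.f132005 IH) (Lpe (K5.f91719 IH) (Lpr_et (f128041 IH) (Lpe (f476759 IH) (Lpn (LP (LK LD1_c3 LD2_c54 LD3_c55)))))))))))))
theorem f480126 : Led Lsl_ef (LP (LK LD1_c3 LD2_c56 LD3_c27)) = (LP (LK LD1_c3 LD2_c54 LD3_c55)) :=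
  Lgr Lrot88 (Lpr_et (f480120 IH) (Lpn (LP (LK LD1_c3 LD2_c54 LD3_c55))))
theorem f480128 : Led Lsl_et (LP (LK LD1_c1 LD2_c54 LD3_c57)) = (LP (LK LD1_c1 LD2_c54 LD3_c2)) :=
  Lgr Lrot158 (Lpe (K28.f451972 IH) (Lpr_ef (f480126 IH) (Lpe (f123365 IH) (Lpn (LP (LK LD1_c1 LD2_c54 LD3_c2))))))
theorem f84903 : Led Lsl_gt (LP (LK LD1_c1 LD2_c54 LD3_c2)) = (LP (LK LD1_c0 LD2_c53 LD3_c37)) :=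
  Lre_g IH (LK LD1_c1 LD2_c54 LD3_c2) (LK LD1_c0 LD2_c53 LD3_c37) Lrfl Lrfl
theorem f480164 : Led Lsl_dt (LP (LK LD1_c1 LD2_c54 LD3_c57)) = (LP (LK LD1_c3 LD2_c31 LD3_c30)) :=
  Lgr Lrot56 (Lpr_et (f480128 IH) (Lpr_gt (f84903 IH) (Lpe (K5.f84895 IH) (Lpr_dt (K6.f84766 IH) (Lpr_gt (K29.f134707 IH) (Lpr_df (K7.f123592 IH) (Lpr_et (K28.f122331 IH) (Lpr_gt (K24.f459480 IH) (Lpq (K28.f463254 IH) (Lpr_dt (K28.f455620 IH) (Lpr_gt (K28.f455621 IH) (Lpn (LP (LK LD1_c3 LD2_c31 LD3_c30))))))))))))))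
theorem f458923 : Led Lsl_ff (LP (LK LD1_c1 LD2_c42 LD3_c27)) = (LP (LK LD1_c1 LD2_c42 LD3_c18)) :=
  Lgr Lrot23 (Lpr_ct (K24.f455705 IH) (Lpr_ft (K24.f458912 IH) (Lpr_ct (K28.f12141 IH) (Lpn (LP (LK LD1_c1 LD2_c42 LD3_c18))))))
theorem f455727 : Led Lsl_at (LP (LK LD1_c1 LD2_c42 LD3_c27)) = (LP (LK LD1_c3 LD2_c31 LD3_c39)) :=
  Lre_a IH (LK LD1_c1 LD2_c42 LD3_c27) (LK LD1_c3 LD2_c31 LD3_c39) Lrfl Lrfl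
theorem f459217 : Led Lsl_gf (LP (LK LD1_c3 LD2_c31 LD3_c39)) = (LP (LK LD1_c3 LD2_c31 LD3_c30)) :=
  Lgr Lrot76 (Lpe (f455727 IH) (Lpr_ff (f458923 IH) (Lpr_gt (K28.f455621 IH) (Lpn (LP (LK LD1_c3 LD2_c31 LD3_c30))))))
theorem f480166 : Led Lsl_dt (LP (LK LD1_c3 LD2_c56 LD3_c21)) = (LP (LK LD1_c7 LD2_c4 LD3_c35)) :=
  Lgr Lrot57 (Lpe (f451343 IH) (Lpe (K28.f11379 IH) (Lpr_gt (K28.f11348 IH) (Lpr_dt (f480164 IH) (Lpe (f459217 IH) (Lpr_dt (K28.f458973 IH) (Lpe (K28.f455769 IH) (Lpe (K28.f455770 IH) (Lpr_gf (f459263 IH) (Lpn (LP (LK LD1_c7 LD2_c4 LD3_c35))))))))))))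
theorem f468286 : Led Lsl_ct (LP (LK LD1_c7 LD2_c4 LD3_c52)) = (LP (LK LD1_c13 LD2_c25 LD3_c21)) :=
  Lre_c IH (LK LD1_c7 LD2_c4 LD3_c52) (LK LD1_c13 LD2_c25 LD3_c21) Lrfl Lrfl
theorem f479618 : Led Lsl_gt (LP (LK LD1_c7 LD2_c54 LD3_c31)) = (LP (LK LD1_c7 LD2_c22 LD3_c2)) :=
  Lgr Lrot94 (Lpr_cf (K29.f479607 IH) (Lpr_gt (K29.f459169 IH) (Lpe (K28.f458908 IH) (Lpr_gt (K28.f465113 IH) (Lpr_dt (K28.f469603 IH) (Lpe (f468286 IH) (Lpe (K28.f459185 IH) (Lpr_gf (K28.f468282 IH) (Lpe (K32.f142377 IH) (Lpn (LP (LK LD1_c7 LD2_c22 LD3_c2))))))))))))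
theorem f440148 : Led Lsl_ct (LP (LK LD1_c7 LD2_c22 LD3_c2)) = (LP (LK LD1_c13 LD2_c55 LD3_c59)) :=
  Lre_c IH (LK LD1_c7 LD2_c22 LD3_c2) (LK LD1_c13 LD2_c55 LD3_c59) Lrfl Lrfl
theorem f459265 : Led Lsl_ct (LP (LK LD1_c13 LD2_c24 LD3_c57)) = (LP (LK LD1_c7 LD2_c4 LD3_c35)) :=
  Lre_c IH (LK LD1_c13 LD2_c24 LD3_c57) (LK LD1_c7 LD2_c4 LD3_c35) Lrfl Lrfl
theorem f480173 : Led Lsl_gt (LP (LK LD1_c13 LD2_c55 LD3_c59)) = (LP (LK LD1_c13 LD2_c24 LD3_c57)) :=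
  Lgr Lrot187 (Lpe (f440148 IH) (Lpe (f479618 IH) (Lpr_dt (K29.f458186 IH) (Lpr_gt (K24.f458174 IH) (Lpr_ct (K24.f98807 IH) (Lpr_gt (f98820 IH) (Lpr_ct (f464630 IH) (Lpr_dt (f480166 IH) (Lpe (f459265 IH) (Lpn (LP (LK LD1_c13 LD2_c24 LD3_c57))))))))))))
theorem f463669 : Led Lsl_ct (LP (LK LD1_c13 LD2_c55 LD3_c59)) = (LP (LK LD1_c7 LD2_c22 LD3_c2)) :=
  Lre_c IH (LK LD1_c13 LD2_c55 LD3_c59) (LK LD1_c7 LD2_c22 LD3_c2) Lrfl Lrfl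
theorem f479829 : Led Lsl_df (LP (LK LD1_c7 LD2_c28 LD3_c24)) = (LP (LK LD1_c7 LD2_c52 LD3_c47)) :=
  Lgr Lrot106 (Lpe (f469924 IH) (Lpr_dt (f464728 IH) (Lpr_ct (f458172 IH) (Lpr_dt (f19073 IH) (Lpr_ct (K24.f19072 IH) (Lpe (K32.f455127 IH) (Lpr_ff (K32.f464709 IH) (Lpr_dt (K32.f128087 IH) (Lpr_ct (K32.f479825 IH) (Lpn (LP (LK LD1_c7 LD2_c52 LD3_c47))))))))))))
theorem f11342 : Led Lsl_dt (LP (LK LD1_c1 LD2_c55 LD3_c2)) = (LP (LK LD1_c0 LD2_c54 LD3_c12)) :=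
  Lre_d IH (LK LD1_c1 LD2_c55 LD3_c2) (LK LD1_c0 LD2_c54 LD3_c12) Lrfl Lrfl
theorem f11343 : Led Lsl_gt (LP (LK LD1_c3 LD2_c56 LD3_c38)) = (LP (LK LD1_c1 LD2_c55 LD3_c2)) :=
  Lre_g IH (LK LD1_c3 LD2_c56 LD3_c38) (LK LD1_c1 LD2_c55 LD3_c2) Lrfl Lrfl
theorem f451987 : Led Lsl_ct (LP (LK LD1_c7 LD2_c55 LD3_c1)) = (LP (LK LD1_c3 LD2_c56 LD3_c38)) :=
  Lre_c IH (LK LD1_c7 LD2_c55 LD3_c1) (LK LD1_c3 LD2_c56 LD3_c38) Lrfl Lrfl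
theorem f469946 : Led Lsl_gf (LP (LK LD1_c13 LD2_c13 LD3_c6)) = (LP (LK LD1_c7 LD2_c55 LD3_c1)) :=
  Lgr Lrot144 (Lpe (f464749 IH) (Lpr_gt (f469927 IH) (Lpr_dt (K28.f469183 IH) (Lpe (K28.f121076 IH) (Lpe (K5.f121028 IH) (Lpr_gf (K28.f463653 IH) (Lpe (f11342 IH) (Lpe (f11343 IH) (Lpe (f451987 IH) (Lpn (LP (LK LD1_c7 LD2_c55 LD3_c1))))))))))))
theorem f480229 : Led Lsl_df (LP (LK LD1_c7 LD2_c55 LD3_c1)) = (LP (LK LD1_c13 LD2_c24 LD3_c57)) :=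
  Lgr Lrot153 (Lpe (f469946 IH) (Lpe (f464749 IH) (Lpr_cf (f469924 IH) (Lpr_df (f479829 IH) (Lpe (K32.f463668 IH) (Lpe (K32.f463658 IH) (Lpe (K32.f463664 IH) (Lpe (f463669 IH) (Lpr_gt (f480173 IH) (Lpn (LP (LK LD1_c13 LD2_c24 LD3_c57))))))))))))
theorem f458171 : Led Lsl_gt (LP (LK LD1_c6 LD2_c57 LD3_c40)) = (LP (LK LD1_c13 LD2_c13 LD3_c4)) :=
  Lre_g IH (LK LD1_c6 LD2_c57 LD3_c40) (LK LD1_c13 LD2_c13 LD3_c4) Lrfl Lrfl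
theorem f451261 : Led Lsl_gt (LP (LK LD1_c7 LD2_c54 LD3_c21)) = (LP (LK LD1_c3 LD2_c56 LD3_c19)) :=
  Lre_g IH (LK LD1_c7 LD2_c54 LD3_c21) (LK LD1_c3 LD2_c56 LD3_c19) Lrfl Lrfl
theorem f462753 : Led Lsl_cf (LP (LK LD1_c7 LD2_c54 LD3_c21)) = (LP (LK LD1_c13 LD2_c13 LD3_c4)) :=
  Lgr Lrot169 (Lpr_gt (f451261 IH) (Lpr_ct (K28.f451260 IH) (Lpe (K32.f451259 IH) (Lpe (K28.f11209 IH) (Lpqs (K28.f462397 IH) (Lpe (K28.f457138 IH) (Lpe (K28.f132101 IH) (Lpr_gf (K28.f462420 IH) (Lpe (f19073 IH) (Lpr_gt (f458171 IH) (Lpn (LP (LK LD1_c13 LD2_c13 LD3_c4)))))))))))))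
theorem f480238 : Led Lsl_dt (LP (LK LD1_c7 LD2_c54 LD3_c21)) = (LP (LK LD1_c13 LD2_c25 LD3_c43)) :=
  Lgr Lrot27 (Lpr_cf (f462753 IH) (Lpe (f458171 IH) (Lpe (f458172 IH) (Lpr_gf (f469946 IH) (Lpr_df (f480229 IH) (Lpe (f468120 IH) (Lpr_ct (f468119 IH) (Lpe (K29.f479628 IH) (Lpr_ct (K29.f479616 IH) (Lpn (LP (LK LD1_c13 LD2_c25 LD3_c43))))))))))))
theorem f470123 : Led Lsl_cf (LP (LK LD1_c7 LD2_c54 LD3_c20)) = (LP (LK LD1_c13 LD2_c13 LD3_c5)) :=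
  Lgr Lrot11 (Lpr_ct (f470119 IH) (Lpn (LP (LK LD1_c13 LD2_c13 LD3_c5))))
theorem f480243 : Led Lsl_df (LP (LK LD1_c13 LD2_c13 LD3_c4)) = (LP (LK LD1_c7 LD2_c5 LD3_c6)) :=
  Lgr Lrot43 (Lpe (f462753 IH) (Lpr_dt (f480238 IH) (Lpe (K29.f479607 IH) (Lpr_dt (K29.f458186 IH) (Lpr_ct (K29.f451966 IH) (Lpr_dt (K29.f479642 IH) (Lpr_ct (f455754 IH) (Lpe (f480050 IH) (Lpe (f470123 IH) (Lpr_dt (K32.f479794 IH) (Lpe (f469532 IH) (Lpr_dt (K32.f463658 IH) (Lpr_ct (K32.f463657 IH) (Lpe (K32.f463655 IH) (Lpr_ct (K29.f455749 IH) (Lpn (LP (LK LD1_c7 LD2_c5 LD3_c6))))))))))))))))))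
theorem f451758 : Led Lsl_dt (LP (LK LD1_c3 LD2_c56 LD3_c19)) = (LP (LK LD1_c7 LD2_c54 LD3_c23)) :=
  Lre_d IH (LK LD1_c3 LD2_c56 LD3_c19) (LK LD1_c7 LD2_c54 LD3_c23) Lrfl Lrfl
theorem f462763 : Led Lsl_ct (LP (LK LD1_c7 LD2_c54 LD3_c21)) = (LP (LK LD1_c13 LD2_c13 LD3_c4)) :=
  Lgr Lrot59 (Lpr_cf (f462753 IH) (Lpn (LP (LK LD1_c13 LD2_c13 LD3_c4))))
theorem f129180 : Led Lsl_dt (LP (LK LD1_c7 LD2_c21 LD3_c18)) = (LP (LK LD1_c3 LD2_c40 LD3_c34)) :=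
  Lre_d IH (LK LD1_c7 LD2_c21 LD3_c18) (LK LD1_c3 LD2_c40 LD3_c34) Lrfl Lrfl
theorem f470117 : Led Lsl_gt (LP (LK LD1_c13 LD2_c13 LD3_c4)) = (LP (LK LD1_c7 LD2_c21 LD3_c18)) :=
  Lgr Lrot94 (Lpe (f462763 IH) (Lpr_gt (f451261 IH) (Lpr_dt (f451758 IH) (Lpr_gt (f470061 IH) (Lpr_dt (K28.f462430 IH) (Lpe (K28.f462422 IH) (Lpe (K28.f452021 IH) (Lpe (K28.f462785 IH) (Lpe (f129180 IH) (Lpn (LP (LK LD1_c7 LD2_c21 LD3_c18))))))))))))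
theorem f451953 : Led Lsl_at (LP (LK LD1_c3 LD2_c56 LD3_c12)) = (LP (LK LD1_c1 LD2_c54 LD3_c56)) :=
  Lre_a IH (LK LD1_c3 LD2_c56 LD3_c12) (LK LD1_c1 LD2_c54 LD3_c56) Lrfl Lrfl
theorem f462889 : Led Lsl_df (LP (LK LD1_c3 LD2_c56 LD3_c12)) = (LP (LK LD1_c7 LD2_c22 LD3_c59)) :=
  Lgr Lrot18 (Lpr_at (f451953 IH) (Lpr_dt (K28.f451267 IH) (Lpr_at (K28.f462877 IH) (Lpn (LP (LK LD1_c7 LD2_c22 LD3_c59))))))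
theorem f462925 : Led Lsl_dt (LP (LK LD1_c3 LD2_c56 LD3_c12)) = (LP (LK LD1_c7 LD2_c22 LD3_c59)) :=
  Lgr Lrot42 (Lpr_df (f462889 IH) (Lpn (LP (LK LD1_c7 LD2_c22 LD3_c59))))
theorem f469515 : Led Lsl_gf (LP (LK LD1_c7 LD2_c45 LD3_c44)) = (LP (LK LD1_c6 LD2_c57 LD3_c42)) :=
  Lgr Lrot144 (Lpr_dt (K32.f128090 IH) (Lpe (K28.f464707 IH) (Lpr_dt (K28.f464608 IH) (Lpe (f469175 IH) (Lpe (f455757 IH) (Lpr_gf (K28.f469511 IH) (Lpe (f462925 IH) (Lpe (f451950 IH) (Lpe (f464630 IH) (Lpn (LP (LK LD1_c6 LD2_c57 LD3_c42))))))))))))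
theorem f464665 : Led Lsl_dt (LP (LK LD1_c13 LD2_c13 LD3_c8)) = (LP (LK LD1_c6 LD2_c57 LD3_c42)) :=
  Lre_d IH (LK LD1_c13 LD2_c13 LD3_c8) (LK LD1_c6 LD2_c57 LD3_c42) Lrfl Lrfl
theorem f462425 : Led Lsl_at (LP (LK LD1_c7 LD2_c54 LD3_c44)) = (LP (LK LD1_c7 LD2_c53 LD3_c60)) :=
  Lgr Lrot51 (Lpe (K28.f462198 IH) (Lpr_af (K28.f122370 IH) (Lpr_df (K28.f462423 IH) (Lpn (LP (LK LD1_c7 LD2_c53 LD3_c60))))))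
theorem f470053 : Led Lsl_gf (LP (LK LD1_c13 LD2_c25 LD3_c13)) = (LP (LK LD1_c7 LD2_c21 LD3_c22)) :=
  Lgr Lrot47 (Lpr_gt (K28.f470051 IH) (Lpe (f462425 IH) (Lpe (K28.f462214 IH) (Lpn (LP (LK LD1_c7 LD2_c21 LD3_c22))))))
theorem f116143 : Led Lsl_gt (LP (LK LD1_c7 LD2_c29 LD3_c0)) = (LP (LK LD1_c3 LD2_c44 LD3_c5)) :=
  Lre_g IH (LK LD1_c7 LD2_c29 LD3_c0) (LK LD1_c3 LD2_c44 LD3_c5) Lrfl Lrfl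
theorem f470063 : Led Lsl_ct (LP (LK LD1_c7 LD2_c54 LD3_c23)) = (LP (LK LD1_c7 LD2_c29 LD3_c0)) :=
  Lgr Lrot152 (Lpr_gf (K32.f470059 IH) (Lpe (K32.f463284 IH) (Lpe (f470053 IH) (Lpr_ct (K28.f458975 IH) (Lpe (K28.f465820 IH) (Lpr_ct (K28.f457965 IH) (Lpr_df (f463026 IH) (Lpe (K28.f116141 IH) (Lpe (f116143 IH) (Lpn (LP (LK LD1_c7 LD2_c29 LD3_c0))))))))))))
theorem f470075 : Led Lsl_df (LP (LK LD1_c3 LD2_c56 LD3_c11)) = (LP (LK LD1_c7 LD2_c29 LD3_c0)) :=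
  Lgr Lrot13 (Lpr_ct (K28.f11366 IH) (Lpe (K28.f11360 IH) (Lpr_ct (K28.f11371 IH) (Lpe (K28.f11375 IH) (Lpr_ff (K28.f451807 IH) (Lpr_dt (K32.f451259 IH) (Lpr_ct (K32.f451755 IH) (Lpr_dt (f451758 IH) (Lpr_ct (f470063 IH) (Lpn (LP (LK LD1_c7 LD2_c29 LD3_c0))))))))))))
theorem f470081 : Led Lsl_dt (LP (LK LD1_c3 LD2_c56 LD3_c11)) = (LP (LK LD1_c7 LD2_c29 LD3_c0)) :=
  Lgr Lrot42 (Lpr_df (f470075 IH) (Lpn (LP (LK LD1_c7 LD2_c29 LD3_c0))))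
theorem f470069 : Led Lsl_cf (LP (LK LD1_c7 LD2_c54 LD3_c23)) = (LP (LK LD1_c7 LD2_c29 LD3_c0)) :=
  Lgr Lrot11 (Lpr_ct (f470063 IH) (Lpn (LP (LK LD1_c7 LD2_c29 LD3_c0))))
theorem f479990 : Led Lsl_df (LP (LK LD1_c7 LD2_c54 LD3_c21)) = (LP (LK LD1_c13 LD2_c25 LD3_c43)) :=
  Lgr Lrot153 (Lpr_gt (f451261 IH) (Lpr_dt (f451758 IH) (Lpr_cf (f470069 IH) (Lpe (f470081 IH) (Lpr_gf (K32.f451956 IH) (Lpr_df (f479856 IH) (Lpe (f458894 IH) (Lpe (K32.f458887 IH) (Lpr_gt (K29.f459168 IH) (Lpn (LP (LK LD1_c13 LD2_c25 LD3_c43))))))))))))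
theorem f465118 : Led Lsl_gf (LP (LK LD1_c13 LD2_c25 LD3_c46)) = (LP (LK LD1_c7 LD2_c25 LD3_c33)) :=
  Lgr Lrot76 (Lpr_af (K32.f458966 IH) (Lpr_ff (K32.f459058 IH) (Lpr_gt (K28.f465113 IH) (Lpn (LP (LK LD1_c7 LD2_c25 LD3_c33))))))
theorem f455755 : Led Lsl_gt (LP (LK LD1_c7 LD2_c5 LD3_c5)) = (LP (LK LD1_c13 LD2_c25 LD3_c55)) :=
  Lre_g IH (LK LD1_c7 LD2_c5 LD3_c5) (LK LD1_c13 LD2_c25 LD3_c55) Lrfl Lrfl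
theorem f463636 : Led Lsl_dt (LP (LK LD1_c13 LD2_c25 LD3_c55)) = (LP (LK LD1_c7 LD2_c25 LD3_c31)) :=
  Lgr Lrot57 (Lpe (f455755 IH) (Lpe (f455754 IH) (Lpr_gt (K29.f459207 IH) (Lpr_dt (K28.f458932 IH) (Lpe (K28.f459182 IH) (Lpq (K28.f463623 IH) (Lpe (K28.f459487 IH) (Lpqs (K28.f462174 IH) (Lpe (K28.f11385 IH) (Lpe (f451981 IH) (Lpr_gf (K28.f462668 IH) (Lpn (LP (LK LD1_c7 LD2_c25 LD3_c31))))))))))))))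
theorem f463638 : Led Lsl_df (LP (LK LD1_c13 LD2_c25 LD3_c55)) = (LP (LK LD1_c7 LD2_c25 LD3_c31)) :=
  Lgr Lrot38 (Lpr_dt (f463636 IH) (Lpn (LP (LK LD1_c7 LD2_c25 LD3_c31))))
theorem f480247 : Led Lsl_gt (LP (LK LD1_c13 LD2_c25 LD3_c55)) = (LP (LK LD1_c7 LD2_c5 LD3_c6)) :=
  Lgr Lrot49 (Lpr_df (f463638 IH) (Lpe (K28.f462667 IH) (Lpe (K28.f159350 IH) (Lpe (f465118 IH) (Lpr_dt (K32.f458905 IH) (Lpr_gt (K29.f459168 IH) (Lpe (f479990 IH) (Lpr_cf (f462753 IH) (Lpr_df (f480243 IH) (Lpn (LP (LK LD1_c7 LD2_c5 LD3_c6))))))))))))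
theorem f455540 : Led Lsl_bt (LP (LK LD1_c0 LD2_c47 LD3_c28)) = (LP (LK LD1_c1 LD2_c41 LD3_c55)) :=
  Lre_b IH (LK LD1_c0 LD2_c47 LD3_c28) (LK LD1_c1 LD2_c41 LD3_c55) Lrfl Lrfl
theorem f472696 : Led Lsl_bt (LP (LK LD1_c1 LD2_c42 LD3_c24)) = (LP (LK LD1_c3 LD2_c30 LD3_c35)) :=
  Lgr Lrot92 (Lpr_ct (K28.f459184 IH) (Lpr_gt (K28.f469134 IH) (Lpr_cf (K28.f468113 IH) (Lpr_bt (K28.f461894 IH) (Lpr_gt (K24.f108772 IH) (Lpr_ct (K5.f109303 IH) (Lpr_gt (K29.f460585 IH) (Lpe (K24.f455542 IH) (Lpr_bt (f455540 IH) (Lpr_gt (K28.f457480 IH) (Lpn (LP (LK LD1_c3 LD2_c30 LD3_c35)))))))))))))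
theorem f106211 : Led Lsl_gt (LP (LK LD1_c1 LD2_c44 LD3_c38)) = (LP (LK LD1_c3 LD2_c35 LD3_c32)) :=
  Lre_g IH (LK LD1_c1 LD2_c44 LD3_c38) (LK LD1_c3 LD2_c35 LD3_c32) Lrfl Lrfl
theorem f468289 : Led Lsl_ct (LP (LK LD1_c3 LD2_c35 LD3_c32)) = (LP (LK LD1_c3 LD2_c40 LD3_c54)) :=
  Lgr Lrot152 (Lpe (f106211 IH) (Lpr_df (K5.f106206 IH) (Lpe (K28.f464636 IH) (Lpr_ct (K28.f462807 IH) (Lpe (K28.f462652 IH) (Lpr_ct (K28.f11385 IH) (Lpq (K28.f462174 IH) (Lpr_df (K28.f459487 IH) (Lpqs (K28.f463623 IH) (Lpe (K28.f459188 IH) (Lpr_gf (K28.f468282 IH) (Lpn (LP (LK LD1_c3 LD2_c40 LD3_c54))))))))))))))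
theorem f473456 : Led Lsl_bf (LP (LK LD1_c3 LD2_c24 LD3_c30)) = (LP (LK LD1_c3 LD2_c35 LD3_c32)) :=
  Lgr Lrot34 (Lpe (K28.f14647 IH) (Lpe (K2.f15779 IH) (Lpr_ct (K24.f15795 IH) (Lpe (K29.f15810 IH) (Lpr_cf (K29.f473446 IH) (Lpr_gf (K29.f473438 IH) (Lpe (f472696 IH) (Lpr_ct (K28.f459184 IH) (Lpr_gf (K28.f468282 IH) (Lpe (f468289 IH) (Lpn (LP (LK LD1_c3 LD2_c35 LD3_c32)))))))))))))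
theorem f473458 : Led Lsl_bt (LP (LK LD1_c3 LD2_c24 LD3_c30)) = (LP (LK LD1_c3 LD2_c35 LD3_c32)) :=
  Lgr Lrot127 (Lpr_bf (f473456 IH) (Lpn (LP (LK LD1_c3 LD2_c35 LD3_c32))))
theorem f464165 : Led Lsl_gt (LP (LK LD1_c7 LD2_c0 LD3_c7)) = (LP (LK LD1_c3 LD2_c29 LD3_c15)) :=
  Lgr Lrot5 (Lpe (K24.f460100 IH) (Lpe (K5.f109299 IH) (Lpr_gf (K28.f464147 IH) (Lpn (LP (LK LD1_c3 LD2_c29 LD3_c15))))))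
theorem f473462 : Led Lsl_gf (LP (LK LD1_c7 LD2_c4 LD3_c32)) = (LP (LK LD1_c3 LD2_c35 LD3_c32)) :=
  Lgr Lrot124 (Lpe (K28.f466310 IH) (Lpr_ct (K28.f460104 IH) (Lpr_gt (f464165 IH) (Lpe (K28.f18965 IH) (Lpr_bt (K28.f458365 IH) (Lpe (K28.f463584 IH) (Lpe (K28.f420088 IH) (Lpe (K29.f473331 IH) (Lpe (K28.f15811 IH) (Lpr_bt (f473458 IH) (Lpn (LP (LK LD1_c3 LD2_c35 LD3_c32)))))))))))))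
theorem f473464 : Led Lsl_ct (LP (LK LD1_c3 LD2_c40 LD3_c54)) = (LP (LK LD1_c3 LD2_c35 LD3_c32)) :=
  Lgr Lrot152 (Lpe (K28.f128316 IH) (Lpe (K28.f128312 IH) (Lpr_gt (K28.f463473 IH) (Lpr_ct (f469620 IH) (Lpr_gt (f469972 IH) (Lpr_ct (f469504 IH) (Lpe (f459232 IH) (Lpe (K28.f455628 IH) (Lpr_gf (f473462 IH) (Lpn (LP (LK LD1_c3 LD2_c35 LD3_c32))))))))))))
theorem f106217 : Led Lsl_dt (LP (LK LD1_c7 LD2_c11 LD3_c54)) = (LP (LK LD1_c3 LD2_c35 LD3_c32)) :=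
  Lre_d IH (LK LD1_c7 LD2_c11 LD3_c54) (LK LD1_c3 LD2_c35 LD3_c32) Lrfl Lrfl
theorem f473470 : Led Lsl_ct (LP (LK LD1_c13 LD2_c25 LD3_c55)) = (LP (LK LD1_c7 LD2_c11 LD3_c54)) :=
  Lgr Lrot110 (Lpe (f455755 IH) (Lpe (f455754 IH) (Lpe (K29.f455753 IH) (Lpe (K24.f455752 IH) (Lpq (K28.f463620 IH) (Lpe (K24.f457147 IH) (Lpr_ct (K28.f122362 IH) (Lpr_gt (K28.f128316 IH) (Lpr_ct (f473464 IH) (Lpe (f106217 IH) (Lpn (LP (LK LD1_c7 LD2_c11 LD3_c54)))))))))))))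
theorem f473496 : Led Lsl_cf (LP (LK LD1_c13 LD2_c25 LD3_c55)) = (LP (LK LD1_c7 LD2_c11 LD3_c54)) :=
  Lgr Lrot11 (Lpr_ct (f473470 IH) (Lpn (LP (LK LD1_c7 LD2_c11 LD3_c54))))
theorem f480249 : Led Lsl_gf (LP (LK LD1_c13 LD2_c13 LD3_c8)) = (LP (LK LD1_c7 LD2_c11 LD3_c54)) :=
  Lgr Lrot144 (Lpr_dt (f464665 IH) (Lpe (f469515 IH) (Lpr_dt (K32.f128090 IH) (Lpe (f464711 IH) (Lpe (f129180 IH) (Lpe (f470117 IH) (Lpr_df (f480243 IH) (Lpe (f480247 IH) (Lpr_cf (f473496 IH) (Lpn (LP (LK LD1_c7 LD2_c11 LD3_c54))))))))))))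
theorem f106216 : Led Lsl_dt (LP (LK LD1_c3 LD2_c35 LD3_c32)) = (LP (LK LD1_c7 LD2_c11 LD3_c54)) :=
  Lre_d IH (LK LD1_c3 LD2_c35 LD3_c32) (LK LD1_c7 LD2_c11 LD3_c54) Lrfl Lrfl
theorem f455688 : Led Lsl_gt (LP (LK LD1_c3 LD2_c31 LD3_c31)) = (LP (LK LD1_c7 LD2_c4 LD3_c44)) :=
  Lre_g IH (LK LD1_c3 LD2_c31 LD3_c31) (LK LD1_c7 LD2_c4 LD3_c44) Lrfl Lrfl
theorem f458943 : Led Lsl_gf (LP (LK LD1_c7 LD2_c4 LD3_c56)) = (LP (LK LD1_c7 LD2_c4 LD3_c44)) :=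
  Lgr Lrot76 (Lpe (K28.f458230 IH) (Lpr_ff (K24.f458927 IH) (Lpr_gt (f455688 IH) (Lpn (LP (LK LD1_c7 LD2_c4 LD3_c44))))))
theorem f480251 : Led Lsl_ct (LP (LK LD1_c13 LD2_c13 LD3_c8)) = (LP (LK LD1_c7 LD2_c4 LD3_c44)) :=
  Lgr Lrot152 (Lpr_gf (f480249 IH) (Lpe (f106216 IH) (Lpe (f473462 IH) (Lpr_ct (K28.f455628 IH) (Lpe (f459229 IH) (Lpr_ct (K28.f455769 IH) (Lpe (K28.f458973 IH) (Lpe (K28.f458974 IH) (Lpr_gf (f458943 IH) (Lpn (LP (LK LD1_c7 LD2_c4 LD3_c44))))))))))))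
theorem f480278 : Led Lsl_cf (LP (LK LD1_c13 LD2_c13 LD3_c8)) = (LP (LK LD1_c7 LD2_c4 LD3_c44)) :=
  Lgr Lrot11 (Lpr_ct (f480251 IH) (Lpn (LP (LK LD1_c7 LD2_c4 LD3_c44))))
theorem f483767 : Led Lsl_gt (LP (LK LD1_c1 LD2_c49 LD3_c18)) = (LP (LK LD1_c1 LD2_c42 LD3_c18)) :=
  Lgr Lrot146 (Lpr_dt (f483758 IH) (Lpr_gt (f11344 IH) (Lpr_ct (K28.f11379 IH) (Lpr_gt (f451343 IH) (Lpe (f464663 IH) (Lpr_dt (f98821 IH) (Lpr_cf (f480278 IH) (Lpe (f455688 IH) (Lpe (K29.f455622 IH) (Lpn (LP (LK LD1_c1 LD2_c42 LD3_c18))))))))))))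
theorem f483769 : Led Lsl_ct (LP (LK LD1_c1 LD2_c49 LD3_c18)) = (LP (LK LD1_c3 LD2_c44 LD3_c33)) :=
  Lre_c IH (LK LD1_c1 LD2_c49 LD3_c18) (LK LD1_c3 LD2_c44 LD3_c33) Lrfl Lrfl
theorem f483770 : Led Lsl_gt (LP (LK LD1_c3 LD2_c44 LD3_c33)) = (LP (LK LD1_c7 LD2_c30 LD3_c9)) :=
  Lre_g IH (LK LD1_c3 LD2_c44 LD3_c33) (LK LD1_c7 LD2_c30 LD3_c9) Lrfl Lrfl
theorem f459393 : Led Lsl_dt K24.v769 = K28.v789 :=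
  Lgr Lrot60 (Lpe (K24.f457148 IH) (Lpr_df (K28.f128308 IH) (Lpr_ff (K28.f459390 IH) (Lpn K28.v789))))
theorem f483771 : Led Lsl_dt (LP (LK LD1_c7 LD2_c30 LD3_c9)) = (LP (LK LD1_c7 LD2_c21 LD3_c20)) :=
  Lgr Lrot57 (Lpe (f483770 IH) (Lpe (f483769 IH) (Lpr_gt (f483767 IH) (Lpr_dt (K32.f455630 IH) (Lpr_gt (K24.f455618 IH) (Lpq (K28.f463258 IH) (Lpr_dt (f459393 IH) (Lpqs (K28.f462401 IH) (Lpe (K28.f452015 IH) (Lpe (K28.f452019 IH) (Lpe (f462718 IH) (Lpn (LP (LK LD1_c7 LD2_c21 LD3_c20))))))))))))))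
theorem f483762 : Led Lsl_dt (LP (LK LD1_c7 LD2_c30 LD3_c10)) = (LP (LK LD1_c3 LD2_c44 LD3_c33)) :=
  Lre_d IH (LK LD1_c7 LD2_c30 LD3_c10) (LK LD1_c3 LD2_c44 LD3_c33) Lrfl Lrfl
theorem f462721 : Led Lsl_ct (LP (LK LD1_c13 LD2_c54 LD3_c21)) = (LP (LK LD1_c7 LD2_c21 LD3_c20)) :=
  Lre_c IH (LK LD1_c13 LD2_c54 LD3_c21) (LK LD1_c7 LD2_c21 LD3_c20) Lrfl Lrfl
theorem f480455 : Led Lsl_df (LP (LK LD1_c13 LD2_c25 LD3_c41)) = (LP (LK LD1_c7 LD2_c54 LD3_c15)) :=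
  Lgr Lrot38 (Lpr_dt (f480114 IH) (Lpn (LP (LK LD1_c7 LD2_c54 LD3_c15))))
theorem f451912 : Led Lsl_ft (LP (LK LD1_c3 LD2_c56 LD3_c11)) = (LP (LK LD1_c3 LD2_c56 LD3_c12)) :=
  Lgr Lrot4 (Lpe (K32.f11359 IH) (Lpr_ff (K28.f451904 IH) (Lpe (f451911 IH) (Lpn (LP (LK LD1_c3 LD2_c56 LD3_c12))))))
theorem f479603 : Led Lsl_gt (LP (LK LD1_c3 LD2_c56 LD3_c11)) = (LP (LK LD1_c3 LD2_c55 LD3_c17)) :=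
  Lgr Lrot5 (Lpr_ft (f451912 IH) (Lpr_at (f451953 IH) (Lpr_gf (K29.f479601 IH) (Lpn (LP (LK LD1_c3 LD2_c55 LD3_c17))))))
theorem f470085 : Led Lsl_gt (LP (LK LD1_c7 LD2_c4 LD3_c33)) = (LP (LK LD1_c7 LD2_c29 LD3_c0)) :=
  Lgr Lrot49 (Lpe (f459232 IH) (Lpe (K28.f455623 IH) (Lpe (K28.f446546 IH) (Lpr_gt (K24.f455618 IH) (Lpq (K28.f463258 IH) (Lpr_dt (f459393 IH) (Lpqs (K28.f462401 IH) (Lpe (K29.f452013 IH) (Lpr_dt (K28.f11331 IH) (Lpe (K28.f11366 IH) (Lpr_df (f470075 IH) (Lpn (LP (LK LD1_c7 LD2_c29 LD3_c0))))))))))))))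
theorem f469834 : Led Lsl_dt (LP (LK LD1_c13 LD2_c56 LD3_c8)) = (LP (LK LD1_c14 LD2_c2 LD3_c27)) :=
  Lgr Lrot42 (Lpr_df (f469826 IH) (Lpn (LP (LK LD1_c14 LD2_c2 LD3_c27))))
theorem f480460 : Led Lsl_gt (LP (LK LD1_c14 LD2_c2 LD3_c27)) = (LP (LK LD1_c7 LD2_c54 LD3_c15)) :=
  Lgr Lrot49 (Lpe (f469834 IH) (Lpr_gf (K28.f469965 IH) (Lpe (K28.f466166 IH) (Lpr_gt (f470085 IH) (Lpe (f470075 IH) (Lpr_gt (f479603 IH) (Lpe (K29.f469136 IH) (Lpe (f459255 IH) (Lpr_df (f480455 IH) (Lpn (LP (LK LD1_c7 LD2_c54 LD3_c15))))))))))))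
theorem f108149 : Led Lsl_ct (LP (LK LD1_c7 LD2_c25 LD3_c28)) = (LP (LK LD1_c14 LD2_c2 LD3_c27)) :=
  Lre_c IH (LK LD1_c7 LD2_c25 LD3_c28) (LK LD1_c14 LD2_c2 LD3_c27) Lrfl Lrfl
theorem f483844 : Led Lsl_gf (LP (LK LD1_c7 LD2_c30 LD3_c10)) = (LP (LK LD1_c7 LD2_c25 LD3_c28)) :=
  Lgr Lrot144 (Lpr_dt (f483762 IH) (Lpr_gt (f483770 IH) (Lpr_dt (f483771 IH) (Lpe (f462721 IH) (Lpr_df (f470270 IH) (Lpe (f470253 IH) (Lpr_df (f480455 IH) (Lpe (f480460 IH) (Lpe (f108149 IH) (Lpn (LP (LK LD1_c7 LD2_c25 LD3_c28))))))))))))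
theorem f483776 : Led Lsl_dt (LP (LK LD1_c3 LD2_c44 LD3_c33)) = (LP (LK LD1_c7 LD2_c30 LD3_c10)) :=
  Lre_d IH (LK LD1_c3 LD2_c44 LD3_c33) (LK LD1_c7 LD2_c30 LD3_c10) Lrfl Lrfl
theorem f483851 : Led Lsl_et (LP (LK LD1_c3 LD2_c44 LD3_c33)) = (LP (LK LD1_c1 LD2_c49 LD3_c17)) :=
  Lre_e IH (LK LD1_c3 LD2_c44 LD3_c33) (LK LD1_c1 LD2_c49 LD3_c17) Lrfl Lrfl
theorem f483852 : Led Lsl_gt (LP (LK LD1_c1 LD2_c49 LD3_c17)) = (LP (LK LD1_c3 LD2_c43 LD3_c32)) :=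
  Lgr Lrot131 (Lpe (f483851 IH) (Lpr_dt (f483776 IH) (Lpr_gf (f483844 IH) (Lpe (f108148 IH) (Lpe (K28.f26210 IH) (Lpe (K28.f159377 IH) (Lpr_dt (K6.f124065 IH) (Lpe (K6.f26196 IH) (Lpr_df (K28.f146759 IH) (Lpr_et (K6.f131689 IH) (Lpn (LP (LK LD1_c3 LD2_c43 LD3_c32)))))))))))))
theorem f511489 : Led Lsl_gf (LP (LK LD1_c1 LD2_c49 LD3_c17)) = (LP (LK LD1_c3 LD2_c44 LD3_c26)) :=
  Lgr Lrot47 (Lpr_gt (f483852 IH) (Lpe (f137114 IH) (Lpr_ff (f511474 IH) (Lpn (LP (LK LD1_c3 LD2_c44 LD3_c26))))))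
theorem f492338 : K28.v599 = (LP (LK LD1_c1 LD2_c39 LD3_c50)) :=
  (Llr Lrot117 (Lpe (K28.f455113 IH) (Lpr_dt (K28.f91989 IH) (Lpr_at (f492328 IH) (Lpr_dt (K29.f18198 IH) (Lpn (LP (LK LD1_c1 LD2_c39 LD3_c50)))))))).symm
theorem f492343 : Led Lsl_ff (LP (LK LD1_c1 LD2_c40 LD3_c27)) = (LP (LK LD1_c3 LD2_c26 LD3_c18)) :=
  Lgr Lrot23 (Lpr_ct (K28.f16734 IH) (Lpr_ft (K28.f455115 IH) (Lpqs (f492338 IH) (Lpr_ct (K28.f15899 IH) (Lpn (LP (LK LD1_c3 LD2_c26 LD3_c18)))))))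
theorem f492351 : Led Lsl_at (LP (LK LD1_c1 LD2_c40 LD3_c27)) = (LP (LK LD1_c3 LD2_c26 LD3_c20)) :=
  Lgr Lrot26 (Lpr_ff (f492343 IH) (Lpr_gt (K28.f15900 IH) (Lpe (K28.f464121 IH) (Lpn (LP (LK LD1_c3 LD2_c26 LD3_c20))))))
theorem f492320 : Led Lsl_ff (LP (LK LD1_c1 LD2_c40 LD3_c23)) = (LP (LK LD1_c3 LD2_c26 LD3_c20)) :=
  Lgr Lrot23 (Lpr_ct (K28.f16755 IH) (Lpr_ft (K28.f455120 IH) (Lpqs (f492313 IH) (Lpr_ct (K24.f16725 IH) (Lpn (LP (LK LD1_c3 LD2_c26 LD3_c20)))))))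
theorem f492360 : Led Lsl_af (LP (LK LD1_c3 LD2_c26 LD3_c18)) = (LP (LK LD1_c1 LD2_c40 LD3_c23)) :=
  Lgr Lrot45 (Lpe (f492343 IH) (Lpr_at (f492351 IH) (Lpe (f492320 IH) (Lpn (LP (LK LD1_c1 LD2_c40 LD3_c23))))))
theorem f98717 : Led Lsl_ct (LP (LK LD1_c3 LD2_c27 LD3_c50)) = (LP (LK LD1_c1 LD2_c40 LD3_c28)) :=
  Lre_c IH (LK LD1_c3 LD2_c27 LD3_c50) (LK LD1_c1 LD2_c40 LD3_c28) Lrfl Lrfl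
theorem f98718 : Led Lsl_ef (LP (LK LD1_c3 LD2_c27 LD3_c50)) = (LP (LK LD1_c3 LD2_c26 LD3_c18)) :=
  Lgr Lrot28 (Lpr_ct (f98717 IH) (Lpr_et (K28.f98711 IH) (Lpr_ct (K28.f15899 IH) (Lpn (LP (LK LD1_c3 LD2_c26 LD3_c18))))))
theorem f492368 : Led Lsl_at (LP (LK LD1_c3 LD2_c27 LD3_c50)) = (LP (LK LD1_c3 LD2_c27 LD3_c38)) :=
  Lgr Lrot80 (Lpr_ef (f98718 IH) (Lpr_af (f492360 IH) (Lpe (K28.f91999 IH) (Lpn (LP (LK LD1_c3 LD2_c27 LD3_c38))))))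
theorem f492378 : Led Lsl_ff (LP (LK LD1_c3 LD2_c27 LD3_c50)) = (LP (LK LD1_c6 LD2_c54 LD3_c34)) :=
  Lgr Lrot52 (Lpr_at (f492368 IH) (Lpe (K29.f90880 IH) (Lpr_gf (K32.f473325 IH) (Lpn (LP (LK LD1_c6 LD2_c54 LD3_c34))))))
theorem f492386 : Led Lsl_ft (LP (LK LD1_c3 LD2_c27 LD3_c50)) = (LP (LK LD1_c6 LD2_c54 LD3_c34)) :=
  Lgr Lrot48 (Lpr_ff (f492378 IH) (Lpn (LP (LK LD1_c6 LD2_c54 LD3_c34))))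
theorem f492390 : Led Lsl_ff (LP (LK LD1_c6 LD2_c57 LD3_c55)) = (LP (LK LD1_c13 LD2_c5 LD3_c19)) :=
  Lgr Lrot19 (Lpr_dt (K29.f98754 IH) (Lpr_ft (f492386 IH) (Lpe (K32.f473328 IH) (Lpn (LP (LK LD1_c13 LD2_c5 LD3_c19))))))
theorem f492394 : Led Lsl_at (LP (LK LD1_c6 LD2_c57 LD3_c55)) = (LP (LK LD1_c6 LD2_c57 LD3_c30)) :=
  Lgr Lrot26 (Lpr_ff (f492390 IH) (Lpe (K32.f473323 IH) (Lpr_gt (K28.f91990 IH) (Lpn (LP (LK LD1_c6 LD2_c57 LD3_c30))))))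
theorem f472701 : Led Lsl_cf (LP (LK LD1_c6 LD2_c57 LD3_c55)) = (LP (LK LD1_c13 LD2_c3 LD3_c44)) :=
  Lgr Lrot11 (Lpr_ct (K28.f469124 IH) (Lpn (LP (LK LD1_c13 LD2_c3 LD3_c44))))
theorem f492397 : Led Lsl_af (LP (LK LD1_c13 LD2_c3 LD3_c44)) = (LP (LK LD1_c13 LD2_c12 LD3_c49)) :=
  Lgr Lrot68 (Lpe (f472701 IH) (Lpr_at (f492394 IH) (Lpr_ct (K29.f91988 IH) (Lpn (LP (LK LD1_c13 LD2_c12 LD3_c49))))))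
theorem f492404 : Led Lsl_ft (LP (LK LD1_c13 LD2_c3 LD3_c43)) = (LP (LK LD1_c13 LD2_c12 LD3_c49)) :=
  Lgr Lrot2 (Lpr_gt (K28.f17035 IH) (Lpr_gt (K28.f19063 IH) (Lpr_af (f492397 IH) (Lpn (LP (LK LD1_c13 LD2_c12 LD3_c49))))))
theorem f492414 : Led Lsl_ff (LP (LK LD1_c13 LD2_c3 LD3_c43)) = (LP (LK LD1_c13 LD2_c12 LD3_c49)) :=
  Lgr Lrot3 (Lpr_ft (f492404 IH) (Lpn (LP (LK LD1_c13 LD2_c12 LD3_c49))))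
theorem f492422 : Led Lsl_at (LP (LK LD1_c13 LD2_c3 LD3_c43)) = (LP (LK LD1_c22 LD2_c12 LD3_c39)) :=
  Lgr Lrot26 (Lpr_ff (f492414 IH) (Lpe (K29.f464280 IH) (Lpr_gt (K29.f90903 IH) (Lpn (LP (LK LD1_c22 LD2_c12 LD3_c39))))))
theorem f492399 : Led Lsl_at (LP (LK LD1_c13 LD2_c3 LD3_c44)) = (LP (LK LD1_c13 LD2_c12 LD3_c49)) :=
  Lgr Lrot100 (Lpr_af (f492397 IH) (Lpn (LP (LK LD1_c13 LD2_c12 LD3_c49))))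
theorem f492428 : Led Lsl_ff (LP (LK LD1_c13 LD2_c3 LD3_c44)) = (LP (LK LD1_c22 LD2_c12 LD3_c39)) :=
  Lgr Lrot30 (Lpr_at (f492399 IH) (Lpe (f492414 IH) (Lpr_at (f492422 IH) (Lpn (LP (LK LD1_c22 LD2_c12 LD3_c39))))))
theorem f492432 : Led Lsl_ft (LP (LK LD1_c6 LD2_c57 LD3_c28)) = (LP (LK LD1_c13 LD2_c7 LD3_c48)) :=
  Lgr Lrot54 (Lpr_df (K28.f472703 IH) (Lpr_ff (f492428 IH) (Lpr_df (K29.f473310 IH) (Lpn (LP (LK LD1_c13 LD2_c7 LD3_c48))))))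
theorem f492438 : Led Lsl_ff (LP (LK LD1_c6 LD2_c57 LD3_c28)) = (LP (LK LD1_c13 LD2_c7 LD3_c48)) :=
  Lgr Lrot3 (Lpr_ft (f492432 IH) (Lpn (LP (LK LD1_c13 LD2_c7 LD3_c48))))
theorem f492442 : Led Lsl_ft (LP (LK LD1_c3 LD2_c27 LD3_c37)) = (LP (LK LD1_c6 LD2_c54 LD3_c35)) :=
  Lgr Lrot4 (Lpe (K28.f455117 IH) (Lpr_ff (f492438 IH) (Lpe (K29.f90871 IH) (Lpn (LP (LK LD1_c6 LD2_c54 LD3_c35))))))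
theorem f488394 : Led Lsl_bt (LP (LK LD1_c6 LD2_c57 LD3_c24)) = (LP (LK LD1_c3 LD2_c27 LD3_c37)) :=
  Lre_b IH (LK LD1_c6 LD2_c57 LD3_c24) (LK LD1_c3 LD2_c27 LD3_c37) Lrfl Lrfl
theorem f14881 : Led Lsl_bt (LP (LK LD1_c1 LD2_c52 LD3_c43)) = (LP (LK LD1_c0 LD2_c53 LD3_c1)) :=
  Lre_b IH (LK LD1_c1 LD2_c52 LD3_c43) (LK LD1_c0 LD2_c53 LD3_c1) Lrfl Lrfl
theorem f457974 : Led Lsl_ct (LP (LK LD1_c3 LD2_c52 LD3_c6)) = (LP (LK LD1_c1 LD2_c52 LD3_c43)) :=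
  Lre_c IH (LK LD1_c3 LD2_c52 LD3_c6) (LK LD1_c1 LD2_c52 LD3_c43) Lrfl Lrfl
theorem f457975 : Led Lsl_bf (LP (LK LD1_c3 LD2_c52 LD3_c6)) = (LP (LK LD1_c3 LD2_c26 LD3_c20)) :=
  Lgr Lrot90 (Lpr_ct (f457974 IH) (Lpr_bt (f14881 IH) (Lpr_ct (K28.f14880 IH) (Lpr_bt (K24.f457970 IH) (Lpr_ct (K24.f16725 IH) (Lpn (LP (LK LD1_c3 LD2_c26 LD3_c20))))))))
theorem f458103 : Led Lsl_dt (LP (LK LD1_c3 LD2_c52 LD3_c6)) = (LP (LK LD1_c7 LD2_c46 LD3_c2)) :=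
  Lre_d IH (LK LD1_c3 LD2_c52 LD3_c6) (LK LD1_c7 LD2_c46 LD3_c2) Lrfl Lrfl
theorem f458104 : Led Lsl_bt (LP (LK LD1_c7 LD2_c46 LD3_c2)) = (LP (LK LD1_c6 LD2_c54 LD3_c35)) :=
  Lgr Lrot95 (Lpe (f458103 IH) (Lpr_bf (f457975 IH) (Lpe (K29.f90879 IH) (Lpn (LP (LK LD1_c6 LD2_c54 LD3_c35))))))
theorem f458119 : Led Lsl_bf (LP (LK LD1_c7 LD2_c46 LD3_c2)) = (LP (LK LD1_c6 LD2_c54 LD3_c35)) :=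
  Lgr Lrot24 (Lpr_bt (f458104 IH) (Lpn (LP (LK LD1_c6 LD2_c54 LD3_c35))))
theorem f492444 : Led Lsl_ff (LP (LK LD1_c6 LD2_c57 LD3_c24)) = (LP (LK LD1_c7 LD2_c46 LD3_c2)) :=
  Lgr Lrot25 (Lpr_bt (f488394 IH) (Lpr_ft (f492442 IH) (Lpe (f458119 IH) (Lpn (LP (LK LD1_c7 LD2_c46 LD3_c2))))))
theorem f492452 : Led Lsl_ft (LP (LK LD1_c6 LD2_c57 LD3_c24)) = (LP (LK LD1_c7 LD2_c46 LD3_c2)) :=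
  Lgr Lrot48 (Lpr_ff (f492444 IH) (Lpn (LP (LK LD1_c7 LD2_c46 LD3_c2))))
theorem f457960 : Led Lsl_dt (LP (LK LD1_c3 LD2_c27 LD3_c36)) = (LP (LK LD1_c6 LD2_c57 LD3_c24)) :=
  Lre_d IH (LK LD1_c3 LD2_c27 LD3_c36) (LK LD1_c6 LD2_c57 LD3_c24) Lrfl Lrfl
theorem f458164 : Led Lsl_dt (LP (LK LD1_c7 LD2_c46 LD3_c2)) = (LP (LK LD1_c3 LD2_c52 LD3_c6)) :=
  Lre_d IH (LK LD1_c7 LD2_c46 LD3_c2) (LK LD1_c3 LD2_c52 LD3_c6) Lrfl Lrfl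
theorem f492461 : Led Lsl_ff (LP (LK LD1_c3 LD2_c27 LD3_c36)) = (LP (LK LD1_c3 LD2_c52 LD3_c6)) :=
  Lgr Lrot19 (Lpr_dt (f457960 IH) (Lpr_ft (f492452 IH) (Lpr_dt (f458164 IH) (Lpn (LP (LK LD1_c3 LD2_c52 LD3_c6))))))
theorem f457944 : Led Lsl_at (LP (LK LD1_c3 LD2_c27 LD3_c36)) = (LP (LK LD1_c6 LD2_c57 LD3_c23)) :=
  Lre_a IH (LK LD1_c3 LD2_c27 LD3_c36) (LK LD1_c6 LD2_c57 LD3_c23) Lrfl Lrfl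
theorem f458168 : Led Lsl_at (LP (LK LD1_c7 LD2_c45 LD3_c61)) = (LP (LK LD1_c3 LD2_c52 LD3_c6)) :=
  Lre_a IH (LK LD1_c7 LD2_c45 LD3_c61) (LK LD1_c3 LD2_c52 LD3_c6) Lrfl Lrfl
theorem f492471 : Led Lsl_ft (LP (LK LD1_c6 LD2_c57 LD3_c23)) = (LP (LK LD1_c7 LD2_c45 LD3_c61)) :=
  Lgr Lrot101 (Lpe (f457944 IH) (Lpr_ff (f492461 IH) (Lpe (f458168 IH) (Lpn (LP (LK LD1_c7 LD2_c45 LD3_c61))))))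
theorem f98792 : Led Lsl_at (LP (LK LD1_c6 LD2_c54 LD3_c32)) = (LP (LK LD1_c13 LD2_c7 LD3_c42)) :=
  Lre_a IH (LK LD1_c6 LD2_c54 LD3_c32) (LK LD1_c13 LD2_c7 LD3_c42) Lrfl Lrfl
theorem f457776 : Led Lsl_bt (LP (LK LD1_c3 LD2_c27 LD3_c36)) = (LP (LK LD1_c1 LD2_c40 LD3_c23)) :=
  Lre_b IH (LK LD1_c3 LD2_c27 LD3_c36) (LK LD1_c1 LD2_c40 LD3_c23) Lrfl Lrfl
theorem f457927 : Led Lsl_at (LP (LK LD1_c6 LD2_c57 LD3_c23)) = (LP (LK LD1_c3 LD2_c27 LD3_c36)) :=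
  Lre_a IH (LK LD1_c6 LD2_c57 LD3_c23) (LK LD1_c3 LD2_c27 LD3_c36) Lrfl Lrfl
theorem f492364 : Led Lsl_bt (LP (LK LD1_c13 LD2_c7 LD3_c42)) = (LP (LK LD1_c6 LD2_c57 LD3_c23)) :=
  Lgr Lrot62 (Lpe (f98792 IH) (Lpe (K28.f15718 IH) (Lpr_af (f492360 IH) (Lpe (f457776 IH) (Lpe (f457927 IH) (Lpn (LP (LK LD1_c6 LD2_c57 LD3_c23))))))))
theorem f468880 : Led Lsl_bt (LP (LK LD1_c3 LD2_c27 LD3_c47)) = (LP (LK LD1_c1 LD2_c40 LD3_c27)) :=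
  Lre_b IH (LK LD1_c3 LD2_c27 LD3_c47) (LK LD1_c1 LD2_c40 LD3_c27) Lrfl Lrfl
theorem f492355 : Led Lsl_at (LP (LK LD1_c6 LD2_c57 LD3_c47)) = (LP (LK LD1_c3 LD2_c27 LD3_c47)) :=
  Lre_a IH (LK LD1_c6 LD2_c57 LD3_c47) (LK LD1_c3 LD2_c27 LD3_c47) Lrfl Lrfl
theorem f458100 : Led Lsl_at (LP (LK LD1_c3 LD2_c52 LD3_c6)) = (LP (LK LD1_c7 LD2_c45 LD3_c61)) :=
  Lre_a IH (LK LD1_c3 LD2_c52 LD3_c6) (LK LD1_c7 LD2_c45 LD3_c61) Lrfl Lrfl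
theorem f492356 : Led Lsl_bf (LP (LK LD1_c6 LD2_c57 LD3_c47)) = (LP (LK LD1_c7 LD2_c45 LD3_c61)) :=
  Lgr Lrot81 (Lpr_at (f492355 IH) (Lpr_bt (f468880 IH) (Lpr_at (f492351 IH) (Lpe (f457975 IH) (Lpr_at (f458100 IH) (Lpn (LP (LK LD1_c7 LD2_c45 LD3_c61))))))))
theorem f492475 : Led Lsl_ff (LP (LK LD1_c13 LD2_c7 LD3_c42)) = (LP (LK LD1_c6 LD2_c57 LD3_c47)) :=
  Lgr Lrot25 (Lpr_bt (f492364 IH) (Lpr_ft (f492471 IH) (Lpe (f492356 IH) (Lpn (LP (LK LD1_c6 LD2_c57 LD3_c47))))))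
theorem f98779 : Led Lsl_at (LP (LK LD1_c13 LD2_c7 LD3_c42)) = (LP (LK LD1_c6 LD2_c54 LD3_c32)) :=
  Lre_a IH (LK LD1_c13 LD2_c7 LD3_c42) (LK LD1_c6 LD2_c54 LD3_c32) Lrfl Lrfl
theorem f492608 : Led Lsl_gf (LP (LK LD1_c7 LD2_c34 LD3_c48)) = (LP (LK LD1_c6 LD2_c57 LD3_c47)) :=
  Lgr Lrot47 (Lpr_gt (K28.f465414 IH) (Lpe (f98779 IH) (Lpr_ff (f492475 IH) (Lpn (LP (LK LD1_c6 LD2_c57 LD3_c47))))))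
theorem f95883 : Led Lsl_bt (LP (LK LD1_c7 LD2_c49 LD3_c48)) = (LP (LK LD1_c3 LD2_c54 LD3_c7)) :=
  Lre_b IH (LK LD1_c7 LD2_c49 LD3_c48) (LK LD1_c3 LD2_c54 LD3_c7) Lrfl Lrfl
theorem f11704 : Led Lsl_at (LP (LK LD1_c7 LD2_c51 LD3_c50)) = (LP (LK LD1_c14 LD2_c49 LD3_c47)) :=
  Lre_a IH (LK LD1_c7 LD2_c51 LD3_c50) (LK LD1_c14 LD2_c49 LD3_c47) Lrfl Lrfl
theorem f160017 : Led Lsl_at (LP (LK LD1_c3 LD2_c54 LD3_c7)) = (LP (LK LD1_c3 LD2_c55 LD3_c6)) :=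
  Lgr Lrot67 (Lpe (f95883 IH) (Lpe (K28.f160016 IH) (Lpr_bf (K8.f160014 IH) (Lpe (f11704 IH) (Lpe (K28.f11682 IH) (Lpn (LP (LK LD1_c3 LD2_c55 LD3_c6))))))))
theorem f471334 : Led Lsl_gt (LP (LK LD1_c1 LD2_c53 LD3_c41)) = (LP (LK LD1_c3 LD2_c40 LD3_c16)) :=
  Lgr Lrot5 (Lpr_ft (K28.f95884 IH) (Lpr_at (f160017 IH) (Lpr_gf (K30.f471332 IH) (Lpn (LP (LK LD1_c3 LD2_c40 LD3_c16))))))
theorem f471326 : Led Lsl_bt (LP (LK LD1_c7 LD2_c20 LD3_c44)) = (LP (LK LD1_c3 LD2_c40 LD3_c16)) :=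
  Lre_b IH (LK LD1_c7 LD2_c20 LD3_c44) (LK LD1_c3 LD2_c40 LD3_c16) Lrfl Lrfl
theorem f203913 : Led Lsl_dt (LP (LK LD1_c3 LD2_c42 LD3_c45)) = (LP (LK LD1_c7 LD2_c26 LD3_c8)) :=
  Lre_d IH (LK LD1_c3 LD2_c42 LD3_c45) (LK LD1_c7 LD2_c26 LD3_c8) Lrfl Lrfl
theorem f471302 : Led Lsl_dt (LP (LK LD1_c7 LD2_c20 LD3_c45)) = (LP (LK LD1_c3 LD2_c40 LD3_c16)) :=
  Lre_d IH (LK LD1_c7 LD2_c20 LD3_c45) (LK LD1_c3 LD2_c40 LD3_c16) Lrfl Lrfl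
theorem f471329 : Led Lsl_ft (LP (LK LD1_c7 LD2_c26 LD3_c8)) = (LP (LK LD1_c7 LD2_c20 LD3_c45)) :=
  Lgr Lrot54 (Lpe (f203913 IH) (Lpr_ff (K30.f471322 IH) (Lpe (f471302 IH) (Lpn (LP (LK LD1_c7 LD2_c20 LD3_c45))))))
theorem f470866 : Led Lsl_et (LP (LK LD1_c14 LD2_c3 LD3_c22)) = (LP (LK LD1_c7 LD2_c26 LD3_c8)) :=
  Lre_e IH (LK LD1_c14 LD2_c3 LD3_c22) (LK LD1_c7 LD2_c26 LD3_c8) Lrfl Lrfl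
theorem f470871 : Led Lsl_ft (LP (LK LD1_c23 LD2_c36 LD3_c28)) = (LP (LK LD1_c14 LD2_c3 LD3_c22)) :=
  Lre_f IH (LK LD1_c23 LD2_c36 LD3_c28) (LK LD1_c14 LD2_c3 LD3_c22) Lrfl Lrfl
theorem f471340 : Led Lsl_et (LP (LK LD1_c7 LD2_c20 LD3_c45)) = (LP (LK LD1_c13 LD2_c53 LD3_c30)) :=
  Lre_e IH (LK LD1_c7 LD2_c20 LD3_c45) (LK LD1_c13 LD2_c53 LD3_c30) Lrfl Lrfl
theorem f471357 : Led Lsl_ft (LP (LK LD1_c13 LD2_c53 LD3_c30)) = (LP (LK LD1_c23 LD2_c23 LD3_c44)) :=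
  Lre_f IH (LK LD1_c13 LD2_c53 LD3_c30) (LK LD1_c23 LD2_c23 LD3_c44) Lrfl Lrfl
theorem f471581 : Led Lsl_ef (LP (LK LD1_c23 LD2_c36 LD3_c28)) = (LP (LK LD1_c23 LD2_c23 LD3_c44)) :=
  Lgr Lrot21 (Lpr_ft (f470871 IH) (Lpr_et (f470866 IH) (Lpr_ft (f471329 IH) (Lpr_et (f471340 IH) (Lpr_ft (f471357 IH) (Lpn (LP (LK LD1_c23 LD2_c23 LD3_c44))))))))
theorem f471590 : Led Lsl_et (LP (LK LD1_c23 LD2_c36 LD3_c28)) = (LP (LK LD1_c23 LD2_c23 LD3_c44)) :=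
  Lgr Lrot87 (Lpr_ef (f471581 IH) (Lpn (LP (LK LD1_c23 LD2_c23 LD3_c44))))
theorem f203914 : Led Lsl_dt (LP (LK LD1_c7 LD2_c26 LD3_c8)) = (LP (LK LD1_c3 LD2_c42 LD3_c45)) :=
  Lre_d IH (LK LD1_c7 LD2_c26 LD3_c8) (LK LD1_c3 LD2_c42 LD3_c45) Lrfl Lrfl
theorem f470855 : Led Lsl_at (LP (LK LD1_c3 LD2_c56 LD3_c36)) = (LP (LK LD1_c7 LD2_c26 LD3_c8)) :=
  Lgr Lrot51 (Lpe (K28.f451626 IH) (Lpr_af (K29.f470848 IH) (Lpe (f203914 IH) (Lpn (LP (LK LD1_c7 LD2_c26 LD3_c8))))))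
theorem f451638 : Led Lsl_et (LP (LK LD1_c7 LD2_c54 LD3_c58)) = (LP (LK LD1_c3 LD2_c56 LD3_c36)) :=
  Lre_e IH (LK LD1_c7 LD2_c54 LD3_c58) (LK LD1_c3 LD2_c56 LD3_c36) Lrfl Lrfl
theorem f470859 : Led Lsl_et (LP (LK LD1_c7 LD2_c26 LD3_c8)) = (LP (LK LD1_c14 LD2_c3 LD3_c22)) :=
  Lre_e IH (LK LD1_c7 LD2_c26 LD3_c8) (LK LD1_c14 LD2_c3 LD3_c22) Lrfl Lrfl
theorem f470860 : Led Lsl_af (LP (LK LD1_c7 LD2_c54 LD3_c58)) = (LP (LK LD1_c14 LD2_c3 LD3_c22)) :=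
  Lgr Lrot50 (Lpr_et (f451638 IH) (Lpr_at (f470855 IH) (Lpr_et (f470859 IH) (Lpn (LP (LK LD1_c14 LD2_c3 LD3_c22))))))
theorem f451656 : Led Lsl_ft (LP (LK LD1_c7 LD2_c54 LD3_c58)) = (LP (LK LD1_c14 LD2_c55 LD3_c59)) :=
  Lre_f IH (LK LD1_c7 LD2_c54 LD3_c58) (LK LD1_c14 LD2_c55 LD3_c59) Lrfl Lrfl
theorem f470872 : Led Lsl_at (LP (LK LD1_c14 LD2_c55 LD3_c59)) = (LP (LK LD1_c23 LD2_c36 LD3_c28)) :=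
  Lgr Lrot66 (Lpe (f451656 IH) (Lpr_af (f470860 IH) (Lpe (f470871 IH) (Lpn (LP (LK LD1_c23 LD2_c36 LD3_c28))))))
theorem f451639 : Led Lsl_ft (LP (LK LD1_c14 LD2_c55 LD3_c59)) = (LP (LK LD1_c7 LD2_c54 LD3_c58)) :=
  Lre_f IH (LK LD1_c14 LD2_c55 LD3_c59) (LK LD1_c7 LD2_c54 LD3_c58) Lrfl Lrfl
theorem f451640 : Led Lsl_et (LP (LK LD1_c3 LD2_c56 LD3_c16)) = (LP (LK LD1_c7 LD2_c54 LD3_c13)) :=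
  Lre_e IH (LK LD1_c3 LD2_c56 LD3_c16) (LK LD1_c7 LD2_c54 LD3_c13) Lrfl Lrfl
theorem f451641 : Led Lsl_ft (LP (LK LD1_c7 LD2_c54 LD3_c13)) = (LP (LK LD1_c14 LD2_c54 LD3_c35)) :=
  Lre_f IH (LK LD1_c7 LD2_c54 LD3_c13) (LK LD1_c14 LD2_c54 LD3_c35) Lrfl Lrfl
theorem f451642 : Led Lsl_ef (LP (LK LD1_c14 LD2_c55 LD3_c59)) = (LP (LK LD1_c14 LD2_c54 LD3_c35)) :=
  Lgr Lrot21 (Lpr_ft (f451639 IH) (Lpr_et (f451638 IH) (Lpr_ft (K28.f451627 IH) (Lpr_et (f451640 IH) (Lpr_ft (f451641 IH) (Lpn (LP (LK LD1_c14 LD2_c54 LD3_c35))))))))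
theorem f471592 : Led Lsl_af (LP (LK LD1_c14 LD2_c54 LD3_c35)) = (LP (LK LD1_c23 LD2_c23 LD3_c44)) :=
  Lgr Lrot50 (Lpe (f451642 IH) (Lpr_at (f470872 IH) (Lpr_et (f471590 IH) (Lpn (LP (LK LD1_c23 LD2_c23 LD3_c44))))))
theorem f451658 : Led Lsl_ft (LP (LK LD1_c14 LD2_c54 LD3_c35)) = (LP (LK LD1_c7 LD2_c54 LD3_c13)) :=
  Lre_f IH (LK LD1_c14 LD2_c54 LD3_c35) (LK LD1_c7 LD2_c54 LD3_c13) Lrfl Lrfl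
theorem f471594 : Led Lsl_at (LP (LK LD1_c7 LD2_c54 LD3_c13)) = (LP (LK LD1_c13 LD2_c53 LD3_c30)) :=
  Lgr Lrot66 (Lpe (f451658 IH) (Lpr_af (f471592 IH) (Lpe (f471357 IH) (Lpn (LP (LK LD1_c13 LD2_c53 LD3_c30))))))
theorem f455758 : Led Lsl_bt (LP (LK LD1_c7 LD2_c4 LD3_c57)) = (LP (LK LD1_c3 LD2_c31 LD3_c41)) :=
  Lre_b IH (LK LD1_c7 LD2_c4 LD3_c57) (LK LD1_c3 LD2_c31 LD3_c41) Lrfl Lrfl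
theorem f439571 : Led Lsl_gt (LP (LK LD1_c3 LD2_c43 LD3_c37)) = (LP (LK LD1_c7 LD2_c27 LD3_c47)) :=
  Lre_g IH (LK LD1_c3 LD2_c43 LD3_c37) (LK LD1_c7 LD2_c27 LD3_c47) Lrfl Lrfl
theorem f108272 : Led Lsl_gt (LP (LK LD1_c13 LD2_c38 LD3_c12)) = (LP (LK LD1_c7 LD2_c12 LD3_c6)) :=
  Lre_g IH (LK LD1_c13 LD2_c38 LD3_c12) (LK LD1_c7 LD2_c12 LD3_c6) Lrfl Lrfl
theorem f469272 : Led Lsl_ct (LP (LK LD1_c7 LD2_c27 LD3_c47)) = (LP (LK LD1_c13 LD2_c38 LD3_c12)) :=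
  Lgr Lrot91 (Lpe (f439571 IH) (Lpe (K28.f131710 IH) (Lpr_ct (K5.f131744 IH) (Lpr_gf (K28.f459478 IH) (Lpqs (K28.f464333 IH) (Lpe (K24.f455661 IH) (Lpr_bt (K28.f458442 IH) (Lpe (K28.f455599 IH) (Lpe (f455758 IH) (Lpr_ct (K28.f469259 IH) (Lpe (f108272 IH) (Lpn (LP (LK LD1_c13 LD2_c38 LD3_c12))))))))))))))
theorem f159664 : Led Lsl_dt (LP (LK LD1_c3 LD2_c43 LD3_c37)) = (LP (LK LD1_c7 LD2_c27 LD3_c49)) :=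
  Lre_d IH (LK LD1_c3 LD2_c43 LD3_c37) (LK LD1_c7 LD2_c27 LD3_c49) Lrfl Lrfl
theorem f464364 : Led Lsl_gt (LP (LK LD1_c7 LD2_c27 LD3_c49)) = (LP (LK LD1_c14 LD2_c5 LD3_c22)) :=
  Lre_g IH (LK LD1_c7 LD2_c27 LD3_c49) (LK LD1_c14 LD2_c5 LD3_c22) Lrfl Lrfl
theorem f464365 : Led Lsl_ct (LP (LK LD1_c14 LD2_c5 LD3_c22)) = (LP (LK LD1_c23 LD2_c38 LD3_c34)) :=
  Lre_c IH (LK LD1_c14 LD2_c5 LD3_c22) (LK LD1_c23 LD2_c38 LD3_c34) Lrfl Lrfl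
theorem f469156 : Led Lsl_ct (LP (LK LD1_c22 LD2_c44 LD3_c32)) = (LP (LK LD1_c13 LD2_c25 LD3_c32)) :=
  Lre_c IH (LK LD1_c22 LD2_c44 LD3_c32) (LK LD1_c13 LD2_c25 LD3_c32) Lrfl Lrfl
theorem f469282 : Led Lsl_gt (LP (LK LD1_c23 LD2_c38 LD3_c34)) = (LP (LK LD1_c22 LD2_c44 LD3_c32)) :=
  Lgr Lrot150 (Lpe (f464365 IH) (Lpe (f464364 IH) (Lpe (f159664 IH) (Lpr_gt (f439571 IH) (Lpr_ct (f469272 IH) (Lpr_gt (f108272 IH) (Lpe (K28.f469251 IH) (Lpe (K28.f469239 IH) (Lpe (f469156 IH) (Lpn (LP (LK LD1_c22 LD2_c44 LD3_c32))))))))))))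
theorem f131786 : Led Lsl_bt (LP (LK LD1_c3 LD2_c43 LD3_c41)) = (LP (LK LD1_c7 LD2_c27 LD3_c49)) :=
  Lre_b IH (LK LD1_c3 LD2_c43 LD3_c41) (LK LD1_c7 LD2_c27 LD3_c49) Lrfl Lrfl
theorem f131791 : Led Lsl_ct (LP (LK LD1_c3 LD2_c43 LD3_c41)) = (LP (LK LD1_c7 LD2_c28 LD3_c1)) :=
  Lre_c IH (LK LD1_c3 LD2_c43 LD3_c41) (LK LD1_c7 LD2_c28 LD3_c1) Lrfl Lrfl
theorem f131931 : Led Lsl_gt (LP (LK LD1_c14 LD2_c5 LD3_c51)) = (LP (LK LD1_c7 LD2_c28 LD3_c1)) :=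
  Lre_g IH (LK LD1_c14 LD2_c5 LD3_c51) (LK LD1_c7 LD2_c28 LD3_c1) Lrfl Lrfl
theorem f147150 : Led Lsl_ft (LP (LK LD1_c7 LD2_c23 LD3_c18)) = (LP (LK LD1_c3 LD2_c41 LD3_c23)) :=
  Lre_f IH (LK LD1_c7 LD2_c23 LD3_c18) (LK LD1_c3 LD2_c41 LD3_c23) Lrfl Lrfl
theorem f130740 : Led Lsl_gt (LP (LK LD1_c7 LD2_c28 LD3_c48)) = (LP (LK LD1_c3 LD2_c43 LD3_c60)) :=
  Lre_g IH (LK LD1_c7 LD2_c28 LD3_c48) (LK LD1_c3 LD2_c43 LD3_c60) Lrfl Lrfl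
theorem f147151 : Led Lsl_gt (LP (LK LD1_c7 LD2_c23 LD3_c18)) = (LP (LK LD1_c7 LD2_c28 LD3_c48)) :=
  Lgr Lrot5 (Lpr_ft (f147150 IH) (Lpr_at (K8.f147096 IH) (Lpe (f130740 IH) (Lpn (LP (LK LD1_c7 LD2_c28 LD3_c48))))))
theorem f131746 : Led Lsl_ct (LP (LK LD1_c7 LD2_c28 LD3_c1)) = (LP (LK LD1_c3 LD2_c43 LD3_c41)) :=
  Lre_c IH (LK LD1_c7 LD2_c28 LD3_c1) (LK LD1_c3 LD2_c43 LD3_c41) Lrfl Lrfl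
theorem f464336 : Led Lsl_ct (LP (LK LD1_c7 LD2_c28 LD3_c48)) = (LP (LK LD1_c14 LD2_c5 LD3_c51)) :=
  Lgr Lrot152 (Lpe (f147151 IH) (Lpe (K8.f146934 IH) (Lpe (K28.f461794 IH) (Lpr_ct (K24.f455661 IH) (Lpq (K28.f464333 IH) (Lpe (K28.f459478 IH) (Lpr_ct (K28.f131709 IH) (Lpe (K5.f131745 IH) (Lpe (f131746 IH) (Lpe (f131931 IH) (Lpn (LP (LK LD1_c14 LD2_c5 LD3_c51)))))))))))))
theorem f469157 : Led Lsl_ct (LP (LK LD1_c13 LD2_c25 LD3_c32)) = (LP (LK LD1_c22 LD2_c44 LD3_c32)) :=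
  Lre_c IH (LK LD1_c13 LD2_c25 LD3_c32) (LK LD1_c22 LD2_c44 LD3_c32) Lrfl Lrfl
theorem f469155 : Led Lsl_bt (LP (LK LD1_c13 LD2_c25 LD3_c32)) = (LP (LK LD1_c7 LD2_c4 LD3_c58)) :=
  Lre_b IH (LK LD1_c13 LD2_c25 LD3_c32) (LK LD1_c7 LD2_c4 LD3_c58) Lrfl Lrfl
theorem f469319 : Led Lsl_bt (LP (LK LD1_c7 LD2_c28 LD3_c48)) = (LP (LK LD1_c3 LD2_c56 LD3_c23)) :=
  Lgr Lrot92 (Lpr_ct (f464336 IH) (Lpr_gt (f131931 IH) (Lpe (f131791 IH) (Lpr_bt (f131786 IH) (Lpr_gt (f464364 IH) (Lpr_ct (f464365 IH) (Lpr_gt (f469282 IH) (Lpe (f469157 IH) (Lpr_bt (f469155 IH) (Lpr_gt (K28.f469151 IH) (Lpn (LP (LK LD1_c3 LD2_c56 LD3_c23)))))))))))))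
theorem f147155 : Led Lsl_et (LP (LK LD1_c14 LD2_c7 LD3_c14)) = (LP (LK LD1_c7 LD2_c28 LD3_c48)) :=
  Lre_e IH (LK LD1_c14 LD2_c7 LD3_c14) (LK LD1_c7 LD2_c28 LD3_c48) Lrfl Lrfl
theorem f451962 : Led Lsl_et (LP (LK LD1_c3 LD2_c56 LD3_c23)) = (LP (LK LD1_c7 LD2_c54 LD3_c26)) :=
  Lre_e IH (LK LD1_c3 LD2_c56 LD3_c23) (LK LD1_c7 LD2_c54 LD3_c26) Lrfl Lrfl
theorem f469326 : Led Lsl_bf (LP (LK LD1_c14 LD2_c7 LD3_c14)) = (LP (LK LD1_c7 LD2_c54 LD3_c26)) :=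
  Lgr Lrot96 (Lpr_et (f147155 IH) (Lpr_bt (f469319 IH) (Lpr_et (f451962 IH) (Lpn (LP (LK LD1_c7 LD2_c54 LD3_c26))))))
theorem f469343 : Led Lsl_dt (LP (LK LD1_c3 LD2_c56 LD3_c20)) = (LP (LK LD1_c7 LD2_c54 LD3_c26)) :=
  Lre_d IH (LK LD1_c3 LD2_c56 LD3_c20) (LK LD1_c7 LD2_c54 LD3_c26) Lrfl Lrfl
theorem f469344 : Led Lsl_bt (LP (LK LD1_c7 LD2_c54 LD3_c13)) = (LP (LK LD1_c3 LD2_c56 LD3_c20)) :=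
  Lre_b IH (LK LD1_c7 LD2_c54 LD3_c13) (LK LD1_c3 LD2_c56 LD3_c20) Lrfl Lrfl
theorem f469345 : Led Lsl_dt (LP (LK LD1_c14 LD2_c7 LD3_c14)) = (LP (LK LD1_c7 LD2_c54 LD3_c13)) :=
  Lgr Lrot79 (Lpr_bf (f469326 IH) (Lpe (f469343 IH) (Lpe (f469344 IH) (Lpn (LP (LK LD1_c7 LD2_c54 LD3_c13))))))
theorem f11690 : Led Lsl_dt (LP (LK LD1_c3 LD2_c55 LD3_c6)) = (LP (LK LD1_c7 LD2_c51 LD3_c54)) :=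
  Lre_d IH (LK LD1_c3 LD2_c55 LD3_c6) (LK LD1_c7 LD2_c51 LD3_c54) Lrfl Lrfl
theorem f144426 : Led Lsl_dt (LP (LK LD1_c3 LD2_c41 LD3_c23)) = (LP (LK LD1_c1 LD2_c47 LD3_c37)) :=
  Lre_d IH (LK LD1_c3 LD2_c41 LD3_c23) (LK LD1_c1 LD2_c47 LD3_c37) Lrfl Lrfl
theorem f146928 : Led Lsl_dt (LP (LK LD1_c1 LD2_c49 LD3_c2)) = (LP (LK LD1_c3 LD2_c43 LD3_c60)) :=
  Lre_d IH (LK LD1_c1 LD2_c49 LD3_c2) (LK LD1_c3 LD2_c43 LD3_c60) Lrfl Lrfl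
theorem f146929 : Led Lsl_af (LP (LK LD1_c3 LD2_c41 LD3_c23)) = (LP (LK LD1_c3 LD2_c43 LD3_c60)) :=
  Lgr Lrot117 (Lpr_dt (f144426 IH) (Lpr_at (K8.f146918 IH) (Lpr_dt (f146928 IH) (Lpn (LP (LK LD1_c3 LD2_c43 LD3_c60))))))
theorem f147426 : Led Lsl_gt (LP (LK LD1_c7 LD2_c23 LD3_c16)) = (LP (LK LD1_c3 LD2_c41 LD3_c23)) :=
  Lre_g IH (LK LD1_c7 LD2_c23 LD3_c16) (LK LD1_c3 LD2_c41 LD3_c23) Lrfl Lrfl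
theorem f130751 : Led Lsl_ft (LP (LK LD1_c7 LD2_c28 LD3_c50)) = (LP (LK LD1_c3 LD2_c43 LD3_c60)) :=
  Lre_f IH (LK LD1_c7 LD2_c28 LD3_c50) (LK LD1_c3 LD2_c43 LD3_c60) Lrfl Lrfl
theorem f147427 : Led Lsl_gf (LP (LK LD1_c7 LD2_c23 LD3_c16)) = (LP (LK LD1_c7 LD2_c28 LD3_c50)) :=
  Lgr Lrot47 (Lpr_gt (f147426 IH) (Lpr_af (f146929 IH) (Lpe (f130751 IH) (Lpn (LP (LK LD1_c7 LD2_c28 LD3_c50))))))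
theorem f471331 : Led Lsl_et (LP (LK LD1_c7 LD2_c20 LD3_c46)) = (LP (LK LD1_c3 LD2_c40 LD3_c16)) :=
  Lre_e IH (LK LD1_c7 LD2_c20 LD3_c46) (LK LD1_c3 LD2_c40 LD3_c16) Lrfl Lrfl
theorem f471338 : Led Lsl_df (LP (LK LD1_c7 LD2_c23 LD3_c16)) = (LP (LK LD1_c7 LD2_c20 LD3_c46)) :=
  Lgr Lrot168 (Lpr_gf (f147427 IH) (Lpe (K28.f130744 IH) (Lpr_et (K28.f466442 IH) (Lpe (K28.f455623 IH) (Lpe (K28.f458261 IH) (Lpr_dt (K28.f458318 IH) (Lpe (K28.f463913 IH) (Lpe (f11690 IH) (Lpr_gf (K30.f471332 IH) (Lpe (f471331 IH) (Lpn (LP (LK LD1_c7 LD2_c20 LD3_c46)))))))))))))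
theorem f471349 : Led Lsl_et (LP (LK LD1_c7 LD2_c23 LD3_c16)) = (LP (LK LD1_c13 LD2_c58 LD3_c9)) :=
  Lre_e IH (LK LD1_c7 LD2_c23 LD3_c16) (LK LD1_c13 LD2_c58 LD3_c9) Lrfl Lrfl
theorem f471321 : Led Lsl_et (LP (LK LD1_c3 LD2_c40 LD3_c16)) = (LP (LK LD1_c7 LD2_c20 LD3_c46)) :=
  Lre_e IH (LK LD1_c3 LD2_c40 LD3_c16) (LK LD1_c7 LD2_c20 LD3_c46) Lrfl Lrfl
theorem f471350 : Led Lsl_et (LP (LK LD1_c13 LD2_c53 LD3_c30)) = (LP (LK LD1_c7 LD2_c20 LD3_c45)) :=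
  Lre_e IH (LK LD1_c13 LD2_c53 LD3_c30) (LK LD1_c7 LD2_c20 LD3_c45) Lrfl Lrfl
theorem f471351 : Led Lsl_dt (LP (LK LD1_c13 LD2_c58 LD3_c9)) = (LP (LK LD1_c13 LD2_c53 LD3_c30)) :=
  Lgr Lrot77 (Lpe (f471349 IH) (Lpr_df (f471338 IH) (Lpe (f471321 IH) (Lpe (f471302 IH) (Lpe (f471350 IH) (Lpn (LP (LK LD1_c13 LD2_c53 LD3_c30))))))))
theorem f471354 : Led Lsl_df (LP (LK LD1_c13 LD2_c58 LD3_c9)) = (LP (LK LD1_c13 LD2_c53 LD3_c30)) :=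
  Lgr Lrot38 (Lpr_dt (f471351 IH) (Lpn (LP (LK LD1_c13 LD2_c53 LD3_c30))))
theorem f471600 : Led Lsl_af (LP (LK LD1_c14 LD2_c7 LD3_c14)) = (LP (LK LD1_c13 LD2_c58 LD3_c9)) :=
  Lgr Lrot117 (Lpr_dt (f469345 IH) (Lpr_at (f471594 IH) (Lpe (f471354 IH) (Lpn (LP (LK LD1_c13 LD2_c58 LD3_c9))))))
theorem f471606 : Led Lsl_at (LP (LK LD1_c7 LD2_c28 LD3_c48)) = (LP (LK LD1_c7 LD2_c23 LD3_c16)) :=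
  Lgr Lrot80 (Lpe (f147155 IH) (Lpr_af (f471600 IH) (Lpe (f471349 IH) (Lpn (LP (LK LD1_c7 LD2_c23 LD3_c16))))))
theorem f469324 : Led Lsl_bf (LP (LK LD1_c7 LD2_c28 LD3_c48)) = (LP (LK LD1_c3 LD2_c56 LD3_c23)) :=
  Lgr Lrot24 (Lpr_bt (f469319 IH) (Lpn (LP (LK LD1_c3 LD2_c56 LD3_c23))))
theorem f470083 : Led Lsl_ft (LP (LK LD1_c7 LD2_c22 LD3_c59)) = (LP (LK LD1_c7 LD2_c29 LD3_c0)) :=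
  Lgr Lrot54 (Lpe (f462925 IH) (Lpe (f451912 IH) (Lpr_df (f470075 IH) (Lpn (LP (LK LD1_c7 LD2_c29 LD3_c0))))))
theorem f470100 : Led Lsl_af (LP (LK LD1_c3 LD2_c56 LD3_c23)) = (LP (LK LD1_c7 LD2_c29 LD3_c0)) :=
  Lgr Lrot45 (Lpr_ft (K28.f451954 IH) (Lpr_at (K28.f462877 IH) (Lpr_ft (f470083 IH) (Lpn (LP (LK LD1_c7 LD2_c29 LD3_c0))))))
theorem f116153 : Led Lsl_bt (LP (LK LD1_c14 LD2_c7 LD3_c37)) = (LP (LK LD1_c7 LD2_c29 LD3_c0)) :=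
  Lre_b IH (LK LD1_c14 LD2_c7 LD3_c37) (LK LD1_c7 LD2_c29 LD3_c0) Lrfl Lrfl
theorem f471342 : Led Lsl_bt (LP (LK LD1_c7 LD2_c23 LD3_c16)) = (LP (LK LD1_c13 LD2_c58 LD3_c8)) :=
  Lre_b IH (LK LD1_c7 LD2_c23 LD3_c16) (LK LD1_c13 LD2_c58 LD3_c8) Lrfl Lrfl
theorem f471612 : Led Lsl_af (LP (LK LD1_c14 LD2_c7 LD3_c37)) = (LP (LK LD1_c13 LD2_c58 LD3_c8)) :=
  Lgr Lrot36 (Lpr_bt (f116153 IH) (Lpe (f470100 IH) (Lpe (f469324 IH) (Lpr_at (f471606 IH) (Lpr_bt (f471342 IH) (Lpn (LP (LK LD1_c13 LD2_c58 LD3_c8))))))))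
theorem f462917 : Led Lsl_bt (LP (LK LD1_c13 LD2_c57 LD3_c37)) = (LP (LK LD1_c7 LD2_c22 LD3_c59)) :=
  Lre_b IH (LK LD1_c13 LD2_c57 LD3_c37) (LK LD1_c7 LD2_c22 LD3_c59) Lrfl Lrfl
theorem f470066 : Led Lsl_bt (LP (LK LD1_c7 LD2_c29 LD3_c0)) = (LP (LK LD1_c14 LD2_c7 LD3_c37)) :=
  Lre_b IH (LK LD1_c7 LD2_c29 LD3_c0) (LK LD1_c14 LD2_c7 LD3_c37) Lrfl Lrfl
theorem f470102 : Led Lsl_ff (LP (LK LD1_c13 LD2_c57 LD3_c37)) = (LP (LK LD1_c14 LD2_c7 LD3_c37)) :=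
  Lgr Lrot25 (Lpr_bt (f462917 IH) (Lpr_ft (f470083 IH) (Lpr_bt (f470066 IH) (Lpn (LP (LK LD1_c14 LD2_c7 LD3_c37))))))
theorem f470106 : Led Lsl_ft (LP (LK LD1_c13 LD2_c57 LD3_c37)) = (LP (LK LD1_c14 LD2_c7 LD3_c37)) :=
  Lgr Lrot48 (Lpr_ff (f470102 IH) (Lpn (LP (LK LD1_c14 LD2_c7 LD3_c37))))
theorem f451922 : Led Lsl_bt (LP (LK LD1_c3 LD2_c56 LD3_c12)) = (LP (LK LD1_c7 LD2_c54 LD3_c3)) :=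
  Lre_b IH (LK LD1_c3 LD2_c56 LD3_c12) (LK LD1_c7 LD2_c54 LD3_c3) Lrfl Lrfl
theorem f462923 : Led Lsl_dt (LP (LK LD1_c7 LD2_c54 LD3_c3)) = (LP (LK LD1_c13 LD2_c57 LD3_c37)) :=
  Lgr Lrot79 (Lpe (f451922 IH) (Lpr_df (f462889 IH) (Lpe (f462917 IH) (Lpn (LP (LK LD1_c13 LD2_c57 LD3_c37))))))
theorem f11367 : Led Lsl_bt (LP (LK LD1_c3 LD2_c56 LD3_c11)) = (LP (LK LD1_c7 LD2_c54 LD3_c2)) :=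
  Lre_b IH (LK LD1_c3 LD2_c56 LD3_c11) (LK LD1_c7 LD2_c54 LD3_c2) Lrfl Lrfl
theorem f451930 : Led Lsl_bt (LP (LK LD1_c7 LD2_c54 LD3_c3)) = (LP (LK LD1_c3 LD2_c56 LD3_c12)) :=
  Lre_b IH (LK LD1_c7 LD2_c54 LD3_c3) (LK LD1_c3 LD2_c56 LD3_c12) Lrfl Lrfl
theorem f451931 : Led Lsl_ft (LP (LK LD1_c7 LD2_c54 LD3_c2)) = (LP (LK LD1_c7 LD2_c54 LD3_c3)) :=
  Lgr Lrot75 (Lpe (f11367 IH) (Lpr_ff (K28.f451925 IH) (Lpe (f451930 IH) (Lpn (LP (LK LD1_c7 LD2_c54 LD3_c3))))))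
theorem f470110 : Led Lsl_df (LP (LK LD1_c7 LD2_c54 LD3_c2)) = (LP (LK LD1_c14 LD2_c7 LD3_c37)) :=
  Lgr Lrot78 (Lpr_ft (f451931 IH) (Lpr_dt (f462923 IH) (Lpr_ft (f470106 IH) (Lpn (LP (LK LD1_c14 LD2_c7 LD3_c37))))))
theorem f471347 : Led Lsl_dt (LP (LK LD1_c7 LD2_c23 LD3_c16)) = (LP (LK LD1_c7 LD2_c20 LD3_c46)) :=
  Lgr Lrot42 (Lpr_df (f471338 IH) (Lpn (LP (LK LD1_c7 LD2_c20 LD3_c46))))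
theorem f147429 : Led Lsl_bt (LP (LK LD1_c13 LD2_c58 LD3_c8)) = (LP (LK LD1_c7 LD2_c23 LD3_c16)) :=
  Lre_b IH (LK LD1_c13 LD2_c58 LD3_c8) (LK LD1_c7 LD2_c23 LD3_c16) Lrfl Lrfl
theorem f471367 : Led Lsl_bt (LP (LK LD1_c7 LD2_c20 LD3_c46)) = (LP (LK LD1_c13 LD2_c53 LD3_c29)) :=
  Lre_b IH (LK LD1_c7 LD2_c20 LD3_c46) (LK LD1_c13 LD2_c53 LD3_c29) Lrfl Lrfl
theorem f471368 : Led Lsl_df (LP (LK LD1_c13 LD2_c58 LD3_c8)) = (LP (LK LD1_c13 LD2_c53 LD3_c29)) :=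
  Lgr Lrot12 (Lpr_bt (f147429 IH) (Lpr_dt (f471347 IH) (Lpr_bt (f471367 IH) (Lpn (LP (LK LD1_c13 LD2_c53 LD3_c29))))))
theorem f471618 : Led Lsl_at (LP (LK LD1_c7 LD2_c54 LD3_c2)) = (LP (LK LD1_c13 LD2_c53 LD3_c29)) :=
  Lgr Lrot51 (Lpr_df (f470110 IH) (Lpr_af (f471612 IH) (Lpr_df (f471368 IH) (Lpn (LP (LK LD1_c13 LD2_c53 LD3_c29))))))
theorem f451936 : Led Lsl_et (LP (LK LD1_c3 LD2_c56 LD3_c9)) = (LP (LK LD1_c7 LD2_c54 LD3_c2)) :=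
  Lre_e IH (LK LD1_c3 LD2_c56 LD3_c9) (LK LD1_c7 LD2_c54 LD3_c2) Lrfl Lrfl
theorem f471375 : Led Lsl_et (LP (LK LD1_c13 LD2_c53 LD3_c29)) = (LP (LK LD1_c7 LD2_c20 LD3_c44)) :=
  Lre_e IH (LK LD1_c13 LD2_c53 LD3_c29) (LK LD1_c7 LD2_c20 LD3_c44) Lrfl Lrfl
theorem f471624 : Led Lsl_af (LP (LK LD1_c3 LD2_c56 LD3_c9)) = (LP (LK LD1_c7 LD2_c20 LD3_c44)) :=
  Lgr Lrot50 (Lpr_et (f451936 IH) (Lpr_at (f471618 IH) (Lpr_et (f471375 IH) (Lpn (LP (LK LD1_c7 LD2_c20 LD3_c44))))))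
theorem f451847 : Led Lsl_bt (LP (LK LD1_c1 LD2_c54 LD3_c48)) = (LP (LK LD1_c3 LD2_c56 LD3_c9)) :=
  Lre_b IH (LK LD1_c1 LD2_c54 LD3_c48) (LK LD1_c3 LD2_c56 LD3_c9) Lrfl Lrfl
theorem f451855 : Led Lsl_bt (LP (LK LD1_c3 LD2_c56 LD3_c9)) = (LP (LK LD1_c1 LD2_c54 LD3_c48)) :=
  Lre_b IH (LK LD1_c3 LD2_c56 LD3_c9) (LK LD1_c1 LD2_c54 LD3_c48) Lrfl Lrfl
theorem f452025 : Led Lsl_ct (LP (LK LD1_c3 LD2_c56 LD3_c9)) = (LP (LK LD1_c3 LD2_c56 LD3_c9)) :=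
  Lgr Lrot83 (Lpe (f451847 IH) (Lpe (K28.f451813 IH) (Lpr_bf (K28.f452023 IH) (Lpe (K28.f451270 IH) (Lpe (f451855 IH) (Lpn (LP (LK LD1_c3 LD2_c56 LD3_c9))))))))
theorem f471628 : Led Lsl_at (LP (LK LD1_c3 LD2_c56 LD3_c9)) = (LP (LK LD1_c7 LD2_c20 LD3_c44)) :=
  Lgr Lrot100 (Lpr_af (f471624 IH) (Lpn (LP (LK LD1_c7 LD2_c20 LD3_c44))))
theorem f471630 : Led Lsl_ct (LP (LK LD1_c7 LD2_c20 LD3_c44)) = (LP (LK LD1_c7 LD2_c20 LD3_c44)) :=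
  Lgr Lrot111 (Lpe (f471628 IH) (Lpe (f452025 IH) (Lpr_af (f471624 IH) (Lpn (LP (LK LD1_c7 LD2_c20 LD3_c44))))))
theorem f470852 : Led Lsl_bt (LP (LK LD1_c7 LD2_c26 LD3_c7)) = (LP (LK LD1_c3 LD2_c42 LD3_c45)) :=
  Lre_b IH (LK LD1_c7 LD2_c26 LD3_c7) (LK LD1_c3 LD2_c42 LD3_c45) Lrfl Lrfl
theorem f203891 : Led Lsl_bt (LP (LK LD1_c3 LD2_c40 LD3_c16)) = (LP (LK LD1_c7 LD2_c20 LD3_c44)) :=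
  Lre_b IH (LK LD1_c3 LD2_c40 LD3_c16) (LK LD1_c7 LD2_c20 LD3_c44) Lrfl Lrfl
theorem f471316 : Led Lsl_ff (LP (LK LD1_c7 LD2_c26 LD3_c7)) = (LP (LK LD1_c7 LD2_c20 LD3_c44)) :=
  Lgr Lrot25 (Lpr_bt (f470852 IH) (Lpr_ft (K30.f471314 IH) (Lpr_bt (f203891 IH) (Lpn (LP (LK LD1_c7 LD2_c20 LD3_c44))))))
theorem f11376 : Led Lsl_bt (LP (LK LD1_c1 LD2_c54 LD3_c60)) = (LP (LK LD1_c3 LD2_c56 LD3_c31)) :=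
  Lre_b IH (LK LD1_c1 LD2_c54 LD3_c60) (LK LD1_c3 LD2_c56 LD3_c31) Lrfl Lrfl
theorem f470853 : Led Lsl_at (LP (LK LD1_c3 LD2_c56 LD3_c31)) = (LP (LK LD1_c7 LD2_c26 LD3_c7)) :=
  Lgr Lrot67 (Lpe (f11376 IH) (Lpe (K28.f11375 IH) (Lpe (K29.f451623 IH) (Lpr_af (K29.f470848 IH) (Lpe (f470852 IH) (Lpn (LP (LK LD1_c7 LD2_c26 LD3_c7))))))))
theorem f470887 : Led Lsl_af (LP (LK LD1_c3 LD2_c56 LD3_c31)) = (LP (LK LD1_c7 LD2_c26 LD3_c7)) :=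
  Lgr Lrot0 (Lpr_at (f470853 IH) (Lpn (LP (LK LD1_c7 LD2_c26 LD3_c7))))
theorem f451907 : Led Lsl_gt (LP (LK LD1_c7 LD2_c54 LD3_c46)) = (LP (LK LD1_c3 LD2_c56 LD3_c31)) :=
  Lre_g IH (LK LD1_c7 LD2_c54 LD3_c46) (LK LD1_c3 LD2_c56 LD3_c31) Lrfl Lrfl
theorem f471707 : Led Lsl_gf (LP (LK LD1_c7 LD2_c54 LD3_c46)) = (LP (LK LD1_c7 LD2_c20 LD3_c44)) :=
  Lgr Lrot47 (Lpr_gt (f451907 IH) (Lpr_af (f470887 IH) (Lpr_ff (f471316 IH) (Lpn (LP (LK LD1_c7 LD2_c20 LD3_c44))))))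
theorem f452043 : Led Lsl_ct (LP (LK LD1_c14 LD2_c55 LD3_c32)) = (LP (LK LD1_c7 LD2_c54 LD3_c46)) :=
  Lre_c IH (LK LD1_c14 LD2_c55 LD3_c32) (LK LD1_c7 LD2_c54 LD3_c46) Lrfl Lrfl
theorem f462812 : Led Lsl_gt (LP (LK LD1_c7 LD2_c25 LD3_c27)) = (LP (LK LD1_c14 LD2_c2 LD3_c24)) :=
  Lre_g IH (LK LD1_c7 LD2_c25 LD3_c27) (LK LD1_c14 LD2_c2 LD3_c24) Lrfl Lrfl
theorem f451838 : Led Lsl_bt (LP (LK LD1_c3 LD2_c56 LD3_c31)) = (LP (LK LD1_c1 LD2_c54 LD3_c60)) :=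
  Lre_b IH (LK LD1_c3 LD2_c56 LD3_c31) (LK LD1_c1 LD2_c54 LD3_c60) Lrfl Lrfl
theorem f452033 : Led Lsl_cf (LP (LK LD1_c3 LD2_c56 LD3_c31)) = (LP (LK LD1_c3 LD2_c56 LD3_c31)) :=
  Lgr Lrot97 (Lpr_bt (f451838 IH) (Lpr_ct (K28.f11357 IH) (Lpr_bt (K28.f452031 IH) (Lpr_ct (K28.f11371 IH) (Lpr_bt (f11376 IH) (Lpn (LP (LK LD1_c3 LD2_c56 LD3_c31))))))))
theorem f464642 : Led Lsl_bf (LP (LK LD1_c14 LD2_c2 LD3_c24)) = (LP (LK LD1_c14 LD2_c55 LD3_c32)) :=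
  Lgr Lrot34 (Lpe (f462812 IH) (Lpe (K28.f462797 IH) (Lpe (K28.f462800 IH) (Lpr_gf (K28.f464636 IH) (Lpr_cf (K28.f142708 IH) (Lpe (K28.f462868 IH) (Lpe (f451838 IH) (Lpe (f452033 IH) (Lpe (f451907 IH) (Lpe (f452043 IH) (Lpn (LP (LK LD1_c14 LD2_c55 LD3_c32)))))))))))))
theorem f492600 : Led Lsl_ct (LP (LK LD1_c13 LD2_c13 LD3_c1)) = (LP (LK LD1_c6 LD2_c57 LD3_c47)) :=
  Lre_c IH (LK LD1_c13 LD2_c13 LD3_c1) (LK LD1_c6 LD2_c57 LD3_c47) Lrfl Lrfl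
theorem f492614 : Led Lsl_gt (LP (LK LD1_c14 LD2_c2 LD3_c24)) = (LP (LK LD1_c13 LD2_c13 LD3_c1)) :=
  Lgr Lrot82 (Lpr_bf (f464642 IH) (Lpr_ct (f452043 IH) (Lpr_gf (f471707 IH) (Lpe (f471630 IH) (Lpr_bt (f471326 IH) (Lpe (f471334 IH) (Lpe (K28.f95860 IH) (Lpe (K5.f126455 IH) (Lpr_gf (f492608 IH) (Lpe (f492600 IH) (Lpn (LP (LK LD1_c13 LD2_c13 LD3_c1)))))))))))))
theorem f492618 : Led Lsl_at (LP (LK LD1_c6 LD2_c57 LD3_c39)) = (LP (LK LD1_c13 LD2_c13 LD3_c1)) :=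
  Lre_a IH (LK LD1_c6 LD2_c57 LD3_c39) (LK LD1_c13 LD2_c13 LD3_c1) Lrfl Lrfl
theorem f492619 : Led Lsl_ft (LP (LK LD1_c7 LD2_c25 LD3_c27)) = (LP (LK LD1_c6 LD2_c57 LD3_c39)) :=
  Lgr Lrot2 (Lpr_gt (f462812 IH) (Lpr_gt (f492614 IH) (Lpe (f492618 IH) (Lpn (LP (LK LD1_c6 LD2_c57 LD3_c39))))))
theorem f492627 : Led Lsl_ff (LP (LK LD1_c7 LD2_c25 LD3_c27)) = (LP (LK LD1_c6 LD2_c57 LD3_c39)) :=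
  Lgr Lrot3 (Lpr_ft (f492619 IH) (Lpn (LP (LK LD1_c6 LD2_c57 LD3_c39))))
theorem f462823 : Led Lsl_dt (LP (LK LD1_c7 LD2_c25 LD3_c27)) = (LP (LK LD1_c14 LD2_c2 LD3_c26)) :=
  Lre_d IH (LK LD1_c7 LD2_c25 LD3_c27) (LK LD1_c14 LD2_c2 LD3_c26) Lrfl Lrfl
theorem f468881 : Led Lsl_dt (LP (LK LD1_c13 LD2_c13 LD3_c2)) = (LP (LK LD1_c6 LD2_c57 LD3_c39)) :=
  Lre_d IH (LK LD1_c13 LD2_c13 LD3_c2) (LK LD1_c6 LD2_c57 LD3_c39) Lrfl Lrfl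
theorem f492632 : Led Lsl_ft (LP (LK LD1_c14 LD2_c2 LD3_c26)) = (LP (LK LD1_c13 LD2_c13 LD3_c2)) :=
  Lgr Lrot54 (Lpe (f462823 IH) (Lpr_ff (f492627 IH) (Lpe (f468881 IH) (Lpn (LP (LK LD1_c13 LD2_c13 LD3_c2))))))
theorem f464653 : Led Lsl_bt (LP (LK LD1_c7 LD2_c25 LD3_c28)) = (LP (LK LD1_c14 LD2_c2 LD3_c26)) :=
  Lre_b IH (LK LD1_c7 LD2_c25 LD3_c28) (LK LD1_c14 LD2_c2 LD3_c26) Lrfl Lrfl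
theorem f462770 : Led Lsl_bt (LP (LK LD1_c13 LD2_c13 LD3_c2)) = (LP (LK LD1_c6 LD2_c57 LD3_c40)) :=
  Lre_b IH (LK LD1_c13 LD2_c13 LD3_c2) (LK LD1_c6 LD2_c57 LD3_c40) Lrfl Lrfl
theorem f492634 : Led Lsl_ff (LP (LK LD1_c7 LD2_c25 LD3_c28)) = (LP (LK LD1_c6 LD2_c57 LD3_c40)) :=
  Lgr Lrot25 (Lpr_bt (f464653 IH) (Lpr_ft (f492632 IH) (Lpr_bt (f462770 IH) (Lpn (LP (LK LD1_c6 LD2_c57 LD3_c40))))))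
theorem f492640 : Led Lsl_at (LP (LK LD1_c7 LD2_c25 LD3_c28)) = (LP (LK LD1_c7 LD2_c21 LD3_c18)) :=
  Lgr Lrot26 (Lpr_ff (f492634 IH) (Lpr_gt (f458171 IH) (Lpr_gt (f470117 IH) (Lpn (LP (LK LD1_c7 LD2_c21 LD3_c18))))))
theorem f492646 : Led Lsl_af (LP (LK LD1_c3 LD2_c42 LD3_c22)) = (LP (LK LD1_c3 LD2_c40 LD3_c34)) :=
  Lgr Lrot117 (Lpr_dt (f108148 IH) (Lpr_at (f492640 IH) (Lpr_dt (f129180 IH) (Lpn (LP (LK LD1_c3 LD2_c40 LD3_c34))))))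
theorem f492654 : Led Lsl_ft (LP (LK LD1_c3 LD2_c42 LD3_c23)) = (LP (LK LD1_c3 LD2_c40 LD3_c34)) :=
  Lgr Lrot2 (Lpr_gt (f26211 IH) (Lpr_gt (K28.f26210 IH) (Lpr_af (f492646 IH) (Lpn (LP (LK LD1_c3 LD2_c40 LD3_c34))))))
theorem f492662 : Led Lsl_ff (LP (LK LD1_c3 LD2_c42 LD3_c23)) = (LP (LK LD1_c3 LD2_c40 LD3_c34)) :=
  Lgr Lrot3 (Lpr_ft (f492654 IH) (Lpn (LP (LK LD1_c3 LD2_c40 LD3_c34))))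
theorem f492670 : Led Lsl_ft (LP (LK LD1_c7 LD2_c25 LD3_c30)) = (LP (LK LD1_c7 LD2_c21 LD3_c18)) :=
  Lgr Lrot54 (Lpe (f459382 IH) (Lpr_ff (f492662 IH) (Lpe (f129180 IH) (Lpn (LP (LK LD1_c7 LD2_c21 LD3_c18))))))
theorem f492642 : Led Lsl_af (LP (LK LD1_c7 LD2_c25 LD3_c28)) = (LP (LK LD1_c7 LD2_c21 LD3_c18)) :=
  Lgr Lrot0 (Lpr_at (f492640 IH) (Lpn (LP (LK LD1_c7 LD2_c21 LD3_c18))))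
theorem f492638 : Led Lsl_ft (LP (LK LD1_c7 LD2_c25 LD3_c28)) = (LP (LK LD1_c6 LD2_c57 LD3_c40)) :=
  Lgr Lrot48 (Lpr_ff (f492634 IH) (Lpn (LP (LK LD1_c6 LD2_c57 LD3_c40))))
theorem f492672 : Led Lsl_af (LP (LK LD1_c7 LD2_c25 LD3_c30)) = (LP (LK LD1_c6 LD2_c57 LD3_c40)) :=
  Lgr Lrot45 (Lpr_ft (f492670 IH) (Lpe (f492642 IH) (Lpr_ft (f492638 IH) (Lpn (LP (LK LD1_c6 LD2_c57 LD3_c40))))))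
theorem f493137 : Led Lsl_gf (LP (LK LD1_c7 LD2_c25 LD3_c30)) = (LP (LK LD1_c7 LD2_c30 LD3_c10)) :=
  Lgr Lrot76 (Lpr_af (f492672 IH) (Lpe (f492638 IH) (Lpe (f483844 IH) (Lpn (LP (LK LD1_c7 LD2_c30 LD3_c10))))))
theorem f102868 : Led Lsl_ff (LP (LK LD1_c1 LD2_c39 LD3_c37)) = (LP (LK LD1_c1 LD2_c48 LD3_c50)) :=
  Lgr Lrot25 (Lpr_bt (K5.f98614 IH) (Lpr_ft (K4.f102863 IH) (Lpr_bt (K4.f12824 IH) (Lpn (LP (LK LD1_c1 LD2_c48 LD3_c50))))))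
theorem f102881 : Led Lsl_ft (LP (LK LD1_c1 LD2_c39 LD3_c37)) = (LP (LK LD1_c1 LD2_c48 LD3_c50)) :=
  Lgr Lrot48 (Lpr_ff (f102868 IH) (Lpn (LP (LK LD1_c1 LD2_c48 LD3_c50))))
theorem f483534 : Led Lsl_ff (LP (LK LD1_c3 LD2_c41 LD3_c47)) = (LP (LK LD1_c3 LD2_c43 LD3_c31)) :=
  Lgr Lrot3 (Lpr_ft (K29.f483526 IH) (Lpn (LP (LK LD1_c3 LD2_c43 LD3_c31))))
theorem f511485 : Led Lsl_et (LP (LK LD1_c3 LD2_c41 LD3_c47)) = (LP (LK LD1_c3 LD2_c44 LD3_c26)) :=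
  Lgr Lrot69 (Lpr_ff (f483534 IH) (Lpe (K4.f12776 IH) (Lpe (f102881 IH) (Lpe (K6.f12605 IH) (Lpr_ff (f511474 IH) (Lpn (LP (LK LD1_c3 LD2_c44 LD3_c26))))))))
theorem f148263 : Led Lsl_dt (LP (LK LD1_c13 LD2_c55 LD3_c8)) = (LP (LK LD1_c7 LD2_c21 LD3_c42)) :=
  Lre_d IH (LK LD1_c13 LD2_c55 LD3_c8) (LK LD1_c7 LD2_c21 LD3_c42) Lrfl Lrfl
theorem f483510 : Led Lsl_ft (LP (LK LD1_c7 LD2_c21 LD3_c47)) = (LP (LK LD1_c13 LD2_c55 LD3_c8)) :=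
  Lgr Lrot54 (Lpe (K29.f122495 IH) (Lpr_ff (K29.f483466 IH) (Lpe (f148263 IH) (Lpn (LP (LK LD1_c13 LD2_c55 LD3_c8))))))
theorem f483547 : Led Lsl_af (LP (LK LD1_c7 LD2_c24 LD3_c15)) = (LP (LK LD1_c13 LD2_c55 LD3_c8)) :=
  Lgr Lrot45 (Lpr_ft (K29.f483544 IH) (Lpr_at (K29.f137031 IH) (Lpr_ft (f483510 IH) (Lpn (LP (LK LD1_c13 LD2_c55 LD3_c8))))))
theorem f483658 : Led Lsl_gt (LP (LK LD1_c7 LD2_c24 LD3_c28)) = (LP (LK LD1_c7 LD2_c24 LD3_c15)) :=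
  Lgr Lrot46 (Lpr_gf (K29.f483648 IH) (Lpr_ft (f483510 IH) (Lpe (f483547 IH) (Lpn (LP (LK LD1_c7 LD2_c24 LD3_c15))))))
theorem f511495 : Led Lsl_et (LP (LK LD1_c3 LD2_c42 LD3_c23)) = (LP (LK LD1_c7 LD2_c24 LD3_c26)) :=
  Lgr Lrot121 (Lpr_dt (f459382 IH) (Lpr_gf (f493137 IH) (Lpe (f483776 IH) (Lpr_et (f483851 IH) (Lpr_gf (f511489 IH) (Lpe (f511485 IH) (Lpr_dt (K29.f4847 IH) (Lpe (f483658 IH) (Lpe (K29.f457172 IH) (Lpe (f468083 IH) (Lpn (LP (LK LD1_c7 LD2_c24 LD3_c26)))))))))))))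
theorem f464655 : Led Lsl_ct (LP (LK LD1_c7 LD2_c21 LD3_c18)) = (LP (LK LD1_c13 LD2_c54 LD3_c20)) :=
  Lre_c IH (LK LD1_c7 LD2_c21 LD3_c18) (LK LD1_c13 LD2_c54 LD3_c20) Lrfl Lrfl
theorem f492674 : Led Lsl_ff (LP (LK LD1_c14 LD2_c2 LD3_c30)) = (LP (LK LD1_c13 LD2_c54 LD3_c20)) :=
  Lgr Lrot23 (Lpr_ct (f462387 IH) (Lpr_ft (f492670 IH) (Lpr_ct (f464655 IH) (Lpn (LP (LK LD1_c13 LD2_c54 LD3_c20))))))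
theorem f480054 : Led Lsl_dt (LP (LK LD1_c13 LD2_c13 LD3_c5)) = (LP (LK LD1_c7 LD2_c5 LD3_c5)) :=
  Lgr Lrot42 (Lpr_df (f480050 IH) (Lpn (LP (LK LD1_c7 LD2_c5 LD3_c5))))
theorem f129167 : Led Lsl_dt (LP (LK LD1_c3 LD2_c40 LD3_c34)) = (LP (LK LD1_c7 LD2_c21 LD3_c18)) :=
  Lre_d IH (LK LD1_c3 LD2_c40 LD3_c34) (LK LD1_c7 LD2_c21 LD3_c18) Lrfl Lrfl
theorem f480487 : Led Lsl_gf (LP (LK LD1_c13 LD2_c13 LD3_c5)) = (LP (LK LD1_c7 LD2_c21 LD3_c18)) :=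
  Lgr Lrot143 (Lpr_dt (f480054 IH) (Lpe (f455754 IH) (Lpe (K29.f479642 IH) (Lpe (K24.f451253 IH) (Lpe (K24.f11382 IH) (Lpr_gf (K24.f451252 IH) (Lpqs (K28.f462396 IH) (Lpe (K28.f132101 IH) (Lpr_gt (K28.f129166 IH) (Lpr_dt (f129167 IH) (Lpn (LP (LK LD1_c7 LD2_c21 LD3_c18)))))))))))))
theorem f464656 : Led Lsl_ct (LP (LK LD1_c13 LD2_c54 LD3_c20)) = (LP (LK LD1_c7 LD2_c21 LD3_c18)) :=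
  Lre_c IH (LK LD1_c13 LD2_c54 LD3_c20) (LK LD1_c7 LD2_c21 LD3_c18) Lrfl Lrfl
theorem f480235 : Led Lsl_dt (LP (LK LD1_c7 LD2_c55 LD3_c1)) = (LP (LK LD1_c13 LD2_c24 LD3_c57)) :=
  Lgr Lrot42 (Lpr_df (f480229 IH) (Lpn (LP (LK LD1_c13 LD2_c24 LD3_c57))))
theorem f480489 : Led Lsl_gt (LP (LK LD1_c13 LD2_c54 LD3_c20)) = (LP (LK LD1_c7 LD2_c55 LD3_c1)) :=
  Lgr Lrot180 (Lpr_ct (f464656 IH) (Lpe (f480487 IH) (Lpr_dt (f480054 IH) (Lpr_gt (f455755 IH) (Lpr_dt (f463636 IH) (Lpr_ct (K28.f462671 IH) (Lpe (f468122 IH) (Lpr_gf (f468120 IH) (Lpe (f480235 IH) (Lpn (LP (LK LD1_c7 LD2_c55 LD3_c1))))))))))))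
theorem f492680 : Led Lsl_at (LP (LK LD1_c14 LD2_c2 LD3_c30)) = (LP (LK LD1_c13 LD2_c13 LD3_c6)) :=
  Lgr Lrot26 (Lpr_ff (f492674 IH) (Lpr_gt (f480489 IH) (Lpe (f469946 IH) (Lpn (LP (LK LD1_c13 LD2_c13 LD3_c6))))))
theorem f492684 : Led Lsl_af (LP (LK LD1_c13 LD2_c56 LD3_c5)) = (LP (LK LD1_c13 LD2_c57 LD3_c39)) :=
  Lgr Lrot117 (Lpr_dt (f469977 IH) (Lpr_at (f492680 IH) (Lpe (f464749 IH) (Lpn (LP (LK LD1_c13 LD2_c57 LD3_c39))))))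
theorem f492702 : Led Lsl_ft (LP (LK LD1_c13 LD2_c56 LD3_c8)) = (LP (LK LD1_c13 LD2_c57 LD3_c39)) :=
  Lgr Lrot2 (Lpr_gt (K28.f469644 IH) (Lpe (f469975 IH) (Lpr_af (f492684 IH) (Lpn (LP (LK LD1_c13 LD2_c57 LD3_c39))))))
theorem f492710 : Led Lsl_ff (LP (LK LD1_c13 LD2_c56 LD3_c8)) = (LP (LK LD1_c13 LD2_c57 LD3_c39)) :=
  Lgr Lrot3 (Lpr_ft (f492702 IH) (Lpn (LP (LK LD1_c13 LD2_c57 LD3_c39))))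
theorem f492714 : Led Lsl_ft (LP (LK LD1_c7 LD2_c22 LD3_c7)) = (LP (LK LD1_c7 LD2_c28 LD3_c24)) :=
  Lgr Lrot4 (Lpe (K28.f129182 IH) (Lpr_ff (f492710 IH) (Lpr_cf (f469924 IH) (Lpn (LP (LK LD1_c7 LD2_c28 LD3_c24))))))
theorem f479831 : Led Lsl_dt (LP (LK LD1_c7 LD2_c28 LD3_c24)) = (LP (LK LD1_c7 LD2_c52 LD3_c47)) :=
  Lgr Lrot113 (Lpe (f116549 IH) (Lpe (K28.f116548 IH) (Lpe (K28.f159497 IH) (Lpr_ct (K28.f463399 IH) (Lpr_gt (K28.f464585 IH) (Lpe (K5.f128065 IH) (Lpr_gt (K28.f128085 IH) (Lpr_dt (K32.f128087 IH) (Lpr_ct (K32.f479825 IH) (Lpn (LP (LK LD1_c7 LD2_c52 LD3_c47))))))))))))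
theorem f492718 : Led Lsl_ff (LP (LK LD1_c7 LD2_c21 LD3_c19)) = (LP (LK LD1_c7 LD2_c52 LD3_c47)) :=
  Lgr Lrot19 (Lpr_dt (K28.f129173 IH) (Lpr_ft (f492714 IH) (Lpr_dt (f479831 IH) (Lpn (LP (LK LD1_c7 LD2_c52 LD3_c47))))))
theorem f89664 : Led Lsl_gt (LP (LK LD1_c1 LD2_c51 LD3_c24)) = (LP (LK LD1_c0 LD2_c52 LD3_c32)) :=
  Lre_g IH (LK LD1_c1 LD2_c51 LD3_c24) (LK LD1_c0 LD2_c52 LD3_c32) Lrfl Lrfl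
theorem f484525 : Led Lsl_ct (LP (LK LD1_c3 LD2_c26 LD3_c22)) = (LP (LK LD1_c1 LD2_c51 LD3_c24)) :=
  Lgr Lrot64 (Lpr_bt (f484524 IH) (Lpr_gf (f484518 IH) (Lpr_bf (f484299 IH) (Lpr_ct (f478873 IH) (Lpe (f484514 IH) (Lpr_cf (f484130 IH) (Lpe (K29.f97551 IH) (Lpe (K2.f87677 IH) (Lpr_ct (K2.f62710 IH) (Lpe (f89664 IH) (Lpn (LP (LK LD1_c1 LD2_c51 LD3_c24)))))))))))))
theorem f484531 : Led Lsl_cf (LP (LK LD1_c3 LD2_c26 LD3_c22)) = (LP (LK LD1_c1 LD2_c51 LD3_c24)) :=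
  Lgr Lrot11 (Lpr_ct (f484525 IH) (Lpn (LP (LK LD1_c1 LD2_c51 LD3_c24))))
theorem f84955 : Led Lsl_ft (LP (LK LD1_c3 LD2_c50 LD3_c12)) = (LP (LK LD1_c1 LD2_c52 LD3_c1)) :=
  Lre_f IH (LK LD1_c3 LD2_c50 LD3_c12) (LK LD1_c1 LD2_c52 LD3_c1) Lrfl Lrfl
theorem f440833 : Led Lsl_gt (LP (LK LD1_c3 LD2_c50 LD3_c12)) = (LP (LK LD1_c3 LD2_c26 LD3_c22)) :=
  Lgr Lrot5 (Lpr_ft (f84955 IH) (Lpr_at (f117343 IH) (Lpe (f15114 IH) (Lpn (LP (LK LD1_c3 LD2_c26 LD3_c22))))))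
theorem f84947 : Led Lsl_ct (LP (LK LD1_c1 LD2_c52 LD3_c5)) = (LP (LK LD1_c3 LD2_c50 LD3_c12)) :=
  Lre_c IH (LK LD1_c1 LD2_c52 LD3_c5) (LK LD1_c3 LD2_c50 LD3_c12) Lrfl Lrfl
theorem f10149 : Led Lsl_ct (LP (LK LD1_c1 LD2_c45 LD3_c52)) = (LP (LK LD1_c0 LD2_c49 LD3_c34)) :=
  Lre_c IH (LK LD1_c1 LD2_c45 LD3_c52) (LK LD1_c0 LD2_c49 LD3_c34) Lrfl Lrfl
theorem f95054 : Led Lsl_ct (LP (LK LD1_c1 LD2_c40 LD3_c4)) = (LP (LK LD1_c0 LD2_c46 LD3_c34)) :=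
  Lre_c IH (LK LD1_c1 LD2_c40 LD3_c4) (LK LD1_c0 LD2_c46 LD3_c34) Lrfl Lrfl
theorem f484529 : Led Lsl_bt (LP (LK LD1_c1 LD2_c51 LD3_c24)) = (LP (LK LD1_c3 LD2_c48 LD3_c49)) :=
  Lre_b IH (LK LD1_c1 LD2_c51 LD3_c24) (LK LD1_c3 LD2_c48 LD3_c49) Lrfl Lrfl
theorem f484761 : Led Lsl_gf (LP (LK LD1_c3 LD2_c26 LD3_c50)) = (LP (LK LD1_c3 LD2_c48 LD3_c49)) :=
  Lgr Lrot124 (Lpe (K29.f136543 IH) (Lpr_ct (f95054 IH) (Lpq (K29.f476756 IH) (Lpe (K29.f456883 IH) (Lpe (f10149 IH) (Lpe (K29.f456649 IH) (Lpr_gt (K29.f482301 IH) (Lpr_ct (f84947 IH) (Lpr_gt (f440833 IH) (Lpr_cf (f484531 IH) (Lpr_bt (f484529 IH) (Lpn (LP (LK LD1_c3 LD2_c48 LD3_c49))))))))))))))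
theorem f476765 : Led Lsl_ct (LP (LK LD1_c6 LD2_c55 LD3_c14)) = (LP (LK LD1_c3 LD2_c26 LD3_c50)) :=
  Lre_c IH (LK LD1_c6 LD2_c55 LD3_c14) (LK LD1_c3 LD2_c26 LD3_c50) Lrfl Lrfl
theorem f132225 : Led Lsl_bt (LP (LK LD1_c6 LD2_c55 LD3_c14)) = (LP (LK LD1_c3 LD2_c26 LD3_c42)) :=
  Lre_b IH (LK LD1_c6 LD2_c55 LD3_c14) (LK LD1_c3 LD2_c26 LD3_c42) Lrfl Lrfl
theorem f484538 : Led Lsl_gf (LP (LK LD1_c7 LD2_c20 LD3_c17)) = (LP (LK LD1_c3 LD2_c53 LD3_c60)) :=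
  Lgr Lrot126 (Lpr_cf (K5.f96351 IH) (Lpr_bt (K7.f84945 IH) (Lpr_gt (f440833 IH) (Lpr_ct (f484525 IH) (Lpr_gt (f89664 IH) (Lpe (K2.f62710 IH) (Lpr_bt (K2.f87677 IH) (Lpr_gt (K29.f97551 IH) (Lpe (K29.f483566 IH) (Lpr_ct (K29.f437668 IH) (Lpn (LP (LK LD1_c3 LD2_c53 LD3_c60)))))))))))))
theorem f4874 : Led Lsl_et (LP (LK LD1_c3 LD2_c41 LD3_c50)) = (LP (LK LD1_c1 LD2_c47 LD3_c47)) :=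
  Lre_e IH (LK LD1_c3 LD2_c41 LD3_c50) (LK LD1_c1 LD2_c47 LD3_c47) Lrfl Lrfl
theorem f4875 : Led Lsl_dt (LP (LK LD1_c3 LD2_c41 LD3_c50)) = (LP (LK LD1_c7 LD2_c24 LD3_c25)) :=
  Lre_d IH (LK LD1_c3 LD2_c41 LD3_c50) (LK LD1_c7 LD2_c24 LD3_c25) Lrfl Lrfl
theorem f4876 : Led Lsl_gt (LP (LK LD1_c14 LD2_c0 LD3_c49)) = (LP (LK LD1_c7 LD2_c24 LD3_c25)) :=
  Lre_g IH (LK LD1_c14 LD2_c0 LD3_c49) (LK LD1_c7 LD2_c24 LD3_c25) Lrfl Lrfl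
theorem f484540 : Led Lsl_dt (LP (LK LD1_c7 LD2_c25 LD3_c6)) = (LP (LK LD1_c14 LD2_c0 LD3_c49)) :=
  Lgr Lrot136 (Lpe (K5.f132170 IH) (Lpr_gf (f484538 IH) (Lpe (K29.f437929 IH) (Lpr_dt (K29.f4877 IH) (Lpe (K29.f4852 IH) (Lpe (K29.f4847 IH) (Lpe (K29.f4846 IH) (Lpe (f4874 IH) (Lpr_dt (f4875 IH) (Lpe (f4876 IH) (Lpn (LP (LK LD1_c14 LD2_c0 LD3_c49)))))))))))))
theorem f437918 : Led Lsl_dt (LP (LK LD1_c7 LD2_c24 LD3_c25)) = (LP (LK LD1_c3 LD2_c41 LD3_c50)) :=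
  Lre_d IH (LK LD1_c7 LD2_c24 LD3_c25) (LK LD1_c3 LD2_c41 LD3_c50) Lrfl Lrfl
theorem f437917 : Led Lsl_ct (LP (LK LD1_c1 LD2_c47 LD3_c49)) = (LP (LK LD1_c3 LD2_c41 LD3_c50)) :=
  Lre_c IH (LK LD1_c1 LD2_c47 LD3_c49) (LK LD1_c3 LD2_c41 LD3_c50) Lrfl Lrfl
theorem f437915 : Led Lsl_dt (LP (LK LD1_c3 LD2_c41 LD3_c52)) = (LP (LK LD1_c1 LD2_c47 LD3_c49)) :=
  Lre_d IH (LK LD1_c3 LD2_c41 LD3_c52) (LK LD1_c1 LD2_c47 LD3_c49) Lrfl Lrfl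
theorem f123366 : Led Lsl_gt (LP (LK LD1_c1 LD2_c54 LD3_c1)) = (LP (LK LD1_c0 LD2_c53 LD3_c45)) :=
  Lre_g IH (LK LD1_c1 LD2_c54 LD3_c1) (LK LD1_c0 LD2_c53 LD3_c45) Lrfl Lrfl
theorem f123380 : Led Lsl_ct (LP (LK LD1_c3 LD2_c54 LD3_c54)) = (LP (LK LD1_c1 LD2_c54 LD3_c1)) :=
  Lre_c IH (LK LD1_c3 LD2_c54 LD3_c54) (LK LD1_c1 LD2_c54 LD3_c1) Lrfl Lrfl
theorem f484553 : Led Lsl_gf (LP (LK LD1_c7 LD2_c25 LD3_c6)) = (LP (LK LD1_c3 LD2_c54 LD3_c54)) :=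
  Lgr Lrot144 (Lpr_dt (f484540 IH) (Lpr_gt (f4876 IH) (Lpr_dt (f437918 IH) (Lpe (f437917 IH) (Lpe (f437915 IH) (Lpr_gf (K29.f437911 IH) (Lpe (K29.f145357 IH) (Lpe (f123366 IH) (Lpe (f123380 IH) (Lpn (LP (LK LD1_c3 LD2_c54 LD3_c54))))))))))))
theorem f96985 : Led Lsl_at (LP (LK LD1_c6 LD2_c55 LD3_c9)) = (LP (LK LD1_c3 LD2_c26 LD3_c46)) :=
  Lre_a IH (LK LD1_c6 LD2_c55 LD3_c9) (LK LD1_c3 LD2_c26 LD3_c46) Lrfl Lrfl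
theorem f480807 : Led Lsl_af (LP (LK LD1_c7 LD2_c25 LD3_c6)) = (LP (LK LD1_c3 LD2_c55 LD3_c22)) :=
  Lgr Lrot68 (Lpe (K29.f132174 IH) (Lpr_at (f96985 IH) (Lpr_ct (K29.f480805 IH) (Lpn (LP (LK LD1_c3 LD2_c55 LD3_c22))))))
theorem f480841 : Led Lsl_ft (LP (LK LD1_c3 LD2_c26 LD3_c42)) = (LP (LK LD1_c3 LD2_c55 LD3_c22)) :=
  Lgr Lrot48 (Lpr_ff (K29.f480814 IH) (Lpn (LP (LK LD1_c3 LD2_c55 LD3_c22))))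
theorem f484634 : Led Lsl_gt (LP (LK LD1_c3 LD2_c26 LD3_c42)) = (LP (LK LD1_c3 LD2_c54 LD3_c54)) :=
  Lgr Lrot5 (Lpr_ft (f480841 IH) (Lpe (f480807 IH) (Lpr_gf (f484553 IH) (Lpn (LP (LK LD1_c3 LD2_c54 LD3_c54))))))
theorem f122800 : Led Lsl_bt (LP (LK LD1_c1 LD2_c54 LD3_c14)) = (LP (LK LD1_c1 LD2_c53 LD3_c49)) :=
  Lgr Lrot127 (Lpr_bf (K6.f122778 IH) (Lpn (LP (LK LD1_c1 LD2_c53 LD3_c49))))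
theorem f484757 : Led Lsl_ct (LP (LK LD1_c7 LD2_c38 LD3_c47)) = (LP (LK LD1_c3 LD2_c48 LD3_c49)) :=
  Lre_c IH (LK LD1_c7 LD2_c38 LD3_c47) (LK LD1_c3 LD2_c48 LD3_c49) Lrfl Lrfl
theorem f484782 : Led Lsl_bf (LP (LK LD1_c3 LD2_c53 LD3_c57)) = (LP (LK LD1_c7 LD2_c38 LD3_c47)) :=
  Lgr Lrot34 (Lpe (f123376 IH) (Lpe (f122800 IH) (Lpr_ct (K6.f122802 IH) (Lpe (f123366 IH) (Lpe (f123380 IH) (Lpe (f484634 IH) (Lpe (f132225 IH) (Lpr_ct (f476765 IH) (Lpr_gf (f484761 IH) (Lpe (f484757 IH) (Lpn (LP (LK LD1_c7 LD2_c38 LD3_c47)))))))))))))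
theorem f484530 : Led Lsl_ct (LP (LK LD1_c3 LD2_c48 LD3_c49)) = (LP (LK LD1_c7 LD2_c38 LD3_c47)) :=
  Lre_c IH (LK LD1_c3 LD2_c48 LD3_c49) (LK LD1_c7 LD2_c38 LD3_c47) Lrfl Lrfl
theorem f484800 : Led Lsl_ct (LP (LK LD1_c3 LD2_c53 LD3_c57)) = (LP (LK LD1_c6 LD2_c54 LD3_c37)) :=
  Lgr Lrot83 (Lpr_bf (f484782 IH) (Lpe (f484530 IH) (Lpe (f484529 IH) (Lpe (f484525 IH) (Lpe (f15258 IH) (Lpn (LP (LK LD1_c6 LD2_c54 LD3_c37))))))))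
theorem f96382 : Led Lsl_gt (LP (LK LD1_c3 LD2_c50 LD3_c3)) = (LP (LK LD1_c7 LD2_c41 LD3_c4)) :=
  Lre_g IH (LK LD1_c3 LD2_c50 LD3_c3) (LK LD1_c7 LD2_c41 LD3_c4) Lrfl Lrfl
theorem f485130 : Led Lsl_bt (LP (LK LD1_c3 LD2_c54 LD3_c54)) = (LP (LK LD1_c7 LD2_c41 LD3_c4)) :=
  Lgr Lrot92 (Lpr_ct (f123380 IH) (Lpr_gt (f123366 IH) (Lpe (K6.f122802 IH) (Lpr_bt (f122800 IH) (Lpr_gt (f123376 IH) (Lpr_ct (f484800 IH) (Lpr_gt (f484520 IH) (Lpe (K5.f96342 IH) (Lpr_bt (K7.f96368 IH) (Lpr_gt (f96382 IH) (Lpn (LP (LK LD1_c7 LD2_c41 LD3_c4)))))))))))))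
theorem f84902 : Led Lsl_gt (LP (LK LD1_c0 LD2_c53 LD3_c37)) = (LP (LK LD1_c1 LD2_c54 LD3_c1)) :=
  Lre_g IH (LK LD1_c0 LD2_c53 LD3_c37) (LK LD1_c1 LD2_c54 LD3_c1) Lrfl Lrfl
theorem f437018 : Led Lsl_ct (LP (LK LD1_c1 LD2_c54 LD3_c0)) = (LP (LK LD1_c0 LD2_c53 LD3_c37)) :=
  Lre_c IH (LK LD1_c1 LD2_c54 LD3_c0) (LK LD1_c0 LD2_c53 LD3_c37) Lrfl Lrfl
theorem f123196 : Led Lsl_bt (LP (LK LD1_c1 LD2_c54 LD3_c0)) = (LP (LK LD1_c3 LD2_c54 LD3_c49)) :=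
  Lre_b IH (LK LD1_c1 LD2_c54 LD3_c0) (LK LD1_c3 LD2_c54 LD3_c49) Lrfl Lrfl
theorem f123429 : Led Lsl_gt (LP (LK LD1_c7 LD2_c51 LD3_c17)) = (LP (LK LD1_c3 LD2_c54 LD3_c49)) :=
  Lre_g IH (LK LD1_c7 LD2_c51 LD3_c17) (LK LD1_c3 LD2_c54 LD3_c49) Lrfl Lrfl
theorem f142602 : Led Lsl_gf (LP (LK LD1_c14 LD2_c2 LD3_c55)) = (LP (LK LD1_c7 LD2_c41 LD3_c4)) :=
  Lgr Lrot76 (Lpr_af (K8.f142591 IH) (Lpe (K7.f96367 IH) (Lpr_gt (f96382 IH) (Lpn (LP (LK LD1_c7 LD2_c41 LD3_c4))))))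
theorem f117328 : Led Lsl_gt (LP (LK LD1_c7 LD2_c41 LD3_c1)) = (LP (LK LD1_c3 LD2_c50 LD3_c8)) :=
  Lre_g IH (LK LD1_c7 LD2_c41 LD3_c1) (LK LD1_c3 LD2_c50 LD3_c8) Lrfl Lrfl
theorem f96465 : Led Lsl_ct (LP (LK LD1_c7 LD2_c41 LD3_c21)) = (LP (LK LD1_c3 LD2_c50 LD3_c8)) :=
  Lre_c IH (LK LD1_c7 LD2_c41 LD3_c21) (LK LD1_c3 LD2_c50 LD3_c8) Lrfl Lrfl
theorem f485136 : Led Lsl_bf (LP (LK LD1_c7 LD2_c51 LD3_c17)) = (LP (LK LD1_c7 LD2_c41 LD3_c21)) :=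
  Lgr Lrot156 (Lpr_gt (f123429 IH) (Lpe (f123196 IH) (Lpr_ct (f437018 IH) (Lpr_gt (f84902 IH) (Lpe (f123380 IH) (Lpr_bt (f485130 IH) (Lpe (f142602 IH) (Lpr_ct (K8.f142582 IH) (Lpr_gt (f117328 IH) (Lpe (f96465 IH) (Lpn (LP (LK LD1_c7 LD2_c41 LD3_c21)))))))))))))
theorem f122758 : Led Lsl_at (LP (LK LD1_c1 LD2_c54 LD3_c0)) = (LP (LK LD1_c0 LD2_c53 LD3_c41)) :=
  Lre_a IH (LK LD1_c1 LD2_c54 LD3_c0) (LK LD1_c0 LD2_c53 LD3_c41) Lrfl Lrfl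
theorem f122759 : Led Lsl_bt (LP (LK LD1_c3 LD2_c54 LD3_c49)) = (LP (LK LD1_c1 LD2_c54 LD3_c0)) :=
  Lre_b IH (LK LD1_c3 LD2_c54 LD3_c49) (LK LD1_c1 LD2_c54 LD3_c0) Lrfl Lrfl
theorem f122760 : Led Lsl_at (LP (LK LD1_c0 LD2_c53 LD3_c28)) = (LP (LK LD1_c1 LD2_c53 LD3_c36)) :=
  Lre_a IH (LK LD1_c0 LD2_c53 LD3_c28) (LK LD1_c1 LD2_c53 LD3_c36) Lrfl Lrfl
theorem f122762 : Led Lsl_af (LP (LK LD1_c3 LD2_c54 LD3_c49)) = (LP (LK LD1_c3 LD2_c53 LD3_c55)) :=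
  Lgr Lrot36 (Lpr_bt (f122759 IH) (Lpr_at (f122758 IH) (Lpr_bt (K6.f122756 IH) (Lpr_at (f122760 IH) (Lpr_bt (K29.f122761 IH) (Lpn (LP (LK LD1_c3 LD2_c53 LD3_c55))))))))
theorem f123382 : Led Lsl_ft (LP (LK LD1_c7 LD2_c49 LD3_c26)) = (LP (LK LD1_c3 LD2_c53 LD3_c55)) :=
  Lre_f IH (LK LD1_c7 LD2_c49 LD3_c26) (LK LD1_c3 LD2_c53 LD3_c55) Lrfl Lrfl
theorem f123430 : Led Lsl_gf (LP (LK LD1_c7 LD2_c51 LD3_c17)) = (LP (LK LD1_c7 LD2_c49 LD3_c26)) :=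
  Lgr Lrot47 (Lpr_gt (f123429 IH) (Lpr_af (f122762 IH) (Lpe (f123382 IH) (Lpn (LP (LK LD1_c7 LD2_c49 LD3_c26))))))
theorem f123177 : Led Lsl_bt (LP (LK LD1_c3 LD2_c53 LD3_c59)) = (LP (LK LD1_c7 LD2_c49 LD3_c26)) :=
  Lre_b IH (LK LD1_c3 LD2_c53 LD3_c59) (LK LD1_c7 LD2_c49 LD3_c26) Lrfl Lrfl
theorem f123391 : Led Lsl_ct (LP (LK LD1_c3 LD2_c53 LD3_c59)) = (LP (LK LD1_c1 LD2_c53 LD3_c39)) :=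
  Lre_c IH (LK LD1_c3 LD2_c53 LD3_c59) (LK LD1_c1 LD2_c53 LD3_c39) Lrfl Lrfl
theorem f123424 : Led Lsl_ct (LP (LK LD1_c1 LD2_c53 LD3_c51)) = (LP (LK LD1_c0 LD2_c53 LD3_c29)) :=
  Lre_c IH (LK LD1_c1 LD2_c53 LD3_c51) (LK LD1_c0 LD2_c53 LD3_c29) Lrfl Lrfl
theorem f96464 : Led Lsl_gt (LP (LK LD1_c3 LD2_c50 LD3_c8)) = (LP (LK LD1_c1 LD2_c52 LD3_c0)) :=
  Lre_g IH (LK LD1_c3 LD2_c50 LD3_c8) (LK LD1_c1 LD2_c52 LD3_c0) Lrfl Lrfl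
theorem f84958 : Led Lsl_ct (LP (LK LD1_c3 LD2_c50 LD3_c3)) = (LP (LK LD1_c1 LD2_c52 LD3_c0)) :=
  Lre_c IH (LK LD1_c3 LD2_c50 LD3_c3) (LK LD1_c1 LD2_c52 LD3_c0) Lrfl Lrfl
theorem f84937 : Led Lsl_ct (LP (LK LD1_c1 LD2_c52 LD3_c1)) = (LP (LK LD1_c0 LD2_c52 LD3_c48)) :=
  Lre_c IH (LK LD1_c1 LD2_c52 LD3_c1) (LK LD1_c0 LD2_c52 LD3_c48) Lrfl Lrfl
theorem f84938 : Led Lsl_bt (LP (LK LD1_c0 LD2_c52 LD3_c48)) = (LP (LK LD1_c1 LD2_c52 LD3_c0)) :=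
  Lre_b IH (LK LD1_c0 LD2_c52 LD3_c48) (LK LD1_c1 LD2_c52 LD3_c0) Lrfl Lrfl
theorem f96345 : Led Lsl_bf (LP (LK LD1_c3 LD2_c40 LD3_c4)) = (LP (LK LD1_c3 LD2_c50 LD3_c3)) :=
  Lgr Lrot90 (Lpr_ct (K5.f96342 IH) (Lpr_bt (K7.f84933 IH) (Lpr_ct (f84937 IH) (Lpr_bt (f84938 IH) (Lpr_ct (K8.f84939 IH) (Lpn (LP (LK LD1_c3 LD2_c50 LD3_c3))))))))
theorem f485150 : Led Lsl_gf (LP (LK LD1_c1 LD2_c53 LD3_c51)) = (LP (LK LD1_c3 LD2_c40 LD3_c4)) :=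
  Lgr Lrot181 (Lpr_ct (f123424 IH) (Lpr_gt (f123439 IH) (Lpe (f123391 IH) (Lpr_bt (f123177 IH) (Lpe (f123430 IH) (Lpr_bf (f485136 IH) (Lpr_ct (f96465 IH) (Lpr_gt (f96464 IH) (Lpe (f84958 IH) (Lpe (f96345 IH) (Lpn (LP (LK LD1_c3 LD2_c40 LD3_c4)))))))))))))
theorem f148266 : Led Lsl_et (LP (LK LD1_c3 LD2_c54 LD3_c33)) = (LP (LK LD1_c1 LD2_c53 LD3_c51)) :=
  Lre_e IH (LK LD1_c3 LD2_c54 LD3_c33) (LK LD1_c1 LD2_c53 LD3_c51) Lrfl Lrfl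
theorem f148254 : Led Lsl_dt (LP (LK LD1_c3 LD2_c54 LD3_c33)) = (LP (LK LD1_c7 LD2_c50 LD3_c51)) :=
  Lre_d IH (LK LD1_c3 LD2_c54 LD3_c33) (LK LD1_c7 LD2_c50 LD3_c51) Lrfl Lrfl
theorem f12800 : Led Lsl_et (LP (LK LD1_c3 LD2_c43 LD3_c31)) = (LP (LK LD1_c1 LD2_c48 LD3_c50)) :=
  Lre_e IH (LK LD1_c3 LD2_c43 LD3_c31) (LK LD1_c1 LD2_c48 LD3_c50) Lrfl Lrfl
theorem f12799 : Led Lsl_dt (LP (LK LD1_c3 LD2_c43 LD3_c31)) = (LP (LK LD1_c7 LD2_c27 LD3_c39)) :=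
  Lre_d IH (LK LD1_c3 LD2_c43 LD3_c31) (LK LD1_c7 LD2_c27 LD3_c39) Lrfl Lrfl
theorem f485164 : Led Lsl_gt (LP (LK LD1_c7 LD2_c50 LD3_c51)) = (LP (LK LD1_c7 LD2_c27 LD3_c39)) :=
  Lgr Lrot112 (Lpe (f148254 IH) (Lpr_et (f148266 IH) (Lpr_gf (f485150 IH) (Lpe (K5.f96341 IH) (Lpr_dt (K7.f96340 IH) (Lpe (K5.f116534 IH) (Lpe (K5.f116533 IH) (Lpr_gf (K4.f116531 IH) (Lpe (f12800 IH) (Lpr_dt (f12799 IH) (Lpn (LP (LK LD1_c7 LD2_c27 LD3_c39)))))))))))))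
theorem f148252 : Led Lsl_gt (LP (LK LD1_c7 LD2_c50 LD3_c50)) = (LP (LK LD1_c3 LD2_c54 LD3_c33)) :=
  Lre_g IH (LK LD1_c7 LD2_c50 LD3_c50) (LK LD1_c3 LD2_c54 LD3_c33) Lrfl Lrfl
theorem f485173 : Led Lsl_ef (LP (LK LD1_c7 LD2_c50 LD3_c50)) = (LP (LK LD1_c7 LD2_c52 LD3_c47)) :=
  Lgr Lrot167 (Lpr_gt (f148252 IH) (Lpr_dt (f148254 IH) (Lpr_gt (f485164 IH) (Lpe (f12799 IH) (Lpr_et (f12800 IH) (Lpe (K4.f116531 IH) (Lpe (K28.f116547 IH) (Lpr_dt (K28.f116548 IH) (Lpr_gt (f116549 IH) (Lpr_df (f479829 IH) (Lpn (LP (LK LD1_c7 LD2_c52 LD3_c47)))))))))))))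
theorem f485175 : Led Lsl_et (LP (LK LD1_c7 LD2_c50 LD3_c50)) = (LP (LK LD1_c7 LD2_c52 LD3_c47)) :=
  Lgr Lrot87 (Lpr_ef (f485173 IH) (Lpn (LP (LK LD1_c7 LD2_c52 LD3_c47))))
theorem f511503 : Led Lsl_ff (LP (LK LD1_c7 LD2_c50 LD3_c50)) = (LP (LK LD1_c7 LD2_c24 LD3_c26)) :=
  Lgr Lrot72 (Lpr_et (f485175 IH) (Lpe (f492718 IH) (Lpr_et (K28.f129172 IH) (Lpe (f492662 IH) (Lpr_et (f511495 IH) (Lpn (LP (LK LD1_c7 LD2_c24 LD3_c26))))))))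
theorem f12790 : Led Lsl_dt (LP (LK LD1_c7 LD2_c27 LD3_c39)) = (LP (LK LD1_c3 LD2_c43 LD3_c31)) :=
  Lre_d IH (LK LD1_c7 LD2_c27 LD3_c39) (LK LD1_c3 LD2_c43 LD3_c31) Lrfl Lrfl
theorem f485168 : Led Lsl_ct (LP (LK LD1_c7 LD2_c50 LD3_c50)) = (LP (LK LD1_c7 LD2_c9 LD3_c13)) :=
  Lgr Lrot8 (Lpr_gt (f148252 IH) (Lpr_dt (f148254 IH) (Lpr_gt (f485164 IH) (Lpr_dt (f12790 IH) (Lpr_cf (K4.f12788 IH) (Lpr_df (K29.f102704 IH) (Lpr_gf (f482590 IH) (Lpr_df (f93132 IH) (Lpe (K32.f93144 IH) (Lpn (LP (LK LD1_c7 LD2_c9 LD3_c13))))))))))))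
theorem f511505 : Led Lsl_ct (LP (LK LD1_c6 LD2_c57 LD3_c38)) = (LP (LK LD1_c7 LD2_c24 LD3_c26)) :=
  Lgr Lrot40 (Lpe (K32.f491736 IH) (Lpe (f485168 IH) (Lpr_ff (f511503 IH) (Lpn (LP (LK LD1_c7 LD2_c24 LD3_c26))))))
theorem f515290 : Led Lsl_gf (LP (LK LD1_c6 LD2_c57 LD3_c38)) = (LP (LK LD1_c7 LD2_c9 LD3_c8)) :=
  Lgr Lrot179 (Lpr_ct (f511505 IH) (Lpr_gt (f468083 IH) (Lpr_ct (f4886 IH) (Lpr_dt (f4854 IH) (Lpe (K29.f4813 IH) (Lpe (K29.f481690 IH) (Lpr_cf (K4.f123540 IH) (Lpe (K29.f65535 IH) (Lpr_dt (f515280 IH) (Lpn (LP (LK LD1_c7 LD2_c9 LD3_c8))))))))))))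
theorem f468082 : Led Lsl_bt (LP (LK LD1_c1 LD2_c47 LD3_c48)) = (LP (LK LD1_c3 LD2_c41 LD3_c45)) :=
  Lre_b IH (LK LD1_c1 LD2_c47 LD3_c48) (LK LD1_c3 LD2_c41 LD3_c45) Lrfl Lrfl
theorem f483329 : Led Lsl_cf (LP (LK LD1_c7 LD2_c33 LD3_c27)) = (LP (LK LD1_c6 LD2_c53 LD3_c2)) :=
  Lgr Lrot11 (Lpr_ct (K29.f483026 IH) (Lpn (LP (LK LD1_c6 LD2_c53 LD3_c2))))
theorem f515294 : Led Lsl_bt (LP (LK LD1_c6 LD2_c53 LD3_c2)) = (LP (LK LD1_c7 LD2_c9 LD3_c8)) :=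
  Lgr Lrot130 (Lpe (f483329 IH) (Lpe (K29.f474403 IH) (Lpr_cf (K29.f473636 IH) (Lpr_bt (K29.f129810 IH) (Lpe (K28.f468076 IH) (Lpe (f468082 IH) (Lpr_ct (K29.f4889 IH) (Lpe (f468083 IH) (Lpe (f511505 IH) (Lpr_gf (f515290 IH) (Lpn (LP (LK LD1_c7 LD2_c9 LD3_c8)))))))))))))
theorem f84959 : Led Lsl_et (LP (LK LD1_c0 LD2_c52 LD3_c46)) = (LP (LK LD1_c1 LD2_c52 LD3_c1)) :=
  Lre_e IH (LK LD1_c0 LD2_c52 LD3_c46) (LK LD1_c1 LD2_c52 LD3_c1) Lrfl Lrfl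
theorem f94632 : Led Lsl_et (LP (LK LD1_c6 LD2_c53 LD3_c2)) = (LP (LK LD1_c3 LD2_c50 LD3_c11)) :=
  Lgr Lrot122 (Lpr_dt (K32.f94336 IH) (Lpr_gt (K29.f94335 IH) (Lpr_df (K32.f94288 IH) (Lpr_et (K32.f94331 IH) (Lpr_gt (K2.f94615 IH) (Lpr_dt (K3.f84708 IH) (Lpr_gt (K3.f84694 IH) (Lpr_df (K2.f84963 IH) (Lpr_et (f84959 IH) (Lpr_gt (f84944 IH) (Lpn (LP (LK LD1_c3 LD2_c50 LD3_c11)))))))))))))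
theorem f515018 : Led Lsl_af (LP (LK LD1_c6 LD2_c53 LD3_c2)) = (LP (LK LD1_c3 LD2_c38 LD3_c58)) :=
  Lgr Lrot50 (Lpr_et (f94632 IH) (Lpr_at (f515012 IH) (Lpr_et (K29.f481701 IH) (Lpn (LP (LK LD1_c3 LD2_c38 LD3_c58))))))
theorem f93140 : Led Lsl_at (LP (LK LD1_c7 LD2_c9 LD3_c8)) = (LP (LK LD1_c3 LD2_c34 LD3_c3)) :=
  Lre_a IH (LK LD1_c7 LD2_c9 LD3_c8) (LK LD1_c3 LD2_c34 LD3_c3) Lrfl Lrfl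
theorem f515296 : Led Lsl_af (LP (LK LD1_c1 LD2_c46 LD3_c27)) = (LP (LK LD1_c1 LD2_c43 LD3_c45)) :=
  Lgr Lrot36 (Lpr_bt (f4430 IH) (Lpe (f515018 IH) (Lpr_bt (f515294 IH) (Lpr_at (f93140 IH) (Lpr_bt (f92487 IH) (Lpn (LP (LK LD1_c1 LD2_c43 LD3_c45))))))))
theorem f456999 : Led Lsl_ff (LP (LK LD1_c0 LD2_c49 LD3_c55)) = K29.v737 :=
  Lgr Lrot3 (Lpr_ft (K29.f456997 IH) (Lpn K29.v737))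
theorem f456994 : Led Lsl_ff (LP (LK LD1_c0 LD2_c49 LD3_c56)) = K29.v736 :=
  Lgr Lrot3 (Lpr_ft (K29.f456990 IH) (Lpn K29.v736))
theorem f457003 : Led Lsl_at (LP (LK LD1_c0 LD2_c49 LD3_c56)) = K29.v737 :=
  Lgr Lrot66 (Lpr_ff (f456994 IH) (Lpe (K29.f456985 IH) (Lpr_ff (f456999 IH) (Lpn K29.v737))))
theorem f515304 : K29.v737 = (LP (LK LD1_c1 LD2_c46 LD3_c9)) :=
  (Llr Lrot51 (Lpe (f457003 IH) (Lpe (K3.f4425 IH) (Lpr_af (f515296 IH) (Lpe (f92495 IH) (Lpn (LP (LK LD1_c1 LD2_c46 LD3_c9)))))))).symm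
theorem f515313 : Led Lsl_ff (LP (LK LD1_c1 LD2_c46 LD3_c23)) = (LP (LK LD1_c1 LD2_c43 LD3_c45)) :=
  Lgr Lrot19 (Lpr_dt (K29.f4409 IH) (Lpr_ft (K29.f456997 IH) (Lpqs (f515304 IH) (Lpr_dt (f92495 IH) (Lpn (LP (LK LD1_c1 LD2_c43 LD3_c45)))))))
theorem f92492 : Led Lsl_ct (LP (LK LD1_c3 LD2_c34 LD3_c7)) = (LP (LK LD1_c1 LD2_c43 LD3_c45)) :=
  Lre_c IH (LK LD1_c3 LD2_c34 LD3_c7) (LK LD1_c1 LD2_c43 LD3_c45) Lrfl Lrfl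
theorem f515317 : Led Lsl_ft (LP (LK LD1_c3 LD2_c38 LD3_c57)) = (LP (LK LD1_c3 LD2_c34 LD3_c7)) :=
  Lgr Lrot4 (Lpe (K29.f4447 IH) (Lpr_ff (f515313 IH) (Lpe (f92492 IH) (Lpn (LP (LK LD1_c3 LD2_c34 LD3_c7))))))
theorem f515325 : Led Lsl_af (LP (LK LD1_c3 LD2_c39 LD3_c1)) = (LP (LK LD1_c3 LD2_c34 LD3_c7)) :=
  Lgr Lrot31 (Lpe (K29.f482654 IH) (Lpe (K29.f475147 IH) (Lpr_ft (f515317 IH) (Lpn (LP (LK LD1_c3 LD2_c34 LD3_c7))))))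
theorem f482444 : Led Lsl_et (LP (LK LD1_c1 LD2_c43 LD3_c43)) = (LP (LK LD1_c3 LD2_c34 LD3_c7)) :=
  Lre_e IH (LK LD1_c1 LD2_c43 LD3_c43) (LK LD1_c3 LD2_c34 LD3_c7) Lrfl Lrfl
theorem f515331 : Led Lsl_at (LP (LK LD1_c3 LD2_c32 LD3_c53)) = (LP (LK LD1_c1 LD2_c43 LD3_c43)) :=
  Lgr Lrot80 (Lpe (K28.f442108 IH) (Lpr_af (f515325 IH) (Lpe (f482444 IH) (Lpn (LP (LK LD1_c1 LD2_c43 LD3_c43))))))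
theorem f515340 : Led Lsl_ff (LP (LK LD1_c3 LD2_c32 LD3_c53)) = (LP (LK LD1_c1 LD2_c43 LD3_c47)) :=
  Lgr Lrot52 (Lpr_at (f515331 IH) (Lpe (K29.f482363 IH) (Lpr_gf (K28.f466641 IH) (Lpn (LP (LK LD1_c1 LD2_c43 LD3_c47))))))
theorem f515347 : Led Lsl_ft (LP (LK LD1_c3 LD2_c32 LD3_c53)) = (LP (LK LD1_c1 LD2_c43 LD3_c47)) :=
  Lgr Lrot48 (Lpr_ff (f515340 IH) (Lpn (LP (LK LD1_c1 LD2_c43 LD3_c47))))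
theorem f515355 : Led Lsl_af (LP (LK LD1_c3 LD2_c32 LD3_c55)) = (LP (LK LD1_c1 LD2_c43 LD3_c47)) :=
  Lgr Lrot31 (Lpe (K29.f467953 IH) (Lpe (K28.f10828 IH) (Lpr_ft (f515347 IH) (Lpn (LP (LK LD1_c1 LD2_c43 LD3_c47))))))
theorem f515333 : Led Lsl_af (LP (LK LD1_c3 LD2_c32 LD3_c53)) = (LP (LK LD1_c1 LD2_c43 LD3_c43)) :=
  Lgr Lrot0 (Lpr_at (f515331 IH) (Lpn (LP (LK LD1_c1 LD2_c43 LD3_c43))))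
theorem f515362 : Led Lsl_ft (LP (LK LD1_c3 LD2_c32 LD3_c55)) = (LP (LK LD1_c1 LD2_c43 LD3_c43)) :=
  Lgr Lrot101 (Lpr_af (f515355 IH) (Lpe (f515347 IH) (Lpr_af (f515333 IH) (Lpn (LP (LK LD1_c1 LD2_c43 LD3_c43))))))
theorem f515368 : Led Lsl_ff (LP (LK LD1_c3 LD2_c32 LD3_c55)) = (LP (LK LD1_c1 LD2_c43 LD3_c43)) :=
  Lgr Lrot3 (Lpr_ft (f515362 IH) (Lpn (LP (LK LD1_c1 LD2_c43 LD3_c43))))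
theorem f467127 : Led Lsl_dt (LP (LK LD1_c3 LD2_c32 LD3_c55)) = (LP (LK LD1_c7 LD2_c6 LD3_c47)) :=
  Lre_d IH (LK LD1_c3 LD2_c32 LD3_c55) (LK LD1_c7 LD2_c6 LD3_c47) Lrfl Lrfl
theorem f455840 : Led Lsl_dt (LP (LK LD1_c3 LD2_c34 LD3_c6)) = (LP (LK LD1_c1 LD2_c43 LD3_c43)) :=
  Lre_d IH (LK LD1_c3 LD2_c34 LD3_c6) (LK LD1_c1 LD2_c43 LD3_c43) Lrfl Lrfl
theorem f515372 : Led Lsl_ft (LP (LK LD1_c7 LD2_c6 LD3_c47)) = (LP (LK LD1_c3 LD2_c34 LD3_c6)) :=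
  Lgr Lrot54 (Lpe (f467127 IH) (Lpr_ff (f515368 IH) (Lpe (f455840 IH) (Lpn (LP (LK LD1_c3 LD2_c34 LD3_c6))))))
theorem f467955 : Led Lsl_ct (LP (LK LD1_c13 LD2_c28 LD3_c42)) = (LP (LK LD1_c7 LD2_c6 LD3_c47)) :=
  Lre_c IH (LK LD1_c13 LD2_c28 LD3_c42) (LK LD1_c7 LD2_c6 LD3_c47) Lrfl Lrfl
theorem f6085 : Led Lsl_ct (LP (LK LD1_c3 LD2_c34 LD3_c6)) = (LP (LK LD1_c7 LD2_c9 LD3_c22)) :=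
  Lre_c IH (LK LD1_c3 LD2_c34 LD3_c6) (LK LD1_c7 LD2_c9 LD3_c22) Lrfl Lrfl
theorem f515379 : Led Lsl_ff (LP (LK LD1_c13 LD2_c28 LD3_c42)) = (LP (LK LD1_c7 LD2_c9 LD3_c22)) :=
  Lgr Lrot23 (Lpr_ct (f467955 IH) (Lpr_ft (f515372 IH) (Lpr_ct (f6085 IH) (Lpn (LP (LK LD1_c7 LD2_c9 LD3_c22))))))
theorem f515389 : Led Lsl_ft (LP (LK LD1_c13 LD2_c28 LD3_c42)) = (LP (LK LD1_c7 LD2_c9 LD3_c22)) :=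
  Lgr Lrot48 (Lpr_ff (f515379 IH) (Lpn (LP (LK LD1_c7 LD2_c9 LD3_c22))))
theorem f515391 : Led Lsl_bt (LP (LK LD1_c22 LD2_c48 LD3_c33)) = (LP (LK LD1_c13 LD2_c28 LD3_c42)) :=
  Lre_b IH (LK LD1_c22 LD2_c48 LD3_c33) (LK LD1_c13 LD2_c28 LD3_c42) Lrfl Lrfl
theorem f482411 : Led Lsl_bt (LP (LK LD1_c7 LD2_c9 LD3_c22)) = (LP (LK LD1_c13 LD2_c33 LD3_c18)) :=
  Lre_b IH (LK LD1_c7 LD2_c9 LD3_c22) (LK LD1_c13 LD2_c33 LD3_c18) Lrfl Lrfl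
theorem f515392 : Led Lsl_ff (LP (LK LD1_c22 LD2_c48 LD3_c33)) = (LP (LK LD1_c13 LD2_c33 LD3_c18)) :=
  Lgr Lrot25 (Lpr_bt (f515391 IH) (Lpr_ft (f515389 IH) (Lpr_bt (f482411 IH) (Lpn (LP (LK LD1_c13 LD2_c33 LD3_c18))))))
theorem f515398 : Led Lsl_ct (LP (LK LD1_c22 LD2_c48 LD3_c33)) = (LP (LK LD1_c30 LD2_c43 LD3_c45)) :=
  Lre_c IH (LK LD1_c22 LD2_c48 LD3_c33) (LK LD1_c30 LD2_c43 LD3_c45) Lrfl Lrfl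
theorem f515399 : Led Lsl_ct (LP (LK LD1_c22 LD2_c55 LD3_c42)) = (LP (LK LD1_c13 LD2_c33 LD3_c18)) :=
  Lre_c IH (LK LD1_c22 LD2_c55 LD3_c42) (LK LD1_c13 LD2_c33 LD3_c18) Lrfl Lrfl
theorem f515400 : Led Lsl_ft (LP (LK LD1_c30 LD2_c43 LD3_c45)) = (LP (LK LD1_c22 LD2_c55 LD3_c42)) :=
  Lgr Lrot4 (Lpe (f515398 IH) (Lpr_ff (f515392 IH) (Lpe (f515399 IH) (Lpn (LP (LK LD1_c22 LD2_c55 LD3_c42))))))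
theorem f515411 : Led Lsl_ff (LP (LK LD1_c30 LD2_c43 LD3_c45)) = (LP (LK LD1_c22 LD2_c55 LD3_c42)) :=
  Lgr Lrot3 (Lpr_ft (f515400 IH) (Lpn (LP (LK LD1_c22 LD2_c55 LD3_c42))))
theorem f515413 : Led Lsl_bt (LP (LK LD1_c30 LD2_c43 LD3_c45)) = (LP (LK LD1_c22 LD2_c48 LD3_c32)) :=
  Lre_b IH (LK LD1_c30 LD2_c43 LD3_c45) (LK LD1_c22 LD2_c48 LD3_c32) Lrfl Lrfl
theorem f515414 : Led Lsl_bt (LP (LK LD1_c13 LD2_c33 LD3_c8)) = (LP (LK LD1_c22 LD2_c55 LD3_c42)) :=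
  Lre_b IH (LK LD1_c13 LD2_c33 LD3_c8) (LK LD1_c22 LD2_c55 LD3_c42) Lrfl Lrfl
theorem f515415 : Led Lsl_ft (LP (LK LD1_c22 LD2_c48 LD3_c32)) = (LP (LK LD1_c13 LD2_c33 LD3_c8)) :=
  Lgr Lrot75 (Lpe (f515413 IH) (Lpr_ff (f515411 IH) (Lpe (f515414 IH) (Lpn (LP (LK LD1_c13 LD2_c33 LD3_c8))))))
theorem f456092 : Led Lsl_dt (LP (LK LD1_c30 LD2_c43 LD3_c46)) = (LP (LK LD1_c22 LD2_c48 LD3_c32)) :=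
  Lre_d IH (LK LD1_c30 LD2_c43 LD3_c46) (LK LD1_c22 LD2_c48 LD3_c32) Lrfl Lrfl
theorem f515422 : Led Lsl_dt (LP (LK LD1_c13 LD2_c33 LD3_c8)) = (LP (LK LD1_c22 LD2_c55 LD3_c43)) :=
  Lre_d IH (LK LD1_c13 LD2_c33 LD3_c8) (LK LD1_c22 LD2_c55 LD3_c43) Lrfl Lrfl
theorem f515423 : Led Lsl_ff (LP (LK LD1_c30 LD2_c43 LD3_c46)) = (LP (LK LD1_c22 LD2_c55 LD3_c43)) :=
  Lgr Lrot19 (Lpr_dt (f456092 IH) (Lpr_ft (f515415 IH) (Lpr_dt (f515422 IH) (Lpn (LP (LK LD1_c22 LD2_c55 LD3_c43))))))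
theorem f515430 : Led Lsl_ft (LP (LK LD1_c30 LD2_c43 LD3_c46)) = (LP (LK LD1_c22 LD2_c55 LD3_c43)) :=
  Lgr Lrot48 (Lpr_ff (f515423 IH) (Lpn (LP (LK LD1_c22 LD2_c55 LD3_c43))))
theorem f456091 : Led Lsl_ct (LP (LK LD1_c22 LD2_c48 LD3_c32)) = (LP (LK LD1_c13 LD2_c28 LD3_c41)) :=
  Lre_c IH (LK LD1_c22 LD2_c48 LD3_c32) (LK LD1_c13 LD2_c28 LD3_c41) Lrfl Lrfl
theorem f456090 : Led Lsl_dt (LP (LK LD1_c13 LD2_c28 LD3_c41)) = (LP (LK LD1_c7 LD2_c6 LD3_c46)) :=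
  Lre_d IH (LK LD1_c13 LD2_c28 LD3_c41) (LK LD1_c7 LD2_c6 LD3_c46) Lrfl Lrfl
theorem f456079 : Led Lsl_cf (LP (LK LD1_c3 LD2_c32 LD3_c54)) = (LP (LK LD1_c1 LD2_c53 LD3_c47)) :=
  Lgr Lrot11 (Lpr_ct (f456072 IH) (Lpn (LP (LK LD1_c1 LD2_c53 LD3_c47))))
theorem f6632 : Led Lsl_bt (LP (LK LD1_c3 LD2_c32 LD3_c55)) = (LP (LK LD1_c7 LD2_c6 LD3_c46)) :=
  Lre_b IH (LK LD1_c3 LD2_c32 LD3_c55) (LK LD1_c7 LD2_c6 LD3_c46) Lrfl Lrfl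
theorem f122790 : Led Lsl_bt (LP (LK LD1_c3 LD2_c54 LD3_c22)) = (LP (LK LD1_c1 LD2_c53 LD3_c47)) :=
  Lre_b IH (LK LD1_c3 LD2_c54 LD3_c22) (LK LD1_c1 LD2_c53 LD3_c47) Lrfl Lrfl
theorem f456084 : Led Lsl_ct (LP (LK LD1_c7 LD2_c6 LD3_c46)) = (LP (LK LD1_c3 LD2_c54 LD3_c22)) :=
  Lgr Lrot83 (Lpe (f6632 IH) (Lpe (K29.f5971 IH) (Lpe (f5970 IH) (Lpr_cf (f456079 IH) (Lpe (f122790 IH) (Lpn (LP (LK LD1_c3 LD2_c54 LD3_c22))))))))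
theorem f456093 : Led Lsl_dt (LP (LK LD1_c3 LD2_c54 LD3_c22)) = (LP (LK LD1_c7 LD2_c50 LD3_c23)) :=
  Lre_d IH (LK LD1_c3 LD2_c54 LD3_c22) (LK LD1_c7 LD2_c50 LD3_c23) Lrfl Lrfl
theorem f456094 : Led Lsl_ct (LP (LK LD1_c7 LD2_c50 LD3_c23)) = (LP (LK LD1_c14 LD2_c47 LD3_c22)) :=
  Lre_c IH (LK LD1_c7 LD2_c50 LD3_c23) (LK LD1_c14 LD2_c47 LD3_c22) Lrfl Lrfl
theorem f456095 : Led Lsl_dt (LP (LK LD1_c14 LD2_c47 LD3_c22)) = (LP (LK LD1_c24 LD2_c33 LD3_c42)) :=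
  Lre_d IH (LK LD1_c14 LD2_c47 LD3_c22) (LK LD1_c24 LD2_c33 LD3_c42) Lrfl Lrfl
theorem f515434 : Led Lsl_at (LP (LK LD1_c22 LD2_c55 LD3_c43)) = (LP (LK LD1_c30 LD2_c48 LD3_c1)) :=
  Lre_a IH (LK LD1_c22 LD2_c55 LD3_c43) (LK LD1_c30 LD2_c48 LD3_c1) Lrfl Lrfl
theorem f515436 : Led Lsl_ct (LP (LK LD1_c24 LD2_c33 LD3_c42)) = (LP (LK LD1_c30 LD2_c48 LD3_c1)) :=
  Lgr Lrot98 (Lpe (f456095 IH) (Lpe (f456094 IH) (Lpe (f456093 IH) (Lpe (f456084 IH) (Lpe (f456090 IH) (Lpe (f456091 IH) (Lpe (f456092 IH) (Lpr_ft (f515430 IH) (Lpr_at (f515434 IH) (Lpn (LP (LK LD1_c30 LD2_c48 LD3_c1))))))))))))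
theorem f515440 : Led Lsl_dt (LP (LK LD1_c30 LD2_c48 LD3_c1)) = (LP (LK LD1_c22 LD2_c55 LD3_c34)) :=
  Lre_d IH (LK LD1_c30 LD2_c48 LD3_c1) (LK LD1_c22 LD2_c55 LD3_c34) Lrfl Lrfl
theorem f515441 : Led Lsl_ct (LP (LK LD1_c22 LD2_c55 LD3_c34)) = (LP (LK LD1_c13 LD2_c33 LD3_c4)) :=
  Lre_c IH (LK LD1_c22 LD2_c55 LD3_c34) (LK LD1_c13 LD2_c33 LD3_c4) Lrfl Lrfl
theorem f515142 : Led Lsl_dt (LP (LK LD1_c13 LD2_c33 LD3_c4)) = (LP (LK LD1_c7 LD2_c9 LD3_c17)) :=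
  Lre_d IH (LK LD1_c13 LD2_c33 LD3_c4) (LK LD1_c7 LD2_c9 LD3_c17) Lrfl Lrfl
theorem f482569 : Led Lsl_ct (LP (LK LD1_c7 LD2_c9 LD3_c17)) = (LP (LK LD1_c13 LD2_c32 LD3_c54)) :=
  Lre_c IH (LK LD1_c7 LD2_c9 LD3_c17) (LK LD1_c13 LD2_c32 LD3_c54) Lrfl Lrfl
theorem f482552 : Led Lsl_at (LP (LK LD1_c7 LD2_c9 LD3_c9)) = (LP (LK LD1_c13 LD2_c32 LD3_c54)) :=
  Lre_a IH (LK LD1_c7 LD2_c9 LD3_c9) (LK LD1_c13 LD2_c32 LD3_c54) Lrfl Lrfl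
theorem f515442 : Led Lsl_ft (LP (LK LD1_c3 LD2_c54 LD3_c22)) = (LP (LK LD1_c7 LD2_c9 LD3_c9)) :=
  Lgr Lrot142 (Lpr_dt (f456093 IH) (Lpr_ct (f456094 IH) (Lpr_dt (f456095 IH) (Lpr_ct (f515436 IH) (Lpr_dt (f515440 IH) (Lpr_ct (f515441 IH) (Lpr_dt (f515142 IH) (Lpr_ct (f482569 IH) (Lpe (f482552 IH) (Lpn (LP (LK LD1_c7 LD2_c9 LD3_c9))))))))))))
theorem f456097 : Led Lsl_at (LP (LK LD1_c7 LD2_c50 LD3_c22)) = (LP (LK LD1_c3 LD2_c54 LD3_c22)) :=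
  Lre_a IH (LK LD1_c7 LD2_c50 LD3_c22) (LK LD1_c3 LD2_c54 LD3_c22) Lrfl Lrfl
theorem f515455 : Led Lsl_ff (LP (LK LD1_c7 LD2_c50 LD3_c22)) = (LP (LK LD1_c13 LD2_c32 LD3_c54)) :=
  Lgr Lrot30 (Lpr_at (f456097 IH) (Lpr_ft (f515442 IH) (Lpr_at (f482552 IH) (Lpn (LP (LK LD1_c13 LD2_c32 LD3_c54))))))
theorem f456088 : Led Lsl_gt (LP (LK LD1_c7 LD2_c50 LD3_c21)) = (LP (LK LD1_c3 LD2_c54 LD3_c22)) :=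
  Lre_g IH (LK LD1_c7 LD2_c50 LD3_c21) (LK LD1_c3 LD2_c54 LD3_c22) Lrfl Lrfl
theorem f515542 : Led Lsl_gf (LP (LK LD1_c7 LD2_c50 LD3_c21)) = (LP (LK LD1_c13 LD2_c32 LD3_c54)) :=
  Lgr Lrot47 (Lpr_gt (f456088 IH) (Lpe (f456097 IH) (Lpr_ff (f515455 IH) (Lpn (LP (LK LD1_c13 LD2_c32 LD3_c54))))))
theorem f466306 : Led Lsl_at (LP (LK LD1_c13 LD2_c24 LD3_c48)) = (LP (LK LD1_c7 LD2_c4 LD3_c31)) :=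
  Lre_a IH (LK LD1_c13 LD2_c24 LD3_c48) (LK LD1_c7 LD2_c4 LD3_c31) Lrfl Lrfl
theorem f466348 : Led Lsl_ft (LP (LK LD1_c7 LD2_c22 LD3_c47)) = (LP (LK LD1_c13 LD2_c24 LD3_c48)) :=
  Lgr Lrot101 (Lpe (K28.f116281 IH) (Lpr_ff (K28.f466338 IH) (Lpe (f466306 IH) (Lpn (LP (LK LD1_c13 LD2_c24 LD3_c48))))))
theorem f466323 : Led Lsl_gt (LP (LK LD1_c13 LD2_c24 LD3_c47)) = (LP (LK LD1_c7 LD2_c4 LD3_c31)) :=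
  Lre_g IH (LK LD1_c13 LD2_c24 LD3_c47) (LK LD1_c7 LD2_c4 LD3_c31) Lrfl Lrfl
theorem f488778 : Led Lsl_gt (LP (LK LD1_c7 LD2_c22 LD3_c47)) = (LP (LK LD1_c13 LD2_c24 LD3_c47)) :=
  Lgr Lrot5 (Lpr_ft (f466348 IH) (Lpr_at (f466306 IH) (Lpe (f466323 IH) (Lpn (LP (LK LD1_c13 LD2_c24 LD3_c47))))))
theorem f116461 : Led Lsl_et (LP (LK LD1_c3 LD2_c41 LD3_c12)) = (LP (LK LD1_c7 LD2_c22 LD3_c47)) :=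
  Lre_e IH (LK LD1_c3 LD2_c41 LD3_c12) (LK LD1_c7 LD2_c22 LD3_c47) Lrfl Lrfl
theorem f129405 : Led Lsl_et (LP (LK LD1_c3 LD2_c54 LD3_c2)) = (LP (LK LD1_c7 LD2_c49 LD3_c42)) :=
  Lre_e IH (LK LD1_c3 LD2_c54 LD3_c2) (LK LD1_c7 LD2_c49 LD3_c42) Lrfl Lrfl
theorem f466325 : Led Lsl_dt (LP (LK LD1_c13 LD2_c24 LD3_c47)) = (LP (LK LD1_c22 LD2_c43 LD3_c4)) :=
  Lre_d IH (LK LD1_c13 LD2_c24 LD3_c47) (LK LD1_c22 LD2_c43 LD3_c4) Lrfl Lrfl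
theorem f116240 : Led Lsl_et (LP (LK LD1_c3 LD2_c35 LD3_c43)) = (LP (LK LD1_c7 LD2_c12 LD3_c2)) :=
  Lre_e IH (LK LD1_c3 LD2_c35 LD3_c43) (LK LD1_c7 LD2_c12 LD3_c2) Lrfl Lrfl
theorem f116241 : Led Lsl_et (LP (LK LD1_c7 LD2_c28 LD3_c54)) = (LP (LK LD1_c3 LD2_c44 LD3_c2)) :=
  Lre_e IH (LK LD1_c7 LD2_c28 LD3_c54) (LK LD1_c3 LD2_c44 LD3_c2) Lrfl Lrfl
theorem f116242 : Led Lsl_ct (LP (LK LD1_c7 LD2_c12 LD3_c2)) = (LP (LK LD1_c7 LD2_c28 LD3_c54)) :=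
  Lgr Lrot15 (Lpe (f116240 IH) (Lpr_cf (K4.f116236 IH) (Lpe (f116241 IH) (Lpn (LP (LK LD1_c7 LD2_c28 LD3_c54))))))
theorem f108613 : Led Lsl_bt (LP (LK LD1_c3 LD2_c35 LD3_c44)) = (LP (LK LD1_c1 LD2_c44 LD3_c45)) :=
  Lre_b IH (LK LD1_c3 LD2_c35 LD3_c44) (LK LD1_c1 LD2_c44 LD3_c45) Lrfl Lrfl
theorem f92399 : Led Lsl_bt (LP (LK LD1_c1 LD2_c43 LD3_c1)) = (LP (LK LD1_c3 LD2_c32 LD3_c38)) :=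
  Lre_b IH (LK LD1_c1 LD2_c43 LD3_c1) (LK LD1_c3 LD2_c32 LD3_c38) Lrfl Lrfl
theorem f92422 : Led Lsl_at (LP (LK LD1_c3 LD2_c32 LD3_c38)) = (LP (LK LD1_c7 LD2_c6 LD3_c5)) :=
  Lre_a IH (LK LD1_c3 LD2_c32 LD3_c38) (LK LD1_c7 LD2_c6 LD3_c5) Lrfl Lrfl
theorem f108615 : Led Lsl_bf (LP (LK LD1_c7 LD2_c12 LD3_c2)) = (LP (LK LD1_c7 LD2_c6 LD3_c5)) :=
  Lgr Lrot81 (Lpr_at (K28.f108614 IH) (Lpr_bt (f108613 IH) (Lpr_at (K3.f108545 IH) (Lpr_bt (f92399 IH) (Lpr_at (f92422 IH) (Lpn (LP (LK LD1_c7 LD2_c6 LD3_c5))))))))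
theorem f116445 : Led Lsl_ct (LP (LK LD1_c7 LD2_c22 LD3_c47)) = (LP (LK LD1_c6 LD2_c53 LD3_c58)) :=
  Lgr Lrot83 (Lpr_bf (K4.f116440 IH) (Lpe (f116242 IH) (Lpr_bf (f108615 IH) (Lpe (K28.f92461 IH) (Lpr_bf (K4.f111483 IH) (Lpn (LP (LK LD1_c6 LD2_c53 LD3_c58))))))))
theorem f116475 : Led Lsl_gt (LP (LK LD1_c6 LD2_c53 LD3_c58)) = (LP (LK LD1_c13 LD2_c6 LD3_c37)) :=
  Lre_g IH (LK LD1_c6 LD2_c53 LD3_c58) (LK LD1_c13 LD2_c6 LD3_c37) Lrfl Lrfl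
theorem f116476 : Led Lsl_dt (LP (LK LD1_c13 LD2_c6 LD3_c37)) = (LP (LK LD1_c22 LD2_c17 LD3_c58)) :=
  Lre_d IH (LK LD1_c13 LD2_c6 LD3_c37) (LK LD1_c22 LD2_c17 LD3_c58) Lrfl Lrfl
theorem f122814 : Led Lsl_ct (LP (LK LD1_c1 LD2_c53 LD3_c49)) = (LP (LK LD1_c0 LD2_c53 LD3_c31)) :=
  Lre_c IH (LK LD1_c1 LD2_c53 LD3_c49) (LK LD1_c0 LD2_c53 LD3_c31) Lrfl Lrfl
theorem f122812 : Led Lsl_gt (LP (LK LD1_c1 LD2_c54 LD3_c14)) = (LP (LK LD1_c3 LD2_c54 LD3_c51)) :=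
  Lre_g IH (LK LD1_c1 LD2_c54 LD3_c14) (LK LD1_c3 LD2_c54 LD3_c51) Lrfl Lrfl
theorem f122818 : Led Lsl_bt (LP (LK LD1_c7 LD2_c51 LD3_c24)) = (LP (LK LD1_c3 LD2_c54 LD3_c51)) :=
  Lre_b IH (LK LD1_c7 LD2_c51 LD3_c24) (LK LD1_c3 LD2_c54 LD3_c51) Lrfl Lrfl
theorem f134756 : Led Lsl_et (LP (LK LD1_c0 LD2_c53 LD3_c36)) = (LP (LK LD1_c1 LD2_c54 LD3_c0)) :=
  Lre_e IH (LK LD1_c0 LD2_c53 LD3_c36) (LK LD1_c1 LD2_c54 LD3_c0) Lrfl Lrfl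
theorem f437010 : Led Lsl_gt (LP (LK LD1_c3 LD2_c54 LD3_c51)) = (LP (LK LD1_c1 LD2_c54 LD3_c0)) :=
  Lre_g IH (LK LD1_c3 LD2_c54 LD3_c51) (LK LD1_c1 LD2_c54 LD3_c0) Lrfl Lrfl
theorem f480175 : Led Lsl_et (LP (LK LD1_c3 LD2_c56 LD3_c21)) = (LP (LK LD1_c3 LD2_c54 LD3_c51)) :=
  Lgr Lrot185 (Lpr_dt (f480166 IH) (Lpe (f459262 IH) (Lpe (K32.f455625 IH) (Lpe (K28.f463841 IH) (Lpe (K4.f116151 IH) (Lpr_dt (K4.f116073 IH) (Lpr_gf (K8.f147602 IH) (Lpe (K5.f84906 IH) (Lpr_et (f134756 IH) (Lpe (f437010 IH) (Lpn (LP (LK LD1_c3 LD2_c54 LD3_c51)))))))))))))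
theorem f480183 : Led Lsl_ef (LP (LK LD1_c3 LD2_c56 LD3_c21)) = (LP (LK LD1_c3 LD2_c54 LD3_c51)) :=
  Lgr Lrot88 (Lpr_et (f480175 IH) (Lpn (LP (LK LD1_c3 LD2_c54 LD3_c51))))
theorem f464662 : Led Lsl_bt (LP (LK LD1_c3 LD2_c56 LD3_c21)) = (LP (LK LD1_c7 LD2_c54 LD3_c28)) :=
  Lre_b IH (LK LD1_c3 LD2_c56 LD3_c21) (LK LD1_c7 LD2_c54 LD3_c28) Lrfl Lrfl
theorem f480185 : Led Lsl_et (LP (LK LD1_c7 LD2_c54 LD3_c28)) = (LP (LK LD1_c7 LD2_c51 LD3_c24)) :=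
  Lgr Lrot74 (Lpe (f464662 IH) (Lpr_ef (f480183 IH) (Lpe (f122818 IH) (Lpn (LP (LK LD1_c7 LD2_c51 LD3_c24))))))
theorem f479812 : Led Lsl_gt (LP (LK LD1_c13 LD2_c13 LD3_c8)) = (LP (LK LD1_c7 LD2_c11 LD3_c56)) :=
  Lgr Lrot49 (Lpe (f98821 IH) (Lpe (f98820 IH) (Lpe (K24.f98807 IH) (Lpr_gt (K32.f479810 IH) (Lpr_dt (K32.f463663 IH) (Lpe (f469530 IH) (Lpr_dt (K29.f457146 IH) (Lpr_cf (K28.f468113 IH) (Lpe (K28.f106210 IH) (Lpn (LP (LK LD1_c7 LD2_c11 LD3_c56))))))))))))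
theorem f458325 : Led Lsl_ct (LP (LK LD1_c7 LD2_c5 LD3_c5)) = (LP (LK LD1_c3 LD2_c31 LD3_c45)) :=
  Lre_c IH (LK LD1_c7 LD2_c5 LD3_c5) (LK LD1_c3 LD2_c31 LD3_c45) Lrfl Lrfl
theorem f479833 : Led Lsl_gf (LP (LK LD1_c3 LD2_c56 LD3_c24)) = (LP (LK LD1_c7 LD2_c52 LD3_c47)) :=
  Lgr Lrot104 (Lpr_ct (K29.f451966 IH) (Lpr_df (K29.f479638 IH) (Lpe (f458325 IH) (Lpr_gf (f479782 IH) (Lpr_cf (K28.f468139 IH) (Lpe (f479812 IH) (Lpe (f98821 IH) (Lpe (f469515 IH) (Lpr_ct (K32.f479825 IH) (Lpn (LP (LK LD1_c7 LD2_c52 LD3_c47))))))))))))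
theorem f461909 : Led Lsl_ct (LP (LK LD1_c6 LD2_c57 LD3_c16)) = (LP (LK LD1_c3 LD2_c52 LD3_c60)) :=
  Lgr Lrot8 (Lpr_gt (K29.f457788 IH) (Lpr_dt (K29.f457782 IH) (Lpr_gt (K24.f457787 IH) (Lpr_dt (K24.f461898 IH) (Lpr_cf (K28.f460946 IH) (Lpe (K28.f460527 IH) (Lpe (K29.f461303 IH) (Lpe (K29.f64671 IH) (Lpe (K29.f459901 IH) (Lpn (LP (LK LD1_c3 LD2_c52 LD3_c60))))))))))))
theorem f479837 : Led Lsl_bf (LP (LK LD1_c6 LD2_c57 LD3_c42)) = (LP (LK LD1_c6 LD2_c57 LD3_c16)) :=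
  Lgr Lrot165 (Lpe (f469515 IH) (Lpr_ct (K32.f479825 IH) (Lpe (f479833 IH) (Lpe (K24.f451326 IH) (Lpe (f476489 IH) (Lpr_gt (K30.f129897 IH) (Lpe (K28.f129783 IH) (Lpr_ct (K24.f129787 IH) (Lpe (K29.f468504 IH) (Lpe (f461909 IH) (Lpn (LP (LK LD1_c6 LD2_c57 LD3_c16)))))))))))))
theorem f461538 : Led Lsl_bt (LP (LK LD1_c7 LD2_c47 LD3_c48)) = (LP (LK LD1_c3 LD2_c52 LD3_c60)) :=
  Lre_b IH (LK LD1_c7 LD2_c47 LD3_c48) (LK LD1_c3 LD2_c52 LD3_c60) Lrfl Lrfl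
theorem f479841 : Led Lsl_ct (LP (LK LD1_c7 LD2_c54 LD3_c28)) = (LP (LK LD1_c7 LD2_c47 LD3_c48)) :=
  Lgr Lrot83 (Lpe (f464662 IH) (Lpe (f464630 IH) (Lpr_bf (f479837 IH) (Lpr_cf (K29.f461911 IH) (Lpe (f461538 IH) (Lpn (LP (LK LD1_c7 LD2_c47 LD3_c48))))))))
theorem f479846 : Led Lsl_cf (LP (LK LD1_c7 LD2_c54 LD3_c28)) = (LP (LK LD1_c7 LD2_c47 LD3_c48)) :=
  Lgr Lrot11 (Lpr_ct (f479841 IH) (Lpn (LP (LK LD1_c7 LD2_c47 LD3_c48))))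
theorem f89673 : Led Lsl_et (LP (LK LD1_c0 LD2_c52 LD3_c15)) = (LP (LK LD1_c1 LD2_c50 LD3_c44)) :=
  Lre_e IH (LK LD1_c0 LD2_c52 LD3_c15) (LK LD1_c1 LD2_c50 LD3_c44) Lrfl Lrfl
theorem f12051 : Led Lsl_gt (LP (LK LD1_c3 LD2_c47 LD3_c13)) = (LP (LK LD1_c1 LD2_c50 LD3_c44)) :=
  Lre_g IH (LK LD1_c3 LD2_c47 LD3_c13) (LK LD1_c1 LD2_c50 LD3_c44) Lrfl Lrfl
theorem f477331 : Led Lsl_et (LP (LK LD1_c3 LD2_c52 LD3_c60)) = (LP (LK LD1_c3 LD2_c47 LD3_c13)) :=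
  Lgr Lrot185 (Lpr_dt (K29.f461919 IH) (Lpr_gf (K29.f477321 IH) (Lpe (K29.f460224 IH) (Lpe (K29.f460222 IH) (Lpe (K4.f89131 IH) (Lpr_dt (K3.f88436 IH) (Lpe (K3.f89670 IH) (Lpe (K3.f12061 IH) (Lpr_et (f89673 IH) (Lpe (f12051 IH) (Lpn (LP (LK LD1_c3 LD2_c47 LD3_c13)))))))))))))
theorem f477333 : Led Lsl_bt (LP (LK LD1_c3 LD2_c47 LD3_c13)) = (LP (LK LD1_c7 LD2_c35 LD3_c16)) :=
  Lre_b IH (LK LD1_c3 LD2_c47 LD3_c13) (LK LD1_c7 LD2_c35 LD3_c16) Lrfl Lrfl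
theorem f477334 : Led Lsl_ef (LP (LK LD1_c7 LD2_c47 LD3_c48)) = (LP (LK LD1_c7 LD2_c35 LD3_c16)) :=
  Lgr Lrot29 (Lpr_bt (f461538 IH) (Lpr_et (f477331 IH) (Lpr_bt (f477333 IH) (Lpn (LP (LK LD1_c7 LD2_c35 LD3_c16))))))
theorem f480219 : Led Lsl_cf (LP (LK LD1_c7 LD2_c35 LD3_c16)) = (LP (LK LD1_c7 LD2_c51 LD3_c24)) :=
  Lgr Lrot39 (Lpe (f477334 IH) (Lpe (f479846 IH) (Lpr_et (f480185 IH) (Lpn (LP (LK LD1_c7 LD2_c51 LD3_c24))))))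
theorem f123521 : Led Lsl_bt (LP (LK LD1_c7 LD2_c25 LD3_c2)) = (LP (LK LD1_c3 LD2_c42 LD3_c10)) :=
  Lre_b IH (LK LD1_c7 LD2_c25 LD3_c2) (LK LD1_c3 LD2_c42 LD3_c10) Lrfl Lrfl
theorem f483564 : Led Lsl_gt (LP (LK LD1_c7 LD2_c35 LD3_c16)) = (LP (LK LD1_c3 LD2_c55 LD3_c47)) :=
  Lgr Lrot65 (Lpr_cf (f480219 IH) (Lpr_bt (f122818 IH) (Lpe (f122812 IH) (Lpr_bf (K6.f122778 IH) (Lpr_ct (f122814 IH) (Lpe (K29.f122815 IH) (Lpe (K29.f122816 IH) (Lpr_gf (K29.f483560 IH) (Lpe (f123521 IH) (Lpr_ct (K5.f122702 IH) (Lpn (LP (LK LD1_c3 LD2_c55 LD3_c47)))))))))))))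
theorem f477338 : Led Lsl_ef (LP (LK LD1_c3 LD2_c52 LD3_c60)) = (LP (LK LD1_c3 LD2_c47 LD3_c13)) :=
  Lgr Lrot88 (Lpr_et (f477331 IH) (Lpn (LP (LK LD1_c3 LD2_c47 LD3_c13))))
theorem f461917 : Led Lsl_bt (LP (LK LD1_c3 LD2_c52 LD3_c60)) = (LP (LK LD1_c7 LD2_c47 LD3_c48)) :=
  Lre_b IH (LK LD1_c3 LD2_c52 LD3_c60) (LK LD1_c7 LD2_c47 LD3_c48) Lrfl Lrfl
theorem f12052 : Led Lsl_bt (LP (LK LD1_c7 LD2_c35 LD3_c16)) = (LP (LK LD1_c3 LD2_c47 LD3_c13)) :=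
  Lre_b IH (LK LD1_c7 LD2_c35 LD3_c16) (LK LD1_c3 LD2_c47 LD3_c13) Lrfl Lrfl
theorem f477340 : Led Lsl_et (LP (LK LD1_c7 LD2_c47 LD3_c48)) = (LP (LK LD1_c7 LD2_c35 LD3_c16)) :=
  Lgr Lrot74 (Lpe (f461917 IH) (Lpr_ef (f477338 IH) (Lpe (f12052 IH) (Lpn (LP (LK LD1_c7 LD2_c35 LD3_c16))))))
theorem f477385 : Led Lsl_dt (LP (LK LD1_c7 LD2_c47 LD3_c48)) = (LP (LK LD1_c14 LD2_c42 LD3_c47)) :=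
  Lre_d IH (LK LD1_c7 LD2_c47 LD3_c48) (LK LD1_c14 LD2_c42 LD3_c47) Lrfl Lrfl
theorem f483918 : Led Lsl_gf (LP (LK LD1_c14 LD2_c42 LD3_c47)) = (LP (LK LD1_c22 LD2_c17 LD3_c58)) :=
  Lgr Lrot134 (Lpe (f477385 IH) (Lpr_et (f477340 IH) (Lpr_gt (f483564 IH) (Lpe (K5.f103823 IH) (Lpr_dt (K8.f96140 IH) (Lpr_gt (K8.f129417 IH) (Lpe (K4.f9802 IH) (Lpr_et (K4.f103793 IH) (Lpr_gt (f116475 IH) (Lpr_dt (f116476 IH) (Lpn (LP (LK LD1_c22 LD2_c17 LD3_c58)))))))))))))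
theorem f477383 : Led Lsl_dt (LP (LK LD1_c14 LD2_c42 LD3_c47)) = (LP (LK LD1_c7 LD2_c47 LD3_c48)) :=
  Lre_d IH (LK LD1_c14 LD2_c42 LD3_c47) (LK LD1_c7 LD2_c47 LD3_c48) Lrfl Lrfl
theorem f451952 : Led Lsl_bt (LP (LK LD1_c7 LD2_c54 LD3_c28)) = (LP (LK LD1_c3 LD2_c56 LD3_c21)) :=
  Lre_b IH (LK LD1_c7 LD2_c54 LD3_c28) (LK LD1_c3 LD2_c56 LD3_c21) Lrfl Lrfl
theorem f468128 : Led Lsl_bt (LP (LK LD1_c7 LD2_c4 LD3_c35)) = (LP (LK LD1_c13 LD2_c24 LD3_c56)) :=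
  Lre_b IH (LK LD1_c7 LD2_c4 LD3_c35) (LK LD1_c13 LD2_c24 LD3_c56) Lrfl Lrfl
theorem f480168 : Led Lsl_df (LP (LK LD1_c7 LD2_c54 LD3_c28)) = (LP (LK LD1_c13 LD2_c24 LD3_c56)) :=
  Lgr Lrot12 (Lpr_bt (f451952 IH) (Lpr_dt (f480166 IH) (Lpr_bt (f468128 IH) (Lpn (LP (LK LD1_c13 LD2_c24 LD3_c56))))))
theorem f488780 : Led Lsl_gf (LP (LK LD1_c13 LD2_c24 LD3_c56)) = (LP (LK LD1_c22 LD2_c43 LD3_c4)) :=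
  Lgr Lrot143 (Lpe (f480168 IH) (Lpr_cf (f479846 IH) (Lpe (f477383 IH) (Lpr_gf (f483918 IH) (Lpe (f116476 IH) (Lpe (f116475 IH) (Lpe (f116445 IH) (Lpr_gt (f488778 IH) (Lpr_dt (f466325 IH) (Lpn (LP (LK LD1_c22 LD2_c43 LD3_c4))))))))))))
theorem f480170 : Led Lsl_df (LP (LK LD1_c3 LD2_c56 LD3_c21)) = (LP (LK LD1_c7 LD2_c4 LD3_c35)) :=
  Lgr Lrot38 (Lpr_dt (f480166 IH) (Lpn (LP (LK LD1_c7 LD2_c4 LD3_c35))))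
theorem f459267 : Led Lsl_bt (LP (LK LD1_c13 LD2_c24 LD3_c56)) = (LP (LK LD1_c7 LD2_c4 LD3_c35)) :=
  Lre_b IH (LK LD1_c13 LD2_c24 LD3_c56) (LK LD1_c7 LD2_c4 LD3_c35) Lrfl Lrfl
theorem f480416 : Led Lsl_dt (LP (LK LD1_c7 LD2_c54 LD3_c28)) = (LP (LK LD1_c13 LD2_c24 LD3_c56)) :=
  Lgr Lrot79 (Lpe (f464662 IH) (Lpr_df (f480170 IH) (Lpe (f459267 IH) (Lpn (LP (LK LD1_c13 LD2_c24 LD3_c56))))))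
theorem f488784 : Led Lsl_gf (LP (LK LD1_c7 LD2_c49 LD3_c42)) = (LP (LK LD1_c7 LD2_c51 LD3_c24)) :=
  Lgr Lrot141 (Lpe (f129405 IH) (Lpr_dt (K8.f129401 IH) (Lpe (K8.f124008 IH) (Lpe (K5.f116459 IH) (Lpr_et (f116461 IH) (Lpr_gt (f488778 IH) (Lpr_dt (f466325 IH) (Lpe (f488780 IH) (Lpe (f480416 IH) (Lpr_et (f480185 IH) (Lpn (LP (LK LD1_c7 LD2_c51 LD3_c24)))))))))))))
theorem f136385 : Led Lsl_ct (LP (LK LD1_c7 LD2_c49 LD3_c42)) = (LP (LK LD1_c14 LD2_c46 LD3_c5)) :=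
  Lre_c IH (LK LD1_c7 LD2_c49 LD3_c42) (LK LD1_c14 LD2_c46 LD3_c5) Lrfl Lrfl
theorem f480177 : Led Lsl_bt (LP (LK LD1_c3 LD2_c54 LD3_c51)) = (LP (LK LD1_c7 LD2_c51 LD3_c24)) :=
  Lre_b IH (LK LD1_c3 LD2_c54 LD3_c51) (LK LD1_c7 LD2_c51 LD3_c24) Lrfl Lrfl
theorem f96975 : Led Lsl_et (LP (LK LD1_c1 LD2_c39 LD3_c61)) = (LP (LK LD1_c3 LD2_c26 LD3_c39)) :=
  Lre_e IH (LK LD1_c1 LD2_c39 LD3_c61) (LK LD1_c3 LD2_c26 LD3_c39) Lrfl Lrfl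
theorem f125196 : Led Lsl_gt (LP (LK LD1_c6 LD2_c55 LD3_c7)) = (LP (LK LD1_c3 LD2_c26 LD3_c39)) :=
  Lre_g IH (LK LD1_c6 LD2_c55 LD3_c7) (LK LD1_c3 LD2_c26 LD3_c39) Lrfl Lrfl
theorem f480253 : Led Lsl_et (LP (LK LD1_c6 LD2_c57 LD3_c42)) = (LP (LK LD1_c6 LD2_c55 LD3_c7)) :=
  Lgr Lrot185 (Lpr_dt (f98821 IH) (Lpr_gf (f480249 IH) (Lpe (f106216 IH) (Lpe (f106211 IH) (Lpe (K4.f87520 IH) (Lpr_dt (K4.f21167 IH) (Lpe (K6.f21159 IH) (Lpe (K6.f142714 IH) (Lpr_et (f96975 IH) (Lpe (f125196 IH) (Lpn (LP (LK LD1_c6 LD2_c55 LD3_c7)))))))))))))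
theorem f480257 : Led Lsl_ef (LP (LK LD1_c6 LD2_c57 LD3_c42)) = (LP (LK LD1_c6 LD2_c55 LD3_c7)) :=
  Lgr Lrot88 (Lpr_et (f480253 IH) (Lpn (LP (LK LD1_c6 LD2_c55 LD3_c7))))
theorem f480259 : Led Lsl_ct (LP (LK LD1_c3 LD2_c54 LD3_c51)) = (LP (LK LD1_c6 LD2_c55 LD3_c7)) :=
  Lgr Lrot15 (Lpe (f480175 IH) (Lpe (f464630 IH) (Lpr_ef (f480257 IH) (Lpn (LP (LK LD1_c6 LD2_c55 LD3_c7))))))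
theorem f476896 : Led Lsl_gt (LP (LK LD1_c3 LD2_c26 LD3_c46)) = (LP (LK LD1_c6 LD2_c55 LD3_c7)) :=
  Lre_g IH (LK LD1_c3 LD2_c26 LD3_c46) (LK LD1_c6 LD2_c55 LD3_c7) Lrfl Lrfl
theorem f480809 : Led Lsl_bt (LP (LK LD1_c3 LD2_c55 LD3_c22)) = (LP (LK LD1_c7 LD2_c52 LD3_c34)) :=
  Lre_b IH (LK LD1_c3 LD2_c55 LD3_c22) (LK LD1_c7 LD2_c52 LD3_c34) Lrfl Lrfl
theorem f480890 : Led Lsl_gt (LP (LK LD1_c14 LD2_c51 LD3_c26)) = (LP (LK LD1_c7 LD2_c52 LD3_c34)) :=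
  Lre_g IH (LK LD1_c14 LD2_c51 LD3_c26) (LK LD1_c7 LD2_c52 LD3_c34) Lrfl Lrfl
theorem f482915 : Led Lsl_ct (LP (LK LD1_c1 LD2_c51 LD3_c23)) = (LP (LK LD1_c3 LD2_c26 LD3_c21)) :=
  Lgr Lrot15 (Lpe (K29.f64642 IH) (Lpr_cf (K29.f482909 IH) (Lpe (K29.f481701 IH) (Lpn (LP (LK LD1_c3 LD2_c26 LD3_c21))))))
theorem f486244 : Led Lsl_bt (LP (LK LD1_c3 LD2_c48 LD3_c46)) = (LP (LK LD1_c1 LD2_c51 LD3_c23)) :=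
  Lre_b IH (LK LD1_c3 LD2_c48 LD3_c46) (LK LD1_c1 LD2_c51 LD3_c23) Lrfl Lrfl
theorem f486245 : Led Lsl_cf (LP (LK LD1_c3 LD2_c48 LD3_c46)) = (LP (LK LD1_c7 LD2_c6 LD3_c44)) :=
  Lgr Lrot97 (Lpr_bt (f486244 IH) (Lpr_ct (f482915 IH) (Lpr_bt (f481699 IH) (Lpr_ct (K28.f10827 IH) (Lpr_bt (K29.f6627 IH) (Lpn (LP (LK LD1_c7 LD2_c6 LD3_c44))))))))
theorem f64768 : Led Lsl_gt (LP (LK LD1_c3 LD2_c48 LD3_c46)) = (LP (LK LD1_c7 LD2_c38 LD3_c38)) :=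
  Lre_g IH (LK LD1_c3 LD2_c48 LD3_c46) (LK LD1_c7 LD2_c38 LD3_c38) Lrfl Lrfl
theorem f486317 : Led Lsl_ct (LP (LK LD1_c14 LD2_c24 LD3_c22)) = (LP (LK LD1_c7 LD2_c38 LD3_c38)) :=
  Lre_c IH (LK LD1_c14 LD2_c24 LD3_c22) (LK LD1_c7 LD2_c38 LD3_c38) Lrfl Lrfl
theorem f467014 : Led Lsl_bt (LP (LK LD1_c3 LD2_c36 LD3_c20)) = (LP (LK LD1_c7 LD2_c13 LD3_c2)) :=
  Lre_b IH (LK LD1_c3 LD2_c36 LD3_c20) (LK LD1_c7 LD2_c13 LD3_c2) Lrfl Lrfl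
theorem f467012 : Led Lsl_gt (LP (LK LD1_c13 LD2_c39 LD3_c41)) = (LP (LK LD1_c7 LD2_c13 LD3_c2)) :=
  Lre_g IH (LK LD1_c13 LD2_c39 LD3_c41) (LK LD1_c7 LD2_c13 LD3_c2) Lrfl Lrfl
theorem f486353 : Led Lsl_bt (LP (LK LD1_c14 LD2_c24 LD3_c22)) = (LP (LK LD1_c13 LD2_c39 LD3_c41)) :=
  Lgr Lrot22 (Lpr_ct (f486317 IH) (Lpe (f64768 IH) (Lpr_cf (f486245 IH) (Lpr_gf (K29.f477648 IH) (Lpe (K29.f97936 IH) (Lpr_ct (K29.f98003 IH) (Lpe (K29.f87149 IH) (Lpe (K29.f477619 IH) (Lpr_bt (f467014 IH) (Lpe (f467012 IH) (Lpn (LP (LK LD1_c13 LD2_c39 LD3_c41)))))))))))))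
theorem f486247 : Led Lsl_cf (LP (LK LD1_c1 LD2_c51 LD3_c23)) = (LP (LK LD1_c3 LD2_c26 LD3_c21)) :=
  Lgr Lrot11 (Lpr_ct (f482915 IH) (Lpn (LP (LK LD1_c3 LD2_c26 LD3_c21))))
theorem f485565 : Led Lsl_bt (LP (LK LD1_c1 LD2_c51 LD3_c23)) = (LP (LK LD1_c3 LD2_c48 LD3_c46)) :=
  Lre_b IH (LK LD1_c1 LD2_c51 LD3_c23) (LK LD1_c3 LD2_c48 LD3_c46) Lrfl Lrfl
theorem f442170 : Led Lsl_bt (LP (LK LD1_c7 LD2_c6 LD3_c44)) = (LP (LK LD1_c3 LD2_c32 LD3_c53)) :=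
  Lre_b IH (LK LD1_c7 LD2_c6 LD3_c44) (LK LD1_c3 LD2_c32 LD3_c53) Lrfl Lrfl
theorem f486265 : Led Lsl_ct (LP (LK LD1_c3 LD2_c48 LD3_c46)) = (LP (LK LD1_c7 LD2_c6 LD3_c44)) :=
  Lgr Lrot83 (Lpe (f485565 IH) (Lpr_cf (f486247 IH) (Lpr_bf (K29.f481703 IH) (Lpe (K28.f6626 IH) (Lpe (f442170 IH) (Lpn (LP (LK LD1_c7 LD2_c6 LD3_c44))))))))
theorem f87688 : Led Lsl_bt (LP (LK LD1_c1 LD2_c51 LD3_c19)) = (LP (LK LD1_c0 LD2_c52 LD3_c32)) :=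
  Lre_b IH (LK LD1_c1 LD2_c51 LD3_c19) (LK LD1_c0 LD2_c52 LD3_c32) Lrfl Lrfl
theorem f129940 : Led Lsl_ct (LP (LK LD1_c1 LD2_c51 LD3_c19)) = (LP (LK LD1_c3 LD2_c48 LD3_c13)) :=
  Lre_c IH (LK LD1_c1 LD2_c51 LD3_c19) (LK LD1_c3 LD2_c48 LD3_c13) Lrfl Lrfl
theorem f116718 : Led Lsl_gt (LP (LK LD1_c7 LD2_c37 LD3_c27)) = (LP (LK LD1_c3 LD2_c48 LD3_c13)) :=
  Lre_g IH (LK LD1_c7 LD2_c37 LD3_c27) (LK LD1_c3 LD2_c48 LD3_c13) Lrfl Lrfl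
theorem f478227 : Led Lsl_ct (LP (LK LD1_c13 LD2_c45 LD3_c49)) = (LP (LK LD1_c13 LD2_c28 LD3_c36)) :=
  Lgr Lrot40 (Lpr_ff (K29.f478123 IH) (Lpr_cf (K29.f98007 IH) (Lpe (K29.f478052 IH) (Lpn (LP (LK LD1_c13 LD2_c28 LD3_c36))))))
theorem f12046 : Led Lsl_ft (LP (LK LD1_c13 LD2_c10 LD3_c33)) = (LP (LK LD1_c6 LD2_c56 LD3_c16)) :=
  Lre_f IH (LK LD1_c13 LD2_c10 LD3_c33) (LK LD1_c6 LD2_c56 LD3_c16) Lrfl Lrfl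
theorem f478225 : Led Lsl_bt (LP (LK LD1_c13 LD2_c45 LD3_c49)) = (LP (LK LD1_c13 LD2_c10 LD3_c33)) :=
  Lgr Lrot35 (Lpr_ff (K29.f478123 IH) (Lpe (K3.f97851 IH) (Lpe (f12046 IH) (Lpn (LP (LK LD1_c13 LD2_c10 LD3_c33))))))
theorem f486275 : Led Lsl_gt (LP (LK LD1_c13 LD2_c10 LD3_c33)) = (LP (LK LD1_c6 LD2_c56 LD3_c18)) :=
  Lre_g IH (LK LD1_c13 LD2_c10 LD3_c33) (LK LD1_c6 LD2_c56 LD3_c18) Lrfl Lrfl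
theorem f486276 : Led Lsl_cf (LP (LK LD1_c7 LD2_c37 LD3_c27)) = (LP (LK LD1_c6 LD2_c56 LD3_c18)) :=
  Lgr Lrot125 (Lpr_gt (f116718 IH) (Lpe (f129940 IH) (Lpr_bt (f87688 IH) (Lpr_gt (K5.f62705 IH) (Lpe (f486244 IH) (Lpr_ct (f486265 IH) (Lpr_gt (K29.f442172 IH) (Lpe (f478227 IH) (Lpr_bt (f478225 IH) (Lpr_gt (f486275 IH) (Lpn (LP (LK LD1_c6 LD2_c56 LD3_c18)))))))))))))
theorem f96374 : Led Lsl_gt (LP (LK LD1_c3 LD2_c50 LD3_c10)) = (LP (LK LD1_c7 LD2_c40 LD3_c61)) :=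
  Lre_g IH (LK LD1_c3 LD2_c50 LD3_c10) (LK LD1_c7 LD2_c40 LD3_c61) Lrfl Lrfl
theorem f486284 : Led Lsl_bf (LP (LK LD1_c7 LD2_c40 LD3_c61)) = (LP (LK LD1_c6 LD2_c56 LD3_c18)) :=
  Lgr Lrot34 (Lpe (f96374 IH) (Lpe (K7.f84952 IH) (Lpr_ct (f84947 IH) (Lpr_gf (K29.f440835 IH) (Lpe (f482915 IH) (Lpe (K5.f62705 IH) (Lpe (f87688 IH) (Lpr_ct (f129940 IH) (Lpe (f116718 IH) (Lpr_cf (f486276 IH) (Lpn (LP (LK LD1_c6 LD2_c56 LD3_c18)))))))))))))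
theorem f486286 : Led Lsl_bt (LP (LK LD1_c7 LD2_c40 LD3_c61)) = (LP (LK LD1_c6 LD2_c56 LD3_c18)) :=
  Lgr Lrot127 (Lpr_bf (f486284 IH) (Lpn (LP (LK LD1_c6 LD2_c56 LD3_c18))))
theorem f142616 : Led Lsl_ct (LP (LK LD1_c7 LD2_c40 LD3_c61)) = (LP (LK LD1_c14 LD2_c29 LD3_c0)) :=
  Lre_c IH (LK LD1_c7 LD2_c40 LD3_c61) (LK LD1_c14 LD2_c29 LD3_c0) Lrfl Lrfl
theorem f11999 : Led Lsl_gt (LP (LK LD1_c6 LD2_c56 LD3_c18)) = (LP (LK LD1_c3 LD2_c27 LD3_c12)) :=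
  Lre_g IH (LK LD1_c6 LD2_c56 LD3_c18) (LK LD1_c3 LD2_c27 LD3_c12) Lrfl Lrfl
theorem f11993 : Led Lsl_gt (LP (LK LD1_c1 LD2_c50 LD3_c41)) = (LP (LK LD1_c3 LD2_c47 LD3_c8)) :=
  Lre_g IH (LK LD1_c1 LD2_c50 LD3_c41) (LK LD1_c3 LD2_c47 LD3_c8) Lrfl Lrfl
theorem f123435 : Led Lsl_ct (LP (LK LD1_c7 LD2_c51 LD3_c17)) = (LP (LK LD1_c14 LD2_c48 LD3_c60)) :=
  Lre_c IH (LK LD1_c7 LD2_c51 LD3_c17) (LK LD1_c14 LD2_c48 LD3_c60) Lrfl Lrfl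
theorem f117331 : Led Lsl_ct (LP (LK LD1_c3 LD2_c50 LD3_c8)) = (LP (LK LD1_c7 LD2_c41 LD3_c21)) :=
  Lre_c IH (LK LD1_c3 LD2_c50 LD3_c8) (LK LD1_c7 LD2_c41 LD3_c21) Lrfl Lrfl
theorem f117332 : Led Lsl_bt (LP (LK LD1_c7 LD2_c41 LD3_c20)) = (LP (LK LD1_c3 LD2_c50 LD3_c8)) :=
  Lre_b IH (LK LD1_c7 LD2_c41 LD3_c20) (LK LD1_c3 LD2_c50 LD3_c8) Lrfl Lrfl
theorem f485140 : Led Lsl_ct (LP (LK LD1_c14 LD2_c29 LD3_c33)) = (LP (LK LD1_c7 LD2_c41 LD3_c20)) :=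
  Lre_c IH (LK LD1_c14 LD2_c29 LD3_c33) (LK LD1_c7 LD2_c41 LD3_c20) Lrfl Lrfl
theorem f485141 : Led Lsl_bt (LP (LK LD1_c14 LD2_c48 LD3_c60)) = (LP (LK LD1_c14 LD2_c29 LD3_c33)) :=
  Lgr Lrot128 (Lpe (f123435 IH) (Lpr_bf (f485136 IH) (Lpe (f117331 IH) (Lpe (f117332 IH) (Lpe (f485140 IH) (Lpn (LP (LK LD1_c14 LD2_c29 LD3_c33))))))))
theorem f123440 : Led Lsl_ct (LP (LK LD1_c14 LD2_c48 LD3_c60)) = (LP (LK LD1_c7 LD2_c51 LD3_c17)) :=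
  Lre_c IH (LK LD1_c14 LD2_c48 LD3_c60) (LK LD1_c7 LD2_c51 LD3_c17) Lrfl Lrfl
theorem f84776 : Led Lsl_at (LP (LK LD1_c1 LD2_c54 LD3_c3)) = (LP (LK LD1_c0 LD2_c53 LD3_c44)) :=
  Lre_a IH (LK LD1_c1 LD2_c54 LD3_c3) (LK LD1_c0 LD2_c53 LD3_c44) Lrfl Lrfl
theorem f145413 : Led Lsl_bf (LP (LK LD1_c1 LD2_c54 LD3_c3)) = (LP (LK LD1_c1 LD2_c54 LD3_c3)) :=
  Lgr Lrot81 (Lpr_at (f84776 IH) (Lpr_bt (K29.f84796 IH) (Lpr_at (K6.f145407 IH) (Lpr_bt (K6.f84780 IH) (Lpr_at (K5.f84792 IH) (Lpn (LP (LK LD1_c1 LD2_c54 LD3_c3))))))))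
theorem f84901 : Led Lsl_dt (LP (LK LD1_c1 LD2_c54 LD3_c3)) = (LP (LK LD1_c0 LD2_c53 LD3_c37)) :=
  Lre_d IH (LK LD1_c1 LD2_c54 LD3_c3) (LK LD1_c0 LD2_c53 LD3_c37) Lrfl Lrfl
theorem f437621 : Led Lsl_bt (LP (LK LD1_c0 LD2_c53 LD3_c37)) = (LP (LK LD1_c0 LD2_c53 LD3_c37)) :=
  Lgr Lrot95 (Lpe (f84901 IH) (Lpr_bf (f145413 IH) (Lpe (K5.f84894 IH) (Lpn (LP (LK LD1_c0 LD2_c53 LD3_c37))))))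
theorem f437019 : Led Lsl_ct (LP (LK LD1_c0 LD2_c53 LD3_c37)) = (LP (LK LD1_c1 LD2_c54 LD3_c0)) :=
  Lre_c IH (LK LD1_c0 LD2_c53 LD3_c37) (LK LD1_c1 LD2_c54 LD3_c0) Lrfl Lrfl
theorem f437625 : Led Lsl_cf (LP (LK LD1_c3 LD2_c54 LD3_c49)) = (LP (LK LD1_c3 LD2_c54 LD3_c49)) :=
  Lgr Lrot97 (Lpr_bt (f122759 IH) (Lpr_ct (f437018 IH) (Lpr_bt (f437621 IH) (Lpr_ct (f437019 IH) (Lpr_bt (f123196 IH) (Lpn (LP (LK LD1_c3 LD2_c54 LD3_c49))))))))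
theorem f123175 : Led Lsl_at (LP (LK LD1_c3 LD2_c54 LD3_c53)) = (LP (LK LD1_c1 LD2_c54 LD3_c14)) :=
  Lre_a IH (LK LD1_c3 LD2_c54 LD3_c53) (LK LD1_c1 LD2_c54 LD3_c14) Lrfl Lrfl
theorem f134757 : Led Lsl_ft (LP (LK LD1_c1 LD2_c54 LD3_c0)) = (LP (LK LD1_c3 LD2_c54 LD3_c53)) :=
  Lre_f IH (LK LD1_c1 LD2_c54 LD3_c0) (LK LD1_c3 LD2_c54 LD3_c53) Lrfl Lrfl
theorem f456232 : Led Lsl_gf (LP (LK LD1_c3 LD2_c37 LD3_c17)) = (LP (LK LD1_c1 LD2_c54 LD3_c0)) :=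
  Lgr Lrot47 (Lpr_gt (K29.f456230 IH) (Lpe (f123175 IH) (Lpe (f134757 IH) (Lpn (LP (LK LD1_c1 LD2_c54 LD3_c0))))))
theorem f456234 : Led Lsl_ct (LP (LK LD1_c3 LD2_c37 LD3_c17)) = (LP (LK LD1_c1 LD2_c45 LD3_c31)) :=
  Lre_c IH (LK LD1_c3 LD2_c37 LD3_c17) (LK LD1_c1 LD2_c45 LD3_c31) Lrfl Lrfl
theorem f439093 : Led Lsl_bt (LP (LK LD1_c1 LD2_c40 LD3_c7)) = (LP (LK LD1_c3 LD2_c26 LD3_c46)) :=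
  Lre_b IH (LK LD1_c1 LD2_c40 LD3_c7) (LK LD1_c3 LD2_c26 LD3_c46) Lrfl Lrfl
theorem f480727 : Led Lsl_gf (LP (LK LD1_c3 LD2_c26 LD3_c46)) = (LP (LK LD1_c1 LD2_c45 LD3_c31)) :=
  Lgr Lrot124 (Lpe (f439093 IH) (Lpr_ct (K29.f439091 IH) (Lpe (K29.f439088 IH) (Lpr_cf (K29.f480716 IH) (Lpr_bt (K29.f479191 IH) (Lpr_gt (K29.f87149 IH) (Lpe (K29.f97025 IH) (Lpe (K29.f478142 IH) (Lpe (K29.f6644 IH) (Lpr_bt (K29.f456854 IH) (Lpn (LP (LK LD1_c1 LD2_c45 LD3_c31)))))))))))))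
theorem f485345 : Led Lsl_gt (LP (LK LD1_c7 LD2_c52 LD3_c34)) = (LP (LK LD1_c14 LD2_c29 LD3_c33)) :=
  Lgr Lrot164 (Lpe (f480809 IH) (Lpe (K29.f480812 IH) (Lpr_gf (f480727 IH) (Lpe (f456234 IH) (Lpr_gf (f456232 IH) (Lpe (f122759 IH) (Lpe (f437625 IH) (Lpe (f123429 IH) (Lpe (f123440 IH) (Lpr_bt (f485141 IH) (Lpn (LP (LK LD1_c14 LD2_c29 LD3_c33)))))))))))))
theorem f480843 : Led Lsl_ff (LP (LK LD1_c6 LD2_c55 LD3_c14)) = (LP (LK LD1_c7 LD2_c52 LD3_c34)) :=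
  Lgr Lrot25 (Lpr_bt (f132225 IH) (Lpr_ft (f480841 IH) (Lpr_bt (f480809 IH) (Lpn (LP (LK LD1_c7 LD2_c52 LD3_c34))))))
theorem f440300 : Led Lsl_ft (LP (LK LD1_c3 LD2_c26 LD3_c50)) = (LP (LK LD1_c6 LD2_c55 LD3_c28)) :=
  Lre_f IH (LK LD1_c3 LD2_c26 LD3_c50) (LK LD1_c6 LD2_c55 LD3_c28) Lrfl Lrfl
theorem f480891 : Led Lsl_ct (LP (LK LD1_c6 LD2_c55 LD3_c28)) = (LP (LK LD1_c7 LD2_c52 LD3_c34)) :=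
  Lgr Lrot40 (Lpe (f440300 IH) (Lpe (f476765 IH) (Lpr_ff (f480843 IH) (Lpn (LP (LK LD1_c7 LD2_c52 LD3_c34))))))
theorem f439092 : Led Lsl_bt (LP (LK LD1_c6 LD2_c55 LD3_c28)) = (LP (LK LD1_c3 LD2_c26 LD3_c55)) :=
  Lre_b IH (LK LD1_c6 LD2_c55 LD3_c28) (LK LD1_c3 LD2_c26 LD3_c55) Lrfl Lrfl
theorem f12222 : Led Lsl_ct (LP (LK LD1_c0 LD2_c53 LD3_c52)) = (LP (LK LD1_c1 LD2_c54 LD3_c28)) :=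
  Lre_c IH (LK LD1_c0 LD2_c53 LD3_c52) (LK LD1_c1 LD2_c54 LD3_c28) Lrfl Lrfl
theorem f476783 : Led Lsl_ft (LP (LK LD1_c1 LD2_c54 LD3_c28)) = (LP (LK LD1_c3 LD2_c37 LD3_c58)) :=
  Lgr Lrot4 (Lpe (f12222 IH) (Lpr_ff (K29.f476779 IH) (Lpe (K29.f456658 IH) (Lpn (LP (LK LD1_c3 LD2_c37 LD3_c58))))))
theorem f12224 : Led Lsl_gt (LP (LK LD1_c1 LD2_c54 LD3_c28)) = (LP (LK LD1_c3 LD2_c55 LD3_c43)) :=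
  Lre_g IH (LK LD1_c1 LD2_c54 LD3_c28) (LK LD1_c3 LD2_c55 LD3_c43) Lrfl Lrfl
theorem f136649 : Led Lsl_ct (LP (LK LD1_c3 LD2_c26 LD3_c55)) = (LP (LK LD1_c1 LD2_c40 LD3_c7)) :=
  Lre_c IH (LK LD1_c3 LD2_c26 LD3_c55) (LK LD1_c1 LD2_c40 LD3_c7) Lrfl Lrfl
theorem f476776 : Led Lsl_af (LP (LK LD1_c3 LD2_c26 LD3_c55)) = (LP (LK LD1_c3 LD2_c37 LD3_c58)) :=
  Lgr Lrot68 (Lpr_ct (f136649 IH) (Lpr_at (K29.f476771 IH) (Lpr_ct (K29.f450899 IH) (Lpn (LP (LK LD1_c3 LD2_c37 LD3_c58))))))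
theorem f477155 : Led Lsl_gt (LP (LK LD1_c3 LD2_c55 LD3_c43)) = (LP (LK LD1_c3 LD2_c26 LD3_c55)) :=
  Lgr Lrot46 (Lpe (f12224 IH) (Lpr_ft (f476783 IH) (Lpe (f476776 IH) (Lpn (LP (LK LD1_c3 LD2_c26 LD3_c55))))))
theorem f12242 : Led Lsl_bt (LP (LK LD1_c7 LD2_c53 LD3_c11)) = (LP (LK LD1_c3 LD2_c55 LD3_c43)) :=
  Lre_b IH (LK LD1_c7 LD2_c53 LD3_c11) (LK LD1_c3 LD2_c55 LD3_c43) Lrfl Lrfl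
theorem f117333 : Led Lsl_ct (LP (LK LD1_c7 LD2_c41 LD3_c20)) = (LP (LK LD1_c14 LD2_c29 LD3_c33)) :=
  Lre_c IH (LK LD1_c7 LD2_c41 LD3_c20) (LK LD1_c14 LD2_c29 LD3_c33) Lrfl Lrfl
theorem f485352 : Led Lsl_ct (LP (LK LD1_c7 LD2_c53 LD3_c11)) = (LP (LK LD1_c7 LD2_c41 LD3_c4)) :=
  Lgr Lrot63 (Lpr_bt (f12242 IH) (Lpr_gt (f477155 IH) (Lpe (f439092 IH) (Lpr_ct (f480891 IH) (Lpr_gt (f485345 IH) (Lpe (f117333 IH) (Lpr_bt (f117332 IH) (Lpr_gt (f96464 IH) (Lpr_ct (K8.f84939 IH) (Lpr_gt (f96382 IH) (Lpn (LP (LK LD1_c7 LD2_c41 LD3_c4)))))))))))))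
theorem f485355 : Led Lsl_cf (LP (LK LD1_c7 LD2_c53 LD3_c11)) = (LP (LK LD1_c7 LD2_c41 LD3_c4)) :=
  Lgr Lrot11 (Lpr_ct (f485352 IH) (Lpn (LP (LK LD1_c7 LD2_c41 LD3_c4))))
theorem f485358 : Led Lsl_gt (LP (LK LD1_c7 LD2_c53 LD3_c11)) = (LP (LK LD1_c14 LD2_c52 LD3_c37)) :=
  Lre_g IH (LK LD1_c7 LD2_c53 LD3_c11) (LK LD1_c14 LD2_c52 LD3_c37) Lrfl Lrfl
theorem f484756 : Led Lsl_bt (LP (LK LD1_c3 LD2_c48 LD3_c49)) = (LP (LK LD1_c1 LD2_c51 LD3_c24)) :=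
  Lre_b IH (LK LD1_c3 LD2_c48 LD3_c49) (LK LD1_c1 LD2_c51 LD3_c24) Lrfl Lrfl
theorem f484758 : Led Lsl_bt (LP (LK LD1_c3 LD2_c53 LD3_c57)) = (LP (LK LD1_c7 LD2_c38 LD3_c47)) :=
  Lgr Lrot128 (Lpe (f484137 IH) (Lpe (f484524 IH) (Lpr_cf (f484531 IH) (Lpe (f484756 IH) (Lpe (f484757 IH) (Lpn (LP (LK LD1_c7 LD2_c38 LD3_c47))))))))
theorem f484775 : Led Lsl_gt (LP (LK LD1_c14 LD2_c24 LD3_c41)) = (LP (LK LD1_c7 LD2_c38 LD3_c47)) :=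
  Lre_g IH (LK LD1_c14 LD2_c24 LD3_c41) (LK LD1_c7 LD2_c38 LD3_c47) Lrfl Lrfl
theorem f484784 : Led Lsl_bt (LP (LK LD1_c24 LD2_c3 LD3_c45)) = (LP (LK LD1_c14 LD2_c24 LD3_c41)) :=
  Lre_b IH (LK LD1_c24 LD2_c3 LD3_c45) (LK LD1_c14 LD2_c24 LD3_c41) Lrfl Lrfl
theorem f485408 : Led Lsl_cf (LP (LK LD1_c14 LD2_c52 LD3_c37)) = (LP (LK LD1_c24 LD2_c3 LD3_c45)) :=
  Lgr Lrot163 (Lpe (f485358 IH) (Lpr_cf (f485355 IH) (Lpe (f96382 IH) (Lpe (K7.f96368 IH) (Lpr_ct (K5.f96342 IH) (Lpe (f484520 IH) (Lpe (f484800 IH) (Lpr_bt (f484758 IH) (Lpe (f484775 IH) (Lpe (f484784 IH) (Lpn (LP (LK LD1_c24 LD2_c3 LD3_c45)))))))))))))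
theorem f460800 : Led Lsl_et (LP (LK LD1_c3 LD2_c53 LD3_c57)) = (LP (LK LD1_c7 LD2_c49 LD3_c32)) :=
  Lre_e IH (LK LD1_c3 LD2_c53 LD3_c57) (LK LD1_c7 LD2_c49 LD3_c32) Lrfl Lrfl
theorem f484805 : Led Lsl_et (LP (LK LD1_c14 LD2_c24 LD3_c43)) = (LP (LK LD1_c7 LD2_c38 LD3_c47)) :=
  Lre_e IH (LK LD1_c14 LD2_c24 LD3_c43) (LK LD1_c7 LD2_c38 LD3_c47) Lrfl Lrfl
theorem f484806 : Led Lsl_bt (LP (LK LD1_c7 LD2_c49 LD3_c32)) = (LP (LK LD1_c14 LD2_c24 LD3_c43)) :=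
  Lgr Lrot119 (Lpe (f460800 IH) (Lpr_bf (f484782 IH) (Lpe (f484805 IH) (Lpn (LP (LK LD1_c14 LD2_c24 LD3_c43))))))
theorem f145346 : Led Lsl_et (LP (LK LD1_c7 LD2_c49 LD3_c32)) = (LP (LK LD1_c3 LD2_c53 LD3_c57)) :=
  Lre_e IH (LK LD1_c7 LD2_c49 LD3_c32) (LK LD1_c3 LD2_c53 LD3_c57) Lrfl Lrfl
theorem f458255 : Led Lsl_dt (LP (LK LD1_c3 LD2_c31 LD3_c27)) = (LP (LK LD1_c7 LD2_c4 LD3_c34)) :=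
  Lre_d IH (LK LD1_c3 LD2_c31 LD3_c27) (LK LD1_c7 LD2_c4 LD3_c34) Lrfl Lrfl
theorem f458268 : Led Lsl_gt (LP (LK LD1_c7 LD2_c4 LD3_c34)) = (LP (LK LD1_c13 LD2_c24 LD3_c52)) :=
  Lre_g IH (LK LD1_c7 LD2_c4 LD3_c34) (LK LD1_c13 LD2_c24 LD3_c52) Lrfl Lrfl
theorem f460759 : Led Lsl_dt (LP (LK LD1_c7 LD2_c49 LD3_c32)) = (LP (LK LD1_c13 LD2_c24 LD3_c52)) :=
  Lgr Lrot56 (Lpr_et (f145346 IH) (Lpr_gt (f437669 IH) (Lpe (f134732 IH) (Lpr_dt (K5.f134727 IH) (Lpr_gt (K6.f142325 IH) (Lpe (K7.f124022 IH) (Lpr_et (K8.f124030 IH) (Lpr_gt (K24.f460754 IH) (Lpr_dt (f458255 IH) (Lpr_gt (f458268 IH) (Lpn (LP (LK LD1_c13 LD2_c24 LD3_c52)))))))))))))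
theorem f460798 : Led Lsl_df (LP (LK LD1_c7 LD2_c49 LD3_c32)) = (LP (LK LD1_c13 LD2_c24 LD3_c52)) :=
  Lgr Lrot38 (Lpr_dt (f460759 IH) (Lpn (LP (LK LD1_c13 LD2_c24 LD3_c52))))
theorem f460828 : Led Lsl_bt (LP (LK LD1_c22 LD2_c43 LD3_c16)) = (LP (LK LD1_c13 LD2_c24 LD3_c52)) :=
  Lre_b IH (LK LD1_c22 LD2_c43 LD3_c16) (LK LD1_c13 LD2_c24 LD3_c52) Lrfl Lrfl
theorem f484990 : Led Lsl_df (LP (LK LD1_c22 LD2_c43 LD3_c16)) = (LP (LK LD1_c14 LD2_c24 LD3_c43)) :=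
  Lgr Lrot12 (Lpr_bt (f460828 IH) (Lpe (f460798 IH) (Lpr_bt (f484806 IH) (Lpn (LP (LK LD1_c14 LD2_c24 LD3_c43))))))
theorem f484992 : Led Lsl_dt (LP (LK LD1_c22 LD2_c43 LD3_c16)) = (LP (LK LD1_c14 LD2_c24 LD3_c43)) :=
  Lgr Lrot42 (Lpr_df (f484990 IH) (Lpn (LP (LK LD1_c14 LD2_c24 LD3_c43))))
theorem f484754 : Led Lsl_ct (LP (LK LD1_c7 LD2_c38 LD3_c49)) = (LP (LK LD1_c14 LD2_c24 LD3_c43)) :=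
  Lre_c IH (LK LD1_c7 LD2_c38 LD3_c49) (LK LD1_c14 LD2_c24 LD3_c43) Lrfl Lrfl
theorem f484792 : Led Lsl_dt (LP (LK LD1_c14 LD2_c24 LD3_c48)) = (LP (LK LD1_c7 LD2_c38 LD3_c49)) :=
  Lre_d IH (LK LD1_c14 LD2_c24 LD3_c48) (LK LD1_c7 LD2_c38 LD3_c49) Lrfl Lrfl
theorem f108739 : Led Lsl_et (LP (LK LD1_c1 LD2_c40 LD3_c2)) = (LP (LK LD1_c3 LD2_c26 LD3_c50)) :=
  Lre_e IH (LK LD1_c1 LD2_c40 LD3_c2) (LK LD1_c3 LD2_c26 LD3_c50) Lrfl Lrfl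
theorem f111381 : Led Lsl_gt (LP (LK LD1_c7 LD2_c32 LD3_c12)) = (LP (LK LD1_c14 LD2_c12 LD3_c47)) :=
  Lre_g IH (LK LD1_c7 LD2_c32 LD3_c12) (LK LD1_c14 LD2_c12 LD3_c47) Lrfl Lrfl
theorem f111382 : Led Lsl_dt (LP (LK LD1_c14 LD2_c12 LD3_c47)) = (LP (LK LD1_c23 LD2_c47 LD3_c58)) :=
  Lre_d IH (LK LD1_c14 LD2_c12 LD3_c47) (LK LD1_c23 LD2_c47 LD3_c58) Lrfl Lrfl
theorem f484785 : Led Lsl_et (LP (LK LD1_c7 LD2_c38 LD3_c49)) = (LP (LK LD1_c3 LD2_c48 LD3_c49)) :=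
  Lre_e IH (LK LD1_c7 LD2_c38 LD3_c49) (LK LD1_c3 LD2_c48 LD3_c49) Lrfl Lrfl
theorem f484786 : Led Lsl_dt (LP (LK LD1_c7 LD2_c38 LD3_c49)) = (LP (LK LD1_c14 LD2_c24 LD3_c48)) :=
  Lre_d IH (LK LD1_c7 LD2_c38 LD3_c49) (LK LD1_c14 LD2_c24 LD3_c48) Lrfl Lrfl
theorem f484789 : Led Lsl_gt (LP (LK LD1_c23 LD2_c47 LD3_c58)) = (LP (LK LD1_c14 LD2_c24 LD3_c48)) :=
  Lgr Lrot139 (Lpe (f111382 IH) (Lpe (f111381 IH) (Lpe (K4.f103786 IH) (Lpr_dt (K4.f111368 IH) (Lpe (K4.f91287 IH) (Lpe (K5.f108738 IH) (Lpr_et (f108739 IH) (Lpr_gf (f484761 IH) (Lpe (f484785 IH) (Lpr_dt (f484786 IH) (Lpn (LP (LK LD1_c14 LD2_c24 LD3_c48)))))))))))))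
theorem f123733 : Led Lsl_cf (LP (LK LD1_c7 LD2_c32 LD3_c12)) = (LP (LK LD1_c7 LD2_c28 LD3_c34)) :=
  Lgr Lrot11 (Lpr_ct (K24.f123728 IH) (Lpn (LP (LK LD1_c7 LD2_c28 LD3_c34))))
theorem f123727 : Led Lsl_dt (LP (LK LD1_c14 LD2_c6 LD3_c43)) = (LP (LK LD1_c23 LD2_c40 LD3_c45)) :=
  Lre_d IH (LK LD1_c14 LD2_c6 LD3_c43) (LK LD1_c23 LD2_c40 LD3_c45) Lrfl Lrfl
theorem f485015 : Led Lsl_gf (LP (LK LD1_c22 LD2_c43 LD3_c16)) = (LP (LK LD1_c23 LD2_c40 LD3_c45)) :=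
  Lgr Lrot143 (Lpr_dt (f484992 IH) (Lpe (f484754 IH) (Lpe (f484792 IH) (Lpe (f484789 IH) (Lpe (f111382 IH) (Lpe (f111381 IH) (Lpr_cf (f123733 IH) (Lpr_gt (K28.f123722 IH) (Lpr_dt (f123727 IH) (Lpn (LP (LK LD1_c23 LD2_c40 LD3_c45))))))))))))
theorem f123721 : Led Lsl_et (LP (LK LD1_c3 LD2_c43 LD3_c56)) = (LP (LK LD1_c7 LD2_c28 LD3_c34)) :=
  Lre_e IH (LK LD1_c3 LD2_c43 LD3_c56) (LK LD1_c7 LD2_c28 LD3_c34) Lrfl Lrfl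
theorem f123726 : Led Lsl_et (LP (LK LD1_c3 LD2_c54 LD3_c58)) = (LP (LK LD1_c7 LD2_c51 LD3_c34)) :=
  Lre_e IH (LK LD1_c3 LD2_c54 LD3_c58) (LK LD1_c7 LD2_c51 LD3_c34) Lrfl Lrfl
theorem f485017 : Led Lsl_gt (LP (LK LD1_c7 LD2_c38 LD3_c47)) = (LP (LK LD1_c7 LD2_c51 LD3_c34)) :=
  Lgr Lrot131 (Lpe (f484805 IH) (Lpe (f484990 IH) (Lpr_gf (f485015 IH) (Lpe (f123727 IH) (Lpe (K28.f123722 IH) (Lpe (f123721 IH) (Lpr_dt (K32.f123672 IH) (Lpe (K5.f123712 IH) (Lpr_df (K5.f123715 IH) (Lpr_et (f123726 IH) (Lpn (LP (LK LD1_c7 LD2_c51 LD3_c34)))))))))))))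
theorem f123835 : Led Lsl_et (LP (LK LD1_c7 LD2_c51 LD3_c34)) = (LP (LK LD1_c3 LD2_c54 LD3_c58)) :=
  Lre_e IH (LK LD1_c7 LD2_c51 LD3_c34) (LK LD1_c3 LD2_c54 LD3_c58) Lrfl Lrfl
theorem f162031 : Led Lsl_et (LP (LK LD1_c3 LD2_c54 LD3_c9)) = (LP (LK LD1_c7 LD2_c49 LD3_c53)) :=
  Lre_e IH (LK LD1_c3 LD2_c54 LD3_c9) (LK LD1_c7 LD2_c49 LD3_c53) Lrfl Lrfl
theorem f162032 : Led Lsl_bf (LP (LK LD1_c7 LD2_c51 LD3_c34)) = (LP (LK LD1_c7 LD2_c49 LD3_c53)) :=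
  Lgr Lrot96 (Lpr_et (f123835 IH) (Lpr_bt (K8.f162026 IH) (Lpr_et (f162031 IH) (Lpn (LP (LK LD1_c7 LD2_c49 LD3_c53))))))
theorem f425712 : Led Lsl_bt (LP (LK LD1_c7 LD2_c51 LD3_c34)) = (LP (LK LD1_c7 LD2_c49 LD3_c53)) :=
  Lgr Lrot127 (Lpr_bf (f162032 IH) (Lpn (LP (LK LD1_c7 LD2_c49 LD3_c53))))
theorem f159788 : Led Lsl_et (LP (LK LD1_c7 LD2_c51 LD3_c44)) = (LP (LK LD1_c3 LD2_c55 LD3_c1)) :=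
  Lre_e IH (LK LD1_c7 LD2_c51 LD3_c44) (LK LD1_c3 LD2_c55 LD3_c1) Lrfl Lrfl
theorem f162058 : Led Lsl_af (LP (LK LD1_c7 LD2_c51 LD3_c44)) = (LP (LK LD1_c7 LD2_c49 LD3_c53)) :=
  Lgr Lrot50 (Lpr_et (f159788 IH) (Lpr_at (K8.f162053 IH) (Lpr_et (f162031 IH) (Lpn (LP (LK LD1_c7 LD2_c49 LD3_c53))))))
theorem f132142 : Led Lsl_bt (LP (LK LD1_c7 LD2_c51 LD3_c44)) = (LP (LK LD1_c14 LD2_c49 LD3_c43)) :=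
  Lre_b IH (LK LD1_c7 LD2_c51 LD3_c44) (LK LD1_c14 LD2_c49 LD3_c43) Lrfl Lrfl
theorem f123941 : Led Lsl_et (LP (LK LD1_c7 LD2_c49 LD3_c43)) = (LP (LK LD1_c3 LD2_c54 LD3_c3)) :=
  Lre_e IH (LK LD1_c7 LD2_c49 LD3_c43) (LK LD1_c3 LD2_c54 LD3_c3) Lrfl Lrfl
theorem f144994 : Led Lsl_bt (LP (LK LD1_c14 LD2_c28 LD3_c37)) = (LP (LK LD1_c7 LD2_c49 LD3_c43)) :=
  Lgr Lrot119 (Lpe (K8.f144956 IH) (Lpr_bf (K6.f144964 IH) (Lpe (f123941 IH) (Lpn (LP (LK LD1_c7 LD2_c49 LD3_c43))))))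
theorem f425714 : Led Lsl_af (LP (LK LD1_c7 LD2_c51 LD3_c34)) = (LP (LK LD1_c7 LD2_c49 LD3_c43)) :=
  Lgr Lrot36 (Lpr_bt (f425712 IH) (Lpe (f162058 IH) (Lpr_bt (f132142 IH) (Lpr_at (K8.f162066 IH) (Lpr_bt (f144994 IH) (Lpn (LP (LK LD1_c7 LD2_c49 LD3_c43))))))))
theorem f485019 : Led Lsl_ft (LP (LK LD1_c14 LD2_c24 LD3_c41)) = (LP (LK LD1_c7 LD2_c49 LD3_c43)) :=
  Lgr Lrot2 (Lpr_gt (f484775 IH) (Lpr_gt (f485017 IH) (Lpr_af (f425714 IH) (Lpn (LP (LK LD1_c7 LD2_c49 LD3_c43))))))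
theorem f162068 : Led Lsl_af (LP (LK LD1_c14 LD2_c49 LD3_c43)) = (LP (LK LD1_c14 LD2_c28 LD3_c37)) :=
  Lgr Lrot0 (Lpr_at (K8.f162066 IH) (Lpn (LP (LK LD1_c14 LD2_c28 LD3_c37))))
theorem f132138 : Led Lsl_bt (LP (LK LD1_c14 LD2_c49 LD3_c43)) = (LP (LK LD1_c7 LD2_c51 LD3_c44)) :=
  Lre_b IH (LK LD1_c14 LD2_c49 LD3_c43) (LK LD1_c7 LD2_c51 LD3_c44) Lrfl Lrfl
theorem f162060 : Led Lsl_at (LP (LK LD1_c7 LD2_c51 LD3_c44)) = (LP (LK LD1_c7 LD2_c49 LD3_c53)) :=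
  Lgr Lrot100 (Lpr_af (f162058 IH) (Lpn (LP (LK LD1_c7 LD2_c49 LD3_c53))))
theorem f161980 : Led Lsl_at (LP (LK LD1_c7 LD2_c51 LD3_c34)) = (LP (LK LD1_c7 LD2_c49 LD3_c43)) :=
  Lgr Lrot80 (Lpe (f123726 IH) (Lpr_af (K8.f161970 IH) (Lpe (f123941 IH) (Lpn (LP (LK LD1_c7 LD2_c49 LD3_c43))))))
theorem f162082 : Led Lsl_bt (LP (LK LD1_c7 LD2_c49 LD3_c43)) = (LP (LK LD1_c14 LD2_c28 LD3_c37)) :=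
  Lgr Lrot62 (Lpe (f161980 IH) (Lpr_bf (f162032 IH) (Lpe (f162060 IH) (Lpe (f132138 IH) (Lpr_af (f162068 IH) (Lpn (LP (LK LD1_c14 LD2_c28 LD3_c37))))))))
theorem f485023 : Led Lsl_ff (LP (LK LD1_c24 LD2_c3 LD3_c45)) = (LP (LK LD1_c14 LD2_c28 LD3_c37)) :=
  Lgr Lrot25 (Lpr_bt (f484784 IH) (Lpr_ft (f485019 IH) (Lpr_bt (f162082 IH) (Lpn (LP (LK LD1_c14 LD2_c28 LD3_c37))))))
theorem f132139 : Led Lsl_ct (LP (LK LD1_c14 LD2_c49 LD3_c43)) = (LP (LK LD1_c13 LD2_c53 LD3_c53)) :=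
  Lgr Lrot59 (Lpr_cf (K8.f132136 IH) (Lpn (LP (LK LD1_c13 LD2_c53 LD3_c53))))
theorem f162078 : Led Lsl_cf (LP (LK LD1_c14 LD2_c28 LD3_c37)) = (LP (LK LD1_c13 LD2_c7 LD3_c52)) :=
  Lgr Lrot1 (Lpe (f162068 IH) (Lpr_ct (f132139 IH) (Lpr_at (K8.f162072 IH) (Lpn (LP (LK LD1_c13 LD2_c7 LD3_c52))))))
theorem f485416 : Led Lsl_ft (LP (LK LD1_c14 LD2_c52 LD3_c37)) = (LP (LK LD1_c13 LD2_c7 LD3_c52)) :=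
  Lgr Lrot4 (Lpr_cf (f485408 IH) (Lpr_ff (f485023 IH) (Lpr_cf (f162078 IH) (Lpn (LP (LK LD1_c13 LD2_c7 LD3_c52))))))
theorem f144969 : Led Lsl_bt (LP (LK LD1_c13 LD2_c7 LD3_c52)) = (LP (LK LD1_c7 LD2_c35 LD3_c55)) :=
  Lgr Lrot127 (Lpr_bf (K8.f144967 IH) (Lpn (LP (LK LD1_c7 LD2_c35 LD3_c55))))
theorem f144990 : Led Lsl_ft (LP (LK LD1_c7 LD2_c35 LD3_c55)) = (LP (LK LD1_c14 LD2_c19 LD3_c29)) :=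
  Lre_f IH (LK LD1_c7 LD2_c35 LD3_c55) (LK LD1_c14 LD2_c19 LD3_c29) Lrfl Lrfl
theorem f485421 : Led Lsl_bf (LP (LK LD1_c14 LD2_c52 LD3_c37)) = (LP (LK LD1_c14 LD2_c19 LD3_c29)) :=
  Lgr Lrot61 (Lpr_ft (f485416 IH) (Lpr_bt (f144969 IH) (Lpr_ft (f144990 IH) (Lpn (LP (LK LD1_c14 LD2_c19 LD3_c29))))))
theorem f485354 : Led Lsl_bt (LP (LK LD1_c3 LD2_c55 LD3_c43)) = (LP (LK LD1_c7 LD2_c53 LD3_c11)) :=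
  Lre_b IH (LK LD1_c3 LD2_c55 LD3_c43) (LK LD1_c7 LD2_c53 LD3_c11) Lrfl Lrfl
theorem f162144 : Led Lsl_ct (LP (LK LD1_c14 LD2_c19 LD3_c29)) = (LP (LK LD1_c7 LD2_c35 LD3_c58)) :=
  Lre_c IH (LK LD1_c14 LD2_c19 LD3_c29) (LK LD1_c7 LD2_c35 LD3_c58) Lrfl Lrfl
theorem f126485 : Led Lsl_et (LP (LK LD1_c7 LD2_c35 LD3_c54)) = (LP (LK LD1_c3 LD2_c47 LD3_c29)) :=
  Lre_e IH (LK LD1_c7 LD2_c35 LD3_c54) (LK LD1_c3 LD2_c47 LD3_c29) Lrfl Lrfl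
theorem f123930 : Led Lsl_et (LP (LK LD1_c3 LD2_c54 LD3_c3)) = (LP (LK LD1_c7 LD2_c49 LD3_c43)) :=
  Lre_e IH (LK LD1_c3 LD2_c54 LD3_c3) (LK LD1_c7 LD2_c49 LD3_c43) Lrfl Lrfl
theorem f126486 : Led Lsl_cf (LP (LK LD1_c7 LD2_c35 LD3_c54)) = (LP (LK LD1_c7 LD2_c49 LD3_c43)) :=
  Lgr Lrot39 (Lpr_et (f126485 IH) (Lpr_ct (K5.f126477 IH) (Lpr_et (f123930 IH) (Lpn (LP (LK LD1_c7 LD2_c49 LD3_c43))))))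
theorem f425720 : Led Lsl_ft (LP (LK LD1_c7 LD2_c35 LD3_c54)) = (LP (LK LD1_c14 LD2_c19 LD3_c26)) :=
  Lre_f IH (LK LD1_c7 LD2_c35 LD3_c54) (LK LD1_c14 LD2_c19 LD3_c26) Lrfl Lrfl
theorem f485025 : Led Lsl_cf (LP (LK LD1_c14 LD2_c24 LD3_c41)) = (LP (LK LD1_c14 LD2_c19 LD3_c26)) :=
  Lgr Lrot108 (Lpr_ft (f485019 IH) (Lpe (f126486 IH) (Lpr_ft (f425720 IH) (Lpn (LP (LK LD1_c14 LD2_c19 LD3_c26))))))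
theorem f459693 : Led Lsl_ct (LP (LK LD1_c1 LD2_c51 LD3_c27)) = (LP (LK LD1_c0 LD2_c52 LD3_c33)) :=
  Lre_c IH (LK LD1_c1 LD2_c51 LD3_c27) (LK LD1_c0 LD2_c52 LD3_c33) Lrfl Lrfl
theorem f459694 : Led Lsl_bt (LP (LK LD1_c1 LD2_c51 LD3_c27)) = (LP (LK LD1_c3 LD2_c48 LD3_c56)) :=
  Lre_b IH (LK LD1_c1 LD2_c51 LD3_c27) (LK LD1_c3 LD2_c48 LD3_c56) Lrfl Lrfl
theorem f485038 : Led Lsl_bt (LP (LK LD1_c14 LD2_c19 LD3_c26)) = (LP (LK LD1_c7 LD2_c35 LD3_c58)) :=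
  Lre_b IH (LK LD1_c14 LD2_c19 LD3_c26) (LK LD1_c7 LD2_c35 LD3_c58) Lrfl Lrfl
theorem f485040 : Led Lsl_gt (LP (LK LD1_c3 LD2_c48 LD3_c56)) = (LP (LK LD1_c7 LD2_c35 LD3_c58)) :=
  Lgr Lrot164 (Lpe (f459694 IH) (Lpr_ct (f459693 IH) (Lpe (K5.f62691 IH) (Lpe (K5.f62704 IH) (Lpe (f89664 IH) (Lpe (f484756 IH) (Lpr_ct (f484530 IH) (Lpe (f484775 IH) (Lpr_cf (f485025 IH) (Lpr_bt (f485038 IH) (Lpn (LP (LK LD1_c7 LD2_c35 LD3_c58)))))))))))))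
def v854 : LQ := Led Lsl_ft (LP (LK LD1_c0 LD2_c52 LD3_c33))
theorem f459794 : Led Lsl_ft (LP (LK LD1_c0 LD2_c52 LD3_c33)) = v854 :=
  Lrfl
theorem f459796 : Led Lsl_ff (LP (LK LD1_c0 LD2_c52 LD3_c33)) = v854 :=
  Lgr Lrot3 (Lpr_ft (f459794 IH) (Lpn v854))
theorem f459797 : Led Lsl_at (LP (LK LD1_c0 LD2_c52 LD3_c34)) = v854 :=
  Lgr Lrot66 (Lpr_ff (K28.f459787 IH) (Lpe (K28.f459782 IH) (Lpr_ff (f459796 IH) (Lpn v854))))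
theorem f467693 : (LP (LK LD1_c1 LD2_c50 LD3_c40)) = v854 :=
  Lefun (Lecon (K29.f466712 IH) (K28.f467690 IH).symm) (f459797 IH)
theorem f482069 : Led Lsl_ft (LP (LK LD1_c3 LD2_c47 LD3_c6)) = (LP (LK LD1_c1 LD2_c51 LD3_c27)) :=
  Lgr Lrot4 (Lpe (K29.f442353 IH) (Lpqs (f467693 IH) (Lpe (f459794 IH) (Lpe (f459693 IH) (Lpn (LP (LK LD1_c1 LD2_c51 LD3_c27)))))))
theorem f466738 : Led Lsl_bt (LP (LK LD1_c7 LD2_c35 LD3_c4)) = (LP (LK LD1_c3 LD2_c47 LD3_c6)) :=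
  Lre_b IH (LK LD1_c7 LD2_c35 LD3_c4) (LK LD1_c3 LD2_c47 LD3_c6) Lrfl Lrfl
theorem f482071 : Led Lsl_ff (LP (LK LD1_c7 LD2_c35 LD3_c4)) = (LP (LK LD1_c3 LD2_c48 LD3_c56)) :=
  Lgr Lrot25 (Lpr_bt (f466738 IH) (Lpr_ft (f482069 IH) (Lpr_bt (f459694 IH) (Lpn (LP (LK LD1_c3 LD2_c48 LD3_c56))))))
theorem f474810 : Led Lsl_dt (LP (LK LD1_c1 LD2_c51 LD3_c27)) = (LP (LK LD1_c3 LD2_c48 LD3_c57)) :=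
  Lre_d IH (LK LD1_c1 LD2_c51 LD3_c27) (LK LD1_c3 LD2_c48 LD3_c57) Lrfl Lrfl
theorem f482073 : Led Lsl_ff (LP (LK LD1_c7 LD2_c35 LD3_c5)) = (LP (LK LD1_c3 LD2_c48 LD3_c57)) :=
  Lgr Lrot19 (Lpr_dt (K29.f442356 IH) (Lpr_ft (f482069 IH) (Lpr_dt (f474810 IH) (Lpn (LP (LK LD1_c3 LD2_c48 LD3_c57))))))
theorem f482083 : Led Lsl_ft (LP (LK LD1_c7 LD2_c35 LD3_c5)) = (LP (LK LD1_c3 LD2_c48 LD3_c57)) :=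
  Lgr Lrot48 (Lpr_ff (f482073 IH) (Lpn (LP (LK LD1_c3 LD2_c48 LD3_c57))))
theorem f467811 : Led Lsl_et (LP (LK LD1_c14 LD2_c18 LD3_c4)) = (LP (LK LD1_c7 LD2_c35 LD3_c5)) :=
  Lre_e IH (LK LD1_c14 LD2_c18 LD3_c4) (LK LD1_c7 LD2_c35 LD3_c5) Lrfl Lrfl
theorem f467761 : Led Lsl_ft (LP (LK LD1_c23 LD2_c56 LD3_c0)) = (LP (LK LD1_c14 LD2_c18 LD3_c4)) :=
  Lre_f IH (LK LD1_c23 LD2_c56 LD3_c0) (LK LD1_c14 LD2_c18 LD3_c4) Lrfl Lrfl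
theorem f481987 : Led Lsl_et (LP (LK LD1_c3 LD2_c48 LD3_c57)) = (LP (LK LD1_c7 LD2_c39 LD3_c3)) :=
  Lre_e IH (LK LD1_c3 LD2_c48 LD3_c57) (LK LD1_c7 LD2_c39 LD3_c3) Lrfl Lrfl
theorem f481994 : Led Lsl_ft (LP (LK LD1_c7 LD2_c39 LD3_c3)) = (LP (LK LD1_c14 LD2_c25 LD3_c21)) :=
  Lre_f IH (LK LD1_c7 LD2_c39 LD3_c3) (LK LD1_c14 LD2_c25 LD3_c21) Lrfl Lrfl
theorem f482095 : Led Lsl_ef (LP (LK LD1_c23 LD2_c56 LD3_c0)) = (LP (LK LD1_c14 LD2_c25 LD3_c21)) :=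
  Lgr Lrot21 (Lpr_ft (f467761 IH) (Lpr_et (f467811 IH) (Lpr_ft (f482083 IH) (Lpr_et (f481987 IH) (Lpr_ft (f481994 IH) (Lpn (LP (LK LD1_c14 LD2_c25 LD3_c21))))))))
theorem f467749 : Led Lsl_et (LP (LK LD1_c7 LD2_c35 LD3_c5)) = (LP (LK LD1_c14 LD2_c18 LD3_c4)) :=
  Lre_e IH (LK LD1_c7 LD2_c35 LD3_c5) (LK LD1_c14 LD2_c18 LD3_c4) Lrfl Lrfl
theorem f467750 : Led Lsl_et (LP (LK LD1_c7 LD2_c39 LD3_c7)) = (LP (LK LD1_c3 LD2_c48 LD3_c60)) :=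
  Lre_e IH (LK LD1_c7 LD2_c39 LD3_c7) (LK LD1_c3 LD2_c48 LD3_c60) Lrfl Lrfl
theorem f467751 : Led Lsl_at (LP (LK LD1_c14 LD2_c18 LD3_c4)) = (LP (LK LD1_c7 LD2_c39 LD3_c7)) :=
  Lgr Lrot80 (Lpe (f467749 IH) (Lpr_af (K29.f467741 IH) (Lpe (f467750 IH) (Lpn (LP (LK LD1_c7 LD2_c39 LD3_c7))))))
theorem f467738 : Led Lsl_ft (LP (LK LD1_c7 LD2_c39 LD3_c7)) = (LP (LK LD1_c14 LD2_c25 LD3_c29)) :=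
  Lre_f IH (LK LD1_c7 LD2_c39 LD3_c7) (LK LD1_c14 LD2_c25 LD3_c29) Lrfl Lrfl
theorem f467762 : Led Lsl_af (LP (LK LD1_c23 LD2_c56 LD3_c0)) = (LP (LK LD1_c14 LD2_c25 LD3_c29)) :=
  Lgr Lrot45 (Lpr_ft (f467761 IH) (Lpr_at (f467751 IH) (Lpr_ft (f467738 IH) (Lpn (LP (LK LD1_c14 LD2_c25 LD3_c29))))))
theorem f467777 : Led Lsl_at (LP (LK LD1_c23 LD2_c56 LD3_c0)) = (LP (LK LD1_c14 LD2_c25 LD3_c29)) :=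
  Lgr Lrot100 (Lpr_af (f467762 IH) (Lpn (LP (LK LD1_c14 LD2_c25 LD3_c29))))
theorem f456666 : Led Lsl_et (LP (LK LD1_c7 LD2_c51 LD3_c11)) = (LP (LK LD1_c3 LD2_c54 LD3_c45)) :=
  Lre_e IH (LK LD1_c7 LD2_c51 LD3_c11) (LK LD1_c3 LD2_c54 LD3_c45) Lrfl Lrfl
theorem f456699 : Led Lsl_ft (LP (LK LD1_c14 LD2_c48 LD3_c48)) = (LP (LK LD1_c7 LD2_c51 LD3_c11)) :=
  Lre_f IH (LK LD1_c14 LD2_c48 LD3_c48) (LK LD1_c7 LD2_c51 LD3_c11) Lrfl Lrfl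
theorem f467737 : Led Lsl_et (LP (LK LD1_c3 LD2_c48 LD3_c60)) = (LP (LK LD1_c7 LD2_c39 LD3_c7)) :=
  Lre_e IH (LK LD1_c3 LD2_c48 LD3_c60) (LK LD1_c7 LD2_c39 LD3_c7) Lrfl Lrfl
theorem f467739 : Led Lsl_ef (LP (LK LD1_c14 LD2_c48 LD3_c48)) = (LP (LK LD1_c14 LD2_c25 LD3_c29)) :=
  Lgr Lrot21 (Lpr_ft (f456699 IH) (Lpr_et (f456666 IH) (Lpr_ft (K29.f467730 IH) (Lpr_et (f467737 IH) (Lpr_ft (f467738 IH) (Lpn (LP (LK LD1_c14 LD2_c25 LD3_c29))))))))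
theorem f482097 : Led Lsl_at (LP (LK LD1_c14 LD2_c48 LD3_c48)) = (LP (LK LD1_c14 LD2_c25 LD3_c21)) :=
  Lgr Lrot80 (Lpr_ef (f467739 IH) (Lpe (f467777 IH) (Lpr_ef (f482095 IH) (Lpn (LP (LK LD1_c14 LD2_c25 LD3_c21))))))
theorem f456680 : Led Lsl_ft (LP (LK LD1_c7 LD2_c51 LD3_c11)) = (LP (LK LD1_c14 LD2_c48 LD3_c48)) :=
  Lre_f IH (LK LD1_c7 LD2_c51 LD3_c11) (LK LD1_c14 LD2_c48 LD3_c48) Lrfl Lrfl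
theorem f481993 : Led Lsl_ft (LP (LK LD1_c14 LD2_c25 LD3_c21)) = (LP (LK LD1_c7 LD2_c39 LD3_c3)) :=
  Lre_f IH (LK LD1_c14 LD2_c25 LD3_c21) (LK LD1_c7 LD2_c39 LD3_c3) Lrfl Lrfl
theorem f482119 : Led Lsl_af (LP (LK LD1_c7 LD2_c51 LD3_c11)) = (LP (LK LD1_c7 LD2_c39 LD3_c3)) :=
  Lgr Lrot45 (Lpr_ft (f456680 IH) (Lpr_at (f482097 IH) (Lpr_ft (f481993 IH) (Lpn (LP (LK LD1_c7 LD2_c39 LD3_c3))))))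
theorem f10150 : Led Lsl_dt (LP (LK LD1_c3 LD2_c37 LD3_c61)) = (LP (LK LD1_c1 LD2_c45 LD3_c52)) :=
  Lre_d IH (LK LD1_c3 LD2_c37 LD3_c61) (LK LD1_c1 LD2_c45 LD3_c52) Lrfl Lrfl
theorem f456656 : Led Lsl_bt (LP (LK LD1_c3 LD2_c54 LD3_c45)) = (LP (LK LD1_c3 LD2_c37 LD3_c61)) :=
  Lgr Lrot95 (Lpe (K29.f456655 IH) (Lpr_bf (K29.f456649 IH) (Lpe (f10150 IH) (Lpn (LP (LK LD1_c3 LD2_c37 LD3_c61))))))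
theorem f456667 : Led Lsl_et (LP (LK LD1_c3 LD2_c37 LD3_c61)) = (LP (LK LD1_c7 LD2_c16 LD3_c28)) :=
  Lre_e IH (LK LD1_c3 LD2_c37 LD3_c61) (LK LD1_c7 LD2_c16 LD3_c28) Lrfl Lrfl
theorem f456668 : Led Lsl_bf (LP (LK LD1_c7 LD2_c51 LD3_c11)) = (LP (LK LD1_c7 LD2_c16 LD3_c28)) :=
  Lgr Lrot96 (Lpr_et (f456666 IH) (Lpr_bt (f456656 IH) (Lpr_et (f456667 IH) (Lpn (LP (LK LD1_c7 LD2_c16 LD3_c28))))))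
theorem f456676 : Led Lsl_bt (LP (LK LD1_c7 LD2_c51 LD3_c11)) = (LP (LK LD1_c7 LD2_c16 LD3_c28)) :=
  Lgr Lrot127 (Lpr_bf (f456668 IH) (Lpn (LP (LK LD1_c7 LD2_c16 LD3_c28))))
theorem f456701 : Led Lsl_at (LP (LK LD1_c7 LD2_c16 LD3_c28)) = (LP (LK LD1_c13 LD2_c45 LD3_c46)) :=
  Lre_a IH (LK LD1_c7 LD2_c16 LD3_c28) (LK LD1_c13 LD2_c45 LD3_c46) Lrfl Lrfl
theorem f456702 : Led Lsl_bt (LP (LK LD1_c13 LD2_c45 LD3_c46)) = (LP (LK LD1_c23 LD2_c12 LD3_c53)) :=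
  Lre_b IH (LK LD1_c13 LD2_c45 LD3_c46) (LK LD1_c23 LD2_c12 LD3_c53) Lrfl Lrfl
theorem f481990 : Led Lsl_bt (LP (LK LD1_c14 LD2_c25 LD3_c13)) = (LP (LK LD1_c7 LD2_c39 LD3_c3)) :=
  Lre_b IH (LK LD1_c14 LD2_c25 LD3_c13) (LK LD1_c7 LD2_c39 LD3_c3) Lrfl Lrfl
theorem f482125 : Led Lsl_at (LP (LK LD1_c23 LD2_c12 LD3_c53)) = (LP (LK LD1_c14 LD2_c25 LD3_c13)) :=
  Lgr Lrot67 (Lpe (f456702 IH) (Lpe (f456701 IH) (Lpe (f456676 IH) (Lpr_af (f482119 IH) (Lpe (f481990 IH) (Lpn (LP (LK LD1_c14 LD2_c25 LD3_c13))))))))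
theorem f482163 : Led Lsl_et (LP (LK LD1_c13 LD2_c45 LD3_c44)) = (LP (LK LD1_c23 LD2_c12 LD3_c53)) :=
  Lre_e IH (LK LD1_c13 LD2_c45 LD3_c44) (LK LD1_c23 LD2_c12 LD3_c53) Lrfl Lrfl
theorem f482107 : Led Lsl_et (LP (LK LD1_c14 LD2_c25 LD3_c13)) = (LP (LK LD1_c7 LD2_c38 LD3_c61)) :=
  Lre_e IH (LK LD1_c14 LD2_c25 LD3_c13) (LK LD1_c7 LD2_c38 LD3_c61) Lrfl Lrfl
theorem f482164 : Led Lsl_af (LP (LK LD1_c13 LD2_c45 LD3_c44)) = (LP (LK LD1_c7 LD2_c38 LD3_c61)) :=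
  Lgr Lrot50 (Lpr_et (f482163 IH) (Lpr_at (f482125 IH) (Lpr_et (f482107 IH) (Lpn (LP (LK LD1_c7 LD2_c38 LD3_c61))))))
theorem f457336 : Led Lsl_dt (LP (LK LD1_c13 LD2_c45 LD3_c44)) = (LP (LK LD1_c7 LD2_c16 LD3_c21)) :=
  Lre_d IH (LK LD1_c13 LD2_c45 LD3_c44) (LK LD1_c7 LD2_c16 LD3_c21) Lrfl Lrfl
theorem f482003 : Led Lsl_dt (LP (LK LD1_c3 LD2_c48 LD3_c56)) = (LP (LK LD1_c7 LD2_c38 LD3_c61)) :=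
  Lre_d IH (LK LD1_c3 LD2_c48 LD3_c56) (LK LD1_c7 LD2_c38 LD3_c61) Lrfl Lrfl
theorem f482170 : Led Lsl_at (LP (LK LD1_c7 LD2_c16 LD3_c21)) = (LP (LK LD1_c3 LD2_c48 LD3_c56)) :=
  Lgr Lrot51 (Lpe (f457336 IH) (Lpr_af (f482164 IH) (Lpe (f482003 IH) (Lpn (LP (LK LD1_c3 LD2_c48 LD3_c56))))))
theorem f456720 : Led Lsl_bt (LP (LK LD1_c3 LD2_c37 LD3_c59)) = (LP (LK LD1_c7 LD2_c16 LD3_c21)) :=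
  Lre_b IH (LK LD1_c3 LD2_c37 LD3_c59) (LK LD1_c7 LD2_c16 LD3_c21) Lrfl Lrfl
theorem f456898 : Led Lsl_ct (LP (LK LD1_c3 LD2_c37 LD3_c59)) = (LP (LK LD1_c1 LD2_c45 LD3_c51)) :=
  Lre_c IH (LK LD1_c3 LD2_c37 LD3_c59) (LK LD1_c1 LD2_c45 LD3_c51) Lrfl Lrfl
theorem f456652 : Led Lsl_bt (LP (LK LD1_c7 LD2_c16 LD3_c21)) = (LP (LK LD1_c3 LD2_c37 LD3_c59)) :=
  Lre_b IH (LK LD1_c7 LD2_c16 LD3_c21) (LK LD1_c3 LD2_c37 LD3_c59) Lrfl Lrfl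
theorem f457333 : Led Lsl_ct (LP (LK LD1_c7 LD2_c16 LD3_c21)) = (LP (LK LD1_c7 LD2_c16 LD3_c21)) :=
  Lgr Lrot83 (Lpe (f456720 IH) (Lpe (K29.f457270 IH) (Lpr_bf (K29.f457331 IH) (Lpe (f456898 IH) (Lpe (f456652 IH) (Lpn (LP (LK LD1_c7 LD2_c16 LD3_c21))))))))
theorem f482175 : Led Lsl_af (LP (LK LD1_c7 LD2_c16 LD3_c21)) = (LP (LK LD1_c3 LD2_c48 LD3_c56)) :=
  Lgr Lrot0 (Lpr_at (f482170 IH) (Lpn (LP (LK LD1_c3 LD2_c48 LD3_c56))))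
theorem f482177 : Led Lsl_cf (LP (LK LD1_c3 LD2_c48 LD3_c56)) = (LP (LK LD1_c3 LD2_c48 LD3_c56)) :=
  Lgr Lrot1 (Lpe (f482175 IH) (Lpr_ct (f457333 IH) (Lpr_at (f482170 IH) (Lpn (LP (LK LD1_c3 LD2_c48 LD3_c56))))))
theorem f442360 : Led Lsl_bt (LP (LK LD1_c3 LD2_c47 LD3_c6)) = (LP (LK LD1_c7 LD2_c35 LD3_c4)) :=
  Lre_b IH (LK LD1_c3 LD2_c47 LD3_c6) (LK LD1_c7 LD2_c35 LD3_c4) Lrfl Lrfl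
theorem f466739 : Led Lsl_ct (LP (LK LD1_c7 LD2_c35 LD3_c4)) = (LP (LK LD1_c7 LD2_c35 LD3_c4)) :=
  Lgr Lrot83 (Lpe (f442360 IH) (Lpe (K29.f442353 IH) (Lpr_bf (K29.f466736 IH) (Lpe (K29.f442359 IH) (Lpe (f466738 IH) (Lpn (LP (LK LD1_c7 LD2_c35 LD3_c4))))))))
theorem f482182 : Led Lsl_ft (LP (LK LD1_c7 LD2_c35 LD3_c4)) = (LP (LK LD1_c3 LD2_c48 LD3_c56)) :=
  Lgr Lrot4 (Lpe (f466739 IH) (Lpr_ff (f482071 IH) (Lpr_cf (f482177 IH) (Lpn (LP (LK LD1_c3 LD2_c48 LD3_c56))))))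
theorem f473231 : Led Lsl_bt (LP (LK LD1_c3 LD2_c26 LD3_c56)) = (LP (LK LD1_c6 LD2_c55 LD3_c42)) :=
  Lre_b IH (LK LD1_c3 LD2_c26 LD3_c56) (LK LD1_c6 LD2_c55 LD3_c42) Lrfl Lrfl
theorem f479224 : Led Lsl_at (LP (LK LD1_c6 LD2_c55 LD3_c42)) = (LP (LK LD1_c7 LD2_c35 LD3_c4)) :=
  Lgr Lrot67 (Lpe (f473231 IH) (Lpr_af (K29.f479219 IH) (Lpr_bf (K29.f467716 IH) (Lpe (K29.f467747 IH) (Lpe (f466738 IH) (Lpn (LP (LK LD1_c7 LD2_c35 LD3_c4))))))))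
theorem f482185 : Led Lsl_ff (LP (LK LD1_c6 LD2_c55 LD3_c42)) = (LP (LK LD1_c7 LD2_c16 LD3_c21)) :=
  Lgr Lrot30 (Lpr_at (f479224 IH) (Lpr_ft (f482182 IH) (Lpe (f482175 IH) (Lpn (LP (LK LD1_c7 LD2_c16 LD3_c21))))))
theorem f91508 : Led Lsl_bt (LP (LK LD1_c13 LD2_c3 LD3_c61)) = (LP (LK LD1_c22 LD2_c14 LD3_c21)) :=
  Lre_b IH (LK LD1_c13 LD2_c3 LD3_c61) (LK LD1_c22 LD2_c14 LD3_c21) Lrfl Lrfl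
theorem f472870 : Led Lsl_bt (LP (LK LD1_c13 LD2_c7 LD3_c11)) = (LP (LK LD1_c6 LD2_c54 LD3_c18)) :=
  Lre_b IH (LK LD1_c13 LD2_c7 LD3_c11) (LK LD1_c6 LD2_c54 LD3_c18) Lrfl Lrfl
theorem f473219 : Led Lsl_ft (LP (LK LD1_c22 LD2_c14 LD3_c21)) = (LP (LK LD1_c13 LD2_c7 LD3_c11)) :=
  Lgr Lrot75 (Lpe (f91508 IH) (Lpr_ff (K28.f473215 IH) (Lpe (f472870 IH) (Lpn (LP (LK LD1_c13 LD2_c7 LD3_c11))))))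
theorem f472857 : Led Lsl_bt (LP (LK LD1_c6 LD2_c54 LD3_c16)) = (LP (LK LD1_c3 LD2_c26 LD3_c10)) :=
  Lre_b IH (LK LD1_c6 LD2_c54 LD3_c16) (LK LD1_c3 LD2_c26 LD3_c10) Lrfl Lrfl
theorem f458757 : Led Lsl_bf K28.v757 = K28.v757 :=
  Lgr Lrot81 (Lpe (K28.f457100 IH) (Lpr_bt (K29.f5820 IH) (Lpr_at (K24.f450977 IH) (Lpq (K24.f457213 IH) (Lpr_bt (f450979 IH) (Lpr_at (K28.f457099 IH) (Lpn K28.v757)))))))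
theorem f455081 : Led Lsl_ct (LP (LK LD1_c1 LD2_c39 LD3_c46)) = (LP (LK LD1_c3 LD2_c26 LD3_c10)) :=
  Lre_c IH (LK LD1_c1 LD2_c39 LD3_c46) (LK LD1_c3 LD2_c26 LD3_c10) Lrfl Lrfl
theorem f472858 : Led Lsl_bt (LP (LK LD1_c3 LD2_c26 LD3_c10)) = (LP (LK LD1_c6 LD2_c54 LD3_c16)) :=
  Lre_b IH (LK LD1_c3 LD2_c26 LD3_c10) (LK LD1_c6 LD2_c54 LD3_c16) Lrfl Lrfl
theorem f472859 : Led Lsl_cf (LP (LK LD1_c6 LD2_c54 LD3_c16)) = (LP (LK LD1_c6 LD2_c54 LD3_c16)) :=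
  Lgr Lrot97 (Lpr_bt (f472857 IH) (Lpr_ct (K28.f455082 IH) (Lpqs (K28.f472849 IH) (Lpe (f458757 IH) (Lpq (K28.f472849 IH) (Lpr_ct (f455081 IH) (Lpr_bt (f472858 IH) (Lpn (LP (LK LD1_c6 LD2_c54 LD3_c16))))))))))
theorem f472867 : Led Lsl_et (LP (LK LD1_c13 LD2_c7 LD3_c11)) = (LP (LK LD1_c6 LD2_c54 LD3_c16)) :=
  Lre_e IH (LK LD1_c13 LD2_c7 LD3_c11) (LK LD1_c6 LD2_c54 LD3_c16) Lrfl Lrfl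
theorem f472868 : Led Lsl_ct (LP (LK LD1_c13 LD2_c7 LD3_c11)) = (LP (LK LD1_c13 LD2_c7 LD3_c11)) :=
  Lgr Lrot15 (Lpe (K29.f472866 IH) (Lpr_cf (f472859 IH) (Lpe (f472867 IH) (Lpn (LP (LK LD1_c13 LD2_c7 LD3_c11))))))
theorem f458376 : Led Lsl_bt (LP (LK LD1_c22 LD2_c14 LD3_c21)) = (LP (LK LD1_c13 LD2_c3 LD3_c61)) :=
  Lre_b IH (LK LD1_c22 LD2_c14 LD3_c21) (LK LD1_c13 LD2_c3 LD3_c61) Lrfl Lrfl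
theorem f473211 : Led Lsl_ff (LP (LK LD1_c22 LD2_c14 LD3_c21)) = (LP (LK LD1_c13 LD2_c7 LD3_c11)) :=
  Lgr Lrot25 (Lpr_bt (f458376 IH) (Lpr_ft (K28.f473207 IH) (Lpr_bt (K29.f463928 IH) (Lpn (LP (LK LD1_c13 LD2_c7 LD3_c11))))))
theorem f473221 : Led Lsl_cf (LP (LK LD1_c22 LD2_c14 LD3_c21)) = (LP (LK LD1_c22 LD2_c14 LD3_c21)) :=
  Lgr Lrot108 (Lpr_ft (f473219 IH) (Lpr_ct (f472868 IH) (Lpe (f473211 IH) (Lpn (LP (LK LD1_c22 LD2_c14 LD3_c21))))))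
theorem f473223 : Led Lsl_bt (LP (LK LD1_c6 LD2_c52 LD3_c12)) = (LP (LK LD1_c6 LD2_c52 LD3_c12)) :=
  Lgr Lrot128 (Lpe (K28.f91507 IH) (Lpe (f458376 IH) (Lpr_cf (f473221 IH) (Lpe (f91508 IH) (Lpe (K28.f91502 IH) (Lpn (LP (LK LD1_c6 LD2_c52 LD3_c12))))))))
theorem f473225 : Led Lsl_bf (LP (LK LD1_c3 LD2_c26 LD3_c57)) = (LP (LK LD1_c3 LD2_c26 LD3_c57)) :=
  Lgr Lrot93 (Lpe (K28.f91500 IH) (Lpr_bt (f473223 IH) (Lpr_dt (K28.f91504 IH) (Lpn (LP (LK LD1_c3 LD2_c26 LD3_c57))))))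
theorem f473229 : Led Lsl_bt (LP (LK LD1_c1 LD2_c40 LD3_c5)) = (LP (LK LD1_c1 LD2_c40 LD3_c5)) :=
  Lgr Lrot119 (Lpe (K28.f91499 IH) (Lpr_bf (f473225 IH) (Lpe (K29.f91506 IH) (Lpn (LP (LK LD1_c1 LD2_c40 LD3_c5))))))
theorem f91584 : Led Lsl_ct (LP (LK LD1_c3 LD2_c26 LD3_c56)) = (LP (LK LD1_c1 LD2_c40 LD3_c5)) :=
  Lre_c IH (LK LD1_c3 LD2_c26 LD3_c56) (LK LD1_c1 LD2_c40 LD3_c5) Lrfl Lrfl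
theorem f91586 : Led Lsl_bt (LP (LK LD1_c6 LD2_c55 LD3_c42)) = (LP (LK LD1_c3 LD2_c26 LD3_c56)) :=
  Lre_b IH (LK LD1_c6 LD2_c55 LD3_c42) (LK LD1_c3 LD2_c26 LD3_c56) Lrfl Lrfl
theorem f91583 : Led Lsl_ct (LP (LK LD1_c1 LD2_c40 LD3_c5)) = (LP (LK LD1_c3 LD2_c26 LD3_c56)) :=
  Lre_c IH (LK LD1_c1 LD2_c40 LD3_c5) (LK LD1_c3 LD2_c26 LD3_c56) Lrfl Lrfl
theorem f473232 : Led Lsl_cf (LP (LK LD1_c6 LD2_c55 LD3_c42)) = (LP (LK LD1_c6 LD2_c55 LD3_c42)) :=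
  Lgr Lrot97 (Lpr_bt (f91586 IH) (Lpr_ct (f91584 IH) (Lpr_bt (f473229 IH) (Lpr_ct (f91583 IH) (Lpr_bt (f473231 IH) (Lpn (LP (LK LD1_c6 LD2_c55 LD3_c42))))))))
theorem f482187 : Led Lsl_ft (LP (LK LD1_c6 LD2_c55 LD3_c42)) = (LP (LK LD1_c7 LD2_c16 LD3_c21)) :=
  Lgr Lrot4 (Lpr_cf (f473232 IH) (Lpr_ff (f482185 IH) (Lpe (f457333 IH) (Lpn (LP (LK LD1_c7 LD2_c16 LD3_c21))))))
theorem f482191 : Led Lsl_af (LP (LK LD1_c6 LD2_c55 LD3_c42)) = (LP (LK LD1_c7 LD2_c35 LD3_c4)) :=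
  Lgr Lrot45 (Lpr_ft (f482187 IH) (Lpr_at (f482170 IH) (Lpe (f482071 IH) (Lpn (LP (LK LD1_c7 LD2_c35 LD3_c4))))))
theorem f485042 : Led Lsl_gf (LP (LK LD1_c6 LD2_c55 LD3_c42)) = (LP (LK LD1_c7 LD2_c35 LD3_c58)) :=
  Lgr Lrot76 (Lpr_af (f482191 IH) (Lpr_ff (f482071 IH) (Lpr_gt (f485040 IH) (Lpn (LP (LK LD1_c7 LD2_c35 LD3_c58))))))
theorem f485437 : Led Lsl_ct (LP (LK LD1_c3 LD2_c55 LD3_c43)) = (LP (LK LD1_c3 LD2_c47 LD3_c8)) :=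
  Lgr Lrot63 (Lpr_bt (f485354 IH) (Lpr_gt (f485358 IH) (Lpr_bf (f485421 IH) (Lpr_ct (f162144 IH) (Lpe (f485042 IH) (Lpr_cf (f473232 IH) (Lpr_bt (f91586 IH) (Lpe (K29.f91581 IH) (Lpe (K3.f11968 IH) (Lpr_gt (f11993 IH) (Lpn (LP (LK LD1_c3 LD2_c47 LD3_c8)))))))))))))
theorem f485414 : Led Lsl_ct (LP (LK LD1_c14 LD2_c52 LD3_c37)) = (LP (LK LD1_c24 LD2_c3 LD3_c45)) :=
  Lgr Lrot59 (Lpr_cf (f485408 IH) (Lpn (LP (LK LD1_c24 LD2_c3 LD3_c45))))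
theorem f486296 : Led Lsl_gf (LP (LK LD1_c14 LD2_c29 LD3_c0)) = (LP (LK LD1_c24 LD2_c3 LD3_c45)) :=
  Lgr Lrot129 (Lpe (f142616 IH) (Lpr_bt (f486286 IH) (Lpr_gt (f11999 IH) (Lpe (K3.f11998 IH) (Lpe (K3.f11968 IH) (Lpr_gt (f11993 IH) (Lpe (f485437 IH) (Lpr_bt (f485354 IH) (Lpr_gt (f485358 IH) (Lpr_ct (f485414 IH) (Lpn (LP (LK LD1_c24 LD2_c3 LD3_c45)))))))))))))
theorem f485029 : Led Lsl_ff (LP (LK LD1_c14 LD2_c24 LD3_c41)) = (LP (LK LD1_c7 LD2_c49 LD3_c43)) :=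
  Lgr Lrot3 (Lpr_ft (f485019 IH) (Lpn (LP (LK LD1_c7 LD2_c49 LD3_c43))))
theorem f485031 : Led Lsl_bt (LP (LK LD1_c14 LD2_c24 LD3_c41)) = (LP (LK LD1_c24 LD2_c3 LD3_c45)) :=
  Lre_b IH (LK LD1_c14 LD2_c24 LD3_c41) (LK LD1_c24 LD2_c3 LD3_c45) Lrfl Lrfl
theorem f485032 : Led Lsl_ft (LP (LK LD1_c24 LD2_c3 LD3_c45)) = (LP (LK LD1_c14 LD2_c28 LD3_c37)) :=
  Lgr Lrot75 (Lpe (f485031 IH) (Lpr_ff (f485029 IH) (Lpe (f144994 IH) (Lpn (LP (LK LD1_c14 LD2_c28 LD3_c37))))))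
theorem f486298 : Led Lsl_gt (LP (LK LD1_c14 LD2_c29 LD3_c0)) = (LP (LK LD1_c14 LD2_c49 LD3_c43)) :=
  Lgr Lrot46 (Lpr_gf (f486296 IH) (Lpr_ft (f485032 IH) (Lpe (f162068 IH) (Lpn (LP (LK LD1_c14 LD2_c49 LD3_c43))))))
theorem f144893 : Led Lsl_bf (LP (LK LD1_c7 LD2_c37 LD3_c45)) = (LP (LK LD1_c13 LD2_c53 LD3_c53)) :=
  Lgr Lrot24 (Lpr_bt (K8.f144891 IH) (Lpn (LP (LK LD1_c13 LD2_c53 LD3_c53))))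
theorem f486303 : Led Lsl_gf (LP (LK LD1_c3 LD2_c48 LD3_c46)) = (LP (LK LD1_c7 LD2_c37 LD3_c45)) :=
  Lgr Lrot124 (Lpe (f485565 IH) (Lpr_ct (f482915 IH) (Lpe (K29.f440835 IH) (Lpe (f84947 IH) (Lpr_bt (K7.f84952 IH) (Lpr_gt (f96374 IH) (Lpr_ct (f142616 IH) (Lpr_gt (f486298 IH) (Lpr_cf (K8.f132136 IH) (Lpe (f144893 IH) (Lpn (LP (LK LD1_c7 LD2_c37 LD3_c45)))))))))))))
theorem f425711 : Led Lsl_ft (LP (LK LD1_c7 LD2_c35 LD3_c58)) = (LP (LK LD1_c3 LD2_c47 LD3_c32)) :=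
  Lre_f IH (LK LD1_c7 LD2_c35 LD3_c58) (LK LD1_c3 LD2_c47 LD3_c32) Lrfl Lrfl
theorem f89751 : Led Lsl_ct (LP (LK LD1_c7 LD2_c30 LD3_c17)) = (LP (LK LD1_c14 LD2_c10 LD3_c17)) :=
  Lre_c IH (LK LD1_c7 LD2_c30 LD3_c17) (LK LD1_c14 LD2_c10 LD3_c17) Lrfl Lrfl
theorem f144979 : Led Lsl_ct (LP (LK LD1_c7 LD2_c35 LD3_c55)) = (LP (LK LD1_c3 LD2_c47 LD3_c32)) :=
  Lre_c IH (LK LD1_c7 LD2_c35 LD3_c55) (LK LD1_c3 LD2_c47 LD3_c32) Lrfl Lrfl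
theorem f162132 : Led Lsl_af (LP (LK LD1_c7 LD2_c30 LD3_c17)) = (LP (LK LD1_c3 LD2_c47 LD3_c32)) :=
  Lgr Lrot68 (Lpr_ct (f89751 IH) (Lpr_at (K8.f162126 IH) (Lpr_ct (f144979 IH) (Lpn (LP (LK LD1_c3 LD2_c47 LD3_c32))))))
theorem f485046 : Led Lsl_gt (LP (LK LD1_c6 LD2_c55 LD3_c42)) = (LP (LK LD1_c7 LD2_c30 LD3_c17)) :=
  Lgr Lrot46 (Lpr_gf (f485042 IH) (Lpr_ft (f425711 IH) (Lpe (f162132 IH) (Lpn (LP (LK LD1_c7 LD2_c30 LD3_c17))))))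
theorem f457327 : Led Lsl_gf K29.v715 = (LP (LK LD1_c1 LD2_c45 LD3_c50)) :=
  Lgr Lrot76 (Lpe (K29.f456907 IH) (Lpq (K29.f457229 IH) (Lpe (K29.f456894 IH) (Lpr_gt (K29.f450898 IH) (Lpn (LP (LK LD1_c1 LD2_c45 LD3_c50)))))))
theorem f476944 : Led Lsl_bt (LP (LK LD1_c6 LD2_c55 LD3_c33)) = (LP (LK LD1_c3 LD2_c26 LD3_c52)) :=
  Lre_b IH (LK LD1_c6 LD2_c55 LD3_c33) (LK LD1_c3 LD2_c26 LD3_c52) Lrfl Lrfl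
theorem f476948 : Led Lsl_bt (LP (LK LD1_c3 LD2_c26 LD3_c52)) = (LP (LK LD1_c6 LD2_c55 LD3_c33)) :=
  Lre_b IH (LK LD1_c3 LD2_c26 LD3_c52) (LK LD1_c6 LD2_c55 LD3_c33) Lrfl Lrfl
theorem f456483 : Led Lsl_ct (LP (LK LD1_c3 LD2_c41 LD3_c46)) = (LP (LK LD1_c7 LD2_c14 LD3_c60)) :=
  Lgr Lrot59 (Lpr_cf (K29.f456478 IH) (Lpn (LP (LK LD1_c7 LD2_c14 LD3_c60))))
theorem f467433 : Led Lsl_ct (LP (LK LD1_c1 LD2_c45 LD3_c27)) = (LP (LK LD1_c1 LD2_c51 LD3_c37)) :=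
  Lgr Lrot8 (Lpr_gt (K29.f10522 IH) (Lpr_dt (K3.f10515 IH) (Lpr_gt (K28.f10554 IH) (Lpr_dt (K29.f10558 IH) (Lpe (f456483 IH) (Lpr_df (K29.f467411 IH) (Lpe (K28.f467413 IH) (Lpe (K28.f467414 IH) (Lpe (K29.f467417 IH) (Lpn (LP (LK LD1_c1 LD2_c51 LD3_c37))))))))))))
theorem f6022 : Led Lsl_bt (LP (LK LD1_c3 LD2_c37 LD3_c8)) = (LP (LK LD1_c1 LD2_c45 LD3_c27)) :=
  Lre_b IH (LK LD1_c3 LD2_c37 LD3_c8) (LK LD1_c1 LD2_c45 LD3_c27) Lrfl Lrfl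
theorem f476949 : Led Lsl_ct (LP (LK LD1_c6 LD2_c55 LD3_c33)) = (LP (LK LD1_c3 LD2_c37 LD3_c8)) :=
  Lgr Lrot83 (Lpe (f476948 IH) (Lpr_cf (K29.f476945 IH) (Lpe (K29.f467450 IH) (Lpe (f467433 IH) (Lpe (f6022 IH) (Lpn (LP (LK LD1_c3 LD2_c37 LD3_c8))))))))
theorem f89738 : Led Lsl_bf (LP (LK LD1_c13 LD2_c29 LD3_c57)) = (LP (LK LD1_c14 LD2_c10 LD3_c17)) :=
  Lgr Lrot24 (Lpr_bt (K8.f89736 IH) (Lpn (LP (LK LD1_c14 LD2_c10 LD3_c17))))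
theorem f96488 : Led Lsl_bt (LP (LK LD1_c13 LD2_c41 LD3_c26)) = (LP (LK LD1_c7 LD2_c14 LD3_c4)) :=
  Lre_b IH (LK LD1_c13 LD2_c41 LD3_c26) (LK LD1_c7 LD2_c14 LD3_c4) Lrfl Lrfl
theorem f96489 : Led Lsl_ct (LP (LK LD1_c7 LD2_c14 LD3_c4)) = (LP (LK LD1_c13 LD2_c41 LD3_c28)) :=
  Lre_c IH (LK LD1_c7 LD2_c14 LD3_c4) (LK LD1_c13 LD2_c41 LD3_c28) Lrfl Lrfl
theorem f96490 : Led Lsl_bf (LP (LK LD1_c7 LD2_c30 LD3_c17)) = (LP (LK LD1_c13 LD2_c41 LD3_c28)) :=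
  Lgr Lrot90 (Lpr_ct (f89751 IH) (Lpe (f89738 IH) (Lpr_ct (K8.f96486 IH) (Lpr_bt (f96488 IH) (Lpr_ct (f96489 IH) (Lpn (LP (LK LD1_c13 LD2_c41 LD3_c28))))))))
theorem f485050 : Led Lsl_gf (LP (LK LD1_c3 LD2_c37 LD3_c8)) = (LP (LK LD1_c7 LD2_c14 LD3_c4)) :=
  Lgr Lrot126 (Lpe (f476949 IH) (Lpr_bt (f476944 IH) (Lpr_gt (K29.f476942 IH) (Lpr_ct (K29.f456658 IH) (Lpe (f457327 IH) (Lpq (K29.f476750 IH) (Lpe (f91584 IH) (Lpr_bt (f473231 IH) (Lpr_gt (f485046 IH) (Lpr_bf (f96490 IH) (Lpr_ct (K8.f96495 IH) (Lpn (LP (LK LD1_c7 LD2_c14 LD3_c4))))))))))))))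
theorem f467437 : Led Lsl_bt (LP (LK LD1_c1 LD2_c45 LD3_c27)) = (LP (LK LD1_c3 LD2_c37 LD3_c8)) :=
  Lre_b IH (LK LD1_c1 LD2_c45 LD3_c27) (LK LD1_c3 LD2_c37 LD3_c8) Lrfl Lrfl
theorem f467936 : Led Lsl_ct (LP (LK LD1_c7 LD2_c13 LD3_c8)) = (LP (LK LD1_c3 LD2_c49 LD3_c3)) :=
  Lgr Lrot15 (Lpr_ef (K28.f442124 IH) (Lpr_cf (K28.f467932 IH) (Lpr_ef (K28.f467415 IH) (Lpn (LP (LK LD1_c3 LD2_c49 LD3_c3))))))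
theorem f467949 : Led Lsl_ff (LP (LK LD1_c7 LD2_c13 LD3_c8)) = (LP (LK LD1_c3 LD2_c36 LD3_c34)) :=
  Lgr Lrot72 (Lpr_et (K28.f442118 IH) (Lpr_ft (K28.f467938 IH) (Lpr_et (K28.f96961 IH) (Lpe (K3.f97015 IH) (Lpr_et (K29.f97024 IH) (Lpn (LP (LK LD1_c3 LD2_c36 LD3_c34))))))))
theorem f478027 : Led Lsl_bt (LP (LK LD1_c7 LD2_c13 LD3_c8)) = (LP (LK LD1_c7 LD2_c9 LD3_c36)) :=
  Lgr Lrot35 (Lpr_ff (f467949 IH) (Lpe (K29.f97106 IH) (Lpr_ff (K29.f478018 IH) (Lpn (LP (LK LD1_c7 LD2_c9 LD3_c36))))))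
theorem f466648 : Led Lsl_ct (LP (LK LD1_c3 LD2_c34 LD3_c13)) = (LP (LK LD1_c7 LD2_c9 LD3_c30)) :=
  Lre_c IH (LK LD1_c3 LD2_c34 LD3_c13) (LK LD1_c7 LD2_c9 LD3_c30) Lrfl Lrfl
theorem f485056 : Led Lsl_gt (LP (LK LD1_c7 LD2_c9 LD3_c30)) = (LP (LK LD1_c13 LD2_c29 LD3_c57)) :=
  Lgr Lrot149 (Lpe (f466648 IH) (Lpe (K29.f6021 IH) (Lpe (f478027 IH) (Lpr_ct (f467936 IH) (Lpe (K29.f467417 IH) (Lpe (f467433 IH) (Lpr_bt (f467437 IH) (Lpr_gf (f485050 IH) (Lpe (f96488 IH) (Lpe (K8.f96492 IH) (Lpn (LP (LK LD1_c13 LD2_c29 LD3_c57)))))))))))))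
theorem f466649 : Led Lsl_gt (LP (LK LD1_c13 LD2_c33 LD3_c32)) = (LP (LK LD1_c7 LD2_c9 LD3_c30)) :=
  Lre_g IH (LK LD1_c13 LD2_c33 LD3_c32) (LK LD1_c7 LD2_c9 LD3_c30) Lrfl Lrfl
theorem f162130 : Led Lsl_af (LP (LK LD1_c13 LD2_c29 LD3_c57)) = (LP (LK LD1_c7 LD2_c37 LD3_c45)) :=
  Lgr Lrot36 (Lpr_bt (K8.f89736 IH) (Lpr_at (K8.f162126 IH) (Lpe (K8.f144967 IH) (Lpe (K8.f162070 IH) (Lpe (f144893 IH) (Lpn (LP (LK LD1_c7 LD2_c37 LD3_c45))))))))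
theorem f485060 : Led Lsl_ft (LP (LK LD1_c13 LD2_c33 LD3_c32)) = (LP (LK LD1_c7 LD2_c37 LD3_c45)) :=
  Lgr Lrot2 (Lpr_gt (f466649 IH) (Lpr_gt (f485056 IH) (Lpr_af (f162130 IH) (Lpn (LP (LK LD1_c7 LD2_c37 LD3_c45))))))
theorem f485071 : Led Lsl_ff (LP (LK LD1_c13 LD2_c33 LD3_c32)) = (LP (LK LD1_c7 LD2_c37 LD3_c45)) :=
  Lgr Lrot3 (Lpr_ft (f485060 IH) (Lpn (LP (LK LD1_c7 LD2_c37 LD3_c45))))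
theorem f486305 : Led Lsl_af (LP (LK LD1_c7 LD2_c38 LD3_c38)) = (LP (LK LD1_c13 LD2_c33 LD3_c32)) :=
  Lgr Lrot31 (Lpe (f64768 IH) (Lpr_gf (f486303 IH) (Lpe (f485071 IH) (Lpn (LP (LK LD1_c13 LD2_c33 LD3_c32))))))
theorem f486315 : Led Lsl_ft (LP (LK LD1_c7 LD2_c38 LD3_c38)) = (LP (LK LD1_c13 LD2_c29 LD3_c57)) :=
  Lgr Lrot101 (Lpr_af (f486305 IH) (Lpr_ff (f485071 IH) (Lpe (K8.f162155 IH) (Lpn (LP (LK LD1_c13 LD2_c29 LD3_c57))))))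
theorem f486319 : Led Lsl_ff (LP (LK LD1_c14 LD2_c24 LD3_c22)) = (LP (LK LD1_c13 LD2_c41 LD3_c26)) :=
  Lgr Lrot23 (Lpr_ct (f486317 IH) (Lpr_ft (f486315 IH) (Lpr_ct (K8.f96486 IH) (Lpn (LP (LK LD1_c13 LD2_c41 LD3_c26))))))
theorem f486359 : Led Lsl_ff (LP (LK LD1_c7 LD2_c14 LD3_c4)) = (LP (LK LD1_c13 LD2_c39 LD3_c41)) :=
  Lgr Lrot25 (Lpr_bt (K8.f96494 IH) (Lpe (f486319 IH) (Lpr_bt (f486353 IH) (Lpn (LP (LK LD1_c13 LD2_c39 LD3_c41))))))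
theorem f162387 : Led Lsl_at (LP (LK LD1_c1 LD2_c50 LD3_c51)) = (LP (LK LD1_c3 LD2_c44 LD3_c35)) :=
  Lgr Lrot51 (Lpe (K8.f16764 IH) (Lpr_af (K8.f162374 IH) (Lpe (K8.f14741 IH) (Lpn (LP (LK LD1_c3 LD2_c44 LD3_c35))))))
theorem f96830 : Led Lsl_gt (LP (LK LD1_c1 LD2_c43 LD3_c28)) = (LP (LK LD1_c3 LD2_c33 LD3_c26)) :=
  Lre_g IH (LK LD1_c1 LD2_c43 LD3_c28) (LK LD1_c3 LD2_c33 LD3_c26) Lrfl Lrfl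
theorem f96831 : Led Lsl_ct (LP (LK LD1_c7 LD2_c7 LD3_c47)) = (LP (LK LD1_c3 LD2_c33 LD3_c26)) :=
  Lre_c IH (LK LD1_c7 LD2_c7 LD3_c47) (LK LD1_c3 LD2_c33 LD3_c26) Lrfl Lrfl
theorem f162024 : Led Lsl_bf (LP (LK LD1_c7 LD2_c35 LD3_c52)) = (LP (LK LD1_c7 LD2_c7 LD3_c47)) :=
  Lgr Lrot165 (Lpr_gt (K8.f162014 IH) (Lpe (K5.f122709 IH) (Lpr_gt (K5.f122690 IH) (Lpr_cf (K5.f122696 IH) (Lpr_bt (K4.f120966 IH) (Lpr_gt (K5.f98703 IH) (Lpe (K3.f96822 IH) (Lpr_ct (K3.f10793 IH) (Lpr_gt (f96830 IH) (Lpe (f96831 IH) (Lpn (LP (LK LD1_c7 LD2_c7 LD3_c47)))))))))))))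
theorem f162479 : Led Lsl_af (LP (LK LD1_c7 LD2_c7 LD3_c47)) = (LP (LK LD1_c7 LD2_c14 LD3_c3)) :=
  Lgr Lrot36 (Lpe (f162024 IH) (Lpr_at (K8.f126481 IH) (Lpr_bt (K5.f16767 IH) (Lpr_at (f162387 IH) (Lpr_bt (K8.f96481 IH) (Lpn (LP (LK LD1_c7 LD2_c14 LD3_c3))))))))
theorem f162195 : Led Lsl_ff (LP (LK LD1_c7 LD2_c14 LD3_c3)) = (LP (LK LD1_c3 LD2_c47 LD3_c33)) :=
  Lgr Lrot23 (Lpr_ct (K6.f96480 IH) (Lpr_ft (K8.f162193 IH) (Lpr_ct (K28.f96802 IH) (Lpn (LP (LK LD1_c3 LD2_c47 LD3_c33))))))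
theorem f162204 : Led Lsl_at (LP (LK LD1_c7 LD2_c14 LD3_c0)) = (LP (LK LD1_c3 LD2_c47 LD3_c33)) :=
  Lgr Lrot107 (Lpe (K6.f17479 IH) (Lpr_af (K8.f162200 IH) (Lpr_cf (K3.f96777 IH) (Lpn (LP (LK LD1_c3 LD2_c47 LD3_c33))))))
theorem f162488 : Led Lsl_ft (LP (LK LD1_c7 LD2_c7 LD3_c47)) = (LP (LK LD1_c7 LD2_c14 LD3_c0)) :=
  Lgr Lrot101 (Lpr_af (f162479 IH) (Lpr_ff (f162195 IH) (Lpe (f162204 IH) (Lpn (LP (LK LD1_c7 LD2_c14 LD3_c0))))))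
theorem f162497 : Led Lsl_ff (LP (LK LD1_c7 LD2_c7 LD3_c47)) = (LP (LK LD1_c7 LD2_c14 LD3_c0)) :=
  Lgr Lrot3 (Lpr_ft (f162488 IH) (Lpn (LP (LK LD1_c7 LD2_c14 LD3_c0))))
theorem f162535 : Led Lsl_ft (LP (LK LD1_c3 LD2_c33 LD3_c26)) = (LP (LK LD1_c3 LD2_c36 LD3_c54)) :=
  Lgr Lrot4 (Lpe (f96831 IH) (Lpr_ff (f162497 IH) (Lpe (K6.f17479 IH) (Lpn (LP (LK LD1_c3 LD2_c36 LD3_c54))))))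
theorem f162202 : Led Lsl_at (LP (LK LD1_c3 LD2_c36 LD3_c54)) = (LP (LK LD1_c3 LD2_c33 LD3_c27)) :=
  Lgr Lrot100 (Lpr_af (K8.f162200 IH) (Lpn (LP (LK LD1_c3 LD2_c33 LD3_c27))))
theorem f162198 : Led Lsl_ff (LP (LK LD1_c3 LD2_c36 LD3_c55)) = (LP (LK LD1_c3 LD2_c33 LD3_c27)) :=
  Lgr Lrot3 (Lpr_ft (K8.f162193 IH) (Lpn (LP (LK LD1_c3 LD2_c33 LD3_c27))))
theorem f162537 : Led Lsl_af (LP (LK LD1_c3 LD2_c33 LD3_c26)) = (LP (LK LD1_c3 LD2_c36 LD3_c55)) :=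
  Lgr Lrot45 (Lpr_ft (f162535 IH) (Lpr_at (f162202 IH) (Lpe (f162198 IH) (Lpn (LP (LK LD1_c3 LD2_c36 LD3_c55))))))
theorem f162540 : Led Lsl_et (LP (LK LD1_c3 LD2_c33 LD3_c26)) = (LP (LK LD1_c7 LD2_c7 LD3_c48)) :=
  Lre_e IH (LK LD1_c3 LD2_c33 LD3_c26) (LK LD1_c7 LD2_c7 LD3_c48) Lrfl Lrfl
theorem f162197 : Led Lsl_et (LP (LK LD1_c7 LD2_c14 LD3_c4)) = (LP (LK LD1_c3 LD2_c36 LD3_c55)) :=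
  Lre_e IH (LK LD1_c7 LD2_c14 LD3_c4) (LK LD1_c3 LD2_c36 LD3_c55) Lrfl Lrfl
theorem f162541 : Led Lsl_at (LP (LK LD1_c7 LD2_c7 LD3_c48)) = (LP (LK LD1_c7 LD2_c14 LD3_c4)) :=
  Lgr Lrot80 (Lpe (f162540 IH) (Lpr_af (f162537 IH) (Lpe (f162197 IH) (Lpn (LP (LK LD1_c7 LD2_c14 LD3_c4))))))
theorem f162543 : Led Lsl_af (LP (LK LD1_c7 LD2_c7 LD3_c48)) = (LP (LK LD1_c7 LD2_c14 LD3_c4)) :=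
  Lgr Lrot0 (Lpr_at (f162541 IH) (Lpn (LP (LK LD1_c7 LD2_c14 LD3_c4))))
theorem f486365 : Led Lsl_gf (LP (LK LD1_c7 LD2_c7 LD3_c48)) = (LP (LK LD1_c7 LD2_c13 LD3_c2)) :=
  Lgr Lrot76 (Lpr_af (f162543 IH) (Lpr_ff (f486359 IH) (Lpr_gt (f467012 IH) (Lpn (LP (LK LD1_c7 LD2_c13 LD3_c2))))))
theorem f162545 : Led Lsl_ct (LP (LK LD1_c13 LD2_c30 LD3_c19)) = (LP (LK LD1_c7 LD2_c7 LD3_c48)) :=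
  Lre_c IH (LK LD1_c13 LD2_c30 LD3_c19) (LK LD1_c7 LD2_c7 LD3_c48) Lrfl Lrfl
theorem f162546 : Led Lsl_af (LP (LK LD1_c13 LD2_c30 LD3_c19)) = (LP (LK LD1_c13 LD2_c41 LD3_c28)) :=
  Lgr Lrot68 (Lpr_ct (f162545 IH) (Lpr_at (f162541 IH) (Lpr_ct (f96489 IH) (Lpn (LP (LK LD1_c13 LD2_c41 LD3_c28))))))
theorem f144972 : Led Lsl_bt (LP (LK LD1_c7 LD2_c35 LD3_c54)) = (LP (LK LD1_c3 LD2_c47 LD3_c32)) :=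
  Lre_b IH (LK LD1_c7 LD2_c35 LD3_c54) (LK LD1_c3 LD2_c47 LD3_c32) Lrfl Lrfl
theorem f162088 : Led Lsl_at (LP (LK LD1_c14 LD2_c19 LD3_c21)) = (LP (LK LD1_c7 LD2_c35 LD3_c54)) :=
  Lre_a IH (LK LD1_c14 LD2_c19 LD3_c21) (LK LD1_c7 LD2_c35 LD3_c54) Lrfl Lrfl
theorem f162555 : Led Lsl_bt (LP (LK LD1_c13 LD2_c30 LD3_c19)) = (LP (LK LD1_c14 LD2_c19 LD3_c21)) :=
  Lgr Lrot62 (Lpr_af (f162546 IH) (Lpe (K8.f96496 IH) (Lpr_af (f162132 IH) (Lpe (f144972 IH) (Lpe (f162088 IH) (Lpn (LP (LK LD1_c14 LD2_c19 LD3_c21))))))))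
theorem f6628 : Led Lsl_bt (LP (LK LD1_c7 LD2_c13 LD3_c2)) = (LP (LK LD1_c3 LD2_c36 LD3_c20)) :=
  Lre_b IH (LK LD1_c7 LD2_c13 LD3_c2) (LK LD1_c3 LD2_c36 LD3_c20) Lrfl Lrfl
theorem f88550 : Led Lsl_gt (LP (LK LD1_c7 LD2_c34 LD3_c55)) = (LP (LK LD1_c3 LD2_c47 LD3_c2)) :=
  Lre_g IH (LK LD1_c7 LD2_c34 LD3_c55) (LK LD1_c3 LD2_c47 LD3_c2) Lrfl Lrfl
theorem f467010 : Led Lsl_ct (LP (LK LD1_c7 LD2_c13 LD3_c2)) = (LP (LK LD1_c7 LD2_c34 LD3_c55)) :=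
  Lgr Lrot64 (Lpr_bt (f6628 IH) (Lpe (K29.f6623 IH) (Lpr_bf (K29.f5949 IH) (Lpr_ct (K3.f5963 IH) (Lpe (K3.f5969 IH) (Lpe (K28.f6626 IH) (Lpr_gf (K29.f467005 IH) (Lpe (K29.f88538 IH) (Lpe (K3.f88541 IH) (Lpe (f88550 IH) (Lpn (LP (LK LD1_c7 LD2_c34 LD3_c55)))))))))))))
theorem f467015 : Led Lsl_cf (LP (LK LD1_c7 LD2_c13 LD3_c2)) = (LP (LK LD1_c7 LD2_c34 LD3_c55)) :=
  Lgr Lrot11 (Lpr_ct (f467010 IH) (Lpn (LP (LK LD1_c7 LD2_c34 LD3_c55))))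
theorem f473826 : Led Lsl_bt (LP (LK LD1_c6 LD2_c57 LD3_c33)) = (LP (LK LD1_c13 LD2_c12 LD3_c54)) :=
  Lre_b IH (LK LD1_c6 LD2_c57 LD3_c33) (LK LD1_c13 LD2_c12 LD3_c54) Lrfl Lrfl
theorem f470788 : Led Lsl_bt (LP (LK LD1_c6 LD2_c58 LD3_c20)) = (LP (LK LD1_c13 LD2_c14 LD3_c14)) :=
  Lre_b IH (LK LD1_c6 LD2_c58 LD3_c20) (LK LD1_c13 LD2_c14 LD3_c14) Lrfl Lrfl
theorem f477623 : Led Lsl_ef (LP (LK LD1_c7 LD2_c13 LD3_c2)) = (LP (LK LD1_c13 LD2_c14 LD3_c14)) :=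
  Lgr Lrot29 (Lpr_bt (f6628 IH) (Lpr_et (K29.f477621 IH) (Lpr_bt (f470788 IH) (Lpn (LP (LK LD1_c13 LD2_c14 LD3_c14))))))
theorem f468984 : Led Lsl_bt (LP (LK LD1_c13 LD2_c12 LD3_c54)) = (LP (LK LD1_c6 LD2_c57 LD3_c33)) :=
  Lre_b IH (LK LD1_c13 LD2_c12 LD3_c54) (LK LD1_c6 LD2_c57 LD3_c33) Lrfl Lrfl
theorem f473940 : Led Lsl_ct (LP (LK LD1_c13 LD2_c14 LD3_c14)) = (LP (LK LD1_c13 LD2_c12 LD3_c54)) :=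
  Lgr Lrot83 (Lpe (f470788 IH) (Lpr_cf (K29.f468088 IH) (Lpr_bf (K29.f473936 IH) (Lpr_cf (K29.f473444 IH) (Lpe (f468984 IH) (Lpn (LP (LK LD1_c13 LD2_c12 LD3_c54))))))))
theorem f473947 : Led Lsl_cf (LP (LK LD1_c13 LD2_c14 LD3_c14)) = (LP (LK LD1_c13 LD2_c12 LD3_c54)) :=
  Lgr Lrot11 (Lpr_ct (f473940 IH) (Lpn (LP (LK LD1_c13 LD2_c12 LD3_c54))))
theorem f477637 : Led Lsl_et (LP (LK LD1_c7 LD2_c34 LD3_c55)) = (LP (LK LD1_c13 LD2_c12 LD3_c54)) :=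
  Lgr Lrot158 (Lpe (f467010 IH) (Lpr_ef (f477623 IH) (Lpr_cf (f473947 IH) (Lpn (LP (LK LD1_c13 LD2_c12 LD3_c54))))))
theorem f477639 : Led Lsl_ef (LP (LK LD1_c7 LD2_c34 LD3_c55)) = (LP (LK LD1_c13 LD2_c12 LD3_c54)) :=
  Lgr Lrot88 (Lpr_et (f477637 IH) (Lpn (LP (LK LD1_c13 LD2_c12 LD3_c54))))
theorem f480714 : Led Lsl_bf (LP (LK LD1_c3 LD2_c55 LD3_c44)) = (LP (LK LD1_c7 LD2_c34 LD3_c55)) :=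
  Lgr Lrot96 (Lpr_et (K29.f480712 IH) (Lpr_bt (f473826 IH) (Lpe (f477639 IH) (Lpn (LP (LK LD1_c7 LD2_c34 LD3_c55))))))
theorem f480708 : Led Lsl_ct (LP (LK LD1_c3 LD2_c55 LD3_c44)) = (LP (LK LD1_c3 LD2_c47 LD3_c9)) :=
  Lgr Lrot15 (Lpr_ef (K29.f480704 IH) (Lpe (K29.f473440 IH) (Lpe (K29.f479193 IH) (Lpn (LP (LK LD1_c3 LD2_c47 LD3_c9))))))
theorem f12001 : Led Lsl_gt (LP (LK LD1_c3 LD2_c27 LD3_c12)) = (LP (LK LD1_c6 LD2_c56 LD3_c17)) :=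
  Lre_g IH (LK LD1_c3 LD2_c27 LD3_c12) (LK LD1_c6 LD2_c56 LD3_c17) Lrfl Lrfl
theorem f12002 : Led Lsl_bt (LP (LK LD1_c13 LD2_c10 LD3_c34)) = (LP (LK LD1_c6 LD2_c56 LD3_c17)) :=
  Lre_b IH (LK LD1_c13 LD2_c10 LD3_c34) (LK LD1_c6 LD2_c56 LD3_c17) Lrfl Lrfl
theorem f480896 : Led Lsl_ct (LP (LK LD1_c13 LD2_c10 LD3_c34)) = (LP (LK LD1_c14 LD2_c51 LD3_c26)) :=
  Lgr Lrot64 (Lpr_bt (f12002 IH) (Lpe (f12001 IH) (Lpe (K3.f11998 IH) (Lpe (K3.f11968 IH) (Lpe (K29.f12000 IH) (Lpe (f480708 IH) (Lpr_gf (K29.f439088 IH) (Lpe (f439092 IH) (Lpr_ct (f480891 IH) (Lpe (f480890 IH) (Lpn (LP (LK LD1_c14 LD2_c51 LD3_c26)))))))))))))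
theorem f486367 : Led Lsl_gt (LP (LK LD1_c14 LD2_c19 LD3_c21)) = (LP (LK LD1_c13 LD2_c10 LD3_c34)) :=
  Lgr Lrot82 (Lpe (f162555 IH) (Lpr_ct (f162545 IH) (Lpr_gf (f486365 IH) (Lpr_cf (f467015 IH) (Lpe (f480714 IH) (Lpr_gf (K29.f439088 IH) (Lpe (f439092 IH) (Lpr_ct (f480891 IH) (Lpe (f480890 IH) (Lpe (f480896 IH) (Lpn (LP (LK LD1_c13 LD2_c10 LD3_c34)))))))))))))
theorem f144988 : Led Lsl_bt (LP (LK LD1_c3 LD2_c47 LD3_c32)) = (LP (LK LD1_c7 LD2_c35 LD3_c54)) :=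
  Lre_b IH (LK LD1_c3 LD2_c47 LD3_c32) (LK LD1_c7 LD2_c35 LD3_c54) Lrfl Lrfl
theorem f162084 : Led Lsl_cf (LP (LK LD1_c7 LD2_c49 LD3_c43)) = (LP (LK LD1_c7 LD2_c35 LD3_c54)) :=
  Lgr Lrot97 (Lpr_bt (f162082 IH) (Lpe (K8.f144957 IH) (Lpr_bt (f144969 IH) (Lpr_ct (f144979 IH) (Lpr_bt (f144988 IH) (Lpn (LP (LK LD1_c7 LD2_c35 LD3_c54))))))))
theorem f425716 : Led Lsl_ct (LP (LK LD1_c7 LD2_c51 LD3_c34)) = (LP (LK LD1_c14 LD2_c19 LD3_c21)) :=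
  Lgr Lrot111 (Lpr_af (f425714 IH) (Lpr_cf (f162084 IH) (Lpe (f162088 IH) (Lpn (LP (LK LD1_c14 LD2_c19 LD3_c21))))))
theorem f123413 : Led Lsl_gt (LP (LK LD1_c1 LD2_c53 LD3_c51)) = (LP (LK LD1_c3 LD2_c54 LD3_c30)) :=
  Lre_g IH (LK LD1_c1 LD2_c53 LD3_c51) (LK LD1_c3 LD2_c54 LD3_c30) Lrfl Lrfl
theorem f96362 : Led Lsl_ft (LP (LK LD1_c3 LD2_c40 LD3_c4)) = (LP (LK LD1_c7 LD2_c20 LD3_c17)) :=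
  Lre_f IH (LK LD1_c3 LD2_c40 LD3_c4) (LK LD1_c7 LD2_c20 LD3_c17) Lrfl Lrfl
theorem f485152 : Led Lsl_af (LP (LK LD1_c3 LD2_c54 LD3_c30)) = (LP (LK LD1_c7 LD2_c20 LD3_c17)) :=
  Lgr Lrot31 (Lpe (f123413 IH) (Lpr_gf (f485150 IH) (Lpr_ft (f96362 IH) (Lpn (LP (LK LD1_c7 LD2_c20 LD3_c17))))))
theorem f482599 : Led Lsl_af (LP (LK LD1_c7 LD2_c5 LD3_c27)) = (LP (LK LD1_c3 LD2_c33 LD3_c61)) :=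
  Lgr Lrot0 (Lpr_at (f482596 IH) (Lpn (LP (LK LD1_c3 LD2_c33 LD3_c61))))
theorem f485204 : Led Lsl_ct (LP (LK LD1_c3 LD2_c54 LD3_c30)) = (LP (LK LD1_c3 LD2_c33 LD3_c61)) :=
  Lgr Lrot111 (Lpr_af (f485152 IH) (Lpr_cf (K5.f96351 IH) (Lpr_af (f482599 IH) (Lpn (LP (LK LD1_c3 LD2_c33 LD3_c61))))))
theorem f485200 : Led Lsl_bt (LP (LK LD1_c3 LD2_c54 LD3_c30)) = (LP (LK LD1_c7 LD2_c50 LD3_c40)) :=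
  Lre_b IH (LK LD1_c3 LD2_c54 LD3_c30) (LK LD1_c7 LD2_c50 LD3_c40) Lrfl Lrfl
theorem f485296 : Led Lsl_gt (LP (LK LD1_c14 LD2_c47 LD3_c61)) = (LP (LK LD1_c7 LD2_c50 LD3_c40)) :=
  Lre_g IH (LK LD1_c14 LD2_c47 LD3_c61) (LK LD1_c7 LD2_c50 LD3_c40) Lrfl Lrfl
theorem f480899 : Led Lsl_cf (LP (LK LD1_c13 LD2_c10 LD3_c34)) = (LP (LK LD1_c14 LD2_c51 LD3_c26)) :=
  Lgr Lrot11 (Lpr_ct (f480896 IH) (Lpn (LP (LK LD1_c14 LD2_c51 LD3_c26))))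
theorem f486371 : Led Lsl_bf (LP (LK LD1_c14 LD2_c47 LD3_c61)) = (LP (LK LD1_c14 LD2_c51 LD3_c26)) :=
  Lgr Lrot156 (Lpr_gt (f485296 IH) (Lpe (f485200 IH) (Lpr_ct (f485204 IH) (Lpe (f484518 IH) (Lpe (f484800 IH) (Lpr_bt (f484758 IH) (Lpr_gt (f485017 IH) (Lpr_ct (f425716 IH) (Lpr_gt (f486367 IH) (Lpr_cf (f480899 IH) (Lpn (LP (LK LD1_c14 LD2_c51 LD3_c26)))))))))))))
theorem f486373 : Led Lsl_bt (LP (LK LD1_c14 LD2_c47 LD3_c61)) = (LP (LK LD1_c14 LD2_c51 LD3_c26)) :=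
  Lgr Lrot127 (Lpr_bf (f486371 IH) (Lpn (LP (LK LD1_c14 LD2_c51 LD3_c26))))
theorem f485210 : Led Lsl_ft (LP (LK LD1_c3 LD2_c54 LD3_c30)) = (LP (LK LD1_c3 LD2_c42 LD3_c10)) :=
  Lgr Lrot101 (Lpr_af (f485152 IH) (Lpe (f96362 IH) (Lpr_af (K7.f132058 IH) (Lpn (LP (LK LD1_c3 LD2_c42 LD3_c10))))))
theorem f485221 : Led Lsl_ff (LP (LK LD1_c3 LD2_c54 LD3_c30)) = (LP (LK LD1_c3 LD2_c42 LD3_c10)) :=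
  Lgr Lrot3 (Lpr_ft (f485210 IH) (Lpn (LP (LK LD1_c3 LD2_c42 LD3_c10))))
theorem f485223 : Led Lsl_ft (LP (LK LD1_c7 LD2_c50 LD3_c40)) = (LP (LK LD1_c7 LD2_c25 LD3_c2)) :=
  Lgr Lrot75 (Lpe (f485200 IH) (Lpr_ff (f485221 IH) (Lpe (f123521 IH) (Lpn (LP (LK LD1_c7 LD2_c25 LD3_c2))))))
theorem f484418 : Led Lsl_et (LP (LK LD1_c3 LD2_c26 LD3_c55)) = (LP (LK LD1_c3 LD2_c34 LD3_c58)) :=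
  Lgr Lrot87 (Lpr_ef (f484326 IH) (Lpn (LP (LK LD1_c3 LD2_c34 LD3_c58))))
theorem f136659 : Led Lsl_et (LP (LK LD1_c13 LD2_c9 LD3_c30)) = (LP (LK LD1_c6 LD2_c55 LD3_c41)) :=
  Lre_e IH (LK LD1_c13 LD2_c9 LD3_c30) (LK LD1_c6 LD2_c55 LD3_c41) Lrfl Lrfl
theorem f478874 : Led Lsl_dt (LP (LK LD1_c3 LD2_c34 LD3_c58)) = (LP (LK LD1_c7 LD2_c11 LD3_c3)) :=
  Lre_d IH (LK LD1_c3 LD2_c34 LD3_c58) (LK LD1_c7 LD2_c11 LD3_c3) Lrfl Lrfl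
theorem f484301 : Led Lsl_et (LP (LK LD1_c7 LD2_c11 LD3_c3)) = (LP (LK LD1_c13 LD2_c36 LD3_c42)) :=
  Lre_e IH (LK LD1_c7 LD2_c11 LD3_c3) (LK LD1_c13 LD2_c36 LD3_c42) Lrfl Lrfl
theorem f484422 : Led Lsl_df (LP (LK LD1_c13 LD2_c9 LD3_c30)) = (LP (LK LD1_c13 LD2_c36 LD3_c42)) :=
  Lgr Lrot70 (Lpr_et (f136659 IH) (Lpr_dt (K29.f136648 IH) (Lpr_et (f484418 IH) (Lpr_dt (f478874 IH) (Lpr_et (f484301 IH) (Lpn (LP (LK LD1_c13 LD2_c36 LD3_c42))))))))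
theorem f476926 : Led Lsl_ft (LP (LK LD1_c13 LD2_c9 LD3_c30)) = (LP (LK LD1_c22 LD2_c21 LD3_c50)) :=
  Lre_f IH (LK LD1_c13 LD2_c9 LD3_c30) (LK LD1_c22 LD2_c21 LD3_c50) Lrfl Lrfl
theorem f484429 : Led Lsl_ft (LP (LK LD1_c23 LD2_c1 LD3_c10)) = (LP (LK LD1_c13 LD2_c36 LD3_c42)) :=
  Lre_f IH (LK LD1_c23 LD2_c1 LD3_c10) (LK LD1_c13 LD2_c36 LD3_c42) Lrfl Lrfl
theorem f484430 : Led Lsl_dt (LP (LK LD1_c22 LD2_c21 LD3_c50)) = (LP (LK LD1_c23 LD2_c1 LD3_c10)) :=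
  Lgr Lrot60 (Lpe (f476926 IH) (Lpr_df (f484422 IH) (Lpe (f484429 IH) (Lpn (LP (LK LD1_c23 LD2_c1 LD3_c10))))))
theorem f136621 : Led Lsl_et (LP (LK LD1_c13 LD2_c9 LD3_c14)) = (LP (LK LD1_c22 LD2_c21 LD3_c50)) :=
  Lre_e IH (LK LD1_c13 LD2_c9 LD3_c14) (LK LD1_c22 LD2_c21 LD3_c50) Lrfl Lrfl
theorem f125870 : Led Lsl_dt (LP (LK LD1_c6 LD2_c55 LD3_c32)) = (LP (LK LD1_c13 LD2_c9 LD3_c14)) :=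
  Lre_d IH (LK LD1_c6 LD2_c55 LD3_c32) (LK LD1_c13 LD2_c9 LD3_c14) Lrfl Lrfl
theorem f125932 : Led Lsl_dt (LP (LK LD1_c14 LD2_c52 LD3_c52)) = (LP (LK LD1_c7 LD2_c53 LD3_c22)) :=
  Lre_d IH (LK LD1_c14 LD2_c52 LD3_c52) (LK LD1_c7 LD2_c53 LD3_c22) Lrfl Lrfl
theorem f484435 : Led Lsl_ef (LP (LK LD1_c14 LD2_c52 LD3_c52)) = (LP (LK LD1_c23 LD2_c1 LD3_c10)) :=
  Lgr Lrot73 (Lpr_dt (f125932 IH) (Lpr_et (K8.f125853 IH) (Lpr_dt (f125870 IH) (Lpr_et (f136621 IH) (Lpr_dt (f484430 IH) (Lpn (LP (LK LD1_c23 LD2_c1 LD3_c10))))))))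
theorem f125968 : Led Lsl_ft (LP (LK LD1_c14 LD2_c52 LD3_c52)) = (LP (LK LD1_c7 LD2_c53 LD3_c21)) :=
  Lre_f IH (LK LD1_c14 LD2_c52 LD3_c52) (LK LD1_c7 LD2_c53 LD3_c21) Lrfl Lrfl
theorem f484432 : Led Lsl_ft (LP (LK LD1_c13 LD2_c36 LD3_c42)) = (LP (LK LD1_c23 LD2_c1 LD3_c10)) :=
  Lre_f IH (LK LD1_c13 LD2_c36 LD3_c42) (LK LD1_c23 LD2_c1 LD3_c10) Lrfl Lrfl
theorem f484441 : Led Lsl_ft (LP (LK LD1_c3 LD2_c55 LD3_c51)) = (LP (LK LD1_c7 LD2_c11 LD3_c3)) :=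
  Lgr Lrot86 (Lpe (K8.f125901 IH) (Lpe (f125968 IH) (Lpr_ef (f484435 IH) (Lpe (f484432 IH) (Lpe (f484301 IH) (Lpn (LP (LK LD1_c7 LD2_c11 LD3_c3))))))))
theorem f484445 : Led Lsl_bt (LP (LK LD1_c7 LD2_c11 LD3_c3)) = (LP (LK LD1_c13 LD2_c36 LD3_c40)) :=
  Lre_b IH (LK LD1_c7 LD2_c11 LD3_c3) (LK LD1_c13 LD2_c36 LD3_c40) Lrfl Lrfl
theorem f484446 : Led Lsl_ff (LP (LK LD1_c7 LD2_c53 LD3_c18)) = (LP (LK LD1_c13 LD2_c36 LD3_c40)) :=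
  Lgr Lrot25 (Lpr_bt (K6.f125897 IH) (Lpr_ft (f484441 IH) (Lpr_bt (f484445 IH) (Lpn (LP (LK LD1_c13 LD2_c36 LD3_c40))))))
theorem f484477 : Led Lsl_dt (LP (LK LD1_c7 LD2_c11 LD3_c2)) = (LP (LK LD1_c13 LD2_c36 LD3_c40)) :=
  Lre_d IH (LK LD1_c7 LD2_c11 LD3_c2) (LK LD1_c13 LD2_c36 LD3_c40) Lrfl Lrfl
theorem f484478 : Led Lsl_ft (LP (LK LD1_c3 LD2_c55 LD3_c47)) = (LP (LK LD1_c7 LD2_c11 LD3_c2)) :=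
  Lgr Lrot54 (Lpe (K6.f123516 IH) (Lpr_ff (f484446 IH) (Lpe (f484477 IH) (Lpn (LP (LK LD1_c7 LD2_c11 LD3_c2))))))
theorem f485245 : Led Lsl_cf (LP (LK LD1_c7 LD2_c50 LD3_c40)) = (LP (LK LD1_c7 LD2_c11 LD3_c2)) :=
  Lgr Lrot108 (Lpr_ft (f485223 IH) (Lpr_ct (K5.f122702 IH) (Lpr_ft (f484478 IH) (Lpn (LP (LK LD1_c7 LD2_c11 LD3_c2))))))
theorem f484298 : Led Lsl_bt (LP (LK LD1_c7 LD2_c11 LD3_c2)) = (LP (LK LD1_c3 LD2_c34 LD3_c58)) :=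
  Lre_b IH (LK LD1_c7 LD2_c11 LD3_c2) (LK LD1_c3 LD2_c34 LD3_c58) Lrfl Lrfl
theorem f481713 : Led Lsl_ct (LP (LK LD1_c3 LD2_c26 LD3_c34)) = (LP (LK LD1_c1 LD2_c51 LD3_c10)) :=
  Lgr Lrot59 (Lpr_cf (f481709 IH) (Lpn (LP (LK LD1_c1 LD2_c51 LD3_c10))))
theorem f89858 : Led Lsl_bt (LP (LK LD1_c1 LD2_c51 LD3_c8)) = (LP (LK LD1_c3 LD2_c48 LD3_c13)) :=
  Lre_b IH (LK LD1_c1 LD2_c51 LD3_c8) (LK LD1_c3 LD2_c48 LD3_c13) Lrfl Lrfl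
theorem f116714 : Led Lsl_gt (LP (LK LD1_c3 LD2_c48 LD3_c13)) = (LP (LK LD1_c7 LD2_c37 LD3_c26)) :=
  Lre_g IH (LK LD1_c3 LD2_c48 LD3_c13) (LK LD1_c7 LD2_c37 LD3_c26) Lrfl Lrfl
theorem f481794 : Led Lsl_bt (LP (LK LD1_c14 LD2_c22 LD3_c23)) = (LP (LK LD1_c7 LD2_c37 LD3_c26)) :=
  Lre_b IH (LK LD1_c14 LD2_c22 LD3_c23) (LK LD1_c7 LD2_c37 LD3_c26) Lrfl Lrfl
theorem f485311 : Led Lsl_cf (LP (LK LD1_c14 LD2_c47 LD3_c61)) = (LP (LK LD1_c14 LD2_c22 LD3_c23)) :=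
  Lgr Lrot160 (Lpr_gt (f485296 IH) (Lpr_cf (f485245 IH) (Lpr_bt (f484298 IH) (Lpe (f484239 IH) (Lpr_ct (f481713 IH) (Lpr_gt (K24.f84664 IH) (Lpe (K2.f89859 IH) (Lpr_bt (f89858 IH) (Lpr_gt (f116714 IH) (Lpe (f481794 IH) (Lpn (LP (LK LD1_c14 LD2_c22 LD3_c23)))))))))))))
theorem f485314 : Led Lsl_ct (LP (LK LD1_c14 LD2_c47 LD3_c61)) = (LP (LK LD1_c14 LD2_c22 LD3_c23)) :=
  Lgr Lrot59 (Lpr_cf (f485311 IH) (Lpn (LP (LK LD1_c14 LD2_c22 LD3_c23))))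
theorem f488802 : Led Lsl_gt (LP (LK LD1_c14 LD2_c46 LD3_c5)) = (LP (LK LD1_c14 LD2_c22 LD3_c23)) :=
  Lgr Lrot149 (Lpe (f136385 IH) (Lpr_gf (f488784 IH) (Lpe (f480177 IH) (Lpr_ct (f480259 IH) (Lpe (f476896 IH) (Lpr_cf (K29.f480812 IH) (Lpr_bt (f480809 IH) (Lpe (f480890 IH) (Lpe (f486373 IH) (Lpr_ct (f485314 IH) (Lpn (LP (LK LD1_c14 LD2_c22 LD3_c23)))))))))))))
theorem f481717 : Led Lsl_et (LP (LK LD1_c3 LD2_c26 LD3_c34)) = (LP (LK LD1_c6 LD2_c54 LD3_c61)) :=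
  Lre_e IH (LK LD1_c3 LD2_c26 LD3_c34) (LK LD1_c6 LD2_c54 LD3_c61) Lrfl Lrfl
theorem f84665 : Led Lsl_et (LP (LK LD1_c3 LD2_c48 LD3_c19)) = (LP (LK LD1_c1 LD2_c51 LD3_c10)) :=
  Lre_e IH (LK LD1_c3 LD2_c48 LD3_c19) (LK LD1_c1 LD2_c51 LD3_c10) Lrfl Lrfl
theorem f481718 : Led Lsl_ct (LP (LK LD1_c6 LD2_c54 LD3_c61)) = (LP (LK LD1_c3 LD2_c48 LD3_c19)) :=
  Lgr Lrot15 (Lpe (f481717 IH) (Lpr_cf (f481709 IH) (Lpe (f84665 IH) (Lpn (LP (LK LD1_c3 LD2_c48 LD3_c19))))))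
theorem f481731 : Led Lsl_cf (LP (LK LD1_c6 LD2_c54 LD3_c61)) = (LP (LK LD1_c3 LD2_c48 LD3_c19)) :=
  Lgr Lrot11 (Lpr_ct (f481718 IH) (Lpn (LP (LK LD1_c3 LD2_c48 LD3_c19))))
theorem f481183 : Led Lsl_bt (LP (LK LD1_c7 LD2_c37 LD3_c38)) = (LP (LK LD1_c3 LD2_c48 LD3_c19)) :=
  Lre_b IH (LK LD1_c7 LD2_c37 LD3_c38) (LK LD1_c3 LD2_c48 LD3_c19) Lrfl Lrfl
theorem f467926 : Led Lsl_et (LP (LK LD1_c3 LD2_c32 LD3_c50)) = (LP (LK LD1_c7 LD2_c6 LD3_c38)) :=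
  Lre_e IH (LK LD1_c3 LD2_c32 LD3_c50) (LK LD1_c7 LD2_c6 LD3_c38) Lrfl Lrfl
theorem f467927 : Led Lsl_et (LP (LK LD1_c7 LD2_c37 LD3_c38)) = (LP (LK LD1_c3 LD2_c48 LD3_c17)) :=
  Lre_e IH (LK LD1_c7 LD2_c37 LD3_c38) (LK LD1_c3 LD2_c48 LD3_c17) Lrfl Lrfl
theorem f467928 : Led Lsl_ct (LP (LK LD1_c7 LD2_c6 LD3_c38)) = (LP (LK LD1_c7 LD2_c37 LD3_c38)) :=
  Lgr Lrot15 (Lpe (f467926 IH) (Lpr_cf (K28.f467915 IH) (Lpe (f467927 IH) (Lpn (LP (LK LD1_c7 LD2_c37 LD3_c38))))))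
theorem f481182 : Led Lsl_bt (LP (LK LD1_c13 LD2_c28 LD3_c21)) = (LP (LK LD1_c7 LD2_c6 LD3_c38)) :=
  Lre_b IH (LK LD1_c13 LD2_c28 LD3_c21) (LK LD1_c7 LD2_c6 LD3_c38) Lrfl Lrfl
theorem f481056 : Led Lsl_ft (LP (LK LD1_c13 LD2_c43 LD3_c30)) = (LP (LK LD1_c7 LD2_c39 LD3_c17)) :=
  Lgr Lrot48 (Lpr_ff (K29.f481044 IH) (Lpn (LP (LK LD1_c7 LD2_c39 LD3_c17))))
theorem f481069 : Led Lsl_at (LP (LK LD1_c23 LD2_c9 LD3_c60)) = (LP (LK LD1_c13 LD2_c43 LD3_c30)) :=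
  Lre_a IH (LK LD1_c23 LD2_c9 LD3_c60) (LK LD1_c13 LD2_c43 LD3_c30) Lrfl Lrfl
theorem f96890 : Led Lsl_at (LP (LK LD1_c7 LD2_c39 LD3_c17)) = (LP (LK LD1_c14 LD2_c25 LD3_c33)) :=
  Lre_a IH (LK LD1_c7 LD2_c39 LD3_c17) (LK LD1_c14 LD2_c25 LD3_c33) Lrfl Lrfl
theorem f481070 : Led Lsl_ff (LP (LK LD1_c23 LD2_c9 LD3_c60)) = (LP (LK LD1_c14 LD2_c25 LD3_c33)) :=
  Lgr Lrot30 (Lpr_at (f481069 IH) (Lpr_ft (f481056 IH) (Lpr_at (f96890 IH) (Lpn (LP (LK LD1_c14 LD2_c25 LD3_c33))))))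
theorem f442173 : Led Lsl_dt (LP (LK LD1_c13 LD2_c28 LD3_c36)) = (LP (LK LD1_c22 LD2_c48 LD3_c23)) :=
  Lre_d IH (LK LD1_c13 LD2_c28 LD3_c36) (LK LD1_c22 LD2_c48 LD3_c23) Lrfl Lrfl
theorem f478059 : Led Lsl_ct (LP (LK LD1_c22 LD2_c48 LD3_c23)) = (LP (LK LD1_c30 LD2_c43 LD3_c38)) :=
  Lre_c IH (LK LD1_c22 LD2_c48 LD3_c23) (LK LD1_c30 LD2_c43 LD3_c38) Lrfl Lrfl
theorem f97946 : Led Lsl_dt (LP (LK LD1_c7 LD2_c42 LD3_c47)) = (LP (LK LD1_c3 LD2_c50 LD3_c50)) :=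
  Lre_d IH (LK LD1_c7 LD2_c42 LD3_c47) (LK LD1_c3 LD2_c50 LD3_c50) Lrfl Lrfl
theorem f97950 : Led Lsl_ct (LP (LK LD1_c14 LD2_c32 LD3_c27)) = (LP (LK LD1_c7 LD2_c42 LD3_c47)) :=
  Lre_c IH (LK LD1_c14 LD2_c32 LD3_c27) (LK LD1_c7 LD2_c42 LD3_c47) Lrfl Lrfl
theorem f97957 : Led Lsl_dt (LP (LK LD1_c24 LD2_c14 LD3_c45)) = (LP (LK LD1_c14 LD2_c32 LD3_c27)) :=
  Lre_d IH (LK LD1_c24 LD2_c14 LD3_c45) (LK LD1_c14 LD2_c32 LD3_c27) Lrfl Lrfl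
theorem f97958 : Led Lsl_ct (LP (LK LD1_c31 LD2_c26 LD3_c17)) = (LP (LK LD1_c24 LD2_c14 LD3_c45)) :=
  Lre_c IH (LK LD1_c31 LD2_c26 LD3_c17) (LK LD1_c24 LD2_c14 LD3_c45) Lrfl Lrfl
theorem f478060 : Led Lsl_dt (LP (LK LD1_c30 LD2_c43 LD3_c38)) = (LP (LK LD1_c31 LD2_c26 LD3_c17)) :=
  Lgr Lrot32 (Lpe (f478059 IH) (Lpe (f442173 IH) (Lpr_ft (K29.f478052 IH) (Lpe (K28.f97934 IH) (Lpr_cf (K29.f97937 IH) (Lpe (f97946 IH) (Lpe (f97950 IH) (Lpe (f97957 IH) (Lpe (f97958 IH) (Lpn (LP (LK LD1_c31 LD2_c26 LD3_c17))))))))))))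
theorem f97956 : Led Lsl_ct (LP (LK LD1_c13 LD2_c40 LD3_c30)) = (LP (LK LD1_c23 LD2_c6 LD3_c2)) :=
  Lre_c IH (LK LD1_c13 LD2_c40 LD3_c30) (LK LD1_c23 LD2_c6 LD3_c2) Lrfl Lrfl
theorem f97116 : Led Lsl_ct (LP (LK LD1_c23 LD2_c6 LD3_c2)) = (LP (LK LD1_c13 LD2_c40 LD3_c30)) :=
  Lre_c IH (LK LD1_c23 LD2_c6 LD3_c2) (LK LD1_c13 LD2_c40 LD3_c30) Lrfl Lrfl
theorem f96894 : Led Lsl_ct (LP (LK LD1_c13 LD2_c30 LD3_c1)) = (LP (LK LD1_c22 LD2_c50 LD3_c52)) :=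
  Lre_c IH (LK LD1_c13 LD2_c30 LD3_c1) (LK LD1_c22 LD2_c50 LD3_c52) Lrfl Lrfl
theorem f97974 : Led Lsl_af (LP (LK LD1_c23 LD2_c6 LD3_c2)) = (LP (LK LD1_c22 LD2_c50 LD3_c52)) :=
  Lgr Lrot68 (Lpr_ct (f97116 IH) (Lpr_at (K28.f97967 IH) (Lpr_ct (f96894 IH) (Lpn (LP (LK LD1_c22 LD2_c50 LD3_c52))))))
theorem f478064 : Led Lsl_ft (LP (LK LD1_c30 LD2_c43 LD3_c38)) = (LP (LK LD1_c22 LD2_c50 LD3_c52)) :=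
  Lgr Lrot142 (Lpr_dt (f478060 IH) (Lpr_ct (f97958 IH) (Lpr_dt (f97957 IH) (Lpr_ct (f97950 IH) (Lpr_dt (f97946 IH) (Lpe (K29.f97937 IH) (Lpr_dt (K28.f97914 IH) (Lpr_ct (f97956 IH) (Lpr_af (f97974 IH) (Lpn (LP (LK LD1_c22 LD2_c50 LD3_c52))))))))))))
theorem f478071 : Led Lsl_ff (LP (LK LD1_c30 LD2_c43 LD3_c38)) = (LP (LK LD1_c22 LD2_c50 LD3_c52)) :=
  Lgr Lrot3 (Lpr_ft (f478064 IH) (Lpn (LP (LK LD1_c22 LD2_c50 LD3_c52))))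
theorem f478073 : Led Lsl_ct (LP (LK LD1_c30 LD2_c43 LD3_c38)) = (LP (LK LD1_c22 LD2_c48 LD3_c23)) :=
  Lre_c IH (LK LD1_c30 LD2_c43 LD3_c38) (LK LD1_c22 LD2_c48 LD3_c23) Lrfl Lrfl
theorem f478074 : Led Lsl_ft (LP (LK LD1_c22 LD2_c48 LD3_c23)) = (LP (LK LD1_c13 LD2_c30 LD3_c1)) :=
  Lgr Lrot4 (Lpe (f478073 IH) (Lpr_ff (f478071 IH) (Lpe (f96894 IH) (Lpn (LP (LK LD1_c13 LD2_c30 LD3_c1))))))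
theorem f481078 : Led Lsl_bt (LP (LK LD1_c23 LD2_c9 LD3_c60)) = (LP (LK LD1_c22 LD2_c48 LD3_c23)) :=
  Lgr Lrot35 (Lpr_ff (f481070 IH) (Lpr_bf (K28.f96892 IH) (Lpe (f478074 IH) (Lpn (LP (LK LD1_c22 LD2_c48 LD3_c23))))))
theorem f481084 : Led Lsl_bf (LP (LK LD1_c23 LD2_c9 LD3_c60)) = (LP (LK LD1_c22 LD2_c48 LD3_c23)) :=
  Lgr Lrot24 (Lpr_bt (f481078 IH) (Lpn (LP (LK LD1_c22 LD2_c48 LD3_c23))))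
theorem f481048 : Led Lsl_at (LP (LK LD1_c13 LD2_c43 LD3_c30)) = (LP (LK LD1_c23 LD2_c9 LD3_c60)) :=
  Lre_a IH (LK LD1_c13 LD2_c43 LD3_c30) (LK LD1_c23 LD2_c9 LD3_c60) Lrfl Lrfl
theorem f481058 : Led Lsl_gt (LP (LK LD1_c7 LD2_c39 LD3_c17)) = (LP (LK LD1_c14 LD2_c25 LD3_c39)) :=
  Lre_g IH (LK LD1_c7 LD2_c39 LD3_c17) (LK LD1_c14 LD2_c25 LD3_c39) Lrfl Lrfl
theorem f481059 : Led Lsl_gf (LP (LK LD1_c23 LD2_c9 LD3_c60)) = (LP (LK LD1_c14 LD2_c25 LD3_c39)) :=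
  Lgr Lrot76 (Lpe (f481048 IH) (Lpr_ff (K29.f481044 IH) (Lpr_gt (f481058 IH) (Lpn (LP (LK LD1_c14 LD2_c25 LD3_c39))))))
theorem f481066 : Led Lsl_bt (LP (LK LD1_c24 LD2_c5 LD3_c31)) = (LP (LK LD1_c14 LD2_c25 LD3_c39)) :=
  Lre_b IH (LK LD1_c24 LD2_c5 LD3_c31) (LK LD1_c14 LD2_c25 LD3_c39) Lrfl Lrfl
theorem f6475 : Led Lsl_ct (LP (LK LD1_c13 LD2_c39 LD3_c56)) = (LP (LK LD1_c7 LD2_c13 LD3_c7)) :=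
  Lre_c IH (LK LD1_c13 LD2_c39 LD3_c56) (LK LD1_c7 LD2_c13 LD3_c7) Lrfl Lrfl
theorem f6478 : Led Lsl_gt (LP (LK LD1_c7 LD2_c15 LD3_c0)) = (LP (LK LD1_c13 LD2_c39 LD3_c56)) :=
  Lre_g IH (LK LD1_c7 LD2_c15 LD3_c0) (LK LD1_c13 LD2_c39 LD3_c56) Lrfl Lrfl
theorem f97039 : Led Lsl_gt (LP (LK LD1_c7 LD2_c13 LD3_c28)) = (LP (LK LD1_c13 LD2_c40 LD3_c31)) :=
  Lre_g IH (LK LD1_c7 LD2_c13 LD3_c28) (LK LD1_c13 LD2_c40 LD3_c31) Lrfl Lrfl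
theorem f478145 : Led Lsl_cf (LP (LK LD1_c7 LD2_c15 LD3_c0)) = (LP (LK LD1_c13 LD2_c40 LD3_c31)) :=
  Lgr Lrot169 (Lpr_gt (f6478 IH) (Lpr_ct (f6475 IH) (Lpe (K3.f10515 IH) (Lpe (K29.f6591 IH) (Lpe (K29.f6596 IH) (Lpe (K29.f6049 IH) (Lpr_gf (K29.f478142 IH) (Lpe (K29.f97082 IH) (Lpr_gt (f97039 IH) (Lpn (LP (LK LD1_c13 LD2_c40 LD3_c31))))))))))))
theorem f6356 : Led Lsl_ct (LP (LK LD1_c7 LD2_c13 LD3_c7)) = (LP (LK LD1_c13 LD2_c39 LD3_c56)) :=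
  Lre_c IH (LK LD1_c7 LD2_c13 LD3_c7) (LK LD1_c13 LD2_c39 LD3_c56) Lrfl Lrfl
theorem f6355 : Led Lsl_bt (LP (LK LD1_c7 LD2_c13 LD3_c7)) = (LP (LK LD1_c13 LD2_c39 LD3_c36)) :=
  Lre_b IH (LK LD1_c7 LD2_c13 LD3_c7) (LK LD1_c13 LD2_c39 LD3_c36) Lrfl Lrfl
theorem f6295 : Led Lsl_at (LP (LK LD1_c1 LD2_c45 LD3_c29)) = (LP (LK LD1_c3 LD2_c36 LD3_c21)) :=
  Lre_a IH (LK LD1_c1 LD2_c45 LD3_c29) (LK LD1_c3 LD2_c36 LD3_c21) Lrfl Lrfl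
theorem f6296 : Led Lsl_bt (LP (LK LD1_c3 LD2_c36 LD3_c21)) = (LP (LK LD1_c7 LD2_c12 LD3_c60)) :=
  Lre_b IH (LK LD1_c3 LD2_c36 LD3_c21) (LK LD1_c7 LD2_c12 LD3_c60) Lrfl Lrfl
theorem f6297 : Led Lsl_at (LP (LK LD1_c3 LD2_c32 LD3_c51)) = (LP (LK LD1_c1 LD2_c43 LD3_c40)) :=
  Lre_a IH (LK LD1_c3 LD2_c32 LD3_c51) (LK LD1_c1 LD2_c43 LD3_c40) Lrfl Lrfl
theorem f6298 : Led Lsl_bt (LP (LK LD1_c7 LD2_c6 LD3_c28)) = (LP (LK LD1_c3 LD2_c32 LD3_c51)) :=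
  Lre_b IH (LK LD1_c7 LD2_c6 LD3_c28) (LK LD1_c3 LD2_c32 LD3_c51) Lrfl Lrfl
theorem f6299 : Led Lsl_at (LP (LK LD1_c7 LD2_c12 LD3_c60)) = (LP (LK LD1_c7 LD2_c6 LD3_c28)) :=
  Lgr Lrot67 (Lpe (f6296 IH) (Lpe (f6295 IH) (Lpr_bf (K29.f6280 IH) (Lpe (f6297 IH) (Lpe (f6298 IH) (Lpn (LP (LK LD1_c7 LD2_c6 LD3_c28))))))))
theorem f6348 : Led Lsl_ft (LP (LK LD1_c13 LD2_c39 LD3_c36)) = (LP (LK LD1_c7 LD2_c12 LD3_c60)) :=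
  Lre_f IH (LK LD1_c13 LD2_c39 LD3_c36) (LK LD1_c7 LD2_c12 LD3_c60) Lrfl Lrfl
theorem f6472 : Led Lsl_gt (LP (LK LD1_c13 LD2_c28 LD3_c7)) = (LP (LK LD1_c7 LD2_c6 LD3_c28)) :=
  Lre_g IH (LK LD1_c13 LD2_c28 LD3_c7) (LK LD1_c7 LD2_c6 LD3_c28) Lrfl Lrfl
theorem f6473 : Led Lsl_gt (LP (LK LD1_c13 LD2_c39 LD3_c36)) = (LP (LK LD1_c13 LD2_c28 LD3_c7)) :=
  Lgr Lrot5 (Lpr_ft (f6348 IH) (Lpr_at (f6299 IH) (Lpe (f6472 IH) (Lpn (LP (LK LD1_c13 LD2_c28 LD3_c7))))))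
theorem f6479 : Led Lsl_bt (LP (LK LD1_c22 LD2_c47 LD3_c36)) = (LP (LK LD1_c13 LD2_c28 LD3_c7)) :=
  Lre_b IH (LK LD1_c22 LD2_c47 LD3_c36) (LK LD1_c13 LD2_c28 LD3_c7) Lrfl Lrfl
theorem f6480 : Led Lsl_ct (LP (LK LD1_c22 LD2_c47 LD3_c36)) = (LP (LK LD1_c30 LD2_c43 LD3_c10)) :=
  Lre_c IH (LK LD1_c22 LD2_c47 LD3_c36) (LK LD1_c30 LD2_c43 LD3_c10) Lrfl Lrfl
theorem f97115 : Led Lsl_bt (LP (LK LD1_c13 LD2_c40 LD3_c30)) = (LP (LK LD1_c7 LD2_c13 LD3_c28)) :=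
  Lre_b IH (LK LD1_c13 LD2_c40 LD3_c30) (LK LD1_c7 LD2_c13 LD3_c28) Lrfl Lrfl
theorem f478201 : Led Lsl_gt (LP (LK LD1_c30 LD2_c43 LD3_c10)) = (LP (LK LD1_c23 LD2_c6 LD3_c2)) :=
  Lgr Lrot65 (Lpe (f6480 IH) (Lpr_bt (f6479 IH) (Lpe (f6473 IH) (Lpe (f6355 IH) (Lpr_ct (f6356 IH) (Lpe (f6478 IH) (Lpr_cf (f478145 IH) (Lpe (f97039 IH) (Lpe (f97115 IH) (Lpr_ct (f97956 IH) (Lpn (LP (LK LD1_c23 LD2_c6 LD3_c2)))))))))))))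
theorem f478203 : Led Lsl_gf (LP (LK LD1_c30 LD2_c43 LD3_c10)) = (LP (LK LD1_c30 LD2_c43 LD3_c38)) :=
  Lgr Lrot47 (Lpr_gt (f478201 IH) (Lpr_af (f97974 IH) (Lpe (f478064 IH) (Lpn (LP (LK LD1_c30 LD2_c43 LD3_c38))))))
theorem f6454 : Led Lsl_ct (LP (LK LD1_c7 LD2_c6 LD3_c28)) = (LP (LK LD1_c13 LD2_c28 LD3_c8)) :=
  Lre_c IH (LK LD1_c7 LD2_c6 LD3_c28) (LK LD1_c13 LD2_c28 LD3_c8) Lrfl Lrfl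
theorem f478206 : Led Lsl_gt (LP (LK LD1_c13 LD2_c28 LD3_c8)) = (LP (LK LD1_c22 LD2_c47 LD3_c38)) :=
  Lre_g IH (LK LD1_c13 LD2_c28 LD3_c8) (LK LD1_c22 LD2_c47 LD3_c38) Lrfl Lrfl
theorem f481088 : Led Lsl_ct (LP (LK LD1_c24 LD2_c5 LD3_c31)) = (LP (LK LD1_c22 LD2_c47 LD3_c38)) :=
  Lgr Lrot63 (Lpr_bt (f481066 IH) (Lpe (f481059 IH) (Lpr_bf (f481084 IH) (Lpr_ct (f478059 IH) (Lpe (f478203 IH) (Lpe (f6480 IH) (Lpr_bt (f6479 IH) (Lpr_gt (f6472 IH) (Lpr_ct (f6454 IH) (Lpr_gt (f478206 IH) (Lpn (LP (LK LD1_c22 LD2_c47 LD3_c38)))))))))))))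
theorem f10484 : Led Lsl_gt (LP (LK LD1_c7 LD2_c6 LD3_c40)) = (LP (LK LD1_c3 LD2_c32 LD3_c51)) :=
  Lre_g IH (LK LD1_c7 LD2_c6 LD3_c40) (LK LD1_c3 LD2_c32 LD3_c51) Lrfl Lrfl
theorem f6339 : Led Lsl_bt (LP (LK LD1_c13 LD2_c28 LD3_c27)) = (LP (LK LD1_c7 LD2_c6 LD3_c40)) :=
  Lre_b IH (LK LD1_c13 LD2_c28 LD3_c27) (LK LD1_c7 LD2_c6 LD3_c40) Lrfl Lrfl
theorem f6340 : Led Lsl_ct (LP (LK LD1_c13 LD2_c28 LD3_c27)) = (LP (LK LD1_c22 LD2_c48 LD3_c8)) :=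
  Lre_c IH (LK LD1_c13 LD2_c28 LD3_c27) (LK LD1_c22 LD2_c48 LD3_c8) Lrfl Lrfl
theorem f17591 : Led Lsl_gt (LP (LK LD1_c30 LD2_c43 LD3_c27)) = (LP (LK LD1_c22 LD2_c48 LD3_c8)) :=
  Lre_g IH (LK LD1_c30 LD2_c43 LD3_c27) (LK LD1_c22 LD2_c48 LD3_c8) Lrfl Lrfl
theorem f481093 : Led Lsl_ct (LP (LK LD1_c23 LD2_c9 LD3_c60)) = (LP (LK LD1_c30 LD2_c43 LD3_c27)) :=
  Lgr Lrot91 (Lpr_gf (f481059 IH) (Lpe (f481066 IH) (Lpr_ct (f481088 IH) (Lpe (f478206 IH) (Lpe (f6454 IH) (Lpr_bt (f6298 IH) (Lpe (f10484 IH) (Lpe (f6339 IH) (Lpr_ct (f6340 IH) (Lpe (f17591 IH) (Lpn (LP (LK LD1_c30 LD2_c43 LD3_c27)))))))))))))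
theorem f481068 : Led Lsl_dt (LP (LK LD1_c13 LD2_c43 LD3_c29)) = (LP (LK LD1_c23 LD2_c9 LD3_c60)) :=
  Lre_d IH (LK LD1_c13 LD2_c43 LD3_c29) (LK LD1_c23 LD2_c9 LD3_c60) Lrfl Lrfl
theorem f459719 : Led Lsl_at (LP (LK LD1_c3 LD2_c49 LD3_c3)) = (LP (LK LD1_c1 LD2_c51 LD3_c40)) :=
  Lre_a IH (LK LD1_c3 LD2_c49 LD3_c3) (LK LD1_c1 LD2_c51 LD3_c40) Lrfl Lrfl
theorem f477951 : Led Lsl_at (LP (LK LD1_c3 LD2_c37 LD3_c18)) = (LP (LK LD1_c7 LD2_c13 LD3_c8)) :=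
  Lgr Lrot107 (Lpr_cf (K29.f477949 IH) (Lpe (f459719 IH) (Lpe (f467936 IH) (Lpn (LP (LK LD1_c7 LD2_c13 LD3_c8))))))
theorem f478045 : Led Lsl_at (LP (LK LD1_c13 LD2_c43 LD3_c29)) = (LP (LK LD1_c7 LD2_c15 LD3_c8)) :=
  Lre_a IH (LK LD1_c13 LD2_c43 LD3_c29) (LK LD1_c7 LD2_c15 LD3_c8) Lrfl Lrfl
theorem f478046 : Led Lsl_bt (LP (LK LD1_c13 LD2_c28 LD3_c36)) = (LP (LK LD1_c13 LD2_c43 LD3_c29)) :=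
  Lgr Lrot62 (Lpr_af (K29.f478041 IH) (Lpe (f478027 IH) (Lpe (f477951 IH) (Lpe (K29.f477969 IH) (Lpe (f478045 IH) (Lpn (LP (LK LD1_c13 LD2_c43 LD3_c29))))))))
theorem f478115 : Led Lsl_ft (LP (LK LD1_c13 LD2_c43 LD3_c29)) = (LP (LK LD1_c7 LD2_c39 LD3_c13)) :=
  Lgr Lrot75 (Lpe (f478046 IH) (Lpr_ff (K29.f478057 IH) (Lpe (K29.f96885 IH) (Lpn (LP (LK LD1_c7 LD2_c39 LD3_c13))))))
theorem f96883 : Led Lsl_at (LP (LK LD1_c7 LD2_c39 LD3_c13)) = (LP (LK LD1_c3 LD2_c49 LD3_c8)) :=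
  Lre_a IH (LK LD1_c7 LD2_c39 LD3_c13) (LK LD1_c3 LD2_c49 LD3_c8) Lrfl Lrfl
theorem f157574 : Led Lsl_ct (LP (LK LD1_c1 LD2_c51 LD3_c45)) = (LP (LK LD1_c3 LD2_c49 LD3_c8)) :=
  Lre_c IH (LK LD1_c1 LD2_c51 LD3_c45) (LK LD1_c3 LD2_c49 LD3_c8) Lrfl Lrfl
theorem f481097 : Led Lsl_dt (LP (LK LD1_c3 LD2_c49 LD3_c28)) = (LP (LK LD1_c1 LD2_c51 LD3_c45)) :=
  Lre_d IH (LK LD1_c3 LD2_c49 LD3_c28) (LK LD1_c1 LD2_c51 LD3_c45) Lrfl Lrfl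
theorem f481098 : Led Lsl_ct (LP (LK LD1_c7 LD2_c39 LD3_c51)) = (LP (LK LD1_c3 LD2_c49 LD3_c28)) :=
  Lre_c IH (LK LD1_c7 LD2_c39 LD3_c51) (LK LD1_c3 LD2_c49 LD3_c28) Lrfl Lrfl
theorem f481099 : Led Lsl_dt (LP (LK LD1_c14 LD2_c26 LD3_c40)) = (LP (LK LD1_c7 LD2_c39 LD3_c51)) :=
  Lre_d IH (LK LD1_c14 LD2_c26 LD3_c40) (LK LD1_c7 LD2_c39 LD3_c51) Lrfl Lrfl
theorem f481100 : Led Lsl_ct (LP (LK LD1_c24 LD2_c6 LD3_c60)) = (LP (LK LD1_c14 LD2_c26 LD3_c40)) :=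
  Lre_c IH (LK LD1_c24 LD2_c6 LD3_c60) (LK LD1_c14 LD2_c26 LD3_c40) Lrfl Lrfl
theorem f481101 : Led Lsl_df (LP (LK LD1_c24 LD2_c6 LD3_c60)) = (LP (LK LD1_c30 LD2_c43 LD3_c27)) :=
  Lgr Lrot106 (Lpr_ct (f481100 IH) (Lpr_dt (f481099 IH) (Lpr_ct (f481098 IH) (Lpr_dt (f481097 IH) (Lpr_ct (f157574 IH) (Lpe (f96883 IH) (Lpe (f478115 IH) (Lpr_dt (f481068 IH) (Lpr_ct (f481093 IH) (Lpn (LP (LK LD1_c30 LD2_c43 LD3_c27))))))))))))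
theorem f481106 : Led Lsl_dt (LP (LK LD1_c24 LD2_c6 LD3_c60)) = (LP (LK LD1_c30 LD2_c43 LD3_c27)) :=
  Lgr Lrot42 (Lpr_df (f481101 IH) (Lpn (LP (LK LD1_c30 LD2_c43 LD3_c27))))
theorem f481064 : Led Lsl_ct (LP (LK LD1_c14 LD2_c26 LD3_c40)) = (LP (LK LD1_c24 LD2_c6 LD3_c60)) :=
  Lre_c IH (LK LD1_c14 LD2_c26 LD3_c40) (LK LD1_c24 LD2_c6 LD3_c60) Lrfl Lrfl
theorem f481063 : Led Lsl_dt (LP (LK LD1_c7 LD2_c39 LD3_c51)) = (LP (LK LD1_c14 LD2_c26 LD3_c40)) :=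
  Lre_d IH (LK LD1_c7 LD2_c39 LD3_c51) (LK LD1_c14 LD2_c26 LD3_c40) Lrfl Lrfl
theorem f481062 : Led Lsl_ct (LP (LK LD1_c3 LD2_c49 LD3_c28)) = (LP (LK LD1_c7 LD2_c39 LD3_c51)) :=
  Lre_c IH (LK LD1_c3 LD2_c49 LD3_c28) (LK LD1_c7 LD2_c39 LD3_c51) Lrfl Lrfl
theorem f110298 : Led Lsl_dt (LP (LK LD1_c1 LD2_c51 LD3_c45)) = (LP (LK LD1_c3 LD2_c49 LD3_c28)) :=
  Lre_d IH (LK LD1_c1 LD2_c51 LD3_c45) (LK LD1_c3 LD2_c49 LD3_c28) Lrfl Lrfl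
theorem f481114 : Led Lsl_at (LP (LK LD1_c3 LD2_c49 LD3_c29)) = (LP (LK LD1_c7 LD2_c39 LD3_c33)) :=
  Lre_a IH (LK LD1_c3 LD2_c49 LD3_c29) (LK LD1_c7 LD2_c39 LD3_c33) Lrfl Lrfl
theorem f481095 : Led Lsl_cf (LP (LK LD1_c23 LD2_c9 LD3_c60)) = (LP (LK LD1_c30 LD2_c43 LD3_c27)) :=
  Lgr Lrot11 (Lpr_ct (f481093 IH) (Lpn (LP (LK LD1_c30 LD2_c43 LD3_c27))))
theorem f481065 : Led Lsl_dt (LP (LK LD1_c23 LD2_c9 LD3_c60)) = (LP (LK LD1_c13 LD2_c43 LD3_c29)) :=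
  Lre_d IH (LK LD1_c23 LD2_c9 LD3_c60) (LK LD1_c13 LD2_c43 LD3_c29) Lrfl Lrfl
theorem f481115 : Led Lsl_cf (LP (LK LD1_c7 LD2_c39 LD3_c33)) = (LP (LK LD1_c13 LD2_c43 LD3_c29)) :=
  Lgr Lrot102 (Lpe (f481114 IH) (Lpe (K29.f442298 IH) (Lpr_dt (f110298 IH) (Lpr_ct (f481062 IH) (Lpr_dt (f481063 IH) (Lpr_ct (f481064 IH) (Lpr_dt (f481106 IH) (Lpe (f481095 IH) (Lpr_dt (f481065 IH) (Lpn (LP (LK LD1_c13 LD2_c43 LD3_c29))))))))))))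
theorem f481120 : Led Lsl_gt (LP (LK LD1_c7 LD2_c39 LD3_c33)) = (LP (LK LD1_c3 LD2_c49 LD3_c27)) :=
  Lre_g IH (LK LD1_c7 LD2_c39 LD3_c33) (LK LD1_c3 LD2_c49 LD3_c27) Lrfl Lrfl
theorem f481086 : Led Lsl_bt (LP (LK LD1_c13 LD2_c43 LD3_c29)) = (LP (LK LD1_c13 LD2_c28 LD3_c36)) :=
  Lgr Lrot95 (Lpe (f481065 IH) (Lpr_bf (f481084 IH) (Lpe (f442173 IH) (Lpn (LP (LK LD1_c13 LD2_c28 LD3_c36))))))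
theorem f5996 : Led Lsl_bt (LP (LK LD1_c7 LD2_c6 LD3_c36)) = (LP (LK LD1_c3 LD2_c32 LD3_c50)) :=
  Lre_b IH (LK LD1_c7 LD2_c6 LD3_c36) (LK LD1_c3 LD2_c32 LD3_c50) Lrfl Lrfl
theorem f481122 : Led Lsl_cf (LP (LK LD1_c3 LD2_c49 LD3_c27)) = (LP (LK LD1_c7 LD2_c6 LD3_c36)) :=
  Lgr Lrot58 (Lpe (f481120 IH) (Lpr_cf (f481115 IH) (Lpr_bt (f481086 IH) (Lpe (K29.f442172 IH) (Lpe (K29.f6627 IH) (Lpr_ct (K28.f6626 IH) (Lpe (K3.f10305 IH) (Lpe (K29.f10637 IH) (Lpe (K28.f10645 IH) (Lpe (f5996 IH) (Lpn (LP (LK LD1_c7 LD2_c6 LD3_c36)))))))))))))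
theorem f481133 : Led Lsl_et (LP (LK LD1_c3 LD2_c49 LD3_c27)) = (LP (LK LD1_c7 LD2_c39 LD3_c48)) :=
  Lre_e IH (LK LD1_c3 LD2_c49 LD3_c27) (LK LD1_c7 LD2_c39 LD3_c48) Lrfl Lrfl
theorem f481134 : Led Lsl_et (LP (LK LD1_c13 LD2_c28 LD3_c21)) = (LP (LK LD1_c7 LD2_c6 LD3_c36)) :=
  Lre_e IH (LK LD1_c13 LD2_c28 LD3_c21) (LK LD1_c7 LD2_c6 LD3_c36) Lrfl Lrfl
theorem f481135 : Led Lsl_ct (LP (LK LD1_c7 LD2_c39 LD3_c48)) = (LP (LK LD1_c13 LD2_c28 LD3_c21)) :=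
  Lgr Lrot15 (Lpe (f481133 IH) (Lpr_cf (f481122 IH) (Lpe (f481134 IH) (Lpn (LP (LK LD1_c13 LD2_c28 LD3_c21))))))
theorem f481748 : Led Lsl_bt (LP (LK LD1_c6 LD2_c54 LD3_c61)) = (LP (LK LD1_c7 LD2_c39 LD3_c48)) :=
  Lgr Lrot128 (Lpr_cf (f481731 IH) (Lpe (f481183 IH) (Lpe (f467928 IH) (Lpe (f481182 IH) (Lpe (f481135 IH) (Lpn (LP (LK LD1_c7 LD2_c39 LD3_c48))))))))
theorem f157587 : Led Lsl_et (LP (LK LD1_c7 LD2_c39 LD3_c48)) = (LP (LK LD1_c3 LD2_c49 LD3_c27)) :=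
  Lre_e IH (LK LD1_c7 LD2_c39 LD3_c48) (LK LD1_c3 LD2_c49 LD3_c27) Lrfl Lrfl
theorem f481754 : Led Lsl_bf (LP (LK LD1_c3 LD2_c26 LD3_c34)) = (LP (LK LD1_c3 LD2_c49 LD3_c27)) :=
  Lgr Lrot96 (Lpr_et (f481717 IH) (Lpr_bt (f481748 IH) (Lpr_et (f157587 IH) (Lpn (LP (LK LD1_c3 LD2_c49 LD3_c27))))))
theorem f481126 : Led Lsl_ct (LP (LK LD1_c3 LD2_c49 LD3_c27)) = (LP (LK LD1_c7 LD2_c6 LD3_c36)) :=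
  Lgr Lrot59 (Lpr_cf (f481122 IH) (Lpn (LP (LK LD1_c7 LD2_c6 LD3_c36))))
theorem f488815 : Led Lsl_gf (LP (LK LD1_c7 LD2_c14 LD3_c1)) = (LP (LK LD1_c7 LD2_c6 LD3_c36)) :=
  Lgr Lrot126 (Lpe (K8.f136382 IH) (Lpe (K8.f136372 IH) (Lpr_gt (f488802 IH) (Lpe (f485311 IH) (Lpr_gt (f485296 IH) (Lpr_cf (f485245 IH) (Lpr_bt (f484298 IH) (Lpe (f484239 IH) (Lpr_bf (f481754 IH) (Lpr_ct (f481126 IH) (Lpn (LP (LK LD1_c7 LD2_c6 LD3_c36)))))))))))))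
theorem f162208 : Led Lsl_af (LP (LK LD1_c7 LD2_c14 LD3_c1)) = (LP (LK LD1_c7 LD2_c7 LD3_c50)) :=
  Lgr Lrot0 (Lpr_at (K8.f162206 IH) (Lpn (LP (LK LD1_c7 LD2_c7 LD3_c50))))
theorem f481142 : Led Lsl_gt (LP (LK LD1_c13 LD2_c28 LD3_c18)) = (LP (LK LD1_c7 LD2_c6 LD3_c36)) :=
  Lre_g IH (LK LD1_c13 LD2_c28 LD3_c18) (LK LD1_c7 LD2_c6 LD3_c36) Lrfl Lrfl
theorem f488818 : Led Lsl_ff (LP (LK LD1_c7 LD2_c7 LD3_c50)) = (LP (LK LD1_c13 LD2_c28 LD3_c18)) :=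
  Lgr Lrot52 (Lpe (f162208 IH) (Lpr_gf (f488815 IH) (Lpe (f481142 IH) (Lpn (LP (LK LD1_c13 LD2_c28 LD3_c18))))))
theorem f96821 : Led Lsl_ft (LP (LK LD1_c7 LD2_c35 LD3_c61)) = (LP (LK LD1_c14 LD2_c19 LD3_c40)) :=
  Lre_f IH (LK LD1_c7 LD2_c35 LD3_c61) (LK LD1_c14 LD2_c19 LD3_c40) Lrfl Lrfl
theorem f488831 : Led Lsl_ct (LP (LK LD1_c14 LD2_c19 LD3_c40)) = (LP (LK LD1_c13 LD2_c28 LD3_c18)) :=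
  Lgr Lrot40 (Lpe (f96821 IH) (Lpe (K8.f96786 IH) (Lpr_ff (f488818 IH) (Lpn (LP (LK LD1_c13 LD2_c28 LD3_c18))))))
theorem f486792 : Led Lsl_bt (LP (LK LD1_c14 LD2_c19 LD3_c40)) = (LP (LK LD1_c7 LD2_c36 LD3_c3)) :=
  Lre_b IH (LK LD1_c14 LD2_c19 LD3_c40) (LK LD1_c7 LD2_c36 LD3_c3) Lrfl Lrfl
theorem f15162 : Led Lsl_ct (LP (LK LD1_c1 LD2_c39 LD3_c58)) = (LP (LK LD1_c0 LD2_c46 LD3_c31)) :=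
  Lre_c IH (LK LD1_c1 LD2_c39 LD3_c58) (LK LD1_c0 LD2_c46 LD3_c31) Lrfl Lrfl
theorem f481759 : Led Lsl_ct (LP (LK LD1_c3 LD2_c26 LD3_c37)) = (LP (LK LD1_c1 LD2_c39 LD3_c59)) :=
  Lre_c IH (LK LD1_c3 LD2_c26 LD3_c37) (LK LD1_c1 LD2_c39 LD3_c59) Lrfl Lrfl
theorem f481760 : Led Lsl_bt (LP (LK LD1_c3 LD2_c26 LD3_c37)) = (LP (LK LD1_c6 LD2_c55 LD3_c4)) :=
  Lre_b IH (LK LD1_c3 LD2_c26 LD3_c37) (LK LD1_c6 LD2_c55 LD3_c4) Lrfl Lrfl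
theorem f488849 : Led Lsl_gf (LP (LK LD1_c7 LD2_c36 LD3_c3)) = (LP (LK LD1_c6 LD2_c55 LD3_c4)) :=
  Lgr Lrot124 (Lpe (f486792 IH) (Lpr_ct (f488831 IH) (Lpr_gt (f481142 IH) (Lpe (f481126 IH) (Lpe (f481754 IH) (Lpr_gt (f15270 IH) (Lpr_ct (f15162 IH) (Lpr_gt (f15107 IH) (Lpe (f481759 IH) (Lpr_bt (f481760 IH) (Lpn (LP (LK LD1_c6 LD2_c55 LD3_c4)))))))))))))
theorem f456224 : Led Lsl_bt (LP (LK LD1_c7 LD2_c11 LD3_c4)) = (LP (LK LD1_c3 LD2_c34 LD3_c59)) :=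
  Lre_b IH (LK LD1_c7 LD2_c11 LD3_c4) (LK LD1_c3 LD2_c34 LD3_c59) Lrfl Lrfl
theorem f484223 : Led Lsl_ff (LP (LK LD1_c7 LD2_c11 LD3_c4)) = (LP (LK LD1_c6 LD2_c55 LD3_c4)) :=
  Lgr Lrot25 (Lpr_bt (f456224 IH) (Lpr_ft (f484212 IH) (Lpr_bt (f481760 IH) (Lpn (LP (LK LD1_c6 LD2_c55 LD3_c4))))))
theorem f487556 : Led Lsl_ff (LP (LK LD1_c1 LD2_c50 LD3_c34)) = (LP (LK LD1_c3 LD2_c30 LD3_c44)) :=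
  Lgr Lrot19 (Lpr_dt (K29.f451072 IH) (Lpr_ft (K30.f487550 IH) (Lpr_dt (K29.f443499 IH) (Lpn (LP (LK LD1_c3 LD2_c30 LD3_c44))))))
theorem f487560 : Led Lsl_ft (LP (LK LD1_c3 LD2_c46 LD3_c58)) = (LP (LK LD1_c7 LD2_c3 LD3_c31)) :=
  Lgr Lrot4 (Lpe (K29.f468594 IH) (Lpr_ff (f487556 IH) (Lpe (K29.f443506 IH) (Lpn (LP (LK LD1_c7 LD2_c3 LD3_c31))))))
theorem f487568 : Led Lsl_af (LP (LK LD1_c7 LD2_c4 LD3_c50)) = (LP (LK LD1_c7 LD2_c3 LD3_c31)) :=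
  Lgr Lrot31 (Lpe (K29.f477429 IH) (Lpe (K29.f461290 IH) (Lpr_ft (f487560 IH) (Lpn (LP (LK LD1_c7 LD2_c3 LD3_c31))))))
theorem f487572 : Led Lsl_at (LP (LK LD1_c3 LD2_c51 LD3_c61)) = (LP (LK LD1_c7 LD2_c36 LD3_c50)) :=
  Lgr Lrot51 (Lpe (K29.f476329 IH) (Lpr_af (f487568 IH) (Lpr_df (K29.f477219 IH) (Lpn (LP (LK LD1_c7 LD2_c36 LD3_c50))))))
theorem f476326 : Led Lsl_et (LP (LK LD1_c7 LD2_c45 LD3_c50)) = (LP (LK LD1_c3 LD2_c51 LD3_c61)) :=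
  Lre_e IH (LK LD1_c7 LD2_c45 LD3_c50) (LK LD1_c3 LD2_c51 LD3_c61) Lrfl Lrfl
theorem f477240 : Led Lsl_et (LP (LK LD1_c7 LD2_c36 LD3_c50)) = (LP (LK LD1_c14 LD2_c21 LD3_c18)) :=
  Lre_e IH (LK LD1_c7 LD2_c36 LD3_c50) (LK LD1_c14 LD2_c21 LD3_c18) Lrfl Lrfl
theorem f487578 : Led Lsl_af (LP (LK LD1_c7 LD2_c45 LD3_c50)) = (LP (LK LD1_c14 LD2_c21 LD3_c18)) :=
  Lgr Lrot50 (Lpr_et (f476326 IH) (Lpr_at (f487572 IH) (Lpr_et (f477240 IH) (Lpn (LP (LK LD1_c14 LD2_c21 LD3_c18))))))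
theorem f477445 : Led Lsl_ct (LP (LK LD1_c7 LD2_c45 LD3_c50)) = (LP (LK LD1_c14 LD2_c38 LD3_c37)) :=
  Lre_c IH (LK LD1_c7 LD2_c45 LD3_c50) (LK LD1_c14 LD2_c38 LD3_c37) Lrfl Lrfl
theorem f477879 : Led Lsl_ct (LP (LK LD1_c23 LD2_c59 LD3_c19)) = (LP (LK LD1_c14 LD2_c21 LD3_c18)) :=
  Lre_c IH (LK LD1_c23 LD2_c59 LD3_c19) (LK LD1_c14 LD2_c21 LD3_c18) Lrfl Lrfl
theorem f487582 : Led Lsl_at (LP (LK LD1_c14 LD2_c38 LD3_c37)) = (LP (LK LD1_c23 LD2_c59 LD3_c19)) :=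
  Lgr Lrot107 (Lpe (f477445 IH) (Lpr_af (f487578 IH) (Lpe (f477879 IH) (Lpn (LP (LK LD1_c23 LD2_c59 LD3_c19))))))
theorem f487585 : Led Lsl_af (LP (LK LD1_c14 LD2_c38 LD3_c37)) = (LP (LK LD1_c23 LD2_c59 LD3_c19)) :=
  Lgr Lrot0 (Lpr_at (f487582 IH) (Lpn (LP (LK LD1_c23 LD2_c59 LD3_c19))))
theorem f461194 : Led Lsl_et (LP (LK LD1_c14 LD2_c38 LD3_c37)) = (LP (LK LD1_c7 LD2_c45 LD3_c49)) :=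
  Lre_e IH (LK LD1_c14 LD2_c38 LD3_c37) (LK LD1_c7 LD2_c45 LD3_c49) Lrfl Lrfl
theorem f477296 : Led Lsl_et (LP (LK LD1_c14 LD2_c21 LD3_c17)) = (LP (LK LD1_c23 LD2_c59 LD3_c19)) :=
  Lre_e IH (LK LD1_c14 LD2_c21 LD3_c17) (LK LD1_c23 LD2_c59 LD3_c19) Lrfl Lrfl
theorem f487588 : Led Lsl_at (LP (LK LD1_c7 LD2_c45 LD3_c49)) = (LP (LK LD1_c14 LD2_c21 LD3_c17)) :=
  Lgr Lrot80 (Lpe (f461194 IH) (Lpr_af (f487585 IH) (Lpe (f477296 IH) (Lpn (LP (LK LD1_c14 LD2_c21 LD3_c17))))))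
theorem f487591 : Led Lsl_af (LP (LK LD1_c14 LD2_c38 LD3_c36)) = (LP (LK LD1_c13 LD2_c21 LD3_c22)) :=
  Lgr Lrot117 (Lpr_dt (K29.f461174 IH) (Lpr_at (f487588 IH) (Lpr_dt (K29.f477294 IH) (Lpn (LP (LK LD1_c13 LD2_c21 LD3_c22))))))
theorem f487597 : Led Lsl_ft (LP (LK LD1_c14 LD2_c38 LD3_c30)) = (LP (LK LD1_c13 LD2_c21 LD3_c22)) :=
  Lgr Lrot2 (Lpe (K29.f477172 IH) (Lpe (K29.f477257 IH) (Lpr_af (f487591 IH) (Lpn (LP (LK LD1_c13 LD2_c21 LD3_c22))))))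
theorem f487603 : Led Lsl_ff (LP (LK LD1_c14 LD2_c38 LD3_c30)) = (LP (LK LD1_c13 LD2_c21 LD3_c22)) :=
  Lgr Lrot3 (Lpr_ft (f487597 IH) (Lpn (LP (LK LD1_c13 LD2_c21 LD3_c22))))
theorem f461323 : Led Lsl_gt (LP (LK LD1_c13 LD2_c21 LD3_c20)) = (LP (LK LD1_c7 LD2_c3 LD3_c51)) :=
  Lre_g IH (LK LD1_c13 LD2_c21 LD3_c20) (LK LD1_c7 LD2_c3 LD3_c51) Lrfl Lrfl
theorem f443601 : Led Lsl_ct (LP (LK LD1_c7 LD2_c2 LD3_c33)) = (LP (LK LD1_c13 LD2_c21 LD3_c20)) :=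
  Lre_c IH (LK LD1_c7 LD2_c2 LD3_c33) (LK LD1_c13 LD2_c21 LD3_c20) Lrfl Lrfl
theorem f461332 : Led Lsl_gf (LP (LK LD1_c3 LD2_c30 LD3_c25)) = (LP (LK LD1_c7 LD2_c2 LD3_c33)) :=
  Lgr Lrot144 (Lpr_dt (K29.f457655 IH) (Lpr_gt (K24.f64272 IH) (Lpr_dt (K1.f65001 IH) (Lpe (K24.f460508 IH) (Lpe (K29.f460567 IH) (Lpe (K29.f459900 IH) (Lpr_df (K29.f461311 IH) (Lpe (f461323 IH) (Lpe (f443601 IH) (Lpn (LP (LK LD1_c7 LD2_c2 LD3_c33))))))))))))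
theorem f443519 : Led Lsl_ct (LP (LK LD1_c13 LD2_c21 LD3_c20)) = (LP (LK LD1_c7 LD2_c2 LD3_c33)) :=
  Lre_c IH (LK LD1_c13 LD2_c21 LD3_c20) (LK LD1_c7 LD2_c2 LD3_c33) Lrfl Lrfl
theorem f468758 : Led Lsl_gt (LP (LK LD1_c7 LD2_c3 LD3_c26)) = (LP (LK LD1_c13 LD2_c21 LD3_c20)) :=
  Lgr Lrot146 (Lpr_dt (K29.f461329 IH) (Lpr_gt (K24.f156646 IH) (Lpr_ct (K24.f460414 IH) (Lpr_gt (K29.f459876 IH) (Lpr_ct (K29.f461388 IH) (Lpr_dt (K29.f468743 IH) (Lpe (K29.f18973 IH) (Lpr_gf (f461332 IH) (Lpe (f443519 IH) (Lpn (LP (LK LD1_c13 LD2_c21 LD3_c20))))))))))))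
theorem f487609 : Led Lsl_at (LP (LK LD1_c14 LD2_c38 LD3_c30)) = (LP (LK LD1_c13 LD2_c21 LD3_c20)) :=
  Lgr Lrot26 (Lpr_ff (f487603 IH) (Lpe (K29.f461385 IH) (Lpr_gt (f468758 IH) (Lpn (LP (LK LD1_c13 LD2_c21 LD3_c20))))))
theorem f487593 : Led Lsl_at (LP (LK LD1_c14 LD2_c38 LD3_c36)) = (LP (LK LD1_c13 LD2_c21 LD3_c22)) :=
  Lgr Lrot100 (Lpr_af (f487591 IH) (Lpn (LP (LK LD1_c13 LD2_c21 LD3_c22))))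
theorem f487619 : Led Lsl_ff (LP (LK LD1_c14 LD2_c38 LD3_c36)) = (LP (LK LD1_c13 LD2_c21 LD3_c20)) :=
  Lgr Lrot30 (Lpr_at (f487593 IH) (Lpe (f487603 IH) (Lpr_at (f487609 IH) (Lpn (LP (LK LD1_c13 LD2_c21 LD3_c20))))))
theorem f487626 : Led Lsl_ft (LP (LK LD1_c14 LD2_c38 LD3_c36)) = (LP (LK LD1_c13 LD2_c21 LD3_c20)) :=
  Lgr Lrot48 (Lpr_ff (f487619 IH) (Lpn (LP (LK LD1_c13 LD2_c21 LD3_c20))))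
theorem f487630 : Led Lsl_ff (LP (LK LD1_c7 LD2_c47 LD3_c44)) = (LP (LK LD1_c7 LD2_c2 LD3_c33)) :=
  Lgr Lrot23 (Lpr_ct (K29.f476327 IH) (Lpr_ft (f487626 IH) (Lpr_ct (f443519 IH) (Lpn (LP (LK LD1_c7 LD2_c2 LD3_c33))))))
theorem f64937 : Led Lsl_gt (LP (LK LD1_c3 LD2_c30 LD3_c21)) = (LP (LK LD1_c7 LD2_c2 LD3_c33)) :=
  Lre_g IH (LK LD1_c3 LD2_c30 LD3_c21) (LK LD1_c7 LD2_c2 LD3_c33) Lrfl Lrfl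
theorem f443510 : Led Lsl_df (LP (LK LD1_c3 LD2_c49 LD3_c46)) = (LP (LK LD1_c7 LD2_c2 LD3_c33)) :=
  Lgr Lrot84 (Lpe (K29.f443509 IH) (Lpr_df (K29.f443503 IH) (Lpe (K29.f443498 IH) (Lpe (K5.f87980 IH) (Lpe (K5.f87981 IH) (Lpe (K28.f64992 IH) (Lpr_gt (K1.f64929 IH) (Lpr_dt (K29.f64936 IH) (Lpr_gt (f64937 IH) (Lpn (LP (LK LD1_c7 LD2_c2 LD3_c33))))))))))))
theorem f443520 : Led Lsl_dt (LP (LK LD1_c3 LD2_c49 LD3_c46)) = (LP (LK LD1_c7 LD2_c2 LD3_c33)) :=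
  Lgr Lrot42 (Lpr_df (f443510 IH) (Lpn (LP (LK LD1_c7 LD2_c2 LD3_c33))))
theorem f487637 : Led Lsl_ft (LP (LK LD1_c3 LD2_c52 LD3_c57)) = (LP (LK LD1_c3 LD2_c49 LD3_c46)) :=
  Lgr Lrot54 (Lpe (K29.f458088 IH) (Lpr_ff (f487630 IH) (Lpe (f443520 IH) (Lpn (LP (LK LD1_c3 LD2_c49 LD3_c46))))))
theorem f487641 : Led Lsl_af (LP (LK LD1_c3 LD2_c52 LD3_c58)) = (LP (LK LD1_c3 LD2_c49 LD3_c46)) :=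
  Lgr Lrot31 (Lpr_gf (K29.f461301 IH) (Lpe (K30.f458082 IH) (Lpr_ft (f487637 IH) (Lpn (LP (LK LD1_c3 LD2_c49 LD3_c46))))))
theorem f443578 : Led Lsl_et (LP (LK LD1_c1 LD2_c51 LD3_c51)) = (LP (LK LD1_c3 LD2_c49 LD3_c46)) :=
  Lre_e IH (LK LD1_c1 LD2_c51 LD3_c51) (LK LD1_c3 LD2_c49 LD3_c46) Lrfl Lrfl
theorem f487645 : Led Lsl_at (LP (LK LD1_c1 LD2_c54 LD3_c24)) = (LP (LK LD1_c1 LD2_c51 LD3_c51)) :=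
  Lgr Lrot80 (Lpr_ef (K29.f473979 IH) (Lpr_af (f487641 IH) (Lpe (f443578 IH) (Lpn (LP (LK LD1_c1 LD2_c51 LD3_c51))))))
theorem f451197 : Led Lsl_dt (LP (LK LD1_c3 LD2_c55 LD3_c37)) = (LP (LK LD1_c1 LD2_c54 LD3_c24)) :=
  Lre_d IH (LK LD1_c3 LD2_c55 LD3_c37) (LK LD1_c1 LD2_c54 LD3_c24) Lrfl Lrfl
theorem f443523 : Led Lsl_dt (LP (LK LD1_c1 LD2_c51 LD3_c51)) = (LP (LK LD1_c3 LD2_c49 LD3_c45)) :=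
  Lre_d IH (LK LD1_c1 LD2_c51 LD3_c51) (LK LD1_c3 LD2_c49 LD3_c45) Lrfl Lrfl
theorem f487651 : Led Lsl_af (LP (LK LD1_c3 LD2_c55 LD3_c37)) = (LP (LK LD1_c3 LD2_c49 LD3_c45)) :=
  Lgr Lrot117 (Lpr_dt (f451197 IH) (Lpr_at (f487645 IH) (Lpr_dt (f443523 IH) (Lpn (LP (LK LD1_c3 LD2_c49 LD3_c45))))))
theorem f456148 : Led Lsl_et (LP (LK LD1_c3 LD2_c55 LD3_c37)) = (LP (LK LD1_c7 LD2_c53 LD3_c2)) :=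
  Lre_e IH (LK LD1_c3 LD2_c55 LD3_c37) (LK LD1_c7 LD2_c53 LD3_c2) Lrfl Lrfl
theorem f443563 : Led Lsl_et (LP (LK LD1_c7 LD2_c40 LD3_c27)) = (LP (LK LD1_c3 LD2_c49 LD3_c45)) :=
  Lre_e IH (LK LD1_c7 LD2_c40 LD3_c27) (LK LD1_c3 LD2_c49 LD3_c45) Lrfl Lrfl
theorem f487658 : Led Lsl_at (LP (LK LD1_c7 LD2_c53 LD3_c2)) = (LP (LK LD1_c7 LD2_c40 LD3_c27)) :=
  Lgr Lrot80 (Lpe (f456148 IH) (Lpr_af (f487651 IH) (Lpe (f443563 IH) (Lpn (LP (LK LD1_c7 LD2_c40 LD3_c27))))))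
theorem f450789 : Led Lsl_ct (LP (LK LD1_c1 LD2_c44 LD3_c16)) = (LP (LK LD1_c0 LD2_c48 LD3_c41)) :=
  Lre_c IH (LK LD1_c1 LD2_c44 LD3_c16) (LK LD1_c0 LD2_c48 LD3_c41) Lrfl Lrfl
theorem f456059 : Led Lsl_bf (LP (LK LD1_c1 LD2_c44 LD3_c16)) = (LP (LK LD1_c1 LD2_c54 LD3_c24)) :=
  Lgr Lrot90 (Lpr_ct (f450789 IH) (Lpr_bt (K29.f5932 IH) (Lpq (K24.f456044 IH) (Lpe (K29.f451187 IH) (Lpr_bt (K29.f451182 IH) (Lpr_ct (K29.f437666 IH) (Lpn (LP (LK LD1_c1 LD2_c54 LD3_c24)))))))))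
theorem f456133 : Led Lsl_bt (LP (LK LD1_c3 LD2_c35 LD3_c1)) = (LP (LK LD1_c3 LD2_c55 LD3_c37)) :=
  Lgr Lrot95 (Lpe (f456132 IH) (Lpr_bf (f456059 IH) (Lpe (f451197 IH) (Lpn (LP (LK LD1_c3 LD2_c55 LD3_c37))))))
theorem f456147 : Led Lsl_et (LP (LK LD1_c7 LD2_c11 LD3_c13)) = (LP (LK LD1_c3 LD2_c35 LD3_c1)) :=
  Lre_e IH (LK LD1_c7 LD2_c11 LD3_c13) (LK LD1_c3 LD2_c35 LD3_c1) Lrfl Lrfl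
theorem f456149 : Led Lsl_bf (LP (LK LD1_c7 LD2_c11 LD3_c13)) = (LP (LK LD1_c7 LD2_c53 LD3_c2)) :=
  Lgr Lrot96 (Lpr_et (f456147 IH) (Lpr_bt (f456133 IH) (Lpr_et (f456148 IH) (Lpn (LP (LK LD1_c7 LD2_c53 LD3_c2))))))
theorem f456161 : Led Lsl_bt (LP (LK LD1_c7 LD2_c11 LD3_c13)) = (LP (LK LD1_c7 LD2_c53 LD3_c2)) :=
  Lgr Lrot127 (Lpr_bf (f456149 IH) (Lpn (LP (LK LD1_c7 LD2_c53 LD3_c2))))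
theorem f456184 : Led Lsl_at (LP (LK LD1_c13 LD2_c36 LD3_c46)) = (LP (LK LD1_c7 LD2_c11 LD3_c13)) :=
  Lre_a IH (LK LD1_c13 LD2_c36 LD3_c46) (LK LD1_c7 LD2_c11 LD3_c13) Lrfl Lrfl
theorem f456185 : Led Lsl_bt (LP (LK LD1_c23 LD2_c1 LD3_c12)) = (LP (LK LD1_c13 LD2_c36 LD3_c46)) :=
  Lre_b IH (LK LD1_c23 LD2_c1 LD3_c12) (LK LD1_c13 LD2_c36 LD3_c46) Lrfl Lrfl
theorem f443573 : Led Lsl_bt (LP (LK LD1_c7 LD2_c40 LD3_c27)) = (LP (LK LD1_c14 LD2_c28 LD3_c7)) :=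
  Lre_b IH (LK LD1_c7 LD2_c40 LD3_c27) (LK LD1_c14 LD2_c28 LD3_c7) Lrfl Lrfl
theorem f487662 : Led Lsl_af (LP (LK LD1_c23 LD2_c1 LD3_c12)) = (LP (LK LD1_c14 LD2_c28 LD3_c7)) :=
  Lgr Lrot36 (Lpr_bt (f456185 IH) (Lpr_at (f456184 IH) (Lpr_bt (f456161 IH) (Lpr_at (f487658 IH) (Lpr_bt (f443573 IH) (Lpn (LP (LK LD1_c14 LD2_c28 LD3_c7))))))))
theorem f487710 : Led Lsl_at (LP (LK LD1_c23 LD2_c1 LD3_c12)) = (LP (LK LD1_c14 LD2_c28 LD3_c7)) :=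
  Lgr Lrot100 (Lpr_af (f487662 IH) (Lpn (LP (LK LD1_c14 LD2_c28 LD3_c7))))
theorem f485604 : Led Lsl_et (LP (LK LD1_c13 LD2_c36 LD3_c43)) = (LP (LK LD1_c23 LD2_c1 LD3_c12)) :=
  Lre_e IH (LK LD1_c13 LD2_c36 LD3_c43) (LK LD1_c23 LD2_c1 LD3_c12) Lrfl Lrfl
theorem f443590 : Led Lsl_et (LP (LK LD1_c14 LD2_c28 LD3_c7)) = (LP (LK LD1_c7 LD2_c40 LD3_c25)) :=
  Lre_e IH (LK LD1_c14 LD2_c28 LD3_c7) (LK LD1_c7 LD2_c40 LD3_c25) Lrfl Lrfl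
theorem f487712 : Led Lsl_af (LP (LK LD1_c13 LD2_c36 LD3_c43)) = (LP (LK LD1_c7 LD2_c40 LD3_c25)) :=
  Lgr Lrot50 (Lpr_et (f485604 IH) (Lpr_at (f487710 IH) (Lpr_et (f443590 IH) (Lpn (LP (LK LD1_c7 LD2_c40 LD3_c25))))))
theorem f479159 : Led Lsl_dt (LP (LK LD1_c13 LD2_c36 LD3_c43)) = (LP (LK LD1_c7 LD2_c11 LD3_c4)) :=
  Lre_d IH (LK LD1_c13 LD2_c36 LD3_c43) (LK LD1_c7 LD2_c11 LD3_c4) Lrfl Lrfl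
theorem f443581 : Led Lsl_dt (LP (LK LD1_c3 LD2_c49 LD3_c44)) = (LP (LK LD1_c7 LD2_c40 LD3_c25)) :=
  Lre_d IH (LK LD1_c3 LD2_c49 LD3_c44) (LK LD1_c7 LD2_c40 LD3_c25) Lrfl Lrfl
theorem f487717 : Led Lsl_at (LP (LK LD1_c7 LD2_c11 LD3_c4)) = (LP (LK LD1_c3 LD2_c49 LD3_c44)) :=
  Lgr Lrot51 (Lpe (f479159 IH) (Lpr_af (f487712 IH) (Lpe (f443581 IH) (Lpn (LP (LK LD1_c3 LD2_c49 LD3_c44))))))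
theorem f488851 : Led Lsl_gt (LP (LK LD1_c7 LD2_c36 LD3_c3)) = (LP (LK LD1_c3 LD2_c49 LD3_c44)) :=
  Lgr Lrot46 (Lpr_gf (f488849 IH) (Lpe (f484223 IH) (Lpr_at (f487717 IH) (Lpn (LP (LK LD1_c3 LD2_c49 LD3_c44))))))
theorem f425593 : Led Lsl_ct (LP (LK LD1_c14 LD2_c19 LD3_c43)) = (LP (LK LD1_c7 LD2_c36 LD3_c3)) :=
  Lre_c IH (LK LD1_c14 LD2_c19 LD3_c43) (LK LD1_c7 LD2_c36 LD3_c3) Lrfl Lrfl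
theorem f443606 : Led Lsl_ct (LP (LK LD1_c1 LD2_c51 LD3_c51)) = (LP (LK LD1_c0 LD2_c52 LD3_c42)) :=
  Lre_c IH (LK LD1_c1 LD2_c51 LD3_c51) (LK LD1_c0 LD2_c52 LD3_c42) Lrfl Lrfl
theorem f443608 : Led Lsl_bt (LP (LK LD1_c3 LD2_c49 LD3_c44)) = (LP (LK LD1_c1 LD2_c51 LD3_c51)) :=
  Lre_b IH (LK LD1_c3 LD2_c49 LD3_c44) (LK LD1_c1 LD2_c51 LD3_c51) Lrfl Lrfl
theorem f443607 : Led Lsl_ct (LP (LK LD1_c0 LD2_c52 LD3_c42)) = (LP (LK LD1_c1 LD2_c51 LD3_c51)) :=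
  Lre_c IH (LK LD1_c0 LD2_c52 LD3_c42) (LK LD1_c1 LD2_c51 LD3_c51) Lrfl Lrfl
theorem f459718 : Led Lsl_bt (LP (LK LD1_c1 LD2_c51 LD3_c51)) = (LP (LK LD1_c3 LD2_c49 LD3_c44)) :=
  Lre_b IH (LK LD1_c1 LD2_c51 LD3_c51) (LK LD1_c3 LD2_c49 LD3_c44) Lrfl Lrfl
theorem f477709 : Led Lsl_cf (LP (LK LD1_c3 LD2_c49 LD3_c44)) = (LP (LK LD1_c3 LD2_c49 LD3_c44)) :=
  Lgr Lrot97 (Lpr_bt (f443608 IH) (Lpr_ct (f443606 IH) (Lpr_bt (K29.f459808 IH) (Lpqs (K29.f477705 IH) (Lpr_ct (f443607 IH) (Lpr_bt (f459718 IH) (Lpn (LP (LK LD1_c3 LD2_c49 LD3_c44)))))))))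
theorem f443522 : Led Lsl_et (LP (LK LD1_c3 LD2_c49 LD3_c46)) = (LP (LK LD1_c1 LD2_c51 LD3_c51)) :=
  Lre_e IH (LK LD1_c3 LD2_c49 LD3_c46) (LK LD1_c1 LD2_c51 LD3_c51) Lrfl Lrfl
theorem f443604 : Led Lsl_gt (LP (LK LD1_c1 LD2_c51 LD3_c51)) = (LP (LK LD1_c0 LD2_c52 LD3_c52)) :=
  Lgr Lrot131 (Lpe (f443522 IH) (Lpr_dt (f443520 IH) (Lpe (f64937 IH) (Lpe (K29.f64936 IH) (Lpe (K1.f64929 IH) (Lpe (K1.f64271 IH) (Lpr_dt (K1.f63494 IH) (Lpe (K1.f64905 IH) (Lpe (K1.f14742 IH) (Lpr_et (K3.f64935 IH) (Lpn (LP (LK LD1_c0 LD2_c52 LD3_c52)))))))))))))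
theorem f467221 : Led Lsl_bt (LP (LK LD1_c1 LD2_c43 LD3_c38)) = (LP (LK LD1_c3 LD2_c33 LD3_c49)) :=
  Lre_b IH (LK LD1_c1 LD2_c43 LD3_c38) (LK LD1_c3 LD2_c33 LD3_c49) Lrfl Lrfl
theorem f482330 : Led Lsl_bt (LP (LK LD1_c7 LD2_c8 LD3_c33)) = (LP (LK LD1_c3 LD2_c55 LD3_c50)) :=
  Lgr Lrot128 (Lpe (K29.f6663 IH) (Lpe (f467221 IH) (Lpe (K28.f10835 IH) (Lpe (K29.f466680 IH) (Lpr_cf (K29.f482320 IH) (Lpn (LP (LK LD1_c3 LD2_c55 LD3_c50))))))))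
theorem f477992 : Led Lsl_dt (LP (LK LD1_c13 LD2_c31 LD3_c37)) = (LP (LK LD1_c7 LD2_c8 LD3_c33)) :=
  Lre_d IH (LK LD1_c13 LD2_c31 LD3_c37) (LK LD1_c7 LD2_c8 LD3_c33) Lrfl Lrfl
theorem f121976 : Led Lsl_dt (LP (LK LD1_c3 LD2_c55 LD3_c50)) = (LP (LK LD1_c7 LD2_c53 LD3_c23)) :=
  Lre_d IH (LK LD1_c3 LD2_c55 LD3_c50) (LK LD1_c7 LD2_c53 LD3_c23) Lrfl Lrfl
theorem f486846 : Led Lsl_bf (LP (LK LD1_c13 LD2_c31 LD3_c37)) = (LP (LK LD1_c7 LD2_c53 LD3_c23)) :=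
  Lgr Lrot93 (Lpr_dt (f477992 IH) (Lpr_bt (f482330 IH) (Lpr_dt (f121976 IH) (Lpn (LP (LK LD1_c7 LD2_c53 LD3_c23))))))
theorem f88587 : Led Lsl_et (LP (LK LD1_c1 LD2_c51 LD3_c43)) = (LP (LK LD1_c3 LD2_c49 LD3_c21)) :=
  Lre_e IH (LK LD1_c1 LD2_c51 LD3_c43) (LK LD1_c3 LD2_c49 LD3_c21) Lrfl Lrfl
theorem f463611 : Led Lsl_et (LP (LK LD1_c13 LD2_c23 LD3_c52)) = (LP (LK LD1_c7 LD2_c4 LD3_c0)) :=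
  Lre_e IH (LK LD1_c13 LD2_c23 LD3_c52) (LK LD1_c7 LD2_c4 LD3_c0) Lrfl Lrfl
theorem f463612 : Led Lsl_dt (LP (LK LD1_c13 LD2_c23 LD3_c52)) = (LP (LK LD1_c22 LD2_c41 LD3_c50)) :=
  Lre_d IH (LK LD1_c13 LD2_c23 LD3_c52) (LK LD1_c22 LD2_c41 LD3_c50) Lrfl Lrfl
theorem f477996 : Led Lsl_dt (LP (LK LD1_c7 LD2_c8 LD3_c33)) = (LP (LK LD1_c13 LD2_c31 LD3_c37)) :=
  Lre_d IH (LK LD1_c7 LD2_c8 LD3_c33) (LK LD1_c13 LD2_c31 LD3_c37) Lrfl Lrfl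
theorem f478011 : Led Lsl_gf (LP (LK LD1_c22 LD2_c41 LD3_c50)) = (LP (LK LD1_c13 LD2_c31 LD3_c37)) :=
  Lgr Lrot134 (Lpe (f463612 IH) (Lpr_et (f463611 IH) (Lpe (K28.f463602 IH) (Lpe (K28.f419404 IH) (Lpr_dt (K28.f14697 IH) (Lpr_gt (K28.f419391 IH) (Lpe (K5.f87915 IH) (Lpr_et (f88587 IH) (Lpr_gt (K29.f477989 IH) (Lpr_dt (f477996 IH) (Lpn (LP (LK LD1_c13 LD2_c31 LD3_c37)))))))))))))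
theorem f478016 : Led Lsl_bt (LP (LK LD1_c13 LD2_c23 LD3_c55)) = (LP (LK LD1_c22 LD2_c41 LD3_c50)) :=
  Lre_b IH (LK LD1_c13 LD2_c23 LD3_c55) (LK LD1_c22 LD2_c41 LD3_c50) Lrfl Lrfl
theorem f123519 : Led Lsl_ct (LP (LK LD1_c7 LD2_c53 LD3_c23)) = (LP (LK LD1_c14 LD2_c52 LD3_c53)) :=
  Lre_c IH (LK LD1_c7 LD2_c53 LD3_c23) (LK LD1_c14 LD2_c52 LD3_c53) Lrfl Lrfl
theorem f456219 : Led Lsl_gt (LP (LK LD1_c3 LD2_c35 LD3_c1)) = (LP (LK LD1_c7 LD2_c11 LD3_c10)) :=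
  Lre_g IH (LK LD1_c3 LD2_c35 LD3_c1) (LK LD1_c7 LD2_c11 LD3_c10) Lrfl Lrfl
theorem f456220 : Led Lsl_ct (LP (LK LD1_c7 LD2_c11 LD3_c10)) = (LP (LK LD1_c13 LD2_c36 LD3_c53)) :=
  Lre_c IH (LK LD1_c7 LD2_c11 LD3_c10) (LK LD1_c13 LD2_c36 LD3_c53) Lrfl Lrfl
theorem f482322 : Led Lsl_dt (LP (LK LD1_c7 LD2_c53 LD3_c23)) = (LP (LK LD1_c3 LD2_c55 LD3_c50)) :=
  Lre_d IH (LK LD1_c7 LD2_c53 LD3_c23) (LK LD1_c3 LD2_c55 LD3_c50) Lrfl Lrfl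
theorem f482323 : Led Lsl_ct (LP (LK LD1_c14 LD2_c52 LD3_c53)) = (LP (LK LD1_c7 LD2_c53 LD3_c23)) :=
  Lre_c IH (LK LD1_c14 LD2_c52 LD3_c53) (LK LD1_c7 LD2_c53 LD3_c23) Lrfl Lrfl
theorem f482324 : Led Lsl_gt (LP (LK LD1_c13 LD2_c36 LD3_c53)) = (LP (LK LD1_c14 LD2_c52 LD3_c53)) :=
  Lgr Lrot150 (Lpe (f456220 IH) (Lpe (f456219 IH) (Lpe (f456132 IH) (Lpe (K29.f467245 IH) (Lpr_ct (K2.f90032 IH) (Lpr_gt (K28.f88642 IH) (Lpr_ct (K29.f482316 IH) (Lpe (f482322 IH) (Lpe (f482323 IH) (Lpn (LP (LK LD1_c14 LD2_c52 LD3_c53))))))))))))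
theorem f456139 : Led Lsl_bf (LP (LK LD1_c3 LD2_c35 LD3_c1)) = (LP (LK LD1_c3 LD2_c55 LD3_c37)) :=
  Lgr Lrot24 (Lpr_bt (f456133 IH) (Lpn (LP (LK LD1_c3 LD2_c55 LD3_c37))))
theorem f456143 : Led Lsl_ct (LP (LK LD1_c3 LD2_c55 LD3_c37)) = (LP (LK LD1_c7 LD2_c53 LD3_c1)) :=
  Lre_c IH (LK LD1_c3 LD2_c55 LD3_c37) (LK LD1_c7 LD2_c53 LD3_c1) Lrfl Lrfl
theorem f456208 : Led Lsl_gt (LP (LK LD1_c14 LD2_c52 LD3_c22)) = (LP (LK LD1_c7 LD2_c53 LD3_c1)) :=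
  Lre_g IH (LK LD1_c14 LD2_c52 LD3_c22) (LK LD1_c7 LD2_c53 LD3_c1) Lrfl Lrfl
theorem f486855 : Led Lsl_ct (LP (LK LD1_c13 LD2_c23 LD3_c55)) = (LP (LK LD1_c14 LD2_c52 LD3_c22)) :=
  Lgr Lrot64 (Lpr_bt (f478016 IH) (Lpr_gf (f478011 IH) (Lpr_bf (f486846 IH) (Lpr_ct (f123519 IH) (Lpe (f482324 IH) (Lpe (f456220 IH) (Lpe (f456219 IH) (Lpr_bf (f456139 IH) (Lpr_ct (f456143 IH) (Lpe (f456208 IH) (Lpn (LP (LK LD1_c14 LD2_c52 LD3_c22)))))))))))))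
theorem f12026 : Led Lsl_gt (LP (LK LD1_c1 LD2_c50 LD3_c44)) = (LP (LK LD1_c3 LD2_c47 LD3_c12)) :=
  Lre_g IH (LK LD1_c1 LD2_c50 LD3_c44) (LK LD1_c3 LD2_c47 LD3_c12) Lrfl Lrfl
theorem f12027 : Led Lsl_dt (LP (LK LD1_c3 LD2_c47 LD3_c12)) = (LP (LK LD1_c7 LD2_c35 LD3_c15)) :=
  Lre_d IH (LK LD1_c3 LD2_c47 LD3_c12) (LK LD1_c7 LD2_c35 LD3_c15) Lrfl Lrfl
theorem f461831 : Led Lsl_et (LP (LK LD1_c7 LD2_c4 LD3_c2)) = (LP (LK LD1_c3 LD2_c31 LD3_c2)) :=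
  Lre_e IH (LK LD1_c7 LD2_c4 LD3_c2) (LK LD1_c3 LD2_c31 LD3_c2) Lrfl Lrfl
theorem f461832 : Led Lsl_dt (LP (LK LD1_c7 LD2_c4 LD3_c2)) = (LP (LK LD1_c13 LD2_c23 LD3_c55)) :=
  Lre_d IH (LK LD1_c7 LD2_c4 LD3_c2) (LK LD1_c13 LD2_c23 LD3_c55) Lrfl Lrfl
theorem f461835 : Led Lsl_gt (LP (LK LD1_c7 LD2_c35 LD3_c15)) = (LP (LK LD1_c13 LD2_c23 LD3_c55)) :=
  Lgr Lrot139 (Lpe (f12027 IH) (Lpe (f12026 IH) (Lpe (f89673 IH) (Lpr_dt (K3.f12061 IH) (Lpe (K3.f93593 IH) (Lpe (K3.f93603 IH) (Lpr_et (K24.f93604 IH) (Lpr_gf (K28.f461822 IH) (Lpe (f461831 IH) (Lpr_dt (f461832 IH) (Lpn (LP (LK LD1_c13 LD2_c23 LD3_c55)))))))))))))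
theorem f92393 : Led Lsl_dt (LP (LK LD1_c7 LD2_c35 LD3_c15)) = (LP (LK LD1_c3 LD2_c47 LD3_c12)) :=
  Lre_d IH (LK LD1_c7 LD2_c35 LD3_c15) (LK LD1_c3 LD2_c47 LD3_c12) Lrfl Lrfl
theorem f456213 : Led Lsl_ct (LP (LK LD1_c7 LD2_c53 LD3_c1)) = (LP (LK LD1_c3 LD2_c55 LD3_c37)) :=
  Lre_c IH (LK LD1_c7 LD2_c53 LD3_c1) (LK LD1_c3 LD2_c55 LD3_c37) Lrfl Lrfl
theorem f456218 : Led Lsl_dt (LP (LK LD1_c1 LD2_c54 LD3_c24)) = (LP (LK LD1_c3 LD2_c55 LD3_c37)) :=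
  Lre_d IH (LK LD1_c1 LD2_c54 LD3_c24) (LK LD1_c3 LD2_c55 LD3_c37) Lrfl Lrfl
theorem f486863 : Led Lsl_gt (LP (LK LD1_c3 LD2_c47 LD3_c12)) = (LP (LK LD1_c1 LD2_c51 LD3_c50)) :=
  Lgr Lrot9 (Lpe (f92393 IH) (Lpr_gt (f461835 IH) (Lpr_ct (f486855 IH) (Lpr_gt (f456208 IH) (Lpr_ct (f456213 IH) (Lpe (f456218 IH) (Lpe (K29.f437666 IH) (Lpq (K29.f477946 IH) (Lpe (K29.f459698 IH) (Lpe (K29.f89217 IH) (Lpn (LP (LK LD1_c1 LD2_c51 LD3_c50)))))))))))))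
theorem f11982 : Led Lsl_ct (LP (LK LD1_c0 LD2_c52 LD3_c16)) = (LP (LK LD1_c1 LD2_c50 LD3_c44)) :=
  Lre_c IH (LK LD1_c0 LD2_c52 LD3_c16) (LK LD1_c1 LD2_c50 LD3_c44) Lrfl Lrfl
theorem f5960 : Led Lsl_bt (LP (LK LD1_c3 LD2_c36 LD3_c23)) = (LP (LK LD1_c1 LD2_c45 LD3_c1)) :=
  Lre_b IH (LK LD1_c3 LD2_c36 LD3_c23) (LK LD1_c1 LD2_c45 LD3_c1) Lrfl Lrfl
theorem f479169 : Led Lsl_cf (LP (LK LD1_c3 LD2_c47 LD3_c12)) = (LP (LK LD1_c3 LD2_c36 LD3_c23)) :=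
  Lgr Lrot163 (Lpe (f12026 IH) (Lpe (f11982 IH) (Lpr_gf (K29.f459697 IH) (Lpqs (K29.f477946 IH) (Lpe (K29.f451182 IH) (Lpqs (K29.f456045 IH) (Lpe (K29.f450790 IH) (Lpr_gf (K29.f10177 IH) (Lpe (K0.f5919 IH) (Lpr_bt (K0.f5956 IH) (Lpe (K28.f5959 IH) (Lpe (f5960 IH) (Lpn (LP (LK LD1_c3 LD2_c36 LD3_c23)))))))))))))))
theorem f89213 : Led Lsl_ct (LP (LK LD1_c0 LD2_c52 LD3_c44)) = (LP (LK LD1_c1 LD2_c51 LD3_c50)) :=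
  Lre_c IH (LK LD1_c0 LD2_c52 LD3_c44) (LK LD1_c1 LD2_c51 LD3_c50) Lrfl Lrfl
theorem f477607 : Led Lsl_gt (LP (LK LD1_c1 LD2_c51 LD3_c40)) = (LP (LK LD1_c3 LD2_c49 LD3_c1)) :=
  Lre_g IH (LK LD1_c1 LD2_c51 LD3_c40) (LK LD1_c3 LD2_c49 LD3_c1) Lrfl Lrfl
theorem f486867 : Led Lsl_gf (LP (LK LD1_c3 LD2_c36 LD3_c23)) = (LP (LK LD1_c1 LD2_c52 LD3_c12)) :=
  Lgr Lrot181 (Lpe (f479169 IH) (Lpr_gt (f486863 IH) (Lpe (f89213 IH) (Lpr_bt (K29.f89219 IH) (Lpr_gt (f477607 IH) (Lpe (K29.f479191 IH) (Lpe (K29.f480716 IH) (Lpr_gt (K29.f12223 IH) (Lpe (f12222 IH) (Lpe (K5.f12206 IH) (Lpn (LP (LK LD1_c1 LD2_c52 LD3_c12)))))))))))))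
theorem f12049 : Led Lsl_bt (LP (LK LD1_c7 LD2_c35 LD3_c14)) = (LP (LK LD1_c3 LD2_c47 LD3_c12)) :=
  Lre_b IH (LK LD1_c7 LD2_c35 LD3_c14) (LK LD1_c3 LD2_c47 LD3_c12) Lrfl Lrfl
theorem f90031 : Led Lsl_ct (LP (LK LD1_c3 LD2_c27 LD3_c4)) = (LP (LK LD1_c6 LD2_c55 LD3_c58)) :=
  Lre_c IH (LK LD1_c3 LD2_c27 LD3_c4) (LK LD1_c6 LD2_c55 LD3_c58) Lrfl Lrfl
theorem f486865 : Led Lsl_ct (LP (LK LD1_c7 LD2_c35 LD3_c14)) = (LP (LK LD1_c7 LD2_c13 LD3_c9)) :=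
  Lgr Lrot10 (Lpr_bt (f12049 IH) (Lpr_gt (f486863 IH) (Lpr_ct (K29.f89217 IH) (Lpr_gt (K29.f459698 IH) (Lpqs (K29.f477946 IH) (Lpe (K29.f451186 IH) (Lpe (f456059 IH) (Lpe (K29.f467245 IH) (Lpe (K3.f89856 IH) (Lpr_ct (f90031 IH) (Lpr_gt (f482389 IH) (Lpn (LP (LK LD1_c7 LD2_c13 LD3_c9))))))))))))))
theorem f486876 : Led Lsl_cf (LP (LK LD1_c7 LD2_c35 LD3_c14)) = (LP (LK LD1_c7 LD2_c13 LD3_c9)) :=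
  Lgr Lrot11 (Lpr_ct (f486865 IH) (Lpn (LP (LK LD1_c7 LD2_c13 LD3_c9))))
theorem f10693 : Led Lsl_ct (LP (LK LD1_c1 LD2_c45 LD3_c1)) = (LP (LK LD1_c3 LD2_c36 LD3_c24)) :=
  Lre_c IH (LK LD1_c1 LD2_c45 LD3_c1) (LK LD1_c3 LD2_c36 LD3_c24) Lrfl Lrfl
theorem f486884 : Led Lsl_ct (LP (LK LD1_c3 LD2_c47 LD3_c12)) = (LP (LK LD1_c3 LD2_c36 LD3_c23)) :=
  Lgr Lrot83 (Lpe (f12049 IH) (Lpr_cf (f486876 IH) (Lpe (f5997 IH) (Lpe (f10693 IH) (Lpe (f5960 IH) (Lpn (LP (LK LD1_c3 LD2_c36 LD3_c23))))))))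
theorem f486875 : Led Lsl_bt (LP (LK LD1_c3 LD2_c47 LD3_c12)) = (LP (LK LD1_c7 LD2_c35 LD3_c14)) :=
  Lre_b IH (LK LD1_c3 LD2_c47 LD3_c12) (LK LD1_c7 LD2_c35 LD3_c14) Lrfl Lrfl
theorem f486879 : Led Lsl_gt (LP (LK LD1_c7 LD2_c35 LD3_c14)) = (LP (LK LD1_c14 LD2_c18 LD3_c18)) :=
  Lre_g IH (LK LD1_c7 LD2_c35 LD3_c14) (LK LD1_c14 LD2_c18 LD3_c18) Lrfl Lrfl
theorem f489188 : Led Lsl_bt (LP (LK LD1_c14 LD2_c19 LD3_c43)) = (LP (LK LD1_c14 LD2_c18 LD3_c18)) :=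
  Lgr Lrot92 (Lpr_ct (f425593 IH) (Lpr_gt (f488851 IH) (Lpr_cf (f477709 IH) (Lpr_bt (f443608 IH) (Lpr_gt (f443604 IH) (Lpr_ct (K29.f12319 IH) (Lpe (f486867 IH) (Lpe (f486884 IH) (Lpr_bt (f486875 IH) (Lpr_gt (f486879 IH) (Lpn (LP (LK LD1_c14 LD2_c18 LD3_c18)))))))))))))
theorem f489190 : Led Lsl_bf (LP (LK LD1_c14 LD2_c19 LD3_c43)) = (LP (LK LD1_c14 LD2_c18 LD3_c18)) :=
  Lgr Lrot24 (Lpr_bt (f489188 IH) (Lpn (LP (LK LD1_c14 LD2_c18 LD3_c18))))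
theorem f162303 : Led Lsl_ct (LP (LK LD1_c7 LD2_c36 LD3_c3)) = (LP (LK LD1_c14 LD2_c19 LD3_c43)) :=
  Lre_c IH (LK LD1_c7 LD2_c36 LD3_c3) (LK LD1_c14 LD2_c19 LD3_c43) Lrfl Lrfl
theorem f15093 : Led Lsl_bt (LP (LK LD1_c1 LD2_c39 LD3_c58)) = (LP (LK LD1_c3 LD2_c26 LD3_c30)) :=
  Lre_b IH (LK LD1_c1 LD2_c39 LD3_c58) (LK LD1_c3 LD2_c26 LD3_c30) Lrfl Lrfl
theorem f15195 : Led Lsl_gt (LP (LK LD1_c6 LD2_c54 LD3_c50)) = (LP (LK LD1_c3 LD2_c26 LD3_c30)) :=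
  Lre_g IH (LK LD1_c6 LD2_c54 LD3_c50) (LK LD1_c3 LD2_c26 LD3_c30) Lrfl Lrfl
theorem f15269 : Led Lsl_bt (LP (LK LD1_c13 LD2_c8 LD3_c8)) = (LP (LK LD1_c6 LD2_c54 LD3_c50)) :=
  Lre_b IH (LK LD1_c13 LD2_c8 LD3_c8) (LK LD1_c6 LD2_c54 LD3_c50) Lrfl Lrfl
theorem f117316 : Led Lsl_at (LP (LK LD1_c3 LD2_c50 LD3_c10)) = (LP (LK LD1_c7 LD2_c41 LD3_c1)) :=
  Lre_a IH (LK LD1_c3 LD2_c50 LD3_c10) (LK LD1_c7 LD2_c41 LD3_c1) Lrfl Lrfl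
theorem f15145 : Led Lsl_at (LP (LK LD1_c14 LD2_c18 LD3_c37)) = (LP (LK LD1_c7 LD2_c35 LD3_c28)) :=
  Lre_a IH (LK LD1_c14 LD2_c18 LD3_c37) (LK LD1_c7 LD2_c35 LD3_c28) Lrfl Lrfl
theorem f117317 : Led Lsl_af (LP (LK LD1_c1 LD2_c52 LD3_c5)) = (LP (LK LD1_c3 LD2_c47 LD3_c21)) :=
  Lgr Lrot36 (Lpr_bt (K7.f84952 IH) (Lpr_at (f117316 IH) (Lpr_bt (K4.f117311 IH) (Lpr_at (f15145 IH) (Lpr_bt (K4.f15129 IH) (Lpn (LP (LK LD1_c3 LD2_c47 LD3_c21))))))))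
theorem f15133 : Led Lsl_ft (LP (LK LD1_c1 LD2_c50 LD3_c47)) = (LP (LK LD1_c3 LD2_c47 LD3_c21)) :=
  Lre_f IH (LK LD1_c1 LD2_c50 LD3_c47) (LK LD1_c3 LD2_c47 LD3_c21) Lrfl Lrfl
theorem f482303 : Led Lsl_gf (LP (LK LD1_c1 LD2_c53 LD3_c58)) = (LP (LK LD1_c1 LD2_c50 LD3_c47)) :=
  Lgr Lrot47 (Lpr_gt (K29.f482301 IH) (Lpr_af (f117317 IH) (Lpe (f15133 IH) (Lpn (LP (LK LD1_c1 LD2_c50 LD3_c47))))))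
theorem f456659 : Led Lsl_bt (LP (LK LD1_c3 LD2_c37 LD3_c58)) = (LP (LK LD1_c7 LD2_c16 LD3_c19)) :=
  Lre_b IH (LK LD1_c3 LD2_c37 LD3_c58) (LK LD1_c7 LD2_c16 LD3_c19) Lrfl Lrfl
theorem f15094 : Led Lsl_bt (LP (LK LD1_c3 LD2_c47 LD3_c18)) = (LP (LK LD1_c1 LD2_c50 LD3_c47)) :=
  Lre_b IH (LK LD1_c3 LD2_c47 LD3_c18) (LK LD1_c1 LD2_c50 LD3_c47) Lrfl Lrfl
theorem f15196 : Led Lsl_ct (LP (LK LD1_c13 LD2_c8 LD3_c9)) = (LP (LK LD1_c6 LD2_c54 LD3_c50)) :=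
  Lre_c IH (LK LD1_c13 LD2_c8 LD3_c9) (LK LD1_c6 LD2_c54 LD3_c50) Lrfl Lrfl
theorem f486928 : Led Lsl_gt (LP (LK LD1_c7 LD2_c16 LD3_c19)) = (LP (LK LD1_c13 LD2_c8 LD3_c9)) :=
  Lgr Lrot82 (Lpe (f456659 IH) (Lpr_ct (K29.f456658 IH) (Lpe (K29.f450898 IH) (Lpe (f10149 IH) (Lpe (K29.f456649 IH) (Lpr_gf (f482303 IH) (Lpe (f15094 IH) (Lpe (K4.f15143 IH) (Lpe (f15195 IH) (Lpe (f15196 IH) (Lpn (LP (LK LD1_c13 LD2_c8 LD3_c9)))))))))))))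
theorem f11984 : Led Lsl_bt (LP (LK LD1_c3 LD2_c27 LD3_c12)) = (LP (LK LD1_c1 LD2_c40 LD3_c13)) :=
  Lre_b IH (LK LD1_c3 LD2_c27 LD3_c12) (LK LD1_c1 LD2_c40 LD3_c13) Lrfl Lrfl
theorem f12029 : Led Lsl_gt (LP (LK LD1_c7 LD2_c35 LD3_c8)) = (LP (LK LD1_c3 LD2_c47 LD3_c10)) :=
  Lre_g IH (LK LD1_c7 LD2_c35 LD3_c8) (LK LD1_c3 LD2_c47 LD3_c10) Lrfl Lrfl
theorem f442361 : Led Lsl_bt (LP (LK LD1_c1 LD2_c51 LD3_c26)) = (LP (LK LD1_c3 LD2_c48 LD3_c37)) :=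
  Lre_b IH (LK LD1_c1 LD2_c51 LD3_c26) (LK LD1_c3 LD2_c48 LD3_c37) Lrfl Lrfl
theorem f459680 : Led Lsl_gt (LP (LK LD1_c3 LD2_c48 LD3_c37)) = (LP (LK LD1_c7 LD2_c38 LD3_c3)) :=
  Lre_g IH (LK LD1_c3 LD2_c48 LD3_c37) (LK LD1_c7 LD2_c38 LD3_c3) Lrfl Lrfl
theorem f479181 : Led Lsl_cf (LP (LK LD1_c7 LD2_c35 LD3_c8)) = (LP (LK LD1_c7 LD2_c38 LD3_c3)) :=
  Lgr Lrot125 (Lpr_gt (f12029 IH) (Lpr_cf (K3.f12006 IH) (Lpr_bt (f11984 IH) (Lpr_gt (K29.f479171 IH) (Lpe (K29.f456653 IH) (Lpr_ct (K29.f145393 IH) (Lpq (K29.f466709 IH) (Lpr_gt (K29.f459679 IH) (Lpe (f442342 IH) (Lpr_bt (f442361 IH) (Lpr_gt (f459680 IH) (Lpn (LP (LK LD1_c7 LD2_c38 LD3_c3))))))))))))))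
theorem f486938 : Led Lsl_bt (LP (LK LD1_c7 LD2_c38 LD3_c3)) = (LP (LK LD1_c13 LD2_c8 LD3_c9)) :=
  Lgr Lrot92 (Lpe (f479181 IH) (Lpr_gt (f12029 IH) (Lpr_cf (K3.f12006 IH) (Lpr_bt (f11984 IH) (Lpr_gt (K29.f479171 IH) (Lpr_ct (f10149 IH) (Lpr_gt (K29.f450898 IH) (Lpe (K29.f456658 IH) (Lpr_bt (f456659 IH) (Lpr_gt (f486928 IH) (Lpn (LP (LK LD1_c13 LD2_c8 LD3_c9)))))))))))))
theorem f479186 : Led Lsl_ct (LP (LK LD1_c7 LD2_c35 LD3_c8)) = (LP (LK LD1_c7 LD2_c38 LD3_c3)) :=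
  Lgr Lrot59 (Lpr_cf (f479181 IH) (Lpn (LP (LK LD1_c7 LD2_c38 LD3_c3))))
theorem f12050 : Led Lsl_bt (LP (LK LD1_c14 LD2_c18 LD3_c7)) = (LP (LK LD1_c7 LD2_c35 LD3_c8)) :=
  Lre_b IH (LK LD1_c14 LD2_c18 LD3_c7) (LK LD1_c7 LD2_c35 LD3_c8) Lrfl Lrfl
theorem f486937 : Led Lsl_bt (LP (LK LD1_c6 LD2_c54 LD3_c50)) = (LP (LK LD1_c13 LD2_c8 LD3_c8)) :=
  Lre_b IH (LK LD1_c6 LD2_c54 LD3_c50) (LK LD1_c13 LD2_c8 LD3_c8) Lrfl Lrfl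
theorem f486940 : Led Lsl_cf (LP (LK LD1_c14 LD2_c18 LD3_c7)) = (LP (LK LD1_c13 LD2_c8 LD3_c8)) :=
  Lgr Lrot97 (Lpr_bt (f12050 IH) (Lpr_ct (f479186 IH) (Lpr_bt (f486938 IH) (Lpr_ct (f15196 IH) (Lpr_bt (f486937 IH) (Lpn (LP (LK LD1_c13 LD2_c8 LD3_c8))))))))
theorem f488854 : Led Lsl_gt (LP (LK LD1_c14 LD2_c19 LD3_c43)) = (LP (LK LD1_c14 LD2_c18 LD3_c7)) :=
  Lgr Lrot149 (Lpe (f162303 IH) (Lpr_gf (f488849 IH) (Lpe (f481760 IH) (Lpr_ct (f481759 IH) (Lpe (f15107 IH) (Lpe (f15162 IH) (Lpr_bt (f15093 IH) (Lpe (f15195 IH) (Lpe (f15269 IH) (Lpe (f486940 IH) (Lpn (LP (LK LD1_c14 LD2_c18 LD3_c7)))))))))))))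
theorem f479185 : Led Lsl_bt (LP (LK LD1_c7 LD2_c35 LD3_c8)) = (LP (LK LD1_c14 LD2_c18 LD3_c7)) :=
  Lre_b IH (LK LD1_c7 LD2_c35 LD3_c8) (LK LD1_c14 LD2_c18 LD3_c7) Lrfl Lrfl
theorem f88569 : Led Lsl_gt (LP (LK LD1_c7 LD2_c38 LD3_c3)) = (LP (LK LD1_c3 LD2_c48 LD3_c32)) :=
  Lre_g IH (LK LD1_c7 LD2_c38 LD3_c3) (LK LD1_c3 LD2_c48 LD3_c32) Lrfl Lrfl
theorem f127320 : Led Lsl_ft (LP (LK LD1_c3 LD2_c27 LD3_c11)) = (LP (LK LD1_c3 LD2_c14 LD3_c60)) :=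
  Lgr Lrot54 (Lpe (K5.f127255 IH) (Lpr_ff (K5.f127313 IH) (Lpe (K5.f126569 IH) (Lpn (LP (LK LD1_c3 LD2_c14 LD3_c60))))))
theorem f129927 : Led Lsl_af (LP (LK LD1_c1 LD2_c51 LD3_c6)) = (LP (LK LD1_c3 LD2_c14 LD3_c60)) :=
  Lgr Lrot31 (Lpe (K4.f17462 IH) (Lpr_gf (K5.f129923 IH) (Lpr_ft (f127320 IH) (Lpn (LP (LK LD1_c3 LD2_c14 LD3_c60))))))
theorem f116713 : Led Lsl_et (LP (LK LD1_c1 LD2_c51 LD3_c6)) = (LP (LK LD1_c3 LD2_c48 LD3_c13)) :=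
  Lre_e IH (LK LD1_c1 LD2_c51 LD3_c6) (LK LD1_c3 LD2_c48 LD3_c13) Lrfl Lrfl
theorem f129933 : Led Lsl_et (LP (LK LD1_c6 LD2_c33 LD3_c25)) = (LP (LK LD1_c3 LD2_c14 LD3_c60)) :=
  Lre_e IH (LK LD1_c6 LD2_c33 LD3_c25) (LK LD1_c3 LD2_c14 LD3_c60) Lrfl Lrfl
theorem f129934 : Led Lsl_at (LP (LK LD1_c3 LD2_c48 LD3_c13)) = (LP (LK LD1_c6 LD2_c33 LD3_c25)) :=
  Lgr Lrot80 (Lpe (f116713 IH) (Lpr_af (f129927 IH) (Lpe (f129933 IH) (Lpn (LP (LK LD1_c6 LD2_c33 LD3_c25))))))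
theorem f87689 : Led Lsl_at (LP (LK LD1_c3 LD2_c48 LD3_c32)) = (LP (LK LD1_c1 LD2_c51 LD3_c19)) :=
  Lre_a IH (LK LD1_c3 LD2_c48 LD3_c32) (LK LD1_c1 LD2_c51 LD3_c19) Lrfl Lrfl
theorem f129941 : Led Lsl_cf (LP (LK LD1_c3 LD2_c48 LD3_c32)) = (LP (LK LD1_c6 LD2_c33 LD3_c25)) :=
  Lgr Lrot1 (Lpr_at (f87689 IH) (Lpr_ct (f129940 IH) (Lpr_at (f129934 IH) (Lpn (LP (LK LD1_c6 LD2_c33 LD3_c25))))))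
theorem f89857 : Led Lsl_at (LP (LK LD1_c6 LD2_c55 LD3_c57)) = (LP (LK LD1_c3 LD2_c27 LD3_c4)) :=
  Lre_a IH (LK LD1_c6 LD2_c55 LD3_c57) (LK LD1_c3 LD2_c27 LD3_c4) Lrfl Lrfl
theorem f129938 : Led Lsl_bf (LP (LK LD1_c6 LD2_c55 LD3_c57)) = (LP (LK LD1_c6 LD2_c33 LD3_c25)) :=
  Lgr Lrot81 (Lpr_at (f89857 IH) (Lpr_bt (K3.f89856 IH) (Lpr_at (K2.f89852 IH) (Lpr_bt (f89858 IH) (Lpr_at (f129934 IH) (Lpn (LP (LK LD1_c6 LD2_c33 LD3_c25))))))))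
theorem f97893 : Led Lsl_gt (LP (LK LD1_c6 LD2_c55 LD3_c57)) = (LP (LK LD1_c13 LD2_c9 LD3_c52)) :=
  Lre_g IH (LK LD1_c6 LD2_c55 LD3_c57) (LK LD1_c13 LD2_c9 LD3_c52) Lrfl Lrfl
theorem f97885 : Led Lsl_at (LP (LK LD1_c6 LD2_c55 LD3_c58)) = (LP (LK LD1_c7 LD2_c13 LD3_c44)) :=
  Lgr Lrot107 (Lpe (f90031 IH) (Lpe (f89857 IH) (Lpr_cf (K3.f97883 IH) (Lpn (LP (LK LD1_c7 LD2_c13 LD3_c44))))))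
theorem f480760 : Led Lsl_gf (LP (LK LD1_c7 LD2_c13 LD3_c44)) = (LP (LK LD1_c3 LD2_c37 LD3_c25)) :=
  Lgr Lrot76 (Lpe (f97885 IH) (Lpr_ff (f480748 IH) (Lpr_gt (f6664 IH) (Lpn (LP (LK LD1_c3 LD2_c37 LD3_c25))))))
theorem f6620 : Led Lsl_bt (LP (LK LD1_c1 LD2_c45 LD3_c34)) = (LP (LK LD1_c3 LD2_c37 LD3_c25)) :=
  Lre_b IH (LK LD1_c1 LD2_c45 LD3_c34) (LK LD1_c3 LD2_c37 LD3_c25) Lrfl Lrfl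
theorem f5972 : Led Lsl_at (LP (LK LD1_c3 LD2_c36 LD3_c22)) = (LP (LK LD1_c1 LD2_c45 LD3_c30)) :=
  Lre_a IH (LK LD1_c3 LD2_c36 LD3_c22) (LK LD1_c1 LD2_c45 LD3_c30) Lrfl Lrfl
theorem f5973 : Led Lsl_bt (LP (LK LD1_c7 LD2_c12 LD3_c61)) = (LP (LK LD1_c3 LD2_c36 LD3_c22)) :=
  Lre_b IH (LK LD1_c7 LD2_c12 LD3_c61) (LK LD1_c3 LD2_c36 LD3_c22) Lrfl Lrfl
theorem f5974 : Led Lsl_at (LP (LK LD1_c1 LD2_c43 LD3_c41)) = (LP (LK LD1_c3 LD2_c32 LD3_c52)) :=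
  Lre_a IH (LK LD1_c1 LD2_c43 LD3_c41) (LK LD1_c3 LD2_c32 LD3_c52) Lrfl Lrfl
theorem f5976 : Led Lsl_af (LP (LK LD1_c7 LD2_c12 LD3_c61)) = (LP (LK LD1_c7 LD2_c6 LD3_c29)) :=
  Lgr Lrot36 (Lpr_bt (f5973 IH) (Lpr_at (f5972 IH) (Lpr_bt (K3.f5964 IH) (Lpr_at (f5974 IH) (Lpr_bt (K29.f5975 IH) (Lpn (LP (LK LD1_c7 LD2_c6 LD3_c29))))))))
theorem f6609 : Led Lsl_gt (LP (LK LD1_c3 LD2_c32 LD3_c47)) = (LP (LK LD1_c7 LD2_c6 LD3_c26)) :=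
  Lre_g IH (LK LD1_c3 LD2_c32 LD3_c47) (LK LD1_c7 LD2_c6 LD3_c26) Lrfl Lrfl
theorem f6610 : Led Lsl_gf (LP (LK LD1_c7 LD2_c12 LD3_c61)) = (LP (LK LD1_c7 LD2_c6 LD3_c26)) :=
  Lgr Lrot76 (Lpr_af (f5976 IH) (Lpe (K29.f6583 IH) (Lpr_gt (f6609 IH) (Lpn (LP (LK LD1_c7 LD2_c6 LD3_c26))))))
theorem f6617 : Led Lsl_bt (LP (LK LD1_c13 LD2_c27 LD3_c61)) = (LP (LK LD1_c7 LD2_c6 LD3_c26)) :=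
  Lre_b IH (LK LD1_c13 LD2_c27 LD3_c61) (LK LD1_c7 LD2_c6 LD3_c26) Lrfl Lrfl
theorem f480762 : Led Lsl_cf (LP (LK LD1_c13 LD2_c9 LD3_c52)) = (LP (LK LD1_c13 LD2_c27 LD3_c61)) :=
  Lgr Lrot163 (Lpe (f97893 IH) (Lpr_cf (K3.f97883 IH) (Lpr_gf (f480760 IH) (Lpe (f6620 IH) (Lpr_ct (K29.f6619 IH) (Lpe (K29.f6618 IH) (Lpe (K29.f6595 IH) (Lpr_bt (K29.f6360 IH) (Lpr_gf (f6610 IH) (Lpe (f6617 IH) (Lpn (LP (LK LD1_c13 LD2_c27 LD3_c61)))))))))))))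
theorem f480768 : Led Lsl_ct (LP (LK LD1_c13 LD2_c9 LD3_c52)) = (LP (LK LD1_c13 LD2_c27 LD3_c61)) :=
  Lgr Lrot59 (Lpr_cf (f480762 IH) (Lpn (LP (LK LD1_c13 LD2_c27 LD3_c61))))
theorem f480771 : Led Lsl_gt (LP (LK LD1_c13 LD2_c27 LD3_c61)) = (LP (LK LD1_c22 LD2_c47 LD3_c25)) :=
  Lre_g IH (LK LD1_c13 LD2_c27 LD3_c61) (LK LD1_c22 LD2_c47 LD3_c25) Lrfl Lrfl
theorem f489219 : Led Lsl_cf (LP (LK LD1_c22 LD2_c47 LD3_c25)) = (LP (LK LD1_c14 LD2_c18 LD3_c18)) :=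
  Lgr Lrot163 (Lpe (f480771 IH) (Lpe (f480768 IH) (Lpe (f97893 IH) (Lpr_bf (f129938 IH) (Lpe (f129941 IH) (Lpe (f88569 IH) (Lpe (f479186 IH) (Lpr_bt (f479185 IH) (Lpe (f488854 IH) (Lpr_bf (f489190 IH) (Lpn (LP (LK LD1_c14 LD2_c18 LD3_c18)))))))))))))
theorem f486946 : Led Lsl_ct (LP (LK LD1_c14 LD2_c18 LD3_c7)) = (LP (LK LD1_c13 LD2_c8 LD3_c8)) :=
  Lgr Lrot59 (Lpr_cf (f486940 IH) (Lpn (LP (LK LD1_c13 LD2_c8 LD3_c8))))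
theorem f95175 : Led Lsl_ft (LP (LK LD1_c14 LD2_c19 LD3_c43)) = (LP (LK LD1_c7 LD2_c36 LD3_c0)) :=
  Lre_f IH (LK LD1_c14 LD2_c19 LD3_c43) (LK LD1_c7 LD2_c36 LD3_c0) Lrfl Lrfl
theorem f162284 : Led Lsl_ct (LP (LK LD1_c14 LD2_c10 LD3_c14)) = (LP (LK LD1_c7 LD2_c30 LD3_c14)) :=
  Lre_c IH (LK LD1_c14 LD2_c10 LD3_c14) (LK LD1_c7 LD2_c30 LD3_c14) Lrfl Lrfl
theorem f162285 : Led Lsl_af (LP (LK LD1_c14 LD2_c10 LD3_c14)) = (LP (LK LD1_c7 LD2_c36 LD3_c0)) :=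
  Lgr Lrot68 (Lpr_ct (f162284 IH) (Lpr_at (K8.f162277 IH) (Lpr_ct (K8.f95171 IH) (Lpn (LP (LK LD1_c7 LD2_c36 LD3_c0))))))
theorem f488856 : Led Lsl_gf (LP (LK LD1_c14 LD2_c10 LD3_c14)) = (LP (LK LD1_c14 LD2_c18 LD3_c7)) :=
  Lgr Lrot76 (Lpr_af (f162285 IH) (Lpe (f95175 IH) (Lpr_gt (f488854 IH) (Lpn (LP (LK LD1_c14 LD2_c18 LD3_c7))))))
theorem f110555 : Led Lsl_dt (LP (LK LD1_c2 LD2_c56 LD3_c30)) = (LP (LK LD1_c6 LD2_c0 LD3_c31)) :=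
  Lre_d IH (LK LD1_c2 LD2_c56 LD3_c30) (LK LD1_c6 LD2_c0 LD3_c31) Lrfl Lrfl
theorem f75414 : Led Lsl_gt (LP (LK LD1_c6 LD2_c0 LD3_c31)) = (LP (LK LD1_c11 LD2_c45 LD3_c22)) :=
  Lre_g IH (LK LD1_c6 LD2_c0 LD3_c31) (LK LD1_c11 LD2_c45 LD3_c22) Lrfl Lrfl
theorem f162777 : Led Lsl_gf (LP (LK LD1_c7 LD2_c1 LD3_c20)) = (LP (LK LD1_c7 LD2_c21 LD3_c8)) :=
  Lgr Lrot143 (Lpr_dt (K7.f63506 IH) (Lpe (K4.f19046 IH) (Lpe (K6.f111229 IH) (Lpe (K7.f96305 IH) (Lpe (K7.f151402 IH) (Lpr_gf (K6.f136767 IH) (Lpe (K6.f142521 IH) (Lpr_gt (K8.f162770 IH) (Lpr_dt (K28.f162776 IH) (Lpn (LP (LK LD1_c7 LD2_c21 LD3_c8))))))))))))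
theorem f203059 : Led Lsl_ct (LP (LK LD1_c11 LD2_c45 LD3_c22)) = (LP (LK LD1_c7 LD2_c21 LD3_c8)) :=
  Lgr Lrot152 (Lpe (f75414 IH) (Lpe (f110555 IH) (Lpr_gt (K28.f75075 IH) (Lpr_ct (K28.f110553 IH) (Lpr_gt (K28.f203054 IH) (Lpe (K6.f136153 IH) (Lpr_df (K6.f146724 IH) (Lpe (K6.f122075 IH) (Lpr_gf (f162777 IH) (Lpn (LP (LK LD1_c7 LD2_c21 LD3_c8))))))))))))
theorem f203198 : Led Lsl_gf (LP (LK LD1_c11 LD2_c45 LD3_c23)) = (LP (LK LD1_c7 LD2_c40 LD3_c54)) :=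
  Lgr Lrot147 (Lpr_ct (K32.f75407 IH) (Lpr_gt (f75414 IH) (Lpr_ct (f203059 IH) (Lpe (K28.f162776 IH) (Lpe (K8.f159462 IH) (Lpe (K28.f162768 IH) (Lpr_cf (K6.f144953 IH) (Lpr_gf (K6.f145095 IH) (Lpe (K7.f136712 IH) (Lpn (LP (LK LD1_c7 LD2_c40 LD3_c54))))))))))))
theorem f162757 : Led Lsl_ct (LP (LK LD1_c6 LD2_c54 LD3_c41)) = (LP (LK LD1_c7 LD2_c40 LD3_c44)) :=
  Lgr Lrot59 (Lpr_cf (K8.f162753 IH) (Lpn (LP (LK LD1_c7 LD2_c40 LD3_c44))))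
theorem f203202 : Led Lsl_gt (LP (LK LD1_c7 LD2_c40 LD3_c44)) = (LP (LK LD1_c3 LD2_c49 LD3_c59)) :=
  Lgr Lrot94 (Lpe (f162757 IH) (Lpr_gt (K8.f102624 IH) (Lpr_dt (K8.f102593 IH) (Lpe (K8.f148788 IH) (Lpr_dt (K32.f151470 IH) (Lpr_cf (K4.f122109 IH) (Lpr_df (K32.f155733 IH) (Lpr_gf (f203198 IH) (Lpe (K7.f136713 IH) (Lpn (LP (LK LD1_c3 LD2_c49 LD3_c59))))))))))))
theorem f162062 : Led Lsl_at (LP (LK LD1_c7 LD2_c51 LD3_c43)) = (LP (LK LD1_c7 LD2_c40 LD3_c45)) :=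
  Lgr Lrot100 (Lpr_af (K8.f162056 IH) (Lpn (LP (LK LD1_c7 LD2_c40 LD3_c45))))
theorem f203205 : Led Lsl_ft (LP (LK LD1_c7 LD2_c40 LD3_c44)) = (LP (LK LD1_c7 LD2_c51 LD3_c43)) :=
  Lgr Lrot2 (Lpr_gt (f203202 IH) (Lpe (K6.f145095 IH) (Lpe (f162062 IH) (Lpn (LP (LK LD1_c7 LD2_c51 LD3_c43))))))
theorem f203207 : Led Lsl_bf (LP (LK LD1_c7 LD2_c40 LD3_c44)) = (LP (LK LD1_c3 LD2_c54 LD3_c8)) :=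
  Lgr Lrot61 (Lpr_ft (f203205 IH) (Lpr_bt (K8.f11830 IH) (Lpr_ft (K8.f162047 IH) (Lpn (LP (LK LD1_c3 LD2_c54 LD3_c8))))))
theorem f203211 : Led Lsl_et (LP (LK LD1_c7 LD2_c40 LD3_c44)) = (LP (LK LD1_c14 LD2_c28 LD3_c36)) :=
  Lre_e IH (LK LD1_c7 LD2_c40 LD3_c44) (LK LD1_c14 LD2_c28 LD3_c36) Lrfl Lrfl
theorem f159801 : Led Lsl_et (LP (LK LD1_c7 LD2_c49 LD3_c52)) = (LP (LK LD1_c3 LD2_c54 LD3_c8)) :=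
  Lre_e IH (LK LD1_c7 LD2_c49 LD3_c52) (LK LD1_c3 LD2_c54 LD3_c8) Lrfl Lrfl
theorem f203212 : Led Lsl_bt (LP (LK LD1_c14 LD2_c28 LD3_c36)) = (LP (LK LD1_c7 LD2_c49 LD3_c52)) :=
  Lgr Lrot119 (Lpe (f203211 IH) (Lpr_bf (f203207 IH) (Lpe (f159801 IH) (Lpn (LP (LK LD1_c7 LD2_c49 LD3_c52))))))
theorem f162042 : Led Lsl_et (LP (LK LD1_c3 LD2_c54 LD3_c8)) = (LP (LK LD1_c7 LD2_c49 LD3_c52)) :=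
  Lre_e IH (LK LD1_c3 LD2_c54 LD3_c8) (LK LD1_c7 LD2_c49 LD3_c52) Lrfl Lrfl
theorem f162043 : Led Lsl_af (LP (LK LD1_c7 LD2_c51 LD3_c45)) = (LP (LK LD1_c7 LD2_c49 LD3_c52)) :=
  Lgr Lrot50 (Lpr_et (K8.f155663 IH) (Lpr_at (K8.f162038 IH) (Lpr_et (f162042 IH) (Lpn (LP (LK LD1_c7 LD2_c49 LD3_c52))))))
theorem f121194 : Led Lsl_et (LP (LK LD1_c7 LD2_c51 LD3_c36)) = (LP (LK LD1_c3 LD2_c54 LD3_c59)) :=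
  Lre_e IH (LK LD1_c7 LD2_c51 LD3_c36) (LK LD1_c3 LD2_c54 LD3_c59) Lrfl Lrfl
theorem f162006 : Led Lsl_af (LP (LK LD1_c7 LD2_c51 LD3_c36)) = (LP (LK LD1_c7 LD2_c49 LD3_c42)) :=
  Lgr Lrot50 (Lpr_et (f121194 IH) (Lpr_at (K8.f162000 IH) (Lpr_et (f129405 IH) (Lpn (LP (LK LD1_c7 LD2_c49 LD3_c42))))))
theorem f123460 : Led Lsl_bt (LP (LK LD1_c7 LD2_c51 LD3_c36)) = (LP (LK LD1_c14 LD2_c49 LD3_c31)) :=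
  Lre_b IH (LK LD1_c7 LD2_c51 LD3_c36) (LK LD1_c14 LD2_c49 LD3_c31) Lrfl Lrfl
theorem f203214 : Led Lsl_af (LP (LK LD1_c14 LD2_c28 LD3_c36)) = (LP (LK LD1_c14 LD2_c49 LD3_c31)) :=
  Lgr Lrot36 (Lpr_bt (f203212 IH) (Lpe (f162043 IH) (Lpr_bt (K8.f155653 IH) (Lpe (f162006 IH) (Lpr_bt (f123460 IH) (Lpn (LP (LK LD1_c14 LD2_c49 LD3_c31))))))))
theorem f203218 : Led Lsl_at (LP (LK LD1_c14 LD2_c28 LD3_c36)) = (LP (LK LD1_c14 LD2_c49 LD3_c31)) :=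
  Lgr Lrot100 (Lpr_af (f203214 IH) (Lpn (LP (LK LD1_c14 LD2_c49 LD3_c31))))
theorem f203216 : Led Lsl_bf (LP (LK LD1_c14 LD2_c28 LD3_c36)) = (LP (LK LD1_c7 LD2_c49 LD3_c52)) :=
  Lgr Lrot24 (Lpr_bt (f203212 IH) (Lpn (LP (LK LD1_c7 LD2_c49 LD3_c52))))
theorem f162045 : Led Lsl_at (LP (LK LD1_c7 LD2_c51 LD3_c45)) = (LP (LK LD1_c7 LD2_c49 LD3_c52)) :=
  Lgr Lrot100 (Lpr_af (f162043 IH) (Lpn (LP (LK LD1_c7 LD2_c49 LD3_c52))))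
theorem f123456 : Led Lsl_bt (LP (LK LD1_c14 LD2_c49 LD3_c31)) = (LP (LK LD1_c7 LD2_c51 LD3_c36)) :=
  Lre_b IH (LK LD1_c14 LD2_c49 LD3_c31) (LK LD1_c7 LD2_c51 LD3_c36) Lrfl Lrfl
theorem f203221 : Led Lsl_af (LP (LK LD1_c7 LD2_c49 LD3_c42)) = (LP (LK LD1_c7 LD2_c51 LD3_c36)) :=
  Lgr Lrot36 (Lpe (K8.f155655 IH) (Lpr_at (f162045 IH) (Lpe (f203216 IH) (Lpr_at (f203218 IH) (Lpr_bt (f123456 IH) (Lpn (LP (LK LD1_c7 LD2_c51 LD3_c36))))))))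
theorem f162281 : Led Lsl_bt (LP (LK LD1_c14 LD2_c10 LD3_c13)) = (LP (LK LD1_c7 LD2_c30 LD3_c14)) :=
  Lre_b IH (LK LD1_c14 LD2_c10 LD3_c13) (LK LD1_c7 LD2_c30 LD3_c14) Lrfl Lrfl
theorem f162282 : Led Lsl_af (LP (LK LD1_c14 LD2_c10 LD3_c13)) = (LP (LK LD1_c14 LD2_c46 LD3_c5)) :=
  Lgr Lrot36 (Lpr_bt (f162281 IH) (Lpr_at (K8.f162277 IH) (Lpr_bt (K28.f95152 IH) (Lpe (K8.f162210 IH) (Lpe (K8.f136372 IH) (Lpn (LP (LK LD1_c14 LD2_c46 LD3_c5))))))))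
theorem f203223 : Led Lsl_ct (LP (LK LD1_c14 LD2_c10 LD3_c13)) = (LP (LK LD1_c7 LD2_c51 LD3_c36)) :=
  Lgr Lrot111 (Lpr_af (f162282 IH) (Lpe (f136385 IH) (Lpr_af (f203221 IH) (Lpn (LP (LK LD1_c7 LD2_c51 LD3_c36))))))
theorem f203225 : Led Lsl_bt (LP (LK LD1_c7 LD2_c30 LD3_c14)) = (LP (LK LD1_c14 LD2_c10 LD3_c13)) :=
  Lre_b IH (LK LD1_c7 LD2_c30 LD3_c14) (LK LD1_c14 LD2_c10 LD3_c13) Lrfl Lrfl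
theorem f123452 : Led Lsl_et (LP (LK LD1_c14 LD2_c49 LD3_c31)) = (LP (LK LD1_c7 LD2_c51 LD3_c35)) :=
  Lre_e IH (LK LD1_c14 LD2_c49 LD3_c31) (LK LD1_c7 LD2_c51 LD3_c35) Lrfl Lrfl
theorem f123453 : Led Lsl_et (LP (LK LD1_c7 LD2_c20 LD3_c61)) = (LP (LK LD1_c13 LD2_c53 LD3_c52)) :=
  Lre_e IH (LK LD1_c7 LD2_c20 LD3_c61) (LK LD1_c13 LD2_c53 LD3_c52) Lrfl Lrfl
theorem f123454 : Led Lsl_cf (LP (LK LD1_c14 LD2_c49 LD3_c31)) = (LP (LK LD1_c13 LD2_c53 LD3_c52)) :=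
  Lgr Lrot39 (Lpr_et (f123452 IH) (Lpr_ct (K5.f122734 IH) (Lpr_et (f123453 IH) (Lpn (LP (LK LD1_c13 LD2_c53 LD3_c52))))))
theorem f123457 : Led Lsl_ct (LP (LK LD1_c14 LD2_c49 LD3_c31)) = (LP (LK LD1_c13 LD2_c53 LD3_c52)) :=
  Lgr Lrot59 (Lpr_cf (f123454 IH) (Lpn (LP (LK LD1_c13 LD2_c53 LD3_c52))))
theorem f203226 : Led Lsl_bf (LP (LK LD1_c14 LD2_c10 LD3_c14)) = (LP (LK LD1_c13 LD2_c53 LD3_c52)) :=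
  Lgr Lrot90 (Lpr_ct (f162284 IH) (Lpr_bt (f203225 IH) (Lpr_ct (f203223 IH) (Lpr_bt (f123460 IH) (Lpr_ct (f123457 IH) (Lpn (LP (LK LD1_c13 LD2_c53 LD3_c52))))))))
theorem f466702 : Led Lsl_bt (LP (LK LD1_c3 LD2_c48 LD3_c37)) = (LP (LK LD1_c1 LD2_c51 LD3_c26)) :=
  Lre_b IH (LK LD1_c3 LD2_c48 LD3_c37) (LK LD1_c1 LD2_c51 LD3_c26) Lrfl Lrfl
theorem f467226 : Led Lsl_bt (LP (LK LD1_c3 LD2_c35 LD3_c0)) = (LP (LK LD1_c7 LD2_c11 LD3_c8)) :=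
  Lre_b IH (LK LD1_c3 LD2_c35 LD3_c0) (LK LD1_c7 LD2_c11 LD3_c8) Lrfl Lrfl
theorem f467227 : Led Lsl_cf (LP (LK LD1_c3 LD2_c48 LD3_c37)) = (LP (LK LD1_c7 LD2_c11 LD3_c8)) :=
  Lgr Lrot97 (Lpr_bt (f466702 IH) (Lpr_ct (f442342 IH) (Lpr_bt (K28.f459695 IH) (Lpr_ct (K29.f466689 IH) (Lpr_bt (f467226 IH) (Lpn (LP (LK LD1_c7 LD2_c11 LD3_c8))))))))
theorem f486926 : Led Lsl_bf (LP (LK LD1_c7 LD2_c38 LD3_c3)) = (LP (LK LD1_c13 LD2_c8 LD3_c9)) :=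
  Lgr Lrot34 (Lpe (f459680 IH) (Lpe (f442361 IH) (Lpr_ct (f442342 IH) (Lpe (K29.f459679 IH) (Lpqs (K29.f466709 IH) (Lpe (K29.f145393 IH) (Lpr_gf (f482303 IH) (Lpe (f15094 IH) (Lpe (K4.f15143 IH) (Lpe (f15195 IH) (Lpe (f15196 IH) (Lpn (LP (LK LD1_c13 LD2_c8 LD3_c9))))))))))))))
theorem f129997 : Led Lsl_ct (LP (LK LD1_c3 LD2_c48 LD3_c32)) = (LP (LK LD1_c6 LD2_c33 LD3_c25)) :=
  Lgr Lrot59 (Lpr_cf (f129941 IH) (Lpn (LP (LK LD1_c6 LD2_c33 LD3_c25))))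
theorem f129999 : Led Lsl_gt (LP (LK LD1_c6 LD2_c33 LD3_c25)) = (LP (LK LD1_c12 LD2_c33 LD3_c60)) :=
  Lre_g IH (LK LD1_c6 LD2_c33 LD3_c25) (LK LD1_c12 LD2_c33 LD3_c60) Lrfl Lrfl
theorem f15239 : Led Lsl_gt (LP (LK LD1_c13 LD2_c8 LD3_c4)) = (LP (LK LD1_c6 LD2_c54 LD3_c50)) :=
  Lre_g IH (LK LD1_c13 LD2_c8 LD3_c4) (LK LD1_c6 LD2_c54 LD3_c50) Lrfl Lrfl
theorem f15135 : Led Lsl_at (LP (LK LD1_c13 LD2_c8 LD3_c4)) = (LP (LK LD1_c6 LD2_c54 LD3_c52)) :=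
  Lre_a IH (LK LD1_c13 LD2_c8 LD3_c4) (LK LD1_c6 LD2_c54 LD3_c52) Lrfl Lrfl
theorem f15137 : Led Lsl_cf (LP (LK LD1_c13 LD2_c8 LD3_c4)) = (LP (LK LD1_c14 LD2_c18 LD3_c37)) :=
  Lgr Lrot1 (Lpr_at (f15135 IH) (Lpr_ct (K4.f15130 IH) (Lpr_at (K4.f15136 IH) (Lpn (LP (LK LD1_c14 LD2_c18 LD3_c37))))))
theorem f117334 : Led Lsl_gt (LP (LK LD1_c3 LD2_c50 LD3_c7)) = (LP (LK LD1_c7 LD2_c41 LD3_c1)) :=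
  Lre_g IH (LK LD1_c3 LD2_c50 LD3_c7) (LK LD1_c7 LD2_c41 LD3_c1) Lrfl Lrfl
theorem f117335 : Led Lsl_bt (LP (LK LD1_c7 LD2_c41 LD3_c16)) = (LP (LK LD1_c3 LD2_c50 LD3_c7)) :=
  Lre_b IH (LK LD1_c7 LD2_c41 LD3_c16) (LK LD1_c3 LD2_c50 LD3_c7) Lrfl Lrfl
theorem f486960 : Led Lsl_cf (LP (LK LD1_c12 LD2_c33 LD3_c60)) = (LP (LK LD1_c7 LD2_c41 LD3_c16)) :=
  Lgr Lrot163 (Lpe (f129999 IH) (Lpe (f129997 IH) (Lpe (f88569 IH) (Lpr_bf (f486926 IH) (Lpr_ct (f15196 IH) (Lpe (f15239 IH) (Lpr_cf (f15137 IH) (Lpe (K4.f117319 IH) (Lpe (f117334 IH) (Lpe (f117335 IH) (Lpn (LP (LK LD1_c7 LD2_c41 LD3_c16)))))))))))))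
theorem f142568 : Led Lsl_et (LP (LK LD1_c3 LD2_c42 LD3_c36)) = (LP (LK LD1_c7 LD2_c25 LD3_c49)) :=
  Lre_e IH (LK LD1_c3 LD2_c42 LD3_c36) (LK LD1_c7 LD2_c25 LD3_c49) Lrfl Lrfl
theorem f122156 : Led Lsl_dt (LP (LK LD1_c3 LD2_c43 LD3_c47)) = (LP (LK LD1_c7 LD2_c28 LD3_c10)) :=
  Lre_d IH (LK LD1_c3 LD2_c43 LD3_c47) (LK LD1_c7 LD2_c28 LD3_c10) Lrfl Lrfl
theorem f466136 : Led Lsl_dt (LP (LK LD1_c7 LD2_c22 LD3_c27)) = (LP (LK LD1_c13 LD2_c56 LD3_c39)) :=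
  Lre_d IH (LK LD1_c7 LD2_c22 LD3_c27) (LK LD1_c13 LD2_c56 LD3_c39) Lrfl Lrfl
theorem f477143 : Led Lsl_dt (LP (LK LD1_c7 LD2_c52 LD3_c44)) = (LP (LK LD1_c14 LD2_c51 LD3_c51)) :=
  Lre_d IH (LK LD1_c7 LD2_c52 LD3_c44) (LK LD1_c14 LD2_c51 LD3_c51) Lrfl Lrfl
theorem f481814 : Led Lsl_gt (LP (LK LD1_c13 LD2_c56 LD3_c39)) = (LP (LK LD1_c14 LD2_c51 LD3_c51)) :=
  Lgr Lrot139 (Lpe (f466136 IH) (Lpr_gf (K28.f468149 IH) (Lpe (K28.f122197 IH) (Lpr_dt (f122156 IH) (Lpe (K28.f122191 IH) (Lpr_df (K8.f142643 IH) (Lpr_et (f142568 IH) (Lpr_gf (K29.f481805 IH) (Lpe (K32.f477131 IH) (Lpr_dt (f477143 IH) (Lpn (LP (LK LD1_c14 LD2_c51 LD3_c51)))))))))))))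
theorem f419423 : Led Lsl_gt (LP (LK LD1_c7 LD2_c33 LD3_c58)) = (LP (LK LD1_c14 LD2_c15 LD3_c59)) :=
  Lre_g IH (LK LD1_c7 LD2_c33 LD3_c58) (LK LD1_c14 LD2_c15 LD3_c59) Lrfl Lrfl
theorem f419424 : Led Lsl_dt (LP (LK LD1_c14 LD2_c15 LD3_c59)) = (LP (LK LD1_c23 LD2_c52 LD3_c40)) :=
  Lre_d IH (LK LD1_c14 LD2_c15 LD3_c59) (LK LD1_c23 LD2_c52 LD3_c40) Lrfl Lrfl
theorem f477145 : Led Lsl_dt (LP (LK LD1_c14 LD2_c51 LD3_c51)) = (LP (LK LD1_c7 LD2_c52 LD3_c44)) :=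
  Lre_d IH (LK LD1_c14 LD2_c51 LD3_c51) (LK LD1_c7 LD2_c52 LD3_c44) Lrfl Lrfl
theorem f479922 : Led Lsl_bt (LP (LK LD1_c13 LD2_c3 LD3_c55)) = (LP (LK LD1_c22 LD2_c14 LD3_c9)) :=
  Lre_b IH (LK LD1_c13 LD2_c3 LD3_c55) (LK LD1_c22 LD2_c14 LD3_c9) Lrfl Lrfl
theorem f477147 : Led Lsl_bt (LP (LK LD1_c13 LD2_c9 LD3_c19)) = (LP (LK LD1_c6 LD2_c55 LD3_c37)) :=
  Lre_b IH (LK LD1_c13 LD2_c9 LD3_c19) (LK LD1_c6 LD2_c55 LD3_c37) Lrfl Lrfl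
theorem f479932 : Led Lsl_dt (LP (LK LD1_c22 LD2_c14 LD3_c9)) = (LP (LK LD1_c13 LD2_c9 LD3_c19)) :=
  Lgr Lrot79 (Lpe (f479922 IH) (Lpr_df (K32.f479877 IH) (Lpe (f477147 IH) (Lpn (LP (LK LD1_c13 LD2_c9 LD3_c19))))))
theorem f481817 : Led Lsl_gt (LP (LK LD1_c23 LD2_c52 LD3_c40)) = (LP (LK LD1_c22 LD2_c14 LD3_c9)) :=
  Lgr Lrot49 (Lpe (f419424 IH) (Lpe (f419423 IH) (Lpr_cf (K28.f419429 IH) (Lpe (K28.f468149 IH) (Lpr_dt (f466136 IH) (Lpr_gt (f481814 IH) (Lpr_dt (f477145 IH) (Lpe (K32.f477132 IH) (Lpe (f479932 IH) (Lpn (LP (LK LD1_c22 LD2_c14 LD3_c9))))))))))))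
theorem f419419 : Led Lsl_et (LP (LK LD1_c3 LD2_c46 LD3_c32)) = (LP (LK LD1_c7 LD2_c33 LD3_c58)) :=
  Lre_e IH (LK LD1_c3 LD2_c46 LD3_c32) (LK LD1_c7 LD2_c33 LD3_c58) Lrfl Lrfl
theorem f419410 : Led Lsl_dt (LP (LK LD1_c3 LD2_c46 LD3_c32)) = (LP (LK LD1_c7 LD2_c33 LD3_c57)) :=
  Lre_d IH (LK LD1_c3 LD2_c46 LD3_c32) (LK LD1_c7 LD2_c33 LD3_c57) Lrfl Lrfl
theorem f144989 : Led Lsl_et (LP (LK LD1_c6 LD2_c54 LD3_c40)) = (LP (LK LD1_c13 LD2_c7 LD3_c52)) :=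
  Lre_e IH (LK LD1_c6 LD2_c54 LD3_c40) (LK LD1_c13 LD2_c7 LD3_c52) Lrfl Lrfl
theorem f479865 : Led Lsl_et (LP (LK LD1_c13 LD2_c3 LD3_c55)) = (LP (LK LD1_c22 LD2_c14 LD3_c11)) :=
  Lre_e IH (LK LD1_c13 LD2_c3 LD3_c55) (LK LD1_c22 LD2_c14 LD3_c11) Lrfl Lrfl
theorem f477011 : Led Lsl_et (LP (LK LD1_c3 LD2_c26 LD3_c53)) = (LP (LK LD1_c6 LD2_c55 LD3_c37)) :=
  Lre_e IH (LK LD1_c3 LD2_c26 LD3_c53) (LK LD1_c6 LD2_c55 LD3_c37) Lrfl Lrfl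
theorem f455110 : Led Lsl_dt (LP (LK LD1_c6 LD2_c55 LD3_c36)) = (LP (LK LD1_c3 LD2_c26 LD3_c53)) :=
  Lre_d IH (LK LD1_c6 LD2_c55 LD3_c36) (LK LD1_c3 LD2_c26 LD3_c53) Lrfl Lrfl
theorem f479934 : Led Lsl_et (LP (LK LD1_c13 LD2_c9 LD3_c20)) = (LP (LK LD1_c6 LD2_c55 LD3_c36)) :=
  Lre_e IH (LK LD1_c13 LD2_c9 LD3_c20) (LK LD1_c6 LD2_c55 LD3_c36) Lrfl Lrfl
theorem f479935 : Led Lsl_dt (LP (LK LD1_c22 LD2_c14 LD3_c11)) = (LP (LK LD1_c13 LD2_c9 LD3_c20)) :=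
  Lgr Lrot77 (Lpe (f479865 IH) (Lpr_df (K32.f479877 IH) (Lpe (f477011 IH) (Lpe (f455110 IH) (Lpe (f479934 IH) (Lpn (LP (LK LD1_c13 LD2_c9 LD3_c20))))))))
theorem f479958 : Led Lsl_df (LP (LK LD1_c22 LD2_c14 LD3_c11)) = (LP (LK LD1_c13 LD2_c9 LD3_c20)) :=
  Lgr Lrot38 (Lpr_dt (f479935 IH) (Lpn (LP (LK LD1_c13 LD2_c9 LD3_c20))))
theorem f479970 : Led Lsl_bt (LP (LK LD1_c22 LD2_c14 LD3_c11)) = (LP (LK LD1_c30 LD2_c22 LD3_c37)) :=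
  Lre_b IH (LK LD1_c22 LD2_c14 LD3_c11) (LK LD1_c30 LD2_c22 LD3_c37) Lrfl Lrfl
theorem f479971 : Led Lsl_bt (LP (LK LD1_c22 LD2_c21 LD3_c58)) = (LP (LK LD1_c13 LD2_c9 LD3_c20)) :=
  Lre_b IH (LK LD1_c22 LD2_c21 LD3_c58) (LK LD1_c13 LD2_c9 LD3_c20) Lrfl Lrfl
theorem f479972 : Led Lsl_dt (LP (LK LD1_c30 LD2_c22 LD3_c37)) = (LP (LK LD1_c22 LD2_c21 LD3_c58)) :=
  Lgr Lrot79 (Lpe (f479970 IH) (Lpr_df (f479958 IH) (Lpe (f479971 IH) (Lpn (LP (LK LD1_c22 LD2_c21 LD3_c58))))))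
theorem f479975 : Led Lsl_et (LP (LK LD1_c22 LD2_c14 LD3_c9)) = (LP (LK LD1_c30 LD2_c22 LD3_c37)) :=
  Lre_e IH (LK LD1_c22 LD2_c14 LD3_c9) (LK LD1_c30 LD2_c22 LD3_c37) Lrfl Lrfl
theorem f479976 : Led Lsl_et (LP (LK LD1_c22 LD2_c21 LD3_c58)) = (LP (LK LD1_c13 LD2_c9 LD3_c18)) :=
  Lre_e IH (LK LD1_c22 LD2_c21 LD3_c58) (LK LD1_c13 LD2_c9 LD3_c18) Lrfl Lrfl
theorem f477135 : Led Lsl_dt (LP (LK LD1_c13 LD2_c9 LD3_c18)) = (LP (LK LD1_c6 LD2_c55 LD3_c35)) :=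
  Lre_d IH (LK LD1_c13 LD2_c9 LD3_c18) (LK LD1_c6 LD2_c55 LD3_c35) Lrfl Lrfl
theorem f479977 : Led Lsl_df (LP (LK LD1_c22 LD2_c14 LD3_c9)) = (LP (LK LD1_c13 LD2_c9 LD3_c19)) :=
  Lgr Lrot70 (Lpr_et (f479975 IH) (Lpr_dt (f479972 IH) (Lpr_et (f479976 IH) (Lpr_dt (f477135 IH) (Lpr_et (K32.f477130 IH) (Lpn (LP (LK LD1_c13 LD2_c9 LD3_c19))))))))
theorem f477149 : Led Lsl_et (LP (LK LD1_c13 LD2_c9 LD3_c19)) = (LP (LK LD1_c6 LD2_c55 LD3_c35)) :=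
  Lre_e IH (LK LD1_c13 LD2_c9 LD3_c19) (LK LD1_c6 LD2_c55 LD3_c35) Lrfl Lrfl
theorem f481824 : Led Lsl_gf (LP (LK LD1_c13 LD2_c7 LD3_c52)) = (LP (LK LD1_c6 LD2_c55 LD3_c35)) :=
  Lgr Lrot141 (Lpe (f144989 IH) (Lpe (K8.f157299 IH) (Lpe (K28.f419414 IH) (Lpe (f419410 IH) (Lpr_et (f419419 IH) (Lpr_gt (f419423 IH) (Lpr_dt (f419424 IH) (Lpr_gt (f481817 IH) (Lpr_df (f479977 IH) (Lpr_et (f477149 IH) (Lpn (LP (LK LD1_c6 LD2_c55 LD3_c35)))))))))))))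
theorem f477125 : Led Lsl_gt (LP (LK LD1_c13 LD2_c9 LD3_c16)) = (LP (LK LD1_c6 LD2_c55 LD3_c35)) :=
  Lre_g IH (LK LD1_c13 LD2_c9 LD3_c16) (LK LD1_c6 LD2_c55 LD3_c35) Lrfl Lrfl
theorem f481826 : Led Lsl_ff (LP (LK LD1_c13 LD2_c53 LD3_c53)) = (LP (LK LD1_c13 LD2_c9 LD3_c16)) :=
  Lgr Lrot52 (Lpr_at (K8.f162072 IH) (Lpr_gf (f481824 IH) (Lpe (f477125 IH) (Lpn (LP (LK LD1_c13 LD2_c9 LD3_c16))))))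
theorem f481830 : Led Lsl_ft (LP (LK LD1_c13 LD2_c53 LD3_c53)) = (LP (LK LD1_c13 LD2_c9 LD3_c16)) :=
  Lgr Lrot48 (Lpr_ff (f481826 IH) (Lpn (LP (LK LD1_c13 LD2_c9 LD3_c16))))
theorem f485067 : Led Lsl_bf (LP (LK LD1_c13 LD2_c33 LD3_c32)) = (LP (LK LD1_c13 LD2_c9 LD3_c16)) :=
  Lgr Lrot61 (Lpr_ft (f485060 IH) (Lpr_bt (K8.f144891 IH) (Lpr_ft (f481830 IH) (Lpn (LP (LK LD1_c13 LD2_c9 LD3_c16))))))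
theorem f484340 : Led Lsl_bt (LP (LK LD1_c3 LD2_c34 LD3_c10)) = (LP (LK LD1_c7 LD2_c9 LD3_c30)) :=
  Lre_b IH (LK LD1_c3 LD2_c34 LD3_c10) (LK LD1_c7 LD2_c9 LD3_c30) Lrfl Lrfl
theorem f466698 : Led Lsl_ct (LP (LK LD1_c3 LD2_c34 LD3_c10)) = (LP (LK LD1_c1 LD2_c43 LD3_c46)) :=
  Lre_c IH (LK LD1_c3 LD2_c34 LD3_c10) (LK LD1_c1 LD2_c43 LD3_c46) Lrfl Lrfl
theorem f484334 : Led Lsl_gt (LP (LK LD1_c1 LD2_c43 LD3_c46)) = (LP (LK LD1_c1 LD2_c52 LD3_c1)) :=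
  Lgr Lrot46 (Lpr_gf (f484331 IH) (Lpr_ft (f15132 IH) (Lpe (f132064 IH) (Lpn (LP (LK LD1_c1 LD2_c52 LD3_c1))))))
theorem f96466 : Led Lsl_gt (LP (LK LD1_c1 LD2_c52 LD3_c0)) = (LP (LK LD1_c3 LD2_c50 LD3_c7)) :=
  Lre_g IH (LK LD1_c1 LD2_c52 LD3_c0) (LK LD1_c3 LD2_c50 LD3_c7) Lrfl Lrfl
theorem f484349 : Led Lsl_ct (LP (LK LD1_c3 LD2_c50 LD3_c7)) = (LP (LK LD1_c7 LD2_c41 LD3_c17)) :=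
  Lre_c IH (LK LD1_c3 LD2_c50 LD3_c7) (LK LD1_c7 LD2_c41 LD3_c17) Lrfl Lrfl
theorem f484350 : Led Lsl_gt (LP (LK LD1_c7 LD2_c41 LD3_c17)) = (LP (LK LD1_c14 LD2_c29 LD3_c27)) :=
  Lre_g IH (LK LD1_c7 LD2_c41 LD3_c17) (LK LD1_c14 LD2_c29 LD3_c27) Lrfl Lrfl
theorem f485088 : Led Lsl_cf (LP (LK LD1_c14 LD2_c29 LD3_c27)) = (LP (LK LD1_c13 LD2_c9 LD3_c16)) :=
  Lgr Lrot163 (Lpe (f484350 IH) (Lpe (f484349 IH) (Lpe (f96466 IH) (Lpe (f84938 IH) (Lpr_ct (f84956 IH) (Lpe (f484334 IH) (Lpe (f466698 IH) (Lpr_bt (f484340 IH) (Lpe (f466649 IH) (Lpr_bf (f485067 IH) (Lpn (LP (LK LD1_c13 LD2_c9 LD3_c16)))))))))))))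
theorem f485094 : Led Lsl_bt (LP (LK LD1_c3 LD2_c50 LD3_c7)) = (LP (LK LD1_c7 LD2_c41 LD3_c16)) :=
  Lre_b IH (LK LD1_c3 LD2_c50 LD3_c7) (LK LD1_c7 LD2_c41 LD3_c16) Lrfl Lrfl
theorem f97853 : Led Lsl_bf (LP (LK LD1_c6 LD2_c56 LD3_c16)) = (LP (LK LD1_c7 LD2_c42 LD3_c42)) :=
  Lgr Lrot24 (Lpr_bt (K3.f97851 IH) (Lpn (LP (LK LD1_c7 LD2_c42 LD3_c42))))
theorem f485095 : Led Lsl_gf (LP (LK LD1_c7 LD2_c41 LD3_c16)) = (LP (LK LD1_c6 LD2_c56 LD3_c16)) :=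
  Lgr Lrot124 (Lpe (f485094 IH) (Lpr_ct (f484349 IH) (Lpr_gt (f484350 IH) (Lpr_cf (f485088 IH) (Lpe (f485067 IH) (Lpr_gt (f466649 IH) (Lpr_ct (K29.f466645 IH) (Lpe (K29.f478009 IH) (Lpr_cf (K28.f97855 IH) (Lpe (f97853 IH) (Lpn (LP (LK LD1_c6 LD2_c56 LD3_c16)))))))))))))
theorem f130006 : Led Lsl_bt (LP (LK LD1_c3 LD2_c48 LD3_c13)) = (LP (LK LD1_c1 LD2_c51 LD3_c8)) :=
  Lre_b IH (LK LD1_c3 LD2_c48 LD3_c13) (LK LD1_c1 LD2_c51 LD3_c8) Lrfl Lrfl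
theorem f467267 : Led Lsl_ff (LP (LK LD1_c3 LD2_c48 LD3_c13)) = (LP (LK LD1_c7 LD2_c11 LD3_c8)) :=
  Lgr Lrot25 (Lpr_bt (f130006 IH) (Lpr_ft (K29.f467243 IH) (Lpr_bt (f467226 IH) (Lpn (LP (LK LD1_c7 LD2_c11 LD3_c8))))))
theorem f130002 : Led Lsl_ct (LP (LK LD1_c3 LD2_c48 LD3_c13)) = (LP (LK LD1_c1 LD2_c51 LD3_c19)) :=
  Lre_c IH (LK LD1_c3 LD2_c48 LD3_c13) (LK LD1_c1 LD2_c51 LD3_c19) Lrfl Lrfl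
theorem f89822 : Led Lsl_ft (LP (LK LD1_c1 LD2_c51 LD3_c19)) = (LP (LK LD1_c3 LD2_c48 LD3_c37)) :=
  Lre_f IH (LK LD1_c1 LD2_c51 LD3_c19) (LK LD1_c3 LD2_c48 LD3_c37) Lrfl Lrfl
theorem f467357 : Led Lsl_ct (LP (LK LD1_c3 LD2_c48 LD3_c37)) = (LP (LK LD1_c7 LD2_c11 LD3_c8)) :=
  Lgr Lrot40 (Lpe (f89822 IH) (Lpe (f130002 IH) (Lpr_ff (f467267 IH) (Lpn (LP (LK LD1_c7 LD2_c11 LD3_c8))))))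
theorem f486983 : Led Lsl_gt (LP (LK LD1_c12 LD2_c33 LD3_c60)) = (LP (LK LD1_c7 LD2_c11 LD3_c8)) :=
  Lgr Lrot149 (Lpr_cf (f486960 IH) (Lpr_gf (f485095 IH) (Lpr_bf (f97853 IH) (Lpe (K28.f97855 IH) (Lpr_gf (K29.f478009 IH) (Lpe (K29.f466645 IH) (Lpr_bt (K29.f466703 IH) (Lpe (K28.f466691 IH) (Lpe (f466702 IH) (Lpr_ct (f467357 IH) (Lpn (LP (LK LD1_c7 LD2_c11 LD3_c8)))))))))))))
theorem f486980 : Led Lsl_ct (LP (LK LD1_c12 LD2_c33 LD3_c60)) = (LP (LK LD1_c7 LD2_c41 LD3_c16)) :=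
  Lgr Lrot59 (Lpr_cf (f486960 IH) (Lpn (LP (LK LD1_c7 LD2_c41 LD3_c16))))
theorem f485090 : Led Lsl_ct (LP (LK LD1_c14 LD2_c29 LD3_c27)) = (LP (LK LD1_c13 LD2_c9 LD3_c16)) :=
  Lgr Lrot59 (Lpr_cf (f485088 IH) (Lpn (LP (LK LD1_c13 LD2_c9 LD3_c16))))
theorem f463674 : Led Lsl_et (LP (LK LD1_c3 LD2_c55 LD3_c27)) = (LP (LK LD1_c1 LD2_c54 LD3_c18)) :=
  Lre_e IH (LK LD1_c3 LD2_c55 LD3_c27) (LK LD1_c1 LD2_c54 LD3_c18) Lrfl Lrfl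
theorem f463675 : Led Lsl_gf (LP (LK LD1_c3 LD2_c42 LD3_c12)) = (LP (LK LD1_c1 LD2_c54 LD3_c18)) :=
  Lgr Lrot141 (Lpe (K5.f132168 IH) (Lpe (K6.f142359 IH) (Lpr_gt (K6.f12585 IH) (Lpe (K4.f12588 IH) (Lpr_et (K28.f122476 IH) (Lpr_gt (K28.f128316 IH) (Lpr_dt (K32.f142403 IH) (Lpr_gt (K32.f463664 IH) (Lpe (K32.f463663 IH) (Lpr_et (f463674 IH) (Lpn (LP (LK LD1_c1 LD2_c54 LD3_c18)))))))))))))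
theorem f91273 : Led Lsl_gt (LP (LK LD1_c3 LD2_c47 LD3_c26)) = (LP (LK LD1_c7 LD2_c35 LD3_c42)) :=
  Lre_g IH (LK LD1_c3 LD2_c47 LD3_c26) (LK LD1_c7 LD2_c35 LD3_c42) Lrfl Lrfl
theorem f132249 : Led Lsl_ct (LP (LK LD1_c14 LD2_c19 LD3_c2)) = (LP (LK LD1_c7 LD2_c35 LD3_c42)) :=
  Lre_c IH (LK LD1_c14 LD2_c19 LD3_c2) (LK LD1_c7 LD2_c35 LD3_c42) Lrfl Lrfl
theorem f485114 : Led Lsl_bf (LP (LK LD1_c7 LD2_c41 LD3_c17)) = (LP (LK LD1_c14 LD2_c19 LD3_c2)) :=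
  Lgr Lrot165 (Lpr_gt (f484350 IH) (Lpr_ct (f485090 IH) (Lpr_gt (f477125 IH) (Lpr_cf (K32.f477123 IH) (Lpr_bt (K29.f463683 IH) (Lpe (f463675 IH) (Lpe (K5.f132182 IH) (Lpe (K5.f132233 IH) (Lpr_gt (f91273 IH) (Lpe (f132249 IH) (Lpn (LP (LK LD1_c14 LD2_c19 LD3_c2)))))))))))))
theorem f485117 : Led Lsl_bt (LP (LK LD1_c7 LD2_c41 LD3_c17)) = (LP (LK LD1_c14 LD2_c19 LD3_c2)) :=
  Lgr Lrot127 (Lpr_bf (f485114 IH) (Lpn (LP (LK LD1_c14 LD2_c19 LD3_c2))))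
theorem f486985 : Led Lsl_bf (LP (LK LD1_c12 LD2_c33 LD3_c60)) = (LP (LK LD1_c7 LD2_c35 LD3_c42)) :=
  Lgr Lrot90 (Lpr_ct (f486980 IH) (Lpr_bt (f117335 IH) (Lpr_ct (f484349 IH) (Lpr_bt (f485117 IH) (Lpr_ct (f132249 IH) (Lpn (LP (LK LD1_c7 LD2_c35 LD3_c42))))))))
theorem f91280 : Led Lsl_ct (LP (LK LD1_c7 LD2_c35 LD3_c42)) = (LP (LK LD1_c14 LD2_c19 LD3_c2)) :=
  Lre_c IH (LK LD1_c7 LD2_c35 LD3_c42) (LK LD1_c14 LD2_c19 LD3_c2) Lrfl Lrfl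
theorem f488864 : Led Lsl_gt (LP (LK LD1_c14 LD2_c49 LD3_c31)) = (LP (LK LD1_c14 LD2_c19 LD3_c2)) :=
  Lgr Lrot65 (Lpr_cf (f123454 IH) (Lpe (f203226 IH) (Lpr_gf (f488856 IH) (Lpe (f479185 IH) (Lpr_ct (f479186 IH) (Lpe (f459680 IH) (Lpr_cf (f467227 IH) (Lpe (f486983 IH) (Lpr_bf (f486985 IH) (Lpr_ct (f91280 IH) (Lpn (LP (LK LD1_c14 LD2_c19 LD3_c2)))))))))))))
theorem f129566 : Led Lsl_et (LP (LK LD1_c3 LD2_c54 LD3_c59)) = (LP (LK LD1_c7 LD2_c51 LD3_c36)) :=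
  Lre_e IH (LK LD1_c3 LD2_c54 LD3_c59) (LK LD1_c7 LD2_c51 LD3_c36) Lrfl Lrfl
theorem f129567 : Led Lsl_et (LP (LK LD1_c14 LD2_c10 LD3_c13)) = (LP (LK LD1_c7 LD2_c30 LD3_c11)) :=
  Lre_e IH (LK LD1_c14 LD2_c10 LD3_c13) (LK LD1_c7 LD2_c30 LD3_c11) Lrfl Lrfl
theorem f129568 : Led Lsl_ct (LP (LK LD1_c7 LD2_c51 LD3_c36)) = (LP (LK LD1_c14 LD2_c10 LD3_c13)) :=
  Lgr Lrot15 (Lpe (f129566 IH) (Lpr_cf (K5.f129559 IH) (Lpe (f129567 IH) (Lpn (LP (LK LD1_c14 LD2_c10 LD3_c13))))))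
theorem f96467 : Led Lsl_ct (LP (LK LD1_c7 LD2_c41 LD3_c17)) = (LP (LK LD1_c3 LD2_c50 LD3_c7)) :=
  Lre_c IH (LK LD1_c7 LD2_c41 LD3_c17) (LK LD1_c3 LD2_c50 LD3_c7) Lrfl Lrfl
theorem f123526 : Led Lsl_et (LP (LK LD1_c7 LD2_c25 LD3_c2)) = (LP (LK LD1_c3 LD2_c42 LD3_c9)) :=
  Lre_e IH (LK LD1_c7 LD2_c25 LD3_c2) (LK LD1_c3 LD2_c42 LD3_c9) Lrfl Lrfl
theorem f127989 : Led Lsl_at (LP (LK LD1_c3 LD2_c26 LD3_c40)) = (LP (LK LD1_c6 LD2_c55 LD3_c12)) :=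
  Lre_a IH (LK LD1_c3 LD2_c26 LD3_c40) (LK LD1_c6 LD2_c55 LD3_c12) Lrfl Lrfl
theorem f127990 : Led Lsl_ft (LP (LK LD1_c3 LD2_c42 LD3_c9)) = (LP (LK LD1_c3 LD2_c26 LD3_c40)) :=
  Lgr Lrot101 (Lpe (K6.f122704 IH) (Lpr_ff (K5.f127976 IH) (Lpe (f127989 IH) (Lpn (LP (LK LD1_c3 LD2_c26 LD3_c40))))))
theorem f155726 : Led Lsl_et (LP (LK LD1_c3 LD2_c26 LD3_c40)) = (LP (LK LD1_c6 LD2_c55 LD3_c14)) :=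
  Lre_e IH (LK LD1_c3 LD2_c26 LD3_c40) (LK LD1_c6 LD2_c55 LD3_c14) Lrfl Lrfl
theorem f132196 : Led Lsl_bt (LP (LK LD1_c3 LD2_c26 LD3_c42)) = (LP (LK LD1_c6 LD2_c55 LD3_c14)) :=
  Lre_b IH (LK LD1_c3 LD2_c26 LD3_c42) (LK LD1_c6 LD2_c55 LD3_c14) Lrfl Lrfl
theorem f456640 : Led Lsl_bt (LP (LK LD1_c7 LD2_c52 LD3_c34)) = (LP (LK LD1_c3 LD2_c55 LD3_c22)) :=
  Lre_b IH (LK LD1_c7 LD2_c52 LD3_c34) (LK LD1_c3 LD2_c55 LD3_c22) Lrfl Lrfl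
theorem f480837 : Led Lsl_ft (LP (LK LD1_c6 LD2_c55 LD3_c14)) = (LP (LK LD1_c7 LD2_c52 LD3_c34)) :=
  Lgr Lrot75 (Lpe (f132196 IH) (Lpr_ff (K29.f480814 IH) (Lpe (f456640 IH) (Lpn (LP (LK LD1_c7 LD2_c52 LD3_c34))))))
theorem f485247 : Led Lsl_ef (LP (LK LD1_c7 LD2_c50 LD3_c40)) = (LP (LK LD1_c7 LD2_c52 LD3_c34)) :=
  Lgr Lrot21 (Lpr_ft (f485223 IH) (Lpr_et (f123526 IH) (Lpr_ft (f127990 IH) (Lpr_et (f155726 IH) (Lpr_ft (f480837 IH) (Lpn (LP (LK LD1_c7 LD2_c52 LD3_c34))))))))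
theorem f485294 : Led Lsl_et (LP (LK LD1_c7 LD2_c50 LD3_c40)) = (LP (LK LD1_c7 LD2_c52 LD3_c34)) :=
  Lgr Lrot87 (Lpr_ef (f485247 IH) (Lpn (LP (LK LD1_c7 LD2_c52 LD3_c34))))
theorem f485242 : Led Lsl_at (LP (LK LD1_c14 LD2_c48 LD3_c0)) = (LP (LK LD1_c7 LD2_c50 LD3_c40)) :=
  Lre_a IH (LK LD1_c14 LD2_c48 LD3_c0) (LK LD1_c7 LD2_c50 LD3_c40) Lrfl Lrfl
theorem f123199 : Led Lsl_bt (LP (LK LD1_c3 LD2_c53 LD3_c55)) = (LP (LK LD1_c1 LD2_c53 LD3_c36)) :=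
  Lre_b IH (LK LD1_c3 LD2_c53 LD3_c55) (LK LD1_c1 LD2_c53 LD3_c36) Lrfl Lrfl
theorem f123428 : Led Lsl_et (LP (LK LD1_c1 LD2_c53 LD3_c34)) = (LP (LK LD1_c3 LD2_c53 LD3_c55)) :=
  Lre_e IH (LK LD1_c1 LD2_c53 LD3_c34) (LK LD1_c3 LD2_c53 LD3_c55) Lrfl Lrfl
theorem f142517 : Led Lsl_ct (LP (LK LD1_c3 LD2_c53 LD3_c55)) = (LP (LK LD1_c3 LD2_c53 LD3_c55)) :=
  Lgr Lrot15 (Lpe (f123428 IH) (Lpr_cf (K6.f142513 IH) (Lpe (K28.f123201 IH) (Lpn (LP (LK LD1_c3 LD2_c53 LD3_c55))))))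
theorem f123185 : Led Lsl_ct (LP (LK LD1_c14 LD2_c45 LD3_c40)) = (LP (LK LD1_c7 LD2_c49 LD3_c23)) :=
  Lre_c IH (LK LD1_c14 LD2_c45 LD3_c40) (LK LD1_c7 LD2_c49 LD3_c23) Lrfl Lrfl
theorem f478263 : Led Lsl_cf (LP (LK LD1_c3 LD2_c26 LD3_c44)) = (LP (LK LD1_c1 LD2_c54 LD3_c12)) :=
  Lgr Lrot11 (Lpr_ct (K29.f478258 IH) (Lpn (LP (LK LD1_c1 LD2_c54 LD3_c12))))
theorem f155727 : Led Lsl_gt (LP (LK LD1_c6 LD2_c55 LD3_c14)) = (LP (LK LD1_c13 LD2_c8 LD3_c53)) :=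
  Lre_g IH (LK LD1_c6 LD2_c55 LD3_c14) (LK LD1_c13 LD2_c8 LD3_c53) Lrfl Lrfl
theorem f437634 : Led Lsl_gt (LP (LK LD1_c3 LD2_c54 LD3_c53)) = (LP (LK LD1_c1 LD2_c54 LD3_c12)) :=
  Lre_g IH (LK LD1_c3 LD2_c54 LD3_c53) (LK LD1_c1 LD2_c54 LD3_c12) Lrfl Lrfl
theorem f123174 : Led Lsl_bt (LP (LK LD1_c7 LD2_c51 LD3_c19)) = (LP (LK LD1_c3 LD2_c54 LD3_c53)) :=
  Lre_b IH (LK LD1_c7 LD2_c51 LD3_c19) (LK LD1_c3 LD2_c54 LD3_c53) Lrfl Lrfl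
theorem f123381 : Led Lsl_ft (LP (LK LD1_c3 LD2_c54 LD3_c49)) = (LP (LK LD1_c7 LD2_c51 LD3_c19)) :=
  Lre_f IH (LK LD1_c3 LD2_c54 LD3_c49) (LK LD1_c7 LD2_c51 LD3_c19) Lrfl Lrfl
theorem f123178 : Led Lsl_ft (LP (LK LD1_c7 LD2_c51 LD3_c19)) = (LP (LK LD1_c3 LD2_c54 LD3_c49)) :=
  Lre_f IH (LK LD1_c7 LD2_c51 LD3_c19) (LK LD1_c3 LD2_c54 LD3_c49) Lrfl Lrfl
theorem f437630 : Led Lsl_ct (LP (LK LD1_c7 LD2_c51 LD3_c19)) = (LP (LK LD1_c7 LD2_c51 LD3_c19)) :=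
  Lgr Lrot40 (Lpe (f123381 IH) (Lpr_cf (f437625 IH) (Lpe (f123178 IH) (Lpn (LP (LK LD1_c7 LD2_c51 LD3_c19))))))
theorem f478622 : Led Lsl_bf (LP (LK LD1_c13 LD2_c8 LD3_c53)) = (LP (LK LD1_c14 LD2_c45 LD3_c40)) :=
  Lgr Lrot34 (Lpe (f155727 IH) (Lpe (f132196 IH) (Lpr_ct (K29.f132190 IH) (Lpe (K29.f91710 IH) (Lpr_cf (f478263 IH) (Lpe (f437634 IH) (Lpe (f123174 IH) (Lpr_ct (f437630 IH) (Lpr_gf (K29.f123181 IH) (Lpe (f123185 IH) (Lpn (LP (LK LD1_c14 LD2_c45 LD3_c40)))))))))))))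
theorem f484760 : Led Lsl_gt (LP (LK LD1_c7 LD2_c38 LD3_c45)) = (LP (LK LD1_c3 LD2_c48 LD3_c49)) :=
  Lre_g IH (LK LD1_c7 LD2_c38 LD3_c45) (LK LD1_c3 LD2_c48 LD3_c49) Lrfl Lrfl
theorem f484808 : Led Lsl_ct (LP (LK LD1_c14 LD2_c24 LD3_c37)) = (LP (LK LD1_c7 LD2_c38 LD3_c45)) :=
  Lre_c IH (LK LD1_c14 LD2_c24 LD3_c37) (LK LD1_c7 LD2_c38 LD3_c45) Lrfl Lrfl
theorem f484811 : Led Lsl_gt (LP (LK LD1_c13 LD2_c8 LD3_c53)) = (LP (LK LD1_c14 LD2_c24 LD3_c37)) :=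
  Lgr Lrot82 (Lpr_bf (f478622 IH) (Lpr_ct (f123185 IH) (Lpe (K29.f123180 IH) (Lpe (f142517 IH) (Lpr_bt (f123199 IH) (Lpe (f437669 IH) (Lpr_bf (f484782 IH) (Lpr_ct (f484757 IH) (Lpe (f484760 IH) (Lpe (f484808 IH) (Lpn (LP (LK LD1_c14 LD2_c24 LD3_c37)))))))))))))
theorem f484813 : Led Lsl_at (LP (LK LD1_c7 LD2_c52 LD3_c34)) = (LP (LK LD1_c14 LD2_c24 LD3_c37)) :=
  Lgr Lrot26 (Lpe (f480837 IH) (Lpr_gt (f155727 IH) (Lpr_gt (f484811 IH) (Lpn (LP (LK LD1_c14 LD2_c24 LD3_c37))))))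
theorem f485297 : Led Lsl_ef (LP (LK LD1_c14 LD2_c48 LD3_c0)) = (LP (LK LD1_c14 LD2_c24 LD3_c37)) :=
  Lgr Lrot20 (Lpr_at (f485242 IH) (Lpr_et (f485294 IH) (Lpr_at (f484813 IH) (Lpn (LP (LK LD1_c14 LD2_c24 LD3_c37))))))
theorem f132226 : Led Lsl_at (LP (LK LD1_c13 LD2_c8 LD3_c50)) = (LP (LK LD1_c6 LD2_c55 LD3_c14)) :=
  Lre_a IH (LK LD1_c13 LD2_c8 LD3_c50) (LK LD1_c6 LD2_c55 LD3_c14) Lrfl Lrfl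
theorem f484829 : Led Lsl_ff (LP (LK LD1_c13 LD2_c8 LD3_c50)) = (LP (LK LD1_c14 LD2_c24 LD3_c37)) :=
  Lgr Lrot30 (Lpr_at (f132226 IH) (Lpr_ft (f480837 IH) (Lpr_at (f484813 IH) (Lpn (LP (LK LD1_c14 LD2_c24 LD3_c37))))))
theorem f484837 : Led Lsl_ft (LP (LK LD1_c13 LD2_c8 LD3_c50)) = (LP (LK LD1_c14 LD2_c24 LD3_c37)) :=
  Lgr Lrot48 (Lpr_ff (f484829 IH) (Lpn (LP (LK LD1_c14 LD2_c24 LD3_c37))))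
theorem f127975 : Led Lsl_et (LP (LK LD1_c6 LD2_c55 LD3_c12)) = (LP (LK LD1_c13 LD2_c8 LD3_c50)) :=
  Lre_e IH (LK LD1_c6 LD2_c55 LD3_c12) (LK LD1_c13 LD2_c8 LD3_c50) Lrfl Lrfl
theorem f123530 : Led Lsl_et (LP (LK LD1_c14 LD2_c1 LD3_c45)) = (LP (LK LD1_c7 LD2_c25 LD3_c1)) :=
  Lre_e IH (LK LD1_c14 LD2_c1 LD3_c45) (LK LD1_c7 LD2_c25 LD3_c1) Lrfl Lrfl
theorem f485301 : Led Lsl_ft (LP (LK LD1_c14 LD2_c48 LD3_c0)) = (LP (LK LD1_c14 LD2_c1 LD3_c45)) :=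
  Lgr Lrot86 (Lpr_ef (f485297 IH) (Lpe (f484837 IH) (Lpe (f127975 IH) (Lpe (K5.f127969 IH) (Lpe (f123530 IH) (Lpn (LP (LK LD1_c14 LD2_c1 LD3_c45))))))))
theorem f142562 : Led Lsl_ft (LP (LK LD1_c7 LD2_c25 LD3_c49)) = (LP (LK LD1_c14 LD2_c2 LD3_c55)) :=
  Lre_f IH (LK LD1_c7 LD2_c25 LD3_c49) (LK LD1_c14 LD2_c2 LD3_c55) Lrfl Lrfl
theorem f485303 : Led Lsl_bf (LP (LK LD1_c14 LD2_c48 LD3_c0)) = (LP (LK LD1_c14 LD2_c2 LD3_c55)) :=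
  Lgr Lrot61 (Lpr_ft (f485301 IH) (Lpe (K8.f142541 IH) (Lpr_ft (f142562 IH) (Lpn (LP (LK LD1_c14 LD2_c2 LD3_c55))))))
theorem f123517 : Led Lsl_gt (LP (LK LD1_c14 LD2_c1 LD3_c47)) = (LP (LK LD1_c7 LD2_c25 LD3_c2)) :=
  Lre_g IH (LK LD1_c14 LD2_c1 LD3_c47) (LK LD1_c7 LD2_c25 LD3_c2) Lrfl Lrfl
theorem f485307 : Led Lsl_gt (LP (LK LD1_c14 LD2_c48 LD3_c0)) = (LP (LK LD1_c14 LD2_c1 LD3_c47)) :=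
  Lgr Lrot5 (Lpr_ft (f485301 IH) (Lpr_at (K5.f123506 IH) (Lpe (f123517 IH) (Lpn (LP (LK LD1_c14 LD2_c1 LD3_c47))))))
theorem f467229 : Led Lsl_cf (LP (LK LD1_c1 LD2_c51 LD3_c11)) = (LP (LK LD1_c3 LD2_c35 LD3_c0)) :=
  Lgr Lrot11 (Lpr_ct (K29.f466689 IH) (Lpn (LP (LK LD1_c3 LD2_c35 LD3_c0))))
theorem f127332 : Led Lsl_gt (LP (LK LD1_c12 LD2_c33 LD3_c61)) = (LP (LK LD1_c6 LD2_c33 LD3_c25)) :=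
  Lre_g IH (LK LD1_c12 LD2_c33 LD3_c61) (LK LD1_c6 LD2_c33 LD3_c25) Lrfl Lrfl
theorem f467359 : Led Lsl_gf (LP (LK LD1_c12 LD2_c33 LD3_c61)) = (LP (LK LD1_c7 LD2_c11 LD3_c8)) :=
  Lgr Lrot47 (Lpr_gt (f127332 IH) (Lpe (f129934 IH) (Lpr_ff (f467267 IH) (Lpn (LP (LK LD1_c7 LD2_c11 LD3_c8))))))
theorem f89817 : Led Lsl_gt (LP (LK LD1_c13 LD2_c10 LD3_c31)) = (LP (LK LD1_c6 LD2_c56 LD3_c16)) :=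
  Lre_g IH (LK LD1_c13 LD2_c10 LD3_c31) (LK LD1_c6 LD2_c56 LD3_c16) Lrfl Lrfl
theorem f482336 : Led Lsl_ct (LP (LK LD1_c12 LD2_c33 LD3_c61)) = (LP (LK LD1_c13 LD2_c10 LD3_c31)) :=
  Lgr Lrot91 (Lpr_gf (f467359 IH) (Lpe (f467226 IH) (Lpe (f467229 IH) (Lpe (K28.f124895 IH) (Lpr_cf (K29.f482320 IH) (Lpe (K29.f482318 IH) (Lpe (K29.f477989 IH) (Lpe (K3.f89792 IH) (Lpr_ct (K3.f89807 IH) (Lpe (f89817 IH) (Lpn (LP (LK LD1_c13 LD2_c10 LD3_c31)))))))))))))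
theorem f486761 : Led Lsl_cf (LP (LK LD1_c12 LD2_c33 LD3_c61)) = (LP (LK LD1_c13 LD2_c10 LD3_c31)) :=
  Lgr Lrot11 (Lpr_ct (f482336 IH) (Lpn (LP (LK LD1_c13 LD2_c10 LD3_c31))))
theorem f89774 : Led Lsl_et (LP (LK LD1_c1 LD2_c51 LD3_c17)) = (LP (LK LD1_c3 LD2_c48 LD3_c32)) :=
  Lre_e IH (LK LD1_c1 LD2_c51 LD3_c17) (LK LD1_c3 LD2_c48 LD3_c32) Lrfl Lrfl
theorem f88571 : Led Lsl_et (LP (LK LD1_c7 LD2_c34 LD3_c51)) = (LP (LK LD1_c3 LD2_c47 LD3_c0)) :=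
  Lre_e IH (LK LD1_c7 LD2_c34 LD3_c51) (LK LD1_c3 LD2_c47 LD3_c0) Lrfl Lrfl
theorem f89786 : Led Lsl_bt (LP (LK LD1_c3 LD2_c48 LD3_c32)) = (LP (LK LD1_c7 LD2_c34 LD3_c51)) :=
  Lgr Lrot119 (Lpe (f89774 IH) (Lpr_bf (K3.f89781 IH) (Lpe (f88571 IH) (Lpn (LP (LK LD1_c7 LD2_c34 LD3_c51))))))
theorem f96560 : Led Lsl_bt (LP (LK LD1_c7 LD2_c13 LD3_c44)) = (LP (LK LD1_c13 LD2_c40 LD3_c26)) :=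
  Lgr Lrot119 (Lpe (K3.f96559 IH) (Lpr_bf (K3.f96537 IH) (Lpe (K3.f88519 IH) (Lpn (LP (LK LD1_c13 LD2_c40 LD3_c26))))))
theorem f96562 : Led Lsl_bf (LP (LK LD1_c7 LD2_c13 LD3_c44)) = (LP (LK LD1_c13 LD2_c40 LD3_c26)) :=
  Lgr Lrot24 (Lpr_bt (f96560 IH) (Lpn (LP (LK LD1_c13 LD2_c40 LD3_c26))))
theorem f88534 : Led Lsl_at (LP (LK LD1_c7 LD2_c34 LD3_c51)) = (LP (LK LD1_c3 LD2_c47 LD3_c2)) :=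
  Lre_a IH (LK LD1_c7 LD2_c34 LD3_c51) (LK LD1_c3 LD2_c47 LD3_c2) Lrfl Lrfl
theorem f88535 : Led Lsl_at (LP (LK LD1_c7 LD2_c13 LD3_c25)) = (LP (LK LD1_c13 LD2_c40 LD3_c26)) :=
  Lre_a IH (LK LD1_c7 LD2_c13 LD3_c25) (LK LD1_c13 LD2_c40 LD3_c26) Lrfl Lrfl
theorem f88536 : Led Lsl_cf (LP (LK LD1_c7 LD2_c34 LD3_c51)) = (LP (LK LD1_c13 LD2_c40 LD3_c26)) :=
  Lgr Lrot1 (Lpr_at (f88534 IH) (Lpr_ct (K3.f88528 IH) (Lpr_at (f88535 IH) (Lpn (LP (LK LD1_c13 LD2_c40 LD3_c26))))))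
theorem f476951 : Led Lsl_ct (LP (LK LD1_c3 LD2_c26 LD3_c52)) = (LP (LK LD1_c3 LD2_c49 LD3_c11)) :=
  Lgr Lrot59 (Lpr_cf (K29.f476945 IH) (Lpn (LP (LK LD1_c3 LD2_c49 LD3_c11))))
theorem f476953 : Led Lsl_cf (LP (LK LD1_c6 LD2_c55 LD3_c33)) = (LP (LK LD1_c3 LD2_c37 LD3_c8)) :=
  Lgr Lrot97 (Lpr_bt (f476944 IH) (Lpr_ct (f476951 IH) (Lpr_bt (K29.f467438 IH) (Lpe (K29.f467435 IH) (Lpr_bt (f467437 IH) (Lpn (LP (LK LD1_c3 LD2_c37 LD3_c8))))))))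
theorem f480764 : Led Lsl_gt (LP (LK LD1_c7 LD2_c34 LD3_c51)) = (LP (LK LD1_c6 LD2_c55 LD3_c33)) :=
  Lgr Lrot65 (Lpr_cf (f88536 IH) (Lpe (f96562 IH) (Lpr_gf (f480760 IH) (Lpe (f6620 IH) (Lpr_ct (K29.f6619 IH) (Lpe (K29.f6618 IH) (Lpe (K29.f6595 IH) (Lpe (K29.f10522 IH) (Lpe (f6022 IH) (Lpe (f476953 IH) (Lpn (LP (LK LD1_c6 LD2_c55 LD3_c33)))))))))))))
theorem f467446 : Led Lsl_gt (LP (LK LD1_c3 LD2_c37 LD3_c8)) = (LP (LK LD1_c7 LD2_c14 LD3_c39)) :=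
  Lre_g IH (LK LD1_c3 LD2_c37 LD3_c8) (LK LD1_c7 LD2_c14 LD3_c39) Lrfl Lrfl
theorem f476962 : Led Lsl_ct (LP (LK LD1_c13 LD2_c42 LD3_c18)) = (LP (LK LD1_c7 LD2_c14 LD3_c39)) :=
  Lre_c IH (LK LD1_c13 LD2_c42 LD3_c18) (LK LD1_c7 LD2_c14 LD3_c39) Lrfl Lrfl
theorem f486363 : Led Lsl_ft (LP (LK LD1_c7 LD2_c14 LD3_c4)) = (LP (LK LD1_c13 LD2_c39 LD3_c41)) :=
  Lgr Lrot48 (Lpr_ff (f486359 IH) (Lpn (LP (LK LD1_c13 LD2_c39 LD3_c41))))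
theorem f486383 : Led Lsl_af (LP (LK LD1_c7 LD2_c14 LD3_c39)) = (LP (LK LD1_c13 LD2_c39 LD3_c41)) :=
  Lgr Lrot31 (Lpe (f467446 IH) (Lpr_gf (f485050 IH) (Lpr_ft (f486363 IH) (Lpn (LP (LK LD1_c13 LD2_c39 LD3_c41))))))
theorem f486389 : Led Lsl_ft (LP (LK LD1_c7 LD2_c14 LD3_c39)) = (LP (LK LD1_c7 LD2_c7 LD3_c48)) :=
  Lgr Lrot101 (Lpr_af (f486383 IH) (Lpe (f486363 IH) (Lpe (f162541 IH) (Lpn (LP (LK LD1_c7 LD2_c7 LD3_c48))))))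
theorem f486396 : Led Lsl_ff (LP (LK LD1_c7 LD2_c14 LD3_c39)) = (LP (LK LD1_c7 LD2_c7 LD3_c48)) :=
  Lgr Lrot3 (Lpr_ft (f486389 IH) (Lpn (LP (LK LD1_c7 LD2_c7 LD3_c48))))
theorem f467609 : Led Lsl_ct (LP (LK LD1_c7 LD2_c14 LD3_c39)) = (LP (LK LD1_c13 LD2_c42 LD3_c18)) :=
  Lre_c IH (LK LD1_c7 LD2_c14 LD3_c39) (LK LD1_c13 LD2_c42 LD3_c18) Lrfl Lrfl
theorem f486398 : Led Lsl_ft (LP (LK LD1_c13 LD2_c42 LD3_c18)) = (LP (LK LD1_c13 LD2_c30 LD3_c19)) :=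
  Lgr Lrot4 (Lpe (f467609 IH) (Lpr_ff (f486396 IH) (Lpe (f162545 IH) (Lpn (LP (LK LD1_c13 LD2_c30 LD3_c19))))))
theorem f88552 : Led Lsl_gt (LP (LK LD1_c1 LD2_c50 LD3_c39)) = (LP (LK LD1_c3 LD2_c47 LD3_c4)) :=
  Lre_g IH (LK LD1_c1 LD2_c50 LD3_c39) (LK LD1_c3 LD2_c47 LD3_c4) Lrfl Lrfl
theorem f89132 : Led Lsl_et (LP (LK LD1_c0 LD2_c51 LD3_c55)) = (LP (LK LD1_c0 LD2_c23 LD3_c27)) :=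
  Lre_e IH (LK LD1_c0 LD2_c51 LD3_c55) (LK LD1_c0 LD2_c23 LD3_c27) Lrfl Lrfl
theorem f89133 : Led Lsl_ef (LP (LK LD1_c3 LD2_c47 LD3_c4)) = (LP (LK LD1_c7 LD2_c33 LD3_c27)) :=
  Lgr Lrot17 (Lpe (f88552 IH) (Lpe (f87925 IH) (Lpr_dt (K2.f63722 IH) (Lpr_gf (K3.f88648 IH) (Lpe (K3.f88436 IH) (Lpe (K2.f65953 IH) (Lpe (f89132 IH) (Lpr_dt (K29.f85265 IH) (Lpe (K29.f85273 IH) (Lpe (K29.f85274 IH) (Lpn (LP (LK LD1_c7 LD2_c33 LD3_c27)))))))))))))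
theorem f89141 : Led Lsl_et (LP (LK LD1_c3 LD2_c47 LD3_c4)) = (LP (LK LD1_c7 LD2_c33 LD3_c27)) :=
  Lgr Lrot87 (Lpr_ef (f89133 IH) (Lpn (LP (LK LD1_c7 LD2_c33 LD3_c27))))
theorem f483331 : Led Lsl_cf (LP (LK LD1_c3 LD2_c47 LD3_c4)) = (LP (LK LD1_c3 LD2_c50 LD3_c11)) :=
  Lgr Lrot39 (Lpr_et (f89141 IH) (Lpr_ct (K29.f483026 IH) (Lpr_et (f94632 IH) (Lpn (LP (LK LD1_c3 LD2_c50 LD3_c11))))))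
theorem f486131 : Led Lsl_ct (LP (LK LD1_c3 LD2_c47 LD3_c4)) = (LP (LK LD1_c3 LD2_c50 LD3_c11)) :=
  Lgr Lrot59 (Lpr_cf (f483331 IH) (Lpn (LP (LK LD1_c3 LD2_c50 LD3_c11))))
theorem f89135 : Led Lsl_bt (LP (LK LD1_c3 LD2_c47 LD3_c4)) = (LP (LK LD1_c7 LD2_c34 LD3_c61)) :=
  Lre_b IH (LK LD1_c3 LD2_c47 LD3_c4) (LK LD1_c7 LD2_c34 LD3_c61) Lrfl Lrfl
theorem f486133 : Led Lsl_gt (LP (LK LD1_c7 LD2_c34 LD3_c61)) = (LP (LK LD1_c6 LD2_c55 LD3_c28)) :=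
  Lgr Lrot82 (Lpe (f89135 IH) (Lpr_ct (f486131 IH) (Lpe (f84944 IH) (Lpe (f84956 IH) (Lpr_bt (f84938 IH) (Lpe (f96464 IH) (Lpe (f117332 IH) (Lpr_ct (f117333 IH) (Lpe (f485345 IH) (Lpe (f480891 IH) (Lpn (LP (LK LD1_c6 LD2_c55 LD3_c28)))))))))))))
theorem f480810 : Led Lsl_cf (LP (LK LD1_c6 LD2_c55 LD3_c28)) = (LP (LK LD1_c7 LD2_c52 LD3_c34)) :=
  Lgr Lrot97 (Lpr_bt (f439092 IH) (Lpr_ct (f136649 IH) (Lpr_bt (f439093 IH) (Lpr_ct (K29.f480805 IH) (Lpr_bt (f480809 IH) (Lpn (LP (LK LD1_c7 LD2_c52 LD3_c34))))))))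
theorem f463661 : Led Lsl_et (LP (LK LD1_c0 LD2_c53 LD3_c43)) = (LP (LK LD1_c1 LD2_c54 LD3_c19)) :=
  Lre_e IH (LK LD1_c0 LD2_c53 LD3_c43) (LK LD1_c1 LD2_c54 LD3_c19) Lrfl Lrfl
theorem f479823 : Led Lsl_et (LP (LK LD1_c3 LD2_c52 LD3_c43)) = (LP (LK LD1_c1 LD2_c54 LD3_c17)) :=
  Lgr Lrot74 (Lpr_bf (K32.f479816 IH) (Lpe (f463661 IH) (Lpe (K29.f437651 IH) (Lpn (LP (LK LD1_c1 LD2_c54 LD3_c17))))))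
theorem f120849 : Led Lsl_df (LP (LK LD1_c1 LD2_c39 LD3_c12)) = (LP (LK LD1_c1 LD2_c48 LD3_c10)) :=
  Lgr Lrot84 (Lpe (K2.f84681 IH) (Lpr_df (K3.f66633 IH) (Lpe (K1.f23366 IH) (Lpe (K2.f14637 IH) (Lpr_gf (K0.f11883 IH) (Lpe (K0.f5720 IH) (Lpr_gt (K4.f120843 IH) (Lpr_dt (K4.f120847 IH) (Lpr_gt (K4.f120848 IH) (Lpn (LP (LK LD1_c1 LD2_c48 LD3_c10))))))))))))
theorem f120943 : Led Lsl_et (LP (LK LD1_c1 LD2_c48 LD3_c10)) = (LP (LK LD1_c3 LD2_c42 LD3_c25)) :=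
  Lre_e IH (LK LD1_c1 LD2_c48 LD3_c10) (LK LD1_c3 LD2_c42 LD3_c25) Lrfl Lrfl
theorem f480544 : Led Lsl_gf (LP (LK LD1_c3 LD2_c42 LD3_c25)) = (LP (LK LD1_c1 LD2_c54 LD3_c17)) :=
  Lgr Lrot141 (Lpe (f120943 IH) (Lpe (f120849 IH) (Lpe (K2.f84679 IH) (Lpe (K1.f17659 IH) (Lpr_et (K3.f17689 IH) (Lpr_gt (K29.f468324 IH) (Lpr_dt (K29.f457635 IH) (Lpr_gt (K29.f87989 IH) (Lpr_df (K32.f479432 IH) (Lpr_et (f479823 IH) (Lpn (LP (LK LD1_c1 LD2_c54 LD3_c17)))))))))))))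
theorem f480820 : Led Lsl_gf (LP (LK LD1_c1 LD2_c54 LD3_c18)) = (LP (LK LD1_c3 LD2_c55 LD3_c22)) :=
  Lgr Lrot129 (Lpe (K32.f437650 IH) (Lpr_bt (K29.f463684 IH) (Lpe (f480544 IH) (Lpe (K29.f440578 IH) (Lpe (K29.f97025 IH) (Lpe (K29.f478142 IH) (Lpe (K29.f6644 IH) (Lpr_bt (K29.f456854 IH) (Lpe (f480727 IH) (Lpr_ct (K29.f480805 IH) (Lpn (LP (LK LD1_c3 LD2_c55 LD3_c22)))))))))))))
theorem f122792 : Led Lsl_bt (LP (LK LD1_c3 LD2_c54 LD3_c19)) = (LP (LK LD1_c1 LD2_c53 LD3_c46)) :=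
  Lre_b IH (LK LD1_c3 LD2_c54 LD3_c19) (LK LD1_c1 LD2_c53 LD3_c46) Lrfl Lrfl
theorem f486137 : Led Lsl_cf (LP (LK LD1_c7 LD2_c34 LD3_c61)) = (LP (LK LD1_c3 LD2_c54 LD3_c19)) :=
  Lgr Lrot160 (Lpr_gt (f486133 IH) (Lpr_cf (f480810 IH) (Lpr_bt (f456640 IH) (Lpe (f480820 IH) (Lpr_ct (K29.f122791 IH) (Lpr_gt (K29.f84791 IH) (Lpe (K29.f122785 IH) (Lpr_bt (K6.f122756 IH) (Lpr_gt (K29.f122781 IH) (Lpe (f122792 IH) (Lpn (LP (LK LD1_c3 LD2_c54 LD3_c19)))))))))))))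
theorem f486147 : Led Lsl_gt (LP (LK LD1_c7 LD2_c49 LD3_c43)) = (LP (LK LD1_c3 LD2_c54 LD3_c19)) :=
  Lgr Lrot82 (Lpe (f144994 IH) (Lpe (K8.f144957 IH) (Lpr_gf (f481824 IH) (Lpr_cf (K32.f477123 IH) (Lpr_bt (K29.f463683 IH) (Lpr_gf (f480820 IH) (Lpe (f456640 IH) (Lpe (f480810 IH) (Lpe (f486133 IH) (Lpr_cf (f486137 IH) (Lpn (LP (LK LD1_c3 LD2_c54 LD3_c19)))))))))))))
theorem f148228 : Led Lsl_gt (LP (LK LD1_c3 LD2_c54 LD3_c19)) = (LP (LK LD1_c7 LD2_c50 LD3_c14)) :=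
  Lre_g IH (LK LD1_c3 LD2_c54 LD3_c19) (LK LD1_c7 LD2_c50 LD3_c14) Lrfl Lrfl
theorem f486149 : Led Lsl_at (LP (LK LD1_c14 LD2_c24 LD3_c41)) = (LP (LK LD1_c7 LD2_c50 LD3_c14)) :=
  Lgr Lrot26 (Lpr_ff (f485029 IH) (Lpr_gt (f486147 IH) (Lpr_gt (f148228 IH) (Lpn (LP (LK LD1_c7 LD2_c50 LD3_c14))))))
theorem f486162 : Led Lsl_ff (LP (LK LD1_c7 LD2_c51 LD3_c34)) = (LP (LK LD1_c7 LD2_c50 LD3_c14)) :=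
  Lgr Lrot30 (Lpr_at (f161980 IH) (Lpe (f485029 IH) (Lpr_at (f486149 IH) (Lpn (LP (LK LD1_c7 LD2_c50 LD3_c14))))))
theorem f486164 : Led Lsl_ct (LP (LK LD1_c14 LD2_c47 LD3_c0)) = (LP (LK LD1_c7 LD2_c50 LD3_c14)) :=
  Lre_c IH (LK LD1_c14 LD2_c47 LD3_c0) (LK LD1_c7 LD2_c50 LD3_c14) Lrfl Lrfl
theorem f486167 : Led Lsl_ft (LP (LK LD1_c14 LD2_c19 LD3_c21)) = (LP (LK LD1_c14 LD2_c47 LD3_c0)) :=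
  Lgr Lrot4 (Lpe (f425716 IH) (Lpr_ff (f486162 IH) (Lpe (f486164 IH) (Lpn (LP (LK LD1_c14 LD2_c47 LD3_c0))))))
theorem f486406 : Led Lsl_bf (LP (LK LD1_c13 LD2_c42 LD3_c18)) = (LP (LK LD1_c14 LD2_c47 LD3_c0)) :=
  Lgr Lrot61 (Lpr_ft (f486398 IH) (Lpr_bt (f162555 IH) (Lpr_ft (f486167 IH) (Lpn (LP (LK LD1_c14 LD2_c47 LD3_c0))))))
theorem f486408 : Led Lsl_bt (LP (LK LD1_c13 LD2_c42 LD3_c18)) = (LP (LK LD1_c14 LD2_c47 LD3_c0)) :=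
  Lgr Lrot127 (Lpr_bf (f486406 IH) (Lpn (LP (LK LD1_c14 LD2_c47 LD3_c0))))
theorem f486170 : Led Lsl_ft (LP (LK LD1_c7 LD2_c51 LD3_c34)) = (LP (LK LD1_c7 LD2_c50 LD3_c14)) :=
  Lgr Lrot48 (Lpr_ff (f486162 IH) (Lpn (LP (LK LD1_c7 LD2_c50 LD3_c14))))
theorem f425718 : Led Lsl_cf (LP (LK LD1_c7 LD2_c51 LD3_c34)) = (LP (LK LD1_c14 LD2_c19 LD3_c21)) :=
  Lgr Lrot11 (Lpr_ct (f425716 IH) (Lpn (LP (LK LD1_c14 LD2_c19 LD3_c21))))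
theorem f486157 : Led Lsl_ct (LP (LK LD1_c7 LD2_c50 LD3_c14)) = (LP (LK LD1_c14 LD2_c47 LD3_c0)) :=
  Lre_c IH (LK LD1_c7 LD2_c50 LD3_c14) (LK LD1_c14 LD2_c47 LD3_c0) Lrfl Lrfl
theorem f486176 : Led Lsl_ff (LP (LK LD1_c14 LD2_c19 LD3_c21)) = (LP (LK LD1_c14 LD2_c47 LD3_c0)) :=
  Lgr Lrot23 (Lpe (f425718 IH) (Lpr_ft (f486170 IH) (Lpr_ct (f486157 IH) (Lpn (LP (LK LD1_c14 LD2_c47 LD3_c0))))))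
theorem f162087 : Led Lsl_gt (LP (LK LD1_c14 LD2_c19 LD3_c24)) = (LP (LK LD1_c7 LD2_c35 LD3_c54)) :=
  Lre_g IH (LK LD1_c14 LD2_c19 LD3_c24) (LK LD1_c7 LD2_c35 LD3_c54) Lrfl Lrfl
theorem f486180 : Led Lsl_gf (LP (LK LD1_c14 LD2_c19 LD3_c24)) = (LP (LK LD1_c14 LD2_c47 LD3_c0)) :=
  Lgr Lrot47 (Lpr_gt (f162087 IH) (Lpe (f162088 IH) (Lpr_ff (f486176 IH) (Lpn (LP (LK LD1_c14 LD2_c47 LD3_c0))))))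
theorem f486766 : Led Lsl_bf (LP (LK LD1_c14 LD2_c19 LD3_c24)) = (LP (LK LD1_c13 LD2_c10 LD3_c31)) :=
  Lgr Lrot34 (Lpr_gf (f486180 IH) (Lpe (f486408 IH) (Lpr_ct (f476962 IH) (Lpe (f467446 IH) (Lpe (f476949 IH) (Lpe (f480764 IH) (Lpe (f89786 IH) (Lpr_ct (f129997 IH) (Lpe (f127332 IH) (Lpr_cf (f486761 IH) (Lpn (LP (LK LD1_c13 LD2_c10 LD3_c31)))))))))))))
theorem f136661 : Led Lsl_bt (LP (LK LD1_c3 LD2_c26 LD3_c50)) = (LP (LK LD1_c1 LD2_c40 LD3_c4)) :=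
  Lre_b IH (LK LD1_c3 LD2_c26 LD3_c50) (LK LD1_c1 LD2_c40 LD3_c4) Lrfl Lrfl
theorem f476955 : Led Lsl_ct (LP (LK LD1_c3 LD2_c26 LD3_c50)) = (LP (LK LD1_c6 LD2_c55 LD3_c14)) :=
  Lre_c IH (LK LD1_c3 LD2_c26 LD3_c50) (LK LD1_c6 LD2_c55 LD3_c14) Lrfl Lrfl
theorem f476956 : Led Lsl_gt (LP (LK LD1_c13 LD2_c8 LD3_c54)) = (LP (LK LD1_c6 LD2_c55 LD3_c14)) :=
  Lre_g IH (LK LD1_c13 LD2_c8 LD3_c54) (LK LD1_c6 LD2_c55 LD3_c14) Lrfl Lrfl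
theorem f486410 : Led Lsl_cf (LP (LK LD1_c13 LD2_c8 LD3_c54)) = (LP (LK LD1_c14 LD2_c19 LD3_c24)) :=
  Lgr Lrot125 (Lpr_gt (f476956 IH) (Lpe (f476955 IH) (Lpr_bt (f136661 IH) (Lpr_gt (K29.f95076 IH) (Lpe (f476944 IH) (Lpr_ct (f476949 IH) (Lpr_gt (f467446 IH) (Lpe (f476962 IH) (Lpr_bt (f486408 IH) (Lpe (f486180 IH) (Lpn (LP (LK LD1_c14 LD2_c19 LD3_c24)))))))))))))
theorem f486412 : Led Lsl_ct (LP (LK LD1_c13 LD2_c8 LD3_c54)) = (LP (LK LD1_c14 LD2_c19 LD3_c24)) :=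
  Lgr Lrot59 (Lpr_cf (f486410 IH) (Lpn (LP (LK LD1_c14 LD2_c19 LD3_c24))))
theorem f485092 : Led Lsl_ft (LP (LK LD1_c14 LD2_c29 LD3_c27)) = (LP (LK LD1_c14 LD2_c49 LD3_c43)) :=
  Lgr Lrot4 (Lpr_cf (f485088 IH) (Lpe (f481830 IH) (Lpe (f132139 IH) (Lpn (LP (LK LD1_c14 LD2_c49 LD3_c43))))))
theorem f485100 : Led Lsl_af (LP (LK LD1_c14 LD2_c29 LD3_c27)) = (LP (LK LD1_c24 LD2_c3 LD3_c45)) :=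
  Lgr Lrot45 (Lpr_ft (f485092 IH) (Lpr_at (K8.f162066 IH) (Lpe (f485023 IH) (Lpn (LP (LK LD1_c24 LD2_c3 LD3_c45))))))
theorem f485106 : Led Lsl_gf (LP (LK LD1_c7 LD2_c41 LD3_c17)) = (LP (LK LD1_c14 LD2_c28 LD3_c37)) :=
  Lgr Lrot47 (Lpr_gt (f484350 IH) (Lpr_af (f485100 IH) (Lpr_ff (f485023 IH) (Lpn (LP (LK LD1_c14 LD2_c28 LD3_c37))))))
theorem f486420 : Led Lsl_bt (LP (LK LD1_c13 LD2_c8 LD3_c54)) = (LP (LK LD1_c14 LD2_c1 LD3_c47)) :=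
  Lgr Lrot92 (Lpr_ct (f486412 IH) (Lpr_gt (f162087 IH) (Lpr_cf (f126486 IH) (Lpr_bt (f162082 IH) (Lpe (f485106 IH) (Lpr_ct (f96467 IH) (Lpr_gt (f117334 IH) (Lpe (K8.f142582 IH) (Lpe (f485303 IH) (Lpr_gt (f485307 IH) (Lpn (LP (LK LD1_c14 LD2_c1 LD3_c47)))))))))))))
theorem f130001 : Led Lsl_bt (LP (LK LD1_c21 LD2_c40 LD3_c12)) = (LP (LK LD1_c12 LD2_c33 LD3_c61)) :=
  Lre_b IH (LK LD1_c21 LD2_c40 LD3_c12) (LK LD1_c12 LD2_c33 LD3_c61) Lrfl Lrfl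
theorem f486820 : Led Lsl_ct (LP (LK LD1_c14 LD2_c1 LD3_c47)) = (LP (LK LD1_c21 LD2_c40 LD3_c12)) :=
  Lgr Lrot83 (Lpe (f486420 IH) (Lpr_cf (f486410 IH) (Lpr_bf (f486766 IH) (Lpe (f482336 IH) (Lpe (f130001 IH) (Lpn (LP (LK LD1_c21 LD2_c40 LD3_c12))))))))
theorem f488868 : Led Lsl_gf (LP (LK LD1_c14 LD2_c10 LD3_c13)) = (LP (LK LD1_c21 LD2_c40 LD3_c12)) :=
  Lgr Lrot129 (Lpe (f129568 IH) (Lpr_bt (f123460 IH) (Lpr_gt (f488864 IH) (Lpe (f485117 IH) (Lpr_ct (f96467 IH) (Lpr_gt (f117334 IH) (Lpe (K8.f142582 IH) (Lpe (f485303 IH) (Lpr_gt (f485307 IH) (Lpr_ct (f486820 IH) (Lpn (LP (LK LD1_c21 LD2_c40 LD3_c12)))))))))))))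
theorem f486422 : Led Lsl_bf (LP (LK LD1_c13 LD2_c8 LD3_c54)) = (LP (LK LD1_c14 LD2_c1 LD3_c47)) :=
  Lgr Lrot24 (Lpr_bt (f486420 IH) (Lpn (LP (LK LD1_c14 LD2_c1 LD3_c47))))
theorem f477014 : Led Lsl_bt (LP (LK LD1_c1 LD2_c54 LD3_c11)) = (LP (LK LD1_c3 LD2_c55 LD3_c13)) :=
  Lre_b IH (LK LD1_c1 LD2_c54 LD3_c11) (LK LD1_c3 LD2_c55 LD3_c13) Lrfl Lrfl
theorem f477022 : Led Lsl_gt (LP (LK LD1_c3 LD2_c55 LD3_c13)) = (LP (LK LD1_c7 LD2_c52 LD3_c13)) :=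
  Lre_g IH (LK LD1_c3 LD2_c55 LD3_c13) (LK LD1_c7 LD2_c52 LD3_c13) Lrfl Lrfl
theorem f477054 : Led Lsl_ct (LP (LK LD1_c7 LD2_c52 LD3_c13)) = (LP (LK LD1_c14 LD2_c50 LD3_c49)) :=
  Lre_c IH (LK LD1_c7 LD2_c52 LD3_c13) (LK LD1_c14 LD2_c50 LD3_c49) Lrfl Lrfl
theorem f486826 : Led Lsl_gt (LP (LK LD1_c14 LD2_c50 LD3_c49)) = (LP (LK LD1_c21 LD2_c40 LD3_c12)) :=
  Lgr Lrot149 (Lpe (f477054 IH) (Lpe (f477022 IH) (Lpe (f477014 IH) (Lpe (K29.f477015 IH) (Lpe (K29.f91712 IH) (Lpe (K29.f132190 IH) (Lpr_bt (f132196 IH) (Lpe (f476956 IH) (Lpr_bf (f486422 IH) (Lpr_ct (f486820 IH) (Lpn (LP (LK LD1_c21 LD2_c40 LD3_c12)))))))))))))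
theorem f488870 : Led Lsl_ff (LP (LK LD1_c14 LD2_c46 LD3_c5)) = (LP (LK LD1_c14 LD2_c50 LD3_c49)) :=
  Lgr Lrot52 (Lpe (f162282 IH) (Lpr_gf (f488868 IH) (Lpe (f486826 IH) (Lpn (LP (LK LD1_c14 LD2_c50 LD3_c49))))))
theorem f488878 : Led Lsl_ft (LP (LK LD1_c14 LD2_c46 LD3_c5)) = (LP (LK LD1_c14 LD2_c50 LD3_c49)) :=
  Lgr Lrot48 (Lpr_ff (f488870 IH) (Lpn (LP (LK LD1_c14 LD2_c50 LD3_c49))))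
theorem f129412 : Led Lsl_et (LP (LK LD1_c7 LD2_c49 LD3_c41)) = (LP (LK LD1_c14 LD2_c46 LD3_c5)) :=
  Lre_e IH (LK LD1_c7 LD2_c49 LD3_c41) (LK LD1_c14 LD2_c46 LD3_c5) Lrfl Lrfl
theorem f162013 : Led Lsl_et (LP (LK LD1_c14 LD2_c19 LD3_c21)) = (LP (LK LD1_c7 LD2_c35 LD3_c52)) :=
  Lre_e IH (LK LD1_c14 LD2_c19 LD3_c21) (LK LD1_c7 LD2_c35 LD3_c52) Lrfl Lrfl
theorem f488884 : Led Lsl_ef (LP (LK LD1_c14 LD2_c47 LD3_c0)) = (LP (LK LD1_c14 LD2_c50 LD3_c49)) :=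
  Lgr Lrot21 (Lpe (f486176 IH) (Lpr_et (f162013 IH) (Lpr_ft (K8.f162010 IH) (Lpr_et (f129412 IH) (Lpr_ft (f488878 IH) (Lpn (LP (LK LD1_c14 LD2_c50 LD3_c49))))))))
theorem f123513 : Led Lsl_cf (LP (LK LD1_c7 LD2_c25 LD3_c2)) = (LP (LK LD1_c3 LD2_c55 LD3_c47)) :=
  Lgr Lrot11 (Lpr_ct (K5.f122702 IH) (Lpn (LP (LK LD1_c3 LD2_c55 LD3_c47))))
theorem f482334 : Led Lsl_ct (LP (LK LD1_c21 LD2_c40 LD3_c12)) = (LP (LK LD1_c14 LD2_c1 LD3_c47)) :=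
  Lgr Lrot64 (Lpr_bt (f130001 IH) (Lpr_gf (f467359 IH) (Lpe (f467226 IH) (Lpe (f467229 IH) (Lpe (K28.f124895 IH) (Lpr_cf (K29.f482320 IH) (Lpe (K29.f121975 IH) (Lpe (K29.f123508 IH) (Lpe (f123513 IH) (Lpe (f123517 IH) (Lpn (LP (LK LD1_c14 LD2_c1 LD3_c47)))))))))))))
theorem f467222 : Led Lsl_gt (LP (LK LD1_c3 LD2_c33 LD3_c49)) = (LP (LK LD1_c7 LD2_c8 LD3_c31)) :=
  Lre_g IH (LK LD1_c3 LD2_c33 LD3_c49) (LK LD1_c7 LD2_c8 LD3_c31) Lrfl Lrfl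
theorem f478008 : Led Lsl_ct (LP (LK LD1_c13 LD2_c31 LD3_c33)) = (LP (LK LD1_c7 LD2_c8 LD3_c31)) :=
  Lre_c IH (LK LD1_c13 LD2_c31 LD3_c33) (LK LD1_c7 LD2_c8 LD3_c31) Lrfl Lrfl
theorem f486829 : Led Lsl_bf (LP (LK LD1_c14 LD2_c50 LD3_c49)) = (LP (LK LD1_c13 LD2_c31 LD3_c33)) :=
  Lgr Lrot165 (Lpr_gt (f486826 IH) (Lpr_ct (f482334 IH) (Lpr_gt (f123517 IH) (Lpr_cf (f123513 IH) (Lpr_bt (K29.f123508 IH) (Lpr_gt (K29.f121975 IH) (Lpe (f482330 IH) (Lpr_ct (K29.f466682 IH) (Lpr_gt (f467222 IH) (Lpe (f478008 IH) (Lpn (LP (LK LD1_c13 LD2_c31 LD3_c33)))))))))))))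
theorem f488886 : Led Lsl_et (LP (LK LD1_c13 LD2_c42 LD3_c18)) = (LP (LK LD1_c13 LD2_c31 LD3_c33)) :=
  Lgr Lrot74 (Lpr_bf (f486406 IH) (Lpr_ef (f488884 IH) (Lpr_bf (f486829 IH) (Lpn (LP (LK LD1_c13 LD2_c31 LD3_c33))))))
theorem f488894 : Led Lsl_ef (LP (LK LD1_c13 LD2_c42 LD3_c18)) = (LP (LK LD1_c13 LD2_c31 LD3_c33)) :=
  Lgr Lrot88 (Lpr_et (f488886 IH) (Lpn (LP (LK LD1_c13 LD2_c31 LD3_c33))))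
theorem f467223 : Led Lsl_ct (LP (LK LD1_c7 LD2_c8 LD3_c31)) = (LP (LK LD1_c13 LD2_c31 LD3_c33)) :=
  Lre_c IH (LK LD1_c7 LD2_c8 LD3_c31) (LK LD1_c13 LD2_c31 LD3_c33) Lrfl Lrfl
theorem f488896 : Led Lsl_et (LP (LK LD1_c7 LD2_c14 LD3_c39)) = (LP (LK LD1_c7 LD2_c8 LD3_c31)) :=
  Lgr Lrot158 (Lpe (f476962 IH) (Lpr_ef (f488894 IH) (Lpe (f467223 IH) (Lpn (LP (LK LD1_c7 LD2_c8 LD3_c31))))))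
theorem f96865 : Led Lsl_ct (LP (LK LD1_c3 LD2_c33 LD3_c26)) = (LP (LK LD1_c7 LD2_c7 LD3_c47)) :=
  Lre_c IH (LK LD1_c3 LD2_c33 LD3_c26) (LK LD1_c7 LD2_c7 LD3_c47) Lrfl Lrfl
theorem f162495 : Led Lsl_ff (LP (LK LD1_c3 LD2_c33 LD3_c26)) = (LP (LK LD1_c3 LD2_c36 LD3_c54)) :=
  Lgr Lrot23 (Lpr_ct (f96865 IH) (Lpr_ft (f162488 IH) (Lpr_ct (K6.f96613 IH) (Lpn (LP (LK LD1_c3 LD2_c36 LD3_c54))))))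
theorem f488903 : Led Lsl_ff (LP (LK LD1_c7 LD2_c14 LD3_c1)) = (LP (LK LD1_c7 LD2_c8 LD3_c31)) :=
  Lgr Lrot72 (Lpr_et (K8.f155689 IH) (Lpe (f162495 IH) (Lpr_et (f162540 IH) (Lpe (f486396 IH) (Lpr_et (f488896 IH) (Lpn (LP (LK LD1_c7 LD2_c8 LD3_c31))))))))
theorem f488837 : Led Lsl_ft (LP (LK LD1_c7 LD2_c7 LD3_c50)) = (LP (LK LD1_c13 LD2_c28 LD3_c18)) :=
  Lgr Lrot48 (Lpr_ff (f488818 IH) (Lpn (LP (LK LD1_c13 LD2_c28 LD3_c18))))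
theorem f488907 : Led Lsl_at (LP (LK LD1_c13 LD2_c28 LD3_c18)) = (LP (LK LD1_c7 LD2_c8 LD3_c31)) :=
  Lgr Lrot66 (Lpe (f488837 IH) (Lpe (K8.f162206 IH) (Lpr_ff (f488903 IH) (Lpn (LP (LK LD1_c7 LD2_c8 LD3_c31))))))
theorem f488934 : Led Lsl_gt (LP (LK LD1_c7 LD2_c7 LD3_c50)) = (LP (LK LD1_c3 LD2_c33 LD3_c49)) :=
  Lgr Lrot5 (Lpr_ft (f488837 IH) (Lpr_at (f488907 IH) (Lpe (f467222 IH) (Lpn (LP (LK LD1_c3 LD2_c33 LD3_c49))))))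
theorem f96811 : Led Lsl_gt (LP (LK LD1_c14 LD2_c19 LD3_c38)) = (LP (LK LD1_c7 LD2_c35 LD3_c61)) :=
  Lre_g IH (LK LD1_c14 LD2_c19 LD3_c38) (LK LD1_c7 LD2_c35 LD3_c61) Lrfl Lrfl
theorem f15125 : Led Lsl_gt (LP (LK LD1_c7 LD2_c35 LD3_c28)) = (LP (LK LD1_c14 LD2_c18 LD3_c35)) :=
  Lre_g IH (LK LD1_c7 LD2_c35 LD3_c28) (LK LD1_c14 LD2_c18 LD3_c35) Lrfl Lrfl
theorem f484825 : Led Lsl_af (LP (LK LD1_c6 LD2_c55 LD3_c28)) = (LP (LK LD1_c7 LD2_c38 LD3_c45)) :=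
  Lgr Lrot68 (Lpr_ct (f480891 IH) (Lpr_at (f484813 IH) (Lpr_ct (f484808 IH) (Lpn (LP (LK LD1_c7 LD2_c38 LD3_c45))))))
theorem f136549 : Led Lsl_ct (LP (LK LD1_c13 LD2_c8 LD3_c50)) = (LP (LK LD1_c6 LD2_c55 LD3_c23)) :=
  Lre_c IH (LK LD1_c13 LD2_c8 LD3_c50) (LK LD1_c6 LD2_c55 LD3_c23) Lrfl Lrfl
theorem f484821 : Led Lsl_ct (LP (LK LD1_c7 LD2_c38 LD3_c45)) = (LP (LK LD1_c14 LD2_c24 LD3_c37)) :=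
  Lre_c IH (LK LD1_c7 LD2_c38 LD3_c45) (LK LD1_c14 LD2_c24 LD3_c37) Lrfl Lrfl
theorem f484833 : Led Lsl_ft (LP (LK LD1_c6 LD2_c55 LD3_c23)) = (LP (LK LD1_c7 LD2_c38 LD3_c45)) :=
  Lgr Lrot4 (Lpe (f136549 IH) (Lpr_ff (f484829 IH) (Lpe (f484821 IH) (Lpn (LP (LK LD1_c7 LD2_c38 LD3_c45))))))
theorem f486135 : Led Lsl_gf (LP (LK LD1_c7 LD2_c34 LD3_c61)) = (LP (LK LD1_c6 LD2_c55 LD3_c23)) :=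
  Lgr Lrot47 (Lpr_gt (f486133 IH) (Lpr_af (f484825 IH) (Lpe (f484833 IH) (Lpn (LP (LK LD1_c6 LD2_c55 LD3_c23))))))
theorem f136546 : Led Lsl_bt (LP (LK LD1_c7 LD2_c41 LD3_c60)) = (LP (LK LD1_c6 LD2_c55 LD3_c23)) :=
  Lgr Lrot127 (Lpr_bf (K8.f136535 IH) (Lpn (LP (LK LD1_c6 LD2_c55 LD3_c23))))
theorem f136548 : Led Lsl_ct (LP (LK LD1_c7 LD2_c41 LD3_c60)) = (LP (LK LD1_c3 LD2_c50 LD3_c28)) :=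
  Lre_c IH (LK LD1_c7 LD2_c41 LD3_c60) (LK LD1_c3 LD2_c50 LD3_c28) Lrfl Lrfl
theorem f136667 : Led Lsl_gt (LP (LK LD1_c7 LD2_c42 LD3_c0)) = (LP (LK LD1_c3 LD2_c50 LD3_c28)) :=
  Lre_g IH (LK LD1_c7 LD2_c42 LD3_c0) (LK LD1_c3 LD2_c50 LD3_c28) Lrfl Lrfl
theorem f486220 : Led Lsl_ct (LP (LK LD1_c14 LD2_c18 LD3_c35)) = (LP (LK LD1_c7 LD2_c42 LD3_c0)) :=
  Lgr Lrot91 (Lpe (f15125 IH) (Lpe (K4.f15120 IH) (Lpe (K4.f15123 IH) (Lpe (f132068 IH) (Lpe (f486131 IH) (Lpr_bt (f89135 IH) (Lpr_gf (f486135 IH) (Lpe (f136546 IH) (Lpr_ct (f136548 IH) (Lpe (f136667 IH) (Lpn (LP (LK LD1_c7 LD2_c42 LD3_c0)))))))))))))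
theorem f486232 : Led Lsl_cf (LP (LK LD1_c14 LD2_c18 LD3_c35)) = (LP (LK LD1_c7 LD2_c42 LD3_c0)) :=
  Lgr Lrot11 (Lpr_ct (f486220 IH) (Lpn (LP (LK LD1_c7 LD2_c42 LD3_c0))))
theorem f488943 : Led Lsl_bf (LP (LK LD1_c14 LD2_c19 LD3_c38)) = (LP (LK LD1_c7 LD2_c42 LD3_c0)) :=
  Lgr Lrot165 (Lpr_gt (f96811 IH) (Lpe (K28.f96793 IH) (Lpr_gt (f488934 IH) (Lpe (K29.f466682 IH) (Lpr_bt (f482330 IH) (Lpr_gt (f484328 IH) (Lpe (K29.f15119 IH) (Lpr_ct (K4.f15130 IH) (Lpr_gt (f15125 IH) (Lpr_cf (f486232 IH) (Lpn (LP (LK LD1_c7 LD2_c42 LD3_c0)))))))))))))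
theorem f15232 : Led Lsl_gt (LP (LK LD1_c14 LD2_c18 LD3_c35)) = (LP (LK LD1_c7 LD2_c35 LD3_c24)) :=
  Lre_g IH (LK LD1_c14 LD2_c18 LD3_c35) (LK LD1_c7 LD2_c35 LD3_c24) Lrfl Lrfl
theorem f15157 : Led Lsl_at (LP (LK LD1_c3 LD2_c26 LD3_c30)) = (LP (LK LD1_c6 LD2_c54 LD3_c48)) :=
  Lre_a IH (LK LD1_c3 LD2_c26 LD3_c30) (LK LD1_c6 LD2_c54 LD3_c48) Lrfl Lrfl
theorem f15158 : Led Lsl_at (LP (LK LD1_c7 LD2_c35 LD3_c24)) = (LP (LK LD1_c3 LD2_c47 LD3_c18)) :=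
  Lre_a IH (LK LD1_c7 LD2_c35 LD3_c24) (LK LD1_c3 LD2_c47 LD3_c18) Lrfl Lrfl
theorem f15159 : Led Lsl_ct (LP (LK LD1_c6 LD2_c54 LD3_c48)) = (LP (LK LD1_c7 LD2_c35 LD3_c24)) :=
  Lgr Lrot111 (Lpe (f15157 IH) (Lpr_cf (K4.f15143 IH) (Lpe (f15158 IH) (Lpn (LP (LK LD1_c7 LD2_c35 LD3_c24))))))
theorem f477970 : Led Lsl_ff (LP (LK LD1_c7 LD2_c15 LD3_c8)) = (LP (LK LD1_c3 LD2_c49 LD3_c8)) :=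
  Lgr Lrot25 (Lpr_bt (K29.f477969 IH) (Lpr_ft (K29.f477960 IH) (Lpr_bt (K29.f96906 IH) (Lpn (LP (LK LD1_c3 LD2_c49 LD3_c8))))))
theorem f481117 : Led Lsl_at (LP (LK LD1_c7 LD2_c15 LD3_c8)) = (LP (LK LD1_c13 LD2_c43 LD3_c29)) :=
  Lre_a IH (LK LD1_c7 LD2_c15 LD3_c8) (LK LD1_c13 LD2_c43 LD3_c29) Lrfl Lrfl
theorem f157575 : Led Lsl_gt (LP (LK LD1_c3 LD2_c49 LD3_c8)) = (LP (LK LD1_c7 LD2_c39 LD3_c15)) :=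
  Lre_g IH (LK LD1_c3 LD2_c49 LD3_c8) (LK LD1_c7 LD2_c39 LD3_c15) Lrfl Lrfl
theorem f487818 : Led Lsl_gf (LP (LK LD1_c13 LD2_c43 LD3_c29)) = (LP (LK LD1_c7 LD2_c39 LD3_c15)) :=
  Lgr Lrot76 (Lpe (f481117 IH) (Lpr_ff (f477970 IH) (Lpr_gt (f157575 IH) (Lpn (LP (LK LD1_c7 LD2_c39 LD3_c15))))))
theorem f6612 : Led Lsl_ct (LP (LK LD1_c13 LD2_c28 LD3_c0)) = (LP (LK LD1_c7 LD2_c6 LD3_c26)) :=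
  Lre_c IH (LK LD1_c13 LD2_c28 LD3_c0) (LK LD1_c7 LD2_c6 LD3_c26) Lrfl Lrfl
theorem f487821 : Led Lsl_bt (LP (LK LD1_c13 LD2_c28 LD3_c0)) = (LP (LK LD1_c7 LD2_c39 LD3_c15)) :=
  Lgr Lrot130 (Lpr_ct (f6612 IH) (Lpe (f6609 IH) (Lpe (K29.f10632 IH) (Lpr_bt (K29.f6001 IH) (Lpe (K28.f10645 IH) (Lpe (f5996 IH) (Lpe (f481122 IH) (Lpe (f481120 IH) (Lpr_cf (f481115 IH) (Lpr_gf (f487818 IH) (Lpn (LP (LK LD1_c7 LD2_c39 LD3_c15)))))))))))))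
theorem f10646 : Led Lsl_ct (LP (LK LD1_c7 LD2_c12 LD3_c61)) = (LP (LK LD1_c7 LD2_c12 LD3_c61)) :=
  Lgr Lrot111 (Lpr_af (f5976 IH) (Lpr_cf (K29.f10638 IH) (Lpe (K29.f6346 IH) (Lpn (LP (LK LD1_c7 LD2_c12 LD3_c61))))))
theorem f10525 : Led Lsl_gt (LP (LK LD1_c3 LD2_c36 LD3_c22)) = (LP (LK LD1_c1 LD2_c45 LD3_c28)) :=
  Lre_g IH (LK LD1_c3 LD2_c36 LD3_c22) (LK LD1_c1 LD2_c45 LD3_c28) Lrfl Lrfl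
theorem f87132 : Led Lsl_gt (LP (LK LD1_c1 LD2_c51 LD3_c38)) = (LP (LK LD1_c0 LD2_c52 LD3_c38)) :=
  Lre_g IH (LK LD1_c1 LD2_c51 LD3_c38) (LK LD1_c0 LD2_c52 LD3_c38) Lrfl Lrfl
theorem f487828 : Led Lsl_ct (LP (LK LD1_c1 LD2_c45 LD3_c28)) = (LP (LK LD1_c1 LD2_c51 LD3_c38)) :=
  Lgr Lrot91 (Lpe (f10525 IH) (Lpe (f5973 IH) (Lpr_ct (f10646 IH) (Lpr_gf (f6610 IH) (Lpe (f6612 IH) (Lpr_bt (f487821 IH) (Lpe (f157575 IH) (Lpe (K29.f96906 IH) (Lpr_ct (K29.f98006 IH) (Lpe (f87132 IH) (Lpn (LP (LK LD1_c1 LD2_c51 LD3_c38)))))))))))))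
theorem f487830 : Led Lsl_cf (LP (LK LD1_c1 LD2_c45 LD3_c28)) = (LP (LK LD1_c1 LD2_c51 LD3_c38)) :=
  Lgr Lrot11 (Lpr_ct (f487828 IH) (Lpn (LP (LK LD1_c1 LD2_c51 LD3_c38))))
theorem f6023 : Led Lsl_gt (LP (LK LD1_c1 LD2_c45 LD3_c28)) = (LP (LK LD1_c0 LD2_c49 LD3_c24)) :=
  Lre_g IH (LK LD1_c1 LD2_c45 LD3_c28) (LK LD1_c0 LD2_c49 LD3_c24) Lrfl Lrfl
theorem f6005 : Led Lsl_bt (LP (LK LD1_c0 LD2_c22 LD3_c9)) = (LP (LK LD1_c0 LD2_c9 LD3_c61)) :=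
  Lre_b IH (LK LD1_c0 LD2_c22 LD3_c9) (LK LD1_c0 LD2_c9 LD3_c61) Lrfl Lrfl
theorem f487857 : Led Lsl_bf (LP (LK LD1_c1 LD2_c54 LD3_c2)) = (LP (LK LD1_c1 LD2_c51 LD3_c38)) :=
  Lgr Lrot34 (Lpe (f123364 IH) (Lpe (K6.f123363 IH) (Lpr_ct (K6.f122806 IH) (Lpr_gf (K24.f145389 IH) (Lpq (K24.f455968 IH) (Lpe (K24.f450896 IH) (Lpe (K24.f5921 IH) (Lpe (f6005 IH) (Lpr_ct (K29.f5907 IH) (Lpe (f6023 IH) (Lpr_cf (f487830 IH) (Lpn (LP (LK LD1_c1 LD2_c51 LD3_c38))))))))))))))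
theorem f487859 : Led Lsl_bt (LP (LK LD1_c1 LD2_c54 LD3_c2)) = (LP (LK LD1_c1 LD2_c51 LD3_c38)) :=
  Lgr Lrot127 (Lpr_bf (f487857 IH) (Lpn (LP (LK LD1_c1 LD2_c51 LD3_c38))))
theorem f132191 : Led Lsl_af (LP (LK LD1_c3 LD2_c26 LD3_c42)) = (LP (LK LD1_c3 LD2_c42 LD3_c12)) :=
  Lgr Lrot68 (Lpr_ct (K29.f132190 IH) (Lpr_at (K5.f132187 IH) (Lpr_ct (K29.f132183 IH) (Lpn (LP (LK LD1_c3 LD2_c42 LD3_c12))))))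
theorem f476761 : Led Lsl_gf (LP (LK LD1_c3 LD2_c54 LD3_c55)) = (LP (LK LD1_c7 LD2_c25 LD3_c6)) :=
  Lgr Lrot47 (Lpr_gt (f476759 IH) (Lpr_af (f132191 IH) (Lpe (K5.f132156 IH) (Lpn (LP (LK LD1_c7 LD2_c25 LD3_c6))))))
theorem f87835 : Led Lsl_gt (LP (LK LD1_c0 LD2_c52 LD3_c41)) = (LP (LK LD1_c1 LD2_c51 LD3_c47)) :=
  Lre_g IH (LK LD1_c0 LD2_c52 LD3_c41) (LK LD1_c1 LD2_c51 LD3_c47) Lrfl Lrfl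
theorem f459811 : Led Lsl_ct (LP (LK LD1_c3 LD2_c49 LD3_c35)) = (LP (LK LD1_c1 LD2_c51 LD3_c47)) :=
  Lre_c IH (LK LD1_c3 LD2_c49 LD3_c35) (LK LD1_c1 LD2_c51 LD3_c47) Lrfl Lrfl
theorem f487927 : Led Lsl_bf (LP (LK LD1_c3 LD2_c26 LD3_c43)) = (LP (LK LD1_c3 LD2_c49 LD3_c35)) :=
  Lgr Lrot165 (Lpr_gt (K29.f96988 IH) (Lpr_ct (K5.f132172 IH) (Lpe (f476761 IH) (Lpe (f123365 IH) (Lpr_bt (f487859 IH) (Lpr_gt (f87132 IH) (Lpe (K29.f89197 IH) (Lpr_ct (K2.f87959 IH) (Lpr_gt (f87835 IH) (Lpe (f459811 IH) (Lpn (LP (LK LD1_c3 LD2_c49 LD3_c35)))))))))))))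
theorem f459814 : Led Lsl_ct (LP (LK LD1_c1 LD2_c51 LD3_c47)) = (LP (LK LD1_c3 LD2_c49 LD3_c35)) :=
  Lre_c IH (LK LD1_c1 LD2_c51 LD3_c47) (LK LD1_c3 LD2_c49 LD3_c35) Lrfl Lrfl
theorem f487931 : Led Lsl_bt (LP (LK LD1_c3 LD2_c49 LD3_c34)) = (LP (LK LD1_c1 LD2_c51 LD3_c47)) :=
  Lre_b IH (LK LD1_c3 LD2_c49 LD3_c34) (LK LD1_c1 LD2_c51 LD3_c47) Lrfl Lrfl
theorem f487932 : Led Lsl_ct (LP (LK LD1_c3 LD2_c55 LD3_c13)) = (LP (LK LD1_c3 LD2_c49 LD3_c34)) :=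
  Lgr Lrot83 (Lpe (f477014 IH) (Lpe (K29.f477012 IH) (Lpr_bf (f487927 IH) (Lpe (f459814 IH) (Lpe (f487931 IH) (Lpn (LP (LK LD1_c3 LD2_c49 LD3_c34))))))))
theorem f123421 : Led Lsl_bt (LP (LK LD1_c3 LD2_c55 LD3_c13)) = (LP (LK LD1_c1 LD2_c54 LD3_c11)) :=
  Lre_b IH (LK LD1_c3 LD2_c55 LD3_c13) (LK LD1_c1 LD2_c54 LD3_c11) Lrfl Lrfl
theorem f487944 : Led Lsl_gt (LP (LK LD1_c7 LD2_c37 LD3_c55)) = (LP (LK LD1_c3 LD2_c49 LD3_c34)) :=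
  Lgr Lrot65 (Lpe (K5.f127965 IH) (Lpe (K8.f142541 IH) (Lpr_gf (K29.f481805 IH) (Lpe (K29.f122793 IH) (Lpr_ct (K29.f122791 IH) (Lpe (K29.f123192 IH) (Lpe (K29.f123191 IH) (Lpe (K29.f437638 IH) (Lpe (f123421 IH) (Lpr_ct (f487932 IH) (Lpn (LP (LK LD1_c3 LD2_c49 LD3_c34)))))))))))))
theorem f487938 : Led Lsl_cf (LP (LK LD1_c3 LD2_c55 LD3_c13)) = (LP (LK LD1_c3 LD2_c49 LD3_c34)) :=
  Lgr Lrot11 (Lpr_ct (f487932 IH) (Lpn (LP (LK LD1_c3 LD2_c49 LD3_c34))))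
theorem f486828 : Led Lsl_ct (LP (LK LD1_c14 LD2_c50 LD3_c49)) = (LP (LK LD1_c7 LD2_c52 LD3_c13)) :=
  Lre_c IH (LK LD1_c14 LD2_c50 LD3_c49) (LK LD1_c7 LD2_c52 LD3_c13) Lrfl Lrfl
theorem f486832 : Led Lsl_bt (LP (LK LD1_c14 LD2_c50 LD3_c49)) = (LP (LK LD1_c13 LD2_c31 LD3_c33)) :=
  Lgr Lrot127 (Lpr_bf (f486829 IH) (Lpn (LP (LK LD1_c13 LD2_c31 LD3_c33))))
theorem f488995 : Led Lsl_gf (LP (LK LD1_c14 LD2_c19 LD3_c38)) = (LP (LK LD1_c13 LD2_c31 LD3_c33)) :=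
  Lgr Lrot124 (Lpr_bf (f488943 IH) (Lpe (f486232 IH) (Lpr_gt (f15232 IH) (Lpe (f15159 IH) (Lpr_bt (K6.f127958 IH) (Lpr_gt (f487944 IH) (Lpe (f487938 IH) (Lpr_gt (f477022 IH) (Lpe (f486828 IH) (Lpr_bt (f486832 IH) (Lpn (LP (LK LD1_c13 LD2_c31 LD3_c33)))))))))))))
theorem f467610 : Led Lsl_gt (LP (LK LD1_c7 LD2_c39 LD3_c16)) = (LP (LK LD1_c3 LD2_c49 LD3_c8)) :=
  Lre_g IH (LK LD1_c7 LD2_c39 LD3_c16) (LK LD1_c3 LD2_c49 LD3_c8) Lrfl Lrfl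
theorem f488998 : Led Lsl_ct (LP (LK LD1_c14 LD2_c19 LD3_c38)) = (LP (LK LD1_c7 LD2_c39 LD3_c16)) :=
  Lgr Lrot91 (Lpr_gf (f488995 IH) (Lpe (f486832 IH) (Lpr_ct (f486828 IH) (Lpe (f477022 IH) (Lpr_cf (f487938 IH) (Lpr_bt (f487931 IH) (Lpe (f87835 IH) (Lpe (K3.f89204 IH) (Lpr_ct (f157574 IH) (Lpe (f467610 IH) (Lpn (LP (LK LD1_c7 LD2_c39 LD3_c16)))))))))))))
theorem f489000 : Led Lsl_cf (LP (LK LD1_c14 LD2_c19 LD3_c38)) = (LP (LK LD1_c7 LD2_c39 LD3_c16)) :=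
  Lgr Lrot11 (Lpr_ct (f488998 IH) (Lpn (LP (LK LD1_c7 LD2_c39 LD3_c16))))
theorem f487782 : Led Lsl_gt (LP (LK LD1_c13 LD2_c43 LD3_c29)) = (LP (LK LD1_c7 LD2_c39 LD3_c16)) :=
  Lgr Lrot5 (Lpr_ft (f478115 IH) (Lpr_at (f96883 IH) (Lpe (f467610 IH) (Lpn (LP (LK LD1_c7 LD2_c39 LD3_c16))))))
theorem f478029 : Led Lsl_ft (LP (LK LD1_c3 LD2_c50 LD3_c50)) = (LP (LK LD1_c7 LD2_c16 LD3_c23)) :=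
  Lgr Lrot4 (Lpe (K28.f97920 IH) (Lpr_ff (K29.f478018 IH) (Lpe (K29.f467100 IH) (Lpn (LP (LK LD1_c7 LD2_c16 LD3_c23))))))
theorem f97944 : Led Lsl_gt (LP (LK LD1_c3 LD2_c50 LD3_c50)) = (LP (LK LD1_c7 LD2_c42 LD3_c45)) :=
  Lre_g IH (LK LD1_c3 LD2_c50 LD3_c50) (LK LD1_c7 LD2_c42 LD3_c45) Lrfl Lrfl
theorem f467120 : Led Lsl_at (LP (LK LD1_c7 LD2_c16 LD3_c23)) = (LP (LK LD1_c13 LD2_c45 LD3_c49)) :=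
  Lre_a IH (LK LD1_c7 LD2_c16 LD3_c23) (LK LD1_c13 LD2_c45 LD3_c49) Lrfl Lrfl
theorem f487814 : Led Lsl_gt (LP (LK LD1_c7 LD2_c42 LD3_c45)) = (LP (LK LD1_c13 LD2_c45 LD3_c49)) :=
  Lgr Lrot46 (Lpe (f97944 IH) (Lpr_ft (f478029 IH) (Lpr_at (f467120 IH) (Lpn (LP (LK LD1_c13 LD2_c45 LD3_c49))))))
theorem f97954 : Led Lsl_ct (LP (LK LD1_c14 LD2_c32 LD3_c19)) = (LP (LK LD1_c7 LD2_c42 LD3_c45)) :=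
  Lre_c IH (LK LD1_c14 LD2_c32 LD3_c19) (LK LD1_c7 LD2_c42 LD3_c45) Lrfl Lrfl
theorem f127943 : Led Lsl_af (LP (LK LD1_c3 LD2_c55 LD3_c47)) = (LP (LK LD1_c7 LD2_c37 LD3_c55)) :=
  Lgr Lrot0 (Lpr_at (K5.f127941 IH) (Lpn (LP (LK LD1_c7 LD2_c37 LD3_c55))))
theorem f484487 : Led Lsl_at (LP (LK LD1_c7 LD2_c11 LD3_c2)) = (LP (LK LD1_c13 LD2_c36 LD3_c39)) :=
  Lre_a IH (LK LD1_c7 LD2_c11 LD3_c2) (LK LD1_c13 LD2_c36 LD3_c39) Lrfl Lrfl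
theorem f484488 : Led Lsl_ff (LP (LK LD1_c7 LD2_c37 LD3_c55)) = (LP (LK LD1_c13 LD2_c36 LD3_c39)) :=
  Lgr Lrot30 (Lpe (f127943 IH) (Lpr_ft (f484478 IH) (Lpr_at (f484487 IH) (Lpn (LP (LK LD1_c13 LD2_c36 LD3_c39))))))
theorem f484492 : Led Lsl_ft (LP (LK LD1_c7 LD2_c37 LD3_c55)) = (LP (LK LD1_c13 LD2_c36 LD3_c39)) :=
  Lgr Lrot48 (Lpr_ff (f484488 IH) (Lpn (LP (LK LD1_c13 LD2_c36 LD3_c39))))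
theorem f484496 : Led Lsl_at (LP (LK LD1_c13 LD2_c36 LD3_c39)) = (LP (LK LD1_c7 LD2_c11 LD3_c2)) :=
  Lre_a IH (LK LD1_c13 LD2_c36 LD3_c39) (LK LD1_c7 LD2_c11 LD3_c2) Lrfl Lrfl
theorem f487948 : Led Lsl_gf (LP (LK LD1_c7 LD2_c11 LD3_c2)) = (LP (LK LD1_c3 LD2_c49 LD3_c34)) :=
  Lgr Lrot76 (Lpe (f484496 IH) (Lpe (f484492 IH) (Lpr_gt (f487944 IH) (Lpn (LP (LK LD1_c3 LD2_c49 LD3_c34))))))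
theorem f456229 : Led Lsl_bt (LP (LK LD1_c3 LD2_c34 LD3_c58)) = (LP (LK LD1_c7 LD2_c11 LD3_c2)) :=
  Lre_b IH (LK LD1_c3 LD2_c34 LD3_c58) (LK LD1_c7 LD2_c11 LD3_c2) Lrfl Lrfl
theorem f484420 : Led Lsl_ef (LP (LK LD1_c6 LD2_c55 LD3_c28)) = (LP (LK LD1_c7 LD2_c11 LD3_c2)) :=
  Lgr Lrot29 (Lpr_bt (f439092 IH) (Lpr_et (f484418 IH) (Lpr_bt (f456229 IH) (Lpn (LP (LK LD1_c7 LD2_c11 LD3_c2))))))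
theorem f485292 : Led Lsl_ct (LP (LK LD1_c7 LD2_c50 LD3_c40)) = (LP (LK LD1_c7 LD2_c11 LD3_c2)) :=
  Lgr Lrot15 (Lpr_ef (f485247 IH) (Lpe (f480891 IH) (Lpr_ef (f484420 IH) (Lpn (LP (LK LD1_c7 LD2_c11 LD3_c2))))))
theorem f456124 : Led Lsl_bt (LP (LK LD1_c7 LD2_c50 LD3_c40)) = (LP (LK LD1_c3 LD2_c54 LD3_c30)) :=
  Lre_b IH (LK LD1_c7 LD2_c50 LD3_c40) (LK LD1_c3 LD2_c54 LD3_c30) Lrfl Lrfl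
theorem f488016 : Led Lsl_gt (LP (LK LD1_c3 LD2_c54 LD3_c30)) = (LP (LK LD1_c1 LD2_c53 LD3_c55)) :=
  Lgr Lrot82 (Lpe (f456124 IH) (Lpr_ct (f485292 IH) (Lpr_gf (f487948 IH) (Lpe (f487932 IH) (Lpr_bt (f123421 IH) (Lpe (K29.f123417 IH) (Lpr_bf (K29.f122764 IH) (Lpr_ct (K24.f122768 IH) (Lpe (K29.f123407 IH) (Lpe (K29.f123393 IH) (Lpn (LP (LK LD1_c1 LD2_c53 LD3_c55)))))))))))))
theorem f90291 : Led Lsl_et (LP (LK LD1_c1 LD2_c54 LD3_c29)) = (LP (LK LD1_c0 LD2_c53 LD3_c53)) :=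
  Lre_e IH (LK LD1_c1 LD2_c54 LD3_c29) (LK LD1_c0 LD2_c53 LD3_c53) Lrfl Lrfl
theorem f120973 : Led Lsl_cf (LP (LK LD1_c1 LD2_c54 LD3_c29)) = (LP (LK LD1_c3 LD2_c42 LD3_c10)) :=
  Lgr Lrot39 (Lpr_et (f90291 IH) (Lpr_ct (K4.f120964 IH) (Lpr_et (K7.f120972 IH) (Lpn (LP (LK LD1_c3 LD2_c42 LD3_c10))))))
theorem f482607 : Led Lsl_ft (LP (LK LD1_c1 LD2_c54 LD3_c29)) = (LP (LK LD1_c3 LD2_c33 LD3_c61)) :=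
  Lgr Lrot48 (Lpr_ff (f482603 IH) (Lpn (LP (LK LD1_c3 LD2_c33 LD3_c61))))
theorem f485214 : Led Lsl_cf (LP (LK LD1_c3 LD2_c54 LD3_c30)) = (LP (LK LD1_c3 LD2_c33 LD3_c61)) :=
  Lgr Lrot108 (Lpr_ft (f485210 IH) (Lpe (f120973 IH) (Lpr_ft (f482607 IH) (Lpn (LP (LK LD1_c3 LD2_c33 LD3_c61))))))
theorem f437662 : Led Lsl_ct (LP (LK LD1_c0 LD2_c53 LD3_c30)) = (LP (LK LD1_c1 LD2_c53 LD3_c55)) :=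
  Lre_c IH (LK LD1_c0 LD2_c53 LD3_c30) (LK LD1_c1 LD2_c53 LD3_c55) Lrfl Lrfl
theorem f488027 : Led Lsl_bt (LP (LK LD1_c0 LD2_c53 LD3_c30)) = (LP (LK LD1_c1 LD2_c53 LD3_c54)) :=
  Lre_b IH (LK LD1_c0 LD2_c53 LD3_c30) (LK LD1_c1 LD2_c53 LD3_c54) Lrfl Lrfl
theorem f488028 : Led Lsl_gf (LP (LK LD1_c1 LD2_c51 LD3_c5)) = (LP (LK LD1_c1 LD2_c53 LD3_c54)) :=
  Lgr Lrot124 (Lpr_bf (K2.f88632 IH) (Lpr_ct (K3.f96945 IH) (Lpr_gt (K29.f482363 IH) (Lpe (f5943 IH) (Lpr_bt (f455837 IH) (Lpr_gt (f93146 IH) (Lpe (f485214 IH) (Lpr_gt (f488016 IH) (Lpe (f437662 IH) (Lpr_bt (f488027 IH) (Lpn (LP (LK LD1_c1 LD2_c53 LD3_c54)))))))))))))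
theorem f90038 : Led Lsl_gt (LP (LK LD1_c3 LD2_c27 LD3_c4)) = (LP (LK LD1_c6 LD2_c56 LD3_c1)) :=
  Lre_g IH (LK LD1_c3 LD2_c27 LD3_c4) (LK LD1_c6 LD2_c56 LD3_c1) Lrfl Lrfl
theorem f451151 : Led Lsl_ct (LP (LK LD1_c3 LD2_c54 LD3_c36)) = (LP (LK LD1_c1 LD2_c53 LD3_c54)) :=
  Lre_c IH (LK LD1_c3 LD2_c54 LD3_c36) (LK LD1_c1 LD2_c53 LD3_c54) Lrfl Lrfl
theorem f488041 : Led Lsl_bf (LP (LK LD1_c6 LD2_c56 LD3_c1)) = (LP (LK LD1_c7 LD2_c41 LD3_c61)) :=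
  Lgr Lrot34 (Lpe (f90038 IH) (Lpe (K29.f90030 IH) (Lpr_ct (K2.f90032 IH) (Lpr_gf (f488028 IH) (Lpe (f451151 IH) (Lpe (K29.f481845 IH) (Lpe (K29.f15119 IH) (Lpr_ct (K4.f15130 IH) (Lpe (K29.f15134 IH) (Lpr_cf (K29.f481834 IH) (Lpn (LP (LK LD1_c7 LD2_c41 LD3_c61)))))))))))))
theorem f90059 : Led Lsl_ct (LP (LK LD1_c6 LD2_c56 LD3_c1)) = (LP (LK LD1_c13 LD2_c10 LD3_c3)) :=
  Lre_c IH (LK LD1_c6 LD2_c56 LD3_c1) (LK LD1_c13 LD2_c10 LD3_c3) Lrfl Lrfl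
theorem f481837 : Led Lsl_bt (LP (LK LD1_c14 LD2_c18 LD3_c34)) = (LP (LK LD1_c7 LD2_c42 LD3_c45)) :=
  Lgr Lrot92 (Lpr_ct (K29.f481810 IH) (Lpr_gt (K29.f136696 IH) (Lpr_cf (K29.f476826 IH) (Lpr_bt (K29.f476804 IH) (Lpe (K29.f477000 IH) (Lpr_ct (K32.f477009 IH) (Lpe (f480544 IH) (Lpe (K29.f120956 IH) (Lpr_bt (K29.f97955 IH) (Lpr_gt (f97944 IH) (Lpn (LP (LK LD1_c7 LD2_c42 LD3_c45)))))))))))))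
theorem f481839 : Led Lsl_bf (LP (LK LD1_c14 LD2_c18 LD3_c34)) = (LP (LK LD1_c7 LD2_c42 LD3_c45)) :=
  Lgr Lrot24 (Lpr_bt (f481837 IH) (Lpn (LP (LK LD1_c7 LD2_c42 LD3_c45))))
theorem f488046 : Led Lsl_bt (LP (LK LD1_c13 LD2_c10 LD3_c3)) = (LP (LK LD1_c14 LD2_c32 LD3_c19)) :=
  Lgr Lrot128 (Lpe (f90059 IH) (Lpr_bf (f488041 IH) (Lpe (K29.f481810 IH) (Lpr_bf (f481839 IH) (Lpe (f97954 IH) (Lpn (LP (LK LD1_c14 LD2_c32 LD3_c19))))))))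
theorem f488065 : Led Lsl_bf (LP (LK LD1_c13 LD2_c10 LD3_c3)) = (LP (LK LD1_c14 LD2_c32 LD3_c19)) :=
  Lgr Lrot24 (Lpr_bt (f488046 IH) (Lpn (LP (LK LD1_c14 LD2_c32 LD3_c19))))
theorem f489026 : Led Lsl_gt (LP (LK LD1_c13 LD2_c30 LD3_c21)) = (LP (LK LD1_c13 LD2_c10 LD3_c3)) :=
  Lgr Lrot164 (Lpe (K28.f96792 IH) (Lpr_ct (K8.f96786 IH) (Lpe (f96811 IH) (Lpr_cf (f489000 IH) (Lpe (f487782 IH) (Lpe (f478046 IH) (Lpr_ct (K29.f478048 IH) (Lpe (f487814 IH) (Lpe (f97954 IH) (Lpe (f488065 IH) (Lpn (LP (LK LD1_c13 LD2_c10 LD3_c3)))))))))))))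
theorem f488044 : Led Lsl_bt (LP (LK LD1_c6 LD2_c56 LD3_c1)) = (LP (LK LD1_c7 LD2_c41 LD3_c61)) :=
  Lgr Lrot127 (Lpr_bf (f488041 IH) (Lpn (LP (LK LD1_c7 LD2_c41 LD3_c61))))
theorem f12239 : Led Lsl_ct (LP (LK LD1_c3 LD2_c50 LD3_c31)) = (LP (LK LD1_c1 LD2_c52 LD3_c11)) :=
  Lre_c IH (LK LD1_c3 LD2_c50 LD3_c31) (LK LD1_c1 LD2_c52 LD3_c11) Lrfl Lrfl
theorem f136683 : Led Lsl_ft (LP (LK LD1_c1 LD2_c52 LD3_c11)) = (LP (LK LD1_c3 LD2_c50 LD3_c38)) :=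
  Lre_f IH (LK LD1_c1 LD2_c52 LD3_c11) (LK LD1_c3 LD2_c50 LD3_c38) Lrfl Lrfl
theorem f476835 : Led Lsl_ct (LP (LK LD1_c3 LD2_c50 LD3_c38)) = (LP (LK LD1_c7 LD2_c16 LD3_c19)) :=
  Lgr Lrot40 (Lpe (f136683 IH) (Lpe (f12239 IH) (Lpr_ff (K29.f476829 IH) (Lpn (LP (LK LD1_c7 LD2_c16 LD3_c19))))))
theorem f15247 : Led Lsl_ct (LP (LK LD1_c6 LD2_c54 LD3_c50)) = (LP (LK LD1_c13 LD2_c8 LD3_c9)) :=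
  Lre_c IH (LK LD1_c6 LD2_c54 LD3_c50) (LK LD1_c13 LD2_c8 LD3_c9) Lrfl Lrfl
theorem f489032 : Led Lsl_gf (LP (LK LD1_c7 LD2_c36 LD3_c0)) = (LP (LK LD1_c13 LD2_c8 LD3_c8)) :=
  Lgr Lrot124 (Lpr_bf (K8.f95147 IH) (Lpe (K8.f96782 IH) (Lpr_gt (f489026 IH) (Lpe (f90059 IH) (Lpr_bt (f488044 IH) (Lpr_gt (K29.f136696 IH) (Lpr_ct (f476835 IH) (Lpr_gt (f486928 IH) (Lpe (f15247 IH) (Lpr_bt (f486937 IH) (Lpn (LP (LK LD1_c13 LD2_c8 LD3_c8)))))))))))))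
theorem f96806 : Led Lsl_gt (LP (LK LD1_c7 LD2_c35 LD3_c61)) = (LP (LK LD1_c14 LD2_c19 LD3_c37)) :=
  Lre_g IH (LK LD1_c7 LD2_c35 LD3_c61) (LK LD1_c14 LD2_c19 LD3_c37) Lrfl Lrfl
theorem f489242 : Led Lsl_bt (LP (LK LD1_c13 LD2_c9 LD3_c52)) = (LP (LK LD1_c14 LD2_c19 LD3_c37)) :=
  Lgr Lrot92 (Lpr_ct (f480768 IH) (Lpr_gt (f480771 IH) (Lpr_cf (f489219 IH) (Lpe (f489190 IH) (Lpr_gt (f488854 IH) (Lpr_ct (f486946 IH) (Lpe (f489032 IH) (Lpe (K8.f95171 IH) (Lpr_bt (K28.f95152 IH) (Lpr_gt (f96806 IH) (Lpn (LP (LK LD1_c14 LD2_c19 LD3_c37)))))))))))))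
theorem f480767 : Led Lsl_bt (LP (LK LD1_c7 LD2_c6 LD3_c26)) = (LP (LK LD1_c13 LD2_c27 LD3_c61)) :=
  Lre_b IH (LK LD1_c7 LD2_c6 LD3_c26) (LK LD1_c13 LD2_c27 LD3_c61) Lrfl Lrfl
theorem f487824 : Led Lsl_bf (LP (LK LD1_c13 LD2_c28 LD3_c0)) = (LP (LK LD1_c7 LD2_c39 LD3_c15)) :=
  Lgr Lrot24 (Lpr_bt (f487821 IH) (Lpn (LP (LK LD1_c7 LD2_c39 LD3_c15))))
theorem f489246 : Led Lsl_cf (LP (LK LD1_c7 LD2_c39 LD3_c15)) = (LP (LK LD1_c14 LD2_c19 LD3_c37)) :=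
  Lgr Lrot97 (Lpe (f487824 IH) (Lpr_ct (f6612 IH) (Lpr_bt (f480767 IH) (Lpe (f480762 IH) (Lpr_bt (f489242 IH) (Lpn (LP (LK LD1_c14 LD2_c19 LD3_c37))))))))
theorem f489252 : Led Lsl_ct (LP (LK LD1_c7 LD2_c39 LD3_c15)) = (LP (LK LD1_c14 LD2_c19 LD3_c37)) :=
  Lgr Lrot59 (Lpr_cf (f489246 IH) (Lpn (LP (LK LD1_c14 LD2_c19 LD3_c37))))
theorem f487839 : Led Lsl_bt (LP (LK LD1_c1 LD2_c45 LD3_c28)) = (LP (LK LD1_c3 LD2_c37 LD3_c10)) :=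
  Lre_b IH (LK LD1_c1 LD2_c45 LD3_c28) (LK LD1_c3 LD2_c37 LD3_c10) Lrfl Lrfl
theorem f487840 : Led Lsl_gt (LP (LK LD1_c7 LD2_c14 LD3_c46)) = (LP (LK LD1_c3 LD2_c37 LD3_c10)) :=
  Lre_g IH (LK LD1_c7 LD2_c14 LD3_c46) (LK LD1_c3 LD2_c37 LD3_c10) Lrfl Lrfl
theorem f488932 : Led Lsl_af (LP (LK LD1_c14 LD2_c19 LD3_c40)) = (LP (LK LD1_c13 LD2_c31 LD3_c33)) :=
  Lgr Lrot68 (Lpr_ct (f488831 IH) (Lpr_at (f488907 IH) (Lpr_ct (f467223 IH) (Lpn (LP (LK LD1_c13 LD2_c31 LD3_c33))))))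
theorem f489096 : Led Lsl_at (LP (LK LD1_c14 LD2_c19 LD3_c40)) = (LP (LK LD1_c13 LD2_c31 LD3_c33)) :=
  Lgr Lrot100 (Lpr_af (f488932 IH) (Lpn (LP (LK LD1_c13 LD2_c31 LD3_c33))))
theorem f489137 : Led Lsl_gt (LP (LK LD1_c14 LD2_c19 LD3_c37)) = (LP (LK LD1_c13 LD2_c31 LD3_c33)) :=
  Lgr Lrot46 (Lpe (f96806 IH) (Lpr_ft (f96821 IH) (Lpr_at (f489096 IH) (Lpn (LP (LK LD1_c13 LD2_c31 LD3_c33))))))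
theorem f489254 : Led Lsl_bf (LP (LK LD1_c7 LD2_c14 LD3_c46)) = (LP (LK LD1_c7 LD2_c8 LD3_c31)) :=
  Lgr Lrot156 (Lpr_gt (f487840 IH) (Lpe (f487839 IH) (Lpr_ct (f487828 IH) (Lpr_gt (f87132 IH) (Lpe (K29.f98006 IH) (Lpr_bt (K29.f96906 IH) (Lpr_gt (f157575 IH) (Lpr_ct (f489252 IH) (Lpr_gt (f489137 IH) (Lpe (f467223 IH) (Lpn (LP (LK LD1_c7 LD2_c8 LD3_c31)))))))))))))
theorem f489256 : Led Lsl_bt (LP (LK LD1_c7 LD2_c14 LD3_c46)) = (LP (LK LD1_c7 LD2_c8 LD3_c31)) :=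
  Lgr Lrot127 (Lpr_bf (f489254 IH) (Lpn (LP (LK LD1_c7 LD2_c8 LD3_c31))))
theorem f456075 : Led Lsl_bt (LP (LK LD1_c7 LD2_c6 LD3_c46)) = (LP (LK LD1_c3 LD2_c32 LD3_c55)) :=
  Lre_b IH (LK LD1_c7 LD2_c6 LD3_c46) (LK LD1_c3 LD2_c32 LD3_c55) Lrfl Lrfl
theorem f489307 : Led Lsl_ct (LP (LK LD1_c7 LD2_c14 LD3_c46)) = (LP (LK LD1_c7 LD2_c50 LD3_c21)) :=
  Lgr Lrot64 (Lpr_bt (f489256 IH) (Lpe (f467222 IH) (Lpe (f467221 IH) (Lpr_ct (K29.f6665 IH) (Lpe (K28.f467131 IH) (Lpr_cf (K29.f88539 IH) (Lpe (K29.f467124 IH) (Lpe (f456075 IH) (Lpr_ct (f456084 IH) (Lpe (f456088 IH) (Lpn (LP (LK LD1_c7 LD2_c50 LD3_c21)))))))))))))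
theorem f489311 : Led Lsl_cf (LP (LK LD1_c7 LD2_c14 LD3_c46)) = (LP (LK LD1_c7 LD2_c50 LD3_c21)) :=
  Lgr Lrot11 (Lpr_ct (f489307 IH) (Lpn (LP (LK LD1_c7 LD2_c50 LD3_c21))))
theorem f6037 : Led Lsl_ct (LP (LK LD1_c7 LD2_c14 LD3_c48)) = (LP (LK LD1_c3 LD2_c37 LD3_c10)) :=
  Lre_c IH (LK LD1_c7 LD2_c14 LD3_c48) (LK LD1_c3 LD2_c37 LD3_c10) Lrfl Lrfl
theorem f123379 : Led Lsl_ct (LP (LK LD1_c3 LD2_c54 LD3_c55)) = (LP (LK LD1_c1 LD2_c54 LD3_c2)) :=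
  Lre_c IH (LK LD1_c3 LD2_c54 LD3_c55) (LK LD1_c1 LD2_c54 LD3_c2) Lrfl Lrfl
theorem f480122 : Led Lsl_ef (LP (LK LD1_c1 LD2_c54 LD3_c57)) = (LP (LK LD1_c1 LD2_c54 LD3_c2)) :=
  Lgr Lrot28 (Lpr_ct (K28.f11349 IH) (Lpr_et (f480120 IH) (Lpr_ct (f123379 IH) (Lpn (LP (LK LD1_c1 LD2_c54 LD3_c2))))))
theorem f442365 : Led Lsl_et (LP (LK LD1_c3 LD2_c49 LD3_c12)) = (LP (LK LD1_c1 LD2_c51 LD3_c38)) :=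
  Lre_e IH (LK LD1_c3 LD2_c49 LD3_c12) (LK LD1_c1 LD2_c51 LD3_c38) Lrfl Lrfl
theorem f487863 : Led Lsl_bt (LP (LK LD1_c1 LD2_c54 LD3_c57)) = (LP (LK LD1_c3 LD2_c49 LD3_c12)) :=
  Lgr Lrot119 (Lpr_ef (f480122 IH) (Lpr_bf (f487857 IH) (Lpe (f442365 IH) (Lpn (LP (LK LD1_c3 LD2_c49 LD3_c12))))))
theorem f462840 : Led Lsl_bt (LP (LK LD1_c7 LD2_c54 LD3_c37)) = (LP (LK LD1_c3 LD2_c56 LD3_c27)) :=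
  Lre_b IH (LK LD1_c7 LD2_c54 LD3_c37) (LK LD1_c3 LD2_c56 LD3_c27) Lrfl Lrfl
theorem f10526 : Led Lsl_et (LP (LK LD1_c3 LD2_c37 LD3_c12)) = (LP (LK LD1_c1 LD2_c45 LD3_c28)) :=
  Lre_e IH (LK LD1_c3 LD2_c37 LD3_c12) (LK LD1_c1 LD2_c45 LD3_c28) Lrfl Lrfl
theorem f487832 : Led Lsl_et (LP (LK LD1_c1 LD2_c51 LD3_c38)) = (LP (LK LD1_c3 LD2_c49 LD3_c12)) :=
  Lre_e IH (LK LD1_c1 LD2_c51 LD3_c38) (LK LD1_c3 LD2_c49 LD3_c12) Lrfl Lrfl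
theorem f487833 : Led Lsl_cf (LP (LK LD1_c3 LD2_c37 LD3_c12)) = (LP (LK LD1_c3 LD2_c49 LD3_c12)) :=
  Lgr Lrot39 (Lpr_et (f10526 IH) (Lpr_ct (f487828 IH) (Lpr_et (f487832 IH) (Lpn (LP (LK LD1_c3 LD2_c49 LD3_c12))))))
theorem f487851 : Led Lsl_bt (LP (LK LD1_c3 LD2_c37 LD3_c12)) = (LP (LK LD1_c7 LD2_c14 LD3_c50)) :=
  Lre_b IH (LK LD1_c3 LD2_c37 LD3_c12) (LK LD1_c7 LD2_c14 LD3_c50) Lrfl Lrfl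
theorem f487867 : Led Lsl_cf (LP (LK LD1_c7 LD2_c54 LD3_c37)) = (LP (LK LD1_c7 LD2_c14 LD3_c50)) :=
  Lgr Lrot97 (Lpr_bt (f462840 IH) (Lpr_ct (K28.f451972 IH) (Lpr_bt (f487863 IH) (Lpe (f487833 IH) (Lpr_bt (f487851 IH) (Lpn (LP (LK LD1_c7 LD2_c14 LD3_c50))))))))
theorem f487873 : Led Lsl_et (LP (LK LD1_c3 LD2_c37 LD3_c10)) = (LP (LK LD1_c7 LD2_c14 LD3_c50)) :=
  Lre_e IH (LK LD1_c3 LD2_c37 LD3_c10) (LK LD1_c7 LD2_c14 LD3_c50) Lrfl Lrfl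
theorem f487874 : Led Lsl_et (LP (LK LD1_c7 LD2_c54 LD3_c37)) = (LP (LK LD1_c7 LD2_c14 LD3_c48)) :=
  Lgr Lrot158 (Lpr_cf (f487867 IH) (Lpe (f487873 IH) (Lpe (f6037 IH) (Lpn (LP (LK LD1_c7 LD2_c14 LD3_c48))))))
theorem f451975 : Led Lsl_bt (LP (LK LD1_c3 LD2_c56 LD3_c27)) = (LP (LK LD1_c7 LD2_c54 LD3_c37)) :=
  Lre_b IH (LK LD1_c3 LD2_c56 LD3_c27) (LK LD1_c7 LD2_c54 LD3_c37) Lrfl Lrfl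
theorem f487881 : Led Lsl_bf (LP (LK LD1_c3 LD2_c54 LD3_c55)) = (LP (LK LD1_c7 LD2_c14 LD3_c48)) :=
  Lgr Lrot96 (Lpe (f480126 IH) (Lpr_bt (f451975 IH) (Lpr_et (f487874 IH) (Lpn (LP (LK LD1_c7 LD2_c14 LD3_c48))))))
theorem f108740 : Led Lsl_gt (LP (LK LD1_c3 LD2_c26 LD3_c50)) = (LP (LK LD1_c6 LD2_c55 LD3_c26)) :=
  Lre_g IH (LK LD1_c3 LD2_c26 LD3_c50) (LK LD1_c6 LD2_c55 LD3_c26) Lrfl Lrfl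
theorem f456000 : Led Lsl_bt (LP (LK LD1_c7 LD2_c9 LD3_c9)) = (LP (LK LD1_c3 LD2_c34 LD3_c1)) :=
  Lre_b IH (LK LD1_c7 LD2_c9 LD3_c9) (LK LD1_c3 LD2_c34 LD3_c1) Lrfl Lrfl
theorem f482576 : Led Lsl_at (LP (LK LD1_c13 LD2_c32 LD3_c54)) = (LP (LK LD1_c7 LD2_c9 LD3_c9)) :=
  Lre_a IH (LK LD1_c13 LD2_c32 LD3_c54) (LK LD1_c7 LD2_c9 LD3_c9) Lrfl Lrfl
theorem f486141 : Led Lsl_bt (LP (LK LD1_c1 LD2_c53 LD3_c46)) = (LP (LK LD1_c3 LD2_c54 LD3_c19)) :=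
  Lre_b IH (LK LD1_c1 LD2_c53 LD3_c46) (LK LD1_c3 LD2_c54 LD3_c19) Lrfl Lrfl
theorem f486217 : Led Lsl_at (LP (LK LD1_c3 LD2_c54 LD3_c19)) = (LP (LK LD1_c7 LD2_c50 LD3_c15)) :=
  Lre_a IH (LK LD1_c3 LD2_c54 LD3_c19) (LK LD1_c7 LD2_c50 LD3_c15) Lrfl Lrfl
theorem f515051 : Led Lsl_bf (LP (LK LD1_c13 LD2_c32 LD3_c54)) = (LP (LK LD1_c7 LD2_c50 LD3_c15)) :=
  Lgr Lrot81 (Lpr_at (f482576 IH) (Lpr_bt (f456000 IH) (Lpr_at (f515047 IH) (Lpr_bt (f486141 IH) (Lpr_at (f486217 IH) (Lpn (LP (LK LD1_c7 LD2_c50 LD3_c15))))))))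
theorem f515544 : Led Lsl_cf (LP (LK LD1_c6 LD2_c55 LD3_c26)) = (LP (LK LD1_c7 LD2_c50 LD3_c15)) :=
  Lgr Lrot58 (Lpe (f108740 IH) (Lpe (f476765 IH) (Lpr_bt (f132225 IH) (Lpe (f476759 IH) (Lpr_bf (f487881 IH) (Lpr_ct (f6037 IH) (Lpe (f487840 IH) (Lpr_cf (f489311 IH) (Lpr_gf (f515542 IH) (Lpr_bf (f515051 IH) (Lpn (LP (LK LD1_c7 LD2_c50 LD3_c15)))))))))))))
theorem f484863 : Led Lsl_ef (LP (LK LD1_c13 LD2_c36 LD3_c39)) = (LP (LK LD1_c7 LD2_c38 LD3_c45)) :=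
  Lgr Lrot21 (Lpe (f484488 IH) (Lpr_et (K5.f88241 IH) (Lpr_ft (K5.f114426 IH) (Lpr_et (K8.f114456 IH) (Lpr_ft (f484833 IH) (Lpn (LP (LK LD1_c7 LD2_c38 LD3_c45))))))))
theorem f484865 : Led Lsl_at (LP (LK LD1_c6 LD2_c55 LD3_c28)) = (LP (LK LD1_c7 LD2_c38 LD3_c45)) :=
  Lgr Lrot80 (Lpr_ef (f484420 IH) (Lpe (f484496 IH) (Lpr_ef (f484863 IH) (Lpn (LP (LK LD1_c7 LD2_c38 LD3_c45))))))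
theorem f484887 : Led Lsl_gt (LP (LK LD1_c6 LD2_c55 LD3_c26)) = (LP (LK LD1_c7 LD2_c38 LD3_c45)) :=
  Lgr Lrot46 (Lpe (f108740 IH) (Lpr_ft (f440300 IH) (Lpr_at (f484865 IH) (Lpn (LP (LK LD1_c7 LD2_c38 LD3_c45))))))
theorem f484889 : Led Lsl_at (LP (LK LD1_c7 LD2_c38 LD3_c46)) = (LP (LK LD1_c3 LD2_c48 LD3_c49)) :=
  Lre_a IH (LK LD1_c7 LD2_c38 LD3_c46) (LK LD1_c3 LD2_c48 LD3_c49) Lrfl Lrfl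
theorem f484890 : Led Lsl_ft (LP (LK LD1_c6 LD2_c55 LD3_c26)) = (LP (LK LD1_c7 LD2_c38 LD3_c46)) :=
  Lgr Lrot2 (Lpr_gt (f484887 IH) (Lpr_gt (f484760 IH) (Lpe (f484889 IH) (Lpn (LP (LK LD1_c7 LD2_c38 LD3_c46))))))
theorem f484895 : Led Lsl_ct (LP (LK LD1_c7 LD2_c38 LD3_c46)) = (LP (LK LD1_c14 LD2_c24 LD3_c39)) :=
  Lre_c IH (LK LD1_c7 LD2_c38 LD3_c46) (LK LD1_c14 LD2_c24 LD3_c39) Lrfl Lrfl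
theorem f515550 : Led Lsl_ft (LP (LK LD1_c14 LD2_c24 LD3_c39)) = (LP (LK LD1_c7 LD2_c50 LD3_c15)) :=
  Lgr Lrot4 (Lpe (f484895 IH) (Lpe (f484890 IH) (Lpr_cf (f515544 IH) (Lpn (LP (LK LD1_c7 LD2_c50 LD3_c15))))))
theorem f486140 : Led Lsl_at (LP (LK LD1_c7 LD2_c50 LD3_c15)) = (LP (LK LD1_c3 LD2_c54 LD3_c19)) :=
  Lre_a IH (LK LD1_c7 LD2_c50 LD3_c15) (LK LD1_c3 LD2_c54 LD3_c19) Lrfl Lrfl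
theorem f515561 : Led Lsl_gt (LP (LK LD1_c14 LD2_c24 LD3_c39)) = (LP (LK LD1_c7 LD2_c49 LD3_c43)) :=
  Lgr Lrot5 (Lpr_ft (f515550 IH) (Lpr_at (f486140 IH) (Lpe (f486147 IH) (Lpn (LP (LK LD1_c7 LD2_c49 LD3_c43))))))
theorem f486142 : Led Lsl_ct (LP (LK LD1_c7 LD2_c34 LD3_c61)) = (LP (LK LD1_c3 LD2_c54 LD3_c19)) :=
  Lgr Lrot59 (Lpr_cf (f486137 IH) (Lpn (LP (LK LD1_c3 LD2_c54 LD3_c19))))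
theorem f88554 : Led Lsl_bt (LP (LK LD1_c7 LD2_c34 LD3_c61)) = (LP (LK LD1_c3 LD2_c47 LD3_c4)) :=
  Lre_b IH (LK LD1_c7 LD2_c34 LD3_c61) (LK LD1_c3 LD2_c47 LD3_c4) Lrfl Lrfl
theorem f486770 : Led Lsl_gf (LP (LK LD1_c1 LD2_c51 LD3_c26)) = (LP (LK LD1_c3 LD2_c47 LD3_c4)) :=
  Lgr Lrot124 (Lpe (f466702 IH) (Lpr_ct (f467357 IH) (Lpe (f467359 IH) (Lpr_cf (f486761 IH) (Lpe (f486766 IH) (Lpr_gt (f162087 IH) (Lpe (f162084 IH) (Lpr_gt (f486147 IH) (Lpe (f486142 IH) (Lpr_bt (f88554 IH) (Lpn (LP (LK LD1_c3 LD2_c47 LD3_c4)))))))))))))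
theorem f486772 : Led Lsl_gt (LP (LK LD1_c7 LD2_c35 LD3_c4)) = (LP (LK LD1_c3 LD2_c47 LD3_c32)) :=
  Lgr Lrot164 (Lpe (f442360 IH) (Lpr_ct (K29.f442359 IH) (Lpr_gf (K29.f442347 IH) (Lpe (f442342 IH) (Lpr_gf (f486770 IH) (Lpe (f88554 IH) (Lpr_ct (f486142 IH) (Lpe (f486147 IH) (Lpr_cf (f162084 IH) (Lpr_bt (f144972 IH) (Lpn (LP (LK LD1_c3 LD2_c47 LD3_c32)))))))))))))
theorem f486776 : Led Lsl_gf (LP (LK LD1_c7 LD2_c16 LD3_c21)) = (LP (LK LD1_c3 LD2_c47 LD3_c32)) :=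
  Lgr Lrot76 (Lpr_af (f482175 IH) (Lpe (f482182 IH) (Lpr_gt (f486772 IH) (Lpn (LP (LK LD1_c3 LD2_c47 LD3_c32))))))
theorem f480791 : Led Lsl_bt (LP (LK LD1_c3 LD2_c26 LD3_c55)) = (LP (LK LD1_c6 LD2_c55 LD3_c28)) :=
  Lre_b IH (LK LD1_c3 LD2_c26 LD3_c55) (LK LD1_c6 LD2_c55 LD3_c28) Lrfl Lrfl
theorem f515565 : Led Lsl_gf (LP (LK LD1_c7 LD2_c38 LD3_c46)) = (LP (LK LD1_c6 LD2_c55 LD3_c28)) :=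
  Lgr Lrot181 (Lpr_ct (f484895 IH) (Lpr_gt (f515561 IH) (Lpr_cf (f162084 IH) (Lpr_bt (f144972 IH) (Lpe (f486776 IH) (Lpe (f456720 IH) (Lpr_ct (f456898 IH) (Lpe (K29.f457325 IH) (Lpq (K29.f480729 IH) (Lpe (f136649 IH) (Lpr_bt (f480791 IH) (Lpn (LP (LK LD1_c6 LD2_c55 LD3_c28))))))))))))))
theorem f484903 : Led Lsl_at (LP (LK LD1_c3 LD2_c48 LD3_c49)) = (LP (LK LD1_c7 LD2_c38 LD3_c46)) :=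
  Lre_a IH (LK LD1_c3 LD2_c48 LD3_c49) (LK LD1_c7 LD2_c38 LD3_c46) Lrfl Lrfl
theorem f515567 : Led Lsl_ff (LP (LK LD1_c3 LD2_c48 LD3_c49)) = (LP (LK LD1_c7 LD2_c34 LD3_c61)) :=
  Lgr Lrot52 (Lpr_at (f484903 IH) (Lpr_gf (f515565 IH) (Lpe (f486133 IH) (Lpn (LP (LK LD1_c7 LD2_c34 LD3_c61))))))
theorem f515576 : Led Lsl_ft (LP (LK LD1_c3 LD2_c48 LD3_c49)) = (LP (LK LD1_c7 LD2_c34 LD3_c61)) :=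
  Lgr Lrot48 (Lpr_ff (f515567 IH) (Lpn (LP (LK LD1_c7 LD2_c34 LD3_c61))))
theorem f515578 : Led Lsl_af (LP (LK LD1_c6 LD2_c55 LD3_c26)) = (LP (LK LD1_c7 LD2_c34 LD3_c61)) :=
  Lgr Lrot45 (Lpr_ft (f484890 IH) (Lpr_at (f484889 IH) (Lpr_ft (f515576 IH) (Lpn (LP (LK LD1_c7 LD2_c34 LD3_c61))))))
theorem f515016 : Led Lsl_af (LP (LK LD1_c3 LD2_c47 LD3_c4)) = (LP (LK LD1_c1 LD2_c51 LD3_c23)) :=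
  Lgr Lrot68 (Lpr_ct (f486131 IH) (Lpr_at (f515012 IH) (Lpe (f486247 IH) (Lpn (LP (LK LD1_c1 LD2_c51 LD3_c23))))))
theorem f486269 : Led Lsl_at (LP (LK LD1_c7 LD2_c38 LD3_c39)) = (LP (LK LD1_c3 LD2_c48 LD3_c46)) :=
  Lre_a IH (LK LD1_c7 LD2_c38 LD3_c39) (LK LD1_c3 LD2_c48 LD3_c46) Lrfl Lrfl
theorem f516238 : Led Lsl_bt (LP (LK LD1_c6 LD2_c55 LD3_c26)) = (LP (LK LD1_c7 LD2_c38 LD3_c39)) :=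
  Lgr Lrot62 (Lpr_af (f515578 IH) (Lpe (f89135 IH) (Lpr_af (f515016 IH) (Lpe (f486244 IH) (Lpe (f486269 IH) (Lpn (LP (LK LD1_c7 LD2_c38 LD3_c39))))))))
theorem f484892 : Led Lsl_dt (LP (LK LD1_c13 LD2_c9 LD3_c5)) = (LP (LK LD1_c6 LD2_c55 LD3_c26)) :=
  Lre_d IH (LK LD1_c13 LD2_c9 LD3_c5) (LK LD1_c6 LD2_c55 LD3_c26) Lrfl Lrfl
theorem f64773 : Led Lsl_dt (LP (LK LD1_c7 LD2_c38 LD3_c39)) = (LP (LK LD1_c14 LD2_c24 LD3_c24)) :=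
  Lre_d IH (LK LD1_c7 LD2_c38 LD3_c39) (LK LD1_c14 LD2_c24 LD3_c24) Lrfl Lrfl
theorem f516244 : Led Lsl_bf (LP (LK LD1_c13 LD2_c9 LD3_c5)) = (LP (LK LD1_c14 LD2_c24 LD3_c24)) :=
  Lgr Lrot93 (Lpr_dt (f484892 IH) (Lpr_bt (f516238 IH) (Lpr_dt (f64773 IH) (Lpn (LP (LK LD1_c14 LD2_c24 LD3_c24))))))
theorem f484893 : Led Lsl_et (LP (LK LD1_c13 LD2_c9 LD3_c5)) = (LP (LK LD1_c22 LD2_c21 LD3_c33)) :=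
  Lre_e IH (LK LD1_c13 LD2_c9 LD3_c5) (LK LD1_c22 LD2_c21 LD3_c33) Lrfl Lrfl
theorem f64779 : Led Lsl_et (LP (LK LD1_c24 LD2_c3 LD3_c22)) = (LP (LK LD1_c14 LD2_c24 LD3_c24)) :=
  Lre_e IH (LK LD1_c24 LD2_c3 LD3_c22) (LK LD1_c14 LD2_c24 LD3_c24) Lrfl Lrfl
theorem f516252 : Led Lsl_bt (LP (LK LD1_c22 LD2_c21 LD3_c33)) = (LP (LK LD1_c24 LD2_c3 LD3_c22)) :=
  Lgr Lrot119 (Lpe (f484893 IH) (Lpr_bf (f516244 IH) (Lpe (f64779 IH) (Lpn (LP (LK LD1_c24 LD2_c3 LD3_c22))))))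
theorem f516256 : Led Lsl_bf (LP (LK LD1_c22 LD2_c21 LD3_c33)) = (LP (LK LD1_c24 LD2_c3 LD3_c22)) :=
  Lgr Lrot24 (Lpr_bt (f516252 IH) (Lpn (LP (LK LD1_c24 LD2_c3 LD3_c22))))
theorem f484780 : Led Lsl_dt (LP (LK LD1_c3 LD2_c48 LD3_c49)) = (LP (LK LD1_c7 LD2_c38 LD3_c48)) :=
  Lre_d IH (LK LD1_c3 LD2_c48 LD3_c49) (LK LD1_c7 LD2_c38 LD3_c48) Lrfl Lrfl
theorem f484871 : Led Lsl_ct (LP (LK LD1_c7 LD2_c38 LD3_c48)) = (LP (LK LD1_c14 LD2_c24 LD3_c46)) :=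
  Lre_c IH (LK LD1_c7 LD2_c38 LD3_c48) (LK LD1_c14 LD2_c24 LD3_c46) Lrfl Lrfl
theorem f515582 : Led Lsl_dt (LP (LK LD1_c14 LD2_c24 LD3_c46)) = (LP (LK LD1_c24 LD2_c3 LD3_c55)) :=
  Lre_d IH (LK LD1_c14 LD2_c24 LD3_c46) (LK LD1_c24 LD2_c3 LD3_c55) Lrfl Lrfl
theorem f515583 : Led Lsl_ct (LP (LK LD1_c24 LD2_c3 LD3_c55)) = (LP (LK LD1_c31 LD2_c21 LD3_c27)) :=
  Lre_c IH (LK LD1_c24 LD2_c3 LD3_c55) (LK LD1_c31 LD2_c21 LD3_c27) Lrfl Lrfl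
theorem f515146 : Led Lsl_dt (LP (LK LD1_c14 LD2_c47 LD3_c2)) = (LP (LK LD1_c7 LD2_c50 LD3_c15)) :=
  Lre_d IH (LK LD1_c14 LD2_c47 LD3_c2) (LK LD1_c7 LD2_c50 LD3_c15) Lrfl Lrfl
theorem f515137 : Led Lsl_ct (LP (LK LD1_c24 LD2_c33 LD3_c19)) = (LP (LK LD1_c14 LD2_c47 LD3_c2)) :=
  Lre_c IH (LK LD1_c24 LD2_c33 LD3_c19) (LK LD1_c14 LD2_c47 LD3_c2) Lrfl Lrfl
theorem f515584 : Led Lsl_dt (LP (LK LD1_c31 LD2_c21 LD3_c27)) = (LP (LK LD1_c24 LD2_c33 LD3_c19)) :=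
  Lgr Lrot140 (Lpe (f515583 IH) (Lpe (f515582 IH) (Lpe (f484871 IH) (Lpe (f484780 IH) (Lpr_ft (f515576 IH) (Lpe (f515578 IH) (Lpr_cf (f515544 IH) (Lpe (f515146 IH) (Lpe (f515137 IH) (Lpn (LP (LK LD1_c24 LD2_c33 LD3_c19))))))))))))
theorem f484802 : Led Lsl_dt (LP (LK LD1_c14 LD2_c24 LD3_c42)) = (LP (LK LD1_c7 LD2_c38 LD3_c47)) :=
  Lre_d IH (LK LD1_c14 LD2_c24 LD3_c42) (LK LD1_c7 LD2_c38 LD3_c47) Lrfl Lrfl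
theorem f515122 : Led Lsl_at (LP (LK LD1_c7 LD2_c50 LD3_c16)) = (LP (LK LD1_c14 LD2_c47 LD3_c2)) :=
  Lre_a IH (LK LD1_c7 LD2_c50 LD3_c16) (LK LD1_c14 LD2_c47 LD3_c2) Lrfl Lrfl
theorem f515590 : Led Lsl_ft (LP (LK LD1_c14 LD2_c24 LD3_c42)) = (LP (LK LD1_c7 LD2_c50 LD3_c16)) :=
  Lgr Lrot142 (Lpr_dt (f484802 IH) (Lpr_ct (f484757 IH) (Lpr_dt (f484780 IH) (Lpr_ct (f484871 IH) (Lpr_dt (f515582 IH) (Lpr_ct (f515583 IH) (Lpr_dt (f515584 IH) (Lpr_ct (f515137 IH) (Lpe (f515122 IH) (Lpn (LP (LK LD1_c7 LD2_c50 LD3_c16))))))))))))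
theorem f515596 : Led Lsl_ff (LP (LK LD1_c14 LD2_c24 LD3_c42)) = (LP (LK LD1_c7 LD2_c50 LD3_c16)) :=
  Lgr Lrot3 (Lpr_ft (f515590 IH) (Lpn (LP (LK LD1_c7 LD2_c50 LD3_c16))))
theorem f485129 : Led Lsl_at (LP (LK LD1_c14 LD2_c24 LD3_c42)) = (LP (LK LD1_c24 LD2_c3 LD3_c42)) :=
  Lre_a IH (LK LD1_c14 LD2_c24 LD3_c42) (LK LD1_c24 LD2_c3 LD3_c42) Lrfl Lrfl
theorem f515145 : Led Lsl_at (LP (LK LD1_c14 LD2_c47 LD3_c2)) = (LP (LK LD1_c7 LD2_c50 LD3_c16)) :=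
  Lre_a IH (LK LD1_c14 LD2_c47 LD3_c2) (LK LD1_c7 LD2_c50 LD3_c16) Lrfl Lrfl
theorem f515598 : Led Lsl_ft (LP (LK LD1_c24 LD2_c3 LD3_c42)) = (LP (LK LD1_c14 LD2_c47 LD3_c2)) :=
  Lgr Lrot101 (Lpe (f485129 IH) (Lpr_ff (f515596 IH) (Lpe (f515145 IH) (Lpn (LP (LK LD1_c14 LD2_c47 LD3_c2))))))
theorem f515556 : Led Lsl_dt (LP (LK LD1_c24 LD2_c3 LD3_c42)) = (LP (LK LD1_c14 LD2_c24 LD3_c39)) :=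
  Lre_d IH (LK LD1_c24 LD2_c3 LD3_c42) (LK LD1_c14 LD2_c24 LD3_c39) Lrfl Lrfl
theorem f484904 : Led Lsl_ct (LP (LK LD1_c14 LD2_c24 LD3_c39)) = (LP (LK LD1_c7 LD2_c38 LD3_c46)) :=
  Lre_c IH (LK LD1_c14 LD2_c24 LD3_c39) (LK LD1_c7 LD2_c38 LD3_c46) Lrfl Lrfl
theorem f484896 : Led Lsl_dt (LP (LK LD1_c7 LD2_c38 LD3_c46)) = (LP (LK LD1_c14 LD2_c24 LD3_c40)) :=
  Lre_d IH (LK LD1_c7 LD2_c38 LD3_c46) (LK LD1_c14 LD2_c24 LD3_c40) Lrfl Lrfl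
theorem f484908 : Led Lsl_ct (LP (LK LD1_c14 LD2_c24 LD3_c40)) = (LP (LK LD1_c24 LD2_c3 LD3_c43)) :=
  Lre_c IH (LK LD1_c14 LD2_c24 LD3_c40) (LK LD1_c24 LD2_c3 LD3_c43) Lrfl Lrfl
theorem f484909 : Led Lsl_dt (LP (LK LD1_c24 LD2_c3 LD3_c43)) = (LP (LK LD1_c31 LD2_c21 LD3_c10)) :=
  Lre_d IH (LK LD1_c24 LD2_c3 LD3_c43) (LK LD1_c31 LD2_c21 LD3_c10) Lrfl Lrfl
theorem f486144 : Led Lsl_ct (LP (LK LD1_c14 LD2_c47 LD3_c5)) = (LP (LK LD1_c7 LD2_c50 LD3_c16)) :=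
  Lre_c IH (LK LD1_c14 LD2_c47 LD3_c5) (LK LD1_c7 LD2_c50 LD3_c16) Lrfl Lrfl
theorem f486145 : Led Lsl_dt (LP (LK LD1_c24 LD2_c33 LD3_c24)) = (LP (LK LD1_c14 LD2_c47 LD3_c5)) :=
  Lre_d IH (LK LD1_c24 LD2_c33 LD3_c24) (LK LD1_c14 LD2_c47 LD3_c5) Lrfl Lrfl
theorem f516007 : Led Lsl_ct (LP (LK LD1_c31 LD2_c21 LD3_c10)) = (LP (LK LD1_c24 LD2_c33 LD3_c24)) :=
  Lgr Lrot53 (Lpe (f484909 IH) (Lpe (f484908 IH) (Lpe (f484896 IH) (Lpe (f484904 IH) (Lpe (f515556 IH) (Lpr_ft (f515598 IH) (Lpr_at (f515145 IH) (Lpe (f486144 IH) (Lpe (f486145 IH) (Lpn (LP (LK LD1_c24 LD2_c33 LD3_c24))))))))))))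
theorem f484899 : Led Lsl_ff (LP (LK LD1_c6 LD2_c55 LD3_c26)) = (LP (LK LD1_c7 LD2_c38 LD3_c46)) :=
  Lgr Lrot3 (Lpr_ft (f484890 IH) (Lpn (LP (LK LD1_c7 LD2_c38 LD3_c46))))
theorem f108741 : Led Lsl_dt (LP (LK LD1_c6 LD2_c55 LD3_c26)) = (LP (LK LD1_c13 LD2_c9 LD3_c5)) :=
  Lre_d IH (LK LD1_c6 LD2_c55 LD3_c26) (LK LD1_c13 LD2_c9 LD3_c5) Lrfl Lrfl
theorem f484905 : Led Lsl_dt (LP (LK LD1_c14 LD2_c24 LD3_c40)) = (LP (LK LD1_c7 LD2_c38 LD3_c46)) :=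
  Lre_d IH (LK LD1_c14 LD2_c24 LD3_c40) (LK LD1_c7 LD2_c38 LD3_c46) Lrfl Lrfl
theorem f484906 : Led Lsl_ft (LP (LK LD1_c13 LD2_c9 LD3_c5)) = (LP (LK LD1_c14 LD2_c24 LD3_c40)) :=
  Lgr Lrot54 (Lpe (f108741 IH) (Lpr_ff (f484899 IH) (Lpe (f484905 IH) (Lpn (LP (LK LD1_c14 LD2_c24 LD3_c40))))))
theorem f484911 : Led Lsl_ct (LP (LK LD1_c22 LD2_c21 LD3_c32)) = (LP (LK LD1_c13 LD2_c9 LD3_c5)) :=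
  Lre_c IH (LK LD1_c22 LD2_c21 LD3_c32) (LK LD1_c13 LD2_c9 LD3_c5) Lrfl Lrfl
theorem f484912 : Led Lsl_ff (LP (LK LD1_c22 LD2_c21 LD3_c32)) = (LP (LK LD1_c24 LD2_c3 LD3_c43)) :=
  Lgr Lrot23 (Lpr_ct (f484911 IH) (Lpr_ft (f484906 IH) (Lpr_ct (f484908 IH) (Lpn (LP (LK LD1_c24 LD2_c3 LD3_c43))))))
theorem f148223 : Led Lsl_dt (LP (LK LD1_c7 LD2_c50 LD3_c16)) = (LP (LK LD1_c3 LD2_c54 LD3_c19)) :=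
  Lre_d IH (LK LD1_c7 LD2_c50 LD3_c16) (LK LD1_c3 LD2_c54 LD3_c19) Lrfl Lrfl
theorem f89166 : Led Lsl_dt (LP (LK LD1_c7 LD2_c34 LD3_c61)) = (LP (LK LD1_c14 LD2_c17 LD3_c58)) :=
  Lre_d IH (LK LD1_c7 LD2_c34 LD3_c61) (LK LD1_c14 LD2_c17 LD3_c58) Lrfl Lrfl
theorem f89175 : Led Lsl_ct (LP (LK LD1_c14 LD2_c17 LD3_c58)) = (LP (LK LD1_c23 LD2_c55 LD3_c44)) :=
  Lre_c IH (LK LD1_c14 LD2_c17 LD3_c58) (LK LD1_c23 LD2_c55 LD3_c44) Lrfl Lrfl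
theorem f516012 : Led Lsl_at (LP (LK LD1_c22 LD2_c21 LD3_c32)) = (LP (LK LD1_c23 LD2_c55 LD3_c44)) :=
  Lgr Lrot33 (Lpr_ff (f484912 IH) (Lpr_dt (f484909 IH) (Lpr_ct (f516007 IH) (Lpr_dt (f486145 IH) (Lpr_ct (f486144 IH) (Lpr_dt (f148223 IH) (Lpe (f486137 IH) (Lpr_dt (f89166 IH) (Lpr_ct (f89175 IH) (Lpn (LP (LK LD1_c23 LD2_c55 LD3_c44))))))))))))
theorem f484941 : Led Lsl_et (LP (LK LD1_c30 LD2_c27 LD3_c3)) = (LP (LK LD1_c22 LD2_c21 LD3_c32)) :=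
  Lre_e IH (LK LD1_c30 LD2_c27 LD3_c3) (LK LD1_c22 LD2_c21 LD3_c32) Lrfl Lrfl
theorem f89143 : Led Lsl_dt (LP (LK LD1_c7 LD2_c35 LD3_c0)) = (LP (LK LD1_c3 LD2_c47 LD3_c4)) :=
  Lre_d IH (LK LD1_c7 LD2_c35 LD3_c0) (LK LD1_c3 LD2_c47 LD3_c4) Lrfl Lrfl
theorem f89144 : Led Lsl_et (LP (LK LD1_c3 LD2_c46 LD3_c12)) = (LP (LK LD1_c7 LD2_c33 LD3_c28)) :=
  Lre_e IH (LK LD1_c3 LD2_c46 LD3_c12) (LK LD1_c7 LD2_c33 LD3_c28) Lrfl Lrfl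
theorem f89145 : Led Lsl_dt (LP (LK LD1_c7 LD2_c33 LD3_c28)) = (LP (LK LD1_c14 LD2_c15 LD3_c15)) :=
  Lre_d IH (LK LD1_c7 LD2_c33 LD3_c28) (LK LD1_c14 LD2_c15 LD3_c15) Lrfl Lrfl
theorem f89146 : Led Lsl_ef (LP (LK LD1_c7 LD2_c35 LD3_c0)) = (LP (LK LD1_c14 LD2_c15 LD3_c15)) :=
  Lgr Lrot73 (Lpr_dt (f89143 IH) (Lpr_et (f89141 IH) (Lpr_dt (K29.f85274 IH) (Lpr_et (f89144 IH) (Lpr_dt (f89145 IH) (Lpn (LP (LK LD1_c14 LD2_c15 LD3_c15))))))))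
theorem f89148 : Led Lsl_bt (LP (LK LD1_c7 LD2_c35 LD3_c0)) = (LP (LK LD1_c14 LD2_c17 LD3_c58)) :=
  Lre_b IH (LK LD1_c7 LD2_c35 LD3_c0) (LK LD1_c14 LD2_c17 LD3_c58) Lrfl Lrfl
theorem f89149 : Led Lsl_bt (LP (LK LD1_c23 LD2_c51 LD3_c42)) = (LP (LK LD1_c14 LD2_c15 LD3_c15)) :=
  Lre_b IH (LK LD1_c23 LD2_c51 LD3_c42) (LK LD1_c14 LD2_c15 LD3_c15) Lrfl Lrfl
theorem f89150 : Led Lsl_et (LP (LK LD1_c14 LD2_c17 LD3_c58)) = (LP (LK LD1_c23 LD2_c51 LD3_c42)) :=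
  Lgr Lrot74 (Lpe (f89148 IH) (Lpr_ef (f89146 IH) (Lpe (f89149 IH) (Lpn (LP (LK LD1_c23 LD2_c51 LD3_c42))))))
theorem f89169 : Led Lsl_ef (LP (LK LD1_c14 LD2_c17 LD3_c58)) = (LP (LK LD1_c23 LD2_c51 LD3_c42)) :=
  Lgr Lrot88 (Lpr_et (f89150 IH) (Lpn (LP (LK LD1_c23 LD2_c51 LD3_c42))))
theorem f89176 : Led Lsl_ct (LP (LK LD1_c31 LD2_c15 LD3_c31)) = (LP (LK LD1_c23 LD2_c51 LD3_c42)) :=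
  Lre_c IH (LK LD1_c31 LD2_c15 LD3_c31) (LK LD1_c23 LD2_c51 LD3_c42) Lrfl Lrfl
theorem f89177 : Led Lsl_et (LP (LK LD1_c23 LD2_c55 LD3_c44)) = (LP (LK LD1_c31 LD2_c15 LD3_c31)) :=
  Lgr Lrot158 (Lpe (f89175 IH) (Lpr_ef (f89169 IH) (Lpe (f89176 IH) (Lpn (LP (LK LD1_c31 LD2_c15 LD3_c31))))))
theorem f516019 : Led Lsl_af (LP (LK LD1_c30 LD2_c27 LD3_c3)) = (LP (LK LD1_c31 LD2_c15 LD3_c31)) :=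
  Lgr Lrot50 (Lpr_et (f484941 IH) (Lpr_at (f516012 IH) (Lpr_et (f89177 IH) (Lpn (LP (LK LD1_c31 LD2_c15 LD3_c31))))))
theorem f516093 : Led Lsl_ct (LP (LK LD1_c30 LD2_c27 LD3_c3)) = (LP (LK LD1_c22 LD2_c21 LD3_c33)) :=
  Lre_c IH (LK LD1_c30 LD2_c27 LD3_c3) (LK LD1_c22 LD2_c21 LD3_c33) Lrfl Lrfl
theorem f89163 : Led Lsl_ct (LP (LK LD1_c23 LD2_c51 LD3_c42)) = (LP (LK LD1_c31 LD2_c15 LD3_c31)) :=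
  Lre_c IH (LK LD1_c23 LD2_c51 LD3_c42) (LK LD1_c31 LD2_c15 LD3_c31) Lrfl Lrfl
theorem f516094 : Led Lsl_at (LP (LK LD1_c22 LD2_c21 LD3_c33)) = (LP (LK LD1_c23 LD2_c51 LD3_c42)) :=
  Lgr Lrot107 (Lpe (f516093 IH) (Lpr_af (f516019 IH) (Lpe (f89163 IH) (Lpn (LP (LK LD1_c23 LD2_c51 LD3_c42))))))
theorem f64739 : Led Lsl_at (LP (LK LD1_c14 LD2_c24 LD3_c28)) = (LP (LK LD1_c24 LD2_c3 LD3_c22)) :=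
  Lre_a IH (LK LD1_c14 LD2_c24 LD3_c28) (LK LD1_c24 LD2_c3 LD3_c22) Lrfl Lrfl
theorem f64705 : Led Lsl_bt (LP (LK LD1_c7 LD2_c38 LD3_c44)) = (LP (LK LD1_c14 LD2_c24 LD3_c28)) :=
  Lre_b IH (LK LD1_c7 LD2_c38 LD3_c44) (LK LD1_c14 LD2_c24 LD3_c28) Lrfl Lrfl
theorem f516258 : Led Lsl_at (LP (LK LD1_c14 LD2_c15 LD3_c15)) = (LP (LK LD1_c7 LD2_c38 LD3_c44)) :=
  Lgr Lrot67 (Lpe (f89149 IH) (Lpe (f516094 IH) (Lpr_bf (f516256 IH) (Lpe (f64739 IH) (Lpe (f64705 IH) (Lpn (LP (LK LD1_c7 LD2_c38 LD3_c44))))))))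
theorem f88561 : Led Lsl_dt (LP (LK LD1_c3 LD2_c47 LD3_c4)) = (LP (LK LD1_c7 LD2_c35 LD3_c0)) :=
  Lre_d IH (LK LD1_c3 LD2_c47 LD3_c4) (LK LD1_c7 LD2_c35 LD3_c0) Lrfl Lrfl
theorem f89137 : Led Lsl_et (LP (LK LD1_c7 LD2_c33 LD3_c28)) = (LP (LK LD1_c3 LD2_c46 LD3_c12)) :=
  Lre_e IH (LK LD1_c7 LD2_c33 LD3_c28) (LK LD1_c3 LD2_c46 LD3_c12) Lrfl Lrfl
theorem f89138 : Led Lsl_dt (LP (LK LD1_c14 LD2_c15 LD3_c15)) = (LP (LK LD1_c7 LD2_c33 LD3_c28)) :=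
  Lre_d IH (LK LD1_c14 LD2_c15 LD3_c15) (LK LD1_c7 LD2_c33 LD3_c28) Lrfl Lrfl
theorem f89139 : Led Lsl_et (LP (LK LD1_c7 LD2_c35 LD3_c0)) = (LP (LK LD1_c14 LD2_c15 LD3_c15)) :=
  Lgr Lrot71 (Lpe (f88561 IH) (Lpr_ef (f89133 IH) (Lpe (K29.f89136 IH) (Lpe (f89137 IH) (Lpe (f89138 IH) (Lpn (LP (LK LD1_c14 LD2_c15 LD3_c15))))))))
theorem f62750 : Led Lsl_et (LP (LK LD1_c7 LD2_c38 LD3_c44)) = (LP (LK LD1_c3 LD2_c48 LD3_c47)) :=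
  Lre_e IH (LK LD1_c7 LD2_c38 LD3_c44) (LK LD1_c3 LD2_c48 LD3_c47) Lrfl Lrfl
theorem f516265 : Led Lsl_af (LP (LK LD1_c7 LD2_c35 LD3_c0)) = (LP (LK LD1_c3 LD2_c48 LD3_c47)) :=
  Lgr Lrot50 (Lpr_et (f89139 IH) (Lpr_at (f516258 IH) (Lpr_et (f62750 IH) (Lpn (LP (LK LD1_c3 LD2_c48 LD3_c47))))))
theorem f516270 : Led Lsl_at (LP (LK LD1_c3 LD2_c47 LD3_c4)) = (LP (LK LD1_c1 LD2_c51 LD3_c23)) :=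
  Lgr Lrot51 (Lpe (f89143 IH) (Lpr_af (f516265 IH) (Lpe (K5.f62706 IH) (Lpn (LP (LK LD1_c1 LD2_c51 LD3_c23))))))
theorem f516272 : Led Lsl_af (LP (LK LD1_c7 LD2_c33 LD3_c27)) = (LP (LK LD1_c3 LD2_c48 LD3_c48)) :=
  Lgr Lrot50 (Lpe (f89133 IH) (Lpr_at (f516270 IH) (Lpr_et (K29.f62753 IH) (Lpn (LP (LK LD1_c3 LD2_c48 LD3_c48))))))
theorem f474241 : Led Lsl_gt (LP (LK LD1_c7 LD2_c33 LD3_c23)) = (LP (LK LD1_c3 LD2_c53 LD3_c21)) :=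
  Lgr Lrot46 (Lpr_gf (K29.f474239 IH) (Lpe (K29.f473691 IH) (Lpr_at (K29.f474068 IH) (Lpn (LP (LK LD1_c3 LD2_c53 LD3_c21))))))
theorem f516669 : Led Lsl_ft (LP (LK LD1_c7 LD2_c33 LD3_c23)) = (LP (LK LD1_c3 LD2_c48 LD3_c48)) :=
  Lgr Lrot2 (Lpr_gt (f474241 IH) (Lpr_gt (K29.f474403 IH) (Lpr_af (f516272 IH) (Lpn (LP (LK LD1_c3 LD2_c48 LD3_c48))))))
theorem f516675 : Led Lsl_ff (LP (LK LD1_c7 LD2_c33 LD3_c23)) = (LP (LK LD1_c3 LD2_c48 LD3_c48)) :=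
  Lgr Lrot3 (Lpr_ft (f516669 IH) (Lpn (LP (LK LD1_c3 LD2_c48 LD3_c48))))
theorem f88085 : Led Lsl_gt (LP (LK LD1_c1 LD2_c53 LD3_c13)) = (LP (LK LD1_c3 LD2_c53 LD3_c19)) :=
  Lre_g IH (LK LD1_c1 LD2_c53 LD3_c13) (LK LD1_c3 LD2_c53 LD3_c19) Lrfl Lrfl
theorem f516682 : Led Lsl_at (LP (LK LD1_c7 LD2_c33 LD3_c23)) = (LP (LK LD1_c3 LD2_c53 LD3_c19)) :=
  Lgr Lrot26 (Lpr_ff (f516675 IH) (Lpe (K29.f474292 IH) (Lpr_gt (f88085 IH) (Lpn (LP (LK LD1_c3 LD2_c53 LD3_c19))))))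
theorem f516663 : Led Lsl_at (LP (LK LD1_c7 LD2_c33 LD3_c27)) = (LP (LK LD1_c3 LD2_c48 LD3_c48)) :=
  Lgr Lrot100 (Lpr_af (f516272 IH) (Lpn (LP (LK LD1_c3 LD2_c48 LD3_c48))))
theorem f516688 : Led Lsl_ff (LP (LK LD1_c7 LD2_c33 LD3_c27)) = (LP (LK LD1_c3 LD2_c53 LD3_c19)) :=
  Lgr Lrot30 (Lpr_at (f516663 IH) (Lpe (f516675 IH) (Lpr_at (f516682 IH) (Lpn (LP (LK LD1_c3 LD2_c53 LD3_c19))))))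
theorem f516694 : Led Lsl_ft (LP (LK LD1_c7 LD2_c33 LD3_c27)) = (LP (LK LD1_c3 LD2_c53 LD3_c19)) :=
  Lgr Lrot48 (Lpr_ff (f516688 IH) (Lpn (LP (LK LD1_c3 LD2_c53 LD3_c19))))
theorem f474416 : Led Lsl_df (LP (LK LD1_c7 LD2_c1 LD3_c6)) = (LP (LK LD1_c3 LD2_c53 LD3_c19)) :=
  Lgr Lrot153 (Lpr_gt (K29.f109674 IH) (Lpr_dt (K3.f85238 IH) (Lpe (K3.f85234 IH) (Lpr_df (K3.f85229 IH) (Lpq (K28.f467667 IH) (Lpe (K28.f457176 IH) (Lpe (K28.f451583 IH) (Lpr_gf (K29.f474412 IH) (Lpe (K29.f466944 IH) (Lpr_gt (f88085 IH) (Lpn (LP (LK LD1_c3 LD2_c53 LD3_c19)))))))))))))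
theorem f516698 : Led Lsl_ff (LP (LK LD1_c3 LD2_c46 LD3_c12)) = (LP (LK LD1_c7 LD2_c1 LD3_c6)) :=
  Lgr Lrot19 (Lpr_dt (K29.f89136 IH) (Lpr_ft (f516694 IH) (Lpe (f474416 IH) (Lpn (LP (LK LD1_c7 LD2_c1 LD3_c6))))))
theorem f516706 : Led Lsl_ft (LP (LK LD1_c7 LD2_c33 LD3_c28)) = (LP (LK LD1_c14 LD2_c15 LD3_c16)) :=
  Lre_f IH (LK LD1_c7 LD2_c33 LD3_c28) (LK LD1_c14 LD2_c15 LD3_c16) Lrfl Lrfl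
theorem f109683 : Led Lsl_et (LP (LK LD1_c13 LD2_c18 LD3_c50)) = (LP (LK LD1_c7 LD2_c1 LD3_c6)) :=
  Lre_e IH (LK LD1_c13 LD2_c18 LD3_c50) (LK LD1_c7 LD2_c1 LD3_c6) Lrfl Lrfl
theorem f516707 : Led Lsl_ft (LP (LK LD1_c22 LD2_c35 LD3_c5)) = (LP (LK LD1_c13 LD2_c18 LD3_c50)) :=
  Lre_f IH (LK LD1_c22 LD2_c35 LD3_c5) (LK LD1_c13 LD2_c18 LD3_c50) Lrfl Lrfl
theorem f516708 : Led Lsl_et (LP (LK LD1_c14 LD2_c15 LD3_c16)) = (LP (LK LD1_c22 LD2_c35 LD3_c5)) :=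
  Lgr Lrot69 (Lpe (f516706 IH) (Lpe (f89144 IH) (Lpr_ff (f516698 IH) (Lpe (f109683 IH) (Lpe (f516707 IH) (Lpn (LP (LK LD1_c22 LD2_c35 LD3_c5))))))))
theorem f516719 : Led Lsl_ef (LP (LK LD1_c14 LD2_c15 LD3_c16)) = (LP (LK LD1_c22 LD2_c35 LD3_c5)) :=
  Lgr Lrot88 (Lpr_et (f516708 IH) (Lpn (LP (LK LD1_c22 LD2_c35 LD3_c5))))
theorem f516725 : Led Lsl_ct (LP (LK LD1_c14 LD2_c15 LD3_c16)) = (LP (LK LD1_c23 LD2_c51 LD3_c50)) :=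
  Lre_c IH (LK LD1_c14 LD2_c15 LD3_c16) (LK LD1_c23 LD2_c51 LD3_c50) Lrfl Lrfl
theorem f516726 : Led Lsl_ct (LP (LK LD1_c30 LD2_c35 LD3_c42)) = (LP (LK LD1_c22 LD2_c35 LD3_c5)) :=
  Lre_c IH (LK LD1_c30 LD2_c35 LD3_c42) (LK LD1_c22 LD2_c35 LD3_c5) Lrfl Lrfl
theorem f516727 : Led Lsl_et (LP (LK LD1_c23 LD2_c51 LD3_c50)) = (LP (LK LD1_c30 LD2_c35 LD3_c42)) :=
  Lgr Lrot158 (Lpe (f516725 IH) (Lpr_ef (f516719 IH) (Lpe (f516726 IH) (Lpn (LP (LK LD1_c30 LD2_c35 LD3_c42))))))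
theorem f516733 : Led Lsl_ft (LP (LK LD1_c14 LD2_c15 LD3_c13)) = (LP (LK LD1_c23 LD2_c51 LD3_c50)) :=
  Lre_f IH (LK LD1_c14 LD2_c15 LD3_c13) (LK LD1_c23 LD2_c51 LD3_c50) Lrfl Lrfl
theorem f483372 : Led Lsl_et (LP (LK LD1_c7 LD2_c33 LD3_c26)) = (LP (LK LD1_c14 LD2_c15 LD3_c13)) :=
  Lre_e IH (LK LD1_c7 LD2_c33 LD3_c26) (LK LD1_c14 LD2_c15 LD3_c13) Lrfl Lrfl
theorem f516734 : Led Lsl_ft (LP (LK LD1_c30 LD2_c35 LD3_c42)) = (LP (LK LD1_c22 LD2_c35 LD3_c1)) :=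
  Lre_f IH (LK LD1_c30 LD2_c35 LD3_c42) (LK LD1_c22 LD2_c35 LD3_c1) Lrfl Lrfl
theorem f474889 : Led Lsl_et (LP (LK LD1_c22 LD2_c35 LD3_c1)) = (LP (LK LD1_c13 LD2_c18 LD3_c49)) :=
  Lre_e IH (LK LD1_c22 LD2_c35 LD3_c1) (LK LD1_c13 LD2_c18 LD3_c49) Lrfl Lrfl
theorem f516735 : Led Lsl_ff (LP (LK LD1_c7 LD2_c33 LD3_c26)) = (LP (LK LD1_c13 LD2_c18 LD3_c49)) :=
  Lgr Lrot72 (Lpr_et (f483372 IH) (Lpr_ft (f516733 IH) (Lpr_et (f516727 IH) (Lpr_ft (f516734 IH) (Lpr_et (f474889 IH) (Lpn (LP (LK LD1_c13 LD2_c18 LD3_c49))))))))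
theorem f516741 : Led Lsl_at (LP (LK LD1_c7 LD2_c33 LD3_c26)) = (LP (LK LD1_c13 LD2_c18 LD3_c52)) :=
  Lgr Lrot26 (Lpr_ff (f516735 IH) (Lpr_gt (K29.f482930 IH) (Lpe (K29.f482940 IH) (Lpn (LP (LK LD1_c13 LD2_c18 LD3_c52))))))
theorem f441359 : Led Lsl_ct (LP (LK LD1_c3 LD2_c46 LD3_c12)) = (LP (LK LD1_c7 LD2_c33 LD3_c26)) :=
  Lre_c IH (LK LD1_c3 LD2_c46 LD3_c12) (LK LD1_c7 LD2_c33 LD3_c26) Lrfl Lrfl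
theorem f483339 : Led Lsl_gt (LP (LK LD1_c7 LD2_c33 LD3_c26)) = (LP (LK LD1_c7 LD2_c1 LD3_c47)) :=
  Lgr Lrot150 (Lpe (f441359 IH) (Lpe (K29.f441357 IH) (Lpe (K29.f109671 IH) (Lpr_gt (K29.f441418 IH) (Lpr_ct (K29.f483333 IH) (Lpr_gt (K29.f94335 IH) (Lpr_ct (K29.f115966 IH) (Lpe (K32.f441017 IH) (Lpe (K29.f115764 IH) (Lpn (LP (LK LD1_c7 LD2_c1 LD3_c47))))))))))))
theorem f474683 : Led Lsl_at (LP (LK LD1_c3 LD2_c42 LD3_c1)) = (LP (LK LD1_c7 LD2_c1 LD3_c11)) :=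
  Lgr Lrot51 (Lpe (K29.f456291 IH) (Lpr_af (K29.f474680 IH) (Lpe (K29.f440744 IH) (Lpn (LP (LK LD1_c7 LD2_c1 LD3_c11))))))
theorem f458715 : Led Lsl_ft (LP (LK LD1_c3 LD2_c41 LD3_c60)) = (LP (LK LD1_c3 LD2_c42 LD3_c1)) :=
  Lgr Lrot54 (Lpe (K29.f457179 IH) (Lpr_ff (K29.f458713 IH) (Lpe (K29.f4496 IH) (Lpn (LP (LK LD1_c3 LD2_c42 LD3_c1))))))
theorem f458753 : Led Lsl_gt (LP (LK LD1_c3 LD2_c41 LD3_c60)) = (LP (LK LD1_c7 LD2_c24 LD3_c43)) :=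
  Lre_g IH (LK LD1_c3 LD2_c41 LD3_c60) (LK LD1_c7 LD2_c24 LD3_c43) Lrfl Lrfl
theorem f474709 : Led Lsl_gt (LP (LK LD1_c7 LD2_c24 LD3_c43)) = (LP (LK LD1_c7 LD2_c1 LD3_c11)) :=
  Lgr Lrot46 (Lpe (f458753 IH) (Lpr_ft (f458715 IH) (Lpr_at (f474683 IH) (Lpn (LP (LK LD1_c7 LD2_c1 LD3_c11))))))
theorem f474712 : Led Lsl_ct (LP (LK LD1_c14 LD2_c1 LD3_c10)) = (LP (LK LD1_c7 LD2_c24 LD3_c43)) :=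
  Lre_c IH (LK LD1_c14 LD2_c1 LD3_c10) (LK LD1_c7 LD2_c24 LD3_c43) Lrfl Lrfl
theorem f440694 : Led Lsl_ct (LP (LK LD1_c7 LD2_c33 LD3_c26)) = (LP (LK LD1_c3 LD2_c46 LD3_c12)) :=
  Lre_c IH (LK LD1_c7 LD2_c33 LD3_c26) (LK LD1_c3 LD2_c46 LD3_c12) Lrfl Lrfl
theorem f474330 : Led Lsl_ct (LP (LK LD1_c3 LD2_c46 LD3_c6)) = (LP (LK LD1_c7 LD2_c33 LD3_c12)) :=
  Lre_c IH (LK LD1_c3 LD2_c46 LD3_c6) (LK LD1_c7 LD2_c33 LD3_c12) Lrfl Lrfl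
theorem f441020 : Led Lsl_af (LP (LK LD1_c13 LD2_c20 LD3_c1)) = (LP (LK LD1_c13 LD2_c20 LD3_c2)) :=
  Lgr Lrot117 (Lpr_dt (K29.f115976 IH) (Lpr_at (K29.f115980 IH) (Lpe (K29.f115973 IH) (Lpn (LP (LK LD1_c13 LD2_c20 LD3_c2))))))
theorem f441023 : Led Lsl_ft (LP (LK LD1_c13 LD2_c20 LD3_c1)) = (LP (LK LD1_c12 LD2_c34 LD3_c57)) :=
  Lgr Lrot101 (Lpr_af (f441020 IH) (Lpe (K29.f115975 IH) (Lpe (K29.f115765 IH) (Lpn (LP (LK LD1_c12 LD2_c34 LD3_c57))))))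
theorem f483352 : Led Lsl_gf (LP (LK LD1_c7 LD2_c33 LD3_c26)) = (LP (LK LD1_c13 LD2_c20 LD3_c1)) :=
  Lgr Lrot47 (Lpr_gt (f483339 IH) (Lpe (K29.f115765 IH) (Lpe (f441023 IH) (Lpn (LP (LK LD1_c13 LD2_c20 LD3_c1))))))
theorem f483354 : Led Lsl_df (LP (LK LD1_c7 LD2_c33 LD3_c12)) = (LP (LK LD1_c7 LD2_c33 LD3_c26)) :=
  Lgr Lrot84 (Lpe (f474330 IH) (Lpe (K29.f88002 IH) (Lpe (K5.f87936 IH) (Lpe (K29.f85261 IH) (Lpe (K29.f85273 IH) (Lpe (f440694 IH) (Lpr_gt (f483339 IH) (Lpr_dt (K29.f115970 IH) (Lpe (f483352 IH) (Lpn (LP (LK LD1_c7 LD2_c33 LD3_c26))))))))))))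
theorem f483356 : Led Lsl_gt (LP (LK LD1_c7 LD2_c33 LD3_c12)) = (LP (LK LD1_c14 LD2_c1 LD3_c10)) :=
  Lgr Lrot9 (Lpr_df (f483354 IH) (Lpr_gt (f483339 IH) (Lpr_ct (K29.f115764 IH) (Lpr_gt (K32.f63888 IH) (Lpr_ct (K32.f481886 IH) (Lpr_df (K29.f474534 IH) (Lpe (K29.f442187 IH) (Lpe (f474709 IH) (Lpe (f474712 IH) (Lpn (LP (LK LD1_c14 LD2_c1 LD3_c10))))))))))))
theorem f483358 : Led Lsl_df (LP (LK LD1_c7 LD2_c33 LD3_c26)) = (LP (LK LD1_c7 LD2_c33 LD3_c12)) :=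
  Lgr Lrot155 (Lpr_gt (f483339 IH) (Lpr_ct (K29.f115764 IH) (Lpr_gt (K32.f63888 IH) (Lpr_ct (K32.f481886 IH) (Lpr_dt (K29.f474542 IH) (Lpe (K29.f442187 IH) (Lpe (f474709 IH) (Lpe (f474712 IH) (Lpe (f483356 IH) (Lpn (LP (LK LD1_c7 LD2_c33 LD3_c12))))))))))))
theorem f474565 : Led Lsl_df (LP (LK LD1_c13 LD2_c18 LD3_c40)) = (LP (LK LD1_c13 LD2_c18 LD3_c52)) :=
  Lgr Lrot162 (Lpe (K29.f464155 IH) (Lpe (K29.f474306 IH) (Lpe (K29.f474441 IH) (Lpr_gf (K29.f474561 IH) (Lpe (K29.f474534 IH) (Lpr_gt (K29.f440721 IH) (Lpr_ct (K3.f85239 IH) (Lpe (K29.f109697 IH) (Lpr_ct (K29.f64679 IH) (Lpn (LP (LK LD1_c13 LD2_c18 LD3_c52))))))))))))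
theorem f516747 : Led Lsl_af (LP (LK LD1_c7 LD2_c33 LD3_c12)) = (LP (LK LD1_c13 LD2_c18 LD3_c40)) :=
  Lgr Lrot117 (Lpe (f483358 IH) (Lpr_at (f516741 IH) (Lpe (f474565 IH) (Lpn (LP (LK LD1_c13 LD2_c18 LD3_c40))))))
theorem f441422 : Led Lsl_ct (LP (LK LD1_c3 LD2_c46 LD3_c9)) = (LP (LK LD1_c7 LD2_c33 LD3_c18)) :=
  Lre_c IH (LK LD1_c3 LD2_c46 LD3_c9) (LK LD1_c7 LD2_c33 LD3_c18) Lrfl Lrfl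
theorem f483010 : Led Lsl_gt (LP (LK LD1_c7 LD2_c33 LD3_c18)) = (LP (LK LD1_c14 LD2_c1 LD3_c11)) :=
  Lgr Lrot94 (Lpe (f441422 IH) (Lpe (K29.f474328 IH) (Lpr_dt (K29.f474326 IH) (Lpe (K29.f64673 IH) (Lpr_dt (K29.f64646 IH) (Lpe (K29.f64680 IH) (Lpe (K29.f474563 IH) (Lpr_gf (K29.f482944 IH) (Lpe (K29.f474738 IH) (Lpn (LP (LK LD1_c14 LD2_c1 LD3_c11))))))))))))
theorem f516769 : Led Lsl_ft (LP (LK LD1_c7 LD2_c33 LD3_c18)) = (LP (LK LD1_c13 LD2_c18 LD3_c40)) :=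
  Lgr Lrot2 (Lpr_gt (f483010 IH) (Lpe (K29.f483012 IH) (Lpr_af (f516747 IH) (Lpn (LP (LK LD1_c13 LD2_c18 LD3_c40))))))
theorem f516780 : Led Lsl_ff (LP (LK LD1_c7 LD2_c33 LD3_c18)) = (LP (LK LD1_c13 LD2_c18 LD3_c40)) :=
  Lgr Lrot3 (Lpr_ft (f516769 IH) (Lpn (LP (LK LD1_c13 LD2_c18 LD3_c40))))
theorem f478302 : Led Lsl_gt (LP (LK LD1_c6 LD2_c34 LD3_c9)) = (LP (LK LD1_c7 LD2_c33 LD3_c41)) :=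
  Lgr Lrot49 (Lpe (K4.f62837 IH) (Lpr_gf (K29.f478295 IH) (Lpe (K29.f12854 IH) (Lpr_gt (K29.f459355 IH) (Lpqs (K29.f466750 IH) (Lpr_dt (K29.f85021 IH) (Lpr_gt (K29.f85269 IH) (Lpr_dt (K29.f85270 IH) (Lpe (K29.f85271 IH) (Lpe (K29.f85272 IH) (Lpn (LP (LK LD1_c7 LD2_c33 LD3_c41)))))))))))))
theorem f456307 : Led Lsl_ct (LP (LK LD1_c3 LD2_c42 LD3_c1)) = (LP (LK LD1_c7 LD2_c24 LD3_c52)) :=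
  Lre_c IH (LK LD1_c3 LD2_c42 LD3_c1) (LK LD1_c7 LD2_c24 LD3_c52) Lrfl Lrfl
theorem f478462 : Led Lsl_ct (LP (LK LD1_c7 LD2_c46 LD3_c6)) = (LP (LK LD1_c3 LD2_c52 LD3_c9)) :=
  Lre_c IH (LK LD1_c7 LD2_c46 LD3_c6) (LK LD1_c3 LD2_c52 LD3_c9) Lrfl Lrfl
theorem f482946 : Led Lsl_gt (LP (LK LD1_c13 LD2_c18 LD3_c40)) = (LP (LK LD1_c7 LD2_c46 LD3_c6)) :=
  Lgr Lrot9 (Lpr_df (f474565 IH) (Lpr_gt (K29.f482942 IH) (Lpr_ct (K4.f65511 IH) (Lpr_gt (f478302 IH) (Lpr_ct (K29.f474395 IH) (Lpe (K29.f474342 IH) (Lpe (f456307 IH) (Lpe (K32.f478458 IH) (Lpe (f478462 IH) (Lpn (LP (LK LD1_c7 LD2_c46 LD3_c6))))))))))))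
theorem f441376 : Led Lsl_ct (LP (LK LD1_c7 LD2_c1 LD3_c4)) = (LP (LK LD1_c13 LD2_c18 LD3_c46)) :=
  Lre_c IH (LK LD1_c7 LD2_c1 LD3_c4) (LK LD1_c13 LD2_c18 LD3_c46) Lrfl Lrfl
theorem f474870 : Led Lsl_df (LP (LK LD1_c13 LD2_c18 LD3_c49)) = (LP (LK LD1_c13 LD2_c18 LD3_c46)) :=
  Lgr Lrot162 (Lpe (K29.f109676 IH) (Lpe (K29.f89661 IH) (Lpe (K29.f109654 IH) (Lpe (K29.f109667 IH) (Lpe (K29.f474451 IH) (Lpr_gt (K29.f458742 IH) (Lpr_ct (K29.f474523 IH) (Lpe (K29.f474432 IH) (Lpr_ct (f441376 IH) (Lpn (LP (LK LD1_c13 LD2_c18 LD3_c46))))))))))))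
theorem f482936 : Led Lsl_gf (LP (LK LD1_c13 LD2_c18 LD3_c46)) = (LP (LK LD1_c7 LD2_c46 LD3_c6)) :=
  Lgr Lrot144 (Lpe (f474870 IH) (Lpr_gt (K29.f482930 IH) (Lpr_dt (K4.f115968 IH) (Lpe (K29.f65513 IH) (Lpe (K4.f62837 IH) (Lpr_gf (K29.f478295 IH) (Lpe (K29.f4496 IH) (Lpe (K32.f478458 IH) (Lpe (f478462 IH) (Lpn (LP (LK LD1_c7 LD2_c46 LD3_c6))))))))))))
theorem f516789 : Led Lsl_at (LP (LK LD1_c7 LD2_c33 LD3_c18)) = (LP (LK LD1_c13 LD2_c18 LD3_c46)) :=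
  Lgr Lrot26 (Lpr_ff (f516780 IH) (Lpr_gt (f482946 IH) (Lpe (f482936 IH) (Lpn (LP (LK LD1_c13 LD2_c18 LD3_c46))))))
theorem f516761 : Led Lsl_at (LP (LK LD1_c7 LD2_c33 LD3_c12)) = (LP (LK LD1_c13 LD2_c18 LD3_c40)) :=
  Lgr Lrot100 (Lpr_af (f516747 IH) (Lpn (LP (LK LD1_c13 LD2_c18 LD3_c40))))
theorem f516799 : Led Lsl_ff (LP (LK LD1_c7 LD2_c33 LD3_c12)) = (LP (LK LD1_c13 LD2_c18 LD3_c46)) :=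
  Lgr Lrot30 (Lpr_at (f516761 IH) (Lpe (f516780 IH) (Lpr_at (f516789 IH) (Lpn (LP (LK LD1_c13 LD2_c18 LD3_c46))))))
theorem f483369 : Led Lsl_et (LP (LK LD1_c7 LD2_c33 LD3_c12)) = (LP (LK LD1_c14 LD2_c14 LD3_c44)) :=
  Lre_e IH (LK LD1_c7 LD2_c33 LD3_c12) (LK LD1_c14 LD2_c14 LD3_c44) Lrfl Lrfl
theorem f516805 : Led Lsl_ft (LP (LK LD1_c14 LD2_c14 LD3_c44)) = (LP (LK LD1_c23 LD2_c50 LD3_c46)) :=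
  Lre_f IH (LK LD1_c14 LD2_c14 LD3_c44) (LK LD1_c23 LD2_c50 LD3_c46) Lrfl Lrfl
theorem f474876 : Led Lsl_et (LP (LK LD1_c22 LD2_c34 LD3_c56)) = (LP (LK LD1_c13 LD2_c18 LD3_c46)) :=
  Lre_e IH (LK LD1_c22 LD2_c34 LD3_c56) (LK LD1_c13 LD2_c18 LD3_c46) Lrfl Lrfl
theorem f516806 : Led Lsl_ft (LP (LK LD1_c30 LD2_c35 LD3_c34)) = (LP (LK LD1_c22 LD2_c34 LD3_c56)) :=
  Lre_f IH (LK LD1_c30 LD2_c35 LD3_c34) (LK LD1_c22 LD2_c34 LD3_c56) Lrfl Lrfl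
theorem f516807 : Led Lsl_et (LP (LK LD1_c23 LD2_c50 LD3_c46)) = (LP (LK LD1_c30 LD2_c35 LD3_c34)) :=
  Lgr Lrot69 (Lpe (f516805 IH) (Lpe (f483369 IH) (Lpr_ff (f516799 IH) (Lpe (f474876 IH) (Lpe (f516806 IH) (Lpn (LP (LK LD1_c30 LD2_c35 LD3_c34))))))))
theorem f516812 : Led Lsl_ef (LP (LK LD1_c23 LD2_c50 LD3_c46)) = (LP (LK LD1_c30 LD2_c35 LD3_c34)) :=
  Lgr Lrot88 (Lpr_et (f516807 IH) (Lpn (LP (LK LD1_c30 LD2_c35 LD3_c34))))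
theorem f88070 : Led Lsl_ct (LP (LK LD1_c23 LD2_c50 LD3_c46)) = (LP (LK LD1_c14 LD2_c14 LD3_c47)) :=
  Lre_c IH (LK LD1_c23 LD2_c50 LD3_c46) (LK LD1_c14 LD2_c14 LD3_c47) Lrfl Lrfl
theorem f472431 : Led Lsl_ct (LP (LK LD1_c22 LD2_c34 LD3_c59)) = (LP (LK LD1_c30 LD2_c35 LD3_c34)) :=
  Lre_c IH (LK LD1_c22 LD2_c34 LD3_c59) (LK LD1_c30 LD2_c35 LD3_c34) Lrfl Lrfl
theorem f516814 : Led Lsl_et (LP (LK LD1_c14 LD2_c14 LD3_c47)) = (LP (LK LD1_c22 LD2_c34 LD3_c59)) :=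
  Lgr Lrot158 (Lpe (f88070 IH) (Lpr_ef (f516812 IH) (Lpe (f472431 IH) (Lpn (LP (LK LD1_c22 LD2_c34 LD3_c59))))))
theorem f88038 : Led Lsl_ft (LP (LK LD1_c7 LD2_c33 LD3_c13)) = (LP (LK LD1_c14 LD2_c14 LD3_c47)) :=
  Lre_f IH (LK LD1_c7 LD2_c33 LD3_c13) (LK LD1_c14 LD2_c14 LD3_c47) Lrfl Lrfl
theorem f88083 : Led Lsl_et (LP (LK LD1_c3 LD2_c46 LD3_c6)) = (LP (LK LD1_c7 LD2_c33 LD3_c13)) :=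
  Lre_e IH (LK LD1_c3 LD2_c46 LD3_c6) (LK LD1_c7 LD2_c33 LD3_c13) Lrfl Lrfl
theorem f472429 : Led Lsl_ft (LP (LK LD1_c22 LD2_c34 LD3_c59)) = (LP (LK LD1_c13 LD2_c18 LD3_c47)) :=
  Lre_f IH (LK LD1_c22 LD2_c34 LD3_c59) (LK LD1_c13 LD2_c18 LD3_c47) Lrfl Lrfl
theorem f472399 : Led Lsl_et (LP (LK LD1_c13 LD2_c18 LD3_c47)) = (LP (LK LD1_c7 LD2_c1 LD3_c4)) :=
  Lre_e IH (LK LD1_c13 LD2_c18 LD3_c47) (LK LD1_c7 LD2_c1 LD3_c4) Lrfl Lrfl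
theorem f516820 : Led Lsl_ff (LP (LK LD1_c3 LD2_c46 LD3_c6)) = (LP (LK LD1_c7 LD2_c1 LD3_c4)) :=
  Lgr Lrot72 (Lpr_et (f88083 IH) (Lpr_ft (f88038 IH) (Lpr_et (f516814 IH) (Lpr_ft (f472429 IH) (Lpr_et (f472399 IH) (Lpn (LP (LK LD1_c7 LD2_c1 LD3_c4))))))))
theorem f516826 : Led Lsl_ft (LP (LK LD1_c1 LD2_c50 LD3_c7)) = (LP (LK LD1_c3 LD2_c29 LD3_c44)) :=
  Lgr Lrot54 (Lpe (K29.f87954 IH) (Lpr_ff (f516820 IH) (Lpe (K29.f441375 IH) (Lpn (LP (LK LD1_c3 LD2_c29 LD3_c44))))))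
theorem f516834 : Led Lsl_af (LP (LK LD1_c1 LD2_c50 LD3_c8)) = (LP (LK LD1_c3 LD2_c29 LD3_c44)) :=
  Lgr Lrot31 (Lpe (K29.f441418 IH) (Lpr_gf (K29.f441413 IH) (Lpr_ft (f516826 IH) (Lpn (LP (LK LD1_c3 LD2_c29 LD3_c44))))))
theorem f474341 : Led Lsl_et (LP (LK LD1_c1 LD2_c50 LD3_c8)) = (LP (LK LD1_c3 LD2_c46 LD3_c10)) :=
  Lre_e IH (LK LD1_c1 LD2_c50 LD3_c8) (LK LD1_c3 LD2_c46 LD3_c10) Lrfl Lrfl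
theorem f516842 : Led Lsl_at (LP (LK LD1_c3 LD2_c46 LD3_c10)) = (LP (LK LD1_c7 LD2_c1 LD3_c5)) :=
  Lgr Lrot80 (Lpe (f474341 IH) (Lpr_af (f516834 IH) (Lpe (K30.f105567 IH) (Lpn (LP (LK LD1_c7 LD2_c1 LD3_c5))))))
theorem f92937 : Led Lsl_et (LP (LK LD1_c3 LD2_c46 LD3_c10)) = (LP (LK LD1_c1 LD2_c50 LD3_c8)) :=
  Lre_e IH (LK LD1_c3 LD2_c46 LD3_c10) (LK LD1_c1 LD2_c50 LD3_c8) Lrfl Lrfl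
theorem f94637 : Led Lsl_et (LP (LK LD1_c3 LD2_c25 LD3_c27)) = (LP (LK LD1_c6 LD2_c53 LD3_c3)) :=
  Lre_e IH (LK LD1_c3 LD2_c25 LD3_c27) (LK LD1_c6 LD2_c53 LD3_c3) Lrfl Lrfl
theorem f483337 : Led Lsl_cf (LP (LK LD1_c3 LD2_c46 LD3_c10)) = (LP (LK LD1_c6 LD2_c53 LD3_c3)) :=
  Lgr Lrot39 (Lpr_et (f92937 IH) (Lpr_ct (K29.f483333 IH) (Lpr_et (f94637 IH) (Lpn (LP (LK LD1_c6 LD2_c53 LD3_c3))))))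
theorem f482959 : Led Lsl_ct (LP (LK LD1_c7 LD2_c1 LD3_c5)) = (LP (LK LD1_c3 LD2_c38 LD3_c59)) :=
  Lgr Lrot59 (Lpr_cf (K30.f482954 IH) (Lpn (LP (LK LD1_c3 LD2_c38 LD3_c59))))
theorem f516849 : Led Lsl_af (LP (LK LD1_c6 LD2_c53 LD3_c3)) = (LP (LK LD1_c3 LD2_c38 LD3_c59)) :=
  Lgr Lrot68 (Lpe (f483337 IH) (Lpr_at (f516842 IH) (Lpr_ct (f482959 IH) (Lpn (LP (LK LD1_c3 LD2_c38 LD3_c59))))))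
theorem f517127 : Led Lsl_at (LP (LK LD1_c6 LD2_c53 LD3_c3)) = (LP (LK LD1_c3 LD2_c38 LD3_c59)) :=
  Lgr Lrot100 (Lpr_af (f516849 IH) (Lpn (LP (LK LD1_c3 LD2_c38 LD3_c59))))
theorem f481692 : Led Lsl_et (LP (LK LD1_c3 LD2_c38 LD3_c59)) = (LP (LK LD1_c1 LD2_c46 LD3_c25)) :=
  Lre_e IH (LK LD1_c3 LD2_c38 LD3_c59) (LK LD1_c1 LD2_c46 LD3_c25) Lrfl Lrfl
theorem f517129 : Led Lsl_af (LP (LK LD1_c3 LD2_c25 LD3_c27)) = (LP (LK LD1_c1 LD2_c46 LD3_c25)) :=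
  Lgr Lrot50 (Lpr_et (f94637 IH) (Lpr_at (f517127 IH) (Lpr_et (f481692 IH) (Lpn (LP (LK LD1_c1 LD2_c46 LD3_c25))))))
theorem f517133 : Led Lsl_ft (LP (LK LD1_c3 LD2_c25 LD3_c26)) = (LP (LK LD1_c1 LD2_c46 LD3_c25)) :=
  Lgr Lrot2 (Lpr_gt (K29.f115998 IH) (Lpe (K29.f441015 IH) (Lpr_af (f517129 IH) (Lpn (LP (LK LD1_c1 LD2_c46 LD3_c25))))))
theorem f4451 : Led Lsl_bt (LP (LK LD1_c1 LD2_c46 LD3_c25)) = (LP (LK LD1_c0 LD2_c49 LD3_c56)) :=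
  Lre_b IH (LK LD1_c1 LD2_c46 LD3_c25) (LK LD1_c0 LD2_c49 LD3_c56) Lrfl Lrfl
theorem f517135 : (LP (LK LD1_c1 LD2_c46 LD3_c8)) = K29.v736 :=
  (Llr Lrot61 (Lpr_bt (K29.f483257 IH) (Lpr_ft (f517133 IH) (Lpr_bt (f4451 IH) (Lpr_ft (K29.f456990 IH) (Lpn K29.v736)))))).symm
theorem f517140 : Led Lsl_ff (LP (LK LD1_c1 LD2_c46 LD3_c26)) = (LP (LK LD1_c3 LD2_c38 LD3_c20)) :=
  Lgr Lrot23 (Lpr_ct (K29.f4449 IH) (Lpr_ft (K29.f456990 IH) (Lpq (f517135 IH) (Lpr_ct (K29.f4070 IH) (Lpn (LP (LK LD1_c3 LD2_c38 LD3_c20)))))))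
theorem f517147 : Led Lsl_ft (LP (LK LD1_c1 LD2_c46 LD3_c26)) = (LP (LK LD1_c3 LD2_c38 LD3_c20)) :=
  Lgr Lrot48 (Lpr_ff (f517140 IH) (Lpn (LP (LK LD1_c3 LD2_c38 LD3_c20))))
theorem f517154 : Led Lsl_af (LP (LK LD1_c1 LD2_c46 LD3_c22)) = (LP (LK LD1_c3 LD2_c38 LD3_c20)) :=
  Lgr Lrot31 (Lpr_gf (K28.f467976 IH) (Lpr_gf (K29.f481460 IH) (Lpr_ft (f517147 IH) (Lpn (LP (LK LD1_c3 LD2_c38 LD3_c20))))))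
theorem f468008 : Led Lsl_et (LP (LK LD1_c1 LD2_c46 LD3_c22)) = (LP (LK LD1_c3 LD2_c38 LD3_c56)) :=
  Lre_e IH (LK LD1_c1 LD2_c46 LD3_c22) (LK LD1_c3 LD2_c38 LD3_c56) Lrfl Lrfl
theorem f517161 : Led Lsl_at (LP (LK LD1_c3 LD2_c38 LD3_c56)) = (LP (LK LD1_c7 LD2_c15 LD3_c39)) :=
  Lgr Lrot80 (Lpe (f468008 IH) (Lpr_af (f517154 IH) (Lpr_ef (K29.f93112 IH) (Lpn (LP (LK LD1_c7 LD2_c15 LD3_c39))))))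
theorem f517167 : Led Lsl_af (LP (LK LD1_c7 LD2_c18 LD3_c17)) = (LP (LK LD1_c13 LD2_c40 LD3_c32)) :=
  Lgr Lrot117 (Lpr_dt (K28.f97298 IH) (Lpr_at (f517161 IH) (Lpr_dt (K29.f481317 IH) (Lpn (LP (LK LD1_c13 LD2_c40 LD3_c32))))))
theorem f481198 : Led Lsl_af (LP (LK LD1_c7 LD2_c15 LD3_c9)) = (LP (LK LD1_c13 LD2_c39 LD3_c58)) :=
  Lgr Lrot45 (Lpr_ft (K29.f481052 IH) (Lpe (K28.f97972 IH) (Lpe (K28.f467966 IH) (Lpn (LP (LK LD1_c13 LD2_c39 LD3_c58))))))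
theorem f481397 : Led Lsl_at (LP (LK LD1_c7 LD2_c15 LD3_c9)) = (LP (LK LD1_c13 LD2_c39 LD3_c58)) :=
  Lgr Lrot100 (Lpr_af (f481198 IH) (Lpn (LP (LK LD1_c13 LD2_c39 LD3_c58))))
theorem f477972 : Led Lsl_ff (LP (LK LD1_c7 LD2_c15 LD3_c9)) = (LP (LK LD1_c3 LD2_c49 LD3_c10)) :=
  Lgr Lrot19 (Lpr_dt (K29.f477962 IH) (Lpr_ft (K29.f477960 IH) (Lpr_dt (K28.f11562 IH) (Lpn (LP (LK LD1_c3 LD2_c49 LD3_c10))))))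
theorem f11563 : Led Lsl_gt (LP (LK LD1_c3 LD2_c49 LD3_c10)) = (LP (LK LD1_c7 LD2_c39 LD3_c20)) :=
  Lre_g IH (LK LD1_c3 LD2_c49 LD3_c10) (LK LD1_c7 LD2_c39 LD3_c20) Lrfl Lrfl
theorem f481426 : Led Lsl_gt (LP (LK LD1_c7 LD2_c39 LD3_c20)) = (LP (LK LD1_c13 LD2_c39 LD3_c58)) :=
  Lgr Lrot46 (Lpe (f11563 IH) (Lpe (f477972 IH) (Lpr_at (f481397 IH) (Lpn (LP (LK LD1_c13 LD2_c39 LD3_c58))))))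
theorem f517175 : Led Lsl_ft (LP (LK LD1_c7 LD2_c39 LD3_c20)) = (LP (LK LD1_c13 LD2_c40 LD3_c32)) :=
  Lgr Lrot2 (Lpr_gt (f481426 IH) (Lpe (K28.f442096 IH) (Lpr_af (f517167 IH) (Lpn (LP (LK LD1_c13 LD2_c40 LD3_c32))))))
theorem f517179 : Led Lsl_ff (LP (LK LD1_c7 LD2_c39 LD3_c20)) = (LP (LK LD1_c13 LD2_c40 LD3_c32)) :=
  Lgr Lrot3 (Lpr_ft (f517175 IH) (Lpn (LP (LK LD1_c13 LD2_c40 LD3_c32))))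
theorem f517183 : Led Lsl_at (LP (LK LD1_c7 LD2_c39 LD3_c20)) = (LP (LK LD1_c13 LD2_c40 LD3_c31)) :=
  Lgr Lrot26 (Lpr_ff (f517179 IH) (Lpr_gt (K29.f97986 IH) (Lpr_gt (f97039 IH) (Lpn (LP (LK LD1_c13 LD2_c40 LD3_c31))))))
theorem f478194 : Led Lsl_ct (LP (LK LD1_c7 LD2_c15 LD3_c0)) = (LP (LK LD1_c13 LD2_c40 LD3_c31)) :=
  Lgr Lrot59 (Lpr_cf (f478145 IH) (Lpn (LP (LK LD1_c13 LD2_c40 LD3_c31))))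
theorem f478200 : Led Lsl_dt (LP (LK LD1_c13 LD2_c43 LD3_c10)) = (LP (LK LD1_c7 LD2_c15 LD3_c0)) :=
  Lre_d IH (LK LD1_c13 LD2_c43 LD3_c10) (LK LD1_c7 LD2_c15 LD3_c0) Lrfl Lrfl
theorem f92505 : Led Lsl_ct (LP (LK LD1_c7 LD2_c15 LD3_c39)) = (LP (LK LD1_c3 LD2_c37 LD3_c35)) :=
  Lre_c IH (LK LD1_c7 LD2_c15 LD3_c39) (LK LD1_c3 LD2_c37 LD3_c35) Lrfl Lrfl
theorem f10852 : Led Lsl_ct (LP (LK LD1_c1 LD2_c45 LD3_c38)) = (LP (LK LD1_c3 LD2_c37 LD3_c34)) :=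
  Lre_c IH (LK LD1_c1 LD2_c45 LD3_c38) (LK LD1_c3 LD2_c37 LD3_c34) Lrfl Lrfl
theorem f481315 : Led Lsl_dt (LP (LK LD1_c3 LD2_c37 LD3_c34)) = (LP (LK LD1_c7 LD2_c15 LD3_c37)) :=
  Lre_d IH (LK LD1_c3 LD2_c37 LD3_c34) (LK LD1_c7 LD2_c15 LD3_c37) Lrfl Lrfl
theorem f517185 : Led Lsl_cf (LP (LK LD1_c13 LD2_c43 LD3_c10)) = (LP (LK LD1_c7 LD2_c15 LD3_c37)) :=
  Lgr Lrot161 (Lpr_dt (f478200 IH) (Lpr_ct (f478194 IH) (Lpe (f517183 IH) (Lpr_ff (f517179 IH) (Lpe (K29.f481205 IH) (Lpr_ct (f92505 IH) (Lpr_dt (K2.f10815 IH) (Lpr_ct (f10852 IH) (Lpr_dt (f481315 IH) (Lpn (LP (LK LD1_c7 LD2_c15 LD3_c37))))))))))))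
theorem f97091 : Led Lsl_gt (LP (LK LD1_c0 LD2_c49 LD3_c27)) = (LP (LK LD1_c1 LD2_c45 LD3_c37)) :=
  Lre_g IH (LK LD1_c0 LD2_c49 LD3_c27) (LK LD1_c1 LD2_c45 LD3_c37) Lrfl Lrfl
theorem f97092 : Led Lsl_dt (LP (LK LD1_c1 LD2_c45 LD3_c37)) = (LP (LK LD1_c3 LD2_c37 LD3_c32)) :=
  Lre_d IH (LK LD1_c1 LD2_c45 LD3_c37) (LK LD1_c3 LD2_c37 LD3_c32) Lrfl Lrfl
theorem f97093 : Led Lsl_ct (LP (LK LD1_c7 LD2_c15 LD3_c33)) = (LP (LK LD1_c3 LD2_c37 LD3_c32)) :=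
  Lre_c IH (LK LD1_c7 LD2_c15 LD3_c33) (LK LD1_c3 LD2_c37 LD3_c32) Lrfl Lrfl
theorem f97094 : Led Lsl_dt (LP (LK LD1_c13 LD2_c40 LD3_c31)) = (LP (LK LD1_c7 LD2_c15 LD3_c33)) :=
  Lgr Lrot105 (Lpe (f97039 IH) (Lpe (K28.f97038 IH) (Lpr_gf (K29.f97089 IH) (Lpe (K29.f10840 IH) (Lpr_gt (K29.f6650 IH) (Lpr_dt (K2.f92511 IH) (Lpr_gt (f97091 IH) (Lpr_dt (f97092 IH) (Lpe (f97093 IH) (Lpn (LP (LK LD1_c7 LD2_c15 LD3_c33))))))))))))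
theorem f10811 : Led Lsl_dt (LP (LK LD1_c3 LD2_c37 LD3_c32)) = (LP (LK LD1_c1 LD2_c45 LD3_c37)) :=
  Lre_d IH (LK LD1_c3 LD2_c37 LD3_c32) (LK LD1_c1 LD2_c45 LD3_c37) Lrfl Lrfl
theorem f97110 : Led Lsl_ct (LP (LK LD1_c1 LD2_c45 LD3_c37)) = (LP (LK LD1_c3 LD2_c37 LD3_c31)) :=
  Lre_c IH (LK LD1_c1 LD2_c45 LD3_c37) (LK LD1_c3 LD2_c37 LD3_c31) Lrfl Lrfl
theorem f97111 : Led Lsl_dt (LP (LK LD1_c3 LD2_c37 LD3_c31)) = (LP (LK LD1_c7 LD2_c15 LD3_c32)) :=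
  Lre_d IH (LK LD1_c3 LD2_c37 LD3_c31) (LK LD1_c7 LD2_c15 LD3_c32) Lrfl Lrfl
theorem f481260 : Led Lsl_ct (LP (LK LD1_c7 LD2_c15 LD3_c1)) = (LP (LK LD1_c13 LD2_c40 LD3_c32)) :=
  Lgr Lrot59 (Lpr_cf (K29.f481207 IH) (Lpn (LP (LK LD1_c13 LD2_c40 LD3_c32))))
theorem f481209 : Led Lsl_dt (LP (LK LD1_c13 LD2_c43 LD3_c13)) = (LP (LK LD1_c7 LD2_c15 LD3_c1)) :=
  Lre_d IH (LK LD1_c13 LD2_c43 LD3_c13) (LK LD1_c7 LD2_c15 LD3_c1) Lrfl Lrfl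
theorem f517189 : Led Lsl_ct (LP (LK LD1_c7 LD2_c15 LD3_c32)) = (LP (LK LD1_c13 LD2_c43 LD3_c13)) :=
  Lgr Lrot176 (Lpe (f97111 IH) (Lpe (f97110 IH) (Lpe (f10811 IH) (Lpe (f97093 IH) (Lpe (f97094 IH) (Lpe (f478194 IH) (Lpe (f478200 IH) (Lpr_cf (f517185 IH) (Lpe (f481315 IH) (Lpe (f10852 IH) (Lpe (K2.f10815 IH) (Lpe (f92505 IH) (Lpr_df (K29.f481205 IH) (Lpe (f481260 IH) (Lpe (f481209 IH) (Lpn (LP (LK LD1_c13 LD2_c43 LD3_c13))))))))))))))))))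
theorem f517169 : Led Lsl_at (LP (LK LD1_c7 LD2_c18 LD3_c17)) = (LP (LK LD1_c13 LD2_c40 LD3_c32)) :=
  Lgr Lrot100 (Lpr_af (f517167 IH) (Lpn (LP (LK LD1_c13 LD2_c40 LD3_c32))))
theorem f517204 : Led Lsl_ft (LP (LK LD1_c13 LD2_c40 LD3_c31)) = (LP (LK LD1_c7 LD2_c18 LD3_c17)) :=
  Lgr Lrot142 (Lpr_dt (f97094 IH) (Lpr_ct (f97093 IH) (Lpr_dt (f10811 IH) (Lpr_ct (f97110 IH) (Lpr_dt (f97111 IH) (Lpr_ct (f517189 IH) (Lpr_dt (f481209 IH) (Lpr_ct (f481260 IH) (Lpe (f517169 IH) (Lpn (LP (LK LD1_c7 LD2_c18 LD3_c17))))))))))))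
theorem f517210 : Led Lsl_ff (LP (LK LD1_c13 LD2_c40 LD3_c31)) = (LP (LK LD1_c7 LD2_c18 LD3_c17)) :=
  Lgr Lrot3 (Lpr_ft (f517204 IH) (Lpn (LP (LK LD1_c7 LD2_c18 LD3_c17))))
theorem f10657 : Led Lsl_ct (LP (LK LD1_c0 LD2_c49 LD3_c13)) = (LP (LK LD1_c1 LD2_c45 LD3_c0)) :=
  Lre_c IH (LK LD1_c0 LD2_c49 LD3_c13) (LK LD1_c1 LD2_c45 LD3_c0) Lrfl Lrfl
theorem f10692 : Led Lsl_dt (LP (LK LD1_c3 LD2_c36 LD3_c21)) = (LP (LK LD1_c1 LD2_c45 LD3_c0)) :=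
  Lre_d IH (LK LD1_c3 LD2_c36 LD3_c21) (LK LD1_c1 LD2_c45 LD3_c0) Lrfl Lrfl
theorem f98272 : Led Lsl_ct (LP (LK LD1_c7 LD2_c13 LD3_c6)) = (LP (LK LD1_c3 LD2_c36 LD3_c21)) :=
  Lre_c IH (LK LD1_c7 LD2_c13 LD3_c6) (LK LD1_c3 LD2_c36 LD3_c21) Lrfl Lrfl
theorem f98278 : Led Lsl_gt (LP (LK LD1_c13 LD2_c39 LD3_c53)) = (LP (LK LD1_c7 LD2_c13 LD3_c6)) :=
  Lre_g IH (LK LD1_c13 LD2_c39 LD3_c53) (LK LD1_c7 LD2_c13 LD3_c6) Lrfl Lrfl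
theorem f478247 : Led Lsl_ct (LP (LK LD1_c7 LD2_c18 LD3_c17)) = (LP (LK LD1_c13 LD2_c39 LD3_c53)) :=
  Lgr Lrot152 (Lpr_gf (K28.f442096 IH) (Lpe (K28.f442095 IH) (Lpr_gt (K29.f478240 IH) (Lpr_ct (K29.f5991 IH) (Lpr_gt (K29.f10695 IH) (Lpr_ct (f10657 IH) (Lpe (f10692 IH) (Lpe (f98272 IH) (Lpe (f98278 IH) (Lpn (LP (LK LD1_c13 LD2_c39 LD3_c53))))))))))))
theorem f478657 : Led Lsl_cf (LP (LK LD1_c7 LD2_c18 LD3_c17)) = (LP (LK LD1_c13 LD2_c39 LD3_c53)) :=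
  Lgr Lrot11 (Lpr_ct (f478247 IH) (Lpn (LP (LK LD1_c13 LD2_c39 LD3_c53))))
theorem f517214 : Led Lsl_ft (LP (LK LD1_c7 LD2_c15 LD3_c0)) = (LP (LK LD1_c13 LD2_c39 LD3_c53)) :=
  Lgr Lrot4 (Lpr_cf (f478145 IH) (Lpr_ff (f517210 IH) (Lpr_cf (f478657 IH) (Lpn (LP (LK LD1_c13 LD2_c39 LD3_c53))))))
theorem f517171 : Led Lsl_at (LP (LK LD1_c13 LD2_c39 LD3_c53)) = (LP (LK LD1_c7 LD2_c15 LD3_c1)) :=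
  Lgr Lrot107 (Lpe (f478247 IH) (Lpr_af (f517167 IH) (Lpe (f481260 IH) (Lpn (LP (LK LD1_c7 LD2_c15 LD3_c1))))))
theorem f157586 : Led Lsl_gt (LP (LK LD1_c3 LD2_c49 LD3_c27)) = (LP (LK LD1_c1 LD2_c51 LD3_c45)) :=
  Lre_g IH (LK LD1_c3 LD2_c49 LD3_c27) (LK LD1_c1 LD2_c51 LD3_c45) Lrfl Lrfl
theorem f96884 : Led Lsl_bt (LP (LK LD1_c3 LD2_c49 LD3_c8)) = (LP (LK LD1_c1 LD2_c51 LD3_c36)) :=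
  Lre_b IH (LK LD1_c3 LD2_c49 LD3_c8) (LK LD1_c1 LD2_c51 LD3_c36) Lrfl Lrfl
theorem f481145 : Led Lsl_gt (LP (LK LD1_c1 LD2_c51 LD3_c36)) = (LP (LK LD1_c3 LD2_c36 LD3_c24)) :=
  Lgr Lrot82 (Lpe (f96884 IH) (Lpr_ct (K29.f157578 IH) (Lpe (f157586 IH) (Lpr_cf (f481122 IH) (Lpr_bt (f5996 IH) (Lpe (K28.f5987 IH) (Lpe (K3.f5964 IH) (Lpr_ct (K29.f5946 IH) (Lpe (K28.f5959 IH) (Lpe (K28.f5995 IH) (Lpn (LP (LK LD1_c3 LD2_c36 LD3_c24)))))))))))))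
theorem f5978 : Led Lsl_dt (LP (LK LD1_c3 LD2_c37 LD3_c16)) = (LP (LK LD1_c1 LD2_c45 LD3_c30)) :=
  Lre_d IH (LK LD1_c3 LD2_c37 LD3_c16) (LK LD1_c1 LD2_c45 LD3_c30) Lrfl Lrfl
theorem f6328 : Led Lsl_ct (LP (LK LD1_c7 LD2_c15 LD3_c4)) = (LP (LK LD1_c3 LD2_c37 LD3_c16)) :=
  Lre_c IH (LK LD1_c7 LD2_c15 LD3_c4) (LK LD1_c3 LD2_c37 LD3_c16) Lrfl Lrfl
theorem f6242 : Led Lsl_gt (LP (LK LD1_c13 LD2_c39 LD3_c52)) = (LP (LK LD1_c7 LD2_c15 LD3_c4)) :=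
  Lre_g IH (LK LD1_c13 LD2_c39 LD3_c52) (LK LD1_c7 LD2_c15 LD3_c4) Lrfl Lrfl
theorem f481150 : Led Lsl_ct (LP (LK LD1_c7 LD2_c39 LD3_c20)) = (LP (LK LD1_c13 LD2_c39 LD3_c52)) :=
  Lgr Lrot152 (Lpe (f11563 IH) (Lpe (K28.f11562 IH) (Lpr_gt (f481145 IH) (Lpr_ct (K28.f5995 IH) (Lpr_gt (K28.f5959 IH) (Lpr_ct (K3.f5961 IH) (Lpe (f5978 IH) (Lpe (f6328 IH) (Lpe (f6242 IH) (Lpn (LP (LK LD1_c13 LD2_c39 LD3_c52))))))))))))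
theorem f481169 : Led Lsl_cf (LP (LK LD1_c7 LD2_c39 LD3_c20)) = (LP (LK LD1_c13 LD2_c39 LD3_c52)) :=
  Lgr Lrot11 (Lpr_ct (f481150 IH) (Lpn (LP (LK LD1_c13 LD2_c39 LD3_c52))))
theorem f517177 : Led Lsl_ff (LP (LK LD1_c13 LD2_c39 LD3_c52)) = (LP (LK LD1_c7 LD2_c15 LD3_c1)) :=
  Lgr Lrot23 (Lpe (f481169 IH) (Lpr_ft (f517175 IH) (Lpe (K29.f481207 IH) (Lpn (LP (LK LD1_c7 LD2_c15 LD3_c1))))))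
theorem f517273 : Led Lsl_af (LP (LK LD1_c7 LD2_c15 LD3_c0)) = (LP (LK LD1_c13 LD2_c39 LD3_c52)) :=
  Lgr Lrot45 (Lpr_ft (f517214 IH) (Lpr_at (f517171 IH) (Lpe (f517177 IH) (Lpn (LP (LK LD1_c13 LD2_c39 LD3_c52))))))
theorem f517275 : Led Lsl_at (LP (LK LD1_c7 LD2_c15 LD3_c0)) = (LP (LK LD1_c13 LD2_c39 LD3_c52)) :=
  Lgr Lrot100 (Lpr_af (f517273 IH) (Lpn (LP (LK LD1_c13 LD2_c39 LD3_c52))))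
theorem f517206 : Led Lsl_ff (LP (LK LD1_c7 LD2_c15 LD3_c0)) = (LP (LK LD1_c13 LD2_c39 LD3_c53)) :=
  Lgr Lrot23 (Lpr_ct (f478194 IH) (Lpr_ft (f517204 IH) (Lpr_ct (f478247 IH) (Lpn (LP (LK LD1_c13 LD2_c39 LD3_c53))))))
theorem f517181 : Led Lsl_ft (LP (LK LD1_c13 LD2_c39 LD3_c52)) = (LP (LK LD1_c7 LD2_c15 LD3_c1)) :=
  Lgr Lrot4 (Lpe (f481150 IH) (Lpr_ff (f517179 IH) (Lpe (f481260 IH) (Lpn (LP (LK LD1_c7 LD2_c15 LD3_c1))))))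
theorem f517277 : Led Lsl_af (LP (LK LD1_c13 LD2_c39 LD3_c53)) = (LP (LK LD1_c7 LD2_c15 LD3_c1)) :=
  Lgr Lrot45 (Lpe (f517206 IH) (Lpr_at (f517275 IH) (Lpr_ft (f517181 IH) (Lpn (LP (LK LD1_c7 LD2_c15 LD3_c1))))))
theorem f478659 : Led Lsl_et (LP (LK LD1_c13 LD2_c39 LD3_c53)) = (LP (LK LD1_c23 LD2_c5 LD3_c16)) :=
  Lre_e IH (LK LD1_c13 LD2_c39 LD3_c53) (LK LD1_c23 LD2_c5 LD3_c16) Lrfl Lrfl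
theorem f481293 : Led Lsl_et (LP (LK LD1_c13 LD2_c43 LD3_c14)) = (LP (LK LD1_c7 LD2_c15 LD3_c1)) :=
  Lre_e IH (LK LD1_c13 LD2_c43 LD3_c14) (LK LD1_c7 LD2_c15 LD3_c1) Lrfl Lrfl
theorem f517279 : Led Lsl_at (LP (LK LD1_c23 LD2_c5 LD3_c16)) = (LP (LK LD1_c13 LD2_c43 LD3_c14)) :=
  Lgr Lrot80 (Lpe (f478659 IH) (Lpr_af (f517277 IH) (Lpe (f481293 IH) (Lpn (LP (LK LD1_c13 LD2_c43 LD3_c14))))))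
theorem f442104 : Led Lsl_et (LP (LK LD1_c13 LD2_c49 LD3_c21)) = (LP (LK LD1_c7 LD2_c18 LD3_c17)) :=
  Lre_e IH (LK LD1_c13 LD2_c49 LD3_c21) (LK LD1_c7 LD2_c18 LD3_c17) Lrfl Lrfl
theorem f478660 : Led Lsl_cf (LP (LK LD1_c13 LD2_c49 LD3_c21)) = (LP (LK LD1_c23 LD2_c5 LD3_c16)) :=
  Lgr Lrot39 (Lpr_et (f442104 IH) (Lpr_ct (f478247 IH) (Lpr_et (f478659 IH) (Lpn (LP (LK LD1_c23 LD2_c5 LD3_c16))))))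
theorem f478664 : Led Lsl_ct (LP (LK LD1_c13 LD2_c49 LD3_c21)) = (LP (LK LD1_c23 LD2_c5 LD3_c16)) :=
  Lgr Lrot59 (Lpr_cf (f478660 IH) (Lpn (LP (LK LD1_c23 LD2_c5 LD3_c16))))
theorem f481262 : Led Lsl_et (LP (LK LD1_c7 LD2_c15 LD3_c1)) = (LP (LK LD1_c13 LD2_c43 LD3_c14)) :=
  Lre_e IH (LK LD1_c7 LD2_c15 LD3_c1) (LK LD1_c13 LD2_c43 LD3_c14) Lrfl Lrfl
theorem f478155 : Led Lsl_et (LP (LK LD1_c23 LD2_c6 LD3_c4)) = (LP (LK LD1_c13 LD2_c40 LD3_c32)) :=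
  Lre_e IH (LK LD1_c23 LD2_c6 LD3_c4) (LK LD1_c13 LD2_c40 LD3_c32) Lrfl Lrfl
theorem f481263 : Led Lsl_ct (LP (LK LD1_c13 LD2_c43 LD3_c14)) = (LP (LK LD1_c23 LD2_c6 LD3_c4)) :=
  Lgr Lrot15 (Lpe (f481262 IH) (Lpr_cf (K29.f481207 IH) (Lpe (f478155 IH) (Lpn (LP (LK LD1_c23 LD2_c6 LD3_c4))))))
theorem f517283 : Led Lsl_af (LP (LK LD1_c13 LD2_c49 LD3_c21)) = (LP (LK LD1_c23 LD2_c6 LD3_c4)) :=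
  Lgr Lrot68 (Lpr_ct (f478664 IH) (Lpr_at (f517279 IH) (Lpr_ct (f481263 IH) (Lpn (LP (LK LD1_c23 LD2_c6 LD3_c4))))))
theorem f442105 : Led Lsl_dt (LP (LK LD1_c13 LD2_c49 LD3_c21)) = (LP (LK LD1_c7 LD2_c18 LD3_c15)) :=
  Lre_d IH (LK LD1_c13 LD2_c49 LD3_c21) (LK LD1_c7 LD2_c18 LD3_c15) Lrfl Lrfl
theorem f93120 : Led Lsl_et (LP (LK LD1_c7 LD2_c17 LD3_c1)) = (LP (LK LD1_c13 LD2_c46 LD3_c60)) :=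
  Lre_e IH (LK LD1_c7 LD2_c17 LD3_c1) (LK LD1_c13 LD2_c46 LD3_c60) Lrfl Lrfl
theorem f481319 : Led Lsl_dt (LP (LK LD1_c13 LD2_c46 LD3_c60)) = (LP (LK LD1_c23 LD2_c6 LD3_c4)) :=
  Lgr Lrot77 (Lpe (f93120 IH) (Lpe (K29.f93119 IH) (Lpr_ef (K29.f93112 IH) (Lpr_df (K29.f481205 IH) (Lpe (f478155 IH) (Lpn (LP (LK LD1_c23 LD2_c6 LD3_c4))))))))
theorem f517285 : Led Lsl_at (LP (LK LD1_c7 LD2_c18 LD3_c15)) = (LP (LK LD1_c13 LD2_c46 LD3_c60)) :=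
  Lgr Lrot51 (Lpe (f442105 IH) (Lpr_af (f517283 IH) (Lpe (f481319 IH) (Lpn (LP (LK LD1_c13 LD2_c46 LD3_c60))))))
theorem f517295 : Led Lsl_ft (LP (LK LD1_c13 LD2_c49 LD3_c22)) = (LP (LK LD1_c7 LD2_c18 LD3_c15)) :=
  Lre_f IH (LK LD1_c13 LD2_c49 LD3_c22) (LK LD1_c7 LD2_c18 LD3_c15) Lrfl Lrfl
theorem f481326 : Led Lsl_ft (LP (LK LD1_c13 LD2_c46 LD3_c60)) = (LP (LK LD1_c23 LD2_c14 LD3_c30)) :=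
  Lre_f IH (LK LD1_c13 LD2_c46 LD3_c60) (LK LD1_c23 LD2_c14 LD3_c30) Lrfl Lrfl
theorem f517296 : Led Lsl_af (LP (LK LD1_c13 LD2_c49 LD3_c22)) = (LP (LK LD1_c23 LD2_c14 LD3_c30)) :=
  Lgr Lrot45 (Lpr_ft (f517295 IH) (Lpr_at (f517285 IH) (Lpr_ft (f481326 IH) (Lpn (LP (LK LD1_c23 LD2_c14 LD3_c30))))))
theorem f517301 : Led Lsl_ct (LP (LK LD1_c13 LD2_c49 LD3_c22)) = (LP (LK LD1_c23 LD2_c18 LD3_c23)) :=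
  Lre_c IH (LK LD1_c13 LD2_c49 LD3_c22) (LK LD1_c23 LD2_c18 LD3_c23) Lrfl Lrfl
theorem f517308 : Led Lsl_ct (LP (LK LD1_c30 LD2_c57 LD3_c36)) = (LP (LK LD1_c23 LD2_c14 LD3_c30)) :=
  Lre_c IH (LK LD1_c30 LD2_c57 LD3_c36) (LK LD1_c23 LD2_c14 LD3_c30) Lrfl Lrfl
theorem f517309 : Led Lsl_at (LP (LK LD1_c23 LD2_c18 LD3_c23)) = (LP (LK LD1_c30 LD2_c57 LD3_c36)) :=
  Lgr Lrot107 (Lpe (f517301 IH) (Lpr_af (f517296 IH) (Lpe (f517308 IH) (Lpn (LP (LK LD1_c30 LD2_c57 LD3_c36))))))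
theorem f517313 : Led Lsl_af (LP (LK LD1_c23 LD2_c18 LD3_c23)) = (LP (LK LD1_c30 LD2_c57 LD3_c36)) :=
  Lgr Lrot0 (Lpr_at (f517309 IH) (Lpn (LP (LK LD1_c30 LD2_c57 LD3_c36))))
theorem f517318 : Led Lsl_ft (LP (LK LD1_c23 LD2_c18 LD3_c23)) = (LP (LK LD1_c13 LD2_c49 LD3_c18)) :=
  Lre_f IH (LK LD1_c23 LD2_c18 LD3_c23) (LK LD1_c13 LD2_c49 LD3_c18) Lrfl Lrfl
theorem f517319 : Led Lsl_ft (LP (LK LD1_c23 LD2_c14 LD3_c27)) = (LP (LK LD1_c30 LD2_c57 LD3_c36)) :=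
  Lre_f IH (LK LD1_c23 LD2_c14 LD3_c27) (LK LD1_c30 LD2_c57 LD3_c36) Lrfl Lrfl
theorem f517320 : Led Lsl_at (LP (LK LD1_c13 LD2_c49 LD3_c18)) = (LP (LK LD1_c23 LD2_c14 LD3_c27)) :=
  Lgr Lrot66 (Lpe (f517318 IH) (Lpr_af (f517313 IH) (Lpe (f517319 IH) (Lpn (LP (LK LD1_c23 LD2_c14 LD3_c27))))))
theorem f481640 : Led Lsl_et (LP (LK LD1_c7 LD2_c18 LD3_c14)) = (LP (LK LD1_c13 LD2_c49 LD3_c18)) :=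
  Lre_e IH (LK LD1_c7 LD2_c18 LD3_c14) (LK LD1_c13 LD2_c49 LD3_c18) Lrfl Lrfl
theorem f482905 : Led Lsl_et (LP (LK LD1_c23 LD2_c14 LD3_c27)) = (LP (LK LD1_c13 LD2_c46 LD3_c59)) :=
  Lre_e IH (LK LD1_c23 LD2_c14 LD3_c27) (LK LD1_c13 LD2_c46 LD3_c59) Lrfl Lrfl
theorem f517323 : Led Lsl_af (LP (LK LD1_c7 LD2_c18 LD3_c14)) = (LP (LK LD1_c13 LD2_c46 LD3_c59)) :=
  Lgr Lrot50 (Lpr_et (f481640 IH) (Lpr_at (f517320 IH) (Lpr_et (f482905 IH) (Lpn (LP (LK LD1_c13 LD2_c46 LD3_c59))))))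
theorem f517330 : Led Lsl_ft (LP (LK LD1_c7 LD2_c18 LD3_c25)) = (LP (LK LD1_c13 LD2_c46 LD3_c59)) :=
  Lgr Lrot142 (Lpe (K29.f481519 IH) (Lpr_ct (K29.f481506 IH) (Lpr_dt (K29.f4448 IH) (Lpr_ct (K29.f4450 IH) (Lpr_dt (K29.f4409 IH) (Lpr_ct (K29.f4419 IH) (Lpr_dt (K28.f467091 IH) (Lpr_ct (K29.f467978 IH) (Lpr_af (f517323 IH) (Lpn (LP (LK LD1_c13 LD2_c46 LD3_c59))))))))))))
theorem f517338 : Led Lsl_ff (LP (LK LD1_c7 LD2_c18 LD3_c25)) = (LP (LK LD1_c13 LD2_c46 LD3_c59)) :=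
  Lgr Lrot3 (Lpr_ft (f517330 IH) (Lpn (LP (LK LD1_c13 LD2_c46 LD3_c59))))
theorem f4074 : Led Lsl_ct (LP (LK LD1_c1 LD2_c46 LD3_c9)) = (LP (LK LD1_c3 LD2_c38 LD3_c22)) :=
  Lre_c IH (LK LD1_c1 LD2_c46 LD3_c9) (LK LD1_c3 LD2_c38 LD3_c22) Lrfl Lrfl
theorem f488550 : Led Lsl_gf (LP (LK LD1_c3 LD2_c29 LD3_c33)) = (LP (LK LD1_c3 LD2_c38 LD3_c22)) :=
  Lgr Lrot129 (Lpe (K29.f440673 IH) (Lpr_bt (K28.f440640 IH) (Lpr_gt (K28.f455530 IH) (Lpq (K28.f467674 IH) (Lpe (K28.f450999 IH) (Lpr_ct (K24.f451005 IH) (Lpq (K24.f456259 IH) (Lpr_gt (K24.f447658 IH) (Lpe (K24.f447655 IH) (Lpr_bt (K2.f4039 IH) (Lpr_gt (K2.f4071 IH) (Lpr_ct (f4074 IH) (Lpn (LP (LK LD1_c3 LD2_c38 LD3_c22)))))))))))))))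
theorem f462160 : Led Lsl_ct (LP (LK LD1_c7 LD2_c17 LD3_c41)) = (LP (LK LD1_c3 LD2_c38 LD3_c39)) :=
  Lre_c IH (LK LD1_c7 LD2_c17 LD3_c41) (LK LD1_c3 LD2_c38 LD3_c39) Lrfl Lrfl
theorem f481454 : Led Lsl_gt (LP (LK LD1_c13 LD2_c48 LD3_c1)) = (LP (LK LD1_c7 LD2_c17 LD3_c41)) :=
  Lre_g IH (LK LD1_c13 LD2_c48 LD3_c1) (LK LD1_c7 LD2_c17 LD3_c41) Lrfl Lrfl
theorem f5310 : Led Lsl_dt (LP (LK LD1_c3 LD2_c38 LD3_c16)) = (LP (LK LD1_c7 LD2_c16 LD3_c55)) :=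
  Lre_d IH (LK LD1_c3 LD2_c38 LD3_c16) (LK LD1_c7 LD2_c16 LD3_c55) Lrfl Lrfl
theorem f92562 : Led Lsl_ct (LP (LK LD1_c13 LD2_c46 LD3_c45)) = (LP (LK LD1_c7 LD2_c16 LD3_c55)) :=
  Lre_c IH (LK LD1_c13 LD2_c46 LD3_c45) (LK LD1_c7 LD2_c16 LD3_c55) Lrfl Lrfl
theorem f467088 : Led Lsl_ct (LP (LK LD1_c7 LD2_c18 LD3_c13)) = (LP (LK LD1_c13 LD2_c49 LD3_c15)) :=
  Lre_c IH (LK LD1_c7 LD2_c18 LD3_c13) (LK LD1_c13 LD2_c49 LD3_c15) Lrfl Lrfl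
theorem f483086 : Led Lsl_gf (LP (LK LD1_c13 LD2_c46 LD3_c45)) = (LP (LK LD1_c13 LD2_c49 LD3_c15)) :=
  Lgr Lrot104 (Lpr_ct (f92562 IH) (Lpe (f5310 IH) (Lpe (K28.f456468 IH) (Lpr_gf (K28.f467381 IH) (Lpr_cf (K28.f441469 IH) (Lpr_gf (K29.f481460 IH) (Lpe (K29.f457001 IH) (Lpr_gt (K30.f483071 IH) (Lpr_ct (f467088 IH) (Lpn (LP (LK LD1_c13 LD2_c49 LD3_c15))))))))))))
theorem f455388 : Led Lsl_et (LP (LK LD1_c3 LD2_c28 LD3_c12)) = (LP (LK LD1_c1 LD2_c40 LD3_c42)) :=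
  Lre_e IH (LK LD1_c3 LD2_c28 LD3_c12) (LK LD1_c1 LD2_c40 LD3_c42) Lrfl Lrfl
theorem f464223 : Led Lsl_gt (LP (LK LD1_c7 LD2_c16 LD3_c55)) = (LP (LK LD1_c6 LD2_c58 LD3_c39)) :=
  Lgr Lrot139 (Lpe (f5310 IH) (Lpe (K28.f5274 IH) (Lpe (K28.f5049 IH) (Lpr_dt (K0.f398 IH) (Lpr_gf (K2.f92522 IH) (Lpe (K2.f6673 IH) (Lpr_et (K29.f17493 IH) (Lpr_gf (K28.f464215 IH) (Lpe (f455388 IH) (Lpr_dt (K29.f462121 IH) (Lpn (LP (LK LD1_c6 LD2_c58 LD3_c39)))))))))))))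
theorem f483099 : Led Lsl_df (LP (LK LD1_c13 LD2_c48 LD3_c1)) = (LP (LK LD1_c13 LD2_c49 LD3_c15)) :=
  Lgr Lrot155 (Lpr_gt (f481454 IH) (Lpr_ct (f462160 IH) (Lpr_gt (K30.f441996 IH) (Lpr_ct (K29.f462055 IH) (Lpe (K29.f482895 IH) (Lpe (K29.f462129 IH) (Lpe (f464223 IH) (Lpe (f92562 IH) (Lpr_gf (f483086 IH) (Lpn (LP (LK LD1_c13 LD2_c49 LD3_c15))))))))))))
theorem f481513 : Led Lsl_ct (LP (LK LD1_c3 LD2_c38 LD3_c61)) = (LP (LK LD1_c7 LD2_c18 LD3_c25)) :=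
  Lre_c IH (LK LD1_c3 LD2_c38 LD3_c61) (LK LD1_c7 LD2_c18 LD3_c25) Lrfl Lrfl
theorem f481628 : Led Lsl_df (LP (LK LD1_c7 LD2_c17 LD3_c60)) = (LP (LK LD1_c7 LD2_c18 LD3_c14)) :=
  Lgr Lrot43 (Lpr_ct (K29.f481616 IH) (Lpr_dt (K28.f4413 IH) (Lpr_ct (K29.f4418 IH) (Lpr_dt (K3.f4425 IH) (Lpr_ct (K29.f4420 IH) (Lpr_dt (K30.f481466 IH) (Lpr_ct (f481513 IH) (Lpe (K29.f481519 IH) (Lpr_ct (K29.f481506 IH) (Lpr_dt (K29.f4448 IH) (Lpr_ct (K29.f4450 IH) (Lpr_dt (K29.f4409 IH) (Lpr_ct (K29.f4419 IH) (Lpr_dt (K28.f467091 IH) (Lpr_ct (K29.f467978 IH) (Lpn (LP (LK LD1_c7 LD2_c18 LD3_c14))))))))))))))))))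
theorem f483056 : Led Lsl_dt (LP (LK LD1_c13 LD2_c46 LD3_c52)) = (LP (LK LD1_c13 LD2_c46 LD3_c49)) :=
  Lgr Lrot6 (Lpr_gt (K30.f467383 IH) (Lpr_ct (K29.f4427 IH) (Lpe (K28.f4416 IH) (Lpe (K30.f481626 IH) (Lpr_df (f481628 IH) (Lpe (K29.f467978 IH) (Lpe (K29.f467086 IH) (Lpe (K30.f467087 IH) (Lpr_gf (K30.f483052 IH) (Lpn (LP (LK LD1_c13 LD2_c46 LD3_c49))))))))))))
theorem f481357 : Led Lsl_af (LP (LK LD1_c13 LD2_c46 LD3_c58)) = (LP (LK LD1_c7 LD2_c18 LD3_c13)) :=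
  Lgr Lrot45 (Lpr_ft (K29.f481351 IH) (Lpe (K29.f475115 IH) (Lpr_ft (K29.f475138 IH) (Lpn (LP (LK LD1_c7 LD2_c18 LD3_c13))))))
theorem f483105 : Led Lsl_ct (LP (LK LD1_c13 LD2_c48 LD3_c1)) = (LP (LK LD1_c13 LD2_c46 LD3_c58)) :=
  Lgr Lrot98 (Lpr_df (f483099 IH) (Lpe (f467088 IH) (Lpr_df (K30.f482612 IH) (Lpe (K30.f482423 IH) (Lpe (K29.f473571 IH) (Lpe (K29.f475142 IH) (Lpe (K29.f475114 IH) (Lpr_ft (K29.f475138 IH) (Lpe (f481357 IH) (Lpn (LP (LK LD1_c13 LD2_c46 LD3_c58))))))))))))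
theorem f483107 : Led Lsl_gt (LP (LK LD1_c13 LD2_c38 LD3_c7)) = (LP (LK LD1_c13 LD2_c46 LD3_c52)) :=
  Lgr Lrot94 (Lpe (K29.f441473 IH) (Lpr_gt (K29.f481464 IH) (Lpr_dt (K29.f4448 IH) (Lpr_gt (K29.f475147 IH) (Lpr_dt (K29.f482621 IH) (Lpe (f483105 IH) (Lpr_df (f483099 IH) (Lpr_gf (K30.f483052 IH) (Lpe (f483056 IH) (Lpn (LP (LK LD1_c13 LD2_c46 LD3_c52))))))))))))
theorem f483109 : Led Lsl_cf (LP (LK LD1_c13 LD2_c48 LD3_c1)) = (LP (LK LD1_c13 LD2_c46 LD3_c58)) :=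
  Lgr Lrot14 (Lpr_df (f483099 IH) (Lpr_gf (K30.f483052 IH) (Lpe (f483056 IH) (Lpe (f483107 IH) (Lpr_ct (K29.f441472 IH) (Lpr_gt (K29.f481464 IH) (Lpr_dt (K29.f4448 IH) (Lpr_gt (K29.f475147 IH) (Lpr_dt (K29.f482621 IH) (Lpn (LP (LK LD1_c13 LD2_c46 LD3_c58))))))))))))
theorem f92500 : Led Lsl_dt (LP (LK LD1_c7 LD2_c17 LD3_c4)) = (LP (LK LD1_c3 LD2_c38 LD3_c22)) :=
  Lre_d IH (LK LD1_c7 LD2_c17 LD3_c4) (LK LD1_c3 LD2_c38 LD3_c22) Lrfl Lrfl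
theorem f488554 : Led Lsl_gf (LP (LK LD1_c13 LD2_c46 LD3_c58)) = (LP (LK LD1_c7 LD2_c17 LD3_c4)) :=
  Lgr Lrot147 (Lpe (f483109 IH) (Lpr_gt (f481454 IH) (Lpr_ct (f462160 IH) (Lpe (K29.f5344 IH) (Lpe (K29.f481449 IH) (Lpe (K29.f107236 IH) (Lpe (K29.f440660 IH) (Lpr_gf (f488550 IH) (Lpe (f92500 IH) (Lpn (LP (LK LD1_c7 LD2_c17 LD3_c4))))))))))))
theorem f483097 : Led Lsl_dt (LP (LK LD1_c13 LD2_c48 LD3_c1)) = (LP (LK LD1_c13 LD2_c49 LD3_c15)) :=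
  Lgr Lrot6 (Lpr_gt (f481454 IH) (Lpr_ct (f462160 IH) (Lpr_gt (K30.f441996 IH) (Lpr_ct (K29.f462055 IH) (Lpe (K29.f482900 IH) (Lpe (K29.f462129 IH) (Lpe (f464223 IH) (Lpe (f92562 IH) (Lpr_gf (f483086 IH) (Lpn (LP (LK LD1_c13 LD2_c49 LD3_c15))))))))))))
theorem f93134 : Led Lsl_ct (LP (LK LD1_c13 LD2_c47 LD3_c1)) = (LP (LK LD1_c7 LD2_c17 LD3_c4)) :=
  Lre_c IH (LK LD1_c13 LD2_c47 LD3_c1) (LK LD1_c7 LD2_c17 LD3_c4) Lrfl Lrfl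
theorem f488580 : Led Lsl_gt (LP (LK LD1_c13 LD2_c14 LD3_c49)) = (LP (LK LD1_c13 LD2_c47 LD3_c1)) :=
  Lgr Lrot9 (Lpr_df (K29.f482895 IH) (Lpr_gt (K29.f481528 IH) (Lpr_ct (K29.f457002 IH) (Lpr_gt (K30.f483071 IH) (Lpr_ct (f467088 IH) (Lpe (f483097 IH) (Lpr_cf (f483109 IH) (Lpr_gf (f488554 IH) (Lpe (f93134 IH) (Lpn (LP (LK LD1_c13 LD2_c47 LD3_c1))))))))))))
theorem f517345 : Led Lsl_at (LP (LK LD1_c7 LD2_c18 LD3_c25)) = (LP (LK LD1_c13 LD2_c47 LD3_c1)) :=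
  Lgr Lrot26 (Lpr_ff (f517338 IH) (Lpe (K29.f482902 IH) (Lpr_gt (f488580 IH) (Lpn (LP (LK LD1_c13 LD2_c47 LD3_c1))))))
theorem f92491 : Led Lsl_ct (LP (LK LD1_c7 LD2_c17 LD3_c4)) = (LP (LK LD1_c13 LD2_c47 LD3_c1)) :=
  Lre_c IH (LK LD1_c7 LD2_c17 LD3_c4) (LK LD1_c13 LD2_c47 LD3_c1) Lrfl Lrfl
theorem f92490 : Led Lsl_dt (LP (LK LD1_c3 LD2_c38 LD3_c22)) = (LP (LK LD1_c7 LD2_c17 LD3_c4)) :=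
  Lre_d IH (LK LD1_c3 LD2_c38 LD3_c22) (LK LD1_c7 LD2_c17 LD3_c4) Lrfl Lrfl
theorem f92493 : Led Lsl_dt (LP (LK LD1_c7 LD2_c9 LD3_c25)) = (LP (LK LD1_c3 LD2_c34 LD3_c7)) :=
  Lre_d IH (LK LD1_c7 LD2_c9 LD3_c25) (LK LD1_c3 LD2_c34 LD3_c7) Lrfl Lrfl
theorem f92494 : Led Lsl_ct (LP (LK LD1_c13 LD2_c33 LD3_c24)) = (LP (LK LD1_c7 LD2_c9 LD3_c25)) :=
  Lre_c IH (LK LD1_c13 LD2_c33 LD3_c24) (LK LD1_c7 LD2_c9 LD3_c25) Lrfl Lrfl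
theorem f517347 : Led Lsl_df (LP (LK LD1_c13 LD2_c33 LD3_c24)) = (LP (LK LD1_c13 LD2_c46 LD3_c59)) :=
  Lgr Lrot157 (Lpr_ct (f92494 IH) (Lpr_dt (f92493 IH) (Lpr_ct (f92492 IH) (Lpe (K2.f92484 IH) (Lpr_ct (f4074 IH) (Lpr_dt (f92490 IH) (Lpr_ct (f92491 IH) (Lpe (f517345 IH) (Lpr_ff (f517338 IH) (Lpn (LP (LK LD1_c13 LD2_c46 LD3_c59))))))))))))
theorem f517361 : Led Lsl_gt (LP (LK LD1_c13 LD2_c33 LD3_c24)) = (LP (LK LD1_c7 LD2_c16 LD3_c60)) :=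
  Lgr Lrot9 (Lpr_df (f517347 IH) (Lpe (K29.f482902 IH) (Lpr_ct (K29.f462118 IH) (Lpr_gt (K30.f483040 IH) (Lpr_ct (K30.f457053 IH) (Lpe (f483056 IH) (Lpe (K30.f456514 IH) (Lpe (K30.f5805 IH) (Lpe (K2.f4058 IH) (Lpn (LP (LK LD1_c7 LD2_c16 LD3_c60))))))))))))
theorem f517357 : Led Lsl_ft (LP (LK LD1_c13 LD2_c33 LD3_c24)) = (LP (LK LD1_c7 LD2_c17 LD3_c59)) :=
  Lgr Lrot54 (Lpr_df (f517347 IH) (Lpe (f517330 IH) (Lpe (K29.f481511 IH) (Lpn (LP (LK LD1_c7 LD2_c17 LD3_c59))))))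
theorem f4098 : Led Lsl_gt (LP (LK LD1_c7 LD2_c16 LD3_c60)) = (LP (LK LD1_c13 LD2_c46 LD3_c54)) :=
  Lre_g IH (LK LD1_c7 LD2_c16 LD3_c60) (LK LD1_c13 LD2_c46 LD3_c54) Lrfl Lrfl
theorem f517366 : Led Lsl_at (LP (LK LD1_c7 LD2_c17 LD3_c59)) = (LP (LK LD1_c13 LD2_c46 LD3_c54)) :=
  Lgr Lrot26 (Lpe (f517357 IH) (Lpr_gt (f517361 IH) (Lpr_gt (f4098 IH) (Lpn (LP (LK LD1_c13 LD2_c46 LD3_c54))))))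
theorem f4158 : Led Lsl_gt (LP (LK LD1_c3 LD2_c38 LD3_c17)) = (LP (LK LD1_c1 LD2_c46 LD3_c7)) :=
  Lre_g IH (LK LD1_c3 LD2_c38 LD3_c17) (LK LD1_c1 LD2_c46 LD3_c7) Lrfl Lrfl
theorem f4143 : Led Lsl_at (LP (LK LD1_c7 LD2_c18 LD3_c0)) = (LP (LK LD1_c7 LD2_c18 LD3_c1)) :=
  Lgr Lrot66 (Lpr_ff (K29.f4115 IH) (Lpe (K29.f4076 IH) (Lpe (K29.f4090 IH) (Lpn (LP (LK LD1_c7 LD2_c18 LD3_c1))))))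
theorem f4156 : Led Lsl_gf (LP (LK LD1_c7 LD2_c18 LD3_c1)) = (LP (LK LD1_c13 LD2_c46 LD3_c54)) :=
  Lgr Lrot76 (Lpe (f4143 IH) (Lpr_ff (K29.f4115 IH) (Lpr_gt (f4098 IH) (Lpn (LP (LK LD1_c13 LD2_c46 LD3_c54))))))
theorem f488585 : Led Lsl_df (LP (LK LD1_c13 LD2_c46 LD3_c54)) = (LP (LK LD1_c13 LD2_c47 LD3_c1)) :=
  Lgr Lrot153 (Lpe (f4156 IH) (Lpe (K2.f4059 IH) (Lpe (K2.f4066 IH) (Lpe (K2.f4065 IH) (Lpe (f4158 IH) (Lpe (K30.f4159 IH) (Lpe (K30.f483040 IH) (Lpe (K29.f462118 IH) (Lpr_gt (f488580 IH) (Lpn (LP (LK LD1_c13 LD2_c47 LD3_c1))))))))))))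
theorem f488594 : Led Lsl_dt (LP (LK LD1_c13 LD2_c46 LD3_c54)) = (LP (LK LD1_c13 LD2_c47 LD3_c1)) :=
  Lgr Lrot42 (Lpr_df (f488585 IH) (Lpn (LP (LK LD1_c13 LD2_c47 LD3_c1))))
theorem f517376 : Led Lsl_af (LP (LK LD1_c7 LD2_c18 LD3_c25)) = (LP (LK LD1_c13 LD2_c47 LD3_c1)) :=
  Lgr Lrot117 (Lpe (K29.f481519 IH) (Lpr_at (f517366 IH) (Lpr_dt (f488594 IH) (Lpn (LP (LK LD1_c13 LD2_c47 LD3_c1))))))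
theorem f517400 : Led Lsl_ft (LP (LK LD1_c7 LD2_c18 LD3_c14)) = (LP (LK LD1_c13 LD2_c47 LD3_c1)) :=
  Lgr Lrot101 (Lpr_af (f517323 IH) (Lpe (f517330 IH) (Lpr_af (f517376 IH) (Lpn (LP (LK LD1_c13 LD2_c47 LD3_c1))))))
theorem f517411 : Led Lsl_ff (LP (LK LD1_c7 LD2_c18 LD3_c14)) = (LP (LK LD1_c13 LD2_c47 LD3_c1)) :=
  Lgr Lrot3 (Lpr_ft (f517400 IH) (Lpn (LP (LK LD1_c13 LD2_c47 LD3_c1))))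
theorem f517315 : Led Lsl_ft (LP (LK LD1_c13 LD2_c49 LD3_c18)) = (LP (LK LD1_c23 LD2_c18 LD3_c23)) :=
  Lre_f IH (LK LD1_c13 LD2_c49 LD3_c18) (LK LD1_c23 LD2_c18 LD3_c23) Lrfl Lrfl
theorem f488590 : Led Lsl_et (LP (LK LD1_c23 LD2_c14 LD3_c34)) = (LP (LK LD1_c13 LD2_c47 LD3_c1)) :=
  Lre_e IH (LK LD1_c23 LD2_c14 LD3_c34) (LK LD1_c13 LD2_c47 LD3_c1) Lrfl Lrfl
theorem f517419 : Led Lsl_ft (LP (LK LD1_c30 LD2_c57 LD3_c43)) = (LP (LK LD1_c23 LD2_c14 LD3_c34)) :=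
  Lre_f IH (LK LD1_c30 LD2_c57 LD3_c43) (LK LD1_c23 LD2_c14 LD3_c34) Lrfl Lrfl
theorem f517420 : Led Lsl_et (LP (LK LD1_c23 LD2_c18 LD3_c23)) = (LP (LK LD1_c30 LD2_c57 LD3_c43)) :=
  Lgr Lrot69 (Lpe (f517315 IH) (Lpe (f481640 IH) (Lpr_ff (f517411 IH) (Lpe (f488590 IH) (Lpe (f517419 IH) (Lpn (LP (LK LD1_c30 LD2_c57 LD3_c43))))))))
theorem f481522 : Led Lsl_et (LP (LK LD1_c7 LD2_c18 LD3_c25)) = (LP (LK LD1_c13 LD2_c49 LD3_c36)) :=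
  Lre_e IH (LK LD1_c7 LD2_c18 LD3_c25) (LK LD1_c13 LD2_c49 LD3_c36) Lrfl Lrfl
theorem f517342 : Led Lsl_ft (LP (LK LD1_c13 LD2_c49 LD3_c36)) = (LP (LK LD1_c23 LD2_c18 LD3_c42)) :=
  Lre_f IH (LK LD1_c13 LD2_c49 LD3_c36) (LK LD1_c23 LD2_c18 LD3_c42) Lrfl Lrfl
theorem f517316 : Led Lsl_ft (LP (LK LD1_c30 LD2_c57 LD3_c36)) = (LP (LK LD1_c23 LD2_c14 LD3_c27)) :=
  Lre_f IH (LK LD1_c30 LD2_c57 LD3_c36) (LK LD1_c23 LD2_c14 LD3_c27) Lrfl Lrfl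
theorem f517343 : Led Lsl_et (LP (LK LD1_c23 LD2_c18 LD3_c42)) = (LP (LK LD1_c30 LD2_c57 LD3_c36)) :=
  Lgr Lrot69 (Lpe (f517342 IH) (Lpe (f481522 IH) (Lpr_ff (f517338 IH) (Lpe (f482905 IH) (Lpe (f517316 IH) (Lpn (LP (LK LD1_c30 LD2_c57 LD3_c36))))))))
theorem f517422 : Led Lsl_af (LP (LK LD1_c23 LD2_c18 LD3_c42)) = (LP (LK LD1_c30 LD2_c57 LD3_c43)) :=
  Lgr Lrot50 (Lpr_et (f517343 IH) (Lpe (f517313 IH) (Lpr_et (f517420 IH) (Lpn (LP (LK LD1_c30 LD2_c57 LD3_c43))))))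
theorem f517433 : Led Lsl_ct (LP (LK LD1_c23 LD2_c18 LD3_c42)) = (LP (LK LD1_c13 LD2_c49 LD3_c40)) :=
  Lre_c IH (LK LD1_c23 LD2_c18 LD3_c42) (LK LD1_c13 LD2_c49 LD3_c40) Lrfl Lrfl
theorem f517429 : Led Lsl_ct (LP (LK LD1_c23 LD2_c14 LD3_c37)) = (LP (LK LD1_c30 LD2_c57 LD3_c43)) :=
  Lre_c IH (LK LD1_c23 LD2_c14 LD3_c37) (LK LD1_c30 LD2_c57 LD3_c43) Lrfl Lrfl
theorem f517434 : Led Lsl_at (LP (LK LD1_c13 LD2_c49 LD3_c40)) = (LP (LK LD1_c23 LD2_c14 LD3_c37)) :=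
  Lgr Lrot107 (Lpe (f517433 IH) (Lpr_af (f517422 IH) (Lpe (f517429 IH) (Lpn (LP (LK LD1_c23 LD2_c14 LD3_c37))))))
theorem f517442 : Led Lsl_ft (LP (LK LD1_c7 LD2_c18 LD3_c26)) = (LP (LK LD1_c13 LD2_c49 LD3_c40)) :=
  Lre_f IH (LK LD1_c7 LD2_c18 LD3_c26) (LK LD1_c13 LD2_c49 LD3_c40) Lrfl Lrfl
theorem f488577 : Led Lsl_ft (LP (LK LD1_c23 LD2_c14 LD3_c37)) = (LP (LK LD1_c13 LD2_c47 LD3_c2)) :=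
  Lre_f IH (LK LD1_c23 LD2_c14 LD3_c37) (LK LD1_c13 LD2_c47 LD3_c2) Lrfl Lrfl
theorem f517443 : Led Lsl_af (LP (LK LD1_c7 LD2_c18 LD3_c26)) = (LP (LK LD1_c13 LD2_c47 LD3_c2)) :=
  Lgr Lrot45 (Lpr_ft (f517442 IH) (Lpr_at (f517434 IH) (Lpr_ft (f488577 IH) (Lpn (LP (LK LD1_c13 LD2_c47 LD3_c2))))))
theorem f483078 : Led Lsl_dt (LP (LK LD1_c7 LD2_c18 LD3_c26)) = (LP (LK LD1_c13 LD2_c49 LD3_c39)) :=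
  Lre_d IH (LK LD1_c7 LD2_c18 LD3_c26) (LK LD1_c13 LD2_c49 LD3_c39) Lrfl Lrfl
theorem f17402 : Led Lsl_dt (LP (LK LD1_c3 LD2_c36 LD3_c49)) = (LP (LK LD1_c7 LD2_c13 LD3_c52)) :=
  Lre_d IH (LK LD1_c3 LD2_c36 LD3_c49) (LK LD1_c7 LD2_c13 LD3_c52) Lrfl Lrfl
theorem f98590 : Led Lsl_gt (LP (LK LD1_c7 LD2_c13 LD3_c52)) = (LP (LK LD1_c13 LD2_c41 LD3_c3)) :=
  Lre_g IH (LK LD1_c7 LD2_c13 LD3_c52) (LK LD1_c13 LD2_c41 LD3_c3) Lrfl Lrfl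
theorem f488556 : Led Lsl_et (LP (LK LD1_c7 LD2_c17 LD3_c5)) = (LP (LK LD1_c3 LD2_c38 LD3_c22)) :=
  Lre_e IH (LK LD1_c7 LD2_c17 LD3_c5) (LK LD1_c3 LD2_c38 LD3_c22) Lrfl Lrfl
theorem f488559 : Led Lsl_df (LP (LK LD1_c13 LD2_c41 LD3_c3)) = (LP (LK LD1_c7 LD2_c17 LD3_c5)) :=
  Lgr Lrot132 (Lpe (f98590 IH) (Lpe (f17402 IH) (Lpe (K28.f17401 IH) (Lpe (K28.f98085 IH) (Lpr_dt (K3.f10805 IH) (Lpe (K3.f97461 IH) (Lpe (K3.f97460 IH) (Lpr_et (K29.f98532 IH) (Lpr_gf (f488550 IH) (Lpe (f488556 IH) (Lpn (LP (LK LD1_c7 LD2_c17 LD3_c5)))))))))))))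
theorem f465198 : Led Lsl_et (LP (LK LD1_c13 LD2_c41 LD3_c3)) = (LP (LK LD1_c23 LD2_c6 LD3_c33)) :=
  Lre_e IH (LK LD1_c13 LD2_c41 LD3_c3) (LK LD1_c23 LD2_c6 LD3_c33) Lrfl Lrfl
theorem f488565 : Led Lsl_et (LP (LK LD1_c3 LD2_c38 LD3_c22)) = (LP (LK LD1_c7 LD2_c17 LD3_c5)) :=
  Lre_e IH (LK LD1_c3 LD2_c38 LD3_c22) (LK LD1_c7 LD2_c17 LD3_c5) Lrfl Lrfl
theorem f488566 : Led Lsl_et (LP (LK LD1_c13 LD2_c47 LD3_c2)) = (LP (LK LD1_c7 LD2_c17 LD3_c4)) :=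
  Lre_e IH (LK LD1_c13 LD2_c47 LD3_c2) (LK LD1_c7 LD2_c17 LD3_c4) Lrfl Lrfl
theorem f488567 : Led Lsl_dt (LP (LK LD1_c23 LD2_c6 LD3_c33)) = (LP (LK LD1_c13 LD2_c47 LD3_c2)) :=
  Lgr Lrot77 (Lpe (f465198 IH) (Lpr_df (f488559 IH) (Lpe (f488565 IH) (Lpe (f92500 IH) (Lpe (f488566 IH) (Lpn (LP (LK LD1_c13 LD2_c47 LD3_c2))))))))
theorem f517454 : Led Lsl_at (LP (LK LD1_c13 LD2_c49 LD3_c39)) = (LP (LK LD1_c23 LD2_c6 LD3_c33)) :=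
  Lgr Lrot51 (Lpe (f483078 IH) (Lpr_af (f517443 IH) (Lpe (f488567 IH) (Lpn (LP (LK LD1_c23 LD2_c6 LD3_c33))))))
theorem f483084 : Led Lsl_et (LP (LK LD1_c7 LD2_c18 LD3_c28)) = (LP (LK LD1_c13 LD2_c49 LD3_c39)) :=
  Lre_e IH (LK LD1_c7 LD2_c18 LD3_c28) (LK LD1_c13 LD2_c49 LD3_c39) Lrfl Lrfl
theorem f98591 : Led Lsl_et (LP (LK LD1_c23 LD2_c6 LD3_c33)) = (LP (LK LD1_c13 LD2_c41 LD3_c3)) :=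
  Lre_e IH (LK LD1_c23 LD2_c6 LD3_c33) (LK LD1_c13 LD2_c41 LD3_c3) Lrfl Lrfl
theorem f517461 : Led Lsl_af (LP (LK LD1_c7 LD2_c18 LD3_c28)) = (LP (LK LD1_c13 LD2_c41 LD3_c3)) :=
  Lgr Lrot50 (Lpr_et (f483084 IH) (Lpr_at (f517454 IH) (Lpr_et (f98591 IH) (Lpn (LP (LK LD1_c13 LD2_c41 LD3_c3))))))
theorem f481474 : Led Lsl_dt (LP (LK LD1_c7 LD2_c18 LD3_c28)) = (LP (LK LD1_c3 LD2_c39 LD3_c0)) :=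
  Lre_d IH (LK LD1_c7 LD2_c18 LD3_c28) (LK LD1_c3 LD2_c39 LD3_c0) Lrfl Lrfl
theorem f517467 : Led Lsl_at (LP (LK LD1_c3 LD2_c39 LD3_c0)) = (LP (LK LD1_c7 LD2_c17 LD3_c5)) :=
  Lgr Lrot51 (Lpe (f481474 IH) (Lpr_af (f517461 IH) (Lpr_df (f488559 IH) (Lpn (LP (LK LD1_c7 LD2_c17 LD3_c5))))))
theorem f481476 : Led Lsl_ct (LP (LK LD1_c1 LD2_c46 LD3_c28)) = (LP (LK LD1_c3 LD2_c39 LD3_c0)) :=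
  Lre_c IH (LK LD1_c1 LD2_c46 LD3_c28) (LK LD1_c3 LD2_c39 LD3_c0) Lrfl Lrfl
theorem f456532 : Led Lsl_ct (LP (LK LD1_c7 LD2_c17 LD3_c5)) = (LP (LK LD1_c3 LD2_c38 LD3_c23)) :=
  Lre_c IH (LK LD1_c7 LD2_c17 LD3_c5) (LK LD1_c3 LD2_c38 LD3_c23) Lrfl Lrfl
theorem f517471 : Led Lsl_af (LP (LK LD1_c1 LD2_c46 LD3_c28)) = (LP (LK LD1_c3 LD2_c38 LD3_c23)) :=
  Lgr Lrot68 (Lpr_ct (f481476 IH) (Lpr_at (f517467 IH) (Lpr_ct (f456532 IH) (Lpn (LP (LK LD1_c3 LD2_c38 LD3_c23))))))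
theorem f518614 : Led Lsl_at (LP (LK LD1_c1 LD2_c46 LD3_c28)) = (LP (LK LD1_c3 LD2_c38 LD3_c23)) :=
  Lgr Lrot100 (Lpr_af (f517471 IH) (Lpn (LP (LK LD1_c3 LD2_c38 LD3_c23))))
theorem f456993 : Led Lsl_ft (LP (LK LD1_c3 LD2_c39 LD3_c3)) = (LP (LK LD1_c1 LD2_c46 LD3_c28)) :=
  Lre_f IH (LK LD1_c3 LD2_c39 LD3_c3) (LK LD1_c1 LD2_c46 LD3_c28) Lrfl Lrfl
theorem f518616 : Led Lsl_gt (LP (LK LD1_c3 LD2_c39 LD3_c3)) = (LP (LK LD1_c3 LD2_c24 LD3_c59)) :=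
  Lgr Lrot5 (Lpr_ft (f456993 IH) (Lpr_at (f518614 IH) (Lpe (K29.f483722 IH) (Lpn (LP (LK LD1_c3 LD2_c24 LD3_c59))))))
theorem f516877 : Led Lsl_ct (LP (LK LD1_c3 LD2_c39 LD3_c3)) = (LP (LK LD1_c7 LD2_c18 LD3_c29)) :=
  Lre_c IH (LK LD1_c3 LD2_c39 LD3_c3) (LK LD1_c7 LD2_c18 LD3_c29) Lrfl Lrfl
theorem f11579 : Led Lsl_dt (LP (LK LD1_c3 LD2_c33 LD3_c11)) = (LP (LK LD1_c1 LD2_c43 LD3_c19)) :=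
  Lre_d IH (LK LD1_c3 LD2_c33 LD3_c11) (LK LD1_c1 LD2_c43 LD3_c19) Lrfl Lrfl
theorem f518618 : Led Lsl_gt (LP (LK LD1_c7 LD2_c18 LD3_c29)) = (LP (LK LD1_c7 LD2_c6 LD3_c12)) :=
  Lgr Lrot94 (Lpe (f516877 IH) (Lpr_gt (f518616 IH) (Lpr_dt (K32.f491332 IH) (Lpe (K29.f491334 IH) (Lpr_dt (K29.f11581 IH) (Lpe (K8.f11583 IH) (Lpe (f11579 IH) (Lpe (K8.f11554 IH) (Lpe (K8.f11555 IH) (Lpn (LP (LK LD1_c7 LD2_c6 LD3_c12))))))))))))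
theorem f518619 : Led Lsl_gt (LP (LK LD1_c7 LD2_c18 LD3_c29)) = (LP (LK LD1_c7 LD2_c6 LD3_c12)) :=
  Leop (Lpe (f518618 IH) (Lpn (LP (LK LD1_c7 LD2_c18 LD3_c29))))
theorem seed_172 : LEOK LG_g (LK LD1_c7 LD2_c18 LD3_c29) :=
  Leoe_g (LK LD1_c7 LD2_c18 LD3_c29) (f518619 IH)
def v2381 : LQ := Led Lsl_gt (LP (LK LD1_c1 LD2_c44 LD3_c1))
theorem f519381 : Led Lsl_gt (LP (LK LD1_c1 LD2_c44 LD3_c1)) = v2381 :=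
  Lrfl
theorem f448749 : Led Lsl_bt (LP (LK LD1_c3 LD2_c34 LD3_c28)) = (LP (LK LD1_c1 LD2_c44 LD3_c1)) :=
  Lre_b IH (LK LD1_c3 LD2_c34 LD3_c28) (LK LD1_c1 LD2_c44 LD3_c1) Lrfl Lrfl
theorem f450868 : Led Lsl_ct (LP (LK LD1_c3 LD2_c34 LD3_c28)) = (LP (LK LD1_c7 LD2_c9 LD3_c59)) :=
  Lre_c IH (LK LD1_c3 LD2_c34 LD3_c28) (LK LD1_c7 LD2_c9 LD3_c59) Lrfl Lrfl
theorem f434192 : Led Lsl_gt (LP (LK LD1_c13 LD2_c34 LD3_c16)) = (LP (LK LD1_c7 LD2_c9 LD3_c59)) :=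
  Lre_g IH (LK LD1_c13 LD2_c34 LD3_c16) (LK LD1_c7 LD2_c9 LD3_c59) Lrfl Lrfl
theorem f10742 : Led Lsl_ct (LP (LK LD1_c0 LD2_c48 LD3_c35)) = (LP (LK LD1_c1 LD2_c44 LD3_c1)) :=
  Lre_c IH (LK LD1_c0 LD2_c48 LD3_c35) (LK LD1_c1 LD2_c44 LD3_c1) Lrfl Lrfl
theorem f432993 : Led Lsl_gf (LP (LK LD1_c0 LD2_c48 LD3_c35)) = (LP (LK LD1_c0 LD2_c49 LD3_c14)) :=
  Lgr Lrot134 (Lpe (K11.f10741 IH) (Lpr_et (K11.f432989 IH) (Lpr_gt (K7.f106010 IH) (Lpe (K0.f10288 IH) (Lpr_dt (K2.f6674 IH) (Lpr_gt (K2.f5898 IH) (Lpr_df (K5.f98604 IH) (Lpr_et (K3.f86728 IH) (Lpr_gt (K3.f86717 IH) (Lpr_dt (K3.f10281 IH) (Lpn (LP (LK LD1_c0 LD2_c49 LD3_c14)))))))))))))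
def v2337 : LQ := Led Lsl_dt (LP (LK LD1_c1 LD2_c42 LD3_c48))
theorem f514707 : Led Lsl_dt (LP (LK LD1_c1 LD2_c42 LD3_c48)) = v2337 :=
  Lrfl
theorem f519383 : Led Lsl_cf v2337 = v2381 :=
  Lgr Lrot99 (Lpe (f514707 IH) (Lpr_cf (K2.f94368 IH) (Lpe (K5.f105932 IH) (Lpe (K0.f17723 IH) (Lpr_gf (K3.f105928 IH) (Lpe (K3.f10446 IH) (Lpe (f432993 IH) (Lpr_ct (f10742 IH) (Lpr_gt (f519381 IH) (Lpn v2381))))))))))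
theorem f87494 : Led Lsl_gt (LP (LK LD1_c0 LD2_c21 LD3_c32)) = (LP (LK LD1_c0 LD2_c48 LD3_c3)) :=
  Lre_g IH (LK LD1_c0 LD2_c21 LD3_c32) (LK LD1_c0 LD2_c48 LD3_c3) Lrfl Lrfl
def v657 : LQ := Led Lsl_dt (LP (LK LD1_c0 LD2_c48 LD3_c3))
theorem f455813 : Led Lsl_dt (LP (LK LD1_c0 LD2_c48 LD3_c3)) = v657 :=
  Lrfl
theorem f4003 : Led Lsl_et (LP (LK LD1_c0 LD2_c4 LD3_c47)) = (LP (LK LD1_c0 LD2_c10 LD3_c11)) :=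
  Lre_e IH (LK LD1_c0 LD2_c4 LD3_c47) (LK LD1_c0 LD2_c10 LD3_c11) Lrfl Lrfl
theorem f450857 : Led Lsl_dt (LP (LK LD1_c0 LD2_c48 LD3_c13)) = K11.v167 :=
  Lgr Lrot6 (Lpr_gt (K6.f10362 IH) (Lpe (K0.f19448 IH) (Lpr_gt (K3.f9976 IH) (Lpr_ct (K3.f10359 IH) (Lpr_df (K7.f156074 IH) (Lpe (K11.f156105 IH) (Lpe (K11.f10964 IH) (Lpe (K11.f10942 IH) (Lpr_gf (K11.f450855 IH) (Lpn K11.v167))))))))))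
theorem f455818 : Led Lsl_gf K11.v167 = v657 :=
  Lgr Lrot134 (Lpe (f450857 IH) (Lpr_et (K11.f430215 IH) (Lpr_gt (K11.f4014 IH) (Lpe (f4003 IH) (Lpr_dt (K3.f4959 IH) (Lpe (K3.f94414 IH) (Lpe (K2.f10271 IH) (Lpr_et (K2.f94411 IH) (Lpr_gt (f87494 IH) (Lpr_dt (f455813 IH) (Lpn v657)))))))))))
theorem f511277 : Led Lsl_df (LP (LK LD1_c1 LD2_c39 LD3_c2)) = K32.v2253 :=
  Lgr Lrot38 (Lpr_dt (K32.f511274 IH) (Lpn K32.v2253))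
theorem f514712 : Led Lsl_gf K32.v2253 = v2337 :=
  Lgr Lrot143 (Lpe (f511277 IH) (Lpe (K7.f143269 IH) (Lpr_df (K11.f450858 IH) (Lpr_gf (f455818 IH) (Lpe (f455813 IH) (Lpe (f87494 IH) (Lpe (K2.f87498 IH) (Lpr_gt (K2.f87514 IH) (Lpr_dt (f514707 IH) (Lpn v2337))))))))))
theorem f448426 : Led Lsl_gt (LP (LK LD1_c3 LD2_c37 LD3_c50)) = (LP (LK LD1_c7 LD2_c16 LD3_c4)) :=
  Lre_g IH (LK LD1_c3 LD2_c37 LD3_c50) (LK LD1_c7 LD2_c16 LD3_c4) Lrfl Lrfl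
theorem f448429 : Led Lsl_bt (LP (LK LD1_c13 LD2_c45 LD3_c4)) = (LP (LK LD1_c7 LD2_c16 LD3_c4)) :=
  Lre_b IH (LK LD1_c13 LD2_c45 LD3_c4) (LK LD1_c7 LD2_c16 LD3_c4) Lrfl Lrfl
theorem f519385 : Led Lsl_cf (LP (LK LD1_c13 LD2_c34 LD3_c16)) = (LP (LK LD1_c13 LD2_c45 LD3_c4)) :=
  Lgr Lrot160 (Lpr_gt (f434192 IH) (Lpe (f450868 IH) (Lpr_bt (f448749 IH) (Lpr_gt (f519381 IH) (Lpe (f519383 IH) (Lpe (f514712 IH) (Lpe (K32.f511281 IH) (Lpr_bt (K32.f448424 IH) (Lpr_gt (f448426 IH) (Lpe (f448429 IH) (Lpn (LP (LK LD1_c13 LD2_c45 LD3_c4)))))))))))))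
theorem f519386 : Led Lsl_ct (LP (LK LD1_c13 LD2_c45 LD3_c4)) = (LP (LK LD1_c13 LD2_c34 LD3_c16)) :=
  Leop (Lpr_cf (f519385 IH) (Lpn (LP (LK LD1_c13 LD2_c45 LD3_c4))))
theorem seed_173 : LEOK LG_c (LK LD1_c13 LD2_c45 LD3_c4) :=
  Leoe_c (LK LD1_c13 LD2_c45 LD3_c4) (f519386 IH)
def v2383 : LQ := Led Lsl_gt (LP (LK LD1_c1 LD2_c44 LD3_c8))
theorem f519399 : Led Lsl_gt (LP (LK LD1_c1 LD2_c44 LD3_c8)) = v2383 :=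
  Lrfl
theorem f19474 : Led Lsl_af (LP (LK LD1_c3 LD2_c34 LD3_c49)) = (LP (LK LD1_c3 LD2_c34 LD3_c51)) :=
  Lgr Lrot45 (Lpr_ft (K3.f19472 IH) (Lpr_at (K3.f19437 IH) (Lpr_ft (K3.f19454 IH) (Lpn (LP (LK LD1_c3 LD2_c34 LD3_c51))))))
theorem f519401 : Led Lsl_gf (LP (LK LD1_c3 LD2_c34 LD3_c49)) = v2383 :=
  Lgr Lrot76 (Lpr_af (f19474 IH) (Lpe (K3.f19454 IH) (Lpr_gt (f519399 IH) (Lpn v2383))))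
theorem f19484 : Led Lsl_gt (LP (LK LD1_c3 LD2_c34 LD3_c48)) = (LP (LK LD1_c1 LD2_c44 LD3_c8)) :=
  Lre_g IH (LK LD1_c3 LD2_c34 LD3_c48) (LK LD1_c1 LD2_c44 LD3_c8) Lrfl Lrfl
theorem f19485 : Led Lsl_gt (LP (LK LD1_c3 LD2_c34 LD3_c49)) = (LP (LK LD1_c3 LD2_c34 LD3_c48)) :=
  Lgr Lrot5 (Lpr_ft (K3.f19472 IH) (Lpr_at (K3.f19437 IH) (Lpe (f19484 IH) (Lpn (LP (LK LD1_c3 LD2_c34 LD3_c48))))))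
theorem f143275 : Led Lsl_dt (LP (LK LD1_c0 LD2_c48 LD3_c34)) = (LP (LK LD1_c1 LD2_c44 LD3_c0)) :=
  Lre_d IH (LK LD1_c0 LD2_c48 LD3_c34) (LK LD1_c1 LD2_c44 LD3_c0) Lrfl Lrfl
theorem f429057 : Led Lsl_ct (LP (LK LD1_c1 LD2_c44 LD3_c0)) = (LP (LK LD1_c3 LD2_c34 LD3_c27)) :=
  Lre_c IH (LK LD1_c1 LD2_c44 LD3_c0) (LK LD1_c3 LD2_c34 LD3_c27) Lrfl Lrfl
theorem f429058 : Led Lsl_df (LP (LK LD1_c3 LD2_c34 LD3_c27)) = (LP (LK LD1_c3 LD2_c34 LD3_c48)) :=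
  Lgr Lrot84 (Lpe (f429057 IH) (Lpe (f143275 IH) (Lpr_gf (K11.f429055 IH) (Lpr_df (K3.f106753 IH) (Lpe (K3.f94370 IH) (Lpe (K3.f107790 IH) (Lpr_gt (K3.f106646 IH) (Lpe (K3.f106632 IH) (Lpr_gt (f19485 IH) (Lpn (LP (LK LD1_c3 LD2_c34 LD3_c48))))))))))))
theorem f106642 : Led Lsl_dt (LP (LK LD1_c0 LD2_c48 LD3_c35)) = (LP (LK LD1_c0 LD2_c21 LD3_c43)) :=
  Lre_d IH (LK LD1_c0 LD2_c48 LD3_c35) (LK LD1_c0 LD2_c21 LD3_c43) Lrfl Lrfl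
theorem f106806 : Led Lsl_dt (LP (LK LD1_c1 LD2_c44 LD3_c0)) = (LP (LK LD1_c0 LD2_c48 LD3_c34)) :=
  Lre_d IH (LK LD1_c1 LD2_c44 LD3_c0) (LK LD1_c0 LD2_c48 LD3_c34) Lrfl Lrfl
theorem f432997 : Led Lsl_gf (LP (LK LD1_c1 LD2_c44 LD3_c0)) = (LP (LK LD1_c3 LD2_c28 LD3_c52)) :=
  Lgr Lrot143 (Lpr_dt (f106806 IH) (Lpe (K11.f10752 IH) (Lpe (f106642 IH) (Lpr_gf (f432993 IH) (Lpe (K3.f10281 IH) (Lpe (K3.f86717 IH) (Lpe (K3.f17992 IH) (Lpe (K3.f105936 IH) (Lpr_dt (K3.f84698 IH) (Lpn (LP (LK LD1_c3 LD2_c28 LD3_c52))))))))))))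
theorem f433003 : Led Lsl_gt (LP (LK LD1_c3 LD2_c34 LD3_c27)) = (LP (LK LD1_c1 LD2_c45 LD3_c48)) :=
  Lgr Lrot150 (Lpe (f429057 IH) (Lpr_gf (f432997 IH) (Lpe (K3.f84698 IH) (Lpr_gt (K3.f106715 IH) (Lpr_ct (K3.f17704 IH) (Lpe (K3.f18002 IH) (Lpr_ct (K0.f19755 IH) (Lpe (K3.f10337 IH) (Lpe (K3.f18005 IH) (Lpn (LP (LK LD1_c1 LD2_c45 LD3_c48))))))))))))
def v2377 : LQ := Led Lsl_ct (LP (LK LD1_c1 LD2_c43 LD3_c57))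
theorem f519361 : Led Lsl_ct (LP (LK LD1_c1 LD2_c43 LD3_c57)) = v2377 :=
  Lrfl
theorem f519365 : Led Lsl_gf (LP (LK LD1_c1 LD2_c45 LD3_c5)) = v2377 :=
  Lgr Lrot148 (Lpr_dt (K3.f19780 IH) (Lpr_gt (K3.f105845 IH) (Lpr_dt (K3.f105847 IH) (Lpe (K3.f105923 IH) (Lpe (K3.f17707 IH) (Lpe (K3.f106715 IH) (Lpe (K3.f85011 IH) (Lpr_gf (K32.f430273 IH) (Lpr_ct (f519361 IH) (Lpn v2377))))))))))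
theorem f519402 : Led Lsl_df v2377 = v2383 :=
  Lgr Lrot153 (Lpe (f519365 IH) (Lpr_dt (K3.f19780 IH) (Lpr_cf (K3.f19761 IH) (Lpe (K3.f19759 IH) (Lpe (f433003 IH) (Lpr_df (f429058 IH) (Lpe (f19485 IH) (Lpe (K3.f19438 IH) (Lpr_gt (f519399 IH) (Lpn v2383))))))))))
theorem f429624 : Led Lsl_dt (LP (LK LD1_c1 LD2_c44 LD3_c1)) = (LP (LK LD1_c3 LD2_c34 LD3_c29)) :=
  Lre_d IH (LK LD1_c1 LD2_c44 LD3_c1) (LK LD1_c3 LD2_c34 LD3_c29) Lrfl Lrfl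
theorem f519403 : Led Lsl_cf (LP (LK LD1_c3 LD2_c34 LD3_c29)) = v2383 :=
  Lgr Lrot99 (Lpe (f429624 IH) (Lpe (f10742 IH) (Lpr_gf (f432993 IH) (Lpe (K3.f10883 IH) (Lpr_gf (f519365 IH) (Lpr_df (f519402 IH) (Lpe (f519401 IH) (Lpr_ct (K3.f19455 IH) (Lpr_gt (f519399 IH) (Lpn v2383))))))))))
theorem f106640 : Led Lsl_dt (LP (LK LD1_c3 LD2_c34 LD3_c29)) = (LP (LK LD1_c1 LD2_c44 LD3_c1)) :=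
  Lre_d IH (LK LD1_c3 LD2_c34 LD3_c29) (LK LD1_c1 LD2_c44 LD3_c1) Lrfl Lrfl
theorem f519404 : Led Lsl_df v2383 = v2377 :=
  Lgr Lrot155 (Lpe (f519401 IH) (Lpr_ct (K3.f19455 IH) (Lpr_gt (f519399 IH) (Lpe (f519403 IH) (Lpr_dt (f106640 IH) (Lpe (f10742 IH) (Lpr_gf (f432993 IH) (Lpe (K3.f10883 IH) (Lpr_gf (f519365 IH) (Lpn v2377))))))))))
def v2376 : LQ := Led Lsl_dt (LP (LK LD1_c1 LD2_c43 LD3_c56))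
theorem f519351 : Led Lsl_dt (LP (LK LD1_c1 LD2_c43 LD3_c56)) = v2376 :=
  Lrfl
theorem f447853 : Led Lsl_ff (LP (LK LD1_c1 LD2_c43 LD3_c56)) = (LP (LK LD1_c1 LD2_c40 LD3_c56)) :=
  Lgr Lrot25 (Lpr_bt (K11.f106095 IH) (Lpr_ft (K11.f447851 IH) (Lpr_bt (K7.f155091 IH) (Lpn (LP (LK LD1_c1 LD2_c40 LD3_c56))))))
theorem f519355 : Led Lsl_ff (LP (LK LD1_c3 LD2_c28 LD3_c28)) = v2376 :=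
  Lgr Lrot19 (Lpr_dt (K7.f94114 IH) (Lpe (f447853 IH) (Lpr_dt (f519351 IH) (Lpn v2376))))
theorem f106090 : Led Lsl_dt (LP (LK LD1_c1 LD2_c43 LD3_c57)) = (LP (LK LD1_c0 LD2_c48 LD3_c32)) :=
  Lre_d IH (LK LD1_c1 LD2_c43 LD3_c57) (LK LD1_c0 LD2_c48 LD3_c32) Lrfl Lrfl
theorem f447857 : Led Lsl_ff (LP (LK LD1_c1 LD2_c43 LD3_c57)) = (LP (LK LD1_c3 LD2_c28 LD3_c53)) :=
  Lgr Lrot19 (Lpr_dt (f106090 IH) (Lpr_ft (K11.f447851 IH) (Lpr_dt (K7.f156101 IH) (Lpn (LP (LK LD1_c3 LD2_c28 LD3_c53))))))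
theorem f519359 : Led Lsl_bt (LP (LK LD1_c1 LD2_c43 LD3_c57)) = v2376 :=
  Lgr Lrot35 (Lpr_ff (f447857 IH) (Lpe (K7.f156099 IH) (Lpr_ff (f519355 IH) (Lpn v2376))))
def v877 : LQ := Led Lsl_dt (LP (LK LD1_c0 LD2_c53 LD3_c17))
theorem f490202 : Led Lsl_dt (LP (LK LD1_c0 LD2_c53 LD3_c17)) = v877 :=
  Lrfl
theorem f490205 : Led Lsl_df (LP (LK LD1_c0 LD2_c53 LD3_c17)) = v877 :=
  Lgr Lrot38 (Lpr_dt (f490202 IH) (Lpn v877))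
theorem f519356 : Led Lsl_gf v877 = v2376 :=
  Lgr Lrot143 (Lpe (f490205 IH) (Lpr_cf (K2.f90199 IH) (Lpe (K6.f83815 IH) (Lpe (f446917 IH) (Lpe (f434300 IH) (Lpr_gf (f446905 IH) (Lpr_cf (K2.f90127 IH) (Lpe (K11.f155055 IH) (Lpr_dt (f519351 IH) (Lpn v2376))))))))))
theorem f94054 : Led Lsl_ct (LP (LK LD1_c7 LD2_c5 LD3_c23)) = (LP (LK LD1_c12 LD2_c13 LD3_c51)) :=
  Lgr Lrot59 (Lpr_cf (K7.f94044 IH) (Lpn (LP (LK LD1_c12 LD2_c13 LD3_c51))))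
theorem f154978 : Led Lsl_cf (LP (LK LD1_c3 LD2_c35 LD3_c12)) = (LP (LK LD1_c6 LD2_c27 LD3_c28)) :=
  Lgr Lrot11 (Lpr_ct (K7.f154972 IH) (Lpn (LP (LK LD1_c6 LD2_c27 LD3_c28))))
theorem f154807 : Led Lsl_dt (LP (LK LD1_c12 LD2_c19 LD3_c5)) = (LP (LK LD1_c6 LD2_c22 LD3_c49)) :=
  Lre_d IH (LK LD1_c12 LD2_c19 LD3_c5) (LK LD1_c6 LD2_c22 LD3_c49) Lrfl Lrfl
theorem f154669 : Led Lsl_dt (LP (LK LD1_c12 LD2_c19 LD3_c10)) = (LP (LK LD1_c6 LD2_c22 LD3_c52)) :=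
  Lre_d IH (LK LD1_c12 LD2_c19 LD3_c10) (LK LD1_c6 LD2_c22 LD3_c52) Lrfl Lrfl
theorem f154670 : Led Lsl_ct (LP (LK LD1_c3 LD2_c9 LD3_c7)) = (LP (LK LD1_c1 LD2_c30 LD3_c44)) :=
  Lre_c IH (LK LD1_c3 LD2_c9 LD3_c7) (LK LD1_c1 LD2_c30 LD3_c44) Lrfl Lrfl
theorem f154833 : Led Lsl_dt (LP (LK LD1_c6 LD2_c22 LD3_c49)) = (LP (LK LD1_c12 LD2_c19 LD3_c5)) :=
  Lre_d IH (LK LD1_c6 LD2_c22 LD3_c49) (LK LD1_c12 LD2_c19 LD3_c5) Lrfl Lrfl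
theorem f19248 : Led Lsl_at (LP (LK LD1_c7 LD2_c5 LD3_c17)) = (LP (LK LD1_c3 LD2_c31 LD3_c59)) :=
  Lre_a IH (LK LD1_c7 LD2_c5 LD3_c17) (LK LD1_c3 LD2_c31 LD3_c59) Lrfl Lrfl
theorem f11503 : Led Lsl_gt (LP (LK LD1_c7 LD2_c5 LD3_c24)) = (LP (LK LD1_c3 LD2_c31 LD3_c59)) :=
  Lre_g IH (LK LD1_c7 LD2_c5 LD3_c24) (LK LD1_c3 LD2_c31 LD3_c59) Lrfl Lrfl
theorem f19309 : Led Lsl_gf (LP (LK LD1_c7 LD2_c5 LD3_c24)) = (LP (LK LD1_c6 LD2_c52 LD3_c60)) :=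
  Lgr Lrot47 (Lpr_gt (f11503 IH) (Lpe (f19248 IH) (Lpr_ff (K2.f19190 IH) (Lpn (LP (LK LD1_c6 LD2_c52 LD3_c60))))))
theorem f432623 : Led Lsl_cf (LP (LK LD1_c12 LD2_c19 LD3_c5)) = (LP (LK LD1_c7 LD2_c5 LD3_c24)) :=
  Lgr Lrot99 (Lpe (f154833 IH) (Lpe (K7.f154821 IH) (Lpe (K7.f154796 IH) (Lpe (f154670 IH) (Lpe (K7.f154648 IH) (Lpe (f154669 IH) (Lpr_gt (f432621 IH) (Lpe (K2.f68113 IH) (Lpe (f19309 IH) (Lpn (LP (LK LD1_c7 LD2_c5 LD3_c24))))))))))))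
theorem f432602 : Led Lsl_gt (LP (LK LD1_c7 LD2_c5 LD3_c25)) = (LP (LK LD1_c12 LD2_c19 LD3_c10)) :=
  Lgr Lrot49 (Lpr_df (K7.f83602 IH) (Lpe (K7.f83668 IH) (Lpe (K7.f430154 IH) (Lpr_gt (f432600 IH) (Lpr_dt (f26126 IH) (Lpr_gt (K4.f106144 IH) (Lpr_dt (K7.f90116 IH) (Lpe (K11.f154657 IH) (Lpe (f154669 IH) (Lpn (LP (LK LD1_c12 LD2_c19 LD3_c10))))))))))))
theorem f19278 : Led Lsl_ct (LP (LK LD1_c3 LD2_c31 LD3_c59)) = (LP (LK LD1_c7 LD2_c5 LD3_c25)) :=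
  Lre_c IH (LK LD1_c3 LD2_c31 LD3_c59) (LK LD1_c7 LD2_c5 LD3_c25) Lrfl Lrfl
theorem f12628 : Led Lsl_ct (LP (LK LD1_c1 LD2_c42 LD3_c37)) = (LP (LK LD1_c3 LD2_c31 LD3_c55)) :=
  Lre_c IH (LK LD1_c1 LD2_c42 LD3_c37) (LK LD1_c3 LD2_c31 LD3_c55) Lrfl Lrfl
theorem f10938 : Led Lsl_gt (LP (LK LD1_c3 LD2_c35 LD3_c13)) = (LP (LK LD1_c1 LD2_c44 LD3_c25)) :=
  Lre_g IH (LK LD1_c3 LD2_c35 LD3_c13) (LK LD1_c1 LD2_c44 LD3_c25) Lrfl Lrfl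
theorem f432718 : Led Lsl_df (LP (LK LD1_c7 LD2_c5 LD3_c24)) = (LP (LK LD1_c3 LD2_c35 LD3_c13)) :=
  Lgr Lrot155 (Lpr_gt (f11503 IH) (Lpr_ct (f19278 IH) (Lpr_gt (f432602 IH) (Lpr_ct (K7.f154665 IH) (Lpr_dt (K7.f64369 IH) (Lpe (f12628 IH) (Lpe (K7.f154993 IH) (Lpe (K7.f10935 IH) (Lpe (f10938 IH) (Lpn (LP (LK LD1_c3 LD2_c35 LD3_c13))))))))))))
theorem f490204 : Led Lsl_cf (LP (LK LD1_c3 LD2_c35 LD3_c13)) = v877 :=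
  Lgr Lrot55 (Lpe (f432718 IH) (Lpe (f432623 IH) (Lpr_dt (f154807 IH) (Lpr_ct (K7.f154806 IH) (Lpe (K7.f154797 IH) (Lpr_ct (K2.f83506 IH) (Lpr_dt (f86752 IH) (Lpe (f154978 IH) (Lpr_dt (K7.f154986 IH) (Lpr_ct (f94054 IH) (Lpr_dt (K7.f83830 IH) (Lpr_ct (K7.f83808 IH) (Lpr_dt (K6.f83815 IH) (Lpe (K2.f90199 IH) (Lpr_dt (f490202 IH) (Lpn v877))))))))))))))))
theorem f10934 : Led Lsl_bt (LP (LK LD1_c0 LD2_c48 LD3_c49)) = (LP (LK LD1_c0 LD2_c21 LD3_c52)) :=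
  Lre_b IH (LK LD1_c0 LD2_c48 LD3_c49) (LK LD1_c0 LD2_c21 LD3_c52) Lrfl Lrfl
theorem f10102 : Led Lsl_bt (LP (LK LD1_c0 LD2_c49 LD3_c33)) = (LP (LK LD1_c0 LD2_c22 LD3_c18)) :=
  Lre_b IH (LK LD1_c0 LD2_c49 LD3_c33) (LK LD1_c0 LD2_c22 LD3_c18) Lrfl Lrfl
theorem f519366 : Led Lsl_gt (LP (LK LD1_c1 LD2_c45 LD3_c48)) = v2377 :=
  Lgr Lrot65 (Lpe (K3.f10939 IH) (Lpr_bt (f10102 IH) (Lpr_gf (K6.f10914 IH) (Lpe (f10934 IH) (Lpr_ct (K7.f10937 IH) (Lpe (f10938 IH) (Lpr_cf (f490204 IH) (Lpr_gf (f519356 IH) (Lpe (f519359 IH) (Lpr_ct (f519361 IH) (Lpn v2377)))))))))))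
theorem f87073 : Led Lsl_ct (LP (LK LD1_c1 LD2_c41 LD3_c11)) = (LP (LK LD1_c3 LD2_c28 LD3_c54)) :=
  Lre_c IH (LK LD1_c1 LD2_c41 LD3_c11) (LK LD1_c3 LD2_c28 LD3_c54) Lrfl Lrfl
theorem f87075 : Led Lsl_dt (LP (LK LD1_c6 LD2_c59 LD3_c24)) = (LP (LK LD1_c3 LD2_c28 LD3_c54)) :=
  Lre_d IH (LK LD1_c6 LD2_c59 LD3_c24) (LK LD1_c3 LD2_c28 LD3_c54) Lrfl Lrfl
theorem f105987 : Led Lsl_cf (LP (LK LD1_c3 LD2_c32 LD3_c13)) = (LP (LK LD1_c3 LD2_c36 LD3_c13)) :=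
  Lgr Lrot11 (Lpr_ct (K5.f105984 IH) (Lpn (LP (LK LD1_c3 LD2_c36 LD3_c13))))
theorem f106775 : Led Lsl_gf (LP (LK LD1_c6 LD2_c59 LD3_c24)) = (LP (LK LD1_c3 LD2_c38 LD3_c10)) :=
  Lgr Lrot143 (Lpr_dt (f87075 IH) (Lpe (f87073 IH) (Lpe (K7.f19359 IH) (Lpr_gf (K3.f106773 IH) (Lpe (K3.f94366 IH) (Lpe (K29.f105982 IH) (Lpr_cf (f105987 IH) (Lpe (K5.f105989 IH) (Lpr_dt (K3.f17997 IH) (Lpn (LP (LK LD1_c3 LD2_c38 LD3_c10))))))))))))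
theorem f106639 : Led Lsl_ct (LP (LK LD1_c1 LD2_c44 LD3_c1)) = (LP (LK LD1_c0 LD2_c48 LD3_c35)) :=
  Lre_c IH (LK LD1_c1 LD2_c44 LD3_c1) (LK LD1_c0 LD2_c48 LD3_c35) Lrfl Lrfl
theorem f105776 : Led Lsl_ct (LP (LK LD1_c3 LD2_c36 LD3_c16)) = (LP (LK LD1_c7 LD2_c6 LD3_c53)) :=
  Lgr Lrot59 (Lpr_cf (K3.f105763 IH) (Lpn (LP (LK LD1_c7 LD2_c6 LD3_c53))))
theorem f107714 : Led Lsl_gf (LP (LK LD1_c3 LD2_c36 LD3_c16)) = (LP (LK LD1_c6 LD2_c59 LD3_c24)) :=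
  Lgr Lrot76 (Lpr_af (K3.f107701 IH) (Lpe (K3.f107687 IH) (Lpe (f106775 IH) (Lpn (LP (LK LD1_c6 LD2_c59 LD3_c24))))))
theorem f87077 : Led Lsl_dt (LP (LK LD1_c3 LD2_c28 LD3_c54)) = (LP (LK LD1_c6 LD2_c59 LD3_c24)) :=
  Lre_d IH (LK LD1_c3 LD2_c28 LD3_c54) (LK LD1_c6 LD2_c59 LD3_c24) Lrfl Lrfl
theorem f450865 : Led Lsl_gf (LP (LK LD1_c1 LD2_c44 LD3_c1)) = (LP (LK LD1_c3 LD2_c28 LD3_c54)) :=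
  Lgr Lrot147 (Lpr_ct (f106639 IH) (Lpr_gt (K11.f450863 IH) (Lpr_ct (K3.f10939 IH) (Lpe (K3.f18004 IH) (Lpe (K3.f19778 IH) (Lpe (K3.f86863 IH) (Lpe (f105776 IH) (Lpr_gf (f107714 IH) (Lpe (f87077 IH) (Lpn (LP (LK LD1_c3 LD2_c28 LD3_c54))))))))))))
theorem f519408 : Led Lsl_cf v2383 = (LP (LK LD1_c3 LD2_c34 LD3_c29)) :=
  Lgr Lrot14 (Lpr_df (f519404 IH) (Lpe (f519366 IH) (Lpe (K3.f18004 IH) (Lpr_gf (K3.f105760 IH) (Lpe (K3.f105857 IH) (Lpe (f106775 IH) (Lpr_dt (f87075 IH) (Lpe (f450865 IH) (Lpr_dt (f429624 IH) (Lpn (LP (LK LD1_c3 LD2_c34 LD3_c29))))))))))))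
theorem f19462 : Led Lsl_bt (LP (LK LD1_c3 LD2_c34 LD3_c49)) = (LP (LK LD1_c7 LD2_c10 LD3_c48)) :=
  Lre_b IH (LK LD1_c3 LD2_c34 LD3_c49) (LK LD1_c7 LD2_c10 LD3_c48) Lrfl Lrfl
theorem f19656 : Led Lsl_gt (LP (LK LD1_c13 LD2_c36 LD3_c2)) = (LP (LK LD1_c7 LD2_c10 LD3_c48)) :=
  Lre_g IH (LK LD1_c13 LD2_c36 LD3_c2) (LK LD1_c7 LD2_c10 LD3_c48) Lrfl Lrfl
theorem f19663 : Led Lsl_bt (LP (LK LD1_c23 LD2_c0 LD3_c4)) = (LP (LK LD1_c13 LD2_c36 LD3_c2)) :=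
  Lre_b IH (LK LD1_c23 LD2_c0 LD3_c4) (LK LD1_c13 LD2_c36 LD3_c2) Lrfl Lrfl
theorem f448741 : Led Lsl_bt (LP (LK LD1_c3 LD2_c34 LD3_c29)) = (LP (LK LD1_c7 LD2_c10 LD3_c3)) :=
  Lre_b IH (LK LD1_c3 LD2_c34 LD3_c29) (LK LD1_c7 LD2_c10 LD3_c3) Lrfl Lrfl
theorem f519409 : Led Lsl_gt (LP (LK LD1_c7 LD2_c10 LD3_c3)) = (LP (LK LD1_c13 LD2_c34 LD3_c28)) :=
  Lre_g IH (LK LD1_c7 LD2_c10 LD3_c3) (LK LD1_c13 LD2_c34 LD3_c28) Lrfl Lrfl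
theorem f519411 : Led Lsl_ct (LP (LK LD1_c13 LD2_c34 LD3_c28)) = (LP (LK LD1_c22 LD2_c57 LD3_c45)) :=
  Lre_c IH (LK LD1_c13 LD2_c34 LD3_c28) (LK LD1_c22 LD2_c57 LD3_c45) Lrfl Lrfl
theorem f519412 : Led Lsl_gt (LP (LK LD1_c22 LD2_c57 LD3_c45)) = (LP (LK LD1_c30 LD2_c49 LD3_c28)) :=
  Lre_g IH (LK LD1_c22 LD2_c57 LD3_c45) (LK LD1_c30 LD2_c49 LD3_c28) Lrfl Lrfl
theorem f519413 : Led Lsl_ct (LP (LK LD1_c23 LD2_c0 LD3_c4)) = (LP (LK LD1_c30 LD2_c49 LD3_c28)) :=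
  Lgr Lrot63 (Lpr_bt (f19663 IH) (Lpr_gt (f19656 IH) (Lpe (f19462 IH) (Lpr_ct (K3.f19455 IH) (Lpr_gt (f519399 IH) (Lpr_cf (f519408 IH) (Lpr_bt (f448741 IH) (Lpr_gt (f519409 IH) (Lpr_ct (f519411 IH) (Lpr_gt (f519412 IH) (Lpn (LP (LK LD1_c30 LD2_c49 LD3_c28)))))))))))))
theorem f519414 : Led Lsl_ct (LP (LK LD1_c23 LD2_c0 LD3_c4)) = (LP (LK LD1_c30 LD2_c49 LD3_c28)) :=
  Leop (Lpe (f519413 IH) (Lpn (LP (LK LD1_c23 LD2_c0 LD3_c4))))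
theorem seed_174 : LEOK LG_c (LK LD1_c23 LD2_c0 LD3_c4) :=
  Leoe_c (LK LD1_c23 LD2_c0 LD3_c4) (f519414 IH)
def v2428 : LQ := Led Lsl_gf (LP (LK LD1_c1 LD2_c45 LD3_c12))
theorem f519650 : Led Lsl_gf (LP (LK LD1_c1 LD2_c45 LD3_c12)) = v2428 :=
  Lrfl
theorem f14887 : Led Lsl_bt (LP (LK LD1_c7 LD2_c30 LD3_c21)) = (LP (LK LD1_c3 LD2_c44 LD3_c39)) :=
  Lre_b IH (LK LD1_c7 LD2_c30 LD3_c21) (LK LD1_c3 LD2_c44 LD3_c39) Lrfl Lrfl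
theorem f14898 : Led Lsl_gt (LP (LK LD1_c3 LD2_c44 LD3_c39)) = (LP (LK LD1_c1 LD2_c52 LD3_c53)) :=
  Lre_g IH (LK LD1_c3 LD2_c44 LD3_c39) (LK LD1_c1 LD2_c52 LD3_c53) Lrfl Lrfl
theorem f519652 : Led Lsl_ct (LP (LK LD1_c1 LD2_c52 LD3_c53)) = v2428 :=
  Lgr Lrot91 (Lpe (f14898 IH) (Lpe (f14887 IH) (Lpe (K8.f14869 IH) (Lpe (K8.f16048 IH) (Lpe (K28.f15936 IH) (Lpe (K28.f465551 IH) (Lpe (K28.f17337 IH) (Lpe (K28.f17335 IH) (Lpe (K3.f17315 IH) (Lpr_gf (f519650 IH) (Lpn v2428)))))))))))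
theorem f16040 : Led Lsl_ct (LP (LK LD1_c3 LD2_c52 LD3_c32)) = (LP (LK LD1_c7 LD2_c46 LD3_c57)) :=
  Lre_c IH (LK LD1_c3 LD2_c52 LD3_c32) (LK LD1_c7 LD2_c46 LD3_c57) Lrfl Lrfl
theorem f17328 : Led Lsl_ct (LP (LK LD1_c7 LD2_c37 LD3_c52)) = (LP (LK LD1_c3 LD2_c48 LD3_c24)) :=
  Lre_c IH (LK LD1_c7 LD2_c37 LD3_c52) (LK LD1_c3 LD2_c48 LD3_c24) Lrfl Lrfl
theorem f519654 : Led Lsl_gt (LP (LK LD1_c7 LD2_c46 LD3_c57)) = (LP (LK LD1_c7 LD2_c37 LD3_c52)) :=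
  Lgr Lrot150 (Lpe (f16040 IH) (Lpe (K3.f16038 IH) (Lpe (K3.f63686 IH) (Lpr_gt (f14898 IH) (Lpr_ct (f519652 IH) (Lpe (f519650 IH) (Lpr_ct (K5.f17325 IH) (Lpe (K5.f17327 IH) (Lpe (f17328 IH) (Lpn (LP (LK LD1_c7 LD2_c37 LD3_c52))))))))))))
theorem f519655 : Led Lsl_gt (LP (LK LD1_c7 LD2_c46 LD3_c57)) = (LP (LK LD1_c7 LD2_c37 LD3_c52)) :=
  Leop (Lpe (f519654 IH) (Lpn (LP (LK LD1_c7 LD2_c46 LD3_c57))))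
theorem seed_175 : LEOK LG_g (LK LD1_c7 LD2_c46 LD3_c57) :=
  Leoe_g (LK LD1_c7 LD2_c46 LD3_c57) (f519655 IH)
def v2429 : LQ := Led Lsl_dt (LP (LK LD1_c1 LD2_c45 LD3_c16))
theorem f519683 : Led Lsl_dt (LP (LK LD1_c1 LD2_c45 LD3_c16)) = v2429 :=
  Lrfl
def v2355 : LQ := Led Lsl_dt (LP (LK LD1_c1 LD2_c43 LD3_c20))
theorem f514939 : Led Lsl_dt (LP (LK LD1_c1 LD2_c43 LD3_c20)) = v2355 :=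
  Lrfl
theorem f514941 : Led Lsl_df (LP (LK LD1_c1 LD2_c43 LD3_c20)) = v2355 :=
  Lgr Lrot38 (Lpr_dt (f514939 IH) (Lpn v2355))
theorem f519686 : Led Lsl_ff v2355 = v2429 :=
  Lgr Lrot19 (Lpe (f514941 IH) (Lpe (K29.f470386 IH) (Lpr_dt (f519683 IH) (Lpn v2429))))
def v907 : LQ := Led Lsl_dt (LP (LK LD1_c0 LD2_c53 LD3_c61))
theorem f490382 : Led Lsl_dt (LP (LK LD1_c0 LD2_c53 LD3_c61)) = v907 :=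
  Lrfl
theorem f490384 : Led Lsl_df (LP (LK LD1_c0 LD2_c53 LD3_c61)) = v907 :=
  Lgr Lrot38 (Lpr_dt (f490382 IH) (Lpn v907))
theorem f514940 : Led Lsl_af v907 = v2355 :=
  Lgr Lrot117 (Lpe (f490384 IH) (Lpr_at (K29.f470376 IH) (Lpr_dt (f514939 IH) (Lpn v2355))))
def v910 : LQ := Led Lsl_dt (LP (LK LD1_c0 LD2_c54 LD3_c1))
theorem f490397 : Led Lsl_dt (LP (LK LD1_c0 LD2_c54 LD3_c1)) = v910 :=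
  Lrfl
theorem f490400 : Led Lsl_ff v907 = v910 :=
  Lgr Lrot19 (Lpe (f490384 IH) (Lpe (K28.f458617 IH) (Lpr_dt (f490397 IH) (Lpn v910))))
theorem f490402 : Led Lsl_ft v907 = v910 :=
  Lgr Lrot48 (Lpr_ff (f490400 IH) (Lpn v910))
theorem f519687 : Led Lsl_at v910 = v2429 :=
  Lgr Lrot66 (Lpe (f490402 IH) (Lpr_af (f514940 IH) (Lpr_ff (f519686 IH) (Lpn v2429))))
def v2364 : LQ := Led Lsl_et (LP (LK LD1_c1 LD2_c43 LD3_c44))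
theorem f519290 : Led Lsl_et (LP (LK LD1_c1 LD2_c43 LD3_c44)) = v2364 :=
  Lrfl
theorem f519292 : Led Lsl_ef (LP (LK LD1_c1 LD2_c43 LD3_c44)) = v2364 :=
  Lgr Lrot88 (Lpr_et (f519290 IH) (Lpn v2364))
theorem f92499 : Led Lsl_dt (LP (LK LD1_c1 LD2_c43 LD3_c44)) = (LP (LK LD1_c0 LD2_c48 LD3_c27)) :=
  Lre_d IH (LK LD1_c1 LD2_c43 LD3_c44) (LK LD1_c0 LD2_c48 LD3_c27) Lrfl Lrfl
theorem f92498 : Led Lsl_et (LP (LK LD1_c0 LD2_c48 LD3_c27)) = (LP (LK LD1_c1 LD2_c43 LD3_c45)) :=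
  Lre_e IH (LK LD1_c0 LD2_c48 LD3_c27) (LK LD1_c1 LD2_c43 LD3_c45) Lrfl Lrfl
theorem f92497 : Led Lsl_et (LP (LK LD1_c1 LD2_c46 LD3_c9)) = (LP (LK LD1_c3 LD2_c38 LD3_c23)) :=
  Lre_e IH (LK LD1_c1 LD2_c46 LD3_c9) (LK LD1_c3 LD2_c38 LD3_c23) Lrfl Lrfl
theorem f519293 : Led Lsl_dt (LP (LK LD1_c3 LD2_c38 LD3_c23)) = v2364 :=
  Lgr Lrot77 (Lpe (f92497 IH) (Lpr_df (K2.f92484 IH) (Lpe (f92498 IH) (Lpe (f92499 IH) (Lpr_ef (f519292 IH) (Lpn v2364))))))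
theorem f4395 : Led Lsl_et (LP (LK LD1_c3 LD2_c38 LD3_c23)) = (LP (LK LD1_c1 LD2_c46 LD3_c9)) :=
  Lre_e IH (LK LD1_c3 LD2_c38 LD3_c23) (LK LD1_c1 LD2_c46 LD3_c9) Lrfl Lrfl
theorem f519294 : Led Lsl_gt v907 = v2364 :=
  Lgr Lrot139 (Lpe (f490382 IH) (Lpq (K28.f465133 IH) (Lpe (K28.f456850 IH) (Lpe (K29.f17473 IH) (Lpr_dt (K0.f17463 IH) (Lpe (K0.f5242 IH) (Lpe (K2.f393 IH) (Lpr_et (K2.f4381 IH) (Lpe (K2.f4387 IH) (Lpe (f4395 IH) (Lpr_dt (f519293 IH) (Lpn v2364))))))))))))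
theorem f519690 : Led Lsl_gt v2364 = v2429 :=
  Lgr Lrot46 (Lpe (f519294 IH) (Lpr_ft (f490402 IH) (Lpr_at (f519687 IH) (Lpn v2429))))
theorem f519685 : Led Lsl_df (LP (LK LD1_c1 LD2_c45 LD3_c16)) = v2429 :=
  Lgr Lrot38 (Lpr_dt (f519683 IH) (Lpn v2429))
theorem f458589 : Led Lsl_gt (LP (LK LD1_c3 LD2_c56 LD3_c4)) = (LP (LK LD1_c7 LD2_c53 LD3_c48)) :=
  Lre_g IH (LK LD1_c3 LD2_c56 LD3_c4) (LK LD1_c7 LD2_c53 LD3_c48) Lrfl Lrfl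
theorem f465162 : Led Lsl_gt (LP (LK LD1_c7 LD2_c53 LD3_c48)) = (LP (LK LD1_c7 LD2_c13 LD3_c61)) :=
  Lgr Lrot46 (Lpe (f458589 IH) (Lpe (K29.f458643 IH) (Lpr_at (K29.f465149 IH) (Lpn (LP (LK LD1_c7 LD2_c13 LD3_c61))))))
theorem f17616 : Led Lsl_et (LP (LK LD1_c7 LD2_c16 LD3_c58)) = (LP (LK LD1_c3 LD2_c38 LD3_c17)) :=
  Lre_e IH (LK LD1_c7 LD2_c16 LD3_c58) (LK LD1_c3 LD2_c38 LD3_c17) Lrfl Lrfl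
theorem f471392 : Led Lsl_df (LP (LK LD1_c7 LD2_c53 LD3_c48)) = (LP (LK LD1_c7 LD2_c16 LD3_c58)) :=
  Lgr Lrot132 (Lpe (f458589 IH) (Lpe (K29.f458564 IH) (Lpr_gf (K30.f471380 IH) (Lpe (K28.f17510 IH) (Lpr_dt (K3.f10482 IH) (Lpr_gf (K3.f17501 IH) (Lpe (K0.f398 IH) (Lpr_et (K28.f5049 IH) (Lpe (f4158 IH) (Lpe (f17616 IH) (Lpn (LP (LK LD1_c7 LD2_c16 LD3_c58)))))))))))))
theorem f519691 : Led Lsl_gt (LP (LK LD1_c6 LD2_c52 LD3_c21)) = (LP (LK LD1_c7 LD2_c16 LD3_c58)) :=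
  Lgr Lrot94 (Lpe (K29.f455948 IH) (Lpr_gt (K29.f483722 IH) (Lpr_dt (f519293 IH) (Lpr_gt (f519690 IH) (Lpe (f519685 IH) (Lpe (K30.f107950 IH) (Lpe (K29.f160110 IH) (Lpe (f465162 IH) (Lpr_df (f471392 IH) (Lpn (LP (LK LD1_c7 LD2_c16 LD3_c58))))))))))))
theorem f519692 : Led Lsl_gt (LP (LK LD1_c6 LD2_c52 LD3_c21)) = (LP (LK LD1_c7 LD2_c16 LD3_c58)) :=
  Leop (Lpe (f519691 IH) (Lpn (LP (LK LD1_c6 LD2_c52 LD3_c21))))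
theorem seed_176 : LEOK LG_g (LK LD1_c6 LD2_c52 LD3_c21) :=
  Leoe_g (LK LD1_c6 LD2_c52 LD3_c21) (f519692 IH)
def v2444 : LQ := Led Lsl_ft (LP (LK LD1_c1 LD2_c45 LD3_c31))
theorem f519774 : Led Lsl_ft (LP (LK LD1_c1 LD2_c45 LD3_c31)) = v2444 :=
  Lrfl
theorem f519777 : Led Lsl_ff (LP (LK LD1_c1 LD2_c45 LD3_c31)) = v2444 :=
  Lgr Lrot3 (Lpr_ft (f519774 IH) (Lpn v2444))
def v707 : LQ := Led Lsl_ft (LP (LK LD1_c0 LD2_c49 LD3_c25))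
theorem f456869 : Led Lsl_ft (LP (LK LD1_c0 LD2_c49 LD3_c25)) = v707 :=
  Lrfl
theorem f519779 : Led Lsl_bt v707 = v2444 :=
  Lgr Lrot35 (Lpe (f456869 IH) (Lpe (K29.f6646 IH) (Lpr_ff (f519777 IH) (Lpn v2444))))
theorem f456871 : Led Lsl_ff (LP (LK LD1_c0 LD2_c49 LD3_c25)) = v707 :=
  Lgr Lrot3 (Lpr_ft (f456869 IH) (Lpn v707))
theorem f456859 : Led Lsl_ff (LP (LK LD1_c0 LD2_c49 LD3_c26)) = K29.v704 :=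
  Lgr Lrot3 (Lpr_ft (K29.f456855 IH) (Lpn K29.v704))
theorem f456873 : Led Lsl_at (LP (LK LD1_c0 LD2_c49 LD3_c26)) = v707 :=
  Lgr Lrot66 (Lpr_ff (f456859 IH) (Lpe (K29.f456852 IH) (Lpr_ff (f456871 IH) (Lpn v707))))
theorem f456874 : Led Lsl_at (LP (LK LD1_c3 LD2_c37 LD3_c22)) = (LP (LK LD1_c1 LD2_c45 LD3_c33)) :=
  Lre_a IH (LK LD1_c3 LD2_c37 LD3_c22) (LK LD1_c1 LD2_c45 LD3_c33) Lrfl Lrfl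
def v2441 : LQ := Led Lsl_at (LP (LK LD1_c1 LD2_c45 LD3_c31))
theorem f519762 : Led Lsl_at (LP (LK LD1_c1 LD2_c45 LD3_c31)) = v2441 :=
  Lrfl
theorem f519763 : Led Lsl_af (LP (LK LD1_c1 LD2_c45 LD3_c31)) = v2441 :=
  Lgr Lrot0 (Lpr_at (f519762 IH) (Lpn v2441))
theorem f519764 : Led Lsl_ft (LP (LK LD1_c6 LD2_c55 LD3_c7)) = v2441 :=
  Lgr Lrot2 (Lpr_gt (f125196 IH) (Lpr_gt (K29.f477166 IH) (Lpr_af (f519763 IH) (Lpn v2441))))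
theorem f519775 : Led Lsl_af (LP (LK LD1_c6 LD2_c55 LD3_c7)) = v2444 :=
  Lgr Lrot45 (Lpr_ft (f519764 IH) (Lpe (f519763 IH) (Lpr_ft (f519774 IH) (Lpn v2444))))
theorem f519780 : Led Lsl_bf (LP (LK LD1_c3 LD2_c37 LD3_c22)) = (LP (LK LD1_c6 LD2_c55 LD3_c7)) :=
  Lgr Lrot81 (Lpr_at (f456874 IH) (Lpr_bt (K29.f6651 IH) (Lpr_at (f456873 IH) (Lpr_bt (f519779 IH) (Lpe (f519775 IH) (Lpn (LP (LK LD1_c6 LD2_c55 LD3_c7))))))))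
theorem f519781 : Led Lsl_bt (LP (LK LD1_c6 LD2_c55 LD3_c7)) = (LP (LK LD1_c3 LD2_c37 LD3_c22)) :=
  Leop (Lpr_bf (f519780 IH) (Lpn (LP (LK LD1_c6 LD2_c55 LD3_c7))))
theorem seed_177 : LEOK LG_b (LK LD1_c6 LD2_c55 LD3_c7) :=
  Leoe_b (LK LD1_c6 LD2_c55 LD3_c7) (f519781 IH)
def v2423 : LQ := Led Lsl_ft (LP (LK LD1_c1 LD2_c45 LD3_c1))
theorem f519615 : Led Lsl_ft (LP (LK LD1_c1 LD2_c45 LD3_c1)) = v2423 :=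
  Lrfl
theorem f519617 : Led Lsl_ff (LP (LK LD1_c1 LD2_c45 LD3_c1)) = v2423 :=
  Lgr Lrot3 (Lpr_ft (f519615 IH) (Lpn v2423))
theorem f456870 : Led Lsl_af (LP (LK LD1_c0 LD2_c49 LD3_c26)) = v707 :=
  Lgr Lrot45 (Lpr_ft (K29.f456855 IH) (Lpe (K29.f456853 IH) (Lpr_ft (f456869 IH) (Lpn v707))))
def v2420 : LQ := Led Lsl_at (LP (LK LD1_c1 LD2_c45 LD3_c1))
theorem f519605 : Led Lsl_at (LP (LK LD1_c1 LD2_c45 LD3_c1)) = v2420 :=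
  Lrfl
theorem f519606 : Led Lsl_af (LP (LK LD1_c1 LD2_c45 LD3_c1)) = v2420 :=
  Lgr Lrot0 (Lpr_at (f519605 IH) (Lpn v2420))
theorem f519607 : Led Lsl_ft (LP (LK LD1_c1 LD2_c45 LD3_c2)) = v2420 :=
  Lgr Lrot2 (Lpr_gt (K29.f10695 IH) (Lpr_gt (f10279 IH) (Lpr_af (f519606 IH) (Lpn v2420))))
theorem f519608 : Led Lsl_ff (LP (LK LD1_c1 LD2_c45 LD3_c2)) = v2420 :=
  Lgr Lrot3 (Lpr_ft (f519607 IH) (Lpn v2420))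
theorem f519618 : Led Lsl_at (LP (LK LD1_c1 LD2_c45 LD3_c2)) = v2423 :=
  Lgr Lrot66 (Lpr_ff (f519608 IH) (Lpe (f519605 IH) (Lpr_ff (f519617 IH) (Lpn v2423))))
theorem f519776 : Led Lsl_bf v707 = v2444 :=
  Lgr Lrot61 (Lpe (f456871 IH) (Lpr_bt (K29.f456854 IH) (Lpr_ft (f519774 IH) (Lpn v2444))))
theorem f136694 : Led Lsl_gt (LP (LK LD1_c3 LD2_c50 LD3_c38)) = (LP (LK LD1_c7 LD2_c42 LD3_c0)) :=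
  Lre_g IH (LK LD1_c3 LD2_c50 LD3_c38) (LK LD1_c7 LD2_c42 LD3_c0) Lrfl Lrfl
theorem f136676 : Led Lsl_bt (LP (LK LD1_c1 LD2_c52 LD3_c15)) = (LP (LK LD1_c3 LD2_c50 LD3_c38)) :=
  Lre_b IH (LK LD1_c1 LD2_c52 LD3_c15) (LK LD1_c3 LD2_c50 LD3_c38) Lrfl Lrfl
theorem f136699 : Led Lsl_ft (LP (LK LD1_c0 LD2_c52 LD3_c52)) = (LP (LK LD1_c1 LD2_c52 LD3_c15)) :=
  Lre_f IH (LK LD1_c0 LD2_c52 LD3_c52) (LK LD1_c1 LD2_c52 LD3_c15) Lrfl Lrfl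
theorem f467484 : Led Lsl_cf (LP (LK LD1_c3 LD2_c37 LD3_c21)) = (LP (LK LD1_c1 LD2_c52 LD3_c15)) :=
  Lgr Lrot108 (Lpr_ft (K29.f467481 IH) (Lpr_ct (K5.f12214 IH) (Lpr_ft (f136699 IH) (Lpn (LP (LK LD1_c1 LD2_c52 LD3_c15))))))
theorem f487951 : Led Lsl_bt (LP (LK LD1_c1 LD2_c51 LD3_c47)) = (LP (LK LD1_c3 LD2_c49 LD3_c34)) :=
  Lre_b IH (LK LD1_c1 LD2_c51 LD3_c47) (LK LD1_c3 LD2_c49 LD3_c34) Lrfl Lrfl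
theorem f487952 : Led Lsl_gf (LP (LK LD1_c3 LD2_c37 LD3_c21)) = (LP (LK LD1_c3 LD2_c49 LD3_c35)) :=
  Lgr Lrot126 (Lpr_cf (f467484 IH) (Lpr_bt (f136676 IH) (Lpr_gt (f136694 IH) (Lpe (f486232 IH) (Lpr_gt (f15232 IH) (Lpe (f15159 IH) (Lpr_bt (K6.f127958 IH) (Lpr_gt (f487944 IH) (Lpe (f487951 IH) (Lpr_ct (f459814 IH) (Lpn (LP (LK LD1_c3 LD2_c49 LD3_c35)))))))))))))
theorem f488002 : Led Lsl_ff (LP (LK LD1_c3 LD2_c37 LD3_c22)) = (LP (LK LD1_c3 LD2_c49 LD3_c35)) :=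
  Lgr Lrot52 (Lpr_at (f456874 IH) (Lpe (K29.f97105 IH) (Lpr_gf (f487952 IH) (Lpn (LP (LK LD1_c3 LD2_c49 LD3_c35))))))
theorem f488014 : Led Lsl_ft (LP (LK LD1_c3 LD2_c37 LD3_c22)) = (LP (LK LD1_c3 LD2_c49 LD3_c35)) :=
  Lgr Lrot48 (Lpr_ff (f488002 IH) (Lpn (LP (LK LD1_c3 LD2_c49 LD3_c35))))
theorem f519765 : Led Lsl_ff (LP (LK LD1_c6 LD2_c55 LD3_c7)) = v2441 :=
  Lgr Lrot3 (Lpr_ft (f519764 IH) (Lpn v2441))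
theorem f519790 : (LP (LK LD1_c3 LD2_c26 LD3_c43)) = v2441 :=
  (Llr Lrot35 (Lpr_bf (f487927 IH) (Lpe (f488014 IH) (Lpr_bf (f519780 IH) (Lpr_ff (f519765 IH) (Lpn v2441)))))).symm
theorem f519795 : Led Lsl_ff (LP (LK LD1_c3 LD2_c54 LD3_c51)) = (LP (LK LD1_c1 LD2_c54 LD3_c11)) :=
  Lgr Lrot23 (Lpr_ct (f480259 IH) (Lpr_ft (f519764 IH) (Lpq (f519790 IH) (Lpr_ct (K29.f477012 IH) (Lpn (LP (LK LD1_c1 LD2_c54 LD3_c11)))))))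
theorem f519803 : Led Lsl_at (LP (LK LD1_c3 LD2_c54 LD3_c51)) = (LP (LK LD1_c1 LD2_c54 LD3_c12)) :=
  Lgr Lrot26 (Lpr_ff (f519795 IH) (Lpr_gt (K29.f437638 IH) (Lpr_gt (f437634 IH) (Lpn (LP (LK LD1_c1 LD2_c54 LD3_c12))))))
theorem f480255 : Led Lsl_cf (LP (LK LD1_c3 LD2_c54 LD3_c51)) = (LP (LK LD1_c6 LD2_c55 LD3_c7)) :=
  Lgr Lrot39 (Lpe (f480183 IH) (Lpe (f464663 IH) (Lpr_et (f480253 IH) (Lpn (LP (LK LD1_c6 LD2_c55 LD3_c7))))))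
theorem f519811 : v2444 = (LP (LK LD1_c3 LD2_c26 LD3_c44)) :=
  (Llr Lrot68 (Lpe (f519775 IH) (Lpe (f480255 IH) (Lpr_at (f519803 IH) (Lpe (f478263 IH) (Lpn (LP (LK LD1_c3 LD2_c26 LD3_c44)))))))).symm
theorem f519816 : v707 = (LP (LK LD1_c1 LD2_c45 LD3_c2)) :=
  Lefun (Lecon (Lfl_bf (f519776 IH)) (f519811 IH)) (K29.f478255 IH)
theorem f519817 : (LP (LK LD1_c0 LD2_c49 LD3_c26)) = v2423 :=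
  Lefun (Lecon (Lfl_af (f456870 IH)) (f519816 IH)) (f519618 IH)
theorem f519830 : Led Lsl_ff (LP (LK LD1_c1 LD2_c45 LD3_c34)) = (LP (LK LD1_c3 LD2_c36 LD3_c24)) :=
  Lgr Lrot23 (Lpr_ct (K29.f6619 IH) (Lpqs (f519817 IH) (Lpe (f519617 IH) (Lpr_ct (f10693 IH) (Lpn (LP (LK LD1_c3 LD2_c36 LD3_c24)))))))
theorem f519840 : Led Lsl_at (LP (LK LD1_c1 LD2_c45 LD3_c34)) = (LP (LK LD1_c3 LD2_c36 LD3_c25)) :=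
  Lgr Lrot26 (Lpr_ff (f519830 IH) (Lpr_gt (K28.f10694 IH) (Lpr_gt (K29.f478240 IH) (Lpn (LP (LK LD1_c3 LD2_c36 LD3_c25))))))
theorem f519848 : Led Lsl_af (LP (LK LD1_c3 LD2_c37 LD3_c27)) = (LP (LK LD1_c6 LD2_c58 LD3_c25)) :=
  Lgr Lrot50 (Lpr_et (K29.f97088 IH) (Lpr_at (f519840 IH) (Lpe (K29.f479573 IH) (Lpn (LP (LK LD1_c6 LD2_c58 LD3_c25))))))
theorem f519858 : Led Lsl_ft (LP (LK LD1_c6 LD2_c58 LD3_c22)) = (LP (LK LD1_c6 LD2_c58 LD3_c25)) :=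
  Lgr Lrot2 (Lpe (K28.f458600 IH) (Lpe (K30.f477665 IH) (Lpr_af (f519848 IH) (Lpn (LP (LK LD1_c6 LD2_c58 LD3_c25))))))
theorem f519866 : Led Lsl_ff (LP (LK LD1_c6 LD2_c58 LD3_c22)) = (LP (LK LD1_c6 LD2_c58 LD3_c25)) :=
  Lgr Lrot3 (Lpr_ft (f519858 IH) (Lpn (LP (LK LD1_c6 LD2_c58 LD3_c25))))
theorem f519872 : Led Lsl_ft (LP (LK LD1_c13 LD2_c14 LD3_c16)) = (LP (LK LD1_c13 LD2_c14 LD3_c21)) :=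
  Lgr Lrot54 (Lpe (K30.f458613 IH) (Lpr_ff (f519866 IH) (Lpe (K29.f462012 IH) (Lpn (LP (LK LD1_c13 LD2_c14 LD3_c21))))))
theorem f519878 : Led Lsl_af (LP (LK LD1_c7 LD2_c15 LD3_c25)) = (LP (LK LD1_c13 LD2_c14 LD3_c21)) :=
  Lgr Lrot31 (Lpe (K29.f97086 IH) (Lpr_gf (K30.f477672 IH) (Lpr_ft (f519872 IH) (Lpn (LP (LK LD1_c13 LD2_c14 LD3_c21))))))
theorem f477579 : Led Lsl_et (LP (LK LD1_c7 LD2_c15 LD3_c25)) = (LP (LK LD1_c13 LD2_c44 LD3_c1)) :=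
  Lre_e IH (LK LD1_c7 LD2_c15 LD3_c25) (LK LD1_c13 LD2_c44 LD3_c1) Lrfl Lrfl
theorem f479564 : Led Lsl_et (LP (LK LD1_c22 LD2_c29 LD3_c6)) = (LP (LK LD1_c13 LD2_c14 LD3_c21)) :=
  Lre_e IH (LK LD1_c22 LD2_c29 LD3_c6) (LK LD1_c13 LD2_c14 LD3_c21) Lrfl Lrfl
theorem f519882 : Led Lsl_at (LP (LK LD1_c13 LD2_c44 LD3_c1)) = (LP (LK LD1_c22 LD2_c29 LD3_c6)) :=
  Lgr Lrot80 (Lpe (f477579 IH) (Lpr_af (f519878 IH) (Lpe (f479564 IH) (Lpn (LP (LK LD1_c22 LD2_c29 LD3_c6))))))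
theorem f478173 : Led Lsl_dt (LP (LK LD1_c7 LD2_c15 LD3_c23)) = (LP (LK LD1_c13 LD2_c44 LD3_c1)) :=
  Lre_d IH (LK LD1_c7 LD2_c15 LD3_c23) (LK LD1_c13 LD2_c44 LD3_c1) Lrfl Lrfl
theorem f462017 : Led Lsl_et (LP (LK LD1_c13 LD2_c14 LD3_c21)) = (LP (LK LD1_c22 LD2_c29 LD3_c6)) :=
  Lre_e IH (LK LD1_c13 LD2_c14 LD3_c21) (LK LD1_c22 LD2_c29 LD3_c6) Lrfl Lrfl
theorem f478252 : Led Lsl_dt (LP (LK LD1_c7 LD2_c13 LD3_c12)) = (LP (LK LD1_c3 LD2_c36 LD3_c25)) :=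
  Lre_d IH (LK LD1_c7 LD2_c13 LD3_c12) (LK LD1_c3 LD2_c36 LD3_c25) Lrfl Lrfl
theorem f479579 : Led Lsl_et (LP (LK LD1_c13 LD2_c40 LD3_c6)) = (LP (LK LD1_c7 LD2_c13 LD3_c12)) :=
  Lre_e IH (LK LD1_c13 LD2_c40 LD3_c6) (LK LD1_c7 LD2_c13 LD3_c12) Lrfl Lrfl
theorem f479580 : Led Lsl_dt (LP (LK LD1_c22 LD2_c29 LD3_c6)) = (LP (LK LD1_c13 LD2_c40 LD3_c6)) :=
  Lgr Lrot77 (Lpe (f462017 IH) (Lpe (K29.f462013 IH) (Lpr_ef (K29.f479573 IH) (Lpe (f478252 IH) (Lpe (f479579 IH) (Lpn (LP (LK LD1_c13 LD2_c40 LD3_c6))))))))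
theorem f519886 : Led Lsl_af (LP (LK LD1_c7 LD2_c15 LD3_c23)) = (LP (LK LD1_c13 LD2_c40 LD3_c6)) :=
  Lgr Lrot117 (Lpr_dt (f478173 IH) (Lpr_at (f519882 IH) (Lpr_dt (f479580 IH) (Lpn (LP (LK LD1_c13 LD2_c40 LD3_c6))))))
theorem f519900 : Led Lsl_ft (LP (LK LD1_c7 LD2_c15 LD3_c23)) = (LP (LK LD1_c13 LD2_c44 LD3_c2)) :=
  Lre_f IH (LK LD1_c7 LD2_c15 LD3_c23) (LK LD1_c13 LD2_c44 LD3_c2) Lrfl Lrfl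
theorem f480600 : Led Lsl_ft (LP (LK LD1_c23 LD2_c5 LD3_c37)) = (LP (LK LD1_c13 LD2_c40 LD3_c6)) :=
  Lre_f IH (LK LD1_c23 LD2_c5 LD3_c37) (LK LD1_c13 LD2_c40 LD3_c6) Lrfl Lrfl
theorem f519901 : Led Lsl_at (LP (LK LD1_c13 LD2_c44 LD3_c2)) = (LP (LK LD1_c23 LD2_c5 LD3_c37)) :=
  Lgr Lrot66 (Lpe (f519900 IH) (Lpr_af (f519886 IH) (Lpe (f480600 IH) (Lpn (LP (LK LD1_c23 LD2_c5 LD3_c37))))))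
theorem f519912 : Led Lsl_ct (LP (LK LD1_c23 LD2_c10 LD3_c39)) = (LP (LK LD1_c13 LD2_c44 LD3_c2)) :=
  Lre_c IH (LK LD1_c23 LD2_c10 LD3_c39) (LK LD1_c13 LD2_c44 LD3_c2) Lrfl Lrfl
theorem f519908 : Led Lsl_ct (LP (LK LD1_c23 LD2_c5 LD3_c37)) = (LP (LK LD1_c30 LD2_c53 LD3_c46)) :=
  Lre_c IH (LK LD1_c23 LD2_c5 LD3_c37) (LK LD1_c30 LD2_c53 LD3_c46) Lrfl Lrfl
theorem f519913 : Led Lsl_af (LP (LK LD1_c23 LD2_c10 LD3_c39)) = (LP (LK LD1_c30 LD2_c53 LD3_c46)) :=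
  Lgr Lrot68 (Lpr_ct (f519912 IH) (Lpr_at (f519901 IH) (Lpr_ct (f519908 IH) (Lpn (LP (LK LD1_c30 LD2_c53 LD3_c46))))))
theorem f519921 : Led Lsl_at (LP (LK LD1_c23 LD2_c10 LD3_c39)) = (LP (LK LD1_c30 LD2_c53 LD3_c46)) :=
  Lgr Lrot100 (Lpr_af (f519913 IH) (Lpn (LP (LK LD1_c30 LD2_c53 LD3_c46))))
theorem f519926 : Led Lsl_ft (LP (LK LD1_c13 LD2_c43 LD3_c60)) = (LP (LK LD1_c23 LD2_c10 LD3_c39)) :=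
  Lre_f IH (LK LD1_c13 LD2_c43 LD3_c60) (LK LD1_c23 LD2_c10 LD3_c39) Lrfl Lrfl
theorem f519927 : Led Lsl_ft (LP (LK LD1_c30 LD2_c53 LD3_c46)) = (LP (LK LD1_c23 LD2_c5 LD3_c34)) :=
  Lre_f IH (LK LD1_c30 LD2_c53 LD3_c46) (LK LD1_c23 LD2_c5 LD3_c34) Lrfl Lrfl
theorem f519928 : Led Lsl_af (LP (LK LD1_c13 LD2_c43 LD3_c60)) = (LP (LK LD1_c23 LD2_c5 LD3_c34)) :=
  Lgr Lrot45 (Lpr_ft (f519926 IH) (Lpr_at (f519921 IH) (Lpr_ft (f519927 IH) (Lpn (LP (LK LD1_c23 LD2_c5 LD3_c34))))))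
theorem f519934 : Led Lsl_et (LP (LK LD1_c13 LD2_c43 LD3_c60)) = (LP (LK LD1_c7 LD2_c15 LD3_c22)) :=
  Lre_e IH (LK LD1_c13 LD2_c43 LD3_c60) (LK LD1_c7 LD2_c15 LD3_c22) Lrfl Lrfl
theorem f519935 : Led Lsl_et (LP (LK LD1_c13 LD2_c40 LD3_c5)) = (LP (LK LD1_c23 LD2_c5 LD3_c34)) :=
  Lre_e IH (LK LD1_c13 LD2_c40 LD3_c5) (LK LD1_c23 LD2_c5 LD3_c34) Lrfl Lrfl
theorem f519936 : Led Lsl_at (LP (LK LD1_c7 LD2_c15 LD3_c22)) = (LP (LK LD1_c13 LD2_c40 LD3_c5)) :=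
  Lgr Lrot80 (Lpe (f519934 IH) (Lpr_af (f519928 IH) (Lpe (f519935 IH) (Lpn (LP (LK LD1_c13 LD2_c40 LD3_c5))))))
theorem f519938 : Led Lsl_af (LP (LK LD1_c7 LD2_c15 LD3_c22)) = (LP (LK LD1_c13 LD2_c40 LD3_c5)) :=
  Lgr Lrot0 (Lpr_at (f519936 IH) (Lpn (LP (LK LD1_c13 LD2_c40 LD3_c5))))
theorem f477978 : Led Lsl_ct (LP (LK LD1_c3 LD2_c37 LD3_c26)) = (LP (LK LD1_c7 LD2_c15 LD3_c22)) :=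
  Lre_c IH (LK LD1_c3 LD2_c37 LD3_c26) (LK LD1_c7 LD2_c15 LD3_c22) Lrfl Lrfl
theorem f97100 : Led Lsl_dt (LP (LK LD1_c1 LD2_c45 LD3_c34)) = (LP (LK LD1_c3 LD2_c37 LD3_c26)) :=
  Lre_d IH (LK LD1_c1 LD2_c45 LD3_c34) (LK LD1_c3 LD2_c37 LD3_c26) Lrfl Lrfl
theorem f156080 : Led Lsl_dt (LP (LK LD1_c1 LD2_c45 LD3_c35)) = (LP (LK LD1_c0 LD2_c49 LD3_c26)) :=
  Lre_d IH (LK LD1_c1 LD2_c45 LD3_c35) (LK LD1_c0 LD2_c49 LD3_c26) Lrfl Lrfl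
theorem f477979 : Led Lsl_ct (LP (LK LD1_c3 LD2_c37 LD3_c28)) = (LP (LK LD1_c1 LD2_c45 LD3_c35)) :=
  Lre_c IH (LK LD1_c3 LD2_c37 LD3_c28) (LK LD1_c1 LD2_c45 LD3_c35) Lrfl Lrfl
theorem f481283 : Led Lsl_dt (LP (LK LD1_c7 LD2_c15 LD3_c27)) = (LP (LK LD1_c3 LD2_c37 LD3_c28)) :=
  Lre_d IH (LK LD1_c7 LD2_c15 LD3_c27) (LK LD1_c3 LD2_c37 LD3_c28) Lrfl Lrfl
theorem f481279 : Led Lsl_ct (LP (LK LD1_c13 LD2_c43 LD3_c20)) = (LP (LK LD1_c7 LD2_c15 LD3_c27)) :=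
  Lgr Lrot59 (Lpr_cf (K29.f481271 IH) (Lpn (LP (LK LD1_c7 LD2_c15 LD3_c27))))
theorem f481267 : Led Lsl_df (LP (LK LD1_c13 LD2_c43 LD3_c20)) = (LP (LK LD1_c7 LD2_c15 LD3_c15)) :=
  Lgr Lrot38 (Lpr_dt (K29.f481265 IH) (Lpn (LP (LK LD1_c7 LD2_c15 LD3_c15))))
theorem f519943 : Led Lsl_ft (LP (LK LD1_c7 LD2_c15 LD3_c15)) = (LP (LK LD1_c13 LD2_c40 LD3_c5)) :=
  Lgr Lrot142 (Lpe (f481267 IH) (Lpr_ct (f481279 IH) (Lpr_dt (f481283 IH) (Lpr_ct (f477979 IH) (Lpr_dt (f156080 IH) (Lpr_ct (K29.f10840 IH) (Lpr_dt (f97100 IH) (Lpr_ct (f477978 IH) (Lpr_af (f519938 IH) (Lpn (LP (LK LD1_c13 LD2_c40 LD3_c5))))))))))))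
theorem f519950 : Led Lsl_ff (LP (LK LD1_c7 LD2_c15 LD3_c15)) = (LP (LK LD1_c13 LD2_c40 LD3_c5)) :=
  Lgr Lrot3 (Lpr_ft (f519943 IH) (Lpn (LP (LK LD1_c13 LD2_c40 LD3_c5))))
theorem f478246 : Led Lsl_ct (LP (LK LD1_c7 LD2_c13 LD3_c12)) = (LP (LK LD1_c13 LD2_c40 LD3_c5)) :=
  Lre_c IH (LK LD1_c7 LD2_c13 LD3_c12) (LK LD1_c13 LD2_c40 LD3_c5) Lrfl Lrfl
theorem f519959 : Led Lsl_ft (LP (LK LD1_c3 LD2_c37 LD3_c20)) = (LP (LK LD1_c7 LD2_c13 LD3_c12)) :=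
  Lgr Lrot4 (Lpe (K29.f456857 IH) (Lpr_ff (f519950 IH) (Lpe (f478246 IH) (Lpn (LP (LK LD1_c7 LD2_c13 LD3_c12))))))
theorem f519979 : Led Lsl_ff (LP (LK LD1_c1 LD2_c45 LD3_c32)) = (LP (LK LD1_c3 LD2_c36 LD3_c25)) :=
  Lgr Lrot19 (Lpr_dt (K29.f456864 IH) (Lpr_ft (f519959 IH) (Lpr_dt (f478252 IH) (Lpn (LP (LK LD1_c3 LD2_c36 LD3_c25))))))
theorem f519985 : Led Lsl_ft (LP (LK LD1_c1 LD2_c45 LD3_c32)) = (LP (LK LD1_c3 LD2_c36 LD3_c25)) :=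
  Lgr Lrot48 (Lpr_ff (f519979 IH) (Lpn (LP (LK LD1_c3 LD2_c36 LD3_c25))))
theorem f478148 : Led Lsl_bt (LP (LK LD1_c3 LD2_c37 LD3_c19)) = (LP (LK LD1_c1 LD2_c45 LD3_c32)) :=
  Lre_b IH (LK LD1_c3 LD2_c37 LD3_c19) (LK LD1_c1 LD2_c45 LD3_c32) Lrfl Lrfl
theorem f5992 : Led Lsl_bt (LP (LK LD1_c3 LD2_c36 LD3_c25)) = (LP (LK LD1_c7 LD2_c13 LD3_c11)) :=
  Lre_b IH (LK LD1_c3 LD2_c36 LD3_c25) (LK LD1_c7 LD2_c13 LD3_c11) Lrfl Lrfl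
theorem f519989 : Led Lsl_ff (LP (LK LD1_c3 LD2_c37 LD3_c19)) = (LP (LK LD1_c7 LD2_c13 LD3_c11)) :=
  Lgr Lrot25 (Lpr_bt (f478148 IH) (Lpr_ft (f519985 IH) (Lpr_bt (f5992 IH) (Lpn (LP (LK LD1_c7 LD2_c13 LD3_c11))))))
theorem f456241 : Led Lsl_ct (LP (LK LD1_c3 LD2_c37 LD3_c19)) = (LP (LK LD1_c7 LD2_c15 LD3_c6)) :=
  Lre_c IH (LK LD1_c3 LD2_c37 LD3_c19) (LK LD1_c7 LD2_c15 LD3_c6) Lrfl Lrfl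
theorem f478251 : Led Lsl_bt (LP (LK LD1_c7 LD2_c13 LD3_c11)) = (LP (LK LD1_c3 LD2_c36 LD3_c25)) :=
  Lre_b IH (LK LD1_c7 LD2_c13 LD3_c11) (LK LD1_c3 LD2_c36 LD3_c25) Lrfl Lrfl
theorem f478260 : Led Lsl_bt (LP (LK LD1_c1 LD2_c54 LD3_c12)) = (LP (LK LD1_c3 LD2_c55 LD3_c15)) :=
  Lre_b IH (LK LD1_c1 LD2_c54 LD3_c12) (LK LD1_c3 LD2_c55 LD3_c15) Lrfl Lrfl
theorem f478261 : Led Lsl_cf (LP (LK LD1_c7 LD2_c13 LD3_c11)) = (LP (LK LD1_c3 LD2_c55 LD3_c15)) :=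
  Lgr Lrot97 (Lpr_bt (f478251 IH) (Lpr_ct (K29.f5991 IH) (Lpe (K29.f478249 IH) (Lpr_ct (K29.f478258 IH) (Lpr_bt (f478260 IH) (Lpn (LP (LK LD1_c3 LD2_c55 LD3_c15))))))))
theorem f519994 : Led Lsl_ft (LP (LK LD1_c7 LD2_c15 LD3_c6)) = (LP (LK LD1_c3 LD2_c55 LD3_c15)) :=
  Lgr Lrot4 (Lpe (f456241 IH) (Lpr_ff (f519989 IH) (Lpr_cf (f478261 IH) (Lpn (LP (LK LD1_c3 LD2_c55 LD3_c15))))))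
theorem f520006 : Led Lsl_ff (LP (LK LD1_c7 LD2_c15 LD3_c6)) = (LP (LK LD1_c3 LD2_c55 LD3_c15)) :=
  Lgr Lrot3 (Lpr_ft (f519994 IH) (Lpn (LP (LK LD1_c3 LD2_c55 LD3_c15))))
theorem f520008 : Led Lsl_at (LP (LK LD1_c7 LD2_c15 LD3_c6)) = (LP (LK LD1_c13 LD2_c43 LD3_c25)) :=
  Lre_a IH (LK LD1_c7 LD2_c15 LD3_c6) (LK LD1_c13 LD2_c43 LD3_c25) Lrfl Lrfl
theorem f478639 : Led Lsl_at (LP (LK LD1_c7 LD2_c52 LD3_c19)) = (LP (LK LD1_c3 LD2_c55 LD3_c15)) :=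
  Lre_a IH (LK LD1_c7 LD2_c52 LD3_c19) (LK LD1_c3 LD2_c55 LD3_c15) Lrfl Lrfl
theorem f520009 : Led Lsl_ft (LP (LK LD1_c13 LD2_c43 LD3_c25)) = (LP (LK LD1_c7 LD2_c52 LD3_c19)) :=
  Lgr Lrot101 (Lpe (f520008 IH) (Lpr_ff (f520006 IH) (Lpe (f478639 IH) (Lpn (LP (LK LD1_c7 LD2_c52 LD3_c19))))))
theorem f472687 : Led Lsl_gt (LP (LK LD1_c7 LD2_c52 LD3_c18)) = (LP (LK LD1_c3 LD2_c55 LD3_c15)) :=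
  Lre_g IH (LK LD1_c7 LD2_c52 LD3_c18) (LK LD1_c3 LD2_c55 LD3_c15) Lrfl Lrfl
theorem f520056 : Led Lsl_gt (LP (LK LD1_c13 LD2_c43 LD3_c25)) = (LP (LK LD1_c7 LD2_c52 LD3_c18)) :=
  Lgr Lrot5 (Lpr_ft (f520009 IH) (Lpr_at (f478639 IH) (Lpe (f472687 IH) (Lpn (LP (LK LD1_c7 LD2_c52 LD3_c18))))))
theorem f456240 : Led Lsl_bt (LP (LK LD1_c7 LD2_c15 LD3_c6)) = (LP (LK LD1_c3 LD2_c37 LD3_c17)) :=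
  Lre_b IH (LK LD1_c7 LD2_c15 LD3_c6) (LK LD1_c3 LD2_c37 LD3_c17) Lrfl Lrfl
theorem f520011 : Led Lsl_ft (LP (LK LD1_c3 LD2_c37 LD3_c17)) = (LP (LK LD1_c1 LD2_c54 LD3_c12)) :=
  Lgr Lrot75 (Lpe (f456240 IH) (Lpr_ff (f520006 IH) (Lpe (f478260 IH) (Lpn (LP (LK LD1_c1 LD2_c54 LD3_c12))))))
theorem f456235 : Led Lsl_dt (LP (LK LD1_c7 LD2_c15 LD3_c7)) = (LP (LK LD1_c3 LD2_c37 LD3_c17)) :=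
  Lre_d IH (LK LD1_c7 LD2_c15 LD3_c7) (LK LD1_c3 LD2_c37 LD3_c17) Lrfl Lrfl
theorem f437635 : Led Lsl_dt (LP (LK LD1_c1 LD2_c54 LD3_c12)) = (LP (LK LD1_c3 LD2_c55 LD3_c16)) :=
  Lre_d IH (LK LD1_c1 LD2_c54 LD3_c12) (LK LD1_c3 LD2_c55 LD3_c16) Lrfl Lrfl
theorem f520020 : Led Lsl_ff (LP (LK LD1_c7 LD2_c15 LD3_c7)) = (LP (LK LD1_c3 LD2_c55 LD3_c16)) :=
  Lgr Lrot19 (Lpr_dt (f456235 IH) (Lpr_ft (f520011 IH) (Lpr_dt (f437635 IH) (Lpn (LP (LK LD1_c3 LD2_c55 LD3_c16))))))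
theorem f520025 : Led Lsl_ft (LP (LK LD1_c7 LD2_c15 LD3_c7)) = (LP (LK LD1_c3 LD2_c55 LD3_c16)) :=
  Lgr Lrot48 (Lpr_ff (f520020 IH) (Lpn (LP (LK LD1_c3 LD2_c55 LD3_c16))))
theorem f480187 : Led Lsl_dt (LP (LK LD1_c7 LD2_c51 LD3_c25)) = (LP (LK LD1_c3 LD2_c54 LD3_c51)) :=
  Lre_d IH (LK LD1_c7 LD2_c51 LD3_c25) (LK LD1_c3 LD2_c54 LD3_c51) Lrfl Lrfl
theorem f519807 : Led Lsl_af (LP (LK LD1_c7 LD2_c51 LD3_c25)) = (LP (LK LD1_c3 LD2_c55 LD3_c16)) :=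
  Lgr Lrot117 (Lpr_dt (f480187 IH) (Lpr_at (f519803 IH) (Lpr_dt (f437635 IH) (Lpn (LP (LK LD1_c3 LD2_c55 LD3_c16))))))
theorem f122813 : Led Lsl_dt (LP (LK LD1_c3 LD2_c54 LD3_c51)) = (LP (LK LD1_c7 LD2_c51 LD3_c25)) :=
  Lre_d IH (LK LD1_c3 LD2_c54 LD3_c51) (LK LD1_c7 LD2_c51 LD3_c25) Lrfl Lrfl
theorem f477017 : Led Lsl_dt (LP (LK LD1_c3 LD2_c55 LD3_c14)) = (LP (LK LD1_c1 LD2_c54 LD3_c11)) :=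
  Lre_d IH (LK LD1_c3 LD2_c55 LD3_c14) (LK LD1_c1 LD2_c54 LD3_c11) Lrfl Lrfl
theorem f519799 : Led Lsl_ft (LP (LK LD1_c7 LD2_c51 LD3_c25)) = (LP (LK LD1_c3 LD2_c55 LD3_c14)) :=
  Lgr Lrot54 (Lpe (f122813 IH) (Lpr_ff (f519795 IH) (Lpe (f477017 IH) (Lpn (LP (LK LD1_c3 LD2_c55 LD3_c14))))))
theorem f520027 : Led Lsl_af (LP (LK LD1_c7 LD2_c15 LD3_c7)) = (LP (LK LD1_c3 LD2_c55 LD3_c14)) :=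
  Lgr Lrot45 (Lpr_ft (f520025 IH) (Lpe (f519807 IH) (Lpr_ft (f519799 IH) (Lpn (LP (LK LD1_c3 LD2_c55 LD3_c14))))))
theorem f123418 : Led Lsl_dt (LP (LK LD1_c1 LD2_c54 LD3_c11)) = (LP (LK LD1_c3 LD2_c55 LD3_c14)) :=
  Lre_d IH (LK LD1_c1 LD2_c54 LD3_c11) (LK LD1_c3 LD2_c55 LD3_c14) Lrfl Lrfl
theorem f520038 : Led Lsl_at (LP (LK LD1_c3 LD2_c37 LD3_c17)) = (LP (LK LD1_c1 LD2_c54 LD3_c11)) :=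
  Lgr Lrot51 (Lpe (f456235 IH) (Lpr_af (f520027 IH) (Lpe (f123418 IH) (Lpn (LP (LK LD1_c1 LD2_c54 LD3_c11))))))
theorem f486818 : Led Lsl_at (LP (LK LD1_c13 LD2_c43 LD3_c25)) = (LP (LK LD1_c7 LD2_c15 LD3_c6)) :=
  Lre_a IH (LK LD1_c13 LD2_c43 LD3_c25) (LK LD1_c7 LD2_c15 LD3_c6) Lrfl Lrfl
theorem f488131 : Led Lsl_at (LP (LK LD1_c3 LD2_c55 LD3_c13)) = (LP (LK LD1_c7 LD2_c52 LD3_c14)) :=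
  Lre_a IH (LK LD1_c3 LD2_c55 LD3_c13) (LK LD1_c7 LD2_c52 LD3_c14) Lrfl Lrfl
theorem f520041 : Led Lsl_bf (LP (LK LD1_c13 LD2_c43 LD3_c25)) = (LP (LK LD1_c7 LD2_c52 LD3_c14)) :=
  Lgr Lrot81 (Lpr_at (f486818 IH) (Lpr_bt (f456240 IH) (Lpr_at (f520038 IH) (Lpr_bt (f477014 IH) (Lpr_at (f488131 IH) (Lpn (LP (LK LD1_c7 LD2_c52 LD3_c14))))))))
theorem f487941 : Led Lsl_at (LP (LK LD1_c7 LD2_c40 LD3_c3)) = (LP (LK LD1_c3 LD2_c49 LD3_c34)) :=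
  Lre_a IH (LK LD1_c7 LD2_c40 LD3_c3) (LK LD1_c3 LD2_c49 LD3_c34) Lrfl Lrfl
theorem f488132 : Led Lsl_ct (LP (LK LD1_c7 LD2_c52 LD3_c14)) = (LP (LK LD1_c7 LD2_c40 LD3_c3)) :=
  Lgr Lrot111 (Lpe (f488131 IH) (Lpr_cf (f487938 IH) (Lpe (f487941 IH) (Lpn (LP (LK LD1_c7 LD2_c40 LD3_c3))))))
theorem f484994 : Led Lsl_et (LP (LK LD1_c22 LD2_c43 LD3_c16)) = (LP (LK LD1_c30 LD2_c40 LD3_c35)) :=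
  Lre_e IH (LK LD1_c22 LD2_c43 LD3_c16) (LK LD1_c30 LD2_c40 LD3_c35) Lrfl Lrfl
theorem f484995 : Led Lsl_et (LP (LK LD1_c7 LD2_c38 LD3_c47)) = (LP (LK LD1_c14 LD2_c24 LD3_c43)) :=
  Lre_e IH (LK LD1_c7 LD2_c38 LD3_c47) (LK LD1_c14 LD2_c24 LD3_c43) Lrfl Lrfl
theorem f484996 : Led Lsl_et (LP (LK LD1_c24 LD2_c3 LD3_c47)) = (LP (LK LD1_c14 LD2_c24 LD3_c42)) :=
  Lre_e IH (LK LD1_c24 LD2_c3 LD3_c47) (LK LD1_c14 LD2_c24 LD3_c42) Lrfl Lrfl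
theorem f484997 : Led Lsl_dt (LP (LK LD1_c30 LD2_c40 LD3_c35)) = (LP (LK LD1_c24 LD2_c3 LD3_c47)) :=
  Lgr Lrot77 (Lpe (f484994 IH) (Lpr_df (f484990 IH) (Lpe (f484995 IH) (Lpe (f484802 IH) (Lpe (f484996 IH) (Lpn (LP (LK LD1_c24 LD2_c3 LD3_c47))))))))
theorem f485003 : Led Lsl_df (LP (LK LD1_c30 LD2_c40 LD3_c35)) = (LP (LK LD1_c24 LD2_c3 LD3_c47)) :=
  Lgr Lrot38 (Lpr_dt (f484997 IH) (Lpn (LP (LK LD1_c24 LD2_c3 LD3_c47))))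
theorem f460807 : Led Lsl_bt (LP (LK LD1_c30 LD2_c40 LD3_c35)) = (LP (LK LD1_c22 LD2_c43 LD3_c18)) :=
  Lre_b IH (LK LD1_c30 LD2_c40 LD3_c35) (LK LD1_c22 LD2_c43 LD3_c18) Lrfl Lrfl
theorem f460801 : Led Lsl_dt (LP (LK LD1_c7 LD2_c49 LD3_c31)) = (LP (LK LD1_c3 LD2_c53 LD3_c57)) :=
  Lre_d IH (LK LD1_c7 LD2_c49 LD3_c31) (LK LD1_c3 LD2_c53 LD3_c57) Lrfl Lrfl
theorem f460802 : Led Lsl_et (LP (LK LD1_c14 LD2_c45 LD3_c54)) = (LP (LK LD1_c7 LD2_c49 LD3_c31)) :=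
  Lre_e IH (LK LD1_c14 LD2_c45 LD3_c54) (LK LD1_c7 LD2_c49 LD3_c31) Lrfl Lrfl
theorem f460803 : Led Lsl_et (LP (LK LD1_c13 LD2_c24 LD3_c52)) = (LP (LK LD1_c22 LD2_c43 LD3_c18)) :=
  Lre_e IH (LK LD1_c13 LD2_c24 LD3_c52) (LK LD1_c22 LD2_c43 LD3_c18) Lrfl Lrfl
theorem f460804 : Led Lsl_df (LP (LK LD1_c14 LD2_c45 LD3_c54)) = (LP (LK LD1_c22 LD2_c43 LD3_c18)) :=
  Lgr Lrot70 (Lpr_et (f460802 IH) (Lpr_dt (f460801 IH) (Lpr_et (f460800 IH) (Lpr_dt (f460759 IH) (Lpr_et (f460803 IH) (Lpn (LP (LK LD1_c22 LD2_c43 LD3_c18))))))))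
theorem f485008 : Led Lsl_bt (LP (LK LD1_c14 LD2_c45 LD3_c54)) = (LP (LK LD1_c24 LD2_c3 LD3_c47)) :=
  Lgr Lrot95 (Lpr_df (f460804 IH) (Lpe (f460807 IH) (Lpr_df (f485003 IH) (Lpn (LP (LK LD1_c24 LD2_c3 LD3_c47))))))
theorem f460827 : Led Lsl_et (LP (LK LD1_c7 LD2_c49 LD3_c31)) = (LP (LK LD1_c14 LD2_c45 LD3_c54)) :=
  Lre_e IH (LK LD1_c7 LD2_c49 LD3_c31) (LK LD1_c14 LD2_c45 LD3_c54) Lrfl Lrfl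
theorem f485011 : Led Lsl_bf (LP (LK LD1_c7 LD2_c49 LD3_c31)) = (LP (LK LD1_c14 LD2_c24 LD3_c42)) :=
  Lgr Lrot96 (Lpr_et (f460827 IH) (Lpr_bt (f485008 IH) (Lpr_et (f484996 IH) (Lpn (LP (LK LD1_c14 LD2_c24 LD3_c42))))))
theorem f515121 : Led Lsl_bt (LP (LK LD1_c3 LD2_c54 LD3_c20)) = (LP (LK LD1_c7 LD2_c50 LD3_c16)) :=
  Lre_b IH (LK LD1_c3 LD2_c54 LD3_c20) (LK LD1_c7 LD2_c50 LD3_c16) Lrfl Lrfl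
theorem f515600 : Led Lsl_ft (LP (LK LD1_c7 LD2_c49 LD3_c31)) = (LP (LK LD1_c3 LD2_c54 LD3_c20)) :=
  Lgr Lrot75 (Lpr_bf (f485011 IH) (Lpr_ff (f515596 IH) (Lpe (f515121 IH) (Lpn (LP (LK LD1_c3 LD2_c54 LD3_c20))))))
theorem f123377 : Led Lsl_dt (LP (LK LD1_c3 LD2_c53 LD3_c57)) = (LP (LK LD1_c7 LD2_c49 LD3_c31)) :=
  Lre_d IH (LK LD1_c3 LD2_c53 LD3_c57) (LK LD1_c7 LD2_c49 LD3_c31) Lrfl Lrfl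
theorem f148172 : Led Lsl_dt (LP (LK LD1_c3 LD2_c54 LD3_c20)) = (LP (LK LD1_c1 LD2_c53 LD3_c46)) :=
  Lre_d IH (LK LD1_c3 LD2_c54 LD3_c20) (LK LD1_c1 LD2_c53 LD3_c46) Lrfl Lrfl
theorem f515624 : Led Lsl_ff (LP (LK LD1_c3 LD2_c53 LD3_c57)) = (LP (LK LD1_c1 LD2_c53 LD3_c46)) :=
  Lgr Lrot19 (Lpr_dt (f123377 IH) (Lpr_ft (f515600 IH) (Lpr_dt (f148172 IH) (Lpn (LP (LK LD1_c1 LD2_c53 LD3_c46))))))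
theorem f515969 : Led Lsl_ct (LP (LK LD1_c3 LD2_c34 LD3_c0)) = (LP (LK LD1_c1 LD2_c53 LD3_c46)) :=
  Lgr Lrot40 (Lpe (f485511 IH) (Lpe (f484800 IH) (Lpr_ff (f515624 IH) (Lpn (LP (LK LD1_c1 LD2_c53 LD3_c46))))))
theorem f148177 : Led Lsl_gt (LP (LK LD1_c1 LD2_c53 LD3_c46)) = (LP (LK LD1_c3 LD2_c53 LD3_c59)) :=
  Lre_g IH (LK LD1_c1 LD2_c53 LD3_c46) (LK LD1_c3 LD2_c53 LD3_c59) Lrfl Lrfl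
theorem f123392 : Led Lsl_gt (LP (LK LD1_c1 LD2_c53 LD3_c39)) = (LP (LK LD1_c0 LD2_c53 LD3_c30)) :=
  Lre_g IH (LK LD1_c1 LD2_c53 LD3_c39) (LK LD1_c0 LD2_c53 LD3_c30) Lrfl Lrfl
theorem f481847 : Led Lsl_gf (LP (LK LD1_c1 LD2_c54 LD3_c32)) = (LP (LK LD1_c3 LD2_c54 LD3_c36)) :=
  Lgr Lrot76 (Lpr_af (K5.f125883 IH) (Lpe (f125892 IH) (Lpr_gt (K29.f481845 IH) (Lpn (LP (LK LD1_c3 LD2_c54 LD3_c36))))))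
theorem f515971 : Led Lsl_gf (LP (LK LD1_c3 LD2_c34 LD3_c0)) = (LP (LK LD1_c1 LD2_c54 LD3_c29)) :=
  Lgr Lrot181 (Lpr_ct (f515969 IH) (Lpr_gt (f148177 IH) (Lpe (f123438 IH) (Lpr_bt (f145385 IH) (Lpr_gt (f123392 IH) (Lpe (K29.f123408 IH) (Lpr_ct (K29.f123409 IH) (Lpe (f481847 IH) (Lpe (K29.f123524 IH) (Lpr_bt (K29.f123510 IH) (Lpn (LP (LK LD1_c1 LD2_c54 LD3_c29)))))))))))))
theorem f515053 : Led Lsl_cf (LP (LK LD1_c3 LD2_c34 LD3_c0)) = (LP (LK LD1_c1 LD2_c53 LD3_c46)) :=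
  Lgr Lrot1 (Lpr_at (f455836 IH) (Lpr_ct (K24.f5942 IH) (Lpr_at (f515047 IH) (Lpn (LP (LK LD1_c1 LD2_c53 LD3_c46))))))
theorem f485419 : Led Lsl_af (LP (LK LD1_c14 LD2_c52 LD3_c37)) = (LP (LK LD1_c13 LD2_c9 LD3_c16)) :=
  Lgr Lrot45 (Lpr_ft (f485416 IH) (Lpe (K8.f162070 IH) (Lpr_ft (f481830 IH) (Lpn (LP (LK LD1_c13 LD2_c9 LD3_c16))))))
theorem f485445 : Led Lsl_gf (LP (LK LD1_c7 LD2_c53 LD3_c11)) = (LP (LK LD1_c13 LD2_c53 LD3_c53)) :=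
  Lgr Lrot47 (Lpr_gt (f485358 IH) (Lpr_af (f485419 IH) (Lpe (f481830 IH) (Lpn (LP (LK LD1_c13 LD2_c53 LD3_c53))))))
theorem f485132 : Led Lsl_bf (LP (LK LD1_c3 LD2_c54 LD3_c54)) = (LP (LK LD1_c7 LD2_c41 LD3_c4)) :=
  Lgr Lrot24 (Lpr_bt (f485130 IH) (Lpn (LP (LK LD1_c7 LD2_c41 LD3_c4))))
theorem f485447 : Led Lsl_gt (LP (LK LD1_c3 LD2_c55 LD3_c15)) = (LP (LK LD1_c7 LD2_c51 LD3_c44)) :=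
  Lgr Lrot164 (Lpe (f478260 IH) (Lpe (f478263 IH) (Lpe (K29.f96987 IH) (Lpr_cf (K29.f132174 IH) (Lpr_gf (f484553 IH) (Lpr_bf (f485132 IH) (Lpe (f485355 IH) (Lpr_gf (f485445 IH) (Lpe (f132139 IH) (Lpr_bt (f132138 IH) (Lpn (LP (LK LD1_c7 LD2_c51 LD3_c44)))))))))))))
theorem f485450 : Led Lsl_ft (LP (LK LD1_c7 LD2_c52 LD3_c18)) = (LP (LK LD1_c7 LD2_c49 LD3_c53)) :=
  Lgr Lrot2 (Lpr_gt (f472687 IH) (Lpr_gt (f485447 IH) (Lpr_af (f162058 IH) (Lpn (LP (LK LD1_c7 LD2_c49 LD3_c53))))))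
theorem f485454 : Led Lsl_ff (LP (LK LD1_c7 LD2_c52 LD3_c18)) = (LP (LK LD1_c7 LD2_c49 LD3_c53)) :=
  Lgr Lrot3 (Lpr_ft (f485450 IH) (Lpn (LP (LK LD1_c7 LD2_c49 LD3_c53))))
theorem f486165 : Led Lsl_bt (LP (LK LD1_c7 LD2_c52 LD3_c18)) = (LP (LK LD1_c7 LD2_c50 LD3_c14)) :=
  Lgr Lrot35 (Lpr_ff (f485454 IH) (Lpe (f425712 IH) (Lpr_ff (f486162 IH) (Lpn (LP (LK LD1_c7 LD2_c50 LD3_c14))))))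
theorem f481795 : Led Lsl_gf (LP (LK LD1_c3 LD2_c42 LD3_c10)) = (LP (LK LD1_c3 LD2_c53 LD3_c61)) :=
  Lgr Lrot76 (Lpe (K7.f132060 IH) (Lpe (K5.f96350 IH) (Lpr_gt (K29.f481707 IH) (Lpn (LP (LK LD1_c3 LD2_c53 LD3_c61))))))
theorem f456035 : Led Lsl_et (LP (LK LD1_c1 LD2_c53 LD3_c38)) = (LP (LK LD1_c3 LD2_c54 LD3_c1)) :=
  Lre_e IH (LK LD1_c1 LD2_c53 LD3_c38) (LK LD1_c3 LD2_c54 LD3_c1) Lrfl Lrfl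
theorem f456036 : Led Lsl_et (LP (LK LD1_c7 LD2_c8 LD3_c50)) = (LP (LK LD1_c3 LD2_c33 LD3_c54)) :=
  Lre_e IH (LK LD1_c7 LD2_c8 LD3_c50) (LK LD1_c3 LD2_c33 LD3_c54) Lrfl Lrfl
theorem f456037 : Led Lsl_bt (LP (LK LD1_c3 LD2_c54 LD3_c1)) = (LP (LK LD1_c7 LD2_c8 LD3_c50)) :=
  Lgr Lrot119 (Lpe (f456035 IH) (Lpr_bf (K24.f456011 IH) (Lpe (f456036 IH) (Lpn (LP (LK LD1_c7 LD2_c8 LD3_c50))))))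
theorem f456566 : Led Lsl_ct (LP (LK LD1_c7 LD2_c49 LD3_c39)) = (LP (LK LD1_c3 LD2_c54 LD3_c1)) :=
  Lre_c IH (LK LD1_c7 LD2_c49 LD3_c39) (LK LD1_c3 LD2_c54 LD3_c1) Lrfl Lrfl
theorem f456567 : Led Lsl_ct (LP (LK LD1_c7 LD2_c8 LD3_c50)) = (LP (LK LD1_c3 LD2_c33 LD3_c56)) :=
  Lre_c IH (LK LD1_c7 LD2_c8 LD3_c50) (LK LD1_c3 LD2_c33 LD3_c56) Lrfl Lrfl
theorem f456568 : Led Lsl_bt (LP (LK LD1_c3 LD2_c33 LD3_c56)) = (LP (LK LD1_c7 LD2_c8 LD3_c48)) :=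
  Lre_b IH (LK LD1_c3 LD2_c33 LD3_c56) (LK LD1_c7 LD2_c8 LD3_c48) Lrfl Lrfl
theorem f456569 : Led Lsl_ct (LP (LK LD1_c7 LD2_c8 LD3_c48)) = (LP (LK LD1_c13 LD2_c32 LD3_c3)) :=
  Lre_c IH (LK LD1_c7 LD2_c8 LD3_c48) (LK LD1_c13 LD2_c32 LD3_c3) Lrfl Lrfl
theorem f456570 : Led Lsl_bf (LP (LK LD1_c7 LD2_c49 LD3_c39)) = (LP (LK LD1_c13 LD2_c32 LD3_c3)) :=
  Lgr Lrot90 (Lpr_ct (f456566 IH) (Lpr_bt (f456037 IH) (Lpr_ct (f456567 IH) (Lpr_bt (f456568 IH) (Lpr_ct (f456569 IH) (Lpn (LP (LK LD1_c13 LD2_c32 LD3_c3))))))))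
theorem f456574 : Led Lsl_bt (LP (LK LD1_c7 LD2_c49 LD3_c39)) = (LP (LK LD1_c13 LD2_c32 LD3_c3)) :=
  Lgr Lrot127 (Lpr_bf (f456570 IH) (Lpn (LP (LK LD1_c13 LD2_c32 LD3_c3))))
theorem f456587 : Led Lsl_et (LP (LK LD1_c3 LD2_c53 LD3_c61)) = (LP (LK LD1_c7 LD2_c49 LD3_c39)) :=
  Lre_e IH (LK LD1_c3 LD2_c53 LD3_c61) (LK LD1_c7 LD2_c49 LD3_c39) Lrfl Lrfl
theorem f456588 : Led Lsl_et (LP (LK LD1_c13 LD2_c32 LD3_c3)) = (LP (LK LD1_c7 LD2_c8 LD3_c46)) :=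
  Lre_e IH (LK LD1_c13 LD2_c32 LD3_c3) (LK LD1_c7 LD2_c8 LD3_c46) Lrfl Lrfl
theorem f456589 : Led Lsl_bf (LP (LK LD1_c3 LD2_c53 LD3_c61)) = (LP (LK LD1_c7 LD2_c8 LD3_c46)) :=
  Lgr Lrot96 (Lpr_et (f456587 IH) (Lpr_bt (f456574 IH) (Lpr_et (f456588 IH) (Lpn (LP (LK LD1_c7 LD2_c8 LD3_c46))))))
theorem f456029 : Led Lsl_ct (LP (LK LD1_c7 LD2_c8 LD3_c46)) = (LP (LK LD1_c3 LD2_c33 LD3_c53)) :=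
  Lre_c IH (LK LD1_c7 LD2_c8 LD3_c46) (LK LD1_c3 LD2_c33 LD3_c53) Lrfl Lrfl
theorem f456599 : Led Lsl_gt (LP (LK LD1_c7 LD2_c8 LD3_c44)) = (LP (LK LD1_c3 LD2_c33 LD3_c53)) :=
  Lre_g IH (LK LD1_c7 LD2_c8 LD3_c44) (LK LD1_c3 LD2_c33 LD3_c53) Lrfl Lrfl
theorem f515975 : Led Lsl_ct (LP (LK LD1_c7 LD2_c52 LD3_c18)) = (LP (LK LD1_c7 LD2_c8 LD3_c44)) :=
  Lgr Lrot64 (Lpr_bt (f486165 IH) (Lpe (f148228 IH) (Lpe (f486141 IH) (Lpe (f515053 IH) (Lpr_gf (f515971 IH) (Lpr_cf (f120973 IH) (Lpr_gf (f481795 IH) (Lpr_bf (f456589 IH) (Lpr_ct (f456029 IH) (Lpe (f456599 IH) (Lpn (LP (LK LD1_c7 LD2_c8 LD3_c44)))))))))))))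
theorem f520058 : Led Lsl_gf (LP (LK LD1_c7 LD2_c40 LD3_c3)) = (LP (LK LD1_c3 LD2_c55 LD3_c47)) :=
  Lgr Lrot126 (Lpe (f488132 IH) (Lpe (f520041 IH) (Lpr_gt (f520056 IH) (Lpr_ct (f515975 IH) (Lpr_gt (f456599 IH) (Lpe (f456029 IH) (Lpe (f456589 IH) (Lpe (f481795 IH) (Lpe (f123521 IH) (Lpr_ct (K5.f122702 IH) (Lpn (LP (LK LD1_c3 LD2_c55 LD3_c47)))))))))))))
theorem f520062 : Led Lsl_gt (LP (LK LD1_c7 LD2_c40 LD3_c3)) = (LP (LK LD1_c13 LD2_c36 LD3_c39)) :=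
  Lgr Lrot46 (Lpr_gf (f520058 IH) (Lpr_ft (f484478 IH) (Lpr_at (f484487 IH) (Lpn (LP (LK LD1_c13 LD2_c36 LD3_c39))))))
theorem f484322 : Led Lsl_ff (LP (LK LD1_c3 LD2_c55 LD3_c47)) = (LP (LK LD1_c7 LD2_c11 LD3_c2)) :=
  Lgr Lrot25 (Lpr_bt (K29.f123508 IH) (Lpr_ft (f484318 IH) (Lpr_bt (f456229 IH) (Lpn (LP (LK LD1_c7 LD2_c11 LD3_c2))))))
theorem f478877 : Led Lsl_gt (LP (LK LD1_c7 LD2_c11 LD3_c2)) = (LP (LK LD1_c13 LD2_c36 LD3_c38)) :=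
  Lre_g IH (LK LD1_c7 LD2_c11 LD3_c2) (LK LD1_c13 LD2_c36 LD3_c38) Lrfl Lrfl
theorem f485561 : Led Lsl_gf (LP (LK LD1_c7 LD2_c37 LD3_c55)) = (LP (LK LD1_c13 LD2_c36 LD3_c38)) :=
  Lgr Lrot76 (Lpe (K5.f127941 IH) (Lpr_ff (f484322 IH) (Lpr_gt (f478877 IH) (Lpn (LP (LK LD1_c13 LD2_c36 LD3_c38))))))
theorem f487946 : Led Lsl_ft (LP (LK LD1_c13 LD2_c36 LD3_c38)) = (LP (LK LD1_c7 LD2_c40 LD3_c3)) :=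
  Lgr Lrot2 (Lpe (f485561 IH) (Lpr_gt (f487944 IH) (Lpe (f487941 IH) (Lpn (LP (LK LD1_c7 LD2_c40 LD3_c3))))))
theorem f488128 : Led Lsl_ff (LP (LK LD1_c13 LD2_c36 LD3_c38)) = (LP (LK LD1_c7 LD2_c40 LD3_c3)) :=
  Lgr Lrot3 (Lpr_ft (f487946 IH) (Lpn (LP (LK LD1_c7 LD2_c40 LD3_c3))))
theorem f484494 : Led Lsl_gf (LP (LK LD1_c7 LD2_c35 LD3_c16)) = (LP (LK LD1_c13 LD2_c36 LD3_c39)) :=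
  Lgr Lrot47 (Lpr_gt (f483564 IH) (Lpr_af (f127943 IH) (Lpr_ff (f484488 IH) (Lpn (LP (LK LD1_c13 LD2_c36 LD3_c39))))))
theorem f520069 : Led Lsl_at (LP (LK LD1_c13 LD2_c36 LD3_c38)) = (LP (LK LD1_c7 LD2_c35 LD3_c16)) :=
  Lgr Lrot26 (Lpr_ff (f488128 IH) (Lpr_gt (f520062 IH) (Lpe (f484494 IH) (Lpn (LP (LK LD1_c7 LD2_c35 LD3_c16))))))
theorem f520071 : Led Lsl_af (LP (LK LD1_c13 LD2_c36 LD3_c38)) = (LP (LK LD1_c7 LD2_c35 LD3_c16)) :=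
  Lgr Lrot0 (Lpr_at (f520069 IH) (Lpn (LP (LK LD1_c7 LD2_c35 LD3_c16))))
theorem f520077 : Led Lsl_ft (LP (LK LD1_c3 LD2_c49 LD3_c34)) = (LP (LK LD1_c7 LD2_c35 LD3_c16)) :=
  Lgr Lrot101 (Lpe (f487941 IH) (Lpe (f487946 IH) (Lpr_af (f520071 IH) (Lpn (LP (LK LD1_c7 LD2_c35 LD3_c16))))))
theorem f487942 : Led Lsl_dt (LP (LK LD1_c7 LD2_c40 LD3_c4)) = (LP (LK LD1_c3 LD2_c49 LD3_c34)) :=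
  Lre_d IH (LK LD1_c7 LD2_c40 LD3_c4) (LK LD1_c3 LD2_c49 LD3_c34) Lrfl Lrfl
theorem f477384 : Led Lsl_dt (LP (LK LD1_c7 LD2_c35 LD3_c16)) = (LP (LK LD1_c14 LD2_c18 LD3_c22)) :=
  Lre_d IH (LK LD1_c7 LD2_c35 LD3_c16) (LK LD1_c14 LD2_c18 LD3_c22) Lrfl Lrfl
theorem f520081 : Led Lsl_ff (LP (LK LD1_c7 LD2_c40 LD3_c4)) = (LP (LK LD1_c14 LD2_c18 LD3_c22)) :=
  Lgr Lrot19 (Lpr_dt (f487942 IH) (Lpr_ft (f520077 IH) (Lpr_dt (f477384 IH) (Lpn (LP (LK LD1_c14 LD2_c18 LD3_c22))))))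
theorem f520089 : Led Lsl_ft (LP (LK LD1_c7 LD2_c40 LD3_c4)) = (LP (LK LD1_c14 LD2_c18 LD3_c22)) :=
  Lgr Lrot48 (Lpr_ff (f520081 IH) (Lpn (LP (LK LD1_c14 LD2_c18 LD3_c22))))
theorem f487980 : Led Lsl_bt (LP (LK LD1_c3 LD2_c49 LD3_c36)) = (LP (LK LD1_c7 LD2_c40 LD3_c4)) :=
  Lre_b IH (LK LD1_c3 LD2_c49 LD3_c36) (LK LD1_c7 LD2_c40 LD3_c4) Lrfl Lrfl
theorem f477353 : Led Lsl_bt (LP (LK LD1_c14 LD2_c18 LD3_c22)) = (LP (LK LD1_c7 LD2_c35 LD3_c17)) :=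
  Lre_b IH (LK LD1_c14 LD2_c18 LD3_c22) (LK LD1_c7 LD2_c35 LD3_c17) Lrfl Lrfl
theorem f520092 : Led Lsl_ff (LP (LK LD1_c3 LD2_c49 LD3_c36)) = (LP (LK LD1_c7 LD2_c35 LD3_c17)) :=
  Lgr Lrot25 (Lpr_bt (f487980 IH) (Lpr_ft (f520089 IH) (Lpr_bt (f477353 IH) (Lpn (LP (LK LD1_c7 LD2_c35 LD3_c17))))))
theorem f87836 : Led Lsl_dt (LP (LK LD1_c3 LD2_c49 LD3_c36)) = (LP (LK LD1_c1 LD2_c51 LD3_c47)) :=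
  Lre_d IH (LK LD1_c3 LD2_c49 LD3_c36) (LK LD1_c1 LD2_c51 LD3_c47) Lrfl Lrfl
theorem f89212 : Led Lsl_dt (LP (LK LD1_c3 LD2_c47 LD3_c13)) = (LP (LK LD1_c7 LD2_c35 LD3_c17)) :=
  Lre_d IH (LK LD1_c3 LD2_c47 LD3_c13) (LK LD1_c7 LD2_c35 LD3_c17) Lrfl Lrfl
theorem f520097 : Led Lsl_ft (LP (LK LD1_c1 LD2_c51 LD3_c47)) = (LP (LK LD1_c3 LD2_c47 LD3_c13)) :=
  Lgr Lrot54 (Lpe (f87836 IH) (Lpr_ff (f520092 IH) (Lpe (f89212 IH) (Lpn (LP (LK LD1_c3 LD2_c47 LD3_c13))))))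
theorem f520110 : Led Lsl_cf (LP (LK LD1_c3 LD2_c37 LD3_c22)) = (LP (LK LD1_c3 LD2_c47 LD3_c13)) :=
  Lgr Lrot108 (Lpr_ft (f488014 IH) (Lpr_ct (f459811 IH) (Lpr_ft (f520097 IH) (Lpn (LP (LK LD1_c3 LD2_c47 LD3_c13))))))
theorem f520112 : Led Lsl_at (LP (LK LD1_c1 LD2_c51 LD3_c48)) = (LP (LK LD1_c3 LD2_c47 LD3_c13)) :=
  Lgr Lrot107 (Lpe (K29.f467448 IH) (Lpe (f456874 IH) (Lpr_cf (f520110 IH) (Lpn (LP (LK LD1_c3 LD2_c47 LD3_c13))))))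
theorem f87927 : Led Lsl_ft (LP (LK LD1_c1 LD2_c51 LD3_c50)) = (LP (LK LD1_c0 LD2_c52 LD3_c41)) :=
  Lre_f IH (LK LD1_c1 LD2_c51 LD3_c50) (LK LD1_c0 LD2_c52 LD3_c41) Lrfl Lrfl
theorem f89208 : Led Lsl_gf (LP (LK LD1_c3 LD2_c47 LD3_c13)) = (LP (LK LD1_c1 LD2_c51 LD3_c50)) :=
  Lgr Lrot47 (Lpr_gt (f12051 IH) (Lpr_af (K2.f89199 IH) (Lpe (f87927 IH) (Lpn (LP (LK LD1_c1 LD2_c51 LD3_c50))))))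
theorem f520228 : Led Lsl_ff (LP (LK LD1_c1 LD2_c51 LD3_c48)) = (LP (LK LD1_c3 LD2_c47 LD3_c12)) :=
  Lgr Lrot52 (Lpr_at (f520112 IH) (Lpr_gf (f89208 IH) (Lpe (f486863 IH) (Lpn (LP (LK LD1_c3 LD2_c47 LD3_c12))))))
theorem f520238 : Led Lsl_ft (LP (LK LD1_c1 LD2_c51 LD3_c48)) = (LP (LK LD1_c3 LD2_c47 LD3_c12)) :=
  Lgr Lrot48 (Lpr_ff (f520228 IH) (Lpn (LP (LK LD1_c3 LD2_c47 LD3_c12))))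
theorem f451102 : Led Lsl_dt (LP (LK LD1_c3 LD2_c49 LD3_c38)) = (LP (LK LD1_c1 LD2_c51 LD3_c48)) :=
  Lre_d IH (LK LD1_c3 LD2_c49 LD3_c38) (LK LD1_c1 LD2_c51 LD3_c48) Lrfl Lrfl
theorem f520244 : Led Lsl_ff (LP (LK LD1_c3 LD2_c49 LD3_c38)) = (LP (LK LD1_c7 LD2_c35 LD3_c15)) :=
  Lgr Lrot19 (Lpr_dt (f451102 IH) (Lpr_ft (f520238 IH) (Lpr_dt (f12027 IH) (Lpn (LP (LK LD1_c7 LD2_c35 LD3_c15))))))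
theorem f477345 : Led Lsl_gt (LP (LK LD1_c13 LD2_c23 LD3_c55)) = (LP (LK LD1_c7 LD2_c35 LD3_c17)) :=
  Lgr Lrot112 (Lpe (f461832 IH) (Lpr_et (f461831 IH) (Lpe (K28.f461824 IH) (Lpr_ef (K28.f460902 IH) (Lpr_dt (K24.f129830 IH) (Lpe (K29.f461303 IH) (Lpe (K29.f64671 IH) (Lpe (K29.f459901 IH) (Lpr_ef (f477338 IH) (Lpr_dt (f89212 IH) (Lpn (LP (LK LD1_c7 LD2_c35 LD3_c17)))))))))))))
theorem f520251 : Led Lsl_at (LP (LK LD1_c3 LD2_c49 LD3_c38)) = (LP (LK LD1_c7 LD2_c35 LD3_c17)) :=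
  Lgr Lrot26 (Lpr_ff (f520244 IH) (Lpr_gt (f461835 IH) (Lpr_gt (f477345 IH) (Lpn (LP (LK LD1_c7 LD2_c35 LD3_c17))))))
theorem f520259 : Led Lsl_af (LP (LK LD1_c7 LD2_c35 LD3_c15)) = (LP (LK LD1_c3 LD2_c49 LD3_c36)) :=
  Lgr Lrot45 (Lpe (f520244 IH) (Lpr_at (f520251 IH) (Lpe (f520092 IH) (Lpn (LP (LK LD1_c3 LD2_c49 LD3_c36))))))
theorem f520263 : Led Lsl_bt (LP (LK LD1_c7 LD2_c35 LD3_c15)) = (LP (LK LD1_c14 LD2_c18 LD3_c20)) :=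
  Lre_b IH (LK LD1_c7 LD2_c35 LD3_c15) (LK LD1_c14 LD2_c18 LD3_c20) Lrfl Lrfl
theorem f520264 : Led Lsl_at (LP (LK LD1_c14 LD2_c18 LD3_c20)) = (LP (LK LD1_c23 LD2_c56 LD3_c21)) :=
  Lre_a IH (LK LD1_c14 LD2_c18 LD3_c20) (LK LD1_c23 LD2_c56 LD3_c21) Lrfl Lrfl
theorem f520084 : Led Lsl_bt (LP (LK LD1_c7 LD2_c40 LD3_c4)) = (LP (LK LD1_c3 LD2_c49 LD3_c36)) :=
  Lre_b IH (LK LD1_c7 LD2_c40 LD3_c4) (LK LD1_c3 LD2_c49 LD3_c36) Lrfl Lrfl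
theorem f520091 : Led Lsl_at (LP (LK LD1_c14 LD2_c27 LD3_c16)) = (LP (LK LD1_c7 LD2_c40 LD3_c4)) :=
  Lre_a IH (LK LD1_c14 LD2_c27 LD3_c16) (LK LD1_c7 LD2_c40 LD3_c4) Lrfl Lrfl
theorem f520265 : Led Lsl_bt (LP (LK LD1_c23 LD2_c56 LD3_c21)) = (LP (LK LD1_c14 LD2_c27 LD3_c16)) :=
  Lgr Lrot62 (Lpe (f520264 IH) (Lpe (f520263 IH) (Lpr_af (f520259 IH) (Lpe (f520084 IH) (Lpe (f520091 IH) (Lpn (LP (LK LD1_c14 LD2_c27 LD3_c16))))))))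
theorem f486888 : Led Lsl_dt (LP (LK LD1_c14 LD2_c18 LD3_c19)) = (LP (LK LD1_c23 LD2_c56 LD3_c21)) :=
  Lre_d IH (LK LD1_c14 LD2_c18 LD3_c19) (LK LD1_c23 LD2_c56 LD3_c21) Lrfl Lrfl
theorem f488130 : Led Lsl_dt (LP (LK LD1_c14 LD2_c27 LD3_c16)) = (LP (LK LD1_c7 LD2_c40 LD3_c3)) :=
  Lre_d IH (LK LD1_c14 LD2_c27 LD3_c16) (LK LD1_c7 LD2_c40 LD3_c3) Lrfl Lrfl
theorem f520284 : Led Lsl_bf (LP (LK LD1_c14 LD2_c18 LD3_c19)) = (LP (LK LD1_c7 LD2_c40 LD3_c3)) :=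
  Lgr Lrot93 (Lpr_dt (f486888 IH) (Lpr_bt (f520265 IH) (Lpr_dt (f488130 IH) (Lpn (LP (LK LD1_c7 LD2_c40 LD3_c3))))))
theorem f486881 : Led Lsl_at (LP (LK LD1_c7 LD2_c35 LD3_c14)) = (LP (LK LD1_c14 LD2_c18 LD3_c19)) :=
  Lre_a IH (LK LD1_c7 LD2_c35 LD3_c14) (LK LD1_c14 LD2_c18 LD3_c19) Lrfl Lrfl
theorem f482391 : Led Lsl_at (LP (LK LD1_c13 LD2_c39 LD3_c60)) = (LP (LK LD1_c7 LD2_c13 LD3_c9)) :=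
  Lre_a IH (LK LD1_c13 LD2_c39 LD3_c60) (LK LD1_c7 LD2_c13 LD3_c9) Lrfl Lrfl
theorem f486882 : Led Lsl_ct (LP (LK LD1_c14 LD2_c18 LD3_c19)) = (LP (LK LD1_c13 LD2_c39 LD3_c60)) :=
  Lgr Lrot111 (Lpe (f486881 IH) (Lpr_cf (f486876 IH) (Lpe (f482391 IH) (Lpn (LP (LK LD1_c13 LD2_c39 LD3_c60))))))
theorem f520043 : Led Lsl_bt (LP (LK LD1_c13 LD2_c43 LD3_c25)) = (LP (LK LD1_c7 LD2_c52 LD3_c14)) :=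
  Lgr Lrot127 (Lpr_bf (f520041 IH) (Lpn (LP (LK LD1_c7 LD2_c52 LD3_c14))))
theorem f520015 : Led Lsl_ct (LP (LK LD1_c7 LD2_c15 LD3_c11)) = (LP (LK LD1_c13 LD2_c43 LD3_c25)) :=
  Lre_c IH (LK LD1_c7 LD2_c15 LD3_c11) (LK LD1_c13 LD2_c43 LD3_c25) Lrfl Lrfl
theorem f520288 : Led Lsl_bt (LP (LK LD1_c13 LD2_c39 LD3_c60)) = (LP (LK LD1_c7 LD2_c15 LD3_c11)) :=
  Lgr Lrot128 (Lpe (f486882 IH) (Lpr_bf (f520284 IH) (Lpe (f488132 IH) (Lpe (f520043 IH) (Lpe (f520015 IH) (Lpn (LP (LK LD1_c7 LD2_c15 LD3_c11))))))))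
theorem f519991 : Led Lsl_at (LP (LK LD1_c3 LD2_c37 LD3_c19)) = (LP (LK LD1_c7 LD2_c15 LD3_c11)) :=
  Lre_a IH (LK LD1_c3 LD2_c37 LD3_c19) (LK LD1_c7 LD2_c15 LD3_c11) Lrfl Lrfl
theorem f478634 : Led Lsl_at (LP (LK LD1_c13 LD2_c40 LD3_c3)) = (LP (LK LD1_c7 LD2_c13 LD3_c11)) :=
  Lre_a IH (LK LD1_c13 LD2_c40 LD3_c3) (LK LD1_c7 LD2_c13 LD3_c11) Lrfl Lrfl
theorem f519992 : Led Lsl_ft (LP (LK LD1_c7 LD2_c15 LD3_c11)) = (LP (LK LD1_c13 LD2_c40 LD3_c3)) :=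
  Lgr Lrot101 (Lpe (f519991 IH) (Lpr_ff (f519989 IH) (Lpe (f478634 IH) (Lpn (LP (LK LD1_c13 LD2_c40 LD3_c3))))))
theorem f467514 : Led Lsl_at (LP (LK LD1_c7 LD2_c15 LD3_c19)) = (LP (LK LD1_c3 LD2_c37 LD3_c25)) :=
  Lre_a IH (LK LD1_c7 LD2_c15 LD3_c19) (LK LD1_c3 LD2_c37 LD3_c25) Lrfl Lrfl
theorem f478644 : Led Lsl_at (LP (LK LD1_c7 LD2_c13 LD3_c11)) = (LP (LK LD1_c13 LD2_c40 LD3_c3)) :=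
  Lre_a IH (LK LD1_c7 LD2_c13 LD3_c11) (LK LD1_c13 LD2_c40 LD3_c3) Lrfl Lrfl
theorem f519844 : Led Lsl_bf (LP (LK LD1_c7 LD2_c15 LD3_c19)) = (LP (LK LD1_c13 LD2_c40 LD3_c3)) :=
  Lgr Lrot81 (Lpr_at (f467514 IH) (Lpr_bt (f97103 IH) (Lpr_at (f519840 IH) (Lpr_bt (f5992 IH) (Lpr_at (f478644 IH) (Lpn (LP (LK LD1_c13 LD2_c40 LD3_c3))))))))
theorem f520293 : Led Lsl_ff (LP (LK LD1_c13 LD2_c39 LD3_c60)) = (LP (LK LD1_c7 LD2_c15 LD3_c19)) :=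
  Lgr Lrot25 (Lpr_bt (f520288 IH) (Lpr_ft (f519992 IH) (Lpe (f519844 IH) (Lpn (LP (LK LD1_c7 LD2_c15 LD3_c19))))))
theorem f520301 : Led Lsl_gf (LP (LK LD1_c6 LD2_c55 LD3_c58)) = (LP (LK LD1_c7 LD2_c15 LD3_c19)) :=
  Lgr Lrot47 (Lpr_gt (f482389 IH) (Lpe (f482391 IH) (Lpr_ff (f520293 IH) (Lpn (LP (LK LD1_c7 LD2_c15 LD3_c19))))))
theorem f467499 : Led Lsl_bt (LP (LK LD1_c7 LD2_c15 LD3_c21)) = (LP (LK LD1_c3 LD2_c37 LD3_c27)) :=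
  Lre_b IH (LK LD1_c7 LD2_c15 LD3_c21) (LK LD1_c3 LD2_c37 LD3_c27) Lrfl Lrfl
theorem f461740 : Led Lsl_bt (LP (LK LD1_c3 LD2_c49 LD3_c39)) = (LP (LK LD1_c7 LD2_c40 LD3_c10)) :=
  Lre_b IH (LK LD1_c3 LD2_c49 LD3_c39) (LK LD1_c7 LD2_c40 LD3_c10) Lrfl Lrfl
theorem f467500 : Led Lsl_cf (LP (LK LD1_c7 LD2_c15 LD3_c21)) = (LP (LK LD1_c7 LD2_c40 LD3_c10)) :=
  Lgr Lrot97 (Lpr_bt (f467499 IH) (Lpr_ct (K29.f467498 IH) (Lpr_bt (K29.f467497 IH) (Lpr_ct (K29.f467469 IH) (Lpr_bt (f461740 IH) (Lpn (LP (LK LD1_c7 LD2_c40 LD3_c10))))))))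
theorem f467507 : Led Lsl_et (LP (LK LD1_c7 LD2_c15 LD3_c21)) = (LP (LK LD1_c3 LD2_c37 LD3_c25)) :=
  Lre_e IH (LK LD1_c7 LD2_c15 LD3_c21) (LK LD1_c3 LD2_c37 LD3_c25) Lrfl Lrfl
theorem f461728 : Led Lsl_et (LP (LK LD1_c3 LD2_c49 LD3_c37)) = (LP (LK LD1_c7 LD2_c40 LD3_c10)) :=
  Lre_e IH (LK LD1_c3 LD2_c49 LD3_c37) (LK LD1_c7 LD2_c40 LD3_c10) Lrfl Lrfl
theorem f467508 : Led Lsl_ct (LP (LK LD1_c3 LD2_c37 LD3_c25)) = (LP (LK LD1_c3 LD2_c49 LD3_c37)) :=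
  Lgr Lrot15 (Lpe (f467507 IH) (Lpr_cf (f467500 IH) (Lpe (f461728 IH) (Lpn (LP (LK LD1_c3 LD2_c49 LD3_c37))))))
theorem f467515 : Led Lsl_at (LP (LK LD1_c3 LD2_c49 LD3_c37)) = (LP (LK LD1_c7 LD2_c40 LD3_c8)) :=
  Lre_a IH (LK LD1_c3 LD2_c49 LD3_c37) (LK LD1_c7 LD2_c40 LD3_c8) Lrfl Lrfl
theorem f467516 : Led Lsl_cf (LP (LK LD1_c7 LD2_c15 LD3_c19)) = (LP (LK LD1_c7 LD2_c40 LD3_c8)) :=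
  Lgr Lrot1 (Lpr_at (f467514 IH) (Lpr_ct (f467508 IH) (Lpr_at (f467515 IH) (Lpn (LP (LK LD1_c7 LD2_c40 LD3_c8))))))
theorem f520305 : Led Lsl_bf (LP (LK LD1_c13 LD2_c36 LD3_c38)) = (LP (LK LD1_c7 LD2_c40 LD3_c8)) :=
  Lgr Lrot34 (Lpe (f478877 IH) (Lpe (f456229 IH) (Lpr_ct (f456228 IH) (Lpr_gf (f478872 IH) (Lpqs (f484142 IH) (Lpe (f481759 IH) (Lpe (f484235 IH) (Lpe (K3.f89856 IH) (Lpr_ct (f90031 IH) (Lpr_gf (f520301 IH) (Lpr_cf (f467516 IH) (Lpn (LP (LK LD1_c7 LD2_c40 LD3_c8))))))))))))))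
theorem f477386 : Led Lsl_at (LP (LK LD1_c7 LD2_c47 LD3_c48)) = (LP (LK LD1_c14 LD2_c42 LD3_c46)) :=
  Lre_a IH (LK LD1_c7 LD2_c47 LD3_c48) (LK LD1_c14 LD2_c42 LD3_c46) Lrfl Lrfl
theorem f520073 : Led Lsl_ef (LP (LK LD1_c13 LD2_c36 LD3_c38)) = (LP (LK LD1_c14 LD2_c42 LD3_c46)) :=
  Lgr Lrot20 (Lpr_at (f520069 IH) (Lpe (f477334 IH) (Lpr_at (f477386 IH) (Lpn (LP (LK LD1_c14 LD2_c42 LD3_c46))))))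
theorem f520075 : Led Lsl_et (LP (LK LD1_c13 LD2_c36 LD3_c38)) = (LP (LK LD1_c14 LD2_c42 LD3_c46)) :=
  Lgr Lrot87 (Lpr_ef (f520073 IH) (Lpn (LP (LK LD1_c14 LD2_c42 LD3_c46))))
theorem f461750 : Led Lsl_et (LP (LK LD1_c14 LD2_c27 LD3_c29)) = (LP (LK LD1_c7 LD2_c40 LD3_c8)) :=
  Lre_e IH (LK LD1_c14 LD2_c27 LD3_c29) (LK LD1_c7 LD2_c40 LD3_c8) Lrfl Lrfl
theorem f520329 : Led Lsl_bt (LP (LK LD1_c14 LD2_c42 LD3_c46)) = (LP (LK LD1_c14 LD2_c27 LD3_c29)) :=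
  Lgr Lrot119 (Lpe (f520075 IH) (Lpr_bf (f520305 IH) (Lpe (f461750 IH) (Lpn (LP (LK LD1_c14 LD2_c27 LD3_c29))))))
theorem f479848 : Led Lsl_at (LP (LK LD1_c7 LD2_c54 LD3_c28)) = (LP (LK LD1_c14 LD2_c55 LD3_c1)) :=
  Lre_a IH (LK LD1_c7 LD2_c54 LD3_c28) (LK LD1_c14 LD2_c55 LD3_c1) Lrfl Lrfl
theorem f477382 : Led Lsl_at (LP (LK LD1_c14 LD2_c42 LD3_c46)) = (LP (LK LD1_c7 LD2_c47 LD3_c48)) :=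
  Lre_a IH (LK LD1_c14 LD2_c42 LD3_c46) (LK LD1_c7 LD2_c47 LD3_c48) Lrfl Lrfl
theorem f479849 : Led Lsl_ct (LP (LK LD1_c14 LD2_c55 LD3_c1)) = (LP (LK LD1_c14 LD2_c42 LD3_c46)) :=
  Lgr Lrot111 (Lpe (f479848 IH) (Lpr_cf (f479846 IH) (Lpe (f477382 IH) (Lpn (LP (LK LD1_c14 LD2_c42 LD3_c46))))))
theorem f467527 : Led Lsl_ct (LP (LK LD1_c7 LD2_c15 LD3_c19)) = (LP (LK LD1_c7 LD2_c40 LD3_c8)) :=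
  Lgr Lrot59 (Lpr_cf (f467516 IH) (Lpn (LP (LK LD1_c7 LD2_c40 LD3_c8))))
theorem f467533 : Led Lsl_et (LP (LK LD1_c13 LD2_c43 LD3_c52)) = (LP (LK LD1_c7 LD2_c15 LD3_c19)) :=
  Lre_e IH (LK LD1_c13 LD2_c43 LD3_c52) (LK LD1_c7 LD2_c15 LD3_c19) Lrfl Lrfl
theorem f461755 : Led Lsl_et (LP (LK LD1_c7 LD2_c40 LD3_c8)) = (LP (LK LD1_c14 LD2_c27 LD3_c29)) :=
  Lre_e IH (LK LD1_c7 LD2_c40 LD3_c8) (LK LD1_c14 LD2_c27 LD3_c29) Lrfl Lrfl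
theorem f467534 : Led Lsl_cf (LP (LK LD1_c13 LD2_c43 LD3_c52)) = (LP (LK LD1_c14 LD2_c27 LD3_c29)) :=
  Lgr Lrot39 (Lpr_et (f467533 IH) (Lpr_ct (f467527 IH) (Lpr_et (f461755 IH) (Lpn (LP (LK LD1_c14 LD2_c27 LD3_c29))))))
theorem f467466 : Led Lsl_bt (LP (LK LD1_c3 LD2_c37 LD3_c27)) = (LP (LK LD1_c7 LD2_c15 LD3_c21)) :=
  Lre_b IH (LK LD1_c3 LD2_c37 LD3_c27) (LK LD1_c7 LD2_c15 LD3_c21) Lrfl Lrfl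
theorem f467503 : Led Lsl_at (LP (LK LD1_c7 LD2_c15 LD3_c21)) = (LP (LK LD1_c13 LD2_c43 LD3_c52)) :=
  Lre_a IH (LK LD1_c7 LD2_c15 LD3_c21) (LK LD1_c13 LD2_c43 LD3_c52) Lrfl Lrfl
theorem f462014 : Led Lsl_bt (LP (LK LD1_c13 LD2_c14 LD3_c20)) = (LP (LK LD1_c6 LD2_c58 LD3_c25)) :=
  Lre_b IH (LK LD1_c13 LD2_c14 LD3_c20) (LK LD1_c6 LD2_c58 LD3_c25) Lrfl Lrfl
theorem f480586 : Led Lsl_at (LP (LK LD1_c22 LD2_c29 LD3_c4)) = (LP (LK LD1_c13 LD2_c14 LD3_c20)) :=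
  Lre_a IH (LK LD1_c22 LD2_c29 LD3_c4) (LK LD1_c13 LD2_c14 LD3_c20) Lrfl Lrfl
theorem f519852 : Led Lsl_bt (LP (LK LD1_c13 LD2_c43 LD3_c52)) = (LP (LK LD1_c22 LD2_c29 LD3_c4)) :=
  Lgr Lrot62 (Lpe (f467503 IH) (Lpe (f467466 IH) (Lpr_af (f519848 IH) (Lpe (f462014 IH) (Lpe (f480586 IH) (Lpn (LP (LK LD1_c22 LD2_c29 LD3_c4))))))))
theorem f455437 : Led Lsl_bt (LP (LK LD1_c6 LD2_c58 LD3_c25)) = (LP (LK LD1_c13 LD2_c14 LD3_c20)) :=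
  Lre_b IH (LK LD1_c6 LD2_c58 LD3_c25) (LK LD1_c13 LD2_c14 LD3_c20) Lrfl Lrfl
theorem f472552 : Led Lsl_bt (LP (LK LD1_c7 LD2_c52 LD3_c21)) = (LP (LK LD1_c3 LD2_c55 LD3_c17)) :=
  Lre_b IH (LK LD1_c7 LD2_c52 LD3_c21) (LK LD1_c3 LD2_c55 LD3_c17) Lrfl Lrfl
theorem f479597 : Led Lsl_ct (LP (LK LD1_c13 LD2_c14 LD3_c20)) = (LP (LK LD1_c7 LD2_c52 LD3_c21)) :=
  Lgr Lrot83 (Lpe (f455437 IH) (Lpe (K29.f446453 IH) (Lpr_bf (K29.f479593 IH) (Lpr_cf (K29.f478265 IH) (Lpe (f472552 IH) (Lpn (LP (LK LD1_c7 LD2_c52 LD3_c21))))))))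
theorem f480589 : Led Lsl_cf (LP (LK LD1_c13 LD2_c14 LD3_c20)) = (LP (LK LD1_c7 LD2_c52 LD3_c21)) :=
  Lgr Lrot11 (Lpr_ct (f479597 IH) (Lpn (LP (LK LD1_c7 LD2_c52 LD3_c21))))
theorem f480592 : Led Lsl_at (LP (LK LD1_c13 LD2_c14 LD3_c20)) = (LP (LK LD1_c22 LD2_c29 LD3_c4)) :=
  Lre_a IH (LK LD1_c13 LD2_c14 LD3_c20) (LK LD1_c22 LD2_c29 LD3_c4) Lrfl Lrfl
theorem f472677 : Led Lsl_at (LP (LK LD1_c14 LD2_c50 LD3_c58)) = (LP (LK LD1_c7 LD2_c52 LD3_c21)) :=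
  Lre_a IH (LK LD1_c14 LD2_c50 LD3_c58) (LK LD1_c7 LD2_c52 LD3_c21) Lrfl Lrfl
theorem f480593 : Led Lsl_ct (LP (LK LD1_c22 LD2_c29 LD3_c4)) = (LP (LK LD1_c14 LD2_c50 LD3_c58)) :=
  Lgr Lrot111 (Lpe (f480592 IH) (Lpr_cf (f480589 IH) (Lpe (f472677 IH) (Lpn (LP (LK LD1_c14 LD2_c50 LD3_c58))))))
theorem f520335 : Led Lsl_bf (LP (LK LD1_c14 LD2_c55 LD3_c1)) = (LP (LK LD1_c14 LD2_c50 LD3_c58)) :=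
  Lgr Lrot90 (Lpr_ct (f479849 IH) (Lpr_bt (f520329 IH) (Lpe (f467534 IH) (Lpr_bt (f519852 IH) (Lpr_ct (f480593 IH) (Lpn (LP (LK LD1_c14 LD2_c50 LD3_c58))))))))
theorem f479843 : Led Lsl_at (LP (LK LD1_c14 LD2_c55 LD3_c1)) = (LP (LK LD1_c7 LD2_c54 LD3_c28)) :=
  Lre_a IH (LK LD1_c14 LD2_c55 LD3_c1) (LK LD1_c7 LD2_c54 LD3_c28) Lrfl Lrfl
theorem f480418 : Led Lsl_at (LP (LK LD1_c13 LD2_c24 LD3_c56)) = (LP (LK LD1_c22 LD2_c43 LD3_c28)) :=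
  Lre_a IH (LK LD1_c13 LD2_c24 LD3_c56) (LK LD1_c22 LD2_c43 LD3_c28) Lrfl Lrfl
theorem f480419 : Led Lsl_df (LP (LK LD1_c14 LD2_c55 LD3_c1)) = (LP (LK LD1_c22 LD2_c43 LD3_c28)) :=
  Lgr Lrot18 (Lpr_at (f479843 IH) (Lpr_dt (f480416 IH) (Lpr_at (f480418 IH) (Lpn (LP (LK LD1_c22 LD2_c43 LD3_c28))))))
theorem f480422 : Led Lsl_dt (LP (LK LD1_c14 LD2_c55 LD3_c1)) = (LP (LK LD1_c22 LD2_c43 LD3_c28)) :=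
  Lgr Lrot42 (Lpr_df (f480419 IH) (Lpn (LP (LK LD1_c22 LD2_c43 LD3_c28))))
theorem f459256 : Led Lsl_bt (LP (LK LD1_c13 LD2_c25 LD3_c40)) = (LP (LK LD1_c7 LD2_c4 LD3_c61)) :=
  Lre_b IH (LK LD1_c13 LD2_c25 LD3_c40) (LK LD1_c7 LD2_c4 LD3_c61) Lrfl Lrfl
theorem f472673 : Led Lsl_bt (LP (LK LD1_c3 LD2_c55 LD3_c17)) = (LP (LK LD1_c7 LD2_c52 LD3_c21)) :=
  Lre_b IH (LK LD1_c3 LD2_c55 LD3_c17) (LK LD1_c7 LD2_c52 LD3_c21) Lrfl Lrfl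
theorem f472674 : Led Lsl_df (LP (LK LD1_c13 LD2_c25 LD3_c40)) = (LP (LK LD1_c7 LD2_c52 LD3_c21)) :=
  Lgr Lrot12 (Lpr_bt (f459256 IH) (Lpr_dt (K29.f472555 IH) (Lpr_bt (f472673 IH) (Lpn (LP (LK LD1_c7 LD2_c52 LD3_c21))))))
theorem f472676 : Led Lsl_at (LP (LK LD1_c13 LD2_c25 LD3_c40)) = (LP (LK LD1_c22 LD2_c44 LD3_c50)) :=
  Lre_a IH (LK LD1_c13 LD2_c25 LD3_c40) (LK LD1_c22 LD2_c44 LD3_c50) Lrfl Lrfl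
theorem f472678 : Led Lsl_dt (LP (LK LD1_c22 LD2_c44 LD3_c50)) = (LP (LK LD1_c14 LD2_c50 LD3_c58)) :=
  Lgr Lrot44 (Lpe (f472676 IH) (Lpr_df (f472674 IH) (Lpe (f472677 IH) (Lpn (LP (LK LD1_c14 LD2_c50 LD3_c58))))))
theorem f520341 : Led Lsl_bt (LP (LK LD1_c22 LD2_c43 LD3_c28)) = (LP (LK LD1_c22 LD2_c44 LD3_c50)) :=
  Lgr Lrot95 (Lpe (f480422 IH) (Lpr_bf (f520335 IH) (Lpe (f472678 IH) (Lpn (LP (LK LD1_c22 LD2_c44 LD3_c50))))))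
theorem f520345 : Led Lsl_bf (LP (LK LD1_c22 LD2_c43 LD3_c28)) = (LP (LK LD1_c22 LD2_c44 LD3_c50)) :=
  Lgr Lrot24 (Lpr_bt (f520341 IH) (Lpn (LP (LK LD1_c22 LD2_c44 LD3_c50))))
theorem f480424 : Led Lsl_at (LP (LK LD1_c22 LD2_c43 LD3_c28)) = (LP (LK LD1_c13 LD2_c24 LD3_c56)) :=
  Lre_a IH (LK LD1_c22 LD2_c43 LD3_c28) (LK LD1_c13 LD2_c24 LD3_c56) Lrfl Lrfl
theorem f470273 : Led Lsl_bt (LP (LK LD1_c7 LD2_c4 LD3_c61)) = (LP (LK LD1_c13 LD2_c25 LD3_c40)) :=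
  Lre_b IH (LK LD1_c7 LD2_c4 LD3_c61) (LK LD1_c13 LD2_c25 LD3_c40) Lrfl Lrfl
theorem f520347 : Led Lsl_at (LP (LK LD1_c7 LD2_c4 LD3_c35)) = (LP (LK LD1_c7 LD2_c4 LD3_c61)) :=
  Lgr Lrot67 (Lpe (f459267 IH) (Lpe (f480424 IH) (Lpr_bf (f520345 IH) (Lpe (f472676 IH) (Lpe (f470273 IH) (Lpn (LP (LK LD1_c7 LD2_c4 LD3_c61))))))))
theorem f520353 : Led Lsl_ff (LP (LK LD1_c7 LD2_c4 LD3_c35)) = (LP (LK LD1_c7 LD2_c4 LD3_c60)) :=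
  Lgr Lrot52 (Lpr_at (f520347 IH) (Lpr_gf (K29.f459251 IH) (Lpe (f458895 IH) (Lpn (LP (LK LD1_c7 LD2_c4 LD3_c60))))))
theorem f520364 : Led Lsl_ft (LP (LK LD1_c7 LD2_c4 LD3_c35)) = (LP (LK LD1_c7 LD2_c4 LD3_c60)) :=
  Lgr Lrot48 (Lpr_ff (f520353 IH) (Lpn (LP (LK LD1_c7 LD2_c4 LD3_c60))))
theorem f520375 : Led Lsl_af (LP (LK LD1_c7 LD2_c4 LD3_c36)) = (LP (LK LD1_c7 LD2_c4 LD3_c60)) :=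
  Lgr Lrot31 (Lpe (f459029 IH) (Lpr_gf (f459263 IH) (Lpr_ft (f520364 IH) (Lpn (LP (LK LD1_c7 LD2_c4 LD3_c60))))))
theorem f472691 : Led Lsl_at (LP (LK LD1_c22 LD2_c44 LD3_c50)) = (LP (LK LD1_c13 LD2_c25 LD3_c40)) :=
  Lre_a IH (LK LD1_c22 LD2_c44 LD3_c50) (LK LD1_c13 LD2_c25 LD3_c40) Lrfl Lrfl
theorem f520343 : Led Lsl_af (LP (LK LD1_c7 LD2_c4 LD3_c35)) = (LP (LK LD1_c7 LD2_c4 LD3_c61)) :=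
  Lgr Lrot36 (Lpr_bt (f468128 IH) (Lpr_at (f480418 IH) (Lpr_bt (f520341 IH) (Lpr_at (f472691 IH) (Lpr_bt (f459256 IH) (Lpn (LP (LK LD1_c7 LD2_c4 LD3_c61))))))))
theorem f520387 : Led Lsl_ft (LP (LK LD1_c7 LD2_c4 LD3_c36)) = (LP (LK LD1_c7 LD2_c4 LD3_c61)) :=
  Lgr Lrot101 (Lpr_af (f520375 IH) (Lpe (f520364 IH) (Lpr_af (f520343 IH) (Lpn (LP (LK LD1_c7 LD2_c4 LD3_c61))))))
theorem f520395 : Led Lsl_ff (LP (LK LD1_c7 LD2_c4 LD3_c36)) = (LP (LK LD1_c7 LD2_c4 LD3_c61)) :=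
  Lgr Lrot3 (Lpr_ft (f520387 IH) (Lpn (LP (LK LD1_c7 LD2_c4 LD3_c61))))
theorem f520401 : Led Lsl_ft (LP (LK LD1_c3 LD2_c56 LD3_c22)) = (LP (LK LD1_c3 LD2_c55 LD3_c17)) :=
  Lgr Lrot54 (Lpr_df (f480036 IH) (Lpr_ff (f520395 IH) (Lpr_df (K29.f469136 IH) (Lpn (LP (LK LD1_c3 LD2_c55 LD3_c17))))))
theorem f520407 : Led Lsl_ff (LP (LK LD1_c6 LD2_c57 LD3_c43)) = (LP (LK LD1_c6 LD2_c55 LD3_c17)) :=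
  Lgr Lrot23 (Lpr_ct (K28.f464626 IH) (Lpr_ft (f520401 IH) (Lpe (K29.f478265 IH) (Lpn (LP (LK LD1_c6 LD2_c55 LD3_c17))))))
theorem f451944 : Led Lsl_ff (LP (LK LD1_c3 LD2_c56 LD3_c23)) = (LP (LK LD1_c3 LD2_c56 LD3_c26)) :=
  Lgr Lrot19 (Lpr_dt (K28.f11337 IH) (Lpr_ft (K28.f451928 IH) (Lpr_dt (K28.f451267 IH) (Lpn (LP (LK LD1_c3 LD2_c56 LD3_c26))))))
theorem f470073 : Led Lsl_at (LP (LK LD1_c3 LD2_c56 LD3_c23)) = (LP (LK LD1_c7 LD2_c29 LD3_c0)) :=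
  Lgr Lrot33 (Lpr_ff (f451944 IH) (Lpr_dt (K28.f451255 IH) (Lpr_ct (K29.f451256 IH) (Lpr_dt (K29.f11340 IH) (Lpr_ct (K28.f11209 IH) (Lpr_dt (K32.f451259 IH) (Lpr_ct (K32.f451755 IH) (Lpr_dt (f451758 IH) (Lpr_ct (f470063 IH) (Lpn (LP (LK LD1_c7 LD2_c29 LD3_c0))))))))))))
theorem f470087 : Led Lsl_gf (LP (LK LD1_c7 LD2_c4 LD3_c33)) = (LP (LK LD1_c3 LD2_c56 LD3_c26)) :=
  Lgr Lrot47 (Lpr_gt (f470085 IH) (Lpe (f470073 IH) (Lpr_ff (f451944 IH) (Lpn (LP (LK LD1_c3 LD2_c56 LD3_c26))))))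
theorem f98819 : Led Lsl_dt (LP (LK LD1_c6 LD2_c54 LD3_c30)) = (LP (LK LD1_c3 LD2_c26 LD3_c17)) :=
  Lre_d IH (LK LD1_c6 LD2_c54 LD3_c30) (LK LD1_c3 LD2_c26 LD3_c17) Lrfl Lrfl
theorem f479605 : Led Lsl_gf (LP (LK LD1_c6 LD2_c54 LD3_c30)) = (LP (LK LD1_c6 LD2_c55 LD3_c17)) :=
  Lgr Lrot144 (Lpr_dt (f98819 IH) (Lpr_gt (K28.f464425 IH) (Lpr_dt (K28.f468117 IH) (Lpe (K28.f455624 IH) (Lpe (K28.f459231 IH) (Lpr_gf (f470087 IH) (Lpe (K28.f451267 IH) (Lpr_gf (K29.f479601 IH) (Lpe (K29.f478614 IH) (Lpn (LP (LK LD1_c6 LD2_c55 LD3_c17))))))))))))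
theorem f520413 : Led Lsl_at (LP (LK LD1_c6 LD2_c57 LD3_c43)) = (LP (LK LD1_c7 LD2_c54 LD3_c33)) :=
  Lgr Lrot26 (Lpr_ff (f520407 IH) (Lpe (f479605 IH) (Lpr_gt (K32.f464433 IH) (Lpn (LP (LK LD1_c7 LD2_c54 LD3_c33))))))
theorem f520415 : Led Lsl_af (LP (LK LD1_c6 LD2_c57 LD3_c43)) = (LP (LK LD1_c7 LD2_c54 LD3_c33)) :=
  Lgr Lrot0 (Lpr_at (f520413 IH) (Lpn (LP (LK LD1_c7 LD2_c54 LD3_c33))))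
theorem f520417 : Led Lsl_ft (LP (LK LD1_c6 LD2_c57 LD3_c42)) = (LP (LK LD1_c7 LD2_c54 LD3_c33)) :=
  Lgr Lrot2 (Lpe (f469515 IH) (Lpe (K32.f464715 IH) (Lpr_af (f520415 IH) (Lpn (LP (LK LD1_c7 LD2_c54 LD3_c33))))))
theorem f520423 : Led Lsl_ff (LP (LK LD1_c6 LD2_c57 LD3_c42)) = (LP (LK LD1_c7 LD2_c54 LD3_c33)) :=
  Lgr Lrot3 (Lpr_ft (f520417 IH) (Lpn (LP (LK LD1_c7 LD2_c54 LD3_c33))))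
theorem f479839 : Led Lsl_bt (LP (LK LD1_c6 LD2_c57 LD3_c42)) = (LP (LK LD1_c6 LD2_c57 LD3_c16)) :=
  Lgr Lrot127 (Lpr_bf (f479837 IH) (Lpn (LP (LK LD1_c6 LD2_c57 LD3_c16))))
theorem f474024 : Led Lsl_bf (LP (LK LD1_c7 LD2_c54 LD3_c33)) = (LP (LK LD1_c6 LD2_c57 LD3_c19)) :=
  Lgr Lrot24 (Lpr_bt (K32.f474022 IH) (Lpn (LP (LK LD1_c6 LD2_c57 LD3_c19))))
theorem f520427 : Led Lsl_ft (LP (LK LD1_c6 LD2_c57 LD3_c16)) = (LP (LK LD1_c6 LD2_c57 LD3_c19)) :=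
  Lgr Lrot75 (Lpe (f479839 IH) (Lpr_ff (f520423 IH) (Lpr_bf (f474024 IH) (Lpn (LP (LK LD1_c6 LD2_c57 LD3_c19))))))
theorem f464854 : Led Lsl_ft (LP (LK LD1_c6 LD2_c34 LD3_c56)) = (LP (LK LD1_c12 LD2_c36 LD3_c6)) :=
  Lre_f IH (LK LD1_c6 LD2_c34 LD3_c56) (LK LD1_c12 LD2_c36 LD3_c6) Lrfl Lrfl
theorem f520431 : Led Lsl_df (LP (LK LD1_c6 LD2_c57 LD3_c16)) = (LP (LK LD1_c12 LD2_c36 LD3_c6)) :=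
  Lgr Lrot78 (Lpr_ft (f520427 IH) (Lpe (K29.f464850 IH) (Lpr_ft (f464854 IH) (Lpn (LP (LK LD1_c12 LD2_c36 LD3_c6))))))
theorem f477248 : Led Lsl_ct (LP (LK LD1_c13 LD2_c21 LD3_c25)) = (LP (LK LD1_c7 LD2_c47 LD3_c47)) :=
  Lgr Lrot7 (Lpr_df (K29.f477238 IH) (Lpr_gf (K29.f468517 IH) (Lpe (K29.f468502 IH) (Lpr_gf (K29.f468495 IH) (Lpe (K24.f64660 IH) (Lpe (K29.f64655 IH) (Lpr_dt (K29.f64653 IH) (Lpr_gt (K29.f64686 IH) (Lpr_dt (K29.f64687 IH) (Lpn (LP (LK LD1_c7 LD2_c47 LD3_c47))))))))))))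
theorem f477396 : Led Lsl_gf (LP (LK LD1_c13 LD2_c21 LD3_c25)) = (LP (LK LD1_c7 LD2_c2 LD3_c46)) :=
  Lgr Lrot147 (Lpr_ct (f477248 IH) (Lpr_gt (K29.f477391 IH) (Lpr_ct (K29.f460226 IH) (Lpe (K29.f468686 IH) (Lpr_cf (K29.f468625 IH) (Lpe (K24.f129708 IH) (Lpr_cf (K29.f464797 IH) (Lpe (K29.f464796 IH) (Lpr_df (K29.f468751 IH) (Lpn (LP (LK LD1_c7 LD2_c2 LD3_c46))))))))))))
theorem f477244 : Led Lsl_dt (LP (LK LD1_c13 LD2_c21 LD3_c25)) = (LP (LK LD1_c7 LD2_c47 LD3_c31)) :=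
  Lgr Lrot42 (Lpr_df (K29.f477238 IH) (Lpn (LP (LK LD1_c7 LD2_c47 LD3_c31))))
theorem f477407 : Led Lsl_gf (LP (LK LD1_c7 LD2_c47 LD3_c32)) = (LP (LK LD1_c7 LD2_c0 LD3_c11)) :=
  Lgr Lrot143 (Lpr_dt (f464025 IH) (Lpe (K29.f460412 IH) (Lpe (f477244 IH) (Lpr_gf (f477396 IH) (Lpe (K29.f468743 IH) (Lpe (K29.f468476 IH) (Lpr_cf (K29.f468482 IH) (Lpr_gt (K29.f464145 IH) (Lpr_dt (K29.f464144 IH) (Lpn (LP (LK LD1_c7 LD2_c0 LD3_c11))))))))))))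
theorem f520443 : Led Lsl_ct (LP (LK LD1_c7 LD2_c47 LD3_c32)) = (LP (LK LD1_c12 LD2_c36 LD3_c6)) :=
  Lgr Lrot110 (Lpr_gf (f477407 IH) (Lpe (K29.f18789 IH) (Lpe (K29.f477394 IH) (Lpe (K29.f62992 IH) (Lpr_gt (K30.f458086 IH) (Lpr_ct (K24.f129787 IH) (Lpe (K29.f468504 IH) (Lpe (K29.f461911 IH) (Lpr_df (f520431 IH) (Lpn (LP (LK LD1_c12 LD2_c36 LD3_c6))))))))))))
theorem f461736 : Led Lsl_at (LP (LK LD1_c14 LD2_c27 LD3_c29)) = (LP (LK LD1_c7 LD2_c40 LD3_c10)) :=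
  Lre_a IH (LK LD1_c14 LD2_c27 LD3_c29) (LK LD1_c7 LD2_c40 LD3_c10) Lrfl Lrfl
theorem f461672 : Led Lsl_bt (LP (LK LD1_c7 LD2_c40 LD3_c10)) = (LP (LK LD1_c3 LD2_c49 LD3_c39)) :=
  Lre_b IH (LK LD1_c7 LD2_c40 LD3_c10) (LK LD1_c3 LD2_c49 LD3_c39) Lrfl Lrfl
theorem f520331 : Led Lsl_af (LP (LK LD1_c3 LD2_c52 LD3_c60)) = (LP (LK LD1_c3 LD2_c49 LD3_c39)) :=
  Lgr Lrot36 (Lpr_bt (f461917 IH) (Lpr_at (f477386 IH) (Lpr_bt (f520329 IH) (Lpr_at (f461736 IH) (Lpr_bt (f461672 IH) (Lpn (LP (LK LD1_c3 LD2_c49 LD3_c39))))))))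
theorem f520451 : Led Lsl_ft (LP (LK LD1_c3 LD2_c52 LD3_c59)) = (LP (LK LD1_c3 LD2_c49 LD3_c39)) :=
  Lgr Lrot142 (Lpr_dt (K29.f64687 IH) (Lpe (K29.f477250 IH) (Lpr_dt (f477244 IH) (Lpr_ct (K29.f460412 IH) (Lpr_dt (f464012 IH) (Lpr_ct (f520443 IH) (Lpe (f520431 IH) (Lpr_ct (f461909 IH) (Lpr_af (f520331 IH) (Lpn (LP (LK LD1_c3 LD2_c49 LD3_c39))))))))))))
theorem f520459 : Led Lsl_ff (LP (LK LD1_c3 LD2_c52 LD3_c59)) = (LP (LK LD1_c3 LD2_c49 LD3_c39)) :=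
  Lgr Lrot3 (Lpr_ft (f520451 IH) (Lpn (LP (LK LD1_c3 LD2_c49 LD3_c39))))
theorem f520466 : Led Lsl_ft (LP (LK LD1_c7 LD2_c47 LD3_c47)) = (LP (LK LD1_c7 LD2_c3 LD3_c24)) :=
  Lgr Lrot54 (Lpe (K29.f64687 IH) (Lpr_ff (f520459 IH) (Lpr_df (K29.f461676 IH) (Lpn (LP (LK LD1_c7 LD2_c3 LD3_c24))))))
theorem f520472 : Led Lsl_af (LP (LK LD1_c7 LD2_c47 LD3_c49)) = (LP (LK LD1_c7 LD2_c3 LD3_c24)) :=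
  Lgr Lrot31 (Lpr_gf (K29.f477321 IH) (Lpe (K29.f477391 IH) (Lpr_ft (f520466 IH) (Lpn (LP (LK LD1_c7 LD2_c3 LD3_c24))))))
theorem f468510 : Led Lsl_et (LP (LK LD1_c7 LD2_c47 LD3_c49)) = (LP (LK LD1_c14 LD2_c42 LD3_c48)) :=
  Lre_e IH (LK LD1_c7 LD2_c47 LD3_c49) (LK LD1_c14 LD2_c42 LD3_c48) Lrfl Lrfl
theorem f461705 : Led Lsl_et (LP (LK LD1_c13 LD2_c22 LD3_c58)) = (LP (LK LD1_c7 LD2_c3 LD3_c24)) :=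
  Lre_e IH (LK LD1_c13 LD2_c22 LD3_c58) (LK LD1_c7 LD2_c3 LD3_c24) Lrfl Lrfl
theorem f520478 : Led Lsl_at (LP (LK LD1_c14 LD2_c42 LD3_c48)) = (LP (LK LD1_c13 LD2_c22 LD3_c58)) :=
  Lgr Lrot80 (Lpe (f468510 IH) (Lpr_af (f520472 IH) (Lpe (f461705 IH) (Lpn (LP (LK LD1_c13 LD2_c22 LD3_c58))))))
theorem f477279 : Led Lsl_et (LP (LK LD1_c22 LD2_c38 LD3_c8)) = (LP (LK LD1_c13 LD2_c21 LD3_c24)) :=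
  Lre_e IH (LK LD1_c22 LD2_c38 LD3_c8) (LK LD1_c13 LD2_c21 LD3_c24) Lrfl Lrfl
theorem f477280 : Led Lsl_ct (LP (LK LD1_c14 LD2_c42 LD3_c48)) = (LP (LK LD1_c22 LD2_c38 LD3_c8)) :=
  Lgr Lrot15 (Lpe (f468510 IH) (Lpr_cf (K29.f477271 IH) (Lpe (f477279 IH) (Lpn (LP (LK LD1_c22 LD2_c38 LD3_c8))))))
theorem f477908 : Led Lsl_cf (LP (LK LD1_c14 LD2_c42 LD3_c48)) = (LP (LK LD1_c22 LD2_c38 LD3_c8)) :=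
  Lgr Lrot11 (Lpr_ct (f477280 IH) (Lpn (LP (LK LD1_c22 LD2_c38 LD3_c8))))
theorem f461720 : Led Lsl_ct (LP (LK LD1_c13 LD2_c22 LD3_c58)) = (LP (LK LD1_c22 LD2_c40 LD3_c36)) :=
  Lre_c IH (LK LD1_c13 LD2_c22 LD3_c58) (LK LD1_c22 LD2_c40 LD3_c36) Lrfl Lrfl
theorem f520482 : Led Lsl_af (LP (LK LD1_c22 LD2_c38 LD3_c8)) = (LP (LK LD1_c22 LD2_c40 LD3_c36)) :=
  Lgr Lrot68 (Lpe (f477908 IH) (Lpr_at (f520478 IH) (Lpr_ct (f461720 IH) (Lpn (LP (LK LD1_c22 LD2_c40 LD3_c36))))))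
theorem f520516 : Led Lsl_at (LP (LK LD1_c22 LD2_c38 LD3_c8)) = (LP (LK LD1_c22 LD2_c40 LD3_c36)) :=
  Lgr Lrot100 (Lpr_af (f520482 IH) (Lpn (LP (LK LD1_c22 LD2_c40 LD3_c36))))
theorem f477290 : Led Lsl_et (LP (LK LD1_c13 LD2_c21 LD3_c24)) = (LP (LK LD1_c22 LD2_c38 LD3_c8)) :=
  Lre_e IH (LK LD1_c13 LD2_c21 LD3_c24) (LK LD1_c22 LD2_c38 LD3_c8) Lrfl Lrfl
theorem f463919 : Led Lsl_et (LP (LK LD1_c22 LD2_c40 LD3_c36)) = (LP (LK LD1_c13 LD2_c22 LD3_c57)) :=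
  Lre_e IH (LK LD1_c22 LD2_c40 LD3_c36) (LK LD1_c13 LD2_c22 LD3_c57) Lrfl Lrfl
theorem f520519 : Led Lsl_af (LP (LK LD1_c13 LD2_c21 LD3_c24)) = (LP (LK LD1_c13 LD2_c22 LD3_c57)) :=
  Lgr Lrot50 (Lpr_et (f477290 IH) (Lpr_at (f520516 IH) (Lpr_et (f463919 IH) (Lpn (LP (LK LD1_c13 LD2_c22 LD3_c57))))))
theorem f520523 : Led Lsl_ft (LP (LK LD1_c13 LD2_c21 LD3_c25)) = (LP (LK LD1_c13 LD2_c22 LD3_c57)) :=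
  Lgr Lrot2 (Lpr_gt (K29.f468793 IH) (Lpr_gt (K29.f443529 IH) (Lpr_af (f520519 IH) (Lpn (LP (LK LD1_c13 LD2_c22 LD3_c57))))))
theorem f520527 : Led Lsl_ff (LP (LK LD1_c7 LD2_c47 LD3_c31)) = (LP (LK LD1_c7 LD2_c45 LD3_c51)) :=
  Lgr Lrot19 (Lpe (K29.f477238 IH) (Lpr_ft (f520523 IH) (Lpe (K29.f477303 IH) (Lpn (LP (LK LD1_c7 LD2_c45 LD3_c51))))))
theorem f520538 : Led Lsl_at (LP (LK LD1_c7 LD2_c47 LD3_c31)) = (LP (LK LD1_c7 LD2_c45 LD3_c52)) :=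
  Lgr Lrot26 (Lpr_ff (f520527 IH) (Lpe (K29.f474978 IH) (Lpe (K29.f468821 IH) (Lpn (LP (LK LD1_c7 LD2_c45 LD3_c52))))))
theorem f477288 : Led Lsl_df (LP (LK LD1_c7 LD2_c47 LD3_c28)) = (LP (LK LD1_c13 LD2_c21 LD3_c24)) :=
  Lgr Lrot38 (Lpr_dt (K29.f477284 IH) (Lpn (LP (LK LD1_c13 LD2_c21 LD3_c24))))
theorem f520521 : Led Lsl_at (LP (LK LD1_c7 LD2_c47 LD3_c28)) = (LP (LK LD1_c7 LD2_c45 LD3_c51)) :=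
  Lgr Lrot51 (Lpr_df (f477288 IH) (Lpr_af (f520519 IH) (Lpe (K29.f477299 IH) (Lpn (LP (LK LD1_c7 LD2_c45 LD3_c51))))))
theorem f520548 : Led Lsl_ff (LP (LK LD1_c7 LD2_c47 LD3_c28)) = (LP (LK LD1_c7 LD2_c45 LD3_c52)) :=
  Lgr Lrot30 (Lpr_at (f520521 IH) (Lpe (f520527 IH) (Lpr_at (f520538 IH) (Lpn (LP (LK LD1_c7 LD2_c45 LD3_c52))))))
theorem f520557 : Led Lsl_ft (LP (LK LD1_c7 LD2_c47 LD3_c28)) = (LP (LK LD1_c7 LD2_c45 LD3_c52)) :=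
  Lgr Lrot48 (Lpr_ff (f520548 IH) (Lpn (LP (LK LD1_c7 LD2_c45 LD3_c52))))
theorem f520563 : Led Lsl_ff (LP (LK LD1_c3 LD2_c52 LD3_c51)) = (LP (LK LD1_c7 LD2_c37 LD3_c13)) :=
  Lgr Lrot23 (Lpr_ct (K29.f459929 IH) (Lpr_ft (f520557 IH) (Lpr_ct (K29.f468388 IH) (Lpn (LP (LK LD1_c7 LD2_c37 LD3_c13))))))
theorem f520651 : Led Lsl_at (LP (LK LD1_c3 LD2_c52 LD3_c51)) = (LP (LK LD1_c7 LD2_c37 LD3_c12)) :=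
  Lgr Lrot26 (Lpr_ff (f520563 IH) (Lpr_gt (K29.f129845 IH) (Lpr_gt (K29.f129849 IH) (Lpn (LP (LK LD1_c7 LD2_c37 LD3_c12))))))
theorem f459958 : Led Lsl_et (LP (LK LD1_c7 LD2_c47 LD3_c29)) = (LP (LK LD1_c3 LD2_c52 LD3_c51)) :=
  Lre_e IH (LK LD1_c7 LD2_c47 LD3_c29) (LK LD1_c3 LD2_c52 LD3_c51) Lrfl Lrfl
theorem f460609 : Led Lsl_et (LP (LK LD1_c7 LD2_c37 LD3_c12)) = (LP (LK LD1_c14 LD2_c21 LD3_c59)) :=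
  Lre_e IH (LK LD1_c7 LD2_c37 LD3_c12) (LK LD1_c14 LD2_c21 LD3_c59) Lrfl Lrfl
theorem f520657 : Led Lsl_af (LP (LK LD1_c7 LD2_c47 LD3_c29)) = (LP (LK LD1_c14 LD2_c21 LD3_c59)) :=
  Lgr Lrot50 (Lpr_et (f459958 IH) (Lpr_at (f520651 IH) (Lpr_et (f460609 IH) (Lpn (LP (LK LD1_c14 LD2_c21 LD3_c59))))))
theorem f459952 : Led Lsl_ft (LP (LK LD1_c7 LD2_c47 LD3_c29)) = (LP (LK LD1_c14 LD2_c42 LD3_c8)) :=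
  Lre_f IH (LK LD1_c7 LD2_c47 LD3_c29) (LK LD1_c14 LD2_c42 LD3_c8) Lrfl Lrfl
theorem f460619 : Led Lsl_ft (LP (LK LD1_c24 LD2_c0 LD3_c1)) = (LP (LK LD1_c14 LD2_c21 LD3_c59)) :=
  Lre_f IH (LK LD1_c24 LD2_c0 LD3_c1) (LK LD1_c14 LD2_c21 LD3_c59) Lrfl Lrfl
theorem f520665 : Led Lsl_at (LP (LK LD1_c14 LD2_c42 LD3_c8)) = (LP (LK LD1_c24 LD2_c0 LD3_c1)) :=
  Lgr Lrot66 (Lpe (f459952 IH) (Lpr_af (f520657 IH) (Lpe (f460619 IH) (Lpn (LP (LK LD1_c24 LD2_c0 LD3_c1))))))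
theorem f88427 : Led Lsl_et (LP (LK LD1_c0 LD2_c23 LD3_c36)) = (LP (LK LD1_c0 LD2_c52 LD3_c9)) :=
  Lre_e IH (LK LD1_c0 LD2_c23 LD3_c36) (LK LD1_c0 LD2_c52 LD3_c9) Lrfl Lrfl
theorem f88428 : Led Lsl_gt (LP (LK LD1_c1 LD2_c50 LD3_c31)) = (LP (LK LD1_c0 LD2_c52 LD3_c9)) :=
  Lre_g IH (LK LD1_c1 LD2_c50 LD3_c31) (LK LD1_c0 LD2_c52 LD3_c9) Lrfl Lrfl
theorem f88429 : Led Lsl_et (LP (LK LD1_c3 LD2_c46 LD3_c54)) = (LP (LK LD1_c1 LD2_c50 LD3_c31)) :=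
  Lre_e IH (LK LD1_c3 LD2_c46 LD3_c54) (LK LD1_c1 LD2_c50 LD3_c31) Lrfl Lrfl
theorem f459923 : Led Lsl_dt (LP (LK LD1_c3 LD2_c46 LD3_c54)) = (LP (LK LD1_c3 LD2_c52 LD3_c51)) :=
  Lgr Lrot56 (Lpr_et (f88429 IH) (Lpr_gt (f88428 IH) (Lpe (f88427 IH) (Lpr_dt (K1.f62805 IH) (Lpr_gt (K3.f88292 IH) (Lpe (K3.f87930 IH) (Lpr_et (K24.f88020 IH) (Lpqs (K24.f459919 IH) (Lpe (K24.f459896 IH) (Lpr_dt (K24.f459897 IH) (Lpr_gt (K29.f459898 IH) (Lpn (LP (LK LD1_c3 LD2_c52 LD3_c51))))))))))))))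
theorem f459932 : Led Lsl_et (LP (LK LD1_c1 LD2_c50 LD3_c31)) = (LP (LK LD1_c3 LD2_c46 LD3_c54)) :=
  Lre_e IH (LK LD1_c1 LD2_c50 LD3_c31) (LK LD1_c3 LD2_c46 LD3_c54) Lrfl Lrfl
theorem f451064 : Led Lsl_dt (LP (LK LD1_c3 LD2_c46 LD3_c53)) = (LP (LK LD1_c1 LD2_c50 LD3_c31)) :=
  Lre_d IH (LK LD1_c3 LD2_c46 LD3_c53) (LK LD1_c1 LD2_c50 LD3_c31) Lrfl Lrfl
theorem f459933 : Led Lsl_et (LP (LK LD1_c7 LD2_c34 LD3_c40)) = (LP (LK LD1_c3 LD2_c46 LD3_c53)) :=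
  Lre_e IH (LK LD1_c7 LD2_c34 LD3_c40) (LK LD1_c3 LD2_c46 LD3_c53) Lrfl Lrfl
theorem f459934 : Led Lsl_et (LP (LK LD1_c3 LD2_c52 LD3_c51)) = (LP (LK LD1_c7 LD2_c47 LD3_c29)) :=
  Lre_e IH (LK LD1_c3 LD2_c52 LD3_c51) (LK LD1_c7 LD2_c47 LD3_c29) Lrfl Lrfl
theorem f459935 : Led Lsl_df (LP (LK LD1_c7 LD2_c34 LD3_c40)) = (LP (LK LD1_c7 LD2_c47 LD3_c29)) :=
  Lgr Lrot70 (Lpr_et (f459933 IH) (Lpr_dt (f451064 IH) (Lpr_et (f459932 IH) (Lpr_dt (f459923 IH) (Lpr_et (f459934 IH) (Lpn (LP (LK LD1_c7 LD2_c47 LD3_c29))))))))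
theorem f459948 : Led Lsl_ft (LP (LK LD1_c7 LD2_c34 LD3_c40)) = (LP (LK LD1_c14 LD2_c17 LD3_c22)) :=
  Lre_f IH (LK LD1_c7 LD2_c34 LD3_c40) (LK LD1_c14 LD2_c17 LD3_c22) Lrfl Lrfl
theorem f459949 : Led Lsl_ft (LP (LK LD1_c14 LD2_c42 LD3_c8)) = (LP (LK LD1_c7 LD2_c47 LD3_c29)) :=
  Lre_f IH (LK LD1_c14 LD2_c42 LD3_c8) (LK LD1_c7 LD2_c47 LD3_c29) Lrfl Lrfl
theorem f459950 : Led Lsl_dt (LP (LK LD1_c14 LD2_c17 LD3_c22)) = (LP (LK LD1_c14 LD2_c42 LD3_c8)) :=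
  Lgr Lrot60 (Lpe (f459948 IH) (Lpr_df (f459935 IH) (Lpe (f459949 IH) (Lpn (LP (LK LD1_c14 LD2_c42 LD3_c8))))))
theorem f460607 : Led Lsl_et (LP (LK LD1_c3 LD2_c29 LD3_c28)) = (LP (LK LD1_c7 LD2_c0 LD3_c36)) :=
  Lre_e IH (LK LD1_c3 LD2_c29 LD3_c28) (LK LD1_c7 LD2_c0 LD3_c36) Lrfl Lrfl
theorem f455509 : Led Lsl_dt (LP (LK LD1_c7 LD2_c0 LD3_c35)) = (LP (LK LD1_c3 LD2_c29 LD3_c28)) :=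
  Lre_d IH (LK LD1_c7 LD2_c0 LD3_c35) (LK LD1_c3 LD2_c29 LD3_c28) Lrfl Lrfl
theorem f460608 : Led Lsl_et (LP (LK LD1_c13 LD2_c17 LD3_c60)) = (LP (LK LD1_c7 LD2_c0 LD3_c35)) :=
  Lre_e IH (LK LD1_c13 LD2_c17 LD3_c60) (LK LD1_c7 LD2_c0 LD3_c35) Lrfl Lrfl
theorem f460610 : Led Lsl_df (LP (LK LD1_c13 LD2_c17 LD3_c60)) = (LP (LK LD1_c14 LD2_c21 LD3_c59)) :=
  Lgr Lrot70 (Lpr_et (f460608 IH) (Lpr_dt (f455509 IH) (Lpr_et (f460607 IH) (Lpr_dt (K29.f460598 IH) (Lpr_et (f460609 IH) (Lpn (LP (LK LD1_c14 LD2_c21 LD3_c59))))))))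
theorem f460618 : Led Lsl_ft (LP (LK LD1_c13 LD2_c17 LD3_c60)) = (LP (LK LD1_c22 LD2_c33 LD3_c49)) :=
  Lre_f IH (LK LD1_c13 LD2_c17 LD3_c60) (LK LD1_c22 LD2_c33 LD3_c49) Lrfl Lrfl
theorem f460620 : Led Lsl_dt (LP (LK LD1_c22 LD2_c33 LD3_c49)) = (LP (LK LD1_c24 LD2_c0 LD3_c1)) :=
  Lgr Lrot60 (Lpe (f460618 IH) (Lpr_df (f460610 IH) (Lpe (f460619 IH) (Lpn (LP (LK LD1_c24 LD2_c0 LD3_c1))))))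
theorem f460631 : Led Lsl_df (LP (LK LD1_c22 LD2_c33 LD3_c49)) = (LP (LK LD1_c24 LD2_c0 LD3_c1)) :=
  Lgr Lrot38 (Lpr_dt (f460620 IH) (Lpn (LP (LK LD1_c24 LD2_c0 LD3_c1))))
theorem f520674 : Led Lsl_af (LP (LK LD1_c14 LD2_c17 LD3_c22)) = (LP (LK LD1_c22 LD2_c33 LD3_c49)) :=
  Lgr Lrot117 (Lpr_dt (f459950 IH) (Lpr_at (f520665 IH) (Lpe (f460631 IH) (Lpn (LP (LK LD1_c22 LD2_c33 LD3_c49))))))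
theorem f520679 : Led Lsl_at (LP (LK LD1_c14 LD2_c17 LD3_c22)) = (LP (LK LD1_c22 LD2_c33 LD3_c49)) :=
  Lgr Lrot100 (Lpr_af (f520674 IH) (Lpn (LP (LK LD1_c22 LD2_c33 LD3_c49))))
theorem f460633 : Led Lsl_ft (LP (LK LD1_c22 LD2_c33 LD3_c49)) = (LP (LK LD1_c13 LD2_c17 LD3_c60)) :=
  Lre_f IH (LK LD1_c22 LD2_c33 LD3_c49) (LK LD1_c13 LD2_c17 LD3_c60) Lrfl Lrfl
theorem f520683 : Led Lsl_af (LP (LK LD1_c7 LD2_c34 LD3_c40)) = (LP (LK LD1_c13 LD2_c17 LD3_c60)) :=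
  Lgr Lrot45 (Lpr_ft (f459948 IH) (Lpr_at (f520679 IH) (Lpr_ft (f460633 IH) (Lpn (LP (LK LD1_c13 LD2_c17 LD3_c60))))))
theorem f459652 : Led Lsl_et (LP (LK LD1_c7 LD2_c0 LD3_c35)) = (LP (LK LD1_c13 LD2_c17 LD3_c60)) :=
  Lre_e IH (LK LD1_c7 LD2_c0 LD3_c35) (LK LD1_c13 LD2_c17 LD3_c60) Lrfl Lrfl
theorem f520685 : Led Lsl_at (LP (LK LD1_c3 LD2_c46 LD3_c53)) = (LP (LK LD1_c7 LD2_c0 LD3_c35)) :=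
  Lgr Lrot80 (Lpe (f459933 IH) (Lpr_af (f520683 IH) (Lpe (f459652 IH) (Lpn (LP (LK LD1_c7 LD2_c0 LD3_c35))))))
theorem f451063 : Led Lsl_dt (LP (LK LD1_c1 LD2_c50 LD3_c31)) = (LP (LK LD1_c3 LD2_c46 LD3_c53)) :=
  Lre_d IH (LK LD1_c1 LD2_c50 LD3_c31) (LK LD1_c3 LD2_c46 LD3_c53) Lrfl Lrfl
theorem f520692 : Led Lsl_af (LP (LK LD1_c1 LD2_c50 LD3_c31)) = (LP (LK LD1_c3 LD2_c29 LD3_c28)) :=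
  Lgr Lrot117 (Lpr_dt (f451063 IH) (Lpr_at (f520685 IH) (Lpr_dt (f455509 IH) (Lpn (LP (LK LD1_c3 LD2_c29 LD3_c28))))))
def v2301 : LQ := Led Lsl_ft (LP (LK LD1_c1 LD2_c41 LD3_c28))
theorem f511957 : Led Lsl_ft (LP (LK LD1_c1 LD2_c41 LD3_c28)) = v2301 :=
  Lrfl
theorem f511961 : Led Lsl_ff (LP (LK LD1_c1 LD2_c41 LD3_c28)) = v2301 :=
  Lgr Lrot3 (Lpr_ft (f511957 IH) (Lpn v2301))
theorem f511966 : Led Lsl_gf (LP (LK LD1_c1 LD2_c50 LD3_c31)) = v2301 :=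
  Lgr Lrot47 (Lpr_gt (f88428 IH) (Lpr_af (K28.f120541 IH) (Lpr_ff (f511961 IH) (Lpn v2301))))
theorem f511963 : Led Lsl_at K29.v837 = v2301 :=
  Lgr Lrot66 (Lpe (K29.f459645 IH) (Lpr_af (K28.f120541 IH) (Lpr_ff (f511961 IH) (Lpn v2301))))
theorem f88377 : Led Lsl_gt (LP (LK LD1_c0 LD2_c52 LD3_c9)) = (LP (LK LD1_c1 LD2_c50 LD3_c30)) :=
  Lre_g IH (LK LD1_c0 LD2_c52 LD3_c9) (LK LD1_c1 LD2_c50 LD3_c30) Lrfl Lrfl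
theorem f511967 : Led Lsl_gt (LP (LK LD1_c1 LD2_c50 LD3_c30)) = v2301 :=
  Lgr Lrot46 (Lpe (f88377 IH) (Lpr_ft (K29.f459645 IH) (Lpr_at (f511963 IH) (Lpn v2301))))
theorem f520703 : Led Lsl_ft (LP (LK LD1_c1 LD2_c50 LD3_c30)) = (LP (LK LD1_c3 LD2_c29 LD3_c28)) :=
  Lgr Lrot2 (Lpr_gt (f511967 IH) (Lpe (f511966 IH) (Lpr_af (f520692 IH) (Lpn (LP (LK LD1_c3 LD2_c29 LD3_c28))))))
theorem f520704 : Led Lsl_ft (LP (LK LD1_c1 LD2_c50 LD3_c30)) = (LP (LK LD1_c3 LD2_c29 LD3_c28)) :=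
  Leop (Lpe (f520703 IH) (Lpn (LP (LK LD1_c1 LD2_c50 LD3_c30))))
theorem seed_178 : LEOK LG_f (LK LD1_c1 LD2_c50 LD3_c30) :=
  Leoe_f (LK LD1_c1 LD2_c50 LD3_c30) (f520704 IH)
def v2370 : LQ := Led Lsl_et (LP (LK LD1_c1 LD2_c43 LD3_c50))
theorem f519310 : Led Lsl_et (LP (LK LD1_c1 LD2_c43 LD3_c50)) = v2370 :=
  Lrfl
theorem f479553 : Led Lsl_dt (LP (LK LD1_c3 LD2_c28 LD3_c6)) = (LP (LK LD1_c6 LD2_c52 LD3_c22)) :=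
  Lgr Lrot42 (Lpr_df (K29.f479551 IH) (Lpn (LP (LK LD1_c6 LD2_c52 LD3_c22))))
theorem f479569 : Led Lsl_ef (LP (LK LD1_c3 LD2_c28 LD3_c6)) = (LP (LK LD1_c1 LD2_c45 LD3_c2)) :=
  Lgr Lrot28 (Lpr_ct (K29.f446453 IH) (Lpr_et (K29.f479565 IH) (Lpr_ct (K29.f5991 IH) (Lpn (LP (LK LD1_c1 LD2_c45 LD3_c2))))))
theorem f519311 : Led Lsl_df (LP (LK LD1_c1 LD2_c45 LD3_c2)) = v2370 :=
  Lgr Lrot70 (Lpe (f479569 IH) (Lpr_dt (f479553 IH) (Lpr_et (K28.f466623 IH) (Lpr_dt (K28.f128109 IH) (Lpr_et (f519310 IH) (Lpn v2370))))))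
def v705 : LQ := Led Lsl_dt (LP (LK LD1_c0 LD2_c49 LD3_c25))
theorem f456861 : Led Lsl_dt (LP (LK LD1_c0 LD2_c49 LD3_c25)) = v705 :=
  Lrfl
theorem f522174 : Led Lsl_ff v2370 = v705 :=
  Lgr Lrot19 (Lpe (f519311 IH) (Lpq (f519816 IH) (Lpe (f456871 IH) (Lpr_dt (f456861 IH) (Lpn v705)))))
theorem f522176 : Led Lsl_ft v2370 = v705 :=
  Lgr Lrot48 (Lpr_ff (f522174 IH) (Lpn v705))
def v2421 : LQ := Led Lsl_dt (LP (LK LD1_c1 LD2_c45 LD3_c1))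
theorem f519609 : Led Lsl_dt (LP (LK LD1_c1 LD2_c45 LD3_c1)) = v2421 :=
  Lrfl
theorem f519610 : Led Lsl_df (LP (LK LD1_c1 LD2_c45 LD3_c1)) = v2421 :=
  Lgr Lrot38 (Lpr_dt (f519609 IH) (Lpn v2421))
theorem f519820 : (LP (LK LD1_c0 LD2_c49 LD3_c25)) = v2420 :=
  Lefun (Lecon (Lfl_ff (f456871 IH)) (f519816 IH)) (f519607 IH)
theorem f522172 : Led Lsl_af v2421 = v705 :=
  Lgr Lrot117 (Lpe (f519610 IH) (Lpr_at (f519605 IH) (Lpq (f519820 IH) (Lpr_dt (f456861 IH) (Lpn v705)))))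
theorem f519832 : Led Lsl_ff (LP (LK LD1_c1 LD2_c45 LD3_c35)) = v2421 :=
  Lgr Lrot19 (Lpr_dt (f156080 IH) (Lpqs (f519817 IH) (Lpe (f519617 IH) (Lpr_dt (f519609 IH) (Lpn v2421)))))
theorem f522177 : Led Lsl_af v2370 = (LP (LK LD1_c1 LD2_c45 LD3_c35)) :=
  Lgr Lrot45 (Lpr_ft (f522176 IH) (Lpe (f522172 IH) (Lpe (f519832 IH) (Lpn (LP (LK LD1_c1 LD2_c45 LD3_c35))))))
theorem f519312 : Led Lsl_ef (LP (LK LD1_c1 LD2_c43 LD3_c50)) = v2370 :=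
  Lgr Lrot88 (Lpr_et (f519310 IH) (Lpn v2370))
def v2369 : LQ := Led Lsl_at (LP (LK LD1_c1 LD2_c43 LD3_c50))
theorem f519303 : Led Lsl_at (LP (LK LD1_c1 LD2_c43 LD3_c50)) = v2369 :=
  Lrfl
def v2350 : LQ := Led Lsl_gt (LP (LK LD1_c1 LD2_c43 LD3_c9))
theorem f514769 : Led Lsl_gt (LP (LK LD1_c1 LD2_c43 LD3_c9)) = v2350 :=
  Lrfl
theorem f10401 : Led Lsl_et (LP (LK LD1_c0 LD2_c48 LD3_c15)) = (LP (LK LD1_c1 LD2_c43 LD3_c9)) :=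
  Lre_e IH (LK LD1_c0 LD2_c48 LD3_c15) (LK LD1_c1 LD2_c43 LD3_c9) Lrfl Lrfl
theorem f156079 : Led Lsl_et (LP (LK LD1_c0 LD2_c49 LD3_c27)) = (LP (LK LD1_c0 LD2_c22 LD3_c11)) :=
  Lre_e IH (LK LD1_c0 LD2_c49 LD3_c27) (LK LD1_c0 LD2_c22 LD3_c11) Lrfl Lrfl
theorem f6654 : Led Lsl_dt (LP (LK LD1_c0 LD2_c49 LD3_c27)) = (LP (LK LD1_c0 LD2_c22 LD3_c9)) :=
  Lre_d IH (LK LD1_c0 LD2_c49 LD3_c27) (LK LD1_c0 LD2_c22 LD3_c9) Lrfl Lrfl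
theorem f514770 : Led Lsl_et (LP (LK LD1_c1 LD2_c45 LD3_c35)) = v2350 :=
  Lgr Lrot122 (Lpr_dt (f156080 IH) (Lpr_gt (K29.f6650 IH) (Lpe (f6654 IH) (Lpr_et (f156079 IH) (Lpr_gt (K7.f10087 IH) (Lpe (K7.f156065 IH) (Lpr_gt (K3.f10435 IH) (Lpe (K0.f10397 IH) (Lpr_et (f10401 IH) (Lpr_gt (f514769 IH) (Lpn v2350)))))))))))
theorem f514772 : Led Lsl_ef (LP (LK LD1_c1 LD2_c45 LD3_c35)) = v2350 :=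
  Lgr Lrot88 (Lpr_et (f514770 IH) (Lpn v2350))
theorem f522178 : v2369 = v2350 :=
  (Llr Lrot80 (Lpe (f519303 IH) (Lpr_ef (f519312 IH) (Lpr_af (f522177 IH) (Lpr_ef (f514772 IH) (Lpn v2350)))))).symm
theorem f519304 : Led Lsl_af (LP (LK LD1_c1 LD2_c43 LD3_c50)) = v2369 :=
  Lgr Lrot0 (Lpr_at (f519303 IH) (Lpn v2369))
def v665 : LQ := Led Lsl_gf (LP (LK LD1_c0 LD2_c48 LD3_c29))
theorem f455852 : Led Lsl_gf (LP (LK LD1_c0 LD2_c48 LD3_c29)) = v665 :=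
  Lrfl
theorem f519308 : Led Lsl_ft v665 = v2369 :=
  Lgr Lrot2 (Lpe (f455852 IH) (Lpr_gt (K28.f128108 IH) (Lpr_af (f519304 IH) (Lpn v2369))))
theorem f519309 : Led Lsl_ff v665 = v2369 :=
  Lgr Lrot3 (Lpr_ft (f519308 IH) (Lpn v2369))
def v2371 : LQ := Led Lsl_ft (LP (LK LD1_c1 LD2_c43 LD3_c50))
theorem f519314 : Led Lsl_ft (LP (LK LD1_c1 LD2_c43 LD3_c50)) = v2371 :=
  Lrfl
theorem f519316 : Led Lsl_ff (LP (LK LD1_c1 LD2_c43 LD3_c50)) = v2371 :=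
  Lgr Lrot3 (Lpr_ft (f519314 IH) (Lpn v2371))
theorem f519317 : Led Lsl_at v665 = v2371 :=
  Lgr Lrot66 (Lpr_ff (f519309 IH) (Lpe (f519303 IH) (Lpr_ff (f519316 IH) (Lpn v2371))))
def v2352 : LQ := Led Lsl_ft (LP (LK LD1_c1 LD2_c43 LD3_c9))
theorem f514905 : Led Lsl_ft (LP (LK LD1_c1 LD2_c43 LD3_c9)) = v2352 :=
  Lrfl
theorem f514906 : Led Lsl_af v666 = v2352 :=
  Lgr Lrot45 (Lpe (f455860 IH) (Lpr_at (f10410 IH) (Lpr_ft (f514905 IH) (Lpn v2352))))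
theorem f514909 : Led Lsl_gt v2350 = v666 :=
  Lgr Lrot46 (Lpe (f514769 IH) (Lpr_ft (f514905 IH) (Lpe (f514906 IH) (Lpn v666))))
theorem f522179 : v2371 = v2351 :=
  (Llr Lrot26 (Lpe (f519317 IH) (Lpr_ff (f519309 IH) (Lpqs (f522178 IH) (Lpr_gt (f514909 IH) (Lpr_gt (f514775 IH) (Lpn v2351))))))).symm
theorem f522180 : Led Lsl_ff (LP (LK LD1_c3 LD2_c34 LD3_c20)) = (LP (LK LD1_c1 LD2_c46 LD3_c48)) :=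
  Lgr Lrot19 (Lpr_dt (K28.f128109 IH) (Lpr_ft (f519314 IH) (Lpqs (f522179 IH) (Lpe (f514780 IH) (Lpn (LP (LK LD1_c1 LD2_c46 LD3_c48)))))))
theorem f522181 : Led Lsl_ft (LP (LK LD1_c1 LD2_c46 LD3_c48)) = (LP (LK LD1_c3 LD2_c34 LD3_c20)) :=
  Leop (Lpr_ff (f522180 IH) (Lpn (LP (LK LD1_c1 LD2_c46 LD3_c48))))
theorem seed_179 : LEOK LG_f (LK LD1_c1 LD2_c46 LD3_c48) :=
  Leoe_f (LK LD1_c1 LD2_c46 LD3_c48) (f522181 IH)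
def v2465 : LQ := Led Lsl_et (LP (LK LD1_c1 LD2_c45 LD3_c56))
theorem f522452 : Led Lsl_et (LP (LK LD1_c1 LD2_c45 LD3_c56)) = v2465 :=
  Lrfl
theorem f522456 : Led Lsl_ef (LP (LK LD1_c1 LD2_c45 LD3_c56)) = v2465 :=
  Lgr Lrot88 (Lpr_et (f522452 IH) (Lpn v2465))
theorem f491673 : Led Lsl_dt (LP (LK LD1_c1 LD2_c45 LD3_c56)) = K29.v1134 :=
  Lgr Lrot42 (Lpr_df (K29.f491669 IH) (Lpn K29.v1134))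
def v2395 : LQ := Led Lsl_ft (LP (LK LD1_c1 LD2_c44 LD3_c18))
theorem f519468 : Led Lsl_ft (LP (LK LD1_c1 LD2_c44 LD3_c18)) = v2395 :=
  Lrfl
theorem f519471 : Led Lsl_ff (LP (LK LD1_c1 LD2_c44 LD3_c18)) = v2395 :=
  Lgr Lrot3 (Lpr_ft (f519468 IH) (Lpn v2395))
theorem f456250 : Led Lsl_et (LP (LK LD1_c1 LD2_c44 LD3_c18)) = (LP (LK LD1_c0 LD2_c48 LD3_c41)) :=
  Lre_e IH (LK LD1_c1 LD2_c44 LD3_c18) (LK LD1_c0 LD2_c48 LD3_c41) Lrfl Lrfl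
def v680 : LQ := Led Lsl_ft (LP (LK LD1_c0 LD2_c48 LD3_c41))
theorem f456743 : Led Lsl_ft (LP (LK LD1_c0 LD2_c48 LD3_c41)) = v680 :=
  Lrfl
theorem f478700 : (LP (LK LD1_c0 LD2_c48 LD3_c39)) = v680 :=
  Lefun (Lecon (Lfl_ff (K29.f455919 IH)) (K29.f478691 IH)) (f456743 IH)
theorem f491655 : Led Lsl_ft K29.v672 = K29.v1133 :=
  Lgr Lrot48 (Lpr_ff (K29.f491650 IH) (Lpn K29.v1133))
theorem f519473 : Led Lsl_et K29.v1133 = v2395 :=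
  Lgr Lrot69 (Lpe (f491655 IH) (Lpe (K29.f455902 IH) (Lpqs (f478700 IH) (Lpe (f456743 IH) (Lpe (f456250 IH) (Lpr_ff (f519471 IH) (Lpn v2395)))))))
theorem f522459 : Led Lsl_dt v2395 = v2465 :=
  Lgr Lrot77 (Lpe (f519473 IH) (Lpe (K29.f491646 IH) (Lpr_ef (K29.f491666 IH) (Lpe (f491673 IH) (Lpr_ef (f522456 IH) (Lpn v2465))))))
theorem f456249 : Led Lsl_et (LP (LK LD1_c0 LD2_c48 LD3_c41)) = (LP (LK LD1_c1 LD2_c44 LD3_c18)) :=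
  Lre_e IH (LK LD1_c0 LD2_c48 LD3_c41) (LK LD1_c1 LD2_c44 LD3_c18) Lrfl Lrfl
theorem f456745 : Led Lsl_ff (LP (LK LD1_c0 LD2_c48 LD3_c41)) = v680 :=
  Lgr Lrot3 (Lpr_ft (f456743 IH) (Lpn v680))
theorem f519470 : Led Lsl_ef K29.v1133 = v2395 :=
  Lgr Lrot21 (Lpe (K29.f491650 IH) (Lpe (K29.f455904 IH) (Lpqs (f478700 IH) (Lpe (f456745 IH) (Lpr_et (f456249 IH) (Lpr_ft (f519468 IH) (Lpn v2395)))))))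
def v2319 : LQ := Led Lsl_dt (LP (LK LD1_c1 LD2_c42 LD3_c10))
theorem f514615 : Led Lsl_dt (LP (LK LD1_c1 LD2_c42 LD3_c10)) = v2319 :=
  Lrfl
theorem f522461 : Led Lsl_gt v2319 = v2465 :=
  Lgr Lrot139 (Lpe (f514615 IH) (Lpe (K28.f18945 IH) (Lpr_ef (K28.f18178 IH) (Lpr_dt (K28.f15822 IH) (Lpe (K2.f16719 IH) (Lpe (K29.f19149 IH) (Lpr_et (f19150 IH) (Lpr_gf (K29.f491651 IH) (Lpr_ef (f519470 IH) (Lpr_dt (f522459 IH) (Lpn v2465)))))))))))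
theorem f514610 : Led Lsl_et (LP (LK LD1_c1 LD2_c42 LD3_c10)) = (LP (LK LD1_c3 LD2_c31 LD3_c19)) :=
  Lre_e IH (LK LD1_c1 LD2_c42 LD3_c10) (LK LD1_c3 LD2_c31 LD3_c19) Lrfl Lrfl
theorem f511387 : Led Lsl_ef (LP (LK LD1_c1 LD2_c39 LD3_c51)) = v2272 :=
  Lgr Lrot88 (Lpr_et (f511384 IH) (Lpn v2272))
theorem f511391 : Led Lsl_dt (LP (LK LD1_c3 LD2_c27 LD3_c41)) = v2272 :=
  Lgr Lrot77 (Lpe (f19150 IH) (Lpe (K28.f91989 IH) (Lpe (K2.f17105 IH) (Lpe (K24.f90875 IH) (Lpr_ef (f511387 IH) (Lpn v2272))))))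
theorem f14610 : Led Lsl_et (LP (LK LD1_c0 LD2_c20 LD3_c50)) = (LP (LK LD1_c0 LD2_c46 LD3_c25)) :=
  Lre_e IH (LK LD1_c0 LD2_c20 LD3_c50) (LK LD1_c0 LD2_c46 LD3_c25) Lrfl Lrfl
theorem f484023 : Led Lsl_ef (LP (LK LD1_c1 LD2_c46 LD3_c29)) = v594 :=
  Lgr Lrot21 (Lpr_ft (K29.f484015 IH) (Lpr_et (K29.f19161 IH) (Lpe (K3.f98657 IH) (Lpr_et (f14610 IH) (Lpr_ft (f455088 IH) (Lpn v594))))))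
theorem f485763 : Led Lsl_et (LP (LK LD1_c1 LD2_c46 LD3_c29)) = v594 :=
  Lgr Lrot87 (Lpr_ef (f484023 IH) (Lpn v594))
theorem f94314 : Led Lsl_dt (LP (LK LD1_c3 LD2_c25 LD3_c52)) = (LP (LK LD1_c1 LD2_c39 LD3_c31)) :=
  Lre_d IH (LK LD1_c3 LD2_c25 LD3_c52) (LK LD1_c1 LD2_c39 LD3_c31) Lrfl Lrfl
theorem f511463 : Led Lsl_gf (LP (LK LD1_c3 LD2_c25 LD3_c52)) = v2272 :=
  Lgr Lrot138 (Lpr_dt (f94314 IH) (Lpe (K29.f485764 IH) (Lpe (K29.f467616 IH) (Lpr_et (f485763 IH) (Lpr_gt (f510464 IH) (Lpq (f511460 IH) (Lpe (K32.f456428 IH) (Lpr_dt (K32.f511451 IH) (Lpe (K32.f511448 IH) (Lpe (K24.f90875 IH) (Lpr_et (f511384 IH) (Lpn v2272))))))))))))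
theorem f94304 : Led Lsl_dt (LP (LK LD1_c1 LD2_c39 LD3_c31)) = (LP (LK LD1_c3 LD2_c25 LD3_c52)) :=
  Lre_d IH (LK LD1_c1 LD2_c39 LD3_c31) (LK LD1_c3 LD2_c25 LD3_c52) Lrfl Lrfl
theorem f522463 : Led Lsl_gf (LP (LK LD1_c3 LD2_c31 LD3_c19)) = (LP (LK LD1_c3 LD2_c25 LD3_c53)) :=
  Lgr Lrot141 (Lpe (f514610 IH) (Lpr_dt (f514615 IH) (Lpr_gt (f522461 IH) (Lpe (f522459 IH) (Lpe (f519470 IH) (Lpe (K29.f491651 IH) (Lpr_dt (f511391 IH) (Lpe (f511463 IH) (Lpe (f94304 IH) (Lpr_et (K29.f485778 IH) (Lpn (LP (LK LD1_c3 LD2_c25 LD3_c53)))))))))))))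
theorem f522464 : Led Lsl_gt (LP (LK LD1_c3 LD2_c25 LD3_c53)) = (LP (LK LD1_c3 LD2_c31 LD3_c19)) :=
  Leop (Lpr_gf (f522463 IH) (Lpn (LP (LK LD1_c3 LD2_c25 LD3_c53))))
theorem seed_180 : LEOK LG_g (LK LD1_c3 LD2_c25 LD3_c53) :=
  Leoe_g (LK LD1_c3 LD2_c25 LD3_c53) (f522464 IH)
def v2472 : LQ := Led Lsl_dt (LP (LK LD1_c1 LD2_c46 LD3_c8))
theorem f522496 : Led Lsl_dt (LP (LK LD1_c1 LD2_c46 LD3_c8)) = v2472 :=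
  Lrfl
theorem f522499 : Led Lsl_ff (LP (LK LD1_c1 LD2_c46 LD3_c27)) = v2472 :=
  Lgr Lrot19 (Lpr_dt (K3.f4425 IH) (Lpr_ft (K29.f456990 IH) (Lpq (f517135 IH) (Lpr_dt (f522496 IH) (Lpn v2472)))))
theorem f522503 : Led Lsl_ft (LP (LK LD1_c1 LD2_c46 LD3_c27)) = v2472 :=
  Lgr Lrot48 (Lpr_ff (f522499 IH) (Lpn v2472))
def v2347 : LQ := Led Lsl_ft (LP (LK LD1_c1 LD2_c43 LD3_c7))
theorem f514760 : Led Lsl_ft (LP (LK LD1_c1 LD2_c43 LD3_c7)) = v2347 :=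
  Lrfl
theorem f514762 : Led Lsl_ff (LP (LK LD1_c1 LD2_c43 LD3_c7)) = v2347 :=
  Lgr Lrot3 (Lpr_ft (f514760 IH) (Lpn v2347))
theorem f515026 : (LP (LK LD1_c0 LD2_c48 LD3_c28)) = v2347 :=
  Lefun (Lecon (Lfl_ff (f455843 IH)) (f515022 IH)) (f514760 IH)
theorem f10812 : Led Lsl_et (LP (LK LD1_c1 LD2_c43 LD3_c49)) = (LP (LK LD1_c0 LD2_c48 LD3_c28)) :=
  Lre_e IH (LK LD1_c1 LD2_c43 LD3_c49) (LK LD1_c0 LD2_c48 LD3_c28) Lrfl Lrfl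
theorem f455842 : Led Lsl_ft (LP (LK LD1_c3 LD2_c34 LD3_c17)) = (LP (LK LD1_c1 LD2_c43 LD3_c49)) :=
  Lre_f IH (LK LD1_c3 LD2_c34 LD3_c17) (LK LD1_c1 LD2_c43 LD3_c49) Lrfl Lrfl
theorem f522504 : Led Lsl_ef (LP (LK LD1_c3 LD2_c34 LD3_c17)) = v2472 :=
  Lgr Lrot21 (Lpr_ft (f455842 IH) (Lpr_et (f10812 IH) (Lpqs (f515026 IH) (Lpe (f514762 IH) (Lpe (K28.f97292 IH) (Lpr_ft (f522503 IH) (Lpn v2472)))))))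
theorem f92508 : Led Lsl_et (LP (LK LD1_c3 LD2_c37 LD3_c36)) = (LP (LK LD1_c1 LD2_c45 LD3_c38)) :=
  Lre_e IH (LK LD1_c3 LD2_c37 LD3_c36) (LK LD1_c1 LD2_c45 LD3_c38) Lrfl Lrfl
theorem f522507 : Led Lsl_dt (LP (LK LD1_c3 LD2_c34 LD3_c17)) = (LP (LK LD1_c3 LD2_c37 LD3_c36)) :=
  Lgr Lrot77 (Lpr_ef (f522504 IH) (Lpe (f522496 IH) (Lpr_ef (K2.f92503 IH) (Lpe (K29.f10849 IH) (Lpe (f92508 IH) (Lpn (LP (LK LD1_c3 LD2_c37 LD3_c36))))))))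
theorem f522508 : Led Lsl_dt (LP (LK LD1_c3 LD2_c34 LD3_c17)) = (LP (LK LD1_c3 LD2_c37 LD3_c36)) :=
  Leop (Lpe (f522507 IH) (Lpn (LP (LK LD1_c3 LD2_c34 LD3_c17))))
theorem seed_181 : LEOK LG_d (LK LD1_c3 LD2_c34 LD3_c17) :=
  Leoe_d (LK LD1_c3 LD2_c34 LD3_c17) (f522508 IH)
theorem f522498 : Led Lsl_df (LP (LK LD1_c1 LD2_c46 LD3_c8)) = v2472 :=
  Lgr Lrot38 (Lpr_dt (f522496 IH) (Lpn v2472))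
theorem f94429 : Led Lsl_dt (LP (LK LD1_c0 LD2_c48 LD3_c2)) = (LP (LK LD1_c1 LD2_c42 LD3_c55)) :=
  Lre_d IH (LK LD1_c0 LD2_c48 LD3_c2) (LK LD1_c1 LD2_c42 LD3_c55) Lrfl Lrfl
def v2342 : LQ := Led Lsl_gf (LP (LK LD1_c1 LD2_c42 LD3_c55))
theorem f514737 : Led Lsl_gf (LP (LK LD1_c1 LD2_c42 LD3_c55)) = v2342 :=
  Lrfl
def v908 : LQ := Led Lsl_et (LP (LK LD1_c0 LD2_c53 LD3_c61))
theorem f490386 : Led Lsl_et (LP (LK LD1_c0 LD2_c53 LD3_c61)) = v908 :=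
  Lrfl
theorem f490389 : Led Lsl_ef (LP (LK LD1_c0 LD2_c53 LD3_c61)) = v908 :=
  Lgr Lrot88 (Lpr_et (f490386 IH) (Lpn v908))
theorem f514738 : Led Lsl_dt v908 = v2342 :=
  Lgr Lrot136 (Lpe (f490389 IH) (Lpq (K28.f465133 IH) (Lpe (K28.f456850 IH) (Lpe (K29.f17473 IH) (Lpr_dt (K0.f17463 IH) (Lpe (K0.f5242 IH) (Lpe (K2.f393 IH) (Lpe (K2.f94412 IH) (Lpe (K3.f94428 IH) (Lpr_dt (f94429 IH) (Lpr_gf (f514737 IH) (Lpn v2342))))))))))))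
theorem f522509 : Led Lsl_gt (LP (LK LD1_c3 LD2_c34 LD3_c17)) = v908 :=
  Lgr Lrot137 (Lpr_ef (f522504 IH) (Lpe (f522498 IH) (Lpe (K2.f4388 IH) (Lpe (K2.f4085 IH) (Lpr_et (K2.f4382 IH) (Lpe (K2.f94412 IH) (Lpe (K3.f94428 IH) (Lpr_dt (f94429 IH) (Lpr_gf (f514737 IH) (Lpe (f514738 IH) (Lpn v908)))))))))))
theorem f522506 : Led Lsl_ct (LP (LK LD1_c3 LD2_c34 LD3_c17)) = (LP (LK LD1_c7 LD2_c9 LD3_c43)) :=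
  Lre_c IH (LK LD1_c3 LD2_c34 LD3_c17) (LK LD1_c7 LD2_c9 LD3_c43) Lrfl Lrfl
theorem f98566 : Led Lsl_ct (LP (LK LD1_c1 LD2_c42 LD3_c53)) = (LP (LK LD1_c0 LD2_c48 LD3_c2)) :=
  Lre_c IH (LK LD1_c1 LD2_c42 LD3_c53) (LK LD1_c0 LD2_c48 LD3_c2) Lrfl Lrfl
theorem f98565 : Led Lsl_dt (LP (LK LD1_c3 LD2_c32 LD3_c23)) = (LP (LK LD1_c1 LD2_c42 LD3_c53)) :=
  Lre_d IH (LK LD1_c3 LD2_c32 LD3_c23) (LK LD1_c1 LD2_c42 LD3_c53) Lrfl Lrfl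
theorem f522511 : Led Lsl_gt (LP (LK LD1_c7 LD2_c9 LD3_c43)) = (LP (LK LD1_c7 LD2_c13 LD3_c53)) :=
  Lgr Lrot94 (Lpe (f522506 IH) (Lpr_gt (f522509 IH) (Lpr_dt (f514738 IH) (Lpe (f514737 IH) (Lpr_dt (K24.f98567 IH) (Lpe (f98566 IH) (Lpe (f98565 IH) (Lpe (K28.f98548 IH) (Lpr_df (K28.f98550 IH) (Lpn (LP (LK LD1_c7 LD2_c13 LD3_c53))))))))))))
theorem f522512 : Led Lsl_gt (LP (LK LD1_c7 LD2_c9 LD3_c43)) = (LP (LK LD1_c7 LD2_c13 LD3_c53)) :=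
  Leop (Lpe (f522511 IH) (Lpn (LP (LK LD1_c7 LD2_c9 LD3_c43))))
theorem seed_182 : LEOK LG_g (LK LD1_c7 LD2_c9 LD3_c43) :=
  Leoe_g (LK LD1_c7 LD2_c9 LD3_c43) (f522512 IH)
theorem f128148 : Led Lsl_et (LP (LK LD1_c0 LD2_c48 LD3_c28)) = (LP (LK LD1_c1 LD2_c43 LD3_c49)) :=
  Lre_e IH (LK LD1_c0 LD2_c48 LD3_c28) (LK LD1_c1 LD2_c43 LD3_c49) Lrfl Lrfl
theorem f455845 : Led Lsl_ft (LP (LK LD1_c1 LD2_c43 LD3_c49)) = (LP (LK LD1_c3 LD2_c34 LD3_c17)) :=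
  Lre_f IH (LK LD1_c1 LD2_c43 LD3_c49) (LK LD1_c3 LD2_c34 LD3_c17) Lrfl Lrfl
theorem f522502 : Led Lsl_et (LP (LK LD1_c3 LD2_c34 LD3_c17)) = v2472 :=
  Lgr Lrot69 (Lpe (f455845 IH) (Lpe (f128148 IH) (Lpqs (f515026 IH) (Lpe (f514760 IH) (Lpe (K3.f97286 IH) (Lpr_ff (f522499 IH) (Lpn v2472)))))))
def v2285 : LQ := Led Lsl_et (LP (LK LD1_c1 LD2_c40 LD3_c38))
theorem f511691 : Led Lsl_et (LP (LK LD1_c1 LD2_c40 LD3_c38)) = v2285 :=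
  Lrfl
theorem f446454 : Led Lsl_et (LP (LK LD1_c1 LD2_c40 LD3_c39)) = (LP (LK LD1_c0 LD2_c46 LD3_c45)) :=
  Lre_e IH (LK LD1_c1 LD2_c40 LD3_c39) (LK LD1_c0 LD2_c46 LD3_c45) Lrfl Lrfl
theorem f446484 : Led Lsl_et (LP (LK LD1_c1 LD2_c40 LD3_c43)) = (LP (LK LD1_c0 LD2_c46 LD3_c48)) :=
  Lre_e IH (LK LD1_c1 LD2_c40 LD3_c43) (LK LD1_c0 LD2_c46 LD3_c48) Lrfl Lrfl
theorem f511693 : Led Lsl_df (LP (LK LD1_c1 LD2_c40 LD3_c43)) = v2285 :=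
  Lgr Lrot70 (Lpr_et (f446484 IH) (Lpe (K29.f446430 IH) (Lpr_et (f446454 IH) (Lpr_dt (K24.f446483 IH) (Lpr_et (f511691 IH) (Lpn v2285))))))
theorem f522500 : Led Lsl_gf v2285 = v2472 :=
  Lgr Lrot143 (Lpe (f511693 IH) (Lpe (K29.f455209 IH) (Lpe (K29.f455210 IH) (Lpe (f464223 IH) (Lpe (f5310 IH) (Lpe (K28.f5274 IH) (Lpe (K2.f4084 IH) (Lpr_gt (K2.f4388 IH) (Lpr_dt (f522496 IH) (Lpn v2472))))))))))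
theorem f97302 : Led Lsl_et (LP (LK LD1_c0 LD2_c49 LD3_c55)) = (LP (LK LD1_c1 LD2_c46 LD3_c24)) :=
  Lre_e IH (LK LD1_c0 LD2_c49 LD3_c55) (LK LD1_c1 LD2_c46 LD3_c24) Lrfl Lrfl
def v2447 : LQ := Led Lsl_gf (LP (LK LD1_c1 LD2_c45 LD3_c35))
theorem f522343 : Led Lsl_gf (LP (LK LD1_c1 LD2_c45 LD3_c35)) = v2447 :=
  Lrfl
theorem f456860 : Led Lsl_et (LP (LK LD1_c0 LD2_c49 LD3_c26)) = (LP (LK LD1_c1 LD2_c45 LD3_c36)) :=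
  Lre_e IH (LK LD1_c0 LD2_c49 LD3_c26) (LK LD1_c1 LD2_c45 LD3_c36) Lrfl Lrfl
theorem f511694 : Led Lsl_ef (LP (LK LD1_c1 LD2_c40 LD3_c38)) = v2285 :=
  Lgr Lrot88 (Lpr_et (f511691 IH) (Lpn v2285))
theorem f108313 : Led Lsl_af (LP (LK LD1_c0 LD2_c49 LD3_c10)) = (LP (LK LD1_c0 LD2_c48 LD3_c2)) :=
  Lgr Lrot68 (Lpr_ct (K24.f17873 IH) (Lpr_at (K3.f108308 IH) (Lpr_ct (f98566 IH) (Lpn (LP (LK LD1_c0 LD2_c48 LD3_c2))))))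
theorem f17827 : Led Lsl_gt (LP (LK LD1_c1 LD2_c44 LD3_c58)) = (LP (LK LD1_c0 LD2_c49 LD3_c10)) :=
  Lre_g IH (LK LD1_c1 LD2_c44 LD3_c58) (LK LD1_c0 LD2_c49 LD3_c10) Lrfl Lrfl
theorem f108476 : Led Lsl_gf (LP (LK LD1_c1 LD2_c44 LD3_c58)) = (LP (LK LD1_c1 LD2_c42 LD3_c56)) :=
  Lgr Lrot47 (Lpr_gt (f17827 IH) (Lpr_af (f108313 IH) (Lpe (K3.f108230 IH) (Lpn (LP (LK LD1_c1 LD2_c42 LD3_c56))))))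
def v2417 : LQ := Led Lsl_et (LP (LK LD1_c1 LD2_c44 LD3_c58))
theorem f519584 : Led Lsl_et (LP (LK LD1_c1 LD2_c44 LD3_c58)) = v2417 :=
  Lrfl
theorem f519586 : Led Lsl_ef (LP (LK LD1_c1 LD2_c44 LD3_c58)) = v2417 :=
  Lgr Lrot88 (Lpr_et (f519584 IH) (Lpn v2417))
theorem f522345 : Led Lsl_dt v2417 = v2447 :=
  Lgr Lrot136 (Lpe (f519586 IH) (Lpr_gf (f108476 IH) (Lpe (K3.f108231 IH) (Lpr_dt (K24.f456846 IH) (Lpq (K24.f461944 IH) (Lpe (K24.f446455 IH) (Lpe (K28.f446448 IH) (Lpe (K29.f477584 IH) (Lpe (f456860 IH) (Lpr_dt (K29.f10818 IH) (Lpr_gf (f522343 IH) (Lpn v2447))))))))))))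
theorem f522346 : Led Lsl_gt (LP (LK LD1_c1 LD2_c46 LD3_c24)) = v2417 :=
  Lgr Lrot137 (Lpe (f97302 IH) (Lpr_dt (K29.f4446 IH) (Lpr_gf (K29.f482675 IH) (Lpr_df (f511693 IH) (Lpe (f511694 IH) (Lpe (K29.f477584 IH) (Lpe (f456860 IH) (Lpr_dt (K29.f10818 IH) (Lpr_gf (f522343 IH) (Lpe (f522345 IH) (Lpn v2417)))))))))))
def v2416 : LQ := Led Lsl_dt (LP (LK LD1_c1 LD2_c44 LD3_c58))
theorem f519575 : Led Lsl_dt (LP (LK LD1_c1 LD2_c44 LD3_c58)) = v2416 :=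
  Lrfl
theorem f522525 : Led Lsl_gt v2416 = (LP (LK LD1_c3 LD2_c37 LD3_c36)) :=
  Lgr Lrot112 (Lpe (f519575 IH) (Lpr_et (f519584 IH) (Lpe (f522346 IH) (Lpe (f97302 IH) (Lpr_dt (K29.f4446 IH) (Lpr_gf (K29.f482675 IH) (Lpr_df (f511693 IH) (Lpr_gf (f522500 IH) (Lpe (f522502 IH) (Lpr_dt (f522507 IH) (Lpn (LP (LK LD1_c3 LD2_c37 LD3_c36)))))))))))))
theorem f108487 : Led Lsl_dt (LP (LK LD1_c3 LD2_c36 LD3_c9)) = (LP (LK LD1_c7 LD2_c12 LD3_c40)) :=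
  Lre_d IH (LK LD1_c3 LD2_c36 LD3_c9) (LK LD1_c7 LD2_c12 LD3_c40) Lrfl Lrfl
theorem f522521 : Led Lsl_df (LP (LK LD1_c3 LD2_c34 LD3_c17)) = (LP (LK LD1_c3 LD2_c37 LD3_c36)) :=
  Lgr Lrot38 (Lpr_dt (f522507 IH) (Lpn (LP (LK LD1_c3 LD2_c37 LD3_c36))))
theorem f522513 : Led Lsl_ct (LP (LK LD1_c7 LD2_c9 LD3_c43)) = (LP (LK LD1_c3 LD2_c34 LD3_c17)) :=
  Lre_c IH (LK LD1_c7 LD2_c9 LD3_c43) (LK LD1_c3 LD2_c34 LD3_c17) Lrfl Lrfl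
theorem f522516 : Led Lsl_dt (LP (LK LD1_c13 LD2_c33 LD3_c57)) = (LP (LK LD1_c7 LD2_c9 LD3_c43)) :=
  Lre_d IH (LK LD1_c13 LD2_c33 LD3_c57) (LK LD1_c7 LD2_c9 LD3_c43) Lrfl Lrfl
theorem f522527 : Led Lsl_gt (LP (LK LD1_c7 LD2_c12 LD3_c40)) = (LP (LK LD1_c13 LD2_c33 LD3_c57)) :=
  Lgr Lrot49 (Lpe (f108487 IH) (Lpr_gf (K24.f108485 IH) (Lpe (K3.f108238 IH) (Lpe (f108476 IH) (Lpr_dt (f519575 IH) (Lpr_gt (f522525 IH) (Lpe (f522521 IH) (Lpe (f522513 IH) (Lpe (f522516 IH) (Lpn (LP (LK LD1_c13 LD2_c33 LD3_c57))))))))))))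
theorem f522528 : Led Lsl_gt (LP (LK LD1_c7 LD2_c12 LD3_c40)) = (LP (LK LD1_c13 LD2_c33 LD3_c57)) :=
  Leop (Lpe (f522527 IH) (Lpn (LP (LK LD1_c7 LD2_c12 LD3_c40))))
theorem seed_183 : LEOK LG_g (LK LD1_c7 LD2_c12 LD3_c40) :=
  Leoe_g (LK LD1_c7 LD2_c12 LD3_c40) (f522528 IH)
def v2473 : LQ := Led Lsl_at (LP (LK LD1_c1 LD2_c46 LD3_c11))
theorem f522535 : Led Lsl_at (LP (LK LD1_c1 LD2_c46 LD3_c11)) = v2473 :=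
  Lrfl
theorem f522539 : Led Lsl_gt (LP (LK LD1_c3 LD2_c39 LD3_c20)) = v2473 :=
  Lgr Lrot46 (Lpe (K28.f92296 IH) (Lpr_ft (K4.f121848 IH) (Lpr_at (f522535 IH) (Lpn v2473))))
theorem f522541 : Led Lsl_ct (LP (LK LD1_c1 LD2_c50 LD3_c24)) = v2473 :=
  Lgr Lrot10 (Lpr_bt (K32.f419427 IH) (Lpr_gt (K32.f419778 IH) (Lpe (K32.f419785 IH) (Lpr_gt (K32.f419793 IH) (Lpe (K7.f103644 IH) (Lpr_bt (K4.f103626 IH) (Lpe (K24.f155568 IH) (Lpr_bf (K28.f155574 IH) (Lpr_ct (K28.f94565 IH) (Lpr_gt (f522539 IH) (Lpn v2473)))))))))))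
theorem f96532 : Led Lsl_dt (LP (LK LD1_c3 LD2_c36 LD3_c57)) = (LP (LK LD1_c1 LD2_c45 LD3_c18)) :=
  Lre_d IH (LK LD1_c3 LD2_c36 LD3_c57) (LK LD1_c1 LD2_c45 LD3_c18) Lrfl Lrfl
theorem f93111 : Led Lsl_gt (LP (LK LD1_c7 LD2_c14 LD3_c7)) = (LP (LK LD1_c3 LD2_c36 LD3_c57)) :=
  Lre_g IH (LK LD1_c7 LD2_c14 LD3_c7) (LK LD1_c3 LD2_c36 LD3_c57) Lrfl Lrfl
theorem f94519 : Led Lsl_et (LP (LK LD1_c6 LD2_c59 LD3_c45)) = (LP (LK LD1_c13 LD2_c16 LD3_c28)) :=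
  Lre_e IH (LK LD1_c6 LD2_c59 LD3_c45) (LK LD1_c13 LD2_c16 LD3_c28) Lrfl Lrfl
theorem f94521 : Led Lsl_cf (LP (LK LD1_c6 LD2_c59 LD3_c45)) = (LP (LK LD1_c3 LD2_c39 LD3_c21)) :=
  Lgr Lrot39 (Lpr_et (f94519 IH) (Lpr_ct (K32.f94513 IH) (Lpr_et (K32.f94520 IH) (Lpn (LP (LK LD1_c3 LD2_c39 LD3_c21))))))
theorem f497696 : Led Lsl_af (LP (LK LD1_c3 LD2_c39 LD3_c21)) = (LP (LK LD1_c3 LD2_c38 LD3_c24)) :=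
  Lgr Lrot68 (Lpe (f94521 IH) (Lpr_at (K32.f497690 IH) (Lpr_ct (K6.f108909 IH) (Lpn (LP (LK LD1_c3 LD2_c38 LD3_c24))))))
theorem f522540 : Led Lsl_gf (LP (LK LD1_c3 LD2_c39 LD3_c21)) = v2473 :=
  Lgr Lrot76 (Lpr_af (f497696 IH) (Lpe (K32.f497686 IH) (Lpr_gt (f522539 IH) (Lpn v2473))))
theorem f522542 : Led Lsl_df (LP (LK LD1_c7 LD2_c14 LD3_c7)) = (LP (LK LD1_c3 LD2_c39 LD3_c21)) :=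
  Lgr Lrot16 (Lpr_gt (f93111 IH) (Lpr_dt (f96532 IH) (Lpr_ct (K3.f96468 IH) (Lpe (K4.f120257 IH) (Lpr_gf (K4.f120254 IH) (Lpr_df (K3.f109002 IH) (Lpe (K28.f419435 IH) (Lpr_ct (f522541 IH) (Lpe (f522540 IH) (Lpn (LP (LK LD1_c3 LD2_c39 LD3_c21))))))))))))
theorem f522543 : Led Lsl_dt (LP (LK LD1_c3 LD2_c39 LD3_c21)) = (LP (LK LD1_c7 LD2_c14 LD3_c7)) :=
  Leop (Lpr_df (f522542 IH) (Lpn (LP (LK LD1_c3 LD2_c39 LD3_c21))))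
theorem seed_184 : LEOK LG_d (LK LD1_c3 LD2_c39 LD3_c21) :=
  Leoe_d (LK LD1_c3 LD2_c39 LD3_c21) (f522543 IH)
def v2482 : LQ := Led Lsl_dt (LP (LK LD1_c1 LD2_c46 LD3_c28))
theorem f522615 : Led Lsl_dt (LP (LK LD1_c1 LD2_c46 LD3_c28)) = v2482 :=
  Lrfl
theorem f4452 : Led Lsl_et (LP (LK LD1_c1 LD2_c46 LD3_c28)) = (LP (LK LD1_c0 LD2_c49 LD3_c56)) :=
  Lre_e IH (LK LD1_c1 LD2_c46 LD3_c28) (LK LD1_c0 LD2_c49 LD3_c56) Lrfl Lrfl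
theorem f160104 : Led Lsl_et (LP (LK LD1_c0 LD2_c21 LD3_c38)) = (LP (LK LD1_c0 LD2_c48 LD3_c19)) :=
  Lre_e IH (LK LD1_c0 LD2_c21 LD3_c38) (LK LD1_c0 LD2_c48 LD3_c19) Lrfl Lrfl
theorem f522619 : Led Lsl_gt v2355 = v2482 :=
  Lgr Lrot139 (Lpe (f514939 IH) (Lpe (K29.f11677 IH) (Lpe (f160104 IH) (Lpe (K3.f98496 IH) (Lpe (K3.f337 IH) (Lpe (K0.f378 IH) (Lpr_et (K3.f4443 IH) (Lpe (K3.f4444 IH) (Lpe (f4452 IH) (Lpr_dt (f522615 IH) (Lpn v2482)))))))))))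
theorem f470385 : Led Lsl_et (LP (LK LD1_c1 LD2_c43 LD3_c20)) = (LP (LK LD1_c3 LD2_c33 LD3_c14)) :=
  Lre_e IH (LK LD1_c1 LD2_c43 LD3_c20) (LK LD1_c3 LD2_c33 LD3_c14) Lrfl Lrfl
def v2480 : LQ := Led Lsl_et (LP (LK LD1_c1 LD2_c46 LD3_c23))
theorem f522594 : Led Lsl_et (LP (LK LD1_c1 LD2_c46 LD3_c23)) = v2480 :=
  Lrfl
def v2349 : LQ := Led Lsl_et (LP (LK LD1_c1 LD2_c43 LD3_c8))
theorem f514767 : Led Lsl_et (LP (LK LD1_c1 LD2_c43 LD3_c8)) = v2349 :=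
  Lrfl
theorem f514768 : Led Lsl_ef (LP (LK LD1_c1 LD2_c43 LD3_c8)) = v2349 :=
  Lgr Lrot88 (Lpr_et (f514767 IH) (Lpn v2349))
theorem f522597 : Led Lsl_ff v2349 = v2480 :=
  Lgr Lrot72 (Lpe (f514768 IH) (Lpqs (f515029 IH) (Lpe (f455848 IH) (Lpr_et (f92498 IH) (Lpe (f515313 IH) (Lpr_et (f522594 IH) (Lpn v2480)))))))
theorem f514763 : Led Lsl_at (LP (LK LD1_c1 LD2_c43 LD3_c8)) = v2347 :=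
  Lgr Lrot66 (Lpr_ff (f514754 IH) (Lpe (f514751 IH) (Lpr_ff (f514762 IH) (Lpn v2347))))
theorem f519278 : Led Lsl_af v2349 = (LP (LK LD1_c1 LD2_c43 LD3_c49)) :=
  Lgr Lrot50 (Lpe (f514768 IH) (Lpr_at (f514763 IH) (Lpq (f515026 IH) (Lpr_et (f128148 IH) (Lpn (LP (LK LD1_c1 LD2_c43 LD3_c49)))))))
theorem f519279 : Led Lsl_at v2349 = (LP (LK LD1_c1 LD2_c43 LD3_c49)) :=
  Lgr Lrot100 (Lpr_af (f519278 IH) (Lpn (LP (LK LD1_c1 LD2_c43 LD3_c49))))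
def v2367 : LQ := Led Lsl_gf (LP (LK LD1_c1 LD2_c43 LD3_c49))
theorem f519299 : Led Lsl_gf (LP (LK LD1_c1 LD2_c43 LD3_c49)) = v2367 :=
  Lrfl
theorem f522600 : Led Lsl_gf v2367 = v2480 :=
  Lgr Lrot47 (Lpe (f519299 IH) (Lpe (f519279 IH) (Lpr_ff (f522597 IH) (Lpn v2480))))
theorem f522621 : (LP (LK LD1_c3 LD2_c33 LD3_c14)) = v2367 :=
  (Llr Lrot122 (Lpe (f470385 IH) (Lpr_dt (f514939 IH) (Lpr_gt (f522619 IH) (Lpe (f522615 IH) (Lpr_et (f4452 IH) (Lpr_gt (K3.f4444 IH) (Lpe (K3.f4027 IH) (Lpr_gt (K3.f4445 IH) (Lpe (K29.f4409 IH) (Lpr_et (f522594 IH) (Lpe (f522600 IH) (Lpn v2367))))))))))))).symm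
theorem f522622 : Led Lsl_gt (LP (LK LD1_c3 LD2_c33 LD3_c14)) = (LP (LK LD1_c1 LD2_c43 LD3_c49)) :=
  Leop (Lpr_gf (f519299 IH) (Lpq (f522621 IH) (Lpn (LP (LK LD1_c3 LD2_c33 LD3_c14)))))
theorem seed_185 : LEOK LG_g (LK LD1_c3 LD2_c33 LD3_c14) :=
  Leoe_g (LK LD1_c3 LD2_c33 LD3_c14) (f522622 IH)
theorem f470469 : Led Lsl_ct (LP (LK LD1_c7 LD2_c7 LD3_c23)) = (LP (LK LD1_c3 LD2_c33 LD3_c14)) :=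
  Lre_c IH (LK LD1_c7 LD2_c7 LD3_c23) (LK LD1_c3 LD2_c33 LD3_c14) Lrfl Lrfl
def v2368 : LQ := Led Lsl_dt (LP (LK LD1_c1 LD2_c43 LD3_c49))
theorem f519300 : Led Lsl_dt (LP (LK LD1_c1 LD2_c43 LD3_c49)) = v2368 :=
  Lrfl
theorem f457472 : Led Lsl_dt (LP (LK LD1_c3 LD2_c24 LD3_c60)) = (LP (LK LD1_c6 LD2_c52 LD3_c24)) :=
  Lre_d IH (LK LD1_c3 LD2_c24 LD3_c60) (LK LD1_c6 LD2_c52 LD3_c24) Lrfl Lrfl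
theorem f93161 : Led Lsl_dt (LP (LK LD1_c7 LD2_c6 LD3_c18)) = (LP (LK LD1_c3 LD2_c32 LD3_c43)) :=
  Lre_d IH (LK LD1_c7 LD2_c6 LD3_c18) (LK LD1_c3 LD2_c32 LD3_c43) Lrfl Lrfl
theorem f510694 : Led Lsl_at (LP (LK LD1_c6 LD2_c52 LD3_c24)) = (LP (LK LD1_c7 LD2_c6 LD3_c18)) :=
  Lgr Lrot51 (Lpe (f457472 IH) (Lpr_af (K32.f510682 IH) (Lpe (f93161 IH) (Lpn (LP (LK LD1_c7 LD2_c6 LD3_c18))))))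
theorem f480601 : Led Lsl_gt (LP (LK LD1_c13 LD2_c4 LD3_c13)) = (LP (LK LD1_c7 LD2_c6 LD3_c18)) :=
  Lgr Lrot49 (Lpr_df (K29.f477610 IH) (Lpe (K29.f455207 IH) (Lpe (K29.f446480 IH) (Lpr_gt (K29.f446452 IH) (Lpr_dt (f479553 IH) (Lpr_gt (K28.f466613 IH) (Lpe (K28.f128110 IH) (Lpe (K29.f93163 IH) (Lpe (f93161 IH) (Lpn (LP (LK LD1_c7 LD2_c6 LD3_c18))))))))))))
theorem f510700 : Led Lsl_ff (LP (LK LD1_c6 LD2_c52 LD3_c24)) = (LP (LK LD1_c6 LD2_c52 LD3_c20)) :=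
  Lgr Lrot52 (Lpr_at (f510694 IH) (Lpe (f480601 IH) (Lpe (K29.f458546 IH) (Lpn (LP (LK LD1_c6 LD2_c52 LD3_c20))))))
theorem f510708 : Led Lsl_ft (LP (LK LD1_c6 LD2_c52 LD3_c24)) = (LP (LK LD1_c6 LD2_c52 LD3_c20)) :=
  Lgr Lrot48 (Lpr_ff (f510700 IH) (Lpn (LP (LK LD1_c6 LD2_c52 LD3_c20))))
theorem f457467 : Led Lsl_gt (LP (LK LD1_c6 LD2_c52 LD3_c24)) = (LP (LK LD1_c13 LD2_c4 LD3_c17)) :=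
  Lre_g IH (LK LD1_c6 LD2_c52 LD3_c24) (LK LD1_c13 LD2_c4 LD3_c17) Lrfl Lrfl
theorem f17691 : Led Lsl_gt (LP (LK LD1_c1 LD2_c44 LD3_c41)) = (LP (LK LD1_c3 LD2_c35 LD3_c37)) :=
  Lre_g IH (LK LD1_c1 LD2_c44 LD3_c41) (LK LD1_c3 LD2_c35 LD3_c37) Lrfl Lrfl
theorem f468871 : Led Lsl_ct (LP (LK LD1_c3 LD2_c35 LD3_c37)) = (LP (LK LD1_c3 LD2_c32 LD3_c40)) :=
  Lgr Lrot152 (Lpe (f17691 IH) (Lpr_df (K28.f106121 IH) (Lpr_gt (K28.f5750 IH) (Lpr_ct (K28.f468867 IH) (Lpe (K28.f466603 IH) (Lpr_ct (K28.f455406 IH) (Lpqs (K24.f461944 IH) (Lpe (K24.f456846 IH) (Lpe (K3.f108237 IH) (Lpr_gf (K8.f108635 IH) (Lpn (LP (LK LD1_c3 LD2_c32 LD3_c40)))))))))))))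
theorem f461959 : Led Lsl_df (LP (LK LD1_c3 LD2_c53 LD3_c9)) = (LP (LK LD1_c7 LD2_c6 LD3_c14)) :=
  Lgr Lrot38 (Lpr_dt (K28.f461957 IH) (Lpn (LP (LK LD1_c7 LD2_c6 LD3_c14))))
theorem f488189 : Led Lsl_gt (LP (LK LD1_c3 LD2_c35 LD3_c37)) = (LP (LK LD1_c3 LD2_c30 LD3_c50)) :=
  Lgr Lrot180 (Lpr_ct (f468871 IH) (Lpe (K8.f108635 IH) (Lpr_dt (K28.f108245 IH) (Lpr_gt (K28.f441608 IH) (Lpe (f461959 IH) (Lpr_ct (K28.f129890 IH) (Lpe (K28.f129804 IH) (Lpe (K28.f88019 IH) (Lpe (K29.f466483 IH) (Lpn (LP (LK LD1_c3 LD2_c30 LD3_c50))))))))))))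
theorem f488229 : Led Lsl_ft (LP (LK LD1_c3 LD2_c35 LD3_c37)) = (LP (LK LD1_c3 LD2_c30 LD3_c51)) :=
  Lgr Lrot2 (Lpr_gt (f488189 IH) (Lpr_gt (K28.f64670 IH) (Lpe (f455554 IH) (Lpn (LP (LK LD1_c3 LD2_c30 LD3_c51))))))
theorem f488235 : Led Lsl_ff (LP (LK LD1_c3 LD2_c35 LD3_c37)) = (LP (LK LD1_c3 LD2_c30 LD3_c51)) :=
  Lgr Lrot3 (Lpr_ft (f488229 IH) (Lpn (LP (LK LD1_c3 LD2_c30 LD3_c51))))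
theorem f17692 : Led Lsl_dt (LP (LK LD1_c3 LD2_c35 LD3_c37)) = (LP (LK LD1_c7 LD2_c11 LD3_c58)) :=
  Lre_d IH (LK LD1_c3 LD2_c35 LD3_c37) (LK LD1_c7 LD2_c11 LD3_c58) Lrfl Lrfl
theorem f488237 : Led Lsl_dt (LP (LK LD1_c7 LD2_c3 LD3_c37)) = (LP (LK LD1_c3 LD2_c30 LD3_c51)) :=
  Lre_d IH (LK LD1_c7 LD2_c3 LD3_c37) (LK LD1_c3 LD2_c30 LD3_c51) Lrfl Lrfl
theorem f488238 : Led Lsl_ft (LP (LK LD1_c7 LD2_c11 LD3_c58)) = (LP (LK LD1_c7 LD2_c3 LD3_c37)) :=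
  Lgr Lrot54 (Lpe (f17692 IH) (Lpr_ff (f488235 IH) (Lpe (f488237 IH) (Lpn (LP (LK LD1_c7 LD2_c3 LD3_c37))))))
theorem f106233 : Led Lsl_dt (LP (LK LD1_c7 LD2_c11 LD3_c58)) = (LP (LK LD1_c3 LD2_c35 LD3_c37)) :=
  Lre_d IH (LK LD1_c7 LD2_c11 LD3_c58) (LK LD1_c3 LD2_c35 LD3_c37) Lrfl Lrfl
theorem f92440 : Led Lsl_ct (LP (LK LD1_c7 LD2_c6 LD3_c11)) = (LP (LK LD1_c13 LD2_c27 LD3_c41)) :=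
  Lre_c IH (LK LD1_c7 LD2_c6 LD3_c11) (LK LD1_c13 LD2_c27 LD3_c41) Lrfl Lrfl
theorem f466576 : Led Lsl_at (LP (LK LD1_c7 LD2_c3 LD3_c37)) = (LP (LK LD1_c3 LD2_c30 LD3_c53)) :=
  Lre_a IH (LK LD1_c7 LD2_c3 LD3_c37) (LK LD1_c3 LD2_c30 LD3_c53) Lrfl Lrfl
theorem f464958 : Led Lsl_ct (LP (LK LD1_c13 LD2_c30 LD3_c14)) = (LP (LK LD1_c7 LD2_c7 LD3_c45)) :=
  Lre_c IH (LK LD1_c13 LD2_c30 LD3_c14) (LK LD1_c7 LD2_c7 LD3_c45) Lrfl Lrfl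
theorem f488244 : Led Lsl_dt (LP (LK LD1_c13 LD2_c27 LD3_c41)) = (LP (LK LD1_c13 LD2_c30 LD3_c14)) :=
  Lgr Lrot140 (Lpe (f92440 IH) (Lpe (K29.f11614 IH) (Lpe (f468871 IH) (Lpe (f106233 IH) (Lpr_ft (f488238 IH) (Lpr_at (f466576 IH) (Lpe (K28.f466473 IH) (Lpr_df (K28.f466608 IH) (Lpe (f464958 IH) (Lpn (LP (LK LD1_c13 LD2_c30 LD3_c14))))))))))))
theorem f464220 : Led Lsl_gf (LP (LK LD1_c1 LD2_c46 LD3_c12)) = (LP (LK LD1_c3 LD2_c24 LD3_c60)) :=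
  Lgr Lrot104 (Lpe (K28.f18029 IH) (Lpr_df (K28.f106121 IH) (Lpe (K28.f17483 IH) (Lpr_gf (K28.f464215 IH) (Lpe (K28.f15773 IH) (Lpe (K24.f446456 IH) (Lpq (K24.f461932 IH) (Lpe (K28.f455832 IH) (Lpr_gt (K24.f456825 IH) (Lpqs (K24.f461786 IH) (Lpr_ct (K28.f15791 IH) (Lpn (LP (LK LD1_c3 LD2_c24 LD3_c60))))))))))))))
theorem f457469 : Led Lsl_ct (LP (LK LD1_c13 LD2_c4 LD3_c17)) = (LP (LK LD1_c22 LD2_c14 LD3_c38)) :=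
  Lre_c IH (LK LD1_c13 LD2_c4 LD3_c17) (LK LD1_c22 LD2_c14 LD3_c38) Lrfl Lrfl
theorem f11574 : Led Lsl_dt (LP (LK LD1_c7 LD2_c6 LD3_c11)) = (LP (LK LD1_c3 LD2_c32 LD3_c40)) :=
  Lre_d IH (LK LD1_c7 LD2_c6 LD3_c11) (LK LD1_c3 LD2_c32 LD3_c40) Lrfl Lrfl
theorem f479558 : Led Lsl_ct (LP (LK LD1_c13 LD2_c27 LD3_c41)) = (LP (LK LD1_c7 LD2_c6 LD3_c11)) :=
  Lre_c IH (LK LD1_c13 LD2_c27 LD3_c41) (LK LD1_c7 LD2_c6 LD3_c11) Lrfl Lrfl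
theorem f488191 : Led Lsl_gt (LP (LK LD1_c22 LD2_c14 LD3_c38)) = (LP (LK LD1_c13 LD2_c27 LD3_c41)) :=
  Lgr Lrot150 (Lpe (f457469 IH) (Lpe (f457467 IH) (Lpe (f457472 IH) (Lpe (f464220 IH) (Lpe (K28.f18029 IH) (Lpr_gt (f17691 IH) (Lpr_ct (f468871 IH) (Lpe (f11574 IH) (Lpe (f479558 IH) (Lpn (LP (LK LD1_c13 LD2_c27 LD3_c41))))))))))))
theorem f488193 : Led Lsl_ct (LP (LK LD1_c22 LD2_c14 LD3_c38)) = (LP (LK LD1_c13 LD2_c4 LD3_c17)) :=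
  Lre_c IH (LK LD1_c22 LD2_c14 LD3_c38) (LK LD1_c13 LD2_c4 LD3_c17) Lrfl Lrfl
theorem f464957 : Led Lsl_ct (LP (LK LD1_c7 LD2_c7 LD3_c45)) = (LP (LK LD1_c13 LD2_c30 LD3_c14)) :=
  Lre_c IH (LK LD1_c7 LD2_c7 LD3_c45) (LK LD1_c13 LD2_c30 LD3_c14) Lrfl Lrfl
theorem f468090 : Led Lsl_gf (LP (LK LD1_c7 LD2_c14 LD3_c18)) = (LP (LK LD1_c13 LD2_c30 LD3_c14)) :=
  Lgr Lrot104 (Lpr_ct (K28.f17488 IH) (Lpe (K28.f10682 IH) (Lpr_cf (K28.f17475 IH) (Lpr_gf (K28.f468084 IH) (Lpe (K28.f458599 IH) (Lpr_gf (K28.f458592 IH) (Lpe (K28.f458597 IH) (Lpe (K28.f464955 IH) (Lpr_ct (f464957 IH) (Lpn (LP (LK LD1_c13 LD2_c30 LD3_c14))))))))))))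
theorem f470663 : Led Lsl_dt (LP (LK LD1_c7 LD2_c12 LD3_c22)) = (LP (LK LD1_c3 LD2_c35 LD3_c52)) :=
  Lre_d IH (LK LD1_c7 LD2_c12 LD3_c22) (LK LD1_c3 LD2_c35 LD3_c52) Lrfl Lrfl
theorem f488248 : Led Lsl_gt (LP (LK LD1_c13 LD2_c4 LD3_c17)) = (LP (LK LD1_c7 LD2_c12 LD3_c22)) :=
  Lgr Lrot94 (Lpe (f488193 IH) (Lpr_gt (f488191 IH) (Lpr_dt (f488244 IH) (Lpe (f468090 IH) (Lpr_dt (K28.f17486 IH) (Lpe (K29.f439592 IH) (Lpe (K29.f208974 IH) (Lpe (K29.f470633 IH) (Lpe (f470663 IH) (Lpn (LP (LK LD1_c7 LD2_c12 LD3_c22))))))))))))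
theorem f510716 : Led Lsl_af (LP (LK LD1_c7 LD2_c12 LD3_c22)) = (LP (LK LD1_c6 LD2_c52 LD3_c20)) :=
  Lgr Lrot31 (Lpe (f488248 IH) (Lpe (f457467 IH) (Lpr_ft (f510708 IH) (Lpn (LP (LK LD1_c6 LD2_c52 LD3_c20))))))
theorem f510696 : Led Lsl_af (LP (LK LD1_c6 LD2_c52 LD3_c24)) = (LP (LK LD1_c7 LD2_c6 LD3_c18)) :=
  Lgr Lrot0 (Lpr_at (f510694 IH) (Lpn (LP (LK LD1_c7 LD2_c6 LD3_c18))))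
theorem f510724 : Led Lsl_ft (LP (LK LD1_c7 LD2_c12 LD3_c22)) = (LP (LK LD1_c7 LD2_c6 LD3_c18)) :=
  Lgr Lrot101 (Lpr_af (f510716 IH) (Lpe (f510708 IH) (Lpr_af (f510696 IH) (Lpn (LP (LK LD1_c7 LD2_c6 LD3_c18))))))
theorem f106224 : Led Lsl_ct (LP (LK LD1_c3 LD2_c35 LD3_c53)) = (LP (LK LD1_c7 LD2_c12 LD3_c24)) :=
  Lre_c IH (LK LD1_c3 LD2_c35 LD3_c53) (LK LD1_c7 LD2_c12 LD3_c24) Lrfl Lrfl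
theorem f464217 : Led Lsl_gt (LP (LK LD1_c3 LD2_c36 LD3_c60)) = (LP (LK LD1_c7 LD2_c14 LD3_c16)) :=
  Lre_g IH (LK LD1_c3 LD2_c36 LD3_c60) (LK LD1_c7 LD2_c14 LD3_c16) Lrfl Lrfl
theorem f106225 : Led Lsl_ct (LP (LK LD1_c7 LD2_c12 LD3_c24)) = (LP (LK LD1_c3 LD2_c35 LD3_c53)) :=
  Lre_c IH (LK LD1_c7 LD2_c12 LD3_c24) (LK LD1_c3 LD2_c35 LD3_c53) Lrfl Lrfl
theorem f464218 : Led Lsl_dt (LP (LK LD1_c7 LD2_c14 LD3_c16)) = (LP (LK LD1_c7 LD2_c12 LD3_c24)) :=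
  Lgr Lrot105 (Lpe (f464217 IH) (Lpe (K28.f10682 IH) (Lpr_gf (K28.f464215 IH) (Lpe (K28.f15773 IH) (Lpr_gt (K28.f455489 IH) (Lpq (K28.f461930 IH) (Lpe (K24.f106204 IH) (Lpr_gt (K29.f106222 IH) (Lpr_dt (K32.f106223 IH) (Lpe (f106225 IH) (Lpn (LP (LK LD1_c7 LD2_c12 LD3_c24)))))))))))))
theorem f489724 : Led Lsl_df (LP (LK LD1_c7 LD2_c14 LD3_c16)) = (LP (LK LD1_c7 LD2_c12 LD3_c24)) :=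
  Lgr Lrot38 (Lpr_dt (f464218 IH) (Lpn (LP (LK LD1_c7 LD2_c12 LD3_c24))))
theorem f441569 : Led Lsl_gt (LP (LK LD1_c7 LD2_c13 LD3_c42)) = (LP (LK LD1_c13 LD2_c40 LD3_c55)) :=
  Lre_g IH (LK LD1_c7 LD2_c13 LD3_c42) (LK LD1_c13 LD2_c40 LD3_c55) Lrfl Lrfl
theorem f464921 : Led Lsl_af (LP (LK LD1_c13 LD2_c14 LD3_c25)) = (LP (LK LD1_c13 LD2_c13 LD3_c59)) :=
  Lgr Lrot45 (Lpr_ft (K28.f463777 IH) (Lpe (K28.f440159 IH) (Lpr_ft (K28.f464910 IH) (Lpn (LP (LK LD1_c13 LD2_c13 LD3_c59))))))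
theorem f464925 : Led Lsl_gt (LP (LK LD1_c13 LD2_c40 LD3_c55)) = (LP (LK LD1_c13 LD2_c14 LD3_c25)) :=
  Lgr Lrot46 (Lpe (f441569 IH) (Lpr_ft (K28.f464910 IH) (Lpe (f464921 IH) (Lpn (LP (LK LD1_c13 LD2_c14 LD3_c25))))))
theorem f464927 : Led Lsl_cf (LP (LK LD1_c13 LD2_c40 LD3_c55)) = (LP (LK LD1_c7 LD2_c14 LD3_c16)) :=
  Lgr Lrot169 (Lpr_gt (f464925 IH) (Lpr_ct (K28.f455358 IH) (Lpe (K28.f455359 IH) (Lpe (K28.f446487 IH) (Lpe (K24.f455354 IH) (Lpe (K24.f455160 IH) (Lpe (K29.f464196 IH) (Lpe (K8.f17487 IH) (Lpr_gt (f464217 IH) (Lpn (LP (LK LD1_c7 LD2_c14 LD3_c16))))))))))))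
theorem f457470 : Led Lsl_ct (LP (LK LD1_c13 LD2_c4 LD3_c18)) = (LP (LK LD1_c6 LD2_c52 LD3_c24)) :=
  Lre_c IH (LK LD1_c13 LD2_c4 LD3_c18) (LK LD1_c6 LD2_c52 LD3_c24) Lrfl Lrfl
theorem f510734 : Led Lsl_dt (LP (LK LD1_c13 LD2_c40 LD3_c55)) = (LP (LK LD1_c13 LD2_c4 LD3_c18)) :=
  Lgr Lrot120 (Lpr_cf (f464927 IH) (Lpr_df (f489724 IH) (Lpe (f106224 IH) (Lpe (K32.f106223 IH) (Lpe (K29.f441627 IH) (Lpe (f470663 IH) (Lpr_ft (f510724 IH) (Lpe (f510696 IH) (Lpe (f457470 IH) (Lpn (LP (LK LD1_c13 LD2_c4 LD3_c18))))))))))))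
theorem f16740 : Led Lsl_dt (LP (LK LD1_c6 LD2_c52 LD3_c24)) = (LP (LK LD1_c3 LD2_c24 LD3_c60)) :=
  Lre_d IH (LK LD1_c6 LD2_c52 LD3_c24) (LK LD1_c3 LD2_c24 LD3_c60) Lrfl Lrfl
theorem f510740 : Led Lsl_at (LP (LK LD1_c1 LD2_c43 LD3_c2)) = (LP (LK LD1_c1 LD2_c38 LD3_c56)) :=
  Lgr Lrot33 (Lpr_ff (K32.f510499 IH) (Lpq (K32.f510660 IH) (Lpr_dt (K32.f106223 IH) (Lpr_ct (f106224 IH) (Lpe (f489724 IH) (Lpe (f464927 IH) (Lpr_dt (f510734 IH) (Lpr_ct (f457470 IH) (Lpr_dt (f16740 IH) (Lpr_ct (K28.f16739 IH) (Lpn (LP (LK LD1_c1 LD2_c38 LD3_c56)))))))))))))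
theorem f510757 : Led Lsl_ff (LP (LK LD1_c1 LD2_c38 LD3_c53)) = (LP (LK LD1_c1 LD2_c38 LD3_c56)) :=
  Lgr Lrot30 (Lpr_at (K32.f510482 IH) (Lpe (K32.f510499 IH) (Lpr_at (f510740 IH) (Lpn (LP (LK LD1_c1 LD2_c38 LD3_c56))))))
theorem f510759 : Led Lsl_ft (LP (LK LD1_c3 LD2_c24 LD3_c58)) = (LP (LK LD1_c3 LD2_c24 LD3_c61)) :=
  Lgr Lrot54 (Lpe (K29.f458527 IH) (Lpr_ff (f510757 IH) (Lpe (K24.f446495 IH) (Lpn (LP (LK LD1_c3 LD2_c24 LD3_c61))))))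
theorem f11043 : Led Lsl_ct (LP (LK LD1_c6 LD2_c52 LD3_c23)) = (LP (LK LD1_c3 LD2_c24 LD3_c58)) :=
  Lre_c IH (LK LD1_c6 LD2_c52 LD3_c23) (LK LD1_c3 LD2_c24 LD3_c58) Lrfl Lrfl
theorem f510765 : Led Lsl_ff (LP (LK LD1_c6 LD2_c52 LD3_c23)) = (LP (LK LD1_c6 LD2_c52 LD3_c25)) :=
  Lgr Lrot23 (Lpr_ct (f11043 IH) (Lpr_ft (f510759 IH) (Lpr_ct (K29.f446501 IH) (Lpn (LP (LK LD1_c6 LD2_c52 LD3_c25))))))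
theorem f510679 : Led Lsl_dt (LP (LK LD1_c13 LD2_c40 LD3_c56)) = (LP (LK LD1_c13 LD2_c38 LD3_c46)) :=
  Lgr Lrot42 (Lpr_df (K32.f510675 IH) (Lpn (LP (LK LD1_c13 LD2_c38 LD3_c46))))
theorem f470691 : Led Lsl_ct (LP (LK LD1_c13 LD2_c38 LD3_c46)) = (LP (LK LD1_c7 LD2_c12 LD3_c22)) :=
  Lre_c IH (LK LD1_c13 LD2_c38 LD3_c46) (LK LD1_c7 LD2_c12 LD3_c22) Lrfl Lrfl
theorem f510773 : Led Lsl_at (LP (LK LD1_c6 LD2_c52 LD3_c23)) = (LP (LK LD1_c7 LD2_c12 LD3_c24)) :=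
  Lgr Lrot33 (Lpr_ff (f510765 IH) (Lpe (K29.f464331 IH) (Lpe (K32.f470791 IH) (Lpr_dt (f510679 IH) (Lpr_ct (f470691 IH) (Lpr_dt (f470663 IH) (Lpr_ct (K29.f441627 IH) (Lpr_dt (K32.f106223 IH) (Lpr_ct (f106224 IH) (Lpn (LP (LK LD1_c7 LD2_c12 LD3_c24))))))))))))
theorem f10510 : Led Lsl_gt (LP (LK LD1_c3 LD2_c33 LD3_c40)) = (LP (LK LD1_c7 LD2_c8 LD3_c11)) :=
  Lre_g IH (LK LD1_c3 LD2_c33 LD3_c40) (LK LD1_c7 LD2_c8 LD3_c11) Lrfl Lrfl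
theorem f464175 : Led Lsl_df (LP (LK LD1_c6 LD2_c52 LD3_c23)) = (LP (LK LD1_c7 LD2_c8 LD3_c11)) :=
  Lgr Lrot84 (Lpe (K29.f11044 IH) (Lpe (K29.f458527 IH) (Lpq (K28.f464172 IH) (Lpe (K28.f455822 IH) (Lpr_df (K28.f128099 IH) (Lpr_gf (K28.f455827 IH) (Lpq (K28.f461955 IH) (Lpe (K24.f446458 IH) (Lpr_gt (K28.f462037 IH) (Lpr_dt (K8.f10509 IH) (Lpr_gt (f10510 IH) (Lpn (LP (LK LD1_c7 LD2_c8 LD3_c11))))))))))))))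
theorem f510777 : Led Lsl_af (LP (LK LD1_c7 LD2_c8 LD3_c11)) = (LP (LK LD1_c7 LD2_c14 LD3_c16)) :=
  Lgr Lrot117 (Lpe (f464175 IH) (Lpr_at (f510773 IH) (Lpe (f489724 IH) (Lpn (LP (LK LD1_c7 LD2_c14 LD3_c16))))))
theorem f510785 : Led Lsl_ft (LP (LK LD1_c7 LD2_c8 LD3_c12)) = (LP (LK LD1_c7 LD2_c14 LD3_c16)) :=
  Lgr Lrot2 (Lpr_gt (K28.f108036 IH) (Lpr_gt (f10510 IH) (Lpr_af (f510777 IH) (Lpn (LP (LK LD1_c7 LD2_c14 LD3_c16))))))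
theorem f510797 : Led Lsl_ff (LP (LK LD1_c7 LD2_c8 LD3_c12)) = (LP (LK LD1_c7 LD2_c14 LD3_c16)) :=
  Lgr Lrot3 (Lpr_ft (f510785 IH) (Lpn (LP (LK LD1_c7 LD2_c14 LD3_c16))))
theorem f465644 : Led Lsl_ff (LP (LK LD1_c6 LD2_c58 LD3_c15)) = (LP (LK LD1_c3 LD2_c36 LD3_c60)) :=
  Lgr Lrot3 (Lpr_ft (K28.f465639 IH) (Lpn (LP (LK LD1_c3 LD2_c36 LD3_c60))))
theorem f470627 : Led Lsl_af (LP (LK LD1_c6 LD2_c58 LD3_c32)) = (LP (LK LD1_c6 LD2_c58 LD3_c15)) :=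
  Lgr Lrot45 (Lpr_ft (K28.f470611 IH) (Lpe (K8.f160343 IH) (Lpe (f465644 IH) (Lpn (LP (LK LD1_c6 LD2_c58 LD3_c15))))))
theorem f472503 : Led Lsl_gf (LP (LK LD1_c6 LD2_c58 LD3_c32)) = (LP (LK LD1_c7 LD2_c14 LD3_c16)) :=
  Lgr Lrot76 (Lpr_af (f470627 IH) (Lpr_ff (f465644 IH) (Lpr_gt (f464217 IH) (Lpn (LP (LK LD1_c7 LD2_c14 LD3_c16))))))
theorem f510803 : Led Lsl_at (LP (LK LD1_c7 LD2_c8 LD3_c12)) = (LP (LK LD1_c7 LD2_c14 LD3_c17)) :=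
  Lgr Lrot26 (Lpr_ff (f510797 IH) (Lpe (f472503 IH) (Lpr_gt (K28.f470629 IH) (Lpn (LP (LK LD1_c7 LD2_c14 LD3_c17))))))
theorem f510779 : Led Lsl_at (LP (LK LD1_c7 LD2_c8 LD3_c11)) = (LP (LK LD1_c7 LD2_c14 LD3_c16)) :=
  Lgr Lrot100 (Lpr_af (f510777 IH) (Lpn (LP (LK LD1_c7 LD2_c14 LD3_c16))))
theorem f510811 : Led Lsl_ff (LP (LK LD1_c7 LD2_c8 LD3_c11)) = (LP (LK LD1_c7 LD2_c14 LD3_c17)) :=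
  Lgr Lrot30 (Lpr_at (f510779 IH) (Lpe (f510797 IH) (Lpr_at (f510803 IH) (Lpn (LP (LK LD1_c7 LD2_c14 LD3_c17))))))
theorem f464181 : Led Lsl_et (LP (LK LD1_c7 LD2_c8 LD3_c11)) = (LP (LK LD1_c13 LD2_c31 LD3_c0)) :=
  Lre_e IH (LK LD1_c7 LD2_c8 LD3_c11) (LK LD1_c13 LD2_c31 LD3_c0) Lrfl Lrfl
theorem f493685 : Led Lsl_ft (LP (LK LD1_c13 LD2_c31 LD3_c0)) = (LP (LK LD1_c22 LD2_c52 LD3_c0)) :=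
  Lre_f IH (LK LD1_c13 LD2_c31 LD3_c0) (LK LD1_c22 LD2_c52 LD3_c0) Lrfl Lrfl
theorem f470793 : Led Lsl_et (LP (LK LD1_c13 LD2_c41 LD3_c48)) = (LP (LK LD1_c7 LD2_c14 LD3_c17)) :=
  Lre_e IH (LK LD1_c13 LD2_c41 LD3_c48) (LK LD1_c7 LD2_c14 LD3_c17) Lrfl Lrfl
theorem f470815 : Led Lsl_ft (LP (LK LD1_c23 LD2_c7 LD3_c19)) = (LP (LK LD1_c13 LD2_c41 LD3_c48)) :=
  Lre_f IH (LK LD1_c23 LD2_c7 LD3_c19) (LK LD1_c13 LD2_c41 LD3_c48) Lrfl Lrfl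
theorem f510817 : Led Lsl_et (LP (LK LD1_c22 LD2_c52 LD3_c0)) = (LP (LK LD1_c23 LD2_c7 LD3_c19)) :=
  Lgr Lrot69 (Lpe (f493685 IH) (Lpe (f464181 IH) (Lpr_ff (f510811 IH) (Lpe (f470793 IH) (Lpe (f470815 IH) (Lpn (LP (LK LD1_c23 LD2_c7 LD3_c19))))))))
theorem f510821 : Led Lsl_ef (LP (LK LD1_c22 LD2_c52 LD3_c0)) = (LP (LK LD1_c23 LD2_c7 LD3_c19)) :=
  Lgr Lrot88 (Lpr_et (f510817 IH) (Lpn (LP (LK LD1_c23 LD2_c7 LD3_c19))))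
theorem f493650 : Led Lsl_bt (LP (LK LD1_c7 LD2_c17 LD3_c50)) = (LP (LK LD1_c6 LD2_c52 LD3_c23)) :=
  Lgr Lrot128 (Lpe (K30.f483093 IH) (Lpr_bf (K30.f493605 IH) (Lpe (K28.f458345 IH) (Lpe (K29.f11042 IH) (Lpe (f11043 IH) (Lpn (LP (LK LD1_c6 LD2_c52 LD3_c23))))))))
theorem f464177 : Led Lsl_dt (LP (LK LD1_c6 LD2_c52 LD3_c23)) = (LP (LK LD1_c7 LD2_c8 LD3_c11)) :=
  Lgr Lrot42 (Lpr_df (f464175 IH) (Lpn (LP (LK LD1_c7 LD2_c8 LD3_c11))))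
theorem f493665 : Led Lsl_bf (LP (LK LD1_c7 LD2_c14 LD3_c23)) = (LP (LK LD1_c7 LD2_c8 LD3_c11)) :=
  Lgr Lrot93 (Lpe (K30.f481564 IH) (Lpr_bt (f493650 IH) (Lpr_dt (f464177 IH) (Lpn (LP (LK LD1_c7 LD2_c8 LD3_c11))))))
theorem f471451 : Led Lsl_et (LP (LK LD1_c7 LD2_c14 LD3_c23)) = (LP (LK LD1_c13 LD2_c41 LD3_c57)) :=
  Lre_e IH (LK LD1_c7 LD2_c14 LD3_c23) (LK LD1_c13 LD2_c41 LD3_c57) Lrfl Lrfl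
theorem f464179 : Led Lsl_et (LP (LK LD1_c13 LD2_c31 LD3_c0)) = (LP (LK LD1_c7 LD2_c8 LD3_c11)) :=
  Lre_e IH (LK LD1_c13 LD2_c31 LD3_c0) (LK LD1_c7 LD2_c8 LD3_c11) Lrfl Lrfl
theorem f493673 : Led Lsl_bt (LP (LK LD1_c13 LD2_c41 LD3_c57)) = (LP (LK LD1_c13 LD2_c31 LD3_c0)) :=
  Lgr Lrot119 (Lpe (f471451 IH) (Lpr_bf (f493665 IH) (Lpe (f464179 IH) (Lpn (LP (LK LD1_c13 LD2_c31 LD3_c0))))))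
theorem f471452 : Led Lsl_ft (LP (LK LD1_c23 LD2_c7 LD3_c26)) = (LP (LK LD1_c13 LD2_c41 LD3_c57)) :=
  Lre_f IH (LK LD1_c23 LD2_c7 LD3_c26) (LK LD1_c13 LD2_c41 LD3_c57) Lrfl Lrfl
theorem f493686 : Led Lsl_bf (LP (LK LD1_c23 LD2_c7 LD3_c26)) = (LP (LK LD1_c22 LD2_c52 LD3_c0)) :=
  Lgr Lrot61 (Lpr_ft (f471452 IH) (Lpr_bt (f493673 IH) (Lpr_ft (f493685 IH) (Lpn (LP (LK LD1_c22 LD2_c52 LD3_c0))))))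
theorem f425535 : Led Lsl_et (LP (LK LD1_c13 LD2_c30 LD3_c43)) = (LP (LK LD1_c7 LD2_c7 LD3_c61)) :=
  Lre_e IH (LK LD1_c13 LD2_c30 LD3_c43) (LK LD1_c7 LD2_c7 LD3_c61) Lrfl Lrfl
theorem f470796 : Led Lsl_et (LP (LK LD1_c7 LD2_c14 LD3_c17)) = (LP (LK LD1_c13 LD2_c41 LD3_c48)) :=
  Lre_e IH (LK LD1_c7 LD2_c14 LD3_c17) (LK LD1_c13 LD2_c41 LD3_c48) Lrfl Lrfl
theorem f470819 : Led Lsl_bf (LP (LK LD1_c13 LD2_c30 LD3_c43)) = (LP (LK LD1_c13 LD2_c41 LD3_c48)) :=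
  Lgr Lrot96 (Lpr_et (f425535 IH) (Lpr_bt (K29.f470797 IH) (Lpr_et (f470796 IH) (Lpn (LP (LK LD1_c13 LD2_c41 LD3_c48))))))
theorem f472487 : Led Lsl_ft (LP (LK LD1_c13 LD2_c30 LD3_c43)) = (LP (LK LD1_c22 LD2_c51 LD3_c37)) :=
  Lre_f IH (LK LD1_c13 LD2_c30 LD3_c43) (LK LD1_c22 LD2_c51 LD3_c37) Lrfl Lrfl
theorem f472495 : Led Lsl_bt (LP (LK LD1_c22 LD2_c51 LD3_c37)) = (LP (LK LD1_c23 LD2_c7 LD3_c19)) :=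
  Lgr Lrot35 (Lpe (f472487 IH) (Lpr_bf (f470819 IH) (Lpe (f470815 IH) (Lpn (LP (LK LD1_c23 LD2_c7 LD3_c19))))))
theorem f510823 : Led Lsl_et (LP (LK LD1_c23 LD2_c7 LD3_c26)) = (LP (LK LD1_c22 LD2_c51 LD3_c37)) :=
  Lgr Lrot74 (Lpr_bf (f493686 IH) (Lpr_ef (f510821 IH) (Lpe (f472495 IH) (Lpn (LP (LK LD1_c22 LD2_c51 LD3_c37))))))
theorem f471448 : Led Lsl_ft (LP (LK LD1_c13 LD2_c41 LD3_c57)) = (LP (LK LD1_c23 LD2_c7 LD3_c26)) :=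
  Lre_f IH (LK LD1_c13 LD2_c41 LD3_c57) (LK LD1_c23 LD2_c7 LD3_c26) Lrfl Lrfl
theorem f472492 : Led Lsl_ft (LP (LK LD1_c22 LD2_c51 LD3_c37)) = (LP (LK LD1_c13 LD2_c30 LD3_c43)) :=
  Lre_f IH (LK LD1_c22 LD2_c51 LD3_c37) (LK LD1_c13 LD2_c30 LD3_c43) Lrfl Lrfl
theorem f510825 : Led Lsl_ff (LP (LK LD1_c7 LD2_c14 LD3_c23)) = (LP (LK LD1_c7 LD2_c7 LD3_c61)) :=
  Lgr Lrot72 (Lpr_et (f471451 IH) (Lpr_ft (f471448 IH) (Lpr_et (f510823 IH) (Lpr_ft (f472492 IH) (Lpr_et (f425535 IH) (Lpn (LP (LK LD1_c7 LD2_c7 LD3_c61))))))))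
theorem f425327 : Led Lsl_gt (LP (LK LD1_c3 LD2_c33 LD3_c33)) = (LP (LK LD1_c7 LD2_c7 LD3_c60)) :=
  Lre_g IH (LK LD1_c3 LD2_c33 LD3_c33) (LK LD1_c7 LD2_c7 LD3_c60) Lrfl Lrfl
theorem f510829 : Led Lsl_at (LP (LK LD1_c7 LD2_c14 LD3_c23)) = (LP (LK LD1_c7 LD2_c7 LD3_c60)) :=
  Lgr Lrot26 (Lpr_ff (f510825 IH) (Lpr_gt (K28.f10796 IH) (Lpr_gt (f425327 IH) (Lpn (LP (LK LD1_c7 LD2_c7 LD3_c60))))))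
theorem f425425 : Led Lsl_et (LP (LK LD1_c13 LD2_c41 LD3_c57)) = (LP (LK LD1_c7 LD2_c14 LD3_c23)) :=
  Lre_e IH (LK LD1_c13 LD2_c41 LD3_c57) (LK LD1_c7 LD2_c14 LD3_c23) Lrfl Lrfl
theorem f471074 : Led Lsl_et (LP (LK LD1_c7 LD2_c7 LD3_c60)) = (LP (LK LD1_c13 LD2_c30 LD3_c42)) :=
  Lre_e IH (LK LD1_c7 LD2_c7 LD3_c60) (LK LD1_c13 LD2_c30 LD3_c42) Lrfl Lrfl
theorem f510837 : Led Lsl_af (LP (LK LD1_c13 LD2_c41 LD3_c57)) = (LP (LK LD1_c13 LD2_c30 LD3_c42)) :=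
  Lgr Lrot50 (Lpr_et (f425425 IH) (Lpr_at (f510829 IH) (Lpr_et (f471074 IH) (Lpn (LP (LK LD1_c13 LD2_c30 LD3_c42))))))
theorem f464938 : Led Lsl_et (LP (LK LD1_c13 LD2_c41 LD3_c47)) = (LP (LK LD1_c7 LD2_c14 LD3_c16)) :=
  Lre_e IH (LK LD1_c13 LD2_c41 LD3_c47) (LK LD1_c7 LD2_c14 LD3_c16) Lrfl Lrfl
theorem f510783 : Led Lsl_at (LP (LK LD1_c13 LD2_c31 LD3_c0)) = (LP (LK LD1_c13 LD2_c41 LD3_c47)) :=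
  Lgr Lrot80 (Lpe (f464181 IH) (Lpr_af (f510777 IH) (Lpe (f464938 IH) (Lpn (LP (LK LD1_c13 LD2_c41 LD3_c47))))))
theorem f464941 : Led Lsl_bt (LP (LK LD1_c13 LD2_c41 LD3_c47)) = (LP (LK LD1_c23 LD2_c7 LD3_c14)) :=
  Lre_b IH (LK LD1_c13 LD2_c41 LD3_c47) (LK LD1_c23 LD2_c7 LD3_c14) Lrfl Lrfl
theorem f510841 : Led Lsl_bt (LP (LK LD1_c22 LD2_c51 LD3_c33)) = (LP (LK LD1_c13 LD2_c30 LD3_c42)) :=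
  Lre_b IH (LK LD1_c22 LD2_c51 LD3_c33) (LK LD1_c13 LD2_c30 LD3_c42) Lrfl Lrfl
theorem f510842 : Led Lsl_at (LP (LK LD1_c23 LD2_c7 LD3_c14)) = (LP (LK LD1_c22 LD2_c51 LD3_c33)) :=
  Lgr Lrot67 (Lpe (f464941 IH) (Lpe (f510783 IH) (Lpe (f493673 IH) (Lpr_af (f510837 IH) (Lpe (f510841 IH) (Lpn (LP (LK LD1_c22 LD2_c51 LD3_c33))))))))
theorem f510854 : Led Lsl_af (LP (LK LD1_c23 LD2_c7 LD3_c14)) = (LP (LK LD1_c22 LD2_c51 LD3_c33)) :=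
  Lgr Lrot0 (Lpr_at (f510842 IH) (Lpn (LP (LK LD1_c22 LD2_c51 LD3_c33))))
theorem f464946 : Led Lsl_bt (LP (LK LD1_c23 LD2_c7 LD3_c14)) = (LP (LK LD1_c13 LD2_c41 LD3_c47)) :=
  Lre_b IH (LK LD1_c23 LD2_c7 LD3_c14) (LK LD1_c13 LD2_c41 LD3_c47) Lrfl Lrfl
theorem f510860 : Led Lsl_bt (LP (LK LD1_c13 LD2_c30 LD3_c42)) = (LP (LK LD1_c22 LD2_c51 LD3_c33)) :=
  Lre_b IH (LK LD1_c13 LD2_c30 LD3_c42) (LK LD1_c22 LD2_c51 LD3_c33) Lrfl Lrfl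
theorem f510839 : Led Lsl_at (LP (LK LD1_c13 LD2_c41 LD3_c57)) = (LP (LK LD1_c13 LD2_c30 LD3_c42)) :=
  Lgr Lrot100 (Lpr_af (f510837 IH) (Lpn (LP (LK LD1_c13 LD2_c30 LD3_c42))))
theorem f493683 : Led Lsl_bf (LP (LK LD1_c13 LD2_c41 LD3_c57)) = (LP (LK LD1_c13 LD2_c31 LD3_c0)) :=
  Lgr Lrot24 (Lpr_bt (f493673 IH) (Lpn (LP (LK LD1_c13 LD2_c31 LD3_c0))))
theorem f510861 : Led Lsl_at (LP (LK LD1_c13 LD2_c41 LD3_c47)) = (LP (LK LD1_c13 LD2_c31 LD3_c0)) :=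
  Lgr Lrot67 (Lpe (f464946 IH) (Lpr_af (f510854 IH) (Lpe (f510860 IH) (Lpe (f510839 IH) (Lpr_bf (f493683 IH) (Lpn (LP (LK LD1_c13 LD2_c31 LD3_c0))))))))
theorem f464948 : Led Lsl_ft (LP (LK LD1_c23 LD2_c7 LD3_c16)) = (LP (LK LD1_c13 LD2_c41 LD3_c47)) :=
  Lre_f IH (LK LD1_c23 LD2_c7 LD3_c16) (LK LD1_c13 LD2_c41 LD3_c47) Lrfl Lrfl
theorem f510875 : Led Lsl_af (LP (LK LD1_c23 LD2_c7 LD3_c16)) = (LP (LK LD1_c22 LD2_c52 LD3_c0)) :=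
  Lgr Lrot45 (Lpr_ft (f464948 IH) (Lpr_at (f510861 IH) (Lpr_ft (f493685 IH) (Lpn (LP (LK LD1_c22 LD2_c52 LD3_c0))))))
theorem f462168 : Led Lsl_et (LP (LK LD1_c13 LD2_c31 LD3_c2)) = (LP (LK LD1_c7 LD2_c8 LD3_c12)) :=
  Lre_e IH (LK LD1_c13 LD2_c31 LD3_c2) (LK LD1_c7 LD2_c8 LD3_c12) Lrfl Lrfl
theorem f465683 : Led Lsl_ft (LP (LK LD1_c22 LD2_c52 LD3_c5)) = (LP (LK LD1_c13 LD2_c31 LD3_c2)) :=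
  Lre_f IH (LK LD1_c22 LD2_c52 LD3_c5) (LK LD1_c13 LD2_c31 LD3_c2) Lrfl Lrfl
theorem f464947 : Led Lsl_et (LP (LK LD1_c7 LD2_c14 LD3_c16)) = (LP (LK LD1_c13 LD2_c41 LD3_c47)) :=
  Lre_e IH (LK LD1_c7 LD2_c14 LD3_c16) (LK LD1_c13 LD2_c41 LD3_c47) Lrfl Lrfl
theorem f464944 : Led Lsl_ft (LP (LK LD1_c13 LD2_c41 LD3_c47)) = (LP (LK LD1_c23 LD2_c7 LD3_c16)) :=
  Lre_f IH (LK LD1_c13 LD2_c41 LD3_c47) (LK LD1_c23 LD2_c7 LD3_c16) Lrfl Lrfl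
theorem f510795 : Led Lsl_ef (LP (LK LD1_c22 LD2_c52 LD3_c5)) = (LP (LK LD1_c23 LD2_c7 LD3_c16)) :=
  Lgr Lrot21 (Lpr_ft (f465683 IH) (Lpr_et (f462168 IH) (Lpr_ft (f510785 IH) (Lpr_et (f464947 IH) (Lpr_ft (f464944 IH) (Lpn (LP (LK LD1_c23 LD2_c7 LD3_c16))))))))
theorem f510885 : Led Lsl_at (LP (LK LD1_c22 LD2_c52 LD3_c5)) = (LP (LK LD1_c23 LD2_c7 LD3_c19)) :=
  Lgr Lrot80 (Lpr_ef (f510795 IH) (Lpr_af (f510875 IH) (Lpr_ef (f510821 IH) (Lpn (LP (LK LD1_c23 LD2_c7 LD3_c19))))))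
theorem f465663 : Led Lsl_dt (LP (LK LD1_c3 LD2_c32 LD3_c25)) = (LP (LK LD1_c7 LD2_c5 LD3_c53)) :=
  Lre_d IH (LK LD1_c3 LD2_c32 LD3_c25) (LK LD1_c7 LD2_c5 LD3_c53) Lrfl Lrfl
theorem f465664 : Led Lsl_et (LP (LK LD1_c7 LD2_c5 LD3_c53)) = (LP (LK LD1_c13 LD2_c27 LD3_c11)) :=
  Lre_e IH (LK LD1_c7 LD2_c5 LD3_c53) (LK LD1_c13 LD2_c27 LD3_c11) Lrfl Lrfl
theorem f465665 : Led Lsl_dt (LP (LK LD1_c13 LD2_c27 LD3_c11)) = (LP (LK LD1_c13 LD2_c31 LD3_c2)) :=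
  Lgr Lrot77 (Lpe (f465664 IH) (Lpe (f465663 IH) (Lpe (K28.f465662 IH) (Lpr_df (K28.f465648 IH) (Lpe (f462168 IH) (Lpn (LP (LK LD1_c13 LD2_c31 LD3_c2))))))))
theorem f465673 : Led Lsl_ft (LP (LK LD1_c22 LD2_c46 LD3_c45)) = (LP (LK LD1_c13 LD2_c27 LD3_c11)) :=
  Lre_f IH (LK LD1_c22 LD2_c46 LD3_c45) (LK LD1_c13 LD2_c27 LD3_c11) Lrfl Lrfl
theorem f465674 : Led Lsl_ft (LP (LK LD1_c13 LD2_c31 LD3_c2)) = (LP (LK LD1_c22 LD2_c52 LD3_c5)) :=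
  Lre_f IH (LK LD1_c13 LD2_c31 LD3_c2) (LK LD1_c22 LD2_c52 LD3_c5) Lrfl Lrfl
theorem f465675 : Led Lsl_df (LP (LK LD1_c22 LD2_c46 LD3_c45)) = (LP (LK LD1_c22 LD2_c52 LD3_c5)) :=
  Lgr Lrot78 (Lpr_ft (f465673 IH) (Lpr_dt (f465665 IH) (Lpr_ft (f465674 IH) (Lpn (LP (LK LD1_c22 LD2_c52 LD3_c5))))))
theorem f465681 : Led Lsl_dt (LP (LK LD1_c22 LD2_c46 LD3_c45)) = (LP (LK LD1_c22 LD2_c52 LD3_c5)) :=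
  Lgr Lrot42 (Lpr_df (f465675 IH) (Lpn (LP (LK LD1_c22 LD2_c52 LD3_c5))))
theorem f446499 : Led Lsl_dt (LP (LK LD1_c3 LD2_c31 LD3_c20)) = (LP (LK LD1_c7 LD2_c4 LD3_c23)) :=
  Lre_d IH (LK LD1_c3 LD2_c31 LD3_c20) (LK LD1_c7 LD2_c4 LD3_c23) Lrfl Lrfl
theorem f446502 : Led Lsl_et (LP (LK LD1_c7 LD2_c4 LD3_c23)) = (LP (LK LD1_c13 LD2_c24 LD3_c33)) :=
  Lre_e IH (LK LD1_c7 LD2_c4 LD3_c23) (LK LD1_c13 LD2_c24 LD3_c33) Lrfl Lrfl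
theorem f470799 : Led Lsl_dt (LP (LK LD1_c13 LD2_c24 LD3_c33)) = (LP (LK LD1_c13 LD2_c41 LD3_c48)) :=
  Lgr Lrot77 (Lpe (f446502 IH) (Lpe (f446499 IH) (Lpe (K29.f446497 IH) (Lpr_df (K29.f470789 IH) (Lpe (f470793 IH) (Lpn (LP (LK LD1_c13 LD2_c41 LD3_c48))))))))
theorem f470806 : Led Lsl_ft (LP (LK LD1_c22 LD2_c42 LD3_c46)) = (LP (LK LD1_c13 LD2_c24 LD3_c33)) :=
  Lre_f IH (LK LD1_c22 LD2_c42 LD3_c46) (LK LD1_c13 LD2_c24 LD3_c33) Lrfl Lrfl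
theorem f470807 : Led Lsl_ft (LP (LK LD1_c13 LD2_c41 LD3_c48)) = (LP (LK LD1_c23 LD2_c7 LD3_c19)) :=
  Lre_f IH (LK LD1_c13 LD2_c41 LD3_c48) (LK LD1_c23 LD2_c7 LD3_c19) Lrfl Lrfl
theorem f470808 : Led Lsl_df (LP (LK LD1_c22 LD2_c42 LD3_c46)) = (LP (LK LD1_c23 LD2_c7 LD3_c19)) :=
  Lgr Lrot78 (Lpr_ft (f470806 IH) (Lpr_dt (f470799 IH) (Lpr_ft (f470807 IH) (Lpn (LP (LK LD1_c23 LD2_c7 LD3_c19))))))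
theorem f510889 : Led Lsl_af (LP (LK LD1_c22 LD2_c46 LD3_c45)) = (LP (LK LD1_c22 LD2_c42 LD3_c46)) :=
  Lgr Lrot117 (Lpr_dt (f465681 IH) (Lpr_at (f510885 IH) (Lpe (f470808 IH) (Lpn (LP (LK LD1_c22 LD2_c42 LD3_c46))))))
theorem f470810 : Led Lsl_ft (LP (LK LD1_c13 LD2_c24 LD3_c33)) = (LP (LK LD1_c22 LD2_c42 LD3_c46)) :=
  Lre_f IH (LK LD1_c13 LD2_c24 LD3_c33) (LK LD1_c22 LD2_c42 LD3_c46) Lrfl Lrfl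
theorem f510895 : Led Lsl_at (LP (LK LD1_c13 LD2_c27 LD3_c11)) = (LP (LK LD1_c13 LD2_c24 LD3_c33)) :=
  Lgr Lrot66 (Lpe (f465673 IH) (Lpr_af (f510889 IH) (Lpe (f470810 IH) (Lpn (LP (LK LD1_c13 LD2_c24 LD3_c33))))))
theorem f446496 : Led Lsl_et (LP (LK LD1_c13 LD2_c24 LD3_c33)) = (LP (LK LD1_c7 LD2_c4 LD3_c23)) :=
  Lre_e IH (LK LD1_c13 LD2_c24 LD3_c33) (LK LD1_c7 LD2_c4 LD3_c23) Lrfl Lrfl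
theorem f510903 : Led Lsl_af (LP (LK LD1_c7 LD2_c5 LD3_c53)) = (LP (LK LD1_c7 LD2_c4 LD3_c23)) :=
  Lgr Lrot50 (Lpr_et (f465664 IH) (Lpr_at (f510895 IH) (Lpr_et (f446496 IH) (Lpn (LP (LK LD1_c7 LD2_c4 LD3_c23))))))
theorem f465686 : Led Lsl_dt (LP (LK LD1_c7 LD2_c5 LD3_c53)) = (LP (LK LD1_c3 LD2_c32 LD3_c25)) :=
  Lre_d IH (LK LD1_c7 LD2_c5 LD3_c53) (LK LD1_c3 LD2_c32 LD3_c25) Lrfl Lrfl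
theorem f510912 : Led Lsl_at (LP (LK LD1_c3 LD2_c32 LD3_c25)) = (LP (LK LD1_c3 LD2_c31 LD3_c20)) :=
  Lgr Lrot51 (Lpe (f465686 IH) (Lpr_af (f510903 IH) (Lpe (f446499 IH) (Lpn (LP (LK LD1_c3 LD2_c31 LD3_c20))))))
theorem f108478 : Led Lsl_ct (LP (LK LD1_c1 LD2_c44 LD3_c58)) = (LP (LK LD1_c3 LD2_c36 LD3_c12)) :=
  Lre_c IH (LK LD1_c1 LD2_c44 LD3_c58) (LK LD1_c3 LD2_c36 LD3_c12) Lrfl Lrfl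
theorem f489975 : Led Lsl_gf (LP (LK LD1_c1 LD2_c46 LD3_c14)) = (LP (LK LD1_c3 LD2_c36 LD3_c12)) :=
  Lgr Lrot129 (Lpr_cf (K28.f439458 IH) (Lpr_bt (K5.f131703 IH) (Lpr_gt (K28.f131679 IH) (Lpr_bf (K28.f463488 IH) (Lpr_ct (K28.f131719 IH) (Lpr_gt (K28.f463540 IH) (Lpe (K28.f147293 IH) (Lpr_bt (K24.f108294 IH) (Lpe (f108476 IH) (Lpr_ct (f108478 IH) (Lpn (LP (LK LD1_c3 LD2_c36 LD3_c12)))))))))))))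
theorem f510918 : Led Lsl_ff (LP (LK LD1_c3 LD2_c32 LD3_c25)) = (LP (LK LD1_c3 LD2_c36 LD3_c12)) :=
  Lgr Lrot52 (Lpr_at (f510912 IH) (Lpe (K28.f464322 IH) (Lpr_gf (f489975 IH) (Lpn (LP (LK LD1_c3 LD2_c36 LD3_c12))))))
theorem f108429 : Led Lsl_ct (LP (LK LD1_c3 LD2_c32 LD3_c25)) = (LP (LK LD1_c1 LD2_c42 LD3_c54)) :=
  Lre_c IH (LK LD1_c3 LD2_c32 LD3_c25) (LK LD1_c1 LD2_c42 LD3_c54) Lrfl Lrfl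
theorem f510922 : Led Lsl_ft (LP (LK LD1_c1 LD2_c42 LD3_c54)) = (LP (LK LD1_c1 LD2_c44 LD3_c58)) :=
  Lgr Lrot4 (Lpe (f108429 IH) (Lpr_ff (f510918 IH) (Lpe (f108478 IH) (Lpn (LP (LK LD1_c1 LD2_c44 LD3_c58))))))
theorem f106037 : Led Lsl_dt (LP (LK LD1_c3 LD2_c32 LD3_c26)) = (LP (LK LD1_c1 LD2_c42 LD3_c54)) :=
  Lre_d IH (LK LD1_c3 LD2_c32 LD3_c26) (LK LD1_c1 LD2_c42 LD3_c54) Lrfl Lrfl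
theorem f519578 : Led Lsl_ff (LP (LK LD1_c3 LD2_c32 LD3_c26)) = v2416 :=
  Lgr Lrot19 (Lpr_dt (f106037 IH) (Lpr_ft (f510922 IH) (Lpr_dt (f519575 IH) (Lpn v2416))))
theorem f519580 : Led Lsl_ft (LP (LK LD1_c3 LD2_c32 LD3_c26)) = v2416 :=
  Lgr Lrot48 (Lpr_ff (f519578 IH) (Lpn v2416))
theorem f128118 : Led Lsl_et (LP (LK LD1_c1 LD2_c42 LD3_c54)) = (LP (LK LD1_c3 LD2_c32 LD3_c27)) :=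
  Lre_e IH (LK LD1_c1 LD2_c42 LD3_c54) (LK LD1_c3 LD2_c32 LD3_c27) Lrfl Lrfl
theorem f108431 : Led Lsl_dt (LP (LK LD1_c1 LD2_c42 LD3_c54)) = (LP (LK LD1_c3 LD2_c32 LD3_c26)) :=
  Lre_d IH (LK LD1_c1 LD2_c42 LD3_c54) (LK LD1_c3 LD2_c32 LD3_c26) Lrfl Lrfl
theorem f519302 : Led Lsl_gt (LP (LK LD1_c3 LD2_c32 LD3_c26)) = v2368 :=
  Lgr Lrot112 (Lpe (f108431 IH) (Lpr_et (f128118 IH) (Lpe (K28.f466613 IH) (Lpr_ef (K28.f466615 IH) (Lpr_dt (K28.f128109 IH) (Lpe (K28.f128108 IH) (Lpe (K28.f128107 IH) (Lpe (K28.f5936 IH) (Lpe (f10812 IH) (Lpr_dt (f519300 IH) (Lpn v2368)))))))))))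
theorem f510926 : Led Lsl_ft (LP (LK LD1_c3 LD2_c32 LD3_c25)) = (LP (LK LD1_c3 LD2_c36 LD3_c12)) :=
  Lgr Lrot48 (Lpr_ff (f510918 IH) (Lpn (LP (LK LD1_c3 LD2_c36 LD3_c12))))
theorem f466195 : Led Lsl_gf (LP (LK LD1_c3 LD2_c31 LD3_c21)) = (LP (LK LD1_c3 LD2_c38 LD3_c31)) :=
  Lgr Lrot126 (Lpe (K28.f446511 IH) (Lpr_bt (K28.f446510 IH) (Lpr_gt (K24.f446507 IH) (Lpr_ct (K24.f11324 IH) (Lpr_gt (K24.f12121 IH) (Lpe (K24.f446539 IH) (Lpr_bt (K24.f446547 IH) (Lpq (K28.f466161 IH) (Lpe (K28.f457153 IH) (Lpe (K5.f131722 IH) (Lpe (K28.f439553 IH) (Lpn (LP (LK LD1_c3 LD2_c38 LD3_c31))))))))))))))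
theorem f510934 : Led Lsl_af (LP (LK LD1_c3 LD2_c31 LD3_c21)) = (LP (LK LD1_c3 LD2_c36 LD3_c12)) :=
  Lgr Lrot31 (Lpr_gf (f466195 IH) (Lpe (K28.f465693 IH) (Lpr_ft (f510926 IH) (Lpn (LP (LK LD1_c3 LD2_c36 LD3_c12))))))
theorem f510940 : Led Lsl_at (LP (LK LD1_c1 LD2_c42 LD3_c14)) = (LP (LK LD1_c1 LD2_c44 LD3_c58)) :=
  Lgr Lrot107 (Lpe (K28.f450704 IH) (Lpr_af (f510934 IH) (Lpe (f108478 IH) (Lpn (LP (LK LD1_c1 LD2_c44 LD3_c58))))))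
def v2323 : LQ := Led Lsl_dt (LP (LK LD1_c1 LD2_c42 LD3_c14))
theorem f514638 : Led Lsl_dt (LP (LK LD1_c1 LD2_c42 LD3_c14)) = v2323 :=
  Lrfl
theorem f514640 : Led Lsl_df (LP (LK LD1_c1 LD2_c42 LD3_c14)) = v2323 :=
  Lgr Lrot38 (Lpr_dt (f514638 IH) (Lpn v2323))
theorem f519576 : Led Lsl_af v2323 = v2416 :=
  Lgr Lrot117 (Lpe (f514640 IH) (Lpr_at (f510940 IH) (Lpr_dt (f519575 IH) (Lpn v2416))))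
theorem f519582 : Led Lsl_gt v2368 = v2323 :=
  Lgr Lrot46 (Lpe (f519302 IH) (Lpr_ft (f519580 IH) (Lpe (f519576 IH) (Lpn v2323))))
theorem f450705 : Led Lsl_dt (LP (LK LD1_c7 LD2_c4 LD3_c24)) = (LP (LK LD1_c3 LD2_c31 LD3_c21)) :=
  Lre_d IH (LK LD1_c7 LD2_c4 LD3_c24) (LK LD1_c3 LD2_c31 LD3_c21) Lrfl Lrfl
theorem f510914 : Led Lsl_af (LP (LK LD1_c3 LD2_c32 LD3_c25)) = (LP (LK LD1_c3 LD2_c31 LD3_c20)) :=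
  Lgr Lrot0 (Lpr_at (f510912 IH) (Lpn (LP (LK LD1_c3 LD2_c31 LD3_c20))))
theorem f510944 : Led Lsl_ft (LP (LK LD1_c3 LD2_c31 LD3_c21)) = (LP (LK LD1_c3 LD2_c31 LD3_c20)) :=
  Lgr Lrot101 (Lpr_af (f510934 IH) (Lpe (f510926 IH) (Lpr_af (f510914 IH) (Lpn (LP (LK LD1_c3 LD2_c31 LD3_c20))))))
theorem f457457 : Led Lsl_dt (LP (LK LD1_c3 LD2_c31 LD3_c21)) = (LP (LK LD1_c7 LD2_c4 LD3_c24)) :=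
  Lre_d IH (LK LD1_c3 LD2_c31 LD3_c21) (LK LD1_c7 LD2_c4 LD3_c24) Lrfl Lrfl
theorem f457468 : Led Lsl_ct (LP (LK LD1_c7 LD2_c4 LD3_c24)) = (LP (LK LD1_c13 LD2_c24 LD3_c34)) :=
  Lre_c IH (LK LD1_c7 LD2_c4 LD3_c24) (LK LD1_c13 LD2_c24 LD3_c34) Lrfl Lrfl
theorem f460766 : Led Lsl_dt (LP (LK LD1_c13 LD2_c24 LD3_c34)) = (LP (LK LD1_c22 LD2_c42 LD3_c47)) :=
  Lre_d IH (LK LD1_c13 LD2_c24 LD3_c34) (LK LD1_c22 LD2_c42 LD3_c47) Lrfl Lrfl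
theorem f128130 : Led Lsl_ct (LP (LK LD1_c7 LD2_c5 LD3_c55)) = (LP (LK LD1_c3 LD2_c32 LD3_c26)) :=
  Lre_c IH (LK LD1_c7 LD2_c5 LD3_c55) (LK LD1_c3 LD2_c32 LD3_c26) Lrfl Lrfl
theorem f128160 : Led Lsl_dt (LP (LK LD1_c13 LD2_c27 LD3_c13)) = (LP (LK LD1_c7 LD2_c5 LD3_c55)) :=
  Lre_d IH (LK LD1_c13 LD2_c27 LD3_c13) (LK LD1_c7 LD2_c5 LD3_c55) Lrfl Lrfl
theorem f510950 : Led Lsl_ct (LP (LK LD1_c22 LD2_c42 LD3_c47)) = (LP (LK LD1_c13 LD2_c27 LD3_c13)) :=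
  Lgr Lrot41 (Lpe (f460766 IH) (Lpe (f457468 IH) (Lpe (f457457 IH) (Lpr_ft (f510944 IH) (Lpe (f510914 IH) (Lpe (K28.f108430 IH) (Lpe (f106037 IH) (Lpe (f128130 IH) (Lpe (f128160 IH) (Lpn (LP (LK LD1_c13 LD2_c27 LD3_c13))))))))))))
theorem f510953 : Led Lsl_cf (LP (LK LD1_c22 LD2_c42 LD3_c47)) = (LP (LK LD1_c13 LD2_c27 LD3_c13)) :=
  Lgr Lrot11 (Lpr_ct (f510950 IH) (Lpn (LP (LK LD1_c13 LD2_c27 LD3_c13))))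
theorem f457466 : Led Lsl_dt (LP (LK LD1_c22 LD2_c42 LD3_c47)) = (LP (LK LD1_c13 LD2_c24 LD3_c34)) :=
  Lre_d IH (LK LD1_c22 LD2_c42 LD3_c47) (LK LD1_c13 LD2_c24 LD3_c34) Lrfl Lrfl
theorem f457462 : Led Lsl_ct (LP (LK LD1_c13 LD2_c24 LD3_c34)) = (LP (LK LD1_c7 LD2_c4 LD3_c24)) :=
  Lre_c IH (LK LD1_c13 LD2_c24 LD3_c34) (LK LD1_c7 LD2_c4 LD3_c24) Lrfl Lrfl
theorem f128153 : Led Lsl_dt (LP (LK LD1_c7 LD2_c5 LD3_c55)) = (LP (LK LD1_c13 LD2_c27 LD3_c13)) :=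
  Lre_d IH (LK LD1_c7 LD2_c5 LD3_c55) (LK LD1_c13 LD2_c27 LD3_c13) Lrfl Lrfl
theorem f128123 : Led Lsl_ct (LP (LK LD1_c3 LD2_c32 LD3_c26)) = (LP (LK LD1_c7 LD2_c5 LD3_c55)) :=
  Lre_c IH (LK LD1_c3 LD2_c32 LD3_c26) (LK LD1_c7 LD2_c5 LD3_c55) Lrfl Lrfl
theorem f108481 : Led Lsl_dt (LP (LK LD1_c7 LD2_c12 LD3_c47)) = (LP (LK LD1_c3 LD2_c36 LD3_c12)) :=
  Lre_d IH (LK LD1_c7 LD2_c12 LD3_c47) (LK LD1_c3 LD2_c36 LD3_c12) Lrfl Lrfl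
theorem f510924 : Led Lsl_ft (LP (LK LD1_c7 LD2_c5 LD3_c53)) = (LP (LK LD1_c7 LD2_c12 LD3_c47)) :=
  Lgr Lrot54 (Lpe (f465663 IH) (Lpr_ff (f510918 IH) (Lpe (f108481 IH) (Lpn (LP (LK LD1_c7 LD2_c12 LD3_c47))))))
theorem f510956 : Led Lsl_af (LP (LK LD1_c7 LD2_c4 LD3_c24)) = (LP (LK LD1_c7 LD2_c12 LD3_c47)) :=
  Lgr Lrot109 (Lpe (f457462 IH) (Lpe (f457466 IH) (Lpr_cf (f510953 IH) (Lpe (f128153 IH) (Lpe (f128123 IH) (Lpe (f108431 IH) (Lpe (f108429 IH) (Lpe (f465686 IH) (Lpr_ft (f510924 IH) (Lpn (LP (LK LD1_c7 LD2_c12 LD3_c47))))))))))))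
theorem f10666 : Led Lsl_et (LP (LK LD1_c3 LD2_c33 LD3_c56)) = (LP (LK LD1_c1 LD2_c43 LD3_c39)) :=
  Lre_e IH (LK LD1_c3 LD2_c33 LD3_c56) (LK LD1_c1 LD2_c43 LD3_c39) Lrfl Lrfl
theorem f10667 : Led Lsl_dt (LP (LK LD1_c3 LD2_c33 LD3_c56)) = (LP (LK LD1_c7 LD2_c8 LD3_c53)) :=
  Lre_d IH (LK LD1_c3 LD2_c33 LD3_c56) (LK LD1_c7 LD2_c8 LD3_c53) Lrfl Lrfl
theorem f465703 : Led Lsl_gt (LP (LK LD1_c7 LD2_c5 LD3_c53)) = (LP (LK LD1_c7 LD2_c8 LD3_c53)) :=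
  Lgr Lrot139 (Lpe (f465663 IH) (Lpr_gf (K28.f465691 IH) (Lpe (K2.f92291 IH) (Lpr_dt (K28.f98035 IH) (Lpe (K3.f6563 IH) (Lpe (K3.f6097 IH) (Lpr_et (K3.f6012 IH) (Lpe (K24.f6071 IH) (Lpe (f10666 IH) (Lpr_dt (f10667 IH) (Lpn (LP (LK LD1_c7 LD2_c8 LD3_c53)))))))))))))
theorem f510968 : Led Lsl_gf (LP (LK LD1_c7 LD2_c4 LD3_c24)) = (LP (LK LD1_c7 LD2_c8 LD3_c53)) :=
  Lgr Lrot76 (Lpr_af (f510956 IH) (Lpe (f510924 IH) (Lpr_gt (f465703 IH) (Lpn (LP (LK LD1_c7 LD2_c8 LD3_c53))))))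
theorem f522623 : Led Lsl_gt (LP (LK LD1_c7 LD2_c7 LD3_c23)) = (LP (LK LD1_c3 LD2_c33 LD3_c56)) :=
  Lgr Lrot180 (Lpr_ct (f470469 IH) (Lpqs (f522621 IH) (Lpe (f519299 IH) (Lpr_dt (f519300 IH) (Lpr_gt (f519582 IH) (Lpe (f514640 IH) (Lpr_ct (K28.f446511 IH) (Lpe (f450705 IH) (Lpr_gf (f510968 IH) (Lpe (f10667 IH) (Lpn (LP (LK LD1_c3 LD2_c33 LD3_c56)))))))))))))
theorem f522624 : Led Lsl_gt (LP (LK LD1_c7 LD2_c7 LD3_c23)) = (LP (LK LD1_c3 LD2_c33 LD3_c56)) :=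
  Leop (Lpe (f522623 IH) (Lpn (LP (LK LD1_c7 LD2_c7 LD3_c23))))
theorem seed_186 : LEOK LG_g (LK LD1_c7 LD2_c7 LD3_c23) :=
  Leoe_g (LK LD1_c7 LD2_c7 LD3_c23) (f522624 IH)
theorem f519688 : Led Lsl_ft v2355 = v2429 :=
  Lgr Lrot48 (Lpr_ff (f519686 IH) (Lpn v2429))
theorem f490399 : Led Lsl_df (LP (LK LD1_c0 LD2_c54 LD3_c1)) = v910 :=
  Lgr Lrot38 (Lpr_dt (f490397 IH) (Lpn v910))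
theorem f519684 : Led Lsl_af v910 = v2429 :=
  Lgr Lrot117 (Lpe (f490399 IH) (Lpr_at (K29.f465136 IH) (Lpr_dt (f519683 IH) (Lpn v2429))))
theorem f522620 : Led Lsl_gf v910 = v2482 :=
  Lgr Lrot76 (Lpr_af (f519684 IH) (Lpe (f519688 IH) (Lpr_gt (f522619 IH) (Lpn v2482))))
theorem f451247 : Led Lsl_dt (LP (LK LD1_c3 LD2_c56 LD3_c5)) = (LP (LK LD1_c1 LD2_c54 LD3_c45)) :=
  Lre_d IH (LK LD1_c3 LD2_c56 LD3_c5) (LK LD1_c1 LD2_c54 LD3_c45) Lrfl Lrfl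
theorem f470394 : Led Lsl_dt (LP (LK LD1_c3 LD2_c33 LD3_c13)) = (LP (LK LD1_c7 LD2_c7 LD3_c22)) :=
  Lre_d IH (LK LD1_c3 LD2_c33 LD3_c13) (LK LD1_c7 LD2_c7 LD3_c22) Lrfl Lrfl
theorem f97357 : Led Lsl_et (LP (LK LD1_c0 LD2_c48 LD3_c23)) = (LP (LK LD1_c1 LD2_c43 LD3_c30)) :=
  Lre_e IH (LK LD1_c0 LD2_c48 LD3_c23) (LK LD1_c1 LD2_c43 LD3_c30) Lrfl Lrfl
theorem f441959 : Led Lsl_et (LP (LK LD1_c3 LD2_c38 LD3_c43)) = (LP (LK LD1_c1 LD2_c46 LD3_c18)) :=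
  Lre_e IH (LK LD1_c3 LD2_c38 LD3_c43) (LK LD1_c1 LD2_c46 LD3_c18) Lrfl Lrfl
theorem f441960 : Led Lsl_dt (LP (LK LD1_c3 LD2_c38 LD3_c43)) = (LP (LK LD1_c7 LD2_c17 LD3_c51)) :=
  Lre_d IH (LK LD1_c3 LD2_c38 LD3_c43) (LK LD1_c7 LD2_c17 LD3_c51) Lrfl Lrfl
theorem f471002 : Led Lsl_gt (LP (LK LD1_c7 LD2_c7 LD3_c22)) = (LP (LK LD1_c7 LD2_c17 LD3_c51)) :=
  Lgr Lrot139 (Lpe (f470394 IH) (Lpr_gf (K29.f470916 IH) (Lpe (f97357 IH) (Lpr_dt (K3.f6104 IH) (Lpe (K3.f98494 IH) (Lpe (K0.f376 IH) (Lpr_et (K29.f5643 IH) (Lpe (K29.f4399 IH) (Lpe (f441959 IH) (Lpr_dt (f441960 IH) (Lpn (LP (LK LD1_c7 LD2_c17 LD3_c51)))))))))))))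
theorem f470395 : Led Lsl_ff (LP (LK LD1_c7 LD2_c13 LD3_c61)) = (LP (LK LD1_c7 LD2_c7 LD3_c22)) :=
  Lgr Lrot19 (Lpr_dt (K29.f160110 IH) (Lpr_ft (K29.f470390 IH) (Lpr_dt (f470394 IH) (Lpn (LP (LK LD1_c7 LD2_c7 LD3_c22))))))
theorem f465151 : Led Lsl_af (LP (LK LD1_c3 LD2_c56 LD3_c5)) = (LP (LK LD1_c7 LD2_c13 LD3_c61)) :=
  Lgr Lrot0 (Lpr_at (K29.f465149 IH) (Lpn (LP (LK LD1_c7 LD2_c13 LD3_c61))))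
theorem f471028 : Led Lsl_gf (LP (LK LD1_c3 LD2_c56 LD3_c5)) = (LP (LK LD1_c7 LD2_c17 LD3_c51)) :=
  Lgr Lrot76 (Lpr_af (f465151 IH) (Lpr_ff (f470395 IH) (Lpr_gt (f471002 IH) (Lpn (LP (LK LD1_c7 LD2_c17 LD3_c51))))))
def v2294 : LQ := Led Lsl_ft (LP (LK LD1_c1 LD2_c41 LD3_c18))
theorem f511927 : Led Lsl_ft (LP (LK LD1_c1 LD2_c41 LD3_c18)) = v2294 :=
  Lrfl
theorem f511929 : Led Lsl_ff (LP (LK LD1_c1 LD2_c41 LD3_c18)) = v2294 :=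
  Lgr Lrot3 (Lpr_ft (f511927 IH) (Lpn v2294))
theorem f455548 : Led Lsl_af (LP (LK LD1_c0 LD2_c47 LD3_c29)) = v621 :=
  Lgr Lrot45 (Lpr_ft (K24.f455543 IH) (Lpe (K24.f455536 IH) (Lpr_ft (f455547 IH) (Lpn v621))))
def v2293 : LQ := Led Lsl_at (LP (LK LD1_c1 LD2_c41 LD3_c18))
theorem f511923 : Led Lsl_at (LP (LK LD1_c1 LD2_c41 LD3_c18)) = v2293 :=
  Lrfl
theorem f511924 : Led Lsl_af (LP (LK LD1_c1 LD2_c41 LD3_c18)) = v2293 :=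
  Lgr Lrot0 (Lpr_at (f511923 IH) (Lpn v2293))
theorem f511925 : Led Lsl_ft (LP (LK LD1_c1 LD2_c41 LD3_c19)) = v2293 :=
  Lgr Lrot2 (Lpr_gt (K28.f18795 IH) (Lpr_gt (K28.f18787 IH) (Lpr_af (f511924 IH) (Lpn v2293))))
theorem f511926 : Led Lsl_ff (LP (LK LD1_c1 LD2_c41 LD3_c19)) = v2293 :=
  Lgr Lrot3 (Lpr_ft (f511925 IH) (Lpn v2293))
theorem f511930 : Led Lsl_at (LP (LK LD1_c1 LD2_c41 LD3_c19)) = v2294 :=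
  Lgr Lrot66 (Lpr_ff (f511926 IH) (Lpe (f511923 IH) (Lpr_ff (f511929 IH) (Lpn v2294))))
theorem f511998 : Led Lsl_bf v621 = v2307 :=
  Lgr Lrot61 (Lpe (f455550 IH) (Lpr_bt (f455540 IH) (Lpr_ft (f511996 IH) (Lpn v2307))))
theorem f512014 : Led Lsl_gf (LP (LK LD1_c3 LD2_c30 LD3_c51)) = (LP (LK LD1_c3 LD2_c35 LD3_c38)) :=
  Lgr Lrot124 (Lpr_bf (f512004 IH) (Lpe (K29.f473446 IH) (Lpr_gt (K29.f15810 IH) (Lpe (K24.f15795 IH) (Lpr_bt (K2.f15779 IH) (Lpr_gt (K28.f14647 IH) (Lpr_ct (K28.f15811 IH) (Lpr_gt (K28.f15812 IH) (Lpe (K29.f464262 IH) (Lpr_bt (K4.f17682 IH) (Lpn (LP (LK LD1_c3 LD2_c35 LD3_c38)))))))))))))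
theorem f130997 : Led Lsl_ft (LP (LK LD1_c0 LD2_c20 LD3_c31)) = (LP (LK LD1_c0 LD2_c20 LD3_c37)) :=
  Lgr Lrot4 (Lpe (K0.f17728 IH) (Lpr_ff (K5.f130995 IH) (Lpe (K2.f12079 IH) (Lpn (LP (LK LD1_c0 LD2_c20 LD3_c37))))))
theorem f131670 : Led Lsl_ft (LP (LK LD1_c0 LD2_c22 LD3_c49)) = (LP (LK LD1_c0 LD2_c23 LD3_c7)) :=
  Lgr Lrot54 (Lpr_df (K6.f128323 IH) (Lpe (f130997 IH) (Lpr_df (K5.f131652 IH) (Lpn (LP (LK LD1_c0 LD2_c23 LD3_c7))))))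
theorem f131678 : Led Lsl_et (LP (LK LD1_c0 LD2_c23 LD3_c7)) = (LP (LK LD1_c0 LD2_c51 LD3_c14)) :=
  Lre_e IH (LK LD1_c0 LD2_c23 LD3_c7) (LK LD1_c0 LD2_c51 LD3_c14) Lrfl Lrfl
theorem f457151 : Led Lsl_et (LP (LK LD1_c1 LD2_c48 LD3_c57)) = K24.v769 :=
  Lgr Lrot69 (Lpe (K5.f131714 IH) (Lpe (f131678 IH) (Lpe (f131670 IH) (Lpe (K28.f4894 IH) (Lpr_ff (K24.f457150 IH) (Lpn K24.v769))))))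
theorem f466550 : Led Lsl_et (LP (LK LD1_c3 LD2_c30 LD3_c50)) = (LP (LK LD1_c3 LD2_c36 LD3_c2)) :=
  Lgr Lrot74 (Lpr_bf (K28.f466493 IH) (Lpq (K28.f463258 IH) (Lpe (f457151 IH) (Lpe (K5.f131722 IH) (Lpn (LP (LK LD1_c3 LD2_c36 LD3_c2)))))))
theorem f512024 : Led Lsl_et (LP (LK LD1_c7 LD2_c3 LD3_c37)) = (LP (LK LD1_c3 LD2_c32 LD3_c10)) :=
  Lgr Lrot185 (Lpr_dt (f488237 IH) (Lpr_gf (f512014 IH) (Lpr_df (K4.f106123 IH) (Lpe (K28.f464126 IH) (Lpe (K28.f129785 IH) (Lpr_dt (K28.f129815 IH) (Lpe (K28.f88019 IH) (Lpe (K29.f466483 IH) (Lpr_et (f466550 IH) (Lpe (K28.f121774 IH) (Lpn (LP (LK LD1_c3 LD2_c32 LD3_c10)))))))))))))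
theorem f512030 : Led Lsl_ef (LP (LK LD1_c7 LD2_c3 LD3_c37)) = (LP (LK LD1_c3 LD2_c32 LD3_c10)) :=
  Lgr Lrot88 (Lpr_et (f512024 IH) (Lpn (LP (LK LD1_c3 LD2_c32 LD3_c10))))
theorem f512032 : Led Lsl_at (LP (LK LD1_c3 LD2_c35 LD3_c61)) = (LP (LK LD1_c3 LD2_c32 LD3_c10)) :=
  Lgr Lrot80 (Lpe (K28.f466574 IH) (Lpe (f466576 IH) (Lpr_ef (f512030 IH) (Lpn (LP (LK LD1_c3 LD2_c32 LD3_c10))))))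
theorem f512038 : Led Lsl_ff (LP (LK LD1_c3 LD2_c35 LD3_c61)) = (LP (LK LD1_c3 LD2_c31 LD3_c1)) :=
  Lgr Lrot52 (Lpr_at (f512032 IH) (Lpe (K28.f88622 IH) (Lpr_gf (K28.f464553 IH) (Lpn (LP (LK LD1_c3 LD2_c31 LD3_c1))))))
theorem f512044 : Led Lsl_ft (LP (LK LD1_c3 LD2_c35 LD3_c61)) = (LP (LK LD1_c3 LD2_c31 LD3_c1)) :=
  Lgr Lrot48 (Lpr_ff (f512038 IH) (Lpn (LP (LK LD1_c3 LD2_c31 LD3_c1))))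
theorem f121771 : Led Lsl_gf (LP (LK LD1_c3 LD2_c32 LD3_c12)) = (LP (LK LD1_c3 LD2_c35 LD3_c61)) :=
  Lgr Lrot76 (Lpr_af (K5.f121763 IH) (Lpe (K5.f121762 IH) (Lpr_gt (K28.f90097 IH) (Lpn (LP (LK LD1_c3 LD2_c35 LD3_c61))))))
theorem f512050 : Led Lsl_af (LP (LK LD1_c3 LD2_c36 LD3_c0)) = (LP (LK LD1_c3 LD2_c31 LD3_c1)) :=
  Lgr Lrot31 (Lpe (K28.f121766 IH) (Lpr_gf (f121771 IH) (Lpr_ft (f512044 IH) (Lpn (LP (LK LD1_c3 LD2_c31 LD3_c1))))))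
theorem f466586 : Led Lsl_at (LP (LK LD1_c3 LD2_c30 LD3_c53)) = (LP (LK LD1_c7 LD2_c3 LD3_c37)) :=
  Lre_a IH (LK LD1_c3 LD2_c30 LD3_c53) (LK LD1_c7 LD2_c3 LD3_c37) Lrfl Lrfl
theorem f466584 : Led Lsl_ef (LP (LK LD1_c3 LD2_c30 LD3_c53)) = (LP (LK LD1_c3 LD2_c35 LD3_c61)) :=
  Lgr Lrot88 (Lpr_et (K28.f466574 IH) (Lpn (LP (LK LD1_c3 LD2_c35 LD3_c61))))
theorem f512026 : Led Lsl_af (LP (LK LD1_c3 LD2_c35 LD3_c61)) = (LP (LK LD1_c3 LD2_c32 LD3_c10)) :=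
  Lgr Lrot50 (Lpe (f466584 IH) (Lpr_at (f466586 IH) (Lpr_et (f512024 IH) (Lpn (LP (LK LD1_c3 LD2_c32 LD3_c10))))))
theorem f512056 : Led Lsl_ft (LP (LK LD1_c3 LD2_c36 LD3_c0)) = (LP (LK LD1_c3 LD2_c32 LD3_c10)) :=
  Lgr Lrot101 (Lpr_af (f512050 IH) (Lpe (f512044 IH) (Lpr_af (f512026 IH) (Lpn (LP (LK LD1_c3 LD2_c32 LD3_c10))))))
theorem f512062 : Led Lsl_ff (LP (LK LD1_c3 LD2_c36 LD3_c0)) = (LP (LK LD1_c3 LD2_c32 LD3_c10)) :=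
  Lgr Lrot3 (Lpr_ft (f512056 IH) (Lpn (LP (LK LD1_c3 LD2_c32 LD3_c10))))
theorem f512066 : Led Lsl_ft (LP (LK LD1_c3 LD2_c32 LD3_c22)) = (LP (LK LD1_c3 LD2_c36 LD3_c8)) :=
  Lgr Lrot4 (Lpe (K28.f464562 IH) (Lpr_ff (f512062 IH) (Lpe (K28.f466272 IH) (Lpn (LP (LK LD1_c3 LD2_c36 LD3_c8))))))
theorem f108404 : Led Lsl_dt (LP (LK LD1_c7 LD2_c5 LD3_c46)) = (LP (LK LD1_c3 LD2_c32 LD3_c22)) :=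
  Lre_d IH (LK LD1_c7 LD2_c5 LD3_c46) (LK LD1_c3 LD2_c32 LD3_c22) Lrfl Lrfl
theorem f17952 : Led Lsl_dt (LP (LK LD1_c3 LD2_c36 LD3_c8)) = (LP (LK LD1_c7 LD2_c12 LD3_c37)) :=
  Lre_d IH (LK LD1_c3 LD2_c36 LD3_c8) (LK LD1_c7 LD2_c12 LD3_c37) Lrfl Lrfl
theorem f512072 : Led Lsl_ff (LP (LK LD1_c7 LD2_c5 LD3_c46)) = (LP (LK LD1_c7 LD2_c12 LD3_c37)) :=
  Lgr Lrot19 (Lpr_dt (f108404 IH) (Lpr_ft (f512066 IH) (Lpr_dt (f17952 IH) (Lpn (LP (LK LD1_c7 LD2_c12 LD3_c37))))))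
theorem f512080 : Led Lsl_ft (LP (LK LD1_c7 LD2_c5 LD3_c46)) = (LP (LK LD1_c7 LD2_c12 LD3_c37)) :=
  Lgr Lrot48 (Lpr_ff (f512072 IH) (Lpn (LP (LK LD1_c7 LD2_c12 LD3_c37))))
theorem f512082 : Led Lsl_bt (LP (LK LD1_c13 LD2_c26 LD3_c54)) = (LP (LK LD1_c7 LD2_c5 LD3_c46)) :=
  Lre_b IH (LK LD1_c13 LD2_c26 LD3_c54) (LK LD1_c7 LD2_c5 LD3_c46) Lrfl Lrfl
theorem f489073 : Led Lsl_bt (LP (LK LD1_c7 LD2_c12 LD3_c37)) = (LP (LK LD1_c13 LD2_c38 LD3_c56)) :=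
  Lre_b IH (LK LD1_c7 LD2_c12 LD3_c37) (LK LD1_c13 LD2_c38 LD3_c56) Lrfl Lrfl
theorem f512083 : Led Lsl_ff (LP (LK LD1_c13 LD2_c26 LD3_c54)) = (LP (LK LD1_c13 LD2_c38 LD3_c56)) :=
  Lgr Lrot25 (Lpr_bt (f512082 IH) (Lpr_ft (f512080 IH) (Lpr_bt (f489073 IH) (Lpn (LP (LK LD1_c13 LD2_c38 LD3_c56))))))
theorem f466506 : Led Lsl_dt (LP (LK LD1_c13 LD2_c26 LD3_c54)) = (LP (LK LD1_c7 LD2_c5 LD3_c45)) :=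
  Lre_d IH (LK LD1_c13 LD2_c26 LD3_c54) (LK LD1_c7 LD2_c5 LD3_c45) Lrfl Lrfl
theorem f441673 : Led Lsl_dt (LP (LK LD1_c7 LD2_c12 LD3_c36)) = (LP (LK LD1_c13 LD2_c38 LD3_c56)) :=
  Lre_d IH (LK LD1_c7 LD2_c12 LD3_c36) (LK LD1_c13 LD2_c38 LD3_c56) Lrfl Lrfl
theorem f512095 : Led Lsl_ft (LP (LK LD1_c7 LD2_c5 LD3_c45)) = (LP (LK LD1_c7 LD2_c12 LD3_c36)) :=
  Lgr Lrot54 (Lpe (f466506 IH) (Lpr_ff (f512083 IH) (Lpe (f441673 IH) (Lpn (LP (LK LD1_c7 LD2_c12 LD3_c36))))))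
theorem f466477 : Led Lsl_bt (LP (LK LD1_c7 LD2_c3 LD3_c39)) = (LP (LK LD1_c3 LD2_c30 LD3_c52)) :=
  Lre_b IH (LK LD1_c7 LD2_c3 LD3_c39) (LK LD1_c3 LD2_c30 LD3_c52) Lrfl Lrfl
theorem f64665 : Led Lsl_ct (LP (LK LD1_c7 LD2_c3 LD3_c39)) = (LP (LK LD1_c3 LD2_c30 LD3_c55)) :=
  Lre_c IH (LK LD1_c7 LD2_c3 LD3_c39) (LK LD1_c3 LD2_c30 LD3_c55) Lrfl Lrfl
theorem f466489 : Led Lsl_gt (LP (LK LD1_c7 LD2_c3 LD3_c47)) = (LP (LK LD1_c3 LD2_c30 LD3_c55)) :=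
  Lre_g IH (LK LD1_c7 LD2_c3 LD3_c47) (LK LD1_c3 LD2_c30 LD3_c55) Lrfl Lrfl
theorem f208979 : Led Lsl_ft (LP (LK LD1_c1 LD2_c46 LD3_c14)) = (LP (LK LD1_c3 LD2_c38 LD3_c31)) :=
  Lre_f IH (LK LD1_c1 LD2_c46 LD3_c14) (LK LD1_c3 LD2_c38 LD3_c31) Lrfl Lrfl
theorem f439447 : Led Lsl_at (LP (LK LD1_c3 LD2_c38 LD3_c31)) = (LP (LK LD1_c3 LD2_c39 LD3_c25)) :=
  Lgr Lrot100 (Lpr_af (K28.f439445 IH) (Lpn (LP (LK LD1_c3 LD2_c39 LD3_c25))))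
theorem f464324 : Led Lsl_gf (LP (LK LD1_c3 LD2_c39 LD3_c25)) = (LP (LK LD1_c3 LD2_c31 LD3_c20)) :=
  Lgr Lrot76 (Lpe (f439447 IH) (Lpe (f208979 IH) (Lpr_gt (K28.f464322 IH) (Lpn (LP (LK LD1_c3 LD2_c31 LD3_c20))))))
theorem f92329 : Led Lsl_bt (LP (LK LD1_c7 LD2_c18 LD3_c61)) = (LP (LK LD1_c3 LD2_c39 LD3_c25)) :=
  Lre_b IH (LK LD1_c7 LD2_c18 LD3_c61) (LK LD1_c3 LD2_c39 LD3_c25) Lrfl Lrfl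
theorem f466490 : Led Lsl_cf (LP (LK LD1_c7 LD2_c3 LD3_c47)) = (LP (LK LD1_c7 LD2_c18 LD3_c61)) :=
  Lgr Lrot160 (Lpr_gt (f466489 IH) (Lpe (f64665 IH) (Lpr_bt (f466477 IH) (Lpr_gt (K28.f466466 IH) (Lpr_ct (K3.f92413 IH) (Lpr_gt (K28.f455822 IH) (Lpqs (K28.f464172 IH) (Lpe (K28.f16706 IH) (Lpe (K28.f458529 IH) (Lpe (f464324 IH) (Lpe (f92329 IH) (Lpn (LP (LK LD1_c7 LD2_c18 LD3_c61))))))))))))))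
theorem f92333 : Led Lsl_gt (LP (LK LD1_c13 LD2_c50 LD3_c23)) = (LP (LK LD1_c7 LD2_c18 LD3_c61)) :=
  Lre_g IH (LK LD1_c13 LD2_c50 LD3_c23) (LK LD1_c7 LD2_c18 LD3_c61) Lrfl Lrfl
theorem f92396 : Led Lsl_bt (LP (LK LD1_c3 LD2_c45 LD3_c42)) = (LP (LK LD1_c1 LD2_c49 LD3_c59)) :=
  Lre_b IH (LK LD1_c3 LD2_c45 LD3_c42) (LK LD1_c1 LD2_c49 LD3_c59) Lrfl Lrfl
theorem f92400 : Led Lsl_cf (LP (LK LD1_c3 LD2_c45 LD3_c42)) = (LP (LK LD1_c3 LD2_c32 LD3_c38)) :=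
  Lgr Lrot97 (Lpr_bt (f92396 IH) (Lpr_ct (K4.f92355 IH) (Lpr_bt (K3.f92397 IH) (Lpr_ct (K28.f92398 IH) (Lpr_bt (f92399 IH) (Lpn (LP (LK LD1_c3 LD2_c32 LD3_c38))))))))
theorem f92408 : Led Lsl_gt (LP (LK LD1_c3 LD2_c45 LD3_c42)) = (LP (LK LD1_c7 LD2_c32 LD3_c3)) :=
  Lre_g IH (LK LD1_c3 LD2_c45 LD3_c42) (LK LD1_c7 LD2_c32 LD3_c3) Lrfl Lrfl
theorem f92476 : Led Lsl_ct (LP (LK LD1_c14 LD2_c12 LD3_c35)) = (LP (LK LD1_c7 LD2_c32 LD3_c3)) :=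
  Lre_c IH (LK LD1_c14 LD2_c12 LD3_c35) (LK LD1_c7 LD2_c32 LD3_c3) Lrfl Lrfl
theorem f466495 : Led Lsl_bf (LP (LK LD1_c13 LD2_c50 LD3_c23)) = (LP (LK LD1_c14 LD2_c12 LD3_c35)) :=
  Lgr Lrot165 (Lpr_gt (f92333 IH) (Lpe (f466490 IH) (Lpr_gt (f466489 IH) (Lpe (f64665 IH) (Lpr_bt (f466477 IH) (Lpr_gt (K28.f466466 IH) (Lpe (K4.f92414 IH) (Lpe (f92400 IH) (Lpr_gt (f92408 IH) (Lpe (f92476 IH) (Lpn (LP (LK LD1_c14 LD2_c12 LD3_c35)))))))))))))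
theorem f92322 : Led Lsl_ct (LP (LK LD1_c3 LD2_c39 LD3_c25)) = (LP (LK LD1_c3 LD2_c32 LD3_c12)) :=
  Lgr Lrot59 (Lpr_cf (K4.f92312 IH) (Lpn (LP (LK LD1_c3 LD2_c32 LD3_c12))))
theorem f464567 : Led Lsl_cf (LP (LK LD1_c3 LD2_c36 LD3_c0)) = (LP (LK LD1_c3 LD2_c32 LD3_c22)) :=
  Lgr Lrot11 (Lpr_ct (K28.f464562 IH) (Lpn (LP (LK LD1_c3 LD2_c32 LD3_c22))))
theorem f464564 : Led Lsl_bt (LP (LK LD1_c3 LD2_c32 LD3_c22)) = (LP (LK LD1_c7 LD2_c5 LD3_c45)) :=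
  Lre_b IH (LK LD1_c3 LD2_c32 LD3_c22) (LK LD1_c7 LD2_c5 LD3_c45) Lrfl Lrfl
theorem f466501 : Led Lsl_gt (LP (LK LD1_c7 LD2_c5 LD3_c45)) = (LP (LK LD1_c3 LD2_c32 LD3_c38)) :=
  Lgr Lrot82 (Lpe (f464564 IH) (Lpe (f464567 IH) (Lpe (K28.f121766 IH) (Lpe (f92322 IH) (Lpr_bt (K4.f92321 IH) (Lpe (f92333 IH) (Lpr_bf (f466495 IH) (Lpr_ct (f92476 IH) (Lpe (f92408 IH) (Lpr_cf (f92400 IH) (Lpn (LP (LK LD1_c3 LD2_c32 LD3_c38)))))))))))))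
theorem f18731 : Led Lsl_bt (LP (LK LD1_c13 LD2_c20 LD3_c12)) = (LP (LK LD1_c7 LD2_c1 LD3_c54)) :=
  Lre_b IH (LK LD1_c13 LD2_c20 LD3_c12) (LK LD1_c7 LD2_c1 LD3_c54) Lrfl Lrfl
theorem f466509 : Led Lsl_cf (LP (LK LD1_c7 LD2_c5 LD3_c45)) = (LP (LK LD1_c13 LD2_c20 LD3_c12)) :=
  Lgr Lrot160 (Lpr_gt (f466501 IH) (Lpe (K4.f92415 IH) (Lpr_bt (f92396 IH) (Lpr_gt (K29.f460222 IH) (Lpr_ct (K28.f63020 IH) (Lpr_gt (K24.f62798 IH) (Lpe (K28.f446518 IH) (Lpr_bt (K28.f18204 IH) (Lpr_gt (K28.f18964 IH) (Lpe (f18731 IH) (Lpn (LP (LK LD1_c13 LD2_c20 LD3_c12)))))))))))))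
theorem f466269 : Led Lsl_bt (LP (LK LD1_c3 LD2_c36 LD3_c8)) = (LP (LK LD1_c7 LD2_c12 LD3_c36)) :=
  Lre_b IH (LK LD1_c3 LD2_c36 LD3_c8) (LK LD1_c7 LD2_c12 LD3_c36) Lrfl Lrfl
theorem f466210 : Led Lsl_ct (LP (LK LD1_c3 LD2_c30 LD3_c8)) = (LP (LK LD1_c3 LD2_c40 LD3_c59)) :=
  Lgr Lrot59 (Lpr_cf (K28.f466207 IH) (Lpn (LP (LK LD1_c3 LD2_c40 LD3_c59))))
theorem f466270 : Led Lsl_ct (LP (LK LD1_c7 LD2_c12 LD3_c36)) = (LP (LK LD1_c7 LD2_c1 LD3_c58)) :=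
  Lgr Lrot83 (Lpe (f466269 IH) (Lpr_cf (K28.f466267 IH) (Lpr_bf (K28.f466217 IH) (Lpe (f466210 IH) (Lpe (K28.f18708 IH) (Lpn (LP (LK LD1_c7 LD2_c1 LD3_c58))))))))
theorem f512099 : Led Lsl_ff (LP (LK LD1_c13 LD2_c20 LD3_c12)) = (LP (LK LD1_c7 LD2_c1 LD3_c58)) :=
  Lgr Lrot23 (Lpe (f466509 IH) (Lpr_ft (f512095 IH) (Lpr_ct (f466270 IH) (Lpn (LP (LK LD1_c7 LD2_c1 LD3_c58))))))
theorem f512105 : Led Lsl_ft (LP (LK LD1_c13 LD2_c20 LD3_c12)) = (LP (LK LD1_c7 LD2_c1 LD3_c58)) :=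
  Lgr Lrot48 (Lpr_ff (f512099 IH) (Lpn (LP (LK LD1_c7 LD2_c1 LD3_c58))))
theorem f463909 : Led Lsl_bt (LP (LK LD1_c7 LD2_c1 LD3_c54)) = (LP (LK LD1_c13 LD2_c20 LD3_c12)) :=
  Lre_b IH (LK LD1_c7 LD2_c1 LD3_c54) (LK LD1_c13 LD2_c20 LD3_c12) Lrfl Lrfl
theorem f512107 : Led Lsl_ff (LP (LK LD1_c7 LD2_c1 LD3_c54)) = (LP (LK LD1_c3 LD2_c30 LD3_c8)) :=
  Lgr Lrot25 (Lpr_bt (f463909 IH) (Lpr_ft (f512105 IH) (Lpr_bt (K28.f18708 IH) (Lpn (LP (LK LD1_c3 LD2_c30 LD3_c8))))))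
theorem f512124 : Led Lsl_at (LP (LK LD1_c7 LD2_c1 LD3_c54)) = (LP (LK LD1_c3 LD2_c30 LD3_c9)) :=
  Lgr Lrot26 (Lpr_ff (f512107 IH) (Lpr_gt (K28.f18707 IH) (Lpr_gt (K28.f18701 IH) (Lpn (LP (LK LD1_c3 LD2_c30 LD3_c9))))))
theorem f512129 : Led Lsl_af (LP (LK LD1_c3 LD2_c44 LD3_c52)) = (LP (LK LD1_c3 LD2_c40 LD3_c60)) :=
  Lgr Lrot68 (Lpr_ct (K28.f463903 IH) (Lpr_at (f512124 IH) (Lpe (K28.f464524 IH) (Lpn (LP (LK LD1_c3 LD2_c40 LD3_c60))))))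
theorem f512148 : Led Lsl_ft (LP (LK LD1_c3 LD2_c30 LD3_c60)) = (LP (LK LD1_c3 LD2_c40 LD3_c60)) :=
  Lgr Lrot2 (Lpe (K28.f463578 IH) (Lpr_gt (K28.f122026 IH) (Lpr_af (f512129 IH) (Lpn (LP (LK LD1_c3 LD2_c40 LD3_c60))))))
theorem f512156 : Led Lsl_ff (LP (LK LD1_c3 LD2_c30 LD3_c60)) = (LP (LK LD1_c3 LD2_c40 LD3_c60)) :=
  Lgr Lrot3 (Lpr_ft (f512148 IH) (Lpn (LP (LK LD1_c3 LD2_c40 LD3_c60))))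
theorem f512162 : Led Lsl_ft (LP (LK LD1_c7 LD2_c1 LD3_c53)) = (LP (LK LD1_c3 LD2_c30 LD3_c9)) :=
  Lgr Lrot4 (Lpr_cf (K28.f457431 IH) (Lpr_ff (f512156 IH) (Lpr_cf (K28.f464524 IH) (Lpn (LP (LK LD1_c3 LD2_c30 LD3_c9))))))
theorem f91749 : Led Lsl_dt (LP (LK LD1_c13 LD2_c20 LD3_c11)) = (LP (LK LD1_c7 LD2_c1 LD3_c53)) :=
  Lre_d IH (LK LD1_c13 LD2_c20 LD3_c11) (LK LD1_c7 LD2_c1 LD3_c53) Lrfl Lrfl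
theorem f18702 : Led Lsl_dt (LP (LK LD1_c3 LD2_c30 LD3_c9)) = (LP (LK LD1_c7 LD2_c2 LD3_c0)) :=
  Lre_d IH (LK LD1_c3 LD2_c30 LD3_c9) (LK LD1_c7 LD2_c2 LD3_c0) Lrfl Lrfl
theorem f512168 : Led Lsl_ff (LP (LK LD1_c13 LD2_c20 LD3_c11)) = (LP (LK LD1_c7 LD2_c2 LD3_c0)) :=
  Lgr Lrot19 (Lpr_dt (f91749 IH) (Lpr_ft (f512162 IH) (Lpr_dt (f18702 IH) (Lpn (LP (LK LD1_c7 LD2_c2 LD3_c0))))))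
theorem f512176 : Led Lsl_ft (LP (LK LD1_c13 LD2_c20 LD3_c11)) = (LP (LK LD1_c7 LD2_c2 LD3_c0)) :=
  Lgr Lrot48 (Lpr_ff (f512168 IH) (Lpn (LP (LK LD1_c7 LD2_c2 LD3_c0))))
theorem f91745 : Led Lsl_ct (LP (LK LD1_c22 LD2_c36 LD3_c42)) = (LP (LK LD1_c13 LD2_c20 LD3_c11)) :=
  Lre_c IH (LK LD1_c22 LD2_c36 LD3_c42) (LK LD1_c13 LD2_c20 LD3_c11) Lrfl Lrfl
theorem f18703 : Led Lsl_ct (LP (LK LD1_c7 LD2_c2 LD3_c0)) = (LP (LK LD1_c13 LD2_c20 LD3_c27)) :=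
  Lre_c IH (LK LD1_c7 LD2_c2 LD3_c0) (LK LD1_c13 LD2_c20 LD3_c27) Lrfl Lrfl
theorem f512182 : Led Lsl_ff (LP (LK LD1_c22 LD2_c36 LD3_c42)) = (LP (LK LD1_c13 LD2_c20 LD3_c27)) :=
  Lgr Lrot23 (Lpr_ct (f91745 IH) (Lpr_ft (f512176 IH) (Lpr_ct (f18703 IH) (Lpn (LP (LK LD1_c13 LD2_c20 LD3_c27))))))
theorem f463905 : Led Lsl_dt (LP (LK LD1_c13 LD2_c20 LD3_c13)) = (LP (LK LD1_c7 LD2_c1 LD3_c54)) :=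
  Lre_d IH (LK LD1_c13 LD2_c20 LD3_c13) (LK LD1_c7 LD2_c1 LD3_c54) Lrfl Lrfl
theorem f512131 : Led Lsl_af (LP (LK LD1_c13 LD2_c20 LD3_c13)) = (LP (LK LD1_c7 LD2_c2 LD3_c0)) :=
  Lgr Lrot117 (Lpr_dt (f463905 IH) (Lpr_at (f512124 IH) (Lpr_dt (f18702 IH) (Lpn (LP (LK LD1_c7 LD2_c2 LD3_c0))))))
theorem f462009 : Led Lsl_ct (LP (LK LD1_c13 LD2_c20 LD3_c13)) = (LP (LK LD1_c22 LD2_c36 LD3_c44)) :=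
  Lre_c IH (LK LD1_c13 LD2_c20 LD3_c13) (LK LD1_c22 LD2_c36 LD3_c44) Lrfl Lrfl
theorem f464529 : Led Lsl_ct (LP (LK LD1_c13 LD2_c20 LD3_c27)) = (LP (LK LD1_c7 LD2_c2 LD3_c0)) :=
  Lre_c IH (LK LD1_c13 LD2_c20 LD3_c27) (LK LD1_c7 LD2_c2 LD3_c0) Lrfl Lrfl
theorem f512136 : Led Lsl_at (LP (LK LD1_c22 LD2_c36 LD3_c44)) = (LP (LK LD1_c13 LD2_c20 LD3_c27)) :=
  Lgr Lrot107 (Lpe (f462009 IH) (Lpr_af (f512131 IH) (Lpe (f464529 IH) (Lpn (LP (LK LD1_c13 LD2_c20 LD3_c27))))))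
theorem f466513 : Led Lsl_dt (LP (LK LD1_c22 LD2_c36 LD3_c43)) = (LP (LK LD1_c13 LD2_c20 LD3_c12)) :=
  Lre_d IH (LK LD1_c22 LD2_c36 LD3_c43) (LK LD1_c13 LD2_c20 LD3_c12) Lrfl Lrfl
theorem f97658 : Led Lsl_dt (LP (LK LD1_c7 LD2_c1 LD3_c58)) = (LP (LK LD1_c13 LD2_c20 LD3_c18)) :=
  Lre_d IH (LK LD1_c7 LD2_c1 LD3_c58) (LK LD1_c13 LD2_c20 LD3_c18) Lrfl Lrfl
theorem f512109 : Led Lsl_ff (LP (LK LD1_c22 LD2_c36 LD3_c43)) = (LP (LK LD1_c13 LD2_c20 LD3_c18)) :=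
  Lgr Lrot19 (Lpr_dt (f466513 IH) (Lpr_ft (f512105 IH) (Lpr_dt (f97658 IH) (Lpn (LP (LK LD1_c13 LD2_c20 LD3_c18))))))
theorem f512112 : Led Lsl_bt (LP (LK LD1_c22 LD2_c36 LD3_c43)) = (LP (LK LD1_c13 LD2_c20 LD3_c13)) :=
  Lre_b IH (LK LD1_c22 LD2_c36 LD3_c43) (LK LD1_c13 LD2_c20 LD3_c13) Lrfl Lrfl
theorem f512113 : Led Lsl_bt (LP (LK LD1_c7 LD2_c1 LD3_c59)) = (LP (LK LD1_c13 LD2_c20 LD3_c18)) :=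
  Lre_b IH (LK LD1_c7 LD2_c1 LD3_c59) (LK LD1_c13 LD2_c20 LD3_c18) Lrfl Lrfl
theorem f512114 : Led Lsl_ft (LP (LK LD1_c13 LD2_c20 LD3_c13)) = (LP (LK LD1_c7 LD2_c1 LD3_c59)) :=
  Lgr Lrot75 (Lpe (f512112 IH) (Lpr_ff (f512109 IH) (Lpe (f512113 IH) (Lpn (LP (LK LD1_c7 LD2_c1 LD3_c59))))))
theorem f463906 : Led Lsl_ct (LP (LK LD1_c22 LD2_c36 LD3_c44)) = (LP (LK LD1_c13 LD2_c20 LD3_c13)) :=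
  Lre_c IH (LK LD1_c22 LD2_c36 LD3_c44) (LK LD1_c13 LD2_c20 LD3_c13) Lrfl Lrfl
theorem f466212 : Led Lsl_ct (LP (LK LD1_c7 LD2_c1 LD3_c59)) = (LP (LK LD1_c13 LD2_c20 LD3_c21)) :=
  Lre_c IH (LK LD1_c7 LD2_c1 LD3_c59) (LK LD1_c13 LD2_c20 LD3_c21) Lrfl Lrfl
theorem f512116 : Led Lsl_ff (LP (LK LD1_c22 LD2_c36 LD3_c44)) = (LP (LK LD1_c13 LD2_c20 LD3_c21)) :=
  Lgr Lrot23 (Lpr_ct (f463906 IH) (Lpr_ft (f512114 IH) (Lpr_ct (f466212 IH) (Lpn (LP (LK LD1_c13 LD2_c20 LD3_c21))))))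
theorem f512186 : Led Lsl_at (LP (LK LD1_c22 LD2_c36 LD3_c42)) = (LP (LK LD1_c13 LD2_c20 LD3_c21)) :=
  Lgr Lrot66 (Lpr_ff (f512182 IH) (Lpe (f512136 IH) (Lpr_ff (f512116 IH) (Lpn (LP (LK LD1_c13 LD2_c20 LD3_c21))))))
theorem f91876 : Led Lsl_et (LP (LK LD1_c3 LD2_c27 LD3_c29)) = (LP (LK LD1_c6 LD2_c57 LD3_c9)) :=
  Lre_e IH (LK LD1_c3 LD2_c27 LD3_c29) (LK LD1_c6 LD2_c57 LD3_c9) Lrfl Lrfl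
theorem f15338 : Led Lsl_dt (LP (LK LD1_c6 LD2_c57 LD3_c9)) = (LP (LK LD1_c13 LD2_c12 LD3_c10)) :=
  Lre_d IH (LK LD1_c6 LD2_c57 LD3_c9) (LK LD1_c13 LD2_c12 LD3_c10) Lrfl Lrfl
theorem f91877 : Led Lsl_ef (LP (LK LD1_c13 LD2_c20 LD3_c11)) = (LP (LK LD1_c13 LD2_c12 LD3_c10)) :=
  Lgr Lrot73 (Lpr_dt (f91749 IH) (Lpr_et (K28.f90930 IH) (Lpr_dt (K2.f15301 IH) (Lpr_et (f91876 IH) (Lpr_dt (f15338 IH) (Lpn (LP (LK LD1_c13 LD2_c12 LD3_c10))))))))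
theorem f18729 : Led Lsl_ct (LP (LK LD1_c13 LD2_c20 LD3_c11)) = (LP (LK LD1_c22 LD2_c36 LD3_c42)) :=
  Lre_c IH (LK LD1_c13 LD2_c20 LD3_c11) (LK LD1_c22 LD2_c36 LD3_c42) Lrfl Lrfl
theorem f91883 : Led Lsl_ct (LP (LK LD1_c22 LD2_c25 LD3_c32)) = (LP (LK LD1_c13 LD2_c12 LD3_c10)) :=
  Lre_c IH (LK LD1_c22 LD2_c25 LD3_c32) (LK LD1_c13 LD2_c12 LD3_c10) Lrfl Lrfl
theorem f91884 : Led Lsl_et (LP (LK LD1_c22 LD2_c36 LD3_c42)) = (LP (LK LD1_c22 LD2_c25 LD3_c32)) :=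
  Lgr Lrot158 (Lpe (f18729 IH) (Lpr_ef (f91877 IH) (Lpe (f91883 IH) (Lpn (LP (LK LD1_c22 LD2_c25 LD3_c32))))))
theorem f91887 : Led Lsl_ef (LP (LK LD1_c22 LD2_c36 LD3_c42)) = (LP (LK LD1_c22 LD2_c25 LD3_c32)) :=
  Lgr Lrot88 (Lpr_et (f91884 IH) (Lpn (LP (LK LD1_c22 LD2_c25 LD3_c32))))
theorem f512122 : Led Lsl_et (LP (LK LD1_c13 LD2_c20 LD3_c21)) = (LP (LK LD1_c22 LD2_c36 LD3_c53)) :=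
  Lre_e IH (LK LD1_c13 LD2_c20 LD3_c21) (LK LD1_c22 LD2_c36 LD3_c53) Lrfl Lrfl
theorem f512193 : Led Lsl_af (LP (LK LD1_c22 LD2_c25 LD3_c32)) = (LP (LK LD1_c22 LD2_c36 LD3_c53)) :=
  Lgr Lrot50 (Lpe (f91887 IH) (Lpr_at (f512186 IH) (Lpr_et (f512122 IH) (Lpn (LP (LK LD1_c22 LD2_c36 LD3_c53))))))
theorem f97606 : Led Lsl_ct (LP (LK LD1_c13 LD2_c20 LD3_c22)) = (LP (LK LD1_c22 LD2_c36 LD3_c53)) :=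
  Lre_c IH (LK LD1_c13 LD2_c20 LD3_c22) (LK LD1_c22 LD2_c36 LD3_c53) Lrfl Lrfl
theorem f512197 : Led Lsl_at (LP (LK LD1_c13 LD2_c12 LD3_c10)) = (LP (LK LD1_c13 LD2_c20 LD3_c22)) :=
  Lgr Lrot107 (Lpe (f91883 IH) (Lpr_af (f512193 IH) (Lpe (f97606 IH) (Lpn (LP (LK LD1_c13 LD2_c20 LD3_c22))))))
theorem f97592 : Led Lsl_dt (LP (LK LD1_c7 LD2_c1 LD3_c59)) = (LP (LK LD1_c3 LD2_c30 LD3_c8)) :=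
  Lre_d IH (LK LD1_c7 LD2_c1 LD3_c59) (LK LD1_c3 LD2_c30 LD3_c8) Lrfl Lrfl
theorem f97593 : Led Lsl_et (LP (LK LD1_c13 LD2_c20 LD3_c22)) = (LP (LK LD1_c7 LD2_c1 LD3_c59)) :=
  Lre_e IH (LK LD1_c13 LD2_c20 LD3_c22) (LK LD1_c7 LD2_c1 LD3_c59) Lrfl Lrfl
theorem f97594 : Led Lsl_et (LP (LK LD1_c6 LD2_c54 LD3_c27)) = (LP (LK LD1_c13 LD2_c7 LD3_c35)) :=
  Lre_e IH (LK LD1_c6 LD2_c54 LD3_c27) (LK LD1_c13 LD2_c7 LD3_c35) Lrfl Lrfl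
theorem f97595 : Led Lsl_df (LP (LK LD1_c13 LD2_c20 LD3_c22)) = (LP (LK LD1_c13 LD2_c7 LD3_c35)) :=
  Lgr Lrot70 (Lpr_et (f97593 IH) (Lpr_dt (f97592 IH) (Lpr_et (K29.f97591 IH) (Lpr_dt (K29.f97583 IH) (Lpr_et (f97594 IH) (Lpn (LP (LK LD1_c13 LD2_c7 LD3_c35))))))))
theorem f97608 : Led Lsl_dt (LP (LK LD1_c13 LD2_c20 LD3_c22)) = (LP (LK LD1_c13 LD2_c7 LD3_c35)) :=
  Lgr Lrot42 (Lpr_df (f97595 IH) (Lpn (LP (LK LD1_c13 LD2_c7 LD3_c35))))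
theorem f512202 : Led Lsl_af (LP (LK LD1_c6 LD2_c57 LD3_c9)) = (LP (LK LD1_c13 LD2_c7 LD3_c35)) :=
  Lgr Lrot117 (Lpr_dt (f15338 IH) (Lpr_at (f512197 IH) (Lpr_dt (f97608 IH) (Lpn (LP (LK LD1_c13 LD2_c7 LD3_c35))))))
theorem f15337 : Led Lsl_et (LP (LK LD1_c6 LD2_c57 LD3_c9)) = (LP (LK LD1_c3 LD2_c27 LD3_c29)) :=
  Lre_e IH (LK LD1_c6 LD2_c57 LD3_c9) (LK LD1_c3 LD2_c27 LD3_c29) Lrfl Lrfl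
theorem f512214 : Led Lsl_at (LP (LK LD1_c3 LD2_c27 LD3_c29)) = (LP (LK LD1_c6 LD2_c54 LD3_c27)) :=
  Lgr Lrot80 (Lpe (f15337 IH) (Lpr_af (f512202 IH) (Lpe (f97594 IH) (Lpn (LP (LK LD1_c6 LD2_c54 LD3_c27))))))
theorem f512226 : Led Lsl_ff (LP (LK LD1_c3 LD2_c27 LD3_c29)) = (LP (LK LD1_c6 LD2_c54 LD3_c26)) :=
  Lgr Lrot52 (Lpr_at (f512214 IH) (Lpe (K29.f15394 IH) (Lpe (K29.f15392 IH) (Lpn (LP (LK LD1_c6 LD2_c54 LD3_c26))))))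
theorem f512234 : Led Lsl_ft (LP (LK LD1_c3 LD2_c27 LD3_c29)) = (LP (LK LD1_c6 LD2_c54 LD3_c26)) :=
  Lgr Lrot48 (Lpr_ff (f512226 IH) (Lpn (LP (LK LD1_c6 LD2_c54 LD3_c26))))
theorem f512243 : Led Lsl_af (LP (LK LD1_c3 LD2_c27 LD3_c28)) = (LP (LK LD1_c6 LD2_c54 LD3_c26)) :=
  Lgr Lrot31 (Lpe (K28.f15460 IH) (Lpe (K2.f15464 IH) (Lpr_ft (f512234 IH) (Lpn (LP (LK LD1_c6 LD2_c54 LD3_c26))))))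
theorem f512217 : Led Lsl_af (LP (LK LD1_c3 LD2_c27 LD3_c29)) = (LP (LK LD1_c6 LD2_c54 LD3_c27)) :=
  Lgr Lrot0 (Lpr_at (f512214 IH) (Lpn (LP (LK LD1_c6 LD2_c54 LD3_c27))))
theorem f512256 : Led Lsl_ft (LP (LK LD1_c3 LD2_c27 LD3_c28)) = (LP (LK LD1_c6 LD2_c54 LD3_c27)) :=
  Lgr Lrot101 (Lpr_af (f512243 IH) (Lpe (f512234 IH) (Lpr_af (f512217 IH) (Lpn (LP (LK LD1_c6 LD2_c54 LD3_c27))))))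
theorem f512265 : Led Lsl_ff (LP (LK LD1_c3 LD2_c27 LD3_c28)) = (LP (LK LD1_c6 LD2_c54 LD3_c27)) :=
  Lgr Lrot3 (Lpr_ft (f512256 IH) (Lpn (LP (LK LD1_c6 LD2_c54 LD3_c27))))
theorem f15461 : Led Lsl_dt (LP (LK LD1_c3 LD2_c27 LD3_c28)) = (LP (LK LD1_c6 LD2_c57 LD3_c4)) :=
  Lre_d IH (LK LD1_c3 LD2_c27 LD3_c28) (LK LD1_c6 LD2_c57 LD3_c4) Lrfl Lrfl
theorem f512271 : Led Lsl_ft (LP (LK LD1_c6 LD2_c57 LD3_c4)) = (LP (LK LD1_c7 LD2_c1 LD3_c60)) :=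
  Lgr Lrot54 (Lpe (f15461 IH) (Lpr_ff (f512265 IH) (Lpe (K29.f97583 IH) (Lpn (LP (LK LD1_c7 LD2_c1 LD3_c60))))))
theorem f468342 : Led Lsl_ff (LP (LK LD1_c6 LD2_c58 LD3_c54)) = (LP (LK LD1_c3 LD2_c30 LD3_c36)) :=
  Lgr Lrot3 (Lpr_ft (K29.f468326 IH) (Lpn (LP (LK LD1_c3 LD2_c30 LD3_c36))))
theorem f468344 : Led Lsl_dt (LP (LK LD1_c7 LD2_c3 LD3_c9)) = (LP (LK LD1_c3 LD2_c30 LD3_c36)) :=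
  Lre_d IH (LK LD1_c7 LD2_c3 LD3_c9) (LK LD1_c3 LD2_c30 LD3_c36) Lrfl Lrfl
theorem f468345 : Led Lsl_ft (LP (LK LD1_c7 LD2_c22 LD3_c13)) = (LP (LK LD1_c7 LD2_c3 LD3_c9)) :=
  Lgr Lrot54 (Lpe (K29.f108812 IH) (Lpr_ff (f468342 IH) (Lpe (f468344 IH) (Lpn (LP (LK LD1_c7 LD2_c3 LD3_c9))))))
theorem f512278 : Led Lsl_cf (LP (LK LD1_c6 LD2_c57 LD3_c4)) = (LP (LK LD1_c7 LD2_c3 LD3_c9)) :=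
  Lgr Lrot108 (Lpr_ft (f512271 IH) (Lpr_ct (K29.f466213 IH) (Lpr_ft (f468345 IH) (Lpn (LP (LK LD1_c7 LD2_c3 LD3_c9))))))
theorem f15297 : Led Lsl_dt (LP (LK LD1_c6 LD2_c57 LD3_c4)) = (LP (LK LD1_c3 LD2_c27 LD3_c28)) :=
  Lre_d IH (LK LD1_c6 LD2_c57 LD3_c4) (LK LD1_c3 LD2_c27 LD3_c28) Lrfl Lrfl
theorem f468338 : Led Lsl_dt (LP (LK LD1_c3 LD2_c30 LD3_c36)) = (LP (LK LD1_c7 LD2_c3 LD3_c9)) :=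
  Lre_d IH (LK LD1_c3 LD2_c30 LD3_c36) (LK LD1_c7 LD2_c3 LD3_c9) Lrfl Lrfl
theorem f455541 : Led Lsl_at (LP (LK LD1_c1 LD2_c41 LD3_c55)) = (LP (LK LD1_c3 LD2_c30 LD3_c36)) :=
  Lre_a IH (LK LD1_c1 LD2_c41 LD3_c55) (LK LD1_c3 LD2_c30 LD3_c36) Lrfl Lrfl
theorem f512001 : Led Lsl_at (LP (LK LD1_c6 LD2_c58 LD3_c54)) = v2307 :=
  Lgr Lrot66 (Lpr_ff (f468342 IH) (Lpe (f455541 IH) (Lpr_ff (f512000 IH) (Lpn v2307))))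
theorem f512295 : (LP (LK LD1_c3 LD2_c29 LD3_c14)) = v2307 :=
  (Llr Lrot98 (Lpe (K28.f458366 IH) (Lpe (K28.f458369 IH) (Lpe (K28.f458370 IH) (Lpe (K28.f473065 IH) (Lpe (K28.f15471 IH) (Lpe (f15297 IH) (Lpr_cf (f512278 IH) (Lpe (f468338 IH) (Lpe (f468342 IH) (Lpr_at (f512001 IH) (Lpn v2307)))))))))))).symm
theorem f512300 : v621 = (LP (LK LD1_c1 LD2_c41 LD3_c19)) :=
  Lefun (Lecon (Lfl_bf (f511998 IH)) (f512295 IH).symm) (K28.f18796 IH)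
theorem f512301 : (LP (LK LD1_c0 LD2_c47 LD3_c29)) = v2294 :=
  Lefun (Lecon (Lfl_af (f455548 IH)) (f512300 IH)) (f511930 IH)
theorem f512314 : Led Lsl_ff (LP (LK LD1_c1 LD2_c41 LD3_c61)) = (LP (LK LD1_c3 LD2_c29 LD3_c12)) :=
  Lgr Lrot19 (Lpr_dt (K1.f62684 IH) (Lpqs (f512301 IH) (Lpe (f511929 IH) (Lpr_dt (K29.f18788 IH) (Lpn (LP (LK LD1_c3 LD2_c29 LD3_c12)))))))
theorem f512323 : Led Lsl_at (LP (LK LD1_c1 LD2_c41 LD3_c61)) = (LP (LK LD1_c3 LD2_c29 LD3_c16)) :=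
  Lgr Lrot26 (Lpr_ff (f512314 IH) (Lpr_gt (K29.f477170 IH) (Lpe (K29.f477183 IH) (Lpn (LP (LK LD1_c3 LD2_c29 LD3_c16))))))
theorem f512331 : Led Lsl_af (LP (LK LD1_c3 LD2_c28 LD3_c17)) = (LP (LK LD1_c1 LD2_c42 LD3_c2)) :=
  Lgr Lrot50 (Lpr_et (K24.f62763 IH) (Lpr_at (f512323 IH) (Lpe (K24.f129676 IH) (Lpn (LP (LK LD1_c1 LD2_c42 LD3_c2))))))
theorem f18871 : Led Lsl_ct (LP (LK LD1_c3 LD2_c28 LD3_c17)) = (LP (LK LD1_c6 LD2_c58 LD3_c48)) :=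
  Lre_c IH (LK LD1_c3 LD2_c28 LD3_c17) (LK LD1_c6 LD2_c58 LD3_c48) Lrfl Lrfl
theorem f512335 : Led Lsl_at (LP (LK LD1_c6 LD2_c58 LD3_c48)) = (LP (LK LD1_c3 LD2_c30 LD3_c61)) :=
  Lgr Lrot107 (Lpe (f18871 IH) (Lpr_af (f512331 IH) (Lpe (K24.f18605 IH) (Lpn (LP (LK LD1_c3 LD2_c30 LD3_c61))))))
theorem f512341 : Led Lsl_ff (LP (LK LD1_c6 LD2_c58 LD3_c48)) = (LP (LK LD1_c3 LD2_c31 LD3_c2)) :=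
  Lgr Lrot52 (Lpr_at (f512335 IH) (Lpe (K24.f460705 IH) (Lpr_gf (K28.f461822 IH) (Lpn (LP (LK LD1_c3 LD2_c31 LD3_c2))))))
theorem f512347 : Led Lsl_ft (LP (LK LD1_c6 LD2_c58 LD3_c48)) = (LP (LK LD1_c3 LD2_c31 LD3_c2)) :=
  Lgr Lrot48 (Lpr_ff (f512341 IH) (Lpn (LP (LK LD1_c3 LD2_c31 LD3_c2))))
theorem f512353 : Led Lsl_af (LP (LK LD1_c6 LD2_c58 LD3_c49)) = (LP (LK LD1_c3 LD2_c31 LD3_c2)) :=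
  Lgr Lrot31 (Lpe (K28.f463466 IH) (Lpr_gf (K24.f460120 IH) (Lpr_ft (f512347 IH) (Lpn (LP (LK LD1_c3 LD2_c31 LD3_c2))))))
theorem f512337 : Led Lsl_af (LP (LK LD1_c6 LD2_c58 LD3_c48)) = (LP (LK LD1_c3 LD2_c30 LD3_c61)) :=
  Lgr Lrot0 (Lpr_at (f512335 IH) (Lpn (LP (LK LD1_c3 LD2_c30 LD3_c61))))
theorem f512361 : Led Lsl_ft (LP (LK LD1_c6 LD2_c58 LD3_c49)) = (LP (LK LD1_c3 LD2_c30 LD3_c61)) :=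
  Lgr Lrot101 (Lpr_af (f512353 IH) (Lpe (f512347 IH) (Lpr_af (f512337 IH) (Lpn (LP (LK LD1_c3 LD2_c30 LD3_c61))))))
theorem f461814 : Led Lsl_dt (LP (LK LD1_c13 LD2_c15 LD3_c2)) = (LP (LK LD1_c6 LD2_c58 LD3_c49)) :=
  Lre_d IH (LK LD1_c13 LD2_c15 LD3_c2) (LK LD1_c6 LD2_c58 LD3_c49) Lrfl Lrfl
theorem f512363 : Led Lsl_ff (LP (LK LD1_c13 LD2_c15 LD3_c2)) = (LP (LK LD1_c7 LD2_c3 LD3_c60)) :=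
  Lgr Lrot19 (Lpr_dt (f461814 IH) (Lpr_ft (f512361 IH) (Lpr_dt (f129701 IH) (Lpn (LP (LK LD1_c7 LD2_c3 LD3_c60))))))
theorem f461815 : Led Lsl_dt (LP (LK LD1_c6 LD2_c58 LD3_c49)) = (LP (LK LD1_c13 LD2_c15 LD3_c2)) :=
  Lre_d IH (LK LD1_c6 LD2_c58 LD3_c49) (LK LD1_c13 LD2_c15 LD3_c2) Lrfl Lrfl
theorem f461826 : Led Lsl_dt (LP (LK LD1_c7 LD2_c4 LD3_c1)) = (LP (LK LD1_c3 LD2_c31 LD3_c2)) :=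
  Lre_d IH (LK LD1_c7 LD2_c4 LD3_c1) (LK LD1_c3 LD2_c31 LD3_c2) Lrfl Lrfl
theorem f512359 : Led Lsl_at (LP (LK LD1_c13 LD2_c15 LD3_c2)) = (LP (LK LD1_c7 LD2_c4 LD3_c1)) :=
  Lgr Lrot51 (Lpe (f461815 IH) (Lpr_af (f512353 IH) (Lpe (f461826 IH) (Lpn (LP (LK LD1_c7 LD2_c4 LD3_c1))))))
theorem f63079 : Led Lsl_dt (LP (LK LD1_c13 LD2_c15 LD3_c1)) = (LP (LK LD1_c6 LD2_c58 LD3_c48)) :=
  Lre_d IH (LK LD1_c13 LD2_c15 LD3_c1) (LK LD1_c6 LD2_c58 LD3_c48) Lrfl Lrfl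
theorem f461827 : Led Lsl_dt (LP (LK LD1_c3 LD2_c31 LD3_c2)) = (LP (LK LD1_c7 LD2_c4 LD3_c1)) :=
  Lre_d IH (LK LD1_c3 LD2_c31 LD3_c2) (LK LD1_c7 LD2_c4 LD3_c1) Lrfl Lrfl
theorem f512351 : Led Lsl_ff (LP (LK LD1_c13 LD2_c15 LD3_c1)) = (LP (LK LD1_c7 LD2_c4 LD3_c1)) :=
  Lgr Lrot19 (Lpr_dt (f63079 IH) (Lpr_ft (f512347 IH) (Lpr_dt (f461827 IH) (Lpn (LP (LK LD1_c7 LD2_c4 LD3_c1))))))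
theorem f512450 : Led Lsl_at (LP (LK LD1_c13 LD2_c15 LD3_c1)) = (LP (LK LD1_c7 LD2_c3 LD3_c60)) :=
  Lgr Lrot66 (Lpr_ff (f512351 IH) (Lpe (f512359 IH) (Lpr_ff (f512363 IH) (Lpn (LP (LK LD1_c7 LD2_c3 LD3_c60))))))
theorem f63073 : Led Lsl_et (LP (LK LD1_c22 LD2_c30 LD3_c0)) = (LP (LK LD1_c13 LD2_c15 LD3_c1)) :=
  Lre_e IH (LK LD1_c22 LD2_c30 LD3_c0) (LK LD1_c13 LD2_c15 LD3_c1) Lrfl Lrfl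
theorem f129702 : Led Lsl_et (LP (LK LD1_c7 LD2_c3 LD3_c60)) = (LP (LK LD1_c13 LD2_c23 LD3_c48)) :=
  Lre_e IH (LK LD1_c7 LD2_c3 LD3_c60) (LK LD1_c13 LD2_c23 LD3_c48) Lrfl Lrfl
theorem f512464 : Led Lsl_af (LP (LK LD1_c22 LD2_c30 LD3_c0)) = (LP (LK LD1_c13 LD2_c23 LD3_c48)) :=
  Lgr Lrot50 (Lpr_et (f63073 IH) (Lpr_at (f512450 IH) (Lpr_et (f129702 IH) (Lpn (LP (LK LD1_c13 LD2_c23 LD3_c48))))))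
theorem f63059 : Led Lsl_dt (LP (LK LD1_c6 LD2_c58 LD3_c48)) = (LP (LK LD1_c13 LD2_c15 LD3_c1)) :=
  Lre_d IH (LK LD1_c6 LD2_c58 LD3_c48) (LK LD1_c13 LD2_c15 LD3_c1) Lrfl Lrfl
theorem f63060 : Led Lsl_et (LP (LK LD1_c13 LD2_c15 LD3_c1)) = (LP (LK LD1_c22 LD2_c30 LD3_c0)) :=
  Lre_e IH (LK LD1_c13 LD2_c15 LD3_c1) (LK LD1_c22 LD2_c30 LD3_c0) Lrfl Lrfl
theorem f63062 : Led Lsl_et (LP (LK LD1_c13 LD2_c23 LD3_c41)) = (LP (LK LD1_c7 LD2_c3 LD3_c56)) :=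
  Lre_e IH (LK LD1_c13 LD2_c23 LD3_c41) (LK LD1_c7 LD2_c3 LD3_c56) Lrfl Lrfl
theorem f63063 : Led Lsl_dt (LP (LK LD1_c22 LD2_c30 LD3_c0)) = (LP (LK LD1_c13 LD2_c23 LD3_c41)) :=
  Lgr Lrot77 (Lpe (f63060 IH) (Lpe (f63059 IH) (Lpr_ef (K24.f63053 IH) (Lpe (K29.f63061 IH) (Lpe (f63062 IH) (Lpn (LP (LK LD1_c13 LD2_c23 LD3_c41))))))))
theorem f129704 : Led Lsl_et (LP (LK LD1_c22 LD2_c33 LD3_c5)) = (LP (LK LD1_c13 LD2_c17 LD3_c20)) :=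
  Lre_e IH (LK LD1_c22 LD2_c33 LD3_c5) (LK LD1_c13 LD2_c17 LD3_c20) Lrfl Lrfl
theorem f129705 : Led Lsl_dt (LP (LK LD1_c13 LD2_c23 LD3_c48)) = (LP (LK LD1_c22 LD2_c33 LD3_c5)) :=
  Lgr Lrot77 (Lpe (f129702 IH) (Lpe (f129701 IH) (Lpr_ef (K24.f129695 IH) (Lpe (K29.f129703 IH) (Lpe (f129704 IH) (Lpn (LP (LK LD1_c22 LD2_c33 LD3_c5))))))))
theorem f129713 : Led Lsl_df (LP (LK LD1_c13 LD2_c23 LD3_c48)) = (LP (LK LD1_c22 LD2_c33 LD3_c5)) :=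
  Lgr Lrot38 (Lpr_dt (f129705 IH) (Lpn (LP (LK LD1_c22 LD2_c33 LD3_c5))))
theorem f512475 : Led Lsl_at (LP (LK LD1_c13 LD2_c23 LD3_c41)) = (LP (LK LD1_c22 LD2_c33 LD3_c5)) :=
  Lgr Lrot51 (Lpe (f63063 IH) (Lpr_af (f512464 IH) (Lpr_df (f129713 IH) (Lpn (LP (LK LD1_c22 LD2_c33 LD3_c5))))))
theorem f63081 : Led Lsl_ft (LP (LK LD1_c22 LD2_c41 LD3_c28)) = (LP (LK LD1_c13 LD2_c23 LD3_c41)) :=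
  Lre_f IH (LK LD1_c22 LD2_c41 LD3_c28) (LK LD1_c13 LD2_c23 LD3_c41) Lrfl Lrfl
theorem f129716 : Led Lsl_ft (LP (LK LD1_c22 LD2_c33 LD3_c5)) = (LP (LK LD1_c30 LD2_c34 LD3_c16)) :=
  Lre_f IH (LK LD1_c22 LD2_c33 LD3_c5) (LK LD1_c30 LD2_c34 LD3_c16) Lrfl Lrfl
theorem f512485 : Led Lsl_af (LP (LK LD1_c22 LD2_c41 LD3_c28)) = (LP (LK LD1_c30 LD2_c34 LD3_c16)) :=
  Lgr Lrot45 (Lpr_ft (f63081 IH) (Lpr_at (f512475 IH) (Lpr_ft (f129716 IH) (Lpn (LP (LK LD1_c30 LD2_c34 LD3_c16))))))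
theorem f460429 : Led Lsl_et (LP (LK LD1_c3 LD2_c52 LD3_c20)) = (LP (LK LD1_c7 LD2_c46 LD3_c31)) :=
  Lre_e IH (LK LD1_c3 LD2_c52 LD3_c20) (LK LD1_c7 LD2_c46 LD3_c31) Lrfl Lrfl
theorem f460430 : Led Lsl_ct (LP (LK LD1_c7 LD2_c46 LD3_c31)) = (LP (LK LD1_c13 LD2_c23 LD3_c41)) :=
  Lgr Lrot15 (Lpe (f460429 IH) (Lpr_cf (K24.f460415 IH) (Lpe (f63062 IH) (Lpn (LP (LK LD1_c13 LD2_c23 LD3_c41))))))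
theorem f490126 : Led Lsl_ft (LP (LK LD1_c14 LD2_c39 LD3_c58)) = (LP (LK LD1_c7 LD2_c46 LD3_c31)) :=
  Lre_f IH (LK LD1_c14 LD2_c39 LD3_c58) (LK LD1_c7 LD2_c46 LD3_c31) Lrfl Lrfl
theorem f63071 : Led Lsl_ft (LP (LK LD1_c13 LD2_c23 LD3_c41)) = (LP (LK LD1_c22 LD2_c41 LD3_c28)) :=
  Lre_f IH (LK LD1_c13 LD2_c23 LD3_c41) (LK LD1_c22 LD2_c41 LD3_c28) Lrfl Lrfl
theorem f490127 : Led Lsl_cf (LP (LK LD1_c14 LD2_c39 LD3_c58)) = (LP (LK LD1_c22 LD2_c41 LD3_c28)) :=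
  Lgr Lrot108 (Lpr_ft (f490126 IH) (Lpr_ct (f460430 IH) (Lpr_ft (f63071 IH) (Lpn (LP (LK LD1_c22 LD2_c41 LD3_c28))))))
theorem f468627 : Led Lsl_et (LP (LK LD1_c14 LD2_c21 LD3_c40)) = (LP (LK LD1_c7 LD2_c37 LD3_c3)) :=
  Lre_e IH (LK LD1_c14 LD2_c21 LD3_c40) (LK LD1_c7 LD2_c37 LD3_c3) Lrfl Lrfl
theorem f129735 : Led Lsl_et (LP (LK LD1_c13 LD2_c17 LD3_c20)) = (LP (LK LD1_c22 LD2_c33 LD3_c5)) :=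
  Lre_e IH (LK LD1_c13 LD2_c17 LD3_c20) (LK LD1_c22 LD2_c33 LD3_c5) Lrfl Lrfl
theorem f468628 : Led Lsl_cf (LP (LK LD1_c14 LD2_c21 LD3_c40)) = (LP (LK LD1_c22 LD2_c33 LD3_c5)) :=
  Lgr Lrot39 (Lpr_et (f468627 IH) (Lpr_ct (K29.f468622 IH) (Lpr_et (f129735 IH) (Lpn (LP (LK LD1_c22 LD2_c33 LD3_c5))))))
theorem f468718 : Led Lsl_ft (LP (LK LD1_c14 LD2_c21 LD3_c40)) = (LP (LK LD1_c23 LD2_c59 LD3_c41)) :=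
  Lre_f IH (LK LD1_c14 LD2_c21 LD3_c40) (LK LD1_c23 LD2_c59 LD3_c41) Lrfl Lrfl
theorem f129730 : Led Lsl_ft (LP (LK LD1_c30 LD2_c34 LD3_c16)) = (LP (LK LD1_c22 LD2_c33 LD3_c5)) :=
  Lre_f IH (LK LD1_c30 LD2_c34 LD3_c16) (LK LD1_c22 LD2_c33 LD3_c5) Lrfl Lrfl
theorem f468719 : Led Lsl_ct (LP (LK LD1_c23 LD2_c59 LD3_c41)) = (LP (LK LD1_c30 LD2_c34 LD3_c16)) :=
  Lgr Lrot40 (Lpe (f468718 IH) (Lpr_cf (f468628 IH) (Lpe (f129730 IH) (Lpn (LP (LK LD1_c30 LD2_c34 LD3_c16))))))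
theorem f512489 : Led Lsl_at (LP (LK LD1_c14 LD2_c39 LD3_c58)) = (LP (LK LD1_c23 LD2_c59 LD3_c41)) :=
  Lgr Lrot107 (Lpr_cf (f490127 IH) (Lpr_af (f512485 IH) (Lpe (f468719 IH) (Lpn (LP (LK LD1_c23 LD2_c59 LD3_c41))))))
theorem f512491 : Led Lsl_af (LP (LK LD1_c14 LD2_c39 LD3_c58)) = (LP (LK LD1_c23 LD2_c59 LD3_c41)) :=
  Lgr Lrot0 (Lpr_at (f512489 IH) (Lpn (LP (LK LD1_c23 LD2_c59 LD3_c41))))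
theorem f512493 : Led Lsl_at (LP (LK LD1_c7 LD2_c46 LD3_c31)) = (LP (LK LD1_c14 LD2_c21 LD3_c40)) :=
  Lgr Lrot66 (Lpe (f490126 IH) (Lpr_af (f512491 IH) (Lpe (f468718 IH) (Lpn (LP (LK LD1_c14 LD2_c21 LD3_c40))))))
theorem f512498 : Led Lsl_af (LP (LK LD1_c3 LD2_c52 LD3_c20)) = (LP (LK LD1_c7 LD2_c37 LD3_c3)) :=
  Lgr Lrot50 (Lpr_et (f460429 IH) (Lpr_at (f512493 IH) (Lpr_et (f468627 IH) (Lpn (LP (LK LD1_c7 LD2_c37 LD3_c3))))))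
theorem f512506 : Led Lsl_ft (LP (LK LD1_c3 LD2_c52 LD3_c19)) = (LP (LK LD1_c7 LD2_c37 LD3_c3)) :=
  Lgr Lrot2 (Lpr_gt (K29.f459900 IH) (Lpr_gt (K29.f460445 IH) (Lpr_af (f512498 IH) (Lpn (LP (LK LD1_c7 LD2_c37 LD3_c3))))))
theorem f512516 : Led Lsl_ff (LP (LK LD1_c3 LD2_c52 LD3_c19)) = (LP (LK LD1_c7 LD2_c37 LD3_c3)) :=
  Lgr Lrot3 (Lpr_ft (f512506 IH) (Lpn (LP (LK LD1_c7 LD2_c37 LD3_c3))))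
theorem f443337 : Led Lsl_gt (LP (LK LD1_c3 LD2_c47 LD3_c60)) = (LP (LK LD1_c7 LD2_c37 LD3_c2)) :=
  Lre_g IH (LK LD1_c3 LD2_c47 LD3_c60) (LK LD1_c7 LD2_c37 LD3_c2) Lrfl Lrfl
theorem f512526 : Led Lsl_at (LP (LK LD1_c3 LD2_c52 LD3_c19)) = (LP (LK LD1_c7 LD2_c37 LD3_c2)) :=
  Lgr Lrot26 (Lpr_ff (f512516 IH) (Lpr_gt (K29.f91736 IH) (Lpr_gt (f443337 IH) (Lpn (LP (LK LD1_c7 LD2_c37 LD3_c2))))))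
theorem f512500 : Led Lsl_at (LP (LK LD1_c3 LD2_c52 LD3_c20)) = (LP (LK LD1_c7 LD2_c37 LD3_c3)) :=
  Lgr Lrot100 (Lpr_af (f512498 IH) (Lpn (LP (LK LD1_c7 LD2_c37 LD3_c3))))
theorem f512538 : Led Lsl_ff (LP (LK LD1_c3 LD2_c52 LD3_c20)) = (LP (LK LD1_c7 LD2_c37 LD3_c2)) :=
  Lgr Lrot30 (Lpr_at (f512500 IH) (Lpe (f512516 IH) (Lpr_at (f512526 IH) (Lpn (LP (LK LD1_c7 LD2_c37 LD3_c2))))))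
theorem f512548 : Led Lsl_ft (LP (LK LD1_c3 LD2_c52 LD3_c20)) = (LP (LK LD1_c7 LD2_c37 LD3_c2)) :=
  Lgr Lrot48 (Lpr_ff (f512538 IH) (Lpn (LP (LK LD1_c7 LD2_c37 LD3_c2))))
theorem f461441 : Led Lsl_et (LP (LK LD1_c7 LD2_c46 LD3_c31)) = (LP (LK LD1_c3 LD2_c52 LD3_c20)) :=
  Lre_e IH (LK LD1_c7 LD2_c46 LD3_c31) (LK LD1_c3 LD2_c52 LD3_c20) Lrfl Lrfl
theorem f471807 : Led Lsl_et (LP (LK LD1_c7 LD2_c37 LD3_c2)) = (LP (LK LD1_c14 LD2_c21 LD3_c38)) :=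
  Lre_e IH (LK LD1_c7 LD2_c37 LD3_c2) (LK LD1_c14 LD2_c21 LD3_c38) Lrfl Lrfl
theorem f471828 : Led Lsl_ft (LP (LK LD1_c14 LD2_c21 LD3_c38)) = (LP (LK LD1_c23 LD2_c59 LD3_c37)) :=
  Lre_f IH (LK LD1_c14 LD2_c21 LD3_c38) (LK LD1_c23 LD2_c59 LD3_c37) Lrfl Lrfl
theorem f512556 : Led Lsl_ef (LP (LK LD1_c14 LD2_c39 LD3_c58)) = (LP (LK LD1_c23 LD2_c59 LD3_c37)) :=
  Lgr Lrot21 (Lpr_ft (f490126 IH) (Lpr_et (f461441 IH) (Lpr_ft (f512548 IH) (Lpr_et (f471807 IH) (Lpr_ft (f471828 IH) (Lpn (LP (LK LD1_c23 LD2_c59 LD3_c37))))))))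
theorem f461147 : Led Lsl_et (LP (LK LD1_c7 LD2_c46 LD3_c29)) = (LP (LK LD1_c3 LD2_c52 LD3_c19)) :=
  Lre_e IH (LK LD1_c7 LD2_c46 LD3_c29) (LK LD1_c3 LD2_c52 LD3_c19) Lrfl Lrfl
theorem f461560 : Led Lsl_ft (LP (LK LD1_c14 LD2_c39 LD3_c52)) = (LP (LK LD1_c7 LD2_c46 LD3_c29)) :=
  Lre_f IH (LK LD1_c14 LD2_c39 LD3_c52) (LK LD1_c7 LD2_c46 LD3_c29) Lrfl Lrfl
theorem f468708 : Led Lsl_et (LP (LK LD1_c7 LD2_c37 LD3_c3)) = (LP (LK LD1_c14 LD2_c21 LD3_c40)) :=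
  Lre_e IH (LK LD1_c7 LD2_c37 LD3_c3) (LK LD1_c14 LD2_c21 LD3_c40) Lrfl Lrfl
theorem f512514 : Led Lsl_ef (LP (LK LD1_c14 LD2_c39 LD3_c52)) = (LP (LK LD1_c23 LD2_c59 LD3_c41)) :=
  Lgr Lrot21 (Lpr_ft (f461560 IH) (Lpr_et (f461147 IH) (Lpr_ft (f512506 IH) (Lpr_et (f468708 IH) (Lpr_ft (f468718 IH) (Lpn (LP (LK LD1_c23 LD2_c59 LD3_c41))))))))
theorem f512558 : Led Lsl_at (LP (LK LD1_c14 LD2_c39 LD3_c52)) = (LP (LK LD1_c23 LD2_c59 LD3_c37)) :=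
  Lgr Lrot80 (Lpr_ef (f512514 IH) (Lpe (f512489 IH) (Lpr_ef (f512556 IH) (Lpn (LP (LK LD1_c23 LD2_c59 LD3_c37))))))
theorem f461146 : Led Lsl_et (LP (LK LD1_c7 LD2_c3 LD3_c34)) = (LP (LK LD1_c13 LD2_c23 LD3_c14)) :=
  Lre_e IH (LK LD1_c7 LD2_c3 LD3_c34) (LK LD1_c13 LD2_c23 LD3_c14) Lrfl Lrfl
theorem f461148 : Led Lsl_ct (LP (LK LD1_c13 LD2_c23 LD3_c14)) = (LP (LK LD1_c7 LD2_c46 LD3_c29)) :=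
  Lgr Lrot15 (Lpe (f461146 IH) (Lpr_cf (K29.f461122 IH) (Lpe (f461147 IH) (Lpn (LP (LK LD1_c7 LD2_c46 LD3_c29))))))
theorem f461547 : Led Lsl_ft (LP (LK LD1_c22 LD2_c41 LD3_c7)) = (LP (LK LD1_c13 LD2_c23 LD3_c14)) :=
  Lre_f IH (LK LD1_c22 LD2_c41 LD3_c7) (LK LD1_c13 LD2_c23 LD3_c14) Lrfl Lrfl
theorem f461548 : Led Lsl_ft (LP (LK LD1_c7 LD2_c46 LD3_c29)) = (LP (LK LD1_c14 LD2_c39 LD3_c52)) :=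
  Lre_f IH (LK LD1_c7 LD2_c46 LD3_c29) (LK LD1_c14 LD2_c39 LD3_c52) Lrfl Lrfl
theorem f461549 : Led Lsl_cf (LP (LK LD1_c22 LD2_c41 LD3_c7)) = (LP (LK LD1_c14 LD2_c39 LD3_c52)) :=
  Lgr Lrot108 (Lpr_ft (f461547 IH) (Lpr_ct (f461148 IH) (Lpr_ft (f461548 IH) (Lpn (LP (LK LD1_c14 LD2_c39 LD3_c52))))))
theorem f461553 : Led Lsl_ct (LP (LK LD1_c22 LD2_c41 LD3_c7)) = (LP (LK LD1_c14 LD2_c39 LD3_c52)) :=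
  Lgr Lrot59 (Lpr_cf (f461549 IH) (Lpn (LP (LK LD1_c14 LD2_c39 LD3_c52))))
theorem f471806 : Led Lsl_et (LP (LK LD1_c22 LD2_c33 LD3_c0)) = (LP (LK LD1_c13 LD2_c17 LD3_c16)) :=
  Lre_e IH (LK LD1_c22 LD2_c33 LD3_c0) (LK LD1_c13 LD2_c17 LD3_c16) Lrfl Lrfl
theorem f471808 : Led Lsl_cf (LP (LK LD1_c22 LD2_c33 LD3_c0)) = (LP (LK LD1_c14 LD2_c21 LD3_c38)) :=
  Lgr Lrot39 (Lpr_et (f471806 IH) (Lpr_ct (K29.f471797 IH) (Lpr_et (f471807 IH) (Lpn (LP (LK LD1_c14 LD2_c21 LD3_c38))))))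
theorem f471821 : Led Lsl_ft (LP (LK LD1_c22 LD2_c33 LD3_c0)) = (LP (LK LD1_c30 LD2_c34 LD3_c14)) :=
  Lre_f IH (LK LD1_c22 LD2_c33 LD3_c0) (LK LD1_c30 LD2_c34 LD3_c14) Lrfl Lrfl
theorem f471822 : Led Lsl_ft (LP (LK LD1_c23 LD2_c59 LD3_c37)) = (LP (LK LD1_c14 LD2_c21 LD3_c38)) :=
  Lre_f IH (LK LD1_c23 LD2_c59 LD3_c37) (LK LD1_c14 LD2_c21 LD3_c38) Lrfl Lrfl
theorem f471823 : Led Lsl_ct (LP (LK LD1_c30 LD2_c34 LD3_c14)) = (LP (LK LD1_c23 LD2_c59 LD3_c37)) :=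
  Lgr Lrot40 (Lpe (f471821 IH) (Lpr_cf (f471808 IH) (Lpe (f471822 IH) (Lpn (LP (LK LD1_c23 LD2_c59 LD3_c37))))))
theorem f471825 : Led Lsl_cf (LP (LK LD1_c30 LD2_c34 LD3_c14)) = (LP (LK LD1_c23 LD2_c59 LD3_c37)) :=
  Lgr Lrot11 (Lpr_ct (f471823 IH) (Lpn (LP (LK LD1_c23 LD2_c59 LD3_c37))))
theorem f512566 : Led Lsl_af (LP (LK LD1_c22 LD2_c41 LD3_c7)) = (LP (LK LD1_c30 LD2_c34 LD3_c14)) :=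
  Lgr Lrot68 (Lpr_ct (f461553 IH) (Lpr_at (f512558 IH) (Lpe (f471825 IH) (Lpn (LP (LK LD1_c30 LD2_c34 LD3_c14))))))
theorem f512572 : Led Lsl_at (LP (LK LD1_c13 LD2_c23 LD3_c14)) = (LP (LK LD1_c22 LD2_c33 LD3_c0)) :=
  Lgr Lrot66 (Lpe (f461547 IH) (Lpr_af (f512566 IH) (Lpe (f471821 IH) (Lpn (LP (LK LD1_c22 LD2_c33 LD3_c0))))))
theorem f512574 : Led Lsl_af (LP (LK LD1_c13 LD2_c23 LD3_c14)) = (LP (LK LD1_c22 LD2_c33 LD3_c0)) :=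
  Lgr Lrot0 (Lpr_at (f512572 IH) (Lpn (LP (LK LD1_c22 LD2_c33 LD3_c0))))
theorem f88000 : Led Lsl_et (LP (LK LD1_c13 LD2_c23 LD3_c14)) = (LP (LK LD1_c7 LD2_c3 LD3_c34)) :=
  Lre_e IH (LK LD1_c13 LD2_c23 LD3_c14) (LK LD1_c7 LD2_c3 LD3_c34) Lrfl Lrfl
theorem f471829 : Led Lsl_et (LP (LK LD1_c13 LD2_c17 LD3_c16)) = (LP (LK LD1_c22 LD2_c33 LD3_c0)) :=
  Lre_e IH (LK LD1_c13 LD2_c17 LD3_c16) (LK LD1_c22 LD2_c33 LD3_c0) Lrfl Lrfl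
theorem f512578 : Led Lsl_at (LP (LK LD1_c7 LD2_c3 LD3_c34)) = (LP (LK LD1_c13 LD2_c17 LD3_c16)) :=
  Lgr Lrot80 (Lpe (f88000 IH) (Lpr_af (f512574 IH) (Lpe (f471829 IH) (Lpn (LP (LK LD1_c13 LD2_c17 LD3_c16))))))
theorem f512582 : Led Lsl_af (LP (LK LD1_c3 LD2_c30 LD3_c45)) = (LP (LK LD1_c7 LD2_c0 LD3_c11)) :=
  Lgr Lrot117 (Lpr_dt (K5.f87973 IH) (Lpr_at (f512578 IH) (Lpr_dt (K29.f464144 IH) (Lpn (LP (LK LD1_c7 LD2_c0 LD3_c11))))))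
theorem f512318 : Led Lsl_ft (LP (LK LD1_c3 LD2_c30 LD3_c58)) = (LP (LK LD1_c7 LD2_c0 LD3_c11)) :=
  Lgr Lrot4 (Lpe (K24.f18818 IH) (Lpr_ff (f512314 IH) (Lpe (K29.f460229 IH) (Lpn (LP (LK LD1_c7 LD2_c0 LD3_c11))))))
theorem f512329 : Led Lsl_af (LP (LK LD1_c3 LD2_c30 LD3_c58)) = (LP (LK LD1_c7 LD2_c0 LD3_c14)) :=
  Lgr Lrot68 (Lpr_ct (K29.f62760 IH) (Lpr_at (f512323 IH) (Lpr_ct (K24.f129694 IH) (Lpn (LP (LK LD1_c7 LD2_c0 LD3_c14))))))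
theorem f512590 : Led Lsl_ft (LP (LK LD1_c3 LD2_c30 LD3_c45)) = (LP (LK LD1_c7 LD2_c0 LD3_c14)) :=
  Lgr Lrot101 (Lpr_af (f512582 IH) (Lpe (f512318 IH) (Lpr_af (f512329 IH) (Lpn (LP (LK LD1_c7 LD2_c0 LD3_c14))))))
theorem f512596 : Led Lsl_ff (LP (LK LD1_c3 LD2_c30 LD3_c45)) = (LP (LK LD1_c7 LD2_c0 LD3_c14)) :=
  Lgr Lrot3 (Lpr_ft (f512590 IH) (Lpn (LP (LK LD1_c7 LD2_c0 LD3_c14))))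
theorem f512600 : Led Lsl_ft (LP (LK LD1_c1 LD2_c41 LD3_c57)) = (LP (LK LD1_c3 LD2_c29 LD3_c16)) :=
  Lgr Lrot4 (Lpe (K5.f87979 IH) (Lpr_ff (f512596 IH) (Lpe (K24.f129694 IH) (Lpn (LP (LK LD1_c3 LD2_c29 LD3_c16))))))
theorem f512604 : Led Lsl_ff (LP (LK LD1_c3 LD2_c30 LD3_c38)) = (LP (LK LD1_c7 LD2_c0 LD3_c12)) :=
  Lgr Lrot25 (Lpr_bt (K30.f443513 IH) (Lpr_ft (f512600 IH) (Lpr_bt (K28.f129691 IH) (Lpn (LP (LK LD1_c7 LD2_c0 LD3_c12))))))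
theorem f468349 : Led Lsl_at (LP (LK LD1_c3 LD2_c30 LD3_c38)) = (LP (LK LD1_c7 LD2_c3 LD3_c9)) :=
  Lre_a IH (LK LD1_c3 LD2_c30 LD3_c38) (LK LD1_c7 LD2_c3 LD3_c9) Lrfl Lrfl
theorem f468339 : Led Lsl_ff (LP (LK LD1_c7 LD2_c22 LD3_c13)) = (LP (LK LD1_c7 LD2_c3 LD3_c9)) :=
  Lgr Lrot19 (Lpe (K29.f108802 IH) (Lpr_ft (K29.f468326 IH) (Lpr_dt (f468338 IH) (Lpn (LP (LK LD1_c7 LD2_c3 LD3_c9))))))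
theorem f512606 : Led Lsl_at (LP (LK LD1_c7 LD2_c22 LD3_c13)) = (LP (LK LD1_c7 LD2_c0 LD3_c12)) :=
  Lgr Lrot66 (Lpr_ff (f468339 IH) (Lpe (f468349 IH) (Lpr_ff (f512604 IH) (Lpn (LP (LK LD1_c7 LD2_c0 LD3_c12))))))
theorem f457443 : Led Lsl_ct (LP (LK LD1_c6 LD2_c57 LD3_c7)) = (LP (LK LD1_c3 LD2_c27 LD3_c29)) :=
  Lre_c IH (LK LD1_c6 LD2_c57 LD3_c7) (LK LD1_c3 LD2_c27 LD3_c29) Lrfl Lrfl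
theorem f472968 : Led Lsl_gt (LP (LK LD1_c13 LD2_c11 LD3_c59)) = (LP (LK LD1_c6 LD2_c57 LD3_c7)) :=
  Lgr Lrot9 (Lpe (K29.f465305 IH) (Lpr_gt (K28.f472959 IH) (Lpr_ct (K32.f472967 IH) (Lpr_gt (K28.f15829 IH) (Lpr_ct (K29.f19062 IH) (Lpe (K28.f162350 IH) (Lpe (K28.f15447 IH) (Lpe (K2.f15464 IH) (Lpe (f457443 IH) (Lpn (LP (LK LD1_c6 LD2_c57 LD3_c7))))))))))))
theorem f18601 : Led Lsl_ct (LP (LK LD1_c6 LD2_c51 LD3_c59)) = (LP (LK LD1_c13 LD2_c3 LD3_c30)) :=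
  Lre_c IH (LK LD1_c6 LD2_c51 LD3_c59) (LK LD1_c13 LD2_c3 LD3_c30) Lrfl Lrfl
theorem f472975 : Led Lsl_df (LP (LK LD1_c13 LD2_c3 LD3_c30)) = (LP (LK LD1_c6 LD2_c57 LD3_c7)) :=
  Lgr Lrot84 (Lpe (f18601 IH) (Lpe (K28.f18600 IH) (Lpe (K28.f18599 IH) (Lpe (K28.f18355 IH) (Lpe (K28.f18366 IH) (Lpe (K28.f458006 IH) (Lpe (K28.f463588 IH) (Lpr_dt (K29.f465305 IH) (Lpr_gt (f472968 IH) (Lpn (LP (LK LD1_c6 LD2_c57 LD3_c7))))))))))))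
theorem f472984 : Led Lsl_dt (LP (LK LD1_c13 LD2_c3 LD3_c30)) = (LP (LK LD1_c6 LD2_c57 LD3_c7)) :=
  Lgr Lrot42 (Lpr_df (f472975 IH) (Lpn (LP (LK LD1_c6 LD2_c57 LD3_c7))))
theorem f512612 : Led Lsl_ct (LP (LK LD1_c3 LD2_c30 LD3_c36)) = (LP (LK LD1_c3 LD2_c24 LD3_c45)) :=
  Lgr Lrot133 (Lpe (f468344 IH) (Lpe (f468339 IH) (Lpr_at (f512606 IH) (Lpe (K28.f457437 IH) (Lpe (K28.f15339 IH) (Lpe (f457443 IH) (Lpe (f472984 IH) (Lpe (f18601 IH) (Lpe (K28.f18600 IH) (Lpn (LP (LK LD1_c3 LD2_c24 LD3_c45))))))))))))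
theorem f466544 : Led Lsl_bt (LP (LK LD1_c3 LD2_c30 LD3_c50)) = (LP (LK LD1_c1 LD2_c42 LD3_c15)) :=
  Lgr Lrot127 (Lpr_bf (K28.f466493 IH) (Lpn (LP (LK LD1_c1 LD2_c42 LD3_c15))))
theorem f488689 : Led Lsl_gf (LP (LK LD1_c3 LD2_c24 LD3_c60)) = (LP (LK LD1_c3 LD2_c39 LD3_c30)) :=
  Lgr Lrot126 (Lpe (K28.f15791 IH) (Lpr_bt (K32.f15790 IH) (Lpr_gt (K24.f15782 IH) (Lpe (K2.f18565 IH) (Lpqs (K28.f457662 IH) (Lpe (K28.f455651 IH) (Lpe (K24.f446537 IH) (Lpr_bt (K28.f450713 IH) (Lpr_gt (K24.f455618 IH) (Lpe (f466544 IH) (Lpr_ct (K29.f466546 IH) (Lpn (LP (LK LD1_c3 LD2_c39 LD3_c30))))))))))))))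
theorem f512623 : Led Lsl_bt (LP (LK LD1_c3 LD2_c30 LD3_c36)) = (LP (LK LD1_c3 LD2_c35 LD3_c37)) :=
  Lgr Lrot130 (Lpr_ct (f512612 IH) (Lpe (K28.f18599 IH) (Lpe (K28.f19065 IH) (Lpr_bt (K2.f15777 IH) (Lpe (K24.f15782 IH) (Lpe (K32.f15790 IH) (Lpr_ct (K28.f15791 IH) (Lpr_gf (f488689 IH) (Lpe (K29.f466546 IH) (Lpe (f488189 IH) (Lpn (LP (LK LD1_c3 LD2_c35 LD3_c37)))))))))))))
theorem f512627 : Led Lsl_bf (LP (LK LD1_c7 LD2_c3 LD3_c9)) = (LP (LK LD1_c7 LD2_c11 LD3_c58)) :=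
  Lgr Lrot93 (Lpr_dt (f468344 IH) (Lpr_bt (f512623 IH) (Lpr_dt (f17692 IH) (Lpn (LP (LK LD1_c7 LD2_c11 LD3_c58))))))
theorem f485885 : Led Lsl_bt (LP (LK LD1_c6 LD2_c57 LD3_c4)) = (LP (LK LD1_c13 LD2_c11 LD3_c57)) :=
  Lre_b IH (LK LD1_c6 LD2_c57 LD3_c4) (LK LD1_c13 LD2_c11 LD3_c57) Lrfl Lrfl
theorem f479479 : Led Lsl_ct (LP (LK LD1_c13 LD2_c4 LD3_c16)) = (LP (LK LD1_c7 LD2_c48 LD3_c3)) :=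
  Lgr Lrot59 (Lpr_cf (K29.f479474 IH) (Lpn (LP (LK LD1_c7 LD2_c48 LD3_c3))))
theorem f511709 : Led Lsl_gt (LP (LK LD1_c1 LD2_c46 LD3_c51)) = (LP (LK LD1_c3 LD2_c24 LD3_c58)) :=
  Lgr Lrot146 (Lpr_dt (f511702 IH) (Lpe (f511700 IH) (Lpr_ct (K29.f446480 IH) (Lpr_gt (K29.f455207 IH) (Lpe (K29.f470786 IH) (Lpr_dt (K29.f129896 IH) (Lpe (f479479 IH) (Lpe (K29.f455955 IH) (Lpe (K29.f11044 IH) (Lpn (LP (LK LD1_c3 LD2_c24 LD3_c58))))))))))))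
theorem f511712 : Led Lsl_gt (LP (LK LD1_c3 LD2_c39 LD3_c51)) = (LP (LK LD1_c7 LD2_c19 LD3_c55)) :=
  Lre_g IH (LK LD1_c3 LD2_c39 LD3_c51) (LK LD1_c7 LD2_c19 LD3_c55) Lrfl Lrfl
theorem f96478 : Led Lsl_gt (LP (LK LD1_c3 LD2_c33 LD3_c25)) = (LP (LK LD1_c7 LD2_c7 LD3_c44)) :=
  Lre_g IH (LK LD1_c3 LD2_c33 LD3_c25) (LK LD1_c7 LD2_c7 LD3_c44) Lrfl Lrfl
theorem f464965 : Led Lsl_gt (LP (LK LD1_c7 LD2_c7 LD3_c44)) = (LP (LK LD1_c6 LD2_c58 LD3_c9)) :=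
  Lgr Lrot46 (Lpe (f96478 IH) (Lpe (K28.f463767 IH) (Lpr_at (K28.f464953 IH) (Lpn (LP (LK LD1_c6 LD2_c58 LD3_c9))))))
theorem f511713 : Led Lsl_dt (LP (LK LD1_c7 LD2_c19 LD3_c55)) = (LP (LK LD1_c7 LD2_c7 LD3_c44)) :=
  Lgr Lrot57 (Lpe (f511712 IH) (Lpe (f511711 IH) (Lpr_gt (f511709 IH) (Lpr_dt (K28.f458528 IH) (Lpq (K28.f464172 IH) (Lpe (K28.f455823 IH) (Lpr_dt (K24.f456846 IH) (Lpq (K24.f461944 IH) (Lpe (K28.f455406 IH) (Lpe (K28.f458597 IH) (Lpe (f464965 IH) (Lpn (LP (LK LD1_c7 LD2_c7 LD3_c44))))))))))))))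
theorem f440162 : Led Lsl_at (LP (LK LD1_c7 LD2_c13 LD3_c42)) = (LP (LK LD1_c7 LD2_c7 LD3_c46)) :=
  Lgr Lrot100 (Lpr_af (K28.f440159 IH) (Lpn (LP (LK LD1_c7 LD2_c7 LD3_c46))))
theorem f464912 : Led Lsl_ff (LP (LK LD1_c7 LD2_c13 LD3_c42)) = (LP (LK LD1_c13 LD2_c13 LD3_c59)) :=
  Lgr Lrot103 (Lpr_at (f440162 IH) (Lpe (K28.f440158 IH) (Lpe (K28.f96477 IH) (Lpe (K5.f128096 IH) (Lpr_df (K24.f106002 IH) (Lpe (K3.f92413 IH) (Lpe (K28.f128106 IH) (Lpe (K28.f439439 IH) (Lpr_df (K28.f464901 IH) (Lpn (LP (LK LD1_c13 LD2_c13 LD3_c59))))))))))))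
theorem f464916 : Led Lsl_gf (LP (LK LD1_c13 LD2_c30 LD3_c17)) = (LP (LK LD1_c13 LD2_c13 LD3_c59)) :=
  Lgr Lrot47 (Lpr_gt (K32.f440174 IH) (Lpe (f440162 IH) (Lpr_ff (f464912 IH) (Lpn (LP (LK LD1_c13 LD2_c13 LD3_c59))))))
theorem f465653 : Led Lsl_ct (LP (LK LD1_c13 LD2_c30 LD3_c17)) = (LP (LK LD1_c7 LD2_c8 LD3_c12)) :=
  Lgr Lrot59 (Lpr_cf (K32.f465650 IH) (Lpn (LP (LK LD1_c7 LD2_c8 LD3_c12))))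
theorem f511831 : Led Lsl_gt (LP (LK LD1_c7 LD2_c19 LD3_c55)) = (LP (LK LD1_c13 LD2_c4 LD3_c15)) :=
  Lgr Lrot146 (Lpr_dt (f511713 IH) (Lpr_gt (f464965 IH) (Lpr_ct (K28.f464900 IH) (Lpe (f464916 IH) (Lpr_ct (f465653 IH) (Lpe (K28.f465648 IH) (Lpe (K28.f128163 IH) (Lpe (K28.f466613 IH) (Lpe (K28.f464607 IH) (Lpn (LP (LK LD1_c13 LD2_c4 LD3_c15))))))))))))
theorem f461975 : Led Lsl_gt (LP (LK LD1_c13 LD2_c40 LD3_c46)) = (LP (LK LD1_c7 LD2_c13 LD3_c36)) :=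
  Lre_g IH (LK LD1_c13 LD2_c40 LD3_c46) (LK LD1_c7 LD2_c13 LD3_c36) Lrfl Lrfl
theorem f475198 : Led Lsl_gt (LP (LK LD1_c7 LD2_c13 LD3_c38)) = (LP (LK LD1_c13 LD2_c40 LD3_c46)) :=
  Lgr Lrot5 (Lpr_ft (K29.f475194 IH) (Lpe (K29.f475196 IH) (Lpe (f461975 IH) (Lpn (LP (LK LD1_c13 LD2_c40 LD3_c46))))))
theorem f480603 : Led Lsl_dt (LP (LK LD1_c13 LD2_c40 LD3_c46)) = (LP (LK LD1_c13 LD2_c4 LD3_c15)) :=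
  Lgr Lrot105 (Lpe (f475198 IH) (Lpe (K29.f456836 IH) (Lpe (K29.f463771 IH) (Lpe (K28.f446487 IH) (Lpr_gt (K24.f446456 IH) (Lpe (K29.f446430 IH) (Lpr_gt (K29.f446452 IH) (Lpr_dt (f479553 IH) (Lpe (K28.f464607 IH) (Lpn (LP (LK LD1_c13 LD2_c4 LD3_c15))))))))))))
theorem f480605 : Led Lsl_df (LP (LK LD1_c13 LD2_c40 LD3_c46)) = (LP (LK LD1_c13 LD2_c4 LD3_c15)) :=
  Lgr Lrot38 (Lpr_dt (f480603 IH) (Lpn (LP (LK LD1_c13 LD2_c4 LD3_c15))))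
theorem f487865 : Led Lsl_bf (LP (LK LD1_c1 LD2_c54 LD3_c57)) = (LP (LK LD1_c3 LD2_c49 LD3_c12)) :=
  Lgr Lrot24 (Lpr_bt (f487863 IH) (Lpn (LP (LK LD1_c3 LD2_c49 LD3_c12))))
theorem f458763 : Led Lsl_ct K24.v721 = K24.v780 :=
  Lgr Lrot40 (Lpe (K24.f456926 IH) (Lpr_cf (K24.f455982 IH) (Lpr_ff (K24.f458762 IH) (Lpn K24.v780))))
theorem f455163 : Led Lsl_bt (LP (LK LD1_c1 LD2_c40 LD3_c38)) = (LP (LK LD1_c0 LD2_c46 LD3_c46)) :=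
  Lre_b IH (LK LD1_c1 LD2_c40 LD3_c38) (LK LD1_c0 LD2_c46 LD3_c46) Lrfl Lrfl
theorem f487917 : Led Lsl_gf (LP (LK LD1_c3 LD2_c28 LD3_c5)) = (LP (LK LD1_c3 LD2_c37 LD3_c12)) :=
  Lgr Lrot126 (Lpe (K24.f455147 IH) (Lpr_bt (f455163 IH) (Lpr_gt (K24.f455162 IH) (Lpq (K24.f457220 IH) (Lpr_ct (f458763 IH) (Lpe (K24.f458765 IH) (Lpe (K24.f451298 IH) (Lpr_bt (K24.f11326 IH) (Lpr_gt (K28.f11348 IH) (Lpr_bf (f487865 IH) (Lpe (f487833 IH) (Lpn (LP (LK LD1_c3 LD2_c37 LD3_c12))))))))))))))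
theorem f470761 : Led Lsl_ft (LP (LK LD1_c7 LD2_c19 LD3_c10)) = (LP (LK LD1_c7 LD2_c17 LD3_c14)) :=
  Lgr Lrot48 (Lpr_ff (K29.f470753 IH) (Lpn (LP (LK LD1_c7 LD2_c17 LD3_c14))))
theorem f464185 : Led Lsl_af (LP (LK LD1_c7 LD2_c19 LD3_c10)) = (LP (LK LD1_c6 LD2_c58 LD3_c21)) :=
  Lgr Lrot117 (Lpr_dt (K28.f464183 IH) (Lpr_at (K29.f446485 IH) (Lpr_dt (K32.f446481 IH) (Lpn (LP (LK LD1_c6 LD2_c58 LD3_c21))))))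
theorem f455385 : Led Lsl_ft (LP (LK LD1_c6 LD2_c58 LD3_c24)) = (LP (LK LD1_c6 LD2_c58 LD3_c21)) :=
  Lgr Lrot54 (Lpe (K24.f455157 IH) (Lpr_ff (K29.f455383 IH) (Lpe (K29.f446444 IH) (Lpn (LP (LK LD1_c6 LD2_c58 LD3_c21))))))
theorem f470763 : Led Lsl_af (LP (LK LD1_c6 LD2_c58 LD3_c24)) = (LP (LK LD1_c7 LD2_c17 LD3_c14)) :=
  Lgr Lrot45 (Lpr_ft (f455385 IH) (Lpe (f464185 IH) (Lpr_ft (f470761 IH) (Lpn (LP (LK LD1_c7 LD2_c17 LD3_c14))))))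
theorem f470771 : Led Lsl_gt (LP (LK LD1_c3 LD2_c39 LD3_c29)) = (LP (LK LD1_c6 LD2_c58 LD3_c24)) :=
  Lgr Lrot46 (Lpe (K28.f92639 IH) (Lpr_ft (f470761 IH) (Lpe (f470763 IH) (Lpn (LP (LK LD1_c6 LD2_c58 LD3_c24))))))
theorem f439426 : Led Lsl_ft (LP (LK LD1_c3 LD2_c39 LD3_c29)) = (LP (LK LD1_c7 LD2_c19 LD3_c12)) :=
  Lre_f IH (LK LD1_c3 LD2_c39 LD3_c29) (LK LD1_c7 LD2_c19 LD3_c12) Lrfl Lrfl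
theorem f439584 : Led Lsl_at (LP (LK LD1_c7 LD2_c19 LD3_c12)) = (LP (LK LD1_c7 LD2_c17 LD3_c16)) :=
  Lgr Lrot100 (Lpr_af (K28.f439443 IH) (Lpn (LP (LK LD1_c7 LD2_c17 LD3_c16))))
theorem f470773 : Led Lsl_gf (LP (LK LD1_c7 LD2_c17 LD3_c16)) = (LP (LK LD1_c6 LD2_c58 LD3_c24)) :=
  Lgr Lrot76 (Lpe (f439584 IH) (Lpe (f439426 IH) (Lpr_gt (f470771 IH) (Lpn (LP (LK LD1_c6 LD2_c58 LD3_c24))))))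
theorem f18042 : Led Lsl_dt (LP (LK LD1_c7 LD2_c17 LD3_c16)) = (LP (LK LD1_c3 LD2_c38 LD3_c28)) :=
  Lre_d IH (LK LD1_c7 LD2_c17 LD3_c16) (LK LD1_c3 LD2_c38 LD3_c28) Lrfl Lrfl
theorem f487919 : Led Lsl_gf (LP (LK LD1_c3 LD2_c48 LD3_c0)) = (LP (LK LD1_c3 LD2_c49 LD3_c12)) :=
  Lgr Lrot144 (Lpr_dt (K29.f129808 IH) (Lpr_gt (K28.f464126 IH) (Lpe (K4.f106123 IH) (Lpr_cf (K4.f18033 IH) (Lpe (f18042 IH) (Lpr_gf (f470773 IH) (Lpe (K24.f455157 IH) (Lpr_gf (f487917 IH) (Lpr_cf (f487833 IH) (Lpn (LP (LK LD1_c3 LD2_c49 LD3_c12))))))))))))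
theorem f466568 : Led Lsl_gt (LP (LK LD1_c7 LD2_c3 LD3_c43)) = (LP (LK LD1_c3 LD2_c30 LD3_c53)) :=
  Lre_g IH (LK LD1_c7 LD2_c3 LD3_c43) (LK LD1_c3 LD2_c30 LD3_c53) Lrfl Lrfl
theorem f488242 : Led Lsl_gt (LP (LK LD1_c7 LD2_c11 LD3_c58)) = (LP (LK LD1_c7 LD2_c3 LD3_c43)) :=
  Lgr Lrot5 (Lpr_ft (f488238 IH) (Lpr_at (f466576 IH) (Lpe (f466568 IH) (Lpn (LP (LK LD1_c7 LD2_c3 LD3_c43))))))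
theorem f439441 : Led Lsl_af (LP (LK LD1_c3 LD2_c39 LD3_c30)) = (LP (LK LD1_c3 LD2_c38 LD3_c28)) :=
  Lgr Lrot0 (Lpr_at (K28.f439435 IH) (Lpn (LP (LK LD1_c3 LD2_c38 LD3_c28))))
theorem f470659 : Led Lsl_gf (LP (LK LD1_c3 LD2_c35 LD3_c52)) = (LP (LK LD1_c1 LD2_c46 LD3_c12)) :=
  Lgr Lrot47 (Lpr_gt (K29.f470633 IH) (Lpr_af (f439441 IH) (Lpe (K4.f18032 IH) (Lpn (LP (LK LD1_c1 LD2_c46 LD3_c12))))))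
theorem f107965 : Led Lsl_gt (LP (LK LD1_c13 LD2_c38 LD3_c48)) = (LP (LK LD1_c7 LD2_c12 LD3_c23)) :=
  Lre_g IH (LK LD1_c13 LD2_c38 LD3_c48) (LK LD1_c7 LD2_c12 LD3_c23) Lrfl Lrfl
theorem f10486 : Led Lsl_et (LP (LK LD1_c1 LD2_c45 LD3_c23)) = (LP (LK LD1_c0 LD2_c49 LD3_c22)) :=
  Lre_e IH (LK LD1_c1 LD2_c45 LD3_c23) (LK LD1_c0 LD2_c49 LD3_c22) Lrfl Lrfl
theorem f6311 : Led Lsl_gt (LP (LK LD1_c1 LD2_c45 LD3_c29)) = (LP (LK LD1_c3 LD2_c37 LD3_c13)) :=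
  Lre_g IH (LK LD1_c1 LD2_c45 LD3_c29) (LK LD1_c3 LD2_c37 LD3_c13) Lrfl Lrfl
theorem f10665 : Led Lsl_dt (LP (LK LD1_c7 LD2_c14 LD3_c56)) = (LP (LK LD1_c3 LD2_c37 LD3_c13)) :=
  Lre_d IH (LK LD1_c7 LD2_c14 LD3_c56) (LK LD1_c3 LD2_c37 LD3_c13) Lrfl Lrfl
theorem f470682 : Led Lsl_ef (LP (LK LD1_c13 LD2_c38 LD3_c48)) = (LP (LK LD1_c7 LD2_c14 LD3_c56)) :=
  Lgr Lrot167 (Lpr_gt (f107965 IH) (Lpr_dt (K32.f470668 IH) (Lpr_gt (K32.f425386 IH) (Lpe (K28.f10487 IH) (Lpr_et (f10486 IH) (Lpr_gt (K2.f6681 IH) (Lpe (K3.f6011 IH) (Lpr_dt (K28.f6007 IH) (Lpr_gt (f6311 IH) (Lpe (f10665 IH) (Lpn (LP (LK LD1_c7 LD2_c14 LD3_c56)))))))))))))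
theorem f470677 : Led Lsl_et (LP (LK LD1_c3 LD2_c35 LD3_c52)) = (LP (LK LD1_c7 LD2_c12 LD3_c23)) :=
  Lre_e IH (LK LD1_c3 LD2_c35 LD3_c52) (LK LD1_c7 LD2_c12 LD3_c23) Lrfl Lrfl
theorem f10527 : Led Lsl_dt (LP (LK LD1_c3 LD2_c37 LD3_c12)) = (LP (LK LD1_c7 LD2_c14 LD3_c53)) :=
  Lre_d IH (LK LD1_c3 LD2_c37 LD3_c12) (LK LD1_c7 LD2_c14 LD3_c53) Lrfl Lrfl
theorem f470688 : Led Lsl_gt (LP (LK LD1_c7 LD2_c12 LD3_c22)) = (LP (LK LD1_c7 LD2_c14 LD3_c53)) :=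
  Lgr Lrot112 (Lpe (K32.f464951 IH) (Lpr_et (f470677 IH) (Lpe (f107965 IH) (Lpr_ef (f470682 IH) (Lpr_dt (f10665 IH) (Lpe (f6311 IH) (Lpe (K28.f6007 IH) (Lpe (f6023 IH) (Lpe (f10526 IH) (Lpr_dt (f10527 IH) (Lpn (LP (LK LD1_c7 LD2_c14 LD3_c53)))))))))))))
theorem f470690 : Led Lsl_dt (LP (LK LD1_c7 LD2_c14 LD3_c53)) = (LP (LK LD1_c3 LD2_c37 LD3_c12)) :=
  Lre_d IH (LK LD1_c7 LD2_c14 LD3_c53) (LK LD1_c3 LD2_c37 LD3_c12) Lrfl Lrfl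
theorem f487852 : Led Lsl_ct (LP (LK LD1_c3 LD2_c37 LD3_c12)) = (LP (LK LD1_c3 LD2_c49 LD3_c12)) :=
  Lgr Lrot59 (Lpr_cf (f487833 IH) (Lpn (LP (LK LD1_c3 LD2_c49 LD3_c12))))
theorem f488251 : Led Lsl_df (LP (LK LD1_c3 LD2_c49 LD3_c12)) = (LP (LK LD1_c7 LD2_c3 LD3_c43)) :=
  Lgr Lrot84 (Lpe (f487852 IH) (Lpe (f470690 IH) (Lpe (f470688 IH) (Lpe (K32.f464951 IH) (Lpr_gf (f470659 IH) (Lpe (K3.f18021 IH) (Lpr_gt (f17691 IH) (Lpr_dt (f17692 IH) (Lpr_gt (f488242 IH) (Lpn (LP (LK LD1_c7 LD2_c3 LD3_c43))))))))))))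
theorem f511838 : Led Lsl_ct (LP (LK LD1_c7 LD2_c19 LD3_c55)) = (LP (LK LD1_c7 LD2_c11 LD3_c58)) :=
  Lgr Lrot8 (Lpr_gt (f511831 IH) (Lpe (f480605 IH) (Lpr_gt (f461975 IH) (Lpr_dt (K29.f441663 IH) (Lpe (K28.f461973 IH) (Lpe (K29.f129808 IH) (Lpr_gf (f487919 IH) (Lpr_df (f488251 IH) (Lpe (f488242 IH) (Lpn (LP (LK LD1_c7 LD2_c11 LD3_c58))))))))))))
theorem f511793 : Led Lsl_bt (LP (LK LD1_c13 LD2_c52 LD3_c12)) = (LP (LK LD1_c7 LD2_c19 LD3_c55)) :=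
  Lre_b IH (LK LD1_c13 LD2_c52 LD3_c12) (LK LD1_c7 LD2_c19 LD3_c55) Lrfl Lrfl
theorem f513088 : Led Lsl_ct (LP (LK LD1_c13 LD2_c11 LD3_c57)) = (LP (LK LD1_c13 LD2_c52 LD3_c12)) :=
  Lgr Lrot83 (Lpe (f485885 IH) (Lpr_cf (f512278 IH) (Lpr_bf (f512627 IH) (Lpe (f511838 IH) (Lpe (f511793 IH) (Lpn (LP (LK LD1_c13 LD2_c52 LD3_c12))))))))
theorem f473265 : Led Lsl_bt (LP (LK LD1_c13 LD2_c11 LD3_c57)) = (LP (LK LD1_c6 LD2_c57 LD3_c4)) :=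
  Lre_b IH (LK LD1_c13 LD2_c11 LD3_c57) (LK LD1_c6 LD2_c57 LD3_c4) Lrfl Lrfl
theorem f97635 : Led Lsl_bt (LP (LK LD1_c7 LD2_c1 LD3_c60)) = (LP (LK LD1_c13 LD2_c20 LD3_c19)) :=
  Lre_b IH (LK LD1_c7 LD2_c1 LD3_c60) (LK LD1_c13 LD2_c20 LD3_c19) Lrfl Lrfl
theorem f512276 : Led Lsl_ff (LP (LK LD1_c13 LD2_c11 LD3_c57)) = (LP (LK LD1_c13 LD2_c20 LD3_c19)) :=
  Lgr Lrot25 (Lpr_bt (f473265 IH) (Lpr_ft (f512271 IH) (Lpr_bt (f97635 IH) (Lpn (LP (LK LD1_c13 LD2_c20 LD3_c19))))))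
theorem f441669 : Led Lsl_et (LP (LK LD1_c7 LD2_c12 LD3_c36)) = (LP (LK LD1_c13 LD2_c38 LD3_c57)) :=
  Lre_e IH (LK LD1_c7 LD2_c12 LD3_c36) (LK LD1_c13 LD2_c38 LD3_c57) Lrfl Lrfl
theorem f97637 : Led Lsl_et (LP (LK LD1_c13 LD2_c20 LD3_c19)) = (LP (LK LD1_c7 LD2_c1 LD3_c58)) :=
  Lre_e IH (LK LD1_c13 LD2_c20 LD3_c19) (LK LD1_c7 LD2_c1 LD3_c58) Lrfl Lrfl
theorem f466286 : Led Lsl_ct (LP (LK LD1_c13 LD2_c38 LD3_c57)) = (LP (LK LD1_c13 LD2_c20 LD3_c19)) :=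
  Lgr Lrot15 (Lpe (f441669 IH) (Lpr_cf (K28.f466275 IH) (Lpe (f97637 IH) (Lpn (LP (LK LD1_c13 LD2_c20 LD3_c19))))))
theorem f513093 : Led Lsl_ff (LP (LK LD1_c13 LD2_c38 LD3_c57)) = (LP (LK LD1_c13 LD2_c52 LD3_c12)) :=
  Lgr Lrot23 (Lpr_ct (f466286 IH) (Lpe (f512276 IH) (Lpr_ct (f513088 IH) (Lpn (LP (LK LD1_c13 LD2_c52 LD3_c12))))))
theorem f513099 : Led Lsl_ft (LP (LK LD1_c13 LD2_c38 LD3_c57)) = (LP (LK LD1_c13 LD2_c52 LD3_c12)) :=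
  Lgr Lrot48 (Lpr_ff (f513093 IH) (Lpn (LP (LK LD1_c13 LD2_c52 LD3_c12))))
theorem f97002 : Led Lsl_at (LP (LK LD1_c1 LD2_c45 LD3_c7)) = (LP (LK LD1_c1 LD2_c43 LD3_c16)) :=
  Lgr Lrot100 (Lpr_af (K3.f96966 IH) (Lpn (LP (LK LD1_c1 LD2_c43 LD3_c16))))
theorem f97386 : Led Lsl_at (LP (LK LD1_c3 LD2_c32 LD3_c20)) = (LP (LK LD1_c3 LD2_c35 LD3_c45)) :=
  Lgr Lrot51 (Lpr_df (K3.f97374 IH) (Lpe (f97002 IH) (Lpr_df (K3.f97129 IH) (Lpn (LP (LK LD1_c3 LD2_c35 LD3_c45))))))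
theorem f97418 : Led Lsl_at (LP (LK LD1_c1 LD2_c51 LD3_c35)) = (LP (LK LD1_c3 LD2_c35 LD3_c46)) :=
  Lgr Lrot107 (Lpr_cf (K3.f97145 IH) (Lpe (f97386 IH) (Lpr_cf (K3.f97416 IH) (Lpn (LP (LK LD1_c3 LD2_c35 LD3_c46))))))
theorem f97403 : Led Lsl_ff (LP (LK LD1_c3 LD2_c32 LD3_c20)) = (LP (LK LD1_c3 LD2_c35 LD3_c46)) :=
  Lgr Lrot3 (Lpr_ft (K3.f97396 IH) (Lpn (LP (LK LD1_c3 LD2_c35 LD3_c46))))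
theorem f97450 : Led Lsl_ff (LP (LK LD1_c1 LD2_c51 LD3_c35)) = (LP (LK LD1_c3 LD2_c35 LD3_c45)) :=
  Lgr Lrot30 (Lpr_at (f97418 IH) (Lpe (f97403 IH) (Lpr_at (f97386 IH) (Lpn (LP (LK LD1_c3 LD2_c35 LD3_c45))))))
theorem f108526 : Led Lsl_gt (LP (LK LD1_c3 LD2_c35 LD3_c45)) = (LP (LK LD1_c1 LD2_c44 LD3_c56)) :=
  Lgr Lrot5 (Lpe (f97450 IH) (Lpr_at (f97418 IH) (Lpr_gf (K3.f108524 IH) (Lpn (LP (LK LD1_c1 LD2_c44 LD3_c56))))))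
theorem f440177 : Led Lsl_gt (LP (LK LD1_c7 LD2_c13 LD3_c41)) = (LP (LK LD1_c3 LD2_c36 LD3_c41)) :=
  Lre_g IH (LK LD1_c7 LD2_c13 LD3_c41) (LK LD1_c3 LD2_c36 LD3_c41) Lrfl Lrfl
theorem f108419 : Led Lsl_et (LP (LK LD1_c7 LD2_c12 LD3_c38)) = (LP (LK LD1_c3 LD2_c36 LD3_c8)) :=
  Lre_e IH (LK LD1_c7 LD2_c12 LD3_c38) (LK LD1_c3 LD2_c36 LD3_c8) Lrfl Lrfl
theorem f441643 : Led Lsl_df (LP (LK LD1_c7 LD2_c13 LD3_c41)) = (LP (LK LD1_c7 LD2_c12 LD3_c38)) :=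
  Lgr Lrot170 (Lpr_gt (f440177 IH) (Lpe (K28.f128173 IH) (Lpr_et (K5.f128176 IH) (Lpr_gt (K3.f5902 IH) (Lpr_dt (K3.f97133 IH) (Lpr_gt (f108526 IH) (Lpe (K3.f94481 IH) (Lpr_et (K3.f108307 IH) (Lpr_gt (K28.f17896 IH) (Lpe (f108419 IH) (Lpn (LP (LK LD1_c7 LD2_c12 LD3_c38)))))))))))))
theorem f441645 : Led Lsl_bt (LP (LK LD1_c7 LD2_c13 LD3_c41)) = (LP (LK LD1_c13 LD2_c40 LD3_c53)) :=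
  Lre_b IH (LK LD1_c7 LD2_c13 LD3_c41) (LK LD1_c13 LD2_c40 LD3_c53) Lrfl Lrfl
theorem f441646 : Led Lsl_bt (LP (LK LD1_c13 LD2_c38 LD3_c57)) = (LP (LK LD1_c7 LD2_c12 LD3_c38)) :=
  Lre_b IH (LK LD1_c13 LD2_c38 LD3_c57) (LK LD1_c7 LD2_c12 LD3_c38) Lrfl Lrfl
theorem f441647 : Led Lsl_dt (LP (LK LD1_c13 LD2_c40 LD3_c53)) = (LP (LK LD1_c13 LD2_c38 LD3_c57)) :=
  Lgr Lrot79 (Lpe (f441645 IH) (Lpr_df (f441643 IH) (Lpe (f441646 IH) (Lpn (LP (LK LD1_c13 LD2_c38 LD3_c57))))))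
theorem f511828 : Led Lsl_df (LP (LK LD1_c7 LD2_c19 LD3_c55)) = (LP (LK LD1_c7 LD2_c7 LD3_c44)) :=
  Lgr Lrot38 (Lpr_dt (f511713 IH) (Lpn (LP (LK LD1_c7 LD2_c7 LD3_c44))))
theorem f511837 : Led Lsl_bt (LP (LK LD1_c7 LD2_c19 LD3_c55)) = (LP (LK LD1_c13 LD2_c52 LD3_c12)) :=
  Lre_b IH (LK LD1_c7 LD2_c19 LD3_c55) (LK LD1_c13 LD2_c52 LD3_c12) Lrfl Lrfl
theorem f464969 : Led Lsl_bt (LP (LK LD1_c13 LD2_c30 LD3_c10)) = (LP (LK LD1_c7 LD2_c7 LD3_c44)) :=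
  Lre_b IH (LK LD1_c13 LD2_c30 LD3_c10) (LK LD1_c7 LD2_c7 LD3_c44) Lrfl Lrfl
theorem f511846 : Led Lsl_dt (LP (LK LD1_c13 LD2_c52 LD3_c12)) = (LP (LK LD1_c13 LD2_c30 LD3_c10)) :=
  Lgr Lrot79 (Lpe (f511837 IH) (Lpr_df (f511828 IH) (Lpe (f464969 IH) (Lpn (LP (LK LD1_c13 LD2_c30 LD3_c10))))))
theorem f513105 : Led Lsl_ff (LP (LK LD1_c13 LD2_c40 LD3_c53)) = (LP (LK LD1_c13 LD2_c30 LD3_c10)) :=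
  Lgr Lrot19 (Lpr_dt (f441647 IH) (Lpr_ft (f513099 IH) (Lpr_dt (f511846 IH) (Lpn (LP (LK LD1_c13 LD2_c30 LD3_c10))))))
theorem f441665 : Led Lsl_bt (LP (LK LD1_c13 LD2_c40 LD3_c53)) = (LP (LK LD1_c7 LD2_c13 LD3_c41)) :=
  Lre_b IH (LK LD1_c13 LD2_c40 LD3_c53) (LK LD1_c7 LD2_c13 LD3_c41) Lrfl Lrfl
theorem f511202 : Led Lsl_bt (LP (LK LD1_c7 LD2_c7 LD3_c44)) = (LP (LK LD1_c13 LD2_c30 LD3_c10)) :=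
  Lre_b IH (LK LD1_c7 LD2_c7 LD3_c44) (LK LD1_c13 LD2_c30 LD3_c10) Lrfl Lrfl
theorem f513107 : Led Lsl_ft (LP (LK LD1_c7 LD2_c13 LD3_c41)) = (LP (LK LD1_c7 LD2_c7 LD3_c44)) :=
  Lgr Lrot75 (Lpe (f441665 IH) (Lpr_ff (f513105 IH) (Lpe (f511202 IH) (Lpn (LP (LK LD1_c7 LD2_c7 LD3_c44))))))
theorem f513114 : Led Lsl_af (LP (LK LD1_c7 LD2_c13 LD3_c40)) = (LP (LK LD1_c7 LD2_c7 LD3_c44)) :=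
  Lgr Lrot31 (Lpe (K32.f462008 IH) (Lpe (f440177 IH) (Lpr_ft (f513107 IH) (Lpn (LP (LK LD1_c7 LD2_c7 LD3_c44))))))
theorem f513120 : Led Lsl_at (LP (LK LD1_c13 LD2_c17 LD3_c7)) = (LP (LK LD1_c7 LD2_c19 LD3_c55)) :=
  Lgr Lrot51 (Lpe (K32.f475157 IH) (Lpr_af (f513114 IH) (Lpe (f511713 IH) (Lpn (LP (LK LD1_c7 LD2_c19 LD3_c55))))))
theorem f511704 : Led Lsl_ct (LP (LK LD1_c3 LD2_c39 LD3_c51)) = (LP (LK LD1_c1 LD2_c46 LD3_c51)) :=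
  Lre_c IH (LK LD1_c3 LD2_c39 LD3_c51) (LK LD1_c1 LD2_c46 LD3_c51) Lrfl Lrfl
theorem f463775 : Led Lsl_df (LP (LK LD1_c13 LD2_c14 LD3_c25)) = (LP (LK LD1_c7 LD2_c12 LD3_c19)) :=
  Lgr Lrot38 (Lpr_dt (K28.f463773 IH) (Lpn (LP (LK LD1_c7 LD2_c12 LD3_c19))))
theorem f464903 : Led Lsl_at (LP (LK LD1_c13 LD2_c14 LD3_c25)) = (LP (LK LD1_c13 LD2_c13 LD3_c59)) :=
  Lgr Lrot51 (Lpr_df (f463775 IH) (Lpr_af (K28.f441572 IH) (Lpr_df (K28.f464901 IH) (Lpn (LP (LK LD1_c13 LD2_c13 LD3_c59))))))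
theorem f463787 : Led Lsl_gt (LP (LK LD1_c7 LD2_c7 LD3_c46)) = (LP (LK LD1_c13 LD2_c30 LD3_c16)) :=
  Lre_g IH (LK LD1_c7 LD2_c7 LD3_c46) (LK LD1_c13 LD2_c30 LD3_c16) Lrfl Lrfl
theorem f489559 : Led Lsl_gt (LP (LK LD1_c13 LD2_c30 LD3_c16)) = (LP (LK LD1_c13 LD2_c13 LD3_c59)) :=
  Lgr Lrot46 (Lpe (f463787 IH) (Lpe (K28.f463780 IH) (Lpr_at (f464903 IH) (Lpn (LP (LK LD1_c13 LD2_c13 LD3_c59))))))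
theorem f455325 : Led Lsl_ct (LP (LK LD1_c13 LD2_c14 LD3_c18)) = (LP (LK LD1_c6 LD2_c58 LD3_c24)) :=
  Lre_c IH (LK LD1_c13 LD2_c14 LD3_c18) (LK LD1_c6 LD2_c58 LD3_c24) Lrfl Lrfl
theorem f477667 : Led Lsl_gf (LP (LK LD1_c13 LD2_c14 LD3_c18)) = (LP (LK LD1_c7 LD2_c6 LD3_c15)) :=
  Lgr Lrot104 (Lpr_ct (f455325 IH) (Lpe (K24.f455157 IH) (Lpe (K24.f455147 IH) (Lpe (K29.f477584 IH) (Lpe (K29.f467498 IH) (Lpr_gf (K30.f477665 IH) (Lpr_df (f461959 IH) (Lpr_gt (K28.f94437 IH) (Lpr_ct (K28.f108637 IH) (Lpn (LP (LK LD1_c7 LD2_c6 LD3_c15))))))))))))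
theorem f446474 : Led Lsl_ct (LP (LK LD1_c6 LD2_c58 LD3_c29)) = (LP (LK LD1_c13 LD2_c14 LD3_c29)) :=
  Lre_c IH (LK LD1_c6 LD2_c58 LD3_c29) (LK LD1_c13 LD2_c14 LD3_c29) Lrfl Lrfl
theorem f446473 : Led Lsl_dt (LP (LK LD1_c3 LD2_c28 LD3_c8)) = (LP (LK LD1_c6 LD2_c58 LD3_c29)) :=
  Lre_d IH (LK LD1_c3 LD2_c28 LD3_c8) (LK LD1_c6 LD2_c58 LD3_c29) Lrfl Lrfl
theorem f479750 : Led Lsl_gt (LP (LK LD1_c3 LD2_c39 LD3_c40)) = (LP (LK LD1_c6 LD2_c52 LD3_c23)) :=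
  Lgr Lrot65 (Lpr_cf (f479667 IH) (Lpr_bt (f479640 IH) (Lpe (K29.f455753 IH) (Lpe (K29.f450732 IH) (Lpr_ct (K29.f455785 IH) (Lpq (K29.f457668 IH) (Lpr_gf (K24.f455731 IH) (Lpe (K24.f457422 IH) (Lpe (K24.f11036 IH) (Lpe (K29.f11042 IH) (Lpr_ct (K29.f11044 IH) (Lpn (LP (LK LD1_c6 LD2_c52 LD3_c23))))))))))))))
theorem f479761 : Led Lsl_gf (LP (LK LD1_c6 LD2_c58 LD3_c15)) = (LP (LK LD1_c7 LD2_c8 LD3_c11)) :=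
  Lgr Lrot143 (Lpr_dt (K32.f455311 IH) (Lpr_cf (K28.f464131 IH) (Lpe (K4.f106128 IH) (Lpr_gf (K29.f468352 IH) (Lpe (K30.f463850 IH) (Lpr_gf (K30.f477669 IH) (Lpe (f479661 IH) (Lpr_gt (f479750 IH) (Lpr_dt (f464177 IH) (Lpn (LP (LK LD1_c7 LD2_c8 LD3_c11))))))))))))
theorem f489561 : Led Lsl_ct (LP (LK LD1_c13 LD2_c30 LD3_c16)) = (LP (LK LD1_c7 LD2_c8 LD3_c11)) :=
  Lgr Lrot8 (Lpr_gt (f489559 IH) (Lpe (K28.f464901 IH) (Lpe (f477667 IH) (Lpr_dt (K24.f455245 IH) (Lpe (f446474 IH) (Lpe (f446473 IH) (Lpe (K28.f455309 IH) (Lpe (K32.f455311 IH) (Lpr_gf (f479761 IH) (Lpn (LP (LK LD1_c7 LD2_c8 LD3_c11))))))))))))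
theorem f511715 : Led Lsl_gf (LP (LK LD1_c3 LD2_c39 LD3_c51)) = (LP (LK LD1_c7 LD2_c3 LD3_c44)) :=
  Lgr Lrot147 (Lpr_ct (f511704 IH) (Lpr_gt (f511709 IH) (Lpr_ct (K29.f11044 IH) (Lpr_df (f464175 IH) (Lpe (f489561 IH) (Lpe (f463787 IH) (Lpe (K28.f440158 IH) (Lpe (K28.f97378 IH) (Lpe (K28.f466601 IH) (Lpn (LP (LK LD1_c7 LD2_c3 LD3_c44))))))))))))
theorem f513143 : Led Lsl_ff (LP (LK LD1_c13 LD2_c17 LD3_c7)) = (LP (LK LD1_c7 LD2_c3 LD3_c44)) :=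
  Lgr Lrot52 (Lpr_at (f513120 IH) (Lpe (f511712 IH) (Lpr_gf (f511715 IH) (Lpn (LP (LK LD1_c7 LD2_c3 LD3_c44))))))
theorem f513153 : Led Lsl_ft (LP (LK LD1_c13 LD2_c17 LD3_c7)) = (LP (LK LD1_c7 LD2_c3 LD3_c44)) :=
  Lgr Lrot48 (Lpr_ff (f513143 IH) (Lpn (LP (LK LD1_c7 LD2_c3 LD3_c44))))
theorem f108034 : Led Lsl_ct (LP (LK LD1_c3 LD2_c33 LD3_c40)) = (LP (LK LD1_c7 LD2_c8 LD3_c13)) :=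
  Lre_c IH (LK LD1_c3 LD2_c33 LD3_c40) (LK LD1_c7 LD2_c8 LD3_c13) Lrfl Lrfl
theorem f464180 : Led Lsl_gt (LP (LK LD1_c7 LD2_c8 LD3_c13)) = (LP (LK LD1_c13 LD2_c31 LD3_c3)) :=
  Lre_g IH (LK LD1_c7 LD2_c8 LD3_c13) (LK LD1_c13 LD2_c31 LD3_c3) Lrfl Lrfl
theorem f479754 : Led Lsl_cf (LP (LK LD1_c7 LD2_c13 LD3_c40)) = (LP (LK LD1_c13 LD2_c31 LD3_c3)) :=
  Lgr Lrot99 (Lpr_df (K32.f475162 IH) (Lpe (K29.f463880 IH) (Lpr_gf (K30.f477669 IH) (Lpe (f479661 IH) (Lpr_gf (f479752 IH) (Lpr_df (K28.f465648 IH) (Lpr_gt (K28.f108036 IH) (Lpr_ct (f108034 IH) (Lpr_gt (f464180 IH) (Lpn (LP (LK LD1_c13 LD2_c31 LD3_c3))))))))))))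
theorem f479756 : Led Lsl_ct (LP (LK LD1_c7 LD2_c13 LD3_c40)) = (LP (LK LD1_c13 LD2_c31 LD3_c3)) :=
  Lgr Lrot59 (Lpr_cf (f479754 IH) (Lpn (LP (LK LD1_c13 LD2_c31 LD3_c3))))
theorem f457463 : Led Lsl_ct (LP (LK LD1_c6 LD2_c52 LD3_c24)) = (LP (LK LD1_c13 LD2_c4 LD3_c18)) :=
  Lre_c IH (LK LD1_c6 LD2_c52 LD3_c24) (LK LD1_c13 LD2_c4 LD3_c18) Lrfl Lrfl
theorem f464935 : Led Lsl_ct (LP (LK LD1_c13 LD2_c40 LD3_c55)) = (LP (LK LD1_c7 LD2_c14 LD3_c16)) :=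
  Lgr Lrot59 (Lpr_cf (f464927 IH) (Lpn (LP (LK LD1_c7 LD2_c14 LD3_c16))))
theorem f510677 : Led Lsl_dt (LP (LK LD1_c13 LD2_c4 LD3_c18)) = (LP (LK LD1_c13 LD2_c40 LD3_c55)) :=
  Lgr Lrot173 (Lpe (f457463 IH) (Lpe (f457472 IH) (Lpe (K28.f15791 IH) (Lpe (K24.f446495 IH) (Lpe (K29.f446491 IH) (Lpr_df (K29.f470789 IH) (Lpe (K32.f470794 IH) (Lpr_df (K32.f510675 IH) (Lpe (K32.f464952 IH) (Lpe (K32.f464951 IH) (Lpe (K29.f106226 IH) (Lpe (K32.f106232 IH) (Lpe (f106225 IH) (Lpe (f464218 IH) (Lpe (f464935 IH) (Lpn (LP (LK LD1_c13 LD2_c40 LD3_c55))))))))))))))))))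
theorem f160447 : Led Lsl_ct (LP (LK LD1_c7 LD2_c15 LD3_c25)) = (LP (LK LD1_c13 LD2_c44 LD3_c4)) :=
  Lre_c IH (LK LD1_c7 LD2_c15 LD3_c25) (LK LD1_c13 LD2_c44 LD3_c4) Lrfl Lrfl
theorem f490114 : Led Lsl_gf (LP (LK LD1_c13 LD2_c4 LD3_c18)) = (LP (LK LD1_c13 LD2_c44 LD3_c4)) :=
  Lgr Lrot104 (Lpr_ct (f457470 IH) (Lpe (f457472 IH) (Lpe (K28.f15791 IH) (Lpq (K24.f461786 IH) (Lpe (K24.f456825 IH) (Lpe (K28.f108642 IH) (Lpe (K28.f160443 IH) (Lpe (K30.f97047 IH) (Lpr_gt (K29.f97086 IH) (Lpr_ct (f160447 IH) (Lpn (LP (LK LD1_c13 LD2_c44 LD3_c4)))))))))))))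
theorem f477591 : Led Lsl_ct (LP (LK LD1_c13 LD2_c44 LD3_c4)) = (LP (LK LD1_c7 LD2_c15 LD3_c25)) :=
  Lre_c IH (LK LD1_c13 LD2_c44 LD3_c4) (LK LD1_c7 LD2_c15 LD3_c25) Lrfl Lrfl
theorem f106227 : Led Lsl_gt (LP (LK LD1_c3 LD2_c35 LD3_c49)) = (LP (LK LD1_c1 LD2_c44 LD3_c45)) :=
  Lre_g IH (LK LD1_c3 LD2_c35 LD3_c49) (LK LD1_c1 LD2_c44 LD3_c45) Lrfl Lrfl
theorem f441642 : Led Lsl_dt (LP (LK LD1_c7 LD2_c12 LD3_c16)) = (LP (LK LD1_c3 LD2_c35 LD3_c49)) :=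
  Lre_d IH (LK LD1_c7 LD2_c12 LD3_c16) (LK LD1_c3 LD2_c35 LD3_c49) Lrfl Lrfl
theorem f511211 : Led Lsl_gt (LP (LK LD1_c7 LD2_c15 LD3_c25)) = (LP (LK LD1_c7 LD2_c12 LD3_c16)) :=
  Lgr Lrot94 (Lpe (f477591 IH) (Lpe (f490114 IH) (Lpr_dt (f510677 IH) (Lpr_gt (f464925 IH) (Lpr_dt (K28.f463773 IH) (Lpe (K28.f98528 IH) (Lpe (K28.f98514 IH) (Lpe (f106227 IH) (Lpe (f441642 IH) (Lpn (LP (LK LD1_c7 LD2_c12 LD3_c16))))))))))))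
theorem f489563 : Led Lsl_cf (LP (LK LD1_c13 LD2_c30 LD3_c16)) = (LP (LK LD1_c7 LD2_c8 LD3_c11)) :=
  Lgr Lrot166 (Lpr_gt (f489559 IH) (Lpe (K28.f464901 IH) (Lpe (f477667 IH) (Lpr_dt (K24.f455245 IH) (Lpr_ct (K24.f446460 IH) (Lpe (f446473 IH) (Lpe (K28.f455309 IH) (Lpe (K32.f455311 IH) (Lpr_gf (f479761 IH) (Lpn (LP (LK LD1_c7 LD2_c8 LD3_c11))))))))))))
theorem f510815 : Led Lsl_ft (LP (LK LD1_c13 LD2_c30 LD3_c16)) = (LP (LK LD1_c13 LD2_c40 LD3_c56)) :=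
  Lgr Lrot4 (Lpr_cf (f489563 IH) (Lpr_ff (f510811 IH) (Lpe (K32.f470794 IH) (Lpn (LP (LK LD1_c13 LD2_c40 LD3_c56))))))
theorem f510489 : Led Lsl_dt (LP (LK LD1_c13 LD2_c4 LD3_c14)) = (LP (LK LD1_c13 LD2_c30 LD3_c17)) :=
  Lgr Lrot42 (Lpr_df (K32.f510485 IH) (Lpn (LP (LK LD1_c13 LD2_c30 LD3_c17))))
theorem f458542 : Led Lsl_ct (LP (LK LD1_c6 LD2_c52 LD3_c20)) = (LP (LK LD1_c13 LD2_c4 LD3_c14)) :=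
  Lre_c IH (LK LD1_c6 LD2_c52 LD3_c20) (LK LD1_c13 LD2_c4 LD3_c14) Lrfl Lrfl
theorem f93164 : Led Lsl_dt (LP (LK LD1_c3 LD2_c32 LD3_c43)) = (LP (LK LD1_c7 LD2_c6 LD3_c18)) :=
  Lre_d IH (LK LD1_c3 LD2_c32 LD3_c43) (LK LD1_c7 LD2_c6 LD3_c18) Lrfl Lrfl
theorem f128112 : Led Lsl_ct (LP (LK LD1_c7 LD2_c6 LD3_c18)) = (LP (LK LD1_c13 LD2_c27 LD3_c49)) :=
  Lre_c IH (LK LD1_c7 LD2_c6 LD3_c18) (LK LD1_c13 LD2_c27 LD3_c49) Lrfl Lrfl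
theorem f510491 : Led Lsl_df (LP (LK LD1_c13 LD2_c30 LD3_c16)) = (LP (LK LD1_c13 LD2_c27 LD3_c49)) :=
  Lgr Lrot43 (Lpr_ct (f489561 IH) (Lpe (f464175 IH) (Lpr_ct (f11043 IH) (Lpr_dt (K28.f458528 IH) (Lpr_ct (K28.f16708 IH) (Lpr_dt (K29.f458558 IH) (Lpr_ct (f458542 IH) (Lpr_dt (f510489 IH) (Lpr_ct (f465653 IH) (Lpe (K28.f465648 IH) (Lpr_ct (K29.f128113 IH) (Lpe (K28.f128110 IH) (Lpr_ct (K24.f93159 IH) (Lpr_dt (f93164 IH) (Lpr_ct (f128112 IH) (Lpn (LP (LK LD1_c13 LD2_c27 LD3_c49))))))))))))))))))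
theorem f511144 : Led Lsl_ff (LP (LK LD1_c13 LD2_c27 LD3_c49)) = (LP (LK LD1_c13 LD2_c38 LD3_c46)) :=
  Lgr Lrot19 (Lpe (f510491 IH) (Lpr_ft (f510815 IH) (Lpr_dt (f510679 IH) (Lpn (LP (LK LD1_c13 LD2_c38 LD3_c46))))))
theorem f510698 : Led Lsl_af (LP (LK LD1_c13 LD2_c4 LD3_c18)) = (LP (LK LD1_c13 LD2_c27 LD3_c49)) :=
  Lgr Lrot68 (Lpr_ct (f457470 IH) (Lpr_at (f510694 IH) (Lpr_ct (f128112 IH) (Lpn (LP (LK LD1_c13 LD2_c27 LD3_c49))))))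
theorem f511152 : Led Lsl_gf (LP (LK LD1_c13 LD2_c44 LD3_c4)) = (LP (LK LD1_c13 LD2_c38 LD3_c46)) :=
  Lgr Lrot47 (Lpe (f490114 IH) (Lpr_af (f510698 IH) (Lpr_ff (f511144 IH) (Lpn (LP (LK LD1_c13 LD2_c38 LD3_c46))))))
theorem f441639 : Led Lsl_ct (LP (LK LD1_c7 LD2_c12 LD3_c16)) = (LP (LK LD1_c13 LD2_c38 LD3_c37)) :=
  Lre_c IH (LK LD1_c7 LD2_c12 LD3_c16) (LK LD1_c13 LD2_c38 LD3_c37) Lrfl Lrfl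
theorem f511213 : Led Lsl_dt (LP (LK LD1_c13 LD2_c31 LD3_c3)) = (LP (LK LD1_c13 LD2_c38 LD3_c37)) :=
  Lgr Lrot27 (Lpe (f479756 IH) (Lpe (K32.f462008 IH) (Lpe (K28.f106220 IH) (Lpe (K32.f440168 IH) (Lpr_df (K32.f510675 IH) (Lpe (f511152 IH) (Lpr_ct (f477591 IH) (Lpr_gt (f511211 IH) (Lpr_ct (f441639 IH) (Lpn (LP (LK LD1_c13 LD2_c38 LD3_c37))))))))))))
theorem f441640 : Led Lsl_ct (LP (LK LD1_c13 LD2_c38 LD3_c37)) = (LP (LK LD1_c7 LD2_c12 LD3_c16)) :=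
  Lre_c IH (LK LD1_c13 LD2_c38 LD3_c37) (LK LD1_c7 LD2_c12 LD3_c16) Lrfl Lrfl
theorem f513139 : Led Lsl_af (LP (LK LD1_c13 LD2_c17 LD3_c7)) = (LP (LK LD1_c7 LD2_c19 LD3_c55)) :=
  Lgr Lrot0 (Lpr_at (f513120 IH) (Lpn (LP (LK LD1_c7 LD2_c19 LD3_c55))))
theorem f513095 : Led Lsl_ft (LP (LK LD1_c7 LD2_c12 LD3_c38)) = (LP (LK LD1_c7 LD2_c19 LD3_c55)) :=
  Lgr Lrot75 (Lpe (f441646 IH) (Lpr_ff (f513093 IH) (Lpe (f511837 IH) (Lpn (LP (LK LD1_c7 LD2_c19 LD3_c55))))))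
theorem f513155 : Led Lsl_af (LP (LK LD1_c7 LD2_c12 LD3_c38)) = (LP (LK LD1_c7 LD2_c3 LD3_c44)) :=
  Lgr Lrot45 (Lpr_ft (f513095 IH) (Lpe (f513139 IH) (Lpr_ft (f513153 IH) (Lpn (LP (LK LD1_c7 LD2_c3 LD3_c44))))))
theorem f488231 : Led Lsl_dt (LP (LK LD1_c3 LD2_c30 LD3_c51)) = (LP (LK LD1_c7 LD2_c3 LD3_c37)) :=
  Lre_d IH (LK LD1_c3 LD2_c30 LD3_c51) (LK LD1_c7 LD2_c3 LD3_c37) Lrfl Lrfl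
theorem f463754 : Led Lsl_gt (LP (LK LD1_c6 LD2_c58 LD3_c27)) = (LP (LK LD1_c7 LD2_c13 LD3_c41)) :=
  Lgr Lrot139 (Lpe (K28.f455359 IH) (Lpr_gf (K28.f463750 IH) (Lpe (K28.f461961 IH) (Lpr_dt (K28.f461957 IH) (Lpe (K28.f441608 IH) (Lpe (K28.f108245 IH) (Lpr_et (K3.f108248 IH) (Lpe (K28.f108416 IH) (Lpe (f108419 IH) (Lpe (f441643 IH) (Lpn (LP (LK LD1_c7 LD2_c13 LD3_c41)))))))))))))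
theorem f441649 : Led Lsl_dt (LP (LK LD1_c7 LD2_c13 LD3_c41)) = (LP (LK LD1_c7 LD2_c12 LD3_c38)) :=
  Lgr Lrot42 (Lpr_df (f441643 IH) (Lpn (LP (LK LD1_c7 LD2_c12 LD3_c38))))
theorem f512018 : Led Lsl_ct (LP (LK LD1_c7 LD2_c3 LD3_c37)) = (LP (LK LD1_c7 LD2_c12 LD3_c38)) :=
  Lgr Lrot7 (Lpe (f488231 IH) (Lpr_gf (f512014 IH) (Lpr_df (K4.f106123 IH) (Lpe (K28.f464126 IH) (Lpr_cf (K29.f461966 IH) (Lpe (K28.f463750 IH) (Lpr_dt (K28.f455359 IH) (Lpr_gt (f463754 IH) (Lpr_dt (f441649 IH) (Lpn (LP (LK LD1_c7 LD2_c12 LD3_c38))))))))))))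
theorem f513161 : Led Lsl_ct (LP (LK LD1_c3 LD2_c35 LD3_c49)) = (LP (LK LD1_c3 LD2_c30 LD3_c51)) :=
  Lgr Lrot53 (Lpe (f441642 IH) (Lpe (f441640 IH) (Lpe (f511213 IH) (Lpe (f479756 IH) (Lpr_df (K32.f475162 IH) (Lpr_ft (f513153 IH) (Lpe (f513155 IH) (Lpe (f512018 IH) (Lpe (f488231 IH) (Lpn (LP (LK LD1_c3 LD2_c30 LD3_c51))))))))))))
theorem f513169 : Led Lsl_gt (LP (LK LD1_c7 LD2_c48 LD3_c3)) = (LP (LK LD1_c7 LD2_c3 LD3_c37)) :=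
  Lgr Lrot189 (Lpe (K29.f129896 IH) (Lpe (K29.f129895 IH) (Lpr_ct (K29.f129894 IH) (Lpe (K30.f477665 IH) (Lpr_dt (K29.f97087 IH) (Lpr_gt (f511211 IH) (Lpr_dt (f441642 IH) (Lpr_ct (f513161 IH) (Lpe (f488237 IH) (Lpn (LP (LK LD1_c7 LD2_c3 LD3_c37))))))))))))
theorem f483095 : Led Lsl_cf (LP (LK LD1_c3 LD2_c39 LD3_c2)) = (LP (LK LD1_c7 LD2_c17 LD3_c50)) :=
  Lgr Lrot11 (Lpr_ct (K30.f483093 IH) (Lpn (LP (LK LD1_c7 LD2_c17 LD3_c50))))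
theorem f482963 : Led Lsl_bt (LP (LK LD1_c3 LD2_c39 LD3_c0)) = (LP (LK LD1_c7 LD2_c18 LD3_c24)) :=
  Lre_b IH (LK LD1_c3 LD2_c39 LD3_c0) (LK LD1_c7 LD2_c18 LD3_c24) Lrfl Lrfl
theorem f512020 : Led Lsl_cf (LP (LK LD1_c7 LD2_c3 LD3_c37)) = (LP (LK LD1_c7 LD2_c12 LD3_c38)) :=
  Lgr Lrot14 (Lpe (f488231 IH) (Lpr_gf (f512014 IH) (Lpr_df (K4.f106123 IH) (Lpe (K28.f464126 IH) (Lpr_ct (K28.f461973 IH) (Lpe (K28.f463750 IH) (Lpr_dt (K28.f455359 IH) (Lpr_gt (f463754 IH) (Lpr_dt (f441649 IH) (Lpn (LP (LK LD1_c7 LD2_c12 LD3_c38))))))))))))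
theorem f441666 : Led Lsl_bt (LP (LK LD1_c7 LD2_c12 LD3_c38)) = (LP (LK LD1_c13 LD2_c38 LD3_c57)) :=
  Lre_b IH (LK LD1_c7 LD2_c12 LD3_c38) (LK LD1_c13 LD2_c38 LD3_c57) Lrfl Lrfl
theorem f513219 : Led Lsl_gf (LP (LK LD1_c7 LD2_c18 LD3_c24)) = (LP (LK LD1_c13 LD2_c38 LD3_c57)) :=
  Lgr Lrot124 (Lpe (f482963 IH) (Lpr_ct (K30.f481477 IH) (Lpr_gt (K30.f482962 IH) (Lpr_cf (f483095 IH) (Lpr_bt (f493650 IH) (Lpr_gt (K29.f455955 IH) (Lpr_ct (f479479 IH) (Lpr_gt (f513169 IH) (Lpr_cf (f512020 IH) (Lpr_bt (f441666 IH) (Lpn (LP (LK LD1_c13 LD2_c38 LD3_c57)))))))))))))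
theorem f482973 : Led Lsl_gt (LP (LK LD1_c7 LD2_c18 LD3_c24)) = (LP (LK LD1_c13 LD2_c49 LD3_c33)) :=
  Lre_g IH (LK LD1_c7 LD2_c18 LD3_c24) (LK LD1_c13 LD2_c49 LD3_c33) Lrfl Lrfl
theorem f513223 : Led Lsl_af (LP (LK LD1_c13 LD2_c49 LD3_c33)) = (LP (LK LD1_c13 LD2_c52 LD3_c12)) :=
  Lgr Lrot31 (Lpe (f482973 IH) (Lpr_gf (f513219 IH) (Lpr_ft (f513099 IH) (Lpn (LP (LK LD1_c13 LD2_c52 LD3_c12))))))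
theorem f513227 : Led Lsl_bt (LP (LK LD1_c13 LD2_c49 LD3_c33)) = (LP (LK LD1_c23 LD2_c18 LD3_c37)) :=
  Lre_b IH (LK LD1_c13 LD2_c49 LD3_c33) (LK LD1_c23 LD2_c18 LD3_c37) Lrfl Lrfl
theorem f475169 : Led Lsl_bt (LP (LK LD1_c22 LD2_c32 LD3_c50)) = (LP (LK LD1_c13 LD2_c17 LD3_c7)) :=
  Lre_b IH (LK LD1_c22 LD2_c32 LD3_c50) (LK LD1_c13 LD2_c17 LD3_c7) Lrfl Lrfl
theorem f513228 : Led Lsl_at (LP (LK LD1_c23 LD2_c18 LD3_c37)) = (LP (LK LD1_c22 LD2_c32 LD3_c50)) :=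
  Lgr Lrot67 (Lpe (f513227 IH) (Lpr_af (f513223 IH) (Lpe (f511837 IH) (Lpe (f513120 IH) (Lpe (f475169 IH) (Lpn (LP (LK LD1_c22 LD2_c32 LD3_c50))))))))
theorem f468112 : Led Lsl_bt (LP (LK LD1_c13 LD2_c17 LD3_c7)) = (LP (LK LD1_c22 LD2_c32 LD3_c50)) :=
  Lre_b IH (LK LD1_c13 LD2_c17 LD3_c7) (LK LD1_c22 LD2_c32 LD3_c50) Lrfl Lrfl
theorem f466481 : Led Lsl_bt (LP (LK LD1_c13 LD2_c23 LD3_c22)) = (LP (LK LD1_c7 LD2_c3 LD3_c44)) :=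
  Lre_b IH (LK LD1_c13 LD2_c23 LD3_c22) (LK LD1_c7 LD2_c3 LD3_c44) Lrfl Lrfl
theorem f513147 : Led Lsl_ft (LP (LK LD1_c22 LD2_c32 LD3_c50)) = (LP (LK LD1_c13 LD2_c23 LD3_c22)) :=
  Lgr Lrot75 (Lpe (f468112 IH) (Lpr_ff (f513143 IH) (Lpe (f466481 IH) (Lpn (LP (LK LD1_c13 LD2_c23 LD3_c22))))))
theorem f488659 : Led Lsl_at (LP (LK LD1_c13 LD2_c23 LD3_c22)) = (LP (LK LD1_c22 LD2_c41 LD3_c14)) :=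
  Lre_a IH (LK LD1_c13 LD2_c23 LD3_c22) (LK LD1_c22 LD2_c41 LD3_c14) Lrfl Lrfl
theorem f513248 : Led Lsl_ff (LP (LK LD1_c23 LD2_c18 LD3_c37)) = (LP (LK LD1_c22 LD2_c41 LD3_c14)) :=
  Lgr Lrot30 (Lpr_at (f513228 IH) (Lpr_ft (f513147 IH) (Lpr_at (f488659 IH) (Lpn (LP (LK LD1_c22 LD2_c41 LD3_c14))))))
theorem f513250 : Led Lsl_ft (LP (LK LD1_c23 LD2_c18 LD3_c37)) = (LP (LK LD1_c22 LD2_c41 LD3_c14)) :=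
  Lgr Lrot48 (Lpr_ff (f513248 IH) (Lpn (LP (LK LD1_c22 LD2_c41 LD3_c14))))
theorem f475173 : Led Lsl_ct (LP (LK LD1_c22 LD2_c32 LD3_c50)) = (LP (LK LD1_c13 LD2_c17 LD3_c15)) :=
  Lre_c IH (LK LD1_c22 LD2_c32 LD3_c50) (LK LD1_c13 LD2_c17 LD3_c15) Lrfl Lrfl
theorem f513243 : Led Lsl_at (LP (LK LD1_c13 LD2_c17 LD3_c15)) = (LP (LK LD1_c22 LD2_c32 LD3_c60)) :=
  Lre_a IH (LK LD1_c13 LD2_c17 LD3_c15) (LK LD1_c22 LD2_c32 LD3_c60) Lrfl Lrfl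
theorem f513244 : Led Lsl_cf (LP (LK LD1_c23 LD2_c18 LD3_c37)) = (LP (LK LD1_c22 LD2_c32 LD3_c60)) :=
  Lgr Lrot1 (Lpr_at (f513228 IH) (Lpr_ct (f475173 IH) (Lpr_at (f513243 IH) (Lpn (LP (LK LD1_c22 LD2_c32 LD3_c60))))))
theorem f488656 : Led Lsl_ct (LP (LK LD1_c22 LD2_c41 LD3_c14)) = (LP (LK LD1_c13 LD2_c23 LD3_c39)) :=
  Lre_c IH (LK LD1_c22 LD2_c41 LD3_c14) (LK LD1_c13 LD2_c23 LD3_c39) Lrfl Lrfl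
theorem f513252 : Led Lsl_ff (LP (LK LD1_c22 LD2_c32 LD3_c60)) = (LP (LK LD1_c13 LD2_c23 LD3_c39)) :=
  Lgr Lrot23 (Lpe (f513244 IH) (Lpr_ft (f513250 IH) (Lpr_ct (f488656 IH) (Lpn (LP (LK LD1_c13 LD2_c23 LD3_c39))))))
theorem f513280 : Led Lsl_ft (LP (LK LD1_c22 LD2_c32 LD3_c60)) = (LP (LK LD1_c13 LD2_c23 LD3_c39)) :=
  Lgr Lrot48 (Lpr_ff (f513252 IH) (Lpn (LP (LK LD1_c13 LD2_c23 LD3_c39))))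
theorem f63096 : Led Lsl_at (LP (LK LD1_c13 LD2_c23 LD3_c39)) = (LP (LK LD1_c7 LD2_c3 LD3_c55)) :=
  Lre_a IH (LK LD1_c13 LD2_c23 LD3_c39) (LK LD1_c7 LD2_c3 LD3_c55) Lrfl Lrfl
theorem f63106 : Led Lsl_gt (LP (LK LD1_c13 LD2_c23 LD3_c38)) = (LP (LK LD1_c7 LD2_c3 LD3_c55)) :=
  Lre_g IH (LK LD1_c13 LD2_c23 LD3_c38) (LK LD1_c7 LD2_c3 LD3_c55) Lrfl Lrfl
theorem f513288 : Led Lsl_gt (LP (LK LD1_c22 LD2_c32 LD3_c60)) = (LP (LK LD1_c13 LD2_c23 LD3_c38)) :=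
  Lgr Lrot5 (Lpr_ft (f513280 IH) (Lpr_at (f63096 IH) (Lpe (f63106 IH) (Lpn (LP (LK LD1_c13 LD2_c23 LD3_c38))))))
theorem f476546 : Led Lsl_ct (LP (LK LD1_c13 LD2_c23 LD3_c39)) = (LP (LK LD1_c22 LD2_c41 LD3_c14)) :=
  Lre_c IH (LK LD1_c13 LD2_c23 LD3_c39) (LK LD1_c22 LD2_c41 LD3_c14) Lrfl Lrfl
theorem f513284 : Led Lsl_cf (LP (LK LD1_c22 LD2_c32 LD3_c60)) = (LP (LK LD1_c23 LD2_c18 LD3_c37)) :=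
  Lgr Lrot108 (Lpr_ft (f513280 IH) (Lpr_ct (f476546 IH) (Lpe (f513248 IH) (Lpn (LP (LK LD1_c23 LD2_c18 LD3_c37))))))
theorem f513232 : Led Lsl_bt (LP (LK LD1_c23 LD2_c18 LD3_c37)) = (LP (LK LD1_c13 LD2_c49 LD3_c33)) :=
  Lre_b IH (LK LD1_c23 LD2_c18 LD3_c37) (LK LD1_c13 LD2_c49 LD3_c33) Lrfl Lrfl
theorem f476513 : Led Lsl_ct (LP (LK LD1_c22 LD2_c41 LD3_c22)) = (LP (LK LD1_c13 LD2_c23 LD3_c38)) :=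
  Lre_c IH (LK LD1_c22 LD2_c41 LD3_c22) (LK LD1_c13 LD2_c23 LD3_c38) Lrfl Lrfl
theorem f63098 : Led Lsl_ct (LP (LK LD1_c13 LD2_c23 LD3_c22)) = (LP (LK LD1_c7 LD2_c3 LD3_c55)) :=
  Lre_c IH (LK LD1_c13 LD2_c23 LD3_c22) (LK LD1_c7 LD2_c3 LD3_c55) Lrfl Lrfl
theorem f493663 : Led Lsl_bf (LP (LK LD1_c7 LD2_c17 LD3_c50)) = (LP (LK LD1_c6 LD2_c52 LD3_c23)) :=
  Lgr Lrot24 (Lpr_bt (f493650 IH) (Lpn (LP (LK LD1_c6 LD2_c52 LD3_c23))))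
theorem f108479 : Led Lsl_dt (LP (LK LD1_c3 LD2_c36 LD3_c12)) = (LP (LK LD1_c7 LD2_c12 LD3_c47)) :=
  Lre_d IH (LK LD1_c3 LD2_c36 LD3_c12) (LK LD1_c7 LD2_c12 LD3_c47) Lrfl Lrfl
theorem f510932 : Led Lsl_ff (LP (LK LD1_c7 LD2_c5 LD3_c53)) = (LP (LK LD1_c7 LD2_c12 LD3_c47)) :=
  Lgr Lrot19 (Lpr_dt (f465686 IH) (Lpr_ft (f510926 IH) (Lpr_dt (f108479 IH) (Lpn (LP (LK LD1_c7 LD2_c12 LD3_c47))))))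
theorem f510907 : Led Lsl_bt (LP (LK LD1_c7 LD2_c5 LD3_c53)) = (LP (LK LD1_c13 LD2_c27 LD3_c8)) :=
  Lre_b IH (LK LD1_c7 LD2_c5 LD3_c53) (LK LD1_c13 LD2_c27 LD3_c8) Lrfl Lrfl
theorem f510960 : Led Lsl_bt (LP (LK LD1_c13 LD2_c39 LD3_c10)) = (LP (LK LD1_c7 LD2_c12 LD3_c47)) :=
  Lre_b IH (LK LD1_c13 LD2_c39 LD3_c10) (LK LD1_c7 LD2_c12 LD3_c47) Lrfl Lrfl
theorem f511001 : Led Lsl_ft (LP (LK LD1_c13 LD2_c27 LD3_c8)) = (LP (LK LD1_c13 LD2_c39 LD3_c10)) :=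
  Lgr Lrot75 (Lpe (f510907 IH) (Lpr_ff (f510932 IH) (Lpe (f510960 IH) (Lpn (LP (LK LD1_c13 LD2_c39 LD3_c10))))))
theorem f511034 : Led Lsl_ff (LP (LK LD1_c13 LD2_c27 LD3_c8)) = (LP (LK LD1_c13 LD2_c39 LD3_c10)) :=
  Lgr Lrot3 (Lpr_ft (f511001 IH) (Lpn (LP (LK LD1_c13 LD2_c39 LD3_c10))))
theorem f458533 : Led Lsl_bt (LP (LK LD1_c7 LD2_c4 LD3_c23)) = (LP (LK LD1_c6 LD2_c52 LD3_c20)) :=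
  Lgr Lrot95 (Lpe (f446499 IH) (Lpr_bf (K28.f458529 IH) (Lpe (K32.f16707 IH) (Lpn (LP (LK LD1_c6 LD2_c52 LD3_c20))))))
theorem f458538 : Led Lsl_bf (LP (LK LD1_c7 LD2_c4 LD3_c23)) = (LP (LK LD1_c6 LD2_c52 LD3_c20)) :=
  Lgr Lrot24 (Lpr_bt (f458533 IH) (Lpn (LP (LK LD1_c6 LD2_c52 LD3_c20))))
theorem f510718 : Led Lsl_at (LP (LK LD1_c7 LD2_c12 LD3_c22)) = (LP (LK LD1_c6 LD2_c52 LD3_c20)) :=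
  Lgr Lrot100 (Lpr_af (f510716 IH) (Lpn (LP (LK LD1_c6 LD2_c52 LD3_c20))))
theorem f470695 : Led Lsl_bt (LP (LK LD1_c13 LD2_c38 LD3_c44)) = (LP (LK LD1_c7 LD2_c12 LD3_c22)) :=
  Lre_b IH (LK LD1_c13 LD2_c38 LD3_c44) (LK LD1_c7 LD2_c12 LD3_c22) Lrfl Lrfl
theorem f510908 : Led Lsl_at (LP (LK LD1_c13 LD2_c27 LD3_c8)) = (LP (LK LD1_c13 LD2_c38 LD3_c44)) :=
  Lgr Lrot67 (Lpe (f510907 IH) (Lpr_af (f510903 IH) (Lpr_bf (f458538 IH) (Lpe (f510718 IH) (Lpe (f470695 IH) (Lpn (LP (LK LD1_c13 LD2_c38 LD3_c44))))))))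
theorem f457458 : Led Lsl_bt (LP (LK LD1_c7 LD2_c4 LD3_c24)) = (LP (LK LD1_c6 LD2_c52 LD3_c24)) :=
  Lgr Lrot95 (Lpe (f457457 IH) (Lpr_bf (K28.f457429 IH) (Lpe (f16740 IH) (Lpn (LP (LK LD1_c6 LD2_c52 LD3_c24))))))
theorem f510498 : Led Lsl_bt (LP (LK LD1_c7 LD2_c6 LD3_c18)) = (LP (LK LD1_c13 LD2_c27 LD3_c47)) :=
  Lre_b IH (LK LD1_c7 LD2_c6 LD3_c18) (LK LD1_c13 LD2_c27 LD3_c47) Lrfl Lrfl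
theorem f510961 : Led Lsl_at (LP (LK LD1_c13 LD2_c27 LD3_c47)) = (LP (LK LD1_c13 LD2_c39 LD3_c10)) :=
  Lgr Lrot67 (Lpe (f510498 IH) (Lpe (f510694 IH) (Lpe (f457458 IH) (Lpr_af (f510956 IH) (Lpe (f510960 IH) (Lpn (LP (LK LD1_c13 LD2_c39 LD3_c10))))))))
theorem f511039 : Led Lsl_ft (LP (LK LD1_c13 LD2_c38 LD3_c44)) = (LP (LK LD1_c13 LD2_c27 LD3_c47)) :=
  Lgr Lrot101 (Lpe (f510908 IH) (Lpr_ff (f511034 IH) (Lpe (f510961 IH) (Lpn (LP (LK LD1_c13 LD2_c27 LD3_c47))))))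
theorem f470732 : Led Lsl_dt (LP (LK LD1_c7 LD2_c12 LD3_c21)) = (LP (LK LD1_c13 LD2_c38 LD3_c44)) :=
  Lre_d IH (LK LD1_c7 LD2_c12 LD3_c21) (LK LD1_c13 LD2_c38 LD3_c44) Lrfl Lrfl
theorem f468858 : Led Lsl_dt (LP (LK LD1_c13 LD2_c27 LD3_c47)) = (LP (LK LD1_c7 LD2_c6 LD3_c17)) :=
  Lre_d IH (LK LD1_c13 LD2_c27 LD3_c47) (LK LD1_c7 LD2_c6 LD3_c17) Lrfl Lrfl
theorem f511043 : Led Lsl_ff (LP (LK LD1_c7 LD2_c12 LD3_c21)) = (LP (LK LD1_c7 LD2_c6 LD3_c17)) :=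
  Lgr Lrot19 (Lpr_dt (f470732 IH) (Lpr_ft (f511039 IH) (Lpr_dt (f468858 IH) (Lpn (LP (LK LD1_c7 LD2_c6 LD3_c17))))))
theorem f470665 : Led Lsl_bt (LP (LK LD1_c1 LD2_c44 LD3_c46)) = (LP (LK LD1_c1 LD2_c44 LD3_c46)) :=
  Lgr Lrot92 (Lpr_ct (K29.f106226 IH) (Lpr_gt (K29.f470633 IH) (Lpe (K29.f466546 IH) (Lpr_bt (f466544 IH) (Lpe (K28.f459278 IH) (Lpr_ct (K28.f458972 IH) (Lpe (K29.f463476 IH) (Lpe (K4.f116127 IH) (Lpr_bt (K4.f106214 IH) (Lpr_gt (K29.f106222 IH) (Lpn (LP (LK LD1_c1 LD2_c44 LD3_c46)))))))))))))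
theorem f470664 : Led Lsl_bt (LP (LK LD1_c7 LD2_c12 LD3_c21)) = (LP (LK LD1_c3 LD2_c35 LD3_c52)) :=
  Lre_b IH (LK LD1_c7 LD2_c12 LD3_c21) (LK LD1_c3 LD2_c35 LD3_c52) Lrfl Lrfl
theorem f441630 : Led Lsl_bt (LP (LK LD1_c3 LD2_c35 LD3_c52)) = (LP (LK LD1_c7 LD2_c12 LD3_c21)) :=
  Lre_b IH (LK LD1_c3 LD2_c35 LD3_c52) (LK LD1_c7 LD2_c12 LD3_c21) Lrfl Lrfl
theorem f470734 : Led Lsl_cf (LP (LK LD1_c7 LD2_c12 LD3_c21)) = (LP (LK LD1_c7 LD2_c12 LD3_c21)) :=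
  Lgr Lrot97 (Lpr_bt (f470664 IH) (Lpr_ct (K29.f441627 IH) (Lpr_bt (f470665 IH) (Lpr_ct (K29.f106226 IH) (Lpr_bt (f441630 IH) (Lpn (LP (LK LD1_c7 LD2_c12 LD3_c21))))))))
theorem f93165 : Led Lsl_bt (LP (LK LD1_c7 LD2_c6 LD3_c17)) = (LP (LK LD1_c3 LD2_c32 LD3_c43)) :=
  Lre_b IH (LK LD1_c7 LD2_c6 LD3_c17) (LK LD1_c3 LD2_c32 LD3_c43) Lrfl Lrfl
theorem f128121 : Led Lsl_bt (LP (LK LD1_c3 LD2_c32 LD3_c43)) = (LP (LK LD1_c7 LD2_c6 LD3_c17)) :=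
  Lre_b IH (LK LD1_c3 LD2_c32 LD3_c43) (LK LD1_c7 LD2_c6 LD3_c17) Lrfl Lrfl
theorem f468826 : Led Lsl_cf (LP (LK LD1_c7 LD2_c6 LD3_c17)) = (LP (LK LD1_c7 LD2_c6 LD3_c17)) :=
  Lgr Lrot97 (Lpr_bt (f93165 IH) (Lpr_ct (K29.f93163 IH) (Lpr_bt (K32.f468354 IH) (Lpr_ct (K24.f93159 IH) (Lpr_bt (f128121 IH) (Lpn (LP (LK LD1_c7 LD2_c6 LD3_c17))))))))
theorem f511047 : Led Lsl_ft (LP (LK LD1_c7 LD2_c12 LD3_c21)) = (LP (LK LD1_c7 LD2_c6 LD3_c17)) :=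
  Lgr Lrot4 (Lpr_cf (f470734 IH) (Lpr_ff (f511043 IH) (Lpr_cf (f468826 IH) (Lpn (LP (LK LD1_c7 LD2_c6 LD3_c17))))))
theorem f457455 : Led Lsl_bt (LP (LK LD1_c3 LD2_c31 LD3_c21)) = (LP (LK LD1_c3 LD2_c24 LD3_c60)) :=
  Lgr Lrot127 (Lpr_bf (K28.f457429 IH) (Lpn (LP (LK LD1_c3 LD2_c24 LD3_c60))))
theorem f510690 : Led Lsl_at (LP (LK LD1_c3 LD2_c24 LD3_c60)) = (LP (LK LD1_c3 LD2_c32 LD3_c43)) :=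
  Lgr Lrot100 (Lpr_af (K32.f510682 IH) (Lpn (LP (LK LD1_c3 LD2_c32 LD3_c43))))
theorem f489979 : Led Lsl_bt (LP (LK LD1_c7 LD2_c12 LD3_c46)) = (LP (LK LD1_c3 LD2_c36 LD3_c12)) :=
  Lre_b IH (LK LD1_c7 LD2_c12 LD3_c46) (LK LD1_c3 LD2_c36 LD3_c12) Lrfl Lrfl
theorem f510938 : Led Lsl_at (LP (LK LD1_c7 LD2_c6 LD3_c17)) = (LP (LK LD1_c7 LD2_c12 LD3_c46)) :=
  Lgr Lrot67 (Lpe (f128121 IH) (Lpe (f510690 IH) (Lpe (f457455 IH) (Lpr_af (f510934 IH) (Lpe (f489979 IH) (Lpn (LP (LK LD1_c7 LD2_c12 LD3_c46))))))))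
theorem f465702 : Led Lsl_bt (LP (LK LD1_c7 LD2_c5 LD3_c52)) = (LP (LK LD1_c3 LD2_c32 LD3_c25)) :=
  Lre_b IH (LK LD1_c7 LD2_c5 LD3_c52) (LK LD1_c3 LD2_c32 LD3_c25) Lrfl Lrfl
theorem f108483 : Led Lsl_bt (LP (LK LD1_c3 LD2_c36 LD3_c12)) = (LP (LK LD1_c7 LD2_c12 LD3_c46)) :=
  Lre_b IH (LK LD1_c3 LD2_c36 LD3_c12) (LK LD1_c7 LD2_c12 LD3_c46) Lrfl Lrfl
theorem f510928 : Led Lsl_ff (LP (LK LD1_c7 LD2_c5 LD3_c52)) = (LP (LK LD1_c7 LD2_c12 LD3_c46)) :=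
  Lgr Lrot25 (Lpr_bt (f465702 IH) (Lpr_ft (f510926 IH) (Lpr_bt (f108483 IH) (Lpn (LP (LK LD1_c7 LD2_c12 LD3_c46))))))
theorem f511049 : Led Lsl_af (LP (LK LD1_c7 LD2_c12 LD3_c21)) = (LP (LK LD1_c7 LD2_c5 LD3_c52)) :=
  Lgr Lrot45 (Lpr_ft (f511047 IH) (Lpr_at (f510938 IH) (Lpe (f510928 IH) (Lpn (LP (LK LD1_c7 LD2_c5 LD3_c52))))))
theorem f470720 : Led Lsl_et (LP (LK LD1_c7 LD2_c12 LD3_c21)) = (LP (LK LD1_c13 LD2_c38 LD3_c45)) :=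
  Lre_e IH (LK LD1_c7 LD2_c12 LD3_c21) (LK LD1_c13 LD2_c38 LD3_c45) Lrfl Lrfl
theorem f489458 : Led Lsl_et (LP (LK LD1_c13 LD2_c27 LD3_c9)) = (LP (LK LD1_c7 LD2_c5 LD3_c52)) :=
  Lre_e IH (LK LD1_c13 LD2_c27 LD3_c9) (LK LD1_c7 LD2_c5 LD3_c52) Lrfl Lrfl
theorem f511055 : Led Lsl_at (LP (LK LD1_c13 LD2_c38 LD3_c45)) = (LP (LK LD1_c13 LD2_c27 LD3_c9)) :=
  Lgr Lrot80 (Lpe (f470720 IH) (Lpr_af (f511049 IH) (Lpe (f489458 IH) (Lpn (LP (LK LD1_c13 LD2_c27 LD3_c9))))))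
theorem f470671 : Led Lsl_bt (LP (LK LD1_c13 LD2_c38 LD3_c45)) = (LP (LK LD1_c7 LD2_c12 LD3_c23)) :=
  Lre_b IH (LK LD1_c13 LD2_c38 LD3_c45) (LK LD1_c7 LD2_c12 LD3_c23) Lrfl Lrfl
theorem f470672 : Led Lsl_bt (LP (LK LD1_c7 LD2_c14 LD3_c24)) = (LP (LK LD1_c13 LD2_c41 LD3_c58)) :=
  Lre_b IH (LK LD1_c7 LD2_c14 LD3_c24) (LK LD1_c13 LD2_c41 LD3_c58) Lrfl Lrfl
theorem f470673 : Led Lsl_df (LP (LK LD1_c13 LD2_c38 LD3_c45)) = (LP (LK LD1_c13 LD2_c41 LD3_c58)) :=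
  Lgr Lrot12 (Lpr_bt (f470671 IH) (Lpr_dt (K32.f470668 IH) (Lpr_bt (f470672 IH) (Lpn (LP (LK LD1_c13 LD2_c41 LD3_c58))))))
theorem f128164 : Led Lsl_bt (LP (LK LD1_c7 LD2_c5 LD3_c54)) = (LP (LK LD1_c13 LD2_c27 LD3_c9)) :=
  Lre_b IH (LK LD1_c7 LD2_c5 LD3_c54) (LK LD1_c13 LD2_c27 LD3_c9) Lrfl Lrfl
theorem f108047 : Led Lsl_bt (LP (LK LD1_c13 LD2_c31 LD3_c1)) = (LP (LK LD1_c7 LD2_c8 LD3_c12)) :=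
  Lre_b IH (LK LD1_c13 LD2_c31 LD3_c1) (LK LD1_c7 LD2_c8 LD3_c12) Lrfl Lrfl
theorem f465658 : Led Lsl_dt (LP (LK LD1_c13 LD2_c27 LD3_c9)) = (LP (LK LD1_c13 LD2_c31 LD3_c1)) :=
  Lgr Lrot79 (Lpe (f128164 IH) (Lpr_df (K28.f465648 IH) (Lpe (f108047 IH) (Lpn (LP (LK LD1_c13 LD2_c31 LD3_c1))))))
theorem f511059 : Led Lsl_af (LP (LK LD1_c13 LD2_c41 LD3_c58)) = (LP (LK LD1_c13 LD2_c31 LD3_c1)) :=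
  Lgr Lrot117 (Lpe (f470673 IH) (Lpr_at (f511055 IH) (Lpr_dt (f465658 IH) (Lpn (LP (LK LD1_c13 LD2_c31 LD3_c1))))))
theorem f425392 : Led Lsl_bt (LP (LK LD1_c13 LD2_c41 LD3_c58)) = (LP (LK LD1_c7 LD2_c14 LD3_c24)) :=
  Lre_b IH (LK LD1_c13 LD2_c41 LD3_c58) (LK LD1_c7 LD2_c14 LD3_c24) Lrfl Lrfl
theorem f465656 : Led Lsl_bt (LP (LK LD1_c7 LD2_c8 LD3_c12)) = (LP (LK LD1_c13 LD2_c31 LD3_c1)) :=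
  Lre_b IH (LK LD1_c7 LD2_c8 LD3_c12) (LK LD1_c13 LD2_c31 LD3_c1) Lrfl Lrfl
theorem f510769 : Led Lsl_ft (LP (LK LD1_c7 LD2_c8 LD3_c11)) = (LP (LK LD1_c7 LD2_c14 LD3_c17)) :=
  Lgr Lrot54 (Lpe (f464177 IH) (Lpr_ff (f510765 IH) (Lpr_df (K29.f470789 IH) (Lpn (LP (LK LD1_c7 LD2_c14 LD3_c17))))))
theorem f510787 : Led Lsl_af (LP (LK LD1_c7 LD2_c8 LD3_c12)) = (LP (LK LD1_c7 LD2_c14 LD3_c17)) :=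
  Lgr Lrot45 (Lpr_ft (f510785 IH) (Lpe (f510777 IH) (Lpr_ft (f510769 IH) (Lpn (LP (LK LD1_c7 LD2_c14 LD3_c17))))))
theorem f511063 : Led Lsl_at (LP (LK LD1_c7 LD2_c14 LD3_c24)) = (LP (LK LD1_c7 LD2_c7 LD3_c61)) :=
  Lgr Lrot67 (Lpe (f425392 IH) (Lpr_af (f511059 IH) (Lpe (f465656 IH) (Lpr_af (f510787 IH) (Lpe (K29.f470797 IH) (Lpn (LP (LK LD1_c7 LD2_c7 LD3_c61))))))))
theorem f511113 : Led Lsl_af (LP (LK LD1_c7 LD2_c12 LD3_c23)) = (LP (LK LD1_c6 LD2_c52 LD3_c21)) :=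
  Lgr Lrot117 (Lpr_dt (K32.f470668 IH) (Lpr_at (f511063 IH) (Lpr_dt (K29.f472499 IH) (Lpn (LP (LK LD1_c6 LD2_c52 LD3_c21))))))
theorem f510767 : Led Lsl_ft (LP (LK LD1_c7 LD2_c17 LD3_c50)) = (LP (LK LD1_c6 LD2_c52 LD3_c21)) :=
  Lgr Lrot75 (Lpr_bf (f493663 IH) (Lpr_ff (f510765 IH) (Lpe (K29.f457401 IH) (Lpn (LP (LK LD1_c6 LD2_c52 LD3_c21))))))
theorem f511117 : Led Lsl_gf (LP (LK LD1_c13 LD2_c38 LD3_c48)) = (LP (LK LD1_c7 LD2_c17 LD3_c50)) :=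
  Lgr Lrot47 (Lpr_gt (f107965 IH) (Lpr_af (f511113 IH) (Lpe (f510767 IH) (Lpn (LP (LK LD1_c7 LD2_c17 LD3_c50))))))
theorem f511719 : Led Lsl_bt (LP (LK LD1_c22 LD2_c41 LD3_c22)) = (LP (LK LD1_c13 LD2_c38 LD3_c48)) :=
  Lgr Lrot92 (Lpr_ct (f476513 IH) (Lpr_gt (f63106 IH) (Lpe (f63098 IH) (Lpr_bt (f466481 IH) (Lpe (f511715 IH) (Lpr_ct (f511704 IH) (Lpr_gt (f511709 IH) (Lpe (f11043 IH) (Lpe (f493663 IH) (Lpe (f511117 IH) (Lpn (LP (LK LD1_c13 LD2_c38 LD3_c48)))))))))))))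
theorem f513290 : Led Lsl_gf (LP (LK LD1_c1 LD2_c46 LD3_c28)) = (LP (LK LD1_c3 LD2_c35 LD3_c54)) :=
  Lgr Lrot129 (Lpe (K30.f481477 IH) (Lpr_bt (f482963 IH) (Lpr_gt (f482973 IH) (Lpe (f513232 IH) (Lpe (f513284 IH) (Lpr_gt (f513288 IH) (Lpe (f476513 IH) (Lpr_bt (f511719 IH) (Lpr_gt (f107965 IH) (Lpr_ct (K32.f107959 IH) (Lpn (LP (LK LD1_c3 LD2_c35 LD3_c54)))))))))))))
theorem f522673 : Led Lsl_gf (LP (LK LD1_c3 LD2_c38 LD3_c43)) = (LP (LK LD1_c7 LD2_c12 LD3_c23)) :=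
  Lgr Lrot144 (Lpr_dt (f441960 IH) (Lpe (f471028 IH) (Lpr_dt (f451247 IH) (Lpe (K29.f446531 IH) (Lpr_df (f490399 IH) (Lpr_gf (f522620 IH) (Lpe (f522615 IH) (Lpr_gf (f513290 IH) (Lpe (K32.f107959 IH) (Lpn (LP (LK LD1_c7 LD2_c12 LD3_c23))))))))))))
theorem f522674 : Led Lsl_gt (LP (LK LD1_c7 LD2_c12 LD3_c23)) = (LP (LK LD1_c3 LD2_c38 LD3_c43)) :=
  Leop (Lpr_gf (f522673 IH) (Lpn (LP (LK LD1_c7 LD2_c12 LD3_c23))))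
theorem seed_187 : LEOK LG_g (LK LD1_c7 LD2_c12 LD3_c23) :=
  Leoe_g (LK LD1_c7 LD2_c12 LD3_c23) (f522674 IH)
def v2484 : LQ := Led Lsl_gt (LP (LK LD1_c1 LD2_c46 LD3_c37))
theorem f522682 : Led Lsl_gt (LP (LK LD1_c1 LD2_c46 LD3_c37)) = v2484 :=
  Lrfl
theorem f4990 : Led Lsl_et (LP (LK LD1_c0 LD2_c50 LD3_c1)) = (LP (LK LD1_c1 LD2_c46 LD3_c37)) :=
  Lre_e IH (LK LD1_c0 LD2_c50 LD3_c1) (LK LD1_c1 LD2_c46 LD3_c37) Lrfl Lrfl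
theorem f6574 : Led Lsl_gt (LP (LK LD1_c3 LD2_c33 LD3_c58)) = (LP (LK LD1_c1 LD2_c43 LD3_c40)) :=
  Lre_g IH (LK LD1_c3 LD2_c33 LD3_c58) (LK LD1_c1 LD2_c43 LD3_c40) Lrfl Lrfl
theorem f10521 : Led Lsl_dt (LP (LK LD1_c7 LD2_c8 LD3_c61)) = (LP (LK LD1_c3 LD2_c33 LD3_c58)) :=
  Lre_d IH (LK LD1_c7 LD2_c8 LD3_c61) (LK LD1_c3 LD2_c33 LD3_c58) Lrfl Lrfl
theorem f522683 : Led Lsl_et (LP (LK LD1_c7 LD2_c8 LD3_c61)) = v2484 :=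
  Lgr Lrot122 (Lpr_dt (f10521 IH) (Lpr_gt (f6574 IH) (Lpe (K29.f6302 IH) (Lpr_et (K29.f6653 IH) (Lpr_gt (K3.f6103 IH) (Lpr_dt (K3.f6104 IH) (Lpe (K3.f98490 IH) (Lpr_df (K0.f4986 IH) (Lpr_et (f4990 IH) (Lpr_gt (f522682 IH) (Lpn v2484)))))))))))
theorem f10520 : Led Lsl_gt (LP (LK LD1_c7 LD2_c6 LD3_c42)) = (LP (LK LD1_c3 LD2_c33 LD3_c58)) :=
  Lre_g IH (LK LD1_c7 LD2_c6 LD3_c42) (LK LD1_c3 LD2_c33 LD3_c58) Lrfl Lrfl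
theorem f10519 : Led Lsl_dt (LP (LK LD1_c3 LD2_c32 LD3_c52)) = (LP (LK LD1_c7 LD2_c6 LD3_c42)) :=
  Lre_d IH (LK LD1_c3 LD2_c32 LD3_c52) (LK LD1_c7 LD2_c6 LD3_c42) Lrfl Lrfl
def v746 : LQ := Led Lsl_ft (LP (LK LD1_c0 LD2_c50 LD3_c6))
theorem f457045 : Led Lsl_ft (LP (LK LD1_c0 LD2_c50 LD3_c6)) = v746 :=
  Lrfl
theorem f457049 : Led Lsl_ff (LP (LK LD1_c0 LD2_c50 LD3_c6)) = v746 :=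
  Lgr Lrot3 (Lpr_ft (f457045 IH) (Lpn v746))
theorem f5644 : Led Lsl_et (LP (LK LD1_c0 LD2_c50 LD3_c6)) = (LP (LK LD1_c0 LD2_c22 LD3_c35)) :=
  Lre_e IH (LK LD1_c0 LD2_c50 LD3_c6) (LK LD1_c0 LD2_c22 LD3_c35) Lrfl Lrfl
theorem f4268 : Led Lsl_ft (LP (LK LD1_c0 LD2_c49 LD3_c54)) = (LP (LK LD1_c1 LD2_c46 LD3_c20)) :=
  Lre_f IH (LK LD1_c0 LD2_c49 LD3_c54) (LK LD1_c1 LD2_c46 LD3_c20) Lrfl Lrfl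
theorem f457052 : Led Lsl_et (LP (LK LD1_c1 LD2_c46 LD3_c20)) = v746 :=
  Lgr Lrot69 (Lpe (f4268 IH) (Lpe (K29.f5643 IH) (Lpr_ff (K2.f4969 IH) (Lpe (f5644 IH) (Lpr_ff (f457049 IH) (Lpn v746))))))
theorem f522686 : Led Lsl_gf v746 = v2484 :=
  Lgr Lrot141 (Lpe (f457052 IH) (Lpr_dt (K2.f4051 IH) (Lpr_gt (K28.f92544 IH) (Lpe (K28.f10669 IH) (Lpr_et (K28.f10668 IH) (Lpr_gt (K28.f10652 IH) (Lpr_dt (f10519 IH) (Lpr_gt (f10520 IH) (Lpe (f10521 IH) (Lpr_et (f522683 IH) (Lpn v2484)))))))))))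
theorem f5348 : Led Lsl_ct (LP (LK LD1_c0 LD2_c50 LD3_c6)) = (LP (LK LD1_c0 LD2_c22 LD3_c36)) :=
  Lre_c IH (LK LD1_c0 LD2_c50 LD3_c6) (LK LD1_c0 LD2_c22 LD3_c36) Lrfl Lrfl
def v182 : LQ := Led Lsl_ft (LP (LK LD1_c0 LD2_c22 LD3_c36))
theorem f450956 : Led Lsl_ft (LP (LK LD1_c0 LD2_c22 LD3_c36)) = v182 :=
  Lrfl
theorem f457051 : Led Lsl_ct v182 = v746 :=
  Lgr Lrot40 (Lpe (f450956 IH) (Lpe (f5348 IH) (Lpr_ff (f457049 IH) (Lpn v746))))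
theorem f450957 : Led Lsl_bf K24.v90 = v182 :=
  Lgr Lrot61 (Lpe (K24.f447653 IH) (Lpr_bt (K2.f5324 IH) (Lpr_ft (f450956 IH) (Lpn v182))))
theorem f12863 : Led Lsl_bt (LP (LK LD1_c1 LD2_c49 LD3_c13)) = (LP (LK LD1_c0 LD2_c51 LD3_c22)) :=
  Lre_b IH (LK LD1_c1 LD2_c49 LD3_c13) (LK LD1_c0 LD2_c51 LD3_c22) Lrfl Lrfl
theorem f522687 : Led Lsl_ct (LP (LK LD1_c1 LD2_c49 LD3_c13)) = v2484 :=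
  Lgr Lrot64 (Lpr_bt (f12863 IH) (Lpe (f12853 IH) (Lpe (f12847 IH) (Lpr_ct (K4.f12851 IH) (Lpe (K24.f4491 IH) (Lpq (K24.f456262 IH) (Lpe (K24.f450983 IH) (Lpr_gf (K24.f447657 IH) (Lpr_bf (f450957 IH) (Lpr_ct (f457051 IH) (Lpr_gf (f522686 IH) (Lpn v2484))))))))))))
theorem f511468 : Led Lsl_et (LP (LK LD1_c3 LD2_c44 LD3_c25)) = (LP (LK LD1_c1 LD2_c49 LD3_c13)) :=
  Lre_e IH (LK LD1_c3 LD2_c44 LD3_c25) (LK LD1_c1 LD2_c49 LD3_c13) Lrfl Lrfl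
theorem f522685 : Led Lsl_ef (LP (LK LD1_c7 LD2_c8 LD3_c61)) = v2484 :=
  Lgr Lrot88 (Lpr_et (f522683 IH) (Lpn v2484))
theorem f522689 : Led Lsl_cf (LP (LK LD1_c3 LD2_c44 LD3_c25)) = (LP (LK LD1_c7 LD2_c8 LD3_c61)) :=
  Lgr Lrot39 (Lpr_et (f511468 IH) (Lpr_ct (f522687 IH) (Lpe (f522685 IH) (Lpn (LP (LK LD1_c7 LD2_c8 LD3_c61))))))
theorem f522690 : Led Lsl_ct (LP (LK LD1_c7 LD2_c8 LD3_c61)) = (LP (LK LD1_c3 LD2_c44 LD3_c25)) :=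
  Leop (Lpr_cf (f522689 IH) (Lpn (LP (LK LD1_c7 LD2_c8 LD3_c61))))
theorem seed_188 : LEOK LG_c (LK LD1_c7 LD2_c8 LD3_c61) :=
  Leoe_c (LK LD1_c7 LD2_c8 LD3_c61) (f522690 IH)
def v2486 : LQ := Led Lsl_ft (LP (LK LD1_c1 LD2_c46 LD3_c37))
theorem f522729 : Led Lsl_ft (LP (LK LD1_c1 LD2_c46 LD3_c37)) = v2486 :=
  Lrfl
theorem f522733 : Led Lsl_ff (LP (LK LD1_c1 LD2_c46 LD3_c37)) = v2486 :=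
  Lgr Lrot3 (Lpr_ft (f522729 IH) (Lpn v2486))
theorem f5050 : Led Lsl_et (LP (LK LD1_c1 LD2_c46 LD3_c37)) = (LP (LK LD1_c0 LD2_c50 LD3_c1)) :=
  Lre_e IH (LK LD1_c1 LD2_c46 LD3_c37) (LK LD1_c0 LD2_c50 LD3_c1) Lrfl Lrfl
theorem f522736 : Led Lsl_et (LP (LK LD1_c3 LD2_c38 LD3_c19)) = v2486 :=
  Lgr Lrot69 (Lpe (K2.f4064 IH) (Lpe (K28.f5049 IH) (Lpr_ff (K0.f5028 IH) (Lpe (f5050 IH) (Lpr_ff (f522733 IH) (Lpn v2486))))))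
theorem f5979 : Led Lsl_dt (LP (LK LD1_c1 LD2_c43 LD3_c41)) = (LP (LK LD1_c3 LD2_c33 LD3_c60)) :=
  Lre_d IH (LK LD1_c1 LD2_c43 LD3_c41) (LK LD1_c3 LD2_c33 LD3_c60) Lrfl Lrfl
theorem f6336 : Led Lsl_gt (LP (LK LD1_c3 LD2_c33 LD3_c60)) = (LP (LK LD1_c7 LD2_c6 LD3_c40)) :=
  Lre_g IH (LK LD1_c3 LD2_c33 LD3_c60) (LK LD1_c7 LD2_c6 LD3_c40) Lrfl Lrfl
theorem f10483 : Led Lsl_dt (LP (LK LD1_c1 LD2_c43 LD3_c6)) = (LP (LK LD1_c3 LD2_c32 LD3_c51)) :=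
  Lre_d IH (LK LD1_c1 LD2_c43 LD3_c6) (LK LD1_c3 LD2_c32 LD3_c51) Lrfl Lrfl
theorem f5645 : Led Lsl_gt (LP (LK LD1_c0 LD2_c50 LD3_c6)) = (LP (LK LD1_c1 LD2_c46 LD3_c43)) :=
  Lre_g IH (LK LD1_c0 LD2_c50 LD3_c6) (LK LD1_c1 LD2_c46 LD3_c43) Lrfl Lrfl
theorem f17507 : Led Lsl_et (LP (LK LD1_c3 LD2_c39 LD3_c37)) = (LP (LK LD1_c1 LD2_c46 LD3_c43)) :=
  Lre_e IH (LK LD1_c3 LD2_c39 LD3_c37) (LK LD1_c1 LD2_c46 LD3_c43) Lrfl Lrfl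
theorem f17508 : Led Lsl_df (LP (LK LD1_c7 LD2_c6 LD3_c40)) = (LP (LK LD1_c3 LD2_c39 LD3_c37)) :=
  Lgr Lrot170 (Lpr_gt (f10484 IH) (Lpe (f10483 IH) (Lpr_et (K28.f10472 IH) (Lpr_gt (K3.f10480 IH) (Lpr_dt (K3.f10482 IH) (Lpr_gt (K3.f17467 IH) (Lpe (K2.f4978 IH) (Lpr_et (K2.f5340 IH) (Lpr_gt (f5645 IH) (Lpe (f17507 IH) (Lpn (LP (LK LD1_c3 LD2_c39 LD3_c37)))))))))))))
theorem f522739 : Led Lsl_gt (LP (LK LD1_c1 LD2_c46 LD3_c43)) = v2486 :=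
  Lgr Lrot131 (Lpe (f17507 IH) (Lpe (f17508 IH) (Lpe (f6336 IH) (Lpe (f5979 IH) (Lpe (K29.f5993 IH) (Lpr_ef (K29.f482688 IH) (Lpe (K29.f482681 IH) (Lpe (K29.f4126 IH) (Lpe (K29.f4262 IH) (Lpr_et (f522736 IH) (Lpn v2486)))))))))))
theorem f5562 : Led Lsl_ct (LP (LK LD1_c1 LD2_c46 LD3_c37)) = (LP (LK LD1_c0 LD2_c50 LD3_c2)) :=
  Lre_c IH (LK LD1_c1 LD2_c46 LD3_c37) (LK LD1_c0 LD2_c50 LD3_c2) Lrfl Lrfl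
theorem f522735 : Led Lsl_ct v745 = v2486 :=
  Lgr Lrot40 (Lpe (f457033 IH) (Lpe (f5562 IH) (Lpr_ff (f522733 IH) (Lpn v2486))))
theorem f5057 : Led Lsl_et (LP (LK LD1_c3 LD2_c38 LD3_c14)) = (LP (LK LD1_c1 LD2_c46 LD3_c5)) :=
  Lre_e IH (LK LD1_c3 LD2_c38 LD3_c14) (LK LD1_c1 LD2_c46 LD3_c5) Lrfl Lrfl
theorem f5543 : Led Lsl_af (LP (LK LD1_c3 LD2_c38 LD3_c14)) = (LP (LK LD1_c3 LD2_c39 LD3_c18)) :=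
  Lgr Lrot50 (Lpr_et (f5057 IH) (Lpr_at (K24.f5539 IH) (Lpr_et (K0.f5059 IH) (Lpn (LP (LK LD1_c3 LD2_c39 LD3_c18))))))
theorem f5269 : Led Lsl_bt (LP (LK LD1_c3 LD2_c38 LD3_c14)) = (LP (LK LD1_c1 LD2_c46 LD3_c7)) :=
  Lre_b IH (LK LD1_c3 LD2_c38 LD3_c14) (LK LD1_c1 LD2_c46 LD3_c7) Lrfl Lrfl
theorem f4391 : Led Lsl_bt (LP (LK LD1_c1 LD2_c46 LD3_c7)) = (LP (LK LD1_c3 LD2_c38 LD3_c14)) :=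
  Lre_b IH (LK LD1_c1 LD2_c46 LD3_c7) (LK LD1_c3 LD2_c38 LD3_c14) Lrfl Lrfl
theorem f5270 : Led Lsl_cf (LP (LK LD1_c3 LD2_c38 LD3_c14)) = (LP (LK LD1_c3 LD2_c38 LD3_c14)) :=
  Lgr Lrot97 (Lpr_bt (f5269 IH) (Lpr_ct (K2.f4056 IH) (Lpr_bt (K2.f5265 IH) (Lpr_ct (K2.f4084 IH) (Lpr_bt (f4391 IH) (Lpn (LP (LK LD1_c3 LD2_c38 LD3_c14))))))))
theorem f4386 : Led Lsl_at (LP (LK LD1_c0 LD2_c49 LD3_c54)) = (LP (LK LD1_c1 LD2_c46 LD3_c7)) :=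
  Lre_a IH (LK LD1_c0 LD2_c49 LD3_c54) (LK LD1_c1 LD2_c46 LD3_c7) Lrfl Lrfl
theorem f5330 : Led Lsl_at (LP (LK LD1_c1 LD2_c46 LD3_c37)) = (LP (LK LD1_c0 LD2_c50 LD3_c6)) :=
  Lre_a IH (LK LD1_c1 LD2_c46 LD3_c37) (LK LD1_c0 LD2_c50 LD3_c6) Lrfl Lrfl
theorem f5331 : Led Lsl_bt (LP (LK LD1_c3 LD2_c39 LD3_c18)) = (LP (LK LD1_c1 LD2_c46 LD3_c37)) :=
  Lre_b IH (LK LD1_c3 LD2_c39 LD3_c18) (LK LD1_c1 LD2_c46 LD3_c37) Lrfl Lrfl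
theorem f5332 : Led Lsl_at (LP (LK LD1_c3 LD2_c38 LD3_c14)) = (LP (LK LD1_c3 LD2_c39 LD3_c18)) :=
  Lgr Lrot67 (Lpe (f4391 IH) (Lpe (f4386 IH) (Lpr_bf (K2.f5326 IH) (Lpe (f5330 IH) (Lpe (f5331 IH) (Lpn (LP (LK LD1_c3 LD2_c39 LD3_c18))))))))
theorem f5559 : Led Lsl_ct (LP (LK LD1_c3 LD2_c39 LD3_c18)) = (LP (LK LD1_c3 LD2_c39 LD3_c18)) :=
  Lgr Lrot111 (Lpe (f5332 IH) (Lpr_cf (f5270 IH) (Lpr_af (f5543 IH) (Lpn (LP (LK LD1_c3 LD2_c39 LD3_c18))))))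
theorem f5558 : Led Lsl_bt (LP (LK LD1_c1 LD2_c46 LD3_c37)) = (LP (LK LD1_c3 LD2_c39 LD3_c18)) :=
  Lre_b IH (LK LD1_c1 LD2_c46 LD3_c37) (LK LD1_c3 LD2_c39 LD3_c18) Lrfl Lrfl
theorem f5561 : Led Lsl_ct (LP (LK LD1_c0 LD2_c50 LD3_c2)) = (LP (LK LD1_c1 LD2_c46 LD3_c37)) :=
  Lre_c IH (LK LD1_c0 LD2_c50 LD3_c2) (LK LD1_c1 LD2_c46 LD3_c37) Lrfl Lrfl
theorem f5563 : Led Lsl_bf (LP (LK LD1_c0 LD2_c50 LD3_c2)) = (LP (LK LD1_c0 LD2_c50 LD3_c2)) :=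
  Lgr Lrot90 (Lpr_ct (f5561 IH) (Lpr_bt (f5558 IH) (Lpr_ct (f5559 IH) (Lpr_bt (f5331 IH) (Lpr_ct (f5562 IH) (Lpn (LP (LK LD1_c0 LD2_c50 LD3_c2))))))))
theorem f457039 : Led Lsl_bt v745 = v745 :=
  Lgr Lrot35 (Lpe (f457033 IH) (Lpr_bf (f5563 IH) (Lpr_ff (f457036 IH) (Lpn v745))))
theorem f5822 : Led Lsl_bt (LP (LK LD1_c1 LD2_c46 LD3_c49)) = (LP (LK LD1_c0 LD2_c50 LD3_c8)) :=
  Lre_b IH (LK LD1_c1 LD2_c46 LD3_c49) (LK LD1_c0 LD2_c50 LD3_c8) Lrfl Lrfl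
theorem f511703 : Led Lsl_bt (LP (LK LD1_c3 LD2_c39 LD3_c48)) = (LP (LK LD1_c1 LD2_c46 LD3_c51)) :=
  Lre_b IH (LK LD1_c3 LD2_c39 LD3_c48) (LK LD1_c1 LD2_c46 LD3_c51) Lrfl Lrfl
theorem f477848 : Led Lsl_gf (LP (LK LD1_c3 LD2_c46 LD3_c54)) = (LP (LK LD1_c7 LD2_c0 LD3_c14)) :=
  Lgr Lrot144 (Lpr_dt (f459923 IH) (Lpr_gt (K29.f474118 IH) (Lpr_dt (K29.f88006 IH) (Lpe (K5.f64663 IH) (Lpe (K24.f64990 IH) (Lpe (K30.f458086 IH) (Lpe (K29.f451072 IH) (Lpr_gf (K29.f477313 IH) (Lpe (f129683 IH) (Lpn (LP (LK LD1_c7 LD2_c0 LD3_c14))))))))))))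
theorem f511717 : Led Lsl_ct (LP (LK LD1_c3 LD2_c39 LD3_c48)) = (LP (LK LD1_c3 LD2_c46 LD3_c54)) :=
  Lgr Lrot10 (Lpr_bt (f511703 IH) (Lpr_gt (f511709 IH) (Lpr_ct (K29.f11044 IH) (Lpr_gt (K29.f455955 IH) (Lpr_cf (K29.f479474 IH) (Lpr_bt (K29.f473942 IH) (Lpe (K29.f479472 IH) (Lpe (K28.f129691 IH) (Lpr_ct (K24.f129694 IH) (Lpe (f477848 IH) (Lpn (LP (LK LD1_c3 LD2_c46 LD3_c54)))))))))))))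
theorem f511738 : Led Lsl_et (LP (LK LD1_c1 LD2_c46 LD3_c49)) = (LP (LK LD1_c3 LD2_c39 LD3_c48)) :=
  Lre_e IH (LK LD1_c1 LD2_c46 LD3_c49) (LK LD1_c3 LD2_c39 LD3_c48) Lrfl Lrfl
theorem f511739 : Led Lsl_cf (LP (LK LD1_c1 LD2_c46 LD3_c49)) = (LP (LK LD1_c1 LD2_c50 LD3_c31)) :=
  Lgr Lrot39 (Lpr_et (f511738 IH) (Lpr_ct (f511717 IH) (Lpr_et (f88429 IH) (Lpn (LP (LK LD1_c1 LD2_c50 LD3_c31))))))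
theorem f511756 : Led Lsl_ct (LP (LK LD1_c1 LD2_c46 LD3_c49)) = (LP (LK LD1_c1 LD2_c50 LD3_c31)) :=
  Lgr Lrot59 (Lpr_cf (f511739 IH) (Lpn (LP (LK LD1_c1 LD2_c50 LD3_c31))))
theorem f120550 : Led Lsl_ct (LP (LK LD1_c0 LD2_c23 LD3_c37)) = (LP (LK LD1_c0 LD2_c52 LD3_c9)) :=
  Lre_c IH (LK LD1_c0 LD2_c23 LD3_c37) (LK LD1_c0 LD2_c52 LD3_c9) Lrfl Lrfl
theorem f120560 : Led Lsl_bt (LP (LK LD1_c0 LD2_c23 LD3_c37)) = (LP (LK LD1_c0 LD2_c51 LD3_c61)) :=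
  Lre_b IH (LK LD1_c0 LD2_c23 LD3_c37) (LK LD1_c0 LD2_c51 LD3_c61) Lrfl Lrfl
theorem f94672 : Led Lsl_gt (LP (LK LD1_c0 LD2_c51 LD3_c61)) = (LP (LK LD1_c1 LD2_c50 LD3_c18)) :=
  Lre_g IH (LK LD1_c0 LD2_c51 LD3_c61) (LK LD1_c1 LD2_c50 LD3_c18) Lrfl Lrfl
theorem f522740 : Led Lsl_cf (LP (LK LD1_c1 LD2_c46 LD3_c43)) = (LP (LK LD1_c1 LD2_c50 LD3_c18)) :=
  Lgr Lrot125 (Lpr_gt (f522739 IH) (Lpe (f522735 IH) (Lpr_bt (f457039 IH) (Lpe (f457041 IH) (Lpe (f5822 IH) (Lpr_ct (f511756 IH) (Lpr_gt (f88428 IH) (Lpe (f120550 IH) (Lpr_bt (f120560 IH) (Lpr_gt (f94672 IH) (Lpn (LP (LK LD1_c1 LD2_c50 LD3_c18)))))))))))))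
theorem f522741 : Led Lsl_ct (LP (LK LD1_c1 LD2_c50 LD3_c18)) = (LP (LK LD1_c1 LD2_c46 LD3_c43)) :=
  Leop (Lpr_cf (f522740 IH) (Lpn (LP (LK LD1_c1 LD2_c50 LD3_c18))))
theorem seed_189 : LEOK LG_c (LK LD1_c1 LD2_c50 LD3_c18) :=
  Leoe_c (LK LD1_c1 LD2_c50 LD3_c18) (f522741 IH)
def v2492 : LQ := Led Lsl_ct (LP (LK LD1_c1 LD2_c46 LD3_c46))
theorem f522778 : Led Lsl_ct (LP (LK LD1_c1 LD2_c46 LD3_c46)) = v2492 :=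
  Lrfl

end

end K33

end

end Cfsg.Agent.Helper28.S1692
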