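import Cfsg.Agent.Lib.Helper28.S1692.Seeds33

set_option autoImplicit false
set_option maxRecDepth 100000
set_option linter.all false

namespace Cfsg.Agent.Helper28.S1692

open Cfsg.Agent.Helper28
open Cfsg.Spor.ON (Gen)

noncomputable section

namespace K34
abbrev LD1_c0 := D1.c0
abbrev LD1_c1 := D1.c1
abbrev LD1_c2 := D1.c2
abbrev LD1_c3 := D1.c3
abbrev LD1_c4 := D1.c4
abbrev LD1_c5 := D1.c5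
abbrev LD1_c6 := D1.c6
abbrev LD1_c7 := D1.c7
abbrev LD1_c8 := D1.c8
abbrev LD1_c9 := D1.c9
abbrev LD1_c10 := D1.c10
abbrev LD1_c11 := D1.c11
abbrev LD1_c12 := D1.c12
abbrev LD1_c13 := D1.c13
abbrev LD1_c14 := D1.c14
abbrev LD1_c15 := D1.c15
abbrev LD1_c16 := D1.c16
abbrev LD1_c17 := D1.c17
abbrev LD1_c18 := D1.c18
abbrev LD1_c19 := D1.c19
abbrev LD1_c20 := D1.c20
abbrev LD1_c21 := D1.c21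
abbrev LD1_c22 := D1.c22
abbrev LD1_c23 := D1.c23
abbrev LD1_c24 := D1.c24
abbrev LD1_c25 := D1.c25
abbrev LD1_c26 := D1.c26
abbrev LD1_c27 := D1.c27
abbrev LD1_c28 := D1.c28
abbrev LD1_c29 := D1.c29
abbrev LD1_c30 := D1.c30
abbrev LD1_c31 := D1.c31
abbrev LD1_c32 := D1.c32
abbrev LD2_c0 := D2.c0
abbrev LD2_c1 := D2.c1
abbrev LD2_c2 := D2.c2
abbrev LD2_c3 := D2.c3
abbrev LD2_c4 := D2.c4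
abbrev LD2_c5 := D2.c5
abbrev LD2_c6 := D2.c6
abbrev LD2_c7 := D2.c7
abbrev LD2_c8 := D2.c8
abbrev LD2_c9 := D2.c9
abbrev LD2_c10 := D2.c10
abbrev LD2_c11 := D2.c11
abbrev LD2_c12 := D2.c12
abbrev LD2_c13 := D2.c13
abbrev LD2_c14 := D2.c14
abbrev LD2_c15 := D2.c15
abbrev LD2_c16 := D2.c16
abbrev LD2_c17 := D2.c17
abbrev LD2_c18 := D2.c18
abbrev LD2_c19 := D2.c19
abbrev LD2_c20 := D2.c20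
abbrev LD2_c21 := D2.c21
abbrev LD2_c22 := D2.c22
abbrev LD2_c23 := D2.c23
abbrev LD2_c24 := D2.c24
abbrev LD2_c25 := D2.c25
abbrev LD2_c26 := D2.c26
abbrev LD2_c27 := D2.c27
abbrev LD2_c28 := D2.c28
abbrev LD2_c29 := D2.c29
abbrev LD2_c30 := D2.c30
abbrev LD2_c31 := D2.c31
abbrev LD2_c32 := D2.c32
abbrev LD2_c33 := D2.c33
abbrev LD2_c34 := D2.c34
abbrev LD2_c35 := D2.c35
abbrev LD2_c36 := D2.c36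
abbrev LD2_c37 := D2.c37
abbrev LD2_c38 := D2.c38
abbrev LD2_c39 := D2.c39
abbrev LD2_c40 := D2.c40
abbrev LD2_c41 := D2.c41
abbrev LD2_c42 := D2.c42
abbrev LD2_c43 := D2.c43
abbrev LD2_c44 := D2.c44
abbrev LD2_c45 := D2.c45
abbrev LD2_c46 := D2.c46
abbrev LD2_c47 := D2.c47
abbrev LD2_c48 := D2.c48
abbrev LD2_c49 := D2.c49
abbrev LD2_c50 := D2.c50
abbrev LD2_c51 := D2.c51
abbrev LD2_c52 := D2.c52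
abbrev LD2_c53 := D2.c53
abbrev LD2_c54 := D2.c54
abbrev LD2_c55 := D2.c55
abbrev LD2_c56 := D2.c56
abbrev LD2_c57 := D2.c57
abbrev LD2_c58 := D2.c58
abbrev LD2_c59 := D2.c59
abbrev LD3_c0 := D3.c0
abbrev LD3_c1 := D3.c1
abbrev LD3_c2 := D3.c2
abbrev LD3_c3 := D3.c3
abbrev LD3_c4 := D3.c4
abbrev LD3_c5 := D3.c5
abbrev LD3_c6 := D3.c6
abbrev LD3_c7 := D3.c7
abbrev LD3_c8 := D3.c8
abbrev LD3_c9 := D3.c9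
abbrev LD3_c10 := D3.c10
abbrev LD3_c11 := D3.c11
abbrev LD3_c12 := D3.c12
abbrev LD3_c13 := D3.c13
abbrev LD3_c14 := D3.c14
abbrev LD3_c15 := D3.c15
abbrev LD3_c16 := D3.c16
abbrev LD3_c17 := D3.c17
abbrev LD3_c18 := D3.c18
abbrev LD3_c19 := D3.c19
abbrev LD3_c20 := D3.c20
abbrev LD3_c21 := D3.c21
abbrev LD3_c22 := D3.c22
abbrev LD3_c23 := D3.c23
abbrev LD3_c24 := D3.c24
abbrev LD3_c25 := D3.c25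
abbrev LD3_c26 := D3.c26
abbrev LD3_c27 := D3.c27
abbrev LD3_c28 := D3.c28
abbrev LD3_c29 := D3.c29
abbrev LD3_c30 := D3.c30
abbrev LD3_c31 := D3.c31
abbrev LD3_c32 := D3.c32
abbrev LD3_c33 := D3.c33
abbrev LD3_c34 := D3.c34
abbrev LD3_c35 := D3.c35
abbrev LD3_c36 := D3.c36
abbrev LD3_c37 := D3.c37
abbrev LD3_c38 := D3.c38
abbrev LD3_c39 := D3.c39
abbrev LD3_c40 := D3.c40
abbrev LD3_c41 := D3.c41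
abbrev LD3_c42 := D3.c42
abbrev LD3_c43 := D3.c43
abbrev LD3_c44 := D3.c44
abbrev LD3_c45 := D3.c45
abbrev LD3_c46 := D3.c46
abbrev LD3_c47 := D3.c47
abbrev LD3_c48 := D3.c48
abbrev LD3_c49 := D3.c49
abbrev LD3_c50 := D3.c50
abbrev LD3_c51 := D3.c51
abbrev LD3_c52 := D3.c52
abbrev LD3_c53 := D3.c53
abbrev LD3_c54 := D3.c54
abbrev LD3_c55 := D3.c55
abbrev LD3_c56 := D3.c56
abbrev LD3_c57 := D3.c57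
abbrev LD3_c58 := D3.c58
abbrev LD3_c59 := D3.c59
abbrev LD3_c60 := D3.c60
abbrev LD3_c61 := D3.c61
abbrev LG_g := Gen.g
abbrev Lsl_gt : Gen × Bool := sl_gt
alias Lfl_gt := fl_gt
alias Lpr_gt := pr_gt
abbrev Lsl_gf : Gen × Bool := sl_gf
alias Lfl_gf := fl_gf
alias Lpr_gf := pr_gf
alias Lre_g := re_g
alias Leoe_g := eoe_g
abbrev LG_a := Gen.a
abbrev Lsl_at : Gen × Bool := sl_at
alias Lfl_at := fl_at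
alias Lpr_at := pr_at
abbrev Lsl_af : Gen × Bool := sl_af
alias Lfl_af := fl_af
alias Lpr_af := pr_af
alias Lre_a := re_a
alias Leoe_a := eoe_a
abbrev LG_b := Gen.b
abbrev Lsl_bt : Gen × Bool := sl_bt
alias Lfl_bt := fl_bt
alias Lpr_bt := pr_bt
abbrev Lsl_bf : Gen × Bool := sl_bf
alias Lfl_bf := fl_bf
alias Lpr_bf := pr_bf
alias Lre_b := re_b
alias Leoe_b := eoe_b
abbrev LG_c := Gen.c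
abbrev Lsl_ct : Gen × Bool := sl_ct
alias Lfl_ct := fl_ct
alias Lpr_ct := pr_ct
abbrev Lsl_cf : Gen × Bool := sl_cf
alias Lfl_cf := fl_cf
alias Lpr_cf := pr_cf
alias Lre_c := re_c
alias Leoe_c := eoe_c
abbrev LG_d := Gen.d
abbrev Lsl_dt : Gen × Bool := sl_dt
alias Lfl_dt := fl_dt
alias Lpr_dt := pr_dt
abbrev Lsl_df : Gen × Bool := sl_df
alias Lfl_df := fl_df
alias Lpr_df := pr_df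
alias Lre_d := re_d
alias Leoe_d := eoe_d
abbrev LG_e := Gen.e
abbrev Lsl_et : Gen × Bool := sl_et
alias Lfl_et := fl_et
alias Lpr_et := pr_et
abbrev Lsl_ef : Gen × Bool := sl_ef
alias Lfl_ef := fl_ef
alias Lpr_ef := pr_ef
alias Lre_e := re_e
alias Leoe_e := eoe_e
abbrev LG_f := Gen.f
abbrev Lsl_ft : Gen × Bool := sl_ft
alias Lfl_ft := fl_ft
alias Lpr_ft := pr_ft
abbrev Lsl_ff : Gen × Bool := sl_ff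
alias Lfl_ff := fl_ff
alias Lpr_ff := pr_ff
alias Lre_f := re_f
alias Leoe_f := eoe_f
abbrev LK := Pt.mk
abbrev LQ : Type := Qt rels S
abbrev LP (p : Pt) : LQ := P p
abbrev Led (l : Gen × Bool) (c : LQ) : LQ := ed l c
abbrev LEOK (x : Gen) (p : Pt) : Prop := EntryOK rels S fwd inv o plet idx x p
alias Lpe := pe
alias Lpn := pn
alias Lgr := gr
alias Lpq := pq
alias Lpqs := pqs
alias Llr := lr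
alias Leop := eop
alias Lefun := efun
alias Lecon := econ
theorem Lrfl {α : Sort _} {a : α} : a = a := rfl
alias Lrot0 := rot0
alias Lrot1 := rot1
alias Lrot2 := rot2
alias Lrot3 := rot3
alias Lrot4 := rot4
alias Lrot5 := rot5
alias Lrot6 := rot6
alias Lrot7 := rot7
alias Lrot9 := rot9
alias Lrot10 := rot10
alias Lrot11 := rot11
alias Lrot12 := rot12
alias Lrot15 := rot15
alias Lrot17 := rot17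
alias Lrot18 := rot18
alias Lrot19 := rot19
alias Lrot20 := rot20
alias Lrot21 := rot21
alias Lrot22 := rot22
alias Lrot23 := rot23
alias Lrot24 := rot24
alias Lrot25 := rot25
alias Lrot26 := rot26
alias Lrot27 := rot27
alias Lrot28 := rot28
alias Lrot29 := rot29
alias Lrot30 := rot30
alias Lrot31 := rot31
alias Lrot32 := rot32
alias Lrot33 := rot33
alias Lrot34 := rot34
alias Lrot35 := rot35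
alias Lrot36 := rot36
alias Lrot37 := rot37
alias Lrot38 := rot38
alias Lrot39 := rot39
alias Lrot40 := rot40
alias Lrot41 := rot41
alias Lrot42 := rot42
alias Lrot44 := rot44
alias Lrot45 := rot45
alias Lrot46 := rot46
alias Lrot47 := rot47
alias Lrot48 := rot48
alias Lrot49 := rot49
alias Lrot50 := rot50
alias Lrot51 := rot51
alias Lrot52 := rot52
alias Lrot54 := rot54
alias Lrot55 := rot55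
alias Lrot56 := rot56
alias Lrot57 := rot57
alias Lrot58 := rot58
alias Lrot59 := rot59
alias Lrot60 := rot60
alias Lrot61 := rot61
alias Lrot62 := rot62
alias Lrot63 := rot63
alias Lrot64 := rot64
alias Lrot65 := rot65
alias Lrot66 := rot66
alias Lrot67 := rot67
alias Lrot68 := rot68
alias Lrot69 := rot69
alias Lrot70 := rot70
alias Lrot71 := rot71
alias Lrot72 := rot72
alias Lrot73 := rot73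
alias Lrot74 := rot74
alias Lrot75 := rot75
alias Lrot76 := rot76
alias Lrot77 := rot77
alias Lrot78 := rot78
alias Lrot79 := rot79
alias Lrot80 := rot80
alias Lrot81 := rot81
alias Lrot82 := rot82
alias Lrot83 := rot83
alias Lrot84 := rot84
alias Lrot85 := rot85
alias Lrot86 := rot86
alias Lrot87 := rot87
alias Lrot88 := rot88
alias Lrot89 := rot89
alias Lrot90 := rot90
alias Lrot91 := rot91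
alias Lrot92 := rot92
alias Lrot93 := rot93
alias Lrot94 := rot94
alias Lrot95 := rot95
alias Lrot96 := rot96
alias Lrot97 := rot97
alias Lrot98 := rot98
alias Lrot99 := rot99
alias Lrot100 := rot100
alias Lrot101 := rot101
alias Lrot103 := rot103
alias Lrot104 := rot104
alias Lrot105 := rot105
alias Lrot107 := rot107
alias Lrot108 := rot108
alias Lrot109 := rot109
alias Lrot110 := rot110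
alias Lrot111 := rot111
alias Lrot112 := rot112
alias Lrot113 := rot113
alias Lrot114 := rot114
alias Lrot116 := rot116
alias Lrot117 := rot117
alias Lrot118 := rot118
alias Lrot119 := rot119
alias Lrot121 := rot121
alias Lrot122 := rot122
alias Lrot123 := rot123
alias Lrot124 := rot124
alias Lrot125 := rot125
alias Lrot126 := rot126
alias Lrot127 := rot127
alias Lrot128 := rot128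
alias Lrot129 := rot129
alias Lrot130 := rot130
alias Lrot131 := rot131
alias Lrot132 := rot132
alias Lrot133 := rot133
alias Lrot134 := rot134
alias Lrot135 := rot135
alias Lrot136 := rot136
alias Lrot137 := rot137
alias Lrot138 := rot138
alias Lrot139 := rot139
alias Lrot141 := rot141
alias Lrot142 := rot142
alias Lrot143 := rot143
alias Lrot144 := rot144
alias Lrot145 := rot145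
alias Lrot146 := rot146
alias Lrot147 := rot147
alias Lrot149 := rot149
alias Lrot150 := rot150
alias Lrot152 := rot152
alias Lrot153 := rot153
alias Lrot155 := rot155
alias Lrot156 := rot156
alias Lrot157 := rot157
alias Lrot158 := rot158
alias Lrot160 := rot160
alias Lrot161 := rot161
alias Lrot162 := rot162
alias Lrot163 := rot163
alias Lrot164 := rot164
alias Lrot165 := rot165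
alias Lrot166 := rot166
alias Lrot167 := rot167
alias Lrot168 := rot168
alias Lrot169 := rot169
alias Lrot170 := rot170
alias Lrot171 := rot171
alias Lrot176 := rot176
alias Lrot181 := rot181
alias Lrot185 := rot185
alias Lrot189 := rot189

section
variable (IH : IHT)
include IH

theorem f5823 : Led Lsl_bt (LP (LK LD1_c1 LD2_c46 LD3_c46)) = (LP (LK LD1_c0 LD2_c50 LD3_c7)) :=
  Lre_b IH (LK LD1_c1 LD2_c46 LD3_c46) (LK LD1_c0 LD2_c50 LD3_c7) Lrfl Lrfl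
theorem f457038 : Led Lsl_at K33.v182 = K33.v745 :=
  Lgr Lrot66 (Lpe (K33.f450956 IH) (Lpe (K33.f5574 IH) (Lpr_ff (K33.f457036 IH) (Lpn K33.v745))))
theorem f457044 : Led Lsl_gt (LP (LK LD1_c0 LD2_c50 LD3_c7)) = K33.v745 :=
  Lgr Lrot46 (Lpe (K33.f5328 IH) (Lpr_ft (K33.f450956 IH) (Lpr_at (f457038 IH) (Lpn K33.v745))))
theorem f522737 : Led Lsl_gf (LP (LK LD1_c1 LD2_c46 LD3_c44)) = K33.v2486 :=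
  Lgr Lrot47 (Lpr_gt (K33.f5386 IH) (Lpe (K33.f5330 IH) (Lpr_ff (K33.f522733 IH) (Lpn K33.v2486))))
theorem f147766 : Led Lsl_bf (LP (LK LD1_c0 LD2_c51 LD3_c0)) = (LP (LK LD1_c0 LD2_c51 LD3_c0)) :=
  Lgr Lrot96 (Lpr_et (K33.f147764 IH) (Lpr_bt (K7.f147747 IH) (Lpr_et (K33.f147765 IH) (Lpn (LP (LK LD1_c0 LD2_c51 LD3_c0))))))
theorem f436814 : Led Lsl_ct (LP (LK LD1_c0 LD2_c51 LD3_c0)) = (LP (LK LD1_c1 LD2_c48 LD3_c30)) :=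
  Lre_c IH (LK LD1_c0 LD2_c51 LD3_c0) (LK LD1_c1 LD2_c48 LD3_c30) Lrfl Lrfl
theorem f522781 : Led Lsl_gt (LP (LK LD1_c1 LD2_c48 LD3_c30)) = K33.v2492 :=
  Lgr Lrot65 (Lpe (f436814 IH) (Lpe (f147766 IH) (Lpr_gf (K33.f459426 IH) (Lpr_bf (K33.f479651 IH) (Lpe (K33.f479654 IH) (Lpr_gf (f522737 IH) (Lpe (K33.f522735 IH) (Lpe (f457044 IH) (Lpe (f5823 IH) (Lpr_ct (K33.f522778 IH) (Lpn K33.v2492)))))))))))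
theorem f13141 : Led Lsl_bt (LP (LK LD1_c3 LD2_c42 LD3_c56)) = (LP (LK LD1_c1 LD2_c48 LD3_c30)) :=
  Lre_b IH (LK LD1_c3 LD2_c42 LD3_c56) (LK LD1_c1 LD2_c48 LD3_c30) Lrfl Lrfl
theorem f4838 : Led Lsl_bt (LP (LK LD1_c1 LD2_c47 LD3_c17)) = (LP (LK LD1_c3 LD2_c40 LD3_c38)) :=
  Lre_b IH (LK LD1_c1 LD2_c47 LD3_c17) (LK LD1_c3 LD2_c40 LD3_c38) Lrfl Lrfl
theorem f12868 : Led Lsl_bt (LP (LK LD1_c3 LD2_c40 LD3_c38)) = (LP (LK LD1_c1 LD2_c47 LD3_c17)) :=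
  Lre_b IH (LK LD1_c3 LD2_c40 LD3_c38) (LK LD1_c1 LD2_c47 LD3_c17) Lrfl Lrfl
theorem f436783 : Led Lsl_ct (LP (LK LD1_c3 LD2_c40 LD3_c38)) = (LP (LK LD1_c3 LD2_c40 LD3_c38)) :=
  Lgr Lrot83 (Lpe (f4838 IH) (Lpe (K29.f4545 IH) (Lpr_bf (K11.f148278 IH) (Lpe (K29.f4527 IH) (Lpe (f12868 IH) (Lpn (LP (LK LD1_c3 LD2_c40 LD3_c38))))))))
theorem f12866 : Led Lsl_at (LP (LK LD1_c0 LD2_c51 LD3_c21)) = (LP (LK LD1_c1 LD2_c48 LD3_c30)) :=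
  Lre_a IH (LK LD1_c0 LD2_c51 LD3_c21) (LK LD1_c1 LD2_c48 LD3_c30) Lrfl Lrfl
theorem f12867 : Led Lsl_bt (LP (LK LD1_c1 LD2_c48 LD3_c30)) = (LP (LK LD1_c3 LD2_c42 LD3_c56)) :=
  Lre_b IH (LK LD1_c1 LD2_c48 LD3_c30) (LK LD1_c3 LD2_c42 LD3_c56) Lrfl Lrfl
theorem f4647 : Led Lsl_at (LP (LK LD1_c1 LD2_c47 LD3_c17)) = (LP (LK LD1_c0 LD2_c50 LD3_c36)) :=
  Lre_a IH (LK LD1_c1 LD2_c47 LD3_c17) (LK LD1_c0 LD2_c50 LD3_c36) Lrfl Lrfl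
theorem f12869 : Led Lsl_at (LP (LK LD1_c3 LD2_c42 LD3_c56)) = (LP (LK LD1_c3 LD2_c40 LD3_c38)) :=
  Lgr Lrot67 (Lpe (f12867 IH) (Lpe (f12866 IH) (Lpr_bf (K4.f12858 IH) (Lpe (f4647 IH) (Lpe (f12868 IH) (Lpn (LP (LK LD1_c3 LD2_c40 LD3_c38))))))))
theorem f436805 : Led Lsl_cf (LP (LK LD1_c3 LD2_c42 LD3_c56)) = (LP (LK LD1_c3 LD2_c42 LD3_c56)) :=
  Lgr Lrot1 (Lpr_at (f12869 IH) (Lpr_ct (f436783 IH) (Lpe (K7.f13133 IH) (Lpn (LP (LK LD1_c3 LD2_c42 LD3_c56))))))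
theorem f13148 : Led Lsl_gt (LP (LK LD1_c7 LD2_c26 LD3_c36)) = (LP (LK LD1_c3 LD2_c42 LD3_c56)) :=
  Lre_g IH (LK LD1_c7 LD2_c26 LD3_c36) (LK LD1_c3 LD2_c42 LD3_c56) Lrfl Lrfl
theorem f13160 : Led Lsl_ct (LP (LK LD1_c14 LD2_c4 LD3_c4)) = (LP (LK LD1_c7 LD2_c26 LD3_c36)) :=
  Lre_c IH (LK LD1_c14 LD2_c4 LD3_c4) (LK LD1_c7 LD2_c26 LD3_c36) Lrfl Lrfl
theorem f522779 : Led Lsl_cf (LP (LK LD1_c1 LD2_c46 LD3_c46)) = K33.v2492 :=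
  Lgr Lrot11 (Lpr_ct (K33.f522778 IH) (Lpn K33.v2492))
theorem f96947 : Led Lsl_dt (LP (LK LD1_c7 LD2_c7 LD3_c0)) = (LP (LK LD1_c3 LD2_c33 LD3_c3)) :=
  Lre_d IH (LK LD1_c7 LD2_c7 LD3_c0) (LK LD1_c3 LD2_c33 LD3_c3) Lrfl Lrfl
theorem f467960 : Led Lsl_ft (LP (LK LD1_c13 LD2_c28 LD3_c35)) = (LP (LK LD1_c7 LD2_c7 LD3_c0)) :=
  Lgr Lrot54 (Lpe (K33.f442120 IH) (Lpr_ff (K28.f467951 IH) (Lpe (f96947 IH) (Lpn (LP (LK LD1_c7 LD2_c7 LD3_c0))))))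
theorem f97392 : Led Lsl_et (LP (LK LD1_c3 LD2_c32 LD3_c20)) = (LP (LK LD1_c7 LD2_c5 LD3_c42)) :=
  Lre_e IH (LK LD1_c3 LD2_c32 LD3_c20) (LK LD1_c7 LD2_c5 LD3_c42) Lrfl Lrfl
theorem f97411 : Led Lsl_et (LP (LK LD1_c7 LD2_c12 LD3_c9)) = (LP (LK LD1_c3 LD2_c35 LD3_c46)) :=
  Lre_e IH (LK LD1_c7 LD2_c12 LD3_c9) (LK LD1_c3 LD2_c35 LD3_c46) Lrfl Lrfl
theorem f97420 : Led Lsl_ct (LP (LK LD1_c7 LD2_c5 LD3_c42)) = (LP (LK LD1_c7 LD2_c12 LD3_c9)) :=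
  Lgr Lrot15 (Lpe (f97392 IH) (Lpr_cf (K3.f97416 IH) (Lpe (f97411 IH) (Lpn (LP (LK LD1_c7 LD2_c12 LD3_c9))))))
theorem f97423 : Led Lsl_cf (LP (LK LD1_c7 LD2_c5 LD3_c42)) = (LP (LK LD1_c7 LD2_c12 LD3_c9)) :=
  Lgr Lrot11 (Lpr_ct (f97420 IH) (Lpn (LP (LK LD1_c7 LD2_c12 LD3_c9))))
theorem f97135 : Led Lsl_et (LP (LK LD1_c7 LD2_c12 LD3_c7)) = (LP (LK LD1_c3 LD2_c35 LD3_c45)) :=
  Lre_e IH (LK LD1_c7 LD2_c12 LD3_c7) (LK LD1_c3 LD2_c35 LD3_c45) Lrfl Lrfl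
theorem f97412 : Led Lsl_at (LP (LK LD1_c7 LD2_c5 LD3_c42)) = (LP (LK LD1_c7 LD2_c12 LD3_c7)) :=
  Lgr Lrot80 (Lpe (f97392 IH) (Lpr_af (K3.f97399 IH) (Lpe (f97135 IH) (Lpn (LP (LK LD1_c7 LD2_c12 LD3_c7))))))
theorem f11640 : Led Lsl_et (LP (LK LD1_c3 LD2_c49 LD3_c9)) = (LP (LK LD1_c1 LD2_c51 LD3_c35)) :=
  Lre_e IH (LK LD1_c3 LD2_c49 LD3_c9) (LK LD1_c1 LD2_c51 LD3_c35) Lrfl Lrfl
theorem f97144 : Led Lsl_et (LP (LK LD1_c3 LD2_c35 LD3_c45)) = (LP (LK LD1_c7 LD2_c12 LD3_c7)) :=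
  Lre_e IH (LK LD1_c3 LD2_c35 LD3_c45) (LK LD1_c7 LD2_c12 LD3_c7) Lrfl Lrfl
theorem f97147 : Led Lsl_cf (LP (LK LD1_c3 LD2_c49 LD3_c9)) = (LP (LK LD1_c7 LD2_c12 LD3_c7)) :=
  Lgr Lrot39 (Lpr_et (f11640 IH) (Lpr_ct (K3.f97141 IH) (Lpr_et (f97144 IH) (Lpn (LP (LK LD1_c7 LD2_c12 LD3_c7))))))
theorem f97427 : Led Lsl_at (LP (LK LD1_c3 LD2_c49 LD3_c9)) = (LP (LK LD1_c7 LD2_c12 LD3_c9)) :=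
  Lgr Lrot107 (Lpr_cf (f97147 IH) (Lpe (f97412 IH) (Lpr_cf (f97423 IH) (Lpn (LP (LK LD1_c7 LD2_c12 LD3_c9))))))
theorem f97430 : Led Lsl_af (LP (LK LD1_c3 LD2_c49 LD3_c9)) = (LP (LK LD1_c7 LD2_c12 LD3_c9)) :=
  Lgr Lrot0 (Lpr_at (f97427 IH) (Lpn (LP (LK LD1_c7 LD2_c12 LD3_c9))))
theorem f97167 : Led Lsl_ct (LP (LK LD1_c3 LD2_c49 LD3_c9)) = (LP (LK LD1_c7 LD2_c12 LD3_c7)) :=
  Lgr Lrot59 (Lpr_cf (f97147 IH) (Lpn (LP (LK LD1_c7 LD2_c12 LD3_c7))))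
theorem f97432 : Led Lsl_at (LP (LK LD1_c7 LD2_c12 LD3_c7)) = (LP (LK LD1_c7 LD2_c5 LD3_c42)) :=
  Lgr Lrot107 (Lpe (f97167 IH) (Lpr_af (f97430 IH) (Lpe (f97420 IH) (Lpn (LP (LK LD1_c7 LD2_c5 LD3_c42))))))
theorem f97136 : Led Lsl_dt (LP (LK LD1_c13 LD2_c38 LD3_c26)) = (LP (LK LD1_c7 LD2_c12 LD3_c7)) :=
  Lre_d IH (LK LD1_c13 LD2_c38 LD3_c26) (LK LD1_c7 LD2_c12 LD3_c7) Lrfl Lrfl
theorem f97393 : Led Lsl_dt (LP (LK LD1_c7 LD2_c5 LD3_c42)) = (LP (LK LD1_c13 LD2_c26 LD3_c45)) :=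
  Lre_d IH (LK LD1_c7 LD2_c5 LD3_c42) (LK LD1_c13 LD2_c26 LD3_c45) Lrfl Lrfl
theorem f97434 : Led Lsl_af (LP (LK LD1_c13 LD2_c38 LD3_c26)) = (LP (LK LD1_c13 LD2_c26 LD3_c45)) :=
  Lgr Lrot117 (Lpr_dt (f97136 IH) (Lpr_at (f97432 IH) (Lpr_dt (f97393 IH) (Lpn (LP (LK LD1_c13 LD2_c26 LD3_c45))))))
theorem f97442 : Led Lsl_at (LP (LK LD1_c13 LD2_c38 LD3_c26)) = (LP (LK LD1_c13 LD2_c26 LD3_c45)) :=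
  Lgr Lrot100 (Lpr_af (f97434 IH) (Lpn (LP (LK LD1_c13 LD2_c26 LD3_c45))))
theorem f88617 : Led Lsl_dt (LP (LK LD1_c3 LD2_c36 LD3_c32)) = (LP (LK LD1_c7 LD2_c13 LD3_c26)) :=
  Lre_d IH (LK LD1_c3 LD2_c36 LD3_c32) (LK LD1_c7 LD2_c13 LD3_c26) Lrfl Lrfl
theorem f97137 : Led Lsl_et (LP (LK LD1_c7 LD2_c13 LD3_c26)) = (LP (LK LD1_c13 LD2_c38 LD3_c26)) :=
  Lgr Lrot71 (Lpe (f88617 IH) (Lpe (K29.f88501 IH) (Lpr_df (K3.f97129 IH) (Lpe (f97135 IH) (Lpe (f97136 IH) (Lpn (LP (LK LD1_c13 LD2_c38 LD3_c26))))))))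
theorem f97394 : Led Lsl_et (LP (LK LD1_c13 LD2_c26 LD3_c45)) = (LP (LK LD1_c7 LD2_c7 LD3_c0)) :=
  Lgr Lrot71 (Lpe (f97393 IH) (Lpe (f97392 IH) (Lpr_df (K3.f97374 IH) (Lpe (K28.f96961 IH) (Lpe (f96947 IH) (Lpn (LP (LK LD1_c7 LD2_c7 LD3_c0))))))))
theorem f97444 : Led Lsl_af (LP (LK LD1_c7 LD2_c13 LD3_c26)) = (LP (LK LD1_c7 LD2_c7 LD3_c0)) :=
  Lgr Lrot50 (Lpr_et (f97137 IH) (Lpr_at (f97442 IH) (Lpr_et (f97394 IH) (Lpn (LP (LK LD1_c7 LD2_c7 LD3_c0))))))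
theorem f514789 : Led Lsl_gt (LP (LK LD1_c7 LD2_c19 LD3_c49)) = (LP (LK LD1_c7 LD2_c13 LD3_c26)) :=
  Lgr Lrot46 (Lpr_gf (K33.f514785 IH) (Lpr_ft (f467960 IH) (Lpe (f97444 IH) (Lpn (LP (LK LD1_c7 LD2_c13 LD3_c26))))))
theorem f514784 : Led Lsl_dt (LP (LK LD1_c3 LD2_c39 LD3_c47)) = (LP (LK LD1_c7 LD2_c19 LD3_c49)) :=
  Lre_d IH (LK LD1_c3 LD2_c39 LD3_c47) (LK LD1_c7 LD2_c19 LD3_c49) Lrfl Lrfl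
theorem f514795 : Led Lsl_et (LP (LK LD1_c3 LD2_c39 LD3_c47)) = (LP (LK LD1_c1 LD2_c46 LD3_c47)) :=
  Lre_e IH (LK LD1_c3 LD2_c39 LD3_c47) (LK LD1_c1 LD2_c46 LD3_c47) Lrfl Lrfl
theorem f514844 : Led Lsl_gf (LP (LK LD1_c1 LD2_c46 LD3_c47)) = (LP (LK LD1_c3 LD2_c32 LD3_c16)) :=
  Lgr Lrot141 (Lpe (f514795 IH) (Lpr_dt (f514784 IH) (Lpr_gt (f514789 IH) (Lpe (f88617 IH) (Lpr_et (K29.f88489 IH) (Lpr_gt (K3.f96765 IH) (Lpr_dt (K3.f10805 IH) (Lpr_gt (K3.f98083 IH) (Lpe (K3.f94419 IH) (Lpr_et (K3.f94440 IH) (Lpn (LP (LK LD1_c3 LD2_c32 LD3_c16)))))))))))))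
theorem f5824 : Led Lsl_ct (LP (LK LD1_c0 LD2_c50 LD3_c7)) = (LP (LK LD1_c1 LD2_c46 LD3_c47)) :=
  Lre_c IH (LK LD1_c0 LD2_c50 LD3_c7) (LK LD1_c1 LD2_c46 LD3_c47) Lrfl Lrfl
theorem f457057 : Led Lsl_bt (LP (LK LD1_c0 LD2_c50 LD3_c7)) = (LP (LK LD1_c1 LD2_c46 LD3_c46)) :=
  Lre_b IH (LK LD1_c0 LD2_c50 LD3_c7) (LK LD1_c1 LD2_c46 LD3_c46) Lrfl Lrfl
theorem f440973 : Led Lsl_cf (LP (LK LD1_c3 LD2_c29 LD3_c17)) = (LP (LK LD1_c3 LD2_c24 LD3_c42)) :=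
  Lgr Lrot11 (Lpr_ct (K33.f116657 IH) (Lpn (LP (LK LD1_c3 LD2_c24 LD3_c42))))
theorem f116651 : Led Lsl_bt (LP (LK LD1_c6 LD2_c51 LD3_c53)) = (LP (LK LD1_c3 LD2_c24 LD3_c42)) :=
  Lre_b IH (LK LD1_c6 LD2_c51 LD3_c53) (LK LD1_c3 LD2_c24 LD3_c42) Lrfl Lrfl
theorem f95401 : Led Lsl_et (LP (LK LD1_c3 LD2_c24 LD3_c41)) = (LP (LK LD1_c6 LD2_c51 LD3_c53)) :=
  Lre_e IH (LK LD1_c3 LD2_c24 LD3_c41) (LK LD1_c6 LD2_c51 LD3_c53) Lrfl Lrfl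
theorem f116631 : Led Lsl_ct (LP (LK LD1_c6 LD2_c51 LD3_c53)) = (LP (LK LD1_c7 LD2_c5 LD3_c33)) :=
  Lgr Lrot15 (Lpe (f95401 IH) (Lpr_cf (K7.f116624 IH) (Lpe (K3.f109495 IH) (Lpn (LP (LK LD1_c7 LD2_c5 LD3_c33))))))
theorem f116648 : Led Lsl_cf (LP (LK LD1_c6 LD2_c51 LD3_c53)) = (LP (LK LD1_c7 LD2_c5 LD3_c33)) :=
  Lgr Lrot11 (Lpr_ct (f116631 IH) (Lpn (LP (LK LD1_c7 LD2_c5 LD3_c33))))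
theorem f109537 : Led Lsl_bt (LP (LK LD1_c3 LD2_c32 LD3_c16)) = (LP (LK LD1_c7 LD2_c5 LD3_c33)) :=
  Lre_b IH (LK LD1_c3 LD2_c32 LD3_c16) (LK LD1_c7 LD2_c5 LD3_c33) Lrfl Lrfl
theorem f440975 : Led Lsl_ct (LP (LK LD1_c1 LD2_c50 LD3_c14)) = (LP (LK LD1_c3 LD2_c32 LD3_c16)) :=
  Lgr Lrot83 (Lpe (K33.f116558 IH) (Lpr_cf (f440973 IH) (Lpe (f116651 IH) (Lpr_cf (f116648 IH) (Lpe (f109537 IH) (Lpn (LP (LK LD1_c3 LD2_c32 LD3_c16))))))))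
theorem f120561 : Led Lsl_at (LP (LK LD1_c0 LD2_c51 LD3_c61)) = (LP (LK LD1_c1 LD2_c50 LD3_c14)) :=
  Lre_a IH (LK LD1_c0 LD2_c51 LD3_c61) (LK LD1_c1 LD2_c50 LD3_c14) Lrfl Lrfl
theorem f120562 : Led Lsl_bt (LP (LK LD1_c1 LD2_c41 LD3_c23)) = (LP (LK LD1_c0 LD2_c47 LD3_c18)) :=
  Lre_b IH (LK LD1_c1 LD2_c41 LD3_c23) (LK LD1_c0 LD2_c47 LD3_c18) Lrfl Lrfl
theorem f120563 : Led Lsl_at (LP (LK LD1_c3 LD2_c29 LD3_c17)) = (LP (LK LD1_c1 LD2_c41 LD3_c23)) :=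
  Lre_a IH (LK LD1_c3 LD2_c29 LD3_c17) (LK LD1_c1 LD2_c41 LD3_c23) Lrfl Lrfl
theorem f120564 : Led Lsl_bt (LP (LK LD1_c1 LD2_c50 LD3_c14)) = (LP (LK LD1_c3 LD2_c29 LD3_c17)) :=
  Lgr Lrot62 (Lpe (f120561 IH) (Lpe (K33.f120560 IH) (Lpr_af (K28.f120551 IH) (Lpe (f120562 IH) (Lpe (f120563 IH) (Lpn (LP (LK LD1_c3 LD2_c29 LD3_c17))))))))
theorem f483761 : Led Lsl_ct (LP (LK LD1_c3 LD2_c44 LD3_c33)) = (LP (LK LD1_c1 LD2_c49 LD3_c18)) :=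
  Lre_c IH (LK LD1_c3 LD2_c44 LD3_c33) (LK LD1_c1 LD2_c49 LD3_c18) Lrfl Lrfl
theorem f483773 : Led Lsl_gf (LP (LK LD1_c3 LD2_c44 LD3_c33)) = (LP (LK LD1_c7 LD2_c27 LD3_c57)) :=
  Lgr Lrot147 (Lpr_ct (f483761 IH) (Lpr_gt (K33.f483767 IH) (Lpr_ct (K29.f455622 IH) (Lpe (K24.f12142 IH) (Lpe (K28.f458975 IH) (Lpr_gf (K33.f470053 IH) (Lpe (K28.f132102 IH) (Lpe (K28.f132081 IH) (Lpe (K28.f132082 IH) (Lpn (LP (LK LD1_c7 LD2_c27 LD3_c57))))))))))))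
theorem f11345 : Led Lsl_ct (LP (LK LD1_c3 LD2_c56 LD3_c28)) = (LP (LK LD1_c1 LD2_c54 LD3_c58)) :=
  Lre_c IH (LK LD1_c3 LD2_c56 LD3_c28) (LK LD1_c1 LD2_c54 LD3_c58) Lrfl Lrfl
theorem f479646 : Led Lsl_dt (LP (LK LD1_c6 LD2_c55 LD3_c17)) = (LP (LK LD1_c13 LD2_c4 LD3_c3)) :=
  Lgr Lrot27 (Lpr_cf (K29.f478265 IH) (Lpe (K33.f479603 IH) (Lpe (K32.f11359 IH) (Lpr_gf (K28.f451964 IH) (Lpr_df (K29.f479638 IH) (Lpr_gt (K29.f459207 IH) (Lpr_ct (K24.f458907 IH) (Lpe (K28.f459223 IH) (Lpe (K28.f464591 IH) (Lpn (LP (LK LD1_c13 LD2_c4 LD3_c3))))))))))))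
theorem f483777 : Led Lsl_gf (LP (LK LD1_c3 LD2_c56 LD3_c28)) = (LP (LK LD1_c7 LD2_c54 LD3_c36)) :=
  Lgr Lrot104 (Lpr_ct (f11345 IH) (Lpe (K33.f483758 IH) (Lpe (f483761 IH) (Lpr_gf (f483773 IH) (Lpe (K28.f464351 IH) (Lpe (K28.f463406 IH) (Lpe (f479646 IH) (Lpe (K33.f479605 IH) (Lpr_ct (K28.f462836 IH) (Lpn (LP (LK LD1_c7 LD2_c54 LD3_c36))))))))))))
theorem f462832 : Led Lsl_bt (LP (LK LD1_c6 LD2_c54 LD3_c30)) = (LP (LK LD1_c3 LD2_c26 LD3_c19)) :=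
  Lre_b IH (LK LD1_c6 LD2_c54 LD3_c30) (LK LD1_c3 LD2_c26 LD3_c19) Lrfl Lrfl
theorem f479424 : Led Lsl_gf (LP (LK LD1_c6 LD2_c55 LD3_c44)) = (LP (LK LD1_c3 LD2_c27 LD3_c24)) :=
  Lgr Lrot143 (Lpe (K28.f91522 IH) (Lpe (K28.f91521 IH) (Lpr_df (K29.f473201 IH) (Lpr_gf (K29.f479381 IH) (Lpr_df (K29.f464421 IH) (Lpe (K29.f464284 IH) (Lpe (K32.f18397 IH) (Lpr_gt (K2.f90900 IH) (Lpr_dt (K29.f90906 IH) (Lpn (LP (LK LD1_c3 LD2_c27 LD3_c24))))))))))))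
theorem f473738 : Led Lsl_cf (LP (LK LD1_c3 LD2_c27 LD3_c24)) = (LP (LK LD1_c3 LD2_c52 LD3_c35)) :=
  Lgr Lrot1 (Lpr_at (K29.f473730 IH) (Lpr_ct (K29.f63003 IH) (Lpr_at (K30.f63048 IH) (Lpn (LP (LK LD1_c3 LD2_c52 LD3_c35))))))
theorem f63011 : Led Lsl_gt (LP (LK LD1_c1 LD2_c52 LD3_c58)) = (LP (LK LD1_c3 LD2_c52 LD3_c39)) :=
  Lre_g IH (LK LD1_c1 LD2_c52 LD3_c58) (LK LD1_c3 LD2_c52 LD3_c39) Lrfl Lrfl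
theorem f473687 : Led Lsl_gt (LP (LK LD1_c3 LD2_c52 LD3_c39)) = (LP (LK LD1_c3 LD2_c52 LD3_c35)) :=
  Lgr Lrot46 (Lpe (f63011 IH) (Lpr_ft (K29.f473674 IH) (Lpr_at (K30.f63048 IH) (Lpn (LP (LK LD1_c3 LD2_c52 LD3_c35))))))
theorem f483782 : Led Lsl_bt (LP (LK LD1_c1 LD2_c54 LD3_c58)) = (LP (LK LD1_c3 LD2_c52 LD3_c39)) :=
  Lgr Lrot130 (Lpr_ct (K33.f11347 IH) (Lpr_gf (f483777 IH) (Lpe (K28.f462836 IH) (Lpr_bt (f462832 IH) (Lpe (K33.f479925 IH) (Lpr_bf (K33.f473225 IH) (Lpr_ct (K28.f91510 IH) (Lpr_gf (f479424 IH) (Lpr_cf (f473738 IH) (Lpe (f473687 IH) (Lpn (LP (LK LD1_c3 LD2_c52 LD3_c39)))))))))))))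
theorem f483760 : Led Lsl_bt (LP (LK LD1_c3 LD2_c44 LD3_c30)) = (LP (LK LD1_c1 LD2_c49 LD3_c18)) :=
  Lre_b IH (LK LD1_c3 LD2_c44 LD3_c30) (LK LD1_c1 LD2_c49 LD3_c18) Lrfl Lrfl
theorem f483790 : Led Lsl_df (LP (LK LD1_c3 LD2_c44 LD3_c30)) = (LP (LK LD1_c3 LD2_c52 LD3_c39)) :=
  Lgr Lrot12 (Lpr_bt (f483760 IH) (Lpr_dt (K33.f483758 IH) (Lpr_bt (f483782 IH) (Lpn (LP (LK LD1_c3 LD2_c52 LD3_c39))))))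
theorem f483792 : Led Lsl_dt (LP (LK LD1_c3 LD2_c44 LD3_c30)) = (LP (LK LD1_c3 LD2_c52 LD3_c39)) :=
  Lgr Lrot42 (Lpr_df (f483790 IH) (Lpn (LP (LK LD1_c3 LD2_c52 LD3_c39))))
theorem f483794 : Led Lsl_et (LP (LK LD1_c3 LD2_c44 LD3_c30)) = (LP (LK LD1_c1 LD2_c49 LD3_c16)) :=
  Lre_e IH (LK LD1_c3 LD2_c44 LD3_c30) (LK LD1_c1 LD2_c49 LD3_c16) Lrfl Lrfl
theorem f124382 : Led Lsl_dt (LP (LK LD1_c1 LD2_c41 LD3_c21)) = (LP (LK LD1_c0 LD2_c50 LD3_c50)) :=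
  Lgr Lrot57 (Lpe (K4.f116538 IH) (Lpr_cf (K24.f122009 IH) (Lpr_gt (K5.f121961 IH) (Lpr_dt (K3.f90888 IH) (Lpr_gt (K4.f94991 IH) (Lpe (K4.f94987 IH) (Lpr_cf (K3.f95133 IH) (Lpe (K0.f5724 IH) (Lpr_gf (K5.f124376 IH) (Lpn (LP (LK LD1_c0 LD2_c50 LD3_c50))))))))))))
theorem f483798 : Led Lsl_gt (LP (LK LD1_c1 LD2_c49 LD3_c16)) = (LP (LK LD1_c3 LD2_c29 LD3_c17)) :=
  Lgr Lrot131 (Lpe (f483794 IH) (Lpr_dt (f483792 IH) (Lpe (f63011 IH) (Lpe (K29.f63008 IH) (Lpr_gf (K29.f459884 IH) (Lpq (K29.f464226 IH) (Lpe (K28.f5748 IH) (Lpr_dt (K0.f5752 IH) (Lpr_gf (K5.f124376 IH) (Lpe (f124382 IH) (Lpr_et (K33.f116557 IH) (Lpn (LP (LK LD1_c3 LD2_c29 LD3_c17))))))))))))))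
theorem f459514 : Led Lsl_bt (LP (LK LD1_c0 LD2_c51 LD3_c23)) = (LP (LK LD1_c1 LD2_c49 LD3_c16)) :=
  Lre_b IH (LK LD1_c0 LD2_c51 LD3_c23) (LK LD1_c1 LD2_c49 LD3_c16) Lrfl Lrfl
theorem f451028 : Led Lsl_ct (LP (LK LD1_c0 LD2_c51 LD3_c23)) = (LP (LK LD1_c1 LD2_c49 LD3_c17)) :=
  Lre_c IH (LK LD1_c0 LD2_c51 LD3_c23) (LK LD1_c1 LD2_c49 LD3_c17) Lrfl Lrfl
theorem f514846 : Led Lsl_gt (LP (LK LD1_c1 LD2_c46 LD3_c46)) = K33.v2264 :=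
  Lgr Lrot82 (Lpe (f457057 IH) (Lpr_ct (f5824 IH) (Lpr_gf (f514844 IH) (Lpe (f440975 IH) (Lpr_bt (f120564 IH) (Lpe (f483798 IH) (Lpe (f459514 IH) (Lpr_ct (f451028 IH) (Lpr_gf (K33.f511489 IH) (Lpe (K33.f511465 IH) (Lpn K33.v2264)))))))))))
theorem f511470 : Led Lsl_cf K33.v2264 = (LP (LK LD1_c3 LD2_c44 LD3_c26)) :=
  Lgr Lrot11 (Lpr_ct (K33.f511465 IH) (Lpn (LP (LK LD1_c3 LD2_c44 LD3_c26))))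
theorem f511469 : Led Lsl_bt (LP (LK LD1_c3 LD2_c44 LD3_c26)) = (LP (LK LD1_c7 LD2_c29 LD3_c53)) :=
  Lre_b IH (LK LD1_c3 LD2_c44 LD3_c26) (LK LD1_c7 LD2_c29 LD3_c53) Lrfl Lrfl
theorem f511478 : Led Lsl_gt (LP (LK LD1_c7 LD2_c29 LD3_c53)) = (LP (LK LD1_c14 LD2_c9 LD3_c37)) :=
  Lre_g IH (LK LD1_c7 LD2_c29 LD3_c53) (LK LD1_c14 LD2_c9 LD3_c37) Lrfl Lrfl
theorem f522783 : Led Lsl_bt (LP (LK LD1_c14 LD2_c4 LD3_c4)) = (LP (LK LD1_c14 LD2_c9 LD3_c37)) :=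
  Lgr Lrot92 (Lpr_ct (f13160 IH) (Lpr_gt (f13148 IH) (Lpr_cf (f436805 IH) (Lpr_bt (f13141 IH) (Lpr_gt (f522781 IH) (Lpe (f522779 IH) (Lpr_gt (f514846 IH) (Lpr_cf (f511470 IH) (Lpr_bt (f511469 IH) (Lpr_gt (f511478 IH) (Lpn (LP (LK LD1_c14 LD2_c9 LD3_c37)))))))))))))
theorem f522784 : Led Lsl_bt (LP (LK LD1_c14 LD2_c4 LD3_c4)) = (LP (LK LD1_c14 LD2_c9 LD3_c37)) :=
  Leop (Lpe (f522783 IH) (Lpn (LP (LK LD1_c14 LD2_c4 LD3_c4))))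
theorem seed_190 : LEOK LG_b (LK LD1_c14 LD2_c4 LD3_c4) :=
  Leoe_b (LK LD1_c14 LD2_c4 LD3_c4) (f522784 IH)
theorem f522186 : Led Lsl_ft (LP (LK LD1_c3 LD2_c34 LD3_c20)) = (LP (LK LD1_c1 LD2_c46 LD3_c48)) :=
  Lgr Lrot48 (Lpr_ff (K33.f522180 IH) (Lpn (LP (LK LD1_c1 LD2_c46 LD3_c48))))
theorem f466617 : Led Lsl_bt (LP (LK LD1_c7 LD2_c9 LD3_c47)) = (LP (LK LD1_c3 LD2_c34 LD3_c20)) :=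
  Lre_b IH (LK LD1_c7 LD2_c9 LD3_c47) (LK LD1_c3 LD2_c34 LD3_c20) Lrfl Lrfl
theorem f514782 : Led Lsl_bt (LP (LK LD1_c1 LD2_c46 LD3_c48)) = (LP (LK LD1_c3 LD2_c39 LD3_c44)) :=
  Lre_b IH (LK LD1_c1 LD2_c46 LD3_c48) (LK LD1_c3 LD2_c39 LD3_c44) Lrfl Lrfl
theorem f522188 : Led Lsl_ff (LP (LK LD1_c7 LD2_c9 LD3_c47)) = (LP (LK LD1_c3 LD2_c39 LD3_c44)) :=
  Lgr Lrot25 (Lpr_bt (f466617 IH) (Lpr_ft (f522186 IH) (Lpr_bt (f514782 IH) (Lpn (LP (LK LD1_c3 LD2_c39 LD3_c44))))))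
theorem f466625 : Led Lsl_bt (LP (LK LD1_c3 LD2_c34 LD3_c20)) = (LP (LK LD1_c7 LD2_c9 LD3_c47)) :=
  Lre_b IH (LK LD1_c3 LD2_c34 LD3_c20) (LK LD1_c7 LD2_c9 LD3_c47) Lrfl Lrfl
theorem f466626 : Led Lsl_ef (LP (LK LD1_c13 LD2_c4 LD3_c3)) = (LP (LK LD1_c7 LD2_c9 LD3_c47)) :=
  Lgr Lrot29 (Lpr_bt (K28.f464595 IH) (Lpr_et (K28.f466623 IH) (Lpr_bt (f466625 IH) (Lpn (LP (LK LD1_c7 LD2_c9 LD3_c47))))))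
theorem f92763 : Led Lsl_et (LP (LK LD1_c3 LD2_c46 LD3_c51)) = (LP (LK LD1_c1 LD2_c50 LD3_c30)) :=
  Lre_e IH (LK LD1_c3 LD2_c46 LD3_c51) (LK LD1_c1 LD2_c50 LD3_c30) Lrfl Lrfl
theorem f464853 : Led Lsl_ft (LP (LK LD1_c12 LD2_c36 LD3_c6)) = (LP (LK LD1_c6 LD2_c34 LD3_c56)) :=
  Lre_f IH (LK LD1_c12 LD2_c36 LD3_c6) (LK LD1_c6 LD2_c34 LD3_c56) Lrfl Lrfl
theorem f520449 : Led Lsl_ff (LP (LK LD1_c7 LD2_c47 LD3_c32)) = (LP (LK LD1_c7 LD2_c0 LD3_c36)) :=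
  Lgr Lrot23 (Lpr_ct (K33.f520443 IH) (Lpr_ft (f464853 IH) (Lpr_ct (K29.f464855 IH) (Lpn (LP (LK LD1_c7 LD2_c0 LD3_c36))))))
theorem f520709 : Led Lsl_ff (LP (LK LD1_c3 LD2_c46 LD3_c51)) = (LP (LK LD1_c7 LD2_c3 LD3_c53)) :=
  Lgr Lrot72 (Lpr_et (f92763 IH) (Lpr_ft (K33.f520703 IH) (Lpr_et (K33.f460607 IH) (Lpe (f520449 IH) (Lpe (K33.f477722 IH) (Lpn (LP (LK LD1_c7 LD2_c3 LD3_c53))))))))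
theorem f520793 : Led Lsl_ft (LP (LK LD1_c3 LD2_c46 LD3_c51)) = (LP (LK LD1_c7 LD2_c3 LD3_c53)) :=
  Lgr Lrot48 (Lpr_ff (f520709 IH) (Lpn (LP (LK LD1_c7 LD2_c3 LD3_c53))))
theorem f92777 : Led Lsl_et (LP (LK LD1_c1 LD2_c50 LD3_c30)) = (LP (LK LD1_c3 LD2_c46 LD3_c51)) :=
  Lre_e IH (LK LD1_c1 LD2_c50 LD3_c30) (LK LD1_c3 LD2_c46 LD3_c51) Lrfl Lrfl
theorem f520711 : Led Lsl_ff (LP (LK LD1_c1 LD2_c50 LD3_c30)) = (LP (LK LD1_c3 LD2_c29 LD3_c28)) :=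
  Lgr Lrot3 (Lpr_ft (K33.f520703 IH) (Lpn (LP (LK LD1_c3 LD2_c29 LD3_c28))))
theorem f520799 : Led Lsl_ff (LP (LK LD1_c7 LD2_c0 LD3_c36)) = (LP (LK LD1_c7 LD2_c47 LD3_c32)) :=
  Lgr Lrot72 (Lpr_et (K29.f103962 IH) (Lpe (f520711 IH) (Lpr_et (f92777 IH) (Lpr_ft (f520793 IH) (Lpr_et (K33.f477727 IH) (Lpn (LP (LK LD1_c7 LD2_c47 LD3_c32))))))))
theorem f520803 : Led Lsl_ft (LP (LK LD1_c7 LD2_c37 LD3_c12)) = (LP (LK LD1_c3 LD2_c52 LD3_c52)) :=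
  Lgr Lrot54 (Lpe (K29.f460598 IH) (Lpr_ff (f520799 IH) (Lpe (K33.f464012 IH) (Lpn (LP (LK LD1_c3 LD2_c52 LD3_c52))))))
theorem f129850 : Led Lsl_et (LP (LK LD1_c14 LD2_c21 LD3_c59)) = (LP (LK LD1_c7 LD2_c37 LD3_c12)) :=
  Lre_e IH (LK LD1_c14 LD2_c21 LD3_c59) (LK LD1_c7 LD2_c37 LD3_c12) Lrfl Lrfl
theorem f477411 : Led Lsl_et (LP (LK LD1_c3 LD2_c52 LD3_c52)) = (LP (LK LD1_c7 LD2_c47 LD3_c33)) :=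
  Lre_e IH (LK LD1_c3 LD2_c52 LD3_c52) (LK LD1_c7 LD2_c47 LD3_c33) Lrfl Lrfl
theorem f477752 : Led Lsl_ft (LP (LK LD1_c7 LD2_c47 LD3_c33)) = (LP (LK LD1_c14 LD2_c42 LD3_c17)) :=
  Lre_f IH (LK LD1_c7 LD2_c47 LD3_c33) (LK LD1_c14 LD2_c42 LD3_c17) Lrfl Lrfl
theorem f520809 : Led Lsl_ef (LP (LK LD1_c24 LD2_c0 LD3_c1)) = (LP (LK LD1_c14 LD2_c42 LD3_c17)) :=
  Lgr Lrot21 (Lpr_ft (K33.f460619 IH) (Lpr_et (f129850 IH) (Lpr_ft (f520803 IH) (Lpr_et (f477411 IH) (Lpr_ft (f477752 IH) (Lpn (LP (LK LD1_c14 LD2_c42 LD3_c17))))))))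
theorem f520670 : Led Lsl_af (LP (LK LD1_c14 LD2_c42 LD3_c8)) = (LP (LK LD1_c24 LD2_c0 LD3_c1)) :=
  Lgr Lrot0 (Lpr_at (K33.f520665 IH) (Lpn (LP (LK LD1_c24 LD2_c0 LD3_c1))))
theorem f129846 : Led Lsl_et (LP (LK LD1_c14 LD2_c21 LD3_c61)) = (LP (LK LD1_c7 LD2_c37 LD3_c13)) :=
  Lre_e IH (LK LD1_c14 LD2_c21 LD3_c61) (LK LD1_c7 LD2_c37 LD3_c13) Lrfl Lrfl
theorem f468424 : Led Lsl_ft (LP (LK LD1_c24 LD2_c0 LD3_c6)) = (LP (LK LD1_c14 LD2_c21 LD3_c61)) :=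
  Lre_f IH (LK LD1_c24 LD2_c0 LD3_c6) (LK LD1_c14 LD2_c21 LD3_c61) Lrfl Lrfl
theorem f520649 : Led Lsl_et (LP (LK LD1_c14 LD2_c42 LD3_c8)) = (LP (LK LD1_c24 LD2_c0 LD3_c6)) :=
  Lgr Lrot69 (Lpe (K33.f459952 IH) (Lpe (K33.f459934 IH) (Lpr_ff (K33.f520563 IH) (Lpe (f129846 IH) (Lpe (f468424 IH) (Lpn (LP (LK LD1_c24 LD2_c0 LD3_c6))))))))
theorem f520811 : Led Lsl_at (LP (LK LD1_c24 LD2_c0 LD3_c6)) = (LP (LK LD1_c14 LD2_c42 LD3_c17)) :=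
  Lgr Lrot80 (Lpe (f520649 IH) (Lpr_af (f520670 IH) (Lpr_ef (f520809 IH) (Lpn (LP (LK LD1_c14 LD2_c42 LD3_c17))))))
theorem f468414 : Led Lsl_ft (LP (LK LD1_c14 LD2_c21 LD3_c61)) = (LP (LK LD1_c24 LD2_c0 LD3_c6)) :=
  Lre_f IH (LK LD1_c14 LD2_c21 LD3_c61) (LK LD1_c24 LD2_c0 LD3_c6) Lrfl Lrfl
theorem f477772 : Led Lsl_ft (LP (LK LD1_c14 LD2_c42 LD3_c17)) = (LP (LK LD1_c7 LD2_c47 LD3_c33)) :=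
  Lre_f IH (LK LD1_c14 LD2_c42 LD3_c17) (LK LD1_c7 LD2_c47 LD3_c33) Lrfl Lrfl
theorem f520901 : Led Lsl_af (LP (LK LD1_c14 LD2_c21 LD3_c61)) = (LP (LK LD1_c7 LD2_c47 LD3_c33)) :=
  Lgr Lrot45 (Lpr_ft (f468414 IH) (Lpr_at (f520811 IH) (Lpr_ft (f477772 IH) (Lpn (LP (LK LD1_c7 LD2_c47 LD3_c33))))))
theorem f468407 : Led Lsl_bt (LP (LK LD1_c14 LD2_c21 LD3_c61)) = (LP (LK LD1_c24 LD2_c0 LD3_c4)) :=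
  Lre_b IH (LK LD1_c14 LD2_c21 LD3_c61) (LK LD1_c24 LD2_c0 LD3_c4) Lrfl Lrfl
theorem f520907 : Led Lsl_at (LP (LK LD1_c24 LD2_c0 LD3_c4)) = (LP (LK LD1_c31 LD2_c18 LD3_c54)) :=
  Lre_a IH (LK LD1_c24 LD2_c0 LD3_c4) (LK LD1_c31 LD2_c18 LD3_c54) Lrfl Lrfl
theorem f477789 : Led Lsl_bt (LP (LK LD1_c14 LD2_c42 LD3_c12)) = (LP (LK LD1_c7 LD2_c47 LD3_c33)) :=
  Lre_b IH (LK LD1_c14 LD2_c42 LD3_c12) (LK LD1_c7 LD2_c47 LD3_c33) Lrfl Lrfl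
theorem f477826 : Led Lsl_at (LP (LK LD1_c24 LD2_c27 LD3_c14)) = (LP (LK LD1_c14 LD2_c42 LD3_c12)) :=
  Lre_a IH (LK LD1_c24 LD2_c27 LD3_c14) (LK LD1_c14 LD2_c42 LD3_c12) Lrfl Lrfl
theorem f520908 : Led Lsl_bt (LP (LK LD1_c31 LD2_c18 LD3_c54)) = (LP (LK LD1_c24 LD2_c27 LD3_c14)) :=
  Lgr Lrot62 (Lpe (f520907 IH) (Lpe (f468407 IH) (Lpr_af (f520901 IH) (Lpe (f477789 IH) (Lpe (f477826 IH) (Lpn (LP (LK LD1_c24 LD2_c27 LD3_c14))))))))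
theorem f477698 : Led Lsl_et (LP (LK LD1_c24 LD2_c0 LD3_c2)) = (LP (LK LD1_c31 LD2_c18 LD3_c54)) :=
  Lre_e IH (LK LD1_c24 LD2_c0 LD3_c2) (LK LD1_c31 LD2_c18 LD3_c54) Lrfl Lrfl
theorem f520915 : Led Lsl_et (LP (LK LD1_c24 LD2_c27 LD3_c14)) = (LP (LK LD1_c14 LD2_c42 LD3_c9)) :=
  Lre_e IH (LK LD1_c24 LD2_c27 LD3_c14) (LK LD1_c14 LD2_c42 LD3_c9) Lrfl Lrfl
theorem f520916 : Led Lsl_bf (LP (LK LD1_c24 LD2_c0 LD3_c2)) = (LP (LK LD1_c14 LD2_c42 LD3_c9)) :=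
  Lgr Lrot96 (Lpr_et (f477698 IH) (Lpr_bt (f520908 IH) (Lpr_et (f520915 IH) (Lpn (LP (LK LD1_c14 LD2_c42 LD3_c9))))))
theorem f477530 : Led Lsl_bt (LP (LK LD1_c7 LD2_c3 LD3_c32)) = (LP (LK LD1_c13 LD2_c23 LD3_c9)) :=
  Lre_b IH (LK LD1_c7 LD2_c3 LD3_c32) (LK LD1_c13 LD2_c23 LD3_c9) Lrfl Lrfl
theorem f464128 : Led Lsl_bt (LP (LK LD1_c14 LD2_c21 LD3_c60)) = (LP (LK LD1_c7 LD2_c37 LD3_c13)) :=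
  Lre_b IH (LK LD1_c14 LD2_c21 LD3_c60) (LK LD1_c7 LD2_c37 LD3_c13) Lrfl Lrfl
theorem f477531 : Led Lsl_dt (LP (LK LD1_c13 LD2_c23 LD3_c9)) = (LP (LK LD1_c14 LD2_c21 LD3_c60)) :=
  Lgr Lrot79 (Lpe (f477530 IH) (Lpr_df (K29.f477519 IH) (Lpe (f464128 IH) (Lpn (LP (LK LD1_c14 LD2_c21 LD3_c60))))))
theorem f477686 : Led Lsl_at (LP (LK LD1_c22 LD2_c41 LD3_c0)) = (LP (LK LD1_c13 LD2_c23 LD3_c9)) :=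
  Lre_a IH (LK LD1_c22 LD2_c41 LD3_c0) (LK LD1_c13 LD2_c23 LD3_c9) Lrfl Lrfl
theorem f477691 : Led Lsl_at (LP (LK LD1_c14 LD2_c21 LD3_c60)) = (LP (LK LD1_c24 LD2_c0 LD3_c2)) :=
  Lre_a IH (LK LD1_c14 LD2_c21 LD3_c60) (LK LD1_c24 LD2_c0 LD3_c2) Lrfl Lrfl
theorem f477692 : Led Lsl_df (LP (LK LD1_c22 LD2_c41 LD3_c0)) = (LP (LK LD1_c24 LD2_c0 LD3_c2)) :=
  Lgr Lrot18 (Lpr_at (f477686 IH) (Lpr_dt (f477531 IH) (Lpr_at (f477691 IH) (Lpn (LP (LK LD1_c24 LD2_c0 LD3_c2))))))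
theorem f520871 : Led Lsl_dt (LP (LK LD1_c24 LD2_c27 LD3_c13)) = (LP (LK LD1_c14 LD2_c42 LD3_c9)) :=
  Lre_d IH (LK LD1_c24 LD2_c27 LD3_c13) (LK LD1_c14 LD2_c42 LD3_c9) Lrfl Lrfl
theorem f520922 : Led Lsl_bt (LP (LK LD1_c22 LD2_c41 LD3_c0)) = (LP (LK LD1_c24 LD2_c27 LD3_c13)) :=
  Lgr Lrot95 (Lpr_df (f477692 IH) (Lpr_bf (f520916 IH) (Lpe (f520871 IH) (Lpn (LP (LK LD1_c24 LD2_c27 LD3_c13))))))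
theorem f477683 : Led Lsl_at (LP (LK LD1_c13 LD2_c23 LD3_c9)) = (LP (LK LD1_c22 LD2_c41 LD3_c0)) :=
  Lre_a IH (LK LD1_c13 LD2_c23 LD3_c9) (LK LD1_c22 LD2_c41 LD3_c0) Lrfl Lrfl
theorem f477831 : Led Lsl_at (LP (LK LD1_c24 LD2_c27 LD3_c13)) = (LP (LK LD1_c14 LD2_c42 LD3_c11)) :=
  Lre_a IH (LK LD1_c24 LD2_c27 LD3_c13) (LK LD1_c14 LD2_c42 LD3_c11) Lrfl Lrfl
theorem f477410 : Led Lsl_bt (LP (LK LD1_c14 LD2_c42 LD3_c11)) = (LP (LK LD1_c7 LD2_c47 LD3_c32)) :=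
  Lre_b IH (LK LD1_c14 LD2_c42 LD3_c11) (LK LD1_c7 LD2_c47 LD3_c32) Lrfl Lrfl
theorem f520924 : Led Lsl_af (LP (LK LD1_c7 LD2_c3 LD3_c32)) = (LP (LK LD1_c7 LD2_c47 LD3_c32)) :=
  Lgr Lrot36 (Lpr_bt (f477530 IH) (Lpr_at (f477683 IH) (Lpr_bt (f520922 IH) (Lpr_at (f477831 IH) (Lpr_bt (f477410 IH) (Lpn (LP (LK LD1_c7 LD2_c47 LD3_c32))))))))
theorem f520701 : Led Lsl_at (LP (LK LD1_c3 LD2_c46 LD3_c54)) = (LP (LK LD1_c7 LD2_c0 LD3_c36)) :=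
  Lgr Lrot80 (Lpe (K33.f459932 IH) (Lpr_af (K33.f520692 IH) (Lpe (K29.f103962 IH) (Lpn (LP (LK LD1_c7 LD2_c0 LD3_c36))))))
theorem f520929 : Led Lsl_ft (LP (LK LD1_c7 LD2_c3 LD3_c32)) = (LP (LK LD1_c3 LD2_c46 LD3_c54)) :=
  Lgr Lrot101 (Lpr_af (f520924 IH) (Lpr_ff (f520449 IH) (Lpe (f520701 IH) (Lpn (LP (LK LD1_c3 LD2_c46 LD3_c54))))))
theorem f64657 : Led Lsl_dt (LP (LK LD1_c3 LD2_c30 LD3_c56)) = (LP (LK LD1_c1 LD2_c41 LD3_c60)) :=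
  Lre_d IH (LK LD1_c3 LD2_c30 LD3_c56) (LK LD1_c1 LD2_c41 LD3_c60) Lrfl Lrfl
theorem f468539 : Led Lsl_gf (LP (LK LD1_c7 LD2_c3 LD3_c25)) = (LP (LK LD1_c3 LD2_c30 LD3_c56)) :=
  Lgr Lrot147 (Lpr_ct (K29.f461784 IH) (Lpr_gt (K29.f468537 IH) (Lpr_ct (K29.f64167 IH) (Lpe (K29.f18761 IH) (Lpe (K28.f458349 IH) (Lpe (K28.f463705 IH) (Lpr_cf (K5.f109306 IH) (Lpe (K5.f64649 IH) (Lpe (f64657 IH) (Lpn (LP (LK LD1_c3 LD2_c30 LD3_c56))))))))))))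
theorem f477189 : Led Lsl_dt (LP (LK LD1_c7 LD2_c3 LD3_c25)) = (LP (LK LD1_c3 LD2_c52 LD3_c55)) :=
  Lgr Lrot105 (Lpr_gf (f468539 IH) (Lpe (K29.f64661 IH) (Lpr_gf (K24.f460525 IH) (Lpe (K24.f460545 IH) (Lpe (K24.f441547 IH) (Lpe (K24.f440183 IH) (Lpr_gt (K29.f477185 IH) (Lpr_dt (K29.f464845 IH) (Lpe (K29.f463709 IH) (Lpn (LP (LK LD1_c3 LD2_c52 LD3_c55))))))))))))
theorem f477517 : Led Lsl_cf (LP (LK LD1_c7 LD2_c3 LD3_c32)) = (LP (LK LD1_c7 LD2_c15 LD3_c17)) :=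
  Lgr Lrot55 (Lpr_dt (K29.f477495 IH) (Lpe (K29.f468382 IH) (Lpe (K29.f477176 IH) (Lpr_ct (K29.f460438 IH) (Lpr_dt (f477189 IH) (Lpr_ct (K29.f463709 IH) (Lpe (K29.f464850 IH) (Lpr_ct (K29.f464855 IH) (Lpr_dt (K29.f460598 IH) (Lpr_ct (K29.f474973 IH) (Lpr_dt (K29.f477299 IH) (Lpr_ct (K33.f461394 IH) (Lpe (K29.f461676 IH) (Lpe (K29.f467461 IH) (Lpr_dt (K29.f467471 IH) (Lpn (LP (LK LD1_c7 LD2_c15 LD3_c17))))))))))))))))))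
theorem f511736 : Led Lsl_cf (LP (LK LD1_c3 LD2_c39 LD3_c48)) = (LP (LK LD1_c3 LD2_c46 LD3_c54)) :=
  Lgr Lrot11 (Lpr_ct (K33.f511717 IH) (Lpn (LP (LK LD1_c3 LD2_c46 LD3_c54))))
theorem f520933 : Led Lsl_ff (LP (LK LD1_c7 LD2_c15 LD3_c17)) = (LP (LK LD1_c3 LD2_c39 LD3_c48)) :=
  Lgr Lrot23 (Lpe (f477517 IH) (Lpr_ft (f520929 IH) (Lpe (f511736 IH) (Lpn (LP (LK LD1_c3 LD2_c39 LD3_c48))))))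
theorem f520937 : Led Lsl_ft (LP (LK LD1_c7 LD2_c15 LD3_c17)) = (LP (LK LD1_c3 LD2_c39 LD3_c48)) :=
  Lgr Lrot48 (Lpr_ff (f520933 IH) (Lpn (LP (LK LD1_c3 LD2_c39 LD3_c48))))
theorem f520941 : Led Lsl_ff (LP (LK LD1_c3 LD2_c37 LD3_c29)) = (LP (LK LD1_c1 LD2_c46 LD3_c51)) :=
  Lgr Lrot25 (Lpr_bt (K29.f467478 IH) (Lpr_ft (f520937 IH) (Lpr_bt (K33.f511703 IH) (Lpn (LP (LK LD1_c1 LD2_c46 LD3_c51))))))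
theorem f520946 : Led Lsl_at (LP (LK LD1_c3 LD2_c37 LD3_c29)) = (LP (LK LD1_c6 LD2_c52 LD3_c22)) :=
  Lgr Lrot26 (Lpr_ff (f520941 IH) (Lpr_gt (K33.f511709 IH) (Lpr_gt (K28.f458347 IH) (Lpn (LP (LK LD1_c6 LD2_c52 LD3_c22))))))
theorem f470752 : Led Lsl_bt (LP (LK LD1_c7 LD2_c15 LD3_c17)) = (LP (LK LD1_c3 LD2_c37 LD3_c29)) :=
  Lre_b IH (LK LD1_c7 LD2_c15 LD3_c17) (LK LD1_c3 LD2_c37 LD3_c29) Lrfl Lrfl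
theorem f477535 : Led Lsl_af (LP (LK LD1_c7 LD2_c15 LD3_c17)) = (LP (LK LD1_c12 LD2_c36 LD3_c6)) :=
  Lgr Lrot109 (Lpe (K29.f477533 IH) (Lpr_df (K29.f477519 IH) (Lpe (K29.f468388 IH) (Lpe (K29.f477174 IH) (Lpe (K29.f461784 IH) (Lpr_df (K29.f477179 IH) (Lpr_cf (K29.f463711 IH) (Lpe (K29.f464845 IH) (Lpr_ft (K33.f464854 IH) (Lpn (LP (LK LD1_c12 LD2_c36 LD3_c6))))))))))))
theorem f520435 : Led Lsl_bt (LP (LK LD1_c13 LD2_c13 LD3_c8)) = (LP (LK LD1_c12 LD2_c36 LD3_c6)) :=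
  Lgr Lrot95 (Lpe (K33.f98821 IH) (Lpr_bf (K33.f479837 IH) (Lpr_df (K33.f520431 IH) (Lpn (LP (LK LD1_c12 LD2_c36 LD3_c6))))))
theorem f464597 : Led Lsl_bf (LP (LK LD1_c13 LD2_c4 LD3_c3)) = (LP (LK LD1_c6 LD2_c52 LD3_c22)) :=
  Lgr Lrot24 (Lpr_bt (K28.f464595 IH) (Lpn (LP (LK LD1_c6 LD2_c52 LD3_c22))))
theorem f520950 : Led Lsl_af (LP (LK LD1_c13 LD2_c13 LD3_c8)) = (LP (LK LD1_c13 LD2_c4 LD3_c3)) :=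
  Lgr Lrot36 (Lpr_bt (f520435 IH) (Lpe (f477535 IH) (Lpr_bt (f470752 IH) (Lpr_at (f520946 IH) (Lpe (f464597 IH) (Lpn (LP (LK LD1_c13 LD2_c4 LD3_c3))))))))
theorem f521088 : Led Lsl_at (LP (LK LD1_c7 LD2_c4 LD3_c44)) = (LP (LK LD1_c7 LD2_c5 LD3_c8)) :=
  Lgr Lrot107 (Lpe (K33.f480251 IH) (Lpr_af (f520950 IH) (Lpr_cf (K28.f464591 IH) (Lpn (LP (LK LD1_c7 LD2_c5 LD3_c8))))))
theorem f521104 : Led Lsl_ff (LP (LK LD1_c7 LD2_c4 LD3_c44)) = (LP (LK LD1_c7 LD2_c5 LD3_c7)) :=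
  Lgr Lrot52 (Lpr_at (f521088 IH) (Lpr_gf (K28.f459223 IH) (Lpe (K32.f458929 IH) (Lpn (LP (LK LD1_c7 LD2_c5 LD3_c7))))))
theorem f521110 : Led Lsl_ft (LP (LK LD1_c7 LD2_c4 LD3_c44)) = (LP (LK LD1_c7 LD2_c5 LD3_c7)) :=
  Lgr Lrot48 (Lpr_ff (f521104 IH) (Lpn (LP (LK LD1_c7 LD2_c5 LD3_c7))))
theorem f13406 : Led Lsl_et (LP (LK LD1_c0 LD2_c23 LD3_c9)) = (LP (LK LD1_c0 LD2_c51 LD3_c21)) :=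
  Lre_e IH (LK LD1_c0 LD2_c23 LD3_c9) (LK LD1_c0 LD2_c51 LD3_c21) Lrfl Lrfl
theorem f12885 : Led Lsl_gt (LP (LK LD1_c1 LD2_c49 LD3_c11)) = (LP (LK LD1_c0 LD2_c51 LD3_c21)) :=
  Lre_g IH (LK LD1_c1 LD2_c49 LD3_c11) (LK LD1_c0 LD2_c51 LD3_c21) Lrfl Lrfl
theorem f121192 : Led Lsl_et (LP (LK LD1_c3 LD2_c44 LD3_c21)) = (LP (LK LD1_c1 LD2_c49 LD3_c11)) :=
  Lre_e IH (LK LD1_c3 LD2_c44 LD3_c21) (LK LD1_c1 LD2_c49 LD3_c11) Lrfl Lrfl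
theorem f451825 : Led Lsl_dt (LP (LK LD1_c1 LD2_c54 LD3_c48)) = (LP (LK LD1_c3 LD2_c56 LD3_c10)) :=
  Lre_d IH (LK LD1_c1 LD2_c54 LD3_c48) (LK LD1_c3 LD2_c56 LD3_c10) Lrfl Lrfl
theorem f451803 : Led Lsl_at (LP (LK LD1_c3 LD2_c56 LD3_c32)) = (LP (LK LD1_c1 LD2_c55 LD3_c2)) :=
  Lre_a IH (LK LD1_c3 LD2_c56 LD3_c32) (LK LD1_c1 LD2_c55 LD3_c2) Lrfl Lrfl
theorem f451804 : Led Lsl_at (LP (LK LD1_c1 LD2_c54 LD3_c53)) = (LP (LK LD1_c3 LD2_c56 LD3_c10)) :=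
  Lre_a IH (LK LD1_c1 LD2_c54 LD3_c53) (LK LD1_c3 LD2_c56 LD3_c10) Lrfl Lrfl
theorem f451805 : Led Lsl_ff (LP (LK LD1_c3 LD2_c56 LD3_c32)) = (LP (LK LD1_c3 LD2_c56 LD3_c10)) :=
  Lgr Lrot30 (Lpr_at (f451803 IH) (Lpr_ft (K28.f451649 IH) (Lpr_at (f451804 IH) (Lpn (LP (LK LD1_c3 LD2_c56 LD3_c10))))))
theorem f451984 : Led Lsl_gf (LP (LK LD1_c3 LD2_c56 LD3_c38)) = (LP (LK LD1_c3 LD2_c56 LD3_c10)) :=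
  Lgr Lrot47 (Lpr_gt (K33.f11343 IH) (Lpe (f451803 IH) (Lpr_ff (f451805 IH) (Lpn (LP (LK LD1_c3 LD2_c56 LD3_c10))))))
theorem f489765 : Led Lsl_dt (LP (LK LD1_c3 LD2_c44 LD3_c21)) = (LP (LK LD1_c3 LD2_c56 LD3_c38)) :=
  Lgr Lrot56 (Lpr_et (f121192 IH) (Lpr_gt (f12885 IH) (Lpe (f13406 IH) (Lpr_dt (K4.f13389 IH) (Lpr_gt (K4.f12926 IH) (Lpr_df (K4.f121023 IH) (Lpr_et (K5.f121027 IH) (Lpr_gt (K33.f463689 IH) (Lpr_dt (f451825 IH) (Lpe (f451984 IH) (Lpn (LP (LK LD1_c3 LD2_c56 LD3_c38)))))))))))))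
theorem f483765 : Led Lsl_gf (LP (LK LD1_c1 LD2_c49 LD3_c18)) = (LP (LK LD1_c3 LD2_c31 LD3_c39)) :=
  Lgr Lrot143 (Lpr_dt (K33.f483758 IH) (Lpe (f11345 IH) (Lpe (K33.f451920 IH) (Lpr_gf (K33.f480076 IH) (Lpe (K33.f459481 IH) (Lpr_gf (K28.f463276 IH) (Lpe (K28.f455652 IH) (Lpe (K28.f459278 IH) (Lpr_dt (K28.f458946 IH) (Lpn (LP (LK LD1_c3 LD2_c31 LD3_c39))))))))))))
theorem f489780 : Led Lsl_gf (LP (LK LD1_c3 LD2_c44 LD3_c21)) = (LP (LK LD1_c7 LD2_c4 LD3_c56)) :=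
  Lgr Lrot144 (Lpr_dt (f489765 IH) (Lpr_gt (K33.f11343 IH) (Lpr_dt (K33.f11342 IH) (Lpe (K28.f11246 IH) (Lpr_df (K24.f11327 IH) (Lpe (K33.f11344 IH) (Lpe (K33.f483758 IH) (Lpr_gf (f483765 IH) (Lpe (K28.f458974 IH) (Lpn (LP (LK LD1_c7 LD2_c4 LD3_c56))))))))))))
theorem f521116 : Led Lsl_af (LP (LK LD1_c3 LD2_c44 LD3_c21)) = (LP (LK LD1_c7 LD2_c5 LD3_c7)) :=
  Lgr Lrot31 (Lpr_gf (f489780 IH) (Lpr_gf (K33.f458943 IH) (Lpr_ft (f521110 IH) (Lpn (LP (LK LD1_c7 LD2_c5 LD3_c7))))))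
theorem f521098 : Led Lsl_af (LP (LK LD1_c7 LD2_c4 LD3_c44)) = (LP (LK LD1_c7 LD2_c5 LD3_c8)) :=
  Lgr Lrot0 (Lpr_at (f521088 IH) (Lpn (LP (LK LD1_c7 LD2_c5 LD3_c8))))
theorem f521124 : Led Lsl_ft (LP (LK LD1_c3 LD2_c44 LD3_c21)) = (LP (LK LD1_c7 LD2_c5 LD3_c8)) :=
  Lgr Lrot101 (Lpr_af (f521116 IH) (Lpe (f521110 IH) (Lpr_af (f521098 IH) (Lpn (LP (LK LD1_c7 LD2_c5 LD3_c8))))))
theorem f451986 : Led Lsl_ct (LP (LK LD1_c3 LD2_c56 LD3_c38)) = (LP (LK LD1_c7 LD2_c55 LD3_c1)) :=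
  Lre_c IH (LK LD1_c3 LD2_c56 LD3_c38) (LK LD1_c7 LD2_c55 LD3_c1) Lrfl Lrfl
theorem f451809 : Led Lsl_gt (LP (LK LD1_c1 LD2_c55 LD3_c2)) = (LP (LK LD1_c3 LD2_c56 LD3_c37)) :=
  Lre_g IH (LK LD1_c1 LD2_c55 LD3_c2) (LK LD1_c3 LD2_c56 LD3_c37) Lrfl Lrfl
theorem f480280 : Led Lsl_dt (LP (LK LD1_c3 LD2_c56 LD3_c37)) = (LP (LK LD1_c7 LD2_c4 LD3_c44)) :=
  Lgr Lrot113 (Lpe (f451809 IH) (Lpe (K28.f11333 IH) (Lpe (K28.f11351 IH) (Lpe (K28.f464698 IH) (Lpr_gt (K28.f98812 IH) (Lpr_dt (K33.f98808 IH) (Lpr_gt (K33.f98820 IH) (Lpr_dt (K33.f98821 IH) (Lpr_ct (K33.f480251 IH) (Lpn (LP (LK LD1_c7 LD2_c4 LD3_c44))))))))))))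
theorem f451814 : Led Lsl_ct (LP (LK LD1_c7 LD2_c54 LD3_c60)) = (LP (LK LD1_c3 LD2_c56 LD3_c37)) :=
  Lre_c IH (LK LD1_c7 LD2_c54 LD3_c60) (LK LD1_c3 LD2_c56 LD3_c37) Lrfl Lrfl
theorem f480282 : Led Lsl_gt (LP (LK LD1_c13 LD2_c13 LD3_c6)) = (LP (LK LD1_c7 LD2_c54 LD3_c60)) :=
  Lgr Lrot150 (Lpe (K33.f458173 IH) (Lpe (K33.f19074 IH) (Lpr_df (K33.f480050 IH) (Lpr_gt (K33.f455755 IH) (Lpr_ct (K33.f473470 IH) (Lpe (K33.f480249 IH) (Lpr_ct (K33.f480251 IH) (Lpe (f480280 IH) (Lpe (f451814 IH) (Lpn (LP (LK LD1_c7 LD2_c54 LD3_c60))))))))))))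
theorem f480284 : Led Lsl_df (LP (LK LD1_c3 LD2_c56 LD3_c37)) = (LP (LK LD1_c7 LD2_c4 LD3_c44)) :=
  Lgr Lrot162 (Lpe (f451814 IH) (Lpe (f480282 IH) (Lpe (K33.f458173 IH) (Lpe (K33.f19074 IH) (Lpr_dt (K33.f480054 IH) (Lpr_gt (K33.f455755 IH) (Lpr_ct (K33.f473470 IH) (Lpe (K33.f480249 IH) (Lpr_ct (K33.f480251 IH) (Lpn (LP (LK LD1_c7 LD2_c4 LD3_c44))))))))))))
theorem f451812 : Led Lsl_ct (LP (LK LD1_c3 LD2_c56 LD3_c37)) = (LP (LK LD1_c7 LD2_c54 LD3_c60)) :=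
  Lre_c IH (LK LD1_c3 LD2_c56 LD3_c37) (LK LD1_c7 LD2_c54 LD3_c60) Lrfl Lrfl
theorem f458957 : Led Lsl_dt (LP (LK LD1_c13 LD2_c25 LD3_c3)) = (LP (LK LD1_c7 LD2_c4 LD3_c37)) :=
  Lre_d IH (LK LD1_c13 LD2_c25 LD3_c3) (LK LD1_c7 LD2_c4 LD3_c37) Lrfl Lrfl
theorem f463534 : Led Lsl_cf (LP (LK LD1_c13 LD2_c25 LD3_c3)) = (LP (LK LD1_c7 LD2_c49 LD3_c58)) :=
  Lgr Lrot55 (Lpr_dt (f458957 IH) (Lpr_ct (K33.f455626 IH) (Lpr_dt (K33.f446542 IH) (Lpr_ct (K28.f446541 IH) (Lpr_dt (K28.f455620 IH) (Lpr_ct (K29.f455622 IH) (Lpr_dt (K24.f455637 IH) (Lpr_ct (K28.f455638 IH) (Lpe (K28.f458947 IH) (Lpr_ct (K28.f455771 IH) (Lpr_dt (K28.f455770 IH) (Lpr_ct (K28.f455769 IH) (Lpr_dt (K28.f458946 IH) (Lpr_ct (K28.f458945 IH) (Lpr_dt (K28.f463519 IH) (Lpn (LP (LK LD1_c7 LD2_c49 LD3_c58))))))))))))))))))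
theorem f459035 : Led Lsl_ct (LP (LK LD1_c13 LD2_c24 LD3_c60)) = (LP (LK LD1_c7 LD2_c4 LD3_c36)) :=
  Lre_c IH (LK LD1_c13 LD2_c24 LD3_c60) (LK LD1_c7 LD2_c4 LD3_c36) Lrfl Lrfl
theorem f468133 : Led Lsl_gt (LP (LK LD1_c13 LD2_c56 LD3_c2)) = (LP (LK LD1_c13 LD2_c24 LD3_c60)) :=
  Lgr Lrot146 (Lpr_dt (K33.f468122 IH) (Lpr_gt (K28.f464435 IH) (Lpr_ct (K28.f463042 IH) (Lpr_gt (K28.f463053 IH) (Lpe (f463534 IH) (Lpr_dt (f458957 IH) (Lpe (K32.f458888 IH) (Lpe (K33.f446543 IH) (Lpe (f459035 IH) (Lpn (LP (LK LD1_c13 LD2_c24 LD3_c60))))))))))))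
theorem f480292 : Led Lsl_df (LP (LK LD1_c7 LD2_c54 LD3_c60)) = (LP (LK LD1_c13 LD2_c24 LD3_c60)) :=
  Lgr Lrot84 (Lpe (f451812 IH) (Lpr_df (f480284 IH) (Lpe (K33.f455688 IH) (Lpe (K24.f12142 IH) (Lpr_gf (K28.f470049 IH) (Lpe (K33.f159943 IH) (Lpe (K28.f469967 IH) (Lpe (K33.f468131 IH) (Lpr_gt (f468133 IH) (Lpn (LP (LK LD1_c13 LD2_c24 LD3_c60))))))))))))
theorem f480294 : Led Lsl_dt (LP (LK LD1_c7 LD2_c54 LD3_c60)) = (LP (LK LD1_c13 LD2_c24 LD3_c60)) :=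
  Lgr Lrot42 (Lpr_df (f480292 IH) (Lpn (LP (LK LD1_c13 LD2_c24 LD3_c60))))
theorem f464764 : Led Lsl_dt (LP (LK LD1_c6 LD2_c57 LD3_c43)) = (LP (LK LD1_c6 LD2_c53 LD3_c53)) :=
  Lgr Lrot42 (Lpr_df (K33.f464762 IH) (Lpn (LP (LK LD1_c6 LD2_c53 LD3_c53))))
theorem f489770 : Led Lsl_cf (LP (LK LD1_c3 LD2_c44 LD3_c21)) = (LP (LK LD1_c6 LD2_c53 LD3_c53)) :=
  Lgr Lrot55 (Lpr_dt (f489765 IH) (Lpr_ct (f451986 IH) (Lpr_dt (K33.f480235 IH) (Lpr_ct (K33.f459265 IH) (Lpe (K33.f480170 IH) (Lpe (K33.f464663 IH) (Lpr_dt (K33.f98821 IH) (Lpr_ct (K33.f480251 IH) (Lpe (f480284 IH) (Lpr_ct (f451812 IH) (Lpr_dt (f480294 IH) (Lpr_ct (f459035 IH) (Lpe (K33.f480036 IH) (Lpe (K33.f464628 IH) (Lpr_dt (f464764 IH) (Lpn (LP (LK LD1_c6 LD2_c53 LD3_c53))))))))))))))))))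
theorem f521128 : Led Lsl_ff (LP (LK LD1_c6 LD2_c53 LD3_c53)) = (LP (LK LD1_c13 LD2_c4 LD3_c3)) :=
  Lgr Lrot23 (Lpe (f489770 IH) (Lpr_ft (f521124 IH) (Lpe (K28.f464591 IH) (Lpn (LP (LK LD1_c13 LD2_c4 LD3_c3))))))
theorem f522297 : Led Lsl_et (LP (LK LD1_c1 LD2_c46 LD3_c46)) = (LP (LK LD1_c3 LD2_c39 LD3_c44)) :=
  Lre_e IH (LK LD1_c1 LD2_c46 LD3_c46) (LK LD1_c3 LD2_c39 LD3_c44) Lrfl Lrfl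
theorem f522298 : Led Lsl_ft (LP (LK LD1_c3 LD2_c25 LD3_c61)) = (LP (LK LD1_c1 LD2_c46 LD3_c46)) :=
  Lgr Lrot86 (Lpe (K33.f128089 IH) (Lpr_ff (f521128 IH) (Lpr_ef (f466626 IH) (Lpr_ff (f522188 IH) (Lpe (f522297 IH) (Lpn (LP (LK LD1_c1 LD2_c46 LD3_c46))))))))
theorem f455751 : Led Lsl_ct (LP (LK LD1_c7 LD2_c5 LD3_c6)) = (LP (LK LD1_c3 LD2_c31 LD3_c46)) :=
  Lre_c IH (LK LD1_c7 LD2_c5 LD3_c6) (LK LD1_c3 LD2_c31 LD3_c46) Lrfl Lrfl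
theorem f480397 : Led Lsl_gf (LP (LK LD1_c7 LD2_c11 LD3_c54)) = (LP (LK LD1_c6 LD2_c53 LD3_c53)) :=
  Lgr Lrot147 (Lpe (K33.f473496 IH) (Lpr_gt (K33.f480247 IH) (Lpr_ct (f455751 IH) (Lpr_df (K32.f463655 IH) (Lpe (K32.f463657 IH) (Lpe (K32.f479810 IH) (Lpe (K24.f98817 IH) (Lpe (K28.f98822 IH) (Lpr_df (K33.f464762 IH) (Lpn (LP (LK LD1_c6 LD2_c53 LD3_c53))))))))))))
theorem f489784 : Led Lsl_ct (LP (LK LD1_c3 LD2_c44 LD3_c21)) = (LP (LK LD1_c6 LD2_c53 LD3_c53)) :=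
  Lgr Lrot152 (Lpr_gf (f489780 IH) (Lpe (K28.f463474 IH) (Lpr_gt (K28.f159942 IH) (Lpr_ct (K28.f159938 IH) (Lpe (K28.f469967 IH) (Lpr_ct (K28.f462670 IH) (Lpe (K33.f463636 IH) (Lpr_cf (K33.f473496 IH) (Lpr_gf (f480397 IH) (Lpn (LP (LK LD1_c6 LD2_c53 LD3_c53))))))))))))
theorem f489774 : Led Lsl_et (LP (LK LD1_c1 LD2_c49 LD3_c11)) = (LP (LK LD1_c3 LD2_c44 LD3_c21)) :=
  Lre_e IH (LK LD1_c1 LD2_c49 LD3_c11) (LK LD1_c3 LD2_c44 LD3_c21) Lrfl Lrfl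
theorem f489788 : Led Lsl_cf (LP (LK LD1_c1 LD2_c49 LD3_c11)) = (LP (LK LD1_c3 LD2_c25 LD3_c61)) :=
  Lgr Lrot39 (Lpr_et (f489774 IH) (Lpr_ct (f489784 IH) (Lpr_et (K33.f128089 IH) (Lpn (LP (LK LD1_c3 LD2_c25 LD3_c61))))))
theorem f489800 : Led Lsl_ct (LP (LK LD1_c1 LD2_c49 LD3_c11)) = (LP (LK LD1_c3 LD2_c25 LD3_c61)) :=
  Lgr Lrot59 (Lpr_cf (f489788 IH) (Lpn (LP (LK LD1_c3 LD2_c25 LD3_c61))))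
theorem f522780 : Led Lsl_ff (LP (LK LD1_c1 LD2_c49 LD3_c11)) = K33.v2492 :=
  Lgr Lrot23 (Lpr_ct (f489800 IH) (Lpr_ft (f522298 IH) (Lpr_ct (K33.f522778 IH) (Lpn K33.v2492))))
theorem f522857 : Led Lsl_ft (LP (LK LD1_c1 LD2_c49 LD3_c11)) = K33.v2492 :=
  Lgr Lrot48 (Lpr_ff (f522780 IH) (Lpn K33.v2492))
theorem f12878 : Led Lsl_gt (LP (LK LD1_c0 LD2_c51 LD3_c21)) = (LP (LK LD1_c1 LD2_c49 LD3_c10)) :=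
  Lre_g IH (LK LD1_c0 LD2_c51 LD3_c21) (LK LD1_c1 LD2_c49 LD3_c10) Lrfl Lrfl
theorem f522858 : Led Lsl_af (LP (LK LD1_c1 LD2_c49 LD3_c10)) = K33.v2492 :=
  Lgr Lrot31 (Lpe (f12878 IH) (Lpe (f12885 IH) (Lpr_ft (f522857 IH) (Lpn K33.v2492))))
theorem f98619 : Led Lsl_gt (LP (LK LD1_c1 LD2_c39 LD3_c38)) = (LP (LK LD1_c3 LD2_c25 LD3_c60)) :=
  Lre_g IH (LK LD1_c1 LD2_c39 LD3_c38) (LK LD1_c3 LD2_c25 LD3_c60) Lrfl Lrfl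
theorem f522304 : Led Lsl_af (LP (LK LD1_c3 LD2_c25 LD3_c60)) = (LP (LK LD1_c1 LD2_c46 LD3_c46)) :=
  Lgr Lrot31 (Lpe (f98619 IH) (Lpe (K33.f128088 IH) (Lpr_ft (f522298 IH) (Lpn (LP (LK LD1_c1 LD2_c46 LD3_c46))))))
theorem f522308 : Led Lsl_at (LP (LK LD1_c3 LD2_c25 LD3_c60)) = (LP (LK LD1_c1 LD2_c46 LD3_c46)) :=
  Lgr Lrot100 (Lpr_af (f522304 IH) (Lpn (LP (LK LD1_c1 LD2_c46 LD3_c46))))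
theorem f522862 : Led Lsl_ct (LP (LK LD1_c1 LD2_c49 LD3_c10)) = (LP (LK LD1_c3 LD2_c25 LD3_c60)) :=
  Lgr Lrot111 (Lpr_af (f522858 IH) (Lpe (K33.f522778 IH) (Lpe (f522308 IH) (Lpn (LP (LK LD1_c3 LD2_c25 LD3_c60))))))
theorem f522863 : Led Lsl_ct (LP (LK LD1_c1 LD2_c49 LD3_c10)) = (LP (LK LD1_c3 LD2_c25 LD3_c60)) :=
  Leop (Lpe (f522862 IH) (Lpn (LP (LK LD1_c1 LD2_c49 LD3_c10))))
theorem seed_191 : LEOK LG_c (LK LD1_c1 LD2_c49 LD3_c10) :=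
  Leoe_c (LK LD1_c1 LD2_c49 LD3_c10) (f522863 IH)
def v2496 : LQ := Led Lsl_ft (LP (LK LD1_c1 LD2_c46 LD3_c47))
theorem f523455 : Led Lsl_ft (LP (LK LD1_c1 LD2_c46 LD3_c47)) = v2496 :=
  Lrfl
theorem f523458 : Led Lsl_ff (LP (LK LD1_c1 LD2_c46 LD3_c47)) = v2496 :=
  Lgr Lrot3 (Lpr_ft (f523455 IH) (Lpn v2496))
theorem f5354 : Led Lsl_ct (LP (LK LD1_c1 LD2_c46 LD3_c47)) = (LP (LK LD1_c0 LD2_c50 LD3_c7)) :=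
  Lre_c IH (LK LD1_c1 LD2_c46 LD3_c47) (LK LD1_c0 LD2_c50 LD3_c7) Lrfl Lrfl
def v749 : LQ := Led Lsl_ft (LP (LK LD1_c0 LD2_c50 LD3_c7))
theorem f457067 : Led Lsl_ft (LP (LK LD1_c0 LD2_c50 LD3_c7)) = v749 :=
  Lrfl
theorem f523460 : Led Lsl_ct v749 = v2496 :=
  Lgr Lrot40 (Lpe (f457067 IH) (Lpe (f5354 IH) (Lpr_ff (f523458 IH) (Lpn v2496))))
theorem f12848 : Led Lsl_ct (LP (LK LD1_c0 LD2_c23 LD3_c10)) = (LP (LK LD1_c0 LD2_c51 LD3_c21)) :=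
  Lre_c IH (LK LD1_c0 LD2_c23 LD3_c10) (LK LD1_c0 LD2_c51 LD3_c21) Lrfl Lrfl
theorem f450959 : Led Lsl_ff (LP (LK LD1_c0 LD2_c22 LD3_c36)) = K33.v182 :=
  Lgr Lrot3 (Lpr_ft (K33.f450956 IH) (Lpn K33.v182))
theorem f450960 : Led Lsl_bt K24.v90 = K33.v182 :=
  Lgr Lrot35 (Lpe (K24.f447650 IH) (Lpe (K33.f5575 IH) (Lpr_ff (f450959 IH) (Lpn K33.v182))))
def v743 : LQ := Led Lsl_gf (LP (LK LD1_c0 LD2_c50 LD3_c2))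
theorem f457022 : Led Lsl_gf (LP (LK LD1_c0 LD2_c50 LD3_c2)) = v743 :=
  Lrfl
theorem f5576 : Led Lsl_at (LP (LK LD1_c0 LD2_c22 LD3_c36)) = (LP (LK LD1_c0 LD2_c50 LD3_c2)) :=
  Lre_a IH (LK LD1_c0 LD2_c22 LD3_c36) (LK LD1_c0 LD2_c50 LD3_c2) Lrfl Lrfl
theorem f457023 : Led Lsl_gt K33.v182 = v743 :=
  Lgr Lrot5 (Lpe (f450959 IH) (Lpr_at (f5576 IH) (Lpr_gf (f457022 IH) (Lpn v743))))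
theorem f489804 : Led Lsl_bf v743 = (LP (LK LD1_c3 LD2_c25 LD3_c61)) :=
  Lgr Lrot34 (Lpe (f457023 IH) (Lpe (f450960 IH) (Lpe (K24.f447651 IH) (Lpr_gf (K24.f447639 IH) (Lpqs (K29.f455963 IH) (Lpe (K29.f451561 IH) (Lpe (K24.f447675 IH) (Lpe (K4.f12856 IH) (Lpr_ct (f12848 IH) (Lpe (f12885 IH) (Lpr_cf (f489788 IH) (Lpn (LP (LK LD1_c3 LD2_c25 LD3_c61))))))))))))))
theorem f489805 : Led Lsl_bt v743 = (LP (LK LD1_c3 LD2_c25 LD3_c61)) :=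
  Lgr Lrot127 (Lpr_bf (f489804 IH) (Lpn (LP (LK LD1_c3 LD2_c25 LD3_c61))))
theorem f522306 : v743 = v749 :=
  (Llr Lrot61 (Lpr_bt (f489805 IH) (Lpr_ft (f522298 IH) (Lpr_bt (f5823 IH) (Lpr_ft (f457067 IH) (Lpn v749)))))).symm
theorem f459655 : Led Lsl_af (LP (LK LD1_c0 LD2_c52 LD3_c10)) = K30.v838 :=
  Lgr Lrot0 (Lpr_at (K30.f459654 IH) (Lpn K30.v838))
def v618 : LQ := Led Lsl_ft (LP (LK LD1_c0 LD2_c47 LD3_c18))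
theorem f455520 : Led Lsl_ft (LP (LK LD1_c0 LD2_c47 LD3_c18)) = v618 :=
  Lrfl
theorem f455523 : Led Lsl_ff (LP (LK LD1_c0 LD2_c47 LD3_c18)) = v618 :=
  Lgr Lrot3 (Lpr_ft (f455520 IH) (Lpn v618))
theorem f120569 : Led Lsl_gt (LP (LK LD1_c0 LD2_c52 LD3_c10)) = (LP (LK LD1_c0 LD2_c23 LD3_c37)) :=
  Lre_g IH (LK LD1_c0 LD2_c52 LD3_c10) (LK LD1_c0 LD2_c23 LD3_c37) Lrfl Lrfl
theorem f455527 : Led Lsl_gf (LP (LK LD1_c0 LD2_c52 LD3_c10)) = v618 :=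
  Lgr Lrot47 (Lpr_gt (f120569 IH) (Lpr_af (K28.f120551 IH) (Lpr_ff (f455523 IH) (Lpn v618))))
theorem f455525 : Led Lsl_at K30.v206 = v618 :=
  Lgr Lrot66 (Lpe (K30.f451076 IH) (Lpr_af (K28.f120551 IH) (Lpr_ff (f455523 IH) (Lpn v618))))
def v204 : LQ := Led Lsl_gt (LP (LK LD1_c0 LD2_c23 LD3_c37))
theorem f451062 : Led Lsl_gt (LP (LK LD1_c0 LD2_c23 LD3_c37)) = v204 :=
  Lrfl
theorem f455529 : Led Lsl_gt v204 = v618 :=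
  Lgr Lrot46 (Lpe (f451062 IH) (Lpr_ft (K30.f451076 IH) (Lpr_at (f455525 IH) (Lpn v618))))
theorem f459657 : Led Lsl_ft v204 = K30.v838 :=
  Lgr Lrot2 (Lpr_gt (f455529 IH) (Lpe (f455527 IH) (Lpr_af (f459655 IH) (Lpn K30.v838))))
theorem f459658 : Led Lsl_ff v204 = K30.v838 :=
  Lgr Lrot3 (Lpr_ft (f459657 IH) (Lpn K30.v838))
theorem f479067 : Led Lsl_ft K30.v297 = K30.v292 :=
  Lgr Lrot48 (Lpr_ff (K30.f479064 IH) (Lpn K30.v292))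
theorem f493750 : v204 = K30.v292 :=
  Lefun (Lecon (Lfl_ff (f459658 IH)) (K30.f493748 IH)) (f479067 IH)
theorem f120553 : Led Lsl_bt (LP (LK LD1_c0 LD2_c51 LD3_c61)) = (LP (LK LD1_c0 LD2_c23 LD3_c37)) :=
  Lre_b IH (LK LD1_c0 LD2_c51 LD3_c61) (LK LD1_c0 LD2_c23 LD3_c37) Lrfl Lrfl
theorem f441443 : Led Lsl_ct (LP (LK LD1_c0 LD2_c51 LD3_c61)) = (LP (LK LD1_c1 LD2_c50 LD3_c17)) :=
  Lre_c IH (LK LD1_c0 LD2_c51 LD3_c61) (LK LD1_c1 LD2_c50 LD3_c17) Lrfl Lrfl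
theorem f523461 : Led Lsl_gf (LP (LK LD1_c1 LD2_c50 LD3_c17)) = v2496 :=
  Lgr Lrot129 (Lpe (f441443 IH) (Lpr_bt (f120553 IH) (Lpr_gt (f451062 IH) (Lpqs (f493750 IH) (Lpe (K30.f451559 IH) (Lpq (K24.f455962 IH) (Lpe (K29.f451492 IH) (Lpe (K24.f447639 IH) (Lpr_cf (K24.f447651 IH) (Lpr_bt (f450960 IH) (Lpr_gt (f457023 IH) (Lpqs (f522306 IH) (Lpr_ct (f523460 IH) (Lpn v2496))))))))))))))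
def v2495 : LQ := Led Lsl_at (LP (LK LD1_c1 LD2_c46 LD3_c47))
theorem f523447 : Led Lsl_at (LP (LK LD1_c1 LD2_c46 LD3_c47)) = v2495 :=
  Lrfl
theorem f523462 : Led Lsl_gt (LP (LK LD1_c1 LD2_c50 LD3_c17)) = v2495 :=
  Lgr Lrot46 (Lpr_gf (f523461 IH) (Lpe (f523458 IH) (Lpr_at (f523447 IH) (Lpn v2495))))
theorem f109539 : Led Lsl_bt (LP (LK LD1_c3 LD2_c46 LD3_c23)) = (LP (LK LD1_c1 LD2_c50 LD3_c17)) :=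
  Lre_b IH (LK LD1_c3 LD2_c46 LD3_c23) (LK LD1_c1 LD2_c50 LD3_c17) Lrfl Lrfl
theorem f493760 : Led Lsl_ct (LP (LK LD1_c3 LD2_c46 LD3_c23)) = (LP (LK LD1_c1 LD2_c50 LD3_c28)) :=
  Lre_c IH (LK LD1_c3 LD2_c46 LD3_c23) (LK LD1_c1 LD2_c50 LD3_c28) Lrfl Lrfl
theorem f110296 : Led Lsl_gt (LP (LK LD1_c3 LD2_c46 LD3_c43)) = (LP (LK LD1_c1 LD2_c50 LD3_c28)) :=
  Lre_g IH (LK LD1_c3 LD2_c46 LD3_c43) (LK LD1_c1 LD2_c50 LD3_c28) Lrfl Lrfl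
def v747 : LQ := Led Lsl_at (LP (LK LD1_c0 LD2_c50 LD3_c7))
theorem f457055 : Led Lsl_at (LP (LK LD1_c0 LD2_c50 LD3_c7)) = v747 :=
  Lrfl
theorem f457056 : Led Lsl_af (LP (LK LD1_c0 LD2_c50 LD3_c7)) = v747 :=
  Lgr Lrot0 (Lpr_at (f457055 IH) (Lpn v747))
theorem f523450 : Led Lsl_cf v747 = v2495 :=
  Lgr Lrot1 (Lpe (f457056 IH) (Lpr_ct (f5824 IH) (Lpr_at (f523447 IH) (Lpn v2495))))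
theorem f457069 : Led Lsl_ff (LP (LK LD1_c0 LD2_c50 LD3_c7)) = v749 :=
  Lgr Lrot3 (Lpr_ft (f457067 IH) (Lpn v749))
def v742 : LQ := Led Lsl_gt (LP (LK LD1_c0 LD2_c50 LD3_c2))
theorem f457021 : Led Lsl_gt (LP (LK LD1_c0 LD2_c50 LD3_c2)) = v742 :=
  Lrfl
theorem f522307 : v747 = v742 :=
  (Llr Lrot26 (Lpe (f457055 IH) (Lpr_ff (f457069 IH) (Lpq (f522306 IH) (Lpe (f457022 IH) (Lpr_gt (f457021 IH) (Lpn v742))))))).symm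
theorem f457034 : Led Lsl_af K33.v182 = K33.v745 :=
  Lgr Lrot45 (Lpe (f450959 IH) (Lpr_at (f5576 IH) (Lpr_ft (K33.f457033 IH) (Lpn K33.v745))))
theorem f457037 : Led Lsl_gt v742 = K33.v182 :=
  Lgr Lrot46 (Lpe (f457021 IH) (Lpr_ft (K33.f457033 IH) (Lpe (f457034 IH) (Lpn K33.v182))))
theorem f457047 : Led Lsl_cf K33.v182 = K33.v746 :=
  Lgr Lrot108 (Lpe (f450959 IH) (Lpr_ct (K2.f5325 IH) (Lpr_ft (K33.f457045 IH) (Lpn K33.v746))))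
theorem f5334 : Led Lsl_bt (LP (LK LD1_c0 LD2_c49 LD3_c54)) = (LP (LK LD1_c0 LD2_c50 LD3_c6)) :=
  Lgr Lrot127 (Lpr_bf (K2.f5326 IH) (Lpn (LP (LK LD1_c0 LD2_c50 LD3_c6))))
theorem f4385 : Led Lsl_ft (LP (LK LD1_c1 LD2_c46 LD3_c20)) = (LP (LK LD1_c0 LD2_c49 LD3_c54)) :=
  Lre_f IH (LK LD1_c1 LD2_c46 LD3_c20) (LK LD1_c0 LD2_c49 LD3_c54) Lrfl Lrfl
theorem f457046 : Led Lsl_bf (LP (LK LD1_c1 LD2_c46 LD3_c20)) = K33.v746 :=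
  Lgr Lrot61 (Lpr_ft (f4385 IH) (Lpr_bt (f5334 IH) (Lpr_ft (K33.f457045 IH) (Lpn K33.v746))))
theorem f5316 : Led Lsl_bt (LP (LK LD1_c7 LD2_c16 LD3_c56)) = (LP (LK LD1_c3 LD2_c38 LD3_c17)) :=
  Lre_b IH (LK LD1_c7 LD2_c16 LD3_c56) (LK LD1_c3 LD2_c38 LD3_c17) Lrfl Lrfl
theorem f523467 : Led Lsl_cf (LP (LK LD1_c3 LD2_c46 LD3_c43)) = (LP (LK LD1_c7 LD2_c16 LD3_c56)) :=
  Lgr Lrot160 (Lpr_gt (f110296 IH) (Lpe (f493760 IH) (Lpr_bt (f109539 IH) (Lpr_gt (f523462 IH) (Lpe (f523450 IH) (Lpqs (f522307 IH) (Lpr_gt (f457037 IH) (Lpr_cf (f457047 IH) (Lpe (f457046 IH) (Lpr_gt (K30.f92551 IH) (Lpe (f5316 IH) (Lpn (LP (LK LD1_c7 LD2_c16 LD3_c56))))))))))))))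
theorem f523468 : Led Lsl_ct (LP (LK LD1_c7 LD2_c16 LD3_c56)) = (LP (LK LD1_c3 LD2_c46 LD3_c43)) :=
  Leop (Lpr_cf (f523467 IH) (Lpn (LP (LK LD1_c7 LD2_c16 LD3_c56))))
theorem seed_192 : LEOK LG_c (LK LD1_c7 LD2_c16 LD3_c56) :=
  Leoe_c (LK LD1_c7 LD2_c16 LD3_c56) (f523468 IH)
def v2497 : LQ := Led Lsl_gf (LP (LK LD1_c1 LD2_c46 LD3_c48))
theorem f523543 : Led Lsl_gf (LP (LK LD1_c1 LD2_c46 LD3_c48)) = v2497 :=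
  Lrfl
theorem f514777 : Led Lsl_bt (LP (LK LD1_c3 LD2_c39 LD3_c44)) = (LP (LK LD1_c1 LD2_c46 LD3_c48)) :=
  Lre_b IH (LK LD1_c3 LD2_c39 LD3_c44) (LK LD1_c1 LD2_c46 LD3_c48) Lrfl Lrfl
theorem f5944 : Led Lsl_gt (LP (LK LD1_c1 LD2_c43 LD3_c43)) = (LP (LK LD1_c3 LD2_c34 LD3_c4)) :=
  Lre_g IH (LK LD1_c1 LD2_c43 LD3_c43) (LK LD1_c3 LD2_c34 LD3_c4) Lrfl Lrfl
theorem f482403 : Led Lsl_at (LP (LK LD1_c7 LD2_c6 LD3_c43)) = (LP (LK LD1_c3 LD2_c34 LD3_c4)) :=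
  Lgr Lrot26 (Lpr_ff (K28.f467951 IH) (Lpr_gt (K29.f482363 IH) (Lpr_gt (f5944 IH) (Lpn (LP (LK LD1_c3 LD2_c34 LD3_c4))))))
theorem f96962 : Led Lsl_at (LP (LK LD1_c3 LD2_c36 LD3_c32)) = (LP (LK LD1_c3 LD2_c33 LD3_c3)) :=
  Lgr Lrot107 (Lpe (K29.f88490 IH) (Lpr_af (K2.f88626 IH) (Lpr_cf (K3.f96959 IH) (Lpn (LP (LK LD1_c3 LD2_c33 LD3_c3))))))
theorem f486609 : Led Lsl_ff (LP (LK LD1_c3 LD2_c36 LD3_c32)) = (LP (LK LD1_c3 LD2_c34 LD3_c4)) :=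
  Lgr Lrot30 (Lpr_at (f96962 IH) (Lpe (K28.f467951 IH) (Lpr_at (f482403 IH) (Lpn (LP (LK LD1_c3 LD2_c34 LD3_c4))))))
theorem f486619 : Led Lsl_ft (LP (LK LD1_c3 LD2_c36 LD3_c32)) = (LP (LK LD1_c3 LD2_c34 LD3_c4)) :=
  Lgr Lrot48 (Lpr_ff (f486609 IH) (Lpn (LP (LK LD1_c3 LD2_c34 LD3_c4))))
theorem f88570 : Led Lsl_dt (LP (LK LD1_c7 LD2_c13 LD3_c26)) = (LP (LK LD1_c3 LD2_c36 LD3_c32)) :=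
  Lre_d IH (LK LD1_c7 LD2_c13 LD3_c26) (LK LD1_c3 LD2_c36 LD3_c32) Lrfl Lrfl
theorem f486604 : Led Lsl_dt (LP (LK LD1_c3 LD2_c34 LD3_c4)) = (LP (LK LD1_c7 LD2_c9 LD3_c15)) :=
  Lre_d IH (LK LD1_c3 LD2_c34 LD3_c4) (LK LD1_c7 LD2_c9 LD3_c15) Lrfl Lrfl
theorem f486631 : Led Lsl_ff (LP (LK LD1_c7 LD2_c13 LD3_c26)) = (LP (LK LD1_c7 LD2_c9 LD3_c15)) :=
  Lgr Lrot19 (Lpr_dt (f88570 IH) (Lpr_ft (f486619 IH) (Lpr_dt (f486604 IH) (Lpn (LP (LK LD1_c7 LD2_c9 LD3_c15))))))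
theorem f97446 : Led Lsl_at (LP (LK LD1_c7 LD2_c13 LD3_c26)) = (LP (LK LD1_c7 LD2_c7 LD3_c0)) :=
  Lgr Lrot100 (Lpr_af (f97444 IH) (Lpn (LP (LK LD1_c7 LD2_c7 LD3_c0))))
theorem f442127 : Led Lsl_dt (LP (LK LD1_c13 LD2_c28 LD3_c35)) = (LP (LK LD1_c7 LD2_c6 LD3_c43)) :=
  Lre_d IH (LK LD1_c13 LD2_c28 LD3_c35) (LK LD1_c7 LD2_c6 LD3_c43) Lrfl Lrfl
theorem f467947 : Led Lsl_ff (LP (LK LD1_c13 LD2_c28 LD3_c35)) = (LP (LK LD1_c7 LD2_c7 LD3_c0)) :=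
  Lgr Lrot19 (Lpr_dt (f442127 IH) (Lpr_ft (K28.f467938 IH) (Lpr_dt (K28.f96956 IH) (Lpn (LP (LK LD1_c7 LD2_c7 LD3_c0))))))
theorem f486633 : Led Lsl_at (LP (LK LD1_c13 LD2_c28 LD3_c35)) = (LP (LK LD1_c7 LD2_c9 LD3_c15)) :=
  Lgr Lrot66 (Lpr_ff (f467947 IH) (Lpe (f97446 IH) (Lpr_ff (f486631 IH) (Lpn (LP (LK LD1_c7 LD2_c9 LD3_c15))))))
theorem f6008 : Led Lsl_dt (LP (LK LD1_c1 LD2_c43 LD3_c40)) = (LP (LK LD1_c0 LD2_c48 LD3_c26)) :=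
  Lre_d IH (LK LD1_c1 LD2_c43 LD3_c40) (LK LD1_c0 LD2_c48 LD3_c26) Lrfl Lrfl
theorem f6580 : Led Lsl_ct (LP (LK LD1_c3 LD2_c33 LD3_c57)) = (LP (LK LD1_c7 LD2_c8 LD3_c56)) :=
  Lre_c IH (LK LD1_c3 LD2_c33 LD3_c57) (LK LD1_c7 LD2_c8 LD3_c56) Lrfl Lrfl
theorem f6581 : Led Lsl_gt (LP (LK LD1_c7 LD2_c8 LD3_c56)) = (LP (LK LD1_c13 LD2_c32 LD3_c21)) :=
  Lre_g IH (LK LD1_c7 LD2_c8 LD3_c56) (LK LD1_c13 LD2_c32 LD3_c21) Lrfl Lrfl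
theorem f467940 : Led Lsl_cf (LP (LK LD1_c13 LD2_c28 LD3_c35)) = (LP (LK LD1_c13 LD2_c32 LD3_c21)) :=
  Lgr Lrot99 (Lpe (K33.f442120 IH) (Lpr_cf (K28.f467932 IH) (Lpe (K28.f6666 IH) (Lpe (K29.f6665 IH) (Lpe (K24.f6657 IH) (Lpe (f6008 IH) (Lpr_gt (K29.f6572 IH) (Lpr_ct (f6580 IH) (Lpr_gt (f6581 IH) (Lpn (LP (LK LD1_c13 LD2_c32 LD3_c21))))))))))))
theorem f486623 : Led Lsl_ct (LP (LK LD1_c7 LD2_c9 LD3_c15)) = (LP (LK LD1_c13 LD2_c33 LD3_c0)) :=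
  Lre_c IH (LK LD1_c7 LD2_c9 LD3_c15) (LK LD1_c13 LD2_c33 LD3_c0) Lrfl Lrfl
theorem f486650 : Led Lsl_af (LP (LK LD1_c13 LD2_c32 LD3_c21)) = (LP (LK LD1_c13 LD2_c33 LD3_c0)) :=
  Lgr Lrot68 (Lpe (f467940 IH) (Lpr_at (f486633 IH) (Lpr_ct (f486623 IH) (Lpn (LP (LK LD1_c13 LD2_c33 LD3_c0))))))
theorem f486683 : Led Lsl_gt (LP (LK LD1_c13 LD2_c32 LD3_c22)) = (LP (LK LD1_c7 LD2_c8 LD3_c56)) :=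
  Lre_g IH (LK LD1_c13 LD2_c32 LD3_c22) (LK LD1_c7 LD2_c8 LD3_c56) Lrfl Lrfl
theorem f486684 : Led Lsl_ft (LP (LK LD1_c13 LD2_c32 LD3_c22)) = (LP (LK LD1_c13 LD2_c33 LD3_c0)) :=
  Lgr Lrot2 (Lpr_gt (f486683 IH) (Lpr_gt (f6581 IH) (Lpr_af (f486650 IH) (Lpn (LP (LK LD1_c13 LD2_c33 LD3_c0))))))
theorem f486638 : Led Lsl_ct (LP (LK LD1_c13 LD2_c33 LD3_c0)) = (LP (LK LD1_c7 LD2_c9 LD3_c15)) :=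
  Lre_c IH (LK LD1_c13 LD2_c33 LD3_c0) (LK LD1_c7 LD2_c9 LD3_c15) Lrfl Lrfl
theorem f486686 : Led Lsl_cf (LP (LK LD1_c13 LD2_c32 LD3_c22)) = (LP (LK LD1_c7 LD2_c13 LD3_c26)) :=
  Lgr Lrot108 (Lpr_ft (f486684 IH) (Lpr_ct (f486638 IH) (Lpe (f486631 IH) (Lpn (LP (LK LD1_c7 LD2_c13 LD3_c26))))))
theorem f486716 : Led Lsl_ct (LP (LK LD1_c7 LD2_c8 LD3_c56)) = (LP (LK LD1_c3 LD2_c33 LD3_c57)) :=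
  Lre_c IH (LK LD1_c7 LD2_c8 LD3_c56) (LK LD1_c3 LD2_c33 LD3_c57) Lrfl Lrfl
theorem f87127 : Led Lsl_et (LP (LK LD1_c0 LD2_c23 LD3_c46)) = (LP (LK LD1_c0 LD2_c52 LD3_c38)) :=
  Lre_e IH (LK LD1_c0 LD2_c23 LD3_c46) (LK LD1_c0 LD2_c52 LD3_c38) Lrfl Lrfl
theorem f488253 : Led Lsl_dt (LP (LK LD1_c3 LD2_c49 LD3_c12)) = (LP (LK LD1_c7 LD2_c3 LD3_c43)) :=
  Lgr Lrot56 (Lpr_et (K33.f442365 IH) (Lpr_gt (K33.f87132 IH) (Lpe (f87127 IH) (Lpr_dt (K2.f84726 IH) (Lpr_gt (K2.f19350 IH) (Lpe (K1.f17643 IH) (Lpr_et (K3.f17675 IH) (Lpr_gt (K33.f17691 IH) (Lpr_dt (K33.f17692 IH) (Lpr_gt (K33.f488242 IH) (Lpn (LP (LK LD1_c7 LD2_c3 LD3_c43)))))))))))))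
theorem f455149 : Led Lsl_ct (LP (LK LD1_c3 LD2_c28 LD3_c5)) = (LP (LK LD1_c1 LD2_c40 LD3_c38)) :=
  Lre_c IH (LK LD1_c3 LD2_c28 LD3_c5) (LK LD1_c1 LD2_c40 LD3_c38) Lrfl Lrfl
theorem f487921 : Led Lsl_gt (LP (LK LD1_c3 LD2_c53 LD3_c2)) = (LP (LK LD1_c3 LD2_c49 LD3_c12)) :=
  Lgr Lrot9 (Lpe (K29.f473563 IH) (Lpe (K29.f473567 IH) (Lpe (K8.f108025 IH) (Lpe (K28.f462041 IH) (Lpr_ct (K24.f15754 IH) (Lpe (K28.f446448 IH) (Lpe (f455149 IH) (Lpr_gf (K33.f487917 IH) (Lpr_cf (K33.f487833 IH) (Lpn (LP (LK LD1_c3 LD2_c49 LD3_c12))))))))))))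
theorem f466587 : Led Lsl_et (LP (LK LD1_c1 LD2_c41 LD3_c59)) = (LP (LK LD1_c3 LD2_c30 LD3_c54)) :=
  Lre_e IH (LK LD1_c1 LD2_c41 LD3_c59) (LK LD1_c3 LD2_c30 LD3_c54) Lrfl Lrfl
theorem f62743 : Led Lsl_gt (LP (LK LD1_c3 LD2_c30 LD3_c54)) = (LP (LK LD1_c7 LD2_c3 LD3_c45)) :=
  Lre_g IH (LK LD1_c3 LD2_c30 LD3_c54) (LK LD1_c7 LD2_c3 LD3_c45) Lrfl Lrfl
theorem f488259 : Led Lsl_et (LP (LK LD1_c7 LD2_c48 LD3_c3)) = (LP (LK LD1_c7 LD2_c3 LD3_c45)) :=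
  Lgr Lrot122 (Lpr_dt (K29.f470785 IH) (Lpr_gt (K29.f470783 IH) (Lpe (K29.f5751 IH) (Lpr_et (K29.f473581 IH) (Lpr_gt (f487921 IH) (Lpr_dt (f488253 IH) (Lpr_gt (K33.f466568 IH) (Lpe (K28.f466472 IH) (Lpr_et (f466587 IH) (Lpr_gt (f62743 IH) (Lpn (LP (LK LD1_c7 LD2_c3 LD3_c45)))))))))))))
theorem f488261 : Led Lsl_cf (LP (LK LD1_c7 LD2_c8 LD3_c57)) = (LP (LK LD1_c7 LD2_c3 LD3_c45)) :=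
  Lgr Lrot39 (Lpe (K29.f479486 IH) (Lpr_ct (K33.f479479 IH) (Lpr_et (f488259 IH) (Lpn (LP (LK LD1_c7 LD2_c3 LD3_c45))))))
theorem f467262 : Led Lsl_ct (LP (LK LD1_c7 LD2_c3 LD3_c41)) = (LP (LK LD1_c3 LD2_c30 LD3_c54)) :=
  Lre_c IH (LK LD1_c7 LD2_c3 LD3_c41) (LK LD1_c3 LD2_c30 LD3_c54) Lrfl Lrfl
theorem f514836 : Led Lsl_gt (LP (LK LD1_c3 LD2_c39 LD3_c47)) = (LP (LK LD1_c7 LD2_c3 LD3_c41)) :=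
  Lgr Lrot9 (Lpe (K33.f514779 IH) (Lpr_gt (f514789 IH) (Lpe (f486686 IH) (Lpr_gt (f486683 IH) (Lpr_ct (f486716 IH) (Lpe (K29.f10524 IH) (Lpr_cf (f488261 IH) (Lpe (f62743 IH) (Lpe (f467262 IH) (Lpn (LP (LK LD1_c7 LD2_c3 LD3_c41))))))))))))
theorem f467261 : Led Lsl_ct (LP (LK LD1_c3 LD2_c30 LD3_c54)) = (LP (LK LD1_c7 LD2_c3 LD3_c41)) :=
  Lre_c IH (LK LD1_c3 LD2_c30 LD3_c54) (LK LD1_c7 LD2_c3 LD3_c41) Lrfl Lrfl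
theorem f486589 : Led Lsl_bt (LP (LK LD1_c3 LD2_c30 LD3_c54)) = (LP (LK LD1_c1 LD2_c42 LD3_c0)) :=
  Lre_b IH (LK LD1_c3 LD2_c30 LD3_c54) (LK LD1_c1 LD2_c42 LD3_c0) Lrfl Lrfl
theorem f493543 : Led Lsl_ff (LP (LK LD1_c3 LD2_c31 LD3_c36)) = K30.v1181 :=
  Lgr Lrot25 (Lpr_bt (K29.f12135 IH) (Lpr_ft (K29.f479077 IH) (Lpr_bt (K30.f493541 IH) (Lpn K30.v1181))))
def v1054 : LQ := Led Lsl_et v204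
theorem f491187 : Led Lsl_et v204 = v1054 :=
  Lrfl
theorem f491188 : Led Lsl_ef v204 = v1054 :=
  Lgr Lrot88 (Lpr_et (f491187 IH) (Lpn v1054))
theorem f514536 : Led Lsl_ff v1054 = K33.v2308 :=
  Lgr Lrot72 (Lpe (f491188 IH) (Lpqs (f493750 IH) (Lpe (K30.f479064 IH) (Lpr_et (K30.f493538 IH) (Lpe (f493543 IH) (Lpr_et (K33.f514532 IH) (Lpn K33.v2308)))))))
def v1172 : LQ := Led Lsl_et K30.v292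
theorem f493496 : Led Lsl_et K30.v292 = v1172 :=
  Lrfl
theorem f493757 : v1172 = v1054 :=
  Lefun (Lecon (f493496 IH) (f493750 IH).symm) (f491187 IH)
theorem f493497 : Led Lsl_bf K24.v295 = v1172 :=
  Lgr Lrot96 (Lpe (K24.f451566 IH) (Lpr_bt (K30.f451559 IH) (Lpr_et (f493496 IH) (Lpn v1172))))
theorem f514537 : Led Lsl_bt K24.v651 = K33.v2308 :=
  Lgr Lrot35 (Lpr_ff (K29.f479074 IH) (Lpr_bf (f493497 IH) (Lpqs (f493757 IH) (Lpr_ff (f514536 IH) (Lpn K33.v2308)))))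
def v175 : LQ := Led Lsl_gt (LP (LK LD1_c0 LD2_c22 LD3_c15))
def v1018 : LQ := Led Lsl_dt v175
theorem f491033 : Led Lsl_dt v175 = v1018 :=
  Lrfl
theorem f450916 : Led Lsl_gt (LP (LK LD1_c0 LD2_c22 LD3_c15)) = v175 :=
  Lrfl
theorem f491036 : Led Lsl_ct K24.v651 = v1018 :=
  Lgr Lrot7 (Lpe (K30.f455791 IH) (Lpe (K24.f452095 IH) (Lpe (K24.f448759 IH) (Lpe (K24.f12712 IH) (Lpq (K24.f455974 IH) (Lpe (K24.f450909 IH) (Lpr_gt (K24.f5939 IH) (Lpr_dt (K28.f5914 IH) (Lpr_gt (f450916 IH) (Lpr_dt (f491033 IH) (Lpn v1018)))))))))))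
theorem f455967 : Led Lsl_ct K24.v277 = K24.v295 :=
  Lgr Lrot59 (Lpr_cf (K24.f455966 IH) (Lpn K24.v295))
theorem f479069 : Led Lsl_at K24.v277 = K24.v277 :=
  Lgr Lrot107 (Lpr_cf (K24.f455966 IH) (Lpr_af (K29.f479068 IH) (Lpe (f455967 IH) (Lpn K24.v277))))
theorem f450917 : Led Lsl_gf (LP (LK LD1_c0 LD2_c49 LD3_c39)) = v175 :=
  Lgr Lrot76 (Lpe (K0.f10124 IH) (Lpe (K0.f6636 IH) (Lpr_gt (f450916 IH) (Lpn v175))))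
theorem f456930 : Led Lsl_ft v175 = K29.v722 :=
  Lgr Lrot2 (Lpe (f450917 IH) (Lpe (K24.f10126 IH) (Lpr_af (K29.f456929 IH) (Lpn K29.v722))))
theorem f456931 : Led Lsl_ff v175 = K29.v722 :=
  Lgr Lrot3 (Lpr_ft (f456930 IH) (Lpn K29.v722))
theorem f491035 : Led Lsl_ff K24.v277 = v1018 :=
  Lgr Lrot19 (Lpe (K24.f451497 IH) (Lpq (K29.f479114 IH) (Lpe (f456931 IH) (Lpr_dt (f491033 IH) (Lpn v1018)))))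
theorem f491702 : Led Lsl_gt v1018 = K32.v1135 :=
  Lgr Lrot5 (Lpe (f491035 IH) (Lpr_at (f479069 IH) (Lpr_gf (K32.f491701 IH) (Lpn K32.v1135))))
theorem f523545 : Led Lsl_bt K32.v1143 = v2497 :=
  Lgr Lrot130 (Lpe (K32.f493358 IH) (Lpe (f491702 IH) (Lpe (f491036 IH) (Lpr_bt (f514537 IH) (Lpe (K33.f514531 IH) (Lpe (f486589 IH) (Lpr_ct (f467261 IH) (Lpe (f514836 IH) (Lpe (K33.f514783 IH) (Lpr_gf (f523543 IH) (Lpn v2497)))))))))))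
theorem f455778 : Led Lsl_bt (LP (LK LD1_c1 LD2_c42 LD3_c28)) = (LP (LK LD1_c0 LD2_c47 LD3_c46)) :=
  Lre_b IH (LK LD1_c1 LD2_c42 LD3_c28) (LK LD1_c0 LD2_c47 LD3_c46) Lrfl Lrfl
theorem f455784 : Led Lsl_ct (LP (LK LD1_c1 LD2_c42 LD3_c28)) = (LP (LK LD1_c3 LD2_c31 LD3_c44)) :=
  Lre_c IH (LK LD1_c1 LD2_c42 LD3_c28) (LK LD1_c3 LD2_c31 LD3_c44) Lrfl Lrfl
theorem f455789 : Led Lsl_gt (LP (LK LD1_c7 LD2_c5 LD3_c3)) = (LP (LK LD1_c3 LD2_c31 LD3_c44)) :=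
  Lre_g IH (LK LD1_c7 LD2_c5 LD3_c3) (LK LD1_c3 LD2_c31 LD3_c44) Lrfl Lrfl
theorem f523546 : Led Lsl_ct (LP (LK LD1_c3 LD2_c39 LD3_c44)) = (LP (LK LD1_c7 LD2_c5 LD3_c3)) :=
  Lgr Lrot64 (Lpr_bt (f514777 IH) (Lpr_gf (f523543 IH) (Lpe (f523545 IH) (Lpe (K32.f493358 IH) (Lpe (f491702 IH) (Lpe (f491036 IH) (Lpe (K24.f455787 IH) (Lpe (f455778 IH) (Lpr_ct (f455784 IH) (Lpe (f455789 IH) (Lpn (LP (LK LD1_c7 LD2_c5 LD3_c3)))))))))))))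
theorem f523547 : Led Lsl_ct (LP (LK LD1_c3 LD2_c39 LD3_c44)) = (LP (LK LD1_c7 LD2_c5 LD3_c3)) :=
  Leop (Lpe (f523546 IH) (Lpn (LP (LK LD1_c3 LD2_c39 LD3_c44))))
theorem seed_193 : LEOK LG_c (LK LD1_c3 LD2_c39 LD3_c44) :=
  Leoe_c (LK LD1_c3 LD2_c39 LD3_c44) (f523547 IH)
theorem f523548 : Led Lsl_et (LP (LK LD1_c3 LD2_c39 LD3_c2)) = v2497 :=
  Lgr Lrot121 (Lpr_dt (K30.f493652 IH) (Lpe (K30.f493656 IH) (Lpr_df (K29.f107839 IH) (Lpr_et (K24.f10807 IH) (Lpe (K2.f10801 IH) (Lpe (K33.f10247 IH) (Lpr_dt (K33.f10248 IH) (Lpr_gf (K33.f514774 IH) (Lpe (K33.f514776 IH) (Lpr_gf (f523543 IH) (Lpn v2497)))))))))))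
theorem f523550 : Led Lsl_ef (LP (LK LD1_c3 LD2_c39 LD3_c2)) = v2497 :=
  Lgr Lrot88 (Lpr_et (f523548 IH) (Lpn v2497))
theorem f442110 : Led Lsl_et (LP (LK LD1_c0 LD2_c49 LD3_c56)) = (LP (LK LD1_c1 LD2_c46 LD3_c28)) :=
  Lre_e IH (LK LD1_c0 LD2_c49 LD3_c56) (LK LD1_c1 LD2_c46 LD3_c28) Lrfl Lrfl
def v2479 : LQ := Led Lsl_gt (LP (LK LD1_c1 LD2_c46 LD3_c23))
theorem f522583 : Led Lsl_gt (LP (LK LD1_c1 LD2_c46 LD3_c23)) = v2479 :=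
  Lrfl
theorem f515302 : Led Lsl_ft (LP (LK LD1_c1 LD2_c46 LD3_c23)) = (LP (LK LD1_c1 LD2_c43 LD3_c45)) :=
  Lgr Lrot142 (Lpr_dt (K29.f4409 IH) (Lpr_ct (K29.f4419 IH) (Lpr_dt (K28.f467091 IH) (Lpr_ct (K29.f467978 IH) (Lpe (K33.f481628 IH) (Lpr_ct (K29.f481616 IH) (Lpr_dt (K28.f4413 IH) (Lpr_ct (K29.f4418 IH) (Lpr_af (K33.f515296 IH) (Lpn (LP (LK LD1_c1 LD2_c43 LD3_c45))))))))))))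
theorem f522585 : Led Lsl_gf (LP (LK LD1_c1 LD2_c46 LD3_c27)) = v2479 :=
  Lgr Lrot76 (Lpr_af (K33.f515296 IH) (Lpe (f515302 IH) (Lpr_gt (f522583 IH) (Lpn v2479))))
theorem f446465 : Led Lsl_et (LP (LK LD1_c3 LD2_c28 LD3_c9)) = (LP (LK LD1_c1 LD2_c40 LD3_c41)) :=
  Lre_e IH (LK LD1_c3 LD2_c28 LD3_c9) (LK LD1_c1 LD2_c40 LD3_c41) Lrfl Lrfl
theorem f522587 : Led Lsl_dt (LP (LK LD1_c3 LD2_c28 LD3_c9)) = v2479 :=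
  Lgr Lrot56 (Lpr_et (f446465 IH) (Lpqs (K28.f461955 IH) (Lpe (K28.f455827 IH) (Lpe (K24.f97318 IH) (Lpe (K3.f97306 IH) (Lpr_gt (K3.f384 IH) (Lpe (K0.f378 IH) (Lpr_et (K3.f4443 IH) (Lpr_gt (K3.f4445 IH) (Lpr_dt (K29.f4446 IH) (Lpr_gt (f522583 IH) (Lpn v2479))))))))))))
theorem f455467 : Led Lsl_ct (LP (LK LD1_c3 LD2_c28 LD3_c9)) = (LP (LK LD1_c6 LD2_c58 LD3_c30)) :=
  Lre_c IH (LK LD1_c3 LD2_c28 LD3_c9) (LK LD1_c6 LD2_c58 LD3_c30) Lrfl Lrfl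
theorem f482897 : Led Lsl_gt (LP (LK LD1_c1 LD2_c43 LD3_c45)) = (LP (LK LD1_c3 LD2_c28 LD3_c9)) :=
  Lgr Lrot150 (Lpe (K33.f92492 IH) (Lpe (K29.f92501 IH) (Lpe (K29.f482445 IH) (Lpr_gt (K29.f467086 IH) (Lpr_ct (K29.f467978 IH) (Lpr_gt (K29.f482891 IH) (Lpr_ct (K29.f462061 IH) (Lpe (K30.f462046 IH) (Lpe (f455467 IH) (Lpn (LP (LK LD1_c3 LD2_c28 LD3_c9))))))))))))
theorem f6640 : Led Lsl_dt (LP (LK LD1_c0 LD2_c48 LD3_c27)) = (LP (LK LD1_c1 LD2_c43 LD3_c44)) :=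
  Lre_d IH (LK LD1_c0 LD2_c48 LD3_c27) (LK LD1_c1 LD2_c43 LD3_c44) Lrfl Lrfl
def v2363 : LQ := Led Lsl_gf (LP (LK LD1_c1 LD2_c43 LD3_c44))
theorem f519282 : Led Lsl_gf (LP (LK LD1_c1 LD2_c43 LD3_c44)) = v2363 :=
  Lrfl
theorem f523552 : Led Lsl_df v2363 = v2497 :=
  Lgr Lrot170 (Lpe (f519282 IH) (Lpe (f6640 IH) (Lpr_et (K33.f92498 IH) (Lpr_gt (f482897 IH) (Lpr_dt (f522587 IH) (Lpe (f522585 IH) (Lpe (K28.f4411 IH) (Lpr_et (f442110 IH) (Lpr_gt (K30.f482962 IH) (Lpr_ef (f523550 IH) (Lpn v2497)))))))))))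
theorem f6641 : Led Lsl_ct (LP (LK LD1_c1 LD2_c43 LD3_c44)) = (LP (LK LD1_c3 LD2_c34 LD3_c9)) :=
  Lre_c IH (LK LD1_c1 LD2_c43 LD3_c44) (LK LD1_c3 LD2_c34 LD3_c9) Lrfl Lrfl
theorem f519285 : Led Lsl_gt (LP (LK LD1_c3 LD2_c34 LD3_c9)) = (LP (LK LD1_c7 LD2_c9 LD3_c27)) :=
  Lre_g IH (LK LD1_c3 LD2_c34 LD3_c9) (LK LD1_c7 LD2_c9 LD3_c27) Lrfl Lrfl
theorem f466581 : Led Lsl_dt (LP (LK LD1_c7 LD2_c3 LD3_c46)) = (LP (LK LD1_c3 LD2_c30 LD3_c54)) :=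
  Lre_d IH (LK LD1_c7 LD2_c3 LD3_c46) (LK LD1_c3 LD2_c30 LD3_c54) Lrfl Lrfl
theorem f523554 : Led Lsl_ct (LP (LK LD1_c7 LD2_c9 LD3_c27)) = (LP (LK LD1_c7 LD2_c3 LD3_c46)) :=
  Lgr Lrot110 (Lpe (f519285 IH) (Lpe (f6641 IH) (Lpr_gf (f519282 IH) (Lpr_df (f523552 IH) (Lpe (f523543 IH) (Lpr_ct (K33.f514783 IH) (Lpr_gt (f514836 IH) (Lpr_ct (f467262 IH) (Lpe (f466581 IH) (Lpn (LP (LK LD1_c7 LD2_c3 LD3_c46))))))))))))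
theorem f523555 : Led Lsl_ct (LP (LK LD1_c7 LD2_c9 LD3_c27)) = (LP (LK LD1_c7 LD2_c3 LD3_c46)) :=
  Leop (Lpe (f523554 IH) (Lpn (LP (LK LD1_c7 LD2_c9 LD3_c27))))
theorem seed_194 : LEOK LG_c (LK LD1_c7 LD2_c9 LD3_c27) :=
  Leoe_c (LK LD1_c7 LD2_c9 LD3_c27) (f523555 IH)
def v2517 : LQ := Led Lsl_et (LP (LK LD1_c1 LD2_c47 LD3_c18))
theorem f523725 : Led Lsl_et (LP (LK LD1_c1 LD2_c47 LD3_c18)) = v2517 :=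
  Lrfl
theorem f523727 : Led Lsl_ef (LP (LK LD1_c1 LD2_c47 LD3_c18)) = v2517 :=
  Lgr Lrot88 (Lpr_et (f523725 IH) (Lpn v2517))
theorem f4530 : Led Lsl_gt (LP (LK LD1_c1 LD2_c47 LD3_c18)) = (LP (LK LD1_c0 LD2_c50 LD3_c39)) :=
  Lre_g IH (LK LD1_c1 LD2_c47 LD3_c18) (LK LD1_c0 LD2_c50 LD3_c39) Lrfl Lrfl
theorem f145351 : Led Lsl_ef (LP (LK LD1_c1 LD2_c54 LD3_c4)) = (LP (LK LD1_c1 LD2_c53 LD3_c39)) :=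
  Lgr Lrot20 (Lpr_at (K29.f145349 IH) (Lpr_et (K6.f145347 IH) (Lpr_at (K33.f145350 IH) (Lpn (LP (LK LD1_c1 LD2_c53 LD3_c39))))))
theorem f437647 : Led Lsl_et (LP (LK LD1_c1 LD2_c54 LD3_c4)) = (LP (LK LD1_c1 LD2_c53 LD3_c39)) :=
  Lgr Lrot74 (Lpr_bf (K29.f145397 IH) (Lpr_ef (f145351 IH) (Lpe (K33.f145385 IH) (Lpn (LP (LK LD1_c1 LD2_c53 LD3_c39))))))
theorem f437644 : Led Lsl_dt (LP (LK LD1_c1 LD2_c54 LD3_c4)) = (LP (LK LD1_c3 LD2_c54 LD3_c57)) :=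
  Lre_d IH (LK LD1_c1 LD2_c54 LD3_c4) (LK LD1_c3 LD2_c54 LD3_c57) Lrfl Lrfl
theorem f437645 : Led Lsl_gt (LP (LK LD1_c3 LD2_c54 LD3_c57)) = (LP (LK LD1_c1 LD2_c54 LD3_c21)) :=
  Lre_g IH (LK LD1_c3 LD2_c54 LD3_c57) (LK LD1_c1 LD2_c54 LD3_c21) Lrfl Lrfl
theorem f523729 : Led Lsl_df (LP (LK LD1_c1 LD2_c54 LD3_c21)) = v2517 :=
  Lgr Lrot168 (Lpe (f437645 IH) (Lpe (f437644 IH) (Lpr_et (f437647 IH) (Lpe (K33.f123439 IH) (Lpe (K29.f148240 IH) (Lpr_dt (K29.f148241 IH) (Lpe (K29.f4531 IH) (Lpr_df (K29.f4501 IH) (Lpe (f4530 IH) (Lpr_ef (f523727 IH) (Lpn v2517)))))))))))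
theorem f477029 : Led Lsl_bt (LP (LK LD1_c1 LD2_c54 LD3_c21)) = (LP (LK LD1_c3 LD2_c55 LD3_c30)) :=
  Lre_b IH (LK LD1_c1 LD2_c54 LD3_c21) (LK LD1_c3 LD2_c55 LD3_c30) Lrfl Lrfl
theorem f85252 : Led Lsl_gt (LP (LK LD1_c0 LD2_c51 LD3_c38)) = (LP (LK LD1_c1 LD2_c49 LD3_c36)) :=
  Lre_g IH (LK LD1_c0 LD2_c51 LD3_c38) (LK LD1_c1 LD2_c49 LD3_c36) Lrfl Lrfl
theorem f483468 : Led Lsl_bf (LP (LK LD1_c1 LD2_c49 LD3_c36)) = (LP (LK LD1_c1 LD2_c47 LD3_c18)) :=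
  Lgr Lrot34 (Lpe (f85252 IH) (Lpe (K28.f85246 IH) (Lpr_ct (K29.f85264 IH) (Lpe (K29.f85277 IH) (Lpr_cf (K29.f483335 IH) (Lpr_gf (K29.f441015 IH) (Lpe (K29.f65526 IH) (Lpr_ct (K29.f483462 IH) (Lpe (K29.f4533 IH) (Lpe (K29.f4535 IH) (Lpn (LP (LK LD1_c1 LD2_c47 LD3_c18)))))))))))))
theorem f483490 : Led Lsl_et (LP (LK LD1_c1 LD2_c49 LD3_c36)) = (LP (LK LD1_c3 LD2_c45 LD3_c0)) :=
  Lre_e IH (LK LD1_c1 LD2_c49 LD3_c36) (LK LD1_c3 LD2_c45 LD3_c0) Lrfl Lrfl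
theorem f523728 : Led Lsl_bt (LP (LK LD1_c3 LD2_c45 LD3_c0)) = v2517 :=
  Lgr Lrot119 (Lpe (f483490 IH) (Lpr_bf (f483468 IH) (Lpr_ef (f523727 IH) (Lpn v2517))))
theorem f523730 : Led Lsl_dt (LP (LK LD1_c3 LD2_c55 LD3_c30)) = (LP (LK LD1_c3 LD2_c45 LD3_c0)) :=
  Lgr Lrot79 (Lpe (f477029 IH) (Lpr_df (f523729 IH) (Lpe (f523728 IH) (Lpn (LP (LK LD1_c3 LD2_c45 LD3_c0))))))
theorem f523731 : Led Lsl_dt (LP (LK LD1_c3 LD2_c55 LD3_c30)) = (LP (LK LD1_c3 LD2_c45 LD3_c0)) :=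
  Leop (Lpe (f523730 IH) (Lpn (LP (LK LD1_c3 LD2_c55 LD3_c30))))
theorem seed_195 : LEOK LG_d (LK LD1_c3 LD2_c55 LD3_c30) :=
  Leoe_d (LK LD1_c3 LD2_c55 LD3_c30) (f523731 IH)
def v2525 : LQ := Led Lsl_ft (LP (LK LD1_c1 LD2_c47 LD3_c46))
theorem f523779 : Led Lsl_ft (LP (LK LD1_c1 LD2_c47 LD3_c46)) = v2525 :=
  Lrfl
theorem f523782 : Led Lsl_ff (LP (LK LD1_c1 LD2_c47 LD3_c46)) = v2525 :=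
  Lgr Lrot3 (Lpr_ft (f523779 IH) (Lpn v2525))
def v773 : LQ := Led Lsl_ft (LP (LK LD1_c0 LD2_c50 LD3_c37))
theorem f457169 : Led Lsl_ft (LP (LK LD1_c0 LD2_c50 LD3_c37)) = v773 :=
  Lrfl
theorem f523784 : Led Lsl_bt v773 = v2525 :=
  Lgr Lrot35 (Lpe (f457169 IH) (Lpe (K28.f4857 IH) (Lpr_ff (f523782 IH) (Lpn v2525))))
theorem f457171 : Led Lsl_ff (LP (LK LD1_c0 LD2_c50 LD3_c37)) = v773 :=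
  Lgr Lrot3 (Lpr_ft (f457169 IH) (Lpn v773))
theorem f457167 : Led Lsl_ff (LP (LK LD1_c0 LD2_c50 LD3_c38)) = K29.v772 :=
  Lgr Lrot3 (Lpr_ft (K29.f457164 IH) (Lpn K29.v772))
theorem f457175 : Led Lsl_at (LP (LK LD1_c0 LD2_c50 LD3_c38)) = v773 :=
  Lgr Lrot66 (Lpr_ff (f457167 IH) (Lpe (K29.f457161 IH) (Lpr_ff (f457171 IH) (Lpn v773))))
def v2524 : LQ := Led Lsl_at (LP (LK LD1_c1 LD2_c47 LD3_c46))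
theorem f523775 : Led Lsl_at (LP (LK LD1_c1 LD2_c47 LD3_c46)) = v2524 :=
  Lrfl
theorem f523776 : Led Lsl_af (LP (LK LD1_c1 LD2_c47 LD3_c46)) = v2524 :=
  Lgr Lrot0 (Lpr_at (f523775 IH) (Lpn v2524))
theorem f523777 : Led Lsl_ft (LP (LK LD1_c3 LD2_c45 LD3_c1)) = v2524 :=
  Lgr Lrot2 (Lpr_gt (K28.f467372 IH) (Lpe (K28.f467381 IH) (Lpr_af (f523776 IH) (Lpn v2524))))
theorem f523780 : Led Lsl_af (LP (LK LD1_c3 LD2_c45 LD3_c1)) = v2525 :=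
  Lgr Lrot45 (Lpr_ft (f523777 IH) (Lpe (f523776 IH) (Lpr_ft (f523779 IH) (Lpn v2525))))
theorem f523785 : Led Lsl_af (LP (LK LD1_c1 LD2_c47 LD3_c50)) = (LP (LK LD1_c1 LD2_c49 LD3_c37)) :=
  Lgr Lrot36 (Lpr_bt (K29.f4890 IH) (Lpr_at (f457175 IH) (Lpr_bt (f523784 IH) (Lpe (f523780 IH) (Lpr_bt (K28.f85257 IH) (Lpn (LP (LK LD1_c1 LD2_c49 LD3_c37))))))))
theorem f523786 : Led Lsl_at (LP (LK LD1_c1 LD2_c49 LD3_c37)) = (LP (LK LD1_c1 LD2_c47 LD3_c50)) :=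
  Leop (Lpr_af (f523785 IH) (Lpn (LP (LK LD1_c1 LD2_c49 LD3_c37))))
theorem seed_196 : LEOK LG_a (LK LD1_c1 LD2_c49 LD3_c37) :=
  Leoe_a (LK LD1_c1 LD2_c49 LD3_c37) (f523786 IH)
def v2518 : LQ := Led Lsl_ft (LP (LK LD1_c1 LD2_c47 LD3_c18))
theorem f523738 : Led Lsl_ft (LP (LK LD1_c1 LD2_c47 LD3_c18)) = v2518 :=
  Lrfl
theorem f523740 : Led Lsl_ff (LP (LK LD1_c1 LD2_c47 LD3_c18)) = v2518 :=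
  Lgr Lrot3 (Lpr_ft (f523738 IH) (Lpn v2518))
theorem f457170 : Led Lsl_af (LP (LK LD1_c0 LD2_c50 LD3_c38)) = v773 :=
  Lgr Lrot45 (Lpr_ft (K29.f457164 IH) (Lpe (K29.f457162 IH) (Lpr_ft (f457169 IH) (Lpn v773))))
def v2515 : LQ := Led Lsl_at (LP (LK LD1_c1 LD2_c47 LD3_c18))
theorem f523715 : Led Lsl_at (LP (LK LD1_c1 LD2_c47 LD3_c18)) = v2515 :=
  Lrfl
theorem f523716 : Led Lsl_af (LP (LK LD1_c1 LD2_c47 LD3_c18)) = v2515 :=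
  Lgr Lrot0 (Lpr_at (f523715 IH) (Lpn v2515))
theorem f523717 : Led Lsl_ft (LP (LK LD1_c1 LD2_c47 LD3_c19)) = v2515 :=
  Lgr Lrot2 (Lpr_gt (K29.f4835 IH) (Lpr_gt (K29.f4836 IH) (Lpr_af (f523716 IH) (Lpn v2515))))
theorem f523718 : Led Lsl_ff (LP (LK LD1_c1 LD2_c47 LD3_c19)) = v2515 :=
  Lgr Lrot3 (Lpr_ft (f523717 IH) (Lpn v2515))
theorem f523741 : Led Lsl_at (LP (LK LD1_c1 LD2_c47 LD3_c19)) = v2518 :=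
  Lgr Lrot66 (Lpr_ff (f523718 IH) (Lpe (f523715 IH) (Lpr_ff (f523740 IH) (Lpn v2518))))
theorem f523781 : Led Lsl_bf v773 = v2525 :=
  Lgr Lrot61 (Lpe (f457171 IH) (Lpr_bt (K29.f456470 IH) (Lpr_ft (f523779 IH) (Lpn v2525))))
theorem f523795 : Led Lsl_ft (LP (LK LD1_c3 LD2_c44 LD3_c46)) = (LP (LK LD1_c1 LD2_c49 LD3_c37)) :=
  Lgr Lrot2 (Lpr_gt (K29.f85233 IH) (Lpe (K29.f483578 IH) (Lpr_af (f523785 IH) (Lpn (LP (LK LD1_c1 LD2_c49 LD3_c37))))))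
theorem f467376 : Led Lsl_bt (LP (LK LD1_c1 LD2_c49 LD3_c37)) = (LP (LK LD1_c3 LD2_c45 LD3_c1)) :=
  Lre_b IH (LK LD1_c1 LD2_c49 LD3_c37) (LK LD1_c3 LD2_c45 LD3_c1) Lrfl Lrfl
theorem f523816 : (LP (LK LD1_c3 LD2_c29 LD3_c34)) = v2524 :=
  (Llr Lrot61 (Lpr_bt (K29.f481456 IH) (Lpr_ft (f523795 IH) (Lpr_bt (f467376 IH) (Lpr_ft (f523777 IH) (Lpn v2524)))))).symm
theorem f483036 : Led Lsl_cf (LP (LK LD1_c3 LD2_c45 LD3_c1)) = (LP (LK LD1_c3 LD2_c38 LD3_c17)) :=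
  Lgr Lrot11 (Lpr_ct (K30.f483033 IH) (Lpn (LP (LK LD1_c3 LD2_c38 LD3_c17))))
def v2478 : LQ := Led Lsl_ft (LP (LK LD1_c1 LD2_c46 LD3_c17))
theorem f522577 : Led Lsl_ft (LP (LK LD1_c1 LD2_c46 LD3_c17)) = v2478 :=
  Lrfl
theorem f523823 : (LP (LK LD1_c3 LD2_c38 LD3_c17)) = v2478 :=
  (Llr Lrot108 (Lpe (f483036 IH) (Lpr_ft (f523777 IH) (Lpq (f523816 IH) (Lpr_ct (K29.f481449 IH) (Lpr_ft (f522577 IH) (Lpn v2478))))))).symm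
theorem f4271 : Led Lsl_dt (LP (LK LD1_c3 LD2_c38 LD3_c39)) = (LP (LK LD1_c1 LD2_c46 LD3_c17)) :=
  Lre_d IH (LK LD1_c3 LD2_c38 LD3_c39) (LK LD1_c1 LD2_c46 LD3_c17) Lrfl Lrfl
theorem f93138 : Led Lsl_dt (LP (LK LD1_c3 LD2_c38 LD3_c17)) = (LP (LK LD1_c7 LD2_c16 LD3_c57)) :=
  Lre_d IH (LK LD1_c3 LD2_c38 LD3_c17) (LK LD1_c7 LD2_c16 LD3_c57) Lrfl Lrfl
theorem f523830 : Led Lsl_ff (LP (LK LD1_c3 LD2_c38 LD3_c39)) = (LP (LK LD1_c7 LD2_c16 LD3_c57)) :=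
  Lgr Lrot19 (Lpr_dt (f4271 IH) (Lpr_ft (f522577 IH) (Lpq (f523823 IH) (Lpr_dt (f93138 IH) (Lpn (LP (LK LD1_c7 LD2_c16 LD3_c57)))))))
theorem f92552 : Led Lsl_ct (LP (LK LD1_c7 LD2_c8 LD3_c43)) = (LP (LK LD1_c13 LD2_c31 LD3_c59)) :=
  Lre_c IH (LK LD1_c7 LD2_c8 LD3_c43) (LK LD1_c13 LD2_c31 LD3_c59) Lrfl Lrfl
theorem f4099 : Led Lsl_ct (LP (LK LD1_c13 LD2_c46 LD3_c52)) = (LP (LK LD1_c7 LD2_c16 LD3_c59)) :=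
  Lre_c IH (LK LD1_c13 LD2_c46 LD3_c52) (LK LD1_c7 LD2_c16 LD3_c59) Lrfl Lrfl
theorem f4072 : Led Lsl_gt (LP (LK LD1_c7 LD2_c16 LD3_c59)) = (LP (LK LD1_c3 LD2_c38 LD3_c47)) :=
  Lre_g IH (LK LD1_c7 LD2_c16 LD3_c59) (LK LD1_c3 LD2_c38 LD3_c47) Lrfl Lrfl
theorem f4061 : Led Lsl_ft (LP (LK LD1_c3 LD2_c38 LD3_c47)) = (LP (LK LD1_c1 LD2_c46 LD3_c19)) :=
  Lre_f IH (LK LD1_c3 LD2_c38 LD3_c47) (LK LD1_c1 LD2_c46 LD3_c19) Lrfl Lrfl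
theorem f4062 : Led Lsl_at (LP (LK LD1_c1 LD2_c46 LD3_c19)) = (LP (LK LD1_c3 LD2_c38 LD3_c18)) :=
  Lre_a IH (LK LD1_c1 LD2_c46 LD3_c19) (LK LD1_c3 LD2_c38 LD3_c18) Lrfl Lrfl
theorem f92546 : Led Lsl_gf (LP (LK LD1_c3 LD2_c38 LD3_c18)) = (LP (LK LD1_c7 LD2_c8 LD3_c43)) :=
  Lgr Lrot76 (Lpe (f4062 IH) (Lpe (f4061 IH) (Lpr_gt (K28.f92544 IH) (Lpn (LP (LK LD1_c7 LD2_c8 LD3_c43))))))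
theorem f92553 : Led Lsl_ct (LP (LK LD1_c13 LD2_c31 LD3_c59)) = (LP (LK LD1_c7 LD2_c8 LD3_c43)) :=
  Lre_c IH (LK LD1_c13 LD2_c31 LD3_c59) (LK LD1_c7 LD2_c8 LD3_c43) Lrfl Lrfl
theorem f483223 : Led Lsl_gt (LP (LK LD1_c13 LD2_c49 LD3_c1)) = (LP (LK LD1_c13 LD2_c31 LD3_c59)) :=
  Lgr Lrot9 (Lpe (K29.f467082 IH) (Lpr_gt (K33.f483107 IH) (Lpr_ct (f4099 IH) (Lpr_gt (f4072 IH) (Lpr_ct (K2.f4052 IH) (Lpr_df (K2.f4067 IH) (Lpe (K2.f4066 IH) (Lpr_gf (f92546 IH) (Lpe (f92553 IH) (Lpn (LP (LK LD1_c13 LD2_c31 LD3_c59))))))))))))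
theorem f482656 : Led Lsl_gf (LP (LK LD1_c7 LD2_c13 LD3_c39)) = (LP (LK LD1_c3 LD2_c39 LD3_c1)) :=
  Lgr Lrot76 (Lpr_af (K29.f475109 IH) (Lpe (K29.f482625 IH) (Lpr_gt (K29.f482654 IH) (Lpn (LP (LK LD1_c3 LD2_c39 LD3_c1))))))
theorem f468006 : Led Lsl_ct (LP (LK LD1_c13 LD2_c49 LD3_c13)) = (LP (LK LD1_c7 LD2_c18 LD3_c12)) :=
  Lre_c IH (LK LD1_c13 LD2_c49 LD3_c13) (LK LD1_c7 LD2_c18 LD3_c12) Lrfl Lrfl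
theorem f483116 : Led Lsl_ft (LP (LK LD1_c13 LD2_c48 LD3_c1)) = (LP (LK LD1_c13 LD2_c49 LD3_c13)) :=
  Lgr Lrot4 (Lpr_cf (K33.f483109 IH) (Lpr_ff (K29.f481362 IH) (Lpe (f468006 IH) (Lpn (LP (LK LD1_c13 LD2_c49 LD3_c13))))))
theorem f482425 : Led Lsl_cf (LP (LK LD1_c7 LD2_c47 LD3_c56)) = (LP (LK LD1_c7 LD2_c9 LD3_c24)) :=
  Lgr Lrot166 (Lpe (K29.f476412 IH) (Lpr_dt (K29.f476414 IH) (Lpr_gt (K29.f440675 IH) (Lpe (K29.f440669 IH) (Lpr_ct (K29.f440673 IH) (Lpe (K30.f440661 IH) (Lpr_gf (K29.f482420 IH) (Lpe (K29.f93136 IH) (Lpe (K29.f92501 IH) (Lpn (LP (LK LD1_c7 LD2_c9 LD3_c24))))))))))))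
theorem f462161 : Led Lsl_gt (LP (LK LD1_c7 LD2_c17 LD3_c41)) = (LP (LK LD1_c13 LD2_c48 LD3_c0)) :=
  Lre_g IH (LK LD1_c7 LD2_c17 LD3_c41) (LK LD1_c13 LD2_c48 LD3_c0) Lrfl Lrfl
theorem f483125 : Led Lsl_af (LP (LK LD1_c13 LD2_c48 LD3_c0)) = (LP (LK LD1_c13 LD2_c49 LD3_c13)) :=
  Lgr Lrot31 (Lpe (f462161 IH) (Lpe (K33.f481454 IH) (Lpr_ft (f483116 IH) (Lpn (LP (LK LD1_c13 LD2_c49 LD3_c13))))))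
theorem f483127 : Led Lsl_ct (LP (LK LD1_c13 LD2_c40 LD3_c50)) = (LP (LK LD1_c13 LD2_c48 LD3_c0)) :=
  Lgr Lrot98 (Lpe (K29.f98535 IH) (Lpr_cf (K29.f475112 IH) (Lpe (K29.f473578 IH) (Lpr_cf (f482425 IH) (Lpe (K29.f482445 IH) (Lpe (K30.f467087 IH) (Lpe (K33.f483097 IH) (Lpr_ft (f483116 IH) (Lpe (f483125 IH) (Lpn (LP (LK LD1_c13 LD2_c48 LD3_c0))))))))))))
theorem f483140 : Led Lsl_ff (LP (LK LD1_c13 LD2_c49 LD3_c15)) = (LP (LK LD1_c13 LD2_c48 LD3_c0)) :=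
  Lgr Lrot23 (Lpr_ct (K30.f467087 IH) (Lpe (K29.f475134 IH) (Lpr_ct (f483127 IH) (Lpn (LP (LK LD1_c13 LD2_c48 LD3_c0))))))
theorem f483149 : Led Lsl_dt (LP (LK LD1_c13 LD2_c49 LD3_c13)) = (LP (LK LD1_c13 LD2_c48 LD3_c0)) :=
  Lgr Lrot60 (Lpe (f483116 IH) (Lpr_df (K33.f483099 IH) (Lpr_ff (f483140 IH) (Lpn (LP (LK LD1_c13 LD2_c48 LD3_c0))))))
theorem f483153 : Led Lsl_ft (LP (LK LD1_c13 LD2_c49 LD3_c15)) = (LP (LK LD1_c13 LD2_c48 LD3_c0)) :=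
  Lgr Lrot48 (Lpr_ff (f483140 IH) (Lpn (LP (LK LD1_c13 LD2_c48 LD3_c0))))
theorem f483129 : Led Lsl_af (LP (LK LD1_c13 LD2_c49 LD3_c13)) = (LP (LK LD1_c13 LD2_c48 LD3_c0)) :=
  Lgr Lrot68 (Lpr_ct (f468006 IH) (Lpe (K29.f475115 IH) (Lpr_ct (f483127 IH) (Lpn (LP (LK LD1_c13 LD2_c48 LD3_c0))))))
theorem f483158 : Led Lsl_gt (LP (LK LD1_c13 LD2_c46 LD3_c45)) = (LP (LK LD1_c13 LD2_c49 LD3_c13)) :=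
  Lgr Lrot46 (Lpr_gf (K33.f483086 IH) (Lpr_ft (f483153 IH) (Lpe (f483129 IH) (Lpn (LP (LK LD1_c13 LD2_c49 LD3_c13))))))
theorem f483227 : Led Lsl_df (LP (LK LD1_c13 LD2_c46 LD3_c45)) = (LP (LK LD1_c13 LD2_c31 LD3_c59)) :=
  Lgr Lrot153 (Lpr_gt (f483158 IH) (Lpr_dt (f483149 IH) (Lpe (f483127 IH) (Lpe (K29.f98535 IH) (Lpr_gf (f482656 IH) (Lpe (K28.f4413 IH) (Lpr_gf (K28.f4416 IH) (Lpe (K29.f4427 IH) (Lpr_gt (f483223 IH) (Lpn (LP (LK LD1_c13 LD2_c31 LD3_c59))))))))))))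
theorem f523840 : Led Lsl_at (LP (LK LD1_c3 LD2_c38 LD3_c39)) = (LP (LK LD1_c7 LD2_c16 LD3_c55)) :=
  Lgr Lrot33 (Lpr_ff (f523830 IH) (Lpr_dt (K30.f4159 IH) (Lpe (f483036 IH) (Lpr_dt (K28.f467368 IH) (Lpr_ct (K28.f92549 IH) (Lpr_dt (K28.f10669 IH) (Lpr_ct (f92552 IH) (Lpe (f483227 IH) (Lpr_ct (K33.f92562 IH) (Lpn (LP (LK LD1_c7 LD2_c16 LD3_c55))))))))))))
def v2477 : LQ := Led Lsl_at (LP (LK LD1_c1 LD2_c46 LD3_c17))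
theorem f522571 : Led Lsl_at (LP (LK LD1_c1 LD2_c46 LD3_c17)) = v2477 :=
  Lrfl
theorem f522572 : Led Lsl_af (LP (LK LD1_c1 LD2_c46 LD3_c17)) = v2477 :=
  Lgr Lrot0 (Lpr_at (f522571 IH) (Lpn v2477))
theorem f4097 : Led Lsl_dt (LP (LK LD1_c7 LD2_c16 LD3_c55)) = (LP (LK LD1_c3 LD2_c38 LD3_c16)) :=
  Lre_d IH (LK LD1_c7 LD2_c16 LD3_c55) (LK LD1_c3 LD2_c38 LD3_c16) Lrfl Lrfl
theorem f523849 : v2477 = (LP (LK LD1_c3 LD2_c38 LD3_c16)) :=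
  (Llr Lrot117 (Lpe (f522572 IH) (Lpr_dt (K29.f5344 IH) (Lpr_at (f523840 IH) (Lpr_dt (f4097 IH) (Lpn (LP (LK LD1_c3 LD2_c38 LD3_c16)))))))).symm
theorem f522575 : Led Lsl_ft (LP (LK LD1_c1 LD2_c46 LD3_c18)) = v2477 :=
  Lgr Lrot2 (Lpr_gt (K29.f4399 IH) (Lpr_gt (K29.f5343 IH) (Lpr_af (f522572 IH) (Lpn v2477))))
theorem f523858 : (LP (LK LD1_c3 LD2_c29 LD3_c35)) = v2525 :=
  (Llr Lrot108 (Lpr_ct (K29.f476430 IH) (Lpr_ft (f522575 IH) (Lpqs (f523849 IH) (Lpe (K28.f456474 IH) (Lpr_ft (f523779 IH) (Lpn v2525))))))).symm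
theorem f523863 : v773 = (LP (LK LD1_c1 LD2_c47 LD3_c19)) :=
  Lefun (Lecon (Lfl_bf (f523781 IH)) (f523858 IH).symm) (K29.f476426 IH)
theorem f523864 : (LP (LK LD1_c0 LD2_c50 LD3_c38)) = v2518 :=
  Lefun (Lecon (Lfl_af (f457170 IH)) (f523863 IH)) (f523741 IH)
def v2516 : LQ := Led Lsl_dt (LP (LK LD1_c1 LD2_c47 LD3_c18))
theorem f523719 : Led Lsl_dt (LP (LK LD1_c1 LD2_c47 LD3_c18)) = v2516 :=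
  Lrfl
theorem f523879 : Led Lsl_ff (LP (LK LD1_c1 LD2_c47 LD3_c52)) = v2516 :=
  Lgr Lrot19 (Lpr_dt (K29.f4861 IH) (Lpqs (f523864 IH) (Lpe (f523740 IH) (Lpr_dt (f523719 IH) (Lpn v2516)))))
theorem f129298 : Led Lsl_at (LP (LK LD1_c3 LD2_c42 LD3_c61)) = (LP (LK LD1_c3 LD2_c13 LD3_c46)) :=
  Lgr Lrot51 (Lpe (K5.f120810 IH) (Lpr_af (K5.f129295 IH) (Lpe (K5.f23699 IH) (Lpn (LP (LK LD1_c3 LD2_c13 LD3_c46))))))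
theorem f142265 : Led Lsl_at (LP (LK LD1_c1 LD2_c47 LD3_c38)) = (LP (LK LD1_c1 LD2_c49 LD3_c7)) :=
  Lgr Lrot107 (Lpr_cf (K4.f124048 IH) (Lpe (f129298 IH) (Lpr_cf (K6.f142248 IH) (Lpn (LP (LK LD1_c1 LD2_c49 LD3_c7))))))
theorem f124046 : Led Lsl_ff (LP (LK LD1_c1 LD2_c47 LD3_c38)) = (LP (LK LD1_c1 LD2_c49 LD3_c6)) :=
  Lgr Lrot19 (Lpr_dt (K4.f124035 IH) (Lpe (K7.f121223 IH) (Lpe (K4.f121023 IH) (Lpn (LP (LK LD1_c1 LD2_c49 LD3_c6))))))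
theorem f147679 : Led Lsl_gf (LP (LK LD1_c1 LD2_c47 LD3_c16)) = (LP (LK LD1_c1 LD2_c49 LD3_c6)) :=
  Lgr Lrot47 (Lpr_gt (K7.f147675 IH) (Lpe (f142265 IH) (Lpr_ff (f124046 IH) (Lpn (LP (LK LD1_c1 LD2_c49 LD3_c6))))))
theorem f147698 : Led Lsl_et (LP (LK LD1_c0 LD2_c50 LD3_c26)) = (LP (LK LD1_c1 LD2_c47 LD3_c17)) :=
  Lre_e IH (LK LD1_c0 LD2_c50 LD3_c26) (LK LD1_c1 LD2_c47 LD3_c17) Lrfl Lrfl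
theorem f451947 : Led Lsl_et (LP (LK LD1_c1 LD2_c55 LD3_c3)) = (LP (LK LD1_c0 LD2_c54 LD3_c12)) :=
  Lre_e IH (LK LD1_c1 LD2_c55 LD3_c3) (LK LD1_c0 LD2_c54 LD3_c12) Lrfl Lrfl
theorem f463697 : Led Lsl_gt (LP (LK LD1_c7 LD2_c18 LD3_c5)) = (LP (LK LD1_c3 LD2_c56 LD3_c43)) :=
  Lgr Lrot139 (Lpe (K33.f456434 IH) (Lpe (K33.f456431 IH) (Lpe (f147698 IH) (Lpr_dt (K7.f147669 IH) (Lpr_gf (f147679 IH) (Lpr_df (K4.f121023 IH) (Lpr_et (K5.f121027 IH) (Lpr_gf (K28.f463653 IH) (Lpe (f451947 IH) (Lpr_dt (K29.f462990 IH) (Lpn (LP (LK LD1_c3 LD2_c56 LD3_c43)))))))))))))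
theorem f451367 : Led Lsl_dt (LP (LK LD1_c3 LD2_c56 LD3_c43)) = (LP (LK LD1_c1 LD2_c55 LD3_c3)) :=
  Lre_d IH (LK LD1_c3 LD2_c56 LD3_c43) (LK LD1_c1 LD2_c55 LD3_c3) Lrfl Lrfl
theorem f523722 : Led Lsl_gf K29.v917 = v2516 :=
  Lgr Lrot143 (Lpe (K29.f490427 IH) (Lpe (K33.f451364 IH) (Lpe (f451367 IH) (Lpe (f463697 IH) (Lpe (K33.f456434 IH) (Lpe (K33.f456431 IH) (Lpe (K29.f4545 IH) (Lpr_gt (K29.f4836 IH) (Lpr_dt (f523719 IH) (Lpn v2516))))))))))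
theorem f523883 : Led Lsl_at (LP (LK LD1_c1 LD2_c47 LD3_c52)) = (LP (LK LD1_c1 LD2_c53 LD3_c53)) :=
  Lgr Lrot26 (Lpr_ff (f523879 IH) (Lpe (f523722 IH) (Lpe (K29.f490430 IH) (Lpn (LP (LK LD1_c1 LD2_c53 LD3_c53))))))
def v880 : LQ := Led Lsl_at (LP (LK LD1_c0 LD2_c53 LD3_c29))
theorem f490233 : Led Lsl_at (LP (LK LD1_c0 LD2_c53 LD3_c29)) = v880 :=
  Lrfl
theorem f523889 : (LP (LK LD1_c1 LD2_c53 LD3_c37)) = v880 :=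
  (Llr Lrot20 (Lpe (K29.f437927 IH) (Lpr_at (f523883 IH) (Lpr_et (K29.f148240 IH) (Lpr_at (f490233 IH) (Lpn v880)))))).symm
theorem f490234 : Led Lsl_af (LP (LK LD1_c0 LD2_c53 LD3_c29)) = v880 :=
  Lgr Lrot0 (Lpr_at (f490233 IH) (Lpn v880))
theorem f490235 : Led Lsl_ft (LP (LK LD1_c0 LD2_c53 LD3_c30)) = v880 :=
  Lgr Lrot2 (Lpr_gt (K29.f123407 IH) (Lpr_gt (K29.f123410 IH) (Lpr_af (f490234 IH) (Lpn v880))))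
theorem f131681 : Led Lsl_et (LP (LK LD1_c1 LD2_c53 LD3_c57)) = (LP (LK LD1_c0 LD2_c53 LD3_c30)) :=
  Lre_e IH (LK LD1_c1 LD2_c53 LD3_c57) (LK LD1_c0 LD2_c53 LD3_c30) Lrfl Lrfl
theorem f490236 : Led Lsl_ft (LP (LK LD1_c3 LD2_c54 LD3_c44)) = (LP (LK LD1_c1 LD2_c53 LD3_c57)) :=
  Lre_f IH (LK LD1_c3 LD2_c54 LD3_c44) (LK LD1_c1 LD2_c53 LD3_c57) Lrfl Lrfl
theorem f523882 : Led Lsl_ft (LP (LK LD1_c1 LD2_c47 LD3_c52)) = v2516 :=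
  Lgr Lrot48 (Lpr_ff (f523879 IH) (Lpn v2516))
theorem f523898 : Led Lsl_ef (LP (LK LD1_c3 LD2_c54 LD3_c44)) = v2516 :=
  Lgr Lrot21 (Lpr_ft (f490236 IH) (Lpr_et (f131681 IH) (Lpr_ft (f490235 IH) (Lpq (f523889 IH) (Lpe (K29.f437927 IH) (Lpr_ft (f523882 IH) (Lpn v2516)))))))
theorem f523733 : Led Lsl_dt (LP (LK LD1_c1 LD2_c54 LD3_c21)) = v2517 :=
  Lgr Lrot42 (Lpr_df (f523729 IH) (Lpn v2517))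
theorem f84805 : Led Lsl_et (LP (LK LD1_c3 LD2_c55 LD3_c32)) = (LP (LK LD1_c1 LD2_c54 LD3_c21)) :=
  Lre_e IH (LK LD1_c3 LD2_c55 LD3_c32) (LK LD1_c1 LD2_c54 LD3_c21) Lrfl Lrfl
theorem f523900 : Led Lsl_dt (LP (LK LD1_c3 LD2_c54 LD3_c44)) = (LP (LK LD1_c3 LD2_c55 LD3_c32)) :=
  Lgr Lrot77 (Lpr_ef (f523898 IH) (Lpe (f523719 IH) (Lpr_ef (f523727 IH) (Lpe (f523733 IH) (Lpe (f84805 IH) (Lpn (LP (LK LD1_c3 LD2_c55 LD3_c32))))))))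
theorem f523901 : Led Lsl_dt (LP (LK LD1_c3 LD2_c54 LD3_c44)) = (LP (LK LD1_c3 LD2_c55 LD3_c32)) :=
  Leop (Lpe (f523900 IH) (Lpn (LP (LK LD1_c3 LD2_c54 LD3_c44))))
theorem seed_197 : LEOK LG_d (LK LD1_c3 LD2_c54 LD3_c44) :=
  Leoe_d (LK LD1_c3 LD2_c54 LD3_c44) (f523901 IH)
theorem f523902 : Led Lsl_et (LP (LK LD1_c3 LD2_c54 LD3_c44)) = v2516 :=
  Lgr Lrot87 (Lpr_ef (f523898 IH) (Lpn v2516))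
theorem f523721 : Led Lsl_df (LP (LK LD1_c1 LD2_c47 LD3_c18)) = v2516 :=
  Lgr Lrot38 (Lpr_dt (f523719 IH) (Lpn v2516))
theorem f131677 : Led Lsl_et (LP (LK LD1_c0 LD2_c23 LD3_c10)) = (LP (LK LD1_c0 LD2_c10 LD3_c24)) :=
  Lre_e IH (LK LD1_c0 LD2_c23 LD3_c10) (LK LD1_c0 LD2_c10 LD3_c24) Lrfl Lrfl
theorem f148270 : Led Lsl_at (LP (LK LD1_c0 LD2_c10 LD3_c18)) = (LP (LK LD1_c0 LD2_c22 LD3_c48)) :=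
  Lre_a IH (LK LD1_c0 LD2_c10 LD3_c18) (LK LD1_c0 LD2_c22 LD3_c48) Lrfl Lrfl
theorem f148284 : Led Lsl_ft (LP (LK LD1_c0 LD2_c10 LD3_c24)) = (LP (LK LD1_c0 LD2_c10 LD3_c18)) :=
  Lgr Lrot2 (Lpr_gt (K3.f12761 IH) (Lpr_gt (K7.f148282 IH) (Lpe (f148270 IH) (Lpn (LP (LK LD1_c0 LD2_c10 LD3_c18))))))
theorem f4514 : Led Lsl_ft (LP (LK LD1_c0 LD2_c22 LD3_c52)) = (LP (LK LD1_c0 LD2_c50 LD3_c39)) :=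
  Lre_f IH (LK LD1_c0 LD2_c22 LD3_c52) (LK LD1_c0 LD2_c50 LD3_c39) Lrfl Lrfl
theorem f451037 : Led Lsl_et (LP (LK LD1_c0 LD2_c50 LD3_c39)) = K33.v198 :=
  Lgr Lrot69 (Lpe (f4514 IH) (Lpe (K29.f4879 IH) (Lpe (f148284 IH) (Lpe (f131677 IH) (Lpr_ff (K33.f451035 IH) (Lpn K33.v198))))))
theorem f11368 : Led Lsl_et (LP (LK LD1_c0 LD2_c54 LD3_c11)) = (LP (LK LD1_c1 LD2_c54 LD3_c61)) :=
  Lre_e IH (LK LD1_c0 LD2_c54 LD3_c11) (LK LD1_c1 LD2_c54 LD3_c61) Lrfl Lrfl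
theorem f523724 : Led Lsl_gt (LP (LK LD1_c1 LD2_c54 LD3_c61)) = v2516 :=
  Lgr Lrot137 (Lpe (f11368 IH) (Lpr_dt (K28.f11331 IH) (Lpr_gf (K28.f451964 IH) (Lpr_df (K29.f479638 IH) (Lpe (K33.f479648 IH) (Lpe (K33.f459427 IH) (Lpe (f451037 IH) (Lpe (K29.f4501 IH) (Lpe (f4530 IH) (Lpr_df (f523721 IH) (Lpn v2516)))))))))))
theorem f458252 : Led Lsl_ef (LP (LK LD1_c1 LD2_c42 LD3_c27)) = (LP (LK LD1_c1 LD2_c42 LD3_c20)) :=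
  Lgr Lrot28 (Lpr_ct (K24.f455705 IH) (Lpr_et (K24.f458242 IH) (Lpr_ct (K28.f455646 IH) (Lpn (LP (LK LD1_c1 LD2_c42 LD3_c20))))))
theorem f523906 : Led Lsl_gt (LP (LK LD1_c3 LD2_c55 LD3_c32)) = (LP (LK LD1_c3 LD2_c31 LD3_c35)) :=
  Lgr Lrot112 (Lpe (f523900 IH) (Lpr_et (f523902 IH) (Lpe (f523724 IH) (Lpe (f11368 IH) (Lpr_dt (K28.f11331 IH) (Lpr_gf (K28.f451964 IH) (Lpr_df (K29.f479638 IH) (Lpe (K29.f455753 IH) (Lpr_ef (f458252 IH) (Lpr_dt (K29.f458291 IH) (Lpn (LP (LK LD1_c3 LD2_c31 LD3_c35)))))))))))))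
theorem f523907 : Led Lsl_gt (LP (LK LD1_c3 LD2_c55 LD3_c32)) = (LP (LK LD1_c3 LD2_c31 LD3_c35)) :=
  Leop (Lpe (f523906 IH) (Lpn (LP (LK LD1_c3 LD2_c55 LD3_c32))))
theorem seed_198 : LEOK LG_g (LK LD1_c3 LD2_c55 LD3_c32) :=
  Leoe_g (LK LD1_c3 LD2_c55 LD3_c32) (f523907 IH)
theorem f523896 : Led Lsl_ff (LP (LK LD1_c1 LD2_c53 LD3_c55)) = (LP (LK LD1_c3 LD2_c53 LD3_c60)) :=
  Lgr Lrot23 (Lpr_ct (K29.f123393 IH) (Lpr_ft (f490235 IH) (Lpq (f523889 IH) (Lpr_ct (K29.f437668 IH) (Lpn (LP (LK LD1_c3 LD2_c53 LD3_c60)))))))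
theorem f523918 : Led Lsl_at (LP (LK LD1_c1 LD2_c53 LD3_c55)) = (LP (LK LD1_c3 LD2_c53 LD3_c61)) :=
  Lgr Lrot26 (Lpr_ff (f523896 IH) (Lpe (K33.f484538 IH) (Lpr_gt (K29.f481707 IH) (Lpn (LP (LK LD1_c3 LD2_c53 LD3_c61))))))
def v881 : LQ := Led Lsl_ft (LP (LK LD1_c0 LD2_c53 LD3_c29))
theorem f490239 : Led Lsl_ft (LP (LK LD1_c0 LD2_c53 LD3_c29)) = v881 :=
  Lrfl
theorem f490240 : Led Lsl_af (LP (LK LD1_c0 LD2_c53 LD3_c30)) = v881 :=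
  Lgr Lrot45 (Lpr_ft (f490235 IH) (Lpe (f490234 IH) (Lpr_ft (f490239 IH) (Lpn v881))))
theorem f523928 : v881 = (LP (LK LD1_c1 LD2_c53 LD3_c38)) :=
  (Llr Lrot68 (Lpe (f490240 IH) (Lpr_ct (K33.f437662 IH) (Lpr_at (f523918 IH) (Lpr_ct (K29.f122820 IH) (Lpn (LP (LK LD1_c1 LD2_c53 LD3_c38)))))))).symm
theorem f148250 : Led Lsl_dt (LP (LK LD1_c1 LD2_c53 LD3_c52)) = (LP (LK LD1_c0 LD2_c53 LD3_c29)) :=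
  Lre_d IH (LK LD1_c1 LD2_c53 LD3_c52) (LK LD1_c0 LD2_c53 LD3_c29) Lrfl Lrfl
theorem f123360 : Led Lsl_dt (LP (LK LD1_c1 LD2_c53 LD3_c38)) = (LP (LK LD1_c3 LD2_c54 LD3_c0)) :=
  Lre_d IH (LK LD1_c1 LD2_c53 LD3_c38) (LK LD1_c3 LD2_c54 LD3_c0) Lrfl Lrfl
theorem f523937 : Led Lsl_ff (LP (LK LD1_c1 LD2_c53 LD3_c52)) = (LP (LK LD1_c3 LD2_c54 LD3_c0)) :=
  Lgr Lrot19 (Lpr_dt (f148250 IH) (Lpr_ft (f490239 IH) (Lpqs (f523928 IH) (Lpr_dt (f123360 IH) (Lpn (LP (LK LD1_c3 LD2_c54 LD3_c0)))))))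
theorem f523943 : Led Lsl_ft (LP (LK LD1_c1 LD2_c53 LD3_c52)) = (LP (LK LD1_c3 LD2_c54 LD3_c0)) :=
  Lgr Lrot48 (Lpr_ff (f523937 IH) (Lpn (LP (LK LD1_c3 LD2_c54 LD3_c0))))
theorem f490067 : Led Lsl_bt (LP (LK LD1_c3 LD2_c54 LD3_c29)) = (LP (LK LD1_c1 LD2_c53 LD3_c52)) :=
  Lre_b IH (LK LD1_c3 LD2_c54 LD3_c29) (LK LD1_c1 LD2_c53 LD3_c52) Lrfl Lrfl
theorem f456032 : Led Lsl_dt (LP (LK LD1_c7 LD2_c8 LD3_c49)) = (LP (LK LD1_c3 LD2_c33 LD3_c54)) :=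
  Lre_d IH (LK LD1_c7 LD2_c8 LD3_c49) (LK LD1_c3 LD2_c33 LD3_c54) Lrfl Lrfl
theorem f456033 : Led Lsl_bt (LP (LK LD1_c3 LD2_c54 LD3_c0)) = (LP (LK LD1_c7 LD2_c8 LD3_c49)) :=
  Lgr Lrot95 (Lpe (f123360 IH) (Lpr_bf (K24.f456011 IH) (Lpe (f456032 IH) (Lpn (LP (LK LD1_c7 LD2_c8 LD3_c49))))))
theorem f523945 : Led Lsl_ff (LP (LK LD1_c3 LD2_c54 LD3_c29)) = (LP (LK LD1_c7 LD2_c8 LD3_c49)) :=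
  Lgr Lrot25 (Lpr_bt (f490067 IH) (Lpr_ft (f523943 IH) (Lpr_bt (f456033 IH) (Lpn (LP (LK LD1_c7 LD2_c8 LD3_c49))))))
theorem f456070 : Led Lsl_dt (LP (LK LD1_c3 LD2_c54 LD3_c29)) = (LP (LK LD1_c1 LD2_c53 LD3_c50)) :=
  Lre_d IH (LK LD1_c3 LD2_c54 LD3_c29) (LK LD1_c1 LD2_c53 LD3_c50) Lrfl Lrfl
theorem f456613 : Led Lsl_dt (LP (LK LD1_c3 LD2_c33 LD3_c54)) = (LP (LK LD1_c7 LD2_c8 LD3_c49)) :=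
  Lre_d IH (LK LD1_c3 LD2_c33 LD3_c54) (LK LD1_c7 LD2_c8 LD3_c49) Lrfl Lrfl
theorem f524008 : Led Lsl_ft (LP (LK LD1_c1 LD2_c53 LD3_c50)) = (LP (LK LD1_c3 LD2_c33 LD3_c54)) :=
  Lgr Lrot54 (Lpe (f456070 IH) (Lpr_ff (f523945 IH) (Lpe (f456613 IH) (Lpn (LP (LK LD1_c3 LD2_c33 LD3_c54))))))
theorem f456068 : Led Lsl_ct (LP (LK LD1_c3 LD2_c32 LD3_c49)) = (LP (LK LD1_c1 LD2_c53 LD3_c50)) :=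
  Lgr Lrot59 (Lpr_cf (K29.f456061 IH) (Lpn (LP (LK LD1_c1 LD2_c53 LD3_c50))))
def v2360 : LQ := Led Lsl_at (LP (LK LD1_c1 LD2_c43 LD3_c38))
theorem f514967 : Led Lsl_at (LP (LK LD1_c1 LD2_c43 LD3_c38)) = v2360 :=
  Lrfl
theorem f514968 : Led Lsl_af (LP (LK LD1_c1 LD2_c43 LD3_c38)) = v2360 :=
  Lgr Lrot0 (Lpr_at (f514967 IH) (Lpn v2360))
theorem f514970 : Led Lsl_ft (LP (LK LD1_c1 LD2_c43 LD3_c39)) = v2360 :=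
  Lgr Lrot2 (Lpr_gt (K24.f6071 IH) (Lpr_gt (K24.f6657 IH) (Lpr_af (f514968 IH) (Lpn v2360))))
theorem f524010 : (LP (LK LD1_c3 LD2_c32 LD3_c49)) = v2360 :=
  (Llr Lrot108 (Lpr_ct (f456068 IH) (Lpr_ft (f524008 IH) (Lpr_ct (K24.f10836 IH) (Lpr_ft (f514970 IH) (Lpn v2360)))))).symm
theorem f456039 : Led Lsl_dt (LP (LK LD1_c3 LD2_c33 LD3_c55)) = (LP (LK LD1_c1 LD2_c43 LD3_c39)) :=
  Lre_d IH (LK LD1_c3 LD2_c33 LD3_c55) (LK LD1_c1 LD2_c43 LD3_c39) Lrfl Lrfl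
theorem f10603 : Led Lsl_dt (LP (LK LD1_c3 LD2_c32 LD3_c49)) = (LP (LK LD1_c7 LD2_c6 LD3_c35)) :=
  Lre_d IH (LK LD1_c3 LD2_c32 LD3_c49) (LK LD1_c7 LD2_c6 LD3_c35) Lrfl Lrfl
theorem f524017 : Led Lsl_ff (LP (LK LD1_c3 LD2_c33 LD3_c55)) = (LP (LK LD1_c7 LD2_c6 LD3_c35)) :=
  Lgr Lrot19 (Lpr_dt (f456039 IH) (Lpr_ft (f514970 IH) (Lpq (f524010 IH) (Lpr_dt (f10603 IH) (Lpn (LP (LK LD1_c7 LD2_c6 LD3_c35)))))))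
theorem f524028 : Led Lsl_ft (LP (LK LD1_c3 LD2_c33 LD3_c55)) = (LP (LK LD1_c7 LD2_c6 LD3_c35)) :=
  Lgr Lrot48 (Lpr_ff (f524017 IH) (Lpn (LP (LK LD1_c7 LD2_c6 LD3_c35))))
theorem f524030 : Led Lsl_bt (LP (LK LD1_c7 LD2_c8 LD3_c47)) = (LP (LK LD1_c3 LD2_c33 LD3_c55)) :=
  Lre_b IH (LK LD1_c7 LD2_c8 LD3_c47) (LK LD1_c3 LD2_c33 LD3_c55) Lrfl Lrfl
theorem f518849 : Led Lsl_bt (LP (LK LD1_c7 LD2_c6 LD3_c35)) = (LP (LK LD1_c13 LD2_c28 LD3_c15)) :=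
  Lre_b IH (LK LD1_c7 LD2_c6 LD3_c35) (LK LD1_c13 LD2_c28 LD3_c15) Lrfl Lrfl
theorem f524031 : Led Lsl_ff (LP (LK LD1_c7 LD2_c8 LD3_c47)) = (LP (LK LD1_c13 LD2_c28 LD3_c15)) :=
  Lgr Lrot25 (Lpr_bt (f524030 IH) (Lpr_ft (f524028 IH) (Lpr_bt (f518849 IH) (Lpn (LP (LK LD1_c13 LD2_c28 LD3_c15))))))
theorem f456597 : Led Lsl_dt (LP (LK LD1_c7 LD2_c8 LD3_c47)) = (LP (LK LD1_c3 LD2_c33 LD3_c53)) :=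
  Lre_d IH (LK LD1_c7 LD2_c8 LD3_c47) (LK LD1_c3 LD2_c33 LD3_c53) Lrfl Lrfl
theorem f456117 : Led Lsl_dt (LP (LK LD1_c7 LD2_c6 LD3_c34)) = (LP (LK LD1_c13 LD2_c28 LD3_c15)) :=
  Lre_d IH (LK LD1_c7 LD2_c6 LD3_c34) (LK LD1_c13 LD2_c28 LD3_c15) Lrfl Lrfl
theorem f524053 : Led Lsl_ft (LP (LK LD1_c3 LD2_c33 LD3_c53)) = (LP (LK LD1_c7 LD2_c6 LD3_c34)) :=
  Lgr Lrot54 (Lpe (f456597 IH) (Lpr_ff (f524031 IH) (Lpe (f456117 IH) (Lpn (LP (LK LD1_c7 LD2_c6 LD3_c34))))))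
theorem f456063 : Led Lsl_bt (LP (LK LD1_c3 LD2_c32 LD3_c49)) = (LP (LK LD1_c7 LD2_c6 LD3_c34)) :=
  Lre_b IH (LK LD1_c3 LD2_c32 LD3_c49) (LK LD1_c7 LD2_c6 LD3_c34) Lrfl Lrfl
theorem f456064 : Led Lsl_bt (LP (LK LD1_c0 LD2_c53 LD3_c29)) = (LP (LK LD1_c1 LD2_c53 LD3_c50)) :=
  Lre_b IH (LK LD1_c0 LD2_c53 LD3_c29) (LK LD1_c1 LD2_c53 LD3_c50) Lrfl Lrfl
theorem f456065 : Led Lsl_bt (LP (LK LD1_c3 LD2_c54 LD3_c31)) = (LP (LK LD1_c1 LD2_c53 LD3_c51)) :=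
  Lre_b IH (LK LD1_c3 LD2_c54 LD3_c31) (LK LD1_c1 LD2_c53 LD3_c51) Lrfl Lrfl
theorem f456066 : Led Lsl_ct (LP (LK LD1_c7 LD2_c6 LD3_c34)) = (LP (LK LD1_c3 LD2_c54 LD3_c31)) :=
  Lgr Lrot83 (Lpe (f456063 IH) (Lpr_cf (K29.f456061 IH) (Lpe (f456064 IH) (Lpe (K33.f123424 IH) (Lpe (f456065 IH) (Lpn (LP (LK LD1_c3 LD2_c54 LD3_c31))))))))
theorem f524056 : Led Lsl_ff (LP (LK LD1_c7 LD2_c8 LD3_c46)) = (LP (LK LD1_c3 LD2_c54 LD3_c31)) :=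
  Lgr Lrot23 (Lpr_ct (K33.f456029 IH) (Lpr_ft (f524053 IH) (Lpr_ct (f456066 IH) (Lpn (LP (LK LD1_c3 LD2_c54 LD3_c31))))))
theorem f524063 : Led Lsl_ft (LP (LK LD1_c7 LD2_c8 LD3_c46)) = (LP (LK LD1_c3 LD2_c54 LD3_c31)) :=
  Lgr Lrot48 (Lpr_ff (f524056 IH) (Lpn (LP (LK LD1_c3 LD2_c54 LD3_c31))))
theorem f456594 : Led Lsl_dt (LP (LK LD1_c13 LD2_c32 LD3_c2)) = (LP (LK LD1_c7 LD2_c8 LD3_c46)) :=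
  Lre_d IH (LK LD1_c13 LD2_c32 LD3_c2) (LK LD1_c7 LD2_c8 LD3_c46) Lrfl Lrfl
theorem f456126 : Led Lsl_dt (LP (LK LD1_c3 LD2_c54 LD3_c31)) = (LP (LK LD1_c7 LD2_c50 LD3_c44)) :=
  Lre_d IH (LK LD1_c3 LD2_c54 LD3_c31) (LK LD1_c7 LD2_c50 LD3_c44) Lrfl Lrfl
theorem f524076 : Led Lsl_ff (LP (LK LD1_c13 LD2_c32 LD3_c2)) = (LP (LK LD1_c7 LD2_c50 LD3_c44)) :=
  Lgr Lrot19 (Lpr_dt (f456594 IH) (Lpr_ft (f524063 IH) (Lpr_dt (f456126 IH) (Lpn (LP (LK LD1_c7 LD2_c50 LD3_c44))))))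
theorem f455996 : Led Lsl_dt (LP (LK LD1_c3 LD2_c53 LD3_c61)) = (LP (LK LD1_c7 LD2_c49 LD3_c38)) :=
  Lre_d IH (LK LD1_c3 LD2_c53 LD3_c61) (LK LD1_c7 LD2_c49 LD3_c38) Lrfl Lrfl
theorem f456595 : Led Lsl_bt (LP (LK LD1_c7 LD2_c49 LD3_c38)) = (LP (LK LD1_c13 LD2_c32 LD3_c2)) :=
  Lgr Lrot95 (Lpe (f455996 IH) (Lpr_bf (K33.f456589 IH) (Lpe (f456594 IH) (Lpn (LP (LK LD1_c13 LD2_c32 LD3_c2))))))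
theorem f456600 : Led Lsl_bf (LP (LK LD1_c7 LD2_c49 LD3_c38)) = (LP (LK LD1_c13 LD2_c32 LD3_c2)) :=
  Lgr Lrot24 (Lpr_bt (f456595 IH) (Lpn (LP (LK LD1_c13 LD2_c32 LD3_c2))))
theorem f524078 : Led Lsl_bt (LP (LK LD1_c3 LD2_c54 LD3_c32)) = (LP (LK LD1_c7 LD2_c50 LD3_c44)) :=
  Lre_b IH (LK LD1_c3 LD2_c54 LD3_c32) (LK LD1_c7 LD2_c50 LD3_c44) Lrfl Lrfl
theorem f524079 : Led Lsl_ft (LP (LK LD1_c7 LD2_c49 LD3_c38)) = (LP (LK LD1_c3 LD2_c54 LD3_c32)) :=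
  Lgr Lrot75 (Lpr_bf (f456600 IH) (Lpr_ff (f524076 IH) (Lpe (f524078 IH) (Lpn (LP (LK LD1_c3 LD2_c54 LD3_c32))))))
theorem f524083 : Led Lsl_ff (LP (LK LD1_c7 LD2_c49 LD3_c38)) = (LP (LK LD1_c3 LD2_c54 LD3_c32)) :=
  Lgr Lrot3 (Lpr_ft (f524079 IH) (Lpn (LP (LK LD1_c3 LD2_c54 LD3_c32))))
theorem f488030 : Led Lsl_dt (LP (LK LD1_c3 LD2_c54 LD3_c40)) = (LP (LK LD1_c1 LD2_c53 LD3_c55)) :=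
  Lre_d IH (LK LD1_c3 LD2_c54 LD3_c40) (LK LD1_c1 LD2_c53 LD3_c55) Lrfl Lrfl
theorem f523924 : Led Lsl_af (LP (LK LD1_c3 LD2_c54 LD3_c40)) = (LP (LK LD1_c7 LD2_c49 LD3_c38)) :=
  Lgr Lrot117 (Lpr_dt (f488030 IH) (Lpr_at (f523918 IH) (Lpr_dt (f455996 IH) (Lpn (LP (LK LD1_c7 LD2_c49 LD3_c38))))))
theorem f488022 : Led Lsl_dt (LP (LK LD1_c1 LD2_c53 LD3_c55)) = (LP (LK LD1_c3 LD2_c54 LD3_c40)) :=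
  Lre_d IH (LK LD1_c1 LD2_c53 LD3_c55) (LK LD1_c3 LD2_c54 LD3_c40) Lrfl Lrfl
theorem f437944 : Led Lsl_dt (LP (LK LD1_c7 LD2_c49 LD3_c37)) = (LP (LK LD1_c3 LD2_c53 LD3_c60)) :=
  Lre_d IH (LK LD1_c7 LD2_c49 LD3_c37) (LK LD1_c3 LD2_c53 LD3_c60) Lrfl Lrfl
theorem f523912 : Led Lsl_ft (LP (LK LD1_c3 LD2_c54 LD3_c40)) = (LP (LK LD1_c7 LD2_c49 LD3_c37)) :=
  Lgr Lrot54 (Lpe (f488022 IH) (Lpr_ff (f523896 IH) (Lpe (f437944 IH) (Lpn (LP (LK LD1_c7 LD2_c49 LD3_c37))))))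
theorem f524085 : Led Lsl_at (LP (LK LD1_c7 LD2_c49 LD3_c37)) = (LP (LK LD1_c3 LD2_c54 LD3_c32)) :=
  Lgr Lrot66 (Lpe (f523912 IH) (Lpr_af (f523924 IH) (Lpr_ff (f524083 IH) (Lpn (LP (LK LD1_c3 LD2_c54 LD3_c32))))))
theorem f437942 : Led Lsl_et (LP (LK LD1_c14 LD2_c46 LD3_c0)) = (LP (LK LD1_c7 LD2_c49 LD3_c37)) :=
  Lre_e IH (LK LD1_c14 LD2_c46 LD3_c0) (LK LD1_c7 LD2_c49 LD3_c37) Lrfl Lrfl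
theorem f485163 : Led Lsl_et (LP (LK LD1_c3 LD2_c54 LD3_c32)) = (LP (LK LD1_c7 LD2_c50 LD3_c49)) :=
  Lre_e IH (LK LD1_c3 LD2_c54 LD3_c32) (LK LD1_c7 LD2_c50 LD3_c49) Lrfl Lrfl
theorem f524121 : Led Lsl_af (LP (LK LD1_c14 LD2_c46 LD3_c0)) = (LP (LK LD1_c7 LD2_c50 LD3_c49)) :=
  Lgr Lrot50 (Lpr_et (f437942 IH) (Lpr_at (f524085 IH) (Lpr_et (f485163 IH) (Lpn (LP (LK LD1_c7 LD2_c50 LD3_c49))))))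
theorem f4878 : Led Lsl_et (LP (LK LD1_c14 LD2_c1 LD3_c8)) = (LP (LK LD1_c7 LD2_c24 LD3_c42)) :=
  Lre_e IH (LK LD1_c14 LD2_c1 LD3_c8) (LK LD1_c7 LD2_c24 LD3_c42) Lrfl Lrfl
theorem f437935 : Led Lsl_dt (LP (LK LD1_c3 LD2_c53 LD3_c60)) = (LP (LK LD1_c7 LD2_c49 LD3_c37)) :=
  Lre_d IH (LK LD1_c3 LD2_c53 LD3_c60) (LK LD1_c7 LD2_c49 LD3_c37) Lrfl Lrfl
theorem f437936 : Led Lsl_et (LP (LK LD1_c7 LD2_c49 LD3_c37)) = (LP (LK LD1_c14 LD2_c46 LD3_c0)) :=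
  Lre_e IH (LK LD1_c7 LD2_c49 LD3_c37) (LK LD1_c14 LD2_c46 LD3_c0) Lrfl Lrfl
theorem f437937 : Led Lsl_df (LP (LK LD1_c14 LD2_c1 LD3_c8)) = (LP (LK LD1_c14 LD2_c46 LD3_c0)) :=
  Lgr Lrot70 (Lpr_et (f4878 IH) (Lpr_dt (K29.f4851 IH) (Lpr_et (K29.f437929 IH) (Lpr_dt (f437935 IH) (Lpr_et (f437936 IH) (Lpn (LP (LK LD1_c14 LD2_c46 LD3_c0))))))))
theorem f148269 : Led Lsl_dt (LP (LK LD1_c14 LD2_c48 LD3_c13)) = (LP (LK LD1_c7 LD2_c50 LD3_c49)) :=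
  Lre_d IH (LK LD1_c14 LD2_c48 LD3_c13) (LK LD1_c7 LD2_c50 LD3_c49) Lrfl Lrfl
theorem f524132 : Led Lsl_at (LP (LK LD1_c14 LD2_c1 LD3_c8)) = (LP (LK LD1_c14 LD2_c48 LD3_c13)) :=
  Lgr Lrot51 (Lpr_df (f437937 IH) (Lpr_af (f524121 IH) (Lpe (f148269 IH) (Lpn (LP (LK LD1_c14 LD2_c48 LD3_c13))))))
theorem f437943 : Led Lsl_et (LP (LK LD1_c7 LD2_c24 LD3_c42)) = (LP (LK LD1_c14 LD2_c1 LD3_c8)) :=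
  Lre_e IH (LK LD1_c7 LD2_c24 LD3_c42) (LK LD1_c14 LD2_c1 LD3_c8) Lrfl Lrfl
theorem f148268 : Led Lsl_et (LP (LK LD1_c14 LD2_c48 LD3_c13)) = (LP (LK LD1_c7 LD2_c50 LD3_c51)) :=
  Lre_e IH (LK LD1_c14 LD2_c48 LD3_c13) (LK LD1_c7 LD2_c50 LD3_c51) Lrfl Lrfl
theorem f524136 : Led Lsl_af (LP (LK LD1_c7 LD2_c24 LD3_c42)) = (LP (LK LD1_c7 LD2_c50 LD3_c51)) :=
  Lgr Lrot50 (Lpr_et (f437943 IH) (Lpr_at (f524132 IH) (Lpr_et (f148268 IH) (Lpn (LP (LK LD1_c7 LD2_c50 LD3_c51))))))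
theorem f524144 : Led Lsl_ft (LP (LK LD1_c7 LD2_c24 LD3_c28)) = (LP (LK LD1_c7 LD2_c50 LD3_c51)) :=
  Lgr Lrot2 (Lpr_gt (K33.f483658 IH) (Lpr_gt (K29.f4852 IH) (Lpr_af (f524136 IH) (Lpn (LP (LK LD1_c7 LD2_c50 LD3_c51))))))
theorem f524152 : Led Lsl_ff (LP (LK LD1_c7 LD2_c24 LD3_c28)) = (LP (LK LD1_c7 LD2_c50 LD3_c51)) :=
  Lgr Lrot3 (Lpr_ft (f524144 IH) (Lpn (LP (LK LD1_c7 LD2_c50 LD3_c51))))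
theorem f524158 : Led Lsl_ft (LP (LK LD1_c3 LD2_c41 LD3_c51)) = (LP (LK LD1_c3 LD2_c54 LD3_c33)) :=
  Lgr Lrot54 (Lpe (K29.f4887 IH) (Lpr_ff (f524152 IH) (Lpe (K33.f148254 IH) (Lpn (LP (LK LD1_c3 LD2_c54 LD3_c33))))))
theorem f148243 : Led Lsl_ct (LP (LK LD1_c3 LD2_c54 LD3_c33)) = (LP (LK LD1_c1 LD2_c53 LD3_c53)) :=
  Lre_c IH (LK LD1_c3 LD2_c54 LD3_c33) (LK LD1_c1 LD2_c53 LD3_c53) Lrfl Lrfl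
theorem f524163 : Led Lsl_ff (LP (LK LD1_c1 LD2_c47 LD3_c48)) = (LP (LK LD1_c1 LD2_c53 LD3_c53)) :=
  Lgr Lrot23 (Lpr_ct (K29.f4889 IH) (Lpr_ft (f524158 IH) (Lpr_ct (f148243 IH) (Lpn (LP (LK LD1_c1 LD2_c53 LD3_c53))))))
theorem f524168 : Led Lsl_ft (LP (LK LD1_c1 LD2_c47 LD3_c48)) = (LP (LK LD1_c1 LD2_c53 LD3_c53)) :=
  Lgr Lrot48 (Lpr_ff (f524163 IH) (Lpn (LP (LK LD1_c1 LD2_c53 LD3_c53))))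
theorem f483757 : Led Lsl_bt (LP (LK LD1_c3 LD2_c41 LD3_c45)) = (LP (LK LD1_c1 LD2_c47 LD3_c48)) :=
  Lre_b IH (LK LD1_c3 LD2_c41 LD3_c45) (LK LD1_c1 LD2_c47 LD3_c48) Lrfl Lrfl
theorem f524171 : Led Lsl_ff (LP (LK LD1_c3 LD2_c41 LD3_c45)) = (LP (LK LD1_c3 LD2_c53 LD3_c11)) :=
  Lgr Lrot25 (Lpr_bt (f483757 IH) (Lpr_ft (f524168 IH) (Lpe (K29.f476423 IH) (Lpn (LP (LK LD1_c3 LD2_c53 LD3_c11))))))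
theorem f524173 : Led Lsl_at (LP (LK LD1_c3 LD2_c41 LD3_c45)) = (LP (LK LD1_c3 LD2_c53 LD3_c10)) :=
  Lgr Lrot26 (Lpr_ff (f524171 IH) (Lpr_gt (K29.f129817 IH) (Lpr_gt (K29.f129816 IH) (Lpn (LP (LK LD1_c3 LD2_c53 LD3_c10))))))
theorem f523821 : Led Lsl_ff (LP (LK LD1_c7 LD2_c8 LD3_c38)) = (LP (LK LD1_c3 LD2_c53 LD3_c10)) :=
  Lgr Lrot19 (Lpe (K28.f467366 IH) (Lpr_ft (f523777 IH) (Lpq (f523816 IH) (Lpe (K29.f473624 IH) (Lpn (LP (LK LD1_c3 LD2_c53 LD3_c10)))))))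
theorem f524179 : Led Lsl_af (LP (LK LD1_c3 LD2_c53 LD3_c11)) = (LP (LK LD1_c7 LD2_c8 LD3_c38)) :=
  Lgr Lrot45 (Lpe (f524171 IH) (Lpr_at (f524173 IH) (Lpe (f523821 IH) (Lpn (LP (LK LD1_c7 LD2_c8 LD3_c38))))))
theorem f467371 : Led Lsl_et (LP (LK LD1_c3 LD2_c33 LD3_c50)) = (LP (LK LD1_c7 LD2_c8 LD3_c38)) :=
  Lre_e IH (LK LD1_c3 LD2_c33 LD3_c50) (LK LD1_c7 LD2_c8 LD3_c38) Lrfl Lrfl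
theorem f524185 : Led Lsl_at (LP (LK LD1_c1 LD2_c53 LD3_c50)) = (LP (LK LD1_c3 LD2_c33 LD3_c50)) :=
  Lgr Lrot80 (Lpe (K29.f476421 IH) (Lpr_af (f524179 IH) (Lpe (f467371 IH) (Lpn (LP (LK LD1_c3 LD2_c33 LD3_c50))))))
theorem f524189 : Led Lsl_af (LP (LK LD1_c1 LD2_c51 LD3_c9)) = (LP (LK LD1_c3 LD2_c48 LD3_c9)) :=
  Lgr Lrot36 (Lpe (K33.f483568 IH) (Lpqs (f523889 IH) (Lpe (f490234 IH) (Lpr_bt (f456064 IH) (Lpr_at (f524185 IH) (Lpe (K28.f466650 IH) (Lpn (LP (LK LD1_c3 LD2_c48 LD3_c9)))))))))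
theorem f524199 : Led Lsl_ft (LP (LK LD1_c1 LD2_c51 LD3_c10)) = (LP (LK LD1_c3 LD2_c48 LD3_c9)) :=
  Lgr Lrot2 (Lpr_gt (K24.f84664 IH) (Lpr_gt (K29.f97551 IH) (Lpr_af (f524189 IH) (Lpn (LP (LK LD1_c3 LD2_c48 LD3_c9))))))
theorem f524209 : Led Lsl_ff (LP (LK LD1_c1 LD2_c51 LD3_c10)) = (LP (LK LD1_c3 LD2_c48 LD3_c9)) :=
  Lgr Lrot3 (Lpr_ft (f524199 IH) (Lpn (LP (LK LD1_c3 LD2_c48 LD3_c9))))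
theorem f90058 : Led Lsl_ft (LP (LK LD1_c1 LD2_c51 LD3_c11)) = (LP (LK LD1_c0 LD2_c52 LD3_c27)) :=
  Lre_f IH (LK LD1_c1 LD2_c51 LD3_c11) (LK LD1_c0 LD2_c52 LD3_c27) Lrfl Lrfl
theorem f488036 : Led Lsl_gt (LP (LK LD1_c1 LD2_c51 LD3_c11)) = (LP (LK LD1_c1 LD2_c53 LD3_c54)) :=
  Lgr Lrot5 (Lpr_ft (f90058 IH) (Lpr_at (K2.f87678 IH) (Lpr_gf (K33.f488028 IH) (Lpn (LP (LK LD1_c1 LD2_c53 LD3_c54))))))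
theorem f524215 : Led Lsl_at (LP (LK LD1_c1 LD2_c51 LD3_c10)) = (LP (LK LD1_c1 LD2_c53 LD3_c54)) :=
  Lgr Lrot26 (Lpr_ff (f524209 IH) (Lpr_gt (K28.f124895 IH) (Lpr_gt (f488036 IH) (Lpn (LP (LK LD1_c1 LD2_c53 LD3_c54))))))
theorem f524195 : Led Lsl_at (LP (LK LD1_c1 LD2_c51 LD3_c9)) = (LP (LK LD1_c3 LD2_c48 LD3_c9)) :=
  Lgr Lrot100 (Lpr_af (f524189 IH) (Lpn (LP (LK LD1_c3 LD2_c48 LD3_c9))))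
theorem f524226 : Led Lsl_ff (LP (LK LD1_c1 LD2_c51 LD3_c9)) = (LP (LK LD1_c1 LD2_c53 LD3_c54)) :=
  Lgr Lrot30 (Lpr_at (f524195 IH) (Lpe (f524209 IH) (Lpr_at (f524215 IH) (Lpn (LP (LK LD1_c1 LD2_c53 LD3_c54))))))
theorem f90054 : Led Lsl_dt (LP (LK LD1_c1 LD2_c51 LD3_c9)) = (LP (LK LD1_c3 LD2_c48 LD3_c16)) :=
  Lre_d IH (LK LD1_c1 LD2_c51 LD3_c9) (LK LD1_c3 LD2_c48 LD3_c16) Lrfl Lrfl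
theorem f481852 : Led Lsl_dt (LP (LK LD1_c3 LD2_c54 LD3_c37)) = (LP (LK LD1_c1 LD2_c53 LD3_c54)) :=
  Lre_d IH (LK LD1_c3 LD2_c54 LD3_c37) (LK LD1_c1 LD2_c53 LD3_c54) Lrfl Lrfl
theorem f524230 : Led Lsl_ft (LP (LK LD1_c3 LD2_c48 LD3_c16)) = (LP (LK LD1_c3 LD2_c54 LD3_c37)) :=
  Lgr Lrot54 (Lpe (f90054 IH) (Lpr_ff (f524226 IH) (Lpe (f481852 IH) (Lpn (LP (LK LD1_c3 LD2_c54 LD3_c37))))))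
theorem f90053 : Led Lsl_gt (LP (LK LD1_c3 LD2_c48 LD3_c16)) = (LP (LK LD1_c7 LD2_c37 LD3_c36)) :=
  Lre_g IH (LK LD1_c3 LD2_c48 LD3_c16) (LK LD1_c7 LD2_c37 LD3_c36) Lrfl Lrfl
theorem f481854 : Led Lsl_dt (LP (LK LD1_c1 LD2_c53 LD3_c54)) = (LP (LK LD1_c3 LD2_c54 LD3_c37)) :=
  Lre_d IH (LK LD1_c1 LD2_c53 LD3_c54) (LK LD1_c3 LD2_c54 LD3_c37) Lrfl Lrfl
theorem f524221 : Led Lsl_af (LP (LK LD1_c3 LD2_c48 LD3_c18)) = (LP (LK LD1_c3 LD2_c54 LD3_c37)) :=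
  Lgr Lrot117 (Lpr_dt (K24.f459775 IH) (Lpr_at (f524215 IH) (Lpr_dt (f481854 IH) (Lpn (LP (LK LD1_c3 LD2_c54 LD3_c37))))))
theorem f524234 : Led Lsl_gt (LP (LK LD1_c7 LD2_c37 LD3_c36)) = (LP (LK LD1_c3 LD2_c48 LD3_c18)) :=
  Lgr Lrot46 (Lpe (f90053 IH) (Lpr_ft (f524230 IH) (Lpe (f524221 IH) (Lpn (LP (LK LD1_c3 LD2_c48 LD3_c18))))))
def v2520 : LQ := Led Lsl_dt (LP (LK LD1_c1 LD2_c47 LD3_c26))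
theorem f523752 : Led Lsl_dt (LP (LK LD1_c1 LD2_c47 LD3_c26)) = v2520 :=
  Lrfl
theorem f523755 : Led Lsl_ef (LP (LK LD1_c3 LD2_c25 LD3_c16)) = v2520 :=
  Lgr Lrot73 (Lpr_dt (K7.f94107 IH) (Lpr_et (K3.f84660 IH) (Lpr_dt (K3.f108784 IH) (Lpr_et (K4.f108798 IH) (Lpr_dt (f523752 IH) (Lpn v2520))))))
theorem f523754 : Led Lsl_df (LP (LK LD1_c1 LD2_c47 LD3_c26)) = v2520 :=
  Lgr Lrot38 (Lpr_dt (f523752 IH) (Lpn v2520))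
theorem f108810 : Led Lsl_dt (LP (LK LD1_c7 LD2_c22 LD3_c12)) = (LP (LK LD1_c3 LD2_c40 LD3_c59)) :=
  Lre_d IH (LK LD1_c7 LD2_c22 LD3_c12) (LK LD1_c3 LD2_c40 LD3_c59) Lrfl Lrfl
theorem f524237 : Led Lsl_ef (LP (LK LD1_c7 LD2_c37 LD3_c36)) = (LP (LK LD1_c7 LD2_c22 LD3_c12)) :=
  Lgr Lrot167 (Lpr_gt (f524234 IH) (Lpr_dt (K24.f459775 IH) (Lpr_gt (K24.f84664 IH) (Lpr_df (K24.f459773 IH) (Lpe (K24.f459774 IH) (Lpe (K5.f94105 IH) (Lpr_ef (f523755 IH) (Lpe (f523754 IH) (Lpr_gt (K28.f108800 IH) (Lpe (f108810 IH) (Lpn (LP (LK LD1_c7 LD2_c22 LD3_c12)))))))))))))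
theorem f524238 : Led Lsl_et (LP (LK LD1_c7 LD2_c22 LD3_c12)) = (LP (LK LD1_c7 LD2_c37 LD3_c36)) :=
  Leop (Lpr_ef (f524237 IH) (Lpn (LP (LK LD1_c7 LD2_c22 LD3_c12))))
theorem seed_199 : LEOK LG_e (LK LD1_c7 LD2_c22 LD3_c12) :=
  Leoe_e (LK LD1_c7 LD2_c22 LD3_c12) (f524238 IH)
theorem f523867 : (LP (LK LD1_c0 LD2_c50 LD3_c37)) = v2515 :=
  Lefun (Lecon (Lfl_ff (f457171 IH)) (f523863 IH)) (f523717 IH)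
theorem f457163 : Led Lsl_et (LP (LK LD1_c0 LD2_c50 LD3_c37)) = (LP (LK LD1_c1 LD2_c47 LD3_c49)) :=
  Lre_e IH (LK LD1_c0 LD2_c50 LD3_c37) (LK LD1_c1 LD2_c47 LD3_c49) Lrfl Lrfl
theorem f526941 : Led Lsl_af v2517 = (LP (LK LD1_c1 LD2_c47 LD3_c49)) :=
  Lgr Lrot50 (Lpe (f523727 IH) (Lpr_at (f523715 IH) (Lpq (f523867 IH) (Lpr_et (f457163 IH) (Lpn (LP (LK LD1_c1 LD2_c47 LD3_c49)))))))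
theorem f526943 : Led Lsl_at (LP (LK LD1_c1 LD2_c54 LD3_c21)) = (LP (LK LD1_c3 LD2_c41 LD3_c52)) :=
  Lgr Lrot51 (Lpr_df (f523729 IH) (Lpr_af (f526941 IH) (Lpe (K33.f437915 IH) (Lpn (LP (LK LD1_c3 LD2_c41 LD3_c52))))))
theorem f526944 : Led Lsl_at (LP (LK LD1_c1 LD2_c54 LD3_c21)) = (LP (LK LD1_c3 LD2_c41 LD3_c52)) :=
  Leop (Lpe (f526943 IH) (Lpn (LP (LK LD1_c1 LD2_c54 LD3_c21))))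
theorem seed_200 : LEOK LG_a (LK LD1_c1 LD2_c54 LD3_c21) :=
  Leoe_a (LK LD1_c1 LD2_c54 LD3_c21) (f526944 IH)
def v2530 : LQ := Led Lsl_dt (LP (LK LD1_c1 LD2_c47 LD3_c53))
theorem f527031 : Led Lsl_dt (LP (LK LD1_c1 LD2_c47 LD3_c53)) = v2530 :=
  Lrfl
theorem f4895 : Led Lsl_et (LP (LK LD1_c1 LD2_c47 LD3_c53)) = (LP (LK LD1_c0 LD2_c50 LD3_c38)) :=
  Lre_e IH (LK LD1_c1 LD2_c47 LD3_c53) (LK LD1_c0 LD2_c50 LD3_c38) Lrfl Lrfl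
theorem f12394 : Led Lsl_et (LP (LK LD1_c0 LD2_c22 LD3_c43)) = (LP (LK LD1_c0 LD2_c50 LD3_c19)) :=
  Lre_e IH (LK LD1_c0 LD2_c22 LD3_c43) (LK LD1_c0 LD2_c50 LD3_c19) Lrfl Lrfl
def v2511 : LQ := Led Lsl_dt (LP (LK LD1_c1 LD2_c47 LD3_c4))
theorem f523696 : Led Lsl_dt (LP (LK LD1_c1 LD2_c47 LD3_c4)) = v2511 :=
  Lrfl
theorem f527033 : Led Lsl_gt v2511 = v2530 :=
  Lgr Lrot139 (Lpe (f523696 IH) (Lpe (K30.f12380 IH) (Lpe (f12394 IH) (Lpr_dt (K5.f12405 IH) (Lpe (K1.f4898 IH) (Lpe (K6.f4881 IH) (Lpr_et (K29.f4879 IH) (Lpe (K29.f4883 IH) (Lpe (f4895 IH) (Lpr_dt (f527031 IH) (Lpn v2530)))))))))))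
theorem f471309 : Led Lsl_et (LP (LK LD1_c1 LD2_c47 LD3_c4)) = (LP (LK LD1_c3 LD2_c40 LD3_c17)) :=
  Lre_e IH (LK LD1_c1 LD2_c47 LD3_c4) (LK LD1_c3 LD2_c40 LD3_c17) Lrfl Lrfl
def v2527 : LQ := Led Lsl_et (LP (LK LD1_c1 LD2_c47 LD3_c48))
theorem f527020 : Led Lsl_et (LP (LK LD1_c1 LD2_c47 LD3_c48)) = v2527 :=
  Lrfl
theorem f527034 : Led Lsl_gf (LP (LK LD1_c3 LD2_c40 LD3_c17)) = v2527 :=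
  Lgr Lrot141 (Lpe (f471309 IH) (Lpr_dt (f523696 IH) (Lpr_gt (f527033 IH) (Lpe (f527031 IH) (Lpr_et (f4895 IH) (Lpr_gt (K29.f4883 IH) (Lpr_dt (K29.f4485 IH) (Lpr_gt (K29.f4884 IH) (Lpe (K33.f4854 IH) (Lpr_et (f527020 IH) (Lpn v2527)))))))))))
theorem f490241 : Led Lsl_ff (LP (LK LD1_c0 LD2_c53 LD3_c29)) = v881 :=
  Lgr Lrot3 (Lpr_ft (f490239 IH) (Lpn v881))
theorem f134854 : Led Lsl_et (LP (LK LD1_c3 LD2_c54 LD3_c1)) = (LP (LK LD1_c1 LD2_c53 LD3_c38)) :=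
  Lre_e IH (LK LD1_c3 LD2_c54 LD3_c1) (LK LD1_c1 LD2_c53 LD3_c38) Lrfl Lrfl
theorem f527023 : Led Lsl_ff (LP (LK LD1_c3 LD2_c54 LD3_c1)) = v2527 :=
  Lgr Lrot72 (Lpr_et (f134854 IH) (Lpq (f523928 IH) (Lpe (f490241 IH) (Lpr_et (K29.f148249 IH) (Lpe (f524163 IH) (Lpr_et (f527020 IH) (Lpn v2527)))))))
theorem f524228 : Led Lsl_ft (LP (LK LD1_c3 LD2_c26 LD3_c33)) = (LP (LK LD1_c3 LD2_c54 LD3_c36)) :=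
  Lgr Lrot4 (Lpr_cf (K33.f484130 IH) (Lpr_ff (f524226 IH) (Lpe (K33.f451151 IH) (Lpn (LP (LK LD1_c3 LD2_c54 LD3_c36))))))
theorem f15268 : Led Lsl_bt (LP (LK LD1_c6 LD2_c54 LD3_c57)) = (LP (LK LD1_c3 LD2_c26 LD3_c33)) :=
  Lre_b IH (LK LD1_c6 LD2_c54 LD3_c57) (LK LD1_c3 LD2_c26 LD3_c33) Lrfl Lrfl
theorem f488040 : Led Lsl_bt (LP (LK LD1_c3 LD2_c54 LD3_c36)) = (LP (LK LD1_c7 LD2_c50 LD3_c57)) :=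
  Lre_b IH (LK LD1_c3 LD2_c54 LD3_c36) (LK LD1_c7 LD2_c50 LD3_c57) Lrfl Lrfl
theorem f524244 : Led Lsl_ff (LP (LK LD1_c6 LD2_c54 LD3_c57)) = (LP (LK LD1_c7 LD2_c50 LD3_c57)) :=
  Lgr Lrot25 (Lpr_bt (f15268 IH) (Lpr_ft (f524228 IH) (Lpr_bt (f488040 IH) (Lpn (LP (LK LD1_c7 LD2_c50 LD3_c57))))))
theorem f488866 : Led Lsl_gf (LP (LK LD1_c13 LD2_c53 LD3_c52)) = (LP (LK LD1_c7 LD2_c50 LD3_c57)) :=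
  Lgr Lrot181 (Lpe (K33.f123454 IH) (Lpr_gt (K33.f488864 IH) (Lpe (K33.f91280 IH) (Lpe (K33.f486985 IH) (Lpr_gt (K33.f486983 IH) (Lpe (K33.f467226 IH) (Lpe (K33.f467229 IH) (Lpr_gt (f488036 IH) (Lpe (K33.f451151 IH) (Lpr_bt (f488040 IH) (Lpn (LP (LK LD1_c7 LD2_c50 LD3_c57)))))))))))))
theorem f460824 : Led Lsl_ft (LP (LK LD1_c24 LD2_c32 LD3_c11)) = (LP (LK LD1_c14 LD2_c45 LD3_c54)) :=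
  Lre_f IH (LK LD1_c24 LD2_c32 LD3_c11) (LK LD1_c14 LD2_c45 LD3_c54) Lrfl Lrfl
theorem f148213 : Led Lsl_et (LP (LK LD1_c3 LD2_c54 LD3_c20)) = (LP (LK LD1_c7 LD2_c50 LD3_c20)) :=
  Lre_e IH (LK LD1_c3 LD2_c54 LD3_c20) (LK LD1_c7 LD2_c50 LD3_c20) Lrfl Lrfl
theorem f148186 : Led Lsl_ft (LP (LK LD1_c7 LD2_c50 LD3_c20)) = (LP (LK LD1_c14 LD2_c47 LD3_c16)) :=
  Lre_f IH (LK LD1_c7 LD2_c50 LD3_c20) (LK LD1_c14 LD2_c47 LD3_c16) Lrfl Lrfl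
theorem f515626 : Led Lsl_ef (LP (LK LD1_c24 LD2_c32 LD3_c11)) = (LP (LK LD1_c14 LD2_c47 LD3_c16)) :=
  Lgr Lrot21 (Lpr_ft (f460824 IH) (Lpr_et (K33.f460802 IH) (Lpr_ft (K33.f515600 IH) (Lpr_et (f148213 IH) (Lpr_ft (f148186 IH) (Lpn (LP (LK LD1_c14 LD2_c47 LD3_c16))))))))
theorem f515632 : Led Lsl_et (LP (LK LD1_c24 LD2_c32 LD3_c11)) = (LP (LK LD1_c14 LD2_c47 LD3_c16)) :=
  Lgr Lrot87 (Lpr_ef (f515626 IH) (Lpn (LP (LK LD1_c14 LD2_c47 LD3_c16))))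
theorem f482474 : Led Lsl_ef (LP (LK LD1_c3 LD2_c56 LD3_c42)) = (LP (LK LD1_c3 LD2_c34 LD3_c1)) :=
  Lgr Lrot88 (Lpr_et (K33.f482468 IH) (Lpn (LP (LK LD1_c3 LD2_c34 LD3_c1))))
theorem f455994 : Led Lsl_dt (LP (LK LD1_c7 LD2_c9 LD3_c10)) = (LP (LK LD1_c3 LD2_c34 LD3_c1)) :=
  Lre_d IH (LK LD1_c7 LD2_c9 LD3_c10) (LK LD1_c3 LD2_c34 LD3_c1) Lrfl Lrfl
theorem f482483 : Led Lsl_et (LP (LK LD1_c13 LD2_c32 LD3_c57)) = (LP (LK LD1_c7 LD2_c9 LD3_c10)) :=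
  Lre_e IH (LK LD1_c13 LD2_c32 LD3_c57) (LK LD1_c7 LD2_c9 LD3_c10) Lrfl Lrfl
theorem f482485 : Led Lsl_df (LP (LK LD1_c13 LD2_c32 LD3_c57)) = (LP (LK LD1_c7 LD2_c24 LD3_c7)) :=
  Lgr Lrot70 (Lpr_et (f482483 IH) (Lpr_dt (f455994 IH) (Lpe (f482474 IH) (Lpr_dt (K33.f482476 IH) (Lpr_et (K33.f482484 IH) (Lpn (LP (LK LD1_c7 LD2_c24 LD3_c7))))))))
theorem f482494 : Led Lsl_ft (LP (LK LD1_c13 LD2_c32 LD3_c57)) = (LP (LK LD1_c22 LD2_c55 LD3_c23)) :=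
  Lre_f IH (LK LD1_c13 LD2_c32 LD3_c57) (LK LD1_c22 LD2_c55 LD3_c23) Lrfl Lrfl
theorem f482496 : Led Lsl_dt (LP (LK LD1_c22 LD2_c55 LD3_c23)) = (LP (LK LD1_c14 LD2_c0 LD3_c9)) :=
  Lgr Lrot60 (Lpe (f482494 IH) (Lpr_df (f482485 IH) (Lpe (K33.f482495 IH) (Lpn (LP (LK LD1_c14 LD2_c0 LD3_c9))))))
theorem f482510 : Led Lsl_df (LP (LK LD1_c22 LD2_c55 LD3_c23)) = (LP (LK LD1_c14 LD2_c0 LD3_c9)) :=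
  Lgr Lrot38 (Lpr_dt (f482496 IH) (Lpn (LP (LK LD1_c14 LD2_c0 LD3_c9))))
theorem f148173 : Led Lsl_et (LP (LK LD1_c7 LD2_c50 LD3_c20)) = (LP (LK LD1_c3 LD2_c54 LD3_c20)) :=
  Lre_e IH (LK LD1_c7 LD2_c50 LD3_c20) (LK LD1_c3 LD2_c54 LD3_c20) Lrfl Lrfl
theorem f148175 : Led Lsl_df (LP (LK LD1_c7 LD2_c50 LD3_c20)) = (LP (LK LD1_c13 LD2_c55 LD3_c3)) :=
  Lgr Lrot70 (Lpr_et (f148173 IH) (Lpr_dt (K33.f148172 IH) (Lpr_et (K33.f148171 IH) (Lpr_dt (K33.f148163 IH) (Lpr_et (K33.f148174 IH) (Lpn (LP (LK LD1_c13 LD2_c55 LD3_c3))))))))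
theorem f148187 : Led Lsl_ft (LP (LK LD1_c23 LD2_c25 LD3_c38)) = (LP (LK LD1_c13 LD2_c55 LD3_c3)) :=
  Lre_f IH (LK LD1_c23 LD2_c25 LD3_c38) (LK LD1_c13 LD2_c55 LD3_c3) Lrfl Lrfl
theorem f148188 : Led Lsl_dt (LP (LK LD1_c14 LD2_c47 LD3_c16)) = (LP (LK LD1_c23 LD2_c25 LD3_c38)) :=
  Lgr Lrot60 (Lpe (f148186 IH) (Lpr_df (f148175 IH) (Lpe (f148187 IH) (Lpn (LP (LK LD1_c23 LD2_c25 LD3_c38))))))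
theorem f515102 : Led Lsl_at (LP (LK LD1_c22 LD2_c55 LD3_c23)) = (LP (LK LD1_c14 LD2_c47 LD3_c16)) :=
  Lgr Lrot51 (Lpr_df (f482510 IH) (Lpr_af (K33.f515098 IH) (Lpe (f148188 IH) (Lpn (LP (LK LD1_c14 LD2_c47 LD3_c16))))))
theorem f515106 : Led Lsl_af (LP (LK LD1_c22 LD2_c55 LD3_c23)) = (LP (LK LD1_c14 LD2_c47 LD3_c16)) :=
  Lgr Lrot0 (Lpr_at (f515102 IH) (Lpn (LP (LK LD1_c14 LD2_c47 LD3_c16))))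
theorem f456100 : Led Lsl_dt (LP (LK LD1_c7 LD2_c50 LD3_c23)) = (LP (LK LD1_c3 LD2_c54 LD3_c22)) :=
  Lre_d IH (LK LD1_c7 LD2_c50 LD3_c23) (LK LD1_c3 LD2_c54 LD3_c22) Lrfl Lrfl
theorem f482546 : Led Lsl_dt (LP (LK LD1_c7 LD2_c9 LD3_c9)) = (LP (LK LD1_c13 LD2_c32 LD3_c55)) :=
  Lre_d IH (LK LD1_c7 LD2_c9 LD3_c9) (LK LD1_c13 LD2_c32 LD3_c55) Lrfl Lrfl
theorem f515457 : Led Lsl_ff (LP (LK LD1_c7 LD2_c50 LD3_c23)) = (LP (LK LD1_c13 LD2_c32 LD3_c55)) :=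
  Lgr Lrot19 (Lpr_dt (f456100 IH) (Lpr_ft (K33.f515442 IH) (Lpr_dt (f482546 IH) (Lpn (LP (LK LD1_c13 LD2_c32 LD3_c55))))))
theorem f515464 : Led Lsl_bt (LP (LK LD1_c7 LD2_c50 LD3_c23)) = (LP (LK LD1_c3 LD2_c54 LD3_c23)) :=
  Lre_b IH (LK LD1_c7 LD2_c50 LD3_c23) (LK LD1_c3 LD2_c54 LD3_c23) Lrfl Lrfl
theorem f515144 : Led Lsl_bt (LP (LK LD1_c7 LD2_c9 LD3_c10)) = (LP (LK LD1_c13 LD2_c32 LD3_c55)) :=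
  Lre_b IH (LK LD1_c7 LD2_c9 LD3_c10) (LK LD1_c13 LD2_c32 LD3_c55) Lrfl Lrfl
theorem f515465 : Led Lsl_ft (LP (LK LD1_c3 LD2_c54 LD3_c23)) = (LP (LK LD1_c7 LD2_c9 LD3_c10)) :=
  Lgr Lrot75 (Lpe (f515464 IH) (Lpr_ff (f515457 IH) (Lpe (f515144 IH) (Lpn (LP (LK LD1_c7 LD2_c9 LD3_c10))))))
theorem f515510 : Led Lsl_et (LP (LK LD1_c7 LD2_c50 LD3_c26)) = (LP (LK LD1_c3 LD2_c54 LD3_c23)) :=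
  Lre_e IH (LK LD1_c7 LD2_c50 LD3_c26) (LK LD1_c3 LD2_c54 LD3_c23) Lrfl Lrfl
theorem f515511 : Led Lsl_ft (LP (LK LD1_c14 LD2_c47 LD3_c32)) = (LP (LK LD1_c7 LD2_c50 LD3_c26)) :=
  Lre_f IH (LK LD1_c14 LD2_c47 LD3_c32) (LK LD1_c7 LD2_c50 LD3_c26) Lrfl Lrfl
theorem f456006 : Led Lsl_et (LP (LK LD1_c7 LD2_c9 LD3_c10)) = (LP (LK LD1_c13 LD2_c32 LD3_c57)) :=
  Lre_e IH (LK LD1_c7 LD2_c9 LD3_c10) (LK LD1_c13 LD2_c32 LD3_c57) Lrfl Lrfl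
theorem f515512 : Led Lsl_ef (LP (LK LD1_c14 LD2_c47 LD3_c32)) = (LP (LK LD1_c22 LD2_c55 LD3_c23)) :=
  Lgr Lrot21 (Lpr_ft (f515511 IH) (Lpr_et (f515510 IH) (Lpr_ft (f515465 IH) (Lpr_et (f456006 IH) (Lpr_ft (f482494 IH) (Lpn (LP (LK LD1_c22 LD2_c55 LD3_c23))))))))
theorem f515634 : Led Lsl_af (LP (LK LD1_c24 LD2_c32 LD3_c11)) = (LP (LK LD1_c14 LD2_c47 LD3_c32)) :=
  Lgr Lrot50 (Lpr_et (f515632 IH) (Lpe (f515106 IH) (Lpe (f515512 IH) (Lpn (LP (LK LD1_c14 LD2_c47 LD3_c32))))))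
theorem f515522 : Led Lsl_ft (LP (LK LD1_c7 LD2_c50 LD3_c26)) = (LP (LK LD1_c14 LD2_c47 LD3_c32)) :=
  Lre_f IH (LK LD1_c7 LD2_c50 LD3_c26) (LK LD1_c14 LD2_c47 LD3_c32) Lrfl Lrfl
theorem f515642 : Led Lsl_at (LP (LK LD1_c14 LD2_c45 LD3_c54)) = (LP (LK LD1_c7 LD2_c50 LD3_c26)) :=
  Lgr Lrot66 (Lpe (f460824 IH) (Lpr_af (f515634 IH) (Lpe (f515522 IH) (Lpn (LP (LK LD1_c7 LD2_c50 LD3_c26))))))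
theorem f466095 : Led Lsl_gt (LP (LK LD1_c14 LD2_c47 LD3_c30)) = (LP (LK LD1_c7 LD2_c50 LD3_c26)) :=
  Lre_g IH (LK LD1_c14 LD2_c47 LD3_c30) (LK LD1_c7 LD2_c50 LD3_c26) Lrfl Lrfl
theorem f515656 : Led Lsl_gt (LP (LK LD1_c24 LD2_c32 LD3_c11)) = (LP (LK LD1_c14 LD2_c47 LD3_c30)) :=
  Lgr Lrot5 (Lpr_ft (f460824 IH) (Lpr_at (f515642 IH) (Lpe (f466095 IH) (Lpn (LP (LK LD1_c14 LD2_c47 LD3_c30))))))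
theorem f460812 : Led Lsl_ft (LP (LK LD1_c14 LD2_c45 LD3_c54)) = (LP (LK LD1_c24 LD2_c32 LD3_c11)) :=
  Lre_f IH (LK LD1_c14 LD2_c45 LD3_c54) (LK LD1_c24 LD2_c32 LD3_c11) Lrfl Lrfl
theorem f460813 : Led Lsl_ft (LP (LK LD1_c30 LD2_c40 LD3_c39)) = (LP (LK LD1_c22 LD2_c43 LD3_c18)) :=
  Lre_f IH (LK LD1_c30 LD2_c40 LD3_c39) (LK LD1_c22 LD2_c43 LD3_c18) Lrfl Lrfl
theorem f460814 : Led Lsl_dt (LP (LK LD1_c24 LD2_c32 LD3_c11)) = (LP (LK LD1_c30 LD2_c40 LD3_c39)) :=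
  Lgr Lrot60 (Lpe (f460812 IH) (Lpr_df (K33.f460804 IH) (Lpe (f460813 IH) (Lpn (LP (LK LD1_c30 LD2_c40 LD3_c39))))))
theorem f460822 : Led Lsl_df (LP (LK LD1_c24 LD2_c32 LD3_c11)) = (LP (LK LD1_c30 LD2_c40 LD3_c39)) :=
  Lgr Lrot38 (Lpr_dt (f460814 IH) (Lpn (LP (LK LD1_c30 LD2_c40 LD3_c39))))
theorem f148210 : Led Lsl_df (LP (LK LD1_c14 LD2_c47 LD3_c16)) = (LP (LK LD1_c23 LD2_c25 LD3_c38)) :=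
  Lgr Lrot38 (Lpr_dt (f148188 IH) (Lpn (LP (LK LD1_c23 LD2_c25 LD3_c38))))
theorem f515171 : Led Lsl_et (LP (LK LD1_c14 LD2_c0 LD3_c1)) = (LP (LK LD1_c23 LD2_c25 LD3_c38)) :=
  Lgr Lrot87 (Lpr_ef (K33.f515082 IH) (Lpn (LP (LK LD1_c23 LD2_c25 LD3_c38))))
theorem f515175 : Led Lsl_dt (LP (LK LD1_c23 LD2_c32 LD3_c17)) = (LP (LK LD1_c14 LD2_c0 LD3_c1)) :=
  Lre_d IH (LK LD1_c23 LD2_c32 LD3_c17) (LK LD1_c14 LD2_c0 LD3_c1) Lrfl Lrfl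
theorem f515630 : Led Lsl_et (LP (LK LD1_c30 LD2_c40 LD3_c39)) = (LP (LK LD1_c23 LD2_c32 LD3_c17)) :=
  Lgr Lrot71 (Lpe (f460814 IH) (Lpr_ef (f515626 IH) (Lpr_df (f148210 IH) (Lpe (f515171 IH) (Lpe (f515175 IH) (Lpn (LP (LK LD1_c23 LD2_c32 LD3_c17))))))))
theorem f463515 : Led Lsl_bt (LP (LK LD1_c14 LD2_c5 LD3_c58)) = (LP (LK LD1_c23 LD2_c39 LD3_c46)) :=
  Lre_b IH (LK LD1_c14 LD2_c5 LD3_c58) (LK LD1_c23 LD2_c39 LD3_c46) Lrfl Lrfl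
theorem f458310 : Led Lsl_bt (LP (LK LD1_c7 LD2_c4 LD3_c38)) = (LP (LK LD1_c13 LD2_c24 LD3_c55)) :=
  Lre_b IH (LK LD1_c7 LD2_c4 LD3_c38) (LK LD1_c13 LD2_c24 LD3_c55) Lrfl Lrfl
theorem f465791 : Led Lsl_at (LP (LK LD1_c13 LD2_c24 LD3_c43)) = (LP (LK LD1_c7 LD2_c4 LD3_c38)) :=
  Lre_a IH (LK LD1_c13 LD2_c24 LD3_c43) (LK LD1_c7 LD2_c4 LD3_c38) Lrfl Lrfl
theorem f465792 : Led Lsl_bt (LP (LK LD1_c22 LD2_c42 LD3_c61)) = (LP (LK LD1_c13 LD2_c24 LD3_c43)) :=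
  Lre_b IH (LK LD1_c22 LD2_c42 LD3_c61) (LK LD1_c13 LD2_c24 LD3_c43) Lrfl Lrfl
theorem f465793 : Led Lsl_at (LP (LK LD1_c23 LD2_c39 LD3_c46)) = (LP (LK LD1_c22 LD2_c42 LD3_c61)) :=
  Lgr Lrot67 (Lpe (f463515 IH) (Lpr_af (K28.f465787 IH) (Lpe (f458310 IH) (Lpe (f465791 IH) (Lpe (f465792 IH) (Lpn (LP (LK LD1_c22 LD2_c42 LD3_c61))))))))
theorem f465831 : Led Lsl_et (LP (LK LD1_c14 LD2_c5 LD3_c56)) = (LP (LK LD1_c23 LD2_c39 LD3_c46)) :=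
  Lre_e IH (LK LD1_c14 LD2_c5 LD3_c56) (LK LD1_c23 LD2_c39 LD3_c46) Lrfl Lrfl
theorem f459178 : Led Lsl_et (LP (LK LD1_c22 LD2_c42 LD3_c61)) = (LP (LK LD1_c13 LD2_c24 LD3_c40)) :=
  Lre_e IH (LK LD1_c22 LD2_c42 LD3_c61) (LK LD1_c13 LD2_c24 LD3_c40) Lrfl Lrfl
theorem f465832 : Led Lsl_af (LP (LK LD1_c14 LD2_c5 LD3_c56)) = (LP (LK LD1_c13 LD2_c24 LD3_c40)) :=
  Lgr Lrot50 (Lpr_et (f465831 IH) (Lpr_at (f465793 IH) (Lpr_et (f459178 IH) (Lpn (LP (LK LD1_c13 LD2_c24 LD3_c40))))))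
theorem f463555 : Led Lsl_ct (LP (LK LD1_c23 LD2_c39 LD3_c45)) = (LP (LK LD1_c14 LD2_c5 LD3_c56)) :=
  Lre_c IH (LK LD1_c23 LD2_c39 LD3_c45) (LK LD1_c14 LD2_c5 LD3_c56) Lrfl Lrfl
theorem f463556 : Led Lsl_dt (LP (LK LD1_c31 LD2_c10 LD3_c0)) = (LP (LK LD1_c23 LD2_c39 LD3_c45)) :=
  Lre_d IH (LK LD1_c31 LD2_c10 LD3_c0) (LK LD1_c23 LD2_c39 LD3_c45) Lrfl Lrfl
theorem f458953 : Led Lsl_bt (LP (LK LD1_c13 LD2_c25 LD3_c26)) = (LP (LK LD1_c22 LD2_c44 LD3_c21)) :=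
  Lre_b IH (LK LD1_c13 LD2_c25 LD3_c26) (LK LD1_c22 LD2_c44 LD3_c21) Lrfl Lrfl
theorem f459042 : Led Lsl_bt (LP (LK LD1_c22 LD2_c43 LD3_c0)) = (LP (LK LD1_c13 LD2_c24 LD3_c42)) :=
  Lre_b IH (LK LD1_c22 LD2_c43 LD3_c0) (LK LD1_c13 LD2_c24 LD3_c42) Lrfl Lrfl
theorem f459043 : Led Lsl_ft (LP (LK LD1_c22 LD2_c44 LD3_c21)) = (LP (LK LD1_c22 LD2_c43 LD3_c0)) :=
  Lgr Lrot75 (Lpe (f458953 IH) (Lpr_ff (K29.f459025 IH) (Lpe (f459042 IH) (Lpn (LP (LK LD1_c22 LD2_c43 LD3_c0))))))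
theorem f459120 : Led Lsl_ff (LP (LK LD1_c22 LD2_c44 LD3_c21)) = (LP (LK LD1_c22 LD2_c43 LD3_c0)) :=
  Lgr Lrot3 (Lpr_ft (f459043 IH) (Lpn (LP (LK LD1_c22 LD2_c43 LD3_c0))))
theorem f459123 : Led Lsl_ct (LP (LK LD1_c22 LD2_c44 LD3_c21)) = (LP (LK LD1_c30 LD2_c41 LD3_c30)) :=
  Lre_c IH (LK LD1_c22 LD2_c44 LD3_c21) (LK LD1_c30 LD2_c41 LD3_c30) Lrfl Lrfl
theorem f459052 : Led Lsl_ct (LP (LK LD1_c30 LD2_c40 LD3_c19)) = (LP (LK LD1_c22 LD2_c43 LD3_c0)) :=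
  Lre_c IH (LK LD1_c30 LD2_c40 LD3_c19) (LK LD1_c22 LD2_c43 LD3_c0) Lrfl Lrfl
theorem f459124 : Led Lsl_ft (LP (LK LD1_c30 LD2_c41 LD3_c30)) = (LP (LK LD1_c30 LD2_c40 LD3_c19)) :=
  Lgr Lrot4 (Lpe (f459123 IH) (Lpr_ff (f459120 IH) (Lpe (f459052 IH) (Lpn (LP (LK LD1_c30 LD2_c40 LD3_c19))))))
theorem f459127 : Led Lsl_bt (LP (LK LD1_c22 LD2_c44 LD3_c18)) = (LP (LK LD1_c30 LD2_c41 LD3_c30)) :=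
  Lre_b IH (LK LD1_c22 LD2_c44 LD3_c18) (LK LD1_c30 LD2_c41 LD3_c30) Lrfl Lrfl
theorem f459128 : Led Lsl_bt (LP (LK LD1_c30 LD2_c40 LD3_c19)) = (LP (LK LD1_c22 LD2_c42 LD3_c60)) :=
  Lre_b IH (LK LD1_c30 LD2_c40 LD3_c19) (LK LD1_c22 LD2_c42 LD3_c60) Lrfl Lrfl
theorem f459129 : Led Lsl_ff (LP (LK LD1_c22 LD2_c44 LD3_c18)) = (LP (LK LD1_c22 LD2_c42 LD3_c60)) :=
  Lgr Lrot25 (Lpr_bt (f459127 IH) (Lpr_ft (f459124 IH) (Lpr_bt (f459128 IH) (Lpn (LP (LK LD1_c22 LD2_c42 LD3_c60))))))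
theorem f459032 : Led Lsl_ct (LP (LK LD1_c22 LD2_c44 LD3_c18)) = (LP (LK LD1_c13 LD2_c25 LD3_c24)) :=
  Lre_c IH (LK LD1_c22 LD2_c44 LD3_c18) (LK LD1_c13 LD2_c25 LD3_c24) Lrfl Lrfl
theorem f459131 : Led Lsl_ct (LP (LK LD1_c13 LD2_c24 LD3_c40)) = (LP (LK LD1_c22 LD2_c42 LD3_c60)) :=
  Lre_c IH (LK LD1_c13 LD2_c24 LD3_c40) (LK LD1_c22 LD2_c42 LD3_c60) Lrfl Lrfl
theorem f459132 : Led Lsl_ft (LP (LK LD1_c13 LD2_c25 LD3_c24)) = (LP (LK LD1_c13 LD2_c24 LD3_c40)) :=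
  Lgr Lrot4 (Lpe (f459032 IH) (Lpr_ff (f459129 IH) (Lpe (f459131 IH) (Lpn (LP (LK LD1_c13 LD2_c24 LD3_c40))))))
theorem f459153 : Led Lsl_dt (LP (LK LD1_c13 LD2_c25 LD3_c24)) = (LP (LK LD1_c7 LD2_c4 LD3_c53)) :=
  Lre_d IH (LK LD1_c13 LD2_c25 LD3_c24) (LK LD1_c7 LD2_c4 LD3_c53) Lrfl Lrfl
theorem f459161 : Led Lsl_bt (LP (LK LD1_c7 LD2_c4 LD3_c53)) = (LP (LK LD1_c3 LD2_c31 LD3_c38)) :=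
  Lre_b IH (LK LD1_c7 LD2_c4 LD3_c53) (LK LD1_c3 LD2_c31 LD3_c38) Lrfl Lrfl
theorem f458998 : Led Lsl_bt (LP (LK LD1_c3 LD2_c31 LD3_c38)) = (LP (LK LD1_c7 LD2_c4 LD3_c53)) :=
  Lre_b IH (LK LD1_c3 LD2_c31 LD3_c38) (LK LD1_c7 LD2_c4 LD3_c53) Lrfl Lrfl
theorem f459295 : Led Lsl_cf (LP (LK LD1_c7 LD2_c4 LD3_c53)) = (LP (LK LD1_c7 LD2_c4 LD3_c53)) :=
  Lgr Lrot97 (Lpr_bt (f459161 IH) (Lpr_ct (K28.f455769 IH) (Lpr_bt (K28.f459293 IH) (Lpr_ct (K28.f458972 IH) (Lpr_bt (f458998 IH) (Lpn (LP (LK LD1_c7 LD2_c4 LD3_c53))))))))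
theorem f459155 : Led Lsl_dt (LP (LK LD1_c7 LD2_c4 LD3_c53)) = (LP (LK LD1_c13 LD2_c25 LD3_c24)) :=
  Lre_d IH (LK LD1_c7 LD2_c4 LD3_c53) (LK LD1_c13 LD2_c25 LD3_c24) Lrfl Lrfl
theorem f459034 : Led Lsl_ct (LP (LK LD1_c13 LD2_c25 LD3_c24)) = (LP (LK LD1_c22 LD2_c44 LD3_c18)) :=
  Lre_c IH (LK LD1_c13 LD2_c25 LD3_c24) (LK LD1_c22 LD2_c44 LD3_c18) Lrfl Lrfl
theorem f459134 : Led Lsl_dt (LP (LK LD1_c22 LD2_c44 LD3_c18)) = (LP (LK LD1_c30 LD2_c41 LD3_c31)) :=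
  Lre_d IH (LK LD1_c22 LD2_c44 LD3_c18) (LK LD1_c30 LD2_c41 LD3_c31) Lrfl Lrfl
theorem f465840 : Led Lsl_cf (LP (LK LD1_c31 LD2_c10 LD3_c0)) = (LP (LK LD1_c30 LD2_c41 LD3_c31)) :=
  Lgr Lrot161 (Lpr_dt (f463556 IH) (Lpr_ct (f463555 IH) (Lpr_af (f465832 IH) (Lpe (f459132 IH) (Lpr_dt (f459153 IH) (Lpe (f459295 IH) (Lpr_dt (f459155 IH) (Lpr_ct (f459034 IH) (Lpr_dt (f459134 IH) (Lpn (LP (LK LD1_c30 LD2_c41 LD3_c31))))))))))))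
theorem f463651 : Led Lsl_dt (LP (LK LD1_c14 LD2_c5 LD3_c56)) = (LP (LK LD1_c7 LD2_c28 LD3_c3)) :=
  Lre_d IH (LK LD1_c14 LD2_c5 LD3_c56) (LK LD1_c7 LD2_c28 LD3_c3) Lrfl Lrfl
theorem f459033 : Led Lsl_dt (LP (LK LD1_c30 LD2_c41 LD3_c31)) = (LP (LK LD1_c22 LD2_c44 LD3_c18)) :=
  Lre_d IH (LK LD1_c30 LD2_c41 LD3_c31) (LK LD1_c22 LD2_c44 LD3_c18) Lrfl Lrfl
theorem f465842 : Led Lsl_ct (LP (LK LD1_c31 LD2_c10 LD3_c0)) = (LP (LK LD1_c30 LD2_c41 LD3_c31)) :=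
  Lgr Lrot59 (Lpr_cf (f465840 IH) (Lpn (LP (LK LD1_c30 LD2_c41 LD3_c31))))
theorem f465844 : Led Lsl_dt (LP (LK LD1_c23 LD2_c39 LD3_c45)) = (LP (LK LD1_c31 LD2_c10 LD3_c0)) :=
  Lre_d IH (LK LD1_c23 LD2_c39 LD3_c45) (LK LD1_c31 LD2_c10 LD3_c0) Lrfl Lrfl
theorem f463557 : Led Lsl_ct (LP (LK LD1_c14 LD2_c5 LD3_c56)) = (LP (LK LD1_c23 LD2_c39 LD3_c45)) :=
  Lre_c IH (LK LD1_c14 LD2_c5 LD3_c56) (LK LD1_c23 LD2_c39 LD3_c45) Lrfl Lrfl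
theorem f465845 : Led Lsl_dt (LP (LK LD1_c7 LD2_c28 LD3_c3)) = (LP (LK LD1_c14 LD2_c5 LD3_c56)) :=
  Lre_d IH (LK LD1_c7 LD2_c28 LD3_c3) (LK LD1_c14 LD2_c5 LD3_c56) Lrfl Lrfl
theorem f465846 : Led Lsl_ct (LP (LK LD1_c7 LD2_c28 LD3_c3)) = (LP (LK LD1_c7 LD2_c28 LD3_c3)) :=
  Lgr Lrot176 (Lpe (f463651 IH) (Lpe (f463555 IH) (Lpe (f463556 IH) (Lpr_cf (f465840 IH) (Lpe (f459134 IH) (Lpe (f459034 IH) (Lpe (f459155 IH) (Lpr_cf (f459295 IH) (Lpe (f459153 IH) (Lpe (f459032 IH) (Lpe (f459033 IH) (Lpe (f465842 IH) (Lpe (f465844 IH) (Lpe (f463557 IH) (Lpe (f465845 IH) (Lpn (LP (LK LD1_c7 LD2_c28 LD3_c3))))))))))))))))))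
theorem f459003 : Led Lsl_bt (LP (LK LD1_c7 LD2_c4 LD3_c27)) = (LP (LK LD1_c3 LD2_c31 LD3_c23)) :=
  Lre_b IH (LK LD1_c7 LD2_c4 LD3_c27) (LK LD1_c3 LD2_c31 LD3_c23) Lrfl Lrfl
theorem f459004 : Led Lsl_ft (LP (LK LD1_c7 LD2_c4 LD3_c53)) = (LP (LK LD1_c7 LD2_c4 LD3_c27)) :=
  Lgr Lrot75 (Lpe (f458998 IH) (Lpr_ff (K28.f458994 IH) (Lpe (f459003 IH) (Lpn (LP (LK LD1_c7 LD2_c4 LD3_c27))))))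
theorem f465850 : Led Lsl_af (LP (LK LD1_c7 LD2_c28 LD3_c3)) = (LP (LK LD1_c7 LD2_c4 LD3_c27)) :=
  Lgr Lrot109 (Lpe (f465846 IH) (Lpe (f463651 IH) (Lpe (f463555 IH) (Lpe (f463556 IH) (Lpr_cf (f465840 IH) (Lpe (f459134 IH) (Lpe (f459034 IH) (Lpe (f459155 IH) (Lpr_ft (f459004 IH) (Lpn (LP (LK LD1_c7 LD2_c4 LD3_c27))))))))))))
theorem f465719 : Led Lsl_bt (LP (LK LD1_c7 LD2_c22 LD3_c37)) = (LP (LK LD1_c3 LD2_c41 LD3_c9)) :=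
  Lre_b IH (LK LD1_c7 LD2_c22 LD3_c37) (LK LD1_c3 LD2_c41 LD3_c9) Lrfl Lrfl
theorem f439185 : Led Lsl_bt (LP (LK LD1_c3 LD2_c43 LD3_c43)) = (LP (LK LD1_c7 LD2_c28 LD3_c3)) :=
  Lre_b IH (LK LD1_c3 LD2_c43 LD3_c43) (LK LD1_c7 LD2_c28 LD3_c3) Lrfl Lrfl
theorem f465735 : Led Lsl_ff (LP (LK LD1_c7 LD2_c22 LD3_c37)) = (LP (LK LD1_c7 LD2_c28 LD3_c3)) :=
  Lgr Lrot25 (Lpr_bt (f465719 IH) (Lpr_ft (K28.f465717 IH) (Lpr_bt (f439185 IH) (Lpn (LP (LK LD1_c7 LD2_c28 LD3_c3))))))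
theorem f465866 : Led Lsl_at (LP (LK LD1_c7 LD2_c22 LD3_c37)) = (LP (LK LD1_c7 LD2_c4 LD3_c53)) :=
  Lgr Lrot66 (Lpr_ff (f465735 IH) (Lpr_af (f465850 IH) (Lpe (f459004 IH) (Lpn (LP (LK LD1_c7 LD2_c4 LD3_c53))))))
theorem f465730 : Led Lsl_dt (LP (LK LD1_c13 LD2_c56 LD3_c60)) = (LP (LK LD1_c7 LD2_c22 LD3_c37)) :=
  Lre_d IH (LK LD1_c13 LD2_c56 LD3_c60) (LK LD1_c7 LD2_c22 LD3_c37) Lrfl Lrfl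
theorem f465868 : Led Lsl_af (LP (LK LD1_c13 LD2_c56 LD3_c60)) = (LP (LK LD1_c13 LD2_c25 LD3_c24)) :=
  Lgr Lrot117 (Lpr_dt (f465730 IH) (Lpr_at (f465866 IH) (Lpr_dt (f459155 IH) (Lpn (LP (LK LD1_c13 LD2_c25 LD3_c24))))))
theorem f465882 : Led Lsl_bt (LP (LK LD1_c13 LD2_c56 LD3_c60)) = (LP (LK LD1_c7 LD2_c22 LD3_c38)) :=
  Lre_b IH (LK LD1_c13 LD2_c56 LD3_c60) (LK LD1_c7 LD2_c22 LD3_c38) Lrfl Lrfl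
theorem f458963 : Led Lsl_bt (LP (LK LD1_c7 LD2_c4 LD3_c54)) = (LP (LK LD1_c13 LD2_c25 LD3_c24)) :=
  Lre_b IH (LK LD1_c7 LD2_c4 LD3_c54) (LK LD1_c13 LD2_c25 LD3_c24) Lrfl Lrfl
theorem f465883 : Led Lsl_at (LP (LK LD1_c7 LD2_c22 LD3_c38)) = (LP (LK LD1_c7 LD2_c4 LD3_c59)) :=
  Lgr Lrot67 (Lpe (f465882 IH) (Lpr_af (f465868 IH) (Lpe (f458963 IH) (Lpe (K33.f458960 IH) (Lpe (K24.f458836 IH) (Lpn (LP (LK LD1_c7 LD2_c4 LD3_c59))))))))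
theorem f439215 : Led Lsl_dt (LP (LK LD1_c7 LD2_c22 LD3_c38)) = (LP (LK LD1_c3 LD2_c41 LD3_c9)) :=
  Lre_d IH (LK LD1_c7 LD2_c22 LD3_c38) (LK LD1_c3 LD2_c41 LD3_c9) Lrfl Lrfl
theorem f465739 : Led Lsl_ff (LP (LK LD1_c7 LD2_c22 LD3_c38)) = (LP (LK LD1_c7 LD2_c28 LD3_c4)) :=
  Lgr Lrot19 (Lpr_dt (f439215 IH) (Lpr_ft (K28.f465717 IH) (Lpr_dt (K28.f463496 IH) (Lpn (LP (LK LD1_c7 LD2_c28 LD3_c4))))))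
theorem f438029 : Led Lsl_et (LP (LK LD1_c3 LD2_c54 LD3_c24)) = (LP (LK LD1_c1 LD2_c53 LD3_c47)) :=
  Lre_e IH (LK LD1_c3 LD2_c54 LD3_c24) (LK LD1_c1 LD2_c53 LD3_c47) Lrfl Lrfl
theorem f438030 : Led Lsl_dt (LP (LK LD1_c3 LD2_c54 LD3_c24)) = (LP (LK LD1_c7 LD2_c50 LD3_c27)) :=
  Lre_d IH (LK LD1_c3 LD2_c54 LD3_c24) (LK LD1_c7 LD2_c50 LD3_c27) Lrfl Lrfl
theorem f463551 : Led Lsl_gt (LP (LK LD1_c7 LD2_c28 LD3_c4)) = (LP (LK LD1_c7 LD2_c50 LD3_c27)) :=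
  Lgr Lrot139 (Lpe (K28.f463496 IH) (Lpr_gf (K28.f463538 IH) (Lpe (K28.f130738 IH) (Lpr_dt (K7.f124014 IH) (Lpr_gf (K6.f142712 IH) (Lpe (K6.f95897 IH) (Lpr_et (K29.f123416 IH) (Lpe (K33.f122789 IH) (Lpe (f438029 IH) (Lpr_dt (f438030 IH) (Lpn (LP (LK LD1_c7 LD2_c50 LD3_c27)))))))))))))
theorem f466092 : Led Lsl_gt (LP (LK LD1_c7 LD2_c50 LD3_c27)) = (LP (LK LD1_c7 LD2_c4 LD3_c59)) :=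
  Lgr Lrot46 (Lpe (f463551 IH) (Lpe (f465739 IH) (Lpr_at (f465883 IH) (Lpn (LP (LK LD1_c7 LD2_c4 LD3_c59))))))
theorem f463560 : Led Lsl_et (LP (LK LD1_c14 LD2_c47 LD3_c31)) = (LP (LK LD1_c7 LD2_c50 LD3_c27)) :=
  Lre_e IH (LK LD1_c14 LD2_c47 LD3_c31) (LK LD1_c7 LD2_c50 LD3_c27) Lrfl Lrfl
theorem f463561 : Led Lsl_dt (LP (LK LD1_c14 LD2_c47 LD3_c31)) = (LP (LK LD1_c7 LD2_c50 LD3_c26)) :=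
  Lre_d IH (LK LD1_c14 LD2_c47 LD3_c31) (LK LD1_c7 LD2_c50 LD3_c26) Lrfl Lrfl
theorem f455662 : Led Lsl_dt (LP (LK LD1_c7 LD2_c4 LD3_c59)) = (LP (LK LD1_c3 LD2_c31 LD3_c42)) :=
  Lre_d IH (LK LD1_c7 LD2_c4 LD3_c59) (LK LD1_c3 LD2_c31 LD3_c42) Lrfl Lrfl
theorem f130735 : Led Lsl_dt (LP (LK LD1_c3 LD2_c43 LD3_c60)) = (LP (LK LD1_c1 LD2_c49 LD3_c2)) :=
  Lre_d IH (LK LD1_c3 LD2_c43 LD3_c60) (LK LD1_c1 LD2_c49 LD3_c2) Lrfl Lrfl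
theorem f147149 : Led Lsl_et (LP (LK LD1_c3 LD2_c43 LD3_c60)) = (LP (LK LD1_c7 LD2_c28 LD3_c45)) :=
  Lre_e IH (LK LD1_c3 LD2_c43 LD3_c60) (LK LD1_c7 LD2_c28 LD3_c45) Lrfl Lrfl
theorem f147012 : Led Lsl_gt (LP (LK LD1_c7 LD2_c28 LD3_c45)) = (LP (LK LD1_c14 LD2_c7 LD3_c8)) :=
  Lre_g IH (LK LD1_c7 LD2_c28 LD3_c45) (LK LD1_c14 LD2_c7 LD3_c8) Lrfl Lrfl
theorem f147022 : Led Lsl_et (LP (LK LD1_c23 LD2_c41 LD3_c29)) = (LP (LK LD1_c14 LD2_c7 LD3_c8)) :=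
  Lre_e IH (LK LD1_c23 LD2_c41 LD3_c29) (LK LD1_c14 LD2_c7 LD3_c8) Lrfl Lrfl
theorem f466096 : Led Lsl_df (LP (LK LD1_c14 LD2_c47 LD3_c30)) = (LP (LK LD1_c23 LD2_c41 LD3_c29)) :=
  Lgr Lrot170 (Lpr_gt (f466095 IH) (Lpe (f463561 IH) (Lpr_et (f463560 IH) (Lpr_gt (f466092 IH) (Lpr_dt (f455662 IH) (Lpe (K28.f465764 IH) (Lpe (f130735 IH) (Lpr_et (f147149 IH) (Lpr_gt (f147012 IH) (Lpe (f147022 IH) (Lpn (LP (LK LD1_c23 LD2_c41 LD3_c29)))))))))))))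
theorem f147013 : Led Lsl_gf (LP (LK LD1_c13 LD2_c58 LD3_c7)) = (LP (LK LD1_c14 LD2_c7 LD3_c8)) :=
  Lgr Lrot76 (Lpr_af (K8.f146991 IH) (Lpe (K8.f147009 IH) (Lpr_gt (f147012 IH) (Lpn (LP (LK LD1_c14 LD2_c7 LD3_c8))))))
theorem f146887 : Led Lsl_et (LP (LK LD1_c1 LD2_c47 LD3_c36)) = (LP (LK LD1_c3 LD2_c41 LD3_c22)) :=
  Lre_e IH (LK LD1_c1 LD2_c47 LD3_c36) (LK LD1_c3 LD2_c41 LD3_c22) Lrfl Lrfl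
theorem f123915 : Led Lsl_et (LP (LK LD1_c3 LD2_c43 LD3_c59)) = (LP (LK LD1_c1 LD2_c49 LD3_c1)) :=
  Lre_e IH (LK LD1_c3 LD2_c43 LD3_c59) (LK LD1_c1 LD2_c49 LD3_c1) Lrfl Lrfl
theorem f146888 : Led Lsl_at (LP (LK LD1_c3 LD2_c41 LD3_c22)) = (LP (LK LD1_c3 LD2_c43 LD3_c59)) :=
  Lgr Lrot80 (Lpe (f146887 IH) (Lpr_af (K6.f146878 IH) (Lpe (f123915 IH) (Lpn (LP (LK LD1_c3 LD2_c43 LD3_c59))))))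
theorem f146894 : Led Lsl_ft (LP (LK LD1_c7 LD2_c23 LD3_c15)) = (LP (LK LD1_c3 LD2_c41 LD3_c22)) :=
  Lre_f IH (LK LD1_c7 LD2_c23 LD3_c15) (LK LD1_c3 LD2_c41 LD3_c22) Lrfl Lrfl
theorem f209863 : Led Lsl_gt (LP (LK LD1_c7 LD2_c28 LD3_c44)) = (LP (LK LD1_c3 LD2_c43 LD3_c59)) :=
  Lre_g IH (LK LD1_c7 LD2_c28 LD3_c44) (LK LD1_c3 LD2_c43 LD3_c59) Lrfl Lrfl
theorem f437058 : Led Lsl_gt (LP (LK LD1_c7 LD2_c23 LD3_c15)) = (LP (LK LD1_c7 LD2_c28 LD3_c44)) :=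
  Lgr Lrot5 (Lpr_ft (f146894 IH) (Lpr_at (f146888 IH) (Lpe (f209863 IH) (Lpn (LP (LK LD1_c7 LD2_c28 LD3_c44))))))
theorem f436829 : Led Lsl_dt (LP (LK LD1_c14 LD2_c7 LD3_c6)) = (LP (LK LD1_c7 LD2_c28 LD3_c44)) :=
  Lre_d IH (LK LD1_c14 LD2_c7 LD3_c6) (LK LD1_c7 LD2_c28 LD3_c44) Lrfl Lrfl
theorem f436978 : Led Lsl_et (LP (LK LD1_c14 LD2_c7 LD3_c6)) = (LP (LK LD1_c23 LD2_c41 LD3_c27)) :=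
  Lre_e IH (LK LD1_c14 LD2_c7 LD3_c6) (LK LD1_c23 LD2_c41 LD3_c27) Lrfl Lrfl
theorem f515660 : Led Lsl_gf (LP (LK LD1_c23 LD2_c32 LD3_c17)) = (LP (LK LD1_c23 LD2_c41 LD3_c27)) :=
  Lgr Lrot141 (Lpe (f515630 IH) (Lpe (f460822 IH) (Lpr_gt (f515656 IH) (Lpr_df (f466096 IH) (Lpr_et (f147022 IH) (Lpe (f147013 IH) (Lpr_dt (K28.f147005 IH) (Lpr_gt (f437058 IH) (Lpe (f436829 IH) (Lpr_et (f436978 IH) (Lpn (LP (LK LD1_c23 LD2_c41 LD3_c27)))))))))))))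
theorem f515250 : Led Lsl_gt (LP (LK LD1_c23 LD2_c25 LD3_c31)) = (LP (LK LD1_c13 LD2_c55 LD3_c0)) :=
  Lre_g IH (LK LD1_c23 LD2_c25 LD3_c31) (LK LD1_c13 LD2_c55 LD3_c0) Lrfl Lrfl
theorem f515251 : Led Lsl_gt (LP (LK LD1_c14 LD2_c0 LD3_c1)) = (LP (LK LD1_c23 LD2_c25 LD3_c31)) :=
  Lgr Lrot5 (Lpr_ft (K33.f515081 IH) (Lpr_at (K33.f515238 IH) (Lpe (f515250 IH) (Lpn (LP (LK LD1_c23 LD2_c25 LD3_c31))))))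
theorem f515257 : Led Lsl_dt (LP (LK LD1_c31 LD2_c2 LD3_c33)) = (LP (LK LD1_c23 LD2_c25 LD3_c31)) :=
  Lre_d IH (LK LD1_c31 LD2_c2 LD3_c33) (LK LD1_c23 LD2_c25 LD3_c31) Lrfl Lrfl
theorem f146983 : Led Lsl_af (LP (LK LD1_c23 LD2_c30 LD3_c14)) = (LP (LK LD1_c23 LD2_c41 LD3_c34)) :=
  Lgr Lrot0 (Lpr_at (K8.f146972 IH) (Lpn (LP (LK LD1_c23 LD2_c41 LD3_c34))))
theorem f147399 : Led Lsl_ft (LP (LK LD1_c14 LD2_c7 LD3_c18)) = (LP (LK LD1_c23 LD2_c41 LD3_c34)) :=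
  Lre_f IH (LK LD1_c14 LD2_c7 LD3_c18) (LK LD1_c23 LD2_c41 LD3_c34) Lrfl Lrfl
theorem f147400 : Led Lsl_gt (LP (LK LD1_c14 LD2_c7 LD3_c18)) = (LP (LK LD1_c23 LD2_c41 LD3_c49)) :=
  Lre_g IH (LK LD1_c14 LD2_c7 LD3_c18) (LK LD1_c23 LD2_c41 LD3_c49) Lrfl Lrfl
theorem f147401 : Led Lsl_gf (LP (LK LD1_c23 LD2_c30 LD3_c14)) = (LP (LK LD1_c23 LD2_c41 LD3_c49)) :=
  Lgr Lrot76 (Lpr_af (f146983 IH) (Lpe (f147399 IH) (Lpr_gt (f147400 IH) (Lpn (LP (LK LD1_c23 LD2_c41 LD3_c49))))))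
theorem f515662 : Led Lsl_et (LP (LK LD1_c31 LD2_c2 LD3_c33)) = (LP (LK LD1_c23 LD2_c41 LD3_c49)) :=
  Lgr Lrot185 (Lpr_dt (f515257 IH) (Lpe (f515251 IH) (Lpe (f515175 IH) (Lpr_gf (f515660 IH) (Lpe (f436978 IH) (Lpr_dt (f436829 IH) (Lpe (f437058 IH) (Lpe (K28.f147005 IH) (Lpr_et (K8.f146990 IH) (Lpr_gf (f147401 IH) (Lpn (LP (LK LD1_c23 LD2_c41 LD3_c49)))))))))))))
theorem f455648 : Led Lsl_gt (LP (LK LD1_c13 LD2_c24 LD3_c53)) = (LP (LK LD1_c7 LD2_c4 LD3_c34)) :=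
  Lre_g IH (LK LD1_c13 LD2_c24 LD3_c53) (LK LD1_c7 LD2_c4 LD3_c34) Lrfl Lrfl
theorem f458313 : Led Lsl_et (LP (LK LD1_c22 LD2_c43 LD3_c21)) = (LP (LK LD1_c13 LD2_c24 LD3_c53)) :=
  Lre_e IH (LK LD1_c22 LD2_c43 LD3_c21) (LK LD1_c13 LD2_c24 LD3_c53) Lrfl Lrfl
theorem f515670 : Led Lsl_df (LP (LK LD1_c13 LD2_c55 LD3_c0)) = (LP (LK LD1_c22 LD2_c43 LD3_c21)) :=
  Lgr Lrot168 (Lpe (f515250 IH) (Lpe (f515257 IH) (Lpr_et (f515662 IH) (Lpe (f147400 IH) (Lpe (K8.f146958 IH) (Lpr_dt (K8.f130746 IH) (Lpr_gf (K24.f460752 IH) (Lpe (K24.f455647 IH) (Lpe (f455648 IH) (Lpe (f458313 IH) (Lpn (LP (LK LD1_c22 LD2_c43 LD3_c21)))))))))))))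
theorem f515678 : Led Lsl_ft (LP (LK LD1_c30 LD2_c40 LD3_c42)) = (LP (LK LD1_c22 LD2_c43 LD3_c21)) :=
  Lre_f IH (LK LD1_c30 LD2_c40 LD3_c42) (LK LD1_c22 LD2_c43 LD3_c21) Lrfl Lrfl
theorem f515679 : Led Lsl_dt (LP (LK LD1_c23 LD2_c25 LD3_c32)) = (LP (LK LD1_c30 LD2_c40 LD3_c42)) :=
  Lgr Lrot60 (Lpe (K33.f515224 IH) (Lpr_df (f515670 IH) (Lpe (f515678 IH) (Lpn (LP (LK LD1_c30 LD2_c40 LD3_c42))))))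
theorem f482498 : Led Lsl_ft (LP (LK LD1_c7 LD2_c24 LD3_c7)) = (LP (LK LD1_c14 LD2_c0 LD3_c9)) :=
  Lre_f IH (LK LD1_c7 LD2_c24 LD3_c7) (LK LD1_c14 LD2_c0 LD3_c9) Lrfl Lrfl
theorem f515214 : Led Lsl_et (LP (LK LD1_c13 LD2_c55 LD3_c0)) = (LP (LK LD1_c7 LD2_c21 LD3_c38)) :=
  Lre_e IH (LK LD1_c13 LD2_c55 LD3_c0) (LK LD1_c7 LD2_c21 LD3_c38) Lrfl Lrfl
theorem f515215 : Led Lsl_ft (LP (LK LD1_c23 LD2_c25 LD3_c32)) = (LP (LK LD1_c13 LD2_c55 LD3_c0)) :=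
  Lre_f IH (LK LD1_c23 LD2_c25 LD3_c32) (LK LD1_c13 LD2_c55 LD3_c0) Lrfl Lrfl
theorem f515216 : Led Lsl_et (LP (LK LD1_c14 LD2_c0 LD3_c9)) = (LP (LK LD1_c23 LD2_c25 LD3_c32)) :=
  Lgr Lrot69 (Lpe (f482498 IH) (Lpe (K33.f482484 IH) (Lpr_ff (K33.f515208 IH) (Lpe (f515214 IH) (Lpe (f515215 IH) (Lpn (LP (LK LD1_c23 LD2_c25 LD3_c32))))))))
theorem f515517 : Led Lsl_et (LP (LK LD1_c14 LD2_c47 LD3_c32)) = (LP (LK LD1_c22 LD2_c55 LD3_c23)) :=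
  Lgr Lrot87 (Lpr_ef (f515512 IH) (Lpn (LP (LK LD1_c22 LD2_c55 LD3_c23))))
theorem f515521 : Led Lsl_dt (LP (LK LD1_c24 LD2_c33 LD3_c61)) = (LP (LK LD1_c14 LD2_c47 LD3_c32)) :=
  Lre_d IH (LK LD1_c24 LD2_c33 LD3_c61) (LK LD1_c14 LD2_c47 LD3_c32) Lrfl Lrfl
theorem f515687 : Led Lsl_ef (LP (LK LD1_c24 LD2_c33 LD3_c61)) = (LP (LK LD1_c30 LD2_c40 LD3_c42)) :=
  Lgr Lrot73 (Lpr_dt (f515521 IH) (Lpr_et (f515517 IH) (Lpr_dt (f482496 IH) (Lpr_et (f515216 IH) (Lpr_dt (f515679 IH) (Lpn (LP (LK LD1_c30 LD2_c40 LD3_c42))))))))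
theorem f515692 : Led Lsl_ft (LP (LK LD1_c24 LD2_c33 LD3_c61)) = (LP (LK LD1_c14 LD2_c47 LD3_c31)) :=
  Lre_f IH (LK LD1_c24 LD2_c33 LD3_c61) (LK LD1_c14 LD2_c47 LD3_c31) Lrfl Lrfl
theorem f515681 : Led Lsl_ft (LP (LK LD1_c22 LD2_c43 LD3_c21)) = (LP (LK LD1_c30 LD2_c40 LD3_c42)) :=
  Lre_f IH (LK LD1_c22 LD2_c43 LD3_c21) (LK LD1_c30 LD2_c40 LD3_c42) Lrfl Lrfl
theorem f515677 : Led Lsl_et (LP (LK LD1_c13 LD2_c24 LD3_c53)) = (LP (LK LD1_c22 LD2_c43 LD3_c21)) :=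
  Lre_e IH (LK LD1_c13 LD2_c24 LD3_c53) (LK LD1_c22 LD2_c43 LD3_c21) Lrfl Lrfl
theorem f515693 : Led Lsl_ft (LP (LK LD1_c7 LD2_c50 LD3_c27)) = (LP (LK LD1_c13 LD2_c24 LD3_c53)) :=
  Lgr Lrot86 (Lpe (f463560 IH) (Lpe (f515692 IH) (Lpr_ef (f515687 IH) (Lpe (f515681 IH) (Lpe (f515677 IH) (Lpn (LP (LK LD1_c13 LD2_c24 LD3_c53))))))))
theorem f515697 : Led Lsl_ff (LP (LK LD1_c7 LD2_c50 LD3_c27)) = (LP (LK LD1_c13 LD2_c24 LD3_c53)) :=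
  Lgr Lrot3 (Lpr_ft (f515693 IH) (Lpn (LP (LK LD1_c13 LD2_c24 LD3_c53))))
theorem f515704 : Led Lsl_at (LP (LK LD1_c7 LD2_c50 LD3_c27)) = (LP (LK LD1_c13 LD2_c24 LD3_c52)) :=
  Lgr Lrot26 (Lpr_ff (f515697 IH) (Lpr_gt (f455648 IH) (Lpr_gt (K33.f458268 IH) (Lpn (LP (LK LD1_c13 LD2_c24 LD3_c52))))))
theorem f515708 : Led Lsl_af (LP (LK LD1_c3 LD2_c54 LD3_c24)) = (LP (LK LD1_c7 LD2_c49 LD3_c32)) :=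
  Lgr Lrot117 (Lpr_dt (f438030 IH) (Lpr_at (f515704 IH) (Lpe (K33.f460798 IH) (Lpn (LP (LK LD1_c7 LD2_c49 LD3_c32))))))
theorem f515746 : Led Lsl_at (LP (LK LD1_c1 LD2_c53 LD3_c47)) = (LP (LK LD1_c3 LD2_c53 LD3_c57)) :=
  Lgr Lrot80 (Lpe (f438029 IH) (Lpr_af (f515708 IH) (Lpe (K33.f460800 IH) (Lpn (LP (LK LD1_c3 LD2_c53 LD3_c57))))))
theorem f485510 : Led Lsl_at (LP (LK LD1_c7 LD2_c38 LD3_c47)) = (LP (LK LD1_c14 LD2_c24 LD3_c39)) :=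
  Lre_a IH (LK LD1_c7 LD2_c38 LD3_c47) (LK LD1_c14 LD2_c24 LD3_c39) Lrfl Lrfl
theorem f515750 : Led Lsl_bf (LP (LK LD1_c7 LD2_c50 LD3_c22)) = (LP (LK LD1_c14 LD2_c24 LD3_c39)) :=
  Lgr Lrot81 (Lpr_at (K33.f456097 IH) (Lpr_bt (K33.f122790 IH) (Lpr_at (f515746 IH) (Lpr_bt (K33.f484758 IH) (Lpr_at (f485510 IH) (Lpn (LP (LK LD1_c14 LD2_c24 LD3_c39))))))))
theorem f456618 : Led Lsl_bt (LP (LK LD1_c3 LD2_c55 LD3_c23)) = (LP (LK LD1_c1 LD2_c54 LD3_c16)) :=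
  Lre_b IH (LK LD1_c3 LD2_c55 LD3_c23) (LK LD1_c1 LD2_c54 LD3_c16) Lrfl Lrfl
theorem f122787 : Led Lsl_bt (LP (LK LD1_c1 LD2_c54 LD3_c16)) = (LP (LK LD1_c3 LD2_c55 LD3_c23)) :=
  Lre_b IH (LK LD1_c1 LD2_c54 LD3_c16) (LK LD1_c3 LD2_c55 LD3_c23) Lrfl Lrfl
theorem f6630 : Led Lsl_bt (LP (LK LD1_c7 LD2_c13 LD3_c0)) = (LP (LK LD1_c3 LD2_c36 LD3_c19)) :=
  Lre_b IH (LK LD1_c7 LD2_c13 LD3_c0) (LK LD1_c3 LD2_c36 LD3_c19) Lrfl Lrfl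
theorem f456626 : Led Lsl_ct (LP (LK LD1_c3 LD2_c55 LD3_c23)) = (LP (LK LD1_c7 LD2_c13 LD3_c0)) :=
  Lgr Lrot83 (Lpe (f122787 IH) (Lpe (K29.f446416 IH) (Lpe (K29.f437652 IH) (Lpr_cf (K29.f456622 IH) (Lpe (f6630 IH) (Lpn (LP (LK LD1_c7 LD2_c13 LD3_c0))))))))
theorem f488806 : Led Lsl_gt (LP (LK LD1_c7 LD2_c8 LD3_c2)) = (LP (LK LD1_c7 LD2_c13 LD3_c0)) :=
  Lgr Lrot65 (Lpe (K8.f155675 IH) (Lpr_bt (K8.f155653 IH) (Lpr_gf (K33.f488784 IH) (Lpe (K33.f480177 IH) (Lpr_ct (K33.f480259 IH) (Lpe (K33.f476896 IH) (Lpr_cf (K29.f480812 IH) (Lpe (K29.f446417 IH) (Lpe (f456618 IH) (Lpr_ct (f456626 IH) (Lpn (LP (LK LD1_c7 LD2_c13 LD3_c0)))))))))))))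
theorem f515795 : Led Lsl_gt (LP (LK LD1_c7 LD2_c50 LD3_c22)) = (LP (LK LD1_c7 LD2_c51 LD3_c45)) :=
  Lgr Lrot82 (Lpr_bf (f515750 IH) (Lpr_ct (K33.f484904 IH) (Lpr_gf (K33.f515565 IH) (Lpr_cf (K33.f480810 IH) (Lpr_bt (K33.f456640 IH) (Lpe (K29.f446417 IH) (Lpe (f456618 IH) (Lpr_ct (f456626 IH) (Lpe (f488806 IH) (Lpe (K8.f155675 IH) (Lpn (LP (LK LD1_c7 LD2_c51 LD3_c45)))))))))))))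
theorem f515470 : Led Lsl_ft (LP (LK LD1_c7 LD2_c50 LD3_c23)) = (LP (LK LD1_c13 LD2_c32 LD3_c55)) :=
  Lgr Lrot48 (Lpr_ff (f515457 IH) (Lpn (LP (LK LD1_c13 LD2_c32 LD3_c55))))
theorem f515480 : Led Lsl_at (LP (LK LD1_c14 LD2_c47 LD3_c18)) = (LP (LK LD1_c7 LD2_c50 LD3_c23)) :=
  Lre_a IH (LK LD1_c14 LD2_c47 LD3_c18) (LK LD1_c7 LD2_c50 LD3_c23) Lrfl Lrfl
theorem f515143 : Led Lsl_at (LP (LK LD1_c13 LD2_c32 LD3_c55)) = (LP (LK LD1_c22 LD2_c55 LD3_c16)) :=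
  Lre_a IH (LK LD1_c13 LD2_c32 LD3_c55) (LK LD1_c22 LD2_c55 LD3_c16) Lrfl Lrfl
theorem f515481 : Led Lsl_ff (LP (LK LD1_c14 LD2_c47 LD3_c18)) = (LP (LK LD1_c22 LD2_c55 LD3_c16)) :=
  Lgr Lrot30 (Lpr_at (f515480 IH) (Lpr_ft (f515470 IH) (Lpr_at (f515143 IH) (Lpn (LP (LK LD1_c22 LD2_c55 LD3_c16))))))
theorem f515475 : Led Lsl_dt (LP (LK LD1_c14 LD2_c47 LD3_c18)) = (LP (LK LD1_c7 LD2_c50 LD3_c22)) :=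
  Lre_d IH (LK LD1_c14 LD2_c47 LD3_c18) (LK LD1_c7 LD2_c50 LD3_c22) Lrfl Lrfl
theorem f482577 : Led Lsl_dt (LP (LK LD1_c13 LD2_c32 LD3_c54)) = (LP (LK LD1_c22 LD2_c55 LD3_c16)) :=
  Lre_d IH (LK LD1_c13 LD2_c32 LD3_c54) (LK LD1_c22 LD2_c55 LD3_c16) Lrfl Lrfl
theorem f515500 : Led Lsl_ft (LP (LK LD1_c7 LD2_c50 LD3_c22)) = (LP (LK LD1_c13 LD2_c32 LD3_c54)) :=
  Lgr Lrot54 (Lpe (f515475 IH) (Lpr_ff (f515481 IH) (Lpe (f482577 IH) (Lpn (LP (LK LD1_c13 LD2_c32 LD3_c54))))))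
theorem f515797 : Led Lsl_gf (LP (LK LD1_c7 LD2_c9 LD3_c9)) = (LP (LK LD1_c7 LD2_c51 LD3_c45)) :=
  Lgr Lrot76 (Lpe (K33.f482576 IH) (Lpe (f515500 IH) (Lpr_gt (f515795 IH) (Lpn (LP (LK LD1_c7 LD2_c51 LD3_c45))))))
theorem f482414 : Led Lsl_gt (LP (LK LD1_c7 LD2_c9 LD3_c9)) = (LP (LK LD1_c13 LD2_c32 LD3_c53)) :=
  Lre_g IH (LK LD1_c7 LD2_c9 LD3_c9) (LK LD1_c13 LD2_c32 LD3_c53) Lrfl Lrfl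
theorem f488911 : Led Lsl_ft (LP (LK LD1_c7 LD2_c14 LD3_c1)) = (LP (LK LD1_c7 LD2_c8 LD3_c31)) :=
  Lgr Lrot48 (Lpr_ff (K33.f488903 IH) (Lpn (LP (LK LD1_c7 LD2_c8 LD3_c31))))
theorem f489261 : Led Lsl_ft (LP (LK LD1_c7 LD2_c14 LD3_c46)) = (LP (LK LD1_c7 LD2_c8 LD3_c2)) :=
  Lgr Lrot75 (Lpr_bf (K33.f489254 IH) (Lpe (f488911 IH) (Lpr_bf (K8.f155680 IH) (Lpn (LP (LK LD1_c7 LD2_c8 LD3_c2))))))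
theorem f489267 : Led Lsl_ff (LP (LK LD1_c7 LD2_c14 LD3_c46)) = (LP (LK LD1_c7 LD2_c8 LD3_c2)) :=
  Lgr Lrot3 (Lpr_ft (f489261 IH) (Lpn (LP (LK LD1_c7 LD2_c8 LD3_c2))))
theorem f489313 : Led Lsl_ff (LP (LK LD1_c7 LD2_c51 LD3_c45)) = (LP (LK LD1_c7 LD2_c50 LD3_c21)) :=
  Lgr Lrot23 (Lpr_ct (K8.f155675 IH) (Lpe (f489267 IH) (Lpr_ct (K33.f489307 IH) (Lpn (LP (LK LD1_c7 LD2_c50 LD3_c21))))))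
theorem f489323 : Led Lsl_ft (LP (LK LD1_c7 LD2_c51 LD3_c45)) = (LP (LK LD1_c7 LD2_c50 LD3_c21)) :=
  Lgr Lrot48 (Lpr_ff (f489313 IH) (Lpn (LP (LK LD1_c7 LD2_c50 LD3_c21))))
theorem f515799 : Led Lsl_af (LP (LK LD1_c13 LD2_c32 LD3_c53)) = (LP (LK LD1_c7 LD2_c50 LD3_c21)) :=
  Lgr Lrot31 (Lpe (f482414 IH) (Lpr_gf (f515797 IH) (Lpr_ft (f489323 IH) (Lpn (LP (LK LD1_c7 LD2_c50 LD3_c21))))))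
theorem f515811 : Led Lsl_ft (LP (LK LD1_c13 LD2_c32 LD3_c53)) = (LP (LK LD1_c7 LD2_c49 LD3_c52)) :=
  Lgr Lrot101 (Lpr_af (f515799 IH) (Lpe (f489323 IH) (Lpr_af (K33.f162043 IH) (Lpn (LP (LK LD1_c7 LD2_c49 LD3_c52))))))
theorem f515818 : Led Lsl_gt (LP (LK LD1_c13 LD2_c32 LD3_c53)) = (LP (LK LD1_c7 LD2_c50 LD3_c22)) :=
  Lgr Lrot5 (Lpr_ft (f515811 IH) (Lpe (K33.f162043 IH) (Lpe (f515795 IH) (Lpn (LP (LK LD1_c7 LD2_c50 LD3_c22))))))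
theorem f482598 : Led Lsl_bt (LP (LK LD1_c22 LD2_c55 LD3_c14)) = (LP (LK LD1_c13 LD2_c32 LD3_c53)) :=
  Lre_b IH (LK LD1_c22 LD2_c55 LD3_c14) (LK LD1_c13 LD2_c32 LD3_c53) Lrfl Lrfl
theorem f440188 : Led Lsl_ft (LP (LK LD1_c6 LD2_c55 LD3_c28)) = (LP (LK LD1_c3 LD2_c26 LD3_c50)) :=
  Lre_f IH (LK LD1_c6 LD2_c55 LD3_c28) (LK LD1_c3 LD2_c26 LD3_c50) Lrfl Lrfl
theorem f515569 : Led Lsl_gt (LP (LK LD1_c7 LD2_c38 LD3_c46)) = (LP (LK LD1_c6 LD2_c55 LD3_c23)) :=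
  Lgr Lrot46 (Lpr_gf (K33.f515565 IH) (Lpr_ft (f440188 IH) (Lpr_at (K29.f136542 IH) (Lpn (LP (LK LD1_c6 LD2_c55 LD3_c23))))))
theorem f136554 : Led Lsl_ct (LP (LK LD1_c6 LD2_c55 LD3_c23)) = (LP (LK LD1_c13 LD2_c8 LD3_c50)) :=
  Lre_c IH (LK LD1_c6 LD2_c55 LD3_c23) (LK LD1_c13 LD2_c8 LD3_c50) Lrfl Lrfl
theorem f136786 : Led Lsl_bt (LP (LK LD1_c13 LD2_c8 LD3_c50)) = (LP (LK LD1_c7 LD2_c21 LD3_c7)) :=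
  Lgr Lrot128 (Lpe (f136554 IH) (Lpe (K33.f136546 IH) (Lpe (K29.f136663 IH) (Lpe (K29.f110101 IH) (Lpr_cf (K29.f136781 IH) (Lpn (LP (LK LD1_c7 LD2_c21 LD3_c7))))))))
theorem f136795 : Led Lsl_gt (LP (LK LD1_c7 LD2_c21 LD3_c7)) = (LP (LK LD1_c13 LD2_c53 LD3_c59)) :=
  Lre_g IH (LK LD1_c7 LD2_c21 LD3_c7) (LK LD1_c13 LD2_c53 LD3_c59) Lrfl Lrfl
theorem f488990 : Led Lsl_bt (LP (LK LD1_c14 LD2_c19 LD3_c38)) = (LP (LK LD1_c7 LD2_c42 LD3_c0)) :=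
  Lgr Lrot127 (Lpr_bf (K33.f488943 IH) (Lpn (LP (LK LD1_c7 LD2_c42 LD3_c0))))
theorem f481118 : Led Lsl_ct (LP (LK LD1_c7 LD2_c39 LD3_c33)) = (LP (LK LD1_c13 LD2_c43 LD3_c29)) :=
  Lgr Lrot59 (Lpr_cf (K33.f481115 IH) (Lpn (LP (LK LD1_c13 LD2_c43 LD3_c29))))
theorem f481124 : Led Lsl_gt (LP (LK LD1_c3 LD2_c49 LD3_c26)) = (LP (LK LD1_c7 LD2_c39 LD3_c33)) :=
  Lre_g IH (LK LD1_c3 LD2_c49 LD3_c26) (LK LD1_c7 LD2_c39 LD3_c33) Lrfl Lrfl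
theorem f477711 : Led Lsl_bt (LP (LK LD1_c7 LD2_c39 LD3_c45)) = (LP (LK LD1_c3 LD2_c49 LD3_c26)) :=
  Lre_b IH (LK LD1_c7 LD2_c39 LD3_c45) (LK LD1_c3 LD2_c49 LD3_c26) Lrfl Lrfl
theorem f489007 : Led Lsl_cf (LP (LK LD1_c13 LD2_c53 LD3_c59)) = (LP (LK LD1_c7 LD2_c39 LD3_c45)) :=
  Lgr Lrot58 (Lpe (f136795 IH) (Lpe (K29.f136788 IH) (Lpr_bt (K29.f110101 IH) (Lpe (K33.f136667 IH) (Lpe (f488990 IH) (Lpr_ct (K33.f488998 IH) (Lpe (K33.f487782 IH) (Lpe (f481118 IH) (Lpe (f481124 IH) (Lpe (f477711 IH) (Lpn (LP (LK LD1_c7 LD2_c39 LD3_c45)))))))))))))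
theorem f489010 : Led Lsl_ct (LP (LK LD1_c13 LD2_c53 LD3_c59)) = (LP (LK LD1_c7 LD2_c39 LD3_c45)) :=
  Lgr Lrot59 (Lpr_cf (f489007 IH) (Lpn (LP (LK LD1_c7 LD2_c39 LD3_c45))))
theorem f489013 : Led Lsl_gt (LP (LK LD1_c7 LD2_c39 LD3_c45)) = (LP (LK LD1_c14 LD2_c26 LD3_c24)) :=
  Lre_g IH (LK LD1_c7 LD2_c39 LD3_c45) (LK LD1_c14 LD2_c26 LD3_c24) Lrfl Lrfl
theorem f515820 : Led Lsl_ct (LP (LK LD1_c22 LD2_c55 LD3_c14)) = (LP (LK LD1_c14 LD2_c26 LD3_c24)) :=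
  Lgr Lrot63 (Lpr_bt (f482598 IH) (Lpr_gt (f515818 IH) (Lpr_bf (f515750 IH) (Lpr_ct (K33.f484904 IH) (Lpr_gt (f515569 IH) (Lpe (K33.f136549 IH) (Lpr_bt (f136786 IH) (Lpr_gt (f136795 IH) (Lpr_ct (f489010 IH) (Lpr_gt (f489013 IH) (Lpn (LP (LK LD1_c14 LD2_c26 LD3_c24)))))))))))))
theorem f482471 : Led Lsl_bt (LP (LK LD1_c3 LD2_c34 LD3_c1)) = (LP (LK LD1_c7 LD2_c9 LD3_c9)) :=
  Lre_b IH (LK LD1_c3 LD2_c34 LD3_c1) (LK LD1_c7 LD2_c9 LD3_c9) Lrfl Lrfl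
theorem f488020 : Led Lsl_gf (LP (LK LD1_c3 LD2_c40 LD3_c4)) = (LP (LK LD1_c1 LD2_c53 LD3_c55)) :=
  Lgr Lrot76 (Lpr_af (K7.f132058 IH) (Lpe (K33.f485210 IH) (Lpr_gt (K33.f488016 IH) (Lpn (LP (LK LD1_c1 LD2_c53 LD3_c55))))))
theorem f488018 : Led Lsl_bt (LP (LK LD1_c3 LD2_c54 LD3_c39)) = (LP (LK LD1_c1 LD2_c53 LD3_c55)) :=
  Lre_b IH (LK LD1_c3 LD2_c54 LD3_c39) (LK LD1_c1 LD2_c53 LD3_c55) Lrfl Lrfl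
theorem f477053 : Led Lsl_ct (LP (LK LD1_c3 LD2_c54 LD3_c39)) = (LP (LK LD1_c7 LD2_c50 LD3_c57)) :=
  Lre_c IH (LK LD1_c3 LD2_c54 LD3_c39) (LK LD1_c7 LD2_c50 LD3_c57) Lrfl Lrfl
theorem f515827 : Led Lsl_gf (LP (LK LD1_c7 LD2_c50 LD3_c57)) = (LP (LK LD1_c14 LD2_c26 LD3_c24)) :=
  Lgr Lrot126 (Lpe (f477053 IH) (Lpr_bt (f488018 IH) (Lpe (f488020 IH) (Lpr_ct (K5.f96342 IH) (Lpr_gt (K33.f482594 IH) (Lpe (K33.f455995 IH) (Lpr_bt (f482471 IH) (Lpr_gt (f482414 IH) (Lpe (f482598 IH) (Lpr_ct (f515820 IH) (Lpn (LP (LK LD1_c14 LD2_c26 LD3_c24)))))))))))))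
theorem f515833 : Led Lsl_gt (LP (LK LD1_c14 LD2_c19 LD3_c2)) = (LP (LK LD1_c22 LD2_c55 LD3_c14)) :=
  Lgr Lrot82 (Lpe (K33.f485117 IH) (Lpr_ct (K33.f96467 IH) (Lpe (K33.f96466 IH) (Lpe (K33.f84958 IH) (Lpe (K33.f96345 IH) (Lpr_gf (f488020 IH) (Lpe (f488018 IH) (Lpr_ct (f477053 IH) (Lpr_gf (f515827 IH) (Lpe (f515820 IH) (Lpn (LP (LK LD1_c22 LD2_c55 LD3_c14)))))))))))))
theorem f467456 : Led Lsl_cf (LP (LK LD1_c1 LD2_c45 LD3_c33)) = (LP (LK LD1_c1 LD2_c51 LD3_c48)) :=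
  Lgr Lrot11 (Lpr_ct (K29.f467448 IH) (Lpn (LP (LK LD1_c1 LD2_c51 LD3_c48))))
theorem f461747 : Led Lsl_gt (LP (LK LD1_c7 LD2_c40 LD3_c7)) = (LP (LK LD1_c3 LD2_c49 LD3_c37)) :=
  Lre_g IH (LK LD1_c7 LD2_c40 LD3_c7) (LK LD1_c3 LD2_c49 LD3_c37) Lrfl Lrfl
theorem f515822 : Led Lsl_cf (LP (LK LD1_c22 LD2_c55 LD3_c14)) = (LP (LK LD1_c14 LD2_c26 LD3_c24)) :=
  Lgr Lrot11 (Lpr_ct (f515820 IH) (Lpn (LP (LK LD1_c14 LD2_c26 LD3_c24))))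
theorem f515839 : Led Lsl_bf (LP (LK LD1_c7 LD2_c40 LD3_c7)) = (LP (LK LD1_c14 LD2_c26 LD3_c24)) :=
  Lgr Lrot156 (Lpr_gt (f461747 IH) (Lpe (K33.f467453 IH) (Lpe (f467456 IH) (Lpr_gt (K29.f467479 IH) (Lpr_cf (K5.f91268 IH) (Lpr_bt (K5.f91267 IH) (Lpr_gt (K33.f91273 IH) (Lpr_ct (K33.f91280 IH) (Lpr_gt (f515833 IH) (Lpr_cf (f515822 IH) (Lpn (LP (LK LD1_c14 LD2_c26 LD3_c24)))))))))))))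
theorem f95156 : Led Lsl_ft (LP (LK LD1_c7 LD2_c36 LD3_c0)) = (LP (LK LD1_c14 LD2_c19 LD3_c43)) :=
  Lre_f IH (LK LD1_c7 LD2_c36 LD3_c0) (LK LD1_c14 LD2_c19 LD3_c43) Lrfl Lrfl
theorem f489194 : Led Lsl_ff (LP (LK LD1_c7 LD2_c37 LD3_c43)) = (LP (LK LD1_c14 LD2_c18 LD3_c18)) :=
  Lgr Lrot25 (Lpe (K8.f95147 IH) (Lpr_ft (f95156 IH) (Lpr_bt (K33.f489188 IH) (Lpn (LP (LK LD1_c14 LD2_c18 LD3_c18))))))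
theorem f104063 : Led Lsl_et (LP (LK LD1_c13 LD2_c29 LD3_c58)) = (LP (LK LD1_c7 LD2_c7 LD3_c29)) :=
  Lre_e IH (LK LD1_c13 LD2_c29 LD3_c58) (LK LD1_c7 LD2_c7 LD3_c29) Lrfl Lrfl
theorem f162179 : Led Lsl_af (LP (LK LD1_c13 LD2_c29 LD3_c58)) = (LP (LK LD1_c7 LD2_c37 LD3_c43)) :=
  Lgr Lrot50 (Lpr_et (f104063 IH) (Lpr_at (K8.f162171 IH) (Lpr_et (K8.f95146 IH) (Lpn (LP (LK LD1_c7 LD2_c37 LD3_c43))))))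
theorem f488941 : Led Lsl_gf (LP (LK LD1_c7 LD2_c37 LD3_c43)) = (LP (LK LD1_c3 LD2_c49 LD3_c37)) :=
  Lgr Lrot126 (Lpe (K28.f96788 IH) (Lpr_bt (K8.f96785 IH) (Lpr_gt (K33.f488934 IH) (Lpr_ct (K29.f6663 IH) (Lpe (K29.f477981 IH) (Lpe (K29.f477954 IH) (Lpr_bt (K29.f477969 IH) (Lpr_gt (K29.f477976 IH) (Lpe (K33.f97103 IH) (Lpr_ct (K33.f467508 IH) (Lpn (LP (LK LD1_c3 LD2_c49 LD3_c37)))))))))))))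
theorem f162725 : Led Lsl_af (LP (LK LD1_c12 LD2_c1 LD3_c55)) = (LP (LK LD1_c7 LD2_c31 LD3_c37)) :=
  Lgr Lrot68 (Lpr_ct (K7.f105242 IH) (Lpr_at (K8.f162721 IH) (Lpr_ct (K4.f96085 IH) (Lpn (LP (LK LD1_c7 LD2_c31 LD3_c37))))))
theorem f111866 : Led Lsl_bf (LP (LK LD1_c7 LD2_c31 LD3_c37)) = (LP (LK LD1_c7 LD2_c32 LD3_c0)) :=
  Lgr Lrot24 (Lpr_bt (K4.f111863 IH) (Lpn (LP (LK LD1_c7 LD2_c32 LD3_c0))))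
theorem f17318 : Led Lsl_dt (LP (LK LD1_c3 LD2_c48 LD3_c20)) = (LP (LK LD1_c7 LD2_c37 LD3_c42)) :=
  Lre_d IH (LK LD1_c3 LD2_c48 LD3_c20) (LK LD1_c7 LD2_c37 LD3_c42) Lrfl Lrfl
theorem f162177 : Led Lsl_af (LP (LK LD1_c7 LD2_c32 LD3_c0)) = (LP (LK LD1_c7 LD2_c37 LD3_c42)) :=
  Lgr Lrot117 (Lpr_dt (K8.f127262 IH) (Lpr_at (K8.f162171 IH) (Lpr_dt (f17318 IH) (Lpn (LP (LK LD1_c7 LD2_c37 LD3_c42))))))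
theorem f206075 : Led Lsl_bt (LP (LK LD1_c6 LD2_c33 LD3_c8)) = (LP (LK LD1_c7 LD2_c37 LD3_c42)) :=
  Lgr Lrot62 (Lpr_af (K24.f205999 IH) (Lpe (K7.f156605 IH) (Lpr_af (f162725 IH) (Lpr_bf (f111866 IH) (Lpr_af (f162177 IH) (Lpn (LP (LK LD1_c7 LD2_c37 LD3_c42))))))))
theorem f206090 : Led Lsl_ft (LP (LK LD1_c7 LD2_c37 LD3_c42)) = (LP (LK LD1_c7 LD2_c31 LD3_c61)) :=
  Lgr Lrot75 (Lpe (f206075 IH) (Lpr_ff (K24.f206088 IH) (Lpr_bf (K8.f162641 IH) (Lpn (LP (LK LD1_c7 LD2_c31 LD3_c61))))))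
theorem f206558 : Led Lsl_af (LP (LK LD1_c7 LD2_c37 LD3_c42)) = (LP (LK LD1_c7 LD2_c32 LD3_c0)) :=
  Lgr Lrot45 (Lpr_ft (f206090 IH) (Lpe (K8.f162656 IH) (Lpe (K8.f162163 IH) (Lpn (LP (LK LD1_c7 LD2_c32 LD3_c0))))))
theorem f93074 : Led Lsl_et (LP (LK LD1_c7 LD2_c37 LD3_c42)) = (LP (LK LD1_c14 LD2_c22 LD3_c38)) :=
  Lre_e IH (LK LD1_c7 LD2_c37 LD3_c42) (LK LD1_c14 LD2_c22 LD3_c38) Lrfl Lrfl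
theorem f111839 : Led Lsl_et (LP (LK LD1_c14 LD2_c12 LD3_c32)) = (LP (LK LD1_c7 LD2_c32 LD3_c0)) :=
  Lre_e IH (LK LD1_c14 LD2_c12 LD3_c32) (LK LD1_c7 LD2_c32 LD3_c0) Lrfl Lrfl
theorem f206566 : Led Lsl_at (LP (LK LD1_c14 LD2_c22 LD3_c38)) = (LP (LK LD1_c14 LD2_c12 LD3_c32)) :=
  Lgr Lrot80 (Lpe (f93074 IH) (Lpr_af (f206558 IH) (Lpe (f111839 IH) (Lpn (LP (LK LD1_c14 LD2_c12 LD3_c32))))))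
theorem f206571 : Led Lsl_dt (LP (LK LD1_c24 LD2_c0 LD3_c49)) = (LP (LK LD1_c14 LD2_c22 LD3_c38)) :=
  Lre_d IH (LK LD1_c24 LD2_c0 LD3_c49) (LK LD1_c14 LD2_c22 LD3_c38) Lrfl Lrfl
theorem f111840 : Led Lsl_dt (LP (LK LD1_c14 LD2_c12 LD3_c32)) = (LP (LK LD1_c23 LD2_c47 LD3_c44)) :=
  Lre_d IH (LK LD1_c14 LD2_c12 LD3_c32) (LK LD1_c23 LD2_c47 LD3_c44) Lrfl Lrfl
theorem f206572 : Led Lsl_af (LP (LK LD1_c24 LD2_c0 LD3_c49)) = (LP (LK LD1_c23 LD2_c47 LD3_c44)) :=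
  Lgr Lrot117 (Lpr_dt (f206571 IH) (Lpr_at (f206566 IH) (Lpr_dt (f111840 IH) (Lpn (LP (LK LD1_c23 LD2_c47 LD3_c44))))))
theorem f95169 : Led Lsl_et (LP (LK LD1_c24 LD2_c0 LD3_c49)) = (LP (LK LD1_c14 LD2_c22 LD3_c39)) :=
  Lre_e IH (LK LD1_c24 LD2_c0 LD3_c49) (LK LD1_c14 LD2_c22 LD3_c39) Lrfl Lrfl
theorem f127267 : Led Lsl_dt (LP (LK LD1_c23 LD2_c47 LD3_c44)) = (LP (LK LD1_c14 LD2_c12 LD3_c32)) :=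
  Lre_d IH (LK LD1_c23 LD2_c47 LD3_c44) (LK LD1_c14 LD2_c12 LD3_c32) Lrfl Lrfl
theorem f127268 : Led Lsl_et (LP (LK LD1_c7 LD2_c7 LD3_c29)) = (LP (LK LD1_c13 LD2_c29 LD3_c58)) :=
  Lre_e IH (LK LD1_c7 LD2_c7 LD3_c29) (LK LD1_c13 LD2_c29 LD3_c58) Lrfl Lrfl
theorem f104064 : Led Lsl_dt (LP (LK LD1_c13 LD2_c29 LD3_c58)) = (LP (LK LD1_c22 LD2_c50 LD3_c44)) :=
  Lre_d IH (LK LD1_c13 LD2_c29 LD3_c58) (LK LD1_c22 LD2_c50 LD3_c44) Lrfl Lrfl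
theorem f127269 : Led Lsl_ef (LP (LK LD1_c23 LD2_c47 LD3_c44)) = (LP (LK LD1_c22 LD2_c50 LD3_c44)) :=
  Lgr Lrot73 (Lpr_dt (f127267 IH) (Lpr_et (f111839 IH) (Lpr_dt (K8.f127262 IH) (Lpr_et (f127268 IH) (Lpr_dt (f104064 IH) (Lpn (LP (LK LD1_c22 LD2_c50 LD3_c44))))))))
theorem f206578 : Led Lsl_at (LP (LK LD1_c14 LD2_c22 LD3_c39)) = (LP (LK LD1_c22 LD2_c50 LD3_c44)) :=
  Lgr Lrot80 (Lpe (f95169 IH) (Lpr_af (f206572 IH) (Lpr_ef (f127269 IH) (Lpn (LP (LK LD1_c22 LD2_c50 LD3_c44))))))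
theorem f95168 : Led Lsl_dt (LP (LK LD1_c7 LD2_c37 LD3_c43)) = (LP (LK LD1_c14 LD2_c22 LD3_c39)) :=
  Lre_d IH (LK LD1_c7 LD2_c37 LD3_c43) (LK LD1_c14 LD2_c22 LD3_c39) Lrfl Lrfl
theorem f127273 : Led Lsl_dt (LP (LK LD1_c22 LD2_c50 LD3_c44)) = (LP (LK LD1_c13 LD2_c29 LD3_c58)) :=
  Lre_d IH (LK LD1_c22 LD2_c50 LD3_c44) (LK LD1_c13 LD2_c29 LD3_c58) Lrfl Lrfl
theorem f206583 : Led Lsl_af (LP (LK LD1_c7 LD2_c37 LD3_c43)) = (LP (LK LD1_c13 LD2_c29 LD3_c58)) :=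
  Lgr Lrot117 (Lpr_dt (f95168 IH) (Lpr_at (f206578 IH) (Lpr_dt (f127273 IH) (Lpn (LP (LK LD1_c13 LD2_c29 LD3_c58))))))
theorem f489067 : Led Lsl_ff (LP (LK LD1_c13 LD2_c29 LD3_c58)) = (LP (LK LD1_c7 LD2_c40 LD3_c7)) :=
  Lgr Lrot52 (Lpe (f206583 IH) (Lpr_gf (f488941 IH) (Lpe (f461747 IH) (Lpn (LP (LK LD1_c7 LD2_c40 LD3_c7))))))
theorem f489079 : Led Lsl_ft (LP (LK LD1_c13 LD2_c29 LD3_c58)) = (LP (LK LD1_c7 LD2_c40 LD3_c7)) :=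
  Lgr Lrot48 (Lpr_ff (f489067 IH) (Lpn (LP (LK LD1_c7 LD2_c40 LD3_c7))))
theorem f489196 : Led Lsl_at (LP (LK LD1_c7 LD2_c40 LD3_c7)) = (LP (LK LD1_c14 LD2_c18 LD3_c18)) :=
  Lgr Lrot66 (Lpe (f489079 IH) (Lpr_af (f162179 IH) (Lpr_ff (f489194 IH) (Lpn (LP (LK LD1_c14 LD2_c18 LD3_c18))))))
theorem f162097 : Led Lsl_et (LP (LK LD1_c6 LD2_c54 LD3_c41)) = (LP (LK LD1_c13 LD2_c7 LD3_c53)) :=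
  Lre_e IH (LK LD1_c6 LD2_c54 LD3_c41) (LK LD1_c13 LD2_c7 LD3_c53) Lrfl Lrfl
theorem f162759 : Led Lsl_et (LP (LK LD1_c14 LD2_c28 LD3_c36)) = (LP (LK LD1_c7 LD2_c40 LD3_c44)) :=
  Lre_e IH (LK LD1_c14 LD2_c28 LD3_c36) (LK LD1_c7 LD2_c40 LD3_c44) Lrfl Lrfl
theorem f162760 : Led Lsl_ct (LP (LK LD1_c13 LD2_c7 LD3_c53)) = (LP (LK LD1_c14 LD2_c28 LD3_c36)) :=
  Lgr Lrot15 (Lpe (f162097 IH) (Lpr_cf (K8.f162753 IH) (Lpe (f162759 IH) (Lpn (LP (LK LD1_c14 LD2_c28 LD3_c36))))))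
theorem f425578 : Led Lsl_cf (LP (LK LD1_c13 LD2_c7 LD3_c53)) = (LP (LK LD1_c14 LD2_c28 LD3_c36)) :=
  Lgr Lrot11 (Lpr_ct (f162760 IH) (Lpn (LP (LK LD1_c14 LD2_c28 LD3_c36))))
theorem f425580 : Led Lsl_at (LP (LK LD1_c13 LD2_c7 LD3_c53)) = (LP (LK LD1_c13 LD2_c53 LD3_c52)) :=
  Lgr Lrot107 (Lpr_cf (f425578 IH) (Lpr_af (K33.f203214 IH) (Lpr_cf (K33.f123454 IH) (Lpn (LP (LK LD1_c13 LD2_c53 LD3_c52))))))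
theorem f203228 : Led Lsl_bt (LP (LK LD1_c14 LD2_c10 LD3_c14)) = (LP (LK LD1_c13 LD2_c53 LD3_c52)) :=
  Lgr Lrot127 (Lpr_bf (K33.f203226 IH) (Lpn (LP (LK LD1_c13 LD2_c53 LD3_c52))))
theorem f102628 : Led Lsl_et (LP (LK LD1_c13 LD2_c7 LD3_c53)) = (LP (LK LD1_c6 LD2_c54 LD3_c41)) :=
  Lre_e IH (LK LD1_c13 LD2_c7 LD3_c53) (LK LD1_c6 LD2_c54 LD3_c41) Lrfl Lrfl
theorem f162102 : Led Lsl_at (LP (LK LD1_c13 LD2_c53 LD3_c52)) = (LP (LK LD1_c13 LD2_c7 LD3_c53)) :=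
  Lgr Lrot80 (Lpe (K33.f123453 IH) (Lpr_af (K8.f162098 IH) (Lpe (f102628 IH) (Lpn (LP (LK LD1_c13 LD2_c7 LD3_c53))))))
theorem f206585 : Led Lsl_bt (LP (LK LD1_c13 LD2_c7 LD3_c53)) = (LP (LK LD1_c13 LD2_c29 LD3_c58)) :=
  Lgr Lrot62 (Lpe (f162102 IH) (Lpe (f203228 IH) (Lpr_af (K33.f162285 IH) (Lpr_bf (K8.f95147 IH) (Lpr_af (f206583 IH) (Lpn (LP (LK LD1_c13 LD2_c29 LD3_c58))))))))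
theorem f206587 : Led Lsl_bf (LP (LK LD1_c13 LD2_c7 LD3_c53)) = (LP (LK LD1_c13 LD2_c29 LD3_c58)) :=
  Lgr Lrot24 (Lpr_bt (f206585 IH) (Lpn (LP (LK LD1_c13 LD2_c29 LD3_c58))))
theorem f425582 : Led Lsl_af (LP (LK LD1_c7 LD2_c36 LD3_c0)) = (LP (LK LD1_c14 LD2_c10 LD3_c14)) :=
  Lgr Lrot36 (Lpr_bt (K8.f95149 IH) (Lpe (f162179 IH) (Lpe (f206587 IH) (Lpr_at (f425580 IH) (Lpe (K33.f203226 IH) (Lpn (LP (LK LD1_c14 LD2_c10 LD3_c14))))))))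
theorem f486954 : Led Lsl_gt (LP (LK LD1_c22 LD2_c20 LD3_c5)) = (LP (LK LD1_c13 LD2_c8 LD3_c8)) :=
  Lre_g IH (LK LD1_c22 LD2_c20 LD3_c5) (LK LD1_c13 LD2_c8 LD3_c8) Lrfl Lrfl
theorem f489034 : Led Lsl_ff (LP (LK LD1_c14 LD2_c10 LD3_c14)) = (LP (LK LD1_c22 LD2_c20 LD3_c5)) :=
  Lgr Lrot52 (Lpe (f425582 IH) (Lpr_gf (K33.f489032 IH) (Lpe (f486954 IH) (Lpn (LP (LK LD1_c22 LD2_c20 LD3_c5))))))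
theorem f489036 : Led Lsl_at (LP (LK LD1_c14 LD2_c19 LD3_c43)) = (LP (LK LD1_c22 LD2_c20 LD3_c5)) :=
  Lgr Lrot66 (Lpe (f95156 IH) (Lpr_af (f425582 IH) (Lpr_ff (f489034 IH) (Lpn (LP (LK LD1_c22 LD2_c20 LD3_c5))))))
theorem f488874 : Led Lsl_ft (LP (LK LD1_c7 LD2_c49 LD3_c42)) = (LP (LK LD1_c7 LD2_c52 LD3_c13)) :=
  Lgr Lrot4 (Lpe (K8.f136376 IH) (Lpr_ff (K33.f488870 IH) (Lpe (K33.f477054 IH) (Lpn (LP (LK LD1_c7 LD2_c52 LD3_c13))))))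
theorem f480222 : Led Lsl_gt (LP (LK LD1_c14 LD2_c49 LD3_c15)) = (LP (LK LD1_c7 LD2_c51 LD3_c24)) :=
  Lre_g IH (LK LD1_c14 LD2_c49 LD3_c15) (LK LD1_c7 LD2_c51 LD3_c24) Lrfl Lrfl
theorem f488800 : Led Lsl_ff (LP (LK LD1_c7 LD2_c51 LD3_c36)) = (LP (LK LD1_c14 LD2_c49 LD3_c15)) :=
  Lgr Lrot52 (Lpe (K33.f203221 IH) (Lpr_gf (K33.f488784 IH) (Lpe (f480222 IH) (Lpn (LP (LK LD1_c14 LD2_c49 LD3_c15))))))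
theorem f489142 : Led Lsl_af (LP (LK LD1_c14 LD2_c49 LD3_c15)) = (LP (LK LD1_c7 LD2_c52 LD3_c13)) :=
  Lgr Lrot45 (Lpe (f488800 IH) (Lpe (K33.f203221 IH) (Lpr_ft (f488874 IH) (Lpn (LP (LK LD1_c7 LD2_c52 LD3_c13))))))
theorem f488888 : Led Lsl_et (LP (LK LD1_c7 LD2_c50 LD3_c14)) = (LP (LK LD1_c7 LD2_c52 LD3_c13)) :=
  Lgr Lrot158 (Lpe (K33.f486164 IH) (Lpr_ef (K33.f488884 IH) (Lpe (K33.f477054 IH) (Lpn (LP (LK LD1_c7 LD2_c52 LD3_c13))))))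
theorem f489146 : Led Lsl_et (LP (LK LD1_c14 LD2_c49 LD3_c15)) = (LP (LK LD1_c14 LD2_c24 LD3_c41)) :=
  Lgr Lrot123 (Lpr_af (f489142 IH) (Lpe (f488888 IH) (Lpe (K33.f486149 IH) (Lpn (LP (LK LD1_c14 LD2_c24 LD3_c41))))))
theorem f489152 : Led Lsl_ff (LP (LK LD1_c14 LD2_c49 LD3_c15)) = (LP (LK LD1_c7 LD2_c51 LD3_c36)) :=
  Lgr Lrot72 (Lpr_et (f489146 IH) (Lpr_ft (K33.f485019 IH) (Lpr_et (K33.f123941 IH) (Lpe (K8.f161992 IH) (Lpr_et (K33.f129566 IH) (Lpn (LP (LK LD1_c7 LD2_c51 LD3_c36))))))))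
theorem f484135 : Led Lsl_ct (LP (LK LD1_c3 LD2_c26 LD3_c33)) = (LP (LK LD1_c1 LD2_c51 LD3_c9)) :=
  Lgr Lrot59 (Lpr_cf (K33.f484130 IH) (Lpn (LP (LK LD1_c1 LD2_c51 LD3_c9))))
theorem f122817 : Led Lsl_bt (LP (LK LD1_c3 LD2_c53 LD3_c60)) = (LP (LK LD1_c7 LD2_c49 LD3_c36)) :=
  Lre_b IH (LK LD1_c3 LD2_c53 LD3_c60) (LK LD1_c7 LD2_c49 LD3_c36) Lrfl Lrfl
theorem f485649 : Led Lsl_cf (LP (LK LD1_c6 LD2_c54 LD3_c57)) = (LP (LK LD1_c7 LD2_c49 LD3_c36)) :=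
  Lgr Lrot97 (Lpr_bt (f15268 IH) (Lpr_ct (f484135 IH) (Lpe (K33.f483568 IH) (Lpr_ct (K29.f437668 IH) (Lpr_bt (f122817 IH) (Lpn (LP (LK LD1_c7 LD2_c49 LD3_c36))))))))
theorem f91212 : Led Lsl_gt (LP (LK LD1_c6 LD2_c54 LD3_c57)) = (LP (LK LD1_c13 LD2_c8 LD3_c24)) :=
  Lre_g IH (LK LD1_c6 LD2_c54 LD3_c57) (LK LD1_c13 LD2_c8 LD3_c24) Lrfl Lrfl
theorem f485685 : Led Lsl_ct (LP (LK LD1_c22 LD2_c20 LD3_c32)) = (LP (LK LD1_c13 LD2_c8 LD3_c24)) :=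
  Lre_c IH (LK LD1_c22 LD2_c20 LD3_c32) (LK LD1_c13 LD2_c8 LD3_c24) Lrfl Lrfl
theorem f480261 : Led Lsl_gf (LP (LK LD1_c7 LD2_c49 LD3_c36)) = (LP (LK LD1_c7 LD2_c25 LD3_c4)) :=
  Lgr Lrot124 (Lpe (f122817 IH) (Lpr_ct (K29.f122816 IH) (Lpr_gt (K29.f122815 IH) (Lpe (K33.f122814 IH) (Lpe (K6.f122778 IH) (Lpr_gt (K33.f122812 IH) (Lpr_ct (K33.f480259 IH) (Lpr_gt (K33.f125196 IH) (Lpr_cf (K5.f132176 IH) (Lpr_bt (K29.f132189 IH) (Lpn (LP (LK LD1_c7 LD2_c25 LD3_c4)))))))))))))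
theorem f485686 : Led Lsl_bt (LP (LK LD1_c22 LD2_c20 LD3_c32)) = (LP (LK LD1_c14 LD2_c49 LD3_c15)) :=
  Lgr Lrot22 (Lpr_ct (f485685 IH) (Lpe (f91212 IH) (Lpr_cf (f485649 IH) (Lpr_gf (f480261 IH) (Lpe (K29.f132189 IH) (Lpe (K5.f132176 IH) (Lpe (K33.f125196 IH) (Lpe (K33.f480259 IH) (Lpr_bt (K33.f480177 IH) (Lpe (f480222 IH) (Lpn (LP (LK LD1_c14 LD2_c49 LD3_c15)))))))))))))
theorem f485688 : Led Lsl_bf (LP (LK LD1_c22 LD2_c20 LD3_c32)) = (LP (LK LD1_c14 LD2_c49 LD3_c15)) :=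
  Lgr Lrot24 (Lpr_bt (f485686 IH) (Lpn (LP (LK LD1_c14 LD2_c49 LD3_c15))))
theorem f489154 : Led Lsl_ft (LP (LK LD1_c22 LD2_c20 LD3_c32)) = (LP (LK LD1_c14 LD2_c49 LD3_c31)) :=
  Lgr Lrot75 (Lpr_bf (f485688 IH) (Lpr_ff (f489152 IH) (Lpe (K33.f123456 IH) (Lpn (LP (LK LD1_c14 LD2_c49 LD3_c31))))))
theorem f489160 : Led Lsl_ff (LP (LK LD1_c22 LD2_c20 LD3_c32)) = (LP (LK LD1_c14 LD2_c49 LD3_c31)) :=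
  Lgr Lrot3 (Lpr_ft (f489154 IH) (Lpn (LP (LK LD1_c14 LD2_c49 LD3_c31))))
theorem f123462 : Led Lsl_et (LP (LK LD1_c7 LD2_c51 LD3_c35)) = (LP (LK LD1_c14 LD2_c49 LD3_c31)) :=
  Lre_e IH (LK LD1_c7 LD2_c51 LD3_c35) (LK LD1_c14 LD2_c49 LD3_c31) Lrfl Lrfl
theorem f161986 : Led Lsl_ff (LP (LK LD1_c7 LD2_c51 LD3_c35)) = (LP (LK LD1_c7 LD2_c40 LD3_c45)) :=
  Lgr Lrot25 (Lpr_bt (K5.f121019 IH) (Lpr_ft (K8.f161982 IH) (Lpe (K6.f144964 IH) (Lpn (LP (LK LD1_c7 LD2_c40 LD3_c45))))))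
theorem f489164 : Led Lsl_et (LP (LK LD1_c22 LD2_c20 LD3_c32)) = (LP (LK LD1_c24 LD2_c3 LD3_c45)) :=
  Lgr Lrot69 (Lpr_ff (f489160 IH) (Lpe (f123462 IH) (Lpr_ff (f161986 IH) (Lpe (K8.f145100 IH) (Lpe (K33.f485032 IH) (Lpn (LP (LK LD1_c24 LD2_c3 LD3_c45))))))))
theorem f485653 : Led Lsl_ct (LP (LK LD1_c13 LD2_c8 LD3_c24)) = (LP (LK LD1_c22 LD2_c20 LD3_c32)) :=
  Lre_c IH (LK LD1_c13 LD2_c8 LD3_c24) (LK LD1_c22 LD2_c20 LD3_c32) Lrfl Lrfl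
theorem f489166 : Led Lsl_ef (LP (LK LD1_c13 LD2_c8 LD3_c24)) = (LP (LK LD1_c14 LD2_c52 LD3_c37)) :=
  Lgr Lrot28 (Lpr_ct (f485653 IH) (Lpr_et (f489164 IH) (Lpe (K33.f485408 IH) (Lpn (LP (LK LD1_c14 LD2_c52 LD3_c37))))))
theorem f489171 : Led Lsl_et (LP (LK LD1_c13 LD2_c8 LD3_c24)) = (LP (LK LD1_c14 LD2_c52 LD3_c37)) :=
  Lgr Lrot87 (Lpr_ef (f489166 IH) (Lpn (LP (LK LD1_c14 LD2_c52 LD3_c37))))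
theorem f485039 : Led Lsl_bt (LP (LK LD1_c7 LD2_c35 LD3_c58)) = (LP (LK LD1_c14 LD2_c19 LD3_c26)) :=
  Lre_b IH (LK LD1_c7 LD2_c35 LD3_c58) (LK LD1_c14 LD2_c19 LD3_c26) Lrfl Lrfl
theorem f485412 : Led Lsl_bt (LP (LK LD1_c14 LD2_c52 LD3_c37)) = (LP (LK LD1_c14 LD2_c19 LD3_c29)) :=
  Lgr Lrot128 (Lpr_cf (K33.f485408 IH) (Lpe (K33.f485031 IH) (Lpr_cf (K33.f485025 IH) (Lpe (f485039 IH) (Lpe (K33.f162144 IH) (Lpn (LP (LK LD1_c14 LD2_c19 LD3_c29))))))))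
theorem f145252 : Led Lsl_et (LP (LK LD1_c14 LD2_c10 LD3_c14)) = (LP (LK LD1_c7 LD2_c30 LD3_c12)) :=
  Lre_e IH (LK LD1_c14 LD2_c10 LD3_c14) (LK LD1_c7 LD2_c30 LD3_c12) Lrfl Lrfl
theorem f489040 : Led Lsl_et (LP (LK LD1_c14 LD2_c19 LD3_c29)) = (LP (LK LD1_c22 LD2_c20 LD3_c5)) :=
  Lgr Lrot69 (Lpe (K33.f144990 IH) (Lpe (K8.f144966 IH) (Lpe (K8.f162112 IH) (Lpe (f145252 IH) (Lpr_ff (f489034 IH) (Lpn (LP (LK LD1_c22 LD2_c20 LD3_c5))))))))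
theorem f489173 : Led Lsl_bf (LP (LK LD1_c13 LD2_c8 LD3_c24)) = (LP (LK LD1_c22 LD2_c20 LD3_c5)) :=
  Lgr Lrot96 (Lpr_et (f489171 IH) (Lpr_bt (f485412 IH) (Lpr_et (f489040 IH) (Lpn (LP (LK LD1_c22 LD2_c20 LD3_c5))))))
theorem f515841 : Led Lsl_at (LP (LK LD1_c13 LD2_c8 LD3_c24)) = (LP (LK LD1_c14 LD2_c26 LD3_c24)) :=
  Lgr Lrot67 (Lpr_bf (f489173 IH) (Lpe (f489036 IH) (Lpr_bf (K33.f489190 IH) (Lpe (f489196 IH) (Lpr_bf (f515839 IH) (Lpn (LP (LK LD1_c14 LD2_c26 LD3_c24))))))))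
theorem f489158 : Led Lsl_ff (LP (LK LD1_c13 LD2_c8 LD3_c24)) = (LP (LK LD1_c13 LD2_c53 LD3_c52)) :=
  Lgr Lrot23 (Lpr_ct (f485653 IH) (Lpr_ft (f489154 IH) (Lpr_ct (K33.f123457 IH) (Lpn (LP (LK LD1_c13 LD2_c53 LD3_c52))))))
theorem f515869 : Led Lsl_gt (LP (LK LD1_c13 LD2_c53 LD3_c52)) = (LP (LK LD1_c7 LD2_c39 LD3_c45)) :=
  Lgr Lrot5 (Lpe (f489158 IH) (Lpr_at (f515841 IH) (Lpe (f489013 IH) (Lpn (LP (LK LD1_c7 LD2_c39 LD3_c45))))))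
theorem f524338 : Led Lsl_at (LP (LK LD1_c6 LD2_c54 LD3_c57)) = (LP (LK LD1_c7 LD2_c39 LD3_c45)) :=
  Lgr Lrot26 (Lpr_ff (f524244 IH) (Lpe (f488866 IH) (Lpr_gt (f515869 IH) (Lpn (LP (LK LD1_c7 LD2_c39 LD3_c45))))))
theorem f524344 : Led Lsl_af (LP (LK LD1_c7 LD2_c49 LD3_c36)) = (LP (LK LD1_c13 LD2_c53 LD3_c59)) :=
  Lgr Lrot68 (Lpe (f485649 IH) (Lpr_at (f524338 IH) (Lpe (f489007 IH) (Lpn (LP (LK LD1_c13 LD2_c53 LD3_c59))))))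
theorem f524365 : Led Lsl_at (LP (LK LD1_c7 LD2_c49 LD3_c36)) = (LP (LK LD1_c13 LD2_c53 LD3_c59)) :=
  Lgr Lrot100 (Lpr_af (f524344 IH) (Lpn (LP (LK LD1_c13 LD2_c53 LD3_c59))))
theorem f485162 : Led Lsl_dt (LP (LK LD1_c3 LD2_c54 LD3_c32)) = (LP (LK LD1_c1 LD2_c53 LD3_c51)) :=
  Lre_d IH (LK LD1_c3 LD2_c54 LD3_c32) (LK LD1_c1 LD2_c53 LD3_c51) Lrfl Lrfl
theorem f524119 : Led Lsl_af (LP (LK LD1_c3 LD2_c53 LD3_c60)) = (LP (LK LD1_c1 LD2_c53 LD3_c51)) :=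
  Lgr Lrot117 (Lpr_dt (f437935 IH) (Lpr_at (f524085 IH) (Lpr_dt (f485162 IH) (Lpn (LP (LK LD1_c1 LD2_c53 LD3_c51))))))
theorem f456116 : Led Lsl_at (LP (LK LD1_c7 LD2_c50 LD3_c43)) = (LP (LK LD1_c3 LD2_c54 LD3_c31)) :=
  Lre_a IH (LK LD1_c7 LD2_c50 LD3_c43) (LK LD1_c3 LD2_c54 LD3_c31) Lrfl Lrfl
theorem f524412 : Led Lsl_bf (LP (LK LD1_c7 LD2_c50 LD3_c43)) = (LP (LK LD1_c13 LD2_c53 LD3_c59)) :=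
  Lgr Lrot81 (Lpr_at (f456116 IH) (Lpr_bt (f456065 IH) (Lpe (f524119 IH) (Lpr_bt (f122817 IH) (Lpr_at (f524365 IH) (Lpn (LP (LK LD1_c13 LD2_c53 LD3_c59))))))))
theorem f524414 : Led Lsl_bt (LP (LK LD1_c7 LD2_c50 LD3_c43)) = (LP (LK LD1_c13 LD2_c53 LD3_c59)) :=
  Lgr Lrot127 (Lpr_bf (f524412 IH) (Lpn (LP (LK LD1_c13 LD2_c53 LD3_c59))))
theorem f456614 : Led Lsl_at (LP (LK LD1_c7 LD2_c8 LD3_c46)) = (LP (LK LD1_c13 LD2_c31 LD3_c61)) :=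
  Lre_a IH (LK LD1_c7 LD2_c8 LD3_c46) (LK LD1_c13 LD2_c31 LD3_c61) Lrfl Lrfl
theorem f524059 : Led Lsl_ft (LP (LK LD1_c13 LD2_c31 LD3_c61)) = (LP (LK LD1_c7 LD2_c50 LD3_c43)) :=
  Lgr Lrot101 (Lpe (f456614 IH) (Lpr_ff (f524056 IH) (Lpe (f456116 IH) (Lpn (LP (LK LD1_c7 LD2_c50 LD3_c43))))))
theorem f136806 : Led Lsl_ft (LP (LK LD1_c7 LD2_c21 LD3_c7)) = (LP (LK LD1_c13 LD2_c53 LD3_c61)) :=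
  Lre_f IH (LK LD1_c7 LD2_c21 LD3_c7) (LK LD1_c13 LD2_c53 LD3_c61) Lrfl Lrfl
theorem f477065 : Led Lsl_at (LP (LK LD1_c13 LD2_c53 LD3_c61)) = (LP (LK LD1_c7 LD2_c50 LD3_c60)) :=
  Lgr Lrot66 (Lpe (f136806 IH) (Lpe (K29.f136784 IH) (Lpr_ff (K29.f477060 IH) (Lpn (LP (LK LD1_c7 LD2_c50 LD3_c60))))))
theorem f477109 : Led Lsl_gt (LP (LK LD1_c13 LD2_c53 LD3_c59)) = (LP (LK LD1_c7 LD2_c50 LD3_c60)) :=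
  Lgr Lrot46 (Lpe (f136795 IH) (Lpr_ft (f136806 IH) (Lpr_at (f477065 IH) (Lpn (LP (LK LD1_c7 LD2_c50 LD3_c60))))))
theorem f477111 : Led Lsl_at (LP (LK LD1_c7 LD2_c50 LD3_c61)) = (LP (LK LD1_c3 LD2_c54 LD3_c39)) :=
  Lre_a IH (LK LD1_c7 LD2_c50 LD3_c61) (LK LD1_c3 LD2_c54 LD3_c39) Lrfl Lrfl
theorem f477112 : Led Lsl_ft (LP (LK LD1_c13 LD2_c53 LD3_c59)) = (LP (LK LD1_c7 LD2_c50 LD3_c61)) :=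
  Lgr Lrot2 (Lpr_gt (f477109 IH) (Lpr_gt (K29.f123420 IH) (Lpe (f477111 IH) (Lpn (LP (LK LD1_c7 LD2_c50 LD3_c61))))))
theorem f524420 : Led Lsl_bf (LP (LK LD1_c13 LD2_c31 LD3_c61)) = (LP (LK LD1_c7 LD2_c50 LD3_c61)) :=
  Lgr Lrot61 (Lpr_ft (f524059 IH) (Lpr_bt (f524414 IH) (Lpr_ft (f477112 IH) (Lpn (LP (LK LD1_c7 LD2_c50 LD3_c61))))))
theorem f524422 : Led Lsl_et (LP (LK LD1_c13 LD2_c31 LD3_c61)) = (LP (LK LD1_c22 LD2_c53 LD3_c48)) :=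
  Lre_e IH (LK LD1_c13 LD2_c31 LD3_c61) (LK LD1_c22 LD2_c53 LD3_c48) Lrfl Lrfl
theorem f477122 : Led Lsl_et (LP (LK LD1_c14 LD2_c48 LD3_c28)) = (LP (LK LD1_c7 LD2_c50 LD3_c61)) :=
  Lre_e IH (LK LD1_c14 LD2_c48 LD3_c28) (LK LD1_c7 LD2_c50 LD3_c61) Lrfl Lrfl
theorem f524423 : Led Lsl_bt (LP (LK LD1_c22 LD2_c53 LD3_c48)) = (LP (LK LD1_c14 LD2_c48 LD3_c28)) :=
  Lgr Lrot119 (Lpe (f524422 IH) (Lpr_bf (f524420 IH) (Lpe (f477122 IH) (Lpn (LP (LK LD1_c14 LD2_c48 LD3_c28))))))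
theorem f456583 : Led Lsl_at (LP (LK LD1_c13 LD2_c32 LD3_c3)) = (LP (LK LD1_c22 LD2_c53 LD3_c48)) :=
  Lre_a IH (LK LD1_c13 LD2_c32 LD3_c3) (LK LD1_c22 LD2_c53 LD3_c48) Lrfl Lrfl
theorem f524378 : Led Lsl_at (LP (LK LD1_c14 LD2_c48 LD3_c28)) = (LP (LK LD1_c7 LD2_c51 LD3_c1)) :=
  Lre_a IH (LK LD1_c14 LD2_c48 LD3_c28) (LK LD1_c7 LD2_c51 LD3_c1) Lrfl Lrfl
theorem f524103 : Led Lsl_bt (LP (LK LD1_c7 LD2_c51 LD3_c1)) = (LP (LK LD1_c3 LD2_c54 LD3_c41)) :=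
  Lre_b IH (LK LD1_c7 LD2_c51 LD3_c1) (LK LD1_c3 LD2_c54 LD3_c41) Lrfl Lrfl
theorem f524425 : Led Lsl_af (LP (LK LD1_c7 LD2_c49 LD3_c39)) = (LP (LK LD1_c3 LD2_c54 LD3_c41)) :=
  Lgr Lrot36 (Lpr_bt (K33.f456574 IH) (Lpr_at (f456583 IH) (Lpr_bt (f524423 IH) (Lpr_at (f524378 IH) (Lpr_bt (f524103 IH) (Lpn (LP (LK LD1_c3 LD2_c54 LD3_c41))))))))
theorem f488119 : Led Lsl_ct (LP (LK LD1_c1 LD2_c53 LD3_c57)) = (LP (LK LD1_c3 LD2_c54 LD3_c41)) :=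
  Lre_c IH (LK LD1_c1 LD2_c53 LD3_c57) (LK LD1_c3 LD2_c54 LD3_c41) Lrfl Lrfl
theorem f524433 : Led Lsl_at (LP (LK LD1_c3 LD2_c54 LD3_c1)) = (LP (LK LD1_c1 LD2_c53 LD3_c57)) :=
  Lgr Lrot107 (Lpe (K33.f456566 IH) (Lpr_af (f524425 IH) (Lpe (f488119 IH) (Lpn (LP (LK LD1_c1 LD2_c53 LD3_c57))))))
theorem f527036 : Led Lsl_gt (LP (LK LD1_c3 LD2_c40 LD3_c17)) = (LP (LK LD1_c1 LD2_c53 LD3_c57)) :=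
  Lgr Lrot46 (Lpr_gf (f527034 IH) (Lpe (f527023 IH) (Lpr_at (f524433 IH) (Lpn (LP (LK LD1_c1 LD2_c53 LD3_c57))))))
theorem f527037 : Led Lsl_gt (LP (LK LD1_c3 LD2_c40 LD3_c17)) = (LP (LK LD1_c1 LD2_c53 LD3_c57)) :=
  Leop (Lpe (f527036 IH) (Lpn (LP (LK LD1_c3 LD2_c40 LD3_c17))))
theorem seed_201 : LEOK LG_g (LK LD1_c3 LD2_c40 LD3_c17) :=
  Leoe_g (LK LD1_c3 LD2_c40 LD3_c17) (f527037 IH)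
def v2532 : LQ := Led Lsl_et (LP (LK LD1_c1 LD2_c47 LD3_c55))
theorem f527140 : Led Lsl_et (LP (LK LD1_c1 LD2_c47 LD3_c55)) = v2532 :=
  Lrfl
theorem f457248 : Led Lsl_ft K28.v218 = (LP (LK LD1_c0 LD2_c53 LD3_c32)) :=
  Lgr Lrot48 (Lpr_ff (K28.f457243 IH) (Lpn (LP (LK LD1_c0 LD2_c53 LD3_c32))))
theorem f62689 : Led Lsl_et (LP (LK LD1_c1 LD2_c51 LD3_c32)) = (LP (LK LD1_c0 LD2_c52 LD3_c34)) :=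
  Lre_e IH (LK LD1_c1 LD2_c51 LD3_c32) (LK LD1_c0 LD2_c52 LD3_c34) Lrfl Lrfl
theorem f527143 : Led Lsl_ff (LP (LK LD1_c1 LD2_c51 LD3_c32)) = v2532 :=
  Lgr Lrot72 (Lpr_et (f62689 IH) (Lpqs (K28.f467690 IH) (Lpr_ft (f457248 IH) (Lpr_et (K28.f459373 IH) (Lpe (K28.f459369 IH) (Lpr_et (f527140 IH) (Lpn v2532)))))))
theorem f458764 : Led Lsl_ft (LP (LK LD1_c0 LD2_c53 LD3_c35)) = K24.v780 :=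
  Lgr Lrot48 (Lpr_ff (K24.f458762 IH) (Lpn K24.v780))
theorem f527144 : Led Lsl_bt K24.v780 = v2532 :=
  Lgr Lrot35 (Lpe (f458764 IH) (Lpr_bf (K29.f467701 IH) (Lpr_ff (f527143 IH) (Lpn v2532))))
theorem f160438 : Led Lsl_et (LP (LK LD1_c3 LD2_c33 LD3_c14)) = (LP (LK LD1_c1 LD2_c43 LD3_c20)) :=
  Lre_e IH (LK LD1_c3 LD2_c33 LD3_c14) (LK LD1_c1 LD2_c43 LD3_c20) Lrfl Lrfl
theorem f490387 : Led Lsl_af (LP (LK LD1_c3 LD2_c33 LD3_c14)) = K33.v908 :=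
  Lgr Lrot50 (Lpr_et (f160438 IH) (Lpe (K29.f470379 IH) (Lpr_et (K33.f490386 IH) (Lpn K33.v908))))
theorem f522598 : Led Lsl_at (LP (LK LD1_c3 LD2_c34 LD3_c17)) = K33.v2480 :=
  Lgr Lrot66 (Lpe (K33.f455845 IH) (Lpe (K33.f519279 IH) (Lpr_ff (K33.f522597 IH) (Lpn K33.v2480))))
def v2366 : LQ := Led Lsl_gt (LP (LK LD1_c1 LD2_c43 LD3_c49))
theorem f519297 : Led Lsl_gt (LP (LK LD1_c1 LD2_c43 LD3_c49)) = v2366 :=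
  Lrfl
theorem f522601 : Led Lsl_gt v2366 = K33.v2480 :=
  Lgr Lrot46 (Lpe (f519297 IH) (Lpr_ft (K33.f455845 IH) (Lpr_at (f522598 IH) (Lpn K33.v2480))))
theorem f522669 : Led Lsl_ff K33.v908 = v2366 :=
  Lgr Lrot52 (Lpe (f490387 IH) (Lpqs (K33.f522621 IH) (Lpr_gf (K33.f522600 IH) (Lpe (f522601 IH) (Lpn v2366)))))
theorem f446504 : Led Lsl_et (LP (LK LD1_c0 LD2_c54 LD3_c0)) = (LP (LK LD1_c0 LD2_c24 LD3_c16)) :=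
  Lre_e IH (LK LD1_c0 LD2_c54 LD3_c0) (LK LD1_c0 LD2_c24 LD3_c16) Lrfl Lrfl
theorem f490388 : Led Lsl_bf (LP (LK LD1_c0 LD2_c54 LD3_c0)) = K33.v908 :=
  Lgr Lrot96 (Lpr_et (f446504 IH) (Lpr_bt (K28.f451209 IH) (Lpr_et (K33.f490386 IH) (Lpn K33.v908))))
theorem f522670 : Led Lsl_bt K24.v608 = v2366 :=
  Lgr Lrot35 (Lpr_ff (K24.f455485 IH) (Lpqs (K24.f457393 IH) (Lpr_bf (f490388 IH) (Lpr_ff (f522669 IH) (Lpn v2366)))))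
theorem f467211 : Led Lsl_bt (LP (LK LD1_c3 LD2_c34 LD3_c12)) = (LP (LK LD1_c1 LD2_c43 LD3_c49)) :=
  Lre_b IH (LK LD1_c3 LD2_c34 LD3_c12) (LK LD1_c1 LD2_c43 LD3_c49) Lrfl Lrfl
theorem f467139 : Led Lsl_ct (LP (LK LD1_c3 LD2_c34 LD3_c12)) = (LP (LK LD1_c7 LD2_c9 LD3_c32)) :=
  Lre_c IH (LK LD1_c3 LD2_c34 LD3_c12) (LK LD1_c7 LD2_c9 LD3_c32) Lrfl Lrfl
theorem f515004 : Led Lsl_ff (LP (LK LD1_c3 LD2_c47 LD3_c4)) = (LP (LK LD1_c1 LD2_c51 LD3_c24)) :=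
  Lgr Lrot23 (Lpr_ct (K33.f486131 IH) (Lpr_ft (K33.f515000 IH) (Lpr_ct (K33.f484525 IH) (Lpn (LP (LK LD1_c1 LD2_c51 LD3_c24))))))
theorem f514993 : Led Lsl_at (LP (LK LD1_c3 LD2_c34 LD3_c10)) = (LP (LK LD1_c1 LD2_c51 LD3_c24)) :=
  Lgr Lrot107 (Lpe (K28.f5938 IH) (Lpr_af (K33.f514989 IH) (Lpr_cf (K33.f484531 IH) (Lpn (LP (LK LD1_c1 LD2_c51 LD3_c24))))))
theorem f516274 : Led Lsl_ff (LP (LK LD1_c3 LD2_c34 LD3_c10)) = (LP (LK LD1_c1 LD2_c51 LD3_c23)) :=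
  Lgr Lrot30 (Lpr_at (f514993 IH) (Lpe (f515004 IH) (Lpr_at (K33.f516270 IH) (Lpn (LP (LK LD1_c1 LD2_c51 LD3_c23))))))
theorem f516282 : Led Lsl_ft (LP (LK LD1_c3 LD2_c34 LD3_c10)) = (LP (LK LD1_c1 LD2_c51 LD3_c23)) :=
  Lgr Lrot48 (Lpr_ff (f516274 IH) (Lpn (LP (LK LD1_c1 LD2_c51 LD3_c23))))
theorem f466704 : Led Lsl_dt (LP (LK LD1_c7 LD2_c9 LD3_c31)) = (LP (LK LD1_c3 LD2_c34 LD3_c10)) :=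
  Lre_d IH (LK LD1_c7 LD2_c9 LD3_c31) (LK LD1_c3 LD2_c34 LD3_c10) Lrfl Lrfl
theorem f516288 : Led Lsl_ff (LP (LK LD1_c7 LD2_c9 LD3_c31)) = (LP (LK LD1_c3 LD2_c48 LD3_c47)) :=
  Lgr Lrot19 (Lpr_dt (f466704 IH) (Lpr_ft (f516282 IH) (Lpr_dt (K5.f62706 IH) (Lpn (LP (LK LD1_c3 LD2_c48 LD3_c47))))))
theorem f466705 : Led Lsl_et (LP (LK LD1_c7 LD2_c9 LD3_c31)) = (LP (LK LD1_c13 LD2_c33 LD3_c37)) :=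
  Lre_e IH (LK LD1_c7 LD2_c9 LD3_c31) (LK LD1_c13 LD2_c33 LD3_c37) Lrfl Lrfl
theorem f467156 : Led Lsl_ft (LP (LK LD1_c13 LD2_c33 LD3_c37)) = (LP (LK LD1_c22 LD2_c56 LD3_c31)) :=
  Lre_f IH (LK LD1_c13 LD2_c33 LD3_c37) (LK LD1_c22 LD2_c56 LD3_c31) Lrfl Lrfl
theorem f64737 : Led Lsl_ft (LP (LK LD1_c14 LD2_c24 LD3_c36)) = (LP (LK LD1_c7 LD2_c38 LD3_c44)) :=
  Lre_f IH (LK LD1_c14 LD2_c24 LD3_c36) (LK LD1_c7 LD2_c38 LD3_c44) Lrfl Lrfl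
theorem f516296 : Led Lsl_et (LP (LK LD1_c22 LD2_c56 LD3_c31)) = (LP (LK LD1_c14 LD2_c24 LD3_c36)) :=
  Lgr Lrot69 (Lpe (f467156 IH) (Lpe (f466705 IH) (Lpr_ff (f516288 IH) (Lpe (K33.f62750 IH) (Lpe (f64737 IH) (Lpn (LP (LK LD1_c14 LD2_c24 LD3_c36))))))))
theorem f516312 : Led Lsl_ef (LP (LK LD1_c22 LD2_c56 LD3_c31)) = (LP (LK LD1_c14 LD2_c24 LD3_c36)) :=
  Lgr Lrot88 (Lpr_et (f516296 IH) (Lpn (LP (LK LD1_c14 LD2_c24 LD3_c36))))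
theorem f467171 : Led Lsl_bt (LP (LK LD1_c22 LD2_c56 LD3_c31)) = (LP (LK LD1_c30 LD2_c48 LD3_c44)) :=
  Lre_b IH (LK LD1_c22 LD2_c56 LD3_c31) (LK LD1_c30 LD2_c48 LD3_c44) Lrfl Lrfl
theorem f516314 : Led Lsl_bt (LP (LK LD1_c24 LD2_c3 LD3_c32)) = (LP (LK LD1_c14 LD2_c24 LD3_c36)) :=
  Lre_b IH (LK LD1_c24 LD2_c3 LD3_c32) (LK LD1_c14 LD2_c24 LD3_c36) Lrfl Lrfl
theorem f516315 : Led Lsl_et (LP (LK LD1_c30 LD2_c48 LD3_c44)) = (LP (LK LD1_c24 LD2_c3 LD3_c32)) :=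
  Lgr Lrot74 (Lpe (f467171 IH) (Lpr_ef (f516312 IH) (Lpe (f516314 IH) (Lpn (LP (LK LD1_c24 LD2_c3 LD3_c32))))))
theorem f467176 : Led Lsl_ft (LP (LK LD1_c22 LD2_c56 LD3_c26)) = (LP (LK LD1_c30 LD2_c48 LD3_c44)) :=
  Lre_f IH (LK LD1_c22 LD2_c56 LD3_c26) (LK LD1_c30 LD2_c48 LD3_c44) Lrfl Lrfl
theorem f467207 : Led Lsl_et (LP (LK LD1_c13 LD2_c33 LD3_c34)) = (LP (LK LD1_c22 LD2_c56 LD3_c26)) :=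
  Lre_e IH (LK LD1_c13 LD2_c33 LD3_c34) (LK LD1_c22 LD2_c56 LD3_c26) Lrfl Lrfl
theorem f64787 : Led Lsl_ft (LP (LK LD1_c24 LD2_c3 LD3_c32)) = (LP (LK LD1_c14 LD2_c24 LD3_c28)) :=
  Lre_f IH (LK LD1_c24 LD2_c3 LD3_c32) (LK LD1_c14 LD2_c24 LD3_c28) Lrfl Lrfl
theorem f64745 : Led Lsl_et (LP (LK LD1_c14 LD2_c24 LD3_c28)) = (LP (LK LD1_c7 LD2_c38 LD3_c40)) :=
  Lre_e IH (LK LD1_c14 LD2_c24 LD3_c28) (LK LD1_c7 LD2_c38 LD3_c40) Lrfl Lrfl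
theorem f516320 : Led Lsl_ff (LP (LK LD1_c13 LD2_c33 LD3_c34)) = (LP (LK LD1_c7 LD2_c38 LD3_c40)) :=
  Lgr Lrot72 (Lpr_et (f467207 IH) (Lpr_ft (f467176 IH) (Lpr_et (f516315 IH) (Lpr_ft (f64787 IH) (Lpr_et (f64745 IH) (Lpn (LP (LK LD1_c7 LD2_c38 LD3_c40))))))))
theorem f485087 : Led Lsl_ct (LP (LK LD1_c13 LD2_c33 LD3_c34)) = (LP (LK LD1_c22 LD2_c56 LD3_c25)) :=
  Lre_c IH (LK LD1_c13 LD2_c33 LD3_c34) (LK LD1_c22 LD2_c56 LD3_c25) Lrfl Lrfl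
theorem f62745 : Led Lsl_ct (LP (LK LD1_c14 LD2_c24 LD3_c27)) = (LP (LK LD1_c7 LD2_c38 LD3_c40)) :=
  Lre_c IH (LK LD1_c14 LD2_c24 LD3_c27) (LK LD1_c7 LD2_c38 LD3_c40) Lrfl Lrfl
theorem f516327 : Led Lsl_ft (LP (LK LD1_c22 LD2_c56 LD3_c25)) = (LP (LK LD1_c14 LD2_c24 LD3_c27)) :=
  Lgr Lrot4 (Lpe (f485087 IH) (Lpr_ff (f516320 IH) (Lpe (f62745 IH) (Lpn (LP (LK LD1_c14 LD2_c24 LD3_c27))))))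
theorem f516345 : Led Lsl_ff (LP (LK LD1_c22 LD2_c56 LD3_c25)) = (LP (LK LD1_c14 LD2_c24 LD3_c27)) :=
  Lgr Lrot3 (Lpr_ft (f516327 IH) (Lpn (LP (LK LD1_c14 LD2_c24 LD3_c27))))
theorem f516347 : Led Lsl_dt (LP (LK LD1_c22 LD2_c56 LD3_c25)) = (LP (LK LD1_c30 LD2_c48 LD3_c40)) :=
  Lre_d IH (LK LD1_c22 LD2_c56 LD3_c25) (LK LD1_c30 LD2_c48 LD3_c40) Lrfl Lrfl
theorem f62746 : Led Lsl_dt (LP (LK LD1_c24 LD2_c3 LD3_c28)) = (LP (LK LD1_c14 LD2_c24 LD3_c27)) :=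
  Lre_d IH (LK LD1_c24 LD2_c3 LD3_c28) (LK LD1_c14 LD2_c24 LD3_c27) Lrfl Lrfl
theorem f516349 : Led Lsl_ft (LP (LK LD1_c30 LD2_c48 LD3_c40)) = (LP (LK LD1_c24 LD2_c3 LD3_c28)) :=
  Lgr Lrot54 (Lpe (f516347 IH) (Lpr_ff (f516345 IH) (Lpe (f62746 IH) (Lpn (LP (LK LD1_c24 LD2_c3 LD3_c28))))))
theorem f516340 : Led Lsl_dt (LP (LK LD1_c30 LD2_c48 LD3_c40)) = (LP (LK LD1_c22 LD2_c56 LD3_c25)) :=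
  Lre_d IH (LK LD1_c30 LD2_c48 LD3_c40) (LK LD1_c22 LD2_c56 LD3_c25) Lrfl Lrfl
theorem f467117 : Led Lsl_ct (LP (LK LD1_c22 LD2_c56 LD3_c25)) = (LP (LK LD1_c13 LD2_c33 LD3_c34)) :=
  Lre_c IH (LK LD1_c22 LD2_c56 LD3_c25) (LK LD1_c13 LD2_c33 LD3_c34) Lrfl Lrfl
theorem f466646 : Led Lsl_dt (LP (LK LD1_c13 LD2_c33 LD3_c34)) = (LP (LK LD1_c7 LD2_c9 LD3_c30)) :=
  Lre_d IH (LK LD1_c13 LD2_c33 LD3_c34) (LK LD1_c7 LD2_c9 LD3_c30) Lrfl Lrfl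
theorem f467113 : Led Lsl_dt (LP (LK LD1_c3 LD2_c34 LD3_c13)) = (LP (LK LD1_c7 LD2_c9 LD3_c38)) :=
  Lre_d IH (LK LD1_c3 LD2_c34 LD3_c13) (LK LD1_c7 LD2_c9 LD3_c38) Lrfl Lrfl
theorem f487792 : Led Lsl_ct (LP (LK LD1_c7 LD2_c9 LD3_c38)) = (LP (LK LD1_c13 LD2_c33 LD3_c45)) :=
  Lre_c IH (LK LD1_c7 LD2_c9 LD3_c38) (LK LD1_c13 LD2_c33 LD3_c45) Lrfl Lrfl
theorem f516355 : Led Lsl_dt (LP (LK LD1_c13 LD2_c33 LD3_c45)) = (LP (LK LD1_c22 LD2_c56 LD3_c46)) :=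
  Lre_d IH (LK LD1_c13 LD2_c33 LD3_c45) (LK LD1_c22 LD2_c56 LD3_c46) Lrfl Lrfl
theorem f516356 : Led Lsl_ct (LP (LK LD1_c22 LD2_c56 LD3_c46)) = (LP (LK LD1_c30 LD2_c48 LD3_c60)) :=
  Lre_c IH (LK LD1_c22 LD2_c56 LD3_c46) (LK LD1_c30 LD2_c48 LD3_c60) Lrfl Lrfl
theorem f516357 : Led Lsl_af (LP (LK LD1_c30 LD2_c48 LD3_c60)) = (LP (LK LD1_c24 LD2_c3 LD3_c28)) :=
  Lgr Lrot109 (Lpe (f516356 IH) (Lpe (f516355 IH) (Lpe (f487792 IH) (Lpe (f467113 IH) (Lpe (K29.f466645 IH) (Lpe (f466646 IH) (Lpe (f467117 IH) (Lpe (f516340 IH) (Lpr_ft (f516349 IH) (Lpn (LP (LK LD1_c24 LD2_c3 LD3_c28))))))))))))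
theorem f486351 : Led Lsl_dt (LP (LK LD1_c14 LD2_c24 LD3_c27)) = (LP (LK LD1_c24 LD2_c3 LD3_c28)) :=
  Lre_d IH (LK LD1_c14 LD2_c24 LD3_c27) (LK LD1_c24 LD2_c3 LD3_c28) Lrfl Lrfl
theorem f486352 : Led Lsl_at (LP (LK LD1_c24 LD2_c3 LD3_c21)) = (LP (LK LD1_c14 LD2_c24 LD3_c27)) :=
  Lre_a IH (LK LD1_c24 LD2_c3 LD3_c21) (LK LD1_c14 LD2_c24 LD3_c27) Lrfl Lrfl
theorem f516366 : Led Lsl_dt (LP (LK LD1_c30 LD2_c48 LD3_c60)) = (LP (LK LD1_c24 LD2_c3 LD3_c21)) :=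
  Lgr Lrot44 (Lpr_af (f516357 IH) (Lpe (f486351 IH) (Lpe (f486352 IH) (Lpn (LP (LK LD1_c24 LD2_c3 LD3_c21))))))
theorem f516369 : Led Lsl_df (LP (LK LD1_c30 LD2_c48 LD3_c60)) = (LP (LK LD1_c24 LD2_c3 LD3_c21)) :=
  Lgr Lrot38 (Lpr_dt (f516366 IH) (Lpn (LP (LK LD1_c24 LD2_c3 LD3_c21))))
theorem f516362 : Led Lsl_ct (LP (LK LD1_c30 LD2_c48 LD3_c60)) = (LP (LK LD1_c22 LD2_c56 LD3_c46)) :=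
  Lre_c IH (LK LD1_c30 LD2_c48 LD3_c60) (LK LD1_c22 LD2_c56 LD3_c46) Lrfl Lrfl
theorem f487793 : Led Lsl_dt (LP (LK LD1_c22 LD2_c56 LD3_c46)) = (LP (LK LD1_c13 LD2_c33 LD3_c45)) :=
  Lre_d IH (LK LD1_c22 LD2_c56 LD3_c46) (LK LD1_c13 LD2_c33 LD3_c45) Lrfl Lrfl
theorem f487795 : Led Lsl_ct (LP (LK LD1_c13 LD2_c33 LD3_c45)) = (LP (LK LD1_c7 LD2_c9 LD3_c38)) :=
  Lre_c IH (LK LD1_c13 LD2_c33 LD3_c45) (LK LD1_c7 LD2_c9 LD3_c38) Lrfl Lrfl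
theorem f467129 : Led Lsl_dt (LP (LK LD1_c7 LD2_c9 LD3_c38)) = (LP (LK LD1_c3 LD2_c34 LD3_c13)) :=
  Lre_d IH (LK LD1_c7 LD2_c9 LD3_c38) (LK LD1_c3 LD2_c34 LD3_c13) Lrfl Lrfl
theorem f516375 : Led Lsl_at (LP (LK LD1_c13 LD2_c33 LD3_c33)) = (LP (LK LD1_c7 LD2_c9 LD3_c30)) :=
  Lre_a IH (LK LD1_c13 LD2_c33 LD3_c33) (LK LD1_c7 LD2_c9 LD3_c30) Lrfl Lrfl
theorem f486347 : Led Lsl_ct (LP (LK LD1_c14 LD2_c24 LD3_c24)) = (LP (LK LD1_c24 LD2_c3 LD3_c21)) :=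
  Lre_c IH (LK LD1_c14 LD2_c24 LD3_c24) (LK LD1_c24 LD2_c3 LD3_c21) Lrfl Lrfl
theorem f516376 : Led Lsl_ff (LP (LK LD1_c13 LD2_c33 LD3_c33)) = (LP (LK LD1_c7 LD2_c38 LD3_c39)) :=
  Lgr Lrot103 (Lpr_at (f516375 IH) (Lpe (K33.f466648 IH) (Lpe (f467129 IH) (Lpe (f487795 IH) (Lpe (f487793 IH) (Lpe (f516362 IH) (Lpr_df (f516369 IH) (Lpe (f486347 IH) (Lpe (K33.f64773 IH) (Lpn (LP (LK LD1_c7 LD2_c38 LD3_c39))))))))))))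
theorem f516384 : Led Lsl_ft (LP (LK LD1_c13 LD2_c33 LD3_c33)) = (LP (LK LD1_c7 LD2_c38 LD3_c39)) :=
  Lgr Lrot48 (Lpr_ff (f516376 IH) (Lpn (LP (LK LD1_c7 LD2_c38 LD3_c39))))
theorem f516438 : Led Lsl_gt (LP (LK LD1_c13 LD2_c33 LD3_c33)) = (LP (LK LD1_c7 LD2_c37 LD3_c45)) :=
  Lgr Lrot5 (Lpr_ft (f516384 IH) (Lpr_at (K33.f486269 IH) (Lpr_gf (K33.f486303 IH) (Lpn (LP (LK LD1_c7 LD2_c37 LD3_c45))))))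
theorem f17824 : Led Lsl_dt (LP (LK LD1_c13 LD2_c17 LD3_c24)) = (LP (LK LD1_c22 LD2_c33 LD3_c12)) :=
  Lre_d IH (LK LD1_c13 LD2_c17 LD3_c24) (LK LD1_c22 LD2_c33 LD3_c12) Lrfl Lrfl
theorem f484768 : Led Lsl_dt (LP (LK LD1_c7 LD2_c38 LD3_c48)) = (LP (LK LD1_c3 LD2_c48 LD3_c49)) :=
  Lre_d IH (LK LD1_c7 LD2_c38 LD3_c48) (LK LD1_c3 LD2_c48 LD3_c49) Lrfl Lrfl
theorem f515580 : Led Lsl_ff (LP (LK LD1_c7 LD2_c38 LD3_c48)) = (LP (LK LD1_c14 LD2_c17 LD3_c58)) :=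
  Lgr Lrot19 (Lpr_dt (f484768 IH) (Lpr_ft (K33.f515576 IH) (Lpr_dt (K33.f89166 IH) (Lpn (LP (LK LD1_c14 LD2_c17 LD3_c58))))))
theorem f484948 : Led Lsl_at (LP (LK LD1_c7 LD2_c38 LD3_c48)) = (LP (LK LD1_c14 LD2_c24 LD3_c40)) :=
  Lre_a IH (LK LD1_c7 LD2_c38 LD3_c48) (LK LD1_c14 LD2_c24 LD3_c40) Lrfl Lrfl
theorem f112206 : Led Lsl_gt (LP (LK LD1_c5 LD2_c51 LD3_c9)) = (LP (LK LD1_c2 LD2_c51 LD3_c51)) :=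
  Lre_g IH (LK LD1_c5 LD2_c51 LD3_c9) (LK LD1_c2 LD2_c51 LD3_c51) Lrfl Lrfl
theorem f161004 : Led Lsl_cf (LP (LK LD1_c5 LD2_c51 LD3_c9)) = (LP (LK LD1_c2 LD2_c55 LD3_c17)) :=
  Lgr Lrot169 (Lpr_gt (f112206 IH) (Lpr_ct (K4.f24063 IH) (Lpr_df (K4.f112111 IH) (Lpe (K5.f36537 IH) (Lpr_gf (K8.f161000 IH) (Lpe (K8.f136244 IH) (Lpe (K8.f20562 IH) (Lpe (K5.f117851 IH) (Lpr_gt (K8.f151567 IH) (Lpn (LP (LK LD1_c2 LD2_c55 LD3_c17))))))))))))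
theorem f206005 : Led Lsl_dt (LP (LK LD1_c5 LD2_c51 LD3_c9)) = (LP (LK LD1_c6 LD2_c34 LD3_c54)) :=
  Lgr Lrot6 (Lpr_gt (f112206 IH) (Lpr_ct (K4.f24063 IH) (Lpr_gt (K11.f206001 IH) (Lpr_ct (K7.f20373 IH) (Lpr_df (K7.f151677 IH) (Lpe (K4.f8358 IH) (Lpe (K4.f65881 IH) (Lpe (K4.f65936 IH) (Lpe (K6.f65940 IH) (Lpn (LP (LK LD1_c6 LD2_c34 LD3_c54))))))))))))
theorem f426087 : Led Lsl_cf (LP (LK LD1_c2 LD2_c55 LD3_c44)) = (LP (LK LD1_c3 LD2_c50 LD3_c33)) :=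
  Lgr Lrot161 (Lpr_dt (K24.f425957 IH) (Lpr_ct (K24.f426078 IH) (Lpe (K24.f425942 IH) (Lpr_ff (K24.f425943 IH) (Lpr_dt (K8.f72400 IH) (Lpe (f161004 IH) (Lpr_dt (f206005 IH) (Lpe (K6.f136936 IH) (Lpe (K24.f151603 IH) (Lpn (LP (LK LD1_c3 LD2_c50 LD3_c33))))))))))))
theorem f426085 : Led Lsl_cf (LP (LK LD1_c1 LD2_c23 LD3_c36)) = (LP (LK LD1_c1 LD2_c23 LD3_c28)) :=
  Lgr Lrot108 (Lpe (K24.f425943 IH) (Lpr_ct (K24.f426078 IH) (Lpr_ft (K24.f160960 IH) (Lpn (LP (LK LD1_c1 LD2_c23 LD3_c28))))))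
theorem f425937 : Led Lsl_dt (LP (LK LD1_c2 LD2_c55 LD3_c2)) = (LP (LK LD1_c1 LD2_c23 LD3_c28)) :=
  Lre_d IH (LK LD1_c2 LD2_c55 LD3_c2) (LK LD1_c1 LD2_c23 LD3_c28) Lrfl Lrfl
theorem f426608 : Led Lsl_ct (LP (LK LD1_c3 LD2_c50 LD3_c32)) = (LP (LK LD1_c2 LD2_c55 LD3_c2)) :=
  Lgr Lrot176 (Lpe (K28.f426588 IH) (Lpr_cf (K28.f426605 IH) (Lpe (K28.f137174 IH) (Lpe (K11.f99933 IH) (Lpe (K8.f137172 IH) (Lpe (K24.f426078 IH) (Lpe (K24.f425957 IH) (Lpr_cf (f426087 IH) (Lpr_df (K24.f151603 IH) (Lpr_cf (K6.f136936 IH) (Lpe (f206005 IH) (Lpr_cf (f161004 IH) (Lpe (K8.f72400 IH) (Lpr_cf (f426085 IH) (Lpe (f425937 IH) (Lpn (LP (LK LD1_c2 LD2_c55 LD3_c2))))))))))))))))))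
theorem f157930 : Led Lsl_df (LP (LK LD1_c2 LD2_c51 LD3_c54)) = (LP (LK LD1_c1 LD2_c52 LD3_c8)) :=
  Lgr Lrot157 (Lpr_ct (K28.f24204 IH) (Lpr_dt (K8.f157928 IH) (Lpr_ct (K5.f132493 IH) (Lpr_dt (K5.f112188 IH) (Lpe (K4.f112347 IH) (Lpr_dt (K6.f112119 IH) (Lpr_ct (K4.f15172 IH) (Lpe (K5.f15202 IH) (Lpe (K6.f136521 IH) (Lpn (LP (LK LD1_c1 LD2_c52 LD3_c8))))))))))))
theorem f117885 : Led Lsl_af (LP (LK LD1_c1 LD2_c28 LD3_c31)) = (LP (LK LD1_c1 LD2_c21 LD3_c0)) :=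
  Lgr Lrot0 (Lpr_at (K8.f117865 IH) (Lpn (LP (LK LD1_c1 LD2_c21 LD3_c0))))
theorem f157934 : Led Lsl_cf (LP (LK LD1_c2 LD2_c51 LD3_c56)) = (LP (LK LD1_c4 LD2_c34 LD3_c21)) :=
  Lgr Lrot118 (Lpr_dt (K8.f151460 IH) (Lpr_ct (K6.f132303 IH) (Lpe (f157930 IH) (Lpr_ct (K28.f24204 IH) (Lpr_dt (K8.f157928 IH) (Lpr_ct (K5.f132493 IH) (Lpr_af (f117885 IH) (Lpe (K5.f117827 IH) (Lpr_dt (K5.f112936 IH) (Lpn (LP (LK LD1_c4 LD2_c34 LD3_c21))))))))))))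
theorem f427198 : Led Lsl_gf (LP (LK LD1_c4 LD2_c34 LD3_c21)) = (LP (LK LD1_c2 LD2_c55 LD3_c2)) :=
  Lgr Lrot104 (Lpe (f157934 IH) (Lpr_df (K8.f157964 IH) (Lpe (K6.f132302 IH) (Lpr_gf (K6.f136537 IH) (Lpe (K6.f136336 IH) (Lpe (K6.f12296 IH) (Lpe (K5.f12294 IH) (Lpr_gt (K28.f66165 IH) (Lpr_ct (f426608 IH) (Lpn (LP (LK LD1_c2 LD2_c55 LD3_c2))))))))))))
theorem f157968 : Led Lsl_bt (LP (LK LD1_c2 LD2_c51 LD3_c56)) = (LP (LK LD1_c5 LD2_c51 LD3_c20)) :=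
  Lre_b IH (LK LD1_c2 LD2_c51 LD3_c56) (LK LD1_c5 LD2_c51 LD3_c20) Lrfl Lrfl
theorem f427200 : Led Lsl_gf (LP (LK LD1_c3 LD2_c45 LD3_c47)) = (LP (LK LD1_c5 LD2_c51 LD3_c20)) :=
  Lgr Lrot124 (Lpe (K5.f96124 IH) (Lpe (K3.f96105 IH) (Lpr_gt (K3.f64477 IH) (Lpr_cf (K3.f66156 IH) (Lpr_bt (K28.f66164 IH) (Lpr_gt (K28.f66165 IH) (Lpr_ct (f426608 IH) (Lpe (f427198 IH) (Lpe (K8.f157938 IH) (Lpr_bt (f157968 IH) (Lpn (LP (LK LD1_c5 LD2_c51 LD3_c20)))))))))))))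
theorem f427206 : Led Lsl_dt (LP (LK LD1_c3 LD2_c26 LD3_c48)) = (LP (LK LD1_c5 LD2_c51 LD3_c20)) :=
  Lgr Lrot57 (Lpe (K5.f127870 IH) (Lpe (K8.f129372 IH) (Lpr_gt (K5.f129368 IH) (Lpr_dt (K28.f123926 IH) (Lpr_gt (K5.f123656 IH) (Lpr_dt (K5.f123606 IH) (Lpe (K5.f123578 IH) (Lpe (K5.f103645 IH) (Lpr_gf (f427200 IH) (Lpn (LP (LK LD1_c5 LD2_c51 LD3_c20))))))))))))
theorem f111370 : Led Lsl_af (LP (LK LD1_c3 LD2_c45 LD3_c47)) = (LP (LK LD1_c6 LD2_c55 LD3_c24)) :=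
  Lgr Lrot117 (Lpr_dt (K5.f103645 IH) (Lpr_at (K4.f103792 IH) (Lpr_dt (K4.f111368 IH) (Lpn (LP (LK LD1_c6 LD2_c55 LD3_c24))))))
theorem f427202 : Led Lsl_gt (LP (LK LD1_c6 LD2_c53 LD3_c57)) = (LP (LK LD1_c5 LD2_c51 LD3_c20)) :=
  Lgr Lrot5 (Lpr_ft (K4.f111386 IH) (Lpe (f111370 IH) (Lpr_gf (f427200 IH) (Lpn (LP (LK LD1_c5 LD2_c51 LD3_c20))))))
theorem f466300 : Led Lsl_et (LP (LK LD1_c13 LD2_c24 LD3_c26)) = (LP (LK LD1_c7 LD2_c4 LD3_c20)) :=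
  Lre_e IH (LK LD1_c13 LD2_c24 LD3_c26) (LK LD1_c7 LD2_c4 LD3_c20) Lrfl Lrfl
theorem f466301 : Led Lsl_dt (LP (LK LD1_c13 LD2_c24 LD3_c26)) = (LP (LK LD1_c22 LD2_c42 LD3_c38)) :=
  Lre_d IH (LK LD1_c13 LD2_c24 LD3_c26) (LK LD1_c22 LD2_c42 LD3_c38) Lrfl Lrfl
theorem f486222 : Led Lsl_gt (LP (LK LD1_c14 LD2_c17 LD3_c58)) = (LP (LK LD1_c22 LD2_c42 LD3_c38)) :=
  Lgr Lrot139 (Lpe (K33.f89166 IH) (Lpr_gf (K33.f486135 IH) (Lpe (K8.f114456 IH) (Lpr_dt (f427206 IH) (Lpe (f427202 IH) (Lpe (K4.f9802 IH) (Lpr_et (K4.f103793 IH) (Lpr_gf (K28.f466292 IH) (Lpe (f466300 IH) (Lpr_dt (f466301 IH) (Lpn (LP (LK LD1_c22 LD2_c42 LD3_c38)))))))))))))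
theorem f516115 : Led Lsl_gf (LP (LK LD1_c14 LD2_c24 LD3_c40)) = (LP (LK LD1_c22 LD2_c42 LD3_c38)) :=
  Lgr Lrot76 (Lpe (f484948 IH) (Lpr_ff (f515580 IH) (Lpr_gt (f486222 IH) (Lpn (LP (LK LD1_c22 LD2_c42 LD3_c38))))))
theorem f460116 : Led Lsl_et (LP (LK LD1_c7 LD2_c32 LD3_c18)) = (LP (LK LD1_c13 LD2_c17 LD3_c8)) :=
  Lgr Lrot74 (Lpe (K4.f111803 IH) (Lpr_ef (K24.f460114 IH) (Lpe (K28.f63023 IH) (Lpn (LP (LK LD1_c13 LD2_c17 LD3_c8))))))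
theorem f123790 : Led Lsl_dt (LP (LK LD1_c7 LD2_c32 LD3_c18)) = (LP (LK LD1_c14 LD2_c13 LD3_c1)) :=
  Lre_d IH (LK LD1_c7 LD2_c32 LD3_c18) (LK LD1_c14 LD2_c13 LD3_c1) Lrfl Lrfl
theorem f123800 : Led Lsl_gt (LP (LK LD1_c23 LD2_c47 LD3_c59)) = (LP (LK LD1_c14 LD2_c13 LD3_c1)) :=
  Lre_g IH (LK LD1_c23 LD2_c47 LD3_c59) (LK LD1_c14 LD2_c13 LD3_c1) Lrfl Lrfl
theorem f492720 : Led Lsl_af (LP (LK LD1_c7 LD2_c22 LD3_c6)) = (LP (LK LD1_c7 LD2_c28 LD3_c24)) :=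
  Lgr Lrot31 (Lpe (K28.f463473 IH) (Lpe (K28.f12599 IH) (Lpr_ft (K33.f492714 IH) (Lpn (LP (LK LD1_c7 LD2_c28 LD3_c24))))))
theorem f492722 : Led Lsl_at (LP (LK LD1_c7 LD2_c54 LD3_c36)) = (LP (LK LD1_c7 LD2_c52 LD3_c47)) :=
  Lgr Lrot51 (Lpe (K28.f469632 IH) (Lpr_af (f492720 IH) (Lpr_df (K33.f479829 IH) (Lpn (LP (LK LD1_c7 LD2_c52 LD3_c47))))))
theorem f492734 : Led Lsl_ff (LP (LK LD1_c7 LD2_c54 LD3_c36)) = (LP (LK LD1_c6 LD2_c57 LD3_c44)) :=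
  Lgr Lrot52 (Lpr_at (f492722 IH) (Lpe (K32.f463668 IH) (Lpe (K32.f479810 IH) (Lpn (LP (LK LD1_c6 LD2_c57 LD3_c44))))))
theorem f492744 : Led Lsl_ft (LP (LK LD1_c7 LD2_c54 LD3_c36)) = (LP (LK LD1_c6 LD2_c57 LD3_c44)) :=
  Lgr Lrot48 (Lpr_ff (f492734 IH) (Lpn (LP (LK LD1_c6 LD2_c57 LD3_c44))))
theorem f492752 : Led Lsl_ff (LP (LK LD1_c7 LD2_c22 LD3_c6)) = (LP (LK LD1_c7 LD2_c28 LD3_c25)) :=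
  Lgr Lrot19 (Lpr_dt (K28.f469632 IH) (Lpr_ft (f492744 IH) (Lpr_dt (K28.f462788 IH) (Lpn (LP (LK LD1_c7 LD2_c28 LD3_c25))))))
theorem f469623 : Led Lsl_ct (LP (LK LD1_c13 LD2_c56 LD3_c5)) = (LP (LK LD1_c7 LD2_c22 LD3_c6)) :=
  Lre_c IH (LK LD1_c13 LD2_c56 LD3_c5) (LK LD1_c7 LD2_c22 LD3_c6) Lrfl Lrfl
theorem f492700 : Led Lsl_at (LP (LK LD1_c7 LD2_c22 LD3_c6)) = (LP (LK LD1_c7 LD2_c28 LD3_c24)) :=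
  Lgr Lrot107 (Lpe (f469623 IH) (Lpr_af (K33.f492684 IH) (Lpr_cf (K33.f469924 IH) (Lpn (LP (LK LD1_c7 LD2_c28 LD3_c24))))))
theorem f492706 : Led Lsl_ff (LP (LK LD1_c7 LD2_c22 LD3_c7)) = (LP (LK LD1_c7 LD2_c28 LD3_c24)) :=
  Lgr Lrot23 (Lpr_ct (K28.f129176 IH) (Lpr_ft (K33.f492702 IH) (Lpr_ct (K33.f469916 IH) (Lpn (LP (LK LD1_c7 LD2_c28 LD3_c24))))))
theorem f492754 : Led Lsl_at (LP (LK LD1_c7 LD2_c22 LD3_c7)) = (LP (LK LD1_c7 LD2_c28 LD3_c25)) :=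
  Lgr Lrot66 (Lpr_ff (f492706 IH) (Lpe (f492700 IH) (Lpr_ff (f492752 IH) (Lpn (LP (LK LD1_c7 LD2_c28 LD3_c25))))))
theorem f128313 : Led Lsl_bt (LP (LK LD1_c13 LD2_c56 LD3_c7)) = (LP (LK LD1_c7 LD2_c22 LD3_c7)) :=
  Lre_b IH (LK LD1_c13 LD2_c56 LD3_c7) (LK LD1_c7 LD2_c22 LD3_c7) Lrfl Lrfl
theorem f489591 : Led Lsl_at (LP (LK LD1_c23 LD2_c27 LD3_c11)) = (LP (LK LD1_c13 LD2_c56 LD3_c7)) :=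
  Lre_a IH (LK LD1_c23 LD2_c27 LD3_c11) (LK LD1_c13 LD2_c56 LD3_c7) Lrfl Lrfl
theorem f462790 : Led Lsl_bt (LP (LK LD1_c7 LD2_c28 LD3_c25)) = (LP (LK LD1_c14 LD2_c6 LD3_c31)) :=
  Lre_b IH (LK LD1_c7 LD2_c28 LD3_c25) (LK LD1_c14 LD2_c6 LD3_c31) Lrfl Lrfl
theorem f462856 : Led Lsl_at (LP (LK LD1_c14 LD2_c6 LD3_c31)) = (LP (LK LD1_c23 LD2_c40 LD3_c30)) :=
  Lre_a IH (LK LD1_c14 LD2_c6 LD3_c31) (LK LD1_c23 LD2_c40 LD3_c30) Lrfl Lrfl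
theorem f492770 : Led Lsl_bf (LP (LK LD1_c23 LD2_c27 LD3_c11)) = (LP (LK LD1_c23 LD2_c40 LD3_c30)) :=
  Lgr Lrot81 (Lpr_at (f489591 IH) (Lpr_bt (f128313 IH) (Lpr_at (f492754 IH) (Lpr_bt (f462790 IH) (Lpr_at (f462856 IH) (Lpn (LP (LK LD1_c23 LD2_c40 LD3_c30))))))))
theorem f14885 : Led Lsl_bt (LP (LK LD1_c1 LD2_c52 LD3_c39)) = (LP (LK LD1_c0 LD2_c53 LD3_c0)) :=
  Lre_b IH (LK LD1_c1 LD2_c52 LD3_c39) (LK LD1_c0 LD2_c53 LD3_c0) Lrfl Lrfl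
theorem f464777 : Led Lsl_ct (LP (LK LD1_c3 LD2_c51 LD3_c53)) = (LP (LK LD1_c1 LD2_c52 LD3_c39)) :=
  Lre_c IH (LK LD1_c3 LD2_c51 LD3_c53) (LK LD1_c1 LD2_c52 LD3_c39) Lrfl Lrfl
theorem f464778 : Led Lsl_bt (LP (LK LD1_c3 LD2_c40 LD3_c34)) = (LP (LK LD1_c3 LD2_c51 LD3_c53)) :=
  Lgr Lrot128 (Lpr_cf (K28.f464713 IH) (Lpe (K28.f88016 IH) (Lpe (K29.f458477 IH) (Lpe (f14885 IH) (Lpe (f464777 IH) (Lpn (LP (LK LD1_c3 LD2_c51 LD3_c53))))))))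
theorem f489573 : Led Lsl_et (LP (LK LD1_c3 LD2_c51 LD3_c53)) = (LP (LK LD1_c7 LD2_c45 LD3_c35)) :=
  Lre_e IH (LK LD1_c3 LD2_c51 LD3_c53) (LK LD1_c7 LD2_c45 LD3_c35) Lrfl Lrfl
theorem f489574 : Led Lsl_bf (LP (LK LD1_c7 LD2_c21 LD3_c19)) = (LP (LK LD1_c7 LD2_c45 LD3_c35)) :=
  Lgr Lrot96 (Lpr_et (K28.f129172 IH) (Lpr_bt (f464778 IH) (Lpr_et (f489573 IH) (Lpn (LP (LK LD1_c7 LD2_c45 LD3_c35))))))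
theorem f129175 : Led Lsl_bt (LP (LK LD1_c7 LD2_c22 LD3_c7)) = (LP (LK LD1_c13 LD2_c56 LD3_c7)) :=
  Lre_b IH (LK LD1_c7 LD2_c22 LD3_c7) (LK LD1_c13 LD2_c56 LD3_c7) Lrfl Lrfl
theorem f489578 : Led Lsl_dt (LP (LK LD1_c13 LD2_c56 LD3_c7)) = (LP (LK LD1_c7 LD2_c45 LD3_c35)) :=
  Lgr Lrot79 (Lpe (f129175 IH) (Lpe (K28.f129173 IH) (Lpr_bf (f489574 IH) (Lpn (LP (LK LD1_c7 LD2_c45 LD3_c35))))))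
theorem f489593 : Led Lsl_df (LP (LK LD1_c13 LD2_c56 LD3_c7)) = (LP (LK LD1_c7 LD2_c45 LD3_c35)) :=
  Lgr Lrot38 (Lpr_dt (f489578 IH) (Lpn (LP (LK LD1_c7 LD2_c45 LD3_c35))))
theorem f471514 : Led Lsl_et (LP (LK LD1_c7 LD2_c45 LD3_c35)) = (LP (LK LD1_c3 LD2_c51 LD3_c53)) :=
  Lre_e IH (LK LD1_c7 LD2_c45 LD3_c35) (LK LD1_c3 LD2_c51 LD3_c53) Lrfl Lrfl
theorem f471710 : Led Lsl_gt (LP (LK LD1_c3 LD2_c51 LD3_c53)) = (LP (LK LD1_c7 LD2_c25 LD3_c57)) :=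
  Lgr Lrot164 (Lpe (f464778 IH) (Lpr_ct (K33.f464711 IH) (Lpe (K28.f128085 IH) (Lpr_cf (K28.f121199 IH) (Lpr_gf (K28.f463653 IH) (Lpe (K29.f451623 IH) (Lpr_ct (K28.f451290 IH) (Lpq (K29.f471297 IH) (Lpe (K29.f457137 IH) (Lpe (K29.f203835 IH) (Lpr_bt (K28.f203890 IH) (Lpn (LP (LK LD1_c7 LD2_c25 LD3_c57))))))))))))))
theorem f462261 : Led Lsl_ef (LP (LK LD1_c7 LD2_c25 LD3_c57)) = (LP (LK LD1_c3 LD2_c56 LD3_c29)) :=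
  Lgr Lrot88 (Lpr_et (K28.f462246 IH) (Lpn (LP (LK LD1_c3 LD2_c56 LD3_c29))))
theorem f462260 : Led Lsl_dt (LP (LK LD1_c3 LD2_c56 LD3_c29)) = (LP (LK LD1_c7 LD2_c54 LD3_c43)) :=
  Lre_d IH (LK LD1_c3 LD2_c56 LD3_c29) (LK LD1_c7 LD2_c54 LD3_c43) Lrfl Lrfl
theorem f462336 : Led Lsl_gt (LP (LK LD1_c7 LD2_c54 LD3_c43)) = (LP (LK LD1_c14 LD2_c55 LD3_c24)) :=
  Lre_g IH (LK LD1_c7 LD2_c54 LD3_c43) (LK LD1_c14 LD2_c55 LD3_c24) Lrfl Lrfl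
theorem f159347 : Led Lsl_at (LP (LK LD1_c7 LD2_c21 LD3_c13)) = (LP (LK LD1_c13 LD2_c54 LD3_c1)) :=
  Lre_a IH (LK LD1_c7 LD2_c21 LD3_c13) (LK LD1_c13 LD2_c54 LD3_c1) Lrfl Lrfl
theorem f462287 : Led Lsl_at (LP (LK LD1_c14 LD2_c55 LD3_c23)) = (LP (LK LD1_c7 LD2_c54 LD3_c43)) :=
  Lre_a IH (LK LD1_c14 LD2_c55 LD3_c23) (LK LD1_c7 LD2_c54 LD3_c43) Lrfl Lrfl
theorem f462288 : Led Lsl_ff (LP (LK LD1_c7 LD2_c21 LD3_c13)) = (LP (LK LD1_c7 LD2_c54 LD3_c43)) :=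
  Lgr Lrot30 (Lpr_at (f159347 IH) (Lpr_ft (K28.f462282 IH) (Lpr_at (f462287 IH) (Lpn (LP (LK LD1_c7 LD2_c54 LD3_c43))))))
theorem f462337 : Led Lsl_gf (LP (LK LD1_c13 LD2_c54 LD3_c1)) = (LP (LK LD1_c14 LD2_c55 LD3_c24)) :=
  Lgr Lrot76 (Lpe (f159347 IH) (Lpr_ff (f462288 IH) (Lpr_gt (f462336 IH) (Lpn (LP (LK LD1_c14 LD2_c55 LD3_c24))))))
theorem f162787 : Led Lsl_et (LP (LK LD1_c7 LD2_c21 LD3_c9)) = (LP (LK LD1_c3 LD2_c40 LD3_c30)) :=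
  Lre_e IH (LK LD1_c7 LD2_c21 LD3_c9) (LK LD1_c3 LD2_c40 LD3_c30) Lrfl Lrfl
theorem f142654 : Led Lsl_ft (LP (LK LD1_c3 LD2_c42 LD3_c36)) = (LP (LK LD1_c3 LD2_c40 LD3_c29)) :=
  Lgr Lrot54 (Lpr_df (K6.f142532 IH) (Lpr_ff (K8.f142652 IH) (Lpe (K8.f136779 IH) (Lpn (LP (LK LD1_c3 LD2_c40 LD3_c29))))))
theorem f136705 : Led Lsl_at (LP (LK LD1_c1 LD2_c50 LD3_c48)) = (LP (LK LD1_c3 LD2_c47 LD3_c24)) :=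
  Lre_a IH (LK LD1_c1 LD2_c50 LD3_c48) (LK LD1_c3 LD2_c47 LD3_c24) Lrfl Lrfl
theorem f136773 : Led Lsl_af (LP (LK LD1_c3 LD2_c42 LD3_c11)) = (LP (LK LD1_c3 LD2_c40 LD3_c29)) :=
  Lgr Lrot68 (Lpe (K6.f132230 IH) (Lpr_at (f136705 IH) (Lpr_ct (K6.f136771 IH) (Lpn (LP (LK LD1_c3 LD2_c40 LD3_c29))))))
theorem f162774 : Led Lsl_gf (LP (LK LD1_c3 LD2_c42 LD3_c11)) = (LP (LK LD1_c3 LD2_c40 LD3_c30)) :=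
  Lgr Lrot76 (Lpr_af (f136773 IH) (Lpe (f142654 IH) (Lpr_gt (K8.f162770 IH) (Lpn (LP (LK LD1_c3 LD2_c40 LD3_c30))))))
theorem f128005 : Led Lsl_ft (LP (LK LD1_c3 LD2_c40 LD3_c51)) = (LP (LK LD1_c3 LD2_c26 LD3_c41)) :=
  Lgr Lrot75 (Lpe (K5.f122623 IH) (Lpr_ff (K5.f127999 IH) (Lpe (K8.f128004 IH) (Lpn (LP (LK LD1_c3 LD2_c26 LD3_c41))))))
theorem f144253 : Led Lsl_at (LP (LK LD1_c3 LD2_c26 LD3_c41)) = (LP (LK LD1_c3 LD2_c40 LD3_c52)) :=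
  Lgr Lrot33 (Lpe (f128005 IH) (Lpr_dt (K5.f122621 IH) (Lpe (K5.f120970 IH) (Lpr_dt (K4.f90253 IH) (Lpe (K2.f12084 IH) (Lpr_dt (K4.f114989 IH) (Lpr_ct (K5.f124592 IH) (Lpr_dt (K6.f124600 IH) (Lpr_ct (K6.f144249 IH) (Lpn (LP (LK LD1_c3 LD2_c40 LD3_c52))))))))))))
theorem f128030 : Led Lsl_et (LP (LK LD1_c6 LD2_c55 LD3_c15)) = (LP (LK LD1_c3 LD2_c26 LD3_c41)) :=
  Lre_e IH (LK LD1_c6 LD2_c55 LD3_c15) (LK LD1_c3 LD2_c26 LD3_c41) Lrfl Lrfl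
theorem f142458 : Led Lsl_et (LP (LK LD1_c3 LD2_c40 LD3_c52)) = (LP (LK LD1_c7 LD2_c21 LD3_c58)) :=
  Lre_e IH (LK LD1_c3 LD2_c40 LD3_c52) (LK LD1_c7 LD2_c21 LD3_c58) Lrfl Lrfl
theorem f144260 : Led Lsl_af (LP (LK LD1_c6 LD2_c55 LD3_c15)) = (LP (LK LD1_c7 LD2_c21 LD3_c58)) :=
  Lgr Lrot50 (Lpr_et (f128030 IH) (Lpr_at (f144253 IH) (Lpr_et (f142458 IH) (Lpn (LP (LK LD1_c7 LD2_c21 LD3_c58))))))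
theorem f128036 : Led Lsl_ft (LP (LK LD1_c6 LD2_c55 LD3_c15)) = (LP (LK LD1_c13 LD2_c8 LD3_c57)) :=
  Lre_f IH (LK LD1_c6 LD2_c55 LD3_c15) (LK LD1_c13 LD2_c8 LD3_c57) Lrfl Lrfl
theorem f144268 : Led Lsl_ft (LP (LK LD1_c13 LD2_c55 LD3_c42)) = (LP (LK LD1_c7 LD2_c21 LD3_c58)) :=
  Lre_f IH (LK LD1_c13 LD2_c55 LD3_c42) (LK LD1_c7 LD2_c21 LD3_c58) Lrfl Lrfl
theorem f144269 : Led Lsl_at (LP (LK LD1_c13 LD2_c8 LD3_c57)) = (LP (LK LD1_c13 LD2_c55 LD3_c42)) :=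
  Lgr Lrot66 (Lpe (f128036 IH) (Lpr_af (f144260 IH) (Lpe (f144268 IH) (Lpn (LP (LK LD1_c13 LD2_c55 LD3_c42))))))
theorem f122684 : Led Lsl_et (LP (LK LD1_c13 LD2_c55 LD3_c34)) = (LP (LK LD1_c7 LD2_c21 LD3_c55)) :=
  Lre_e IH (LK LD1_c13 LD2_c55 LD3_c34) (LK LD1_c7 LD2_c21 LD3_c55) Lrfl Lrfl
theorem f128018 : Led Lsl_ft (LP (LK LD1_c23 LD2_c26 LD3_c19)) = (LP (LK LD1_c13 LD2_c55 LD3_c34)) :=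
  Lre_f IH (LK LD1_c23 LD2_c26 LD3_c19) (LK LD1_c13 LD2_c55 LD3_c34) Lrfl Lrfl
theorem f127988 : Led Lsl_et (LP (LK LD1_c6 LD2_c55 LD3_c13)) = (LP (LK LD1_c13 LD2_c8 LD3_c52)) :=
  Lre_e IH (LK LD1_c6 LD2_c55 LD3_c13) (LK LD1_c13 LD2_c8 LD3_c52) Lrfl Lrfl
theorem f128019 : Led Lsl_ft (LP (LK LD1_c13 LD2_c8 LD3_c52)) = (LP (LK LD1_c22 LD2_c21 LD3_c11)) :=
  Lre_f IH (LK LD1_c13 LD2_c8 LD3_c52) (LK LD1_c22 LD2_c21 LD3_c11) Lrfl Lrfl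
theorem f128020 : Led Lsl_ef (LP (LK LD1_c23 LD2_c26 LD3_c19)) = (LP (LK LD1_c22 LD2_c21 LD3_c11)) :=
  Lgr Lrot21 (Lpr_ft (f128018 IH) (Lpr_et (f122684 IH) (Lpr_ft (K5.f128012 IH) (Lpr_et (f127988 IH) (Lpr_ft (f128019 IH) (Lpn (LP (LK LD1_c22 LD2_c21 LD3_c11))))))))
theorem f128022 : Led Lsl_bt (LP (LK LD1_c23 LD2_c26 LD3_c19)) = (LP (LK LD1_c13 LD2_c55 LD3_c38)) :=
  Lre_b IH (LK LD1_c23 LD2_c26 LD3_c19) (LK LD1_c13 LD2_c55 LD3_c38) Lrfl Lrfl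
theorem f128023 : Led Lsl_bt (LP (LK LD1_c13 LD2_c8 LD3_c57)) = (LP (LK LD1_c22 LD2_c21 LD3_c11)) :=
  Lre_b IH (LK LD1_c13 LD2_c8 LD3_c57) (LK LD1_c22 LD2_c21 LD3_c11) Lrfl Lrfl
theorem f128024 : Led Lsl_et (LP (LK LD1_c13 LD2_c55 LD3_c38)) = (LP (LK LD1_c13 LD2_c8 LD3_c57)) :=
  Lgr Lrot74 (Lpe (f128022 IH) (Lpr_ef (f128020 IH) (Lpe (f128023 IH) (Lpn (LP (LK LD1_c13 LD2_c8 LD3_c57))))))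
theorem f96416 : Led Lsl_ft (LP (LK LD1_c13 LD2_c52 LD3_c42)) = (LP (LK LD1_c7 LD2_c20 LD3_c15)) :=
  Lre_f IH (LK LD1_c13 LD2_c52 LD3_c42) (LK LD1_c7 LD2_c20 LD3_c15) Lrfl Lrfl
theorem f128029 : Led Lsl_ft (LP (LK LD1_c7 LD2_c21 LD3_c56)) = (LP (LK LD1_c13 LD2_c55 LD3_c38)) :=
  Lre_f IH (LK LD1_c7 LD2_c21 LD3_c56) (LK LD1_c13 LD2_c55 LD3_c38) Lrfl Lrfl
theorem f132042 : Led Lsl_af (LP (LK LD1_c13 LD2_c52 LD3_c42)) = (LP (LK LD1_c13 LD2_c55 LD3_c38)) :=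
  Lgr Lrot45 (Lpr_ft (f96416 IH) (Lpr_at (K6.f132034 IH) (Lpr_ft (f128029 IH) (Lpn (LP (LK LD1_c13 LD2_c55 LD3_c38))))))
theorem f132046 : Led Lsl_at (LP (LK LD1_c13 LD2_c52 LD3_c42)) = (LP (LK LD1_c13 LD2_c55 LD3_c38)) :=
  Lgr Lrot100 (Lpr_af (f132042 IH) (Lpn (LP (LK LD1_c13 LD2_c55 LD3_c38))))
theorem f144273 : Led Lsl_ef (LP (LK LD1_c13 LD2_c52 LD3_c42)) = (LP (LK LD1_c13 LD2_c55 LD3_c42)) :=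
  Lgr Lrot20 (Lpr_at (f132046 IH) (Lpr_et (f128024 IH) (Lpr_at (f144269 IH) (Lpn (LP (LK LD1_c13 LD2_c55 LD3_c42))))))
theorem f96394 : Led Lsl_et (LP (LK LD1_c7 LD2_c20 LD3_c15)) = (LP (LK LD1_c3 LD2_c40 LD3_c3)) :=
  Lre_e IH (LK LD1_c7 LD2_c20 LD3_c15) (LK LD1_c3 LD2_c40 LD3_c3) Lrfl Lrfl
theorem f144278 : Led Lsl_ft (LP (LK LD1_c7 LD2_c21 LD3_c58)) = (LP (LK LD1_c13 LD2_c55 LD3_c42)) :=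
  Lre_f IH (LK LD1_c7 LD2_c21 LD3_c58) (LK LD1_c13 LD2_c55 LD3_c42) Lrfl Lrfl
theorem f144279 : Led Lsl_ft (LP (LK LD1_c3 LD2_c40 LD3_c3)) = (LP (LK LD1_c3 LD2_c40 LD3_c52)) :=
  Lgr Lrot86 (Lpe (f96394 IH) (Lpe (f96416 IH) (Lpr_ef (f144273 IH) (Lpe (f144278 IH) (Lpe (f142458 IH) (Lpn (LP (LK LD1_c3 LD2_c40 LD3_c52))))))))
theorem f96390 : Led Lsl_bf (LP (LK LD1_c3 LD2_c40 LD3_c3)) = (LP (LK LD1_c3 LD2_c50 LD3_c2)) :=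
  Lgr Lrot24 (Lpr_bt (K7.f96386 IH) (Lpn (LP (LK LD1_c3 LD2_c50 LD3_c2))))
theorem f142453 : Led Lsl_bt (LP (LK LD1_c3 LD2_c40 LD3_c52)) = (LP (LK LD1_c7 LD2_c21 LD3_c57)) :=
  Lre_b IH (LK LD1_c3 LD2_c40 LD3_c52) (LK LD1_c7 LD2_c21 LD3_c57) Lrfl Lrfl
theorem f144281 : Led Lsl_ff (LP (LK LD1_c3 LD2_c50 LD3_c2)) = (LP (LK LD1_c7 LD2_c21 LD3_c57)) :=
  Lgr Lrot25 (Lpe (f96390 IH) (Lpr_ft (f144279 IH) (Lpr_bt (f142453 IH) (Lpn (LP (LK LD1_c7 LD2_c21 LD3_c57))))))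
theorem f132151 : Led Lsl_ft (LP (LK LD1_c1 LD2_c51 LD3_c60)) = (LP (LK LD1_c3 LD2_c42 LD3_c11)) :=
  Lgr Lrot75 (Lpe (K5.f96336 IH) (Lpr_ff (K5.f132147 IH) (Lpe (K5.f108151 IH) (Lpn (LP (LK LD1_c3 LD2_c42 LD3_c11))))))
theorem f144285 : Led Lsl_dt (LP (LK LD1_c3 LD2_c42 LD3_c11)) = (LP (LK LD1_c7 LD2_c21 LD3_c57)) :=
  Lgr Lrot60 (Lpe (f132151 IH) (Lpe (K7.f96385 IH) (Lpr_ff (f144281 IH) (Lpn (LP (LK LD1_c7 LD2_c21 LD3_c57))))))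
theorem f144289 : Led Lsl_gf (LP (LK LD1_c3 LD2_c41 LD3_c2)) = (LP (LK LD1_c7 LD2_c21 LD3_c57)) :=
  Lgr Lrot47 (Lpr_gt (K6.f122190 IH) (Lpr_af (K8.f142621 IH) (Lpr_ff (f144281 IH) (Lpn (LP (LK LD1_c7 LD2_c21 LD3_c57))))))
theorem f122170 : Led Lsl_et (LP (LK LD1_c1 LD2_c47 LD3_c27)) = (LP (LK LD1_c3 LD2_c41 LD3_c3)) :=
  Lre_e IH (LK LD1_c1 LD2_c47 LD3_c27) (LK LD1_c3 LD2_c41 LD3_c3) Lrfl Lrfl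
theorem f144293 : Led Lsl_gt (LP (LK LD1_c3 LD2_c41 LD3_c3)) = (LP (LK LD1_c7 LD2_c22 LD3_c20)) :=
  Lre_g IH (LK LD1_c3 LD2_c41 LD3_c3) (LK LD1_c7 LD2_c22 LD3_c20) Lrfl Lrfl
theorem f144296 : Led Lsl_et (LP (LK LD1_c13 LD2_c56 LD3_c25)) = (LP (LK LD1_c7 LD2_c22 LD3_c20)) :=
  Lre_e IH (LK LD1_c13 LD2_c56 LD3_c25) (LK LD1_c7 LD2_c22 LD3_c20) Lrfl Lrfl
theorem f462340 : Led Lsl_dt (LP (LK LD1_c13 LD2_c56 LD3_c25)) = (LP (LK LD1_c14 LD2_c55 LD3_c24)) :=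
  Lgr Lrot136 (Lpr_et (f144296 IH) (Lpe (f144293 IH) (Lpe (f122170 IH) (Lpr_dt (K5.f122154 IH) (Lpr_gf (f144289 IH) (Lpe (f144285 IH) (Lpr_gf (f162774 IH) (Lpe (f162787 IH) (Lpr_dt (K28.f162788 IH) (Lpr_gf (f462337 IH) (Lpn (LP (LK LD1_c14 LD2_c55 LD3_c24)))))))))))))
theorem f469648 : Led Lsl_bt (LP (LK LD1_c3 LD2_c40 LD3_c55)) = (LP (LK LD1_c7 LD2_c22 LD3_c4)) :=
  Lre_b IH (LK LD1_c3 LD2_c40 LD3_c55) (LK LD1_c7 LD2_c22 LD3_c4) Lrfl Lrfl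
theorem f209118 : Led Lsl_bt (LP (LK LD1_c1 LD2_c47 LD3_c29)) = (LP (LK LD1_c3 LD2_c41 LD3_c3)) :=
  Lre_b IH (LK LD1_c1 LD2_c47 LD3_c29) (LK LD1_c3 LD2_c41 LD3_c3) Lrfl Lrfl
theorem f469649 : Led Lsl_gt (LP (LK LD1_c7 LD2_c22 LD3_c4)) = (LP (LK LD1_c3 LD2_c41 LD3_c3)) :=
  Lgr Lrot164 (Lpe (f469648 IH) (Lpr_ct (K28.f469637 IH) (Lpr_gf (K28.f468115 IH) (Lpe (K28.f455624 IH) (Lpe (K28.f455623 IH) (Lpe (K24.f458241 IH) (Lpr_ct (K28.f455646 IH) (Lpq (K28.f466161 IH) (Lpe (K28.f457152 IH) (Lpe (K28.f122512 IH) (Lpr_bt (f209118 IH) (Lpn (LP (LK LD1_c3 LD2_c41 LD3_c3))))))))))))))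
theorem f469651 : Led Lsl_gt (LP (LK LD1_c13 LD2_c55 LD3_c61)) = (LP (LK LD1_c7 LD2_c22 LD3_c4)) :=
  Lre_g IH (LK LD1_c13 LD2_c55 LD3_c61) (LK LD1_c7 LD2_c22 LD3_c4) Lrfl Lrfl
theorem f469652 : Led Lsl_ft (LP (LK LD1_c13 LD2_c55 LD3_c61)) = (LP (LK LD1_c7 LD2_c22 LD3_c16)) :=
  Lgr Lrot2 (Lpr_gt (f469651 IH) (Lpr_gt (f469649 IH) (Lpe (K28.f122046 IH) (Lpn (LP (LK LD1_c7 LD2_c22 LD3_c16))))))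
theorem f122171 : Led Lsl_ft (LP (LK LD1_c3 LD2_c41 LD3_c3)) = (LP (LK LD1_c7 LD2_c22 LD3_c22)) :=
  Lre_f IH (LK LD1_c3 LD2_c41 LD3_c3) (LK LD1_c7 LD2_c22 LD3_c22) Lrfl Lrfl
theorem f469663 : Led Lsl_af (LP (LK LD1_c13 LD2_c55 LD3_c61)) = (LP (LK LD1_c7 LD2_c22 LD3_c22)) :=
  Lgr Lrot45 (Lpr_ft (f469652 IH) (Lpr_at (K28.f122046 IH) (Lpr_ft (f122171 IH) (Lpn (LP (LK LD1_c7 LD2_c22 LD3_c22))))))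
theorem f469802 : Led Lsl_gf (LP (LK LD1_c13 LD2_c55 LD3_c61)) = (LP (LK LD1_c7 LD2_c22 LD3_c20)) :=
  Lgr Lrot76 (Lpr_af (f469663 IH) (Lpe (f122171 IH) (Lpr_gt (f144293 IH) (Lpn (LP (LK LD1_c7 LD2_c22 LD3_c20))))))
theorem f469676 : Led Lsl_dt (LP (LK LD1_c13 LD2_c55 LD3_c61)) = (LP (LK LD1_c23 LD2_c26 LD3_c61)) :=
  Lre_d IH (LK LD1_c13 LD2_c55 LD3_c61) (LK LD1_c23 LD2_c26 LD3_c61) Lrfl Lrfl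
theorem f489602 : Led Lsl_gf (LP (LK LD1_c13 LD2_c56 LD3_c7)) = (LP (LK LD1_c23 LD2_c26 LD3_c61)) :=
  Lgr Lrot134 (Lpr_df (f489593 IH) (Lpr_et (f471514 IH) (Lpr_gt (f471710 IH) (Lpr_ef (f462261 IH) (Lpr_dt (f462260 IH) (Lpr_gt (f462336 IH) (Lpe (f462340 IH) (Lpr_et (f144296 IH) (Lpe (f469802 IH) (Lpr_dt (f469676 IH) (Lpn (LP (LK LD1_c23 LD2_c26 LD3_c61)))))))))))))
theorem f469674 : Led Lsl_ff (LP (LK LD1_c13 LD2_c55 LD3_c61)) = (LP (LK LD1_c7 LD2_c22 LD3_c16)) :=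
  Lgr Lrot3 (Lpr_ft (f469652 IH) (Lpn (LP (LK LD1_c7 LD2_c22 LD3_c16))))
theorem f122083 : Led Lsl_dt (LP (LK LD1_c13 LD2_c56 LD3_c17)) = (LP (LK LD1_c7 LD2_c22 LD3_c16)) :=
  Lre_d IH (LK LD1_c13 LD2_c56 LD3_c17) (LK LD1_c7 LD2_c22 LD3_c16) Lrfl Lrfl
theorem f469684 : Led Lsl_ft (LP (LK LD1_c23 LD2_c26 LD3_c61)) = (LP (LK LD1_c13 LD2_c56 LD3_c17)) :=
  Lgr Lrot54 (Lpe (f469676 IH) (Lpr_ff (f469674 IH) (Lpe (f122083 IH) (Lpn (LP (LK LD1_c13 LD2_c56 LD3_c17))))))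
theorem f131785 : Led Lsl_at (LP (LK LD1_c13 LD2_c56 LD3_c17)) = (LP (LK LD1_c7 LD2_c22 LD3_c21)) :=
  Lre_a IH (LK LD1_c13 LD2_c56 LD3_c17) (LK LD1_c7 LD2_c22 LD3_c21) Lrfl Lrfl
theorem f469741 : Led Lsl_ft (LP (LK LD1_c7 LD2_c22 LD3_c21)) = (LP (LK LD1_c13 LD2_c56 LD3_c28)) :=
  Lre_f IH (LK LD1_c7 LD2_c22 LD3_c21) (LK LD1_c13 LD2_c56 LD3_c28) Lrfl Lrfl
theorem f469742 : Led Lsl_af (LP (LK LD1_c23 LD2_c26 LD3_c61)) = (LP (LK LD1_c13 LD2_c56 LD3_c28)) :=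
  Lgr Lrot45 (Lpr_ft (f469684 IH) (Lpr_at (f131785 IH) (Lpr_ft (f469741 IH) (Lpn (LP (LK LD1_c13 LD2_c56 LD3_c28))))))
theorem f123576 : Led Lsl_gt (LP (LK LD1_c7 LD2_c22 LD3_c21)) = (LP (LK LD1_c13 LD2_c56 LD3_c26)) :=
  Lre_g IH (LK LD1_c7 LD2_c22 LD3_c21) (LK LD1_c13 LD2_c56 LD3_c26) Lrfl Lrfl
theorem f469781 : Led Lsl_gf (LP (LK LD1_c23 LD2_c26 LD3_c61)) = (LP (LK LD1_c13 LD2_c56 LD3_c26)) :=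
  Lgr Lrot76 (Lpr_af (f469742 IH) (Lpe (f469741 IH) (Lpr_gt (f123576 IH) (Lpn (LP (LK LD1_c13 LD2_c56 LD3_c26))))))
theorem f489604 : Led Lsl_ff (LP (LK LD1_c23 LD2_c27 LD3_c11)) = (LP (LK LD1_c13 LD2_c56 LD3_c26)) :=
  Lgr Lrot52 (Lpr_at (f489591 IH) (Lpr_gf (f489602 IH) (Lpr_gf (f469781 IH) (Lpn (LP (LK LD1_c13 LD2_c56 LD3_c26))))))
theorem f489609 : Led Lsl_ft (LP (LK LD1_c23 LD2_c27 LD3_c11)) = (LP (LK LD1_c13 LD2_c56 LD3_c26)) :=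
  Lgr Lrot48 (Lpr_ff (f489604 IH) (Lpn (LP (LK LD1_c13 LD2_c56 LD3_c26))))
theorem f469629 : Led Lsl_bt (LP (LK LD1_c7 LD2_c22 LD3_c6)) = (LP (LK LD1_c13 LD2_c56 LD3_c4)) :=
  Lre_b IH (LK LD1_c7 LD2_c22 LD3_c6) (LK LD1_c13 LD2_c56 LD3_c4) Lrfl Lrfl
theorem f462853 : Led Lsl_bt (LP (LK LD1_c14 LD2_c6 LD3_c31)) = (LP (LK LD1_c7 LD2_c28 LD3_c25)) :=
  Lre_b IH (LK LD1_c14 LD2_c6 LD3_c31) (LK LD1_c7 LD2_c28 LD3_c25) Lrfl Lrfl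
theorem f492756 : Led Lsl_ft (LP (LK LD1_c13 LD2_c56 LD3_c4)) = (LP (LK LD1_c14 LD2_c6 LD3_c31)) :=
  Lgr Lrot75 (Lpe (f469629 IH) (Lpr_ff (f492752 IH) (Lpe (f462853 IH) (Lpn (LP (LK LD1_c14 LD2_c6 LD3_c31))))))
theorem f492762 : Led Lsl_ff (LP (LK LD1_c13 LD2_c56 LD3_c4)) = (LP (LK LD1_c14 LD2_c6 LD3_c31)) :=
  Lgr Lrot3 (Lpr_ft (f492756 IH) (Lpn (LP (LK LD1_c14 LD2_c6 LD3_c31))))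
theorem f469877 : Led Lsl_at (LP (LK LD1_c13 LD2_c56 LD3_c4)) = (LP (LK LD1_c23 LD2_c27 LD3_c7)) :=
  Lre_a IH (LK LD1_c13 LD2_c56 LD3_c4) (LK LD1_c23 LD2_c27 LD3_c7) Lrfl Lrfl
theorem f462864 : Led Lsl_at (LP (LK LD1_c23 LD2_c40 LD3_c30)) = (LP (LK LD1_c14 LD2_c6 LD3_c31)) :=
  Lre_a IH (LK LD1_c23 LD2_c40 LD3_c30) (LK LD1_c14 LD2_c6 LD3_c31) Lrfl Lrfl
theorem f492764 : Led Lsl_ft (LP (LK LD1_c23 LD2_c27 LD3_c7)) = (LP (LK LD1_c23 LD2_c40 LD3_c30)) :=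
  Lgr Lrot101 (Lpe (f469877 IH) (Lpr_ff (f492762 IH) (Lpe (f462864 IH) (Lpn (LP (LK LD1_c23 LD2_c40 LD3_c30))))))
theorem f492774 : Led Lsl_bt (LP (LK LD1_c13 LD2_c56 LD3_c26)) = (LP (LK LD1_c23 LD2_c27 LD3_c7)) :=
  Lgr Lrot35 (Lpe (f489609 IH) (Lpr_bf (f492770 IH) (Lpe (f492764 IH) (Lpn (LP (LK LD1_c23 LD2_c27 LD3_c7))))))
theorem f492778 : Led Lsl_bf (LP (LK LD1_c13 LD2_c56 LD3_c26)) = (LP (LK LD1_c23 LD2_c27 LD3_c7)) :=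
  Lgr Lrot24 (Lpr_bt (f492774 IH) (Lpn (LP (LK LD1_c23 LD2_c27 LD3_c7))))
theorem f469918 : Led Lsl_bt (LP (LK LD1_c14 LD2_c6 LD3_c29)) = (LP (LK LD1_c7 LD2_c28 LD3_c24)) :=
  Lre_b IH (LK LD1_c14 LD2_c6 LD3_c29) (LK LD1_c7 LD2_c28 LD3_c24) Lrfl Lrfl
theorem f492780 : Led Lsl_at (LP (LK LD1_c13 LD2_c56 LD3_c26)) = (LP (LK LD1_c14 LD2_c6 LD3_c29)) :=
  Lgr Lrot67 (Lpr_bf (f492778 IH) (Lpe (f469877 IH) (Lpe (f469629 IH) (Lpr_af (f492720 IH) (Lpe (f469918 IH) (Lpn (LP (LK LD1_c14 LD2_c6 LD3_c29))))))))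
theorem f122234 : Led Lsl_et (LP (LK LD1_c23 LD2_c28 LD3_c4)) = (LP (LK LD1_c13 LD2_c56 LD3_c38)) :=
  Lre_e IH (LK LD1_c23 LD2_c28 LD3_c4) (LK LD1_c13 LD2_c56 LD3_c38) Lrfl Lrfl
theorem f131844 : Led Lsl_et (LP (LK LD1_c14 LD2_c5 LD3_c34)) = (LP (LK LD1_c23 LD2_c39 LD3_c3)) :=
  Lre_e IH (LK LD1_c14 LD2_c5 LD3_c34) (LK LD1_c23 LD2_c39 LD3_c3) Lrfl Lrfl
theorem f131845 : Led Lsl_af (LP (LK LD1_c23 LD2_c28 LD3_c4)) = (LP (LK LD1_c23 LD2_c39 LD3_c3)) :=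
  Lgr Lrot50 (Lpr_et (f122234 IH) (Lpr_at (K5.f131820 IH) (Lpr_et (f131844 IH) (Lpn (LP (LK LD1_c23 LD2_c39 LD3_c3))))))
theorem f131856 : Led Lsl_at (LP (LK LD1_c23 LD2_c28 LD3_c4)) = (LP (LK LD1_c23 LD2_c39 LD3_c3)) :=
  Lgr Lrot100 (Lpr_af (f131845 IH) (Lpn (LP (LK LD1_c23 LD2_c39 LD3_c3))))
theorem f131869 : Led Lsl_ft (LP (LK LD1_c13 LD2_c56 LD3_c59)) = (LP (LK LD1_c23 LD2_c28 LD3_c4)) :=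
  Lre_f IH (LK LD1_c13 LD2_c56 LD3_c59) (LK LD1_c23 LD2_c28 LD3_c4) Lrfl Lrfl
theorem f131870 : Led Lsl_ft (LP (LK LD1_c23 LD2_c39 LD3_c3)) = (LP (LK LD1_c14 LD2_c5 LD3_c55)) :=
  Lre_f IH (LK LD1_c23 LD2_c39 LD3_c3) (LK LD1_c14 LD2_c5 LD3_c55) Lrfl Lrfl
theorem f131871 : Led Lsl_af (LP (LK LD1_c13 LD2_c56 LD3_c59)) = (LP (LK LD1_c14 LD2_c5 LD3_c55)) :=
  Lgr Lrot45 (Lpr_ft (f131869 IH) (Lpr_at (f131856 IH) (Lpr_ft (f131870 IH) (Lpn (LP (LK LD1_c14 LD2_c5 LD3_c55))))))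
theorem f131882 : Led Lsl_ct (LP (LK LD1_c13 LD2_c56 LD3_c59)) = (LP (LK LD1_c23 LD2_c28 LD3_c39)) :=
  Lre_c IH (LK LD1_c13 LD2_c56 LD3_c59) (LK LD1_c23 LD2_c28 LD3_c39) Lrfl Lrfl
theorem f131883 : Led Lsl_ct (LP (LK LD1_c23 LD2_c39 LD3_c42)) = (LP (LK LD1_c14 LD2_c5 LD3_c55)) :=
  Lre_c IH (LK LD1_c23 LD2_c39 LD3_c42) (LK LD1_c14 LD2_c5 LD3_c55) Lrfl Lrfl
theorem f131884 : Led Lsl_at (LP (LK LD1_c23 LD2_c28 LD3_c39)) = (LP (LK LD1_c23 LD2_c39 LD3_c42)) :=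
  Lgr Lrot107 (Lpe (f131882 IH) (Lpr_af (f131871 IH) (Lpe (f131883 IH) (Lpn (LP (LK LD1_c23 LD2_c39 LD3_c42))))))
theorem f131750 : Led Lsl_et (LP (LK LD1_c13 LD2_c56 LD3_c58)) = (LP (LK LD1_c23 LD2_c28 LD3_c39)) :=
  Lre_e IH (LK LD1_c13 LD2_c56 LD3_c58) (LK LD1_c23 LD2_c28 LD3_c39) Lrfl Lrfl
theorem f131899 : Led Lsl_et (LP (LK LD1_c23 LD2_c39 LD3_c42)) = (LP (LK LD1_c14 LD2_c5 LD3_c54)) :=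
  Lre_e IH (LK LD1_c23 LD2_c39 LD3_c42) (LK LD1_c14 LD2_c5 LD3_c54) Lrfl Lrfl
theorem f131900 : Led Lsl_af (LP (LK LD1_c13 LD2_c56 LD3_c58)) = (LP (LK LD1_c14 LD2_c5 LD3_c54)) :=
  Lgr Lrot50 (Lpr_et (f131750 IH) (Lpr_at (f131884 IH) (Lpr_et (f131899 IH) (Lpn (LP (LK LD1_c14 LD2_c5 LD3_c54))))))
theorem f131751 : Led Lsl_ft (LP (LK LD1_c13 LD2_c56 LD3_c58)) = (LP (LK LD1_c7 LD2_c22 LD3_c35)) :=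
  Lre_f IH (LK LD1_c13 LD2_c56 LD3_c58) (LK LD1_c7 LD2_c22 LD3_c35) Lrfl Lrfl
theorem f131907 : Led Lsl_ft (LP (LK LD1_c7 LD2_c28 LD3_c1)) = (LP (LK LD1_c14 LD2_c5 LD3_c54)) :=
  Lre_f IH (LK LD1_c7 LD2_c28 LD3_c1) (LK LD1_c14 LD2_c5 LD3_c54) Lrfl Lrfl
theorem f131908 : Led Lsl_at (LP (LK LD1_c7 LD2_c22 LD3_c35)) = (LP (LK LD1_c7 LD2_c28 LD3_c1)) :=
  Lgr Lrot66 (Lpe (f131751 IH) (Lpr_af (f131900 IH) (Lpe (f131907 IH) (Lpn (LP (LK LD1_c7 LD2_c28 LD3_c1))))))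
theorem f131932 : Led Lsl_gt (LP (LK LD1_c13 LD2_c56 LD3_c58)) = (LP (LK LD1_c14 LD2_c5 LD3_c51)) :=
  Lgr Lrot5 (Lpr_ft (f131751 IH) (Lpr_at (f131908 IH) (Lpe (K33.f131931 IH) (Lpn (LP (LK LD1_c14 LD2_c5 LD3_c51))))))
theorem f131756 : Led Lsl_ct (LP (LK LD1_c7 LD2_c22 LD3_c36)) = (LP (LK LD1_c13 LD2_c56 LD3_c58)) :=
  Lre_c IH (LK LD1_c7 LD2_c22 LD3_c36) (LK LD1_c13 LD2_c56 LD3_c58) Lrfl Lrfl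
theorem f131757 : Led Lsl_bt (LP (LK LD1_c7 LD2_c22 LD3_c36)) = (LP (LK LD1_c13 LD2_c56 LD3_c28)) :=
  Lre_b IH (LK LD1_c7 LD2_c22 LD3_c36) (LK LD1_c13 LD2_c56 LD3_c28) Lrfl Lrfl
theorem f469923 : Led Lsl_bt (LP (LK LD1_c7 LD2_c28 LD3_c24)) = (LP (LK LD1_c14 LD2_c6 LD3_c29)) :=
  Lre_b IH (LK LD1_c7 LD2_c28 LD3_c24) (LK LD1_c14 LD2_c6 LD3_c29) Lrfl Lrfl
theorem f469931 : Led Lsl_gf (LP (LK LD1_c13 LD2_c56 LD3_c28)) = (LP (LK LD1_c14 LD2_c6 LD3_c29)) :=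
  Lgr Lrot124 (Lpe (f131757 IH) (Lpr_ct (f131756 IH) (Lpr_gt (f131932 IH) (Lpe (K33.f464336 IH) (Lpr_bt (K33.f469319 IH) (Lpr_gt (K28.f462873 IH) (Lpr_ct (K28.f116404 IH) (Lpr_gt (K33.f462879 IH) (Lpr_cf (K33.f469924 IH) (Lpr_bt (f469923 IH) (Lpn (LP (LK LD1_c14 LD2_c6 LD3_c29)))))))))))))
theorem f469746 : Led Lsl_ct (LP (LK LD1_c31 LD2_c3 LD3_c32)) = (LP (LK LD1_c23 LD2_c26 LD3_c61)) :=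
  Lre_c IH (LK LD1_c31 LD2_c3 LD3_c32) (LK LD1_c23 LD2_c26 LD3_c61) Lrfl Lrfl
theorem f209139 : Led Lsl_ct (LP (LK LD1_c13 LD2_c56 LD3_c17)) = (LP (LK LD1_c23 LD2_c27 LD3_c24)) :=
  Lre_c IH (LK LD1_c13 LD2_c56 LD3_c17) (LK LD1_c23 LD2_c27 LD3_c24) Lrfl Lrfl
theorem f469747 : Led Lsl_ff (LP (LK LD1_c31 LD2_c3 LD3_c32)) = (LP (LK LD1_c23 LD2_c27 LD3_c24)) :=
  Lgr Lrot23 (Lpr_ct (f469746 IH) (Lpr_ft (f469684 IH) (Lpr_ct (f209139 IH) (Lpn (LP (LK LD1_c23 LD2_c27 LD3_c24))))))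
theorem f469751 : Led Lsl_ft (LP (LK LD1_c31 LD2_c3 LD3_c32)) = (LP (LK LD1_c23 LD2_c27 LD3_c24)) :=
  Lgr Lrot48 (Lpr_ff (f469747 IH) (Lpn (LP (LK LD1_c23 LD2_c27 LD3_c24))))
theorem f469756 : Led Lsl_at (LP (LK LD1_c23 LD2_c27 LD3_c24)) = (LP (LK LD1_c13 LD2_c56 LD3_c27)) :=
  Lre_a IH (LK LD1_c23 LD2_c27 LD3_c24) (LK LD1_c13 LD2_c56 LD3_c27) Lrfl Lrfl
theorem f469757 : Led Lsl_ft (LP (LK LD1_c13 LD2_c56 LD3_c27)) = (LP (LK LD1_c23 LD2_c27 LD3_c40)) :=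
  Lre_f IH (LK LD1_c13 LD2_c56 LD3_c27) (LK LD1_c23 LD2_c27 LD3_c40) Lrfl Lrfl
theorem f469758 : Led Lsl_af (LP (LK LD1_c31 LD2_c3 LD3_c32)) = (LP (LK LD1_c23 LD2_c27 LD3_c40)) :=
  Lgr Lrot45 (Lpr_ft (f469751 IH) (Lpr_at (f469756 IH) (Lpr_ft (f469757 IH) (Lpn (LP (LK LD1_c23 LD2_c27 LD3_c40))))))
theorem f131778 : Led Lsl_ct (LP (LK LD1_c13 LD2_c56 LD3_c28)) = (LP (LK LD1_c23 LD2_c27 LD3_c40)) :=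
  Lre_c IH (LK LD1_c13 LD2_c56 LD3_c28) (LK LD1_c23 LD2_c27 LD3_c40) Lrfl Lrfl
theorem f469764 : Led Lsl_at (LP (LK LD1_c23 LD2_c26 LD3_c61)) = (LP (LK LD1_c13 LD2_c56 LD3_c28)) :=
  Lgr Lrot107 (Lpe (f469746 IH) (Lpr_af (f469758 IH) (Lpe (f131778 IH) (Lpn (LP (LK LD1_c13 LD2_c56 LD3_c28))))))
theorem f469669 : Led Lsl_dt (LP (LK LD1_c23 LD2_c26 LD3_c61)) = (LP (LK LD1_c13 LD2_c55 LD3_c61)) :=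
  Lre_d IH (LK LD1_c23 LD2_c26 LD3_c61) (LK LD1_c13 LD2_c55 LD3_c61) Lrfl Lrfl
theorem f122076 : Led Lsl_dt (LP (LK LD1_c7 LD2_c22 LD3_c16)) = (LP (LK LD1_c13 LD2_c56 LD3_c17)) :=
  Lre_d IH (LK LD1_c7 LD2_c22 LD3_c16) (LK LD1_c13 LD2_c56 LD3_c17) Lrfl Lrfl
theorem f469670 : Led Lsl_ff (LP (LK LD1_c23 LD2_c26 LD3_c61)) = (LP (LK LD1_c13 LD2_c56 LD3_c17)) :=
  Lgr Lrot19 (Lpr_dt (f469669 IH) (Lpr_ft (f469652 IH) (Lpr_dt (f122076 IH) (Lpn (LP (LK LD1_c13 LD2_c56 LD3_c17))))))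
theorem f469933 : Led Lsl_gt (LP (LK LD1_c13 LD2_c56 LD3_c17)) = (LP (LK LD1_c14 LD2_c6 LD3_c29)) :=
  Lgr Lrot5 (Lpe (f469670 IH) (Lpr_at (f469764 IH) (Lpr_gf (f469931 IH) (Lpn (LP (LK LD1_c14 LD2_c6 LD3_c29))))))
theorem f492787 : Led Lsl_gt (LP (LK LD1_c23 LD2_c27 LD3_c11)) = (LP (LK LD1_c13 LD2_c56 LD3_c17)) :=
  Lgr Lrot5 (Lpr_ft (f489609 IH) (Lpr_at (f492780 IH) (Lpe (f469933 IH) (Lpn (LP (LK LD1_c13 LD2_c56 LD3_c17))))))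
theorem f122064 : Led Lsl_et (LP (LK LD1_c7 LD2_c22 LD3_c16)) = (LP (LK LD1_c3 LD2_c41 LD3_c1)) :=
  Lre_e IH (LK LD1_c7 LD2_c22 LD3_c16) (LK LD1_c3 LD2_c41 LD3_c1) Lrfl Lrfl
theorem f147957 : Led Lsl_gt (LP (LK LD1_c7 LD2_c1 LD3_c20)) = (LP (LK LD1_c3 LD2_c42 LD3_c38)) :=
  Lgr Lrot5 (Lpr_ft (K7.f147945 IH) (Lpe (K7.f147902 IH) (Lpe (K7.f125598 IH) (Lpn (LP (LK LD1_c3 LD2_c42 LD3_c38))))))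
theorem f147960 : Led Lsl_gt (LP (LK LD1_c3 LD2_c42 LD3_c39)) = (LP (LK LD1_c7 LD2_c25 LD3_c55)) :=
  Lre_g IH (LK LD1_c3 LD2_c42 LD3_c39) (LK LD1_c7 LD2_c25 LD3_c55) Lrfl Lrfl
theorem f147961 : Led Lsl_et (LP (LK LD1_c14 LD2_c2 LD3_c59)) = (LP (LK LD1_c7 LD2_c25 LD3_c55)) :=
  Lre_e IH (LK LD1_c14 LD2_c2 LD3_c59) (LK LD1_c7 LD2_c25 LD3_c55) Lrfl Lrfl
theorem f492791 : Led Lsl_df (LP (LK LD1_c23 LD2_c27 LD3_c11)) = (LP (LK LD1_c14 LD2_c2 LD3_c59)) :=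
  Lgr Lrot170 (Lpr_gt (f492787 IH) (Lpe (f122076 IH) (Lpr_et (f122064 IH) (Lpr_gt (K4.f122071 IH) (Lpr_dt (K6.f122073 IH) (Lpr_gt (f147957 IH) (Lpe (K7.f142534 IH) (Lpr_et (K28.f142685 IH) (Lpr_gt (f147960 IH) (Lpe (f147961 IH) (Lpn (LP (LK LD1_c14 LD2_c2 LD3_c59)))))))))))))
theorem f492797 : Led Lsl_dt (LP (LK LD1_c23 LD2_c27 LD3_c11)) = (LP (LK LD1_c14 LD2_c2 LD3_c59)) :=
  Lgr Lrot42 (Lpr_df (f492791 IH) (Lpn (LP (LK LD1_c14 LD2_c2 LD3_c59))))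
theorem f462804 : Led Lsl_bt (LP (LK LD1_c6 LD2_c57 LD3_c44)) = (LP (LK LD1_c13 LD2_c13 LD3_c9)) :=
  Lre_b IH (LK LD1_c6 LD2_c57 LD3_c44) (LK LD1_c13 LD2_c13 LD3_c9) Lrfl Lrfl
theorem f462854 : Led Lsl_dt (LP (LK LD1_c13 LD2_c13 LD3_c9)) = (LP (LK LD1_c14 LD2_c6 LD3_c31)) :=
  Lgr Lrot79 (Lpe (f462804 IH) (Lpr_df (K32.f462793 IH) (Lpe (f462853 IH) (Lpn (LP (LK LD1_c14 LD2_c6 LD3_c31))))))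
theorem f462829 : Led Lsl_at (LP (LK LD1_c22 LD2_c27 LD3_c15)) = (LP (LK LD1_c13 LD2_c13 LD3_c9)) :=
  Lre_a IH (LK LD1_c22 LD2_c27 LD3_c15) (LK LD1_c13 LD2_c13 LD3_c9) Lrfl Lrfl
theorem f462857 : Led Lsl_df (LP (LK LD1_c22 LD2_c27 LD3_c15)) = (LP (LK LD1_c23 LD2_c40 LD3_c30)) :=
  Lgr Lrot18 (Lpr_at (f462829 IH) (Lpr_dt (f462854 IH) (Lpr_at (f462856 IH) (Lpn (LP (LK LD1_c23 LD2_c40 LD3_c30))))))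
theorem f462862 : Led Lsl_dt (LP (LK LD1_c22 LD2_c27 LD3_c15)) = (LP (LK LD1_c23 LD2_c40 LD3_c30)) :=
  Lgr Lrot42 (Lpr_df (f462857 IH) (Lpn (LP (LK LD1_c23 LD2_c40 LD3_c30))))
theorem f492802 : Led Lsl_bf (LP (LK LD1_c22 LD2_c27 LD3_c15)) = (LP (LK LD1_c14 LD2_c2 LD3_c59)) :=
  Lgr Lrot93 (Lpr_dt (f462862 IH) (Lpe (f492770 IH) (Lpr_dt (f492797 IH) (Lpn (LP (LK LD1_c14 LD2_c2 LD3_c59))))))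
theorem f462816 : Led Lsl_ct (LP (LK LD1_c6 LD2_c54 LD3_c32)) = (LP (LK LD1_c7 LD2_c25 LD3_c27)) :=
  Lgr Lrot59 (Lpr_cf (K28.f462809 IH) (Lpn (LP (LK LD1_c7 LD2_c25 LD3_c27))))
theorem f462820 : Led Lsl_at (LP (LK LD1_c7 LD2_c25 LD3_c27)) = (LP (LK LD1_c14 LD2_c2 LD3_c25)) :=
  Lre_a IH (LK LD1_c7 LD2_c25 LD3_c27) (LK LD1_c14 LD2_c2 LD3_c25) Lrfl Lrfl
theorem f462821 : Led Lsl_cf (LP (LK LD1_c13 LD2_c7 LD3_c42)) = (LP (LK LD1_c14 LD2_c2 LD3_c25)) :=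
  Lgr Lrot1 (Lpr_at (K33.f98779 IH) (Lpr_ct (f462816 IH) (Lpr_at (f462820 IH) (Lpn (LP (LK LD1_c14 LD2_c2 LD3_c25))))))
theorem f98751 : Led Lsl_bt (LP (LK LD1_c6 LD2_c57 LD3_c54)) = (LP (LK LD1_c3 LD2_c27 LD3_c50)) :=
  Lre_b IH (LK LD1_c6 LD2_c57 LD3_c54) (LK LD1_c3 LD2_c27 LD3_c50) Lrfl Lrfl
theorem f98752 : Led Lsl_ef (LP (LK LD1_c6 LD2_c57 LD3_c54)) = (LP (LK LD1_c6 LD2_c54 LD3_c32)) :=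
  Lgr Lrot29 (Lpr_bt (f98751 IH) (Lpr_et (K28.f98748 IH) (Lpr_bt (K28.f15718 IH) (Lpn (LP (LK LD1_c6 LD2_c54 LD3_c32))))))
theorem f98786 : Led Lsl_et (LP (LK LD1_c6 LD2_c57 LD3_c54)) = (LP (LK LD1_c6 LD2_c54 LD3_c32)) :=
  Lgr Lrot87 (Lpr_ef (f98752 IH) (Lpn (LP (LK LD1_c6 LD2_c54 LD3_c32))))
theorem f98791 : Led Lsl_at (LP (LK LD1_c13 LD2_c13 LD3_c27)) = (LP (LK LD1_c6 LD2_c57 LD3_c54)) :=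
  Lre_a IH (LK LD1_c13 LD2_c13 LD3_c27) (LK LD1_c6 LD2_c57 LD3_c54) Lrfl Lrfl
theorem f98793 : Led Lsl_ef (LP (LK LD1_c13 LD2_c13 LD3_c27)) = (LP (LK LD1_c13 LD2_c7 LD3_c42)) :=
  Lgr Lrot20 (Lpr_at (f98791 IH) (Lpr_et (f98786 IH) (Lpr_at (K33.f98792 IH) (Lpn (LP (LK LD1_c13 LD2_c7 LD3_c42))))))
theorem f98800 : Led Lsl_ct (LP (LK LD1_c13 LD2_c13 LD3_c27)) = (LP (LK LD1_c22 LD2_c27 LD3_c15)) :=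
  Lre_c IH (LK LD1_c13 LD2_c13 LD3_c27) (LK LD1_c22 LD2_c27 LD3_c15) Lrfl Lrfl
theorem f462824 : Led Lsl_et (LP (LK LD1_c22 LD2_c27 LD3_c15)) = (LP (LK LD1_c14 LD2_c2 LD3_c25)) :=
  Lgr Lrot158 (Lpe (f98800 IH) (Lpr_ef (f98793 IH) (Lpr_cf (f462821 IH) (Lpn (LP (LK LD1_c14 LD2_c2 LD3_c25))))))
theorem f492799 : Led Lsl_et (LP (LK LD1_c7 LD2_c25 LD3_c55)) = (LP (LK LD1_c14 LD2_c2 LD3_c59)) :=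
  Lre_e IH (LK LD1_c7 LD2_c25 LD3_c55) (LK LD1_c14 LD2_c2 LD3_c59) Lrfl Lrfl
theorem f492806 : Led Lsl_bt (LP (LK LD1_c14 LD2_c2 LD3_c25)) = (LP (LK LD1_c7 LD2_c25 LD3_c55)) :=
  Lgr Lrot119 (Lpe (f462824 IH) (Lpr_bf (f492802 IH) (Lpe (f492799 IH) (Lpn (LP (LK LD1_c7 LD2_c25 LD3_c55))))))
theorem f203944 : Led Lsl_bt (LP (LK LD1_c1 LD2_c48 LD3_c20)) = (LP (LK LD1_c3 LD2_c42 LD3_c39)) :=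
  Lre_b IH (LK LD1_c1 LD2_c48 LD3_c20) (LK LD1_c3 LD2_c42 LD3_c39) Lrfl Lrfl
theorem f203915 : Led Lsl_ct (LP (LK LD1_c3 LD2_c42 LD3_c45)) = (LP (LK LD1_c1 LD2_c48 LD3_c21)) :=
  Lre_c IH (LK LD1_c3 LD2_c42 LD3_c45) (LK LD1_c1 LD2_c48 LD3_c21) Lrfl Lrfl
theorem f492814 : Led Lsl_gt (LP (LK LD1_c13 LD2_c7 LD3_c42)) = (LP (LK LD1_c6 LD2_c57 LD3_c46)) :=
  Lgr Lrot65 (Lpr_cf (f462821 IH) (Lpr_bt (f492806 IH) (Lpe (f147960 IH) (Lpe (f203944 IH) (Lpr_ct (K28.f142382 IH) (Lpe (K29.f124278 IH) (Lpe (f203915 IH) (Lpe (K29.f470894 IH) (Lpe (K33.f95883 IH) (Lpr_ct (K28.f465472 IH) (Lpn (LP (LK LD1_c6 LD2_c57 LD3_c46)))))))))))))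
theorem f465490 : Led Lsl_at (LP (LK LD1_c13 LD2_c7 LD3_c41)) = (LP (LK LD1_c6 LD2_c57 LD3_c46)) :=
  Lgr Lrot100 (Lpr_af (K28.f465488 IH) (Lpn (LP (LK LD1_c6 LD2_c57 LD3_c46))))
theorem f492816 : Led Lsl_gf (LP (LK LD1_c13 LD2_c7 LD3_c42)) = (LP (LK LD1_c6 LD2_c55 LD3_c22)) :=
  Lgr Lrot47 (Lpr_gt (f492814 IH) (Lpe (f465490 IH) (Lpr_ff (K28.f465504 IH) (Lpn (LP (LK LD1_c6 LD2_c55 LD3_c22))))))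
theorem f98778 : Led Lsl_at (LP (LK LD1_c6 LD2_c57 LD3_c54)) = (LP (LK LD1_c13 LD2_c13 LD3_c27)) :=
  Lre_a IH (LK LD1_c6 LD2_c57 LD3_c54) (LK LD1_c13 LD2_c13 LD3_c27) Lrfl Lrfl
theorem f98780 : Led Lsl_et (LP (LK LD1_c13 LD2_c13 LD3_c27)) = (LP (LK LD1_c13 LD2_c7 LD3_c42)) :=
  Lgr Lrot123 (Lpe (f98778 IH) (Lpr_ef (f98752 IH) (Lpe (K33.f98779 IH) (Lpn (LP (LK LD1_c13 LD2_c7 LD3_c42))))))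
theorem f127912 : Led Lsl_dt (LP (LK LD1_c3 LD2_c26 LD3_c47)) = (LP (LK LD1_c6 LD2_c53 LD3_c61)) :=
  Lgr Lrot79 (Lpr_bf (K5.f127904 IH) (Lpe (K5.f93026 IH) (Lpr_bf (K5.f127686 IH) (Lpn (LP (LK LD1_c6 LD2_c53 LD3_c61))))))
theorem f103652 : Led Lsl_et (LP (LK LD1_c3 LD2_c45 LD3_c48)) = (LP (LK LD1_c1 LD2_c49 LD3_c60)) :=
  Lre_e IH (LK LD1_c3 LD2_c45 LD3_c48) (LK LD1_c1 LD2_c49 LD3_c60) Lrfl Lrfl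
theorem f103653 : Led Lsl_dt (LP (LK LD1_c3 LD2_c45 LD3_c48)) = (LP (LK LD1_c7 LD2_c32 LD3_c17)) :=
  Lre_d IH (LK LD1_c3 LD2_c45 LD3_c48) (LK LD1_c7 LD2_c32 LD3_c17) Lrfl Lrfl
theorem f103654 : Led Lsl_gt (LP (LK LD1_c14 LD2_c12 LD3_c61)) = (LP (LK LD1_c7 LD2_c32 LD3_c17)) :=
  Lre_g IH (LK LD1_c14 LD2_c12 LD3_c61) (LK LD1_c7 LD2_c32 LD3_c17) Lrfl Lrfl
theorem f492820 : Led Lsl_dt (LP (LK LD1_c13 LD2_c13 LD3_c27)) = (LP (LK LD1_c14 LD2_c12 LD3_c61)) :=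
  Lgr Lrot136 (Lpr_et (f98780 IH) (Lpr_gf (f492816 IH) (Lpe (K6.f127914 IH) (Lpr_dt (f127912 IH) (Lpe (K5.f94698 IH) (Lpe (K8.f95249 IH) (Lpr_gf (K4.f103620 IH) (Lpe (f103652 IH) (Lpr_dt (f103653 IH) (Lpe (f103654 IH) (Lpn (LP (LK LD1_c14 LD2_c12 LD3_c61)))))))))))))
theorem f492826 : Led Lsl_df (LP (LK LD1_c13 LD2_c13 LD3_c27)) = (LP (LK LD1_c14 LD2_c12 LD3_c61)) :=
  Lgr Lrot38 (Lpr_dt (f492820 IH) (Lpn (LP (LK LD1_c14 LD2_c12 LD3_c61))))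
theorem f98783 : Led Lsl_dt (LP (LK LD1_c6 LD2_c57 LD3_c54)) = (LP (LK LD1_c13 LD2_c13 LD3_c28)) :=
  Lre_d IH (LK LD1_c6 LD2_c57 LD3_c54) (LK LD1_c13 LD2_c13 LD3_c28) Lrfl Lrfl
theorem f492837 : Led Lsl_at (LP (LK LD1_c13 LD2_c13 LD3_c28)) = (LP (LK LD1_c14 LD2_c12 LD3_c61)) :=
  Lgr Lrot51 (Lpe (f98783 IH) (Lpe (f98791 IH) (Lpr_df (f492826 IH) (Lpn (LP (LK LD1_c14 LD2_c12 LD3_c61))))))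
theorem f103811 : Led Lsl_gt (LP (LK LD1_c23 LD2_c47 LD3_c61)) = (LP (LK LD1_c14 LD2_c12 LD3_c61)) :=
  Lre_g IH (LK LD1_c23 LD2_c47 LD3_c61) (LK LD1_c14 LD2_c12 LD3_c61) Lrfl Lrfl
theorem f103810 : Led Lsl_gt (LP (LK LD1_c14 LD2_c12 LD3_c60)) = (LP (LK LD1_c23 LD2_c47 LD3_c61)) :=
  Lre_g IH (LK LD1_c14 LD2_c12 LD3_c60) (LK LD1_c23 LD2_c47 LD3_c61) Lrfl Lrfl
theorem f492864 : Led Lsl_ff (LP (LK LD1_c13 LD2_c13 LD3_c28)) = (LP (LK LD1_c14 LD2_c12 LD3_c60)) :=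
  Lgr Lrot52 (Lpr_at (f492837 IH) (Lpe (f103811 IH) (Lpe (f103810 IH) (Lpn (LP (LK LD1_c14 LD2_c12 LD3_c60))))))
theorem f492874 : Led Lsl_ft (LP (LK LD1_c13 LD2_c13 LD3_c28)) = (LP (LK LD1_c14 LD2_c12 LD3_c60)) :=
  Lgr Lrot48 (Lpr_ff (f492864 IH) (Lpn (LP (LK LD1_c14 LD2_c12 LD3_c60))))
theorem f129535 : Led Lsl_et (LP (LK LD1_c3 LD2_c46 LD3_c59)) = (LP (LK LD1_c7 LD2_c34 LD3_c48)) :=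
  Lre_e IH (LK LD1_c3 LD2_c46 LD3_c59) (LK LD1_c7 LD2_c34 LD3_c48) Lrfl Lrfl
theorem f111408 : Led Lsl_dt (LP (LK LD1_c7 LD2_c32 LD3_c12)) = (LP (LK LD1_c14 LD2_c12 LD3_c48)) :=
  Lre_d IH (LK LD1_c7 LD2_c32 LD3_c12) (LK LD1_c14 LD2_c12 LD3_c48) Lrfl Lrfl
theorem f465418 : Led Lsl_gf (LP (LK LD1_c14 LD2_c12 LD3_c48)) = (LP (LK LD1_c13 LD2_c13 LD3_c28)) :=
  Lgr Lrot145 (Lpe (f111408 IH) (Lpr_et (K4.f103795 IH) (Lpr_gt (K7.f136750 IH) (Lpr_dt (K7.f102447 IH) (Lpe (K7.f130272 IH) (Lpr_df (K6.f129532 IH) (Lpr_et (f129535 IH) (Lpr_gt (K28.f465414 IH) (Lpe (f98786 IH) (Lpr_dt (f98783 IH) (Lpn (LP (LK LD1_c13 LD2_c13 LD3_c28)))))))))))))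
theorem f111400 : Led Lsl_gt (LP (LK LD1_c14 LD2_c12 LD3_c48)) = (LP (LK LD1_c23 LD2_c47 LD3_c59)) :=
  Lre_g IH (LK LD1_c14 LD2_c12 LD3_c48) (LK LD1_c23 LD2_c47 LD3_c59) Lrfl Lrfl
theorem f492883 : Led Lsl_af (LP (LK LD1_c23 LD2_c47 LD3_c59)) = (LP (LK LD1_c14 LD2_c12 LD3_c60)) :=
  Lgr Lrot31 (Lpe (f111400 IH) (Lpr_gf (f465418 IH) (Lpr_ft (f492874 IH) (Lpn (LP (LK LD1_c14 LD2_c12 LD3_c60))))))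
theorem f98797 : Led Lsl_dt (LP (LK LD1_c13 LD2_c13 LD3_c28)) = (LP (LK LD1_c6 LD2_c57 LD3_c54)) :=
  Lre_d IH (LK LD1_c13 LD2_c13 LD3_c28) (LK LD1_c6 LD2_c57 LD3_c54) Lrfl Lrfl
theorem f492822 : Led Lsl_af (LP (LK LD1_c13 LD2_c13 LD3_c28)) = (LP (LK LD1_c14 LD2_c12 LD3_c61)) :=
  Lgr Lrot117 (Lpr_dt (f98797 IH) (Lpr_at (f98778 IH) (Lpr_dt (f492820 IH) (Lpn (LP (LK LD1_c14 LD2_c12 LD3_c61))))))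
theorem f492892 : Led Lsl_ft (LP (LK LD1_c23 LD2_c47 LD3_c59)) = (LP (LK LD1_c14 LD2_c12 LD3_c61)) :=
  Lgr Lrot101 (Lpr_af (f492883 IH) (Lpe (f492874 IH) (Lpr_af (f492822 IH) (Lpn (LP (LK LD1_c14 LD2_c12 LD3_c61))))))
theorem f492479 : Led Lsl_ff (LP (LK LD1_c6 LD2_c57 LD3_c23)) = (LP (LK LD1_c7 LD2_c45 LD3_c61)) :=
  Lgr Lrot3 (Lpr_ft (K33.f492471 IH) (Lpn (LP (LK LD1_c7 LD2_c45 LD3_c61))))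
theorem f457909 : Led Lsl_bt (LP (LK LD1_c6 LD2_c57 LD3_c25)) = (LP (LK LD1_c3 LD2_c27 LD3_c38)) :=
  Lre_b IH (LK LD1_c6 LD2_c57 LD3_c25) (LK LD1_c3 LD2_c27 LD3_c38) Lrfl Lrfl
theorem f443455 : Led Lsl_bt (LP (LK LD1_c3 LD2_c47 LD3_c53)) = (LP (LK LD1_c7 LD2_c36 LD3_c49)) :=
  Lre_b IH (LK LD1_c3 LD2_c47 LD3_c53) (LK LD1_c7 LD2_c36 LD3_c49) Lrfl Lrfl
theorem f457910 : Led Lsl_cf (LP (LK LD1_c6 LD2_c57 LD3_c25)) = (LP (LK LD1_c7 LD2_c36 LD3_c49)) :=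
  Lgr Lrot97 (Lpr_bt (f457909 IH) (Lpr_ct (K28.f90872 IH) (Lpr_bt (K24.f91984 IH) (Lpr_ct (K29.f457906 IH) (Lpr_bt (f443455 IH) (Lpn (LP (LK LD1_c7 LD2_c36 LD3_c49))))))))
theorem f457918 : Led Lsl_et (LP (LK LD1_c6 LD2_c57 LD3_c25)) = (LP (LK LD1_c3 LD2_c27 LD3_c36)) :=
  Lre_e IH (LK LD1_c6 LD2_c57 LD3_c25) (LK LD1_c3 LD2_c27 LD3_c36) Lrfl Lrfl
theorem f443467 : Led Lsl_et (LP (LK LD1_c3 LD2_c47 LD3_c51)) = (LP (LK LD1_c7 LD2_c36 LD3_c49)) :=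
  Lre_e IH (LK LD1_c3 LD2_c47 LD3_c51) (LK LD1_c7 LD2_c36 LD3_c49) Lrfl Lrfl
theorem f457919 : Led Lsl_ct (LP (LK LD1_c3 LD2_c27 LD3_c36)) = (LP (LK LD1_c3 LD2_c47 LD3_c51)) :=
  Lgr Lrot15 (Lpe (f457918 IH) (Lpr_cf (f457910 IH) (Lpe (f443467 IH) (Lpn (LP (LK LD1_c3 LD2_c47 LD3_c51))))))
theorem f457928 : Led Lsl_at (LP (LK LD1_c3 LD2_c47 LD3_c51)) = (LP (LK LD1_c7 LD2_c36 LD3_c48)) :=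
  Lre_a IH (LK LD1_c3 LD2_c47 LD3_c51) (LK LD1_c7 LD2_c36 LD3_c48) Lrfl Lrfl
theorem f457929 : Led Lsl_cf (LP (LK LD1_c6 LD2_c57 LD3_c23)) = (LP (LK LD1_c7 LD2_c36 LD3_c48)) :=
  Lgr Lrot1 (Lpr_at (K33.f457927 IH) (Lpr_ct (f457919 IH) (Lpr_at (f457928 IH) (Lpn (LP (LK LD1_c7 LD2_c36 LD3_c48))))))
theorem f457940 : Led Lsl_ct (LP (LK LD1_c6 LD2_c57 LD3_c23)) = (LP (LK LD1_c7 LD2_c36 LD3_c48)) :=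
  Lgr Lrot59 (Lpr_cf (f457929 IH) (Lpn (LP (LK LD1_c7 LD2_c36 LD3_c48))))
theorem f492268 : Led Lsl_ct (LP (LK LD1_c3 LD2_c52 LD3_c5)) = (LP (LK LD1_c7 LD2_c45 LD3_c61)) :=
  Lre_c IH (LK LD1_c3 LD2_c52 LD3_c5) (LK LD1_c7 LD2_c45 LD3_c61) Lrfl Lrfl
theorem f492484 : Led Lsl_ft (LP (LK LD1_c7 LD2_c36 LD3_c48)) = (LP (LK LD1_c3 LD2_c52 LD3_c5)) :=
  Lgr Lrot4 (Lpe (f457940 IH) (Lpr_ff (f492479 IH) (Lpe (f492268 IH) (Lpn (LP (LK LD1_c3 LD2_c52 LD3_c5))))))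
theorem f443474 : Led Lsl_et (LP (LK LD1_c14 LD2_c21 LD3_c15)) = (LP (LK LD1_c7 LD2_c36 LD3_c48)) :=
  Lre_e IH (LK LD1_c14 LD2_c21 LD3_c15) (LK LD1_c7 LD2_c36 LD3_c48) Lrfl Lrfl
theorem f492262 : Led Lsl_et (LP (LK LD1_c3 LD2_c52 LD3_c5)) = (LP (LK LD1_c7 LD2_c46 LD3_c0)) :=
  Lre_e IH (LK LD1_c3 LD2_c52 LD3_c5) (LK LD1_c7 LD2_c46 LD3_c0) Lrfl Lrfl
theorem f492273 : Led Lsl_ft (LP (LK LD1_c7 LD2_c46 LD3_c0)) = (LP (LK LD1_c14 LD2_c38 LD3_c60)) :=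
  Lre_f IH (LK LD1_c7 LD2_c46 LD3_c0) (LK LD1_c14 LD2_c38 LD3_c60) Lrfl Lrfl
theorem f481955 : Led Lsl_bt (LP (LK LD1_c7 LD2_c46 LD3_c5)) = (LP (LK LD1_c3 LD2_c52 LD3_c10)) :=
  Lre_b IH (LK LD1_c7 LD2_c46 LD3_c5) (LK LD1_c3 LD2_c52 LD3_c10) Lrfl Lrfl
theorem f491653 : Led Lsl_bt (LP (LK LD1_c6 LD2_c57 LD3_c18)) = (LP (LK LD1_c3 LD2_c27 LD3_c41)) :=
  Lre_b IH (LK LD1_c6 LD2_c57 LD3_c18) (LK LD1_c3 LD2_c27 LD3_c41) Lrfl Lrfl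
theorem f491652 : Led Lsl_bt (LP (LK LD1_c6 LD2_c57 LD3_c36)) = (LP (LK LD1_c13 LD2_c12 LD3_c60)) :=
  Lre_b IH (LK LD1_c6 LD2_c57 LD3_c36) (LK LD1_c13 LD2_c12 LD3_c60) Lrfl Lrfl
theorem f491994 : Led Lsl_cf (LP (LK LD1_c7 LD2_c46 LD3_c5)) = (LP (LK LD1_c13 LD2_c12 LD3_c60)) :=
  Lgr Lrot97 (Lpr_bt (f481955 IH) (Lpr_ct (K33.f491990 IH) (Lpr_bt (f491653 IH) (Lpr_ct (K29.f468945 IH) (Lpr_bt (f491652 IH) (Lpn (LP (LK LD1_c13 LD2_c12 LD3_c60))))))))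
theorem f492281 : Led Lsl_et (LP (LK LD1_c6 LD2_c57 LD3_c34)) = (LP (LK LD1_c13 LD2_c12 LD3_c60)) :=
  Lre_e IH (LK LD1_c6 LD2_c57 LD3_c34) (LK LD1_c13 LD2_c12 LD3_c60) Lrfl Lrfl
theorem f463938 : Led Lsl_ct (LP (LK LD1_c13 LD2_c12 LD3_c25)) = (LP (LK LD1_c6 LD2_c57 LD3_c34)) :=
  Lre_c IH (LK LD1_c13 LD2_c12 LD3_c25) (LK LD1_c6 LD2_c57 LD3_c34) Lrfl Lrfl
theorem f492282 : Led Lsl_et (LP (LK LD1_c7 LD2_c46 LD3_c5)) = (LP (LK LD1_c13 LD2_c12 LD3_c25)) :=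
  Lgr Lrot158 (Lpr_cf (f491994 IH) (Lpe (f492281 IH) (Lpe (f463938 IH) (Lpn (LP (LK LD1_c13 LD2_c12 LD3_c25))))))
theorem f481956 : Led Lsl_at (LP (LK LD1_c14 LD2_c38 LD3_c60)) = (LP (LK LD1_c7 LD2_c46 LD3_c5)) :=
  Lre_a IH (LK LD1_c14 LD2_c38 LD3_c60) (LK LD1_c7 LD2_c46 LD3_c5) Lrfl Lrfl
theorem f463937 : Led Lsl_at (LP (LK LD1_c13 LD2_c12 LD3_c25)) = (LP (LK LD1_c22 LD2_c26 LD3_c9)) :=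
  Lre_a IH (LK LD1_c13 LD2_c12 LD3_c25) (LK LD1_c22 LD2_c26 LD3_c9) Lrfl Lrfl
theorem f492285 : Led Lsl_ef (LP (LK LD1_c14 LD2_c38 LD3_c60)) = (LP (LK LD1_c22 LD2_c26 LD3_c9)) :=
  Lgr Lrot20 (Lpr_at (f481956 IH) (Lpr_et (f492282 IH) (Lpr_at (f463937 IH) (Lpn (LP (LK LD1_c22 LD2_c26 LD3_c9))))))
theorem f492290 : Led Lsl_et (LP (LK LD1_c14 LD2_c38 LD3_c60)) = (LP (LK LD1_c22 LD2_c26 LD3_c9)) :=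
  Lgr Lrot87 (Lpr_ef (f492285 IH) (Lpn (LP (LK LD1_c22 LD2_c26 LD3_c9))))
theorem f492490 : Led Lsl_ff (LP (LK LD1_c14 LD2_c21 LD3_c15)) = (LP (LK LD1_c22 LD2_c26 LD3_c9)) :=
  Lgr Lrot72 (Lpr_et (f443474 IH) (Lpr_ft (f492484 IH) (Lpr_et (f492262 IH) (Lpr_ft (f492273 IH) (Lpr_et (f492290 IH) (Lpn (LP (LK LD1_c22 LD2_c26 LD3_c9))))))))
theorem f492502 : Led Lsl_ft (LP (LK LD1_c14 LD2_c21 LD3_c15)) = (LP (LK LD1_c22 LD2_c26 LD3_c9)) :=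
  Lgr Lrot48 (Lpr_ff (f492490 IH) (Lpn (LP (LK LD1_c22 LD2_c26 LD3_c9))))
theorem f457913 : Led Lsl_at (LP (LK LD1_c6 LD2_c57 LD3_c25)) = (LP (LK LD1_c13 LD2_c12 LD3_c35)) :=
  Lre_a IH (LK LD1_c6 LD2_c57 LD3_c25) (LK LD1_c13 LD2_c12 LD3_c35) Lrfl Lrfl
theorem f443463 : Led Lsl_at (LP (LK LD1_c14 LD2_c21 LD3_c15)) = (LP (LK LD1_c7 LD2_c36 LD3_c49)) :=
  Lre_a IH (LK LD1_c14 LD2_c21 LD3_c15) (LK LD1_c7 LD2_c36 LD3_c49) Lrfl Lrfl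
theorem f457914 : Led Lsl_ct (LP (LK LD1_c13 LD2_c12 LD3_c35)) = (LP (LK LD1_c14 LD2_c21 LD3_c15)) :=
  Lgr Lrot111 (Lpe (f457913 IH) (Lpr_cf (f457910 IH) (Lpe (f443463 IH) (Lpn (LP (LK LD1_c14 LD2_c21 LD3_c15))))))
theorem f463991 : Led Lsl_ct (LP (LK LD1_c22 LD2_c26 LD3_c9)) = (LP (LK LD1_c13 LD2_c12 LD3_c58)) :=
  Lre_c IH (LK LD1_c22 LD2_c26 LD3_c9) (LK LD1_c13 LD2_c12 LD3_c58) Lrfl Lrfl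
theorem f492506 : Led Lsl_ff (LP (LK LD1_c13 LD2_c12 LD3_c35)) = (LP (LK LD1_c13 LD2_c12 LD3_c58)) :=
  Lgr Lrot23 (Lpr_ct (f457914 IH) (Lpr_ft (f492502 IH) (Lpr_ct (f463991 IH) (Lpn (LP (LK LD1_c13 LD2_c12 LD3_c58))))))
theorem f457921 : Led Lsl_at (LP (LK LD1_c13 LD2_c12 LD3_c35)) = (LP (LK LD1_c6 LD2_c57 LD3_c25)) :=
  Lre_a IH (LK LD1_c13 LD2_c12 LD3_c35) (LK LD1_c6 LD2_c57 LD3_c25) Lrfl Lrfl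
theorem f492508 : Led Lsl_at (LP (LK LD1_c6 LD2_c57 LD3_c34)) = (LP (LK LD1_c13 LD2_c12 LD3_c58)) :=
  Lre_a IH (LK LD1_c6 LD2_c57 LD3_c34) (LK LD1_c13 LD2_c12 LD3_c58) Lrfl Lrfl
theorem f492509 : Led Lsl_ft (LP (LK LD1_c6 LD2_c57 LD3_c25)) = (LP (LK LD1_c6 LD2_c57 LD3_c34)) :=
  Lgr Lrot101 (Lpe (f457921 IH) (Lpr_ff (f492506 IH) (Lpe (f492508 IH) (Lpn (LP (LK LD1_c6 LD2_c57 LD3_c34))))))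
theorem f492515 : Led Lsl_ff (LP (LK LD1_c6 LD2_c57 LD3_c25)) = (LP (LK LD1_c6 LD2_c57 LD3_c34)) :=
  Lgr Lrot3 (Lpr_ft (f492509 IH) (Lpn (LP (LK LD1_c6 LD2_c57 LD3_c34))))
theorem f446574 : Led Lsl_bt (LP (LK LD1_c3 LD2_c27 LD3_c40)) = (LP (LK LD1_c6 LD2_c57 LD3_c34)) :=
  Lre_b IH (LK LD1_c3 LD2_c27 LD3_c40) (LK LD1_c6 LD2_c57 LD3_c34) Lrfl Lrfl
theorem f492519 : Led Lsl_ft (LP (LK LD1_c3 LD2_c27 LD3_c38)) = (LP (LK LD1_c3 LD2_c27 LD3_c40)) :=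
  Lgr Lrot75 (Lpe (f457909 IH) (Lpr_ff (f492515 IH) (Lpe (f446574 IH) (Lpn (LP (LK LD1_c3 LD2_c27 LD3_c40))))))
theorem f492544 : Led Lsl_af (LP (LK LD1_c6 LD2_c54 LD3_c34)) = (LP (LK LD1_c3 LD2_c27 LD3_c40)) :=
  Lgr Lrot45 (Lpe (K33.f492378 IH) (Lpr_at (K33.f492368 IH) (Lpr_ft (f492519 IH) (Lpn (LP (LK LD1_c3 LD2_c27 LD3_c40))))))
theorem f15895 : Led Lsl_bt (LP (LK LD1_c6 LD2_c54 LD3_c34)) = (LP (LK LD1_c13 LD2_c7 LD3_c47)) :=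
  Lre_b IH (LK LD1_c6 LD2_c54 LD3_c34) (LK LD1_c13 LD2_c7 LD3_c47) Lrfl Lrfl
theorem f462848 : Led Lsl_at (LP (LK LD1_c13 LD2_c7 LD3_c47)) = (LP (LK LD1_c22 LD2_c19 LD3_c48)) :=
  Lre_a IH (LK LD1_c13 LD2_c7 LD3_c47) (LK LD1_c22 LD2_c19 LD3_c48) Lrfl Lrfl
theorem f463945 : Led Lsl_bt (LP (LK LD1_c6 LD2_c57 LD3_c34)) = (LP (LK LD1_c3 LD2_c27 LD3_c40)) :=
  Lre_b IH (LK LD1_c6 LD2_c57 LD3_c34) (LK LD1_c3 LD2_c27 LD3_c40) Lrfl Lrfl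
theorem f463941 : Led Lsl_at (LP (LK LD1_c13 LD2_c12 LD3_c58)) = (LP (LK LD1_c6 LD2_c57 LD3_c34)) :=
  Lre_a IH (LK LD1_c13 LD2_c12 LD3_c58) (LK LD1_c6 LD2_c57 LD3_c34) Lrfl Lrfl
theorem f492546 : Led Lsl_bt (LP (LK LD1_c22 LD2_c19 LD3_c48)) = (LP (LK LD1_c13 LD2_c12 LD3_c58)) :=
  Lgr Lrot62 (Lpe (f462848 IH) (Lpe (f15895 IH) (Lpr_af (f492544 IH) (Lpe (f463945 IH) (Lpe (f463941 IH) (Lpn (LP (LK LD1_c13 LD2_c12 LD3_c58))))))))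
theorem f91993 : Led Lsl_bt (LP (LK LD1_c3 LD2_c27 LD3_c38)) = (LP (LK LD1_c6 LD2_c57 LD3_c25)) :=
  Lre_b IH (LK LD1_c3 LD2_c27 LD3_c38) (LK LD1_c6 LD2_c57 LD3_c25) Lrfl Lrfl
theorem f492372 : Led Lsl_bf (LP (LK LD1_c13 LD2_c13 LD3_c27)) = (LP (LK LD1_c13 LD2_c12 LD3_c35)) :=
  Lgr Lrot81 (Lpr_at (f98791 IH) (Lpr_bt (f98751 IH) (Lpr_at (K33.f492368 IH) (Lpr_bt (f91993 IH) (Lpr_at (f457913 IH) (Lpn (LP (LK LD1_c13 LD2_c12 LD3_c35))))))))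
theorem f492550 : Led Lsl_ff (LP (LK LD1_c22 LD2_c19 LD3_c48)) = (LP (LK LD1_c13 LD2_c13 LD3_c27)) :=
  Lgr Lrot25 (Lpr_bt (f492546 IH) (Lpe (f492506 IH) (Lpe (f492372 IH) (Lpn (LP (LK LD1_c13 LD2_c13 LD3_c27))))))
theorem f492894 : Led Lsl_df (LP (LK LD1_c23 LD2_c47 LD3_c59)) = (LP (LK LD1_c22 LD2_c19 LD3_c48)) :=
  Lgr Lrot78 (Lpr_ft (f492892 IH) (Lpe (f492826 IH) (Lpe (f492550 IH) (Lpn (LP (LK LD1_c22 LD2_c19 LD3_c48))))))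
theorem f16715 : Led Lsl_bt (LP (LK LD1_c3 LD2_c27 LD3_c50)) = (LP (LK LD1_c6 LD2_c57 LD3_c54)) :=
  Lre_b IH (LK LD1_c3 LD2_c27 LD3_c50) (LK LD1_c6 LD2_c57 LD3_c54) Lrfl Lrfl
theorem f462845 : Led Lsl_bt (LP (LK LD1_c13 LD2_c7 LD3_c47)) = (LP (LK LD1_c6 LD2_c54 LD3_c34)) :=
  Lre_b IH (LK LD1_c13 LD2_c7 LD3_c47) (LK LD1_c6 LD2_c54 LD3_c34) Lrfl Lrfl
theorem f492380 : Led Lsl_ft (LP (LK LD1_c6 LD2_c57 LD3_c54)) = (LP (LK LD1_c13 LD2_c7 LD3_c47)) :=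
  Lgr Lrot75 (Lpe (f16715 IH) (Lpr_ff (K33.f492378 IH) (Lpe (f462845 IH) (Lpn (LP (LK LD1_c13 LD2_c7 LD3_c47))))))
theorem f16716 : Led Lsl_gt (LP (LK LD1_c6 LD2_c57 LD3_c54)) = (LP (LK LD1_c13 LD2_c13 LD3_c25)) :=
  Lre_g IH (LK LD1_c6 LD2_c57 LD3_c54) (LK LD1_c13 LD2_c13 LD3_c25) Lrfl Lrfl
theorem f493169 : Led Lsl_gt (LP (LK LD1_c13 LD2_c13 LD3_c25)) = (LP (LK LD1_c22 LD2_c19 LD3_c48)) :=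
  Lgr Lrot46 (Lpe (f16716 IH) (Lpr_ft (f492380 IH) (Lpr_at (f462848 IH) (Lpn (LP (LK LD1_c22 LD2_c19 LD3_c48))))))
theorem f516117 : Led Lsl_et (LP (LK LD1_c7 LD2_c38 LD3_c46)) = (LP (LK LD1_c13 LD2_c13 LD3_c25)) :=
  Lgr Lrot121 (Lpr_dt (K33.f484896 IH) (Lpr_gf (f516115 IH) (Lpe (f466301 IH) (Lpr_et (f466300 IH) (Lpe (K28.f466294 IH) (Lpe (f460116 IH) (Lpr_dt (f123790 IH) (Lpe (f123800 IH) (Lpr_df (f492894 IH) (Lpe (f493169 IH) (Lpn (LP (LK LD1_c13 LD2_c13 LD3_c25)))))))))))))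
theorem f516126 : Led Lsl_ef (LP (LK LD1_c7 LD2_c38 LD3_c46)) = (LP (LK LD1_c13 LD2_c13 LD3_c25)) :=
  Lgr Lrot88 (Lpr_et (f516117 IH) (Lpn (LP (LK LD1_c13 LD2_c13 LD3_c25))))
theorem f123781 : Led Lsl_dt (LP (LK LD1_c7 LD2_c32 LD3_c15)) = (LP (LK LD1_c14 LD2_c12 LD3_c57)) :=
  Lre_d IH (LK LD1_c7 LD2_c32 LD3_c15) (LK LD1_c14 LD2_c12 LD3_c57) Lrfl Lrfl
theorem f16717 : Led Lsl_dt (LP (LK LD1_c13 LD2_c13 LD3_c25)) = (LP (LK LD1_c22 LD2_c27 LD3_c49)) :=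
  Lre_d IH (LK LD1_c13 LD2_c13 LD3_c25) (LK LD1_c22 LD2_c27 LD3_c49) Lrfl Lrfl
theorem f516135 : Led Lsl_gt (LP (LK LD1_c14 LD2_c12 LD3_c57)) = (LP (LK LD1_c22 LD2_c27 LD3_c49)) :=
  Lgr Lrot139 (Lpe (f123781 IH) (Lpe (K28.f123821 IH) (Lpe (K24.f103824 IH) (Lpr_dt (K5.f103646 IH) (Lpr_gf (f427200 IH) (Lpe (f427206 IH) (Lpr_et (K8.f114456 IH) (Lpe (f515569 IH) (Lpr_ef (f516126 IH) (Lpr_dt (f16717 IH) (Lpn (LP (LK LD1_c22 LD2_c27 LD3_c49)))))))))))))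
theorem f91998 : Led Lsl_dt (LP (LK LD1_c13 LD2_c2 LD3_c59)) = (LP (LK LD1_c6 LD2_c51 LD3_c38)) :=
  Lre_d IH (LK LD1_c13 LD2_c2 LD3_c59) (LK LD1_c6 LD2_c51 LD3_c38) Lrfl Lrfl
theorem f460848 : Led Lsl_bt (LP (LK LD1_c14 LD2_c12 LD3_c57)) = (LP (LK LD1_c13 LD2_c2 LD3_c59)) :=
  Lgr Lrot95 (Lpe (f123781 IH) (Lpr_bf (K28.f460719 IH) (Lpe (f91998 IH) (Lpn (LP (LK LD1_c13 LD2_c2 LD3_c59))))))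
theorem f460870 : Led Lsl_bf (LP (LK LD1_c14 LD2_c12 LD3_c57)) = (LP (LK LD1_c13 LD2_c2 LD3_c59)) :=
  Lgr Lrot24 (Lpr_bt (f460848 IH) (Lpn (LP (LK LD1_c13 LD2_c2 LD3_c59))))
theorem f479454 : Led Lsl_bt (LP (LK LD1_c22 LD2_c12 LD3_c38)) = (LP (LK LD1_c13 LD2_c2 LD3_c55)) :=
  Lre_b IH (LK LD1_c22 LD2_c12 LD3_c38) (LK LD1_c13 LD2_c2 LD3_c55) Lrfl Lrfl
theorem f476578 : Led Lsl_ct (LP (LK LD1_c22 LD2_c12 LD3_c38)) = (LP (LK LD1_c30 LD2_c20 LD3_c53)) :=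
  Lre_c IH (LK LD1_c22 LD2_c12 LD3_c38) (LK LD1_c30 LD2_c20 LD3_c53) Lrfl Lrfl
theorem f479456 : Led Lsl_gt (LP (LK LD1_c32 LD2_c51 LD3_c34)) = (LP (LK LD1_c30 LD2_c20 LD3_c53)) :=
  Lre_g IH (LK LD1_c32 LD2_c51 LD3_c34) (LK LD1_c30 LD2_c20 LD3_c53) Lrfl Lrfl
theorem f516143 : Led Lsl_bt (LP (LK LD1_c30 LD2_c31 LD3_c29)) = (LP (LK LD1_c22 LD2_c27 LD3_c49)) :=
  Lre_b IH (LK LD1_c30 LD2_c31 LD3_c29) (LK LD1_c22 LD2_c27 LD3_c49) Lrfl Lrfl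
theorem f516144 : Led Lsl_cf (LP (LK LD1_c32 LD2_c51 LD3_c34)) = (LP (LK LD1_c30 LD2_c31 LD3_c29)) :=
  Lgr Lrot160 (Lpr_gt (f479456 IH) (Lpe (f476578 IH) (Lpr_bt (f479454 IH) (Lpr_gt (K29.f479443 IH) (Lpr_ct (K29.f472831 IH) (Lpe (K29.f479452 IH) (Lpe (K29.f460874 IH) (Lpe (f460870 IH) (Lpr_gt (f516135 IH) (Lpe (f516143 IH) (Lpn (LP (LK LD1_c30 LD2_c31 LD3_c29)))))))))))))
theorem f479455 : Led Lsl_ct (LP (LK LD1_c30 LD2_c20 LD3_c53)) = (LP (LK LD1_c22 LD2_c12 LD3_c38)) :=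
  Lre_c IH (LK LD1_c30 LD2_c20 LD3_c53) (LK LD1_c22 LD2_c12 LD3_c38) Lrfl Lrfl
theorem f512691 : Led Lsl_dt (LP (LK LD1_c22 LD2_c12 LD3_c38)) = (LP (LK LD1_c13 LD2_c2 LD3_c54)) :=
  Lre_d IH (LK LD1_c22 LD2_c12 LD3_c38) (LK LD1_c13 LD2_c2 LD3_c54) Lrfl Lrfl
theorem f476543 : Led Lsl_dt (LP (LK LD1_c13 LD2_c23 LD3_c39)) = (LP (LK LD1_c22 LD2_c41 LD3_c23)) :=
  Lre_d IH (LK LD1_c13 LD2_c23 LD3_c39) (LK LD1_c22 LD2_c41 LD3_c23) Lrfl Lrfl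
theorem f473451 : Led Lsl_ct (LP (LK LD1_c6 LD2_c51 LD3_c35)) = (LP (LK LD1_c6 LD2_c58 LD3_c54)) :=
  Lgr Lrot59 (Lpr_cf (K29.f473446 IH) (Lpn (LP (LK LD1_c6 LD2_c58 LD3_c54))))
theorem f18550 : Led Lsl_ct (LP (LK LD1_c3 LD2_c30 LD3_c31)) = (LP (LK LD1_c1 LD2_c42 LD3_c1)) :=
  Lre_c IH (LK LD1_c3 LD2_c30 LD3_c31) (LK LD1_c1 LD2_c42 LD3_c1) Lrfl Lrfl
theorem f18555 : Led Lsl_bt (LP (LK LD1_c6 LD2_c58 LD3_c48)) = (LP (LK LD1_c13 LD2_c15 LD3_c0)) :=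
  Lre_b IH (LK LD1_c6 LD2_c58 LD3_c48) (LK LD1_c13 LD2_c15 LD3_c0) Lrfl Lrfl
theorem f476498 : Led Lsl_gf (LP (LK LD1_c13 LD2_c15 LD3_c0)) = (LP (LK LD1_c7 LD2_c0 LD3_c51)) :=
  Lgr Lrot124 (Lpe (f18555 IH) (Lpr_ct (K24.f18554 IH) (Lpr_gt (K1.f18553 IH) (Lpe (f18550 IH) (Lpr_bt (K2.f18389 IH) (Lpr_gt (K29.f16709 IH) (Lpr_ct (f473451 IH) (Lpr_gt (K29.f17684 IH) (Lpr_cf (K3.f91228 IH) (Lpe (K28.f97510 IH) (Lpn (LP (LK LD1_c7 LD2_c0 LD3_c51)))))))))))))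
theorem f63069 : Led Lsl_df (LP (LK LD1_c22 LD2_c30 LD3_c0)) = (LP (LK LD1_c13 LD2_c23 LD3_c41)) :=
  Lgr Lrot38 (Lpr_dt (K33.f63063 IH) (Lpn (LP (LK LD1_c13 LD2_c23 LD3_c41))))
theorem f63075 : Led Lsl_bt (LP (LK LD1_c22 LD2_c30 LD3_c0)) = (LP (LK LD1_c30 LD2_c32 LD3_c29)) :=
  Lre_b IH (LK LD1_c22 LD2_c30 LD3_c0) (LK LD1_c30 LD2_c32 LD3_c29) Lrfl Lrfl
theorem f63076 : Led Lsl_bt (LP (LK LD1_c22 LD2_c41 LD3_c25)) = (LP (LK LD1_c13 LD2_c23 LD3_c41)) :=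
  Lre_b IH (LK LD1_c22 LD2_c41 LD3_c25) (LK LD1_c13 LD2_c23 LD3_c41) Lrfl Lrfl
theorem f63077 : Led Lsl_dt (LP (LK LD1_c30 LD2_c32 LD3_c29)) = (LP (LK LD1_c22 LD2_c41 LD3_c25)) :=
  Lgr Lrot79 (Lpe (f63075 IH) (Lpr_df (f63069 IH) (Lpe (f63076 IH) (Lpn (LP (LK LD1_c22 LD2_c41 LD3_c25))))))
theorem f63086 : Led Lsl_et (LP (LK LD1_c22 LD2_c29 LD3_c60)) = (LP (LK LD1_c30 LD2_c32 LD3_c29)) :=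
  Lre_e IH (LK LD1_c22 LD2_c29 LD3_c60) (LK LD1_c30 LD2_c32 LD3_c29) Lrfl Lrfl
theorem f63087 : Led Lsl_dt (LP (LK LD1_c13 LD2_c15 LD3_c0)) = (LP (LK LD1_c22 LD2_c29 LD3_c60)) :=
  Lre_d IH (LK LD1_c13 LD2_c15 LD3_c0) (LK LD1_c22 LD2_c29 LD3_c60) Lrfl Lrfl
theorem f63088 : Led Lsl_et (LP (LK LD1_c22 LD2_c41 LD3_c25)) = (LP (LK LD1_c13 LD2_c23 LD3_c40)) :=
  Lre_e IH (LK LD1_c22 LD2_c41 LD3_c25) (LK LD1_c13 LD2_c23 LD3_c40) Lrfl Lrfl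
theorem f63089 : Led Lsl_dt (LP (LK LD1_c13 LD2_c23 LD3_c40)) = (LP (LK LD1_c7 LD2_c3 LD3_c55)) :=
  Lre_d IH (LK LD1_c13 LD2_c23 LD3_c40) (LK LD1_c7 LD2_c3 LD3_c55) Lrfl Lrfl
theorem f63090 : Led Lsl_ef (LP (LK LD1_c13 LD2_c15 LD3_c0)) = (LP (LK LD1_c7 LD2_c3 LD3_c55)) :=
  Lgr Lrot73 (Lpr_dt (f63087 IH) (Lpr_et (f63086 IH) (Lpr_dt (f63077 IH) (Lpr_et (f63088 IH) (Lpr_dt (f63089 IH) (Lpn (LP (LK LD1_c7 LD2_c3 LD3_c55))))))))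
theorem f63099 : Led Lsl_dt (LP (LK LD1_c7 LD2_c3 LD3_c55)) = (LP (LK LD1_c13 LD2_c23 LD3_c40)) :=
  Lre_d IH (LK LD1_c7 LD2_c3 LD3_c55) (LK LD1_c13 LD2_c23 LD3_c40) Lrfl Lrfl
theorem f87189 : Led Lsl_gt (LP (LK LD1_c3 LD2_c49 LD3_c23)) = (LP (LK LD1_c1 LD2_c51 LD3_c44)) :=
  Lre_g IH (LK LD1_c3 LD2_c49 LD3_c23) (LK LD1_c1 LD2_c51 LD3_c44) Lrfl Lrfl
theorem f157525 : Led Lsl_ft (LP (LK LD1_c3 LD2_c49 LD3_c23)) = (LP (LK LD1_c3 LD2_c46 LD3_c35)) :=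
  Lgr Lrot2 (Lpr_gt (f87189 IH) (Lpr_gt (K8.f87190 IH) (Lpr_af (K28.f157519 IH) (Lpn (LP (LK LD1_c3 LD2_c46 LD3_c35))))))
theorem f94530 : Led Lsl_dt (LP (LK LD1_c3 LD2_c46 LD3_c35)) = (LP (LK LD1_c1 LD2_c50 LD3_c25)) :=
  Lre_d IH (LK LD1_c3 LD2_c46 LD3_c35) (LK LD1_c1 LD2_c50 LD3_c25) Lrfl Lrfl
theorem f121846 : Led Lsl_ft (LP (LK LD1_c1 LD2_c50 LD3_c25)) = (LP (LK LD1_c3 LD2_c29 LD3_c38)) :=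
  Lgr Lrot4 (Lpe (K2.f94485 IH) (Lpr_ff (K4.f121843 IH) (Lpe (K6.f97502 IH) (Lpn (LP (LK LD1_c3 LD2_c29 LD3_c38))))))
theorem f157527 : Led Lsl_df (LP (LK LD1_c3 LD2_c49 LD3_c23)) = (LP (LK LD1_c3 LD2_c29 LD3_c38)) :=
  Lgr Lrot78 (Lpr_ft (f157525 IH) (Lpr_dt (f94530 IH) (Lpr_ft (f121846 IH) (Lpn (LP (LK LD1_c3 LD2_c29 LD3_c38))))))
theorem f111961 : Led Lsl_gt (LP (LK LD1_c3 LD2_c15 LD3_c0)) = (LP (LK LD1_c3 LD2_c49 LD3_c23)) :=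
  Lgr Lrot5 (Lpr_ft (K5.f111953 IH) (Lpr_at (K8.f89674 IH) (Lpe (f87189 IH) (Lpn (LP (LK LD1_c3 LD2_c49 LD3_c23))))))
theorem f111957 : Led Lsl_df (LP (LK LD1_c3 LD2_c15 LD3_c0)) = (LP (LK LD1_c3 LD2_c47 LD3_c0)) :=
  Lgr Lrot78 (Lpr_ft (K5.f111953 IH) (Lpr_dt (K28.f88576 IH) (Lpe (K3.f88573 IH) (Lpn (LP (LK LD1_c3 LD2_c47 LD3_c0))))))
theorem f88605 : Led Lsl_et (LP (LK LD1_c3 LD2_c49 LD3_c18)) = (LP (LK LD1_c1 LD2_c51 LD3_c41)) :=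
  Lre_e IH (LK LD1_c3 LD2_c49 LD3_c18) (LK LD1_c1 LD2_c51 LD3_c41) Lrfl Lrfl
theorem f476508 : Led Lsl_gt (LP (LK LD1_c13 LD2_c23 LD3_c40)) = (LP (LK LD1_c7 LD2_c39 LD3_c25)) :=
  Lgr Lrot112 (Lpe (f63099 IH) (Lpe (f63090 IH) (Lpr_gf (f476498 IH) (Lpe (K3.f97504 IH) (Lpe (f157527 IH) (Lpe (f111961 IH) (Lpr_df (f111957 IH) (Lpr_gf (K3.f88602 IH) (Lpe (f88605 IH) (Lpr_dt (K28.f88606 IH) (Lpn (LP (LK LD1_c7 LD2_c39 LD3_c25)))))))))))))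
theorem f471385 : Led Lsl_gt (LP (LK LD1_c1 LD2_c54 LD3_c44)) = (LP (LK LD1_c3 LD2_c33 LD3_c34)) :=
  Lgr Lrot46 (Lpr_gf (K30.f471380 IH) (Lpr_ft (K28.f128281 IH) (Lpr_at (K28.f425300 IH) (Lpn (LP (LK LD1_c3 LD2_c33 LD3_c34))))))
theorem f88009 : Led Lsl_ct (LP (LK LD1_c3 LD2_c53 LD3_c4)) = (LP (LK LD1_c1 LD2_c53 LD3_c11)) :=
  Lre_c IH (LK LD1_c3 LD2_c53 LD3_c4) (LK LD1_c1 LD2_c53 LD3_c11) Lrfl Lrfl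
theorem f464870 : Led Lsl_gt (LP (LK LD1_c3 LD2_c53 LD3_c13)) = (LP (LK LD1_c1 LD2_c53 LD3_c11)) :=
  Lre_g IH (LK LD1_c3 LD2_c53 LD3_c13) (LK LD1_c1 LD2_c53 LD3_c11) Lrfl Lrfl
theorem f471454 : Led Lsl_cf (LP (LK LD1_c3 LD2_c53 LD3_c13)) = (LP (LK LD1_c7 LD2_c7 LD3_c56)) :=
  Lgr Lrot160 (Lpr_gt (f464870 IH) (Lpe (f88009 IH) (Lpr_bt (K29.f458605 IH) (Lpe (K28.f464841 IH) (Lpr_ct (K28.f128101 IH) (Lpq (K28.f461943 IH) (Lpe (K28.f455145 IH) (Lpe (K24.f15754 IH) (Lpe (K28.f457397 IH) (Lpr_gt (f471385 IH) (Lpe (K28.f97341 IH) (Lpn (LP (LK LD1_c7 LD2_c7 LD3_c56))))))))))))))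
theorem f425555 : Led Lsl_ft (LP (LK LD1_c3 LD2_c33 LD3_c31)) = (LP (LK LD1_c7 LD2_c7 LD3_c56)) :=
  Lre_f IH (LK LD1_c3 LD2_c33 LD3_c31) (LK LD1_c7 LD2_c7 LD3_c56) Lrfl Lrfl
theorem f471466 : Led Lsl_ft (LP (LK LD1_c3 LD2_c53 LD3_c13)) = (LP (LK LD1_c7 LD2_c7 LD3_c52)) :=
  Lgr Lrot4 (Lpr_cf (f471454 IH) (Lpe (f425555 IH) (Lpe (K3.f96834 IH) (Lpn (LP (LK LD1_c7 LD2_c7 LD3_c52))))))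
theorem f471480 : Led Lsl_ff (LP (LK LD1_c3 LD2_c53 LD3_c13)) = (LP (LK LD1_c7 LD2_c7 LD3_c52)) :=
  Lgr Lrot3 (Lpr_ft (f471466 IH) (Lpn (LP (LK LD1_c7 LD2_c7 LD3_c52))))
theorem f471462 : Led Lsl_dt (LP (LK LD1_c3 LD2_c53 LD3_c13)) = (LP (LK LD1_c7 LD2_c48 LD3_c5)) :=
  Lre_d IH (LK LD1_c3 LD2_c53 LD3_c13) (LK LD1_c7 LD2_c48 LD3_c5) Lrfl Lrfl
theorem f96849 : Led Lsl_dt (LP (LK LD1_c13 LD2_c30 LD3_c26)) = (LP (LK LD1_c7 LD2_c7 LD3_c52)) :=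
  Lre_d IH (LK LD1_c13 LD2_c30 LD3_c26) (LK LD1_c7 LD2_c7 LD3_c52) Lrfl Lrfl
theorem f471525 : Led Lsl_ft (LP (LK LD1_c7 LD2_c48 LD3_c5)) = (LP (LK LD1_c13 LD2_c30 LD3_c26)) :=
  Lgr Lrot54 (Lpe (f471462 IH) (Lpr_ff (f471480 IH) (Lpe (f96849 IH) (Lpn (LP (LK LD1_c13 LD2_c30 LD3_c26))))))
theorem f476510 : Led Lsl_gf (LP (LK LD1_c13 LD2_c23 LD3_c40)) = (LP (LK LD1_c7 LD2_c48 LD3_c5)) :=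
  Lgr Lrot47 (Lpr_gt (f476508 IH) (Lpe (K28.f425117 IH) (Lpe (f471525 IH) (Lpn (LP (LK LD1_c7 LD2_c48 LD3_c5))))))
theorem f476522 : Led Lsl_at (LP (LK LD1_c22 LD2_c41 LD3_c23)) = (LP (LK LD1_c13 LD2_c23 LD3_c40)) :=
  Lre_a IH (LK LD1_c22 LD2_c41 LD3_c23) (LK LD1_c13 LD2_c23 LD3_c40) Lrfl Lrfl
theorem f470953 : Led Lsl_dt (LP (LK LD1_c14 LD2_c21 LD3_c52)) = (LP (LK LD1_c7 LD2_c37 LD3_c9)) :=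
  Lre_d IH (LK LD1_c14 LD2_c21 LD3_c52) (LK LD1_c7 LD2_c37 LD3_c9) Lrfl Lrfl
theorem f470967 : Led Lsl_ff (LP (LK LD1_c14 LD2_c21 LD3_c52)) = (LP (LK LD1_c7 LD2_c39 LD3_c25)) :=
  Lgr Lrot19 (Lpr_dt (f470953 IH) (Lpr_ft (K29.f470963 IH) (Lpr_dt (K28.f88606 IH) (Lpn (LP (LK LD1_c7 LD2_c39 LD3_c25))))))
theorem f471527 : Led Lsl_af (LP (LK LD1_c7 LD2_c48 LD3_c5)) = (LP (LK LD1_c14 LD2_c21 LD3_c52)) :=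
  Lgr Lrot45 (Lpr_ft (f471525 IH) (Lpr_at (K28.f425117 IH) (Lpe (f470967 IH) (Lpn (LP (LK LD1_c14 LD2_c21 LD3_c52))))))
theorem f110274 : Led Lsl_gt (LP (LK LD1_c7 LD2_c39 LD3_c25)) = (LP (LK LD1_c14 LD2_c25 LD3_c52)) :=
  Lre_g IH (LK LD1_c7 LD2_c39 LD3_c25) (LK LD1_c14 LD2_c25 LD3_c52) Lrfl Lrfl
theorem f471541 : Led Lsl_gf (LP (LK LD1_c7 LD2_c48 LD3_c5)) = (LP (LK LD1_c14 LD2_c25 LD3_c52)) :=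
  Lgr Lrot76 (Lpr_af (f471527 IH) (Lpr_ff (f470967 IH) (Lpr_gt (f110274 IH) (Lpn (LP (LK LD1_c14 LD2_c25 LD3_c52))))))
theorem f476523 : Led Lsl_ff (LP (LK LD1_c22 LD2_c41 LD3_c23)) = (LP (LK LD1_c14 LD2_c25 LD3_c52)) :=
  Lgr Lrot52 (Lpr_at (f476522 IH) (Lpr_gf (f476510 IH) (Lpr_gf (f471541 IH) (Lpn (LP (LK LD1_c14 LD2_c25 LD3_c52))))))
theorem f476537 : Led Lsl_ft (LP (LK LD1_c22 LD2_c41 LD3_c23)) = (LP (LK LD1_c14 LD2_c25 LD3_c52)) :=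
  Lgr Lrot48 (Lpr_ff (f476523 IH) (Lpn (LP (LK LD1_c14 LD2_c25 LD3_c52))))
theorem f513286 : Led Lsl_df (LP (LK LD1_c22 LD2_c32 LD3_c60)) = (LP (LK LD1_c14 LD2_c25 LD3_c52)) :=
  Lgr Lrot78 (Lpr_ft (K33.f513280 IH) (Lpr_dt (f476543 IH) (Lpr_ft (f476537 IH) (Lpn (LP (LK LD1_c14 LD2_c25 LD3_c52))))))
theorem f475175 : Led Lsl_at (LP (LK LD1_c22 LD2_c32 LD3_c60)) = (LP (LK LD1_c13 LD2_c17 LD3_c15)) :=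
  Lre_a IH (LK LD1_c22 LD2_c32 LD3_c60) (LK LD1_c13 LD2_c17 LD3_c15) Lrfl Lrfl
theorem f475174 : Led Lsl_dt (LP (LK LD1_c13 LD2_c17 LD3_c15)) = (LP (LK LD1_c22 LD2_c32 LD3_c61)) :=
  Lre_d IH (LK LD1_c13 LD2_c17 LD3_c15) (LK LD1_c22 LD2_c32 LD3_c61) Lrfl Lrfl
theorem f513292 : Led Lsl_at (LP (LK LD1_c22 LD2_c32 LD3_c61)) = (LP (LK LD1_c14 LD2_c25 LD3_c52)) :=
  Lgr Lrot51 (Lpe (f475174 IH) (Lpe (f475175 IH) (Lpr_df (f513286 IH) (Lpn (LP (LK LD1_c14 LD2_c25 LD3_c52))))))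
theorem f513296 : Led Lsl_ff (LP (LK LD1_c22 LD2_c32 LD3_c61)) = (LP (LK LD1_c13 LD2_c23 LD3_c40)) :=
  Lgr Lrot30 (Lpr_at (f513292 IH) (Lpe (f476523 IH) (Lpr_at (f476522 IH) (Lpn (LP (LK LD1_c13 LD2_c23 LD3_c40))))))
theorem f513298 : Led Lsl_ft (LP (LK LD1_c22 LD2_c32 LD3_c61)) = (LP (LK LD1_c13 LD2_c23 LD3_c40)) :=
  Lgr Lrot48 (Lpr_ff (f513296 IH) (Lpn (LP (LK LD1_c13 LD2_c23 LD3_c40))))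
theorem f468347 : Led Lsl_et (LP (LK LD1_c7 LD2_c3 LD3_c10)) = (LP (LK LD1_c3 LD2_c30 LD3_c36)) :=
  Lre_e IH (LK LD1_c7 LD2_c3 LD3_c10) (LK LD1_c3 LD2_c30 LD3_c36) Lrfl Lrfl
theorem f488240 : Led Lsl_et (LP (LK LD1_c3 LD2_c35 LD3_c37)) = (LP (LK LD1_c7 LD2_c11 LD3_c59)) :=
  Lre_e IH (LK LD1_c3 LD2_c35 LD3_c37) (LK LD1_c7 LD2_c11 LD3_c59) Lrfl Lrfl
theorem f512629 : Led Lsl_bf (LP (LK LD1_c7 LD2_c3 LD3_c10)) = (LP (LK LD1_c7 LD2_c11 LD3_c59)) :=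
  Lgr Lrot96 (Lpr_et (f468347 IH) (Lpr_bt (K33.f512623 IH) (Lpr_et (f488240 IH) (Lpn (LP (LK LD1_c7 LD2_c11 LD3_c59))))))
theorem f19360 : Led Lsl_et (LP (LK LD1_c7 LD2_c11 LD3_c59)) = (LP (LK LD1_c3 LD2_c35 LD3_c37)) :=
  Lre_e IH (LK LD1_c7 LD2_c11 LD3_c59) (LK LD1_c3 LD2_c35 LD3_c37) Lrfl Lrfl
theorem f11573 : Led Lsl_et (LP (LK LD1_c3 LD2_c32 LD3_c40)) = (LP (LK LD1_c7 LD2_c6 LD3_c12)) :=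
  Lre_e IH (LK LD1_c3 LD2_c32 LD3_c40) (LK LD1_c7 LD2_c6 LD3_c12) Lrfl Lrfl
theorem f488187 : Led Lsl_cf (LP (LK LD1_c7 LD2_c11 LD3_c59)) = (LP (LK LD1_c7 LD2_c6 LD3_c12)) :=
  Lgr Lrot39 (Lpr_et (f19360 IH) (Lpr_ct (K33.f468871 IH) (Lpr_et (f11573 IH) (Lpn (LP (LK LD1_c7 LD2_c6 LD3_c12))))))
theorem f11566 : Led Lsl_bt (LP (LK LD1_c13 LD2_c27 LD3_c40)) = (LP (LK LD1_c7 LD2_c6 LD3_c12)) :=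
  Lre_b IH (LK LD1_c13 LD2_c27 LD3_c40) (LK LD1_c7 LD2_c6 LD3_c12) Lrfl Lrfl
theorem f97398 : Led Lsl_dt (LP (LK LD1_c3 LD2_c32 LD3_c21)) = (LP (LK LD1_c7 LD2_c5 LD3_c44)) :=
  Lre_d IH (LK LD1_c3 LD2_c32 LD3_c21) (LK LD1_c7 LD2_c5 LD3_c44) Lrfl Lrfl
theorem f466652 : Led Lsl_et (LP (LK LD1_c3 LD2_c34 LD3_c15)) = (LP (LK LD1_c1 LD2_c43 LD3_c47)) :=
  Lre_e IH (LK LD1_c3 LD2_c34 LD3_c15) (LK LD1_c1 LD2_c43 LD3_c47) Lrfl Lrfl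
theorem f466653 : Led Lsl_dt (LP (LK LD1_c3 LD2_c34 LD3_c15)) = (LP (LK LD1_c7 LD2_c9 LD3_c42)) :=
  Lre_d IH (LK LD1_c3 LD2_c34 LD3_c15) (LK LD1_c7 LD2_c9 LD3_c42) Lrfl Lrfl
theorem f466654 : Led Lsl_gt (LP (LK LD1_c7 LD2_c5 LD3_c44)) = (LP (LK LD1_c7 LD2_c9 LD3_c42)) :=
  Lgr Lrot112 (Lpe (f97398 IH) (Lpe (K28.f466579 IH) (Lpr_gf (K28.f466474 IH) (Lpr_ef (K28.f466628 IH) (Lpe (K28.f466633 IH) (Lpe (K28.f96953 IH) (Lpe (K28.f96956 IH) (Lpr_gf (K28.f466641 IH) (Lpe (f466652 IH) (Lpr_dt (f466653 IH) (Lpn (LP (LK LD1_c7 LD2_c9 LD3_c42)))))))))))))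
theorem f98582 : Led Lsl_dt (LP (LK LD1_c7 LD2_c5 LD3_c44)) = (LP (LK LD1_c3 LD2_c32 LD3_c21)) :=
  Lre_d IH (LK LD1_c7 LD2_c5 LD3_c44) (LK LD1_c3 LD2_c32 LD3_c21) Lrfl Lrfl
def v656 : LQ := Led Lsl_gf (LP (LK LD1_c0 LD2_c48 LD3_c2))
theorem f455811 : Led Lsl_gf (LP (LK LD1_c0 LD2_c48 LD3_c2)) = v656 :=
  Lrfl
theorem f455812 : Led Lsl_gt (LP (LK LD1_c1 LD2_c44 LD3_c59)) = v656 :=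
  Lgr Lrot5 (Lpr_ft (K28.f108424 IH) (Lpr_at (K28.f108425 IH) (Lpr_gf (f455811 IH) (Lpn v656))))
theorem f455596 : Led Lsl_bt (LP (LK LD1_c0 LD2_c47 LD3_c37)) = (LP (LK LD1_c1 LD2_c42 LD3_c14)) :=
  Lre_b IH (LK LD1_c0 LD2_c47 LD3_c37) (LK LD1_c1 LD2_c42 LD3_c14) Lrfl Lrfl
theorem f460763 : v656 = (LP (LK LD1_c1 LD2_c42 LD3_c14)) :=
  (Llr Lrot124 (Lpe (f455811 IH) (Lpe (K28.f108475 IH) (Lpe (K28.f146926 IH) (Lpr_gt (K24.f460754 IH) (Lpe (K24.f455650 IH) (Lpr_bt (K24.f455645 IH) (Lpr_gt (K24.f455644 IH) (Lpqs (K24.f457657 IH) (Lpr_ct (K2.f18556 IH) (Lpe (K24.f15783 IH) (Lpr_cf (K24.f454967 IH) (Lpqs (K24.f457414 IH) (Lpr_bt (f455596 IH) (Lpn (LP (LK LD1_c1 LD2_c42 LD3_c14))))))))))))))))).symm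
theorem f466662 : Led Lsl_ct (LP (LK LD1_c7 LD2_c9 LD3_c42)) = (LP (LK LD1_c13 LD2_c33 LD3_c56)) :=
  Lre_c IH (LK LD1_c7 LD2_c9 LD3_c42) (LK LD1_c13 LD2_c33 LD3_c56) Lrfl Lrfl
theorem f466663 : Led Lsl_gf (LP (LK LD1_c13 LD2_c24 LD3_c34)) = (LP (LK LD1_c13 LD2_c33 LD3_c56)) :=
  Lgr Lrot104 (Lpr_ct (K33.f457462 IH) (Lpe (K33.f457457 IH) (Lpe (K28.f446511 IH) (Lpq (f460763 IH) (Lpe (f455812 IH) (Lpe (K3.f17843 IH) (Lpr_gf (K28.f108462 IH) (Lpe (f98582 IH) (Lpr_gt (f466654 IH) (Lpr_ct (f466662 IH) (Lpn (LP (LK LD1_c13 LD2_c33 LD3_c56)))))))))))))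
theorem f466677 : Led Lsl_bt (LP (LK LD1_c7 LD2_c9 LD3_c42)) = (LP (LK LD1_c13 LD2_c33 LD3_c48)) :=
  Lre_b IH (LK LD1_c7 LD2_c9 LD3_c42) (LK LD1_c13 LD2_c33 LD3_c48) Lrfl Lrfl
theorem f488195 : Led Lsl_bt (LP (LK LD1_c7 LD2_c6 LD3_c11)) = (LP (LK LD1_c13 LD2_c27 LD3_c39)) :=
  Lre_b IH (LK LD1_c7 LD2_c6 LD3_c11) (LK LD1_c13 LD2_c27 LD3_c39) Lrfl Lrfl
theorem f488196 : Led Lsl_gf (LP (LK LD1_c13 LD2_c33 LD3_c48)) = (LP (LK LD1_c13 LD2_c27 LD3_c39)) :=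
  Lgr Lrot124 (Lpe (f466677 IH) (Lpr_ct (f466662 IH) (Lpe (f466663 IH) (Lpe (K33.f457468 IH) (Lpr_bt (K33.f457458 IH) (Lpr_gt (K33.f457467 IH) (Lpr_ct (K33.f457469 IH) (Lpr_gt (K33.f488191 IH) (Lpe (K33.f92440 IH) (Lpr_bt (f488195 IH) (Lpn (LP (LK LD1_c13 LD2_c27 LD3_c39)))))))))))))
theorem f467201 : Led Lsl_dt (LP (LK LD1_c13 LD2_c33 LD3_c48)) = (LP (LK LD1_c7 LD2_c9 LD3_c39)) :=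
  Lre_d IH (LK LD1_c13 LD2_c33 LD3_c48) (LK LD1_c7 LD2_c9 LD3_c39) Lrfl Lrfl
theorem f467200 : Led Lsl_ct (LP (LK LD1_c7 LD2_c9 LD3_c39)) = (LP (LK LD1_c13 LD2_c33 LD3_c35)) :=
  Lre_c IH (LK LD1_c7 LD2_c9 LD3_c39) (LK LD1_c13 LD2_c33 LD3_c35) Lrfl Lrfl
theorem f460868 : Led Lsl_bt (LP (LK LD1_c13 LD2_c23 LD3_c45)) = (LP (LK LD1_c22 LD2_c41 LD3_c35)) :=
  Lre_b IH (LK LD1_c13 LD2_c23 LD3_c45) (LK LD1_c22 LD2_c41 LD3_c35) Lrfl Lrfl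
theorem f467136 : Led Lsl_bt (LP (LK LD1_c13 LD2_c33 LD3_c35)) = (LP (LK LD1_c7 LD2_c9 LD3_c32)) :=
  Lre_b IH (LK LD1_c13 LD2_c33 LD3_c35) (LK LD1_c7 LD2_c9 LD3_c32) Lrfl Lrfl
theorem f467137 : Led Lsl_dt (LP (LK LD1_c22 LD2_c41 LD3_c35)) = (LP (LK LD1_c13 LD2_c33 LD3_c35)) :=
  Lgr Lrot79 (Lpe (f460868 IH) (Lpr_df (K33.f467134 IH) (Lpe (f467136 IH) (Lpn (LP (LK LD1_c13 LD2_c33 LD3_c35))))))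
theorem f467204 : Led Lsl_et (LP (LK LD1_c13 LD2_c33 LD3_c35)) = (LP (LK LD1_c7 LD2_c9 LD3_c30)) :=
  Lre_e IH (LK LD1_c13 LD2_c33 LD3_c35) (LK LD1_c7 LD2_c9 LD3_c30) Lrfl Lrfl
theorem f467142 : Led Lsl_et (LP (LK LD1_c13 LD2_c23 LD3_c45)) = (LP (LK LD1_c22 LD2_c41 LD3_c37)) :=
  Lre_e IH (LK LD1_c13 LD2_c23 LD3_c45) (LK LD1_c22 LD2_c41 LD3_c37) Lrfl Lrfl
theorem f467143 : Led Lsl_et (LP (LK LD1_c3 LD2_c34 LD3_c10)) = (LP (LK LD1_c7 LD2_c9 LD3_c32)) :=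
  Lre_e IH (LK LD1_c3 LD2_c34 LD3_c10) (LK LD1_c7 LD2_c9 LD3_c32) Lrfl Lrfl
theorem f467144 : Led Lsl_et (LP (LK LD1_c13 LD2_c33 LD3_c37)) = (LP (LK LD1_c7 LD2_c9 LD3_c31)) :=
  Lre_e IH (LK LD1_c13 LD2_c33 LD3_c37) (LK LD1_c7 LD2_c9 LD3_c31) Lrfl Lrfl
theorem f467145 : Led Lsl_dt (LP (LK LD1_c22 LD2_c41 LD3_c37)) = (LP (LK LD1_c13 LD2_c33 LD3_c37)) :=
  Lgr Lrot77 (Lpe (f467142 IH) (Lpr_df (K33.f467134 IH) (Lpe (f467143 IH) (Lpe (f466704 IH) (Lpe (f467144 IH) (Lpn (LP (LK LD1_c13 LD2_c33 LD3_c37))))))))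
theorem f467155 : Led Lsl_ft (LP (LK LD1_c30 LD2_c39 LD3_c29)) = (LP (LK LD1_c22 LD2_c41 LD3_c37)) :=
  Lre_f IH (LK LD1_c30 LD2_c39 LD3_c29) (LK LD1_c22 LD2_c41 LD3_c37) Lrfl Lrfl
theorem f467157 : Led Lsl_df (LP (LK LD1_c30 LD2_c39 LD3_c29)) = (LP (LK LD1_c22 LD2_c56 LD3_c31)) :=
  Lgr Lrot78 (Lpr_ft (f467155 IH) (Lpr_dt (f467145 IH) (Lpr_ft (f467156 IH) (Lpn (LP (LK LD1_c22 LD2_c56 LD3_c31))))))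
theorem f467167 : Led Lsl_dt (LP (LK LD1_c30 LD2_c39 LD3_c29)) = (LP (LK LD1_c22 LD2_c56 LD3_c31)) :=
  Lgr Lrot42 (Lpr_df (f467157 IH) (Lpn (LP (LK LD1_c22 LD2_c56 LD3_c31))))
theorem f467170 : Led Lsl_bt (LP (LK LD1_c32 LD2_c53 LD3_c54)) = (LP (LK LD1_c30 LD2_c39 LD3_c29)) :=
  Lre_b IH (LK LD1_c32 LD2_c53 LD3_c54) (LK LD1_c30 LD2_c39 LD3_c29) Lrfl Lrfl
theorem f467172 : Led Lsl_df (LP (LK LD1_c32 LD2_c53 LD3_c54)) = (LP (LK LD1_c30 LD2_c48 LD3_c44)) :=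
  Lgr Lrot12 (Lpr_bt (f467170 IH) (Lpr_dt (f467167 IH) (Lpr_bt (f467171 IH) (Lpn (LP (LK LD1_c30 LD2_c48 LD3_c44))))))
theorem f467175 : Led Lsl_ft (LP (LK LD1_c32 LD2_c53 LD3_c54)) = (LP (LK LD1_c30 LD2_c39 LD3_c26)) :=
  Lre_f IH (LK LD1_c32 LD2_c53 LD3_c54) (LK LD1_c30 LD2_c39 LD3_c26) Lrfl Lrfl
theorem f467177 : Led Lsl_dt (LP (LK LD1_c30 LD2_c39 LD3_c26)) = (LP (LK LD1_c22 LD2_c56 LD3_c26)) :=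
  Lgr Lrot60 (Lpe (f467175 IH) (Lpr_df (f467172 IH) (Lpe (f467176 IH) (Lpn (LP (LK LD1_c22 LD2_c56 LD3_c26))))))
theorem f467185 : Led Lsl_et (LP (LK LD1_c22 LD2_c41 LD3_c35)) = (LP (LK LD1_c30 LD2_c39 LD3_c26)) :=
  Lre_e IH (LK LD1_c22 LD2_c41 LD3_c35) (LK LD1_c30 LD2_c39 LD3_c26) Lrfl Lrfl
theorem f467186 : Led Lsl_et (LP (LK LD1_c22 LD2_c56 LD3_c26)) = (LP (LK LD1_c13 LD2_c33 LD3_c34)) :=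
  Lre_e IH (LK LD1_c22 LD2_c56 LD3_c26) (LK LD1_c13 LD2_c33 LD3_c34) Lrfl Lrfl
theorem f467187 : Led Lsl_et (LP (LK LD1_c7 LD2_c9 LD3_c30)) = (LP (LK LD1_c13 LD2_c33 LD3_c35)) :=
  Lre_e IH (LK LD1_c7 LD2_c9 LD3_c30) (LK LD1_c13 LD2_c33 LD3_c35) Lrfl Lrfl
theorem f467188 : Led Lsl_df (LP (LK LD1_c22 LD2_c41 LD3_c35)) = (LP (LK LD1_c13 LD2_c33 LD3_c35)) :=
  Lgr Lrot70 (Lpr_et (f467185 IH) (Lpr_dt (f467177 IH) (Lpr_et (f467186 IH) (Lpr_dt (f466646 IH) (Lpr_et (f467187 IH) (Lpn (LP (LK LD1_c13 LD2_c33 LD3_c35))))))))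
theorem f17915 : Led Lsl_et (LP (LK LD1_c7 LD2_c0 LD3_c18)) = (LP (LK LD1_c13 LD2_c17 LD3_c23)) :=
  Lre_e IH (LK LD1_c7 LD2_c0 LD3_c18) (LK LD1_c13 LD2_c17 LD3_c23) Lrfl Lrfl
theorem f17926 : Led Lsl_gt (LP (LK LD1_c13 LD2_c17 LD3_c23)) = (LP (LK LD1_c22 LD2_c33 LD3_c8)) :=
  Lre_g IH (LK LD1_c13 LD2_c17 LD3_c23) (LK LD1_c22 LD2_c33 LD3_c8) Lrfl Lrfl
theorem f17867 : Led Lsl_dt (LP (LK LD1_c22 LD2_c33 LD3_c8)) = (LP (LK LD1_c30 LD2_c34 LD3_c17)) :=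
  Lre_d IH (LK LD1_c22 LD2_c33 LD3_c8) (LK LD1_c30 LD2_c34 LD3_c17) Lrfl Lrfl
theorem f485064 : Led Lsl_gf (LP (LK LD1_c22 LD2_c41 LD3_c35)) = (LP (LK LD1_c30 LD2_c34 LD3_c17)) :=
  Lgr Lrot134 (Lpr_df (f467188 IH) (Lpr_et (f467204 IH) (Lpr_gt (K33.f485056 IH) (Lpe (K8.f89734 IH) (Lpr_dt (K8.f162652 IH) (Lpe (K8.f162648 IH) (Lpe (K4.f89567 IH) (Lpr_et (f17915 IH) (Lpr_gt (f17926 IH) (Lpr_dt (f17867 IH) (Lpn (LP (LK LD1_c30 LD2_c34 LD3_c17)))))))))))))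
theorem f17868 : Led Lsl_at (LP (LK LD1_c7 LD2_c12 LD3_c31)) = (LP (LK LD1_c3 LD2_c36 LD3_c6)) :=
  Lre_a IH (LK LD1_c7 LD2_c12 LD3_c31) (LK LD1_c3 LD2_c36 LD3_c6) Lrfl Lrfl
theorem f17869 : Led Lsl_at (LP (LK LD1_c7 LD2_c0 LD3_c19)) = (LP (LK LD1_c13 LD2_c17 LD3_c23)) :=
  Lre_a IH (LK LD1_c7 LD2_c0 LD3_c19) (LK LD1_c13 LD2_c17 LD3_c23) Lrfl Lrfl
theorem f17870 : Led Lsl_cf (LP (LK LD1_c7 LD2_c12 LD3_c31)) = (LP (LK LD1_c13 LD2_c17 LD3_c23)) :=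
  Lgr Lrot1 (Lpr_at (f17868 IH) (Lpr_ct (K4.f17859 IH) (Lpr_at (f17869 IH) (Lpn (LP (LK LD1_c13 LD2_c17 LD3_c23))))))
theorem f11635 : Led Lsl_dt (LP (LK LD1_c7 LD2_c6 LD3_c10)) = (LP (LK LD1_c13 LD2_c27 LD3_c39)) :=
  Lre_d IH (LK LD1_c7 LD2_c6 LD3_c10) (LK LD1_c13 LD2_c27 LD3_c39) Lrfl Lrfl
theorem f488200 : Led Lsl_gt (LP (LK LD1_c7 LD2_c12 LD3_c31)) = (LP (LK LD1_c7 LD2_c6 LD3_c10)) :=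
  Lgr Lrot94 (Lpr_cf (f17870 IH) (Lpr_gt (f17926 IH) (Lpr_dt (f17867 IH) (Lpe (f485064 IH) (Lpr_dt (f467137 IH) (Lpe (f467200 IH) (Lpe (f467201 IH) (Lpr_gf (f488196 IH) (Lpe (f11635 IH) (Lpn (LP (LK LD1_c7 LD2_c6 LD3_c10))))))))))))
theorem f15833 : Led Lsl_gt (LP (LK LD1_c3 LD2_c24 LD3_c45)) = (LP (LK LD1_c6 LD2_c51 LD3_c37)) :=
  Lre_g IH (LK LD1_c3 LD2_c24 LD3_c45) (LK LD1_c6 LD2_c51 LD3_c37) Lrfl Lrfl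
theorem f15848 : Led Lsl_bt (LP (LK LD1_c6 LD2_c51 LD3_c58)) = (LP (LK LD1_c3 LD2_c24 LD3_c45)) :=
  Lre_b IH (LK LD1_c6 LD2_c51 LD3_c58) (LK LD1_c3 LD2_c24 LD3_c45) Lrfl Lrfl
theorem f488204 : Led Lsl_ct (LP (LK LD1_c6 LD2_c51 LD3_c58)) = (LP (LK LD1_c7 LD2_c6 LD3_c10)) :=
  Lgr Lrot10 (Lpr_bt (f15848 IH) (Lpr_gt (f15833 IH) (Lpr_ct (K2.f15818 IH) (Lpr_gt (K2.f15824 IH) (Lpe (K28.f18999 IH) (Lpr_bt (K28.f19000 IH) (Lpe (K28.f463453 IH) (Lpr_bf (K4.f111808 IH) (Lpe (f17870 IH) (Lpr_gt (f488200 IH) (Lpn (LP (LK LD1_c7 LD2_c6 LD3_c10)))))))))))))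
theorem f91084 : Led Lsl_et (LP (LK LD1_c13 LD2_c3 LD3_c28)) = (LP (LK LD1_c6 LD2_c51 LD3_c58)) :=
  Lre_e IH (LK LD1_c13 LD2_c3 LD3_c28) (LK LD1_c6 LD2_c51 LD3_c58) Lrfl Lrfl
theorem f11619 : Led Lsl_et (LP (LK LD1_c7 LD2_c6 LD3_c10)) = (LP (LK LD1_c13 LD2_c27 LD3_c40)) :=
  Lre_e IH (LK LD1_c7 LD2_c6 LD3_c10) (LK LD1_c13 LD2_c27 LD3_c40) Lrfl Lrfl
theorem f488210 : Led Lsl_cf (LP (LK LD1_c13 LD2_c3 LD3_c28)) = (LP (LK LD1_c13 LD2_c27 LD3_c40)) :=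
  Lgr Lrot39 (Lpr_et (f91084 IH) (Lpr_ct (f488204 IH) (Lpr_et (f11619 IH) (Lpn (LP (LK LD1_c13 LD2_c27 LD3_c40))))))
theorem f488215 : Led Lsl_ct (LP (LK LD1_c13 LD2_c3 LD3_c28)) = (LP (LK LD1_c13 LD2_c27 LD3_c40)) :=
  Lgr Lrot59 (Lpr_cf (f488210 IH) (Lpn (LP (LK LD1_c13 LD2_c27 LD3_c40))))
theorem f91077 : Led Lsl_bt (LP (LK LD1_c6 LD2_c51 LD3_c60)) = (LP (LK LD1_c13 LD2_c3 LD3_c28)) :=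
  Lre_b IH (LK LD1_c6 LD2_c51 LD3_c60) (LK LD1_c13 LD2_c3 LD3_c28) Lrfl Lrfl
theorem f512633 : Led Lsl_ct (LP (LK LD1_c7 LD2_c3 LD3_c10)) = (LP (LK LD1_c6 LD2_c51 LD3_c60)) :=
  Lgr Lrot83 (Lpr_bf (f512629 IH) (Lpr_cf (f488187 IH) (Lpe (f11566 IH) (Lpe (f488215 IH) (Lpe (f91077 IH) (Lpn (LP (LK LD1_c6 LD2_c51 LD3_c60))))))))
theorem f512635 : Led Lsl_at (LP (LK LD1_c3 LD2_c30 LD3_c39)) = (LP (LK LD1_c7 LD2_c3 LD3_c10)) :=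
  Lre_a IH (LK LD1_c3 LD2_c30 LD3_c39) (LK LD1_c7 LD2_c3 LD3_c10) Lrfl Lrfl
theorem f457621 : Led Lsl_ct (LP (LK LD1_c7 LD2_c3 LD3_c13)) = (LP (LK LD1_c3 LD2_c30 LD3_c39)) :=
  Lre_c IH (LK LD1_c7 LD2_c3 LD3_c13) (LK LD1_c3 LD2_c30 LD3_c39) Lrfl Lrfl
theorem f512636 : Led Lsl_af (LP (LK LD1_c7 LD2_c3 LD3_c13)) = (LP (LK LD1_c6 LD2_c51 LD3_c60)) :=
  Lgr Lrot68 (Lpr_ct (f457621 IH) (Lpr_at (f512635 IH) (Lpr_ct (f512633 IH) (Lpn (LP (LK LD1_c6 LD2_c51 LD3_c60))))))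
theorem f457489 : Led Lsl_et (LP (LK LD1_c7 LD2_c3 LD3_c13)) = (LP (LK LD1_c3 LD2_c30 LD3_c37)) :=
  Lre_e IH (LK LD1_c7 LD2_c3 LD3_c13) (LK LD1_c3 LD2_c30 LD3_c37) Lrfl Lrfl
theorem f90999 : Led Lsl_et (LP (LK LD1_c3 LD2_c24 LD3_c45)) = (LP (LK LD1_c6 LD2_c51 LD3_c60)) :=
  Lre_e IH (LK LD1_c3 LD2_c24 LD3_c45) (LK LD1_c6 LD2_c51 LD3_c60) Lrfl Lrfl
theorem f512642 : Led Lsl_at (LP (LK LD1_c3 LD2_c30 LD3_c37)) = (LP (LK LD1_c3 LD2_c24 LD3_c45)) :=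
  Lgr Lrot80 (Lpe (f457489 IH) (Lpr_af (f512636 IH) (Lpe (f90999 IH) (Lpn (LP (LK LD1_c3 LD2_c24 LD3_c45))))))
theorem f512646 : Led Lsl_ff (LP (LK LD1_c3 LD2_c30 LD3_c37)) = (LP (LK LD1_c3 LD2_c24 LD3_c46)) :=
  Lgr Lrot52 (Lpr_at (f512642 IH) (Lpe (K28.f18599 IH) (Lpe (K28.f18607 IH) (Lpn (LP (LK LD1_c3 LD2_c24 LD3_c46))))))
theorem f512654 : Led Lsl_ft (LP (LK LD1_c3 LD2_c30 LD3_c37)) = (LP (LK LD1_c3 LD2_c24 LD3_c46)) :=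
  Lgr Lrot48 (Lpr_ff (f512646 IH) (Lpn (LP (LK LD1_c3 LD2_c24 LD3_c46))))
theorem f512660 : Led Lsl_af (LP (LK LD1_c6 LD2_c51 LD3_c35)) = (LP (LK LD1_c3 LD2_c24 LD3_c46)) :=
  Lgr Lrot31 (Lpe (K29.f16709 IH) (Lpe (K24.f457475 IH) (Lpr_ft (f512654 IH) (Lpn (LP (LK LD1_c3 LD2_c24 LD3_c46))))))
theorem f512614 : Led Lsl_af (LP (LK LD1_c3 LD2_c30 LD3_c37)) = (LP (LK LD1_c3 LD2_c24 LD3_c45)) :=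
  Lgr Lrot68 (Lpr_ct (K28.f457479 IH) (Lpr_at (K33.f455541 IH) (Lpr_ct (K33.f512612 IH) (Lpn (LP (LK LD1_c3 LD2_c24 LD3_c45))))))
theorem f512668 : Led Lsl_ft (LP (LK LD1_c6 LD2_c51 LD3_c35)) = (LP (LK LD1_c3 LD2_c24 LD3_c45)) :=
  Lgr Lrot101 (Lpr_af (f512660 IH) (Lpe (f512654 IH) (Lpr_af (f512614 IH) (Lpn (LP (LK LD1_c3 LD2_c24 LD3_c45))))))
theorem f512672 : Led Lsl_ff (LP (LK LD1_c13 LD2_c2 LD3_c55)) = (LP (LK LD1_c6 LD2_c51 LD3_c59)) :=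
  Lgr Lrot19 (Lpr_dt (K29.f473455 IH) (Lpr_ft (f512668 IH) (Lpr_dt (K28.f18600 IH) (Lpn (LP (LK LD1_c6 LD2_c51 LD3_c59))))))
theorem f512666 : Led Lsl_at (LP (LK LD1_c13 LD2_c2 LD3_c55)) = (LP (LK LD1_c6 LD2_c52 LD3_c0)) :=
  Lgr Lrot51 (Lpe (K29.f18221 IH) (Lpr_af (f512660 IH) (Lpe (K28.f458369 IH) (Lpn (LP (LK LD1_c6 LD2_c52 LD3_c0))))))
theorem f512658 : Led Lsl_ff (LP (LK LD1_c7 LD2_c3 LD3_c12)) = (LP (LK LD1_c6 LD2_c52 LD3_c0)) :=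
  Lgr Lrot19 (Lpr_dt (K29.f457481 IH) (Lpr_ft (f512654 IH) (Lpr_dt (K28.f15845 IH) (Lpn (LP (LK LD1_c6 LD2_c52 LD3_c0))))))
theorem f512674 : Led Lsl_at (LP (LK LD1_c7 LD2_c3 LD3_c12)) = (LP (LK LD1_c6 LD2_c51 LD3_c59)) :=
  Lgr Lrot66 (Lpr_ff (f512658 IH) (Lpe (f512666 IH) (Lpr_ff (f512672 IH) (Lpn (LP (LK LD1_c6 LD2_c51 LD3_c59))))))
theorem f457505 : Led Lsl_et (LP (LK LD1_c13 LD2_c22 LD3_c40)) = (LP (LK LD1_c7 LD2_c3 LD3_c12)) :=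
  Lre_e IH (LK LD1_c13 LD2_c22 LD3_c40) (LK LD1_c7 LD2_c3 LD3_c12) Lrfl Lrfl
theorem f91087 : Led Lsl_et (LP (LK LD1_c6 LD2_c51 LD3_c59)) = (LP (LK LD1_c13 LD2_c3 LD3_c31)) :=
  Lre_e IH (LK LD1_c6 LD2_c51 LD3_c59) (LK LD1_c13 LD2_c3 LD3_c31) Lrfl Lrfl
theorem f512749 : Led Lsl_af (LP (LK LD1_c13 LD2_c22 LD3_c40)) = (LP (LK LD1_c13 LD2_c3 LD3_c31)) :=
  Lgr Lrot50 (Lpr_et (f457505 IH) (Lpr_at (f512674 IH) (Lpr_et (f91087 IH) (Lpn (LP (LK LD1_c13 LD2_c3 LD3_c31))))))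
theorem f457525 : Led Lsl_ft (LP (LK LD1_c13 LD2_c22 LD3_c40)) = (LP (LK LD1_c22 LD2_c40 LD3_c15)) :=
  Lre_f IH (LK LD1_c13 LD2_c22 LD3_c40) (LK LD1_c22 LD2_c40 LD3_c15) Lrfl Lrfl
theorem f91045 : Led Lsl_ft (LP (LK LD1_c22 LD2_c13 LD3_c31)) = (LP (LK LD1_c13 LD2_c3 LD3_c31)) :=
  Lre_f IH (LK LD1_c22 LD2_c13 LD3_c31) (LK LD1_c13 LD2_c3 LD3_c31) Lrfl Lrfl
theorem f512757 : Led Lsl_at (LP (LK LD1_c22 LD2_c40 LD3_c15)) = (LP (LK LD1_c22 LD2_c13 LD3_c31)) :=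
  Lgr Lrot66 (Lpe (f457525 IH) (Lpr_af (f512749 IH) (Lpe (f91045 IH) (Lpn (LP (LK LD1_c22 LD2_c13 LD3_c31))))))
theorem f15287 : Led Lsl_dt (LP (LK LD1_c3 LD2_c50 LD3_c57)) = (LP (LK LD1_c7 LD2_c43 LD3_c2)) :=
  Lre_d IH (LK LD1_c3 LD2_c50 LD3_c57) (LK LD1_c7 LD2_c43 LD3_c2) Lrfl Lrfl
theorem f15319 : Led Lsl_gt (LP (LK LD1_c7 LD2_c43 LD3_c2)) = (LP (LK LD1_c3 LD2_c51 LD3_c11)) :=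
  Lre_g IH (LK LD1_c7 LD2_c43 LD3_c2) (LK LD1_c3 LD2_c51 LD3_c11) Lrfl Lrfl
theorem f457490 : Led Lsl_dt (LP (LK LD1_c7 LD2_c3 LD3_c13)) = (LP (LK LD1_c3 LD2_c51 LD3_c11)) :=
  Lgr Lrot37 (Lpr_et (f457489 IH) (Lpr_gt (K24.f457475 IH) (Lpr_dt (K2.f18210 IH) (Lpr_gt (K2.f90900 IH) (Lpe (K2.f15322 IH) (Lpr_et (K2.f15321 IH) (Lpr_gt (K2.f15320 IH) (Lpe (K0.f15293 IH) (Lpr_dt (f15287 IH) (Lpr_gt (f15319 IH) (Lpn (LP (LK LD1_c3 LD2_c51 LD3_c11)))))))))))))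
theorem f457504 : Led Lsl_et (LP (LK LD1_c3 LD2_c30 LD3_c37)) = (LP (LK LD1_c7 LD2_c3 LD3_c13)) :=
  Lre_e IH (LK LD1_c3 LD2_c30 LD3_c37) (LK LD1_c7 LD2_c3 LD3_c13) Lrfl Lrfl
theorem f457506 : Led Lsl_et (LP (LK LD1_c3 LD2_c51 LD3_c11)) = (LP (LK LD1_c7 LD2_c43 LD3_c47)) :=
  Lre_e IH (LK LD1_c3 LD2_c51 LD3_c11) (LK LD1_c7 LD2_c43 LD3_c47) Lrfl Lrfl
theorem f457507 : Led Lsl_df (LP (LK LD1_c13 LD2_c22 LD3_c40)) = (LP (LK LD1_c7 LD2_c43 LD3_c47)) :=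
  Lgr Lrot70 (Lpr_et (f457505 IH) (Lpr_dt (K29.f457481 IH) (Lpr_et (f457504 IH) (Lpr_dt (f457490 IH) (Lpr_et (f457506 IH) (Lpn (LP (LK LD1_c7 LD2_c43 LD3_c47))))))))
theorem f457526 : Led Lsl_ft (LP (LK LD1_c14 LD2_c34 LD3_c31)) = (LP (LK LD1_c7 LD2_c43 LD3_c47)) :=
  Lre_f IH (LK LD1_c14 LD2_c34 LD3_c31) (LK LD1_c7 LD2_c43 LD3_c47) Lrfl Lrfl
theorem f457527 : Led Lsl_dt (LP (LK LD1_c22 LD2_c40 LD3_c15)) = (LP (LK LD1_c14 LD2_c34 LD3_c31)) :=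
  Lgr Lrot60 (Lpe (f457525 IH) (Lpr_df (f457507 IH) (Lpe (f457526 IH) (Lpn (LP (LK LD1_c14 LD2_c34 LD3_c31))))))
theorem f457563 : Led Lsl_df (LP (LK LD1_c22 LD2_c40 LD3_c15)) = (LP (LK LD1_c14 LD2_c34 LD3_c31)) :=
  Lgr Lrot38 (Lpr_dt (f457527 IH) (Lpn (LP (LK LD1_c14 LD2_c34 LD3_c31))))
theorem f15070 : Led Lsl_dt (LP (LK LD1_c1 LD2_c52 LD3_c20)) = (LP (LK LD1_c3 LD2_c50 LD3_c56)) :=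
  Lre_d IH (LK LD1_c1 LD2_c52 LD3_c20) (LK LD1_c3 LD2_c50 LD3_c56) Lrfl Lrfl
theorem f18989 : Led Lsl_et (LP (LK LD1_c6 LD2_c51 LD3_c60)) = (LP (LK LD1_c3 LD2_c24 LD3_c45)) :=
  Lre_e IH (LK LD1_c6 LD2_c51 LD3_c60) (LK LD1_c3 LD2_c24 LD3_c45) Lrfl Lrfl
theorem f90988 : Led Lsl_df (LP (LK LD1_c7 LD2_c43 LD3_c0)) = (LP (LK LD1_c6 LD2_c51 LD3_c60)) :=
  Lgr Lrot170 (Lpr_gt (K29.f14915 IH) (Lpe (f15070 IH) (Lpr_et (K0.f15060 IH) (Lpr_gt (K2.f15066 IH) (Lpr_dt (K2.f11965 IH) (Lpr_gt (K2.f90979 IH) (Lpe (K2.f18149 IH) (Lpr_et (K29.f19067 IH) (Lpr_gt (K28.f18599 IH) (Lpe (f18989 IH) (Lpn (LP (LK LD1_c6 LD2_c51 LD3_c60)))))))))))))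
theorem f90998 : Led Lsl_et (LP (LK LD1_c7 LD2_c43 LD3_c0)) = (LP (LK LD1_c14 LD2_c32 LD3_c49)) :=
  Lre_e IH (LK LD1_c7 LD2_c43 LD3_c0) (LK LD1_c14 LD2_c32 LD3_c49) Lrfl Lrfl
theorem f91000 : Led Lsl_dt (LP (LK LD1_c6 LD2_c51 LD3_c59)) = (LP (LK LD1_c3 LD2_c24 LD3_c45)) :=
  Lre_d IH (LK LD1_c6 LD2_c51 LD3_c59) (LK LD1_c3 LD2_c24 LD3_c45) Lrfl Lrfl
theorem f91001 : Led Lsl_et (LP (LK LD1_c13 LD2_c3 LD3_c31)) = (LP (LK LD1_c6 LD2_c51 LD3_c59)) :=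
  Lre_e IH (LK LD1_c13 LD2_c3 LD3_c31) (LK LD1_c6 LD2_c51 LD3_c59) Lrfl Lrfl
theorem f91002 : Led Lsl_dt (LP (LK LD1_c14 LD2_c32 LD3_c49)) = (LP (LK LD1_c13 LD2_c3 LD3_c31)) :=
  Lgr Lrot77 (Lpe (f90998 IH) (Lpr_df (f90988 IH) (Lpe (f90999 IH) (Lpe (f91000 IH) (Lpe (f91001 IH) (Lpn (LP (LK LD1_c13 LD2_c3 LD3_c31))))))))
theorem f91017 : Led Lsl_ft (LP (LK LD1_c24 LD2_c15 LD3_c16)) = (LP (LK LD1_c14 LD2_c32 LD3_c49)) :=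
  Lre_f IH (LK LD1_c24 LD2_c15 LD3_c16) (LK LD1_c14 LD2_c32 LD3_c49) Lrfl Lrfl
theorem f91018 : Led Lsl_ft (LP (LK LD1_c13 LD2_c3 LD3_c31)) = (LP (LK LD1_c22 LD2_c13 LD3_c31)) :=
  Lre_f IH (LK LD1_c13 LD2_c3 LD3_c31) (LK LD1_c22 LD2_c13 LD3_c31) Lrfl Lrfl
theorem f91019 : Led Lsl_df (LP (LK LD1_c24 LD2_c15 LD3_c16)) = (LP (LK LD1_c22 LD2_c13 LD3_c31)) :=
  Lgr Lrot78 (Lpr_ft (f91017 IH) (Lpr_dt (f91002 IH) (Lpr_ft (f91018 IH) (Lpn (LP (LK LD1_c22 LD2_c13 LD3_c31))))))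
theorem f512763 : Led Lsl_af (LP (LK LD1_c14 LD2_c34 LD3_c31)) = (LP (LK LD1_c24 LD2_c15 LD3_c16)) :=
  Lgr Lrot117 (Lpe (f457563 IH) (Lpr_at (f512757 IH) (Lpe (f91019 IH) (Lpn (LP (LK LD1_c24 LD2_c15 LD3_c16))))))
theorem f512767 : Led Lsl_at (LP (LK LD1_c14 LD2_c34 LD3_c31)) = (LP (LK LD1_c24 LD2_c15 LD3_c16)) :=
  Lgr Lrot100 (Lpr_af (f512763 IH) (Lpn (LP (LK LD1_c24 LD2_c15 LD3_c16))))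
theorem f457529 : Led Lsl_ft (LP (LK LD1_c7 LD2_c43 LD3_c47)) = (LP (LK LD1_c14 LD2_c34 LD3_c31)) :=
  Lre_f IH (LK LD1_c7 LD2_c43 LD3_c47) (LK LD1_c14 LD2_c34 LD3_c31) Lrfl Lrfl
theorem f512771 : Led Lsl_af (LP (LK LD1_c7 LD2_c43 LD3_c47)) = (LP (LK LD1_c14 LD2_c32 LD3_c49)) :=
  Lgr Lrot45 (Lpr_ft (f457529 IH) (Lpr_at (f512767 IH) (Lpr_ft (f91017 IH) (Lpn (LP (LK LD1_c14 LD2_c32 LD3_c49))))))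
theorem f457554 : Led Lsl_ct (LP (LK LD1_c7 LD2_c43 LD3_c47)) = (LP (LK LD1_c14 LD2_c34 LD3_c28)) :=
  Lre_c IH (LK LD1_c7 LD2_c43 LD3_c47) (LK LD1_c14 LD2_c34 LD3_c28) Lrfl Lrfl
theorem f91013 : Led Lsl_ct (LP (LK LD1_c24 LD2_c15 LD3_c14)) = (LP (LK LD1_c14 LD2_c32 LD3_c49)) :=
  Lre_c IH (LK LD1_c24 LD2_c15 LD3_c14) (LK LD1_c14 LD2_c32 LD3_c49) Lrfl Lrfl
theorem f512776 : Led Lsl_at (LP (LK LD1_c14 LD2_c34 LD3_c28)) = (LP (LK LD1_c24 LD2_c15 LD3_c14)) :=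
  Lgr Lrot107 (Lpe (f457554 IH) (Lpr_af (f512771 IH) (Lpe (f91013 IH) (Lpn (LP (LK LD1_c24 LD2_c15 LD3_c14))))))
theorem f512783 : Led Lsl_et (LP (LK LD1_c7 LD2_c43 LD3_c46)) = (LP (LK LD1_c14 LD2_c34 LD3_c28)) :=
  Lre_e IH (LK LD1_c7 LD2_c43 LD3_c46) (LK LD1_c14 LD2_c34 LD3_c28) Lrfl Lrfl
theorem f512784 : Led Lsl_et (LP (LK LD1_c24 LD2_c15 LD3_c14)) = (LP (LK LD1_c14 LD2_c32 LD3_c48)) :=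
  Lre_e IH (LK LD1_c24 LD2_c15 LD3_c14) (LK LD1_c14 LD2_c32 LD3_c48) Lrfl Lrfl
theorem f512785 : Led Lsl_af (LP (LK LD1_c7 LD2_c43 LD3_c46)) = (LP (LK LD1_c14 LD2_c32 LD3_c48)) :=
  Lgr Lrot50 (Lpr_et (f512783 IH) (Lpr_at (f512776 IH) (Lpr_et (f512784 IH) (Lpn (LP (LK LD1_c14 LD2_c32 LD3_c48))))))
theorem f512787 : Led Lsl_at (LP (LK LD1_c7 LD2_c43 LD3_c46)) = (LP (LK LD1_c14 LD2_c32 LD3_c48)) :=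
  Lgr Lrot100 (Lpr_af (f512785 IH) (Lpn (LP (LK LD1_c14 LD2_c32 LD3_c48))))
theorem f457500 : Led Lsl_ct (LP (LK LD1_c3 LD2_c51 LD3_c11)) = (LP (LK LD1_c7 LD2_c43 LD3_c46)) :=
  Lre_c IH (LK LD1_c3 LD2_c51 LD3_c11) (LK LD1_c7 LD2_c43 LD3_c46) Lrfl Lrfl
theorem f91004 : Led Lsl_ct (LP (LK LD1_c14 LD2_c32 LD3_c48)) = (LP (LK LD1_c7 LD2_c43 LD3_c0)) :=
  Lre_c IH (LK LD1_c14 LD2_c32 LD3_c48) (LK LD1_c7 LD2_c43 LD3_c0) Lrfl Lrfl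
theorem f512803 : Led Lsl_af (LP (LK LD1_c3 LD2_c51 LD3_c11)) = (LP (LK LD1_c7 LD2_c43 LD3_c0)) :=
  Lgr Lrot68 (Lpr_ct (f457500 IH) (Lpr_at (f512787 IH) (Lpr_ct (f91004 IH) (Lpn (LP (LK LD1_c7 LD2_c43 LD3_c0))))))
theorem f14852 : Led Lsl_gt (LP (LK LD1_c3 LD2_c51 LD3_c10)) = (LP (LK LD1_c7 LD2_c43 LD3_c2)) :=
  Lre_g IH (LK LD1_c3 LD2_c51 LD3_c10) (LK LD1_c7 LD2_c43 LD3_c2) Lrfl Lrfl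
theorem f512807 : Led Lsl_ft (LP (LK LD1_c3 LD2_c51 LD3_c10)) = (LP (LK LD1_c7 LD2_c43 LD3_c0)) :=
  Lgr Lrot2 (Lpr_gt (f14852 IH) (Lpr_gt (f15319 IH) (Lpr_af (f512803 IH) (Lpn (LP (LK LD1_c7 LD2_c43 LD3_c0))))))
theorem f512818 : Led Lsl_ff (LP (LK LD1_c3 LD2_c51 LD3_c10)) = (LP (LK LD1_c7 LD2_c43 LD3_c0)) :=
  Lgr Lrot3 (Lpr_ft (f512807 IH) (Lpn (LP (LK LD1_c7 LD2_c43 LD3_c0))))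
theorem f91300 : Led Lsl_gt (LP (LK LD1_c3 LD2_c50 LD3_c56)) = (LP (LK LD1_c7 LD2_c42 LD3_c61)) :=
  Lre_g IH (LK LD1_c3 LD2_c50 LD3_c56) (LK LD1_c7 LD2_c42 LD3_c61) Lrfl Lrfl
theorem f512829 : Led Lsl_at (LP (LK LD1_c3 LD2_c51 LD3_c10)) = (LP (LK LD1_c7 LD2_c42 LD3_c61)) :=
  Lgr Lrot26 (Lpr_ff (f512818 IH) (Lpr_gt (K29.f14915 IH) (Lpr_gt (f91300 IH) (Lpn (LP (LK LD1_c7 LD2_c42 LD3_c61))))))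
theorem f90996 : Led Lsl_dt (LP (LK LD1_c7 LD2_c43 LD3_c0)) = (LP (LK LD1_c6 LD2_c51 LD3_c60)) :=
  Lgr Lrot42 (Lpr_df (f90988 IH) (Lpn (LP (LK LD1_c6 LD2_c51 LD3_c60))))
theorem f512640 : Led Lsl_at (LP (LK LD1_c3 LD2_c51 LD3_c11)) = (LP (LK LD1_c7 LD2_c43 LD3_c0)) :=
  Lgr Lrot51 (Lpe (f457490 IH) (Lpr_af (f512636 IH) (Lpe (f90996 IH) (Lpn (LP (LK LD1_c7 LD2_c43 LD3_c0))))))
theorem f512838 : Led Lsl_ff (LP (LK LD1_c3 LD2_c51 LD3_c11)) = (LP (LK LD1_c7 LD2_c42 LD3_c61)) :=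
  Lgr Lrot30 (Lpr_at (f512640 IH) (Lpe (f512818 IH) (Lpr_at (f512829 IH) (Lpn (LP (LK LD1_c7 LD2_c42 LD3_c61))))))
theorem f512847 : Led Lsl_ft (LP (LK LD1_c3 LD2_c51 LD3_c11)) = (LP (LK LD1_c7 LD2_c42 LD3_c61)) :=
  Lgr Lrot48 (Lpr_ff (f512838 IH) (Lpn (LP (LK LD1_c7 LD2_c42 LD3_c61))))
theorem f457509 : Led Lsl_ct (LP (LK LD1_c7 LD2_c43 LD3_c46)) = (LP (LK LD1_c3 LD2_c51 LD3_c11)) :=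
  Lre_c IH (LK LD1_c7 LD2_c43 LD3_c46) (LK LD1_c3 LD2_c51 LD3_c11) Lrfl Lrfl
theorem f458209 : Led Lsl_ct (LP (LK LD1_c7 LD2_c42 LD3_c61)) = (LP (LK LD1_c14 LD2_c32 LD3_c45)) :=
  Lre_c IH (LK LD1_c7 LD2_c42 LD3_c61) (LK LD1_c14 LD2_c32 LD3_c45) Lrfl Lrfl
theorem f512851 : Led Lsl_ff (LP (LK LD1_c7 LD2_c43 LD3_c46)) = (LP (LK LD1_c14 LD2_c32 LD3_c45)) :=
  Lgr Lrot23 (Lpr_ct (f457509 IH) (Lpr_ft (f512847 IH) (Lpr_ct (f458209 IH) (Lpn (LP (LK LD1_c14 LD2_c32 LD3_c45))))))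
theorem f128272 : Led Lsl_ft (LP (LK LD1_c3 LD2_c37 LD3_c2)) = (LP (LK LD1_c1 LD2_c45 LD3_c23)) :=
  Lre_f IH (LK LD1_c3 LD2_c37 LD3_c2) (LK LD1_c1 LD2_c45 LD3_c23) Lrfl Lrfl
theorem f425291 : Led Lsl_at (LP (LK LD1_c1 LD2_c45 LD3_c23)) = (LP (LK LD1_c1 LD2_c43 LD3_c30)) :=
  Lgr Lrot100 (Lpr_af (K28.f425289 IH) (Lpn (LP (LK LD1_c1 LD2_c43 LD3_c30))))
theorem f470835 : Led Lsl_gf (LP (LK LD1_c1 LD2_c43 LD3_c30)) = (LP (LK LD1_c1 LD2_c54 LD3_c45)) :=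
  Lgr Lrot76 (Lpe (f425291 IH) (Lpe (f128272 IH) (Lpr_gt (K29.f470831 IH) (Lpn (LP (LK LD1_c1 LD2_c54 LD3_c45))))))
theorem f14847 : Led Lsl_bt (LP (LK LD1_c0 LD2_c53 LD3_c60)) = (LP (LK LD1_c0 LD2_c24 LD3_c19)) :=
  Lre_b IH (LK LD1_c0 LD2_c53 LD3_c60) (LK LD1_c0 LD2_c24 LD3_c19) Lrfl Lrfl
theorem f17098 : Led Lsl_gt (LP (LK LD1_c3 LD2_c50 LD3_c54)) = (LP (LK LD1_c1 LD2_c52 LD3_c27)) :=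
  Lre_g IH (LK LD1_c3 LD2_c50 LD3_c54) (LK LD1_c1 LD2_c52 LD3_c27) Lrfl Lrfl
theorem f15692 : Led Lsl_gt (LP (LK LD1_c0 LD2_c23 LD3_c58)) = (LP (LK LD1_c0 LD2_c53 LD3_c14)) :=
  Lre_g IH (LK LD1_c0 LD2_c23 LD3_c58) (LK LD1_c0 LD2_c53 LD3_c14) Lrfl Lrfl
theorem f446570 : Led Lsl_bt (LP (LK LD1_c1 LD2_c53 LD3_c17)) = (LP (LK LD1_c0 LD2_c53 LD3_c14)) :=
  Lre_b IH (LK LD1_c1 LD2_c53 LD3_c17) (LK LD1_c0 LD2_c53 LD3_c14) Lrfl Lrfl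
theorem f458196 : Led Lsl_cf (LP (LK LD1_c3 LD2_c50 LD3_c54)) = (LP (LK LD1_c1 LD2_c53 LD3_c17)) :=
  Lgr Lrot160 (Lpr_gt (f17098 IH) (Lpe (K29.f17107 IH) (Lpr_bt (f14847 IH) (Lpe (K28.f446525 IH) (Lpq (K24.f457379 IH) (Lpe (K24.f450698 IH) (Lpr_gt (K24.f11058 IH) (Lpr_cf (K24.f9889 IH) (Lpr_bt (K24.f11150 IH) (Lpr_gt (f15692 IH) (Lpe (f446570 IH) (Lpn (LP (LK LD1_c1 LD2_c53 LD3_c17))))))))))))))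
theorem f472327 : Led Lsl_gt (LP (LK LD1_c3 LD2_c38 LD3_c5)) = (LP (LK LD1_c1 LD2_c53 LD3_c17)) :=
  Lgr Lrot82 (Lpe (K3.f86834 IH) (Lpr_ct (K3.f97325 IH) (Lpr_gf (f470835 IH) (Lpe (K29.f446531 IH) (Lpr_bt (K28.f446530 IH) (Lpr_gf (K28.f446525 IH) (Lpe (f14847 IH) (Lpr_ct (K29.f17107 IH) (Lpe (f17098 IH) (Lpr_cf (f458196 IH) (Lpn (LP (LK LD1_c1 LD2_c53 LD3_c17)))))))))))))
theorem f458199 : Led Lsl_bt (LP (LK LD1_c0 LD2_c53 LD3_c14)) = (LP (LK LD1_c1 LD2_c53 LD3_c17)) :=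
  Lre_b IH (LK LD1_c0 LD2_c53 LD3_c14) (LK LD1_c1 LD2_c53 LD3_c17) Lrfl Lrfl
theorem f446577 : Led Lsl_ct (LP (LK LD1_c0 LD2_c53 LD3_c14)) = (LP (LK LD1_c1 LD2_c53 LD3_c18)) :=
  Lre_c IH (LK LD1_c0 LD2_c53 LD3_c14) (LK LD1_c1 LD2_c53 LD3_c18) Lrfl Lrfl
theorem f472329 : Led Lsl_gt (LP (LK LD1_c1 LD2_c53 LD3_c18)) = (LP (LK LD1_c3 LD2_c48 LD3_c25)) :=
  Lgr Lrot65 (Lpe (f446577 IH) (Lpr_bt (f458199 IH) (Lpe (f472327 IH) (Lpe (K3.f86834 IH) (Lpr_ct (K3.f97325 IH) (Lpr_gf (f470835 IH) (Lpe (K29.f446531 IH) (Lpqs (K28.f470373 IH) (Lpe (K28.f455825 IH) (Lpe (K3.f17353 IH) (Lpr_ct (K3.f17331 IH) (Lpn (LP (LK LD1_c3 LD2_c48 LD3_c25))))))))))))))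
theorem f472338 : Led Lsl_et (LP (LK LD1_c3 LD2_c53 LD3_c28)) = (LP (LK LD1_c1 LD2_c53 LD3_c18)) :=
  Lre_e IH (LK LD1_c3 LD2_c53 LD3_c28) (LK LD1_c1 LD2_c53 LD3_c18) Lrfl Lrfl
theorem f472339 : Led Lsl_dt (LP (LK LD1_c3 LD2_c53 LD3_c28)) = (LP (LK LD1_c7 LD2_c48 LD3_c34)) :=
  Lre_d IH (LK LD1_c3 LD2_c53 LD3_c28) (LK LD1_c7 LD2_c48 LD3_c34) Lrfl Lrfl
theorem f472340 : Led Lsl_gf (LP (LK LD1_c7 LD2_c48 LD3_c34)) = (LP (LK LD1_c7 LD2_c32 LD3_c25)) :=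
  Lgr Lrot145 (Lpe (f472339 IH) (Lpr_et (f472338 IH) (Lpr_gt (f472329 IH) (Lpr_dt (K28.f17347 IH) (Lpr_gt (K28.f460206 IH) (Lpe (K28.f63033 IH) (Lpr_et (K28.f63032 IH) (Lpr_gt (K24.f18793 IH) (Lpe (K24.f460106 IH) (Lpr_dt (K4.f111725 IH) (Lpn (LP (LK LD1_c7 LD2_c32 LD3_c25)))))))))))))
theorem f130730 : Led Lsl_ft (LP (LK LD1_c7 LD2_c32 LD3_c25)) = (LP (LK LD1_c3 LD2_c45 LD3_c50)) :=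
  Lre_f IH (LK LD1_c7 LD2_c32 LD3_c25) (LK LD1_c3 LD2_c45 LD3_c50) Lrfl Lrfl
theorem f111694 : Led Lsl_at (LP (LK LD1_c3 LD2_c45 LD3_c50)) = (LP (LK LD1_c7 LD2_c0 LD3_c20)) :=
  Lgr Lrot100 (Lpr_af (K4.f111682 IH) (Lpn (LP (LK LD1_c7 LD2_c0 LD3_c20))))
theorem f472345 : Led Lsl_gt (LP (LK LD1_c7 LD2_c48 LD3_c34)) = (LP (LK LD1_c7 LD2_c0 LD3_c20)) :=
  Lgr Lrot46 (Lpr_gf (f472340 IH) (Lpr_ft (f130730 IH) (Lpr_at (f111694 IH) (Lpn (LP (LK LD1_c7 LD2_c0 LD3_c20))))))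
theorem f96181 : Led Lsl_et (LP (LK LD1_c1 LD2_c50 LD3_c36)) = (LP (LK LD1_c3 LD2_c46 LD3_c60)) :=
  Lre_e IH (LK LD1_c1 LD2_c50 LD3_c36) (LK LD1_c3 LD2_c46 LD3_c60) Lrfl Lrfl
theorem f472367 : Led Lsl_gf (LP (LK LD1_c1 LD2_c53 LD3_c18)) = (LP (LK LD1_c3 LD2_c46 LD3_c60)) :=
  Lgr Lrot141 (Lpe (f472338 IH) (Lpr_dt (f472339 IH) (Lpr_gt (f472345 IH) (Lpe (K4.f17812 IH) (Lpr_et (K4.f17794 IH) (Lpe (K2.f89299 IH) (Lpr_dt (K3.f64793 IH) (Lpr_gt (K3.f105560 IH) (Lpr_df (K3.f96165 IH) (Lpr_et (f96181 IH) (Lpn (LP (LK LD1_c3 LD2_c46 LD3_c60)))))))))))))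
theorem f452058 : Led Lsl_gt (LP (LK LD1_c1 LD2_c54 LD3_c37)) = (LP (LK LD1_c3 LD2_c55 LD3_c55)) :=
  Lre_g IH (LK LD1_c1 LD2_c54 LD3_c37) (LK LD1_c3 LD2_c55 LD3_c55) Lrfl Lrfl
theorem f203892 : Led Lsl_bt (LP (LK LD1_c3 LD2_c42 LD3_c28)) = (LP (LK LD1_c1 LD2_c48 LD3_c23)) :=
  Lre_b IH (LK LD1_c3 LD2_c42 LD3_c28) (LK LD1_c1 LD2_c48 LD3_c23) Lrfl Lrfl
theorem f471896 : Led Lsl_cf (LP (LK LD1_c3 LD2_c55 LD3_c55)) = (LP (LK LD1_c3 LD2_c42 LD3_c28)) :=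
  Lgr Lrot58 (Lpe (f452058 IH) (Lpe (K29.f452057 IH) (Lpr_bt (K29.f457721 IH) (Lpe (K28.f465412 IH) (Lpe (K28.f95838 IH) (Lpr_ct (K5.f95861 IH) (Lpr_gf (K28.f465130 IH) (Lpe (K28.f451292 IH) (Lpq (K29.f471297 IH) (Lpe (K29.f457137 IH) (Lpe (f203892 IH) (Lpn (LP (LK LD1_c3 LD2_c42 LD3_c28))))))))))))))
theorem f471903 : Led Lsl_ft (LP (LK LD1_c3 LD2_c55 LD3_c55)) = (LP (LK LD1_c3 LD2_c26 LD3_c25)) :=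
  Lgr Lrot4 (Lpr_cf (f471896 IH) (Lpe (K28.f124371 IH) (Lpr_cf (K28.f425206 IH) (Lpn (LP (LK LD1_c3 LD2_c26 LD3_c25))))))
theorem f14817 : Led Lsl_ct (LP (LK LD1_c1 LD2_c54 LD3_c35)) = (LP (LK LD1_c3 LD2_c50 LD3_c57)) :=
  Lre_c IH (LK LD1_c1 LD2_c54 LD3_c35) (LK LD1_c3 LD2_c50 LD3_c57) Lrfl Lrfl
theorem f14818 : Led Lsl_bt (LP (LK LD1_c1 LD2_c54 LD3_c35)) = (LP (LK LD1_c1 LD2_c54 LD3_c35)) :=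
  Lgr Lrot128 (Lpe (K29.f14815 IH) (Lpe (K7.f14814 IH) (Lpr_cf (K8.f14791 IH) (Lpe (K29.f14816 IH) (Lpe (f14817 IH) (Lpn (LP (LK LD1_c1 LD2_c54 LD3_c35))))))))
theorem f120859 : Led Lsl_gt (LP (LK LD1_c1 LD2_c48 LD3_c11)) = (LP (LK LD1_c3 LD2_c42 LD3_c26)) :=
  Lre_g IH (LK LD1_c1 LD2_c48 LD3_c11) (LK LD1_c3 LD2_c42 LD3_c26) Lrfl Lrfl
theorem f471184 : Led Lsl_cf (LP (LK LD1_c1 LD2_c52 LD3_c24)) = (LP (LK LD1_c3 LD2_c42 LD3_c26)) :=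
  Lgr Lrot125 (Lpr_gt (K2.f14843 IH) (Lpe (f14817 IH) (Lpr_bt (f14818 IH) (Lpr_gt (K29.f14857 IH) (Lpe (K29.f14860 IH) (Lpr_ct (K29.f471174 IH) (Lpr_gt (K29.f203948 IH) (Lpe (K29.f142384 IH) (Lpr_bt (K28.f203906 IH) (Lpr_gt (f120859 IH) (Lpn (LP (LK LD1_c3 LD2_c42 LD3_c26)))))))))))))
theorem f451206 : Led Lsl_ct (LP (LK LD1_c0 LD2_c24 LD3_c15)) = (LP (LK LD1_c0 LD2_c52 LD3_c56)) :=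
  Lre_c IH (LK LD1_c0 LD2_c24 LD3_c15) (LK LD1_c0 LD2_c52 LD3_c56) Lrfl Lrfl
theorem f86859 : Led Lsl_ft (LP (LK LD1_c1 LD2_c46 LD3_c0)) = (LP (LK LD1_c3 LD2_c38 LD3_c8)) :=
  Lre_f IH (LK LD1_c1 LD2_c46 LD3_c0) (LK LD1_c3 LD2_c38 LD3_c8) Lrfl Lrfl
theorem f97336 : Led Lsl_gt (LP (LK LD1_c1 LD2_c46 LD3_c0)) = (LP (LK LD1_c3 LD2_c38 LD3_c6)) :=
  Lre_g IH (LK LD1_c1 LD2_c46 LD3_c0) (LK LD1_c3 LD2_c38 LD3_c6) Lrfl Lrfl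
theorem f425236 : Led Lsl_gf (LP (LK LD1_c3 LD2_c39 LD3_c16)) = (LP (LK LD1_c3 LD2_c38 LD3_c6)) :=
  Lgr Lrot76 (Lpr_af (K29.f425232 IH) (Lpe (f86859 IH) (Lpr_gt (f97336 IH) (Lpn (LP (LK LD1_c3 LD2_c38 LD3_c6))))))
theorem f471199 : Led Lsl_bf (LP (LK LD1_c3 LD2_c38 LD3_c6)) = (LP (LK LD1_c3 LD2_c42 LD3_c26)) :=
  Lgr Lrot156 (Lpe (f425236 IH) (Lpe (K29.f12378 IH) (Lpr_ct (K29.f12387 IH) (Lpe (K29.f203949 IH) (Lpe (K29.f471174 IH) (Lpr_bt (K29.f14860 IH) (Lpr_gt (K29.f17265 IH) (Lpr_ct (f451206 IH) (Lpr_gt (K2.f91751 IH) (Lpr_cf (f471184 IH) (Lpn (LP (LK LD1_c3 LD2_c42 LD3_c26)))))))))))))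
theorem f14861 : Led Lsl_ct (LP (LK LD1_c0 LD2_c53 LD3_c58)) = (LP (LK LD1_c1 LD2_c54 LD3_c40)) :=
  Lre_c IH (LK LD1_c0 LD2_c53 LD3_c58) (LK LD1_c1 LD2_c54 LD3_c40) Lrfl Lrfl
theorem f471206 : Led Lsl_gf (LP (LK LD1_c3 LD2_c55 LD3_c40)) = (LP (LK LD1_c1 LD2_c54 LD3_c40)) :=
  Lgr Lrot129 (Lpe (K3.f97354 IH) (Lpr_bt (K28.f86826 IH) (Lpr_gt (f97336 IH) (Lpr_bf (f471199 IH) (Lpe (f471184 IH) (Lpr_gt (K2.f14843 IH) (Lpe (f14817 IH) (Lpr_bt (f14818 IH) (Lpr_gt (K29.f14857 IH) (Lpr_ct (f14861 IH) (Lpn (LP (LK LD1_c1 LD2_c54 LD3_c40)))))))))))))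
theorem f471913 : Led Lsl_gt (LP (LK LD1_c3 LD2_c55 LD3_c55)) = (LP (LK LD1_c1 LD2_c54 LD3_c40)) :=
  Lgr Lrot5 (Lpr_ft (f471903 IH) (Lpe (K28.f425167 IH) (Lpr_gf (f471206 IH) (Lpn (LP (LK LD1_c1 LD2_c54 LD3_c40))))))
theorem f203887 : Led Lsl_gf (LP (LK LD1_c1 LD2_c48 LD3_c23)) = (LP (LK LD1_c1 LD2_c47 LD3_c4)) :=
  Lgr Lrot76 (Lpr_af (K28.f203874 IH) (Lpe (K28.f12376 IH) (Lpr_gt (K30.f12380 IH) (Lpn (LP (LK LD1_c1 LD2_c47 LD3_c4))))))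
theorem f471919 : Led Lsl_gf (LP (LK LD1_c3 LD2_c13 LD3_c31)) = (LP (LK LD1_c1 LD2_c54 LD3_c39)) :=
  Lgr Lrot181 (Lpr_ct (K5.f95861 IH) (Lpr_gt (K33.f471334 IH) (Lpe (K30.f12381 IH) (Lpe (K30.f471305 IH) (Lpe (f203887 IH) (Lpe (f203892 IH) (Lpe (f471896 IH) (Lpr_gt (f471913 IH) (Lpe (f14861 IH) (Lpr_bt (K29.f471176 IH) (Lpn (LP (LK LD1_c1 LD2_c54 LD3_c39)))))))))))))
theorem f472373 : Led Lsl_gt (LP (LK LD1_c1 LD2_c53 LD3_c17)) = (LP (LK LD1_c3 LD2_c42 LD3_c28)) :=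
  Lgr Lrot82 (Lpe (f458199 IH) (Lpr_ct (f446577 IH) (Lpr_gf (f472367 IH) (Lpe (K28.f96130 IH) (Lpe (K4.f95836 IH) (Lpr_gf (f471919 IH) (Lpe (K29.f471176 IH) (Lpr_ct (f14861 IH) (Lpe (f471913 IH) (Lpr_cf (f471896 IH) (Lpn (LP (LK LD1_c3 LD2_c42 LD3_c28)))))))))))))
theorem f458203 : Led Lsl_ct (LP (LK LD1_c3 LD2_c50 LD3_c54)) = (LP (LK LD1_c1 LD2_c53 LD3_c17)) :=
  Lgr Lrot59 (Lpr_cf (f458196 IH) (Lpn (LP (LK LD1_c1 LD2_c53 LD3_c17))))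
theorem f14803 : Led Lsl_gt (LP (LK LD1_c1 LD2_c52 LD3_c20)) = (LP (LK LD1_c3 LD2_c50 LD3_c54)) :=
  Lre_g IH (LK LD1_c1 LD2_c52 LD3_c20) (LK LD1_c3 LD2_c50 LD3_c54) Lrfl Lrfl
theorem f471905 : Led Lsl_dt (LP (LK LD1_c7 LD2_c53 LD3_c30)) = (LP (LK LD1_c3 LD2_c55 LD3_c55)) :=
  Lre_d IH (LK LD1_c7 LD2_c53 LD3_c30) (LK LD1_c3 LD2_c55 LD3_c55) Lrfl Lrfl
theorem f471906 : Led Lsl_ct (LP (LK LD1_c14 LD2_c52 LD3_c61)) = (LP (LK LD1_c7 LD2_c53 LD3_c30)) :=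
  Lre_c IH (LK LD1_c14 LD2_c52 LD3_c61) (LK LD1_c7 LD2_c53 LD3_c30) Lrfl Lrfl
theorem f472473 : Led Lsl_gt (LP (LK LD1_c14 LD2_c32 LD3_c45)) = (LP (LK LD1_c14 LD2_c52 LD3_c61)) :=
  Lgr Lrot150 (Lpe (f458209 IH) (Lpe (f91300 IH) (Lpe (f15070 IH) (Lpr_gt (f14803 IH) (Lpr_ct (f458203 IH) (Lpr_gt (f472373 IH) (Lpe (f471896 IH) (Lpe (f471905 IH) (Lpe (f471906 IH) (Lpn (LP (LK LD1_c14 LD2_c52 LD3_c61))))))))))))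
theorem f512902 : Led Lsl_gf (LP (LK LD1_c14 LD2_c32 LD3_c48)) = (LP (LK LD1_c14 LD2_c52 LD3_c61)) :=
  Lgr Lrot76 (Lpe (f512787 IH) (Lpr_ff (f512851 IH) (Lpr_gt (f472473 IH) (Lpn (LP (LK LD1_c14 LD2_c52 LD3_c61))))))
theorem f471911 : Led Lsl_ff (LP (LK LD1_c3 LD2_c55 LD3_c55)) = (LP (LK LD1_c3 LD2_c26 LD3_c25)) :=
  Lgr Lrot3 (Lpr_ft (f471903 IH) (Lpn (LP (LK LD1_c3 LD2_c26 LD3_c25))))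
theorem f457764 : Led Lsl_dt (LP (LK LD1_c3 LD2_c55 LD3_c55)) = (LP (LK LD1_c7 LD2_c53 LD3_c30)) :=
  Lre_d IH (LK LD1_c3 LD2_c55 LD3_c55) (LK LD1_c7 LD2_c53 LD3_c30) Lrfl Lrfl
theorem f102605 : Led Lsl_dt (LP (LK LD1_c6 LD2_c54 LD3_c43)) = (LP (LK LD1_c3 LD2_c26 LD3_c25)) :=
  Lre_d IH (LK LD1_c6 LD2_c54 LD3_c43) (LK LD1_c3 LD2_c26 LD3_c25) Lrfl Lrfl
theorem f472015 : Led Lsl_ft (LP (LK LD1_c7 LD2_c53 LD3_c30)) = (LP (LK LD1_c6 LD2_c54 LD3_c43)) :=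
  Lgr Lrot54 (Lpe (f457764 IH) (Lpr_ff (f471911 IH) (Lpe (f102605 IH) (Lpn (LP (LK LD1_c6 LD2_c54 LD3_c43))))))
theorem f102610 : Led Lsl_ct (LP (LK LD1_c6 LD2_c54 LD3_c43)) = (LP (LK LD1_c13 LD2_c7 LD3_c58)) :=
  Lre_c IH (LK LD1_c6 LD2_c54 LD3_c43) (LK LD1_c13 LD2_c7 LD3_c58) Lrfl Lrfl
theorem f472020 : Led Lsl_ff (LP (LK LD1_c14 LD2_c52 LD3_c61)) = (LP (LK LD1_c13 LD2_c7 LD3_c58)) :=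
  Lgr Lrot23 (Lpr_ct (f471906 IH) (Lpr_ft (f472015 IH) (Lpr_ct (f102610 IH) (Lpn (LP (LK LD1_c13 LD2_c7 LD3_c58))))))
theorem f472026 : Led Lsl_ft (LP (LK LD1_c14 LD2_c52 LD3_c61)) = (LP (LK LD1_c13 LD2_c7 LD3_c58)) :=
  Lgr Lrot48 (Lpr_ff (f472020 IH) (Lpn (LP (LK LD1_c13 LD2_c7 LD3_c58))))
theorem f96850 : Led Lsl_dt (LP (LK LD1_c3 LD2_c55 LD3_c40)) = (LP (LK LD1_c7 LD2_c53 LD3_c5)) :=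
  Lre_d IH (LK LD1_c3 LD2_c55 LD3_c40) (LK LD1_c7 LD2_c53 LD3_c5) Lrfl Lrfl
theorem f425172 : Led Lsl_at (LP (LK LD1_c7 LD2_c53 LD3_c5)) = (LP (LK LD1_c6 LD2_c54 LD3_c43)) :=
  Lgr Lrot51 (Lpe (f96850 IH) (Lpr_af (K28.f425167 IH) (Lpe (f102605 IH) (Lpn (LP (LK LD1_c6 LD2_c54 LD3_c43))))))
theorem f96847 : Led Lsl_ct (LP (LK LD1_c14 LD2_c52 LD3_c30)) = (LP (LK LD1_c7 LD2_c53 LD3_c5)) :=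
  Lre_c IH (LK LD1_c14 LD2_c52 LD3_c30) (LK LD1_c7 LD2_c53 LD3_c5) Lrfl Lrfl
theorem f425178 : Led Lsl_af (LP (LK LD1_c14 LD2_c52 LD3_c30)) = (LP (LK LD1_c13 LD2_c7 LD3_c58)) :=
  Lgr Lrot68 (Lpr_ct (f96847 IH) (Lpr_at (f425172 IH) (Lpr_ct (f102610 IH) (Lpn (LP (LK LD1_c13 LD2_c7 LD3_c58))))))
theorem f512904 : Led Lsl_gt (LP (LK LD1_c14 LD2_c32 LD3_c48)) = (LP (LK LD1_c14 LD2_c52 LD3_c30)) :=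
  Lgr Lrot46 (Lpr_gf (f512902 IH) (Lpr_ft (f472026 IH) (Lpe (f425178 IH) (Lpn (LP (LK LD1_c14 LD2_c52 LD3_c30))))))
theorem f90995 : Led Lsl_ct (LP (LK LD1_c7 LD2_c43 LD3_c0)) = (LP (LK LD1_c14 LD2_c32 LD3_c48)) :=
  Lre_c IH (LK LD1_c7 LD2_c43 LD3_c0) (LK LD1_c14 LD2_c32 LD3_c48) Lrfl Lrfl
theorem f471812 : Led Lsl_bt (LP (LK LD1_c13 LD2_c17 LD3_c16)) = (LP (LK LD1_c22 LD2_c32 LD3_c61)) :=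
  Lre_b IH (LK LD1_c13 LD2_c17 LD3_c16) (LK LD1_c22 LD2_c32 LD3_c61) Lrfl Lrfl
theorem f96843 : Led Lsl_ct (LP (LK LD1_c7 LD2_c53 LD3_c5)) = (LP (LK LD1_c14 LD2_c52 LD3_c30)) :=
  Lre_c IH (LK LD1_c7 LD2_c53 LD3_c5) (LK LD1_c14 LD2_c52 LD3_c30) Lrfl Lrfl
theorem f96837 : Led Lsl_dt (LP (LK LD1_c7 LD2_c53 LD3_c5)) = (LP (LK LD1_c3 LD2_c55 LD3_c40)) :=
  Lre_d IH (LK LD1_c7 LD2_c53 LD3_c5) (LK LD1_c3 LD2_c55 LD3_c40) Lrfl Lrfl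
theorem f96838 : Led Lsl_bt (LP (LK LD1_c13 LD2_c30 LD3_c26)) = (LP (LK LD1_c7 LD2_c53 LD3_c5)) :=
  Lgr Lrot95 (Lpe (K28.f96836 IH) (Lpr_bf (K3.f96827 IH) (Lpe (f96837 IH) (Lpn (LP (LK LD1_c7 LD2_c53 LD3_c5))))))
theorem f96840 : Led Lsl_bf (LP (LK LD1_c13 LD2_c30 LD3_c26)) = (LP (LK LD1_c7 LD2_c53 LD3_c5)) :=
  Lgr Lrot24 (Lpr_bt (f96838 IH) (Lpn (LP (LK LD1_c7 LD2_c53 LD3_c5))))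
theorem f512908 : Led Lsl_gf (LP (LK LD1_c22 LD2_c32 LD3_c61)) = (LP (LK LD1_c13 LD2_c30 LD3_c26)) :=
  Lgr Lrot124 (Lpe (f471812 IH) (Lpr_ct (K29.f471797 IH) (Lpr_gt (K29.f460597 IH) (Lpe (K29.f64171 IH) (Lpr_bt (K29.f91103 IH) (Lpr_gt (K29.f15371 IH) (Lpr_ct (f90995 IH) (Lpr_gt (f512904 IH) (Lpe (f96843 IH) (Lpe (f96840 IH) (Lpn (LP (LK LD1_c13 LD2_c30 LD3_c26)))))))))))))
theorem f471470 : Led Lsl_dt (LP (LK LD1_c7 LD2_c48 LD3_c5)) = (LP (LK LD1_c3 LD2_c53 LD3_c13)) :=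
  Lre_d IH (LK LD1_c7 LD2_c48 LD3_c5) (LK LD1_c3 LD2_c53 LD3_c13) Lrfl Lrfl
theorem f471476 : Led Lsl_ff (LP (LK LD1_c7 LD2_c48 LD3_c5)) = (LP (LK LD1_c13 LD2_c30 LD3_c26)) :=
  Lgr Lrot19 (Lpr_dt (f471470 IH) (Lpr_ft (f471466 IH) (Lpr_dt (K28.f96836 IH) (Lpn (LP (LK LD1_c13 LD2_c30 LD3_c26))))))
theorem f471538 : Led Lsl_at (LP (LK LD1_c7 LD2_c48 LD3_c5)) = (LP (LK LD1_c14 LD2_c21 LD3_c52)) :=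
  Lgr Lrot100 (Lpr_af (f471527 IH) (Lpn (LP (LK LD1_c14 LD2_c21 LD3_c52))))
theorem f512910 : Led Lsl_gt (LP (LK LD1_c22 LD2_c32 LD3_c61)) = (LP (LK LD1_c14 LD2_c21 LD3_c52)) :=
  Lgr Lrot46 (Lpr_gf (f512908 IH) (Lpe (f471476 IH) (Lpr_at (f471538 IH) (Lpn (LP (LK LD1_c14 LD2_c21 LD3_c52))))))
theorem f476539 : Led Lsl_at (LP (LK LD1_c13 LD2_c23 LD3_c40)) = (LP (LK LD1_c22 LD2_c41 LD3_c23)) :=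
  Lre_a IH (LK LD1_c13 LD2_c23 LD3_c40) (LK LD1_c22 LD2_c41 LD3_c23) Lrfl Lrfl
theorem f513300 : Led Lsl_gt (LP (LK LD1_c14 LD2_c21 LD3_c52)) = (LP (LK LD1_c22 LD2_c41 LD3_c23)) :=
  Lgr Lrot46 (Lpe (f512910 IH) (Lpr_ft (f513298 IH) (Lpr_at (f476539 IH) (Lpn (LP (LK LD1_c22 LD2_c41 LD3_c23))))))
theorem f129884 : Led Lsl_dt (LP (LK LD1_c7 LD2_c37 LD3_c9)) = (LP (LK LD1_c14 LD2_c21 LD3_c52)) :=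
  Lre_d IH (LK LD1_c7 LD2_c37 LD3_c9) (LK LD1_c14 LD2_c21 LD3_c52) Lrfl Lrfl
theorem f129818 : Led Lsl_bt (LP (LK LD1_c3 LD2_c53 LD3_c22)) = (LP (LK LD1_c1 LD2_c53 LD3_c14)) :=
  Lre_b IH (LK LD1_c3 LD2_c53 LD3_c22) (LK LD1_c1 LD2_c53 LD3_c14) Lrfl Lrfl
theorem f129820 : Led Lsl_ef (LP (LK LD1_c3 LD2_c53 LD3_c22)) = (LP (LK LD1_c3 LD2_c48 LD3_c2)) :=
  Lgr Lrot29 (Lpr_bt (f129818 IH) (Lpr_et (K24.f129789 IH) (Lpr_bt (K29.f129819 IH) (Lpn (LP (LK LD1_c3 LD2_c48 LD3_c2))))))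
theorem f129866 : Led Lsl_et (LP (LK LD1_c3 LD2_c53 LD3_c22)) = (LP (LK LD1_c3 LD2_c48 LD3_c2)) :=
  Lgr Lrot87 (Lpr_ef (f129820 IH) (Lpn (LP (LK LD1_c3 LD2_c48 LD3_c2))))
theorem f129863 : Led Lsl_dt (LP (LK LD1_c3 LD2_c53 LD3_c22)) = (LP (LK LD1_c7 LD2_c48 LD3_c26)) :=
  Lre_d IH (LK LD1_c3 LD2_c53 LD3_c22) (LK LD1_c7 LD2_c48 LD3_c26) Lrfl Lrfl
theorem f89724 : Led Lsl_et (LP (LK LD1_c3 LD2_c33 LD3_c22)) = (LP (LK LD1_c1 LD2_c43 LD3_c25)) :=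
  Lre_e IH (LK LD1_c3 LD2_c33 LD3_c22) (LK LD1_c1 LD2_c43 LD3_c25) Lrfl Lrfl
theorem f17445 : Led Lsl_et (LP (LK LD1_c1 LD2_c45 LD3_c13)) = (LP (LK LD1_c3 LD2_c36 LD3_c47)) :=
  Lre_e IH (LK LD1_c1 LD2_c45 LD3_c13) (LK LD1_c3 LD2_c36 LD3_c47) Lrfl Lrfl
theorem f463802 : Led Lsl_ef (LP (LK LD1_c6 LD2_c58 LD3_c26)) = (LP (LK LD1_c7 LD2_c13 LD3_c48)) :=
  Lgr Lrot21 (Lpr_ft (K28.f463792 IH) (Lpr_et (f89724 IH) (Lpr_ft (K5.f127894 IH) (Lpr_et (f17445 IH) (Lpr_ft (K3.f17365 IH) (Lpn (LP (LK LD1_c7 LD2_c13 LD3_c48))))))))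
theorem f460201 : Led Lsl_bt (LP (LK LD1_c1 LD2_c52 LD3_c60)) = (LP (LK LD1_c3 LD2_c52 LD3_c45)) :=
  Lre_b IH (LK LD1_c1 LD2_c52 LD3_c60) (LK LD1_c3 LD2_c52 LD3_c45) Lrfl Lrfl
theorem f460202 : Led Lsl_ef (LP (LK LD1_c7 LD2_c37 LD3_c50)) = (LP (LK LD1_c3 LD2_c52 LD3_c45)) :=
  Lgr Lrot29 (Lpr_bt (K3.f17356 IH) (Lpr_et (K24.f460195 IH) (Lpr_bt (f460201 IH) (Lpn (LP (LK LD1_c3 LD2_c52 LD3_c45))))))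
theorem f463809 : Led Lsl_ct (LP (LK LD1_c6 LD2_c58 LD3_c26)) = (LP (LK LD1_c3 LD2_c52 LD3_c45)) :=
  Lgr Lrot15 (Lpr_ef (f463802 IH) (Lpr_cf (K28.f17343 IH) (Lpr_ef (f460202 IH) (Lpn (LP (LK LD1_c3 LD2_c52 LD3_c45))))))
theorem f463753 : Led Lsl_bt (LP (LK LD1_c6 LD2_c58 LD3_c26)) = (LP (LK LD1_c3 LD2_c28 LD3_c7)) :=
  Lre_b IH (LK LD1_c6 LD2_c58 LD3_c26) (LK LD1_c3 LD2_c28 LD3_c7) Lrfl Lrfl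
theorem f471275 : Led Lsl_gt (LP (LK LD1_c7 LD2_c7 LD3_c52)) = (LP (LK LD1_c3 LD2_c48 LD3_c2)) :=
  Lgr Lrot149 (Lpe (K29.f96852 IH) (Lpe (K29.f96861 IH) (Lpe (K29.f97359 IH) (Lpr_ct (K29.f471268 IH) (Lpe (K29.f460288 IH) (Lpe (f463809 IH) (Lpr_bt (f463753 IH) (Lpr_gf (K28.f463750 IH) (Lpe (K29.f160516 IH) (Lpe (K29.f461976 IH) (Lpn (LP (LK LD1_c3 LD2_c48 LD3_c2)))))))))))))
theorem f158519 : Led Lsl_dt (LP (LK LD1_c3 LD2_c33 LD3_c29)) = (LP (LK LD1_c6 LD2_c43 LD3_c19)) :=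
  Lgr Lrot79 (Lpr_bf (K3.f96824 IH) (Lpe (K5.f14640 IH) (Lpr_bf (K28.f158514 IH) (Lpn (LP (LK LD1_c6 LD2_c43 LD3_c19))))))
theorem f94483 : Led Lsl_dt (LP (LK LD1_c1 LD2_c50 LD3_c27)) = (LP (LK LD1_c0 LD2_c52 LD3_c7)) :=
  Lre_d IH (LK LD1_c1 LD2_c50 LD3_c27) (LK LD1_c0 LD2_c52 LD3_c7) Lrfl Lrfl
theorem f109561 : Led Lsl_at (LP (LK LD1_c0 LD2_c52 LD3_c7)) = (LP (LK LD1_c1 LD2_c50 LD3_c26)) :=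
  Lre_a IH (LK LD1_c0 LD2_c52 LD3_c7) (LK LD1_c1 LD2_c50 LD3_c26) Lrfl Lrfl
theorem f120250 : Led Lsl_dt (LP (LK LD1_c1 LD2_c50 LD3_c26)) = (LP (LK LD1_c3 LD2_c19 LD3_c46)) :=
  Lgr Lrot44 (Lpe (f109561 IH) (Lpe (f94483 IH) (Lpr_af (K4.f120237 IH) (Lpn (LP (LK LD1_c3 LD2_c19 LD3_c46))))))
theorem f121878 : Led Lsl_dt (LP (LK LD1_c7 LD2_c0 LD3_c50)) = (LP (LK LD1_c13 LD2_c18 LD3_c11)) :=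
  Lre_d IH (LK LD1_c7 LD2_c0 LD3_c50) (LK LD1_c13 LD2_c18 LD3_c11) Lrfl Lrfl
theorem f472082 : Led Lsl_gf (LP (LK LD1_c13 LD2_c18 LD3_c11)) = (LP (LK LD1_c7 LD2_c48 LD3_c26)) :=
  Lgr Lrot145 (Lpe (f121878 IH) (Lpr_et (K28.f121883 IH) (Lpr_gt (K28.f136970 IH) (Lpr_dt (f120250 IH) (Lpr_gt (K28.f103537 IH) (Lpe (f158519 IH) (Lpr_et (K28.f96854 IH) (Lpr_gt (f471275 IH) (Lpe (f129866 IH) (Lpr_dt (f129863 IH) (Lpn (LP (LK LD1_c7 LD2_c48 LD3_c26)))))))))))))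
theorem f94559 : Led Lsl_dt (LP (LK LD1_c3 LD2_c46 LD3_c36)) = (LP (LK LD1_c7 LD2_c34 LD3_c2)) :=
  Lre_d IH (LK LD1_c3 LD2_c46 LD3_c36) (LK LD1_c7 LD2_c34 LD3_c2) Lrfl Lrfl
theorem f121873 : Led Lsl_dt (LP (LK LD1_c13 LD2_c18 LD3_c11)) = (LP (LK LD1_c7 LD2_c0 LD3_c50)) :=
  Lre_d IH (LK LD1_c13 LD2_c18 LD3_c11) (LK LD1_c7 LD2_c0 LD3_c50) Lrfl Lrfl
theorem f121874 : Led Lsl_at (LP (LK LD1_c7 LD2_c34 LD3_c2)) = (LP (LK LD1_c13 LD2_c18 LD3_c11)) :=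
  Lgr Lrot51 (Lpe (f94559 IH) (Lpr_af (K4.f121866 IH) (Lpe (f121873 IH) (Lpn (LP (LK LD1_c13 LD2_c18 LD3_c11))))))
theorem f122081 : Led Lsl_at (LP (LK LD1_c3 LD2_c41 LD3_c3)) = (LP (LK LD1_c7 LD2_c22 LD3_c16)) :=
  Lre_a IH (LK LD1_c3 LD2_c41 LD3_c3) (LK LD1_c7 LD2_c22 LD3_c16) Lrfl Lrfl
theorem f122148 : Led Lsl_ft (LP (LK LD1_c7 LD2_c22 LD3_c22)) = (LP (LK LD1_c3 LD2_c41 LD3_c3)) :=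
  Lre_f IH (LK LD1_c7 LD2_c22 LD3_c22) (LK LD1_c3 LD2_c41 LD3_c3) Lrfl Lrfl
theorem f469678 : Led Lsl_at (LP (LK LD1_c13 LD2_c55 LD3_c61)) = (LP (LK LD1_c7 LD2_c22 LD3_c22)) :=
  Lgr Lrot66 (Lpr_ff (f469674 IH) (Lpe (f122081 IH) (Lpe (f122148 IH) (Lpn (LP (LK LD1_c7 LD2_c22 LD3_c22))))))
theorem f455572 : Led Lsl_ct (LP (LK LD1_c1 LD2_c41 LD3_c46)) = (LP (LK LD1_c0 LD2_c47 LD3_c35)) :=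
  Lre_c IH (LK LD1_c1 LD2_c41 LD3_c46) (LK LD1_c0 LD2_c47 LD3_c35) Lrfl Lrfl
theorem f455590 : Led Lsl_bt (LP (LK LD1_c1 LD2_c41 LD3_c46)) = (LP (LK LD1_c0 LD2_c47 LD3_c26)) :=
  Lre_b IH (LK LD1_c1 LD2_c41 LD3_c46) (LK LD1_c0 LD2_c47 LD3_c26) Lrfl Lrfl
theorem f18975 : Led Lsl_bt (LP (LK LD1_c3 LD2_c30 LD3_c19)) = (LP (LK LD1_c1 LD2_c41 LD3_c50)) :=
  Lre_b IH (LK LD1_c3 LD2_c30 LD3_c19) (LK LD1_c1 LD2_c41 LD3_c50) Lrfl Lrfl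
theorem f18976 : Led Lsl_ct (LP (LK LD1_c3 LD2_c30 LD3_c19)) = (LP (LK LD1_c7 LD2_c2 LD3_c27)) :=
  Lre_c IH (LK LD1_c3 LD2_c30 LD3_c19) (LK LD1_c7 LD2_c2 LD3_c27) Lrfl Lrfl
theorem f466250 : Led Lsl_gf (LP (LK LD1_c7 LD2_c22 LD3_c22)) = (LP (LK LD1_c7 LD2_c2 LD3_c27)) :=
  Lgr Lrot126 (Lpe (K28.f464372 IH) (Lpr_bt (K28.f98772 IH) (Lpr_gt (K28.f466225 IH) (Lpr_ct (K28.f455580 IH) (Lpr_gt (K28.f18071 IH) (Lpe (f455572 IH) (Lpr_bt (f455590 IH) (Lpr_gt (K1.f64929 IH) (Lpe (f18975 IH) (Lpr_ct (f18976 IH) (Lpn (LP (LK LD1_c7 LD2_c2 LD3_c27)))))))))))))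
theorem f469688 : Led Lsl_gf (LP (LK LD1_c7 LD2_c2 LD3_c27)) = (LP (LK LD1_c7 LD2_c22 LD3_c16)) :=
  Lgr Lrot47 (Lpe (f466250 IH) (Lpe (f469678 IH) (Lpr_ff (f469674 IH) (Lpn (LP (LK LD1_c7 LD2_c22 LD3_c16))))))
theorem f458494 : Led Lsl_bt (LP (LK LD1_c1 LD2_c41 LD3_c60)) = (LP (LK LD1_c3 LD2_c30 LD3_c55)) :=
  Lre_b IH (LK LD1_c1 LD2_c41 LD3_c60) (LK LD1_c3 LD2_c30 LD3_c55) Lrfl Lrfl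
theorem f122045 : Led Lsl_ct (LP (LK LD1_c3 LD2_c41 LD3_c3)) = (LP (LK LD1_c7 LD2_c22 LD3_c11)) :=
  Lre_c IH (LK LD1_c3 LD2_c41 LD3_c3) (LK LD1_c7 LD2_c22 LD3_c11) Lrfl Lrfl
theorem f122047 : Led Lsl_cf (LP (LK LD1_c7 LD2_c22 LD3_c16)) = (LP (LK LD1_c13 LD2_c18 LD3_c10)) :=
  Lgr Lrot1 (Lpr_at (K28.f122046 IH) (Lpr_ct (f122045 IH) (Lpr_at (K4.f122041 IH) (Lpn (LP (LK LD1_c13 LD2_c18 LD3_c10))))))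
theorem f469705 : Led Lsl_gt (LP (LK LD1_c3 LD2_c30 LD3_c55)) = (LP (LK LD1_c7 LD2_c0 LD3_c50)) :=
  Lgr Lrot164 (Lpe (f458494 IH) (Lpr_ct (K24.f64651 IH) (Lpe (K1.f18816 IH) (Lpe (K28.f18801 IH) (Lpe (K1.f18826 IH) (Lpe (f18975 IH) (Lpr_ct (f18976 IH) (Lpr_gf (f469688 IH) (Lpr_cf (f122047 IH) (Lpr_bt (K4.f121870 IH) (Lpn (LP (LK LD1_c7 LD2_c0 LD3_c50)))))))))))))
theorem f121868 : Led Lsl_at (LP (LK LD1_c3 LD2_c46 LD3_c36)) = (LP (LK LD1_c7 LD2_c0 LD3_c50)) :=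
  Lgr Lrot100 (Lpr_af (K4.f121866 IH) (Lpn (LP (LK LD1_c7 LD2_c0 LD3_c50))))
theorem f469709 : Led Lsl_ft (LP (LK LD1_c7 LD2_c3 LD3_c47)) = (LP (LK LD1_c3 LD2_c46 LD3_c36)) :=
  Lgr Lrot2 (Lpr_gt (K33.f466489 IH) (Lpr_gt (f469705 IH) (Lpe (f121868 IH) (Lpn (LP (LK LD1_c3 LD2_c46 LD3_c36))))))
theorem f469723 : Led Lsl_ff (LP (LK LD1_c7 LD2_c3 LD3_c47)) = (LP (LK LD1_c3 LD2_c46 LD3_c36)) :=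
  Lgr Lrot3 (Lpr_ft (f469709 IH) (Lpn (LP (LK LD1_c3 LD2_c46 LD3_c36))))
theorem f469725 : Led Lsl_dt (LP (LK LD1_c7 LD2_c3 LD3_c47)) = (LP (LK LD1_c13 LD2_c23 LD3_c23)) :=
  Lre_d IH (LK LD1_c7 LD2_c3 LD3_c47) (LK LD1_c13 LD2_c23 LD3_c23) Lrfl Lrfl
theorem f94552 : Led Lsl_dt (LP (LK LD1_c7 LD2_c34 LD3_c2)) = (LP (LK LD1_c3 LD2_c46 LD3_c36)) :=
  Lre_d IH (LK LD1_c7 LD2_c34 LD3_c2) (LK LD1_c3 LD2_c46 LD3_c36) Lrfl Lrfl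
theorem f469732 : Led Lsl_ft (LP (LK LD1_c13 LD2_c23 LD3_c23)) = (LP (LK LD1_c7 LD2_c34 LD3_c2)) :=
  Lgr Lrot54 (Lpe (f469725 IH) (Lpr_ff (f469723 IH) (Lpe (f94552 IH) (Lpn (LP (LK LD1_c7 LD2_c34 LD3_c2))))))
theorem f472084 : Led Lsl_gt (LP (LK LD1_c13 LD2_c23 LD3_c23)) = (LP (LK LD1_c7 LD2_c48 LD3_c26)) :=
  Lgr Lrot5 (Lpr_ft (f469732 IH) (Lpr_at (f121874 IH) (Lpr_gf (f472082 IH) (Lpn (LP (LK LD1_c7 LD2_c48 LD3_c26))))))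
theorem f97537 : Led Lsl_et (LP (LK LD1_c7 LD2_c0 LD3_c51)) = (LP (LK LD1_c3 LD2_c29 LD3_c38)) :=
  Lre_e IH (LK LD1_c7 LD2_c0 LD3_c51) (LK LD1_c3 LD2_c29 LD3_c38) Lrfl Lrfl
theorem f469734 : Led Lsl_et (LP (LK LD1_c7 LD2_c3 LD3_c47)) = (LP (LK LD1_c13 LD2_c18 LD3_c14)) :=
  Lgr Lrot69 (Lpr_ff (f469723 IH) (Lpe (K2.f94542 IH) (Lpr_ff (K4.f121854 IH) (Lpe (f97537 IH) (Lpe (K28.f97516 IH) (Lpn (LP (LK LD1_c13 LD2_c18 LD3_c14))))))))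
theorem f419650 : Led Lsl_at (LP (LK LD1_c7 LD2_c34 LD3_c1)) = (LP (LK LD1_c13 LD2_c18 LD3_c14)) :=
  Lgr Lrot66 (Lpe (K28.f419455 IH) (Lpr_af (K28.f419632 IH) (Lpe (K28.f97516 IH) (Lpn (LP (LK LD1_c13 LD2_c18 LD3_c14))))))
theorem f419656 : Led Lsl_gt (LP (LK LD1_c3 LD2_c46 LD3_c34)) = (LP (LK LD1_c7 LD2_c33 LD3_c61)) :=
  Lre_g IH (LK LD1_c3 LD2_c46 LD3_c34) (LK LD1_c7 LD2_c33 LD3_c61) Lrfl Lrfl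
theorem f419657 : Led Lsl_gt (LP (LK LD1_c7 LD2_c33 LD3_c61)) = (LP (LK LD1_c13 LD2_c18 LD3_c14)) :=
  Lgr Lrot46 (Lpe (f419656 IH) (Lpr_ft (K28.f419455 IH) (Lpr_at (f419650 IH) (Lpn (LP (LK LD1_c13 LD2_c18 LD3_c14))))))
theorem f513304 : Led Lsl_ef (LP (LK LD1_c7 LD2_c33 LD3_c61)) = (LP (LK LD1_c13 LD2_c23 LD3_c39)) :=
  Lgr Lrot114 (Lpr_gt (f419657 IH) (Lpe (f469734 IH) (Lpr_dt (f469725 IH) (Lpr_gt (f472084 IH) (Lpe (f129863 IH) (Lpr_et (f129866 IH) (Lpr_gt (K29.f129883 IH) (Lpr_dt (f129884 IH) (Lpr_gt (f513300 IH) (Lpe (f476543 IH) (Lpn (LP (LK LD1_c13 LD2_c23 LD3_c39)))))))))))))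
theorem f513312 : Led Lsl_et (LP (LK LD1_c7 LD2_c33 LD3_c61)) = (LP (LK LD1_c13 LD2_c23 LD3_c39)) :=
  Lgr Lrot87 (Lpr_ef (f513304 IH) (Lpn (LP (LK LD1_c13 LD2_c23 LD3_c39))))
theorem f466596 : Led Lsl_bt (LP (LK LD1_c3 LD2_c32 LD3_c21)) = (LP (LK LD1_c7 LD2_c5 LD3_c43)) :=
  Lre_b IH (LK LD1_c3 LD2_c32 LD3_c21) (LK LD1_c7 LD2_c5 LD3_c43) Lrfl Lrfl
theorem f466597 : Led Lsl_ef (LP (LK LD1_c13 LD2_c23 LD3_c22)) = (LP (LK LD1_c7 LD2_c5 LD3_c43)) :=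
  Lgr Lrot29 (Lpr_bt (K33.f466481 IH) (Lpr_et (K28.f466594 IH) (Lpr_bt (f466596 IH) (Lpn (LP (LK LD1_c7 LD2_c5 LD3_c43))))))
theorem f476564 : Led Lsl_at (LP (LK LD1_c13 LD2_c26 LD3_c48)) = (LP (LK LD1_c7 LD2_c5 LD3_c43)) :=
  Lre_a IH (LK LD1_c13 LD2_c26 LD3_c48) (LK LD1_c7 LD2_c5 LD3_c43) Lrfl Lrfl
theorem f488668 : Led Lsl_et (LP (LK LD1_c22 LD2_c41 LD3_c14)) = (LP (LK LD1_c13 LD2_c26 LD3_c48)) :=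
  Lgr Lrot123 (Lpe (K33.f488659 IH) (Lpr_ef (f466597 IH) (Lpe (f476564 IH) (Lpn (LP (LK LD1_c13 LD2_c26 LD3_c48))))))
theorem f513316 : Led Lsl_cf (LP (LK LD1_c7 LD2_c33 LD3_c61)) = (LP (LK LD1_c13 LD2_c26 LD3_c48)) :=
  Lgr Lrot39 (Lpr_et (f513312 IH) (Lpr_ct (K33.f476546 IH) (Lpr_et (f488668 IH) (Lpn (LP (LK LD1_c13 LD2_c26 LD3_c48))))))
theorem f92434 : Led Lsl_gt (LP (LK LD1_c3 LD2_c32 LD3_c38)) = (LP (LK LD1_c7 LD2_c6 LD3_c6)) :=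
  Lre_g IH (LK LD1_c3 LD2_c32 LD3_c38) (LK LD1_c7 LD2_c6 LD3_c6) Lrfl Lrfl
theorem f513340 : Led Lsl_bf (LP (LK LD1_c7 LD2_c6 LD3_c6)) = (LP (LK LD1_c13 LD2_c26 LD3_c48)) :=
  Lgr Lrot34 (Lpe (f92434 IH) (Lpe (K33.f92399 IH) (Lpr_ct (K3.f92413 IH) (Lpe (K24.f92420 IH) (Lpe (K29.f93163 IH) (Lpr_gf (K29.f439437 IH) (Lpe (K4.f18039 IH) (Lpe (K28.f97518 IH) (Lpe (f419657 IH) (Lpr_cf (f513316 IH) (Lpn (LP (LK LD1_c13 LD2_c26 LD3_c48)))))))))))))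
theorem f513344 : Led Lsl_bt (LP (LK LD1_c7 LD2_c6 LD3_c6)) = (LP (LK LD1_c13 LD2_c26 LD3_c48)) :=
  Lgr Lrot127 (Lpr_bf (f513340 IH) (Lpn (LP (LK LD1_c13 LD2_c26 LD3_c48))))
theorem f466515 : Led Lsl_at (LP (LK LD1_c13 LD2_c26 LD3_c53)) = (LP (LK LD1_c7 LD2_c5 LD3_c45)) :=
  Lre_a IH (LK LD1_c13 LD2_c26 LD3_c53) (LK LD1_c7 LD2_c5 LD3_c45) Lrfl Lrfl
theorem f466503 : Led Lsl_gt (LP (LK LD1_c13 LD2_c26 LD3_c52)) = (LP (LK LD1_c7 LD2_c5 LD3_c45)) :=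
  Lre_g IH (LK LD1_c13 LD2_c26 LD3_c52) (LK LD1_c7 LD2_c5 LD3_c45) Lrfl Lrfl
theorem f460102 : Led Lsl_ft (LP (LK LD1_c7 LD2_c0 LD3_c22)) = (LP (LK LD1_c13 LD2_c17 LD3_c8)) :=
  Lgr Lrot75 (Lpe (K28.f109305 IH) (Lpr_ff (K24.f460100 IH) (Lpe (K28.f63023 IH) (Lpn (LP (LK LD1_c13 LD2_c17 LD3_c8))))))
theorem f461001 : Led Lsl_gf (LP (LK LD1_c13 LD2_c6 LD3_c39)) = (LP (LK LD1_c13 LD2_c17 LD3_c30)) :=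
  Lgr Lrot76 (Lpr_af (K28.f460995 IH) (Lpe (f460102 IH) (Lpr_gt (K28.f64826 IH) (Lpn (LP (LK LD1_c13 LD2_c17 LD3_c30))))))
theorem f103785 : Led Lsl_ft (LP (LK LD1_c13 LD2_c6 LD3_c39)) = (LP (LK LD1_c6 LD2_c53 LD3_c58)) :=
  Lre_f IH (LK LD1_c13 LD2_c6 LD3_c39) (LK LD1_c6 LD2_c53 LD3_c58) Lrfl Lrfl
theorem f460960 : Led Lsl_bf (LP (LK LD1_c13 LD2_c6 LD3_c39)) = (LP (LK LD1_c13 LD2_c22 LD3_c45)) :=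
  Lgr Lrot61 (Lpr_ft (f103785 IH) (Lpe (K4.f111483 IH) (Lpr_ft (K28.f460956 IH) (Lpn (LP (LK LD1_c13 LD2_c22 LD3_c45))))))
theorem f466516 : Led Lsl_cf (LP (LK LD1_c13 LD2_c26 LD3_c52)) = (LP (LK LD1_c13 LD2_c22 LD3_c45)) :=
  Lgr Lrot160 (Lpr_gt (f466503 IH) (Lpr_cf (K33.f466509 IH) (Lpr_bt (K33.f18731 IH) (Lpr_gt (K28.f18730 IH) (Lpr_ct (K28.f18714 IH) (Lpr_gt (K2.f18095 IH) (Lpe (K28.f92007 IH) (Lpe (K28.f463952 IH) (Lpe (f461001 IH) (Lpr_bf (f460960 IH) (Lpn (LP (LK LD1_c13 LD2_c22 LD3_c45)))))))))))))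
theorem f466520 : Led Lsl_ct (LP (LK LD1_c13 LD2_c26 LD3_c52)) = (LP (LK LD1_c13 LD2_c22 LD3_c45)) :=
  Lgr Lrot59 (Lpr_cf (f466516 IH) (Lpn (LP (LK LD1_c13 LD2_c22 LD3_c45))))
theorem f460948 : Led Lsl_cf (LP (LK LD1_c7 LD2_c6 LD3_c8)) = (LP (LK LD1_c7 LD2_c3 LD3_c20)) :=
  Lgr Lrot11 (Lpr_ct (K28.f460940 IH) (Lpn (LP (LK LD1_c7 LD2_c3 LD3_c20))))
theorem f466523 : Led Lsl_af (LP (LK LD1_c13 LD2_c26 LD3_c52)) = (LP (LK LD1_c7 LD2_c6 LD3_c8)) :=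
  Lgr Lrot68 (Lpr_ct (f466520 IH) (Lpr_at (K28.f460936 IH) (Lpe (f460948 IH) (Lpn (LP (LK LD1_c7 LD2_c6 LD3_c8))))))
theorem f466533 : Led Lsl_gf (LP (LK LD1_c13 LD2_c26 LD3_c52)) = (LP (LK LD1_c7 LD2_c6 LD3_c6)) :=
  Lgr Lrot76 (Lpr_af (f466523 IH) (Lpe (K28.f92432 IH) (Lpr_gt (f92434 IH) (Lpn (LP (LK LD1_c7 LD2_c6 LD3_c6))))))
theorem f466535 : Led Lsl_ff (LP (LK LD1_c13 LD2_c26 LD3_c53)) = (LP (LK LD1_c7 LD2_c6 LD3_c6)) :=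
  Lgr Lrot52 (Lpr_at (f466515 IH) (Lpe (f466503 IH) (Lpr_gf (f466533 IH) (Lpn (LP (LK LD1_c7 LD2_c6 LD3_c6))))))
theorem f512097 : Led Lsl_af (LP (LK LD1_c7 LD2_c6 LD3_c6)) = (LP (LK LD1_c7 LD2_c12 LD3_c36)) :=
  Lgr Lrot45 (Lpe (f466535 IH) (Lpr_at (f466515 IH) (Lpr_ft (K33.f512095 IH) (Lpn (LP (LK LD1_c7 LD2_c12 LD3_c36))))))
theorem f108464 : Led Lsl_bt (LP (LK LD1_c7 LD2_c5 LD3_c43)) = (LP (LK LD1_c3 LD2_c32 LD3_c21)) :=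
  Lre_b IH (LK LD1_c7 LD2_c5 LD3_c43) (LK LD1_c3 LD2_c32 LD3_c21) Lrfl Lrfl
theorem f513388 : Led Lsl_af (LP (LK LD1_c3 LD2_c36 LD3_c8)) = (LP (LK LD1_c3 LD2_c32 LD3_c21)) :=
  Lgr Lrot36 (Lpr_bt (K33.f466269 IH) (Lpe (f512097 IH) (Lpr_bt (f513344 IH) (Lpr_at (f476564 IH) (Lpr_bt (f108464 IH) (Lpn (LP (LK LD1_c3 LD2_c32 LD3_c21))))))))
theorem f513390 : Led Lsl_at (LP (LK LD1_c7 LD2_c12 LD3_c37)) = (LP (LK LD1_c7 LD2_c5 LD3_c44)) :=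
  Lgr Lrot51 (Lpe (K33.f17952 IH) (Lpr_af (f513388 IH) (Lpe (f98582 IH) (Lpn (LP (LK LD1_c7 LD2_c5 LD3_c44))))))
theorem f441653 : Led Lsl_et (LP (LK LD1_c13 LD2_c38 LD3_c59)) = (LP (LK LD1_c7 LD2_c12 LD3_c37)) :=
  Lre_e IH (LK LD1_c13 LD2_c38 LD3_c59) (LK LD1_c7 LD2_c12 LD3_c37) Lrfl Lrfl
theorem f98583 : Led Lsl_et (LP (LK LD1_c7 LD2_c5 LD3_c44)) = (LP (LK LD1_c13 LD2_c26 LD3_c51)) :=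
  Lre_e IH (LK LD1_c7 LD2_c5 LD3_c44) (LK LD1_c13 LD2_c26 LD3_c51) Lrfl Lrfl
theorem f513398 : Led Lsl_af (LP (LK LD1_c13 LD2_c38 LD3_c59)) = (LP (LK LD1_c13 LD2_c26 LD3_c51)) :=
  Lgr Lrot50 (Lpr_et (f441653 IH) (Lpr_at (f513390 IH) (Lpr_et (f98583 IH) (Lpn (LP (LK LD1_c13 LD2_c26 LD3_c51))))))
theorem f441651 : Led Lsl_et (LP (LK LD1_c7 LD2_c13 LD3_c41)) = (LP (LK LD1_c13 LD2_c40 LD3_c54)) :=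
  Lre_e IH (LK LD1_c7 LD2_c13 LD3_c41) (LK LD1_c13 LD2_c40 LD3_c54) Lrfl Lrfl
theorem f441652 : Led Lsl_et (LP (LK LD1_c3 LD2_c36 LD3_c8)) = (LP (LK LD1_c7 LD2_c12 LD3_c38)) :=
  Lre_e IH (LK LD1_c3 LD2_c36 LD3_c8) (LK LD1_c7 LD2_c12 LD3_c38) Lrfl Lrfl
theorem f108418 : Led Lsl_dt (LP (LK LD1_c7 LD2_c12 LD3_c37)) = (LP (LK LD1_c3 LD2_c36 LD3_c8)) :=
  Lre_d IH (LK LD1_c7 LD2_c12 LD3_c37) (LK LD1_c3 LD2_c36 LD3_c8) Lrfl Lrfl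
theorem f441654 : Led Lsl_dt (LP (LK LD1_c13 LD2_c40 LD3_c54)) = (LP (LK LD1_c13 LD2_c38 LD3_c59)) :=
  Lgr Lrot77 (Lpe (f441651 IH) (Lpr_df (K33.f441643 IH) (Lpe (f441652 IH) (Lpe (f108418 IH) (Lpe (f441653 IH) (Lpn (LP (LK LD1_c13 LD2_c38 LD3_c59))))))))
theorem f441658 : Led Lsl_df (LP (LK LD1_c13 LD2_c40 LD3_c54)) = (LP (LK LD1_c13 LD2_c38 LD3_c59)) :=
  Lgr Lrot38 (Lpr_dt (f441654 IH) (Lpn (LP (LK LD1_c13 LD2_c38 LD3_c59))))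
theorem f466593 : Led Lsl_et (LP (LK LD1_c13 LD2_c26 LD3_c51)) = (LP (LK LD1_c7 LD2_c5 LD3_c44)) :=
  Lre_e IH (LK LD1_c13 LD2_c26 LD3_c51) (LK LD1_c7 LD2_c5 LD3_c44) Lrfl Lrfl
theorem f466610 : Led Lsl_et (LP (LK LD1_c7 LD2_c7 LD3_c45)) = (LP (LK LD1_c13 LD2_c30 LD3_c15)) :=
  Lre_e IH (LK LD1_c7 LD2_c7 LD3_c45) (LK LD1_c13 LD2_c30 LD3_c15) Lrfl Lrfl
theorem f466611 : Led Lsl_df (LP (LK LD1_c13 LD2_c26 LD3_c51)) = (LP (LK LD1_c13 LD2_c30 LD3_c15)) :=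
  Lgr Lrot70 (Lpr_et (f466593 IH) (Lpr_dt (f98582 IH) (Lpe (K28.f466579 IH) (Lpr_dt (K28.f466601 IH) (Lpr_et (f466610 IH) (Lpn (LP (LK LD1_c13 LD2_c30 LD3_c15))))))))
theorem f513404 : Led Lsl_at (LP (LK LD1_c13 LD2_c40 LD3_c54)) = (LP (LK LD1_c13 LD2_c30 LD3_c15)) :=
  Lgr Lrot51 (Lpr_df (f441658 IH) (Lpr_af (f513398 IH) (Lpr_df (f466611 IH) (Lpn (LP (LK LD1_c13 LD2_c30 LD3_c15))))))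
theorem f464960 : Led Lsl_et (LP (LK LD1_c13 LD2_c30 LD3_c15)) = (LP (LK LD1_c7 LD2_c7 LD3_c45)) :=
  Lre_e IH (LK LD1_c13 LD2_c30 LD3_c15) (LK LD1_c7 LD2_c7 LD3_c45) Lrfl Lrfl
theorem f513410 : Led Lsl_af (LP (LK LD1_c7 LD2_c13 LD3_c41)) = (LP (LK LD1_c7 LD2_c7 LD3_c45)) :=
  Lgr Lrot50 (Lpr_et (f441651 IH) (Lpr_at (f513404 IH) (Lpr_et (f464960 IH) (Lpn (LP (LK LD1_c7 LD2_c7 LD3_c45))))))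
theorem f475102 : Led Lsl_ct (LP (LK LD1_c3 LD2_c36 LD3_c40)) = (LP (LK LD1_c1 LD2_c53 LD3_c7)) :=
  Lgr Lrot111 (Lpr_af (K29.f475093 IH) (Lpe (K28.f446564 IH) (Lpe (K29.f451124 IH) (Lpn (LP (LK LD1_c1 LD2_c53 LD3_c7))))))
theorem f108035 : Led Lsl_dt (LP (LK LD1_c3 LD2_c33 LD3_c40)) = (LP (LK LD1_c1 LD2_c43 LD3_c33)) :=
  Lre_d IH (LK LD1_c3 LD2_c33 LD3_c40) (LK LD1_c1 LD2_c43 LD3_c33) Lrfl Lrfl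
theorem f108037 : Led Lsl_ct (LP (LK LD1_c7 LD2_c8 LD3_c13)) = (LP (LK LD1_c3 LD2_c33 LD3_c40)) :=
  Lre_c IH (LK LD1_c7 LD2_c8 LD3_c13) (LK LD1_c3 LD2_c33 LD3_c40) Lrfl Lrfl
theorem f108038 : Led Lsl_gt (LP (LK LD1_c13 LD2_c31 LD3_c4)) = (LP (LK LD1_c7 LD2_c8 LD3_c13)) :=
  Lre_g IH (LK LD1_c13 LD2_c31 LD3_c4) (LK LD1_c7 LD2_c8 LD3_c13) Lrfl Lrfl
theorem f476172 : Led Lsl_ct (LP (LK LD1_c7 LD2_c13 LD3_c41)) = (LP (LK LD1_c13 LD2_c31 LD3_c4)) :=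
  Lgr Lrot152 (Lpe (K33.f463754 IH) (Lpe (K28.f455359 IH) (Lpr_gt (K29.f463771 IH) (Lpr_ct (f475102 IH) (Lpe (K29.f473567 IH) (Lpe (K8.f108025 IH) (Lpe (f108035 IH) (Lpe (f108037 IH) (Lpe (f108038 IH) (Lpn (LP (LK LD1_c13 LD2_c31 LD3_c4))))))))))))
theorem f513414 : Led Lsl_at (LP (LK LD1_c13 LD2_c31 LD3_c4)) = (LP (LK LD1_c13 LD2_c30 LD3_c14)) :=
  Lgr Lrot107 (Lpe (f476172 IH) (Lpr_af (f513410 IH) (Lpe (K33.f464958 IH) (Lpn (LP (LK LD1_c13 LD2_c30 LD3_c14))))))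
theorem f476179 : Led Lsl_cf (LP (LK LD1_c7 LD2_c13 LD3_c41)) = (LP (LK LD1_c13 LD2_c31 LD3_c4)) :=
  Lgr Lrot11 (Lpr_ct (f476172 IH) (Lpn (LP (LK LD1_c13 LD2_c31 LD3_c4))))
theorem f464967 : Led Lsl_ct (LP (LK LD1_c7 LD2_c7 LD3_c44)) = (LP (LK LD1_c13 LD2_c30 LD3_c11)) :=
  Lre_c IH (LK LD1_c7 LD2_c7 LD3_c44) (LK LD1_c13 LD2_c30 LD3_c11) Lrfl Lrfl
theorem f513109 : Led Lsl_ff (LP (LK LD1_c13 LD2_c31 LD3_c4)) = (LP (LK LD1_c13 LD2_c30 LD3_c11)) :=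
  Lgr Lrot23 (Lpe (f476179 IH) (Lpr_ft (K33.f513107 IH) (Lpr_ct (f464967 IH) (Lpn (LP (LK LD1_c13 LD2_c30 LD3_c11))))))
theorem f464968 : Led Lsl_ct (LP (LK LD1_c13 LD2_c30 LD3_c11)) = (LP (LK LD1_c7 LD2_c7 LD3_c44)) :=
  Lre_c IH (LK LD1_c13 LD2_c30 LD3_c11) (LK LD1_c7 LD2_c7 LD3_c44) Lrfl Lrfl
theorem f513118 : Led Lsl_at (LP (LK LD1_c13 LD2_c31 LD3_c3)) = (LP (LK LD1_c13 LD2_c30 LD3_c11)) :=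
  Lgr Lrot107 (Lpe (K33.f479756 IH) (Lpr_af (K33.f513114 IH) (Lpe (f464968 IH) (Lpn (LP (LK LD1_c13 LD2_c30 LD3_c11))))))
theorem f513418 : Led Lsl_ff (LP (LK LD1_c13 LD2_c31 LD3_c3)) = (LP (LK LD1_c13 LD2_c30 LD3_c14)) :=
  Lgr Lrot30 (Lpr_at (f513118 IH) (Lpe (f513109 IH) (Lpr_at (f513414 IH) (Lpn (LP (LK LD1_c13 LD2_c30 LD3_c14))))))
theorem f513422 : Led Lsl_ft (LP (LK LD1_c13 LD2_c31 LD3_c3)) = (LP (LK LD1_c13 LD2_c30 LD3_c14)) :=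
  Lgr Lrot48 (Lpr_ff (f513418 IH) (Lpn (LP (LK LD1_c13 LD2_c30 LD3_c14))))
theorem f511215 : Led Lsl_df (LP (LK LD1_c13 LD2_c31 LD3_c3)) = (LP (LK LD1_c13 LD2_c38 LD3_c37)) :=
  Lgr Lrot162 (Lpe (K33.f479756 IH) (Lpe (K32.f462008 IH) (Lpe (K28.f106220 IH) (Lpe (K32.f440168 IH) (Lpr_dt (K33.f510679 IH) (Lpe (K33.f511152 IH) (Lpr_ct (K33.f477591 IH) (Lpr_gt (K33.f511211 IH) (Lpr_ct (K33.f441639 IH) (Lpn (LP (LK LD1_c13 LD2_c38 LD3_c37))))))))))))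
theorem f488246 : Led Lsl_df (LP (LK LD1_c13 LD2_c27 LD3_c41)) = (LP (LK LD1_c13 LD2_c30 LD3_c14)) :=
  Lgr Lrot38 (Lpr_dt (K33.f488244 IH) (Lpn (LP (LK LD1_c13 LD2_c30 LD3_c14))))
theorem f513426 : Led Lsl_ff (LP (LK LD1_c13 LD2_c38 LD3_c37)) = (LP (LK LD1_c13 LD2_c27 LD3_c41)) :=
  Lgr Lrot19 (Lpe (f511215 IH) (Lpr_ft (f513422 IH) (Lpe (f488246 IH) (Lpn (LP (LK LD1_c13 LD2_c27 LD3_c41))))))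
theorem f451933 : Led Lsl_gf (LP (LK LD1_c3 LD2_c56 LD3_c22)) = (LP (LK LD1_c3 LD2_c56 LD3_c12)) :=
  Lgr Lrot47 (Lpr_gt (K28.f11352 IH) (Lpe (K28.f11383 IH) (Lpr_ff (K28.f451925 IH) (Lpn (LP (LK LD1_c3 LD2_c56 LD3_c12))))))
theorem f455448 : Led Lsl_bt (LP (LK LD1_c3 LD2_c28 LD3_c0)) = (LP (LK LD1_c3 LD2_c28 LD3_c0)) :=
  Lgr Lrot95 (Lpr_df (K24.f446441 IH) (Lpr_bf (K28.f455444 IH) (Lpe (K24.f446461 IH) (Lpn (LP (LK LD1_c3 LD2_c28 LD3_c0))))))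
theorem f487915 : Led Lsl_gt (LP (LK LD1_c6 LD2_c58 LD3_c12)) = (LP (LK LD1_c3 LD2_c37 LD3_c12)) :=
  Lgr Lrot65 (Lpe (K28.f446457 IH) (Lpr_bt (f455448 IH) (Lpe (K28.f455396 IH) (Lpe (K28.f464670 IH) (Lpr_ct (K28.f464626 IH) (Lpr_gf (f451933 IH) (Lpe (K28.f451918 IH) (Lpe (K28.f451970 IH) (Lpr_bf (K33.f487865 IH) (Lpe (K33.f487833 IH) (Lpn (LP (LK LD1_c3 LD2_c37 LD3_c12)))))))))))))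
theorem f489549 : Led Lsl_gf (LP (LK LD1_c6 LD2_c52 LD3_c24)) = (LP (LK LD1_c7 LD2_c14 LD3_c53)) :=
  Lgr Lrot143 (Lpr_dt (K33.f16740 IH) (Lpe (K28.f15791 IH) (Lpe (K24.f446495 IH) (Lpr_gf (K32.f489535 IH) (Lpe (K29.f10817 IH) (Lpr_gf (K29.f477587 IH) (Lpe (K29.f446467 IH) (Lpr_gt (f487915 IH) (Lpr_dt (K33.f10527 IH) (Lpn (LP (LK LD1_c7 LD2_c14 LD3_c53))))))))))))
theorem f470696 : Led Lsl_ct (LP (LK LD1_c13 LD2_c42 LD3_c49)) = (LP (LK LD1_c7 LD2_c14 LD3_c53)) :=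
  Lre_c IH (LK LD1_c13 LD2_c42 LD3_c49) (LK LD1_c7 LD2_c14 LD3_c53) Lrfl Lrfl
theorem f510744 : Led Lsl_gt (LP (LK LD1_c13 LD2_c27 LD3_c41)) = (LP (LK LD1_c13 LD2_c42 LD3_c49)) :=
  Lgr Lrot146 (Lpr_dt (K33.f488244 IH) (Lpe (K33.f468090 IH) (Lpr_ct (K28.f17488 IH) (Lpr_gt (K33.f464217 IH) (Lpe (K33.f464927 IH) (Lpr_dt (K33.f510734 IH) (Lpe (K33.f457463 IH) (Lpr_gf (f489549 IH) (Lpe (f470696 IH) (Lpn (LP (LK LD1_c13 LD2_c42 LD3_c49))))))))))))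
theorem f466468 : Led Lsl_dt (LP (LK LD1_c3 LD2_c30 LD3_c52)) = (LP (LK LD1_c7 LD2_c3 LD3_c40)) :=
  Lre_d IH (LK LD1_c3 LD2_c30 LD3_c52) (LK LD1_c7 LD2_c3 LD3_c40) Lrfl Lrfl
theorem f466470 : Led Lsl_ct (LP (LK LD1_c13 LD2_c23 LD3_c21)) = (LP (LK LD1_c7 LD2_c3 LD3_c40)) :=
  Lre_c IH (LK LD1_c13 LD2_c23 LD3_c21) (LK LD1_c7 LD2_c3 LD3_c40) Lrfl Lrfl
theorem f470692 : Led Lsl_ct (LP (LK LD1_c7 LD2_c14 LD3_c53)) = (LP (LK LD1_c13 LD2_c42 LD3_c49)) :=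
  Lre_c IH (LK LD1_c7 LD2_c14 LD3_c53) (LK LD1_c13 LD2_c42 LD3_c49) Lrfl Lrfl
theorem f470693 : Led Lsl_gf (LP (LK LD1_c13 LD2_c23 LD3_c21)) = (LP (LK LD1_c13 LD2_c42 LD3_c49)) :=
  Lgr Lrot104 (Lpr_ct (f466470 IH) (Lpe (f466468 IH) (Lpe (K28.f18829 IH) (Lpe (K28.f64670 IH) (Lpr_cf (K29.f466558 IH) (Lpe (K29.f470633 IH) (Lpe (K33.f470663 IH) (Lpr_gt (K33.f470688 IH) (Lpr_ct (f470692 IH) (Lpn (LP (LK LD1_c13 LD2_c42 LD3_c49))))))))))))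
theorem f513432 : Led Lsl_at (LP (LK LD1_c13 LD2_c38 LD3_c37)) = (LP (LK LD1_c13 LD2_c23 LD3_c21)) :=
  Lgr Lrot26 (Lpr_ff (f513426 IH) (Lpr_gt (f510744 IH) (Lpe (f470693 IH) (Lpn (LP (LK LD1_c13 LD2_c23 LD3_c21))))))
theorem f513436 : Led Lsl_af (LP (LK LD1_c7 LD2_c12 LD3_c16)) = (LP (LK LD1_c7 LD2_c3 LD3_c40)) :=
  Lgr Lrot68 (Lpr_ct (K33.f441639 IH) (Lpr_at (f513432 IH) (Lpr_ct (f466470 IH) (Lpn (LP (LK LD1_c7 LD2_c3 LD3_c40))))))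
theorem f513446 : Led Lsl_ft (LP (LK LD1_c7 LD2_c12 LD3_c13)) = (LP (LK LD1_c7 LD2_c3 LD3_c40)) :=
  Lgr Lrot2 (Lpr_gt (K29.f97086 IH) (Lpr_gt (K33.f511211 IH) (Lpr_af (f513436 IH) (Lpn (LP (LK LD1_c7 LD2_c3 LD3_c40))))))
theorem f513452 : Led Lsl_ff (LP (LK LD1_c7 LD2_c12 LD3_c13)) = (LP (LK LD1_c7 LD2_c3 LD3_c40)) :=
  Lgr Lrot3 (Lpr_ft (f513446 IH) (Lpn (LP (LK LD1_c7 LD2_c3 LD3_c40))))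
theorem f466478 : Led Lsl_dt (LP (LK LD1_c7 LD2_c3 LD3_c40)) = (LP (LK LD1_c3 LD2_c30 LD3_c52)) :=
  Lre_d IH (LK LD1_c7 LD2_c3 LD3_c40) (LK LD1_c3 LD2_c30 LD3_c52) Lrfl Lrfl
theorem f513457 : Led Lsl_at (LP (LK LD1_c7 LD2_c12 LD3_c13)) = (LP (LK LD1_c7 LD2_c6 LD3_c11)) :=
  Lgr Lrot33 (Lpr_ff (f513452 IH) (Lpr_dt (f466478 IH) (Lpr_ct (K28.f466471 IH) (Lpr_dt (K28.f466472 IH) (Lpr_ct (K28.f458495 IH) (Lpr_dt (K28.f466601 IH) (Lpr_ct (K33.f464957 IH) (Lpe (f488246 IH) (Lpr_ct (K33.f479558 IH) (Lpn (LP (LK LD1_c7 LD2_c6 LD3_c11))))))))))))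
theorem f513442 : Led Lsl_at (LP (LK LD1_c7 LD2_c12 LD3_c16)) = (LP (LK LD1_c7 LD2_c3 LD3_c40)) :=
  Lgr Lrot100 (Lpr_af (f513436 IH) (Lpn (LP (LK LD1_c7 LD2_c3 LD3_c40))))
theorem f513461 : Led Lsl_ff (LP (LK LD1_c7 LD2_c12 LD3_c16)) = (LP (LK LD1_c7 LD2_c6 LD3_c11)) :=
  Lgr Lrot30 (Lpr_at (f513442 IH) (Lpe (f513452 IH) (Lpr_at (f513457 IH) (Lpn (LP (LK LD1_c7 LD2_c6 LD3_c11))))))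
theorem f513463 : Led Lsl_ft (LP (LK LD1_c3 LD2_c35 LD3_c49)) = (LP (LK LD1_c3 LD2_c32 LD3_c40)) :=
  Lgr Lrot54 (Lpe (K33.f441642 IH) (Lpr_ff (f513461 IH) (Lpe (K29.f11614 IH) (Lpn (LP (LK LD1_c3 LD2_c32 LD3_c40))))))
theorem f116186 : Led Lsl_bt (LP (LK LD1_c7 LD2_c12 LD3_c15)) = (LP (LK LD1_c3 LD2_c35 LD3_c49)) :=
  Lre_b IH (LK LD1_c7 LD2_c12 LD3_c15) (LK LD1_c3 LD2_c35 LD3_c49) Lrfl Lrfl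
theorem f488184 : Led Lsl_bt (LP (LK LD1_c3 LD2_c32 LD3_c40)) = (LP (LK LD1_c7 LD2_c6 LD3_c10)) :=
  Lre_b IH (LK LD1_c3 LD2_c32 LD3_c40) (LK LD1_c7 LD2_c6 LD3_c10) Lrfl Lrfl
theorem f513465 : Led Lsl_ff (LP (LK LD1_c7 LD2_c12 LD3_c15)) = (LP (LK LD1_c7 LD2_c6 LD3_c10)) :=
  Lgr Lrot25 (Lpr_bt (f116186 IH) (Lpr_ft (f513463 IH) (Lpr_bt (f488184 IH) (Lpn (LP (LK LD1_c7 LD2_c6 LD3_c10))))))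
theorem f512679 : Led Lsl_ft (LP (LK LD1_c13 LD2_c2 LD3_c55)) = (LP (LK LD1_c6 LD2_c51 LD3_c59)) :=
  Lgr Lrot48 (Lpr_ff (f512672 IH) (Lpn (LP (LK LD1_c6 LD2_c51 LD3_c59))))
theorem f472977 : Led Lsl_bt (LP (LK LD1_c6 LD2_c51 LD3_c59)) = (LP (LK LD1_c13 LD2_c3 LD3_c27)) :=
  Lre_b IH (LK LD1_c6 LD2_c51 LD3_c59) (LK LD1_c13 LD2_c3 LD3_c27) Lrfl Lrfl
theorem f512683 : Led Lsl_ff (LP (LK LD1_c22 LD2_c12 LD3_c38)) = (LP (LK LD1_c13 LD2_c3 LD3_c27)) :=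
  Lgr Lrot25 (Lpr_bt (f479454 IH) (Lpr_ft (f512679 IH) (Lpr_bt (f472977 IH) (Lpn (LP (LK LD1_c13 LD2_c3 LD3_c27))))))
theorem f91094 : Led Lsl_dt (LP (LK LD1_c6 LD2_c51 LD3_c58)) = (LP (LK LD1_c13 LD2_c3 LD3_c27)) :=
  Lre_d IH (LK LD1_c6 LD2_c51 LD3_c58) (LK LD1_c13 LD2_c3 LD3_c27) Lrfl Lrfl
theorem f512692 : Led Lsl_ft (LP (LK LD1_c13 LD2_c2 LD3_c54)) = (LP (LK LD1_c6 LD2_c51 LD3_c58)) :=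
  Lgr Lrot54 (Lpe (f512691 IH) (Lpr_ff (f512683 IH) (Lpe (f91094 IH) (Lpn (LP (LK LD1_c6 LD2_c51 LD3_c58))))))
theorem f513469 : Led Lsl_ct (LP (LK LD1_c7 LD2_c12 LD3_c15)) = (LP (LK LD1_c13 LD2_c2 LD3_c54)) :=
  Lgr Lrot40 (Lpr_ff (f513465 IH) (Lpe (f488204 IH) (Lpe (f512692 IH) (Lpn (LP (LK LD1_c13 LD2_c2 LD3_c54))))))
theorem f513176 : Led Lsl_gt (LP (LK LD1_c13 LD2_c38 LD3_c35)) = (LP (LK LD1_c7 LD2_c12 LD3_c15)) :=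
  Lre_g IH (LK LD1_c13 LD2_c38 LD3_c35) (LK LD1_c7 LD2_c12 LD3_c15) Lrfl Lrfl
theorem f513171 : Led Lsl_bt (LP (LK LD1_c3 LD2_c35 LD3_c49)) = (LP (LK LD1_c7 LD2_c12 LD3_c15)) :=
  Lre_b IH (LK LD1_c3 LD2_c35 LD3_c49) (LK LD1_c7 LD2_c12 LD3_c15) Lrfl Lrfl
theorem f17872 : Led Lsl_bt (LP (LK LD1_c1 LD2_c44 LD3_c57)) = (LP (LK LD1_c3 LD2_c36 LD3_c6)) :=
  Lre_b IH (LK LD1_c1 LD2_c44 LD3_c57) (LK LD1_c3 LD2_c36 LD3_c6) Lrfl Lrfl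
theorem f513172 : Led Lsl_gt (LP (LK LD1_c7 LD2_c12 LD3_c15)) = (LP (LK LD1_c3 LD2_c36 LD3_c6)) :=
  Lgr Lrot164 (Lpe (f513171 IH) (Lpr_ct (K33.f513161 IH) (Lpr_gf (K33.f512014 IH) (Lpr_cf (K4.f18033 IH) (Lpr_gf (K28.f463596 IH) (Lpe (K28.f458531 IH) (Lpr_ct (K28.f18958 IH) (Lpqs (K24.f461789 IH) (Lpe (K24.f456826 IH) (Lpe (K28.f17805 IH) (Lpr_bt (f17872 IH) (Lpn (LP (LK LD1_c3 LD2_c36 LD3_c6))))))))))))))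
theorem f513182 : Led Lsl_ft (LP (LK LD1_c13 LD2_c38 LD3_c35)) = (LP (LK LD1_c7 LD2_c12 LD3_c31)) :=
  Lgr Lrot2 (Lpr_gt (f513176 IH) (Lpr_gt (f513172 IH) (Lpe (f17868 IH) (Lpn (LP (LK LD1_c7 LD2_c12 LD3_c31))))))
theorem f17917 : Led Lsl_et (LP (LK LD1_c3 LD2_c36 LD3_c4)) = (LP (LK LD1_c7 LD2_c12 LD3_c31)) :=
  Lre_e IH (LK LD1_c3 LD2_c36 LD3_c4) (LK LD1_c7 LD2_c12 LD3_c31) Lrfl Lrfl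
theorem f17919 : Led Lsl_ct (LP (LK LD1_c7 LD2_c12 LD3_c31)) = (LP (LK LD1_c13 LD2_c17 LD3_c23)) :=
  Lgr Lrot15 (Lpe (f17917 IH) (Lpr_cf (K7.f17912 IH) (Lpe (K4.f17918 IH) (Lpn (LP (LK LD1_c13 LD2_c17 LD3_c23))))))
theorem f17923 : Led Lsl_ft (LP (LK LD1_c13 LD2_c17 LD3_c23)) = (LP (LK LD1_c22 LD2_c33 LD3_c11)) :=
  Lre_f IH (LK LD1_c13 LD2_c17 LD3_c23) (LK LD1_c22 LD2_c33 LD3_c11) Lrfl Lrfl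
theorem f513197 : Led Lsl_cf (LP (LK LD1_c13 LD2_c38 LD3_c35)) = (LP (LK LD1_c22 LD2_c33 LD3_c11)) :=
  Lgr Lrot108 (Lpr_ft (f513182 IH) (Lpr_ct (f17919 IH) (Lpr_ft (f17923 IH) (Lpn (LP (LK LD1_c22 LD2_c33 LD3_c11))))))
theorem f516151 : Led Lsl_gt (LP (LK LD1_c22 LD2_c33 LD3_c12)) = (LP (LK LD1_c30 LD2_c31 LD3_c29)) :=
  Lgr Lrot9 (Lpe (f17824 IH) (Lpr_gt (K24.f111811 IH) (Lpe (f513197 IH) (Lpr_gt (f513176 IH) (Lpr_ct (f513469 IH) (Lpe (f512691 IH) (Lpe (f479455 IH) (Lpe (f479456 IH) (Lpr_cf (f516144 IH) (Lpn (LP (LK LD1_c30 LD2_c31 LD3_c29))))))))))))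
theorem f516149 : Led Lsl_dt (LP (LK LD1_c22 LD2_c27 LD3_c47)) = (LP (LK LD1_c30 LD2_c31 LD3_c29)) :=
  Lre_d IH (LK LD1_c22 LD2_c27 LD3_c47) (LK LD1_c30 LD2_c31 LD3_c29) Lrfl Lrfl
theorem f516444 : Led Lsl_ef (LP (LK LD1_c13 LD2_c33 LD3_c33)) = (LP (LK LD1_c22 LD2_c27 LD3_c47)) :=
  Lgr Lrot114 (Lpr_gt (f516438 IH) (Lpe (K8.f127436 IH) (Lpr_dt (K8.f127431 IH) (Lpe (K8.f127427 IH) (Lpe (K4.f89317 IH) (Lpr_et (K4.f17946 IH) (Lpr_gt (K24.f17823 IH) (Lpr_dt (f17824 IH) (Lpr_gt (f516151 IH) (Lpe (f516149 IH) (Lpn (LP (LK LD1_c22 LD2_c27 LD3_c47)))))))))))))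
theorem f516453 : Led Lsl_et (LP (LK LD1_c13 LD2_c33 LD3_c33)) = (LP (LK LD1_c22 LD2_c27 LD3_c47)) :=
  Lgr Lrot87 (Lpr_ef (f516444 IH) (Lpn (LP (LK LD1_c22 LD2_c27 LD3_c47))))
theorem f516331 : Led Lsl_dt (LP (LK LD1_c22 LD2_c56 LD3_c22)) = (LP (LK LD1_c13 LD2_c33 LD3_c33)) :=
  Lre_d IH (LK LD1_c22 LD2_c56 LD3_c22) (LK LD1_c13 LD2_c33 LD3_c33) Lrfl Lrfl
theorem f516339 : Led Lsl_et (LP (LK LD1_c30 LD2_c48 LD3_c38)) = (LP (LK LD1_c22 LD2_c56 LD3_c22)) :=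
  Lre_e IH (LK LD1_c30 LD2_c48 LD3_c38) (LK LD1_c22 LD2_c56 LD3_c22) Lrfl Lrfl
theorem f516154 : Led Lsl_et (LP (LK LD1_c30 LD2_c31 LD3_c29)) = (LP (LK LD1_c32 LD2_c53 LD3_c2)) :=
  Lre_e IH (LK LD1_c30 LD2_c31 LD3_c29) (LK LD1_c32 LD2_c53 LD3_c2) Lrfl Lrfl
theorem f516460 : Led Lsl_df (LP (LK LD1_c30 LD2_c48 LD3_c38)) = (LP (LK LD1_c32 LD2_c53 LD3_c2)) :=
  Lgr Lrot70 (Lpr_et (f516339 IH) (Lpr_dt (f516331 IH) (Lpr_et (f516453 IH) (Lpr_dt (f516149 IH) (Lpr_et (f516154 IH) (Lpn (LP (LK LD1_c32 LD2_c53 LD3_c2))))))))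
theorem f516161 : Led Lsl_bt (LP (LK LD1_c30 LD2_c31 LD3_c31)) = (LP (LK LD1_c32 LD2_c53 LD3_c2)) :=
  Lre_b IH (LK LD1_c30 LD2_c31 LD3_c31) (LK LD1_c32 LD2_c53 LD3_c2) Lrfl Lrfl
theorem f484915 : Led Lsl_et (LP (LK LD1_c14 LD2_c24 LD3_c40)) = (LP (LK LD1_c24 LD2_c3 LD3_c44)) :=
  Lre_e IH (LK LD1_c14 LD2_c24 LD3_c40) (LK LD1_c24 LD2_c3 LD3_c44) Lrfl Lrfl
theorem f465427 : Led Lsl_dt (LP (LK LD1_c22 LD2_c27 LD3_c49)) = (LP (LK LD1_c13 LD2_c13 LD3_c25)) :=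
  Lre_d IH (LK LD1_c22 LD2_c27 LD3_c49) (LK LD1_c13 LD2_c13 LD3_c25) Lrfl Lrfl
theorem f516132 : Led Lsl_et (LP (LK LD1_c30 LD2_c31 LD3_c31)) = (LP (LK LD1_c22 LD2_c27 LD3_c49)) :=
  Lre_e IH (LK LD1_c30 LD2_c31 LD3_c31) (LK LD1_c22 LD2_c27 LD3_c49) Lrfl Lrfl
theorem f516133 : Led Lsl_dt (LP (LK LD1_c24 LD2_c3 LD3_c44)) = (LP (LK LD1_c30 LD2_c31 LD3_c31)) :=
  Lgr Lrot77 (Lpe (f484915 IH) (Lpe (K33.f484896 IH) (Lpr_ef (f516126 IH) (Lpe (f465427 IH) (Lpe (f516132 IH) (Lpn (LP (LK LD1_c30 LD2_c31 LD3_c31))))))))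
theorem f516464 : Led Lsl_bt (LP (LK LD1_c30 LD2_c48 LD3_c38)) = (LP (LK LD1_c24 LD2_c3 LD3_c44)) :=
  Lgr Lrot95 (Lpr_df (f516460 IH) (Lpe (f516161 IH) (Lpe (f516133 IH) (Lpn (LP (LK LD1_c24 LD2_c3 LD3_c44))))))
theorem f467180 : Led Lsl_at (LP (LK LD1_c22 LD2_c56 LD3_c26)) = (LP (LK LD1_c30 LD2_c48 LD3_c38)) :=
  Lre_a IH (LK LD1_c22 LD2_c56 LD3_c26) (LK LD1_c30 LD2_c48 LD3_c38) Lrfl Lrfl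
theorem f467149 : Led Lsl_bt (LP (LK LD1_c13 LD2_c33 LD3_c37)) = (LP (LK LD1_c22 LD2_c56 LD3_c26)) :=
  Lre_b IH (LK LD1_c13 LD2_c33 LD3_c37) (LK LD1_c22 LD2_c56 LD3_c26) Lrfl Lrfl
theorem f516182 : Led Lsl_at (LP (LK LD1_c24 LD2_c3 LD3_c44)) = (LP (LK LD1_c14 LD2_c24 LD3_c47)) :=
  Lre_a IH (LK LD1_c24 LD2_c3 LD3_c44) (LK LD1_c14 LD2_c24 LD3_c47) Lrfl Lrfl
theorem f516468 : Led Lsl_bt (LP (LK LD1_c14 LD2_c24 LD3_c47)) = (LP (LK LD1_c7 LD2_c38 LD3_c51)) :=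
  Lre_b IH (LK LD1_c14 LD2_c24 LD3_c47) (LK LD1_c7 LD2_c38 LD3_c51) Lrfl Lrfl
theorem f516469 : Led Lsl_af (LP (LK LD1_c13 LD2_c33 LD3_c37)) = (LP (LK LD1_c7 LD2_c38 LD3_c51)) :=
  Lgr Lrot36 (Lpr_bt (f467149 IH) (Lpr_at (f467180 IH) (Lpr_bt (f516464 IH) (Lpr_at (f516182 IH) (Lpr_bt (f516468 IH) (Lpn (LP (LK LD1_c7 LD2_c38 LD3_c51))))))))
theorem f467133 : Led Lsl_gt (LP (LK LD1_c22 LD2_c56 LD3_c30)) = (LP (LK LD1_c13 LD2_c33 LD3_c37)) :=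
  Lre_g IH (LK LD1_c22 LD2_c56 LD3_c30) (LK LD1_c13 LD2_c33 LD3_c37) Lrfl Lrfl
theorem f516082 : Led Lsl_ft (LP (LK LD1_c14 LD2_c24 LD3_c54)) = (LP (LK LD1_c7 LD2_c38 LD3_c51)) :=
  Lre_f IH (LK LD1_c14 LD2_c24 LD3_c54) (LK LD1_c7 LD2_c38 LD3_c51) Lrfl Lrfl
theorem f516594 : Led Lsl_gf (LP (LK LD1_c22 LD2_c56 LD3_c30)) = (LP (LK LD1_c14 LD2_c24 LD3_c54)) :=
  Lgr Lrot47 (Lpr_gt (f467133 IH) (Lpr_af (f516469 IH) (Lpe (f516082 IH) (Lpn (LP (LK LD1_c14 LD2_c24 LD3_c54))))))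
theorem f512452 : Led Lsl_gf (LP (LK LD1_c7 LD2_c4 LD3_c1)) = (LP (LK LD1_c13 LD2_c23 LD3_c45)) :=
  Lgr Lrot76 (Lpe (K33.f512359 IH) (Lpr_ff (K33.f512363 IH) (Lpr_gt (K33.f129723 IH) (Lpn (LP (LK LD1_c13 LD2_c23 LD3_c45))))))
theorem f111702 : Led Lsl_dt (LP (LK LD1_c3 LD2_c45 LD3_c50)) = (LP (LK LD1_c1 LD2_c50 LD3_c0)) :=
  Lre_d IH (LK LD1_c3 LD2_c45 LD3_c50) (LK LD1_c1 LD2_c50 LD3_c0) Lrfl Lrfl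
theorem f93607 : Led Lsl_gt (LP (LK LD1_c7 LD2_c32 LD3_c21)) = (LP (LK LD1_c14 LD2_c13 LD3_c6)) :=
  Lre_g IH (LK LD1_c7 LD2_c32 LD3_c21) (LK LD1_c14 LD2_c13 LD3_c6) Lrfl Lrfl
theorem f111764 : Led Lsl_et (LP (LK LD1_c23 LD2_c48 LD3_c27)) = (LP (LK LD1_c14 LD2_c13 LD3_c6)) :=
  Lre_e IH (LK LD1_c23 LD2_c48 LD3_c27) (LK LD1_c14 LD2_c13 LD3_c6) Lrfl Lrfl
theorem f129724 : Led Lsl_et (LP (LK LD1_c22 LD2_c41 LD3_c37)) = (LP (LK LD1_c13 LD2_c23 LD3_c45)) :=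
  Lre_e IH (LK LD1_c22 LD2_c41 LD3_c37) (LK LD1_c13 LD2_c23 LD3_c45) Lrfl Lrfl
theorem f512456 : Led Lsl_dt (LP (LK LD1_c23 LD2_c48 LD3_c27)) = (LP (LK LD1_c22 LD2_c56 LD3_c30)) :=
  Lgr Lrot136 (Lpr_et (f111764 IH) (Lpe (f93607 IH) (Lpe (K4.f111681 IH) (Lpr_dt (f111702 IH) (Lpr_gf (K28.f461822 IH) (Lpe (K33.f461826 IH) (Lpr_gf (f512452 IH) (Lpe (f129724 IH) (Lpr_dt (f467145 IH) (Lpe (f467133 IH) (Lpn (LP (LK LD1_c22 LD2_c56 LD3_c30)))))))))))))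
theorem f111728 : Led Lsl_et (LP (LK LD1_c14 LD2_c13 LD3_c14)) = (LP (LK LD1_c7 LD2_c32 LD3_c25)) :=
  Lre_e IH (LK LD1_c14 LD2_c13 LD3_c14) (LK LD1_c7 LD2_c32 LD3_c25) Lrfl Lrfl
theorem f111729 : Led Lsl_af (LP (LK LD1_c14 LD2_c13 LD3_c14)) = (LP (LK LD1_c22 LD2_c33 LD3_c22)) :=
  Lgr Lrot50 (Lpr_et (f111728 IH) (Lpr_at (K4.f111704 IH) (Lpr_et (K28.f89537 IH) (Lpn (LP (LK LD1_c22 LD2_c33 LD3_c22))))))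
theorem f111735 : Led Lsl_ft (LP (LK LD1_c14 LD2_c13 LD3_c14)) = (LP (LK LD1_c23 LD2_c48 LD3_c33)) :=
  Lre_f IH (LK LD1_c14 LD2_c13 LD3_c14) (LK LD1_c23 LD2_c48 LD3_c33) Lrfl Lrfl
theorem f111736 : Led Lsl_at (LP (LK LD1_c23 LD2_c48 LD3_c33)) = (LP (LK LD1_c24 LD2_c2 LD3_c15)) :=
  Lgr Lrot66 (Lpe (f111735 IH) (Lpr_af (f111729 IH) (Lpr_ff (K4.f89521 IH) (Lpn (LP (LK LD1_c24 LD2_c2 LD3_c15))))))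
theorem f111743 : Led Lsl_af (LP (LK LD1_c23 LD2_c48 LD3_c33)) = (LP (LK LD1_c24 LD2_c2 LD3_c15)) :=
  Lgr Lrot0 (Lpr_at (f111736 IH) (Lpn (LP (LK LD1_c24 LD2_c2 LD3_c15))))
theorem f111693 : Led Lsl_et (LP (LK LD1_c23 LD2_c48 LD3_c33)) = (LP (LK LD1_c14 LD2_c13 LD3_c9)) :=
  Lre_e IH (LK LD1_c23 LD2_c48 LD3_c33) (LK LD1_c14 LD2_c13 LD3_c9) Lrfl Lrfl
theorem f111749 : Led Lsl_at (LP (LK LD1_c14 LD2_c13 LD3_c9)) = (LP (LK LD1_c14 LD2_c23 LD3_c42)) :=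
  Lgr Lrot80 (Lpe (f111693 IH) (Lpr_af (f111743 IH) (Lpe (K4.f89520 IH) (Lpn (LP (LK LD1_c14 LD2_c23 LD3_c42))))))
theorem f111758 : Led Lsl_ft (LP (LK LD1_c7 LD2_c32 LD3_c21)) = (LP (LK LD1_c14 LD2_c13 LD3_c9)) :=
  Lre_f IH (LK LD1_c7 LD2_c32 LD3_c21) (LK LD1_c14 LD2_c13 LD3_c9) Lrfl Lrfl
theorem f111759 : Led Lsl_gt (LP (LK LD1_c14 LD2_c13 LD3_c6)) = (LP (LK LD1_c14 LD2_c23 LD3_c42)) :=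
  Lgr Lrot46 (Lpe (f93607 IH) (Lpr_ft (f111758 IH) (Lpr_at (f111749 IH) (Lpn (LP (LK LD1_c14 LD2_c23 LD3_c42))))))
theorem f89539 : Led Lsl_et (LP (LK LD1_c24 LD2_c2 LD3_c15)) = (LP (LK LD1_c14 LD2_c23 LD3_c42)) :=
  Lre_e IH (LK LD1_c24 LD2_c2 LD3_c15) (LK LD1_c14 LD2_c23 LD3_c42) Lrfl Lrfl
theorem f460917 : Led Lsl_ft (LP (LK LD1_c13 LD2_c22 LD3_c48)) = (LP (LK LD1_c22 LD2_c40 LD3_c26)) :=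
  Lre_f IH (LK LD1_c13 LD2_c22 LD3_c48) (LK LD1_c22 LD2_c40 LD3_c26) Lrfl Lrfl
theorem f460918 : Led Lsl_df (LP (LK LD1_c24 LD2_c2 LD3_c15)) = (LP (LK LD1_c22 LD2_c40 LD3_c26)) :=
  Lgr Lrot78 (Lpe (K4.f89521 IH) (Lpr_dt (K28.f460906 IH) (Lpr_ft (f460917 IH) (Lpn (LP (LK LD1_c22 LD2_c40 LD3_c26))))))
theorem f460925 : Led Lsl_dt (LP (LK LD1_c24 LD2_c2 LD3_c15)) = (LP (LK LD1_c22 LD2_c40 LD3_c26)) :=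
  Lgr Lrot42 (Lpr_df (f460918 IH) (Lpn (LP (LK LD1_c22 LD2_c40 LD3_c26))))
theorem f111731 : Led Lsl_at (LP (LK LD1_c14 LD2_c13 LD3_c14)) = (LP (LK LD1_c22 LD2_c33 LD3_c22)) :=
  Lgr Lrot100 (Lpr_af (f111729 IH) (Lpn (LP (LK LD1_c22 LD2_c33 LD3_c22))))
theorem f130718 : Led Lsl_dt (LP (LK LD1_c7 LD2_c32 LD3_c25)) = (LP (LK LD1_c3 LD2_c45 LD3_c51)) :=
  Lre_d IH (LK LD1_c7 LD2_c32 LD3_c25) (LK LD1_c3 LD2_c45 LD3_c51) Lrfl Lrfl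
theorem f63029 : Led Lsl_et (LP (LK LD1_c7 LD2_c47 LD3_c41)) = (LP (LK LD1_c14 LD2_c42 LD3_c35)) :=
  Lre_e IH (LK LD1_c7 LD2_c47 LD3_c41) (LK LD1_c14 LD2_c42 LD3_c35) Lrfl Lrfl
theorem f460112 : Led Lsl_df (LP (LK LD1_c14 LD2_c13 LD3_c14)) = (LP (LK LD1_c14 LD2_c42 LD3_c35)) :=
  Lgr Lrot70 (Lpr_et (f111728 IH) (Lpr_dt (f130718 IH) (Lpr_et (K24.f460106 IH) (Lpr_dt (K24.f63018 IH) (Lpr_et (f63029 IH) (Lpn (LP (LK LD1_c14 LD2_c42 LD3_c35))))))))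
theorem f460908 : Led Lsl_af (LP (LK LD1_c14 LD2_c42 LD3_c35)) = (LP (LK LD1_c13 LD2_c22 LD3_c48)) :=
  Lgr Lrot117 (Lpe (f460112 IH) (Lpr_at (f111731 IH) (Lpr_dt (K28.f460906 IH) (Lpn (LP (LK LD1_c13 LD2_c22 LD3_c48))))))
theorem f63044 : Led Lsl_gt (LP (LK LD1_c24 LD2_c27 LD3_c59)) = (LP (LK LD1_c14 LD2_c42 LD3_c35)) :=
  Lre_g IH (LK LD1_c24 LD2_c27 LD3_c59) (LK LD1_c14 LD2_c42 LD3_c35) Lrfl Lrfl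
theorem f460582 : Led Lsl_ft (LP (LK LD1_c22 LD2_c40 LD3_c26)) = (LP (LK LD1_c13 LD2_c22 LD3_c48)) :=
  Lre_f IH (LK LD1_c22 LD2_c40 LD3_c26) (LK LD1_c13 LD2_c22 LD3_c48) Lrfl Lrfl
theorem f461026 : Led Lsl_gf (LP (LK LD1_c24 LD2_c27 LD3_c59)) = (LP (LK LD1_c22 LD2_c40 LD3_c26)) :=
  Lgr Lrot47 (Lpr_gt (f63044 IH) (Lpr_af (f460908 IH) (Lpe (f460582 IH) (Lpn (LP (LK LD1_c22 LD2_c40 LD3_c26))))))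
theorem f461029 : Led Lsl_dt (LP (LK LD1_c31 LD2_c32 LD3_c33)) = (LP (LK LD1_c24 LD2_c27 LD3_c59)) :=
  Lre_d IH (LK LD1_c31 LD2_c32 LD3_c33) (LK LD1_c24 LD2_c27 LD3_c59) Lrfl Lrfl
theorem f516490 : Led Lsl_dt (LP (LK LD1_c24 LD2_c4 LD3_c9)) = (LP (LK LD1_c14 LD2_c24 LD3_c54)) :=
  Lre_d IH (LK LD1_c24 LD2_c4 LD3_c9) (LK LD1_c14 LD2_c24 LD3_c54) Lrfl Lrfl
theorem f516475 : Led Lsl_ft (LP (LK LD1_c32 LD2_c54 LD3_c41)) = (LP (LK LD1_c30 LD2_c48 LD3_c38)) :=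
  Lre_f IH (LK LD1_c32 LD2_c54 LD3_c41) (LK LD1_c30 LD2_c48 LD3_c38) Lrfl Lrfl
theorem f484916 : Led Lsl_ft (LP (LK LD1_c24 LD2_c3 LD3_c44)) = (LP (LK LD1_c31 LD2_c21 LD3_c13)) :=
  Lre_f IH (LK LD1_c24 LD2_c3 LD3_c44) (LK LD1_c31 LD2_c21 LD3_c13) Lrfl Lrfl
theorem f516476 : Led Lsl_bf (LP (LK LD1_c32 LD2_c54 LD3_c41)) = (LP (LK LD1_c31 LD2_c21 LD3_c13)) :=
  Lgr Lrot61 (Lpr_ft (f516475 IH) (Lpr_bt (f516464 IH) (Lpr_ft (f484916 IH) (Lpn (LP (LK LD1_c31 LD2_c21 LD3_c13))))))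
theorem f516481 : Led Lsl_bt (LP (LK LD1_c32 LD2_c54 LD3_c41)) = (LP (LK LD1_c31 LD2_c21 LD3_c13)) :=
  Lgr Lrot127 (Lpr_bf (f516476 IH) (Lpn (LP (LK LD1_c31 LD2_c21 LD3_c13))))
theorem f467205 : Led Lsl_at (LP (LK LD1_c30 LD2_c48 LD3_c44)) = (LP (LK LD1_c32 LD2_c54 LD3_c41)) :=
  Lre_a IH (LK LD1_c30 LD2_c48 LD3_c44) (LK LD1_c32 LD2_c54 LD3_c41) Lrfl Lrfl
theorem f516166 : Led Lsl_at (LP (LK LD1_c31 LD2_c21 LD3_c13)) = (LP (LK LD1_c24 LD2_c3 LD3_c60)) :=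
  Lre_a IH (LK LD1_c31 LD2_c21 LD3_c13) (LK LD1_c24 LD2_c3 LD3_c60) Lrfl Lrfl
theorem f516486 : Led Lsl_bt (LP (LK LD1_c24 LD2_c3 LD3_c60)) = (LP (LK LD1_c14 LD2_c24 LD3_c54)) :=
  Lre_b IH (LK LD1_c24 LD2_c3 LD3_c60) (LK LD1_c14 LD2_c24 LD3_c54) Lrfl Lrfl
theorem f516487 : Led Lsl_af (LP (LK LD1_c22 LD2_c56 LD3_c31)) = (LP (LK LD1_c14 LD2_c24 LD3_c54)) :=
  Lgr Lrot36 (Lpr_bt (f467171 IH) (Lpr_at (f467205 IH) (Lpr_bt (f516481 IH) (Lpr_at (f516166 IH) (Lpr_bt (f516486 IH) (Lpn (LP (LK LD1_c14 LD2_c24 LD3_c54))))))))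
theorem f516491 : Led Lsl_at (LP (LK LD1_c30 LD2_c39 LD3_c29)) = (LP (LK LD1_c24 LD2_c4 LD3_c9)) :=
  Lgr Lrot51 (Lpr_df (f467157 IH) (Lpr_af (f516487 IH) (Lpe (f516490 IH) (Lpn (LP (LK LD1_c24 LD2_c4 LD3_c9))))))
theorem f467159 : Led Lsl_ft (LP (LK LD1_c22 LD2_c41 LD3_c37)) = (LP (LK LD1_c30 LD2_c39 LD3_c29)) :=
  Lre_f IH (LK LD1_c22 LD2_c41 LD3_c37) (LK LD1_c30 LD2_c39 LD3_c29) Lrfl Lrfl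
theorem f467161 : Led Lsl_gt (LP (LK LD1_c22 LD2_c41 LD3_c37)) = (LP (LK LD1_c30 LD2_c39 LD3_c28)) :=
  Lre_g IH (LK LD1_c22 LD2_c41 LD3_c37) (LK LD1_c30 LD2_c39 LD3_c28) Lrfl Lrfl
theorem f516588 : Led Lsl_gt (LP (LK LD1_c30 LD2_c39 LD3_c28)) = (LP (LK LD1_c24 LD2_c4 LD3_c9)) :=
  Lgr Lrot46 (Lpe (f467161 IH) (Lpr_ft (f467159 IH) (Lpr_at (f516491 IH) (Lpn (LP (LK LD1_c24 LD2_c4 LD3_c9))))))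
theorem f516596 : Led Lsl_et (LP (LK LD1_c31 LD2_c32 LD3_c33)) = (LP (LK LD1_c30 LD2_c39 LD3_c28)) :=
  Lgr Lrot121 (Lpr_dt (f461029 IH) (Lpr_gf (f461026 IH) (Lpe (f460925 IH) (Lpr_et (f89539 IH) (Lpe (f111759 IH) (Lpe (f111764 IH) (Lpr_dt (f512456 IH) (Lpr_gf (f516594 IH) (Lpe (f516490 IH) (Lpe (f516588 IH) (Lpn (LP (LK LD1_c30 LD2_c39 LD3_c28)))))))))))))
theorem f111800 : Led Lsl_et (LP (LK LD1_c7 LD2_c32 LD3_c25)) = (LP (LK LD1_c14 LD2_c13 LD3_c14)) :=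
  Lre_e IH (LK LD1_c7 LD2_c32 LD3_c25) (LK LD1_c14 LD2_c13 LD3_c14) Lrfl Lrfl
theorem f63043 : Led Lsl_et (LP (LK LD1_c14 LD2_c42 LD3_c35)) = (LP (LK LD1_c7 LD2_c47 LD3_c41)) :=
  Lre_e IH (LK LD1_c14 LD2_c42 LD3_c35) (LK LD1_c7 LD2_c47 LD3_c41) Lrfl Lrfl
theorem f460118 : Led Lsl_dt (LP (LK LD1_c14 LD2_c13 LD3_c14)) = (LP (LK LD1_c14 LD2_c42 LD3_c35)) :=
  Lgr Lrot77 (Lpe (f111800 IH) (Lpe (K4.f111725 IH) (Lpr_ef (K24.f460114 IH) (Lpr_df (K24.f63027 IH) (Lpe (f63043 IH) (Lpn (LP (LK LD1_c14 LD2_c42 LD3_c35))))))))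
theorem f472347 : Led Lsl_dt (LP (LK LD1_c7 LD2_c48 LD3_c34)) = (LP (LK LD1_c3 LD2_c53 LD3_c28)) :=
  Lre_d IH (LK LD1_c7 LD2_c48 LD3_c34) (LK LD1_c3 LD2_c53 LD3_c28) Lrfl Lrfl
theorem f467140 : Led Lsl_dt (LP (LK LD1_c13 LD2_c23 LD3_c45)) = (LP (LK LD1_c7 LD2_c9 LD3_c32)) :=
  Lgr Lrot42 (Lpr_df (K33.f467134 IH) (Lpn (LP (LK LD1_c7 LD2_c9 LD3_c32))))
theorem f516600 : Led Lsl_gt (LP (LK LD1_c3 LD2_c53 LD3_c28)) = (LP (LK LD1_c7 LD2_c9 LD3_c32)) :=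
  Lgr Lrot139 (Lpe (f472347 IH) (Lpr_gf (f472340 IH) (Lpe (f111728 IH) (Lpr_dt (f460118 IH) (Lpe (f63044 IH) (Lpe (f461029 IH) (Lpr_et (f516596 IH) (Lpe (f467161 IH) (Lpe (f467142 IH) (Lpr_dt (f467140 IH) (Lpn (LP (LK LD1_c7 LD2_c9 LD3_c32)))))))))))))
theorem f472349 : Led Lsl_ct (LP (LK LD1_c1 LD2_c53 LD3_c19)) = (LP (LK LD1_c3 LD2_c53 LD3_c28)) :=
  Lre_c IH (LK LD1_c1 LD2_c53 LD3_c19) (LK LD1_c3 LD2_c53 LD3_c28) Lrfl Lrfl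
theorem f527146 : Led Lsl_gf (LP (LK LD1_c1 LD2_c53 LD3_c19)) = v2532 :=
  Lgr Lrot181 (Lpr_ct (f472349 IH) (Lpr_gt (f516600 IH) (Lpe (f467139 IH) (Lpr_bt (f467211 IH) (Lpr_gt (f519297 IH) (Lpe (f522670 IH) (Lpe (K24.f455181 IH) (Lpr_gt (K24.f455162 IH) (Lpr_cf (K24.f458760 IH) (Lpr_bt (f527144 IH) (Lpn v2532)))))))))))
theorem f527148 : Led Lsl_bt (LP (LK LD1_c3 LD2_c53 LD3_c25)) = (LP (LK LD1_c1 LD2_c53 LD3_c19)) :=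
  Lre_b IH (LK LD1_c3 LD2_c53 LD3_c25) (LK LD1_c1 LD2_c53 LD3_c19) Lrfl Lrfl
theorem f456052 : Led Lsl_bt (LP (LK LD1_c1 LD2_c44 LD3_c18)) = (LP (LK LD1_c0 LD2_c48 LD3_c43)) :=
  Lre_b IH (LK LD1_c1 LD2_c44 LD3_c18) (LK LD1_c0 LD2_c48 LD3_c43) Lrfl Lrfl
theorem f456058 : Led Lsl_ct (LP (LK LD1_c1 LD2_c44 LD3_c18)) = (LP (LK LD1_c3 LD2_c35 LD3_c2)) :=
  Lre_c IH (LK LD1_c1 LD2_c44 LD3_c18) (LK LD1_c3 LD2_c35 LD3_c2) Lrfl Lrfl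
theorem f456759 : Led Lsl_gt (LP (LK LD1_c7 LD2_c11 LD3_c15)) = (LP (LK LD1_c3 LD2_c35 LD3_c2)) :=
  Lre_g IH (LK LD1_c7 LD2_c11 LD3_c15) (LK LD1_c3 LD2_c35 LD3_c2) Lrfl Lrfl
theorem f527149 : Led Lsl_ct (LP (LK LD1_c3 LD2_c53 LD3_c25)) = (LP (LK LD1_c7 LD2_c11 LD3_c15)) :=
  Lgr Lrot64 (Lpr_bt (f527148 IH) (Lpr_gf (f527146 IH) (Lpe (f527144 IH) (Lpe (K24.f458760 IH) (Lpe (K24.f455162 IH) (Lpr_cf (K24.f455181 IH) (Lpq (K24.f459342 IH) (Lpe (K24.f456757 IH) (Lpe (f456052 IH) (Lpr_ct (f456058 IH) (Lpe (f456759 IH) (Lpn (LP (LK LD1_c7 LD2_c11 LD3_c15))))))))))))))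
theorem f527150 : Led Lsl_ct (LP (LK LD1_c3 LD2_c53 LD3_c25)) = (LP (LK LD1_c7 LD2_c11 LD3_c15)) :=
  Leop (Lpe (f527149 IH) (Lpn (LP (LK LD1_c3 LD2_c53 LD3_c25))))
theorem seed_202 : LEOK LG_c (LK LD1_c3 LD2_c53 LD3_c25) :=
  Leoe_c (LK LD1_c3 LD2_c53 LD3_c25) (f527150 IH)
def v2534 : LQ := Led Lsl_gf (LP (LK LD1_c1 LD2_c47 LD3_c56))
theorem f527201 : Led Lsl_gf (LP (LK LD1_c1 LD2_c47 LD3_c56)) = v2534 :=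
  Lrfl
def v847 : LQ := Led Lsl_dt (LP (LK LD1_c0 LD2_c52 LD3_c16))
theorem f459700 : Led Lsl_dt (LP (LK LD1_c0 LD2_c52 LD3_c16)) = v847 :=
  Lrfl
theorem f467678 : Led Lsl_gf v847 = (LP (LK LD1_c1 LD2_c54 LD3_c25)) :=
  Lgr Lrot145 (Lpe (f459700 IH) (Lpr_et (K33.f87656 IH) (Lpr_gt (K2.f11978 IH) (Lpr_dt (K3.f12053 IH) (Lpr_gt (K3.f95960 IH) (Lpe (K3.f95735 IH) (Lpr_et (K3.f95970 IH) (Lpr_gt (K28.f455530 IH) (Lpq (K28.f467674 IH) (Lpe (K29.f456563 IH) (Lpr_dt (K29.f457177 IH) (Lpn (LP (LK LD1_c1 LD2_c54 LD3_c25))))))))))))))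
theorem f129690 : Led Lsl_et (LP (LK LD1_c0 LD2_c23 LD3_c42)) = (LP (LK LD1_c0 LD2_c10 LD3_c37)) :=
  Lre_e IH (LK LD1_c0 LD2_c23 LD3_c42) (LK LD1_c0 LD2_c10 LD3_c37) Lrfl Lrfl
theorem f527202 : Led Lsl_et (LP (LK LD1_c3 LD2_c29 LD3_c12)) = v2534 :=
  Lgr Lrot121 (Lpr_dt (K29.f62979 IH) (Lpe (K28.f18787 IH) (Lpe (K29.f18780 IH) (Lpr_et (f129690 IH) (Lpe (K2.f11978 IH) (Lpe (K33.f87656 IH) (Lpr_dt (f459700 IH) (Lpr_gf (f467678 IH) (Lpe (K29.f457177 IH) (Lpr_gf (f527201 IH) (Lpn v2534)))))))))))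
theorem f512321 : Led Lsl_ft (LP (LK LD1_c1 LD2_c41 LD3_c61)) = (LP (LK LD1_c3 LD2_c29 LD3_c12)) :=
  Lgr Lrot48 (Lpr_ff (K33.f512314 IH) (Lpn (LP (LK LD1_c3 LD2_c29 LD3_c12))))
theorem f116051 : Led Lsl_gt (LP (LK LD1_c6 LD2_c53 LD3_c43)) = (LP (LK LD1_c3 LD2_c32 LD3_c4)) :=
  Lgr Lrot5 (Lpr_ft (K28.f116047 IH) (Lpr_at (K28.f116038 IH) (Lpe (K28.f90119 IH) (Lpn (LP (LK LD1_c3 LD2_c32 LD3_c4))))))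
theorem f463574 : Led Lsl_bf (LP (LK LD1_c3 LD2_c35 LD3_c61)) = (LP (LK LD1_c3 LD2_c28 LD3_c17)) :=
  Lgr Lrot34 (Lpe (K28.f90097 IH) (Lpr_bf (K28.f131707 IH) (Lpr_ct (K28.f131709 IH) (Lpe (K28.f209147 IH) (Lpr_cf (K28.f463548 IH) (Lpe (f116051 IH) (Lpr_bf (K24.f130709 IH) (Lpe (K24.f130711 IH) (Lpr_gf (K24.f460120 IH) (Lpe (K33.f18871 IH) (Lpn (LP (LK LD1_c3 LD2_c28 LD3_c17)))))))))))))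
theorem f512046 : Led Lsl_ff (LP (LK LD1_c3 LD2_c28 LD3_c17)) = (LP (LK LD1_c1 LD2_c42 LD3_c3)) :=
  Lgr Lrot25 (Lpe (f463574 IH) (Lpr_ft (K33.f512044 IH) (Lpr_bt (K24.f18850 IH) (Lpn (LP (LK LD1_c1 LD2_c42 LD3_c3))))))
theorem f442363 : Led Lsl_et (LP (LK LD1_c3 LD2_c31 LD3_c3)) = (LP (LK LD1_c1 LD2_c42 LD3_c3)) :=
  Lre_e IH (LK LD1_c3 LD2_c31 LD3_c3) (LK LD1_c1 LD2_c42 LD3_c3) Lrfl Lrfl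
theorem f527205 : Led Lsl_ff (LP (LK LD1_c3 LD2_c31 LD3_c3)) = v2534 :=
  Lgr Lrot72 (Lpr_et (f442363 IH) (Lpe (f512046 IH) (Lpr_et (K24.f62763 IH) (Lpr_ft (f512321 IH) (Lpr_et (f527202 IH) (Lpn v2534))))))
def v2533 : LQ := Led Lsl_gt (LP (LK LD1_c1 LD2_c47 LD3_c56))
theorem f527200 : Led Lsl_gt (LP (LK LD1_c1 LD2_c47 LD3_c56)) = v2533 :=
  Lrfl
theorem f527207 : Led Lsl_at (LP (LK LD1_c3 LD2_c31 LD3_c3)) = v2533 :=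
  Lgr Lrot26 (Lpr_ff (f527205 IH) (Lpe (f527201 IH) (Lpr_gt (f527200 IH) (Lpn v2533))))
theorem f512320 : Led Lsl_et (LP (LK LD1_c1 LD2_c42 LD3_c3)) = (LP (LK LD1_c3 LD2_c31 LD3_c3)) :=
  Lre_e IH (LK LD1_c1 LD2_c42 LD3_c3) (LK LD1_c3 LD2_c31 LD3_c3) Lrfl Lrfl
theorem f512357 : Led Lsl_at (LP (LK LD1_c3 LD2_c28 LD3_c18)) = (LP (LK LD1_c1 LD2_c42 LD3_c3)) :=
  Lgr Lrot107 (Lpe (K28.f18552 IH) (Lpr_af (K33.f512353 IH) (Lpe (K28.f18848 IH) (Lpn (LP (LK LD1_c1 LD2_c42 LD3_c3))))))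
theorem f527209 : Led Lsl_ef (LP (LK LD1_c3 LD2_c28 LD3_c18)) = v2533 :=
  Lgr Lrot20 (Lpr_at (f512357 IH) (Lpr_et (f512320 IH) (Lpr_at (f527207 IH) (Lpn v2533))))
theorem f512152 : Led Lsl_ff (LP (LK LD1_c1 LD2_c42 LD3_c2)) = (LP (LK LD1_c3 LD2_c28 LD3_c18)) :=
  Lgr Lrot25 (Lpr_bt (K28.f129678 IH) (Lpr_ft (K33.f512148 IH) (Lpr_bt (K28.f464534 IH) (Lpn (LP (LK LD1_c3 LD2_c28 LD3_c18))))))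
theorem f512594 : Led Lsl_ff (LP (LK LD1_c1 LD2_c41 LD3_c57)) = (LP (LK LD1_c3 LD2_c29 LD3_c16)) :=
  Lgr Lrot23 (Lpr_ct (K29.f87984 IH) (Lpr_ft (K33.f512590 IH) (Lpr_ct (K33.f129683 IH) (Lpn (LP (LK LD1_c3 LD2_c29 LD3_c16))))))
theorem f466922 : Led Lsl_et (LP (LK LD1_c1 LD2_c41 LD3_c57)) = (LP (LK LD1_c3 LD2_c30 LD3_c46)) :=
  Lre_e IH (LK LD1_c1 LD2_c41 LD3_c57) (LK LD1_c3 LD2_c30 LD3_c46) Lrfl Lrfl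
theorem f527211 : Led Lsl_ft (LP (LK LD1_c3 LD2_c30 LD3_c46)) = v2533 :=
  Lgr Lrot86 (Lpe (f466922 IH) (Lpr_ff (f512594 IH) (Lpe (K24.f129687 IH) (Lpr_ff (f512152 IH) (Lpr_ef (f527209 IH) (Lpn v2533))))))
theorem f527208 : Led Lsl_af (LP (LK LD1_c3 LD2_c31 LD3_c3)) = v2533 :=
  Lgr Lrot0 (Lpr_at (f527207 IH) (Lpn v2533))
theorem f527213 : Led Lsl_gt (LP (LK LD1_c1 LD2_c50 LD3_c13)) = (LP (LK LD1_c3 LD2_c31 LD3_c3)) :=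
  Lgr Lrot46 (Lpe (K5.f87961 IH) (Lpr_ft (f527211 IH) (Lpe (f527208 IH) (Lpn (LP (LK LD1_c3 LD2_c31 LD3_c3))))))
theorem f527214 : Led Lsl_gt (LP (LK LD1_c1 LD2_c50 LD3_c13)) = (LP (LK LD1_c3 LD2_c31 LD3_c3)) :=
  Leop (Lpe (f527213 IH) (Lpn (LP (LK LD1_c1 LD2_c50 LD3_c13))))
theorem seed_203 : LEOK LG_g (LK LD1_c1 LD2_c50 LD3_c13) :=
  Leoe_g (LK LD1_c1 LD2_c50 LD3_c13) (f527214 IH)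
def v2543 : LQ := Led Lsl_gf (LP (LK LD1_c1 LD2_c48 LD3_c11))
theorem f527268 : Led Lsl_gf (LP (LK LD1_c1 LD2_c48 LD3_c11)) = v2543 :=
  Lrfl
theorem f102619 : Led Lsl_gt (LP (LK LD1_c6 LD2_c54 LD3_c42)) = (LP (LK LD1_c13 LD2_c7 LD3_c54)) :=
  Lre_g IH (LK LD1_c6 LD2_c54 LD3_c42) (LK LD1_c13 LD2_c7 LD3_c54) Lrfl Lrfl
theorem f471898 : Led Lsl_bt (LP (LK LD1_c3 LD2_c55 LD3_c55)) = (LP (LK LD1_c7 LD2_c53 LD3_c29)) :=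
  Lre_b IH (LK LD1_c3 LD2_c55 LD3_c55) (LK LD1_c7 LD2_c53 LD3_c29) Lrfl Lrfl
theorem f472013 : Led Lsl_ft (LP (LK LD1_c7 LD2_c53 LD3_c29)) = (LP (LK LD1_c6 LD2_c54 LD3_c42)) :=
  Lgr Lrot75 (Lpe (f471898 IH) (Lpr_ff (f471911 IH) (Lpe (K28.f425169 IH) (Lpn (LP (LK LD1_c6 LD2_c54 LD3_c42))))))
theorem f470950 : Led Lsl_bt (LP (LK LD1_c14 LD2_c21 LD3_c51)) = (LP (LK LD1_c7 LD2_c37 LD3_c9)) :=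
  Lre_b IH (LK LD1_c14 LD2_c21 LD3_c51) (LK LD1_c7 LD2_c37 LD3_c9) Lrfl Lrfl
theorem f470965 : Led Lsl_ff (LP (LK LD1_c14 LD2_c21 LD3_c51)) = (LP (LK LD1_c7 LD2_c39 LD3_c24)) :=
  Lgr Lrot25 (Lpr_bt (f470950 IH) (Lpr_ft (K29.f470963 IH) (Lpr_bt (K28.f203782 IH) (Lpn (LP (LK LD1_c7 LD2_c39 LD3_c24))))))
theorem f472040 : Led Lsl_af (LP (LK LD1_c7 LD2_c53 LD3_c29)) = (LP (LK LD1_c14 LD2_c21 LD3_c51)) :=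
  Lgr Lrot45 (Lpr_ft (f472013 IH) (Lpe (K28.f162881 IH) (Lpe (f470965 IH) (Lpn (LP (LK LD1_c14 LD2_c21 LD3_c51))))))
theorem f472046 : Led Lsl_at (LP (LK LD1_c7 LD2_c53 LD3_c29)) = (LP (LK LD1_c14 LD2_c21 LD3_c51)) :=
  Lgr Lrot100 (Lpr_af (f472040 IH) (Lpn (LP (LK LD1_c14 LD2_c21 LD3_c51))))
theorem f457750 : Led Lsl_bt (LP (LK LD1_c7 LD2_c53 LD3_c29)) = (LP (LK LD1_c3 LD2_c55 LD3_c55)) :=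
  Lre_b IH (LK LD1_c7 LD2_c53 LD3_c29) (LK LD1_c3 LD2_c55 LD3_c55) Lrfl Lrfl
theorem f471907 : Led Lsl_ff (LP (LK LD1_c7 LD2_c53 LD3_c29)) = (LP (LK LD1_c6 LD2_c54 LD3_c42)) :=
  Lgr Lrot25 (Lpr_bt (f457750 IH) (Lpr_ft (f471903 IH) (Lpr_bt (K28.f425127 IH) (Lpn (LP (LK LD1_c6 LD2_c54 LD3_c42))))))
theorem f472050 : Led Lsl_gt (LP (LK LD1_c13 LD2_c7 LD3_c54)) = (LP (LK LD1_c14 LD2_c21 LD3_c51)) :=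
  Lgr Lrot46 (Lpe (f102619 IH) (Lpe (f471907 IH) (Lpr_at (f472046 IH) (Lpn (LP (LK LD1_c14 LD2_c21 LD3_c51))))))
theorem f470958 : Led Lsl_bt (LP (LK LD1_c7 LD2_c37 LD3_c9)) = (LP (LK LD1_c14 LD2_c21 LD3_c51)) :=
  Lre_b IH (LK LD1_c7 LD2_c37 LD3_c9) (LK LD1_c14 LD2_c21 LD3_c51) Lrfl Lrfl
theorem f14775 : Led Lsl_at (LP (LK LD1_c1 LD2_c50 LD3_c55)) = (LP (LK LD1_c3 LD2_c47 LD3_c38)) :=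
  Lre_a IH (LK LD1_c1 LD2_c50 LD3_c55) (LK LD1_c3 LD2_c47 LD3_c38) Lrfl Lrfl
theorem f14776 : Led Lsl_at (LP (LK LD1_c3 LD2_c47 LD3_c38)) = (LP (LK LD1_c1 LD2_c50 LD3_c55)) :=
  Lre_a IH (LK LD1_c3 LD2_c47 LD3_c38) (LK LD1_c1 LD2_c50 LD3_c55) Lrfl Lrfl
theorem f14777 : Led Lsl_cf (LP (LK LD1_c1 LD2_c50 LD3_c55)) = (LP (LK LD1_c1 LD2_c50 LD3_c55)) :=
  Lgr Lrot1 (Lpr_at (f14775 IH) (Lpr_ct (K8.f14769 IH) (Lpr_at (f14776 IH) (Lpn (LP (LK LD1_c1 LD2_c50 LD3_c55))))))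
theorem f14831 : Led Lsl_ct (LP (LK LD1_c7 LD2_c36 LD3_c25)) = (LP (LK LD1_c3 LD2_c47 LD3_c43)) :=
  Lre_c IH (LK LD1_c7 LD2_c36 LD3_c25) (LK LD1_c3 LD2_c47 LD3_c43) Lrfl Lrfl
theorem f472052 : Led Lsl_bf (LP (LK LD1_c13 LD2_c7 LD3_c54)) = (LP (LK LD1_c7 LD2_c36 LD3_c25)) :=
  Lgr Lrot156 (Lpr_gt (f472050 IH) (Lpe (f470958 IH) (Lpr_ct (K29.f470948 IH) (Lpr_gt (K29.f425505 IH) (Lpe (K29.f470928 IH) (Lpr_bt (K29.f14970 IH) (Lpr_gt (K29.f14963 IH) (Lpe (f14777 IH) (Lpr_gt (K7.f14960 IH) (Lpe (f14831 IH) (Lpn (LP (LK LD1_c7 LD2_c36 LD3_c25)))))))))))))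
theorem f14835 : Led Lsl_gt (LP (LK LD1_c3 LD2_c50 LD3_c57)) = (LP (LK LD1_c1 LD2_c52 LD3_c25)) :=
  Lre_g IH (LK LD1_c3 LD2_c50 LD3_c57) (LK LD1_c1 LD2_c52 LD3_c25) Lrfl Lrfl
theorem f527269 : Led Lsl_ct (LP (LK LD1_c1 LD2_c52 LD3_c25)) = v2543 :=
  Lgr Lrot91 (Lpe (f14835 IH) (Lpe (K7.f14814 IH) (Lpe (K8.f14791 IH) (Lpe (K7.f14830 IH) (Lpe (f14831 IH) (Lpe (f472052 IH) (Lpe (f102619 IH) (Lpe (K28.f425127 IH) (Lpe (K28.f425206 IH) (Lpr_gf (f527268 IH) (Lpn v2543)))))))))))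
theorem f102602 : Led Lsl_ct (LP (LK LD1_c13 LD2_c7 LD3_c58)) = (LP (LK LD1_c6 LD2_c54 LD3_c43)) :=
  Lre_c IH (LK LD1_c13 LD2_c7 LD3_c58) (LK LD1_c6 LD2_c54 LD3_c43) Lrfl Lrfl
theorem f527273 : Led Lsl_gt (LP (LK LD1_c7 LD2_c43 LD3_c46)) = (LP (LK LD1_c13 LD2_c7 LD3_c58)) :=
  Lgr Lrot150 (Lpe (f457500 IH) (Lpe (f15319 IH) (Lpe (f15287 IH) (Lpr_gt (f14835 IH) (Lpr_ct (f527269 IH) (Lpe (f527268 IH) (Lpr_ct (K28.f425199 IH) (Lpe (f102605 IH) (Lpe (f102602 IH) (Lpn (LP (LK LD1_c13 LD2_c7 LD3_c58))))))))))))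
theorem f527274 : Led Lsl_gt (LP (LK LD1_c7 LD2_c43 LD3_c46)) = (LP (LK LD1_c13 LD2_c7 LD3_c58)) :=
  Leop (Lpe (f527273 IH) (Lpn (LP (LK LD1_c7 LD2_c43 LD3_c46))))
theorem seed_204 : LEOK LG_g (LK LD1_c7 LD2_c43 LD3_c46) :=
  Leoe_g (LK LD1_c7 LD2_c43 LD3_c46) (f527274 IH)
def v2547 : LQ := Led Lsl_dt (LP (LK LD1_c1 LD2_c48 LD3_c21))
theorem f527315 : Led Lsl_dt (LP (LK LD1_c1 LD2_c48 LD3_c21)) = v2547 :=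
  Lrfl
theorem f523698 : Led Lsl_df (LP (LK LD1_c1 LD2_c47 LD3_c4)) = v2511 :=
  Lgr Lrot38 (Lpr_dt (f523696 IH) (Lpn v2511))
theorem f527318 : Led Lsl_ff v2511 = v2547 :=
  Lgr Lrot19 (Lpe (f523698 IH) (Lpe (K30.f471310 IH) (Lpr_dt (f527315 IH) (Lpn v2547))))
theorem f527320 : Led Lsl_ft v2511 = v2547 :=
  Lgr Lrot48 (Lpr_ff (f527318 IH) (Lpn v2547))
def v921 : LQ := Led Lsl_dt (LP (LK LD1_c0 LD2_c54 LD3_c14))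
theorem f490529 : Led Lsl_dt (LP (LK LD1_c0 LD2_c54 LD3_c14)) = v921 :=
  Lrfl
theorem f490531 : Led Lsl_df (LP (LK LD1_c0 LD2_c54 LD3_c14)) = v921 :=
  Lgr Lrot38 (Lpr_dt (f490529 IH) (Lpn v921))
theorem f527316 : Led Lsl_af v921 = v2547 :=
  Lgr Lrot117 (Lpe (f490531 IH) (Lpr_at (K29.f470842 IH) (Lpr_dt (f527315 IH) (Lpn v2547))))
theorem f527322 : Led Lsl_gt v2530 = v921 :=
  Lgr Lrot46 (Lpe (f527033 IH) (Lpr_ft (f527320 IH) (Lpe (f527316 IH) (Lpn v921))))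
theorem f459317 : Led Lsl_ct (LP (LK LD1_c3 LD2_c31 LD3_c25)) = (LP (LK LD1_c7 LD2_c4 LD3_c29)) :=
  Lre_c IH (LK LD1_c3 LD2_c31 LD3_c25) (LK LD1_c7 LD2_c4 LD3_c29) Lrfl Lrfl
theorem f451291 : Led Lsl_dt (LP (LK LD1_c3 LD2_c56 LD3_c36)) = (LP (LK LD1_c1 LD2_c55 LD3_c1)) :=
  Lre_d IH (LK LD1_c3 LD2_c56 LD3_c36) (LK LD1_c1 LD2_c55 LD3_c1) Lrfl Lrfl
theorem f440362 : Led Lsl_et (LP (LK LD1_c3 LD2_c41 LD3_c40)) = (LP (LK LD1_c1 LD2_c47 LD3_c43)) :=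
  Lre_e IH (LK LD1_c3 LD2_c41 LD3_c40) (LK LD1_c1 LD2_c47 LD3_c43) Lrfl Lrfl
theorem f440363 : Led Lsl_dt (LP (LK LD1_c3 LD2_c41 LD3_c40)) = (LP (LK LD1_c7 LD2_c24 LD3_c1)) :=
  Lre_d IH (LK LD1_c3 LD2_c41 LD3_c40) (LK LD1_c7 LD2_c24 LD3_c1) Lrfl Lrfl
theorem f471318 : Led Lsl_dt (LP (LK LD1_c3 LD2_c40 LD3_c16)) = (LP (LK LD1_c7 LD2_c20 LD3_c45)) :=
  Lre_d IH (LK LD1_c3 LD2_c40 LD3_c16) (LK LD1_c7 LD2_c20 LD3_c45) Lrfl Lrfl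
theorem f471566 : Led Lsl_gf (LP (LK LD1_c7 LD2_c24 LD3_c1)) = (LP (LK LD1_c7 LD2_c20 LD3_c45)) :=
  Lgr Lrot134 (Lpe (f440363 IH) (Lpr_et (f440362 IH) (Lpr_gt (K24.f4809 IH) (Lpe (K4.f12875 IH) (Lpr_dt (K4.f12895 IH) (Lpr_gt (K4.f13390 IH) (Lpr_df (K7.f124040 IH) (Lpr_et (K5.f95856 IH) (Lpr_gt (K33.f471334 IH) (Lpr_dt (f471318 IH) (Lpn (LP (LK LD1_c7 LD2_c20 LD3_c45)))))))))))))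
theorem f471319 : Led Lsl_ff (LP (LK LD1_c7 LD2_c26 LD3_c8)) = (LP (LK LD1_c7 LD2_c20 LD3_c45)) :=
  Lgr Lrot19 (Lpr_dt (K33.f203914 IH) (Lpr_ft (K30.f471314 IH) (Lpr_dt (f471318 IH) (Lpn (LP (LK LD1_c7 LD2_c20 LD3_c45))))))
theorem f470857 : Led Lsl_af (LP (LK LD1_c3 LD2_c56 LD3_c36)) = (LP (LK LD1_c7 LD2_c26 LD3_c8)) :=
  Lgr Lrot0 (Lpr_at (K33.f470855 IH) (Lpn (LP (LK LD1_c7 LD2_c26 LD3_c8))))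
theorem f471568 : Led Lsl_gt (LP (LK LD1_c7 LD2_c24 LD3_c1)) = (LP (LK LD1_c3 LD2_c56 LD3_c36)) :=
  Lgr Lrot46 (Lpr_gf (f471566 IH) (Lpe (f471319 IH) (Lpe (f470857 IH) (Lpn (LP (LK LD1_c3 LD2_c56 LD3_c36))))))
theorem f527323 : Led Lsl_gt (LP (LK LD1_c7 LD2_c4 LD3_c29)) = (LP (LK LD1_c3 LD2_c41 LD3_c40)) :=
  Lgr Lrot94 (Lpe (f459317 IH) (Lpe (K29.f491659 IH) (Lpr_dt (f527031 IH) (Lpr_gt (f527322 IH) (Lpe (f490531 IH) (Lpe (K28.f451290 IH) (Lpe (f451291 IH) (Lpe (f471568 IH) (Lpe (f440363 IH) (Lpn (LP (LK LD1_c3 LD2_c41 LD3_c40))))))))))))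
theorem f527324 : Led Lsl_gt (LP (LK LD1_c7 LD2_c4 LD3_c29)) = (LP (LK LD1_c3 LD2_c41 LD3_c40)) :=
  Leop (Lpe (f527323 IH) (Lpn (LP (LK LD1_c7 LD2_c4 LD3_c29))))
theorem seed_205 : LEOK LG_g (LK LD1_c7 LD2_c4 LD3_c29) :=
  Leoe_g (LK LD1_c7 LD2_c4 LD3_c29) (f527324 IH)
def v2529 : LQ := Led Lsl_gt (LP (LK LD1_c1 LD2_c47 LD3_c53))
theorem f527030 : Led Lsl_gt (LP (LK LD1_c1 LD2_c47 LD3_c53)) = v2529 :=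
  Lrfl
def v2549 : LQ := Led Lsl_gf (LP (LK LD1_c1 LD2_c48 LD3_c22))
theorem f527330 : Led Lsl_gf (LP (LK LD1_c1 LD2_c48 LD3_c22)) = v2549 :=
  Lrfl
theorem f121006 : Led Lsl_dt (LP (LK LD1_c0 LD2_c50 LD3_c56)) = (LP (LK LD1_c1 LD2_c48 LD3_c22)) :=
  Lre_d IH (LK LD1_c0 LD2_c50 LD3_c56) (LK LD1_c1 LD2_c48 LD3_c22) Lrfl Lrfl
def v767 : LQ := Led Lsl_gt (LP (LK LD1_c0 LD2_c50 LD3_c29))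
theorem f457144 : Led Lsl_gt (LP (LK LD1_c0 LD2_c50 LD3_c29)) = v767 :=
  Lrfl
theorem f463632 : (LP (LK LD1_c1 LD2_c42 LD3_c16)) = v767 :=
  Lefun (Lecon (K24.f459276 IH) (K28.f463621 IH).symm) (f457144 IH)
theorem f459181 : Led Lsl_et (LP (LK LD1_c3 LD2_c31 LD3_c25)) = (LP (LK LD1_c1 LD2_c42 LD3_c16)) :=
  Lre_e IH (LK LD1_c3 LD2_c31 LD3_c25) (LK LD1_c1 LD2_c42 LD3_c16) Lrfl Lrfl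
theorem f527333 : Led Lsl_dt (LP (LK LD1_c3 LD2_c31 LD3_c25)) = v2549 :=
  Lgr Lrot136 (Lpr_et (f459181 IH) (Lpqs (f463632 IH) (Lpe (f457144 IH) (Lpe (K4.f122340 IH) (Lpr_dt (K5.f128319 IH) (Lpe (K2.f12078 IH) (Lpr_df (K2.f12144 IH) (Lpe (K4.f120987 IH) (Lpe (K28.f121005 IH) (Lpr_dt (f121006 IH) (Lpr_gf (f527330 IH) (Lpn v2549))))))))))))
theorem f527335 : Led Lsl_df (LP (LK LD1_c3 LD2_c31 LD3_c25)) = v2549 :=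
  Lgr Lrot38 (Lpr_dt (f527333 IH) (Lpn v2549))
theorem f455735 : Led Lsl_at (LP (LK LD1_c3 LD2_c31 LD3_c25)) = (LP (LK LD1_c1 LD2_c42 LD3_c19)) :=
  Lre_a IH (LK LD1_c3 LD2_c31 LD3_c25) (LK LD1_c1 LD2_c42 LD3_c19) Lrfl Lrfl
theorem f527336 : Led Lsl_at K29.v1098 = v2549 :=
  Lgr Lrot51 (Lpe (K29.f491437 IH) (Lpe (f455735 IH) (Lpr_df (f527335 IH) (Lpn v2549))))
theorem f491438 : Led Lsl_ft (LP (LK LD1_c1 LD2_c55 LD3_c4)) = K29.v1098 :=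
  Lgr Lrot48 (Lpr_ff (K29.f491436 IH) (Lpn K29.v1098))
theorem f124277 : Led Lsl_dt (LP (LK LD1_c1 LD2_c48 LD3_c22)) = (LP (LK LD1_c0 LD2_c50 LD3_c56)) :=
  Lre_d IH (LK LD1_c1 LD2_c48 LD3_c22) (LK LD1_c0 LD2_c50 LD3_c56) Lrfl Lrfl
theorem f203897 : Led Lsl_af (LP (LK LD1_c1 LD2_c48 LD3_c22)) = (LP (LK LD1_c1 LD2_c47 LD3_c5)) :=
  Lgr Lrot117 (Lpr_dt (f124277 IH) (Lpr_at (K28.f203885 IH) (Lpr_dt (K29.f12375 IH) (Lpn (LP (LK LD1_c1 LD2_c47 LD3_c5))))))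
def v2512 : LQ := Led Lsl_ft (LP (LK LD1_c1 LD2_c47 LD3_c5))
theorem f523701 : Led Lsl_ft (LP (LK LD1_c1 LD2_c47 LD3_c5)) = v2512 :=
  Lrfl
theorem f523703 : Led Lsl_ff (LP (LK LD1_c1 LD2_c47 LD3_c5)) = v2512 :=
  Lgr Lrot3 (Lpr_ft (f523701 IH) (Lpn v2512))
theorem f527331 : Led Lsl_gt v2512 = v2549 :=
  Lgr Lrot5 (Lpe (f523703 IH) (Lpe (f203897 IH) (Lpr_gf (f527330 IH) (Lpn v2549))))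
theorem f527339 : Led Lsl_gt (LP (LK LD1_c1 LD2_c55 LD3_c4)) = v2512 :=
  Lgr Lrot5 (Lpr_ft (f491438 IH) (Lpr_at (f527336 IH) (Lpe (f527331 IH) (Lpn v2512))))
theorem f523702 : Led Lsl_df (LP (LK LD1_c1 LD2_c47 LD3_c6)) = v2512 :=
  Lgr Lrot78 (Lpr_ft (K29.f12389 IH) (Lpr_dt (K29.f12375 IH) (Lpr_ft (f523701 IH) (Lpn v2512))))
theorem f12386 : Led Lsl_dt (LP (LK LD1_c7 LD2_c20 LD3_c43)) = (LP (LK LD1_c3 LD2_c40 LD3_c15)) :=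
  Lre_d IH (LK LD1_c7 LD2_c20 LD3_c43) (LK LD1_c3 LD2_c40 LD3_c15) Lrfl Lrfl
theorem f203840 : Led Lsl_at (LP (LK LD1_c7 LD2_c26 LD3_c6)) = (LP (LK LD1_c7 LD2_c20 LD3_c43)) :=
  Lgr Lrot100 (Lpr_af (K28.f203830 IH) (Lpn (LP (LK LD1_c7 LD2_c20 LD3_c43))))
theorem f203935 : Led Lsl_ft (LP (LK LD1_c3 LD2_c42 LD3_c43)) = (LP (LK LD1_c7 LD2_c26 LD3_c6)) :=
  Lre_f IH (LK LD1_c3 LD2_c42 LD3_c43) (LK LD1_c7 LD2_c26 LD3_c6) Lrfl Lrfl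
theorem f120998 : Led Lsl_gt (LP (LK LD1_c3 LD2_c42 LD3_c43)) = (LP (LK LD1_c7 LD2_c26 LD3_c4)) :=
  Lre_g IH (LK LD1_c3 LD2_c42 LD3_c43) (LK LD1_c7 LD2_c26 LD3_c4) Lrfl Lrfl
theorem f203937 : Led Lsl_gt (LP (LK LD1_c7 LD2_c26 LD3_c4)) = (LP (LK LD1_c7 LD2_c20 LD3_c43)) :=
  Lgr Lrot46 (Lpe (f120998 IH) (Lpr_ft (f203935 IH) (Lpr_at (f203840 IH) (Lpn (LP (LK LD1_c7 LD2_c20 LD3_c43))))))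
theorem f517473 : Led Lsl_af (LP (LK LD1_c1 LD2_c46 LD3_c26)) = (LP (LK LD1_c3 LD2_c38 LD3_c22)) :=
  Lgr Lrot50 (Lpr_et (K30.f483074 IH) (Lpr_at (K33.f517467 IH) (Lpr_et (K33.f488556 IH) (Lpn (LP (LK LD1_c3 LD2_c38 LD3_c22))))))
theorem f517475 : Led Lsl_ft (LP (LK LD1_c1 LD2_c46 LD3_c22)) = (LP (LK LD1_c3 LD2_c38 LD3_c22)) :=
  Lgr Lrot101 (Lpr_af (K33.f517154 IH) (Lpe (K33.f517147 IH) (Lpr_af (f517473 IH) (Lpn (LP (LK LD1_c3 LD2_c38 LD3_c22))))))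
theorem f467092 : Led Lsl_bt (LP (LK LD1_c3 LD2_c38 LD3_c54)) = (LP (LK LD1_c1 LD2_c46 LD3_c22)) :=
  Lre_b IH (LK LD1_c3 LD2_c38 LD3_c54) (LK LD1_c1 LD2_c46 LD3_c22) Lrfl Lrfl
theorem f92502 : Led Lsl_bt (LP (LK LD1_c3 LD2_c38 LD3_c22)) = (LP (LK LD1_c7 LD2_c17 LD3_c3)) :=
  Lre_b IH (LK LD1_c3 LD2_c38 LD3_c22) (LK LD1_c7 LD2_c17 LD3_c3) Lrfl Lrfl
theorem f517477 : Led Lsl_ff (LP (LK LD1_c3 LD2_c38 LD3_c54)) = (LP (LK LD1_c7 LD2_c17 LD3_c3)) :=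
  Lgr Lrot25 (Lpr_bt (f467092 IH) (Lpr_ft (f517475 IH) (Lpr_bt (f92502 IH) (Lpn (LP (LK LD1_c7 LD2_c17 LD3_c3))))))
theorem f517484 : Led Lsl_ft (LP (LK LD1_c3 LD2_c38 LD3_c54)) = (LP (LK LD1_c7 LD2_c17 LD3_c3)) :=
  Lgr Lrot48 (Lpr_ff (f517477 IH) (Lpn (LP (LK LD1_c7 LD2_c17 LD3_c3))))
theorem f456440 : Led Lsl_ct (LP (LK LD1_c7 LD2_c18 LD3_c4)) = (LP (LK LD1_c3 LD2_c38 LD3_c54)) :=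
  Lre_c IH (LK LD1_c7 LD2_c18 LD3_c4) (LK LD1_c3 LD2_c38 LD3_c54) Lrfl Lrfl
theorem f456528 : Led Lsl_bt (LP (LK LD1_c3 LD2_c41 LD3_c40)) = (LP (LK LD1_c7 LD2_c23 LD3_c60)) :=
  Lre_b IH (LK LD1_c3 LD2_c41 LD3_c40) (LK LD1_c7 LD2_c23 LD3_c60) Lrfl Lrfl
theorem f456531 : Led Lsl_bt (LP (LK LD1_c3 LD2_c38 LD3_c23)) = (LP (LK LD1_c7 LD2_c17 LD3_c2)) :=
  Lre_b IH (LK LD1_c3 LD2_c38 LD3_c23) (LK LD1_c7 LD2_c17 LD3_c2) Lrfl Lrfl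
theorem f456533 : Led Lsl_bt (LP (LK LD1_c13 LD2_c47 LD3_c0)) = (LP (LK LD1_c7 LD2_c17 LD3_c5)) :=
  Lre_b IH (LK LD1_c13 LD2_c47 LD3_c0) (LK LD1_c7 LD2_c17 LD3_c5) Lrfl Lrfl
theorem f456534 : Led Lsl_ct (LP (LK LD1_c7 LD2_c23 LD3_c60)) = (LP (LK LD1_c13 LD2_c47 LD3_c0)) :=
  Lgr Lrot83 (Lpe (f456528 IH) (Lpr_cf (K29.f456524 IH) (Lpe (f456531 IH) (Lpe (K33.f456532 IH) (Lpe (f456533 IH) (Lpn (LP (LK LD1_c13 LD2_c47 LD3_c0))))))))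
theorem f456540 : Led Lsl_et (LP (LK LD1_c3 LD2_c41 LD3_c38)) = (LP (LK LD1_c7 LD2_c23 LD3_c60)) :=
  Lre_e IH (LK LD1_c3 LD2_c41 LD3_c38) (LK LD1_c7 LD2_c23 LD3_c60) Lrfl Lrfl
theorem f456541 : Led Lsl_et (LP (LK LD1_c13 LD2_c47 LD3_c0)) = (LP (LK LD1_c7 LD2_c17 LD3_c3)) :=
  Lre_e IH (LK LD1_c13 LD2_c47 LD3_c0) (LK LD1_c7 LD2_c17 LD3_c3) Lrfl Lrfl
theorem f456542 : Led Lsl_cf (LP (LK LD1_c3 LD2_c41 LD3_c38)) = (LP (LK LD1_c7 LD2_c17 LD3_c3)) :=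
  Lgr Lrot39 (Lpr_et (f456540 IH) (Lpr_ct (f456534 IH) (Lpr_et (f456541 IH) (Lpn (LP (LK LD1_c7 LD2_c17 LD3_c3))))))
theorem f517487 : Led Lsl_ff (LP (LK LD1_c7 LD2_c18 LD3_c4)) = (LP (LK LD1_c3 LD2_c41 LD3_c38)) :=
  Lgr Lrot23 (Lpr_ct (f456440 IH) (Lpr_ft (f517484 IH) (Lpe (f456542 IH) (Lpn (LP (LK LD1_c3 LD2_c41 LD3_c38))))))
theorem f456435 : Led Lsl_bt (LP (LK LD1_c7 LD2_c18 LD3_c4)) = (LP (LK LD1_c3 LD2_c38 LD3_c50)) :=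
  Lre_b IH (LK LD1_c7 LD2_c18 LD3_c4) (LK LD1_c3 LD2_c38 LD3_c50) Lrfl Lrfl
theorem f456458 : Led Lsl_bt (LP (LK LD1_c1 LD2_c47 LD3_c43)) = (LP (LK LD1_c3 LD2_c41 LD3_c38)) :=
  Lre_b IH (LK LD1_c1 LD2_c47 LD3_c43) (LK LD1_c3 LD2_c41 LD3_c38) Lrfl Lrfl
theorem f517511 : Led Lsl_ft (LP (LK LD1_c3 LD2_c38 LD3_c50)) = (LP (LK LD1_c1 LD2_c47 LD3_c43)) :=
  Lgr Lrot75 (Lpe (f456435 IH) (Lpr_ff (f517487 IH) (Lpe (f456458 IH) (Lpn (LP (LK LD1_c1 LD2_c47 LD3_c43))))))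
theorem f517517 : Led Lsl_af (LP (LK LD1_c3 LD2_c40 LD3_c40)) = (LP (LK LD1_c1 LD2_c47 LD3_c43)) :=
  Lgr Lrot31 (Lpe (K29.f148259 IH) (Lpr_gf (K29.f456429 IH) (Lpr_ft (f517511 IH) (Lpn (LP (LK LD1_c1 LD2_c47 LD3_c43))))))
theorem f148260 : Led Lsl_dt (LP (LK LD1_c3 LD2_c40 LD3_c40)) = (LP (LK LD1_c7 LD2_c21 LD3_c37)) :=
  Lre_d IH (LK LD1_c3 LD2_c40 LD3_c40) (LK LD1_c7 LD2_c21 LD3_c37) Lrfl Lrfl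
theorem f517523 : Led Lsl_at (LP (LK LD1_c7 LD2_c21 LD3_c37)) = (LP (LK LD1_c3 LD2_c41 LD3_c39)) :=
  Lgr Lrot51 (Lpe (f148260 IH) (Lpr_af (f517517 IH) (Lpe (K29.f4810 IH) (Lpn (LP (LK LD1_c3 LD2_c41 LD3_c39))))))
theorem f517534 : Led Lsl_ff (LP (LK LD1_c7 LD2_c21 LD3_c37)) = (LP (LK LD1_c3 LD2_c41 LD3_c36)) :=
  Lgr Lrot52 (Lpr_at (f517523 IH) (Lpe (K29.f483712 IH) (Lpe (K29.f437015 IH) (Lpn (LP (LK LD1_c3 LD2_c41 LD3_c36))))))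
theorem f517548 : Led Lsl_ft (LP (LK LD1_c7 LD2_c21 LD3_c37)) = (LP (LK LD1_c3 LD2_c41 LD3_c36)) :=
  Lgr Lrot48 (Lpr_ff (f517534 IH) (Lpn (LP (LK LD1_c3 LD2_c41 LD3_c36))))
theorem f4561 : Led Lsl_dt (LP (LK LD1_c7 LD2_c21 LD3_c37)) = (LP (LK LD1_c3 LD2_c40 LD3_c40)) :=
  Lre_d IH (LK LD1_c7 LD2_c21 LD3_c37) (LK LD1_c3 LD2_c40 LD3_c40) Lrfl Lrfl
theorem f517561 : Led Lsl_af (LP (LK LD1_c7 LD2_c18 LD3_c5)) = (LP (LK LD1_c3 LD2_c41 LD3_c36)) :=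
  Lgr Lrot109 (Lpe (K33.f456443 IH) (Lpr_df (K33.f515272 IH) (Lpe (K33.f4588 IH) (Lpe (K33.f148163 IH) (Lpe (K33.f515061 IH) (Lpe (K33.f515280 IH) (Lpr_cf (K33.f483459 IH) (Lpe (f4561 IH) (Lpr_ft (f517548 IH) (Lpn (LP (LK LD1_c3 LD2_c41 LD3_c36))))))))))))
theorem f517525 : Led Lsl_af (LP (LK LD1_c7 LD2_c21 LD3_c37)) = (LP (LK LD1_c3 LD2_c41 LD3_c39)) :=
  Lgr Lrot0 (Lpr_at (f517523 IH) (Lpn (LP (LK LD1_c3 LD2_c41 LD3_c39))))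
theorem f517567 : Led Lsl_ft (LP (LK LD1_c7 LD2_c18 LD3_c5)) = (LP (LK LD1_c3 LD2_c41 LD3_c39)) :=
  Lgr Lrot101 (Lpr_af (f517561 IH) (Lpe (f517548 IH) (Lpr_af (f517525 IH) (Lpn (LP (LK LD1_c3 LD2_c41 LD3_c39))))))
theorem f517572 : Led Lsl_gt (LP (LK LD1_c3 LD2_c56 LD3_c43)) = (LP (LK LD1_c7 LD2_c21 LD3_c37)) :=
  Lgr Lrot46 (Lpe (f463697 IH) (Lpr_ft (f517567 IH) (Lpe (f517525 IH) (Lpn (LP (LK LD1_c7 LD2_c21 LD3_c37))))))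
theorem f462987 : Led Lsl_ct (LP (LK LD1_c7 LD2_c55 LD3_c12)) = (LP (LK LD1_c3 LD2_c56 LD3_c43)) :=
  Lre_c IH (LK LD1_c7 LD2_c55 LD3_c12) (LK LD1_c3 LD2_c56 LD3_c43) Lrfl Lrfl
theorem f511501 : Led Lsl_ef (LP (LK LD1_c3 LD2_c42 LD3_c23)) = (LP (LK LD1_c7 LD2_c24 LD3_c26)) :=
  Lgr Lrot88 (Lpr_et (K33.f511495 IH) (Lpn (LP (LK LD1_c7 LD2_c24 LD3_c26))))
theorem f483518 : Led Lsl_at (LP (LK LD1_c3 LD2_c41 LD3_c47)) = (LP (LK LD1_c7 LD2_c21 LD3_c42)) :=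
  Lgr Lrot100 (Lpr_af (K29.f483516 IH) (Lpn (LP (LK LD1_c7 LD2_c21 LD3_c42))))
theorem f483995 : Led Lsl_gf (LP (LK LD1_c3 LD2_c40 LD3_c43)) = (LP (LK LD1_c3 LD2_c43 LD3_c31)) :=
  Lgr Lrot47 (Lpr_gt (K29.f4533 IH) (Lpe (f483518 IH) (Lpr_ff (K33.f483534 IH) (Lpn (LP (LK LD1_c3 LD2_c43 LD3_c31))))))
theorem f483997 : Led Lsl_dt (LP (LK LD1_c3 LD2_c40 LD3_c43)) = (LP (LK LD1_c7 LD2_c21 LD3_c44)) :=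
  Lre_d IH (LK LD1_c3 LD2_c40 LD3_c43) (LK LD1_c7 LD2_c21 LD3_c44) Lrfl Lrfl
theorem f483998 : Led Lsl_gt (LP (LK LD1_c7 LD2_c21 LD3_c44)) = (LP (LK LD1_c13 LD2_c55 LD3_c10)) :=
  Lre_g IH (LK LD1_c7 LD2_c21 LD3_c44) (LK LD1_c13 LD2_c55 LD3_c10) Lrfl Lrfl
theorem f511514 : Led Lsl_df (LP (LK LD1_c13 LD2_c55 LD3_c10)) = (LP (LK LD1_c7 LD2_c24 LD3_c26)) :=
  Lgr Lrot132 (Lpe (f483998 IH) (Lpe (f483997 IH) (Lpr_gf (f483995 IH) (Lpe (K4.f12776 IH) (Lpe (K7.f144661 IH) (Lpe (K6.f124066 IH) (Lpe (K6.f124065 IH) (Lpr_et (K28.f159377 IH) (Lpe (K33.f26211 IH) (Lpr_ef (f511501 IH) (Lpn (LP (LK LD1_c7 LD2_c24 LD3_c26)))))))))))))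
theorem f511518 : Led Lsl_dt (LP (LK LD1_c13 LD2_c55 LD3_c10)) = (LP (LK LD1_c7 LD2_c24 LD3_c26)) :=
  Lgr Lrot42 (Lpr_df (f511514 IH) (Lpn (LP (LK LD1_c7 LD2_c24 LD3_c26))))
theorem f483999 : Led Lsl_ct (LP (LK LD1_c7 LD2_c21 LD3_c44)) = (LP (LK LD1_c13 LD2_c55 LD3_c11)) :=
  Lre_c IH (LK LD1_c7 LD2_c21 LD3_c44) (LK LD1_c13 LD2_c55 LD3_c11) Lrfl Lrfl
theorem f511537 : Led Lsl_gt (LP (LK LD1_c13 LD2_c55 LD3_c11)) = (LP (LK LD1_c7 LD2_c55 LD3_c12)) :=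
  Lgr Lrot94 (Lpe (f483999 IH) (Lpr_gt (f483998 IH) (Lpr_dt (f511518 IH) (Lpr_gt (K33.f468083 IH) (Lpr_dt (K29.f457172 IH) (Lpr_cf (K33.f483665 IH) (Lpe (K29.f483695 IH) (Lpe (K29.f483704 IH) (Lpr_df (K29.f490435 IH) (Lpn (LP (LK LD1_c7 LD2_c55 LD3_c12))))))))))))
theorem f4837 : Led Lsl_ct (LP (LK LD1_c3 LD2_c40 LD3_c44)) = (LP (LK LD1_c1 LD2_c47 LD3_c19)) :=
  Lre_c IH (LK LD1_c3 LD2_c40 LD3_c44) (LK LD1_c1 LD2_c47 LD3_c19) Lrfl Lrfl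
theorem f4571 : Led Lsl_gt (LP (LK LD1_c13 LD2_c55 LD3_c5)) = (LP (LK LD1_c7 LD2_c21 LD3_c40)) :=
  Lre_g IH (LK LD1_c13 LD2_c55 LD3_c5) (LK LD1_c7 LD2_c21 LD3_c40) Lrfl Lrfl
theorem f148244 : Led Lsl_dt (LP (LK LD1_c7 LD2_c50 LD3_c51)) = (LP (LK LD1_c3 LD2_c54 LD3_c33)) :=
  Lre_d IH (LK LD1_c7 LD2_c50 LD3_c51) (LK LD1_c3 LD2_c54 LD3_c33) Lrfl Lrfl
theorem f4532 : Led Lsl_ct (LP (LK LD1_c3 LD2_c40 LD3_c43)) = (LP (LK LD1_c1 LD2_c47 LD3_c18)) :=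
  Lre_c IH (LK LD1_c3 LD2_c40 LD3_c43) (LK LD1_c1 LD2_c47 LD3_c18) Lrfl Lrfl
theorem f4534 : Led Lsl_dt (LP (LK LD1_c7 LD2_c21 LD3_c42)) = (LP (LK LD1_c13 LD2_c55 LD3_c8)) :=
  Lre_d IH (LK LD1_c7 LD2_c21 LD3_c42) (LK LD1_c13 LD2_c55 LD3_c8) Lrfl Lrfl
theorem f148257 : Led Lsl_gf (LP (LK LD1_c7 LD2_c50 LD3_c51)) = (LP (LK LD1_c13 LD2_c55 LD3_c8)) :=
  Lgr Lrot143 (Lpr_dt (f148244 IH) (Lpe (K30.f148253 IH) (Lpr_df (K29.f148247 IH) (Lpe (K29.f4531 IH) (Lpr_df (K29.f4501 IH) (Lpe (f4530 IH) (Lpe (f4532 IH) (Lpr_gt (K29.f4533 IH) (Lpr_dt (f4534 IH) (Lpn (LP (LK LD1_c13 LD2_c55 LD3_c8))))))))))))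
theorem f483474 : Led Lsl_cf (LP (LK LD1_c13 LD2_c55 LD3_c5)) = (LP (LK LD1_c7 LD2_c50 LD3_c51)) :=
  Lgr Lrot169 (Lpr_gt (f4571 IH) (Lpr_ct (K29.f4523 IH) (Lpe (K29.f4517 IH) (Lpe (K29.f4545 IH) (Lpe (K29.f4835 IH) (Lpe (f4837 IH) (Lpr_gf (K29.f483470 IH) (Lpe (K33.f148263 IH) (Lpe (f148257 IH) (Lpn (LP (LK LD1_c7 LD2_c50 LD3_c51))))))))))))
theorem f4562 : Led Lsl_gt (LP (LK LD1_c7 LD2_c24 LD3_c12)) = (LP (LK LD1_c13 LD2_c55 LD3_c5)) :=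
  Lre_g IH (LK LD1_c7 LD2_c24 LD3_c12) (LK LD1_c13 LD2_c55 LD3_c5) Lrfl Lrfl
theorem f484000 : Led Lsl_ct (LP (LK LD1_c13 LD2_c55 LD3_c11)) = (LP (LK LD1_c7 LD2_c21 LD3_c44)) :=
  Lre_c IH (LK LD1_c13 LD2_c55 LD3_c11) (LK LD1_c7 LD2_c21 LD3_c44) Lrfl Lrfl
theorem f485166 : Led Lsl_dt (LP (LK LD1_c13 LD2_c55 LD3_c5)) = (LP (LK LD1_c13 LD2_c55 LD3_c11)) :=
  Lgr Lrot105 (Lpe (f4562 IH) (Lpe (K29.f4519 IH) (Lpe (f4571 IH) (Lpr_cf (f483474 IH) (Lpr_gt (K33.f485164 IH) (Lpr_dt (K33.f12790 IH) (Lpe (f483995 IH) (Lpr_dt (f483997 IH) (Lpe (f484000 IH) (Lpn (LP (LK LD1_c13 LD2_c55 LD3_c11))))))))))))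
theorem f456445 : Led Lsl_ct (LP (LK LD1_c7 LD2_c21 LD3_c38)) = (LP (LK LD1_c13 LD2_c54 LD3_c61)) :=
  Lre_c IH (LK LD1_c7 LD2_c21 LD3_c38) (LK LD1_c13 LD2_c54 LD3_c61) Lrfl Lrfl
theorem f459504 : Led Lsl_ct (LP (LK LD1_c7 LD2_c21 LD3_c37)) = (LP (LK LD1_c13 LD2_c54 LD3_c58)) :=
  Lre_c IH (LK LD1_c7 LD2_c21 LD3_c37) (LK LD1_c13 LD2_c54 LD3_c58) Lrfl Lrfl
theorem f517576 : Led Lsl_df (LP (LK LD1_c13 LD2_c54 LD3_c61)) = (LP (LK LD1_c13 LD2_c54 LD3_c58)) :=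
  Lgr Lrot162 (Lpe (f456445 IH) (Lpe (K33.f436967 IH) (Lpe (K29.f4523 IH) (Lpe (f4571 IH) (Lpr_dt (f485166 IH) (Lpr_gt (f511537 IH) (Lpr_ct (f462987 IH) (Lpr_gt (f517572 IH) (Lpr_ct (f459504 IH) (Lpn (LP (LK LD1_c13 LD2_c54 LD3_c58))))))))))))
theorem f484004 : Led Lsl_gf (LP (LK LD1_c14 LD2_c0 LD3_c27)) = (LP (LK LD1_c13 LD2_c54 LD3_c61)) :=
  Lgr Lrot104 (Lpr_ct (K33.f4863 IH) (Lpe (K29.f4847 IH) (Lpr_cf (K29.f483530 IH) (Lpe (K29.f456433 IH) (Lpe (K33.f4423 IH) (Lpe (K33.f456431 IH) (Lpe (K29.f4526 IH) (Lpr_gt (K33.f436967 IH) (Lpr_ct (f456445 IH) (Lpn (LP (LK LD1_c13 LD2_c54 LD3_c61))))))))))))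
theorem f483556 : Led Lsl_dt (LP (LK LD1_c1 LD2_c47 LD3_c47)) = (LP (LK LD1_c3 LD2_c41 LD3_c49)) :=
  Lre_d IH (LK LD1_c1 LD2_c47 LD3_c47) (LK LD1_c3 LD2_c41 LD3_c49) Lrfl Lrfl
theorem f484674 : Led Lsl_gt (LP (LK LD1_c3 LD2_c41 LD3_c49)) = (LP (LK LD1_c7 LD2_c24 LD3_c20)) :=
  Lre_g IH (LK LD1_c3 LD2_c41 LD3_c49) (LK LD1_c7 LD2_c24 LD3_c20) Lrfl Lrfl
theorem f484682 : Led Lsl_ct (LP (LK LD1_c7 LD2_c24 LD3_c20)) = (LP (LK LD1_c14 LD2_c0 LD3_c38)) :=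
  Lre_c IH (LK LD1_c7 LD2_c24 LD3_c20) (LK LD1_c14 LD2_c0 LD3_c38) Lrfl Lrfl
theorem f478593 : Led Lsl_gf (LP (LK LD1_c6 LD2_c34 LD3_c1)) = (LP (LK LD1_c3 LD2_c38 LD3_c48)) :=
  Lgr Lrot47 (Lpr_gt (K29.f65535 IH) (Lpe (K29.f137042 IH) (Lpr_ff (K29.f478589 IH) (Lpn (LP (LK LD1_c3 LD2_c38 LD3_c48))))))
theorem f483461 : Led Lsl_ct (LP (LK LD1_c13 LD2_c54 LD3_c58)) = (LP (LK LD1_c7 LD2_c21 LD3_c37)) :=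
  Lre_c IH (LK LD1_c13 LD2_c54 LD3_c58) (LK LD1_c7 LD2_c21 LD3_c37) Lrfl Lrfl
theorem f486071 : Led Lsl_gt (LP (LK LD1_c14 LD2_c0 LD3_c38)) = (LP (LK LD1_c13 LD2_c54 LD3_c58)) :=
  Lgr Lrot150 (Lpe (f484682 IH) (Lpe (f484674 IH) (Lpe (f483556 IH) (Lpr_gt (K29.f4846 IH) (Lpr_ct (K29.f483522 IH) (Lpe (f478593 IH) (Lpr_ct (K29.f483454 IH) (Lpe (f4561 IH) (Lpe (f483461 IH) (Lpn (LP (LK LD1_c13 LD2_c54 LD3_c58))))))))))))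
theorem f517600 : Led Lsl_gf (LP (LK LD1_c3 LD2_c41 LD3_c57)) = (LP (LK LD1_c7 LD2_c24 LD3_c20)) :=
  Lgr Lrot144 (Lpr_dt (K29.f457173 IH) (Lpr_gt (K29.f483588 IH) (Lpr_dt (K29.f122495 IH) (Lpe (K29.f123543 IH) (Lpe (K29.f483536 IH) (Lpr_gf (f484004 IH) (Lpr_df (f517576 IH) (Lpe (f486071 IH) (Lpe (f484682 IH) (Lpn (LP (LK LD1_c7 LD2_c24 LD3_c20))))))))))))
theorem f483590 : Led Lsl_dt (LP (LK LD1_c1 LD2_c47 LD3_c51)) = (LP (LK LD1_c3 LD2_c41 LD3_c57)) :=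
  Lre_d IH (LK LD1_c1 LD2_c47 LD3_c51) (LK LD1_c3 LD2_c41 LD3_c57) Lrfl Lrfl
theorem f517609 : Led Lsl_et (LP (LK LD1_c1 LD2_c47 LD3_c51)) = (LP (LK LD1_c3 LD2_c41 LD3_c58)) :=
  Lre_e IH (LK LD1_c1 LD2_c47 LD3_c51) (LK LD1_c3 LD2_c41 LD3_c58) Lrfl Lrfl
theorem f478576 : Led Lsl_gt (LP (LK LD1_c3 LD2_c41 LD3_c58)) = (LP (LK LD1_c7 LD2_c24 LD3_c39)) :=
  Lre_g IH (LK LD1_c3 LD2_c41 LD3_c58) (LK LD1_c7 LD2_c24 LD3_c39) Lrfl Lrfl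
theorem f132185 : Led Lsl_dt (LP (LK LD1_c7 LD2_c25 LD3_c5)) = (LP (LK LD1_c3 LD2_c42 LD3_c12)) :=
  Lre_d IH (LK LD1_c7 LD2_c25 LD3_c5) (LK LD1_c3 LD2_c42 LD3_c12) Lrfl Lrfl
theorem f484551 : Led Lsl_ff (LP (LK LD1_c7 LD2_c25 LD3_c5)) = (LP (LK LD1_c14 LD2_c0 LD3_c49)) :=
  Lgr Lrot19 (Lpr_dt (f132185 IH) (Lpr_ft (K5.f132169 IH) (Lpr_dt (K33.f484540 IH) (Lpn (LP (LK LD1_c14 LD2_c0 LD3_c49))))))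
theorem f107314 : Led Lsl_dt (LP (LK LD1_c3 LD2_c26 LD3_c42)) = (LP (LK LD1_c6 LD2_c55 LD3_c16)) :=
  Lre_d IH (LK LD1_c3 LD2_c26 LD3_c42) (LK LD1_c6 LD2_c55 LD3_c16) Lrfl Lrfl
theorem f132198 : Led Lsl_at (LP (LK LD1_c6 LD2_c55 LD3_c16)) = (LP (LK LD1_c7 LD2_c25 LD3_c5)) :=
  Lgr Lrot51 (Lpe (f107314 IH) (Lpr_af (K33.f132191 IH) (Lpe (f132185 IH) (Lpn (LP (LK LD1_c7 LD2_c25 LD3_c5))))))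
theorem f132200 : Led Lsl_af (LP (LK LD1_c6 LD2_c55 LD3_c16)) = (LP (LK LD1_c7 LD2_c25 LD3_c5)) :=
  Lgr Lrot0 (Lpr_at (f132198 IH) (Lpn (LP (LK LD1_c7 LD2_c25 LD3_c5))))
theorem f484663 : Led Lsl_gf (LP (LK LD1_c6 LD2_c55 LD3_c16)) = (LP (LK LD1_c7 LD2_c24 LD3_c25)) :=
  Lgr Lrot76 (Lpr_af (f132200 IH) (Lpr_ff (f484551 IH) (Lpr_gt (K33.f4876 IH) (Lpn (LP (LK LD1_c7 LD2_c24 LD3_c25))))))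
theorem f107313 : Led Lsl_et (LP (LK LD1_c3 LD2_c26 LD3_c42)) = (LP (LK LD1_c1 LD2_c40 LD3_c0)) :=
  Lre_e IH (LK LD1_c3 LD2_c26 LD3_c42) (LK LD1_c1 LD2_c40 LD3_c0) Lrfl Lrfl
theorem f456512 : Led Lsl_gt (LP (LK LD1_c7 LD2_c24 LD3_c24)) = (LP (LK LD1_c3 LD2_c41 LD3_c50)) :=
  Lre_g IH (LK LD1_c7 LD2_c24 LD3_c24) (LK LD1_c3 LD2_c41 LD3_c50) Lrfl Lrfl
theorem f484669 : Led Lsl_et (LP (LK LD1_c7 LD2_c30 LD3_c9)) = (LP (LK LD1_c7 LD2_c24 LD3_c24)) :=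
  Lgr Lrot121 (Lpr_dt (K33.f483771 IH) (Lpe (K33.f107321 IH) (Lpe (K28.f107320 IH) (Lpr_et (K28.f107319 IH) (Lpr_gf (K3.f107303 IH) (Lpe (f107313 IH) (Lpr_dt (f107314 IH) (Lpr_gf (f484663 IH) (Lpe (K33.f4875 IH) (Lpe (f456512 IH) (Lpn (LP (LK LD1_c7 LD2_c24 LD3_c24)))))))))))))
theorem f458182 : Led Lsl_et (LP (LK LD1_c6 LD2_c57 LD3_c41)) = (LP (LK LD1_c3 LD2_c27 LD3_c44)) :=
  Lre_e IH (LK LD1_c6 LD2_c57 LD3_c41) (LK LD1_c3 LD2_c27 LD3_c44) Lrfl Lrfl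
theorem f484673 : Led Lsl_et (LP (LK LD1_c1 LD2_c47 LD3_c47)) = (LP (LK LD1_c3 LD2_c41 LD3_c50)) :=
  Lre_e IH (LK LD1_c1 LD2_c47 LD3_c47) (LK LD1_c3 LD2_c41 LD3_c50) Lrfl Lrfl
theorem f484675 : Led Lsl_dt (LP (LK LD1_c6 LD2_c57 LD3_c41)) = (LP (LK LD1_c7 LD2_c24 LD3_c20)) :=
  Lgr Lrot37 (Lpr_et (f458182 IH) (Lpe (K28.f462420 IH) (Lpr_dt (K28.f107320 IH) (Lpr_gt (K33.f107321 IH) (Lpe (K33.f483771 IH) (Lpr_et (f484669 IH) (Lpr_gt (f456512 IH) (Lpe (f484673 IH) (Lpr_dt (f483556 IH) (Lpr_gt (f484674 IH) (Lpn (LP (LK LD1_c7 LD2_c24 LD3_c20)))))))))))))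
theorem f517610 : Led Lsl_dt (LP (LK LD1_c7 LD2_c24 LD3_c39)) = (LP (LK LD1_c7 LD2_c26 LD3_c4)) :=
  Lgr Lrot171 (Lpe (f478576 IH) (Lpe (f517609 IH) (Lpr_dt (f483590 IH) (Lpr_gf (f517600 IH) (Lpe (f484675 IH) (Lpr_et (f458182 IH) (Lpe (K24.f457968 IH) (Lpe (K28.f462416 IH) (Lpr_dt (K28.f203843 IH) (Lpe (f203937 IH) (Lpn (LP (LK LD1_c7 LD2_c26 LD3_c4)))))))))))))
theorem f483655 : Led Lsl_ct (LP (LK LD1_c1 LD2_c47 LD3_c53)) = (LP (LK LD1_c3 LD2_c41 LD3_c58)) :=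
  Lre_c IH (LK LD1_c1 LD2_c47 LD3_c53) (LK LD1_c3 LD2_c41 LD3_c58) Lrfl Lrfl
theorem f527340 : (LP (LK LD1_c3 LD2_c31 LD3_c34)) = v2529 :=
  (Llr Lrot153 (Lpe (K29.f459335 IH) (Lpr_gt (f527339 IH) (Lpe (f523702 IH) (Lpe (K28.f12384 IH) (Lpe (f12386 IH) (Lpe (f203937 IH) (Lpe (f517610 IH) (Lpe (f478576 IH) (Lpe (f483655 IH) (Lpr_gt (f527030 IH) (Lpn v2529)))))))))))).symm
theorem f527341 : Led Lsl_gt (LP (LK LD1_c1 LD2_c47 LD3_c53)) = (LP (LK LD1_c3 LD2_c31 LD3_c34)) :=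
  Leop (Lpqs (f527340 IH) (Lpe (f527030 IH) (Lpn (LP (LK LD1_c1 LD2_c47 LD3_c53)))))
theorem seed_206 : LEOK LG_g (LK LD1_c1 LD2_c47 LD3_c53) :=
  Leoe_g (LK LD1_c1 LD2_c47 LD3_c53) (f527341 IH)
def v2483 : LQ := Led Lsl_ft (LP (LK LD1_c1 LD2_c46 LD3_c32))
theorem f522677 : Led Lsl_ft (LP (LK LD1_c1 LD2_c46 LD3_c32)) = v2483 :=
  Lrfl
theorem f522679 : Led Lsl_ff (LP (LK LD1_c1 LD2_c46 LD3_c32)) = v2483 :=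
  Lgr Lrot3 (Lpr_ft (f522677 IH) (Lpn v2483))
theorem f522680 : Led Lsl_bt K30.v741 = v2483 :=
  Lgr Lrot35 (Lpe (K30.f457019 IH) (Lpe (K30.f455198 IH) (Lpr_ff (f522679 IH) (Lpn v2483))))
theorem f457018 : Led Lsl_at (LP (LK LD1_c1 LD2_c46 LD3_c32)) = (LP (LK LD1_c3 LD2_c39 LD3_c6)) :=
  Lre_a IH (LK LD1_c1 LD2_c46 LD3_c32) (LK LD1_c3 LD2_c39 LD3_c6) Lrfl Lrfl
theorem f522681 : Led Lsl_gf (LP (LK LD1_c3 LD2_c24 LD3_c52)) = v2483 :=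
  Lgr Lrot47 (Lpr_gt (K33.f511680 IH) (Lpe (f457018 IH) (Lpr_ff (f522679 IH) (Lpn v2483))))
theorem f458382 : Led Lsl_ct (LP (LK LD1_c3 LD2_c24 LD3_c52)) = (LP (LK LD1_c6 LD2_c52 LD3_c11)) :=
  Lre_c IH (LK LD1_c3 LD2_c24 LD3_c52) (LK LD1_c6 LD2_c52 LD3_c11) Lrfl Lrfl
theorem f478572 : Led Lsl_bt (LP (LK LD1_c3 LD2_c41 LD3_c55)) = (LP (LK LD1_c1 LD2_c47 LD3_c53)) :=
  Lre_b IH (LK LD1_c3 LD2_c41 LD3_c55) (LK LD1_c1 LD2_c47 LD3_c53) Lrfl Lrfl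
theorem f478504 : Led Lsl_ct (LP (LK LD1_c3 LD2_c41 LD3_c55)) = (LP (LK LD1_c7 LD2_c24 LD3_c32)) :=
  Lre_c IH (LK LD1_c3 LD2_c41 LD3_c55) (LK LD1_c7 LD2_c24 LD3_c32) Lrfl Lrfl
theorem f527344 : Led Lsl_gt (LP (LK LD1_c6 LD2_c52 LD3_c11)) = (LP (LK LD1_c7 LD2_c24 LD3_c32)) :=
  Lgr Lrot149 (Lpe (f458382 IH) (Lpr_gf (f522681 IH) (Lpe (f522680 IH) (Lpe (K30.f479078 IH) (Lpe (K24.f12127 IH) (Lpe (K24.f12138 IH) (Lpq (K24.f458774 IH) (Lpe (K24.f455740 IH) (Lpqs (f527340 IH) (Lpe (f527030 IH) (Lpe (f478572 IH) (Lpr_ct (f478504 IH) (Lpn (LP (LK LD1_c7 LD2_c24 LD3_c32)))))))))))))))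
theorem f527345 : Led Lsl_gt (LP (LK LD1_c6 LD2_c52 LD3_c11)) = (LP (LK LD1_c7 LD2_c24 LD3_c32)) :=
  Leop (Lpe (f527344 IH) (Lpn (LP (LK LD1_c6 LD2_c52 LD3_c11))))
theorem seed_207 : LEOK LG_g (LK LD1_c6 LD2_c52 LD3_c11) :=
  Leoe_g (LK LD1_c6 LD2_c52 LD3_c11) (f527345 IH)
def v2577 : LQ := Led Lsl_gf (LP (LK LD1_c1 LD2_c48 LD3_c56))
theorem f527558 : Led Lsl_gf (LP (LK LD1_c1 LD2_c48 LD3_c56)) = v2577 :=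
  Lrfl
theorem f131687 : Led Lsl_cf (LP (LK LD1_c1 LD2_c39 LD3_c34)) = (LP (LK LD1_c1 LD2_c48 LD3_c51)) :=
  Lgr Lrot11 (Lpr_ct (K5.f131675 IH) (Lpn (LP (LK LD1_c1 LD2_c48 LD3_c51))))
theorem f148236 : Led Lsl_gf (LP (LK LD1_c0 LD2_c10 LD3_c21)) = (LP (LK LD1_c0 LD2_c10 LD3_c17)) :=
  Lgr Lrot147 (Lpr_ct (K4.f120855 IH) (Lpe (K4.f120856 IH) (Lpr_ct (K3.f107208 IH) (Lpe (K3.f98634 IH) (Lpr_cf (f131687 IH) (Lpe (K7.f131696 IH) (Lpe (K4.f116536 IH) (Lpr_gf (K7.f148158 IH) (Lpe (K7.f4831 IH) (Lpn (LP (LK LD1_c0 LD2_c10 LD3_c17))))))))))))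
theorem f148299 : Led Lsl_et (LP (LK LD1_c0 LD2_c22 LD3_c60)) = (LP (LK LD1_c0 LD2_c50 LD3_c56)) :=
  Lre_e IH (LK LD1_c0 LD2_c22 LD3_c60) (LK LD1_c0 LD2_c50 LD3_c56) Lrfl Lrfl
def v919 : LQ := Led Lsl_et (LP (LK LD1_c0 LD2_c54 LD3_c9))
theorem f490522 : Led Lsl_et (LP (LK LD1_c0 LD2_c54 LD3_c9)) = v919 :=
  Lrfl
theorem f490525 : Led Lsl_ef (LP (LK LD1_c0 LD2_c54 LD3_c9)) = v919 :=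
  Lgr Lrot88 (Lpr_et (f490522 IH) (Lpn v919))
theorem f527560 : Led Lsl_dt v919 = v2577 :=
  Lgr Lrot136 (Lpe (f490525 IH) (Lpq (K29.f470839 IH) (Lpe (K29.f459401 IH) (Lpe (f148299 IH) (Lpr_dt (K4.f120983 IH) (Lpr_gf (f148236 IH) (Lpe (K7.f4829 IH) (Lpe (K7.f148282 IH) (Lpe (K5.f131666 IH) (Lpr_dt (K5.f131711 IH) (Lpr_gf (f527558 IH) (Lpn v2577))))))))))))
theorem f527561 : Led Lsl_gt (LP (LK LD1_c3 LD2_c54 LD3_c44)) = v919 :=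
  Lgr Lrot137 (Lpr_ef (f523898 IH) (Lpe (f523721 IH) (Lpe (K29.f4836 IH) (Lpr_df (K29.f4546 IH) (Lpr_et (K11.f4828 IH) (Lpe (K7.f148282 IH) (Lpe (K5.f131666 IH) (Lpr_dt (K5.f131711 IH) (Lpr_gf (f527558 IH) (Lpe (f527560 IH) (Lpn v919)))))))))))
theorem f523899 : Led Lsl_ct (LP (LK LD1_c3 LD2_c54 LD3_c44)) = (LP (LK LD1_c7 LD2_c51 LD3_c6)) :=
  Lre_c IH (LK LD1_c3 LD2_c54 LD3_c44) (LK LD1_c7 LD2_c51 LD3_c6) Lrfl Lrfl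
theorem f527563 : Led Lsl_gt (LP (LK LD1_c7 LD2_c51 LD3_c6)) = (LP (LK LD1_c7 LD2_c26 LD3_c1)) :=
  Lgr Lrot94 (Lpe (f523899 IH) (Lpr_gt (f527561 IH) (Lpr_dt (f527560 IH) (Lpe (f527558 IH) (Lpr_dt (K29.f131667 IH) (Lpe (K5.f131744 IH) (Lpe (K5.f131745 IH) (Lpe (K28.f131799 IH) (Lpe (K28.f437717 IH) (Lpn (LP (LK LD1_c7 LD2_c26 LD3_c1))))))))))))
theorem f527564 : Led Lsl_gt (LP (LK LD1_c7 LD2_c51 LD3_c6)) = (LP (LK LD1_c7 LD2_c26 LD3_c1)) :=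
  Leop (Lpe (f527563 IH) (Lpn (LP (LK LD1_c7 LD2_c51 LD3_c6))))
theorem seed_208 : LEOK LG_g (LK LD1_c7 LD2_c51 LD3_c6) :=
  Leoe_g (LK LD1_c7 LD2_c51 LD3_c6) (f527564 IH)
def v2593 : LQ := Led Lsl_at (LP (LK LD1_c1 LD2_c49 LD3_c18))
theorem f527649 : Led Lsl_at (LP (LK LD1_c1 LD2_c49 LD3_c18)) = v2593 :=
  Lrfl
theorem f527650 : Led Lsl_af (LP (LK LD1_c1 LD2_c49 LD3_c18)) = v2593 :=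
  Lgr Lrot0 (Lpr_at (f527649 IH) (Lpn v2593))
theorem f527653 : Led Lsl_ft (LP (LK LD1_c3 LD2_c31 LD3_c30)) = v2593 :=
  Lgr Lrot2 (Lpe (K33.f459217 IH) (Lpe (f483765 IH) (Lpr_af (f527650 IH) (Lpn v2593))))
theorem f480118 : Led Lsl_df (LP (LK LD1_c1 LD2_c54 LD3_c57)) = (LP (LK LD1_c3 LD2_c31 LD3_c30)) :=
  Lgr Lrot84 (Lpe (K28.f451972 IH) (Lpe (K33.f462838 IH) (Lpr_gf (K33.f480116 IH) (Lpe (K33.f132012 IH) (Lpe (K28.f132011 IH) (Lpe (K4.f122348 IH) (Lpr_gt (K24.f459480 IH) (Lpq (K28.f463254 IH) (Lpr_dt (K28.f455620 IH) (Lpr_gt (K28.f455621 IH) (Lpn (LP (LK LD1_c3 LD2_c31 LD3_c30)))))))))))))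
theorem f455762 : Led Lsl_et (LP (LK LD1_c0 LD2_c47 LD3_c43)) = (LP (LK LD1_c1 LD2_c42 LD3_c28)) :=
  Lre_e IH (LK LD1_c0 LD2_c47 LD3_c43) (LK LD1_c1 LD2_c42 LD3_c28) Lrfl Lrfl
theorem f455781 : Led Lsl_gt (LP (LK LD1_c1 LD2_c42 LD3_c28)) = (LP (LK LD1_c3 LD2_c31 LD3_c48)) :=
  Lre_g IH (LK LD1_c1 LD2_c42 LD3_c28) (LK LD1_c3 LD2_c31 LD3_c48) Lrfl Lrfl
theorem f480428 : Led Lsl_ef (LP (LK LD1_c3 LD2_c31 LD3_c48)) = (LP (LK LD1_c3 LD2_c31 LD3_c30)) :=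
  Lgr Lrot17 (Lpe (f455781 IH) (Lpe (f455762 IH) (Lpr_dt (K24.f455752 IH) (Lpe (K29.f455748 IH) (Lpr_df (K32.f463655 IH) (Lpe (K32.f479835 IH) (Lpe (K32.f11373 IH) (Lpr_dt (K28.f11364 IH) (Lpe (K28.f451970 IH) (Lpr_df (f480118 IH) (Lpn (LP (LK LD1_c3 LD2_c31 LD3_c30)))))))))))))
theorem f480433 : Led Lsl_et (LP (LK LD1_c3 LD2_c31 LD3_c48)) = (LP (LK LD1_c3 LD2_c31 LD3_c30)) :=
  Lgr Lrot87 (Lpr_ef (f480428 IH) (Lpn (LP (LK LD1_c3 LD2_c31 LD3_c30))))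
theorem f459515 : Led Lsl_et (LP (LK LD1_c0 LD2_c51 LD3_c23)) = (LP (LK LD1_c1 LD2_c49 LD3_c18)) :=
  Lre_e IH (LK LD1_c0 LD2_c51 LD3_c23) (LK LD1_c1 LD2_c49 LD3_c18) Lrfl Lrfl
def v812 : LQ := Led Lsl_ft (LP (LK LD1_c0 LD2_c51 LD3_c22))
theorem f459522 : Led Lsl_ft (LP (LK LD1_c0 LD2_c51 LD3_c22)) = v812 :=
  Lrfl
def v810 : LQ := Led Lsl_at (LP (LK LD1_c0 LD2_c51 LD3_c22))
theorem f459506 : Led Lsl_at (LP (LK LD1_c0 LD2_c51 LD3_c22)) = v810 :=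
  Lrfl
theorem f459507 : Led Lsl_af (LP (LK LD1_c0 LD2_c51 LD3_c22)) = v810 :=
  Lgr Lrot0 (Lpr_at (f459506 IH) (Lpn v810))
theorem f459510 : Led Lsl_ft (LP (LK LD1_c0 LD2_c51 LD3_c23)) = v810 :=
  Lgr Lrot2 (Lpr_gt (K33.f12864 IH) (Lpr_gt (K33.f12853 IH) (Lpr_af (f459507 IH) (Lpn v810))))
theorem f459523 : Led Lsl_af (LP (LK LD1_c0 LD2_c51 LD3_c23)) = v812 :=
  Lgr Lrot45 (Lpr_ft (f459510 IH) (Lpe (f459507 IH) (Lpr_ft (f459522 IH) (Lpn v812))))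
theorem f527651 : Led Lsl_ef v812 = v2593 :=
  Lgr Lrot20 (Lpe (f459523 IH) (Lpr_et (f459515 IH) (Lpr_at (f527649 IH) (Lpn v2593))))
theorem f459524 : Led Lsl_ff (LP (LK LD1_c0 LD2_c51 LD3_c22)) = v812 :=
  Lgr Lrot3 (Lpr_ft (f459522 IH) (Lpn v812))
theorem f459509 : Led Lsl_et (LP (LK LD1_c0 LD2_c51 LD3_c22)) = (LP (LK LD1_c1 LD2_c49 LD3_c15)) :=
  Lre_e IH (LK LD1_c0 LD2_c51 LD3_c22) (LK LD1_c1 LD2_c49 LD3_c15) Lrfl Lrfl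
def v2589 : LQ := Led Lsl_ft (LP (LK LD1_c1 LD2_c49 LD3_c15))
theorem f527637 : Led Lsl_ft (LP (LK LD1_c1 LD2_c49 LD3_c15)) = v2589 :=
  Lrfl
theorem f527655 : (LP (LK LD1_c3 LD2_c31 LD3_c48)) = v2589 :=
  (Llr Lrot21 (Lpr_et (f480433 IH) (Lpr_ft (f527653 IH) (Lpe (f527651 IH) (Lpe (f459524 IH) (Lpr_et (f459509 IH) (Lpr_ft (f527637 IH) (Lpn v2589)))))))).symm
theorem f527638 : Led Lsl_ff (LP (LK LD1_c1 LD2_c49 LD3_c15)) = v2589 :=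
  Lgr Lrot3 (Lpr_ft (f527637 IH) (Lpn v2589))
theorem f527656 : Led Lsl_ft (LP (LK LD1_c3 LD2_c31 LD3_c48)) = (LP (LK LD1_c1 LD2_c49 LD3_c15)) :=
  Leop (Lpr_ff (f527638 IH) (Lpq (f527655 IH) (Lpn (LP (LK LD1_c3 LD2_c31 LD3_c48)))))
theorem seed_209 : LEOK LG_f (LK LD1_c3 LD2_c31 LD3_c48) :=
  Leoe_f (LK LD1_c3 LD2_c31 LD3_c48) (f527656 IH)
def v2595 : LQ := Led Lsl_dt (LP (LK LD1_c1 LD2_c49 LD3_c19))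
theorem f527683 : Led Lsl_dt (LP (LK LD1_c1 LD2_c49 LD3_c19)) = v2595 :=
  Lrfl
theorem f65440 : Led Lsl_gt (LP (LK LD1_c1 LD2_c34 LD3_c28)) = (LP (LK LD1_c1 LD2_c34 LD3_c40)) :=
  Lgr Lrot5 (Lpr_ft (K11.f65427 IH) (Lpr_at (K11.f65433 IH) (Lpe (K11.f65439 IH) (Lpn (LP (LK LD1_c1 LD2_c34 LD3_c40))))))
theorem f447706 : Led Lsl_gt (LP (LK LD1_c0 LD2_c51 LD3_c26)) = (LP (LK LD1_c1 LD2_c47 LD3_c61)) :=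
  Lgr Lrot149 (Lpe (K11.f152325 IH) (Lpe (K11.f156359 IH) (Lpr_bf (K11.f156384 IH) (Lpr_ct (K7.f156348 IH) (Lpr_gf (K11.f431022 IH) (Lpe (K11.f431024 IH) (Lpr_bt (K11.f447702 IH) (Lpe (f65440 IH) (Lpe (K11.f434063 IH) (Lpe (K11.f107219 IH) (Lpn (LP (LK LD1_c1 LD2_c47 LD3_c61)))))))))))))
def v2539 : LQ := Led Lsl_dt (LP (LK LD1_c1 LD2_c47 LD3_c61))
theorem f527243 : Led Lsl_dt (LP (LK LD1_c1 LD2_c47 LD3_c61)) = v2539 :=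
  Lrfl
def v93 : LQ := Led Lsl_dt (LP (LK LD1_c0 LD2_c10 LD3_c25))
theorem f447670 : Led Lsl_dt (LP (LK LD1_c0 LD2_c10 LD3_c25)) = v93 :=
  Lrfl
def v199 : LQ := Led Lsl_dt (LP (LK LD1_c0 LD2_c23 LD3_c11))
theorem f451038 : Led Lsl_dt (LP (LK LD1_c0 LD2_c23 LD3_c11)) = v199 :=
  Lrfl
theorem f430241 : Led Lsl_ef (LP (LK LD1_c0 LD2_c45 LD3_c57)) = (LP (LK LD1_c0 LD2_c23 LD3_c11)) :=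
  Lgr Lrot28 (Lpr_ct (K7.f21150 IH) (Lpr_et (K11.f430231 IH) (Lpr_ct (K11.f124178 IH) (Lpn (LP (LK LD1_c0 LD2_c23 LD3_c11))))))
theorem f124279 : Led Lsl_et (LP (LK LD1_c0 LD2_c22 LD3_c61)) = (LP (LK LD1_c0 LD2_c10 LD3_c21)) :=
  Lre_e IH (LK LD1_c0 LD2_c22 LD3_c61) (LK LD1_c0 LD2_c10 LD3_c21) Lrfl Lrfl
theorem f451041 : Led Lsl_gt v93 = v199 :=
  Lgr Lrot112 (Lpe (f447670 IH) (Lpr_et (K7.f142480 IH) (Lpe (K4.f12898 IH) (Lpe (f124279 IH) (Lpr_dt (K4.f120891 IH) (Lpe (K5.f124251 IH) (Lpr_df (K5.f134677 IH) (Lpe (K6.f21140 IH) (Lpr_ef (f430241 IH) (Lpr_dt (f451038 IH) (Lpn v199)))))))))))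
theorem f451039 : Led Lsl_df (LP (LK LD1_c0 LD2_c23 LD3_c11)) = v199 :=
  Lgr Lrot38 (Lpr_dt (f451038 IH) (Lpn v199))
def v814 : LQ := Led Lsl_dt (LP (LK LD1_c0 LD2_c51 LD3_c24))
theorem f459529 : Led Lsl_dt (LP (LK LD1_c0 LD2_c51 LD3_c24)) = v814 :=
  Lrfl
theorem f459530 : Led Lsl_df (LP (LK LD1_c0 LD2_c51 LD3_c24)) = v814 :=
  Lgr Lrot38 (Lpr_dt (f459529 IH) (Lpn v814))
theorem f527246 : Led Lsl_gf v814 = v2539 :=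
  Lgr Lrot143 (Lpe (f459530 IH) (Lpe (K11.f124182 IH) (Lpr_df (f451039 IH) (Lpe (f451041 IH) (Lpe (f447670 IH) (Lpe (K7.f124175 IH) (Lpe (K7.f124176 IH) (Lpr_gt (f447706 IH) (Lpr_dt (f527243 IH) (Lpn v2539))))))))))
theorem f156312 : Led Lsl_ef (LP (LK LD1_c3 LD2_c25 LD3_c5)) = (LP (LK LD1_c1 LD2_c48 LD3_c16)) :=
  Lgr Lrot28 (Lpr_ct (K7.f156308 IH) (Lpe (K7.f156289 IH) (Lpr_ct (K4.f120894 IH) (Lpn (LP (LK LD1_c1 LD2_c48 LD3_c16))))))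
theorem f527691 : Led Lsl_gt (LP (LK LD1_c3 LD2_c42 LD3_c32)) = v2595 :=
  Lgr Lrot112 (Lpe (K7.f120903 IH) (Lpe (f156312 IH) (Lpe (K7.f143202 IH) (Lpr_ef (K11.f430243 IH) (Lpr_dt (f459529 IH) (Lpr_gf (f527246 IH) (Lpe (f527243 IH) (Lpe (f447706 IH) (Lpe (K7.f152326 IH) (Lpr_dt (f527683 IH) (Lpn v2595)))))))))))
theorem f131272 : Led Lsl_ft (LP (LK LD1_c3 LD2_c39 LD3_c59)) = (LP (LK LD1_c3 LD2_c42 LD3_c32)) :=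
  Lgr Lrot4 (Lpe (K7.f114182 IH) (Lpr_ff (K7.f131232 IH) (Lpe (K7.f120904 IH) (Lpn (LP (LK LD1_c3 LD2_c42 LD3_c32))))))
theorem f131274 : Led Lsl_ff (LP (LK LD1_c3 LD2_c39 LD3_c59)) = (LP (LK LD1_c3 LD2_c42 LD3_c32)) :=
  Lgr Lrot3 (Lpr_ft (f131272 IH) (Lpn (LP (LK LD1_c3 LD2_c42 LD3_c32))))
theorem f131276 : Led Lsl_bt (LP (LK LD1_c6 LD2_c17 LD3_c37)) = (LP (LK LD1_c3 LD2_c42 LD3_c32)) :=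
  Lgr Lrot35 (Lpe (K7.f125265 IH) (Lpe (K5.f114172 IH) (Lpr_ff (f131274 IH) (Lpn (LP (LK LD1_c3 LD2_c42 LD3_c32))))))
theorem f431326 : Led Lsl_df (LP (LK LD1_c9 LD2_c19 LD3_c14)) = (LP (LK LD1_c12 LD2_c11 LD3_c55)) :=
  Lgr Lrot162 (Lpe (K11.f431324 IH) (Lpe (K11.f431298 IH) (Lpe (K11.f431306 IH) (Lpr_gf (K11.f431308 IH) (Lpr_dt (K5.f102199 IH) (Lpr_gt (K5.f115168 IH) (Lpe (K5.f127000 IH) (Lpr_gt (K5.f113471 IH) (Lpr_ct (K5.f113487 IH) (Lpn (LP (LK LD1_c12 LD2_c11 LD3_c55))))))))))))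
theorem f431334 : Led Lsl_ct (LP (LK LD1_c9 LD2_c19 LD3_c14)) = (LP (LK LD1_c6 LD2_c17 LD3_c37)) :=
  Lgr Lrot176 (Lpr_df (f431326 IH) (Lpe (K5.f113487 IH) (Lpe (K5.f79524 IH) (Lpe (K5.f78262 IH) (Lpe (K5.f77999 IH) (Lpe (K3.f77883 IH) (Lpe (K5.f77895 IH) (Lpe (K5.f77936 IH) (Lpe (K5.f133259 IH) (Lpr_cf (K5.f133267 IH) (Lpe (K5.f133266 IH) (Lpe (K5.f25714 IH) (Lpe (K5.f25713 IH) (Lpe (K5.f78273 IH) (Lpe (K7.f78272 IH) (Lpn (LP (LK LD1_c6 LD2_c17 LD3_c37))))))))))))))))))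
theorem f57804 : Led Lsl_bt (LP (LK LD1_c12 LD2_c11 LD3_c54)) = (LP (LK LD1_c6 LD2_c17 LD3_c45)) :=
  Lre_b IH (LK LD1_c12 LD2_c11 LD3_c54) (LK LD1_c6 LD2_c17 LD3_c45) Lrfl Lrfl
theorem f57794 : Led Lsl_gt (LP (LK LD1_c21 LD2_c56 LD3_c43)) = (LP (LK LD1_c29 LD2_c52 LD3_c14)) :=
  Lre_g IH (LK LD1_c21 LD2_c56 LD3_c43) (LK LD1_c29 LD2_c52 LD3_c14) Lrfl Lrfl
theorem f57803 : Led Lsl_bt (LP (LK LD1_c30 LD2_c13 LD3_c38)) = (LP (LK LD1_c21 LD2_c56 LD3_c43)) :=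
  Lre_b IH (LK LD1_c30 LD2_c13 LD3_c38) (LK LD1_c21 LD2_c56 LD3_c43) Lrfl Lrfl
theorem f527686 : Led Lsl_df (LP (LK LD1_c1 LD2_c49 LD3_c19)) = v2595 :=
  Lgr Lrot38 (Lpr_dt (f527683 IH) (Lpn v2595))
theorem f19305 : Led Lsl_gt (LP (LK LD1_c1 LD2_c42 LD3_c39)) = (LP (LK LD1_c3 LD2_c31 LD3_c58)) :=
  Lre_g IH (LK LD1_c1 LD2_c42 LD3_c39) (LK LD1_c3 LD2_c31 LD3_c58) Lrfl Lrfl
theorem f19306 : Led Lsl_gt (LP (LK LD1_c3 LD2_c31 LD3_c58)) = (LP (LK LD1_c3 LD2_c25 LD3_c23)) :=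
  Lgr Lrot46 (Lpe (f19305 IH) (Lpr_ft (K4.f19204 IH) (Lpr_at (K4.f17169 IH) (Lpn (LP (LK LD1_c3 LD2_c25 LD3_c23))))))
theorem f108878 : Led Lsl_cf (LP (LK LD1_c3 LD2_c31 LD3_c58)) = (LP (LK LD1_c6 LD2_c52 LD3_c46)) :=
  Lgr Lrot169 (Lpr_gt (f19306 IH) (Lpr_ct (K2.f9834 IH) (Lpe (K2.f9823 IH) (Lpe (K4.f9820 IH) (Lpr_gf (K2.f68108 IH) (Lpe (K2.f83505 IH) (Lpr_gf (K3.f108825 IH) (Lpe (K7.f94107 IH) (Lpr_gt (K3.f84662 IH) (Lpn (LP (LK LD1_c6 LD2_c52 LD3_c46))))))))))))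
theorem f152350 : Led Lsl_bt (LP (LK LD1_c3 LD2_c31 LD3_c58)) = (LP (LK LD1_c7 LD2_c5 LD3_c22)) :=
  Lre_b IH (LK LD1_c3 LD2_c31 LD3_c58) (LK LD1_c7 LD2_c5 LD3_c22) Lrfl Lrfl
theorem f152351 : Led Lsl_gt (LP (LK LD1_c7 LD2_c5 LD3_c22)) = (LP (LK LD1_c13 LD2_c26 LD3_c20)) :=
  Lre_g IH (LK LD1_c7 LD2_c5 LD3_c22) (LK LD1_c13 LD2_c26 LD3_c20) Lrfl Lrfl
theorem f152352 : Led Lsl_dt (LP (LK LD1_c13 LD2_c26 LD3_c20)) = (LP (LK LD1_c22 LD2_c45 LD3_c54)) :=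
  Lre_d IH (LK LD1_c13 LD2_c26 LD3_c20) (LK LD1_c22 LD2_c45 LD3_c54) Lrfl Lrfl
theorem f527693 : Led Lsl_cf (LP (LK LD1_c30 LD2_c13 LD3_c38)) = (LP (LK LD1_c22 LD2_c45 LD3_c54)) :=
  Lgr Lrot89 (Lpr_bt (f57803 IH) (Lpr_gt (f57794 IH) (Lpr_dt (K1.f57758 IH) (Lpr_ct (K1.f57749 IH) (Lpr_bt (f57804 IH) (Lpr_gt (K5.f57805 IH) (Lpe (f431326 IH) (Lpr_ct (f431334 IH) (Lpr_bt (f131276 IH) (Lpr_gt (f527691 IH) (Lpe (f527686 IH) (Lpr_ct (K7.f152331 IH) (Lpr_bt (K11.f152344 IH) (Lpr_gt (K11.f94096 IH) (Lpe (K3.f94087 IH) (Lpe (f108878 IH) (Lpr_bt (f152350 IH) (Lpr_gt (f152351 IH) (Lpr_dt (f152352 IH) (Lpn (LP (LK LD1_c22 LD2_c45 LD3_c54))))))))))))))))))))))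
theorem f527694 : Led Lsl_ct (LP (LK LD1_c22 LD2_c45 LD3_c54)) = (LP (LK LD1_c30 LD2_c13 LD3_c38)) :=
  Leop (Lpr_cf (f527693 IH) (Lpn (LP (LK LD1_c22 LD2_c45 LD3_c54))))
theorem seed_210 : LEOK LG_c (LK LD1_c22 LD2_c45 LD3_c54) :=
  Leoe_c (LK LD1_c22 LD2_c45 LD3_c54) (f527694 IH)
def v2238 : LQ := Led Lsl_gt (LP (LK LD1_c1 LD2_c38 LD3_c25))
theorem f510423 : Led Lsl_gt (LP (LK LD1_c1 LD2_c38 LD3_c25)) = v2238 :=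
  Lrfl
def v2615 : LQ := Led Lsl_ft (LP (LK LD1_c1 LD2_c49 LD3_c43))
theorem f527788 : Led Lsl_ft (LP (LK LD1_c1 LD2_c49 LD3_c43)) = v2615 :=
  Lrfl
theorem f124472 : Led Lsl_ct (LP (LK LD1_c3 LD2_c45 LD3_c11)) = (LP (LK LD1_c1 LD2_c49 LD3_c43)) :=
  Lre_c IH (LK LD1_c3 LD2_c45 LD3_c11) (LK LD1_c1 LD2_c49 LD3_c43) Lrfl Lrfl
theorem f508891 : Led Lsl_ft (LP (LK LD1_c3 LD2_c18 LD3_c23)) = (LP (LK LD1_c3 LD2_c45 LD3_c11)) :=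
  Lgr Lrot2 (Lpr_gt (K32.f508889 IH) (Lpr_gt (K5.f66024 IH) (Lpr_af (K5.f126377 IH) (Lpn (LP (LK LD1_c3 LD2_c45 LD3_c11))))))
theorem f527789 : Led Lsl_cf (LP (LK LD1_c3 LD2_c18 LD3_c23)) = v2615 :=
  Lgr Lrot108 (Lpr_ft (f508891 IH) (Lpr_ct (f124472 IH) (Lpr_ft (f527788 IH) (Lpn v2615))))
theorem f140067 : Led Lsl_bt (LP (LK LD1_c0 LD2_c8 LD3_c56)) = (LP (LK LD1_c0 LD2_c19 LD3_c46)) :=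
  Lre_b IH (LK LD1_c0 LD2_c8 LD3_c56) (LK LD1_c0 LD2_c19 LD3_c46) Lrfl Lrfl
theorem f414498 : Led Lsl_bt (LP (LK LD1_c0 LD2_c45 LD3_c36)) = (LP (LK LD1_c1 LD2_c38 LD3_c25)) :=
  Lre_b IH (LK LD1_c0 LD2_c45 LD3_c36) (LK LD1_c1 LD2_c38 LD3_c25) Lrfl Lrfl
def v2239 : LQ := Led Lsl_gf (LP (LK LD1_c1 LD2_c38 LD3_c25))
theorem f510424 : Led Lsl_gf (LP (LK LD1_c1 LD2_c38 LD3_c25)) = v2239 :=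
  Lrfl
theorem f527792 : Led Lsl_bf v2239 = v2615 :=
  Lgr Lrot156 (Lpe (f510424 IH) (Lpe (f414498 IH) (Lpr_ct (K17.f414502 IH) (Lpr_gt (K17.f185972 IH) (Lpe (K17.f22956 IH) (Lpr_bt (f140067 IH) (Lpr_gt (K5.f62968 IH) (Lpr_ct (K32.f414627 IH) (Lpr_gt (K32.f414628 IH) (Lpr_cf (f527789 IH) (Lpn v2615)))))))))))
theorem f62658 : Led Lsl_et (LP (LK LD1_c1 LD2_c49 LD3_c43)) = (LP (LK LD1_c0 LD2_c51 LD3_c42)) :=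
  Lre_e IH (LK LD1_c1 LD2_c49 LD3_c43) (LK LD1_c0 LD2_c51 LD3_c42) Lrfl Lrfl
theorem f124431 : Led Lsl_et (LP (LK LD1_c1 LD2_c6 LD3_c4)) = (LP (LK LD1_c2 LD2_c18 LD3_c5)) :=
  Lre_e IH (LK LD1_c1 LD2_c6 LD3_c4) (LK LD1_c2 LD2_c18 LD3_c5) Lrfl Lrfl
theorem f124463 : Led Lsl_bf (LP (LK LD1_c1 LD2_c49 LD3_c43)) = (LP (LK LD1_c2 LD2_c18 LD3_c5)) :=
  Lgr Lrot96 (Lpr_et (f62658 IH) (Lpr_bt (K7.f124459 IH) (Lpr_et (f124431 IH) (Lpn (LP (LK LD1_c2 LD2_c18 LD3_c5))))))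
theorem f527794 : Led Lsl_ft v2239 = (LP (LK LD1_c2 LD2_c18 LD3_c5)) :=
  Lgr Lrot75 (Lpr_bf (f527792 IH) (Lpe (f527788 IH) (Lpr_bf (f124463 IH) (Lpn (LP (LK LD1_c2 LD2_c18 LD3_c5))))))
theorem f130999 : Led Lsl_ft (LP (LK LD1_c1 LD2_c38 LD3_c58)) = (LP (LK LD1_c1 LD2_c39 LD3_c11)) :=
  Lgr Lrot54 (Lpe (K4.f17735 IH) (Lpr_ff (K5.f130995 IH) (Lpe (K5.f12109 IH) (Lpn (LP (LK LD1_c1 LD2_c39 LD3_c11))))))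
theorem f208927 : Led Lsl_af (LP (LK LD1_c1 LD2_c31 LD3_c32)) = (LP (LK LD1_c1 LD2_c39 LD3_c11)) :=
  Lgr Lrot109 (Lpr_cf (K7.f128335 IH) (Lpr_df (K24.f207776 IH) (Lpe (K24.f142725 IH) (Lpe (K5.f12837 IH) (Lpe (K3.f12762 IH) (Lpe (K7.f131664 IH) (Lpe (K0.f17728 IH) (Lpe (K7.f17732 IH) (Lpr_ft (f130999 IH) (Lpn (LP (LK LD1_c1 LD2_c39 LD3_c11))))))))))))
theorem f128330 : Led Lsl_et (LP (LK LD1_c3 LD2_c25 LD3_c15)) = (LP (LK LD1_c1 LD2_c39 LD3_c11)) :=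
  Lre_e IH (LK LD1_c3 LD2_c25 LD3_c15) (LK LD1_c1 LD2_c39 LD3_c11) Lrfl Lrfl
theorem f208995 : Led Lsl_at (LP (LK LD1_c3 LD2_c10 LD3_c30)) = (LP (LK LD1_c3 LD2_c25 LD3_c15)) :=
  Lgr Lrot80 (Lpe (K5.f124838 IH) (Lpr_af (f208927 IH) (Lpe (f128330 IH) (Lpn (LP (LK LD1_c3 LD2_c25 LD3_c15))))))
theorem f208920 : Led Lsl_bt (LP (LK LD1_c1 LD2_c31 LD3_c36)) = (LP (LK LD1_c3 LD2_c10 LD3_c30)) :=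
  Lre_b IH (LK LD1_c1 LD2_c31 LD3_c36) (LK LD1_c3 LD2_c10 LD3_c30) Lrfl Lrfl
theorem f104342 : Led Lsl_et (LP (LK LD1_c0 LD2_c43 LD3_c7)) = (LP (LK LD1_c1 LD2_c33 LD3_c11)) :=
  Lre_e IH (LK LD1_c0 LD2_c43 LD3_c7) (LK LD1_c1 LD2_c33 LD3_c11) Lrfl Lrfl
theorem f128355 : Led Lsl_et (LP (LK LD1_c1 LD2_c31 LD3_c36)) = (LP (LK LD1_c0 LD2_c42 LD3_c20)) :=
  Lre_e IH (LK LD1_c1 LD2_c31 LD3_c36) (LK LD1_c0 LD2_c42 LD3_c20) Lrfl Lrfl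
theorem f129061 : Led Lsl_at (LP (LK LD1_c1 LD2_c33 LD3_c11)) = (LP (LK LD1_c1 LD2_c31 LD3_c36)) :=
  Lgr Lrot80 (Lpe (f104342 IH) (Lpr_af (K5.f129057 IH) (Lpe (f128355 IH) (Lpn (LP (LK LD1_c1 LD2_c31 LD3_c36))))))
theorem f65574 : Led Lsl_bt (LP (LK LD1_c3 LD2_c13 LD3_c25)) = (LP (LK LD1_c1 LD2_c33 LD3_c11)) :=
  Lre_b IH (LK LD1_c3 LD2_c13 LD3_c25) (LK LD1_c1 LD2_c33 LD3_c11) Lrfl Lrfl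
theorem f130960 : Led Lsl_af (LP (LK LD1_c3 LD2_c13 LD3_c25)) = (LP (LK LD1_c1 LD2_c49 LD3_c50)) :=
  Lgr Lrot0 (Lpr_at (K5.f130958 IH) (Lpn (LP (LK LD1_c1 LD2_c49 LD3_c50))))
theorem f208999 : Led Lsl_bf (LP (LK LD1_c1 LD2_c49 LD3_c50)) = (LP (LK LD1_c3 LD2_c25 LD3_c15)) :=
  Lgr Lrot81 (Lpe (f130960 IH) (Lpr_bt (f65574 IH) (Lpr_at (f129061 IH) (Lpr_bt (f208920 IH) (Lpr_at (f208995 IH) (Lpn (LP (LK LD1_c3 LD2_c25 LD3_c15))))))))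
theorem f209014 : Led Lsl_dt (LP (LK LD1_c1 LD2_c48 LD3_c3)) = (LP (LK LD1_c3 LD2_c25 LD3_c15)) :=
  Lgr Lrot79 (Lpr_bf (K6.f26234 IH) (Lpe (K5.f105615 IH) (Lpr_bf (f208999 IH) (Lpn (LP (LK LD1_c3 LD2_c25 LD3_c15))))))
theorem f209049 : Led Lsl_df (LP (LK LD1_c1 LD2_c48 LD3_c3)) = (LP (LK LD1_c3 LD2_c25 LD3_c15)) :=
  Lgr Lrot38 (Lpr_dt (f209014 IH) (Lpn (LP (LK LD1_c3 LD2_c25 LD3_c15))))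
theorem f125659 : Led Lsl_et (LP (LK LD1_c3 LD2_c10 LD3_c30)) = (LP (LK LD1_c1 LD2_c31 LD3_c32)) :=
  Lre_e IH (LK LD1_c3 LD2_c10 LD3_c30) (LK LD1_c1 LD2_c31 LD3_c32) Lrfl Lrfl
theorem f107293 : Led Lsl_et (LP (LK LD1_c0 LD2_c50 LD3_c23)) = (LP (LK LD1_c1 LD2_c47 LD3_c11)) :=
  Lre_e IH (LK LD1_c0 LD2_c50 LD3_c23) (LK LD1_c1 LD2_c47 LD3_c11) Lrfl Lrfl
theorem f125660 : Led Lsl_df (LP (LK LD1_c3 LD2_c10 LD3_c30)) = (LP (LK LD1_c1 LD2_c47 LD3_c11)) :=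
  Lgr Lrot70 (Lpr_et (f125659 IH) (Lpr_dt (K5.f124836 IH) (Lpr_et (K5.f125653 IH) (Lpr_dt (K4.f107291 IH) (Lpr_et (f107293 IH) (Lpn (LP (LK LD1_c1 LD2_c47 LD3_c11))))))))
theorem f209055 : Led Lsl_at (LP (LK LD1_c1 LD2_c48 LD3_c3)) = (LP (LK LD1_c1 LD2_c47 LD3_c11)) :=
  Lgr Lrot51 (Lpr_df (f209049 IH) (Lpe (f208995 IH) (Lpr_df (f125660 IH) (Lpn (LP (LK LD1_c1 LD2_c47 LD3_c11))))))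
theorem f130956 : Led Lsl_at (LP (LK LD1_c1 LD2_c49 LD3_c43)) = (LP (LK LD1_c3 LD2_c38 LD3_c11)) :=
  Lgr Lrot100 (Lpr_af (K5.f130889 IH) (Lpn (LP (LK LD1_c3 LD2_c38 LD3_c11))))
theorem f125535 : Led Lsl_et (LP (LK LD1_c1 LD2_c31 LD3_c45)) = (LP (LK LD1_c0 LD2_c42 LD3_c27)) :=
  Lre_e IH (LK LD1_c1 LD2_c31 LD3_c45) (LK LD1_c0 LD2_c42 LD3_c27) Lrfl Lrfl
theorem f125560 : Led Lsl_bt (LP (LK LD1_c1 LD2_c47 LD3_c11)) = (LP (LK LD1_c1 LD2_c31 LD3_c45)) :=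
  Lgr Lrot119 (Lpe (f107293 IH) (Lpr_bf (K5.f125555 IH) (Lpe (f125535 IH) (Lpn (LP (LK LD1_c1 LD2_c31 LD3_c45))))))
theorem f209057 : Led Lsl_af (LP (LK LD1_c2 LD2_c18 LD3_c5)) = (LP (LK LD1_c1 LD2_c31 LD3_c45)) :=
  Lgr Lrot36 (Lpe (f124463 IH) (Lpr_at (f130956 IH) (Lpe (K6.f26234 IH) (Lpr_at (f209055 IH) (Lpr_bt (f125560 IH) (Lpn (LP (LK LD1_c1 LD2_c31 LD3_c45))))))))
theorem f209069 : Led Lsl_at (LP (LK LD1_c2 LD2_c18 LD3_c5)) = (LP (LK LD1_c1 LD2_c31 LD3_c45)) :=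
  Lgr Lrot100 (Lpr_af (f209057 IH) (Lpn (LP (LK LD1_c1 LD2_c31 LD3_c45))))
theorem f527798 : v2238 = (LP (LK LD1_c1 LD2_c31 LD3_c45)) :=
  (Llr Lrot46 (Lpe (f510423 IH) (Lpr_gf (f510424 IH) (Lpr_ft (f527794 IH) (Lpr_at (f209069 IH) (Lpn (LP (LK LD1_c1 LD2_c31 LD3_c45)))))))).symm
theorem f527800 : Led Lsl_gt (LP (LK LD1_c1 LD2_c38 LD3_c25)) = (LP (LK LD1_c1 LD2_c31 LD3_c45)) :=
  Leop (Lpq (f527798 IH) (Lpe (f510423 IH) (Lpn (LP (LK LD1_c1 LD2_c38 LD3_c25)))))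
theorem seed_211 : LEOK LG_g (LK LD1_c1 LD2_c38 LD3_c25) :=
  Leoe_g (LK LD1_c1 LD2_c38 LD3_c25) (f527800 IH)
def v2241 : LQ := Led Lsl_dt (LP (LK LD1_c1 LD2_c38 LD3_c25))
theorem f510427 : Led Lsl_dt (LP (LK LD1_c1 LD2_c38 LD3_c25)) = v2241 :=
  Lrfl
theorem f510429 : Led Lsl_df (LP (LK LD1_c1 LD2_c38 LD3_c25)) = v2241 :=
  Lgr Lrot38 (Lpr_dt (f510427 IH) (Lpn v2241))
theorem f79724 : Led Lsl_bt (LP (LK LD1_c1 LD2_c38 LD3_c25)) = (LP (LK LD1_c0 LD2_c45 LD3_c36)) :=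
  Lre_b IH (LK LD1_c1 LD2_c38 LD3_c25) (LK LD1_c0 LD2_c45 LD3_c36) Lrfl Lrfl
theorem f510430 : Led Lsl_bt (LP (LK LD1_c1 LD2_c38 LD3_c26)) = v2241 :=
  Lgr Lrot95 (Lpe (K9.f13574 IH) (Lpe (f79724 IH) (Lpr_df (f510429 IH) (Lpn v2241))))
def v2213 : LQ := Led Lsl_bt (LP (LK LD1_c1 LD2_c37 LD3_c38))
theorem f509704 : Led Lsl_bt (LP (LK LD1_c1 LD2_c37 LD3_c38)) = v2213 :=
  Lrfl
theorem f509705 : Led Lsl_bf (LP (LK LD1_c1 LD2_c37 LD3_c38)) = v2213 :=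
  Lgr Lrot24 (Lpr_bt (f509704 IH) (Lpn v2213))
theorem f510431 : Led Lsl_ef v2213 = v2241 :=
  Lgr Lrot29 (Lpe (f509705 IH) (Lpr_et (K32.f79716 IH) (Lpr_bt (f510430 IH) (Lpn v2241))))
theorem f104346 : Led Lsl_et (LP (LK LD1_c1 LD2_c33 LD3_c11)) = (LP (LK LD1_c0 LD2_c43 LD3_c7)) :=
  Lre_e IH (LK LD1_c1 LD2_c33 LD3_c11) (LK LD1_c0 LD2_c43 LD3_c7) Lrfl Lrfl
theorem f124432 : Led Lsl_df (LP (LK LD1_c1 LD2_c33 LD3_c11)) = (LP (LK LD1_c2 LD2_c18 LD3_c5)) :=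
  Lgr Lrot70 (Lpr_et (f104346 IH) (Lpe (K3.f104340 IH) (Lpe (K8.f105634 IH) (Lpr_dt (K5.f124423 IH) (Lpr_et (f124431 IH) (Lpn (LP (LK LD1_c2 LD2_c18 LD3_c5))))))))
theorem f209072 : Led Lsl_dt (LP (LK LD1_c1 LD2_c31 LD3_c36)) = (LP (LK LD1_c1 LD2_c31 LD3_c45)) :=
  Lgr Lrot44 (Lpe (f129061 IH) (Lpr_df (f124432 IH) (Lpr_af (f209057 IH) (Lpn (LP (LK LD1_c1 LD2_c31 LD3_c45))))))
def v124 : LQ := Led Lsl_dt (LP (LK LD1_c0 LD2_c19 LD3_c12))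
theorem f450585 : Led Lsl_dt (LP (LK LD1_c0 LD2_c19 LD3_c12)) = v124 :=
  Lrfl
theorem f79293 : Led Lsl_dt (LP (LK LD1_c0 LD2_c43 LD3_c59)) = (LP (LK LD1_c1 LD2_c34 LD3_c35)) :=
  Lre_d IH (LK LD1_c0 LD2_c43 LD3_c59) (LK LD1_c1 LD2_c34 LD3_c35) Lrfl Lrfl
theorem f450590 : Led Lsl_gf (LP (LK LD1_c0 LD2_c42 LD3_c23)) = v124 :=
  Lgr Lrot143 (Lpr_dt (K5.f82419 IH) (Lpe (K3.f82408 IH) (Lpe (K30.f82414 IH) (Lpe (K30.f208104 IH) (Lpe (f79293 IH) (Lpr_gf (K3.f79295 IH) (Lpe (K3.f26090 IH) (Lpe (K5.f82297 IH) (Lpr_dt (f450585 IH) (Lpn v124))))))))))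
theorem f207531 : Led Lsl_ff (LP (LK LD1_c12 LD2_c39 LD3_c31)) = (LP (LK LD1_c12 LD2_c28 LD3_c16)) :=
  Lgr Lrot3 (Lpr_ft (K32.f207524 IH) (Lpn (LP (LK LD1_c12 LD2_c28 LD3_c16))))
theorem f207629 : Led Lsl_bf (LP (LK LD1_c9 LD2_c20 LD3_c44)) = (LP (LK LD1_c12 LD2_c39 LD3_c31)) :=
  Lgr Lrot61 (Lpr_ft (K24.f207625 IH) (Lpr_bt (K32.f207508 IH) (Lpe (f207531 IH) (Lpn (LP (LK LD1_c12 LD2_c39 LD3_c31))))))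
theorem f96293 : Led Lsl_df (LP (LK LD1_c3 LD2_c45 LD3_c23)) = (LP (LK LD1_c6 LD2_c36 LD3_c52)) :=
  Lgr Lrot38 (Lpr_dt (K4.f96287 IH) (Lpn (LP (LK LD1_c6 LD2_c36 LD3_c52))))
theorem f96299 : Led Lsl_at (LP (LK LD1_c3 LD2_c45 LD3_c23)) = (LP (LK LD1_c7 LD2_c31 LD3_c27)) :=
  Lre_a IH (LK LD1_c3 LD2_c45 LD3_c23) (LK LD1_c7 LD2_c31 LD3_c27) Lrfl Lrfl
theorem f96300 : Led Lsl_at (LP (LK LD1_c12 LD2_c39 LD3_c31)) = (LP (LK LD1_c6 LD2_c36 LD3_c52)) :=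
  Lre_a IH (LK LD1_c12 LD2_c39 LD3_c31) (LK LD1_c6 LD2_c36 LD3_c52) Lrfl Lrfl
theorem f96301 : Led Lsl_dt (LP (LK LD1_c7 LD2_c31 LD3_c27)) = (LP (LK LD1_c12 LD2_c39 LD3_c31)) :=
  Lgr Lrot44 (Lpe (f96299 IH) (Lpr_df (f96293 IH) (Lpe (f96300 IH) (Lpn (LP (LK LD1_c12 LD2_c39 LD3_c31))))))
theorem f207645 : Led Lsl_bf (LP (LK LD1_c7 LD2_c31 LD3_c27)) = (LP (LK LD1_c6 LD2_c34 LD3_c18)) :=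
  Lgr Lrot93 (Lpr_dt (f96301 IH) (Lpe (f207629 IH) (Lpr_dt (K24.f207641 IH) (Lpn (LP (LK LD1_c6 LD2_c34 LD3_c18))))))
theorem f96304 : Led Lsl_et (LP (LK LD1_c7 LD2_c31 LD3_c27)) = (LP (LK LD1_c14 LD2_c11 LD3_c50)) :=
  Lre_e IH (LK LD1_c7 LD2_c31 LD3_c27) (LK LD1_c14 LD2_c11 LD3_c50) Lrfl Lrfl
theorem f207643 : Led Lsl_et (LP (LK LD1_c12 LD2_c35 LD3_c7)) = (LP (LK LD1_c6 LD2_c34 LD3_c18)) :=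
  Lre_e IH (LK LD1_c12 LD2_c35 LD3_c7) (LK LD1_c6 LD2_c34 LD3_c18) Lrfl Lrfl
theorem f209199 : Led Lsl_bt (LP (LK LD1_c14 LD2_c11 LD3_c50)) = (LP (LK LD1_c12 LD2_c35 LD3_c7)) :=
  Lgr Lrot119 (Lpe (f96304 IH) (Lpr_bf (f207645 IH) (Lpe (f207643 IH) (Lpn (LP (LK LD1_c12 LD2_c35 LD3_c7))))))
theorem f209205 : Led Lsl_bf (LP (LK LD1_c14 LD2_c11 LD3_c50)) = (LP (LK LD1_c12 LD2_c35 LD3_c7)) :=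
  Lgr Lrot24 (Lpr_bt (f209199 IH) (Lpn (LP (LK LD1_c12 LD2_c35 LD3_c7))))
theorem f209208 : Led Lsl_at (LP (LK LD1_c14 LD2_c11 LD3_c50)) = (LP (LK LD1_c7 LD2_c31 LD3_c28)) :=
  Lre_a IH (LK LD1_c14 LD2_c11 LD3_c50) (LK LD1_c7 LD2_c31 LD3_c28) Lrfl Lrfl
theorem f209209 : Led Lsl_bt (LP (LK LD1_c7 LD2_c31 LD3_c28)) = (LP (LK LD1_c3 LD2_c45 LD3_c24)) :=
  Lre_b IH (LK LD1_c7 LD2_c31 LD3_c28) (LK LD1_c3 LD2_c45 LD3_c24) Lrfl Lrfl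
theorem f208886 : Led Lsl_at (LP (LK LD1_c6 LD2_c34 LD3_c19)) = (LP (LK LD1_c12 LD2_c35 LD3_c7)) :=
  Lre_a IH (LK LD1_c6 LD2_c34 LD3_c19) (LK LD1_c12 LD2_c35 LD3_c7) Lrfl Lrfl
theorem f108707 : Led Lsl_bt (LP (LK LD1_c3 LD2_c15 LD3_c32)) = (LP (LK LD1_c6 LD2_c34 LD3_c19)) :=
  Lre_b IH (LK LD1_c3 LD2_c15 LD3_c32) (LK LD1_c6 LD2_c34 LD3_c19) Lrfl Lrfl
theorem f209210 : Led Lsl_at (LP (LK LD1_c3 LD2_c45 LD3_c24)) = (LP (LK LD1_c3 LD2_c15 LD3_c32)) :=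
  Lgr Lrot67 (Lpe (f209209 IH) (Lpe (f209208 IH) (Lpr_bf (f209205 IH) (Lpe (f208886 IH) (Lpe (f108707 IH) (Lpn (LP (LK LD1_c3 LD2_c15 LD3_c32))))))))
theorem f209220 : Led Lsl_ft (LP (LK LD1_c7 LD2_c31 LD3_c32)) = (LP (LK LD1_c3 LD2_c45 LD3_c24)) :=
  Lre_f IH (LK LD1_c7 LD2_c31 LD3_c32) (LK LD1_c3 LD2_c45 LD3_c24) Lrfl Lrfl
theorem f108711 : Led Lsl_ft (LP (LK LD1_c3 LD2_c15 LD3_c32)) = (LP (LK LD1_c6 LD2_c34 LD3_c22)) :=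
  Lre_f IH (LK LD1_c3 LD2_c15 LD3_c32) (LK LD1_c6 LD2_c34 LD3_c22) Lrfl Lrfl
theorem f209221 : Led Lsl_af (LP (LK LD1_c7 LD2_c31 LD3_c32)) = (LP (LK LD1_c6 LD2_c34 LD3_c22)) :=
  Lgr Lrot45 (Lpr_ft (f209220 IH) (Lpr_at (f209210 IH) (Lpr_ft (f108711 IH) (Lpn (LP (LK LD1_c6 LD2_c34 LD3_c22))))))
theorem f209227 : Led Lsl_ct (LP (LK LD1_c7 LD2_c31 LD3_c32)) = (LP (LK LD1_c3 LD2_c45 LD3_c28)) :=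
  Lre_c IH (LK LD1_c7 LD2_c31 LD3_c32) (LK LD1_c3 LD2_c45 LD3_c28) Lrfl Lrfl
theorem f103935 : Led Lsl_et (LP (LK LD1_c3 LD2_c15 LD3_c32)) = (LP (LK LD1_c1 LD2_c34 LD3_c30)) :=
  Lre_e IH (LK LD1_c3 LD2_c15 LD3_c32) (LK LD1_c1 LD2_c34 LD3_c30) Lrfl Lrfl
theorem f62657 : Led Lsl_et (LP (LK LD1_c1 LD2_c40 LD3_c59)) = (LP (LK LD1_c3 LD2_c28 LD3_c32)) :=
  Lre_e IH (LK LD1_c1 LD2_c40 LD3_c59) (LK LD1_c3 LD2_c28 LD3_c32) Lrfl Lrfl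
theorem f108694 : Led Lsl_cf (LP (LK LD1_c3 LD2_c15 LD3_c32)) = (LP (LK LD1_c3 LD2_c28 LD3_c32)) :=
  Lgr Lrot39 (Lpr_et (f103935 IH) (Lpr_ct (K3.f108690 IH) (Lpr_et (f62657 IH) (Lpn (LP (LK LD1_c3 LD2_c28 LD3_c32))))))
theorem f108712 : Led Lsl_ft (LP (LK LD1_c6 LD2_c58 LD3_c60)) = (LP (LK LD1_c3 LD2_c28 LD3_c32)) :=
  Lre_f IH (LK LD1_c6 LD2_c58 LD3_c60) (LK LD1_c3 LD2_c28 LD3_c32) Lrfl Lrfl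
theorem f108713 : Led Lsl_ct (LP (LK LD1_c6 LD2_c34 LD3_c22)) = (LP (LK LD1_c6 LD2_c58 LD3_c60)) :=
  Lgr Lrot40 (Lpe (f108711 IH) (Lpr_cf (f108694 IH) (Lpe (f108712 IH) (Lpn (LP (LK LD1_c6 LD2_c58 LD3_c60))))))
theorem f108718 : Led Lsl_cf (LP (LK LD1_c6 LD2_c34 LD3_c22)) = (LP (LK LD1_c6 LD2_c58 LD3_c60)) :=
  Lgr Lrot11 (Lpr_ct (f108713 IH) (Lpn (LP (LK LD1_c6 LD2_c58 LD3_c60))))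
theorem f209228 : Led Lsl_at (LP (LK LD1_c3 LD2_c45 LD3_c28)) = (LP (LK LD1_c6 LD2_c58 LD3_c60)) :=
  Lgr Lrot107 (Lpe (f209227 IH) (Lpr_af (f209221 IH) (Lpr_cf (f108718 IH) (Lpn (LP (LK LD1_c6 LD2_c58 LD3_c60))))))
theorem f209231 : Led Lsl_af (LP (LK LD1_c3 LD2_c45 LD3_c28)) = (LP (LK LD1_c6 LD2_c58 LD3_c60)) :=
  Lgr Lrot0 (Lpr_at (f209228 IH) (Lpn (LP (LK LD1_c6 LD2_c58 LD3_c60))))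
theorem f209236 : Led Lsl_ft (LP (LK LD1_c3 LD2_c45 LD3_c28)) = (LP (LK LD1_c1 LD2_c49 LD3_c52)) :=
  Lre_f IH (LK LD1_c3 LD2_c45 LD3_c28) (LK LD1_c1 LD2_c49 LD3_c52) Lrfl Lrfl
theorem f108725 : Led Lsl_ft (LP (LK LD1_c3 LD2_c28 LD3_c32)) = (LP (LK LD1_c6 LD2_c58 LD3_c60)) :=
  Lre_f IH (LK LD1_c3 LD2_c28 LD3_c32) (LK LD1_c6 LD2_c58 LD3_c60) Lrfl Lrfl
theorem f209237 : Led Lsl_at (LP (LK LD1_c1 LD2_c49 LD3_c52)) = (LP (LK LD1_c3 LD2_c28 LD3_c32)) :=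
  Lgr Lrot66 (Lpe (f209236 IH) (Lpr_af (f209231 IH) (Lpe (f108725 IH) (Lpn (LP (LK LD1_c3 LD2_c28 LD3_c32))))))
theorem f109205 : Led Lsl_et (LP (LK LD1_c0 LD2_c51 LD3_c46)) = (LP (LK LD1_c1 LD2_c49 LD3_c52)) :=
  Lre_e IH (LK LD1_c0 LD2_c51 LD3_c46) (LK LD1_c1 LD2_c49 LD3_c52) Lrfl Lrfl
theorem f95737 : Led Lsl_et (LP (LK LD1_c3 LD2_c28 LD3_c32)) = (LP (LK LD1_c1 LD2_c40 LD3_c59)) :=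
  Lre_e IH (LK LD1_c3 LD2_c28 LD3_c32) (LK LD1_c1 LD2_c40 LD3_c59) Lrfl Lrfl
theorem f209242 : Led Lsl_af (LP (LK LD1_c0 LD2_c51 LD3_c46)) = (LP (LK LD1_c1 LD2_c40 LD3_c59)) :=
  Lgr Lrot50 (Lpr_et (f109205 IH) (Lpr_at (f209237 IH) (Lpr_et (f95737 IH) (Lpn (LP (LK LD1_c1 LD2_c40 LD3_c59))))))
theorem f209248 : Led Lsl_at (LP (LK LD1_c0 LD2_c42 LD3_c23)) = (LP (LK LD1_c0 LD2_c43 LD3_c6)) :=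
  Lgr Lrot67 (Lpr_bf (K5.f109198 IH) (Lpr_af (f209242 IH) (Lpe (K7.f17737 IH) (Lpe (K7.f129095 IH) (Lpe (K8.f68459 IH) (Lpn (LP (LK LD1_c0 LD2_c43 LD3_c6))))))))
theorem f209250 : Led Lsl_af (LP (LK LD1_c0 LD2_c42 LD3_c23)) = (LP (LK LD1_c0 LD2_c43 LD3_c6)) :=
  Lgr Lrot0 (Lpr_at (f209248 IH) (Lpn (LP (LK LD1_c0 LD2_c43 LD3_c6))))
theorem f129049 : Led Lsl_ff (LP (LK LD1_c0 LD2_c43 LD3_c6)) = (LP (LK LD1_c0 LD2_c42 LD3_c20)) :=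
  Lgr Lrot19 (Lpe (K5.f128915 IH) (Lpr_ft (K5.f129047 IH) (Lpr_dt (K5.f16667 IH) (Lpn (LP (LK LD1_c0 LD2_c42 LD3_c20))))))
theorem f450591 : Led Lsl_gt (LP (LK LD1_c0 LD2_c42 LD3_c20)) = v124 :=
  Lgr Lrot5 (Lpe (f129049 IH) (Lpe (f209250 IH) (Lpr_gf (f450590 IH) (Lpn v124))))
theorem f450588 : Led Lsl_df (LP (LK LD1_c0 LD2_c19 LD3_c12)) = v124 :=
  Lgr Lrot38 (Lpr_dt (f450585 IH) (Lpn v124))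
theorem f124429 : Led Lsl_df (LP (LK LD1_c0 LD2_c30 LD3_c39)) = (LP (LK LD1_c1 LD2_c6 LD3_c4)) :=
  Lgr Lrot38 (Lpr_dt (K5.f124423 IH) (Lpn (LP (LK LD1_c1 LD2_c6 LD3_c4))))
theorem f527808 : Led Lsl_gf v2213 = (LP (LK LD1_c2 LD2_c18 LD3_c5)) :=
  Lgr Lrot141 (Lpr_ef (f510431 IH) (Lpe (f510429 IH) (Lpr_gt (f510423 IH) (Lpqs (f527798 IH) (Lpe (f209072 IH) (Lpr_et (f128355 IH) (Lpr_gt (f450591 IH) (Lpe (f450588 IH) (Lpe (K5.f124420 IH) (Lpr_df (f124429 IH) (Lpr_et (f124431 IH) (Lpn (LP (LK LD1_c2 LD2_c18 LD3_c5))))))))))))))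
theorem f76944 : Led Lsl_bt (LP (LK LD1_c0 LD2_c19 LD3_c57)) = (LP (LK LD1_c0 LD2_c44 LD3_c25)) :=
  Lre_b IH (LK LD1_c0 LD2_c19 LD3_c57) (LK LD1_c0 LD2_c44 LD3_c25) Lrfl Lrfl
theorem f140004 : Led Lsl_ct (LP (LK LD1_c1 LD2_c34 LD3_c56)) = (LP (LK LD1_c3 LD2_c16 LD3_c26)) :=
  Lre_c IH (LK LD1_c1 LD2_c34 LD3_c56) (LK LD1_c3 LD2_c16 LD3_c26) Lrfl Lrfl
theorem f124465 : Led Lsl_bt (LP (LK LD1_c1 LD2_c49 LD3_c43)) = (LP (LK LD1_c2 LD2_c18 LD3_c5)) :=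
  Lgr Lrot127 (Lpr_bf (f124463 IH) (Lpn (LP (LK LD1_c2 LD2_c18 LD3_c5))))
theorem f527810 : Led Lsl_gt (LP (LK LD1_c3 LD2_c16 LD3_c26)) = (LP (LK LD1_c3 LD2_c45 LD3_c11)) :=
  Lgr Lrot149 (Lpe (f140004 IH) (Lpe (K24.f140003 IH) (Lpe (f76944 IH) (Lpr_ct (K17.f76943 IH) (Lpe (K0.f27113 IH) (Lpr_cf (K9.f139984 IH) (Lpr_bt (f509704 IH) (Lpr_gf (f527808 IH) (Lpe (f124465 IH) (Lpr_ct (K5.f124467 IH) (Lpn (LP (LK LD1_c3 LD2_c45 LD3_c11)))))))))))))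
theorem f527811 : Led Lsl_gt (LP (LK LD1_c3 LD2_c16 LD3_c26)) = (LP (LK LD1_c3 LD2_c45 LD3_c11)) :=
  Leop (Lpe (f527810 IH) (Lpn (LP (LK LD1_c3 LD2_c16 LD3_c26))))
theorem seed_212 : LEOK LG_g (LK LD1_c3 LD2_c16 LD3_c26) :=
  Leoe_g (LK LD1_c3 LD2_c16 LD3_c26) (f527811 IH)
theorem f62113 : Led Lsl_dt (LP (LK LD1_c0 LD2_c44 LD3_c25)) = (LP (LK LD1_c1 LD2_c27 LD3_c9)) :=
  Lre_d IH (LK LD1_c0 LD2_c44 LD3_c25) (LK LD1_c1 LD2_c27 LD3_c9) Lrfl Lrfl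
theorem f139986 : Led Lsl_ct (LP (LK LD1_c3 LD2_c1 LD3_c46)) = (LP (LK LD1_c6 LD2_c10 LD3_c21)) :=
  Lre_c IH (LK LD1_c3 LD2_c1 LD3_c46) (LK LD1_c6 LD2_c10 LD3_c21) Lrfl Lrfl
theorem f105636 : Led Lsl_df (LP (LK LD1_c1 LD2_c49 LD3_c43)) = (LP (LK LD1_c3 LD2_c13 LD3_c25)) :=
  Lgr Lrot70 (Lpr_et (f62658 IH) (Lpr_dt (K1.f62309 IH) (Lpr_et (K3.f105632 IH) (Lpr_dt (K3.f104344 IH) (Lpr_et (K5.f65591 IH) (Lpn (LP (LK LD1_c3 LD2_c13 LD3_c25))))))))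
theorem f65567 : Led Lsl_et (LP (LK LD1_c1 LD2_c34 LD3_c29)) = (LP (LK LD1_c3 LD2_c15 LD3_c29)) :=
  Lre_e IH (LK LD1_c1 LD2_c34 LD3_c29) (LK LD1_c3 LD2_c15 LD3_c29) Lrfl Lrfl
theorem f65569 : Led Lsl_ct (LP (LK LD1_c3 LD2_c15 LD3_c29)) = (LP (LK LD1_c3 LD2_c13 LD3_c25)) :=
  Lgr Lrot15 (Lpe (f65567 IH) (Lpr_cf (K3.f65391 IH) (Lpe (K5.f65568 IH) (Lpn (LP (LK LD1_c3 LD2_c13 LD3_c25))))))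
theorem f527812 : Led Lsl_gt (LP (LK LD1_c6 LD2_c10 LD3_c21)) = (LP (LK LD1_c3 LD2_c15 LD3_c29)) :=
  Lgr Lrot150 (Lpe (f139986 IH) (Lpe (K9.f62114 IH) (Lpe (f62113 IH) (Lpr_gt (K24.f140003 IH) (Lpr_ct (f140004 IH) (Lpr_gt (f527810 IH) (Lpr_ct (f124472 IH) (Lpr_df (f105636 IH) (Lpe (f65569 IH) (Lpn (LP (LK LD1_c3 LD2_c15 LD3_c29))))))))))))
theorem f139987 : Led Lsl_bt (LP (LK LD1_c1 LD2_c32 LD3_c48)) = (LP (LK LD1_c3 LD2_c12 LD3_c42)) :=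
  Lre_b IH (LK LD1_c1 LD2_c32 LD3_c48) (LK LD1_c3 LD2_c12 LD3_c42) Lrfl Lrfl
theorem f65579 : Led Lsl_cf (LP (LK LD1_c3 LD2_c15 LD3_c29)) = (LP (LK LD1_c3 LD2_c13 LD3_c25)) :=
  Lgr Lrot11 (Lpr_ct (f65569 IH) (Lpn (LP (LK LD1_c3 LD2_c13 LD3_c25))))
def v1994 : LQ := Led Lsl_gt (LP (LK LD1_c1 LD2_c33 LD3_c11))
theorem f506785 : Led Lsl_gt (LP (LK LD1_c1 LD2_c33 LD3_c11)) = v1994 :=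
  Lrfl
theorem f527823 : (LP (LK LD1_c3 LD2_c12 LD3_c42)) = v1994 :=
  (Llr Lrot92 (Lpe (f139987 IH) (Lpe (K9.f139974 IH) (Lpr_gt (K9.f22914 IH) (Lpe (K9.f61046 IH) (Lpr_bt (K9.f61059 IH) (Lpr_gt (K9.f62114 IH) (Lpr_ct (f139986 IH) (Lpr_gt (f527812 IH) (Lpr_cf (f65579 IH) (Lpr_bt (f65574 IH) (Lpr_gt (f506785 IH) (Lpn v1994))))))))))))).symm
def v1996 : LQ := Led Lsl_ft (LP (LK LD1_c1 LD2_c33 LD3_c11))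
theorem f506788 : Led Lsl_ft (LP (LK LD1_c1 LD2_c33 LD3_c11)) = v1996 :=
  Lrfl
theorem f209078 : Led Lsl_df (LP (LK LD1_c1 LD2_c31 LD3_c36)) = (LP (LK LD1_c1 LD2_c31 LD3_c45)) :=
  Lgr Lrot38 (Lpr_dt (f209072 IH) (Lpn (LP (LK LD1_c1 LD2_c31 LD3_c45))))
theorem f124469 : Led Lsl_dt (LP (LK LD1_c1 LD2_c33 LD3_c11)) = (LP (LK LD1_c2 LD2_c18 LD3_c5)) :=
  Lgr Lrot79 (Lpe (f65574 IH) (Lpe (K5.f105630 IH) (Lpr_bf (f124463 IH) (Lpn (LP (LK LD1_c2 LD2_c18 LD3_c5))))))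
theorem f209082 : Led Lsl_at (LP (LK LD1_c1 LD2_c31 LD3_c36)) = (LP (LK LD1_c1 LD2_c33 LD3_c11)) :=
  Lgr Lrot51 (Lpr_df (f209078 IH) (Lpe (f209069 IH) (Lpe (f124469 IH) (Lpn (LP (LK LD1_c1 LD2_c33 LD3_c11))))))
theorem f129087 : Led Lsl_ft (LP (LK LD1_c3 LD2_c10 LD3_c34)) = (LP (LK LD1_c1 LD2_c31 LD3_c36)) :=
  Lre_f IH (LK LD1_c3 LD2_c10 LD3_c34) (LK LD1_c1 LD2_c31 LD3_c36) Lrfl Lrfl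
theorem f506789 : Led Lsl_af (LP (LK LD1_c3 LD2_c10 LD3_c34)) = v1996 :=
  Lgr Lrot45 (Lpr_ft (f129087 IH) (Lpr_at (f209082 IH) (Lpr_ft (f506788 IH) (Lpn v1996))))
theorem f506792 : Led Lsl_gt v1994 = (LP (LK LD1_c3 LD2_c10 LD3_c34)) :=
  Lgr Lrot46 (Lpe (f506785 IH) (Lpr_ft (f506788 IH) (Lpe (f506789 IH) (Lpn (LP (LK LD1_c3 LD2_c10 LD3_c34))))))
theorem f527824 : Led Lsl_gt (LP (LK LD1_c3 LD2_c12 LD3_c42)) = (LP (LK LD1_c3 LD2_c10 LD3_c34)) :=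
  Leop (Lpe (f506792 IH) (Lpq (f527823 IH) (Lpn (LP (LK LD1_c3 LD2_c12 LD3_c42)))))
theorem seed_213 : LEOK LG_g (LK LD1_c3 LD2_c12 LD3_c42) :=
  Leoe_g (LK LD1_c3 LD2_c12 LD3_c42) (f527824 IH)
def v2627 : LQ := Led Lsl_gf (LP (LK LD1_c1 LD2_c50 LD3_c14))
theorem f527943 : Led Lsl_gf (LP (LK LD1_c1 LD2_c50 LD3_c14)) = v2627 :=
  Lrfl
def v2582 : LQ := Led Lsl_at (LP (LK LD1_c1 LD2_c49 LD3_c13))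
theorem f527605 : Led Lsl_at (LP (LK LD1_c1 LD2_c49 LD3_c13)) = v2582 :=
  Lrfl
theorem f527606 : Led Lsl_af (LP (LK LD1_c1 LD2_c49 LD3_c13)) = v2582 :=
  Lgr Lrot0 (Lpr_at (f527605 IH) (Lpn v2582))
theorem f527945 : Led Lsl_ff v2582 = v2627 :=
  Lgr Lrot52 (Lpe (f527606 IH) (Lpr_gf (K33.f511466 IH) (Lpr_gf (f527943 IH) (Lpn v2627))))
theorem f527954 : Led Lsl_ft v2582 = v2627 :=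
  Lgr Lrot48 (Lpr_ff (f527945 IH) (Lpn v2627))
def v2584 : LQ := Led Lsl_ft (LP (LK LD1_c1 LD2_c49 LD3_c13))
theorem f527611 : Led Lsl_ft (LP (LK LD1_c1 LD2_c49 LD3_c13)) = v2584 :=
  Lrfl
theorem f527613 : Led Lsl_ff (LP (LK LD1_c1 LD2_c49 LD3_c13)) = v2584 :=
  Lgr Lrot3 (Lpr_ft (f527611 IH) (Lpn v2584))
theorem f527955 : Led Lsl_af v2584 = v2627 :=
  Lgr Lrot45 (Lpe (f527613 IH) (Lpr_at (f527605 IH) (Lpr_ft (f527954 IH) (Lpn v2627))))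
theorem f527612 : Led Lsl_bf v812 = v2584 :=
  Lgr Lrot61 (Lpe (f459524 IH) (Lpr_bt (K33.f459508 IH) (Lpr_ft (f527611 IH) (Lpn v2584))))
def v2590 : LQ := Led Lsl_at (LP (LK LD1_c1 LD2_c49 LD3_c16))
theorem f527639 : Led Lsl_at (LP (LK LD1_c1 LD2_c49 LD3_c16)) = v2590 :=
  Lrfl
theorem f102461 : Led Lsl_bt (LP (LK LD1_c1 LD2_c39 LD3_c38)) = (LP (LK LD1_c0 LD2_c46 LD3_c25)) :=
  Lre_b IH (LK LD1_c1 LD2_c39 LD3_c38) (LK LD1_c0 LD2_c46 LD3_c25) Lrfl Lrfl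
theorem f511336 : Led Lsl_bt K33.v594 = K33.v2264 :=
  Lgr Lrot35 (Lpe (K33.f455088 IH) (Lpe (f102461 IH) (Lpr_ff (K33.f511335 IH) (Lpn K33.v2264))))
def v2269 : LQ := Led Lsl_ft (LP (LK LD1_c1 LD2_c39 LD3_c45))
theorem f511367 : Led Lsl_ft (LP (LK LD1_c1 LD2_c39 LD3_c45)) = v2269 :=
  Lrfl
theorem f511370 : Led Lsl_ff (LP (LK LD1_c1 LD2_c39 LD3_c45)) = v2269 :=
  Lgr Lrot3 (Lpr_ft (f511367 IH) (Lpn v2269))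
theorem f511371 : Led Lsl_ct K33.v594 = v2269 :=
  Lgr Lrot40 (Lpe (K33.f455088 IH) (Lpe (K33.f102435 IH) (Lpr_ff (f511370 IH) (Lpn v2269))))
theorem f102428 : Led Lsl_at (LP (LK LD1_c1 LD2_c39 LD3_c45)) = (LP (LK LD1_c3 LD2_c24 LD3_c36)) :=
  Lgr Lrot100 (Lpr_af (K4.f102426 IH) (Lpn (LP (LK LD1_c3 LD2_c24 LD3_c36))))
theorem f511373 : Led Lsl_gf (LP (LK LD1_c6 LD2_c51 LD3_c44)) = v2269 :=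
  Lgr Lrot47 (Lpr_gt (K29.f65928 IH) (Lpe (f102428 IH) (Lpr_ff (f511370 IH) (Lpn v2269))))
theorem f473817 : Led Lsl_et (LP (LK LD1_c3 LD2_c29 LD3_c19)) = (LP (LK LD1_c7 LD2_c0 LD3_c15)) :=
  Lre_e IH (LK LD1_c3 LD2_c29 LD3_c19) (LK LD1_c7 LD2_c0 LD3_c15) Lrfl Lrfl
theorem f473822 : Led Lsl_ct (LP (LK LD1_c6 LD2_c51 LD3_c44)) = (LP (LK LD1_c3 LD2_c29 LD3_c19)) :=
  Lgr Lrot15 (Lpe (K29.f425550 IH) (Lpr_cf (K29.f473820 IH) (Lpe (f473817 IH) (Lpn (LP (LK LD1_c3 LD2_c29 LD3_c19))))))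
theorem f473824 : Led Lsl_cf (LP (LK LD1_c6 LD2_c51 LD3_c44)) = (LP (LK LD1_c3 LD2_c29 LD3_c19)) :=
  Lgr Lrot11 (Lpr_ct (f473822 IH) (Lpn (LP (LK LD1_c3 LD2_c29 LD3_c19))))
theorem f527946 : Led Lsl_bt (LP (LK LD1_c3 LD2_c29 LD3_c19)) = v2627 :=
  Lgr Lrot130 (Lpe (f473824 IH) (Lpr_gf (f511373 IH) (Lpe (f511371 IH) (Lpr_bt (f511336 IH) (Lpe (f514846 IH) (Lpe (f457057 IH) (Lpr_ct (f5824 IH) (Lpr_gf (f514844 IH) (Lpe (f440975 IH) (Lpr_gf (f527943 IH) (Lpn v2627)))))))))))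
theorem f527956 : v2590 = (LP (LK LD1_c3 LD2_c29 LD3_c19)) :=
  (Llr Lrot67 (Lpe (f527639 IH) (Lpe (f459514 IH) (Lpr_af (f459523 IH) (Lpr_bf (f527612 IH) (Lpr_af (f527955 IH) (Lpe (f527946 IH) (Lpn (LP (LK LD1_c3 LD2_c29 LD3_c19)))))))))).symm
theorem f527640 : Led Lsl_af (LP (LK LD1_c1 LD2_c49 LD3_c16)) = v2590 :=
  Lgr Lrot0 (Lpr_at (f527639 IH) (Lpn v2590))
theorem f527957 : Led Lsl_at (LP (LK LD1_c3 LD2_c29 LD3_c19)) = (LP (LK LD1_c1 LD2_c49 LD3_c16)) :=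
  Leop (Lpr_af (f527640 IH) (Lpqs (f527956 IH) (Lpn (LP (LK LD1_c3 LD2_c29 LD3_c19)))))
theorem seed_214 : LEOK LG_a (LK LD1_c3 LD2_c29 LD3_c19) :=
  Leoe_a (LK LD1_c3 LD2_c29 LD3_c19) (f527957 IH)
def v1177 : LQ := Led Lsl_gf K30.v297
theorem f493517 : Led Lsl_gf K30.v297 = v1177 :=
  Lrfl
theorem f493784 : K30.v206 = v1177 :=
  Lefun (Lecon (Lfl_gt (K30.f455513 IH)) (K30.f493782 IH)) (f493517 IH)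
def v827 : LQ := Led Lsl_ft (LP (LK LD1_c0 LD2_c51 LD3_c61))
theorem f459595 : Led Lsl_ft (LP (LK LD1_c0 LD2_c51 LD3_c61)) = v827 :=
  Lrfl
theorem f459596 : Led Lsl_bf K30.v206 = v827 :=
  Lgr Lrot61 (Lpe (K30.f451078 IH) (Lpr_bt (K33.f120560 IH) (Lpr_ft (f459595 IH) (Lpn v827))))
def v2494 : LQ := Led Lsl_gt (LP (LK LD1_c1 LD2_c46 LD3_c47))
theorem f523439 : Led Lsl_gt (LP (LK LD1_c1 LD2_c46 LD3_c47)) = v2494 :=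
  Lrfl
theorem f523440 : Led Lsl_ct v827 = v2494 :=
  Lgr Lrot63 (Lpe (f459596 IH) (Lpqs (f493784 IH) (Lpe (f493517 IH) (Lpe (K30.f451571 IH) (Lpq (K24.f455958 IH) (Lpe (K29.f450937 IH) (Lpr_gt (K24.f4033 IH) (Lpr_cf (K2.f3933 IH) (Lpr_bt (K2.f5324 IH) (Lpr_gt (K33.f5328 IH) (Lpr_ct (f5824 IH) (Lpr_gt (f523439 IH) (Lpn v2494)))))))))))))
def v2491 : LQ := Led Lsl_gf (LP (LK LD1_c1 LD2_c46 LD3_c46))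
theorem f522777 : Led Lsl_gf (LP (LK LD1_c1 LD2_c46 LD3_c46)) = v2491 :=
  Lrfl
def v1052 : LQ := Led Lsl_ct v204
theorem f491183 : Led Lsl_ct v204 = v1052 :=
  Lrfl
theorem f493755 : K30.v1170 = v1052 :=
  Lefun (Lecon (K30.f493488 IH) (f493750 IH).symm) (f491183 IH)
def v1176 : LQ := Led Lsl_gt K30.v297
theorem f493515 : Led Lsl_gt K30.v297 = v1176 :=
  Lrfl
def v1169 : LQ := Led Lsl_at K30.v292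
theorem f493485 : Led Lsl_at K30.v292 = v1169 :=
  Lrfl
theorem f493516 : Led Lsl_gf v1169 = v1176 :=
  Lgr Lrot76 (Lpe (f493485 IH) (Lpe (f479067 IH) (Lpr_gt (f493515 IH) (Lpn v1176))))
def v615 : LQ := Led Lsl_gt (LP (LK LD1_c0 LD2_c47 LD3_c18))
theorem f455507 : Led Lsl_gt (LP (LK LD1_c0 LD2_c47 LD3_c18)) = v615 :=
  Lrfl
theorem f493783 : (LP (LK LD1_c0 LD2_c47 LD3_c18)) = v1176 :=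
  Lefun (Lecon (Lfl_gf (K30.f455512 IH)) (K30.f493782 IH)) (f493515 IH)
theorem f493785 : v1169 = v615 :=
  Lefun (Lecon (Lfl_gf (f493516 IH)) (f493783 IH).symm) (f455507 IH)
def v1178 : LQ := Led Lsl_at K30.v297
theorem f493518 : Led Lsl_at K30.v297 = v1178 :=
  Lrfl
theorem f493486 : Led Lsl_af K30.v292 = v1169 :=
  Lgr Lrot0 (Lpr_at (f493485 IH) (Lpn v1169))
theorem f493521 : Led Lsl_ff v1169 = v1178 :=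
  Lgr Lrot30 (Lpe (f493486 IH) (Lpe (K30.f479064 IH) (Lpr_at (f493518 IH) (Lpn v1178))))
def v841 : LQ := Led Lsl_ft (LP (LK LD1_c0 LD2_c52 LD3_c10))
theorem f459664 : Led Lsl_ft (LP (LK LD1_c0 LD2_c52 LD3_c10)) = v841 :=
  Lrfl
theorem f493749 : (LP (LK LD1_c0 LD2_c52 LD3_c10)) = v1178 :=
  Lefun (Lecon (Lfl_af (f459655 IH)) (K30.f493748 IH)) (f493518 IH)
theorem f493753 : v1169 = v841 :=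
  Lefun (Lecon (Lfl_ff (f493521 IH)) (f493749 IH).symm) (f459664 IH)
def v2055 : LQ := Led Lsl_et (LP (LK LD1_c1 LD2_c34 LD3_c27))
theorem f508595 : Led Lsl_et (LP (LK LD1_c1 LD2_c34 LD3_c27)) = v2055 :=
  Lrfl
theorem f63635 : Led Lsl_et (LP (LK LD1_c1 LD2_c41 LD3_c39)) = (LP (LK LD1_c0 LD2_c47 LD3_c22)) :=
  Lre_e IH (LK LD1_c1 LD2_c41 LD3_c39) (LK LD1_c0 LD2_c47 LD3_c22) Lrfl Lrfl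
theorem f508598 : Led Lsl_cf (LP (LK LD1_c1 LD2_c41 LD3_c39)) = v2055 :=
  Lgr Lrot39 (Lpr_et (f63635 IH) (Lpr_ct (K3.f103582 IH) (Lpr_et (f508595 IH) (Lpn v2055))))
def v2302 : LQ := Led Lsl_gt (LP (LK LD1_c1 LD2_c41 LD3_c39))
theorem f511969 : Led Lsl_gt (LP (LK LD1_c1 LD2_c41 LD3_c39)) = v2302 :=
  Lrfl
theorem f523441 : Led Lsl_et (LP (LK LD1_c3 LD2_c38 LD3_c53)) = v2494 :=
  Lgr Lrot122 (Lpr_dt (K28.f4415 IH) (Lpe (K28.f4416 IH) (Lpe (K28.f4438 IH) (Lpr_et (K28.f442108 IH) (Lpr_gt (K28.f10828 IH) (Lpr_dt (K33.f442120 IH) (Lpe (K33.f514785 IH) (Lpe (f514784 IH) (Lpr_et (f514795 IH) (Lpr_gt (f523439 IH) (Lpn v2494)))))))))))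
theorem f511852 : Led Lsl_gt (LP (LK LD1_c7 LD2_c19 LD3_c56)) = (LP (LK LD1_c7 LD2_c13 LD3_c38)) :=
  Lgr Lrot46 (Lpr_gf (K33.f511850 IH) (Lpr_ft (K29.f475078 IH) (Lpe (K29.f475131 IH) (Lpn (LP (LK LD1_c7 LD2_c13 LD3_c38))))))
theorem f511821 : Led Lsl_dt (LP (LK LD1_c3 LD2_c39 LD3_c51)) = (LP (LK LD1_c7 LD2_c19 LD3_c56)) :=
  Lre_d IH (LK LD1_c3 LD2_c39 LD3_c51) (LK LD1_c7 LD2_c19 LD3_c56) Lrfl Lrfl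
theorem f511857 : Led Lsl_et (LP (LK LD1_c3 LD2_c39 LD3_c51)) = (LP (LK LD1_c1 LD2_c46 LD3_c50)) :=
  Lre_e IH (LK LD1_c3 LD2_c39 LD3_c51) (LK LD1_c1 LD2_c46 LD3_c50) Lrfl Lrfl
theorem f523445 : Led Lsl_gf (LP (LK LD1_c1 LD2_c46 LD3_c50)) = v2494 :=
  Lgr Lrot141 (Lpe (f511857 IH) (Lpr_dt (f511821 IH) (Lpr_gt (f511852 IH) (Lpe (K29.f456836 IH) (Lpr_et (K29.f475106 IH) (Lpr_gt (K29.f475144 IH) (Lpr_dt (K29.f457000 IH) (Lpr_gt (K29.f476406 IH) (Lpe (K28.f4415 IH) (Lpr_et (f523441 IH) (Lpn v2494)))))))))))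
theorem f450953 : Led Lsl_ct (LP (LK LD1_c0 LD2_c50 LD3_c8)) = (LP (LK LD1_c1 LD2_c46 LD3_c50)) :=
  Lre_c IH (LK LD1_c0 LD2_c50 LD3_c8) (LK LD1_c1 LD2_c46 LD3_c50) Lrfl Lrfl
theorem f457062 : Led Lsl_bt (LP (LK LD1_c0 LD2_c50 LD3_c8)) = (LP (LK LD1_c1 LD2_c46 LD3_c49)) :=
  Lre_b IH (LK LD1_c0 LD2_c50 LD3_c8) (LK LD1_c1 LD2_c46 LD3_c49) Lrfl Lrfl
def v2499 : LQ := Led Lsl_gt (LP (LK LD1_c1 LD2_c46 LD3_c49))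
theorem f523631 : Led Lsl_gt (LP (LK LD1_c1 LD2_c46 LD3_c49)) = v2499 :=
  Lrfl
theorem f527614 : Led Lsl_bt v812 = v2584 :=
  Lgr Lrot35 (Lpe (f459522 IH) (Lpe (K33.f12863 IH) (Lpr_ff (f527613 IH) (Lpn v2584))))
theorem f483795 : Led Lsl_et (LP (LK LD1_c1 LD2_c49 LD3_c16)) = (LP (LK LD1_c3 LD2_c44 LD3_c30)) :=
  Lre_e IH (LK LD1_c1 LD2_c49 LD3_c16) (LK LD1_c3 LD2_c44 LD3_c30) Lrfl Lrfl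
theorem f527959 : Led Lsl_af (LP (LK LD1_c7 LD2_c0 LD3_c15)) = (LP (LK LD1_c3 LD2_c44 LD3_c30)) :=
  Lgr Lrot50 (Lpr_et (K29.f441697 IH) (Lpq (f527956 IH) (Lpe (f527640 IH) (Lpr_et (f483795 IH) (Lpn (LP (LK LD1_c3 LD2_c44 LD3_c30)))))))
theorem f477206 : Led Lsl_gt (LP (LK LD1_c7 LD2_c3 LD3_c14)) = (LP (LK LD1_c7 LD2_c22 LD3_c13)) :=
  Lgr Lrot94 (Lpe (K32.f477202 IH) (Lpr_gt (K29.f477204 IH) (Lpr_dt (K28.f92002 IH) (Lpe (K28.f473259 IH) (Lpr_dt (K28.f95024 IH) (Lpr_cf (K24.f95189 IH) (Lpe (K4.f106132 IH) (Lpe (K29.f17684 IH) (Lpr_df (K29.f108802 IH) (Lpn (LP (LK LD1_c7 LD2_c22 LD3_c13))))))))))))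
theorem f527967 : Led Lsl_ft (LP (LK LD1_c7 LD2_c3 LD3_c14)) = (LP (LK LD1_c3 LD2_c44 LD3_c30)) :=
  Lgr Lrot2 (Lpr_gt (f477206 IH) (Lpr_gt (K29.f479372 IH) (Lpr_af (f527959 IH) (Lpn (LP (LK LD1_c3 LD2_c44 LD3_c30))))))
def v2594 : LQ := Led Lsl_ft (LP (LK LD1_c1 LD2_c49 LD3_c18))
theorem f527679 : Led Lsl_ft (LP (LK LD1_c1 LD2_c49 LD3_c18)) = v2594 :=
  Lrfl
theorem f527975 : (LP (LK LD1_c3 LD2_c31 LD3_c46)) = v2594 :=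
  (Llr Lrot61 (Lpr_bt (K29.f477193 IH) (Lpr_ft (f527967 IH) (Lpr_bt (f483760 IH) (Lpr_ft (f527679 IH) (Lpn v2594)))))).symm
theorem f483763 : Led Lsl_df (LP (LK LD1_c1 LD2_c49 LD3_c18)) = (LP (LK LD1_c1 LD2_c54 LD3_c58)) :=
  Lgr Lrot38 (Lpr_dt (K33.f483758 IH) (Lpn (LP (LK LD1_c1 LD2_c54 LD3_c58))))
theorem f527982 : Led Lsl_ff (LP (LK LD1_c1 LD2_c54 LD3_c58)) = (LP (LK LD1_c1 LD2_c54 LD3_c19)) :=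
  Lgr Lrot19 (Lpe (f483763 IH) (Lpr_ft (f527679 IH) (Lpq (f527975 IH) (Lpr_dt (K32.f463659 IH) (Lpn (LP (LK LD1_c1 LD2_c54 LD3_c19)))))))
theorem f470098 : Led Lsl_gt (LP (LK LD1_c7 LD2_c28 LD3_c26)) = (LP (LK LD1_c7 LD2_c54 LD3_c34)) :=
  Lgr Lrot9 (Lpr_df (K28.f462423 IH) (Lpe (K32.f470055 IH) (Lpe (K32.f465822 IH) (Lpr_gt (K28.f159942 IH) (Lpr_ct (K28.f159938 IH) (Lpr_df (K33.f468137 IH) (Lpe (K28.f466166 IH) (Lpr_gf (K33.f470087 IH) (Lpe (K28.f451766 IH) (Lpn (LP (LK LD1_c7 LD2_c54 LD3_c34))))))))))))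
theorem f479814 : Led Lsl_gf (LP (LK LD1_c0 LD2_c54 LD3_c7)) = (LP (LK LD1_c1 LD2_c54 LD3_c19)) :=
  Lgr Lrot104 (Lpr_ct (K28.f451254 IH) (Lpe (K28.f451255 IH) (Lpe (K28.f451766 IH) (Lpe (f470098 IH) (Lpe (K28.f122369 IH) (Lpe (K28.f122376 IH) (Lpe (K28.f462788 IH) (Lpr_gt (K32.f479810 IH) (Lpr_ct (K32.f463657 IH) (Lpn (LP (LK LD1_c1 LD2_c54 LD3_c19))))))))))))
theorem f527988 : Led Lsl_at (LP (LK LD1_c1 LD2_c54 LD3_c58)) = (LP (LK LD1_c1 LD2_c54 LD3_c55)) :=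
  Lgr Lrot26 (Lpr_ff (f527982 IH) (Lpe (f479814 IH) (Lpr_gt (K24.f451253 IH) (Lpn (LP (LK LD1_c1 LD2_c54 LD3_c55))))))
theorem f527994 : v2593 = (LP (LK LD1_c3 LD2_c31 LD3_c45)) :=
  (Llr Lrot117 (Lpe (f527650 IH) (Lpr_dt (K33.f483758 IH) (Lpr_at (f527988 IH) (Lpr_dt (K29.f479642 IH) (Lpn (LP (LK LD1_c3 LD2_c31 LD3_c45)))))))).symm
theorem f527999 : v812 = K33.v796 :=
  Lefun (Lecon (Lfl_ef (f527651 IH)) (f527994 IH)) (Lfl_ef (K33.f479648 IH))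
theorem f528000 : v2584 = (LP (LK LD1_c1 LD2_c50 LD3_c19)) :=
  Lefun (Lecon (f527614 IH) (f527999 IH)) (K33.f479649 IH)
def v2581 : LQ := Led Lsl_gt (LP (LK LD1_c1 LD2_c49 LD3_c13))
theorem f527603 : Led Lsl_gt (LP (LK LD1_c1 LD2_c49 LD3_c13)) = v2581 :=
  Lrfl
theorem f527953 : Led Lsl_at v2584 = v2627 :=
  Lgr Lrot66 (Lpe (f527611 IH) (Lpr_af (f527606 IH) (Lpr_ff (f527945 IH) (Lpn v2627))))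
theorem f459598 : Led Lsl_ff (LP (LK LD1_c0 LD2_c51 LD3_c61)) = v827 :=
  Lgr Lrot3 (Lpr_ft (f459595 IH) (Lpn v827))
theorem f527944 : Led Lsl_gt v827 = v2627 :=
  Lgr Lrot5 (Lpe (f459598 IH) (Lpr_at (f120561 IH) (Lpr_gf (f527943 IH) (Lpn v2627))))
theorem f528006 : v2581 = v827 :=
  (Llr Lrot5 (Lpe (f527603 IH) (Lpr_ft (f527611 IH) (Lpqs (f528000 IH) (Lpq (f528000 IH) (Lpr_at (f527953 IH) (Lpe (f527944 IH) (Lpn v827)))))))).symm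
theorem f96358 : Led Lsl_dt (LP (LK LD1_c7 LD2_c20 LD3_c17)) = (LP (LK LD1_c13 LD2_c52 LD3_c43)) :=
  Lre_d IH (LK LD1_c7 LD2_c20 LD3_c17) (LK LD1_c13 LD2_c52 LD3_c43) Lrfl Lrfl
theorem f511633 : Led Lsl_et (LP (LK LD1_c3 LD2_c44 LD3_c29)) = (LP (LK LD1_c1 LD2_c49 LD3_c14)) :=
  Lre_e IH (LK LD1_c3 LD2_c44 LD3_c29) (LK LD1_c1 LD2_c49 LD3_c14) Lrfl Lrfl
theorem f511634 : Led Lsl_dt (LP (LK LD1_c3 LD2_c44 LD3_c29)) = (LP (LK LD1_c7 LD2_c30 LD3_c2)) :=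
  Lre_d IH (LK LD1_c3 LD2_c44 LD3_c29) (LK LD1_c7 LD2_c30 LD3_c2) Lrfl Lrfl
theorem f511635 : Led Lsl_gt (LP (LK LD1_c13 LD2_c52 LD3_c43)) = (LP (LK LD1_c7 LD2_c30 LD3_c2)) :=
  Lgr Lrot139 (Lpe (f96358 IH) (Lpr_gf (K33.f484538 IH) (Lpe (K29.f437929 IH) (Lpr_dt (K29.f4877 IH) (Lpe (K29.f4852 IH) (Lpe (K29.f4847 IH) (Lpr_et (K33.f511485 IH) (Lpe (K33.f12862 IH) (Lpe (f511633 IH) (Lpr_dt (f511634 IH) (Lpn (LP (LK LD1_c7 LD2_c30 LD3_c2)))))))))))))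
theorem f96363 : Led Lsl_ft (LP (LK LD1_c13 LD2_c52 LD3_c43)) = (LP (LK LD1_c7 LD2_c20 LD3_c16)) :=
  Lre_f IH (LK LD1_c13 LD2_c52 LD3_c43) (LK LD1_c7 LD2_c20 LD3_c16) Lrfl Lrfl
theorem f511637 : Led Lsl_gf (LP (LK LD1_c7 LD2_c25 LD3_c3)) = (LP (LK LD1_c7 LD2_c30 LD3_c2)) :=
  Lgr Lrot76 (Lpe (K7.f132054 IH) (Lpe (f96363 IH) (Lpr_gt (f511635 IH) (Lpn (LP (LK LD1_c7 LD2_c30 LD3_c2))))))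
theorem f511644 : Led Lsl_gt (LP (LK LD1_c3 LD2_c43 LD3_c32)) = (LP (LK LD1_c1 LD2_c49 LD3_c14)) :=
  Lgr Lrot131 (Lpe (K6.f131689 IH) (Lpe (K28.f146759 IH) (Lpe (K7.f148043 IH) (Lpe (K6.f120981 IH) (Lpr_gf (K4.f120979 IH) (Lpe (K7.f120990 IH) (Lpr_dt (K7.f120991 IH) (Lpr_gf (f511637 IH) (Lpe (f511634 IH) (Lpr_et (f511633 IH) (Lpn (LP (LK LD1_c1 LD2_c49 LD3_c14)))))))))))))
theorem f137119 : Led Lsl_at (LP (LK LD1_c1 LD2_c39 LD3_c38)) = (LP (LK LD1_c3 LD2_c25 LD3_c55)) :=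
  Lre_a IH (LK LD1_c1 LD2_c39 LD3_c38) (LK LD1_c3 LD2_c25 LD3_c55) Lrfl Lrfl
theorem f137120 : Led Lsl_ct (LP (LK LD1_c3 LD2_c25 LD3_c55)) = (LP (LK LD1_c3 LD2_c43 LD3_c32)) :=
  Lgr Lrot111 (Lpe (f137119 IH) (Lpe (K33.f137118 IH) (Lpr_af (K6.f137112 IH) (Lpn (LP (LK LD1_c3 LD2_c43 LD3_c32))))))
theorem f508599 : Led Lsl_ef (LP (LK LD1_c1 LD2_c34 LD3_c27)) = v2055 :=
  Lgr Lrot88 (Lpr_et (f508595 IH) (Lpn v2055))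
theorem f98641 : Led Lsl_et (LP (LK LD1_c1 LD2_c39 LD3_c34)) = (LP (LK LD1_c3 LD2_c25 LD3_c55)) :=
  Lre_e IH (LK LD1_c1 LD2_c39 LD3_c34) (LK LD1_c3 LD2_c25 LD3_c55) Lrfl Lrfl
theorem f508601 : Led Lsl_bt (LP (LK LD1_c3 LD2_c25 LD3_c55)) = v2055 :=
  Lgr Lrot119 (Lpe (f98641 IH) (Lpr_bf (K3.f98645 IH) (Lpr_ef (f508599 IH) (Lpn v2055))))
theorem f528007 : v2499 = v2055 :=
  (Llr Lrot164 (Lpe (f523631 IH) (Lpe (f457062 IH) (Lpr_ct (f450953 IH) (Lpr_gf (f523445 IH) (Lpe (f523440 IH) (Lpq (f528006 IH) (Lpe (f527603 IH) (Lpe (K33.f459508 IH) (Lpr_ct (K33.f12861 IH) (Lpe (f511644 IH) (Lpe (f137120 IH) (Lpr_bt (f508601 IH) (Lpn v2055)))))))))))))).symm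
theorem f455521 : Led Lsl_af K30.v206 = v618 :=
  Lgr Lrot45 (Lpe (K30.f451078 IH) (Lpr_at (K28.f120547 IH) (Lpr_ft (f455520 IH) (Lpn v618))))
theorem f455524 : Led Lsl_gt v615 = K30.v206 :=
  Lgr Lrot46 (Lpe (f455507 IH) (Lpr_ft (f455520 IH) (Lpe (f455521 IH) (Lpn K30.v206))))
theorem f459666 : Led Lsl_ff (LP (LK LD1_c0 LD2_c52 LD3_c10)) = v841 :=
  Lgr Lrot3 (Lpr_ft (f459664 IH) (Lpn v841))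
def v839 : LQ := Led Lsl_bt (LP (LK LD1_c0 LD2_c52 LD3_c10))
theorem f459659 : Led Lsl_bt (LP (LK LD1_c0 LD2_c52 LD3_c10)) = v839 :=
  Lrfl
theorem f459656 : Led Lsl_et (LP (LK LD1_c0 LD2_c52 LD3_c10)) = (LP (LK LD1_c1 LD2_c50 LD3_c34)) :=
  Lre_e IH (LK LD1_c0 LD2_c52 LD3_c10) (LK LD1_c1 LD2_c50 LD3_c34) Lrfl Lrfl
theorem f459660 : Led Lsl_bf (LP (LK LD1_c0 LD2_c52 LD3_c10)) = v839 :=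
  Lgr Lrot24 (Lpr_bt (f459659 IH) (Lpn v839))
theorem f477467 : v839 = (LP (LK LD1_c0 LD2_c52 LD3_c10)) :=
  (Llr Lrot96 (Lpe (f459660 IH) (Lpr_et (f459656 IH) (Lpr_bt (K29.f477460 IH) (Lpr_et (K30.f451071 IH) (Lpn (LP (LK LD1_c0 LD2_c52 LD3_c10)))))))).symm
theorem f477469 : Led Lsl_bf v841 = v841 :=
  Lgr Lrot61 (Lpe (f459666 IH) (Lpr_bt (f459659 IH) (Lpqs (f477467 IH) (Lpr_ft (f459664 IH) (Lpn v841)))))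
theorem f528008 : Led Lsl_cf v2302 = v841 :=
  Lgr Lrot163 (Lpe (f511969 IH) (Lpr_cf (f508598 IH) (Lpq (f528007 IH) (Lpe (f523631 IH) (Lpe (f457062 IH) (Lpr_ct (f450953 IH) (Lpr_gf (f523445 IH) (Lpe (f523440 IH) (Lpe (f459596 IH) (Lpe (f455524 IH) (Lpq (f493785 IH) (Lpqs (f493753 IH) (Lpr_bf (f477469 IH) (Lpn v841))))))))))))))
theorem f528011 : Led Lsl_ft v2302 = (LP (LK LD1_c1 LD2_c50 LD3_c33)) :=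
  Lgr Lrot4 (Lpr_cf (f528008 IH) (Lpq (f493753 IH) (Lpqs (f493785 IH) (Lpq (f493785 IH) (Lpqs (f493753 IH) (Lpe (f459664 IH) (Lpe (K30.f451070 IH) (Lpn (LP (LK LD1_c1 LD2_c50 LD3_c33))))))))))
theorem f493768 : Led Lsl_at (LP (LK LD1_c1 LD2_c50 LD3_c33)) = K30.v1179 :=
  Lgr Lrot100 (Lpr_af (K30.f493767 IH) (Lpn K30.v1179))
theorem f528012 : Led Lsl_af v2302 = K30.v1170 :=
  Lgr Lrot45 (Lpr_ft (f528011 IH) (Lpr_at (f493768 IH) (Lpe (K30.f493529 IH) (Lpn K30.v1170))))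
def v2303 : LQ := Led Lsl_gf (LP (LK LD1_c1 LD2_c41 LD3_c39))
theorem f511970 : Led Lsl_gf (LP (LK LD1_c1 LD2_c41 LD3_c39)) = v2303 :=
  Lrfl
theorem f528014 : v2303 = K30.v1179 :=
  (Llr Lrot47 (Lpe (f511970 IH) (Lpr_gt (f511969 IH) (Lpr_af (f528012 IH) (Lpqs (f493755 IH) (Lpq (f493755 IH) (Lpr_ff (K30.f493529 IH) (Lpn K30.v1179)))))))).symm
theorem f98648 : Led Lsl_et (LP (LK LD1_c3 LD2_c25 LD3_c55)) = (LP (LK LD1_c1 LD2_c39 LD3_c34)) :=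
  Lre_e IH (LK LD1_c3 LD2_c25 LD3_c55) (LK LD1_c1 LD2_c39 LD3_c34) Lrfl Lrfl
theorem f508597 : Led Lsl_bf (LP (LK LD1_c3 LD2_c25 LD3_c55)) = v2055 :=
  Lgr Lrot96 (Lpr_et (f98648 IH) (Lpr_bt (K3.f98639 IH) (Lpr_et (f508595 IH) (Lpn v2055))))
theorem f528015 : v2491 = (LP (LK LD1_c3 LD2_c25 LD3_c55)) :=
  (Llr Lrot124 (Lpe (f522777 IH) (Lpe (f457057 IH) (Lpr_ct (f5824 IH) (Lpr_gt (f523439 IH) (Lpe (f523440 IH) (Lpe (f459596 IH) (Lpqs (f493784 IH) (Lpe (f493517 IH) (Lpr_ct (K30.f493526 IH) (Lpq (f528014 IH) (Lpe (f511970 IH) (Lpr_cf (f508598 IH) (Lpe (f508597 IH) (Lpn (LP (LK LD1_c3 LD2_c25 LD3_c55))))))))))))))))).symm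
theorem f528016 : Led Lsl_gt (LP (LK LD1_c3 LD2_c25 LD3_c55)) = (LP (LK LD1_c1 LD2_c46 LD3_c46)) :=
  Leop (Lpr_gf (f522777 IH) (Lpqs (f528015 IH) (Lpn (LP (LK LD1_c3 LD2_c25 LD3_c55)))))
theorem seed_215 : LEOK LG_g (LK LD1_c3 LD2_c25 LD3_c55) :=
  Leoe_g (LK LD1_c3 LD2_c25 LD3_c55) (f528016 IH)
theorem f102819 : Led Lsl_ft (LP (LK LD1_c1 LD2_c39 LD3_c30)) = (LP (LK LD1_c3 LD2_c25 LD3_c50)) :=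
  Lre_f IH (LK LD1_c1 LD2_c39 LD3_c30) (LK LD1_c3 LD2_c25 LD3_c50) Lrfl Lrfl
theorem f95035 : Led Lsl_gt (LP (LK LD1_c1 LD2_c39 LD3_c30)) = (LP (LK LD1_c3 LD2_c25 LD3_c47)) :=
  Lre_g IH (LK LD1_c1 LD2_c39 LD3_c30) (LK LD1_c3 LD2_c25 LD3_c47) Lrfl Lrfl
theorem f484099 : Led Lsl_gf (LP (LK LD1_c3 LD2_c39 LD3_c4)) = (LP (LK LD1_c3 LD2_c25 LD3_c47)) :=
  Lgr Lrot76 (Lpr_af (K29.f484090 IH) (Lpe (f102819 IH) (Lpr_gt (f95035 IH) (Lpn (LP (LK LD1_c3 LD2_c25 LD3_c47))))))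
theorem f115929 : Led Lsl_bt (LP (LK LD1_c6 LD2_c53 LD3_c28)) = (LP (LK LD1_c3 LD2_c25 LD3_c47)) :=
  Lre_b IH (LK LD1_c6 LD2_c53 LD3_c28) (LK LD1_c3 LD2_c25 LD3_c47) Lrfl Lrfl
theorem f483487 : Led Lsl_bt (LP (LK LD1_c1 LD2_c49 LD3_c36)) = (LP (LK LD1_c1 LD2_c47 LD3_c18)) :=
  Lgr Lrot127 (Lpr_bf (f483468 IH) (Lpn (LP (LK LD1_c1 LD2_c47 LD3_c18))))
def v738 : LQ := Led Lsl_gt (LP (LK LD1_c0 LD2_c49 LD3_c58))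
theorem f457004 : Led Lsl_gt (LP (LK LD1_c0 LD2_c49 LD3_c58)) = v738 :=
  Lrfl
theorem f481865 : (LP (LK LD1_c0 LD2_c46 LD3_c15)) = v738 :=
  Lefun (Lecon (Lfl_gf (K29.f455034 IH)) (K29.f481864 IH)) (f457004 IH)
theorem f483492 : Led Lsl_ct (LP (LK LD1_c1 LD2_c49 LD3_c36)) = (LP (LK LD1_c3 LD2_c25 LD3_c47)) :=
  Lgr Lrot63 (Lpr_bt (f483487 IH) (Lpr_gt (f4530 IH) (Lpe (K11.f4500 IH) (Lpr_ct (K29.f447687 IH) (Lpe (K11.f447689 IH) (Lpr_cf (K29.f451574 IH) (Lpq (K29.f455959 IH) (Lpr_bt (K29.f450778 IH) (Lpr_gt (f457004 IH) (Lpq (f481865 IH) (Lpr_ct (K29.f94294 IH) (Lpr_gt (f95035 IH) (Lpn (LP (LK LD1_c3 LD2_c25 LD3_c47)))))))))))))))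
theorem f483489 : Led Lsl_bt (LP (LK LD1_c7 LD2_c21 LD3_c43)) = (LP (LK LD1_c3 LD2_c40 LD3_c43)) :=
  Lre_b IH (LK LD1_c7 LD2_c21 LD3_c43) (LK LD1_c3 LD2_c40 LD3_c43) Lrfl Lrfl
theorem f483494 : Led Lsl_bt (LP (LK LD1_c3 LD2_c25 LD3_c47)) = (LP (LK LD1_c6 LD2_c53 LD3_c28)) :=
  Lre_b IH (LK LD1_c3 LD2_c25 LD3_c47) (LK LD1_c6 LD2_c53 LD3_c28) Lrfl Lrfl
theorem f483495 : Led Lsl_cf (LP (LK LD1_c7 LD2_c21 LD3_c43)) = (LP (LK LD1_c6 LD2_c53 LD3_c28)) :=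
  Lgr Lrot97 (Lpr_bt (f483489 IH) (Lpr_ct (f4532 IH) (Lpe (f483468 IH) (Lpr_ct (f483492 IH) (Lpr_bt (f483494 IH) (Lpn (LP (LK LD1_c6 LD2_c53 LD3_c28))))))))
theorem f137144 : Led Lsl_bt (LP (LK LD1_c3 LD2_c29 LD3_c54)) = (LP (LK LD1_c1 LD2_c41 LD3_c39)) :=
  Lre_b IH (LK LD1_c3 LD2_c29 LD3_c54) (LK LD1_c1 LD2_c41 LD3_c39) Lrfl Lrfl
theorem f528017 : Led Lsl_gf (LP (LK LD1_c7 LD2_c21 LD3_c43)) = (LP (LK LD1_c7 LD2_c1 LD3_c21)) :=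
  Lgr Lrot126 (Lpr_cf (f483495 IH) (Lpr_bt (f115929 IH) (Lpe (f484099 IH) (Lpr_ct (K29.f455916 IH) (Lpr_gt (K29.f450938 IH) (Lpe (K30.f4036 IH) (Lpr_bt (K30.f493530 IH) (Lpq (f528014 IH) (Lpe (f511970 IH) (Lpe (f137144 IH) (Lpr_ct (K6.f137076 IH) (Lpn (LP (LK LD1_c7 LD2_c1 LD3_c21))))))))))))))
theorem f528018 : Led Lsl_gt (LP (LK LD1_c7 LD2_c1 LD3_c21)) = (LP (LK LD1_c7 LD2_c21 LD3_c43)) :=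
  Leop (Lpr_gf (f528017 IH) (Lpn (LP (LK LD1_c7 LD2_c1 LD3_c21))))
theorem seed_216 : LEOK LG_g (LK LD1_c7 LD2_c1 LD3_c21) :=
  Leoe_g (LK LD1_c7 LD2_c1 LD3_c21) (f528018 IH)
def v2638 : LQ := Led Lsl_dt (LP (LK LD1_c1 LD2_c50 LD3_c23))
theorem f529952 : Led Lsl_dt (LP (LK LD1_c1 LD2_c50 LD3_c23)) = v2638 :=
  Lrfl
theorem f85175 : Led Lsl_gt (LP (LK LD1_c0 LD2_c52 LD3_c4)) = (LP (LK LD1_c0 LD2_c51 LD3_c50)) :=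
  Lgr Lrot46 (Lpe (K11.f85174 IH) (Lpr_ft (K2.f85048 IH) (Lpr_at (K2.f85047 IH) (Lpn (LP (LK LD1_c0 LD2_c51 LD3_c50))))))
def v821 : LQ := Led Lsl_dt (LP (LK LD1_c0 LD2_c51 LD3_c50))
theorem f459561 : Led Lsl_dt (LP (LK LD1_c0 LD2_c51 LD3_c50)) = v821 :=
  Lrfl
def v835 : LQ := Led Lsl_dt (LP (LK LD1_c0 LD2_c52 LD3_c5))
theorem f459633 : Led Lsl_dt (LP (LK LD1_c0 LD2_c52 LD3_c5)) = v835 :=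
  Lrfl
theorem f155100 : Led Lsl_gt (LP (LK LD1_c3 LD2_c35 LD3_c26)) = (LP (LK LD1_c3 LD2_c10 LD3_c60)) :=
  Lgr Lrot49 (Lpe (K11.f155099 IH) (Lpr_gf (K7.f155095 IH) (Lpe (K7.f155087 IH) (Lpr_gt (K7.f155081 IH) (Lpr_dt (K6.f142967 IH) (Lpe (K6.f142965 IH) (Lpr_dt (K3.f95183 IH) (Lpr_cf (K3.f95755 IH) (Lpe (K5.f86343 IH) (Lpn (LP (LK LD1_c3 LD2_c10 LD3_c60))))))))))))
theorem f85053 : Led Lsl_et (LP (LK LD1_c0 LD2_c51 LD3_c50)) = (LP (LK LD1_c0 LD2_c23 LD3_c26)) :=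
  Lre_e IH (LK LD1_c0 LD2_c51 LD3_c50) (LK LD1_c0 LD2_c23 LD3_c26) Lrfl Lrfl
theorem f459639 : Led Lsl_gt v821 = v835 :=
  Lgr Lrot112 (Lpe (f459561 IH) (Lpr_et (f85053 IH) (Lpe (K3.f95741 IH) (Lpr_ef (K3.f95745 IH) (Lpr_dt (K3.f86346 IH) (Lpe (f155100 IH) (Lpe (K11.f155099 IH) (Lpr_gf (K7.f155095 IH) (Lpe (K11.f126172 IH) (Lpr_dt (f459633 IH) (Lpn v835)))))))))))
theorem f529960 : Led Lsl_gt (LP (LK LD1_c1 LD2_c53 LD3_c26)) = v2638 :=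
  Lgr Lrot112 (Lpe (K7.f84320 IH) (Lpr_et (K11.f429671 IH) (Lpr_gf (K7.f155095 IH) (Lpe (K11.f126172 IH) (Lpr_dt (f459633 IH) (Lpe (f459639 IH) (Lpe (f459561 IH) (Lpe (f85175 IH) (Lpe (K11.f85177 IH) (Lpr_dt (f529952 IH) (Lpn v2638)))))))))))
theorem f155193 : Led Lsl_bt (LP (LK LD1_c12 LD2_c21 LD3_c19)) = (LP (LK LD1_c6 LD2_c24 LD3_c3)) :=
  Lre_b IH (LK LD1_c12 LD2_c21 LD3_c19) (LK LD1_c6 LD2_c24 LD3_c3) Lrfl Lrfl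
theorem f433690 : Led Lsl_gt (LP (LK LD1_c27 LD2_c4 LD3_c52)) = (LP (LK LD1_c17 LD2_c14 LD3_c41)) :=
  Lre_g IH (LK LD1_c27 LD2_c4 LD3_c52) (LK LD1_c17 LD2_c14 LD3_c41) Lrfl Lrfl
theorem f145650 : Led Lsl_ct (LP (LK LD1_c3 LD2_c9 LD3_c40)) = (LP (LK LD1_c3 LD2_c8 LD3_c1)) :=
  Lre_c IH (LK LD1_c3 LD2_c9 LD3_c40) (LK LD1_c3 LD2_c8 LD3_c1) Lrfl Lrfl
theorem f432775 : Led Lsl_cf (LP (LK LD1_c1 LD2_c30 LD3_c60)) = (LP (LK LD1_c1 LD2_c43 LD3_c58)) :=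
  Lgr Lrot97 (Lpr_bt (K7.f155140 IH) (Lpr_ct (f145650 IH) (Lpe (K11.f430166 IH) (Lpr_ct (K7.f430102 IH) (Lpr_bt (K11.f432769 IH) (Lpn (LP (LK LD1_c1 LD2_c43 LD3_c58))))))))
theorem f155122 : Led Lsl_dt (LP (LK LD1_c1 LD2_c35 LD3_c56)) = (LP (LK LD1_c1 LD2_c30 LD3_c60)) :=
  Lgr Lrot6 (Lpr_gt (K7.f12167 IH) (Lpr_ct (K5.f25420 IH) (Lpr_gt (K5.f57774 IH) (Lpe (K7.f88990 IH) (Lpe (K3.f85328 IH) (Lpe (K3.f85327 IH) (Lpe (K7.f155093 IH) (Lpr_cf (K7.f155109 IH) (Lpe (K7.f145652 IH) (Lpn (LP (LK LD1_c1 LD2_c30 LD3_c60))))))))))))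
theorem f86787 : Led Lsl_gt (LP (LK LD1_c21 LD2_c4 LD3_c30)) = (LP (LK LD1_c11 LD2_c59 LD3_c50)) :=
  Lre_g IH (LK LD1_c21 LD2_c4 LD3_c30) (LK LD1_c11 LD2_c59 LD3_c50) Lrfl Lrfl
theorem f143566 : Led Lsl_gt (LP (LK LD1_c13 LD2_c52 LD3_c37)) = (LP (LK LD1_c21 LD2_c4 LD3_c30)) :=
  Lgr Lrot5 (Lpr_ft (K6.f143558 IH) (Lpr_at (K6.f86793 IH) (Lpe (f86787 IH) (Lpn (LP (LK LD1_c21 LD2_c4 LD3_c30))))))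
theorem f86780 : Led Lsl_ct (LP (LK LD1_c13 LD2_c15 LD3_c13)) = (LP (LK LD1_c11 LD2_c59 LD3_c50)) :=
  Lgr Lrot83 (Lpe (K6.f17757 IH) (Lpe (K5.f17756 IH) (Lpe (K11.f17751 IH) (Lpr_cf (K5.f86771 IH) (Lpe (K6.f86779 IH) (Lpn (LP (LK LD1_c11 LD2_c59 LD3_c50))))))))
theorem f86356 : Led Lsl_bt (LP (LK LD1_c3 LD2_c15 LD3_c13)) = (LP (LK LD1_c6 LD2_c33 LD3_c51)) :=
  Lre_b IH (LK LD1_c3 LD2_c15 LD3_c13) (LK LD1_c6 LD2_c33 LD3_c51) Lrfl Lrfl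
theorem f58083 : Led Lsl_gt (LP (LK LD1_c6 LD2_c33 LD3_c51)) = (LP (LK LD1_c12 LD2_c34 LD3_c33)) :=
  Lre_g IH (LK LD1_c6 LD2_c33 LD3_c51) (LK LD1_c12 LD2_c34 LD3_c33) Lrfl Lrfl
theorem f86556 : Led Lsl_bt (LP (LK LD1_c21 LD2_c40 LD3_c56)) = (LP (LK LD1_c12 LD2_c34 LD3_c33)) :=
  Lre_b IH (LK LD1_c21 LD2_c40 LD3_c56) (LK LD1_c12 LD2_c34 LD3_c33) Lrfl Lrfl
theorem f114378 : Led Lsl_cf (LP (LK LD1_c21 LD2_c4 LD3_c30)) = (LP (LK LD1_c21 LD2_c40 LD3_c56)) :=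
  Lgr Lrot160 (Lpr_gt (f86787 IH) (Lpe (f86780 IH) (Lpr_bt (K6.f17754 IH) (Lpr_gt (K5.f114375 IH) (Lpr_ct (K5.f114326 IH) (Lpr_gt (K5.f114008 IH) (Lpe (K7.f90812 IH) (Lpr_bt (f86356 IH) (Lpr_gt (f58083 IH) (Lpe (f86556 IH) (Lpn (LP (LK LD1_c21 LD2_c40 LD3_c56)))))))))))))
theorem f85879 : Led Lsl_gt (LP (LK LD1_c12 LD2_c34 LD3_c33)) = (LP (LK LD1_c21 LD2_c5 LD3_c57)) :=
  Lre_g IH (LK LD1_c12 LD2_c34 LD3_c33) (LK LD1_c21 LD2_c5 LD3_c57) Lrfl Lrfl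
theorem f84158 : Led Lsl_bt (LP (LK LD1_c12 LD2_c3 LD3_c28)) = (LP (LK LD1_c21 LD2_c5 LD3_c57)) :=
  Lre_b IH (LK LD1_c12 LD2_c3 LD3_c28) (LK LD1_c21 LD2_c5 LD3_c57) Lrfl Lrfl
theorem f86479 : Led Lsl_gt (LP (LK LD1_c6 LD2_c13 LD3_c3)) = (LP (LK LD1_c3 LD2_c22 LD3_c33)) :=
  Lre_g IH (LK LD1_c6 LD2_c13 LD3_c3) (LK LD1_c3 LD2_c22 LD3_c33) Lrfl Lrfl
theorem f89119 : Led Lsl_ct (LP (LK LD1_c6 LD2_c48 LD3_c57)) = (LP (LK LD1_c3 LD2_c22 LD3_c33)) :=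
  Lre_c IH (LK LD1_c6 LD2_c48 LD3_c57) (LK LD1_c3 LD2_c22 LD3_c33) Lrfl Lrfl
theorem f89120 : Led Lsl_bt (LP (LK LD1_c6 LD2_c48 LD3_c57)) = (LP (LK LD1_c13 LD2_c0 LD3_c20)) :=
  Lre_b IH (LK LD1_c6 LD2_c48 LD3_c57) (LK LD1_c13 LD2_c0 LD3_c20) Lrfl Lrfl
theorem f143568 : Led Lsl_gf (LP (LK LD1_c14 LD2_c11 LD3_c24)) = (LP (LK LD1_c13 LD2_c0 LD3_c20)) :=
  Lgr Lrot181 (Lpe (K6.f12509 IH) (Lpr_gt (f143566 IH) (Lpr_cf (f114378 IH) (Lpr_bt (f86556 IH) (Lpr_gt (f85879 IH) (Lpe (f84158 IH) (Lpr_ct (K3.f57814 IH) (Lpr_gt (f86479 IH) (Lpe (f89119 IH) (Lpr_bt (f89120 IH) (Lpn (LP (LK LD1_c13 LD2_c0 LD3_c20)))))))))))))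
theorem f25475 : Led Lsl_gt (LP (LK LD1_c6 LD2_c41 LD3_c43)) = (LP (LK LD1_c12 LD2_c3 LD3_c28)) :=
  Lre_g IH (LK LD1_c6 LD2_c41 LD3_c43) (LK LD1_c12 LD2_c3 LD3_c28) Lrfl Lrfl
theorem f25472 : Led Lsl_bt (LP (LK LD1_c12 LD2_c48 LD3_c35)) = (LP (LK LD1_c6 LD2_c41 LD3_c43)) :=
  Lre_b IH (LK LD1_c12 LD2_c48 LD3_c35) (LK LD1_c6 LD2_c41 LD3_c43) Lrfl Lrfl
theorem f114307 : Led Lsl_gt (LP (LK LD1_c12 LD2_c23 LD3_c58)) = (LP (LK LD1_c6 LD2_c25 LD3_c46)) :=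
  Lre_g IH (LK LD1_c12 LD2_c23 LD3_c58) (LK LD1_c6 LD2_c25 LD3_c46) Lrfl Lrfl
theorem f143533 : Led Lsl_gt (LP (LK LD1_c12 LD2_c24 LD3_c33)) = (LP (LK LD1_c12 LD2_c23 LD3_c58)) :=
  Lgr Lrot5 (Lpr_ft (K6.f143525 IH) (Lpr_at (K6.f114302 IH) (Lpe (f114307 IH) (Lpn (LP (LK LD1_c12 LD2_c23 LD3_c58))))))
theorem f143635 : Led Lsl_ct (LP (LK LD1_c12 LD2_c48 LD3_c35)) = (LP (LK LD1_c12 LD2_c23 LD3_c58)) :=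
  Lgr Lrot10 (Lpr_bt (f25472 IH) (Lpr_gt (f25475 IH) (Lpr_ct (K3.f57814 IH) (Lpr_gt (f86479 IH) (Lpe (f89119 IH) (Lpr_bt (f89120 IH) (Lpe (f143568 IH) (Lpr_bf (K6.f143628 IH) (Lpr_ct (K6.f143530 IH) (Lpr_gt (f143533 IH) (Lpn (LP (LK LD1_c12 LD2_c23 LD3_c58)))))))))))))
theorem f25465 : Led Lsl_gt (LP (LK LD1_c3 LD2_c18 LD3_c55)) = (LP (LK LD1_c6 LD2_c41 LD3_c43)) :=
  Lre_g IH (LK LD1_c3 LD2_c18 LD3_c55) (LK LD1_c6 LD2_c41 LD3_c43) Lrfl Lrfl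
theorem f114217 : Led Lsl_bt (LP (LK LD1_c1 LD2_c35 LD3_c57)) = (LP (LK LD1_c3 LD2_c18 LD3_c55)) :=
  Lre_b IH (LK LD1_c1 LD2_c35 LD3_c57) (LK LD1_c3 LD2_c18 LD3_c55) Lrfl Lrfl
theorem f25416 : Led Lsl_ct (LP (LK LD1_c1 LD2_c35 LD3_c57)) = (LP (LK LD1_c0 LD2_c44 LD3_c29)) :=
  Lre_c IH (LK LD1_c1 LD2_c35 LD3_c57) (LK LD1_c0 LD2_c44 LD3_c29) Lrfl Lrfl
theorem f114269 : Led Lsl_bt (LP (LK LD1_c12 LD2_c0 LD3_c50)) = (LP (LK LD1_c6 LD2_c10 LD3_c0)) :=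
  Lre_b IH (LK LD1_c12 LD2_c0 LD3_c50) (LK LD1_c6 LD2_c10 LD3_c0) Lrfl Lrfl
theorem f143644 : Led Lsl_gf (LP (LK LD1_c3 LD2_c18 LD3_c52)) = (LP (LK LD1_c6 LD2_c10 LD3_c0)) :=
  Lgr Lrot181 (Lpr_ct (K4.f114197 IH) (Lpr_gt (K7.f12167 IH) (Lpe (f25416 IH) (Lpr_bt (f114217 IH) (Lpr_gt (f25465 IH) (Lpe (f25472 IH) (Lpr_ct (f143635 IH) (Lpr_gt (f114307 IH) (Lpe (K6.f114283 IH) (Lpr_bt (f114269 IH) (Lpn (LP (LK LD1_c6 LD2_c10 LD3_c0)))))))))))))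
theorem f126257 : Led Lsl_gt (LP (LK LD1_c3 LD2_c28 LD3_c22)) = (LP (LK LD1_c3 LD2_c10 LD3_c35)) :=
  Lgr Lrot46 (Lpr_gf (K3.f105646 IH) (Lpr_ft (K5.f126247 IH) (Lpe (K5.f126239 IH) (Lpn (LP (LK LD1_c3 LD2_c10 LD3_c35))))))
theorem f447735 : Led Lsl_gf (LP (LK LD1_c1 LD2_c50 LD3_c23)) = (LP (LK LD1_c1 LD2_c40 LD3_c49)) :=
  Lgr Lrot147 (Lpr_ct (K11.f447727 IH) (Lpr_gt (K11.f434195 IH) (Lpe (f432775 IH) (Lpe (f155122 IH) (Lpe (K4.f114197 IH) (Lpr_gf (f143644 IH) (Lpr_cf (K6.f114275 IH) (Lpe (f126257 IH) (Lpe (K3.f85348 IH) (Lpn (LP (LK LD1_c1 LD2_c40 LD3_c49))))))))))))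
theorem f78923 : Led Lsl_dt (LP (LK LD1_c3 LD2_c1 LD3_c36)) = (LP (LK LD1_c6 LD2_c10 LD3_c2)) :=
  Lre_d IH (LK LD1_c3 LD2_c1 LD3_c36) (LK LD1_c6 LD2_c10 LD3_c2) Lrfl Lrfl
theorem f78927 : Led Lsl_gt (LP (LK LD1_c6 LD2_c10 LD3_c2)) = (LP (LK LD1_c12 LD2_c0 LD3_c57)) :=
  Lre_g IH (LK LD1_c6 LD2_c10 LD3_c2) (LK LD1_c12 LD2_c0 LD3_c57) Lrfl Lrfl
theorem f10027 : Led Lsl_dt (LP (LK LD1_c0 LD2_c21 LD3_c57)) = (LP (LK LD1_c0 LD2_c48 LD3_c57)) :=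
  Lre_d IH (LK LD1_c0 LD2_c21 LD3_c57) (LK LD1_c0 LD2_c48 LD3_c57) Lrfl Lrfl
theorem f64505 : Led Lsl_dt (LP (LK LD1_c1 LD2_c42 LD3_c6)) = (LP (LK LD1_c0 LD2_c47 LD3_c32)) :=
  Lre_d IH (LK LD1_c1 LD2_c42 LD3_c6) (LK LD1_c0 LD2_c47 LD3_c32) Lrfl Lrfl
theorem f432814 : Led Lsl_gt (LP (LK LD1_c0 LD2_c48 LD3_c57)) = (LP (LK LD1_c1 LD2_c42 LD3_c6)) :=
  Lgr Lrot49 (Lpe (f10027 IH) (Lpe (K7.f10029 IH) (Lpe (K7.f106092 IH) (Lpe (K11.f429699 IH) (Lpr_dt (K11.f429701 IH) (Lpr_gt (K11.f432806 IH) (Lpr_dt (K3.f64517 IH) (Lpe (K3.f64516 IH) (Lpe (f64505 IH) (Lpn (LP (LK LD1_c1 LD2_c42 LD3_c6))))))))))))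
theorem f12177 : Led Lsl_ct (LP (LK LD1_c0 LD2_c48 LD3_c57)) = (LP (LK LD1_c1 LD2_c44 LD3_c36)) :=
  Lre_c IH (LK LD1_c0 LD2_c48 LD3_c57) (LK LD1_c1 LD2_c44 LD3_c36) Lrfl Lrfl
theorem f12178 : Led Lsl_gt (LP (LK LD1_c1 LD2_c44 LD3_c36)) = (LP (LK LD1_c3 LD2_c35 LD3_c28)) :=
  Lre_g IH (LK LD1_c1 LD2_c44 LD3_c36) (LK LD1_c3 LD2_c35 LD3_c28) Lrfl Lrfl
theorem f87592 : Led Lsl_dt (LP (LK LD1_c3 LD2_c44 LD3_c43)) = (LP (LK LD1_c1 LD2_c49 LD3_c25)) :=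
  Lre_d IH (LK LD1_c3 LD2_c44 LD3_c43) (LK LD1_c1 LD2_c49 LD3_c25) Lrfl Lrfl
theorem f432838 : Led Lsl_dt (LP (LK LD1_c3 LD2_c35 LD3_c28)) = (LP (LK LD1_c7 LD2_c4 LD3_c9)) :=
  Lgr Lrot57 (Lpe (f12178 IH) (Lpe (f12177 IH) (Lpr_gt (f432814 IH) (Lpr_dt (f64505 IH) (Lpr_gt (K3.f64504 IH) (Lpr_dt (K2.f62830 IH) (Lpe (K3.f86593 IH) (Lpe (f87592 IH) (Lpe (K6.f87593 IH) (Lpn (LP (LK LD1_c7 LD2_c4 LD3_c9))))))))))))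
theorem f78893 : Led Lsl_dt (LP (LK LD1_c6 LD2_c10 LD3_c2)) = (LP (LK LD1_c3 LD2_c1 LD3_c36)) :=
  Lre_d IH (LK LD1_c6 LD2_c10 LD3_c2) (LK LD1_c3 LD2_c1 LD3_c36) Lrfl Lrfl
theorem f114039 : Led Lsl_cf (LP (LK LD1_c6 LD2_c10 LD3_c2)) = (LP (LK LD1_c3 LD2_c53 LD3_c47)) :=
  Lgr Lrot118 (Lpr_dt (f78893 IH) (Lpr_ct (K6.f78951 IH) (Lpr_dt (K4.f64467 IH) (Lpr_ct (K4.f61727 IH) (Lpr_dt (K3.f84715 IH) (Lpr_ct (K3.f109131 IH) (Lpr_af (K4.f114029 IH) (Lpe (K4.f114037 IH) (Lpr_dt (K11.f85603 IH) (Lpn (LP (LK LD1_c3 LD2_c53 LD3_c47))))))))))))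
theorem f106321 : Led Lsl_gt (LP (LK LD1_c6 LD2_c10 LD3_c5)) = (LP (LK LD1_c3 LD2_c1 LD3_c41)) :=
  Lre_g IH (LK LD1_c6 LD2_c10 LD3_c5) (LK LD1_c3 LD2_c1 LD3_c41) Lrfl Lrfl
theorem f432874 : Led Lsl_dt (LP (LK LD1_c12 LD2_c0 LD3_c57)) = (LP (LK LD1_c6 LD2_c10 LD3_c5)) :=
  Lgr Lrot57 (Lpe (f78927 IH) (Lpr_cf (f114039 IH) (Lpr_gt (K11.f429719 IH) (Lpr_dt (K7.f155168 IH) (Lpr_gt (f12178 IH) (Lpr_dt (f432838 IH) (Lpr_cf (K6.f143304 IH) (Lpe (K5.f64530 IH) (Lpe (f106321 IH) (Lpn (LP (LK LD1_c6 LD2_c10 LD3_c5))))))))))))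
theorem f529959 : Led Lsl_ct (LP (LK LD1_c6 LD2_c10 LD3_c5)) = v2638 :=
  Lgr Lrot7 (Lpe (f432874 IH) (Lpe (f78927 IH) (Lpe (f78923 IH) (Lpr_gf (K5.f114366 IH) (Lpe (K5.f12446 IH) (Lpe (K3.f105646 IH) (Lpr_dt (K3.f87590 IH) (Lpe (f447735 IH) (Lpr_dt (f529952 IH) (Lpn v2638))))))))))
theorem f432878 : Led Lsl_bt (LP (LK LD1_c6 LD2_c10 LD3_c5)) = (LP (LK LD1_c12 LD2_c1 LD3_c0)) :=
  Lre_b IH (LK LD1_c6 LD2_c10 LD3_c5) (LK LD1_c12 LD2_c1 LD3_c0) Lrfl Lrfl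
theorem f432930 : Led Lsl_gt (LP (LK LD1_c12 LD2_c1 LD3_c0)) = (LP (LK LD1_c21 LD2_c6 LD3_c34)) :=
  Lre_g IH (LK LD1_c12 LD2_c1 LD3_c0) (LK LD1_c21 LD2_c6 LD3_c34) Lrfl Lrfl
theorem f448045 : Led Lsl_bt (LP (LK LD1_c29 LD2_c51 LD3_c33)) = (LP (LK LD1_c21 LD2_c6 LD3_c34)) :=
  Lre_b IH (LK LD1_c29 LD2_c51 LD3_c33) (LK LD1_c21 LD2_c6 LD3_c34) Lrfl Lrfl
theorem f529962 : Led Lsl_cf (LP (LK LD1_c27 LD2_c4 LD3_c52)) = (LP (LK LD1_c29 LD2_c51 LD3_c33)) :=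
  Lgr Lrot160 (Lpr_gt (f433690 IH) (Lpe (K11.f433711 IH) (Lpr_bt (f155193 IH) (Lpr_gt (K11.f433250 IH) (Lpr_ct (K11.f84618 IH) (Lpr_gt (f529960 IH) (Lpe (f529959 IH) (Lpr_bt (f432878 IH) (Lpr_gt (f432930 IH) (Lpe (f448045 IH) (Lpn (LP (LK LD1_c29 LD2_c51 LD3_c33)))))))))))))
theorem f529963 : Led Lsl_ct (LP (LK LD1_c29 LD2_c51 LD3_c33)) = (LP (LK LD1_c27 LD2_c4 LD3_c52)) :=
  Leop (Lpr_cf (f529962 IH) (Lpn (LP (LK LD1_c29 LD2_c51 LD3_c33))))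
theorem seed_217 : LEOK LG_c (LK LD1_c29 LD2_c51 LD3_c33) :=
  Leoe_c (LK LD1_c29 LD2_c51 LD3_c33) (f529963 IH)
theorem f119391 : Led Lsl_gf (LP (LK LD1_c6 LD2_c10 LD3_c5)) = (LP (LK LD1_c6 LD2_c11 LD3_c45)) :=
  Lgr Lrot47 (Lpr_gt (f106321 IH) (Lpr_af (K5.f119217 IH) (Lpr_ff (K5.f113943 IH) (Lpn (LP (LK LD1_c6 LD2_c11 LD3_c45))))))
theorem f119393 : Led Lsl_bt (LP (LK LD1_c12 LD2_c3 LD3_c21)) = (LP (LK LD1_c6 LD2_c11 LD3_c45)) :=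
  Lre_b IH (LK LD1_c12 LD2_c3 LD3_c21) (LK LD1_c6 LD2_c11 LD3_c45) Lrfl Lrfl
theorem f155362 : Led Lsl_ft (LP (LK LD1_c6 LD2_c41 LD3_c30)) = (LP (LK LD1_c6 LD2_c22 LD3_c36)) :=
  Lgr Lrot54 (Lpe (K7.f114633 IH) (Lpr_ff (K7.f155360 IH) (Lpe (K7.f153407 IH) (Lpn (LP (LK LD1_c6 LD2_c22 LD3_c36))))))
theorem f114698 : Led Lsl_bt (LP (LK LD1_c12 LD2_c48 LD3_c8)) = (LP (LK LD1_c6 LD2_c41 LD3_c30)) :=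
  Lre_b IH (LK LD1_c12 LD2_c48 LD3_c8) (LK LD1_c6 LD2_c41 LD3_c30) Lrfl Lrfl
theorem f155313 : Led Lsl_bt (LP (LK LD1_c6 LD2_c22 LD3_c36)) = (LP (LK LD1_c12 LD2_c18 LD3_c40)) :=
  Lre_b IH (LK LD1_c6 LD2_c22 LD3_c36) (LK LD1_c12 LD2_c18 LD3_c40) Lrfl Lrfl
theorem f434645 : Led Lsl_ff (LP (LK LD1_c12 LD2_c48 LD3_c8)) = (LP (LK LD1_c12 LD2_c18 LD3_c40)) :=
  Lgr Lrot25 (Lpr_bt (f114698 IH) (Lpr_ft (f155362 IH) (Lpr_bt (f155313 IH) (Lpn (LP (LK LD1_c12 LD2_c18 LD3_c40))))))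
theorem f119263 : Led Lsl_ct (LP (LK LD1_c12 LD2_c48 LD3_c8)) = (LP (LK LD1_c6 LD2_c41 LD3_c33)) :=
  Lre_c IH (LK LD1_c12 LD2_c48 LD3_c8) (LK LD1_c6 LD2_c41 LD3_c33) Lrfl Lrfl
theorem f126178 : Led Lsl_ft (LP (LK LD1_c12 LD2_c3 LD3_c22)) = (LP (LK LD1_c6 LD2_c41 LD3_c34)) :=
  Lgr Lrot48 (Lpr_ff (K7.f126157 IH) (Lpn (LP (LK LD1_c6 LD2_c41 LD3_c34))))
theorem f114193 : Led Lsl_dt (LP (LK LD1_c6 LD2_c41 LD3_c34)) = (LP (LK LD1_c3 LD2_c18 LD3_c50)) :=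
  Lre_d IH (LK LD1_c6 LD2_c41 LD3_c34) (LK LD1_c3 LD2_c18 LD3_c50) Lrfl Lrfl
theorem f126182 : Led Lsl_ff (LP (LK LD1_c6 LD2_c11 LD3_c45)) = (LP (LK LD1_c3 LD2_c18 LD3_c50)) :=
  Lgr Lrot19 (Lpr_dt (K5.f106712 IH) (Lpr_ft (f126178 IH) (Lpr_dt (f114193 IH) (Lpn (LP (LK LD1_c3 LD2_c18 LD3_c50))))))
theorem f86061 : Led Lsl_bt (LP (LK LD1_c6 LD2_c11 LD3_c45)) = (LP (LK LD1_c12 LD2_c3 LD3_c21)) :=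
  Lre_b IH (LK LD1_c6 LD2_c11 LD3_c45) (LK LD1_c12 LD2_c3 LD3_c21) Lrfl Lrfl
theorem f119229 : Led Lsl_bt (LP (LK LD1_c6 LD2_c41 LD3_c33)) = (LP (LK LD1_c3 LD2_c18 LD3_c50)) :=
  Lre_b IH (LK LD1_c6 LD2_c41 LD3_c33) (LK LD1_c3 LD2_c18 LD3_c50) Lrfl Lrfl
theorem f126186 : Led Lsl_ft (LP (LK LD1_c12 LD2_c3 LD3_c21)) = (LP (LK LD1_c6 LD2_c41 LD3_c33)) :=
  Lgr Lrot75 (Lpe (f86061 IH) (Lpr_ff (f126182 IH) (Lpe (f119229 IH) (Lpn (LP (LK LD1_c6 LD2_c41 LD3_c33))))))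
theorem f126192 : Led Lsl_ff (LP (LK LD1_c12 LD2_c3 LD3_c21)) = (LP (LK LD1_c6 LD2_c41 LD3_c33)) :=
  Lgr Lrot3 (Lpr_ft (f126186 IH) (Lpn (LP (LK LD1_c6 LD2_c41 LD3_c33))))
theorem f434647 : Led Lsl_ct (LP (LK LD1_c12 LD2_c3 LD3_c21)) = (LP (LK LD1_c12 LD2_c18 LD3_c40)) :=
  Lgr Lrot40 (Lpr_ff (f126192 IH) (Lpe (f119263 IH) (Lpr_ff (f434645 IH) (Lpn (LP (LK LD1_c12 LD2_c18 LD3_c40))))))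
theorem f155348 : Led Lsl_gt (LP (LK LD1_c21 LD2_c24 LD3_c30)) = (LP (LK LD1_c12 LD2_c18 LD3_c40)) :=
  Lre_g IH (LK LD1_c21 LD2_c24 LD3_c30) (LK LD1_c12 LD2_c18 LD3_c40) Lrfl Lrfl
theorem f87591 : Led Lsl_ct (LP (LK LD1_c1 LD2_c40 LD3_c49)) = (LP (LK LD1_c0 LD2_c46 LD3_c55)) :=
  Lre_c IH (LK LD1_c1 LD2_c40 LD3_c49) (LK LD1_c0 LD2_c46 LD3_c55) Lrfl Lrfl
def v164 : LQ := Led Lsl_dt (LP (LK LD1_c0 LD2_c21 LD3_c56))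
theorem f450839 : Led Lsl_dt (LP (LK LD1_c0 LD2_c21 LD3_c56)) = v164 :=
  Lrfl
def v212 : LQ := Led Lsl_dt (LP (LK LD1_c0 LD2_c23 LD3_c59))
theorem f451128 : Led Lsl_dt (LP (LK LD1_c0 LD2_c23 LD3_c59)) = v212 :=
  Lrfl
theorem f62803 : Led Lsl_dt (LP (LK LD1_c0 LD2_c9 LD3_c34)) = (LP (LK LD1_c0 LD2_c21 LD3_c9)) :=
  Lre_d IH (LK LD1_c0 LD2_c9 LD3_c34) (LK LD1_c0 LD2_c21 LD3_c9) Lrfl Lrfl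
theorem f62810 : Led Lsl_et (LP (LK LD1_c0 LD2_c4 LD3_c57)) = (LP (LK LD1_c0 LD2_c10 LD3_c36)) :=
  Lre_e IH (LK LD1_c0 LD2_c4 LD3_c57) (LK LD1_c0 LD2_c10 LD3_c36) Lrfl Lrfl
theorem f446773 : Led Lsl_ff K11.v77 = K11.v77 :=
  Lgr Lrot23 (Lpe (K11.f446771 IH) (Lpe (K11.f433180 IH) (Lpr_ct (K11.f446770 IH) (Lpn K11.v77))))
theorem f447699 : Led Lsl_ff K7.v98 = K7.v98 :=
  Lgr Lrot25 (Lpe (K11.f447697 IH) (Lpe (f446773 IH) (Lpr_bt (K11.f447696 IH) (Lpn K7.v98))))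
theorem f446774 : Led Lsl_gt (LP (LK LD1_c0 LD2_c4 LD3_c55)) = K11.v77 :=
  Lgr Lrot65 (Lpe (K7.f124172 IH) (Lpr_bt (K7.f156388 IH) (Lpe (K7.f13435 IH) (Lpe (K7.f154149 IH) (Lpe (K7.f152170 IH) (Lpr_gf (K7.f83108 IH) (Lpe (K7.f23403 IH) (Lpr_gf (K7.f82540 IH) (Lpr_bf (K11.f154128 IH) (Lpr_ct (K11.f446770 IH) (Lpn K11.v77)))))))))))
theorem f446776 : Led Lsl_af K11.v77 = K11.v77 :=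
  Lgr Lrot31 (Lpe (f446774 IH) (Lpr_gf (K11.f446775 IH) (Lpe (f446773 IH) (Lpn K11.v77))))
theorem f446772 : Led Lsl_ef (LP (LK LD1_c0 LD2_c9 LD3_c54)) = K11.v77 :=
  Lgr Lrot28 (Lpr_ct (K6.f4936 IH) (Lpe (K0.f4933 IH) (Lpr_ct (K11.f446770 IH) (Lpn K11.v77))))
theorem f433170 : Led Lsl_at (LP (LK LD1_c0 LD2_c9 LD3_c54)) = (LP (LK LD1_c0 LD2_c9 LD3_c54)) :=
  Lgr Lrot66 (Lpr_ff (K11.f433168 IH) (Lpr_af (K11.f433146 IH) (Lpe (K11.f433162 IH) (Lpn (LP (LK LD1_c0 LD2_c9 LD3_c54))))))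
theorem f446777 : Led Lsl_et (LP (LK LD1_c0 LD2_c9 LD3_c54)) = K11.v77 :=
  Lgr Lrot123 (Lpe (f433170 IH) (Lpr_ef (f446772 IH) (Lpr_af (f446776 IH) (Lpn K11.v77))))
theorem f447698 : Led Lsl_ef (LP (LK LD1_c0 LD2_c21 LD3_c56)) = K7.v98 :=
  Lgr Lrot29 (Lpr_bt (K6.f143289 IH) (Lpr_et (f446777 IH) (Lpr_bt (K11.f447696 IH) (Lpn K7.v98))))
theorem f433172 : Led Lsl_ft (LP (LK LD1_c0 LD2_c21 LD3_c56)) = (LP (LK LD1_c0 LD2_c21 LD3_c57)) :=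
  Lgr Lrot75 (Lpe (K6.f10032 IH) (Lpr_ff (K11.f433168 IH) (Lpe (K11.f10020 IH) (Lpn (LP (LK LD1_c0 LD2_c21 LD3_c57))))))
theorem f433164 : Led Lsl_ff (LP (LK LD1_c0 LD2_c21 LD3_c56)) = (LP (LK LD1_c0 LD2_c21 LD3_c57)) :=
  Lgr Lrot25 (Lpr_bt (K6.f143289 IH) (Lpr_ft (K11.f433162 IH) (Lpr_bt (K7.f9998 IH) (Lpn (LP (LK LD1_c0 LD2_c21 LD3_c57))))))
theorem f447701 : Led Lsl_et (LP (LK LD1_c0 LD2_c21 LD3_c56)) = K7.v98 :=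
  Lgr Lrot69 (Lpr_ff (f433164 IH) (Lpr_ef (K11.f10021 IH) (Lpe (f433172 IH) (Lpr_ef (f447698 IH) (Lpr_ff (f447699 IH) (Lpn K7.v98))))))
theorem f451133 : Led Lsl_gt v164 = v212 :=
  Lgr Lrot112 (Lpe (f450839 IH) (Lpr_et (f447701 IH) (Lpe (K7.f447691 IH) (Lpe (f62810 IH) (Lpr_dt (K1.f14693 IH) (Lpe (K1.f62796 IH) (Lpe (f62803 IH) (Lpr_gf (K4.f110027 IH) (Lpe (K2.f88659 IH) (Lpr_dt (f451128 IH) (Lpn v212)))))))))))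
theorem f451130 : Led Lsl_df (LP (LK LD1_c0 LD2_c23 LD3_c59)) = v212 :=
  Lgr Lrot38 (Lpr_dt (f451128 IH) (Lpn v212))
theorem f18011 : Led Lsl_dt (LP (LK LD1_c1 LD2_c53 LD3_c25)) = (LP (LK LD1_c0 LD2_c53 LD3_c18)) :=
  Lre_d IH (LK LD1_c1 LD2_c53 LD3_c25) (LK LD1_c0 LD2_c53 LD3_c18) Lrfl Lrfl
theorem f529958 : Led Lsl_gf (LP (LK LD1_c1 LD2_c53 LD3_c25)) = v2638 :=
  Lgr Lrot143 (Lpr_dt (f18011 IH) (Lpe (K2.f10993 IH) (Lpr_df (f451130 IH) (Lpe (f451133 IH) (Lpe (f450839 IH) (Lpe (K6.f106099 IH) (Lpe (f87591 IH) (Lpe (f447735 IH) (Lpr_dt (f529952 IH) (Lpn v2638))))))))))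
theorem f86347 : Led Lsl_bt (LP (LK LD1_c3 LD2_c53 LD3_c36)) = (LP (LK LD1_c7 LD2_c48 LD3_c47)) :=
  Lre_b IH (LK LD1_c3 LD2_c53 LD3_c36) (LK LD1_c7 LD2_c48 LD3_c47) Lrfl Lrfl
theorem f86348 : Led Lsl_gt (LP (LK LD1_c7 LD2_c48 LD3_c47)) = (LP (LK LD1_c14 LD2_c44 LD3_c35)) :=
  Lre_g IH (LK LD1_c7 LD2_c48 LD3_c47) (LK LD1_c14 LD2_c44 LD3_c35) Lrfl Lrfl
theorem f434660 : Led Lsl_bt (LP (LK LD1_c24 LD2_c30 LD3_c44)) = (LP (LK LD1_c14 LD2_c44 LD3_c35)) :=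
  Lre_b IH (LK LD1_c24 LD2_c30 LD3_c44) (LK LD1_c14 LD2_c44 LD3_c35) Lrfl Lrfl
theorem f529971 : Led Lsl_cf (LP (LK LD1_c21 LD2_c24 LD3_c30)) = (LP (LK LD1_c24 LD2_c30 LD3_c44)) :=
  Lgr Lrot160 (Lpr_gt (f155348 IH) (Lpe (f434647 IH) (Lpr_bt (f119393 IH) (Lpe (f119391 IH) (Lpr_ct (f529959 IH) (Lpe (f529958 IH) (Lpe (K7.f86344 IH) (Lpr_bt (f86347 IH) (Lpr_gt (f86348 IH) (Lpe (f434660 IH) (Lpn (LP (LK LD1_c24 LD2_c30 LD3_c44)))))))))))))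
theorem f529972 : Led Lsl_ct (LP (LK LD1_c24 LD2_c30 LD3_c44)) = (LP (LK LD1_c21 LD2_c24 LD3_c30)) :=
  Leop (Lpr_cf (f529971 IH) (Lpn (LP (LK LD1_c24 LD2_c30 LD3_c44))))
theorem seed_218 : LEOK LG_c (LK LD1_c24 LD2_c30 LD3_c44) :=
  Leoe_c (LK LD1_c24 LD2_c30 LD3_c44) (f529972 IH)
def v2645 : LQ := Led Lsl_ft (LP (LK LD1_c1 LD2_c50 LD3_c35))
theorem f530020 : Led Lsl_ft (LP (LK LD1_c1 LD2_c50 LD3_c35)) = v2645 :=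
  Lrfl
theorem f530025 : Led Lsl_ff (LP (LK LD1_c1 LD2_c50 LD3_c35)) = v2645 :=
  Lgr Lrot3 (Lpr_ft (f530020 IH) (Lpn v2645))
theorem f530030 : Led Lsl_gf (LP (LK LD1_c3 LD2_c48 LD3_c17)) = v2645 :=
  Lgr Lrot47 (Lpe (K33.f482392 IH) (Lpe (K29.f88628 IH) (Lpr_ff (f530025 IH) (Lpn v2645))))
theorem f5988 : Led Lsl_dt (LP (LK LD1_c3 LD2_c32 LD3_c50)) = (LP (LK LD1_c7 LD2_c6 LD3_c37)) :=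
  Lre_d IH (LK LD1_c3 LD2_c32 LD3_c50) (LK LD1_c7 LD2_c6 LD3_c37) Lrfl Lrfl
theorem f467931 : Led Lsl_ct (LP (LK LD1_c13 LD2_c28 LD3_c22)) = (LP (LK LD1_c7 LD2_c6 LD3_c37)) :=
  Lre_c IH (LK LD1_c13 LD2_c28 LD3_c22) (LK LD1_c7 LD2_c6 LD3_c37) Lrfl Lrfl
theorem f530028 : Led Lsl_ct (LP (LK LD1_c3 LD2_c34 LD3_c4)) = v2645 :=
  Lgr Lrot40 (Lpe (f486619 IH) (Lpe (K29.f88490 IH) (Lpr_ff (f530025 IH) (Lpn v2645))))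
theorem f482406 : Led Lsl_gt (LP (LK LD1_c3 LD2_c34 LD3_c6)) = (LP (LK LD1_c7 LD2_c9 LD3_c20)) :=
  Lre_g IH (LK LD1_c3 LD2_c34 LD3_c6) (LK LD1_c7 LD2_c9 LD3_c20) Lrfl Lrfl
theorem f486547 : Led Lsl_ct (LP (LK LD1_c7 LD2_c9 LD3_c20)) = (LP (LK LD1_c13 LD2_c33 LD3_c13)) :=
  Lre_c IH (LK LD1_c7 LD2_c9 LD3_c20) (LK LD1_c13 LD2_c33 LD3_c13) Lrfl Lrfl
theorem f530032 : Led Lsl_gf (LP (LK LD1_c13 LD2_c28 LD3_c22)) = (LP (LK LD1_c13 LD2_c33 LD3_c13)) :=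
  Lgr Lrot104 (Lpr_ct (f467931 IH) (Lpe (f5988 IH) (Lpr_cf (K28.f467915 IH) (Lpr_gf (f530030 IH) (Lpe (f530028 IH) (Lpe (f5944 IH) (Lpe (K33.f455840 IH) (Lpr_gt (f482406 IH) (Lpr_ct (f486547 IH) (Lpn (LP (LK LD1_c13 LD2_c33 LD3_c13))))))))))))
theorem f530033 : Led Lsl_gt (LP (LK LD1_c13 LD2_c33 LD3_c13)) = (LP (LK LD1_c13 LD2_c28 LD3_c22)) :=
  Leop (Lpr_gf (f530032 IH) (Lpn (LP (LK LD1_c13 LD2_c33 LD3_c13))))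
theorem seed_219 : LEOK LG_g (LK LD1_c13 LD2_c33 LD3_c13) :=
  Leoe_g (LK LD1_c13 LD2_c33 LD3_c13) (f530033 IH)
theorem f490237 : Led Lsl_ff (LP (LK LD1_c0 LD2_c53 LD3_c30)) = v880 :=
  Lgr Lrot3 (Lpr_ft (f490235 IH) (Lpn v880))
theorem f490242 : Led Lsl_at (LP (LK LD1_c0 LD2_c53 LD3_c30)) = v881 :=
  Lgr Lrot66 (Lpr_ff (f490237 IH) (Lpe (f490233 IH) (Lpr_ff (f490241 IH) (Lpn v881))))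
theorem f524217 : Led Lsl_af (LP (LK LD1_c3 LD2_c48 LD3_c17)) = (LP (LK LD1_c3 LD2_c33 LD3_c54)) :=
  Lgr Lrot36 (Lpr_bt (K28.f459776 IH) (Lpr_at (f524215 IH) (Lpr_bt (K29.f123408 IH) (Lpr_at (f490242 IH) (Lpqs (f523928 IH) (Lpr_bt (K29.f456027 IH) (Lpn (LP (LK LD1_c3 LD2_c33 LD3_c54)))))))))
theorem f530031 : Led Lsl_gt (LP (LK LD1_c1 LD2_c53 LD3_c50)) = v2645 :=
  Lgr Lrot5 (Lpr_ft (f524008 IH) (Lpe (f524217 IH) (Lpr_gf (f530030 IH) (Lpn v2645))))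
theorem f523559 : Led Lsl_cf (LP (LK LD1_c7 LD2_c9 LD3_c27)) = (LP (LK LD1_c7 LD2_c3 LD3_c46)) :=
  Lgr Lrot11 (Lpr_ct (f523554 IH) (Lpn (LP (LK LD1_c7 LD2_c3 LD3_c46))))
theorem f530023 : Led Lsl_cf (LP (LK LD1_c3 LD2_c34 LD3_c4)) = v2645 :=
  Lgr Lrot108 (Lpe (f486609 IH) (Lpe (K29.f88539 IH) (Lpr_ft (f530020 IH) (Lpn v2645))))
theorem f486621 : Led Lsl_gf (LP (LK LD1_c1 LD2_c43 LD3_c47)) = (LP (LK LD1_c3 LD2_c34 LD3_c4)) :=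
  Lgr Lrot47 (Lpe (K28.f466641 IH) (Lpe (f96962 IH) (Lpr_ff (f486609 IH) (Lpn (LP (LK LD1_c3 LD2_c34 LD3_c4))))))
theorem f106034 : Led Lsl_dt (LP (LK LD1_c1 LD2_c43 LD3_c48)) = (LP (LK LD1_c0 LD2_c48 LD3_c28)) :=
  Lre_d IH (LK LD1_c1 LD2_c43 LD3_c48) (LK LD1_c0 LD2_c48 LD3_c28) Lrfl Lrfl
theorem f128144 : Led Lsl_ct (LP (LK LD1_c3 LD2_c34 LD3_c16)) = (LP (LK LD1_c1 LD2_c43 LD3_c48)) :=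
  Lre_c IH (LK LD1_c3 LD2_c34 LD3_c16) (LK LD1_c1 LD2_c43 LD3_c48) Lrfl Lrfl
theorem f530037 : Led Lsl_gt (LP (LK LD1_c7 LD2_c9 LD3_c27)) = (LP (LK LD1_c3 LD2_c34 LD3_c16)) :=
  Lgr Lrot150 (Lpr_cf (f523559 IH) (Lpr_gf (K29.f467259 IH) (Lpe (K29.f456114 IH) (Lpr_gt (f530031 IH) (Lpe (f530023 IH) (Lpe (f486621 IH) (Lpr_ct (K28.f6019 IH) (Lpe (f106034 IH) (Lpe (f128144 IH) (Lpn (LP (LK LD1_c3 LD2_c34 LD3_c16))))))))))))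
theorem f530038 : Led Lsl_gt (LP (LK LD1_c7 LD2_c9 LD3_c27)) = (LP (LK LD1_c3 LD2_c34 LD3_c16)) :=
  Leop (Lpe (f530037 IH) (Lpn (LP (LK LD1_c7 LD2_c9 LD3_c27))))
theorem seed_220 : LEOK LG_g (LK LD1_c7 LD2_c9 LD3_c27) :=
  Leoe_g (LK LD1_c7 LD2_c9 LD3_c27) (f530038 IH)
def v2646 : LQ := Led Lsl_ft (LP (LK LD1_c1 LD2_c50 LD3_c39))
theorem f530041 : Led Lsl_ft (LP (LK LD1_c1 LD2_c50 LD3_c39)) = v2646 :=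
  Lrfl
theorem f530045 : Led Lsl_ff (LP (LK LD1_c1 LD2_c50 LD3_c39)) = v2646 :=
  Lgr Lrot3 (Lpr_ft (f530041 IH) (Lpn v2646))
theorem f87684 : Led Lsl_at (LP (LK LD1_c1 LD2_c50 LD3_c39)) = (LP (LK LD1_c0 LD2_c52 LD3_c32)) :=
  Lgr Lrot100 (Lpr_af (K2.f87680 IH) (Lpn (LP (LK LD1_c0 LD2_c52 LD3_c32))))
theorem f530049 : Led Lsl_gf (LP (LK LD1_c1 LD2_c51 LD3_c24)) = v2646 :=
  Lgr Lrot47 (Lpr_gt (K33.f89664 IH) (Lpe (f87684 IH) (Lpr_ff (f530045 IH) (Lpn v2646))))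
theorem f530050 : Led Lsl_gt (LP (LK LD1_c1 LD2_c51 LD3_c23)) = v2646 :=
  Lgr Lrot5 (Lpe (f516274 IH) (Lpr_at (f514993 IH) (Lpr_gf (f530049 IH) (Lpn v2646))))
theorem f62740 : Led Lsl_ct (LP (LK LD1_c7 LD2_c3 LD3_c54)) = (LP (LK LD1_c13 LD2_c23 LD3_c36)) :=
  Lre_c IH (LK LD1_c7 LD2_c3 LD3_c54) (LK LD1_c13 LD2_c23 LD3_c36) Lrfl Lrfl
theorem f530043 : Led Lsl_cf K29.v844 = v2646 :=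
  Lgr Lrot108 (Lpe (K29.f459678 IH) (Lpr_ct (K28.f87697 IH) (Lpr_ft (f530041 IH) (Lpn v2646))))
theorem f459683 : Led Lsl_gf (LP (LK LD1_c0 LD2_c52 LD3_c34)) = K29.v844 :=
  Lgr Lrot47 (Lpr_gt (K28.f62688 IH) (Lpe (K2.f87672 IH) (Lpr_ff (K29.f459678 IH) (Lpn K29.v844))))
theorem f451091 : Led Lsl_ct (LP (LK LD1_c0 LD2_c52 LD3_c34)) = (LP (LK LD1_c1 LD2_c51 LD3_c30)) :=
  Lre_c IH (LK LD1_c0 LD2_c52 LD3_c34) (LK LD1_c1 LD2_c51 LD3_c30) Lrfl Lrfl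
theorem f459688 : Led Lsl_ct (LP (LK LD1_c7 LD2_c39 LD3_c6)) = (LP (LK LD1_c3 LD2_c48 LD3_c60)) :=
  Lre_c IH (LK LD1_c7 LD2_c39 LD3_c6) (LK LD1_c3 LD2_c48 LD3_c60) Lrfl Lrfl
theorem f530051 : Led Lsl_gt (LP (LK LD1_c13 LD2_c23 LD3_c36)) = (LP (LK LD1_c7 LD2_c39 LD3_c6)) :=
  Lgr Lrot150 (Lpe (f62740 IH) (Lpr_gf (K5.f62707 IH) (Lpe (K5.f62706 IH) (Lpr_gt (f530050 IH) (Lpe (f530043 IH) (Lpe (f459683 IH) (Lpr_ct (f451091 IH) (Lpe (K29.f459689 IH) (Lpe (f459688 IH) (Lpn (LP (LK LD1_c7 LD2_c39 LD3_c6))))))))))))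
theorem f530052 : Led Lsl_gt (LP (LK LD1_c13 LD2_c23 LD3_c36)) = (LP (LK LD1_c7 LD2_c39 LD3_c6)) :=
  Leop (Lpe (f530051 IH) (Lpn (LP (LK LD1_c13 LD2_c23 LD3_c36))))
theorem seed_221 : LEOK LG_g (LK LD1_c13 LD2_c23 LD3_c36) :=
  Leoe_g (LK LD1_c13 LD2_c23 LD3_c36) (f530052 IH)
def v2658 : LQ := Led Lsl_et (LP (LK LD1_c1 LD2_c51 LD3_c28))
theorem f530154 : Led Lsl_et (LP (LK LD1_c1 LD2_c51 LD3_c28)) = v2658 :=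
  Lrfl
theorem f530157 : Led Lsl_ef (LP (LK LD1_c1 LD2_c51 LD3_c28)) = v2658 :=
  Lgr Lrot88 (Lpr_et (f530154 IH) (Lpn v2658))
theorem f62713 : Led Lsl_dt (LP (LK LD1_c1 LD2_c51 LD3_c28)) = (LP (LK LD1_c0 LD2_c52 LD3_c33)) :=
  Lre_d IH (LK LD1_c1 LD2_c51 LD3_c28) (LK LD1_c0 LD2_c52 LD3_c33) Lrfl Lrfl
theorem f530161 : Led Lsl_dt (LP (LK LD1_c3 LD2_c29 LD3_c48)) = v2658 :=
  Lgr Lrot77 (Lpe (K30.f442190 IH) (Lpr_df (K29.f442184 IH) (Lpe (K28.f62725 IH) (Lpe (f62713 IH) (Lpr_ef (f530157 IH) (Lpn v2658))))))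
theorem f472335 : Led Lsl_dt (LP (LK LD1_c1 LD2_c53 LD3_c18)) = (LP (LK LD1_c3 LD2_c53 LD3_c27)) :=
  Lre_d IH (LK LD1_c1 LD2_c53 LD3_c18) (LK LD1_c3 LD2_c53 LD3_c27) Lrfl Lrfl
theorem f472336 : Led Lsl_gt (LP (LK LD1_c3 LD2_c53 LD3_c27)) = (LP (LK LD1_c7 LD2_c48 LD3_c30)) :=
  Lre_g IH (LK LD1_c3 LD2_c53 LD3_c27) (LK LD1_c7 LD2_c48 LD3_c30) Lrfl Lrfl
theorem f472375 : Led Lsl_df (LP (LK LD1_c7 LD2_c48 LD3_c30)) = (LP (LK LD1_c7 LD2_c1 LD3_c5)) :=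
  Lgr Lrot132 (Lpe (f472336 IH) (Lpe (f472335 IH) (Lpr_gf (f472367 IH) (Lpe (f96181 IH) (Lpe (K3.f96165 IH) (Lpe (K3.f105560 IH) (Lpe (K3.f64793 IH) (Lpr_et (K29.f103963 IH) (Lpe (K29.f105566 IH) (Lpe (K30.f105567 IH) (Lpn (LP (LK LD1_c7 LD2_c1 LD3_c5)))))))))))))
def v208 : LQ := Led Lsl_dt (LP (LK LD1_c0 LD2_c23 LD3_c45))
theorem f451088 : Led Lsl_dt (LP (LK LD1_c0 LD2_c23 LD3_c45)) = v208 :=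
  Lrfl
theorem f451089 : Led Lsl_df (LP (LK LD1_c0 LD2_c23 LD3_c45)) = v208 :=
  Lgr Lrot38 (Lpr_dt (f451088 IH) (Lpn v208))
theorem f451090 : Led Lsl_ef (LP (LK LD1_c0 LD2_c47 LD3_c6)) = v208 :=
  Lgr Lrot73 (Lpr_dt (K3.f64290 IH) (Lpr_et (K3.f64289 IH) (Lpr_dt (K1.f62667 IH) (Lpr_et (K5.f62687 IH) (Lpr_dt (f451088 IH) (Lpn v208))))))
theorem f85612 : Led Lsl_et (LP (LK LD1_c0 LD2_c53 LD3_c16)) = (LP (LK LD1_c0 LD2_c23 LD3_c61)) :=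
  Lre_e IH (LK LD1_c0 LD2_c53 LD3_c16) (LK LD1_c0 LD2_c23 LD3_c61) Lrfl Lrfl
theorem f15684 : Led Lsl_dt (LP (LK LD1_c0 LD2_c53 LD3_c16)) = (LP (LK LD1_c0 LD2_c23 LD3_c58)) :=
  Lre_d IH (LK LD1_c0 LD2_c53 LD3_c16) (LK LD1_c0 LD2_c23 LD3_c58) Lrfl Lrfl
def v874 : LQ := Led Lsl_dt (LP (LK LD1_c0 LD2_c53 LD3_c15))
theorem f490193 : Led Lsl_dt (LP (LK LD1_c0 LD2_c53 LD3_c15)) = v874 :=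
  Lrfl
theorem f490194 : Led Lsl_df (LP (LK LD1_c0 LD2_c53 LD3_c15)) = v874 :=
  Lgr Lrot38 (Lpr_dt (f490193 IH) (Lpn v874))
theorem f530158 : Led Lsl_gf v874 = v2658 :=
  Lgr Lrot138 (Lpe (f490194 IH) (Lpr_gt (K28.f15697 IH) (Lpe (f15684 IH) (Lpr_et (f85612 IH) (Lpr_gt (K3.f85286 IH) (Lpr_ef (f451090 IH) (Lpe (f451089 IH) (Lpr_gt (K5.f62691 IH) (Lpe (f62713 IH) (Lpr_et (f530154 IH) (Lpn v2658)))))))))))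
theorem f465258 : Led Lsl_dt (LP (LK LD1_c3 LD2_c53 LD3_c30)) = (LP (LK LD1_c1 LD2_c53 LD3_c21)) :=
  Lre_d IH (LK LD1_c3 LD2_c53 LD3_c30) (LK LD1_c1 LD2_c53 LD3_c21) Lrfl Lrfl
theorem f530162 : Led Lsl_gt (LP (LK LD1_c7 LD2_c48 LD3_c30)) = (LP (LK LD1_c3 LD2_c53 LD3_c30)) :=
  Lgr Lrot49 (Lpr_df (f472375 IH) (Lpe (K30.f477932 IH) (Lpe (K30.f129757 IH) (Lpr_gt (K30.f493548 IH) (Lpr_dt (f530161 IH) (Lpe (f530158 IH) (Lpe (f490194 IH) (Lpe (K28.f15698 IH) (Lpe (f465258 IH) (Lpn (LP (LK LD1_c3 LD2_c53 LD3_c30))))))))))))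
theorem f530163 : Led Lsl_gt (LP (LK LD1_c7 LD2_c48 LD3_c30)) = (LP (LK LD1_c3 LD2_c53 LD3_c30)) :=
  Leop (Lpe (f530162 IH) (Lpn (LP (LK LD1_c7 LD2_c48 LD3_c30))))
theorem seed_222 : LEOK LG_g (LK LD1_c7 LD2_c48 LD3_c30) :=
  Leoe_g (LK LD1_c7 LD2_c48 LD3_c30) (f530163 IH)
def v2665 : LQ := Led Lsl_et (LP (LK LD1_c1 LD2_c51 LD3_c47))
theorem f530185 : Led Lsl_et (LP (LK LD1_c1 LD2_c51 LD3_c47)) = v2665 :=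
  Lrfl
theorem f530186 : Led Lsl_ef (LP (LK LD1_c1 LD2_c51 LD3_c47)) = v2665 :=
  Lgr Lrot88 (Lpr_et (f530185 IH) (Lpn v2665))
theorem f89312 : Led Lsl_et (LP (LK LD1_c1 LD2_c41 LD3_c28)) = (LP (LK LD1_c0 LD2_c47 LD3_c17)) :=
  Lre_e IH (LK LD1_c1 LD2_c41 LD3_c28) (LK LD1_c0 LD2_c47 LD3_c17) Lrfl Lrfl
theorem f89313 : Led Lsl_dt (LP (LK LD1_c1 LD2_c41 LD3_c28)) = (LP (LK LD1_c3 LD2_c29 LD3_c29)) :=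
  Lre_d IH (LK LD1_c1 LD2_c41 LD3_c28) (LK LD1_c3 LD2_c29 LD3_c29) Lrfl Lrfl
theorem f89314 : Led Lsl_gt (LP (LK LD1_c7 LD2_c0 LD3_c38)) = (LP (LK LD1_c3 LD2_c29 LD3_c29)) :=
  Lre_g IH (LK LD1_c7 LD2_c0 LD3_c38) (LK LD1_c3 LD2_c29 LD3_c29) Lrfl Lrfl
theorem f530187 : Led Lsl_df (LP (LK LD1_c7 LD2_c0 LD3_c38)) = v2665 :=
  Lgr Lrot170 (Lpr_gt (f89314 IH) (Lpe (f89313 IH) (Lpr_et (f89312 IH) (Lpr_gt (K0.f11439 IH) (Lpr_dt (K2.f89297 IH) (Lpe (K2.f89295 IH) (Lpe (K2.f63504 IH) (Lpr_et (K29.f87812 IH) (Lpr_gt (K33.f87835 IH) (Lpr_ef (f530186 IH) (Lpn v2665)))))))))))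
theorem f530190 : Led Lsl_et (LP (LK LD1_c7 LD2_c0 LD3_c38)) = (LP (LK LD1_c13 LD2_c18 LD3_c2)) :=
  Lre_e IH (LK LD1_c7 LD2_c0 LD3_c38) (LK LD1_c13 LD2_c18 LD3_c2) Lrfl Lrfl
theorem f520109 : Led Lsl_et (LP (LK LD1_c7 LD2_c40 LD3_c6)) = (LP (LK LD1_c3 LD2_c49 LD3_c36)) :=
  Lre_e IH (LK LD1_c7 LD2_c40 LD3_c6) (LK LD1_c3 LD2_c49 LD3_c36) Lrfl Lrfl
theorem f530191 : Led Lsl_dt (LP (LK LD1_c13 LD2_c18 LD3_c2)) = (LP (LK LD1_c7 LD2_c40 LD3_c6)) :=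
  Lgr Lrot77 (Lpe (f530190 IH) (Lpr_df (f530187 IH) (Lpe (f530185 IH) (Lpe (K33.f87836 IH) (Lpe (f520109 IH) (Lpn (LP (LK LD1_c7 LD2_c40 LD3_c6))))))))
theorem f530192 : Led Lsl_dt (LP (LK LD1_c13 LD2_c18 LD3_c2)) = (LP (LK LD1_c7 LD2_c40 LD3_c6)) :=
  Leop (Lpe (f530191 IH) (Lpn (LP (LK LD1_c13 LD2_c18 LD3_c2))))
theorem seed_223 : LEOK LG_d (LK LD1_c13 LD2_c18 LD3_c2) :=
  Leoe_d (LK LD1_c13 LD2_c18 LD3_c2) (f530192 IH)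
def v2682 : LQ := Led Lsl_gf (LP (LK LD1_c1 LD2_c52 LD3_c42))
theorem f530360 : Led Lsl_gf (LP (LK LD1_c1 LD2_c52 LD3_c42)) = v2682 :=
  Lrfl
theorem f477503 : Led Lsl_et (LP (LK LD1_c3 LD2_c52 LD3_c2)) = (LP (LK LD1_c7 LD2_c45 LD3_c57)) :=
  Lre_e IH (LK LD1_c3 LD2_c52 LD3_c2) (LK LD1_c7 LD2_c45 LD3_c57) Lrfl Lrfl
theorem f493213 : Led Lsl_gt (LP (LK LD1_c7 LD2_c45 LD3_c57)) = (LP (LK LD1_c14 LD2_c38 LD3_c53)) :=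
  Lre_g IH (LK LD1_c7 LD2_c45 LD3_c57) (LK LD1_c14 LD2_c38 LD3_c53) Lrfl Lrfl
theorem f493217 : Led Lsl_et (LP (LK LD1_c24 LD2_c22 LD3_c41)) = (LP (LK LD1_c14 LD2_c38 LD3_c53)) :=
  Lre_e IH (LK LD1_c24 LD2_c22 LD3_c41) (LK LD1_c14 LD2_c38 LD3_c53) Lrfl Lrfl
theorem f530364 : Led Lsl_dt (LP (LK LD1_c7 LD2_c2 LD3_c34)) = v2682 :=
  Lgr Lrot57 (Lpe (K29.f461392 IH) (Lpe (K29.f458473 IH) (Lpe (K33.f477396 IH) (Lpr_dt (K33.f477244 IH) (Lpe (K29.f463999 IH) (Lpr_dt (K29.f463973 IH) (Lpe (K29.f63673 IH) (Lpe (K3.f63657 IH) (Lpr_gf (f530360 IH) (Lpn v2682))))))))))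
theorem f461352 : Led Lsl_et (LP (LK LD1_c7 LD2_c2 LD3_c47)) = (LP (LK LD1_c3 LD2_c30 LD3_c25)) :=
  Lre_e IH (LK LD1_c7 LD2_c2 LD3_c47) (LK LD1_c3 LD2_c30 LD3_c25) Lrfl Lrfl
theorem f461353 : Led Lsl_dt (LP (LK LD1_c7 LD2_c2 LD3_c47)) = (LP (LK LD1_c13 LD2_c21 LD3_c50)) :=
  Lre_d IH (LK LD1_c7 LD2_c2 LD3_c47) (LK LD1_c13 LD2_c21 LD3_c50) Lrfl Lrfl
theorem f461416 : Led Lsl_gt (LP (LK LD1_c22 LD2_c38 LD3_c48)) = (LP (LK LD1_c13 LD2_c21 LD3_c50)) :=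
  Lre_g IH (LK LD1_c22 LD2_c38 LD3_c48) (LK LD1_c13 LD2_c21 LD3_c50) Lrfl Lrfl
theorem f530367 : Led Lsl_dt (LP (LK LD1_c24 LD2_c22 LD3_c41)) = (LP (LK LD1_c22 LD2_c38 LD3_c48)) :=
  Lgr Lrot136 (Lpr_et (f493217 IH) (Lpe (f493213 IH) (Lpe (f477503 IH) (Lpr_dt (K33.f63666 IH) (Lpr_gf (f530360 IH) (Lpe (f530364 IH) (Lpe (K29.f461392 IH) (Lpe (f461352 IH) (Lpr_dt (f461353 IH) (Lpe (f461416 IH) (Lpn (LP (LK LD1_c22 LD2_c38 LD3_c48)))))))))))))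
theorem f530368 : Led Lsl_dt (LP (LK LD1_c24 LD2_c22 LD3_c41)) = (LP (LK LD1_c22 LD2_c38 LD3_c48)) :=
  Leop (Lpe (f530367 IH) (Lpn (LP (LK LD1_c24 LD2_c22 LD3_c41))))
theorem seed_224 : LEOK LG_d (LK LD1_c24 LD2_c22 LD3_c41) :=
  Leoe_d (LK LD1_c24 LD2_c22 LD3_c41) (f530368 IH)
theorem f530365 : Led Lsl_cf K30.v870 = v2682 :=
  Lgr Lrot166 (Lpe (K30.f490174 IH) (Lpe (K1.f62771 IH) (Lpr_gt (K1.f62791 IH) (Lpr_dt (K29.f18780 IH) (Lpr_ct (K3.f18742 IH) (Lpe (K29.f18791 IH) (Lpr_gf (K29.f63663 IH) (Lpe (K3.f63657 IH) (Lpr_gf (f530360 IH) (Lpn v2682))))))))))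
theorem f63021 : Led Lsl_bt (LP (LK LD1_c1 LD2_c53 LD3_c1)) = (LP (LK LD1_c3 LD2_c52 LD3_c50)) :=
  Lre_b IH (LK LD1_c1 LD2_c53 LD3_c1) (LK LD1_c3 LD2_c52 LD3_c50) Lrfl Lrfl
theorem f63022 : Led Lsl_gt (LP (LK LD1_c3 LD2_c52 LD3_c50)) = (LP (LK LD1_c7 LD2_c47 LD3_c24)) :=
  Lre_g IH (LK LD1_c3 LD2_c52 LD3_c50) (LK LD1_c7 LD2_c47 LD3_c24) Lrfl Lrfl
theorem f476371 : Led Lsl_bt (LP (LK LD1_c14 LD2_c41 LD3_c59)) = (LP (LK LD1_c7 LD2_c47 LD3_c24)) :=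
  Lre_b IH (LK LD1_c14 LD2_c41 LD3_c59) (LK LD1_c7 LD2_c47 LD3_c24) Lrfl Lrfl
theorem f491974 : Led Lsl_at (LP (LK LD1_c3 LD2_c47 LD3_c53)) = (LP (LK LD1_c1 LD2_c52 LD3_c42)) :=
  Lgr Lrot66 (Lpr_ff (K33.f491972 IH) (Lpr_af (K33.f463976 IH) (Lpe (K33.f459873 IH) (Lpn (LP (LK LD1_c1 LD2_c52 LD3_c42))))))
theorem f530361 : Led Lsl_gt (LP (LK LD1_c6 LD2_c57 LD3_c17)) = v2682 :=
  Lgr Lrot5 (Lpe (K33.f491972 IH) (Lpr_at (f491974 IH) (Lpr_gf (f530360 IH) (Lpn v2682))))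
theorem f463933 : Led Lsl_bt (LP (LK LD1_c13 LD2_c12 LD3_c25)) = (LP (LK LD1_c6 LD2_c57 LD3_c17)) :=
  Lre_b IH (LK LD1_c13 LD2_c12 LD3_c25) (LK LD1_c6 LD2_c57 LD3_c17) Lrfl Lrfl
theorem f463944 : Led Lsl_gt (LP (LK LD1_c13 LD2_c12 LD3_c57)) = (LP (LK LD1_c6 LD2_c57 LD3_c34)) :=
  Lre_g IH (LK LD1_c13 LD2_c12 LD3_c57) (LK LD1_c6 LD2_c57 LD3_c34) Lrfl Lrfl
theorem f530376 : Led Lsl_ct (LP (LK LD1_c14 LD2_c41 LD3_c59)) = (LP (LK LD1_c13 LD2_c12 LD3_c57)) :=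
  Lgr Lrot64 (Lpr_bt (f476371 IH) (Lpe (f63022 IH) (Lpe (f63021 IH) (Lpr_ct (K24.f62780 IH) (Lpr_gf (K30.f490174 IH) (Lpr_cf (f530365 IH) (Lpe (f530361 IH) (Lpe (f463933 IH) (Lpr_ct (f463938 IH) (Lpe (f463944 IH) (Lpn (LP (LK LD1_c13 LD2_c12 LD3_c57)))))))))))))
theorem f530377 : Led Lsl_ct (LP (LK LD1_c14 LD2_c41 LD3_c59)) = (LP (LK LD1_c13 LD2_c12 LD3_c57)) :=
  Leop (Lpe (f530376 IH) (Lpn (LP (LK LD1_c14 LD2_c41 LD3_c59))))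
theorem seed_225 : LEOK LG_c (LK LD1_c14 LD2_c41 LD3_c59) :=
  Leoe_c (LK LD1_c14 LD2_c41 LD3_c59) (f530377 IH)
def v2705 : LQ := Led Lsl_ft (LP (LK LD1_c1 LD2_c53 LD3_c20))
theorem f530487 : Led Lsl_ft (LP (LK LD1_c1 LD2_c53 LD3_c20)) = v2705 :=
  Lrfl
theorem f530490 : Led Lsl_ff (LP (LK LD1_c1 LD2_c53 LD3_c20)) = v2705 :=
  Lgr Lrot3 (Lpr_ft (f530487 IH) (Lpn v2705))
def v871 : LQ := Led Lsl_at (LP (LK LD1_c0 LD2_c53 LD3_c14))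
theorem f490182 : Led Lsl_at (LP (LK LD1_c0 LD2_c53 LD3_c14)) = v871 :=
  Lrfl
theorem f490183 : Led Lsl_af (LP (LK LD1_c0 LD2_c53 LD3_c14)) = v871 :=
  Lgr Lrot0 (Lpr_at (f490182 IH) (Lpn v871))
theorem f490185 : Led Lsl_ft (LP (LK LD1_c0 LD2_c53 LD3_c15)) = v871 :=
  Lgr Lrot2 (Lpr_gt (K28.f15697 IH) (Lpr_gt (f15692 IH) (Lpr_af (f490183 IH) (Lpn v871))))
theorem f530492 : Led Lsl_bt v871 = v2705 :=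
  Lgr Lrot35 (Lpe (f490185 IH) (Lpe (K28.f446569 IH) (Lpr_ff (f530490 IH) (Lpn v2705))))
def v2694 : LQ := Led Lsl_at (LP (LK LD1_c1 LD2_c53 LD3_c17))
theorem f530443 : Led Lsl_at (LP (LK LD1_c1 LD2_c53 LD3_c17)) = v2694 :=
  Lrfl
theorem f530444 : Led Lsl_af (LP (LK LD1_c1 LD2_c53 LD3_c17)) = v2694 :=
  Lgr Lrot0 (Lpr_at (f530443 IH) (Lpn v2694))
def v2702 : LQ := Led Lsl_at (LP (LK LD1_c1 LD2_c53 LD3_c20))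
theorem f530475 : Led Lsl_at (LP (LK LD1_c1 LD2_c53 LD3_c20)) = v2702 :=
  Lrfl
theorem f530476 : Led Lsl_af (LP (LK LD1_c1 LD2_c53 LD3_c20)) = v2702 :=
  Lgr Lrot0 (Lpr_at (f530475 IH) (Lpn v2702))
theorem f530477 : Led Lsl_ft (LP (LK LD1_c3 LD2_c38 LD3_c6)) = v2702 :=
  Lgr Lrot2 (Lpe (f425236 IH) (Lpe (K29.f470910 IH) (Lpr_af (f530476 IH) (Lpn v2702))))
theorem f530488 : Led Lsl_af (LP (LK LD1_c3 LD2_c38 LD3_c6)) = v2705 :=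
  Lgr Lrot45 (Lpr_ft (f530477 IH) (Lpe (f530476 IH) (Lpr_ft (f530487 IH) (Lpn v2705))))
theorem f471201 : Led Lsl_bt (LP (LK LD1_c3 LD2_c38 LD3_c6)) = (LP (LK LD1_c3 LD2_c42 LD3_c26)) :=
  Lgr Lrot127 (Lpr_bf (f471199 IH) (Lpn (LP (LK LD1_c3 LD2_c42 LD3_c26))))
theorem f530493 : v2694 = (LP (LK LD1_c3 LD2_c42 LD3_c26)) :=
  (Llr Lrot36 (Lpe (f530444 IH) (Lpr_bt (f446570 IH) (Lpr_at (f490182 IH) (Lpr_bt (f530492 IH) (Lpe (f530488 IH) (Lpr_bt (f471201 IH) (Lpn (LP (LK LD1_c3 LD2_c42 LD3_c26)))))))))).symm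
theorem f530494 : Led Lsl_at (LP (LK LD1_c3 LD2_c42 LD3_c26)) = (LP (LK LD1_c1 LD2_c53 LD3_c17)) :=
  Leop (Lpr_af (f530444 IH) (Lpqs (f530493 IH) (Lpn (LP (LK LD1_c3 LD2_c42 LD3_c26)))))
theorem seed_226 : LEOK LG_a (LK LD1_c3 LD2_c42 LD3_c26) :=
  Leoe_a (LK LD1_c3 LD2_c42 LD3_c26) (f530494 IH)
def v2717 : LQ := Led Lsl_dt (LP (LK LD1_c1 LD2_c53 LD3_c34))
theorem f531356 : Led Lsl_dt (LP (LK LD1_c1 LD2_c53 LD3_c34)) = v2717 :=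
  Lrfl
theorem f134748 : Led Lsl_ft (LP (LK LD1_c1 LD2_c53 LD3_c60)) = (LP (LK LD1_c1 LD2_c53 LD3_c34)) :=
  Lgr Lrot75 (Lpe (K28.f84910 IH) (Lpr_ff (K5.f134736 IH) (Lpe (K6.f122749 IH) (Lpn (LP (LK LD1_c1 LD2_c53 LD3_c34))))))
theorem f123448 : Led Lsl_dt (LP (LK LD1_c3 LD2_c54 LD3_c48)) = (LP (LK LD1_c1 LD2_c53 LD3_c60)) :=
  Lre_d IH (LK LD1_c3 LD2_c54 LD3_c48) (LK LD1_c1 LD2_c53 LD3_c60) Lrfl Lrfl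
theorem f531360 : Led Lsl_ff (LP (LK LD1_c3 LD2_c54 LD3_c48)) = v2717 :=
  Lgr Lrot19 (Lpr_dt (f123448 IH) (Lpr_ft (f134748 IH) (Lpr_dt (f531356 IH) (Lpn v2717))))
theorem f531363 : Led Lsl_ft (LP (LK LD1_c3 LD2_c54 LD3_c48)) = v2717 :=
  Lgr Lrot48 (Lpr_ff (f531360 IH) (Lpn v2717))
theorem f202401 : Led Lsl_df (LP (LK LD1_c7 LD2_c2 LD3_c7)) = (LP (LK LD1_c6 LD2_c33 LD3_c40)) :=
  Lgr Lrot38 (Lpr_dt (K32.f202395 IH) (Lpn (LP (LK LD1_c6 LD2_c33 LD3_c40))))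
theorem f58410 : Led Lsl_dt (LP (LK LD1_c3 LD2_c30 LD3_c12)) = (LP (LK LD1_c6 LD2_c9 LD3_c48)) :=
  Lre_d IH (LK LD1_c3 LD2_c30 LD3_c12) (LK LD1_c6 LD2_c9 LD3_c48) Lrfl Lrfl
theorem f58401 : Led Lsl_ct (LP (LK LD1_c6 LD2_c9 LD3_c48)) = (LP (LK LD1_c6 LD2_c17 LD3_c20)) :=
  Lgr Lrot59 (Lpr_cf (K28.f58392 IH) (Lpn (LP (LK LD1_c6 LD2_c17 LD3_c20))))
theorem f58220 : Led Lsl_bt (LP (LK LD1_c4 LD2_c40 LD3_c39)) = (LP (LK LD1_c9 LD2_c16 LD3_c40)) :=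
  Lre_b IH (LK LD1_c4 LD2_c40 LD3_c39) (LK LD1_c9 LD2_c16 LD3_c40) Lrfl Lrfl
theorem f58222 : Led Lsl_dt (LP (LK LD1_c9 LD2_c16 LD3_c40)) = (LP (LK LD1_c6 LD2_c17 LD3_c20)) :=
  Lgr Lrot79 (Lpe (f58220 IH) (Lpr_df (K1.f58215 IH) (Lpe (K3.f58221 IH) (Lpn (LP (LK LD1_c6 LD2_c17 LD3_c20))))))
theorem f58412 : Led Lsl_gt (LP (LK LD1_c17 LD2_c11 LD3_c26)) = (LP (LK LD1_c9 LD2_c16 LD3_c40)) :=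
  Lre_g IH (LK LD1_c17 LD2_c11 LD3_c26) (LK LD1_c9 LD2_c16 LD3_c40) Lrfl Lrfl
theorem f202468 : Led Lsl_df (LP (LK LD1_c17 LD2_c11 LD3_c26)) = (LP (LK LD1_c9 LD2_c21 LD3_c43)) :=
  Lgr Lrot153 (Lpr_gt (f58412 IH) (Lpr_dt (f58222 IH) (Lpe (f58401 IH) (Lpe (f58410 IH) (Lpe (K32.f58411 IH) (Lpr_df (f202401 IH) (Lpe (K7.f98890 IH) (Lpe (K7.f14017 IH) (Lpr_gt (K8.f14013 IH) (Lpn (LP (LK LD1_c9 LD2_c21 LD3_c43))))))))))))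
theorem f76680 : Led Lsl_bt (LP (LK LD1_c9 LD2_c16 LD3_c34)) = (LP (LK LD1_c17 LD2_c11 LD3_c16)) :=
  Lre_b IH (LK LD1_c9 LD2_c16 LD3_c34) (LK LD1_c17 LD2_c11 LD3_c16) Lrfl Lrfl
theorem f101785 : Led Lsl_gt (LP (LK LD1_c11 LD2_c33 LD3_c34)) = (LP (LK LD1_c20 LD2_c30 LD3_c49)) :=
  Lre_g IH (LK LD1_c11 LD2_c33 LD3_c34) (LK LD1_c20 LD2_c30 LD3_c49) Lrfl Lrfl
theorem f101786 : Led Lsl_gf (LP (LK LD1_c20 LD2_c41 LD3_c1)) = (LP (LK LD1_c20 LD2_c30 LD3_c49)) :=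
  Lgr Lrot76 (Lpe (K7.f101783 IH) (Lpr_ff (K7.f101781 IH) (Lpr_gt (f101785 IH) (Lpn (LP (LK LD1_c20 LD2_c30 LD3_c49))))))
theorem f202453 : Led Lsl_cf (LP (LK LD1_c20 LD2_c30 LD3_c49)) = (LP (LK LD1_c17 LD2_c59 LD3_c13)) :=
  Lgr Lrot125 (Lpe (f101786 IH) (Lpe (K2.f81616 IH) (Lpr_bt (K2.f36155 IH) (Lpe (K6.f71889 IH) (Lpr_bf (K4.f112610 IH) (Lpr_ct (K4.f105037 IH) (Lpr_gt (K8.f105030 IH) (Lpe (K2.f72868 IH) (Lpr_bt (f76680 IH) (Lpr_gt (K32.f202447 IH) (Lpn (LP (LK LD1_c17 LD2_c59 LD3_c13)))))))))))))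
theorem f202475 : Led Lsl_dt (LP (LK LD1_c20 LD2_c30 LD3_c49)) = (LP (LK LD1_c12 LD2_c34 LD3_c14)) :=
  Lgr Lrot27 (Lpr_cf (f202453 IH) (Lpe (K32.f202447 IH) (Lpe (K11.f74021 IH) (Lpe (f58412 IH) (Lpr_df (f202468 IH) (Lpr_gt (K8.f40587 IH) (Lpr_ct (K7.f15574 IH) (Lpr_gt (K7.f79384 IH) (Lpr_ct (K7.f79940 IH) (Lpn (LP (LK LD1_c12 LD2_c34 LD3_c14))))))))))))
theorem f202484 : Led Lsl_ff (LP (LK LD1_c20 LD2_c30 LD3_c49)) = (LP (LK LD1_c12 LD2_c37 LD3_c28)) :=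
  Lgr Lrot19 (Lpr_dt (f202475 IH) (Lpe (K7.f150816 IH) (Lpr_dt (K11.f151131 IH) (Lpn (LP (LK LD1_c12 LD2_c37 LD3_c28))))))
theorem f202490 : Led Lsl_at (LP (LK LD1_c20 LD2_c30 LD3_c49)) = (LP (LK LD1_c12 LD2_c37 LD3_c36)) :=
  Lgr Lrot26 (Lpr_ff (f202484 IH) (Lpr_gt (K11.f151322 IH) (Lpe (K7.f151246 IH) (Lpn (LP (LK LD1_c12 LD2_c37 LD3_c36))))))
theorem f202492 : Led Lsl_af (LP (LK LD1_c17 LD2_c59 LD3_c13)) = (LP (LK LD1_c21 LD2_c3 LD3_c26)) :=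
  Lgr Lrot68 (Lpe (f202453 IH) (Lpr_at (f202490 IH) (Lpr_ct (K7.f151240 IH) (Lpn (LP (LK LD1_c21 LD2_c3 LD3_c26))))))
theorem f202502 : Led Lsl_at (LP (LK LD1_c9 LD2_c48 LD3_c55)) = (LP (LK LD1_c12 LD2_c16 LD3_c8)) :=
  Lgr Lrot51 (Lpe (K32.f79017 IH) (Lpr_af (f202492 IH) (Lpe (K7.f151358 IH) (Lpn (LP (LK LD1_c12 LD2_c16 LD3_c8))))))
theorem f77300 : Led Lsl_gt (LP (LK LD1_c12 LD2_c16 LD3_c9)) = (LP (LK LD1_c6 LD2_c21 LD3_c4)) :=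
  Lre_g IH (LK LD1_c12 LD2_c16 LD3_c9) (LK LD1_c6 LD2_c21 LD3_c4) Lrfl Lrfl
theorem f202506 : Led Lsl_ff (LP (LK LD1_c9 LD2_c48 LD3_c55)) = (LP (LK LD1_c12 LD2_c16 LD3_c9)) :=
  Lgr Lrot52 (Lpr_at (f202502 IH) (Lpe (K7.f77302 IH) (Lpe (f77300 IH) (Lpn (LP (LK LD1_c12 LD2_c16 LD3_c9))))))
theorem f202509 : Led Lsl_ft (LP (LK LD1_c9 LD2_c48 LD3_c55)) = (LP (LK LD1_c12 LD2_c16 LD3_c9)) :=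
  Lgr Lrot48 (Lpr_ff (f202506 IH) (Lpn (LP (LK LD1_c12 LD2_c16 LD3_c9))))
theorem f40536 : Led Lsl_gt (LP (LK LD1_c9 LD2_c48 LD3_c56)) = (LP (LK LD1_c4 LD2_c59 LD3_c16)) :=
  Lre_g IH (LK LD1_c9 LD2_c48 LD3_c56) (LK LD1_c4 LD2_c59 LD3_c16) Lrfl Lrfl
theorem f79002 : Led Lsl_gt (LP (LK LD1_c6 LD2_c36 LD3_c20)) = (LP (LK LD1_c9 LD2_c48 LD3_c56)) :=
  Lgr Lrot5 (Lpr_ft (K7.f78994 IH) (Lpr_at (K32.f77303 IH) (Lpe (f40536 IH) (Lpn (LP (LK LD1_c9 LD2_c48 LD3_c56))))))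
theorem f202513 : Led Lsl_af (LP (LK LD1_c9 LD2_c48 LD3_c56)) = (LP (LK LD1_c12 LD2_c16 LD3_c9)) :=
  Lgr Lrot31 (Lpe (f79002 IH) (Lpr_gf (K32.f79015 IH) (Lpr_ft (f202509 IH) (Lpn (LP (LK LD1_c12 LD2_c16 LD3_c9))))))
theorem f202504 : Led Lsl_af (LP (LK LD1_c9 LD2_c48 LD3_c55)) = (LP (LK LD1_c12 LD2_c16 LD3_c8)) :=
  Lgr Lrot0 (Lpr_at (f202502 IH) (Lpn (LP (LK LD1_c12 LD2_c16 LD3_c8))))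
theorem f202520 : Led Lsl_ft (LP (LK LD1_c9 LD2_c48 LD3_c56)) = (LP (LK LD1_c12 LD2_c16 LD3_c8)) :=
  Lgr Lrot101 (Lpr_af (f202513 IH) (Lpe (f202509 IH) (Lpr_af (f202504 IH) (Lpn (LP (LK LD1_c12 LD2_c16 LD3_c8))))))
theorem f202524 : Led Lsl_ff (LP (LK LD1_c9 LD2_c48 LD3_c56)) = (LP (LK LD1_c12 LD2_c16 LD3_c8)) :=
  Lgr Lrot3 (Lpr_ft (f202520 IH) (Lpn (LP (LK LD1_c12 LD2_c16 LD3_c8))))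
theorem f40538 : Led Lsl_dt (LP (LK LD1_c9 LD2_c48 LD3_c56)) = (LP (LK LD1_c17 LD2_c59 LD3_c14)) :=
  Lre_d IH (LK LD1_c9 LD2_c48 LD3_c56) (LK LD1_c17 LD2_c59 LD3_c14) Lrfl Lrfl
theorem f202526 : Led Lsl_ft (LP (LK LD1_c17 LD2_c59 LD3_c14)) = (LP (LK LD1_c21 LD2_c3 LD3_c26)) :=
  Lgr Lrot54 (Lpe (f40538 IH) (Lpr_ff (f202524 IH) (Lpr_df (K7.f151353 IH) (Lpn (LP (LK LD1_c21 LD2_c3 LD3_c26))))))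
theorem f202534 : Led Lsl_gt (LP (LK LD1_c17 LD2_c59 LD3_c14)) = (LP (LK LD1_c17 LD2_c11 LD3_c16)) :=
  Lgr Lrot5 (Lpr_ft (f202526 IH) (Lpe (f202492 IH) (Lpe (K32.f202447 IH) (Lpn (LP (LK LD1_c17 LD2_c11 LD3_c16))))))
theorem f202393 : Led Lsl_ff (LP (LK LD1_c20 LD2_c30 LD3_c50)) = (LP (LK LD1_c12 LD2_c37 LD3_c36)) :=
  Lgr Lrot19 (Lpr_dt (K32.f202385 IH) (Lpr_ft (K7.f151064 IH) (Lpr_dt (K7.f101903 IH) (Lpn (LP (LK LD1_c12 LD2_c37 LD3_c36))))))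
theorem f202532 : Led Lsl_cf (LP (LK LD1_c17 LD2_c59 LD3_c14)) = (LP (LK LD1_c20 LD2_c30 LD3_c50)) :=
  Lgr Lrot108 (Lpr_ft (f202526 IH) (Lpe (K7.f151244 IH) (Lpe (f202393 IH) (Lpn (LP (LK LD1_c20 LD2_c30 LD3_c50))))))
theorem f110391 : Led Lsl_bt (LP (LK LD1_c4 LD2_c44 LD3_c41)) = (LP (LK LD1_c9 LD2_c22 LD3_c3)) :=
  Lre_b IH (LK LD1_c4 LD2_c44 LD3_c41) (LK LD1_c9 LD2_c22 LD3_c3) Lrfl Lrfl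
theorem f202538 : Led Lsl_bt (LP (LK LD1_c20 LD2_c30 LD3_c50)) = (LP (LK LD1_c13 LD2_c54 LD3_c2)) :=
  Lgr Lrot92 (Lpe (f202532 IH) (Lpr_gt (f202534 IH) (Lpe (K11.f74021 IH) (Lpr_bt (K11.f74020 IH) (Lpe (K3.f78590 IH) (Lpr_ct (K3.f78519 IH) (Lpr_gt (K5.f78589 IH) (Lpr_cf (K32.f110392 IH) (Lpr_bt (f110391 IH) (Lpe (K32.f155749 IH) (Lpn (LP (LK LD1_c13 LD2_c54 LD3_c2)))))))))))))
theorem f148704 : Led Lsl_bf (LP (LK LD1_c13 LD2_c6 LD3_c21)) = (LP (LK LD1_c7 LD2_c21 LD3_c10)) :=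
  Lgr Lrot24 (Lpr_bt (K7.f148696 IH) (Lpn (LP (LK LD1_c7 LD2_c21 LD3_c10))))
theorem f202530 : Led Lsl_bf (LP (LK LD1_c17 LD2_c59 LD3_c14)) = (LP (LK LD1_c13 LD2_c58 LD3_c17)) :=
  Lgr Lrot61 (Lpr_ft (f202526 IH) (Lpe (K28.f151242 IH) (Lpe (K6.f136728 IH) (Lpn (LP (LK LD1_c13 LD2_c58 LD3_c17))))))
theorem f202540 : Led Lsl_cf (LP (LK LD1_c20 LD2_c30 LD3_c50)) = (LP (LK LD1_c17 LD2_c59 LD3_c14)) :=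
  Lgr Lrot97 (Lpr_bt (f202538 IH) (Lpr_ct (K7.f148713 IH) (Lpe (f148704 IH) (Lpe (K6.f136720 IH) (Lpe (f202530 IH) (Lpn (LP (LK LD1_c17 LD2_c59 LD3_c14))))))))
theorem f202544 : Led Lsl_bf (LP (LK LD1_c13 LD2_c58 LD3_c17)) = (LP (LK LD1_c17 LD2_c59 LD3_c14)) :=
  Lgr Lrot165 (Lpr_gt (K6.f126476 IH) (Lpr_ct (K6.f126475 IH) (Lpr_gt (K8.f130267 IH) (Lpr_cf (K8.f160683 IH) (Lpr_bt (K8.f119679 IH) (Lpe (K8.f160687 IH) (Lpe (K2.f36155 IH) (Lpr_ct (K2.f81616 IH) (Lpr_gt (K32.f101794 IH) (Lpr_cf (f202540 IH) (Lpn (LP (LK LD1_c17 LD2_c59 LD3_c14)))))))))))))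
theorem f40537 : Led Lsl_dt (LP (LK LD1_c17 LD2_c59 LD3_c14)) = (LP (LK LD1_c9 LD2_c48 LD3_c56)) :=
  Lre_d IH (LK LD1_c17 LD2_c59 LD3_c14) (LK LD1_c9 LD2_c48 LD3_c56) Lrfl Lrfl
theorem f202522 : Led Lsl_ff (LP (LK LD1_c17 LD2_c59 LD3_c14)) = (LP (LK LD1_c21 LD2_c3 LD3_c26)) :=
  Lgr Lrot19 (Lpr_dt (f40537 IH) (Lpr_ft (f202520 IH) (Lpr_dt (K7.f151358 IH) (Lpn (LP (LK LD1_c21 LD2_c3 LD3_c26))))))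
theorem f202546 : Led Lsl_bt (LP (LK LD1_c14 LD2_c7 LD3_c41)) = (LP (LK LD1_c21 LD2_c3 LD3_c26)) :=
  Lgr Lrot35 (Lpe (K6.f136730 IH) (Lpr_bf (f202544 IH) (Lpr_ff (f202522 IH) (Lpn (LP (LK LD1_c21 LD2_c3 LD3_c26))))))
theorem f147936 : Led Lsl_cf (LP (LK LD1_c14 LD2_c7 LD3_c41)) = (LP (LK LD1_c14 LD2_c2 LD3_c6)) :=
  Lgr Lrot160 (Lpr_gt (K6.f121129 IH) (Lpe (K5.f12929 IH) (Lpr_bt (K5.f12928 IH) (Lpe (f147679 IH) (Lpr_ct (K7.f147681 IH) (Lpe (K7.f128341 IH) (Lpr_cf (K6.f125592 IH) (Lpr_bt (K7.f125590 IH) (Lpr_gt (K7.f125598 IH) (Lpr_bf (K28.f147904 IH) (Lpn (LP (LK LD1_c14 LD2_c2 LD3_c6)))))))))))))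
theorem f144684 : Led Lsl_df (LP (LK LD1_c14 LD2_c2 LD3_c6)) = (LP (LK LD1_c7 LD2_c27 LD3_c37)) :=
  Lgr Lrot18 (Lpr_at (K7.f144666 IH) (Lpr_dt (K6.f144681 IH) (Lpr_at (K4.f12823 IH) (Lpn (LP (LK LD1_c7 LD2_c27 LD3_c37))))))
theorem f148298 : Led Lsl_ct (LP (LK LD1_c3 LD2_c40 LD3_c36)) = (LP (LK LD1_c7 LD2_c21 LD3_c23)) :=
  Lre_c IH (LK LD1_c3 LD2_c40 LD3_c36) (LK LD1_c7 LD2_c21 LD3_c23) Lrfl Lrfl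
theorem f148304 : Led Lsl_bf (LP (LK LD1_c6 LD2_c53 LD3_c44)) = (LP (LK LD1_c7 LD2_c21 LD3_c23)) :=
  Lgr Lrot90 (Lpe (K6.f103628 IH) (Lpr_bt (K4.f103623 IH) (Lpr_ct (K7.f103644 IH) (Lpr_bt (K7.f148294 IH) (Lpr_ct (f148298 IH) (Lpn (LP (LK LD1_c7 LD2_c21 LD3_c23))))))))
theorem f148318 : Led Lsl_dt (LP (LK LD1_c7 LD2_c21 LD3_c24)) = (LP (LK LD1_c3 LD2_c40 LD3_c36)) :=
  Lre_d IH (LK LD1_c7 LD2_c21 LD3_c24) (LK LD1_c3 LD2_c40 LD3_c36) Lrfl Lrfl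
theorem f66560 : Led Lsl_dt (LP (LK LD1_c0 LD2_c44 LD3_c31)) = (LP (LK LD1_c1 LD2_c36 LD3_c0)) :=
  Lre_d IH (LK LD1_c0 LD2_c44 LD3_c31) (LK LD1_c1 LD2_c36 LD3_c0) Lrfl Lrfl
theorem f122997 : Led Lsl_bt (LP (LK LD1_c1 LD2_c53 LD3_c61)) = (LP (LK LD1_c3 LD2_c54 LD3_c48)) :=
  Lre_b IH (LK LD1_c1 LD2_c53 LD3_c61) (LK LD1_c3 LD2_c54 LD3_c48) Lrfl Lrfl
theorem f202548 : Led Lsl_gf (LP (LK LD1_c7 LD2_c21 LD3_c24)) = (LP (LK LD1_c3 LD2_c54 LD3_c48)) :=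
  Lgr Lrot85 (Lpr_dt (f148318 IH) (Lpr_ct (f148298 IH) (Lpe (f148304 IH) (Lpr_gt (K4.f102871 IH) (Lpe (f144684 IH) (Lpe (f147936 IH) (Lpr_bt (f202546 IH) (Lpr_gt (K7.f72915 IH) (Lpr_dt (K2.f72906 IH) (Lpr_ct (K2.f73986 IH) (Lpr_bt (K2.f73985 IH) (Lpr_gt (K4.f99596 IH) (Lpe (K8.f139504 IH) (Lpr_ct (K8.f129249 IH) (Lpr_bt (K6.f124073 IH) (Lpr_gt (K5.f24861 IH) (Lpr_dt (f66560 IH) (Lpe (K6.f134713 IH) (Lpr_bt (f122997 IH) (Lpn (LP (LK LD1_c3 LD2_c54 LD3_c48))))))))))))))))))))))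
theorem f531357 : Led Lsl_af (LP (LK LD1_c3 LD2_c54 LD3_c48)) = v2717 :=
  Lgr Lrot117 (Lpr_dt (f123448 IH) (Lpr_at (K28.f122750 IH) (Lpr_dt (f531356 IH) (Lpn v2717))))
theorem f531365 : Led Lsl_gt (LP (LK LD1_c7 LD2_c21 LD3_c24)) = (LP (LK LD1_c3 LD2_c54 LD3_c48)) :=
  Lgr Lrot46 (Lpr_gf (f202548 IH) (Lpr_ft (f531363 IH) (Lpe (f531357 IH) (Lpn (LP (LK LD1_c3 LD2_c54 LD3_c48))))))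
theorem f531366 : Led Lsl_gt (LP (LK LD1_c7 LD2_c21 LD3_c24)) = (LP (LK LD1_c3 LD2_c54 LD3_c48)) :=
  Leop (Lpe (f531365 IH) (Lpn (LP (LK LD1_c7 LD2_c21 LD3_c24))))
theorem seed_227 : LEOK LG_g (LK LD1_c7 LD2_c21 LD3_c24) :=
  Leoe_g (LK LD1_c7 LD2_c21 LD3_c24) (f531366 IH)
def v2721 : LQ := Led Lsl_et (LP (LK LD1_c1 LD2_c53 LD3_c52))
theorem f531397 : Led Lsl_et (LP (LK LD1_c1 LD2_c53 LD3_c52)) = v2721 :=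
  Lrfl
theorem f124276 : Led Lsl_et (LP (LK LD1_c1 LD2_c48 LD3_c22)) = (LP (LK LD1_c0 LD2_c50 LD3_c58)) :=
  Lre_e IH (LK LD1_c1 LD2_c48 LD3_c22) (LK LD1_c0 LD2_c50 LD3_c58) Lrfl Lrfl
theorem f527317 : Led Lsl_df (LP (LK LD1_c1 LD2_c48 LD3_c21)) = v2547 :=
  Lgr Lrot38 (Lpr_dt (f527315 IH) (Lpn v2547))
theorem f531401 : Led Lsl_gf v2547 = v2721 :=
  Lgr Lrot138 (Lpe (f527317 IH) (Lpr_gt (K29.f124278 IH) (Lpe (f124277 IH) (Lpr_et (f124276 IH) (Lpr_gt (K5.f124254 IH) (Lpr_ef (K29.f451149 IH) (Lpe (K29.f451148 IH) (Lpr_gt (K29.f123410 IH) (Lpe (f148250 IH) (Lpr_et (f531397 IH) (Lpn v2721)))))))))))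
def v918 : LQ := Led Lsl_dt (LP (LK LD1_c0 LD2_c54 LD3_c9))
theorem f490518 : Led Lsl_dt (LP (LK LD1_c0 LD2_c54 LD3_c9)) = v918 :=
  Lrfl
theorem f490520 : Led Lsl_df (LP (LK LD1_c0 LD2_c54 LD3_c9)) = v918 :=
  Lgr Lrot38 (Lpr_dt (f490518 IH) (Lpn v918))
theorem f523697 : Led Lsl_af v918 = v2511 :=
  Lgr Lrot117 (Lpe (f490520 IH) (Lpr_at (K30.f471300 IH) (Lpr_dt (f523696 IH) (Lpn v2511))))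
theorem f490532 : Led Lsl_ff v918 = v921 :=
  Lgr Lrot19 (Lpe (f490520 IH) (Lpe (K28.f451613 IH) (Lpr_dt (f490529 IH) (Lpn v921))))
theorem f490534 : Led Lsl_ft v918 = v921 :=
  Lgr Lrot48 (Lpr_ff (f490532 IH) (Lpn v921))
theorem f527319 : Led Lsl_at v921 = v2547 :=
  Lgr Lrot66 (Lpe (f490534 IH) (Lpr_af (f523697 IH) (Lpr_ff (f527318 IH) (Lpn v2547))))
theorem f531402 : Led Lsl_gt v918 = v2721 :=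
  Lgr Lrot5 (Lpr_ft (f490534 IH) (Lpr_at (f527319 IH) (Lpr_gf (f531401 IH) (Lpn v2721))))
theorem f476420 : Led Lsl_et (LP (LK LD1_c3 LD2_c29 LD3_c35)) = (LP (LK LD1_c7 LD2_c0 LD3_c48)) :=
  Lre_e IH (LK LD1_c3 LD2_c29 LD3_c35) (LK LD1_c7 LD2_c0 LD3_c48) Lrfl Lrfl
theorem f493697 : Led Lsl_ef (LP (LK LD1_c1 LD2_c47 LD3_c19)) = (LP (LK LD1_c3 LD2_c31 LD3_c32)) :=
  Lgr Lrot29 (Lpe (K29.f476428 IH) (Lpr_et (f476420 IH) (Lpr_bt (K30.f493691 IH) (Lpn (LP (LK LD1_c3 LD2_c31 LD3_c32))))))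
theorem f531403 : Led Lsl_dt (LP (LK LD1_c3 LD2_c31 LD3_c32)) = v2721 :=
  Lgr Lrot56 (Lpe (f493697 IH) (Lpr_gt (K29.f4835 IH) (Lpe (K11.f4830 IH) (Lpr_dt (K7.f4829 IH) (Lpe (f148236 IH) (Lpe (K4.f120983 IH) (Lpr_et (f148299 IH) (Lpr_gt (K29.f459401 IH) (Lpqs (K29.f470839 IH) (Lpr_dt (f490518 IH) (Lpr_gt (f531402 IH) (Lpn v2721))))))))))))
theorem f455732 : Led Lsl_gt (LP (LK LD1_c3 LD2_c31 LD3_c29)) = (LP (LK LD1_c7 LD2_c4 LD3_c39)) :=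
  Lre_g IH (LK LD1_c3 LD2_c31 LD3_c29) (LK LD1_c7 LD2_c4 LD3_c39) Lrfl Lrfl
theorem f451661 : Led Lsl_gt (LP (LK LD1_c3 LD2_c56 LD3_c16)) = (LP (LK LD1_c7 LD2_c54 LD3_c10)) :=
  Lre_g IH (LK LD1_c3 LD2_c56 LD3_c16) (LK LD1_c7 LD2_c54 LD3_c10) Lrfl Lrfl
theorem f470862 : Led Lsl_gt (LP (LK LD1_c7 LD2_c54 LD3_c10)) = (LP (LK LD1_c7 LD2_c26 LD3_c8)) :=
  Lgr Lrot46 (Lpe (f451661 IH) (Lpe (K28.f451644 IH) (Lpr_at (K33.f470855 IH) (Lpn (LP (LK LD1_c7 LD2_c26 LD3_c8))))))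
theorem f531404 : Led Lsl_dt (LP (LK LD1_c7 LD2_c4 LD3_c39)) = (LP (LK LD1_c7 LD2_c54 LD3_c10)) :=
  Lgr Lrot57 (Lpe (f455732 IH) (Lpe (K24.f455675 IH) (Lpr_gt (K30.f455670 IH) (Lpr_dt (f531403 IH) (Lpe (f531401 IH) (Lpe (f527317 IH) (Lpe (f203915 IH) (Lpe (K33.f203914 IH) (Lpe (f470862 IH) (Lpn (LP (LK LD1_c7 LD2_c54 LD3_c10))))))))))))
theorem f531405 : Led Lsl_dt (LP (LK LD1_c7 LD2_c4 LD3_c39)) = (LP (LK LD1_c7 LD2_c54 LD3_c10)) :=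
  Leop (Lpe (f531404 IH) (Lpn (LP (LK LD1_c7 LD2_c4 LD3_c39))))
theorem seed_228 : LEOK LG_d (LK LD1_c7 LD2_c4 LD3_c39) :=
  Leoe_d (LK LD1_c7 LD2_c4 LD3_c39) (f531405 IH)
def v2752 : LQ := Led Lsl_gt (LP (LK LD1_c1 LD2_c54 LD3_c38))
theorem f531762 : Led Lsl_gt (LP (LK LD1_c1 LD2_c54 LD3_c38)) = v2752 :=
  Lrfl
theorem f456767 : Led Lsl_at (LP (LK LD1_c1 LD2_c44 LD3_c18)) = (LP (LK LD1_c3 LD2_c34 LD3_c61)) :=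
  Lre_a IH (LK LD1_c1 LD2_c44 LD3_c18) (LK LD1_c3 LD2_c34 LD3_c61) Lrfl Lrfl
def v2755 : LQ := Led Lsl_dt (LP (LK LD1_c1 LD2_c54 LD3_c38))
theorem f531771 : Led Lsl_dt (LP (LK LD1_c1 LD2_c54 LD3_c38)) = v2755 :=
  Lrfl
theorem f17092 : Led Lsl_et (LP (LK LD1_c1 LD2_c54 LD3_c38)) = (LP (LK LD1_c0 LD2_c53 LD3_c57)) :=
  Lre_e IH (LK LD1_c1 LD2_c54 LD3_c38) (LK LD1_c0 LD2_c53 LD3_c57) Lrfl Lrfl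
theorem f14594 : Led Lsl_et (LP (LK LD1_c0 LD2_c10 LD3_c48)) = (LP (LK LD1_c0 LD2_c24 LD3_c15)) :=
  Lre_e IH (LK LD1_c0 LD2_c10 LD3_c48) (LK LD1_c0 LD2_c24 LD3_c15) Lrfl Lrfl
theorem f18092 : Led Lsl_et (LP (LK LD1_c1 LD2_c42 LD3_c8)) = (LP (LK LD1_c0 LD2_c47 LD3_c34)) :=
  Lre_e IH (LK LD1_c1 LD2_c42 LD3_c8) (LK LD1_c0 LD2_c47 LD3_c34) Lrfl Lrfl
def v2316 : LQ := Led Lsl_dt (LP (LK LD1_c1 LD2_c42 LD3_c8))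
theorem f514595 : Led Lsl_dt (LP (LK LD1_c1 LD2_c42 LD3_c8)) = v2316 :=
  Lrfl
theorem f531774 : Led Lsl_gf v2316 = v2755 :=
  Lgr Lrot145 (Lpe (f514595 IH) (Lpr_et (f18092 IH) (Lpr_gt (K2.f19157 IH) (Lpe (K3.f98671 IH) (Lpe (K4.f104125 IH) (Lpr_df (K4.f14590 IH) (Lpr_et (f14594 IH) (Lpr_gt (K28.f17263 IH) (Lpe (f17092 IH) (Lpr_dt (f531771 IH) (Lpn v2755)))))))))))
def v2753 : LQ := Led Lsl_gf (LP (LK LD1_c1 LD2_c54 LD3_c38))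
theorem f531766 : Led Lsl_gf (LP (LK LD1_c1 LD2_c54 LD3_c38)) = v2753 :=
  Lrfl
theorem f531775 : K33.v2395 = v2753 :=
  (Llr Lrot121 (Lpe (K33.f519473 IH) (Lpe (K29.f491649 IH) (Lpr_gf (K29.f483486 IH) (Lpe (K29.f102702 IH) (Lpr_et (K29.f19161 IH) (Lpe (K2.f19157 IH) (Lpe (f18092 IH) (Lpr_dt (f514595 IH) (Lpr_gf (f531774 IH) (Lpe (f531771 IH) (Lpr_gf (f531766 IH) (Lpn v2753))))))))))))).symm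
theorem f531776 : (LP (LK LD1_c3 LD2_c34 LD3_c61)) = v2752 :=
  (Llr Lrot26 (Lpe (f456767 IH) (Lpr_ff (K33.f519471 IH) (Lpqs (f531775 IH) (Lpe (f531766 IH) (Lpr_gt (f531762 IH) (Lpn v2752))))))).symm
theorem f531777 : Led Lsl_gt (LP (LK LD1_c1 LD2_c54 LD3_c38)) = (LP (LK LD1_c3 LD2_c34 LD3_c61)) :=
  Leop (Lpqs (f531776 IH) (Lpe (f531762 IH) (Lpn (LP (LK LD1_c1 LD2_c54 LD3_c38)))))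
theorem seed_229 : LEOK LG_g (LK LD1_c1 LD2_c54 LD3_c38) :=
  Leoe_g (LK LD1_c1 LD2_c54 LD3_c38) (f531777 IH)
def v2760 : LQ := Led Lsl_ft (LP (LK LD1_c1 LD2_c54 LD3_c39))
theorem f531792 : Led Lsl_ft (LP (LK LD1_c1 LD2_c54 LD3_c39)) = v2760 :=
  Lrfl
theorem f531795 : Led Lsl_ff (LP (LK LD1_c1 LD2_c54 LD3_c39)) = v2760 :=
  Lgr Lrot3 (Lpr_ft (f531792 IH) (Lpn v2760))
def v901 : LQ := Led Lsl_at (LP (LK LD1_c0 LD2_c53 LD3_c57))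
theorem f490365 : Led Lsl_at (LP (LK LD1_c0 LD2_c53 LD3_c57)) = v901 :=
  Lrfl
theorem f490366 : Led Lsl_af (LP (LK LD1_c0 LD2_c53 LD3_c57)) = v901 :=
  Lgr Lrot0 (Lpr_at (f490365 IH) (Lpn v901))
theorem f490368 : Led Lsl_ft (LP (LK LD1_c0 LD2_c53 LD3_c58)) = v901 :=
  Lgr Lrot2 (Lpr_gt (K29.f17265 IH) (Lpr_gt (K28.f17263 IH) (Lpr_af (f490366 IH) (Lpn v901))))
theorem f531797 : Led Lsl_bt v901 = v2760 :=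
  Lgr Lrot35 (Lpe (f490368 IH) (Lpe (K29.f14860 IH) (Lpr_ff (f531795 IH) (Lpn v2760))))
def v2747 : LQ := Led Lsl_at (LP (LK LD1_c1 LD2_c54 LD3_c36))
theorem f531740 : Led Lsl_at (LP (LK LD1_c1 LD2_c54 LD3_c36)) = v2747 :=
  Lrfl
theorem f531741 : Led Lsl_af (LP (LK LD1_c1 LD2_c54 LD3_c36)) = v2747 :=
  Lgr Lrot0 (Lpr_at (f531740 IH) (Lpn v2747))
def v2757 : LQ := Led Lsl_at (LP (LK LD1_c1 LD2_c54 LD3_c39))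
theorem f531780 : Led Lsl_at (LP (LK LD1_c1 LD2_c54 LD3_c39)) = v2757 :=
  Lrfl
theorem f531781 : Led Lsl_af (LP (LK LD1_c1 LD2_c54 LD3_c39)) = v2757 :=
  Lgr Lrot0 (Lpr_at (f531780 IH) (Lpn v2757))
theorem f160092 : Led Lsl_af (LP (LK LD1_c3 LD2_c13 LD3_c31)) = (LP (LK LD1_c1 LD2_c43 LD3_c15)) :=
  Lgr Lrot0 (Lpr_at (K8.f160088 IH) (Lpn (LP (LK LD1_c1 LD2_c43 LD3_c15))))
theorem f11702 : Led Lsl_ft (LP (LK LD1_c3 LD2_c33 LD3_c2)) = (LP (LK LD1_c1 LD2_c43 LD3_c15)) :=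
  Lre_f IH (LK LD1_c3 LD2_c33 LD3_c2) (LK LD1_c1 LD2_c43 LD3_c15) Lrfl Lrfl
theorem f471922 : Led Lsl_gt (LP (LK LD1_c3 LD2_c33 LD3_c2)) = (LP (LK LD1_c1 LD2_c54 LD3_c39)) :=
  Lgr Lrot5 (Lpr_ft (f11702 IH) (Lpe (f160092 IH) (Lpr_gf (f471919 IH) (Lpn (LP (LK LD1_c1 LD2_c54 LD3_c39))))))
theorem f531782 : Led Lsl_ft (LP (LK LD1_c6 LD2_c30 LD3_c42)) = v2757 :=
  Lgr Lrot2 (Lpr_gt (K28.f160539 IH) (Lpr_gt (f471922 IH) (Lpr_af (f531781 IH) (Lpn v2757))))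
theorem f531793 : Led Lsl_af (LP (LK LD1_c6 LD2_c30 LD3_c42)) = v2760 :=
  Lgr Lrot45 (Lpr_ft (f531782 IH) (Lpe (f531781 IH) (Lpr_ft (f531792 IH) (Lpn v2760))))
theorem f531798 : v2747 = (LP (LK LD1_c3 LD2_c36 LD3_c42)) :=
  (Llr Lrot36 (Lpe (f531741 IH) (Lpr_bt (K28.f14859 IH) (Lpr_at (f490365 IH) (Lpr_bt (f531797 IH) (Lpe (f531793 IH) (Lpr_bt (K29.f465250 IH) (Lpn (LP (LK LD1_c3 LD2_c36 LD3_c42)))))))))).symm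
theorem f531799 : Led Lsl_at (LP (LK LD1_c3 LD2_c36 LD3_c42)) = (LP (LK LD1_c1 LD2_c54 LD3_c36)) :=
  Leop (Lpr_af (f531741 IH) (Lpqs (f531798 IH) (Lpn (LP (LK LD1_c3 LD2_c36 LD3_c42)))))
theorem seed_230 : LEOK LG_a (LK LD1_c3 LD2_c36 LD3_c42) :=
  Leoe_a (LK LD1_c3 LD2_c36 LD3_c42) (f531799 IH)
def v2740 : LQ := Led Lsl_at (LP (LK LD1_c1 LD2_c54 LD3_c33))
theorem f531704 : Led Lsl_at (LP (LK LD1_c1 LD2_c54 LD3_c33)) = v2740 :=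
  Lrfl
def v903 : LQ := Led Lsl_ft (LP (LK LD1_c0 LD2_c53 LD3_c57))
theorem f490372 : Led Lsl_ft (LP (LK LD1_c0 LD2_c53 LD3_c57)) = v903 :=
  Lrfl
theorem f490374 : Led Lsl_ff (LP (LK LD1_c0 LD2_c53 LD3_c57)) = v903 :=
  Lgr Lrot3 (Lpr_ft (f490372 IH) (Lpn v903))
theorem f531705 : Led Lsl_af (LP (LK LD1_c1 LD2_c54 LD3_c33)) = v2740 :=
  Lgr Lrot0 (Lpr_at (f531704 IH) (Lpn v2740))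
def v900 : LQ := Led Lsl_gf (LP (LK LD1_c0 LD2_c53 LD3_c56))
theorem f490362 : Led Lsl_gf (LP (LK LD1_c0 LD2_c53 LD3_c56)) = v900 :=
  Lrfl
theorem f531706 : Led Lsl_ft v900 = v2740 :=
  Lgr Lrot2 (Lpe (f490362 IH) (Lpr_gt (K28.f14913 IH) (Lpr_af (f531705 IH) (Lpn v2740))))
def v2749 : LQ := Led Lsl_ft (LP (LK LD1_c1 LD2_c54 LD3_c36))
theorem f531746 : Led Lsl_ft (LP (LK LD1_c1 LD2_c54 LD3_c36)) = v2749 :=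
  Lrfl
theorem f531747 : Led Lsl_bf v903 = v2749 :=
  Lgr Lrot61 (Lpe (f490374 IH) (Lpr_bt (K29.f457721 IH) (Lpr_ft (f531746 IH) (Lpn v2749))))
theorem f519653 : Led Lsl_cf (LP (LK LD1_c1 LD2_c52 LD3_c53)) = K33.v2428 :=
  Lgr Lrot11 (Lpr_ct (K33.f519652 IH) (Lpn K33.v2428))
theorem f17019 : Led Lsl_gt (LP (LK LD1_c1 LD2_c52 LD3_c53)) = (LP (LK LD1_c0 LD2_c53 LD3_c4)) :=
  Lre_g IH (LK LD1_c1 LD2_c52 LD3_c53) (LK LD1_c0 LD2_c53 LD3_c4) Lrfl Lrfl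
theorem f11152 : Led Lsl_bt (LP (LK LD1_c0 LD2_c23 LD3_c58)) = (LP (LK LD1_c0 LD2_c10 LD3_c53)) :=
  Lre_b IH (LK LD1_c0 LD2_c23 LD3_c58) (LK LD1_c0 LD2_c10 LD3_c53) Lrfl Lrfl
theorem f11210 : Led Lsl_bt (LP (LK LD1_c0 LD2_c24 LD3_c19)) = (LP (LK LD1_c0 LD2_c53 LD3_c60)) :=
  Lre_b IH (LK LD1_c0 LD2_c24 LD3_c19) (LK LD1_c0 LD2_c53 LD3_c60) Lrfl Lrfl
theorem f14908 : Led Lsl_at (LP (LK LD1_c0 LD2_c24 LD3_c15)) = (LP (LK LD1_c0 LD2_c53 LD3_c56)) :=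
  Lre_a IH (LK LD1_c0 LD2_c24 LD3_c15) (LK LD1_c0 LD2_c53 LD3_c56) Lrfl Lrfl
theorem f14627 : Led Lsl_ft (LP (LK LD1_c0 LD2_c53 LD3_c60)) = (LP (LK LD1_c0 LD2_c24 LD3_c15)) :=
  Lre_f IH (LK LD1_c0 LD2_c53 LD3_c60) (LK LD1_c0 LD2_c24 LD3_c15) Lrfl Lrfl
theorem f490363 : Led Lsl_gt (LP (LK LD1_c0 LD2_c53 LD3_c60)) = v900 :=
  Lgr Lrot5 (Lpr_ft (f14627 IH) (Lpr_at (f14908 IH) (Lpr_gf (f490362 IH) (Lpn v900))))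
theorem f519681 : Led Lsl_bf v900 = K33.v2428 :=
  Lgr Lrot34 (Lpe (f490363 IH) (Lpe (f11210 IH) (Lpr_ct (K0.f11178 IH) (Lpr_gf (K28.f11189 IH) (Lpe (K24.f11194 IH) (Lpq (K24.f457687 IH) (Lpe (K24.f448777 IH) (Lpe (f11152 IH) (Lpr_ct (K24.f15673 IH) (Lpe (f17019 IH) (Lpr_cf (f519653 IH) (Lpn K33.v2428))))))))))))
theorem f465240 : Led Lsl_ct (LP (LK LD1_c1 LD2_c52 LD3_c52)) = (LP (LK LD1_c3 LD2_c36 LD3_c42)) :=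
  Lgr Lrot59 (Lpr_cf (K28.f465237 IH) (Lpn (LP (LK LD1_c3 LD2_c36 LD3_c42))))
def v2689 : LQ := Led Lsl_at (LP (LK LD1_c1 LD2_c52 LD3_c52))
theorem f530424 : Led Lsl_at (LP (LK LD1_c1 LD2_c52 LD3_c52)) = v2689 :=
  Lrfl
theorem f530425 : Led Lsl_af (LP (LK LD1_c1 LD2_c52 LD3_c52)) = v2689 :=
  Lgr Lrot0 (Lpr_at (f530424 IH) (Lpn v2689))
theorem f531805 : v2689 = (LP (LK LD1_c3 LD2_c44 LD3_c37)) :=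
  (Llr Lrot68 (Lpe (f530425 IH) (Lpr_ct (f465240 IH) (Lpq (f531798 IH) (Lpe (f531741 IH) (Lpe (K28.f457718 IH) (Lpn (LP (LK LD1_c3 LD2_c44 LD3_c37))))))))).symm
theorem f530426 : Led Lsl_ft (LP (LK LD1_c1 LD2_c52 LD3_c53)) = v2689 :=
  Lgr Lrot2 (Lpr_gt (f17019 IH) (Lpr_gt (K28.f17013 IH) (Lpr_af (f530425 IH) (Lpn v2689))))
theorem f531814 : K33.v2428 = v2749 :=
  (Llr Lrot108 (Lpe (f519653 IH) (Lpr_ft (f530426 IH) (Lpqs (f531805 IH) (Lpr_ct (K28.f457726 IH) (Lpr_ft (f531746 IH) (Lpn v2749))))))).symm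
theorem f531815 : v903 = v900 :=
  Lefun (Lecon (Lfl_bf (f531747 IH)) (f531814 IH).symm) (Lfl_bf (f519681 IH))
theorem f531817 : (LP (LK LD1_c0 LD2_c53 LD3_c57)) = v2740 :=
  Lefun (Lecon (Lfl_ff (f490374 IH)) (f531815 IH)) (f531706 IH)
theorem f531819 : Led Lsl_at (LP (LK LD1_c1 LD2_c54 LD3_c33)) = (LP (LK LD1_c0 LD2_c53 LD3_c57)) :=
  Leop (Lpqs (f531817 IH) (Lpe (f531704 IH) (Lpn (LP (LK LD1_c1 LD2_c54 LD3_c33)))))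
theorem seed_231 : LEOK LG_a (LK LD1_c1 LD2_c54 LD3_c33) :=
  Leoe_a (LK LD1_c1 LD2_c54 LD3_c33) (f531819 IH)
def v2765 : LQ := Led Lsl_gf (LP (LK LD1_c1 LD2_c54 LD3_c42))
theorem f532577 : Led Lsl_gf (LP (LK LD1_c1 LD2_c54 LD3_c42)) = v2765 :=
  Lrfl
theorem f17269 : Led Lsl_ct (LP (LK LD1_c0 LD2_c53 LD3_c59)) = (LP (LK LD1_c1 LD2_c54 LD3_c42)) :=
  Lre_c IH (LK LD1_c0 LD2_c53 LD3_c59) (LK LD1_c1 LD2_c54 LD3_c42) Lrfl Lrfl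
theorem f129771 : Led Lsl_bt (LP (LK LD1_c7 LD2_c3 LD3_c18)) = (LP (LK LD1_c3 LD2_c30 LD3_c48)) :=
  Lre_b IH (LK LD1_c7 LD2_c3 LD3_c18) (LK LD1_c3 LD2_c30 LD3_c48) Lrfl Lrfl
theorem f532579 : Led Lsl_ct (LP (LK LD1_c7 LD2_c3 LD3_c18)) = v2765 :=
  Lgr Lrot64 (Lpr_bt (f129771 IH) (Lpr_gf (K30.f129672 IH) (Lpr_bf (K30.f451379 IH) (Lpr_ct (K29.f491421 IH) (Lpr_gf (K30.f491432 IH) (Lpe (K30.f490411 IH) (Lpe (K24.f14941 IH) (Lpe (K24.f14923 IH) (Lpr_ct (f17269 IH) (Lpr_gf (f532577 IH) (Lpn v2765)))))))))))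
theorem f513217 : Led Lsl_at (LP (LK LD1_c7 LD2_c12 LD3_c15)) = (LP (LK LD1_c13 LD2_c38 LD3_c36)) :=
  Lre_a IH (LK LD1_c7 LD2_c12 LD3_c15) (LK LD1_c13 LD2_c38 LD3_c36) Lrfl Lrfl
theorem f17934 : Led Lsl_ft (LP (LK LD1_c3 LD2_c36 LD3_c6)) = (LP (LK LD1_c7 LD2_c12 LD3_c34)) :=
  Lre_f IH (LK LD1_c3 LD2_c36 LD3_c6) (LK LD1_c7 LD2_c12 LD3_c34) Lrfl Lrfl
theorem f513195 : Led Lsl_af (LP (LK LD1_c13 LD2_c38 LD3_c35)) = (LP (LK LD1_c7 LD2_c12 LD3_c34)) :=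
  Lgr Lrot45 (Lpr_ft (f513182 IH) (Lpr_at (f17868 IH) (Lpr_ft (f17934 IH) (Lpn (LP (LK LD1_c7 LD2_c12 LD3_c34))))))
theorem f17891 : Led Lsl_gt (LP (LK LD1_c3 LD2_c36 LD3_c6)) = (LP (LK LD1_c7 LD2_c12 LD3_c32)) :=
  Lre_g IH (LK LD1_c3 LD2_c36 LD3_c6) (LK LD1_c7 LD2_c12 LD3_c32) Lrfl Lrfl
theorem f513209 : Led Lsl_gf (LP (LK LD1_c13 LD2_c38 LD3_c35)) = (LP (LK LD1_c7 LD2_c12 LD3_c32)) :=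
  Lgr Lrot76 (Lpr_af (f513195 IH) (Lpe (f17934 IH) (Lpr_gt (f17891 IH) (Lpn (LP (LK LD1_c7 LD2_c12 LD3_c32))))))
theorem f513211 : Led Lsl_at (LP (LK LD1_c13 LD2_c38 LD3_c36)) = (LP (LK LD1_c7 LD2_c12 LD3_c15)) :=
  Lre_a IH (LK LD1_c13 LD2_c38 LD3_c36) (LK LD1_c7 LD2_c12 LD3_c15) Lrfl Lrfl
theorem f513212 : Led Lsl_ff (LP (LK LD1_c13 LD2_c38 LD3_c36)) = (LP (LK LD1_c7 LD2_c12 LD3_c32)) :=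
  Lgr Lrot52 (Lpr_at (f513211 IH) (Lpe (f513176 IH) (Lpr_gf (f513209 IH) (Lpn (LP (LK LD1_c7 LD2_c12 LD3_c32))))))
theorem f513215 : Led Lsl_ft (LP (LK LD1_c13 LD2_c38 LD3_c36)) = (LP (LK LD1_c7 LD2_c12 LD3_c32)) :=
  Lgr Lrot48 (Lpr_ff (f513212 IH) (Lpn (LP (LK LD1_c7 LD2_c12 LD3_c32))))
theorem f513467 : Led Lsl_at (LP (LK LD1_c7 LD2_c12 LD3_c32)) = (LP (LK LD1_c7 LD2_c6 LD3_c10)) :=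
  Lgr Lrot66 (Lpe (f513215 IH) (Lpe (f513217 IH) (Lpr_ff (f513465 IH) (Lpn (LP (LK LD1_c7 LD2_c6 LD3_c10))))))
theorem f92477 : Led Lsl_bt (LP (LK LD1_c7 LD2_c6 LD3_c10)) = (LP (LK LD1_c3 LD2_c32 LD3_c40)) :=
  Lre_b IH (LK LD1_c7 LD2_c6 LD3_c10) (LK LD1_c3 LD2_c32 LD3_c40) Lrfl Lrfl
theorem f513459 : Led Lsl_af (LP (LK LD1_c3 LD2_c35 LD3_c48)) = (LP (LK LD1_c3 LD2_c32 LD3_c40)) :=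
  Lgr Lrot117 (Lpr_dt (K29.f97056 IH) (Lpr_at (f513457 IH) (Lpr_dt (K33.f11574 IH) (Lpn (LP (LK LD1_c3 LD2_c32 LD3_c40))))))
theorem f463871 : Led Lsl_at (LP (LK LD1_c7 LD2_c12 LD3_c12)) = (LP (LK LD1_c13 LD2_c38 LD3_c32)) :=
  Lre_a IH (LK LD1_c7 LD2_c12 LD3_c12) (LK LD1_c13 LD2_c38 LD3_c32) Lrfl Lrfl
theorem f513523 : Led Lsl_bf (LP (LK LD1_c7 LD2_c12 LD3_c32)) = (LP (LK LD1_c13 LD2_c38 LD3_c32)) :=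
  Lgr Lrot81 (Lpr_at (f513467 IH) (Lpr_bt (f92477 IH) (Lpe (f513459 IH) (Lpr_bt (K28.f463845 IH) (Lpr_at (f463871 IH) (Lpn (LP (LK LD1_c13 LD2_c38 LD3_c32))))))))
theorem f513218 : Led Lsl_et (LP (LK LD1_c7 LD2_c12 LD3_c32)) = (LP (LK LD1_c13 LD2_c38 LD3_c52)) :=
  Lre_e IH (LK LD1_c7 LD2_c12 LD3_c32) (LK LD1_c13 LD2_c38 LD3_c52) Lrfl Lrfl
theorem f513527 : Led Lsl_et (LP (LK LD1_c23 LD2_c3 LD3_c38)) = (LP (LK LD1_c13 LD2_c38 LD3_c32)) :=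
  Lre_e IH (LK LD1_c23 LD2_c3 LD3_c38) (LK LD1_c13 LD2_c38 LD3_c32) Lrfl Lrfl
theorem f513528 : Led Lsl_bt (LP (LK LD1_c13 LD2_c38 LD3_c52)) = (LP (LK LD1_c23 LD2_c3 LD3_c38)) :=
  Lgr Lrot119 (Lpe (f513218 IH) (Lpr_bf (f513523 IH) (Lpe (f513527 IH) (Lpn (LP (LK LD1_c23 LD2_c3 LD3_c38))))))
theorem f513532 : Led Lsl_bf (LP (LK LD1_c13 LD2_c38 LD3_c52)) = (LP (LK LD1_c23 LD2_c3 LD3_c38)) :=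
  Lgr Lrot24 (Lpr_bt (f513528 IH) (Lpn (LP (LK LD1_c23 LD2_c3 LD3_c38))))
theorem f513471 : Led Lsl_ft (LP (LK LD1_c7 LD2_c12 LD3_c15)) = (LP (LK LD1_c7 LD2_c6 LD3_c10)) :=
  Lgr Lrot48 (Lpr_ff (f513465 IH) (Lpn (LP (LK LD1_c7 LD2_c6 LD3_c10))))
theorem f513477 : Led Lsl_af (LP (LK LD1_c7 LD2_c12 LD3_c32)) = (LP (LK LD1_c7 LD2_c6 LD3_c10)) :=
  Lgr Lrot45 (Lpe (f513212 IH) (Lpr_at (f513211 IH) (Lpr_ft (f513471 IH) (Lpn (LP (LK LD1_c7 LD2_c6 LD3_c10))))))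
theorem f11632 : Led Lsl_et (LP (LK LD1_c13 LD2_c27 LD3_c40)) = (LP (LK LD1_c7 LD2_c6 LD3_c10)) :=
  Lre_e IH (LK LD1_c13 LD2_c27 LD3_c40) (LK LD1_c7 LD2_c6 LD3_c10) Lrfl Lrfl
theorem f513483 : Led Lsl_at (LP (LK LD1_c13 LD2_c38 LD3_c52)) = (LP (LK LD1_c13 LD2_c27 LD3_c40)) :=
  Lgr Lrot80 (Lpe (f513218 IH) (Lpr_af (f513477 IH) (Lpe (f11632 IH) (Lpn (LP (LK LD1_c13 LD2_c27 LD3_c40))))))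
theorem f97072 : Led Lsl_at (LP (LK LD1_c13 LD2_c38 LD3_c34)) = (LP (LK LD1_c23 LD2_c3 LD3_c38)) :=
  Lre_a IH (LK LD1_c13 LD2_c38 LD3_c34) (LK LD1_c23 LD2_c3 LD3_c38) Lrfl Lrfl
theorem f97052 : Led Lsl_bt (LP (LK LD1_c7 LD2_c12 LD3_c14)) = (LP (LK LD1_c13 LD2_c38 LD3_c34)) :=
  Lre_b IH (LK LD1_c7 LD2_c12 LD3_c14) (LK LD1_c13 LD2_c38 LD3_c34) Lrfl Lrfl
theorem f513534 : Led Lsl_at (LP (LK LD1_c7 LD2_c6 LD3_c12)) = (LP (LK LD1_c7 LD2_c12 LD3_c14)) :=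
  Lgr Lrot67 (Lpe (f11566 IH) (Lpe (f513483 IH) (Lpr_bf (f513532 IH) (Lpe (f97072 IH) (Lpe (f97052 IH) (Lpn (LP (LK LD1_c7 LD2_c12 LD3_c14))))))))
theorem f488276 : Led Lsl_ct (LP (LK LD1_c7 LD2_c11 LD3_c59)) = (LP (LK LD1_c7 LD2_c6 LD3_c12)) :=
  Lgr Lrot59 (Lpr_cf (f488187 IH) (Lpn (LP (LK LD1_c7 LD2_c6 LD3_c12))))
theorem f463852 : Led Lsl_et (LP (LK LD1_c7 LD2_c0 LD3_c6)) = (LP (LK LD1_c3 LD2_c29 LD3_c10)) :=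
  Lre_e IH (LK LD1_c7 LD2_c0 LD3_c6) (LK LD1_c3 LD2_c29 LD3_c10) Lrfl Lrfl
theorem f463853 : Led Lsl_ct (LP (LK LD1_c7 LD2_c12 LD3_c14)) = (LP (LK LD1_c7 LD2_c0 LD3_c6)) :=
  Lgr Lrot15 (Lpe (K30.f97046 IH) (Lpr_cf (K28.f463843 IH) (Lpe (f463852 IH) (Lpn (LP (LK LD1_c7 LD2_c0 LD3_c6))))))
theorem f513537 : Led Lsl_af (LP (LK LD1_c7 LD2_c11 LD3_c59)) = (LP (LK LD1_c7 LD2_c0 LD3_c6)) :=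
  Lgr Lrot68 (Lpr_ct (f488276 IH) (Lpr_at (f513534 IH) (Lpr_ct (f463853 IH) (Lpn (LP (LK LD1_c7 LD2_c0 LD3_c6))))))
theorem f457623 : Led Lsl_at (LP (LK LD1_c7 LD2_c3 LD3_c10)) = (LP (LK LD1_c3 LD2_c30 LD3_c39)) :=
  Lre_a IH (LK LD1_c7 LD2_c3 LD3_c10) (LK LD1_c3 LD2_c30 LD3_c39) Lrfl Lrfl
theorem f460214 : Led Lsl_bt (LP (LK LD1_c3 LD2_c29 LD3_c13)) = (LP (LK LD1_c7 LD2_c0 LD3_c6)) :=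
  Lre_b IH (LK LD1_c3 LD2_c29 LD3_c13) (LK LD1_c7 LD2_c0 LD3_c6) Lrfl Lrfl
theorem f513672 : Led Lsl_at (LP (LK LD1_c1 LD2_c41 LD3_c58)) = (LP (LK LD1_c3 LD2_c29 LD3_c13)) :=
  Lgr Lrot67 (Lpe (K30.f457628 IH) (Lpe (f457623 IH) (Lpr_bf (f512629 IH) (Lpr_af (f513537 IH) (Lpe (f460214 IH) (Lpn (LP (LK LD1_c3 LD2_c29 LD3_c13))))))))
theorem f129760 : Led Lsl_ct (LP (LK LD1_c3 LD2_c30 LD3_c43)) = (LP (LK LD1_c1 LD2_c41 LD3_c58)) :=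
  Lre_c IH (LK LD1_c3 LD2_c30 LD3_c43) (LK LD1_c1 LD2_c41 LD3_c58) Lrfl Lrfl
theorem f460211 : Led Lsl_ct (LP (LK LD1_c3 LD2_c29 LD3_c13)) = (LP (LK LD1_c7 LD2_c0 LD3_c10)) :=
  Lre_c IH (LK LD1_c3 LD2_c29 LD3_c13) (LK LD1_c7 LD2_c0 LD3_c10) Lrfl Lrfl
theorem f513676 : Led Lsl_af (LP (LK LD1_c3 LD2_c30 LD3_c43)) = (LP (LK LD1_c7 LD2_c0 LD3_c10)) :=
  Lgr Lrot68 (Lpr_ct (f129760 IH) (Lpr_at (f513672 IH) (Lpr_ct (f460211 IH) (Lpn (LP (LK LD1_c7 LD2_c0 LD3_c10))))))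
theorem f129832 : Led Lsl_et (LP (LK LD1_c3 LD2_c30 LD3_c43)) = (LP (LK LD1_c1 LD2_c41 LD3_c56)) :=
  Lre_e IH (LK LD1_c3 LD2_c30 LD3_c43) (LK LD1_c1 LD2_c41 LD3_c56) Lrfl Lrfl
theorem f477330 : Led Lsl_et (LP (LK LD1_c3 LD2_c29 LD3_c11)) = (LP (LK LD1_c7 LD2_c0 LD3_c10)) :=
  Lre_e IH (LK LD1_c3 LD2_c29 LD3_c11) (LK LD1_c7 LD2_c0 LD3_c10) Lrfl Lrfl
theorem f513684 : Led Lsl_at (LP (LK LD1_c1 LD2_c41 LD3_c56)) = (LP (LK LD1_c3 LD2_c29 LD3_c11)) :=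
  Lgr Lrot80 (Lpe (f129832 IH) (Lpr_af (f513676 IH) (Lpe (f477330 IH) (Lpn (LP (LK LD1_c3 LD2_c29 LD3_c11))))))
theorem f513690 : Led Lsl_ff (LP (LK LD1_c1 LD2_c41 LD3_c56)) = (LP (LK LD1_c3 LD2_c29 LD3_c15)) :=
  Lgr Lrot52 (Lpr_at (f513684 IH) (Lpe (K29.f460222 IH) (Lpr_gf (K28.f464147 IH) (Lpn (LP (LK LD1_c3 LD2_c29 LD3_c15))))))
theorem f513696 : Led Lsl_ft (LP (LK LD1_c1 LD2_c41 LD3_c56)) = (LP (LK LD1_c3 LD2_c29 LD3_c15)) :=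
  Lgr Lrot48 (Lpr_ff (f513690 IH) (Lpn (LP (LK LD1_c3 LD2_c29 LD3_c15))))
theorem f513701 : Led Lsl_af (LP (LK LD1_c1 LD2_c41 LD3_c60)) = (LP (LK LD1_c3 LD2_c29 LD3_c15)) :=
  Lgr Lrot31 (Lpr_gf (K24.f460525 IH) (Lpe (K24.f129831 IH) (Lpr_ft (f513696 IH) (Lpn (LP (LK LD1_c3 LD2_c29 LD3_c15))))))
theorem f513686 : Led Lsl_af (LP (LK LD1_c1 LD2_c41 LD3_c56)) = (LP (LK LD1_c3 LD2_c29 LD3_c11)) :=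
  Lgr Lrot0 (Lpr_at (f513684 IH) (Lpn (LP (LK LD1_c3 LD2_c29 LD3_c11))))
theorem f513706 : Led Lsl_ft (LP (LK LD1_c1 LD2_c41 LD3_c60)) = (LP (LK LD1_c3 LD2_c29 LD3_c11)) :=
  Lgr Lrot101 (Lpr_af (f513701 IH) (Lpe (f513696 IH) (Lpr_af (f513686 IH) (Lpn (LP (LK LD1_c3 LD2_c29 LD3_c11))))))
theorem f513710 : Led Lsl_ff (LP (LK LD1_c3 LD2_c30 LD3_c56)) = (LP (LK LD1_c7 LD2_c0 LD3_c9)) :=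
  Lgr Lrot19 (Lpr_dt (f64657 IH) (Lpr_ft (f513706 IH) (Lpr_dt (K29.f460224 IH) (Lpn (LP (LK LD1_c7 LD2_c0 LD3_c9))))))
theorem f513704 : Led Lsl_at (LP (LK LD1_c3 LD2_c30 LD3_c56)) = (LP (LK LD1_c7 LD2_c0 LD3_c13)) :=
  Lgr Lrot51 (Lpe (K29.f64661 IH) (Lpr_af (f513701 IH) (Lpe (K29.f463590 IH) (Lpn (LP (LK LD1_c7 LD2_c0 LD3_c13))))))
theorem f513698 : Led Lsl_ff (LP (LK LD1_c3 LD2_c30 LD3_c42)) = (LP (LK LD1_c7 LD2_c0 LD3_c13)) :=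
  Lgr Lrot19 (Lpr_dt (K24.f455544 IH) (Lpr_ft (f513696 IH) (Lpr_dt (K29.f464169 IH) (Lpn (LP (LK LD1_c7 LD2_c0 LD3_c13))))))
theorem f513712 : Led Lsl_at (LP (LK LD1_c3 LD2_c30 LD3_c42)) = (LP (LK LD1_c7 LD2_c0 LD3_c9)) :=
  Lgr Lrot66 (Lpr_ff (f513698 IH) (Lpe (f513704 IH) (Lpr_ff (f513710 IH) (Lpn (LP (LK LD1_c7 LD2_c0 LD3_c9))))))
theorem f461706 : Led Lsl_et (LP (LK LD1_c7 LD2_c3 LD3_c27)) = (LP (LK LD1_c3 LD2_c30 LD3_c42)) :=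
  Lre_e IH (LK LD1_c7 LD2_c3 LD3_c27) (LK LD1_c3 LD2_c30 LD3_c42) Lrfl Lrfl
theorem f63045 : Led Lsl_et (LP (LK LD1_c7 LD2_c0 LD3_c9)) = (LP (LK LD1_c13 LD2_c17 LD3_c12)) :=
  Lre_e IH (LK LD1_c7 LD2_c0 LD3_c9) (LK LD1_c13 LD2_c17 LD3_c12) Lrfl Lrfl
theorem f513763 : Led Lsl_af (LP (LK LD1_c7 LD2_c3 LD3_c27)) = (LP (LK LD1_c13 LD2_c17 LD3_c12)) :=
  Lgr Lrot50 (Lpr_et (f461706 IH) (Lpr_at (f513712 IH) (Lpr_et (f63045 IH) (Lpn (LP (LK LD1_c13 LD2_c17 LD3_c12))))))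
theorem f461707 : Led Lsl_dt (LP (LK LD1_c7 LD2_c3 LD3_c27)) = (LP (LK LD1_c13 LD2_c23 LD3_c2)) :=
  Lre_d IH (LK LD1_c7 LD2_c3 LD3_c27) (LK LD1_c13 LD2_c23 LD3_c2) Lrfl Lrfl
theorem f460218 : Led Lsl_dt (LP (LK LD1_c22 LD2_c32 LD3_c57)) = (LP (LK LD1_c13 LD2_c17 LD3_c12)) :=
  Lre_d IH (LK LD1_c22 LD2_c32 LD3_c57) (LK LD1_c13 LD2_c17 LD3_c12) Lrfl Lrfl
theorem f513771 : Led Lsl_at (LP (LK LD1_c13 LD2_c23 LD3_c2)) = (LP (LK LD1_c22 LD2_c32 LD3_c57)) :=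
  Lgr Lrot51 (Lpe (f461707 IH) (Lpr_af (f513763 IH) (Lpe (f460218 IH) (Lpn (LP (LK LD1_c22 LD2_c32 LD3_c57))))))
theorem f477938 : Led Lsl_et (LP (LK LD1_c7 LD2_c3 LD3_c29)) = (LP (LK LD1_c13 LD2_c23 LD3_c2)) :=
  Lre_e IH (LK LD1_c7 LD2_c3 LD3_c29) (LK LD1_c13 LD2_c23 LD3_c2) Lrfl Lrfl
theorem f460217 : Led Lsl_et (LP (LK LD1_c22 LD2_c32 LD3_c57)) = (LP (LK LD1_c13 LD2_c17 LD3_c14)) :=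
  Lre_e IH (LK LD1_c22 LD2_c32 LD3_c57) (LK LD1_c13 LD2_c17 LD3_c14) Lrfl Lrfl
theorem f513818 : Led Lsl_af (LP (LK LD1_c7 LD2_c3 LD3_c29)) = (LP (LK LD1_c13 LD2_c17 LD3_c14)) :=
  Lgr Lrot50 (Lpr_et (f477938 IH) (Lpr_at (f513771 IH) (Lpr_et (f460217 IH) (Lpn (LP (LK LD1_c13 LD2_c17 LD3_c14))))))
theorem f461588 : Led Lsl_ft (LP (LK LD1_c7 LD2_c3 LD3_c29)) = (LP (LK LD1_c13 LD2_c23 LD3_c7)) :=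
  Lre_f IH (LK LD1_c7 LD2_c3 LD3_c29) (LK LD1_c13 LD2_c23 LD3_c7) Lrfl Lrfl
theorem f17436 : Led Lsl_dt (LP (LK LD1_c1 LD2_c51 LD3_c13)) = (LP (LK LD1_c3 LD2_c48 LD3_c24)) :=
  Lre_d IH (LK LD1_c1 LD2_c51 LD3_c13) (LK LD1_c3 LD2_c48 LD3_c24) Lrfl Lrfl
theorem f129781 : Led Lsl_dt (LP (LK LD1_c3 LD2_c30 LD3_c43)) = (LP (LK LD1_c7 LD2_c3 LD3_c29)) :=
  Lre_d IH (LK LD1_c3 LD2_c30 LD3_c43) (LK LD1_c7 LD2_c3 LD3_c29) Lrfl Lrfl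
theorem f461583 : Led Lsl_gf (LP (LK LD1_c3 LD2_c48 LD3_c24)) = (LP (LK LD1_c7 LD2_c3 LD3_c29)) :=
  Lgr Lrot145 (Lpe (f17436 IH) (Lpr_et (K5.f17439 IH) (Lpr_gt (K3.f92644 IH) (Lpr_dt (K2.f63504 IH) (Lpe (K3.f87804 IH) (Lpr_df (K3.f64620 IH) (Lpr_et (K5.f64648 IH) (Lpr_gt (K29.f460585 IH) (Lpe (f129832 IH) (Lpr_dt (f129781 IH) (Lpn (LP (LK LD1_c7 LD2_c3 LD3_c29)))))))))))))
theorem f92784 : Led Lsl_gt (LP (LK LD1_c3 LD2_c48 LD3_c24)) = (LP (LK LD1_c7 LD2_c37 LD3_c51)) :=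
  Lre_g IH (LK LD1_c3 LD2_c48 LD3_c24) (LK LD1_c7 LD2_c37 LD3_c51) Lrfl Lrfl
theorem f461589 : Led Lsl_af (LP (LK LD1_c7 LD2_c37 LD3_c51)) = (LP (LK LD1_c13 LD2_c23 LD3_c7)) :=
  Lgr Lrot31 (Lpe (f92784 IH) (Lpr_gf (f461583 IH) (Lpr_ft (f461588 IH) (Lpn (LP (LK LD1_c13 LD2_c23 LD3_c7))))))
theorem f513825 : Led Lsl_ft (LP (LK LD1_c7 LD2_c37 LD3_c51)) = (LP (LK LD1_c13 LD2_c17 LD3_c14)) :=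
  Lgr Lrot101 (Lpr_af (f461589 IH) (Lpe (f461588 IH) (Lpr_af (f513818 IH) (Lpn (LP (LK LD1_c13 LD2_c17 LD3_c14))))))
theorem f513831 : Led Lsl_ff (LP (LK LD1_c7 LD2_c37 LD3_c51)) = (LP (LK LD1_c13 LD2_c17 LD3_c14)) :=
  Lgr Lrot3 (Lpr_ft (f513825 IH) (Lpn (LP (LK LD1_c13 LD2_c17 LD3_c14))))
theorem f461624 : Led Lsl_at (LP (LK LD1_c7 LD2_c37 LD3_c51)) = (LP (LK LD1_c13 LD2_c23 LD3_c7)) :=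
  Lgr Lrot100 (Lpr_af (f461589 IH) (Lpn (LP (LK LD1_c13 LD2_c23 LD3_c7))))
theorem f513837 : Led Lsl_gf (LP (LK LD1_c13 LD2_c23 LD3_c7)) = (LP (LK LD1_c7 LD2_c34 LD3_c49)) :=
  Lgr Lrot76 (Lpe (f461624 IH) (Lpr_ff (f513831 IH) (Lpe (K29.f460208 IH) (Lpn (LP (LK LD1_c7 LD2_c34 LD3_c49))))))
theorem f15693 : Led Lsl_ct (LP (LK LD1_c1 LD2_c53 LD3_c18)) = (LP (LK LD1_c0 LD2_c53 LD3_c14)) :=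
  Lre_c IH (LK LD1_c1 LD2_c53 LD3_c18) (LK LD1_c0 LD2_c53 LD3_c14) Lrfl Lrfl
theorem f16701 : Led Lsl_gt (LP (LK LD1_c0 LD2_c53 LD3_c14)) = (LP (LK LD1_c1 LD2_c49 LD3_c24)) :=
  Lre_g IH (LK LD1_c0 LD2_c53 LD3_c14) (LK LD1_c1 LD2_c49 LD3_c24) Lrfl Lrfl
theorem f443285 : Led Lsl_dt (LP (LK LD1_c7 LD2_c30 LD3_c26)) = (LP (LK LD1_c3 LD2_c44 LD3_c39)) :=
  Lre_d IH (LK LD1_c7 LD2_c30 LD3_c26) (LK LD1_c3 LD2_c44 LD3_c39) Lrfl Lrfl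
theorem f15998 : Led Lsl_ct (LP (LK LD1_c14 LD2_c10 LD3_c39)) = (LP (LK LD1_c7 LD2_c30 LD3_c26)) :=
  Lre_c IH (LK LD1_c14 LD2_c10 LD3_c39) (LK LD1_c7 LD2_c30 LD3_c26) Lrfl Lrfl
theorem f16001 : Led Lsl_gt (LP (LK LD1_c7 LD2_c46 LD3_c59)) = (LP (LK LD1_c14 LD2_c10 LD3_c39)) :=
  Lre_g IH (LK LD1_c7 LD2_c46 LD3_c59) (LK LD1_c14 LD2_c10 LD3_c39) Lrfl Lrfl
theorem f513845 : Led Lsl_ct (LP (LK LD1_c13 LD2_c23 LD3_c7)) = (LP (LK LD1_c7 LD2_c46 LD3_c59)) :=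
  Lgr Lrot152 (Lpr_gf (f513837 IH) (Lpe (K5.f96167 IH) (Lpe (f472367 IH) (Lpr_ct (f15693 IH) (Lpr_gt (f16701 IH) (Lpr_ct (K28.f14889 IH) (Lpe (f443285 IH) (Lpe (f15998 IH) (Lpe (f16001 IH) (Lpn (LP (LK LD1_c7 LD2_c46 LD3_c59))))))))))))
theorem f129782 : Led Lsl_ct (LP (LK LD1_c13 LD2_c23 LD3_c6)) = (LP (LK LD1_c7 LD2_c3 LD3_c29)) :=
  Lre_c IH (LK LD1_c13 LD2_c23 LD3_c6) (LK LD1_c7 LD2_c3 LD3_c29) Lrfl Lrfl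
theorem f513858 : Led Lsl_ff (LP (LK LD1_c13 LD2_c23 LD3_c6)) = (LP (LK LD1_c7 LD2_c46 LD3_c59)) :=
  Lgr Lrot23 (Lpr_ct (f129782 IH) (Lpr_ft (f461588 IH) (Lpr_ct (f513845 IH) (Lpn (LP (LK LD1_c7 LD2_c46 LD3_c59))))))
theorem f461592 : Led Lsl_ct (LP (LK LD1_c7 LD2_c3 LD3_c29)) = (LP (LK LD1_c13 LD2_c23 LD3_c6)) :=
  Lre_c IH (LK LD1_c7 LD2_c3 LD3_c29) (LK LD1_c13 LD2_c23 LD3_c6) Lrfl Lrfl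
theorem f465279 : Led Lsl_cf (LP (LK LD1_c13 LD2_c17 LD3_c14)) = (LP (LK LD1_c7 LD2_c46 LD3_c60)) :=
  Lgr Lrot11 (Lpr_ct (K28.f465266 IH) (Lpn (LP (LK LD1_c7 LD2_c46 LD3_c60))))
theorem f513823 : Led Lsl_at (LP (LK LD1_c13 LD2_c23 LD3_c6)) = (LP (LK LD1_c7 LD2_c46 LD3_c60)) :=
  Lgr Lrot107 (Lpe (f461592 IH) (Lpr_af (f513818 IH) (Lpr_cf (f465279 IH) (Lpn (LP (LK LD1_c7 LD2_c46 LD3_c60))))))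
theorem f472145 : Led Lsl_bf (LP (LK LD1_c3 LD2_c39 LD3_c14)) = (LP (LK LD1_c1 LD2_c49 LD3_c22)) :=
  Lgr Lrot24 (Lpr_bt (K29.f472143 IH) (Lpn (LP (LK LD1_c1 LD2_c49 LD3_c22))))
theorem f97342 : Led Lsl_ct (LP (LK LD1_c3 LD2_c38 LD3_c8)) = (LP (LK LD1_c3 LD2_c33 LD3_c34)) :=
  Lgr Lrot59 (Lpr_cf (K29.f97334 IH) (Lpn (LP (LK LD1_c3 LD2_c33 LD3_c34))))
theorem f451224 : Led Lsl_af (LP (LK LD1_c0 LD2_c24 LD3_c17)) = K24.v229 :=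
  Lgr Lrot45 (Lpr_ft (K24.f451211 IH) (Lpe (K24.f451208 IH) (Lpr_ft (K24.f451223 IH) (Lpn K24.v229))))
theorem f465140 : Led Lsl_bf (LP (LK LD1_c1 LD2_c45 LD3_c16)) = (LP (LK LD1_c1 LD2_c45 LD3_c16)) :=
  Lgr Lrot81 (Lpe (K29.f465138 IH) (Lpr_bt (K28.f446530 IH) (Lpq (K24.f457379 IH) (Lpqs (K24.f457380 IH) (Lpe (f451224 IH) (Lpr_bt (K28.f451213 IH) (Lpr_at (K29.f465136 IH) (Lpn (LP (LK LD1_c1 LD2_c45 LD3_c16))))))))))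
theorem f472260 : Led Lsl_gt (LP (LK LD1_c1 LD2_c51 LD3_c13)) = (LP (LK LD1_c3 LD2_c44 LD3_c40)) :=
  Lgr Lrot65 (Lpe (K5.f17325 IH) (Lpr_bt (K28.f17319 IH) (Lpe (K29.f17442 IH) (Lpr_bf (f465140 IH) (Lpr_ct (K29.f107952 IH) (Lpr_gf (K32.f471378 IH) (Lpe (f97342 IH) (Lpe (K29.f425234 IH) (Lpr_bf (f472145 IH) (Lpr_ct (K29.f129761 IH) (Lpn (LP (LK LD1_c3 LD2_c44 LD3_c40)))))))))))))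
theorem f16907 : Led Lsl_ct (LP (LK LD1_c7 LD2_c46 LD3_c42)) = (LP (LK LD1_c3 LD2_c52 LD3_c25)) :=
  Lre_c IH (LK LD1_c7 LD2_c46 LD3_c42) (LK LD1_c3 LD2_c52 LD3_c25) Lrfl Lrfl
theorem f17069 : Led Lsl_gt (LP (LK LD1_c14 LD2_c10 LD3_c37)) = (LP (LK LD1_c7 LD2_c46 LD3_c42)) :=
  Lre_g IH (LK LD1_c14 LD2_c10 LD3_c37) (LK LD1_c7 LD2_c46 LD3_c42) Lrfl Lrfl
theorem f472263 : Led Lsl_ct (LP (LK LD1_c7 LD2_c37 LD3_c51)) = (LP (LK LD1_c14 LD2_c10 LD3_c37)) :=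
  Lgr Lrot152 (Lpe (f92784 IH) (Lpe (f17436 IH) (Lpr_gt (f472260 IH) (Lpr_ct (K29.f17065 IH) (Lpr_gt (K29.f15730 IH) (Lpr_ct (K28.f16724 IH) (Lpe (K29.f15424 IH) (Lpe (f16907 IH) (Lpe (f17069 IH) (Lpn (LP (LK LD1_c14 LD2_c10 LD3_c37))))))))))))
theorem f472295 : Led Lsl_cf (LP (LK LD1_c7 LD2_c37 LD3_c51)) = (LP (LK LD1_c14 LD2_c10 LD3_c37)) :=
  Lgr Lrot11 (Lpr_ct (f472263 IH) (Lpn (LP (LK LD1_c14 LD2_c10 LD3_c37))))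
theorem f513829 : Led Lsl_ff (LP (LK LD1_c14 LD2_c10 LD3_c37)) = (LP (LK LD1_c7 LD2_c46 LD3_c60)) :=
  Lgr Lrot23 (Lpe (f472295 IH) (Lpr_ft (f513825 IH) (Lpr_ct (K28.f465266 IH) (Lpn (LP (LK LD1_c7 LD2_c46 LD3_c60))))))
theorem f513861 : Led Lsl_at (LP (LK LD1_c14 LD2_c10 LD3_c37)) = (LP (LK LD1_c7 LD2_c46 LD3_c59)) :=
  Lgr Lrot66 (Lpr_ff (f513829 IH) (Lpe (f513823 IH) (Lpr_ff (f513858 IH) (Lpn (LP (LK LD1_c7 LD2_c46 LD3_c59))))))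
theorem f64154 : Led Lsl_dt (LP (LK LD1_c7 LD2_c46 LD3_c60)) = (LP (LK LD1_c14 LD2_c41 LD3_c4)) :=
  Lre_d IH (LK LD1_c7 LD2_c46 LD3_c60) (LK LD1_c14 LD2_c41 LD3_c4) Lrfl Lrfl
theorem f461627 : Led Lsl_dt (LP (LK LD1_c7 LD2_c3 LD3_c30)) = (LP (LK LD1_c13 LD2_c23 LD3_c7)) :=
  Lre_d IH (LK LD1_c7 LD2_c3 LD3_c30) (LK LD1_c13 LD2_c23 LD3_c7) Lrfl Lrfl
theorem f513844 : Led Lsl_ct (LP (LK LD1_c3 LD2_c30 LD3_c49)) = (LP (LK LD1_c7 LD2_c3 LD3_c30)) :=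
  Lre_c IH (LK LD1_c3 LD2_c30 LD3_c49) (LK LD1_c7 LD2_c3 LD3_c30) Lrfl Lrfl
theorem f461642 : Led Lsl_dt (LP (LK LD1_c13 LD2_c23 LD3_c7)) = (LP (LK LD1_c7 LD2_c3 LD3_c30)) :=
  Lre_d IH (LK LD1_c13 LD2_c23 LD3_c7) (LK LD1_c7 LD2_c3 LD3_c30) Lrfl Lrfl
theorem f513841 : Led Lsl_ct (LP (LK LD1_c7 LD2_c3 LD3_c30)) = (LP (LK LD1_c3 LD2_c30 LD3_c49)) :=
  Lre_c IH (LK LD1_c7 LD2_c3 LD3_c30) (LK LD1_c3 LD2_c30 LD3_c49) Lrfl Lrfl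
theorem f110037 : Led Lsl_dt (LP (LK LD1_c0 LD2_c23 LD3_c58)) = (LP (LK LD1_c0 LD2_c53 LD3_c16)) :=
  Lre_d IH (LK LD1_c0 LD2_c23 LD3_c58) (LK LD1_c0 LD2_c53 LD3_c16) Lrfl Lrfl
theorem f513842 : Led Lsl_df (LP (LK LD1_c3 LD2_c30 LD3_c49)) = (LP (LK LD1_c1 LD2_c53 LD3_c22)) :=
  Lgr Lrot84 (Lpe (f513841 IH) (Lpe (f461642 IH) (Lpr_gf (f513837 IH) (Lpe (K5.f96167 IH) (Lpr_gf (K28.f465254 IH) (Lpe (K28.f446568 IH) (Lpr_gt (K28.f15697 IH) (Lpr_dt (f110037 IH) (Lpr_gt (K29.f451144 IH) (Lpn (LP (LK LD1_c1 LD2_c53 LD3_c22))))))))))))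
theorem f513853 : Led Lsl_ct (LP (LK LD1_c3 LD2_c53 LD3_c32)) = (LP (LK LD1_c1 LD2_c53 LD3_c22)) :=
  Lre_c IH (LK LD1_c3 LD2_c53 LD3_c32) (LK LD1_c1 LD2_c53 LD3_c22) Lrfl Lrfl
theorem f513854 : Led Lsl_dt (LP (LK LD1_c7 LD2_c48 LD3_c40)) = (LP (LK LD1_c3 LD2_c53 LD3_c32)) :=
  Lre_d IH (LK LD1_c7 LD2_c48 LD3_c40) (LK LD1_c3 LD2_c53 LD3_c32) Lrfl Lrfl
theorem f513902 : Led Lsl_ct (LP (LK LD1_c14 LD2_c41 LD3_c4)) = (LP (LK LD1_c7 LD2_c48 LD3_c40)) :=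
  Lgr Lrot133 (Lpe (f64154 IH) (Lpe (f513829 IH) (Lpr_at (f513861 IH) (Lpe (f513845 IH) (Lpe (f461627 IH) (Lpe (f513844 IH) (Lpr_df (f513842 IH) (Lpe (f513853 IH) (Lpe (f513854 IH) (Lpn (LP (LK LD1_c7 LD2_c48 LD3_c40))))))))))))
theorem f513905 : Led Lsl_cf (LP (LK LD1_c14 LD2_c41 LD3_c4)) = (LP (LK LD1_c7 LD2_c48 LD3_c40)) :=
  Lgr Lrot11 (Lpr_ct (f513902 IH) (Lpn (LP (LK LD1_c7 LD2_c48 LD3_c40))))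
theorem f465285 : Led Lsl_dt (LP (LK LD1_c14 LD2_c41 LD3_c4)) = (LP (LK LD1_c7 LD2_c46 LD3_c60)) :=
  Lre_d IH (LK LD1_c14 LD2_c41 LD3_c4) (LK LD1_c7 LD2_c46 LD3_c60) Lrfl Lrfl
theorem f460210 : Led Lsl_dt (LP (LK LD1_c13 LD2_c17 LD3_c14)) = (LP (LK LD1_c7 LD2_c0 LD3_c10)) :=
  Lre_d IH (LK LD1_c13 LD2_c17 LD3_c14) (LK LD1_c7 LD2_c0 LD3_c10) Lrfl Lrfl
theorem f513682 : Led Lsl_at (LP (LK LD1_c7 LD2_c3 LD3_c29)) = (LP (LK LD1_c13 LD2_c17 LD3_c14)) :=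
  Lgr Lrot51 (Lpe (f129781 IH) (Lpr_af (f513676 IH) (Lpe (f460210 IH) (Lpn (LP (LK LD1_c13 LD2_c17 LD3_c14))))))
theorem f461643 : Led Lsl_ft (LP (LK LD1_c13 LD2_c23 LD3_c7)) = (LP (LK LD1_c7 LD2_c3 LD3_c29)) :=
  Lre_f IH (LK LD1_c13 LD2_c23 LD3_c7) (LK LD1_c7 LD2_c3 LD3_c29) Lrfl Lrfl
theorem f513910 : Led Lsl_dt (LP (LK LD1_c3 LD2_c53 LD3_c32)) = (LP (LK LD1_c7 LD2_c48 LD3_c40)) :=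
  Lre_d IH (LK LD1_c3 LD2_c53 LD3_c32) (LK LD1_c7 LD2_c48 LD3_c40) Lrfl Lrfl
theorem f451403 : Led Lsl_ct (LP (LK LD1_c1 LD2_c53 LD3_c22)) = (LP (LK LD1_c3 LD2_c53 LD3_c32)) :=
  Lre_c IH (LK LD1_c1 LD2_c53 LD3_c22) (LK LD1_c3 LD2_c53 LD3_c32) Lrfl Lrfl
theorem f513915 : Led Lsl_dt (LP (LK LD1_c3 LD2_c30 LD3_c49)) = (LP (LK LD1_c1 LD2_c53 LD3_c22)) :=
  Lgr Lrot32 (Lpe (f513841 IH) (Lpe (f461642 IH) (Lpr_ft (f461643 IH) (Lpr_at (f513682 IH) (Lpr_cf (f465279 IH) (Lpe (f465285 IH) (Lpr_cf (f513905 IH) (Lpe (f513910 IH) (Lpe (f451403 IH) (Lpn (LP (LK LD1_c1 LD2_c53 LD3_c22))))))))))))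
theorem f455553 : Led Lsl_ft (LP (LK LD1_c1 LD2_c41 LD3_c58)) = (LP (LK LD1_c3 LD2_c30 LD3_c49)) :=
  Lre_f IH (LK LD1_c1 LD2_c41 LD3_c58) (LK LD1_c3 LD2_c30 LD3_c49) Lrfl Lrfl
theorem f129755 : Led Lsl_dt (LP (LK LD1_c3 LD2_c30 LD3_c48)) = (LP (LK LD1_c1 LD2_c41 LD3_c58)) :=
  Lre_d IH (LK LD1_c3 LD2_c30 LD3_c48) (LK LD1_c1 LD2_c41 LD3_c58) Lrfl Lrfl
theorem f513920 : Led Lsl_ff (LP (LK LD1_c3 LD2_c30 LD3_c48)) = (LP (LK LD1_c1 LD2_c53 LD3_c22)) :=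
  Lgr Lrot19 (Lpr_dt (f129755 IH) (Lpr_ft (f455553 IH) (Lpr_dt (f513915 IH) (Lpn (LP (LK LD1_c1 LD2_c53 LD3_c22))))))
theorem f513927 : Led Lsl_ft (LP (LK LD1_c3 LD2_c30 LD3_c48)) = (LP (LK LD1_c1 LD2_c53 LD3_c22)) :=
  Lgr Lrot48 (Lpr_ff (f513920 IH) (Lpn (LP (LK LD1_c1 LD2_c53 LD3_c22))))
theorem f491348 : Led Lsl_bt (LP (LK LD1_c1 LD2_c53 LD3_c22)) = (LP (LK LD1_c3 LD2_c53 LD3_c31)) :=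
  Lre_b IH (LK LD1_c1 LD2_c53 LD3_c22) (LK LD1_c3 LD2_c53 LD3_c31) Lrfl Lrfl
theorem f513929 : Led Lsl_ff (LP (LK LD1_c7 LD2_c3 LD3_c18)) = (LP (LK LD1_c3 LD2_c53 LD3_c31)) :=
  Lgr Lrot25 (Lpr_bt (f129771 IH) (Lpr_ft (f513927 IH) (Lpr_bt (f491348 IH) (Lpn (LP (LK LD1_c3 LD2_c53 LD3_c31))))))
theorem f491340 : Led Lsl_ct (LP (LK LD1_c7 LD2_c48 LD3_c38)) = (LP (LK LD1_c3 LD2_c53 LD3_c31)) :=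
  Lre_c IH (LK LD1_c7 LD2_c48 LD3_c38) (LK LD1_c3 LD2_c53 LD3_c31) Lrfl Lrfl
theorem f532582 : Led Lsl_ff (LP (LK LD1_c7 LD2_c48 LD3_c38)) = v2765 :=
  Lgr Lrot23 (Lpr_ct (f491340 IH) (Lpe (f513929 IH) (Lpr_ct (f532579 IH) (Lpn v2765))))
theorem f17195 : Led Lsl_gt (LP (LK LD1_c1 LD2_c54 LD3_c42)) = (LP (LK LD1_c3 LD2_c56 LD3_c1)) :=
  Lre_g IH (LK LD1_c1 LD2_c54 LD3_c42) (LK LD1_c3 LD2_c56 LD3_c1) Lrfl Lrfl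
theorem f532584 : Led Lsl_at (LP (LK LD1_c7 LD2_c48 LD3_c38)) = (LP (LK LD1_c3 LD2_c56 LD3_c1)) :=
  Lgr Lrot26 (Lpr_ff (f532582 IH) (Lpe (f532577 IH) (Lpr_gt (f17195 IH) (Lpn (LP (LK LD1_c3 LD2_c56 LD3_c1))))))
theorem f532585 : Led Lsl_at (LP (LK LD1_c7 LD2_c48 LD3_c38)) = (LP (LK LD1_c3 LD2_c56 LD3_c1)) :=
  Leop (Lpe (f532584 IH) (Lpn (LP (LK LD1_c7 LD2_c48 LD3_c38))))
theorem seed_232 : LEOK LG_a (LK LD1_c7 LD2_c48 LD3_c38) :=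
  Leoe_a (LK LD1_c7 LD2_c48 LD3_c38) (f532585 IH)
theorem f468334 : Led Lsl_bt (LP (LK LD1_c3 LD2_c30 LD3_c48)) = (LP (LK LD1_c7 LD2_c3 LD3_c18)) :=
  Lre_b IH (LK LD1_c3 LD2_c30 LD3_c48) (LK LD1_c7 LD2_c3 LD3_c18) Lrfl Lrfl
theorem f513923 : Led Lsl_ft (LP (LK LD1_c7 LD2_c3 LD3_c18)) = (LP (LK LD1_c3 LD2_c53 LD3_c31)) :=
  Lgr Lrot75 (Lpe (f468334 IH) (Lpr_ff (f513920 IH) (Lpe (K29.f451404 IH) (Lpn (LP (LK LD1_c3 LD2_c53 LD3_c31))))))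
theorem f124359 : Led Lsl_et (LP (LK LD1_c1 LD2_c48 LD3_c11)) = (LP (LK LD1_c0 LD2_c50 LD3_c51)) :=
  Lre_e IH (LK LD1_c1 LD2_c48 LD3_c11) (LK LD1_c0 LD2_c50 LD3_c51) Lrfl Lrfl
theorem f425211 : Led Lsl_dt (LP (LK LD1_c1 LD2_c48 LD3_c11)) = (LP (LK LD1_c3 LD2_c42 LD3_c27)) :=
  Lre_d IH (LK LD1_c1 LD2_c48 LD3_c11) (LK LD1_c3 LD2_c42 LD3_c27) Lrfl Lrfl
theorem f468331 : Led Lsl_et (LP (LK LD1_c3 LD2_c30 LD3_c39)) = (LP (LK LD1_c1 LD2_c41 LD3_c55)) :=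
  Lre_e IH (LK LD1_c3 LD2_c30 LD3_c39) (LK LD1_c1 LD2_c41 LD3_c55) Lrfl Lrfl
theorem f457622 : Led Lsl_dt (LP (LK LD1_c3 LD2_c30 LD3_c39)) = (LP (LK LD1_c7 LD2_c3 LD3_c18)) :=
  Lre_d IH (LK LD1_c3 LD2_c30 LD3_c39) (LK LD1_c7 LD2_c3 LD3_c18) Lrfl Lrfl
theorem f468332 : Led Lsl_gf (LP (LK LD1_c3 LD2_c42 LD3_c27)) = (LP (LK LD1_c7 LD2_c3 LD3_c18)) :=
  Lgr Lrot145 (Lpe (f425211 IH) (Lpr_et (f124359 IH) (Lpr_gt (K4.f120848 IH) (Lpe (K33.f120849 IH) (Lpe (K2.f84679 IH) (Lpe (K1.f17659 IH) (Lpr_et (K3.f17689 IH) (Lpr_gt (K29.f468324 IH) (Lpe (f468331 IH) (Lpr_dt (f457622 IH) (Lpn (LP (LK LD1_c7 LD2_c3 LD3_c18)))))))))))))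
theorem f440584 : Led Lsl_gt (LP (LK LD1_c3 LD2_c42 LD3_c27)) = (LP (LK LD1_c7 LD2_c25 LD3_c35)) :=
  Lre_g IH (LK LD1_c3 LD2_c42 LD3_c27) (LK LD1_c7 LD2_c25 LD3_c35) Lrfl Lrfl
theorem f513953 : Led Lsl_af (LP (LK LD1_c7 LD2_c25 LD3_c35)) = (LP (LK LD1_c3 LD2_c53 LD3_c31)) :=
  Lgr Lrot31 (Lpe (f440584 IH) (Lpr_gf (f468332 IH) (Lpr_ft (f513923 IH) (Lpn (LP (LK LD1_c3 LD2_c53 LD3_c31))))))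
theorem f513955 : Led Lsl_at (LP (LK LD1_c7 LD2_c25 LD3_c35)) = (LP (LK LD1_c3 LD2_c53 LD3_c31)) :=
  Lgr Lrot100 (Lpr_af (f513953 IH) (Lpn (LP (LK LD1_c3 LD2_c53 LD3_c31))))
theorem f532593 : Led Lsl_cf (LP (LK LD1_c7 LD2_c25 LD3_c35)) = (LP (LK LD1_c3 LD2_c56 LD3_c1)) :=
  Lgr Lrot1 (Lpr_at (f513955 IH) (Lpr_ct (K29.f451405 IH) (Lpr_at (f532584 IH) (Lpn (LP (LK LD1_c3 LD2_c56 LD3_c1))))))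
theorem f98760 : Led Lsl_dt (LP (LK LD1_c6 LD2_c52 LD3_c11)) = (LP (LK LD1_c13 LD2_c3 LD3_c60)) :=
  Lre_d IH (LK LD1_c6 LD2_c52 LD3_c11) (LK LD1_c13 LD2_c3 LD3_c60) Lrfl Lrfl
theorem f479937 : Led Lsl_et (LP (LK LD1_c3 LD2_c24 LD3_c50)) = (LP (LK LD1_c6 LD2_c52 LD3_c11)) :=
  Lre_e IH (LK LD1_c3 LD2_c24 LD3_c50) (LK LD1_c6 LD2_c52 LD3_c11) Lrfl Lrfl
theorem f458435 : Led Lsl_gt (LP (LK LD1_c13 LD2_c3 LD3_c59)) = (LP (LK LD1_c6 LD2_c52 LD3_c11)) :=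
  Lre_g IH (LK LD1_c13 LD2_c3 LD3_c59) (LK LD1_c6 LD2_c52 LD3_c11) Lrfl Lrfl
theorem f102361 : Led Lsl_et (LP (LK LD1_c6 LD2_c55 LD3_c37)) = (LP (LK LD1_c3 LD2_c26 LD3_c53)) :=
  Lre_e IH (LK LD1_c6 LD2_c55 LD3_c37) (LK LD1_c3 LD2_c26 LD3_c53) Lrfl Lrfl
theorem f95032 : Led Lsl_dt (LP (LK LD1_c1 LD2_c40 LD3_c4)) = (LP (LK LD1_c3 LD2_c26 LD3_c54)) :=
  Lre_d IH (LK LD1_c1 LD2_c40 LD3_c4) (LK LD1_c3 LD2_c26 LD3_c54) Lrfl Lrfl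
theorem f102588 : Led Lsl_gt (LP (LK LD1_c3 LD2_c26 LD3_c54)) = (LP (LK LD1_c6 LD2_c55 LD3_c38)) :=
  Lre_g IH (LK LD1_c3 LD2_c26 LD3_c54) (LK LD1_c6 LD2_c55 LD3_c38) Lrfl Lrfl
theorem f102589 : Led Lsl_dt (LP (LK LD1_c13 LD2_c9 LD3_c21)) = (LP (LK LD1_c6 LD2_c55 LD3_c38)) :=
  Lre_d IH (LK LD1_c13 LD2_c9 LD3_c21) (LK LD1_c6 LD2_c55 LD3_c38) Lrfl Lrfl
theorem f479938 : Led Lsl_ef (LP (LK LD1_c13 LD2_c3 LD3_c59)) = (LP (LK LD1_c13 LD2_c9 LD3_c21)) :=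
  Lgr Lrot114 (Lpr_gt (f458435 IH) (Lpe (f479937 IH) (Lpr_dt (K28.f468318 IH) (Lpr_gt (K32.f468319 IH) (Lpr_df (K32.f479877 IH) (Lpr_et (f102361 IH) (Lpr_gt (K29.f102360 IH) (Lpr_dt (f95032 IH) (Lpr_gt (f102588 IH) (Lpe (f102589 IH) (Lpn (LP (LK LD1_c13 LD2_c9 LD3_c21)))))))))))))
theorem f102559 : Led Lsl_et (LP (LK LD1_c3 LD2_c26 LD3_c25)) = (LP (LK LD1_c1 LD2_c39 LD3_c54)) :=
  Lre_e IH (LK LD1_c3 LD2_c26 LD3_c25) (LK LD1_c1 LD2_c39 LD3_c54) Lrfl Lrfl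
theorem f479942 : Led Lsl_gt (LP (LK LD1_c13 LD2_c3 LD3_c60)) = (LP (LK LD1_c6 LD2_c54 LD3_c43)) :=
  Lgr Lrot139 (Lpe (f98760 IH) (Lpe (f458435 IH) (Lpr_ef (f479938 IH) (Lpr_dt (f102589 IH) (Lpe (f102588 IH) (Lpe (f95032 IH) (Lpr_et (K33.f95031 IH) (Lpe (K6.f102531 IH) (Lpe (f102559 IH) (Lpr_dt (K8.f102560 IH) (Lpn (LP (LK LD1_c6 LD2_c54 LD3_c43)))))))))))))
theorem f472476 : Led Lsl_ct (LP (LK LD1_c14 LD2_c32 LD3_c45)) = (LP (LK LD1_c7 LD2_c42 LD3_c61)) :=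
  Lre_c IH (LK LD1_c14 LD2_c32 LD3_c45) (LK LD1_c7 LD2_c42 LD3_c61) Lrfl Lrfl
theorem f512842 : Led Lsl_ft (LP (LK LD1_c7 LD2_c43 LD3_c46)) = (LP (LK LD1_c14 LD2_c32 LD3_c45)) :=
  Lgr Lrot4 (Lpe (f457500 IH) (Lpr_ff (f512838 IH) (Lpe (f472476 IH) (Lpn (LP (LK LD1_c14 LD2_c32 LD3_c45))))))
theorem f486033 : Led Lsl_ct (LP (LK LD1_c7 LD2_c43 LD3_c43)) = (LP (LK LD1_c3 LD2_c51 LD3_c10)) :=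
  Lre_c IH (LK LD1_c7 LD2_c43 LD3_c43) (LK LD1_c3 LD2_c51 LD3_c10) Lrfl Lrfl
theorem f512833 : Led Lsl_af (LP (LK LD1_c7 LD2_c43 LD3_c43)) = (LP (LK LD1_c14 LD2_c32 LD3_c45)) :=
  Lgr Lrot68 (Lpr_ct (f486033 IH) (Lpr_at (f512829 IH) (Lpr_ct (f458209 IH) (Lpn (LP (LK LD1_c14 LD2_c32 LD3_c45))))))
theorem f527279 : Led Lsl_gf (LP (LK LD1_c7 LD2_c43 LD3_c43)) = (LP (LK LD1_c13 LD2_c7 LD3_c58)) :=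
  Lgr Lrot76 (Lpr_af (f512833 IH) (Lpe (f512842 IH) (Lpr_gt (f527273 IH) (Lpn (LP (LK LD1_c13 LD2_c7 LD3_c58))))))
theorem f485771 : Led Lsl_ft (LP (LK LD1_c1 LD2_c46 LD3_c30)) = (LP (LK LD1_c1 LD2_c39 LD3_c31)) :=
  Lgr Lrot48 (Lpr_ff (K29.f485766 IH) (Lpn (LP (LK LD1_c1 LD2_c39 LD3_c31))))
theorem f85245 : Led Lsl_bt (LP (LK LD1_c0 LD2_c51 LD3_c38)) = (LP (LK LD1_c0 LD2_c23 LD3_c28)) :=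
  Lre_b IH (LK LD1_c0 LD2_c51 LD3_c38) (LK LD1_c0 LD2_c23 LD3_c28) Lrfl Lrfl
theorem f478894 : Led Lsl_ct (LP (LK LD1_c1 LD2_c46 LD3_c30)) = (LP (LK LD1_c3 LD2_c39 LD3_c5)) :=
  Lre_c IH (LK LD1_c1 LD2_c46 LD3_c30) (LK LD1_c3 LD2_c39 LD3_c5) Lrfl Lrfl
theorem f478896 : Led Lsl_gt (LP (LK LD1_c3 LD2_c39 LD3_c5)) = (LP (LK LD1_c1 LD2_c49 LD3_c35)) :=
  Lgr Lrot149 (Lpe (f478894 IH) (Lpr_gf (K29.f478890 IH) (Lpe (K4.f94316 IH) (Lpr_ct (K4.f115937 IH) (Lpr_gf (K29.f478469 IH) (Lpe (K29.f85276 IH) (Lpr_bt (K29.f459573 IH) (Lpq (K29.f466759 IH) (Lpqs (K29.f466751 IH) (Lpe (K29.f85269 IH) (Lpe (f85245 IH) (Lpr_ct (K2.f85247 IH) (Lpn (LP (LK LD1_c1 LD2_c49 LD3_c35)))))))))))))))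
theorem f478899 : Led Lsl_bf (LP (LK LD1_c1 LD2_c46 LD3_c30)) = (LP (LK LD1_c1 LD2_c46 LD3_c30)) :=
  Lgr Lrot34 (Lpr_gf (K29.f478890 IH) (Lpe (K4.f94316 IH) (Lpr_ct (K4.f115937 IH) (Lpr_gf (K29.f478469 IH) (Lpe (K29.f85276 IH) (Lpe (K29.f85269 IH) (Lpe (f85245 IH) (Lpr_ct (K2.f85247 IH) (Lpe (f478896 IH) (Lpe (f478894 IH) (Lpn (LP (LK LD1_c1 LD2_c46 LD3_c30)))))))))))))
theorem f485774 : Led Lsl_bf (LP (LK LD1_c1 LD2_c39 LD3_c31)) = (LP (LK LD1_c1 LD2_c39 LD3_c31)) :=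
  Lgr Lrot61 (Lpe (K29.f485766 IH) (Lpe (f478899 IH) (Lpr_ft (f485771 IH) (Lpn (LP (LK LD1_c1 LD2_c39 LD3_c31))))))
theorem f102692 : Led Lsl_af (LP (LK LD1_c1 LD2_c39 LD3_c30)) = (LP (LK LD1_c3 LD2_c24 LD3_c40)) :=
  Lgr Lrot0 (Lpr_at (K6.f102690 IH) (Lpn (LP (LK LD1_c3 LD2_c24 LD3_c40))))
theorem f484039 : Led Lsl_ft (LP (LK LD1_c3 LD2_c39 LD3_c4)) = (LP (LK LD1_c3 LD2_c24 LD3_c40)) :=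
  Lgr Lrot142 (Lpr_dt (K29.f467634 IH) (Lpr_ct (K29.f484024 IH) (Lpr_dt (K29.f94293 IH) (Lpr_ct (K29.f94292 IH) (Lpr_dt (K6.f94291 IH) (Lpr_ct (K29.f94290 IH) (Lpr_dt (K4.f94241 IH) (Lpr_ct (K29.f94294 IH) (Lpr_af (f102692 IH) (Lpn (LP (LK LD1_c3 LD2_c24 LD3_c40))))))))))))
theorem f94310 : Led Lsl_gt (LP (LK LD1_c3 LD2_c25 LD3_c48)) = (LP (LK LD1_c1 LD2_c39 LD3_c30)) :=
  Lre_g IH (LK LD1_c3 LD2_c25 LD3_c48) (LK LD1_c1 LD2_c39 LD3_c30) Lrfl Lrfl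
theorem f485727 : Led Lsl_gt (LP (LK LD1_c3 LD2_c39 LD3_c4)) = (LP (LK LD1_c3 LD2_c25 LD3_c48)) :=
  Lgr Lrot5 (Lpr_ft (f484039 IH) (Lpe (f102692 IH) (Lpe (f94310 IH) (Lpn (LP (LK LD1_c3 LD2_c25 LD3_c48))))))
theorem f483029 : Led Lsl_ct (LP (LK LD1_c1 LD2_c49 LD3_c37)) = (LP (LK LD1_c3 LD2_c25 LD3_c48)) :=
  Lgr Lrot64 (Lpr_bt (f467376 IH) (Lpr_gf (K28.f467374 IH) (Lpe (K29.f440651 IH) (Lpr_ct (K29.f109639 IH) (Lpr_gf (K29.f441413 IH) (Lpr_cf (K29.f483014 IH) (Lpe (K29.f94337 IH) (Lpe (K29.f94287 IH) (Lpr_ct (K29.f94294 IH) (Lpe (f94310 IH) (Lpn (LP (LK LD1_c3 LD2_c25 LD3_c48)))))))))))))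
theorem f94309 : Led Lsl_ct (LP (LK LD1_c1 LD2_c39 LD3_c31)) = (LP (LK LD1_c3 LD2_c25 LD3_c51)) :=
  Lre_c IH (LK LD1_c1 LD2_c39 LD3_c31) (LK LD1_c3 LD2_c25 LD3_c51) Lrfl Lrfl
theorem f485861 : Led Lsl_gt (LP (LK LD1_c3 LD2_c30 LD3_c4)) = (LP (LK LD1_c3 LD2_c25 LD3_c51)) :=
  Lgr Lrot65 (Lpr_cf (K2.f95326 IH) (Lpe (K28.f440642 IH) (Lpe (K28.f467372 IH) (Lpe (f467376 IH) (Lpr_ct (f483029 IH) (Lpe (f485727 IH) (Lpe (K29.f455915 IH) (Lpr_gf (K29.f485764 IH) (Lpr_bf (f485774 IH) (Lpr_ct (f94309 IH) (Lpn (LP (LK LD1_c3 LD2_c25 LD3_c51)))))))))))))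
theorem f62970 : Led Lsl_bt (LP (LK LD1_c3 LD2_c48 LD3_c5)) = (LP (LK LD1_c1 LD2_c51 LD3_c4)) :=
  Lre_b IH (LK LD1_c3 LD2_c48 LD3_c5) (LK LD1_c1 LD2_c51 LD3_c4) Lrfl Lrfl
theorem f62972 : Led Lsl_df (LP (LK LD1_c3 LD2_c48 LD3_c5)) = (LP (LK LD1_c3 LD2_c52 LD3_c42)) :=
  Lgr Lrot12 (Lpr_bt (f62970 IH) (Lpr_dt (K28.f62788 IH) (Lpr_bt (K32.f62971 IH) (Lpn (LP (LK LD1_c3 LD2_c52 LD3_c42))))))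
theorem f457798 : Led Lsl_et (LP (LK LD1_c1 LD2_c40 LD3_c19)) = (LP (LK LD1_c3 LD2_c27 LD3_c27)) :=
  Lre_e IH (LK LD1_c1 LD2_c40 LD3_c19) (LK LD1_c3 LD2_c27 LD3_c27) Lrfl Lrfl
theorem f457799 : Led Lsl_ct (LP (LK LD1_c3 LD2_c27 LD3_c27)) = (LP (LK LD1_c3 LD2_c48 LD3_c5)) :=
  Lgr Lrot15 (Lpe (f457798 IH) (Lpr_cf (K28.f457790 IH) (Lpe (K32.f62999 IH) (Lpn (LP (LK LD1_c3 LD2_c48 LD3_c5))))))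
theorem f457806 : Led Lsl_cf (LP (LK LD1_c3 LD2_c27 LD3_c27)) = (LP (LK LD1_c3 LD2_c48 LD3_c5)) :=
  Lgr Lrot11 (Lpr_ct (f457799 IH) (Lpn (LP (LK LD1_c3 LD2_c48 LD3_c5))))
theorem f457808 : Led Lsl_dt (LP (LK LD1_c6 LD2_c57 LD3_c1)) = (LP (LK LD1_c3 LD2_c27 LD3_c27)) :=
  Lre_d IH (LK LD1_c6 LD2_c57 LD3_c1) (LK LD1_c3 LD2_c27 LD3_c27) Lrfl Lrfl
theorem f481875 : Led Lsl_dt (LP (LK LD1_c3 LD2_c25 LD3_c51)) = (LP (LK LD1_c6 LD2_c53 LD3_c38)) :=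
  Lre_d IH (LK LD1_c3 LD2_c25 LD3_c51) (LK LD1_c6 LD2_c53 LD3_c38) Lrfl Lrfl
theorem f485863 : Led Lsl_gf (LP (LK LD1_c6 LD2_c57 LD3_c1)) = (LP (LK LD1_c6 LD2_c53 LD3_c38)) :=
  Lgr Lrot143 (Lpr_dt (f457808 IH) (Lpr_cf (f457806 IH) (Lpr_df (f62972 IH) (Lpr_gf (K32.f464235 IH) (Lpe (K32.f85213 IH) (Lpe (K29.f85212 IH) (Lpe (K2.f95334 IH) (Lpr_gt (f485861 IH) (Lpr_dt (f481875 IH) (Lpn (LP (LK LD1_c6 LD2_c53 LD3_c38))))))))))))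
theorem f457010 : Led Lsl_ct (LP (LK LD1_c3 LD2_c39 LD3_c5)) = (LP (LK LD1_c1 LD2_c46 LD3_c30)) :=
  Lre_c IH (LK LD1_c3 LD2_c39 LD3_c5) (LK LD1_c1 LD2_c46 LD3_c30) Lrfl Lrfl
theorem f485776 : Led Lsl_ff (LP (LK LD1_c3 LD2_c39 LD3_c5)) = (LP (LK LD1_c3 LD2_c25 LD3_c51)) :=
  Lgr Lrot23 (Lpr_ct (f457010 IH) (Lpr_ft (f485771 IH) (Lpr_ct (f94309 IH) (Lpn (LP (LK LD1_c3 LD2_c25 LD3_c51))))))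
theorem f478895 : Led Lsl_dt (LP (LK LD1_c3 LD2_c39 LD3_c5)) = (LP (LK LD1_c7 LD2_c18 LD3_c35)) :=
  Lre_d IH (LK LD1_c3 LD2_c39 LD3_c5) (LK LD1_c7 LD2_c18 LD3_c35) Lrfl Lrfl
theorem f481873 : Led Lsl_dt (LP (LK LD1_c6 LD2_c53 LD3_c38)) = (LP (LK LD1_c3 LD2_c25 LD3_c51)) :=
  Lre_d IH (LK LD1_c6 LD2_c53 LD3_c38) (LK LD1_c3 LD2_c25 LD3_c51) Lrfl Lrfl
theorem f485782 : Led Lsl_ft (LP (LK LD1_c7 LD2_c18 LD3_c35)) = (LP (LK LD1_c6 LD2_c53 LD3_c38)) :=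
  Lgr Lrot54 (Lpe (f478895 IH) (Lpr_ff (f485776 IH) (Lpe (f481873 IH) (Lpn (LP (LK LD1_c6 LD2_c53 LD3_c38))))))
theorem f485797 : Led Lsl_ff (LP (LK LD1_c7 LD2_c18 LD3_c35)) = (LP (LK LD1_c6 LD2_c53 LD3_c38)) :=
  Lgr Lrot3 (Lpr_ft (f485782 IH) (Lpn (LP (LK LD1_c6 LD2_c53 LD3_c38))))
theorem f485799 : Led Lsl_at (LP (LK LD1_c7 LD2_c18 LD3_c35)) = (LP (LK LD1_c3 LD2_c39 LD3_c8)) :=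
  Lre_a IH (LK LD1_c7 LD2_c18 LD3_c35) (LK LD1_c3 LD2_c39 LD3_c8) Lrfl Lrfl
theorem f486011 : Led Lsl_gt (LP (LK LD1_c6 LD2_c57 LD3_c1)) = (LP (LK LD1_c3 LD2_c39 LD3_c8)) :=
  Lgr Lrot46 (Lpr_gf (f485863 IH) (Lpe (f485797 IH) (Lpr_at (f485799 IH) (Lpn (LP (LK LD1_c3 LD2_c39 LD3_c8))))))
theorem f15325 : Led Lsl_dt (LP (LK LD1_c3 LD2_c27 LD3_c27)) = (LP (LK LD1_c6 LD2_c57 LD3_c1)) :=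
  Lre_d IH (LK LD1_c3 LD2_c27 LD3_c27) (LK LD1_c6 LD2_c57 LD3_c1) Lrfl Lrfl
theorem f15324 : Led Lsl_et (LP (LK LD1_c3 LD2_c27 LD3_c27)) = (LP (LK LD1_c1 LD2_c40 LD3_c19)) :=
  Lre_e IH (LK LD1_c3 LD2_c27 LD3_c27) (LK LD1_c1 LD2_c40 LD3_c19) Lrfl Lrfl
theorem f455907 : Led Lsl_dt (LP (LK LD1_c1 LD2_c46 LD3_c31)) = (LP (LK LD1_c3 LD2_c39 LD3_c8)) :=
  Lre_d IH (LK LD1_c1 LD2_c46 LD3_c31) (LK LD1_c3 LD2_c39 LD3_c8) Lrfl Lrfl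
theorem f486020 : Led Lsl_et (LP (LK LD1_c1 LD2_c46 LD3_c31)) = (LP (LK LD1_c3 LD2_c39 LD3_c9)) :=
  Lre_e IH (LK LD1_c1 LD2_c46 LD3_c31) (LK LD1_c3 LD2_c39 LD3_c9) Lrfl Lrfl
theorem f455949 : Led Lsl_gt (LP (LK LD1_c3 LD2_c39 LD3_c9)) = (LP (LK LD1_c7 LD2_c18 LD3_c41)) :=
  Lre_g IH (LK LD1_c3 LD2_c39 LD3_c9) (LK LD1_c7 LD2_c18 LD3_c41) Lrfl Lrfl
theorem f486022 : Led Lsl_df (LP (LK LD1_c3 LD2_c51 LD3_c10)) = (LP (LK LD1_c7 LD2_c18 LD3_c41)) :=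
  Lgr Lrot135 (Lpr_gt (f14852 IH) (Lpe (f15287 IH) (Lpr_et (K0.f15293 IH) (Lpr_gt (K28.f15323 IH) (Lpe (f15324 IH) (Lpr_dt (f15325 IH) (Lpr_gt (f486011 IH) (Lpe (f455907 IH) (Lpr_et (f486020 IH) (Lpr_gt (f455949 IH) (Lpn (LP (LK LD1_c7 LD2_c18 LD3_c41)))))))))))))
theorem f486029 : Led Lsl_dt (LP (LK LD1_c3 LD2_c51 LD3_c10)) = (LP (LK LD1_c7 LD2_c18 LD3_c41)) :=
  Lgr Lrot42 (Lpr_df (f486022 IH) (Lpn (LP (LK LD1_c7 LD2_c18 LD3_c41))))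
theorem f478570 : Led Lsl_ct (LP (LK LD1_c7 LD2_c24 LD3_c32)) = (LP (LK LD1_c3 LD2_c41 LD3_c55)) :=
  Lre_c IH (LK LD1_c7 LD2_c24 LD3_c32) (LK LD1_c3 LD2_c41 LD3_c55) Lrfl Lrfl
theorem f483587 : Led Lsl_gt (LP (LK LD1_c3 LD2_c41 LD3_c55)) = (LP (LK LD1_c7 LD2_c24 LD3_c33)) :=
  Lre_g IH (LK LD1_c3 LD2_c41 LD3_c55) (LK LD1_c7 LD2_c24 LD3_c33) Lrfl Lrfl
theorem f527348 : Led Lsl_cf (LP (LK LD1_c7 LD2_c18 LD3_c41)) = (LP (LK LD1_c7 LD2_c24 LD3_c33)) :=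
  Lgr Lrot99 (Lpe (f486029 IH) (Lpe (f486033 IH) (Lpr_gf (f527279 IH) (Lpe (f102610 IH) (Lpe (f479942 IH) (Lpe (f98760 IH) (Lpr_gt (f527344 IH) (Lpr_ct (f478570 IH) (Lpr_gt (f483587 IH) (Lpn (LP (LK LD1_c7 LD2_c24 LD3_c33))))))))))))
theorem f11868 : Led Lsl_dt (LP (LK LD1_c0 LD2_c52 LD3_c56)) = (LP (LK LD1_c1 LD2_c52 LD3_c26)) :=
  Lre_d IH (LK LD1_c0 LD2_c52 LD3_c56) (LK LD1_c1 LD2_c52 LD3_c26) Lrfl Lrfl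
theorem f95367 : Led Lsl_gt (LP (LK LD1_c1 LD2_c52 LD3_c25)) = (LP (LK LD1_c0 LD2_c52 LD3_c56)) :=
  Lre_g IH (LK LD1_c1 LD2_c52 LD3_c25) (LK LD1_c0 LD2_c52 LD3_c56) Lrfl Lrfl
theorem f527355 : Led Lsl_dt (LP (LK LD1_c7 LD2_c25 LD3_c35)) = (LP (LK LD1_c7 LD2_c24 LD3_c33)) :=
  Lgr Lrot105 (Lpe (f440584 IH) (Lpe (f425211 IH) (Lpr_gf (f527268 IH) (Lpe (f527269 IH) (Lpr_gt (f95367 IH) (Lpr_dt (f11868 IH) (Lpr_gt (K29.f11869 IH) (Lpr_dt (f486029 IH) (Lpr_cf (f527348 IH) (Lpn (LP (LK LD1_c7 LD2_c24 LD3_c33))))))))))))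
theorem f527359 : Led Lsl_df (LP (LK LD1_c7 LD2_c25 LD3_c35)) = (LP (LK LD1_c7 LD2_c24 LD3_c33)) :=
  Lgr Lrot38 (Lpr_dt (f527355 IH) (Lpn (LP (LK LD1_c7 LD2_c24 LD3_c33))))
theorem f527351 : Led Lsl_ct (LP (LK LD1_c7 LD2_c18 LD3_c41)) = (LP (LK LD1_c7 LD2_c24 LD3_c33)) :=
  Lgr Lrot59 (Lpr_cf (f527348 IH) (Lpn (LP (LK LD1_c7 LD2_c24 LD3_c33))))
theorem f455687 : Led Lsl_gt (LP (LK LD1_c3 LD2_c39 LD3_c11)) = (LP (LK LD1_c1 LD2_c46 LD3_c32)) :=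
  Lre_g IH (LK LD1_c3 LD2_c39 LD3_c11) (LK LD1_c1 LD2_c46 LD3_c32) Lrfl Lrfl
def v906 : LQ := Led Lsl_gf (LP (LK LD1_c0 LD2_c53 LD3_c59))
theorem f490380 : Led Lsl_gf (LP (LK LD1_c0 LD2_c53 LD3_c59)) = v906 :=
  Lrfl
theorem f532602 : Led Lsl_df (LP (LK LD1_c3 LD2_c39 LD3_c11)) = v906 :=
  Lgr Lrot155 (Lpr_gt (f455687 IH) (Lpr_ct (K30.f455689 IH) (Lpr_gt (f455949 IH) (Lpr_ct (f527351 IH) (Lpe (f527359 IH) (Lpr_cf (f532593 IH) (Lpe (f17195 IH) (Lpe (f17269 IH) (Lpr_gf (f490380 IH) (Lpn v906))))))))))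
theorem f519439 : Led Lsl_ct (LP (LK LD1_c3 LD2_c39 LD3_c11)) = (LP (LK LD1_c7 LD2_c18 LD3_c45)) :=
  Lre_c IH (LK LD1_c3 LD2_c39 LD3_c11) (LK LD1_c7 LD2_c18 LD3_c45) Lrfl Lrfl
theorem f532605 : Led Lsl_dt (LP (LK LD1_c13 LD2_c50 LD3_c6)) = (LP (LK LD1_c7 LD2_c18 LD3_c45)) :=
  Lre_d IH (LK LD1_c13 LD2_c50 LD3_c6) (LK LD1_c7 LD2_c18 LD3_c45) Lrfl Lrfl
def v2746 : LQ := Led Lsl_ft (LP (LK LD1_c1 LD2_c54 LD3_c34))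
theorem f531724 : Led Lsl_ft (LP (LK LD1_c1 LD2_c54 LD3_c34)) = v2746 :=
  Lrfl
theorem f531727 : Led Lsl_ff (LP (LK LD1_c1 LD2_c54 LD3_c34)) = v2746 :=
  Lgr Lrot3 (Lpr_ft (f531724 IH) (Lpn v2746))
theorem f531732 : Led Lsl_gf v906 = v2746 :=
  Lgr Lrot47 (Lpe (f490380 IH) (Lpe (K24.f14922 IH) (Lpr_ff (f531727 IH) (Lpn v2746))))
theorem f14849 : Led Lsl_ft (LP (LK LD1_c0 LD2_c53 LD3_c56)) = (LP (LK LD1_c1 LD2_c54 LD3_c35)) :=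
  Lre_f IH (LK LD1_c0 LD2_c53 LD3_c56) (LK LD1_c1 LD2_c54 LD3_c35) Lrfl Lrfl
theorem f531731 : Led Lsl_dt (LP (LK LD1_c1 LD2_c54 LD3_c35)) = v2746 :=
  Lgr Lrot60 (Lpe (f14849 IH) (Lpe (K24.f14909 IH) (Lpr_ff (f531727 IH) (Lpn v2746))))
theorem f532606 : Led Lsl_gf (LP (LK LD1_c13 LD2_c50 LD3_c6)) = (LP (LK LD1_c7 LD2_c53 LD3_c30)) :=
  Lgr Lrot143 (Lpr_dt (f532605 IH) (Lpe (f519439 IH) (Lpr_df (f532602 IH) (Lpr_gf (f531732 IH) (Lpe (f531731 IH) (Lpe (K29.f14858 IH) (Lpe (K29.f457722 IH) (Lpr_gt (f452058 IH) (Lpr_dt (f457764 IH) (Lpn (LP (LK LD1_c7 LD2_c53 LD3_c30))))))))))))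
theorem f532607 : Led Lsl_gt (LP (LK LD1_c7 LD2_c53 LD3_c30)) = (LP (LK LD1_c13 LD2_c50 LD3_c6)) :=
  Leop (Lpr_gf (f532606 IH) (Lpn (LP (LK LD1_c7 LD2_c53 LD3_c30))))
theorem seed_233 : LEOK LG_g (LK LD1_c7 LD2_c53 LD3_c30) :=
  Leoe_g (LK LD1_c7 LD2_c53 LD3_c30) (f532607 IH)
theorem f123499 : Led Lsl_ct (LP (LK LD1_c7 LD2_c40 LD3_c55)) = (LP (LK LD1_c3 LD2_c49 LD3_c61)) :=
  Lre_c IH (LK LD1_c7 LD2_c40 LD3_c55) (LK LD1_c3 LD2_c49 LD3_c61) Lrfl Lrfl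
theorem f203620 : Led Lsl_ft (LP (LK LD1_c7 LD2_c51 LD3_c13)) = (LP (LK LD1_c7 LD2_c49 LD3_c21)) :=
  Lgr Lrot4 (Lpe (K28.f142733 IH) (Lpr_ff (K28.f203616 IH) (Lpe (K6.f142509 IH) (Lpn (LP (LK LD1_c7 LD2_c49 LD3_c21))))))
theorem f203665 : Led Lsl_af (LP (LK LD1_c7 LD2_c51 LD3_c13)) = (LP (LK LD1_c7 LD2_c49 LD3_c21)) :=
  Lgr Lrot31 (Lpe (K28.f203637 IH) (Lpr_gf (K28.f203663 IH) (Lpr_ft (f203620 IH) (Lpn (LP (LK LD1_c7 LD2_c49 LD3_c21))))))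
theorem f203973 : Led Lsl_et (LP (LK LD1_c7 LD2_c51 LD3_c13)) = (LP (LK LD1_c14 LD2_c48 LD3_c51)) :=
  Lre_e IH (LK LD1_c7 LD2_c51 LD3_c13) (LK LD1_c14 LD2_c48 LD3_c51) Lrfl Lrfl
theorem f142505 : Led Lsl_et (LP (LK LD1_c14 LD2_c45 LD3_c38)) = (LP (LK LD1_c7 LD2_c49 LD3_c21)) :=
  Lre_e IH (LK LD1_c14 LD2_c45 LD3_c38) (LK LD1_c7 LD2_c49 LD3_c21) Lrfl Lrfl
theorem f203974 : Led Lsl_at (LP (LK LD1_c14 LD2_c48 LD3_c51)) = (LP (LK LD1_c14 LD2_c45 LD3_c38)) :=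
  Lgr Lrot80 (Lpe (f203973 IH) (Lpr_af (f203665 IH) (Lpe (f142505 IH) (Lpn (LP (LK LD1_c14 LD2_c45 LD3_c38))))))
theorem f203978 : Led Lsl_ct (LP (LK LD1_c7 LD2_c51 LD3_c14)) = (LP (LK LD1_c14 LD2_c48 LD3_c51)) :=
  Lre_c IH (LK LD1_c7 LD2_c51 LD3_c14) (LK LD1_c14 LD2_c48 LD3_c51) Lrfl Lrfl
theorem f142491 : Led Lsl_ct (LP (LK LD1_c14 LD2_c45 LD3_c38)) = (LP (LK LD1_c7 LD2_c49 LD3_c22)) :=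
  Lre_c IH (LK LD1_c14 LD2_c45 LD3_c38) (LK LD1_c7 LD2_c49 LD3_c22) Lrfl Lrfl
theorem f203979 : Led Lsl_af (LP (LK LD1_c7 LD2_c51 LD3_c14)) = (LP (LK LD1_c7 LD2_c49 LD3_c22)) :=
  Lgr Lrot68 (Lpr_ct (f203978 IH) (Lpr_at (f203974 IH) (Lpr_ct (f142491 IH) (Lpn (LP (LK LD1_c7 LD2_c49 LD3_c22))))))
theorem f142485 : Led Lsl_et (LP (LK LD1_c3 LD2_c53 LD3_c54)) = (LP (LK LD1_c7 LD2_c49 LD3_c22)) :=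
  Lre_e IH (LK LD1_c3 LD2_c53 LD3_c54) (LK LD1_c7 LD2_c49 LD3_c22) Lrfl Lrfl
theorem f142487 : Led Lsl_bt (LP (LK LD1_c7 LD2_c49 LD3_c22)) = (LP (LK LD1_c14 LD2_c18 LD3_c58)) :=
  Lgr Lrot119 (Lpe (f142485 IH) (Lpr_bf (K6.f142477 IH) (Lpe (K6.f142486 IH) (Lpn (LP (LK LD1_c14 LD2_c18 LD3_c58))))))
theorem f142489 : Led Lsl_bf (LP (LK LD1_c7 LD2_c49 LD3_c22)) = (LP (LK LD1_c14 LD2_c18 LD3_c58)) :=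
  Lgr Lrot24 (Lpr_bt (f142487 IH) (Lpn (LP (LK LD1_c14 LD2_c18 LD3_c58))))
theorem f144814 : Led Lsl_at (LP (LK LD1_c7 LD2_c35 LD3_c34)) = (LP (LK LD1_c3 LD2_c49 LD3_c59)) :=
  Lgr Lrot100 (Lpr_af (K7.f144812 IH) (Lpn (LP (LK LD1_c3 LD2_c49 LD3_c59))))
theorem f123468 : Led Lsl_et (LP (LK LD1_c14 LD2_c18 LD3_c55)) = (LP (LK LD1_c7 LD2_c35 LD3_c34)) :=
  Lre_e IH (LK LD1_c14 LD2_c18 LD3_c55) (LK LD1_c7 LD2_c35 LD3_c34) Lrfl Lrfl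
theorem f144824 : Led Lsl_et (LP (LK LD1_c3 LD2_c49 LD3_c59)) = (LP (LK LD1_c7 LD2_c40 LD3_c55)) :=
  Lre_e IH (LK LD1_c3 LD2_c49 LD3_c59) (LK LD1_c7 LD2_c40 LD3_c55) Lrfl Lrfl
theorem f144825 : Led Lsl_af (LP (LK LD1_c14 LD2_c18 LD3_c55)) = (LP (LK LD1_c7 LD2_c40 LD3_c55)) :=
  Lgr Lrot50 (Lpr_et (f123468 IH) (Lpr_at (f144814 IH) (Lpr_et (f144824 IH) (Lpn (LP (LK LD1_c7 LD2_c40 LD3_c55))))))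
theorem f203982 : Led Lsl_bt (LP (LK LD1_c7 LD2_c51 LD3_c14)) = (LP (LK LD1_c7 LD2_c40 LD3_c55)) :=
  Lgr Lrot62 (Lpr_af (f203979 IH) (Lpr_bf (f142489 IH) (Lpe (K6.f145081 IH) (Lpe (K6.f144877 IH) (Lpr_af (f144825 IH) (Lpn (LP (LK LD1_c7 LD2_c40 LD3_c55))))))))
theorem f203989 : Led Lsl_bf (LP (LK LD1_c7 LD2_c51 LD3_c14)) = (LP (LK LD1_c7 LD2_c40 LD3_c55)) :=
  Lgr Lrot24 (Lpr_bt (f203982 IH) (Lpn (LP (LK LD1_c7 LD2_c40 LD3_c55))))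
theorem f532604 : Led Lsl_dt (LP (LK LD1_c7 LD2_c18 LD3_c45)) = (LP (LK LD1_c13 LD2_c50 LD3_c6)) :=
  Lre_d IH (LK LD1_c7 LD2_c18 LD3_c45) (LK LD1_c13 LD2_c50 LD3_c6) Lrfl Lrfl
theorem f473350 : Led Lsl_et (LP (LK LD1_c3 LD2_c55 LD3_c55)) = (LP (LK LD1_c3 LD2_c27 LD3_c35)) :=
  Lgr Lrot69 (Lpr_ff (f471911 IH) (Lpe (K8.f102543 IH) (Lpe (K28.f124355 IH) (Lpe (K28.f95919 IH) (Lpr_ff (K28.f473291 IH) (Lpn (LP (LK LD1_c3 LD2_c27 LD3_c35))))))))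
theorem f532616 : Led Lsl_et (LP (LK LD1_c7 LD2_c18 LD3_c45)) = (LP (LK LD1_c6 LD2_c51 LD3_c38)) :=
  Lgr Lrot121 (Lpr_dt (f532604 IH) (Lpr_gf (f532606 IH) (Lpe (f457764 IH) (Lpr_et (f473350 IH) (Lpe (K28.f16745 IH) (Lpe (K28.f91999 IH) (Lpr_dt (K28.f91987 IH) (Lpe (K28.f91990 IH) (Lpe (K28.f91991 IH) (Lpe (K28.f15812 IH) (Lpn (LP (LK LD1_c6 LD2_c51 LD3_c38)))))))))))))
theorem f532626 : Led Lsl_ef (LP (LK LD1_c7 LD2_c18 LD3_c45)) = (LP (LK LD1_c6 LD2_c51 LD3_c38)) :=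
  Lgr Lrot88 (Lpr_et (f532616 IH) (Lpn (LP (LK LD1_c6 LD2_c51 LD3_c38))))
theorem f519440 : Led Lsl_ct (LP (LK LD1_c7 LD2_c18 LD3_c45)) = (LP (LK LD1_c3 LD2_c39 LD3_c11)) :=
  Lre_c IH (LK LD1_c7 LD2_c18 LD3_c45) (LK LD1_c3 LD2_c39 LD3_c11) Lrfl Lrfl
theorem f532630 : Led Lsl_et (LP (LK LD1_c3 LD2_c39 LD3_c11)) = (LP (LK LD1_c3 LD2_c24 LD3_c30)) :=
  Lgr Lrot158 (Lpe (f519440 IH) (Lpr_ef (f532626 IH) (Lpe (K28.f15811 IH) (Lpn (LP (LK LD1_c3 LD2_c24 LD3_c30))))))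
theorem f473461 : Led Lsl_et (LP (LK LD1_c3 LD2_c35 LD3_c32)) = (LP (LK LD1_c7 LD2_c11 LD3_c55)) :=
  Lre_e IH (LK LD1_c3 LD2_c35 LD3_c32) (LK LD1_c7 LD2_c11 LD3_c55) Lrfl Lrfl
theorem f532646 : Led Lsl_bf (LP (LK LD1_c3 LD2_c39 LD3_c11)) = (LP (LK LD1_c7 LD2_c11 LD3_c55)) :=
  Lgr Lrot96 (Lpr_et (f532630 IH) (Lpr_bt (K33.f473458 IH) (Lpr_et (f473461 IH) (Lpn (LP (LK LD1_c7 LD2_c11 LD3_c55))))))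
theorem f532608 : Led Lsl_bt (LP (LK LD1_c7 LD2_c18 LD3_c45)) = (LP (LK LD1_c13 LD2_c50 LD3_c5)) :=
  Lre_b IH (LK LD1_c7 LD2_c18 LD3_c45) (LK LD1_c13 LD2_c50 LD3_c5) Lrfl Lrfl
theorem f473468 : Led Lsl_cf (LP (LK LD1_c7 LD2_c22 LD3_c3)) = (LP (LK LD1_c7 LD2_c11 LD3_c55)) :=
  Lgr Lrot39 (Lpr_et (K28.f142362 IH) (Lpr_ct (K33.f473464 IH) (Lpr_et (f473461 IH) (Lpn (LP (LK LD1_c7 LD2_c11 LD3_c55))))))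
theorem f473498 : Led Lsl_ct (LP (LK LD1_c7 LD2_c22 LD3_c3)) = (LP (LK LD1_c7 LD2_c11 LD3_c55)) :=
  Lgr Lrot59 (Lpr_cf (f473468 IH) (Lpn (LP (LK LD1_c7 LD2_c11 LD3_c55))))
theorem f142369 : Led Lsl_bt (LP (LK LD1_c13 LD2_c55 LD3_c58)) = (LP (LK LD1_c7 LD2_c22 LD3_c3)) :=
  Lre_b IH (LK LD1_c13 LD2_c55 LD3_c58) (LK LD1_c7 LD2_c22 LD3_c3) Lrfl Lrfl
theorem f532650 : Led Lsl_ct (LP (LK LD1_c13 LD2_c50 LD3_c5)) = (LP (LK LD1_c13 LD2_c55 LD3_c58)) :=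
  Lgr Lrot83 (Lpe (f532608 IH) (Lpe (f519439 IH) (Lpr_bf (f532646 IH) (Lpe (f473498 IH) (Lpe (f142369 IH) (Lpn (LP (LK LD1_c13 LD2_c55 LD3_c58))))))))
theorem f532652 : Led Lsl_cf (LP (LK LD1_c13 LD2_c50 LD3_c5)) = (LP (LK LD1_c13 LD2_c55 LD3_c58)) :=
  Lgr Lrot11 (Lpr_ct (f532650 IH) (Lpn (LP (LK LD1_c13 LD2_c55 LD3_c58))))
theorem f464774 : Led Lsl_dt (LP (LK LD1_c3 LD2_c27 LD3_c43)) = (LP (LK LD1_c6 LD2_c57 LD3_c37)) :=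
  Lre_d IH (LK LD1_c3 LD2_c27 LD3_c43) (LK LD1_c6 LD2_c57 LD3_c37) Lrfl Lrfl
theorem f464776 : Led Lsl_et (LP (LK LD1_c6 LD2_c57 LD3_c38)) = (LP (LK LD1_c3 LD2_c27 LD3_c43)) :=
  Lre_e IH (LK LD1_c6 LD2_c57 LD3_c38) (LK LD1_c3 LD2_c27 LD3_c43) Lrfl Lrfl
theorem f491751 : Led Lsl_df (LP (LK LD1_c6 LD2_c57 LD3_c38)) = (LP (LK LD1_c7 LD2_c9 LD3_c13)) :=
  Lgr Lrot70 (Lpr_et (f464776 IH) (Lpr_dt (f464774 IH) (Lpr_et (K32.f491743 IH) (Lpr_dt (K32.f128087 IH) (Lpr_et (K33.f482585 IH) (Lpn (LP (LK LD1_c7 LD2_c9 LD3_c13))))))))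
theorem f493316 : Led Lsl_dt (LP (LK LD1_c6 LD2_c57 LD3_c38)) = (LP (LK LD1_c7 LD2_c9 LD3_c13)) :=
  Lgr Lrot42 (Lpr_df (f491751 IH) (Lpn (LP (LK LD1_c7 LD2_c9 LD3_c13))))
theorem f485170 : Led Lsl_cf (LP (LK LD1_c7 LD2_c50 LD3_c50)) = (LP (LK LD1_c7 LD2_c9 LD3_c13)) :=
  Lgr Lrot166 (Lpr_gt (K33.f148252 IH) (Lpr_dt (K33.f148254 IH) (Lpr_gt (K33.f485164 IH) (Lpr_dt (K33.f12790 IH) (Lpr_ct (K4.f12778 IH) (Lpr_df (K29.f102704 IH) (Lpr_gf (K33.f482590 IH) (Lpr_df (K33.f93132 IH) (Lpe (K32.f93144 IH) (Lpn (LP (LK LD1_c7 LD2_c9 LD3_c13))))))))))))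
theorem f452037 : Led Lsl_ct (LP (LK LD1_c1 LD2_c54 LD3_c61)) = (LP (LK LD1_c3 LD2_c56 LD3_c33)) :=
  Lre_c IH (LK LD1_c1 LD2_c54 LD3_c61) (LK LD1_c3 LD2_c56 LD3_c33) Lrfl Lrfl
theorem f483557 : Led Lsl_ct (LP (LK LD1_c3 LD2_c41 LD3_c49)) = (LP (LK LD1_c7 LD2_c24 LD3_c22)) :=
  Lre_c IH (LK LD1_c3 LD2_c41 LD3_c49) (LK LD1_c7 LD2_c24 LD3_c22) Lrfl Lrfl
theorem f467385 : Led Lsl_gt (LP (LK LD1_c7 LD2_c24 LD3_c21)) = (LP (LK LD1_c3 LD2_c41 LD3_c49)) :=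
  Lre_g IH (LK LD1_c7 LD2_c24 LD3_c21) (LK LD1_c3 LD2_c41 LD3_c49) Lrfl Lrfl
theorem f490446 : Led Lsl_df (LP (LK LD1_c7 LD2_c50 LD3_c50)) = (LP (LK LD1_c7 LD2_c24 LD3_c21)) :=
  Lgr Lrot155 (Lpr_gt (K33.f148252 IH) (Lpr_ct (f148243 IH) (Lpr_gt (K29.f490431 IH) (Lpr_ct (f452037 IH) (Lpr_dt (K29.f462945 IH) (Lpe (K29.f462960 IH) (Lpr_gf (K33.f490440 IH) (Lpe (f483557 IH) (Lpe (f467385 IH) (Lpn (LP (LK LD1_c7 LD2_c24 LD3_c21))))))))))))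
theorem f515292 : Led Lsl_gf (LP (LK LD1_c7 LD2_c24 LD3_c21)) = (LP (LK LD1_c3 LD2_c41 LD3_c57)) :=
  Lgr Lrot143 (Lpe (f490446 IH) (Lpr_cf (f485170 IH) (Lpe (f493316 IH) (Lpr_gf (K33.f515290 IH) (Lpe (K33.f515280 IH) (Lpr_gf (f478593 IH) (Lpe (K29.f483522 IH) (Lpe (K29.f483582 IH) (Lpr_dt (f483590 IH) (Lpn (LP (LK LD1_c3 LD2_c41 LD3_c57))))))))))))
theorem f490444 : Led Lsl_dt (LP (LK LD1_c7 LD2_c50 LD3_c50)) = (LP (LK LD1_c7 LD2_c24 LD3_c21)) :=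
  Lgr Lrot6 (Lpr_gt (K33.f148252 IH) (Lpr_ct (f148243 IH) (Lpr_gt (K29.f490431 IH) (Lpr_ct (f452037 IH) (Lpr_df (K29.f462955 IH) (Lpe (K29.f462960 IH) (Lpr_gf (K33.f490440 IH) (Lpe (f483557 IH) (Lpe (f467385 IH) (Lpn (LP (LK LD1_c7 LD2_c24 LD3_c21))))))))))))
theorem f142376 : Led Lsl_et (LP (LK LD1_c3 LD2_c40 LD3_c54)) = (LP (LK LD1_c7 LD2_c22 LD3_c3)) :=
  Lre_e IH (LK LD1_c3 LD2_c40 LD3_c54) (LK LD1_c7 LD2_c22 LD3_c3) Lrfl Lrfl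
theorem f519251 : Led Lsl_gt (LP (LK LD1_c7 LD2_c22 LD3_c3)) = (LP (LK LD1_c3 LD2_c41 LD3_c58)) :=
  Lgr Lrot131 (Lpe (f142376 IH) (Lpr_dt (K32.f142403 IH) (Lpe (K33.f479618 IH) (Lpe (K29.f458187 IH) (Lpr_gf (K33.f479833 IH) (Lpe (K33.f485175 IH) (Lpr_dt (f490444 IH) (Lpr_gf (f515292 IH) (Lpe (f483590 IH) (Lpr_et (f517609 IH) (Lpn (LP (LK LD1_c3 LD2_c41 LD3_c58)))))))))))))
theorem f483654 : Led Lsl_ct (LP (LK LD1_c3 LD2_c41 LD3_c58)) = (LP (LK LD1_c1 LD2_c47 LD3_c53)) :=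
  Lre_c IH (LK LD1_c3 LD2_c41 LD3_c58) (LK LD1_c1 LD2_c47 LD3_c53) Lrfl Lrfl
theorem f455743 : Led Lsl_ct (LP (LK LD1_c7 LD2_c4 LD3_c42)) = (LP (LK LD1_c3 LD2_c31 LD3_c34)) :=
  Lre_c IH (LK LD1_c7 LD2_c4 LD3_c42) (LK LD1_c3 LD2_c31 LD3_c34) Lrfl Lrfl
theorem f458236 : Led Lsl_bt (LP (LK LD1_c3 LD2_c31 LD3_c47)) = (LP (LK LD1_c3 LD2_c31 LD3_c29)) :=
  Lgr Lrot127 (Lpr_bf (K24.f458228 IH) (Lpn (LP (LK LD1_c3 LD2_c31 LD3_c29))))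
theorem f458937 : Led Lsl_bt (LP (LK LD1_c7 LD2_c4 LD3_c42)) = (LP (LK LD1_c3 LD2_c31 LD3_c31)) :=
  Lgr Lrot35 (Lpe (K29.f458324 IH) (Lpe (f458236 IH) (Lpr_ff (K24.f458927 IH) (Lpn (LP (LK LD1_c3 LD2_c31 LD3_c31))))))
theorem f459198 : Led Lsl_bt (LP (LK LD1_c13 LD2_c25 LD3_c12)) = (LP (LK LD1_c7 LD2_c4 LD3_c44)) :=
  Lre_b IH (LK LD1_c13 LD2_c25 LD3_c12) (LK LD1_c7 LD2_c4 LD3_c44) Lrfl Lrfl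
theorem f521086 : Led Lsl_at (LP (LK LD1_c13 LD2_c13 LD3_c8)) = (LP (LK LD1_c13 LD2_c4 LD3_c3)) :=
  Lgr Lrot100 (Lpr_af (f520950 IH) (Lpn (LP (LK LD1_c13 LD2_c4 LD3_c3))))
theorem f520948 : Led Lsl_af (LP (LK LD1_c3 LD2_c37 LD3_c29)) = (LP (LK LD1_c6 LD2_c52 LD3_c22)) :=
  Lgr Lrot0 (Lpr_at (f520946 IH) (Lpn (LP (LK LD1_c6 LD2_c52 LD3_c22))))
theorem f477679 : Led Lsl_at (LP (LK LD1_c7 LD2_c15 LD3_c17)) = (LP (LK LD1_c12 LD2_c36 LD3_c6)) :=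
  Lgr Lrot100 (Lpr_af (f477535 IH) (Lpn (LP (LK LD1_c12 LD2_c36 LD3_c6))))
theorem f521419 : Led Lsl_bf (LP (LK LD1_c13 LD2_c13 LD3_c8)) = (LP (LK LD1_c12 LD2_c36 LD3_c6)) :=
  Lgr Lrot81 (Lpr_at (f521086 IH) (Lpr_bt (K28.f464595 IH) (Lpe (f520948 IH) (Lpr_bt (K29.f467478 IH) (Lpr_at (f477679 IH) (Lpn (LP (LK LD1_c12 LD2_c36 LD3_c6))))))))
theorem f472576 : Led Lsl_bt (LP (LK LD1_c7 LD2_c4 LD3_c44)) = (LP (LK LD1_c13 LD2_c25 LD3_c12)) :=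
  Lre_b IH (LK LD1_c7 LD2_c4 LD3_c44) (LK LD1_c13 LD2_c25 LD3_c12) Lrfl Lrfl
theorem f521421 : Led Lsl_ct (LP (LK LD1_c13 LD2_c25 LD3_c12)) = (LP (LK LD1_c14 LD2_c42 LD3_c11)) :=
  Lgr Lrot83 (Lpe (f472576 IH) (Lpe (K33.f480251 IH) (Lpr_bf (f521419 IH) (Lpe (K33.f520443 IH) (Lpe (f477410 IH) (Lpn (LP (LK LD1_c14 LD2_c42 LD3_c11))))))))
theorem f532657 : Led Lsl_gf (LP (LK LD1_c13 LD2_c50 LD3_c5)) = (LP (LK LD1_c14 LD2_c42 LD3_c11)) :=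
  Lgr Lrot126 (Lpr_cf (f532652 IH) (Lpr_bt (f142369 IH) (Lpr_gt (f519251 IH) (Lpr_ct (f483654 IH) (Lpr_gt (f527030 IH) (Lpq (f527340 IH) (Lpe (f455743 IH) (Lpr_bt (f458937 IH) (Lpr_gt (K33.f455688 IH) (Lpe (f459198 IH) (Lpr_ct (f521421 IH) (Lpn (LP (LK LD1_c14 LD2_c42 LD3_c11))))))))))))))
theorem f532619 : Led Lsl_bt (LP (LK LD1_c13 LD2_c50 LD3_c5)) = (LP (LK LD1_c7 LD2_c18 LD3_c45)) :=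
  Lre_b IH (LK LD1_c13 LD2_c50 LD3_c5) (LK LD1_c7 LD2_c18 LD3_c45) Lrfl Lrfl
theorem f532620 : Led Lsl_ef (LP (LK LD1_c13 LD2_c50 LD3_c5)) = (LP (LK LD1_c7 LD2_c32 LD3_c15)) :=
  Lgr Lrot29 (Lpr_bt (f532619 IH) (Lpr_et (f532616 IH) (Lpe (K28.f460719 IH) (Lpn (LP (LK LD1_c7 LD2_c32 LD3_c15))))))
theorem f127889 : Led Lsl_dt (LP (LK LD1_c6 LD2_c55 LD3_c23)) = (LP (LK LD1_c13 LD2_c9 LD3_c0)) :=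
  Lre_d IH (LK LD1_c6 LD2_c55 LD3_c23) (LK LD1_c13 LD2_c9 LD3_c0) Lrfl Lrfl
theorem f477724 : Led Lsl_bt (LP (LK LD1_c7 LD2_c3 LD3_c53)) = (LP (LK LD1_c13 LD2_c23 LD3_c35)) :=
  Lre_b IH (LK LD1_c7 LD2_c3 LD3_c53) (LK LD1_c13 LD2_c23 LD3_c35) Lrfl Lrfl
theorem f477725 : Led Lsl_et (LP (LK LD1_c13 LD2_c23 LD3_c35)) = (LP (LK LD1_c14 LD2_c42 LD3_c11)) :=
  Lgr Lrot74 (Lpe (f477724 IH) (Lpr_ef (K33.f477722 IH) (Lpe (f477410 IH) (Lpn (LP (LK LD1_c14 LD2_c42 LD3_c11))))))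
theorem f464026 : Led Lsl_et (LP (LK LD1_c7 LD2_c47 LD3_c33)) = (LP (LK LD1_c3 LD2_c52 LD3_c52)) :=
  Lre_e IH (LK LD1_c7 LD2_c47 LD3_c33) (LK LD1_c3 LD2_c52 LD3_c52) Lrfl Lrfl
theorem f477740 : Led Lsl_et (LP (LK LD1_c7 LD2_c35 LD3_c1)) = (LP (LK LD1_c14 LD2_c17 LD3_c61)) :=
  Lre_e IH (LK LD1_c7 LD2_c35 LD3_c1) (LK LD1_c14 LD2_c17 LD3_c61) Lrfl Lrfl
theorem f477741 : Led Lsl_df (LP (LK LD1_c7 LD2_c47 LD3_c33)) = (LP (LK LD1_c14 LD2_c17 LD3_c61)) :=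
  Lgr Lrot70 (Lpr_et (f464026 IH) (Lpr_dt (K33.f464012 IH) (Lpe (K33.f477722 IH) (Lpr_dt (K33.f477733 IH) (Lpr_et (f477740 IH) (Lpn (LP (LK LD1_c14 LD2_c17 LD3_c61))))))))
theorem f477753 : Led Lsl_ft (LP (LK LD1_c23 LD2_c55 LD3_c50)) = (LP (LK LD1_c14 LD2_c17 LD3_c61)) :=
  Lre_f IH (LK LD1_c23 LD2_c55 LD3_c50) (LK LD1_c14 LD2_c17 LD3_c61) Lrfl Lrfl
theorem f477754 : Led Lsl_dt (LP (LK LD1_c14 LD2_c42 LD3_c17)) = (LP (LK LD1_c23 LD2_c55 LD3_c50)) :=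
  Lgr Lrot60 (Lpe (f477752 IH) (Lpr_df (f477741 IH) (Lpe (f477753 IH) (Lpn (LP (LK LD1_c23 LD2_c55 LD3_c50))))))
theorem f477770 : Led Lsl_df (LP (LK LD1_c14 LD2_c42 LD3_c17)) = (LP (LK LD1_c23 LD2_c55 LD3_c50)) :=
  Lgr Lrot38 (Lpr_dt (f477754 IH) (Lpn (LP (LK LD1_c23 LD2_c55 LD3_c50))))
theorem f477773 : Led Lsl_bt (LP (LK LD1_c14 LD2_c42 LD3_c17)) = (LP (LK LD1_c24 LD2_c27 LD3_c23)) :=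
  Lre_b IH (LK LD1_c14 LD2_c42 LD3_c17) (LK LD1_c24 LD2_c27 LD3_c23) Lrfl Lrfl
theorem f477774 : Led Lsl_bt (LP (LK LD1_c31 LD2_c17 LD3_c16)) = (LP (LK LD1_c23 LD2_c55 LD3_c50)) :=
  Lre_b IH (LK LD1_c31 LD2_c17 LD3_c16) (LK LD1_c23 LD2_c55 LD3_c50) Lrfl Lrfl
theorem f477775 : Led Lsl_dt (LP (LK LD1_c24 LD2_c27 LD3_c23)) = (LP (LK LD1_c31 LD2_c17 LD3_c16)) :=
  Lgr Lrot79 (Lpe (f477773 IH) (Lpr_df (f477770 IH) (Lpe (f477774 IH) (Lpn (LP (LK LD1_c31 LD2_c17 LD3_c16))))))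
theorem f477781 : Led Lsl_ft (LP (LK LD1_c14 LD2_c42 LD3_c12)) = (LP (LK LD1_c24 LD2_c27 LD3_c23)) :=
  Lre_f IH (LK LD1_c14 LD2_c42 LD3_c12) (LK LD1_c24 LD2_c27 LD3_c23) Lrfl Lrfl
theorem f477782 : Led Lsl_ft (LP (LK LD1_c31 LD2_c17 LD3_c16)) = (LP (LK LD1_c23 LD2_c55 LD3_c47)) :=
  Lre_f IH (LK LD1_c31 LD2_c17 LD3_c16) (LK LD1_c23 LD2_c55 LD3_c47) Lrfl Lrfl
theorem f477783 : Led Lsl_df (LP (LK LD1_c14 LD2_c42 LD3_c12)) = (LP (LK LD1_c23 LD2_c55 LD3_c47)) :=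
  Lgr Lrot78 (Lpr_ft (f477781 IH) (Lpr_dt (f477775 IH) (Lpr_ft (f477782 IH) (Lpn (LP (LK LD1_c23 LD2_c55 LD3_c47))))))
theorem f477793 : Led Lsl_et (LP (LK LD1_c14 LD2_c42 LD3_c12)) = (LP (LK LD1_c7 LD2_c47 LD3_c30)) :=
  Lre_e IH (LK LD1_c14 LD2_c42 LD3_c12) (LK LD1_c7 LD2_c47 LD3_c30) Lrfl Lrfl
theorem f477794 : Led Lsl_dt (LP (LK LD1_c7 LD2_c47 LD3_c30)) = (LP (LK LD1_c14 LD2_c42 LD3_c11)) :=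
  Lre_d IH (LK LD1_c7 LD2_c47 LD3_c30) (LK LD1_c14 LD2_c42 LD3_c11) Lrfl Lrfl
theorem f477729 : Led Lsl_bt (LP (LK LD1_c13 LD2_c23 LD3_c35)) = (LP (LK LD1_c7 LD2_c3 LD3_c53)) :=
  Lre_b IH (LK LD1_c13 LD2_c23 LD3_c35) (LK LD1_c7 LD2_c3 LD3_c53) Lrfl Lrfl
theorem f477730 : Led Lsl_bt (LP (LK LD1_c7 LD2_c47 LD3_c32)) = (LP (LK LD1_c14 LD2_c42 LD3_c11)) :=
  Lre_b IH (LK LD1_c7 LD2_c47 LD3_c32) (LK LD1_c14 LD2_c42 LD3_c11) Lrfl Lrfl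
theorem f477731 : Led Lsl_ef (LP (LK LD1_c13 LD2_c23 LD3_c35)) = (LP (LK LD1_c14 LD2_c42 LD3_c11)) :=
  Lgr Lrot29 (Lpr_bt (f477729 IH) (Lpr_et (K33.f477727 IH) (Lpr_bt (f477730 IH) (Lpn (LP (LK LD1_c14 LD2_c42 LD3_c11))))))
theorem f477795 : Led Lsl_et (LP (LK LD1_c14 LD2_c17 LD3_c60)) = (LP (LK LD1_c23 LD2_c55 LD3_c47)) :=
  Lre_e IH (LK LD1_c14 LD2_c17 LD3_c60) (LK LD1_c23 LD2_c55 LD3_c47) Lrfl Lrfl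
theorem f477796 : Led Lsl_dt (LP (LK LD1_c13 LD2_c23 LD3_c35)) = (LP (LK LD1_c14 LD2_c17 LD3_c60)) :=
  Lgr Lrot77 (Lpr_ef (f477731 IH) (Lpe (f477794 IH) (Lpe (f477793 IH) (Lpr_df (f477783 IH) (Lpe (f477795 IH) (Lpn (LP (LK LD1_c14 LD2_c17 LD3_c60))))))))
theorem f532659 : Led Lsl_gt (LP (LK LD1_c13 LD2_c9 LD3_c0)) = (LP (LK LD1_c14 LD2_c17 LD3_c60)) :=
  Lgr Lrot139 (Lpe (f127889 IH) (Lpe (f515569 IH) (Lpr_ef (f516126 IH) (Lpr_dt (f16717 IH) (Lpe (f516135 IH) (Lpe (f123781 IH) (Lpe (f532620 IH) (Lpr_gf (f532657 IH) (Lpe (f477725 IH) (Lpr_dt (f477796 IH) (Lpn (LP (LK LD1_c14 LD2_c17 LD3_c60)))))))))))))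
theorem f142290 : Led Lsl_et (LP (LK LD1_c3 LD2_c44 LD3_c18)) = (LP (LK LD1_c1 LD2_c49 LD3_c10)) :=
  Lre_e IH (LK LD1_c3 LD2_c44 LD3_c18) (LK LD1_c1 LD2_c49 LD3_c10) Lrfl Lrfl
theorem f522310 : Led Lsl_et (LP (LK LD1_c3 LD2_c25 LD3_c60)) = (LP (LK LD1_c6 LD2_c53 LD3_c52)) :=
  Lre_e IH (LK LD1_c3 LD2_c25 LD3_c60) (LK LD1_c6 LD2_c53 LD3_c52) Lrfl Lrfl
theorem f522869 : Led Lsl_cf (LP (LK LD1_c3 LD2_c44 LD3_c18)) = (LP (LK LD1_c6 LD2_c53 LD3_c52)) :=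
  Lgr Lrot39 (Lpr_et (f142290 IH) (Lpr_ct (f522862 IH) (Lpr_et (f522310 IH) (Lpn (LP (LK LD1_c6 LD2_c53 LD3_c52))))))
theorem f514851 : Led Lsl_et (LP (LK LD1_c3 LD2_c39 LD3_c44)) = (LP (LK LD1_c1 LD2_c46 LD3_c46)) :=
  Lre_e IH (LK LD1_c3 LD2_c39 LD3_c44) (LK LD1_c1 LD2_c46 LD3_c46) Lrfl Lrfl
theorem f522311 : Led Lsl_at (LP (LK LD1_c6 LD2_c53 LD3_c52)) = (LP (LK LD1_c3 LD2_c39 LD3_c44)) :=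
  Lgr Lrot80 (Lpe (f522310 IH) (Lpr_af (f522304 IH) (Lpe (f514851 IH) (Lpn (LP (LK LD1_c3 LD2_c39 LD3_c44))))))
theorem f491759 : Led Lsl_gt (LP (LK LD1_c6 LD2_c57 LD3_c37)) = (LP (LK LD1_c6 LD2_c55 LD3_c17)) :=
  Lgr Lrot49 (Lpe (f464774 IH) (Lpr_gf (K32.f491755 IH) (Lpe (K33.f451258 IH) (Lpe (K28.f451833 IH) (Lpr_dt (K33.f11372 IH) (Lpr_gt (K33.f451880 IH) (Lpr_dt (K33.f480056 IH) (Lpe (K28.f464589 IH) (Lpe (f479646 IH) (Lpn (LP (LK LD1_c6 LD2_c55 LD3_c17))))))))))))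
theorem f464771 : Led Lsl_ft (LP (LK LD1_c6 LD2_c57 LD3_c37)) = (LP (LK LD1_c7 LD2_c45 LD3_c44)) :=
  Lgr Lrot48 (Lpr_ff (K32.f464759 IH) (Lpn (LP (LK LD1_c7 LD2_c45 LD3_c44))))
theorem f491738 : Led Lsl_ef (LP (LK LD1_c6 LD2_c57 LD3_c37)) = (LP (LK LD1_c3 LD2_c51 LD3_c57)) :=
  Lgr Lrot21 (Lpr_ft (f464771 IH) (Lpr_et (K33.f482585 IH) (Lpr_ft (K32.f491736 IH) (Lpr_et (f464776 IH) (Lpr_ft (K32.f464769 IH) (Lpn (LP (LK LD1_c3 LD2_c51 LD3_c57))))))))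
theorem f463422 : Led Lsl_et (LP (LK LD1_c3 LD2_c24 LD3_c53)) = (LP (LK LD1_c6 LD2_c52 LD3_c15)) :=
  Lre_e IH (LK LD1_c3 LD2_c24 LD3_c53) (LK LD1_c6 LD2_c52 LD3_c15) Lrfl Lrfl
theorem f463415 : Led Lsl_gt (LP (LK LD1_c6 LD2_c52 LD3_c15)) = (LP (LK LD1_c13 LD2_c4 LD3_c4)) :=
  Lre_g IH (LK LD1_c6 LD2_c52 LD3_c15) (LK LD1_c13 LD2_c4 LD3_c4) Lrfl Lrfl
theorem f493305 : Led Lsl_et (LP (LK LD1_c13 LD2_c13 LD3_c8)) = (LP (LK LD1_c13 LD2_c4 LD3_c4)) :=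
  Lgr Lrot122 (Lpr_dt (K33.f464665 IH) (Lpe (K33.f469515 IH) (Lpe (K32.f128087 IH) (Lpe (f491738 IH) (Lpr_gt (f491759 IH) (Lpr_dt (f479646 IH) (Lpr_gt (K28.f463406 IH) (Lpe (K28.f463441 IH) (Lpr_et (f463422 IH) (Lpr_gt (f463415 IH) (Lpn (LP (LK LD1_c13 LD2_c4 LD3_c4)))))))))))))
theorem f521090 : Led Lsl_at (LP (LK LD1_c13 LD2_c4 LD3_c4)) = (LP (LK LD1_c7 LD2_c9 LD3_c47)) :=
  Lgr Lrot80 (Lpe (f493305 IH) (Lpr_af (f520950 IH) (Lpr_ef (f466626 IH) (Lpn (LP (LK LD1_c7 LD2_c9 LD3_c47))))))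
theorem f521092 : Led Lsl_af (LP (LK LD1_c13 LD2_c4 LD3_c4)) = (LP (LK LD1_c7 LD2_c9 LD3_c47)) :=
  Lgr Lrot0 (Lpr_at (f521090 IH) (Lpn (LP (LK LD1_c7 LD2_c9 LD3_c47))))
theorem f522315 : Led Lsl_ff (LP (LK LD1_c6 LD2_c53 LD3_c52)) = (LP (LK LD1_c13 LD2_c4 LD3_c4)) :=
  Lgr Lrot30 (Lpr_at (f522311 IH) (Lpe (f522188 IH) (Lpe (f521092 IH) (Lpn (LP (LK LD1_c13 LD2_c4 LD3_c4))))))
theorem f493309 : Led Lsl_ef (LP (LK LD1_c13 LD2_c13 LD3_c8)) = (LP (LK LD1_c13 LD2_c4 LD3_c4)) :=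
  Lgr Lrot88 (Lpr_et (f493305 IH) (Lpn (LP (LK LD1_c13 LD2_c4 LD3_c4))))
theorem f459228 : Led Lsl_et (LP (LK LD1_c1 LD2_c42 LD3_c26)) = (LP (LK LD1_c3 LD2_c31 LD3_c44)) :=
  Lre_e IH (LK LD1_c1 LD2_c42 LD3_c26) (LK LD1_c3 LD2_c31 LD3_c44) Lrfl Lrfl
theorem f455795 : Led Lsl_gt (LP (LK LD1_c3 LD2_c31 LD3_c44)) = (LP (LK LD1_c7 LD2_c5 LD3_c2)) :=
  Lre_g IH (LK LD1_c3 LD2_c31 LD3_c44) (LK LD1_c7 LD2_c5 LD3_c2) Lrfl Lrfl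
theorem f134730 : Led Lsl_et (LP (LK LD1_c1 LD2_c54 LD3_c0)) = (LP (LK LD1_c0 LD2_c53 LD3_c36)) :=
  Lre_e IH (LK LD1_c1 LD2_c54 LD3_c0) (LK LD1_c0 LD2_c53 LD3_c36) Lrfl Lrfl
theorem f134731 : Led Lsl_ft (LP (LK LD1_c3 LD2_c54 LD3_c53)) = (LP (LK LD1_c1 LD2_c54 LD3_c0)) :=
  Lre_f IH (LK LD1_c3 LD2_c54 LD3_c53) (LK LD1_c1 LD2_c54 LD3_c0) Lrfl Lrfl
theorem f134734 : Led Lsl_ef (LP (LK LD1_c3 LD2_c54 LD3_c53)) = (LP (LK LD1_c3 LD2_c53 LD3_c59)) :=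
  Lgr Lrot21 (Lpr_ft (f134731 IH) (Lpr_et (f134730 IH) (Lpr_ft (K5.f134718 IH) (Lpr_et (K33.f134732 IH) (Lpr_ft (K24.f134733 IH) (Lpn (LP (LK LD1_c3 LD2_c53 LD3_c59))))))))
theorem f148178 : Led Lsl_dt (LP (LK LD1_c3 LD2_c53 LD3_c59)) = (LP (LK LD1_c7 LD2_c49 LD3_c35)) :=
  Lre_d IH (LK LD1_c3 LD2_c53 LD3_c59) (LK LD1_c7 LD2_c49 LD3_c35) Lrfl Lrfl
theorem f206268 : Led Lsl_gt (LP (LK LD1_c3 LD2_c54 LD3_c25)) = (LP (LK LD1_c7 LD2_c49 LD3_c35)) :=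
  Lre_g IH (LK LD1_c3 LD2_c54 LD3_c25) (LK LD1_c7 LD2_c49 LD3_c35) Lrfl Lrfl
theorem f472563 : Led Lsl_dt (LP (LK LD1_c7 LD2_c5 LD3_c2)) = (LP (LK LD1_c3 LD2_c54 LD3_c25)) :=
  Lgr Lrot171 (Lpe (f455795 IH) (Lpe (f459228 IH) (Lpr_dt (K32.f458891 IH) (Lpe (K29.f459250 IH) (Lpr_df (K29.f469136 IH) (Lpr_et (K29.f437062 IH) (Lpe (K33.f437634 IH) (Lpr_ef (f134734 IH) (Lpr_dt (f148178 IH) (Lpe (f206268 IH) (Lpn (LP (LK LD1_c3 LD2_c54 LD3_c25)))))))))))))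
theorem f123125 : Led Lsl_gt (LP (LK LD1_c1 LD2_c53 LD3_c48)) = (LP (LK LD1_c3 LD2_c54 LD3_c25)) :=
  Lre_g IH (LK LD1_c1 LD2_c53 LD3_c48) (LK LD1_c3 LD2_c54 LD3_c25) Lrfl Lrfl
theorem f122773 : Led Lsl_dt (LP (LK LD1_c0 LD2_c53 LD3_c28)) = (LP (LK LD1_c1 LD2_c53 LD3_c48)) :=
  Lre_d IH (LK LD1_c0 LD2_c53 LD3_c28) (LK LD1_c1 LD2_c53 LD3_c48) Lrfl Lrfl
theorem f472574 : Led Lsl_et (LP (LK LD1_c7 LD2_c5 LD3_c2)) = (LP (LK LD1_c7 LD2_c4 LD3_c44)) :=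
  Lgr Lrot121 (Lpr_dt (f472563 IH) (Lpe (f123125 IH) (Lpe (f122773 IH) (Lpr_et (K6.f122755 IH) (Lpe (K6.f21101 IH) (Lpe (K28.f134741 IH) (Lpr_dt (K8.f134742 IH) (Lpe (K28.f159942 IH) (Lpe (K28.f463519 IH) (Lpr_gf (K33.f458943 IH) (Lpn (LP (LK LD1_c7 LD2_c4 LD3_c44)))))))))))))
theorem f472579 : Led Lsl_ef (LP (LK LD1_c7 LD2_c5 LD3_c2)) = (LP (LK LD1_c7 LD2_c4 LD3_c44)) :=
  Lgr Lrot88 (Lpr_et (f472574 IH) (Lpn (LP (LK LD1_c7 LD2_c4 LD3_c44))))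
theorem f493311 : Led Lsl_ct (LP (LK LD1_c7 LD2_c5 LD3_c2)) = (LP (LK LD1_c13 LD2_c4 LD3_c4)) :=
  Lgr Lrot15 (Lpr_ef (f472579 IH) (Lpe (K33.f480251 IH) (Lpr_ef (f493309 IH) (Lpn (LP (LK LD1_c13 LD2_c4 LD3_c4))))))
theorem f522875 : Led Lsl_ft (LP (LK LD1_c3 LD2_c44 LD3_c18)) = (LP (LK LD1_c7 LD2_c5 LD3_c2)) :=
  Lgr Lrot4 (Lpr_cf (f522869 IH) (Lpr_ff (f522315 IH) (Lpe (f493311 IH) (Lpn (LP (LK LD1_c7 LD2_c5 LD3_c2))))))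
theorem f522883 : Led Lsl_ff (LP (LK LD1_c3 LD2_c44 LD3_c18)) = (LP (LK LD1_c7 LD2_c5 LD3_c2)) :=
  Lgr Lrot3 (Lpr_ft (f522875 IH) (Lpn (LP (LK LD1_c7 LD2_c5 LD3_c2))))
theorem f142291 : Led Lsl_dt (LP (LK LD1_c3 LD2_c44 LD3_c18)) = (LP (LK LD1_c7 LD2_c29 LD3_c37)) :=
  Lre_d IH (LK LD1_c3 LD2_c44 LD3_c18) (LK LD1_c7 LD2_c29 LD3_c37) Lrfl Lrfl
theorem f472569 : Led Lsl_df (LP (LK LD1_c7 LD2_c5 LD3_c2)) = (LP (LK LD1_c3 LD2_c54 LD3_c25)) :=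
  Lgr Lrot38 (Lpr_dt (f472563 IH) (Lpn (LP (LK LD1_c3 LD2_c54 LD3_c25))))
theorem f522887 : Led Lsl_ft (LP (LK LD1_c7 LD2_c29 LD3_c37)) = (LP (LK LD1_c3 LD2_c54 LD3_c25)) :=
  Lgr Lrot54 (Lpe (f142291 IH) (Lpr_ff (f522883 IH) (Lpr_df (f472569 IH) (Lpn (LP (LK LD1_c3 LD2_c54 LD3_c25))))))
theorem f142305 : Led Lsl_bt (LP (LK LD1_c14 LD2_c8 LD3_c59)) = (LP (LK LD1_c7 LD2_c29 LD3_c37)) :=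
  Lre_b IH (LK LD1_c14 LD2_c8 LD3_c59) (LK LD1_c7 LD2_c29 LD3_c37) Lrfl Lrfl
theorem f472566 : Led Lsl_bt (LP (LK LD1_c3 LD2_c54 LD3_c25)) = (LP (LK LD1_c7 LD2_c50 LD3_c28)) :=
  Lre_b IH (LK LD1_c3 LD2_c54 LD3_c25) (LK LD1_c7 LD2_c50 LD3_c28) Lrfl Lrfl
theorem f522889 : Led Lsl_ff (LP (LK LD1_c14 LD2_c8 LD3_c59)) = (LP (LK LD1_c7 LD2_c50 LD3_c28)) :=
  Lgr Lrot25 (Lpr_bt (f142305 IH) (Lpr_ft (f522887 IH) (Lpr_bt (f472566 IH) (Lpn (LP (LK LD1_c7 LD2_c50 LD3_c28))))))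
theorem f523065 : Led Lsl_ft (LP (LK LD1_c14 LD2_c8 LD3_c59)) = (LP (LK LD1_c7 LD2_c50 LD3_c28)) :=
  Lgr Lrot48 (Lpr_ff (f522889 IH) (Lpn (LP (LK LD1_c7 LD2_c50 LD3_c28))))
theorem f485505 : Led Lsl_dt (LP (LK LD1_c14 LD2_c8 LD3_c59)) = (LP (LK LD1_c7 LD2_c29 LD3_c34)) :=
  Lre_d IH (LK LD1_c14 LD2_c8 LD3_c59) (LK LD1_c7 LD2_c29 LD3_c34) Lrfl Lrfl
theorem f472603 : Led Lsl_at (LP (LK LD1_c7 LD2_c50 LD3_c28)) = (LP (LK LD1_c14 LD2_c47 LD3_c33)) :=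
  Lre_a IH (LK LD1_c7 LD2_c50 LD3_c28) (LK LD1_c14 LD2_c47 LD3_c33) Lrfl Lrfl
theorem f472610 : Led Lsl_ct (LP (LK LD1_c24 LD2_c34 LD3_c0)) = (LP (LK LD1_c14 LD2_c47 LD3_c33)) :=
  Lre_c IH (LK LD1_c24 LD2_c34 LD3_c0) (LK LD1_c14 LD2_c47 LD3_c33) Lrfl Lrfl
theorem f472581 : Led Lsl_bt (LP (LK LD1_c7 LD2_c5 LD3_c2)) = (LP (LK LD1_c13 LD2_c25 LD3_c52)) :=
  Lre_b IH (LK LD1_c7 LD2_c5 LD3_c2) (LK LD1_c13 LD2_c25 LD3_c52) Lrfl Lrfl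
theorem f472582 : Led Lsl_et (LP (LK LD1_c13 LD2_c25 LD3_c52)) = (LP (LK LD1_c13 LD2_c25 LD3_c12)) :=
  Lgr Lrot74 (Lpe (f472581 IH) (Lpr_ef (f472579 IH) (Lpe (f459198 IH) (Lpn (LP (LK LD1_c13 LD2_c25 LD3_c12))))))
theorem f521427 : Led Lsl_cf (LP (LK LD1_c13 LD2_c25 LD3_c52)) = (LP (LK LD1_c13 LD2_c23 LD3_c35)) :=
  Lgr Lrot39 (Lpr_et (f472582 IH) (Lpr_ct (f521421 IH) (Lpe (f477731 IH) (Lpn (LP (LK LD1_c13 LD2_c23 LD3_c35))))))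
theorem f123129 : Led Lsl_bt (LP (LK LD1_c7 LD2_c50 LD3_c28)) = (LP (LK LD1_c3 LD2_c54 LD3_c25)) :=
  Lre_b IH (LK LD1_c7 LD2_c50 LD3_c28) (LK LD1_c3 LD2_c54 LD3_c25) Lrfl Lrfl
theorem f472594 : Led Lsl_dt (LP (LK LD1_c13 LD2_c25 LD3_c52)) = (LP (LK LD1_c7 LD2_c50 LD3_c28)) :=
  Lgr Lrot79 (Lpe (f472581 IH) (Lpr_df (f472569 IH) (Lpe (f123129 IH) (Lpn (LP (LK LD1_c7 LD2_c50 LD3_c28))))))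
theorem f123130 : Led Lsl_ct (LP (LK LD1_c7 LD2_c50 LD3_c28)) = (LP (LK LD1_c14 LD2_c47 LD3_c34)) :=
  Lre_c IH (LK LD1_c7 LD2_c50 LD3_c28) (LK LD1_c14 LD2_c47 LD3_c34) Lrfl Lrfl
theorem f472606 : Led Lsl_dt (LP (LK LD1_c14 LD2_c47 LD3_c34)) = (LP (LK LD1_c24 LD2_c34 LD3_c4)) :=
  Lre_d IH (LK LD1_c14 LD2_c47 LD3_c34) (LK LD1_c24 LD2_c34 LD3_c4) Lrfl Lrfl
theorem f477735 : Led Lsl_bt (LP (LK LD1_c7 LD2_c35 LD3_c1)) = (LP (LK LD1_c14 LD2_c17 LD3_c60)) :=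
  Lre_b IH (LK LD1_c7 LD2_c35 LD3_c1) (LK LD1_c14 LD2_c17 LD3_c60) Lrfl Lrfl
theorem f477736 : Led Lsl_df (LP (LK LD1_c13 LD2_c23 LD3_c35)) = (LP (LK LD1_c14 LD2_c17 LD3_c60)) :=
  Lgr Lrot12 (Lpr_bt (f477729 IH) (Lpr_dt (K33.f477733 IH) (Lpr_bt (f477735 IH) (Lpn (LP (LK LD1_c14 LD2_c17 LD3_c60))))))
theorem f477812 : Led Lsl_ct (LP (LK LD1_c23 LD2_c55 LD3_c46)) = (LP (LK LD1_c14 LD2_c17 LD3_c60)) :=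
  Lre_c IH (LK LD1_c23 LD2_c55 LD3_c46) (LK LD1_c14 LD2_c17 LD3_c60) Lrfl Lrfl
theorem f477813 : Led Lsl_dt (LP (LK LD1_c31 LD2_c17 LD3_c13)) = (LP (LK LD1_c23 LD2_c55 LD3_c46)) :=
  Lre_d IH (LK LD1_c31 LD2_c17 LD3_c13) (LK LD1_c23 LD2_c55 LD3_c46) Lrfl Lrfl
theorem f520819 : Led Lsl_et (LP (LK LD1_c24 LD2_c0 LD3_c1)) = (LP (LK LD1_c14 LD2_c42 LD3_c17)) :=
  Lgr Lrot87 (Lpr_ef (f520809 IH) (Lpn (LP (LK LD1_c14 LD2_c42 LD3_c17))))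
theorem f92768 : Led Lsl_dt (LP (LK LD1_c1 LD2_c50 LD3_c30)) = (LP (LK LD1_c3 LD2_c46 LD3_c50)) :=
  Lre_d IH (LK LD1_c1 LD2_c50 LD3_c30) (LK LD1_c3 LD2_c46 LD3_c50) Lrfl Lrfl
theorem f520716 : Led Lsl_ft (LP (LK LD1_c3 LD2_c46 LD3_c50)) = (LP (LK LD1_c7 LD2_c0 LD3_c35)) :=
  Lgr Lrot54 (Lpe (f92768 IH) (Lpr_ff (f520711 IH) (Lpe (K33.f455509 IH) (Lpn (LP (LK LD1_c7 LD2_c0 LD3_c35))))))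
theorem f92778 : Led Lsl_et (LP (LK LD1_c7 LD2_c34 LD3_c35)) = (LP (LK LD1_c3 LD2_c46 LD3_c50)) :=
  Lre_e IH (LK LD1_c7 LD2_c34 LD3_c35) (LK LD1_c3 LD2_c46 LD3_c50) Lrfl Lrfl
theorem f92821 : Led Lsl_ft (LP (LK LD1_c14 LD2_c17 LD3_c11)) = (LP (LK LD1_c7 LD2_c34 LD3_c35)) :=
  Lre_f IH (LK LD1_c14 LD2_c17 LD3_c11) (LK LD1_c7 LD2_c34 LD3_c35) Lrfl Lrfl
theorem f520727 : Led Lsl_ef (LP (LK LD1_c14 LD2_c17 LD3_c11)) = (LP (LK LD1_c22 LD2_c33 LD3_c49)) :=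
  Lgr Lrot21 (Lpr_ft (f92821 IH) (Lpr_et (f92778 IH) (Lpr_ft (f520716 IH) (Lpr_et (K33.f459652 IH) (Lpr_ft (K33.f460618 IH) (Lpn (LP (LK LD1_c22 LD2_c33 LD3_c49))))))))
theorem f520731 : Led Lsl_et (LP (LK LD1_c14 LD2_c17 LD3_c11)) = (LP (LK LD1_c22 LD2_c33 LD3_c49)) :=
  Lgr Lrot87 (Lpr_ef (f520727 IH) (Lpn (LP (LK LD1_c22 LD2_c33 LD3_c49))))
theorem f92761 : Led Lsl_et (LP (LK LD1_c0 LD2_c52 LD3_c32)) = (LP (LK LD1_c0 LD2_c23 LD3_c44)) :=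
  Lre_e IH (LK LD1_c0 LD2_c52 LD3_c32) (LK LD1_c0 LD2_c23 LD3_c44) Lrfl Lrfl
theorem f92762 : Led Lsl_dt (LP (LK LD1_c0 LD2_c52 LD3_c32)) = (LP (LK LD1_c1 LD2_c51 LD3_c25)) :=
  Lre_d IH (LK LD1_c0 LD2_c52 LD3_c32) (LK LD1_c1 LD2_c51 LD3_c25) Lrfl Lrfl
theorem f87713 : Led Lsl_gt (LP (LK LD1_c3 LD2_c48 LD3_c53)) = (LP (LK LD1_c1 LD2_c51 LD3_c25)) :=
  Lre_g IH (LK LD1_c3 LD2_c48 LD3_c53) (LK LD1_c1 LD2_c51 LD3_c25) Lrfl Lrfl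
theorem f92764 : Led Lsl_df (LP (LK LD1_c3 LD2_c48 LD3_c53)) = (LP (LK LD1_c3 LD2_c46 LD3_c51)) :=
  Lgr Lrot170 (Lpr_gt (f87713 IH) (Lpe (f92762 IH) (Lpr_et (f92761 IH) (Lpr_gt (K0.f17302 IH) (Lpe (K5.f92754 IH) (Lpr_gt (K3.f92648 IH) (Lpe (K1.f62805 IH) (Lpr_et (K33.f88427 IH) (Lpr_gt (K33.f88377 IH) (Lpe (f92763 IH) (Lpn (LP (LK LD1_c3 LD2_c46 LD3_c51)))))))))))))
theorem f92776 : Led Lsl_et (LP (LK LD1_c3 LD2_c48 LD3_c53)) = (LP (LK LD1_c7 LD2_c38 LD3_c58)) :=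
  Lre_e IH (LK LD1_c3 LD2_c48 LD3_c53) (LK LD1_c7 LD2_c38 LD3_c58) Lrfl Lrfl
theorem f88378 : Led Lsl_dt (LP (LK LD1_c3 LD2_c46 LD3_c50)) = (LP (LK LD1_c1 LD2_c50 LD3_c30)) :=
  Lre_d IH (LK LD1_c3 LD2_c46 LD3_c50) (LK LD1_c1 LD2_c50 LD3_c30) Lrfl Lrfl
theorem f92779 : Led Lsl_dt (LP (LK LD1_c7 LD2_c38 LD3_c58)) = (LP (LK LD1_c7 LD2_c34 LD3_c35)) :=
  Lgr Lrot77 (Lpe (f92776 IH) (Lpr_df (f92764 IH) (Lpe (f92777 IH) (Lpe (f88378 IH) (Lpe (f92778 IH) (Lpn (LP (LK LD1_c7 LD2_c34 LD3_c35))))))))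
theorem f92793 : Led Lsl_ft (LP (LK LD1_c14 LD2_c25 LD3_c9)) = (LP (LK LD1_c7 LD2_c38 LD3_c58)) :=
  Lre_f IH (LK LD1_c14 LD2_c25 LD3_c9) (LK LD1_c7 LD2_c38 LD3_c58) Lrfl Lrfl
theorem f92794 : Led Lsl_ft (LP (LK LD1_c7 LD2_c34 LD3_c35)) = (LP (LK LD1_c14 LD2_c17 LD3_c11)) :=
  Lre_f IH (LK LD1_c7 LD2_c34 LD3_c35) (LK LD1_c14 LD2_c17 LD3_c11) Lrfl Lrfl
theorem f92795 : Led Lsl_df (LP (LK LD1_c14 LD2_c25 LD3_c9)) = (LP (LK LD1_c14 LD2_c17 LD3_c11)) :=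
  Lgr Lrot78 (Lpr_ft (f92793 IH) (Lpr_dt (f92779 IH) (Lpr_ft (f92794 IH) (Lpn (LP (LK LD1_c14 LD2_c17 LD3_c11))))))
theorem f92819 : Led Lsl_dt (LP (LK LD1_c14 LD2_c25 LD3_c9)) = (LP (LK LD1_c14 LD2_c17 LD3_c11)) :=
  Lgr Lrot42 (Lpr_df (f92795 IH) (Lpn (LP (LK LD1_c14 LD2_c17 LD3_c11))))
theorem f520823 : Led Lsl_ef (LP (LK LD1_c14 LD2_c25 LD3_c9)) = (LP (LK LD1_c23 LD2_c55 LD3_c50)) :=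
  Lgr Lrot73 (Lpr_dt (f92819 IH) (Lpr_et (f520731 IH) (Lpr_dt (K33.f460620 IH) (Lpr_et (f520819 IH) (Lpr_dt (f477754 IH) (Lpn (LP (LK LD1_c23 LD2_c55 LD3_c50))))))))
theorem f92814 : Led Lsl_bt (LP (LK LD1_c14 LD2_c25 LD3_c9)) = (LP (LK LD1_c24 LD2_c4 LD3_c37)) :=
  Lre_b IH (LK LD1_c14 LD2_c25 LD3_c9) (LK LD1_c24 LD2_c4 LD3_c37) Lrfl Lrfl
theorem f520825 : Led Lsl_et (LP (LK LD1_c24 LD2_c4 LD3_c37)) = (LP (LK LD1_c31 LD2_c17 LD3_c16)) :=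
  Lgr Lrot74 (Lpe (f92814 IH) (Lpr_ef (f520823 IH) (Lpe (f477774 IH) (Lpn (LP (LK LD1_c31 LD2_c17 LD3_c16))))))
theorem f92852 : Led Lsl_ft (LP (LK LD1_c14 LD2_c25 LD3_c4)) = (LP (LK LD1_c24 LD2_c4 LD3_c37)) :=
  Lre_f IH (LK LD1_c14 LD2_c25 LD3_c4) (LK LD1_c24 LD2_c4 LD3_c37) Lrfl Lrfl
theorem f92846 : Led Lsl_et (LP (LK LD1_c7 LD2_c38 LD3_c56)) = (LP (LK LD1_c14 LD2_c25 LD3_c4)) :=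
  Lre_e IH (LK LD1_c7 LD2_c38 LD3_c56) (LK LD1_c14 LD2_c25 LD3_c4) Lrfl Lrfl
theorem f477807 : Led Lsl_et (LP (LK LD1_c23 LD2_c55 LD3_c47)) = (LP (LK LD1_c14 LD2_c17 LD3_c60)) :=
  Lre_e IH (LK LD1_c23 LD2_c55 LD3_c47) (LK LD1_c14 LD2_c17 LD3_c60) Lrfl Lrfl
theorem f520829 : Led Lsl_ff (LP (LK LD1_c7 LD2_c38 LD3_c56)) = (LP (LK LD1_c14 LD2_c17 LD3_c60)) :=
  Lgr Lrot72 (Lpr_et (f92846 IH) (Lpr_ft (f92852 IH) (Lpr_et (f520825 IH) (Lpr_ft (f477782 IH) (Lpr_et (f477807 IH) (Lpn (LP (LK LD1_c14 LD2_c17 LD3_c60))))))))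
theorem f520833 : Led Lsl_ft (LP (LK LD1_c7 LD2_c38 LD3_c56)) = (LP (LK LD1_c14 LD2_c17 LD3_c60)) :=
  Lgr Lrot48 (Lpr_ff (f520829 IH) (Lpn (LP (LK LD1_c14 LD2_c17 LD3_c60))))
theorem f92873 : Led Lsl_ct (LP (LK LD1_c14 LD2_c25 LD3_c3)) = (LP (LK LD1_c7 LD2_c38 LD3_c56)) :=
  Lre_c IH (LK LD1_c14 LD2_c25 LD3_c3) (LK LD1_c7 LD2_c38 LD3_c56) Lrfl Lrfl
theorem f477810 : Led Lsl_ct (LP (LK LD1_c14 LD2_c17 LD3_c60)) = (LP (LK LD1_c23 LD2_c55 LD3_c46)) :=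
  Lre_c IH (LK LD1_c14 LD2_c17 LD3_c60) (LK LD1_c23 LD2_c55 LD3_c46) Lrfl Lrfl
theorem f520835 : Led Lsl_ff (LP (LK LD1_c14 LD2_c25 LD3_c3)) = (LP (LK LD1_c23 LD2_c55 LD3_c46)) :=
  Lgr Lrot23 (Lpr_ct (f92873 IH) (Lpr_ft (f520833 IH) (Lpr_ct (f477810 IH) (Lpn (LP (LK LD1_c23 LD2_c55 LD3_c46))))))
theorem f92866 : Led Lsl_dt (LP (LK LD1_c14 LD2_c25 LD3_c3)) = (LP (LK LD1_c24 LD2_c4 LD3_c33)) :=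
  Lre_d IH (LK LD1_c14 LD2_c25 LD3_c3) (LK LD1_c24 LD2_c4 LD3_c33) Lrfl Lrfl
theorem f520837 : Led Lsl_ft (LP (LK LD1_c24 LD2_c4 LD3_c33)) = (LP (LK LD1_c31 LD2_c17 LD3_c13)) :=
  Lgr Lrot54 (Lpe (f92866 IH) (Lpr_ff (f520835 IH) (Lpe (f477813 IH) (Lpn (LP (LK LD1_c31 LD2_c17 LD3_c13))))))
theorem f520842 : Led Lsl_ff (LP (LK LD1_c24 LD2_c4 LD3_c33)) = (LP (LK LD1_c31 LD2_c17 LD3_c13)) :=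
  Lgr Lrot3 (Lpr_ft (f520837 IH) (Lpn (LP (LK LD1_c31 LD2_c17 LD3_c13))))
theorem f520844 : Led Lsl_at (LP (LK LD1_c24 LD2_c4 LD3_c33)) = (LP (LK LD1_c31 LD2_c21 LD3_c59)) :=
  Lre_a IH (LK LD1_c24 LD2_c4 LD3_c33) (LK LD1_c31 LD2_c21 LD3_c59) Lrfl Lrfl
theorem f521440 : Led Lsl_ct (LP (LK LD1_c24 LD2_c34 LD3_c4)) = (LP (LK LD1_c31 LD2_c21 LD3_c59)) :=
  Lgr Lrot98 (Lpe (f472606 IH) (Lpe (f123130 IH) (Lpe (f472594 IH) (Lpr_cf (f521427 IH) (Lpr_df (f477736 IH) (Lpe (f477812 IH) (Lpe (f477813 IH) (Lpe (f520842 IH) (Lpr_at (f520844 IH) (Lpn (LP (LK LD1_c31 LD2_c21 LD3_c59))))))))))))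
theorem f521444 : Led Lsl_cf (LP (LK LD1_c24 LD2_c34 LD3_c4)) = (LP (LK LD1_c31 LD2_c21 LD3_c59)) :=
  Lgr Lrot11 (Lpr_ct (f521440 IH) (Lpn (LP (LK LD1_c31 LD2_c21 LD3_c59))))
theorem f92926 : Led Lsl_ct (LP (LK LD1_c31 LD2_c22 LD3_c3)) = (LP (LK LD1_c24 LD2_c4 LD3_c33)) :=
  Lre_c IH (LK LD1_c31 LD2_c22 LD3_c3) (LK LD1_c24 LD2_c4 LD3_c33) Lrfl Lrfl
theorem f521447 : Led Lsl_at (LP (LK LD1_c24 LD2_c34 LD3_c4)) = (LP (LK LD1_c31 LD2_c22 LD3_c3)) :=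
  Lgr Lrot107 (Lpr_cf (f521444 IH) (Lpe (f520844 IH) (Lpe (f92926 IH) (Lpn (LP (LK LD1_c31 LD2_c22 LD3_c3))))))
theorem f472608 : Led Lsl_at (LP (LK LD1_c24 LD2_c34 LD3_c0)) = (LP (LK LD1_c14 LD2_c47 LD3_c34)) :=
  Lre_a IH (LK LD1_c24 LD2_c34 LD3_c0) (LK LD1_c14 LD2_c47 LD3_c34) Lrfl Lrfl
theorem f521450 : Led Lsl_df (LP (LK LD1_c24 LD2_c34 LD3_c0)) = (LP (LK LD1_c31 LD2_c22 LD3_c3)) :=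
  Lgr Lrot18 (Lpr_at (f472608 IH) (Lpr_dt (f472606 IH) (Lpr_at (f521447 IH) (Lpn (LP (LK LD1_c31 LD2_c22 LD3_c3))))))
theorem f92867 : Led Lsl_ct (LP (LK LD1_c24 LD2_c4 LD3_c33)) = (LP (LK LD1_c31 LD2_c22 LD3_c3)) :=
  Lre_c IH (LK LD1_c24 LD2_c4 LD3_c33) (LK LD1_c31 LD2_c22 LD3_c3) Lrfl Lrfl
theorem f92865 : Led Lsl_ct (LP (LK LD1_c7 LD2_c38 LD3_c56)) = (LP (LK LD1_c14 LD2_c25 LD3_c3)) :=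
  Lre_c IH (LK LD1_c7 LD2_c38 LD3_c56) (LK LD1_c14 LD2_c25 LD3_c3) Lrfl Lrfl
theorem f92823 : Led Lsl_bt (LP (LK LD1_c24 LD2_c4 LD3_c37)) = (LP (LK LD1_c14 LD2_c25 LD3_c9)) :=
  Lre_b IH (LK LD1_c24 LD2_c4 LD3_c37) (LK LD1_c14 LD2_c25 LD3_c9) Lrfl Lrfl
theorem f92824 : Led Lsl_bt (LP (LK LD1_c14 LD2_c17 LD3_c11)) = (LP (LK LD1_c23 LD2_c54 LD3_c35)) :=
  Lre_b IH (LK LD1_c14 LD2_c17 LD3_c11) (LK LD1_c23 LD2_c54 LD3_c35) Lrfl Lrfl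
theorem f92825 : Led Lsl_df (LP (LK LD1_c24 LD2_c4 LD3_c37)) = (LP (LK LD1_c23 LD2_c54 LD3_c35)) :=
  Lgr Lrot12 (Lpr_bt (f92823 IH) (Lpr_dt (f92819 IH) (Lpr_bt (f92824 IH) (Lpn (LP (LK LD1_c23 LD2_c54 LD3_c35))))))
theorem f92831 : Led Lsl_ft (LP (LK LD1_c24 LD2_c4 LD3_c37)) = (LP (LK LD1_c14 LD2_c25 LD3_c4)) :=
  Lre_f IH (LK LD1_c24 LD2_c4 LD3_c37) (LK LD1_c14 LD2_c25 LD3_c4) Lrfl Lrfl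
theorem f92832 : Led Lsl_ft (LP (LK LD1_c14 LD2_c17 LD3_c7)) = (LP (LK LD1_c23 LD2_c54 LD3_c35)) :=
  Lre_f IH (LK LD1_c14 LD2_c17 LD3_c7) (LK LD1_c23 LD2_c54 LD3_c35) Lrfl Lrfl
theorem f92833 : Led Lsl_dt (LP (LK LD1_c14 LD2_c25 LD3_c4)) = (LP (LK LD1_c14 LD2_c17 LD3_c7)) :=
  Lgr Lrot60 (Lpe (f92831 IH) (Lpr_df (f92825 IH) (Lpe (f92832 IH) (Lpn (LP (LK LD1_c14 LD2_c17 LD3_c7))))))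
theorem f92847 : Led Lsl_et (LP (LK LD1_c14 LD2_c17 LD3_c7)) = (LP (LK LD1_c7 LD2_c34 LD3_c33)) :=
  Lre_e IH (LK LD1_c14 LD2_c17 LD3_c7) (LK LD1_c7 LD2_c34 LD3_c33) Lrfl Lrfl
theorem f92848 : Led Lsl_dt (LP (LK LD1_c7 LD2_c34 LD3_c33)) = (LP (LK LD1_c3 LD2_c46 LD3_c49)) :=
  Lre_d IH (LK LD1_c7 LD2_c34 LD3_c33) (LK LD1_c3 LD2_c46 LD3_c49) Lrfl Lrfl
theorem f92849 : Led Lsl_et (LP (LK LD1_c3 LD2_c46 LD3_c49)) = (LP (LK LD1_c7 LD2_c34 LD3_c34)) :=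
  Lre_e IH (LK LD1_c3 LD2_c46 LD3_c49) (LK LD1_c7 LD2_c34 LD3_c34) Lrfl Lrfl
theorem f92850 : Led Lsl_df (LP (LK LD1_c7 LD2_c38 LD3_c56)) = (LP (LK LD1_c7 LD2_c34 LD3_c34)) :=
  Lgr Lrot70 (Lpr_et (f92846 IH) (Lpr_dt (f92833 IH) (Lpr_et (f92847 IH) (Lpr_dt (f92848 IH) (Lpr_et (f92849 IH) (Lpn (LP (LK LD1_c7 LD2_c34 LD3_c34))))))))
theorem f523071 : Led Lsl_ct (LP (LK LD1_c7 LD2_c29 LD3_c34)) = (LP (LK LD1_c7 LD2_c34 LD3_c34)) :=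
  Lgr Lrot133 (Lpe (f485505 IH) (Lpr_ft (f523065 IH) (Lpr_at (f472603 IH) (Lpe (f472610 IH) (Lpr_df (f521450 IH) (Lpe (f92867 IH) (Lpe (f92866 IH) (Lpe (f92865 IH) (Lpr_df (f92850 IH) (Lpn (LP (LK LD1_c7 LD2_c34 LD3_c34))))))))))))
theorem f484654 : Led Lsl_gt (LP (LK LD1_c23 LD2_c43 LD3_c51)) = (LP (LK LD1_c14 LD2_c8 LD3_c59)) :=
  Lre_g IH (LK LD1_c23 LD2_c43 LD3_c51) (LK LD1_c14 LD2_c8 LD3_c59) Lrfl Lrfl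
theorem f480874 : Led Lsl_dt (LP (LK LD1_c13 LD2_c8 LD3_c55)) = (LP (LK LD1_c6 LD2_c55 LD3_c14)) :=
  Lre_d IH (LK LD1_c13 LD2_c8 LD3_c55) (LK LD1_c6 LD2_c55 LD3_c14) Lrfl Lrfl
theorem f480867 : Led Lsl_ct (LP (LK LD1_c22 LD2_c21 LD3_c15)) = (LP (LK LD1_c13 LD2_c8 LD3_c55)) :=
  Lre_c IH (LK LD1_c22 LD2_c21 LD3_c15) (LK LD1_c13 LD2_c8 LD3_c55) Lrfl Lrfl
theorem f132028 : Led Lsl_gt (LP (LK LD1_c6 LD2_c55 LD3_c16)) = (LP (LK LD1_c13 LD2_c8 LD3_c58)) :=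
  Lre_g IH (LK LD1_c6 LD2_c55 LD3_c16) (LK LD1_c13 LD2_c8 LD3_c58) Lrfl Lrfl
theorem f122829 : Led Lsl_ct (LP (LK LD1_c7 LD2_c52 LD3_c32)) = (LP (LK LD1_c3 LD2_c55 LD3_c21)) :=
  Lre_c IH (LK LD1_c7 LD2_c52 LD3_c32) (LK LD1_c3 LD2_c55 LD3_c21) Lrfl Lrfl
theorem f122845 : Led Lsl_gt (LP (LK LD1_c14 LD2_c49 LD3_c19)) = (LP (LK LD1_c7 LD2_c52 LD3_c32)) :=
  Lre_g IH (LK LD1_c14 LD2_c49 LD3_c19) (LK LD1_c7 LD2_c52 LD3_c32) Lrfl Lrfl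
theorem f484641 : Led Lsl_ct (LP (LK LD1_c13 LD2_c8 LD3_c58)) = (LP (LK LD1_c14 LD2_c49 LD3_c19)) :=
  Lgr Lrot152 (Lpe (f132028 IH) (Lpe (f107314 IH) (Lpr_gt (K33.f484634 IH) (Lpr_ct (K33.f123380 IH) (Lpr_gt (K33.f123366 IH) (Lpr_ct (K29.f123367 IH) (Lpe (K6.f123343 IH) (Lpe (f122829 IH) (Lpe (f122845 IH) (Lpn (LP (LK LD1_c14 LD2_c49 LD3_c19))))))))))))
theorem f132202 : Led Lsl_bt (LP (LK LD1_c13 LD2_c8 LD3_c55)) = (LP (LK LD1_c6 LD2_c55 LD3_c16)) :=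
  Lre_b IH (LK LD1_c13 LD2_c8 LD3_c55) (LK LD1_c6 LD2_c55 LD3_c16) Lrfl Lrfl
theorem f480878 : Led Lsl_ct (LP (LK LD1_c13 LD2_c8 LD3_c55)) = (LP (LK LD1_c22 LD2_c21 LD3_c15)) :=
  Lre_c IH (LK LD1_c13 LD2_c8 LD3_c55) (LK LD1_c22 LD2_c21 LD3_c15) Lrfl Lrfl
theorem f122841 : Led Lsl_ct (LP (LK LD1_c3 LD2_c55 LD3_c21)) = (LP (LK LD1_c7 LD2_c52 LD3_c32)) :=
  Lre_c IH (LK LD1_c3 LD2_c55 LD3_c21) (LK LD1_c7 LD2_c52 LD3_c32) Lrfl Lrfl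
theorem f134758 : Led Lsl_et (LP (LK LD1_c1 LD2_c53 LD3_c36)) = (LP (LK LD1_c0 LD2_c53 LD3_c23)) :=
  Lre_e IH (LK LD1_c1 LD2_c53 LD3_c36) (LK LD1_c0 LD2_c53 LD3_c23) Lrfl Lrfl
theorem f142289 : Led Lsl_dt (LP (LK LD1_c1 LD2_c53 LD3_c36)) = (LP (LK LD1_c3 LD2_c53 LD3_c58)) :=
  Lre_d IH (LK LD1_c1 LD2_c53 LD3_c36) (LK LD1_c3 LD2_c53 LD3_c58) Lrfl Lrfl
theorem f142292 : Led Lsl_gf (LP (LK LD1_c3 LD2_c53 LD3_c58)) = (LP (LK LD1_c7 LD2_c29 LD3_c37)) :=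
  Lgr Lrot145 (Lpe (f142289 IH) (Lpr_et (f134758 IH) (Lpe (K6.f134762 IH) (Lpr_dt (K6.f142269 IH) (Lpr_gt (K6.f11302 IH) (Lpe (K4.f13389 IH) (Lpr_et (f13406 IH) (Lpr_gt (f12878 IH) (Lpe (f142290 IH) (Lpr_dt (f142291 IH) (Lpn (LP (LK LD1_c7 LD2_c29 LD3_c37)))))))))))))
theorem f122840 : Led Lsl_ft (LP (LK LD1_c3 LD2_c54 LD3_c28)) = (LP (LK LD1_c1 LD2_c53 LD3_c48)) :=
  Lre_f IH (LK LD1_c3 LD2_c54 LD3_c28) (LK LD1_c1 LD2_c53 LD3_c48) Lrfl Lrfl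
theorem f142294 : Led Lsl_gt (LP (LK LD1_c3 LD2_c54 LD3_c28)) = (LP (LK LD1_c7 LD2_c29 LD3_c37)) :=
  Lgr Lrot5 (Lpr_ft (f122840 IH) (Lpr_at (K28.f123115 IH) (Lpr_gf (f142292 IH) (Lpn (LP (LK LD1_c7 LD2_c29 LD3_c37))))))
theorem f142308 : Led Lsl_ct (LP (LK LD1_c14 LD2_c8 LD3_c59)) = (LP (LK LD1_c23 LD2_c43 LD3_c52)) :=
  Lre_c IH (LK LD1_c14 LD2_c8 LD3_c59) (LK LD1_c23 LD2_c43 LD3_c52) Lrfl Lrfl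
theorem f484652 : Led Lsl_gf (LP (LK LD1_c22 LD2_c21 LD3_c15)) = (LP (LK LD1_c23 LD2_c43 LD3_c52)) :=
  Lgr Lrot126 (Lpe (f480878 IH) (Lpr_bt (f132202 IH) (Lpr_gt (f132028 IH) (Lpr_ct (f484641 IH) (Lpr_gt (f122845 IH) (Lpe (f122841 IH) (Lpr_bt (K6.f122810 IH) (Lpr_gt (f142294 IH) (Lpe (f142305 IH) (Lpr_ct (f142308 IH) (Lpn (LP (LK LD1_c23 LD2_c43 LD3_c52)))))))))))))
theorem f484778 : Led Lsl_df (LP (LK LD1_c23 LD2_c43 LD3_c51)) = (LP (LK LD1_c14 LD2_c24 LD3_c41)) :=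
  Lgr Lrot155 (Lpr_gt (f484654 IH) (Lpr_ct (f142308 IH) (Lpe (f484652 IH) (Lpr_ct (f480867 IH) (Lpr_dt (f480874 IH) (Lpe (K33.f476955 IH) (Lpr_gf (K33.f484761 IH) (Lpe (K33.f484757 IH) (Lpe (K33.f484775 IH) (Lpn (LP (LK LD1_c14 LD2_c24 LD3_c41))))))))))))
theorem f516386 : Led Lsl_gf (LP (LK LD1_c13 LD2_c33 LD3_c32)) = (LP (LK LD1_c7 LD2_c38 LD3_c39)) :=
  Lgr Lrot47 (Lpr_gt (K33.f466649 IH) (Lpe (f516375 IH) (Lpr_ff (f516376 IH) (Lpn (LP (LK LD1_c7 LD2_c38 LD3_c39))))))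
theorem f132197 : Led Lsl_at (LP (LK LD1_c6 LD2_c55 LD3_c14)) = (LP (LK LD1_c13 LD2_c8 LD3_c50)) :=
  Lre_a IH (LK LD1_c6 LD2_c55 LD3_c14) (LK LD1_c13 LD2_c8 LD3_c50) Lrfl Lrfl
theorem f485347 : Led Lsl_gf (LP (LK LD1_c13 LD2_c8 LD3_c50)) = (LP (LK LD1_c14 LD2_c29 LD3_c33)) :=
  Lgr Lrot76 (Lpe (f132197 IH) (Lpr_ff (K33.f480843 IH) (Lpr_gt (K33.f485345 IH) (Lpn (LP (LK LD1_c14 LD2_c29 LD3_c33))))))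
theorem f15242 : Led Lsl_gt (LP (LK LD1_c6 LD2_c54 LD3_c49)) = (LP (LK LD1_c13 LD2_c8 LD3_c4)) :=
  Lre_g IH (LK LD1_c6 LD2_c54 LD3_c49) (LK LD1_c13 LD2_c8 LD3_c4) Lrfl Lrfl
theorem f15194 : Led Lsl_ct (LP (LK LD1_c13 LD2_c8 LD3_c5)) = (LP (LK LD1_c6 LD2_c54 LD3_c49)) :=
  Lre_c IH (LK LD1_c13 LD2_c8 LD3_c5) (LK LD1_c6 LD2_c54 LD3_c49) Lrfl Lrfl
theorem f485456 : Led Lsl_gt (LP (LK LD1_c7 LD2_c41 LD3_c60)) = (LP (LK LD1_c13 LD2_c8 LD3_c5)) :=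
  Lgr Lrot82 (Lpr_bf (K8.f136535 IH) (Lpr_ct (f136554 IH) (Lpr_gf (f485347 IH) (Lpe (K33.f117333 IH) (Lpr_bt (K33.f117332 IH) (Lpe (K33.f117328 IH) (Lpr_bf (K4.f117319 IH) (Lpe (K33.f15137 IH) (Lpe (f15242 IH) (Lpe (f15194 IH) (Lpn (LP (LK LD1_c13 LD2_c8 LD3_c5)))))))))))))
theorem f476832 : Led Lsl_at (LP (LK LD1_c13 LD2_c45 LD3_c39)) = (LP (LK LD1_c7 LD2_c16 LD3_c19)) :=
  Lre_a IH (LK LD1_c13 LD2_c45 LD3_c39) (LK LD1_c7 LD2_c16 LD3_c19) Lrfl Lrfl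
theorem f476833 : Led Lsl_ft (LP (LK LD1_c7 LD2_c41 LD3_c60)) = (LP (LK LD1_c13 LD2_c45 LD3_c39)) :=
  Lgr Lrot101 (Lpe (K29.f12317 IH) (Lpr_ff (K29.f476829 IH) (Lpe (f476832 IH) (Lpn (LP (LK LD1_c13 LD2_c45 LD3_c39))))))
theorem f485458 : Led Lsl_gf (LP (LK LD1_c7 LD2_c16 LD3_c19)) = (LP (LK LD1_c13 LD2_c8 LD3_c5)) :=
  Lgr Lrot76 (Lpe (f476832 IH) (Lpe (f476833 IH) (Lpr_gt (f485456 IH) (Lpn (LP (LK LD1_c13 LD2_c8 LD3_c5))))))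
theorem f136689 : Led Lsl_bt (LP (LK LD1_c3 LD2_c50 LD3_c38)) = (LP (LK LD1_c1 LD2_c52 LD3_c15)) :=
  Lre_b IH (LK LD1_c3 LD2_c50 LD3_c38) (LK LD1_c1 LD2_c52 LD3_c15) Lrfl Lrfl
theorem f12022 : Led Lsl_gt (LP (LK LD1_c3 LD2_c47 LD3_c10)) = (LP (LK LD1_c7 LD2_c35 LD3_c7)) :=
  Lre_g IH (LK LD1_c3 LD2_c47 LD3_c10) (LK LD1_c7 LD2_c35 LD3_c7) Lrfl Lrfl
theorem f15184 : Led Lsl_ct (LP (LK LD1_c6 LD2_c54 LD3_c49)) = (LP (LK LD1_c13 LD2_c8 LD3_c5)) :=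
  Lre_c IH (LK LD1_c6 LD2_c54 LD3_c49) (LK LD1_c13 LD2_c8 LD3_c5) Lrfl Lrfl
theorem f485463 : Led Lsl_bf (LP (LK LD1_c7 LD2_c35 LD3_c7)) = (LP (LK LD1_c6 LD2_c54 LD3_c49)) :=
  Lgr Lrot34 (Lpe (f12022 IH) (Lpe (K3.f11983 IH) (Lpr_ct (K2.f12004 IH) (Lpr_gf (K29.f459697 IH) (Lpqs (K29.f477946 IH) (Lpe (K29.f451186 IH) (Lpe (K29.f477159 IH) (Lpe (f136689 IH) (Lpr_ct (K33.f476835 IH) (Lpr_gf (f485458 IH) (Lpe (f15184 IH) (Lpn (LP (LK LD1_c6 LD2_c54 LD3_c49))))))))))))))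
theorem f485465 : Led Lsl_bt (LP (LK LD1_c7 LD2_c35 LD3_c7)) = (LP (LK LD1_c6 LD2_c54 LD3_c49)) :=
  Lgr Lrot127 (Lpr_bf (f485463 IH) (Lpn (LP (LK LD1_c6 LD2_c54 LD3_c49))))
theorem f15175 : Led Lsl_ft (LP (LK LD1_c13 LD2_c8 LD3_c4)) = (LP (LK LD1_c6 LD2_c54 LD3_c48)) :=
  Lre_f IH (LK LD1_c13 LD2_c8 LD3_c4) (LK LD1_c6 LD2_c54 LD3_c48) Lrfl Lrfl
theorem f484497 : Led Lsl_bf (LP (LK LD1_c13 LD2_c8 LD3_c4)) = (LP (LK LD1_c13 LD2_c36 LD3_c39)) :=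
  Lgr Lrot61 (Lpr_ft (f15175 IH) (Lpr_bt (K6.f127958 IH) (Lpr_ft (K33.f484492 IH) (Lpn (LP (LK LD1_c13 LD2_c36 LD3_c39))))))
theorem f485305 : Led Lsl_cf (LP (LK LD1_c14 LD2_c48 LD3_c0)) = (LP (LK LD1_c13 LD2_c36 LD3_c39)) :=
  Lgr Lrot108 (Lpr_ft (K33.f485301 IH) (Lpr_ct (K5.f127965 IH) (Lpr_ft (K33.f484492 IH) (Lpn (LP (LK LD1_c13 LD2_c36 LD3_c39))))))
theorem f88567 : Led Lsl_gt (LP (LK LD1_c3 LD2_c48 LD3_c32)) = (LP (LK LD1_c7 LD2_c38 LD3_c2)) :=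
  Lre_g IH (LK LD1_c3 LD2_c48 LD3_c32) (LK LD1_c7 LD2_c38 LD3_c2) Lrfl Lrfl
theorem f485478 : Led Lsl_ct (LP (LK LD1_c7 LD2_c35 LD3_c7)) = (LP (LK LD1_c7 LD2_c38 LD3_c2)) :=
  Lgr Lrot63 (Lpr_bt (f485465 IH) (Lpr_gt (f15242 IH) (Lpr_bf (f484497 IH) (Lpe (f485305 IH) (Lpr_gt (K33.f485307 IH) (Lpe (K33.f482334 IH) (Lpr_bt (K33.f130001 IH) (Lpr_gt (K33.f127332 IH) (Lpe (K33.f129941 IH) (Lpr_gt (f88567 IH) (Lpn (LP (LK LD1_c7 LD2_c38 LD3_c2)))))))))))))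
theorem f456136 : Led Lsl_bt (LP (LK LD1_c7 LD2_c11 LD3_c8)) = (LP (LK LD1_c3 LD2_c35 LD3_c0)) :=
  Lre_b IH (LK LD1_c7 LD2_c11 LD3_c8) (LK LD1_c3 LD2_c35 LD3_c0) Lrfl Lrfl
theorem f485483 : Led Lsl_gf (LP (LK LD1_c3 LD2_c48 LD3_c37)) = (LP (LK LD1_c7 LD2_c38 LD3_c2)) :=
  Lgr Lrot129 (Lpr_cf (K33.f467227 IH) (Lpr_bt (f456136 IH) (Lpr_gt (K29.f5934 IH) (Lpr_bf (K33.f456059 IH) (Lpr_ct (K29.f451186 IH) (Lpq (K29.f477946 IH) (Lpe (K29.f459697 IH) (Lpe (K2.f12004 IH) (Lpr_bt (K3.f11983 IH) (Lpr_gt (f12022 IH) (Lpr_ct (f485478 IH) (Lpn (LP (LK LD1_c7 LD2_c38 LD3_c2))))))))))))))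
theorem f88568 : Led Lsl_bt (LP (LK LD1_c14 LD2_c23 LD3_c9)) = (LP (LK LD1_c7 LD2_c38 LD3_c2)) :=
  Lre_b IH (LK LD1_c14 LD2_c23 LD3_c9) (LK LD1_c7 LD2_c38 LD3_c2) Lrfl Lrfl
theorem f144971 : Led Lsl_ct (LP (LK LD1_c3 LD2_c47 LD3_c32)) = (LP (LK LD1_c7 LD2_c35 LD3_c55)) :=
  Lre_c IH (LK LD1_c3 LD2_c47 LD3_c32) (LK LD1_c7 LD2_c35 LD3_c55) Lrfl Lrfl
theorem f144991 : Led Lsl_gt (LP (LK LD1_c7 LD2_c35 LD3_c55)) = (LP (LK LD1_c14 LD2_c19 LD3_c27)) :=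
  Lre_g IH (LK LD1_c7 LD2_c35 LD3_c55) (LK LD1_c14 LD2_c19 LD3_c27) Lrfl Lrfl
theorem f486768 : Led Lsl_ct (LP (LK LD1_c14 LD2_c23 LD3_c9)) = (LP (LK LD1_c14 LD2_c19 LD3_c27)) :=
  Lgr Lrot10 (Lpr_bt (f88568 IH) (Lpe (f485483 IH) (Lpr_ct (K33.f467357 IH) (Lpe (K33.f467359 IH) (Lpr_cf (K33.f486761 IH) (Lpe (K33.f486766 IH) (Lpr_gt (K33.f162087 IH) (Lpe (K33.f144988 IH) (Lpr_ct (f144971 IH) (Lpr_gt (f144991 IH) (Lpn (LP (LK LD1_c14 LD2_c19 LD3_c27)))))))))))))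
theorem f486796 : Led Lsl_cf (LP (LK LD1_c14 LD2_c23 LD3_c9)) = (LP (LK LD1_c14 LD2_c19 LD3_c27)) :=
  Lgr Lrot11 (Lpr_ct (f486768 IH) (Lpn (LP (LK LD1_c14 LD2_c19 LD3_c27))))
theorem f485481 : Led Lsl_cf (LP (LK LD1_c7 LD2_c35 LD3_c7)) = (LP (LK LD1_c7 LD2_c38 LD3_c2)) :=
  Lgr Lrot11 (Lpr_ct (f485478 IH) (Lpn (LP (LK LD1_c7 LD2_c38 LD3_c2))))
theorem f485480 : Led Lsl_bt (LP (LK LD1_c7 LD2_c38 LD3_c2)) = (LP (LK LD1_c14 LD2_c23 LD3_c9)) :=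
  Lre_b IH (LK LD1_c7 LD2_c38 LD3_c2) (LK LD1_c14 LD2_c23 LD3_c9) Lrfl Lrfl
theorem f485485 : Led Lsl_gf (LP (LK LD1_c14 LD2_c19 LD3_c29)) = (LP (LK LD1_c14 LD2_c23 LD3_c9)) :=
  Lgr Lrot181 (Lpr_ct (K33.f162144 IH) (Lpe (K33.f485042 IH) (Lpr_cf (K33.f473232 IH) (Lpr_bt (K33.f91586 IH) (Lpe (K29.f91581 IH) (Lpe (K33.f11984 IH) (Lpe (K3.f12006 IH) (Lpr_gt (f12022 IH) (Lpr_cf (f485481 IH) (Lpr_bt (f485480 IH) (Lpn (LP (LK LD1_c14 LD2_c23 LD3_c9)))))))))))))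
theorem f162441 : Led Lsl_ct (LP (LK LD1_c7 LD2_c35 LD3_c58)) = (LP (LK LD1_c14 LD2_c19 LD3_c29)) :=
  Lre_c IH (LK LD1_c7 LD2_c35 LD3_c58) (LK LD1_c14 LD2_c19 LD3_c29) Lrfl Lrfl
theorem f486794 : Led Lsl_bf (LP (LK LD1_c13 LD2_c8 LD3_c5)) = (LP (LK LD1_c14 LD2_c19 LD3_c27)) :=
  Lgr Lrot90 (Lpr_ct (f15194 IH) (Lpe (f485463 IH) (Lpr_ct (f485478 IH) (Lpr_bt (f485480 IH) (Lpr_ct (f486768 IH) (Lpn (LP (LK LD1_c14 LD2_c19 LD3_c27))))))))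
theorem f486800 : Led Lsl_gt (LP (LK LD1_c14 LD2_c19 LD3_c26)) = (LP (LK LD1_c7 LD2_c41 LD3_c20)) :=
  Lgr Lrot82 (Lpe (f485039 IH) (Lpr_ct (f162441 IH) (Lpr_gf (f485485 IH) (Lpr_cf (f486796 IH) (Lpe (f486794 IH) (Lpe (f485456 IH) (Lpr_bf (K8.f136535 IH) (Lpr_ct (f136554 IH) (Lpr_gf (f485347 IH) (Lpe (K33.f117333 IH) (Lpn (LP (LK LD1_c7 LD2_c41 LD3_c20)))))))))))))
theorem f485493 : Led Lsl_bt (LP (LK LD1_c3 LD2_c50 LD3_c8)) = (LP (LK LD1_c7 LD2_c41 LD3_c20)) :=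
  Lre_b IH (LK LD1_c3 LD2_c50 LD3_c8) (LK LD1_c7 LD2_c41 LD3_c20) Lrfl Lrfl
theorem f486806 : Led Lsl_gf (LP (LK LD1_c14 LD2_c28 LD3_c37)) = (LP (LK LD1_c7 LD2_c41 LD3_c21)) :=
  Lgr Lrot126 (Lpr_cf (K33.f162078 IH) (Lpr_bt (K33.f144969 IH) (Lpr_gt (f144991 IH) (Lpe (f486796 IH) (Lpe (f485485 IH) (Lpe (f162441 IH) (Lpr_bt (f485039 IH) (Lpr_gt (f486800 IH) (Lpe (f485493 IH) (Lpr_ct (K33.f117331 IH) (Lpn (LP (LK LD1_c7 LD2_c41 LD3_c21)))))))))))))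
theorem f486811 : Led Lsl_gt (LP (LK LD1_c14 LD2_c29 LD3_c27)) = (LP (LK LD1_c7 LD2_c41 LD3_c21)) :=
  Lgr Lrot5 (Lpr_ft (K33.f485092 IH) (Lpr_at (K8.f162066 IH) (Lpr_gf (f486806 IH) (Lpn (LP (LK LD1_c7 LD2_c41 LD3_c21))))))
theorem f162090 : Led Lsl_ft (LP (LK LD1_c14 LD2_c19 LD3_c26)) = (LP (LK LD1_c7 LD2_c35 LD3_c54)) :=
  Lre_f IH (LK LD1_c14 LD2_c19 LD3_c26) (LK LD1_c7 LD2_c35 LD3_c54) Lrfl Lrfl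
theorem f162445 : Led Lsl_at (LP (LK LD1_c7 LD2_c35 LD3_c54)) = (LP (LK LD1_c14 LD2_c19 LD3_c21)) :=
  Lre_a IH (LK LD1_c7 LD2_c35 LD3_c54) (LK LD1_c14 LD2_c19 LD3_c21) Lrfl Lrfl
theorem f486804 : Led Lsl_gf (LP (LK LD1_c14 LD2_c19 LD3_c21)) = (LP (LK LD1_c7 LD2_c41 LD3_c20)) :=
  Lgr Lrot76 (Lpe (f162445 IH) (Lpe (f162090 IH) (Lpr_gt (f486800 IH) (Lpn (LP (LK LD1_c7 LD2_c41 LD3_c20))))))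
theorem f515548 : Led Lsl_ct (LP (LK LD1_c6 LD2_c55 LD3_c26)) = (LP (LK LD1_c7 LD2_c50 LD3_c15)) :=
  Lgr Lrot59 (Lpr_cf (K33.f515544 IH) (Lpn (LP (LK LD1_c7 LD2_c50 LD3_c15))))
theorem f516390 : Led Lsl_gt (LP (LK LD1_c7 LD2_c51 LD3_c34)) = (LP (LK LD1_c7 LD2_c50 LD3_c15)) :=
  Lgr Lrot149 (Lpr_cf (K33.f425718 IH) (Lpr_gf (f486804 IH) (Lpe (f485493 IH) (Lpr_ct (K33.f117331 IH) (Lpe (f486811 IH) (Lpr_cf (K33.f485088 IH) (Lpe (K33.f485067 IH) (Lpr_gf (f516386 IH) (Lpe (K33.f516238 IH) (Lpr_ct (f515548 IH) (Lpn (LP (LK LD1_c7 LD2_c50 LD3_c15)))))))))))))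
theorem f486155 : Led Lsl_af (LP (LK LD1_c14 LD2_c24 LD3_c41)) = (LP (LK LD1_c7 LD2_c50 LD3_c14)) :=
  Lgr Lrot0 (Lpr_at (K33.f486149 IH) (Lpn (LP (LK LD1_c7 LD2_c50 LD3_c14))))
theorem f516392 : Led Lsl_gf (LP (LK LD1_c14 LD2_c24 LD3_c41)) = (LP (LK LD1_c7 LD2_c50 LD3_c15)) :=
  Lgr Lrot76 (Lpr_af (f486155 IH) (Lpe (K33.f486170 IH) (Lpr_gt (f516390 IH) (Lpn (LP (LK LD1_c7 LD2_c50 LD3_c15))))))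
theorem f484820 : Led Lsl_dt (LP (LK LD1_c7 LD2_c38 LD3_c45)) = (LP (LK LD1_c14 LD2_c24 LD3_c38)) :=
  Lre_d IH (LK LD1_c7 LD2_c38 LD3_c45) (LK LD1_c14 LD2_c24 LD3_c38) Lrfl Lrfl
theorem f92769 : Led Lsl_bt (LP (LK LD1_c3 LD2_c48 LD3_c53)) = (LP (LK LD1_c7 LD2_c38 LD3_c56)) :=
  Lre_b IH (LK LD1_c3 LD2_c48 LD3_c53) (LK LD1_c7 LD2_c38 LD3_c56) Lrfl Lrfl
theorem f92770 : Led Lsl_bt (LP (LK LD1_c7 LD2_c34 LD3_c34)) = (LP (LK LD1_c3 LD2_c46 LD3_c51)) :=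
  Lre_b IH (LK LD1_c7 LD2_c34 LD3_c34) (LK LD1_c3 LD2_c46 LD3_c51) Lrfl Lrfl
theorem f92771 : Led Lsl_dt (LP (LK LD1_c7 LD2_c38 LD3_c56)) = (LP (LK LD1_c7 LD2_c34 LD3_c34)) :=
  Lgr Lrot79 (Lpe (f92769 IH) (Lpr_df (f92764 IH) (Lpe (f92770 IH) (Lpn (LP (LK LD1_c7 LD2_c34 LD3_c34))))))
theorem f523083 : Led Lsl_gt (LP (LK LD1_c14 LD2_c24 LD3_c38)) = (LP (LK LD1_c7 LD2_c38 LD3_c56)) :=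
  Lgr Lrot189 (Lpe (f484820 IH) (Lpe (K33.f484887 IH) (Lpr_ct (f515548 IH) (Lpe (f516392 IH) (Lpe (f484778 IH) (Lpr_gt (f484654 IH) (Lpr_dt (f485505 IH) (Lpr_ct (f523071 IH) (Lpe (f92771 IH) (Lpn (LP (LK LD1_c7 LD2_c38 LD3_c56))))))))))))
theorem f484861 : Led Lsl_ff (LP (LK LD1_c13 LD2_c9 LD3_c0)) = (LP (LK LD1_c14 LD2_c24 LD3_c38)) :=
  Lgr Lrot19 (Lpr_dt (K8.f136550 IH) (Lpr_ft (K33.f484833 IH) (Lpr_dt (f484820 IH) (Lpn (LP (LK LD1_c14 LD2_c24 LD3_c38))))))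
theorem f523090 : Led Lsl_gf (LP (LK LD1_c6 LD2_c55 LD3_c27)) = (LP (LK LD1_c7 LD2_c38 LD3_c56)) :=
  Lgr Lrot76 (Lpe (K29.f136555 IH) (Lpr_ff (f484861 IH) (Lpr_gt (f523083 IH) (Lpn (LP (LK LD1_c7 LD2_c38 LD3_c56))))))
theorem f114433 : Led Lsl_gt (LP (LK LD1_c6 LD2_c55 LD3_c27)) = (LP (LK LD1_c13 LD2_c9 LD3_c6)) :=
  Lre_g IH (LK LD1_c6 LD2_c55 LD3_c27) (LK LD1_c13 LD2_c9 LD3_c6) Lrfl Lrfl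
theorem f523092 : Led Lsl_af (LP (LK LD1_c13 LD2_c9 LD3_c6)) = (LP (LK LD1_c14 LD2_c17 LD3_c60)) :=
  Lgr Lrot31 (Lpe (f114433 IH) (Lpr_gf (f523090 IH) (Lpr_ft (f520833 IH) (Lpn (LP (LK LD1_c14 LD2_c17 LD3_c60))))))
theorem f523281 : Led Lsl_at (LP (LK LD1_c13 LD2_c9 LD3_c6)) = (LP (LK LD1_c14 LD2_c17 LD3_c60)) :=
  Lgr Lrot100 (Lpr_af (f523092 IH) (Lpn (LP (LK LD1_c14 LD2_c17 LD3_c60))))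
theorem f484983 : Led Lsl_ct (LP (LK LD1_c22 LD2_c21 LD3_c34)) = (LP (LK LD1_c13 LD2_c9 LD3_c6)) :=
  Lre_c IH (LK LD1_c22 LD2_c21 LD3_c34) (LK LD1_c13 LD2_c9 LD3_c6) Lrfl Lrfl
theorem f523292 : Led Lsl_dt (LP (LK LD1_c30 LD2_c27 LD3_c6)) = (LP (LK LD1_c22 LD2_c21 LD3_c34)) :=
  Lre_d IH (LK LD1_c30 LD2_c27 LD3_c6) (LK LD1_c22 LD2_c21 LD3_c34) Lrfl Lrfl
theorem f523076 : Led Lsl_cf (LP (LK LD1_c7 LD2_c29 LD3_c34)) = (LP (LK LD1_c7 LD2_c34 LD3_c34)) :=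
  Lgr Lrot11 (Lpr_ct (f523071 IH) (Lpn (LP (LK LD1_c7 LD2_c34 LD3_c34))))
theorem f485506 : Led Lsl_dt (LP (LK LD1_c7 LD2_c29 LD3_c34)) = (LP (LK LD1_c14 LD2_c8 LD3_c59)) :=
  Lre_d IH (LK LD1_c7 LD2_c29 LD3_c34) (LK LD1_c14 LD2_c8 LD3_c59) Lrfl Lrfl
theorem f484655 : Led Lsl_dt (LP (LK LD1_c23 LD2_c43 LD3_c52)) = (LP (LK LD1_c31 LD2_c11 LD3_c59)) :=
  Lre_d IH (LK LD1_c23 LD2_c43 LD3_c52) (LK LD1_c31 LD2_c11 LD3_c59) Lrfl Lrfl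
theorem f523293 : Led Lsl_cf (LP (LK LD1_c30 LD2_c27 LD3_c6)) = (LP (LK LD1_c31 LD2_c11 LD3_c59)) :=
  Lgr Lrot161 (Lpr_dt (f523292 IH) (Lpr_ct (f484983 IH) (Lpr_af (f523092 IH) (Lpe (f520833 IH) (Lpr_dt (f92771 IH) (Lpe (f523076 IH) (Lpr_dt (f485506 IH) (Lpr_ct (f142308 IH) (Lpr_dt (f484655 IH) (Lpn (LP (LK LD1_c31 LD2_c11 LD3_c59))))))))))))
theorem f92869 : Led Lsl_dt (LP (LK LD1_c24 LD2_c4 LD3_c33)) = (LP (LK LD1_c14 LD2_c25 LD3_c3)) :=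
  Lre_d IH (LK LD1_c24 LD2_c4 LD3_c33) (LK LD1_c14 LD2_c25 LD3_c3) Lrfl Lrfl
theorem f523299 : Led Lsl_af (LP (LK LD1_c30 LD2_c27 LD3_c6)) = (LP (LK LD1_c31 LD2_c17 LD3_c13)) :=
  Lgr Lrot109 (Lpr_cf (f523293 IH) (Lpe (f484655 IH) (Lpe (f142308 IH) (Lpe (f485506 IH) (Lpr_cf (f523076 IH) (Lpe (f92771 IH) (Lpe (f92873 IH) (Lpe (f92869 IH) (Lpr_ft (f520837 IH) (Lpn (LP (LK LD1_c31 LD2_c17 LD3_c13))))))))))))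
theorem f520840 : Led Lsl_at (LP (LK LD1_c31 LD2_c21 LD3_c59)) = (LP (LK LD1_c24 LD2_c4 LD3_c33)) :=
  Lre_a IH (LK LD1_c31 LD2_c21 LD3_c59) (LK LD1_c24 LD2_c4 LD3_c33) Lrfl Lrfl
theorem f523304 : Led Lsl_ft (LP (LK LD1_c30 LD2_c27 LD3_c6)) = (LP (LK LD1_c31 LD2_c21 LD3_c59)) :=
  Lgr Lrot101 (Lpr_af (f523299 IH) (Lpe (f520837 IH) (Lpe (f520840 IH) (Lpn (LP (LK LD1_c31 LD2_c21 LD3_c59))))))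
theorem f523310 : Led Lsl_ff (LP (LK LD1_c30 LD2_c27 LD3_c6)) = (LP (LK LD1_c31 LD2_c21 LD3_c59)) :=
  Lgr Lrot3 (Lpr_ft (f523304 IH) (Lpn (LP (LK LD1_c31 LD2_c21 LD3_c59))))
theorem f92890 : Led Lsl_dt (LP (LK LD1_c24 LD2_c4 LD3_c29)) = (LP (LK LD1_c31 LD2_c21 LD3_c59)) :=
  Lre_d IH (LK LD1_c24 LD2_c4 LD3_c29) (LK LD1_c31 LD2_c21 LD3_c59) Lrfl Lrfl
theorem f523315 : Led Lsl_ft (LP (LK LD1_c22 LD2_c21 LD3_c34)) = (LP (LK LD1_c24 LD2_c4 LD3_c29)) :=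
  Lgr Lrot54 (Lpe (f523292 IH) (Lpr_ff (f523310 IH) (Lpe (f92890 IH) (Lpn (LP (LK LD1_c24 LD2_c4 LD3_c29))))))
theorem f484982 : Led Lsl_ct (LP (LK LD1_c13 LD2_c9 LD3_c6)) = (LP (LK LD1_c22 LD2_c21 LD3_c34)) :=
  Lre_c IH (LK LD1_c13 LD2_c9 LD3_c6) (LK LD1_c22 LD2_c21 LD3_c34) Lrfl Lrfl
theorem f92878 : Led Lsl_ct (LP (LK LD1_c24 LD2_c4 LD3_c29)) = (LP (LK LD1_c14 LD2_c25 LD3_c2)) :=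
  Lre_c IH (LK LD1_c24 LD2_c4 LD3_c29) (LK LD1_c14 LD2_c25 LD3_c2) Lrfl Lrfl
theorem f523319 : Led Lsl_ff (LP (LK LD1_c13 LD2_c9 LD3_c6)) = (LP (LK LD1_c14 LD2_c25 LD3_c2)) :=
  Lgr Lrot23 (Lpr_ct (f484982 IH) (Lpr_ft (f523315 IH) (Lpr_ct (f92878 IH) (Lpn (LP (LK LD1_c14 LD2_c25 LD3_c2))))))
theorem f532661 : Led Lsl_gf (LP (LK LD1_c13 LD2_c9 LD3_c0)) = (LP (LK LD1_c14 LD2_c25 LD3_c2)) :=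
  Lgr Lrot47 (Lpr_gt (f532659 IH) (Lpe (f523281 IH) (Lpr_ff (f523319 IH) (Lpn (LP (LK LD1_c14 LD2_c25 LD3_c2))))))
theorem f114463 : Led Lsl_et (LP (LK LD1_c6 LD2_c55 LD3_c23)) = (LP (LK LD1_c3 LD2_c26 LD3_c48)) :=
  Lre_e IH (LK LD1_c6 LD2_c55 LD3_c23) (LK LD1_c3 LD2_c26 LD3_c48) Lrfl Lrfl
theorem f12836 : Led Lsl_et (LP (LK LD1_c3 LD2_c24 LD3_c38)) = (LP (LK LD1_c6 LD2_c51 LD3_c47)) :=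
  Lre_e IH (LK LD1_c3 LD2_c24 LD3_c38) (LK LD1_c6 LD2_c51 LD3_c47) Lrfl Lrfl
theorem f92859 : Led Lsl_at (LP (LK LD1_c7 LD2_c38 LD3_c56)) = (LP (LK LD1_c14 LD2_c25 LD3_c2)) :=
  Lre_a IH (LK LD1_c7 LD2_c38 LD3_c56) (LK LD1_c14 LD2_c25 LD3_c2) Lrfl Lrfl
theorem f92860 : Led Lsl_at (LP (LK LD1_c14 LD2_c17 LD3_c4)) = (LP (LK LD1_c7 LD2_c34 LD3_c34)) :=
  Lre_a IH (LK LD1_c14 LD2_c17 LD3_c4) (LK LD1_c7 LD2_c34 LD3_c34) Lrfl Lrfl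
theorem f92861 : Led Lsl_dt (LP (LK LD1_c14 LD2_c25 LD3_c2)) = (LP (LK LD1_c14 LD2_c17 LD3_c4)) :=
  Lgr Lrot44 (Lpe (f92859 IH) (Lpr_df (f92850 IH) (Lpe (f92860 IH) (Lpn (LP (LK LD1_c14 LD2_c17 LD3_c4))))))
theorem f92880 : Led Lsl_df (LP (LK LD1_c14 LD2_c25 LD3_c2)) = (LP (LK LD1_c14 LD2_c17 LD3_c4)) :=
  Lgr Lrot38 (Lpr_dt (f92861 IH) (Lpn (LP (LK LD1_c14 LD2_c17 LD3_c4))))
theorem f92885 : Led Lsl_et (LP (LK LD1_c14 LD2_c17 LD3_c4)) = (LP (LK LD1_c7 LD2_c34 LD3_c32)) :=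
  Lre_e IH (LK LD1_c14 LD2_c17 LD3_c4) (LK LD1_c7 LD2_c34 LD3_c32) Lrfl Lrfl
theorem f532801 : Led Lsl_gt (LP (LK LD1_c6 LD2_c51 LD3_c47)) = (LP (LK LD1_c7 LD2_c34 LD3_c32)) :=
  Lgr Lrot131 (Lpe (f12836 IH) (Lpr_dt (K4.f12846 IH) (Lpe (K6.f130261 IH) (Lpr_df (K6.f129532 IH) (Lpr_gf (K5.f127929 IH) (Lpe (f114463 IH) (Lpr_dt (f127889 IH) (Lpr_gf (f532661 IH) (Lpr_df (f92880 IH) (Lpr_et (f92885 IH) (Lpn (LP (LK LD1_c7 LD2_c34 LD3_c32)))))))))))))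
theorem f492552 : Led Lsl_et (LP (LK LD1_c13 LD2_c13 LD3_c12)) = (LP (LK LD1_c6 LD2_c57 LD3_c47)) :=
  Lre_e IH (LK LD1_c13 LD2_c13 LD3_c12) (LK LD1_c6 LD2_c57 LD3_c47) Lrfl Lrfl
theorem f484723 : Led Lsl_dt (LP (LK LD1_c13 LD2_c13 LD3_c12)) = (LP (LK LD1_c22 LD2_c27 LD3_c18)) :=
  Lre_d IH (LK LD1_c13 LD2_c13 LD3_c12) (LK LD1_c22 LD2_c27 LD3_c18) Lrfl Lrfl
theorem f92884 : Led Lsl_dt (LP (LK LD1_c7 LD2_c34 LD3_c32)) = (LP (LK LD1_c14 LD2_c17 LD3_c3)) :=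
  Lre_d IH (LK LD1_c7 LD2_c34 LD3_c32) (LK LD1_c14 LD2_c17 LD3_c3) Lrfl Lrfl
theorem f532807 : Led Lsl_gf (LP (LK LD1_c22 LD2_c27 LD3_c18)) = (LP (LK LD1_c14 LD2_c17 LD3_c3)) :=
  Lgr Lrot134 (Lpe (f484723 IH) (Lpr_et (f492552 IH) (Lpe (K33.f492608 IH) (Lpe (f129535 IH) (Lpe (K6.f129532 IH) (Lpr_gt (K6.f130261 IH) (Lpe (K4.f12846 IH) (Lpr_et (f12836 IH) (Lpr_gt (f532801 IH) (Lpr_dt (f92884 IH) (Lpn (LP (LK LD1_c14 LD2_c17 LD3_c3)))))))))))))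
theorem f484731 : Led Lsl_dt (LP (LK LD1_c22 LD2_c27 LD3_c18)) = (LP (LK LD1_c13 LD2_c13 LD3_c12)) :=
  Lre_d IH (LK LD1_c22 LD2_c27 LD3_c18) (LK LD1_c13 LD2_c13 LD3_c12) Lrfl Lrfl
theorem f484732 : Led Lsl_ct (LP (LK LD1_c13 LD2_c13 LD3_c12)) = (LP (LK LD1_c22 LD2_c27 LD3_c3)) :=
  Lre_c IH (LK LD1_c13 LD2_c13 LD3_c12) (LK LD1_c22 LD2_c27 LD3_c3) Lrfl Lrfl
theorem f484683 : Led Lsl_df (LP (LK LD1_c6 LD2_c57 LD3_c41)) = (LP (LK LD1_c7 LD2_c24 LD3_c20)) :=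
  Lgr Lrot38 (Lpr_dt (f484675 IH) (Lpn (LP (LK LD1_c7 LD2_c24 LD3_c20))))
theorem f484699 : Led Lsl_bt (LP (LK LD1_c6 LD2_c57 LD3_c41)) = (LP (LK LD1_c13 LD2_c13 LD3_c3)) :=
  Lre_b IH (LK LD1_c6 LD2_c57 LD3_c41) (LK LD1_c13 LD2_c13 LD3_c3) Lrfl Lrfl
theorem f484700 : Led Lsl_bt (LP (LK LD1_c14 LD2_c0 LD3_c37)) = (LP (LK LD1_c7 LD2_c24 LD3_c20)) :=
  Lre_b IH (LK LD1_c14 LD2_c0 LD3_c37) (LK LD1_c7 LD2_c24 LD3_c20) Lrfl Lrfl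
theorem f484701 : Led Lsl_dt (LP (LK LD1_c13 LD2_c13 LD3_c3)) = (LP (LK LD1_c14 LD2_c0 LD3_c37)) :=
  Lgr Lrot79 (Lpe (f484699 IH) (Lpr_df (f484683 IH) (Lpe (f484700 IH) (Lpn (LP (LK LD1_c14 LD2_c0 LD3_c37))))))
theorem f484707 : Led Lsl_at (LP (LK LD1_c22 LD2_c27 LD3_c3)) = (LP (LK LD1_c13 LD2_c13 LD3_c3)) :=
  Lre_a IH (LK LD1_c22 LD2_c27 LD3_c3) (LK LD1_c13 LD2_c13 LD3_c3) Lrfl Lrfl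
theorem f484708 : Led Lsl_at (LP (LK LD1_c14 LD2_c0 LD3_c37)) = (LP (LK LD1_c23 LD2_c33 LD3_c17)) :=
  Lre_a IH (LK LD1_c14 LD2_c0 LD3_c37) (LK LD1_c23 LD2_c33 LD3_c17) Lrfl Lrfl
theorem f484709 : Led Lsl_df (LP (LK LD1_c22 LD2_c27 LD3_c3)) = (LP (LK LD1_c23 LD2_c33 LD3_c17)) :=
  Lgr Lrot18 (Lpr_at (f484707 IH) (Lpr_dt (f484701 IH) (Lpr_at (f484708 IH) (Lpn (LP (LK LD1_c23 LD2_c33 LD3_c17))))))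
theorem f12792 : Led Lsl_gt (LP (LK LD1_c7 LD2_c27 LD3_c38)) = (LP (LK LD1_c14 LD2_c5 LD3_c4)) :=
  Lre_g IH (LK LD1_c7 LD2_c27 LD3_c38) (LK LD1_c14 LD2_c5 LD3_c4) Lrfl Lrfl
theorem f12802 : Led Lsl_dt (LP (LK LD1_c14 LD2_c5 LD3_c4)) = (LP (LK LD1_c23 LD2_c38 LD3_c14)) :=
  Lre_d IH (LK LD1_c14 LD2_c5 LD3_c4) (LK LD1_c23 LD2_c38 LD3_c14) Lrfl Lrfl
theorem f532811 : Led Lsl_gf (LP (LK LD1_c23 LD2_c33 LD3_c17)) = (LP (LK LD1_c23 LD2_c38 LD3_c14)) :=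
  Lgr Lrot143 (Lpe (f484709 IH) (Lpe (f484732 IH) (Lpe (f484731 IH) (Lpr_gf (f532807 IH) (Lpe (f92884 IH) (Lpe (f532801 IH) (Lpe (K4.f12797 IH) (Lpr_gt (f12792 IH) (Lpr_dt (f12802 IH) (Lpn (LP (LK LD1_c23 LD2_c38 LD3_c14))))))))))))
theorem f484726 : Led Lsl_dt (LP (LK LD1_c22 LD2_c27 LD3_c3)) = (LP (LK LD1_c23 LD2_c33 LD3_c17)) :=
  Lgr Lrot42 (Lpr_df (f484709 IH) (Lpn (LP (LK LD1_c23 LD2_c33 LD3_c17))))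
theorem f484728 : Led Lsl_et (LP (LK LD1_c22 LD2_c27 LD3_c3)) = (LP (LK LD1_c13 LD2_c13 LD3_c1)) :=
  Lre_e IH (LK LD1_c22 LD2_c27 LD3_c3) (LK LD1_c13 LD2_c13 LD3_c1) Lrfl Lrfl
theorem f532813 : Led Lsl_gt (LP (LK LD1_c13 LD2_c13 LD3_c1)) = (LP (LK LD1_c14 LD2_c1 LD3_c44)) :=
  Lgr Lrot131 (Lpe (f484728 IH) (Lpr_dt (f484726 IH) (Lpr_gf (f532811 IH) (Lpe (f12802 IH) (Lpe (f12792 IH) (Lpe (K4.f12810 IH) (Lpe (K6.f144686 IH) (Lpr_gf (K6.f144675 IH) (Lpe (K6.f122714 IH) (Lpr_et (K6.f122715 IH) (Lpn (LP (LK LD1_c14 LD2_c1 LD3_c44)))))))))))))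
theorem f492613 : Led Lsl_ct (LP (LK LD1_c6 LD2_c57 LD3_c47)) = (LP (LK LD1_c13 LD2_c13 LD3_c1)) :=
  Lre_c IH (LK LD1_c6 LD2_c57 LD3_c47) (LK LD1_c13 LD2_c13 LD3_c1) Lrfl Lrfl
theorem f492611 : Led Lsl_gt (LP (LK LD1_c13 LD2_c7 LD3_c41)) = (LP (LK LD1_c6 LD2_c57 LD3_c47)) :=
  Lgr Lrot5 (Lpr_ft (K28.f465496 IH) (Lpe (K6.f129502 IH) (Lpr_gf (K33.f492608 IH) (Lpn (LP (LK LD1_c6 LD2_c57 LD3_c47))))))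
theorem f17370 : Led Lsl_ft (LP (LK LD1_c7 LD2_c37 LD3_c46)) = (LP (LK LD1_c14 LD2_c22 LD3_c45)) :=
  Lre_f IH (LK LD1_c7 LD2_c37 LD3_c46) (LK LD1_c14 LD2_c22 LD3_c45) Lrfl Lrfl
theorem f465498 : Led Lsl_bf (LP (LK LD1_c13 LD2_c7 LD3_c41)) = (LP (LK LD1_c14 LD2_c22 LD3_c45)) :=
  Lgr Lrot61 (Lpr_ft (K28.f465496 IH) (Lpr_bt (K28.f127915 IH) (Lpr_ft (f17370 IH) (Lpn (LP (LK LD1_c14 LD2_c22 LD3_c45))))))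
theorem f475391 : Led Lsl_af (LP (LK LD1_c3 LD2_c26 LD3_c14)) = (LP (LK LD1_c1 LD2_c40 LD3_c19)) :=
  Lgr Lrot117 (Lpr_dt (K29.f17061 IH) (Lpr_at (K32.f475382 IH) (Lpr_dt (K28.f457801 IH) (Lpn (LP (LK LD1_c1 LD2_c40 LD3_c19))))))
theorem f475435 : Led Lsl_ft (LP (LK LD1_c1 LD2_c52 LD3_c57)) = (LP (LK LD1_c1 LD2_c40 LD3_c19)) :=
  Lgr Lrot2 (Lpr_gt (K29.f457982 IH) (Lpr_gt (K29.f15760 IH) (Lpr_af (f475391 IH) (Lpn (LP (LK LD1_c1 LD2_c40 LD3_c19))))))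
theorem f475441 : Led Lsl_ff (LP (LK LD1_c3 LD2_c52 LD3_c37)) = (LP (LK LD1_c3 LD2_c27 LD3_c26)) :=
  Lgr Lrot19 (Lpr_dt (K29.f457994 IH) (Lpr_ft (f475435 IH) (Lpr_dt (K28.f15326 IH) (Lpn (LP (LK LD1_c3 LD2_c27 LD3_c26))))))
theorem f475448 : Led Lsl_ft (LP (LK LD1_c3 LD2_c52 LD3_c37)) = (LP (LK LD1_c3 LD2_c27 LD3_c26)) :=
  Lgr Lrot48 (Lpr_ff (f475441 IH) (Lpn (LP (LK LD1_c3 LD2_c27 LD3_c26))))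
theorem f475452 : Led Lsl_bt (LP (LK LD1_c7 LD2_c47 LD3_c3)) = (LP (LK LD1_c3 LD2_c52 LD3_c37)) :=
  Lre_b IH (LK LD1_c7 LD2_c47 LD3_c3) (LK LD1_c3 LD2_c52 LD3_c37) Lrfl Lrfl
theorem f472961 : Led Lsl_bt (LP (LK LD1_c3 LD2_c27 LD3_c26)) = (LP (LK LD1_c6 LD2_c56 LD3_c59)) :=
  Lre_b IH (LK LD1_c3 LD2_c27 LD3_c26) (LK LD1_c6 LD2_c56 LD3_c59) Lrfl Lrfl
theorem f475453 : Led Lsl_ff (LP (LK LD1_c7 LD2_c47 LD3_c3)) = (LP (LK LD1_c6 LD2_c56 LD3_c59)) :=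
  Lgr Lrot25 (Lpr_bt (f475452 IH) (Lpr_ft (f475448 IH) (Lpr_bt (f472961 IH) (Lpn (LP (LK LD1_c6 LD2_c56 LD3_c59))))))
theorem f458023 : Led Lsl_dt (LP (LK LD1_c7 LD2_c47 LD3_c3)) = (LP (LK LD1_c3 LD2_c52 LD3_c36)) :=
  Lre_d IH (LK LD1_c7 LD2_c47 LD3_c3) (LK LD1_c3 LD2_c52 LD3_c36) Lrfl Lrfl
theorem f457835 : Led Lsl_dt (LP (LK LD1_c3 LD2_c27 LD3_c25)) = (LP (LK LD1_c6 LD2_c56 LD3_c59)) :=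
  Lre_d IH (LK LD1_c3 LD2_c27 LD3_c25) (LK LD1_c6 LD2_c56 LD3_c59) Lrfl Lrfl
theorem f475461 : Led Lsl_ft (LP (LK LD1_c3 LD2_c52 LD3_c36)) = (LP (LK LD1_c3 LD2_c27 LD3_c25)) :=
  Lgr Lrot54 (Lpe (f458023 IH) (Lpr_ff (f475453 IH) (Lpe (f457835 IH) (Lpn (LP (LK LD1_c3 LD2_c27 LD3_c25))))))
theorem f458051 : Led Lsl_dt (LP (LK LD1_c3 LD2_c52 LD3_c36)) = (LP (LK LD1_c7 LD2_c47 LD3_c3)) :=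
  Lre_d IH (LK LD1_c3 LD2_c52 LD3_c36) (LK LD1_c7 LD2_c47 LD3_c3) Lrfl Lrfl
theorem f475458 : Led Lsl_ct (LP (LK LD1_c7 LD2_c47 LD3_c3)) = (LP (LK LD1_c14 LD2_c41 LD3_c17)) :=
  Lre_c IH (LK LD1_c7 LD2_c47 LD3_c3) (LK LD1_c14 LD2_c41 LD3_c17) Lrfl Lrfl
theorem f475482 : Led Lsl_dt (LP (LK LD1_c14 LD2_c41 LD3_c17)) = (LP (LK LD1_c24 LD2_c25 LD3_c52)) :=
  Lre_d IH (LK LD1_c14 LD2_c41 LD3_c17) (LK LD1_c24 LD2_c25 LD3_c52) Lrfl Lrfl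
theorem f457831 : Led Lsl_at (LP (LK LD1_c3 LD2_c27 LD3_c25)) = (LP (LK LD1_c6 LD2_c56 LD3_c58)) :=
  Lre_a IH (LK LD1_c3 LD2_c27 LD3_c25) (LK LD1_c6 LD2_c56 LD3_c58) Lrfl Lrfl
theorem f457810 : Led Lsl_bt (LP (LK LD1_c3 LD2_c27 LD3_c27)) = (LP (LK LD1_c6 LD2_c56 LD3_c60)) :=
  Lre_b IH (LK LD1_c3 LD2_c27 LD3_c27) (LK LD1_c6 LD2_c56 LD3_c60) Lrfl Lrfl
theorem f457814 : Led Lsl_bt (LP (LK LD1_c7 LD2_c37 LD3_c20)) = (LP (LK LD1_c3 LD2_c48 LD3_c8)) :=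
  Lre_b IH (LK LD1_c7 LD2_c37 LD3_c20) (LK LD1_c3 LD2_c48 LD3_c8) Lrfl Lrfl
theorem f457815 : Led Lsl_ct (LP (LK LD1_c6 LD2_c56 LD3_c60)) = (LP (LK LD1_c7 LD2_c37 LD3_c20)) :=
  Lgr Lrot83 (Lpe (f457810 IH) (Lpr_cf (f457806 IH) (Lpe (K29.f62983 IH) (Lpe (K29.f62974 IH) (Lpe (f457814 IH) (Lpn (LP (LK LD1_c7 LD2_c37 LD3_c20))))))))
theorem f457824 : Led Lsl_et (LP (LK LD1_c3 LD2_c27 LD3_c25)) = (LP (LK LD1_c6 LD2_c56 LD3_c60)) :=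
  Lre_e IH (LK LD1_c3 LD2_c27 LD3_c25) (LK LD1_c6 LD2_c56 LD3_c60) Lrfl Lrfl
theorem f457825 : Led Lsl_et (LP (LK LD1_c7 LD2_c37 LD3_c20)) = (LP (LK LD1_c3 LD2_c48 LD3_c6)) :=
  Lre_e IH (LK LD1_c7 LD2_c37 LD3_c20) (LK LD1_c3 LD2_c48 LD3_c6) Lrfl Lrfl
theorem f457826 : Led Lsl_cf (LP (LK LD1_c3 LD2_c27 LD3_c25)) = (LP (LK LD1_c3 LD2_c48 LD3_c6)) :=
  Lgr Lrot39 (Lpr_et (f457824 IH) (Lpr_ct (f457815 IH) (Lpr_et (f457825 IH) (Lpn (LP (LK LD1_c3 LD2_c48 LD3_c6))))))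
theorem f457832 : Led Lsl_at (LP (LK LD1_c7 LD2_c37 LD3_c18)) = (LP (LK LD1_c3 LD2_c48 LD3_c6)) :=
  Lre_a IH (LK LD1_c7 LD2_c37 LD3_c18) (LK LD1_c3 LD2_c48 LD3_c6) Lrfl Lrfl
theorem f457833 : Led Lsl_ct (LP (LK LD1_c6 LD2_c56 LD3_c58)) = (LP (LK LD1_c7 LD2_c37 LD3_c18)) :=
  Lgr Lrot111 (Lpe (f457831 IH) (Lpr_cf (f457826 IH) (Lpe (f457832 IH) (Lpn (LP (LK LD1_c7 LD2_c37 LD3_c18))))))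
theorem f457856 : Led Lsl_cf (LP (LK LD1_c6 LD2_c56 LD3_c58)) = (LP (LK LD1_c7 LD2_c37 LD3_c18)) :=
  Lgr Lrot11 (Lpr_ct (f457833 IH) (Lpn (LP (LK LD1_c7 LD2_c37 LD3_c18))))
theorem f457867 : Led Lsl_dt (LP (LK LD1_c14 LD2_c22 LD3_c8)) = (LP (LK LD1_c7 LD2_c37 LD3_c18)) :=
  Lre_d IH (LK LD1_c14 LD2_c22 LD3_c8) (LK LD1_c7 LD2_c37 LD3_c18) Lrfl Lrfl
theorem f457868 : Led Lsl_ct (LP (LK LD1_c24 LD2_c0 LD3_c14)) = (LP (LK LD1_c14 LD2_c22 LD3_c8)) :=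
  Lre_c IH (LK LD1_c24 LD2_c0 LD3_c14) (LK LD1_c14 LD2_c22 LD3_c8) Lrfl Lrfl
theorem f457871 : Led Lsl_dt (LP (LK LD1_c31 LD2_c18 LD3_c60)) = (LP (LK LD1_c24 LD2_c0 LD3_c14)) :=
  Lre_d IH (LK LD1_c31 LD2_c18 LD3_c60) (LK LD1_c24 LD2_c0 LD3_c14) Lrfl Lrfl
theorem f475483 : Led Lsl_ct (LP (LK LD1_c24 LD2_c25 LD3_c52)) = (LP (LK LD1_c31 LD2_c18 LD3_c60)) :=
  Lgr Lrot41 (Lpe (f475482 IH) (Lpe (f475458 IH) (Lpe (f458051 IH) (Lpr_ft (f475461 IH) (Lpr_at (f457831 IH) (Lpr_cf (f457856 IH) (Lpe (f457867 IH) (Lpe (f457868 IH) (Lpe (f457871 IH) (Lpn (LP (LK LD1_c31 LD2_c18 LD3_c60))))))))))))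
theorem f458072 : Led Lsl_ct (LP (LK LD1_c1 LD2_c52 LD3_c61)) = (LP (LK LD1_c3 LD2_c52 LD3_c36)) :=
  Lre_c IH (LK LD1_c1 LD2_c52 LD3_c61) (LK LD1_c3 LD2_c52 LD3_c36) Lrfl Lrfl
theorem f458073 : Led Lsl_dt (LP (LK LD1_c3 LD2_c52 LD3_c49)) = (LP (LK LD1_c1 LD2_c52 LD3_c61)) :=
  Lre_d IH (LK LD1_c3 LD2_c52 LD3_c49) (LK LD1_c1 LD2_c52 LD3_c61) Lrfl Lrfl
theorem f474945 : Led Lsl_at (LP (LK LD1_c7 LD2_c37 LD3_c19)) = (LP (LK LD1_c14 LD2_c22 LD3_c8)) :=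
  Lre_a IH (LK LD1_c7 LD2_c37 LD3_c19) (LK LD1_c14 LD2_c22 LD3_c8) Lrfl Lrfl
theorem f475494 : Led Lsl_ft (LP (LK LD1_c3 LD2_c52 LD3_c49)) = (LP (LK LD1_c7 LD2_c37 LD3_c19)) :=
  Lgr Lrot142 (Lpr_dt (f458073 IH) (Lpr_ct (f458072 IH) (Lpr_dt (f458051 IH) (Lpr_ct (f475458 IH) (Lpr_dt (f475482 IH) (Lpr_ct (f475483 IH) (Lpr_dt (f457871 IH) (Lpr_ct (f457868 IH) (Lpe (f474945 IH) (Lpn (LP (LK LD1_c7 LD2_c37 LD3_c19))))))))))))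
theorem f460076 : Led Lsl_ct (LP (LK LD1_c7 LD2_c47 LD3_c22)) = (LP (LK LD1_c3 LD2_c52 LD3_c49)) :=
  Lre_c IH (LK LD1_c7 LD2_c47 LD3_c22) (LK LD1_c3 LD2_c52 LD3_c49) Lrfl Lrfl
theorem f457898 : Led Lsl_ct (LP (LK LD1_c7 LD2_c37 LD3_c19)) = (LP (LK LD1_c14 LD2_c22 LD3_c12)) :=
  Lre_c IH (LK LD1_c7 LD2_c37 LD3_c19) (LK LD1_c14 LD2_c22 LD3_c12) Lrfl Lrfl
theorem f475500 : Led Lsl_ff (LP (LK LD1_c7 LD2_c47 LD3_c22)) = (LP (LK LD1_c14 LD2_c22 LD3_c12)) :=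
  Lgr Lrot23 (Lpr_ct (f460076 IH) (Lpr_ft (f475494 IH) (Lpr_ct (f457898 IH) (Lpn (LP (LK LD1_c14 LD2_c22 LD3_c12))))))
theorem f475522 : Led Lsl_ft (LP (LK LD1_c7 LD2_c47 LD3_c22)) = (LP (LK LD1_c14 LD2_c22 LD3_c12)) :=
  Lgr Lrot48 (Lpr_ff (f475500 IH) (Lpn (LP (LK LD1_c14 LD2_c22 LD3_c12))))
theorem f475519 : Led Lsl_dt (LP (LK LD1_c7 LD2_c47 LD3_c22)) = (LP (LK LD1_c14 LD2_c41 LD3_c53)) :=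
  Lre_d IH (LK LD1_c7 LD2_c47 LD3_c22) (LK LD1_c14 LD2_c41 LD3_c53) Lrfl Lrfl
theorem f475550 : Led Lsl_ct (LP (LK LD1_c14 LD2_c41 LD3_c53)) = (LP (LK LD1_c24 LD2_c26 LD3_c46)) :=
  Lre_c IH (LK LD1_c14 LD2_c41 LD3_c53) (LK LD1_c24 LD2_c26 LD3_c46) Lrfl Lrfl
theorem f457866 : Led Lsl_at (LP (LK LD1_c14 LD2_c22 LD3_c12)) = (LP (LK LD1_c24 LD2_c0 LD3_c14)) :=
  Lre_a IH (LK LD1_c14 LD2_c22 LD3_c12) (LK LD1_c24 LD2_c0 LD3_c14) Lrfl Lrfl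
theorem f457861 : Led Lsl_ct (LP (LK LD1_c14 LD2_c22 LD3_c8)) = (LP (LK LD1_c24 LD2_c0 LD3_c14)) :=
  Lre_c IH (LK LD1_c14 LD2_c22 LD3_c8) (LK LD1_c24 LD2_c0 LD3_c14) Lrfl Lrfl
theorem f457860 : Led Lsl_dt (LP (LK LD1_c7 LD2_c37 LD3_c18)) = (LP (LK LD1_c14 LD2_c22 LD3_c8)) :=
  Lre_d IH (LK LD1_c7 LD2_c37 LD3_c18) (LK LD1_c14 LD2_c22 LD3_c8) Lrfl Lrfl
theorem f457858 : Led Lsl_dt (LP (LK LD1_c13 LD2_c11 LD3_c40)) = (LP (LK LD1_c6 LD2_c56 LD3_c58)) :=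
  Lre_d IH (LK LD1_c13 LD2_c11 LD3_c40) (LK LD1_c6 LD2_c56 LD3_c58) Lrfl Lrfl
theorem f457859 : Led Lsl_ct (LP (LK LD1_c22 LD2_c24 LD3_c30)) = (LP (LK LD1_c13 LD2_c11 LD3_c40)) :=
  Lre_c IH (LK LD1_c22 LD2_c24 LD3_c30) (LK LD1_c13 LD2_c11 LD3_c40) Lrfl Lrfl
theorem f475551 : Led Lsl_dt (LP (LK LD1_c24 LD2_c26 LD3_c46)) = (LP (LK LD1_c22 LD2_c24 LD3_c30)) :=
  Lgr Lrot32 (Lpe (f475550 IH) (Lpe (f475519 IH) (Lpr_ft (f475522 IH) (Lpr_at (f457866 IH) (Lpe (f457861 IH) (Lpe (f457860 IH) (Lpe (f457833 IH) (Lpe (f457858 IH) (Lpe (f457859 IH) (Lpn (LP (LK LD1_c22 LD2_c24 LD3_c30))))))))))))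
theorem f457842 : Led Lsl_at (LP (LK LD1_c22 LD2_c24 LD3_c30)) = (LP (LK LD1_c13 LD2_c11 LD3_c44)) :=
  Lre_a IH (LK LD1_c22 LD2_c24 LD3_c30) (LK LD1_c13 LD2_c11 LD3_c44) Lrfl Lrfl
theorem f457837 : Led Lsl_dt (LP (LK LD1_c13 LD2_c11 LD3_c44)) = (LP (LK LD1_c22 LD2_c24 LD3_c40)) :=
  Lre_d IH (LK LD1_c13 LD2_c11 LD3_c44) (LK LD1_c22 LD2_c24 LD3_c40) Lrfl Lrfl
theorem f475553 : Led Lsl_af (LP (LK LD1_c24 LD2_c26 LD3_c46)) = (LP (LK LD1_c22 LD2_c24 LD3_c40)) :=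
  Lgr Lrot117 (Lpr_dt (f475551 IH) (Lpr_at (f457842 IH) (Lpr_dt (f457837 IH) (Lpn (LP (LK LD1_c22 LD2_c24 LD3_c40))))))
theorem f463824 : Led Lsl_ct (LP (LK LD1_c3 LD2_c52 LD3_c49)) = (LP (LK LD1_c7 LD2_c47 LD3_c22)) :=
  Lre_c IH (LK LD1_c3 LD2_c52 LD3_c49) (LK LD1_c7 LD2_c47 LD3_c22) Lrfl Lrfl
theorem f475502 : Led Lsl_dt (LP (LK LD1_c1 LD2_c52 LD3_c61)) = (LP (LK LD1_c3 LD2_c52 LD3_c49)) :=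
  Lre_d IH (LK LD1_c1 LD2_c52 LD3_c61) (LK LD1_c3 LD2_c52 LD3_c49) Lrfl Lrfl
theorem f457988 : Led Lsl_ct (LP (LK LD1_c3 LD2_c52 LD3_c36)) = (LP (LK LD1_c1 LD2_c52 LD3_c61)) :=
  Lre_c IH (LK LD1_c3 LD2_c52 LD3_c36) (LK LD1_c1 LD2_c52 LD3_c61) Lrfl Lrfl
theorem f475555 : Led Lsl_ct (LP (LK LD1_c14 LD2_c41 LD3_c17)) = (LP (LK LD1_c7 LD2_c47 LD3_c3)) :=
  Lre_c IH (LK LD1_c14 LD2_c41 LD3_c17) (LK LD1_c7 LD2_c47 LD3_c3) Lrfl Lrfl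
theorem f475556 : Led Lsl_dt (LP (LK LD1_c24 LD2_c25 LD3_c52)) = (LP (LK LD1_c14 LD2_c41 LD3_c17)) :=
  Lre_d IH (LK LD1_c24 LD2_c25 LD3_c52) (LK LD1_c14 LD2_c41 LD3_c17) Lrfl Lrfl
theorem f475570 : Led Lsl_ft (LP (LK LD1_c24 LD2_c25 LD3_c52)) = (LP (LK LD1_c22 LD2_c24 LD3_c40)) :=
  Lgr Lrot142 (Lpr_dt (f475556 IH) (Lpr_ct (f475555 IH) (Lpr_dt (f458023 IH) (Lpr_ct (f457988 IH) (Lpr_dt (f475502 IH) (Lpr_ct (f463824 IH) (Lpr_dt (f475519 IH) (Lpr_ct (f475550 IH) (Lpr_af (f475553 IH) (Lpn (LP (LK LD1_c22 LD2_c24 LD3_c40))))))))))))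
theorem f457896 : Led Lsl_dt (LP (LK LD1_c22 LD2_c24 LD3_c40)) = (LP (LK LD1_c13 LD2_c11 LD3_c44)) :=
  Lre_d IH (LK LD1_c22 LD2_c24 LD3_c40) (LK LD1_c13 LD2_c11 LD3_c44) Lrfl Lrfl
theorem f475573 : Led Lsl_ff (LP (LK LD1_c14 LD2_c41 LD3_c17)) = (LP (LK LD1_c13 LD2_c11 LD3_c44)) :=
  Lgr Lrot19 (Lpr_dt (f475482 IH) (Lpr_ft (f475570 IH) (Lpr_dt (f457896 IH) (Lpn (LP (LK LD1_c13 LD2_c11 LD3_c44))))))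
theorem f475594 : Led Lsl_at (LP (LK LD1_c14 LD2_c41 LD3_c17)) = (LP (LK LD1_c24 LD2_c25 LD3_c45)) :=
  Lre_a IH (LK LD1_c14 LD2_c41 LD3_c17) (LK LD1_c24 LD2_c25 LD3_c45) Lrfl Lrfl
theorem f475598 : Led Lsl_ft (LP (LK LD1_c24 LD2_c25 LD3_c45)) = (LP (LK LD1_c22 LD2_c24 LD3_c30)) :=
  Lgr Lrot101 (Lpe (f475594 IH) (Lpr_ff (f475573 IH) (Lpe (f457842 IH) (Lpn (LP (LK LD1_c22 LD2_c24 LD3_c30))))))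
theorem f475474 : Led Lsl_ct (LP (LK LD1_c14 LD2_c41 LD3_c13)) = (LP (LK LD1_c24 LD2_c25 LD3_c45)) :=
  Lre_c IH (LK LD1_c14 LD2_c41 LD3_c13) (LK LD1_c24 LD2_c25 LD3_c45) Lrfl Lrfl
theorem f475609 : Led Lsl_ff (LP (LK LD1_c14 LD2_c41 LD3_c13)) = (LP (LK LD1_c13 LD2_c11 LD3_c40)) :=
  Lgr Lrot23 (Lpr_ct (f475474 IH) (Lpr_ft (f475598 IH) (Lpr_ct (f457859 IH) (Lpn (LP (LK LD1_c13 LD2_c11 LD3_c40))))))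
theorem f458047 : Led Lsl_dt (LP (LK LD1_c14 LD2_c41 LD3_c13)) = (LP (LK LD1_c7 LD2_c47 LD3_c2)) :=
  Lre_d IH (LK LD1_c14 LD2_c41 LD3_c13) (LK LD1_c7 LD2_c47 LD3_c2) Lrfl Lrfl
theorem f457869 : Led Lsl_dt (LP (LK LD1_c6 LD2_c56 LD3_c58)) = (LP (LK LD1_c13 LD2_c11 LD3_c40)) :=
  Lre_d IH (LK LD1_c6 LD2_c56 LD3_c58) (LK LD1_c13 LD2_c11 LD3_c40) Lrfl Lrfl
theorem f475628 : Led Lsl_ft (LP (LK LD1_c7 LD2_c47 LD3_c2)) = (LP (LK LD1_c6 LD2_c56 LD3_c58)) :=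
  Lgr Lrot54 (Lpe (f458047 IH) (Lpr_ff (f475609 IH) (Lpe (f457869 IH) (Lpn (LP (LK LD1_c6 LD2_c56 LD3_c58))))))
theorem f475472 : Led Lsl_ct (LP (LK LD1_c3 LD2_c52 LD3_c48)) = (LP (LK LD1_c7 LD2_c47 LD3_c2)) :=
  Lre_c IH (LK LD1_c3 LD2_c52 LD3_c48) (LK LD1_c7 LD2_c47 LD3_c2) Lrfl Lrfl
theorem f475642 : Led Lsl_ff (LP (LK LD1_c3 LD2_c52 LD3_c48)) = (LP (LK LD1_c7 LD2_c37 LD3_c18)) :=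
  Lgr Lrot23 (Lpr_ct (f475472 IH) (Lpr_ft (f475628 IH) (Lpr_ct (f457833 IH) (Lpn (LP (LK LD1_c7 LD2_c37 LD3_c18))))))
theorem f475656 : Led Lsl_ft (LP (LK LD1_c3 LD2_c52 LD3_c48)) = (LP (LK LD1_c7 LD2_c37 LD3_c18)) :=
  Lgr Lrot48 (Lpr_ff (f475642 IH) (Lpn (LP (LK LD1_c7 LD2_c37 LD3_c18))))
theorem f466934 : Led Lsl_bt (LP (LK LD1_c1 LD2_c53 LD3_c13)) = (LP (LK LD1_c3 LD2_c53 LD3_c16)) :=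
  Lre_b IH (LK LD1_c1 LD2_c53 LD3_c13) (LK LD1_c3 LD2_c53 LD3_c16) Lrfl Lrfl
theorem f474285 : Led Lsl_at (LP (LK LD1_c3 LD2_c53 LD3_c16)) = (LP (LK LD1_c7 LD2_c48 LD3_c7)) :=
  Lre_a IH (LK LD1_c3 LD2_c53 LD3_c16) (LK LD1_c7 LD2_c48 LD3_c7) Lrfl Lrfl
theorem f457828 : Led Lsl_at (LP (LK LD1_c14 LD2_c22 LD3_c9)) = (LP (LK LD1_c7 LD2_c37 LD3_c20)) :=
  Lre_a IH (LK LD1_c14 LD2_c22 LD3_c9) (LK LD1_c7 LD2_c37 LD3_c20) Lrfl Lrfl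
theorem f474286 : Led Lsl_bt (LP (LK LD1_c7 LD2_c48 LD3_c7)) = (LP (LK LD1_c14 LD2_c22 LD3_c9)) :=
  Lgr Lrot62 (Lpe (f474285 IH) (Lpe (f466934 IH) (Lpr_af (K29.f474281 IH) (Lpe (f457814 IH) (Lpe (f457828 IH) (Lpn (LP (LK LD1_c14 LD2_c22 LD3_c9))))))))
theorem f474928 : Led Lsl_et (LP (LK LD1_c3 LD2_c53 LD3_c14)) = (LP (LK LD1_c7 LD2_c48 LD3_c7)) :=
  Lre_e IH (LK LD1_c3 LD2_c53 LD3_c14) (LK LD1_c7 LD2_c48 LD3_c7) Lrfl Lrfl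
theorem f457873 : Led Lsl_et (LP (LK LD1_c14 LD2_c22 LD3_c9)) = (LP (LK LD1_c7 LD2_c37 LD3_c18)) :=
  Lre_e IH (LK LD1_c14 LD2_c22 LD3_c9) (LK LD1_c7 LD2_c37 LD3_c18) Lrfl Lrfl
theorem f474929 : Led Lsl_bf (LP (LK LD1_c3 LD2_c53 LD3_c14)) = (LP (LK LD1_c7 LD2_c37 LD3_c18)) :=
  Lgr Lrot96 (Lpr_et (f474928 IH) (Lpr_bt (f474286 IH) (Lpr_et (f457873 IH) (Lpn (LP (LK LD1_c7 LD2_c37 LD3_c18))))))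
theorem f129859 : Led Lsl_at (LP (LK LD1_c7 LD2_c37 LD3_c10)) = (LP (LK LD1_c3 LD2_c48 LD3_c2)) :=
  Lre_a IH (LK LD1_c7 LD2_c37 LD3_c10) (LK LD1_c3 LD2_c48 LD3_c2) Lrfl Lrfl
theorem f475029 : Led Lsl_ff (LP (LK LD1_c7 LD2_c37 LD3_c10)) = (LP (LK LD1_c3 LD2_c53 LD3_c14)) :=
  Lgr Lrot30 (Lpr_at (f129859 IH) (Lpr_ft (K29.f475018 IH) (Lpr_at (K29.f474937 IH) (Lpn (LP (LK LD1_c3 LD2_c53 LD3_c14))))))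
theorem f475659 : Led Lsl_bf (LP (LK LD1_c3 LD2_c52 LD3_c48)) = (LP (LK LD1_c7 LD2_c37 LD3_c10)) :=
  Lgr Lrot61 (Lpr_ft (f475656 IH) (Lpe (f474929 IH) (Lpe (f475029 IH) (Lpn (LP (LK LD1_c7 LD2_c37 LD3_c10))))))
theorem f475527 : Led Lsl_dt (LP (LK LD1_c3 LD2_c52 LD3_c48)) = (LP (LK LD1_c7 LD2_c47 LD3_c18)) :=
  Lre_d IH (LK LD1_c3 LD2_c52 LD3_c48) (LK LD1_c7 LD2_c47 LD3_c18) Lrfl Lrfl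
theorem f129886 : Led Lsl_dt (LP (LK LD1_c14 LD2_c21 LD3_c53)) = (LP (LK LD1_c7 LD2_c37 LD3_c10)) :=
  Lre_d IH (LK LD1_c14 LD2_c21 LD3_c53) (LK LD1_c7 LD2_c37 LD3_c10) Lrfl Lrfl
theorem f475767 : Led Lsl_bt (LP (LK LD1_c7 LD2_c47 LD3_c18)) = (LP (LK LD1_c14 LD2_c21 LD3_c53)) :=
  Lgr Lrot95 (Lpe (f475527 IH) (Lpr_bf (f475659 IH) (Lpe (f129886 IH) (Lpn (LP (LK LD1_c14 LD2_c21 LD3_c53))))))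
theorem f475770 : Led Lsl_bf (LP (LK LD1_c7 LD2_c47 LD3_c18)) = (LP (LK LD1_c14 LD2_c21 LD3_c53)) :=
  Lgr Lrot24 (Lpr_bt (f475767 IH) (Lpn (LP (LK LD1_c14 LD2_c21 LD3_c53))))
theorem f475651 : Led Lsl_ft (LP (LK LD1_c7 LD2_c47 LD3_c18)) = (LP (LK LD1_c14 LD2_c22 LD3_c8)) :=
  Lgr Lrot54 (Lpe (f475527 IH) (Lpr_ff (f475642 IH) (Lpe (f457867 IH) (Lpn (LP (LK LD1_c14 LD2_c22 LD3_c8))))))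
theorem f474933 : Led Lsl_bt (LP (LK LD1_c3 LD2_c53 LD3_c14)) = (LP (LK LD1_c7 LD2_c37 LD3_c18)) :=
  Lgr Lrot127 (Lpr_bf (f474929 IH) (Lpn (LP (LK LD1_c7 LD2_c37 LD3_c18))))
theorem f474939 : Led Lsl_dt (LP (LK LD1_c7 LD2_c48 LD3_c6)) = (LP (LK LD1_c3 LD2_c53 LD3_c14)) :=
  Lre_d IH (LK LD1_c7 LD2_c48 LD3_c6) (LK LD1_c3 LD2_c53 LD3_c14) Lrfl Lrfl
theorem f474940 : Led Lsl_bf (LP (LK LD1_c7 LD2_c48 LD3_c6)) = (LP (LK LD1_c14 LD2_c22 LD3_c8)) :=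
  Lgr Lrot93 (Lpr_dt (f474939 IH) (Lpr_bt (f474933 IH) (Lpr_dt (f457860 IH) (Lpn (LP (LK LD1_c14 LD2_c22 LD3_c8))))))
theorem f475784 : Led Lsl_ft (LP (LK LD1_c7 LD2_c48 LD3_c6)) = (LP (LK LD1_c14 LD2_c21 LD3_c53)) :=
  Lgr Lrot75 (Lpr_bf (f474940 IH) (Lpe (f475651 IH) (Lpr_bf (f475770 IH) (Lpn (LP (LK LD1_c14 LD2_c21 LD3_c53))))))
theorem f474936 : Led Lsl_dt (LP (LK LD1_c3 LD2_c53 LD3_c14)) = (LP (LK LD1_c7 LD2_c48 LD3_c6)) :=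
  Lre_d IH (LK LD1_c3 LD2_c53 LD3_c14) (LK LD1_c7 LD2_c48 LD3_c6) Lrfl Lrfl
theorem f475788 : Led Lsl_ff (LP (LK LD1_c3 LD2_c53 LD3_c14)) = (LP (LK LD1_c7 LD2_c37 LD3_c10)) :=
  Lgr Lrot19 (Lpr_dt (f474936 IH) (Lpr_ft (f475784 IH) (Lpr_dt (f129886 IH) (Lpn (LP (LK LD1_c7 LD2_c37 LD3_c10))))))
theorem f474932 : Led Lsl_at (LP (LK LD1_c3 LD2_c53 LD3_c14)) = (LP (LK LD1_c1 LD2_c53 LD3_c11)) :=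
  Lre_a IH (LK LD1_c3 LD2_c53 LD3_c14) (LK LD1_c1 LD2_c53 LD3_c11) Lrfl Lrfl
theorem f475796 : Led Lsl_gf (LP (LK LD1_c3 LD2_c53 LD3_c13)) = (LP (LK LD1_c7 LD2_c37 LD3_c10)) :=
  Lgr Lrot47 (Lpr_gt (f464870 IH) (Lpe (f474932 IH) (Lpr_ff (f475788 IH) (Lpn (LP (LK LD1_c7 LD2_c37 LD3_c10))))))
theorem f17392 : Led Lsl_gt (LP (LK LD1_c3 LD2_c36 LD3_c47)) = (LP (LK LD1_c7 LD2_c13 LD3_c46)) :=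
  Lre_g IH (LK LD1_c3 LD2_c36 LD3_c47) (LK LD1_c7 LD2_c13 LD3_c46) Lrfl Lrfl
theorem f461982 : Led Lsl_ct (LP (LK LD1_c3 LD2_c48 LD3_c2)) = (LP (LK LD1_c7 LD2_c13 LD3_c35)) :=
  Lgr Lrot59 (Lpr_cf (K29.f461976 IH) (Lpn (LP (LK LD1_c7 LD2_c13 LD3_c35))))
theorem f461989 : Led Lsl_at (LP (LK LD1_c7 LD2_c13 LD3_c35)) = (LP (LK LD1_c13 LD2_c40 LD3_c44)) :=
  Lre_a IH (LK LD1_c7 LD2_c13 LD3_c35) (LK LD1_c13 LD2_c40 LD3_c44) Lrfl Lrfl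
theorem f461990 : Led Lsl_cf (LP (LK LD1_c7 LD2_c37 LD3_c10)) = (LP (LK LD1_c13 LD2_c40 LD3_c44)) :=
  Lgr Lrot1 (Lpr_at (f129859 IH) (Lpr_ct (f461982 IH) (Lpr_at (f461989 IH) (Lpn (LP (LK LD1_c13 LD2_c40 LD3_c44))))))
theorem f475801 : Led Lsl_bf (LP (LK LD1_c7 LD2_c13 LD3_c46)) = (LP (LK LD1_c13 LD2_c40 LD3_c44)) :=
  Lgr Lrot34 (Lpe (f17392 IH) (Lpe (K28.f17321 IH) (Lpr_ct (K28.f17379 IH) (Lpe (K29.f17442 IH) (Lpe (K30.f107950 IH) (Lpr_gf (K32.f471378 IH) (Lpe (K28.f97341 IH) (Lpe (f471454 IH) (Lpr_gf (f475796 IH) (Lpr_cf (f461990 IH) (Lpn (LP (LK LD1_c13 LD2_c40 LD3_c44)))))))))))))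
theorem f461979 : Led Lsl_at (LP (LK LD1_c13 LD2_c40 LD3_c44)) = (LP (LK LD1_c7 LD2_c13 LD3_c35)) :=
  Lre_a IH (LK LD1_c13 LD2_c40 LD3_c44) (LK LD1_c7 LD2_c13 LD3_c35) Lrfl Lrfl
theorem f475069 : Led Lsl_ff (LP (LK LD1_c13 LD2_c40 LD3_c44)) = (LP (LK LD1_c7 LD2_c47 LD3_c58)) :=
  Lgr Lrot30 (Lpr_at (f461979 IH) (Lpr_ft (K29.f475065 IH) (Lpr_at (K29.f475064 IH) (Lpn (LP (LK LD1_c7 LD2_c47 LD3_c58))))))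
theorem f475098 : Led Lsl_at (LP (LK LD1_c7 LD2_c13 LD3_c37)) = (LP (LK LD1_c13 LD2_c40 LD3_c48)) :=
  Lre_a IH (LK LD1_c7 LD2_c13 LD3_c37) (LK LD1_c13 LD2_c40 LD3_c48) Lrfl Lrfl
theorem f475099 : Led Lsl_at (LP (LK LD1_c7 LD2_c47 LD3_c58)) = (LP (LK LD1_c3 LD2_c53 LD3_c4)) :=
  Lre_a IH (LK LD1_c7 LD2_c47 LD3_c58) (LK LD1_c3 LD2_c53 LD3_c4) Lrfl Lrfl
theorem f475100 : Led Lsl_bt (LP (LK LD1_c13 LD2_c40 LD3_c48)) = (LP (LK LD1_c7 LD2_c47 LD3_c58)) :=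
  Lgr Lrot62 (Lpe (f475098 IH) (Lpe (K32.f475097 IH) (Lpr_af (K29.f475093 IH) (Lpe (K29.f458605 IH) (Lpe (f475099 IH) (Lpn (LP (LK LD1_c7 LD2_c47 LD3_c58))))))))
theorem f475812 : Led Lsl_ft (LP (LK LD1_c7 LD2_c13 LD3_c46)) = (LP (LK LD1_c13 LD2_c40 LD3_c48)) :=
  Lgr Lrot75 (Lpr_bf (f475801 IH) (Lpr_ff (f475069 IH) (Lpe (f475100 IH) (Lpn (LP (LK LD1_c13 LD2_c40 LD3_c48))))))
theorem f475206 : Led Lsl_at (LP (LK LD1_c13 LD2_c40 LD3_c48)) = (LP (LK LD1_c7 LD2_c13 LD3_c37)) :=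
  Lre_a IH (LK LD1_c13 LD2_c40 LD3_c48) (LK LD1_c7 LD2_c13 LD3_c37) Lrfl Lrfl
theorem f475821 : Led Lsl_gt (LP (LK LD1_c13 LD2_c40 LD3_c47)) = (LP (LK LD1_c7 LD2_c13 LD3_c37)) :=
  Lre_g IH (LK LD1_c13 LD2_c40 LD3_c47) (LK LD1_c7 LD2_c13 LD3_c37) Lrfl Lrfl
theorem f475822 : Led Lsl_gt (LP (LK LD1_c7 LD2_c13 LD3_c46)) = (LP (LK LD1_c13 LD2_c40 LD3_c47)) :=
  Lgr Lrot5 (Lpr_ft (f475812 IH) (Lpr_at (f475206 IH) (Lpe (f475821 IH) (Lpn (LP (LK LD1_c13 LD2_c40 LD3_c47))))))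
theorem f471474 : Led Lsl_af (LP (LK LD1_c3 LD2_c53 LD3_c13)) = (LP (LK LD1_c7 LD2_c37 LD3_c9)) :=
  Lgr Lrot45 (Lpr_ft (f471466 IH) (Lpr_at (K28.f425125 IH) (Lpe (K29.f470954 IH) (Lpn (LP (LK LD1_c7 LD2_c37 LD3_c9))))))
theorem f475799 : Led Lsl_gt (LP (LK LD1_c3 LD2_c49 LD3_c18)) = (LP (LK LD1_c7 LD2_c37 LD3_c10)) :=
  Lgr Lrot5 (Lpe (K29.f470954 IH) (Lpe (f471474 IH) (Lpr_gf (f475796 IH) (Lpn (LP (LK LD1_c7 LD2_c37 LD3_c10))))))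
theorem f475828 : Led Lsl_bt (LP (LK LD1_c13 LD2_c29 LD3_c14)) = (LP (LK LD1_c13 LD2_c40 LD3_c47)) :=
  Lgr Lrot92 (Lpe (K29.f11785 IH) (Lpr_gt (K29.f11800 IH) (Lpe (K29.f465511 IH) (Lpe (K29.f472115 IH) (Lpr_gt (K29.f425490 IH) (Lpr_ct (K29.f425131 IH) (Lpr_gt (f475799 IH) (Lpr_cf (f461990 IH) (Lpe (f475801 IH) (Lpr_gt (f475822 IH) (Lpn (LP (LK LD1_c13 LD2_c40 LD3_c47)))))))))))))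
theorem f475836 : Led Lsl_ff (LP (LK LD1_c7 LD2_c13 LD3_c45)) = (LP (LK LD1_c13 LD2_c40 LD3_c47)) :=
  Lgr Lrot25 (Lpr_bt (K28.f160448 IH) (Lpr_ft (K29.f11784 IH) (Lpr_bt (f475828 IH) (Lpn (LP (LK LD1_c13 LD2_c40 LD3_c47))))))
theorem f475847 : Led Lsl_ct (LP (LK LD1_c14 LD2_c22 LD3_c45)) = (LP (LK LD1_c13 LD2_c40 LD3_c47)) :=
  Lgr Lrot40 (Lpe (f17370 IH) (Lpe (K28.f17376 IH) (Lpr_ff (f475836 IH) (Lpn (LP (LK LD1_c13 LD2_c40 LD3_c47))))))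
theorem f464475 : Led Lsl_et (LP (LK LD1_c13 LD2_c7 LD3_c29)) = (LP (LK LD1_c6 LD2_c54 LD3_c25)) :=
  Lre_e IH (LK LD1_c13 LD2_c7 LD3_c29) (LK LD1_c6 LD2_c54 LD3_c25) Lrfl Lrfl
theorem f475393 : Led Lsl_et (LP (LK LD1_c3 LD2_c27 LD3_c26)) = (LP (LK LD1_c6 LD2_c57 LD3_c0)) :=
  Lre_e IH (LK LD1_c3 LD2_c27 LD3_c26) (LK LD1_c6 LD2_c57 LD3_c0) Lrfl Lrfl
theorem f475394 : Led Lsl_af (LP (LK LD1_c13 LD2_c7 LD3_c29)) = (LP (LK LD1_c6 LD2_c57 LD3_c0)) :=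
  Lgr Lrot50 (Lpr_et (f464475 IH) (Lpr_at (K32.f475382 IH) (Lpr_et (f475393 IH) (Lpn (LP (LK LD1_c6 LD2_c57 LD3_c0))))))
theorem f475398 : Led Lsl_bt (LP (LK LD1_c13 LD2_c7 LD3_c29)) = (LP (LK LD1_c22 LD2_c19 LD3_c27)) :=
  Lre_b IH (LK LD1_c13 LD2_c7 LD3_c29) (LK LD1_c22 LD2_c19 LD3_c27) Lrfl Lrfl
theorem f475399 : Led Lsl_at (LP (LK LD1_c22 LD2_c19 LD3_c27)) = (LP (LK LD1_c30 LD2_c25 LD3_c39)) :=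
  Lre_a IH (LK LD1_c22 LD2_c19 LD3_c27) (LK LD1_c30 LD2_c25 LD3_c39) Lrfl Lrfl
theorem f475400 : Led Lsl_bt (LP (LK LD1_c13 LD2_c11 LD3_c45)) = (LP (LK LD1_c6 LD2_c57 LD3_c0)) :=
  Lre_b IH (LK LD1_c13 LD2_c11 LD3_c45) (LK LD1_c6 LD2_c57 LD3_c0) Lrfl Lrfl
theorem f475401 : Led Lsl_at (LP (LK LD1_c22 LD2_c24 LD3_c31)) = (LP (LK LD1_c13 LD2_c11 LD3_c45)) :=
  Lre_a IH (LK LD1_c22 LD2_c24 LD3_c31) (LK LD1_c13 LD2_c11 LD3_c45) Lrfl Lrfl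
theorem f475402 : Led Lsl_bt (LP (LK LD1_c30 LD2_c25 LD3_c39)) = (LP (LK LD1_c22 LD2_c24 LD3_c31)) :=
  Lgr Lrot62 (Lpe (f475399 IH) (Lpe (f475398 IH) (Lpr_af (f475394 IH) (Lpe (f475400 IH) (Lpe (f475401 IH) (Lpn (LP (LK LD1_c22 LD2_c24 LD3_c31))))))))
theorem f475407 : Led Lsl_bf (LP (LK LD1_c30 LD2_c25 LD3_c39)) = (LP (LK LD1_c22 LD2_c24 LD3_c31)) :=
  Lgr Lrot24 (Lpr_bt (f475402 IH) (Lpn (LP (LK LD1_c22 LD2_c24 LD3_c31))))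
theorem f475416 : Led Lsl_et (LP (LK LD1_c30 LD2_c25 LD3_c39)) = (LP (LK LD1_c22 LD2_c19 LD3_c24)) :=
  Lre_e IH (LK LD1_c30 LD2_c25 LD3_c39) (LK LD1_c22 LD2_c19 LD3_c24) Lrfl Lrfl
theorem f475417 : Led Lsl_et (LP (LK LD1_c13 LD2_c11 LD3_c40)) = (LP (LK LD1_c22 LD2_c24 LD3_c31)) :=
  Lre_e IH (LK LD1_c13 LD2_c11 LD3_c40) (LK LD1_c22 LD2_c24 LD3_c31) Lrfl Lrfl
theorem f475418 : Led Lsl_bt (LP (LK LD1_c22 LD2_c19 LD3_c24)) = (LP (LK LD1_c13 LD2_c11 LD3_c40)) :=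
  Lgr Lrot119 (Lpe (f475416 IH) (Lpr_bf (f475407 IH) (Lpe (f475417 IH) (Lpn (LP (LK LD1_c13 LD2_c11 LD3_c40))))))
theorem f475357 : Led Lsl_dt (LP (LK LD1_c13 LD2_c7 LD3_c26)) = (LP (LK LD1_c22 LD2_c19 LD3_c24)) :=
  Lre_d IH (LK LD1_c13 LD2_c7 LD3_c26) (LK LD1_c22 LD2_c19 LD3_c24) Lrfl Lrfl
theorem f475423 : Led Lsl_bf (LP (LK LD1_c13 LD2_c7 LD3_c26)) = (LP (LK LD1_c6 LD2_c56 LD3_c58)) :=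
  Lgr Lrot93 (Lpr_dt (f475357 IH) (Lpr_bt (f475418 IH) (Lpr_dt (f457858 IH) (Lpn (LP (LK LD1_c6 LD2_c56 LD3_c58))))))
theorem f475429 : Led Lsl_ct (LP (LK LD1_c13 LD2_c7 LD3_c26)) = (LP (LK LD1_c13 LD2_c40 LD3_c48)) :=
  Lgr Lrot83 (Lpr_bf (f475423 IH) (Lpr_cf (f457856 IH) (Lpe (f474933 IH) (Lpe (K29.f474938 IH) (Lpe (f475100 IH) (Lpn (LP (LK LD1_c13 LD2_c40 LD3_c48))))))))
theorem f475431 : Led Lsl_cf (LP (LK LD1_c13 LD2_c7 LD3_c26)) = (LP (LK LD1_c13 LD2_c40 LD3_c48)) :=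
  Lgr Lrot11 (Lpr_ct (f475429 IH) (Lpn (LP (LK LD1_c13 LD2_c40 LD3_c48))))
theorem f475343 : Led Lsl_at (LP (LK LD1_c6 LD2_c54 LD3_c24)) = (LP (LK LD1_c13 LD2_c7 LD3_c26)) :=
  Lre_a IH (LK LD1_c6 LD2_c54 LD3_c24) (LK LD1_c13 LD2_c7 LD3_c26) Lrfl Lrfl
theorem f475344 : Led Lsl_at (LP (LK LD1_c6 LD2_c56 LD3_c47)) = (LP (LK LD1_c3 LD2_c27 LD3_c22)) :=
  Lre_a IH (LK LD1_c6 LD2_c56 LD3_c47) (LK LD1_c3 LD2_c27 LD3_c22) Lrfl Lrfl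
theorem f475345 : Led Lsl_ft (LP (LK LD1_c13 LD2_c7 LD3_c26)) = (LP (LK LD1_c6 LD2_c56 LD3_c47)) :=
  Lgr Lrot101 (Lpe (f475343 IH) (Lpr_ff (K32.f475341 IH) (Lpe (f475344 IH) (Lpn (LP (LK LD1_c6 LD2_c56 LD3_c47))))))
theorem f475816 : Led Lsl_cf (LP (LK LD1_c7 LD2_c13 LD3_c46)) = (LP (LK LD1_c6 LD2_c56 LD3_c47)) :=
  Lgr Lrot108 (Lpr_ft (f475812 IH) (Lpe (f475431 IH) (Lpr_ft (f475345 IH) (Lpn (LP (LK LD1_c6 LD2_c56 LD3_c47))))))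
theorem f475640 : Led Lsl_bf (LP (LK LD1_c7 LD2_c47 LD3_c2)) = (LP (LK LD1_c6 LD2_c56 LD3_c47)) :=
  Lgr Lrot61 (Lpr_ft (f475628 IH) (Lpe (f475423 IH) (Lpr_ft (f475345 IH) (Lpn (LP (LK LD1_c6 LD2_c56 LD3_c47))))))
theorem f122720 : Led Lsl_cf (LP (LK LD1_c14 LD2_c1 LD3_c44)) = (LP (LK LD1_c13 LD2_c10 LD3_c28)) :=
  Lgr Lrot11 (Lpr_ct (K6.f122717 IH) (Lpn (LP (LK LD1_c13 LD2_c10 LD3_c28))))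
theorem f122719 : Led Lsl_bt (LP (LK LD1_c13 LD2_c10 LD3_c28)) = (LP (LK LD1_c6 LD2_c56 LD3_c14)) :=
  Lre_b IH (LK LD1_c13 LD2_c10 LD3_c28) (LK LD1_c6 LD2_c56 LD3_c14) Lrfl Lrfl
theorem f532819 : Led Lsl_gf (LP (LK LD1_c7 LD2_c47 LD3_c2)) = (LP (LK LD1_c6 LD2_c56 LD3_c14)) :=
  Lgr Lrot124 (Lpr_bf (f475640 IH) (Lpe (f475816 IH) (Lpr_gt (f475822 IH) (Lpe (f475847 IH) (Lpe (f465498 IH) (Lpr_gt (f492611 IH) (Lpr_ct (f492613 IH) (Lpr_gt (f532813 IH) (Lpr_cf (f122720 IH) (Lpr_bt (f122719 IH) (Lpn (LP (LK LD1_c6 LD2_c56 LD3_c14)))))))))))))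
theorem f475595 : Led Lsl_at (LP (LK LD1_c3 LD2_c52 LD3_c36)) = (LP (LK LD1_c7 LD2_c47 LD3_c2)) :=
  Lre_a IH (LK LD1_c3 LD2_c52 LD3_c36) (LK LD1_c7 LD2_c47 LD3_c2) Lrfl Lrfl
theorem f457987 : Led Lsl_bt (LP (LK LD1_c3 LD2_c52 LD3_c36)) = (LP (LK LD1_c1 LD2_c52 LD3_c57)) :=
  Lre_b IH (LK LD1_c3 LD2_c52 LD3_c36) (LK LD1_c1 LD2_c52 LD3_c57) Lrfl Lrfl
theorem f457792 : Led Lsl_bt (LP (LK LD1_c1 LD2_c40 LD3_c19)) = (LP (LK LD1_c3 LD2_c27 LD3_c25)) :=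
  Lre_b IH (LK LD1_c1 LD2_c40 LD3_c19) (LK LD1_c3 LD2_c27 LD3_c25) Lrfl Lrfl
theorem f475439 : Led Lsl_ff (LP (LK LD1_c3 LD2_c52 LD3_c36)) = (LP (LK LD1_c3 LD2_c27 LD3_c25)) :=
  Lgr Lrot25 (Lpr_bt (f457987 IH) (Lpr_ft (f475435 IH) (Lpr_bt (f457792 IH) (Lpn (LP (LK LD1_c3 LD2_c27 LD3_c25))))))
theorem f532821 : Led Lsl_gt (LP (LK LD1_c3 LD2_c27 LD3_c25)) = (LP (LK LD1_c6 LD2_c56 LD3_c14)) :=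
  Lgr Lrot5 (Lpe (f475439 IH) (Lpr_at (f475595 IH) (Lpr_gf (f532819 IH) (Lpn (LP (LK LD1_c6 LD2_c56 LD3_c14))))))
theorem f457855 : Led Lsl_gt (LP (LK LD1_c6 LD2_c56 LD3_c57)) = (LP (LK LD1_c3 LD2_c27 LD3_c25)) :=
  Lre_g IH (LK LD1_c6 LD2_c56 LD3_c57) (LK LD1_c3 LD2_c27 LD3_c25) Lrfl Lrfl
theorem f532825 : Led Lsl_ft (LP (LK LD1_c6 LD2_c56 LD3_c57)) = (LP (LK LD1_c7 LD2_c37 LD3_c25)) :=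
  Lgr Lrot2 (Lpr_gt (f457855 IH) (Lpr_gt (f532821 IH) (Lpe (K6.f130044 IH) (Lpn (LP (LK LD1_c7 LD2_c37 LD3_c25))))))
theorem f144942 : Led Lsl_ft (LP (LK LD1_c3 LD2_c49 LD3_c57)) = (LP (LK LD1_c7 LD2_c40 LD3_c51)) :=
  Lre_f IH (LK LD1_c3 LD2_c49 LD3_c57) (LK LD1_c7 LD2_c40 LD3_c51) Lrfl Lrfl
theorem f532839 : Led Lsl_bf (LP (LK LD1_c6 LD2_c56 LD3_c57)) = (LP (LK LD1_c7 LD2_c40 LD3_c51)) :=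
  Lgr Lrot61 (Lpr_ft (f532825 IH) (Lpr_bt (K6.f144915 IH) (Lpr_ft (f144942 IH) (Lpn (LP (LK LD1_c7 LD2_c40 LD3_c51))))))
theorem f457841 : Led Lsl_at (LP (LK LD1_c6 LD2_c56 LD3_c58)) = (LP (LK LD1_c3 LD2_c27 LD3_c25)) :=
  Lre_a IH (LK LD1_c6 LD2_c56 LD3_c58) (LK LD1_c3 LD2_c27 LD3_c25) Lrfl Lrfl
theorem f475644 : Led Lsl_gt (LP (LK LD1_c7 LD2_c47 LD3_c2)) = (LP (LK LD1_c6 LD2_c56 LD3_c57)) :=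
  Lgr Lrot5 (Lpr_ft (f475628 IH) (Lpr_at (f457841 IH) (Lpe (f457855 IH) (Lpn (LP (LK LD1_c6 LD2_c56 LD3_c57))))))
theorem f17336 : Led Lsl_gt (LP (LK LD1_c7 LD2_c37 LD3_c48)) = (LP (LK LD1_c3 LD2_c48 LD3_c23)) :=
  Lre_g IH (LK LD1_c7 LD2_c37 LD3_c48) (LK LD1_c3 LD2_c48 LD3_c23) Lrfl Lrfl
theorem f471930 : Led Lsl_cf (LP (LK LD1_c3 LD2_c36 LD3_c49)) = (LP (LK LD1_c3 LD2_c38 LD3_c6)) :=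
  Lgr Lrot160 (Lpr_gt (K28.f160431 IH) (Lpe (K8.f11697 IH) (Lpr_bt (K28.f11683 IH) (Lpr_gt (f471922 IH) (Lpr_ct (K29.f471174 IH) (Lpr_gt (K29.f203948 IH) (Lpe (K29.f142384 IH) (Lpr_bt (K28.f203906 IH) (Lpr_gt (f120859 IH) (Lpe (f471201 IH) (Lpn (LP (LK LD1_c3 LD2_c38 LD3_c6)))))))))))))
theorem f471935 : Led Lsl_ct (LP (LK LD1_c3 LD2_c36 LD3_c49)) = (LP (LK LD1_c3 LD2_c38 LD3_c6)) :=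
  Lgr Lrot59 (Lpr_cf (f471930 IH) (Lpn (LP (LK LD1_c3 LD2_c38 LD3_c6))))
theorem f17398 : Led Lsl_ct (LP (LK LD1_c14 LD2_c22 LD3_c49)) = (LP (LK LD1_c7 LD2_c37 LD3_c48)) :=
  Lre_c IH (LK LD1_c14 LD2_c22 LD3_c49) (LK LD1_c7 LD2_c37 LD3_c48) Lrfl Lrfl
theorem f425431 : Led Lsl_gt (LP (LK LD1_c7 LD2_c14 LD3_c22)) = (LP (LK LD1_c13 LD2_c41 LD3_c51)) :=
  Lre_g IH (LK LD1_c7 LD2_c14 LD3_c22) (LK LD1_c13 LD2_c41 LD3_c51) Lrfl Lrfl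
theorem f471977 : Led Lsl_bt (LP (LK LD1_c14 LD2_c22 LD3_c49)) = (LP (LK LD1_c13 LD2_c41 LD3_c51)) :=
  Lgr Lrot92 (Lpr_ct (f17398 IH) (Lpr_gt (f17336 IH) (Lpe (K28.f17323 IH) (Lpr_bt (K28.f17378 IH) (Lpr_gt (K28.f17401 IH) (Lpr_ct (f471935 IH) (Lpe (f425236 IH) (Lpe (K29.f425429 IH) (Lpr_bt (K29.f425426 IH) (Lpr_gt (f425431 IH) (Lpn (LP (LK LD1_c13 LD2_c41 LD3_c51)))))))))))))
theorem f465508 : Led Lsl_ct (LP (LK LD1_c7 LD2_c37 LD3_c48)) = (LP (LK LD1_c14 LD2_c22 LD3_c49)) :=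
  Lre_c IH (LK LD1_c7 LD2_c37 LD3_c48) (LK LD1_c14 LD2_c22 LD3_c49) Lrfl Lrfl
theorem f471482 : Led Lsl_gt (LP (LK LD1_c1 LD2_c53 LD3_c11)) = (LP (LK LD1_c3 LD2_c49 LD3_c18)) :=
  Lgr Lrot46 (Lpe (f464870 IH) (Lpr_ft (f471466 IH) (Lpr_at (K28.f425125 IH) (Lpn (LP (LK LD1_c3 LD2_c49 LD3_c18))))))
theorem f458093 : Led Lsl_bt (LP (LK LD1_c0 LD2_c53 LD3_c10)) = (LP (LK LD1_c1 LD2_c53 LD3_c11)) :=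
  Lre_b IH (LK LD1_c0 LD2_c53 LD3_c10) (LK LD1_c1 LD2_c53 LD3_c11) Lrfl Lrfl
theorem f14886 : Led Lsl_ct (LP (LK LD1_c1 LD2_c52 LD3_c39)) = (LP (LK LD1_c3 LD2_c51 LD3_c53)) :=
  Lre_c IH (LK LD1_c1 LD2_c52 LD3_c39) (LK LD1_c3 LD2_c51 LD3_c53) Lrfl Lrfl
theorem f203779 : Led Lsl_ct (LP (LK LD1_c7 LD2_c39 LD3_c24)) = (LP (LK LD1_c7 LD2_c25 LD3_c51)) :=
  Lgr Lrot59 (Lpr_cf (K28.f203775 IH) (Lpn (LP (LK LD1_c7 LD2_c25 LD3_c51))))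
theorem f471492 : Led Lsl_gf (LP (LK LD1_c3 LD2_c51 LD3_c53)) = (LP (LK LD1_c7 LD2_c25 LD3_c51)) :=
  Lgr Lrot126 (Lpe (f14886 IH) (Lpr_bt (f14885 IH) (Lpr_gt (K3.f14884 IH) (Lpr_ct (K28.f14864 IH) (Lpr_gt (K5.f64662 IH) (Lpe (K24.f87985 IH) (Lpr_bt (f458093 IH) (Lpr_gt (f471482 IH) (Lpe (K28.f203778 IH) (Lpr_ct (f203779 IH) (Lpn (LP (LK LD1_c7 LD2_c25 LD3_c51)))))))))))))
theorem f464704 : Led Lsl_gt (LP (LK LD1_c3 LD2_c56 LD3_c34)) = (LP (LK LD1_c7 LD2_c54 LD3_c50)) :=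
  Lre_g IH (LK LD1_c3 LD2_c56 LD3_c34) (LK LD1_c7 LD2_c54 LD3_c50) Lrfl Lrfl
theorem f425440 : Led Lsl_at (LP (LK LD1_c7 LD2_c14 LD3_c19)) = (LP (LK LD1_c3 LD2_c37 LD3_c0)) :=
  Lre_a IH (LK LD1_c7 LD2_c14 LD3_c19) (LK LD1_c3 LD2_c37 LD3_c0) Lrfl Lrfl
theorem f203918 : Led Lsl_at (LP (LK LD1_c3 LD2_c40 LD3_c9)) = (LP (LK LD1_c7 LD2_c20 LD3_c23)) :=
  Lre_a IH (LK LD1_c3 LD2_c40 LD3_c9) (LK LD1_c7 LD2_c20 LD3_c23) Lrfl Lrfl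
theorem f425441 : Led Lsl_cf (LP (LK LD1_c7 LD2_c14 LD3_c19)) = (LP (LK LD1_c7 LD2_c20 LD3_c23)) :=
  Lgr Lrot1 (Lpr_at (f425440 IH) (Lpr_ct (K29.f425436 IH) (Lpr_at (f203918 IH) (Lpn (LP (LK LD1_c7 LD2_c20 LD3_c23))))))
theorem f425502 : Led Lsl_gt (LP (LK LD1_c13 LD2_c41 LD3_c51)) = (LP (LK LD1_c7 LD2_c14 LD3_c19)) :=
  Lre_g IH (LK LD1_c13 LD2_c41 LD3_c51) (LK LD1_c7 LD2_c14 LD3_c19) Lrfl Lrfl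
theorem f471511 : Led Lsl_ct (LP (LK LD1_c7 LD2_c54 LD3_c50)) = (LP (LK LD1_c13 LD2_c41 LD3_c51)) :=
  Lgr Lrot91 (Lpe (f464704 IH) (Lpe (K28.f464695 IH) (Lpe (K28.f464698 IH) (Lpr_gf (K28.f464707 IH) (Lpe (K33.f464711 IH) (Lpr_bt (f464778 IH) (Lpr_gf (f471492 IH) (Lpe (K29.f203676 IH) (Lpe (f425441 IH) (Lpe (f425502 IH) (Lpn (LP (LK LD1_c13 LD2_c41 LD3_c51)))))))))))))
theorem f471515 : Led Lsl_cf (LP (LK LD1_c7 LD2_c54 LD3_c50)) = (LP (LK LD1_c13 LD2_c41 LD3_c51)) :=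
  Lgr Lrot11 (Lpr_ct (f471511 IH) (Lpn (LP (LK LD1_c13 LD2_c41 LD3_c51))))
theorem f464722 : Led Lsl_bt (LP (LK LD1_c7 LD2_c54 LD3_c50)) = (LP (LK LD1_c14 LD2_c55 LD3_c38)) :=
  Lre_b IH (LK LD1_c7 LD2_c54 LD3_c50) (LK LD1_c14 LD2_c55 LD3_c38) Lrfl Lrfl
theorem f464719 : Led Lsl_bt (LP (LK LD1_c14 LD2_c55 LD3_c38)) = (LP (LK LD1_c7 LD2_c54 LD3_c50)) :=
  Lre_b IH (LK LD1_c14 LD2_c55 LD3_c38) (LK LD1_c7 LD2_c54 LD3_c50) Lrfl Lrfl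
theorem f462269 : Led Lsl_ct (LP (LK LD1_c3 LD2_c40 LD3_c32)) = (LP (LK LD1_c7 LD2_c21 LD3_c3)) :=
  Lre_c IH (LK LD1_c3 LD2_c40 LD3_c32) (LK LD1_c7 LD2_c21 LD3_c3) Lrfl Lrfl
theorem f123479 : Led Lsl_gt (LP (LK LD1_c13 LD2_c53 LD3_c56)) = (LP (LK LD1_c7 LD2_c21 LD3_c3)) :=
  Lre_g IH (LK LD1_c13 LD2_c53 LD3_c56) (LK LD1_c7 LD2_c21 LD3_c3) Lrfl Lrfl
theorem f464720 : Led Lsl_ct (LP (LK LD1_c14 LD2_c55 LD3_c38)) = (LP (LK LD1_c13 LD2_c53 LD3_c56)) :=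
  Lgr Lrot64 (Lpr_bt (f464719 IH) (Lpe (f464704 IH) (Lpe (K28.f464695 IH) (Lpe (K28.f464698 IH) (Lpr_gf (K28.f464707 IH) (Lpe (K33.f464711 IH) (Lpe (K28.f129166 IH) (Lpe (K8.f159358 IH) (Lpr_ct (f462269 IH) (Lpe (f123479 IH) (Lpn (LP (LK LD1_c13 LD2_c53 LD3_c56)))))))))))))
theorem f471981 : Led Lsl_bf (LP (LK LD1_c7 LD2_c37 LD3_c48)) = (LP (LK LD1_c13 LD2_c53 LD3_c56)) :=
  Lgr Lrot90 (Lpr_ct (f465508 IH) (Lpr_bt (f471977 IH) (Lpe (f471515 IH) (Lpr_bt (f464722 IH) (Lpr_ct (f464720 IH) (Lpn (LP (LK LD1_c13 LD2_c53 LD3_c56))))))))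
theorem f464723 : Led Lsl_cf (LP (LK LD1_c14 LD2_c55 LD3_c38)) = (LP (LK LD1_c13 LD2_c53 LD3_c56)) :=
  Lgr Lrot11 (Lpr_ct (f464720 IH) (Lpn (LP (LK LD1_c13 LD2_c53 LD3_c56))))
theorem f145069 : Led Lsl_ct (LP (LK LD1_c7 LD2_c40 LD3_c51)) = (LP (LK LD1_c14 LD2_c28 LD3_c42)) :=
  Lre_c IH (LK LD1_c7 LD2_c40 LD3_c51) (LK LD1_c14 LD2_c28 LD3_c42) Lrfl Lrfl
theorem f532875 : Led Lsl_gf (LP (LK LD1_c14 LD2_c55 LD3_c38)) = (LP (LK LD1_c14 LD2_c28 LD3_c42)) :=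
  Lgr Lrot126 (Lpr_cf (f464723 IH) (Lpe (f471981 IH) (Lpr_gt (f17336 IH) (Lpe (K3.f17367 IH) (Lpr_gt (f17392 IH) (Lpr_cf (f475816 IH) (Lpe (f475640 IH) (Lpr_gt (f475644 IH) (Lpr_bf (f532839 IH) (Lpr_ct (f145069 IH) (Lpn (LP (LK LD1_c14 LD2_c28 LD3_c42)))))))))))))
theorem f489569 : Led Lsl_bf (LP (LK LD1_c3 LD2_c40 LD3_c34)) = (LP (LK LD1_c3 LD2_c51 LD3_c53)) :=
  Lgr Lrot24 (Lpr_bt (f464778 IH) (Lpn (LP (LK LD1_c3 LD2_c51 LD3_c53))))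
theorem f464843 : Led Lsl_gt (LP (LK LD1_c1 LD2_c52 LD3_c39)) = (LP (LK LD1_c3 LD2_c51 LD3_c51)) :=
  Lre_g IH (LK LD1_c1 LD2_c52 LD3_c39) (LK LD1_c3 LD2_c51 LD3_c51) Lrfl Lrfl
theorem f471510 : Led Lsl_ct (LP (LK LD1_c7 LD2_c45 LD3_c30)) = (LP (LK LD1_c3 LD2_c51 LD3_c51)) :=
  Lre_c IH (LK LD1_c7 LD2_c45 LD3_c30) (LK LD1_c3 LD2_c51 LD3_c51) Lrfl Lrfl
theorem f532879 : Led Lsl_bt (LP (LK LD1_c7 LD2_c45 LD3_c30)) = (LP (LK LD1_c14 LD2_c28 LD3_c42)) :=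
  Lgr Lrot130 (Lpr_ct (f471510 IH) (Lpe (f464843 IH) (Lpe (f464777 IH) (Lpe (f489569 IH) (Lpe (K28.f129166 IH) (Lpe (K8.f159358 IH) (Lpr_ct (f462269 IH) (Lpe (f123479 IH) (Lpe (f464720 IH) (Lpr_gf (f532875 IH) (Lpn (LP (LK LD1_c14 LD2_c28 LD3_c42)))))))))))))
theorem f145090 : Led Lsl_ft (LP (LK LD1_c14 LD2_c28 LD3_c42)) = (LP (LK LD1_c7 LD2_c40 LD3_c47)) :=
  Lre_f IH (LK LD1_c14 LD2_c28 LD3_c42) (LK LD1_c7 LD2_c40 LD3_c47) Lrfl Lrfl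
theorem f144905 : Led Lsl_bf (LP (LK LD1_c14 LD2_c18 LD3_c55)) = (LP (LK LD1_c7 LD2_c40 LD3_c47)) :=
  Lgr Lrot24 (Lpr_bt (K6.f144877 IH) (Lpn (LP (LK LD1_c7 LD2_c40 LD3_c47))))
theorem f532888 : Led Lsl_ff (LP (LK LD1_c7 LD2_c45 LD3_c30)) = (LP (LK LD1_c14 LD2_c18 LD3_c55)) :=
  Lgr Lrot25 (Lpr_bt (f532879 IH) (Lpr_ft (f145090 IH) (Lpe (f144905 IH) (Lpn (LP (LK LD1_c14 LD2_c18 LD3_c55))))))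
theorem f532898 : Led Lsl_ft (LP (LK LD1_c7 LD2_c45 LD3_c30)) = (LP (LK LD1_c14 LD2_c18 LD3_c55)) :=
  Lgr Lrot48 (Lpr_ff (f532888 IH) (Lpn (LP (LK LD1_c14 LD2_c18 LD3_c55))))
theorem f144805 : Led Lsl_at (LP (LK LD1_c14 LD2_c18 LD3_c55)) = (LP (LK LD1_c7 LD2_c40 LD3_c55)) :=
  Lgr Lrot107 (Lpe (K6.f116687 IH) (Lpr_af (K6.f144801 IH) (Lpe (f123499 IH) (Lpn (LP (LK LD1_c7 LD2_c40 LD3_c55))))))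
theorem f203204 : Led Lsl_gt (LP (LK LD1_c14 LD2_c28 LD3_c55)) = (LP (LK LD1_c7 LD2_c40 LD3_c55)) :=
  Lre_g IH (LK LD1_c14 LD2_c28 LD3_c55) (LK LD1_c7 LD2_c40 LD3_c55) Lrfl Lrfl
theorem f532904 : Led Lsl_gt (LP (LK LD1_c7 LD2_c45 LD3_c30)) = (LP (LK LD1_c14 LD2_c28 LD3_c55)) :=
  Lgr Lrot5 (Lpr_ft (f532898 IH) (Lpr_at (f144805 IH) (Lpe (f203204 IH) (Lpn (LP (LK LD1_c14 LD2_c28 LD3_c55))))))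
theorem f532886 : Led Lsl_bf (LP (LK LD1_c7 LD2_c45 LD3_c30)) = (LP (LK LD1_c14 LD2_c28 LD3_c42)) :=
  Lgr Lrot24 (Lpr_bt (f532879 IH) (Lpn (LP (LK LD1_c14 LD2_c28 LD3_c42))))
theorem f532871 : Led Lsl_ct (LP (LK LD1_c14 LD2_c28 LD3_c42)) = (LP (LK LD1_c7 LD2_c40 LD3_c51)) :=
  Lre_c IH (LK LD1_c14 LD2_c28 LD3_c42) (LK LD1_c7 LD2_c40 LD3_c51) Lrfl Lrfl
theorem f465239 : Led Lsl_bt (LP (LK LD1_c1 LD2_c52 LD3_c52)) = (LP (LK LD1_c3 LD2_c52 LD3_c26)) :=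
  Lre_b IH (LK LD1_c1 LD2_c52 LD3_c52) (LK LD1_c3 LD2_c52 LD3_c26) Lrfl Lrfl
theorem f532881 : Led Lsl_gt (LP (LK LD1_c3 LD2_c52 LD3_c26)) = (LP (LK LD1_c7 LD2_c40 LD3_c51)) :=
  Lgr Lrot82 (Lpe (f465239 IH) (Lpr_ct (f465240 IH) (Lpe (K28.f17334 IH) (Lpr_cf (K3.f17315 IH) (Lpr_bt (K28.f17335 IH) (Lpe (f17336 IH) (Lpr_bf (f471981 IH) (Lpe (f464723 IH) (Lpr_gf (f532875 IH) (Lpe (f145069 IH) (Lpn (LP (LK LD1_c7 LD2_c40 LD3_c51)))))))))))))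
theorem f14903 : Led Lsl_bt (LP (LK LD1_c3 LD2_c52 LD3_c26)) = (LP (LK LD1_c1 LD2_c52 LD3_c52)) :=
  Lre_b IH (LK LD1_c3 LD2_c52 LD3_c26) (LK LD1_c1 LD2_c52 LD3_c52) Lrfl Lrfl
theorem f470900 : Led Lsl_bt (LP (LK LD1_c3 LD2_c42 LD3_c41)) = (LP (LK LD1_c7 LD2_c25 LD3_c61)) :=
  Lre_b IH (LK LD1_c3 LD2_c42 LD3_c41) (LK LD1_c7 LD2_c25 LD3_c61) Lrfl Lrfl
theorem f470901 : Led Lsl_cf (LP (LK LD1_c3 LD2_c52 LD3_c26)) = (LP (LK LD1_c7 LD2_c25 LD3_c61)) :=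
  Lgr Lrot97 (Lpr_bt (f14903 IH) (Lpr_ct (f465240 IH) (Lpe (K28.f465248 IH) (Lpr_ct (K29.f470898 IH) (Lpr_bt (f470900 IH) (Lpn (LP (LK LD1_c7 LD2_c25 LD3_c61))))))))
theorem f109124 : Led Lsl_et (LP (LK LD1_c12 LD2_c30 LD3_c20)) = (LP (LK LD1_c6 LD2_c30 LD3_c42)) :=
  Lre_e IH (LK LD1_c12 LD2_c30 LD3_c20) (LK LD1_c6 LD2_c30 LD3_c42) Lrfl Lrfl
theorem f437725 : Led Lsl_et (LP (LK LD1_c3 LD2_c42 LD3_c41)) = (LP (LK LD1_c7 LD2_c26 LD3_c1)) :=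
  Lre_e IH (LK LD1_c3 LD2_c42 LD3_c41) (LK LD1_c7 LD2_c26 LD3_c1) Lrfl Lrfl
theorem f470905 : Led Lsl_cf (LP (LK LD1_c12 LD2_c30 LD3_c20)) = (LP (LK LD1_c7 LD2_c26 LD3_c1)) :=
  Lgr Lrot39 (Lpr_et (f109124 IH) (Lpr_ct (K29.f470898 IH) (Lpr_et (f437725 IH) (Lpn (LP (LK LD1_c7 LD2_c26 LD3_c1))))))
theorem f471103 : Led Lsl_ct (LP (LK LD1_c12 LD2_c30 LD3_c20)) = (LP (LK LD1_c7 LD2_c26 LD3_c1)) :=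
  Lgr Lrot59 (Lpr_cf (f470905 IH) (Lpn (LP (LK LD1_c7 LD2_c26 LD3_c1))))
theorem f441543 : Led Lsl_et (LP (LK LD1_c6 LD2_c30 LD3_c42)) = (LP (LK LD1_c12 LD2_c30 LD3_c20)) :=
  Lre_e IH (LK LD1_c6 LD2_c30 LD3_c42) (LK LD1_c12 LD2_c30 LD3_c20) Lrfl Lrfl
theorem f94647 : Led Lsl_et (LP (LK LD1_c7 LD2_c13 LD3_c43)) = (LP (LK LD1_c3 LD2_c36 LD3_c42)) :=
  Lre_e IH (LK LD1_c7 LD2_c13 LD3_c43) (LK LD1_c3 LD2_c36 LD3_c42) Lrfl Lrfl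
theorem f465252 : Led Lsl_bt (LP (LK LD1_c12 LD2_c30 LD3_c20)) = (LP (LK LD1_c7 LD2_c13 LD3_c43)) :=
  Lgr Lrot119 (Lpe (f441543 IH) (Lpr_bf (K28.f465248 IH) (Lpe (f94647 IH) (Lpn (LP (LK LD1_c7 LD2_c13 LD3_c43))))))
theorem f465365 : Led Lsl_bf (LP (LK LD1_c12 LD2_c30 LD3_c20)) = (LP (LK LD1_c7 LD2_c13 LD3_c43)) :=
  Lgr Lrot24 (Lpr_bt (f465252 IH) (Lpn (LP (LK LD1_c7 LD2_c13 LD3_c43))))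
theorem f465242 : Led Lsl_et (LP (LK LD1_c1 LD2_c52 LD3_c52)) = (LP (LK LD1_c3 LD2_c52 LD3_c28)) :=
  Lre_e IH (LK LD1_c1 LD2_c52 LD3_c52) (LK LD1_c3 LD2_c52 LD3_c28) Lrfl Lrfl
theorem f465243 : Led Lsl_ct (LP (LK LD1_c3 LD2_c52 LD3_c28)) = (LP (LK LD1_c7 LD2_c13 LD3_c43)) :=
  Lgr Lrot15 (Lpe (f465242 IH) (Lpr_cf (K28.f465237 IH) (Lpe (f94647 IH) (Lpn (LP (LK LD1_c7 LD2_c13 LD3_c43))))))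
theorem f465367 : Led Lsl_bt (LP (LK LD1_c7 LD2_c46 LD3_c44)) = (LP (LK LD1_c3 LD2_c52 LD3_c28)) :=
  Lre_b IH (LK LD1_c7 LD2_c46 LD3_c44) (LK LD1_c3 LD2_c52 LD3_c28) Lrfl Lrfl
theorem f437753 : Led Lsl_bt (LP (LK LD1_c7 LD2_c26 LD3_c1)) = (LP (LK LD1_c14 LD2_c3 LD3_c7)) :=
  Lre_b IH (LK LD1_c7 LD2_c26 LD3_c1) (LK LD1_c14 LD2_c3 LD3_c7) Lrfl Lrfl
theorem f471105 : Led Lsl_cf (LP (LK LD1_c7 LD2_c46 LD3_c44)) = (LP (LK LD1_c14 LD2_c3 LD3_c7)) :=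
  Lgr Lrot97 (Lpr_bt (f465367 IH) (Lpr_ct (f465243 IH) (Lpe (f465365 IH) (Lpr_ct (f471103 IH) (Lpr_bt (f437753 IH) (Lpn (LP (LK LD1_c14 LD2_c3 LD3_c7))))))))
theorem f471108 : Led Lsl_et (LP (LK LD1_c7 LD2_c46 LD3_c44)) = (LP (LK LD1_c3 LD2_c52 LD3_c26)) :=
  Lre_e IH (LK LD1_c7 LD2_c46 LD3_c44) (LK LD1_c3 LD2_c52 LD3_c26) Lrfl Lrfl
theorem f437748 : Led Lsl_et (LP (LK LD1_c7 LD2_c25 LD3_c61)) = (LP (LK LD1_c14 LD2_c3 LD3_c7)) :=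
  Lre_e IH (LK LD1_c7 LD2_c25 LD3_c61) (LK LD1_c14 LD2_c3 LD3_c7) Lrfl Lrfl
theorem f471109 : Led Lsl_ct (LP (LK LD1_c3 LD2_c52 LD3_c26)) = (LP (LK LD1_c7 LD2_c25 LD3_c61)) :=
  Lgr Lrot15 (Lpe (f471108 IH) (Lpr_cf (f471105 IH) (Lpe (f437748 IH) (Lpn (LP (LK LD1_c7 LD2_c25 LD3_c61))))))
theorem f162800 : Led Lsl_ct (LP (LK LD1_c13 LD2_c53 LD3_c54)) = (LP (LK LD1_c7 LD2_c21 LD3_c9)) :=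
  Lre_c IH (LK LD1_c13 LD2_c53 LD3_c54) (LK LD1_c7 LD2_c21 LD3_c9) Lrfl Lrfl
theorem f471120 : Led Lsl_gt (LP (LK LD1_c7 LD2_c21 LD3_c9)) = (LP (LK LD1_c7 LD2_c25 LD3_c61)) :=
  Lgr Lrot65 (Lpe (f162800 IH) (Lpe (K8.f162798 IH) (Lpe (K28.f465391 IH) (Lpe (K28.f15701 IH) (Lpr_ct (K28.f15698 IH) (Lpe (K28.f16052 IH) (Lpe (K28.f14888 IH) (Lpe (K28.f14902 IH) (Lpe (f14903 IH) (Lpr_ct (f471109 IH) (Lpn (LP (LK LD1_c7 LD2_c25 LD3_c61)))))))))))))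
theorem f470564 : Led Lsl_gt (LP (LK LD1_c6 LD2_c58 LD3_c31)) = (LP (LK LD1_c13 LD2_c14 LD3_c31)) :=
  Lre_g IH (LK LD1_c6 LD2_c58 LD3_c31) (LK LD1_c13 LD2_c14 LD3_c31) Lrfl Lrfl
theorem f470607 : Led Lsl_gt (LP (LK LD1_c13 LD2_c14 LD3_c31)) = (LP (LK LD1_c7 LD2_c8 LD3_c3)) :=
  Lgr Lrot46 (Lpe (f470564 IH) (Lpr_ft (K28.f470534 IH) (Lpr_at (K8.f108052 IH) (Lpn (LP (LK LD1_c7 LD2_c8 LD3_c3))))))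
theorem f17418 : Led Lsl_et (LP (LK LD1_c7 LD2_c13 LD3_c45)) = (LP (LK LD1_c3 LD2_c36 LD3_c45)) :=
  Lre_e IH (LK LD1_c7 LD2_c13 LD3_c45) (LK LD1_c3 LD2_c36 LD3_c45) Lrfl Lrfl
theorem f17419 : Led Lsl_et (LP (LK LD1_c3 LD2_c48 LD3_c22)) = (LP (LK LD1_c7 LD2_c37 LD3_c46)) :=
  Lre_e IH (LK LD1_c3 LD2_c48 LD3_c22) (LK LD1_c7 LD2_c37 LD3_c46) Lrfl Lrfl
theorem f17420 : Led Lsl_cf (LP (LK LD1_c7 LD2_c13 LD3_c45)) = (LP (LK LD1_c7 LD2_c37 LD3_c46)) :=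
  Lgr Lrot39 (Lpr_et (f17418 IH) (Lpr_ct (K5.f17413 IH) (Lpr_et (f17419 IH) (Lpn (LP (LK LD1_c7 LD2_c37 LD3_c46))))))
theorem f465447 : Led Lsl_gt (LP (LK LD1_c7 LD2_c13 LD3_c45)) = (LP (LK LD1_c6 LD2_c56 LD3_c48)) :=
  Lgr Lrot149 (Lpr_cf (f17420 IH) (Lpe (K28.f17430 IH) (Lpr_bf (K28.f465441 IH) (Lpr_ct (K28.f16757 IH) (Lpr_gf (K28.f16747 IH) (Lpr_cf (K8.f15918 IH) (Lpr_bt (K8.f15281 IH) (Lpe (K2.f15320 IH) (Lpe (K28.f15699 IH) (Lpr_ct (K28.f15700 IH) (Lpn (LP (LK LD1_c6 LD2_c56 LD3_c48)))))))))))))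
theorem f160012 : Led Lsl_bf (LP (LK LD1_c7 LD2_c13 LD3_c45)) = (LP (LK LD1_c7 LD2_c7 LD3_c1)) :=
  Lgr Lrot90 (Lpr_ct (K28.f17376 IH) (Lpr_bt (K28.f129506 IH) (Lpe (K6.f129380 IH) (Lpr_bt (K8.f160006 IH) (Lpr_ct (K29.f11779 IH) (Lpn (LP (LK LD1_c7 LD2_c7 LD3_c1))))))))
theorem f11729 : Led Lsl_at (LP (LK LD1_c3 LD2_c33 LD3_c6)) = (LP (LK LD1_c7 LD2_c7 LD3_c1)) :=
  Lre_a IH (LK LD1_c3 LD2_c33 LD3_c6) (LK LD1_c7 LD2_c7 LD3_c1) Lrfl Lrfl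
theorem f11730 : Led Lsl_cf (LP (LK LD1_c7 LD2_c51 LD3_c46)) = (LP (LK LD1_c7 LD2_c7 LD3_c1)) :=
  Lgr Lrot1 (Lpr_at (K28.f11728 IH) (Lpr_ct (K8.f11715 IH) (Lpr_at (f11729 IH) (Lpn (LP (LK LD1_c7 LD2_c7 LD3_c1))))))
theorem f11794 : Led Lsl_gt (LP (LK LD1_c14 LD2_c49 LD3_c45)) = (LP (LK LD1_c7 LD2_c51 LD3_c46)) :=
  Lre_g IH (LK LD1_c14 LD2_c49 LD3_c45) (LK LD1_c7 LD2_c51 LD3_c46) Lrfl Lrfl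
theorem f470635 : Led Lsl_ct (LP (LK LD1_c13 LD2_c14 LD3_c31)) = (LP (LK LD1_c14 LD2_c49 LD3_c45)) :=
  Lgr Lrot91 (Lpe (f470564 IH) (Lpe (K28.f464202 IH) (Lpr_ct (K29.f470631 IH) (Lpe (K28.f468863 IH) (Lpr_cf (K28.f468869 IH) (Lpr_bt (K28.f470509 IH) (Lpe (f465447 IH) (Lpr_bf (f160012 IH) (Lpe (f11730 IH) (Lpe (f11794 IH) (Lpn (LP (LK LD1_c14 LD2_c49 LD3_c45)))))))))))))
theorem f470654 : Led Lsl_cf (LP (LK LD1_c13 LD2_c14 LD3_c31)) = (LP (LK LD1_c14 LD2_c49 LD3_c45)) :=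
  Lgr Lrot11 (Lpr_ct (f470635 IH) (Lpn (LP (LK LD1_c14 LD2_c49 LD3_c45))))
theorem f532910 : Led Lsl_bt (LP (LK LD1_c14 LD2_c49 LD3_c45)) = (LP (LK LD1_c14 LD2_c28 LD3_c55)) :=
  Lgr Lrot92 (Lpe (f470654 IH) (Lpr_gt (f470607 IH) (Lpr_cf (K28.f108130 IH) (Lpr_bt (K8.f159360 IH) (Lpr_gt (f471120 IH) (Lpe (f470901 IH) (Lpr_gt (f532881 IH) (Lpe (f532871 IH) (Lpe (f532886 IH) (Lpr_gt (f532904 IH) (Lpn (LP (LK LD1_c14 LD2_c28 LD3_c55)))))))))))))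
def v2681 : LQ := Led Lsl_gf (LP (LK LD1_c1 LD2_c52 LD3_c39))
theorem f530356 : Led Lsl_gf (LP (LK LD1_c1 LD2_c52 LD3_c39)) = v2681 :=
  Lrfl
theorem f532914 : v2681 = (LP (LK LD1_c3 LD2_c49 LD3_c61)) :=
  (Llr Lrot129 (Lpe (f530356 IH) (Lpe (f464777 IH) (Lpe (f489569 IH) (Lpr_gt (K28.f462785 IH) (Lpe (K28.f458176 IH) (Lpe (K29.f470525 IH) (Lpr_gt (f470564 IH) (Lpr_cf (f470654 IH) (Lpr_bt (f532910 IH) (Lpr_gt (f203204 IH) (Lpr_ct (f123499 IH) (Lpn (LP (LK LD1_c3 LD2_c49 LD3_c61))))))))))))))).symm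
theorem f532919 : Led Lsl_gf (LP (LK LD1_c7 LD2_c51 LD3_c14)) = (LP (LK LD1_c3 LD2_c56 LD3_c31)) :=
  Lgr Lrot124 (Lpr_bf (f203989 IH) (Lpr_ct (f123499 IH) (Lpq (f532914 IH) (Lpe (f530356 IH) (Lpe (f464777 IH) (Lpe (f489569 IH) (Lpr_gt (K28.f462785 IH) (Lpr_ct (K28.f452015 IH) (Lpe (K29.f452013 IH) (Lpe (K28.f11357 IH) (Lpr_bt (K33.f11376 IH) (Lpn (LP (LK LD1_c3 LD2_c56 LD3_c31))))))))))))))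
theorem f203986 : Led Lsl_ct (LP (LK LD1_c14 LD2_c48 LD3_c51)) = (LP (LK LD1_c7 LD2_c51 LD3_c14)) :=
  Lre_c IH (LK LD1_c14 LD2_c48 LD3_c51) (LK LD1_c7 LD2_c51 LD3_c14) Lrfl Lrfl
theorem f123498 : Led Lsl_bt (LP (LK LD1_c3 LD2_c49 LD3_c61)) = (LP (LK LD1_c7 LD2_c40 LD3_c53)) :=
  Lre_b IH (LK LD1_c3 LD2_c49 LD3_c61) (LK LD1_c7 LD2_c40 LD3_c53) Lrfl Lrfl
theorem f123484 : Led Lsl_et (LP (LK LD1_c7 LD2_c24 LD3_c61)) = (LP (LK LD1_c14 LD2_c1 LD3_c42)) :=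
  Lre_e IH (LK LD1_c7 LD2_c24 LD3_c61) (LK LD1_c14 LD2_c1 LD3_c42) Lrfl Lrfl
theorem f123485 : Led Lsl_et (LP (LK LD1_c7 LD2_c40 LD3_c53)) = (LP (LK LD1_c3 LD2_c49 LD3_c58)) :=
  Lre_e IH (LK LD1_c7 LD2_c40 LD3_c53) (LK LD1_c3 LD2_c49 LD3_c58) Lrfl Lrfl
theorem f123486 : Led Lsl_ct (LP (LK LD1_c14 LD2_c1 LD3_c42)) = (LP (LK LD1_c7 LD2_c40 LD3_c53)) :=
  Lgr Lrot15 (Lpe (f123484 IH) (Lpr_cf (K5.f122705 IH) (Lpe (f123485 IH) (Lpn (LP (LK LD1_c7 LD2_c40 LD3_c53))))))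
theorem f123490 : Led Lsl_cf (LP (LK LD1_c14 LD2_c1 LD3_c42)) = (LP (LK LD1_c7 LD2_c40 LD3_c53)) :=
  Lgr Lrot11 (Lpr_ct (f123486 IH) (Lpn (LP (LK LD1_c7 LD2_c40 LD3_c53))))
theorem f203991 : Led Lsl_bf (LP (LK LD1_c14 LD2_c48 LD3_c51)) = (LP (LK LD1_c14 LD2_c1 LD3_c42)) :=
  Lgr Lrot90 (Lpr_ct (f203986 IH) (Lpr_bt (f203982 IH) (Lpr_ct (f123499 IH) (Lpr_bt (f123498 IH) (Lpe (f123490 IH) (Lpn (LP (LK LD1_c14 LD2_c1 LD3_c42))))))))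
theorem f203996 : Led Lsl_bt (LP (LK LD1_c14 LD2_c48 LD3_c51)) = (LP (LK LD1_c14 LD2_c1 LD3_c42)) :=
  Lgr Lrot127 (Lpr_bf (f203991 IH) (Lpn (LP (LK LD1_c14 LD2_c1 LD3_c42))))
theorem f461112 : Led Lsl_gt (LP (LK LD1_c14 LD2_c21 LD3_c47)) = (LP (LK LD1_c7 LD2_c37 LD3_c7)) :=
  Lre_g IH (LK LD1_c14 LD2_c21 LD3_c47) (LK LD1_c7 LD2_c37 LD3_c7) Lrfl Lrfl
theorem f209163 : Led Lsl_bt (LP (LK LD1_c3 LD2_c41 LD3_c8)) = (LP (LK LD1_c7 LD2_c22 LD3_c22)) :=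
  Lre_b IH (LK LD1_c3 LD2_c41 LD3_c8) (LK LD1_c7 LD2_c22 LD3_c22) Lrfl Lrfl
theorem f488695 : Led Lsl_bf (LP (LK LD1_c7 LD2_c2 LD3_c27)) = (LP (LK LD1_c3 LD2_c43 LD3_c51)) :=
  Lgr Lrot156 (Lpe (f466250 IH) (Lpe (f209163 IH) (Lpr_ct (K5.f122029 IH) (Lpr_gt (K28.f459479 IH) (Lpqs (K28.f464333 IH) (Lpe (K24.f455661 IH) (Lpr_bt (K28.f458442 IH) (Lpe (K28.f463691 IH) (Lpr_ct (K28.f116284 IH) (Lpr_gt (K28.f109308 IH) (Lpr_cf (K33.f466460 IH) (Lpn (LP (LK LD1_c3 LD2_c43 LD3_c51))))))))))))))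
theorem f477099 : Led Lsl_et (LP (LK LD1_c7 LD2_c2 LD3_c27)) = (LP (LK LD1_c13 LD2_c21 LD3_c10)) :=
  Lre_e IH (LK LD1_c7 LD2_c2 LD3_c27) (LK LD1_c13 LD2_c21 LD3_c10) Lrfl Lrfl
theorem f488699 : Led Lsl_bt (LP (LK LD1_c13 LD2_c21 LD3_c10)) = (LP (LK LD1_c7 LD2_c28 LD3_c20)) :=
  Lgr Lrot119 (Lpe (f477099 IH) (Lpr_bf (f488695 IH) (Lpe (K28.f132014 IH) (Lpn (LP (LK LD1_c7 LD2_c28 LD3_c20))))))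
theorem f132019 : Led Lsl_bt (LP (LK LD1_c7 LD2_c20 LD3_c41)) = (LP (LK LD1_c13 LD2_c53 LD3_c25)) :=
  Lre_b IH (LK LD1_c7 LD2_c20 LD3_c41) (LK LD1_c13 LD2_c53 LD3_c25) Lrfl Lrfl
theorem f488705 : Led Lsl_df (LP (LK LD1_c13 LD2_c21 LD3_c10)) = (LP (LK LD1_c13 LD2_c53 LD3_c25)) :=
  Lgr Lrot12 (Lpr_bt (f488699 IH) (Lpr_dt (K28.f132017 IH) (Lpr_bt (f132019 IH) (Lpn (LP (LK LD1_c13 LD2_c53 LD3_c25))))))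
theorem f488714 : Led Lsl_dt (LP (LK LD1_c13 LD2_c21 LD3_c10)) = (LP (LK LD1_c13 LD2_c53 LD3_c25)) :=
  Lgr Lrot42 (Lpr_df (f488705 IH) (Lpn (LP (LK LD1_c13 LD2_c53 LD3_c25))))
theorem f468274 : Led Lsl_et (LP (LK LD1_c13 LD2_c21 LD3_c10)) = (LP (LK LD1_c7 LD2_c2 LD3_c27)) :=
  Lre_e IH (LK LD1_c13 LD2_c21 LD3_c10) (LK LD1_c7 LD2_c2 LD3_c27) Lrfl Lrfl
theorem f122744 : Led Lsl_dt (LP (LK LD1_c3 LD2_c40 LD3_c32)) = (LP (LK LD1_c7 LD2_c21 LD3_c13)) :=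
  Lre_d IH (LK LD1_c3 LD2_c40 LD3_c32) (LK LD1_c7 LD2_c21 LD3_c13) Lrfl Lrfl
theorem f488721 : Led Lsl_gf (LP (LK LD1_c7 LD2_c21 LD3_c13)) = (LP (LK LD1_c13 LD2_c53 LD3_c25)) :=
  Lgr Lrot145 (Lpe (f122744 IH) (Lpr_et (K28.f122743 IH) (Lpr_gt (K6.f95917 IH) (Lpr_dt (K8.f136779 IH) (Lpe (K8.f142656 IH) (Lpe (K7.f122067 IH) (Lpr_et (K28.f122068 IH) (Lpe (f469688 IH) (Lpe (f468274 IH) (Lpr_dt (f488714 IH) (Lpn (LP (LK LD1_c13 LD2_c53 LD3_c25)))))))))))))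
theorem f159346 : Led Lsl_bt (LP (LK LD1_c3 LD2_c40 LD3_c35)) = (LP (LK LD1_c7 LD2_c21 LD3_c13)) :=
  Lre_b IH (LK LD1_c3 LD2_c40 LD3_c35) (LK LD1_c7 LD2_c21 LD3_c13) Lrfl Lrfl
theorem f95878 : Led Lsl_ct (LP (LK LD1_c7 LD2_c49 LD3_c51)) = (LP (LK LD1_c14 LD2_c46 LD3_c18)) :=
  Lre_c IH (LK LD1_c7 LD2_c49 LD3_c51) (LK LD1_c14 LD2_c46 LD3_c18) Lrfl Lrfl
theorem f132020 : Led Lsl_ct (LP (LK LD1_c7 LD2_c20 LD3_c41)) = (LP (LK LD1_c13 LD2_c53 LD3_c26)) :=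
  Lre_c IH (LK LD1_c7 LD2_c20 LD3_c41) (LK LD1_c13 LD2_c53 LD3_c26) Lrfl Lrfl
theorem f488723 : Led Lsl_gt (LP (LK LD1_c14 LD2_c46 LD3_c18)) = (LP (LK LD1_c13 LD2_c53 LD3_c26)) :=
  Lgr Lrot149 (Lpe (f95878 IH) (Lpr_gf (K28.f160536 IH) (Lpe (K28.f470309 IH) (Lpr_ct (K28.f455638 IH) (Lpr_gf (K33.f470053 IH) (Lpe (K28.f132102 IH) (Lpr_bt (f159346 IH) (Lpr_gf (f488721 IH) (Lpe (f132019 IH) (Lpr_ct (f132020 IH) (Lpn (LP (LK LD1_c13 LD2_c53 LD3_c26)))))))))))))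
theorem f488727 : Led Lsl_gf (LP (LK LD1_c7 LD2_c51 LD3_c53)) = (LP (LK LD1_c13 LD2_c53 LD3_c26)) :=
  Lgr Lrot76 (Lpe (K8.f160051 IH) (Lpe (K8.f160073 IH) (Lpr_gt (f488723 IH) (Lpn (LP (LK LD1_c13 LD2_c53 LD3_c26))))))
theorem f11664 : Led Lsl_dt (LP (LK LD1_c3 LD2_c55 LD3_c5)) = (LP (LK LD1_c1 LD2_c54 LD3_c8)) :=
  Lre_d IH (LK LD1_c3 LD2_c55 LD3_c5) (LK LD1_c1 LD2_c54 LD3_c8) Lrfl Lrfl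
theorem f11680 : Led Lsl_gt (LP (LK LD1_c3 LD2_c33 LD3_c0)) = (LP (LK LD1_c1 LD2_c43 LD3_c15)) :=
  Lre_g IH (LK LD1_c3 LD2_c33 LD3_c0) (LK LD1_c1 LD2_c43 LD3_c15) Lrfl Lrfl
theorem f203907 : Led Lsl_at (LP (LK LD1_c1 LD2_c48 LD3_c20)) = (LP (LK LD1_c1 LD2_c47 LD3_c3)) :=
  Lgr Lrot107 (Lpe (K29.f142384 IH) (Lpr_af (K28.f203894 IH) (Lpe (K29.f12391 IH) (Lpn (LP (LK LD1_c1 LD2_c47 LD3_c3))))))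
theorem f159510 : Led Lsl_ft (LP (LK LD1_c3 LD2_c42 LD3_c44)) = (LP (LK LD1_c1 LD2_c48 LD3_c20)) :=
  Lre_f IH (LK LD1_c3 LD2_c42 LD3_c44) (LK LD1_c1 LD2_c48 LD3_c20) Lrfl Lrfl
theorem f12403 : Led Lsl_gt (LP (LK LD1_c3 LD2_c40 LD3_c13)) = (LP (LK LD1_c1 LD2_c47 LD3_c3)) :=
  Lre_g IH (LK LD1_c3 LD2_c40 LD3_c13) (LK LD1_c1 LD2_c47 LD3_c3) Lrfl Lrfl
theorem f203919 : Led Lsl_gt (LP (LK LD1_c3 LD2_c42 LD3_c44)) = (LP (LK LD1_c3 LD2_c40 LD3_c13)) :=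
  Lgr Lrot5 (Lpr_ft (f159510 IH) (Lpr_at (f203907 IH) (Lpe (f12403 IH) (Lpn (LP (LK LD1_c3 LD2_c40 LD3_c13))))))
theorem f488729 : Led Lsl_cf (LP (LK LD1_c3 LD2_c33 LD3_c0)) = (LP (LK LD1_c3 LD2_c40 LD3_c13)) :=
  Lgr Lrot169 (Lpr_gt (f11680 IH) (Lpe (K8.f11662 IH) (Lpe (f11664 IH) (Lpe (K8.f11665 IH) (Lpr_gf (f488727 IH) (Lpe (f132020 IH) (Lpe (K28.f203832 IH) (Lpe (K28.f203837 IH) (Lpr_gt (f203919 IH) (Lpn (LP (LK LD1_c3 LD2_c40 LD3_c13))))))))))))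
def v2742 : LQ := Led Lsl_et (LP (LK LD1_c1 LD2_c54 LD3_c33))
theorem f531711 : Led Lsl_et (LP (LK LD1_c1 LD2_c54 LD3_c33)) = v2742 :=
  Lrfl
theorem f531713 : Led Lsl_ef (LP (LK LD1_c1 LD2_c54 LD3_c33)) = v2742 :=
  Lgr Lrot88 (Lpr_et (f531711 IH) (Lpn v2742))
theorem f471733 : Led Lsl_et (LP (LK LD1_c3 LD2_c32 LD3_c61)) = (LP (LK LD1_c7 LD2_c6 LD3_c60)) :=
  Lre_e IH (LK LD1_c3 LD2_c32 LD3_c61) (LK LD1_c7 LD2_c6 LD3_c60) Lrfl Lrfl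
theorem f531714 : Led Lsl_bt (LP (LK LD1_c7 LD2_c6 LD3_c60)) = v2742 :=
  Lgr Lrot119 (Lpe (f471733 IH) (Lpr_bf (K29.f471753 IH) (Lpr_ef (f531713 IH) (Lpn v2742))))
def v2754 : LQ := Led Lsl_at (LP (LK LD1_c1 LD2_c54 LD3_c38))
theorem f531767 : Led Lsl_at (LP (LK LD1_c1 LD2_c54 LD3_c38)) = v2754 :=
  Lrfl
theorem f490367 : Led Lsl_et (LP (LK LD1_c0 LD2_c53 LD3_c57)) = (LP (LK LD1_c1 LD2_c54 LD3_c38)) :=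
  Lre_e IH (LK LD1_c0 LD2_c53 LD3_c57) (LK LD1_c1 LD2_c54 LD3_c38) Lrfl Lrfl
theorem f531769 : Led Lsl_ef v901 = v2754 :=
  Lgr Lrot20 (Lpe (f490366 IH) (Lpr_et (f490367 IH) (Lpr_at (f531767 IH) (Lpn v2754))))
theorem f531770 : Led Lsl_et v901 = v2754 :=
  Lgr Lrot87 (Lpr_ef (f531769 IH) (Lpn v2754))
def v2743 : LQ := Led Lsl_ft (LP (LK LD1_c1 LD2_c54 LD3_c33))
theorem f531715 : Led Lsl_ft (LP (LK LD1_c1 LD2_c54 LD3_c33)) = v2743 :=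
  Lrfl
theorem f531717 : Led Lsl_ff (LP (LK LD1_c1 LD2_c54 LD3_c33)) = v2743 :=
  Lgr Lrot3 (Lpr_ft (f531715 IH) (Lpn v2743))
theorem f490373 : Led Lsl_af (LP (LK LD1_c0 LD2_c53 LD3_c58)) = v903 :=
  Lgr Lrot45 (Lpr_ft (f490368 IH) (Lpe (f490366 IH) (Lpr_ft (f490372 IH) (Lpn v903))))
theorem f531707 : Led Lsl_ff v900 = v2740 :=
  Lgr Lrot3 (Lpr_ft (f531706 IH) (Lpn v2740))
theorem f531718 : Led Lsl_at v900 = v2743 :=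
  Lgr Lrot66 (Lpr_ff (f531707 IH) (Lpe (f531704 IH) (Lpr_ff (f531717 IH) (Lpn v2743))))
theorem f531816 : (LP (LK LD1_c0 LD2_c53 LD3_c58)) = v2743 :=
  Lefun (Lecon (Lfl_af (f490373 IH)) (f531815 IH)) (f531718 IH)
theorem f531818 : (LP (LK LD1_c1 LD2_c54 LD3_c33)) = v901 :=
  Lefun (Lecon (Lfl_ff (f531717 IH)) (f531816 IH).symm) (f490368 IH)
theorem f531833 : v2754 = v2742 :=
  Lefun (Lecon (f531770 IH) (f531818 IH).symm) (f531711 IH)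
theorem f531768 : Led Lsl_af (LP (LK LD1_c1 LD2_c54 LD3_c38)) = v2754 :=
  Lgr Lrot0 (Lpr_at (f531767 IH) (Lpn v2754))
theorem f476627 : Led Lsl_bt (LP (LK LD1_c1 LD2_c54 LD3_c38)) = (LP (LK LD1_c3 LD2_c55 LD3_c54)) :=
  Lre_b IH (LK LD1_c1 LD2_c54 LD3_c38) (LK LD1_c3 LD2_c55 LD3_c54) Lrfl Lrfl
theorem f457734 : Led Lsl_et (LP (LK LD1_c1 LD2_c54 LD3_c36)) = (LP (LK LD1_c3 LD2_c55 LD3_c54)) :=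
  Lre_e IH (LK LD1_c1 LD2_c54 LD3_c36) (LK LD1_c3 LD2_c55 LD3_c54) Lrfl Lrfl
theorem f531801 : Led Lsl_af (LP (LK LD1_c7 LD2_c13 LD3_c43)) = (LP (LK LD1_c3 LD2_c55 LD3_c54)) :=
  Lgr Lrot50 (Lpr_et (f94647 IH) (Lpq (f531798 IH) (Lpe (f531741 IH) (Lpr_et (f457734 IH) (Lpn (LP (LK LD1_c3 LD2_c55 LD3_c54)))))))
theorem f531834 : Led Lsl_af (LP (LK LD1_c7 LD2_c6 LD3_c60)) = (LP (LK LD1_c12 LD2_c30 LD3_c20)) :=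
  Lgr Lrot36 (Lpr_bt (f531714 IH) (Lpq (f531833 IH) (Lpe (f531768 IH) (Lpr_bt (f476627 IH) (Lpe (f531801 IH) (Lpe (f465365 IH) (Lpn (LP (LK LD1_c12 LD2_c30 LD3_c20)))))))))
theorem f471734 : Led Lsl_ct (LP (LK LD1_c7 LD2_c6 LD3_c60)) = (LP (LK LD1_c7 LD2_c20 LD3_c37)) :=
  Lgr Lrot15 (Lpe (f471733 IH) (Lpr_cf (K29.f471728 IH) (Lpe (K28.f122486 IH) (Lpn (LP (LK LD1_c7 LD2_c20 LD3_c37))))))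
theorem f531838 : Led Lsl_at (LP (LK LD1_c7 LD2_c20 LD3_c37)) = (LP (LK LD1_c7 LD2_c26 LD3_c1)) :=
  Lgr Lrot107 (Lpe (f471734 IH) (Lpr_af (f531834 IH) (Lpr_cf (f470905 IH) (Lpn (LP (LK LD1_c7 LD2_c26 LD3_c1))))))
theorem f122503 : Led Lsl_et (LP (LK LD1_c3 LD2_c40 LD3_c12)) = (LP (LK LD1_c7 LD2_c20 LD3_c37)) :=
  Lre_e IH (LK LD1_c3 LD2_c40 LD3_c12) (LK LD1_c7 LD2_c20 LD3_c37) Lrfl Lrfl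
theorem f531844 : Led Lsl_af (LP (LK LD1_c3 LD2_c40 LD3_c12)) = (LP (LK LD1_c3 LD2_c42 LD3_c41)) :=
  Lgr Lrot50 (Lpr_et (f122503 IH) (Lpr_at (f531838 IH) (Lpr_et (K28.f203880 IH) (Lpn (LP (LK LD1_c3 LD2_c42 LD3_c41))))))
theorem f531850 : Led Lsl_ft (LP (LK LD1_c3 LD2_c40 LD3_c13)) = (LP (LK LD1_c3 LD2_c42 LD3_c41)) :=
  Lgr Lrot2 (Lpr_gt (f12403 IH) (Lpr_gt (K28.f12401 IH) (Lpr_af (f531844 IH) (Lpn (LP (LK LD1_c3 LD2_c42 LD3_c41))))))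
theorem f488731 : Led Lsl_ct (LP (LK LD1_c3 LD2_c33 LD3_c0)) = (LP (LK LD1_c3 LD2_c40 LD3_c13)) :=
  Lgr Lrot59 (Lpr_cf (f488729 IH) (Lpn (LP (LK LD1_c3 LD2_c40 LD3_c13))))
theorem f470903 : Led Lsl_cf (LP (LK LD1_c6 LD2_c30 LD3_c42)) = (LP (LK LD1_c3 LD2_c42 LD3_c41)) :=
  Lgr Lrot11 (Lpr_ct (K29.f470898 IH) (Lpn (LP (LK LD1_c3 LD2_c42 LD3_c41))))
theorem f531858 : (LP (LK LD1_c3 LD2_c33 LD3_c0)) = v2757 :=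
  (Llr Lrot108 (Lpr_ct (f488731 IH) (Lpr_ft (f531850 IH) (Lpe (f470903 IH) (Lpr_ft (f531782 IH) (Lpn v2757)))))).symm
theorem f531863 : Led Lsl_af (LP (LK LD1_c3 LD2_c40 LD3_c13)) = (LP (LK LD1_c3 LD2_c42 LD3_c42)) :=
  Lgr Lrot68 (Lpe (f488729 IH) (Lpqs (f531858 IH) (Lpe (f531781 IH) (Lpr_ct (K29.f471174 IH) (Lpn (LP (LK LD1_c3 LD2_c42 LD3_c42)))))))
theorem f531869 : Led Lsl_ft (LP (LK LD1_c3 LD2_c40 LD3_c12)) = (LP (LK LD1_c3 LD2_c42 LD3_c42)) :=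
  Lgr Lrot101 (Lpr_af (f531844 IH) (Lpe (f531850 IH) (Lpr_af (f531863 IH) (Lpn (LP (LK LD1_c3 LD2_c42 LD3_c42))))))
theorem f531875 : Led Lsl_ff (LP (LK LD1_c3 LD2_c40 LD3_c12)) = (LP (LK LD1_c3 LD2_c42 LD3_c42)) :=
  Lgr Lrot3 (Lpr_ft (f531869 IH) (Lpn (LP (LK LD1_c3 LD2_c42 LD3_c42))))
theorem f122605 : Led Lsl_dt (LP (LK LD1_c3 LD2_c40 LD3_c12)) = (LP (LK LD1_c7 LD2_c20 LD3_c36)) :=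
  Lre_d IH (LK LD1_c3 LD2_c40 LD3_c12) (LK LD1_c7 LD2_c20 LD3_c36) Lrfl Lrfl
theorem f203955 : Led Lsl_dt (LP (LK LD1_c7 LD2_c26 LD3_c3)) = (LP (LK LD1_c3 LD2_c42 LD3_c42)) :=
  Lre_d IH (LK LD1_c7 LD2_c26 LD3_c3) (LK LD1_c3 LD2_c42 LD3_c42) Lrfl Lrfl
theorem f531879 : Led Lsl_ft (LP (LK LD1_c7 LD2_c20 LD3_c36)) = (LP (LK LD1_c7 LD2_c26 LD3_c3)) :=
  Lgr Lrot54 (Lpe (f122605 IH) (Lpr_ff (f531875 IH) (Lpe (f203955 IH) (Lpn (LP (LK LD1_c7 LD2_c26 LD3_c3))))))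
theorem f471732 : Led Lsl_ct (LP (LK LD1_c13 LD2_c53 LD3_c17)) = (LP (LK LD1_c7 LD2_c20 LD3_c36)) :=
  Lre_c IH (LK LD1_c13 LD2_c53 LD3_c17) (LK LD1_c7 LD2_c20 LD3_c36) Lrfl Lrfl
theorem f203952 : Led Lsl_ct (LP (LK LD1_c7 LD2_c26 LD3_c3)) = (LP (LK LD1_c14 LD2_c3 LD3_c13)) :=
  Lre_c IH (LK LD1_c7 LD2_c26 LD3_c3) (LK LD1_c14 LD2_c3 LD3_c13) Lrfl Lrfl
theorem f531883 : Led Lsl_ff (LP (LK LD1_c13 LD2_c53 LD3_c17)) = (LP (LK LD1_c14 LD2_c3 LD3_c13)) :=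
  Lgr Lrot23 (Lpr_ct (f471732 IH) (Lpr_ft (f531879 IH) (Lpr_ct (f203952 IH) (Lpn (LP (LK LD1_c14 LD2_c3 LD3_c13))))))
theorem f451629 : Led Lsl_dt (LP (LK LD1_c1 LD2_c54 LD3_c52)) = (LP (LK LD1_c3 LD2_c56 LD3_c16)) :=
  Lre_d IH (LK LD1_c1 LD2_c54 LD3_c52) (LK LD1_c3 LD2_c56 LD3_c16) Lrfl Lrfl
theorem f531411 : Led Lsl_et (LP (LK LD1_c7 LD2_c4 LD3_c39)) = (LP (LK LD1_c3 LD2_c40 LD3_c40)) :=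
  Lgr Lrot185 (Lpr_dt (f531404 IH) (Lpe (f451661 IH) (Lpe (f451629 IH) (Lpr_gf (K28.f470369 IH) (Lpe (K8.f11650 IH) (Lpr_dt (K6.f142269 IH) (Lpe (K7.f147675 IH) (Lpe (K7.f147669 IH) (Lpr_et (f147698 IH) (Lpe (K29.f4560 IH) (Lpn (LP (LK LD1_c3 LD2_c40 LD3_c40)))))))))))))
theorem f531419 : Led Lsl_ef (LP (LK LD1_c7 LD2_c4 LD3_c39)) = (LP (LK LD1_c3 LD2_c40 LD3_c40)) :=
  Lgr Lrot88 (Lpr_et (f531411 IH) (Lpn (LP (LK LD1_c3 LD2_c40 LD3_c40))))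
theorem f531410 : Led Lsl_et (LP (LK LD1_c7 LD2_c54 LD3_c10)) = (LP (LK LD1_c14 LD2_c54 LD3_c26)) :=
  Lre_e IH (LK LD1_c7 LD2_c54 LD3_c10) (LK LD1_c14 LD2_c54 LD3_c26) Lrfl Lrfl
theorem f517530 : Led Lsl_et (LP (LK LD1_c13 LD2_c54 LD3_c59)) = (LP (LK LD1_c7 LD2_c21 LD3_c37)) :=
  Lre_e IH (LK LD1_c13 LD2_c54 LD3_c59) (LK LD1_c7 LD2_c21 LD3_c37) Lrfl Lrfl
theorem f531426 : Led Lsl_dt (LP (LK LD1_c14 LD2_c54 LD3_c26)) = (LP (LK LD1_c13 LD2_c54 LD3_c59)) :=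
  Lgr Lrot77 (Lpe (f531410 IH) (Lpe (f531404 IH) (Lpr_ef (f531419 IH) (Lpe (f4561 IH) (Lpe (f517530 IH) (Lpn (LP (LK LD1_c13 LD2_c54 LD3_c59))))))))
theorem f4652 : Led Lsl_ct (LP (LK LD1_c7 LD2_c24 LD3_c6)) = (LP (LK LD1_c3 LD2_c41 LD3_c42)) :=
  Lre_c IH (LK LD1_c7 LD2_c24 LD3_c6) (LK LD1_c3 LD2_c41 LD3_c42) Lrfl Lrfl
theorem f515222 : Led Lsl_ff (LP (LK LD1_c7 LD2_c24 LD3_c6)) = (LP (LK LD1_c13 LD2_c54 LD3_c61)) :=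
  Lgr Lrot23 (Lpr_ct (f4652 IH) (Lpr_ft (K33.f515218 IH) (Lpr_ct (f456445 IH) (Lpn (LP (LK LD1_c13 LD2_c54 LD3_c61))))))
theorem f13410 : Led Lsl_ct (LP (LK LD1_c3 LD2_c41 LD3_c36)) = (LP (LK LD1_c7 LD2_c23 LD3_c54)) :=
  Lre_c IH (LK LD1_c3 LD2_c41 LD3_c36) (LK LD1_c7 LD2_c23 LD3_c54) Lrfl Lrfl
theorem f517553 : Led Lsl_ff (LP (LK LD1_c13 LD2_c54 LD3_c58)) = (LP (LK LD1_c7 LD2_c23 LD3_c54)) :=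
  Lgr Lrot23 (Lpr_ct (f483461 IH) (Lpr_ft (f517548 IH) (Lpr_ct (f13410 IH) (Lpn (LP (LK LD1_c7 LD2_c23 LD3_c54))))))
theorem f517598 : Led Lsl_dt (LP (LK LD1_c7 LD2_c24 LD3_c6)) = (LP (LK LD1_c7 LD2_c23 LD3_c54)) :=
  Lgr Lrot60 (Lpr_ff (f515222 IH) (Lpr_df (f517576 IH) (Lpr_ff (f517553 IH) (Lpn (LP (LK LD1_c7 LD2_c23 LD3_c54))))))
theorem f13403 : Led Lsl_gt (LP (LK LD1_c7 LD2_c24 LD3_c3)) = (LP (LK LD1_c13 LD2_c59 LD3_c56)) :=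
  Lre_g IH (LK LD1_c7 LD2_c24 LD3_c3) (LK LD1_c13 LD2_c59 LD3_c56) Lrfl Lrfl
theorem f4654 : Led Lsl_gt (LP (LK LD1_c13 LD2_c59 LD3_c57)) = (LP (LK LD1_c7 LD2_c24 LD3_c3)) :=
  Lre_g IH (LK LD1_c13 LD2_c59 LD3_c57) (LK LD1_c7 LD2_c24 LD3_c3) Lrfl Lrfl
theorem f490459 : Led Lsl_dt (LP (LK LD1_c13 LD2_c59 LD3_c56)) = (LP (LK LD1_c13 LD2_c59 LD3_c57)) :=
  Lgr Lrot57 (Lpe (f13403 IH) (Lpe (K33.f13402 IH) (Lpr_gt (K33.f4617 IH) (Lpr_dt (K29.f4637 IH) (Lpr_gt (K28.f436794 IH) (Lpr_dt (K29.f436795 IH) (Lpe (K33.f456467 IH) (Lpr_df (K33.f490448 IH) (Lpe (f4654 IH) (Lpn (LP (LK LD1_c13 LD2_c59 LD3_c57))))))))))))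
theorem f4601 : Led Lsl_ft (LP (LK LD1_c3 LD2_c40 LD3_c41)) = (LP (LK LD1_c7 LD2_c21 LD3_c41)) :=
  Lre_f IH (LK LD1_c3 LD2_c40 LD3_c41) (LK LD1_c7 LD2_c21 LD3_c41) Lrfl Lrfl
theorem f4602 : Led Lsl_cf (LP (LK LD1_c7 LD2_c24 LD3_c11)) = (LP (LK LD1_c7 LD2_c21 LD3_c41)) :=
  Lgr Lrot108 (Lpr_ft (K29.f4583 IH) (Lpr_ct (K29.f4523 IH) (Lpr_ft (f4601 IH) (Lpn (LP (LK LD1_c7 LD2_c21 LD3_c41))))))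
theorem f490470 : Led Lsl_gt (LP (LK LD1_c13 LD2_c59 LD3_c56)) = (LP (LK LD1_c7 LD2_c24 LD3_c6)) :=
  Lgr Lrot146 (Lpr_dt (f490459 IH) (Lpr_gt (f4654 IH) (Lpr_ct (K33.f4653 IH) (Lpr_gt (K33.f4617 IH) (Lpe (f4602 IH) (Lpr_dt (K29.f4552 IH) (Lpe (K29.f4614 IH) (Lpe (K33.f4651 IH) (Lpe (f4652 IH) (Lpn (LP (LK LD1_c7 LD2_c24 LD3_c6))))))))))))
theorem f490467 : Led Lsl_df (LP (LK LD1_c13 LD2_c59 LD3_c56)) = (LP (LK LD1_c13 LD2_c59 LD3_c57)) :=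
  Lgr Lrot38 (Lpr_dt (f490459 IH) (Lpn (LP (LK LD1_c13 LD2_c59 LD3_c57))))
theorem f4610 : Led Lsl_dt (LP (LK LD1_c1 LD2_c47 LD3_c44)) = (LP (LK LD1_c0 LD2_c50 LD3_c36)) :=
  Lre_d IH (LK LD1_c1 LD2_c47 LD3_c44) (LK LD1_c0 LD2_c50 LD3_c36) Lrfl Lrfl
theorem f517675 : Led Lsl_gf (LP (LK LD1_c13 LD2_c59 LD3_c57)) = (LP (LK LD1_c7 LD2_c24 LD3_c6)) :=
  Lgr Lrot144 (Lpe (f490467 IH) (Lpr_gt (f490470 IH) (Lpr_dt (f517598 IH) (Lpe (f13410 IH) (Lpe (K29.f13409 IH) (Lpe (K29.f13408 IH) (Lpe (f4610 IH) (Lpe (K33.f4651 IH) (Lpe (f4652 IH) (Lpn (LP (LK LD1_c7 LD2_c24 LD3_c6))))))))))))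
theorem f4811 : Led Lsl_ct (LP (LK LD1_c3 LD2_c41 LD3_c42)) = (LP (LK LD1_c7 LD2_c24 LD3_c6)) :=
  Lre_c IH (LK LD1_c3 LD2_c41 LD3_c42) (LK LD1_c7 LD2_c24 LD3_c6) Lrfl Lrfl
theorem f4640 : Led Lsl_dt (LP (LK LD1_c3 LD2_c40 LD3_c42)) = (LP (LK LD1_c7 LD2_c21 LD3_c41)) :=
  Lre_d IH (LK LD1_c3 LD2_c40 LD3_c42) (LK LD1_c7 LD2_c21 LD3_c41) Lrfl Lrfl
theorem f517678 : Led Lsl_ct (LP (LK LD1_c13 LD2_c59 LD3_c57)) = (LP (LK LD1_c7 LD2_c27 LD3_c39)) :=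
  Lgr Lrot110 (Lpr_gf (f517675 IH) (Lpe (f4811 IH) (Lpe (K33.f4615 IH) (Lpe (f4640 IH) (Lpr_gt (K28.f436794 IH) (Lpr_ct (K33.f456462 IH) (Lpe (K33.f482590 IH) (Lpe (K4.f12788 IH) (Lpe (K33.f12790 IH) (Lpn (LP (LK LD1_c7 LD2_c27 LD3_c39))))))))))))
theorem f517685 : Led Lsl_cf (LP (LK LD1_c13 LD2_c59 LD3_c57)) = (LP (LK LD1_c7 LD2_c27 LD3_c39)) :=
  Lgr Lrot11 (Lpr_ct (f517678 IH) (Lpn (LP (LK LD1_c7 LD2_c27 LD3_c39))))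
theorem f517683 : Led Lsl_af (LP (LK LD1_c13 LD2_c59 LD3_c57)) = (LP (LK LD1_c13 LD2_c55 LD3_c16)) :=
  Lgr Lrot68 (Lpr_ct (f517678 IH) (Lpr_at (K29.f137031 IH) (Lpr_ct (K33.f123544 IH) (Lpn (LP (LK LD1_c13 LD2_c55 LD3_c16))))))
theorem f517691 : Led Lsl_ft (LP (LK LD1_c13 LD2_c59 LD3_c56)) = (LP (LK LD1_c13 LD2_c55 LD3_c16)) :=
  Lgr Lrot142 (Lpr_dt (f490459 IH) (Lpr_ct (f517678 IH) (Lpr_dt (K33.f12790 IH) (Lpr_ct (K4.f12778 IH) (Lpe (K29.f102704 IH) (Lpe (K4.f12788 IH) (Lpr_dt (K33.f12799 IH) (Lpe (f517685 IH) (Lpr_af (f517683 IH) (Lpn (LP (LK LD1_c13 LD2_c55 LD3_c16))))))))))))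
theorem f517695 : Led Lsl_ff (LP (LK LD1_c13 LD2_c59 LD3_c56)) = (LP (LK LD1_c13 LD2_c55 LD3_c16)) :=
  Lgr Lrot3 (Lpr_ft (f517691 IH) (Lpn (LP (LK LD1_c13 LD2_c55 LD3_c16))))
theorem f483514 : Led Lsl_ff (LP (LK LD1_c7 LD2_c21 LD3_c47)) = (LP (LK LD1_c13 LD2_c55 LD3_c8)) :=
  Lgr Lrot19 (Lpr_dt (K29.f123542 IH) (Lpr_ft (K29.f483512 IH) (Lpr_dt (f4534 IH) (Lpn (LP (LK LD1_c13 LD2_c55 LD3_c8))))))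
theorem f517699 : Led Lsl_ct (LP (LK LD1_c13 LD2_c59 LD3_c56)) = (LP (LK LD1_c13 LD2_c55 LD3_c8)) :=
  Lgr Lrot40 (Lpr_ff (f517695 IH) (Lpe (K33.f123544 IH) (Lpr_ff (f483514 IH) (Lpn (LP (LK LD1_c13 LD2_c55 LD3_c8))))))
theorem f463007 : Led Lsl_gt (LP (LK LD1_c7 LD2_c23 LD3_c54)) = (LP (LK LD1_c13 LD2_c59 LD3_c32)) :=
  Lre_g IH (LK LD1_c7 LD2_c23 LD3_c54) (LK LD1_c13 LD2_c59 LD3_c32) Lrfl Lrfl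
theorem f517722 : Led Lsl_dt (LP (LK LD1_c13 LD2_c59 LD3_c32)) = (LP (LK LD1_c14 LD2_c0 LD3_c38)) :=
  Lgr Lrot113 (Lpe (f463007 IH) (Lpe (f517598 IH) (Lpe (f490470 IH) (Lpr_ct (f517699 IH) (Lpe (f148257 IH) (Lpr_dt (f148244 IH) (Lpr_gt (K30.f491719 IH) (Lpr_dt (f484675 IH) (Lpr_ct (f484682 IH) (Lpn (LP (LK LD1_c14 LD2_c0 LD3_c38))))))))))))
theorem f484688 : Led Lsl_ct (LP (LK LD1_c14 LD2_c0 LD3_c38)) = (LP (LK LD1_c7 LD2_c24 LD3_c20)) :=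
  Lre_c IH (LK LD1_c14 LD2_c0 LD3_c38) (LK LD1_c7 LD2_c24 LD3_c20) Lrfl Lrfl
theorem f484703 : Led Lsl_ct (LP (LK LD1_c6 LD2_c57 LD3_c41)) = (LP (LK LD1_c3 LD2_c27 LD3_c46)) :=
  Lre_c IH (LK LD1_c6 LD2_c57 LD3_c41) (LK LD1_c3 LD2_c27 LD3_c46) Lrfl Lrfl
theorem f518475 : Led Lsl_cf (LP (LK LD1_c13 LD2_c59 LD3_c32)) = (LP (LK LD1_c13 LD2_c55 LD3_c10)) :=
  Lgr Lrot116 (Lpr_dt (f517722 IH) (Lpr_ct (f484688 IH) (Lpe (f484683 IH) (Lpr_ct (f484703 IH) (Lpe (K32.f484704 IH) (Lpe (K32.f491736 IH) (Lpe (f491751 IH) (Lpr_ct (K33.f511505 IH) (Lpe (f511514 IH) (Lpn (LP (LK LD1_c13 LD2_c55 LD3_c10))))))))))))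
theorem f483464 : Led Lsl_cf (LP (LK LD1_c6 LD2_c34 LD3_c2)) = (LP (LK LD1_c7 LD2_c21 LD3_c42)) :=
  Lgr Lrot11 (Lpr_ct (K29.f483462 IH) (Lpn (LP (LK LD1_c7 LD2_c21 LD3_c42))))
theorem f65530 : Led Lsl_ft (LP (LK LD1_c6 LD2_c34 LD3_c2)) = (LP (LK LD1_c3 LD2_c15 LD3_c21)) :=
  Lre_f IH (LK LD1_c6 LD2_c34 LD3_c2) (LK LD1_c3 LD2_c15 LD3_c21) Lrfl Lrfl
theorem f482592 : Led Lsl_gt (LP (LK LD1_c6 LD2_c34 LD3_c2)) = (LP (LK LD1_c3 LD2_c38 LD3_c21)) :=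
  Lgr Lrot5 (Lpr_ft (f65530 IH) (Lpe (K29.f115988 IH) (Lpr_gf (K33.f482590 IH) (Lpn (LP (LK LD1_c3 LD2_c38 LD3_c21))))))
theorem f518487 : Led Lsl_gt (LP (LK LD1_c13 LD2_c59 LD3_c32)) = (LP (LK LD1_c7 LD2_c23 LD3_c61)) :=
  Lgr Lrot150 (Lpr_cf (f518475 IH) (Lpe (f483998 IH) (Lpe (f483997 IH) (Lpr_gt (K29.f4533 IH) (Lpe (f483464 IH) (Lpr_gt (f482592 IH) (Lpe (K24.f456456 IH) (Lpe (K29.f4810 IH) (Lpe (K33.f456467 IH) (Lpn (LP (LK LD1_c7 LD2_c23 LD3_c61))))))))))))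
theorem f518489 : Led Lsl_at (LP (LK LD1_c13 LD2_c54 LD3_c58)) = (LP (LK LD1_c7 LD2_c23 LD3_c61)) :=
  Lgr Lrot26 (Lpr_ff (f517553 IH) (Lpr_gt (f463007 IH) (Lpr_gt (f518487 IH) (Lpn (LP (LK LD1_c7 LD2_c23 LD3_c61))))))
theorem f486087 : Led Lsl_et (LP (LK LD1_c23 LD2_c25 LD3_c24)) = (LP (LK LD1_c13 LD2_c54 LD3_c58)) :=
  Lre_e IH (LK LD1_c23 LD2_c25 LD3_c24) (LK LD1_c13 LD2_c54 LD3_c58) Lrfl Lrfl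
theorem f490453 : Led Lsl_et (LP (LK LD1_c7 LD2_c23 LD3_c61)) = (LP (LK LD1_c13 LD2_c59 LD3_c47)) :=
  Lre_e IH (LK LD1_c7 LD2_c23 LD3_c61) (LK LD1_c13 LD2_c59 LD3_c47) Lrfl Lrfl
theorem f518493 : Led Lsl_af (LP (LK LD1_c23 LD2_c25 LD3_c24)) = (LP (LK LD1_c13 LD2_c59 LD3_c47)) :=
  Lgr Lrot50 (Lpr_et (f486087 IH) (Lpr_at (f518489 IH) (Lpr_et (f490453 IH) (Lpn (LP (LK LD1_c13 LD2_c59 LD3_c47))))))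
theorem f518498 : Led Lsl_ct (LP (LK LD1_c23 LD2_c25 LD3_c24)) = (LP (LK LD1_c13 LD2_c54 LD3_c59)) :=
  Lre_c IH (LK LD1_c23 LD2_c25 LD3_c24) (LK LD1_c13 LD2_c54 LD3_c59) Lrfl Lrfl
theorem f518499 : Led Lsl_ct (LP (LK LD1_c7 LD2_c24 LD3_c0)) = (LP (LK LD1_c13 LD2_c59 LD3_c47)) :=
  Lre_c IH (LK LD1_c7 LD2_c24 LD3_c0) (LK LD1_c13 LD2_c59 LD3_c47) Lrfl Lrfl
theorem f518500 : Led Lsl_at (LP (LK LD1_c13 LD2_c54 LD3_c59)) = (LP (LK LD1_c7 LD2_c24 LD3_c0)) :=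
  Lgr Lrot107 (Lpe (f518498 IH) (Lpr_af (f518493 IH) (Lpe (f518499 IH) (Lpn (LP (LK LD1_c7 LD2_c24 LD3_c0))))))
theorem f483719 : Led Lsl_dt (LP (LK LD1_c7 LD2_c24 LD3_c0)) = (LP (LK LD1_c13 LD2_c59 LD3_c50)) :=
  Lre_d IH (LK LD1_c7 LD2_c24 LD3_c0) (LK LD1_c13 LD2_c59 LD3_c50) Lrfl Lrfl
theorem f531428 : Led Lsl_af (LP (LK LD1_c14 LD2_c54 LD3_c26)) = (LP (LK LD1_c13 LD2_c59 LD3_c50)) :=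
  Lgr Lrot117 (Lpr_dt (f531426 IH) (Lpr_at (f518500 IH) (Lpr_dt (f483719 IH) (Lpn (LP (LK LD1_c13 LD2_c59 LD3_c50))))))
theorem f469359 : Led Lsl_et (LP (LK LD1_c14 LD2_c54 LD3_c26)) = (LP (LK LD1_c7 LD2_c54 LD3_c10)) :=
  Lre_e IH (LK LD1_c14 LD2_c54 LD3_c26) (LK LD1_c7 LD2_c54 LD3_c10) Lrfl Lrfl
theorem f483724 : Led Lsl_et (LP (LK LD1_c7 LD2_c24 LD3_c1)) = (LP (LK LD1_c13 LD2_c59 LD3_c50)) :=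
  Lre_e IH (LK LD1_c7 LD2_c24 LD3_c1) (LK LD1_c13 LD2_c59 LD3_c50) Lrfl Lrfl
theorem f531447 : Led Lsl_at (LP (LK LD1_c7 LD2_c54 LD3_c10)) = (LP (LK LD1_c7 LD2_c24 LD3_c1)) :=
  Lgr Lrot80 (Lpe (f469359 IH) (Lpr_af (f531428 IH) (Lpe (f483724 IH) (Lpn (LP (LK LD1_c7 LD2_c24 LD3_c1))))))
theorem f451894 : Led Lsl_dt (LP (LK LD1_c3 LD2_c56 LD3_c9)) = (LP (LK LD1_c7 LD2_c54 LD3_c1)) :=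
  Lre_d IH (LK LD1_c3 LD2_c56 LD3_c9) (LK LD1_c7 LD2_c54 LD3_c1) Lrfl Lrfl
theorem f471374 : Led Lsl_dt (LP (LK LD1_c13 LD2_c53 LD3_c28)) = (LP (LK LD1_c7 LD2_c20 LD3_c44)) :=
  Lre_d IH (LK LD1_c13 LD2_c53 LD3_c28) (LK LD1_c7 LD2_c20 LD3_c44) Lrfl Lrfl
theorem f471632 : Led Lsl_at (LP (LK LD1_c7 LD2_c54 LD3_c1)) = (LP (LK LD1_c13 LD2_c53 LD3_c28)) :=
  Lgr Lrot51 (Lpe (f451894 IH) (Lpr_af (K33.f471624 IH) (Lpe (f471374 IH) (Lpn (LP (LK LD1_c13 LD2_c53 LD3_c28))))))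
theorem f471634 : Led Lsl_af (LP (LK LD1_c7 LD2_c54 LD3_c1)) = (LP (LK LD1_c13 LD2_c53 LD3_c28)) :=
  Lgr Lrot0 (Lpr_at (f471632 IH) (Lpn (LP (LK LD1_c13 LD2_c53 LD3_c28))))
theorem f451820 : Led Lsl_bt (LP (LK LD1_c7 LD2_c54 LD3_c1)) = (LP (LK LD1_c3 LD2_c56 LD3_c10)) :=
  Lre_b IH (LK LD1_c7 LD2_c54 LD3_c1) (LK LD1_c3 LD2_c56 LD3_c10) Lrfl Lrfl
theorem f471580 : Led Lsl_bt (LP (LK LD1_c7 LD2_c20 LD3_c45)) = (LP (LK LD1_c13 LD2_c53 LD3_c28)) :=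
  Lre_b IH (LK LD1_c7 LD2_c20 LD3_c45) (LK LD1_c13 LD2_c53 LD3_c28) Lrfl Lrfl
theorem f471640 : Led Lsl_at (LP (LK LD1_c3 LD2_c56 LD3_c16)) = (LP (LK LD1_c7 LD2_c20 LD3_c45)) :=
  Lgr Lrot67 (Lpe (K28.f451648 IH) (Lpe (K33.f451874 IH) (Lpe (f451820 IH) (Lpr_af (f471634 IH) (Lpe (f471580 IH) (Lpn (LP (LK LD1_c7 LD2_c20 LD3_c45))))))))
theorem f451646 : Led Lsl_gt (LP (LK LD1_c3 LD2_c56 LD3_c36)) = (LP (LK LD1_c7 LD2_c54 LD3_c56)) :=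
  Lre_g IH (LK LD1_c3 LD2_c56 LD3_c36) (LK LD1_c7 LD2_c54 LD3_c56) Lrfl Lrfl
theorem f471642 : Led Lsl_gt (LP (LK LD1_c7 LD2_c54 LD3_c56)) = (LP (LK LD1_c7 LD2_c20 LD3_c45)) :=
  Lgr Lrot46 (Lpe (f451646 IH) (Lpr_ft (K28.f451627 IH) (Lpr_at (f471640 IH) (Lpn (LP (LK LD1_c7 LD2_c20 LD3_c45))))))
theorem f531453 : Led Lsl_ff (LP (LK LD1_c7 LD2_c54 LD3_c10)) = (LP (LK LD1_c7 LD2_c54 LD3_c56)) :=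
  Lgr Lrot52 (Lpr_at (f531447 IH) (Lpr_gf (f471566 IH) (Lpe (f471642 IH) (Lpn (LP (LK LD1_c7 LD2_c54 LD3_c56))))))
theorem f531459 : Led Lsl_ft (LP (LK LD1_c7 LD2_c54 LD3_c10)) = (LP (LK LD1_c7 LD2_c54 LD3_c56)) :=
  Lgr Lrot48 (Lpr_ff (f531453 IH) (Lpn (LP (LK LD1_c7 LD2_c54 LD3_c56))))
theorem f471578 : Led Lsl_af (LP (LK LD1_c3 LD2_c56 LD3_c16)) = (LP (LK LD1_c7 LD2_c20 LD3_c45)) :=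
  Lgr Lrot45 (Lpe (K28.f451644 IH) (Lpr_at (K33.f470855 IH) (Lpr_ft (K33.f471329 IH) (Lpn (LP (LK LD1_c7 LD2_c20 LD3_c45))))))
theorem f451276 : Led Lsl_gt (LP (LK LD1_c7 LD2_c54 LD3_c11)) = (LP (LK LD1_c3 LD2_c56 LD3_c16)) :=
  Lre_g IH (LK LD1_c7 LD2_c54 LD3_c11) (LK LD1_c3 LD2_c56 LD3_c16) Lrfl Lrfl
theorem f471583 : Led Lsl_gt (LP (LK LD1_c7 LD2_c26 LD3_c8)) = (LP (LK LD1_c7 LD2_c54 LD3_c11)) :=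
  Lgr Lrot5 (Lpr_ft (K33.f471329 IH) (Lpe (f471578 IH) (Lpe (f451276 IH) (Lpn (LP (LK LD1_c7 LD2_c54 LD3_c11))))))
theorem f531465 : Led Lsl_af (LP (LK LD1_c7 LD2_c54 LD3_c11)) = (LP (LK LD1_c7 LD2_c54 LD3_c56)) :=
  Lgr Lrot31 (Lpe (f471583 IH) (Lpe (f470862 IH) (Lpr_ft (f531459 IH) (Lpn (LP (LK LD1_c7 LD2_c54 LD3_c56))))))
theorem f531449 : Led Lsl_af (LP (LK LD1_c7 LD2_c54 LD3_c10)) = (LP (LK LD1_c7 LD2_c24 LD3_c1)) :=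
  Lgr Lrot0 (Lpr_at (f531447 IH) (Lpn (LP (LK LD1_c7 LD2_c24 LD3_c1))))
theorem f531473 : Led Lsl_ft (LP (LK LD1_c7 LD2_c54 LD3_c11)) = (LP (LK LD1_c7 LD2_c24 LD3_c1)) :=
  Lgr Lrot101 (Lpr_af (f531465 IH) (Lpe (f531459 IH) (Lpr_af (f531449 IH) (Lpn (LP (LK LD1_c7 LD2_c24 LD3_c1))))))
theorem f471586 : Led Lsl_ct (LP (LK LD1_c14 LD2_c54 LD3_c28)) = (LP (LK LD1_c7 LD2_c54 LD3_c11)) :=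
  Lre_c IH (LK LD1_c14 LD2_c54 LD3_c28) (LK LD1_c7 LD2_c54 LD3_c11) Lrfl Lrfl
theorem f456536 : Led Lsl_ct (LP (LK LD1_c7 LD2_c24 LD3_c1)) = (LP (LK LD1_c13 LD2_c59 LD3_c52)) :=
  Lre_c IH (LK LD1_c7 LD2_c24 LD3_c1) (LK LD1_c13 LD2_c59 LD3_c52) Lrfl Lrfl
theorem f531477 : Led Lsl_ff (LP (LK LD1_c14 LD2_c54 LD3_c28)) = (LP (LK LD1_c13 LD2_c59 LD3_c52)) :=
  Lgr Lrot23 (Lpr_ct (f471586 IH) (Lpr_ft (f531473 IH) (Lpr_ct (f456536 IH) (Lpn (LP (LK LD1_c13 LD2_c59 LD3_c52))))))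
theorem f471585 : Led Lsl_ct (LP (LK LD1_c7 LD2_c54 LD3_c11)) = (LP (LK LD1_c14 LD2_c54 LD3_c28)) :=
  Lre_c IH (LK LD1_c7 LD2_c54 LD3_c11) (LK LD1_c14 LD2_c54 LD3_c28) Lrfl Lrfl
theorem f471096 : Led Lsl_ct (LP (LK LD1_c14 LD2_c55 LD3_c53)) = (LP (LK LD1_c7 LD2_c54 LD3_c56)) :=
  Lre_c IH (LK LD1_c14 LD2_c55 LD3_c53) (LK LD1_c7 LD2_c54 LD3_c56) Lrfl Lrfl
theorem f531470 : Led Lsl_at (LP (LK LD1_c14 LD2_c54 LD3_c28)) = (LP (LK LD1_c14 LD2_c55 LD3_c53)) :=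
  Lgr Lrot107 (Lpe (f471585 IH) (Lpr_af (f531465 IH) (Lpe (f471096 IH) (Lpn (LP (LK LD1_c14 LD2_c55 LD3_c53))))))
theorem f203953 : Led Lsl_ct (LP (LK LD1_c14 LD2_c3 LD3_c13)) = (LP (LK LD1_c7 LD2_c26 LD3_c3)) :=
  Lre_c IH (LK LD1_c14 LD2_c3 LD3_c13) (LK LD1_c7 LD2_c26 LD3_c3) Lrfl Lrfl
theorem f471928 : Led Lsl_gt (LP (LK LD1_c13 LD2_c59 LD3_c52)) = (LP (LK LD1_c14 LD2_c3 LD3_c13)) :=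
  Lgr Lrot150 (Lpe (f456536 IH) (Lpr_gf (f471566 IH) (Lpe (f471318 IH) (Lpe (K30.f471332 IH) (Lpr_ct (K8.f11688 IH) (Lpr_gt (f471922 IH) (Lpr_ct (K29.f471174 IH) (Lpe (f203955 IH) (Lpe (f203953 IH) (Lpn (LP (LK LD1_c14 LD2_c3 LD3_c13))))))))))))
theorem f531503 : Led Lsl_gf (LP (LK LD1_c14 LD2_c55 LD3_c53)) = (LP (LK LD1_c14 LD2_c3 LD3_c13)) :=
  Lgr Lrot76 (Lpe (f531470 IH) (Lpr_ff (f531477 IH) (Lpr_gt (f471928 IH) (Lpn (LP (LK LD1_c14 LD2_c3 LD3_c13))))))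
theorem f465411 : Led Lsl_ct (LP (LK LD1_c7 LD2_c54 LD3_c56)) = (LP (LK LD1_c14 LD2_c55 LD3_c53)) :=
  Lre_c IH (LK LD1_c7 LD2_c54 LD3_c56) (LK LD1_c14 LD2_c55 LD3_c53) Lrfl Lrfl
theorem f142395 : Led Lsl_dt (LP (LK LD1_c7 LD2_c26 LD3_c0)) = (LP (LK LD1_c3 LD2_c42 LD3_c41)) :=
  Lre_d IH (LK LD1_c7 LD2_c26 LD3_c0) (LK LD1_c3 LD2_c42 LD3_c41) Lrfl Lrfl
theorem f470907 : Led Lsl_ct (LP (LK LD1_c14 LD2_c3 LD3_c8)) = (LP (LK LD1_c7 LD2_c26 LD3_c0)) :=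
  Lre_c IH (LK LD1_c14 LD2_c3 LD3_c8) (LK LD1_c7 LD2_c26 LD3_c0) Lrfl Lrfl
theorem f470908 : Led Lsl_gt (LP (LK LD1_c14 LD2_c55 LD3_c53)) = (LP (LK LD1_c14 LD2_c3 LD3_c8)) :=
  Lgr Lrot150 (Lpe (f465411 IH) (Lpe (f451646 IH) (Lpe (K28.f451626 IH) (Lpe (K28.f465130 IH) (Lpe (K5.f95857 IH) (Lpr_gt (K28.f95847 IH) (Lpr_ct (K29.f470898 IH) (Lpe (f142395 IH) (Lpe (f470907 IH) (Lpn (LP (LK LD1_c14 LD2_c3 LD3_c8))))))))))))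
theorem f531894 : Led Lsl_at (LP (LK LD1_c13 LD2_c53 LD3_c17)) = (LP (LK LD1_c14 LD2_c3 LD3_c8)) :=
  Lgr Lrot26 (Lpr_ff (f531883 IH) (Lpe (f531503 IH) (Lpr_gt (f470908 IH) (Lpn (LP (LK LD1_c14 LD2_c3 LD3_c8))))))
theorem f531896 : Led Lsl_af (LP (LK LD1_c13 LD2_c53 LD3_c17)) = (LP (LK LD1_c14 LD2_c3 LD3_c8)) :=
  Lgr Lrot0 (Lpr_at (f531894 IH) (Lpn (LP (LK LD1_c14 LD2_c3 LD3_c8))))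
theorem f147589 : Led Lsl_at (LP (LK LD1_c1 LD2_c53 LD3_c41)) = (LP (LK LD1_c1 LD2_c54 LD3_c8)) :=
  Lgr Lrot80 (Lpe (K5.f95856 IH) (Lpr_af (K7.f147584 IH) (Lpe (K28.f11814 IH) (Lpn (LP (LK LD1_c1 LD2_c54 LD3_c8))))))
theorem f470896 : Led Lsl_gf (LP (LK LD1_c1 LD2_c54 LD3_c8)) = (LP (LK LD1_c3 LD2_c42 LD3_c45)) :=
  Lgr Lrot76 (Lpe (f147589 IH) (Lpe (K8.f95865 IH) (Lpr_gt (K29.f470894 IH) (Lpn (LP (LK LD1_c3 LD2_c42 LD3_c45))))))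
theorem f122504 : Led Lsl_dt (LP (LK LD1_c7 LD2_c20 LD3_c36)) = (LP (LK LD1_c3 LD2_c40 LD3_c12)) :=
  Lre_d IH (LK LD1_c7 LD2_c20 LD3_c36) (LK LD1_c3 LD2_c40 LD3_c12) Lrfl Lrfl
theorem f471755 : Led Lsl_gt (LP (LK LD1_c14 LD2_c54 LD3_c28)) = (LP (LK LD1_c13 LD2_c53 LD3_c17)) :=
  Lgr Lrot150 (Lpe (f471585 IH) (Lpe (f471583 IH) (Lpe (K33.f203913 IH) (Lpe (f470896 IH) (Lpr_ct (K8.f11652 IH) (Lpr_gt (K29.f11672 IH) (Lpr_ct (K29.f471730 IH) (Lpe (f122504 IH) (Lpe (f471732 IH) (Lpn (LP (LK LD1_c13 LD2_c53 LD3_c17))))))))))))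
theorem f531480 : Led Lsl_ff (LP (LK LD1_c7 LD2_c54 LD3_c11)) = (LP (LK LD1_c7 LD2_c24 LD3_c1)) :=
  Lgr Lrot3 (Lpr_ft (f531473 IH) (Lpn (LP (LK LD1_c7 LD2_c24 LD3_c1))))
theorem f456527 : Led Lsl_ct (LP (LK LD1_c13 LD2_c59 LD3_c52)) = (LP (LK LD1_c7 LD2_c24 LD3_c1)) :=
  Lre_c IH (LK LD1_c13 LD2_c59 LD3_c52) (LK LD1_c7 LD2_c24 LD3_c1) Lrfl Lrfl
theorem f531484 : Led Lsl_ft (LP (LK LD1_c14 LD2_c54 LD3_c28)) = (LP (LK LD1_c13 LD2_c59 LD3_c52)) :=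
  Lgr Lrot4 (Lpe (f471585 IH) (Lpr_ff (f531480 IH) (Lpe (f456527 IH) (Lpn (LP (LK LD1_c13 LD2_c59 LD3_c52))))))
theorem f470864 : Led Lsl_ct (LP (LK LD1_c14 LD2_c54 LD3_c25)) = (LP (LK LD1_c7 LD2_c54 LD3_c10)) :=
  Lre_c IH (LK LD1_c14 LD2_c54 LD3_c25) (LK LD1_c7 LD2_c54 LD3_c10) Lrfl Lrfl
theorem f531451 : Led Lsl_af (LP (LK LD1_c14 LD2_c54 LD3_c25)) = (LP (LK LD1_c13 LD2_c59 LD3_c52)) :=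
  Lgr Lrot68 (Lpr_ct (f470864 IH) (Lpr_at (f531447 IH) (Lpr_ct (f456536 IH) (Lpn (LP (LK LD1_c13 LD2_c59 LD3_c52))))))
theorem f462771 : Led Lsl_ct (LP (LK LD1_c7 LD2_c54 LD3_c10)) = (LP (LK LD1_c14 LD2_c54 LD3_c25)) :=
  Lre_c IH (LK LD1_c7 LD2_c54 LD3_c10) (LK LD1_c14 LD2_c54 LD3_c25) Lrfl Lrfl
theorem f531457 : Led Lsl_ft (LP (LK LD1_c14 LD2_c54 LD3_c25)) = (LP (LK LD1_c14 LD2_c55 LD3_c53)) :=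
  Lgr Lrot4 (Lpe (f462771 IH) (Lpr_ff (f531453 IH) (Lpe (f471096 IH) (Lpn (LP (LK LD1_c14 LD2_c55 LD3_c53))))))
theorem f531487 : Led Lsl_af (LP (LK LD1_c14 LD2_c54 LD3_c28)) = (LP (LK LD1_c14 LD2_c55 LD3_c53)) :=
  Lgr Lrot45 (Lpr_ft (f531484 IH) (Lpe (f531451 IH) (Lpr_ft (f531457 IH) (Lpn (LP (LK LD1_c14 LD2_c55 LD3_c53))))))
theorem f160096 : Led Lsl_gt (LP (LK LD1_c6 LD2_c30 LD3_c44)) = (LP (LK LD1_c3 LD2_c33 LD3_c0)) :=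
  Lgr Lrot5 (Lpr_ft (K8.f95850 IH) (Lpr_at (K8.f160088 IH) (Lpe (f11680 IH) (Lpn (LP (LK LD1_c3 LD2_c33 LD3_c0))))))
theorem f203926 : Led Lsl_dt (LP (LK LD1_c7 LD2_c20 LD3_c39)) = (LP (LK LD1_c3 LD2_c40 LD3_c13)) :=
  Lre_d IH (LK LD1_c7 LD2_c20 LD3_c39) (LK LD1_c3 LD2_c40 LD3_c13) Lrfl Lrfl
theorem f203922 : Led Lsl_ct (LP (LK LD1_c13 LD2_c53 LD3_c20)) = (LP (LK LD1_c7 LD2_c20 LD3_c39)) :=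
  Lre_c IH (LK LD1_c13 LD2_c53 LD3_c20) (LK LD1_c7 LD2_c20 LD3_c39) Lrfl Lrfl
theorem f488749 : Led Lsl_gt (LP (LK LD1_c14 LD2_c54 LD3_c25)) = (LP (LK LD1_c13 LD2_c53 LD3_c20)) :=
  Lgr Lrot150 (Lpe (f462771 IH) (Lpe (f451661 IH) (Lpe (f451629 IH) (Lpr_gt (K29.f470371 IH) (Lpe (K8.f95875 IH) (Lpr_gt (f160096 IH) (Lpr_ct (f488731 IH) (Lpe (f203926 IH) (Lpe (f203922 IH) (Lpn (LP (LK LD1_c13 LD2_c53 LD3_c20))))))))))))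
theorem f531493 : Led Lsl_gf (LP (LK LD1_c14 LD2_c54 LD3_c28)) = (LP (LK LD1_c13 LD2_c53 LD3_c20)) :=
  Lgr Lrot76 (Lpr_af (f531487 IH) (Lpe (f531457 IH) (Lpr_gt (f488749 IH) (Lpn (LP (LK LD1_c13 LD2_c53 LD3_c20))))))
theorem f532062 : Led Lsl_ft (LP (LK LD1_c13 LD2_c53 LD3_c20)) = (LP (LK LD1_c14 LD2_c3 LD3_c8)) :=
  Lgr Lrot2 (Lpe (f531493 IH) (Lpr_gt (f471755 IH) (Lpr_af (f531896 IH) (Lpn (LP (LK LD1_c14 LD2_c3 LD3_c8))))))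
theorem f532068 : Led Lsl_ff (LP (LK LD1_c13 LD2_c53 LD3_c20)) = (LP (LK LD1_c14 LD2_c3 LD3_c8)) :=
  Lgr Lrot3 (Lpr_ft (f532062 IH) (Lpn (LP (LK LD1_c14 LD2_c3 LD3_c8))))
theorem f425202 : Led Lsl_ct (LP (LK LD1_c7 LD2_c26 LD3_c0)) = (LP (LK LD1_c14 LD2_c3 LD3_c8)) :=
  Lre_c IH (LK LD1_c7 LD2_c26 LD3_c0) (LK LD1_c14 LD2_c3 LD3_c8) Lrfl Lrfl
theorem f532074 : Led Lsl_ft (LP (LK LD1_c7 LD2_c20 LD3_c39)) = (LP (LK LD1_c7 LD2_c26 LD3_c0)) :=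
  Lgr Lrot4 (Lpe (f203922 IH) (Lpr_ff (f532068 IH) (Lpe (f425202 IH) (Lpn (LP (LK LD1_c7 LD2_c26 LD3_c0))))))
theorem f532078 : Led Lsl_bt (LP (LK LD1_c13 LD2_c53 LD3_c19)) = (LP (LK LD1_c7 LD2_c20 LD3_c39)) :=
  Lre_b IH (LK LD1_c13 LD2_c53 LD3_c19) (LK LD1_c7 LD2_c20 LD3_c39) Lrfl Lrfl
theorem f471097 : Led Lsl_bt (LP (LK LD1_c7 LD2_c26 LD3_c0)) = (LP (LK LD1_c14 LD2_c3 LD3_c6)) :=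
  Lre_b IH (LK LD1_c7 LD2_c26 LD3_c0) (LK LD1_c14 LD2_c3 LD3_c6) Lrfl Lrfl
theorem f532079 : Led Lsl_ff (LP (LK LD1_c13 LD2_c53 LD3_c19)) = (LP (LK LD1_c14 LD2_c3 LD3_c6)) :=
  Lgr Lrot25 (Lpr_bt (f532078 IH) (Lpr_ft (f532074 IH) (Lpr_bt (f471097 IH) (Lpn (LP (LK LD1_c14 LD2_c3 LD3_c6))))))
theorem f488740 : Led Lsl_dt (LP (LK LD1_c13 LD2_c53 LD3_c19)) = (LP (LK LD1_c7 LD2_c20 LD3_c38)) :=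
  Lre_d IH (LK LD1_c13 LD2_c53 LD3_c19) (LK LD1_c7 LD2_c20 LD3_c38) Lrfl Lrfl
theorem f437759 : Led Lsl_dt (LP (LK LD1_c7 LD2_c25 LD3_c61)) = (LP (LK LD1_c14 LD2_c3 LD3_c6)) :=
  Lre_d IH (LK LD1_c7 LD2_c25 LD3_c61) (LK LD1_c14 LD2_c3 LD3_c6) Lrfl Lrfl
theorem f532083 : Led Lsl_ft (LP (LK LD1_c7 LD2_c20 LD3_c38)) = (LP (LK LD1_c7 LD2_c25 LD3_c61)) :=
  Lgr Lrot54 (Lpe (f488740 IH) (Lpr_ff (f532079 IH) (Lpe (f437759 IH) (Lpn (LP (LK LD1_c7 LD2_c25 LD3_c61))))))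
theorem f159498 : Led Lsl_bt (LP (LK LD1_c1 LD2_c47 LD3_c14)) = (LP (LK LD1_c3 LD2_c40 LD3_c32)) :=
  Lre_b IH (LK LD1_c1 LD2_c47 LD3_c14) (LK LD1_c3 LD2_c40 LD3_c32) Lrfl Lrfl
theorem f488733 : Led Lsl_bt (LP (LK LD1_c3 LD2_c40 LD3_c13)) = (LP (LK LD1_c7 LD2_c20 LD3_c38)) :=
  Lre_b IH (LK LD1_c3 LD2_c40 LD3_c13) (LK LD1_c7 LD2_c20 LD3_c38) Lrfl Lrfl
theorem f488734 : Led Lsl_gf (LP (LK LD1_c3 LD2_c40 LD3_c32)) = (LP (LK LD1_c7 LD2_c20 LD3_c38)) :=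
  Lgr Lrot124 (Lpe (f159498 IH) (Lpr_ct (K28.f132101 IH) (Lpq (K28.f462396 IH) (Lpe (K24.f451252 IH) (Lpe (K28.f11203 IH) (Lpr_bt (K28.f451263 IH) (Lpr_gt (K29.f470371 IH) (Lpe (K8.f95875 IH) (Lpr_gt (f160096 IH) (Lpr_cf (f488729 IH) (Lpr_bt (f488733 IH) (Lpn (LP (LK LD1_c7 LD2_c20 LD3_c38))))))))))))))
theorem f148747 : Led Lsl_gt (LP (LK LD1_c3 LD2_c40 LD3_c32)) = (LP (LK LD1_c7 LD2_c21 LD3_c12)) :=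
  Lre_g IH (LK LD1_c3 LD2_c40 LD3_c32) (LK LD1_c7 LD2_c21 LD3_c12) Lrfl Lrfl
theorem f532089 : Led Lsl_af (LP (LK LD1_c7 LD2_c21 LD3_c12)) = (LP (LK LD1_c7 LD2_c25 LD3_c61)) :=
  Lgr Lrot31 (Lpe (f148747 IH) (Lpr_gf (f488734 IH) (Lpr_ft (f532083 IH) (Lpn (LP (LK LD1_c7 LD2_c25 LD3_c61))))))
theorem f468212 : Led Lsl_et (LP (LK LD1_c7 LD2_c21 LD3_c12)) = (LP (LK LD1_c13 LD2_c54 LD3_c8)) :=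
  Lre_e IH (LK LD1_c7 LD2_c21 LD3_c12) (LK LD1_c13 LD2_c54 LD3_c8) Lrfl Lrfl
theorem f437756 : Led Lsl_et (LP (LK LD1_c14 LD2_c3 LD3_c7)) = (LP (LK LD1_c7 LD2_c25 LD3_c61)) :=
  Lre_e IH (LK LD1_c14 LD2_c3 LD3_c7) (LK LD1_c7 LD2_c25 LD3_c61) Lrfl Lrfl
theorem f532097 : Led Lsl_at (LP (LK LD1_c13 LD2_c54 LD3_c8)) = (LP (LK LD1_c14 LD2_c3 LD3_c7)) :=
  Lgr Lrot80 (Lpe (f468212 IH) (Lpr_af (f532089 IH) (Lpe (f437756 IH) (Lpn (LP (LK LD1_c14 LD2_c3 LD3_c7))))))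
theorem f466131 : Led Lsl_gt (LP (LK LD1_c13 LD2_c25 LD3_c20)) = (LP (LK LD1_c22 LD2_c44 LD3_c5)) :=
  Lre_g IH (LK LD1_c13 LD2_c25 LD3_c20) (LK LD1_c22 LD2_c44 LD3_c5) Lrfl Lrfl
theorem f468201 : Led Lsl_gt (LP (LK LD1_c22 LD2_c44 LD3_c5)) = (LP (LK LD1_c14 LD2_c6 LD3_c4)) :=
  Lgr Lrot46 (Lpe (f466131 IH) (Lpr_ft (K28.f468185 IH) (Lpr_at (K28.f122367 IH) (Lpn (LP (LK LD1_c14 LD2_c6 LD3_c4))))))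
theorem f122161 : Led Lsl_et (LP (LK LD1_c7 LD2_c28 LD3_c11)) = (LP (LK LD1_c3 LD2_c43 LD3_c47)) :=
  Lre_e IH (LK LD1_c7 LD2_c28 LD3_c11) (LK LD1_c3 LD2_c43 LD3_c47) Lrfl Lrfl
theorem f122066 : Led Lsl_at (LP (LK LD1_c3 LD2_c41 LD3_c1)) = (LP (LK LD1_c1 LD2_c47 LD3_c27)) :=
  Lre_a IH (LK LD1_c3 LD2_c41 LD3_c1) (LK LD1_c1 LD2_c47 LD3_c27) Lrfl Lrfl
theorem f122139 : Led Lsl_ff (LP (LK LD1_c3 LD2_c41 LD3_c1)) = (LP (LK LD1_c3 LD2_c43 LD3_c47)) :=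
  Lgr Lrot30 (Lpr_at (f122066 IH) (Lpr_ft (K4.f122135 IH) (Lpr_at (K28.f122138 IH) (Lpn (LP (LK LD1_c3 LD2_c43 LD3_c47))))))
theorem f123566 : Led Lsl_gf (LP (LK LD1_c3 LD2_c40 LD3_c45)) = (LP (LK LD1_c3 LD2_c43 LD3_c47)) :=
  Lgr Lrot47 (Lpr_gt (K4.f123564 IH) (Lpe (f122066 IH) (Lpr_ff (f122139 IH) (Lpn (LP (LK LD1_c3 LD2_c43 LD3_c47))))))
theorem f12367 : Led Lsl_bt (LP (LK LD1_c7 LD2_c20 LD3_c29)) = (LP (LK LD1_c3 LD2_c40 LD3_c10)) :=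
  Lre_b IH (LK LD1_c7 LD2_c20 LD3_c29) (LK LD1_c3 LD2_c40 LD3_c10) Lrfl Lrfl
theorem f146801 : Led Lsl_df (LP (LK LD1_c7 LD2_c20 LD3_c29)) = (LP (LK LD1_c3 LD2_c40 LD3_c45)) :=
  Lgr Lrot12 (Lpr_bt (f12367 IH) (Lpr_dt (K6.f146797 IH) (Lpr_bt (K4.f122613 IH) (Lpn (LP (LK LD1_c3 LD2_c40 LD3_c45))))))
theorem f148711 : Led Lsl_at (LP (LK LD1_c7 LD2_c1 LD3_c20)) = (LP (LK LD1_c7 LD2_c21 LD3_c10)) :=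
  Lgr Lrot66 (Lpr_ff (K7.f147955 IH) (Lpe (K32.f147938 IH) (Lpr_ff (K7.f148709 IH) (Lpn (LP (LK LD1_c7 LD2_c21 LD3_c10))))))
theorem f148744 : Led Lsl_gt (LP (LK LD1_c7 LD2_c20 LD3_c29)) = (LP (LK LD1_c3 LD2_c40 LD3_c31)) :=
  Lgr Lrot5 (Lpe (K7.f147955 IH) (Lpr_at (f148711 IH) (Lpe (K7.f122729 IH) (Lpn (LP (LK LD1_c3 LD2_c40 LD3_c31))))))
theorem f148730 : Led Lsl_et (LP (LK LD1_c1 LD2_c47 LD3_c12)) = (LP (LK LD1_c3 LD2_c40 LD3_c32)) :=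
  Lre_e IH (LK LD1_c1 LD2_c47 LD3_c12) (LK LD1_c3 LD2_c40 LD3_c32) Lrfl Lrfl
theorem f148748 : Led Lsl_et (LP (LK LD1_c13 LD2_c54 LD3_c8)) = (LP (LK LD1_c7 LD2_c21 LD3_c12)) :=
  Lre_e IH (LK LD1_c13 LD2_c54 LD3_c8) (LK LD1_c7 LD2_c21 LD3_c12) Lrfl Lrfl
theorem f468207 : Led Lsl_df (LP (LK LD1_c22 LD2_c44 LD3_c5)) = (LP (LK LD1_c13 LD2_c54 LD3_c8)) :=
  Lgr Lrot170 (Lpr_gt (f468201 IH) (Lpe (K28.f122162 IH) (Lpr_et (f122161 IH) (Lpe (f123566 IH) (Lpe (f146801 IH) (Lpr_gt (f148744 IH) (Lpe (K7.f122728 IH) (Lpr_et (f148730 IH) (Lpr_gt (f148747 IH) (Lpe (f148748 IH) (Lpn (LP (LK LD1_c13 LD2_c54 LD3_c8)))))))))))))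
theorem f468209 : Led Lsl_dt (LP (LK LD1_c22 LD2_c44 LD3_c5)) = (LP (LK LD1_c13 LD2_c54 LD3_c8)) :=
  Lgr Lrot42 (Lpr_df (f468207 IH) (Lpn (LP (LK LD1_c13 LD2_c54 LD3_c8))))
theorem f437726 : Led Lsl_et (LP (LK LD1_c14 LD2_c3 LD3_c9)) = (LP (LK LD1_c7 LD2_c26 LD3_c0)) :=
  Lre_e IH (LK LD1_c14 LD2_c3 LD3_c9) (LK LD1_c7 LD2_c26 LD3_c0) Lrfl Lrfl
theorem f437727 : Led Lsl_et (LP (LK LD1_c7 LD2_c28 LD3_c0)) = (LP (LK LD1_c14 LD2_c5 LD3_c49)) :=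
  Lre_e IH (LK LD1_c7 LD2_c28 LD3_c0) (LK LD1_c14 LD2_c5 LD3_c49) Lrfl Lrfl
theorem f437728 : Led Lsl_df (LP (LK LD1_c14 LD2_c3 LD3_c9)) = (LP (LK LD1_c14 LD2_c5 LD3_c49)) :=
  Lgr Lrot70 (Lpr_et (f437726 IH) (Lpr_dt (f142395 IH) (Lpr_et (f437725 IH) (Lpr_dt (K28.f437717 IH) (Lpr_et (f437727 IH) (Lpn (LP (LK LD1_c14 LD2_c5 LD3_c49))))))))
theorem f437734 : Led Lsl_dt (LP (LK LD1_c14 LD2_c3 LD3_c9)) = (LP (LK LD1_c14 LD2_c5 LD3_c49)) :=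
  Lgr Lrot42 (Lpr_df (f437728 IH) (Lpn (LP (LK LD1_c14 LD2_c5 LD3_c49))))
theorem f437741 : Led Lsl_bt (LP (LK LD1_c23 LD2_c36 LD3_c9)) = (LP (LK LD1_c14 LD2_c3 LD3_c9)) :=
  Lre_b IH (LK LD1_c23 LD2_c36 LD3_c9) (LK LD1_c14 LD2_c3 LD3_c9) Lrfl Lrfl
theorem f437742 : Led Lsl_bt (LP (LK LD1_c14 LD2_c5 LD3_c49)) = (LP (LK LD1_c23 LD2_c39 LD3_c29)) :=
  Lre_b IH (LK LD1_c14 LD2_c5 LD3_c49) (LK LD1_c23 LD2_c39 LD3_c29) Lrfl Lrfl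
theorem f437743 : Led Lsl_df (LP (LK LD1_c23 LD2_c36 LD3_c9)) = (LP (LK LD1_c23 LD2_c39 LD3_c29)) :=
  Lgr Lrot12 (Lpr_bt (f437741 IH) (Lpr_dt (f437734 IH) (Lpr_bt (f437742 IH) (Lpn (LP (LK LD1_c23 LD2_c39 LD3_c29))))))
theorem f437746 : Led Lsl_et (LP (LK LD1_c23 LD2_c36 LD3_c9)) = (LP (LK LD1_c14 LD2_c3 LD3_c6)) :=
  Lre_e IH (LK LD1_c23 LD2_c36 LD3_c9) (LK LD1_c14 LD2_c3 LD3_c6) Lrfl Lrfl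
theorem f437747 : Led Lsl_dt (LP (LK LD1_c14 LD2_c3 LD3_c6)) = (LP (LK LD1_c7 LD2_c25 LD3_c61)) :=
  Lre_d IH (LK LD1_c14 LD2_c3 LD3_c6) (LK LD1_c7 LD2_c25 LD3_c61) Lrfl Lrfl
theorem f437749 : Led Lsl_et (LP (LK LD1_c14 LD2_c5 LD3_c48)) = (LP (LK LD1_c23 LD2_c39 LD3_c29)) :=
  Lre_e IH (LK LD1_c14 LD2_c5 LD3_c48) (LK LD1_c23 LD2_c39 LD3_c29) Lrfl Lrfl
theorem f437750 : Led Lsl_dt (LP (LK LD1_c14 LD2_c3 LD3_c7)) = (LP (LK LD1_c14 LD2_c5 LD3_c48)) :=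
  Lgr Lrot77 (Lpe (f437748 IH) (Lpe (f437747 IH) (Lpe (f437746 IH) (Lpr_df (f437743 IH) (Lpe (f437749 IH) (Lpn (LP (LK LD1_c14 LD2_c5 LD3_c48))))))))
theorem f532103 : Led Lsl_af (LP (LK LD1_c22 LD2_c44 LD3_c5)) = (LP (LK LD1_c14 LD2_c5 LD3_c48)) :=
  Lgr Lrot117 (Lpr_dt (f468209 IH) (Lpr_at (f532097 IH) (Lpr_dt (f437750 IH) (Lpn (LP (LK LD1_c14 LD2_c5 LD3_c48))))))
theorem f425460 : Led Lsl_ct (LP (LK LD1_c7 LD2_c20 LD3_c36)) = (LP (LK LD1_c13 LD2_c53 LD3_c17)) :=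
  Lre_c IH (LK LD1_c7 LD2_c20 LD3_c36) (LK LD1_c13 LD2_c53 LD3_c17) Lrfl Lrfl
theorem f531898 : Led Lsl_af (LP (LK LD1_c7 LD2_c20 LD3_c36)) = (LP (LK LD1_c7 LD2_c26 LD3_c0)) :=
  Lgr Lrot68 (Lpr_ct (f425460 IH) (Lpr_at (f531894 IH) (Lpr_ct (f470907 IH) (Lpn (LP (LK LD1_c7 LD2_c26 LD3_c0))))))
theorem f122604 : Led Lsl_et (LP (LK LD1_c7 LD2_c20 LD3_c36)) = (LP (LK LD1_c13 LD2_c53 LD3_c18)) :=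
  Lre_e IH (LK LD1_c7 LD2_c20 LD3_c36) (LK LD1_c13 LD2_c53 LD3_c18) Lrfl Lrfl
theorem f531901 : Led Lsl_at (LP (LK LD1_c13 LD2_c53 LD3_c18)) = (LP (LK LD1_c14 LD2_c3 LD3_c9)) :=
  Lgr Lrot80 (Lpe (f122604 IH) (Lpr_af (f531898 IH) (Lpe (f437726 IH) (Lpn (LP (LK LD1_c14 LD2_c3 LD3_c9))))))
theorem f122505 : Led Lsl_et (LP (LK LD1_c13 LD2_c53 LD3_c18)) = (LP (LK LD1_c7 LD2_c20 LD3_c36)) :=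
  Lre_e IH (LK LD1_c13 LD2_c53 LD3_c18) (LK LD1_c7 LD2_c20 LD3_c36) Lrfl Lrfl
theorem f122506 : Led Lsl_et (LP (LK LD1_c7 LD2_c22 LD3_c34)) = (LP (LK LD1_c13 LD2_c56 LD3_c56)) :=
  Lre_e IH (LK LD1_c7 LD2_c22 LD3_c34) (LK LD1_c13 LD2_c56 LD3_c56) Lrfl Lrfl
theorem f122507 : Led Lsl_df (LP (LK LD1_c13 LD2_c53 LD3_c18)) = (LP (LK LD1_c13 LD2_c56 LD3_c56)) :=
  Lgr Lrot70 (Lpr_et (f122505 IH) (Lpr_dt (f122504 IH) (Lpr_et (f122503 IH) (Lpr_dt (K28.f122489 IH) (Lpr_et (f122506 IH) (Lpn (LP (LK LD1_c13 LD2_c56 LD3_c56))))))))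
theorem f531905 : Led Lsl_af (LP (LK LD1_c13 LD2_c56 LD3_c56)) = (LP (LK LD1_c14 LD2_c5 LD3_c49)) :=
  Lgr Lrot117 (Lpe (f122507 IH) (Lpr_at (f531901 IH) (Lpr_dt (f437734 IH) (Lpn (LP (LK LD1_c14 LD2_c5 LD3_c49))))))
theorem f122528 : Led Lsl_et (LP (LK LD1_c13 LD2_c56 LD3_c56)) = (LP (LK LD1_c7 LD2_c22 LD3_c34)) :=
  Lre_e IH (LK LD1_c13 LD2_c56 LD3_c56) (LK LD1_c7 LD2_c22 LD3_c34) Lrfl Lrfl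
theorem f531909 : Led Lsl_at (LP (LK LD1_c7 LD2_c22 LD3_c34)) = (LP (LK LD1_c7 LD2_c28 LD3_c0)) :=
  Lgr Lrot80 (Lpe (f122528 IH) (Lpr_af (f531905 IH) (Lpe (f437727 IH) (Lpn (LP (LK LD1_c7 LD2_c28 LD3_c0))))))
theorem f131773 : Led Lsl_gt (LP (LK LD1_c3 LD2_c43 LD3_c41)) = (LP (LK LD1_c7 LD2_c27 LD3_c61)) :=
  Lre_g IH (LK LD1_c3 LD2_c43 LD3_c41) (LK LD1_c7 LD2_c27 LD3_c61) Lrfl Lrfl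
theorem f131774 : Led Lsl_gf (LP (LK LD1_c7 LD2_c22 LD3_c36)) = (LP (LK LD1_c7 LD2_c27 LD3_c61)) :=
  Lgr Lrot76 (Lpr_af (K5.f131753 IH) (Lpe (K5.f131752 IH) (Lpr_gt (f131773 IH) (Lpn (LP (LK LD1_c7 LD2_c27 LD3_c61))))))
theorem f531921 : Led Lsl_ff (LP (LK LD1_c7 LD2_c22 LD3_c34)) = (LP (LK LD1_c7 LD2_c27 LD3_c61)) :=
  Lgr Lrot52 (Lpr_at (f531909 IH) (Lpe (K28.f131800 IH) (Lpr_gf (f131774 IH) (Lpn (LP (LK LD1_c7 LD2_c27 LD3_c61))))))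
theorem f531929 : Led Lsl_ft (LP (LK LD1_c7 LD2_c22 LD3_c34)) = (LP (LK LD1_c7 LD2_c27 LD3_c61)) :=
  Lgr Lrot48 (Lpr_ff (f531921 IH) (Lpn (LP (LK LD1_c7 LD2_c27 LD3_c61))))
theorem f439172 : Led Lsl_gt (LP (LK LD1_c3 LD2_c41 LD3_c7)) = (LP (LK LD1_c7 LD2_c22 LD3_c33)) :=
  Lre_g IH (LK LD1_c3 LD2_c41 LD3_c7) (LK LD1_c7 LD2_c22 LD3_c33) Lrfl Lrfl
theorem f531937 : Led Lsl_af (LP (LK LD1_c7 LD2_c22 LD3_c33)) = (LP (LK LD1_c7 LD2_c27 LD3_c61)) :=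
  Lgr Lrot31 (Lpe (f439172 IH) (Lpe (K28.f122488 IH) (Lpr_ft (f531929 IH) (Lpn (LP (LK LD1_c7 LD2_c27 LD3_c61))))))
theorem f122501 : Led Lsl_df (LP (LK LD1_c7 LD2_c20 LD3_c37)) = (LP (LK LD1_c7 LD2_c22 LD3_c34)) :=
  Lgr Lrot38 (Lpr_dt (K28.f122489 IH) (Lpn (LP (LK LD1_c7 LD2_c22 LD3_c34))))
theorem f531842 : Led Lsl_af (LP (LK LD1_c7 LD2_c22 LD3_c34)) = (LP (LK LD1_c7 LD2_c28 LD3_c0)) :=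
  Lgr Lrot117 (Lpe (f122501 IH) (Lpr_at (f531838 IH) (Lpr_dt (K28.f437717 IH) (Lpn (LP (LK LD1_c7 LD2_c28 LD3_c0))))))
theorem f531945 : Led Lsl_ft (LP (LK LD1_c7 LD2_c22 LD3_c33)) = (LP (LK LD1_c7 LD2_c28 LD3_c0)) :=
  Lgr Lrot101 (Lpr_af (f531937 IH) (Lpe (f531929 IH) (Lpr_af (f531842 IH) (Lpn (LP (LK LD1_c7 LD2_c28 LD3_c0))))))
theorem f531956 : Led Lsl_ff (LP (LK LD1_c7 LD2_c22 LD3_c33)) = (LP (LK LD1_c7 LD2_c28 LD3_c0)) :=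
  Lgr Lrot3 (Lpr_ft (f531945 IH) (Lpn (LP (LK LD1_c7 LD2_c28 LD3_c0))))
theorem f489677 : Led Lsl_bt (LP (LK LD1_c7 LD2_c22 LD3_c33)) = (LP (LK LD1_c13 LD2_c56 LD3_c51)) :=
  Lre_b IH (LK LD1_c7 LD2_c22 LD3_c33) (LK LD1_c13 LD2_c56 LD3_c51) Lrfl Lrfl
theorem f131803 : Led Lsl_bt (LP (LK LD1_c14 LD2_c5 LD3_c48)) = (LP (LK LD1_c7 LD2_c28 LD3_c0)) :=
  Lre_b IH (LK LD1_c14 LD2_c5 LD3_c48) (LK LD1_c7 LD2_c28 LD3_c0) Lrfl Lrfl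
theorem f531958 : Led Lsl_ft (LP (LK LD1_c13 LD2_c56 LD3_c51)) = (LP (LK LD1_c14 LD2_c5 LD3_c48)) :=
  Lgr Lrot75 (Lpe (f489677 IH) (Lpr_ff (f531956 IH) (Lpe (f131803 IH) (Lpn (LP (LK LD1_c14 LD2_c5 LD3_c48))))))
theorem f439177 : Led Lsl_bt (LP (LK LD1_c13 LD2_c56 LD3_c51)) = (LP (LK LD1_c7 LD2_c22 LD3_c33)) :=
  Lre_b IH (LK LD1_c13 LD2_c56 LD3_c51) (LK LD1_c7 LD2_c22 LD3_c33) Lrfl Lrfl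
theorem f437720 : Led Lsl_bt (LP (LK LD1_c7 LD2_c28 LD3_c0)) = (LP (LK LD1_c14 LD2_c5 LD3_c48)) :=
  Lre_b IH (LK LD1_c7 LD2_c28 LD3_c0) (LK LD1_c14 LD2_c5 LD3_c48) Lrfl Lrfl
theorem f531947 : Led Lsl_ff (LP (LK LD1_c13 LD2_c56 LD3_c51)) = (LP (LK LD1_c14 LD2_c5 LD3_c48)) :=
  Lgr Lrot25 (Lpr_bt (f439177 IH) (Lpr_ft (f531945 IH) (Lpr_bt (f437720 IH) (Lpn (LP (LK LD1_c14 LD2_c5 LD3_c48))))))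
theorem f203197 : Led Lsl_at (LP (LK LD1_c3 LD2_c40 LD3_c31)) = (LP (LK LD1_c7 LD2_c21 LD3_c8)) :=
  Lre_a IH (LK LD1_c3 LD2_c40 LD3_c31) (LK LD1_c7 LD2_c21 LD3_c8) Lrfl Lrfl
theorem f203766 : Led Lsl_ff (LP (LK LD1_c3 LD2_c40 LD3_c31)) = (LP (LK LD1_c3 LD2_c42 LD3_c38)) :=
  Lgr Lrot30 (Lpr_at (f203197 IH) (Lpr_ft (K28.f203688 IH) (Lpr_at (K28.f146823 IH) (Lpn (LP (LK LD1_c3 LD2_c42 LD3_c38))))))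
theorem f203769 : Led Lsl_gf (LP (LK LD1_c7 LD2_c21 LD3_c8)) = (LP (LK LD1_c7 LD2_c25 LD3_c52)) :=
  Lgr Lrot76 (Lpe (f203197 IH) (Lpr_ff (f203766 IH) (Lpr_gt (K7.f125598 IH) (Lpn (LP (LK LD1_c7 LD2_c25 LD3_c52))))))
theorem f122132 : Led Lsl_et (LP (LK LD1_c3 LD2_c43 LD3_c49)) = (LP (LK LD1_c1 LD2_c48 LD3_c59)) :=
  Lre_e IH (LK LD1_c3 LD2_c43 LD3_c49) (LK LD1_c1 LD2_c48 LD3_c59) Lrfl Lrfl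
theorem f122255 : Led Lsl_dt (LP (LK LD1_c3 LD2_c43 LD3_c49)) = (LP (LK LD1_c7 LD2_c28 LD3_c14)) :=
  Lre_d IH (LK LD1_c3 LD2_c43 LD3_c49) (LK LD1_c7 LD2_c28 LD3_c14) Lrfl Lrfl
theorem f471126 : Led Lsl_gf (LP (LK LD1_c7 LD2_c28 LD3_c14)) = (LP (LK LD1_c14 LD2_c5 LD3_c48)) :=
  Lgr Lrot145 (Lpe (f122255 IH) (Lpr_et (f122132 IH) (Lpr_gt (K6.f122137 IH) (Lpe (K7.f147881 IH) (Lpe (f203769 IH) (Lpe (K28.f162776 IH) (Lpr_et (K28.f203690 IH) (Lpr_gt (f471120 IH) (Lpe (f437756 IH) (Lpr_dt (f437750 IH) (Lpn (LP (LK LD1_c14 LD2_c5 LD3_c48)))))))))))))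
theorem f122256 : Led Lsl_gt (LP (LK LD1_c7 LD2_c28 LD3_c14)) = (LP (LK LD1_c14 LD2_c6 LD3_c9)) :=
  Lre_g IH (LK LD1_c7 LD2_c28 LD3_c14) (LK LD1_c14 LD2_c6 LD3_c9) Lrfl Lrfl
theorem f532016 : Led Lsl_at (LP (LK LD1_c13 LD2_c56 LD3_c51)) = (LP (LK LD1_c14 LD2_c6 LD3_c9)) :=
  Lgr Lrot26 (Lpr_ff (f531947 IH) (Lpe (f471126 IH) (Lpr_gt (f122256 IH) (Lpn (LP (LK LD1_c14 LD2_c6 LD3_c9))))))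
theorem f532018 : Led Lsl_af (LP (LK LD1_c13 LD2_c56 LD3_c51)) = (LP (LK LD1_c14 LD2_c6 LD3_c9)) :=
  Lgr Lrot0 (Lpr_at (f532016 IH) (Lpn (LP (LK LD1_c14 LD2_c6 LD3_c9))))
theorem f532113 : Led Lsl_ft (LP (LK LD1_c22 LD2_c44 LD3_c5)) = (LP (LK LD1_c14 LD2_c6 LD3_c9)) :=
  Lgr Lrot101 (Lpr_af (f532103 IH) (Lpe (f531958 IH) (Lpr_af (f532018 IH) (Lpn (LP (LK LD1_c14 LD2_c6 LD3_c9))))))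
theorem f532195 : Led Lsl_ff (LP (LK LD1_c22 LD2_c44 LD3_c5)) = (LP (LK LD1_c14 LD2_c6 LD3_c9)) :=
  Lgr Lrot3 (Lpr_ft (f532113 IH) (Lpn (LP (LK LD1_c14 LD2_c6 LD3_c9))))
theorem f468203 : Led Lsl_ct (LP (LK LD1_c22 LD2_c44 LD3_c5)) = (LP (LK LD1_c30 LD2_c41 LD3_c10)) :=
  Lre_c IH (LK LD1_c22 LD2_c44 LD3_c5) (LK LD1_c30 LD2_c41 LD3_c10) Lrfl Lrfl
theorem f468234 : Led Lsl_ct (LP (LK LD1_c23 LD2_c40 LD3_c2)) = (LP (LK LD1_c14 LD2_c6 LD3_c9)) :=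
  Lre_c IH (LK LD1_c23 LD2_c40 LD3_c2) (LK LD1_c14 LD2_c6 LD3_c9) Lrfl Lrfl
theorem f532197 : Led Lsl_ft (LP (LK LD1_c30 LD2_c41 LD3_c10)) = (LP (LK LD1_c23 LD2_c40 LD3_c2)) :=
  Lgr Lrot4 (Lpe (f468203 IH) (Lpr_ff (f532195 IH) (Lpe (f468234 IH) (Lpn (LP (LK LD1_c23 LD2_c40 LD3_c2))))))
theorem f439178 : Led Lsl_ct (LP (LK LD1_c23 LD2_c28 LD3_c26)) = (LP (LK LD1_c13 LD2_c56 LD3_c51)) :=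
  Lre_c IH (LK LD1_c23 LD2_c28 LD3_c26) (LK LD1_c13 LD2_c56 LD3_c51) Lrfl Lrfl
theorem f468235 : Led Lsl_ct (LP (LK LD1_c14 LD2_c6 LD3_c9)) = (LP (LK LD1_c23 LD2_c40 LD3_c2)) :=
  Lre_c IH (LK LD1_c14 LD2_c6 LD3_c9) (LK LD1_c23 LD2_c40 LD3_c2) Lrfl Lrfl
theorem f532022 : Led Lsl_af (LP (LK LD1_c23 LD2_c28 LD3_c26)) = (LP (LK LD1_c23 LD2_c40 LD3_c2)) :=
  Lgr Lrot68 (Lpr_ct (f439178 IH) (Lpr_at (f532016 IH) (Lpr_ct (f468235 IH) (Lpn (LP (LK LD1_c23 LD2_c40 LD3_c2))))))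
theorem f131804 : Led Lsl_ct (LP (LK LD1_c14 LD2_c5 LD3_c48)) = (LP (LK LD1_c23 LD2_c39 LD3_c28)) :=
  Lre_c IH (LK LD1_c14 LD2_c5 LD3_c48) (LK LD1_c23 LD2_c39 LD3_c28) Lrfl Lrfl
theorem f532008 : Led Lsl_ff (LP (LK LD1_c23 LD2_c28 LD3_c26)) = (LP (LK LD1_c23 LD2_c39 LD3_c28)) :=
  Lgr Lrot23 (Lpr_ct (f439178 IH) (Lpr_ft (f531958 IH) (Lpr_ct (f131804 IH) (Lpn (LP (LK LD1_c23 LD2_c39 LD3_c28))))))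
theorem f532011 : Led Lsl_ft (LP (LK LD1_c23 LD2_c28 LD3_c26)) = (LP (LK LD1_c23 LD2_c39 LD3_c28)) :=
  Lgr Lrot48 (Lpr_ff (f532008 IH) (Lpn (LP (LK LD1_c23 LD2_c39 LD3_c28))))
theorem f532199 : Led Lsl_af (LP (LK LD1_c30 LD2_c41 LD3_c10)) = (LP (LK LD1_c23 LD2_c39 LD3_c28)) :=
  Lgr Lrot45 (Lpr_ft (f532197 IH) (Lpe (f532022 IH) (Lpr_ft (f532011 IH) (Lpn (LP (LK LD1_c23 LD2_c39 LD3_c28))))))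
theorem f532204 : Led Lsl_et (LP (LK LD1_c30 LD2_c41 LD3_c10)) = (LP (LK LD1_c32 LD2_c54 LD3_c13)) :=
  Lre_e IH (LK LD1_c30 LD2_c41 LD3_c10) (LK LD1_c32 LD2_c54 LD3_c13) Lrfl Lrfl
theorem f532010 : Led Lsl_et (LP (LK LD1_c31 LD2_c9 LD3_c34)) = (LP (LK LD1_c23 LD2_c39 LD3_c28)) :=
  Lre_e IH (LK LD1_c31 LD2_c9 LD3_c34) (LK LD1_c23 LD2_c39 LD3_c28) Lrfl Lrfl
theorem f532205 : Led Lsl_at (LP (LK LD1_c32 LD2_c54 LD3_c13)) = (LP (LK LD1_c31 LD2_c9 LD3_c34)) :=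
  Lgr Lrot80 (Lpe (f532204 IH) (Lpr_af (f532199 IH) (Lpe (f532010 IH) (Lpn (LP (LK LD1_c31 LD2_c9 LD3_c34))))))
theorem f468219 : Led Lsl_ct (LP (LK LD1_c30 LD2_c41 LD3_c11)) = (LP (LK LD1_c32 LD2_c54 LD3_c13)) :=
  Lre_c IH (LK LD1_c30 LD2_c41 LD3_c11) (LK LD1_c32 LD2_c54 LD3_c13) Lrfl Lrfl
theorem f437745 : Led Lsl_ct (LP (LK LD1_c31 LD2_c9 LD3_c34)) = (LP (LK LD1_c23 LD2_c39 LD3_c29)) :=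
  Lre_c IH (LK LD1_c31 LD2_c9 LD3_c34) (LK LD1_c23 LD2_c39 LD3_c29) Lrfl Lrfl
theorem f532209 : Led Lsl_af (LP (LK LD1_c30 LD2_c41 LD3_c11)) = (LP (LK LD1_c23 LD2_c39 LD3_c29)) :=
  Lgr Lrot68 (Lpr_ct (f468219 IH) (Lpr_at (f532205 IH) (Lpr_ct (f437745 IH) (Lpn (LP (LK LD1_c23 LD2_c39 LD3_c29))))))
theorem f468211 : Led Lsl_et (LP (LK LD1_c22 LD2_c44 LD3_c5)) = (LP (LK LD1_c30 LD2_c41 LD3_c11)) :=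
  Lre_e IH (LK LD1_c22 LD2_c44 LD3_c5) (LK LD1_c30 LD2_c41 LD3_c11) Lrfl Lrfl
theorem f462391 : Led Lsl_dt (LP (LK LD1_c13 LD2_c54 LD3_c7)) = (LP (LK LD1_c7 LD2_c21 LD3_c12)) :=
  Lre_d IH (LK LD1_c13 LD2_c54 LD3_c7) (LK LD1_c7 LD2_c21 LD3_c12) Lrfl Lrfl
theorem f468213 : Led Lsl_et (LP (LK LD1_c23 LD2_c24 LD3_c20)) = (LP (LK LD1_c13 LD2_c54 LD3_c7)) :=
  Lre_e IH (LK LD1_c23 LD2_c24 LD3_c20) (LK LD1_c13 LD2_c54 LD3_c7) Lrfl Lrfl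
theorem f468214 : Led Lsl_dt (LP (LK LD1_c30 LD2_c41 LD3_c11)) = (LP (LK LD1_c23 LD2_c24 LD3_c20)) :=
  Lgr Lrot77 (Lpe (f468211 IH) (Lpr_df (f468207 IH) (Lpe (f468212 IH) (Lpe (f462391 IH) (Lpe (f468213 IH) (Lpn (LP (LK LD1_c23 LD2_c24 LD3_c20))))))))
theorem f437730 : Led Lsl_bt (LP (LK LD1_c14 LD2_c3 LD3_c9)) = (LP (LK LD1_c23 LD2_c36 LD3_c9)) :=
  Lre_b IH (LK LD1_c14 LD2_c3 LD3_c9) (LK LD1_c23 LD2_c36 LD3_c9) Lrfl Lrfl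
theorem f437731 : Led Lsl_bt (LP (LK LD1_c23 LD2_c39 LD3_c29)) = (LP (LK LD1_c14 LD2_c5 LD3_c49)) :=
  Lre_b IH (LK LD1_c23 LD2_c39 LD3_c29) (LK LD1_c14 LD2_c5 LD3_c49) Lrfl Lrfl
theorem f437732 : Led Lsl_dt (LP (LK LD1_c23 LD2_c36 LD3_c9)) = (LP (LK LD1_c23 LD2_c39 LD3_c29)) :=
  Lgr Lrot79 (Lpe (f437730 IH) (Lpr_df (f437728 IH) (Lpe (f437731 IH) (Lpn (LP (LK LD1_c23 LD2_c39 LD3_c29))))))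
theorem f532213 : Led Lsl_at (LP (LK LD1_c23 LD2_c24 LD3_c20)) = (LP (LK LD1_c23 LD2_c36 LD3_c9)) :=
  Lgr Lrot51 (Lpe (f468214 IH) (Lpr_af (f532209 IH) (Lpe (f437732 IH) (Lpn (LP (LK LD1_c23 LD2_c36 LD3_c9))))))
theorem f462392 : Led Lsl_et (LP (LK LD1_c13 LD2_c54 LD3_c7)) = (LP (LK LD1_c23 LD2_c24 LD3_c20)) :=
  Lre_e IH (LK LD1_c13 LD2_c54 LD3_c7) (LK LD1_c23 LD2_c24 LD3_c20) Lrfl Lrfl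
theorem f532219 : Led Lsl_af (LP (LK LD1_c13 LD2_c54 LD3_c7)) = (LP (LK LD1_c14 LD2_c3 LD3_c6)) :=
  Lgr Lrot50 (Lpr_et (f462392 IH) (Lpr_at (f532213 IH) (Lpr_et (f437746 IH) (Lpn (LP (LK LD1_c14 LD2_c3 LD3_c6))))))
theorem f531848 : Led Lsl_at (LP (LK LD1_c7 LD2_c20 LD3_c36)) = (LP (LK LD1_c7 LD2_c26 LD3_c0)) :=
  Lgr Lrot51 (Lpe (f122605 IH) (Lpr_af (f531844 IH) (Lpe (f142395 IH) (Lpn (LP (LK LD1_c7 LD2_c26 LD3_c0))))))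
theorem f483657 : Led Lsl_bt (LP (LK LD1_c13 LD2_c53 LD3_c15)) = (LP (LK LD1_c7 LD2_c20 LD3_c36)) :=
  Lre_b IH (LK LD1_c13 LD2_c53 LD3_c15) (LK LD1_c7 LD2_c20 LD3_c36) Lrfl Lrfl
theorem f532221 : Led Lsl_at (LP (LK LD1_c23 LD2_c23 LD3_c20)) = (LP (LK LD1_c13 LD2_c53 LD3_c15)) :=
  Lre_a IH (LK LD1_c23 LD2_c23 LD3_c20) (LK LD1_c13 LD2_c53 LD3_c15) Lrfl Lrfl
theorem f532222 : Led Lsl_bt (LP (LK LD1_c13 LD2_c54 LD3_c7)) = (LP (LK LD1_c23 LD2_c23 LD3_c20)) :=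
  Lgr Lrot62 (Lpr_af (f532219 IH) (Lpe (f471097 IH) (Lpe (f531848 IH) (Lpe (f483657 IH) (Lpe (f532221 IH) (Lpn (LP (LK LD1_c23 LD2_c23 LD3_c20))))))))
theorem f148752 : Led Lsl_dt (LP (LK LD1_c7 LD2_c21 LD3_c12)) = (LP (LK LD1_c13 LD2_c54 LD3_c7)) :=
  Lre_d IH (LK LD1_c7 LD2_c21 LD3_c12) (LK LD1_c13 LD2_c54 LD3_c7) Lrfl Lrfl
theorem f122597 : Led Lsl_dt (LP (LK LD1_c23 LD2_c23 LD3_c20)) = (LP (LK LD1_c13 LD2_c53 LD3_c14)) :=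
  Lre_d IH (LK LD1_c23 LD2_c23 LD3_c20) (LK LD1_c13 LD2_c53 LD3_c14) Lrfl Lrfl
theorem f532228 : Led Lsl_bf (LP (LK LD1_c7 LD2_c21 LD3_c12)) = (LP (LK LD1_c13 LD2_c53 LD3_c14)) :=
  Lgr Lrot93 (Lpr_dt (f148752 IH) (Lpr_bt (f532222 IH) (Lpr_dt (f122597 IH) (Lpn (LP (LK LD1_c13 LD2_c53 LD3_c14))))))
theorem f462182 : Led Lsl_ft (LP (LK LD1_c3 LD2_c40 LD3_c32)) = (LP (LK LD1_c3 LD2_c56 LD3_c29)) :=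
  Lgr Lrot75 (Lpe (f159498 IH) (Lpr_ff (K28.f462179 IH) (Lpe (K28.f462181 IH) (Lpn (LP (LK LD1_c3 LD2_c56 LD3_c29))))))
theorem f462389 : Led Lsl_gt (LP (LK LD1_c7 LD2_c21 LD3_c12)) = (LP (LK LD1_c7 LD2_c54 LD3_c42)) :=
  Lgr Lrot46 (Lpe (f148747 IH) (Lpr_ft (f462182 IH) (Lpr_at (K28.f462259 IH) (Lpn (LP (LK LD1_c7 LD2_c54 LD3_c42))))))
theorem f471901 : Led Lsl_ct (LP (LK LD1_c3 LD2_c55 LD3_c55)) = (LP (LK LD1_c3 LD2_c42 LD3_c28)) :=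
  Lgr Lrot59 (Lpr_cf (f471896 IH) (Lpn (LP (LK LD1_c3 LD2_c42 LD3_c28))))
theorem f473428 : Led Lsl_et (LP (LK LD1_c3 LD2_c27 LD3_c35)) = (LP (LK LD1_c3 LD2_c55 LD3_c55)) :=
  Lgr Lrot158 (Lpe (K28.f473402 IH) (Lpr_ef (K28.f473426 IH) (Lpe (f471901 IH) (Lpn (LP (LK LD1_c3 LD2_c55 LD3_c55))))))
theorem f92024 : Led Lsl_et (LP (LK LD1_c13 LD2_c12 LD3_c31)) = (LP (LK LD1_c6 LD2_c57 LD3_c21)) :=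
  Lre_e IH (LK LD1_c13 LD2_c12 LD3_c31) (LK LD1_c6 LD2_c57 LD3_c21) Lrfl Lrfl
theorem f471921 : Led Lsl_et (LP (LK LD1_c7 LD2_c53 LD3_c30)) = (LP (LK LD1_c14 LD2_c53 LD3_c0)) :=
  Lre_e IH (LK LD1_c7 LD2_c53 LD3_c30) (LK LD1_c14 LD2_c53 LD3_c0) Lrfl Lrfl
theorem f476620 : Led Lsl_df (LP (LK LD1_c13 LD2_c12 LD3_c31)) = (LP (LK LD1_c14 LD2_c53 LD3_c0)) :=
  Lgr Lrot70 (Lpr_et (f92024 IH) (Lpr_dt (K28.f473283 IH) (Lpr_et (f473428 IH) (Lpr_dt (f457764 IH) (Lpr_et (f471921 IH) (Lpn (LP (LK LD1_c14 LD2_c53 LD3_c0))))))))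
theorem f476635 : Led Lsl_dt (LP (LK LD1_c13 LD2_c12 LD3_c31)) = (LP (LK LD1_c14 LD2_c53 LD3_c0)) :=
  Lgr Lrot42 (Lpr_df (f476620 IH) (Lpn (LP (LK LD1_c14 LD2_c53 LD3_c0))))
theorem f473395 : Led Lsl_bt (LP (LK LD1_c22 LD2_c26 LD3_c16)) = (LP (LK LD1_c13 LD2_c12 LD3_c31)) :=
  Lre_b IH (LK LD1_c22 LD2_c26 LD3_c16) (LK LD1_c13 LD2_c12 LD3_c31) Lrfl Lrfl
theorem f476639 : Led Lsl_bt (LP (LK LD1_c14 LD2_c53 LD3_c0)) = (LP (LK LD1_c24 LD2_c39 LD3_c38)) :=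
  Lre_b IH (LK LD1_c14 LD2_c53 LD3_c0) (LK LD1_c24 LD2_c39 LD3_c38) Lrfl Lrfl
theorem f476640 : Led Lsl_df (LP (LK LD1_c22 LD2_c26 LD3_c16)) = (LP (LK LD1_c24 LD2_c39 LD3_c38)) :=
  Lgr Lrot12 (Lpr_bt (f473395 IH) (Lpr_dt (f476635 IH) (Lpr_bt (f476639 IH) (Lpn (LP (LK LD1_c24 LD2_c39 LD3_c38))))))
theorem f476644 : Led Lsl_et (LP (LK LD1_c22 LD2_c26 LD3_c16)) = (LP (LK LD1_c13 LD2_c12 LD3_c29)) :=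
  Lre_e IH (LK LD1_c22 LD2_c26 LD3_c16) (LK LD1_c13 LD2_c12 LD3_c29) Lrfl Lrfl
theorem f476645 : Led Lsl_dt (LP (LK LD1_c13 LD2_c12 LD3_c29)) = (LP (LK LD1_c6 LD2_c57 LD3_c20)) :=
  Lre_d IH (LK LD1_c13 LD2_c12 LD3_c29) (LK LD1_c6 LD2_c57 LD3_c20) Lrfl Lrfl
theorem f472034 : Led Lsl_et (LP (LK LD1_c14 LD2_c52 LD3_c60)) = (LP (LK LD1_c24 LD2_c39 LD3_c38)) :=
  Lre_e IH (LK LD1_c14 LD2_c52 LD3_c60) (LK LD1_c24 LD2_c39 LD3_c38) Lrfl Lrfl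
theorem f472038 : Led Lsl_dt (LP (LK LD1_c7 LD2_c53 LD3_c29)) = (LP (LK LD1_c14 LD2_c52 LD3_c60)) :=
  Lre_d IH (LK LD1_c7 LD2_c53 LD3_c29) (LK LD1_c14 LD2_c52 LD3_c60) Lrfl Lrfl
theorem f476646 : Led Lsl_et (LP (LK LD1_c6 LD2_c57 LD3_c20)) = (LP (LK LD1_c7 LD2_c53 LD3_c29)) :=
  Lgr Lrot71 (Lpe (f476645 IH) (Lpe (f476644 IH) (Lpr_df (f476640 IH) (Lpe (f472034 IH) (Lpe (f472038 IH) (Lpn (LP (LK LD1_c7 LD2_c53 LD3_c29))))))))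
theorem f476650 : Led Lsl_at (LP (LK LD1_c13 LD2_c12 LD3_c28)) = (LP (LK LD1_c6 LD2_c57 LD3_c20)) :=
  Lre_a IH (LK LD1_c13 LD2_c12 LD3_c28) (LK LD1_c6 LD2_c57 LD3_c20) Lrfl Lrfl
theorem f476651 : Led Lsl_ef (LP (LK LD1_c13 LD2_c12 LD3_c28)) = (LP (LK LD1_c14 LD2_c21 LD3_c51)) :=
  Lgr Lrot20 (Lpr_at (f476650 IH) (Lpr_et (f476646 IH) (Lpr_at (f472046 IH) (Lpn (LP (LK LD1_c14 LD2_c21 LD3_c51))))))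
theorem f110286 : Led Lsl_et (LP (LK LD1_c3 LD2_c49 LD3_c17)) = (LP (LK LD1_c7 LD2_c39 LD3_c24)) :=
  Lre_e IH (LK LD1_c3 LD2_c49 LD3_c17) (LK LD1_c7 LD2_c39 LD3_c24) Lrfl Lrfl
theorem f476660 : Led Lsl_ft (LP (LK LD1_c13 LD2_c12 LD3_c28)) = (LP (LK LD1_c13 LD2_c53 LD3_c54)) :=
  Lgr Lrot86 (Lpr_ef (f476651 IH) (Lpr_ff (f470965 IH) (Lpe (f110286 IH) (Lpr_ff (K8.f162867 IH) (Lpe (K8.f162772 IH) (Lpn (LP (LK LD1_c13 LD2_c53 LD3_c54))))))))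
theorem f476665 : Led Lsl_cf (LP (LK LD1_c13 LD2_c12 LD3_c28)) = (LP (LK LD1_c7 LD2_c54 LD3_c42)) :=
  Lgr Lrot108 (Lpr_ft (f476660 IH) (Lpr_ct (f162800 IH) (Lpr_ft (K28.f462267 IH) (Lpn (LP (LK LD1_c7 LD2_c54 LD3_c42))))))
theorem f162796 : Led Lsl_at (LP (LK LD1_c13 LD2_c53 LD3_c54)) = (LP (LK LD1_c7 LD2_c21 LD3_c3)) :=
  Lre_a IH (LK LD1_c13 LD2_c53 LD3_c54) (LK LD1_c7 LD2_c21 LD3_c3) Lrfl Lrfl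
theorem f476672 : Led Lsl_gt (LP (LK LD1_c13 LD2_c12 LD3_c28)) = (LP (LK LD1_c13 LD2_c53 LD3_c56)) :=
  Lgr Lrot5 (Lpr_ft (f476660 IH) (Lpr_at (f162796 IH) (Lpe (f123479 IH) (Lpn (LP (LK LD1_c13 LD2_c53 LD3_c56))))))
theorem f465031 : Led Lsl_gf (LP (LK LD1_c7 LD2_c49 LD3_c54)) = (LP (LK LD1_c7 LD2_c54 LD3_c50)) :=
  Lgr Lrot76 (Lpe (K28.f159989 IH) (Lpr_ff (K28.f465016 IH) (Lpr_gt (f464704 IH) (Lpn (LP (LK LD1_c7 LD2_c54 LD3_c50))))))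
theorem f461104 : Led Lsl_at (LP (LK LD1_c14 LD2_c21 LD3_c48)) = (LP (LK LD1_c7 LD2_c37 LD3_c7)) :=
  Lre_a IH (LK LD1_c14 LD2_c21 LD3_c48) (LK LD1_c7 LD2_c37 LD3_c7) Lrfl Lrfl
theorem f461113 : Led Lsl_gt (LP (LK LD1_c7 LD2_c37 LD3_c56)) = (LP (LK LD1_c14 LD2_c21 LD3_c47)) :=
  Lgr Lrot5 (Lpr_ft (K28.f461107 IH) (Lpr_at (f461104 IH) (Lpe (f461112 IH) (Lpn (LP (LK LD1_c14 LD2_c21 LD3_c47))))))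
theorem f532232 : Led Lsl_cf (LP (LK LD1_c14 LD2_c21 LD3_c47)) = (LP (LK LD1_c13 LD2_c53 LD3_c14)) :=
  Lgr Lrot58 (Lpe (f461113 IH) (Lpe (K28.f129374 IH) (Lpr_bt (K8.f159983 IH) (Lpr_gf (f465031 IH) (Lpe (f464719 IH) (Lpr_ct (f464720 IH) (Lpe (f476672 IH) (Lpr_cf (f476665 IH) (Lpe (f462389 IH) (Lpr_bf (f532228 IH) (Lpn (LP (LK LD1_c13 LD2_c53 LD3_c14)))))))))))))
theorem f532923 : Led Lsl_gt (LP (LK LD1_c14 LD2_c1 LD3_c42)) = (LP (LK LD1_c13 LD2_c53 LD3_c14)) :=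
  Lgr Lrot82 (Lpe (f203996 IH) (Lpr_ct (f203986 IH) (Lpr_gf (f532919 IH) (Lpr_cf (K33.f452033 IH) (Lpr_bt (K33.f451838 IH) (Lpr_gf (K28.f451833 IH) (Lpe (K28.f451837 IH) (Lpr_ct (K29.f463169 IH) (Lpe (f461112 IH) (Lpr_cf (f532232 IH) (Lpn (LP (LK LD1_c13 LD2_c53 LD3_c14)))))))))))))
theorem f102896 : Led Lsl_et (LP (LK LD1_c14 LD2_c5 LD3_c2)) = (LP (LK LD1_c7 LD2_c27 LD3_c36)) :=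
  Lre_e IH (LK LD1_c14 LD2_c5 LD3_c2) (LK LD1_c7 LD2_c27 LD3_c36) Lrfl Lrfl
theorem f102897 : Led Lsl_dt (LP (LK LD1_c14 LD2_c5 LD3_c2)) = (LP (LK LD1_c23 LD2_c38 LD3_c12)) :=
  Lre_d IH (LK LD1_c14 LD2_c5 LD3_c2) (LK LD1_c23 LD2_c38 LD3_c12) Lrfl Lrfl
theorem f122589 : Led Lsl_et (LP (LK LD1_c23 LD2_c23 LD3_c21)) = (LP (LK LD1_c13 LD2_c53 LD3_c14)) :=
  Lre_e IH (LK LD1_c23 LD2_c23 LD3_c21) (LK LD1_c13 LD2_c53 LD3_c14) Lrfl Lrfl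
theorem f122522 : Led Lsl_ft (LP (LK LD1_c13 LD2_c53 LD3_c18)) = (LP (LK LD1_c23 LD2_c23 LD3_c29)) :=
  Lre_f IH (LK LD1_c13 LD2_c53 LD3_c18) (LK LD1_c23 LD2_c23 LD3_c29) Lrfl Lrfl
theorem f122523 : Led Lsl_ft (LP (LK LD1_c23 LD2_c28 LD3_c38)) = (LP (LK LD1_c13 LD2_c56 LD3_c56)) :=
  Lre_f IH (LK LD1_c23 LD2_c28 LD3_c38) (LK LD1_c13 LD2_c56 LD3_c56) Lrfl Lrfl
theorem f122524 : Led Lsl_dt (LP (LK LD1_c23 LD2_c23 LD3_c29)) = (LP (LK LD1_c23 LD2_c28 LD3_c38)) :=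
  Lgr Lrot60 (Lpe (f122522 IH) (Lpr_df (f122507 IH) (Lpe (f122523 IH) (Lpn (LP (LK LD1_c23 LD2_c28 LD3_c38))))))
theorem f122543 : Led Lsl_df (LP (LK LD1_c23 LD2_c23 LD3_c29)) = (LP (LK LD1_c23 LD2_c28 LD3_c38)) :=
  Lgr Lrot38 (Lpr_dt (f122524 IH) (Lpn (LP (LK LD1_c23 LD2_c28 LD3_c38))))
theorem f122546 : Led Lsl_bt (LP (LK LD1_c23 LD2_c23 LD3_c29)) = (LP (LK LD1_c31 LD2_c1 LD3_c44)) :=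
  Lre_b IH (LK LD1_c23 LD2_c23 LD3_c29) (LK LD1_c31 LD2_c1 LD3_c44) Lrfl Lrfl
theorem f122547 : Led Lsl_bt (LP (LK LD1_c31 LD2_c4 LD3_c36)) = (LP (LK LD1_c23 LD2_c28 LD3_c38)) :=
  Lre_b IH (LK LD1_c31 LD2_c4 LD3_c36) (LK LD1_c23 LD2_c28 LD3_c38) Lrfl Lrfl
theorem f122548 : Led Lsl_dt (LP (LK LD1_c31 LD2_c1 LD3_c44)) = (LP (LK LD1_c31 LD2_c4 LD3_c36)) :=
  Lgr Lrot79 (Lpe (f122546 IH) (Lpr_df (f122543 IH) (Lpe (f122547 IH) (Lpn (LP (LK LD1_c31 LD2_c4 LD3_c36))))))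
theorem f122550 : Led Lsl_ft (LP (LK LD1_c23 LD2_c23 LD3_c25)) = (LP (LK LD1_c31 LD2_c1 LD3_c44)) :=
  Lre_f IH (LK LD1_c23 LD2_c23 LD3_c25) (LK LD1_c31 LD2_c1 LD3_c44) Lrfl Lrfl
theorem f122551 : Led Lsl_ft (LP (LK LD1_c31 LD2_c4 LD3_c36)) = (LP (LK LD1_c23 LD2_c28 LD3_c34)) :=
  Lre_f IH (LK LD1_c31 LD2_c4 LD3_c36) (LK LD1_c23 LD2_c28 LD3_c34) Lrfl Lrfl
theorem f122552 : Led Lsl_df (LP (LK LD1_c23 LD2_c23 LD3_c25)) = (LP (LK LD1_c23 LD2_c28 LD3_c34)) :=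
  Lgr Lrot78 (Lpr_ft (f122550 IH) (Lpr_dt (f122548 IH) (Lpr_ft (f122551 IH) (Lpn (LP (LK LD1_c23 LD2_c28 LD3_c34))))))
theorem f122563 : Led Lsl_et (LP (LK LD1_c23 LD2_c23 LD3_c25)) = (LP (LK LD1_c13 LD2_c53 LD3_c15)) :=
  Lre_e IH (LK LD1_c23 LD2_c23 LD3_c25) (LK LD1_c13 LD2_c53 LD3_c15) Lrfl Lrfl
theorem f122564 : Led Lsl_dt (LP (LK LD1_c13 LD2_c53 LD3_c15)) = (LP (LK LD1_c7 LD2_c20 LD3_c35)) :=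
  Lre_d IH (LK LD1_c13 LD2_c53 LD3_c15) (LK LD1_c7 LD2_c20 LD3_c35) Lrfl Lrfl
theorem f122565 : Led Lsl_et (LP (LK LD1_c7 LD2_c20 LD3_c35)) = (LP (LK LD1_c13 LD2_c53 LD3_c16)) :=
  Lre_e IH (LK LD1_c7 LD2_c20 LD3_c35) (LK LD1_c13 LD2_c53 LD3_c16) Lrfl Lrfl
theorem f122566 : Led Lsl_et (LP (LK LD1_c13 LD2_c56 LD3_c54)) = (LP (LK LD1_c23 LD2_c28 LD3_c34)) :=
  Lre_e IH (LK LD1_c13 LD2_c56 LD3_c54) (LK LD1_c23 LD2_c28 LD3_c34) Lrfl Lrfl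
theorem f122567 : Led Lsl_dt (LP (LK LD1_c13 LD2_c53 LD3_c16)) = (LP (LK LD1_c13 LD2_c56 LD3_c54)) :=
  Lgr Lrot77 (Lpe (f122565 IH) (Lpe (f122564 IH) (Lpe (f122563 IH) (Lpr_df (f122552 IH) (Lpe (f122566 IH) (Lpn (LP (LK LD1_c13 LD2_c56 LD3_c54))))))))
theorem f122574 : Led Lsl_at (LP (LK LD1_c23 LD2_c23 LD3_c21)) = (LP (LK LD1_c13 LD2_c53 LD3_c16)) :=
  Lre_a IH (LK LD1_c23 LD2_c23 LD3_c21) (LK LD1_c13 LD2_c53 LD3_c16) Lrfl Lrfl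
theorem f122575 : Led Lsl_at (LP (LK LD1_c13 LD2_c56 LD3_c54)) = (LP (LK LD1_c23 LD2_c28 LD3_c32)) :=
  Lre_a IH (LK LD1_c13 LD2_c56 LD3_c54) (LK LD1_c23 LD2_c28 LD3_c32) Lrfl Lrfl
theorem f122576 : Led Lsl_df (LP (LK LD1_c23 LD2_c23 LD3_c21)) = (LP (LK LD1_c23 LD2_c28 LD3_c32)) :=
  Lgr Lrot18 (Lpr_at (f122574 IH) (Lpr_dt (f122567 IH) (Lpr_at (f122575 IH) (Lpn (LP (LK LD1_c23 LD2_c28 LD3_c32))))))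
theorem f122587 : Led Lsl_dt (LP (LK LD1_c23 LD2_c23 LD3_c21)) = (LP (LK LD1_c23 LD2_c28 LD3_c32)) :=
  Lgr Lrot42 (Lpr_df (f122576 IH) (Lpn (LP (LK LD1_c23 LD2_c28 LD3_c32))))
theorem f532935 : Led Lsl_gf (LP (LK LD1_c23 LD2_c38 LD3_c12)) = (LP (LK LD1_c23 LD2_c28 LD3_c32)) :=
  Lgr Lrot145 (Lpe (f102897 IH) (Lpr_et (f102896 IH) (Lpr_gt (K4.f12829 IH) (Lpe (K6.f144686 IH) (Lpr_gt (K6.f144760 IH) (Lpe (K6.f120976 IH) (Lpr_et (f123484 IH) (Lpr_gt (f532923 IH) (Lpe (f122589 IH) (Lpr_dt (f122587 IH) (Lpn (LP (LK LD1_c23 LD2_c28 LD3_c32)))))))))))))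
theorem f122579 : Led Lsl_bt (LP (LK LD1_c13 LD2_c56 LD3_c54)) = (LP (LK LD1_c7 LD2_c22 LD3_c34)) :=
  Lre_b IH (LK LD1_c13 LD2_c56 LD3_c54) (LK LD1_c7 LD2_c22 LD3_c34) Lrfl Lrfl
theorem f469331 : Led Lsl_bt (LP (LK LD1_c7 LD2_c27 LD3_c61)) = (LP (LK LD1_c14 LD2_c5 LD3_c46)) :=
  Lre_b IH (LK LD1_c7 LD2_c27 LD3_c61) (LK LD1_c14 LD2_c5 LD3_c46) Lrfl Lrfl
theorem f531931 : Led Lsl_ff (LP (LK LD1_c13 LD2_c56 LD3_c54)) = (LP (LK LD1_c14 LD2_c5 LD3_c46)) :=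
  Lgr Lrot25 (Lpr_bt (f122579 IH) (Lpr_ft (f531929 IH) (Lpr_bt (f469331 IH) (Lpn (LP (LK LD1_c14 LD2_c5 LD3_c46))))))
theorem f469330 : Led Lsl_at (LP (LK LD1_c23 LD2_c39 LD3_c23)) = (LP (LK LD1_c14 LD2_c5 LD3_c46)) :=
  Lre_a IH (LK LD1_c23 LD2_c39 LD3_c23) (LK LD1_c14 LD2_c5 LD3_c46) Lrfl Lrfl
theorem f532050 : Led Lsl_ft (LP (LK LD1_c23 LD2_c28 LD3_c32)) = (LP (LK LD1_c23 LD2_c39 LD3_c23)) :=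
  Lgr Lrot101 (Lpe (f122575 IH) (Lpr_ff (f531931 IH) (Lpe (f469330 IH) (Lpn (LP (LK LD1_c23 LD2_c39 LD3_c23))))))
theorem f532937 : Led Lsl_gt (LP (LK LD1_c23 LD2_c38 LD3_c12)) = (LP (LK LD1_c14 LD2_c5 LD3_c46)) :=
  Lgr Lrot46 (Lpr_gf (f532935 IH) (Lpr_ft (f532050 IH) (Lpr_at (f469330 IH) (Lpn (LP (LK LD1_c14 LD2_c5 LD3_c46))))))
theorem f108948 : Led Lsl_dt (LP (LK LD1_c23 LD2_c38 LD3_c12)) = (LP (LK LD1_c14 LD2_c5 LD3_c2)) :=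
  Lre_d IH (LK LD1_c23 LD2_c38 LD3_c12) (LK LD1_c14 LD2_c5 LD3_c2) Lrfl Lrfl
theorem f97696 : Led Lsl_dt (LP (LK LD1_c13 LD2_c6 LD3_c20)) = (LP (LK LD1_c22 LD2_c17 LD3_c45)) :=
  Lre_d IH (LK LD1_c13 LD2_c6 LD3_c20) (LK LD1_c22 LD2_c17 LD3_c45) Lrfl Lrfl
theorem f108970 : Led Lsl_bf (LP (LK LD1_c23 LD2_c38 LD3_c12)) = (LP (LK LD1_c22 LD2_c17 LD3_c45)) :=
  Lgr Lrot93 (Lpr_dt (f108948 IH) (Lpr_bt (K24.f108966 IH) (Lpr_dt (f97696 IH) (Lpn (LP (LK LD1_c22 LD2_c17 LD3_c45))))))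
theorem f97697 : Led Lsl_ct (LP (LK LD1_c22 LD2_c17 LD3_c45)) = (LP (LK LD1_c30 LD2_c24 LD3_c41)) :=
  Lre_c IH (LK LD1_c22 LD2_c17 LD3_c45) (LK LD1_c30 LD2_c24 LD3_c41) Lrfl Lrfl
theorem f464574 : Led Lsl_ct (LP (LK LD1_c3 LD2_c43 LD3_c39)) = (LP (LK LD1_c3 LD2_c32 LD3_c3)) :=
  Lgr Lrot59 (Lpr_cf (K28.f464572 IH) (Lpn (LP (LK LD1_c3 LD2_c32 LD3_c3))))
theorem f130747 : Led Lsl_ct (LP (LK LD1_c14 LD2_c7 LD3_c17)) = (LP (LK LD1_c7 LD2_c28 LD3_c50)) :=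
  Lre_c IH (LK LD1_c14 LD2_c7 LD3_c17) (LK LD1_c7 LD2_c28 LD3_c50) Lrfl Lrfl
theorem f147100 : Led Lsl_ft (LP (LK LD1_c7 LD2_c23 LD3_c17)) = (LP (LK LD1_c13 LD2_c58 LD3_c13)) :=
  Lre_f IH (LK LD1_c7 LD2_c23 LD3_c17) (LK LD1_c13 LD2_c58 LD3_c13) Lrfl Lrfl
theorem f147101 : Led Lsl_ft (LP (LK LD1_c14 LD2_c7 LD3_c17)) = (LP (LK LD1_c7 LD2_c28 LD3_c49)) :=
  Lre_f IH (LK LD1_c14 LD2_c7 LD3_c17) (LK LD1_c7 LD2_c28 LD3_c49) Lrfl Lrfl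
theorem f147102 : Led Lsl_at (LP (LK LD1_c13 LD2_c58 LD3_c13)) = (LP (LK LD1_c14 LD2_c7 LD3_c17)) :=
  Lgr Lrot66 (Lpe (f147100 IH) (Lpr_af (K8.f147076 IH) (Lpe (f147101 IH) (Lpn (LP (LK LD1_c14 LD2_c7 LD3_c17))))))
theorem f147118 : Led Lsl_gt (LP (LK LD1_c7 LD2_c23 LD3_c17)) = (LP (LK LD1_c13 LD2_c58 LD3_c10)) :=
  Lre_g IH (LK LD1_c7 LD2_c23 LD3_c17) (LK LD1_c13 LD2_c58 LD3_c10) Lrfl Lrfl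
theorem f147119 : Led Lsl_gt (LP (LK LD1_c13 LD2_c58 LD3_c10)) = (LP (LK LD1_c14 LD2_c7 LD3_c17)) :=
  Lgr Lrot46 (Lpe (f147118 IH) (Lpr_ft (f147100 IH) (Lpr_at (f147102 IH) (Lpn (LP (LK LD1_c14 LD2_c7 LD3_c17))))))
theorem f489623 : Led Lsl_ct (LP (LK LD1_c7 LD2_c27 LD3_c61)) = (LP (LK LD1_c13 LD2_c58 LD3_c10)) :=
  Lgr Lrot152 (Lpe (f131773 IH) (Lpe (K28.f131936 IH) (Lpr_gt (K28.f132079 IH) (Lpr_ct (f464574 IH) (Lpe (K32.f116049 IH) (Lpe (K24.f130726 IH) (Lpe (K8.f130746 IH) (Lpe (f130747 IH) (Lpe (f147119 IH) (Lpn (LP (LK LD1_c13 LD2_c58 LD3_c10))))))))))))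
theorem f130745 : Led Lsl_ct (LP (LK LD1_c7 LD2_c28 LD3_c50)) = (LP (LK LD1_c14 LD2_c7 LD3_c17)) :=
  Lre_c IH (LK LD1_c7 LD2_c28 LD3_c50) (LK LD1_c14 LD2_c7 LD3_c17) Lrfl Lrfl
theorem f144717 : Led Lsl_bt (LP (LK LD1_c7 LD2_c28 LD3_c50)) = (LP (LK LD1_c14 LD2_c7 LD3_c3)) :=
  Lre_b IH (LK LD1_c7 LD2_c28 LD3_c50) (LK LD1_c14 LD2_c7 LD3_c3) Lrfl Lrfl
theorem f144714 : Led Lsl_gt (LP (LK LD1_c14 LD2_c7 LD3_c3)) = (LP (LK LD1_c23 LD2_c40 LD3_c49)) :=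
  Lre_g IH (LK LD1_c14 LD2_c7 LD3_c3) (LK LD1_c23 LD2_c40 LD3_c49) Lrfl Lrfl
theorem f144706 : Led Lsl_ct (LP (LK LD1_c23 LD2_c40 LD3_c49)) = (LP (LK LD1_c31 LD2_c10 LD3_c37)) :=
  Lre_c IH (LK LD1_c23 LD2_c40 LD3_c49) (LK LD1_c31 LD2_c10 LD3_c37) Lrfl Lrfl
theorem f532939 : Led Lsl_gf (LP (LK LD1_c30 LD2_c24 LD3_c41)) = (LP (LK LD1_c31 LD2_c10 LD3_c37)) :=
  Lgr Lrot129 (Lpe (f97697 IH) (Lpe (f108970 IH) (Lpr_gt (f532937 IH) (Lpe (f469331 IH) (Lpr_ct (f489623 IH) (Lpr_gt (f147119 IH) (Lpe (f130745 IH) (Lpr_bt (f144717 IH) (Lpr_gt (f144714 IH) (Lpr_ct (f144706 IH) (Lpn (LP (LK LD1_c31 LD2_c10 LD3_c37)))))))))))))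
theorem f97693 : Led Lsl_ct (LP (LK LD1_c30 LD2_c24 LD3_c41)) = (LP (LK LD1_c22 LD2_c17 LD3_c45)) :=
  Lre_c IH (LK LD1_c30 LD2_c24 LD3_c41) (LK LD1_c22 LD2_c17 LD3_c45) Lrfl Lrfl
theorem f97692 : Led Lsl_dt (LP (LK LD1_c22 LD2_c17 LD3_c45)) = (LP (LK LD1_c13 LD2_c6 LD3_c20)) :=
  Lre_d IH (LK LD1_c22 LD2_c17 LD3_c45) (LK LD1_c13 LD2_c6 LD3_c20) Lrfl Lrfl
theorem f97690 : Led Lsl_ct (LP (LK LD1_c14 LD2_c10 LD3_c57)) = (LP (LK LD1_c13 LD2_c6 LD3_c20)) :=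
  Lgr Lrot59 (Lpr_cf (K4.f97684 IH) (Lpn (LP (LK LD1_c13 LD2_c6 LD3_c20))))
theorem f123740 : Led Lsl_dt (LP (LK LD1_c7 LD2_c28 LD3_c42)) = (LP (LK LD1_c14 LD2_c7 LD3_c3)) :=
  Lre_d IH (LK LD1_c7 LD2_c28 LD3_c42) (LK LD1_c14 LD2_c7 LD3_c3) Lrfl Lrfl
theorem f123797 : Led Lsl_gt (LP (LK LD1_c7 LD2_c28 LD3_c42)) = (LP (LK LD1_c14 LD2_c6 LD3_c44)) :=
  Lre_g IH (LK LD1_c7 LD2_c28 LD3_c42) (LK LD1_c14 LD2_c6 LD3_c44) Lrfl Lrfl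
theorem f123807 : Led Lsl_ct (LP (LK LD1_c14 LD2_c6 LD3_c44)) = (LP (LK LD1_c23 LD2_c40 LD3_c46)) :=
  Lre_c IH (LK LD1_c14 LD2_c6 LD3_c44) (LK LD1_c23 LD2_c40 LD3_c46) Lrfl Lrfl
theorem f532943 : Led Lsl_gf (LP (LK LD1_c14 LD2_c10 LD3_c57)) = (LP (LK LD1_c23 LD2_c40 LD3_c46)) :=
  Lgr Lrot104 (Lpr_ct (f97690 IH) (Lpe (f97692 IH) (Lpe (f97693 IH) (Lpr_gf (f532939 IH) (Lpe (f144706 IH) (Lpe (f144714 IH) (Lpe (f123740 IH) (Lpr_gt (f123797 IH) (Lpr_ct (f123807 IH) (Lpn (LP (LK LD1_c23 LD2_c40 LD3_c46))))))))))))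
theorem f111292 : Led Lsl_af (LP (LK LD1_c14 LD2_c10 LD3_c57)) = (LP (LK LD1_c21 LD2_c41 LD3_c13)) :=
  Lgr Lrot0 (Lpr_at (K4.f111290 IH) (Lpn (LP (LK LD1_c21 LD2_c41 LD3_c13))))
theorem f473460 : Led Lsl_bt (LP (LK LD1_c3 LD2_c40 LD3_c54)) = (LP (LK LD1_c7 LD2_c22 LD3_c1)) :=
  Lre_b IH (LK LD1_c3 LD2_c40 LD3_c54) (LK LD1_c7 LD2_c22 LD3_c1) Lrfl Lrfl
theorem f142428 : Led Lsl_gt (LP (LK LD1_c7 LD2_c22 LD3_c1)) = (LP (LK LD1_c13 LD2_c55 LD3_c55)) :=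
  Lre_g IH (LK LD1_c7 LD2_c22 LD3_c1) (LK LD1_c13 LD2_c55 LD3_c55) Lrfl Lrfl
theorem f473472 : Led Lsl_ct (LP (LK LD1_c13 LD2_c55 LD3_c55)) = (LP (LK LD1_c23 LD2_c26 LD3_c50)) :=
  Lre_c IH (LK LD1_c13 LD2_c55 LD3_c55) (LK LD1_c23 LD2_c26 LD3_c50) Lrfl Lrfl
theorem f116135 : Led Lsl_bt (LP (LK LD1_c1 LD2_c49 LD3_c5)) = (LP (LK LD1_c3 LD2_c44 LD3_c3)) :=
  Lre_b IH (LK LD1_c1 LD2_c49 LD3_c5) (LK LD1_c3 LD2_c44 LD3_c3) Lrfl Lrfl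
theorem f116155 : Led Lsl_gt (LP (LK LD1_c7 LD2_c28 LD3_c56)) = (LP (LK LD1_c3 LD2_c44 LD3_c3)) :=
  Lre_g IH (LK LD1_c7 LD2_c28 LD3_c56) (LK LD1_c3 LD2_c44 LD3_c3) Lrfl Lrfl
theorem f147192 : Led Lsl_et (LP (LK LD1_c7 LD2_c23 LD3_c4)) = (LP (LK LD1_c3 LD2_c41 LD3_c19)) :=
  Lre_e IH (LK LD1_c7 LD2_c23 LD3_c4) (LK LD1_c3 LD2_c41 LD3_c19) Lrfl Lrfl
theorem f147175 : Led Lsl_ft (LP (LK LD1_c13 LD2_c57 LD3_c46)) = (LP (LK LD1_c7 LD2_c23 LD3_c4)) :=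
  Lre_f IH (LK LD1_c13 LD2_c57 LD3_c46) (LK LD1_c7 LD2_c23 LD3_c4) Lrfl Lrfl
theorem f469382 : Led Lsl_et (LP (LK LD1_c13 LD2_c25 LD3_c31)) = (LP (LK LD1_c13 LD2_c57 LD3_c46)) :=
  Lgr Lrot69 (Lpr_ff (K28.f469369 IH) (Lpe (K4.f116238 IH) (Lpe (K8.f147187 IH) (Lpe (f147192 IH) (Lpe (f147175 IH) (Lpn (LP (LK LD1_c13 LD2_c57 LD3_c46))))))))
theorem f469365 : Led Lsl_bf (LP (LK LD1_c13 LD2_c25 LD3_c31)) = (LP (LK LD1_c13 LD2_c24 LD3_c48)) :=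
  Lgr Lrot61 (Lpr_ft (K28.f469361 IH) (Lpe (K4.f116440 IH) (Lpr_ft (K33.f466348 IH) (Lpn (LP (LK LD1_c13 LD2_c24 LD3_c48))))))
theorem f146939 : Led Lsl_at (LP (LK LD1_c7 LD2_c23 LD3_c11)) = (LP (LK LD1_c13 LD2_c57 LD3_c46)) :=
  Lre_a IH (LK LD1_c7 LD2_c23 LD3_c11) (LK LD1_c13 LD2_c57 LD3_c46) Lrfl Lrfl
theorem f146940 : Led Lsl_bt (LP (LK LD1_c13 LD2_c57 LD3_c46)) = (LP (LK LD1_c14 LD2_c6 LD3_c46)) :=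
  Lgr Lrot62 (Lpe (f146939 IH) (Lpe (K28.f146938 IH) (Lpr_af (K8.f146932 IH) (Lpe (K24.f123804 IH) (Lpe (K24.f123771 IH) (Lpn (LP (LK LD1_c14 LD2_c6 LD3_c46))))))))
theorem f469388 : Led Lsl_ef (LP (LK LD1_c13 LD2_c24 LD3_c48)) = (LP (LK LD1_c14 LD2_c6 LD3_c46)) :=
  Lgr Lrot29 (Lpe (f469365 IH) (Lpr_et (f469382 IH) (Lpr_bt (f146940 IH) (Lpn (LP (LK LD1_c14 LD2_c6 LD3_c46))))))
theorem f103790 : Led Lsl_ff (LP (LK LD1_c3 LD2_c26 LD3_c2)) = (LP (LK LD1_c3 LD2_c45 LD3_c46)) :=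
  Lgr Lrot3 (Lpr_ft (K4.f103781 IH) (Lpn (LP (LK LD1_c3 LD2_c45 LD3_c46))))
theorem f103797 : Led Lsl_et (LP (LK LD1_c13 LD2_c6 LD3_c39)) = (LP (LK LD1_c14 LD2_c12 LD3_c49)) :=
  Lgr Lrot69 (Lpe (K28.f103794 IH) (Lpe (K4.f103793 IH) (Lpr_ff (f103790 IH) (Lpe (K4.f103795 IH) (Lpe (K24.f103796 IH) (Lpn (LP (LK LD1_c14 LD2_c12 LD3_c49))))))))
theorem f469391 : Led Lsl_ct (LP (LK LD1_c13 LD2_c24 LD3_c48)) = (LP (LK LD1_c13 LD2_c6 LD3_c39)) :=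
  Lgr Lrot15 (Lpr_ef (f469388 IH) (Lpe (K24.f123753 IH) (Lpe (f103797 IH) (Lpn (LP (LK LD1_c13 LD2_c6 LD3_c39))))))
theorem f469371 : Led Lsl_gt (LP (LK LD1_c13 LD2_c25 LD3_c31)) = (LP (LK LD1_c7 LD2_c28 LD3_c56)) :=
  Lgr Lrot5 (Lpr_ft (K28.f469361 IH) (Lpr_at (K28.f116170 IH) (Lpe (f116155 IH) (Lpn (LP (LK LD1_c7 LD2_c28 LD3_c56))))))
theorem f209119 : Led Lsl_bt (LP (LK LD1_c3 LD2_c43 LD3_c37)) = (LP (LK LD1_c1 LD2_c48 LD3_c54)) :=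
  Lre_b IH (LK LD1_c3 LD2_c43 LD3_c37) (LK LD1_c1 LD2_c48 LD3_c54) Lrfl Lrfl
theorem f208939 : Led Lsl_et (LP (LK LD1_c1 LD2_c48 LD3_c52)) = (LP (LK LD1_c3 LD2_c43 LD3_c37)) :=
  Lre_e IH (LK LD1_c1 LD2_c48 LD3_c52) (LK LD1_c3 LD2_c43 LD3_c37) Lrfl Lrfl
theorem f439220 : Led Lsl_cf (LP (LK LD1_c3 LD2_c38 LD3_c29)) = (LP (LK LD1_c3 LD2_c43 LD3_c37)) :=
  Lgr Lrot39 (Lpr_et (K28.f208965 IH) (Lpr_ct (K24.f131701 IH) (Lpr_et (f208939 IH) (Lpn (LP (LK LD1_c3 LD2_c43 LD3_c37))))))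
theorem f439556 : Led Lsl_gt (LP (LK LD1_c7 LD2_c17 LD3_c18)) = (LP (LK LD1_c3 LD2_c38 LD3_c29)) :=
  Lre_g IH (LK LD1_c7 LD2_c17 LD3_c18) (LK LD1_c3 LD2_c38 LD3_c29) Lrfl Lrfl
theorem f469397 : Led Lsl_ct (LP (LK LD1_c7 LD2_c28 LD3_c56)) = (LP (LK LD1_c7 LD2_c17 LD3_c18)) :=
  Lgr Lrot91 (Lpe (f469371 IH) (Lpr_bf (f469365 IH) (Lpr_ct (f469391 IH) (Lpr_gf (f461001 IH) (Lpr_cf (K28.f464338 IH) (Lpr_bt (K28.f209167 IH) (Lpe (K28.f132079 IH) (Lpe (f209119 IH) (Lpe (f439220 IH) (Lpe (f439556 IH) (Lpn (LP (LK LD1_c7 LD2_c17 LD3_c18)))))))))))))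
theorem f469407 : Led Lsl_bt (LP (LK LD1_c7 LD2_c28 LD3_c56)) = (LP (LK LD1_c14 LD2_c6 LD3_c44)) :=
  Lgr Lrot92 (Lpr_ct (f469397 IH) (Lpr_gt (f439556 IH) (Lpr_cf (f439220 IH) (Lpr_bt (f209119 IH) (Lpr_gt (K28.f132079 IH) (Lpr_ct (f464574 IH) (Lpe (K32.f116049 IH) (Lpe (K24.f130742 IH) (Lpr_bt (K24.f123789 IH) (Lpr_gt (f123797 IH) (Lpn (LP (LK LD1_c14 LD2_c6 LD3_c44)))))))))))))
theorem f469409 : Led Lsl_bf (LP (LK LD1_c7 LD2_c28 LD3_c56)) = (LP (LK LD1_c14 LD2_c6 LD3_c44)) :=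
  Lgr Lrot24 (Lpr_bt (f469407 IH) (Lpn (LP (LK LD1_c14 LD2_c6 LD3_c44))))
theorem f473473 : Led Lsl_gt (LP (LK LD1_c23 LD2_c26 LD3_c50)) = (LP (LK LD1_c23 LD2_c40 LD3_c46)) :=
  Lgr Lrot149 (Lpe (f473472 IH) (Lpe (f142428 IH) (Lpe (f473460 IH) (Lpr_ct (K33.f473464 IH) (Lpe (K33.f106211 IH) (Lpr_cf (K4.f116138 IH) (Lpr_bt (f116135 IH) (Lpe (f116155 IH) (Lpr_bf (f469409 IH) (Lpr_ct (f123807 IH) (Lpn (LP (LK LD1_c23 LD2_c40 LD3_c46)))))))))))))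
theorem f532945 : Led Lsl_ff (LP (LK LD1_c21 LD2_c41 LD3_c13)) = (LP (LK LD1_c23 LD2_c26 LD3_c50)) :=
  Lgr Lrot52 (Lpe (f111292 IH) (Lpr_gf (f532943 IH) (Lpe (f473473 IH) (Lpn (LP (LK LD1_c23 LD2_c26 LD3_c50))))))
theorem f532965 : Led Lsl_ft (LP (LK LD1_c21 LD2_c41 LD3_c13)) = (LP (LK LD1_c23 LD2_c26 LD3_c50)) :=
  Lgr Lrot48 (Lpr_ff (f532945 IH) (Lpn (LP (LK LD1_c23 LD2_c26 LD3_c50))))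
theorem f473488 : Led Lsl_ct (LP (LK LD1_c23 LD2_c26 LD3_c50)) = (LP (LK LD1_c13 LD2_c55 LD3_c55)) :=
  Lre_c IH (LK LD1_c23 LD2_c26 LD3_c50) (LK LD1_c13 LD2_c55 LD3_c55) Lrfl Lrfl
theorem f532969 : Led Lsl_ff (LP (LK LD1_c14 LD2_c5 LD3_c1)) = (LP (LK LD1_c13 LD2_c55 LD3_c55)) :=
  Lgr Lrot23 (Lpr_ct (K4.f111335 IH) (Lpr_ft (f532965 IH) (Lpr_ct (f473488 IH) (Lpn (LP (LK LD1_c13 LD2_c55 LD3_c55))))))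
theorem f102902 : Led Lsl_dt (LP (LK LD1_c14 LD2_c5 LD3_c1)) = (LP (LK LD1_c23 LD2_c38 LD3_c11)) :=
  Lre_d IH (LK LD1_c14 LD2_c5 LD3_c1) (LK LD1_c23 LD2_c38 LD3_c11) Lrfl Lrfl
theorem f473486 : Led Lsl_dt (LP (LK LD1_c23 LD2_c26 LD3_c51)) = (LP (LK LD1_c13 LD2_c55 LD3_c55)) :=
  Lre_d IH (LK LD1_c23 LD2_c26 LD3_c51) (LK LD1_c13 LD2_c55 LD3_c55) Lrfl Lrfl
theorem f532983 : Led Lsl_ft (LP (LK LD1_c23 LD2_c38 LD3_c11)) = (LP (LK LD1_c23 LD2_c26 LD3_c51)) :=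
  Lgr Lrot54 (Lpe (f102902 IH) (Lpr_ff (f532969 IH) (Lpe (f473486 IH) (Lpn (LP (LK LD1_c23 LD2_c26 LD3_c51))))))
theorem f532987 : Led Lsl_ff (LP (LK LD1_c23 LD2_c38 LD3_c11)) = (LP (LK LD1_c23 LD2_c26 LD3_c51)) :=
  Lgr Lrot3 (Lpr_ft (f532983 IH) (Lpn (LP (LK LD1_c23 LD2_c26 LD3_c51))))
theorem f108921 : Led Lsl_dt (LP (LK LD1_c23 LD2_c38 LD3_c11)) = (LP (LK LD1_c14 LD2_c5 LD3_c1)) :=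
  Lre_d IH (LK LD1_c23 LD2_c38 LD3_c11) (LK LD1_c14 LD2_c5 LD3_c1) Lrfl Lrfl
theorem f147815 : Led Lsl_dt (LP (LK LD1_c14 LD2_c3 LD3_c56)) = (LP (LK LD1_c23 LD2_c37 LD3_c5)) :=
  Lre_d IH (LK LD1_c14 LD2_c3 LD3_c56) (LK LD1_c23 LD2_c37 LD3_c5) Lrfl Lrfl
theorem f147816 : Led Lsl_bf (LP (LK LD1_c23 LD2_c38 LD3_c11)) = (LP (LK LD1_c23 LD2_c37 LD3_c5)) :=
  Lgr Lrot93 (Lpr_dt (f108921 IH) (Lpr_bt (K7.f147807 IH) (Lpr_dt (f147815 IH) (Lpn (LP (LK LD1_c23 LD2_c37 LD3_c5))))))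
theorem f147818 : Led Lsl_bt (LP (LK LD1_c23 LD2_c38 LD3_c11)) = (LP (LK LD1_c23 LD2_c37 LD3_c5)) :=
  Lgr Lrot127 (Lpr_bf (f147816 IH) (Lpn (LP (LK LD1_c23 LD2_c37 LD3_c5))))
theorem f458999 : Led Lsl_gt (LP (LK LD1_c13 LD2_c25 LD3_c23)) = (LP (LK LD1_c7 LD2_c4 LD3_c53)) :=
  Lre_g IH (LK LD1_c13 LD2_c25 LD3_c23) (LK LD1_c7 LD2_c4 LD3_c53) Lrfl Lrfl
theorem f459318 : Led Lsl_ct (LP (LK LD1_c22 LD2_c44 LD3_c14)) = (LP (LK LD1_c13 LD2_c25 LD3_c23)) :=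
  Lre_c IH (LK LD1_c22 LD2_c44 LD3_c14) (LK LD1_c13 LD2_c25 LD3_c23) Lrfl Lrfl
theorem f473475 : Led Lsl_bf (LP (LK LD1_c13 LD2_c55 LD3_c55)) = (LP (LK LD1_c22 LD2_c44 LD3_c14)) :=
  Lgr Lrot34 (Lpe (f142428 IH) (Lpe (f473460 IH) (Lpr_ct (K33.f473464 IH) (Lpe (K33.f106211 IH) (Lpr_cf (K4.f116138 IH) (Lpr_gf (K29.f463476 IH) (Lpe (f459161 IH) (Lpe (f459295 IH) (Lpe (f458999 IH) (Lpe (f459318 IH) (Lpn (LP (LK LD1_c22 LD2_c44 LD3_c14)))))))))))))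
theorem f142429 : Led Lsl_dt (LP (LK LD1_c13 LD2_c55 LD3_c55)) = (LP (LK LD1_c23 LD2_c26 LD3_c51)) :=
  Lre_d IH (LK LD1_c13 LD2_c55 LD3_c55) (LK LD1_c23 LD2_c26 LD3_c51) Lrfl Lrfl
theorem f465875 : Led Lsl_dt (LP (LK LD1_c30 LD2_c41 LD3_c22)) = (LP (LK LD1_c22 LD2_c44 LD3_c14)) :=
  Lre_d IH (LK LD1_c30 LD2_c41 LD3_c22) (LK LD1_c22 LD2_c44 LD3_c14) Lrfl Lrfl
theorem f473479 : Led Lsl_bt (LP (LK LD1_c23 LD2_c26 LD3_c51)) = (LP (LK LD1_c30 LD2_c41 LD3_c22)) :=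
  Lgr Lrot95 (Lpe (f142429 IH) (Lpr_bf (f473475 IH) (Lpe (f465875 IH) (Lpn (LP (LK LD1_c30 LD2_c41 LD3_c22))))))
theorem f473481 : Led Lsl_bf (LP (LK LD1_c23 LD2_c26 LD3_c51)) = (LP (LK LD1_c30 LD2_c41 LD3_c22)) :=
  Lgr Lrot24 (Lpr_bt (f473479 IH) (Lpn (LP (LK LD1_c30 LD2_c41 LD3_c22))))
theorem f532989 : Led Lsl_ft (LP (LK LD1_c23 LD2_c37 LD3_c5)) = (LP (LK LD1_c30 LD2_c41 LD3_c22)) :=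
  Lgr Lrot75 (Lpe (f147818 IH) (Lpr_ff (f532987 IH) (Lpr_bf (f473481 IH) (Lpn (LP (LK LD1_c30 LD2_c41 LD3_c22))))))
theorem f532997 : Led Lsl_ff (LP (LK LD1_c14 LD2_c3 LD3_c56)) = (LP (LK LD1_c22 LD2_c44 LD3_c14)) :=
  Lgr Lrot19 (Lpr_dt (f147815 IH) (Lpr_ft (f532989 IH) (Lpr_dt (f465875 IH) (Lpn (LP (LK LD1_c22 LD2_c44 LD3_c14))))))
theorem f465874 : Led Lsl_ct (LP (LK LD1_c13 LD2_c25 LD3_c23)) = (LP (LK LD1_c22 LD2_c44 LD3_c14)) :=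
  Lre_c IH (LK LD1_c13 LD2_c25 LD3_c23) (LK LD1_c22 LD2_c44 LD3_c14) Lrfl Lrfl
theorem f532999 : Led Lsl_ft (LP (LK LD1_c7 LD2_c26 LD3_c32)) = (LP (LK LD1_c13 LD2_c25 LD3_c23)) :=
  Lgr Lrot4 (Lpe (K7.f147811 IH) (Lpr_ff (f532997 IH) (Lpe (f465874 IH) (Lpn (LP (LK LD1_c13 LD2_c25 LD3_c23))))))
theorem f533005 : Led Lsl_ff (LP (LK LD1_c7 LD2_c26 LD3_c32)) = (LP (LK LD1_c13 LD2_c25 LD3_c23)) :=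
  Lgr Lrot3 (Lpr_ft (f532999 IH) (Lpn (LP (LK LD1_c13 LD2_c25 LD3_c23))))
theorem f436329 : Led Lsl_at (LP (LK LD1_c7 LD2_c26 LD3_c32)) = (LP (LK LD1_c7 LD2_c21 LD3_c25)) :=
  Lgr Lrot100 (Lpr_af (K24.f436327 IH) (Lpn (LP (LK LD1_c7 LD2_c21 LD3_c25))))
theorem f533011 : Led Lsl_gf (LP (LK LD1_c7 LD2_c21 LD3_c25)) = (LP (LK LD1_c7 LD2_c4 LD3_c53)) :=
  Lgr Lrot76 (Lpe (f436329 IH) (Lpr_ff (f533005 IH) (Lpr_gt (f458999 IH) (Lpn (LP (LK LD1_c7 LD2_c4 LD3_c53))))))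
theorem f147826 : Led Lsl_af (LP (LK LD1_c13 LD2_c19 LD3_c0)) = (LP (LK LD1_c14 LD2_c3 LD3_c55)) :=
  Lgr Lrot0 (Lpr_at (K7.f147821 IH) (Lpn (LP (LK LD1_c14 LD2_c3 LD3_c55))))
theorem f111054 : Led Lsl_et (LP (LK LD1_c7 LD2_c31 LD3_c15)) = (LP (LK LD1_c3 LD2_c45 LD3_c14)) :=
  Lre_e IH (LK LD1_c7 LD2_c31 LD3_c15) (LK LD1_c3 LD2_c45 LD3_c14) Lrfl Lrfl
theorem f111055 : Led Lsl_ct (LP (LK LD1_c7 LD2_c30 LD3_c45)) = (LP (LK LD1_c7 LD2_c31 LD3_c15)) :=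
  Lgr Lrot15 (Lpe (K4.f111053 IH) (Lpr_cf (K4.f111044 IH) (Lpe (f111054 IH) (Lpn (LP (LK LD1_c7 LD2_c31 LD3_c15))))))
theorem f111094 : Led Lsl_ct (LP (LK LD1_c21 LD2_c41 LD3_c12)) = (LP (LK LD1_c12 LD2_c34 LD3_c50)) :=
  Lre_c IH (LK LD1_c21 LD2_c41 LD3_c12) (LK LD1_c12 LD2_c34 LD3_c50) Lrfl Lrfl
theorem f111175 : Led Lsl_bf (LP (LK LD1_c21 LD2_c41 LD3_c12)) = (LP (LK LD1_c13 LD2_c19 LD3_c0)) :=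
  Lgr Lrot90 (Lpr_ct (f111094 IH) (Lpr_bt (K4.f111086 IH) (Lpr_ct (f111055 IH) (Lpr_bt (K4.f111169 IH) (Lpr_ct (K7.f111174 IH) (Lpn (LP (LK LD1_c13 LD2_c19 LD3_c0))))))))
theorem f436331 : Led Lsl_bt (LP (LK LD1_c13 LD2_c19 LD3_c6)) = (LP (LK LD1_c7 LD2_c21 LD3_c25)) :=
  Lgr Lrot62 (Lpe (K4.f111100 IH) (Lpr_bf (f111175 IH) (Lpr_af (f147826 IH) (Lpe (K7.f147812 IH) (Lpr_af (K24.f436327 IH) (Lpn (LP (LK LD1_c7 LD2_c21 LD3_c25))))))))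
theorem f466303 : Led Lsl_bt (LP (LK LD1_c1 LD2_c41 LD3_c50)) = (LP (LK LD1_c3 LD2_c30 LD3_c19)) :=
  Lre_b IH (LK LD1_c1 LD2_c41 LD3_c50) (LK LD1_c3 LD2_c30 LD3_c19) Lrfl Lrfl
theorem f488693 : Led Lsl_bt (LP (LK LD1_c7 LD2_c2 LD3_c27)) = (LP (LK LD1_c3 LD2_c43 LD3_c51)) :=
  Lgr Lrot128 (Lpe (f18976 IH) (Lpe (f466303 IH) (Lpe (K28.f18827 IH) (Lpe (K28.f466492 IH) (Lpr_cf (K33.f466460 IH) (Lpn (LP (LK LD1_c3 LD2_c43 LD3_c51))))))))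
theorem f469694 : Led Lsl_ct (LP (LK LD1_c7 LD2_c2 LD3_c27)) = (LP (LK LD1_c3 LD2_c30 LD3_c19)) :=
  Lre_c IH (LK LD1_c7 LD2_c2 LD3_c27) (LK LD1_c3 LD2_c30 LD3_c19) Lrfl Lrfl
theorem f533015 : Led Lsl_gt (LP (LK LD1_c7 LD2_c1 LD3_c17)) = (LP (LK LD1_c3 LD2_c30 LD3_c19)) :=
  Lgr Lrot65 (Lpe (K4.f103642 IH) (Lpr_bt (f436331 IH) (Lpr_gf (f533011 IH) (Lpe (f458998 IH) (Lpr_ct (K28.f455769 IH) (Lpr_gf (K28.f459278 IH) (Lpe (K28.f459280 IH) (Lpe (K28.f463326 IH) (Lpe (f488693 IH) (Lpr_ct (f469694 IH) (Lpn (LP (LK LD1_c3 LD2_c30 LD3_c19)))))))))))))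
theorem f466204 : Led Lsl_cf (LP (LK LD1_c3 LD2_c31 LD3_c17)) = (LP (LK LD1_c3 LD2_c41 LD3_c6)) :=
  Lgr Lrot11 (Lpr_ct (K28.f466197 IH) (Lpn (LP (LK LD1_c3 LD2_c41 LD3_c6))))
theorem f489368 : Led Lsl_ct (LP (LK LD1_c7 LD2_c4 LD3_c20)) = (LP (LK LD1_c7 LD2_c22 LD3_c30)) :=
  Lgr Lrot83 (Lpe (K28.f466291 IH) (Lpe (K28.f18949 IH) (Lpe (K28.f18950 IH) (Lpr_cf (f466204 IH) (Lpe (K28.f439145 IH) (Lpn (LP (LK LD1_c7 LD2_c22 LD3_c30))))))))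
theorem f533028 : Led Lsl_gf (LP (LK LD1_c13 LD2_c6 LD3_c18)) = (LP (LK LD1_c7 LD2_c22 LD3_c30)) :=
  Lgr Lrot126 (Lpe (K4.f103636 IH) (Lpr_bt (K4.f103634 IH) (Lpr_gt (f533015 IH) (Lpr_ct (f18976 IH) (Lpe (f466250 IH) (Lpe (K28.f464372 IH) (Lpr_bt (K28.f98772 IH) (Lpr_gt (K28.f466225 IH) (Lpe (K28.f466200 IH) (Lpr_ct (f489368 IH) (Lpn (LP (LK LD1_c7 LD2_c22 LD3_c30)))))))))))))
theorem f466258 : Led Lsl_gt (LP (LK LD1_c13 LD2_c56 LD3_c45)) = (LP (LK LD1_c7 LD2_c22 LD3_c30)) :=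
  Lre_g IH (LK LD1_c13 LD2_c56 LD3_c45) (LK LD1_c7 LD2_c22 LD3_c30) Lrfl Lrfl
theorem f533069 : Led Lsl_ff (LP (LK LD1_c14 LD2_c5 LD3_c2)) = (LP (LK LD1_c13 LD2_c56 LD3_c45)) :=
  Lgr Lrot52 (Lpe (K4.f108944 IH) (Lpr_gf (f533028 IH) (Lpe (f466258 IH) (Lpn (LP (LK LD1_c13 LD2_c56 LD3_c45))))))
theorem f533075 : Led Lsl_ft (LP (LK LD1_c14 LD2_c5 LD3_c2)) = (LP (LK LD1_c13 LD2_c56 LD3_c45)) :=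
  Lgr Lrot48 (Lpr_ff (f533069 IH) (Lpn (LP (LK LD1_c13 LD2_c56 LD3_c45))))
theorem f108968 : Led Lsl_bf (LP (LK LD1_c14 LD2_c5 LD3_c2)) = (LP (LK LD1_c13 LD2_c6 LD3_c20)) :=
  Lgr Lrot24 (Lpr_bt (K24.f108966 IH) (Lpn (LP (LK LD1_c13 LD2_c6 LD3_c20))))
theorem f532947 : Led Lsl_gt (LP (LK LD1_c14 LD2_c5 LD3_c2)) = (LP (LK LD1_c7 LD2_c27 LD3_c55)) :=
  Lgr Lrot82 (Lpr_bf (f108968 IH) (Lpe (K4.f97684 IH) (Lpr_gf (f532943 IH) (Lpe (f123807 IH) (Lpe (f469409 IH) (Lpe (f469371 IH) (Lpr_bf (f469365 IH) (Lpr_ct (f469391 IH) (Lpr_gf (f461001 IH) (Lpr_cf (K28.f464338 IH) (Lpn (LP (LK LD1_c7 LD2_c27 LD3_c55)))))))))))))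
theorem f132127 : Led Lsl_gt (LP (LK LD1_c7 LD2_c27 LD3_c55)) = (LP (LK LD1_c14 LD2_c5 LD3_c35)) :=
  Lre_g IH (LK LD1_c7 LD2_c27 LD3_c55) (LK LD1_c14 LD2_c5 LD3_c35) Lrfl Lrfl
theorem f533082 : Led Lsl_af (LP (LK LD1_c14 LD2_c5 LD3_c35)) = (LP (LK LD1_c13 LD2_c56 LD3_c45)) :=
  Lgr Lrot31 (Lpe (f132127 IH) (Lpe (f532947 IH) (Lpr_ft (f533075 IH) (Lpn (LP (LK LD1_c13 LD2_c56 LD3_c45))))))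
theorem f533088 : Led Lsl_ft (LP (LK LD1_c14 LD2_c5 LD3_c35)) = (LP (LK LD1_c13 LD2_c6 LD3_c18)) :=
  Lgr Lrot101 (Lpr_af (f533082 IH) (Lpe (f533075 IH) (Lpe (K4.f108946 IH) (Lpn (LP (LK LD1_c13 LD2_c6 LD3_c18))))))
theorem f533096 : Led Lsl_ff (LP (LK LD1_c14 LD2_c5 LD3_c35)) = (LP (LK LD1_c13 LD2_c6 LD3_c18)) :=
  Lgr Lrot3 (Lpr_ft (f533088 IH) (Lpn (LP (LK LD1_c13 LD2_c6 LD3_c18))))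
theorem f102901 : Led Lsl_et (LP (LK LD1_c14 LD2_c5 LD3_c1)) = (LP (LK LD1_c7 LD2_c27 LD3_c35)) :=
  Lre_e IH (LK LD1_c14 LD2_c5 LD3_c1) (LK LD1_c7 LD2_c27 LD3_c35) Lrfl Lrfl
theorem f533102 : Led Lsl_et (LP (LK LD1_c14 LD2_c5 LD3_c35)) = (LP (LK LD1_c13 LD2_c55 LD3_c55)) :=
  Lgr Lrot69 (Lpr_ff (f533096 IH) (Lpe (K4.f103631 IH) (Lpr_ff (K4.f108938 IH) (Lpe (f102901 IH) (Lpr_ff (f532969 IH) (Lpn (LP (LK LD1_c13 LD2_c55 LD3_c55))))))))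
theorem f465752 : Led Lsl_af (LP (LK LD1_c7 LD2_c22 LD3_c37)) = (LP (LK LD1_c7 LD2_c4 LD3_c53)) :=
  Lgr Lrot36 (Lpr_bt (f465719 IH) (Lpr_at (K28.f465750 IH) (Lpr_bt (K28.f458442 IH) (Lpr_at (K33.f459191 IH) (Lpr_bt (f458998 IH) (Lpn (LP (LK LD1_c7 LD2_c4 LD3_c53))))))))
theorem f459151 : Led Lsl_dt (LP (LK LD1_c13 LD2_c24 LD3_c40)) = (LP (LK LD1_c7 LD2_c4 LD3_c27)) :=
  Lre_d IH (LK LD1_c13 LD2_c24 LD3_c40) (LK LD1_c7 LD2_c4 LD3_c27) Lrfl Lrfl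
theorem f459156 : Led Lsl_ff (LP (LK LD1_c7 LD2_c4 LD3_c53)) = (LP (LK LD1_c7 LD2_c4 LD3_c27)) :=
  Lgr Lrot19 (Lpr_dt (f459155 IH) (Lpr_ft (f459132 IH) (Lpr_dt (f459151 IH) (Lpn (LP (LK LD1_c7 LD2_c4 LD3_c27))))))
theorem f459164 : Led Lsl_gt (LP (LK LD1_c7 LD2_c4 LD3_c27)) = (LP (LK LD1_c13 LD2_c24 LD3_c39)) :=
  Lre_g IH (LK LD1_c7 LD2_c4 LD3_c27) (LK LD1_c13 LD2_c24 LD3_c39) Lrfl Lrfl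
theorem f489439 : Led Lsl_gf (LP (LK LD1_c7 LD2_c22 LD3_c37)) = (LP (LK LD1_c13 LD2_c24 LD3_c39)) :=
  Lgr Lrot76 (Lpr_af (f465752 IH) (Lpr_ff (f459156 IH) (Lpr_gt (f459164 IH) (Lpn (LP (LK LD1_c13 LD2_c24 LD3_c39))))))
theorem f465721 : Led Lsl_bt (LP (LK LD1_c1 LD2_c47 LD3_c30)) = (LP (LK LD1_c1 LD2_c47 LD3_c30)) :=
  Lgr Lrot92 (Lpr_ct (K28.f439212 IH) (Lpr_gt (K28.f465713 IH) (Lpr_cf (K28.f146926 IH) (Lpr_bt (K28.f108475 IH) (Lpr_gt (K28.f106036 IH) (Lpr_ct (K28.f108430 IH) (Lpr_gt (K28.f465693 IH) (Lpr_cf (K28.f439553 IH) (Lpr_bt (K5.f131722 IH) (Lpe (K28.f439210 IH) (Lpn (LP (LK LD1_c1 LD2_c47 LD3_c30)))))))))))))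
theorem f439216 : Led Lsl_ct (LP (LK LD1_c3 LD2_c41 LD3_c9)) = (LP (LK LD1_c1 LD2_c47 LD3_c30)) :=
  Lre_c IH (LK LD1_c3 LD2_c41 LD3_c9) (LK LD1_c1 LD2_c47 LD3_c30) Lrfl Lrfl
theorem f439217 : Led Lsl_bt (LP (LK LD1_c3 LD2_c41 LD3_c9)) = (LP (LK LD1_c7 LD2_c22 LD3_c37)) :=
  Lre_b IH (LK LD1_c3 LD2_c41 LD3_c9) (LK LD1_c7 LD2_c22 LD3_c37) Lrfl Lrfl
theorem f465725 : Led Lsl_cf (LP (LK LD1_c7 LD2_c22 LD3_c37)) = (LP (LK LD1_c7 LD2_c22 LD3_c37)) :=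
  Lgr Lrot97 (Lpr_bt (f465719 IH) (Lpr_ct (f439216 IH) (Lpr_bt (f465721 IH) (Lpr_ct (K28.f439212 IH) (Lpr_bt (f439217 IH) (Lpn (LP (LK LD1_c7 LD2_c22 LD3_c37))))))))
theorem f108295 : Led Lsl_et (LP (LK LD1_c1 LD2_c42 LD3_c43)) = (LP (LK LD1_c0 LD2_c47 LD3_c58)) :=
  Lre_e IH (LK LD1_c1 LD2_c42 LD3_c43) (LK LD1_c0 LD2_c47 LD3_c58) Lrfl Lrfl
theorem f124031 : Led Lsl_ct (LP (LK LD1_c1 LD2_c47 LD3_c37)) = (LP (LK LD1_c1 LD2_c42 LD3_c43)) :=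
  Lgr Lrot15 (Lpe (K8.f124030 IH) (Lpr_cf (K4.f124019 IH) (Lpe (f108295 IH) (Lpn (LP (LK LD1_c1 LD2_c42 LD3_c43))))))
theorem f464341 : Led Lsl_bt (LP (LK LD1_c3 LD2_c43 LD3_c39)) = (LP (LK LD1_c7 LD2_c27 LD3_c55)) :=
  Lre_b IH (LK LD1_c3 LD2_c43 LD3_c39) (LK LD1_c7 LD2_c27 LD3_c55) Lrfl Lrfl
theorem f459323 : Led Lsl_ct (LP (LK LD1_c22 LD2_c42 LD3_c56)) = (LP (LK LD1_c13 LD2_c24 LD3_c39)) :=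
  Lre_c IH (LK LD1_c22 LD2_c42 LD3_c56) (LK LD1_c13 LD2_c24 LD3_c39) Lrfl Lrfl
theorem f489441 : Led Lsl_bf (LP (LK LD1_c14 LD2_c5 LD3_c35)) = (LP (LK LD1_c22 LD2_c42 LD3_c56)) :=
  Lgr Lrot34 (Lpe (f132127 IH) (Lpe (f464341 IH) (Lpr_ct (f464574 IH) (Lpe (K28.f116048 IH) (Lpe (f124031 IH) (Lpe (K28.f465713 IH) (Lpe (f465719 IH) (Lpe (f465725 IH) (Lpr_gf (f489439 IH) (Lpe (f459323 IH) (Lpn (LP (LK LD1_c22 LD2_c42 LD3_c56)))))))))))))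
theorem f473477 : Led Lsl_bt (LP (LK LD1_c13 LD2_c55 LD3_c55)) = (LP (LK LD1_c22 LD2_c44 LD3_c14)) :=
  Lgr Lrot127 (Lpr_bf (f473475 IH) (Lpn (LP (LK LD1_c22 LD2_c44 LD3_c14))))
theorem f533104 : Led Lsl_ef (LP (LK LD1_c22 LD2_c42 LD3_c56)) = (LP (LK LD1_c22 LD2_c44 LD3_c14)) :=
  Lgr Lrot29 (Lpe (f489441 IH) (Lpr_et (f533102 IH) (Lpr_bt (f473477 IH) (Lpn (LP (LK LD1_c22 LD2_c44 LD3_c14))))))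
theorem f533112 : Led Lsl_et (LP (LK LD1_c22 LD2_c42 LD3_c56)) = (LP (LK LD1_c22 LD2_c44 LD3_c14)) :=
  Lgr Lrot87 (Lpr_ef (f533104 IH) (Lpn (LP (LK LD1_c22 LD2_c44 LD3_c14))))
theorem f459277 : Led Lsl_ct (LP (LK LD1_c13 LD2_c24 LD3_c39)) = (LP (LK LD1_c22 LD2_c42 LD3_c56)) :=
  Lre_c IH (LK LD1_c13 LD2_c24 LD3_c39) (LK LD1_c22 LD2_c42 LD3_c56) Lrfl Lrfl
theorem f533114 : Led Lsl_ef (LP (LK LD1_c13 LD2_c24 LD3_c39)) = (LP (LK LD1_c13 LD2_c25 LD3_c23)) :=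
  Lgr Lrot28 (Lpr_ct (f459277 IH) (Lpr_et (f533112 IH) (Lpr_ct (f459318 IH) (Lpn (LP (LK LD1_c13 LD2_c25 LD3_c23))))))
theorem f436320 : Led Lsl_et (LP (LK LD1_c3 LD2_c42 LD3_c54)) = (LP (LK LD1_c7 LD2_c26 LD3_c32)) :=
  Lre_e IH (LK LD1_c3 LD2_c42 LD3_c54) (LK LD1_c7 LD2_c26 LD3_c32) Lrfl Lrfl
theorem f148319 : Led Lsl_et (LP (LK LD1_c7 LD2_c21 LD3_c25)) = (LP (LK LD1_c3 LD2_c40 LD3_c36)) :=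
  Lre_e IH (LK LD1_c7 LD2_c21 LD3_c25) (LK LD1_c3 LD2_c40 LD3_c36) Lrfl Lrfl
theorem f533121 : Led Lsl_ft (LP (LK LD1_c13 LD2_c24 LD3_c39)) = (LP (LK LD1_c7 LD2_c21 LD3_c25)) :=
  Lgr Lrot86 (Lpr_ef (f533114 IH) (Lpe (f532999 IH) (Lpe (f436320 IH) (Lpr_ff (K24.f436316 IH) (Lpe (f148319 IH) (Lpn (LP (LK LD1_c7 LD2_c21 LD3_c25))))))))
theorem f533131 : Led Lsl_gt (LP (LK LD1_c7 LD2_c22 LD3_c37)) = (LP (LK LD1_c7 LD2_c26 LD3_c32)) :=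
  Lgr Lrot46 (Lpr_gf (f489439 IH) (Lpr_ft (f533121 IH) (Lpe (K24.f436327 IH) (Lpn (LP (LK LD1_c7 LD2_c26 LD3_c32))))))
theorem f439191 : Led Lsl_bt (LP (LK LD1_c7 LD2_c22 LD3_c27)) = (LP (LK LD1_c3 LD2_c41 LD3_c5)) :=
  Lre_b IH (LK LD1_c7 LD2_c22 LD3_c27) (LK LD1_c3 LD2_c41 LD3_c5) Lrfl Lrfl
theorem f461809 : Led Lsl_ct (LP (LK LD1_c3 LD2_c30 LD3_c32)) = (LP (LK LD1_c3 LD2_c35 LD3_c57)) :=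
  Lgr Lrot59 (Lpr_cf (K24.f461806 IH) (Lpn (LP (LK LD1_c3 LD2_c35 LD3_c57))))
theorem f464543 : Led Lsl_ct (LP (LK LD1_c7 LD2_c22 LD3_c27)) = (LP (LK LD1_c7 LD2_c3 LD3_c0)) :=
  Lgr Lrot83 (Lpe (K28.f464542 IH) (Lpr_cf (K28.f464540 IH) (Lpr_bf (K28.f461816 IH) (Lpe (f461809 IH) (Lpe (K28.f18935 IH) (Lpn (LP (LK LD1_c7 LD2_c3 LD3_c0))))))))
theorem f147825 : Led Lsl_bt (LP (LK LD1_c14 LD2_c3 LD3_c55)) = (LP (LK LD1_c7 LD2_c26 LD3_c32)) :=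
  Lre_b IH (LK LD1_c14 LD2_c3 LD3_c55) (LK LD1_c7 LD2_c26 LD3_c32) Lrfl Lrfl
theorem f533135 : Led Lsl_gf (LP (LK LD1_c7 LD2_c3 LD3_c0)) = (LP (LK LD1_c12 LD2_c34 LD3_c52)) :=
  Lgr Lrot126 (Lpe (f464543 IH) (Lpr_bt (f439191 IH) (Lpr_gt (K28.f439188 IH) (Lpr_ct (K28.f131724 IH) (Lpe (K28.f439210 IH) (Lpe (f439216 IH) (Lpr_bt (f439217 IH) (Lpr_gt (f533131 IH) (Lpe (f147825 IH) (Lpe (K7.f147813 IH) (Lpn (LP (LK LD1_c12 LD2_c34 LD3_c52)))))))))))))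
theorem f18354 : Led Lsl_dt (LP (LK LD1_c1 LD2_c41 LD3_c54)) = (LP (LK LD1_c3 LD2_c30 LD3_c34)) :=
  Lre_d IH (LK LD1_c1 LD2_c41 LD3_c54) (LK LD1_c3 LD2_c30 LD3_c34) Lrfl Lrfl
theorem f18356 : Led Lsl_bf (LP (LK LD1_c1 LD2_c41 LD3_c54)) = (LP (LK LD1_c1 LD2_c38 LD3_c49)) :=
  Lgr Lrot93 (Lpr_dt (f18354 IH) (Lpr_bt (K2.f18328 IH) (Lpr_dt (K28.f18355 IH) (Lpn (LP (LK LD1_c1 LD2_c38 LD3_c49))))))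
theorem f469126 : Led Lsl_ct (LP (LK LD1_c13 LD2_c3 LD3_c49)) = (LP (LK LD1_c7 LD2_c4 LD3_c51)) :=
  Lgr Lrot10 (Lpr_bt (K28.f98763 IH) (Lpr_gt (K28.f468919 IH) (Lpr_ct (K28.f18999 IH) (Lpr_gt (K2.f17017 IH) (Lpe (K2.f18572 IH) (Lpe (f18356 IH) (Lpr_gt (K28.f19068 IH) (Lpe (K28.f18935 IH) (Lpe (K28.f468146 IH) (Lpr_gt (K28.f466127 IH) (Lpn (LP (LK LD1_c7 LD2_c4 LD3_c51)))))))))))))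
theorem f463402 : Led Lsl_et (LP (LK LD1_c3 LD2_c43 LD3_c52)) = (LP (LK LD1_c7 LD2_c28 LD3_c23)) :=
  Lre_e IH (LK LD1_c3 LD2_c43 LD3_c52) (LK LD1_c7 LD2_c28 LD3_c23) Lrfl Lrfl
theorem f463403 : Led Lsl_et (LP (LK LD1_c6 LD2_c52 LD3_c15)) = (LP (LK LD1_c3 LD2_c24 LD3_c53)) :=
  Lre_e IH (LK LD1_c6 LD2_c52 LD3_c15) (LK LD1_c3 LD2_c24 LD3_c53) Lrfl Lrfl
theorem f463404 : Led Lsl_ct (LP (LK LD1_c7 LD2_c28 LD3_c23)) = (LP (LK LD1_c6 LD2_c52 LD3_c15)) :=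
  Lgr Lrot15 (Lpe (f463402 IH) (Lpr_cf (K28.f463391 IH) (Lpe (f463403 IH) (Lpn (LP (LK LD1_c6 LD2_c52 LD3_c15))))))
theorem f463413 : Led Lsl_cf (LP (LK LD1_c7 LD2_c28 LD3_c23)) = (LP (LK LD1_c6 LD2_c52 LD3_c15)) :=
  Lgr Lrot11 (Lpr_ct (f463404 IH) (Lpn (LP (LK LD1_c6 LD2_c52 LD3_c15))))
theorem f463416 : Led Lsl_bt (LP (LK LD1_c7 LD2_c28 LD3_c23)) = (LP (LK LD1_c14 LD2_c6 LD3_c26)) :=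
  Lre_b IH (LK LD1_c7 LD2_c28 LD3_c23) (LK LD1_c14 LD2_c6 LD3_c26) Lrfl Lrfl
theorem f463417 : Led Lsl_bt (LP (LK LD1_c3 LD2_c24 LD3_c56)) = (LP (LK LD1_c6 LD2_c52 LD3_c15)) :=
  Lre_b IH (LK LD1_c3 LD2_c24 LD3_c56) (LK LD1_c6 LD2_c52 LD3_c15) Lrfl Lrfl
theorem f463418 : Led Lsl_ct (LP (LK LD1_c6 LD2_c52 LD3_c18)) = (LP (LK LD1_c3 LD2_c24 LD3_c56)) :=
  Lre_c IH (LK LD1_c6 LD2_c52 LD3_c18) (LK LD1_c3 LD2_c24 LD3_c56) Lrfl Lrfl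
theorem f463419 : Led Lsl_bt (LP (LK LD1_c13 LD2_c4 LD3_c6)) = (LP (LK LD1_c6 LD2_c52 LD3_c18)) :=
  Lre_b IH (LK LD1_c13 LD2_c4 LD3_c6) (LK LD1_c6 LD2_c52 LD3_c18) Lrfl Lrfl
theorem f463420 : Led Lsl_ct (LP (LK LD1_c14 LD2_c6 LD3_c26)) = (LP (LK LD1_c13 LD2_c4 LD3_c6)) :=
  Lgr Lrot83 (Lpe (f463416 IH) (Lpr_cf (f463413 IH) (Lpe (f463417 IH) (Lpe (f463418 IH) (Lpe (f463419 IH) (Lpn (LP (LK LD1_c13 LD2_c4 LD3_c6))))))))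
theorem f463424 : Led Lsl_et (LP (LK LD1_c7 LD2_c28 LD3_c21)) = (LP (LK LD1_c14 LD2_c6 LD3_c26)) :=
  Lre_e IH (LK LD1_c7 LD2_c28 LD3_c21) (LK LD1_c14 LD2_c6 LD3_c26) Lrfl Lrfl
theorem f463425 : Led Lsl_et (LP (LK LD1_c13 LD2_c4 LD3_c6)) = (LP (LK LD1_c6 LD2_c52 LD3_c16)) :=
  Lre_e IH (LK LD1_c13 LD2_c4 LD3_c6) (LK LD1_c6 LD2_c52 LD3_c16) Lrfl Lrfl
theorem f463426 : Led Lsl_cf (LP (LK LD1_c7 LD2_c28 LD3_c21)) = (LP (LK LD1_c6 LD2_c52 LD3_c16)) :=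
  Lgr Lrot39 (Lpr_et (f463424 IH) (Lpr_ct (f463420 IH) (Lpr_et (f463425 IH) (Lpn (LP (LK LD1_c6 LD2_c52 LD3_c16))))))
theorem f111265 : Led Lsl_bt (LP (LK LD1_c21 LD2_c41 LD3_c13)) = (LP (LK LD1_c12 LD2_c34 LD3_c52)) :=
  Lre_b IH (LK LD1_c21 LD2_c41 LD3_c13) (LK LD1_c12 LD2_c34 LD3_c52) Lrfl Lrfl
theorem f533139 : Led Lsl_gt (LP (LK LD1_c7 LD2_c28 LD3_c21)) = (LP (LK LD1_c14 LD2_c5 LD3_c1)) :=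
  Lgr Lrot65 (Lpr_cf (f463426 IH) (Lpr_bt (K28.f463396 IH) (Lpe (K28.f468919 IH) (Lpe (K28.f98763 IH) (Lpr_ct (f469126 IH) (Lpe (K28.f466127 IH) (Lpr_cf (K28.f468146 IH) (Lpr_gf (f533135 IH) (Lpe (f111265 IH) (Lpe (K4.f111296 IH) (Lpn (LP (LK LD1_c14 LD2_c5 LD3_c1)))))))))))))
theorem f463437 : Led Lsl_gt (LP (LK LD1_c14 LD2_c6 LD3_c23)) = (LP (LK LD1_c7 LD2_c28 LD3_c21)) :=
  Lre_g IH (LK LD1_c14 LD2_c6 LD3_c23) (LK LD1_c7 LD2_c28 LD3_c21) Lrfl Lrfl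
theorem f533159 : Led Lsl_ft (LP (LK LD1_c14 LD2_c6 LD3_c23)) = (LP (LK LD1_c13 LD2_c6 LD3_c20)) :=
  Lgr Lrot2 (Lpr_gt (f463437 IH) (Lpr_gt (f533139 IH) (Lpe (K24.f108919 IH) (Lpn (LP (LK LD1_c13 LD2_c6 LD3_c20))))))
theorem f533187 : Led Lsl_ff (LP (LK LD1_c14 LD2_c6 LD3_c23)) = (LP (LK LD1_c13 LD2_c6 LD3_c20)) :=
  Lgr Lrot3 (Lpr_ft (f533159 IH) (Lpn (LP (LK LD1_c13 LD2_c6 LD3_c20))))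
theorem f463444 : Led Lsl_dt (LP (LK LD1_c14 LD2_c6 LD3_c23)) = (LP (LK LD1_c23 LD2_c40 LD3_c19)) :=
  Lre_d IH (LK LD1_c14 LD2_c6 LD3_c23) (LK LD1_c23 LD2_c40 LD3_c19) Lrfl Lrfl
theorem f533195 : Led Lsl_ft (LP (LK LD1_c23 LD2_c40 LD3_c19)) = (LP (LK LD1_c22 LD2_c17 LD3_c45)) :=
  Lgr Lrot54 (Lpe (f463444 IH) (Lpr_ff (f533187 IH) (Lpe (f97692 IH) (Lpn (LP (LK LD1_c22 LD2_c17 LD3_c45))))))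
theorem f468955 : Led Lsl_ct (LP (LK LD1_c31 LD2_c10 LD3_c21)) = (LP (LK LD1_c23 LD2_c40 LD3_c19)) :=
  Lre_c IH (LK LD1_c31 LD2_c10 LD3_c21) (LK LD1_c23 LD2_c40 LD3_c19) Lrfl Lrfl
theorem f533260 : Led Lsl_ff (LP (LK LD1_c31 LD2_c10 LD3_c21)) = (LP (LK LD1_c30 LD2_c24 LD3_c41)) :=
  Lgr Lrot23 (Lpr_ct (f468955 IH) (Lpr_ft (f533195 IH) (Lpr_ct (f97697 IH) (Lpn (LP (LK LD1_c30 LD2_c24 LD3_c41))))))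
theorem f533277 : Led Lsl_ft (LP (LK LD1_c31 LD2_c10 LD3_c21)) = (LP (LK LD1_c30 LD2_c24 LD3_c41)) :=
  Lgr Lrot48 (Lpr_ff (f533260 IH) (Lpn (LP (LK LD1_c30 LD2_c24 LD3_c41))))
theorem f108922 : Led Lsl_at (LP (LK LD1_c22 LD2_c17 LD3_c45)) = (LP (LK LD1_c23 LD2_c38 LD3_c11)) :=
  Lgr Lrot51 (Lpe (f97696 IH) (Lpr_af (K4.f108917 IH) (Lpe (f108921 IH) (Lpn (LP (LK LD1_c23 LD2_c38 LD3_c11))))))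
theorem f108926 : Led Lsl_ct (LP (LK LD1_c23 LD2_c38 LD3_c11)) = (LP (LK LD1_c31 LD2_c8 LD3_c21)) :=
  Lre_c IH (LK LD1_c23 LD2_c38 LD3_c11) (LK LD1_c31 LD2_c8 LD3_c21) Lrfl Lrfl
theorem f108927 : Led Lsl_af (LP (LK LD1_c30 LD2_c24 LD3_c41)) = (LP (LK LD1_c31 LD2_c8 LD3_c21)) :=
  Lgr Lrot68 (Lpr_ct (f97693 IH) (Lpr_at (f108922 IH) (Lpr_ct (f108926 IH) (Lpn (LP (LK LD1_c31 LD2_c8 LD3_c21))))))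
theorem f108931 : Led Lsl_at (LP (LK LD1_c30 LD2_c24 LD3_c41)) = (LP (LK LD1_c31 LD2_c8 LD3_c21)) :=
  Lgr Lrot100 (Lpr_af (f108927 IH) (Lpn (LP (LK LD1_c31 LD2_c8 LD3_c21))))
theorem f473483 : Led Lsl_ct (LP (LK LD1_c31 LD2_c3 LD3_c25)) = (LP (LK LD1_c23 LD2_c26 LD3_c51)) :=
  Lre_c IH (LK LD1_c31 LD2_c3 LD3_c25) (LK LD1_c23 LD2_c26 LD3_c51) Lrfl Lrfl
theorem f532991 : Led Lsl_ft (LP (LK LD1_c31 LD2_c8 LD3_c21)) = (LP (LK LD1_c31 LD2_c3 LD3_c25)) :=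
  Lgr Lrot4 (Lpe (f108926 IH) (Lpr_ff (f532987 IH) (Lpe (f473483 IH) (Lpn (LP (LK LD1_c31 LD2_c3 LD3_c25))))))
theorem f533279 : Led Lsl_af (LP (LK LD1_c31 LD2_c10 LD3_c21)) = (LP (LK LD1_c31 LD2_c3 LD3_c25)) :=
  Lgr Lrot45 (Lpr_ft (f533277 IH) (Lpr_at (f108931 IH) (Lpr_ft (f532991 IH) (Lpn (LP (LK LD1_c31 LD2_c3 LD3_c25))))))
theorem f473485 : Led Lsl_ct (LP (LK LD1_c23 LD2_c26 LD3_c51)) = (LP (LK LD1_c31 LD2_c3 LD3_c25)) :=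
  Lre_c IH (LK LD1_c23 LD2_c26 LD3_c51) (LK LD1_c31 LD2_c3 LD3_c25) Lrfl Lrfl
theorem f533288 : Led Lsl_at (LP (LK LD1_c23 LD2_c40 LD3_c19)) = (LP (LK LD1_c23 LD2_c26 LD3_c51)) :=
  Lgr Lrot107 (Lpe (f468955 IH) (Lpr_af (f533279 IH) (Lpe (f473485 IH) (Lpn (LP (LK LD1_c23 LD2_c26 LD3_c51))))))
theorem f533246 : Led Lsl_et (LP (LK LD1_c31 LD2_c10 LD3_c22)) = (LP (LK LD1_c23 LD2_c40 LD3_c19)) :=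
  Lre_e IH (LK LD1_c31 LD2_c10 LD3_c22) (LK LD1_c23 LD2_c40 LD3_c19) Lrfl Lrfl
theorem f473487 : Led Lsl_et (LP (LK LD1_c23 LD2_c26 LD3_c51)) = (LP (LK LD1_c31 LD2_c3 LD3_c26)) :=
  Lre_e IH (LK LD1_c23 LD2_c26 LD3_c51) (LK LD1_c31 LD2_c3 LD3_c26) Lrfl Lrfl
theorem f533292 : Led Lsl_af (LP (LK LD1_c31 LD2_c10 LD3_c22)) = (LP (LK LD1_c31 LD2_c3 LD3_c26)) :=
  Lgr Lrot50 (Lpr_et (f533246 IH) (Lpr_at (f533288 IH) (Lpr_et (f473487 IH) (Lpn (LP (LK LD1_c31 LD2_c3 LD3_c26))))))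
theorem f533197 : Led Lsl_et (LP (LK LD1_c14 LD2_c6 LD3_c23)) = (LP (LK LD1_c13 LD2_c56 LD3_c45)) :=
  Lgr Lrot69 (Lpr_ff (f533187 IH) (Lpe (K4.f97683 IH) (Lpr_ff (K4.f108907 IH) (Lpe (f102896 IH) (Lpr_ff (f533069 IH) (Lpn (LP (LK LD1_c13 LD2_c56 LD3_c45))))))))
theorem f463445 : Led Lsl_dt (LP (LK LD1_c23 LD2_c40 LD3_c19)) = (LP (LK LD1_c14 LD2_c6 LD3_c23)) :=
  Lre_d IH (LK LD1_c23 LD2_c40 LD3_c19) (LK LD1_c14 LD2_c6 LD3_c23) Lrfl Lrfl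
theorem f466298 : Led Lsl_dt (LP (LK LD1_c13 LD2_c56 LD3_c45)) = (LP (LK LD1_c23 LD2_c28 LD3_c13)) :=
  Lre_d IH (LK LD1_c13 LD2_c56 LD3_c45) (LK LD1_c23 LD2_c28 LD3_c13) Lrfl Lrfl
theorem f533247 : Led Lsl_et (LP (LK LD1_c23 LD2_c28 LD3_c13)) = (LP (LK LD1_c31 LD2_c4 LD3_c15)) :=
  Lre_e IH (LK LD1_c23 LD2_c28 LD3_c13) (LK LD1_c31 LD2_c4 LD3_c15) Lrfl Lrfl
theorem f533248 : Led Lsl_df (LP (LK LD1_c31 LD2_c10 LD3_c22)) = (LP (LK LD1_c31 LD2_c4 LD3_c15)) :=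
  Lgr Lrot70 (Lpr_et (f533246 IH) (Lpr_dt (f463445 IH) (Lpr_et (f533197 IH) (Lpr_dt (f466298 IH) (Lpr_et (f533247 IH) (Lpn (LP (LK LD1_c31 LD2_c4 LD3_c15))))))))
theorem f533250 : Led Lsl_dt (LP (LK LD1_c31 LD2_c10 LD3_c22)) = (LP (LK LD1_c31 LD2_c4 LD3_c15)) :=
  Lgr Lrot42 (Lpr_df (f533248 IH) (Lpn (LP (LK LD1_c31 LD2_c4 LD3_c15))))
theorem f489452 : Led Lsl_dt (LP (LK LD1_c23 LD2_c39 LD3_c4)) = (LP (LK LD1_c14 LD2_c5 LD3_c35)) :=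
  Lre_d IH (LK LD1_c23 LD2_c39 LD3_c4) (LK LD1_c14 LD2_c5 LD3_c35) Lrfl Lrfl
theorem f489451 : Led Lsl_et (LP (LK LD1_c31 LD2_c9 LD3_c13)) = (LP (LK LD1_c23 LD2_c39 LD3_c4)) :=
  Lre_e IH (LK LD1_c31 LD2_c9 LD3_c13) (LK LD1_c23 LD2_c39 LD3_c4) Lrfl Lrfl
theorem f533106 : Led Lsl_df (LP (LK LD1_c31 LD2_c9 LD3_c13)) = (LP (LK LD1_c31 LD2_c3 LD3_c26)) :=
  Lgr Lrot70 (Lpr_et (f489451 IH) (Lpr_dt (f489452 IH) (Lpr_et (f533102 IH) (Lpr_dt (f142429 IH) (Lpr_et (f473487 IH) (Lpn (LP (LK LD1_c31 LD2_c3 LD3_c26))))))))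
theorem f533108 : Led Lsl_dt (LP (LK LD1_c31 LD2_c9 LD3_c13)) = (LP (LK LD1_c31 LD2_c3 LD3_c26)) :=
  Lgr Lrot42 (Lpr_df (f533106 IH) (Lpn (LP (LK LD1_c31 LD2_c3 LD3_c26))))
theorem f533296 : Led Lsl_at (LP (LK LD1_c31 LD2_c4 LD3_c15)) = (LP (LK LD1_c31 LD2_c9 LD3_c13)) :=
  Lgr Lrot51 (Lpe (f533250 IH) (Lpr_af (f533292 IH) (Lpe (f533108 IH) (Lpn (LP (LK LD1_c31 LD2_c9 LD3_c13))))))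
theorem f533298 : Led Lsl_af (LP (LK LD1_c31 LD2_c4 LD3_c15)) = (LP (LK LD1_c31 LD2_c9 LD3_c13)) :=
  Lgr Lrot0 (Lpr_at (f533296 IH) (Lpn (LP (LK LD1_c31 LD2_c9 LD3_c13))))
theorem f533252 : Led Lsl_et (LP (LK LD1_c31 LD2_c4 LD3_c15)) = (LP (LK LD1_c23 LD2_c28 LD3_c13)) :=
  Lre_e IH (LK LD1_c31 LD2_c4 LD3_c15) (LK LD1_c23 LD2_c28 LD3_c13) Lrfl Lrfl
theorem f489453 : Led Lsl_et (LP (LK LD1_c23 LD2_c39 LD3_c4)) = (LP (LK LD1_c31 LD2_c9 LD3_c13)) :=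
  Lre_e IH (LK LD1_c23 LD2_c39 LD3_c4) (LK LD1_c31 LD2_c9 LD3_c13) Lrfl Lrfl
theorem f533300 : Led Lsl_at (LP (LK LD1_c23 LD2_c28 LD3_c13)) = (LP (LK LD1_c23 LD2_c39 LD3_c4)) :=
  Lgr Lrot80 (Lpe (f533252 IH) (Lpr_af (f533298 IH) (Lpe (f489453 IH) (Lpn (LP (LK LD1_c23 LD2_c39 LD3_c4))))))
theorem f466297 : Led Lsl_dt (LP (LK LD1_c23 LD2_c28 LD3_c13)) = (LP (LK LD1_c13 LD2_c56 LD3_c45)) :=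
  Lre_d IH (LK LD1_c23 LD2_c28 LD3_c13) (LK LD1_c13 LD2_c56 LD3_c45) Lrfl Lrfl
theorem f533073 : Led Lsl_ft (LP (LK LD1_c23 LD2_c38 LD3_c12)) = (LP (LK LD1_c23 LD2_c28 LD3_c13)) :=
  Lgr Lrot54 (Lpe (f102897 IH) (Lpr_ff (f533069 IH) (Lpe (f466297 IH) (Lpn (LP (LK LD1_c23 LD2_c28 LD3_c13))))))
theorem f533302 : Led Lsl_gt (LP (LK LD1_c14 LD2_c5 LD3_c46)) = (LP (LK LD1_c23 LD2_c39 LD3_c4)) :=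
  Lgr Lrot46 (Lpe (f532937 IH) (Lpr_ft (f533073 IH) (Lpr_at (f533300 IH) (Lpn (LP (LK LD1_c23 LD2_c39 LD3_c4))))))
theorem f147084 : Led Lsl_ct (LP (LK LD1_c3 LD2_c41 LD3_c23)) = (LP (LK LD1_c7 LD2_c23 LD3_c17)) :=
  Lre_c IH (LK LD1_c3 LD2_c41 LD3_c23) (LK LD1_c7 LD2_c23 LD3_c17) Lrfl Lrfl
theorem f147430 : Led Lsl_ct (LP (LK LD1_c13 LD2_c58 LD3_c8)) = (LP (LK LD1_c23 LD2_c30 LD3_c15)) :=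
  Lre_c IH (LK LD1_c13 LD2_c58 LD3_c8) (LK LD1_c23 LD2_c30 LD3_c15) Lrfl Lrfl
theorem f469979 : Led Lsl_ct (LP (LK LD1_c14 LD2_c7 LD3_c37)) = (LP (LK LD1_c23 LD2_c42 LD3_c3)) :=
  Lre_c IH (LK LD1_c14 LD2_c7 LD3_c37) (LK LD1_c23 LD2_c42 LD3_c3) Lrfl Lrfl
theorem f440364 : Led Lsl_ct (LP (LK LD1_c23 LD2_c30 LD3_c15)) = (LP (LK LD1_c13 LD2_c58 LD3_c8)) :=
  Lre_c IH (LK LD1_c23 LD2_c30 LD3_c15) (LK LD1_c13 LD2_c58 LD3_c8) Lrfl Lrfl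
theorem f471616 : Led Lsl_at (LP (LK LD1_c23 LD2_c42 LD3_c3)) = (LP (LK LD1_c23 LD2_c30 LD3_c15)) :=
  Lgr Lrot107 (Lpe (f469979 IH) (Lpr_af (K33.f471612 IH) (Lpe (f440364 IH) (Lpn (LP (LK LD1_c23 LD2_c30 LD3_c15))))))
theorem f462896 : Led Lsl_ct (LP (LK LD1_c13 LD2_c57 LD3_c37)) = (LP (LK LD1_c23 LD2_c29 LD3_c30)) :=
  Lre_c IH (LK LD1_c13 LD2_c57 LD3_c37) (LK LD1_c23 LD2_c29 LD3_c30) Lrfl Lrfl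
theorem f116154 : Led Lsl_ct (LP (LK LD1_c23 LD2_c42 LD3_c3)) = (LP (LK LD1_c14 LD2_c7 LD3_c37)) :=
  Lre_c IH (LK LD1_c23 LD2_c42 LD3_c3) (LK LD1_c14 LD2_c7 LD3_c37) Lrfl Lrfl
theorem f470104 : Led Lsl_ft (LP (LK LD1_c23 LD2_c29 LD3_c30)) = (LP (LK LD1_c23 LD2_c42 LD3_c3)) :=
  Lgr Lrot4 (Lpe (f462896 IH) (Lpr_ff (K33.f470102 IH) (Lpe (f116154 IH) (Lpn (LP (LK LD1_c23 LD2_c42 LD3_c3))))))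
theorem f462918 : Led Lsl_gt (LP (LK LD1_c23 LD2_c29 LD3_c30)) = (LP (LK LD1_c31 LD2_c5 LD3_c9)) :=
  Lre_g IH (LK LD1_c23 LD2_c29 LD3_c30) (LK LD1_c31 LD2_c5 LD3_c9) Lrfl Lrfl
theorem f471649 : Led Lsl_gt (LP (LK LD1_c31 LD2_c5 LD3_c9)) = (LP (LK LD1_c23 LD2_c30 LD3_c15)) :=
  Lgr Lrot46 (Lpe (f462918 IH) (Lpr_ft (f470104 IH) (Lpr_at (f471616 IH) (Lpn (LP (LK LD1_c23 LD2_c30 LD3_c15))))))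
theorem f132128 : Led Lsl_dt (LP (LK LD1_c14 LD2_c5 LD3_c35)) = (LP (LK LD1_c23 LD2_c39 LD3_c4)) :=
  Lre_d IH (LK LD1_c14 LD2_c5 LD3_c35) (LK LD1_c23 LD2_c39 LD3_c4) Lrfl Lrfl
theorem f459321 : Led Lsl_dt (LP (LK LD1_c30 LD2_c40 LD3_c9)) = (LP (LK LD1_c22 LD2_c42 LD3_c56)) :=
  Lre_d IH (LK LD1_c30 LD2_c40 LD3_c9) (LK LD1_c22 LD2_c42 LD3_c56) Lrfl Lrfl
theorem f489445 : Led Lsl_bt (LP (LK LD1_c23 LD2_c39 LD3_c4)) = (LP (LK LD1_c30 LD2_c40 LD3_c9)) :=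
  Lgr Lrot95 (Lpe (f132128 IH) (Lpr_bf (f489441 IH) (Lpe (f459321 IH) (Lpn (LP (LK LD1_c30 LD2_c40 LD3_c9))))))
theorem f489447 : Led Lsl_bf (LP (LK LD1_c23 LD2_c39 LD3_c4)) = (LP (LK LD1_c30 LD2_c40 LD3_c9)) :=
  Lgr Lrot24 (Lpr_bt (f489445 IH) (Lpn (LP (LK LD1_c30 LD2_c40 LD3_c9))))
theorem f533306 : Led Lsl_cf (LP (LK LD1_c31 LD2_c5 LD3_c9)) = (LP (LK LD1_c30 LD2_c40 LD3_c9)) :=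
  Lgr Lrot160 (Lpr_gt (f471649 IH) (Lpe (f147430 IH) (Lpr_bt (K33.f147429 IH) (Lpr_gt (K33.f147426 IH) (Lpr_ct (f147084 IH) (Lpr_gt (f147118 IH) (Lpe (f489623 IH) (Lpr_bt (f469331 IH) (Lpr_gt (f533302 IH) (Lpr_bf (f489447 IH) (Lpn (LP (LK LD1_c30 LD2_c40 LD3_c9)))))))))))))
theorem f533258 : Led Lsl_bf (LP (LK LD1_c23 LD2_c40 LD3_c19)) = (LP (LK LD1_c23 LD2_c28 LD3_c13)) :=
  Lgr Lrot61 (Lpr_ft (f533195 IH) (Lpe (f108970 IH) (Lpr_ft (f533073 IH) (Lpn (LP (LK LD1_c23 LD2_c28 LD3_c13))))))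
theorem f533086 : Led Lsl_at (LP (LK LD1_c23 LD2_c39 LD3_c4)) = (LP (LK LD1_c23 LD2_c28 LD3_c13)) :=
  Lgr Lrot51 (Lpe (f132128 IH) (Lpr_af (f533082 IH) (Lpe (f466297 IH) (Lpn (LP (LK LD1_c23 LD2_c28 LD3_c13))))))
theorem f533290 : Led Lsl_af (LP (LK LD1_c30 LD2_c40 LD3_c9)) = (LP (LK LD1_c30 LD2_c41 LD3_c22)) :=
  Lgr Lrot36 (Lpe (f489447 IH) (Lpr_at (f533086 IH) (Lpe (f533258 IH) (Lpr_at (f533288 IH) (Lpr_bt (f473479 IH) (Lpn (LP (LK LD1_c30 LD2_c41 LD3_c22))))))))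
theorem f103801 : Led Lsl_dt (LP (LK LD1_c14 LD2_c12 LD3_c49)) = (LP (LK LD1_c23 LD2_c47 LD3_c61)) :=
  Lre_d IH (LK LD1_c14 LD2_c12 LD3_c49) (LK LD1_c23 LD2_c47 LD3_c61) Lrfl Lrfl
theorem f492841 : Led Lsl_gf (LP (LK LD1_c23 LD2_c40 LD3_c30)) = (LP (LK LD1_c23 LD2_c26 LD3_c51)) :=
  Lgr Lrot143 (Lpe (f462857 IH) (Lpe (f98800 IH) (Lpr_df (f492826 IH) (Lpe (f103811 IH) (Lpe (f103801 IH) (Lpe (K28.f103803 IH) (Lpr_cf (K28.f468292 IH) (Lpr_gt (f142428 IH) (Lpr_dt (f142429 IH) (Lpn (LP (LK LD1_c23 LD2_c26 LD3_c51))))))))))))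
theorem f492843 : Led Lsl_gt (LP (LK LD1_c13 LD2_c56 LD3_c4)) = (LP (LK LD1_c23 LD2_c26 LD3_c51)) :=
  Lgr Lrot5 (Lpr_ft (f492756 IH) (Lpr_at (f462856 IH) (Lpr_gf (f492841 IH) (Lpn (LP (LK LD1_c23 LD2_c26 LD3_c51))))))
theorem f471610 : Led Lsl_af (LP (LK LD1_c7 LD2_c28 LD3_c48)) = (LP (LK LD1_c7 LD2_c23 LD3_c16)) :=
  Lgr Lrot0 (Lpr_at (K33.f471606 IH) (Lpn (LP (LK LD1_c7 LD2_c23 LD3_c16))))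
theorem f146948 : Led Lsl_af (LP (LK LD1_c7 LD2_c23 LD3_c18)) = (LP (LK LD1_c7 LD2_c28 LD3_c50)) :=
  Lgr Lrot0 (Lpr_at (K8.f146944 IH) (Lpn (LP (LK LD1_c7 LD2_c28 LD3_c50))))
theorem f130739 : Led Lsl_ft (LP (LK LD1_c3 LD2_c43 LD3_c60)) = (LP (LK LD1_c7 LD2_c28 LD3_c50)) :=
  Lre_f IH (LK LD1_c3 LD2_c43 LD3_c60) (LK LD1_c7 LD2_c28 LD3_c50) Lrfl Lrfl
theorem f147416 : Led Lsl_gt (LP (LK LD1_c3 LD2_c43 LD3_c60)) = (LP (LK LD1_c7 LD2_c28 LD3_c47)) :=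
  Lre_g IH (LK LD1_c3 LD2_c43 LD3_c60) (LK LD1_c7 LD2_c28 LD3_c47) Lrfl Lrfl
theorem f147417 : Led Lsl_gf (LP (LK LD1_c7 LD2_c23 LD3_c18)) = (LP (LK LD1_c7 LD2_c28 LD3_c47)) :=
  Lgr Lrot76 (Lpr_af (f146948 IH) (Lpe (f130739 IH) (Lpr_gt (f147416 IH) (Lpn (LP (LK LD1_c7 LD2_c28 LD3_c47))))))
theorem f471652 : Led Lsl_ft (LP (LK LD1_c7 LD2_c28 LD3_c47)) = (LP (LK LD1_c7 LD2_c23 LD3_c16)) :=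
  Lgr Lrot2 (Lpe (f147417 IH) (Lpr_gt (K33.f147151 IH) (Lpr_af (f471610 IH) (Lpn (LP (LK LD1_c7 LD2_c23 LD3_c16))))))
theorem f471659 : Led Lsl_ff (LP (LK LD1_c7 LD2_c28 LD3_c47)) = (LP (LK LD1_c7 LD2_c23 LD3_c16)) :=
  Lgr Lrot3 (Lpr_ft (f471652 IH) (Lpn (LP (LK LD1_c7 LD2_c23 LD3_c16))))
theorem f471661 : Led Lsl_bt (LP (LK LD1_c7 LD2_c28 LD3_c47)) = (LP (LK LD1_c14 LD2_c7 LD3_c12)) :=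
  Lre_b IH (LK LD1_c7 LD2_c28 LD3_c47) (LK LD1_c14 LD2_c7 LD3_c12) Lrfl Lrfl
theorem f471662 : Led Lsl_ft (LP (LK LD1_c14 LD2_c7 LD3_c12)) = (LP (LK LD1_c13 LD2_c58 LD3_c8)) :=
  Lgr Lrot75 (Lpe (f471661 IH) (Lpr_ff (f471659 IH) (Lpe (K33.f147429 IH) (Lpn (LP (LK LD1_c13 LD2_c58 LD3_c8))))))
theorem f147420 : Led Lsl_ct (LP (LK LD1_c23 LD2_c41 LD3_c35)) = (LP (LK LD1_c14 LD2_c7 LD3_c12)) :=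
  Lre_c IH (LK LD1_c23 LD2_c41 LD3_c35) (LK LD1_c14 LD2_c7 LD3_c12) Lrfl Lrfl
theorem f471670 : Led Lsl_ff (LP (LK LD1_c23 LD2_c41 LD3_c35)) = (LP (LK LD1_c23 LD2_c30 LD3_c15)) :=
  Lgr Lrot23 (Lpr_ct (f147420 IH) (Lpr_ft (f471662 IH) (Lpr_ct (f147430 IH) (Lpn (LP (LK LD1_c23 LD2_c30 LD3_c15))))))
theorem f471679 : Led Lsl_ft (LP (LK LD1_c23 LD2_c41 LD3_c35)) = (LP (LK LD1_c23 LD2_c30 LD3_c15)) :=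
  Lgr Lrot48 (Lpr_ff (f471670 IH) (Lpn (LP (LK LD1_c23 LD2_c30 LD3_c15))))
theorem f471688 : Led Lsl_gt (LP (LK LD1_c23 LD2_c41 LD3_c35)) = (LP (LK LD1_c31 LD2_c11 LD3_c5)) :=
  Lre_g IH (LK LD1_c23 LD2_c41 LD3_c35) (LK LD1_c31 LD2_c11 LD3_c5) Lrfl Lrfl
theorem f471647 : Led Lsl_af (LP (LK LD1_c23 LD2_c42 LD3_c3)) = (LP (LK LD1_c23 LD2_c30 LD3_c15)) :=
  Lgr Lrot0 (Lpr_at (f471616 IH) (Lpn (LP (LK LD1_c23 LD2_c30 LD3_c15))))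
theorem f471689 : Led Lsl_gt (LP (LK LD1_c31 LD2_c11 LD3_c5)) = (LP (LK LD1_c23 LD2_c42 LD3_c3)) :=
  Lgr Lrot46 (Lpe (f471688 IH) (Lpr_ft (f471679 IH) (Lpe (f471647 IH) (Lpn (LP (LK LD1_c23 LD2_c42 LD3_c3))))))
theorem f492847 : Led Lsl_cf (LP (LK LD1_c31 LD2_c11 LD3_c5)) = (LP (LK LD1_c30 LD2_c41 LD3_c22)) :=
  Lgr Lrot160 (Lpr_gt (f471689 IH) (Lpe (f469979 IH) (Lpr_bt (K33.f116153 IH) (Lpr_gt (K33.f116143 IH) (Lpr_ct (K28.f116141 IH) (Lpe (K33.f469975 IH) (Lpe (K33.f469620 IH) (Lpr_bt (f469629 IH) (Lpr_gt (f492843 IH) (Lpr_bf (f473481 IH) (Lpn (LP (LK LD1_c30 LD2_c41 LD3_c22)))))))))))))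
theorem f492849 : Led Lsl_ct (LP (LK LD1_c31 LD2_c11 LD3_c5)) = (LP (LK LD1_c30 LD2_c41 LD3_c22)) :=
  Lgr Lrot59 (Lpr_cf (f492847 IH) (Lpn (LP (LK LD1_c30 LD2_c41 LD3_c22))))
theorem f533308 : Led Lsl_at (LP (LK LD1_c31 LD2_c5 LD3_c9)) = (LP (LK LD1_c31 LD2_c11 LD3_c5)) :=
  Lgr Lrot107 (Lpr_cf (f533306 IH) (Lpr_af (f533290 IH) (Lpe (f492849 IH) (Lpn (LP (LK LD1_c31 LD2_c11 LD3_c5))))))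
theorem f533334 : Led Lsl_af (LP (LK LD1_c31 LD2_c5 LD3_c9)) = (LP (LK LD1_c31 LD2_c11 LD3_c5)) :=
  Lgr Lrot0 (Lpr_at (f533308 IH) (Lpn (LP (LK LD1_c31 LD2_c11 LD3_c5))))
theorem f462919 : Led Lsl_gt (LP (LK LD1_c31 LD2_c5 LD3_c10)) = (LP (LK LD1_c23 LD2_c29 LD3_c30)) :=
  Lre_g IH (LK LD1_c31 LD2_c5 LD3_c10) (LK LD1_c23 LD2_c29 LD3_c30) Lrfl Lrfl
theorem f533338 : Led Lsl_ft (LP (LK LD1_c31 LD2_c5 LD3_c10)) = (LP (LK LD1_c31 LD2_c11 LD3_c5)) :=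
  Lgr Lrot2 (Lpr_gt (f462919 IH) (Lpr_gt (f462918 IH) (Lpr_af (f533334 IH) (Lpn (LP (LK LD1_c31 LD2_c11 LD3_c5))))))
theorem f533342 : Led Lsl_ff (LP (LK LD1_c31 LD2_c5 LD3_c10)) = (LP (LK LD1_c31 LD2_c11 LD3_c5)) :=
  Lgr Lrot3 (Lpr_ft (f533338 IH) (Lpn (LP (LK LD1_c31 LD2_c11 LD3_c5))))
theorem f533344 : Led Lsl_ct (LP (LK LD1_c31 LD2_c5 LD3_c10)) = (LP (LK LD1_c23 LD2_c37 LD3_c5)) :=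
  Lgr Lrot40 (Lpr_ff (f533342 IH) (Lpr_cf (f492847 IH) (Lpe (f532989 IH) (Lpn (LP (LK LD1_c23 LD2_c37 LD3_c5))))))
theorem f471673 : Led Lsl_at (LP (LK LD1_c23 LD2_c41 LD3_c35)) = (LP (LK LD1_c23 LD2_c29 LD3_c30)) :=
  Lgr Lrot66 (Lpr_ff (f471670 IH) (Lpe (f471616 IH) (Lpe (f470104 IH) (Lpn (LP (LK LD1_c23 LD2_c29 LD3_c30))))))
theorem f471681 : Led Lsl_gf (LP (LK LD1_c31 LD2_c5 LD3_c10)) = (LP (LK LD1_c23 LD2_c30 LD3_c15)) :=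
  Lgr Lrot47 (Lpr_gt (f462919 IH) (Lpe (f471673 IH) (Lpr_ff (f471670 IH) (Lpn (LP (LK LD1_c23 LD2_c30 LD3_c15))))))
theorem f469870 : Led Lsl_dt (LP (LK LD1_c22 LD2_c42 LD3_c57)) = (LP (LK LD1_c13 LD2_c24 LD3_c39)) :=
  Lre_d IH (LK LD1_c22 LD2_c42 LD3_c57) (LK LD1_c13 LD2_c24 LD3_c39) Lrfl Lrfl
theorem f533348 : Led Lsl_gf (LP (LK LD1_c13 LD2_c58 LD3_c8)) = (LP (LK LD1_c22 LD2_c42 LD3_c57)) :=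
  Lgr Lrot147 (Lpr_ct (f147430 IH) (Lpe (f471681 IH) (Lpr_ct (f533344 IH) (Lpe (f147815 IH) (Lpe (K24.f436333 IH) (Lpe (f533131 IH) (Lpr_cf (f465725 IH) (Lpr_gf (f489439 IH) (Lpe (f469870 IH) (Lpn (LP (LK LD1_c22 LD2_c42 LD3_c57))))))))))))
theorem f533313 : Led Lsl_ct (LP (LK LD1_c31 LD2_c5 LD3_c9)) = (LP (LK LD1_c30 LD2_c40 LD3_c9)) :=
  Lgr Lrot59 (Lpr_cf (f533306 IH) (Lpn (LP (LK LD1_c30 LD2_c40 LD3_c9))))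
theorem f459322 : Led Lsl_dt (LP (LK LD1_c22 LD2_c42 LD3_c56)) = (LP (LK LD1_c30 LD2_c40 LD3_c9)) :=
  Lre_d IH (LK LD1_c22 LD2_c42 LD3_c56) (LK LD1_c30 LD2_c40 LD3_c9) Lrfl Lrfl
theorem f459162 : Led Lsl_bt (LP (LK LD1_c3 LD2_c31 LD3_c23)) = (LP (LK LD1_c7 LD2_c4 LD3_c27)) :=
  Lre_b IH (LK LD1_c3 LD2_c31 LD3_c23) (LK LD1_c7 LD2_c4 LD3_c27) Lrfl Lrfl
theorem f459287 : Led Lsl_ct (LP (LK LD1_c7 LD2_c4 LD3_c27)) = (LP (LK LD1_c7 LD2_c4 LD3_c27)) :=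
  Lgr Lrot83 (Lpe (f459162 IH) (Lpe (K28.f458991 IH) (Lpr_bf (K28.f459285 IH) (Lpe (K24.f455641 IH) (Lpe (f459003 IH) (Lpn (LP (LK LD1_c7 LD2_c4 LD3_c27))))))))
theorem f463550 : Led Lsl_bt (LP (LK LD1_c7 LD2_c28 LD3_c3)) = (LP (LK LD1_c3 LD2_c43 LD3_c43)) :=
  Lre_b IH (LK LD1_c7 LD2_c28 LD3_c3) (LK LD1_c3 LD2_c43 LD3_c43) Lrfl Lrfl
theorem f465744 : Led Lsl_ft (LP (LK LD1_c7 LD2_c22 LD3_c37)) = (LP (LK LD1_c7 LD2_c28 LD3_c3)) :=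
  Lgr Lrot75 (Lpe (f439217 IH) (Lpr_ff (K28.f465741 IH) (Lpe (f463550 IH) (Lpn (LP (LK LD1_c7 LD2_c28 LD3_c3))))))
theorem f458978 : Led Lsl_at (LP (LK LD1_c3 LD2_c31 LD3_c23)) = (LP (LK LD1_c1 LD2_c42 LD3_c17)) :=
  Lre_a IH (LK LD1_c3 LD2_c31 LD3_c23) (LK LD1_c1 LD2_c42 LD3_c17) Lrfl Lrfl
theorem f465760 : Led Lsl_at (LP (LK LD1_c7 LD2_c28 LD3_c3)) = (LP (LK LD1_c7 LD2_c4 LD3_c27)) :=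
  Lgr Lrot67 (Lpe (f439185 IH) (Lpr_af (K28.f465758 IH) (Lpe (K28.f455629 IH) (Lpe (f458978 IH) (Lpe (f459003 IH) (Lpn (LP (LK LD1_c7 LD2_c4 LD3_c27))))))))
theorem f533133 : Led Lsl_gf (LP (LK LD1_c7 LD2_c4 LD3_c27)) = (LP (LK LD1_c7 LD2_c26 LD3_c32)) :=
  Lgr Lrot76 (Lpe (f465760 IH) (Lpe (f465744 IH) (Lpr_gt (f533131 IH) (Lpn (LP (LK LD1_c7 LD2_c26 LD3_c32))))))
theorem f436374 : Led Lsl_dt (LP (LK LD1_c14 LD2_c3 LD3_c57)) = (LP (LK LD1_c7 LD2_c26 LD3_c32)) :=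
  Lre_d IH (LK LD1_c14 LD2_c3 LD3_c57) (LK LD1_c7 LD2_c26 LD3_c32) Lrfl Lrfl
theorem f533317 : Led Lsl_gf (LP (LK LD1_c13 LD2_c57 LD3_c37)) = (LP (LK LD1_c14 LD2_c3 LD3_c57)) :=
  Lgr Lrot147 (Lpr_ct (f462896 IH) (Lpr_gt (f462918 IH) (Lpr_ct (f533313 IH) (Lpe (f459322 IH) (Lpe (f459277 IH) (Lpe (f459164 IH) (Lpe (f459287 IH) (Lpr_gf (f533133 IH) (Lpe (f436374 IH) (Lpn (LP (LK LD1_c14 LD2_c3 LD3_c57))))))))))))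
theorem f462915 : Led Lsl_ct (LP (LK LD1_c23 LD2_c29 LD3_c30)) = (LP (LK LD1_c13 LD2_c57 LD3_c37)) :=
  Lre_c IH (LK LD1_c23 LD2_c29 LD3_c30) (LK LD1_c13 LD2_c57 LD3_c37) Lrfl Lrfl
theorem f470108 : Led Lsl_ff (LP (LK LD1_c23 LD2_c29 LD3_c30)) = (LP (LK LD1_c23 LD2_c42 LD3_c3)) :=
  Lgr Lrot23 (Lpr_ct (f462915 IH) (Lpr_ft (K33.f470106 IH) (Lpr_ct (f469979 IH) (Lpn (LP (LK LD1_c23 LD2_c42 LD3_c3))))))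
theorem f471683 : Led Lsl_af (LP (LK LD1_c23 LD2_c41 LD3_c35)) = (LP (LK LD1_c23 LD2_c29 LD3_c30)) :=
  Lgr Lrot45 (Lpr_ft (f471679 IH) (Lpe (f471647 IH) (Lpe (f470108 IH) (Lpn (LP (LK LD1_c23 LD2_c29 LD3_c30))))))
theorem f471691 : Led Lsl_at (LP (LK LD1_c14 LD2_c7 LD3_c12)) = (LP (LK LD1_c13 LD2_c57 LD3_c37)) :=
  Lgr Lrot107 (Lpe (f147420 IH) (Lpr_af (f471683 IH) (Lpe (f462896 IH) (Lpn (LP (LK LD1_c13 LD2_c57 LD3_c37))))))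
theorem f147419 : Led Lsl_bt (LP (LK LD1_c14 LD2_c7 LD3_c12)) = (LP (LK LD1_c7 LD2_c28 LD3_c47)) :=
  Lre_b IH (LK LD1_c14 LD2_c7 LD3_c12) (LK LD1_c7 LD2_c28 LD3_c47) Lrfl Lrfl
theorem f471654 : Led Lsl_ff (LP (LK LD1_c14 LD2_c7 LD3_c12)) = (LP (LK LD1_c13 LD2_c58 LD3_c8)) :=
  Lgr Lrot25 (Lpr_bt (f147419 IH) (Lpr_ft (f471652 IH) (Lpr_bt (K33.f471342 IH) (Lpn (LP (LK LD1_c13 LD2_c58 LD3_c8))))))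
theorem f533319 : Led Lsl_gt (LP (LK LD1_c13 LD2_c58 LD3_c8)) = (LP (LK LD1_c14 LD2_c3 LD3_c57)) :=
  Lgr Lrot5 (Lpe (f471654 IH) (Lpr_at (f471691 IH) (Lpr_gf (f533317 IH) (Lpn (LP (LK LD1_c14 LD2_c3 LD3_c57))))))
theorem f203585 : Led Lsl_dt (LP (LK LD1_c7 LD2_c26 LD3_c32)) = (LP (LK LD1_c14 LD2_c3 LD3_c57)) :=
  Lre_d IH (LK LD1_c7 LD2_c26 LD3_c32) (LK LD1_c14 LD2_c3 LD3_c57) Lrfl Lrfl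
theorem f436337 : Led Lsl_dt (LP (LK LD1_c13 LD2_c54 LD3_c29)) = (LP (LK LD1_c7 LD2_c21 LD3_c25)) :=
  Lre_d IH (LK LD1_c13 LD2_c54 LD3_c29) (LK LD1_c7 LD2_c21 LD3_c25) Lrfl Lrfl
theorem f436338 : Led Lsl_at (LP (LK LD1_c14 LD2_c3 LD3_c57)) = (LP (LK LD1_c13 LD2_c54 LD3_c29)) :=
  Lgr Lrot51 (Lpe (f203585 IH) (Lpr_af (K24.f436327 IH) (Lpe (f436337 IH) (Lpn (LP (LK LD1_c13 LD2_c54 LD3_c29))))))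
theorem f436340 : Led Lsl_af (LP (LK LD1_c14 LD2_c3 LD3_c57)) = (LP (LK LD1_c13 LD2_c54 LD3_c29)) :=
  Lgr Lrot0 (Lpr_at (f436338 IH) (Lpn (LP (LK LD1_c13 LD2_c54 LD3_c29))))
theorem f533352 : Led Lsl_ff (LP (LK LD1_c13 LD2_c54 LD3_c29)) = (LP (LK LD1_c22 LD2_c42 LD3_c57)) :=
  Lgr Lrot52 (Lpe (f436340 IH) (Lpe (f533319 IH) (Lpr_gf (f533348 IH) (Lpn (LP (LK LD1_c22 LD2_c42 LD3_c57))))))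
theorem f436405 : Led Lsl_dt (LP (LK LD1_c22 LD2_c35 LD3_c31)) = (LP (LK LD1_c13 LD2_c19 LD3_c6)) :=
  Lre_d IH (LK LD1_c22 LD2_c35 LD3_c31) (LK LD1_c13 LD2_c19 LD3_c6) Lrfl Lrfl
theorem f148320 : Led Lsl_dt (LP (LK LD1_c7 LD2_c21 LD3_c25)) = (LP (LK LD1_c13 LD2_c54 LD3_c29)) :=
  Lre_d IH (LK LD1_c7 LD2_c21 LD3_c25) (LK LD1_c13 LD2_c54 LD3_c29) Lrfl Lrfl
theorem f436406 : Led Lsl_bf (LP (LK LD1_c22 LD2_c35 LD3_c31)) = (LP (LK LD1_c13 LD2_c54 LD3_c29)) :=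
  Lgr Lrot93 (Lpr_dt (f436405 IH) (Lpr_bt (f436331 IH) (Lpr_dt (f148320 IH) (Lpn (LP (LK LD1_c13 LD2_c54 LD3_c29))))))
theorem f439421 : Led Lsl_bt (LP (LK LD1_c7 LD2_c22 LD3_c4)) = (LP (LK LD1_c3 LD2_c40 LD3_c55)) :=
  Lre_b IH (LK LD1_c7 LD2_c22 LD3_c4) (LK LD1_c3 LD2_c40 LD3_c55) Lrfl Lrfl
theorem f463830 : Led Lsl_bt (LP (LK LD1_c3 LD2_c29 LD3_c7)) = (LP (LK LD1_c7 LD2_c0 LD3_c0)) :=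
  Lre_b IH (LK LD1_c3 LD2_c29 LD3_c7) (LK LD1_c7 LD2_c0 LD3_c0) Lrfl Lrfl
theorem f469642 : Led Lsl_cf (LP (LK LD1_c7 LD2_c22 LD3_c4)) = (LP (LK LD1_c7 LD2_c0 LD3_c0)) :=
  Lgr Lrot97 (Lpr_bt (f439421 IH) (Lpr_ct (K28.f469637 IH) (Lpr_bt (K28.f461894 IH) (Lpr_ct (K28.f463744 IH) (Lpr_bt (f463830 IH) (Lpn (LP (LK LD1_c7 LD2_c0 LD3_c0))))))))
theorem f469839 : Led Lsl_ct (LP (LK LD1_c7 LD2_c22 LD3_c4)) = (LP (LK LD1_c7 LD2_c0 LD3_c0)) :=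
  Lgr Lrot59 (Lpr_cf (f469642 IH) (Lpn (LP (LK LD1_c7 LD2_c0 LD3_c0))))
theorem f463954 : Led Lsl_gt (LP (LK LD1_c13 LD2_c16 LD3_c59)) = (LP (LK LD1_c7 LD2_c0 LD3_c0)) :=
  Lre_g IH (LK LD1_c13 LD2_c16 LD3_c59) (LK LD1_c7 LD2_c0 LD3_c0) Lrfl Lrfl
theorem f469843 : Led Lsl_ct (LP (LK LD1_c22 LD2_c32 LD3_c35)) = (LP (LK LD1_c13 LD2_c16 LD3_c59)) :=
  Lre_c IH (LK LD1_c22 LD2_c32 LD3_c35) (LK LD1_c13 LD2_c16 LD3_c59) Lrfl Lrfl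
theorem f469850 : Led Lsl_bf (LP (LK LD1_c13 LD2_c24 LD3_c39)) = (LP (LK LD1_c22 LD2_c32 LD3_c35)) :=
  Lgr Lrot34 (Lpe (f459164 IH) (Lpe (f459162 IH) (Lpr_ct (K24.f455641 IH) (Lpqs (f463632 IH) (Lpe (f457144 IH) (Lpe (K4.f122347 IH) (Lpe (K28.f122361 IH) (Lpe (f439421 IH) (Lpr_ct (f469839 IH) (Lpe (f463954 IH) (Lpe (f469843 IH) (Lpn (LP (LK LD1_c22 LD2_c32 LD3_c35))))))))))))))
theorem f459209 : Led Lsl_dt (LP (LK LD1_c13 LD2_c24 LD3_c39)) = (LP (LK LD1_c22 LD2_c42 LD3_c57)) :=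
  Lre_d IH (LK LD1_c13 LD2_c24 LD3_c39) (LK LD1_c22 LD2_c42 LD3_c57) Lrfl Lrfl
theorem f469855 : Led Lsl_dt (LP (LK LD1_c30 LD2_c34 LD3_c2)) = (LP (LK LD1_c22 LD2_c32 LD3_c35)) :=
  Lre_d IH (LK LD1_c30 LD2_c34 LD3_c2) (LK LD1_c22 LD2_c32 LD3_c35) Lrfl Lrfl
theorem f469856 : Led Lsl_bt (LP (LK LD1_c22 LD2_c42 LD3_c57)) = (LP (LK LD1_c30 LD2_c34 LD3_c2)) :=
  Lgr Lrot95 (Lpe (f459209 IH) (Lpr_bf (f469850 IH) (Lpe (f469855 IH) (Lpn (LP (LK LD1_c30 LD2_c34 LD3_c2))))))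
theorem f469858 : Led Lsl_bf (LP (LK LD1_c22 LD2_c42 LD3_c57)) = (LP (LK LD1_c30 LD2_c34 LD3_c2)) :=
  Lgr Lrot24 (Lpr_bt (f469856 IH) (Lpn (LP (LK LD1_c30 LD2_c34 LD3_c2))))
theorem f533363 : Led Lsl_ft (LP (LK LD1_c22 LD2_c35 LD3_c31)) = (LP (LK LD1_c30 LD2_c34 LD3_c2)) :=
  Lgr Lrot75 (Lpr_bf (f436406 IH) (Lpr_ff (f533352 IH) (Lpr_bf (f469858 IH) (Lpn (LP (LK LD1_c30 LD2_c34 LD3_c2))))))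
theorem f111106 : Led Lsl_dt (LP (LK LD1_c13 LD2_c19 LD3_c6)) = (LP (LK LD1_c22 LD2_c35 LD3_c31)) :=
  Lre_d IH (LK LD1_c13 LD2_c19 LD3_c6) (LK LD1_c22 LD2_c35 LD3_c31) Lrfl Lrfl
theorem f533373 : Led Lsl_ff (LP (LK LD1_c13 LD2_c19 LD3_c6)) = (LP (LK LD1_c22 LD2_c32 LD3_c35)) :=
  Lgr Lrot19 (Lpr_dt (f111106 IH) (Lpr_ft (f533363 IH) (Lpr_dt (f469855 IH) (Lpn (LP (LK LD1_c22 LD2_c32 LD3_c35))))))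
theorem f469854 : Led Lsl_ct (LP (LK LD1_c13 LD2_c16 LD3_c59)) = (LP (LK LD1_c22 LD2_c32 LD3_c35)) :=
  Lre_c IH (LK LD1_c13 LD2_c16 LD3_c59) (LK LD1_c22 LD2_c32 LD3_c35) Lrfl Lrfl
theorem f533377 : Led Lsl_ft (LP (LK LD1_c7 LD2_c1 LD3_c17)) = (LP (LK LD1_c13 LD2_c16 LD3_c59)) :=
  Lgr Lrot4 (Lpe (K4.f103642 IH) (Lpr_ff (f533373 IH) (Lpe (f469854 IH) (Lpn (LP (LK LD1_c13 LD2_c16 LD3_c59))))))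
theorem f469695 : Led Lsl_gt (LP (LK LD1_c3 LD2_c30 LD3_c19)) = (LP (LK LD1_c7 LD2_c2 LD3_c25)) :=
  Lre_g IH (LK LD1_c3 LD2_c30 LD3_c19) (LK LD1_c7 LD2_c2 LD3_c25) Lrfl Lrfl
theorem f533387 : Led Lsl_af (LP (LK LD1_c7 LD2_c2 LD3_c25)) = (LP (LK LD1_c13 LD2_c16 LD3_c59)) :=
  Lgr Lrot31 (Lpe (f469695 IH) (Lpe (f533015 IH) (Lpr_ft (f533377 IH) (Lpn (LP (LK LD1_c13 LD2_c16 LD3_c59))))))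
theorem f111098 : Led Lsl_at (LP (LK LD1_c12 LD2_c34 LD3_c50)) = (LP (LK LD1_c7 LD2_c1 LD3_c17)) :=
  Lgr Lrot100 (Lpr_af (K4.f111090 IH) (Lpn (LP (LK LD1_c7 LD2_c1 LD3_c17))))
theorem f533393 : Led Lsl_ft (LP (LK LD1_c7 LD2_c2 LD3_c25)) = (LP (LK LD1_c12 LD2_c34 LD3_c50)) :=
  Lgr Lrot101 (Lpr_af (f533387 IH) (Lpe (f533377 IH) (Lpe (f111098 IH) (Lpn (LP (LK LD1_c12 LD2_c34 LD3_c50))))))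
theorem f533401 : Led Lsl_ff (LP (LK LD1_c7 LD2_c2 LD3_c25)) = (LP (LK LD1_c12 LD2_c34 LD3_c50)) :=
  Lgr Lrot3 (Lpr_ft (f533393 IH) (Lpn (LP (LK LD1_c12 LD2_c34 LD3_c50))))
theorem f111152 : Led Lsl_ft (LP (LK LD1_c13 LD2_c19 LD3_c3)) = (LP (LK LD1_c7 LD2_c1 LD3_c14)) :=
  Lre_f IH (LK LD1_c13 LD2_c19 LD3_c3) (LK LD1_c7 LD2_c1 LD3_c14) Lrfl Lrfl
theorem f533407 : Led Lsl_et (LP (LK LD1_c7 LD2_c2 LD3_c25)) = (LP (LK LD1_c13 LD2_c19 LD3_c3)) :=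
  Lgr Lrot69 (Lpr_ff (f533401 IH) (Lpe (K4.f111085 IH) (Lpr_ff (K4.f111145 IH) (Lpe (K4.f111151 IH) (Lpe (f111152 IH) (Lpn (LP (LK LD1_c13 LD2_c19 LD3_c3))))))))
theorem f489363 : Led Lsl_dt (LP (LK LD1_c7 LD2_c2 LD3_c25)) = (LP (LK LD1_c13 LD2_c21 LD3_c6)) :=
  Lre_d IH (LK LD1_c7 LD2_c2 LD3_c25) (LK LD1_c13 LD2_c21 LD3_c6) Lrfl Lrfl
theorem f462813 : Led Lsl_at (LP (LK LD1_c14 LD2_c2 LD3_c25)) = (LP (LK LD1_c7 LD2_c25 LD3_c27)) :=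
  Lre_a IH (LK LD1_c14 LD2_c2 LD3_c25) (LK LD1_c7 LD2_c25 LD3_c27) Lrfl Lrfl
theorem f462814 : Led Lsl_ct (LP (LK LD1_c13 LD2_c7 LD3_c42)) = (LP (LK LD1_c14 LD2_c2 LD3_c25)) :=
  Lgr Lrot111 (Lpe (K33.f98792 IH) (Lpr_cf (K28.f462809 IH) (Lpe (f462813 IH) (Lpn (LP (LK LD1_c14 LD2_c2 LD3_c25))))))
theorem f492553 : Led Lsl_ft (LP (LK LD1_c22 LD2_c19 LD3_c48)) = (LP (LK LD1_c13 LD2_c13 LD3_c27)) :=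
  Lgr Lrot48 (Lpr_ff (f492550 IH) (Lpn (LP (LK LD1_c13 LD2_c13 LD3_c27))))
theorem f492548 : Led Lsl_bf (LP (LK LD1_c22 LD2_c19 LD3_c48)) = (LP (LK LD1_c13 LD2_c12 LD3_c58)) :=
  Lgr Lrot24 (Lpr_bt (f492546 IH) (Lpn (LP (LK LD1_c13 LD2_c12 LD3_c58))))
theorem f457946 : Led Lsl_et (LP (LK LD1_c13 LD2_c12 LD3_c35)) = (LP (LK LD1_c6 LD2_c57 LD3_c23)) :=
  Lre_e IH (LK LD1_c13 LD2_c12 LD3_c35) (LK LD1_c6 LD2_c57 LD3_c23) Lrfl Lrfl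
theorem f443477 : Led Lsl_et (LP (LK LD1_c7 LD2_c36 LD3_c48)) = (LP (LK LD1_c14 LD2_c21 LD3_c15)) :=
  Lre_e IH (LK LD1_c7 LD2_c36 LD3_c48) (LK LD1_c14 LD2_c21 LD3_c15) Lrfl Lrfl
theorem f457947 : Led Lsl_cf (LP (LK LD1_c13 LD2_c12 LD3_c35)) = (LP (LK LD1_c14 LD2_c21 LD3_c15)) :=
  Lgr Lrot39 (Lpr_et (f457946 IH) (Lpr_ct (f457940 IH) (Lpr_et (f443477 IH) (Lpn (LP (LK LD1_c14 LD2_c21 LD3_c15))))))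
theorem f463988 : Led Lsl_ct (LP (LK LD1_c13 LD2_c12 LD3_c58)) = (LP (LK LD1_c22 LD2_c26 LD3_c9)) :=
  Lre_c IH (LK LD1_c13 LD2_c12 LD3_c58) (LK LD1_c22 LD2_c26 LD3_c9) Lrfl Lrfl
theorem f492500 : Led Lsl_ft (LP (LK LD1_c13 LD2_c12 LD3_c35)) = (LP (LK LD1_c13 LD2_c12 LD3_c58)) :=
  Lgr Lrot4 (Lpr_cf (f457947 IH) (Lpr_ff (f492490 IH) (Lpe (f463988 IH) (Lpn (LP (LK LD1_c13 LD2_c12 LD3_c58))))))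
theorem f492555 : Led Lsl_bf (LP (LK LD1_c13 LD2_c12 LD3_c35)) = (LP (LK LD1_c13 LD2_c13 LD3_c27)) :=
  Lgr Lrot61 (Lpr_ft (f492500 IH) (Lpe (f492548 IH) (Lpr_ft (f492553 IH) (Lpn (LP (LK LD1_c13 LD2_c13 LD3_c27))))))
theorem f492564 : Led Lsl_bt (LP (LK LD1_c6 LD2_c57 LD3_c23)) = (LP (LK LD1_c13 LD2_c7 LD3_c42)) :=
  Lgr Lrot119 (Lpe (f457946 IH) (Lpr_bf (f492555 IH) (Lpr_ef (f98793 IH) (Lpn (LP (LK LD1_c13 LD2_c7 LD3_c42))))))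
theorem f481695 : Led Lsl_gt (LP (LK LD1_c6 LD2_c57 LD3_c18)) = (LP (LK LD1_c3 LD2_c38 LD3_c58)) :=
  Lgr Lrot137 (Lpe (K33.f458099 IH) (Lpr_dt (K29.f457782 IH) (Lpe (K28.f463693 IH) (Lpr_df (K5.f128069 IH) (Lpr_et (K28.f65523 IH) (Lpe (K3.f62834 IH) (Lpe (K4.f65500 IH) (Lpr_dt (K29.f65501 IH) (Lpr_gf (K29.f481678 IH) (Lpe (K29.f481686 IH) (Lpn (LP (LK LD1_c3 LD2_c38 LD3_c58)))))))))))))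
theorem f478471 : Led Lsl_gf (LP (LK LD1_c7 LD2_c1 LD3_c48)) = (LP (LK LD1_c7 LD2_c33 LD3_c41)) :=
  Lgr Lrot144 (Lpr_dt (K4.f115770 IH) (Lpr_gt (K29.f478298 IH) (Lpr_dt (K29.f456291 IH) (Lpe (K29.f456298 IH) (Lpr_df (K29.f474389 IH) (Lpe (K29.f440699 IH) (Lpe (K29.f85263 IH) (Lpe (K29.f440700 IH) (Lpe (K29.f474395 IH) (Lpn (LP (LK LD1_c7 LD2_c33 LD3_c41))))))))))))
theorem f491996 : Led Lsl_gf (LP (LK LD1_c3 LD2_c52 LD3_c10)) = (LP (LK LD1_c3 LD2_c46 LD3_c18)) :=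
  Lgr Lrot147 (Lpr_ct (K33.f491990 IH) (Lpr_gt (f481695 IH) (Lpe (K29.f482909 IH) (Lpr_df (K29.f64698 IH) (Lpe (K29.f64680 IH) (Lpr_gf (K29.f482940 IH) (Lpe (K4.f115964 IH) (Lpr_gf (f478471 IH) (Lpe (K29.f459579 IH) (Lpn (LP (LK LD1_c3 LD2_c46 LD3_c18))))))))))))
theorem f492000 : Led Lsl_dt (LP (LK LD1_c3 LD2_c52 LD3_c10)) = (LP (LK LD1_c7 LD2_c24 LD3_c44)) :=
  Lgr Lrot57 (Lpr_gf (f491996 IH) (Lpe (K29.f85275 IH) (Lpr_gt (K29.f129892 IH) (Lpr_dt (K29.f129664 IH) (Lpe (K29.f474412 IH) (Lpr_dt (K28.f451583 IH) (Lpe (K29.f436801 IH) (Lpe (K29.f436802 IH) (Lpe (K29.f436803 IH) (Lpn (LP (LK LD1_c7 LD2_c24 LD3_c44))))))))))))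
theorem f492009 : Led Lsl_ff (LP (LK LD1_c3 LD2_c52 LD3_c9)) = (LP (LK LD1_c7 LD2_c24 LD3_c44)) :=
  Lgr Lrot19 (Lpr_dt (K32.f478426 IH) (Lpr_ft (K33.f459845 IH) (Lpr_dt (f492000 IH) (Lpn (LP (LK LD1_c7 LD2_c24 LD3_c44))))))
theorem f492017 : Led Lsl_at (LP (LK LD1_c3 LD2_c52 LD3_c9)) = (LP (LK LD1_c7 LD2_c24 LD3_c43)) :=
  Lgr Lrot26 (Lpr_ff (f492009 IH) (Lpr_gt (K29.f436803 IH) (Lpr_gt (K33.f458753 IH) (Lpn (LP (LK LD1_c7 LD2_c24 LD3_c43))))))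
theorem f63810 : Led Lsl_et (LP (LK LD1_c0 LD2_c47 LD3_c23)) = (LP (LK LD1_c1 LD2_c41 LD3_c42)) :=
  Lre_e IH (LK LD1_c0 LD2_c47 LD3_c23) (LK LD1_c1 LD2_c41 LD3_c42) Lrfl Lrfl
theorem f19044 : Led Lsl_dt (LP (LK LD1_c0 LD2_c47 LD3_c23)) = (LP (LK LD1_c1 LD2_c41 LD3_c41)) :=
  Lre_d IH (LK LD1_c0 LD2_c47 LD3_c23) (LK LD1_c1 LD2_c41 LD3_c41) Lrfl Lrfl
theorem f63812 : Led Lsl_et (LP (LK LD1_c3 LD2_c47 LD3_c57)) = (LP (LK LD1_c1 LD2_c50 LD3_c58)) :=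
  Lre_e IH (LK LD1_c3 LD2_c47 LD3_c57) (LK LD1_c1 LD2_c50 LD3_c58) Lrfl Lrfl
theorem f481888 : Led Lsl_dt (LP (LK LD1_c3 LD2_c47 LD3_c57)) = (LP (LK LD1_c7 LD2_c24 LD3_c43)) :=
  Lgr Lrot56 (Lpr_et (f63812 IH) (Lpr_gt (K28.f14971 IH) (Lpe (K1.f63811 IH) (Lpr_dt (K1.f15272 IH) (Lpe (K3.f63799 IH) (Lpe (f19044 IH) (Lpr_et (f63810 IH) (Lpr_gt (K29.f481878 IH) (Lpr_dt (K29.f457179 IH) (Lpr_gt (K33.f458753 IH) (Lpn (LP (LK LD1_c7 LD2_c24 LD3_c43)))))))))))))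
theorem f481923 : Led Lsl_df (LP (LK LD1_c3 LD2_c47 LD3_c57)) = (LP (LK LD1_c7 LD2_c24 LD3_c43)) :=
  Lgr Lrot38 (Lpr_dt (f481888 IH) (Lpn (LP (LK LD1_c7 LD2_c24 LD3_c43))))
theorem f492023 : Led Lsl_af (LP (LK LD1_c1 LD2_c52 LD3_c46)) = (LP (LK LD1_c3 LD2_c47 LD3_c57)) :=
  Lgr Lrot117 (Lpr_dt (K32.f443239 IH) (Lpr_at (f492017 IH) (Lpe (f481923 IH) (Lpn (LP (LK LD1_c3 LD2_c47 LD3_c57))))))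
theorem f492027 : Led Lsl_bt (LP (LK LD1_c1 LD2_c52 LD3_c46)) = (LP (LK LD1_c3 LD2_c52 LD3_c7)) :=
  Lre_b IH (LK LD1_c1 LD2_c52 LD3_c46) (LK LD1_c3 LD2_c52 LD3_c7) Lrfl Lrfl
theorem f492028 : Led Lsl_at (LP (LK LD1_c3 LD2_c52 LD3_c7)) = (LP (LK LD1_c7 LD2_c46 LD3_c0)) :=
  Lre_a IH (LK LD1_c3 LD2_c52 LD3_c7) (LK LD1_c7 LD2_c46 LD3_c0) Lrfl Lrfl
theorem f481919 : Led Lsl_bt (LP (LK LD1_c7 LD2_c36 LD3_c56)) = (LP (LK LD1_c3 LD2_c47 LD3_c57)) :=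
  Lre_b IH (LK LD1_c7 LD2_c36 LD3_c56) (LK LD1_c3 LD2_c47 LD3_c57) Lrfl Lrfl
theorem f481930 : Led Lsl_at (LP (LK LD1_c14 LD2_c21 LD3_c24)) = (LP (LK LD1_c7 LD2_c36 LD3_c56)) :=
  Lre_a IH (LK LD1_c14 LD2_c21 LD3_c24) (LK LD1_c7 LD2_c36 LD3_c56) Lrfl Lrfl
theorem f492029 : Led Lsl_bt (LP (LK LD1_c7 LD2_c46 LD3_c0)) = (LP (LK LD1_c14 LD2_c21 LD3_c24)) :=
  Lgr Lrot62 (Lpe (f492028 IH) (Lpe (f492027 IH) (Lpr_af (f492023 IH) (Lpe (f481919 IH) (Lpe (f481930 IH) (Lpn (LP (LK LD1_c14 LD2_c21 LD3_c24))))))))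
theorem f492102 : Led Lsl_et (LP (LK LD1_c14 LD2_c21 LD3_c24)) = (LP (LK LD1_c7 LD2_c36 LD3_c54)) :=
  Lre_e IH (LK LD1_c14 LD2_c21 LD3_c24) (LK LD1_c7 LD2_c36 LD3_c54) Lrfl Lrfl
theorem f492263 : Led Lsl_bf (LP (LK LD1_c3 LD2_c52 LD3_c5)) = (LP (LK LD1_c7 LD2_c36 LD3_c54)) :=
  Lgr Lrot96 (Lpr_et (f492262 IH) (Lpr_bt (f492029 IH) (Lpr_et (f492102 IH) (Lpn (LP (LK LD1_c7 LD2_c36 LD3_c54))))))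
theorem f492266 : Led Lsl_bt (LP (LK LD1_c3 LD2_c52 LD3_c5)) = (LP (LK LD1_c7 LD2_c36 LD3_c54)) :=
  Lgr Lrot127 (Lpr_bf (f492263 IH) (Lpn (LP (LK LD1_c7 LD2_c36 LD3_c54))))
theorem f492031 : Led Lsl_ft (LP (LK LD1_c7 LD2_c24 LD3_c50)) = (LP (LK LD1_c3 LD2_c47 LD3_c57)) :=
  Lgr Lrot101 (Lpr_af (K33.f481951 IH) (Lpe (K33.f459845 IH) (Lpr_af (f492023 IH) (Lpn (LP (LK LD1_c3 LD2_c47 LD3_c57))))))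
theorem f474269 : Led Lsl_dt (LP (LK LD1_c7 LD2_c24 LD3_c51)) = (LP (LK LD1_c7 LD2_c24 LD3_c50)) :=
  Lgr Lrot42 (Lpr_df (K32.f474263 IH) (Lpn (LP (LK LD1_c7 LD2_c24 LD3_c50))))
theorem f492035 : Led Lsl_ff (LP (LK LD1_c7 LD2_c24 LD3_c51)) = (LP (LK LD1_c7 LD2_c24 LD3_c43)) :=
  Lgr Lrot19 (Lpr_dt (f474269 IH) (Lpr_ft (f492031 IH) (Lpr_dt (f481888 IH) (Lpn (LP (LK LD1_c7 LD2_c24 LD3_c43))))))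
theorem f492043 : Led Lsl_ft (LP (LK LD1_c7 LD2_c24 LD3_c51)) = (LP (LK LD1_c7 LD2_c24 LD3_c43)) :=
  Lgr Lrot48 (Lpr_ff (f492035 IH) (Lpn (LP (LK LD1_c7 LD2_c24 LD3_c43))))
theorem f456423 : Led Lsl_bt (LP (LK LD1_c14 LD2_c1 LD3_c25)) = (LP (LK LD1_c7 LD2_c24 LD3_c51)) :=
  Lre_b IH (LK LD1_c14 LD2_c1 LD3_c25) (LK LD1_c7 LD2_c24 LD3_c51) Lrfl Lrfl
theorem f481920 : Led Lsl_bt (LP (LK LD1_c7 LD2_c24 LD3_c43)) = (LP (LK LD1_c14 LD2_c1 LD3_c9)) :=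
  Lre_b IH (LK LD1_c7 LD2_c24 LD3_c43) (LK LD1_c14 LD2_c1 LD3_c9) Lrfl Lrfl
theorem f492045 : Led Lsl_ff (LP (LK LD1_c14 LD2_c1 LD3_c25)) = (LP (LK LD1_c14 LD2_c1 LD3_c9)) :=
  Lgr Lrot25 (Lpr_bt (f456423 IH) (Lpr_ft (f492043 IH) (Lpr_bt (f481920 IH) (Lpn (LP (LK LD1_c14 LD2_c1 LD3_c9))))))
theorem f474265 : Led Lsl_bt (LP (LK LD1_c7 LD2_c24 LD3_c51)) = (LP (LK LD1_c14 LD2_c1 LD3_c25)) :=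
  Lre_b IH (LK LD1_c7 LD2_c24 LD3_c51) (LK LD1_c14 LD2_c1 LD3_c25) Lrfl Lrfl
theorem f474266 : Led Lsl_bt (LP (LK LD1_c14 LD2_c1 LD3_c24)) = (LP (LK LD1_c7 LD2_c24 LD3_c50)) :=
  Lre_b IH (LK LD1_c14 LD2_c1 LD3_c24) (LK LD1_c7 LD2_c24 LD3_c50) Lrfl Lrfl
theorem f474267 : Led Lsl_dt (LP (LK LD1_c14 LD2_c1 LD3_c25)) = (LP (LK LD1_c14 LD2_c1 LD3_c24)) :=
  Lgr Lrot79 (Lpe (f474265 IH) (Lpr_df (K32.f474263 IH) (Lpe (f474266 IH) (Lpn (LP (LK LD1_c14 LD2_c1 LD3_c24))))))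
theorem f481927 : Led Lsl_bt (LP (LK LD1_c3 LD2_c47 LD3_c57)) = (LP (LK LD1_c7 LD2_c36 LD3_c56)) :=
  Lre_b IH (LK LD1_c3 LD2_c47 LD3_c57) (LK LD1_c7 LD2_c36 LD3_c56) Lrfl Lrfl
theorem f474713 : Led Lsl_bt (LP (LK LD1_c14 LD2_c1 LD3_c9)) = (LP (LK LD1_c7 LD2_c24 LD3_c43)) :=
  Lre_b IH (LK LD1_c14 LD2_c1 LD3_c9) (LK LD1_c7 LD2_c24 LD3_c43) Lrfl Lrfl
theorem f481928 : Led Lsl_dt (LP (LK LD1_c7 LD2_c36 LD3_c56)) = (LP (LK LD1_c14 LD2_c1 LD3_c9)) :=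
  Lgr Lrot79 (Lpe (f481927 IH) (Lpr_df (f481923 IH) (Lpe (f474713 IH) (Lpn (LP (LK LD1_c14 LD2_c1 LD3_c9))))))
theorem f492073 : Led Lsl_ft (LP (LK LD1_c14 LD2_c1 LD3_c24)) = (LP (LK LD1_c7 LD2_c36 LD3_c56)) :=
  Lgr Lrot54 (Lpe (f474267 IH) (Lpr_ff (f492045 IH) (Lpe (f481928 IH) (Lpn (LP (LK LD1_c7 LD2_c36 LD3_c56))))))
theorem f481935 : Led Lsl_et (LP (LK LD1_c7 LD2_c36 LD3_c56)) = (LP (LK LD1_c3 LD2_c47 LD3_c54)) :=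
  Lre_e IH (LK LD1_c7 LD2_c36 LD3_c56) (LK LD1_c3 LD2_c47 LD3_c54) Lrfl Lrfl
theorem f463739 : Led Lsl_bt (LP (LK LD1_c1 LD2_c50 LD3_c58)) = (LP (LK LD1_c3 LD2_c47 LD3_c54)) :=
  Lre_b IH (LK LD1_c1 LD2_c50 LD3_c58) (LK LD1_c3 LD2_c47 LD3_c54) Lrfl Lrfl
theorem f491787 : Led Lsl_ff (LP (LK LD1_c1 LD2_c52 LD3_c39)) = (LP (LK LD1_c3 LD2_c47 LD3_c54)) :=
  Lgr Lrot25 (Lpr_bt (f14885 IH) (Lpr_ft (K24.f459846 IH) (Lpqs (K32.f491782 IH) (Lpr_bt (f463739 IH) (Lpn (LP (LK LD1_c3 LD2_c47 LD3_c54)))))))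
theorem f492075 : Led Lsl_et (LP (LK LD1_c1 LD2_c52 LD3_c39)) = (LP (LK LD1_c3 LD2_c51 LD3_c55)) :=
  Lre_e IH (LK LD1_c1 LD2_c52 LD3_c39) (LK LD1_c3 LD2_c51 LD3_c55) Lrfl Lrfl
theorem f492076 : Led Lsl_ft (LP (LK LD1_c3 LD2_c51 LD3_c55)) = (LP (LK LD1_c7 LD2_c45 LD3_c43)) :=
  Lre_f IH (LK LD1_c3 LD2_c51 LD3_c55) (LK LD1_c7 LD2_c45 LD3_c43) Lrfl Lrfl
theorem f492077 : Led Lsl_ef (LP (LK LD1_c14 LD2_c1 LD3_c24)) = (LP (LK LD1_c7 LD2_c45 LD3_c43)) :=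
  Lgr Lrot21 (Lpr_ft (f492073 IH) (Lpr_et (f481935 IH) (Lpe (f491787 IH) (Lpr_et (f492075 IH) (Lpr_ft (f492076 IH) (Lpn (LP (LK LD1_c7 LD2_c45 LD3_c43))))))))
theorem f492082 : Led Lsl_et (LP (LK LD1_c14 LD2_c1 LD3_c24)) = (LP (LK LD1_c7 LD2_c45 LD3_c43)) :=
  Lgr Lrot87 (Lpr_ef (f492077 IH) (Lpn (LP (LK LD1_c7 LD2_c45 LD3_c43))))
theorem f492033 : Led Lsl_ff (LP (LK LD1_c14 LD2_c1 LD3_c24)) = (LP (LK LD1_c7 LD2_c36 LD3_c56)) :=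
  Lgr Lrot25 (Lpr_bt (f474266 IH) (Lpr_ft (f492031 IH) (Lpr_bt (f481927 IH) (Lpn (LP (LK LD1_c7 LD2_c36 LD3_c56))))))
theorem f481931 : Led Lsl_et (LP (LK LD1_c3 LD2_c47 LD3_c54)) = (LP (LK LD1_c7 LD2_c36 LD3_c56)) :=
  Lre_e IH (LK LD1_c3 LD2_c47 LD3_c54) (LK LD1_c7 LD2_c36 LD3_c56) Lrfl Lrfl
theorem f492088 : Led Lsl_ft (LP (LK LD1_c7 LD2_c45 LD3_c43)) = (LP (LK LD1_c3 LD2_c51 LD3_c55)) :=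
  Lre_f IH (LK LD1_c7 LD2_c45 LD3_c43) (LK LD1_c3 LD2_c51 LD3_c55) Lrfl Lrfl
theorem f492089 : Led Lsl_et (LP (LK LD1_c3 LD2_c51 LD3_c55)) = (LP (LK LD1_c1 LD2_c52 LD3_c39)) :=
  Lre_e IH (LK LD1_c3 LD2_c51 LD3_c55) (LK LD1_c1 LD2_c52 LD3_c39) Lrfl Lrfl
theorem f492090 : Led Lsl_ff (LP (LK LD1_c3 LD2_c47 LD3_c54)) = (LP (LK LD1_c1 LD2_c52 LD3_c39)) :=
  Lgr Lrot72 (Lpr_et (f481931 IH) (Lpe (f492033 IH) (Lpr_et (f492082 IH) (Lpr_ft (f492088 IH) (Lpr_et (f492089 IH) (Lpn (LP (LK LD1_c1 LD2_c52 LD3_c39))))))))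
theorem f492092 : Led Lsl_at (LP (LK LD1_c3 LD2_c47 LD3_c54)) = (LP (LK LD1_c7 LD2_c36 LD3_c54)) :=
  Lre_a IH (LK LD1_c3 LD2_c47 LD3_c54) (LK LD1_c7 LD2_c36 LD3_c54) Lrfl Lrfl
theorem f459835 : Led Lsl_at (LP (LK LD1_c3 LD2_c51 LD3_c52)) = (LP (LK LD1_c1 LD2_c52 LD3_c39)) :=
  Lre_a IH (LK LD1_c3 LD2_c51 LD3_c52) (LK LD1_c1 LD2_c52 LD3_c39) Lrfl Lrfl
theorem f492093 : Led Lsl_ft (LP (LK LD1_c7 LD2_c36 LD3_c54)) = (LP (LK LD1_c3 LD2_c51 LD3_c52)) :=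
  Lgr Lrot101 (Lpe (f492092 IH) (Lpr_ff (f492090 IH) (Lpe (f459835 IH) (Lpn (LP (LK LD1_c3 LD2_c51 LD3_c52))))))
theorem f492488 : Led Lsl_bf (LP (LK LD1_c7 LD2_c36 LD3_c48)) = (LP (LK LD1_c3 LD2_c51 LD3_c52)) :=
  Lgr Lrot61 (Lpr_ft (f492484 IH) (Lpr_bt (f492266 IH) (Lpr_ft (f492093 IH) (Lpn (LP (LK LD1_c3 LD2_c51 LD3_c52))))))
theorem f492812 : Led Lsl_cf (LP (LK LD1_c3 LD2_c51 LD3_c52)) = (LP (LK LD1_c7 LD2_c25 LD3_c55)) :=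
  Lgr Lrot97 (Lpe (f492488 IH) (Lpe (f457929 IH) (Lpr_bt (f492564 IH) (Lpr_ct (f462814 IH) (Lpr_bt (f492806 IH) (Lpn (LP (LK LD1_c7 LD2_c25 LD3_c55))))))))
theorem f492964 : Led Lsl_ct (LP (LK LD1_c3 LD2_c51 LD3_c52)) = (LP (LK LD1_c7 LD2_c25 LD3_c55)) :=
  Lgr Lrot59 (Lpr_cf (f492812 IH) (Lpn (LP (LK LD1_c7 LD2_c25 LD3_c55))))
theorem f492112 : Led Lsl_et (LP (LK LD1_c7 LD2_c45 LD3_c33)) = (LP (LK LD1_c3 LD2_c51 LD3_c52)) :=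
  Lre_e IH (LK LD1_c7 LD2_c45 LD3_c33) (LK LD1_c3 LD2_c51 LD3_c52) Lrfl Lrfl
theorem f492970 : Led Lsl_cf (LP (LK LD1_c7 LD2_c45 LD3_c33)) = (LP (LK LD1_c14 LD2_c2 LD3_c59)) :=
  Lgr Lrot39 (Lpr_et (f492112 IH) (Lpr_ct (f492964 IH) (Lpr_et (f492799 IH) (Lpn (LP (LK LD1_c14 LD2_c2 LD3_c59))))))
theorem f492142 : Led Lsl_dt (LP (LK LD1_c14 LD2_c38 LD3_c12)) = (LP (LK LD1_c7 LD2_c45 LD3_c33)) :=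
  Lre_d IH (LK LD1_c14 LD2_c38 LD3_c12) (LK LD1_c7 LD2_c45 LD3_c33) Lrfl Lrfl
theorem f209133 : Led Lsl_at (LP (LK LD1_c7 LD2_c22 LD3_c21)) = (LP (LK LD1_c13 LD2_c56 LD3_c17)) :=
  Lre_a IH (LK LD1_c7 LD2_c22 LD3_c21) (LK LD1_c13 LD2_c56 LD3_c17) Lrfl Lrfl
theorem f469773 : Led Lsl_ft (LP (LK LD1_c13 LD2_c56 LD3_c28)) = (LP (LK LD1_c7 LD2_c22 LD3_c21)) :=
  Lre_f IH (LK LD1_c13 LD2_c56 LD3_c28) (LK LD1_c7 LD2_c22 LD3_c21) Lrfl Lrfl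
theorem f492789 : Led Lsl_gf (LP (LK LD1_c23 LD2_c27 LD3_c11)) = (LP (LK LD1_c13 LD2_c56 LD3_c28)) :=
  Lgr Lrot47 (Lpr_gt (f492787 IH) (Lpe (f209133 IH) (Lpe (f469773 IH) (Lpn (LP (LK LD1_c13 LD2_c56 LD3_c28))))))
theorem f440463 : Led Lsl_dt (LP (LK LD1_c7 LD2_c22 LD3_c22)) = (LP (LK LD1_c13 LD2_c56 LD3_c28)) :=
  Lre_d IH (LK LD1_c7 LD2_c22 LD3_c22) (LK LD1_c13 LD2_c56 LD3_c28) Lrfl Lrfl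
theorem f492982 : Led Lsl_gf (LP (LK LD1_c14 LD2_c38 LD3_c12)) = (LP (LK LD1_c13 LD2_c21 LD3_c6)) :=
  Lgr Lrot143 (Lpr_dt (f492142 IH) (Lpr_cf (f492970 IH) (Lpe (f492797 IH) (Lpr_gf (f492789 IH) (Lpe (f440463 IH) (Lpr_gf (f466250 IH) (Lpe (f18976 IH) (Lpr_gt (f469695 IH) (Lpr_dt (f489363 IH) (Lpn (LP (LK LD1_c13 LD2_c21 LD3_c6))))))))))))
theorem f492118 : Led Lsl_dt (LP (LK LD1_c7 LD2_c45 LD3_c33)) = (LP (LK LD1_c14 LD2_c38 LD3_c12)) :=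
  Lre_d IH (LK LD1_c7 LD2_c45 LD3_c33) (LK LD1_c14 LD2_c38 LD3_c12) Lrfl Lrfl
theorem f492107 : Led Lsl_ff (LP (LK LD1_c7 LD2_c36 LD3_c54)) = (LP (LK LD1_c3 LD2_c51 LD3_c52)) :=
  Lgr Lrot3 (Lpr_ft (f492093 IH) (Lpn (LP (LK LD1_c3 LD2_c51 LD3_c52))))
theorem f492109 : Led Lsl_at (LP (LK LD1_c7 LD2_c36 LD3_c54)) = (LP (LK LD1_c3 LD2_c47 LD3_c54)) :=
  Lre_a IH (LK LD1_c7 LD2_c36 LD3_c54) (LK LD1_c3 LD2_c47 LD3_c54) Lrfl Lrfl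
theorem f463740 : Led Lsl_gt (LP (LK LD1_c7 LD2_c36 LD3_c53)) = (LP (LK LD1_c3 LD2_c47 LD3_c54)) :=
  Lre_g IH (LK LD1_c7 LD2_c36 LD3_c53) (LK LD1_c3 LD2_c47 LD3_c54) Lrfl Lrfl
theorem f492113 : Led Lsl_gf (LP (LK LD1_c7 LD2_c36 LD3_c53)) = (LP (LK LD1_c3 LD2_c51 LD3_c52)) :=
  Lgr Lrot47 (Lpr_gt (f463740 IH) (Lpe (f492109 IH) (Lpr_ff (f492107 IH) (Lpn (LP (LK LD1_c3 LD2_c51 LD3_c52))))))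
theorem f492115 : Led Lsl_dt (LP (LK LD1_c7 LD2_c36 LD3_c53)) = (LP (LK LD1_c14 LD2_c21 LD3_c23)) :=
  Lre_d IH (LK LD1_c7 LD2_c36 LD3_c53) (LK LD1_c14 LD2_c21 LD3_c23) Lrfl Lrfl
theorem f111135 : Led Lsl_ft (LP (LK LD1_c12 LD2_c34 LD3_c52)) = (LP (LK LD1_c21 LD2_c41 LD3_c16)) :=
  Lre_f IH (LK LD1_c12 LD2_c34 LD3_c52) (LK LD1_c21 LD2_c41 LD3_c16) Lrfl Lrfl
theorem f111159 : Led Lsl_ft (LP (LK LD1_c7 LD2_c1 LD3_c14)) = (LP (LK LD1_c13 LD2_c19 LD3_c3)) :=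
  Lre_f IH (LK LD1_c7 LD2_c1 LD3_c14) (LK LD1_c13 LD2_c19 LD3_c3) Lrfl Lrfl
theorem f111128 : Led Lsl_ft (LP (LK LD1_c21 LD2_c41 LD3_c16)) = (LP (LK LD1_c12 LD2_c34 LD3_c52)) :=
  Lre_f IH (LK LD1_c21 LD2_c41 LD3_c16) (LK LD1_c12 LD2_c34 LD3_c52) Lrfl Lrfl
theorem f111266 : Led Lsl_at (LP (LK LD1_c13 LD2_c19 LD3_c3)) = (LP (LK LD1_c21 LD2_c41 LD3_c16)) :=
  Lgr Lrot66 (Lpe (f111159 IH) (Lpr_af (K7.f111260 IH) (Lpe (f111128 IH) (Lpn (LP (LK LD1_c21 LD2_c41 LD3_c16))))))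
theorem f111268 : Led Lsl_af (LP (LK LD1_c13 LD2_c19 LD3_c3)) = (LP (LK LD1_c21 LD2_c41 LD3_c16)) :=
  Lgr Lrot0 (Lpr_at (f111266 IH) (Lpn (LP (LK LD1_c21 LD2_c41 LD3_c16))))
theorem f533137 : Led Lsl_gt (LP (LK LD1_c7 LD2_c3 LD3_c0)) = (LP (LK LD1_c13 LD2_c19 LD3_c3)) :=
  Lgr Lrot46 (Lpr_gf (f533135 IH) (Lpr_ft (f111135 IH) (Lpe (f111268 IH) (Lpn (LP (LK LD1_c13 LD2_c19 LD3_c3))))))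
theorem f443330 : Led Lsl_et (LP (LK LD1_c3 LD2_c47 LD3_c59)) = (LP (LK LD1_c7 LD2_c37 LD3_c1)) :=
  Lre_e IH (LK LD1_c3 LD2_c47 LD3_c59) (LK LD1_c7 LD2_c37 LD3_c1) Lrfl Lrfl
theorem f64058 : Led Lsl_dt (LP (LK LD1_c7 LD2_c3 LD3_c1)) = (LP (LK LD1_c3 LD2_c30 LD3_c32)) :=
  Lre_d IH (LK LD1_c7 LD2_c3 LD3_c1) (LK LD1_c3 LD2_c30 LD3_c32) Lrfl Lrfl
theorem f443332 : Led Lsl_et (LP (LK LD1_c13 LD2_c22 LD3_c21)) = (LP (LK LD1_c7 LD2_c3 LD3_c1)) :=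
  Lre_e IH (LK LD1_c13 LD2_c22 LD3_c21) (LK LD1_c7 LD2_c3 LD3_c1) Lrfl Lrfl
theorem f443333 : Led Lsl_dt (LP (LK LD1_c7 LD2_c37 LD3_c1)) = (LP (LK LD1_c13 LD2_c22 LD3_c21)) :=
  Lgr Lrot77 (Lpe (f443330 IH) (Lpr_df (K24.f64999 IH) (Lpe (K24.f443331 IH) (Lpe (f64058 IH) (Lpe (f443332 IH) (Lpn (LP (LK LD1_c13 LD2_c22 LD3_c21))))))))
theorem f443347 : Led Lsl_ft (LP (LK LD1_c14 LD2_c21 LD3_c36)) = (LP (LK LD1_c7 LD2_c37 LD3_c1)) :=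
  Lre_f IH (LK LD1_c14 LD2_c21 LD3_c36) (LK LD1_c7 LD2_c37 LD3_c1) Lrfl Lrfl
theorem f443348 : Led Lsl_ft (LP (LK LD1_c13 LD2_c22 LD3_c21)) = (LP (LK LD1_c22 LD2_c39 LD3_c34)) :=
  Lre_f IH (LK LD1_c13 LD2_c22 LD3_c21) (LK LD1_c22 LD2_c39 LD3_c34) Lrfl Lrfl
theorem f443349 : Led Lsl_df (LP (LK LD1_c14 LD2_c21 LD3_c36)) = (LP (LK LD1_c22 LD2_c39 LD3_c34)) :=
  Lgr Lrot78 (Lpr_ft (f443347 IH) (Lpr_dt (f443333 IH) (Lpr_ft (f443348 IH) (Lpn (LP (LK LD1_c22 LD2_c39 LD3_c34))))))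
theorem f443384 : Led Lsl_dt (LP (LK LD1_c14 LD2_c21 LD3_c36)) = (LP (LK LD1_c22 LD2_c39 LD3_c34)) :=
  Lgr Lrot42 (Lpr_df (f443349 IH) (Lpn (LP (LK LD1_c22 LD2_c39 LD3_c34))))
theorem f443388 : Led Lsl_bt (LP (LK LD1_c23 LD2_c59 LD3_c24)) = (LP (LK LD1_c14 LD2_c21 LD3_c36)) :=
  Lre_b IH (LK LD1_c23 LD2_c59 LD3_c24) (LK LD1_c14 LD2_c21 LD3_c36) Lrfl Lrfl
theorem f443389 : Led Lsl_bt (LP (LK LD1_c22 LD2_c39 LD3_c34)) = (LP (LK LD1_c30 LD2_c37 LD3_c60)) :=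
  Lre_b IH (LK LD1_c22 LD2_c39 LD3_c34) (LK LD1_c30 LD2_c37 LD3_c60) Lrfl Lrfl
theorem f443390 : Led Lsl_df (LP (LK LD1_c23 LD2_c59 LD3_c24)) = (LP (LK LD1_c30 LD2_c37 LD3_c60)) :=
  Lgr Lrot12 (Lpr_bt (f443388 IH) (Lpr_dt (f443384 IH) (Lpr_bt (f443389 IH) (Lpn (LP (LK LD1_c30 LD2_c37 LD3_c60))))))
theorem f443392 : Led Lsl_ft (LP (LK LD1_c23 LD2_c59 LD3_c24)) = (LP (LK LD1_c14 LD2_c21 LD3_c31)) :=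
  Lre_f IH (LK LD1_c23 LD2_c59 LD3_c24) (LK LD1_c14 LD2_c21 LD3_c31) Lrfl Lrfl
theorem f443393 : Led Lsl_ft (LP (LK LD1_c22 LD2_c39 LD3_c27)) = (LP (LK LD1_c30 LD2_c37 LD3_c60)) :=
  Lre_f IH (LK LD1_c22 LD2_c39 LD3_c27) (LK LD1_c30 LD2_c37 LD3_c60) Lrfl Lrfl
theorem f443394 : Led Lsl_dt (LP (LK LD1_c14 LD2_c21 LD3_c31)) = (LP (LK LD1_c22 LD2_c39 LD3_c27)) :=
  Lgr Lrot60 (Lpe (f443392 IH) (Lpr_df (f443390 IH) (Lpe (f443393 IH) (Lpn (LP (LK LD1_c22 LD2_c39 LD3_c27))))))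
theorem f443398 : Led Lsl_et (LP (LK LD1_c7 LD2_c36 LD3_c61)) = (LP (LK LD1_c14 LD2_c21 LD3_c31)) :=
  Lre_e IH (LK LD1_c7 LD2_c36 LD3_c61) (LK LD1_c14 LD2_c21 LD3_c31) Lrfl Lrfl
theorem f443399 : Led Lsl_et (LP (LK LD1_c22 LD2_c39 LD3_c27)) = (LP (LK LD1_c13 LD2_c22 LD3_c17)) :=
  Lre_e IH (LK LD1_c22 LD2_c39 LD3_c27) (LK LD1_c13 LD2_c22 LD3_c17) Lrfl Lrfl
theorem f443400 : Led Lsl_dt (LP (LK LD1_c13 LD2_c22 LD3_c17)) = (LP (LK LD1_c7 LD2_c3 LD3_c0)) :=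
  Lre_d IH (LK LD1_c13 LD2_c22 LD3_c17) (LK LD1_c7 LD2_c3 LD3_c0) Lrfl Lrfl
theorem f443401 : Led Lsl_et (LP (LK LD1_c7 LD2_c3 LD3_c0)) = (LP (LK LD1_c13 LD2_c22 LD3_c18)) :=
  Lre_e IH (LK LD1_c7 LD2_c3 LD3_c0) (LK LD1_c13 LD2_c22 LD3_c18) Lrfl Lrfl
theorem f443402 : Led Lsl_df (LP (LK LD1_c7 LD2_c36 LD3_c61)) = (LP (LK LD1_c13 LD2_c22 LD3_c18)) :=
  Lgr Lrot70 (Lpr_et (f443398 IH) (Lpr_dt (f443394 IH) (Lpr_et (f443399 IH) (Lpr_dt (f443400 IH) (Lpr_et (f443401 IH) (Lpn (LP (LK LD1_c13 LD2_c22 LD3_c18))))))))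
theorem f533413 : Led Lsl_gt (LP (LK LD1_c14 LD2_c21 LD3_c23)) = (LP (LK LD1_c7 LD2_c36 LD3_c61)) :=
  Lgr Lrot139 (Lpe (f492115 IH) (Lpr_gf (f492113 IH) (Lpe (f492112 IH) (Lpr_dt (f492118 IH) (Lpr_gf (f492982 IH) (Lpe (f489363 IH) (Lpr_et (f533407 IH) (Lpe (f533137 IH) (Lpe (K28.f443411 IH) (Lpe (f443402 IH) (Lpn (LP (LK LD1_c7 LD2_c36 LD3_c61)))))))))))))
theorem f533143 : Led Lsl_gt (LP (LK LD1_c7 LD2_c36 LD3_c61)) = (LP (LK LD1_c14 LD2_c18 LD3_c56)) :=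
  Lgr Lrot112 (Lpr_df (f443402 IH) (Lpr_et (K28.f443411 IH) (Lpr_gf (f533135 IH) (Lpe (K7.f111134 IH) (Lpe (K4.f111233 IH) (Lpe (K7.f122287 IH) (Lpe (K7.f117134 IH) (Lpe (K6.f137234 IH) (Lpe (K5.f116667 IH) (Lpr_dt (K6.f116681 IH) (Lpn (LP (LK LD1_c14 LD2_c18 LD3_c56)))))))))))))
theorem f144797 : Led Lsl_af (LP (LK LD1_c14 LD2_c18 LD3_c56)) = (LP (LK LD1_c7 LD2_c40 LD3_c57)) :=
  Lgr Lrot0 (Lpr_at (K6.f144795 IH) (Lpn (LP (LK LD1_c7 LD2_c40 LD3_c57))))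
theorem f533415 : Led Lsl_ft (LP (LK LD1_c14 LD2_c21 LD3_c23)) = (LP (LK LD1_c7 LD2_c40 LD3_c57)) :=
  Lgr Lrot2 (Lpr_gt (f533413 IH) (Lpr_gt (f533143 IH) (Lpr_af (f144797 IH) (Lpn (LP (LK LD1_c7 LD2_c40 LD3_c57))))))
theorem f533419 : Led Lsl_ff (LP (LK LD1_c14 LD2_c21 LD3_c23)) = (LP (LK LD1_c7 LD2_c40 LD3_c57)) :=
  Lgr Lrot3 (Lpr_ft (f533415 IH) (Lpn (LP (LK LD1_c7 LD2_c40 LD3_c57))))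
theorem f492119 : Led Lsl_dt (LP (LK LD1_c14 LD2_c21 LD3_c23)) = (LP (LK LD1_c7 LD2_c36 LD3_c53)) :=
  Lre_d IH (LK LD1_c14 LD2_c21 LD3_c23) (LK LD1_c7 LD2_c36 LD3_c53) Lrfl Lrfl
theorem f136719 : Led Lsl_dt (LP (LK LD1_c3 LD2_c49 LD3_c61)) = (LP (LK LD1_c7 LD2_c40 LD3_c57)) :=
  Lre_d IH (LK LD1_c3 LD2_c49 LD3_c61) (LK LD1_c7 LD2_c40 LD3_c57) Lrfl Lrfl
theorem f533421 : Led Lsl_ft (LP (LK LD1_c7 LD2_c36 LD3_c53)) = (LP (LK LD1_c3 LD2_c49 LD3_c61)) :=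
  Lgr Lrot54 (Lpe (f492119 IH) (Lpr_ff (f533419 IH) (Lpe (f136719 IH) (Lpn (LP (LK LD1_c3 LD2_c49 LD3_c61))))))
theorem f533427 : Led Lsl_gt (LP (LK LD1_c3 LD2_c47 LD3_c54)) = (LP (LK LD1_c7 LD2_c35 LD3_c35)) :=
  Lgr Lrot46 (Lpe (f463740 IH) (Lpr_ft (f533421 IH) (Lpe (K6.f144801 IH) (Lpn (LP (LK LD1_c7 LD2_c35 LD3_c35))))))
theorem f491763 : Led Lsl_ct (LP (LK LD1_c3 LD2_c27 LD3_c43)) = (LP (LK LD1_c3 LD2_c42 LD3_c23)) :=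
  Lgr Lrot152 (Lpr_gf (K32.f491755 IH) (Lpr_df (K32.f466454 IH) (Lpe (K28.f468115 IH) (Lpe (K28.f468113 IH) (Lpr_gt (K28.f122361 IH) (Lpr_ct (K4.f122347 IH) (Lpr_df (K28.f128308 IH) (Lpe (K28.f26204 IH) (Lpe (K33.f26211 IH) (Lpn (LP (LK LD1_c3 LD2_c42 LD3_c23))))))))))))
theorem f491769 : Led Lsl_bt (LP (LK LD1_c3 LD2_c42 LD3_c23)) = (LP (LK LD1_c7 LD2_c25 LD3_c29)) :=
  Lre_b IH (LK LD1_c3 LD2_c42 LD3_c23) (LK LD1_c7 LD2_c25 LD3_c29) Lrfl Lrfl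
theorem f14972 : Led Lsl_bt (LP (LK LD1_c3 LD2_c47 LD3_c54)) = (LP (LK LD1_c1 LD2_c50 LD3_c58)) :=
  Lre_b IH (LK LD1_c3 LD2_c47 LD3_c54) (LK LD1_c1 LD2_c50 LD3_c58) Lrfl Lrfl
theorem f491770 : Led Lsl_ct (LP (LK LD1_c7 LD2_c25 LD3_c29)) = (LP (LK LD1_c3 LD2_c47 LD3_c54)) :=
  Lgr Lrot83 (Lpe (f491769 IH) (Lpe (f491763 IH) (Lpr_bf (K32.f491765 IH) (Lpe (K28.f463732 IH) (Lpe (f14972 IH) (Lpn (LP (LK LD1_c3 LD2_c47 LD3_c54))))))))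
theorem f108080 : Led Lsl_bt (LP (LK LD1_c7 LD2_c25 LD3_c29)) = (LP (LK LD1_c3 LD2_c42 LD3_c23)) :=
  Lre_b IH (LK LD1_c7 LD2_c25 LD3_c29) (LK LD1_c3 LD2_c42 LD3_c23) Lrfl Lrfl
theorem f457939 : Led Lsl_bt (LP (LK LD1_c6 LD2_c57 LD3_c20)) = (LP (LK LD1_c3 LD2_c27 LD3_c35)) :=
  Lre_b IH (LK LD1_c6 LD2_c57 LD3_c20) (LK LD1_c3 LD2_c27 LD3_c35) Lrfl Lrfl
theorem f473424 : Led Lsl_cf (LP (LK LD1_c6 LD2_c57 LD3_c20)) = (LP (LK LD1_c3 LD2_c56 LD3_c29)) :=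
  Lgr Lrot97 (Lpr_bt (f457939 IH) (Lpe (K29.f473409 IH) (Lpr_bt (K28.f473420 IH) (Lpr_ct (K28.f11384 IH) (Lpr_bt (K28.f451982 IH) (Lpn (LP (LK LD1_c3 LD2_c56 LD3_c29))))))))
theorem f476617 : Led Lsl_gt (LP (LK LD1_c13 LD2_c12 LD3_c27)) = (LP (LK LD1_c6 LD2_c57 LD3_c20)) :=
  Lre_g IH (LK LD1_c13 LD2_c12 LD3_c27) (LK LD1_c6 LD2_c57 LD3_c20) Lrfl Lrfl
theorem f116686 : Led Lsl_ct (LP (LK LD1_c14 LD2_c18 LD3_c55)) = (LP (LK LD1_c7 LD2_c35 LD3_c35)) :=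
  Lre_c IH (LK LD1_c14 LD2_c18 LD3_c55) (LK LD1_c7 LD2_c35 LD3_c35) Lrfl Lrfl
theorem f144912 : Led Lsl_gt (LP (LK LD1_c7 LD2_c40 LD3_c47)) = (LP (LK LD1_c14 LD2_c28 LD3_c39)) :=
  Lre_g IH (LK LD1_c7 LD2_c40 LD3_c47) (LK LD1_c14 LD2_c28 LD3_c39) Lrfl Lrfl
theorem f533435 : Led Lsl_cf (LP (LK LD1_c13 LD2_c12 LD3_c27)) = (LP (LK LD1_c14 LD2_c28 LD3_c39)) :=
  Lgr Lrot125 (Lpr_gt (f476617 IH) (Lpr_cf (f473424 IH) (Lpr_bt (K28.f462181 IH) (Lpe (K33.f462190 IH) (Lpe (f108080 IH) (Lpr_ct (f491770 IH) (Lpr_gt (f533427 IH) (Lpe (f116686 IH) (Lpr_bt (K6.f144877 IH) (Lpr_gt (f144912 IH) (Lpn (LP (LK LD1_c14 LD2_c28 LD3_c39)))))))))))))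
theorem f492668 : Led Lsl_ct (LP (LK LD1_c3 LD2_c42 LD3_c23)) = (LP (LK LD1_c3 LD2_c27 LD3_c43)) :=
  Lgr Lrot40 (Lpr_ff (K33.f492662 IH) (Lpr_cf (K28.f464713 IH) (Lpe (K32.f464769 IH) (Lpn (LP (LK LD1_c3 LD2_c27 LD3_c43))))))
theorem f106212 : Led Lsl_et (LP (LK LD1_c1 LD2_c44 LD3_c38)) = (LP (LK LD1_c0 LD2_c48 LD3_c60)) :=
  Lre_e IH (LK LD1_c1 LD2_c44 LD3_c38) (LK LD1_c0 LD2_c48 LD3_c60) Lrfl Lrfl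
theorem f491753 : Led Lsl_gt (LP (LK LD1_c3 LD2_c27 LD3_c43)) = (LP (LK LD1_c1 LD2_c45 LD3_c6)) :=
  Lgr Lrot112 (Lpe (K32.f464768 IH) (Lpr_et (K32.f491743 IH) (Lpe (K28.f128085 IH) (Lpe (K5.f109454 IH) (Lpr_dt (K4.f109453 IH) (Lpe (K4.f12568 IH) (Lpe (K4.f12575 IH) (Lpe (K3.f109441 IH) (Lpe (f106212 IH) (Lpr_dt (K5.f106199 IH) (Lpn (LP (LK LD1_c1 LD2_c45 LD3_c6)))))))))))))
theorem f160505 : Led Lsl_gt (LP (LK LD1_c3 LD2_c54 LD3_c11)) = (LP (LK LD1_c7 LD2_c49 LD3_c55)) :=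
  Lre_g IH (LK LD1_c3 LD2_c54 LD3_c11) (LK LD1_c7 LD2_c49 LD3_c55) Lrfl Lrfl
theorem f533445 : Led Lsl_bf (LP (LK LD1_c7 LD2_c49 LD3_c55)) = (LP (LK LD1_c14 LD2_c28 LD3_c39)) :=
  Lgr Lrot34 (Lpe (f160505 IH) (Lpe (K28.f159990 IH) (Lpe (K28.f142708 IH) (Lpe (f491753 IH) (Lpe (f492668 IH) (Lpr_gf (K33.f462190 IH) (Lpe (K28.f462181 IH) (Lpe (f473424 IH) (Lpe (f476617 IH) (Lpr_cf (f533435 IH) (Lpn (LP (LK LD1_c14 LD2_c28 LD3_c39)))))))))))))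
theorem f469463 : Led Lsl_et (LP (LK LD1_c7 LD2_c49 LD3_c55)) = (LP (LK LD1_c14 LD2_c46 LD3_c22)) :=
  Lre_e IH (LK LD1_c7 LD2_c49 LD3_c55) (LK LD1_c14 LD2_c46 LD3_c22) Lrfl Lrfl
theorem f155751 : Led Lsl_et (LP (LK LD1_c24 LD2_c9 LD3_c47)) = (LP (LK LD1_c14 LD2_c28 LD3_c39)) :=
  Lre_e IH (LK LD1_c24 LD2_c9 LD3_c47) (LK LD1_c14 LD2_c28 LD3_c39) Lrfl Lrfl
theorem f533451 : Led Lsl_bt (LP (LK LD1_c14 LD2_c46 LD3_c22)) = (LP (LK LD1_c24 LD2_c9 LD3_c47)) :=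
  Lgr Lrot119 (Lpe (f469463 IH) (Lpr_bf (f533445 IH) (Lpe (f155751 IH) (Lpn (LP (LK LD1_c24 LD2_c9 LD3_c47))))))
theorem f469360 : Led Lsl_dt (LP (LK LD1_c13 LD2_c25 LD3_c31)) = (LP (LK LD1_c22 LD2_c44 LD3_c29)) :=
  Lre_d IH (LK LD1_c13 LD2_c25 LD3_c31) (LK LD1_c22 LD2_c44 LD3_c29) Lrfl Lrfl
theorem f469380 : Led Lsl_ft (LP (LK LD1_c22 LD2_c44 LD3_c29)) = (LP (LK LD1_c14 LD2_c7 LD3_c22)) :=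
  Lgr Lrot54 (Lpe (f469360 IH) (Lpr_ff (K28.f469369 IH) (Lpe (K4.f116249 IH) (Lpn (LP (LK LD1_c14 LD2_c7 LD3_c22))))))
theorem f116437 : Led Lsl_at (LP (LK LD1_c14 LD2_c7 LD3_c22)) = (LP (LK LD1_c7 LD2_c28 LD3_c57)) :=
  Lre_a IH (LK LD1_c14 LD2_c7 LD3_c22) (LK LD1_c7 LD2_c28 LD3_c57) Lrfl Lrfl
theorem f469423 : Led Lsl_ff (LP (LK LD1_c13 LD2_c25 LD3_c32)) = (LP (LK LD1_c7 LD2_c28 LD3_c57)) :=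
  Lgr Lrot30 (Lpr_at (K28.f469422 IH) (Lpr_ft (f469380 IH) (Lpr_at (f116437 IH) (Lpn (LP (LK LD1_c7 LD2_c28 LD3_c57))))))
theorem f469445 : Led Lsl_ft (LP (LK LD1_c13 LD2_c25 LD3_c32)) = (LP (LK LD1_c7 LD2_c28 LD3_c57)) :=
  Lgr Lrot48 (Lpr_ff (f469423 IH) (Lpn (LP (LK LD1_c7 LD2_c28 LD3_c57))))
theorem f469254 : Led Lsl_gt (LP (LK LD1_c13 LD2_c25 LD3_c32)) = (LP (LK LD1_c22 LD2_c44 LD3_c30)) :=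
  Lre_g IH (LK LD1_c13 LD2_c25 LD3_c32) (LK LD1_c22 LD2_c44 LD3_c30) Lrfl Lrfl
theorem f469455 : Led Lsl_gt (LP (LK LD1_c22 LD2_c44 LD3_c30)) = (LP (LK LD1_c14 LD2_c7 LD3_c22)) :=
  Lgr Lrot46 (Lpe (f469254 IH) (Lpr_ft (f469445 IH) (Lpr_at (K4.f116294 IH) (Lpn (LP (LK LD1_c14 LD2_c7 LD3_c22))))))
theorem f116245 : Led Lsl_dt (LP (LK LD1_c7 LD2_c28 LD3_c54)) = (LP (LK LD1_c14 LD2_c7 LD3_c22)) :=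
  Lre_d IH (LK LD1_c7 LD2_c28 LD3_c54) (LK LD1_c14 LD2_c7 LD3_c22) Lrfl Lrfl
theorem f147206 : Led Lsl_dt (LP (LK LD1_c3 LD2_c41 LD3_c18)) = (LP (LK LD1_c7 LD2_c23 LD3_c1)) :=
  Lre_d IH (LK LD1_c3 LD2_c41 LD3_c18) (LK LD1_c7 LD2_c23 LD3_c1) Lrfl Lrfl
theorem f147586 : Led Lsl_bt (LP (LK LD1_c1 LD2_c47 LD3_c39)) = (LP (LK LD1_c3 LD2_c41 LD3_c27)) :=
  Lre_b IH (LK LD1_c1 LD2_c47 LD3_c39) (LK LD1_c3 LD2_c41 LD3_c27) Lrfl Lrfl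
theorem f147221 : Led Lsl_et (LP (LK LD1_c3 LD2_c41 LD3_c18)) = (LP (LK LD1_c7 LD2_c23 LD3_c2)) :=
  Lre_e IH (LK LD1_c3 LD2_c41 LD3_c18) (LK LD1_c7 LD2_c23 LD3_c2) Lrfl Lrfl
theorem f123693 : Led Lsl_et (LP (LK LD1_c7 LD2_c28 LD3_c29)) = (LP (LK LD1_c3 LD2_c43 LD3_c54)) :=
  Lre_e IH (LK LD1_c7 LD2_c28 LD3_c29) (LK LD1_c3 LD2_c43 LD3_c54) Lrfl Lrfl
theorem f147222 : Led Lsl_bt (LP (LK LD1_c7 LD2_c23 LD3_c2)) = (LP (LK LD1_c7 LD2_c28 LD3_c29)) :=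
  Lgr Lrot119 (Lpe (f147221 IH) (Lpr_bf (K24.f147209 IH) (Lpe (f123693 IH) (Lpn (LP (LK LD1_c7 LD2_c28 LD3_c29))))))
theorem f147227 : Led Lsl_dt (LP (LK LD1_c13 LD2_c57 LD3_c44)) = (LP (LK LD1_c7 LD2_c23 LD3_c2)) :=
  Lre_d IH (LK LD1_c13 LD2_c57 LD3_c44) (LK LD1_c7 LD2_c23 LD3_c2) Lrfl Lrfl
theorem f123694 : Led Lsl_dt (LP (LK LD1_c7 LD2_c28 LD3_c29)) = (LP (LK LD1_c14 LD2_c6 LD3_c35)) :=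
  Lre_d IH (LK LD1_c7 LD2_c28 LD3_c29) (LK LD1_c14 LD2_c6 LD3_c35) Lrfl Lrfl
theorem f147228 : Led Lsl_bf (LP (LK LD1_c13 LD2_c57 LD3_c44)) = (LP (LK LD1_c14 LD2_c6 LD3_c35)) :=
  Lgr Lrot93 (Lpr_dt (f147227 IH) (Lpr_bt (f147222 IH) (Lpr_dt (f123694 IH) (Lpn (LP (LK LD1_c14 LD2_c6 LD3_c35))))))
theorem f147233 : Led Lsl_et (LP (LK LD1_c13 LD2_c57 LD3_c44)) = (LP (LK LD1_c23 LD2_c29 LD3_c39)) :=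
  Lre_e IH (LK LD1_c13 LD2_c57 LD3_c44) (LK LD1_c23 LD2_c29 LD3_c39) Lrfl Lrfl
theorem f147234 : Led Lsl_et (LP (LK LD1_c23 LD2_c40 LD3_c36)) = (LP (LK LD1_c14 LD2_c6 LD3_c35)) :=
  Lre_e IH (LK LD1_c23 LD2_c40 LD3_c36) (LK LD1_c14 LD2_c6 LD3_c35) Lrfl Lrfl
theorem f147235 : Led Lsl_bt (LP (LK LD1_c23 LD2_c29 LD3_c39)) = (LP (LK LD1_c23 LD2_c40 LD3_c36)) :=
  Lgr Lrot119 (Lpe (f147233 IH) (Lpr_bf (f147228 IH) (Lpe (f147234 IH) (Lpn (LP (LK LD1_c23 LD2_c40 LD3_c36))))))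
theorem f147240 : Led Lsl_dt (LP (LK LD1_c13 LD2_c57 LD3_c43)) = (LP (LK LD1_c23 LD2_c29 LD3_c39)) :=
  Lre_d IH (LK LD1_c13 LD2_c57 LD3_c43) (LK LD1_c23 LD2_c29 LD3_c39) Lrfl Lrfl
theorem f147241 : Led Lsl_dt (LP (LK LD1_c23 LD2_c40 LD3_c36)) = (LP (LK LD1_c14 LD2_c6 LD3_c34)) :=
  Lre_d IH (LK LD1_c23 LD2_c40 LD3_c36) (LK LD1_c14 LD2_c6 LD3_c34) Lrfl Lrfl
theorem f147242 : Led Lsl_bf (LP (LK LD1_c13 LD2_c57 LD3_c43)) = (LP (LK LD1_c14 LD2_c6 LD3_c34)) :=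
  Lgr Lrot93 (Lpr_dt (f147240 IH) (Lpr_bt (f147235 IH) (Lpr_dt (f147241 IH) (Lpn (LP (LK LD1_c14 LD2_c6 LD3_c34))))))
theorem f147244 : Led Lsl_bt (LP (LK LD1_c13 LD2_c57 LD3_c43)) = (LP (LK LD1_c14 LD2_c6 LD3_c34)) :=
  Lgr Lrot127 (Lpr_bf (f147242 IH) (Lpn (LP (LK LD1_c14 LD2_c6 LD3_c34))))
theorem f147212 : Led Lsl_et (LP (LK LD1_c7 LD2_c23 LD3_c1)) = (LP (LK LD1_c13 LD2_c57 LD3_c43)) :=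
  Lre_e IH (LK LD1_c7 LD2_c23 LD3_c1) (LK LD1_c13 LD2_c57 LD3_c43) Lrfl Lrfl
theorem f129484 : Led Lsl_et (LP (LK LD1_c14 LD2_c6 LD3_c34)) = (LP (LK LD1_c7 LD2_c28 LD3_c28)) :=
  Lre_e IH (LK LD1_c14 LD2_c6 LD3_c34) (LK LD1_c7 LD2_c28 LD3_c28) Lrfl Lrfl
theorem f147248 : Led Lsl_bf (LP (LK LD1_c7 LD2_c23 LD3_c1)) = (LP (LK LD1_c7 LD2_c28 LD3_c28)) :=
  Lgr Lrot96 (Lpr_et (f147212 IH) (Lpr_bt (f147244 IH) (Lpr_et (f129484 IH) (Lpn (LP (LK LD1_c7 LD2_c28 LD3_c28))))))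
theorem f209768 : Led Lsl_gf (LP (LK LD1_c3 LD2_c41 LD3_c27)) = (LP (LK LD1_c7 LD2_c23 LD3_c1)) :=
  Lgr Lrot124 (Lpe (f147586 IH) (Lpe (K7.f147568 IH) (Lpr_gt (K7.f124606 IH) (Lpr_cf (K7.f148642 IH) (Lpr_bt (K7.f144669 IH) (Lpr_gt (K6.f144760 IH) (Lpr_ct (K32.f209710 IH) (Lpe (K32.f209766 IH) (Lpe (K32.f151257 IH) (Lpe (f147248 IH) (Lpn (LP (LK LD1_c7 LD2_c23 LD3_c1)))))))))))))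
theorem f160756 : Led Lsl_et (LP (LK LD1_c14 LD2_c46 LD3_c22)) = (LP (LK LD1_c7 LD2_c49 LD3_c55)) :=
  Lre_e IH (LK LD1_c14 LD2_c46 LD3_c22) (LK LD1_c7 LD2_c49 LD3_c55) Lrfl Lrfl
theorem f469458 : Led Lsl_df (LP (LK LD1_c22 LD2_c44 LD3_c30)) = (LP (LK LD1_c14 LD2_c46 LD3_c22)) :=
  Lgr Lrot170 (Lpr_gt (f469455 IH) (Lpe (f116245 IH) (Lpr_et (K33.f116241 IH) (Lpe (K24.f147204 IH) (Lpr_dt (f147206 IH) (Lpe (f209768 IH) (Lpr_df (K8.f159536 IH) (Lpr_et (K28.f159783 IH) (Lpr_gt (f160505 IH) (Lpe (f160756 IH) (Lpn (LP (LK LD1_c14 LD2_c46 LD3_c22)))))))))))))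
theorem f469461 : Led Lsl_dt (LP (LK LD1_c22 LD2_c44 LD3_c30)) = (LP (LK LD1_c14 LD2_c46 LD3_c22)) :=
  Lgr Lrot42 (Lpr_df (f469458 IH) (Lpn (LP (LK LD1_c14 LD2_c46 LD3_c22))))
theorem f469457 : Led Lsl_bt (LP (LK LD1_c30 LD2_c41 LD3_c42)) = (LP (LK LD1_c22 LD2_c44 LD3_c30)) :=
  Lre_b IH (LK LD1_c30 LD2_c41 LD3_c42) (LK LD1_c22 LD2_c44 LD3_c30) Lrfl Lrfl
theorem f533455 : Led Lsl_df (LP (LK LD1_c30 LD2_c41 LD3_c42)) = (LP (LK LD1_c24 LD2_c9 LD3_c47)) :=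
  Lgr Lrot12 (Lpr_bt (f469457 IH) (Lpr_dt (f469461 IH) (Lpr_bt (f533451 IH) (Lpn (LP (LK LD1_c24 LD2_c9 LD3_c47))))))
theorem f147828 : Led Lsl_dt (LP (LK LD1_c14 LD2_c3 LD3_c55)) = (LP (LK LD1_c23 LD2_c37 LD3_c4)) :=
  Lre_d IH (LK LD1_c14 LD2_c3 LD3_c55) (LK LD1_c23 LD2_c37 LD3_c4) Lrfl Lrfl
theorem f533460 : Led Lsl_gt (LP (LK LD1_c30 LD2_c41 LD3_c42)) = (LP (LK LD1_c23 LD2_c37 LD3_c4)) :=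
  Lgr Lrot112 (Lpr_df (f533455 IH) (Lpr_et (f155751 IH) (Lpe (f144912 IH) (Lpe (K6.f145087 IH) (Lpr_dt (K32.f144959 IH) (Lpr_gf (K32.f155747 IH) (Lpe (K32.f155741 IH) (Lpe (K7.f151481 IH) (Lpe (K7.f147795 IH) (Lpr_dt (f147828 IH) (Lpn (LP (LK LD1_c23 LD2_c37 LD3_c4)))))))))))))
theorem f111095 : Led Lsl_dt (LP (LK LD1_c30 LD2_c7 LD3_c27)) = (LP (LK LD1_c21 LD2_c41 LD3_c12)) :=
  Lre_d IH (LK LD1_c30 LD2_c7 LD3_c27) (LK LD1_c21 LD2_c41 LD3_c12) Lrfl Lrfl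
theorem f111107 : Led Lsl_af (LP (LK LD1_c30 LD2_c7 LD3_c27)) = (LP (LK LD1_c22 LD2_c35 LD3_c31)) :=
  Lgr Lrot117 (Lpr_dt (f111095 IH) (Lpr_at (K4.f111100 IH) (Lpr_dt (f111106 IH) (Lpn (LP (LK LD1_c22 LD2_c35 LD3_c31))))))
theorem f93215 : Led Lsl_dt (LP (LK LD1_c23 LD2_c46 LD3_c29)) = (LP (LK LD1_c14 LD2_c10 LD3_c57)) :=
  Lre_d IH (LK LD1_c23 LD2_c46 LD3_c29) (LK LD1_c14 LD2_c10 LD3_c57) Lrfl Lrfl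
theorem f111283 : Led Lsl_dt (LP (LK LD1_c21 LD2_c41 LD3_c13)) = (LP (LK LD1_c30 LD2_c7 LD3_c28)) :=
  Lre_d IH (LK LD1_c21 LD2_c41 LD3_c13) (LK LD1_c30 LD2_c7 LD3_c28) Lrfl Lrfl
theorem f111298 : Led Lsl_af (LP (LK LD1_c23 LD2_c46 LD3_c29)) = (LP (LK LD1_c30 LD2_c7 LD3_c28)) :=
  Lgr Lrot117 (Lpr_dt (f93215 IH) (Lpr_at (K4.f111290 IH) (Lpr_dt (f111283 IH) (Lpn (LP (LK LD1_c30 LD2_c7 LD3_c28))))))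
theorem f111302 : Led Lsl_bt (LP (LK LD1_c23 LD2_c46 LD3_c29)) = (LP (LK LD1_c14 LD2_c10 LD3_c58)) :=
  Lre_b IH (LK LD1_c23 LD2_c46 LD3_c29) (LK LD1_c14 LD2_c10 LD3_c58) Lrfl Lrfl
theorem f111250 : Led Lsl_bt (LP (LK LD1_c21 LD2_c41 LD3_c15)) = (LP (LK LD1_c30 LD2_c7 LD3_c28)) :=
  Lre_b IH (LK LD1_c21 LD2_c41 LD3_c15) (LK LD1_c30 LD2_c7 LD3_c28) Lrfl Lrfl
theorem f111183 : Led Lsl_bt (LP (LK LD1_c14 LD2_c11 LD3_c43)) = (LP (LK LD1_c13 LD2_c19 LD3_c2)) :=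
  Lgr Lrot127 (Lpr_bf (K4.f111179 IH) (Lpn (LP (LK LD1_c13 LD2_c19 LD3_c2))))
theorem f111303 : Led Lsl_at (LP (LK LD1_c14 LD2_c10 LD3_c58)) = (LP (LK LD1_c14 LD2_c11 LD3_c43)) :=
  Lgr Lrot67 (Lpe (f111302 IH) (Lpr_af (f111298 IH) (Lpe (f111250 IH) (Lpe (K7.f111240 IH) (Lpe (f111183 IH) (Lpn (LP (LK LD1_c14 LD2_c11 LD3_c43))))))))
theorem f111305 : Led Lsl_af (LP (LK LD1_c14 LD2_c10 LD3_c58)) = (LP (LK LD1_c14 LD2_c11 LD3_c43)) :=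
  Lgr Lrot0 (Lpr_at (f111303 IH) (Lpn (LP (LK LD1_c14 LD2_c11 LD3_c43))))
theorem f93204 : Led Lsl_dt (LP (LK LD1_c14 LD2_c10 LD3_c58)) = (LP (LK LD1_c7 LD2_c30 LD3_c44)) :=
  Lre_d IH (LK LD1_c14 LD2_c10 LD3_c58) (LK LD1_c7 LD2_c30 LD3_c44) Lrfl Lrfl
theorem f111078 : Led Lsl_dt (LP (LK LD1_c7 LD2_c31 LD3_c15)) = (LP (LK LD1_c14 LD2_c11 LD3_c43)) :=
  Lre_d IH (LK LD1_c7 LD2_c31 LD3_c15) (LK LD1_c14 LD2_c11 LD3_c43) Lrfl Lrfl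
theorem f111317 : Led Lsl_at (LP (LK LD1_c7 LD2_c30 LD3_c44)) = (LP (LK LD1_c7 LD2_c31 LD3_c15)) :=
  Lgr Lrot51 (Lpe (f93204 IH) (Lpr_af (f111305 IH) (Lpe (f111078 IH) (Lpn (LP (LK LD1_c7 LD2_c31 LD3_c15))))))
theorem f108963 : Led Lsl_bt (LP (LK LD1_c22 LD2_c11 LD3_c5)) = (LP (LK LD1_c13 LD2_c0 LD3_c54)) :=
  Lre_b IH (LK LD1_c22 LD2_c11 LD3_c5) (LK LD1_c13 LD2_c0 LD3_c54) Lrfl Lrfl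
theorem f97695 : Led Lsl_bt (LP (LK LD1_c7 LD2_c30 LD3_c44)) = (LP (LK LD1_c14 LD2_c10 LD3_c57)) :=
  Lre_b IH (LK LD1_c7 LD2_c30 LD3_c44) (LK LD1_c14 LD2_c10 LD3_c57) Lrfl Lrfl
theorem f108976 : Led Lsl_ct (LP (LK LD1_c13 LD2_c0 LD3_c54)) = (LP (LK LD1_c7 LD2_c30 LD3_c44)) :=
  Lgr Lrot83 (Lpe (f108963 IH) (Lpr_cf (K4.f108905 IH) (Lpr_bf (f108968 IH) (Lpe (f97690 IH) (Lpe (f97695 IH) (Lpn (LP (LK LD1_c7 LD2_c30 LD3_c44))))))))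
theorem f111319 : Led Lsl_cf (LP (LK LD1_c7 LD2_c30 LD3_c45)) = (LP (LK LD1_c7 LD2_c31 LD3_c15)) :=
  Lgr Lrot1 (Lpr_at (K4.f111061 IH) (Lpr_ct (f108976 IH) (Lpr_at (f111317 IH) (Lpn (LP (LK LD1_c7 LD2_c31 LD3_c15))))))
theorem f111092 : Led Lsl_bf (LP (LK LD1_c12 LD2_c34 LD3_c50)) = (LP (LK LD1_c7 LD2_c30 LD3_c45)) :=
  Lgr Lrot24 (Lpr_bt (K4.f111086 IH) (Lpn (LP (LK LD1_c7 LD2_c30 LD3_c45))))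
theorem f111172 : Led Lsl_bf (LP (LK LD1_c7 LD2_c31 LD3_c15)) = (LP (LK LD1_c7 LD2_c1 LD3_c14)) :=
  Lgr Lrot24 (Lpr_bt (K4.f111169 IH) (Lpn (LP (LK LD1_c7 LD2_c1 LD3_c14))))
theorem f111257 : Led Lsl_ct (LP (LK LD1_c13 LD2_c19 LD3_c0)) = (LP (LK LD1_c7 LD2_c1 LD3_c14)) :=
  Lre_c IH (LK LD1_c13 LD2_c19 LD3_c0) (LK LD1_c7 LD2_c1 LD3_c14) Lrfl Lrfl
theorem f111321 : Led Lsl_bt (LP (LK LD1_c21 LD2_c41 LD3_c12)) = (LP (LK LD1_c13 LD2_c19 LD3_c0)) :=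
  Lgr Lrot128 (Lpe (K4.f111096 IH) (Lpr_bf (f111092 IH) (Lpr_cf (f111319 IH) (Lpr_bf (f111172 IH) (Lpe (f111257 IH) (Lpn (LP (LK LD1_c13 LD2_c19 LD3_c0))))))))
theorem f111323 : Led Lsl_dt (LP (LK LD1_c13 LD2_c19 LD3_c0)) = (LP (LK LD1_c22 LD2_c35 LD3_c22)) :=
  Lre_d IH (LK LD1_c13 LD2_c19 LD3_c0) (LK LD1_c22 LD2_c35 LD3_c22) Lrfl Lrfl
theorem f111324 : Led Lsl_bf (LP (LK LD1_c30 LD2_c7 LD3_c27)) = (LP (LK LD1_c22 LD2_c35 LD3_c22)) :=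
  Lgr Lrot93 (Lpr_dt (f111095 IH) (Lpr_bt (f111321 IH) (Lpr_dt (f111323 IH) (Lpn (LP (LK LD1_c22 LD2_c35 LD3_c22))))))
theorem f111329 : Led Lsl_bt (LP (LK LD1_c30 LD2_c7 LD3_c27)) = (LP (LK LD1_c22 LD2_c35 LD3_c22)) :=
  Lgr Lrot127 (Lpr_bf (f111324 IH) (Lpn (LP (LK LD1_c22 LD2_c35 LD3_c22))))
theorem f436342 : Led Lsl_bt (LP (LK LD1_c23 LD2_c37 LD3_c4)) = (LP (LK LD1_c14 LD2_c3 LD3_c57)) :=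
  Lre_b IH (LK LD1_c23 LD2_c37 LD3_c4) (LK LD1_c14 LD2_c3 LD3_c57) Lrfl Lrfl
theorem f436408 : Led Lsl_at (LP (LK LD1_c22 LD2_c35 LD3_c22)) = (LP (LK LD1_c23 LD2_c37 LD3_c4)) :=
  Lgr Lrot67 (Lpe (f111329 IH) (Lpr_af (f111107 IH) (Lpr_bf (f436406 IH) (Lpe (f436338 IH) (Lpe (f436342 IH) (Lpn (LP (LK LD1_c23 LD2_c37 LD3_c4))))))))
theorem f111331 : Led Lsl_ft (LP (LK LD1_c30 LD2_c35 LD3_c55)) = (LP (LK LD1_c22 LD2_c35 LD3_c22)) :=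
  Lre_f IH (LK LD1_c30 LD2_c35 LD3_c55) (LK LD1_c22 LD2_c35 LD3_c22) Lrfl Lrfl
theorem f533462 : Led Lsl_gf (LP (LK LD1_c30 LD2_c41 LD3_c42)) = (LP (LK LD1_c30 LD2_c35 LD3_c55)) :=
  Lgr Lrot47 (Lpr_gt (f533460 IH) (Lpe (f436408 IH) (Lpe (f111331 IH) (Lpn (LP (LK LD1_c30 LD2_c35 LD3_c55))))))
theorem f440458 : Led Lsl_ct (LP (LK LD1_c7 LD2_c28 LD3_c14)) = (LP (LK LD1_c14 LD2_c6 LD3_c10)) :=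
  Lre_c IH (LK LD1_c7 LD2_c28 LD3_c14) (LK LD1_c14 LD2_c6 LD3_c10) Lrfl Lrfl
theorem f440461 : Led Lsl_gt (LP (LK LD1_c23 LD2_c40 LD3_c5)) = (LP (LK LD1_c14 LD2_c6 LD3_c10)) :=
  Lre_g IH (LK LD1_c23 LD2_c40 LD3_c5) (LK LD1_c14 LD2_c6 LD3_c10) Lrfl Lrfl
theorem f469929 : Led Lsl_ct (LP (LK LD1_c30 LD2_c41 LD3_c42)) = (LP (LK LD1_c23 LD2_c40 LD3_c5)) :=
  Lgr Lrot64 (Lpr_bt (f469457 IH) (Lpe (f469254 IH) (Lpe (K28.f469452 IH) (Lpr_ct (K28.f459012 IH) (Lpe (K33.f469927 IH) (Lpr_cf (K33.f469924 IH) (Lpe (K33.f116549 IH) (Lpe (K33.f440456 IH) (Lpr_ct (f440458 IH) (Lpe (f440461 IH) (Lpn (LP (LK LD1_c23 LD2_c40 LD3_c5)))))))))))))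
theorem f469921 : Led Lsl_ct (LP (LK LD1_c14 LD2_c6 LD3_c29)) = (LP (LK LD1_c23 LD2_c40 LD3_c26)) :=
  Lre_c IH (LK LD1_c14 LD2_c6 LD3_c29) (LK LD1_c23 LD2_c40 LD3_c26) Lrfl Lrfl
theorem f469696 : Led Lsl_ct (LP (LK LD1_c7 LD2_c2 LD3_c25)) = (LP (LK LD1_c13 LD2_c21 LD3_c5)) :=
  Lre_c IH (LK LD1_c7 LD2_c2 LD3_c25) (LK LD1_c13 LD2_c21 LD3_c5) Lrfl Lrfl
theorem f469697 : Led Lsl_dt (LP (LK LD1_c13 LD2_c21 LD3_c5)) = (LP (LK LD1_c22 LD2_c37 LD3_c41)) :=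
  Lre_d IH (LK LD1_c13 LD2_c21 LD3_c5) (LK LD1_c22 LD2_c37 LD3_c41) Lrfl Lrfl

end

end K34

end

end Cfsg.Agent.Helper28.S1692
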