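import Cfsg.Agent.Lib.Helper28.S1692.Seeds34

set_option autoImplicit false
set_option maxRecDepth 100000
set_option linter.all false

namespace Cfsg.Agent.Helper28.S1692

open Cfsg.Agent.Helper28
open Cfsg.Spor.ON (Gen)

noncomputable section

namespace K35
abbrev LD1_c0 := D1.c0
abbrev LD1_c1 := D1.c1
abbrev LD1_c2 := D1.c2
abbrev LD1_c3 := D1.c3
abbrev LD1_c4 := D1.c4
abbrev LD1_c5 := D1.c5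
abbrev LD1_c6 := D1.c6
abbrev LD1_c7 := D1.c7
abbrev LD1_c8 := D1.c8
abbrev LD1_c9 := D1.c9
abbrev LD1_c10 := D1.c10
abbrev LD1_c11 := D1.c11
abbrev LD1_c12 := D1.c12
abbrev LD1_c13 := D1.c13
abbrev LD1_c14 := D1.c14
abbrev LD1_c15 := D1.c15
abbrev LD1_c16 := D1.c16
abbrev LD1_c17 := D1.c17
abbrev LD1_c18 := D1.c18
abbrev LD1_c19 := D1.c19
abbrev LD1_c20 := D1.c20
abbrev LD1_c21 := D1.c21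
abbrev LD1_c22 := D1.c22
abbrev LD1_c23 := D1.c23
abbrev LD1_c24 := D1.c24
abbrev LD1_c25 := D1.c25
abbrev LD1_c26 := D1.c26
abbrev LD1_c27 := D1.c27
abbrev LD1_c28 := D1.c28
abbrev LD1_c29 := D1.c29
abbrev LD1_c30 := D1.c30
abbrev LD1_c31 := D1.c31
abbrev LD1_c32 := D1.c32
abbrev LD2_c0 := D2.c0
abbrev LD2_c1 := D2.c1
abbrev LD2_c2 := D2.c2
abbrev LD2_c3 := D2.c3
abbrev LD2_c4 := D2.c4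
abbrev LD2_c5 := D2.c5
abbrev LD2_c6 := D2.c6
abbrev LD2_c7 := D2.c7
abbrev LD2_c8 := D2.c8
abbrev LD2_c9 := D2.c9
abbrev LD2_c10 := D2.c10
abbrev LD2_c11 := D2.c11
abbrev LD2_c12 := D2.c12
abbrev LD2_c13 := D2.c13
abbrev LD2_c14 := D2.c14
abbrev LD2_c15 := D2.c15
abbrev LD2_c16 := D2.c16
abbrev LD2_c17 := D2.c17
abbrev LD2_c18 := D2.c18
abbrev LD2_c19 := D2.c19
abbrev LD2_c20 := D2.c20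
abbrev LD2_c21 := D2.c21
abbrev LD2_c22 := D2.c22
abbrev LD2_c23 := D2.c23
abbrev LD2_c24 := D2.c24
abbrev LD2_c25 := D2.c25
abbrev LD2_c26 := D2.c26
abbrev LD2_c27 := D2.c27
abbrev LD2_c28 := D2.c28
abbrev LD2_c29 := D2.c29
abbrev LD2_c30 := D2.c30
abbrev LD2_c31 := D2.c31
abbrev LD2_c32 := D2.c32
abbrev LD2_c33 := D2.c33
abbrev LD2_c34 := D2.c34
abbrev LD2_c35 := D2.c35
abbrev LD2_c36 := D2.c36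
abbrev LD2_c37 := D2.c37
abbrev LD2_c38 := D2.c38
abbrev LD2_c39 := D2.c39
abbrev LD2_c40 := D2.c40
abbrev LD2_c41 := D2.c41
abbrev LD2_c42 := D2.c42
abbrev LD2_c43 := D2.c43
abbrev LD2_c44 := D2.c44
abbrev LD2_c45 := D2.c45
abbrev LD2_c46 := D2.c46
abbrev LD2_c47 := D2.c47
abbrev LD2_c48 := D2.c48
abbrev LD2_c49 := D2.c49
abbrev LD2_c50 := D2.c50
abbrev LD2_c51 := D2.c51
abbrev LD2_c52 := D2.c52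
abbrev LD2_c53 := D2.c53
abbrev LD2_c54 := D2.c54
abbrev LD2_c55 := D2.c55
abbrev LD2_c56 := D2.c56
abbrev LD2_c57 := D2.c57
abbrev LD2_c58 := D2.c58
abbrev LD2_c59 := D2.c59
abbrev LD3_c0 := D3.c0
abbrev LD3_c1 := D3.c1
abbrev LD3_c2 := D3.c2
abbrev LD3_c3 := D3.c3
abbrev LD3_c4 := D3.c4
abbrev LD3_c5 := D3.c5
abbrev LD3_c6 := D3.c6
abbrev LD3_c7 := D3.c7
abbrev LD3_c8 := D3.c8
abbrev LD3_c9 := D3.c9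
abbrev LD3_c10 := D3.c10
abbrev LD3_c11 := D3.c11
abbrev LD3_c12 := D3.c12
abbrev LD3_c13 := D3.c13
abbrev LD3_c14 := D3.c14
abbrev LD3_c15 := D3.c15
abbrev LD3_c16 := D3.c16
abbrev LD3_c17 := D3.c17
abbrev LD3_c18 := D3.c18
abbrev LD3_c19 := D3.c19
abbrev LD3_c20 := D3.c20
abbrev LD3_c21 := D3.c21
abbrev LD3_c22 := D3.c22
abbrev LD3_c23 := D3.c23
abbrev LD3_c24 := D3.c24
abbrev LD3_c25 := D3.c25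
abbrev LD3_c26 := D3.c26
abbrev LD3_c27 := D3.c27
abbrev LD3_c28 := D3.c28
abbrev LD3_c29 := D3.c29
abbrev LD3_c30 := D3.c30
abbrev LD3_c31 := D3.c31
abbrev LD3_c32 := D3.c32
abbrev LD3_c33 := D3.c33
abbrev LD3_c34 := D3.c34
abbrev LD3_c35 := D3.c35
abbrev LD3_c36 := D3.c36
abbrev LD3_c37 := D3.c37
abbrev LD3_c38 := D3.c38
abbrev LD3_c39 := D3.c39
abbrev LD3_c40 := D3.c40
abbrev LD3_c41 := D3.c41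
abbrev LD3_c42 := D3.c42
abbrev LD3_c43 := D3.c43
abbrev LD3_c44 := D3.c44
abbrev LD3_c45 := D3.c45
abbrev LD3_c46 := D3.c46
abbrev LD3_c47 := D3.c47
abbrev LD3_c48 := D3.c48
abbrev LD3_c49 := D3.c49
abbrev LD3_c50 := D3.c50
abbrev LD3_c51 := D3.c51
abbrev LD3_c52 := D3.c52
abbrev LD3_c53 := D3.c53
abbrev LD3_c54 := D3.c54
abbrev LD3_c55 := D3.c55
abbrev LD3_c56 := D3.c56
abbrev LD3_c57 := D3.c57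
abbrev LD3_c58 := D3.c58
abbrev LD3_c59 := D3.c59
abbrev LD3_c60 := D3.c60
abbrev LD3_c61 := D3.c61
abbrev LG_g := Gen.g
abbrev Lsl_gt : Gen × Bool := sl_gt
alias Lfl_gt := fl_gt
alias Lpr_gt := pr_gt
abbrev Lsl_gf : Gen × Bool := sl_gf
alias Lfl_gf := fl_gf
alias Lpr_gf := pr_gf
alias Lre_g := re_g
alias Leoe_g := eoe_g
abbrev LG_a := Gen.a
abbrev Lsl_at : Gen × Bool := sl_at
alias Lfl_at := fl_at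
alias Lpr_at := pr_at
abbrev Lsl_af : Gen × Bool := sl_af
alias Lfl_af := fl_af
alias Lpr_af := pr_af
alias Lre_a := re_a
alias Leoe_a := eoe_a
abbrev LG_b := Gen.b
abbrev Lsl_bt : Gen × Bool := sl_bt
alias Lfl_bt := fl_bt
alias Lpr_bt := pr_bt
abbrev Lsl_bf : Gen × Bool := sl_bf
alias Lfl_bf := fl_bf
alias Lpr_bf := pr_bf
alias Lre_b := re_b
alias Leoe_b := eoe_b
abbrev LG_c := Gen.c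
abbrev Lsl_ct : Gen × Bool := sl_ct
alias Lfl_ct := fl_ct
alias Lpr_ct := pr_ct
abbrev Lsl_cf : Gen × Bool := sl_cf
alias Lfl_cf := fl_cf
alias Lpr_cf := pr_cf
alias Lre_c := re_c
alias Leoe_c := eoe_c
abbrev LG_d := Gen.d
abbrev Lsl_dt : Gen × Bool := sl_dt
alias Lfl_dt := fl_dt
alias Lpr_dt := pr_dt
abbrev Lsl_df : Gen × Bool := sl_df
alias Lfl_df := fl_df
alias Lpr_df := pr_df
alias Lre_d := re_d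
alias Leoe_d := eoe_d
abbrev LG_e := Gen.e
abbrev Lsl_et : Gen × Bool := sl_et
alias Lfl_et := fl_et
alias Lpr_et := pr_et
abbrev Lsl_ef : Gen × Bool := sl_ef
alias Lfl_ef := fl_ef
alias Lpr_ef := pr_ef
alias Lre_e := re_e
alias Leoe_e := eoe_e
abbrev LG_f := Gen.f
abbrev Lsl_ft : Gen × Bool := sl_ft
alias Lfl_ft := fl_ft
alias Lpr_ft := pr_ft
abbrev Lsl_ff : Gen × Bool := sl_ff
alias Lfl_ff := fl_ff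
alias Lpr_ff := pr_ff
alias Lre_f := re_f
alias Leoe_f := eoe_f
abbrev LK := Pt.mk
abbrev LQ : Type := Qt rels S
abbrev LP (p : Pt) : LQ := P p
abbrev Led (l : Gen × Bool) (c : LQ) : LQ := ed l c
abbrev LEOK (x : Gen) (p : Pt) : Prop := EntryOK rels S fwd inv o plet idx x p
alias Lpe := pe
alias Lpn := pn
alias Lgr := gr
alias Lpq := pq
alias Lpqs := pqs
alias Llr := lr
alias Leop := eop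
alias Lefun := efun
alias Lecon := econ
theorem Lrfl {α : Sort _} {a : α} : a = a := rfl
alias Lrot0 := rot0
alias Lrot1 := rot1
alias Lrot2 := rot2
alias Lrot3 := rot3
alias Lrot4 := rot4
alias Lrot5 := rot5
alias Lrot6 := rot6
alias Lrot7 := rot7
alias Lrot8 := rot8
alias Lrot9 := rot9
alias Lrot10 := rot10
alias Lrot11 := rot11
alias Lrot12 := rot12
alias Lrot13 := rot13
alias Lrot14 := rot14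
alias Lrot15 := rot15
alias Lrot16 := rot16
alias Lrot17 := rot17
alias Lrot18 := rot18
alias Lrot19 := rot19
alias Lrot20 := rot20
alias Lrot21 := rot21
alias Lrot22 := rot22
alias Lrot23 := rot23
alias Lrot24 := rot24
alias Lrot25 := rot25
alias Lrot26 := rot26
alias Lrot28 := rot28
alias Lrot29 := rot29
alias Lrot30 := rot30
alias Lrot31 := rot31
alias Lrot33 := rot33
alias Lrot34 := rot34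
alias Lrot35 := rot35
alias Lrot36 := rot36
alias Lrot37 := rot37
alias Lrot38 := rot38
alias Lrot39 := rot39
alias Lrot40 := rot40
alias Lrot41 := rot41
alias Lrot42 := rot42
alias Lrot43 := rot43
alias Lrot44 := rot44
alias Lrot45 := rot45
alias Lrot46 := rot46
alias Lrot47 := rot47
alias Lrot48 := rot48
alias Lrot49 := rot49
alias Lrot50 := rot50
alias Lrot51 := rot51
alias Lrot52 := rot52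
alias Lrot53 := rot53
alias Lrot54 := rot54
alias Lrot55 := rot55
alias Lrot56 := rot56
alias Lrot57 := rot57
alias Lrot58 := rot58
alias Lrot59 := rot59
alias Lrot60 := rot60
alias Lrot61 := rot61
alias Lrot62 := rot62
alias Lrot63 := rot63
alias Lrot64 := rot64
alias Lrot65 := rot65
alias Lrot66 := rot66
alias Lrot67 := rot67
alias Lrot68 := rot68
alias Lrot69 := rot69
alias Lrot70 := rot70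
alias Lrot71 := rot71
alias Lrot72 := rot72
alias Lrot73 := rot73
alias Lrot74 := rot74
alias Lrot75 := rot75
alias Lrot76 := rot76
alias Lrot77 := rot77
alias Lrot78 := rot78
alias Lrot79 := rot79
alias Lrot80 := rot80
alias Lrot81 := rot81
alias Lrot82 := rot82
alias Lrot83 := rot83
alias Lrot84 := rot84
alias Lrot86 := rot86
alias Lrot87 := rot87
alias Lrot88 := rot88
alias Lrot90 := rot90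
alias Lrot91 := rot91
alias Lrot92 := rot92
alias Lrot93 := rot93
alias Lrot94 := rot94
alias Lrot95 := rot95
alias Lrot96 := rot96
alias Lrot97 := rot97
alias Lrot98 := rot98
alias Lrot99 := rot99
alias Lrot100 := rot100
alias Lrot101 := rot101
alias Lrot103 := rot103
alias Lrot104 := rot104
alias Lrot105 := rot105
alias Lrot106 := rot106
alias Lrot107 := rot107
alias Lrot108 := rot108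
alias Lrot109 := rot109
alias Lrot110 := rot110
alias Lrot111 := rot111
alias Lrot112 := rot112
alias Lrot113 := rot113
alias Lrot114 := rot114
alias Lrot117 := rot117
alias Lrot118 := rot118
alias Lrot119 := rot119
alias Lrot120 := rot120
alias Lrot121 := rot121
alias Lrot122 := rot122
alias Lrot123 := rot123
alias Lrot124 := rot124
alias Lrot125 := rot125
alias Lrot126 := rot126
alias Lrot127 := rot127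
alias Lrot128 := rot128
alias Lrot129 := rot129
alias Lrot130 := rot130
alias Lrot131 := rot131
alias Lrot132 := rot132
alias Lrot134 := rot134
alias Lrot135 := rot135
alias Lrot136 := rot136
alias Lrot137 := rot137
alias Lrot138 := rot138
alias Lrot139 := rot139
alias Lrot141 := rot141
alias Lrot142 := rot142
alias Lrot143 := rot143
alias Lrot144 := rot144
alias Lrot145 := rot145
alias Lrot146 := rot146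
alias Lrot147 := rot147
alias Lrot148 := rot148
alias Lrot149 := rot149
alias Lrot150 := rot150
alias Lrot151 := rot151
alias Lrot152 := rot152
alias Lrot153 := rot153
alias Lrot154 := rot154
alias Lrot155 := rot155
alias Lrot156 := rot156
alias Lrot158 := rot158
alias Lrot159 := rot159
alias Lrot160 := rot160
alias Lrot161 := rot161
alias Lrot162 := rot162
alias Lrot163 := rot163
alias Lrot164 := rot164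
alias Lrot165 := rot165
alias Lrot166 := rot166
alias Lrot167 := rot167
alias Lrot168 := rot168
alias Lrot169 := rot169
alias Lrot170 := rot170
alias Lrot172 := rot172
alias Lrot173 := rot173
alias Lrot179 := rot179
alias Lrot181 := rot181
alias Lrot185 := rot185
alias Lrot190 := rot190

section
variable (IH : IHT)
include IH

theorem f469698 : Led Lsl_ct (LP (LK LD1_c30 LD2_c37 LD3_c4)) = (LP (LK LD1_c22 LD2_c37 LD3_c41)) :=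
  Lre_c IH (LK LD1_c30 LD2_c37 LD3_c4) (LK LD1_c22 LD2_c37 LD3_c41) Lrfl Lrfl
theorem f469936 : Led Lsl_gf (LP (LK LD1_c30 LD2_c37 LD3_c4)) = (LP (LK LD1_c23 LD2_c40 LD3_c26)) :=
  Lgr Lrot104 (Lpr_ct (f469698 IH) (Lpe (K34.f469697 IH) (Lpe (K34.f469696 IH) (Lpe (K34.f469695 IH) (Lpe (K34.f469694 IH) (Lpr_gf (K34.f469688 IH) (Lpe (K34.f122083 IH) (Lpr_gt (K34.f469933 IH) (Lpr_ct (K34.f469921 IH) (Lpn (LP (LK LD1_c23 LD2_c40 LD3_c26))))))))))))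
theorem f469939 : Led Lsl_ct (LP (LK LD1_c22 LD2_c37 LD3_c41)) = (LP (LK LD1_c30 LD2_c37 LD3_c4)) :=
  Lre_c IH (LK LD1_c22 LD2_c37 LD3_c41) (LK LD1_c30 LD2_c37 LD3_c4) Lrfl Lrfl
theorem f533466 : Led Lsl_bt (LP (LK LD1_c22 LD2_c37 LD3_c41)) = (LP (LK LD1_c30 LD2_c35 LD3_c55)) :=
  Lgr Lrot130 (Lpr_ct (f469939 IH) (Lpr_gf (f469936 IH) (Lpe (K34.f469921 IH) (Lpr_bt (K34.f469918 IH) (Lpe (K33.f116549 IH) (Lpe (K33.f440456 IH) (Lpr_ct (K34.f440458 IH) (Lpe (K34.f440461 IH) (Lpe (K34.f469929 IH) (Lpr_gf (K34.f533462 IH) (Lpn (LP (LK LD1_c30 LD2_c35 LD3_c55)))))))))))))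
theorem f533473 : Led Lsl_ff (LP (LK LD1_c22 LD2_c37 LD3_c41)) = (LP (LK LD1_c30 LD2_c7 LD3_c27)) :=
  Lgr Lrot25 (Lpr_bt (f533466 IH) (Lpr_ft (K34.f111331 IH) (Lpe (K34.f111324 IH) (Lpn (LP (LK LD1_c30 LD2_c7 LD3_c27))))))
theorem f533479 : Led Lsl_ft (LP (LK LD1_c22 LD2_c37 LD3_c41)) = (LP (LK LD1_c30 LD2_c7 LD3_c27)) :=
  Lgr Lrot48 (Lpr_ff (f533473 IH) (Lpn (LP (LK LD1_c30 LD2_c7 LD3_c27))))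
theorem f436410 : Led Lsl_bt (LP (LK LD1_c22 LD2_c35 LD3_c31)) = (LP (LK LD1_c13 LD2_c54 LD3_c29)) :=
  Lgr Lrot127 (Lpr_bf (K34.f436406 IH) (Lpn (LP (LK LD1_c13 LD2_c54 LD3_c29))))
theorem f436373 : Led Lsl_bt (LP (LK LD1_c14 LD2_c3 LD3_c57)) = (LP (LK LD1_c23 LD2_c37 LD3_c4)) :=
  Lre_b IH (LK LD1_c14 LD2_c3 LD3_c57) (LK LD1_c23 LD2_c37 LD3_c4) Lrfl Lrfl
theorem f111258 : Led Lsl_dt (LP (LK LD1_c22 LD2_c35 LD3_c22)) = (LP (LK LD1_c13 LD2_c19 LD3_c0)) :=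
  Lre_d IH (LK LD1_c22 LD2_c35 LD3_c22) (LK LD1_c13 LD2_c19 LD3_c0) Lrfl Lrfl
theorem f147829 : Led Lsl_af (LP (LK LD1_c22 LD2_c35 LD3_c22)) = (LP (LK LD1_c23 LD2_c37 LD3_c4)) :=
  Lgr Lrot117 (Lpr_dt (f111258 IH) (Lpr_at (K7.f147821 IH) (Lpr_dt (K34.f147828 IH) (Lpn (LP (LK LD1_c23 LD2_c37 LD3_c4))))))
theorem f436444 : Led Lsl_af (LP (LK LD1_c22 LD2_c35 LD3_c31)) = (LP (LK LD1_c30 LD2_c7 LD3_c27)) :=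
  Lgr Lrot36 (Lpr_bt (f436410 IH) (Lpe (K34.f436340 IH) (Lpr_bt (f436373 IH) (Lpe (f147829 IH) (Lpe (K34.f111324 IH) (Lpn (LP (LK LD1_c30 LD2_c7 LD3_c27))))))))
theorem f533481 : Led Lsl_af (LP (LK LD1_c22 LD2_c37 LD3_c41)) = (LP (LK LD1_c30 LD2_c34 LD3_c2)) :=
  Lgr Lrot45 (Lpr_ft (f533479 IH) (Lpe (f436444 IH) (Lpr_ft (K34.f533363 IH) (Lpn (LP (LK LD1_c30 LD2_c34 LD3_c2))))))
theorem f459319 : Led Lsl_dt (LP (LK LD1_c22 LD2_c44 LD3_c15)) = (LP (LK LD1_c13 LD2_c25 LD3_c23)) :=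
  Lre_d IH (LK LD1_c22 LD2_c44 LD3_c15) (LK LD1_c13 LD2_c25 LD3_c23) Lrfl Lrfl
theorem f533009 : Led Lsl_ft (LP (LK LD1_c14 LD2_c3 LD3_c57)) = (LP (LK LD1_c22 LD2_c44 LD3_c15)) :=
  Lgr Lrot54 (Lpe (K34.f203585 IH) (Lpr_ff (K34.f533005 IH) (Lpe (f459319 IH) (Lpn (LP (LK LD1_c22 LD2_c44 LD3_c15))))))
theorem f533361 : Led Lsl_at (LP (LK LD1_c22 LD2_c44 LD3_c15)) = (LP (LK LD1_c22 LD2_c42 LD3_c57)) :=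
  Lgr Lrot66 (Lpe (f533009 IH) (Lpr_af (K34.f436340 IH) (Lpr_ff (K34.f533352 IH) (Lpn (LP (LK LD1_c22 LD2_c42 LD3_c57))))))
theorem f533484 : Led Lsl_bt (LP (LK LD1_c30 LD2_c41 LD3_c21)) = (LP (LK LD1_c22 LD2_c44 LD3_c15)) :=
  Lre_b IH (LK LD1_c30 LD2_c41 LD3_c21) (LK LD1_c22 LD2_c44 LD3_c15) Lrfl Lrfl
theorem f533485 : Led Lsl_at (LP (LK LD1_c30 LD2_c35 LD3_c55)) = (LP (LK LD1_c30 LD2_c41 LD3_c21)) :=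
  Lgr Lrot67 (Lpe (f533466 IH) (Lpr_af (f533481 IH) (Lpe (K34.f469856 IH) (Lpe (f533361 IH) (Lpe (f533484 IH) (Lpn (LP (LK LD1_c30 LD2_c41 LD3_c21))))))))
theorem f111264 : Led Lsl_dt (LP (LK LD1_c22 LD2_c35 LD3_c23)) = (LP (LK LD1_c30 LD2_c35 LD3_c55)) :=
  Lre_d IH (LK LD1_c22 LD2_c35 LD3_c23) (LK LD1_c30 LD2_c35 LD3_c55) Lrfl Lrfl
theorem f533381 : Led Lsl_dt (LP (LK LD1_c30 LD2_c41 LD3_c21)) = (LP (LK LD1_c22 LD2_c44 LD3_c13)) :=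
  Lre_d IH (LK LD1_c30 LD2_c41 LD3_c21) (LK LD1_c22 LD2_c44 LD3_c13) Lrfl Lrfl
theorem f533495 : Led Lsl_af (LP (LK LD1_c22 LD2_c35 LD3_c23)) = (LP (LK LD1_c22 LD2_c44 LD3_c13)) :=
  Lgr Lrot117 (Lpr_dt (f111264 IH) (Lpr_at (f533485 IH) (Lpr_dt (f533381 IH) (Lpn (LP (LK LD1_c22 LD2_c44 LD3_c13))))))
theorem f111270 : Led Lsl_ct (LP (LK LD1_c22 LD2_c35 LD3_c23)) = (LP (LK LD1_c13 LD2_c19 LD3_c3)) :=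
  Lre_c IH (LK LD1_c22 LD2_c35 LD3_c23) (LK LD1_c13 LD2_c19 LD3_c3) Lrfl Lrfl
theorem f533508 : Led Lsl_ct (LP (LK LD1_c21 LD2_c41 LD3_c16)) = (LP (LK LD1_c22 LD2_c44 LD3_c13)) :=
  Lgr Lrot111 (Lpe (K34.f111266 IH) (Lpe (f111270 IH) (Lpr_af (f533495 IH) (Lpn (LP (LK LD1_c22 LD2_c44 LD3_c13))))))
theorem f532959 : Led Lsl_bt (LP (LK LD1_c21 LD2_c41 LD3_c16)) = (LP (LK LD1_c23 LD2_c26 LD3_c50)) :=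
  Lgr Lrot35 (Lpe (K34.f111135 IH) (Lpe (K34.f111265 IH) (Lpr_ff (K34.f532945 IH) (Lpn (LP (LK LD1_c23 LD2_c26 LD3_c50))))))
theorem f123749 : Led Lsl_ct (LP (LK LD1_c23 LD2_c40 LD3_c46)) = (LP (LK LD1_c14 LD2_c6 LD3_c44)) :=
  Lre_c IH (LK LD1_c23 LD2_c40 LD3_c46) (LK LD1_c14 LD2_c6 LD3_c44) Lrfl Lrfl
theorem f123748 : Led Lsl_gt (LP (LK LD1_c14 LD2_c6 LD3_c44)) = (LP (LK LD1_c7 LD2_c28 LD3_c34)) :=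
  Lre_g IH (LK LD1_c14 LD2_c6 LD3_c44) (LK LD1_c7 LD2_c28 LD3_c34) Lrfl Lrfl
theorem f464497 : Led Lsl_af (LP (LK LD1_c13 LD2_c3 LD3_c49)) = (LP (LK LD1_c14 LD2_c16 LD3_c0)) :=
  Lgr Lrot0 (Lpr_at (K28.f464493 IH) (Lpn (LP (LK LD1_c14 LD2_c16 LD3_c0))))
theorem f419750 : Led Lsl_ft (LP (LK LD1_c7 LD2_c33 LD3_c58)) = (LP (LK LD1_c14 LD2_c16 LD3_c0)) :=
  Lre_f IH (LK LD1_c7 LD2_c33 LD3_c58) (LK LD1_c14 LD2_c16 LD3_c0) Lrfl Lrfl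
theorem f489682 : Led Lsl_gf (LP (LK LD1_c13 LD2_c3 LD3_c49)) = (LP (LK LD1_c14 LD2_c15 LD3_c59)) :=
  Lgr Lrot76 (Lpr_af (f464497 IH) (Lpe (f419750 IH) (Lpr_gt (K33.f419423 IH) (Lpn (LP (LK LD1_c14 LD2_c15 LD3_c59))))))
theorem f116145 : Led Lsl_gt (LP (LK LD1_c3 LD2_c44 LD3_c3)) = (LP (LK LD1_c7 LD2_c28 LD3_c55)) :=
  Lre_g IH (LK LD1_c3 LD2_c44 LD3_c3) (LK LD1_c7 LD2_c28 LD3_c55) Lrfl Lrfl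
theorem f116156 : Led Lsl_bt (LP (LK LD1_c14 LD2_c7 LD3_c23)) = (LP (LK LD1_c7 LD2_c28 LD3_c55)) :=
  Lre_b IH (LK LD1_c14 LD2_c7 LD3_c23) (LK LD1_c7 LD2_c28 LD3_c55) Lrfl Lrfl
theorem f489684 : Led Lsl_ct (LP (LK LD1_c14 LD2_c7 LD3_c23)) = (LP (LK LD1_c14 LD2_c15 LD3_c59)) :=
  Lgr Lrot64 (Lpr_bt (f116156 IH) (Lpe (f116145 IH) (Lpe (K34.f116135 IH) (Lpe (K4.f116138 IH) (Lpe (K28.f87521 IH) (Lpe (K28.f469637 IH) (Lpe (K28.f469134 IH) (Lpe (K28.f468263 IH) (Lpr_ct (K28.f468266 IH) (Lpr_gf (f489682 IH) (Lpn (LP (LK LD1_c14 LD2_c15 LD3_c59)))))))))))))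
theorem f470237 : Led Lsl_bt (LP (LK LD1_c7 LD2_c28 LD3_c55)) = (LP (LK LD1_c14 LD2_c7 LD3_c23)) :=
  Lre_b IH (LK LD1_c7 LD2_c28 LD3_c55) (LK LD1_c14 LD2_c7 LD3_c23) Lrfl Lrfl
theorem f469179 : Led Lsl_ff (LP (LK LD1_c7 LD2_c4 LD3_c57)) = (LP (LK LD1_c3 LD2_c44 LD3_c3)) :=
  Lgr Lrot25 (Lpr_bt (K33.f455758 IH) (Lpr_ft (K28.f469177 IH) (Lpr_bt (K34.f116135 IH) (Lpn (LP (LK LD1_c3 LD2_c44 LD3_c3))))))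
theorem f469256 : Led Lsl_at (LP (LK LD1_c7 LD2_c4 LD3_c57)) = (LP (LK LD1_c13 LD2_c25 LD3_c31)) :=
  Lre_a IH (LK LD1_c7 LD2_c4 LD3_c57) (LK LD1_c13 LD2_c25 LD3_c31) Lrfl Lrfl
theorem f470232 : Led Lsl_gf (LP (LK LD1_c13 LD2_c25 LD3_c31)) = (LP (LK LD1_c7 LD2_c28 LD3_c55)) :=
  Lgr Lrot76 (Lpe (f469256 IH) (Lpr_ff (f469179 IH) (Lpr_gt (f116145 IH) (Lpn (LP (LK LD1_c7 LD2_c28 LD3_c55))))))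
theorem f466525 : Led Lsl_ff (LP (LK LD1_c13 LD2_c26 LD3_c52)) = (LP (LK LD1_c7 LD2_c6 LD3_c5)) :=
  Lgr Lrot23 (Lpr_ct (K34.f466520 IH) (Lpe (K28.f460967 IH) (Lpr_ct (K28.f92461 IH) (Lpn (LP (LK LD1_c7 LD2_c6 LD3_c5))))))
theorem f92421 : Led Lsl_at (LP (LK LD1_c7 LD2_c31 LD3_c60)) = (LP (LK LD1_c3 LD2_c45 LD3_c42)) :=
  Lre_a IH (LK LD1_c7 LD2_c31 LD3_c60) (LK LD1_c3 LD2_c45 LD3_c42) Lrfl Lrfl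
theorem f92423 : Led Lsl_cf (LP (LK LD1_c7 LD2_c31 LD3_c60)) = (LP (LK LD1_c7 LD2_c6 LD3_c5)) :=
  Lgr Lrot1 (Lpr_at (f92421 IH) (Lpr_ct (K4.f92415 IH) (Lpr_at (K33.f92422 IH) (Lpn (LP (LK LD1_c7 LD2_c6 LD3_c5))))))
theorem f116472 : Led Lsl_bt (LP (LK LD1_c7 LD2_c12 LD3_c2)) = (LP (LK LD1_c7 LD2_c6 LD3_c5)) :=
  Lgr Lrot128 (Lpr_cf (K28.f116158 IH) (Lpe (K28.f116282 IH) (Lpr_cf (K28.f116468 IH) (Lpe (K28.f111468 IH) (Lpr_cf (f92423 IH) (Lpn (LP (LK LD1_c7 LD2_c6 LD3_c5))))))))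
theorem f116246 : Led Lsl_ft (LP (LK LD1_c13 LD2_c38 LD3_c14)) = (LP (LK LD1_c7 LD2_c12 LD3_c2)) :=
  Lre_f IH (LK LD1_c13 LD2_c38 LD3_c14) (LK LD1_c7 LD2_c12 LD3_c2) Lrfl Lrfl
theorem f466527 : Led Lsl_bt (LP (LK LD1_c13 LD2_c26 LD3_c52)) = (LP (LK LD1_c13 LD2_c38 LD3_c14)) :=
  Lgr Lrot35 (Lpr_ff (f466525 IH) (Lpe (f116472 IH) (Lpe (f116246 IH) (Lpn (LP (LK LD1_c13 LD2_c38 LD3_c14))))))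
theorem f466529 : Led Lsl_bf (LP (LK LD1_c13 LD2_c26 LD3_c52)) = (LP (LK LD1_c13 LD2_c38 LD3_c14)) :=
  Lgr Lrot24 (Lpr_bt (f466527 IH) (Lpn (LP (LK LD1_c13 LD2_c38 LD3_c14))))
theorem f439545 : Led Lsl_bt (LP (LK LD1_c1 LD2_c46 LD3_c14)) = (LP (LK LD1_c3 LD2_c38 LD3_c29)) :=
  Lre_b IH (LK LD1_c1 LD2_c46 LD3_c14) (LK LD1_c3 LD2_c38 LD3_c29) Lrfl Lrfl
theorem f439550 : Led Lsl_gt (LP (LK LD1_c3 LD2_c38 LD3_c29)) = (LP (LK LD1_c7 LD2_c17 LD3_c17)) :=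
  Lre_g IH (LK LD1_c3 LD2_c38 LD3_c29) (LK LD1_c7 LD2_c17 LD3_c17) Lrfl Lrfl
theorem f470234 : Led Lsl_ct (LP (LK LD1_c7 LD2_c17 LD3_c17)) = (LP (LK LD1_c7 LD2_c28 LD3_c55)) :=
  Lgr Lrot91 (Lpe (f439550 IH) (Lpe (f439545 IH) (Lpr_ct (K28.f439548 IH) (Lpe (K28.f121765 IH) (Lpr_cf (K33.f464567 IH) (Lpr_bt (K33.f464564 IH) (Lpe (K34.f466503 IH) (Lpr_bf (f466529 IH) (Lpe (K28.f469267 IH) (Lpr_gf (f470232 IH) (Lpn (LP (LK LD1_c7 LD2_c28 LD3_c55)))))))))))))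
theorem f439555 : Led Lsl_bt (LP (LK LD1_c13 LD2_c47 LD3_c17)) = (LP (LK LD1_c7 LD2_c17 LD3_c17)) :=
  Lre_b IH (LK LD1_c13 LD2_c47 LD3_c17) (LK LD1_c7 LD2_c17 LD3_c17) Lrfl Lrfl
theorem f17832 : Led Lsl_ct (LP (LK LD1_c7 LD2_c12 LD3_c34)) = (LP (LK LD1_c13 LD2_c17 LD3_c27)) :=
  Lgr Lrot83 (Lpe (K28.f17830 IH) (Lpe (K24.f17829 IH) (Lpe (K28.f17828 IH) (Lpr_cf (K4.f17816 IH) (Lpe (K4.f17831 IH) (Lpn (LP (LK LD1_c13 LD2_c17 LD3_c27))))))))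
theorem f17840 : Led Lsl_gt (LP (LK LD1_c22 LD2_c33 LD3_c8)) = (LP (LK LD1_c13 LD2_c17 LD3_c27)) :=
  Lre_g IH (LK LD1_c22 LD2_c33 LD3_c8) (LK LD1_c13 LD2_c17 LD3_c27) Lrfl Lrfl
theorem f489657 : Led Lsl_ct (LP (LK LD1_c13 LD2_c47 LD3_c17)) = (LP (LK LD1_c22 LD2_c33 LD3_c8)) :=
  Lgr Lrot64 (Lpr_bt (f439555 IH) (Lpe (f439550 IH) (Lpe (f439545 IH) (Lpr_ct (K28.f439548 IH) (Lpe (K28.f121765 IH) (Lpr_cf (K33.f464567 IH) (Lpe (K28.f108321 IH) (Lpe (K4.f17844 IH) (Lpr_ct (f17832 IH) (Lpe (f17840 IH) (Lpn (LP (LK LD1_c22 LD2_c33 LD3_c8)))))))))))))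
theorem f489659 : Led Lsl_cf (LP (LK LD1_c13 LD2_c47 LD3_c17)) = (LP (LK LD1_c22 LD2_c33 LD3_c8)) :=
  Lgr Lrot11 (Lpr_ct (f489657 IH) (Lpn (LP (LK LD1_c22 LD2_c33 LD3_c8))))
theorem f489686 : Led Lsl_bf (LP (LK LD1_c22 LD2_c33 LD3_c8)) = (LP (LK LD1_c14 LD2_c15 LD3_c59)) :=
  Lgr Lrot90 (Lpe (f489659 IH) (Lpr_bt (f439555 IH) (Lpr_ct (f470234 IH) (Lpr_bt (f470237 IH) (Lpr_ct (f489684 IH) (Lpn (LP (LK LD1_c14 LD2_c15 LD3_c59))))))))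
theorem f489688 : Led Lsl_cf (LP (LK LD1_c14 LD2_c7 LD3_c23)) = (LP (LK LD1_c14 LD2_c15 LD3_c59)) :=
  Lgr Lrot11 (Lpr_ct (f489684 IH) (Lpn (LP (LK LD1_c14 LD2_c15 LD3_c59))))
theorem f533515 : Led Lsl_gt (LP (LK LD1_c14 LD2_c7 LD3_c23)) = (LP (LK LD1_c22 LD2_c44 LD3_c13)) :=
  Lgr Lrot65 (Lpr_cf (f489688 IH) (Lpe (f489686 IH) (Lpe (K34.f17926 IH) (Lpe (K4.f111814 IH) (Lpr_ct (K24.f123728 IH) (Lpe (f123748 IH) (Lpe (f123749 IH) (Lpe (K34.f473473 IH) (Lpe (f532959 IH) (Lpr_ct (f533508 IH) (Lpn (LP (LK LD1_c22 LD2_c44 LD3_c13)))))))))))))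
theorem f470238 : Led Lsl_cf (LP (LK LD1_c7 LD2_c17 LD3_c17)) = (LP (LK LD1_c7 LD2_c28 LD3_c55)) :=
  Lgr Lrot11 (Lpr_ct (f470234 IH) (Lpn (LP (LK LD1_c7 LD2_c28 LD3_c55))))
theorem f209156 : Led Lsl_bt (LP (LK LD1_c7 LD2_c27 LD3_c58)) = (LP (LK LD1_c3 LD2_c43 LD3_c40)) :=
  Lre_b IH (LK LD1_c7 LD2_c27 LD3_c58) (LK LD1_c3 LD2_c43 LD3_c40) Lrfl Lrfl
theorem f463564 : Led Lsl_bt (LP (LK LD1_c3 LD2_c43 LD3_c40)) = (LP (LK LD1_c7 LD2_c27 LD3_c58)) :=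
  Lre_b IH (LK LD1_c3 LD2_c43 LD3_c40) (LK LD1_c7 LD2_c27 LD3_c58) Lrfl Lrfl
theorem f18926 : Led Lsl_bt (LP (LK LD1_c13 LD2_c14 LD3_c58)) = (LP (LK LD1_c6 LD2_c58 LD3_c45)) :=
  Lre_b IH (LK LD1_c13 LD2_c14 LD3_c58) (LK LD1_c6 LD2_c58 LD3_c45) Lrfl Lrfl
theorem f463565 : Led Lsl_ct (LP (LK LD1_c7 LD2_c27 LD3_c58)) = (LP (LK LD1_c13 LD2_c14 LD3_c58)) :=
  Lgr Lrot83 (Lpe (f463564 IH) (Lpr_cf (K28.f463548 IH) (Lpe (K28.f460859 IH) (Lpr_cf (K28.f460850 IH) (Lpe (f18926 IH) (Lpn (LP (LK LD1_c13 LD2_c14 LD3_c58))))))))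
theorem f533513 : Led Lsl_cf (LP (LK LD1_c21 LD2_c41 LD3_c16)) = (LP (LK LD1_c22 LD2_c44 LD3_c13)) :=
  Lgr Lrot11 (Lpr_ct (f533508 IH) (Lpn (LP (LK LD1_c22 LD2_c44 LD3_c13))))
theorem f533521 : Led Lsl_gf (LP (LK LD1_c13 LD2_c14 LD3_c58)) = (LP (LK LD1_c21 LD2_c41 LD3_c16)) :=
  Lgr Lrot129 (Lpe (f463565 IH) (Lpr_bt (f209156 IH) (Lpr_gt (K28.f209147 IH) (Lpe (K34.f209119 IH) (Lpe (K34.f439220 IH) (Lpr_gt (f439550 IH) (Lpr_cf (f470238 IH) (Lpr_bt (f470237 IH) (Lpr_gt (f533515 IH) (Lpe (f533513 IH) (Lpn (LP (LK LD1_c21 LD2_c41 LD3_c16)))))))))))))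
theorem f533523 : Led Lsl_gt (LP (LK LD1_c13 LD2_c14 LD3_c58)) = (LP (LK LD1_c7 LD2_c1 LD3_c14)) :=
  Lgr Lrot46 (Lpr_gf (f533521 IH) (Lpr_ft (K34.f111128 IH) (Lpe (K7.f111260 IH) (Lpn (LP (LK LD1_c7 LD2_c1 LD3_c14))))))
theorem f122069 : Led Lsl_ct (LP (LK LD1_c7 LD2_c22 LD3_c16)) = (LP (LK LD1_c13 LD2_c18 LD3_c10)) :=
  Lgr Lrot15 (Lpe (K28.f122068 IH) (Lpr_cf (K4.f122061 IH) (Lpe (K4.f122050 IH) (Lpn (LP (LK LD1_c13 LD2_c18 LD3_c10))))))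
theorem f121879 : Led Lsl_bt (LP (LK LD1_c7 LD2_c0 LD3_c50)) = (LP (LK LD1_c13 LD2_c18 LD3_c10)) :=
  Lre_b IH (LK LD1_c7 LD2_c0 LD3_c50) (LK LD1_c13 LD2_c18 LD3_c10) Lrfl Lrfl
theorem f464070 : Led Lsl_bt (LP (LK LD1_c22 LD2_c32 LD3_c51)) = (LP (LK LD1_c13 LD2_c17 LD3_c9)) :=
  Lre_b IH (LK LD1_c22 LD2_c32 LD3_c51) (LK LD1_c13 LD2_c17 LD3_c9) Lrfl Lrfl
theorem f464082 : Led Lsl_ft (LP (LK LD1_c13 LD2_c18 LD3_c10)) = (LP (LK LD1_c22 LD2_c32 LD3_c51)) :=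
  Lgr Lrot75 (Lpe (f121879 IH) (Lpr_ff (K28.f464080 IH) (Lpe (f464070 IH) (Lpn (LP (LK LD1_c22 LD2_c32 LD3_c51))))))
theorem f469667 : Led Lsl_cf (LP (LK LD1_c13 LD2_c55 LD3_c61)) = (LP (LK LD1_c22 LD2_c32 LD3_c51)) :=
  Lgr Lrot108 (Lpr_ft (K34.f469652 IH) (Lpr_ct (f122069 IH) (Lpr_ft (f464082 IH) (Lpn (LP (LK LD1_c22 LD2_c32 LD3_c51))))))
theorem f469789 : Led Lsl_cf (LP (LK LD1_c13 LD2_c24 LD3_c16)) = (LP (LK LD1_c7 LD2_c22 LD3_c22)) :=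
  Lgr Lrot1 (Lpr_at (K28.f464504 IH) (Lpe (f469667 IH) (Lpr_at (K34.f469678 IH) (Lpn (LP (LK LD1_c7 LD2_c22 LD3_c22))))))
theorem f121886 : Led Lsl_gt (LP (LK LD1_c13 LD2_c18 LD3_c10)) = (LP (LK LD1_c22 LD2_c34 LD3_c7)) :=
  Lre_g IH (LK LD1_c13 LD2_c18 LD3_c10) (LK LD1_c22 LD2_c34 LD3_c7) Lrfl Lrfl
theorem f464506 : Led Lsl_gf (LP (LK LD1_c13 LD2_c24 LD3_c16)) = (LP (LK LD1_c22 LD2_c34 LD3_c7)) :=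
  Lgr Lrot76 (Lpr_af (K28.f464499 IH) (Lpe (f464082 IH) (Lpr_gt (f121886 IH) (Lpn (LP (LK LD1_c22 LD2_c34 LD3_c7))))))
theorem f463567 : Led Lsl_ct (LP (LK LD1_c3 LD2_c43 LD3_c40)) = (LP (LK LD1_c3 LD2_c32 LD3_c4)) :=
  Lgr Lrot59 (Lpr_cf (K28.f463548 IH) (Lpn (LP (LK LD1_c3 LD2_c32 LD3_c4))))
theorem f147181 : Led Lsl_bt (LP (LK LD1_c1 LD2_c47 LD3_c37)) = (LP (LK LD1_c3 LD2_c41 LD3_c21)) :=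
  Lre_b IH (LK LD1_c1 LD2_c47 LD3_c37) (LK LD1_c3 LD2_c41 LD3_c21) Lrfl Lrfl
theorem f147280 : Led Lsl_gt (LP (LK LD1_c3 LD2_c41 LD3_c21)) = (LP (LK LD1_c7 LD2_c23 LD3_c8)) :=
  Lre_g IH (LK LD1_c3 LD2_c41 LD3_c21) (LK LD1_c7 LD2_c23 LD3_c8) Lrfl Lrfl
theorem f147179 : Led Lsl_bt (LP (LK LD1_c13 LD2_c57 LD3_c54)) = (LP (LK LD1_c7 LD2_c23 LD3_c8)) :=
  Lre_b IH (LK LD1_c13 LD2_c57 LD3_c54) (LK LD1_c7 LD2_c23 LD3_c8) Lrfl Lrfl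
theorem f469791 : Led Lsl_cf (LP (LK LD1_c22 LD2_c34 LD3_c7)) = (LP (LK LD1_c13 LD2_c57 LD3_c54)) :=
  Lgr Lrot160 (Lpe (f464506 IH) (Lpr_cf (f469789 IH) (Lpr_bt (K28.f209154 IH) (Lpr_gt (K28.f209148 IH) (Lpr_ct (f463567 IH) (Lpr_gt (K28.f90119 IH) (Lpe (K34.f124031 IH) (Lpr_bt (f147181 IH) (Lpr_gt (f147280 IH) (Lpe (f147179 IH) (Lpn (LP (LK LD1_c13 LD2_c57 LD3_c54)))))))))))))
theorem f533530 : Led Lsl_gf (LP (LK LD1_c13 LD2_c57 LD3_c54)) = (LP (LK LD1_c21 LD2_c41 LD3_c12)) :=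
  Lgr Lrot181 (Lpe (f469791 IH) (Lpe (f464506 IH) (Lpr_cf (f469789 IH) (Lpr_bt (K28.f209154 IH) (Lpr_gt (K28.f209148 IH) (Lpe (f209156 IH) (Lpr_ct (f463565 IH) (Lpr_gt (f533523 IH) (Lpe (K34.f111257 IH) (Lpe (K34.f111175 IH) (Lpn (LP (LK LD1_c21 LD2_c41 LD3_c12)))))))))))))
theorem f469704 : Led Lsl_ct (LP (LK LD1_c13 LD2_c21 LD3_c5)) = (LP (LK LD1_c7 LD2_c2 LD3_c25)) :=
  Lre_c IH (LK LD1_c13 LD2_c21 LD3_c5) (LK LD1_c7 LD2_c2 LD3_c25) Lrfl Lrfl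
theorem f533397 : Led Lsl_ff (LP (LK LD1_c13 LD2_c21 LD3_c5)) = (LP (LK LD1_c21 LD2_c41 LD3_c12)) :=
  Lgr Lrot23 (Lpr_ct (f469704 IH) (Lpr_ft (K34.f533393 IH) (Lpr_ct (K4.f111096 IH) (Lpn (LP (LK LD1_c21 LD2_c41 LD3_c12))))))
theorem f533391 : Led Lsl_at (LP (LK LD1_c13 LD2_c21 LD3_c5)) = (LP (LK LD1_c22 LD2_c32 LD3_c35)) :=
  Lgr Lrot107 (Lpe (K34.f469696 IH) (Lpr_af (K34.f533387 IH) (Lpe (K34.f469843 IH) (Lpn (LP (LK LD1_c22 LD2_c32 LD3_c35))))))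
theorem f533532 : Led Lsl_gt (LP (LK LD1_c13 LD2_c57 LD3_c54)) = (LP (LK LD1_c22 LD2_c32 LD3_c35)) :=
  Lgr Lrot46 (Lpr_gf (f533530 IH) (Lpe (f533397 IH) (Lpr_at (f533391 IH) (Lpn (LP (LK LD1_c22 LD2_c32 LD3_c35))))))
theorem f469793 : Led Lsl_bt (LP (LK LD1_c7 LD2_c23 LD3_c8)) = (LP (LK LD1_c13 LD2_c57 LD3_c54)) :=
  Lre_b IH (LK LD1_c7 LD2_c23 LD3_c8) (LK LD1_c13 LD2_c57 LD3_c54) Lrfl Lrfl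
theorem f128305 : Led Lsl_bt (LP (LK LD1_c3 LD2_c40 LD3_c50)) = (LP (LK LD1_c1 LD2_c47 LD3_c24)) :=
  Lre_b IH (LK LD1_c3 LD2_c40 LD3_c50) (LK LD1_c1 LD2_c47 LD3_c24) Lrfl Lrfl
theorem f106000 : Led Lsl_gt (LP (LK LD1_c3 LD2_c39 LD3_c28)) = (LP (LK LD1_c7 LD2_c19 LD3_c7)) :=
  Lre_g IH (LK LD1_c3 LD2_c39 LD3_c28) (LK LD1_c7 LD2_c19 LD3_c7) Lrfl Lrfl
theorem f533540 : Led Lsl_ct (LP (LK LD1_c7 LD2_c23 LD3_c8)) = (LP (LK LD1_c7 LD2_c19 LD3_c7)) :=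
  Lgr Lrot10 (Lpr_bt (f469793 IH) (Lpr_gt (f533532 IH) (Lpr_ct (K34.f469843 IH) (Lpr_gt (K34.f463954 IH) (Lpe (K34.f469839 IH) (Lpr_bt (K34.f439421 IH) (Lpr_gt (K28.f122361 IH) (Lpe (f128305 IH) (Lpe (K28.f439406 IH) (Lpr_gt (f106000 IH) (Lpn (LP (LK LD1_c7 LD2_c19 LD3_c7)))))))))))))
theorem f533544 : Led Lsl_cf (LP (LK LD1_c7 LD2_c23 LD3_c8)) = (LP (LK LD1_c7 LD2_c19 LD3_c7)) :=
  Lgr Lrot11 (Lpr_ct (f533540 IH) (Lpn (LP (LK LD1_c7 LD2_c19 LD3_c7))))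
theorem f439428 : Led Lsl_bt (LP (LK LD1_c13 LD2_c50 LD3_c40)) = (LP (LK LD1_c7 LD2_c19 LD3_c7)) :=
  Lre_b IH (LK LD1_c13 LD2_c50 LD3_c40) (LK LD1_c7 LD2_c19 LD3_c7) Lrfl Lrfl
theorem f108611 : Led Lsl_af (LP (LK LD1_c1 LD2_c44 LD3_c45)) = (LP (LK LD1_c1 LD2_c43 LD3_c1)) :=
  Lgr Lrot0 (Lpr_at (K3.f108545 IH) (Lpn (LP (LK LD1_c1 LD2_c43 LD3_c1))))
theorem f108651 : Led Lsl_ft (LP (LK LD1_c3 LD2_c32 LD3_c42)) = (LP (LK LD1_c1 LD2_c43 LD3_c1)) :=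
  Lre_f IH (LK LD1_c3 LD2_c32 LD3_c42) (LK LD1_c1 LD2_c43 LD3_c1) Lrfl Lrfl
theorem f441636 : Led Lsl_gf (LP (LK LD1_c3 LD2_c35 LD3_c49)) = (LP (LK LD1_c3 LD2_c32 LD3_c42)) :=
  Lgr Lrot47 (Lpr_gt (K33.f106227 IH) (Lpr_af (f108611 IH) (Lpe (f108651 IH) (Lpn (LP (LK LD1_c3 LD2_c32 LD3_c42))))))
theorem f460955 : Led Lsl_gt (LP (LK LD1_c13 LD2_c22 LD3_c44)) = (LP (LK LD1_c7 LD2_c3 LD3_c20)) :=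
  Lre_g IH (LK LD1_c13 LD2_c22 LD3_c44) (LK LD1_c7 LD2_c3 LD3_c20) Lrfl Lrfl
theorem f512012 : Led Lsl_gt (LP (LK LD1_c3 LD2_c30 LD3_c51)) = (LP (LK LD1_c1 LD2_c42 LD3_c60)) :=
  Lgr Lrot82 (Lpr_bf (K33.f512004 IH) (Lpe (K29.f473446 IH) (Lpe (K29.f16709 IH) (Lpe (K2.f15789 IH) (Lpr_bt (K2.f15786 IH) (Lpe (K28.f16703 IH) (Lpe (K28.f16705 IH) (Lpr_ct (K28.f16708 IH) (Lpe (K28.f463598 IH) (Lpe (K28.f94448 IH) (Lpn (LP (LK LD1_c1 LD2_c42 LD3_c60)))))))))))))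
theorem f105999 : Led Lsl_bt (LP (LK LD1_c1 LD2_c46 LD3_c41)) = (LP (LK LD1_c3 LD2_c39 LD3_c28)) :=
  Lre_b IH (LK LD1_c1 LD2_c46 LD3_c41) (LK LD1_c3 LD2_c39 LD3_c28) Lrfl Lrfl
theorem f513174 : Led Lsl_cf (LP (LK LD1_c13 LD2_c22 LD3_c44)) = (LP (LK LD1_c13 LD2_c50 LD3_c40)) :=
  Lgr Lrot160 (Lpr_gt (f460955 IH) (Lpe (K28.f460940 IH) (Lpr_bt (K28.f108626 IH) (Lpe (f441636 IH) (Lpr_ct (K33.f513161 IH) (Lpr_gt (f512012 IH) (Lpe (K28.f439408 IH) (Lpr_bt (f105999 IH) (Lpr_gt (f106000 IH) (Lpe (f439428 IH) (Lpn (LP (LK LD1_c13 LD2_c50 LD3_c40)))))))))))))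
theorem f513178 : Led Lsl_ct (LP (LK LD1_c13 LD2_c22 LD3_c44)) = (LP (LK LD1_c13 LD2_c50 LD3_c40)) :=
  Lgr Lrot59 (Lpr_cf (f513174 IH) (Lpn (LP (LK LD1_c13 LD2_c50 LD3_c40))))
theorem f533556 : Led Lsl_bt (LP (LK LD1_c22 LD2_c34 LD3_c7)) = (LP (LK LD1_c13 LD2_c22 LD3_c44)) :=
  Lgr Lrot128 (Lpr_cf (f469791 IH) (Lpe (f469793 IH) (Lpr_cf (f533544 IH) (Lpe (f439428 IH) (Lpe (f513178 IH) (Lpn (LP (LK LD1_c13 LD2_c22 LD3_c44))))))))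
theorem f469794 : Led Lsl_ct (LP (LK LD1_c22 LD2_c34 LD3_c7)) = (LP (LK LD1_c13 LD2_c57 LD3_c54)) :=
  Lgr Lrot59 (Lpr_cf (f469791 IH) (Lpn (LP (LK LD1_c13 LD2_c57 LD3_c54))))
theorem f533558 : Led Lsl_gf (LP (LK LD1_c12 LD2_c34 LD3_c50)) = (LP (LK LD1_c7 LD2_c0 LD3_c0)) :=
  Lgr Lrot181 (Lpr_ct (K4.f111096 IH) (Lpe (f533530 IH) (Lpe (f469794 IH) (Lpr_bt (f533556 IH) (Lpr_gt (f460955 IH) (Lpe (K28.f460939 IH) (Lpe (K28.f460946 IH) (Lpe (K24.f441547 IH) (Lpr_cf (K28.f463831 IH) (Lpr_bt (K34.f463830 IH) (Lpn (LP (LK LD1_c7 LD2_c0 LD3_c0)))))))))))))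
theorem f461022 : Led Lsl_bt (LP (LK LD1_c3 LD2_c30 LD3_c41)) = (LP (LK LD1_c1 LD2_c41 LD3_c56)) :=
  Lre_b IH (LK LD1_c3 LD2_c30 LD3_c41) (LK LD1_c1 LD2_c41 LD3_c56) Lrfl Lrfl
theorem f457484 : Led Lsl_ct (LP (LK LD1_c3 LD2_c30 LD3_c41)) = (LP (LK LD1_c7 LD2_c3 LD3_c11)) :=
  Lre_c IH (LK LD1_c3 LD2_c30 LD3_c41) (LK LD1_c7 LD2_c3 LD3_c11) Lrfl Lrfl
theorem f533560 : Led Lsl_gt (LP (LK LD1_c7 LD2_c31 LD3_c15)) = (LP (LK LD1_c7 LD2_c3 LD3_c11)) :=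
  Lgr Lrot65 (Lpe (K34.f111055 IH) (Lpe (K34.f111092 IH) (Lpr_gf (f533558 IH) (Lpe (K34.f463830 IH) (Lpe (K28.f463831 IH) (Lpr_gf (K24.f441547 IH) (Lpr_cf (K28.f460946 IH) (Lpe (K24.f129831 IH) (Lpe (f461022 IH) (Lpr_ct (f457484 IH) (Lpn (LP (LK LD1_c7 LD2_c3 LD3_c11)))))))))))))
theorem f89835 : Led Lsl_dt (LP (LK LD1_c7 LD2_c37 LD3_c24)) = (LP (LK LD1_c14 LD2_c22 LD3_c20)) :=
  Lre_d IH (LK LD1_c7 LD2_c37 LD3_c24) (LK LD1_c14 LD2_c22 LD3_c20) Lrfl Lrfl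
theorem f457609 : Led Lsl_et (LP (LK LD1_c13 LD2_c22 LD3_c38)) = (LP (LK LD1_c7 LD2_c3 LD3_c11)) :=
  Lre_e IH (LK LD1_c13 LD2_c22 LD3_c38) (LK LD1_c7 LD2_c3 LD3_c11) Lrfl Lrfl
theorem f457566 : Led Lsl_bt (LP (LK LD1_c22 LD2_c40 LD3_c15)) = (LP (LK LD1_c30 LD2_c38 LD3_c47)) :=
  Lre_b IH (LK LD1_c22 LD2_c40 LD3_c15) (LK LD1_c30 LD2_c38 LD3_c47) Lrfl Lrfl
theorem f457567 : Led Lsl_bt (LP (LK LD1_c24 LD2_c17 LD3_c13)) = (LP (LK LD1_c14 LD2_c34 LD3_c31)) :=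
  Lre_b IH (LK LD1_c24 LD2_c17 LD3_c13) (LK LD1_c14 LD2_c34 LD3_c31) Lrfl Lrfl
theorem f457568 : Led Lsl_dt (LP (LK LD1_c30 LD2_c38 LD3_c47)) = (LP (LK LD1_c24 LD2_c17 LD3_c13)) :=
  Lgr Lrot79 (Lpe (f457566 IH) (Lpr_df (K34.f457563 IH) (Lpe (f457567 IH) (Lpn (LP (LK LD1_c24 LD2_c17 LD3_c13))))))
theorem f457571 : Led Lsl_ft (LP (LK LD1_c22 LD2_c40 LD3_c9)) = (LP (LK LD1_c30 LD2_c38 LD3_c47)) :=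
  Lre_f IH (LK LD1_c22 LD2_c40 LD3_c9) (LK LD1_c30 LD2_c38 LD3_c47) Lrfl Lrfl
theorem f457572 : Led Lsl_ft (LP (LK LD1_c24 LD2_c17 LD3_c13)) = (LP (LK LD1_c14 LD2_c34 LD3_c25)) :=
  Lre_f IH (LK LD1_c24 LD2_c17 LD3_c13) (LK LD1_c14 LD2_c34 LD3_c25) Lrfl Lrfl
theorem f457573 : Led Lsl_df (LP (LK LD1_c22 LD2_c40 LD3_c9)) = (LP (LK LD1_c14 LD2_c34 LD3_c25)) :=
  Lgr Lrot78 (Lpr_ft (f457571 IH) (Lpr_dt (f457568 IH) (Lpr_ft (f457572 IH) (Lpn (LP (LK LD1_c14 LD2_c34 LD3_c25))))))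
theorem f457582 : Led Lsl_et (LP (LK LD1_c22 LD2_c40 LD3_c9)) = (LP (LK LD1_c13 LD2_c22 LD3_c37)) :=
  Lre_e IH (LK LD1_c22 LD2_c40 LD3_c9) (LK LD1_c13 LD2_c22 LD3_c37) Lrfl Lrfl
theorem f457583 : Led Lsl_dt (LP (LK LD1_c13 LD2_c22 LD3_c37)) = (LP (LK LD1_c7 LD2_c3 LD3_c11)) :=
  Lre_d IH (LK LD1_c13 LD2_c22 LD3_c37) (LK LD1_c7 LD2_c3 LD3_c11) Lrfl Lrfl
theorem f457584 : Led Lsl_et (LP (LK LD1_c7 LD2_c3 LD3_c11)) = (LP (LK LD1_c13 LD2_c22 LD3_c38)) :=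
  Lre_e IH (LK LD1_c7 LD2_c3 LD3_c11) (LK LD1_c13 LD2_c22 LD3_c38) Lrfl Lrfl
theorem f457585 : Led Lsl_et (LP (LK LD1_c7 LD2_c43 LD3_c45)) = (LP (LK LD1_c14 LD2_c34 LD3_c25)) :=
  Lre_e IH (LK LD1_c7 LD2_c43 LD3_c45) (LK LD1_c14 LD2_c34 LD3_c25) Lrfl Lrfl
theorem f457586 : Led Lsl_dt (LP (LK LD1_c13 LD2_c22 LD3_c38)) = (LP (LK LD1_c7 LD2_c43 LD3_c45)) :=
  Lgr Lrot77 (Lpe (f457584 IH) (Lpe (f457583 IH) (Lpe (f457582 IH) (Lpr_df (f457573 IH) (Lpe (f457585 IH) (Lpn (LP (LK LD1_c7 LD2_c43 LD3_c45))))))))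
theorem f533566 : Led Lsl_gf (LP (LK LD1_c14 LD2_c22 LD3_c20)) = (LP (LK LD1_c7 LD2_c43 LD3_c45)) :=
  Lgr Lrot145 (Lpe (f89835 IH) (Lpr_et (K6.f89834 IH) (Lpe (K5.f89832 IH) (Lpe (K6.f127123 IH) (Lpr_gt (K4.f111072 IH) (Lpe (K4.f93110 IH) (Lpr_et (K4.f111065 IH) (Lpr_gt (f533560 IH) (Lpe (f457609 IH) (Lpr_dt (f457586 IH) (Lpn (LP (LK LD1_c7 LD2_c43 LD3_c45)))))))))))))
theorem f204039 : Led Lsl_gt (LP (LK LD1_c14 LD2_c22 LD3_c20)) = (LP (LK LD1_c24 LD2_c0 LD3_c29)) :=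
  Lre_g IH (LK LD1_c14 LD2_c22 LD3_c20) (LK LD1_c24 LD2_c0 LD3_c29) Lrfl Lrfl
theorem f457495 : Led Lsl_bt (LP (LK LD1_c3 LD2_c51 LD3_c11)) = (LP (LK LD1_c7 LD2_c43 LD3_c45)) :=
  Lre_b IH (LK LD1_c3 LD2_c51 LD3_c11) (LK LD1_c7 LD2_c43 LD3_c45) Lrfl Lrfl
theorem f446527 : Led Lsl_bt (LP (LK LD1_c14 LD2_c32 LD3_c44)) = (LP (LK LD1_c7 LD2_c42 LD3_c61)) :=
  Lre_b IH (LK LD1_c14 LD2_c32 LD3_c44) (LK LD1_c7 LD2_c42 LD3_c61) Lrfl Lrfl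
theorem f512840 : Led Lsl_ft (LP (LK LD1_c7 LD2_c43 LD3_c45)) = (LP (LK LD1_c14 LD2_c32 LD3_c44)) :=
  Lgr Lrot75 (Lpe (f457495 IH) (Lpr_ff (K34.f512838 IH) (Lpe (f446527 IH) (Lpn (LP (LK LD1_c14 LD2_c32 LD3_c44))))))
theorem f533568 : Led Lsl_af (LP (LK LD1_c24 LD2_c0 LD3_c29)) = (LP (LK LD1_c14 LD2_c32 LD3_c44)) :=
  Lgr Lrot31 (Lpe (f204039 IH) (Lpr_gf (f533566 IH) (Lpr_ft (f512840 IH) (Lpn (LP (LK LD1_c14 LD2_c32 LD3_c44))))))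
theorem f472479 : Led Lsl_bt (LP (LK LD1_c7 LD2_c42 LD3_c61)) = (LP (LK LD1_c14 LD2_c32 LD3_c44)) :=
  Lre_b IH (LK LD1_c7 LD2_c42 LD3_c61) (LK LD1_c14 LD2_c32 LD3_c44) Lrfl Lrfl
theorem f486058 : Led Lsl_at (LP (LK LD1_c14 LD2_c34 LD3_c13)) = (LP (LK LD1_c7 LD2_c43 LD3_c42)) :=
  Lre_a IH (LK LD1_c14 LD2_c34 LD3_c13) (LK LD1_c7 LD2_c43 LD3_c42) Lrfl Lrfl
theorem f533572 : Led Lsl_bt (LP (LK LD1_c24 LD2_c0 LD3_c29)) = (LP (LK LD1_c14 LD2_c34 LD3_c13)) :=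
  Lgr Lrot62 (Lpr_af (f533568 IH) (Lpe (f472479 IH) (Lpe (K34.f512829 IH) (Lpe (K29.f14853 IH) (Lpe (f486058 IH) (Lpn (LP (LK LD1_c14 LD2_c34 LD3_c13))))))))
theorem f533582 : Led Lsl_bf (LP (LK LD1_c24 LD2_c0 LD3_c29)) = (LP (LK LD1_c14 LD2_c34 LD3_c13)) :=
  Lgr Lrot24 (Lpr_bt (f533572 IH) (Lpn (LP (LK LD1_c14 LD2_c34 LD3_c13))))
theorem f114450 : Led Lsl_bt (LP (LK LD1_c7 LD2_c35 LD3_c38)) = (LP (LK LD1_c14 LD2_c18 LD3_c57)) :=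
  Lre_b IH (LK LD1_c7 LD2_c35 LD3_c38) (LK LD1_c14 LD2_c18 LD3_c57) Lrfl Lrfl
theorem f142492 : Led Lsl_bf (LP (LK LD1_c14 LD2_c45 LD3_c38)) = (LP (LK LD1_c13 LD2_c8 LD3_c47)) :=
  Lgr Lrot90 (Lpr_ct (K34.f142491 IH) (Lpr_bt (K34.f142487 IH) (Lpr_ct (K6.f114451 IH) (Lpr_bt (f114450 IH) (Lpr_ct (K6.f114446 IH) (Lpn (LP (LK LD1_c13 LD2_c8 LD3_c47))))))))
theorem f142503 : Led Lsl_bt (LP (LK LD1_c14 LD2_c45 LD3_c38)) = (LP (LK LD1_c13 LD2_c8 LD3_c47)) :=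
  Lgr Lrot127 (Lpr_bf (f142492 IH) (Lpn (LP (LK LD1_c13 LD2_c8 LD3_c47))))
theorem f127987 : Led Lsl_et (LP (LK LD1_c6 LD2_c55 LD3_c11)) = (LP (LK LD1_c13 LD2_c8 LD3_c48)) :=
  Lre_e IH (LK LD1_c6 LD2_c55 LD3_c11) (LK LD1_c13 LD2_c8 LD3_c48) Lrfl Lrfl
theorem f142549 : Led Lsl_bf (LP (LK LD1_c14 LD2_c1 LD3_c44)) = (LP (LK LD1_c13 LD2_c8 LD3_c48)) :=
  Lgr Lrot96 (Lpr_et (K6.f122725 IH) (Lpr_bt (K6.f142543 IH) (Lpr_et (f127987 IH) (Lpn (LP (LK LD1_c13 LD2_c8 LD3_c48))))))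
theorem f142551 : Led Lsl_bt (LP (LK LD1_c14 LD2_c1 LD3_c44)) = (LP (LK LD1_c13 LD2_c8 LD3_c48)) :=
  Lgr Lrot127 (Lpr_bf (f142549 IH) (Lpn (LP (LK LD1_c13 LD2_c8 LD3_c48))))
theorem f203994 : Led Lsl_at (LP (LK LD1_c13 LD2_c8 LD3_c48)) = (LP (LK LD1_c14 LD2_c1 LD3_c42)) :=
  Lgr Lrot67 (Lpe (f142551 IH) (Lpr_af (K6.f145048 IH) (Lpe (f142503 IH) (Lpe (K34.f203974 IH) (Lpr_bf (K34.f203991 IH) (Lpn (LP (LK LD1_c14 LD2_c1 LD3_c42))))))))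
theorem f127983 : Led Lsl_et (LP (LK LD1_c13 LD2_c8 LD3_c48)) = (LP (LK LD1_c6 LD2_c55 LD3_c11)) :=
  Lre_e IH (LK LD1_c13 LD2_c8 LD3_c48) (LK LD1_c6 LD2_c55 LD3_c11) Lrfl Lrfl
theorem f145004 : Led Lsl_et (LP (LK LD1_c7 LD2_c35 LD3_c51)) = (LP (LK LD1_c14 LD2_c19 LD3_c20)) :=
  Lre_e IH (LK LD1_c7 LD2_c35 LD3_c51) (LK LD1_c14 LD2_c19 LD3_c20) Lrfl Lrfl
theorem f145005 : Led Lsl_cf (LP (LK LD1_c13 LD2_c8 LD3_c48)) = (LP (LK LD1_c14 LD2_c19 LD3_c20)) :=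
  Lgr Lrot39 (Lpr_et (f127983 IH) (Lpr_ct (K6.f144998 IH) (Lpr_et (f145004 IH) (Lpn (LP (LK LD1_c14 LD2_c19 LD3_c20))))))
theorem f204016 : Led Lsl_af (LP (LK LD1_c14 LD2_c19 LD3_c20)) = (LP (LK LD1_c7 LD2_c40 LD3_c53)) :=
  Lgr Lrot68 (Lpe (f145005 IH) (Lpr_at (f203994 IH) (Lpr_ct (K34.f123486 IH) (Lpn (LP (LK LD1_c7 LD2_c40 LD3_c53))))))
theorem f145018 : Led Lsl_dt (LP (LK LD1_c14 LD2_c19 LD3_c20)) = (LP (LK LD1_c23 LD2_c57 LD3_c19)) :=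
  Lre_d IH (LK LD1_c14 LD2_c19 LD3_c20) (LK LD1_c23 LD2_c57 LD3_c19) Lrfl Lrfl
theorem f123496 : Led Lsl_dt (LP (LK LD1_c14 LD2_c28 LD3_c52)) = (LP (LK LD1_c7 LD2_c40 LD3_c53)) :=
  Lre_d IH (LK LD1_c14 LD2_c28 LD3_c52) (LK LD1_c7 LD2_c40 LD3_c53) Lrfl Lrfl
theorem f204020 : Led Lsl_at (LP (LK LD1_c23 LD2_c57 LD3_c19)) = (LP (LK LD1_c14 LD2_c28 LD3_c52)) :=
  Lgr Lrot51 (Lpe (f145018 IH) (Lpr_af (f204016 IH) (Lpe (f123496 IH) (Lpn (LP (LK LD1_c14 LD2_c28 LD3_c52))))))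
theorem f204024 : Led Lsl_bt (LP (LK LD1_c14 LD2_c28 LD3_c52)) = (LP (LK LD1_c7 LD2_c40 LD3_c57)) :=
  Lre_b IH (LK LD1_c14 LD2_c28 LD3_c52) (LK LD1_c7 LD2_c40 LD3_c57) Lrfl Lrfl
theorem f62290 : Led Lsl_bt (LP (LK LD1_c13 LD2_c15 LD3_c14)) = (LP (LK LD1_c12 LD2_c42 LD3_c24)) :=
  Lgr Lrot127 (Lpr_bf (K5.f62276 IH) (Lpn (LP (LK LD1_c12 LD2_c42 LD3_c24))))
theorem f116675 : Led Lsl_bt (LP (LK LD1_c14 LD2_c18 LD3_c56)) = (LP (LK LD1_c13 LD2_c10 LD3_c30)) :=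
  Lgr Lrot119 (Lpr_ef (K5.f116669 IH) (Lpe (f62290 IH) (Lpe (K5.f113314 IH) (Lpn (LP (LK LD1_c13 LD2_c10 LD3_c30))))))
theorem f113321 : Led Lsl_dt (LP (LK LD1_c13 LD2_c10 LD3_c30)) = (LP (LK LD1_c6 LD2_c56 LD3_c15)) :=
  Lre_d IH (LK LD1_c13 LD2_c10 LD3_c30) (LK LD1_c6 LD2_c56 LD3_c15) Lrfl Lrfl
theorem f130030 : Led Lsl_af (LP (LK LD1_c13 LD2_c10 LD3_c30)) = (LP (LK LD1_c14 LD2_c22 LD3_c20)) :=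
  Lgr Lrot117 (Lpr_dt (f113321 IH) (Lpr_at (K6.f130024 IH) (Lpr_dt (f89835 IH) (Lpn (LP (LK LD1_c14 LD2_c22 LD3_c20))))))
theorem f130032 : Led Lsl_at (LP (LK LD1_c13 LD2_c10 LD3_c30)) = (LP (LK LD1_c14 LD2_c22 LD3_c20)) :=
  Lgr Lrot100 (Lpr_af (f130030 IH) (Lpn (LP (LK LD1_c14 LD2_c22 LD3_c20))))
theorem f204025 : Led Lsl_bf (LP (LK LD1_c23 LD2_c57 LD3_c19)) = (LP (LK LD1_c14 LD2_c22 LD3_c20)) :=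
  Lgr Lrot81 (Lpr_at (f204020 IH) (Lpr_bt (f204024 IH) (Lpe (K34.f144797 IH) (Lpr_bt (f116675 IH) (Lpr_at (f130032 IH) (Lpn (LP (LK LD1_c14 LD2_c22 LD3_c20))))))))
theorem f204035 : Led Lsl_bt (LP (LK LD1_c23 LD2_c57 LD3_c19)) = (LP (LK LD1_c14 LD2_c22 LD3_c20)) :=
  Lgr Lrot127 (Lpr_bf (f204025 IH) (Lpn (LP (LK LD1_c14 LD2_c22 LD3_c20))))
theorem f204033 : Led Lsl_ct (LP (LK LD1_c23 LD2_c57 LD3_c19)) = (LP (LK LD1_c31 LD2_c17 LD3_c51)) :=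
  Lre_c IH (LK LD1_c23 LD2_c57 LD3_c19) (LK LD1_c31 LD2_c17 LD3_c51) Lrfl Lrfl
theorem f460492 : Led Lsl_ct (LP (LK LD1_c14 LD2_c34 LD3_c13)) = (LP (LK LD1_c24 LD2_c16 LD3_c46)) :=
  Lre_c IH (LK LD1_c14 LD2_c34 LD3_c13) (LK LD1_c24 LD2_c16 LD3_c46) Lrfl Lrfl
theorem f512824 : Led Lsl_ft (LP (LK LD1_c7 LD2_c18 LD3_c41)) = (LP (LK LD1_c6 LD2_c51 LD3_c60)) :=
  Lgr Lrot54 (Lpe (K34.f486029 IH) (Lpr_ff (K34.f512818 IH) (Lpr_df (K34.f90988 IH) (Lpn (LP (LK LD1_c6 LD2_c51 LD3_c60))))))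
theorem f486025 : Led Lsl_bt (LP (LK LD1_c13 LD2_c50 LD3_c1)) = (LP (LK LD1_c7 LD2_c18 LD3_c41)) :=
  Lre_b IH (LK LD1_c13 LD2_c50 LD3_c1) (LK LD1_c7 LD2_c18 LD3_c41) Lrfl Lrfl
theorem f512958 : Led Lsl_ff (LP (LK LD1_c13 LD2_c50 LD3_c1)) = (LP (LK LD1_c13 LD2_c3 LD3_c28)) :=
  Lgr Lrot25 (Lpr_bt (f486025 IH) (Lpr_ft (f512824 IH) (Lpr_bt (K34.f91077 IH) (Lpn (LP (LK LD1_c13 LD2_c3 LD3_c28))))))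
theorem f486059 : Led Lsl_at (LP (LK LD1_c13 LD2_c50 LD3_c1)) = (LP (LK LD1_c23 LD2_c19 LD3_c16)) :=
  Lre_a IH (LK LD1_c13 LD2_c50 LD3_c1) (LK LD1_c23 LD2_c19 LD3_c16) Lrfl Lrfl
theorem f91076 : Led Lsl_at (LP (LK LD1_c22 LD2_c13 LD3_c16)) = (LP (LK LD1_c13 LD2_c3 LD3_c28)) :=
  Lre_a IH (LK LD1_c22 LD2_c13 LD3_c16) (LK LD1_c13 LD2_c3 LD3_c28) Lrfl Lrfl
theorem f512960 : Led Lsl_ft (LP (LK LD1_c23 LD2_c19 LD3_c16)) = (LP (LK LD1_c22 LD2_c13 LD3_c16)) :=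
  Lgr Lrot101 (Lpe (f486059 IH) (Lpr_ff (f512958 IH) (Lpe (f91076 IH) (Lpn (LP (LK LD1_c22 LD2_c13 LD3_c16))))))
theorem f486036 : Led Lsl_bt (LP (LK LD1_c7 LD2_c18 LD3_c41)) = (LP (LK LD1_c13 LD2_c50 LD3_c1)) :=
  Lre_b IH (LK LD1_c7 LD2_c18 LD3_c41) (LK LD1_c13 LD2_c50 LD3_c1) Lrfl Lrfl
theorem f486037 : Led Lsl_df (LP (LK LD1_c7 LD2_c43 LD3_c42)) = (LP (LK LD1_c13 LD2_c50 LD3_c1)) :=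
  Lgr Lrot12 (Lpr_bt (K29.f14853 IH) (Lpr_dt (K34.f486029 IH) (Lpr_bt (f486036 IH) (Lpn (LP (LK LD1_c13 LD2_c50 LD3_c1))))))
theorem f486047 : Led Lsl_at (LP (LK LD1_c7 LD2_c43 LD3_c42)) = (LP (LK LD1_c14 LD2_c34 LD3_c13)) :=
  Lre_a IH (LK LD1_c7 LD2_c43 LD3_c42) (LK LD1_c14 LD2_c34 LD3_c13) Lrfl Lrfl
theorem f486048 : Led Lsl_at (LP (LK LD1_c23 LD2_c19 LD3_c16)) = (LP (LK LD1_c13 LD2_c50 LD3_c1)) :=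
  Lre_a IH (LK LD1_c23 LD2_c19 LD3_c16) (LK LD1_c13 LD2_c50 LD3_c1) Lrfl Lrfl
theorem f486049 : Led Lsl_dt (LP (LK LD1_c14 LD2_c34 LD3_c13)) = (LP (LK LD1_c23 LD2_c19 LD3_c16)) :=
  Lgr Lrot44 (Lpe (f486047 IH) (Lpr_df (f486037 IH) (Lpe (f486048 IH) (Lpn (LP (LK LD1_c23 LD2_c19 LD3_c16))))))
theorem f486054 : Led Lsl_df (LP (LK LD1_c14 LD2_c34 LD3_c13)) = (LP (LK LD1_c23 LD2_c19 LD3_c16)) :=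
  Lgr Lrot38 (Lpr_dt (f486049 IH) (Lpn (LP (LK LD1_c23 LD2_c19 LD3_c16))))
theorem f460481 : Led Lsl_dt (LP (LK LD1_c24 LD2_c16 LD3_c46)) = (LP (LK LD1_c31 LD2_c27 LD3_c12)) :=
  Lre_d IH (LK LD1_c24 LD2_c16 LD3_c46) (LK LD1_c31 LD2_c27 LD3_c12) Lrfl Lrfl
theorem f11567 : Led Lsl_bt (LP (LK LD1_c7 LD2_c7 LD3_c18)) = (LP (LK LD1_c13 LD2_c29 LD3_c38)) :=
  Lre_b IH (LK LD1_c7 LD2_c7 LD3_c18) (LK LD1_c13 LD2_c29 LD3_c38) Lrfl Lrfl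
theorem f11568 : Led Lsl_df (LP (LK LD1_c13 LD2_c27 LD3_c40)) = (LP (LK LD1_c13 LD2_c29 LD3_c38)) :=
  Lgr Lrot12 (Lpr_bt (K34.f11566 IH) (Lpr_dt (K8.f11555 IH) (Lpr_bt (f11567 IH) (Lpn (LP (LK LD1_c13 LD2_c29 LD3_c38))))))
theorem f11629 : Led Lsl_ct (LP (LK LD1_c22 LD2_c50 LD3_c15)) = (LP (LK LD1_c13 LD2_c29 LD3_c38)) :=
  Lre_c IH (LK LD1_c22 LD2_c50 LD3_c15) (LK LD1_c13 LD2_c29 LD3_c38) Lrfl Lrfl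
theorem f11630 : Led Lsl_dt (LP (LK LD1_c30 LD2_c44 LD3_c47)) = (LP (LK LD1_c22 LD2_c50 LD3_c15)) :=
  Lre_d IH (LK LD1_c30 LD2_c44 LD3_c47) (LK LD1_c22 LD2_c50 LD3_c15) Lrfl Lrfl
theorem f512970 : Led Lsl_ct (LP (LK LD1_c31 LD2_c27 LD3_c12)) = (LP (LK LD1_c30 LD2_c44 LD3_c47)) :=
  Lgr Lrot41 (Lpe (f460481 IH) (Lpe (f460492 IH) (Lpr_df (f486054 IH) (Lpr_ft (f512960 IH) (Lpr_at (f91076 IH) (Lpr_cf (K34.f488210 IH) (Lpr_df (f11568 IH) (Lpe (f11629 IH) (Lpe (f11630 IH) (Lpn (LP (LK LD1_c30 LD2_c44 LD3_c47))))))))))))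
theorem f460307 : Led Lsl_dt (LP (LK LD1_c22 LD2_c50 LD3_c50)) = (LP (LK LD1_c30 LD2_c45 LD3_c12)) :=
  Lre_d IH (LK LD1_c22 LD2_c50 LD3_c50) (LK LD1_c30 LD2_c45 LD3_c12) Lrfl Lrfl
theorem f460327 : Led Lsl_dt (LP (LK LD1_c24 LD2_c26 LD3_c12)) = (LP (LK LD1_c14 LD2_c41 LD3_c33)) :=
  Lre_d IH (LK LD1_c24 LD2_c26 LD3_c12) (LK LD1_c14 LD2_c41 LD3_c33) Lrfl Lrfl
theorem f460347 : Led Lsl_ff (LP (LK LD1_c22 LD2_c50 LD3_c50)) = (LP (LK LD1_c14 LD2_c41 LD3_c33)) :=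
  Lgr Lrot19 (Lpr_dt (f460307 IH) (Lpr_ft (K29.f460345 IH) (Lpr_dt (f460327 IH) (Lpn (LP (LK LD1_c14 LD2_c41 LD3_c33))))))
theorem f460458 : Led Lsl_af (LP (LK LD1_c24 LD2_c16 LD3_c48)) = (LP (LK LD1_c22 LD2_c50 LD3_c50)) :=
  Lgr Lrot45 (Lpr_ft (K29.f460448 IH) (Lpr_at (K29.f460339 IH) (Lpe (f460347 IH) (Lpn (LP (LK LD1_c22 LD2_c50 LD3_c50))))))
theorem f460354 : Led Lsl_gt (LP (LK LD1_c14 LD2_c41 LD3_c33)) = (LP (LK LD1_c24 LD2_c26 LD3_c11)) :=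
  Lre_g IH (LK LD1_c14 LD2_c41 LD3_c33) (LK LD1_c24 LD2_c26 LD3_c11) Lrfl Lrfl
theorem f460468 : Led Lsl_gf (LP (LK LD1_c24 LD2_c16 LD3_c48)) = (LP (LK LD1_c24 LD2_c26 LD3_c11)) :=
  Lgr Lrot76 (Lpr_af (f460458 IH) (Lpr_ff (f460347 IH) (Lpr_gt (f460354 IH) (Lpn (LP (LK LD1_c24 LD2_c26 LD3_c11))))))
theorem f460470 : Led Lsl_at (LP (LK LD1_c24 LD2_c16 LD3_c46)) = (LP (LK LD1_c14 LD2_c34 LD3_c14)) :=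
  Lre_a IH (LK LD1_c24 LD2_c16 LD3_c46) (LK LD1_c14 LD2_c34 LD3_c14) Lrfl Lrfl
theorem f460471 : Led Lsl_ff (LP (LK LD1_c24 LD2_c16 LD3_c46)) = (LP (LK LD1_c24 LD2_c26 LD3_c11)) :=
  Lgr Lrot52 (Lpr_at (f460470 IH) (Lpe (K29.f460447 IH) (Lpr_gf (f460468 IH) (Lpn (LP (LK LD1_c24 LD2_c26 LD3_c11))))))
theorem f460485 : Led Lsl_ft (LP (LK LD1_c24 LD2_c16 LD3_c46)) = (LP (LK LD1_c24 LD2_c26 LD3_c11)) :=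
  Lgr Lrot48 (Lpr_ff (f460471 IH) (Lpn (LP (LK LD1_c24 LD2_c26 LD3_c11))))
theorem f91043 : Led Lsl_dt (LP (LK LD1_c24 LD2_c15 LD3_c16)) = (LP (LK LD1_c22 LD2_c13 LD3_c31)) :=
  Lgr Lrot42 (Lpr_df (K34.f91019 IH) (Lpn (LP (LK LD1_c22 LD2_c13 LD3_c31))))
theorem f91046 : Led Lsl_bt (LP (LK LD1_c31 LD2_c26 LD3_c33)) = (LP (LK LD1_c24 LD2_c15 LD3_c16)) :=
  Lre_b IH (LK LD1_c31 LD2_c26 LD3_c33) (LK LD1_c24 LD2_c15 LD3_c16) Lrfl Lrfl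
theorem f91047 : Led Lsl_bt (LP (LK LD1_c22 LD2_c13 LD3_c31)) = (LP (LK LD1_c30 LD2_c21 LD3_c38)) :=
  Lre_b IH (LK LD1_c22 LD2_c13 LD3_c31) (LK LD1_c30 LD2_c21 LD3_c38) Lrfl Lrfl
theorem f91048 : Led Lsl_df (LP (LK LD1_c31 LD2_c26 LD3_c33)) = (LP (LK LD1_c30 LD2_c21 LD3_c38)) :=
  Lgr Lrot12 (Lpr_bt (f91046 IH) (Lpr_dt (f91043 IH) (Lpr_bt (f91047 IH) (Lpn (LP (LK LD1_c30 LD2_c21 LD3_c38))))))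
theorem f91050 : Led Lsl_ft (LP (LK LD1_c31 LD2_c26 LD3_c33)) = (LP (LK LD1_c24 LD2_c15 LD3_c12)) :=
  Lre_f IH (LK LD1_c31 LD2_c26 LD3_c33) (LK LD1_c24 LD2_c15 LD3_c12) Lrfl Lrfl
theorem f91051 : Led Lsl_ft (LP (LK LD1_c22 LD2_c13 LD3_c20)) = (LP (LK LD1_c30 LD2_c21 LD3_c38)) :=
  Lre_f IH (LK LD1_c22 LD2_c13 LD3_c20) (LK LD1_c30 LD2_c21 LD3_c38) Lrfl Lrfl
theorem f91052 : Led Lsl_dt (LP (LK LD1_c24 LD2_c15 LD3_c12)) = (LP (LK LD1_c22 LD2_c13 LD3_c20)) :=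
  Lgr Lrot60 (Lpe (f91050 IH) (Lpr_df (f91048 IH) (Lpe (f91051 IH) (Lpn (LP (LK LD1_c22 LD2_c13 LD3_c20))))))
theorem f91061 : Led Lsl_et (LP (LK LD1_c14 LD2_c32 LD3_c47)) = (LP (LK LD1_c24 LD2_c15 LD3_c12)) :=
  Lre_e IH (LK LD1_c14 LD2_c32 LD3_c47) (LK LD1_c24 LD2_c15 LD3_c12) Lrfl Lrfl
theorem f91062 : Led Lsl_et (LP (LK LD1_c22 LD2_c13 LD3_c20)) = (LP (LK LD1_c13 LD2_c3 LD3_c27)) :=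
  Lre_e IH (LK LD1_c22 LD2_c13 LD3_c20) (LK LD1_c13 LD2_c3 LD3_c27) Lrfl Lrfl
theorem f91063 : Led Lsl_dt (LP (LK LD1_c13 LD2_c3 LD3_c27)) = (LP (LK LD1_c6 LD2_c51 LD3_c58)) :=
  Lre_d IH (LK LD1_c13 LD2_c3 LD3_c27) (LK LD1_c6 LD2_c51 LD3_c58) Lrfl Lrfl
theorem f91064 : Led Lsl_et (LP (LK LD1_c6 LD2_c51 LD3_c58)) = (LP (LK LD1_c13 LD2_c3 LD3_c28)) :=
  Lre_e IH (LK LD1_c6 LD2_c51 LD3_c58) (LK LD1_c13 LD2_c3 LD3_c28) Lrfl Lrfl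
theorem f91065 : Led Lsl_df (LP (LK LD1_c14 LD2_c32 LD3_c47)) = (LP (LK LD1_c13 LD2_c3 LD3_c28)) :=
  Lgr Lrot70 (Lpr_et (f91061 IH) (Lpr_dt (f91052 IH) (Lpr_et (f91062 IH) (Lpr_dt (f91063 IH) (Lpr_et (f91064 IH) (Lpn (LP (LK LD1_c13 LD2_c3 LD3_c28))))))))
theorem f512974 : Led Lsl_at (LP (LK LD1_c24 LD2_c26 LD3_c11)) = (LP (LK LD1_c24 LD2_c15 LD3_c11)) :=
  Lgr Lrot33 (Lpe (f460485 IH) (Lpr_dt (f460481 IH) (Lpr_ct (f512970 IH) (Lpr_dt (f11630 IH) (Lpr_ct (f11629 IH) (Lpe (f11568 IH) (Lpe (K34.f488210 IH) (Lpe (f91065 IH) (Lpr_ct (K29.f91078 IH) (Lpn (LP (LK LD1_c24 LD2_c15 LD3_c11))))))))))))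
theorem f512985 : Led Lsl_gt (LP (LK LD1_c24 LD2_c16 LD3_c46)) = (LP (LK LD1_c24 LD2_c26 LD3_c6)) :=
  Lgr Lrot5 (Lpr_ft (f460485 IH) (Lpr_at (f512974 IH) (Lpe (K29.f471788 IH) (Lpn (LP (LK LD1_c24 LD2_c26 LD3_c6))))))
theorem f461056 : Led Lsl_ff (LP (LK LD1_c14 LD2_c22 LD3_c61)) = (LP (LK LD1_c23 LD2_c59 LD3_c44)) :=
  Lgr Lrot30 (Lpr_at (K29.f88261 IH) (Lpr_ft (K28.f460697 IH) (Lpr_at (K28.f461055 IH) (Lpn (LP (LK LD1_c23 LD2_c59 LD3_c44))))))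
theorem f88225 : Led Lsl_gt (LP (LK LD1_c14 LD2_c23 LD3_c2)) = (LP (LK LD1_c7 LD2_c37 LD3_c59)) :=
  Lre_g IH (LK LD1_c14 LD2_c23 LD3_c2) (LK LD1_c7 LD2_c37 LD3_c59) Lrfl Lrfl
theorem f461116 : Led Lsl_gf (LP (LK LD1_c14 LD2_c23 LD3_c2)) = (LP (LK LD1_c23 LD2_c59 LD3_c44)) :=
  Lgr Lrot47 (Lpr_gt (f88225 IH) (Lpe (K29.f88261 IH) (Lpr_ff (f461056 IH) (Lpn (LP (LK LD1_c23 LD2_c59 LD3_c44))))))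
theorem f461118 : Led Lsl_ct (LP (LK LD1_c14 LD2_c23 LD3_c2)) = (LP (LK LD1_c24 LD2_c1 LD3_c23)) :=
  Lre_c IH (LK LD1_c14 LD2_c23 LD3_c2) (LK LD1_c24 LD2_c1 LD3_c23) Lrfl Lrfl
theorem f533584 : Led Lsl_gf (LP (LK LD1_c31 LD2_c17 LD3_c51)) = (LP (LK LD1_c24 LD2_c1 LD3_c23)) :=
  Lgr Lrot129 (Lpe (f204033 IH) (Lpr_bt (f204035 IH) (Lpr_gt (f204039 IH) (Lpr_bf (f533582 IH) (Lpr_ct (f460492 IH) (Lpr_gt (f512985 IH) (Lpe (K29.f460310 IH) (Lpr_bt (K29.f461100 IH) (Lpe (f461116 IH) (Lpr_ct (f461118 IH) (Lpn (LP (LK LD1_c24 LD2_c1 LD3_c23)))))))))))))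
theorem f204007 : Led Lsl_ct (LP (LK LD1_c31 LD2_c17 LD3_c51)) = (LP (LK LD1_c23 LD2_c57 LD3_c19)) :=
  Lre_c IH (LK LD1_c31 LD2_c17 LD3_c51) (LK LD1_c23 LD2_c57 LD3_c19) Lrfl Lrfl
theorem f204006 : Led Lsl_dt (LP (LK LD1_c23 LD2_c57 LD3_c19)) = (LP (LK LD1_c14 LD2_c19 LD3_c20)) :=
  Lre_d IH (LK LD1_c23 LD2_c57 LD3_c19) (LK LD1_c14 LD2_c19 LD3_c20) Lrfl Lrfl
theorem f204018 : Led Lsl_at (LP (LK LD1_c14 LD2_c19 LD3_c20)) = (LP (LK LD1_c7 LD2_c40 LD3_c53)) :=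
  Lgr Lrot100 (Lpr_af (f204016 IH) (Lpn (LP (LK LD1_c7 LD2_c40 LD3_c53))))
theorem f203976 : Led Lsl_af (LP (LK LD1_c14 LD2_c48 LD3_c51)) = (LP (LK LD1_c14 LD2_c45 LD3_c38)) :=
  Lgr Lrot0 (Lpr_at (K34.f203974 IH) (Lpn (LP (LK LD1_c14 LD2_c45 LD3_c38))))
theorem f145050 : Led Lsl_at (LP (LK LD1_c14 LD2_c1 LD3_c44)) = (LP (LK LD1_c13 LD2_c8 LD3_c47)) :=
  Lgr Lrot100 (Lpr_af (K6.f145048 IH) (Lpn (LP (LK LD1_c13 LD2_c8 LD3_c47))))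
theorem f204002 : Led Lsl_af (LP (LK LD1_c13 LD2_c8 LD3_c48)) = (LP (LK LD1_c14 LD2_c1 LD3_c42)) :=
  Lgr Lrot36 (Lpe (f142549 IH) (Lpr_at (f145050 IH) (Lpe (f142492 IH) (Lpe (f203976 IH) (Lpr_bt (K34.f203996 IH) (Lpn (LP (LK LD1_c14 LD2_c1 LD3_c42))))))))
theorem f204043 : Led Lsl_cf (LP (LK LD1_c14 LD2_c19 LD3_c20)) = (LP (LK LD1_c13 LD2_c8 LD3_c48)) :=
  Lgr Lrot1 (Lpr_at (f204018 IH) (Lpe (K34.f123490 IH) (Lpe (f204002 IH) (Lpn (LP (LK LD1_c13 LD2_c8 LD3_c48))))))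
theorem f88243 : Led Lsl_gt (LP (LK LD1_c7 LD2_c37 LD3_c58)) = (LP (LK LD1_c3 LD2_c48 LD3_c28)) :=
  Lre_g IH (LK LD1_c7 LD2_c37 LD3_c58) (LK LD1_c3 LD2_c48 LD3_c28) Lrfl Lrfl
theorem f461109 : Led Lsl_gf (LP (LK LD1_c7 LD2_c37 LD3_c58)) = (LP (LK LD1_c14 LD2_c21 LD3_c48)) :=
  Lgr Lrot47 (Lpr_gt (f88243 IH) (Lpe (K28.f129547 IH) (Lpr_ff (K28.f461078 IH) (Lpn (LP (LK LD1_c14 LD2_c21 LD3_c48))))))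
theorem f532236 : Led Lsl_ct (LP (LK LD1_c14 LD2_c21 LD3_c47)) = (LP (LK LD1_c13 LD2_c53 LD3_c14)) :=
  Lgr Lrot59 (Lpr_cf (K34.f532232 IH) (Lpn (LP (LK LD1_c13 LD2_c53 LD3_c14))))
theorem f471763 : Led Lsl_at (LP (LK LD1_c13 LD2_c53 LD3_c14)) = (LP (LK LD1_c7 LD2_c20 LD3_c35)) :=
  Lre_a IH (LK LD1_c13 LD2_c53 LD3_c14) (LK LD1_c7 LD2_c20 LD3_c35) Lrfl Lrfl
theorem f532242 : Led Lsl_af (LP (LK LD1_c14 LD2_c21 LD3_c47)) = (LP (LK LD1_c7 LD2_c37 LD3_c57)) :=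
  Lgr Lrot68 (Lpr_ct (f532236 IH) (Lpr_at (f471763 IH) (Lpe (K29.f471712 IH) (Lpn (LP (LK LD1_c7 LD2_c37 LD3_c57))))))
theorem f532246 : Led Lsl_ft (LP (LK LD1_c3 LD2_c55 LD3_c59)) = (LP (LK LD1_c7 LD2_c37 LD3_c57)) :=
  Lgr Lrot2 (Lpr_gt (K29.f471242 IH) (Lpr_gt (K34.f461113 IH) (Lpr_af (f532242 IH) (Lpn (LP (LK LD1_c7 LD2_c37 LD3_c57))))))
theorem f532250 : Led Lsl_ff (LP (LK LD1_c3 LD2_c55 LD3_c59)) = (LP (LK LD1_c7 LD2_c37 LD3_c57)) :=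
  Lgr Lrot3 (Lpr_ft (f532246 IH) (Lpn (LP (LK LD1_c7 LD2_c37 LD3_c57))))
theorem f532254 : Led Lsl_at (LP (LK LD1_c3 LD2_c55 LD3_c59)) = (LP (LK LD1_c7 LD2_c37 LD3_c58)) :=
  Lgr Lrot26 (Lpr_ff (f532250 IH) (Lpr_gt (K28.f461577 IH) (Lpe (f461109 IH) (Lpn (LP (LK LD1_c7 LD2_c37 LD3_c58))))))
theorem f471232 : Led Lsl_at (LP (LK LD1_c14 LD2_c3 LD3_c11)) = (LP (LK LD1_c7 LD2_c26 LD3_c2)) :=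
  Lre_a IH (LK LD1_c14 LD2_c3 LD3_c11) (LK LD1_c7 LD2_c26 LD3_c2) Lrfl Lrfl
theorem f532258 : Led Lsl_cf (LP (LK LD1_c14 LD2_c3 LD3_c11)) = (LP (LK LD1_c7 LD2_c37 LD3_c58)) :=
  Lgr Lrot1 (Lpr_at (f471232 IH) (Lpe (K29.f471180 IH) (Lpr_at (f532254 IH) (Lpn (LP (LK LD1_c7 LD2_c37 LD3_c58))))))
theorem f533586 : Led Lsl_gf (LP (LK LD1_c13 LD2_c8 LD3_c48)) = (LP (LK LD1_c14 LD2_c3 LD3_c11)) :=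
  Lgr Lrot104 (Lpe (f204043 IH) (Lpe (f204006 IH) (Lpe (f204007 IH) (Lpr_gf (f533584 IH) (Lpe (f461118 IH) (Lpr_gf (f461116 IH) (Lpe (K28.f461075 IH) (Lpe (f461109 IH) (Lpe (f532258 IH) (Lpn (LP (LK LD1_c14 LD2_c3 LD3_c11))))))))))))
theorem f471761 : Led Lsl_at (LP (LK LD1_c7 LD2_c20 LD3_c35)) = (LP (LK LD1_c13 LD2_c53 LD3_c14)) :=
  Lre_a IH (LK LD1_c7 LD2_c20 LD3_c35) (LK LD1_c13 LD2_c53 LD3_c14) Lrfl Lrfl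
theorem f471757 : Led Lsl_bt (LP (LK LD1_c3 LD2_c32 LD3_c61)) = (LP (LK LD1_c1 LD2_c54 LD3_c33)) :=
  Lgr Lrot22 (Lpr_ct (K29.f471730 IH) (Lpe (K28.f12401 IH) (Lpe (K29.f12373 IH) (Lpr_gf (K29.f457136 IH) (Lpqs (K29.f471297 IH) (Lpe (K29.f11244 IH) (Lpr_ct (K28.f11243 IH) (Lpe (K24.f11234 IH) (Lpe (K0.f11178 IH) (Lpr_bt (K34.f11210 IH) (Lpe (K28.f11247 IH) (Lpn (LP (LK LD1_c1 LD2_c54 LD3_c33))))))))))))))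
theorem f471759 : Led Lsl_cf (LP (LK LD1_c7 LD2_c20 LD3_c35)) = (LP (LK LD1_c7 LD2_c37 LD3_c57)) :=
  Lgr Lrot97 (Lpr_bt (K29.f203933 IH) (Lpe (K29.f471728 IH) (Lpr_bt (f471757 IH) (Lpr_ct (K29.f14919 IH) (Lpe (K28.f463725 IH) (Lpn (LP (LK LD1_c7 LD2_c37 LD3_c57))))))))
theorem f532234 : Led Lsl_at (LP (LK LD1_c14 LD2_c21 LD3_c47)) = (LP (LK LD1_c7 LD2_c37 LD3_c57)) :=
  Lgr Lrot107 (Lpr_cf (K34.f532232 IH) (Lpe (f471761 IH) (Lpr_cf (f471759 IH) (Lpn (LP (LK LD1_c7 LD2_c37 LD3_c57))))))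
theorem f532260 : Led Lsl_ff (LP (LK LD1_c14 LD2_c21 LD3_c47)) = (LP (LK LD1_c7 LD2_c37 LD3_c58)) :=
  Lgr Lrot30 (Lpr_at (f532234 IH) (Lpe (f532250 IH) (Lpr_at (f532254 IH) (Lpn (LP (LK LD1_c7 LD2_c37 LD3_c58))))))
theorem f532262 : Led Lsl_ft (LP (LK LD1_c14 LD2_c21 LD3_c47)) = (LP (LK LD1_c7 LD2_c37 LD3_c58)) :=
  Lgr Lrot48 (Lpr_ff (f532260 IH) (Lpn (LP (LK LD1_c7 LD2_c37 LD3_c58))))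
theorem f532264 : Led Lsl_ff (LP (LK LD1_c13 LD2_c53 LD3_c14)) = (LP (LK LD1_c14 LD2_c3 LD3_c11)) :=
  Lgr Lrot23 (Lpe (K34.f532232 IH) (Lpr_ft (f532262 IH) (Lpe (f532258 IH) (Lpn (LP (LK LD1_c14 LD2_c3 LD3_c11))))))
theorem f533590 : Led Lsl_gt (LP (LK LD1_c13 LD2_c8 LD3_c48)) = (LP (LK LD1_c7 LD2_c20 LD3_c35)) :=
  Lgr Lrot46 (Lpr_gf (f533586 IH) (Lpe (f532264 IH) (Lpr_at (f471763 IH) (Lpn (LP (LK LD1_c7 LD2_c20 LD3_c35))))))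
theorem f102876 : Led Lsl_dt (LP (LK LD1_c13 LD2_c6 LD3_c18)) = (LP (LK LD1_c22 LD2_c17 LD3_c43)) :=
  Lre_d IH (LK LD1_c13 LD2_c6 LD3_c18) (LK LD1_c22 LD2_c17 LD3_c43) Lrfl Lrfl
theorem f122584 : Led Lsl_et (LP (LK LD1_c13 LD2_c53 LD3_c16)) = (LP (LK LD1_c7 LD2_c20 LD3_c35)) :=
  Lre_e IH (LK LD1_c13 LD2_c53 LD3_c16) (LK LD1_c7 LD2_c20 LD3_c35) Lrfl Lrfl
theorem f533592 : Led Lsl_gf (LP (LK LD1_c22 LD2_c17 LD3_c43)) = (LP (LK LD1_c13 LD2_c56 LD3_c54)) :=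
  Lgr Lrot145 (Lpe (f102876 IH) (Lpr_et (K4.f102875 IH) (Lpr_gt (K4.f102871 IH) (Lpe (K34.f144684 IH) (Lpe (K7.f147909 IH) (Lpr_df (K6.f127980 IH) (Lpr_et (f127987 IH) (Lpr_gt (f533590 IH) (Lpe (f122584 IH) (Lpr_dt (K34.f122567 IH) (Lpn (LP (LK LD1_c13 LD2_c56 LD3_c54)))))))))))))
theorem f147820 : Led Lsl_dt (LP (LK LD1_c23 LD2_c37 LD3_c5)) = (LP (LK LD1_c14 LD2_c3 LD3_c56)) :=
  Lre_d IH (LK LD1_c23 LD2_c37 LD3_c5) (LK LD1_c14 LD2_c3 LD3_c56) Lrfl Lrfl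
theorem f436380 : Led Lsl_dt (LP (LK LD1_c13 LD2_c54 LD3_c27)) = (LP (LK LD1_c23 LD2_c24 LD3_c35)) :=
  Lre_d IH (LK LD1_c13 LD2_c54 LD3_c27) (LK LD1_c23 LD2_c24 LD3_c35) Lrfl Lrfl
theorem f436381 : Led Lsl_af (LP (LK LD1_c23 LD2_c37 LD3_c5)) = (LP (LK LD1_c23 LD2_c24 LD3_c35)) :=
  Lgr Lrot117 (Lpr_dt (f147820 IH) (Lpr_at (K24.f436335 IH) (Lpr_dt (f436380 IH) (Lpn (LP (LK LD1_c23 LD2_c24 LD3_c35))))))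
theorem f108924 : Led Lsl_af (LP (LK LD1_c22 LD2_c17 LD3_c45)) = (LP (LK LD1_c23 LD2_c38 LD3_c11)) :=
  Lgr Lrot0 (Lpr_at (K34.f108922 IH) (Lpn (LP (LK LD1_c23 LD2_c38 LD3_c11))))
theorem f108949 : Led Lsl_at (LP (LK LD1_c22 LD2_c17 LD3_c43)) = (LP (LK LD1_c23 LD2_c38 LD3_c12)) :=
  Lgr Lrot51 (Lpe (f102876 IH) (Lpr_af (K4.f108944 IH) (Lpe (K34.f108948 IH) (Lpn (LP (LK LD1_c23 LD2_c38 LD3_c12))))))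
theorem f108951 : Led Lsl_af (LP (LK LD1_c22 LD2_c17 LD3_c43)) = (LP (LK LD1_c23 LD2_c38 LD3_c12)) :=
  Lgr Lrot0 (Lpr_at (f108949 IH) (Lpn (LP (LK LD1_c23 LD2_c38 LD3_c12))))
theorem f436388 : Led Lsl_bt (LP (LK LD1_c22 LD2_c17 LD3_c43)) = (LP (LK LD1_c23 LD2_c24 LD3_c35)) :=
  Lgr Lrot62 (Lpr_af (f108951 IH) (Lpr_bf (K34.f108970 IH) (Lpr_af (f108924 IH) (Lpr_bf (K34.f147816 IH) (Lpr_af (f436381 IH) (Lpn (LP (LK LD1_c23 LD2_c24 LD3_c35))))))))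
theorem f436390 : Led Lsl_bf (LP (LK LD1_c22 LD2_c17 LD3_c43)) = (LP (LK LD1_c23 LD2_c24 LD3_c35)) :=
  Lgr Lrot24 (Lpr_bt (f436388 IH) (Lpn (LP (LK LD1_c23 LD2_c24 LD3_c35))))
theorem f436392 : Led Lsl_ct (LP (LK LD1_c23 LD2_c24 LD3_c35)) = (LP (LK LD1_c31 LD2_c1 LD3_c60)) :=
  Lre_c IH (LK LD1_c23 LD2_c24 LD3_c35) (LK LD1_c31 LD2_c1 LD3_c60) Lrfl Lrfl
theorem f122497 : Led Lsl_bt (LP (LK LD1_c7 LD2_c22 LD3_c34)) = (LP (LK LD1_c13 LD2_c56 LD3_c54)) :=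
  Lre_b IH (LK LD1_c7 LD2_c22 LD3_c34) (LK LD1_c13 LD2_c56 LD3_c54) Lrfl Lrfl
theorem f122500 : Led Lsl_ct (LP (LK LD1_c7 LD2_c22 LD3_c34)) = (LP (LK LD1_c13 LD2_c56 LD3_c55)) :=
  Lre_c IH (LK LD1_c7 LD2_c22 LD3_c34) (LK LD1_c13 LD2_c56 LD3_c55) Lrfl Lrfl
theorem f130736 : Led Lsl_ct (LP (LK LD1_c7 LD2_c28 LD3_c49)) = (LP (LK LD1_c3 LD2_c43 LD3_c60)) :=
  Lre_c IH (LK LD1_c7 LD2_c28 LD3_c49) (LK LD1_c3 LD2_c43 LD3_c60) Lrfl Lrfl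
theorem f131726 : Led Lsl_dt (LP (LK LD1_c7 LD2_c28 LD3_c2)) = (LP (LK LD1_c3 LD2_c43 LD3_c42)) :=
  Lre_d IH (LK LD1_c7 LD2_c28 LD3_c2) (LK LD1_c3 LD2_c43 LD3_c42) Lrfl Lrfl
theorem f466256 : Led Lsl_gf (LP (LK LD1_c7 LD2_c28 LD3_c49)) = (LP (LK LD1_c13 LD2_c56 LD3_c55)) :=
  Lgr Lrot104 (Lpr_ct (f130736 IH) (Lpe (K33.f146928 IH) (Lpe (K28.f123584 IH) (Lpr_gf (K28.f466252 IH) (Lpr_cf (K34.f466204 IH) (Lpr_gf (K28.f439138 IH) (Lpe (f131726 IH) (Lpe (K28.f439161 IH) (Lpr_ct (f122500 IH) (Lpn (LP (LK LD1_c13 LD2_c56 LD3_c55))))))))))))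
theorem f147085 : Led Lsl_ft (LP (LK LD1_c13 LD2_c58 LD3_c13)) = (LP (LK LD1_c7 LD2_c23 LD3_c17)) :=
  Lre_f IH (LK LD1_c13 LD2_c58 LD3_c13) (LK LD1_c7 LD2_c23 LD3_c17) Lrfl Lrfl
theorem f466259 : Led Lsl_gt (LP (LK LD1_c13 LD2_c58 LD3_c13)) = (LP (LK LD1_c13 LD2_c56 LD3_c55)) :=
  Lgr Lrot5 (Lpr_ft (f147085 IH) (Lpr_at (K8.f147066 IH) (Lpr_gf (f466256 IH) (Lpn (LP (LK LD1_c13 LD2_c56 LD3_c55))))))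
theorem f146935 : Led Lsl_ct (LP (LK LD1_c7 LD2_c23 LD3_c18)) = (LP (LK LD1_c13 LD2_c58 LD3_c13)) :=
  Lre_c IH (LK LD1_c7 LD2_c23 LD3_c18) (LK LD1_c13 LD2_c58 LD3_c13) Lrfl Lrfl
theorem f147422 : Led Lsl_ct (LP (LK LD1_c14 LD2_c7 LD3_c12)) = (LP (LK LD1_c23 LD2_c41 LD3_c35)) :=
  Lre_c IH (LK LD1_c14 LD2_c7 LD3_c12) (LK LD1_c23 LD2_c41 LD3_c35) Lrfl Lrfl
theorem f533602 : Led Lsl_gt (LP (LK LD1_c31 LD2_c1 LD3_c60)) = (LP (LK LD1_c23 LD2_c41 LD3_c35)) :=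
  Lgr Lrot65 (Lpe (f436392 IH) (Lpe (f436390 IH) (Lpr_gf (f533592 IH) (Lpe (f122497 IH) (Lpr_ct (f122500 IH) (Lpe (f466259 IH) (Lpe (f146935 IH) (Lpr_gf (K34.f147417 IH) (Lpe (K34.f147419 IH) (Lpr_ct (f147422 IH) (Lpn (LP (LK LD1_c23 LD2_c41 LD3_c35)))))))))))))
theorem f533604 : Led Lsl_gf (LP (LK LD1_c31 LD2_c1 LD3_c60)) = (LP (LK LD1_c23 LD2_c42 LD3_c3)) :=
  Lgr Lrot47 (Lpr_gt (f533602 IH) (Lpr_af (K34.f471683 IH) (Lpr_ff (K34.f470108 IH) (Lpn (LP (LK LD1_c23 LD2_c42 LD3_c3))))))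
theorem f131776 : Led Lsl_bt (LP (LK LD1_c14 LD2_c5 LD3_c46)) = (LP (LK LD1_c7 LD2_c27 LD3_c61)) :=
  Lre_b IH (LK LD1_c14 LD2_c5 LD3_c46) (LK LD1_c7 LD2_c27 LD3_c61) Lrfl Lrfl
theorem f531923 : Led Lsl_ft (LP (LK LD1_c13 LD2_c56 LD3_c54)) = (LP (LK LD1_c14 LD2_c5 LD3_c46)) :=
  Lgr Lrot75 (Lpe (f122497 IH) (Lpr_ff (K34.f531921 IH) (Lpe (f131776 IH) (Lpn (LP (LK LD1_c14 LD2_c5 LD3_c46))))))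
theorem f469339 : Led Lsl_at (LP (LK LD1_c14 LD2_c5 LD3_c46)) = (LP (LK LD1_c23 LD2_c39 LD3_c23)) :=
  Lre_a IH (LK LD1_c14 LD2_c5 LD3_c46) (LK LD1_c23 LD2_c39 LD3_c23) Lrfl Lrfl
theorem f533596 : Led Lsl_gt (LP (LK LD1_c22 LD2_c17 LD3_c43)) = (LP (LK LD1_c23 LD2_c39 LD3_c23)) :=
  Lgr Lrot46 (Lpr_gf (f533592 IH) (Lpr_ft (f531923 IH) (Lpr_at (f469339 IH) (Lpn (LP (LK LD1_c23 LD2_c39 LD3_c23))))))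
theorem f532020 : Led Lsl_bf (LP (LK LD1_c23 LD2_c39 LD3_c23)) = (LP (LK LD1_c14 LD2_c6 LD3_c9)) :=
  Lgr Lrot81 (Lpr_at (K34.f469330 IH) (Lpr_bt (f131776 IH) (Lpe (K34.f531937 IH) (Lpr_bt (K34.f489677 IH) (Lpr_at (K34.f532016 IH) (Lpn (LP (LK LD1_c14 LD2_c6 LD3_c9))))))))
theorem f468204 : Led Lsl_ct (LP (LK LD1_c30 LD2_c41 LD3_c10)) = (LP (LK LD1_c22 LD2_c44 LD3_c5)) :=
  Lre_c IH (LK LD1_c30 LD2_c41 LD3_c10) (LK LD1_c22 LD2_c44 LD3_c5) Lrfl Lrfl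
theorem f532193 : Led Lsl_ff (LP (LK LD1_c30 LD2_c41 LD3_c10)) = (LP (LK LD1_c23 LD2_c40 LD3_c2)) :=
  Lgr Lrot23 (Lpr_ct (f468204 IH) (Lpr_ft (K34.f532113 IH) (Lpr_ct (K34.f468235 IH) (Lpn (LP (LK LD1_c23 LD2_c40 LD3_c2))))))
theorem f437754 : Led Lsl_ct (LP (LK LD1_c23 LD2_c39 LD3_c28)) = (LP (LK LD1_c14 LD2_c5 LD3_c48)) :=
  Lre_c IH (LK LD1_c23 LD2_c39 LD3_c28) (LK LD1_c14 LD2_c5 LD3_c48) Lrfl Lrfl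
theorem f532109 : Led Lsl_at (LP (LK LD1_c30 LD2_c41 LD3_c10)) = (LP (LK LD1_c23 LD2_c39 LD3_c28)) :=
  Lgr Lrot107 (Lpe (K34.f468203 IH) (Lpr_af (K34.f532103 IH) (Lpe (f437754 IH) (Lpn (LP (LK LD1_c23 LD2_c39 LD3_c28))))))
theorem f437755 : Led Lsl_gt (LP (LK LD1_c31 LD2_c9 LD3_c33)) = (LP (LK LD1_c23 LD2_c39 LD3_c28)) :=
  Lre_g IH (LK LD1_c31 LD2_c9 LD3_c33) (LK LD1_c23 LD2_c39 LD3_c28) Lrfl Lrfl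
theorem f532417 : Led Lsl_gf (LP (LK LD1_c31 LD2_c9 LD3_c33)) = (LP (LK LD1_c23 LD2_c40 LD3_c2)) :=
  Lgr Lrot47 (Lpr_gt (f437755 IH) (Lpe (f532109 IH) (Lpr_ff (f532193 IH) (Lpn (LP (LK LD1_c23 LD2_c40 LD3_c2))))))
theorem f436372 : Led Lsl_ct (LP (LK LD1_c31 LD2_c1 LD3_c60)) = (LP (LK LD1_c23 LD2_c24 LD3_c35)) :=
  Lre_c IH (LK LD1_c31 LD2_c1 LD3_c60) (LK LD1_c23 LD2_c24 LD3_c35) Lrfl Lrfl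
theorem f436371 : Led Lsl_dt (LP (LK LD1_c23 LD2_c24 LD3_c35)) = (LP (LK LD1_c13 LD2_c54 LD3_c27)) :=
  Lre_d IH (LK LD1_c23 LD2_c24 LD3_c35) (LK LD1_c13 LD2_c54 LD3_c27) Lrfl Lrfl
theorem f436385 : Led Lsl_ct (LP (LK LD1_c7 LD2_c21 LD3_c25)) = (LP (LK LD1_c13 LD2_c54 LD3_c27)) :=
  Lre_c IH (LK LD1_c7 LD2_c21 LD3_c25) (LK LD1_c13 LD2_c54 LD3_c27) Lrfl Lrfl
theorem f459320 : Led Lsl_dt (LP (LK LD1_c13 LD2_c25 LD3_c23)) = (LP (LK LD1_c22 LD2_c44 LD3_c15)) :=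
  Lre_d IH (LK LD1_c13 LD2_c25 LD3_c23) (LK LD1_c22 LD2_c44 LD3_c15) Lrfl Lrfl
theorem f533623 : Led Lsl_gt (LP (LK LD1_c22 LD2_c44 LD3_c15)) = (LP (LK LD1_c14 LD2_c7 LD3_c37)) :=
  Lgr Lrot9 (Lpe (f459320 IH) (Lpr_gt (K34.f458999 IH) (Lpe (K34.f459295 IH) (Lpe (K34.f533011 IH) (Lpr_ct (f436385 IH) (Lpe (f436371 IH) (Lpe (f436372 IH) (Lpr_gf (f533604 IH) (Lpe (K34.f469979 IH) (Lpn (LP (LK LD1_c14 LD2_c7 LD3_c37))))))))))))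
theorem f533625 : Led Lsl_cf (LP (LK LD1_c31 LD2_c9 LD3_c33)) = (LP (LK LD1_c30 LD2_c41 LD3_c21)) :=
  Lgr Lrot58 (Lpr_gf (f532417 IH) (Lpe (K34.f468235 IH) (Lpe (f532020 IH) (Lpe (f533596 IH) (Lpr_bf (f436390 IH) (Lpr_ct (f436392 IH) (Lpr_gf (f533604 IH) (Lpe (K34.f469979 IH) (Lpe (f533623 IH) (Lpe (f533484 IH) (Lpn (LP (LK LD1_c30 LD2_c41 LD3_c21)))))))))))))
theorem f533627 : Led Lsl_ct (LP (LK LD1_c31 LD2_c9 LD3_c33)) = (LP (LK LD1_c30 LD2_c41 LD3_c21)) :=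
  Lgr Lrot59 (Lpr_cf (f533625 IH) (Lpn (LP (LK LD1_c30 LD2_c41 LD3_c21))))
theorem f420079 : Led Lsl_dt (LP (LK LD1_c7 LD2_c28 LD3_c14)) = (LP (LK LD1_c3 LD2_c43 LD3_c49)) :=
  Lre_d IH (LK LD1_c7 LD2_c28 LD3_c14) (LK LD1_c3 LD2_c43 LD3_c49) Lrfl Lrfl
theorem f136988 : Led Lsl_gt (LP (LK LD1_c3 LD2_c43 LD3_c49)) = (LP (LK LD1_c7 LD2_c28 LD3_c13)) :=
  Lre_g IH (LK LD1_c3 LD2_c43 LD3_c49) (LK LD1_c7 LD2_c28 LD3_c13) Lrfl Lrfl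
theorem f533382 : Led Lsl_dt (LP (LK LD1_c22 LD2_c44 LD3_c13)) = (LP (LK LD1_c30 LD2_c41 LD3_c21)) :=
  Lre_d IH (LK LD1_c22 LD2_c44 LD3_c13) (LK LD1_c30 LD2_c41 LD3_c21) Lrfl Lrfl
theorem f111181 : Led Lsl_gt (LP (LK LD1_c7 LD2_c1 LD3_c14)) = (LP (LK LD1_c13 LD2_c19 LD3_c1)) :=
  Lre_g IH (LK LD1_c7 LD2_c1 LD3_c14) (LK LD1_c13 LD2_c19 LD3_c1) Lrfl Lrfl
theorem f111271 : Led Lsl_gt (LP (LK LD1_c13 LD2_c19 LD3_c1)) = (LP (LK LD1_c21 LD2_c41 LD3_c16)) :=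
  Lgr Lrot46 (Lpe (f111181 IH) (Lpr_ft (K34.f111159 IH) (Lpr_at (K34.f111266 IH) (Lpn (LP (LK LD1_c21 LD2_c41 LD3_c16))))))
theorem f533636 : Led Lsl_ct (LP (LK LD1_c7 LD2_c28 LD3_c13)) = (LP (LK LD1_c13 LD2_c19 LD3_c1)) :=
  Lgr Lrot152 (Lpe (f136988 IH) (Lpe (f420079 IH) (Lpr_gt (K34.f122256 IH) (Lpr_ct (K34.f468235 IH) (Lpe (f532417 IH) (Lpr_ct (f533627 IH) (Lpe (f533382 IH) (Lpe (f533508 IH) (Lpe (f111271 IH) (Lpn (LP (LK LD1_c13 LD2_c19 LD3_c1))))))))))))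
theorem f468176 : Led Lsl_at (LP (LK LD1_c7 LD2_c4 LD3_c51)) = (LP (LK LD1_c13 LD2_c25 LD3_c19)) :=
  Lre_a IH (LK LD1_c7 LD2_c4 LD3_c51) (LK LD1_c13 LD2_c25 LD3_c19) Lrfl Lrfl
theorem f468177 : Led Lsl_ff (LP (LK LD1_c7 LD2_c4 LD3_c51)) = (LP (LK LD1_c3 LD2_c43 LD3_c49)) :=
  Lgr Lrot30 (Lpr_at (f468176 IH) (Lpr_ft (K28.f468174 IH) (Lpr_at (K28.f122358 IH) (Lpn (LP (LK LD1_c3 LD2_c43 LD3_c49))))))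
theorem f488315 : Led Lsl_gf (LP (LK LD1_c13 LD2_c25 LD3_c19)) = (LP (LK LD1_c7 LD2_c28 LD3_c13)) :=
  Lgr Lrot76 (Lpe (f468176 IH) (Lpr_ff (f468177 IH) (Lpr_gt (f136988 IH) (Lpn (LP (LK LD1_c7 LD2_c28 LD3_c13))))))
theorem f468171 : Led Lsl_dt (LP (LK LD1_c13 LD2_c25 LD3_c19)) = (LP (LK LD1_c22 LD2_c44 LD3_c4)) :=
  Lre_d IH (LK LD1_c13 LD2_c25 LD3_c19) (LK LD1_c22 LD2_c44 LD3_c4) Lrfl Lrfl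
theorem f440457 : Led Lsl_at (LP (LK LD1_c14 LD2_c6 LD3_c4)) = (LP (LK LD1_c7 LD2_c28 LD3_c14)) :=
  Lre_a IH (LK LD1_c14 LD2_c6 LD3_c4) (LK LD1_c7 LD2_c28 LD3_c14) Lrfl Lrfl
theorem f419751 : Led Lsl_dt (LP (LK LD1_c14 LD2_c6 LD3_c4)) = (LP (LK LD1_c7 LD2_c28 LD3_c11)) :=
  Lre_d IH (LK LD1_c14 LD2_c6 LD3_c4) (LK LD1_c7 LD2_c28 LD3_c11) Lrfl Lrfl
theorem f468172 : Led Lsl_ft (LP (LK LD1_c22 LD2_c44 LD3_c4)) = (LP (LK LD1_c14 LD2_c6 LD3_c4)) :=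
  Lgr Lrot54 (Lpe (f468171 IH) (Lpr_ff (K28.f468151 IH) (Lpe (f419751 IH) (Lpn (LP (LK LD1_c14 LD2_c6 LD3_c4))))))
theorem f471128 : Led Lsl_gt (LP (LK LD1_c22 LD2_c44 LD3_c4)) = (LP (LK LD1_c14 LD2_c5 LD3_c48)) :=
  Lgr Lrot5 (Lpr_ft (f468172 IH) (Lpr_at (f440457 IH) (Lpr_gf (K34.f471126 IH) (Lpn (LP (LK LD1_c14 LD2_c5 LD3_c48))))))
theorem f437719 : Led Lsl_bt (LP (LK LD1_c14 LD2_c3 LD3_c7)) = (LP (LK LD1_c7 LD2_c26 LD3_c1)) :=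
  Lre_b IH (LK LD1_c14 LD2_c3 LD3_c7) (LK LD1_c7 LD2_c26 LD3_c1) Lrfl Lrfl
theorem f437721 : Led Lsl_df (LP (LK LD1_c14 LD2_c3 LD3_c7)) = (LP (LK LD1_c14 LD2_c5 LD3_c48)) :=
  Lgr Lrot12 (Lpr_bt (f437719 IH) (Lpr_dt (K28.f437717 IH) (Lpr_bt (K34.f437720 IH) (Lpn (LP (LK LD1_c14 LD2_c5 LD3_c48))))))
theorem f465369 : Led Lsl_cf (LP (LK LD1_c3 LD2_c52 LD3_c28)) = (LP (LK LD1_c7 LD2_c13 LD3_c43)) :=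
  Lgr Lrot11 (Lpr_ct (K34.f465243 IH) (Lpn (LP (LK LD1_c7 LD2_c13 LD3_c43))))
theorem f465371 : Led Lsl_bt (LP (LK LD1_c3 LD2_c52 LD3_c28)) = (LP (LK LD1_c7 LD2_c46 LD3_c44)) :=
  Lre_b IH (LK LD1_c3 LD2_c52 LD3_c28) (LK LD1_c7 LD2_c46 LD3_c44) Lrfl Lrfl
theorem f471101 : Led Lsl_ct (LP (LK LD1_c7 LD2_c46 LD3_c44)) = (LP (LK LD1_c14 LD2_c3 LD3_c7)) :=
  Lgr Lrot83 (Lpe (f465371 IH) (Lpr_cf (f465369 IH) (Lpe (K34.f465252 IH) (Lpr_cf (K34.f470905 IH) (Lpe (f437719 IH) (Lpn (LP (LK LD1_c14 LD2_c3 LD3_c7))))))))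
theorem f471111 : Led Lsl_dt (LP (LK LD1_c14 LD2_c40 LD3_c32)) = (LP (LK LD1_c7 LD2_c46 LD3_c44)) :=
  Lre_d IH (LK LD1_c14 LD2_c40 LD3_c32) (LK LD1_c7 LD2_c46 LD3_c44) Lrfl Lrfl
theorem f471112 : Led Lsl_gt (LP (LK LD1_c24 LD2_c24 LD3_c45)) = (LP (LK LD1_c14 LD2_c40 LD3_c32)) :=
  Lre_g IH (LK LD1_c24 LD2_c24 LD3_c45) (LK LD1_c14 LD2_c40 LD3_c32) Lrfl Lrfl
theorem f533640 : Led Lsl_df (LP (LK LD1_c24 LD2_c24 LD3_c45)) = (LP (LK LD1_c21 LD2_c41 LD3_c16)) :=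
  Lgr Lrot16 (Lpr_gt (f471112 IH) (Lpr_dt (f471111 IH) (Lpr_ct (f471101 IH) (Lpr_df (f437721 IH) (Lpe (f471128 IH) (Lpe (f468171 IH) (Lpr_gf (f488315 IH) (Lpr_ct (f533636 IH) (Lpr_gt (f111271 IH) (Lpn (LP (LK LD1_c21 LD2_c41 LD3_c16))))))))))))
theorem f533648 : Led Lsl_ft (LP (LK LD1_c24 LD2_c24 LD3_c45)) = (LP (LK LD1_c21 LD2_c41 LD3_c15)) :=
  Lgr Lrot54 (Lpr_df (f533640 IH) (Lpe (K34.f111135 IH) (Lpe (K7.f111246 IH) (Lpn (LP (LK LD1_c21 LD2_c41 LD3_c15))))))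
theorem f111244 : Led Lsl_et (LP (LK LD1_c23 LD2_c47 LD3_c3)) = (LP (LK LD1_c21 LD2_c41 LD3_c15)) :=
  Lgr Lrot87 (Lpr_ef (K7.f111237 IH) (Lpn (LP (LK LD1_c21 LD2_c41 LD3_c15))))
theorem f111215 : Led Lsl_at (LP (LK LD1_c14 LD2_c11 LD3_c42)) = (LP (LK LD1_c23 LD2_c47 LD3_c3)) :=
  Lre_a IH (LK LD1_c14 LD2_c11 LD3_c42) (LK LD1_c23 LD2_c47 LD3_c3) Lrfl Lrfl
theorem f111205 : Led Lsl_ef (LP (LK LD1_c14 LD2_c11 LD3_c42)) = (LP (LK LD1_c13 LD2_c19 LD3_c2)) :=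
  Lgr Lrot88 (Lpr_et (K4.f111189 IH) (Lpn (LP (LK LD1_c13 LD2_c19 LD3_c2))))
theorem f111248 : Led Lsl_af (LP (LK LD1_c13 LD2_c19 LD3_c2)) = (LP (LK LD1_c21 LD2_c41 LD3_c15)) :=
  Lgr Lrot50 (Lpe (f111205 IH) (Lpr_at (f111215 IH) (Lpr_et (f111244 IH) (Lpn (LP (LK LD1_c21 LD2_c41 LD3_c15))))))
theorem f533656 : Led Lsl_gt (LP (LK LD1_c14 LD2_c40 LD3_c32)) = (LP (LK LD1_c13 LD2_c19 LD3_c2)) :=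
  Lgr Lrot46 (Lpe (f471112 IH) (Lpr_ft (f533648 IH) (Lpe (f111248 IH) (Lpn (LP (LK LD1_c13 LD2_c19 LD3_c2))))))
theorem f471107 : Led Lsl_dt (LP (LK LD1_c7 LD2_c46 LD3_c44)) = (LP (LK LD1_c14 LD2_c40 LD3_c32)) :=
  Lre_d IH (LK LD1_c7 LD2_c46 LD3_c44) (LK LD1_c14 LD2_c40 LD3_c32) Lrfl Lrfl
theorem f144841 : Led Lsl_et (LP (LK LD1_c3 LD2_c47 LD3_c23)) = (LP (LK LD1_c7 LD2_c35 LD3_c38)) :=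
  Lre_e IH (LK LD1_c3 LD2_c47 LD3_c23) (LK LD1_c7 LD2_c35 LD3_c38) Lrfl Lrfl
theorem f533664 : Led Lsl_gf (LP (LK LD1_c3 LD2_c52 LD3_c26)) = (LP (LK LD1_c7 LD2_c35 LD3_c38)) :=
  Lgr Lrot141 (Lpe (K34.f471108 IH) (Lpr_dt (f471107 IH) (Lpr_gt (f533656 IH) (Lpe (K4.f111178 IH) (Lpr_et (K4.f111151 IH) (Lpe (K4.f115827 IH) (Lpr_dt (K7.f146652 IH) (Lpe (K7.f146678 IH) (Lpe (K7.f151402 IH) (Lpr_et (f144841 IH) (Lpn (LP (LK LD1_c7 LD2_c35 LD3_c38)))))))))))))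
theorem f203879 : Led Lsl_bt (LP (LK LD1_c7 LD2_c25 LD3_c61)) = (LP (LK LD1_c3 LD2_c42 LD3_c41)) :=
  Lre_b IH (LK LD1_c7 LD2_c25 LD3_c61) (LK LD1_c3 LD2_c42 LD3_c41) Lrfl Lrfl
theorem f203916 : Led Lsl_bt (LP (LK LD1_c3 LD2_c42 LD3_c45)) = (LP (LK LD1_c7 LD2_c26 LD3_c7)) :=
  Lre_b IH (LK LD1_c3 LD2_c42 LD3_c45) (LK LD1_c7 LD2_c26 LD3_c7) Lrfl Lrfl
theorem f533670 : Led Lsl_gt (LP (LK LD1_c7 LD2_c26 LD3_c7)) = (LP (LK LD1_c7 LD2_c49 LD3_c22)) :=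
  Lgr Lrot164 (Lpe (f203916 IH) (Lpr_ct (K34.f203915 IH) (Lpr_gf (K29.f203910 IH) (Lpe (K28.f12384 IH) (Lpe (K28.f203876 IH) (Lpe (f203879 IH) (Lpe (K34.f470901 IH) (Lpr_gf (f533664 IH) (Lpe (K6.f114451 IH) (Lpe (K34.f142489 IH) (Lpn (LP (LK LD1_c7 LD2_c49 LD3_c22)))))))))))))
theorem f451848 : Led Lsl_ff (LP (LK LD1_c3 LD2_c56 LD3_c31)) = (LP (LK LD1_c3 LD2_c56 LD3_c9)) :=
  Lgr Lrot25 (Lpr_bt (K33.f451838 IH) (Lpr_ft (K28.f451828 IH) (Lpr_bt (K33.f451847 IH) (Lpn (LP (LK LD1_c3 LD2_c56 LD3_c9))))))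
theorem f451973 : Led Lsl_gt (LP (LK LD1_c3 LD2_c56 LD3_c9)) = (LP (LK LD1_c7 LD2_c54 LD3_c0)) :=
  Lre_g IH (LK LD1_c3 LD2_c56 LD3_c9) (LK LD1_c7 LD2_c54 LD3_c0) Lrfl Lrfl
theorem f470891 : Led Lsl_gt (LP (LK LD1_c7 LD2_c54 LD3_c0)) = (LP (LK LD1_c7 LD2_c26 LD3_c7)) :=
  Lgr Lrot46 (Lpe (f451973 IH) (Lpe (f451848 IH) (Lpr_at (K33.f470853 IH) (Lpn (LP (LK LD1_c7 LD2_c26 LD3_c7))))))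
theorem f203577 : Led Lsl_et (LP (LK LD1_c3 LD2_c54 LD3_c47)) = (LP (LK LD1_c7 LD2_c51 LD3_c14)) :=
  Lre_e IH (LK LD1_c3 LD2_c54 LD3_c47) (LK LD1_c7 LD2_c51 LD3_c14) Lrfl Lrfl
theorem f142510 : Led Lsl_et (LP (LK LD1_c7 LD2_c49 LD3_c22)) = (LP (LK LD1_c3 LD2_c53 LD3_c54)) :=
  Lre_e IH (LK LD1_c7 LD2_c49 LD3_c22) (LK LD1_c3 LD2_c53 LD3_c54) Lrfl Lrfl
theorem f203633 : Led Lsl_at (LP (LK LD1_c7 LD2_c51 LD3_c14)) = (LP (LK LD1_c7 LD2_c49 LD3_c22)) :=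
  Lgr Lrot80 (Lpe (f203577 IH) (Lpr_af (K28.f203624 IH) (Lpe (f142510 IH) (Lpn (LP (LK LD1_c7 LD2_c49 LD3_c22))))))
theorem f533672 : Led Lsl_ft (LP (LK LD1_c7 LD2_c54 LD3_c0)) = (LP (LK LD1_c7 LD2_c51 LD3_c14)) :=
  Lgr Lrot2 (Lpr_gt (f470891 IH) (Lpr_gt (f533670 IH) (Lpe (f203633 IH) (Lpn (LP (LK LD1_c7 LD2_c51 LD3_c14))))))
theorem f533810 : Led Lsl_ff (LP (LK LD1_c7 LD2_c54 LD3_c0)) = (LP (LK LD1_c7 LD2_c51 LD3_c14)) :=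
  Lgr Lrot3 (Lpr_ft (f533672 IH) (Lpn (LP (LK LD1_c7 LD2_c51 LD3_c14))))
theorem f532921 : Led Lsl_ff (LP (LK LD1_c7 LD2_c49 LD3_c22)) = (LP (LK LD1_c7 LD2_c54 LD3_c46)) :=
  Lgr Lrot52 (Lpe (K34.f203979 IH) (Lpr_gf (K34.f532919 IH) (Lpe (K33.f451907 IH) (Lpn (LP (LK LD1_c7 LD2_c54 LD3_c46))))))
theorem f533820 : Led Lsl_et (LP (LK LD1_c7 LD2_c54 LD3_c0)) = (LP (LK LD1_c7 LD2_c54 LD3_c46)) :=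
  Lgr Lrot69 (Lpr_ff (f533810 IH) (Lpe (f203577 IH) (Lpr_ff (K28.f203616 IH) (Lpe (f142510 IH) (Lpr_ff (f532921 IH) (Lpn (LP (LK LD1_c7 LD2_c54 LD3_c46))))))))
theorem f533826 : Led Lsl_ef (LP (LK LD1_c7 LD2_c54 LD3_c0)) = (LP (LK LD1_c7 LD2_c54 LD3_c46)) :=
  Lgr Lrot88 (Lpr_et (f533820 IH) (Lpn (LP (LK LD1_c7 LD2_c54 LD3_c46))))
theorem f203582 : Led Lsl_et (LP (LK LD1_c7 LD2_c51 LD3_c14)) = (LP (LK LD1_c3 LD2_c54 LD3_c47)) :=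
  Lre_e IH (LK LD1_c7 LD2_c51 LD3_c14) (LK LD1_c3 LD2_c54 LD3_c47) Lrfl Lrfl
theorem f533840 : Led Lsl_ft (LP (LK LD1_c7 LD2_c49 LD3_c22)) = (LP (LK LD1_c7 LD2_c54 LD3_c46)) :=
  Lgr Lrot86 (Lpe (K34.f142485 IH) (Lpe (K28.f203590 IH) (Lpe (f203582 IH) (Lpe (f533672 IH) (Lpr_ef (f533826 IH) (Lpn (LP (LK LD1_c7 LD2_c54 LD3_c46))))))))
theorem f142494 : Led Lsl_dt (LP (LK LD1_c14 LD2_c45 LD3_c39)) = (LP (LK LD1_c7 LD2_c49 LD3_c22)) :=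
  Lre_d IH (LK LD1_c14 LD2_c45 LD3_c39) (LK LD1_c7 LD2_c49 LD3_c22) Lrfl Lrfl
theorem f452045 : Led Lsl_dt (LP (LK LD1_c7 LD2_c54 LD3_c46)) = (LP (LK LD1_c14 LD2_c55 LD3_c33)) :=
  Lre_d IH (LK LD1_c7 LD2_c54 LD3_c46) (LK LD1_c14 LD2_c55 LD3_c33) Lrfl Lrfl
theorem f533848 : Led Lsl_ff (LP (LK LD1_c14 LD2_c45 LD3_c39)) = (LP (LK LD1_c14 LD2_c55 LD3_c33)) :=
  Lgr Lrot19 (Lpr_dt (f142494 IH) (Lpr_ft (f533840 IH) (Lpr_dt (f452045 IH) (Lpn (LP (LK LD1_c14 LD2_c55 LD3_c33))))))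
theorem f533854 : Led Lsl_ft (LP (LK LD1_c14 LD2_c45 LD3_c39)) = (LP (LK LD1_c14 LD2_c55 LD3_c33)) :=
  Lgr Lrot48 (Lpr_ff (f533848 IH) (Lpn (LP (LK LD1_c14 LD2_c55 LD3_c33))))
theorem f142495 : Led Lsl_dt (LP (LK LD1_c14 LD2_c18 LD3_c58)) = (LP (LK LD1_c23 LD2_c56 LD3_c53)) :=
  Lre_d IH (LK LD1_c14 LD2_c18 LD3_c58) (LK LD1_c23 LD2_c56 LD3_c53) Lrfl Lrfl
theorem f142496 : Led Lsl_bf (LP (LK LD1_c14 LD2_c45 LD3_c39)) = (LP (LK LD1_c23 LD2_c56 LD3_c53)) :=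
  Lgr Lrot93 (Lpr_dt (f142494 IH) (Lpr_bt (K34.f142487 IH) (Lpr_dt (f142495 IH) (Lpn (LP (LK LD1_c23 LD2_c56 LD3_c53))))))
theorem f533862 : Led Lsl_bt (LP (LK LD1_c14 LD2_c55 LD3_c33)) = (LP (LK LD1_c24 LD2_c42 LD3_c54)) :=
  Lre_b IH (LK LD1_c14 LD2_c55 LD3_c33) (LK LD1_c24 LD2_c42 LD3_c54) Lrfl Lrfl
theorem f533863 : Led Lsl_ff (LP (LK LD1_c23 LD2_c56 LD3_c53)) = (LP (LK LD1_c24 LD2_c42 LD3_c54)) :=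
  Lgr Lrot25 (Lpe (f142496 IH) (Lpr_ft (f533854 IH) (Lpr_bt (f533862 IH) (Lpn (LP (LK LD1_c24 LD2_c42 LD3_c54))))))
theorem f142502 : Led Lsl_dt (LP (LK LD1_c23 LD2_c56 LD3_c53)) = (LP (LK LD1_c14 LD2_c18 LD3_c58)) :=
  Lre_d IH (LK LD1_c23 LD2_c56 LD3_c53) (LK LD1_c14 LD2_c18 LD3_c58) Lrfl Lrfl
theorem f533865 : Led Lsl_dt (LP (LK LD1_c14 LD2_c55 LD3_c31)) = (LP (LK LD1_c24 LD2_c42 LD3_c54)) :=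
  Lre_d IH (LK LD1_c14 LD2_c55 LD3_c31) (LK LD1_c24 LD2_c42 LD3_c54) Lrfl Lrfl
theorem f533866 : Led Lsl_ft (LP (LK LD1_c14 LD2_c18 LD3_c58)) = (LP (LK LD1_c14 LD2_c55 LD3_c31)) :=
  Lgr Lrot54 (Lpe (f142502 IH) (Lpr_ff (f533863 IH) (Lpe (f533865 IH) (Lpn (LP (LK LD1_c14 LD2_c55 LD3_c31))))))
theorem f533871 : Led Lsl_af (LP (LK LD1_c14 LD2_c28 LD3_c42)) = (LP (LK LD1_c14 LD2_c55 LD3_c31)) :=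
  Lgr Lrot45 (Lpr_ft (K34.f145090 IH) (Lpr_at (K6.f145081 IH) (Lpr_ft (f533866 IH) (Lpn (LP (LK LD1_c14 LD2_c55 LD3_c31))))))
theorem f162811 : Led Lsl_bt (LP (LK LD1_c3 LD2_c40 LD3_c26)) = (LP (LK LD1_c7 LD2_c21 LD3_c3)) :=
  Lre_b IH (LK LD1_c3 LD2_c40 LD3_c26) (LK LD1_c7 LD2_c21 LD3_c3) Lrfl Lrfl
theorem f419901 : Led Lsl_gt (LP (LK LD1_c7 LD2_c21 LD3_c3)) = (LP (LK LD1_c13 LD2_c53 LD3_c55)) :=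
  Lre_g IH (LK LD1_c7 LD2_c21 LD3_c3) (LK LD1_c13 LD2_c53 LD3_c55) Lrfl Lrfl
theorem f464234 : Led Lsl_ct (LP (LK LD1_c13 LD2_c53 LD3_c55)) = (LP (LK LD1_c23 LD2_c24 LD3_c5)) :=
  Lre_c IH (LK LD1_c13 LD2_c53 LD3_c55) (LK LD1_c23 LD2_c24 LD3_c5) Lrfl Lrfl
theorem f532873 : Led Lsl_gt (LP (LK LD1_c23 LD2_c24 LD3_c5)) = (LP (LK LD1_c14 LD2_c28 LD3_c42)) :=
  Lgr Lrot149 (Lpe (f464234 IH) (Lpe (f419901 IH) (Lpe (f162811 IH) (Lpr_ct (K28.f420091 IH) (Lpe (K28.f464230 IH) (Lpe (K29.f457796 IH) (Lpr_bt (K34.f457792 IH) (Lpe (K34.f457855 IH) (Lpr_bf (K34.f532839 IH) (Lpr_ct (K34.f145069 IH) (Lpn (LP (LK LD1_c14 LD2_c28 LD3_c42)))))))))))))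
theorem f533873 : Led Lsl_gt (LP (LK LD1_c14 LD2_c18 LD3_c58)) = (LP (LK LD1_c23 LD2_c24 LD3_c5)) :=
  Lgr Lrot5 (Lpr_ft (f533866 IH) (Lpe (f533871 IH) (Lpe (f532873 IH) (Lpn (LP (LK LD1_c23 LD2_c24 LD3_c5))))))
theorem f142498 : Led Lsl_ct (LP (LK LD1_c7 LD2_c49 LD3_c22)) = (LP (LK LD1_c14 LD2_c45 LD3_c38)) :=
  Lre_c IH (LK LD1_c7 LD2_c49 LD3_c22) (LK LD1_c14 LD2_c45 LD3_c38) Lrfl Lrfl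
theorem f471327 : Led Lsl_ft (LP (LK LD1_c7 LD2_c26 LD3_c7)) = (LP (LK LD1_c7 LD2_c20 LD3_c44)) :=
  Lgr Lrot75 (Lpe (f203916 IH) (Lpr_ff (K30.f471322 IH) (Lpe (K33.f471326 IH) (Lpn (LP (LK LD1_c7 LD2_c20 LD3_c44))))))
theorem f533674 : Led Lsl_gf (LP (LK LD1_c3 LD2_c56 LD3_c9)) = (LP (LK LD1_c7 LD2_c49 LD3_c22)) :=
  Lgr Lrot76 (Lpr_af (K33.f471624 IH) (Lpe (f471327 IH) (Lpr_gt (f533670 IH) (Lpn (LP (LK LD1_c7 LD2_c49 LD3_c22))))))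
theorem f11341 : Led Lsl_at (LP (LK LD1_c1 LD2_c54 LD3_c60)) = (LP (LK LD1_c0 LD2_c54 LD3_c12)) :=
  Lre_a IH (LK LD1_c1 LD2_c54 LD3_c60) (LK LD1_c0 LD2_c54 LD3_c12) Lrfl Lrfl
theorem f451864 : Led Lsl_gf (LP (LK LD1_c1 LD2_c55 LD3_c0)) = (LP (LK LD1_c1 LD2_c54 LD3_c48)) :=
  Lgr Lrot47 (Lpr_gt (K28.f11351 IH) (Lpe (f11341 IH) (Lpr_ff (K28.f451852 IH) (Lpn (LP (LK LD1_c1 LD2_c54 LD3_c48))))))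
theorem f458567 : Led Lsl_gt (LP (LK LD1_c6 LD2_c58 LD3_c8)) = (LP (LK LD1_c13 LD2_c13 LD3_c56)) :=
  Lre_g IH (LK LD1_c6 LD2_c58 LD3_c8) (LK LD1_c13 LD2_c13 LD3_c56) Lrfl Lrfl
theorem f455431 : Led Lsl_bt (LP (LK LD1_c3 LD2_c27 LD3_c59)) = (LP (LK LD1_c6 LD2_c58 LD3_c8)) :=
  Lre_b IH (LK LD1_c3 LD2_c27 LD3_c59) (LK LD1_c6 LD2_c58 LD3_c8) Lrfl Lrfl
theorem f425461 : Led Lsl_bt (LP (LK LD1_c3 LD2_c37 LD3_c0)) = (LP (LK LD1_c1 LD2_c45 LD3_c23)) :=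
  Lre_b IH (LK LD1_c3 LD2_c37 LD3_c0) (LK LD1_c1 LD2_c45 LD3_c23) Lrfl Lrfl
theorem f159760 : Led Lsl_gt (LP (LK LD1_c7 LD2_c20 LD3_c26)) = (LP (LK LD1_c3 LD2_c40 LD3_c9)) :=
  Lre_g IH (LK LD1_c7 LD2_c20 LD3_c26) (LK LD1_c3 LD2_c40 LD3_c9) Lrfl Lrfl
theorem f471390 : Led Lsl_ct (LP (LK LD1_c13 LD2_c13 LD3_c56)) = (LP (LK LD1_c7 LD2_c20 LD3_c26)) :=
  Lgr Lrot91 (Lpe (f458567 IH) (Lpe (f455431 IH) (Lpr_ct (K28.f455406 IH) (Lpe (K24.f446455 IH) (Lpe (K24.f15754 IH) (Lpe (K28.f457397 IH) (Lpr_gf (K30.f471380 IH) (Lpe (f425461 IH) (Lpr_ct (K29.f425436 IH) (Lpe (f159760 IH) (Lpn (LP (LK LD1_c7 LD2_c20 LD3_c26)))))))))))))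
theorem f471437 : Led Lsl_cf (LP (LK LD1_c13 LD2_c13 LD3_c56)) = (LP (LK LD1_c7 LD2_c20 LD3_c26)) :=
  Lgr Lrot11 (Lpr_ct (f471390 IH) (Lpn (LP (LK LD1_c7 LD2_c20 LD3_c26))))
theorem f471436 : Led Lsl_bt (LP (LK LD1_c7 LD2_c20 LD3_c26)) = (LP (LK LD1_c13 LD2_c52 LD3_c55)) :=
  Lre_b IH (LK LD1_c7 LD2_c20 LD3_c26) (LK LD1_c13 LD2_c52 LD3_c55) Lrfl Lrfl
theorem f533683 : Led Lsl_gt (LP (LK LD1_c13 LD2_c52 LD3_c55)) = (LP (LK LD1_c14 LD2_c45 LD3_c38)) :=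
  Lgr Lrot82 (Lpe (f471436 IH) (Lpe (f471437 IH) (Lpe (f458567 IH) (Lpr_cf (K28.f464696 IH) (Lpr_bt (K29.f451353 IH) (Lpr_gf (f451864 IH) (Lpe (K33.f451855 IH) (Lpr_ct (K33.f452025 IH) (Lpr_gf (f533674 IH) (Lpe (K34.f142491 IH) (Lpn (LP (LK LD1_c14 LD2_c45 LD3_c38)))))))))))))
theorem f462758 : Led Lsl_ct (LP (LK LD1_c23 LD2_c24 LD3_c5)) = (LP (LK LD1_c13 LD2_c53 LD3_c55)) :=
  Lre_c IH (LK LD1_c23 LD2_c24 LD3_c5) (LK LD1_c13 LD2_c53 LD3_c55) Lrfl Lrfl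
theorem f470538 : Led Lsl_ft (LP (LK LD1_c13 LD2_c14 LD3_c33)) = (LP (LK LD1_c7 LD2_c8 LD3_c3)) :=
  Lgr Lrot48 (Lpr_ff (K28.f470531 IH) (Lpn (LP (LK LD1_c7 LD2_c8 LD3_c3))))
theorem f108066 : Led Lsl_at (LP (LK LD1_c7 LD2_c8 LD3_c3)) = (LP (LK LD1_c3 LD2_c33 LD3_c38)) :=
  Lre_a IH (LK LD1_c7 LD2_c8 LD3_c3) (LK LD1_c3 LD2_c33 LD3_c38) Lrfl Lrfl
theorem f470557 : Led Lsl_gt (LP (LK LD1_c13 LD2_c14 LD3_c33)) = (LP (LK LD1_c7 LD2_c8 LD3_c5)) :=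
  Lgr Lrot5 (Lpr_ft (f470538 IH) (Lpr_at (f108066 IH) (Lpe (K29.f108051 IH) (Lpn (LP (LK LD1_c7 LD2_c8 LD3_c5))))))
theorem f470555 : Led Lsl_bf (LP (LK LD1_c13 LD2_c14 LD3_c33)) = (LP (LK LD1_c13 LD2_c14 LD3_c4)) :=
  Lgr Lrot61 (Lpr_ft (f470538 IH) (Lpe (K8.f160373 IH) (Lpe (K28.f465595 IH) (Lpn (LP (LK LD1_c13 LD2_c14 LD3_c4))))))
theorem f472156 : Led Lsl_gt (LP (LK LD1_c7 LD2_c30 LD3_c27)) = (LP (LK LD1_c14 LD2_c10 LD3_c41)) :=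
  Lre_g IH (LK LD1_c7 LD2_c30 LD3_c27) (LK LD1_c14 LD2_c10 LD3_c41) Lrfl Lrfl
theorem f472165 : Led Lsl_ct (LP (LK LD1_c13 LD2_c14 LD3_c4)) = (LP (LK LD1_c14 LD2_c10 LD3_c41)) :=
  Lgr Lrot10 (Lpe (f470555 IH) (Lpr_gt (f470557 IH) (Lpr_ct (K29.f465511 IH) (Lpr_gt (K29.f11681 IH) (Lpr_cf (K28.f11660 IH) (Lpr_bt (K28.f11733 IH) (Lpr_gt (K8.f11605 IH) (Lpe (K29.f11829 IH) (Lpr_ct (K29.f472150 IH) (Lpr_gt (f472156 IH) (Lpn (LP (LK LD1_c14 LD2_c10 LD3_c41)))))))))))))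
theorem f472173 : Led Lsl_ff (LP (LK LD1_c7 LD2_c34 LD3_c50)) = (LP (LK LD1_c14 LD2_c10 LD3_c41)) :=
  Lgr Lrot23 (Lpr_ct (K8.f162812 IH) (Lpe (K28.f465595 IH) (Lpr_ct (f472165 IH) (Lpn (LP (LK LD1_c14 LD2_c10 LD3_c41))))))
theorem f472182 : Led Lsl_ft (LP (LK LD1_c7 LD2_c34 LD3_c50)) = (LP (LK LD1_c14 LD2_c10 LD3_c41)) :=
  Lgr Lrot48 (Lpr_ff (f472173 IH) (Lpn (LP (LK LD1_c14 LD2_c10 LD3_c41))))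
theorem f476663 : Led Lsl_bf (LP (LK LD1_c13 LD2_c12 LD3_c28)) = (LP (LK LD1_c14 LD2_c10 LD3_c41)) :=
  Lgr Lrot61 (Lpr_ft (K34.f476660 IH) (Lpe (K8.f162798 IH) (Lpr_ft (f472182 IH) (Lpn (LP (LK LD1_c14 LD2_c10 LD3_c41))))))
theorem f472169 : Led Lsl_cf (LP (LK LD1_c13 LD2_c14 LD3_c4)) = (LP (LK LD1_c14 LD2_c10 LD3_c41)) :=
  Lgr Lrot11 (Lpr_ct (f472165 IH) (Lpn (LP (LK LD1_c14 LD2_c10 LD3_c41))))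
theorem f96587 : Led Lsl_ct (LP (LK LD1_c13 LD2_c41 LD3_c35)) = (LP (LK LD1_c7 LD2_c14 LD3_c10)) :=
  Lre_c IH (LK LD1_c13 LD2_c41 LD3_c35) (LK LD1_c7 LD2_c14 LD3_c10) Lrfl Lrfl
theorem f64948 : Led Lsl_gt (LP (LK LD1_c0 LD2_c51 LD3_c29)) = (LP (LK LD1_c1 LD2_c49 LD3_c22)) :=
  Lre_g IH (LK LD1_c0 LD2_c51 LD3_c29) (LK LD1_c1 LD2_c49 LD3_c22) Lrfl Lrfl
theorem f17283 : Led Lsl_ct (LP (LK LD1_c1 LD2_c49 LD3_c21)) = (LP (LK LD1_c0 LD2_c51 LD3_c29)) :=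
  Lre_c IH (LK LD1_c1 LD2_c49 LD3_c21) (LK LD1_c0 LD2_c51 LD3_c29) Lrfl Lrfl
theorem f16695 : Led Lsl_bt (LP (LK LD1_c1 LD2_c49 LD3_c21)) = (LP (LK LD1_c3 LD2_c44 LD3_c36)) :=
  Lre_b IH (LK LD1_c1 LD2_c49 LD3_c21) (LK LD1_c3 LD2_c44 LD3_c36) Lrfl Lrfl
theorem f472202 : Led Lsl_bt (LP (LK LD1_c13 LD2_c41 LD3_c35)) = (LP (LK LD1_c7 LD2_c30 LD3_c19)) :=
  Lgr Lrot22 (Lpr_ct (f96587 IH) (Lpe (K28.f465614 IH) (Lpr_cf (f472169 IH) (Lpe (f472156 IH) (Lpe (K29.f17066 IH) (Lpr_ct (K29.f17065 IH) (Lpe (f64948 IH) (Lpe (f17283 IH) (Lpr_bt (f16695 IH) (Lpe (K28.f16746 IH) (Lpn (LP (LK LD1_c7 LD2_c30 LD3_c19)))))))))))))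
theorem f16731 : Led Lsl_ct (LP (LK LD1_c14 LD2_c10 LD3_c21)) = (LP (LK LD1_c7 LD2_c30 LD3_c18)) :=
  Lre_c IH (LK LD1_c14 LD2_c10 LD3_c21) (LK LD1_c7 LD2_c30 LD3_c18) Lrfl Lrfl
theorem f464232 : Led Lsl_bt (LP (LK LD1_c14 LD2_c10 LD3_c21)) = (LP (LK LD1_c13 LD2_c53 LD3_c55)) :=
  Lgr Lrot92 (Lpr_ct (f16731 IH) (Lpr_gt (K28.f16727 IH) (Lpr_cf (K8.f15918 IH) (Lpr_bt (K8.f15281 IH) (Lpr_gt (K28.f15323 IH) (Lpr_ct (K29.f457796 IH) (Lpr_gt (K28.f464230 IH) (Lpe (K28.f420091 IH) (Lpr_bt (f162811 IH) (Lpr_gt (f419901 IH) (Lpn (LP (LK LD1_c13 LD2_c53 LD3_c55)))))))))))))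
theorem f476712 : Led Lsl_gf (LP (LK LD1_c13 LD2_c12 LD3_c28)) = (LP (LK LD1_c13 LD2_c53 LD3_c55)) :=
  Lgr Lrot124 (Lpr_bf (f476663 IH) (Lpe (f472169 IH) (Lpr_gt (K28.f465614 IH) (Lpe (f96587 IH) (Lpr_bt (f472202 IH) (Lpr_gt (K28.f16746 IH) (Lpr_ct (K8.f14719 IH) (Lpr_gt (K28.f16726 IH) (Lpe (f16731 IH) (Lpr_bt (f464232 IH) (Lpn (LP (LK LD1_c13 LD2_c53 LD3_c55)))))))))))))
theorem f108075 : Led Lsl_gt (LP (LK LD1_c7 LD2_c25 LD3_c16)) = (LP (LK LD1_c3 LD2_c42 LD3_c17)) :=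
  Lre_g IH (LK LD1_c7 LD2_c25 LD3_c16) (LK LD1_c3 LD2_c42 LD3_c17) Lrfl Lrfl
theorem f462614 : Led Lsl_gf (LP (LK LD1_c7 LD2_c25 LD3_c16)) = (LP (LK LD1_c7 LD2_c53 LD3_c58)) :=
  Lgr Lrot47 (Lpr_gt (f108075 IH) (Lpe (K8.f108053 IH) (Lpr_ff (K28.f462567 IH) (Lpn (LP (LK LD1_c7 LD2_c53 LD3_c58))))))
theorem f108079 : Led Lsl_bt (LP (LK LD1_c14 LD2_c2 LD3_c1)) = (LP (LK LD1_c7 LD2_c25 LD3_c16)) :=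
  Lre_b IH (LK LD1_c14 LD2_c2 LD3_c1) (LK LD1_c7 LD2_c25 LD3_c16) Lrfl Lrfl
theorem f533875 : Led Lsl_cf (LP (LK LD1_c13 LD2_c52 LD3_c55)) = (LP (LK LD1_c14 LD2_c2 LD3_c1)) :=
  Lgr Lrot160 (Lpr_gt (f533683 IH) (Lpe (f142498 IH) (Lpr_bt (K34.f142487 IH) (Lpr_gt (f533873 IH) (Lpr_ct (f462758 IH) (Lpe (f476712 IH) (Lpr_cf (K34.f476665 IH) (Lpr_bt (K28.f462610 IH) (Lpe (f462614 IH) (Lpe (f108079 IH) (Lpn (LP (LK LD1_c14 LD2_c2 LD3_c1)))))))))))))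
theorem f533880 : Led Lsl_ct (LP (LK LD1_c13 LD2_c52 LD3_c55)) = (LP (LK LD1_c14 LD2_c2 LD3_c1)) :=
  Lgr Lrot59 (Lpr_cf (f533875 IH) (Lpn (LP (LK LD1_c14 LD2_c2 LD3_c1))))
theorem f425528 : Led Lsl_bt (LP (LK LD1_c13 LD2_c52 LD3_c55)) = (LP (LK LD1_c7 LD2_c20 LD3_c26)) :=
  Lre_b IH (LK LD1_c13 LD2_c52 LD3_c55) (LK LD1_c7 LD2_c20 LD3_c26) Lrfl Lrfl
theorem f464646 : Led Lsl_ct (LP (LK LD1_c7 LD2_c54 LD3_c46)) = (LP (LK LD1_c14 LD2_c55 LD3_c32)) :=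
  Lre_c IH (LK LD1_c7 LD2_c54 LD3_c46) (LK LD1_c14 LD2_c55 LD3_c32) Lrfl Lrfl
theorem f534548 : Led Lsl_gt (LP (LK LD1_c14 LD2_c55 LD3_c32)) = (LP (LK LD1_c14 LD2_c2 LD3_c1)) :=
  Lgr Lrot149 (Lpe (f464646 IH) (Lpr_gf (K33.f471707 IH) (Lpe (K33.f203891 IH) (Lpr_ct (K30.f203889 IH) (Lpe (K30.f12380 IH) (Lpe (K29.f12391 IH) (Lpr_bt (K29.f12374 IH) (Lpe (f159760 IH) (Lpe (f425528 IH) (Lpr_ct (f533880 IH) (Lpn (LP (LK LD1_c14 LD2_c2 LD3_c1)))))))))))))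
theorem f464648 : Led Lsl_bt (LP (LK LD1_c7 LD2_c54 LD3_c46)) = (LP (LK LD1_c14 LD2_c55 LD3_c31)) :=
  Lre_b IH (LK LD1_c7 LD2_c54 LD3_c46) (LK LD1_c14 LD2_c55 LD3_c31) Lrfl Lrfl
theorem f425438 : Led Lsl_gt (LP (LK LD1_c3 LD2_c37 LD3_c0)) = (LP (LK LD1_c7 LD2_c14 LD3_c20)) :=
  Lre_g IH (LK LD1_c3 LD2_c37 LD3_c0) (LK LD1_c7 LD2_c14 LD3_c20) Lrfl Lrfl
theorem f475255 : Led Lsl_gf (LP (LK LD1_c13 LD2_c40 LD3_c48)) = (LP (LK LD1_c7 LD2_c13 LD3_c48)) :=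
  Lgr Lrot76 (Lpe (K34.f475098 IH) (Lpr_ff (K32.f475182 IH) (Lpe (K28.f465270 IH) (Lpn (LP (LK LD1_c7 LD2_c13 LD3_c48))))))
theorem f475259 : Led Lsl_bf (LP (LK LD1_c13 LD2_c40 LD3_c48)) = (LP (LK LD1_c7 LD2_c47 LD3_c58)) :=
  Lgr Lrot34 (Lpr_gf (f475255 IH) (Lpe (K3.f17355 IH) (Lpr_ct (K28.f17340 IH) (Lpr_gf (K29.f160434 IH) (Lpe (K29.f160436 IH) (Lpr_gf (K29.f470916 IH) (Lpe (K3.f96835 IH) (Lpr_ct (K29.f96852 IH) (Lpr_gf (K29.f475041 IH) (Lpe (K29.f474938 IH) (Lpn (LP (LK LD1_c7 LD2_c47 LD3_c58)))))))))))))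
theorem f17425 : Led Lsl_ft (LP (LK LD1_c7 LD2_c13 LD3_c48)) = (LP (LK LD1_c3 LD2_c36 LD3_c47)) :=
  Lre_f IH (LK LD1_c7 LD2_c13 LD3_c48) (LK LD1_c3 LD2_c36 LD3_c47) Lrfl Lrfl
theorem f475257 : Led Lsl_gt (LP (LK LD1_c13 LD2_c40 LD3_c48)) = (LP (LK LD1_c7 LD2_c13 LD3_c45)) :=
  Lgr Lrot46 (Lpr_gf (f475255 IH) (Lpr_ft (f17425 IH) (Lpr_at (K28.f17374 IH) (Lpn (LP (LK LD1_c7 LD2_c13 LD3_c45))))))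
theorem f17428 : Led Lsl_gt (LP (LK LD1_c7 LD2_c37 LD3_c46)) = (LP (LK LD1_c14 LD2_c22 LD3_c42)) :=
  Lre_g IH (LK LD1_c7 LD2_c37 LD3_c46) (LK LD1_c14 LD2_c22 LD3_c42) Lrfl Lrfl
theorem f425519 : Led Lsl_gt (LP (LK LD1_c7 LD2_c14 LD3_c20)) = (LP (LK LD1_c13 LD2_c41 LD3_c52)) :=
  Lre_g IH (LK LD1_c7 LD2_c14 LD3_c20) (LK LD1_c13 LD2_c41 LD3_c52) Lrfl Lrfl
theorem f425522 : Led Lsl_bt (LP (LK LD1_c13 LD2_c41 LD3_c53)) = (LP (LK LD1_c7 LD2_c14 LD3_c20)) :=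
  Lre_b IH (LK LD1_c13 LD2_c41 LD3_c53) (LK LD1_c7 LD2_c14 LD3_c20) Lrfl Lrfl
theorem f475261 : Led Lsl_cf (LP (LK LD1_c14 LD2_c22 LD3_c42)) = (LP (LK LD1_c13 LD2_c41 LD3_c53)) :=
  Lgr Lrot163 (Lpe (f17428 IH) (Lpe (K28.f17376 IH) (Lpe (f475257 IH) (Lpr_bf (f475259 IH) (Lpr_ct (K29.f474938 IH) (Lpe (K29.f475039 IH) (Lpr_cf (K29.f470951 IH) (Lpe (K29.f425307 IH) (Lpe (f425519 IH) (Lpe (f425522 IH) (Lpn (LP (LK LD1_c13 LD2_c41 LD3_c53)))))))))))))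
theorem f17362 : Led Lsl_gt (LP (LK LD1_c14 LD2_c22 LD3_c42)) = (LP (LK LD1_c7 LD2_c37 LD3_c50)) :=
  Lre_g IH (LK LD1_c14 LD2_c22 LD3_c42) (LK LD1_c7 LD2_c37 LD3_c50) Lrfl Lrfl
theorem f11827 : Led Lsl_gt (LP (LK LD1_c3 LD2_c33 LD3_c10)) = (LP (LK LD1_c1 LD2_c43 LD3_c19)) :=
  Lre_g IH (LK LD1_c3 LD2_c33 LD3_c10) (LK LD1_c1 LD2_c43 LD3_c19) Lrfl Lrfl
theorem f160211 : Led Lsl_gt (LP (LK LD1_c3 LD2_c36 LD3_c52)) = (LP (LK LD1_c3 LD2_c33 LD3_c10)) :=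
  Lgr Lrot5 (Lpr_ft (K8.f160208 IH) (Lpr_at (K8.f160100 IH) (Lpe (f11827 IH) (Lpn (LP (LK LD1_c3 LD2_c33 LD3_c10))))))
theorem f12402 : Led Lsl_gt (LP (LK LD1_c3 LD2_c39 LD3_c15)) = (LP (LK LD1_c1 LD2_c46 LD3_c35)) :=
  Lre_g IH (LK LD1_c3 LD2_c39 LD3_c15) (LK LD1_c1 LD2_c46 LD3_c35) Lrfl Lrfl
theorem f475267 : Led Lsl_ct (LP (LK LD1_c3 LD2_c33 LD3_c10)) = (LP (LK LD1_c3 LD2_c39 LD3_c15)) :=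
  Lgr Lrot91 (Lpe (f160211 IH) (Lpe (K28.f17341 IH) (Lpr_ct (K3.f17357 IH) (Lpe (f17362 IH) (Lpr_cf (f475261 IH) (Lpr_bt (f425522 IH) (Lpe (f425438 IH) (Lpe (K29.f425293 IH) (Lpr_ct (K28.f90071 IH) (Lpe (f12402 IH) (Lpn (LP (LK LD1_c3 LD2_c39 LD3_c15)))))))))))))
theorem f475273 : Led Lsl_bt (LP (LK LD1_c3 LD2_c33 LD3_c10)) = (LP (LK LD1_c7 LD2_c7 LD3_c15)) :=
  Lre_b IH (LK LD1_c3 LD2_c33 LD3_c10) (LK LD1_c7 LD2_c7 LD3_c15) Lrfl Lrfl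
theorem f425227 : Led Lsl_gf (LP (LK LD1_c3 LD2_c39 LD3_c15)) = (LP (LK LD1_c3 LD2_c38 LD3_c8)) :=
  Lgr Lrot47 (Lpr_gt (f12402 IH) (Lpr_af (K28.f425213 IH) (Lpe (K29.f97332 IH) (Lpn (LP (LK LD1_c3 LD2_c38 LD3_c8))))))
theorem f160491 : Led Lsl_bt (LP (LK LD1_c1 LD2_c43 LD3_c27)) = (LP (LK LD1_c3 LD2_c33 LD3_c22)) :=
  Lre_b IH (LK LD1_c1 LD2_c43 LD3_c27) (LK LD1_c3 LD2_c33 LD3_c22) Lrfl Lrfl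
theorem f475274 : Led Lsl_gt (LP (LK LD1_c7 LD2_c7 LD3_c15)) = (LP (LK LD1_c3 LD2_c33 LD3_c22)) :=
  Lgr Lrot164 (Lpe (f475273 IH) (Lpr_ct (f475267 IH) (Lpr_gf (f425227 IH) (Lpr_cf (K29.f97334 IH) (Lpe (K34.f471385 IH) (Lpr_bf (K28.f457397 IH) (Lpr_ct (K24.f15754 IH) (Lpr_gf (K28.f455145 IH) (Lpqs (K28.f461943 IH) (Lpe (K28.f128101 IH) (Lpr_bt (f160491 IH) (Lpn (LP (LK LD1_c3 LD2_c33 LD3_c22))))))))))))))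
theorem f463811 : Led Lsl_cf (LP (LK LD1_c13 LD2_c14 LD3_c23)) = (LP (LK LD1_c7 LD2_c47 LD3_c11)) :=
  Lgr Lrot1 (Lpr_at (K28.f463797 IH) (Lpr_ct (K34.f463809 IH) (Lpr_at (K28.f460278 IH) (Lpn (LP (LK LD1_c7 LD2_c47 LD3_c11))))))
theorem f460291 : Led Lsl_ft (LP (LK LD1_c13 LD2_c29 LD3_c59)) = (LP (LK LD1_c7 LD2_c47 LD3_c11)) :=
  Lgr Lrot101 (Lpe (K29.f160494 IH) (Lpr_ff (K28.f460285 IH) (Lpe (K28.f460290 IH) (Lpn (LP (LK LD1_c7 LD2_c47 LD3_c11))))))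
theorem f463815 : Led Lsl_ft (LP (LK LD1_c13 LD2_c14 LD3_c23)) = (LP (LK LD1_c7 LD2_c7 LD3_c34)) :=
  Lgr Lrot4 (Lpr_cf (f463811 IH) (Lpe (f460291 IH) (Lpe (K29.f160483 IH) (Lpn (LP (LK LD1_c7 LD2_c7 LD3_c34))))))
theorem f475276 : Led Lsl_gf (LP (LK LD1_c7 LD2_c7 LD3_c15)) = (LP (LK LD1_c13 LD2_c14 LD3_c23)) :=
  Lgr Lrot47 (Lpr_gt (f475274 IH) (Lpe (K28.f128170 IH) (Lpe (f463815 IH) (Lpn (LP (LK LD1_c13 LD2_c14 LD3_c23))))))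
theorem f464974 : Led Lsl_bf (LP (LK LD1_c13 LD2_c14 LD3_c23)) = (LP (LK LD1_c13 LD2_c13 LD3_c58)) :=
  Lgr Lrot24 (Lpr_bt (K28.f464972 IH) (Lpn (LP (LK LD1_c13 LD2_c13 LD3_c58))))
theorem f470047 : Led Lsl_at (LP (LK LD1_c1 LD2_c54 LD3_c51)) = (LP (LK LD1_c1 LD2_c55 LD3_c0)) :=
  Lgr Lrot51 (Lpe (K28.f451835 IH) (Lpr_af (K28.f470038 IH) (Lpe (K28.f451351 IH) (Lpn (LP (LK LD1_c1 LD2_c55 LD3_c0))))))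
theorem f465007 : Led Lsl_at (LP (LK LD1_c3 LD2_c56 LD3_c34)) = (LP (LK LD1_c7 LD2_c54 LD3_c52)) :=
  Lre_a IH (LK LD1_c3 LD2_c56 LD3_c34) (LK LD1_c7 LD2_c54 LD3_c52) Lrfl Lrfl
theorem f470131 : Led Lsl_bf (LP (LK LD1_c7 LD2_c54 LD3_c6)) = (LP (LK LD1_c7 LD2_c54 LD3_c52)) :=
  Lgr Lrot81 (Lpr_at (K29.f463111 IH) (Lpr_bt (K28.f451837 IH) (Lpr_at (f470047 IH) (Lpr_bt (K28.f464695 IH) (Lpr_at (f465007 IH) (Lpn (LP (LK LD1_c7 LD2_c54 LD3_c52))))))))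
theorem f463145 : Led Lsl_ct (LP (LK LD1_c7 LD2_c54 LD3_c6)) = (LP (LK LD1_c14 LD2_c21 LD3_c48)) :=
  Lgr Lrot40 (Lpr_ff (K28.f463143 IH) (Lpr_cf (K29.f129551 IH) (Lpr_ff (K28.f461078 IH) (Lpn (LP (LK LD1_c14 LD2_c21 LD3_c48))))))
theorem f470135 : Led Lsl_ct (LP (LK LD1_c13 LD2_c13 LD3_c58)) = (LP (LK LD1_c7 LD2_c54 LD3_c52)) :=
  Lgr Lrot83 (Lpe (K28.f464972 IH) (Lpr_cf (f463811 IH) (Lpr_bf (K28.f460676 IH) (Lpe (f463145 IH) (Lpr_bf (f470131 IH) (Lpn (LP (LK LD1_c7 LD2_c54 LD3_c52))))))))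
theorem f465041 : Led Lsl_gt (LP (LK LD1_c7 LD2_c49 LD3_c55)) = (LP (LK LD1_c7 LD2_c54 LD3_c52)) :=
  Lgr Lrot46 (Lpe (K34.f160505 IH) (Lpr_ft (K28.f465029 IH) (Lpr_at (f465007 IH) (Lpn (LP (LK LD1_c7 LD2_c54 LD3_c52))))))
theorem f475302 : Led Lsl_ct (LP (LK LD1_c7 LD2_c14 LD3_c20)) = (LP (LK LD1_c7 LD2_c49 LD3_c55)) :=
  Lgr Lrot91 (Lpe (f425438 IH) (Lpe (K29.f425293 IH) (Lpr_ct (K28.f90071 IH) (Lpe (f12402 IH) (Lpe (f475267 IH) (Lpr_bt (f475273 IH) (Lpr_gf (f475276 IH) (Lpr_bf (f464974 IH) (Lpr_ct (f470135 IH) (Lpe (f465041 IH) (Lpn (LP (LK LD1_c7 LD2_c49 LD3_c55)))))))))))))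
theorem f475304 : Led Lsl_cf (LP (LK LD1_c7 LD2_c14 LD3_c20)) = (LP (LK LD1_c7 LD2_c49 LD3_c55)) :=
  Lgr Lrot11 (Lpr_ct (f475302 IH) (Lpn (LP (LK LD1_c7 LD2_c49 LD3_c55))))
theorem f492995 : Led Lsl_gt (LP (LK LD1_c14 LD2_c2 LD3_c28)) = (LP (LK LD1_c7 LD2_c25 LD3_c29)) :=
  Lre_g IH (LK LD1_c14 LD2_c2 LD3_c28) (LK LD1_c7 LD2_c25 LD3_c29) Lrfl Lrfl
theorem f492962 : Led Lsl_at (LP (LK LD1_c3 LD2_c51 LD3_c53)) = (LP (LK LD1_c7 LD2_c25 LD3_c55)) :=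
  Lgr Lrot107 (Lpe (K34.f14886 IH) (Lpe (K34.f459835 IH) (Lpr_cf (K34.f492812 IH) (Lpn (LP (LK LD1_c7 LD2_c25 LD3_c55))))))
theorem f492666 : Led Lsl_ft (LP (LK LD1_c7 LD2_c25 LD3_c29)) = (LP (LK LD1_c3 LD2_c51 LD3_c53)) :=
  Lgr Lrot75 (Lpe (K34.f491769 IH) (Lpr_ff (K33.f492662 IH) (Lpr_bf (K34.f489569 IH) (Lpn (LP (LK LD1_c3 LD2_c51 LD3_c53))))))
theorem f492993 : Led Lsl_gt (LP (LK LD1_c7 LD2_c25 LD3_c29)) = (LP (LK LD1_c3 LD2_c42 LD3_c39)) :=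
  Lgr Lrot5 (Lpr_ft (f492666 IH) (Lpr_at (f492962 IH) (Lpe (K34.f147960 IH) (Lpn (LP (LK LD1_c3 LD2_c42 LD3_c39))))))
theorem f492998 : Led Lsl_cf (LP (LK LD1_c7 LD2_c25 LD3_c29)) = (LP (LK LD1_c3 LD2_c47 LD3_c54)) :=
  Lgr Lrot160 (Lpr_gt (f492993 IH) (Lpr_cf (K28.f425196 IH) (Lpr_bt (K28.f425169 IH) (Lpr_gt (K29.f471769 IH) (Lpr_ct (K28.f463724 IH) (Lpr_gt (K28.f11247 IH) (Lpe (K28.f17094 IH) (Lpr_bt (K28.f17059 IH) (Lpr_gt (K28.f11213 IH) (Lpe (K34.f14972 IH) (Lpn (LP (LK LD1_c3 LD2_c47 LD3_c54)))))))))))))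
theorem f14950 : Led Lsl_bt (LP (LK LD1_c1 LD2_c50 LD3_c55)) = (LP (LK LD1_c0 LD2_c52 LD3_c21)) :=
  Lre_b IH (LK LD1_c1 LD2_c50 LD3_c55) (LK LD1_c0 LD2_c52 LD3_c21) Lrfl Lrfl
theorem f493003 : Led Lsl_cf (LP (LK LD1_c14 LD2_c2 LD3_c28)) = (LP (LK LD1_c14 LD2_c21 LD3_c51)) :=
  Lgr Lrot125 (Lpr_gt (f492995 IH) (Lpr_cf (f492998 IH) (Lpr_bt (K34.f14972 IH) (Lpr_gt (K28.f14971 IH) (Lpe (f14950 IH) (Lpe (K34.f14777 IH) (Lpr_gt (K7.f14960 IH) (Lpe (K34.f14831 IH) (Lpe (K34.f472052 IH) (Lpr_gt (K34.f472050 IH) (Lpn (LP (LK LD1_c14 LD2_c21 LD3_c51)))))))))))))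
theorem f476658 : Led Lsl_et (LP (LK LD1_c13 LD2_c12 LD3_c28)) = (LP (LK LD1_c14 LD2_c21 LD3_c51)) :=
  Lgr Lrot87 (Lpr_ef (K34.f476651 IH) (Lpn (LP (LK LD1_c14 LD2_c21 LD3_c51))))
theorem f493011 : Led Lsl_et (LP (LK LD1_c14 LD2_c2 LD3_c28)) = (LP (LK LD1_c7 LD2_c54 LD3_c42)) :=
  Lgr Lrot158 (Lpr_cf (f493003 IH) (Lpe (f476658 IH) (Lpr_cf (K34.f476665 IH) (Lpn (LP (LK LD1_c7 LD2_c54 LD3_c42))))))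
theorem f159468 : Led Lsl_et (LP (LK LD1_c7 LD2_c20 LD3_c23)) = (LP (LK LD1_c3 LD2_c40 LD3_c7)) :=
  Lre_e IH (LK LD1_c7 LD2_c20 LD3_c23) (LK LD1_c3 LD2_c40 LD3_c7) Lrfl Lrfl
theorem f159469 : Led Lsl_ft (LP (LK LD1_c13 LD2_c52 LD3_c48)) = (LP (LK LD1_c7 LD2_c20 LD3_c23)) :=
  Lre_f IH (LK LD1_c13 LD2_c52 LD3_c48) (LK LD1_c7 LD2_c20 LD3_c23) Lrfl Lrfl
theorem f462565 : Led Lsl_ef (LP (LK LD1_c13 LD2_c52 LD3_c48)) = (LP (LK LD1_c7 LD2_c53 LD3_c58)) :=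
  Lgr Lrot21 (Lpr_ft (f159469 IH) (Lpr_et (f159468 IH) (Lpe (K28.f159430 IH) (Lpr_et (K28.f108129 IH) (Lpr_ft (K28.f462551 IH) (Lpn (LP (LK LD1_c7 LD2_c53 LD3_c58))))))))
theorem f493015 : Led Lsl_bf (LP (LK LD1_c14 LD2_c2 LD3_c28)) = (LP (LK LD1_c13 LD2_c52 LD3_c48)) :=
  Lgr Lrot96 (Lpr_et (f493011 IH) (Lpr_bt (K28.f462610 IH) (Lpe (f462565 IH) (Lpn (LP (LK LD1_c13 LD2_c52 LD3_c48))))))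
theorem f533431 : Led Lsl_bt (LP (LK LD1_c7 LD2_c49 LD3_c55)) = (LP (LK LD1_c14 LD2_c28 LD3_c39)) :=
  Lgr Lrot92 (Lpe (f475304 IH) (Lpr_gt (f425519 IH) (Lpr_cf (K29.f425508 IH) (Lpe (f493015 IH) (Lpr_gt (f492995 IH) (Lpr_ct (K34.f491770 IH) (Lpr_gt (K34.f533427 IH) (Lpe (K34.f116686 IH) (Lpr_bt (K6.f144877 IH) (Lpr_gt (K34.f144912 IH) (Lpn (LP (LK LD1_c14 LD2_c28 LD3_c39)))))))))))))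
theorem f534552 : Led Lsl_gf (LP (LK LD1_c14 LD2_c55 LD3_c31)) = (LP (LK LD1_c14 LD2_c28 LD3_c39)) :=
  Lgr Lrot124 (Lpe (f464648 IH) (Lpr_ct (f464646 IH) (Lpr_gt (f534548 IH) (Lpe (f533880 IH) (Lpr_bt (f425528 IH) (Lpr_gt (f159760 IH) (Lpe (K29.f425443 IH) (Lpr_gt (f425438 IH) (Lpr_cf (f475304 IH) (Lpr_bt (f533431 IH) (Lpn (LP (LK LD1_c14 LD2_c28 LD3_c39)))))))))))))
theorem f144911 : Led Lsl_ft (LP (LK LD1_c7 LD2_c40 LD3_c47)) = (LP (LK LD1_c14 LD2_c28 LD3_c42)) :=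
  Lre_f IH (LK LD1_c7 LD2_c40 LD3_c47) (LK LD1_c14 LD2_c28 LD3_c42) Lrfl Lrfl
theorem f534554 : Led Lsl_af (LP (LK LD1_c14 LD2_c55 LD3_c31)) = (LP (LK LD1_c14 LD2_c28 LD3_c42)) :=
  Lgr Lrot31 (Lpr_gf (f534552 IH) (Lpe (K34.f144912 IH) (Lpr_ft (f144911 IH) (Lpn (LP (LK LD1_c14 LD2_c28 LD3_c42))))))
theorem f451908 : Led Lsl_bt (LP (LK LD1_c14 LD2_c55 LD3_c31)) = (LP (LK LD1_c7 LD2_c54 LD3_c46)) :=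
  Lre_b IH (LK LD1_c14 LD2_c55 LD3_c31) (LK LD1_c7 LD2_c54 LD3_c46) Lrfl Lrfl
theorem f533842 : Led Lsl_af (LP (LK LD1_c7 LD2_c54 LD3_c0)) = (LP (LK LD1_c7 LD2_c54 LD3_c46)) :=
  Lgr Lrot45 (Lpr_ft (f533672 IH) (Lpr_at (f203633 IH) (Lpr_ft (f533840 IH) (Lpn (LP (LK LD1_c7 LD2_c54 LD3_c46))))))
theorem f492117 : Led Lsl_ct (LP (LK LD1_c14 LD2_c21 LD3_c22)) = (LP (LK LD1_c7 LD2_c36 LD3_c53)) :=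
  Lre_c IH (LK LD1_c14 LD2_c21 LD3_c22) (LK LD1_c7 LD2_c36 LD3_c53) Lrfl Lrfl
theorem f492966 : Led Lsl_bt (LP (LK LD1_c14 LD2_c21 LD3_c22)) = (LP (LK LD1_c7 LD2_c54 LD3_c0)) :=
  Lgr Lrot22 (Lpr_ct (f492117 IH) (Lpr_gf (K34.f492113 IH) (Lpr_cf (K34.f492812 IH) (Lpe (K34.f147960 IH) (Lpe (K34.f203944 IH) (Lpr_ct (K28.f142382 IH) (Lpe (K29.f124278 IH) (Lpe (K34.f203915 IH) (Lpr_bt (f203916 IH) (Lpe (f470891 IH) (Lpn (LP (LK LD1_c7 LD2_c54 LD3_c0)))))))))))))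
theorem f492968 : Led Lsl_bf (LP (LK LD1_c14 LD2_c21 LD3_c22)) = (LP (LK LD1_c7 LD2_c54 LD3_c0)) :=
  Lgr Lrot24 (Lpr_bt (f492966 IH) (Lpn (LP (LK LD1_c7 LD2_c54 LD3_c0))))
theorem f534556 : Led Lsl_at (LP (LK LD1_c14 LD2_c21 LD3_c22)) = (LP (LK LD1_c7 LD2_c45 LD3_c30)) :=
  Lgr Lrot67 (Lpr_bf (f492968 IH) (Lpr_af (f533842 IH) (Lpe (f451908 IH) (Lpr_af (f534554 IH) (Lpe (K34.f532879 IH) (Lpn (LP (LK LD1_c7 LD2_c45 LD3_c30))))))))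
theorem f123489 : Led Lsl_ct (LP (LK LD1_c3 LD2_c49 LD3_c61)) = (LP (LK LD1_c7 LD2_c40 LD3_c55)) :=
  Lre_c IH (LK LD1_c3 LD2_c49 LD3_c61) (LK LD1_c7 LD2_c40 LD3_c55) Lrfl Lrfl
theorem f533425 : Led Lsl_ff (LP (LK LD1_c14 LD2_c21 LD3_c22)) = (LP (LK LD1_c7 LD2_c40 LD3_c55)) :=
  Lgr Lrot23 (Lpr_ct (f492117 IH) (Lpr_ft (K34.f533421 IH) (Lpr_ct (f123489 IH) (Lpn (LP (LK LD1_c7 LD2_c40 LD3_c55))))))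
theorem f203993 : Led Lsl_gt (LP (LK LD1_c7 LD2_c40 LD3_c55)) = (LP (LK LD1_c14 LD2_c28 LD3_c54)) :=
  Lre_g IH (LK LD1_c7 LD2_c40 LD3_c55) (LK LD1_c14 LD2_c28 LD3_c54) Lrfl Lrfl
theorem f534560 : Led Lsl_gt (LP (LK LD1_c14 LD2_c28 LD3_c54)) = (LP (LK LD1_c7 LD2_c45 LD3_c30)) :=
  Lgr Lrot46 (Lpe (f203993 IH) (Lpe (f533425 IH) (Lpr_at (f534556 IH) (Lpn (LP (LK LD1_c7 LD2_c45 LD3_c30))))))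
theorem f492097 : Led Lsl_gf (LP (LK LD1_c7 LD2_c36 LD3_c54)) = (LP (LK LD1_c3 LD2_c51 LD3_c51)) :=
  Lgr Lrot76 (Lpe (K34.f492092 IH) (Lpr_ff (K34.f492090 IH) (Lpr_gt (K34.f464843 IH) (Lpn (LP (LK LD1_c3 LD2_c51 LD3_c51))))))
theorem f493000 : Led Lsl_at (LP (LK LD1_c7 LD2_c25 LD3_c29)) = (LP (LK LD1_c14 LD2_c2 LD3_c29)) :=
  Lre_a IH (LK LD1_c7 LD2_c25 LD3_c29) (LK LD1_c14 LD2_c2 LD3_c29) Lrfl Lrfl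
theorem f493001 : Led Lsl_ct (LP (LK LD1_c14 LD2_c2 LD3_c29)) = (LP (LK LD1_c7 LD2_c36 LD3_c54)) :=
  Lgr Lrot111 (Lpe (f493000 IH) (Lpr_cf (f492998 IH) (Lpe (K34.f492109 IH) (Lpn (LP (LK LD1_c7 LD2_c36 LD3_c54))))))
theorem f493023 : Led Lsl_bf (LP (LK LD1_c14 LD2_c2 LD3_c29)) = (LP (LK LD1_c13 LD2_c13 LD3_c1)) :=
  Lgr Lrot90 (Lpr_ct (f493001 IH) (Lpe (K34.f492263 IH) (Lpr_ct (K34.f492268 IH) (Lpe (K33.f492356 IH) (Lpr_ct (K34.f492613 IH) (Lpn (LP (LK LD1_c13 LD2_c13 LD3_c1))))))))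
theorem f493033 : Led Lsl_bt (LP (LK LD1_c14 LD2_c2 LD3_c29)) = (LP (LK LD1_c13 LD2_c13 LD3_c1)) :=
  Lgr Lrot127 (Lpr_bf (f493023 IH) (Lpn (LP (LK LD1_c13 LD2_c13 LD3_c1))))
theorem f457848 : Led Lsl_gt (LP (LK LD1_c7 LD2_c37 LD3_c17)) = (LP (LK LD1_c3 LD2_c48 LD3_c6)) :=
  Lre_g IH (LK LD1_c7 LD2_c37 LD3_c17) (LK LD1_c3 LD2_c48 LD3_c6) Lrfl Lrfl
theorem f457851 : Led Lsl_bt (LP (LK LD1_c14 LD2_c22 LD3_c6)) = (LP (LK LD1_c7 LD2_c37 LD3_c17)) :=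
  Lre_b IH (LK LD1_c14 LD2_c22 LD3_c6) (LK LD1_c7 LD2_c37 LD3_c17) Lrfl Lrfl
theorem f457852 : Led Lsl_ct (LP (LK LD1_c14 LD2_c22 LD3_c6)) = (LP (LK LD1_c14 LD2_c20 LD3_c29)) :=
  Lre_c IH (LK LD1_c14 LD2_c22 LD3_c6) (LK LD1_c14 LD2_c20 LD3_c29) Lrfl Lrfl
theorem f457853 : Led Lsl_gt (LP (LK LD1_c7 LD2_c36 LD3_c25)) = (LP (LK LD1_c14 LD2_c20 LD3_c29)) :=
  Lre_g IH (LK LD1_c7 LD2_c36 LD3_c25) (LK LD1_c14 LD2_c20 LD3_c29) Lrfl Lrfl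
theorem f14964 : Led Lsl_ct (LP (LK LD1_c3 LD2_c47 LD3_c43)) = (LP (LK LD1_c7 LD2_c36 LD3_c25)) :=
  Lre_c IH (LK LD1_c3 LD2_c47 LD3_c43) (LK LD1_c7 LD2_c36 LD3_c25) Lrfl Lrfl
theorem f457854 : Led Lsl_bt (LP (LK LD1_c3 LD2_c47 LD3_c43)) = (LP (LK LD1_c7 LD2_c36 LD3_c24)) :=
  Lre_b IH (LK LD1_c3 LD2_c47 LD3_c43) (LK LD1_c7 LD2_c36 LD3_c24) Lrfl Lrfl
theorem f107403 : Led Lsl_dt (LP (LK LD1_c14 LD2_c22 LD3_c20)) = (LP (LK LD1_c7 LD2_c37 LD3_c24)) :=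
  Lre_d IH (LK LD1_c14 LD2_c22 LD3_c20) (LK LD1_c7 LD2_c37 LD3_c24) Lrfl Lrfl
theorem f204037 : Led Lsl_bf (LP (LK LD1_c14 LD2_c19 LD3_c20)) = (LP (LK LD1_c7 LD2_c37 LD3_c24)) :=
  Lgr Lrot93 (Lpr_dt (f145018 IH) (Lpr_bt (f204035 IH) (Lpr_dt (f107403 IH) (Lpn (LP (LK LD1_c7 LD2_c37 LD3_c24))))))
theorem f532827 : Led Lsl_gf (LP (LK LD1_c7 LD2_c36 LD3_c24)) = (LP (LK LD1_c14 LD2_c19 LD3_c20)) :=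
  Lgr Lrot124 (Lpe (f457854 IH) (Lpr_ct (f14964 IH) (Lpr_gt (f457853 IH) (Lpe (f457852 IH) (Lpr_bt (f457851 IH) (Lpr_gt (f457848 IH) (Lpe (K34.f457826 IH) (Lpr_gt (K34.f532821 IH) (Lpr_cf (K6.f129586 IH) (Lpe (f204037 IH) (Lpn (LP (LK LD1_c14 LD2_c19 LD3_c20)))))))))))))
theorem f471248 : Led Lsl_cf (LP (LK LD1_c7 LD2_c36 LD3_c24)) = (LP (LK LD1_c7 LD2_c54 LD3_c5)) :=
  Lgr Lrot11 (Lpr_ct (K29.f471245 IH) (Lpn (LP (LK LD1_c7 LD2_c54 LD3_c5))))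
theorem f534562 : Led Lsl_bf (LP (LK LD1_c14 LD2_c28 LD3_c54)) = (LP (LK LD1_c7 LD2_c54 LD3_c5)) :=
  Lgr Lrot165 (Lpr_gt (f534560 IH) (Lpr_ct (K34.f471510 IH) (Lpe (f492097 IH) (Lpe (f493001 IH) (Lpr_bt (f493033 IH) (Lpr_gt (K34.f532813 IH) (Lpr_bf (f142549 IH) (Lpe (f204043 IH) (Lpe (f532827 IH) (Lpr_cf (f471248 IH) (Lpn (LP (LK LD1_c7 LD2_c54 LD3_c5)))))))))))))
theorem f534569 : Led Lsl_et (LP (LK LD1_c14 LD2_c28 LD3_c54)) = (LP (LK LD1_c24 LD2_c10 LD3_c4)) :=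
  Lre_e IH (LK LD1_c14 LD2_c28 LD3_c54) (LK LD1_c24 LD2_c10 LD3_c4) Lrfl Lrfl
theorem f463108 : Led Lsl_et (LP (LK LD1_c14 LD2_c54 LD3_c13)) = (LP (LK LD1_c7 LD2_c54 LD3_c5)) :=
  Lre_e IH (LK LD1_c14 LD2_c54 LD3_c13) (LK LD1_c7 LD2_c54 LD3_c5) Lrfl Lrfl
theorem f534570 : Led Lsl_bt (LP (LK LD1_c24 LD2_c10 LD3_c4)) = (LP (LK LD1_c14 LD2_c54 LD3_c13)) :=
  Lgr Lrot119 (Lpe (f534569 IH) (Lpr_bf (f534562 IH) (Lpe (f463108 IH) (Lpn (LP (LK LD1_c14 LD2_c54 LD3_c13))))))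
theorem f471253 : Led Lsl_et (LP (LK LD1_c14 LD2_c20 LD3_c28)) = (LP (LK LD1_c7 LD2_c36 LD3_c24)) :=
  Lre_e IH (LK LD1_c14 LD2_c20 LD3_c28) (LK LD1_c7 LD2_c36 LD3_c24) Lrfl Lrfl
theorem f463162 : Led Lsl_et (LP (LK LD1_c7 LD2_c54 LD3_c5)) = (LP (LK LD1_c14 LD2_c54 LD3_c13)) :=
  Lre_e IH (LK LD1_c7 LD2_c54 LD3_c5) (LK LD1_c14 LD2_c54 LD3_c13) Lrfl Lrfl
theorem f471254 : Led Lsl_cf (LP (LK LD1_c14 LD2_c20 LD3_c28)) = (LP (LK LD1_c14 LD2_c54 LD3_c13)) :=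
  Lgr Lrot39 (Lpr_et (f471253 IH) (Lpr_ct (K29.f471245 IH) (Lpr_et (f463162 IH) (Lpn (LP (LK LD1_c14 LD2_c54 LD3_c13))))))
theorem f472063 : Led Lsl_bt (LP (LK LD1_c14 LD2_c20 LD3_c28)) = (LP (LK LD1_c7 LD2_c36 LD3_c27)) :=
  Lre_b IH (LK LD1_c14 LD2_c20 LD3_c28) (LK LD1_c7 LD2_c36 LD3_c27) Lrfl Lrfl
theorem f156641 : Led Lsl_ct (LP (LK LD1_c7 LD2_c36 LD3_c27)) = (LP (LK LD1_c14 LD2_c20 LD3_c30)) :=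
  Lre_c IH (LK LD1_c7 LD2_c36 LD3_c27) (LK LD1_c14 LD2_c20 LD3_c30) Lrfl Lrfl
theorem f472056 : Led Lsl_et (LP (LK LD1_c13 LD2_c7 LD3_c54)) = (LP (LK LD1_c22 LD2_c19 LD3_c54)) :=
  Lre_e IH (LK LD1_c13 LD2_c7 LD3_c54) (LK LD1_c22 LD2_c19 LD3_c54) Lrfl Lrfl
theorem f472057 : Led Lsl_et (LP (LK LD1_c14 LD2_c20 LD3_c30)) = (LP (LK LD1_c7 LD2_c36 LD3_c25)) :=
  Lre_e IH (LK LD1_c14 LD2_c20 LD3_c30) (LK LD1_c7 LD2_c36 LD3_c25) Lrfl Lrfl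
theorem f472058 : Led Lsl_bt (LP (LK LD1_c22 LD2_c19 LD3_c54)) = (LP (LK LD1_c14 LD2_c20 LD3_c30)) :=
  Lgr Lrot119 (Lpe (f472056 IH) (Lpr_bf (K34.f472052 IH) (Lpe (f472057 IH) (Lpn (LP (LK LD1_c14 LD2_c20 LD3_c30))))))
theorem f472060 : Led Lsl_bf (LP (LK LD1_c22 LD2_c19 LD3_c54)) = (LP (LK LD1_c14 LD2_c20 LD3_c30)) :=
  Lgr Lrot24 (Lpr_bt (f472058 IH) (Lpn (LP (LK LD1_c14 LD2_c20 LD3_c30))))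
theorem f534574 : Led Lsl_cf (LP (LK LD1_c24 LD2_c10 LD3_c4)) = (LP (LK LD1_c22 LD2_c19 LD3_c54)) :=
  Lgr Lrot97 (Lpr_bt (f534570 IH) (Lpe (f471254 IH) (Lpr_bt (f472063 IH) (Lpr_ct (f156641 IH) (Lpe (f472060 IH) (Lpn (LP (LK LD1_c22 LD2_c19 LD3_c54))))))))
theorem f534580 : Led Lsl_ct (LP (LK LD1_c24 LD2_c10 LD3_c4)) = (LP (LK LD1_c22 LD2_c19 LD3_c54)) :=
  Lgr Lrot59 (Lpr_cf (f534574 IH) (Lpn (LP (LK LD1_c22 LD2_c19 LD3_c54))))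
theorem f102627 : Led Lsl_et (LP (LK LD1_c22 LD2_c19 LD3_c54)) = (LP (LK LD1_c13 LD2_c7 LD3_c54)) :=
  Lre_e IH (LK LD1_c22 LD2_c19 LD3_c54) (LK LD1_c13 LD2_c7 LD3_c54) Lrfl Lrfl
theorem f534582 : Led Lsl_cf (LP (LK LD1_c14 LD2_c28 LD3_c54)) = (LP (LK LD1_c13 LD2_c7 LD3_c54)) :=
  Lgr Lrot39 (Lpr_et (f534569 IH) (Lpr_ct (f534580 IH) (Lpr_et (f102627 IH) (Lpn (LP (LK LD1_c13 LD2_c7 LD3_c54))))))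
theorem f464844 : Led Lsl_ct (LP (LK LD1_c3 LD2_c51 LD3_c51)) = (LP (LK LD1_c7 LD2_c45 LD3_c30)) :=
  Lre_c IH (LK LD1_c3 LD2_c51 LD3_c51) (LK LD1_c7 LD2_c45 LD3_c30) Lrfl Lrfl
theorem f527275 : Led Lsl_bt (LP (LK LD1_c1 LD2_c52 LD3_c25)) = (LP (LK LD1_c3 LD2_c51 LD3_c8)) :=
  Lre_b IH (LK LD1_c1 LD2_c52 LD3_c25) (LK LD1_c3 LD2_c51 LD3_c8) Lrfl Lrfl
theorem f527276 : Led Lsl_gt (LP (LK LD1_c7 LD2_c43 LD3_c37)) = (LP (LK LD1_c3 LD2_c51 LD3_c8)) :=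
  Lre_g IH (LK LD1_c7 LD2_c43 LD3_c37) (LK LD1_c3 LD2_c51 LD3_c8) Lrfl Lrfl
theorem f534584 : Led Lsl_bt (LP (LK LD1_c3 LD2_c51 LD3_c51)) = (LP (LK LD1_c7 LD2_c43 LD3_c37)) :=
  Lgr Lrot22 (Lpr_ct (f464844 IH) (Lpe (f534560 IH) (Lpr_cf (f534582 IH) (Lpe (K34.f102619 IH) (Lpe (K28.f425127 IH) (Lpe (K28.f425206 IH) (Lpr_gf (K34.f527268 IH) (Lpe (K34.f527269 IH) (Lpr_bt (f527275 IH) (Lpe (f527276 IH) (Lpn (LP (LK LD1_c7 LD2_c43 LD3_c37)))))))))))))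
theorem f534585 : Led Lsl_bt (LP (LK LD1_c3 LD2_c51 LD3_c51)) = (LP (LK LD1_c7 LD2_c43 LD3_c37)) :=
  Leop (Lpe (f534584 IH) (Lpn (LP (LK LD1_c3 LD2_c51 LD3_c51))))
theorem seed_234 : LEOK LG_b (LK LD1_c3 LD2_c51 LD3_c51) :=
  Leoe_b (LK LD1_c3 LD2_c51 LD3_c51) (f534585 IH)
theorem f451219 : Led Lsl_dt (LP (LK LD1_c1 LD2_c52 LD3_c26)) = (LP (LK LD1_c0 LD2_c52 LD3_c56)) :=
  Lre_d IH (LK LD1_c1 LD2_c52 LD3_c26) (LK LD1_c0 LD2_c52 LD3_c56) Lrfl Lrfl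
theorem f468783 : Led Lsl_ct (LP (LK LD1_c3 LD2_c51 LD3_c12)) = (LP (LK LD1_c1 LD2_c52 LD3_c26)) :=
  Lre_c IH (LK LD1_c3 LD2_c51 LD3_c12) (LK LD1_c1 LD2_c52 LD3_c26) Lrfl Lrfl
theorem f468445 : Led Lsl_gt (LP (LK LD1_c7 LD2_c43 LD3_c49)) = (LP (LK LD1_c3 LD2_c51 LD3_c12)) :=
  Lre_g IH (LK LD1_c7 LD2_c43 LD3_c49) (LK LD1_c3 LD2_c51 LD3_c12) Lrfl Lrfl
theorem f532611 : Led Lsl_ct (LP (LK LD1_c13 LD2_c50 LD3_c6)) = (LP (LK LD1_c7 LD2_c43 LD3_c49)) :=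
  Lgr Lrot152 (Lpr_gf (K34.f532606 IH) (Lpe (K34.f457764 IH) (Lpr_gt (K34.f471913 IH) (Lpr_ct (K29.f471177 IH) (Lpr_gt (K29.f17265 IH) (Lpr_ct (K34.f451206 IH) (Lpe (f451219 IH) (Lpe (f468783 IH) (Lpe (f468445 IH) (Lpn (LP (LK LD1_c7 LD2_c43 LD3_c49))))))))))))
def v2762 : LQ := Led Lsl_at (LP (LK LD1_c1 LD2_c54 LD3_c41))
theorem f532567 : Led Lsl_at (LP (LK LD1_c1 LD2_c54 LD3_c41)) = v2762 :=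
  Lrfl
theorem f532568 : Led Lsl_af (LP (LK LD1_c1 LD2_c54 LD3_c41)) = v2762 :=
  Lgr Lrot0 (Lpr_at (f532567 IH) (Lpn v2762))
theorem f17276 : Led Lsl_gt (LP (LK LD1_c0 LD2_c53 LD3_c59)) = (LP (LK LD1_c1 LD2_c54 LD3_c41)) :=
  Lre_g IH (LK LD1_c0 LD2_c53 LD3_c59) (LK LD1_c1 LD2_c54 LD3_c41) Lrfl Lrfl
theorem f532569 : Led Lsl_ft K34.v906 = v2762 :=
  Lgr Lrot2 (Lpe (K34.f490380 IH) (Lpr_gt (f17276 IH) (Lpr_af (f532568 IH) (Lpn v2762))))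
theorem f493639 : Led Lsl_ct (LP (LK LD1_c3 LD2_c56 LD3_c0)) = (LP (LK LD1_c1 LD2_c54 LD3_c41)) :=
  Lre_c IH (LK LD1_c3 LD2_c56 LD3_c0) (LK LD1_c1 LD2_c54 LD3_c41) Lrfl Lrfl
theorem f493640 : Led Lsl_dt (LP (LK LD1_c7 LD2_c53 LD3_c43)) = (LP (LK LD1_c3 LD2_c56 LD3_c0)) :=
  Lre_d IH (LK LD1_c7 LD2_c53 LD3_c43) (LK LD1_c3 LD2_c56 LD3_c0) Lrfl Lrfl
theorem f457626 : Led Lsl_dt (LP (LK LD1_c7 LD2_c43 LD3_c49)) = (LP (LK LD1_c14 LD2_c34 LD3_c36)) :=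
  Lre_d IH (LK LD1_c7 LD2_c43 LD3_c49) (LK LD1_c14 LD2_c34 LD3_c36) Lrfl Lrfl
theorem f535313 : Led Lsl_cf (LP (LK LD1_c7 LD2_c53 LD3_c43)) = (LP (LK LD1_c14 LD2_c34 LD3_c36)) :=
  Lgr Lrot161 (Lpr_dt (f493640 IH) (Lpr_ct (f493639 IH) (Lpr_af (f532568 IH) (Lpe (f532569 IH) (Lpe (K34.f532602 IH) (Lpr_ct (K34.f519439 IH) (Lpr_dt (K34.f532604 IH) (Lpr_ct (f532611 IH) (Lpr_dt (f457626 IH) (Lpn (LP (LK LD1_c14 LD2_c34 LD3_c36))))))))))))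
theorem f535314 : Led Lsl_ct (LP (LK LD1_c14 LD2_c34 LD3_c36)) = (LP (LK LD1_c7 LD2_c53 LD3_c43)) :=
  Leop (Lpr_cf (f535313 IH) (Lpn (LP (LK LD1_c14 LD2_c34 LD3_c36))))
theorem seed_235 : LEOK LG_c (LK LD1_c14 LD2_c34 LD3_c36) :=
  Leoe_c (LK LD1_c14 LD2_c34 LD3_c36) (f535314 IH)
def v2767 : LQ := Led Lsl_et (LP (LK LD1_c1 LD2_c54 LD3_c44))
theorem f535396 : Led Lsl_et (LP (LK LD1_c1 LD2_c54 LD3_c44)) = v2767 :=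
  Lrfl
theorem f535400 : Led Lsl_ef (LP (LK LD1_c1 LD2_c54 LD3_c44)) = v2767 :=
  Lgr Lrot88 (Lpr_et (f535396 IH) (Lpn v2767))
theorem f208980 : Led Lsl_dt (LP (LK LD1_c3 LD2_c38 LD3_c31)) = (LP (LK LD1_c7 LD2_c17 LD3_c23)) :=
  Lre_d IH (LK LD1_c3 LD2_c38 LD3_c31) (LK LD1_c7 LD2_c17 LD3_c23) Lrfl Lrfl
theorem f97257 : Led Lsl_dt (LP (LK LD1_c3 LD2_c38 LD3_c30)) = (LP (LK LD1_c1 LD2_c46 LD3_c14)) :=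
  Lre_d IH (LK LD1_c3 LD2_c38 LD3_c30) (LK LD1_c1 LD2_c46 LD3_c14) Lrfl Lrfl
theorem f5803 : Led Lsl_dt (LP (LK LD1_c1 LD2_c46 LD3_c39)) = (LP (LK LD1_c3 LD2_c39 LD3_c24)) :=
  Lre_d IH (LK LD1_c1 LD2_c46 LD3_c39) (LK LD1_c3 LD2_c39 LD3_c24) Lrfl Lrfl
theorem f439460 : Led Lsl_af (LP (LK LD1_c3 LD2_c38 LD3_c30)) = (LP (LK LD1_c3 LD2_c39 LD3_c24)) :=
  Lgr Lrot117 (Lpr_dt (f97257 IH) (Lpr_at (K28.f439453 IH) (Lpr_dt (f5803 IH) (Lpn (LP (LK LD1_c3 LD2_c39 LD3_c24))))))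
theorem f439463 : Led Lsl_at (LP (LK LD1_c3 LD2_c38 LD3_c30)) = (LP (LK LD1_c3 LD2_c39 LD3_c24)) :=
  Lgr Lrot100 (Lpr_af (f439460 IH) (Lpn (LP (LK LD1_c3 LD2_c39 LD3_c24))))
theorem f97275 : Led Lsl_ft (LP (LK LD1_c7 LD2_c17 LD3_c23)) = (LP (LK LD1_c3 LD2_c38 LD3_c30)) :=
  Lre_f IH (LK LD1_c7 LD2_c17 LD3_c23) (LK LD1_c3 LD2_c38 LD3_c30) Lrfl Lrfl
theorem f5804 : Led Lsl_gt (LP (LK LD1_c7 LD2_c19 LD3_c1)) = (LP (LK LD1_c3 LD2_c39 LD3_c24)) :=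
  Lre_g IH (LK LD1_c7 LD2_c19 LD3_c1) (LK LD1_c3 LD2_c39 LD3_c24) Lrfl Lrfl
theorem f439524 : Led Lsl_gt (LP (LK LD1_c7 LD2_c17 LD3_c23)) = (LP (LK LD1_c7 LD2_c19 LD3_c1)) :=
  Lgr Lrot5 (Lpr_ft (f97275 IH) (Lpr_at (f439463 IH) (Lpe (f5804 IH) (Lpn (LP (LK LD1_c7 LD2_c19 LD3_c1))))))
theorem f535404 : Led Lsl_df (LP (LK LD1_c7 LD2_c19 LD3_c1)) = v2767 :=
  Lgr Lrot168 (Lpe (f439524 IH) (Lpe (f208980 IH) (Lpe (K28.f208971 IH) (Lpe (K29.f470633 IH) (Lpe (K32.f470667 IH) (Lpr_dt (K32.f470668 IH) (Lpr_gf (K32.f425387 IH) (Lpe (K30.f97350 IH) (Lpe (K34.f471385 IH) (Lpr_ef (f535400 IH) (Lpn v2767)))))))))))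
theorem f458623 : Led Lsl_ft (LP (LK LD1_c1 LD2_c54 LD3_c45)) = (LP (LK LD1_c1 LD2_c54 LD3_c44)) :=
  Lgr Lrot4 (Lpe (K29.f446531 IH) (Lpr_ff (K28.f458617 IH) (Lpe (K28.f446552 IH) (Lpn (LP (LK LD1_c1 LD2_c54 LD3_c44))))))
theorem f470400 : Led Lsl_at (LP (LK LD1_c1 LD2_c54 LD3_c44)) = (LP (LK LD1_c3 LD2_c33 LD3_c13)) :=
  Lgr Lrot66 (Lpe (f458623 IH) (Lpr_af (K29.f465142 IH) (Lpr_ff (K29.f470398 IH) (Lpn (LP (LK LD1_c3 LD2_c33 LD3_c13))))))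
theorem f470397 : Led Lsl_et (LP (LK LD1_c3 LD2_c33 LD3_c13)) = (LP (LK LD1_c7 LD2_c7 LD3_c23)) :=
  Lre_e IH (LK LD1_c3 LD2_c33 LD3_c13) (LK LD1_c7 LD2_c7 LD3_c23) Lrfl Lrfl
theorem f535401 : Led Lsl_at (LP (LK LD1_c7 LD2_c7 LD3_c23)) = v2767 :=
  Lgr Lrot80 (Lpe (f470397 IH) (Lpe (f470400 IH) (Lpr_ef (f535400 IH) (Lpn v2767))))
theorem f470407 : Led Lsl_et (LP (LK LD1_c7 LD2_c7 LD3_c23)) = (LP (LK LD1_c3 LD2_c33 LD3_c13)) :=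
  Lre_e IH (LK LD1_c7 LD2_c7 LD3_c23) (LK LD1_c3 LD2_c33 LD3_c13) Lrfl Lrfl
theorem f5054 : Led Lsl_et (LP (LK LD1_c1 LD2_c46 LD3_c14)) = (LP (LK LD1_c0 LD2_c49 LD3_c52)) :=
  Lre_e IH (LK LD1_c1 LD2_c46 LD3_c14) (LK LD1_c0 LD2_c49 LD3_c52) Lrfl Lrfl
theorem f5055 : Led Lsl_dt (LP (LK LD1_c1 LD2_c46 LD3_c14)) = (LP (LK LD1_c3 LD2_c38 LD3_c30)) :=
  Lre_d IH (LK LD1_c1 LD2_c46 LD3_c14) (LK LD1_c3 LD2_c38 LD3_c30) Lrfl Lrfl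
theorem f97268 : Led Lsl_gt (LP (LK LD1_c7 LD2_c17 LD3_c21)) = (LP (LK LD1_c3 LD2_c38 LD3_c30)) :=
  Lre_g IH (LK LD1_c7 LD2_c17 LD3_c21) (LK LD1_c3 LD2_c38 LD3_c30) Lrfl Lrfl
theorem f471004 : Led Lsl_dt (LP (LK LD1_c7 LD2_c7 LD3_c23)) = (LP (LK LD1_c7 LD2_c17 LD3_c21)) :=
  Lgr Lrot136 (Lpr_et (f470407 IH) (Lpr_gf (K29.f470916 IH) (Lpe (K33.f97357 IH) (Lpr_dt (K3.f6104 IH) (Lpe (K3.f98494 IH) (Lpe (K0.f376 IH) (Lpe (K3.f383 IH) (Lpe (f5054 IH) (Lpr_dt (f5055 IH) (Lpe (f97268 IH) (Lpn (LP (LK LD1_c7 LD2_c17 LD3_c21)))))))))))))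
theorem f471009 : Led Lsl_df (LP (LK LD1_c7 LD2_c7 LD3_c23)) = (LP (LK LD1_c7 LD2_c17 LD3_c21)) :=
  Lgr Lrot38 (Lpr_dt (f471004 IH) (Lpn (LP (LK LD1_c7 LD2_c17 LD3_c21))))
theorem f535405 : Led Lsl_at (LP (LK LD1_c7 LD2_c19 LD3_c1)) = (LP (LK LD1_c7 LD2_c17 LD3_c21)) :=
  Lgr Lrot51 (Lpr_df (f535404 IH) (Lpe (f535401 IH) (Lpr_df (f471009 IH) (Lpn (LP (LK LD1_c7 LD2_c17 LD3_c21))))))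
theorem f535406 : Led Lsl_at (LP (LK LD1_c7 LD2_c19 LD3_c1)) = (LP (LK LD1_c7 LD2_c17 LD3_c21)) :=
  Leop (Lpe (f535405 IH) (Lpn (LP (LK LD1_c7 LD2_c19 LD3_c1))))
theorem seed_236 : LEOK LG_a (LK LD1_c7 LD2_c19 LD3_c1) :=
  Leoe_a (LK LD1_c7 LD2_c19 LD3_c1) (f535406 IH)
def v2770 : LQ := Led Lsl_et (LP (LK LD1_c1 LD2_c54 LD3_c52))
theorem f535446 : Led Lsl_et (LP (LK LD1_c1 LD2_c54 LD3_c52)) = v2770 :=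
  Lrfl
theorem f535449 : Led Lsl_cf K34.v919 = v2770 :=
  Lgr Lrot39 (Lpe (K34.f490525 IH) (Lpr_ct (K28.f451279 IH) (Lpr_et (f535446 IH) (Lpn v2770))))
theorem f523903 : Led Lsl_ct (LP (LK LD1_c7 LD2_c51 LD3_c6)) = (LP (LK LD1_c3 LD2_c54 LD3_c44)) :=
  Lre_c IH (LK LD1_c7 LD2_c51 LD3_c6) (LK LD1_c3 LD2_c54 LD3_c44) Lrfl Lrfl
theorem f523909 : Led Lsl_bt (LP (LK LD1_c7 LD2_c51 LD3_c6)) = (LP (LK LD1_c14 LD2_c48 LD3_c35)) :=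
  Lre_b IH (LK LD1_c7 LD2_c51 LD3_c6) (LK LD1_c14 LD2_c48 LD3_c35) Lrfl Lrfl
theorem f535448 : Led Lsl_bf (LP (LK LD1_c1 LD2_c54 LD3_c54)) = v2770 :=
  Lgr Lrot96 (Lpr_et (K28.f451832 IH) (Lpr_bt (K28.f451263 IH) (Lpr_et (f535446 IH) (Lpn v2770))))
theorem f479827 : Led Lsl_cf (LP (LK LD1_c7 LD2_c45 LD3_c44)) = (LP (LK LD1_c7 LD2_c52 LD3_c47)) :=
  Lgr Lrot11 (Lpr_ct (K32.f479825 IH) (Lpn (LP (LK LD1_c7 LD2_c52 LD3_c47))))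
theorem f469783 : Led Lsl_ct (LP (LK LD1_c23 LD2_c27 LD3_c34)) = (LP (LK LD1_c13 LD2_c56 LD3_c26)) :=
  Lre_c IH (LK LD1_c23 LD2_c27 LD3_c34) (LK LD1_c13 LD2_c56 LD3_c26) Lrfl Lrfl
theorem f492782 : Led Lsl_af (LP (LK LD1_c23 LD2_c27 LD3_c34)) = (LP (LK LD1_c23 LD2_c40 LD3_c26)) :=
  Lgr Lrot68 (Lpr_ct (f469783 IH) (Lpr_at (K34.f492780 IH) (Lpr_ct (K34.f469921 IH) (Lpn (LP (LK LD1_c23 LD2_c40 LD3_c26))))))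
theorem f489611 : Led Lsl_ct (LP (LK LD1_c31 LD2_c3 LD3_c43)) = (LP (LK LD1_c23 LD2_c27 LD3_c11)) :=
  Lre_c IH (LK LD1_c31 LD2_c3 LD3_c43) (LK LD1_c23 LD2_c27 LD3_c11) Lrfl Lrfl
theorem f469785 : Led Lsl_ct (LP (LK LD1_c13 LD2_c56 LD3_c26)) = (LP (LK LD1_c23 LD2_c27 LD3_c34)) :=
  Lre_c IH (LK LD1_c13 LD2_c56 LD3_c26) (LK LD1_c23 LD2_c27 LD3_c34) Lrfl Lrfl
theorem f489612 : Led Lsl_ff (LP (LK LD1_c31 LD2_c3 LD3_c43)) = (LP (LK LD1_c23 LD2_c27 LD3_c34)) :=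
  Lgr Lrot23 (Lpr_ct (f489611 IH) (Lpr_ft (K34.f489609 IH) (Lpr_ct (f469785 IH) (Lpn (LP (LK LD1_c23 LD2_c27 LD3_c34))))))
theorem f489599 : Led Lsl_at (LP (LK LD1_c31 LD2_c3 LD3_c43)) = (LP (LK LD1_c23 LD2_c27 LD3_c12)) :=
  Lre_a IH (LK LD1_c31 LD2_c3 LD3_c43) (LK LD1_c23 LD2_c27 LD3_c12) Lrfl Lrfl
theorem f493110 : Led Lsl_ft (LP (LK LD1_c23 LD2_c27 LD3_c12)) = (LP (LK LD1_c23 LD2_c40 LD3_c26)) :=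
  Lgr Lrot101 (Lpe (f489599 IH) (Lpr_ff (f489612 IH) (Lpr_af (f492782 IH) (Lpn (LP (LK LD1_c23 LD2_c40 LD3_c26))))))
theorem f493114 : Led Lsl_ff (LP (LK LD1_c23 LD2_c27 LD3_c12)) = (LP (LK LD1_c23 LD2_c40 LD3_c26)) :=
  Lgr Lrot3 (Lpr_ft (f493110 IH) (Lpn (LP (LK LD1_c23 LD2_c40 LD3_c26))))
theorem f128314 : Led Lsl_ct (LP (LK LD1_c23 LD2_c27 LD3_c12)) = (LP (LK LD1_c13 LD2_c56 LD3_c7)) :=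
  Lre_c IH (LK LD1_c23 LD2_c27 LD3_c12) (LK LD1_c13 LD2_c56 LD3_c7) Lrfl Lrfl
theorem f493116 : Led Lsl_ft (LP (LK LD1_c13 LD2_c56 LD3_c7)) = (LP (LK LD1_c14 LD2_c6 LD3_c29)) :=
  Lgr Lrot4 (Lpe (f128314 IH) (Lpr_ff (f493114 IH) (Lpe (K34.f469921 IH) (Lpn (LP (LK LD1_c14 LD2_c6 LD3_c29))))))
theorem f489580 : Led Lsl_ft (LP (LK LD1_c14 LD2_c38 LD3_c15)) = (LP (LK LD1_c7 LD2_c45 LD3_c35)) :=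
  Lre_f IH (LK LD1_c14 LD2_c38 LD3_c15) (LK LD1_c7 LD2_c45 LD3_c35) Lrfl Lrfl
theorem f493122 : Led Lsl_df (LP (LK LD1_c14 LD2_c38 LD3_c15)) = (LP (LK LD1_c14 LD2_c6 LD3_c29)) :=
  Lgr Lrot78 (Lpr_ft (f489580 IH) (Lpe (K34.f489593 IH) (Lpr_ft (f493116 IH) (Lpn (LP (LK LD1_c14 LD2_c6 LD3_c29))))))
theorem f493124 : Led Lsl_dt (LP (LK LD1_c14 LD2_c38 LD3_c15)) = (LP (LK LD1_c14 LD2_c6 LD3_c29)) :=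
  Lgr Lrot42 (Lpr_df (f493122 IH) (Lpn (LP (LK LD1_c14 LD2_c6 LD3_c29))))
theorem f493127 : Led Lsl_bf (LP (LK LD1_c14 LD2_c38 LD3_c15)) = (LP (LK LD1_c7 LD2_c52 LD3_c47)) :=
  Lgr Lrot93 (Lpr_dt (f493124 IH) (Lpr_bt (K34.f469918 IH) (Lpr_dt (K33.f479831 IH) (Lpn (LP (LK LD1_c7 LD2_c52 LD3_c47))))))
theorem f535458 : Led Lsl_gf (LP (LK LD1_c14 LD2_c48 LD3_c35)) = (LP (LK LD1_c14 LD2_c38 LD3_c15)) :=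
  Lgr Lrot124 (Lpe (f523909 IH) (Lpr_ct (f523903 IH) (Lpr_gt (K34.f527561 IH) (Lpr_cf (f535449 IH) (Lpe (f535448 IH) (Lpr_gt (K33.f451343 IH) (Lpe (K33.f464663 IH) (Lpe (K33.f469515 IH) (Lpr_cf (f479827 IH) (Lpe (f493127 IH) (Lpn (LP (LK LD1_c14 LD2_c38 LD3_c15)))))))))))))
theorem f535459 : Led Lsl_gt (LP (LK LD1_c14 LD2_c38 LD3_c15)) = (LP (LK LD1_c14 LD2_c48 LD3_c35)) :=
  Leop (Lpr_gf (f535458 IH) (Lpn (LP (LK LD1_c14 LD2_c38 LD3_c15))))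
theorem seed_237 : LEOK LG_g (LK LD1_c14 LD2_c38 LD3_c15) :=
  Leoe_g (LK LD1_c14 LD2_c38 LD3_c15) (f535459 IH)
theorem f35539 : Led Lsl_et (LP (LK LD1_c2 LD2_c52 LD3_c12)) = (LP (LK LD1_c1 LD2_c22 LD3_c5)) :=
  Lre_e IH (LK LD1_c2 LD2_c52 LD3_c12) (LK LD1_c1 LD2_c22 LD3_c5) Lrfl Lrfl
def v1586 : LQ := Led Lsl_ct (LP (LK LD1_c1 LD2_c22 LD3_c5))
theorem f500211 : Led Lsl_ct (LP (LK LD1_c1 LD2_c22 LD3_c5)) = v1586 :=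
  Lrfl
def v1585 : LQ := Led Lsl_at (LP (LK LD1_c1 LD2_c22 LD3_c5))
theorem f500204 : Led Lsl_at (LP (LK LD1_c1 LD2_c22 LD3_c5)) = v1585 :=
  Lrfl
theorem f500205 : Led Lsl_af (LP (LK LD1_c1 LD2_c22 LD3_c5)) = v1585 :=
  Lgr Lrot0 (Lpr_at (f500204 IH) (Lpn v1585))
theorem f22245 : Led Lsl_gt (LP (LK LD1_c0 LD2_c37 LD3_c60)) = (LP (LK LD1_c1 LD2_c22 LD3_c5)) :=
  Lre_g IH (LK LD1_c0 LD2_c37 LD3_c60) (LK LD1_c1 LD2_c22 LD3_c5) Lrfl Lrfl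
theorem f500208 : Led Lsl_ft (LP (LK LD1_c1 LD2_c22 LD3_c6)) = v1585 :=
  Lgr Lrot2 (Lpr_gt (K17.f20291 IH) (Lpr_gt (f22245 IH) (Lpr_af (f500205 IH) (Lpn v1585))))
theorem f500209 : Led Lsl_ff (LP (LK LD1_c1 LD2_c22 LD3_c6)) = v1585 :=
  Lgr Lrot3 (Lpr_ft (f500208 IH) (Lpn v1585))
def v1588 : LQ := Led Lsl_ct (LP (LK LD1_c1 LD2_c22 LD3_c6))
theorem f500221 : Led Lsl_ct (LP (LK LD1_c1 LD2_c22 LD3_c6)) = v1588 :=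
  Lrfl
def v347 : LQ := Led Lsl_gf (LP (LK LD1_c0 LD2_c30 LD3_c48))
def v2824 : LQ := Led Lsl_et v347
theorem f535775 : Led Lsl_et v347 = v2824 :=
  Lrfl
theorem f535776 : Led Lsl_ef v347 = v2824 :=
  Lgr Lrot88 (Lpr_et (f535775 IH) (Lpn v2824))
theorem f452333 : Led Lsl_gf (LP (LK LD1_c0 LD2_c30 LD3_c48)) = v347 :=
  Lrfl
theorem f77783 : Led Lsl_et (LP (LK LD1_c0 LD2_c20 LD3_c1)) = (LP (LK LD1_c0 LD2_c45 LD3_c12)) :=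
  Lre_e IH (LK LD1_c0 LD2_c20 LD3_c1) (LK LD1_c0 LD2_c45 LD3_c12) Lrfl Lrfl
def v1958 : LQ := Led Lsl_gt (LP (LK LD1_c1 LD2_c32 LD3_c5))
theorem f506596 : Led Lsl_gt (LP (LK LD1_c1 LD2_c32 LD3_c5)) = v1958 :=
  Lrfl
theorem f438342 : Led Lsl_gf (LP (LK LD1_c2 LD2_c19 LD3_c31)) = (LP (LK LD1_c1 LD2_c38 LD3_c26)) :=
  Lgr Lrot147 (Lpr_ct (K24.f438333 IH) (Lpr_gt (K24.f416629 IH) (Lpr_ct (K24.f414301 IH) (Lpe (K24.f76974 IH) (Lpe (K17.f413732 IH) (Lpe (K17.f414445 IH) (Lpe (K2.f73673 IH) (Lpe (K11.f13561 IH) (Lpe (K9.f13570 IH) (Lpn (LP (LK LD1_c1 LD2_c38 LD3_c26))))))))))))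
theorem f506599 : Led Lsl_dt (LP (LK LD1_c1 LD2_c37 LD3_c38)) = v1958 :=
  Lgr Lrot56 (Lpr_et (K32.f79716 IH) (Lpe (f438342 IH) (Lpe (K24.f152224 IH) (Lpr_dt (K24.f152216 IH) (Lpe (K32.f435490 IH) (Lpr_df (K32.f435494 IH) (Lpe (K32.f79828 IH) (Lpr_gt (K17.f67051 IH) (Lpr_dt (K9.f67188 IH) (Lpr_gt (f506596 IH) (Lpn v1958)))))))))))
theorem f509832 : Led Lsl_af (LP (LK LD1_c3 LD2_c13 LD3_c1)) = (LP (LK LD1_c3 LD2_c8 LD3_c36)) :=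
  Lgr Lrot31 (Lpe (K11.f13564 IH) (Lpe (K11.f79774 IH) (Lpr_ft (K32.f509826 IH) (Lpn (LP (LK LD1_c3 LD2_c8 LD3_c36))))))
theorem f67201 : Led Lsl_et (LP (LK LD1_c0 LD2_c42 LD3_c36)) = (LP (LK LD1_c1 LD2_c32 LD3_c5)) :=
  Lre_e IH (LK LD1_c0 LD2_c42 LD3_c36) (LK LD1_c1 LD2_c32 LD3_c5) Lrfl Lrfl
theorem f506600 : Led Lsl_et (LP (LK LD1_c3 LD2_c13 LD3_c1)) = v1958 :=
  Lgr Lrot122 (Lpe (K24.f13567 IH) (Lpe (K24.f442819 IH) (Lpe (K24.f26290 IH) (Lpr_et (K32.f26281 IH) (Lpr_gt (K32.f442831 IH) (Lpr_dt (K17.f61684 IH) (Lpr_gt (K17.f155859 IH) (Lpe (K9.f67187 IH) (Lpr_et (f67201 IH) (Lpr_gt (f506596 IH) (Lpn v1958)))))))))))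
theorem f509787 : Led Lsl_af (LP (LK LD1_c1 LD2_c38 LD3_c23)) = K32.v2234 :=
  Lgr Lrot0 (Lpr_at (K32.f509786 IH) (Lpn K32.v2234))
theorem f509840 : v1958 = K32.v2234 :=
  (Llr Lrot123 (Lpe (f506600 IH) (Lpr_af (f509832 IH) (Lpe (K24.f82577 IH) (Lpr_af (f509787 IH) (Lpn K32.v2234)))))).symm
def v2237 : LQ := Led Lsl_gf (LP (LK LD1_c1 LD2_c38 LD3_c24))
theorem f510415 : Led Lsl_gf (LP (LK LD1_c1 LD2_c38 LD3_c24)) = v2237 :=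
  Lrfl
theorem f509825 : Led Lsl_et K32.v2212 = K32.v2236 :=
  Lgr Lrot87 (Lpr_ef (K32.f509824 IH) (Lpn K32.v2236))
theorem f73781 : Led Lsl_et (LP (LK LD1_c0 LD2_c45 LD3_c35)) = (LP (LK LD1_c1 LD2_c38 LD3_c24)) :=
  Lre_e IH (LK LD1_c0 LD2_c45 LD3_c35) (LK LD1_c1 LD2_c38 LD3_c24) Lrfl Lrfl
theorem f506597 : Led Lsl_df (LP (LK LD1_c1 LD2_c37 LD3_c38)) = v1958 :=
  Lgr Lrot153 (Lpr_gt (K9.f76926 IH) (Lpr_dt (K2.f76918 IH) (Lpr_cf (K2.f73765 IH) (Lpe (K2.f73655 IH) (Lpe (K16.f141143 IH) (Lpe (K17.f139945 IH) (Lpe (K32.f416539 IH) (Lpe (K32.f79834 IH) (Lpr_gt (f506596 IH) (Lpn v1958))))))))))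
theorem f509841 : K32.v571 = (LP (LK LD1_c1 LD2_c37 LD3_c38)) :=
  Lefun (Lecon (Lfl_df (K32.f509788 IH)) (f509840 IH).symm) (Lfl_df (f506597 IH))
theorem f509842 : (LP (LK LD1_c0 LD2_c45 LD3_c35)) = K32.v2212 :=
  Lefun (Lecon (Lfl_af (K32.f454814 IH)) (f509841 IH)) (K32.f509698 IH)
theorem f509852 : K32.v2236 = (LP (LK LD1_c1 LD2_c38 LD3_c24)) :=
  Lefun (Lecon (f509825 IH) (f509842 IH).symm) (f73781 IH)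
theorem f510416 : Led Lsl_gt K32.v2234 = v2237 :=
  Lgr Lrot5 (Lpe (K32.f509791 IH) (Lpr_at (K32.f509822 IH) (Lpqs (f509852 IH) (Lpr_gf (f510415 IH) (Lpn v2237)))))
theorem f535777 : Led Lsl_df v2237 = v2824 :=
  Lgr Lrot132 (Lpe (f510416 IH) (Lpq (f509840 IH) (Lpe (f506599 IH) (Lpe (K9.f73769 IH) (Lpe (f77783 IH) (Lpr_dt (K0.f9743 IH) (Lpe (K0.f20873 IH) (Lpe (K0.f22750 IH) (Lpr_et (K29.f27169 IH) (Lpr_gf (f452333 IH) (Lpr_ef (f535776 IH) (Lpn v2824))))))))))))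
theorem f140976 : Led Lsl_cf (LP (LK LD1_c1 LD2_c36 LD3_c44)) = (LP (LK LD1_c1 LD2_c38 LD3_c24)) :=
  Lgr Lrot39 (Lpr_et (K0.f22848 IH) (Lpr_ct (K17.f140046 IH) (Lpr_et (f73781 IH) (Lpn (LP (LK LD1_c1 LD2_c38 LD3_c24))))))
theorem f507924 : Led Lsl_cf (LP (LK LD1_c3 LD2_c2 LD3_c51)) = (LP (LK LD1_c5 LD2_c55 LD3_c19)) :=
  Lgr Lrot108 (Lpr_ft (K32.f507922 IH) (Lpr_ct (K24.f180325 IH) (Lpr_ft (K24.f180318 IH) (Lpn (LP (LK LD1_c5 LD2_c55 LD3_c19))))))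
theorem f508063 : Led Lsl_ff (LP (LK LD1_c11 LD2_c48 LD3_c45)) = (LP (LK LD1_c12 LD2_c55 LD3_c8)) :=
  Lgr Lrot23 (Lpr_ct (K16.f59857 IH) (Lpr_ft (K32.f508061 IH) (Lpe (K24.f416741 IH) (Lpn (LP (LK LD1_c12 LD2_c55 LD3_c8))))))
theorem f508075 : Led Lsl_ft (LP (LK LD1_c9 LD2_c31 LD3_c21)) = (LP (LK LD1_c6 LD2_c45 LD3_c28)) :=
  Lgr Lrot54 (Lpe (K24.f416599 IH) (Lpr_ff (f508063 IH) (Lpe (K24.f415143 IH) (Lpn (LP (LK LD1_c6 LD2_c45 LD3_c28))))))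
theorem f77027 : Led Lsl_ct (LP (LK LD1_c2 LD2_c22 LD3_c27)) = (LP (LK LD1_c4 LD2_c49 LD3_c19)) :=
  Lre_c IH (LK LD1_c2 LD2_c22 LD3_c27) (LK LD1_c4 LD2_c49 LD3_c19) Lrfl Lrfl
theorem f77038 : Led Lsl_ct (LP (LK LD1_c9 LD2_c31 LD3_c23)) = (LP (LK LD1_c4 LD2_c49 LD3_c18)) :=
  Lre_c IH (LK LD1_c9 LD2_c31 LD3_c23) (LK LD1_c4 LD2_c49 LD3_c18) Lrfl Lrfl
theorem f414923 : Led Lsl_gt (LP (LK LD1_c4 LD2_c50 LD3_c1)) = (LP (LK LD1_c9 LD2_c31 LD3_c23)) :=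
  Lgr Lrot9 (Lpr_df (K24.f414810 IH) (Lpr_gt (K24.f22918 IH) (Lpr_ct (K24.f22915 IH) (Lpr_gt (K0.f22856 IH) (Lpr_ct (K17.f22868 IH) (Lpr_df (K17.f77033 IH) (Lpe (f77027 IH) (Lpe (K24.f77037 IH) (Lpe (f77038 IH) (Lpn (LP (LK LD1_c9 LD2_c31 LD3_c23))))))))))))
theorem f508083 : Led Lsl_af (LP (LK LD1_c9 LD2_c31 LD3_c23)) = (LP (LK LD1_c6 LD2_c45 LD3_c28)) :=
  Lgr Lrot31 (Lpe (f414923 IH) (Lpe (K24.f414927 IH) (Lpr_ft (f508075 IH) (Lpn (LP (LK LD1_c6 LD2_c45 LD3_c28))))))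
theorem f508087 : Led Lsl_at (LP (LK LD1_c4 LD2_c49 LD3_c18)) = (LP (LK LD1_c3 LD2_c20 LD3_c48)) :=
  Lgr Lrot107 (Lpe (f77038 IH) (Lpr_af (f508083 IH) (Lpe (K24.f415139 IH) (Lpn (LP (LK LD1_c3 LD2_c20 LD3_c48))))))
theorem f508095 : Led Lsl_ff (LP (LK LD1_c4 LD2_c49 LD3_c18)) = (LP (LK LD1_c3 LD2_c20 LD3_c47)) :=
  Lgr Lrot52 (Lpr_at (f508087 IH) (Lpe (K24.f415141 IH) (Lpr_gf (K24.f417126 IH) (Lpn (LP (LK LD1_c3 LD2_c20 LD3_c47))))))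
theorem f508103 : Led Lsl_ft (LP (LK LD1_c4 LD2_c49 LD3_c18)) = (LP (LK LD1_c3 LD2_c20 LD3_c47)) :=
  Lgr Lrot48 (Lpr_ff (f508095 IH) (Lpn (LP (LK LD1_c3 LD2_c20 LD3_c47))))
theorem f508107 : Led Lsl_af (LP (LK LD1_c4 LD2_c49 LD3_c17)) = (LP (LK LD1_c3 LD2_c20 LD3_c47)) :=
  Lgr Lrot31 (Lpe (K24.f414530 IH) (Lpe (K24.f77037 IH) (Lpr_ft (f508103 IH) (Lpn (LP (LK LD1_c3 LD2_c20 LD3_c47))))))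
theorem f508089 : Led Lsl_af (LP (LK LD1_c4 LD2_c49 LD3_c18)) = (LP (LK LD1_c3 LD2_c20 LD3_c48)) :=
  Lgr Lrot0 (Lpr_at (f508087 IH) (Lpn (LP (LK LD1_c3 LD2_c20 LD3_c48))))
theorem f508113 : Led Lsl_ft (LP (LK LD1_c4 LD2_c49 LD3_c17)) = (LP (LK LD1_c3 LD2_c20 LD3_c48)) :=
  Lgr Lrot101 (Lpr_af (f508107 IH) (Lpe (f508103 IH) (Lpr_af (f508089 IH) (Lpn (LP (LK LD1_c3 LD2_c20 LD3_c48))))))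
theorem f508115 : Led Lsl_ff (LP (LK LD1_c4 LD2_c35 LD3_c43)) = (LP (LK LD1_c6 LD2_c45 LD3_c29)) :=
  Lgr Lrot19 (Lpr_dt (K24.f414531 IH) (Lpr_ft (f508113 IH) (Lpr_dt (K24.f415146 IH) (Lpn (LP (LK LD1_c6 LD2_c45 LD3_c29))))))
theorem f508121 : Led Lsl_ft (LP (LK LD1_c4 LD2_c35 LD3_c43)) = (LP (LK LD1_c6 LD2_c45 LD3_c29)) :=
  Lgr Lrot48 (Lpr_ff (f508115 IH) (Lpn (LP (LK LD1_c6 LD2_c45 LD3_c29))))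
theorem f416723 : Led Lsl_af (LP (LK LD1_c5 LD2_c55 LD3_c19)) = (LP (LK LD1_c6 LD2_c45 LD3_c29)) :=
  Lgr Lrot0 (Lpr_at (K24.f416721 IH) (Lpn (LP (LK LD1_c6 LD2_c45 LD3_c29))))
theorem f508129 : Led Lsl_gt (LP (LK LD1_c3 LD2_c21 LD3_c2)) = (LP (LK LD1_c5 LD2_c55 LD3_c19)) :=
  Lgr Lrot46 (Lpr_gf (K24.f416520 IH) (Lpr_ft (f508121 IH) (Lpe (f416723 IH) (Lpn (LP (LK LD1_c5 LD2_c55 LD3_c19))))))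
theorem f535780 : Led Lsl_gf (LP (LK LD1_c3 LD2_c6 LD3_c60)) = v2824 :=
  Lgr Lrot147 (Lpr_ct (K17.f414508 IH) (Lpr_gt (f508129 IH) (Lpe (f507924 IH) (Lpe (K16.f415413 IH) (Lpr_cf (K16.f415420 IH) (Lpr_gf (K24.f416537 IH) (Lpr_cf (f140976 IH) (Lpr_gf (f510415 IH) (Lpr_df (f535777 IH) (Lpn v2824))))))))))
theorem f535782 : Led Lsl_cf (LP (LK LD1_c2 LD2_c52 LD3_c15)) = v2824 :=
  Lgr Lrot166 (Lpe (K24.f416662 IH) (Lpe (K24.f414438 IH) (Lpe (K17.f414796 IH) (Lpr_dt (K17.f413673 IH) (Lpr_ct (K16.f413657 IH) (Lpe (K9.f73748 IH) (Lpe (K9.f66977 IH) (Lpe (K11.f66979 IH) (Lpr_gf (f535780 IH) (Lpn v2824))))))))))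
theorem f535783 : v1588 = v347 :=
  (Llr Lrot15 (Lpe (f500221 IH) (Lpe (K17.f20292 IH) (Lpr_cf (f535782 IH) (Lpe (f535775 IH) (Lpn v347)))))).symm
def v346 : LQ := Led Lsl_gt (LP (LK LD1_c0 LD2_c30 LD3_c48))
def v2815 : LQ := Led Lsl_at v346
theorem f535748 : Led Lsl_at v346 = v2815 :=
  Lrfl
theorem f535749 : Led Lsl_af v346 = v2815 :=
  Lgr Lrot0 (Lpr_at (f535748 IH) (Lpn v2815))
theorem f452332 : Led Lsl_gt (LP (LK LD1_c0 LD2_c30 LD3_c48)) = v346 :=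
  Lrfl
theorem f535750 : Led Lsl_ft v347 = v2815 :=
  Lgr Lrot2 (Lpe (f452333 IH) (Lpr_gt (f452332 IH) (Lpr_af (f535749 IH) (Lpn v2815))))
theorem f535785 : Led Lsl_cf v1585 = v2815 :=
  Lgr Lrot108 (Lpe (f500209 IH) (Lpr_ct (f500221 IH) (Lpqs (f535783 IH) (Lpr_ft (f535750 IH) (Lpn v2815)))))
theorem f535787 : v1586 = v346 :=
  (Llr Lrot111 (Lpe (f500211 IH) (Lpr_af (f500205 IH) (Lpr_cf (f535785 IH) (Lpe (f535748 IH) (Lpn v346)))))).symm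
def v2819 : LQ := Led Lsl_et v346
theorem f535758 : Led Lsl_et v346 = v2819 :=
  Lrfl
theorem f535793 : Led Lsl_cf (LP (LK LD1_c2 LD2_c52 LD3_c12)) = v2819 :=
  Lgr Lrot39 (Lpr_et (f35539 IH) (Lpr_ct (f500211 IH) (Lpqs (f535787 IH) (Lpr_et (f535758 IH) (Lpn v2819)))))
theorem f535759 : Led Lsl_ef v346 = v2819 :=
  Lgr Lrot88 (Lpr_et (f535758 IH) (Lpn v2819))
theorem f82878 : Led Lsl_ff (LP (LK LD1_c0 LD2_c13 LD3_c38)) = (LP (LK LD1_c0 LD2_c8 LD3_c38)) :=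
  Lgr Lrot52 (Lpr_at (K4.f82872 IH) (Lpe (K1.f20981 IH) (Lpe (K1.f59453 IH) (Lpn (LP (LK LD1_c0 LD2_c8 LD3_c38))))))
theorem f82231 : Led Lsl_ff (LP (LK LD1_c0 LD2_c13 LD3_c40)) = (LP (LK LD1_c0 LD2_c8 LD3_c36)) :=
  Lgr Lrot23 (Lpr_ct (K3.f26602 IH) (Lpr_ft (K2.f82227 IH) (Lpe (K1.f37929 IH) (Lpn (LP (LK LD1_c0 LD2_c8 LD3_c36))))))
theorem f82880 : Led Lsl_at (LP (LK LD1_c0 LD2_c13 LD3_c40)) = (LP (LK LD1_c0 LD2_c8 LD3_c38)) :=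
  Lgr Lrot66 (Lpr_ff (f82231 IH) (Lpe (K4.f82872 IH) (Lpr_ff (f82878 IH) (Lpn (LP (LK LD1_c0 LD2_c8 LD3_c38))))))
theorem f446808 : Led Lsl_af (LP (LK LD1_c0 LD2_c30 LD3_c48)) = K29.v81 :=
  Lgr Lrot50 (Lpr_et (K29.f61677 IH) (Lpr_at (f82880 IH) (Lpr_et (K29.f446807 IH) (Lpn K29.v81))))
theorem f451472 : Led Lsl_ff K29.v81 = K29.v269 :=
  Lgr Lrot3 (Lpr_ft (K29.f451471 IH) (Lpn K29.v269))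
theorem f452342 : Led Lsl_af K29.v269 = K29.v349 :=
  Lgr Lrot45 (Lpe (f451472 IH) (Lpe (f446808 IH) (Lpr_ft (K29.f452341 IH) (Lpn K29.v349))))
theorem f452346 : Led Lsl_gt v346 = K29.v269 :=
  Lgr Lrot46 (Lpe (f452332 IH) (Lpr_ft (K29.f452341 IH) (Lpe (f452342 IH) (Lpn K29.v269))))
theorem f452301 : Led Lsl_ef K29.v269 = K11.v343 :=
  Lgr Lrot21 (Lpe (f451472 IH) (Lpe (K29.f446810 IH) (Lpe (f82878 IH) (Lpr_et (K24.f26064 IH) (Lpr_ft (K11.f452298 IH) (Lpn K11.v343))))))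
theorem f535760 : Led Lsl_df (LP (LK LD1_c2 LD2_c18 LD3_c25)) = v2819 :=
  Lgr Lrot132 (Lpr_gf (K32.f154051 IH) (Lpe (K7.f153528 IH) (Lpr_gf (K11.f153578 IH) (Lpe (K11.f82691 IH) (Lpr_dt (K11.f82681 IH) (Lpr_gf (K11.f452307 IH) (Lpe (K11.f452305 IH) (Lpe (f452301 IH) (Lpe (f452346 IH) (Lpr_ef (f535759 IH) (Lpn v2819)))))))))))
theorem f82832 : Led Lsl_ct (LP (LK LD1_c1 LD2_c6 LD3_c13)) = (LP (LK LD1_c2 LD2_c18 LD3_c26)) :=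
  Lre_c IH (LK LD1_c1 LD2_c6 LD3_c13) (LK LD1_c2 LD2_c18 LD3_c26) Lrfl Lrfl
theorem f135533 : Led Lsl_ct (LP (LK LD1_c2 LD2_c22 LD3_c10)) = (LP (LK LD1_c4 LD2_c48 LD3_c34)) :=
  Lre_c IH (LK LD1_c2 LD2_c22 LD3_c10) (LK LD1_c4 LD2_c48 LD3_c34) Lrfl Lrfl
theorem f435393 : Led Lsl_cf (LP (LK LD1_c2 LD2_c21 LD3_c58)) = (LP (LK LD1_c4 LD2_c42 LD3_c11)) :=
  Lgr Lrot39 (Lpr_et (K24.f135527 IH) (Lpr_ct (f135533 IH) (Lpr_et (K32.f435388 IH) (Lpn (LP (LK LD1_c4 LD2_c42 LD3_c11))))))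
theorem f414935 : Led Lsl_ct (LP (LK LD1_c4 LD2_c49 LD3_c17)) = (LP (LK LD1_c9 LD2_c31 LD3_c21)) :=
  Lre_c IH (LK LD1_c4 LD2_c49 LD3_c17) (LK LD1_c9 LD2_c31 LD3_c21) Lrfl Lrfl
theorem f508131 : Led Lsl_ct (LP (LK LD1_c3 LD2_c2 LD3_c51)) = (LP (LK LD1_c5 LD2_c55 LD3_c19)) :=
  Lgr Lrot98 (Lpe (K16.f415413 IH) (Lpr_cf (K16.f415420 IH) (Lpe (K16.f59830 IH) (Lpe (K16.f59857 IH) (Lpr_df (K24.f416550 IH) (Lpe (f414935 IH) (Lpe (K24.f414531 IH) (Lpr_ft (f508121 IH) (Lpe (f416723 IH) (Lpn (LP (LK LD1_c5 LD2_c55 LD3_c19))))))))))))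
theorem f508135 : Led Lsl_ef (LP (LK LD1_c6 LD2_c2 LD3_c41)) = (LP (LK LD1_c5 LD2_c55 LD3_c19)) :=
  Lgr Lrot28 (Lpe (K29.f444003 IH) (Lpr_et (K29.f416936 IH) (Lpr_ct (f508131 IH) (Lpn (LP (LK LD1_c5 LD2_c55 LD3_c19))))))
def v1636 : LQ := Led Lsl_at (LP (LK LD1_c1 LD2_c22 LD3_c58))
theorem f500473 : Led Lsl_at (LP (LK LD1_c1 LD2_c22 LD3_c58)) = v1636 :=
  Lrfl
theorem f204499 : Led Lsl_ft (LP (LK LD1_c0 LD2_c38 LD3_c56)) = (LP (LK LD1_c1 LD2_c24 LD3_c28)) :=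
  Lre_f IH (LK LD1_c0 LD2_c38 LD3_c56) (LK LD1_c1 LD2_c24 LD3_c28) Lrfl Lrfl
theorem f419123 : Led Lsl_gt (LP (LK LD1_c1 LD2_c24 LD3_c25)) = (LP (LK LD1_c2 LD2_c16 LD3_c30)) :=
  Lgr Lrot46 (Lpe (K32.f68929 IH) (Lpr_ft (f204499 IH) (Lpr_at (K32.f204212 IH) (Lpn (LP (LK LD1_c2 LD2_c16 LD3_c30))))))
theorem f435571 : Led Lsl_ct (LP (LK LD1_c0 LD2_c44 LD3_c33)) = (LP (LK LD1_c1 LD2_c24 LD3_c25)) :=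
  Lgr Lrot152 (Lpe (K9.f24620 IH) (Lpe (K5.f24611 IH) (Lpr_gt (K29.f24683 IH) (Lpr_ct (K32.f416967 IH) (Lpr_gt (K32.f435569 IH) (Lpr_ct (K29.f61107 IH) (Lpe (K11.f61102 IH) (Lpe (K11.f61076 IH) (Lpe (f419123 IH) (Lpn (LP (LK LD1_c1 LD2_c24 LD3_c25))))))))))))
theorem f135636 : Led Lsl_gt (LP (LK LD1_c2 LD2_c21 LD3_c61)) = (LP (LK LD1_c1 LD2_c36 LD3_c12)) :=
  Lgr Lrot5 (Lpr_ft (K6.f92128 IH) (Lpr_at (K6.f135624 IH) (Lpe (K32.f24685 IH) (Lpn (LP (LK LD1_c1 LD2_c36 LD3_c12))))))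
theorem f143897 : Led Lsl_dt (LP (LK LD1_c1 LD2_c36 LD3_c12)) = (LP (LK LD1_c1 LD2_c34 LD3_c11)) :=
  Lre_d IH (LK LD1_c1 LD2_c36 LD3_c12) (LK LD1_c1 LD2_c34 LD3_c11) Lrfl Lrfl
theorem f68944 : Led Lsl_gt (LP (LK LD1_c2 LD2_c57 LD3_c27)) = (LP (LK LD1_c1 LD2_c24 LD3_c27)) :=
  Lre_g IH (LK LD1_c2 LD2_c57 LD3_c27) (LK LD1_c1 LD2_c24 LD3_c27) Lrfl Lrfl
theorem f204277 : Led Lsl_gf (LP (LK LD1_c2 LD2_c57 LD3_c27)) = (LP (LK LD1_c4 LD2_c38 LD3_c60)) :=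
  Lgr Lrot47 (Lpr_gt (f68944 IH) (Lpr_af (K11.f204265 IH) (Lpe (K11.f61105 IH) (Lpn (LP (LK LD1_c4 LD2_c38 LD3_c60))))))
theorem f204309 : Led Lsl_dt (LP (LK LD1_c2 LD2_c57 LD3_c27)) = (LP (LK LD1_c2 LD2_c53 LD3_c58)) :=
  Lre_d IH (LK LD1_c2 LD2_c57 LD3_c27) (LK LD1_c2 LD2_c53 LD3_c58) Lrfl Lrfl
theorem f435578 : Led Lsl_cf (LP (LK LD1_c1 LD2_c34 LD3_c11)) = (LP (LK LD1_c2 LD2_c53 LD3_c58)) :=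
  Lgr Lrot14 (Lpe (f143897 IH) (Lpe (f135636 IH) (Lpe (K6.f92219 IH) (Lpe (K32.f146019 IH) (Lpr_ct (f435571 IH) (Lpr_gt (f419123 IH) (Lpr_dt (K29.f61112 IH) (Lpe (f204277 IH) (Lpr_dt (f204309 IH) (Lpn (LP (LK LD1_c2 LD2_c53 LD3_c58))))))))))))
theorem f146027 : Led Lsl_et (LP (LK LD1_c1 LD2_c34 LD3_c11)) = (LP (LK LD1_c0 LD2_c43 LD3_c41)) :=
  Lre_e IH (LK LD1_c1 LD2_c34 LD3_c11) (LK LD1_c0 LD2_c43 LD3_c41) Lrfl Lrfl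
theorem f435589 : Led Lsl_et (LP (LK LD1_c1 LD2_c22 LD3_c58)) = (LP (LK LD1_c2 LD2_c53 LD3_c58)) :=
  Lre_e IH (LK LD1_c1 LD2_c22 LD3_c58) (LK LD1_c2 LD2_c53 LD3_c58) Lrfl Lrfl
theorem f435590 : Led Lsl_ct (LP (LK LD1_c0 LD2_c43 LD3_c41)) = (LP (LK LD1_c1 LD2_c22 LD3_c58)) :=
  Lgr Lrot15 (Lpe (f146027 IH) (Lpr_cf (f435578 IH) (Lpe (f435589 IH) (Lpn (LP (LK LD1_c1 LD2_c22 LD3_c58))))))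
theorem f500475 : Led Lsl_cf K32.v519 = v1636 :=
  Lgr Lrot1 (Lpe (K32.f453755 IH) (Lpr_ct (f435590 IH) (Lpr_at (f500473 IH) (Lpn v1636))))
theorem f180307 : Led Lsl_ct (LP (LK LD1_c0 LD2_c43 LD3_c42)) = (LP (LK LD1_c1 LD2_c22 LD3_c59)) :=
  Lre_c IH (LK LD1_c0 LD2_c43 LD3_c42) (LK LD1_c1 LD2_c22 LD3_c59) Lrfl Lrfl
theorem f500477 : Led Lsl_ft (LP (LK LD1_c1 LD2_c22 LD3_c59)) = v1636 :=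
  Lgr Lrot4 (Lpe (f180307 IH) (Lpr_ff (K32.f453757 IH) (Lpr_cf (f500475 IH) (Lpn v1636))))
theorem f500478 : Led Lsl_ff (LP (LK LD1_c1 LD2_c22 LD3_c59)) = v1636 :=
  Lgr Lrot3 (Lpr_ft (f500477 IH) (Lpn v1636))
theorem f500476 : Led Lsl_ct K32.v519 = v1636 :=
  Lgr Lrot59 (Lpr_cf (f500475 IH) (Lpn v1636))
theorem f435426 : Led Lsl_et (LP (LK LD1_c2 LD2_c14 LD3_c61)) = (LP (LK LD1_c4 LD2_c35 LD3_c41)) :=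
  Lre_e IH (LK LD1_c2 LD2_c14 LD3_c61) (LK LD1_c4 LD2_c35 LD3_c41) Lrfl Lrfl
theorem f435427 : Led Lsl_ct (LP (LK LD1_c1 LD2_c7 LD3_c24)) = (LP (LK LD1_c2 LD2_c14 LD3_c61)) :=
  Lgr Lrot15 (Lpe (K32.f206547 IH) (Lpr_cf (K32.f435409 IH) (Lpe (f435426 IH) (Lpn (LP (LK LD1_c2 LD2_c14 LD3_c61))))))
theorem f507958 : v1636 = (LP (LK LD1_c2 LD2_c14 LD3_c61)) :=
  Lefun (Lecon (f500476 IH) (K32.f507940 IH).symm) (f435427 IH)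
theorem f419094 : Led Lsl_et (LP (LK LD1_c4 LD2_c35 LD3_c41)) = (LP (LK LD1_c2 LD2_c14 LD3_c61)) :=
  Lre_e IH (LK LD1_c4 LD2_c35 LD3_c41) (LK LD1_c2 LD2_c14 LD3_c61) Lrfl Lrfl
theorem f508141 : Led Lsl_ft (LP (LK LD1_c6 LD2_c2 LD3_c41)) = (LP (LK LD1_c4 LD2_c35 LD3_c41)) :=
  Lgr Lrot86 (Lpr_ef (f508135 IH) (Lpe (K24.f180318 IH) (Lpe (K17.f180312 IH) (Lpr_ff (f500478 IH) (Lpqs (f507958 IH) (Lpe (f419094 IH) (Lpn (LP (LK LD1_c4 LD2_c35 LD3_c41)))))))))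
theorem f61082 : Led Lsl_dt (LP (LK LD1_c4 LD2_c35 LD3_c41)) = (LP (LK LD1_c4 LD2_c38 LD3_c58)) :=
  Lre_d IH (LK LD1_c4 LD2_c35 LD3_c41) (LK LD1_c4 LD2_c38 LD3_c58) Lrfl Lrfl
theorem f508145 : Led Lsl_ff (LP (LK LD1_c2 LD2_c57 LD3_c26)) = (LP (LK LD1_c4 LD2_c38 LD3_c58)) :=
  Lgr Lrot19 (Lpr_dt (K29.f68942 IH) (Lpr_ft (f508141 IH) (Lpr_dt (f61082 IH) (Lpn (LP (LK LD1_c4 LD2_c38 LD3_c58))))))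
theorem f27078 : Led Lsl_gt (LP (LK LD1_c2 LD2_c16 LD3_c29)) = (LP (LK LD1_c4 LD2_c38 LD3_c57)) :=
  Lre_g IH (LK LD1_c2 LD2_c16 LD3_c29) (LK LD1_c4 LD2_c38 LD3_c57) Lrfl Lrfl
theorem f508149 : Led Lsl_at (LP (LK LD1_c2 LD2_c57 LD3_c26)) = (LP (LK LD1_c4 LD2_c38 LD3_c57)) :=
  Lgr Lrot26 (Lpr_ff (f508145 IH) (Lpr_gt (K32.f61081 IH) (Lpr_gt (f27078 IH) (Lpn (LP (LK LD1_c4 LD2_c38 LD3_c57))))))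
theorem f146187 : Led Lsl_dt (LP (LK LD1_c3 LD2_c22 LD3_c29)) = (LP (LK LD1_c3 LD2_c20 LD3_c14)) :=
  Lgr Lrot60 (Lpe (K6.f143893 IH) (Lpe (K6.f146098 IH) (Lpr_ff (K6.f146181 IH) (Lpn (LP (LK LD1_c3 LD2_c20 LD3_c14))))))
theorem f20105 : Led Lsl_gf (LP (LK LD1_c4 LD2_c48 LD3_c7)) = (LP (LK LD1_c3 LD2_c3 LD3_c7)) :=
  Lgr Lrot134 (Lpe (K32.f20103 IH) (Lpr_et (K32.f20102 IH) (Lpr_gt (K32.f20101 IH) (Lpe (K24.f20100 IH) (Lpe (K1.f13591 IH) (Lpr_gt (K0.f20064 IH) (Lpe (K1.f11026 IH) (Lpr_et (K24.f20094 IH) (Lpr_gt (K24.f20095 IH) (Lpr_dt (K24.f20104 IH) (Lpn (LP (LK LD1_c3 LD2_c3 LD3_c7)))))))))))))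
theorem f437527 : Led Lsl_gt (LP (LK LD1_c1 LD2_c34 LD3_c11)) = (LP (LK LD1_c2 LD2_c17 LD3_c41)) :=
  Lgr Lrot139 (Lpe (f143897 IH) (Lpe (f135636 IH) (Lpe (K6.f143884 IH) (Lpr_dt (f146187 IH) (Lpe (K32.f146096 IH) (Lpe (K32.f20126 IH) (Lpr_et (K32.f20125 IH) (Lpr_gf (f20105 IH) (Lpe (K32.f20144 IH) (Lpr_dt (K24.f20130 IH) (Lpn (LP (LK LD1_c2 LD2_c17 LD3_c41)))))))))))))
theorem f435587 : Led Lsl_ct (LP (LK LD1_c1 LD2_c34 LD3_c11)) = (LP (LK LD1_c2 LD2_c53 LD3_c58)) :=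
  Lgr Lrot59 (Lpr_cf (f435578 IH) (Lpn (LP (LK LD1_c2 LD2_c53 LD3_c58))))
theorem f20111 : Led Lsl_dt (LP (LK LD1_c2 LD2_c17 LD3_c4)) = (LP (LK LD1_c4 LD2_c40 LD3_c4)) :=
  Lre_d IH (LK LD1_c2 LD2_c17 LD3_c4) (LK LD1_c4 LD2_c40 LD3_c4) Lrfl Lrfl
theorem f27067 : Led Lsl_gf (LP (LK LD1_c9 LD2_c13 LD3_c38)) = (LP (LK LD1_c4 LD2_c40 LD3_c4)) :=
  Lgr Lrot134 (Lpe (K16.f27066 IH) (Lpr_et (K16.f27065 IH) (Lpr_gt (K11.f27064 IH) (Lpe (K8.f26932 IH) (Lpe (K0.f26608 IH) (Lpr_gt (K0.f27020 IH) (Lpe (K0.f22444 IH) (Lpr_et (K0.f27060 IH) (Lpr_gt (K0.f20110 IH) (Lpr_dt (f20111 IH) (Lpn (LP (LK LD1_c4 LD2_c40 LD3_c4)))))))))))))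
theorem f27069 : Led Lsl_dt (LP (LK LD1_c9 LD2_c13 LD3_c38)) = (LP (LK LD1_c4 LD2_c38 LD3_c56)) :=
  Lre_d IH (LK LD1_c9 LD2_c13 LD3_c38) (LK LD1_c4 LD2_c38 LD3_c56) Lrfl Lrfl
theorem f27072 : Led Lsl_cf (LP (LK LD1_c4 LD2_c38 LD3_c56)) = (LP (LK LD1_c2 LD2_c21 LD3_c57)) :=
  Lgr Lrot14 (Lpe (f27069 IH) (Lpr_gf (f27067 IH) (Lpe (f20111 IH) (Lpe (K0.f20110 IH) (Lpr_ct (K0.f20109 IH) (Lpr_gt (K24.f20095 IH) (Lpr_dt (K24.f20104 IH) (Lpe (f20105 IH) (Lpr_dt (K32.f20107 IH) (Lpn (LP (LK LD1_c2 LD2_c21 LD3_c57))))))))))))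
theorem f27082 : Led Lsl_et (LP (LK LD1_c1 LD2_c8 LD3_c7)) = (LP (LK LD1_c2 LD2_c21 LD3_c57)) :=
  Lre_e IH (LK LD1_c1 LD2_c8 LD3_c7) (LK LD1_c2 LD2_c21 LD3_c57) Lrfl Lrfl
theorem f27083 : Led Lsl_ct (LP (LK LD1_c2 LD2_c16 LD3_c28)) = (LP (LK LD1_c1 LD2_c8 LD3_c7)) :=
  Lgr Lrot15 (Lpe (K16.f27065 IH) (Lpr_cf (f27072 IH) (Lpe (f27082 IH) (Lpn (LP (LK LD1_c1 LD2_c8 LD3_c7))))))
theorem f27046 : Led Lsl_et (LP (LK LD1_c4 LD2_c40 LD3_c58)) = (LP (LK LD1_c9 LD2_c17 LD3_c25)) :=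
  Lre_e IH (LK LD1_c4 LD2_c40 LD3_c58) (LK LD1_c9 LD2_c17 LD3_c25) Lrfl Lrfl
theorem f27017 : Led Lsl_et (LP (LK LD1_c4 LD2_c31 LD3_c55)) = (LP (LK LD1_c9 LD2_c1 LD3_c39)) :=
  Lre_e IH (LK LD1_c4 LD2_c31 LD3_c55) (LK LD1_c9 LD2_c1 LD3_c39) Lrfl Lrfl
theorem f412329 : Led Lsl_gf (LP (LK LD1_c9 LD2_c17 LD3_c25)) = (LP (LK LD1_c9 LD2_c1 LD3_c39)) :=
  Lgr Lrot141 (Lpe (f27046 IH) (Lpr_dt (K24.f27038 IH) (Lpr_gt (K8.f27029 IH) (Lpe (K17.f22859 IH) (Lpr_et (K24.f23166 IH) (Lpr_gt (K16.f268653 IH) (Lpr_dt (K16.f68794 IH) (Lpe (K24.f268637 IH) (Lpe (K11.f27010 IH) (Lpr_et (f27017 IH) (Lpn (LP (LK LD1_c9 LD2_c1 LD3_c39)))))))))))))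
theorem f27036 : Led Lsl_et (LP (LK LD1_c9 LD2_c13 LD3_c34)) = (LP (LK LD1_c17 LD2_c7 LD3_c56)) :=
  Lre_e IH (LK LD1_c9 LD2_c13 LD3_c34) (LK LD1_c17 LD2_c7 LD3_c56) Lrfl Lrfl
theorem f27039 : Led Lsl_et (LP (LK LD1_c9 LD2_c17 LD3_c25)) = (LP (LK LD1_c4 LD2_c40 LD3_c58)) :=
  Lre_e IH (LK LD1_c9 LD2_c17 LD3_c25) (LK LD1_c4 LD2_c40 LD3_c58) Lrfl Lrfl
theorem f27040 : Led Lsl_dt (LP (LK LD1_c17 LD2_c7 LD3_c56)) = (LP (LK LD1_c9 LD2_c17 LD3_c25)) :=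
  Lgr Lrot77 (Lpe (f27036 IH) (Lpr_df (K8.f27031 IH) (Lpe (K29.f27037 IH) (Lpe (K24.f27038 IH) (Lpe (f27039 IH) (Lpn (LP (LK LD1_c9 LD2_c17 LD3_c25))))))))
theorem f27044 : Led Lsl_et (LP (LK LD1_c17 LD2_c7 LD3_c56)) = (LP (LK LD1_c9 LD2_c13 LD3_c34)) :=
  Lre_e IH (LK LD1_c17 LD2_c7 LD3_c56) (LK LD1_c9 LD2_c13 LD3_c34) Lrfl Lrfl
theorem f177078 : Led Lsl_et (LP (LK LD1_c9 LD2_c1 LD3_c39)) = (LP (LK LD1_c4 LD2_c31 LD3_c55)) :=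
  Lre_e IH (LK LD1_c9 LD2_c1 LD3_c39) (LK LD1_c4 LD2_c31 LD3_c55) Lrfl Lrfl
theorem f177079 : Led Lsl_et (LP (LK LD1_c2 LD2_c19 LD3_c0)) = (LP (LK LD1_c4 LD2_c42 LD3_c59)) :=
  Lre_e IH (LK LD1_c2 LD2_c19 LD3_c0) (LK LD1_c4 LD2_c42 LD3_c59) Lrfl Lrfl
theorem f177080 : Led Lsl_df (LP (LK LD1_c9 LD2_c1 LD3_c39)) = (LP (LK LD1_c4 LD2_c42 LD3_c59)) :=
  Lgr Lrot70 (Lpr_et (f177078 IH) (Lpr_dt (K11.f27010 IH) (Lpe (K11.f176888 IH) (Lpr_dt (K11.f177073 IH) (Lpr_et (f177079 IH) (Lpn (LP (LK LD1_c4 LD2_c42 LD3_c59))))))))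
theorem f177084 : Led Lsl_et (LP (LK LD1_c4 LD2_c42 LD3_c59)) = (LP (LK LD1_c2 LD2_c19 LD3_c0)) :=
  Lre_e IH (LK LD1_c4 LD2_c42 LD3_c59) (LK LD1_c2 LD2_c19 LD3_c0) Lrfl Lrfl
theorem f412331 : Led Lsl_gt (LP (LK LD1_c9 LD2_c13 LD3_c34)) = (LP (LK LD1_c4 LD2_c38 LD3_c55)) :=
  Lgr Lrot137 (Lpe (f27044 IH) (Lpr_dt (f27040 IH) (Lpr_gf (f412329 IH) (Lpr_df (f177080 IH) (Lpr_et (f177084 IH) (Lpe (K11.f26976 IH) (Lpr_ef (K11.f26934 IH) (Lpr_dt (K11.f61080 IH) (Lpe (K11.f27064 IH) (Lpe (K11.f27088 IH) (Lpn (LP (LK LD1_c4 LD2_c38 LD3_c55)))))))))))))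
theorem f437529 : Led Lsl_gt (LP (LK LD1_c2 LD2_c53 LD3_c58)) = (LP (LK LD1_c4 LD2_c40 LD3_c59)) :=
  Lgr Lrot94 (Lpe (f435587 IH) (Lpr_gt (f437527 IH) (Lpr_dt (K24.f20143 IH) (Lpe (K32.f135498 IH) (Lpr_dt (K32.f27091 IH) (Lpe (f27083 IH) (Lpe (K11.f27088 IH) (Lpe (f412331 IH) (Lpr_df (K8.f27031 IH) (Lpn (LP (LK LD1_c4 LD2_c40 LD3_c59))))))))))))
theorem f435628 : Led Lsl_ft (LP (LK LD1_c2 LD2_c53 LD3_c58)) = (LP (LK LD1_c5 LD2_c55 LD3_c15)) :=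
  Lre_f IH (LK LD1_c2 LD2_c53 LD3_c58) (LK LD1_c5 LD2_c55 LD3_c15) Lrfl Lrfl
theorem f437531 : Led Lsl_at (LP (LK LD1_c5 LD2_c55 LD3_c15)) = (LP (LK LD1_c6 LD2_c2 LD3_c41)) :=
  Lgr Lrot26 (Lpe (f435628 IH) (Lpr_gt (f437529 IH) (Lpe (K29.f419117 IH) (Lpn (LP (LK LD1_c6 LD2_c2 LD3_c41))))))
theorem f508153 : Led Lsl_df (LP (LK LD1_c5 LD2_c55 LD3_c15)) = (LP (LK LD1_c4 LD2_c38 LD3_c57)) :=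
  Lgr Lrot18 (Lpr_at (f437531 IH) (Lpr_dt (K29.f22978 IH) (Lpr_at (f508149 IH) (Lpn (LP (LK LD1_c4 LD2_c38 LD3_c57))))))
theorem f27086 : Led Lsl_cf (LP (LK LD1_c2 LD2_c16 LD3_c28)) = (LP (LK LD1_c1 LD2_c8 LD3_c7)) :=
  Lgr Lrot11 (Lpr_ct (f27083 IH) (Lpn (LP (LK LD1_c1 LD2_c8 LD3_c7))))
theorem f508256 : Led Lsl_ct (LP (LK LD1_c5 LD2_c55 LD3_c15)) = (LP (LK LD1_c3 LD2_c3 LD3_c2)) :=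
  Lgr Lrot7 (Lpr_df (f508153 IH) (Lpe (f27078 IH) (Lpe (K11.f26933 IH) (Lpe (K11.f27064 IH) (Lpr_cf (f27086 IH) (Lpr_gt (K32.f20101 IH) (Lpr_dt (K32.f20123 IH) (Lpr_gt (K24.f20124 IH) (Lpr_dt (K29.f416807 IH) (Lpn (LP (LK LD1_c3 LD2_c3 LD3_c2))))))))))))
theorem f68943 : Led Lsl_et (LP (LK LD1_c6 LD2_c2 LD3_c42)) = (LP (LK LD1_c2 LD2_c57 LD3_c26)) :=
  Lre_e IH (LK LD1_c6 LD2_c2 LD3_c42) (LK LD1_c2 LD2_c57 LD3_c26) Lrfl Lrfl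
theorem f508155 : Led Lsl_et (LP (LK LD1_c4 LD2_c38 LD3_c57)) = (LP (LK LD1_c9 LD2_c13 LD3_c39)) :=
  Lre_e IH (LK LD1_c4 LD2_c38 LD3_c57) (LK LD1_c9 LD2_c13 LD3_c39) Lrfl Lrfl
theorem f508156 : Led Lsl_af (LP (LK LD1_c6 LD2_c2 LD3_c42)) = (LP (LK LD1_c9 LD2_c13 LD3_c39)) :=
  Lgr Lrot50 (Lpr_et (f68943 IH) (Lpr_at (f508149 IH) (Lpr_et (f508155 IH) (Lpn (LP (LK LD1_c9 LD2_c13 LD3_c39))))))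
theorem f508158 : Led Lsl_at (LP (LK LD1_c6 LD2_c2 LD3_c42)) = (LP (LK LD1_c9 LD2_c13 LD3_c39)) :=
  Lgr Lrot100 (Lpr_af (f508156 IH) (Lpn (LP (LK LD1_c9 LD2_c13 LD3_c39))))
theorem f494555 : Led Lsl_dt (LP (LK LD1_c5 LD2_c50 LD3_c43)) = (LP (LK LD1_c4 LD2_c39 LD3_c19)) :=
  Lgr Lrot42 (Lpr_df (K30.f494539 IH) (Lpn (LP (LK LD1_c4 LD2_c39 LD3_c19))))
theorem f302480 : Led Lsl_gf (LP (LK LD1_c1 LD2_c21 LD3_c52)) = (LP (LK LD1_c2 LD2_c51 LD3_c32)) :=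
  Lgr Lrot76 (Lpe (K18.f302453 IH) (Lpr_ff (K18.f302471 IH) (Lpr_gt (K30.f22164 IH) (Lpn (LP (LK LD1_c2 LD2_c51 LD3_c32))))))
theorem f268364 : Led Lsl_gt (LP (LK LD1_c9 LD2_c14 LD3_c17)) = (LP (LK LD1_c4 LD2_c39 LD3_c19)) :=
  Lre_g IH (LK LD1_c9 LD2_c14 LD3_c17) (LK LD1_c4 LD2_c39 LD3_c19) Lrfl Lrfl
theorem f494568 : Led Lsl_dt (LP (LK LD1_c6 LD2_c2 LD3_c42)) = (LP (LK LD1_c9 LD2_c14 LD3_c17)) :=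
  Lgr Lrot136 (Lpr_et (f68943 IH) (Lpe (K29.f22977 IH) (Lpr_ef (K11.f68922 IH) (Lpr_dt (K11.f25938 IH) (Lpe (K11.f68648 IH) (Lpe (K18.f68653 IH) (Lpr_gf (f302480 IH) (Lpe (K30.f22167 IH) (Lpr_dt (f494555 IH) (Lpe (f268364 IH) (Lpn (LP (LK LD1_c9 LD2_c14 LD3_c17)))))))))))))
theorem f494580 : Led Lsl_df (LP (LK LD1_c6 LD2_c2 LD3_c42)) = (LP (LK LD1_c9 LD2_c14 LD3_c17)) :=
  Lgr Lrot38 (Lpr_dt (f494568 IH) (Lpn (LP (LK LD1_c9 LD2_c14 LD3_c17))))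
theorem f494570 : Led Lsl_gt (LP (LK LD1_c11 LD2_c49 LD3_c31)) = (LP (LK LD1_c6 LD2_c2 LD3_c42)) :=
  Lre_g IH (LK LD1_c11 LD2_c49 LD3_c31) (LK LD1_c6 LD2_c2 LD3_c42) Lrfl Lrfl
theorem f204842 : Led Lsl_et (LP (LK LD1_c2 LD2_c51 LD3_c39)) = (LP (LK LD1_c1 LD2_c21 LD3_c52)) :=
  Lre_e IH (LK LD1_c2 LD2_c51 LD3_c39) (LK LD1_c1 LD2_c21 LD3_c52) Lrfl Lrfl
theorem f68664 : Led Lsl_et (LP (LK LD1_c1 LD2_c21 LD3_c52)) = (LP (LK LD1_c2 LD2_c51 LD3_c39)) :=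
  Lre_e IH (LK LD1_c1 LD2_c21 LD3_c52) (LK LD1_c2 LD2_c51 LD3_c39) Lrfl Lrfl
theorem f225935 : Led Lsl_et (LP (LK LD1_c2 LD2_c47 LD3_c1)) = (LP (LK LD1_c1 LD2_c19 LD3_c54)) :=
  Lre_e IH (LK LD1_c2 LD2_c47 LD3_c1) (LK LD1_c1 LD2_c19 LD3_c54) Lrfl Lrfl
theorem f226014 : Led Lsl_dt (LP (LK LD1_c2 LD2_c51 LD3_c39)) = (LP (LK LD1_c2 LD2_c47 LD3_c1)) :=
  Lgr Lrot77 (Lpe (f68664 IH) (Lpe (K11.f68654 IH) (Lpr_ef (K12.f226010 IH) (Lpe (K12.f225926 IH) (Lpe (f225935 IH) (Lpn (LP (LK LD1_c2 LD2_c47 LD3_c1))))))))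
theorem f225977 : Led Lsl_dt (LP (LK LD1_c11 LD2_c14 LD3_c27)) = (LP (LK LD1_c5 LD2_c42 LD3_c4)) :=
  Lre_d IH (LK LD1_c11 LD2_c14 LD3_c27) (LK LD1_c5 LD2_c42 LD3_c4) Lrfl Lrfl
theorem f494571 : Led Lsl_et (LP (LK LD1_c11 LD2_c14 LD3_c27)) = (LP (LK LD1_c11 LD2_c49 LD3_c31)) :=
  Lgr Lrot121 (Lpr_dt (f225977 IH) (Lpe (K17.f225937 IH) (Lpe (f226014 IH) (Lpr_et (f204842 IH) (Lpr_gf (f302480 IH) (Lpe (K30.f22167 IH) (Lpr_dt (f494555 IH) (Lpe (f268364 IH) (Lpe (f494568 IH) (Lpe (f494570 IH) (Lpn (LP (LK LD1_c11 LD2_c49 LD3_c31)))))))))))))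
theorem f494575 : Led Lsl_ef (LP (LK LD1_c11 LD2_c14 LD3_c27)) = (LP (LK LD1_c11 LD2_c49 LD3_c31)) :=
  Lgr Lrot88 (Lpr_et (f494571 IH) (Lpn (LP (LK LD1_c11 LD2_c49 LD3_c31))))
theorem f225976 : Led Lsl_et (LP (LK LD1_c5 LD2_c42 LD3_c4)) = (LP (LK LD1_c11 LD2_c14 LD3_c28)) :=
  Lre_e IH (LK LD1_c5 LD2_c42 LD3_c4) (LK LD1_c11 LD2_c14 LD3_c28) Lrfl Lrfl
theorem f225978 : Led Lsl_et (LP (LK LD1_c5 LD2_c46 LD3_c19)) = (LP (LK LD1_c11 LD2_c22 LD3_c55)) :=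
  Lre_e IH (LK LD1_c5 LD2_c46 LD3_c19) (LK LD1_c11 LD2_c22 LD3_c55) Lrfl Lrfl
theorem f494577 : Led Lsl_dt (LP (LK LD1_c11 LD2_c22 LD3_c55)) = (LP (LK LD1_c11 LD2_c49 LD3_c31)) :=
  Lgr Lrot77 (Lpe (f225978 IH) (Lpe (K17.f225942 IH) (Lpe (f225976 IH) (Lpe (f225977 IH) (Lpr_ef (f494575 IH) (Lpn (LP (LK LD1_c11 LD2_c49 LD3_c31))))))))
theorem f225987 : Led Lsl_et (LP (LK LD1_c11 LD2_c22 LD3_c55)) = (LP (LK LD1_c5 LD2_c46 LD3_c19)) :=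
  Lre_e IH (LK LD1_c11 LD2_c22 LD3_c55) (LK LD1_c5 LD2_c46 LD3_c19) Lrfl Lrfl
theorem f68692 : Led Lsl_et (LP (LK LD1_c1 LD2_c36 LD3_c51)) = (LP (LK LD1_c3 LD2_c21 LD3_c12)) :=
  Lre_e IH (LK LD1_c1 LD2_c36 LD3_c51) (LK LD1_c3 LD2_c21 LD3_c12) Lrfl Lrfl
theorem f494584 : Led Lsl_ef (LP (LK LD1_c4 LD2_c49 LD3_c18)) = (LP (LK LD1_c9 LD2_c14 LD3_c17)) :=
  Lgr Lrot167 (Lpr_gt (K24.f77037 IH) (Lpr_dt (K24.f27128 IH) (Lpr_gt (K0.f27113 IH) (Lpe (K17.f68691 IH) (Lpr_et (f68692 IH) (Lpr_gt (K17.f9322 IH) (Lpe (f225987 IH) (Lpr_dt (f494577 IH) (Lpr_gt (f494570 IH) (Lpr_df (f494580 IH) (Lpn (LP (LK LD1_c9 LD2_c14 LD3_c17)))))))))))))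
theorem f416730 : Led Lsl_et (LP (LK LD1_c0 LD2_c39 LD3_c0)) = (LP (LK LD1_c1 LD2_c8 LD3_c23)) :=
  Lre_e IH (LK LD1_c0 LD2_c39 LD3_c0) (LK LD1_c1 LD2_c8 LD3_c23) Lrfl Lrfl
theorem f186206 : Led Lsl_et (LP (LK LD1_c1 LD2_c24 LD3_c39)) = (LP (LK LD1_c2 LD2_c57 LD3_c57)) :=
  Lre_e IH (LK LD1_c1 LD2_c24 LD3_c39) (LK LD1_c2 LD2_c57 LD3_c57) Lrfl Lrfl
theorem f268347 : Led Lsl_gt (LP (LK LD1_c6 LD2_c3 LD3_c39)) = (LP (LK LD1_c2 LD2_c57 LD3_c57)) :=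
  Lre_g IH (LK LD1_c6 LD2_c3 LD3_c39) (LK LD1_c2 LD2_c57 LD3_c57) Lrfl Lrfl
theorem f416731 : Led Lsl_ef (LP (LK LD1_c6 LD2_c3 LD3_c39)) = (LP (LK LD1_c3 LD2_c20 LD3_c48)) :=
  Lgr Lrot114 (Lpr_gt (f268347 IH) (Lpe (f186206 IH) (Lpr_dt (K10.f175571 IH) (Lpr_gt (K9.f9392 IH) (Lpe (K0.f9351 IH) (Lpr_et (f416730 IH) (Lpr_gt (K24.f76939 IH) (Lpr_dt (K24.f73939 IH) (Lpr_gt (K24.f416726 IH) (Lpe (K24.f415146 IH) (Lpn (LP (LK LD1_c3 LD2_c20 LD3_c48)))))))))))))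
theorem f508093 : Led Lsl_af (LP (LK LD1_c9 LD2_c14 LD3_c17)) = (LP (LK LD1_c6 LD2_c3 LD3_c39)) :=
  Lgr Lrot50 (Lpe (f494584 IH) (Lpr_at (f508087 IH) (Lpe (f416731 IH) (Lpn (LP (LK LD1_c6 LD2_c3 LD3_c39))))))
theorem f508172 : Led Lsl_df (LP (LK LD1_c6 LD2_c3 LD3_c39)) = (LP (LK LD1_c9 LD2_c13 LD3_c39)) :=
  Lgr Lrot18 (Lpe (f508093 IH) (Lpe (f494580 IH) (Lpr_at (f508158 IH) (Lpn (LP (LK LD1_c9 LD2_c13 LD3_c39))))))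
theorem f416734 : Led Lsl_et (LP (LK LD1_c6 LD2_c3 LD3_c39)) = (LP (LK LD1_c3 LD2_c20 LD3_c48)) :=
  Lgr Lrot87 (Lpr_ef (f416731 IH) (Lpn (LP (LK LD1_c3 LD2_c20 LD3_c48))))
theorem f416530 : Led Lsl_et (LP (LK LD1_c2 LD2_c15 LD3_c0)) = (LP (LK LD1_c4 LD2_c35 LD3_c43)) :=
  Lre_e IH (LK LD1_c2 LD2_c15 LD3_c0) (LK LD1_c4 LD2_c35 LD3_c43) Lrfl Lrfl
def v1637 : LQ := Led Lsl_ft (LP (LK LD1_c1 LD2_c22 LD3_c58))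
theorem f500479 : Led Lsl_ft (LP (LK LD1_c1 LD2_c22 LD3_c58)) = v1637 :=
  Lrfl
theorem f500482 : Led Lsl_ff (LP (LK LD1_c1 LD2_c22 LD3_c58)) = v1637 :=
  Lgr Lrot3 (Lpr_ft (f500479 IH) (Lpn v1637))
theorem f435600 : Led Lsl_cf (LP (LK LD1_c0 LD2_c43 LD3_c41)) = (LP (LK LD1_c1 LD2_c22 LD3_c58)) :=
  Lgr Lrot11 (Lpr_ct (f435590 IH) (Lpn (LP (LK LD1_c1 LD2_c22 LD3_c58))))
def v521 : LQ := Led Lsl_ft (LP (LK LD1_c0 LD2_c43 LD3_c41))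
theorem f453760 : Led Lsl_ft (LP (LK LD1_c0 LD2_c43 LD3_c41)) = v521 :=
  Lrfl
theorem f500484 : Led Lsl_ct v521 = v1637 :=
  Lgr Lrot40 (Lpe (f453760 IH) (Lpr_cf (f435600 IH) (Lpr_ff (f500482 IH) (Lpn v1637))))
theorem f446184 : Led Lsl_et (LP (LK LD1_c1 LD2_c7 LD3_c25)) = (LP (LK LD1_c2 LD2_c20 LD3_c16)) :=
  Lre_e IH (LK LD1_c1 LD2_c7 LD3_c25) (LK LD1_c2 LD2_c20 LD3_c16) Lrfl Lrfl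
theorem f414532 : Led Lsl_et (LP (LK LD1_c4 LD2_c35 LD3_c43)) = (LP (LK LD1_c2 LD2_c15 LD3_c0)) :=
  Lre_e IH (LK LD1_c4 LD2_c35 LD3_c43) (LK LD1_c2 LD2_c15 LD3_c0) Lrfl Lrfl
theorem f446191 : Led Lsl_cf (LP (LK LD1_c1 LD2_c7 LD3_c25)) = (LP (LK LD1_c2 LD2_c15 LD3_c0)) :=
  Lgr Lrot39 (Lpr_et (f446184 IH) (Lpr_ct (K32.f446180 IH) (Lpr_et (f414532 IH) (Lpn (LP (LK LD1_c2 LD2_c15 LD3_c0))))))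
theorem f446201 : Led Lsl_ct (LP (LK LD1_c1 LD2_c7 LD3_c25)) = (LP (LK LD1_c2 LD2_c15 LD3_c0)) :=
  Lgr Lrot59 (Lpr_cf (f446191 IH) (Lpn (LP (LK LD1_c2 LD2_c15 LD3_c0))))
theorem f494908 : Led Lsl_af (LP (LK LD1_c1 LD2_c7 LD3_c25)) = K32.v1336 :=
  Lgr Lrot45 (Lpr_ft (K32.f494901 IH) (Lpe (K32.f494900 IH) (Lpr_ft (K32.f494907 IH) (Lpn K32.v1336))))
theorem f453762 : Led Lsl_ff (LP (LK LD1_c0 LD2_c43 LD3_c41)) = v521 :=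
  Lgr Lrot3 (Lpr_ft (f453760 IH) (Lpn v521))
theorem f453763 : Led Lsl_at (LP (LK LD1_c0 LD2_c43 LD3_c42)) = v521 :=
  Lgr Lrot66 (Lpr_ff (K32.f453757 IH) (Lpe (K32.f453754 IH) (Lpr_ff (f453762 IH) (Lpn v521))))
theorem f507937 : (LP (LK LD1_c1 LD2_c7 LD3_c25)) = v521 :=
  Lefun (Lecon (Lfl_af (f494908 IH)) (K32.f507936 IH)) (f453763 IH)
theorem f507948 : v1637 = (LP (LK LD1_c2 LD2_c15 LD3_c0)) :=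
  Lefun (Lecon (f500484 IH) (f507937 IH).symm) (f446201 IH)
theorem f204649 : Led Lsl_et (LP (LK LD1_c2 LD2_c53 LD3_c58)) = (LP (LK LD1_c1 LD2_c22 LD3_c58)) :=
  Lre_e IH (LK LD1_c2 LD2_c53 LD3_c58) (LK LD1_c1 LD2_c22 LD3_c58) Lrfl Lrfl
theorem f435592 : Led Lsl_ft (LP (LK LD1_c5 LD2_c55 LD3_c15)) = (LP (LK LD1_c2 LD2_c53 LD3_c58)) :=
  Lre_f IH (LK LD1_c5 LD2_c55 LD3_c15) (LK LD1_c2 LD2_c53 LD3_c58) Lrfl Lrfl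
theorem f508127 : Led Lsl_ef (LP (LK LD1_c5 LD2_c55 LD3_c15)) = (LP (LK LD1_c6 LD2_c45 LD3_c29)) :=
  Lgr Lrot21 (Lpr_ft (f435592 IH) (Lpr_et (f204649 IH) (Lpr_ft (f500479 IH) (Lpqs (f507948 IH) (Lpr_et (f416530 IH) (Lpr_ft (f508121 IH) (Lpn (LP (LK LD1_c6 LD2_c45 LD3_c29)))))))))
theorem f508179 : Led Lsl_dt (LP (LK LD1_c5 LD2_c55 LD3_c15)) = (LP (LK LD1_c4 LD2_c38 LD3_c57)) :=
  Lgr Lrot77 (Lpr_ef (f508127 IH) (Lpe (K24.f415146 IH) (Lpe (f416734 IH) (Lpr_df (f508172 IH) (Lpe (f508155 IH) (Lpn (LP (LK LD1_c4 LD2_c38 LD3_c57))))))))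
theorem f204252 : Led Lsl_ct (LP (LK LD1_c2 LD2_c57 LD3_c29)) = (LP (LK LD1_c6 LD2_c2 LD3_c48)) :=
  Lre_c IH (LK LD1_c2 LD2_c57 LD3_c29) (LK LD1_c6 LD2_c2 LD3_c48) Lrfl Lrfl
theorem f204315 : Led Lsl_af (LP (LK LD1_c2 LD2_c57 LD3_c29)) = (LP (LK LD1_c4 LD2_c38 LD3_c60)) :=
  Lgr Lrot68 (Lpr_ct (f204252 IH) (Lpr_at (K11.f204305 IH) (Lpr_ct (K11.f61101 IH) (Lpn (LP (LK LD1_c4 LD2_c38 LD3_c60))))))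
theorem f419082 : Led Lsl_gf (LP (LK LD1_c2 LD2_c57 LD3_c29)) = (LP (LK LD1_c4 LD2_c38 LD3_c57)) :=
  Lgr Lrot76 (Lpr_af (f204315 IH) (Lpe (K11.f104842 IH) (Lpr_gt (f27078 IH) (Lpn (LP (LK LD1_c4 LD2_c38 LD3_c57))))))
theorem f508242 : Led Lsl_gf (LP (LK LD1_c5 LD2_c55 LD3_c15)) = (LP (LK LD1_c3 LD2_c2 LD3_c38)) :=
  Lgr Lrot138 (Lpr_dt (f508179 IH) (Lpe (f419082 IH) (Lpe (K29.f204244 IH) (Lpe (K11.f204489 IH) (Lpr_gt (K17.f210113 IH) (Lpe (K16.f59824 IH) (Lpr_dt (K16.f59825 IH) (Lpe (K16.f413430 IH) (Lpe (K17.f141019 IH) (Lpr_et (K32.f413437 IH) (Lpn (LP (LK LD1_c3 LD2_c2 LD3_c38)))))))))))))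
theorem f504511 : Led Lsl_cf (LP (LK LD1_c3 LD2_c2 LD3_c38)) = K32.v1842 :=
  Lgr Lrot39 (Lpr_et (K32.f59891 IH) (Lpe (K17.f414630 IH) (Lpr_et (K32.f504510 IH) (Lpn K32.v1842))))
theorem f535762 : Led Lsl_gf K32.v1842 = v2819 :=
  Lgr Lrot147 (Lpe (f504511 IH) (Lpe (f508242 IH) (Lpr_ct (f508256 IH) (Lpe (K29.f416807 IH) (Lpr_cf (f435393 IH) (Lpe (K32.f153525 IH) (Lpe (f82832 IH) (Lpe (K32.f61083 IH) (Lpr_df (f535760 IH) (Lpn v2819))))))))))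
theorem f79853 : Led Lsl_dt (LP (LK LD1_c3 LD2_c8 LD3_c43)) = (LP (LK LD1_c1 LD2_c30 LD3_c30)) :=
  Lre_d IH (LK LD1_c3 LD2_c8 LD3_c43) (LK LD1_c1 LD2_c30 LD3_c30) Lrfl Lrfl
theorem f73797 : Led Lsl_et (LP (LK LD1_c2 LD2_c52 LD3_c4)) = (LP (LK LD1_c2 LD2_c49 LD3_c30)) :=
  Lgr Lrot123 (Lpr_af (K2.f73598 IH) (Lpr_ef (K2.f73794 IH) (Lpe (K16.f73649 IH) (Lpn (LP (LK LD1_c2 LD2_c49 LD3_c30))))))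
theorem f438611 : Led Lsl_et (LP (LK LD1_c1 LD2_c30 LD3_c30)) = (LP (LK LD1_c3 LD2_c8 LD3_c44)) :=
  Lre_e IH (LK LD1_c1 LD2_c30 LD3_c30) (LK LD1_c3 LD2_c8 LD3_c44) Lrfl Lrfl
theorem f79856 : Led Lsl_dt (LP (LK LD1_c1 LD2_c30 LD3_c30)) = (LP (LK LD1_c3 LD2_c8 LD3_c43)) :=
  Lre_d IH (LK LD1_c1 LD2_c30 LD3_c30) (LK LD1_c3 LD2_c8 LD3_c43) Lrfl Lrfl
theorem f504807 : Led Lsl_gt (LP (LK LD1_c6 LD2_c21 LD3_c40)) = (LP (LK LD1_c3 LD2_c8 LD3_c43)) :=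
  Lgr Lrot112 (Lpr_df (K32.f438484 IH) (Lpr_et (K32.f414317 IH) (Lpe (K17.f414299 IH) (Lpe (f73797 IH) (Lpe (K32.f79673 IH) (Lpe (K32.f55715 IH) (Lpr_df (K32.f504799 IH) (Lpe (K32.f79843 IH) (Lpe (f438611 IH) (Lpr_dt (f79856 IH) (Lpn (LP (LK LD1_c3 LD2_c8 LD3_c43)))))))))))))
theorem f535796 : Led Lsl_gt (LP (LK LD1_c2 LD2_c52 LD3_c12)) = (LP (LK LD1_c4 LD2_c41 LD3_c15)) :=
  Lgr Lrot94 (Lpr_cf (f535793 IH) (Lpe (f535762 IH) (Lpe (K32.f504512 IH) (Lpe (K32.f444111 IH) (Lpr_dt (K32.f67107 IH) (Lpe (K31.f79855 IH) (Lpe (f79853 IH) (Lpe (f504807 IH) (Lpr_df (K32.f438484 IH) (Lpn (LP (LK LD1_c4 LD2_c41 LD3_c15))))))))))))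
theorem f535797 : Led Lsl_gt (LP (LK LD1_c2 LD2_c52 LD3_c12)) = (LP (LK LD1_c4 LD2_c41 LD3_c15)) :=
  Leop (Lpe (f535796 IH) (Lpn (LP (LK LD1_c2 LD2_c52 LD3_c12))))
theorem seed_238 : LEOK LG_g (LK LD1_c2 LD2_c52 LD3_c12) :=
  Leoe_g (LK LD1_c2 LD2_c52 LD3_c12) (f535797 IH)
def v383 : LQ := Led Lsl_gf (LP (LK LD1_c0 LD2_c36 LD3_c52))
def v2891 : LQ := Led Lsl_bt v383
theorem f536093 : Led Lsl_bt v383 = v2891 :=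
  Lrfl
theorem f536094 : Led Lsl_bf v383 = v2891 :=
  Lgr Lrot24 (Lpr_bt (f536093 IH) (Lpn v2891))
theorem f452546 : Led Lsl_gf (LP (LK LD1_c0 LD2_c36 LD3_c52)) = v383 :=
  Lrfl
theorem f381977 : Led Lsl_gt (LP (LK LD1_c1 LD2_c20 LD3_c9)) = (LP (LK LD1_c2 LD2_c47 LD3_c40)) :=
  Lre_g IH (LK LD1_c1 LD2_c20 LD3_c9) (LK LD1_c2 LD2_c47 LD3_c40) Lrfl Lrfl
theorem f536095 : Led Lsl_cf (LP (LK LD1_c2 LD2_c47 LD3_c40)) = v2891 :=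
  Lgr Lrot163 (Lpe (f381977 IH) (Lpe (K27.f181477 IH) (Lpe (K27.f76147 IH) (Lpe (K27.f171857 IH) (Lpr_ct (K9.f165203 IH) (Lpe (K0.f9501 IH) (Lpe (K9.f171768 IH) (Lpr_bt (K24.f255551 IH) (Lpr_gf (f452546 IH) (Lpr_bf (f536094 IH) (Lpn v2891)))))))))))
theorem f536096 : Led Lsl_ct (LP (LK LD1_c2 LD2_c47 LD3_c40)) = v2891 :=
  Lgr Lrot59 (Lpr_cf (f536095 IH) (Lpn v2891))
theorem f226539 : Led Lsl_bt (LP (LK LD1_c0 LD2_c36 LD3_c39)) = (LP (LK LD1_c1 LD2_c19 LD3_c22)) :=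
  Lre_b IH (LK LD1_c0 LD2_c36 LD3_c39) (LK LD1_c1 LD2_c19 LD3_c22) Lrfl Lrfl
theorem f354488 : Led Lsl_gt (LP (LK LD1_c2 LD2_c45 LD3_c60)) = (LP (LK LD1_c1 LD2_c19 LD3_c22)) :=
  Lre_g IH (LK LD1_c2 LD2_c45 LD3_c60) (LK LD1_c1 LD2_c19 LD3_c22) Lrfl Lrfl
theorem f424388 : Led Lsl_bt (LP (LK LD1_c5 LD2_c40 LD3_c4)) = (LP (LK LD1_c2 LD2_c45 LD3_c60)) :=
  Lre_b IH (LK LD1_c5 LD2_c40 LD3_c4) (LK LD1_c2 LD2_c45 LD3_c60) Lrfl Lrfl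
theorem f172141 : Led Lsl_bt (LP (LK LD1_c0 LD2_c16 LD3_c33)) = (LP (LK LD1_c0 LD2_c37 LD3_c6)) :=
  Lre_b IH (LK LD1_c0 LD2_c16 LD3_c33) (LK LD1_c0 LD2_c37 LD3_c6) Lrfl Lrfl
theorem f424389 : Led Lsl_ct (LP (LK LD1_c5 LD2_c40 LD3_c4)) = (LP (LK LD1_c5 LD2_c44 LD3_c13)) :=
  Lgr Lrot63 (Lpr_bt (f424388 IH) (Lpr_gt (f354488 IH) (Lpe (f226539 IH) (Lpr_ct (K9.f172139 IH) (Lpr_gt (K9.f44741 IH) (Lpe (K9.f168229 IH) (Lpr_bt (f172141 IH) (Lpr_gt (K27.f75568 IH) (Lpr_ct (K27.f381609 IH) (Lpr_gt (K27.f381606 IH) (Lpn (LP (LK LD1_c5 LD2_c44 LD3_c13)))))))))))))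
theorem f424395 : Led Lsl_cf (LP (LK LD1_c5 LD2_c40 LD3_c4)) = (LP (LK LD1_c5 LD2_c44 LD3_c13)) :=
  Lgr Lrot11 (Lpr_ct (f424389 IH) (Lpn (LP (LK LD1_c5 LD2_c44 LD3_c13))))
theorem f536099 : Led Lsl_df (LP (LK LD1_c5 LD2_c40 LD3_c4)) = v2891 :=
  Lgr Lrot162 (Lpr_cf (f424395 IH) (Lpe (K27.f381606 IH) (Lpe (K27.f381609 IH) (Lpe (K27.f75568 IH) (Lpr_dt (K27.f168866 IH) (Lpr_gt (K27.f76147 IH) (Lpr_ct (K27.f181477 IH) (Lpr_gt (f381977 IH) (Lpr_ct (f536096 IH) (Lpn v2891))))))))))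
theorem f168873 : Led Lsl_gt (LP (LK LD1_c2 LD2_c47 LD3_c40)) = (LP (LK LD1_c1 LD2_c20 LD3_c13)) :=
  Lre_g IH (LK LD1_c2 LD2_c47 LD3_c40) (LK LD1_c1 LD2_c20 LD3_c13) Lrfl Lrfl
theorem f382074 : Led Lsl_gt (LP (LK LD1_c7 LD2_c59 LD3_c13)) = (LP (LK LD1_c3 LD2_c58 LD3_c59)) :=
  Lre_g IH (LK LD1_c7 LD2_c59 LD3_c13) (LK LD1_c3 LD2_c58 LD3_c59) Lrfl Lrfl
theorem f174558 : Led Lsl_bt (LP (LK LD1_c1 LD2_c56 LD3_c14)) = (LP (LK LD1_c3 LD2_c58 LD3_c58)) :=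
  Lre_b IH (LK LD1_c1 LD2_c56 LD3_c14) (LK LD1_c3 LD2_c58 LD3_c58) Lrfl Lrfl
theorem f536097 : Led Lsl_gt (LP (LK LD1_c3 LD2_c58 LD3_c58)) = v2891 :=
  Lgr Lrot82 (Lpe (f174558 IH) (Lpr_ct (K30.f174535 IH) (Lpe (f382074 IH) (Lpr_cf (K31.f382072 IH) (Lpe (K31.f382054 IH) (Lpe (K31.f381831 IH) (Lpe (K30.f381700 IH) (Lpr_ct (K27.f381201 IH) (Lpe (f168873 IH) (Lpr_cf (f536095 IH) (Lpn v2891)))))))))))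
def v1383 : LQ := Led Lsl_gt (LP (LK LD1_c1 LD2_c10 LD3_c35))
theorem f495247 : Led Lsl_gt (LP (LK LD1_c1 LD2_c10 LD3_c35)) = v1383 :=
  Lrfl
theorem f100563 : Led Lsl_gt (LP (LK LD1_c1 LD2_c56 LD3_c14)) = (LP (LK LD1_c3 LD2_c58 LD3_c56)) :=
  Lre_g IH (LK LD1_c1 LD2_c56 LD3_c14) (LK LD1_c3 LD2_c58 LD3_c56) Lrfl Lrfl
theorem f174533 : Led Lsl_bt (LP (LK LD1_c3 LD2_c58 LD3_c58)) = (LP (LK LD1_c1 LD2_c56 LD3_c14)) :=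
  Lre_b IH (LK LD1_c3 LD2_c58 LD3_c58) (LK LD1_c1 LD2_c56 LD3_c14) Lrfl Lrfl
theorem f495249 : Led Lsl_ct (LP (LK LD1_c3 LD2_c58 LD3_c58)) = v1383 :=
  Lgr Lrot63 (Lpr_bt (f174533 IH) (Lpr_gt (f100563 IH) (Lpr_bf (K7.f40166 IH) (Lpr_ct (K31.f40168 IH) (Lpr_gt (K27.f381390 IH) (Lpe (K27.f168869 IH) (Lpe (K27.f381687 IH) (Lpr_gt (K27.f381676 IH) (Lpr_ct (K1.f40115 IH) (Lpr_gt (f495247 IH) (Lpn v1383)))))))))))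
theorem f495250 : Led Lsl_cf (LP (LK LD1_c3 LD2_c58 LD3_c58)) = v1383 :=
  Lgr Lrot11 (Lpr_ct (f495249 IH) (Lpn v1383))
theorem f444697 : Led Lsl_ft (LP (LK LD1_c1 LD2_c10 LD3_c35)) = (LP (LK LD1_c2 LD2_c26 LD3_c27)) :=
  Lre_f IH (LK LD1_c1 LD2_c10 LD3_c35) (LK LD1_c2 LD2_c26 LD3_c27) Lrfl Lrfl
theorem f495248 : Led Lsl_gf (LP (LK LD1_c1 LD2_c10 LD3_c37)) = v1383 :=
  Lgr Lrot76 (Lpe (K9.f40162 IH) (Lpe (f444697 IH) (Lpr_gt (f495247 IH) (Lpn v1383))))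
theorem f140347 : Led Lsl_dt (LP (LK LD1_c1 LD2_c10 LD3_c37)) = (LP (LK LD1_c2 LD2_c26 LD3_c42)) :=
  Lre_d IH (LK LD1_c1 LD2_c10 LD3_c37) (LK LD1_c2 LD2_c26 LD3_c42) Lrfl Lrfl
theorem f427522 : Led Lsl_df (LP (LK LD1_c2 LD2_c44 LD3_c40)) = (LP (LK LD1_c4 LD2_c57 LD3_c27)) :=
  Lgr Lrot38 (Lpr_dt (K32.f427517 IH) (Lpn (LP (LK LD1_c4 LD2_c57 LD3_c27))))
theorem f210373 : Led Lsl_ct (LP (LK LD1_c5 LD2_c37 LD3_c27)) = (LP (LK LD1_c2 LD2_c44 LD3_c40)) :=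
  Lre_c IH (LK LD1_c5 LD2_c37 LD3_c27) (LK LD1_c2 LD2_c44 LD3_c40) Lrfl Lrfl
theorem f383972 : Led Lsl_dt (LP (LK LD1_c11 LD2_c6 LD3_c36)) = (LP (LK LD1_c5 LD2_c37 LD3_c27)) :=
  Lre_d IH (LK LD1_c11 LD2_c6 LD3_c36) (LK LD1_c5 LD2_c37 LD3_c27) Lrfl Lrfl
theorem f536101 : Led Lsl_gt (LP (LK LD1_c5 LD2_c40 LD3_c4)) = (LP (LK LD1_c11 LD2_c6 LD3_c36)) :=
  Lgr Lrot49 (Lpr_df (f536099 IH) (Lpe (f536097 IH) (Lpr_cf (f495250 IH) (Lpe (f495248 IH) (Lpr_dt (f140347 IH) (Lpr_gt (K9.f40772 IH) (Lpe (f427522 IH) (Lpe (f210373 IH) (Lpe (f383972 IH) (Lpn (LP (LK LD1_c11 LD2_c6 LD3_c36))))))))))))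
theorem f536102 : Led Lsl_gt (LP (LK LD1_c5 LD2_c40 LD3_c4)) = (LP (LK LD1_c11 LD2_c6 LD3_c36)) :=
  Leop (Lpe (f536101 IH) (Lpn (LP (LK LD1_c5 LD2_c40 LD3_c4))))
theorem seed_239 : LEOK LG_g (LK LD1_c5 LD2_c40 LD3_c4) :=
  Leoe_g (LK LD1_c5 LD2_c40 LD3_c4) (f536102 IH)
def v434 : LQ := Led Lsl_ct (LP (LK LD1_c0 LD2_c38 LD3_c13))
def v2998 : LQ := Led Lsl_gf v434
theorem f536424 : Led Lsl_gf v434 = v2998 :=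
  Lrfl
theorem f452805 : Led Lsl_ct (LP (LK LD1_c0 LD2_c38 LD3_c13)) = v434 :=
  Lrfl
theorem f436303 : Led Lsl_bt (LP (LK LD1_c0 LD2_c38 LD3_c13)) = (LP (LK LD1_c1 LD2_c22 LD3_c20)) :=
  Lre_b IH (LK LD1_c0 LD2_c38 LD3_c13) (LK LD1_c1 LD2_c22 LD3_c20) Lrfl Lrfl
theorem f452779 : Led Lsl_gt (LP (LK LD1_c1 LD2_c22 LD3_c20)) = (LP (LK LD1_c2 LD2_c52 LD3_c34)) :=
  Lre_g IH (LK LD1_c1 LD2_c22 LD3_c20) (LK LD1_c2 LD2_c52 LD3_c34) Lrfl Lrfl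
theorem f452807 : Led Lsl_bt (LP (LK LD1_c5 LD2_c52 LD3_c35)) = (LP (LK LD1_c2 LD2_c52 LD3_c34)) :=
  Lre_b IH (LK LD1_c5 LD2_c52 LD3_c35) (LK LD1_c2 LD2_c52 LD3_c34) Lrfl Lrfl
theorem f452808 : Led Lsl_ct (LP (LK LD1_c5 LD2_c52 LD3_c35)) = (LP (LK LD1_c11 LD2_c31 LD3_c39)) :=
  Lre_c IH (LK LD1_c5 LD2_c52 LD3_c35) (LK LD1_c11 LD2_c31 LD3_c39) Lrfl Lrfl
theorem f452806 : Led Lsl_cf (LP (LK LD1_c0 LD2_c38 LD3_c13)) = v434 :=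
  Lgr Lrot11 (Lpr_ct (f452805 IH) (Lpn v434))
theorem f24420 : Led Lsl_dt (LP (LK LD1_c0 LD2_c38 LD3_c13)) = (LP (LK LD1_c0 LD2_c17 LD3_c1)) :=
  Lre_d IH (LK LD1_c0 LD2_c38 LD3_c13) (LK LD1_c0 LD2_c17 LD3_c1) Lrfl Lrfl
def v441 : LQ := Led Lsl_gf (LP (LK LD1_c0 LD2_c38 LD3_c34))
theorem f452841 : Led Lsl_gf (LP (LK LD1_c0 LD2_c38 LD3_c34)) = v441 :=
  Lrfl
theorem f71431 : Led Lsl_at (LP (LK LD1_c1 LD2_c4 LD3_c47)) = (LP (LK LD1_c0 LD2_c38 LD3_c34)) :=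
  Lgr Lrot100 (Lpr_af (K2.f71417 IH) (Lpn (LP (LK LD1_c0 LD2_c38 LD3_c34))))
theorem f71481 : Led Lsl_ft (LP (LK LD1_c2 LD2_c15 LD3_c29)) = (LP (LK LD1_c1 LD2_c4 LD3_c47)) :=
  Lre_f IH (LK LD1_c2 LD2_c15 LD3_c29) (LK LD1_c1 LD2_c4 LD3_c47) Lrfl Lrfl
theorem f452842 : Led Lsl_gt (LP (LK LD1_c2 LD2_c15 LD3_c29)) = v441 :=
  Lgr Lrot5 (Lpr_ft (f71481 IH) (Lpr_at (f71431 IH) (Lpr_gf (f452841 IH) (Lpn v441))))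
theorem f536425 : Led Lsl_ct v441 = v2998 :=
  Lgr Lrot152 (Lpe (f452842 IH) (Lpe (K10.f71294 IH) (Lpr_gt (K10.f71452 IH) (Lpr_ct (K10.f24429 IH) (Lpr_gt (K9.f24221 IH) (Lpr_ct (K11.f24244 IH) (Lpe (f24420 IH) (Lpr_cf (f452806 IH) (Lpr_gf (f536424 IH) (Lpn v2998))))))))))
theorem f71409 : Led Lsl_bt (LP (LK LD1_c4 LD2_c36 LD3_c28)) = (LP (LK LD1_c2 LD2_c15 LD3_c29)) :=
  Lre_b IH (LK LD1_c4 LD2_c36 LD3_c28) (LK LD1_c2 LD2_c15 LD3_c29) Lrfl Lrfl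
theorem f202661 : Led Lsl_ct (LP (LK LD1_c4 LD2_c36 LD3_c28)) = (LP (LK LD1_c9 LD2_c9 LD3_c3)) :=
  Lre_c IH (LK LD1_c4 LD2_c36 LD3_c28) (LK LD1_c9 LD2_c9 LD3_c3) Lrfl Lrfl
theorem f536426 : Led Lsl_gt (LP (LK LD1_c11 LD2_c31 LD3_c39)) = (LP (LK LD1_c9 LD2_c9 LD3_c3)) :=
  Lgr Lrot65 (Lpe (f452808 IH) (Lpr_bt (f452807 IH) (Lpe (f452779 IH) (Lpe (f436303 IH) (Lpr_ct (f452805 IH) (Lpr_gf (f536424 IH) (Lpe (f536425 IH) (Lpe (f452842 IH) (Lpe (f71409 IH) (Lpr_ct (f202661 IH) (Lpn (LP (LK LD1_c9 LD2_c9 LD3_c3)))))))))))))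
theorem f536427 : Led Lsl_gt (LP (LK LD1_c11 LD2_c31 LD3_c39)) = (LP (LK LD1_c9 LD2_c9 LD3_c3)) :=
  Leop (Lpe (f536426 IH) (Lpn (LP (LK LD1_c11 LD2_c31 LD3_c39))))
theorem seed_240 : LEOK LG_g (LK LD1_c11 LD2_c31 LD3_c39) :=
  Leoe_g (LK LD1_c11 LD2_c31 LD3_c39) (f536427 IH)
def v449 : LQ := Led Lsl_et (LP (LK LD1_c0 LD2_c38 LD3_c61))
def v3034 : LQ := Led Lsl_dt v449
theorem f536558 : Led Lsl_dt v449 = v3034 :=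
  Lrfl
theorem f452909 : Led Lsl_et (LP (LK LD1_c0 LD2_c38 LD3_c61)) = v449 :=
  Lrfl
theorem f452911 : Led Lsl_ef (LP (LK LD1_c0 LD2_c38 LD3_c61)) = v449 :=
  Lgr Lrot88 (Lpr_et (f452909 IH) (Lpn v449))
theorem f536563 : Led Lsl_gt (LP (LK LD1_c2 LD2_c14 LD3_c19)) = v3034 :=
  Lgr Lrot112 (Lpe (K10.f20500 IH) (Lpe (K10.f20483 IH) (Lpe (K10.f185149 IH) (Lpr_ef (K10.f185131 IH) (Lpe (K10.f175693 IH) (Lpe (K10.f175573 IH) (Lpe (K0.f9347 IH) (Lpe (K9.f9392 IH) (Lpr_ef (f452911 IH) (Lpr_dt (f536558 IH) (Lpn v3034)))))))))))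
theorem f20512 : Led Lsl_et (LP (LK LD1_c4 LD2_c34 LD3_c41)) = (LP (LK LD1_c2 LD2_c14 LD3_c19)) :=
  Lre_e IH (LK LD1_c4 LD2_c34 LD3_c41) (LK LD1_c2 LD2_c14 LD3_c19) Lrfl Lrfl
theorem f20499 : Led Lsl_et (LP (LK LD1_c2 LD2_c33 LD3_c37)) = (LP (LK LD1_c1 LD2_c13 LD3_c45)) :=
  Lre_e IH (LK LD1_c2 LD2_c33 LD3_c37) (LK LD1_c1 LD2_c13 LD3_c45) Lrfl Lrfl
theorem f20501 : Led Lsl_et (LP (LK LD1_c2 LD2_c14 LD3_c19)) = (LP (LK LD1_c4 LD2_c34 LD3_c41)) :=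
  Lre_e IH (LK LD1_c2 LD2_c14 LD3_c19) (LK LD1_c4 LD2_c34 LD3_c41) Lrfl Lrfl
theorem f20502 : Led Lsl_df (LP (LK LD1_c2 LD2_c33 LD3_c37)) = (LP (LK LD1_c4 LD2_c34 LD3_c41)) :=
  Lgr Lrot70 (Lpr_et (f20499 IH) (Lpr_dt (K10.f20498 IH) (Lpr_et (K11.f20493 IH) (Lpr_dt (K10.f20500 IH) (Lpr_et (f20501 IH) (Lpn (LP (LK LD1_c4 LD2_c34 LD3_c41))))))))
theorem f20513 : Led Lsl_gt (LP (LK LD1_c5 LD2_c13 LD3_c31)) = (LP (LK LD1_c2 LD2_c33 LD3_c37)) :=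
  Lre_g IH (LK LD1_c5 LD2_c13 LD3_c31) (LK LD1_c2 LD2_c33 LD3_c37) Lrfl Lrfl
theorem f20514 : Led Lsl_dt (LP (LK LD1_c10 LD2_c17 LD3_c20)) = (LP (LK LD1_c5 LD2_c13 LD3_c31)) :=
  Lre_d IH (LK LD1_c10 LD2_c17 LD3_c20) (LK LD1_c5 LD2_c13 LD3_c31) Lrfl Lrfl
theorem f536560 : Led Lsl_df v449 = v3034 :=
  Lgr Lrot38 (Lpr_dt (f536558 IH) (Lpn v3034))
theorem f452914 : Led Lsl_gf (LP (LK LD1_c2 LD2_c14 LD3_c2)) = v449 :=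
  Lgr Lrot141 (Lpe (K10.f60168 IH) (Lpr_dt (K10.f60178 IH) (Lpr_gt (K32.f268489 IH) (Lpe (K15.f23933 IH) (Lpr_et (K10.f23942 IH) (Lpr_gt (K10.f177687 IH) (Lpr_dt (K10.f26668 IH) (Lpe (K10.f185960 IH) (Lpe (K10.f172679 IH) (Lpr_et (f452909 IH) (Lpn v449)))))))))))
theorem f68638 : Led Lsl_gt (LP (LK LD1_c3 LD2_c10 LD3_c20)) = (LP (LK LD1_c6 LD2_c25 LD3_c22)) :=
  Lre_g IH (LK LD1_c3 LD2_c10 LD3_c20) (LK LD1_c6 LD2_c25 LD3_c22) Lrfl Lrfl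
theorem f536565 : Led Lsl_et (LP (LK LD1_c10 LD2_c17 LD3_c20)) = (LP (LK LD1_c6 LD2_c25 LD3_c22)) :=
  Lgr Lrot122 (Lpr_dt (f20514 IH) (Lpr_gt (f20513 IH) (Lpr_df (f20502 IH) (Lpr_et (f20512 IH) (Lpr_gt (f536563 IH) (Lpe (f536560 IH) (Lpe (f452914 IH) (Lpr_df (K11.f68628 IH) (Lpr_et (K32.f68630 IH) (Lpr_gt (f68638 IH) (Lpn (LP (LK LD1_c6 LD2_c25 LD3_c22)))))))))))))
theorem f536566 : Led Lsl_et (LP (LK LD1_c10 LD2_c17 LD3_c20)) = (LP (LK LD1_c6 LD2_c25 LD3_c22)) :=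
  Leop (Lpe (f536565 IH) (Lpn (LP (LK LD1_c10 LD2_c17 LD3_c20))))
theorem seed_241 : LEOK LG_e (LK LD1_c10 LD2_c17 LD3_c20) :=
  Leoe_e (LK LD1_c10 LD2_c17 LD3_c20) (f536566 IH)
def v394 : LQ := Led Lsl_dt (LP (LK LD1_c0 LD2_c37 LD3_c41))
theorem f452611 : Led Lsl_dt (LP (LK LD1_c0 LD2_c37 LD3_c41)) = v394 :=
  Lrfl
def v359 : LQ := Led Lsl_dt (LP (LK LD1_c0 LD2_c31 LD3_c44))
theorem f452404 : Led Lsl_dt (LP (LK LD1_c0 LD2_c31 LD3_c44)) = v359 :=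
  Lrfl
theorem f452405 : Led Lsl_df (LP (LK LD1_c0 LD2_c31 LD3_c44)) = v359 :=
  Lgr Lrot38 (Lpr_dt (f452404 IH) (Lpn v359))
theorem f80859 : Led Lsl_ff (LP (LK LD1_c0 LD2_c31 LD3_c44)) = (LP (LK LD1_c0 LD2_c37 LD3_c41)) :=
  Lgr Lrot3 (Lpr_ft (K8.f80855 IH) (Lpn (LP (LK LD1_c0 LD2_c37 LD3_c41))))
theorem f6908 : Led Lsl_af (LP (LK LD1_c0 LD2_c31 LD3_c44)) = (LP (LK LD1_c0 LD2_c31 LD3_c44)) :=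
  Lgr Lrot68 (Lpr_ct (K31.f2952 IH) (Lpr_at (K1.f6906 IH) (Lpr_ct (K0.f2963 IH) (Lpn (LP (LK LD1_c0 LD2_c31 LD3_c44))))))
theorem f452614 : Led Lsl_cf v359 = v394 :=
  Lgr Lrot118 (Lpe (f452405 IH) (Lpr_ct (K31.f2952 IH) (Lpr_dt (K1.f3051 IH) (Lpe (K1.f2934 IH) (Lpr_dt (K0.f2922 IH) (Lpr_ct (K0.f2963 IH) (Lpr_af (f6908 IH) (Lpr_ff (f80859 IH) (Lpr_dt (f452611 IH) (Lpn v394))))))))))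
def v112 : LQ := Led Lsl_dt (LP (LK LD1_c0 LD2_c16 LD3_c50))
theorem f448923 : Led Lsl_dt (LP (LK LD1_c0 LD2_c16 LD3_c50)) = v112 :=
  Lrfl
theorem f448924 : Led Lsl_df (LP (LK LD1_c0 LD2_c16 LD3_c50)) = v112 :=
  Lgr Lrot38 (Lpr_dt (f448923 IH) (Lpn v112))
theorem f452615 : Led Lsl_gf v112 = v394 :=
  Lgr Lrot143 (Lpe (f448924 IH) (Lpe (K1.f21180 IH) (Lpe (K1.f37104 IH) (Lpe (K1.f36291 IH) (Lpe (K1.f37122 IH) (Lpr_gf (K1.f37310 IH) (Lpe (K1.f6724 IH) (Lpr_gt (K1.f37984 IH) (Lpr_dt (f452611 IH) (Lpn v394))))))))))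
theorem f146262 : Led Lsl_af (LP (LK LD1_c0 LD2_c3 LD3_c20)) = (LP (LK LD1_c0 LD2_c5 LD3_c53)) :=
  Lgr Lrot117 (Lpr_dt (K0.f20264 IH) (Lpr_at (K6.f146256 IH) (Lpr_dt (K0.f16643 IH) (Lpn (LP (LK LD1_c0 LD2_c5 LD3_c53))))))
theorem f146254 : Led Lsl_ft (LP (LK LD1_c0 LD2_c3 LD3_c20)) = (LP (LK LD1_c0 LD2_c5 LD3_c54)) :=
  Lgr Lrot54 (Lpe (K0.f13443 IH) (Lpr_ff (K6.f146252 IH) (Lpe (K0.f20181 IH) (Lpn (LP (LK LD1_c0 LD2_c5 LD3_c54))))))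
theorem f146272 : Led Lsl_af (LP (LK LD1_c0 LD2_c3 LD3_c23)) = (LP (LK LD1_c0 LD2_c5 LD3_c54)) :=
  Lgr Lrot45 (Lpr_ft (K6.f146270 IH) (Lpe (f146262 IH) (Lpr_ft (f146254 IH) (Lpn (LP (LK LD1_c0 LD2_c5 LD3_c54))))))
theorem f146290 : Led Lsl_af (LP (LK LD1_c0 LD2_c7 LD3_c29)) = (LP (LK LD1_c0 LD2_c7 LD3_c29)) :=
  Lgr Lrot36 (Lpr_bt (K1.f21178 IH) (Lpr_at (K6.f146288 IH) (Lpr_bt (K1.f59652 IH) (Lpe (f146272 IH) (Lpr_bt (K1.f20423 IH) (Lpn (LP (LK LD1_c0 LD2_c7 LD3_c29))))))))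
theorem f437509 : Led Lsl_at (LP (LK LD1_c0 LD2_c16 LD3_c50)) = (LP (LK LD1_c0 LD2_c16 LD3_c50)) :=
  Lgr Lrot107 (Lpe (K1.f21180 IH) (Lpr_af (f146290 IH) (Lpe (K4.f21179 IH) (Lpn (LP (LK LD1_c0 LD2_c16 LD3_c50))))))
theorem f437515 : Led Lsl_ff (LP (LK LD1_c0 LD2_c16 LD3_c50)) = (LP (LK LD1_c0 LD2_c29 LD3_c10)) :=
  Lgr Lrot52 (Lpr_at (f437509 IH) (Lpe (K1.f37153 IH) (Lpe (K11.f37277 IH) (Lpn (LP (LK LD1_c0 LD2_c29 LD3_c10))))))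
theorem f146318 : Led Lsl_bt (LP (LK LD1_c0 LD2_c29 LD3_c11)) = (LP (LK LD1_c0 LD2_c12 LD3_c55)) :=
  Lre_b IH (LK LD1_c0 LD2_c29 LD3_c11) (LK LD1_c0 LD2_c12 LD3_c55) Lrfl Lrfl
theorem f422766 : Led Lsl_af (LP (LK LD1_c0 LD2_c29 LD3_c11)) = (LP (LK LD1_c0 LD2_c29 LD3_c11)) :=
  Lgr Lrot36 (Lpr_bt (f146318 IH) (Lpr_at (K6.f146299 IH) (Lpr_bt (K11.f176873 IH) (Lpe (K9.f146316 IH) (Lpr_bt (K11.f211019 IH) (Lpn (LP (LK LD1_c0 LD2_c29 LD3_c11))))))))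
theorem f37266 : Led Lsl_et (LP (LK LD1_c0 LD2_c29 LD3_c11)) = (LP (LK LD1_c0 LD2_c12 LD3_c53)) :=
  Lre_e IH (LK LD1_c0 LD2_c29 LD3_c11) (LK LD1_c0 LD2_c12 LD3_c53) Lrfl Lrfl
theorem f422780 : Led Lsl_at (LP (LK LD1_c0 LD2_c12 LD3_c53)) = (LP (LK LD1_c0 LD2_c12 LD3_c53)) :=
  Lgr Lrot80 (Lpe (f37266 IH) (Lpr_af (f422766 IH) (Lpe (K11.f37100 IH) (Lpn (LP (LK LD1_c0 LD2_c12 LD3_c53))))))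
theorem f37095 : Led Lsl_ct (LP (LK LD1_c0 LD2_c29 LD3_c10)) = (LP (LK LD1_c0 LD2_c12 LD3_c53)) :=
  Lre_c IH (LK LD1_c0 LD2_c29 LD3_c10) (LK LD1_c0 LD2_c12 LD3_c53) Lrfl Lrfl
theorem f422782 : Led Lsl_af (LP (LK LD1_c0 LD2_c29 LD3_c10)) = (LP (LK LD1_c0 LD2_c29 LD3_c10)) :=
  Lgr Lrot68 (Lpr_ct (f37095 IH) (Lpr_at (f422780 IH) (Lpr_ct (K11.f21216 IH) (Lpn (LP (LK LD1_c0 LD2_c29 LD3_c10))))))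
theorem f437517 : Led Lsl_ft (LP (LK LD1_c0 LD2_c16 LD3_c50)) = (LP (LK LD1_c0 LD2_c29 LD3_c10)) :=
  Lgr Lrot101 (Lpe (f437509 IH) (Lpr_ff (f437515 IH) (Lpr_af (f422782 IH) (Lpn (LP (LK LD1_c0 LD2_c29 LD3_c10))))))
theorem f37096 : Led Lsl_dt (LP (LK LD1_c1 LD2_c3 LD3_c56)) = (LP (LK LD1_c0 LD2_c29 LD3_c10)) :=
  Lre_d IH (LK LD1_c1 LD2_c3 LD3_c56) (LK LD1_c0 LD2_c29 LD3_c10) Lrfl Lrfl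
theorem f448926 : Led Lsl_cf (LP (LK LD1_c1 LD2_c3 LD3_c56)) = v112 :=
  Lgr Lrot118 (Lpr_dt (f37096 IH) (Lpr_ct (f37095 IH) (Lpr_dt (K11.f37097 IH) (Lpr_ct (K1.f20053 IH) (Lpr_dt (K1.f37094 IH) (Lpr_ct (K11.f21216 IH) (Lpr_af (f422782 IH) (Lpe (f437517 IH) (Lpr_dt (f448923 IH) (Lpn v112))))))))))
theorem f452616 : Led Lsl_gf v394 = (LP (LK LD1_c1 LD2_c3 LD3_c56)) :=
  Lgr Lrot172 (Lpe (f452614 IH) (Lpe (f452405 IH) (Lpe (K0.f2963 IH) (Lpe (K0.f34686 IH) (Lpe (K1.f34681 IH) (Lpe (K1.f37312 IH) (Lpr_dt (f452611 IH) (Lpe (f452615 IH) (Lpe (f448926 IH) (Lpn (LP (LK LD1_c1 LD2_c3 LD3_c56))))))))))))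
def v2911 : LQ := Led Lsl_et v394
theorem f536155 : Led Lsl_et v394 = v2911 :=
  Lrfl
theorem f536157 : Led Lsl_ef v394 = v2911 :=
  Lgr Lrot88 (Lpr_et (f536155 IH) (Lpn v2911))
theorem f198455 : Led Lsl_et (LP (LK LD1_c2 LD2_c13 LD3_c50)) = (LP (LK LD1_c1 LD2_c3 LD3_c58)) :=
  Lre_e IH (LK LD1_c2 LD2_c13 LD3_c50) (LK LD1_c1 LD2_c3 LD3_c58) Lrfl Lrfl
def v453 : LQ := Led Lsl_ct (LP (LK LD1_c0 LD2_c39 LD3_c28))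
def v3042 : LQ := Led Lsl_dt v453
theorem f536608 : Led Lsl_dt v453 = v3042 :=
  Lrfl
def v1405 : LQ := Led Lsl_ct (LP (LK LD1_c1 LD2_c12 LD3_c45))
theorem f495391 : Led Lsl_ct (LP (LK LD1_c1 LD2_c12 LD3_c45)) = v1405 :=
  Lrfl
def v340 : LQ := Led Lsl_dt (LP (LK LD1_c0 LD2_c29 LD3_c51))
theorem f452261 : Led Lsl_dt (LP (LK LD1_c0 LD2_c29 LD3_c51)) = v340 :=
  Lrfl
theorem f182024 : Led Lsl_dt (LP (LK LD1_c1 LD2_c12 LD3_c45)) = (LP (LK LD1_c0 LD2_c33 LD3_c42)) :=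
  Lre_d IH (LK LD1_c1 LD2_c12 LD3_c45) (LK LD1_c0 LD2_c33 LD3_c42) Lrfl Lrfl
theorem f452265 : Led Lsl_gf (LP (LK LD1_c1 LD2_c12 LD3_c45)) = v340 :=
  Lgr Lrot143 (Lpr_dt (f182024 IH) (Lpe (K19.f182022 IH) (Lpe (K10.f177635 IH) (Lpe (K19.f240683 IH) (Lpe (K19.f165179 IH) (Lpe (K10.f37286 IH) (Lpr_cf (K0.f28588 IH) (Lpe (K10.f190267 IH) (Lpr_dt (f452261 IH) (Lpn v340))))))))))
theorem f452263 : Led Lsl_df (LP (LK LD1_c0 LD2_c29 LD3_c51)) = v340 :=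
  Lgr Lrot38 (Lpr_dt (f452261 IH) (Lpn v340))
theorem f452938 : Led Lsl_ct (LP (LK LD1_c0 LD2_c39 LD3_c28)) = v453 :=
  Lrfl
theorem f452939 : Led Lsl_cf (LP (LK LD1_c0 LD2_c39 LD3_c28)) = v453 :=
  Lgr Lrot11 (Lpr_ct (f452938 IH) (Lpn v453))
theorem f495393 : Led Lsl_gf v453 = v1405 :=
  Lgr Lrot104 (Lpe (f452939 IH) (Lpe (K10.f177640 IH) (Lpr_cf (K10.f182017 IH) (Lpe (K9.f165502 IH) (Lpe (K10.f165172 IH) (Lpe (K10.f190265 IH) (Lpr_df (f452263 IH) (Lpe (f452265 IH) (Lpr_ct (f495391 IH) (Lpn v1405))))))))))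
theorem f495392 : Led Lsl_cf (LP (LK LD1_c1 LD2_c12 LD3_c45)) = v1405 :=
  Lgr Lrot11 (Lpr_ct (f495391 IH) (Lpn v1405))
theorem f165504 : Led Lsl_et (LP (LK LD1_c0 LD2_c33 LD3_c42)) = (LP (LK LD1_c0 LD2_c15 LD3_c7)) :=
  Lre_e IH (LK LD1_c0 LD2_c33 LD3_c42) (LK LD1_c0 LD2_c15 LD3_c7) Lrfl Lrfl
theorem f165505 : Led Lsl_dt (LP (LK LD1_c0 LD2_c33 LD3_c42)) = (LP (LK LD1_c1 LD2_c12 LD3_c45)) :=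
  Lre_d IH (LK LD1_c0 LD2_c33 LD3_c42) (LK LD1_c1 LD2_c12 LD3_c45) Lrfl Lrfl
theorem f177643 : Led Lsl_et (LP (LK LD1_c0 LD2_c17 LD3_c41)) = (LP (LK LD1_c0 LD2_c39 LD3_c29)) :=
  Lre_e IH (LK LD1_c0 LD2_c17 LD3_c41) (LK LD1_c0 LD2_c39 LD3_c29) Lrfl Lrfl
theorem f315132 : Led Lsl_gt (LP (LK LD1_c1 LD2_c12 LD3_c45)) = (LP (LK LD1_c0 LD2_c39 LD3_c28)) :=
  Lgr Lrot112 (Lpe (f165505 IH) (Lpr_et (f165504 IH) (Lpe (K9.f165502 IH) (Lpr_ef (K10.f164185 IH) (Lpr_dt (K11.f164350 IH) (Lpe (K20.f165469 IH) (Lpe (K20.f315128 IH) (Lpr_gf (K20.f315126 IH) (Lpe (f177643 IH) (Lpr_dt (K10.f177640 IH) (Lpn (LP (LK LD1_c0 LD2_c39 LD3_c28)))))))))))))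
theorem f192355 : Led Lsl_gt (LP (LK LD1_c0 LD2_c17 LD3_c41)) = (LP (LK LD1_c0 LD2_c14 LD3_c7)) :=
  Lgr Lrot65 (Lpr_cf (K10.f182017 IH) (Lpr_bt (K9.f182014 IH) (Lpr_gf (K10.f192345 IH) (Lpe (K0.f31541 IH) (Lpr_ct (K1.f32278 IH) (Lpr_gf (K10.f179002 IH) (Lpe (K10.f165185 IH) (Lpe (K9.f20470 IH) (Lpe (K0.f34613 IH) (Lpe (K10.f165176 IH) (Lpn (LP (LK LD1_c0 LD2_c14 LD3_c7)))))))))))))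
def v360 : LQ := Led Lsl_ct (LP (LK LD1_c0 LD2_c31 LD3_c45))
theorem f452409 : Led Lsl_ct (LP (LK LD1_c0 LD2_c31 LD3_c45)) = v360 :=
  Lrfl
def v2844 : LQ := Led Lsl_dt v360
theorem f535920 : Led Lsl_dt v360 = v2844 :=
  Lrfl
theorem f535921 : Led Lsl_df v360 = v2844 :=
  Lgr Lrot38 (Lpr_dt (f535920 IH) (Lpn v2844))
theorem f536611 : Led Lsl_gf v2844 = v3042 :=
  Lgr Lrot143 (Lpe (f535921 IH) (Lpe (f452409 IH) (Lpe (K2.f2906 IH) (Lpe (f192355 IH) (Lpe (K10.f177642 IH) (Lpe (f315132 IH) (Lpr_cf (f495392 IH) (Lpe (f495393 IH) (Lpr_dt (f536608 IH) (Lpn v3042))))))))))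
def v373 : LQ := Led Lsl_et (LP (LK LD1_c0 LD2_c36 LD3_c28))
theorem f452495 : Led Lsl_et (LP (LK LD1_c0 LD2_c36 LD3_c28)) = v373 :=
  Lrfl
theorem f452497 : Led Lsl_ef (LP (LK LD1_c0 LD2_c36 LD3_c28)) = v373 :=
  Lgr Lrot88 (Lpr_et (f452495 IH) (Lpn v373))
theorem f452499 : Led Lsl_ct (LP (LK LD1_c0 LD2_c36 LD3_c29)) = v373 :=
  Lgr Lrot15 (Lpe (K10.f193447 IH) (Lpe (K13.f197406 IH) (Lpr_ef (f452497 IH) (Lpn v373))))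
theorem f182425 : Led Lsl_bt (LP (LK LD1_c0 LD2_c25 LD3_c55)) = (LP (LK LD1_c0 LD2_c55 LD3_c43)) :=
  Lgr Lrot119 (Lpe (K10.f56519 IH) (Lpr_bf (K12.f182416 IH) (Lpe (K11.f182364 IH) (Lpn (LP (LK LD1_c0 LD2_c55 LD3_c43))))))
theorem f452500 : Led Lsl_gt v360 = v373 :=
  Lgr Lrot65 (Lpe (f452409 IH) (Lpr_bt (K2.f34632 IH) (Lpe (K9.f27940 IH) (Lpe (f182425 IH) (Lpr_ct (K9.f179885 IH) (Lpe (K9.f182470 IH) (Lpe (K9.f8452 IH) (Lpr_gf (K9.f22391 IH) (Lpe (K20.f22406 IH) (Lpr_ct (f452499 IH) (Lpn v373)))))))))))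
def v2869 : LQ := Led Lsl_dt v373
theorem f536020 : Led Lsl_dt v373 = v2869 :=
  Lrfl
def v455 : LQ := Led Lsl_ct (LP (LK LD1_c0 LD2_c39 LD3_c35))
theorem f452943 : Led Lsl_ct (LP (LK LD1_c0 LD2_c39 LD3_c35)) = v455 :=
  Lrfl
theorem f334507 : Led Lsl_ft (LP (LK LD1_c1 LD2_c25 LD3_c42)) = (LP (LK LD1_c1 LD2_c3 LD3_c5)) :=
  Lgr Lrot75 (Lpe (K10.f20732 IH) (Lpr_ff (K22.f334503 IH) (Lpe (K10.f20731 IH) (Lpn (LP (LK LD1_c1 LD2_c3 LD3_c5))))))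
theorem f334568 : Led Lsl_ft (LP (LK LD1_c0 LD2_c36 LD3_c29)) = (LP (LK LD1_c0 LD2_c39 LD3_c35)) :=
  Lgr Lrot86 (Lpe (K10.f193447 IH) (Lpr_ff (K22.f334562 IH) (Lpe (K10.f20741 IH) (Lpe (f334507 IH) (Lpe (K10.f20744 IH) (Lpn (LP (LK LD1_c0 LD2_c39 LD3_c35))))))))
theorem f334557 : Led Lsl_et (LP (LK LD1_c0 LD2_c36 LD3_c29)) = (LP (LK LD1_c0 LD2_c16 LD3_c15)) :=
  Lre_e IH (LK LD1_c0 LD2_c36 LD3_c29) (LK LD1_c0 LD2_c16 LD3_c15) Lrfl Lrfl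
theorem f452496 : Led Lsl_cf (LP (LK LD1_c0 LD2_c36 LD3_c29)) = v373 :=
  Lgr Lrot39 (Lpr_et (f334557 IH) (Lpr_ct (K13.f165216 IH) (Lpr_et (f452495 IH) (Lpn v373))))
theorem f452945 : Led Lsl_ff v373 = v455 :=
  Lgr Lrot23 (Lpe (f452496 IH) (Lpr_ft (f334568 IH) (Lpr_ct (f452943 IH) (Lpn v455))))
theorem f452947 : Led Lsl_ft v373 = v455 :=
  Lgr Lrot48 (Lpr_ff (f452945 IH) (Lpn v455))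
theorem f452498 : Led Lsl_at v373 = v373 :=
  Lgr Lrot80 (Lpe (f452495 IH) (Lpe (K22.f334576 IH) (Lpr_ef (f452497 IH) (Lpn v373))))
theorem f452948 : Led Lsl_af v455 = v455 :=
  Lgr Lrot45 (Lpe (f452945 IH) (Lpr_at (f452498 IH) (Lpr_ft (f452947 IH) (Lpn v455))))
theorem f165233 : Led Lsl_ct (LP (LK LD1_c1 LD2_c12 LD3_c47)) = (LP (LK LD1_c0 LD2_c33 LD3_c44)) :=
  Lre_c IH (LK LD1_c1 LD2_c12 LD3_c47) (LK LD1_c0 LD2_c33 LD3_c44) Lrfl Lrfl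
def v1408 : LQ := Led Lsl_dt (LP (LK LD1_c1 LD2_c12 LD3_c47))
theorem f495403 : Led Lsl_dt (LP (LK LD1_c1 LD2_c12 LD3_c47)) = v1408 :=
  Lrfl
theorem f495404 : Led Lsl_df (LP (LK LD1_c1 LD2_c12 LD3_c47)) = v1408 :=
  Lgr Lrot38 (Lpr_dt (f495403 IH) (Lpn v1408))
theorem f536022 : Led Lsl_cf v1408 = v2869 :=
  Lgr Lrot118 (Lpe (f495404 IH) (Lpr_ct (f165233 IH) (Lpe (K20.f200661 IH) (Lpr_ct (K11.f200646 IH) (Lpr_dt (K10.f20745 IH) (Lpr_ct (f452943 IH) (Lpr_af (f452948 IH) (Lpe (f452947 IH) (Lpr_dt (f536020 IH) (Lpn v2869))))))))))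
def v367 : LQ := Led Lsl_ft (LP (LK LD1_c0 LD2_c33 LD3_c45))
theorem f452451 : Led Lsl_ft (LP (LK LD1_c0 LD2_c33 LD3_c45)) = v367 :=
  Lrfl
theorem f452453 : Led Lsl_ff (LP (LK LD1_c0 LD2_c33 LD3_c45)) = v367 :=
  Lgr Lrot3 (Lpr_ft (f452451 IH) (Lpn v367))
theorem f165178 : Led Lsl_ct (LP (LK LD1_c0 LD2_c33 LD3_c45)) = (LP (LK LD1_c0 LD2_c15 LD3_c8)) :=
  Lre_c IH (LK LD1_c0 LD2_c33 LD3_c45) (LK LD1_c0 LD2_c15 LD3_c8) Lrfl Lrfl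
theorem f165228 : Led Lsl_af (LP (LK LD1_c0 LD2_c33 LD3_c45)) = (LP (LK LD1_c0 LD2_c33 LD3_c45)) :=
  Lgr Lrot68 (Lpr_ct (f165178 IH) (Lpr_at (K10.f164166 IH) (Lpr_ct (K10.f69798 IH) (Lpn (LP (LK LD1_c0 LD2_c33 LD3_c45))))))
theorem f452456 : Led Lsl_gf (LP (LK LD1_c1 LD2_c12 LD3_c47)) = v367 :=
  Lgr Lrot47 (Lpr_gt (K10.f194100 IH) (Lpr_af (f165228 IH) (Lpr_ff (f452453 IH) (Lpn v367))))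
def v366 : LQ := Led Lsl_dt (LP (LK LD1_c0 LD2_c33 LD3_c45))
def v2858 : LQ := Led Lsl_ft v366
theorem f535982 : Led Lsl_ft v366 = v2858 :=
  Lrfl
theorem f452448 : Led Lsl_dt (LP (LK LD1_c0 LD2_c33 LD3_c45)) = v366 :=
  Lrfl
theorem f535984 : Led Lsl_df v367 = v2858 :=
  Lgr Lrot78 (Lpe (f452453 IH) (Lpr_dt (f452448 IH) (Lpr_ft (f535982 IH) (Lpn v2858))))
theorem f535985 : Led Lsl_ff v366 = v2858 :=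
  Lgr Lrot3 (Lpr_ft (f535982 IH) (Lpn v2858))
theorem f452449 : Led Lsl_df (LP (LK LD1_c0 LD2_c33 LD3_c45)) = v366 :=
  Lgr Lrot38 (Lpr_dt (f452448 IH) (Lpn v366))
theorem f452450 : Led Lsl_at v366 = v366 :=
  Lgr Lrot51 (Lpe (f452448 IH) (Lpr_af (f165228 IH) (Lpr_df (f452449 IH) (Lpn v366))))
def v362 : LQ := Led Lsl_ct (LP (LK LD1_c0 LD2_c33 LD3_c41))
def v2848 : LQ := Led Lsl_dt v362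
theorem f535936 : Led Lsl_dt v362 = v2848 :=
  Lrfl
def v1392 : LQ := Led Lsl_ct (LP (LK LD1_c1 LD2_c12 LD3_c4))
theorem f495314 : Led Lsl_ct (LP (LK LD1_c1 LD2_c12 LD3_c4)) = v1392 :=
  Lrfl
theorem f37287 : Led Lsl_dt (LP (LK LD1_c0 LD2_c33 LD3_c39)) = (LP (LK LD1_c0 LD2_c15 LD3_c6)) :=
  Lre_d IH (LK LD1_c0 LD2_c33 LD3_c39) (LK LD1_c0 LD2_c15 LD3_c6) Lrfl Lrfl
theorem f452420 : Led Lsl_ct (LP (LK LD1_c0 LD2_c33 LD3_c41)) = v362 :=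
  Lrfl
theorem f452421 : Led Lsl_cf (LP (LK LD1_c0 LD2_c33 LD3_c41)) = v362 :=
  Lgr Lrot11 (Lpr_ct (f452420 IH) (Lpn v362))
theorem f495316 : Led Lsl_gf v362 = v1392 :=
  Lgr Lrot104 (Lpe (f452421 IH) (Lpe (K19.f165180 IH) (Lpe (K9.f182008 IH) (Lpr_gf (K10.f193089 IH) (Lpr_cf (K10.f34643 IH) (Lpr_gf (K10.f165491 IH) (Lpe (f37287 IH) (Lpr_gt (K19.f240683 IH) (Lpr_ct (f495314 IH) (Lpn v1392))))))))))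
theorem f495315 : Led Lsl_cf (LP (LK LD1_c1 LD2_c12 LD3_c4)) = v1392 :=
  Lgr Lrot11 (Lpr_ct (f495314 IH) (Lpn v1392))
theorem f37979 : Led Lsl_et (LP (LK LD1_c0 LD2_c18 LD3_c11)) = (LP (LK LD1_c0 LD2_c40 LD3_c38)) :=
  Lre_e IH (LK LD1_c0 LD2_c18 LD3_c11) (LK LD1_c0 LD2_c40 LD3_c38) Lrfl Lrfl
theorem f37304 : Led Lsl_et (LP (LK LD1_c0 LD2_c37 LD3_c42)) = (LP (LK LD1_c0 LD2_c16 LD3_c47)) :=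
  Lre_e IH (LK LD1_c0 LD2_c37 LD3_c42) (LK LD1_c0 LD2_c16 LD3_c47) Lrfl Lrfl
theorem f37980 : Led Lsl_bt (LP (LK LD1_c0 LD2_c40 LD3_c38)) = (LP (LK LD1_c0 LD2_c37 LD3_c42)) :=
  Lgr Lrot119 (Lpe (f37979 IH) (Lpr_bf (K1.f37970 IH) (Lpe (f37304 IH) (Lpn (LP (LK LD1_c0 LD2_c37 LD3_c42))))))
theorem f198446 : Led Lsl_gt (LP (LK LD1_c0 LD2_c37 LD3_c42)) = (LP (LK LD1_c1 LD2_c5 LD3_c14)) :=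
  Lgr Lrot164 (Lpe (f37980 IH) (Lpr_ct (K13.f36890 IH) (Lpr_gf (K13.f198438 IH) (Lpe (K13.f101301 IH) (Lpe (K9.f101296 IH) (Lpe (K9.f100669 IH) (Lpr_ct (K9.f100619 IH) (Lpe (K10.f176558 IH) (Lpe (K10.f20578 IH) (Lpr_bt (K10.f20574 IH) (Lpn (LP (LK LD1_c1 LD2_c5 LD3_c14)))))))))))))
theorem f37305 : Led Lsl_et (LP (LK LD1_c0 LD2_c16 LD3_c47)) = (LP (LK LD1_c0 LD2_c37 LD3_c42)) :=
  Lre_e IH (LK LD1_c0 LD2_c16 LD3_c47) (LK LD1_c0 LD2_c37 LD3_c42) Lrfl Lrfl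
theorem f37306 : Led Lsl_df (LP (LK LD1_c0 LD2_c37 LD3_c42)) = (LP (LK LD1_c0 LD2_c37 LD3_c42)) :=
  Lgr Lrot70 (Lpr_et (f37304 IH) (Lpr_dt (K1.f37122 IH) (Lpr_et (K1.f37302 IH) (Lpr_dt (K1.f37124 IH) (Lpr_et (f37305 IH) (Lpn (LP (LK LD1_c0 LD2_c37 LD3_c42))))))))
theorem f20524 : Led Lsl_et (LP (LK LD1_c0 LD2_c15 LD3_c8)) = (LP (LK LD1_c0 LD2_c12 LD3_c58)) :=
  Lgr Lrot74 (Lpe (K10.f20523 IH) (Lpr_ef (K0.f20466 IH) (Lpe (K0.f6723 IH) (Lpn (LP (LK LD1_c0 LD2_c12 LD3_c58))))))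
theorem f198456 : Led Lsl_gf (LP (LK LD1_c0 LD2_c33 LD3_c41)) = (LP (LK LD1_c1 LD2_c12 LD3_c4)) :=
  Lgr Lrot138 (Lpr_dt (K19.f37323 IH) (Lpr_gt (K9.f37322 IH) (Lpe (K16.f37281 IH) (Lpr_et (f20524 IH) (Lpe (K1.f37310 IH) (Lpe (f37304 IH) (Lpe (f37306 IH) (Lpr_gt (f198446 IH) (Lpe (K19.f177641 IH) (Lpe (K10.f177647 IH) (Lpn (LP (LK LD1_c1 LD2_c12 LD3_c4)))))))))))))
theorem f535939 : Led Lsl_gf v366 = v2848 :=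
  Lgr Lrot143 (Lpe (f452449 IH) (Lpe (K10.f69798 IH) (Lpe (K16.f34664 IH) (Lpe (K9.f37322 IH) (Lpe (K19.f37323 IH) (Lpr_gf (f198456 IH) (Lpr_cf (f495315 IH) (Lpe (f495316 IH) (Lpr_dt (f535936 IH) (Lpn v2848))))))))))
theorem f535989 : Led Lsl_gf v2848 = v2858 :=
  Lgr Lrot47 (Lpe (f535939 IH) (Lpe (f452450 IH) (Lpr_ff (f535985 IH) (Lpn v2858))))
def v361 : LQ := Led Lsl_ct (LP (LK LD1_c0 LD2_c33 LD3_c39))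
theorem f452415 : Led Lsl_ct (LP (LK LD1_c0 LD2_c33 LD3_c39)) = v361 :=
  Lrfl
theorem f452416 : Led Lsl_cf (LP (LK LD1_c0 LD2_c33 LD3_c39)) = v361 :=
  Lgr Lrot11 (Lpr_ct (f452415 IH) (Lpn v361))
theorem f452422 : Led Lsl_ff v361 = v362 :=
  Lgr Lrot23 (Lpe (f452416 IH) (Lpr_ft (K19.f313569 IH) (Lpr_ct (f452420 IH) (Lpn v362))))
theorem f452423 : Led Lsl_ft v361 = v362 :=
  Lgr Lrot48 (Lpr_ff (f452422 IH) (Lpn v362))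
def v2846 : LQ := Led Lsl_dt v361
theorem f535927 : Led Lsl_dt v361 = v2846 :=
  Lrfl
theorem f535928 : Led Lsl_df v361 = v2846 :=
  Lgr Lrot38 (Lpr_dt (f535927 IH) (Lpn v2846))
theorem f535938 : Led Lsl_ff v2846 = v2848 :=
  Lgr Lrot19 (Lpe (f535928 IH) (Lpr_ft (f452423 IH) (Lpr_dt (f535936 IH) (Lpn v2848))))
theorem f535940 : Led Lsl_ft v2846 = v2848 :=
  Lgr Lrot48 (Lpr_ff (f535938 IH) (Lpn v2848))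
theorem f452417 : Led Lsl_ef (LP (LK LD1_c1 LD2_c19 LD3_c2)) = v361 :=
  Lgr Lrot28 (Lpr_ct (K13.f197396 IH) (Lpe (K19.f313557 IH) (Lpr_ct (f452415 IH) (Lpn v361))))
theorem f452418 : Led Lsl_et (LP (LK LD1_c1 LD2_c19 LD3_c2)) = v361 :=
  Lgr Lrot87 (Lpr_ef (f452417 IH) (Lpn v361))
theorem f403268 : Led Lsl_af (LP (LK LD1_c1 LD2_c19 LD3_c2)) = (LP (LK LD1_c1 LD2_c19 LD3_c2)) :=
  Lgr Lrot68 (Lpr_ct (K13.f197396 IH) (Lpr_at (K19.f313541 IH) (Lpr_ct (K13.f197397 IH) (Lpn (LP (LK LD1_c1 LD2_c19 LD3_c2))))))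
theorem f452419 : Led Lsl_af v361 = v361 :=
  Lgr Lrot50 (Lpe (f452417 IH) (Lpe (f403268 IH) (Lpr_et (f452418 IH) (Lpn v361))))
theorem f535931 : Led Lsl_at v2846 = v2846 :=
  Lgr Lrot51 (Lpe (f535927 IH) (Lpr_af (f452419 IH) (Lpr_df (f535928 IH) (Lpn v2846))))
theorem f535941 : Led Lsl_af v2848 = v2848 :=
  Lgr Lrot45 (Lpe (f535938 IH) (Lpr_at (f535931 IH) (Lpr_ft (f535940 IH) (Lpn v2848))))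
theorem f535990 : Led Lsl_gt v2846 = v2858 :=
  Lgr Lrot5 (Lpr_ft (f535940 IH) (Lpe (f535941 IH) (Lpr_gf (f535989 IH) (Lpn v2858))))
theorem f536613 : Led Lsl_ct v2846 = v3042 :=
  Lgr Lrot8 (Lpr_gt (f535990 IH) (Lpe (f535984 IH) (Lpe (f452456 IH) (Lpr_dt (f495403 IH) (Lpr_cf (f536022 IH) (Lpe (f536020 IH) (Lpe (f452500 IH) (Lpr_df (f535921 IH) (Lpr_gf (f536611 IH) (Lpn v3042))))))))))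
theorem f535929 : Led Lsl_ef v2846 = v2846 :=
  Lgr Lrot73 (Lpe (f535928 IH) (Lpe (f452417 IH) (Lpe (K19.f313402 IH) (Lpr_et (f452418 IH) (Lpr_dt (f535927 IH) (Lpn v2846))))))
def v2805 : LQ := Led Lsl_ct v340
theorem f535701 : Led Lsl_ct v340 = v2805 :=
  Lrfl
theorem f452264 : Led Lsl_ff (LP (LK LD1_c0 LD2_c39 LD3_c28)) = v340 :=
  Lgr Lrot19 (Lpr_dt (K10.f177642 IH) (Lpe (K19.f313585 IH) (Lpr_dt (f452261 IH) (Lpn v340))))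
theorem f452267 : Led Lsl_ft (LP (LK LD1_c0 LD2_c39 LD3_c28)) = v340 :=
  Lgr Lrot48 (Lpr_ff (f452264 IH) (Lpn v340))
theorem f535703 : Led Lsl_ff v453 = v2805 :=
  Lgr Lrot23 (Lpe (f452939 IH) (Lpr_ft (f452267 IH) (Lpr_ct (f535701 IH) (Lpn v2805))))
theorem f535706 : Led Lsl_ft v453 = v2805 :=
  Lgr Lrot48 (Lpr_ff (f535703 IH) (Lpn v2805))
theorem f313589 : Led Lsl_at (LP (LK LD1_c0 LD2_c39 LD3_c28)) = (LP (LK LD1_c0 LD2_c39 LD3_c28)) :=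
  Lgr Lrot51 (Lpe (K10.f177640 IH) (Lpr_af (K19.f313587 IH) (Lpe (K10.f177642 IH) (Lpn (LP (LK LD1_c0 LD2_c39 LD3_c28))))))
theorem f452940 : Led Lsl_at v453 = v453 :=
  Lgr Lrot107 (Lpe (f452938 IH) (Lpe (f313589 IH) (Lpr_cf (f452939 IH) (Lpn v453))))
theorem f535707 : Led Lsl_af v2805 = v2805 :=
  Lgr Lrot45 (Lpe (f535703 IH) (Lpr_at (f452940 IH) (Lpr_ft (f535706 IH) (Lpn v2805))))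
theorem f536610 : Led Lsl_cf v2846 = v3042 :=
  Lgr Lrot118 (Lpe (f535928 IH) (Lpe (f452416 IH) (Lpr_dt (f37287 IH) (Lpe (K10.f190256 IH) (Lpr_dt (f452261 IH) (Lpr_ct (f535701 IH) (Lpr_af (f535707 IH) (Lpe (f535706 IH) (Lpr_dt (f536608 IH) (Lpn v3042))))))))))
theorem f536615 : Led Lsl_ef v3042 = v3042 :=
  Lgr Lrot28 (Lpe (f536610 IH) (Lpe (f535929 IH) (Lpr_ct (f536613 IH) (Lpn v3042))))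
theorem f536609 : Led Lsl_df v453 = v3042 :=
  Lgr Lrot38 (Lpr_dt (f536608 IH) (Lpn v3042))
def v1283 : LQ := Led Lsl_ct (LP (LK LD1_c1 LD2_c5 LD3_c14))
theorem f494604 : Led Lsl_ct (LP (LK LD1_c1 LD2_c5 LD3_c14)) = v1283 :=
  Lrfl
def v120 : LQ := Led Lsl_bt (LP (LK LD1_c0 LD2_c17 LD3_c21))
theorem f448978 : Led Lsl_bt (LP (LK LD1_c0 LD2_c17 LD3_c21)) = v120 :=
  Lrfl
theorem f313721 : Led Lsl_af (LP (LK LD1_c0 LD2_c29 LD3_c49)) = (LP (LK LD1_c0 LD2_c17 LD3_c21)) :=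
  Lgr Lrot0 (Lpr_at (K19.f313719 IH) (Lpn (LP (LK LD1_c0 LD2_c17 LD3_c21))))
theorem f313819 : Led Lsl_ft (LP (LK LD1_c0 LD2_c29 LD3_c48)) = (LP (LK LD1_c0 LD2_c17 LD3_c21)) :=
  Lgr Lrot101 (Lpr_af (K19.f313813 IH) (Lpe (K22.f313727 IH) (Lpr_af (f313721 IH) (Lpn (LP (LK LD1_c0 LD2_c17 LD3_c21))))))
theorem f176803 : Led Lsl_bt (LP (LK LD1_c1 LD2_c5 LD3_c14)) = (LP (LK LD1_c0 LD2_c29 LD3_c48)) :=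
  Lre_b IH (LK LD1_c1 LD2_c5 LD3_c14) (LK LD1_c0 LD2_c29 LD3_c48) Lrfl Lrfl
theorem f448980 : Led Lsl_ff (LP (LK LD1_c1 LD2_c5 LD3_c14)) = v120 :=
  Lgr Lrot25 (Lpr_bt (f176803 IH) (Lpr_ft (f313819 IH) (Lpr_bt (f448978 IH) (Lpn v120))))
def v948 : LQ := Led Lsl_ct v120
theorem f490685 : Led Lsl_ct v120 = v948 :=
  Lrfl
theorem f490686 : Led Lsl_cf v120 = v948 :=
  Lgr Lrot11 (Lpr_ct (f490685 IH) (Lpn v948))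
theorem f494607 : Led Lsl_ff v948 = v1283 :=
  Lgr Lrot23 (Lpe (f490686 IH) (Lpe (f448980 IH) (Lpr_ct (f494604 IH) (Lpn v1283))))
theorem f494609 : Led Lsl_ft v948 = v1283 :=
  Lgr Lrot48 (Lpr_ff (f494607 IH) (Lpn v1283))
theorem f313635 : Led Lsl_at (LP (LK LD1_c1 LD2_c12 LD3_c43)) = (LP (LK LD1_c1 LD2_c12 LD3_c43)) :=
  Lgr Lrot26 (Lpr_ff (K19.f313629 IH) (Lpe (f198456 IH) (Lpr_gt (K19.f313426 IH) (Lpn (LP (LK LD1_c1 LD2_c12 LD3_c43))))))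
theorem f313637 : Led Lsl_af (LP (LK LD1_c1 LD2_c12 LD3_c4)) = (LP (LK LD1_c1 LD2_c12 LD3_c4)) :=
  Lgr Lrot45 (Lpe (K19.f313629 IH) (Lpr_at (f313635 IH) (Lpr_ft (K19.f313633 IH) (Lpn (LP (LK LD1_c1 LD2_c12 LD3_c4))))))
theorem f26693 : Led Lsl_bt (LP (LK LD1_c2 LD2_c16 LD3_c42)) = (LP (LK LD1_c1 LD2_c5 LD3_c16)) :=
  Lre_b IH (LK LD1_c2 LD2_c16 LD3_c42) (LK LD1_c1 LD2_c5 LD3_c16) Lrfl Lrfl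
theorem f177167 : Led Lsl_et (LP (LK LD1_c1 LD2_c12 LD3_c4)) = (LP (LK LD1_c2 LD2_c16 LD3_c42)) :=
  Lgr Lrot74 (Lpe (K10.f164158 IH) (Lpr_ef (K9.f177165 IH) (Lpe (f26693 IH) (Lpn (LP (LK LD1_c2 LD2_c16 LD3_c42))))))
theorem f313639 : Led Lsl_at (LP (LK LD1_c2 LD2_c16 LD3_c42)) = (LP (LK LD1_c2 LD2_c16 LD3_c42)) :=
  Lgr Lrot80 (Lpe (f177167 IH) (Lpr_af (f313637 IH) (Lpr_ef (K10.f177647 IH) (Lpn (LP (LK LD1_c2 LD2_c16 LD3_c42))))))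
theorem f313641 : Led Lsl_af (LP (LK LD1_c1 LD2_c5 LD3_c14)) = (LP (LK LD1_c1 LD2_c5 LD3_c14)) :=
  Lgr Lrot117 (Lpr_dt (K10.f177732 IH) (Lpr_at (f313639 IH) (Lpr_dt (K19.f177641 IH) (Lpn (LP (LK LD1_c1 LD2_c5 LD3_c14))))))
theorem f448982 : Led Lsl_gf (LP (LK LD1_c0 LD2_c37 LD3_c42)) = v120 :=
  Lgr Lrot47 (Lpr_gt (f198446 IH) (Lpr_af (f313641 IH) (Lpr_ff (f448980 IH) (Lpn v120))))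
theorem f36635 : Led Lsl_ft (LP (LK LD1_c0 LD2_c18 LD3_c11)) = (LP (LK LD1_c0 LD2_c11 LD3_c7)) :=
  Lgr Lrot142 (Lpr_dt (K1.f36624 IH) (Lpr_ct (K1.f36616 IH) (Lpr_dt (K1.f29228 IH) (Lpr_ct (K1.f29331 IH) (Lpr_dt (K1.f29554 IH) (Lpr_ct (K1.f29553 IH) (Lpr_dt (K1.f29552 IH) (Lpr_ct (K1.f29311 IH) (Lpr_af (K1.f29307 IH) (Lpn (LP (LK LD1_c0 LD2_c11 LD3_c7))))))))))))
theorem f37982 : Led Lsl_ft (LP (LK LD1_c0 LD2_c14 LD3_c6)) = (LP (LK LD1_c0 LD2_c16 LD3_c47)) :=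
  Lgr Lrot75 (Lpr_bf (K1.f2950 IH) (Lpe (f36635 IH) (Lpr_bf (K1.f37970 IH) (Lpn (LP (LK LD1_c0 LD2_c16 LD3_c47))))))
theorem f196292 : Led Lsl_ff (LP (LK LD1_c1 LD2_c19 LD3_c0)) = (LP (LK LD1_c0 LD2_c37 LD3_c42)) :=
  Lgr Lrot72 (Lpr_et (K10.f196264 IH) (Lpr_ft (K10.f196284 IH) (Lpr_et (K0.f2958 IH) (Lpr_ft (f37982 IH) (Lpr_et (f37305 IH) (Lpn (LP (LK LD1_c0 LD2_c37 LD3_c42))))))))
theorem f198452 : Led Lsl_at (LP (LK LD1_c1 LD2_c19 LD3_c0)) = (LP (LK LD1_c1 LD2_c19 LD3_c0)) :=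
  Lgr Lrot26 (Lpr_ff (f196292 IH) (Lpr_gt (f198446 IH) (Lpr_gt (K10.f193451 IH) (Lpn (LP (LK LD1_c1 LD2_c19 LD3_c0))))))
theorem f196282 : Led Lsl_ft (LP (LK LD1_c1 LD2_c19 LD3_c0)) = (LP (LK LD1_c0 LD2_c37 LD3_c42)) :=
  Lgr Lrot86 (Lpe (K10.f193450 IH) (Lpr_ff (K10.f196273 IH) (Lpe (K1.f3043 IH) (Lpr_ff (K8.f80851 IH) (Lpe (f37304 IH) (Lpn (LP (LK LD1_c0 LD2_c37 LD3_c42))))))))
theorem f198459 : Led Lsl_af (LP (LK LD1_c0 LD2_c37 LD3_c42)) = (LP (LK LD1_c0 LD2_c37 LD3_c42)) :=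
  Lgr Lrot45 (Lpe (f196292 IH) (Lpr_at (f198452 IH) (Lpr_ft (f196282 IH) (Lpn (LP (LK LD1_c0 LD2_c37 LD3_c42))))))
theorem f448983 : Led Lsl_gt (LP (LK LD1_c1 LD2_c19 LD3_c0)) = v120 :=
  Lgr Lrot5 (Lpr_ft (f196282 IH) (Lpe (f198459 IH) (Lpr_gf (f448982 IH) (Lpn v120))))
theorem f448981 : Led Lsl_ft (LP (LK LD1_c1 LD2_c5 LD3_c14)) = v120 :=
  Lgr Lrot48 (Lpr_ff (f448980 IH) (Lpn v120))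
theorem f448984 : Led Lsl_at v120 = v120 :=
  Lgr Lrot26 (Lpe (f448981 IH) (Lpr_gt (K10.f193451 IH) (Lpr_gt (f448983 IH) (Lpn v120))))
theorem f490688 : Led Lsl_at v948 = v948 :=
  Lgr Lrot107 (Lpe (f490685 IH) (Lpe (f448984 IH) (Lpr_cf (f490686 IH) (Lpn v948))))
theorem f494610 : Led Lsl_af v1283 = v1283 :=
  Lgr Lrot45 (Lpe (f494607 IH) (Lpr_at (f490688 IH) (Lpr_ft (f494609 IH) (Lpn v1283))))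
theorem f494606 : Led Lsl_ef v453 = v1283 :=
  Lgr Lrot28 (Lpe (f452939 IH) (Lpr_et (K10.f177733 IH) (Lpr_ct (f494604 IH) (Lpn v1283))))
theorem f494611 : Led Lsl_et v453 = v1283 :=
  Lgr Lrot123 (Lpe (f452940 IH) (Lpr_ef (f494606 IH) (Lpr_af (f494610 IH) (Lpn v1283))))
theorem f536616 : Led Lsl_dt v1283 = v1283 :=
  Lgr Lrot77 (Lpe (f494611 IH) (Lpr_df (f536609 IH) (Lpr_ef (f536615 IH) (Lpe (f536608 IH) (Lpr_ef (f494606 IH) (Lpn v1283))))))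
theorem f36899 : Led Lsl_at (LP (LK LD1_c0 LD2_c40 LD3_c38)) = (LP (LK LD1_c0 LD2_c55 LD3_c27)) :=
  Lgr Lrot100 (Lpr_af (K1.f36893 IH) (Lpn (LP (LK LD1_c0 LD2_c55 LD3_c27))))
theorem f198461 : Led Lsl_bt (LP (LK LD1_c0 LD2_c37 LD3_c42)) = (LP (LK LD1_c0 LD2_c40 LD3_c38)) :=
  Lgr Lrot62 (Lpr_af (f198459 IH) (Lpe (f37980 IH) (Lpr_af (K1.f36893 IH) (Lpr_bf (K7.f29335 IH) (Lpe (f36899 IH) (Lpn (LP (LK LD1_c0 LD2_c40 LD3_c38))))))))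
def v395 : LQ := Led Lsl_et (LP (LK LD1_c0 LD2_c37 LD3_c41))
theorem f452620 : Led Lsl_et (LP (LK LD1_c0 LD2_c37 LD3_c41)) = v395 :=
  Lrfl
theorem f452622 : Led Lsl_ef (LP (LK LD1_c0 LD2_c37 LD3_c41)) = v395 :=
  Lgr Lrot88 (Lpr_et (f452620 IH) (Lpn v395))
theorem f452624 : Led Lsl_ct (LP (LK LD1_c0 LD2_c37 LD3_c42)) = v395 :=
  Lgr Lrot15 (Lpe (f37305 IH) (Lpe (K8.f37123 IH) (Lpr_ef (f452622 IH) (Lpn v395))))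
theorem f494608 : Led Lsl_gt v395 = v1283 :=
  Lgr Lrot65 (Lpe (f452624 IH) (Lpr_bt (f198461 IH) (Lpe (K10.f193754 IH) (Lpe (K10.f175890 IH) (Lpe (K9.f176795 IH) (Lpe (K9.f26663 IH) (Lpe (K9.f26662 IH) (Lpe (K0.f20585 IH) (Lpe (f176803 IH) (Lpr_ct (f494604 IH) (Lpn v1283)))))))))))
theorem f452621 : Led Lsl_cf (LP (LK LD1_c0 LD2_c37 LD3_c42)) = v395 :=
  Lgr Lrot39 (Lpr_et (f37304 IH) (Lpr_ct (K1.f37125 IH) (Lpr_et (f452620 IH) (Lpn v395))))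
def v1596 : LQ := Led Lsl_et (LP (LK LD1_c1 LD2_c22 LD3_c10))
theorem f500265 : Led Lsl_et (LP (LK LD1_c1 LD2_c22 LD3_c10)) = v1596 :=
  Lrfl
theorem f24592 : Led Lsl_dt (LP (LK LD1_c1 LD2_c22 LD3_c10)) = (LP (LK LD1_c0 LD2_c38 LD3_c2)) :=
  Lre_d IH (LK LD1_c1 LD2_c22 LD3_c10) (LK LD1_c0 LD2_c38 LD3_c2) Lrfl Lrfl
theorem f24574 : Led Lsl_dt (LP (LK LD1_c0 LD2_c38 LD3_c4)) = (LP (LK LD1_c0 LD2_c38 LD3_c4)) :=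
  Lgr Lrot79 (Lpe (K12.f24572 IH) (Lpr_df (K9.f24424 IH) (Lpe (K12.f24573 IH) (Lpn (LP (LK LD1_c0 LD2_c38 LD3_c4))))))
theorem f164322 : Led Lsl_ff (LP (LK LD1_c0 LD2_c7 LD3_c34)) = (LP (LK LD1_c0 LD2_c12 LD3_c58)) :=
  Lgr Lrot3 (Lpr_ft (K12.f164315 IH) (Lpn (LP (LK LD1_c0 LD2_c12 LD3_c58))))
theorem f24586 : Led Lsl_et (LP (LK LD1_c0 LD2_c7 LD3_c34)) = (LP (LK LD1_c0 LD2_c16 LD3_c60)) :=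
  Lre_e IH (LK LD1_c0 LD2_c7 LD3_c34) (LK LD1_c0 LD2_c16 LD3_c60) Lrfl Lrfl
theorem f164348 : Led Lsl_et (LP (LK LD1_c0 LD2_c38 LD3_c4)) = (LP (LK LD1_c0 LD2_c33 LD3_c46)) :=
  Lgr Lrot69 (Lpe (K12.f24581 IH) (Lpe (f24586 IH) (Lpr_ff (f164322 IH) (Lpe (f20524 IH) (Lpe (K10.f164347 IH) (Lpn (LP (LK LD1_c0 LD2_c33 LD3_c46))))))))
theorem f500270 : Led Lsl_gt (LP (LK LD1_c2 LD2_c16 LD3_c42)) = v1596 :=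
  Lgr Lrot131 (Lpe (f177167 IH) (Lpr_dt (K10.f177635 IH) (Lpr_gf (K16.f253525 IH) (Lpr_df (K20.f200661 IH) (Lpe (K10.f165230 IH) (Lpe (f164348 IH) (Lpr_dt (f24574 IH) (Lpe (K12.f164652 IH) (Lpe (f24592 IH) (Lpr_et (f500265 IH) (Lpn v1596)))))))))))
def v422 : LQ := Led Lsl_et (LP (LK LD1_c0 LD2_c38 LD3_c2))
theorem f452757 : Led Lsl_et (LP (LK LD1_c0 LD2_c38 LD3_c2)) = v422 :=
  Lrfl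
theorem f452758 : Led Lsl_ef (LP (LK LD1_c0 LD2_c38 LD3_c2)) = v422 :=
  Lgr Lrot88 (Lpr_et (f452757 IH) (Lpn v422))
theorem f20747 : Led Lsl_et (LP (LK LD1_c1 LD2_c25 LD3_c42)) = (LP (LK LD1_c0 LD2_c39 LD3_c35)) :=
  Lre_e IH (LK LD1_c1 LD2_c25 LD3_c42) (LK LD1_c0 LD2_c39 LD3_c35) Lrfl Lrfl
theorem f197362 : Led Lsl_gt (LP (LK LD1_c1 LD2_c22 LD3_c10)) = (LP (LK LD1_c1 LD2_c3 LD3_c5)) :=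
  Lgr Lrot139 (Lpe (K31.f24590 IH) (Lpe (K12.f24589 IH) (Lpe (f24586 IH) (Lpr_dt (K1.f24403 IH) (Lpr_gf (K0.f34676 IH) (Lpr_df (K1.f37108 IH) (Lpe (K2.f37111 IH) (Lpr_gf (K10.f197355 IH) (Lpe (f20747 IH) (Lpe (K10.f20733 IH) (Lpn (LP (LK LD1_c1 LD2_c3 LD3_c5)))))))))))))
def v380 : LQ := Led Lsl_dt (LP (LK LD1_c0 LD2_c36 LD3_c51))
theorem f452530 : Led Lsl_dt (LP (LK LD1_c0 LD2_c36 LD3_c51)) = v380 :=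
  Lrfl
theorem f313404 : Led Lsl_et (LP (LK LD1_c0 LD2_c16 LD3_c26)) = (LP (LK LD1_c0 LD2_c36 LD3_c51)) :=
  Lre_e IH (LK LD1_c0 LD2_c16 LD3_c26) (LK LD1_c0 LD2_c36 LD3_c51) Lrfl Lrfl
theorem f452533 : Led Lsl_ef v340 = v380 :=
  Lgr Lrot73 (Lpe (f452263 IH) (Lpe (K19.f9493 IH) (Lpr_dt (K10.f193682 IH) (Lpr_et (f313404 IH) (Lpr_dt (f452530 IH) (Lpn v380))))))
theorem f452535 : Led Lsl_et v340 = v380 :=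
  Lgr Lrot87 (Lpr_ef (f452533 IH) (Lpn v380))
theorem f452759 : Led Lsl_gt v380 = v422 :=
  Lgr Lrot131 (Lpe (f452535 IH) (Lpe (f452263 IH) (Lpr_gf (K10.f190267 IH) (Lpe (K2.f37110 IH) (Lpr_gf (K10.f197355 IH) (Lpe (f20747 IH) (Lpe (K10.f20733 IH) (Lpe (f197362 IH) (Lpe (K31.f24590 IH) (Lpr_et (f452757 IH) (Lpn v422)))))))))))
theorem f20714 : Led Lsl_bt (LP (LK LD1_c1 LD2_c25 LD3_c42)) = (LP (LK LD1_c0 LD2_c39 LD3_c37)) :=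
  Lre_b IH (LK LD1_c1 LD2_c25 LD3_c42) (LK LD1_c0 LD2_c39 LD3_c37) Lrfl Lrfl
theorem f334513 : Led Lsl_ff (LP (LK LD1_c1 LD2_c25 LD3_c42)) = (LP (LK LD1_c1 LD2_c3 LD3_c5)) :=
  Lgr Lrot25 (Lpr_bt (f20714 IH) (Lpr_ft (K22.f334511 IH) (Lpr_bt (K12.f20713 IH) (Lpn (LP (LK LD1_c1 LD2_c3 LD3_c5))))))
theorem f334560 : Led Lsl_ff (LP (LK LD1_c0 LD2_c36 LD3_c29)) = (LP (LK LD1_c0 LD2_c39 LD3_c35)) :=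
  Lgr Lrot72 (Lpr_et (f334557 IH) (Lpr_ft (K22.f334553 IH) (Lpr_et (K12.f20754 IH) (Lpe (f334513 IH) (Lpr_et (f20747 IH) (Lpn (LP (LK LD1_c0 LD2_c39 LD3_c35))))))))
theorem f20750 : Led Lsl_ft (LP (LK LD1_c1 LD2_c3 LD3_c7)) = (LP (LK LD1_c0 LD2_c28 LD3_c46)) :=
  Lre_f IH (LK LD1_c1 LD2_c3 LD3_c7) (LK LD1_c0 LD2_c28 LD3_c46) Lrfl Lrfl
theorem f396353 : Led Lsl_dt (LP (LK LD1_c0 LD2_c36 LD3_c29)) = (LP (LK LD1_c1 LD2_c3 LD3_c7)) :=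
  Lgr Lrot60 (Lpr_ff (f334560 IH) (Lpe (K10.f20745 IH) (Lpe (f20750 IH) (Lpn (LP (LK LD1_c1 LD2_c3 LD3_c7))))))
theorem f313416 : Led Lsl_df (LP (LK LD1_c1 LD2_c9 LD3_c17)) = (LP (LK LD1_c0 LD2_c36 LD3_c26)) :=
  Lgr Lrot84 (Lpr_cf (K19.f313407 IH) (Lpe (K19.f197384 IH) (Lpe (K31.f211252 IH) (Lpe (K13.f3082 IH) (Lpe (K10.f3080 IH) (Lpe (K10.f197387 IH) (Lpr_gt (K10.f171762 IH) (Lpr_dt (K22.f197382 IH) (Lpr_gt (K13.f172036 IH) (Lpn (LP (LK LD1_c0 LD2_c36 LD3_c26))))))))))))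
theorem f225439 : Led Lsl_gt (LP (LK LD1_c0 LD2_c36 LD3_c51)) = (LP (LK LD1_c1 LD2_c19 LD3_c40)) :=
  Lre_g IH (LK LD1_c0 LD2_c36 LD3_c51) (LK LD1_c1 LD2_c19 LD3_c40) Lrfl Lrfl
theorem f396355 : Led Lsl_ef (LP (LK LD1_c1 LD2_c19 LD3_c40)) = (LP (LK LD1_c1 LD2_c12 LD3_c45)) :=
  Lgr Lrot17 (Lpe (f225439 IH) (Lpe (f313404 IH) (Lpr_dt (K18.f193683 IH) (Lpe (K19.f313414 IH) (Lpr_df (f313416 IH) (Lpe (K13.f172036 IH) (Lpe (f334557 IH) (Lpr_dt (f396353 IH) (Lpr_gf (K20.f313489 IH) (Lpe (f182024 IH) (Lpn (LP (LK LD1_c1 LD2_c12 LD3_c45)))))))))))))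
theorem f396359 : Led Lsl_et (LP (LK LD1_c1 LD2_c19 LD3_c40)) = (LP (LK LD1_c1 LD2_c12 LD3_c45)) :=
  Lgr Lrot87 (Lpr_ef (f396355 IH) (Lpn (LP (LK LD1_c1 LD2_c12 LD3_c45))))
theorem f169099 : Led Lsl_bt (LP (LK LD1_c0 LD2_c17 LD3_c43)) = (LP (LK LD1_c0 LD2_c39 LD3_c28)) :=
  Lre_b IH (LK LD1_c0 LD2_c17 LD3_c43) (LK LD1_c0 LD2_c39 LD3_c28) Lrfl Lrfl
theorem f186829 : Led Lsl_ef (LP (LK LD1_c1 LD2_c24 LD3_c46)) = (LP (LK LD1_c1 LD2_c13 LD3_c26)) :=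
  Lgr Lrot88 (Lpr_et (K10.f186824 IH) (Lpn (LP (LK LD1_c1 LD2_c13 LD3_c26))))
theorem f20579 : Led Lsl_ef (LP (LK LD1_c0 LD2_c39 LD3_c33)) = (LP (LK LD1_c1 LD2_c5 LD3_c15)) :=
  Lgr Lrot28 (Lpr_ct (K9.f20577 IH) (Lpr_et (K0.f20570 IH) (Lpr_ct (K10.f20578 IH) (Lpn (LP (LK LD1_c1 LD2_c5 LD3_c15))))))
theorem f194057 : Led Lsl_gf (LP (LK LD1_c1 LD2_c12 LD3_c32)) = (LP (LK LD1_c0 LD2_c39 LD3_c33)) :=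
  Lgr Lrot141 (Lpe (K18.f53200 IH) (Lpr_dt (K10.f53189 IH) (Lpr_gt (K10.f194044 IH) (Lpe (K18.f194040 IH) (Lpe (f186829 IH) (Lpr_gt (K10.f26687 IH) (Lpe (K10.f26688 IH) (Lpr_gt (K10.f26686 IH) (Lpe (K10.f26702 IH) (Lpe (f20579 IH) (Lpn (LP (LK LD1_c0 LD2_c39 LD3_c33)))))))))))))
theorem f227305 : Led Lsl_bf (LP (LK LD1_c1 LD2_c59 LD3_c28)) = (LP (LK LD1_c0 LD2_c56 LD3_c59)) :=
  Lgr Lrot96 (Lpr_et (K12.f227303 IH) (Lpr_bt (K11.f53192 IH) (Lpe (K9.f183210 IH) (Lpn (LP (LK LD1_c0 LD2_c56 LD3_c59))))))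
theorem f315134 : Led Lsl_bf (LP (LK LD1_c1 LD2_c12 LD3_c45)) = (LP (LK LD1_c1 LD2_c57 LD3_c57)) :=
  Lgr Lrot156 (Lpr_gt (f315132 IH) (Lpe (f169099 IH) (Lpr_ct (K9.f45992 IH) (Lpe (f194057 IH) (Lpe (K10.f183212 IH) (Lpe (f227305 IH) (Lpr_gt (K12.f60717 IH) (Lpr_ct (K13.f192977 IH) (Lpr_gt (K20.f262416 IH) (Lpe (K10.f194126 IH) (Lpn (LP (LK LD1_c1 LD2_c57 LD3_c57)))))))))))))
theorem f315136 : Led Lsl_bt (LP (LK LD1_c1 LD2_c12 LD3_c45)) = (LP (LK LD1_c1 LD2_c57 LD3_c57)) :=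
  Lgr Lrot127 (Lpr_bf (f315134 IH) (Lpn (LP (LK LD1_c1 LD2_c57 LD3_c57))))
theorem f396363 : Led Lsl_bf (LP (LK LD1_c1 LD2_c19 LD3_c40)) = (LP (LK LD1_c2 LD2_c18 LD3_c51)) :=
  Lgr Lrot96 (Lpr_et (f396359 IH) (Lpr_bt (f315136 IH) (Lpe (K13.f242595 IH) (Lpn (LP (LK LD1_c2 LD2_c18 LD3_c51))))))
theorem f240629 : Led Lsl_et (LP (LK LD1_c0 LD2_c33 LD3_c43)) = (LP (LK LD1_c1 LD2_c12 LD3_c46)) :=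
  Lre_e IH (LK LD1_c0 LD2_c33 LD3_c43) (LK LD1_c1 LD2_c12 LD3_c46) Lrfl Lrfl
theorem f31591 : Led Lsl_et (LP (LK LD1_c2 LD2_c24 LD3_c46)) = (LP (LK LD1_c1 LD2_c9 LD3_c33)) :=
  Lre_e IH (LK LD1_c2 LD2_c24 LD3_c46) (LK LD1_c1 LD2_c9 LD3_c33) Lrfl Lrfl
theorem f240630 : Led Lsl_bt (LP (LK LD1_c1 LD2_c12 LD3_c46)) = (LP (LK LD1_c2 LD2_c24 LD3_c46)) :=
  Lgr Lrot119 (Lpe (f240629 IH) (Lpr_bf (K20.f240625 IH) (Lpe (f31591 IH) (Lpn (LP (LK LD1_c2 LD2_c24 LD3_c46))))))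
theorem f396365 : Led Lsl_ft (LP (LK LD1_c1 LD2_c19 LD3_c40)) = (LP (LK LD1_c1 LD2_c12 LD3_c46)) :=
  Lgr Lrot75 (Lpr_bf (f396363 IH) (Lpe (K20.f315216 IH) (Lpe (f240630 IH) (Lpn (LP (LK LD1_c1 LD2_c12 LD3_c46))))))
theorem f346798 : Led Lsl_ff (LP (LK LD1_c3 LD2_c59 LD3_c58)) = (LP (LK LD1_c2 LD2_c24 LD3_c45)) :=
  Lgr Lrot19 (Lpe (K12.f225010 IH) (Lpr_ft (K23.f346794 IH) (Lpe (K19.f239307 IH) (Lpn (LP (LK LD1_c2 LD2_c24 LD3_c45))))))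
theorem f346804 : Led Lsl_ft (LP (LK LD1_c1 LD2_c56 LD3_c38)) = (LP (LK LD1_c1 LD2_c9 LD3_c31)) :=
  Lgr Lrot4 (Lpe (K10.f28789 IH) (Lpr_ff (f346798 IH) (Lpe (K13.f31572 IH) (Lpn (LP (LK LD1_c1 LD2_c9 LD3_c31))))))
theorem f346901 : Led Lsl_af (LP (LK LD1_c1 LD2_c12 LD3_c44)) = (LP (LK LD1_c1 LD2_c9 LD3_c31)) :=
  Lgr Lrot31 (Lpe (K13.f204952 IH) (Lpe (K10.f192634 IH) (Lpr_ft (f346804 IH) (Lpn (LP (LK LD1_c1 LD2_c9 LD3_c31))))))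
theorem f204980 : Led Lsl_bt (LP (LK LD1_c0 LD2_c33 LD3_c41)) = (LP (LK LD1_c1 LD2_c12 LD3_c44)) :=
  Lre_b IH (LK LD1_c0 LD2_c33 LD3_c41) (LK LD1_c1 LD2_c12 LD3_c44) Lrfl Lrfl
theorem f313573 : Led Lsl_ff (LP (LK LD1_c1 LD2_c9 LD3_c30)) = (LP (LK LD1_c1 LD2_c12 LD3_c44)) :=
  Lgr Lrot25 (Lpr_bt (K19.f190260 IH) (Lpr_ft (K19.f313569 IH) (Lpr_bt (f204980 IH) (Lpn (LP (LK LD1_c1 LD2_c12 LD3_c44))))))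
theorem f346903 : Led Lsl_at (LP (LK LD1_c1 LD2_c9 LD3_c30)) = (LP (LK LD1_c1 LD2_c56 LD3_c38)) :=
  Lgr Lrot66 (Lpr_ff (f313573 IH) (Lpr_af (f346901 IH) (Lpe (f346804 IH) (Lpn (LP (LK LD1_c1 LD2_c56 LD3_c38))))))
theorem f346905 : Led Lsl_af (LP (LK LD1_c0 LD2_c32 LD3_c0)) = (LP (LK LD1_c0 LD2_c55 LD3_c4)) :=
  Lgr Lrot117 (Lpr_dt (K11.f31054 IH) (Lpr_at (f346903 IH) (Lpr_dt (K10.f28792 IH) (Lpn (LP (LK LD1_c0 LD2_c55 LD3_c4))))))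
theorem f346909 : Led Lsl_at (LP (LK LD1_c0 LD2_c55 LD3_c34)) = (LP (LK LD1_c0 LD2_c25 LD3_c37)) :=
  Lgr Lrot80 (Lpe (K11.f211236 IH) (Lpr_af (f346905 IH) (Lpe (K10.f53095 IH) (Lpn (LP (LK LD1_c0 LD2_c25 LD3_c37))))))
theorem f314091 : Led Lsl_ft (LP (LK LD1_c0 LD2_c25 LD3_c37)) = (LP (LK LD1_c0 LD2_c55 LD3_c32)) :=
  Lgr Lrot4 (Lpe (K15.f53097 IH) (Lpr_ff (K19.f314089 IH) (Lpe (K11.f52691 IH) (Lpn (LP (LK LD1_c0 LD2_c55 LD3_c32))))))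
theorem f315276 : Led Lsl_ff (LP (LK LD1_c0 LD2_c25 LD3_c12)) = (LP (LK LD1_c0 LD2_c11 LD3_c24)) :=
  Lgr Lrot72 (Lpr_et (K12.f182382 IH) (Lpr_ft (K20.f211593 IH) (Lpr_et (K20.f315270 IH) (Lpr_ft (K13.f192803 IH) (Lpr_et (K10.f28162 IH) (Lpn (LP (LK LD1_c0 LD2_c11 LD3_c24))))))))
theorem f315280 : Led Lsl_ft (LP (LK LD1_c0 LD2_c25 LD3_c12)) = (LP (LK LD1_c0 LD2_c11 LD3_c24)) :=
  Lgr Lrot75 (Lpr_bf (K12.f216399 IH) (Lpr_ff (f315276 IH) (Lpr_bf (K10.f192801 IH) (Lpn (LP (LK LD1_c0 LD2_c11 LD3_c24))))))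
theorem f314769 : Led Lsl_ff (LP (LK LD1_c0 LD2_c11 LD3_c23)) = (LP (LK LD1_c0 LD2_c25 LD3_c13)) :=
  Lgr Lrot23 (Lpr_ct (K12.f53084 IH) (Lpr_ft (K19.f314767 IH) (Lpr_ct (K9.f182174 IH) (Lpn (LP (LK LD1_c0 LD2_c25 LD3_c13))))))
theorem f315282 : Led Lsl_af (LP (LK LD1_c0 LD2_c25 LD3_c12)) = (LP (LK LD1_c0 LD2_c11 LD3_c23)) :=
  Lgr Lrot45 (Lpr_ft (f315280 IH) (Lpr_at (K20.f314779 IH) (Lpe (f314769 IH) (Lpn (LP (LK LD1_c0 LD2_c11 LD3_c23))))))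
theorem f315286 : Led Lsl_at (LP (LK LD1_c0 LD2_c55 LD3_c32)) = (LP (LK LD1_c0 LD2_c25 LD3_c34)) :=
  Lgr Lrot51 (Lpe (K12.f28572 IH) (Lpr_af (f315282 IH) (Lpe (K12.f53089 IH) (Lpn (LP (LK LD1_c0 LD2_c25 LD3_c34))))))
theorem f346911 : Led Lsl_ff (LP (LK LD1_c0 LD2_c55 LD3_c34)) = (LP (LK LD1_c0 LD2_c25 LD3_c34)) :=
  Lgr Lrot30 (Lpr_at (f346909 IH) (Lpr_ft (f314091 IH) (Lpr_at (f315286 IH) (Lpn (LP (LK LD1_c0 LD2_c25 LD3_c34))))))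
theorem f313579 : Led Lsl_ft (LP (LK LD1_c0 LD2_c32 LD3_c0)) = (LP (LK LD1_c0 LD2_c33 LD3_c40)) :=
  Lgr Lrot75 (Lpr_bf (K10.f190254 IH) (Lpr_ff (K19.f313575 IH) (Lpe (K9.f165182 IH) (Lpn (LP (LK LD1_c0 LD2_c33 LD3_c40))))))
theorem f346913 : Led Lsl_ft (LP (LK LD1_c1 LD2_c10 LD3_c15)) = (LP (LK LD1_c0 LD2_c56 LD3_c24)) :=
  Lgr Lrot86 (Lpe (K13.f242589 IH) (Lpe (f313579 IH) (Lpr_ef (K11.f211230 IH) (Lpr_ff (f346911 IH) (Lpe (K12.f197269 IH) (Lpn (LP (LK LD1_c0 LD2_c56 LD3_c24))))))))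
theorem f346917 : Led Lsl_ff (LP (LK LD1_c0 LD2_c33 LD3_c42)) = (LP (LK LD1_c1 LD2_c3 LD3_c6)) :=
  Lgr Lrot25 (Lpr_bt (K16.f242583 IH) (Lpr_ft (f346913 IH) (Lpr_bt (K16.f240308 IH) (Lpn (LP (LK LD1_c1 LD2_c3 LD3_c6))))))
theorem f314075 : Led Lsl_at (LP (LK LD1_c0 LD2_c25 LD3_c34)) = (LP (LK LD1_c0 LD2_c55 LD3_c32)) :=
  Lgr Lrot107 (Lpe (K13.f53082 IH) (Lpr_af (K19.f314069 IH) (Lpe (K11.f52691 IH) (Lpn (LP (LK LD1_c0 LD2_c55 LD3_c32))))))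
theorem f240312 : Led Lsl_bf (LP (LK LD1_c0 LD2_c25 LD3_c34)) = (LP (LK LD1_c0 LD2_c31 LD3_c47)) :=
  Lgr Lrot90 (Lpr_ct (K12.f53080 IH) (Lpr_bt (K25.f240310 IH) (Lpe (K9.f181873 IH) (Lpr_bt (K16.f21246 IH) (Lpr_ct (K22.f237380 IH) (Lpn (LP (LK LD1_c0 LD2_c31 LD3_c47))))))))
theorem f200639 : Led Lsl_bf (LP (LK LD1_c0 LD2_c31 LD3_c47)) = (LP (LK LD1_c0 LD2_c25 LD3_c34)) :=
  Lgr Lrot93 (Lpr_dt (K19.f2917 IH) (Lpr_bt (K11.f200633 IH) (Lpr_dt (K9.f28913 IH) (Lpn (LP (LK LD1_c0 LD2_c25 LD3_c34))))))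
theorem f315288 : Led Lsl_af (LP (LK LD1_c0 LD2_c31 LD3_c47)) = (LP (LK LD1_c0 LD2_c31 LD3_c47)) :=
  Lgr Lrot36 (Lpe (f240312 IH) (Lpr_at (f314075 IH) (Lpr_bt (K12.f216401 IH) (Lpr_at (f315286 IH) (Lpe (f200639 IH) (Lpn (LP (LK LD1_c0 LD2_c31 LD3_c47))))))))
theorem f197364 : Led Lsl_et (LP (LK LD1_c0 LD2_c31 LD3_c47)) = (LP (LK LD1_c1 LD2_c3 LD3_c6)) :=
  Lgr Lrot121 (Lpr_dt (K19.f2917 IH) (Lpe (K11.f2915 IH) (Lpr_df (K0.f2909 IH) (Lpr_et (K0.f2890 IH) (Lpr_gf (K0.f2896 IH) (Lpe (K0.f2905 IH) (Lpr_dt (K2.f2906 IH) (Lpr_gf (K10.f197355 IH) (Lpe (K10.f20745 IH) (Lpe (K16.f20752 IH) (Lpn (LP (LK LD1_c1 LD2_c3 LD3_c6)))))))))))))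
theorem f197366 : Led Lsl_ef (LP (LK LD1_c0 LD2_c31 LD3_c47)) = (LP (LK LD1_c1 LD2_c3 LD3_c6)) :=
  Lgr Lrot88 (Lpr_et (f197364 IH) (Lpn (LP (LK LD1_c1 LD2_c3 LD3_c6))))
theorem f315290 : Led Lsl_at (LP (LK LD1_c1 LD2_c3 LD3_c6)) = (LP (LK LD1_c1 LD2_c3 LD3_c6)) :=
  Lgr Lrot80 (Lpe (f197364 IH) (Lpr_af (f315288 IH) (Lpr_ef (f197366 IH) (Lpn (LP (LK LD1_c1 LD2_c3 LD3_c6))))))
theorem f313627 : Led Lsl_ff (LP (LK LD1_c1 LD2_c3 LD3_c6)) = (LP (LK LD1_c0 LD2_c33 LD3_c42)) :=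
  Lgr Lrot23 (Lpe (K16.f200665 IH) (Lpr_ft (K19.f313621 IH) (Lpr_ct (K19.f182022 IH) (Lpn (LP (LK LD1_c0 LD2_c33 LD3_c42))))))
theorem f346919 : Led Lsl_at (LP (LK LD1_c0 LD2_c33 LD3_c42)) = (LP (LK LD1_c0 LD2_c33 LD3_c42)) :=
  Lgr Lrot66 (Lpr_ff (f346917 IH) (Lpe (f315290 IH) (Lpr_ff (f313627 IH) (Lpn (LP (LK LD1_c0 LD2_c33 LD3_c42))))))
theorem f346923 : Led Lsl_af (LP (LK LD1_c1 LD2_c12 LD3_c45)) = (LP (LK LD1_c1 LD2_c12 LD3_c45)) :=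
  Lgr Lrot117 (Lpr_dt (f182024 IH) (Lpr_at (f346919 IH) (Lpr_dt (f165505 IH) (Lpn (LP (LK LD1_c1 LD2_c12 LD3_c45))))))
theorem f396361 : Led Lsl_af (LP (LK LD1_c1 LD2_c19 LD3_c40)) = (LP (LK LD1_c1 LD2_c19 LD3_c40)) :=
  Lgr Lrot50 (Lpr_et (f396359 IH) (Lpe (f346923 IH) (Lpe (f396355 IH) (Lpn (LP (LK LD1_c1 LD2_c19 LD3_c40))))))
theorem f315146 : Led Lsl_at (LP (LK LD1_c0 LD2_c33 LD3_c44)) = (LP (LK LD1_c0 LD2_c33 LD3_c44)) :=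
  Lgr Lrot26 (Lpr_ff (K20.f315140 IH) (Lpr_gt (K20.f165469 IH) (Lpr_gt (K10.f165230 IH) (Lpn (LP (LK LD1_c0 LD2_c33 LD3_c44))))))
theorem f315150 : Led Lsl_af (LP (LK LD1_c0 LD2_c33 LD3_c43)) = (LP (LK LD1_c0 LD2_c33 LD3_c43)) :=
  Lgr Lrot45 (Lpe (K20.f315140 IH) (Lpr_at (f315146 IH) (Lpr_ft (K20.f315144 IH) (Lpn (LP (LK LD1_c0 LD2_c33 LD3_c43))))))
theorem f37152 : Led Lsl_et (LP (LK LD1_c1 LD2_c12 LD3_c46)) = (LP (LK LD1_c0 LD2_c33 LD3_c43)) :=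
  Lre_e IH (LK LD1_c1 LD2_c12 LD3_c46) (LK LD1_c0 LD2_c33 LD3_c43) Lrfl Lrfl
theorem f315152 : Led Lsl_at (LP (LK LD1_c1 LD2_c12 LD3_c46)) = (LP (LK LD1_c1 LD2_c12 LD3_c46)) :=
  Lgr Lrot80 (Lpe (f240629 IH) (Lpr_af (f315150 IH) (Lpe (f37152 IH) (Lpn (LP (LK LD1_c1 LD2_c12 LD3_c46))))))
theorem f396367 : Led Lsl_ff (LP (LK LD1_c1 LD2_c19 LD3_c40)) = (LP (LK LD1_c1 LD2_c12 LD3_c46)) :=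
  Lgr Lrot30 (Lpe (f396361 IH) (Lpr_ft (f396365 IH) (Lpr_at (f315152 IH) (Lpn (LP (LK LD1_c1 LD2_c12 LD3_c46))))))
theorem f396369 : Led Lsl_gf (LP (LK LD1_c0 LD2_c36 LD3_c51)) = (LP (LK LD1_c1 LD2_c12 LD3_c46)) :=
  Lgr Lrot47 (Lpr_gt (f225439 IH) (Lpr_af (f396361 IH) (Lpr_ff (f396367 IH) (Lpn (LP (LK LD1_c1 LD2_c12 LD3_c46))))))
theorem f315138 : Led Lsl_df (LP (LK LD1_c1 LD2_c9 LD3_c16)) = (LP (LK LD1_c0 LD2_c33 LD3_c43)) :=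
  Lgr Lrot38 (Lpr_dt (K20.f315128 IH) (Lpn (LP (LK LD1_c0 LD2_c33 LD3_c43))))
theorem f272476 : Led Lsl_et (LP (LK LD1_c1 LD2_c3 LD3_c58)) = (LP (LK LD1_c2 LD2_c13 LD3_c50)) :=
  Lre_e IH (LK LD1_c1 LD2_c3 LD3_c58) (LK LD1_c2 LD2_c13 LD3_c50) Lrfl Lrfl
theorem f272477 : Led Lsl_bt (LP (LK LD1_c2 LD2_c13 LD3_c50)) = (LP (LK LD1_c3 LD2_c3 LD3_c48)) :=
  Lgr Lrot119 (Lpe (f272476 IH) (Lpr_bf (K31.f272472 IH) (Lpe (K13.f204817 IH) (Lpn (LP (LK LD1_c3 LD2_c3 LD3_c48))))))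
theorem f272479 : Led Lsl_bf (LP (LK LD1_c2 LD2_c13 LD3_c50)) = (LP (LK LD1_c3 LD2_c3 LD3_c48)) :=
  Lgr Lrot24 (Lpr_bt (f272477 IH) (Lpn (LP (LK LD1_c3 LD2_c3 LD3_c48))))
theorem f176687 : Led Lsl_bt (LP (LK LD1_c2 LD2_c17 LD3_c57)) = (LP (LK LD1_c1 LD2_c5 LD3_c57)) :=
  Lre_b IH (LK LD1_c2 LD2_c17 LD3_c57) (LK LD1_c1 LD2_c5 LD3_c57) Lrfl Lrfl
theorem f198045 : Led Lsl_bf (LP (LK LD1_c4 LD2_c27 LD3_c2)) = (LP (LK LD1_c2 LD2_c17 LD3_c58)) :=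
  Lgr Lrot93 (Lpr_dt (K10.f198043 IH) (Lpr_bt (f176687 IH) (Lpr_dt (K10.f25954 IH) (Lpn (LP (LK LD1_c2 LD2_c17 LD3_c58))))))
theorem f151859 : Led Lsl_dt (LP (LK LD1_c1 LD2_c4 LD3_c29)) = (LP (LK LD1_c2 LD2_c14 LD3_c44)) :=
  Lre_d IH (LK LD1_c1 LD2_c4 LD3_c29) (LK LD1_c2 LD2_c14 LD3_c44) Lrfl Lrfl
theorem f3158 : Led Lsl_bt (LP (LK LD1_c0 LD2_c33 LD3_c38)) = (LP (LK LD1_c1 LD2_c12 LD3_c37)) :=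
  Lre_b IH (LK LD1_c0 LD2_c33 LD3_c38) (LK LD1_c1 LD2_c12 LD3_c37) Lrfl Lrfl
theorem f151788 : Led Lsl_et (LP (LK LD1_c1 LD2_c4 LD3_c29)) = (LP (LK LD1_c0 LD2_c33 LD3_c38)) :=
  Lgr Lrot74 (Lpe (K7.f20329 IH) (Lpr_ef (K7.f151773 IH) (Lpe (f3158 IH) (Lpn (LP (LK LD1_c0 LD2_c33 LD3_c38))))))
theorem f211744 : Led Lsl_gt (LP (LK LD1_c2 LD2_c16 LD3_c44)) = (LP (LK LD1_c2 LD2_c45 LD3_c11)) :=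
  Lgr Lrot131 (Lpe (K17.f177169 IH) (Lpr_dt (K9.f164163 IH) (Lpr_gf (K10.f186658 IH) (Lpe (K10.f186660 IH) (Lpe (K10.f186664 IH) (Lpe (f151788 IH) (Lpr_dt (f151859 IH) (Lpr_gf (K12.f151850 IH) (Lpr_df (K12.f211734 IH) (Lpr_et (K12.f211733 IH) (Lpn (LP (LK LD1_c2 LD2_c45 LD3_c11)))))))))))))
theorem f272481 : Led Lsl_gt (LP (LK LD1_c2 LD2_c13 LD3_c50)) = (LP (LK LD1_c2 LD2_c16 LD3_c42)) :=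
  Lgr Lrot164 (Lpr_bf (f272479 IH) (Lpe (K13.f204821 IH) (Lpe (K13.f241208 IH) (Lpe (K10.f101300 IH) (Lpe (K10.f198033 IH) (Lpr_bf (f198045 IH) (Lpr_ct (K12.f211724 IH) (Lpe (f211744 IH) (Lpe (K10.f26691 IH) (Lpr_bt (K10.f177646 IH) (Lpn (LP (LK LD1_c2 LD2_c16 LD3_c42)))))))))))))
theorem f452761 : Led Lsl_dt (LP (LK LD1_c1 LD2_c3 LD3_c58)) = v422 :=
  Lgr Lrot56 (Lpr_et (f272476 IH) (Lpr_gt (f272481 IH) (Lpe (f177167 IH) (Lpr_dt (K10.f177635 IH) (Lpe (K20.f315126 IH) (Lpr_df (f315138 IH) (Lpr_et (f240629 IH) (Lpe (f396369 IH) (Lpr_dt (f452530 IH) (Lpr_gt (f452759 IH) (Lpn v422)))))))))))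
theorem f500267 : Led Lsl_df (LP (LK LD1_c2 LD2_c13 LD3_c50)) = v1596 :=
  Lgr Lrot70 (Lpr_et (f198455 IH) (Lpr_dt (f452761 IH) (Lpe (f452758 IH) (Lpr_dt (K31.f24590 IH) (Lpr_et (f500265 IH) (Lpn v1596))))))
def v1458 : LQ := Led Lsl_et (LP (LK LD1_c1 LD2_c18 LD3_c61))
theorem f495673 : Led Lsl_et (LP (LK LD1_c1 LD2_c18 LD3_c61)) = v1458 :=
  Lrfl
theorem f196288 : Led Lsl_ff (LP (LK LD1_c1 LD2_c18 LD3_c61)) = (LP (LK LD1_c1 LD2_c9 LD3_c12)) :=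
  Lgr Lrot23 (Lpr_ct (K13.f196269 IH) (Lpr_ft (K10.f196284 IH) (Lpr_ct (K8.f2966 IH) (Lpn (LP (LK LD1_c1 LD2_c9 LD3_c12))))))
theorem f6914 : Led Lsl_et (LP (LK LD1_c0 LD2_c31 LD3_c44)) = (LP (LK LD1_c1 LD2_c9 LD3_c12)) :=
  Lre_e IH (LK LD1_c0 LD2_c31 LD3_c44) (LK LD1_c1 LD2_c9 LD3_c12) Lrfl Lrfl
theorem f495676 : Led Lsl_ff v395 = v1458 :=
  Lgr Lrot72 (Lpe (f452622 IH) (Lpe (f80859 IH) (Lpr_et (f6914 IH) (Lpe (f196288 IH) (Lpr_et (f495673 IH) (Lpn v1458))))))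
theorem f80861 : Led Lsl_af (LP (LK LD1_c0 LD2_c37 LD3_c41)) = (LP (LK LD1_c0 LD2_c37 LD3_c41)) :=
  Lgr Lrot31 (Lpe (K1.f37984 IH) (Lpr_gf (K0.f34688 IH) (Lpr_ft (K8.f80855 IH) (Lpn (LP (LK LD1_c0 LD2_c37 LD3_c41))))))
theorem f452623 : Led Lsl_at v395 = v395 :=
  Lgr Lrot80 (Lpe (f452620 IH) (Lpr_af (f80861 IH) (Lpr_ef (f452622 IH) (Lpn v395))))
theorem f241263 : Led Lsl_bf (LP (LK LD1_c1 LD2_c27 LD3_c49)) = (LP (LK LD1_c1 LD2_c27 LD3_c34)) :=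
  Lgr Lrot96 (Lpr_et (K13.f241261 IH) (Lpe (K13.f190284 IH) (Lpe (K12.f175000 IH) (Lpn (LP (LK LD1_c1 LD2_c27 LD3_c34))))))
theorem f490687 : Led Lsl_gf v395 = v948 :=
  Lgr Lrot129 (Lpe (f452624 IH) (Lpr_bt (f198461 IH) (Lpr_gt (K13.f37972 IH) (Lpr_bf (f241263 IH) (Lpr_ct (K12.f101492 IH) (Lpr_gt (K12.f227879 IH) (Lpe (K1.f36721 IH) (Lpe (K10.f196255 IH) (Lpr_gt (f448983 IH) (Lpr_ct (f490685 IH) (Lpn v948)))))))))))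
theorem f495679 : Led Lsl_gf v948 = v1458 :=
  Lgr Lrot47 (Lpe (f490687 IH) (Lpe (f452623 IH) (Lpr_ff (f495676 IH) (Lpn v1458))))
theorem f495680 : Led Lsl_gt v1283 = v1458 :=
  Lgr Lrot5 (Lpe (f494607 IH) (Lpr_at (f490688 IH) (Lpr_gf (f495679 IH) (Lpn v1458))))
def v2842 : LQ := Led Lsl_et v359
theorem f535909 : Led Lsl_et v359 = v2842 :=
  Lrfl
theorem f535911 : Led Lsl_ef v359 = v2842 :=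
  Lgr Lrot88 (Lpr_et (f535909 IH) (Lpn v2842))
theorem f535913 : Led Lsl_dt v1458 = v2842 :=
  Lgr Lrot77 (Lpe (f495673 IH) (Lpe (K13.f197389 IH) (Lpe (f6914 IH) (Lpr_df (f452405 IH) (Lpr_ef (f535911 IH) (Lpn v2842))))))
theorem f452406 : Led Lsl_gf (LP (LK LD1_c1 LD2_c3 LD3_c56)) = v359 :=
  Lgr Lrot143 (Lpr_dt (f37096 IH) (Lpe (K11.f21216 IH) (Lpe (K1.f37094 IH) (Lpe (K1.f37089 IH) (Lpe (K1.f3051 IH) (Lpe (K0.f34686 IH) (Lpe (K1.f34681 IH) (Lpr_gt (K12.f38629 IH) (Lpr_dt (f452404 IH) (Lpn v359))))))))))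
theorem f448927 : Led Lsl_ct (LP (LK LD1_c1 LD2_c3 LD3_c56)) = v112 :=
  Lgr Lrot59 (Lpr_cf (f448926 IH) (Lpn v112))
theorem f422784 : Led Lsl_dt (LP (LK LD1_c0 LD2_c29 LD3_c10)) = (LP (LK LD1_c1 LD2_c3 LD3_c56)) :=
  Lre_d IH (LK LD1_c0 LD2_c29 LD3_c10) (LK LD1_c1 LD2_c3 LD3_c56) Lrfl Lrfl
theorem f422785 : Led Lsl_at (LP (LK LD1_c1 LD2_c3 LD3_c56)) = (LP (LK LD1_c1 LD2_c3 LD3_c56)) :=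
  Lgr Lrot51 (Lpe (f422784 IH) (Lpr_af (f422782 IH) (Lpe (f37096 IH) (Lpn (LP (LK LD1_c1 LD2_c3 LD3_c56))))))
theorem f448925 : Led Lsl_ff (LP (LK LD1_c1 LD2_c3 LD3_c56)) = v112 :=
  Lgr Lrot19 (Lpr_dt (f37096 IH) (Lpe (f437515 IH) (Lpr_dt (f448923 IH) (Lpn v112))))
theorem f452407 : Led Lsl_gt v112 = v359 :=
  Lgr Lrot5 (Lpe (f448925 IH) (Lpr_at (f422785 IH) (Lpr_gf (f452406 IH) (Lpn v359))))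
theorem f452617 : Led Lsl_ct v359 = v394 :=
  Lgr Lrot151 (Lpe (f452407 IH) (Lpe (f448927 IH) (Lpr_gf (f452406 IH) (Lpe (f452405 IH) (Lpe (K0.f34688 IH) (Lpr_ct (K1.f6724 IH) (Lpe (K1.f37310 IH) (Lpr_ct (K1.f37125 IH) (Lpr_dt (f452611 IH) (Lpn v394))))))))))
theorem f536156 : Led Lsl_cf v2842 = v2911 :=
  Lgr Lrot39 (Lpe (f535911 IH) (Lpr_ct (f452617 IH) (Lpr_et (f536155 IH) (Lpn v2911))))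
theorem f536618 : (LP (LK LD1_c2 LD2_c13 LD3_c50)) = v2911 :=
  (Llr Lrot105 (Lpr_df (f500267 IH) (Lpe (f500270 IH) (Lpe (K10.f177732 IH) (Lpe (f198446 IH) (Lpr_cf (f452621 IH) (Lpr_gt (f494608 IH) (Lpr_dt (f536616 IH) (Lpr_gt (f495680 IH) (Lpr_dt (f535913 IH) (Lpr_cf (f536156 IH) (Lpn v2911)))))))))))).symm
theorem f536621 : v394 = (LP (LK LD1_c1 LD2_c3 LD3_c58)) :=
  Lefun (Lecon (Lfl_ef (f536157 IH)) (f536618 IH).symm) (f198455 IH)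
theorem f536623 : Led Lsl_gt (LP (LK LD1_c1 LD2_c3 LD3_c56)) = (LP (LK LD1_c1 LD2_c3 LD3_c58)) :=
  Leop (Lpq (f536621 IH) (Lpr_gf (f452616 IH) (Lpn (LP (LK LD1_c1 LD2_c3 LD3_c56)))))
theorem seed_242 : LEOK LG_g (LK LD1_c1 LD2_c3 LD3_c56) :=
  Leoe_g (LK LD1_c1 LD2_c3 LD3_c56) (f536623 IH)
def v494 : LQ := Led Lsl_at (LP (LK LD1_c0 LD2_c42 LD3_c35))
theorem f453617 : Led Lsl_at (LP (LK LD1_c0 LD2_c42 LD3_c35)) = v494 :=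
  Lrfl
def v3082 : LQ := Led Lsl_et v494
theorem f622770 : Led Lsl_et v494 = v3082 :=
  Lrfl
theorem f622772 : Led Lsl_ef v494 = v3082 :=
  Lgr Lrot88 (Lpr_et (f622770 IH) (Lpn v3082))
def v1309 : LQ := Led Lsl_et (LP (LK LD1_c1 LD2_c6 LD3_c51))
theorem f494745 : Led Lsl_et (LP (LK LD1_c1 LD2_c6 LD3_c51)) = v1309 :=
  Lrfl
theorem f494746 : Led Lsl_ef (LP (LK LD1_c1 LD2_c6 LD3_c51)) = v1309 :=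
  Lgr Lrot88 (Lpr_et (f494745 IH) (Lpn v1309))
def v495 : LQ := Led Lsl_et (LP (LK LD1_c0 LD2_c42 LD3_c35))
def v3084 : LQ := Led Lsl_ft v495
theorem f622775 : Led Lsl_ft v495 = v3084 :=
  Lrfl
theorem f622777 : Led Lsl_ff v495 = v3084 :=
  Lgr Lrot3 (Lpr_ft (f622775 IH) (Lpn v3084))
theorem f453621 : Led Lsl_et (LP (LK LD1_c0 LD2_c42 LD3_c35)) = v495 :=
  Lrfl
theorem f453622 : Led Lsl_ef (LP (LK LD1_c0 LD2_c42 LD3_c35)) = v495 :=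
  Lgr Lrot88 (Lpr_et (f453621 IH) (Lpn v495))
def v496 : LQ := Led Lsl_ft (LP (LK LD1_c0 LD2_c42 LD3_c35))
theorem f453623 : Led Lsl_ft (LP (LK LD1_c0 LD2_c42 LD3_c35)) = v496 :=
  Lrfl
def v1959 : LQ := Led Lsl_at (LP (LK LD1_c1 LD2_c32 LD3_c5))
theorem f506602 : Led Lsl_at (LP (LK LD1_c1 LD2_c32 LD3_c5)) = v1959 :=
  Lrfl
theorem f453618 : Led Lsl_af (LP (LK LD1_c0 LD2_c42 LD3_c35)) = v494 :=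
  Lgr Lrot0 (Lpr_at (f453617 IH) (Lpn v494))
theorem f453619 : Led Lsl_ft (LP (LK LD1_c0 LD2_c42 LD3_c36)) = v494 :=
  Lgr Lrot2 (Lpr_gt (K9.f67048 IH) (Lpr_gt (K17.f25849 IH) (Lpr_af (f453618 IH) (Lpn v494))))
theorem f453624 : Led Lsl_af (LP (LK LD1_c0 LD2_c42 LD3_c36)) = v496 :=
  Lgr Lrot45 (Lpr_ft (f453619 IH) (Lpe (f453618 IH) (Lpr_ft (f453623 IH) (Lpn v496))))
theorem f506605 : Led Lsl_ef v496 = v1959 :=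
  Lgr Lrot20 (Lpe (f453624 IH) (Lpr_et (f67201 IH) (Lpr_at (f506602 IH) (Lpn v1959))))
theorem f506606 : Led Lsl_et v496 = v1959 :=
  Lgr Lrot87 (Lpr_ef (f506605 IH) (Lpn v1959))
theorem f506603 : Led Lsl_af (LP (LK LD1_c1 LD2_c32 LD3_c5)) = v1959 :=
  Lgr Lrot0 (Lpr_at (f506602 IH) (Lpn v1959))
theorem f510417 : Led Lsl_ff v1959 = v2237 :=
  Lgr Lrot52 (Lpe (f506603 IH) (Lpr_gf (K24.f416535 IH) (Lpr_gf (f510415 IH) (Lpn v2237))))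
theorem f510421 : Led Lsl_ft v1959 = v2237 :=
  Lgr Lrot48 (Lpr_ff (f510417 IH) (Lpn v2237))
theorem f622778 : Led Lsl_et v2237 = v3084 :=
  Lgr Lrot69 (Lpe (f510421 IH) (Lpe (f506606 IH) (Lpe (f453623 IH) (Lpr_ef (f453622 IH) (Lpr_ff (f622777 IH) (Lpn v3084))))))
def v2823 : LQ := Led Lsl_dt v347
theorem f535771 : Led Lsl_dt v347 = v2823 :=
  Lrfl
theorem f535772 : Led Lsl_df v347 = v2823 :=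
  Lgr Lrot38 (Lpr_dt (f535771 IH) (Lpn v2823))
def v348 : LQ := Led Lsl_dt (LP (LK LD1_c0 LD2_c30 LD3_c48))
theorem f452335 : Led Lsl_dt (LP (LK LD1_c0 LD2_c30 LD3_c48)) = v348 :=
  Lrfl
theorem f452337 : Led Lsl_df (LP (LK LD1_c0 LD2_c30 LD3_c48)) = v348 :=
  Lgr Lrot38 (Lpr_dt (f452335 IH) (Lpn v348))
theorem f23401 : Led Lsl_dt (LP (LK LD1_c0 LD2_c30 LD3_c49)) = (LP (LK LD1_c0 LD2_c13 LD3_c41)) :=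
  Lre_d IH (LK LD1_c0 LD2_c30 LD3_c49) (LK LD1_c0 LD2_c13 LD3_c41) Lrfl Lrfl
theorem f452338 : Led Lsl_ef (LP (LK LD1_c0 LD2_c30 LD3_c49)) = v348 :=
  Lgr Lrot73 (Lpr_dt (f23401 IH) (Lpr_et (K2.f26014 IH) (Lpr_dt (K2.f22749 IH) (Lpr_et (K29.f27169 IH) (Lpr_dt (f452335 IH) (Lpn v348))))))
def v130 : LQ := Led Lsl_dt (LP (LK LD1_c0 LD2_c19 LD3_c16))
theorem f450626 : Led Lsl_dt (LP (LK LD1_c0 LD2_c19 LD3_c16)) = v130 :=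
  Lrfl
theorem f152660 : Led Lsl_gt (LP (LK LD1_c1 LD2_c6 LD3_c19)) = (LP (LK LD1_c0 LD2_c41 LD3_c54)) :=
  Lgr Lrot150 (Lpe (K7.f152645 IH) (Lpr_gf (K7.f152656 IH) (Lpr_df (K2.f25691 IH) (Lpr_gt (K2.f84011 IH) (Lpr_ct (K2.f67085 IH) (Lpr_gt (K1.f67079 IH) (Lpr_ct (K2.f25062 IH) (Lpr_df (K2.f83203 IH) (Lpe (K2.f83195 IH) (Lpn (LP (LK LD1_c0 LD2_c41 LD3_c54))))))))))))
theorem f26015 : Led Lsl_dt (LP (LK LD1_c0 LD2_c13 LD3_c41)) = (LP (LK LD1_c0 LD2_c30 LD3_c49)) :=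
  Lre_d IH (LK LD1_c0 LD2_c13 LD3_c41) (LK LD1_c0 LD2_c30 LD3_c49) Lrfl Lrfl
theorem f450631 : Led Lsl_gt (LP (LK LD1_c0 LD2_c30 LD3_c49)) = v130 :=
  Lgr Lrot112 (Lpe (f26015 IH) (Lpr_et (K2.f26014 IH) (Lpe (K5.f27188 IH) (Lpe (K2.f13535 IH) (Lpr_dt (K2.f83188 IH) (Lpe (f152660 IH) (Lpe (K16.f25912 IH) (Lpr_gf (K7.f154378 IH) (Lpe (K7.f83116 IH) (Lpr_dt (f450626 IH) (Lpn v130)))))))))))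
theorem f450628 : Led Lsl_df (LP (LK LD1_c0 LD2_c19 LD3_c16)) = v130 :=
  Lgr Lrot38 (Lpr_dt (f450626 IH) (Lpn v130))
def v82 : LQ := Led Lsl_dt (LP (LK LD1_c0 LD2_c8 LD3_c39))
theorem f446813 : Led Lsl_dt (LP (LK LD1_c0 LD2_c8 LD3_c39)) = v82 :=
  Lrfl
theorem f446815 : Led Lsl_df (LP (LK LD1_c0 LD2_c8 LD3_c39)) = v82 :=
  Lgr Lrot38 (Lpr_dt (f446813 IH) (Lpn v82))
def v268 : LQ := Led Lsl_dt K29.v81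
theorem f451467 : Led Lsl_dt K29.v81 = v268 :=
  Lrfl
theorem f23381 : Led Lsl_et (LP (LK LD1_c0 LD2_c8 LD3_c39)) = (LP (LK LD1_c0 LD2_c3 LD3_c56)) :=
  Lre_e IH (LK LD1_c0 LD2_c8 LD3_c39) (LK LD1_c0 LD2_c3 LD3_c56) Lrfl Lrfl
theorem f451469 : Led Lsl_ef v82 = v268 :=
  Lgr Lrot73 (Lpe (f446815 IH) (Lpr_et (f23381 IH) (Lpr_dt (K1.f23375 IH) (Lpr_et (K29.f446807 IH) (Lpr_dt (f451467 IH) (Lpn v268))))))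
theorem f451470 : Led Lsl_et v82 = v268 :=
  Lgr Lrot87 (Lpr_ef (f451469 IH) (Lpn v268))
def v1121 : LQ := Led Lsl_gt v268
theorem f491593 : Led Lsl_gt v268 = v1121 :=
  Lrfl
theorem f535773 : Led Lsl_ef v1121 = v2823 :=
  Lgr Lrot17 (Lpe (f491593 IH) (Lpe (f451470 IH) (Lpe (f446815 IH) (Lpe (K7.f23417 IH) (Lpr_df (f450628 IH) (Lpe (f450631 IH) (Lpr_ef (f452338 IH) (Lpe (f452337 IH) (Lpr_gf (f452333 IH) (Lpr_df (f535772 IH) (Lpn v2823)))))))))))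
theorem f535774 : Led Lsl_et v1121 = v2823 :=
  Lgr Lrot87 (Lpr_ef (f535773 IH) (Lpn v2823))
theorem f622779 : Led Lsl_df v1121 = v3084 :=
  Lgr Lrot70 (Lpr_et (f535774 IH) (Lpe (f535772 IH) (Lpr_et (f535775 IH) (Lpe (f535777 IH) (Lpr_et (f622778 IH) (Lpn v3084))))))
def v2826 : LQ := Led Lsl_gf v348
theorem f535826 : Led Lsl_gf v348 = v2826 :=
  Lrfl
theorem f61664 : Led Lsl_gf (LP (LK LD1_c0 LD2_c18 LD3_c29)) = (LP (LK LD1_c0 LD2_c13 LD3_c40)) :=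
  Lgr Lrot148 (Lpr_dt (K1.f25052 IH) (Lpr_gt (K1.f61633 IH) (Lpr_dt (K1.f7124 IH) (Lpe (K1.f58931 IH) (Lpr_df (K4.f58957 IH) (Lpr_gf (K1.f21175 IH) (Lpe (K2.f20602 IH) (Lpr_gf (K2.f20604 IH) (Lpr_ct (K0.f27155 IH) (Lpn (LP (LK LD1_c0 LD2_c13 LD3_c40))))))))))))
theorem f535828 : Led Lsl_dt v495 = v2826 :=
  Lgr Lrot136 (Lpe (f453622 IH) (Lpe (K17.f25849 IH) (Lpe (K11.f61678 IH) (Lpr_dt (K1.f58928 IH) (Lpe (K1.f61633 IH) (Lpe (K1.f25052 IH) (Lpr_gf (f61664 IH) (Lpe (K29.f61677 IH) (Lpr_dt (f452335 IH) (Lpr_gf (f535826 IH) (Lpn v2826)))))))))))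
theorem f535829 : Led Lsl_df v495 = v2826 :=
  Lgr Lrot38 (Lpr_dt (f535828 IH) (Lpn v2826))
theorem f622781 : Led Lsl_ft v1121 = v2826 :=
  Lgr Lrot54 (Lpr_df (f622779 IH) (Lpe (f622775 IH) (Lpr_df (f535829 IH) (Lpn v2826))))
def v2828 : LQ := Led Lsl_ft v348
theorem f535836 : Led Lsl_ft v348 = v2828 :=
  Lrfl
def v2825 : LQ := Led Lsl_gt v348
theorem f535823 : Led Lsl_gt v348 = v2825 :=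
  Lrfl
theorem f446816 : Led Lsl_ff v82 = v82 :=
  Lgr Lrot19 (Lpe (f446815 IH) (Lpr_ft (K3.f82538 IH) (Lpr_dt (f446813 IH) (Lpn v82))))
theorem f446814 : Led Lsl_af (LP (LK LD1_c0 LD2_c30 LD3_c49)) = v82 :=
  Lgr Lrot117 (Lpr_dt (f23401 IH) (Lpr_at (K7.f82265 IH) (Lpr_dt (f446813 IH) (Lpn v82))))
theorem f83106 : Led Lsl_ft (LP (LK LD1_c0 LD2_c30 LD3_c49)) = (LP (LK LD1_c0 LD2_c30 LD3_c49)) :=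
  Lgr Lrot54 (Lpe (f26015 IH) (Lpr_ff (K7.f82544 IH) (Lpe (f23401 IH) (Lpn (LP (LK LD1_c0 LD2_c30 LD3_c49))))))
theorem f446817 : Led Lsl_at (LP (LK LD1_c0 LD2_c30 LD3_c49)) = v82 :=
  Lgr Lrot66 (Lpe (f83106 IH) (Lpr_af (f446814 IH) (Lpr_ff (f446816 IH) (Lpn v82))))
theorem f452339 : Led Lsl_at v268 = v348 :=
  Lgr Lrot80 (Lpe (f451470 IH) (Lpe (f446817 IH) (Lpr_ef (f452338 IH) (Lpn v348))))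
def v1124 : LQ := Led Lsl_ft v268
theorem f491599 : Led Lsl_ft v268 = v1124 :=
  Lrfl
theorem f491601 : Led Lsl_ff v268 = v1124 :=
  Lgr Lrot3 (Lpr_ft (f491599 IH) (Lpn v1124))
theorem f535837 : Led Lsl_af v1124 = v2828 :=
  Lgr Lrot45 (Lpe (f491601 IH) (Lpr_at (f452339 IH) (Lpr_ft (f535836 IH) (Lpn v2828))))
theorem f535840 : Led Lsl_gt v2825 = v1124 :=
  Lgr Lrot46 (Lpe (f535823 IH) (Lpr_ft (f535836 IH) (Lpe (f535837 IH) (Lpn v1124))))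
theorem f452340 : Led Lsl_et (LP (LK LD1_c0 LD2_c30 LD3_c49)) = v348 :=
  Lgr Lrot87 (Lpr_ef (f452338 IH) (Lpn v348))
def v129 : LQ := Led Lsl_dt (LP (LK LD1_c0 LD2_c19 LD3_c15))
theorem f450621 : Led Lsl_dt (LP (LK LD1_c0 LD2_c19 LD3_c15)) = v129 :=
  Lrfl
theorem f450622 : Led Lsl_df (LP (LK LD1_c0 LD2_c19 LD3_c15)) = v129 :=
  Lgr Lrot38 (Lpr_dt (f450621 IH) (Lpn v129))
theorem f450625 : Led Lsl_gt v82 = v129 :=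
  Lgr Lrot112 (Lpe (f446813 IH) (Lpr_et (f23381 IH) (Lpe (K0.f23346 IH) (Lpr_ef (K3.f77099 IH) (Lpr_dt (K2.f67359 IH) (Lpe (K7.f152774 IH) (Lpe (K7.f152741 IH) (Lpe (K7.f154083 IH) (Lpr_ef (K7.f61273 IH) (Lpr_dt (f450621 IH) (Lpn v129)))))))))))
theorem f451468 : Led Lsl_df K29.v81 = v268 :=
  Lgr Lrot38 (Lpr_dt (f451467 IH) (Lpn v268))
def v1119 : LQ := Led Lsl_dt K32.v267
theorem f491589 : Led Lsl_dt K32.v267 = v1119 :=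
  Lrfl
theorem f491590 : Led Lsl_df K32.v267 = v1119 :=
  Lgr Lrot38 (Lpr_dt (f491589 IH) (Lpn v1119))
theorem f535824 : Led Lsl_et v1119 = v2825 :=
  Lgr Lrot122 (Lpe (f491590 IH) (Lpe (K32.f451466 IH) (Lpr_df (f451468 IH) (Lpe (f451469 IH) (Lpr_gt (f450625 IH) (Lpe (f450622 IH) (Lpr_gt (K7.f82548 IH) (Lpe (f23401 IH) (Lpr_et (f452340 IH) (Lpr_gt (f535823 IH) (Lpn v2825)))))))))))
theorem f535838 : Led Lsl_df K29.v349 = v2828 :=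
  Lgr Lrot78 (Lpe (K29.f452345 IH) (Lpr_dt (f452335 IH) (Lpr_ft (f535836 IH) (Lpn v2828))))
theorem f491603 : Led Lsl_et v1124 = v1124 :=
  Lgr Lrot69 (Lpe (f491599 IH) (Lpe (f451470 IH) (Lpr_ff (f446816 IH) (Lpr_ef (f451469 IH) (Lpr_ff (f491601 IH) (Lpn v1124))))))
theorem f491600 : Led Lsl_df K29.v269 = v1124 :=
  Lgr Lrot78 (Lpe (f451472 IH) (Lpr_dt (f451467 IH) (Lpr_ft (f491599 IH) (Lpn v1124))))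
theorem f452334 : Led Lsl_gt K29.v269 = v347 :=
  Lgr Lrot5 (Lpe (f451472 IH) (Lpe (f446808 IH) (Lpr_gf (f452333 IH) (Lpn v347))))
theorem f535841 : Led Lsl_gf v2828 = v1121 :=
  Lgr Lrot138 (Lpe (f535838 IH) (Lpe (K32.f452350 IH) (Lpr_df (f491590 IH) (Lpr_et (f535824 IH) (Lpr_gt (f535840 IH) (Lpe (f491603 IH) (Lpe (f491600 IH) (Lpr_gt (f452334 IH) (Lpr_df (f535772 IH) (Lpe (f535773 IH) (Lpn v1121)))))))))))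
theorem f535843 : Led Lsl_ef v2828 = v2828 :=
  Lgr Lrot17 (Lpr_gf (f535841 IH) (Lpr_ef (f535773 IH) (Lpe (f535772 IH) (Lpe (f452334 IH) (Lpr_df (f491600 IH) (Lpe (f535840 IH) (Lpe (f535824 IH) (Lpe (f491590 IH) (Lpr_gf (K32.f452350 IH) (Lpr_df (f535838 IH) (Lpn v2828)))))))))))
theorem f452344 : Led Lsl_ef (LP (LK LD1_c0 LD2_c43 LD3_c2)) = K29.v349 :=
  Lgr Lrot21 (Lpr_ft (K24.f82677 IH) (Lpr_et (K11.f61013 IH) (Lpe (f82231 IH) (Lpr_et (K29.f27169 IH) (Lpr_ft (K29.f452341 IH) (Lpn K29.v349))))))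
theorem f535844 : Led Lsl_dt K29.v349 = v2828 :=
  Lgr Lrot77 (Lpe (K29.f452349 IH) (Lpe (K24.f82678 IH) (Lpr_ef (f452344 IH) (Lpr_df (f535838 IH) (Lpr_ef (f535843 IH) (Lpn v2828))))))
def v1122 : LQ := Led Lsl_gf v268
theorem f491594 : Led Lsl_gf v268 = v1122 :=
  Lrfl
theorem f494747 : Led Lsl_df v1122 = v1309 :=
  Lgr Lrot170 (Lpe (f491594 IH) (Lpe (f451467 IH) (Lpe (K29.f446810 IH) (Lpr_gt (K1.f59453 IH) (Lpe (K1.f59460 IH) (Lpe (K0.f26263 IH) (Lpe (K0.f26047 IH) (Lpr_et (K7.f26309 IH) (Lpr_gt (K11.f26310 IH) (Lpr_ef (f494746 IH) (Lpn v1309)))))))))))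
theorem f535845 : Led Lsl_gf v1122 = v2828 :=
  Lgr Lrot134 (Lpr_df (f494747 IH) (Lpe (f494746 IH) (Lpe (K24.f435371 IH) (Lpr_ef (K7.f153613 IH) (Lpr_dt (K11.f61102 IH) (Lpe (K29.f435678 IH) (Lpr_df (K29.f491576 IH) (Lpe (K29.f491575 IH) (Lpr_gt (K29.f452351 IH) (Lpr_dt (f535844 IH) (Lpn v2828)))))))))))
theorem f622783 : Led Lsl_af v1122 = v2826 :=
  Lgr Lrot31 (Lpr_gf (f535845 IH) (Lpr_gf (f535841 IH) (Lpr_ft (f622781 IH) (Lpn v2826))))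
theorem f494748 : Led Lsl_dt v1122 = v1309 :=
  Lgr Lrot42 (Lpr_df (f494747 IH) (Lpn v1309))
theorem f622771 : Led Lsl_af v495 = v3082 :=
  Lgr Lrot50 (Lpe (f453622 IH) (Lpr_at (f453617 IH) (Lpr_et (f622770 IH) (Lpn v3082))))
theorem f622785 : v1309 = v3082 :=
  (Llr Lrot44 (Lpe (f494748 IH) (Lpr_af (f622783 IH) (Lpe (f535828 IH) (Lpr_af (f622771 IH) (Lpn v3082)))))).symm
theorem f622786 : v494 = (LP (LK LD1_c1 LD2_c6 LD3_c51)) :=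
  Lefun (Lecon (Lfl_ef (f622772 IH)) (f622785 IH).symm) (Lfl_ef (f494746 IH))
theorem f622790 : Led Lsl_at (LP (LK LD1_c0 LD2_c42 LD3_c35)) = (LP (LK LD1_c1 LD2_c6 LD3_c51)) :=
  Leop (Lpq (f622786 IH) (Lpe (f453617 IH) (Lpn (LP (LK LD1_c0 LD2_c42 LD3_c35)))))
theorem seed_243 : LEOK LG_a (LK LD1_c0 LD2_c42 LD3_c35) :=
  Leoe_a (LK LD1_c0 LD2_c42 LD3_c35) (f622790 IH)
def v1951 : LQ := Led Lsl_et (LP (LK LD1_c1 LD2_c32 LD3_c0))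
theorem f506549 : Led Lsl_et (LP (LK LD1_c1 LD2_c32 LD3_c0)) = v1951 :=
  Lrfl
theorem f506551 : Led Lsl_ef (LP (LK LD1_c1 LD2_c32 LD3_c0)) = v1951 :=
  Lgr Lrot88 (Lpr_et (f506549 IH) (Lpn v1951))
def v1950 : LQ := Led Lsl_at (LP (LK LD1_c1 LD2_c32 LD3_c0))
theorem f506541 : Led Lsl_at (LP (LK LD1_c1 LD2_c32 LD3_c0)) = v1950 :=
  Lrfl
theorem f506544 : Led Lsl_cf v494 = v1950 :=
  Lgr Lrot1 (Lpe (f453618 IH) (Lpr_ct (K32.f69108 IH) (Lpr_at (f506541 IH) (Lpn v1950))))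
theorem f506545 : Led Lsl_ct v494 = v1950 :=
  Lgr Lrot59 (Lpr_cf (f506544 IH) (Lpn v1950))
theorem f622797 : v1950 = (LP (LK LD1_c1 LD2_c21 LD3_c14)) :=
  Lefun (Lecon (f506545 IH) (f622786 IH)) (K24.f438428 IH)
def v1533 : LQ := Led Lsl_et (LP (LK LD1_c1 LD2_c21 LD3_c14))
theorem f496136 : Led Lsl_et (LP (LK LD1_c1 LD2_c21 LD3_c14)) = v1533 :=
  Lrfl
theorem f623714 : Led Lsl_af v1951 = v1533 :=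
  Lgr Lrot50 (Lpe (f506551 IH) (Lpr_at (f506541 IH) (Lpqs (f622797 IH) (Lpr_et (f496136 IH) (Lpn v1533)))))
theorem f22249 : Led Lsl_gt (LP (LK LD1_c2 LD2_c31 LD3_c24)) = (LP (LK LD1_c1 LD2_c12 LD3_c41)) :=
  Lre_g IH (LK LD1_c2 LD2_c31 LD3_c24) (LK LD1_c1 LD2_c12 LD3_c41) Lrfl Lrfl
theorem f506553 : Led Lsl_df (LP (LK LD1_c2 LD2_c31 LD3_c24)) = v1951 :=
  Lgr Lrot170 (Lpr_gt (f22249 IH) (Lpe (K7.f22228 IH) (Lpr_et (K10.f22213 IH) (Lpr_gt (K1.f20279 IH) (Lpe (K1.f37754 IH) (Lpr_gt (K1.f37263 IH) (Lpe (K2.f21213 IH) (Lpr_et (K6.f37271 IH) (Lpe (K32.f438554 IH) (Lpr_ef (f506551 IH) (Lpn v1951)))))))))))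
theorem f496138 : Led Lsl_ef (LP (LK LD1_c1 LD2_c21 LD3_c14)) = v1533 :=
  Lgr Lrot88 (Lpr_et (f496136 IH) (Lpn v1533))
theorem f164106 : Led Lsl_et (LP (LK LD1_c1 LD2_c14 LD3_c4)) = (LP (LK LD1_c0 LD2_c34 LD3_c19)) :=
  Lre_e IH (LK LD1_c1 LD2_c14 LD3_c4) (LK LD1_c0 LD2_c34 LD3_c19) Lrfl Lrfl
theorem f164107 : Led Lsl_at (LP (LK LD1_c1 LD2_c12 LD3_c41)) = (LP (LK LD1_c1 LD2_c14 LD3_c4)) :=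
  Lgr Lrot80 (Lpe (K10.f22215 IH) (Lpr_af (K8.f164089 IH) (Lpe (f164106 IH) (Lpn (LP (LK LD1_c1 LD2_c14 LD3_c4))))))
theorem f22258 : Led Lsl_ft (LP (LK LD1_c2 LD2_c31 LD3_c25)) = (LP (LK LD1_c1 LD2_c12 LD3_c41)) :=
  Lre_f IH (LK LD1_c2 LD2_c31 LD3_c25) (LK LD1_c1 LD2_c12 LD3_c41) Lrfl Lrfl
theorem f164387 : Led Lsl_gt (LP (LK LD1_c2 LD2_c34 LD3_c13)) = (LP (LK LD1_c1 LD2_c14 LD3_c4)) :=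
  Lre_g IH (LK LD1_c2 LD2_c34 LD3_c13) (LK LD1_c1 LD2_c14 LD3_c4) Lrfl Lrfl
theorem f165237 : Led Lsl_gt (LP (LK LD1_c2 LD2_c31 LD3_c25)) = (LP (LK LD1_c2 LD2_c34 LD3_c13)) :=
  Lgr Lrot5 (Lpr_ft (f22258 IH) (Lpr_at (f164107 IH) (Lpe (f164387 IH) (Lpn (LP (LK LD1_c2 LD2_c34 LD3_c13))))))
theorem f496140 : Led Lsl_df (LP (LK LD1_c2 LD2_c34 LD3_c13)) = v1533 :=
  Lgr Lrot168 (Lpe (f165237 IH) (Lpe (K7.f22255 IH) (Lpe (K24.f151743 IH) (Lpr_gf (K32.f436286 IH) (Lpe (K24.f26580 IH) (Lpr_dt (K24.f56684 IH) (Lpe (K24.f146414 IH) (Lpe (K24.f143131 IH) (Lpr_gf (K24.f437474 IH) (Lpr_ef (f496138 IH) (Lpn v1533)))))))))))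
theorem f496142 : Led Lsl_dt (LP (LK LD1_c2 LD2_c34 LD3_c13)) = v1533 :=
  Lgr Lrot42 (Lpr_df (f496140 IH) (Lpn v1533))
theorem f623716 : Led Lsl_at (LP (LK LD1_c2 LD2_c31 LD3_c24)) = (LP (LK LD1_c2 LD2_c34 LD3_c13)) :=
  Lgr Lrot51 (Lpr_df (f506553 IH) (Lpr_af (f623714 IH) (Lpe (f496142 IH) (Lpn (LP (LK LD1_c2 LD2_c34 LD3_c13))))))
theorem f623717 : Led Lsl_at (LP (LK LD1_c2 LD2_c31 LD3_c24)) = (LP (LK LD1_c2 LD2_c34 LD3_c13)) :=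
  Leop (Lpe (f623716 IH) (Lpn (LP (LK LD1_c2 LD2_c31 LD3_c24))))
theorem seed_244 : LEOK LG_a (LK LD1_c2 LD2_c31 LD3_c24) :=
  Leoe_a (LK LD1_c2 LD2_c31 LD3_c24) (f623717 IH)
def v541 : LQ := Led Lsl_gf (LP (LK LD1_c0 LD2_c44 LD3_c4))
def v3168 : LQ := Led Lsl_et v541
theorem f624109 : Led Lsl_et v541 = v3168 :=
  Lrfl
theorem f624110 : Led Lsl_ef v541 = v3168 :=
  Lgr Lrot88 (Lpr_et (f624109 IH) (Lpn v3168))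
def v460 : LQ := Led Lsl_et (LP (LK LD1_c0 LD2_c40 LD3_c17))
def v3046 : LQ := Led Lsl_ft v460
theorem f622624 : Led Lsl_ft v460 = v3046 :=
  Lrfl
theorem f622627 : Led Lsl_ff v460 = v3046 :=
  Lgr Lrot3 (Lpr_ft (f622624 IH) (Lpn v3046))
theorem f452997 : Led Lsl_et (LP (LK LD1_c0 LD2_c40 LD3_c17)) = v460 :=
  Lrfl
theorem f62878 : Led Lsl_et (LP (LK LD1_c0 LD2_c44 LD3_c4)) = (LP (LK LD1_c0 LD2_c19 LD3_c40)) :=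
  Lre_e IH (LK LD1_c0 LD2_c44 LD3_c4) (LK LD1_c0 LD2_c19 LD3_c40) Lrfl Lrfl
theorem f452998 : Led Lsl_af (LP (LK LD1_c0 LD2_c44 LD3_c4)) = v460 :=
  Lgr Lrot50 (Lpr_et (f62878 IH) (Lpe (K5.f130686 IH) (Lpr_et (f452997 IH) (Lpn v460))))
theorem f453864 : Led Lsl_gf (LP (LK LD1_c0 LD2_c44 LD3_c4)) = v541 :=
  Lrfl
theorem f622631 : Led Lsl_gf v541 = v3046 :=
  Lgr Lrot47 (Lpe (f453864 IH) (Lpr_af (f452998 IH) (Lpr_ff (f622627 IH) (Lpn v3046))))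
theorem f452999 : Led Lsl_ef (LP (LK LD1_c0 LD2_c40 LD3_c17)) = v460 :=
  Lgr Lrot88 (Lpr_et (f452997 IH) (Lpn v460))
theorem f65572 : Led Lsl_bt (LP (LK LD1_c0 LD2_c19 LD3_c36)) = (LP (LK LD1_c0 LD2_c43 LD3_c50)) :=
  Lre_b IH (LK LD1_c0 LD2_c19 LD3_c36) (LK LD1_c0 LD2_c43 LD3_c50) Lrfl Lrfl
theorem f110942 : Led Lsl_ff (LP (LK LD1_c0 LD2_c19 LD3_c36)) = (LP (LK LD1_c0 LD2_c40 LD3_c17)) :=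
  Lgr Lrot25 (Lpr_bt (f65572 IH) (Lpr_ft (K3.f110939 IH) (Lpr_bt (K3.f18898 IH) (Lpn (LP (LK LD1_c0 LD2_c40 LD3_c17))))))
theorem f622630 : Led Lsl_et K24.v532 = v3046 :=
  Lgr Lrot69 (Lpe (K24.f453811 IH) (Lpe (K5.f65407 IH) (Lpr_ff (f110942 IH) (Lpr_ef (f452999 IH) (Lpr_ff (f622627 IH) (Lpn v3046))))))
theorem f453813 : Led Lsl_ff (LP (LK LD1_c0 LD2_c43 LD3_c57)) = K24.v532 :=
  Lgr Lrot3 (Lpr_ft (K24.f453811 IH) (Lpn K24.v532))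
theorem f453819 : Led Lsl_dt K24.v532 = K24.v532 :=
  Lgr Lrot60 (Lpe (K24.f453811 IH) (Lpr_df (K5.f65408 IH) (Lpr_ff (f453813 IH) (Lpn K24.v532))))
def v1786 : LQ := Led Lsl_gt (LP (LK LD1_c1 LD2_c27 LD3_c0))
theorem f502887 : Led Lsl_gt (LP (LK LD1_c1 LD2_c27 LD3_c0)) = v1786 :=
  Lrfl
theorem f130788 : Led Lsl_ft (LP (LK LD1_c1 LD2_c27 LD3_c0)) = (LP (LK LD1_c3 LD2_c1 LD3_c58)) :=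
  Lre_f IH (LK LD1_c1 LD2_c27 LD3_c0) (LK LD1_c3 LD2_c1 LD3_c58) Lrfl Lrfl
theorem f453818 : Led Lsl_at (LP (LK LD1_c3 LD2_c1 LD3_c58)) = K24.v532 :=
  Lgr Lrot66 (Lpe (f130788 IH) (Lpe (K5.f130778 IH) (Lpr_ff (f453813 IH) (Lpn K24.v532))))
theorem f502888 : Led Lsl_gf K24.v532 = v1786 :=
  Lgr Lrot76 (Lpe (f453818 IH) (Lpe (f130788 IH) (Lpr_gt (f502887 IH) (Lpn v1786))))
theorem f130772 : Led Lsl_et (LP (LK LD1_c0 LD2_c19 LD3_c40)) = (LP (LK LD1_c0 LD2_c44 LD3_c4)) :=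
  Lre_e IH (LK LD1_c0 LD2_c19 LD3_c40) (LK LD1_c0 LD2_c44 LD3_c4) Lrfl Lrfl
theorem f62967 : Led Lsl_et (LP (LK LD1_c0 LD2_c8 LD3_c51)) = (LP (LK LD1_c0 LD2_c19 LD3_c46)) :=
  Lre_e IH (LK LD1_c0 LD2_c8 LD3_c51) (LK LD1_c0 LD2_c19 LD3_c46) Lrfl Lrfl
theorem f624111 : Led Lsl_df (LP (LK LD1_c3 LD2_c18 LD3_c26)) = v3168 :=
  Lgr Lrot132 (Lpe (K32.f453865 IH) (Lpe (K32.f130874 IH) (Lpe (K5.f62968 IH) (Lpe (f62967 IH) (Lpr_dt (K2.f62966 IH) (Lpe (K0.f12346 IH) (Lpe (K1.f62859 IH) (Lpr_et (f130772 IH) (Lpr_gf (f453864 IH) (Lpr_ef (f624110 IH) (Lpn v3168)))))))))))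
theorem f62123 : Led Lsl_et (LP (LK LD1_c0 LD2_c44 LD3_c24)) = (LP (LK LD1_c1 LD2_c35 LD3_c45)) :=
  Lre_e IH (LK LD1_c0 LD2_c44 LD3_c24) (LK LD1_c1 LD2_c35 LD3_c45) Lrfl Lrfl
theorem f62129 : Led Lsl_gt (LP (LK LD1_c1 LD2_c35 LD3_c45)) = (LP (LK LD1_c3 LD2_c18 LD3_c39)) :=
  Lre_g IH (LK LD1_c1 LD2_c35 LD3_c45) (LK LD1_c3 LD2_c18 LD3_c39) Lrfl Lrfl
theorem f624112 : Led Lsl_df v1786 = (LP (LK LD1_c3 LD2_c18 LD3_c39)) :=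
  Lgr Lrot135 (Lpe (f502888 IH) (Lpe (f453819 IH) (Lpr_et (f622630 IH) (Lpe (f622631 IH) (Lpr_ef (f624110 IH) (Lpe (f624111 IH) (Lpr_gt (K32.f508997 IH) (Lpe (K32.f62098 IH) (Lpr_et (f62123 IH) (Lpr_gt (f62129 IH) (Lpn (LP (LK LD1_c3 LD2_c18 LD3_c39)))))))))))))
theorem f624113 : Led Lsl_dt v1786 = (LP (LK LD1_c3 LD2_c18 LD3_c39)) :=
  Lgr Lrot42 (Lpr_df (f624112 IH) (Lpn (LP (LK LD1_c3 LD2_c18 LD3_c39))))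
theorem f130795 : Led Lsl_et (LP (LK LD1_c0 LD2_c40 LD3_c18)) = (LP (LK LD1_c1 LD2_c27 LD3_c0)) :=
  Lre_e IH (LK LD1_c0 LD2_c40 LD3_c18) (LK LD1_c1 LD2_c27 LD3_c0) Lrfl Lrfl
theorem f109214 : Led Lsl_df (LP (LK LD1_c0 LD2_c19 LD3_c33)) = (LP (LK LD1_c0 LD2_c40 LD3_c18)) :=
  Lgr Lrot84 (Lpe (K4.f104179 IH) (Lpe (K2.f94332 IH) (Lpe (K3.f94339 IH) (Lpr_df (K3.f109154 IH) (Lpr_gf (K3.f109212 IH) (Lpe (K2.f21011 IH) (Lpr_gt (K1.f18905 IH) (Lpr_dt (K1.f58394 IH) (Lpr_gt (K3.f58455 IH) (Lpn (LP (LK LD1_c0 LD2_c40 LD3_c18))))))))))))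
theorem f62110 : Led Lsl_et (LP (LK LD1_c0 LD2_c19 LD3_c42)) = (LP (LK LD1_c0 LD2_c44 LD3_c10)) :=
  Lre_e IH (LK LD1_c0 LD2_c19 LD3_c42) (LK LD1_c0 LD2_c44 LD3_c10) Lrfl Lrfl
theorem f441540 : Led Lsl_et (LP (LK LD1_c3 LD2_c16 LD3_c27)) = (LP (LK LD1_c1 LD2_c34 LD3_c56)) :=
  Lre_e IH (LK LD1_c3 LD2_c16 LD3_c27) (LK LD1_c1 LD2_c34 LD3_c56) Lrfl Lrfl
theorem f624115 : Led Lsl_gf (LP (LK LD1_c3 LD2_c18 LD3_c29)) = (LP (LK LD1_c3 LD2_c18 LD3_c39)) :=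
  Lgr Lrot134 (Lpe (K24.f453915 IH) (Lpr_et (f441540 IH) (Lpr_gt (K32.f62965 IH) (Lpe (f62110 IH) (Lpr_dt (K8.f62111 IH) (Lpr_gt (K4.f104186 IH) (Lpr_df (f109214 IH) (Lpr_et (f130795 IH) (Lpr_gt (f502887 IH) (Lpr_dt (f624113 IH) (Lpn (LP (LK LD1_c3 LD2_c18 LD3_c39)))))))))))))
theorem f624116 : Led Lsl_gt (LP (LK LD1_c3 LD2_c18 LD3_c39)) = (LP (LK LD1_c3 LD2_c18 LD3_c29)) :=
  Leop (Lpr_gf (f624115 IH) (Lpn (LP (LK LD1_c3 LD2_c18 LD3_c39))))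
theorem seed_245 : LEOK LG_g (LK LD1_c3 LD2_c18 LD3_c39) :=
  Leoe_g (LK LD1_c3 LD2_c18 LD3_c39) (f624116 IH)
def v2111 : LQ := Led Lsl_ft (LP (LK LD1_c1 LD2_c35 LD3_c45))
theorem f509042 : Led Lsl_ft (LP (LK LD1_c1 LD2_c35 LD3_c45)) = v2111 :=
  Lrfl
theorem f624117 : Led Lsl_af (LP (LK LD1_c3 LD2_c18 LD3_c29)) = v2111 :=
  Lgr Lrot31 (Lpr_gf (f624115 IH) (Lpe (f62129 IH) (Lpr_ft (f509042 IH) (Lpn v2111))))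
theorem f130824 : Led Lsl_ct (LP (LK LD1_c3 LD2_c18 LD3_c29)) = (LP (LK LD1_c6 LD2_c40 LD3_c57)) :=
  Lre_c IH (LK LD1_c3 LD2_c18 LD3_c29) (LK LD1_c6 LD2_c40 LD3_c57) Lrfl Lrfl
theorem f509044 : Led Lsl_ff (LP (LK LD1_c1 LD2_c35 LD3_c45)) = v2111 :=
  Lgr Lrot3 (Lpr_ft (f509042 IH) (Lpn v2111))
theorem f509027 : Led Lsl_ct (LP (LK LD1_c1 LD2_c35 LD3_c45)) = (LP (LK LD1_c3 LD2_c18 LD3_c37)) :=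
  Lre_c IH (LK LD1_c1 LD2_c35 LD3_c45) (LK LD1_c3 LD2_c18 LD3_c37) Lrfl Lrfl
theorem f508875 : Led Lsl_ft (LP (LK LD1_c3 LD2_c18 LD3_c37)) = (LP (LK LD1_c6 LD2_c41 LD3_c10)) :=
  Lre_f IH (LK LD1_c3 LD2_c18 LD3_c37) (LK LD1_c6 LD2_c41 LD3_c10) Lrfl Lrfl
theorem f509045 : Led Lsl_ct (LP (LK LD1_c6 LD2_c41 LD3_c10)) = v2111 :=
  Lgr Lrot40 (Lpe (f508875 IH) (Lpe (f509027 IH) (Lpr_ff (f509044 IH) (Lpn v2111))))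
theorem f624119 : Led Lsl_at (LP (LK LD1_c6 LD2_c40 LD3_c57)) = (LP (LK LD1_c6 LD2_c41 LD3_c10)) :=
  Lgr Lrot107 (Lpe (f130824 IH) (Lpr_af (f624117 IH) (Lpe (f509045 IH) (Lpn (LP (LK LD1_c6 LD2_c41 LD3_c10))))))
theorem f624120 : Led Lsl_at (LP (LK LD1_c6 LD2_c40 LD3_c57)) = (LP (LK LD1_c6 LD2_c41 LD3_c10)) :=
  Leop (Lpe (f624119 IH) (Lpn (LP (LK LD1_c6 LD2_c40 LD3_c57))))
theorem seed_246 : LEOK LG_a (LK LD1_c6 LD2_c40 LD3_c57) :=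
  Leoe_a (LK LD1_c6 LD2_c40 LD3_c57) (f624120 IH)
def v3323 : LQ := Led Lsl_gf K29.v716
theorem f625130 : Led Lsl_gf K29.v716 = v3323 :=
  Lrfl
theorem f455981 : Led Lsl_et (LP (LK LD1_c0 LD2_c49 LD3_c35)) = (LP (LK LD1_c1 LD2_c45 LD3_c54)) :=
  Lre_e IH (LK LD1_c0 LD2_c49 LD3_c35) (LK LD1_c1 LD2_c45 LD3_c54) Lrfl Lrfl
theorem f18072 : Led Lsl_et (LP (LK LD1_c3 LD2_c31 LD3_c19)) = (LP (LK LD1_c1 LD2_c42 LD3_c10)) :=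
  Lre_e IH (LK LD1_c3 LD2_c31 LD3_c19) (LK LD1_c1 LD2_c42 LD3_c10) Lrfl Lrfl
theorem f625132 : Led Lsl_dt (LP (LK LD1_c3 LD2_c31 LD3_c19)) = v3323 :=
  Lgr Lrot136 (Lpr_et (f18072 IH) (Lpe (K28.f18945 IH) (Lpr_ef (K28.f18178 IH) (Lpr_dt (K28.f15822 IH) (Lpe (K2.f16719 IH) (Lpe (K29.f19149 IH) (Lpe (K29.f473175 IH) (Lpe (f455981 IH) (Lpr_dt (K29.f456909 IH) (Lpr_gf (f625130 IH) (Lpn v3323)))))))))))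
theorem f485838 : Led Lsl_ct (LP (LK LD1_c3 LD2_c25 LD3_c53)) = (LP (LK LD1_c6 LD2_c53 LD3_c39)) :=
  Lre_c IH (LK LD1_c3 LD2_c25 LD3_c53) (LK LD1_c6 LD2_c53 LD3_c39) Lrfl Lrfl
theorem f625134 : Led Lsl_gt (LP (LK LD1_c6 LD2_c53 LD3_c39)) = (LP (LK LD1_c7 LD2_c2 LD3_c1)) :=
  Lgr Lrot94 (Lpe (f485838 IH) (Lpe (K33.f522463 IH) (Lpr_dt (f625132 IH) (Lpe (f625130 IH) (Lpe (K29.f456911 IH) (Lpe (K29.f450910 IH) (Lpe (K29.f456647 IH) (Lpe (K29.f456648 IH) (Lpr_df (K29.f473765 IH) (Lpn (LP (LK LD1_c7 LD2_c2 LD3_c1))))))))))))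
theorem f625135 : Led Lsl_gt (LP (LK LD1_c6 LD2_c53 LD3_c39)) = (LP (LK LD1_c7 LD2_c2 LD3_c1)) :=
  Leop (Lpe (f625134 IH) (Lpn (LP (LK LD1_c6 LD2_c53 LD3_c39))))
theorem seed_247 : LEOK LG_g (LK LD1_c6 LD2_c53 LD3_c39) :=
  Leoe_g (LK LD1_c6 LD2_c53 LD3_c39) (f625135 IH)
def v902 : LQ := Led Lsl_dt (LP (LK LD1_c0 LD2_c53 LD3_c57))
def v3511 : LQ := Led Lsl_gt v902
theorem f626040 : Led Lsl_gt v902 = v3511 :=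
  Lrfl
theorem f490370 : Led Lsl_dt (LP (LK LD1_c0 LD2_c53 LD3_c57)) = v902 :=
  Lrfl
theorem f478901 : Led Lsl_et (LP (LK LD1_c3 LD2_c39 LD3_c6)) = (LP (LK LD1_c1 LD2_c46 LD3_c30)) :=
  Lre_e IH (LK LD1_c3 LD2_c39 LD3_c6) (LK LD1_c1 LD2_c46 LD3_c30) Lrfl Lrfl
theorem f626043 : Led Lsl_dt (LP (LK LD1_c3 LD2_c39 LD3_c6)) = v3511 :=
  Lgr Lrot56 (Lpr_et (f478901 IH) (Lpr_gt (K33.f478892 IH) (Lpe (K29.f98673 IH) (Lpe (K3.f98671 IH) (Lpe (K4.f104125 IH) (Lpr_df (K4.f14590 IH) (Lpr_et (K34.f14594 IH) (Lpr_gt (K28.f17263 IH) (Lpr_dt (f490370 IH) (Lpr_gt (f626040 IH) (Lpn v3511)))))))))))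
theorem f102503 : Led Lsl_et (LP (LK LD1_c1 LD2_c38 LD3_c45)) = (LP (LK LD1_c3 LD2_c24 LD3_c40)) :=
  Lre_e IH (LK LD1_c1 LD2_c38 LD3_c45) (LK LD1_c3 LD2_c24 LD3_c40) Lrfl Lrfl
theorem f19160 : Led Lsl_dt (LP (LK LD1_c1 LD2_c38 LD3_c45)) = (LP (LK LD1_c3 LD2_c24 LD3_c39)) :=
  Lre_d IH (LK LD1_c1 LD2_c38 LD3_c45) (LK LD1_c3 LD2_c24 LD3_c39) Lrfl Lrfl
theorem f470922 : Led Lsl_dt (LP (LK LD1_c1 LD2_c54 LD3_c37)) = (LP (LK LD1_c3 LD2_c55 LD3_c57)) :=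
  Lre_d IH (LK LD1_c1 LD2_c54 LD3_c37) (LK LD1_c3 LD2_c55 LD3_c57) Lrfl Lrfl
theorem f470923 : Led Lsl_gt (LP (LK LD1_c3 LD2_c55 LD3_c57)) = (LP (LK LD1_c7 LD2_c53 LD3_c34)) :=
  Lre_g IH (LK LD1_c3 LD2_c55 LD3_c57) (LK LD1_c7 LD2_c53 LD3_c34) Lrfl Lrfl
theorem f478491 : Led Lsl_et (LP (LK LD1_c7 LD2_c24 LD3_c32)) = (LP (LK LD1_c3 LD2_c41 LD3_c53)) :=
  Lre_e IH (LK LD1_c7 LD2_c24 LD3_c32) (LK LD1_c3 LD2_c41 LD3_c53) Lrfl Lrfl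
theorem f478498 : Led Lsl_df (LP (LK LD1_c7 LD2_c53 LD3_c34)) = (LP (LK LD1_c7 LD2_c24 LD3_c32)) :=
  Lgr Lrot132 (Lpe (f470923 IH) (Lpe (f470922 IH) (Lpr_gf (K29.f470920 IH) (Lpe (K3.f91872 IH) (Lpr_dt (K5.f14641 IH) (Lpr_gf (K28.f102496 IH) (Lpe (f19160 IH) (Lpr_et (f102503 IH) (Lpr_gf (K32.f478479 IH) (Lpe (f478491 IH) (Lpn (LP (LK LD1_c7 LD2_c24 LD3_c32)))))))))))))
def v3509 : LQ := Led Lsl_dt K34.v900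
theorem f626029 : Led Lsl_dt K34.v900 = v3509 :=
  Lrfl
theorem f490371 : Led Lsl_df (LP (LK LD1_c0 LD2_c53 LD3_c57)) = v902 :=
  Lgr Lrot38 (Lpr_dt (f490370 IH) (Lpn v902))
theorem f626032 : Led Lsl_ff v902 = v3509 :=
  Lgr Lrot19 (Lpe (f490371 IH) (Lpqs (K34.f531817 IH) (Lpe (K34.f531707 IH) (Lpr_dt (f626029 IH) (Lpn v3509)))))
theorem f626034 : Led Lsl_ft v902 = v3509 :=
  Lgr Lrot48 (Lpr_ff (f626032 IH) (Lpn v3509))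
theorem f531716 : Led Lsl_af K34.v900 = K34.v2743 :=
  Lgr Lrot45 (Lpr_ft (K34.f531706 IH) (Lpe (K34.f531705 IH) (Lpr_ft (K34.f531715 IH) (Lpn K34.v2743))))
def v904 : LQ := Led Lsl_dt (LP (LK LD1_c0 LD2_c53 LD3_c58))
theorem f490376 : Led Lsl_dt (LP (LK LD1_c0 LD2_c53 LD3_c58)) = v904 :=
  Lrfl
theorem f490377 : Led Lsl_df (LP (LK LD1_c0 LD2_c53 LD3_c58)) = v904 :=
  Lgr Lrot38 (Lpr_dt (f490376 IH) (Lpn v904))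
theorem f626030 : Led Lsl_af v904 = v3509 :=
  Lgr Lrot117 (Lpe (f490377 IH) (Lpqs (K34.f531816 IH) (Lpe (f531716 IH) (Lpr_dt (f626029 IH) (Lpn v3509)))))
theorem f626041 : Led Lsl_gf v904 = v3511 :=
  Lgr Lrot76 (Lpr_af (f626030 IH) (Lpe (f626034 IH) (Lpr_gt (f626040 IH) (Lpn v3511))))
theorem f471208 : Led Lsl_dt (LP (LK LD1_c3 LD2_c55 LD3_c60)) = (LP (LK LD1_c1 LD2_c54 LD3_c40)) :=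
  Lre_d IH (LK LD1_c3 LD2_c55 LD3_c60) (LK LD1_c1 LD2_c54 LD3_c40) Lrfl Lrfl
theorem f626047 : Led Lsl_gt (LP (LK LD1_c7 LD2_c53 LD3_c34)) = (LP (LK LD1_c3 LD2_c55 LD3_c60)) :=
  Lgr Lrot49 (Lpr_df (f478498 IH) (Lpe (K34.f527344 IH) (Lpe (K34.f458382 IH) (Lpr_gt (K33.f511680 IH) (Lpr_dt (f626043 IH) (Lpe (f626041 IH) (Lpe (f490377 IH) (Lpe (K29.f471177 IH) (Lpe (f471208 IH) (Lpn (LP (LK LD1_c3 LD2_c55 LD3_c60))))))))))))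
theorem f626048 : Led Lsl_gt (LP (LK LD1_c7 LD2_c53 LD3_c34)) = (LP (LK LD1_c3 LD2_c55 LD3_c60)) :=
  Leop (Lpe (f626047 IH) (Lpn (LP (LK LD1_c7 LD2_c53 LD3_c34))))
theorem seed_248 : LEOK LG_g (LK LD1_c7 LD2_c53 LD3_c34) :=
  Leoe_g (LK LD1_c7 LD2_c53 LD3_c34) (f626048 IH)
def v1000 : LQ := Led Lsl_ct K34.v164
def v3684 : LQ := Led Lsl_gt v1000
theorem f626768 : Led Lsl_gt v1000 = v3684 :=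
  Lrfl
theorem f490939 : Led Lsl_ct K34.v164 = v1000 :=
  Lrfl
def v213 : LQ := Led Lsl_dt (LP (LK LD1_c0 LD2_c23 LD3_c60))
theorem f451137 : Led Lsl_dt (LP (LK LD1_c0 LD2_c23 LD3_c60)) = v213 :=
  Lrfl
theorem f106102 : Led Lsl_dt (LP (LK LD1_c1 LD2_c44 LD3_c30)) = (LP (LK LD1_c0 LD2_c48 LD3_c53)) :=
  Lre_d IH (LK LD1_c1 LD2_c44 LD3_c30) (LK LD1_c0 LD2_c48 LD3_c53) Lrfl Lrfl
theorem f450841 : Led Lsl_df (LP (LK LD1_c0 LD2_c21 LD3_c56)) = K34.v164 :=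
  Lgr Lrot38 (Lpr_dt (K34.f450839 IH) (Lpn K34.v164))
theorem f451141 : Led Lsl_gf K34.v164 = v213 :=
  Lgr Lrot143 (Lpe (f450841 IH) (Lpe (K7.f106105 IH) (Lpe (f106102 IH) (Lpr_gf (K7.f154928 IH) (Lpe (K5.f86166 IH) (Lpe (K4.f12639 IH) (Lpe (K3.f12640 IH) (Lpr_gt (K3.f84301 IH) (Lpr_dt (f451137 IH) (Lpn v213))))))))))
def v878 : LQ := Led Lsl_dt (LP (LK LD1_c0 LD2_c53 LD3_c19))
theorem f490209 : Led Lsl_dt (LP (LK LD1_c0 LD2_c53 LD3_c19)) = v878 :=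
  Lrfl
theorem f451139 : Led Lsl_df (LP (LK LD1_c0 LD2_c23 LD3_c60)) = v213 :=
  Lgr Lrot38 (Lpr_dt (f451137 IH) (Lpn v213))
theorem f490210 : Led Lsl_bf v213 = v878 :=
  Lgr Lrot93 (Lpe (f451139 IH) (Lpr_bt (K3.f84319 IH) (Lpr_dt (f490209 IH) (Lpn v878))))
def v2451 : LQ := Led Lsl_gt (LP (LK LD1_c1 LD2_c45 LD3_c43))
theorem f522370 : Led Lsl_gt (LP (LK LD1_c1 LD2_c45 LD3_c43)) = v2451 :=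
  Lrfl
theorem f94402 : Led Lsl_ct (LP (LK LD1_c0 LD2_c49 LD3_c31)) = (LP (LK LD1_c1 LD2_c45 LD3_c43)) :=
  Lre_c IH (LK LD1_c0 LD2_c49 LD3_c31) (LK LD1_c1 LD2_c45 LD3_c43) Lrfl Lrfl
theorem f10086 : Led Lsl_bt (LP (LK LD1_c0 LD2_c10 LD3_c0)) = (LP (LK LD1_c0 LD2_c22 LD3_c11)) :=
  Lre_b IH (LK LD1_c0 LD2_c10 LD3_c0) (LK LD1_c0 LD2_c22 LD3_c11) Lrfl Lrfl
theorem f9946 : Led Lsl_ct (LP (LK LD1_c0 LD2_c10 LD3_c0)) = (LP (LK LD1_c0 LD2_c22 LD3_c17)) :=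
  Lre_c IH (LK LD1_c0 LD2_c10 LD3_c0) (LK LD1_c0 LD2_c22 LD3_c17) Lrfl Lrfl
def v176 : LQ := Led Lsl_gf (LP (LK LD1_c0 LD2_c22 LD3_c17))
theorem f450922 : Led Lsl_gf (LP (LK LD1_c0 LD2_c22 LD3_c17)) = v176 :=
  Lrfl
theorem f10074 : Led Lsl_df (LP (LK LD1_c0 LD2_c48 LD3_c51)) = (LP (LK LD1_c0 LD2_c22 LD3_c17)) :=
  Lgr Lrot38 (Lpr_dt (K0.f10068 IH) (Lpn (LP (LK LD1_c0 LD2_c22 LD3_c17))))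
theorem f447635 : Led Lsl_gf (LP (LK LD1_c0 LD2_c20 LD3_c41)) = K11.v86 :=
  Lgr Lrot143 (Lpr_dt (K6.f12146 IH) (Lpe (K0.f12160 IH) (Lpr_df (K1.f12669 IH) (Lpe (K0.f12696 IH) (Lpe (K7.f143259 IH) (Lpe (K0.f156 IH) (Lpe (K5.f12720 IH) (Lpe (K6.f143286 IH) (Lpr_dt (K11.f447632 IH) (Lpn K11.v86))))))))))
theorem f450925 : Led Lsl_ct K11.v86 = v176 :=
  Lgr Lrot8 (Lpe (f447635 IH) (Lpr_dt (K6.f12146 IH) (Lpr_gt (K0.f12155 IH) (Lpr_dt (K3.f7401 IH) (Lpr_cf (K29.f450741 IH) (Lpe (K29.f450747 IH) (Lpr_gf (K3.f11893 IH) (Lpr_df (f10074 IH) (Lpr_gf (f450922 IH) (Lpn v176))))))))))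
theorem f450842 : Led Lsl_ff (LP (LK LD1_c0 LD2_c48 LD3_c57)) = K34.v164 :=
  Lgr Lrot19 (Lpr_dt (K7.f10028 IH) (Lpe (K34.f433164 IH) (Lpr_dt (K34.f450839 IH) (Lpn K34.v164))))
theorem f450843 : Led Lsl_bt K11.v86 = K34.v164 :=
  Lgr Lrot35 (Lpe (K11.f447636 IH) (Lpe (K11.f12176 IH) (Lpr_ff (f450842 IH) (Lpn K34.v164))))
theorem f522373 : Led Lsl_ct v878 = v2451 :=
  Lgr Lrot63 (Lpe (f490210 IH) (Lpe (f451141 IH) (Lpe (f450843 IH) (Lpr_ct (f450925 IH) (Lpe (f450922 IH) (Lpe (f9946 IH) (Lpr_bt (f10086 IH) (Lpr_gt (K7.f10087 IH) (Lpr_ct (f94402 IH) (Lpr_gt (f522370 IH) (Lpn v2451)))))))))))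
theorem f125113 : Led Lsl_ft (LP (LK LD1_c1 LD2_c45 LD3_c58)) = (LP (LK LD1_c1 LD2_c42 LD3_c44)) :=
  Lgr Lrot4 (Lpr_cf (K3.f106784 IH) (Lpr_ff (K5.f125111 IH) (Lpe (K5.f125098 IH) (Lpn (LP (LK LD1_c1 LD2_c42 LD3_c44))))))
theorem f144175 : Led Lsl_et (LP (LK LD1_c1 LD2_c42 LD3_c44)) = (LP (LK LD1_c0 LD2_c48 LD3_c58)) :=
  Lgr Lrot69 (Lpe (f125113 IH) (Lpr_ef (K4.f114408 IH) (Lpe (K7.f87543 IH) (Lpe (K2.f84743 IH) (Lpr_ff (K6.f144173 IH) (Lpn (LP (LK LD1_c0 LD2_c48 LD3_c58))))))))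
theorem f87506 : Led Lsl_dt (LP (LK LD1_c1 LD2_c42 LD3_c44)) = (LP (LK LD1_c3 LD2_c32 LD3_c7)) :=
  Lre_d IH (LK LD1_c1 LD2_c42 LD3_c44) (LK LD1_c3 LD2_c32 LD3_c7) Lrfl Lrfl
theorem f156179 : Led Lsl_gt (LP (LK LD1_c3 LD2_c32 LD3_c7)) = (LP (LK LD1_c1 LD2_c45 LD3_c42)) :=
  Lgr Lrot112 (Lpe (f87506 IH) (Lpr_et (f144175 IH) (Lpe (K6.f144151 IH) (Lpe (K3.f95933 IH) (Lpr_dt (K3.f95930 IH) (Lpr_gf (K4.f115091 IH) (Lpe (K4.f12101 IH) (Lpe (K7.f143282 IH) (Lpr_ef (K7.f156044 IH) (Lpr_dt (K11.f156072 IH) (Lpn (LP (LK LD1_c1 LD2_c45 LD3_c42)))))))))))))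
def v2118 : LQ := Led Lsl_dt (LP (LK LD1_c1 LD2_c35 LD3_c51))
theorem f509078 : Led Lsl_dt (LP (LK LD1_c1 LD2_c35 LD3_c51)) = v2118 :=
  Lrfl
theorem f87507 : Led Lsl_dt (LP (LK LD1_c3 LD2_c32 LD3_c7)) = (LP (LK LD1_c1 LD2_c42 LD3_c44)) :=
  Lre_d IH (LK LD1_c3 LD2_c32 LD3_c7) (LK LD1_c1 LD2_c42 LD3_c44) Lrfl Lrfl
theorem f509080 : Led Lsl_bf (LP (LK LD1_c3 LD2_c32 LD3_c7)) = v2118 :=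
  Lgr Lrot93 (Lpr_dt (f87507 IH) (Lpr_bt (K5.f94380 IH) (Lpr_dt (f509078 IH) (Lpn v2118))))
theorem f626772 : Led Lsl_ct v2118 = v3684 :=
  Lgr Lrot63 (Lpe (f509080 IH) (Lpr_gt (f156179 IH) (Lpe (K11.f156061 IH) (Lpr_ct (f94402 IH) (Lpr_gt (f522370 IH) (Lpe (f522373 IH) (Lpe (f490210 IH) (Lpe (f451141 IH) (Lpr_ct (f490939 IH) (Lpr_gt (f626768 IH) (Lpn v3684)))))))))))
theorem f85583 : Led Lsl_dt (LP (LK LD1_c0 LD2_c53 LD3_c22)) = (LP (LK LD1_c1 LD2_c53 LD3_c33)) :=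
  Lre_d IH (LK LD1_c0 LD2_c53 LD3_c22) (LK LD1_c1 LD2_c53 LD3_c33) Lrfl Lrfl
def v2715 : LQ := Led Lsl_gt (LP (LK LD1_c1 LD2_c53 LD3_c33))
theorem f531323 : Led Lsl_gt (LP (LK LD1_c1 LD2_c53 LD3_c33)) = v2715 :=
  Lrfl
theorem f626775 : Led Lsl_dt v2715 = v3684 :=
  Lgr Lrot113 (Lpe (f531323 IH) (Lpe (f85583 IH) (Lpe (K4.f12727 IH) (Lpe (K4.f85649 IH) (Lpe (K5.f114148 IH) (Lpe (K3.f106677 IH) (Lpr_gt (K3.f94374 IH) (Lpr_dt (f509078 IH) (Lpr_ct (f626772 IH) (Lpn v3684))))))))))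
theorem f531328 : Led Lsl_et (LP (LK LD1_c3 LD2_c53 LD3_c53)) = (LP (LK LD1_c1 LD2_c53 LD3_c33)) :=
  Lre_e IH (LK LD1_c3 LD2_c53 LD3_c53) (LK LD1_c1 LD2_c53 LD3_c33) Lrfl Lrfl
theorem f531329 : Led Lsl_dt (LP (LK LD1_c3 LD2_c53 LD3_c53)) = (LP (LK LD1_c7 LD2_c48 LD3_c44)) :=
  Lre_d IH (LK LD1_c3 LD2_c53 LD3_c53) (LK LD1_c7 LD2_c48 LD3_c44) Lrfl Lrfl
theorem f531330 : Led Lsl_gt (LP (LK LD1_c14 LD2_c44 LD3_c31)) = (LP (LK LD1_c7 LD2_c48 LD3_c44)) :=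
  Lre_g IH (LK LD1_c14 LD2_c44 LD3_c31) (LK LD1_c7 LD2_c48 LD3_c44) Lrfl Lrfl
theorem f531331 : Led Lsl_dt (LP (LK LD1_c24 LD2_c30 LD3_c40)) = (LP (LK LD1_c14 LD2_c44 LD3_c31)) :=
  Lre_d IH (LK LD1_c24 LD2_c30 LD3_c40) (LK LD1_c14 LD2_c44 LD3_c31) Lrfl Lrfl
theorem f450844 : Led Lsl_ft (LP (LK LD1_c0 LD2_c48 LD3_c57)) = K34.v164 :=
  Lgr Lrot48 (Lpr_ff (f450842 IH) (Lpn K34.v164))
theorem f490941 : Led Lsl_ff (LP (LK LD1_c1 LD2_c44 LD3_c36)) = v1000 :=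
  Lgr Lrot23 (Lpr_ct (K7.f155120 IH) (Lpr_ft (f450844 IH) (Lpr_ct (f490939 IH) (Lpn v1000))))
theorem f433144 : Led Lsl_at (LP (LK LD1_c1 LD2_c44 LD3_c36)) = (LP (LK LD1_c3 LD2_c35 LD3_c27)) :=
  Lre_a IH (LK LD1_c1 LD2_c44 LD3_c36) (LK LD1_c3 LD2_c35 LD3_c27) Lrfl Lrfl
theorem f626769 : Led Lsl_gf (LP (LK LD1_c3 LD2_c35 LD3_c27)) = v3684 :=
  Lgr Lrot76 (Lpe (f433144 IH) (Lpr_ff (f490941 IH) (Lpr_gt (f626768 IH) (Lpn v3684))))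
theorem f433305 : Led Lsl_et (LP (LK LD1_c7 LD2_c11 LD3_c48)) = (LP (LK LD1_c13 LD2_c37 LD3_c58)) :=
  Lre_e IH (LK LD1_c7 LD2_c11 LD3_c48) (LK LD1_c13 LD2_c37 LD3_c58) Lrfl Lrfl
theorem f433322 : Led Lsl_gt (LP (LK LD1_c13 LD2_c37 LD3_c58)) = (LP (LK LD1_c23 LD2_c2 LD3_c55)) :=
  Lre_g IH (LK LD1_c13 LD2_c37 LD3_c58) (LK LD1_c23 LD2_c2 LD3_c55) Lrfl Lrfl
theorem f626776 : Led Lsl_et (LP (LK LD1_c24 LD2_c30 LD3_c40)) = (LP (LK LD1_c23 LD2_c2 LD3_c55)) :=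
  Lgr Lrot122 (Lpr_dt (f531331 IH) (Lpr_gt (f531330 IH) (Lpe (f531329 IH) (Lpr_et (f531328 IH) (Lpr_gt (f531323 IH) (Lpr_dt (f626775 IH) (Lpe (f626769 IH) (Lpe (K11.f433157 IH) (Lpr_et (f433305 IH) (Lpr_gt (f433322 IH) (Lpn (LP (LK LD1_c23 LD2_c2 LD3_c55)))))))))))))
theorem f626777 : Led Lsl_et (LP (LK LD1_c24 LD2_c30 LD3_c40)) = (LP (LK LD1_c23 LD2_c2 LD3_c55)) :=
  Leop (Lpe (f626776 IH) (Lpn (LP (LK LD1_c24 LD2_c30 LD3_c40))))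
theorem seed_249 : LEOK LG_e (LK LD1_c24 LD2_c30 LD3_c40) :=
  Leoe_e (LK LD1_c24 LD2_c30 LD3_c40) (f626777 IH)
def v3867 : LQ := Led Lsl_ct K29.v1083
theorem f627639 : Led Lsl_ct K29.v1083 = v3867 :=
  Lrfl
theorem f86827 : Led Lsl_dt (LP (LK LD1_c1 LD2_c46 LD3_c0)) = (LP (LK LD1_c3 LD2_c38 LD3_c7)) :=
  Lre_d IH (LK LD1_c1 LD2_c46 LD3_c0) (LK LD1_c3 LD2_c38 LD3_c7) Lrfl Lrfl
theorem f86847 : Led Lsl_et (LP (LK LD1_c3 LD2_c32 LD3_c58)) = (LP (LK LD1_c7 LD2_c6 LD3_c54)) :=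
  Lre_e IH (LK LD1_c3 LD2_c32 LD3_c58) (LK LD1_c7 LD2_c6 LD3_c54) Lrfl Lrfl
theorem f86848 : Led Lsl_cf (LP (LK LD1_c3 LD2_c38 LD3_c7)) = (LP (LK LD1_c7 LD2_c6 LD3_c54)) :=
  Lgr Lrot39 (Lpr_et (K3.f86839 IH) (Lpr_ct (K3.f86844 IH) (Lpr_et (f86847 IH) (Lpn (LP (LK LD1_c7 LD2_c6 LD3_c54))))))
theorem f627644 : Led Lsl_gf (LP (LK LD1_c7 LD2_c6 LD3_c54)) = v3867 :=
  Lgr Lrot104 (Lpe (f86848 IH) (Lpe (f86827 IH) (Lpr_cf (K3.f97329 IH) (Lpr_gf (K34.f470835 IH) (Lpe (K29.f446531 IH) (Lpqs (K28.f470373 IH) (Lpe (K28.f455825 IH) (Lpe (K29.f107945 IH) (Lpr_gt (K29.f491333 IH) (Lpr_ct (f627639 IH) (Lpn v3867)))))))))))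
theorem f627642 : Led Lsl_ff (LP (LK LD1_c3 LD2_c56 LD3_c6)) = v3867 :=
  Lgr Lrot23 (Lpr_ct (K32.f14945 IH) (Lpe (K32.f510560 IH) (Lpr_ct (f627639 IH) (Lpn v3867))))
theorem f441690 : Led Lsl_ct (LP (LK LD1_c3 LD2_c33 LD3_c15)) = (LP (LK LD1_c7 LD2_c7 LD3_c24)) :=
  Lre_c IH (LK LD1_c3 LD2_c33 LD3_c15) (LK LD1_c7 LD2_c7 LD3_c24) Lrfl Lrfl
theorem f510598 : Led Lsl_at (LP (LK LD1_c7 LD2_c7 LD3_c24)) = (LP (LK LD1_c3 LD2_c56 LD3_c6)) :=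
  Lgr Lrot107 (Lpe (f441690 IH) (Lpr_af (K32.f510570 IH) (Lpe (K32.f14945 IH) (Lpn (LP (LK LD1_c3 LD2_c56 LD3_c6))))))
theorem f510600 : Led Lsl_af (LP (LK LD1_c7 LD2_c7 LD3_c24)) = (LP (LK LD1_c3 LD2_c56 LD3_c6)) :=
  Lgr Lrot0 (Lpr_at (f510598 IH) (Lpn (LP (LK LD1_c3 LD2_c56 LD3_c6))))
theorem f627646 : Led Lsl_gt (LP (LK LD1_c7 LD2_c6 LD3_c54)) = (LP (LK LD1_c7 LD2_c7 LD3_c24)) :=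
  Lgr Lrot46 (Lpr_gf (f627644 IH) (Lpe (f627642 IH) (Lpe (f510600 IH) (Lpn (LP (LK LD1_c7 LD2_c7 LD3_c24))))))
theorem f627647 : Led Lsl_gt (LP (LK LD1_c7 LD2_c6 LD3_c54)) = (LP (LK LD1_c7 LD2_c7 LD3_c24)) :=
  Leop (Lpe (f627646 IH) (Lpn (LP (LK LD1_c7 LD2_c6 LD3_c54))))
theorem seed_250 : LEOK LG_g (LK LD1_c7 LD2_c6 LD3_c54) :=
  Leoe_g (LK LD1_c7 LD2_c6 LD3_c54) (f627647 IH)
theorem f203899 : Led Lsl_bt (LP (LK LD1_c1 LD2_c48 LD3_c22)) = (LP (LK LD1_c3 LD2_c42 LD3_c27)) :=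
  Lre_b IH (LK LD1_c1 LD2_c48 LD3_c22) (LK LD1_c3 LD2_c42 LD3_c27) Lrfl Lrfl
theorem f120886 : Led Lsl_dt (LP (LK LD1_c3 LD2_c42 LD3_c27)) = (LP (LK LD1_c1 LD2_c48 LD3_c11)) :=
  Lre_d IH (LK LD1_c3 LD2_c42 LD3_c27) (LK LD1_c1 LD2_c48 LD3_c11) Lrfl Lrfl
theorem f425215 : Led Lsl_af (LP (LK LD1_c3 LD2_c42 LD3_c27)) = (LP (LK LD1_c6 LD2_c58 LD3_c56)) :=
  Lgr Lrot117 (Lpr_dt (f120886 IH) (Lpr_at (K28.f425209 IH) (Lpr_dt (K3.f86830 IH) (Lpn (LP (LK LD1_c6 LD2_c58 LD3_c56))))))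
theorem f425217 : Led Lsl_at (LP (LK LD1_c3 LD2_c42 LD3_c27)) = (LP (LK LD1_c6 LD2_c58 LD3_c56)) :=
  Lgr Lrot100 (Lpr_af (f425215 IH) (Lpn (LP (LK LD1_c6 LD2_c58 LD3_c56))))
theorem f425278 : Led Lsl_af (LP (LK LD1_c3 LD2_c37 LD3_c42)) = (LP (LK LD1_c3 LD2_c38 LD3_c7)) :=
  Lgr Lrot36 (Lpr_bt (K29.f425275 IH) (Lpe (K34.f203897 IH) (Lpr_bt (f203899 IH) (Lpr_at (f425217 IH) (Lpe (K3.f86836 IH) (Lpn (LP (LK LD1_c3 LD2_c38 LD3_c7))))))))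
theorem f429457 : Led Lsl_at (LP (LK LD1_c3 LD2_c34 LD3_c42)) = (LP (LK LD1_c7 LD2_c6 LD3_c54)) :=
  Lgr Lrot107 (Lpr_cf (K29.f429433 IH) (Lpr_af (f425278 IH) (Lpr_cf (f86848 IH) (Lpn (LP (LK LD1_c7 LD2_c6 LD3_c54))))))
theorem f429489 : Led Lsl_ft (LP (LK LD1_c7 LD2_c10 LD3_c34)) = (LP (LK LD1_c3 LD2_c34 LD3_c42)) :=
  Lre_f IH (LK LD1_c7 LD2_c10 LD3_c34) (LK LD1_c3 LD2_c34 LD3_c42) Lrfl Lrfl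
theorem f627645 : Led Lsl_gt (LP (LK LD1_c7 LD2_c10 LD3_c34)) = v3867 :=
  Lgr Lrot5 (Lpr_ft (f429489 IH) (Lpr_at (f429457 IH) (Lpr_gf (f627644 IH) (Lpn v3867))))
theorem f455947 : Led Lsl_ct (LP (LK LD1_c6 LD2_c52 LD3_c21)) = (LP (LK LD1_c3 LD2_c24 LD3_c59)) :=
  Lre_c IH (LK LD1_c6 LD2_c52 LD3_c21) (LK LD1_c3 LD2_c24 LD3_c59) Lrfl Lrfl
theorem f470826 : Led Lsl_cf (LP (LK LD1_c7 LD2_c7 LD3_c61)) = (LP (LK LD1_c13 LD2_c29 LD3_c42)) :=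
  Lgr Lrot11 (Lpr_ct (K29.f470821 IH) (Lpn (LP (LK LD1_c13 LD2_c29 LD3_c42))))
theorem f160287 : Led Lsl_dt (LP (LK LD1_c22 LD2_c50 LD3_c22)) = (LP (LK LD1_c13 LD2_c29 LD3_c42)) :=
  Lre_d IH (LK LD1_c22 LD2_c50 LD3_c22) (LK LD1_c13 LD2_c29 LD3_c42) Lrfl Lrfl
theorem f160286 : Led Lsl_dt (LP (LK LD1_c13 LD2_c29 LD3_c42)) = (LP (LK LD1_c22 LD2_c50 LD3_c22)) :=
  Lre_d IH (LK LD1_c13 LD2_c29 LD3_c42) (LK LD1_c22 LD2_c50 LD3_c22) Lrfl Lrfl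
theorem f510572 : Led Lsl_ct (LP (LK LD1_c7 LD2_c7 LD3_c24)) = (LP (LK LD1_c3 LD2_c33 LD3_c15)) :=
  Lre_c IH (LK LD1_c7 LD2_c7 LD3_c24) (LK LD1_c3 LD2_c33 LD3_c15) Lrfl Lrfl
theorem f510573 : Led Lsl_dt (LP (LK LD1_c13 LD2_c29 LD3_c50)) = (LP (LK LD1_c7 LD2_c7 LD3_c24)) :=
  Lre_d IH (LK LD1_c13 LD2_c29 LD3_c50) (LK LD1_c7 LD2_c7 LD3_c24) Lrfl Lrfl
theorem f510574 : Led Lsl_ct (LP (LK LD1_c22 LD2_c50 LD3_c22)) = (LP (LK LD1_c13 LD2_c29 LD3_c50)) :=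
  Lgr Lrot53 (Lpe (f160286 IH) (Lpe (K29.f470821 IH) (Lpr_df (K28.f463618 IH) (Lpe (K29.f455948 IH) (Lpr_df (K29.f491331 IH) (Lpr_ft (K32.f510567 IH) (Lpe (K32.f510570 IH) (Lpe (f510572 IH) (Lpe (f510573 IH) (Lpn (LP (LK LD1_c13 LD2_c29 LD3_c50))))))))))))
theorem f510578 : Led Lsl_cf (LP (LK LD1_c22 LD2_c50 LD3_c22)) = (LP (LK LD1_c13 LD2_c29 LD3_c50)) :=
  Lgr Lrot11 (Lpr_ct (f510574 IH) (Lpn (LP (LK LD1_c13 LD2_c29 LD3_c50))))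
theorem f510584 : Led Lsl_dt (LP (LK LD1_c7 LD2_c7 LD3_c24)) = (LP (LK LD1_c13 LD2_c29 LD3_c50)) :=
  Lre_d IH (LK LD1_c7 LD2_c7 LD3_c24) (LK LD1_c13 LD2_c29 LD3_c50) Lrfl Lrfl
theorem f107958 : Led Lsl_ct (LP (LK LD1_c3 LD2_c34 LD3_c35)) = (LP (LK LD1_c7 LD2_c10 LD3_c18)) :=
  Lre_c IH (LK LD1_c3 LD2_c34 LD3_c35) (LK LD1_c7 LD2_c10 LD3_c18) Lrfl Lrfl
theorem f511241 : Led Lsl_ft (LP (LK LD1_c7 LD2_c10 LD3_c18)) = (LP (LK LD1_c7 LD2_c7 LD3_c24)) :=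
  Lgr Lrot4 (Lpe (f107958 IH) (Lpr_ff (K32.f511237 IH) (Lpe (f510572 IH) (Lpn (LP (LK LD1_c7 LD2_c7 LD3_c24))))))
theorem f511245 : Led Lsl_ff (LP (LK LD1_c7 LD2_c10 LD3_c18)) = (LP (LK LD1_c7 LD2_c7 LD3_c24)) :=
  Lgr Lrot3 (Lpr_ft (f511241 IH) (Lpn (LP (LK LD1_c7 LD2_c7 LD3_c24))))
theorem f627643 : Led Lsl_at (LP (LK LD1_c7 LD2_c10 LD3_c18)) = v3867 :=
  Lgr Lrot33 (Lpr_ff (f511245 IH) (Lpr_dt (f510584 IH) (Lpe (f510578 IH) (Lpr_dt (f160287 IH) (Lpe (f470826 IH) (Lpr_dt (K29.f472499 IH) (Lpr_ct (f455947 IH) (Lpr_dt (K32.f491332 IH) (Lpr_ct (f627639 IH) (Lpn v3867))))))))))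
theorem f627648 : Led Lsl_gf (LP (LK LD1_c7 LD2_c10 LD3_c34)) = (LP (LK LD1_c7 LD2_c7 LD3_c24)) :=
  Lgr Lrot47 (Lpr_gt (f627645 IH) (Lpe (f627643 IH) (Lpr_ff (f511245 IH) (Lpn (LP (LK LD1_c7 LD2_c7 LD3_c24))))))
theorem f627649 : Led Lsl_gt (LP (LK LD1_c7 LD2_c7 LD3_c24)) = (LP (LK LD1_c7 LD2_c10 LD3_c34)) :=
  Leop (Lpr_gf (f627648 IH) (Lpn (LP (LK LD1_c7 LD2_c7 LD3_c24))))
theorem seed_251 : LEOK LG_g (LK LD1_c7 LD2_c7 LD3_c24) :=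
  Leoe_g (LK LD1_c7 LD2_c7 LD3_c24) (f627649 IH)
def v1113 : LQ := Led Lsl_ct K29.v266
def v3897 : LQ := Led Lsl_dt v1113
theorem f627779 : Led Lsl_dt v1113 = v3897 :=
  Lrfl
theorem f491570 : Led Lsl_ct K29.v266 = v1113 :=
  Lrfl
def v1116 : LQ := Led Lsl_ft K29.v266
theorem f491581 : Led Lsl_ft K29.v266 = v1116 :=
  Lrfl
theorem f491583 : Led Lsl_ff K29.v266 = v1116 :=
  Lgr Lrot3 (Lpr_ft (f491581 IH) (Lpn v1116))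
def v2820 : LQ := Led Lsl_ft v346
theorem f535763 : Led Lsl_ft v346 = v2820 :=
  Lrfl
theorem f535764 : Led Lsl_af v347 = v2820 :=
  Lgr Lrot45 (Lpr_ft (f535750 IH) (Lpe (f535749 IH) (Lpr_ft (f535763 IH) (Lpn v2820))))
def v1111 : LQ := Led Lsl_at K29.v266
theorem f491564 : Led Lsl_at K29.v266 = v1111 :=
  Lrfl
theorem f491565 : Led Lsl_af K29.v266 = v1111 :=
  Lgr Lrot0 (Lpr_at (f491564 IH) (Lpn v1111))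
theorem f491566 : Led Lsl_ft K32.v267 = v1111 :=
  Lgr Lrot2 (Lpe (K32.f451466 IH) (Lpr_gt (K29.f451465 IH) (Lpr_af (f491565 IH) (Lpn v1111))))
theorem f491567 : Led Lsl_ff K32.v267 = v1111 :=
  Lgr Lrot3 (Lpr_ft (f491566 IH) (Lpn v1111))
theorem f491584 : Led Lsl_at K32.v267 = v1116 :=
  Lgr Lrot66 (Lpr_ff (f491567 IH) (Lpe (f491564 IH) (Lpr_ff (f491583 IH) (Lpn v1116))))
def v1960 : LQ := Led Lsl_ft (LP (LK LD1_c1 LD2_c32 LD3_c5))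
theorem f506608 : Led Lsl_ft (LP (LK LD1_c1 LD2_c32 LD3_c5)) = v1960 :=
  Lrfl
def v1955 : LQ := Led Lsl_ft (LP (LK LD1_c1 LD2_c32 LD3_c1))
theorem f506574 : Led Lsl_ft (LP (LK LD1_c1 LD2_c32 LD3_c1)) = v1955 :=
  Lrfl
theorem f506577 : Led Lsl_ff (LP (LK LD1_c1 LD2_c32 LD3_c1)) = v1955 :=
  Lgr Lrot3 (Lpr_ft (f506574 IH) (Lpn v1955))
def v1953 : LQ := Led Lsl_at (LP (LK LD1_c1 LD2_c32 LD3_c1))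
theorem f506566 : Led Lsl_at (LP (LK LD1_c1 LD2_c32 LD3_c1)) = v1953 :=
  Lrfl
theorem f506568 : Led Lsl_df v494 = v1953 :=
  Lgr Lrot18 (Lpe (f453618 IH) (Lpr_dt (K17.f61682 IH) (Lpr_at (f506566 IH) (Lpn v1953))))
theorem f453620 : Led Lsl_ff (LP (LK LD1_c0 LD2_c42 LD3_c36)) = v494 :=
  Lgr Lrot3 (Lpr_ft (f453619 IH) (Lpn v494))
theorem f506570 : Led Lsl_ft (LP (LK LD1_c1 LD2_c32 LD3_c4)) = v1953 :=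
  Lgr Lrot54 (Lpe (K9.f67187 IH) (Lpr_ff (f453620 IH) (Lpr_df (f506568 IH) (Lpn v1953))))
theorem f506571 : Led Lsl_ff (LP (LK LD1_c1 LD2_c32 LD3_c4)) = v1953 :=
  Lgr Lrot3 (Lpr_ft (f506570 IH) (Lpn v1953))
theorem f506578 : Led Lsl_at (LP (LK LD1_c1 LD2_c32 LD3_c4)) = v1955 :=
  Lgr Lrot66 (Lpr_ff (f506571 IH) (Lpe (f506566 IH) (Lpr_ff (f506577 IH) (Lpn v1955))))
def v1887 : LQ := Led Lsl_at (LP (LK LD1_c1 LD2_c30 LD3_c33))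
theorem f506253 : Led Lsl_at (LP (LK LD1_c1 LD2_c30 LD3_c33)) = v1887 :=
  Lrfl
theorem f506254 : Led Lsl_af (LP (LK LD1_c1 LD2_c30 LD3_c33)) = v1887 :=
  Lgr Lrot0 (Lpr_at (f506253 IH) (Lpn v1887))
theorem f506580 : Led Lsl_ef v1887 = v1955 :=
  Lgr Lrot20 (Lpe (f506254 IH) (Lpr_et (K32.f67191 IH) (Lpr_at (f506578 IH) (Lpn v1955))))
theorem f506579 : Led Lsl_dt v496 = v1955 :=
  Lgr Lrot60 (Lpe (f453623 IH) (Lpe (K17.f25850 IH) (Lpr_ff (f506577 IH) (Lpn v1955))))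
def v3080 : LQ := Led Lsl_gt v494
theorem f622766 : Led Lsl_gt v494 = v3080 :=
  Lrfl
theorem f453625 : Led Lsl_ff (LP (LK LD1_c0 LD2_c42 LD3_c35)) = v496 :=
  Lgr Lrot3 (Lpr_ft (f453623 IH) (Lpn v496))
theorem f453626 : Led Lsl_at (LP (LK LD1_c0 LD2_c42 LD3_c36)) = v496 :=
  Lgr Lrot66 (Lpr_ff (f453620 IH) (Lpe (f453617 IH) (Lpr_ff (f453625 IH) (Lpn v496))))
theorem f622767 : Led Lsl_gf v496 = v3080 :=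
  Lgr Lrot76 (Lpe (f453626 IH) (Lpr_ff (f453620 IH) (Lpr_gt (f622766 IH) (Lpn v3080))))
theorem f622787 : v3080 = (LP (LK LD1_c0 LD2_c42 LD3_c38)) :=
  Lefun (Lecon (f622766 IH) (f622786 IH)) (Lfl_gf (K24.f435371 IH))
theorem f622806 : v496 = (LP (LK LD1_c1 LD2_c6 LD3_c52)) :=
  Lefun (Lecon (Lfl_gf (f622767 IH)) (f622787 IH)) (Lfl_gf (K24.f210120 IH))
theorem f622825 : v1955 = (LP (LK LD1_c2 LD2_c19 LD3_c30)) :=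
  Lefun (Lecon (f506579 IH) (f622806 IH)) (K24.f152216 IH)
theorem f622833 : v1887 = (LP (LK LD1_c2 LD2_c18 LD3_c24)) :=
  Lefun (Lecon (Lfl_ef (f506580 IH)) (f622825 IH)) (Lfl_ef (K24.f152207 IH))
theorem f506255 : Led Lsl_ft (LP (LK LD1_c1 LD2_c30 LD3_c34)) = v1887 :=
  Lgr Lrot2 (Lpr_gt (K29.f416969 IH) (Lpr_gt (K9.f61837 IH) (Lpr_af (f506254 IH) (Lpn v1887))))
theorem f622840 : Led Lsl_ff (LP (LK LD1_c3 LD2_c8 LD3_c52)) = (LP (LK LD1_c3 LD2_c19 LD3_c36)) :=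
  Lgr Lrot23 (Lpr_ct (K32.f435685 IH) (Lpr_ft (f506255 IH) (Lpqs (f622833 IH) (Lpr_ct (K24.f438294 IH) (Lpn (LP (LK LD1_c3 LD2_c19 LD3_c36)))))))
theorem f135719 : Led Lsl_bf (LP (LK LD1_c9 LD2_c29 LD3_c5)) = (LP (LK LD1_c6 LD2_c43 LD3_c2)) :=
  Lgr Lrot24 (Lpr_bt (K6.f135709 IH) (Lpn (LP (LK LD1_c6 LD2_c43 LD3_c2))))
theorem f113248 : Led Lsl_at (LP (LK LD1_c9 LD2_c29 LD3_c5)) = (LP (LK LD1_c4 LD2_c48 LD3_c9)) :=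
  Lre_a IH (LK LD1_c9 LD2_c29 LD3_c5) (LK LD1_c4 LD2_c48 LD3_c9) Lrfl Lrfl
theorem f438281 : Led Lsl_at (LP (LK LD1_c2 LD2_c21 LD3_c60)) = (LP (LK LD1_c1 LD2_c36 LD3_c13)) :=
  Lgr Lrot67 (Lpe (K32.f113219 IH) (Lpe (f113248 IH) (Lpr_bf (f135719 IH) (Lpe (K6.f24731 IH) (Lpe (K5.f24699 IH) (Lpn (LP (LK LD1_c1 LD2_c36 LD3_c13))))))))
theorem f113233 : Led Lsl_ft (LP (LK LD1_c4 LD2_c48 LD3_c11)) = (LP (LK LD1_c2 LD2_c21 LD3_c60)) :=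
  Lre_f IH (LK LD1_c4 LD2_c48 LD3_c11) (LK LD1_c2 LD2_c21 LD3_c60) Lrfl Lrfl
theorem f438283 : Led Lsl_gt (LP (LK LD1_c4 LD2_c48 LD3_c11)) = (LP (LK LD1_c3 LD2_c19 LD3_c37)) :=
  Lgr Lrot5 (Lpr_ft (f113233 IH) (Lpr_at (f438281 IH) (Lpe (K32.f24709 IH) (Lpn (LP (LK LD1_c3 LD2_c19 LD3_c37))))))
theorem f622848 : Led Lsl_at (LP (LK LD1_c3 LD2_c8 LD3_c52)) = (LP (LK LD1_c3 LD2_c19 LD3_c37)) :=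
  Lgr Lrot26 (Lpr_ff (f622840 IH) (Lpe (K24.f438291 IH) (Lpr_gt (f438283 IH) (Lpn (LP (LK LD1_c3 LD2_c19 LD3_c37))))))
def v1888 : LQ := Led Lsl_ft (LP (LK LD1_c1 LD2_c30 LD3_c33))
theorem f506257 : Led Lsl_ft (LP (LK LD1_c1 LD2_c30 LD3_c33)) = v1888 :=
  Lrfl
theorem f506258 : Led Lsl_af (LP (LK LD1_c1 LD2_c30 LD3_c34)) = v1888 :=
  Lgr Lrot45 (Lpr_ft (f506255 IH) (Lpe (f506254 IH) (Lpr_ft (f506257 IH) (Lpn v1888))))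
theorem f500076 : Led Lsl_cf (LP (LK LD1_c2 LD2_c18 LD3_c25)) = (LP (LK LD1_c3 LD2_c19 LD3_c37)) :=
  Lgr Lrot11 (Lpr_ct (K32.f500049 IH) (Lpn (LP (LK LD1_c3 LD2_c19 LD3_c37))))
theorem f622855 : v1888 = (LP (LK LD1_c2 LD2_c18 LD3_c25)) :=
  (Llr Lrot68 (Lpe (f506258 IH) (Lpr_ct (K32.f435680 IH) (Lpr_at (f622848 IH) (Lpe (f500076 IH) (Lpn (LP (LK LD1_c2 LD2_c18 LD3_c25)))))))).symm
theorem f535761 : Led Lsl_dt (LP (LK LD1_c2 LD2_c18 LD3_c25)) = v2819 :=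
  Lgr Lrot42 (Lpr_df (f535760 IH) (Lpn v2819))
theorem f622862 : Led Lsl_ff (LP (LK LD1_c3 LD2_c8 LD3_c50)) = v2819 :=
  Lgr Lrot19 (Lpr_dt (K9.f61838 IH) (Lpr_ft (f506257 IH) (Lpqs (f622855 IH) (Lpr_dt (f535761 IH) (Lpn v2819)))))
theorem f622865 : Led Lsl_ft (LP (LK LD1_c3 LD2_c8 LD3_c50)) = v2819 :=
  Lgr Lrot48 (Lpr_ff (f622862 IH) (Lpn v2819))
theorem f500218 : Led Lsl_ft (LP (LK LD1_c2 LD2_c52 LD3_c12)) = (LP (LK LD1_c5 LD2_c51 LD3_c57)) :=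
  Lre_f IH (LK LD1_c2 LD2_c52 LD3_c12) (LK LD1_c5 LD2_c51 LD3_c57) Lrfl Lrfl
theorem f622866 : Led Lsl_cf (LP (LK LD1_c3 LD2_c8 LD3_c50)) = (LP (LK LD1_c5 LD2_c51 LD3_c57)) :=
  Lgr Lrot108 (Lpr_ft (f622865 IH) (Lpe (f535793 IH) (Lpr_ft (f500218 IH) (Lpn (LP (LK LD1_c5 LD2_c51 LD3_c57))))))
theorem f92137 : Led Lsl_ct (LP (LK LD1_c1 LD2_c8 LD3_c8)) = (LP (LK LD1_c2 LD2_c21 LD3_c60)) :=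
  Lre_c IH (LK LD1_c1 LD2_c8 LD3_c8) (LK LD1_c2 LD2_c21 LD3_c60) Lrfl Lrfl
theorem f622872 : Led Lsl_gt (LP (LK LD1_c3 LD2_c3 LD3_c0)) = (LP (LK LD1_c5 LD2_c51 LD3_c57)) :=
  Lgr Lrot150 (Lpe (K9.f24639 IH) (Lpe (K32.f443985 IH) (Lpe (K32.f206550 IH) (Lpr_gt (K32.f68457 IH) (Lpr_ct (f92137 IH) (Lpe (K32.f438510 IH) (Lpr_ct (K32.f67197 IH) (Lpe (K9.f61838 IH) (Lpr_cf (f622866 IH) (Lpn (LP (LK LD1_c5 LD2_c51 LD3_c57))))))))))))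
theorem f24637 : Led Lsl_ct (LP (LK LD1_c3 LD2_c3 LD3_c0)) = (LP (LK LD1_c1 LD2_c27 LD3_c26)) :=
  Lre_c IH (LK LD1_c3 LD2_c3 LD3_c0) (LK LD1_c1 LD2_c27 LD3_c26) Lrfl Lrfl
theorem f500153 : Led Lsl_df (LP (LK LD1_c1 LD2_c21 LD3_c48)) = K31.v1574 :=
  Lgr Lrot38 (Lpr_dt (K31.f500151 IH) (Lpn K31.v1574))
theorem f92140 : Led Lsl_ft (LP (LK LD1_c2 LD2_c14 LD3_c16)) = (LP (LK LD1_c4 LD2_c34 LD3_c39)) :=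
  Lre_f IH (LK LD1_c2 LD2_c14 LD3_c16) (LK LD1_c4 LD2_c34 LD3_c39) Lrfl Lrfl
theorem f500155 : Led Lsl_at (LP (LK LD1_c4 LD2_c34 LD3_c39)) = K31.v1574 :=
  Lgr Lrot66 (Lpe (f92140 IH) (Lpr_af (K31.f452701 IH) (Lpr_ff (K31.f500154 IH) (Lpn K31.v1574))))
theorem f79850 : Led Lsl_gt (LP (LK LD1_c2 LD2_c14 LD3_c16)) = (LP (LK LD1_c4 LD2_c34 LD3_c36)) :=
  Lre_g IH (LK LD1_c2 LD2_c14 LD3_c16) (LK LD1_c4 LD2_c34 LD3_c36) Lrfl Lrfl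
theorem f500164 : Led Lsl_gt (LP (LK LD1_c4 LD2_c34 LD3_c36)) = K31.v1574 :=
  Lgr Lrot46 (Lpe (f79850 IH) (Lpr_ft (f92140 IH) (Lpr_at (f500155 IH) (Lpn K31.v1574))))
theorem f622875 : Led Lsl_df (LP (LK LD1_c4 LD2_c34 LD3_c36)) = (LP (LK LD1_c5 LD2_c51 LD3_c57)) :=
  Lgr Lrot153 (Lpr_gt (f500164 IH) (Lpe (f500153 IH) (Lpe (K6.f139833 IH) (Lpe (K6.f139842 IH) (Lpr_gf (K24.f146011 IH) (Lpr_df (K24.f416803 IH) (Lpe (K24.f24636 IH) (Lpe (f24637 IH) (Lpr_gt (f622872 IH) (Lpn (LP (LK LD1_c5 LD2_c51 LD3_c57))))))))))))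
theorem f154236 : Led Lsl_et (LP (LK LD1_c2 LD2_c22 LD3_c54)) = (LP (LK LD1_c4 LD2_c50 LD3_c12)) :=
  Lre_e IH (LK LD1_c2 LD2_c22 LD3_c54) (LK LD1_c4 LD2_c50 LD3_c12) Lrfl Lrfl
theorem f437958 : Led Lsl_ef (LP (LK LD1_c4 LD2_c48 LD3_c29)) = (LP (LK LD1_c9 LD2_c19 LD3_c23)) :=
  Lgr Lrot73 (Lpe (K32.f23286 IH) (Lpr_et (K32.f20962 IH) (Lpr_dt (K32.f23293 IH) (Lpr_et (K32.f437956 IH) (Lpr_dt (K32.f86098 IH) (Lpn (LP (LK LD1_c9 LD2_c19 LD3_c23))))))))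
theorem f438687 : Led Lsl_et (LP (LK LD1_c3 LD2_c20 LD3_c0)) = (LP (LK LD1_c1 LD2_c37 LD3_c21)) :=
  Lgr Lrot87 (Lpr_ef (K32.f438681 IH) (Lpn (LP (LK LD1_c1 LD2_c37 LD3_c21))))
theorem f503305 : Led Lsl_ft (LP (LK LD1_c4 LD2_c48 LD3_c29)) = (LP (LK LD1_c3 LD2_c20 LD3_c0)) :=
  Lgr Lrot86 (Lpr_ef (f437958 IH) (Lpe (K32.f503273 IH) (Lpe (f154236 IH) (Lpr_ff (K32.f503297 IH) (Lpe (f438687 IH) (Lpn (LP (LK LD1_c3 LD2_c20 LD3_c0))))))))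
theorem f503937 : Led Lsl_ff (LP (LK LD1_c6 LD2_c26 LD3_c39)) = (LP (LK LD1_c6 LD2_c43 LD3_c54)) :=
  Lgr Lrot23 (Lpr_ct (K32.f503931 IH) (Lpr_ft (f503305 IH) (Lpr_ct (K32.f437548 IH) (Lpn (LP (LK LD1_c6 LD2_c43 LD3_c54))))))
theorem f503927 : Led Lsl_at (LP (LK LD1_c6 LD2_c26 LD3_c39)) = (LP (LK LD1_c6 LD2_c43 LD3_c53)) :=
  Lgr Lrot100 (Lpr_af (K32.f503925 IH) (Lpn (LP (LK LD1_c6 LD2_c43 LD3_c53))))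
theorem f503961 : Led Lsl_at (LP (LK LD1_c6 LD2_c26 LD3_c40)) = (LP (LK LD1_c6 LD2_c43 LD3_c54)) :=
  Lgr Lrot66 (Lpe (K32.f503229 IH) (Lpe (f503927 IH) (Lpr_ff (f503937 IH) (Lpn (LP (LK LD1_c6 LD2_c43 LD3_c54))))))
theorem f503990 : Led Lsl_af (LP (LK LD1_c4 LD2_c48 LD3_c30)) = (LP (LK LD1_c3 LD2_c20 LD3_c0)) :=
  Lgr Lrot68 (Lpe (K32.f438796 IH) (Lpr_at (f503961 IH) (Lpr_ct (K32.f416857 IH) (Lpn (LP (LK LD1_c3 LD2_c20 LD3_c0))))))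
theorem f23238 : Led Lsl_et (LP (LK LD1_c4 LD2_c41 LD3_c8)) = (LP (LK LD1_c2 LD2_c17 LD3_c36)) :=
  Lre_e IH (LK LD1_c4 LD2_c41 LD3_c8) (LK LD1_c2 LD2_c17 LD3_c36) Lrfl Lrfl
theorem f438679 : Led Lsl_df (LP (LK LD1_c3 LD2_c20 LD3_c0)) = (LP (LK LD1_c4 LD2_c41 LD3_c8)) :=
  Lgr Lrot168 (Lpr_gf (K32.f438672 IH) (Lpe (K17.f57141 IH) (Lpr_et (K24.f415417 IH) (Lpe (K24.f416790 IH) (Lpe (K24.f23203 IH) (Lpr_dt (K16.f139925 IH) (Lpe (K24.f415342 IH) (Lpe (K24.f416652 IH) (Lpe (K24.f416653 IH) (Lpe (f23238 IH) (Lpn (LP (LK LD1_c4 LD2_c41 LD3_c8)))))))))))))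
theorem f504001 : Led Lsl_at (LP (LK LD1_c3 LD2_c2 LD3_c53)) = (LP (LK LD1_c4 LD2_c41 LD3_c8)) :=
  Lgr Lrot51 (Lpr_df (K29.f438804 IH) (Lpr_af (f503990 IH) (Lpr_df (f438679 IH) (Lpn (LP (LK LD1_c4 LD2_c41 LD3_c8))))))
theorem f503237 : Led Lsl_af (LP (LK LD1_c3 LD2_c6 LD3_c8)) = (LP (LK LD1_c3 LD2_c3 LD3_c10)) :=
  Lgr Lrot117 (Lpr_dt (K24.f57604 IH) (Lpr_at (K32.f503233 IH) (Lpe (K32.f23286 IH) (Lpn (LP (LK LD1_c3 LD2_c3 LD3_c10))))))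
theorem f504007 : Led Lsl_ff (LP (LK LD1_c3 LD2_c3 LD3_c10)) = (LP (LK LD1_c4 LD2_c41 LD3_c8)) :=
  Lgr Lrot30 (Lpe (f503237 IH) (Lpr_ft (K32.f503221 IH) (Lpr_at (f504001 IH) (Lpn (LP (LK LD1_c4 LD2_c41 LD3_c8))))))
theorem f438582 : Led Lsl_ct (LP (LK LD1_c3 LD2_c3 LD3_c10)) = (LP (LK LD1_c5 LD2_c51 LD3_c41)) :=
  Lgr Lrot7 (Lpr_df (K32.f23286 IH) (Lpe (K32.f23282 IH) (Lpe (K32.f23281 IH) (Lpe (K29.f23280 IH) (Lpe (K32.f437345 IH) (Lpe (K32.f438554 IH) (Lpr_dt (K32.f69112 IH) (Lpr_gt (K32.f438556 IH) (Lpr_dt (K32.f438568 IH) (Lpn (LP (LK LD1_c5 LD2_c51 LD3_c41))))))))))))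
theorem f503427 : Led Lsl_at (LP (LK LD1_c5 LD2_c47 LD3_c41)) = (LP (LK LD1_c5 LD2_c51 LD3_c41)) :=
  Lgr Lrot80 (Lpe (K32.f57629 IH) (Lpr_af (K32.f503419 IH) (Lpe (K32.f73626 IH) (Lpn (LP (LK LD1_c5 LD2_c51 LD3_c41))))))
theorem f503429 : Led Lsl_af (LP (LK LD1_c5 LD2_c47 LD3_c41)) = (LP (LK LD1_c5 LD2_c51 LD3_c41)) :=
  Lgr Lrot0 (Lpr_at (f503427 IH) (Lpn (LP (LK LD1_c5 LD2_c51 LD3_c41))))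
theorem f79757 : Led Lsl_gt (LP (LK LD1_c6 LD2_c30 LD3_c5)) = (LP (LK LD1_c3 LD2_c13 LD3_c0)) :=
  Lre_g IH (LK LD1_c6 LD2_c30 LD3_c5) (LK LD1_c3 LD2_c13 LD3_c0) Lrfl Lrfl
theorem f503441 : Led Lsl_ft (LP (LK LD1_c6 LD2_c30 LD3_c5)) = (LP (LK LD1_c5 LD2_c51 LD3_c41)) :=
  Lgr Lrot2 (Lpr_gt (f79757 IH) (Lpe (K32.f445960 IH) (Lpr_af (f503429 IH) (Lpn (LP (LK LD1_c5 LD2_c51 LD3_c41))))))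
theorem f503445 : Led Lsl_ff (LP (LK LD1_c6 LD2_c30 LD3_c5)) = (LP (LK LD1_c5 LD2_c51 LD3_c41)) :=
  Lgr Lrot3 (Lpr_ft (f503441 IH) (Lpn (LP (LK LD1_c5 LD2_c51 LD3_c41))))
theorem f504009 : Led Lsl_ct (LP (LK LD1_c6 LD2_c30 LD3_c5)) = (LP (LK LD1_c4 LD2_c41 LD3_c8)) :=
  Lgr Lrot40 (Lpr_ff (f503445 IH) (Lpe (f438582 IH) (Lpr_ff (f504007 IH) (Lpn (LP (LK LD1_c4 LD2_c41 LD3_c8))))))
theorem f503431 : Led Lsl_af (LP (LK LD1_c5 LD2_c48 LD3_c51)) = (LP (LK LD1_c6 LD2_c26 LD3_c36)) :=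
  Lgr Lrot117 (Lpr_dt (K32.f57134 IH) (Lpr_at (f503427 IH) (Lpe (K32.f438565 IH) (Lpn (LP (LK LD1_c6 LD2_c26 LD3_c36))))))
theorem f437476 : Led Lsl_gt (LP (LK LD1_c5 LD2_c48 LD3_c52)) = (LP (LK LD1_c2 LD2_c50 LD3_c28)) :=
  Lre_g IH (LK LD1_c5 LD2_c48 LD3_c52) (LK LD1_c2 LD2_c50 LD3_c28) Lrfl Lrfl
theorem f503435 : Led Lsl_ft (LP (LK LD1_c5 LD2_c48 LD3_c52)) = (LP (LK LD1_c6 LD2_c26 LD3_c36)) :=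
  Lgr Lrot2 (Lpr_gt (f437476 IH) (Lpr_gt (K32.f57133 IH) (Lpr_af (f503431 IH) (Lpn (LP (LK LD1_c6 LD2_c26 LD3_c36))))))
theorem f503437 : Led Lsl_ff (LP (LK LD1_c5 LD2_c48 LD3_c52)) = (LP (LK LD1_c6 LD2_c26 LD3_c36)) :=
  Lgr Lrot3 (Lpr_ft (f503435 IH) (Lpn (LP (LK LD1_c6 LD2_c26 LD3_c36))))
theorem f503443 : Led Lsl_df (LP (LK LD1_c6 LD2_c30 LD3_c5)) = (LP (LK LD1_c5 LD2_c48 LD3_c52)) :=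
  Lgr Lrot78 (Lpr_ft (f503441 IH) (Lpe (K32.f438565 IH) (Lpe (f503437 IH) (Lpn (LP (LK LD1_c5 LD2_c48 LD3_c52))))))
theorem f438685 : Led Lsl_dt (LP (LK LD1_c3 LD2_c20 LD3_c0)) = (LP (LK LD1_c4 LD2_c41 LD3_c8)) :=
  Lgr Lrot77 (Lpr_ef (K32.f438681 IH) (Lpe (K0.f23222 IH) (Lpe (K24.f23236 IH) (Lpe (K17.f23237 IH) (Lpe (f23238 IH) (Lpn (LP (LK LD1_c4 LD2_c41 LD3_c8))))))))
theorem f504016 : Led Lsl_gf (LP (LK LD1_c5 LD2_c48 LD3_c52)) = (LP (LK LD1_c2 LD2_c50 LD3_c30)) :=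
  Lgr Lrot154 (Lpe (f503443 IH) (Lpr_ct (f504009 IH) (Lpe (f438685 IH) (Lpr_gf (K32.f438672 IH) (Lpe (K17.f57141 IH) (Lpe (K24.f416812 IH) (Lpe (K24.f146060 IH) (Lpe (K24.f437954 IH) (Lpr_dt (K32.f57505 IH) (Lpn (LP (LK LD1_c2 LD2_c50 LD3_c30))))))))))))
theorem f503450 : Led Lsl_dt (LP (LK LD1_c6 LD2_c30 LD3_c5)) = (LP (LK LD1_c5 LD2_c48 LD3_c52)) :=
  Lgr Lrot60 (Lpr_ff (f503445 IH) (Lpe (K32.f438568 IH) (Lpe (f503435 IH) (Lpn (LP (LK LD1_c5 LD2_c48 LD3_c52))))))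
theorem f414120 : Led Lsl_et (LP (LK LD1_c0 LD2_c44 LD3_c53)) = (LP (LK LD1_c1 LD2_c36 LD3_c60)) :=
  Lre_e IH (LK LD1_c0 LD2_c44 LD3_c53) (LK LD1_c1 LD2_c36 LD3_c60) Lrfl Lrfl
theorem f504018 : Led Lsl_et (LP (LK LD1_c6 LD2_c30 LD3_c5)) = (LP (LK LD1_c4 LD2_c41 LD3_c7)) :=
  Lgr Lrot121 (Lpr_dt (f503450 IH) (Lpr_gf (f504016 IH) (Lpe (K32.f57505 IH) (Lpr_et (K32.f415034 IH) (Lpe (K24.f414708 IH) (Lpe (f414120 IH) (Lpr_dt (K17.f413567 IH) (Lpe (K24.f413940 IH) (Lpe (K24.f416523 IH) (Lpe (K17.f414818 IH) (Lpn (LP (LK LD1_c4 LD2_c41 LD3_c7)))))))))))))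
theorem f622884 : Led Lsl_ef (LP (LK LD1_c6 LD2_c27 LD3_c2)) = (LP (LK LD1_c5 LD2_c51 LD3_c57)) :=
  Lgr Lrot17 (Lpe (K17.f414818 IH) (Lpe (f504018 IH) (Lpr_dt (f503450 IH) (Lpr_gf (f504016 IH) (Lpe (K32.f57505 IH) (Lpr_gf (K24.f437954 IH) (Lpe (K6.f143114 IH) (Lpr_dt (K31.f500151 IH) (Lpe (f500164 IH) (Lpr_df (f622875 IH) (Lpn (LP (LK LD1_c5 LD2_c51 LD3_c57)))))))))))))
theorem f414118 : Led Lsl_ft (LP (LK LD1_c2 LD2_c52 LD3_c15)) = (LP (LK LD1_c5 LD2_c52 LD3_c0)) :=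
  Lre_f IH (LK LD1_c2 LD2_c52 LD3_c15) (LK LD1_c5 LD2_c52 LD3_c0) Lrfl Lrfl
theorem f416671 : Led Lsl_af (LP (LK LD1_c6 LD2_c27 LD3_c2)) = (LP (LK LD1_c5 LD2_c52 LD3_c0)) :=
  Lgr Lrot31 (Lpe (K17.f414818 IH) (Lpr_gf (K24.f416662 IH) (Lpr_ft (f414118 IH) (Lpn (LP (LK LD1_c5 LD2_c52 LD3_c0))))))
theorem f416673 : Led Lsl_at (LP (LK LD1_c6 LD2_c27 LD3_c2)) = (LP (LK LD1_c5 LD2_c52 LD3_c0)) :=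
  Lgr Lrot100 (Lpr_af (f416671 IH) (Lpn (LP (LK LD1_c5 LD2_c52 LD3_c0))))
theorem f500021 : Led Lsl_dt (LP (LK LD1_c5 LD2_c50 LD3_c22)) = (LP (LK LD1_c2 LD2_c51 LD3_c22)) :=
  Lre_d IH (LK LD1_c5 LD2_c50 LD3_c22) (LK LD1_c2 LD2_c51 LD3_c22) Lrfl Lrfl
def v2937 : LQ := Led Lsl_gt K31.v409
theorem f536244 : Led Lsl_gt K31.v409 = v2937 :=
  Lrfl
theorem f139897 : Led Lsl_gt (LP (LK LD1_c1 LD2_c21 LD3_c45)) = (LP (LK LD1_c2 LD2_c51 LD3_c22)) :=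
  Lre_g IH (LK LD1_c1 LD2_c21 LD3_c45) (LK LD1_c2 LD2_c51 LD3_c22) Lrfl Lrfl
def v80 : LQ := Led Lsl_et (LP (LK LD1_c0 LD2_c7 LD3_c31))
theorem f446799 : Led Lsl_et (LP (LK LD1_c0 LD2_c7 LD3_c31)) = v80 :=
  Lrfl
theorem f446802 : Led Lsl_ef (LP (LK LD1_c0 LD2_c7 LD3_c31)) = v80 :=
  Lgr Lrot88 (Lpr_et (f446799 IH) (Lpn v80))
def v265 : LQ := Led Lsl_dt v80
theorem f451461 : Led Lsl_dt v80 = v265 :=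
  Lrfl
theorem f451463 : Led Lsl_df v80 = v265 :=
  Lgr Lrot38 (Lpr_dt (f451461 IH) (Lpn v265))
theorem f452703 : Led Lsl_ef v265 = K31.v409 :=
  Lgr Lrot73 (Lpe (f451463 IH) (Lpe (f446802 IH) (Lpr_dt (K2.f20288 IH) (Lpr_et (K6.f59434 IH) (Lpr_dt (K31.f452700 IH) (Lpn K31.v409))))))
theorem f452707 : Led Lsl_et v265 = K31.v409 :=
  Lgr Lrot87 (Lpr_ef (f452703 IH) (Lpn K31.v409))
theorem f143140 : Led Lsl_et (LP (LK LD1_c0 LD2_c37 LD3_c49)) = (LP (LK LD1_c1 LD2_c21 LD3_c45)) :=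
  Lre_e IH (LK LD1_c0 LD2_c37 LD3_c49) (LK LD1_c1 LD2_c21 LD3_c45) Lrfl Lrfl
theorem f26560 : Led Lsl_dt (LP (LK LD1_c0 LD2_c16 LD3_c52)) = (LP (LK LD1_c0 LD2_c37 LD3_c49)) :=
  Lre_d IH (LK LD1_c0 LD2_c16 LD3_c52) (LK LD1_c0 LD2_c37 LD3_c49) Lrfl Lrfl
def v111 : LQ := Led Lsl_bt (LP (LK LD1_c0 LD2_c16 LD3_c50))
theorem f448917 : Led Lsl_bt (LP (LK LD1_c0 LD2_c16 LD3_c50)) = v111 :=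
  Lrfl
theorem f59429 : Led Lsl_bt (LP (LK LD1_c0 LD2_c16 LD3_c52)) = (LP (LK LD1_c0 LD2_c7 LD3_c31)) :=
  Lre_b IH (LK LD1_c0 LD2_c16 LD3_c52) (LK LD1_c0 LD2_c7 LD3_c31) Lrfl Lrfl
theorem f448919 : Led Lsl_cf (LP (LK LD1_c0 LD2_c16 LD3_c52)) = v111 :=
  Lgr Lrot97 (Lpr_bt (f59429 IH) (Lpr_ct (K0.f20274 IH) (Lpr_bt (K1.f20423 IH) (Lpr_ct (K1.f21180 IH) (Lpr_bt (f448917 IH) (Lpn v111))))))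
theorem f446804 : Led Lsl_ct (LP (LK LD1_c0 LD2_c7 LD3_c32)) = v80 :=
  Lgr Lrot15 (Lpe (K6.f21200 IH) (Lpe (K0.f20274 IH) (Lpr_ef (f446802 IH) (Lpn v80))))
def v935 : LQ := Led Lsl_dt v111
theorem f490630 : Led Lsl_dt v111 = v935 :=
  Lrfl
theorem f490632 : Led Lsl_df v111 = v935 :=
  Lgr Lrot38 (Lpr_dt (f490630 IH) (Lpn v935))
theorem f448918 : Led Lsl_bf (LP (LK LD1_c0 LD2_c16 LD3_c50)) = v111 :=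
  Lgr Lrot24 (Lpr_bt (f448917 IH) (Lpn v111))
theorem f490633 : Led Lsl_bt v112 = v935 :=
  Lgr Lrot95 (Lpe (f448923 IH) (Lpr_bf (f448918 IH) (Lpr_df (f490632 IH) (Lpn v935))))
theorem f536631 : v112 = (LP (LK LD1_c0 LD2_c29 LD3_c11)) :=
  Lefun (Lecon (Lfl_gf (f452615 IH)) (f536621 IH)) (K31.f198454 IH)
theorem f536674 : v935 = (LP (LK LD1_c0 LD2_c12 LD3_c55)) :=
  Lefun (Lecon (f490633 IH) (f536631 IH)) (f146318 IH)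
theorem f536756 : v111 = (LP (LK LD1_c0 LD2_c7 LD3_c32)) :=
  Lefun (Lecon (Lfl_df (f490632 IH)) (f536674 IH)) (K9.f176871 IH)
theorem f536885 : (LP (LK LD1_c0 LD2_c16 LD3_c52)) = v80 :=
  Lefun (Lecon (Lfl_cf (f448919 IH)) (f536756 IH)) (f446804 IH)
theorem f537103 : v265 = (LP (LK LD1_c0 LD2_c37 LD3_c49)) :=
  Lefun (Lecon (f451461 IH) (f536885 IH).symm) (f26560 IH)
theorem f537263 : K31.v409 = (LP (LK LD1_c1 LD2_c21 LD3_c45)) :=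
  Lefun (Lecon (f452707 IH) (f537103 IH)) (f143140 IH)
theorem f537647 : v2937 = (LP (LK LD1_c2 LD2_c51 LD3_c22)) :=
  Lefun (Lecon (f536244 IH) (f537263 IH)) (f139897 IH)
theorem f500156 : Led Lsl_ft K31.v409 = K31.v1574 :=
  Lgr Lrot48 (Lpr_ff (K31.f500154 IH) (Lpn K31.v1574))
theorem f92129 : Led Lsl_dt (LP (LK LD1_c4 LD2_c34 LD3_c39)) = (LP (LK LD1_c2 LD2_c14 LD3_c17)) :=
  Lre_d IH (LK LD1_c4 LD2_c34 LD3_c39) (LK LD1_c2 LD2_c14 LD3_c17) Lrfl Lrfl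
theorem f500152 : Led Lsl_af (LP (LK LD1_c4 LD2_c34 LD3_c39)) = K31.v1574 :=
  Lgr Lrot117 (Lpr_dt (f92129 IH) (Lpe (K6.f146017 IH) (Lpr_dt (K31.f500151 IH) (Lpn K31.v1574))))
theorem f536245 : Led Lsl_gf (LP (LK LD1_c4 LD2_c34 LD3_c39)) = v2937 :=
  Lgr Lrot76 (Lpr_af (f500152 IH) (Lpe (f500156 IH) (Lpr_gt (f536244 IH) (Lpn v2937))))
theorem f416141 : Led Lsl_ct (LP (LK LD1_c4 LD2_c41 LD3_c15)) = (LP (LK LD1_c2 LD2_c17 LD3_c41)) :=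
  Lre_c IH (LK LD1_c4 LD2_c41 LD3_c15) (LK LD1_c2 LD2_c17 LD3_c41) Lrfl Lrfl
theorem f622586 : Led Lsl_gf (LP (LK LD1_c5 LD2_c50 LD3_c22)) = (LP (LK LD1_c4 LD2_c41 LD3_c15)) :=
  Lgr Lrot144 (Lpr_dt (f500021 IH) (Lpq (f537647 IH) (Lpe (f536245 IH) (Lpr_dt (f92129 IH) (Lpr_cf (K6.f92110 IH) (Lpe (K6.f92120 IH) (Lpe (K32.f416948 IH) (Lpe (K29.f416935 IH) (Lpr_gf (K29.f416944 IH) (Lpe (f416141 IH) (Lpn (LP (LK LD1_c4 LD2_c41 LD3_c15)))))))))))))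
theorem f622588 : Led Lsl_af (LP (LK LD1_c5 LD2_c50 LD3_c22)) = (LP (LK LD1_c5 LD2_c51 LD3_c57)) :=
  Lgr Lrot31 (Lpr_gf (f622586 IH) (Lpe (f535796 IH) (Lpr_ft (f500218 IH) (Lpn (LP (LK LD1_c5 LD2_c51 LD3_c57))))))
theorem f622590 : Led Lsl_at (LP (LK LD1_c5 LD2_c50 LD3_c22)) = (LP (LK LD1_c5 LD2_c51 LD3_c57)) :=
  Lgr Lrot100 (Lpr_af (f622588 IH) (Lpn (LP (LK LD1_c5 LD2_c51 LD3_c57))))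
theorem f622886 : Led Lsl_et (LP (LK LD1_c5 LD2_c52 LD3_c0)) = (LP (LK LD1_c5 LD2_c50 LD3_c22)) :=
  Lgr Lrot123 (Lpe (f416673 IH) (Lpr_ef (f622884 IH) (Lpe (f622590 IH) (Lpn (LP (LK LD1_c5 LD2_c50 LD3_c22))))))
theorem f416372 : Led Lsl_et (LP (LK LD1_c2 LD2_c17 LD3_c39)) = (LP (LK LD1_c4 LD2_c41 LD3_c15)) :=
  Lre_e IH (LK LD1_c2 LD2_c17 LD3_c39) (LK LD1_c4 LD2_c41 LD3_c15) Lrfl Lrfl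
theorem f622968 : Led Lsl_dt (LP (LK LD1_c5 LD2_c52 LD3_c0)) = (LP (LK LD1_c4 LD2_c49 LD3_c52)) :=
  Lgr Lrot136 (Lpr_et (f622886 IH) (Lpr_gf (f622586 IH) (Lpe (f416372 IH) (Lpr_dt (K24.f414308 IH) (Lpe (K24.f416364 IH) (Lpe (K17.f414836 IH) (Lpe (K17.f414833 IH) (Lpe (K16.f415242 IH) (Lpr_dt (K24.f413680 IH) (Lpe (K24.f414795 IH) (Lpn (LP (LK LD1_c4 LD2_c49 LD3_c52)))))))))))))
theorem f622978 : Led Lsl_ff (LP (LK LD1_c3 LD2_c21 LD3_c27)) = (LP (LK LD1_c4 LD2_c49 LD3_c52)) :=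
  Lgr Lrot19 (Lpr_dt (K24.f414110 IH) (Lpr_ft (f414118 IH) (Lpr_dt (f622968 IH) (Lpn (LP (LK LD1_c4 LD2_c49 LD3_c52))))))
theorem f622990 : Led Lsl_at (LP (LK LD1_c3 LD2_c21 LD3_c27)) = (LP (LK LD1_c4 LD2_c49 LD3_c51)) :=
  Lgr Lrot26 (Lpr_ff (f622978 IH) (Lpr_gt (K24.f414795 IH) (Lpr_gt (K24.f413681 IH) (Lpn (LP (LK LD1_c4 LD2_c49 LD3_c51))))))
theorem f417043 : Led Lsl_et (LP (LK LD1_c4 LD2_c49 LD3_c51)) = (LP (LK LD1_c9 LD2_c32 LD3_c19)) :=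
  Lre_e IH (LK LD1_c4 LD2_c49 LD3_c51) (LK LD1_c9 LD2_c32 LD3_c19) Lrfl Lrfl
theorem f622999 : Led Lsl_af (LP (LK LD1_c6 LD2_c46 LD3_c37)) = (LP (LK LD1_c9 LD2_c32 LD3_c19)) :=
  Lgr Lrot50 (Lpr_et (K17.f414126 IH) (Lpr_at (f622990 IH) (Lpr_et (f417043 IH) (Lpn (LP (LK LD1_c9 LD2_c32 LD3_c19))))))
theorem f414167 : Led Lsl_ct (LP (LK LD1_c6 LD2_c46 LD3_c37)) = (LP (LK LD1_c12 LD2_c56 LD3_c34)) :=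
  Lre_c IH (LK LD1_c6 LD2_c46 LD3_c37) (LK LD1_c12 LD2_c56 LD3_c34) Lrfl Lrfl
theorem f416237 : Led Lsl_et (LP (LK LD1_c9 LD2_c32 LD3_c19)) = (LP (LK LD1_c4 LD2_c49 LD3_c51)) :=
  Lre_e IH (LK LD1_c9 LD2_c32 LD3_c19) (LK LD1_c4 LD2_c49 LD3_c51) Lrfl Lrfl
theorem f413527 : Led Lsl_et (LP (LK LD1_c6 LD2_c45 LD3_c30)) = (LP (LK LD1_c12 LD2_c55 LD3_c10)) :=
  Lre_e IH (LK LD1_c6 LD2_c45 LD3_c30) (LK LD1_c12 LD2_c55 LD3_c10) Lrfl Lrfl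
theorem f416772 : Led Lsl_cf (LP (LK LD1_c9 LD2_c32 LD3_c19)) = (LP (LK LD1_c12 LD2_c55 LD3_c10)) :=
  Lgr Lrot39 (Lpr_et (f416237 IH) (Lpr_ct (K24.f416746 IH) (Lpr_et (f413527 IH) (Lpn (LP (LK LD1_c12 LD2_c55 LD3_c10))))))
theorem f623003 : Led Lsl_at (LP (LK LD1_c12 LD2_c56 LD3_c34)) = (LP (LK LD1_c12 LD2_c55 LD3_c10)) :=
  Lgr Lrot107 (Lpe (f414167 IH) (Lpr_af (f622999 IH) (Lpr_cf (f416772 IH) (Lpn (LP (LK LD1_c12 LD2_c55 LD3_c10))))))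
theorem f623005 : Led Lsl_af (LP (LK LD1_c12 LD2_c56 LD3_c34)) = (LP (LK LD1_c12 LD2_c55 LD3_c10)) :=
  Lgr Lrot0 (Lpr_at (f623003 IH) (Lpn (LP (LK LD1_c12 LD2_c55 LD3_c10))))
theorem f413601 : Led Lsl_et (LP (LK LD1_c12 LD2_c56 LD3_c34)) = (LP (LK LD1_c6 LD2_c46 LD3_c36)) :=
  Lre_e IH (LK LD1_c12 LD2_c56 LD3_c34) (LK LD1_c6 LD2_c46 LD3_c36) Lrfl Lrfl
theorem f623008 : Led Lsl_at (LP (LK LD1_c6 LD2_c46 LD3_c36)) = (LP (LK LD1_c6 LD2_c45 LD3_c30)) :=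
  Lgr Lrot80 (Lpe (f413601 IH) (Lpr_af (f623005 IH) (Lpe (f413527 IH) (Lpn (LP (LK LD1_c6 LD2_c45 LD3_c30))))))
theorem f623012 : Led Lsl_ff (LP (LK LD1_c6 LD2_c46 LD3_c36)) = (LP (LK LD1_c6 LD2_c45 LD3_c31)) :=
  Lgr Lrot52 (Lpr_at (f623008 IH) (Lpe (K24.f180324 IH) (Lpe (K24.f140056 IH) (Lpn (LP (LK LD1_c6 LD2_c45 LD3_c31))))))
theorem f623014 : Led Lsl_ft (LP (LK LD1_c12 LD2_c3 LD3_c52)) = (LP (LK LD1_c12 LD2_c4 LD3_c25)) :=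
  Lgr Lrot54 (Lpe (K24.f416518 IH) (Lpr_ff (f623012 IH) (Lpe (K24.f416601 IH) (Lpn (LP (LK LD1_c12 LD2_c4 LD3_c25))))))
theorem f59844 : Led Lsl_gt (LP (LK LD1_c12 LD2_c3 LD3_c53)) = (LP (LK LD1_c6 LD2_c12 LD3_c4)) :=
  Lre_g IH (LK LD1_c12 LD2_c3 LD3_c53) (LK LD1_c6 LD2_c12 LD3_c4) Lrfl Lrfl
theorem f416603 : Led Lsl_dt (LP (LK LD1_c12 LD2_c3 LD3_c53)) = (LP (LK LD1_c6 LD2_c46 LD3_c39)) :=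
  Lgr Lrot6 (Lpr_gt (f59844 IH) (Lpr_ct (K17.f59831 IH) (Lpe (K16.f59827 IH) (Lpr_ct (K16.f59837 IH) (Lpr_df (K24.f416550 IH) (Lpe (f414935 IH) (Lpe (K24.f414530 IH) (Lpe (K17.f77024 IH) (Lpe (K24.f416408 IH) (Lpn (LP (LK LD1_c6 LD2_c46 LD3_c39))))))))))))
theorem f416608 : Led Lsl_gf (LP (LK LD1_c12 LD2_c3 LD3_c53)) = (LP (LK LD1_c6 LD2_c12 LD3_c6)) :=
  Lgr Lrot143 (Lpr_dt (f416603 IH) (Lpe (K24.f416407 IH) (Lpe (K24.f416523 IH) (Lpe (K17.f414818 IH) (Lpe (K17.f414273 IH) (Lpe (K17.f69274 IH) (Lpe (K2.f73702 IH) (Lpr_gt (K17.f414710 IH) (Lpe (K17.f414716 IH) (Lpn (LP (LK LD1_c6 LD2_c12 LD3_c6))))))))))))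
theorem f623020 : Led Lsl_af (LP (LK LD1_c12 LD2_c3 LD3_c53)) = (LP (LK LD1_c12 LD2_c4 LD3_c25)) :=
  Lgr Lrot31 (Lpr_gf (f416608 IH) (Lpr_gf (K24.f416380 IH) (Lpr_ft (f623014 IH) (Lpn (LP (LK LD1_c12 LD2_c4 LD3_c25))))))
theorem f413530 : Led Lsl_df (LP (LK LD1_c6 LD2_c45 LD3_c30)) = (LP (LK LD1_c11 LD2_c27 LD3_c20)) :=
  Lgr Lrot38 (Lpr_dt (K24.f413523 IH) (Lpn (LP (LK LD1_c11 LD2_c27 LD3_c20))))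
theorem f416776 : Led Lsl_dt (LP (LK LD1_c9 LD2_c31 LD3_c23)) = (LP (LK LD1_c12 LD2_c3 LD3_c51)) :=
  Lgr Lrot6 (Lpr_gt (K24.f414964 IH) (Lpr_ct (K24.f414328 IH) (Lpr_gt (K24.f413681 IH) (Lpr_ct (K24.f416746 IH) (Lpr_df (f413530 IH) (Lpe (K24.f413515 IH) (Lpe (K24.f413480 IH) (Lpe (K24.f413467 IH) (Lpr_gf (K24.f416492 IH) (Lpn (LP (LK LD1_c12 LD2_c3 LD3_c51))))))))))))
theorem f414967 : Led Lsl_gf (LP (LK LD1_c4 LD2_c49 LD3_c18)) = (LP (LK LD1_c2 LD2_c22 LD3_c30)) :=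
  Lgr Lrot147 (Lpr_ct (K24.f414416 IH) (Lpr_gt (K24.f414964 IH) (Lpr_ct (K24.f414328 IH) (Lpe (K24.f413680 IH) (Lpe (K16.f413655 IH) (Lpe (K16.f68366 IH) (Lpe (K17.f27105 IH) (Lpe (K17.f61053 IH) (Lpe (K24.f76940 IH) (Lpn (LP (LK LD1_c2 LD2_c22 LD3_c30))))))))))))
theorem f414744 : Led Lsl_ct (LP (LK LD1_c6 LD2_c12 LD3_c3)) = (LP (LK LD1_c12 LD2_c3 LD3_c51)) :=
  Lre_c IH (LK LD1_c6 LD2_c12 LD3_c3) (LK LD1_c12 LD2_c3 LD3_c51) Lrfl Lrfl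
theorem f416494 : Led Lsl_gt (LP (LK LD1_c3 LD2_c2 LD3_c37)) = (LP (LK LD1_c6 LD2_c12 LD3_c3)) :=
  Lgr Lrot9 (Lpe (K17.f141019 IH) (Lpr_gt (K16.f59890 IH) (Lpr_ct (K17.f27139 IH) (Lpr_gt (K16.f59833 IH) (Lpr_ct (K16.f413472 IH) (Lpe (K24.f413482 IH) (Lpe (K24.f413467 IH) (Lpr_gf (K24.f416492 IH) (Lpe (f414744 IH) (Lpn (LP (LK LD1_c6 LD2_c12 LD3_c3))))))))))))
theorem f417028 : Led Lsl_df (LP (LK LD1_c6 LD2_c46 LD3_c36)) = (LP (LK LD1_c12 LD2_c3 LD3_c52)) :=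
  Lgr Lrot155 (Lpr_gt (K24.f413570 IH) (Lpr_ct (K24.f76941 IH) (Lpe (f414967 IH) (Lpr_ct (K24.f414416 IH) (Lpr_dt (f416776 IH) (Lpe (f414744 IH) (Lpe (f416494 IH) (Lpe (K17.f141021 IH) (Lpr_gf (K24.f416380 IH) (Lpn (LP (LK LD1_c12 LD2_c3 LD3_c52))))))))))))
theorem f623010 : Led Lsl_af (LP (LK LD1_c12 LD2_c3 LD3_c52)) = (LP (LK LD1_c11 LD2_c27 LD3_c20)) :=
  Lgr Lrot117 (Lpe (f417028 IH) (Lpr_at (f623008 IH) (Lpr_dt (K24.f413523 IH) (Lpn (LP (LK LD1_c11 LD2_c27 LD3_c20))))))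
theorem f623026 : Led Lsl_ft (LP (LK LD1_c12 LD2_c3 LD3_c53)) = (LP (LK LD1_c11 LD2_c27 LD3_c20)) :=
  Lgr Lrot101 (Lpr_af (f623020 IH) (Lpe (f623014 IH) (Lpr_af (f623010 IH) (Lpn (LP (LK LD1_c11 LD2_c27 LD3_c20))))))
theorem f623030 : Led Lsl_ff (LP (LK LD1_c12 LD2_c3 LD3_c53)) = (LP (LK LD1_c11 LD2_c27 LD3_c20)) :=
  Lgr Lrot3 (Lpr_ft (f623026 IH) (Lpn (LP (LK LD1_c11 LD2_c27 LD3_c20))))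
theorem f623022 : Led Lsl_at (LP (LK LD1_c12 LD2_c3 LD3_c53)) = (LP (LK LD1_c12 LD2_c4 LD3_c25)) :=
  Lgr Lrot100 (Lpr_af (f623020 IH) (Lpn (LP (LK LD1_c12 LD2_c4 LD3_c25))))
theorem f623018 : Led Lsl_ff (LP (LK LD1_c12 LD2_c3 LD3_c52)) = (LP (LK LD1_c12 LD2_c4 LD3_c25)) :=
  Lgr Lrot3 (Lpr_ft (f623014 IH) (Lpn (LP (LK LD1_c12 LD2_c4 LD3_c25))))
theorem f623032 : Led Lsl_at (LP (LK LD1_c12 LD2_c3 LD3_c52)) = (LP (LK LD1_c11 LD2_c27 LD3_c20)) :=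
  Lgr Lrot66 (Lpr_ff (f623018 IH) (Lpe (f623022 IH) (Lpr_ff (f623030 IH) (Lpn (LP (LK LD1_c11 LD2_c27 LD3_c20))))))
theorem f416375 : Led Lsl_ct (LP (LK LD1_c6 LD2_c26 LD3_c61)) = (LP (LK LD1_c12 LD2_c3 LD3_c52)) :=
  Lgr Lrot59 (Lpr_cf (K24.f416366 IH) (Lpn (LP (LK LD1_c12 LD2_c3 LD3_c52))))
theorem f623143 : Led Lsl_af (LP (LK LD1_c6 LD2_c26 LD3_c61)) = (LP (LK LD1_c5 LD2_c48 LD3_c59)) :=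
  Lgr Lrot68 (Lpr_ct (f416375 IH) (Lpr_at (f623032 IH) (Lpr_ct (K24.f413519 IH) (Lpn (LP (LK LD1_c5 LD2_c48 LD3_c59))))))
theorem f623147 : Led Lsl_at (LP (LK LD1_c3 LD2_c11 LD3_c22)) = (LP (LK LD1_c2 LD2_c50 LD3_c31)) :=
  Lgr Lrot51 (Lpe (K17.f79835 IH) (Lpr_af (f623143 IH) (Lpe (K24.f413479 IH) (Lpn (LP (LK LD1_c2 LD2_c50 LD3_c31))))))
theorem f623398 : Led Lsl_ff (LP (LK LD1_c3 LD2_c11 LD3_c22)) = (LP (LK LD1_c3 LD2_c21 LD3_c31)) :=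
  Lgr Lrot52 (Lpr_at (f623147 IH) (Lpe (K24.f414708 IH) (Lpe (K24.f23212 IH) (Lpn (LP (LK LD1_c3 LD2_c21 LD3_c31))))))
theorem f509779 : Led Lsl_cf (LP (LK LD1_c3 LD2_c21 LD3_c31)) = K32.v2233 :=
  Lgr Lrot169 (Lpr_gt (K24.f23212 IH) (Lpr_ct (K16.f23197 IH) (Lpe (K16.f23200 IH) (Lpe (K17.f23209 IH) (Lpe (K17.f414253 IH) (Lpr_cf (K17.f413671 IH) (Lpe (K9.f73753 IH) (Lpe (K24.f73754 IH) (Lpr_gt (K32.f509778 IH) (Lpn K32.v2233))))))))))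
theorem f623406 : v1960 = K32.v2233 :=
  (Llr Lrot4 (Lpe (f506608 IH) (Lpe (K17.f414832 IH) (Lpr_ff (f623398 IH) (Lpr_cf (f509779 IH) (Lpn K32.v2233)))))).symm
theorem f623407 : Led Lsl_ff (LP (LK LD1_c3 LD2_c11 LD3_c24)) = K32.v1120 :=
  Lgr Lrot19 (Lpr_dt (K9.f67188 IH) (Lpr_ft (f506608 IH) (Lpqs (f623406 IH) (Lpe (K32.f509781 IH) (Lpn K32.v1120)))))
theorem f67202 : Led Lsl_ef (LP (LK LD1_c3 LD2_c8 LD3_c50)) = (LP (LK LD1_c3 LD2_c11 LD3_c24)) :=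
  Lgr Lrot73 (Lpr_dt (K9.f61838 IH) (Lpr_et (K32.f67191 IH) (Lpr_dt (K9.f67173 IH) (Lpr_et (f67201 IH) (Lpr_dt (K17.f67050 IH) (Lpn (LP (LK LD1_c3 LD2_c11 LD3_c24))))))))
theorem f623409 : v2820 = K32.v267 :=
  (Llr Lrot86 (Lpe (f535763 IH) (Lpr_ef (f535759 IH) (Lpe (f622865 IH) (Lpr_ef (f67202 IH) (Lpr_ff (f623407 IH) (Lpe (K32.f491591 IH) (Lpn K32.v267)))))))).symm
theorem f623410 : v347 = v1116 :=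
  Lefun (Lecon (Lfl_af (f535764 IH)) (f623409 IH)) (f491584 IH)
theorem f623413 : K29.v266 = v2815 :=
  Lefun (Lecon (Lfl_ff (f491583 IH)) (f623410 IH).symm) (f535750 IH)
theorem f623414 : v1585 = v1113 :=
  Lefun (Lecon (Lfl_cf (f535785 IH)) (f623413 IH).symm) (f491570 IH)
theorem f627782 : Led Lsl_ff (LP (LK LD1_c2 LD2_c52 LD3_c14)) = v3897 :=
  Lgr Lrot19 (Lpr_dt (K17.f22243 IH) (Lpr_ft (f500208 IH) (Lpqs (f623414 IH) (Lpr_dt (f627779 IH) (Lpn v3897)))))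
theorem f627783 : Led Lsl_ft (LP (LK LD1_c2 LD2_c52 LD3_c14)) = v3897 :=
  Lgr Lrot48 (Lpr_ff (f627782 IH) (Lpn v3897))
theorem f22377 : Led Lsl_dt (LP (LK LD1_c2 LD2_c52 LD3_c11)) = (LP (LK LD1_c1 LD2_c22 LD3_c5)) :=
  Lre_d IH (LK LD1_c2 LD2_c52 LD3_c11) (LK LD1_c1 LD2_c22 LD3_c5) Lrfl Lrfl
theorem f627780 : Led Lsl_af (LP (LK LD1_c2 LD2_c52 LD3_c11)) = v3897 :=
  Lgr Lrot117 (Lpr_dt (f22377 IH) (Lpr_at (f500204 IH) (Lpqs (f623414 IH) (Lpr_dt (f627779 IH) (Lpn v3897)))))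
theorem f163613 : Led Lsl_gt (LP (LK LD1_c5 LD2_c51 LD3_c54)) = (LP (LK LD1_c2 LD2_c52 LD3_c11)) :=
  Lre_g IH (LK LD1_c5 LD2_c51 LD3_c54) (LK LD1_c2 LD2_c52 LD3_c11) Lrfl Lrfl
theorem f627784 : Led Lsl_gt (LP (LK LD1_c2 LD2_c52 LD3_c14)) = (LP (LK LD1_c5 LD2_c51 LD3_c54)) :=
  Lgr Lrot5 (Lpr_ft (f627783 IH) (Lpe (f627780 IH) (Lpe (f163613 IH) (Lpn (LP (LK LD1_c5 LD2_c51 LD3_c54))))))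
theorem f627785 : Led Lsl_gt (LP (LK LD1_c2 LD2_c52 LD3_c14)) = (LP (LK LD1_c5 LD2_c51 LD3_c54)) :=
  Leop (Lpe (f627784 IH) (Lpn (LP (LK LD1_c2 LD2_c52 LD3_c14))))
theorem seed_252 : LEOK LG_g (LK LD1_c2 LD2_c52 LD3_c14) :=
  Leoe_g (LK LD1_c2 LD2_c52 LD3_c14) (f627785 IH)
def v3903 : LQ := Led Lsl_gf K29.v1115
theorem f627810 : Led Lsl_gf K29.v1115 = v3903 :=
  Lrfl
theorem f77738 : Led Lsl_gt (LP (LK LD1_c1 LD2_c30 LD3_c23)) = (LP (LK LD1_c3 LD2_c8 LD3_c20)) :=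
  Lre_g IH (LK LD1_c1 LD2_c30 LD3_c23) (LK LD1_c3 LD2_c8 LD3_c20) Lrfl Lrfl
theorem f83259 : Led Lsl_at (LP (LK LD1_c3 LD2_c8 LD3_c23)) = (LP (LK LD1_c3 LD2_c9 LD3_c21)) :=
  Lgr Lrot51 (Lpe (K24.f77359 IH) (Lpr_af (K9.f77350 IH) (Lpr_df (K2.f83255 IH) (Lpn (LP (LK LD1_c3 LD2_c9 LD3_c21))))))
theorem f77406 : Led Lsl_ft (LP (LK LD1_c1 LD2_c30 LD3_c23)) = (LP (LK LD1_c3 LD2_c8 LD3_c23)) :=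
  Lre_f IH (LK LD1_c1 LD2_c30 LD3_c23) (LK LD1_c3 LD2_c8 LD3_c23) Lrfl Lrfl
theorem f83919 : Led Lsl_gt (LP (LK LD1_c3 LD2_c8 LD3_c20)) = (LP (LK LD1_c3 LD2_c9 LD3_c21)) :=
  Lgr Lrot46 (Lpe (f77738 IH) (Lpr_ft (f77406 IH) (Lpr_at (f83259 IH) (Lpn (LP (LK LD1_c3 LD2_c9 LD3_c21))))))
theorem f445967 : Led Lsl_df (LP (LK LD1_c3 LD2_c8 LD3_c36)) = (LP (LK LD1_c3 LD2_c13 LD3_c2)) :=
  Lgr Lrot38 (Lpr_dt (K24.f445965 IH) (Lpn (LP (LK LD1_c3 LD2_c13 LD3_c2))))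
theorem f82606 : Led Lsl_gt (LP (LK LD1_c2 LD2_c19 LD3_c45)) = (LP (LK LD1_c4 LD2_c43 LD3_c52)) :=
  Lre_g IH (LK LD1_c2 LD2_c19 LD3_c45) (LK LD1_c4 LD2_c43 LD3_c52) Lrfl Lrfl
theorem f445977 : Led Lsl_df (LP (LK LD1_c3 LD2_c8 LD3_c20)) = (LP (LK LD1_c4 LD2_c43 LD3_c52)) :=
  Lgr Lrot135 (Lpr_gt (f83919 IH) (Lpe (K31.f83264 IH) (Lpr_et (K2.f40500 IH) (Lpr_gt (K9.f73782 IH) (Lpr_ef (K24.f445969 IH) (Lpe (f445967 IH) (Lpr_gt (K24.f82576 IH) (Lpr_df (K32.f82589 IH) (Lpr_et (K24.f82593 IH) (Lpr_gt (f82606 IH) (Lpn (LP (LK LD1_c4 LD2_c43 LD3_c52)))))))))))))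
theorem f627816 : Led Lsl_et (LP (LK LD1_c4 LD2_c43 LD3_c52)) = v3903 :=
  Lgr Lrot121 (Lpe (f445977 IH) (Lpe (f77738 IH) (Lpe (K2.f58925 IH) (Lpr_et (K2.f58907 IH) (Lpe (K1.f25133 IH) (Lpe (K7.f61835 IH) (Lpr_dt (K9.f61836 IH) (Lpe (K29.f416969 IH) (Lpr_df (K29.f491576 IH) (Lpr_gf (f627810 IH) (Lpn v3903)))))))))))
theorem f445979 : Led Lsl_dt (LP (LK LD1_c3 LD2_c8 LD3_c20)) = (LP (LK LD1_c4 LD2_c43 LD3_c52)) :=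
  Lgr Lrot42 (Lpr_df (f445977 IH) (Lpn (LP (LK LD1_c4 LD2_c43 LD3_c52))))
theorem f77739 : Led Lsl_et (LP (LK LD1_c6 LD2_c21 LD3_c18)) = (LP (LK LD1_c3 LD2_c8 LD3_c20)) :=
  Lre_e IH (LK LD1_c6 LD2_c21 LD3_c18) (LK LD1_c3 LD2_c8 LD3_c20) Lrfl Lrfl
theorem f154067 : Led Lsl_gf (LP (LK LD1_c0 LD2_c18 LD3_c61)) = (LP (LK LD1_c0 LD2_c30 LD3_c37)) :=
  Lgr Lrot47 (Lpr_gt (K1.f25787 IH) (Lpr_af (K7.f154063 IH) (Lpe (K7.f154062 IH) (Lpn (LP (LK LD1_c0 LD2_c30 LD3_c37))))))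
theorem f77725 : Led Lsl_ef (LP (LK LD1_c1 LD2_c30 LD3_c23)) = (LP (LK LD1_c0 LD2_c42 LD3_c42)) :=
  Lgr Lrot28 (Lpr_ct (K2.f67065 IH) (Lpr_et (K2.f77722 IH) (Lpr_ct (K2.f67362 IH) (Lpn (LP (LK LD1_c0 LD2_c42 LD3_c42))))))
theorem f155861 : Led Lsl_gt (LP (LK LD1_c3 LD2_c9 LD3_c12)) = (LP (LK LD1_c1 LD2_c30 LD3_c46)) :=
  Lre_g IH (LK LD1_c3 LD2_c9 LD3_c12) (LK LD1_c1 LD2_c30 LD3_c46) Lrfl Lrfl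
theorem f435098 : Led Lsl_dt (LP (LK LD1_c6 LD2_c21 LD3_c18)) = (LP (LK LD1_c3 LD2_c9 LD3_c12)) :=
  Lgr Lrot136 (Lpr_et (f77739 IH) (Lpe (f77738 IH) (Lpr_ef (f77725 IH) (Lpr_dt (K2.f67361 IH) (Lpr_gf (f154067 IH) (Lpe (K7.f82493 IH) (Lpr_gf (K7.f154646 IH) (Lpe (K17.f67148 IH) (Lpe (K17.f67150 IH) (Lpe (f155861 IH) (Lpn (LP (LK LD1_c3 LD2_c9 LD3_c12)))))))))))))
theorem f435101 : Led Lsl_df (LP (LK LD1_c6 LD2_c21 LD3_c18)) = (LP (LK LD1_c3 LD2_c9 LD3_c12)) :=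
  Lgr Lrot38 (Lpr_dt (f435098 IH) (Lpn (LP (LK LD1_c3 LD2_c9 LD3_c12))))
def v3898 : LQ := Led Lsl_et v1113
theorem f627787 : Led Lsl_et v1113 = v3898 :=
  Lrfl
theorem f414117 : Led Lsl_ft (LP (LK LD1_c5 LD2_c52 LD3_c0)) = (LP (LK LD1_c2 LD2_c52 LD3_c15)) :=
  Lre_f IH (LK LD1_c5 LD2_c52 LD3_c0) (LK LD1_c2 LD2_c52 LD3_c15) Lrfl Lrfl
theorem f622966 : Led Lsl_ef (LP (LK LD1_c5 LD2_c52 LD3_c0)) = (LP (LK LD1_c5 LD2_c50 LD3_c22)) :=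
  Lgr Lrot88 (Lpr_et (f622886 IH) (Lpn (LP (LK LD1_c5 LD2_c50 LD3_c22))))
theorem f627791 : Led Lsl_ff (LP (LK LD1_c5 LD2_c50 LD3_c22)) = v3898 :=
  Lgr Lrot72 (Lpe (f622966 IH) (Lpr_ft (f414117 IH) (Lpr_et (K17.f20292 IH) (Lpr_ft (f500208 IH) (Lpqs (f623414 IH) (Lpr_et (f627787 IH) (Lpn v3898)))))))
theorem f627795 : Led Lsl_gf (LP (LK LD1_c3 LD2_c3 LD3_c0)) = v3898 :=
  Lgr Lrot47 (Lpr_gt (f622872 IH) (Lpe (f622590 IH) (Lpr_ff (f627791 IH) (Lpn v3898))))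
def v1873 : LQ := Led Lsl_ft (LP (LK LD1_c1 LD2_c30 LD3_c25))
theorem f504657 : Led Lsl_ft (LP (LK LD1_c1 LD2_c30 LD3_c25)) = v1873 :=
  Lrfl
theorem f504659 : Led Lsl_ff (LP (LK LD1_c1 LD2_c30 LD3_c25)) = v1873 :=
  Lgr Lrot3 (Lpr_ft (f504657 IH) (Lpn v1873))
theorem f435557 : Led Lsl_bt (LP (LK LD1_c1 LD2_c30 LD3_c25)) = (LP (LK LD1_c0 LD2_c41 LD3_c46)) :=
  Lre_b IH (LK LD1_c1 LD2_c30 LD3_c25) (LK LD1_c0 LD2_c41 LD3_c46) Lrfl Lrfl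
theorem f504662 : Led Lsl_bt K32.v471 = v1873 :=
  Lgr Lrot35 (Lpe (K32.f453516 IH) (Lpe (f435557 IH) (Lpr_ff (f504659 IH) (Lpn v1873))))
theorem f494698 : Led Lsl_bt (LP (LK LD1_c1 LD2_c6 LD3_c12)) = (LP (LK LD1_c2 LD2_c18 LD3_c22)) :=
  Lre_b IH (LK LD1_c1 LD2_c6 LD3_c12) (LK LD1_c2 LD2_c18 LD3_c22) Lrfl Lrfl
theorem f504892 : v1873 = (LP (LK LD1_c2 LD2_c18 LD3_c22)) :=
  Lefun (Lecon (f504662 IH) (K32.f504879 IH).symm) (f494698 IH)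
theorem f435558 : Led Lsl_ct (LP (LK LD1_c3 LD2_c8 LD3_c26)) = (LP (LK LD1_c1 LD2_c30 LD3_c25)) :=
  Lre_c IH (LK LD1_c3 LD2_c8 LD3_c26) (LK LD1_c1 LD2_c30 LD3_c25) Lrfl Lrfl
theorem f61090 : Led Lsl_ct (LP (LK LD1_c2 LD2_c18 LD3_c22)) = (LP (LK LD1_c4 LD2_c42 LD3_c7)) :=
  Lre_c IH (LK LD1_c2 LD2_c18 LD3_c22) (LK LD1_c4 LD2_c42 LD3_c7) Lrfl Lrfl
theorem f506114 : Led Lsl_ff (LP (LK LD1_c3 LD2_c8 LD3_c26)) = (LP (LK LD1_c4 LD2_c42 LD3_c7)) :=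
  Lgr Lrot23 (Lpr_ct (f435558 IH) (Lpr_ft (f504657 IH) (Lpqs (f504892 IH) (Lpr_ct (f61090 IH) (Lpn (LP (LK LD1_c4 LD2_c42 LD3_c7)))))))
theorem f506125 : Led Lsl_ft (LP (LK LD1_c3 LD2_c8 LD3_c26)) = (LP (LK LD1_c4 LD2_c42 LD3_c7)) :=
  Lgr Lrot48 (Lpr_ff (f506114 IH) (Lpn (LP (LK LD1_c4 LD2_c42 LD3_c7))))
theorem f506128 : Led Lsl_bt (LP (LK LD1_c6 LD2_c21 LD3_c27)) = (LP (LK LD1_c3 LD2_c8 LD3_c26)) :=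
  Lre_b IH (LK LD1_c6 LD2_c21 LD3_c27) (LK LD1_c3 LD2_c8 LD3_c26) Lrfl Lrfl
theorem f61089 : Led Lsl_bt (LP (LK LD1_c2 LD2_c18 LD3_c22)) = (LP (LK LD1_c1 LD2_c6 LD3_c12)) :=
  Lre_b IH (LK LD1_c2 LD2_c18 LD3_c22) (LK LD1_c1 LD2_c6 LD3_c12) Lrfl Lrfl
theorem f494706 : Led Lsl_ct (LP (LK LD1_c4 LD2_c42 LD3_c7)) = (LP (LK LD1_c2 LD2_c18 LD3_c22)) :=
  Lre_c IH (LK LD1_c4 LD2_c42 LD3_c7) (LK LD1_c2 LD2_c18 LD3_c22) Lrfl Lrfl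
theorem f500032 : Led Lsl_bt (LP (LK LD1_c1 LD2_c21 LD3_c47)) = (LP (LK LD1_c2 LD2_c51 LD3_c28)) :=
  Lre_b IH (LK LD1_c1 LD2_c21 LD3_c47) (LK LD1_c2 LD2_c51 LD3_c28) Lrfl Lrfl
theorem f139893 : Led Lsl_ct (LP (LK LD1_c2 LD2_c51 LD3_c28)) = (LP (LK LD1_c5 LD2_c50 LD3_c34)) :=
  Lre_c IH (LK LD1_c2 LD2_c51 LD3_c28) (LK LD1_c5 LD2_c50 LD3_c34) Lrfl Lrfl
theorem f500047 : Led Lsl_bf (LP (LK LD1_c4 LD2_c42 LD3_c7)) = (LP (LK LD1_c5 LD2_c50 LD3_c34)) :=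
  Lgr Lrot90 (Lpr_ct (f494706 IH) (Lpr_bt (f61089 IH) (Lpr_ct (K31.f494705 IH) (Lpqs (K31.f500029 IH) (Lpr_bt (f500032 IH) (Lpr_ct (f139893 IH) (Lpn (LP (LK LD1_c5 LD2_c50 LD3_c34)))))))))
theorem f500114 : Led Lsl_bt (LP (LK LD1_c4 LD2_c42 LD3_c7)) = (LP (LK LD1_c5 LD2_c50 LD3_c34)) :=
  Lgr Lrot127 (Lpr_bf (f500047 IH) (Lpn (LP (LK LD1_c5 LD2_c50 LD3_c34))))
theorem f506129 : Led Lsl_ff (LP (LK LD1_c6 LD2_c21 LD3_c27)) = (LP (LK LD1_c5 LD2_c50 LD3_c34)) :=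
  Lgr Lrot25 (Lpr_bt (f506128 IH) (Lpr_ft (f506125 IH) (Lpr_bt (f500114 IH) (Lpn (LP (LK LD1_c5 LD2_c50 LD3_c34))))))
theorem f438508 : Led Lsl_ct (LP (LK LD1_c6 LD2_c21 LD3_c27)) = (LP (LK LD1_c3 LD2_c8 LD3_c29)) :=
  Lre_c IH (LK LD1_c6 LD2_c21 LD3_c27) (LK LD1_c3 LD2_c8 LD3_c29) Lrfl Lrfl
theorem f506157 : Led Lsl_ft (LP (LK LD1_c3 LD2_c8 LD3_c29)) = (LP (LK LD1_c2 LD2_c51 LD3_c28)) :=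
  Lgr Lrot4 (Lpe (f438508 IH) (Lpr_ff (f506129 IH) (Lpe (f139893 IH) (Lpn (LP (LK LD1_c2 LD2_c51 LD3_c28))))))
theorem f506161 : Led Lsl_ff (LP (LK LD1_c3 LD2_c8 LD3_c29)) = (LP (LK LD1_c2 LD2_c51 LD3_c28)) :=
  Lgr Lrot3 (Lpr_ft (f506157 IH) (Lpn (LP (LK LD1_c2 LD2_c51 LD3_c28))))
theorem f438658 : Led Lsl_dt (LP (LK LD1_c3 LD2_c8 LD3_c29)) = (LP (LK LD1_c6 LD2_c21 LD3_c38)) :=
  Lre_d IH (LK LD1_c3 LD2_c8 LD3_c29) (LK LD1_c6 LD2_c21 LD3_c38) Lrfl Lrfl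
theorem f500046 : Led Lsl_dt (LP (LK LD1_c5 LD2_c50 LD3_c35)) = (LP (LK LD1_c2 LD2_c51 LD3_c28)) :=
  Lre_d IH (LK LD1_c5 LD2_c50 LD3_c35) (LK LD1_c2 LD2_c51 LD3_c28) Lrfl Lrfl
theorem f506163 : Led Lsl_ft (LP (LK LD1_c6 LD2_c21 LD3_c38)) = (LP (LK LD1_c5 LD2_c50 LD3_c35)) :=
  Lgr Lrot54 (Lpe (f438658 IH) (Lpr_ff (f506161 IH) (Lpe (f500046 IH) (Lpn (LP (LK LD1_c5 LD2_c50 LD3_c35))))))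
theorem f505048 : Led Lsl_bt (LP (LK LD1_c3 LD2_c8 LD3_c30)) = (LP (LK LD1_c6 LD2_c21 LD3_c38)) :=
  Lre_b IH (LK LD1_c3 LD2_c8 LD3_c30) (LK LD1_c6 LD2_c21 LD3_c38) Lrfl Lrfl
theorem f500043 : Led Lsl_bt (LP (LK LD1_c5 LD2_c50 LD3_c35)) = (LP (LK LD1_c2 LD2_c51 LD3_c29)) :=
  Lre_b IH (LK LD1_c5 LD2_c50 LD3_c35) (LK LD1_c2 LD2_c51 LD3_c29) Lrfl Lrfl
theorem f506165 : Led Lsl_ff (LP (LK LD1_c3 LD2_c8 LD3_c30)) = (LP (LK LD1_c2 LD2_c51 LD3_c29)) :=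
  Lgr Lrot25 (Lpr_bt (f505048 IH) (Lpr_ft (f506163 IH) (Lpr_bt (f500043 IH) (Lpn (LP (LK LD1_c2 LD2_c51 LD3_c29))))))
theorem f504926 : Led Lsl_af (LP (LK LD1_c3 LD2_c13 LD3_c3)) = (LP (LK LD1_c4 LD2_c43 LD3_c49)) :=
  Lgr Lrot0 (Lpr_at (K32.f504924 IH) (Lpn (LP (LK LD1_c4 LD2_c43 LD3_c49))))
theorem f22524 : Led Lsl_ct (LP (LK LD1_c0 LD2_c44 LD3_c59)) = (LP (LK LD1_c1 LD2_c37 LD3_c11)) :=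
  Lre_c IH (LK LD1_c0 LD2_c44 LD3_c59) (LK LD1_c1 LD2_c37 LD3_c11) Lrfl Lrfl
theorem f151884 : Led Lsl_gt (LP (LK LD1_c4 LD2_c35 LD3_c2)) = (LP (LK LD1_c2 LD2_c52 LD3_c43)) :=
  Lgr Lrot46 (Lpe (K32.f73208 IH) (Lpr_ft (K7.f25226 IH) (Lpr_at (K7.f151873 IH) (Lpn (LP (LK LD1_c2 LD2_c52 LD3_c43))))))
theorem f414556 : Led Lsl_gt (LP (LK LD1_c1 LD2_c37 LD3_c11)) = (LP (LK LD1_c3 LD2_c13 LD3_c3)) :=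
  Lgr Lrot94 (Lpe (f22524 IH) (Lpr_gt (K24.f414548 IH) (Lpr_dt (K24.f414549 IH) (Lpr_gt (K24.f151924 IH) (Lpe (K24.f23780 IH) (Lpr_cf (K7.f22554 IH) (Lpe (K32.f22557 IH) (Lpe (f151884 IH) (Lpr_df (K32.f140756 IH) (Lpn (LP (LK LD1_c3 LD2_c13 LD3_c3))))))))))))
theorem f505006 : Led Lsl_ft (LP (LK LD1_c2 LD2_c51 LD3_c27)) = (LP (LK LD1_c4 LD2_c43 LD3_c49)) :=
  Lgr Lrot2 (Lpr_gt (K24.f454652 IH) (Lpr_gt (f414556 IH) (Lpr_af (f504926 IH) (Lpn (LP (LK LD1_c4 LD2_c43 LD3_c49))))))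
theorem f505012 : Led Lsl_ff (LP (LK LD1_c2 LD2_c51 LD3_c27)) = (LP (LK LD1_c4 LD2_c43 LD3_c49)) :=
  Lgr Lrot3 (Lpr_ft (f505006 IH) (Lpn (LP (LK LD1_c4 LD2_c43 LD3_c49))))
theorem f436247 : Led Lsl_bt (LP (LK LD1_c2 LD2_c51 LD3_c27)) = (LP (LK LD1_c5 LD2_c50 LD3_c31)) :=
  Lre_b IH (LK LD1_c2 LD2_c51 LD3_c27) (LK LD1_c5 LD2_c50 LD3_c31) Lrfl Lrfl
theorem f445652 : Led Lsl_bt (LP (LK LD1_c9 LD2_c20 LD3_c40)) = (LP (LK LD1_c4 LD2_c43 LD3_c49)) :=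
  Lre_b IH (LK LD1_c9 LD2_c20 LD3_c40) (LK LD1_c4 LD2_c43 LD3_c49) Lrfl Lrfl
theorem f505016 : Led Lsl_ft (LP (LK LD1_c5 LD2_c50 LD3_c31)) = (LP (LK LD1_c9 LD2_c20 LD3_c40)) :=
  Lgr Lrot75 (Lpe (f436247 IH) (Lpr_ff (f505012 IH) (Lpe (f445652 IH) (Lpn (LP (LK LD1_c9 LD2_c20 LD3_c40))))))
theorem f505018 : Led Lsl_at (LP (LK LD1_c11 LD2_c28 LD3_c54)) = (LP (LK LD1_c5 LD2_c50 LD3_c31)) :=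
  Lre_a IH (LK LD1_c11 LD2_c28 LD3_c54) (LK LD1_c5 LD2_c50 LD3_c31) Lrfl Lrfl
theorem f445656 : Led Lsl_at (LP (LK LD1_c9 LD2_c20 LD3_c40)) = (LP (LK LD1_c17 LD2_c16 LD3_c38)) :=
  Lre_a IH (LK LD1_c9 LD2_c20 LD3_c40) (LK LD1_c17 LD2_c16 LD3_c38) Lrfl Lrfl
theorem f505019 : Led Lsl_ff (LP (LK LD1_c11 LD2_c28 LD3_c54)) = (LP (LK LD1_c17 LD2_c16 LD3_c38)) :=
  Lgr Lrot30 (Lpr_at (f505018 IH) (Lpr_ft (f505016 IH) (Lpr_at (f445656 IH) (Lpn (LP (LK LD1_c17 LD2_c16 LD3_c38))))))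
theorem f505028 : Led Lsl_ft (LP (LK LD1_c11 LD2_c28 LD3_c54)) = (LP (LK LD1_c17 LD2_c16 LD3_c38)) :=
  Lgr Lrot48 (Lpr_ff (f505019 IH) (Lpn (LP (LK LD1_c17 LD2_c16 LD3_c38))))
theorem f140767 : Led Lsl_bt (LP (LK LD1_c6 LD2_c30 LD3_c6)) = (LP (LK LD1_c3 LD2_c13 LD3_c3)) :=
  Lre_b IH (LK LD1_c6 LD2_c30 LD3_c6) (LK LD1_c3 LD2_c13 LD3_c3) Lrfl Lrfl
theorem f140791 : Led Lsl_at (LP (LK LD1_c12 LD2_c29 LD3_c49)) = (LP (LK LD1_c6 LD2_c30 LD3_c6)) :=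
  Lre_a IH (LK LD1_c12 LD2_c29 LD3_c49) (LK LD1_c6 LD2_c30 LD3_c6) Lrfl Lrfl
theorem f442827 : Led Lsl_bt (LP (LK LD1_c4 LD2_c43 LD3_c49)) = (LP (LK LD1_c9 LD2_c20 LD3_c40)) :=
  Lre_b IH (LK LD1_c4 LD2_c43 LD3_c49) (LK LD1_c9 LD2_c20 LD3_c40) Lrfl Lrfl
theorem f504928 : Led Lsl_bf (LP (LK LD1_c12 LD2_c29 LD3_c49)) = (LP (LK LD1_c17 LD2_c16 LD3_c38)) :=
  Lgr Lrot81 (Lpr_at (f140791 IH) (Lpr_bt (f140767 IH) (Lpr_at (K32.f504924 IH) (Lpr_bt (f442827 IH) (Lpr_at (f445656 IH) (Lpn (LP (LK LD1_c17 LD2_c16 LD3_c38))))))))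
theorem f140779 : Led Lsl_at (LP (LK LD1_c6 LD2_c30 LD3_c6)) = (LP (LK LD1_c12 LD2_c29 LD3_c49)) :=
  Lre_a IH (LK LD1_c6 LD2_c30 LD3_c6) (LK LD1_c12 LD2_c29 LD3_c49) Lrfl Lrfl
theorem f438663 : Led Lsl_at (LP (LK LD1_c12 LD2_c17 LD3_c6)) = (LP (LK LD1_c6 LD2_c21 LD3_c39)) :=
  Lre_a IH (LK LD1_c12 LD2_c17 LD3_c6) (LK LD1_c6 LD2_c21 LD3_c39) Lrfl Lrfl
theorem f504958 : Led Lsl_ft (LP (LK LD1_c12 LD2_c29 LD3_c49)) = (LP (LK LD1_c12 LD2_c17 LD3_c6)) :=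
  Lgr Lrot101 (Lpe (f140779 IH) (Lpr_ff (K32.f504946 IH) (Lpe (f438663 IH) (Lpn (LP (LK LD1_c12 LD2_c17 LD3_c6))))))
theorem f505033 : Led Lsl_bf (LP (LK LD1_c11 LD2_c28 LD3_c54)) = (LP (LK LD1_c12 LD2_c17 LD3_c6)) :=
  Lgr Lrot61 (Lpr_ft (f505028 IH) (Lpe (f504928 IH) (Lpr_ft (f504958 IH) (Lpn (LP (LK LD1_c12 LD2_c17 LD3_c6))))))
theorem f505027 : Led Lsl_et (LP (LK LD1_c11 LD2_c28 LD3_c54)) = (LP (LK LD1_c5 LD2_c50 LD3_c28)) :=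
  Lre_e IH (LK LD1_c11 LD2_c28 LD3_c54) (LK LD1_c5 LD2_c50 LD3_c28) Lrfl Lrfl
theorem f505005 : Led Lsl_et (LP (LK LD1_c6 LD2_c21 LD3_c37)) = (LP (LK LD1_c12 LD2_c17 LD3_c6)) :=
  Lre_e IH (LK LD1_c6 LD2_c21 LD3_c37) (LK LD1_c12 LD2_c17 LD3_c6) Lrfl Lrfl
theorem f505036 : Led Lsl_bt (LP (LK LD1_c5 LD2_c50 LD3_c28)) = (LP (LK LD1_c6 LD2_c21 LD3_c37)) :=
  Lgr Lrot119 (Lpe (f505027 IH) (Lpr_bf (f505033 IH) (Lpe (f505005 IH) (Lpn (LP (LK LD1_c6 LD2_c21 LD3_c37))))))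
theorem f505041 : Led Lsl_dt (LP (LK LD1_c11 LD2_c28 LD3_c53)) = (LP (LK LD1_c5 LD2_c50 LD3_c28)) :=
  Lre_d IH (LK LD1_c11 LD2_c28 LD3_c53) (LK LD1_c5 LD2_c50 LD3_c28) Lrfl Lrfl
theorem f505042 : Led Lsl_dt (LP (LK LD1_c6 LD2_c21 LD3_c37)) = (LP (LK LD1_c12 LD2_c17 LD3_c5)) :=
  Lre_d IH (LK LD1_c6 LD2_c21 LD3_c37) (LK LD1_c12 LD2_c17 LD3_c5) Lrfl Lrfl
theorem f505043 : Led Lsl_bf (LP (LK LD1_c11 LD2_c28 LD3_c53)) = (LP (LK LD1_c12 LD2_c17 LD3_c5)) :=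
  Lgr Lrot93 (Lpr_dt (f505041 IH) (Lpr_bt (f505036 IH) (Lpr_dt (f505042 IH) (Lpn (LP (LK LD1_c12 LD2_c17 LD3_c5))))))
theorem f505051 : Led Lsl_bt (LP (LK LD1_c11 LD2_c28 LD3_c53)) = (LP (LK LD1_c12 LD2_c17 LD3_c5)) :=
  Lgr Lrot127 (Lpr_bf (f505043 IH) (Lpn (LP (LK LD1_c12 LD2_c17 LD3_c5))))
theorem f505053 : Led Lsl_at (LP (LK LD1_c5 LD2_c50 LD3_c30)) = (LP (LK LD1_c11 LD2_c28 LD3_c53)) :=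
  Lre_a IH (LK LD1_c5 LD2_c50 LD3_c30) (LK LD1_c11 LD2_c28 LD3_c53) Lrfl Lrfl
theorem f505054 : Led Lsl_bt (LP (LK LD1_c2 LD2_c51 LD3_c26)) = (LP (LK LD1_c5 LD2_c50 LD3_c30)) :=
  Lre_b IH (LK LD1_c2 LD2_c51 LD3_c26) (LK LD1_c5 LD2_c50 LD3_c30) Lrfl Lrfl
theorem f505055 : Led Lsl_at (LP (LK LD1_c12 LD2_c17 LD3_c5)) = (LP (LK LD1_c6 LD2_c21 LD3_c38)) :=
  Lre_a IH (LK LD1_c12 LD2_c17 LD3_c5) (LK LD1_c6 LD2_c21 LD3_c38) Lrfl Lrfl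
theorem f438503 : Led Lsl_bt (LP (LK LD1_c6 LD2_c21 LD3_c38)) = (LP (LK LD1_c3 LD2_c8 LD3_c30)) :=
  Lre_b IH (LK LD1_c6 LD2_c21 LD3_c38) (LK LD1_c3 LD2_c8 LD3_c30) Lrfl Lrfl
theorem f505056 : Led Lsl_af (LP (LK LD1_c2 LD2_c51 LD3_c26)) = (LP (LK LD1_c3 LD2_c8 LD3_c30)) :=
  Lgr Lrot36 (Lpr_bt (f505054 IH) (Lpr_at (f505053 IH) (Lpr_bt (f505051 IH) (Lpr_at (f505055 IH) (Lpr_bt (f438503 IH) (Lpn (LP (LK LD1_c3 LD2_c8 LD3_c30))))))))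
theorem f146045 : Led Lsl_gt (LP (LK LD1_c5 LD2_c50 LD3_c33)) = (LP (LK LD1_c2 LD2_c51 LD3_c26)) :=
  Lre_g IH (LK LD1_c5 LD2_c50 LD3_c33) (LK LD1_c2 LD2_c51 LD3_c26) Lrfl Lrfl
theorem f506172 : Led Lsl_gf (LP (LK LD1_c5 LD2_c50 LD3_c33)) = (LP (LK LD1_c2 LD2_c51 LD3_c29)) :=
  Lgr Lrot47 (Lpr_gt (f146045 IH) (Lpr_af (f505056 IH) (Lpr_ff (f506165 IH) (Lpn (LP (LK LD1_c2 LD2_c51 LD3_c29))))))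
def v1802 : LQ := Led Lsl_at (LP (LK LD1_c1 LD2_c27 LD3_c26))
theorem f502994 : Led Lsl_at (LP (LK LD1_c1 LD2_c27 LD3_c26)) = v1802 :=
  Lrfl
theorem f453018 : Led Lsl_af (LP (LK LD1_c0 LD2_c40 LD3_c26)) = K32.v462 :=
  Lgr Lrot45 (Lpr_ft (K32.f453013 IH) (Lpe (K32.f453010 IH) (Lpr_ft (K32.f453017 IH) (Lpn K32.v462))))
theorem f502996 : Led Lsl_ef K32.v462 = v1802 :=
  Lgr Lrot20 (Lpe (f453018 IH) (Lpr_et (K24.f416800 IH) (Lpr_at (f502994 IH) (Lpn v1802))))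
theorem f502997 : Led Lsl_et K32.v462 = v1802 :=
  Lgr Lrot87 (Lpr_ef (f502996 IH) (Lpn v1802))
theorem f503370 : v1802 = (LP (LK LD1_c2 LD2_c17 LD3_c41)) :=
  Lefun (Lecon (f502997 IH) (K32.f503351 IH).symm) (K29.f20142 IH)
theorem f502995 : Led Lsl_af (LP (LK LD1_c1 LD2_c27 LD3_c26)) = v1802 :=
  Lgr Lrot0 (Lpr_at (f502994 IH) (Lpn v1802))
theorem f504367 : Led Lsl_af (LP (LK LD1_c4 LD2_c41 LD3_c15)) = (LP (LK LD1_c3 LD2_c3 LD3_c0)) :=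
  Lgr Lrot68 (Lpr_ct (f416141 IH) (Lpq (f503370 IH) (Lpe (f502995 IH) (Lpr_ct (K9.f24639 IH) (Lpn (LP (LK LD1_c3 LD2_c3 LD3_c0)))))))
theorem f504371 : Led Lsl_at (LP (LK LD1_c6 LD2_c21 LD3_c40)) = (LP (LK LD1_c5 LD2_c50 LD3_c32)) :=
  Lgr Lrot51 (Lpr_df (K32.f438484 IH) (Lpr_af (f504367 IH) (Lpr_df (K9.f139886 IH) (Lpn (LP (LK LD1_c5 LD2_c50 LD3_c32))))))
theorem f504373 : Led Lsl_af (LP (LK LD1_c6 LD2_c21 LD3_c40)) = (LP (LK LD1_c5 LD2_c50 LD3_c32)) :=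
  Lgr Lrot0 (Lpr_at (f504371 IH) (Lpn (LP (LK LD1_c5 LD2_c50 LD3_c32))))
theorem f438505 : Led Lsl_gt (LP (LK LD1_c6 LD2_c21 LD3_c41)) = (LP (LK LD1_c3 LD2_c8 LD3_c30)) :=
  Lre_g IH (LK LD1_c6 LD2_c21 LD3_c41) (LK LD1_c3 LD2_c8 LD3_c30) Lrfl Lrfl
theorem f504379 : Led Lsl_ft (LP (LK LD1_c6 LD2_c21 LD3_c41)) = (LP (LK LD1_c5 LD2_c50 LD3_c32)) :=
  Lgr Lrot2 (Lpr_gt (f438505 IH) (Lpr_gt (K32.f438471 IH) (Lpr_af (f504373 IH) (Lpn (LP (LK LD1_c5 LD2_c50 LD3_c32))))))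
theorem f504383 : Led Lsl_ff (LP (LK LD1_c6 LD2_c21 LD3_c41)) = (LP (LK LD1_c5 LD2_c50 LD3_c32)) :=
  Lgr Lrot3 (Lpr_ft (f504379 IH) (Lpn (LP (LK LD1_c5 LD2_c50 LD3_c32))))
theorem f504375 : Led Lsl_ff (LP (LK LD1_c6 LD2_c21 LD3_c40)) = (LP (LK LD1_c5 LD2_c50 LD3_c33)) :=
  Lgr Lrot52 (Lpr_at (f504371 IH) (Lpe (K9.f139885 IH) (Lpe (f146045 IH) (Lpn (LP (LK LD1_c5 LD2_c50 LD3_c33))))))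
theorem f504385 : Led Lsl_at (LP (LK LD1_c6 LD2_c21 LD3_c41)) = (LP (LK LD1_c5 LD2_c50 LD3_c33)) :=
  Lgr Lrot66 (Lpr_ff (f504383 IH) (Lpe (f504371 IH) (Lpr_ff (f504375 IH) (Lpn (LP (LK LD1_c5 LD2_c50 LD3_c33))))))
theorem f506174 : Led Lsl_gt (LP (LK LD1_c5 LD2_c50 LD3_c32)) = (LP (LK LD1_c2 LD2_c51 LD3_c29)) :=
  Lgr Lrot5 (Lpe (f504383 IH) (Lpr_at (f504385 IH) (Lpr_gf (f506172 IH) (Lpn (LP (LK LD1_c2 LD2_c51 LD3_c29))))))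
theorem f139889 : Led Lsl_dt (LP (LK LD1_c2 LD2_c51 LD3_c29)) = (LP (LK LD1_c1 LD2_c21 LD3_c47)) :=
  Lre_d IH (LK LD1_c2 LD2_c51 LD3_c29) (LK LD1_c1 LD2_c21 LD3_c47) Lrfl Lrfl
theorem f61085 : Led Lsl_dt (LP (LK LD1_c2 LD2_c18 LD3_c23)) = (LP (LK LD1_c1 LD2_c6 LD3_c12)) :=
  Lre_d IH (LK LD1_c2 LD2_c18 LD3_c23) (LK LD1_c1 LD2_c6 LD3_c12) Lrfl Lrfl
theorem f82830 : Led Lsl_gf (LP (LK LD1_c2 LD2_c18 LD3_c23)) = (LP (LK LD1_c4 LD2_c42 LD3_c2)) :=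
  Lgr Lrot138 (Lpr_dt (f61085 IH) (Lpr_gt (K31.f59488 IH) (Lpe (K32.f61071 IH) (Lpr_et (K32.f82777 IH) (Lpr_gt (K3.f82791 IH) (Lpe (K24.f68065 IH) (Lpe (K2.f68231 IH) (Lpr_gt (K9.f59486 IH) (Lpe (K29.f68254 IH) (Lpe (K32.f79710 IH) (Lpn (LP (LK LD1_c4 LD2_c42 LD3_c2)))))))))))))
theorem f627796 : Led Lsl_ct K29.v1115 = v3898 :=
  Lgr Lrot8 (Lpe (K29.f491578 IH) (Lpe (K8.f61019 IH) (Lpe (f82830 IH) (Lpr_dt (f61085 IH) (Lpr_cf (K31.f494707 IH) (Lpqs (K31.f500029 IH) (Lpe (f139889 IH) (Lpe (f506174 IH) (Lpe (K9.f139900 IH) (Lpr_gf (f627795 IH) (Lpn v3898)))))))))))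
theorem f24649 : Led Lsl_ct (LP (LK LD1_c6 LD2_c12 LD3_c45)) = (LP (LK LD1_c3 LD2_c3 LD3_c3)) :=
  Lre_c IH (LK LD1_c6 LD2_c12 LD3_c45) (LK LD1_c3 LD2_c3 LD3_c3) Lrfl Lrfl
theorem f435721 : Led Lsl_cf (LP (LK LD1_c6 LD2_c21 LD3_c45)) = (LP (LK LD1_c4 LD2_c48 LD3_c3)) :=
  Lgr Lrot166 (Lpr_gt (K32.f435718 IH) (Lpr_dt (K32.f435704 IH) (Lpr_gt (K32.f435706 IH) (Lpr_dt (K32.f134829 IH) (Lpr_ct (K32.f134828 IH) (Lpe (K6.f135703 IH) (Lpr_gf (K32.f146055 IH) (Lpe (K24.f68384 IH) (Lpe (K32.f68387 IH) (Lpn (LP (LK LD1_c4 LD2_c48 LD3_c3))))))))))))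
theorem f503543 : Led Lsl_ft (LP (LK LD1_c6 LD2_c21 LD3_c45)) = (LP (LK LD1_c6 LD2_c12 LD3_c45)) :=
  Lgr Lrot4 (Lpr_cf (f435721 IH) (Lpr_ff (K32.f503541 IH) (Lpe (f24649 IH) (Lpn (LP (LK LD1_c6 LD2_c12 LD3_c45))))))
theorem f435708 : Led Lsl_gt (LP (LK LD1_c3 LD2_c8 LD3_c34)) = (LP (LK LD1_c6 LD2_c21 LD3_c44)) :=
  Lre_g IH (LK LD1_c3 LD2_c8 LD3_c34) (LK LD1_c6 LD2_c21 LD3_c44) Lrfl Lrfl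
theorem f504223 : Led Lsl_af (LP (LK LD1_c6 LD2_c21 LD3_c44)) = (LP (LK LD1_c6 LD2_c12 LD3_c45)) :=
  Lgr Lrot31 (Lpe (f435708 IH) (Lpe (K32.f435718 IH) (Lpr_ft (f503543 IH) (Lpn (LP (LK LD1_c6 LD2_c12 LD3_c45))))))
theorem f504233 : Led Lsl_ft (LP (LK LD1_c6 LD2_c21 LD3_c44)) = (LP (LK LD1_c6 LD2_c42 LD3_c52)) :=
  Lgr Lrot101 (Lpr_af (f504223 IH) (Lpe (f503543 IH) (Lpr_af (K32.f503551 IH) (Lpn (LP (LK LD1_c6 LD2_c42 LD3_c52))))))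
theorem f504242 : Led Lsl_ff (LP (LK LD1_c6 LD2_c21 LD3_c44)) = (LP (LK LD1_c6 LD2_c42 LD3_c52)) :=
  Lgr Lrot3 (Lpr_ft (f504233 IH) (Lpn (LP (LK LD1_c6 LD2_c42 LD3_c52))))
theorem f504225 : Led Lsl_at (LP (LK LD1_c6 LD2_c21 LD3_c44)) = (LP (LK LD1_c6 LD2_c12 LD3_c45)) :=
  Lgr Lrot100 (Lpr_af (f504223 IH) (Lpn (LP (LK LD1_c6 LD2_c12 LD3_c45))))
theorem f504248 : Led Lsl_gf (LP (LK LD1_c6 LD2_c12 LD3_c45)) = (LP (LK LD1_c4 LD2_c42 LD3_c4)) :=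
  Lgr Lrot76 (Lpe (f504225 IH) (Lpr_ff (f504242 IH) (Lpe (K32.f500089 IH) (Lpn (LP (LK LD1_c4 LD2_c42 LD3_c4))))))
theorem f82711 : Led Lsl_gt (LP (LK LD1_c4 LD2_c42 LD3_c3)) = (LP (LK LD1_c2 LD2_c18 LD3_c21)) :=
  Lre_g IH (LK LD1_c4 LD2_c42 LD3_c3) (LK LD1_c2 LD2_c18 LD3_c21) Lrfl Lrfl
theorem f627815 : Led Lsl_df (LP (LK LD1_c4 LD2_c42 LD3_c3)) = v3903 :=
  Lgr Lrot155 (Lpr_gt (f82711 IH) (Lpr_ct (K32.f61030 IH) (Lpe (f504248 IH) (Lpr_ct (f24649 IH) (Lpr_dt (K9.f24635 IH) (Lpe (f24637 IH) (Lpr_gf (f627795 IH) (Lpe (f627796 IH) (Lpr_gf (f627810 IH) (Lpn v3903))))))))))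
theorem f627817 : Led Lsl_ef (LP (LK LD1_c3 LD2_c9 LD3_c12)) = (LP (LK LD1_c4 LD2_c42 LD3_c3)) :=
  Lgr Lrot73 (Lpe (f435101 IH) (Lpr_et (f77739 IH) (Lpr_dt (f445979 IH) (Lpr_et (f627816 IH) (Lpe (f627815 IH) (Lpn (LP (LK LD1_c4 LD2_c42 LD3_c3))))))))
theorem f627818 : Led Lsl_et (LP (LK LD1_c4 LD2_c42 LD3_c3)) = (LP (LK LD1_c3 LD2_c9 LD3_c12)) :=
  Leop (Lpr_ef (f627817 IH) (Lpn (LP (LK LD1_c4 LD2_c42 LD3_c3))))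
theorem seed_253 : LEOK LG_e (LK LD1_c4 LD2_c42 LD3_c3) :=
  Leoe_e (LK LD1_c4 LD2_c42 LD3_c3) (f627818 IH)
def v1118 : LQ := Led Lsl_ct K32.v267
def v3912 : LQ := Led Lsl_dt v1118
theorem f627865 : Led Lsl_dt v1118 = v3912 :=
  Lrfl
def v1587 : LQ := Led Lsl_ft (LP (LK LD1_c1 LD2_c22 LD3_c5))
theorem f500213 : Led Lsl_ft (LP (LK LD1_c1 LD2_c22 LD3_c5)) = v1587 :=
  Lrfl
theorem f500216 : Led Lsl_ff (LP (LK LD1_c1 LD2_c22 LD3_c5)) = v1587 :=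
  Lgr Lrot3 (Lpr_ft (f500213 IH) (Lpn v1587))
theorem f535789 : Led Lsl_cf v1587 = v2820 :=
  Lgr Lrot108 (Lpe (f500216 IH) (Lpr_ct (f500211 IH) (Lpqs (f535787 IH) (Lpr_ft (f535763 IH) (Lpn v2820)))))
theorem f491587 : Led Lsl_ct K32.v267 = v1118 :=
  Lrfl
theorem f623411 : v1587 = v1118 :=
  Lefun (Lecon (Lfl_cf (f535789 IH)) (f623409 IH)) (f491587 IH)
theorem f627868 : Led Lsl_ff (LP (LK LD1_c2 LD2_c52 LD3_c11)) = v3912 :=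
  Lgr Lrot19 (Lpr_dt (f22377 IH) (Lpr_ft (f500213 IH) (Lpqs (f623411 IH) (Lpr_dt (f627865 IH) (Lpn v3912)))))
theorem f627870 : Led Lsl_ft (LP (LK LD1_c2 LD2_c52 LD3_c11)) = v3912 :=
  Lgr Lrot48 (Lpr_ff (f627868 IH) (Lpn v3912))
theorem f24040 : Led Lsl_gt (LP (LK LD1_c2 LD2_c52 LD3_c11)) = (LP (LK LD1_c5 LD2_c51 LD3_c53)) :=
  Lre_g IH (LK LD1_c2 LD2_c52 LD3_c11) (LK LD1_c5 LD2_c51 LD3_c53) Lrfl Lrfl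
theorem f500217 : Led Lsl_at (LP (LK LD1_c1 LD2_c22 LD3_c6)) = v1587 :=
  Lgr Lrot66 (Lpr_ff (f500209 IH) (Lpe (f500204 IH) (Lpr_ff (f500216 IH) (Lpn v1587))))
theorem f627866 : Led Lsl_af (LP (LK LD1_c2 LD2_c52 LD3_c14)) = v3912 :=
  Lgr Lrot117 (Lpr_dt (K17.f22243 IH) (Lpr_at (f500217 IH) (Lpqs (f623411 IH) (Lpr_dt (f627865 IH) (Lpn v3912)))))
theorem f627871 : Led Lsl_gt (LP (LK LD1_c5 LD2_c51 LD3_c53)) = (LP (LK LD1_c2 LD2_c52 LD3_c14)) :=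
  Lgr Lrot46 (Lpe (f24040 IH) (Lpr_ft (f627870 IH) (Lpe (f627866 IH) (Lpn (LP (LK LD1_c2 LD2_c52 LD3_c14))))))
theorem f627872 : Led Lsl_gt (LP (LK LD1_c5 LD2_c51 LD3_c53)) = (LP (LK LD1_c2 LD2_c52 LD3_c14)) :=
  Leop (Lpe (f627871 IH) (Lpn (LP (LK LD1_c5 LD2_c51 LD3_c53))))
theorem seed_254 : LEOK LG_g (LK LD1_c5 LD2_c51 LD3_c53) :=
  Leoe_g (LK LD1_c5 LD2_c51 LD3_c53) (f627872 IH)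
def v3938 : LQ := Led Lsl_dt K30.v1132
theorem f628001 : Led Lsl_dt K30.v1132 = v3938 :=
  Lrfl
theorem f491645 : Led Lsl_ft (LP (LK LD1_c1 LD2_c46 LD3_c31)) = K30.v1132 :=
  Lgr Lrot48 (Lpr_ff (K30.f491642 IH) (Lpn K30.v1132))
theorem f4037 : Led Lsl_dt (LP (LK LD1_c3 LD2_c39 LD3_c8)) = (LP (LK LD1_c1 LD2_c46 LD3_c31)) :=
  Lre_d IH (LK LD1_c3 LD2_c39 LD3_c8) (LK LD1_c1 LD2_c46 LD3_c31) Lrfl Lrfl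
theorem f628005 : Led Lsl_ff (LP (LK LD1_c3 LD2_c39 LD3_c8)) = v3938 :=
  Lgr Lrot19 (Lpr_dt (f4037 IH) (Lpr_ft (f491645 IH) (Lpr_dt (f628001 IH) (Lpn v3938))))
theorem f628008 : Led Lsl_ft (LP (LK LD1_c3 LD2_c39 LD3_c8)) = v3938 :=
  Lgr Lrot48 (Lpr_ff (f628005 IH) (Lpn v3938))
theorem f467614 : Led Lsl_gt (LP (LK LD1_c3 LD2_c39 LD3_c8)) = (LP (LK LD1_c7 LD2_c18 LD3_c38)) :=
  Lre_g IH (LK LD1_c3 LD2_c39 LD3_c8) (LK LD1_c7 LD2_c18 LD3_c38) Lrfl Lrfl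
theorem f491643 : Led Lsl_gt (LP (LK LD1_c1 LD2_c49 LD3_c35)) = K30.v1132 :=
  Lgr Lrot65 (Lpe (K2.f85247 IH) (Lpr_bt (K34.f85245 IH) (Lpq (K29.f466750 IH) (Lpe (K29.f459355 IH) (Lpe (K28.f451003 IH) (Lpq (K24.f456262 IH) (Lpe (K24.f450984 IH) (Lpr_gf (K24.f447657 IH) (Lpe (K24.f447655 IH) (Lpr_gf (K24.f447639 IH) (Lpr_bf (K30.f451490 IH) (Lpr_ct (K30.f491639 IH) (Lpn K30.v1132)))))))))))))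
theorem f481876 : Led Lsl_ct (LP (LK LD1_c3 LD2_c25 LD3_c51)) = (LP (LK LD1_c1 LD2_c39 LD3_c31)) :=
  Lre_c IH (LK LD1_c3 LD2_c25 LD3_c51) (LK LD1_c1 LD2_c39 LD3_c31) Lrfl Lrfl
theorem f485769 : Led Lsl_ft (LP (LK LD1_c3 LD2_c39 LD3_c5)) = (LP (LK LD1_c3 LD2_c25 LD3_c51)) :=
  Lgr Lrot4 (Lpe (K34.f478894 IH) (Lpr_ff (K29.f485766 IH) (Lpe (f481876 IH) (Lpn (LP (LK LD1_c3 LD2_c25 LD3_c51))))))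
theorem f491644 : Led Lsl_at (LP (LK LD1_c3 LD2_c25 LD3_c51)) = K30.v1132 :=
  Lgr Lrot26 (Lpe (f485769 IH) (Lpr_gt (K34.f478896 IH) (Lpr_gt (f491643 IH) (Lpn K30.v1132))))
theorem f628002 : Led Lsl_af (LP (LK LD1_c6 LD2_c53 LD3_c38)) = v3938 :=
  Lgr Lrot117 (Lpr_dt (K34.f481873 IH) (Lpr_at (f491644 IH) (Lpr_dt (f628001 IH) (Lpn v3938))))
theorem f628010 : Led Lsl_gt (LP (LK LD1_c7 LD2_c18 LD3_c38)) = (LP (LK LD1_c6 LD2_c53 LD3_c38)) :=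
  Lgr Lrot46 (Lpe (f467614 IH) (Lpr_ft (f628008 IH) (Lpe (f628002 IH) (Lpn (LP (LK LD1_c6 LD2_c53 LD3_c38))))))
theorem f628011 : Led Lsl_gt (LP (LK LD1_c7 LD2_c18 LD3_c38)) = (LP (LK LD1_c6 LD2_c53 LD3_c38)) :=
  Leop (Lpe (f628010 IH) (Lpn (LP (LK LD1_c7 LD2_c18 LD3_c38))))
theorem seed_255 : LEOK LG_g (LK LD1_c7 LD2_c18 LD3_c38) :=
  Leoe_g (LK LD1_c7 LD2_c18 LD3_c38) (f628011 IH)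
def v3940 : LQ := Led Lsl_ct K29.v1133
theorem f628029 : Led Lsl_ct K29.v1133 = v3940 :=
  Lrfl
theorem f491648 : Led Lsl_bf K24.v276 = K29.v1133 :=
  Lgr Lrot93 (Lpe (K24.f451494 IH) (Lpr_bt (K29.f451489 IH) (Lpr_dt (K29.f491646 IH) (Lpn K29.v1133))))
def v1014 : LQ := Led Lsl_gf K24.v171
theorem f491005 : Led Lsl_gf K24.v171 = v1014 :=
  Lrfl
theorem f491008 : Led Lsl_ct K24.v609 = v1014 :=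
  Lgr Lrot8 (Lpe (K24.f455189 IH) (Lpe (K24.f450777 IH) (Lpr_gt (K24.f4033 IH) (Lpr_dt (K2.f4023 IH) (Lpr_cf (K2.f3933 IH) (Lpr_df (K24.f447644 IH) (Lpr_gf (K24.f451513 IH) (Lpe (K24.f451514 IH) (Lpr_gf (f491005 IH) (Lpn v1014))))))))))
theorem f628033 : Led Lsl_gt (LP (LK LD1_c3 LD2_c27 LD3_c27)) = v3940 :=
  Lgr Lrot65 (Lpr_cf (K34.f457806 IH) (Lpr_bt (K34.f62970 IH) (Lpe (K29.f474262 IH) (Lpe (K28.f459370 IH) (Lpr_ct (K24.f456454 IH) (Lpr_gf (f491005 IH) (Lpe (f491008 IH) (Lpe (K24.f455192 IH) (Lpr_bf (f491648 IH) (Lpr_ct (f628029 IH) (Lpn v3940)))))))))))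
theorem f455908 : Led Lsl_ct (LP (LK LD1_c3 LD2_c39 LD3_c8)) = (LP (LK LD1_c7 LD2_c18 LD3_c39)) :=
  Lre_c IH (LK LD1_c3 LD2_c39 LD3_c8) (LK LD1_c7 LD2_c18 LD3_c39) Lrfl Lrfl
theorem f484105 : Led Lsl_gt (LP (LK LD1_c7 LD2_c18 LD3_c39)) = (LP (LK LD1_c13 LD2_c49 LD3_c57)) :=
  Lre_g IH (LK LD1_c7 LD2_c18 LD3_c39) (LK LD1_c13 LD2_c49 LD3_c57) Lrfl Lrfl
theorem f628031 : Led Lsl_cf K29.v1133 = v3940 :=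
  Lgr Lrot11 (Lpr_ct (f628029 IH) (Lpn v3940))
theorem f456564 : Led Lsl_bf (LP (LK LD1_c3 LD2_c54 LD3_c1)) = (LP (LK LD1_c7 LD2_c8 LD3_c50)) :=
  Lgr Lrot24 (Lpr_bt (K33.f456037 IH) (Lpn (LP (LK LD1_c7 LD2_c8 LD3_c50))))
theorem f488122 : Led Lsl_bt (LP (LK LD1_c1 LD2_c53 LD3_c57)) = (LP (LK LD1_c3 LD2_c54 LD3_c38)) :=
  Lre_b IH (LK LD1_c1 LD2_c53 LD3_c57) (LK LD1_c3 LD2_c54 LD3_c38) Lrfl Lrfl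
theorem f524223 : Led Lsl_et (LP (LK LD1_c1 LD2_c53 LD3_c54)) = (LP (LK LD1_c3 LD2_c54 LD3_c38)) :=
  Lre_e IH (LK LD1_c1 LD2_c53 LD3_c54) (LK LD1_c3 LD2_c54 LD3_c38) Lrfl Lrfl
theorem f524224 : Led Lsl_af (LP (LK LD1_c3 LD2_c48 LD3_c19)) = (LP (LK LD1_c3 LD2_c54 LD3_c38)) :=
  Lgr Lrot50 (Lpr_et (K33.f84665 IH) (Lpr_at (K34.f524215 IH) (Lpr_et (f524223 IH) (Lpn (LP (LK LD1_c3 LD2_c54 LD3_c38))))))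
theorem f481730 : Led Lsl_bt (LP (LK LD1_c3 LD2_c48 LD3_c19)) = (LP (LK LD1_c7 LD2_c37 LD3_c38)) :=
  Lre_b IH (LK LD1_c3 LD2_c48 LD3_c19) (LK LD1_c7 LD2_c37 LD3_c38) Lrfl Lrfl
theorem f524532 : Led Lsl_af (LP (LK LD1_c7 LD2_c8 LD3_c50)) = (LP (LK LD1_c7 LD2_c37 LD3_c38)) :=
  Lgr Lrot36 (Lpe (f456564 IH) (Lpr_at (K34.f524433 IH) (Lpr_bt (f488122 IH) (Lpe (f524224 IH) (Lpr_bt (f481730 IH) (Lpn (LP (LK LD1_c7 LD2_c37 LD3_c38))))))))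
theorem f524536 : Led Lsl_at (LP (LK LD1_c3 LD2_c33 LD3_c56)) = (LP (LK LD1_c7 LD2_c6 LD3_c38)) :=
  Lgr Lrot107 (Lpe (K33.f456567 IH) (Lpr_af (f524532 IH) (Lpe (K33.f467928 IH) (Lpn (LP (LK LD1_c7 LD2_c6 LD3_c38))))))
theorem f514974 : Led Lsl_et (LP (LK LD1_c1 LD2_c43 LD3_c39)) = (LP (LK LD1_c3 LD2_c33 LD3_c56)) :=
  Lre_e IH (LK LD1_c1 LD2_c43 LD3_c39) (LK LD1_c3 LD2_c33 LD3_c56) Lrfl Lrfl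
def v2361 : LQ := Led Lsl_ft (LP (LK LD1_c1 LD2_c43 LD3_c38))
theorem f514976 : Led Lsl_ft (LP (LK LD1_c1 LD2_c43 LD3_c38)) = v2361 :=
  Lrfl
theorem f514977 : Led Lsl_af (LP (LK LD1_c1 LD2_c43 LD3_c39)) = v2361 :=
  Lgr Lrot45 (Lpr_ft (K34.f514970 IH) (Lpe (K34.f514968 IH) (Lpr_ft (f514976 IH) (Lpn v2361))))
theorem f10808 : Led Lsl_et (LP (LK LD1_c7 LD2_c6 LD3_c38)) = (LP (LK LD1_c3 LD2_c32 LD3_c50)) :=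
  Lre_e IH (LK LD1_c7 LD2_c6 LD3_c38) (LK LD1_c3 LD2_c32 LD3_c50) Lrfl Lrfl
theorem f524543 : v2361 = (LP (LK LD1_c3 LD2_c32 LD3_c50)) :=
  (Llr Lrot50 (Lpe (f514977 IH) (Lpr_et (f514974 IH) (Lpr_at (f524536 IH) (Lpr_et (f10808 IH) (Lpn (LP (LK LD1_c3 LD2_c32 LD3_c50)))))))).symm
theorem f466687 : Led Lsl_dt (LP (LK LD1_c3 LD2_c33 LD3_c51)) = (LP (LK LD1_c1 LD2_c43 LD3_c38)) :=
  Lre_d IH (LK LD1_c3 LD2_c33 LD3_c51) (LK LD1_c1 LD2_c43 LD3_c38) Lrfl Lrfl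
theorem f524550 : Led Lsl_ff (LP (LK LD1_c3 LD2_c33 LD3_c51)) = (LP (LK LD1_c7 LD2_c6 LD3_c37)) :=
  Lgr Lrot19 (Lpr_dt (f466687 IH) (Lpr_ft (f514976 IH) (Lpqs (f524543 IH) (Lpr_dt (K34.f5988 IH) (Lpn (LP (LK LD1_c7 LD2_c6 LD3_c37)))))))
theorem f524562 : Led Lsl_ft (LP (LK LD1_c3 LD2_c33 LD3_c51)) = (LP (LK LD1_c7 LD2_c6 LD3_c37)) :=
  Lgr Lrot48 (Lpr_ff (f524550 IH) (Lpn (LP (LK LD1_c7 LD2_c6 LD3_c37))))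
theorem f468839 : Led Lsl_bt (LP (LK LD1_c7 LD2_c8 LD3_c34)) = (LP (LK LD1_c3 LD2_c33 LD3_c51)) :=
  Lre_b IH (LK LD1_c7 LD2_c8 LD3_c34) (LK LD1_c3 LD2_c33 LD3_c51) Lrfl Lrfl
theorem f488830 : Led Lsl_bt (LP (LK LD1_c7 LD2_c6 LD3_c37)) = (LP (LK LD1_c13 LD2_c28 LD3_c20)) :=
  Lre_b IH (LK LD1_c7 LD2_c6 LD3_c37) (LK LD1_c13 LD2_c28 LD3_c20) Lrfl Lrfl
theorem f524564 : Led Lsl_ff (LP (LK LD1_c7 LD2_c8 LD3_c34)) = (LP (LK LD1_c13 LD2_c28 LD3_c20)) :=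
  Lgr Lrot25 (Lpr_bt (f468839 IH) (Lpr_ft (f524562 IH) (Lpr_bt (f488830 IH) (Lpn (LP (LK LD1_c13 LD2_c28 LD3_c20))))))
theorem f524593 : Led Lsl_at (LP (LK LD1_c7 LD2_c8 LD3_c34)) = (LP (LK LD1_c13 LD2_c31 LD3_c35)) :=
  Lre_a IH (LK LD1_c7 LD2_c8 LD3_c34) (LK LD1_c13 LD2_c31 LD3_c35) Lrfl Lrfl
theorem f524604 : Led Lsl_ct (LP (LK LD1_c22 LD2_c52 LD3_c61)) = (LP (LK LD1_c13 LD2_c31 LD3_c35)) :=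
  Lre_c IH (LK LD1_c22 LD2_c52 LD3_c61) (LK LD1_c13 LD2_c31 LD3_c35) Lrfl Lrfl
theorem f524605 : Led Lsl_dt (LP (LK LD1_c30 LD2_c46 LD3_c26)) = (LP (LK LD1_c22 LD2_c52 LD3_c61)) :=
  Lre_d IH (LK LD1_c30 LD2_c46 LD3_c26) (LK LD1_c22 LD2_c52 LD3_c61) Lrfl Lrfl
theorem f481130 : Led Lsl_dt (LP (LK LD1_c13 LD2_c28 LD3_c20)) = (LP (LK LD1_c7 LD2_c6 LD3_c36)) :=
  Lre_d IH (LK LD1_c13 LD2_c28 LD3_c20) (LK LD1_c7 LD2_c6 LD3_c36) Lrfl Lrfl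
theorem f481121 : Led Lsl_dt (LP (LK LD1_c3 LD2_c49 LD3_c27)) = (LP (LK LD1_c7 LD2_c39 LD3_c47)) :=
  Lre_d IH (LK LD1_c3 LD2_c49 LD3_c27) (LK LD1_c7 LD2_c39 LD3_c47) Lrfl Lrfl
theorem f481128 : Led Lsl_ct (LP (LK LD1_c7 LD2_c39 LD3_c47)) = (LP (LK LD1_c14 LD2_c26 LD3_c29)) :=
  Lre_c IH (LK LD1_c7 LD2_c39 LD3_c47) (LK LD1_c14 LD2_c26 LD3_c29) Lrfl Lrfl
theorem f481129 : Led Lsl_dt (LP (LK LD1_c14 LD2_c26 LD3_c29)) = (LP (LK LD1_c24 LD2_c6 LD3_c38)) :=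
  Lre_d IH (LK LD1_c14 LD2_c26 LD3_c29) (LK LD1_c24 LD2_c6 LD3_c38) Lrfl Lrfl
theorem f524606 : Led Lsl_cf (LP (LK LD1_c30 LD2_c46 LD3_c26)) = (LP (LK LD1_c24 LD2_c6 LD3_c38)) :=
  Lgr Lrot161 (Lpr_dt (f524605 IH) (Lpr_ct (f524604 IH) (Lpe (f524593 IH) (Lpr_ff (f524564 IH) (Lpr_dt (f481130 IH) (Lpe (K33.f481122 IH) (Lpr_dt (f481121 IH) (Lpr_ct (f481128 IH) (Lpr_dt (f481129 IH) (Lpn (LP (LK LD1_c24 LD2_c6 LD3_c38))))))))))))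
theorem f524615 : Led Lsl_at (LP (LK LD1_c22 LD2_c53 LD3_c11)) = (LP (LK LD1_c30 LD2_c46 LD3_c26)) :=
  Lre_a IH (LK LD1_c22 LD2_c53 LD3_c11) (LK LD1_c30 LD2_c46 LD3_c26) Lrfl Lrfl
theorem f481131 : Led Lsl_ct (LP (LK LD1_c22 LD2_c47 LD3_c59)) = (LP (LK LD1_c13 LD2_c28 LD3_c20)) :=
  Lre_c IH (LK LD1_c22 LD2_c47 LD3_c59) (LK LD1_c13 LD2_c28 LD3_c20) Lrfl Lrfl
theorem f481132 : Led Lsl_dt (LP (LK LD1_c30 LD2_c43 LD3_c25)) = (LP (LK LD1_c22 LD2_c47 LD3_c59)) :=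
  Lre_d IH (LK LD1_c30 LD2_c43 LD3_c25) (LK LD1_c22 LD2_c47 LD3_c59) Lrfl Lrfl
theorem f524616 : Led Lsl_ff (LP (LK LD1_c22 LD2_c53 LD3_c11)) = (LP (LK LD1_c30 LD2_c43 LD3_c25)) :=
  Lgr Lrot103 (Lpr_at (f524615 IH) (Lpr_cf (f524606 IH) (Lpe (f481129 IH) (Lpe (f481128 IH) (Lpe (f481121 IH) (Lpr_cf (K33.f481122 IH) (Lpe (f481130 IH) (Lpe (f481131 IH) (Lpe (f481132 IH) (Lpn (LP (LK LD1_c30 LD2_c43 LD3_c25))))))))))))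
theorem f524620 : Led Lsl_ft (LP (LK LD1_c22 LD2_c53 LD3_c11)) = (LP (LK LD1_c30 LD2_c43 LD3_c25)) :=
  Lgr Lrot48 (Lpr_ff (f524616 IH) (Lpn (LP (LK LD1_c30 LD2_c43 LD3_c25))))
theorem f524623 : Led Lsl_dt (LP (LK LD1_c13 LD2_c31 LD3_c40)) = (LP (LK LD1_c22 LD2_c53 LD3_c11)) :=
  Lre_d IH (LK LD1_c13 LD2_c31 LD3_c40) (LK LD1_c22 LD2_c53 LD3_c11) Lrfl Lrfl
theorem f524624 : Led Lsl_ff (LP (LK LD1_c13 LD2_c31 LD3_c40)) = (LP (LK LD1_c22 LD2_c47 LD3_c59)) :=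
  Lgr Lrot19 (Lpr_dt (f524623 IH) (Lpr_ft (f524620 IH) (Lpr_dt (f481132 IH) (Lpn (LP (LK LD1_c22 LD2_c47 LD3_c59))))))
theorem f524627 : Led Lsl_at (LP (LK LD1_c13 LD2_c31 LD3_c40)) = (LP (LK LD1_c22 LD2_c52 LD3_c61)) :=
  Lre_a IH (LK LD1_c13 LD2_c31 LD3_c40) (LK LD1_c22 LD2_c52 LD3_c61) Lrfl Lrfl
theorem f481193 : Led Lsl_at (LP (LK LD1_c30 LD2_c43 LD3_c20)) = (LP (LK LD1_c22 LD2_c47 LD3_c59)) :=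
  Lre_a IH (LK LD1_c30 LD2_c43 LD3_c20) (LK LD1_c22 LD2_c47 LD3_c59) Lrfl Lrfl
theorem f524628 : Led Lsl_ft (LP (LK LD1_c22 LD2_c52 LD3_c61)) = (LP (LK LD1_c30 LD2_c43 LD3_c20)) :=
  Lgr Lrot101 (Lpe (f524627 IH) (Lpr_ff (f524624 IH) (Lpe (f481193 IH) (Lpn (LP (LK LD1_c30 LD2_c43 LD3_c20))))))
theorem f524619 : Led Lsl_ct (LP (LK LD1_c13 LD2_c31 LD3_c35)) = (LP (LK LD1_c22 LD2_c52 LD3_c61)) :=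
  Lre_c IH (LK LD1_c13 LD2_c31 LD3_c35) (LK LD1_c22 LD2_c52 LD3_c61) Lrfl Lrfl
theorem f524635 : Led Lsl_ct (LP (LK LD1_c30 LD2_c43 LD3_c20)) = (LP (LK LD1_c22 LD2_c47 LD3_c56)) :=
  Lre_c IH (LK LD1_c30 LD2_c43 LD3_c20) (LK LD1_c22 LD2_c47 LD3_c56) Lrfl Lrfl
theorem f524636 : Led Lsl_ff (LP (LK LD1_c13 LD2_c31 LD3_c35)) = (LP (LK LD1_c22 LD2_c47 LD3_c56)) :=
  Lgr Lrot23 (Lpr_ct (f524619 IH) (Lpr_ft (f524628 IH) (Lpr_ct (f524635 IH) (Lpn (LP (LK LD1_c22 LD2_c47 LD3_c56))))))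
theorem f524614 : Led Lsl_dt (LP (LK LD1_c13 LD2_c31 LD3_c35)) = (LP (LK LD1_c7 LD2_c8 LD3_c32)) :=
  Lre_d IH (LK LD1_c13 LD2_c31 LD3_c35) (LK LD1_c7 LD2_c8 LD3_c32) Lrfl Lrfl
theorem f524651 : Led Lsl_dt (LP (LK LD1_c13 LD2_c28 LD3_c19)) = (LP (LK LD1_c22 LD2_c47 LD3_c56)) :=
  Lre_d IH (LK LD1_c13 LD2_c28 LD3_c19) (LK LD1_c22 LD2_c47 LD3_c56) Lrfl Lrfl
theorem f524652 : Led Lsl_ft (LP (LK LD1_c7 LD2_c8 LD3_c32)) = (LP (LK LD1_c13 LD2_c28 LD3_c19)) :=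
  Lgr Lrot54 (Lpe (f524614 IH) (Lpr_ff (f524636 IH) (Lpe (f524651 IH) (Lpn (LP (LK LD1_c13 LD2_c28 LD3_c19))))))
theorem f481125 : Led Lsl_at (LP (LK LD1_c13 LD2_c28 LD3_c19)) = (LP (LK LD1_c7 LD2_c6 LD3_c36)) :=
  Lre_a IH (LK LD1_c13 LD2_c28 LD3_c19) (LK LD1_c7 LD2_c6 LD3_c36) Lrfl Lrfl
theorem f524666 : Led Lsl_gt (LP (LK LD1_c7 LD2_c8 LD3_c32)) = (LP (LK LD1_c13 LD2_c28 LD3_c18)) :=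
  Lgr Lrot5 (Lpr_ft (f524652 IH) (Lpr_at (f481125 IH) (Lpe (K33.f481142 IH) (Lpn (LP (LK LD1_c13 LD2_c28 LD3_c18))))))
theorem f89802 : Led Lsl_bt (LP (LK LD1_c0 LD2_c52 LD3_c41)) = (LP (LK LD1_c1 LD2_c51 LD3_c45)) :=
  Lre_b IH (LK LD1_c0 LD2_c52 LD3_c41) (LK LD1_c1 LD2_c51 LD3_c45) Lrfl Lrfl
theorem f157548 : Led Lsl_gt (LP (LK LD1_c1 LD2_c51 LD3_c45)) = (LP (LK LD1_c3 LD2_c49 LD3_c26)) :=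
  Lre_g IH (LK LD1_c1 LD2_c51 LD3_c45) (LK LD1_c3 LD2_c49 LD3_c26) Lrfl Lrfl
theorem f524670 : Led Lsl_cf (LP (LK LD1_c7 LD2_c8 LD3_c32)) = (LP (LK LD1_c3 LD2_c49 LD3_c26)) :=
  Lgr Lrot125 (Lpr_gt (f524666 IH) (Lpe (K33.f488831 IH) (Lpr_bt (K33.f486792 IH) (Lpr_gt (K33.f488851 IH) (Lpe (K33.f459718 IH) (Lpr_ct (K33.f443606 IH) (Lpr_gt (K29.f86925 IH) (Lpe (K33.f87968 IH) (Lpr_bt (f89802 IH) (Lpr_gt (f157548 IH) (Lpn (LP (LK LD1_c3 LD2_c49 LD3_c26)))))))))))))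
theorem f524675 : Led Lsl_ct (LP (LK LD1_c7 LD2_c8 LD3_c32)) = (LP (LK LD1_c3 LD2_c49 LD3_c26)) :=
  Lgr Lrot59 (Lpr_cf (f524670 IH) (Lpn (LP (LK LD1_c3 LD2_c49 LD3_c26))))
theorem f488936 : Led Lsl_at (LP (LK LD1_c7 LD2_c8 LD3_c32)) = (LP (LK LD1_c3 LD2_c33 LD3_c49)) :=
  Lre_a IH (LK LD1_c7 LD2_c8 LD3_c32) (LK LD1_c3 LD2_c33 LD3_c49) Lrfl Lrfl
theorem f524673 : Led Lsl_at (LP (LK LD1_c7 LD2_c8 LD3_c33)) = (LP (LK LD1_c3 LD2_c49 LD3_c26)) :=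
  Lgr Lrot107 (Lpe (K29.f6663 IH) (Lpe (f488936 IH) (Lpr_cf (f524670 IH) (Lpn (LP (LK LD1_c3 LD2_c49 LD3_c26))))))
theorem f524704 : Led Lsl_ft (LP (LK LD1_c3 LD2_c49 LD3_c27)) = (LP (LK LD1_c7 LD2_c8 LD3_c33)) :=
  Lgr Lrot142 (Lpr_dt (f481121 IH) (Lpr_ct (f481128 IH) (Lpr_dt (f481129 IH) (Lpe (f524606 IH) (Lpr_dt (f524605 IH) (Lpr_ct (f524604 IH) (Lpr_dt (f524614 IH) (Lpr_ct (f524675 IH) (Lpe (f524673 IH) (Lpn (LP (LK LD1_c7 LD2_c8 LD3_c33))))))))))))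
theorem f524708 : Led Lsl_ff (LP (LK LD1_c3 LD2_c49 LD3_c27)) = (LP (LK LD1_c7 LD2_c8 LD3_c33)) :=
  Lgr Lrot3 (Lpr_ft (f524704 IH) (Lpn (LP (LK LD1_c7 LD2_c8 LD3_c33))))
theorem f459714 : Led Lsl_gt (LP (LK LD1_c3 LD2_c49 LD3_c29)) = (LP (LK LD1_c7 LD2_c39 LD3_c31)) :=
  Lre_g IH (LK LD1_c3 LD2_c49 LD3_c29) (LK LD1_c7 LD2_c39 LD3_c31) Lrfl Lrfl
theorem f524712 : Led Lsl_at (LP (LK LD1_c3 LD2_c49 LD3_c27)) = (LP (LK LD1_c7 LD2_c39 LD3_c31)) :=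
  Lgr Lrot26 (Lpr_ff (f524708 IH) (Lpe (K29.f477981 IH) (Lpr_gt (f459714 IH) (Lpn (LP (LK LD1_c7 LD2_c39 LD3_c31))))))
theorem f484132 : Led Lsl_bt (LP (LK LD1_c3 LD2_c26 LD3_c33)) = (LP (LK LD1_c6 LD2_c54 LD3_c57)) :=
  Lre_b IH (LK LD1_c3 LD2_c26 LD3_c33) (LK LD1_c6 LD2_c54 LD3_c57) Lrfl Lrfl
theorem f524219 : Led Lsl_af (LP (LK LD1_c3 LD2_c26 LD3_c34)) = (LP (LK LD1_c3 LD2_c54 LD3_c36)) :=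
  Lgr Lrot68 (Lpr_ct (K33.f481713 IH) (Lpr_at (K34.f524215 IH) (Lpr_ct (K29.f123409 IH) (Lpn (LP (LK LD1_c3 LD2_c54 LD3_c36))))))
theorem f524213 : Led Lsl_ft (LP (LK LD1_c3 LD2_c26 LD3_c34)) = (LP (LK LD1_c3 LD2_c55 LD3_c50)) :=
  Lgr Lrot4 (Lpr_cf (K33.f481709 IH) (Lpr_ff (K34.f524209 IH) (Lpr_cf (K29.f482320 IH) (Lpn (LP (LK LD1_c3 LD2_c55 LD3_c50))))))
theorem f524242 : Led Lsl_af (LP (LK LD1_c3 LD2_c26 LD3_c33)) = (LP (LK LD1_c3 LD2_c55 LD3_c50)) :=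
  Lgr Lrot45 (Lpr_ft (K34.f524228 IH) (Lpe (f524219 IH) (Lpr_ft (f524213 IH) (Lpn (LP (LK LD1_c3 LD2_c55 LD3_c50))))))
theorem f524342 : Led Lsl_af (LP (LK LD1_c7 LD2_c8 LD3_c33)) = (LP (LK LD1_c3 LD2_c49 LD3_c26)) :=
  Lgr Lrot36 (Lpr_bt (K33.f482330 IH) (Lpe (f524242 IH) (Lpr_bt (f484132 IH) (Lpr_at (K34.f524338 IH) (Lpr_bt (K34.f477711 IH) (Lpn (LP (LK LD1_c3 LD2_c49 LD3_c26))))))))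
theorem f524723 : Led Lsl_ff (LP (LK LD1_c3 LD2_c49 LD3_c26)) = (LP (LK LD1_c7 LD2_c39 LD3_c31)) :=
  Lgr Lrot30 (Lpe (f524342 IH) (Lpe (f524708 IH) (Lpr_at (f524712 IH) (Lpn (LP (LK LD1_c7 LD2_c39 LD3_c31))))))
theorem f478003 : Led Lsl_dt (LP (LK LD1_c7 LD2_c8 LD3_c34)) = (LP (LK LD1_c3 LD2_c33 LD3_c49)) :=
  Lre_d IH (LK LD1_c7 LD2_c8 LD3_c34) (LK LD1_c3 LD2_c33 LD3_c49) Lrfl Lrfl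
theorem f468840 : Led Lsl_ct (LP (LK LD1_c13 LD2_c31 LD3_c40)) = (LP (LK LD1_c7 LD2_c8 LD3_c34)) :=
  Lre_c IH (LK LD1_c13 LD2_c31 LD3_c40) (LK LD1_c7 LD2_c8 LD3_c34) Lrfl Lrfl
theorem f468841 : Led Lsl_dt (LP (LK LD1_c22 LD2_c53 LD3_c11)) = (LP (LK LD1_c13 LD2_c31 LD3_c40)) :=
  Lre_d IH (LK LD1_c22 LD2_c53 LD3_c11) (LK LD1_c13 LD2_c31 LD3_c40) Lrfl Lrfl
theorem f524622 : Led Lsl_ct (LP (LK LD1_c30 LD2_c46 LD3_c44)) = (LP (LK LD1_c22 LD2_c53 LD3_c11)) :=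
  Lre_c IH (LK LD1_c30 LD2_c46 LD3_c44) (LK LD1_c22 LD2_c53 LD3_c11) Lrfl Lrfl
theorem f481028 : Led Lsl_dt (LP (LK LD1_c7 LD2_c39 LD3_c31)) = (LP (LK LD1_c14 LD2_c26 LD3_c2)) :=
  Lre_d IH (LK LD1_c7 LD2_c39 LD3_c31) (LK LD1_c14 LD2_c26 LD3_c2) Lrfl Lrfl
theorem f524733 : Led Lsl_ct (LP (LK LD1_c14 LD2_c26 LD3_c2)) = (LP (LK LD1_c24 LD2_c6 LD3_c0)) :=
  Lre_c IH (LK LD1_c14 LD2_c26 LD3_c2) (LK LD1_c24 LD2_c6 LD3_c0) Lrfl Lrfl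
theorem f524734 : Led Lsl_df (LP (LK LD1_c30 LD2_c46 LD3_c44)) = (LP (LK LD1_c24 LD2_c6 LD3_c0)) :=
  Lgr Lrot106 (Lpr_ct (f524622 IH) (Lpr_dt (f468841 IH) (Lpr_ct (f468840 IH) (Lpr_dt (f478003 IH) (Lpr_ct (K29.f6663 IH) (Lpr_af (f524342 IH) (Lpr_ff (f524723 IH) (Lpr_dt (f481028 IH) (Lpr_ct (f524733 IH) (Lpn (LP (LK LD1_c24 LD2_c6 LD3_c0))))))))))))
theorem f524634 : Led Lsl_dt (LP (LK LD1_c7 LD2_c8 LD3_c32)) = (LP (LK LD1_c13 LD2_c31 LD3_c35)) :=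
  Lre_d IH (LK LD1_c7 LD2_c8 LD3_c32) (LK LD1_c13 LD2_c31 LD3_c35) Lrfl Lrfl
theorem f524618 : Led Lsl_dt (LP (LK LD1_c22 LD2_c52 LD3_c61)) = (LP (LK LD1_c30 LD2_c46 LD3_c26)) :=
  Lre_d IH (LK LD1_c22 LD2_c52 LD3_c61) (LK LD1_c30 LD2_c46 LD3_c26) Lrfl Lrfl
theorem f524612 : Led Lsl_ct (LP (LK LD1_c30 LD2_c46 LD3_c26)) = (LP (LK LD1_c24 LD2_c6 LD3_c38)) :=
  Lgr Lrot59 (Lpr_cf (f524606 IH) (Lpn (LP (LK LD1_c24 LD2_c6 LD3_c38))))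
theorem f524608 : Led Lsl_at (LP (LK LD1_c30 LD2_c46 LD3_c26)) = (LP (LK LD1_c22 LD2_c53 LD3_c11)) :=
  Lre_a IH (LK LD1_c30 LD2_c46 LD3_c26) (LK LD1_c22 LD2_c53 LD3_c11) Lrfl Lrfl
theorem f524609 : Led Lsl_ct (LP (LK LD1_c22 LD2_c53 LD3_c11)) = (LP (LK LD1_c30 LD2_c46 LD3_c44)) :=
  Lre_c IH (LK LD1_c22 LD2_c53 LD3_c11) (LK LD1_c30 LD2_c46 LD3_c44) Lrfl Lrfl
theorem f524610 : Led Lsl_at (LP (LK LD1_c30 LD2_c46 LD3_c44)) = (LP (LK LD1_c24 LD2_c6 LD3_c38)) :=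
  Lgr Lrot107 (Lpe (f524609 IH) (Lpe (f524608 IH) (Lpr_cf (f524606 IH) (Lpn (LP (LK LD1_c24 LD2_c6 LD3_c38))))))
theorem f481196 : Led Lsl_dt (LP (LK LD1_c7 LD2_c39 LD3_c46)) = (LP (LK LD1_c3 LD2_c49 LD3_c26)) :=
  Lre_d IH (LK LD1_c7 LD2_c39 LD3_c46) (LK LD1_c3 LD2_c49 LD3_c26) Lrfl Lrfl
theorem f157577 : Led Lsl_ct (LP (LK LD1_c14 LD2_c26 LD3_c27)) = (LP (LK LD1_c7 LD2_c39 LD3_c46)) :=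
  Lre_c IH (LK LD1_c14 LD2_c26 LD3_c27) (LK LD1_c7 LD2_c39 LD3_c46) Lrfl Lrfl
theorem f515885 : Led Lsl_dt (LP (LK LD1_c24 LD2_c6 LD3_c34)) = (LP (LK LD1_c14 LD2_c26 LD3_c27)) :=
  Lre_d IH (LK LD1_c24 LD2_c6 LD3_c34) (LK LD1_c14 LD2_c26 LD3_c27) Lrfl Lrfl
theorem f524680 : Led Lsl_ff (LP (LK LD1_c30 LD2_c46 LD3_c44)) = (LP (LK LD1_c24 LD2_c6 LD3_c34)) :=
  Lgr Lrot103 (Lpr_at (f524610 IH) (Lpe (f524612 IH) (Lpe (f524618 IH) (Lpe (f524619 IH) (Lpe (f524634 IH) (Lpr_cf (f524670 IH) (Lpe (f481196 IH) (Lpe (f157577 IH) (Lpe (f515885 IH) (Lpn (LP (LK LD1_c24 LD2_c6 LD3_c34))))))))))))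
theorem f524695 : Led Lsl_ft (LP (LK LD1_c30 LD2_c46 LD3_c44)) = (LP (LK LD1_c24 LD2_c6 LD3_c34)) :=
  Lgr Lrot48 (Lpr_ff (f524680 IH) (Lpn (LP (LK LD1_c24 LD2_c6 LD3_c34))))
theorem f524740 : Led Lsl_ft (LP (LK LD1_c14 LD2_c26 LD3_c27)) = (LP (LK LD1_c24 LD2_c6 LD3_c0)) :=
  Lgr Lrot54 (Lpe (f515885 IH) (Lpe (f524695 IH) (Lpr_df (f524734 IH) (Lpn (LP (LK LD1_c24 LD2_c6 LD3_c0))))))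
theorem f524693 : Led Lsl_dt (LP (LK LD1_c14 LD2_c26 LD3_c27)) = (LP (LK LD1_c24 LD2_c6 LD3_c34)) :=
  Lre_d IH (LK LD1_c14 LD2_c26 LD3_c27) (LK LD1_c24 LD2_c6 LD3_c34) Lrfl Lrfl
theorem f524700 : Led Lsl_cf (LP (LK LD1_c30 LD2_c43 LD3_c25)) = (LP (LK LD1_c24 LD2_c6 LD3_c34)) :=
  Lgr Lrot108 (Lpe (f524616 IH) (Lpr_ct (f524609 IH) (Lpr_ft (f524695 IH) (Lpn (LP (LK LD1_c24 LD2_c6 LD3_c34))))))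
theorem f524747 : Led Lsl_af (LP (LK LD1_c14 LD2_c26 LD3_c29)) = (LP (LK LD1_c24 LD2_c6 LD3_c0)) :=
  Lgr Lrot109 (Lpe (f481128 IH) (Lpe (f481121 IH) (Lpr_cf (K33.f481122 IH) (Lpe (f481130 IH) (Lpe (f481131 IH) (Lpe (f481132 IH) (Lpr_cf (f524700 IH) (Lpe (f524693 IH) (Lpr_ft (f524740 IH) (Lpn (LP (LK LD1_c24 LD2_c6 LD3_c0))))))))))))
theorem f481141 : Led Lsl_ct (LP (LK LD1_c14 LD2_c26 LD3_c29)) = (LP (LK LD1_c7 LD2_c39 LD3_c47)) :=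
  Lre_c IH (LK LD1_c14 LD2_c26 LD3_c29) (LK LD1_c7 LD2_c39 LD3_c47) Lrfl Lrfl
theorem f524749 : Led Lsl_at (LP (LK LD1_c7 LD2_c39 LD3_c47)) = (LP (LK LD1_c14 LD2_c26 LD3_c2)) :=
  Lgr Lrot107 (Lpe (f481141 IH) (Lpr_af (f524747 IH) (Lpe (f524733 IH) (Lpn (LP (LK LD1_c14 LD2_c26 LD3_c2))))))
theorem f481715 : Led Lsl_dt (LP (LK LD1_c3 LD2_c26 LD3_c34)) = (LP (LK LD1_c6 LD2_c54 LD3_c60)) :=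
  Lre_d IH (LK LD1_c3 LD2_c26 LD3_c34) (LK LD1_c6 LD2_c54 LD3_c60) Lrfl Lrfl
theorem f481139 : Led Lsl_dt (LP (LK LD1_c7 LD2_c39 LD3_c47)) = (LP (LK LD1_c3 LD2_c49 LD3_c27)) :=
  Lre_d IH (LK LD1_c7 LD2_c39 LD3_c47) (LK LD1_c3 LD2_c49 LD3_c27) Lrfl Lrfl
theorem f481756 : Led Lsl_bt (LP (LK LD1_c6 LD2_c54 LD3_c60)) = (LP (LK LD1_c7 LD2_c39 LD3_c47)) :=
  Lgr Lrot95 (Lpe (f481715 IH) (Lpr_bf (K33.f481754 IH) (Lpe (f481139 IH) (Lpn (LP (LK LD1_c7 LD2_c39 LD3_c47))))))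
theorem f524248 : Led Lsl_ff (LP (LK LD1_c3 LD2_c26 LD3_c33)) = (LP (LK LD1_c3 LD2_c54 LD3_c36)) :=
  Lgr Lrot3 (Lpr_ft (K34.f524228 IH) (Lpn (LP (LK LD1_c3 LD2_c54 LD3_c36))))
theorem f524197 : Led Lsl_at (LP (LK LD1_c3 LD2_c26 LD3_c33)) = (LP (LK LD1_c3 LD2_c55 LD3_c50)) :=
  Lgr Lrot107 (Lpr_cf (K33.f484130 IH) (Lpr_af (K34.f524189 IH) (Lpr_cf (K29.f482320 IH) (Lpn (LP (LK LD1_c3 LD2_c55 LD3_c50))))))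
theorem f524205 : Led Lsl_ff (LP (LK LD1_c3 LD2_c26 LD3_c34)) = (LP (LK LD1_c3 LD2_c55 LD3_c50)) :=
  Lgr Lrot23 (Lpr_ct (K33.f481713 IH) (Lpr_ft (K34.f524199 IH) (Lpr_ct (K29.f482316 IH) (Lpn (LP (LK LD1_c3 LD2_c55 LD3_c50))))))
theorem f524250 : Led Lsl_at (LP (LK LD1_c3 LD2_c26 LD3_c34)) = (LP (LK LD1_c3 LD2_c54 LD3_c36)) :=
  Lgr Lrot66 (Lpr_ff (f524205 IH) (Lpe (f524197 IH) (Lpr_ff (f524248 IH) (Lpn (LP (LK LD1_c3 LD2_c54 LD3_c36))))))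
theorem f481720 : Led Lsl_dt (LP (LK LD1_c6 LD2_c54 LD3_c60)) = (LP (LK LD1_c3 LD2_c26 LD3_c34)) :=
  Lre_d IH (LK LD1_c6 LD2_c54 LD3_c60) (LK LD1_c3 LD2_c26 LD3_c34) Lrfl Lrfl
theorem f481849 : Led Lsl_dt (LP (LK LD1_c3 LD2_c54 LD3_c36)) = (LP (LK LD1_c7 LD2_c50 LD3_c58)) :=
  Lre_d IH (LK LD1_c3 LD2_c54 LD3_c36) (LK LD1_c7 LD2_c50 LD3_c58) Lrfl Lrfl
theorem f524283 : Led Lsl_af (LP (LK LD1_c6 LD2_c54 LD3_c60)) = (LP (LK LD1_c7 LD2_c50 LD3_c58)) :=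
  Lgr Lrot117 (Lpr_dt (f481720 IH) (Lpr_at (f524250 IH) (Lpr_dt (f481849 IH) (Lpn (LP (LK LD1_c7 LD2_c50 LD3_c58))))))
theorem f524279 : Led Lsl_bt (LP (LK LD1_c14 LD2_c48 LD3_c21)) = (LP (LK LD1_c7 LD2_c50 LD3_c58)) :=
  Lre_b IH (LK LD1_c14 LD2_c48 LD3_c21) (LK LD1_c7 LD2_c50 LD3_c58) Lrfl Lrfl
theorem f524757 : Led Lsl_bt (LP (LK LD1_c14 LD2_c26 LD3_c2)) = (LP (LK LD1_c24 LD2_c5 LD3_c61)) :=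
  Lre_b IH (LK LD1_c14 LD2_c26 LD3_c2) (LK LD1_c24 LD2_c5 LD3_c61) Lrfl Lrfl
theorem f524758 : Led Lsl_af (LP (LK LD1_c14 LD2_c48 LD3_c21)) = (LP (LK LD1_c24 LD2_c5 LD3_c61)) :=
  Lgr Lrot36 (Lpr_bt (f524279 IH) (Lpe (f524283 IH) (Lpr_bt (f481756 IH) (Lpr_at (f524749 IH) (Lpr_bt (f524757 IH) (Lpn (LP (LK LD1_c24 LD2_c5 LD3_c61))))))))
theorem f451152 : Led Lsl_dt (LP (LK LD1_c7 LD2_c50 LD3_c58)) = (LP (LK LD1_c3 LD2_c54 LD3_c36)) :=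
  Lre_d IH (LK LD1_c7 LD2_c50 LD3_c58) (LK LD1_c3 LD2_c54 LD3_c36) Lrfl Lrfl
theorem f524254 : Led Lsl_ft (LP (LK LD1_c6 LD2_c54 LD3_c58)) = (LP (LK LD1_c7 LD2_c50 LD3_c58)) :=
  Lgr Lrot54 (Lpe (K29.f15190 IH) (Lpr_ff (f524248 IH) (Lpe (f451152 IH) (Lpn (LP (LK LD1_c7 LD2_c50 LD3_c58))))))
theorem f468937 : Led Lsl_bt (LP (LK LD1_c13 LD2_c8 LD3_c25)) = (LP (LK LD1_c6 LD2_c54 LD3_c58)) :=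
  Lre_b IH (LK LD1_c13 LD2_c8 LD3_c25) (LK LD1_c6 LD2_c54 LD3_c58) Lrfl Lrfl
theorem f488110 : Led Lsl_bt (LP (LK LD1_c7 LD2_c50 LD3_c58)) = (LP (LK LD1_c14 LD2_c48 LD3_c21)) :=
  Lre_b IH (LK LD1_c7 LD2_c50 LD3_c58) (LK LD1_c14 LD2_c48 LD3_c21) Lrfl Lrfl
theorem f524256 : Led Lsl_ff (LP (LK LD1_c13 LD2_c8 LD3_c25)) = (LP (LK LD1_c14 LD2_c48 LD3_c21)) :=
  Lgr Lrot25 (Lpr_bt (f468937 IH) (Lpr_ft (f524254 IH) (Lpr_bt (f488110 IH) (Lpn (LP (LK LD1_c14 LD2_c48 LD3_c21))))))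
theorem f91197 : Led Lsl_dt (LP (LK LD1_c13 LD2_c8 LD3_c25)) = (LP (LK LD1_c6 LD2_c54 LD3_c57)) :=
  Lre_d IH (LK LD1_c13 LD2_c8 LD3_c25) (LK LD1_c6 LD2_c54 LD3_c57) Lrfl Lrfl
theorem f489016 : Led Lsl_dt (LP (LK LD1_c7 LD2_c39 LD3_c45)) = (LP (LK LD1_c14 LD2_c26 LD3_c25)) :=
  Lre_d IH (LK LD1_c7 LD2_c39 LD3_c45) (LK LD1_c14 LD2_c26 LD3_c25) Lrfl Lrfl
theorem f524346 : Led Lsl_af (LP (LK LD1_c13 LD2_c8 LD3_c25)) = (LP (LK LD1_c14 LD2_c26 LD3_c25)) :=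
  Lgr Lrot117 (Lpr_dt (f91197 IH) (Lpr_at (K34.f524338 IH) (Lpr_dt (f489016 IH) (Lpn (LP (LK LD1_c14 LD2_c26 LD3_c25))))))
theorem f524348 : Led Lsl_at (LP (LK LD1_c13 LD2_c8 LD3_c25)) = (LP (LK LD1_c14 LD2_c26 LD3_c25)) :=
  Lgr Lrot100 (Lpr_af (f524346 IH) (Lpn (LP (LK LD1_c14 LD2_c26 LD3_c25))))
theorem f524885 : Led Lsl_ft (LP (LK LD1_c14 LD2_c26 LD3_c25)) = (LP (LK LD1_c24 LD2_c5 LD3_c61)) :=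
  Lgr Lrot101 (Lpe (f524348 IH) (Lpr_ff (f524256 IH) (Lpr_af (f524758 IH) (Lpn (LP (LK LD1_c24 LD2_c5 LD3_c61))))))
theorem f524891 : Led Lsl_dt (LP (LK LD1_c24 LD2_c5 LD3_c61)) = (LP (LK LD1_c14 LD2_c26 LD3_c1)) :=
  Lre_d IH (LK LD1_c24 LD2_c5 LD3_c61) (LK LD1_c14 LD2_c26 LD3_c1) Lrfl Lrfl
theorem f524892 : Led Lsl_ff (LP (LK LD1_c7 LD2_c39 LD3_c45)) = (LP (LK LD1_c14 LD2_c26 LD3_c1)) :=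
  Lgr Lrot19 (Lpr_dt (f489016 IH) (Lpr_ft (f524885 IH) (Lpr_dt (f524891 IH) (Lpn (LP (LK LD1_c14 LD2_c26 LD3_c1))))))
theorem f524902 : Led Lsl_ct (LP (LK LD1_c7 LD2_c50 LD3_c61)) = (LP (LK LD1_c14 LD2_c26 LD3_c1)) :=
  Lgr Lrot40 (Lpe (K34.f477112 IH) (Lpr_cf (K34.f489007 IH) (Lpr_ff (f524892 IH) (Lpn (LP (LK LD1_c14 LD2_c26 LD3_c1))))))
theorem f524910 : Led Lsl_cf (LP (LK LD1_c7 LD2_c50 LD3_c61)) = (LP (LK LD1_c14 LD2_c26 LD3_c1)) :=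
  Lgr Lrot11 (Lpr_ct (f524902 IH) (Lpn (LP (LK LD1_c14 LD2_c26 LD3_c1))))
theorem f524069 : Led Lsl_ct (LP (LK LD1_c13 LD2_c31 LD3_c61)) = (LP (LK LD1_c7 LD2_c8 LD3_c45)) :=
  Lre_c IH (LK LD1_c13 LD2_c31 LD3_c61) (LK LD1_c7 LD2_c8 LD3_c45) Lrfl Lrfl
theorem f524716 : Led Lsl_bt (LP (LK LD1_c7 LD2_c39 LD3_c31)) = (LP (LK LD1_c14 LD2_c26 LD3_c1)) :=
  Lre_b IH (LK LD1_c7 LD2_c39 LD3_c31) (LK LD1_c14 LD2_c26 LD3_c1) Lrfl Lrfl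
theorem f524727 : Led Lsl_ct (LP (LK LD1_c13 LD2_c28 LD3_c19)) = (LP (LK LD1_c7 LD2_c39 LD3_c31)) :=
  Lgr Lrot40 (Lpe (f524652 IH) (Lpr_cf (f524670 IH) (Lpr_ff (f524723 IH) (Lpn (LP (LK LD1_c7 LD2_c39 LD3_c31))))))
theorem f524913 : Led Lsl_bt (LP (LK LD1_c7 LD2_c8 LD3_c45)) = (LP (LK LD1_c13 LD2_c28 LD3_c19)) :=
  Lgr Lrot128 (Lpe (f524069 IH) (Lpr_bf (K34.f524420 IH) (Lpr_cf (f524910 IH) (Lpe (f524716 IH) (Lpe (f524727 IH) (Lpn (LP (LK LD1_c13 LD2_c28 LD3_c19))))))))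
theorem f524068 : Led Lsl_dt (LP (LK LD1_c13 LD2_c32 LD3_c0)) = (LP (LK LD1_c7 LD2_c8 LD3_c45)) :=
  Lre_d IH (LK LD1_c13 LD2_c32 LD3_c0) (LK LD1_c7 LD2_c8 LD3_c45) Lrfl Lrfl
theorem f524915 : Led Lsl_bf (LP (LK LD1_c13 LD2_c32 LD3_c0)) = (LP (LK LD1_c22 LD2_c47 LD3_c56)) :=
  Lgr Lrot93 (Lpr_dt (f524068 IH) (Lpr_bt (f524913 IH) (Lpr_dt (f524651 IH) (Lpn (LP (LK LD1_c22 LD2_c47 LD3_c56))))))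
theorem f524933 : Led Lsl_bt (LP (LK LD1_c13 LD2_c32 LD3_c0)) = (LP (LK LD1_c22 LD2_c47 LD3_c56)) :=
  Lgr Lrot127 (Lpr_bf (f524915 IH) (Lpn (LP (LK LD1_c22 LD2_c47 LD3_c56))))
theorem f524052 : Led Lsl_at (LP (LK LD1_c7 LD2_c8 LD3_c47)) = (LP (LK LD1_c13 LD2_c32 LD3_c0)) :=
  Lre_a IH (LK LD1_c7 LD2_c8 LD3_c47) (LK LD1_c13 LD2_c32 LD3_c0) Lrfl Lrfl
theorem f524019 : Led Lsl_bt (LP (LK LD1_c3 LD2_c33 LD3_c55)) = (LP (LK LD1_c7 LD2_c8 LD3_c47)) :=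
  Lre_b IH (LK LD1_c3 LD2_c33 LD3_c55) (LK LD1_c7 LD2_c8 LD3_c47) Lrfl Lrfl
theorem f524594 : Led Lsl_at (LP (LK LD1_c22 LD2_c47 LD3_c56)) = (LP (LK LD1_c13 LD2_c28 LD3_c20)) :=
  Lre_a IH (LK LD1_c22 LD2_c47 LD3_c56) (LK LD1_c13 LD2_c28 LD3_c20) Lrfl Lrfl
theorem f524552 : Led Lsl_bt (LP (LK LD1_c13 LD2_c28 LD3_c20)) = (LP (LK LD1_c7 LD2_c6 LD3_c37)) :=
  Lre_b IH (LK LD1_c13 LD2_c28 LD3_c20) (LK LD1_c7 LD2_c6 LD3_c37) Lrfl Lrfl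
theorem f524935 : Led Lsl_af (LP (LK LD1_c3 LD2_c33 LD3_c55)) = (LP (LK LD1_c7 LD2_c6 LD3_c37)) :=
  Lgr Lrot36 (Lpr_bt (f524019 IH) (Lpr_at (f524052 IH) (Lpr_bt (f524933 IH) (Lpr_at (f524594 IH) (Lpr_bt (f524552 IH) (Lpn (LP (LK LD1_c7 LD2_c6 LD3_c37))))))))
theorem f524941 : Led Lsl_at (LP (LK LD1_c7 LD2_c6 LD3_c35)) = (LP (LK LD1_c3 LD2_c33 LD3_c51)) :=
  Lgr Lrot66 (Lpe (K34.f524028 IH) (Lpr_af (f524935 IH) (Lpe (f524562 IH) (Lpn (LP (LK LD1_c3 LD2_c33 LD3_c51))))))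
theorem f482704 : Led Lsl_et (LP (LK LD1_c13 LD2_c28 LD3_c17)) = (LP (LK LD1_c7 LD2_c6 LD3_c35)) :=
  Lre_e IH (LK LD1_c13 LD2_c28 LD3_c17) (LK LD1_c7 LD2_c6 LD3_c35) Lrfl Lrfl
theorem f524557 : Led Lsl_et (LP (LK LD1_c3 LD2_c33 LD3_c51)) = (LP (LK LD1_c7 LD2_c8 LD3_c42)) :=
  Lre_e IH (LK LD1_c3 LD2_c33 LD3_c51) (LK LD1_c7 LD2_c8 LD3_c42) Lrfl Lrfl
theorem f525008 : Led Lsl_af (LP (LK LD1_c13 LD2_c28 LD3_c17)) = (LP (LK LD1_c7 LD2_c8 LD3_c42)) :=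
  Lgr Lrot50 (Lpr_et (f482704 IH) (Lpr_at (f524941 IH) (Lpr_et (f524557 IH) (Lpn (LP (LK LD1_c7 LD2_c8 LD3_c42))))))
theorem f482714 : Led Lsl_ft (LP (LK LD1_c13 LD2_c28 LD3_c17)) = (LP (LK LD1_c22 LD2_c47 LD3_c54)) :=
  Lre_f IH (LK LD1_c13 LD2_c28 LD3_c17) (LK LD1_c22 LD2_c47 LD3_c54) Lrfl Lrfl
theorem f524569 : Led Lsl_ft (LP (LK LD1_c13 LD2_c31 LD3_c58)) = (LP (LK LD1_c7 LD2_c8 LD3_c42)) :=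
  Lre_f IH (LK LD1_c13 LD2_c31 LD3_c58) (LK LD1_c7 LD2_c8 LD3_c42) Lrfl Lrfl
theorem f525195 : Led Lsl_at (LP (LK LD1_c22 LD2_c47 LD3_c54)) = (LP (LK LD1_c13 LD2_c31 LD3_c58)) :=
  Lgr Lrot66 (Lpe (f482714 IH) (Lpr_af (f525008 IH) (Lpe (f524569 IH) (Lpn (LP (LK LD1_c13 LD2_c31 LD3_c58))))))
theorem f17543 : Led Lsl_dt (LP (LK LD1_c7 LD2_c6 LD3_c35)) = (LP (LK LD1_c3 LD2_c32 LD3_c49)) :=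
  Lre_d IH (LK LD1_c7 LD2_c6 LD3_c35) (LK LD1_c3 LD2_c32 LD3_c49) Lrfl Lrfl
theorem f482687 : Led Lsl_et (LP (LK LD1_c3 LD2_c38 LD3_c45)) = (LP (LK LD1_c7 LD2_c17 LD3_c58)) :=
  Lre_e IH (LK LD1_c3 LD2_c38 LD3_c45) (LK LD1_c7 LD2_c17 LD3_c58) Lrfl Lrfl
theorem f482705 : Led Lsl_df (LP (LK LD1_c13 LD2_c28 LD3_c17)) = (LP (LK LD1_c7 LD2_c17 LD3_c58)) :=
  Lgr Lrot70 (Lpr_et (f482704 IH) (Lpr_dt (f17543 IH) (Lpr_et (K29.f482697 IH) (Lpe (K29.f482681 IH) (Lpr_et (f482687 IH) (Lpn (LP (LK LD1_c7 LD2_c17 LD3_c58))))))))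
theorem f482715 : Led Lsl_ft (LP (LK LD1_c13 LD2_c48 LD3_c44)) = (LP (LK LD1_c7 LD2_c17 LD3_c58)) :=
  Lre_f IH (LK LD1_c13 LD2_c48 LD3_c44) (LK LD1_c7 LD2_c17 LD3_c58) Lrfl Lrfl
theorem f482716 : Led Lsl_dt (LP (LK LD1_c22 LD2_c47 LD3_c54)) = (LP (LK LD1_c13 LD2_c48 LD3_c44)) :=
  Lgr Lrot60 (Lpe (f482714 IH) (Lpr_df (f482705 IH) (Lpe (f482715 IH) (Lpn (LP (LK LD1_c13 LD2_c48 LD3_c44))))))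
theorem f482744 : Led Lsl_df (LP (LK LD1_c22 LD2_c47 LD3_c54)) = (LP (LK LD1_c13 LD2_c48 LD3_c44)) :=
  Lgr Lrot38 (Lpr_dt (f482716 IH) (Lpn (LP (LK LD1_c13 LD2_c48 LD3_c44))))
theorem f524575 : Led Lsl_dt (LP (LK LD1_c13 LD2_c31 LD3_c58)) = (LP (LK LD1_c22 LD2_c53 LD3_c46)) :=
  Lre_d IH (LK LD1_c13 LD2_c31 LD3_c58) (LK LD1_c22 LD2_c53 LD3_c46) Lrfl Lrfl
theorem f525207 : Led Lsl_af (LP (LK LD1_c13 LD2_c48 LD3_c44)) = (LP (LK LD1_c22 LD2_c53 LD3_c46)) :=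
  Lgr Lrot117 (Lpe (f482744 IH) (Lpr_at (f525195 IH) (Lpr_dt (f524575 IH) (Lpn (LP (LK LD1_c22 LD2_c53 LD3_c46))))))
theorem f482743 : Led Lsl_ct (LP (LK LD1_c13 LD2_c48 LD3_c44)) = (LP (LK LD1_c23 LD2_c17 LD3_c0)) :=
  Lre_c IH (LK LD1_c13 LD2_c48 LD3_c44) (LK LD1_c23 LD2_c17 LD3_c0) Lrfl Lrfl
theorem f525214 : Led Lsl_ct (LP (LK LD1_c30 LD2_c47 LD3_c6)) = (LP (LK LD1_c22 LD2_c53 LD3_c46)) :=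
  Lre_c IH (LK LD1_c30 LD2_c47 LD3_c6) (LK LD1_c22 LD2_c53 LD3_c46) Lrfl Lrfl
theorem f525281 : Led Lsl_at (LP (LK LD1_c23 LD2_c17 LD3_c0)) = (LP (LK LD1_c30 LD2_c47 LD3_c6)) :=
  Lgr Lrot107 (Lpe (f482743 IH) (Lpr_af (f525207 IH) (Lpe (f525214 IH) (Lpn (LP (LK LD1_c30 LD2_c47 LD3_c6))))))
theorem f525293 : Led Lsl_ft (LP (LK LD1_c13 LD2_c48 LD3_c41)) = (LP (LK LD1_c23 LD2_c17 LD3_c0)) :=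
  Lre_f IH (LK LD1_c13 LD2_c48 LD3_c41) (LK LD1_c23 LD2_c17 LD3_c0) Lrfl Lrfl
theorem f525294 : Led Lsl_ft (LP (LK LD1_c30 LD2_c47 LD3_c6)) = (LP (LK LD1_c22 LD2_c53 LD3_c45)) :=
  Lre_f IH (LK LD1_c30 LD2_c47 LD3_c6) (LK LD1_c22 LD2_c53 LD3_c45) Lrfl Lrfl
theorem f525295 : Led Lsl_af (LP (LK LD1_c13 LD2_c48 LD3_c41)) = (LP (LK LD1_c22 LD2_c53 LD3_c45)) :=
  Lgr Lrot45 (Lpr_ft (f525293 IH) (Lpr_at (f525281 IH) (Lpr_ft (f525294 IH) (Lpn (LP (LK LD1_c22 LD2_c53 LD3_c45))))))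
theorem f476458 : Led Lsl_et (LP (LK LD1_c13 LD2_c48 LD3_c41)) = (LP (LK LD1_c7 LD2_c17 LD3_c57)) :=
  Lre_e IH (LK LD1_c13 LD2_c48 LD3_c41) (LK LD1_c7 LD2_c17 LD3_c57) Lrfl Lrfl
theorem f483236 : Led Lsl_et (LP (LK LD1_c13 LD2_c31 LD3_c59)) = (LP (LK LD1_c22 LD2_c53 LD3_c45)) :=
  Lre_e IH (LK LD1_c13 LD2_c31 LD3_c59) (LK LD1_c22 LD2_c53 LD3_c45) Lrfl Lrfl
theorem f525301 : Led Lsl_at (LP (LK LD1_c7 LD2_c17 LD3_c57)) = (LP (LK LD1_c13 LD2_c31 LD3_c59)) :=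
  Lgr Lrot80 (Lpe (f476458 IH) (Lpr_af (f525295 IH) (Lpe (f483236 IH) (Lpn (LP (LK LD1_c13 LD2_c31 LD3_c59))))))
theorem f525309 : Led Lsl_ff (LP (LK LD1_c7 LD2_c17 LD3_c57)) = (LP (LK LD1_c13 LD2_c46 LD3_c52)) :=
  Lgr Lrot52 (Lpr_at (f525301 IH) (Lpe (K34.f483223 IH) (Lpe (K30.f467383 IH) (Lpn (LP (LK LD1_c13 LD2_c46 LD3_c52))))))
theorem f525318 : Led Lsl_ft (LP (LK LD1_c7 LD2_c17 LD3_c57)) = (LP (LK LD1_c13 LD2_c46 LD3_c52)) :=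
  Lgr Lrot48 (Lpr_ff (f525309 IH) (Lpn (LP (LK LD1_c13 LD2_c46 LD3_c52))))
theorem f525330 : Led Lsl_af (LP (LK LD1_c7 LD2_c17 LD3_c54)) = (LP (LK LD1_c13 LD2_c46 LD3_c52)) :=
  Lgr Lrot31 (Lpr_gf (K29.f482800 IH) (Lpr_gf (K29.f476451 IH) (Lpr_ft (f525318 IH) (Lpn (LP (LK LD1_c13 LD2_c46 LD3_c52))))))
theorem f525305 : Led Lsl_af (LP (LK LD1_c7 LD2_c17 LD3_c57)) = (LP (LK LD1_c13 LD2_c31 LD3_c59)) :=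
  Lgr Lrot0 (Lpr_at (f525301 IH) (Lpn (LP (LK LD1_c13 LD2_c31 LD3_c59))))
theorem f525340 : Led Lsl_ft (LP (LK LD1_c7 LD2_c17 LD3_c54)) = (LP (LK LD1_c13 LD2_c31 LD3_c59)) :=
  Lgr Lrot101 (Lpr_af (f525330 IH) (Lpe (f525318 IH) (Lpr_af (f525305 IH) (Lpn (LP (LK LD1_c13 LD2_c31 LD3_c59))))))
theorem f525352 : Led Lsl_ff (LP (LK LD1_c7 LD2_c17 LD3_c54)) = (LP (LK LD1_c13 LD2_c31 LD3_c59)) :=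
  Lgr Lrot3 (Lpr_ft (f525340 IH) (Lpn (LP (LK LD1_c13 LD2_c31 LD3_c59))))
theorem f481452 : Led Lsl_cf (LP (LK LD1_c3 LD2_c29 LD3_c34)) = (LP (LK LD1_c1 LD2_c46 LD3_c17)) :=
  Lgr Lrot11 (Lpr_ct (K29.f481449 IH) (Lpn (LP (LK LD1_c1 LD2_c46 LD3_c17))))
theorem f482692 : Led Lsl_ct (LP (LK LD1_c3 LD2_c53 LD3_c11)) = (LP (LK LD1_c6 LD2_c58 LD3_c38)) :=
  Lgr Lrot15 (Lpr_ef (K29.f476416 IH) (Lpe (K34.f456068 IH) (Lpr_ef (K29.f482688 IH) (Lpn (LP (LK LD1_c6 LD2_c58 LD3_c38))))))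
theorem f476418 : Led Lsl_bt (LP (LK LD1_c3 LD2_c53 LD3_c11)) = (LP (LK LD1_c1 LD2_c53 LD3_c53)) :=
  Lgr Lrot119 (Lpr_ef (K29.f476416 IH) (Lpe (K34.f456064 IH) (Lpe (K29.f148240 IH) (Lpn (LP (LK LD1_c1 LD2_c53 LD3_c53))))))
theorem f476485 : Led Lsl_dt (LP (LK LD1_c3 LD2_c29 LD3_c35)) = (LP (LK LD1_c3 LD2_c53 LD3_c11)) :=
  Lgr Lrot79 (Lpr_bf (K29.f476428 IH) (Lpe (K29.f148241 IH) (Lpe (f476418 IH) (Lpn (LP (LK LD1_c3 LD2_c53 LD3_c11))))))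
theorem f476440 : Led Lsl_ct (LP (LK LD1_c7 LD2_c17 LD3_c48)) = (LP (LK LD1_c3 LD2_c38 LD3_c42)) :=
  Lre_c IH (LK LD1_c7 LD2_c17 LD3_c48) (LK LD1_c3 LD2_c38 LD3_c42) Lrfl Lrfl
theorem f482864 : Led Lsl_dt (LP (LK LD1_c7 LD2_c17 LD3_c54)) = (LP (LK LD1_c7 LD2_c17 LD3_c48)) :=
  Lgr Lrot173 (Lpe (K29.f5508 IH) (Lpr_df (K29.f482677 IH) (Lpe (K29.f482796 IH) (Lpr_df (K29.f473624 IH) (Lpr_cf (f481452 IH) (Lpe (K34.f4271 IH) (Lpe (K33.f462160 IH) (Lpr_df (K29.f482859 IH) (Lpe (K29.f4272 IH) (Lpr_df (K29.f482681 IH) (Lpe (f482692 IH) (Lpe (f476485 IH) (Lpr_cf (K29.f476435 IH) (Lpe (K29.f4400 IH) (Lpe (f476440 IH) (Lpn (LP (LK LD1_c7 LD2_c17 LD3_c48))))))))))))))))))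
theorem f483234 : Led Lsl_dt (LP (LK LD1_c13 LD2_c46 LD3_c45)) = (LP (LK LD1_c13 LD2_c31 LD3_c59)) :=
  Lgr Lrot42 (Lpr_df (K34.f483227 IH) (Lpn (LP (LK LD1_c13 LD2_c31 LD3_c59))))
theorem f525358 : Led Lsl_ft (LP (LK LD1_c7 LD2_c17 LD3_c48)) = (LP (LK LD1_c13 LD2_c46 LD3_c45)) :=
  Lgr Lrot54 (Lpe (f482864 IH) (Lpr_ff (f525352 IH) (Lpe (f483234 IH) (Lpn (LP (LK LD1_c13 LD2_c46 LD3_c45))))))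
theorem f482887 : Led Lsl_et (LP (LK LD1_c13 LD2_c48 LD3_c21)) = (LP (LK LD1_c7 LD2_c17 LD3_c48)) :=
  Lre_e IH (LK LD1_c13 LD2_c48 LD3_c21) (LK LD1_c7 LD2_c17 LD3_c48) Lrfl Lrfl
theorem f525442 : Led Lsl_ft (LP (LK LD1_c23 LD2_c16 LD3_c29)) = (LP (LK LD1_c13 LD2_c48 LD3_c21)) :=
  Lre_f IH (LK LD1_c23 LD2_c16 LD3_c29) (LK LD1_c13 LD2_c48 LD3_c21) Lrfl Lrfl
theorem f92582 : Led Lsl_et (LP (LK LD1_c3 LD2_c37 LD3_c14)) = (LP (LK LD1_c7 LD2_c14 LD3_c61)) :=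
  Lre_e IH (LK LD1_c3 LD2_c37 LD3_c14) (LK LD1_c7 LD2_c14 LD3_c61) Lrfl Lrfl
theorem f10556 : Led Lsl_dt (LP (LK LD1_c7 LD2_c14 LD3_c61)) = (LP (LK LD1_c13 LD2_c43 LD3_c7)) :=
  Lre_d IH (LK LD1_c7 LD2_c14 LD3_c61) (LK LD1_c13 LD2_c43 LD3_c7) Lrfl Lrfl
theorem f92583 : Led Lsl_ef (LP (LK LD1_c7 LD2_c16 LD3_c55)) = (LP (LK LD1_c13 LD2_c43 LD3_c7)) :=
  Lgr Lrot73 (Lpr_dt (K34.f4097 IH) (Lpr_et (K29.f92542 IH) (Lpr_dt (K28.f10670 IH) (Lpr_et (f92582 IH) (Lpr_dt (f10556 IH) (Lpn (LP (LK LD1_c13 LD2_c43 LD3_c7))))))))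
theorem f5311 : Led Lsl_ct (LP (LK LD1_c7 LD2_c16 LD3_c55)) = (LP (LK LD1_c13 LD2_c46 LD3_c45)) :=
  Lre_c IH (LK LD1_c7 LD2_c16 LD3_c55) (LK LD1_c13 LD2_c46 LD3_c45) Lrfl Lrfl
theorem f92589 : Led Lsl_ct (LP (LK LD1_c23 LD2_c9 LD3_c33)) = (LP (LK LD1_c13 LD2_c43 LD3_c7)) :=
  Lre_c IH (LK LD1_c23 LD2_c9 LD3_c33) (LK LD1_c13 LD2_c43 LD3_c7) Lrfl Lrfl
theorem f92590 : Led Lsl_et (LP (LK LD1_c13 LD2_c46 LD3_c45)) = (LP (LK LD1_c23 LD2_c9 LD3_c33)) :=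
  Lgr Lrot158 (Lpe (f5311 IH) (Lpr_ef (f92583 IH) (Lpe (f92589 IH) (Lpn (LP (LK LD1_c23 LD2_c9 LD3_c33))))))
theorem f92600 : Led Lsl_ft (LP (LK LD1_c23 LD2_c9 LD3_c33)) = (LP (LK LD1_c30 LD2_c55 LD3_c17)) :=
  Lre_f IH (LK LD1_c23 LD2_c9 LD3_c33) (LK LD1_c30 LD2_c55 LD3_c17) Lrfl Lrfl
theorem f525443 : Led Lsl_ef (LP (LK LD1_c23 LD2_c16 LD3_c29)) = (LP (LK LD1_c30 LD2_c55 LD3_c17)) :=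
  Lgr Lrot21 (Lpr_ft (f525442 IH) (Lpr_et (f482887 IH) (Lpr_ft (f525358 IH) (Lpr_et (f92590 IH) (Lpr_ft (f92600 IH) (Lpn (LP (LK LD1_c30 LD2_c55 LD3_c17))))))))
theorem f525450 : Led Lsl_et (LP (LK LD1_c23 LD2_c16 LD3_c29)) = (LP (LK LD1_c30 LD2_c55 LD3_c17)) :=
  Lgr Lrot87 (Lpr_ef (f525443 IH) (Lpn (LP (LK LD1_c30 LD2_c55 LD3_c17))))
theorem f525453 : Led Lsl_ct (LP (LK LD1_c13 LD2_c48 LD3_c25)) = (LP (LK LD1_c23 LD2_c16 LD3_c29)) :=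
  Lre_c IH (LK LD1_c13 LD2_c48 LD3_c25) (LK LD1_c23 LD2_c16 LD3_c29) Lrfl Lrfl
theorem f525454 : Led Lsl_ct (LP (LK LD1_c30 LD2_c55 LD3_c17)) = (LP (LK LD1_c23 LD2_c9 LD3_c34)) :=
  Lre_c IH (LK LD1_c30 LD2_c55 LD3_c17) (LK LD1_c23 LD2_c9 LD3_c34) Lrfl Lrfl
theorem f525455 : Led Lsl_ef (LP (LK LD1_c13 LD2_c48 LD3_c25)) = (LP (LK LD1_c23 LD2_c9 LD3_c34)) :=
  Lgr Lrot28 (Lpr_ct (f525453 IH) (Lpr_et (f525450 IH) (Lpr_ct (f525454 IH) (Lpn (LP (LK LD1_c23 LD2_c9 LD3_c34))))))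
theorem f525459 : Led Lsl_ft (LP (LK LD1_c13 LD2_c48 LD3_c25)) = (LP (LK LD1_c7 LD2_c17 LD3_c49)) :=
  Lre_f IH (LK LD1_c13 LD2_c48 LD3_c25) (LK LD1_c7 LD2_c17 LD3_c49) Lrfl Lrfl
theorem f481553 : Led Lsl_et (LP (LK LD1_c7 LD2_c17 LD3_c49)) = (LP (LK LD1_c3 LD2_c38 LD3_c42)) :=
  Lre_e IH (LK LD1_c7 LD2_c17 LD3_c49) (LK LD1_c3 LD2_c38 LD3_c42) Lrfl Lrfl
theorem f92618 : Led Lsl_ft (LP (LK LD1_c13 LD2_c43 LD3_c7)) = (LP (LK LD1_c23 LD2_c9 LD3_c34)) :=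
  Lre_f IH (LK LD1_c13 LD2_c43 LD3_c7) (LK LD1_c23 LD2_c9 LD3_c34) Lrfl Lrfl
theorem f10555 : Led Lsl_et (LP (LK LD1_c7 LD2_c14 LD3_c61)) = (LP (LK LD1_c3 LD2_c37 LD3_c14)) :=
  Lre_e IH (LK LD1_c7 LD2_c14 LD3_c61) (LK LD1_c3 LD2_c37 LD3_c14) Lrfl Lrfl
theorem f92539 : Led Lsl_dt (LP (LK LD1_c13 LD2_c43 LD3_c7)) = (LP (LK LD1_c7 LD2_c14 LD3_c61)) :=
  Lre_d IH (LK LD1_c13 LD2_c43 LD3_c7) (LK LD1_c7 LD2_c14 LD3_c61) Lrfl Lrfl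
theorem f92540 : Led Lsl_et (LP (LK LD1_c7 LD2_c16 LD3_c55)) = (LP (LK LD1_c13 LD2_c43 LD3_c7)) :=
  Lgr Lrot71 (Lpe (K33.f5310 IH) (Lpr_ef (K28.f92533 IH) (Lpe (K29.f10558 IH) (Lpe (f10555 IH) (Lpe (f92539 IH) (Lpn (LP (LK LD1_c13 LD2_c43 LD3_c7))))))))
theorem f525460 : Led Lsl_ft (LP (LK LD1_c3 LD2_c38 LD3_c42)) = (LP (LK LD1_c7 LD2_c16 LD3_c55)) :=
  Lgr Lrot86 (Lpe (f481553 IH) (Lpe (f525459 IH) (Lpr_ef (f525455 IH) (Lpe (f92618 IH) (Lpe (f92540 IH) (Lpn (LP (LK LD1_c7 LD2_c16 LD3_c55))))))))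
theorem f481546 : Led Lsl_bt (LP (LK LD1_c7 LD2_c17 LD3_c46)) = (LP (LK LD1_c3 LD2_c38 LD3_c42)) :=
  Lre_b IH (LK LD1_c7 LD2_c17 LD3_c46) (LK LD1_c3 LD2_c38 LD3_c42) Lrfl Lrfl
theorem f92585 : Led Lsl_bt (LP (LK LD1_c7 LD2_c16 LD3_c55)) = (LP (LK LD1_c13 LD2_c46 LD3_c44)) :=
  Lre_b IH (LK LD1_c7 LD2_c16 LD3_c55) (LK LD1_c13 LD2_c46 LD3_c44) Lrfl Lrfl
theorem f525465 : Led Lsl_ff (LP (LK LD1_c7 LD2_c17 LD3_c46)) = (LP (LK LD1_c13 LD2_c46 LD3_c44)) :=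
  Lgr Lrot25 (Lpr_bt (f481546 IH) (Lpr_ft (f525460 IH) (Lpr_bt (f92585 IH) (Lpn (LP (LK LD1_c13 LD2_c46 LD3_c44))))))
theorem f5368 : Led Lsl_dt (LP (LK LD1_c7 LD2_c17 LD3_c46)) = (LP (LK LD1_c3 LD2_c38 LD3_c41)) :=
  Lre_d IH (LK LD1_c7 LD2_c17 LD3_c46) (LK LD1_c3 LD2_c38 LD3_c41) Lrfl Lrfl
theorem f92603 : Led Lsl_dt (LP (LK LD1_c7 LD2_c16 LD3_c54)) = (LP (LK LD1_c13 LD2_c46 LD3_c44)) :=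
  Lre_d IH (LK LD1_c7 LD2_c16 LD3_c54) (LK LD1_c13 LD2_c46 LD3_c44) Lrfl Lrfl
theorem f525468 : Led Lsl_ft (LP (LK LD1_c3 LD2_c38 LD3_c41)) = (LP (LK LD1_c7 LD2_c16 LD3_c54)) :=
  Lgr Lrot54 (Lpe (f5368 IH) (Lpr_ff (f525465 IH) (Lpe (f92603 IH) (Lpn (LP (LK LD1_c7 LD2_c16 LD3_c54))))))
theorem f5364 : Led Lsl_ct (LP (LK LD1_c7 LD2_c17 LD3_c45)) = (LP (LK LD1_c3 LD2_c38 LD3_c41)) :=
  Lre_c IH (LK LD1_c7 LD2_c17 LD3_c45) (LK LD1_c3 LD2_c38 LD3_c41) Lrfl Lrfl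
theorem f456471 : Led Lsl_bt (LP (LK LD1_c3 LD2_c41 LD3_c48)) = (LP (LK LD1_c1 LD2_c47 LD3_c47)) :=
  Lre_b IH (LK LD1_c3 LD2_c41 LD3_c48) (LK LD1_c1 LD2_c47 LD3_c47) Lrfl Lrfl
theorem f92535 : Led Lsl_bt (LP (LK LD1_c3 LD2_c38 LD3_c16)) = (LP (LK LD1_c7 LD2_c16 LD3_c54)) :=
  Lre_b IH (LK LD1_c3 LD2_c38 LD3_c16) (LK LD1_c7 LD2_c16 LD3_c54) Lrfl Lrfl
theorem f456472 : Led Lsl_cf (LP (LK LD1_c3 LD2_c41 LD3_c48)) = (LP (LK LD1_c7 LD2_c16 LD3_c54)) :=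
  Lgr Lrot97 (Lpr_bt (f456471 IH) (Lpr_ct (K29.f4813 IH) (Lpr_bt (K29.f456470 IH) (Lpr_ct (K28.f456468 IH) (Lpr_bt (f92535 IH) (Lpn (LP (LK LD1_c7 LD2_c16 LD3_c54))))))))
theorem f525479 : Led Lsl_ff (LP (LK LD1_c7 LD2_c17 LD3_c45)) = (LP (LK LD1_c3 LD2_c41 LD3_c48)) :=
  Lgr Lrot23 (Lpr_ct (f5364 IH) (Lpr_ft (f525468 IH) (Lpe (f456472 IH) (Lpn (LP (LK LD1_c3 LD2_c41 LD3_c48))))))
theorem f525487 : Led Lsl_ft (LP (LK LD1_c7 LD2_c17 LD3_c45)) = (LP (LK LD1_c3 LD2_c41 LD3_c48)) :=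
  Lgr Lrot48 (Lpr_ff (f525479 IH) (Lpn (LP (LK LD1_c3 LD2_c41 LD3_c48))))
theorem f476482 : Led Lsl_dt (LP (LK LD1_c13 LD2_c48 LD3_c12)) = (LP (LK LD1_c7 LD2_c17 LD3_c45)) :=
  Lre_d IH (LK LD1_c13 LD2_c48 LD3_c12) (LK LD1_c7 LD2_c17 LD3_c45) Lrfl Lrfl
theorem f456516 : Led Lsl_dt (LP (LK LD1_c3 LD2_c41 LD3_c48)) = (LP (LK LD1_c7 LD2_c24 LD3_c18)) :=
  Lre_d IH (LK LD1_c3 LD2_c41 LD3_c48) (LK LD1_c7 LD2_c24 LD3_c18) Lrfl Lrfl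
theorem f525495 : Led Lsl_ff (LP (LK LD1_c13 LD2_c48 LD3_c12)) = (LP (LK LD1_c7 LD2_c24 LD3_c18)) :=
  Lgr Lrot19 (Lpr_dt (f476482 IH) (Lpr_ft (f525487 IH) (Lpr_dt (f456516 IH) (Lpn (LP (LK LD1_c7 LD2_c24 LD3_c18))))))
theorem f5292 : Led Lsl_bt (LP (LK LD1_c3 LD2_c38 LD3_c41)) = (LP (LK LD1_c1 LD2_c46 LD3_c18)) :=
  Lre_b IH (LK LD1_c3 LD2_c38 LD3_c41) (LK LD1_c1 LD2_c46 LD3_c18) Lrfl Lrfl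
theorem f476449 : Led Lsl_bt (LP (LK LD1_c3 LD2_c40 LD3_c44)) = (LP (LK LD1_c7 LD2_c17 LD3_c45)) :=
  Lgr Lrot128 (Lpe (K29.f4536 IH) (Lpe (K29.f476426 IH) (Lpr_cf (K29.f476435 IH) (Lpe (f5292 IH) (Lpe (f5364 IH) (Lpn (LP (LK LD1_c7 LD2_c17 LD3_c45))))))))
theorem f148251 : Led Lsl_dt (LP (LK LD1_c7 LD2_c21 LD3_c45)) = (LP (LK LD1_c3 LD2_c40 LD3_c44)) :=
  Lre_d IH (LK LD1_c7 LD2_c21 LD3_c45) (LK LD1_c3 LD2_c40 LD3_c44) Lrfl Lrfl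
theorem f5363 : Led Lsl_dt (LP (LK LD1_c7 LD2_c17 LD3_c45)) = (LP (LK LD1_c13 LD2_c48 LD3_c12)) :=
  Lre_d IH (LK LD1_c7 LD2_c17 LD3_c45) (LK LD1_c13 LD2_c48 LD3_c12) Lrfl Lrfl
theorem f476461 : Led Lsl_bf (LP (LK LD1_c7 LD2_c21 LD3_c45)) = (LP (LK LD1_c13 LD2_c48 LD3_c12)) :=
  Lgr Lrot93 (Lpr_dt (f148251 IH) (Lpr_bt (f476449 IH) (Lpr_dt (f5363 IH) (Lpn (LP (LK LD1_c13 LD2_c48 LD3_c12))))))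
theorem f483631 : Led Lsl_bt (LP (LK LD1_c3 LD2_c41 LD3_c49)) = (LP (LK LD1_c7 LD2_c24 LD3_c18)) :=
  Lre_b IH (LK LD1_c3 LD2_c41 LD3_c49) (LK LD1_c7 LD2_c24 LD3_c18) Lrfl Lrfl
theorem f525500 : Led Lsl_ft (LP (LK LD1_c7 LD2_c21 LD3_c45)) = (LP (LK LD1_c3 LD2_c41 LD3_c49)) :=
  Lgr Lrot75 (Lpr_bf (f476461 IH) (Lpr_ff (f525495 IH) (Lpe (f483631 IH) (Lpn (LP (LK LD1_c3 LD2_c41 LD3_c49))))))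
theorem f525510 : Led Lsl_af (LP (LK LD1_c7 LD2_c21 LD3_c44)) = (LP (LK LD1_c3 LD2_c41 LD3_c49)) :=
  Lgr Lrot109 (Lpe (K34.f484000 IH) (Lpe (K34.f485166 IH) (Lpr_cf (K34.f483474 IH) (Lpe (K33.f148254 IH) (Lpe (K30.f148253 IH) (Lpr_df (K29.f148247 IH) (Lpe (K34.f4837 IH) (Lpe (f148251 IH) (Lpr_ft (f525500 IH) (Lpn (LP (LK LD1_c3 LD2_c41 LD3_c49))))))))))))
theorem f483491 : Led Lsl_dt (LP (LK LD1_c7 LD2_c21 LD3_c44)) = (LP (LK LD1_c3 LD2_c40 LD3_c43)) :=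
  Lre_d IH (LK LD1_c7 LD2_c21 LD3_c44) (LK LD1_c3 LD2_c40 LD3_c43) Lrfl Lrfl
theorem f525516 : Led Lsl_at (LP (LK LD1_c3 LD2_c40 LD3_c43)) = (LP (LK LD1_c1 LD2_c47 LD3_c47)) :=
  Lgr Lrot51 (Lpe (f483491 IH) (Lpr_af (f525510 IH) (Lpe (K34.f483556 IH) (Lpn (LP (LK LD1_c1 LD2_c47 LD3_c47))))))
theorem f525570 : Led Lsl_ff (LP (LK LD1_c3 LD2_c40 LD3_c43)) = (LP (LK LD1_c1 LD2_c47 LD3_c51)) :=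
  Lgr Lrot52 (Lpr_at (f525516 IH) (Lpe (K29.f481690 IH) (Lpe (K29.f483588 IH) (Lpn (LP (LK LD1_c1 LD2_c47 LD3_c51))))))
theorem f525576 : Led Lsl_ft (LP (LK LD1_c7 LD2_c21 LD3_c44)) = (LP (LK LD1_c3 LD2_c41 LD3_c57)) :=
  Lgr Lrot54 (Lpe (K34.f483997 IH) (Lpr_ff (f525570 IH) (Lpe (K29.f457173 IH) (Lpn (LP (LK LD1_c3 LD2_c41 LD3_c57))))))
theorem f525587 : Led Lsl_ff (LP (LK LD1_c7 LD2_c21 LD3_c44)) = (LP (LK LD1_c3 LD2_c41 LD3_c57)) :=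
  Lgr Lrot3 (Lpr_ft (f525576 IH) (Lpn (LP (LK LD1_c3 LD2_c41 LD3_c57))))
theorem f485181 : Led Lsl_bt (LP (LK LD1_c7 LD2_c21 LD3_c44)) = (LP (LK LD1_c13 LD2_c55 LD3_c9)) :=
  Lre_b IH (LK LD1_c7 LD2_c21 LD3_c44) (LK LD1_c13 LD2_c55 LD3_c9) Lrfl Lrfl
theorem f517607 : Led Lsl_bt (LP (LK LD1_c7 LD2_c24 LD3_c35)) = (LP (LK LD1_c3 LD2_c41 LD3_c57)) :=
  Lre_b IH (LK LD1_c7 LD2_c24 LD3_c35) (LK LD1_c3 LD2_c41 LD3_c57) Lrfl Lrfl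
theorem f525591 : Led Lsl_ft (LP (LK LD1_c13 LD2_c55 LD3_c9)) = (LP (LK LD1_c7 LD2_c24 LD3_c35)) :=
  Lgr Lrot75 (Lpe (f485181 IH) (Lpr_ff (f525587 IH) (Lpe (f517607 IH) (Lpn (LP (LK LD1_c7 LD2_c24 LD3_c35))))))
theorem f483509 : Led Lsl_dt (LP (LK LD1_c7 LD2_c21 LD3_c43)) = (LP (LK LD1_c13 LD2_c55 LD3_c9)) :=
  Lre_d IH (LK LD1_c7 LD2_c21 LD3_c43) (LK LD1_c13 LD2_c55 LD3_c9) Lrfl Lrfl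
theorem f478496 : Led Lsl_dt (LP (LK LD1_c7 LD2_c24 LD3_c35)) = (LP (LK LD1_c3 LD2_c41 LD3_c56)) :=
  Lre_d IH (LK LD1_c7 LD2_c24 LD3_c35) (LK LD1_c3 LD2_c41 LD3_c56) Lrfl Lrfl
theorem f525699 : Led Lsl_ff (LP (LK LD1_c7 LD2_c21 LD3_c43)) = (LP (LK LD1_c3 LD2_c41 LD3_c56)) :=
  Lgr Lrot19 (Lpr_dt (f483509 IH) (Lpr_ft (f525591 IH) (Lpr_dt (f478496 IH) (Lpn (LP (LK LD1_c3 LD2_c41 LD3_c56))))))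
theorem f483497 : Led Lsl_cf (LP (LK LD1_c1 LD2_c49 LD3_c36)) = (LP (LK LD1_c3 LD2_c25 LD3_c47)) :=
  Lgr Lrot11 (Lpr_ct (K34.f483492 IH) (Lpn (LP (LK LD1_c3 LD2_c25 LD3_c47))))
theorem f459505 : Led Lsl_bt (LP (LK LD1_c3 LD2_c40 LD3_c43)) = (LP (LK LD1_c7 LD2_c21 LD3_c43)) :=
  Lre_b IH (LK LD1_c3 LD2_c40 LD3_c43) (LK LD1_c7 LD2_c21 LD3_c43) Lrfl Lrfl
theorem f483503 : Led Lsl_ct (LP (LK LD1_c7 LD2_c21 LD3_c43)) = (LP (LK LD1_c6 LD2_c53 LD3_c28)) :=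
  Lgr Lrot83 (Lpe (f459505 IH) (Lpe (K29.f4535 IH) (Lpe (K34.f483487 IH) (Lpr_cf (f483497 IH) (Lpe (K34.f115929 IH) (Lpn (LP (LK LD1_c6 LD2_c53 LD3_c28))))))))
theorem f478488 : Led Lsl_ct (LP (LK LD1_c7 LD2_c24 LD3_c30)) = (LP (LK LD1_c3 LD2_c41 LD3_c56)) :=
  Lre_c IH (LK LD1_c7 LD2_c24 LD3_c30) (LK LD1_c3 LD2_c41 LD3_c56) Lrfl Lrfl
theorem f525703 : Led Lsl_ft (LP (LK LD1_c6 LD2_c53 LD3_c28)) = (LP (LK LD1_c7 LD2_c24 LD3_c30)) :=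
  Lgr Lrot4 (Lpe (f483503 IH) (Lpr_ff (f525699 IH) (Lpe (f478488 IH) (Lpn (LP (LK LD1_c7 LD2_c24 LD3_c30))))))
theorem f525709 : Led Lsl_ff (LP (LK LD1_c6 LD2_c53 LD3_c28)) = (LP (LK LD1_c7 LD2_c24 LD3_c30)) :=
  Lgr Lrot3 (Lpr_ft (f525703 IH) (Lpn (LP (LK LD1_c7 LD2_c24 LD3_c30))))
theorem f95124 : Led Lsl_dt (LP (LK LD1_c6 LD2_c53 LD3_c28)) = (LP (LK LD1_c13 LD2_c5 LD3_c54)) :=
  Lre_d IH (LK LD1_c6 LD2_c53 LD3_c28) (LK LD1_c13 LD2_c5 LD3_c54) Lrfl Lrfl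
theorem f478551 : Led Lsl_dt (LP (LK LD1_c14 LD2_c0 LD3_c55)) = (LP (LK LD1_c7 LD2_c24 LD3_c30)) :=
  Lre_d IH (LK LD1_c14 LD2_c0 LD3_c55) (LK LD1_c7 LD2_c24 LD3_c30) Lrfl Lrfl
theorem f525713 : Led Lsl_ft (LP (LK LD1_c13 LD2_c5 LD3_c54)) = (LP (LK LD1_c14 LD2_c0 LD3_c55)) :=
  Lgr Lrot54 (Lpe (f95124 IH) (Lpr_ff (f525709 IH) (Lpe (f478551 IH) (Lpn (LP (LK LD1_c14 LD2_c0 LD3_c55))))))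
theorem f95106 : Led Lsl_et (LP (LK LD1_c22 LD2_c16 LD3_c59)) = (LP (LK LD1_c13 LD2_c5 LD3_c54)) :=
  Lre_e IH (LK LD1_c22 LD2_c16 LD3_c59) (LK LD1_c13 LD2_c5 LD3_c54) Lrfl Lrfl
theorem f95101 : Led Lsl_ft (LP (LK LD1_c30 LD2_c24 LD3_c10)) = (LP (LK LD1_c22 LD2_c16 LD3_c59)) :=
  Lre_f IH (LK LD1_c30 LD2_c24 LD3_c10) (LK LD1_c22 LD2_c16 LD3_c59) Lrfl Lrfl
theorem f478565 : Led Lsl_et (LP (LK LD1_c14 LD2_c0 LD3_c55)) = (LP (LK LD1_c23 LD2_c33 LD3_c33)) :=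
  Lre_e IH (LK LD1_c14 LD2_c0 LD3_c55) (LK LD1_c23 LD2_c33 LD3_c33) Lrfl Lrfl
theorem f478555 : Led Lsl_ft (LP (LK LD1_c23 LD2_c33 LD3_c33)) = (LP (LK LD1_c31 LD2_c6 LD3_c45)) :=
  Lre_f IH (LK LD1_c23 LD2_c33 LD3_c33) (LK LD1_c31 LD2_c6 LD3_c45) Lrfl Lrfl
theorem f525719 : Led Lsl_ef (LP (LK LD1_c30 LD2_c24 LD3_c10)) = (LP (LK LD1_c31 LD2_c6 LD3_c45)) :=
  Lgr Lrot21 (Lpr_ft (f95101 IH) (Lpr_et (f95106 IH) (Lpr_ft (f525713 IH) (Lpr_et (f478565 IH) (Lpr_ft (f478555 IH) (Lpn (LP (LK LD1_c31 LD2_c6 LD3_c45))))))))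
theorem f525723 : Led Lsl_et (LP (LK LD1_c30 LD2_c24 LD3_c10)) = (LP (LK LD1_c31 LD2_c6 LD3_c45)) :=
  Lgr Lrot87 (Lpr_ef (f525719 IH) (Lpn (LP (LK LD1_c31 LD2_c6 LD3_c45))))
theorem f95094 : Led Lsl_bt (LP (LK LD1_c22 LD2_c17 LD3_c4)) = (LP (LK LD1_c30 LD2_c24 LD3_c10)) :=
  Lre_b IH (LK LD1_c22 LD2_c17 LD3_c4) (LK LD1_c30 LD2_c24 LD3_c10) Lrfl Lrfl
theorem f478534 : Led Lsl_bt (LP (LK LD1_c31 LD2_c6 LD3_c45)) = (LP (LK LD1_c23 LD2_c33 LD3_c38)) :=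
  Lre_b IH (LK LD1_c31 LD2_c6 LD3_c45) (LK LD1_c23 LD2_c33 LD3_c38) Lrfl Lrfl
theorem f525725 : Led Lsl_ef (LP (LK LD1_c22 LD2_c17 LD3_c4)) = (LP (LK LD1_c23 LD2_c33 LD3_c38)) :=
  Lgr Lrot29 (Lpr_bt (f95094 IH) (Lpr_et (f525723 IH) (Lpr_bt (f478534 IH) (Lpn (LP (LK LD1_c23 LD2_c33 LD3_c38))))))
theorem f95092 : Led Lsl_ft (LP (LK LD1_c22 LD2_c17 LD3_c4)) = (LP (LK LD1_c13 LD2_c5 LD3_c58)) :=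
  Lre_f IH (LK LD1_c22 LD2_c17 LD3_c4) (LK LD1_c13 LD2_c5 LD3_c58) Lrfl Lrfl
theorem f95050 : Led Lsl_et (LP (LK LD1_c13 LD2_c5 LD3_c58)) = (LP (LK LD1_c6 LD2_c53 LD3_c29)) :=
  Lre_e IH (LK LD1_c13 LD2_c5 LD3_c58) (LK LD1_c6 LD2_c53 LD3_c29) Lrfl Lrfl
theorem f478524 : Led Lsl_ft (LP (LK LD1_c14 LD2_c0 LD3_c58)) = (LP (LK LD1_c23 LD2_c33 LD3_c38)) :=
  Lre_f IH (LK LD1_c14 LD2_c0 LD3_c58) (LK LD1_c23 LD2_c33 LD3_c38) Lrfl Lrfl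
theorem f478489 : Led Lsl_et (LP (LK LD1_c7 LD2_c24 LD3_c31)) = (LP (LK LD1_c14 LD2_c0 LD3_c58)) :=
  Lre_e IH (LK LD1_c7 LD2_c24 LD3_c31) (LK LD1_c14 LD2_c0 LD3_c58) Lrfl Lrfl
theorem f525727 : Led Lsl_ft (LP (LK LD1_c6 LD2_c53 LD3_c29)) = (LP (LK LD1_c7 LD2_c24 LD3_c31)) :=
  Lgr Lrot86 (Lpe (f95050 IH) (Lpe (f95092 IH) (Lpr_ef (f525725 IH) (Lpe (f478524 IH) (Lpe (f478489 IH) (Lpn (LP (LK LD1_c7 LD2_c24 LD3_c31))))))))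
theorem f95034 : Led Lsl_et (LP (LK LD1_c0 LD2_c46 LD3_c14)) = (LP (LK LD1_c1 LD2_c39 LD3_c30)) :=
  Lre_e IH (LK LD1_c0 LD2_c46 LD3_c14) (LK LD1_c1 LD2_c39 LD3_c30) Lrfl Lrfl
theorem f95039 : Led Lsl_dt (LP (LK LD1_c3 LD2_c25 LD3_c47)) = (LP (LK LD1_c6 LD2_c53 LD3_c29)) :=
  Lre_d IH (LK LD1_c3 LD2_c25 LD3_c47) (LK LD1_c6 LD2_c53 LD3_c29) Lrfl Lrfl
theorem f468885 : Led Lsl_et (LP (LK LD1_c3 LD2_c27 LD3_c49)) = (LP (LK LD1_c1 LD2_c40 LD3_c27)) :=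
  Lre_e IH (LK LD1_c3 LD2_c27 LD3_c49) (LK LD1_c1 LD2_c40 LD3_c27) Lrfl Lrfl
theorem f468886 : Led Lsl_dt (LP (LK LD1_c3 LD2_c27 LD3_c49)) = (LP (LK LD1_c6 LD2_c57 LD3_c53)) :=
  Lre_d IH (LK LD1_c3 LD2_c27 LD3_c49) (LK LD1_c6 LD2_c57 LD3_c53) Lrfl Lrfl
theorem f468890 : Led Lsl_gt (LP (LK LD1_c6 LD2_c53 LD3_c29)) = (LP (LK LD1_c6 LD2_c57 LD3_c53)) :=
  Lgr Lrot139 (Lpe (f95039 IH) (Lpe (K34.f95035 IH) (Lpe (f95034 IH) (Lpr_dt (K3.f94222 IH) (Lpe (K3.f94626 IH) (Lpe (K3.f94985 IH) (Lpr_et (K24.f94989 IH) (Lpr_gf (K28.f468873 IH) (Lpe (f468885 IH) (Lpr_dt (f468886 IH) (Lpn (LP (LK LD1_c6 LD2_c57 LD3_c53)))))))))))))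
theorem f94305 : Led Lsl_ct (LP (LK LD1_c6 LD2_c53 LD3_c40)) = (LP (LK LD1_c3 LD2_c25 LD3_c52)) :=
  Lre_c IH (LK LD1_c6 LD2_c53 LD3_c40) (LK LD1_c3 LD2_c25 LD3_c52) Lrfl Lrfl
theorem f94306 : Led Lsl_dt (LP (LK LD1_c13 LD2_c6 LD3_c16)) = (LP (LK LD1_c6 LD2_c53 LD3_c40)) :=
  Lre_d IH (LK LD1_c13 LD2_c6 LD3_c16) (LK LD1_c6 LD2_c53 LD3_c40) Lrfl Lrfl
theorem f481868 : Led Lsl_gt (LP (LK LD1_c7 LD2_c1 LD3_c52)) = (LP (LK LD1_c13 LD2_c6 LD3_c16)) :=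
  Lgr Lrot49 (Lpe (K3.f19156 IH) (Lpe (K28.f467405 IH) (Lpe (K28.f5323 IH) (Lpq (K29.f481864 IH) (Lpe (K29.f455034 IH) (Lpr_dt (K4.f94241 IH) (Lpr_gt (K29.f94303 IH) (Lpr_dt (K33.f94304 IH) (Lpe (f94305 IH) (Lpe (f94306 IH) (Lpn (LP (LK LD1_c13 LD2_c6 LD3_c16)))))))))))))
theorem f484032 : Led Lsl_cf (LP (LK LD1_c7 LD2_c18 LD3_c33)) = (LP (LK LD1_c13 LD2_c6 LD3_c7)) :=
  Lgr Lrot11 (Lpr_ct (K29.f484024 IH) (Lpn (LP (LK LD1_c13 LD2_c6 LD3_c7))))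
theorem f94295 : Led Lsl_dt (LP (LK LD1_c1 LD2_c39 LD3_c30)) = (LP (LK LD1_c3 LD2_c25 LD3_c49)) :=
  Lre_d IH (LK LD1_c1 LD2_c39 LD3_c30) (LK LD1_c3 LD2_c25 LD3_c49) Lrfl Lrfl
theorem f102736 : Led Lsl_at (LP (LK LD1_c13 LD2_c3 LD3_c14)) = (LP (LK LD1_c6 LD2_c53 LD3_c35)) :=
  Lgr Lrot33 (Lpr_ff (K29.f102730 IH) (Lpr_dt (K29.f94293 IH) (Lpr_ct (K29.f94292 IH) (Lpr_dt (K6.f94291 IH) (Lpr_ct (K29.f94290 IH) (Lpr_dt (K4.f94241 IH) (Lpr_ct (K29.f94294 IH) (Lpr_dt (f94295 IH) (Lpr_ct (K29.f94296 IH) (Lpn (LP (LK LD1_c6 LD2_c53 LD3_c35))))))))))))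
theorem f102746 : Led Lsl_af (LP (LK LD1_c13 LD2_c6 LD3_c7)) = (LP (LK LD1_c13 LD2_c6 LD3_c8)) :=
  Lgr Lrot45 (Lpe (K29.f102730 IH) (Lpr_at (f102736 IH) (Lpr_ft (K29.f102717 IH) (Lpn (LP (LK LD1_c13 LD2_c6 LD3_c8))))))
theorem f102751 : Led Lsl_gt (LP (LK LD1_c6 LD2_c53 LD3_c35)) = (LP (LK LD1_c13 LD2_c6 LD3_c5)) :=
  Lre_g IH (LK LD1_c6 LD2_c53 LD3_c35) (LK LD1_c13 LD2_c6 LD3_c5) Lrfl Lrfl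
theorem f102752 : Led Lsl_gf (LP (LK LD1_c13 LD2_c6 LD3_c7)) = (LP (LK LD1_c13 LD2_c6 LD3_c5)) :=
  Lgr Lrot76 (Lpr_af (f102746 IH) (Lpe (K29.f102717 IH) (Lpr_gt (f102751 IH) (Lpn (LP (LK LD1_c13 LD2_c6 LD3_c5))))))
theorem f485865 : Led Lsl_ct (LP (LK LD1_c13 LD2_c6 LD3_c16)) = (LP (LK LD1_c13 LD2_c6 LD3_c5)) :=
  Lgr Lrot152 (Lpe (f481868 IH) (Lpe (K3.f19156 IH) (Lpr_gt (K34.f485861 IH) (Lpr_ct (f481876 IH) (Lpe (K29.f485764 IH) (Lpr_ct (K29.f455915 IH) (Lpe (K29.f467633 IH) (Lpr_cf (f484032 IH) (Lpr_gf (f102752 IH) (Lpn (LP (LK LD1_c13 LD2_c6 LD3_c5))))))))))))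
theorem f481870 : Led Lsl_dt (LP (LK LD1_c6 LD2_c53 LD3_c40)) = (LP (LK LD1_c13 LD2_c6 LD3_c16)) :=
  Lre_d IH (LK LD1_c6 LD2_c53 LD3_c40) (LK LD1_c13 LD2_c6 LD3_c16) Lrfl Lrfl
theorem f94308 : Led Lsl_ct (LP (LK LD1_c3 LD2_c25 LD3_c52)) = (LP (LK LD1_c6 LD2_c53 LD3_c40)) :=
  Lre_c IH (LK LD1_c3 LD2_c25 LD3_c52) (LK LD1_c6 LD2_c53 LD3_c40) Lrfl Lrfl
theorem f455913 : Led Lsl_ct (LP (LK LD1_c7 LD2_c18 LD3_c39)) = (LP (LK LD1_c3 LD2_c39 LD3_c8)) :=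
  Lre_c IH (LK LD1_c7 LD2_c18 LD3_c39) (LK LD1_c3 LD2_c39 LD3_c8) Lrfl Lrfl
theorem f485966 : Led Lsl_df (LP (LK LD1_c7 LD2_c18 LD3_c39)) = (LP (LK LD1_c13 LD2_c6 LD3_c5)) :=
  Lgr Lrot13 (Lpr_ct (f455913 IH) (Lpr_dt (f4037 IH) (Lpr_ct (K30.f4036 IH) (Lpe (K29.f450932 IH) (Lpr_ff (K29.f485766 IH) (Lpr_dt (K33.f94304 IH) (Lpr_ct (f94308 IH) (Lpr_dt (f481870 IH) (Lpr_ct (f485865 IH) (Lpn (LP (LK LD1_c13 LD2_c6 LD3_c5))))))))))))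
theorem f485969 : Led Lsl_dt (LP (LK LD1_c7 LD2_c18 LD3_c39)) = (LP (LK LD1_c13 LD2_c6 LD3_c5)) :=
  Lgr Lrot42 (Lpr_df (f485966 IH) (Lpn (LP (LK LD1_c13 LD2_c6 LD3_c5))))
theorem f95049 : Led Lsl_dt (LP (LK LD1_c6 LD2_c53 LD3_c29)) = (LP (LK LD1_c3 LD2_c25 LD3_c47)) :=
  Lre_d IH (LK LD1_c6 LD2_c53 LD3_c29) (LK LD1_c3 LD2_c25 LD3_c47) Lrfl Lrfl
theorem f468897 : Led Lsl_ct (LP (LK LD1_c6 LD2_c57 LD3_c53)) = (LP (LK LD1_c13 LD2_c13 LD3_c24)) :=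
  Lre_c IH (LK LD1_c6 LD2_c57 LD3_c53) (LK LD1_c13 LD2_c13 LD3_c24) Lrfl Lrfl
theorem f484101 : Led Lsl_gf (LP (LK LD1_c7 LD2_c18 LD3_c39)) = (LP (LK LD1_c13 LD2_c13 LD3_c24)) :=
  Lgr Lrot104 (Lpr_ct (f455913 IH) (Lpe (K34.f455907 IH) (Lpe (K28.f5323 IH) (Lpe (K29.f450938 IH) (Lpe (K29.f455916 IH) (Lpr_gf (K34.f484099 IH) (Lpe (f95049 IH) (Lpr_gt (f468890 IH) (Lpr_ct (f468897 IH) (Lpn (LP (LK LD1_c13 LD2_c13 LD3_c24))))))))))))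
theorem f468902 : Led Lsl_ct (LP (LK LD1_c13 LD2_c13 LD3_c24)) = (LP (LK LD1_c6 LD2_c57 LD3_c53)) :=
  Lre_c IH (LK LD1_c13 LD2_c13 LD3_c24) (LK LD1_c6 LD2_c57 LD3_c53) Lrfl Lrfl
theorem f102754 : Led Lsl_dt (LP (LK LD1_c6 LD2_c53 LD3_c31)) = (LP (LK LD1_c3 LD2_c25 LD3_c48)) :=
  Lre_d IH (LK LD1_c6 LD2_c53 LD3_c31) (LK LD1_c3 LD2_c25 LD3_c48) Lrfl Lrfl
theorem f485972 : Led Lsl_gt (LP (LK LD1_c6 LD2_c57 LD3_c53)) = (LP (LK LD1_c6 LD2_c53 LD3_c31)) :=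
  Lgr Lrot94 (Lpe (f468902 IH) (Lpe (f484101 IH) (Lpr_dt (f485969 IH) (Lpe (f102752 IH) (Lpr_dt (K29.f94293 IH) (Lpe (K29.f94296 IH) (Lpe (f94295 IH) (Lpe (K34.f94310 IH) (Lpe (f102754 IH) (Lpn (LP (LK LD1_c6 LD2_c53 LD3_c31))))))))))))
theorem f525731 : Led Lsl_af (LP (LK LD1_c6 LD2_c53 LD3_c31)) = (LP (LK LD1_c7 LD2_c24 LD3_c31)) :=
  Lgr Lrot31 (Lpe (f485972 IH) (Lpe (f468890 IH) (Lpr_ft (f525727 IH) (Lpn (LP (LK LD1_c7 LD2_c24 LD3_c31))))))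
theorem f478481 : Led Lsl_dt (LP (LK LD1_c3 LD2_c41 LD3_c53)) = (LP (LK LD1_c7 LD2_c24 LD3_c31)) :=
  Lre_d IH (LK LD1_c3 LD2_c41 LD3_c53) (LK LD1_c7 LD2_c24 LD3_c31) Lrfl Lrfl
theorem f525737 : Led Lsl_at (LP (LK LD1_c3 LD2_c25 LD3_c48)) = (LP (LK LD1_c3 LD2_c41 LD3_c53)) :=
  Lgr Lrot51 (Lpe (f102754 IH) (Lpr_af (f525731 IH) (Lpe (f478481 IH) (Lpn (LP (LK LD1_c3 LD2_c41 LD3_c53))))))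
theorem f525788 : Led Lsl_ff (LP (LK LD1_c3 LD2_c25 LD3_c48)) = (LP (LK LD1_c6 LD2_c51 LD3_c49)) :=
  Lgr Lrot52 (Lpr_at (f525737 IH) (Lpe (K29.f478477 IH) (Lpe (K29.f484114 IH) (Lpn (LP (LK LD1_c6 LD2_c51 LD3_c49))))))
theorem f481872 : Led Lsl_dt (LP (LK LD1_c3 LD2_c25 LD3_c48)) = (LP (LK LD1_c6 LD2_c53 LD3_c31)) :=
  Lre_d IH (LK LD1_c3 LD2_c25 LD3_c48) (LK LD1_c6 LD2_c53 LD3_c31) Lrfl Lrfl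
theorem f91181 : Led Lsl_dt (LP (LK LD1_c13 LD2_c3 LD3_c11)) = (LP (LK LD1_c6 LD2_c51 LD3_c49)) :=
  Lre_d IH (LK LD1_c13 LD2_c3 LD3_c11) (LK LD1_c6 LD2_c51 LD3_c49) Lrfl Lrfl
theorem f525792 : Led Lsl_ft (LP (LK LD1_c6 LD2_c53 LD3_c31)) = (LP (LK LD1_c13 LD2_c3 LD3_c11)) :=
  Lgr Lrot54 (Lpe (f481872 IH) (Lpr_ff (f525788 IH) (Lpe (f91181 IH) (Lpn (LP (LK LD1_c13 LD2_c3 LD3_c11))))))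
theorem f525794 : Led Lsl_af (LP (LK LD1_c6 LD2_c53 LD3_c29)) = (LP (LK LD1_c13 LD2_c3 LD3_c11)) :=
  Lgr Lrot45 (Lpr_ft (f525727 IH) (Lpe (f525731 IH) (Lpr_ft (f525792 IH) (Lpn (LP (LK LD1_c13 LD2_c3 LD3_c11))))))
theorem f95123 : Led Lsl_gt (LP (LK LD1_c13 LD2_c5 LD3_c56)) = (LP (LK LD1_c6 LD2_c53 LD3_c29)) :=
  Lre_g IH (LK LD1_c13 LD2_c5 LD3_c56) (LK LD1_c6 LD2_c53 LD3_c29) Lrfl Lrfl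
theorem f525803 : Led Lsl_gt (LP (LK LD1_c6 LD2_c53 LD3_c31)) = (LP (LK LD1_c13 LD2_c5 LD3_c56)) :=
  Lgr Lrot5 (Lpr_ft (f525792 IH) (Lpe (f525794 IH) (Lpe (f95123 IH) (Lpn (LP (LK LD1_c13 LD2_c5 LD3_c56))))))
theorem f455909 : Led Lsl_dt (LP (LK LD1_c0 LD2_c49 LD3_c58)) = K29.v672 :=
  Lgr Lrot42 (Lpr_df (K29.f455906 IH) (Lpn K29.v672))
theorem f485773 : Led Lsl_af K29.v739 = (LP (LK LD1_c1 LD2_c39 LD3_c31)) :=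
  Lgr Lrot45 (Lpe (K29.f457008 IH) (Lpr_at (K29.f450933 IH) (Lpr_ft (K34.f485771 IH) (Lpn (LP (LK LD1_c1 LD2_c39 LD3_c31))))))
theorem f491647 : Led Lsl_af (LP (LK LD1_c3 LD2_c25 LD3_c52)) = K29.v1133 :=
  Lgr Lrot117 (Lpr_dt (K33.f94314 IH) (Lpe (f485773 IH) (Lpqs (K29.f478889 IH) (Lpr_dt (K29.f491646 IH) (Lpn K29.v1133)))))
theorem f511464 : Led Lsl_gt K29.v672 = K33.v2272 :=
  Lgr Lrot5 (Lpr_ft (K33.f491655 IH) (Lpe (f491647 IH) (Lpr_gf (K33.f511463 IH) (Lpn K33.v2272))))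
theorem f90877 : Led Lsl_et (LP (LK LD1_c0 LD2_c46 LD3_c39)) = (LP (LK LD1_c1 LD2_c40 LD3_c25)) :=
  Lre_e IH (LK LD1_c0 LD2_c46 LD3_c39) (LK LD1_c1 LD2_c40 LD3_c25) Lrfl Lrfl
theorem f511386 : Led Lsl_df (LP (LK LD1_c3 LD2_c27 LD3_c41)) = K33.v2272 :=
  Lgr Lrot70 (Lpr_et (K33.f90878 IH) (Lpr_dt (K29.f19149 IH) (Lpr_et (f90877 IH) (Lpe (K2.f90867 IH) (Lpr_et (K33.f511384 IH) (Lpn K33.v2272))))))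
theorem f525805 : Led Lsl_df (LP (LK LD1_c6 LD2_c57 LD3_c36)) = (LP (LK LD1_c13 LD2_c5 LD3_c56)) :=
  Lgr Lrot84 (Lpe (K29.f468945 IH) (Lpr_df (f511386 IH) (Lpe (f511464 IH) (Lpe (f455909 IH) (Lpe (K29.f450938 IH) (Lpe (K29.f455916 IH) (Lpr_gt (K34.f485727 IH) (Lpr_dt (f481872 IH) (Lpr_gt (f525803 IH) (Lpn (LP (LK LD1_c13 LD2_c5 LD3_c56))))))))))))
theorem f628034 : Led Lsl_ct (LP (LK LD1_c13 LD2_c49 LD3_c57)) = (LP (LK LD1_c13 LD2_c5 LD3_c56)) :=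
  Lgr Lrot110 (Lpe (f484105 IH) (Lpe (f455908 IH) (Lpe (K34.f486011 IH) (Lpe (K34.f15325 IH) (Lpr_gt (f628033 IH) (Lpe (f628031 IH) (Lpe (K29.f491651 IH) (Lpr_ct (K29.f468945 IH) (Lpr_df (f525805 IH) (Lpn (LP (LK LD1_c13 LD2_c5 LD3_c56))))))))))))
theorem f628035 : Led Lsl_ct (LP (LK LD1_c13 LD2_c49 LD3_c57)) = (LP (LK LD1_c13 LD2_c5 LD3_c56)) :=
  Leop (Lpe (f628034 IH) (Lpn (LP (LK LD1_c13 LD2_c49 LD3_c57))))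
theorem seed_256 : LEOK LG_c (LK LD1_c13 LD2_c49 LD3_c57) :=
  Leoe_c (LK LD1_c13 LD2_c49 LD3_c57) (f628035 IH)
def v3943 : LQ := Led Lsl_ct K29.v1136
theorem f628172 : Led Lsl_ct K29.v1136 = v3943 :=
  Lrfl
theorem f12865 : Led Lsl_bt (LP (LK LD1_c1 LD2_c49 LD3_c16)) = (LP (LK LD1_c0 LD2_c51 LD3_c23)) :=
  Lre_b IH (LK LD1_c1 LD2_c49 LD3_c16) (LK LD1_c0 LD2_c51 LD3_c23) Lrfl Lrfl
theorem f95020 : Led Lsl_et (LP (LK LD1_c0 LD2_c46 LD3_c24)) = (LP (LK LD1_c1 LD2_c39 LD3_c45)) :=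
  Lre_e IH (LK LD1_c0 LD2_c46 LD3_c24) (LK LD1_c1 LD2_c39 LD3_c45) Lrfl Lrfl
theorem f95021 : Led Lsl_gt (LP (LK LD1_c3 LD2_c26 LD3_c8)) = (LP (LK LD1_c1 LD2_c39 LD3_c45)) :=
  Lre_g IH (LK LD1_c3 LD2_c26 LD3_c8) (LK LD1_c1 LD2_c39 LD3_c45) Lrfl Lrfl
theorem f95022 : Led Lsl_et (LP (LK LD1_c6 LD2_c54 LD3_c12)) = (LP (LK LD1_c3 LD2_c26 LD3_c8)) :=
  Lre_e IH (LK LD1_c6 LD2_c54 LD3_c12) (LK LD1_c3 LD2_c26 LD3_c8) Lrfl Lrfl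
theorem f472800 : Led Lsl_gt (LP (LK LD1_c3 LD2_c27 LD3_c37)) = (LP (LK LD1_c6 LD2_c57 LD3_c26)) :=
  Lre_g IH (LK LD1_c3 LD2_c27 LD3_c37) (LK LD1_c6 LD2_c57 LD3_c26) Lrfl Lrfl
theorem f488361 : Led Lsl_dt (LP (LK LD1_c6 LD2_c54 LD3_c12)) = (LP (LK LD1_c6 LD2_c57 LD3_c26)) :=
  Lgr Lrot56 (Lpr_et (f95022 IH) (Lpr_gt (f95021 IH) (Lpe (f95020 IH) (Lpr_dt (K3.f90888 IH) (Lpr_gt (K4.f94991 IH) (Lpe (K3.f94985 IH) (Lpr_et (K24.f94989 IH) (Lpr_gt (K28.f468093 IH) (Lpr_dt (K28.f469051 IH) (Lpr_gt (f472800 IH) (Lpn (LP (LK LD1_c6 LD2_c57 LD3_c26)))))))))))))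
theorem f488367 : Led Lsl_df (LP (LK LD1_c6 LD2_c54 LD3_c12)) = (LP (LK LD1_c6 LD2_c57 LD3_c26)) :=
  Lgr Lrot38 (Lpr_dt (f488361 IH) (Lpn (LP (LK LD1_c6 LD2_c57 LD3_c26))))
theorem f488392 : Led Lsl_cf (LP (LK LD1_c6 LD2_c54 LD3_c12)) = (LP (LK LD1_c3 LD2_c44 LD3_c30)) :=
  Lgr Lrot14 (Lpr_df (f488367 IH) (Lpe (f472800 IH) (Lpe (K28.f469051 IH) (Lpe (K28.f468093 IH) (Lpr_ct (K24.f95136 IH) (Lpqs (K29.f464226 IH) (Lpe (K29.f459884 IH) (Lpr_dt (K29.f63008 IH) (Lpr_gt (K34.f63011 IH) (Lpe (K34.f483790 IH) (Lpn (LP (LK LD1_c3 LD2_c44 LD3_c30)))))))))))))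
theorem f488397 : Led Lsl_ct (LP (LK LD1_c3 LD2_c26 LD3_c8)) = (LP (LK LD1_c1 LD2_c49 LD3_c16)) :=
  Lgr Lrot15 (Lpe (f95022 IH) (Lpr_cf (f488392 IH) (Lpe (K34.f483795 IH) (Lpn (LP (LK LD1_c1 LD2_c49 LD3_c16))))))
theorem f488431 : Led Lsl_cf (LP (LK LD1_c3 LD2_c26 LD3_c8)) = (LP (LK LD1_c1 LD2_c49 LD3_c16)) :=
  Lgr Lrot11 (Lpr_ct (f488397 IH) (Lpn (LP (LK LD1_c1 LD2_c49 LD3_c16))))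
theorem f628177 : Led Lsl_gf (LP (LK LD1_c3 LD2_c26 LD3_c8)) = v3943 :=
  Lgr Lrot129 (Lpr_cf (f488431 IH) (Lpr_bt (f12865 IH) (Lpr_gt (K33.f12864 IH) (Lpe (K33.f12847 IH) (Lpr_ct (K4.f12851 IH) (Lpr_gt (K11.f4492 IH) (Lpq (K24.f456258 IH) (Lpe (K24.f451502 IH) (Lpr_bt (K29.f451500 IH) (Lpr_gt (K29.f491707 IH) (Lpr_ct (f628172 IH) (Lpn v3943))))))))))))
theorem f479441 : Led Lsl_gf (LP (LK LD1_c3 LD2_c31 LD3_c16)) = (LP (LK LD1_c3 LD2_c38 LD3_c2)) :=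
  Lgr Lrot47 (Lpr_gt (K29.f479438 IH) (Lpr_af (K28.f472837 IH) (Lpr_ff (K28.f457366 IH) (Lpn (LP (LK LD1_c3 LD2_c38 LD3_c2))))))
theorem f488400 : Led Lsl_gf (LP (LK LD1_c6 LD2_c54 LD3_c12)) = (LP (LK LD1_c7 LD2_c4 LD3_c18)) :=
  Lgr Lrot129 (Lpr_cf (f488392 IH) (Lpr_bt (K34.f483760 IH) (Lpr_gt (K33.f483767 IH) (Lpe (K28.f455707 IH) (Lpr_ct (K24.f12139 IH) (Lpe (K24.f457681 IH) (Lpe (K24.f457422 IH) (Lpr_bt (K28.f457118 IH) (Lpe (f479441 IH) (Lpr_ct (K28.f98732 IH) (Lpn (LP (LK LD1_c7 LD2_c4 LD3_c18)))))))))))))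
theorem f488402 : Led Lsl_gt (LP (LK LD1_c6 LD2_c57 LD3_c26)) = (LP (LK LD1_c3 LD2_c27 LD3_c48)) :=
  Lgr Lrot49 (Lpe (f488361 IH) (Lpr_gf (f488400 IH) (Lpe (K28.f98732 IH) (Lpr_gt (K29.f479438 IH) (Lpr_dt (K29.f455084 IH) (Lpr_gt (K29.f458004 IH) (Lpr_dt (K28.f19151 IH) (Lpe (K28.f16734 IH) (Lpe (K28.f455124 IH) (Lpn (LP (LK LD1_c3 LD2_c27 LD3_c48))))))))))))
theorem f479469 : Led Lsl_et (LP (LK LD1_c1 LD2_c40 LD3_c27)) = (LP (LK LD1_c3 LD2_c27 LD3_c49)) :=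
  Lre_e IH (LK LD1_c1 LD2_c40 LD3_c27) (LK LD1_c3 LD2_c27 LD3_c49) Lrfl Lrfl
theorem f628178 : Led Lsl_et (LP (LK LD1_c3 LD2_c25 LD3_c50)) = v3943 :=
  Lgr Lrot185 (Lpr_dt (K29.f94320 IH) (Lpe (K30.f484092 IH) (Lpr_df (K30.f491716 IH) (Lpe (K30.f468893 IH) (Lpe (f479469 IH) (Lpr_dt (K29.f468879 IH) (Lpe (f488402 IH) (Lpe (f488361 IH) (Lpr_et (f95022 IH) (Lpr_gf (f628177 IH) (Lpn v3943)))))))))))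
theorem f125990 : Led Lsl_dt (LP (LK LD1_c3 LD2_c55 LD3_c51)) = (LP (LK LD1_c1 LD2_c54 LD3_c32)) :=
  Lre_d IH (LK LD1_c3 LD2_c55 LD3_c51) (LK LD1_c1 LD2_c54 LD3_c32) Lrfl Lrfl
theorem f484324 : Led Lsl_ff (LP (LK LD1_c3 LD2_c55 LD3_c51)) = (LP (LK LD1_c7 LD2_c11 LD3_c3)) :=
  Lgr Lrot19 (Lpr_dt (f125990 IH) (Lpr_ft (K33.f484318 IH) (Lpr_dt (K33.f478874 IH) (Lpn (LP (LK LD1_c7 LD2_c11 LD3_c3))))))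
theorem f102537 : Led Lsl_gt (LP (LK LD1_c6 LD2_c55 LD3_c1)) = (LP (LK LD1_c3 LD2_c26 LD3_c35)) :=
  Lre_g IH (LK LD1_c6 LD2_c55 LD3_c1) (LK LD1_c3 LD2_c26 LD3_c35) Lrfl Lrfl
theorem f485553 : Led Lsl_gf (LP (LK LD1_c6 LD2_c55 LD3_c1)) = (LP (LK LD1_c7 LD2_c11 LD3_c3)) :=
  Lgr Lrot47 (Lpr_gt (f102537 IH) (Lpe (K6.f125890 IH) (Lpr_ff (f484324 IH) (Lpn (LP (LK LD1_c7 LD2_c11 LD3_c3))))))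
theorem f102535 : Led Lsl_et (LP (LK LD1_c1 LD2_c39 LD3_c58)) = (LP (LK LD1_c0 LD2_c46 LD3_c30)) :=
  Lre_e IH (LK LD1_c1 LD2_c39 LD3_c58) (LK LD1_c0 LD2_c46 LD3_c30) Lrfl Lrfl
theorem f102536 : Led Lsl_dt (LP (LK LD1_c1 LD2_c39 LD3_c58)) = (LP (LK LD1_c3 LD2_c26 LD3_c35)) :=
  Lre_d IH (LK LD1_c1 LD2_c39 LD3_c58) (LK LD1_c3 LD2_c26 LD3_c35) Lrfl Lrfl
theorem f102538 : Led Lsl_gt (LP (LK LD1_c1 LD2_c39 LD3_c45)) = (LP (LK LD1_c3 LD2_c26 LD3_c7)) :=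
  Lre_g IH (LK LD1_c1 LD2_c39 LD3_c45) (LK LD1_c3 LD2_c26 LD3_c7) Lrfl Lrfl
theorem f102539 : Led Lsl_et (LP (LK LD1_c6 LD2_c54 LD3_c9)) = (LP (LK LD1_c3 LD2_c26 LD3_c7)) :=
  Lre_e IH (LK LD1_c6 LD2_c54 LD3_c9) (LK LD1_c3 LD2_c26 LD3_c7) Lrfl Lrfl
theorem f102540 : Led Lsl_df (LP (LK LD1_c6 LD2_c55 LD3_c1)) = (LP (LK LD1_c6 LD2_c54 LD3_c9)) :=
  Lgr Lrot170 (Lpr_gt (f102537 IH) (Lpe (f102536 IH) (Lpr_et (f102535 IH) (Lpr_gt (K6.f9905 IH) (Lpe (K6.f102529 IH) (Lpr_gt (K6.f102527 IH) (Lpe (K3.f90888 IH) (Lpr_et (f95020 IH) (Lpr_gt (f102538 IH) (Lpe (f102539 IH) (Lpn (LP (LK LD1_c6 LD2_c54 LD3_c9)))))))))))))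
theorem f628179 : Led Lsl_gt (LP (LK LD1_c3 LD2_c26 LD3_c7)) = v3943 :=
  Lgr Lrot131 (Lpe (f102539 IH) (Lpe (f102540 IH) (Lpr_gf (f485553 IH) (Lpe (K33.f478874 IH) (Lpe (K33.f484514 IH) (Lpe (K29.f91141 IH) (Lpr_dt (K29.f91145 IH) (Lpe (K29.f102825 IH) (Lpe (K29.f94320 IH) (Lpr_et (f628178 IH) (Lpn v3943)))))))))))
theorem f94673 : Led Lsl_et (LP (LK LD1_c3 LD2_c46 LD3_c26)) = (LP (LK LD1_c1 LD2_c50 LD3_c18)) :=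
  Lre_e IH (LK LD1_c3 LD2_c46 LD3_c26) (LK LD1_c1 LD2_c50 LD3_c18) Lrfl Lrfl
theorem f522688 : Led Lsl_cf (LP (LK LD1_c1 LD2_c49 LD3_c13)) = K33.v2484 :=
  Lgr Lrot11 (Lpr_ct (K33.f522687 IH) (Lpn K33.v2484))
def v2488 : LQ := Led Lsl_at (LP (LK LD1_c1 LD2_c46 LD3_c43))
theorem f522759 : Led Lsl_at (LP (LK LD1_c1 LD2_c46 LD3_c43)) = v2488 :=
  Lrfl
theorem f522760 : Led Lsl_af (LP (LK LD1_c1 LD2_c46 LD3_c43)) = v2488 :=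
  Lgr Lrot0 (Lpr_at (f522759 IH) (Lpn v2488))
theorem f522763 : Led Lsl_ft (LP (LK LD1_c1 LD2_c46 LD3_c44)) = v2488 :=
  Lgr Lrot2 (Lpr_gt (K33.f5386 IH) (Lpr_gt (K33.f5645 IH) (Lpr_af (f522760 IH) (Lpn v2488))))
theorem f528005 : K33.v2484 = v2488 :=
  (Llr Lrot108 (Lpe (f522688 IH) (Lpr_ft (K34.f527611 IH) (Lpqs (K34.f528000 IH) (Lpe (K33.f479654 IH) (Lpr_ft (f522763 IH) (Lpn v2488))))))).symm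
theorem f522764 : Led Lsl_ff (LP (LK LD1_c1 LD2_c46 LD3_c44)) = v2488 :=
  Lgr Lrot3 (Lpr_ft (f522763 IH) (Lpn v2488))
def v2489 : LQ := Led Lsl_ft (LP (LK LD1_c1 LD2_c46 LD3_c43))
theorem f522765 : Led Lsl_ft (LP (LK LD1_c1 LD2_c46 LD3_c43)) = v2489 :=
  Lrfl
theorem f522767 : Led Lsl_ff (LP (LK LD1_c1 LD2_c46 LD3_c43)) = v2489 :=
  Lgr Lrot3 (Lpr_ft (f522765 IH) (Lpn v2489))
theorem f522768 : Led Lsl_at (LP (LK LD1_c1 LD2_c46 LD3_c44)) = v2489 :=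
  Lgr Lrot66 (Lpr_ff (f522764 IH) (Lpe (f522759 IH) (Lpr_ff (f522767 IH) (Lpn v2489))))
def v2485 : LQ := Led Lsl_gf (LP (LK LD1_c1 LD2_c46 LD3_c37))
theorem f522727 : Led Lsl_gf (LP (LK LD1_c1 LD2_c46 LD3_c37)) = v2485 :=
  Lrfl
theorem f5557 : Led Lsl_at (LP (LK LD1_c0 LD2_c50 LD3_c6)) = (LP (LK LD1_c1 LD2_c46 LD3_c37)) :=
  Lre_a IH (LK LD1_c0 LD2_c50 LD3_c6) (LK LD1_c1 LD2_c46 LD3_c37) Lrfl Lrfl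
theorem f522728 : Led Lsl_gt K33.v746 = v2485 :=
  Lgr Lrot5 (Lpe (K33.f457049 IH) (Lpr_at (f5557 IH) (Lpr_gf (f522727 IH) (Lpn v2485))))
theorem f528040 : v2489 = v2485 :=
  (Llr Lrot26 (Lpe (f522768 IH) (Lpr_ff (f522764 IH) (Lpq (f528005 IH) (Lpe (K33.f522686 IH) (Lpr_gt (f522728 IH) (Lpn v2485))))))).symm
theorem f109110 : Led Lsl_ct (LP (LK LD1_c3 LD2_c32 LD3_c16)) = (LP (LK LD1_c1 LD2_c50 LD3_c14)) :=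
  Lgr Lrot15 (Lpe (K3.f94440 IH) (Lpr_cf (K3.f109106 IH) (Lpe (K33.f109109 IH) (Lpn (LP (LK LD1_c1 LD2_c50 LD3_c14))))))
theorem f114424 : Led Lsl_et (LP (LK LD1_c6 LD2_c53 LD3_c1)) = (LP (LK LD1_c3 LD2_c25 LD3_c26)) :=
  Lre_e IH (LK LD1_c6 LD2_c53 LD3_c1) (LK LD1_c3 LD2_c25 LD3_c26) Lrfl Lrfl
theorem f483261 : Led Lsl_bt (LP (LK LD1_c3 LD2_c37 LD3_c35)) = (LP (LK LD1_c6 LD2_c53 LD3_c1)) :=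
  Lgr Lrot119 (Lpe (K29.f92509 IH) (Lpr_bf (K29.f483031 IH) (Lpe (f114424 IH) (Lpn (LP (LK LD1_c6 LD2_c53 LD3_c1))))))
theorem f483263 : Led Lsl_bf (LP (LK LD1_c3 LD2_c37 LD3_c35)) = (LP (LK LD1_c6 LD2_c53 LD3_c1)) :=
  Lgr Lrot24 (Lpr_bt (f483261 IH) (Lpn (LP (LK LD1_c6 LD2_c53 LD3_c1))))
theorem f10851 : Led Lsl_bt (LP (LK LD1_c7 LD2_c15 LD3_c39)) = (LP (LK LD1_c13 LD2_c44 LD3_c12)) :=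
  Lre_b IH (LK LD1_c7 LD2_c15 LD3_c39) (LK LD1_c13 LD2_c44 LD3_c12) Lrfl Lrfl
theorem f87953 : Led Lsl_et (LP (LK LD1_c1 LD2_c50 LD3_c7)) = (LP (LK LD1_c3 LD2_c46 LD3_c7)) :=
  Lre_e IH (LK LD1_c1 LD2_c50 LD3_c7) (LK LD1_c3 LD2_c46 LD3_c7) Lrfl Lrfl
theorem f483024 : Led Lsl_ct (LP (LK LD1_c3 LD2_c46 LD3_c7)) = (LP (LK LD1_c6 LD2_c53 LD3_c1)) :=
  Lgr Lrot15 (Lpe (f87953 IH) (Lpr_cf (K29.f483014 IH) (Lpe (f114424 IH) (Lpn (LP (LK LD1_c6 LD2_c53 LD3_c1))))))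
theorem f87946 : Led Lsl_bt (LP (LK LD1_c7 LD2_c33 LD3_c10)) = (LP (LK LD1_c3 LD2_c46 LD3_c7)) :=
  Lre_b IH (LK LD1_c7 LD2_c33 LD3_c10) (LK LD1_c3 LD2_c46 LD3_c7) Lrfl Lrfl
theorem f483270 : Led Lsl_ct (LP (LK LD1_c13 LD2_c44 LD3_c12)) = (LP (LK LD1_c7 LD2_c33 LD3_c10)) :=
  Lgr Lrot83 (Lpe (f10851 IH) (Lpe (K29.f10850 IH) (Lpr_bf (f483263 IH) (Lpe (f483024 IH) (Lpe (f87946 IH) (Lpn (LP (LK LD1_c7 LD2_c33 LD3_c10))))))))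
theorem f93115 : Led Lsl_bt (LP (LK LD1_c3 LD2_c38 LD3_c20)) = (LP (LK LD1_c7 LD2_c17 LD3_c0)) :=
  Lre_b IH (LK LD1_c3 LD2_c38 LD3_c20) (LK LD1_c7 LD2_c17 LD3_c0) Lrfl Lrfl
theorem f93116 : Led Lsl_bt (LP (LK LD1_c13 LD2_c44 LD3_c12)) = (LP (LK LD1_c7 LD2_c15 LD3_c39)) :=
  Lre_b IH (LK LD1_c13 LD2_c44 LD3_c12) (LK LD1_c7 LD2_c15 LD3_c39) Lrfl Lrfl
theorem f93117 : Led Lsl_et (LP (LK LD1_c7 LD2_c17 LD3_c0)) = (LP (LK LD1_c13 LD2_c44 LD3_c12)) :=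
  Lgr Lrot74 (Lpe (f93115 IH) (Lpr_ef (K29.f93112 IH) (Lpe (f93116 IH) (Lpn (LP (LK LD1_c13 LD2_c44 LD3_c12))))))
theorem f88121 : Led Lsl_et (LP (LK LD1_c7 LD2_c33 LD3_c10)) = (LP (LK LD1_c3 LD2_c46 LD3_c5)) :=
  Lre_e IH (LK LD1_c7 LD2_c33 LD3_c10) (LK LD1_c3 LD2_c46 LD3_c5) Lrfl Lrfl
theorem f483274 : Led Lsl_cf (LP (LK LD1_c7 LD2_c17 LD3_c0)) = (LP (LK LD1_c3 LD2_c46 LD3_c5)) :=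
  Lgr Lrot39 (Lpr_et (f93117 IH) (Lpr_ct (f483270 IH) (Lpr_et (f88121 IH) (Lpn (LP (LK LD1_c3 LD2_c46 LD3_c5))))))
theorem f441416 : Led Lsl_bt (LP (LK LD1_c3 LD2_c46 LD3_c5)) = (LP (LK LD1_c1 LD2_c50 LD3_c7)) :=
  Lre_b IH (LK LD1_c3 LD2_c46 LD3_c5) (LK LD1_c1 LD2_c50 LD3_c7) Lrfl Lrfl
theorem f4495 : Led Lsl_ct (LP (LK LD1_c1 LD2_c47 LD3_c57)) = (LP (LK LD1_c0 LD2_c50 LD3_c43)) :=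
  Lre_c IH (LK LD1_c1 LD2_c47 LD3_c57) (LK LD1_c0 LD2_c50 LD3_c43) Lrfl Lrfl
theorem f456289 : Led Lsl_bf (LP (LK LD1_c1 LD2_c46 LD3_c53)) = (LP (LK LD1_c1 LD2_c47 LD3_c57)) :=
  Lgr Lrot24 (Lpr_bt (K29.f456287 IH) (Lpn (LP (LK LD1_c1 LD2_c47 LD3_c57))))
theorem f483277 : Led Lsl_gf (LP (LK LD1_c7 LD2_c17 LD3_c0)) = (LP (LK LD1_c7 LD2_c5 LD3_c33)) :=
  Lgr Lrot126 (Lpr_cf (f483274 IH) (Lpr_bt (f441416 IH) (Lpe (K29.f441413 IH) (Lpr_ct (K29.f440678 IH) (Lpr_gt (K29.f451051 IH) (Lpq (K29.f466752 IH) (Lpe (f4495 IH) (Lpe (f456289 IH) (Lpr_gt (K33.f479343 IH) (Lpe (K34.f116651 IH) (Lpr_ct (K34.f116631 IH) (Lpn (LP (LK LD1_c7 LD2_c5 LD3_c33))))))))))))))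
theorem f457050 : Led Lsl_bt (LP (LK LD1_c1 LD2_c46 LD3_c20)) = K33.v746 :=
  Lgr Lrot35 (Lpe (K33.f4268 IH) (Lpr_bf (K2.f5326 IH) (Lpr_ff (K33.f457049 IH) (Lpn K33.v746))))
theorem f527947 : Led Lsl_ct v2485 = K34.v2627 :=
  Lgr Lrot91 (Lpe (f522728 IH) (Lpe (f457050 IH) (Lpr_ct (K2.f4047 IH) (Lpe (K2.f4069 IH) (Lpe (K29.f4073 IH) (Lpr_bt (f93115 IH) (Lpr_gf (f483277 IH) (Lpe (K34.f109537 IH) (Lpr_ct (f109110 IH) (Lpr_gf (K34.f527943 IH) (Lpn K34.v2627)))))))))))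
theorem f528041 : (LP (LK LD1_c1 LD2_c50 LD3_c18)) = K34.v2582 :=
  (Llr Lrot108 (Lpe (K33.f522740 IH) (Lpr_ft (f522765 IH) (Lpqs (f528040 IH) (Lpr_ct (f527947 IH) (Lpe (K34.f527945 IH) (Lpn K34.v2582))))))).symm
theorem f522702 : Led Lsl_et (LP (LK LD1_c1 LD2_c49 LD3_c13)) = (LP (LK LD1_c3 LD2_c44 LD3_c25)) :=
  Lre_e IH (LK LD1_c1 LD2_c49 LD3_c13) (LK LD1_c3 LD2_c44 LD3_c25) Lrfl Lrfl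
theorem f528044 : Led Lsl_af (LP (LK LD1_c3 LD2_c46 LD3_c26)) = (LP (LK LD1_c3 LD2_c44 LD3_c25)) :=
  Lgr Lrot50 (Lpr_et (f94673 IH) (Lpqs (f528041 IH) (Lpe (K34.f527606 IH) (Lpr_et (f522702 IH) (Lpn (LP (LK LD1_c3 LD2_c44 LD3_c25)))))))
theorem f17518 : Led Lsl_et (LP (LK LD1_c1 LD2_c46 LD3_c43)) = (LP (LK LD1_c3 LD2_c39 LD3_c37)) :=
  Lre_e IH (LK LD1_c1 LD2_c46 LD3_c43) (LK LD1_c3 LD2_c39 LD3_c37) Lrfl Lrfl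
theorem f522745 : Led Lsl_ct (LP (LK LD1_c3 LD2_c39 LD3_c37)) = (LP (LK LD1_c3 LD2_c46 LD3_c26)) :=
  Lgr Lrot15 (Lpe (f17518 IH) (Lpr_cf (K33.f522740 IH) (Lpe (f94673 IH) (Lpn (LP (LK LD1_c3 LD2_c46 LD3_c26))))))
theorem f522747 : Led Lsl_cf (LP (LK LD1_c3 LD2_c39 LD3_c37)) = (LP (LK LD1_c3 LD2_c46 LD3_c26)) :=
  Lgr Lrot11 (Lpr_ct (f522745 IH) (Lpn (LP (LK LD1_c3 LD2_c46 LD3_c26))))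
theorem f528048 : Led Lsl_at (LP (LK LD1_c3 LD2_c39 LD3_c37)) = (LP (LK LD1_c7 LD2_c8 LD3_c61)) :=
  Lgr Lrot107 (Lpr_cf (f522747 IH) (Lpr_af (f528044 IH) (Lpr_cf (K33.f522689 IH) (Lpn (LP (LK LD1_c7 LD2_c8 LD3_c61))))))
theorem f17515 : Led Lsl_dt (LP (LK LD1_c7 LD2_c6 LD3_c40)) = (LP (LK LD1_c3 LD2_c39 LD3_c37)) :=
  Lgr Lrot42 (Lpr_df (K33.f17508 IH) (Lpn (LP (LK LD1_c3 LD2_c39 LD3_c37))))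
theorem f528054 : Led Lsl_af (LP (LK LD1_c7 LD2_c6 LD3_c40)) = (LP (LK LD1_c3 LD2_c33 LD3_c58)) :=
  Lgr Lrot117 (Lpr_dt (f17515 IH) (Lpr_at (f528048 IH) (Lpr_dt (K33.f10521 IH) (Lpn (LP (LK LD1_c3 LD2_c33 LD3_c58))))))
theorem f6337 : Led Lsl_gt (LP (LK LD1_c7 LD2_c6 LD3_c39)) = (LP (LK LD1_c3 LD2_c33 LD3_c60)) :=
  Lre_g IH (LK LD1_c7 LD2_c6 LD3_c39) (LK LD1_c3 LD2_c33 LD3_c60) Lrfl Lrfl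
theorem f528065 : Led Lsl_ft (LP (LK LD1_c7 LD2_c6 LD3_c39)) = (LP (LK LD1_c3 LD2_c33 LD3_c58)) :=
  Lgr Lrot2 (Lpr_gt (f6337 IH) (Lpr_gt (K33.f6336 IH) (Lpr_af (f528054 IH) (Lpn (LP (LK LD1_c3 LD2_c33 LD3_c58))))))
theorem f528075 : Led Lsl_ff (LP (LK LD1_c7 LD2_c6 LD3_c39)) = (LP (LK LD1_c3 LD2_c33 LD3_c58)) :=
  Lgr Lrot3 (Lpr_ft (f528065 IH) (Lpn (LP (LK LD1_c3 LD2_c33 LD3_c58))))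
theorem f528087 : Led Lsl_at (LP (LK LD1_c7 LD2_c6 LD3_c39)) = (LP (LK LD1_c3 LD2_c33 LD3_c57)) :=
  Lgr Lrot26 (Lpr_ff (f528075 IH) (Lpr_gt (K33.f6574 IH) (Lpr_gt (K29.f6572 IH) (Lpn (LP (LK LD1_c3 LD2_c33 LD3_c57))))))
theorem f528056 : Led Lsl_at (LP (LK LD1_c7 LD2_c6 LD3_c40)) = (LP (LK LD1_c3 LD2_c33 LD3_c58)) :=
  Lgr Lrot100 (Lpr_af (f528054 IH) (Lpn (LP (LK LD1_c3 LD2_c33 LD3_c58))))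
theorem f528096 : Led Lsl_ff (LP (LK LD1_c7 LD2_c6 LD3_c40)) = (LP (LK LD1_c3 LD2_c33 LD3_c57)) :=
  Lgr Lrot30 (Lpr_at (f528056 IH) (Lpe (f528075 IH) (Lpr_at (f528087 IH) (Lpn (LP (LK LD1_c3 LD2_c33 LD3_c57))))))
theorem f528106 : Led Lsl_ft (LP (LK LD1_c7 LD2_c6 LD3_c40)) = (LP (LK LD1_c3 LD2_c33 LD3_c57)) :=
  Lgr Lrot48 (Lpr_ff (f528096 IH) (Lpn (LP (LK LD1_c3 LD2_c33 LD3_c57))))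
theorem f528112 : Led Lsl_ff (LP (LK LD1_c3 LD2_c39 LD3_c37)) = (LP (LK LD1_c7 LD2_c8 LD3_c57)) :=
  Lgr Lrot19 (Lpe (K33.f17508 IH) (Lpr_ft (f528106 IH) (Lpr_dt (K29.f6573 IH) (Lpn (LP (LK LD1_c7 LD2_c8 LD3_c57))))))
theorem f528129 : Led Lsl_ft (LP (LK LD1_c3 LD2_c46 LD3_c26)) = (LP (LK LD1_c7 LD2_c3 LD3_c45)) :=
  Lgr Lrot4 (Lpe (f522745 IH) (Lpr_ff (f528112 IH) (Lpr_cf (K34.f488261 IH) (Lpn (LP (LK LD1_c7 LD2_c3 LD3_c45))))))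
theorem f528135 : Led Lsl_ff (LP (LK LD1_c3 LD2_c46 LD3_c26)) = (LP (LK LD1_c7 LD2_c3 LD3_c45)) :=
  Lgr Lrot3 (Lpr_ft (f528129 IH) (Lpn (LP (LK LD1_c7 LD2_c3 LD3_c45))))
theorem f527948 : Led Lsl_cf v2485 = K34.v2627 :=
  Lgr Lrot11 (Lpr_ct (f527947 IH) (Lpn K34.v2627))
def v2502 : LQ := Led Lsl_ft (LP (LK LD1_c1 LD2_c46 LD3_c49))
theorem f523637 : Led Lsl_ft (LP (LK LD1_c1 LD2_c46 LD3_c49)) = v2502 :=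
  Lrfl
theorem f457059 : Led Lsl_ft (LP (LK LD1_c0 LD2_c50 LD3_c8)) = K34.v747 :=
  Lgr Lrot2 (Lpr_gt (K33.f5349 IH) (Lpr_gt (K33.f5328 IH) (Lpr_af (K34.f457056 IH) (Lpn K34.v747))))
theorem f457061 : Led Lsl_ff (LP (LK LD1_c0 LD2_c50 LD3_c8)) = K34.v747 :=
  Lgr Lrot3 (Lpr_ft (f457059 IH) (Lpn K34.v747))
theorem f523638 : Led Lsl_bf K34.v747 = v2502 :=
  Lgr Lrot61 (Lpe (f457061 IH) (Lpr_bt (K34.f457062 IH) (Lpr_ft (f523637 IH) (Lpn v2502))))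
def v2300 : LQ := Led Lsl_gt (LP (LK LD1_c1 LD2_c41 LD3_c28))
theorem f511955 : Led Lsl_gt (LP (LK LD1_c1 LD2_c41 LD3_c28)) = v2300 :=
  Lrfl
theorem f520718 : Led Lsl_at (LP (LK LD1_c1 LD2_c50 LD3_c30)) = v2300 :=
  Lgr Lrot26 (Lpr_ff (K34.f520711 IH) (Lpr_gt (K29.f103961 IH) (Lpr_gt (f511955 IH) (Lpn v2300))))
theorem f520694 : Led Lsl_at (LP (LK LD1_c1 LD2_c50 LD3_c31)) = (LP (LK LD1_c3 LD2_c29 LD3_c28)) :=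
  Lgr Lrot100 (Lpr_af (K33.f520692 IH) (Lpn (LP (LK LD1_c3 LD2_c29 LD3_c28))))
theorem f520721 : Led Lsl_ff (LP (LK LD1_c1 LD2_c50 LD3_c31)) = v2300 :=
  Lgr Lrot30 (Lpr_at (f520694 IH) (Lpe (K34.f520711 IH) (Lpr_at (f520718 IH) (Lpn v2300))))
theorem f523639 : Led Lsl_cf v2300 = v2502 :=
  Lgr Lrot108 (Lpe (f520721 IH) (Lpe (K33.f511739 IH) (Lpr_ft (f523637 IH) (Lpn v2502))))
theorem f120556 : Led Lsl_bt (LP (LK LD1_c0 LD2_c47 LD3_c18)) = (LP (LK LD1_c1 LD2_c41 LD3_c23)) :=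
  Lre_b IH (LK LD1_c0 LD2_c47 LD3_c18) (LK LD1_c1 LD2_c41 LD3_c23) Lrfl Lrfl
theorem f527949 : Led Lsl_bf (LP (LK LD1_c3 LD2_c29 LD3_c19)) = K34.v2627 :=
  Lgr Lrot156 (Lpr_gt (K29.f441696 IH) (Lpe (f120556 IH) (Lpr_ct (K28.f120546 IH) (Lpr_gt (f511955 IH) (Lpr_cf (f523639 IH) (Lpe (f523638 IH) (Lpqs (K34.f522307 IH) (Lpr_gt (K34.f457037 IH) (Lpr_ct (K33.f457051 IH) (Lpr_gt (f522728 IH) (Lpr_cf (f527948 IH) (Lpn K34.v2627))))))))))))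
theorem f467476 : Led Lsl_bt (LP (LK LD1_c3 LD2_c24 LD3_c51)) = (LP (LK LD1_c6 LD2_c52 LD3_c6)) :=
  Lre_b IH (LK LD1_c3 LD2_c24 LD3_c51) (LK LD1_c6 LD2_c52 LD3_c6) Lrfl Lrfl
theorem f63052 : Led Lsl_bt (LP (LK LD1_c1 LD2_c41 LD3_c61)) = (LP (LK LD1_c3 LD2_c30 LD3_c53)) :=
  Lre_b IH (LK LD1_c1 LD2_c41 LD3_c61) (LK LD1_c3 LD2_c30 LD3_c53) Lrfl Lrfl
theorem f466480 : Led Lsl_gt (LP (LK LD1_c3 LD2_c30 LD3_c53)) = (LP (LK LD1_c7 LD2_c3 LD3_c42)) :=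
  Lre_g IH (LK LD1_c3 LD2_c30 LD3_c53) (LK LD1_c7 LD2_c3 LD3_c42) Lrfl Lrfl
theorem f479385 : Led Lsl_bf (LP (LK LD1_c7 LD2_c3 LD3_c42)) = (LP (LK LD1_c7 LD2_c0 LD3_c15)) :=
  Lgr Lrot34 (Lpe (f466480 IH) (Lpe (f63052 IH) (Lpr_ct (K24.f18818 IH) (Lpe (K29.f477539 IH) (Lpr_cf (K34.f477517 IH) (Lpr_gf (K29.f467473 IH) (Lpe (f467476 IH) (Lpr_ct (K28.f91511 IH) (Lpr_gf (K29.f479379 IH) (Lpr_cf (K29.f473820 IH) (Lpn (LP (LK LD1_c7 LD2_c0 LD3_c15)))))))))))))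
theorem f527950 : Led Lsl_et (LP (LK LD1_c7 LD2_c3 LD3_c42)) = K34.v2627 :=
  Lgr Lrot74 (Lpr_bf (f479385 IH) (Lpe (K34.f473817 IH) (Lpr_bf (f527949 IH) (Lpn K34.v2627))))
theorem f527951 : Led Lsl_ef (LP (LK LD1_c7 LD2_c3 LD3_c42)) = K34.v2627 :=
  Lgr Lrot88 (Lpr_et (f527950 IH) (Lpn K34.v2627))
theorem f528141 : Led Lsl_ft (LP (LK LD1_c7 LD2_c3 LD3_c42)) = (LP (LK LD1_c7 LD2_c48 LD3_c3)) :=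
  Lgr Lrot86 (Lpr_ef (f527951 IH) (Lpe (K34.f527954 IH) (Lpq (f528041 IH) (Lpe (f94673 IH) (Lpr_ff (f528135 IH) (Lpe (K34.f488259 IH) (Lpn (LP (LK LD1_c7 LD2_c48 LD3_c3)))))))))
theorem f510781 : Led Lsl_at (LP (LK LD1_c13 LD2_c30 LD3_c16)) = (LP (LK LD1_c13 LD2_c40 LD3_c55)) :=
  Lgr Lrot107 (Lpr_cf (K33.f489563 IH) (Lpr_af (K33.f510777 IH) (Lpe (K33.f464935 IH) (Lpn (LP (LK LD1_c13 LD2_c40 LD3_c55))))))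
theorem f511189 : Led Lsl_af (LP (LK LD1_c13 LD2_c27 LD3_c49)) = (LP (LK LD1_c13 LD2_c4 LD3_c18)) :=
  Lgr Lrot117 (Lpe (K33.f510491 IH) (Lpr_at (f510781 IH) (Lpr_dt (K33.f510734 IH) (Lpn (LP (LK LD1_c13 LD2_c4 LD3_c18))))))
theorem f510712 : Led Lsl_ff (LP (LK LD1_c13 LD2_c4 LD3_c18)) = (LP (LK LD1_c13 LD2_c4 LD3_c14)) :=
  Lgr Lrot23 (Lpr_ct (K33.f457470 IH) (Lpr_ft (K33.f510708 IH) (Lpr_ct (K33.f458542 IH) (Lpn (LP (LK LD1_c13 LD2_c4 LD3_c14))))))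
theorem f458554 : Led Lsl_gt (LP (LK LD1_c13 LD2_c4 LD3_c14)) = (LP (LK LD1_c22 LD2_c14 LD3_c34)) :=
  Lre_g IH (LK LD1_c13 LD2_c4 LD3_c14) (LK LD1_c22 LD2_c14 LD3_c34) Lrfl Lrfl
theorem f511191 : Led Lsl_gf (LP (LK LD1_c13 LD2_c27 LD3_c49)) = (LP (LK LD1_c22 LD2_c14 LD3_c34)) :=
  Lgr Lrot76 (Lpr_af (f511189 IH) (Lpr_ff (f510712 IH) (Lpr_gt (f458554 IH) (Lpn (LP (LK LD1_c22 LD2_c14 LD3_c34))))))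
theorem f473585 : Led Lsl_cf (LP (LK LD1_c7 LD2_c7 LD3_c43)) = (LP (LK LD1_c3 LD2_c53 LD3_c2)) :=
  Lgr Lrot39 (Lpr_et (K28.f98517 IH) (Lpe (K28.f468869 IH) (Lpr_et (K29.f473581 IH) (Lpn (LP (LK LD1_c3 LD2_c53 LD3_c2))))))
theorem f477563 : Led Lsl_at (LP (LK LD1_c7 LD2_c15 LD3_c24)) = (LP (LK LD1_c7 LD2_c37 LD3_c6)) :=
  Lgr Lrot107 (Lpr_cf (K29.f477556 IH) (Lpr_af (K29.f473591 IH) (Lpe (K29.f129801 IH) (Lpn (LP (LK LD1_c7 LD2_c37 LD3_c6))))))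
theorem f477654 : Led Lsl_gf (LP (LK LD1_c6 LD2_c58 LD3_c25)) = (LP (LK LD1_c7 LD2_c7 LD3_c43)) :=
  Lgr Lrot47 (Lpe (K29.f462006 IH) (Lpe (f477563 IH) (Lpr_ff (K29.f477582 IH) (Lpn (LP (LK LD1_c7 LD2_c7 LD3_c43))))))
theorem f488257 : Led Lsl_gt (LP (LK LD1_c13 LD2_c14 LD3_c21)) = (LP (LK LD1_c7 LD2_c3 LD3_c40)) :=
  Lgr Lrot49 (Lpe (K29.f462013 IH) (Lpr_gf (f477654 IH) (Lpr_cf (f473585 IH) (Lpr_gt (K34.f487921 IH) (Lpr_dt (K34.f488253 IH) (Lpr_gt (K33.f466568 IH) (Lpr_dt (K28.f466476 IH) (Lpe (K28.f466471 IH) (Lpe (K34.f466478 IH) (Lpn (LP (LK LD1_c7 LD2_c3 LD3_c40))))))))))))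
theorem f511195 : Led Lsl_cf (LP (LK LD1_c13 LD2_c14 LD3_c21)) = (LP (LK LD1_c22 LD2_c14 LD3_c34)) :=
  Lgr Lrot166 (Lpr_gt (f488257 IH) (Lpr_dt (K34.f466478 IH) (Lpr_gt (K28.f466466 IH) (Lpr_dt (K28.f94436 IH) (Lpr_ct (K28.f108637 IH) (Lpr_df (K28.f464901 IH) (Lpe (K33.f489559 IH) (Lpr_df (K33.f510491 IH) (Lpr_gf (f511191 IH) (Lpn (LP (LK LD1_c22 LD2_c14 LD3_c34))))))))))))
theorem f466469 : Led Lsl_ct (LP (LK LD1_c7 LD2_c3 LD3_c40)) = (LP (LK LD1_c13 LD2_c23 LD3_c21)) :=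
  Lre_c IH (LK LD1_c7 LD2_c3 LD3_c40) (LK LD1_c13 LD2_c23 LD3_c21) Lrfl Lrfl
theorem f511200 : Led Lsl_df (LP (LK LD1_c13 LD2_c23 LD3_c21)) = (LP (LK LD1_c13 LD2_c30 LD3_c11)) :=
  Lgr Lrot162 (Lpe (f466469 IH) (Lpe (f488257 IH) (Lpr_cf (f511195 IH) (Lpe (f458554 IH) (Lpr_dt (K33.f510489 IH) (Lpr_gt (K32.f440174 IH) (Lpr_ct (K32.f128103 IH) (Lpr_gt (K33.f96478 IH) (Lpr_ct (K34.f464967 IH) (Lpn (LP (LK LD1_c13 LD2_c30 LD3_c11))))))))))))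
theorem f488185 : Led Lsl_cf (LP (LK LD1_c3 LD2_c35 LD3_c37)) = (LP (LK LD1_c3 LD2_c32 LD3_c40)) :=
  Lgr Lrot11 (Lpr_ct (K33.f468871 IH) (Lpn (LP (LK LD1_c3 LD2_c32 LD3_c40))))
theorem f511826 : Led Lsl_cf (LP (LK LD1_c7 LD2_c19 LD3_c55)) = (LP (LK LD1_c7 LD2_c11 LD3_c58)) :=
  Lgr Lrot55 (Lpr_dt (K33.f511713 IH) (Lpr_ct (K34.f464967 IH) (Lpe (f511200 IH) (Lpr_ct (K34.f466470 IH) (Lpr_dt (K34.f466478 IH) (Lpr_ct (K28.f466471 IH) (Lpr_dt (K28.f466472 IH) (Lpr_ct (K28.f458495 IH) (Lpr_dt (K28.f466601 IH) (Lpr_ct (K33.f464957 IH) (Lpe (K34.f488246 IH) (Lpr_ct (K33.f479558 IH) (Lpr_dt (K33.f11574 IH) (Lpe (f488185 IH) (Lpr_dt (K33.f17692 IH) (Lpn (LP (LK LD1_c7 LD2_c11 LD3_c58))))))))))))))))))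
theorem f511840 : Led Lsl_gf (LP (LK LD1_c7 LD2_c11 LD3_c58)) = (LP (LK LD1_c7 LD2_c3 LD3_c42)) :=
  Lgr Lrot181 (Lpe (f511826 IH) (Lpr_gt (K33.f511831 IH) (Lpe (K28.f458348 IH) (Lpe (K34.f464597 IH) (Lpr_gt (K28.f463406 IH) (Lpe (K28.f92006 IH) (Lpr_ct (K28.f15826 IH) (Lpr_gt (K32.f479920 IH) (Lpr_cf (K29.f473820 IH) (Lpe (f479385 IH) (Lpn (LP (LK LD1_c7 LD2_c3 LD3_c42)))))))))))))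
theorem f528145 : Led Lsl_af (LP (LK LD1_c7 LD2_c3 LD3_c43)) = (LP (LK LD1_c7 LD2_c48 LD3_c3)) :=
  Lgr Lrot31 (Lpe (K33.f488242 IH) (Lpr_gf (f511840 IH) (Lpr_ft (f528141 IH) (Lpn (LP (LK LD1_c7 LD2_c48 LD3_c3))))))
theorem f528153 : Led Lsl_at (LP (LK LD1_c3 LD2_c49 LD3_c12)) = (LP (LK LD1_c3 LD2_c53 LD3_c7)) :=
  Lgr Lrot51 (Lpr_df (K33.f488251 IH) (Lpr_af (f528145 IH) (Lpe (K29.f129896 IH) (Lpn (LP (LK LD1_c3 LD2_c53 LD3_c7))))))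
theorem f528161 : Led Lsl_ff (LP (LK LD1_c3 LD2_c49 LD3_c12)) = (LP (LK LD1_c3 LD2_c53 LD3_c8)) :=
  Lgr Lrot52 (Lpr_at (f528153 IH) (Lpe (K29.f129895 IH) (Lpe (K30.f129897 IH) (Lpn (LP (LK LD1_c3 LD2_c53 LD3_c8))))))
theorem f528167 : Led Lsl_ft (LP (LK LD1_c3 LD2_c49 LD3_c12)) = (LP (LK LD1_c3 LD2_c53 LD3_c8)) :=
  Lgr Lrot48 (Lpr_ff (f528161 IH) (Lpn (LP (LK LD1_c3 LD2_c53 LD3_c8))))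
theorem f476496 : Led Lsl_bt (LP (LK LD1_c3 LD2_c53 LD3_c8)) = (LP (LK LD1_c1 LD2_c54 LD3_c55)) :=
  Lgr Lrot127 (Lpr_bf (K33.f476489 IH) (Lpn (LP (LK LD1_c1 LD2_c54 LD3_c55))))
theorem f528169 : Led Lsl_ff (LP (LK LD1_c1 LD2_c54 LD3_c57)) = (LP (LK LD1_c1 LD2_c54 LD3_c55)) :=
  Lgr Lrot25 (Lpr_bt (K33.f487863 IH) (Lpr_ft (f528167 IH) (Lpr_bt (f476496 IH) (Lpn (LP (LK LD1_c1 LD2_c54 LD3_c55))))))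
theorem f528173 : Led Lsl_ft (LP (LK LD1_c3 LD2_c56 LD3_c27)) = (LP (LK LD1_c3 LD2_c56 LD3_c24)) :=
  Lgr Lrot4 (Lpe (K28.f11349 IH) (Lpr_ff (f528169 IH) (Lpe (K29.f451966 IH) (Lpn (LP (LK LD1_c3 LD2_c56 LD3_c24))))))
theorem f528181 : Led Lsl_ff (LP (LK LD1_c3 LD2_c56 LD3_c27)) = (LP (LK LD1_c3 LD2_c56 LD3_c24)) :=
  Lgr Lrot3 (Lpr_ft (f528173 IH) (Lpn (LP (LK LD1_c3 LD2_c56 LD3_c24))))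
theorem f528187 : Led Lsl_at (LP (LK LD1_c3 LD2_c56 LD3_c27)) = (LP (LK LD1_c3 LD2_c55 LD3_c27)) :=
  Lgr Lrot26 (Lpr_ff (f528181 IH) (Lpr_gt (K24.f458174 IH) (Lpr_gt (K32.f479810 IH) (Lpn (LP (LK LD1_c3 LD2_c55 LD3_c27))))))
theorem f528193 : Led Lsl_af (LP (LK LD1_c3 LD2_c54 LD3_c55)) = (LP (LK LD1_c1 LD2_c54 LD3_c18)) :=
  Lgr Lrot50 (Lpe (K33.f480126 IH) (Lpr_at (f528187 IH) (Lpr_et (K33.f463674 IH) (Lpn (LP (LK LD1_c1 LD2_c54 LD3_c18))))))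
def v891 : LQ := Led Lsl_ft (LP (LK LD1_c0 LD2_c53 LD3_c42))
theorem f490281 : Led Lsl_ft (LP (LK LD1_c0 LD2_c53 LD3_c42)) = v891 :=
  Lrfl
def v888 : LQ := Led Lsl_at (LP (LK LD1_c0 LD2_c53 LD3_c42))
theorem f490273 : Led Lsl_at (LP (LK LD1_c0 LD2_c53 LD3_c42)) = v888 :=
  Lrfl
theorem f490274 : Led Lsl_af (LP (LK LD1_c0 LD2_c53 LD3_c42)) = v888 :=
  Lgr Lrot0 (Lpr_at (f490273 IH) (Lpn v888))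
theorem f490275 : Led Lsl_ft (LP (LK LD1_c0 LD2_c53 LD3_c43)) = v888 :=
  Lgr Lrot2 (Lpr_gt (K29.f84791 IH) (Lpr_gt (K29.f84790 IH) (Lpr_af (f490274 IH) (Lpn v888))))
theorem f490282 : Led Lsl_af (LP (LK LD1_c0 LD2_c53 LD3_c43)) = v891 :=
  Lgr Lrot45 (Lpr_ft (f490275 IH) (Lpe (f490274 IH) (Lpr_ft (f490281 IH) (Lpn v891))))
theorem f528201 : (LP (LK LD1_c1 LD2_c54 LD3_c2)) = v891 :=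
  (Llr Lrot111 (Lpe (K33.f123379 IH) (Lpr_af (f528193 IH) (Lpe (K32.f437650 IH) (Lpr_af (f490282 IH) (Lpn v891)))))).symm
theorem f122786 : Led Lsl_ct (LP (LK LD1_c1 LD2_c54 LD3_c16)) = (LP (LK LD1_c0 LD2_c53 LD3_c42)) :=
  Lre_c IH (LK LD1_c1 LD2_c54 LD3_c16) (LK LD1_c0 LD2_c53 LD3_c42) Lrfl Lrfl
theorem f528208 : Led Lsl_ff (LP (LK LD1_c1 LD2_c54 LD3_c16)) = (LP (LK LD1_c3 LD2_c54 LD3_c55)) :=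
  Lgr Lrot23 (Lpr_ct (f122786 IH) (Lpr_ft (f490281 IH) (Lpq (f528201 IH) (Lpr_ct (K33.f123365 IH) (Lpn (LP (LK LD1_c3 LD2_c54 LD3_c55)))))))
theorem f528216 : Led Lsl_ft (LP (LK LD1_c1 LD2_c54 LD3_c16)) = (LP (LK LD1_c3 LD2_c54 LD3_c55)) :=
  Lgr Lrot48 (Lpr_ff (f528208 IH) (Lpn (LP (LK LD1_c3 LD2_c54 LD3_c55))))
theorem f6024 : Led Lsl_bt (LP (LK LD1_c3 LD2_c37 LD3_c10)) = (LP (LK LD1_c1 LD2_c45 LD3_c28)) :=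
  Lre_b IH (LK LD1_c3 LD2_c37 LD3_c10) (LK LD1_c1 LD2_c45 LD3_c28) Lrfl Lrfl
theorem f487861 : Led Lsl_bt (LP (LK LD1_c3 LD2_c54 LD3_c55)) = (LP (LK LD1_c7 LD2_c14 LD3_c48)) :=
  Lgr Lrot128 (Lpe (K33.f123365 IH) (Lpr_bf (K33.f487857 IH) (Lpe (K33.f487828 IH) (Lpe (f6024 IH) (Lpe (K33.f6037 IH) (Lpn (LP (LK LD1_c7 LD2_c14 LD3_c48))))))))
theorem f528218 : Led Lsl_ff (LP (LK LD1_c3 LD2_c55 LD3_c23)) = (LP (LK LD1_c7 LD2_c14 LD3_c48)) :=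
  Lgr Lrot25 (Lpr_bt (K34.f456618 IH) (Lpr_ft (f528216 IH) (Lpr_bt (f487861 IH) (Lpn (LP (LK LD1_c7 LD2_c14 LD3_c48))))))
theorem f6025 : Led Lsl_ct (LP (LK LD1_c3 LD2_c37 LD3_c10)) = (LP (LK LD1_c7 LD2_c14 LD3_c48)) :=
  Lre_c IH (LK LD1_c3 LD2_c37 LD3_c10) (LK LD1_c7 LD2_c14 LD3_c48) Lrfl Lrfl
theorem f528279 : Led Lsl_ft (LP (LK LD1_c7 LD2_c13 LD3_c0)) = (LP (LK LD1_c3 LD2_c37 LD3_c10)) :=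
  Lgr Lrot4 (Lpe (K34.f456626 IH) (Lpr_ff (f528218 IH) (Lpe (f6025 IH) (Lpn (LP (LK LD1_c3 LD2_c37 LD3_c10))))))
theorem f456619 : Led Lsl_bt (LP (LK LD1_c3 LD2_c36 LD3_c19)) = (LP (LK LD1_c7 LD2_c13 LD3_c0)) :=
  Lre_b IH (LK LD1_c3 LD2_c36 LD3_c19) (LK LD1_c7 LD2_c13 LD3_c0) Lrfl Lrfl
def v2438 : LQ := Led Lsl_at (LP (LK LD1_c1 LD2_c45 LD3_c27))
theorem f519748 : Led Lsl_at (LP (LK LD1_c1 LD2_c45 LD3_c27)) = v2438 :=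
  Lrfl
theorem f519749 : Led Lsl_af (LP (LK LD1_c1 LD2_c45 LD3_c27)) = v2438 :=
  Lgr Lrot0 (Lpr_at (f519748 IH) (Lpn v2438))
theorem f6015 : Led Lsl_gt (LP (LK LD1_c0 LD2_c49 LD3_c24)) = (LP (LK LD1_c1 LD2_c45 LD3_c27)) :=
  Lre_g IH (LK LD1_c0 LD2_c49 LD3_c24) (LK LD1_c1 LD2_c45 LD3_c27) Lrfl Lrfl
theorem f519750 : Led Lsl_ft (LP (LK LD1_c1 LD2_c45 LD3_c28)) = v2438 :=
  Lgr Lrot2 (Lpr_gt (K33.f6023 IH) (Lpr_gt (f6015 IH) (Lpr_af (f519749 IH) (Lpn v2438))))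
theorem f528285 : (LP (LK LD1_c3 LD2_c36 LD3_c19)) = v2438 :=
  (Llr Lrot61 (Lpr_bt (f456619 IH) (Lpr_ft (f528279 IH) (Lpr_bt (f6024 IH) (Lpr_ft (f519750 IH) (Lpn v2438)))))).symm
theorem f528290 : Led Lsl_ff (LP (LK LD1_c1 LD2_c51 LD3_c38)) = (LP (LK LD1_c1 LD2_c54 LD3_c15)) :=
  Lgr Lrot23 (Lpe (K33.f487830 IH) (Lpr_ft (f519750 IH) (Lpq (f528285 IH) (Lpe (K29.f456622 IH) (Lpn (LP (LK LD1_c1 LD2_c54 LD3_c15)))))))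
theorem f528430 : Led Lsl_at (LP (LK LD1_c1 LD2_c51 LD3_c38)) = (LP (LK LD1_c3 LD2_c49 LD3_c1)) :=
  Lgr Lrot26 (Lpr_ff (f528290 IH) (Lpe (K29.f480912 IH) (Lpr_gt (K33.f477607 IH) (Lpn (LP (LK LD1_c3 LD2_c49 LD3_c1))))))
def v2440 : LQ := Led Lsl_ft (LP (LK LD1_c1 LD2_c45 LD3_c27))
theorem f519756 : Led Lsl_ft (LP (LK LD1_c1 LD2_c45 LD3_c27)) = v2440 :=
  Lrfl
theorem f519757 : Led Lsl_af (LP (LK LD1_c1 LD2_c45 LD3_c28)) = v2440 :=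
  Lgr Lrot45 (Lpr_ft (f519750 IH) (Lpe (f519749 IH) (Lpr_ft (f519756 IH) (Lpn v2440))))
theorem f528434 : v2440 = (LP (LK LD1_c3 LD2_c36 LD3_c20)) :=
  (Llr Lrot68 (Lpe (f519757 IH) (Lpr_ct (K33.f487828 IH) (Lpr_at (f528430 IH) (Lpe (K29.f477625 IH) (Lpn (LP (LK LD1_c3 LD2_c36 LD3_c20)))))))).symm
theorem f467440 : Led Lsl_dt (LP (LK LD1_c3 LD2_c37 LD3_c9)) = (LP (LK LD1_c1 LD2_c45 LD3_c27)) :=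
  Lre_d IH (LK LD1_c3 LD2_c37 LD3_c9) (LK LD1_c1 LD2_c45 LD3_c27) Lrfl Lrfl
theorem f6624 : Led Lsl_dt (LP (LK LD1_c3 LD2_c36 LD3_c20)) = (LP (LK LD1_c7 LD2_c13 LD3_c3)) :=
  Lre_d IH (LK LD1_c3 LD2_c36 LD3_c20) (LK LD1_c7 LD2_c13 LD3_c3) Lrfl Lrfl
theorem f528443 : Led Lsl_ff (LP (LK LD1_c3 LD2_c37 LD3_c9)) = (LP (LK LD1_c7 LD2_c13 LD3_c3)) :=
  Lgr Lrot19 (Lpr_dt (f467440 IH) (Lpr_ft (f519756 IH) (Lpqs (f528434 IH) (Lpr_dt (f6624 IH) (Lpn (LP (LK LD1_c7 LD2_c13 LD3_c3)))))))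
theorem f528455 : Led Lsl_ft (LP (LK LD1_c3 LD2_c37 LD3_c9)) = (LP (LK LD1_c7 LD2_c13 LD3_c3)) :=
  Lgr Lrot48 (Lpr_ff (f528443 IH) (Lpn (LP (LK LD1_c7 LD2_c13 LD3_c3))))
theorem f525035 : Led Lsl_bt (LP (LK LD1_c7 LD2_c14 LD3_c41)) = (LP (LK LD1_c3 LD2_c37 LD3_c9)) :=
  Lre_b IH (LK LD1_c7 LD2_c14 LD3_c41) (LK LD1_c3 LD2_c37 LD3_c9) Lrfl Lrfl
theorem f488174 : Led Lsl_bt (LP (LK LD1_c7 LD2_c13 LD3_c3)) = (LP (LK LD1_c13 LD2_c39 LD3_c43)) :=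
  Lre_b IH (LK LD1_c7 LD2_c13 LD3_c3) (LK LD1_c13 LD2_c39 LD3_c43) Lrfl Lrfl
theorem f528462 : Led Lsl_ff (LP (LK LD1_c7 LD2_c14 LD3_c41)) = (LP (LK LD1_c13 LD2_c39 LD3_c43)) :=
  Lgr Lrot25 (Lpr_bt (f525035 IH) (Lpr_ft (f528455 IH) (Lpr_bt (f488174 IH) (Lpn (LP (LK LD1_c13 LD2_c39 LD3_c43))))))
theorem f476958 : Led Lsl_dt (LP (LK LD1_c7 LD2_c14 LD3_c41)) = (LP (LK LD1_c3 LD2_c37 LD3_c8)) :=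
  Lre_d IH (LK LD1_c7 LD2_c14 LD3_c41) (LK LD1_c3 LD2_c37 LD3_c8) Lrfl Lrfl
theorem f467022 : Led Lsl_dt (LP (LK LD1_c7 LD2_c13 LD3_c2)) = (LP (LK LD1_c13 LD2_c39 LD3_c43)) :=
  Lre_d IH (LK LD1_c7 LD2_c13 LD3_c2) (LK LD1_c13 LD2_c39 LD3_c43) Lrfl Lrfl
theorem f528646 : Led Lsl_ft (LP (LK LD1_c3 LD2_c37 LD3_c8)) = (LP (LK LD1_c7 LD2_c13 LD3_c2)) :=
  Lgr Lrot54 (Lpe (f476958 IH) (Lpr_ff (f528462 IH) (Lpe (f467022 IH) (Lpn (LP (LK LD1_c7 LD2_c13 LD3_c2))))))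
theorem f528651 : Led Lsl_ff (LP (LK LD1_c6 LD2_c55 LD3_c33)) = (LP (LK LD1_c7 LD2_c34 LD3_c55)) :=
  Lgr Lrot23 (Lpr_ct (K33.f476949 IH) (Lpr_ft (f528646 IH) (Lpr_ct (K33.f467010 IH) (Lpn (LP (LK LD1_c7 LD2_c34 LD3_c55))))))
theorem f528659 : Led Lsl_ft (LP (LK LD1_c6 LD2_c55 LD3_c33)) = (LP (LK LD1_c7 LD2_c34 LD3_c55)) :=
  Lgr Lrot48 (Lpr_ff (f528651 IH) (Lpn (LP (LK LD1_c7 LD2_c34 LD3_c55))))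
theorem f528680 : Led Lsl_ff (LP (LK LD1_c3 LD2_c26 LD3_c52)) = (LP (LK LD1_c3 LD2_c55 LD3_c44)) :=
  Lgr Lrot25 (Lpr_bt (K33.f476948 IH) (Lpr_ft (f528659 IH) (Lpe (K33.f480714 IH) (Lpn (LP (LK LD1_c3 LD2_c55 LD3_c44))))))
theorem f528686 : Led Lsl_at (LP (LK LD1_c3 LD2_c26 LD3_c52)) = (LP (LK LD1_c3 LD2_c55 LD3_c43)) :=
  Lgr Lrot26 (Lpr_ff (f528680 IH) (Lpr_gt (K29.f12223 IH) (Lpr_gt (K33.f12224 IH) (Lpn (LP (LK LD1_c3 LD2_c55 LD3_c43))))))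
theorem f528692 : Led Lsl_af (LP (LK LD1_c3 LD2_c49 LD3_c11)) = (LP (LK LD1_c3 LD2_c47 LD3_c8)) :=
  Lgr Lrot68 (Lpe (K29.f476945 IH) (Lpr_at (f528686 IH) (Lpr_ct (K33.f485437 IH) (Lpn (LP (LK LD1_c3 LD2_c47 LD3_c8))))))
theorem f528682 : Led Lsl_ft (LP (LK LD1_c3 LD2_c49 LD3_c11)) = (LP (LK LD1_c3 LD2_c47 LD3_c9)) :=
  Lgr Lrot4 (Lpe (K33.f476951 IH) (Lpr_ff (f528680 IH) (Lpr_cf (K29.f480716 IH) (Lpn (LP (LK LD1_c3 LD2_c47 LD3_c9))))))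
theorem f490283 : Led Lsl_ff (LP (LK LD1_c0 LD2_c53 LD3_c42)) = v891 :=
  Lgr Lrot3 (Lpr_ft (f490281 IH) (Lpn v891))
theorem f490276 : Led Lsl_ff (LP (LK LD1_c0 LD2_c53 LD3_c43)) = v888 :=
  Lgr Lrot3 (Lpr_ft (f490275 IH) (Lpn v888))
theorem f490284 : Led Lsl_at (LP (LK LD1_c0 LD2_c53 LD3_c43)) = v891 :=
  Lgr Lrot66 (Lpr_ff (f490276 IH) (Lpe (f490273 IH) (Lpr_ff (f490283 IH) (Lpn v891))))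
theorem f528432 : Led Lsl_af (LP (LK LD1_c1 LD2_c54 LD3_c17)) = (LP (LK LD1_c3 LD2_c47 LD3_c9)) :=
  Lgr Lrot36 (Lpr_bt (K29.f437651 IH) (Lpr_at (f490284 IH) (Lpq (f528201 IH) (Lpr_bt (K33.f487859 IH) (Lpr_at (f528430 IH) (Lpe (K29.f479179 IH) (Lpn (LP (LK LD1_c3 LD2_c47 LD3_c9)))))))))
theorem f528727 : Led Lsl_ft (LP (LK LD1_c1 LD2_c54 LD3_c17)) = (LP (LK LD1_c3 LD2_c47 LD3_c8)) :=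
  Lgr Lrot101 (Lpr_af (f528432 IH) (Lpe (f528682 IH) (Lpr_af (f528692 IH) (Lpn (LP (LK LD1_c3 LD2_c47 LD3_c8))))))
theorem f437629 : Led Lsl_ct (LP (LK LD1_c1 LD2_c54 LD3_c1)) = (LP (LK LD1_c3 LD2_c54 LD3_c54)) :=
  Lre_c IH (LK LD1_c1 LD2_c54 LD3_c1) (LK LD1_c3 LD2_c54 LD3_c54) Lrfl Lrfl
theorem f485439 : Led Lsl_bf (LP (LK LD1_c1 LD2_c54 LD3_c1)) = (LP (LK LD1_c3 LD2_c47 LD3_c8)) :=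
  Lgr Lrot90 (Lpr_ct (f437629 IH) (Lpr_bt (K33.f485130 IH) (Lpe (K33.f485355 IH) (Lpr_bt (K33.f12242 IH) (Lpr_ct (K33.f485437 IH) (Lpn (LP (LK LD1_c3 LD2_c47 LD3_c8))))))))
theorem f528733 : v888 = (LP (LK LD1_c1 LD2_c54 LD3_c1)) :=
  (Llr Lrot25 (Lpe (f490276 IH) (Lpr_bt (K29.f463684 IH) (Lpr_ft (f528727 IH) (Lpe (f485439 IH) (Lpn (LP (LK LD1_c1 LD2_c54 LD3_c1)))))))).symm
theorem f528738 : Led Lsl_ft (LP (LK LD1_c1 LD2_c54 LD3_c18)) = (LP (LK LD1_c3 LD2_c54 LD3_c54)) :=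
  Lgr Lrot4 (Lpe (K32.f437650 IH) (Lpr_ff (f490276 IH) (Lpqs (f528733 IH) (Lpe (K33.f123380 IH) (Lpn (LP (LK LD1_c3 LD2_c54 LD3_c54)))))))
theorem f463681 : Led Lsl_dt (LP (LK LD1_c3 LD2_c55 LD3_c26)) = (LP (LK LD1_c1 LD2_c54 LD3_c18)) :=
  Lre_d IH (LK LD1_c3 LD2_c55 LD3_c26) (LK LD1_c1 LD2_c54 LD3_c18) Lrfl Lrfl
theorem f484636 : Led Lsl_dt (LP (LK LD1_c3 LD2_c54 LD3_c54)) = (LP (LK LD1_c7 LD2_c51 LD3_c29)) :=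
  Lre_d IH (LK LD1_c3 LD2_c54 LD3_c54) (LK LD1_c7 LD2_c51 LD3_c29) Lrfl Lrfl
theorem f528744 : Led Lsl_ff (LP (LK LD1_c3 LD2_c55 LD3_c26)) = (LP (LK LD1_c7 LD2_c51 LD3_c29)) :=
  Lgr Lrot19 (Lpr_dt (f463681 IH) (Lpr_ft (f528738 IH) (Lpr_dt (f484636 IH) (Lpn (LP (LK LD1_c7 LD2_c51 LD3_c29))))))
theorem f209160 : Led Lsl_et (LP (LK LD1_c7 LD2_c27 LD3_c60)) = (LP (LK LD1_c3 LD2_c43 LD3_c40)) :=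
  Lre_e IH (LK LD1_c7 LD2_c27 LD3_c60) (LK LD1_c3 LD2_c43 LD3_c40) Lrfl Lrfl
theorem f209161 : Led Lsl_dt (LP (LK LD1_c7 LD2_c27 LD3_c60)) = (LP (LK LD1_c14 LD2_c5 LD3_c45)) :=
  Lre_d IH (LK LD1_c7 LD2_c27 LD3_c60) (LK LD1_c14 LD2_c5 LD3_c45) Lrfl Lrfl
theorem f484644 : Led Lsl_gf (LP (LK LD1_c14 LD2_c5 LD3_c45)) = (LP (LK LD1_c7 LD2_c51 LD3_c29)) :=
  Lgr Lrot134 (Lpe (f209161 IH) (Lpr_et (f209160 IH) (Lpr_gt (K28.f209147 IH) (Lpe (K28.f132078 IH) (Lpr_dt (K5.f12837 IH) (Lpe (K5.f131694 IH) (Lpe (K5.f91719 IH) (Lpr_et (K33.f128041 IH) (Lpr_gt (K33.f484634 IH) (Lpr_dt (f484636 IH) (Lpn (LP (LK LD1_c7 LD2_c51 LD3_c29)))))))))))))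
theorem f468264 : Led Lsl_et (LP (LK LD1_c3 LD2_c31 LD3_c37)) = (LP (LK LD1_c3 LD2_c41 LD3_c8)) :=
  Lgr Lrot74 (Lpe (K28.f468263 IH) (Lpr_ef (K28.f468259 IH) (Lpe (K34.f209163 IH) (Lpn (LP (LK LD1_c3 LD2_c41 LD3_c8))))))
theorem f456239 : Led Lsl_dt (LP (LK LD1_c3 LD2_c54 LD3_c55)) = (LP (LK LD1_c7 LD2_c51 LD3_c30)) :=
  Lre_d IH (LK LD1_c3 LD2_c54 LD3_c55) (LK LD1_c7 LD2_c51 LD3_c30) Lrfl Lrfl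
theorem f480133 : Led Lsl_gt (LP (LK LD1_c14 LD2_c5 LD3_c45)) = (LP (LK LD1_c7 LD2_c51 LD3_c30)) :=
  Lgr Lrot112 (Lpe (f209161 IH) (Lpr_et (f209160 IH) (Lpe (K28.f209148 IH) (Lpe (f468264 IH) (Lpr_dt (K28.f459185 IH) (Lpe (K28.f469618 IH) (Lpr_df (K28.f469621 IH) (Lpe (K28.f11350 IH) (Lpr_ef (K33.f480126 IH) (Lpr_dt (f456239 IH) (Lpn (LP (LK LD1_c7 LD2_c51 LD3_c30)))))))))))))
theorem f528755 : Led Lsl_at (LP (LK LD1_c3 LD2_c55 LD3_c26)) = (LP (LK LD1_c7 LD2_c51 LD3_c30)) :=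
  Lgr Lrot26 (Lpr_ff (f528744 IH) (Lpe (f484644 IH) (Lpr_gt (f480133 IH) (Lpn (LP (LK LD1_c7 LD2_c51 LD3_c30))))))
theorem f480916 : Led Lsl_dt (LP (LK LD1_c3 LD2_c55 LD3_c24)) = (LP (LK LD1_c1 LD2_c54 LD3_c16)) :=
  Lre_d IH (LK LD1_c3 LD2_c55 LD3_c24) (LK LD1_c1 LD2_c54 LD3_c16) Lrfl Lrfl
theorem f528220 : Led Lsl_ff (LP (LK LD1_c3 LD2_c55 LD3_c24)) = (LP (LK LD1_c7 LD2_c51 LD3_c30)) :=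
  Lgr Lrot19 (Lpr_dt (f480916 IH) (Lpr_ft (f528216 IH) (Lpr_dt (f456239 IH) (Lpn (LP (LK LD1_c7 LD2_c51 LD3_c30))))))
theorem f528761 : Led Lsl_af (LP (LK LD1_c7 LD2_c51 LD3_c29)) = (LP (LK LD1_c3 LD2_c55 LD3_c24)) :=
  Lgr Lrot45 (Lpe (f528744 IH) (Lpr_at (f528755 IH) (Lpe (f528220 IH) (Lpn (LP (LK LD1_c3 LD2_c55 LD3_c24))))))
theorem f484637 : Led Lsl_et (LP (LK LD1_c7 LD2_c51 LD3_c29)) = (LP (LK LD1_c14 LD2_c49 LD3_c24)) :=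
  Lre_e IH (LK LD1_c7 LD2_c51 LD3_c29) (LK LD1_c14 LD2_c49 LD3_c24) Lrfl Lrfl
theorem f480970 : Led Lsl_et (LP (LK LD1_c7 LD2_c52 LD3_c42)) = (LP (LK LD1_c3 LD2_c55 LD3_c24)) :=
  Lre_e IH (LK LD1_c7 LD2_c52 LD3_c42) (LK LD1_c3 LD2_c55 LD3_c24) Lrfl Lrfl
theorem f528767 : Led Lsl_at (LP (LK LD1_c14 LD2_c49 LD3_c24)) = (LP (LK LD1_c7 LD2_c52 LD3_c42)) :=
  Lgr Lrot80 (Lpe (f484637 IH) (Lpr_af (f528761 IH) (Lpe (f480970 IH) (Lpn (LP (LK LD1_c7 LD2_c52 LD3_c42))))))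
theorem f485502 : Led Lsl_ft (LP (LK LD1_c24 LD2_c35 LD3_c45)) = (LP (LK LD1_c14 LD2_c49 LD3_c24)) :=
  Lre_f IH (LK LD1_c24 LD2_c35 LD3_c45) (LK LD1_c14 LD2_c49 LD3_c24) Lrfl Lrfl
theorem f528227 : Led Lsl_ft (LP (LK LD1_c7 LD2_c52 LD3_c42)) = (LP (LK LD1_c14 LD2_c51 LD3_c45)) :=
  Lre_f IH (LK LD1_c7 LD2_c52 LD3_c42) (LK LD1_c14 LD2_c51 LD3_c45) Lrfl Lrfl
theorem f528772 : Led Lsl_af (LP (LK LD1_c24 LD2_c35 LD3_c45)) = (LP (LK LD1_c14 LD2_c51 LD3_c45)) :=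
  Lgr Lrot45 (Lpr_ft (f485502 IH) (Lpr_at (f528767 IH) (Lpr_ft (f528227 IH) (Lpn (LP (LK LD1_c14 LD2_c51 LD3_c45))))))
theorem f528782 : Led Lsl_at (LP (LK LD1_c24 LD2_c35 LD3_c45)) = (LP (LK LD1_c14 LD2_c51 LD3_c45)) :=
  Lgr Lrot100 (Lpr_af (f528772 IH) (Lpn (LP (LK LD1_c14 LD2_c51 LD3_c45))))
theorem f463685 : Led Lsl_et (LP (LK LD1_c3 LD2_c55 LD3_c26)) = (LP (LK LD1_c7 LD2_c52 LD3_c46)) :=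
  Lre_e IH (LK LD1_c3 LD2_c55 LD3_c26) (LK LD1_c7 LD2_c52 LD3_c46) Lrfl Lrfl
theorem f469548 : Led Lsl_ft (LP (LK LD1_c7 LD2_c52 LD3_c46)) = (LP (LK LD1_c14 LD2_c51 LD3_c57)) :=
  Lre_f IH (LK LD1_c7 LD2_c52 LD3_c46) (LK LD1_c14 LD2_c51 LD3_c57) Lrfl Lrfl
theorem f484647 : Led Lsl_et (LP (LK LD1_c14 LD2_c49 LD3_c24)) = (LP (LK LD1_c7 LD2_c51 LD3_c29)) :=
  Lre_e IH (LK LD1_c14 LD2_c49 LD3_c24) (LK LD1_c7 LD2_c51 LD3_c29) Lrfl Lrfl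
theorem f528751 : Led Lsl_et (LP (LK LD1_c14 LD2_c51 LD3_c57)) = (LP (LK LD1_c24 LD2_c35 LD3_c45)) :=
  Lgr Lrot69 (Lpe (f469548 IH) (Lpe (f463685 IH) (Lpr_ff (f528744 IH) (Lpe (f484647 IH) (Lpe (f485502 IH) (Lpn (LP (LK LD1_c24 LD2_c35 LD3_c45))))))))
theorem f480917 : Led Lsl_et (LP (LK LD1_c3 LD2_c55 LD3_c24)) = (LP (LK LD1_c7 LD2_c52 LD3_c42)) :=
  Lre_e IH (LK LD1_c3 LD2_c55 LD3_c24) (LK LD1_c7 LD2_c52 LD3_c42) Lrfl Lrfl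
theorem f480130 : Led Lsl_et (LP (LK LD1_c14 LD2_c49 LD3_c26)) = (LP (LK LD1_c7 LD2_c51 LD3_c30)) :=
  Lre_e IH (LK LD1_c14 LD2_c49 LD3_c26) (LK LD1_c7 LD2_c51 LD3_c30) Lrfl Lrfl
theorem f480162 : Led Lsl_ft (LP (LK LD1_c24 LD2_c35 LD3_c48)) = (LP (LK LD1_c14 LD2_c49 LD3_c26)) :=
  Lre_f IH (LK LD1_c24 LD2_c35 LD3_c48) (LK LD1_c14 LD2_c49 LD3_c26) Lrfl Lrfl
theorem f528228 : Led Lsl_et (LP (LK LD1_c14 LD2_c51 LD3_c45)) = (LP (LK LD1_c24 LD2_c35 LD3_c48)) :=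
  Lgr Lrot69 (Lpe (f528227 IH) (Lpe (f480917 IH) (Lpr_ff (f528220 IH) (Lpe (f480130 IH) (Lpe (f480162 IH) (Lpn (LP (LK LD1_c24 LD2_c35 LD3_c48))))))))
theorem f528789 : Led Lsl_af (LP (LK LD1_c14 LD2_c51 LD3_c57)) = (LP (LK LD1_c24 LD2_c35 LD3_c48)) :=
  Lgr Lrot50 (Lpr_et (f528751 IH) (Lpr_at (f528782 IH) (Lpr_et (f528228 IH) (Lpn (LP (LK LD1_c24 LD2_c35 LD3_c48))))))
theorem f528801 : Led Lsl_ft (LP (LK LD1_c14 LD2_c51 LD3_c57)) = (LP (LK LD1_c7 LD2_c52 LD3_c46)) :=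
  Lre_f IH (LK LD1_c14 LD2_c51 LD3_c57) (LK LD1_c7 LD2_c52 LD3_c46) Lrfl Lrfl
theorem f480153 : Led Lsl_ft (LP (LK LD1_c14 LD2_c49 LD3_c26)) = (LP (LK LD1_c24 LD2_c35 LD3_c48)) :=
  Lre_f IH (LK LD1_c14 LD2_c49 LD3_c26) (LK LD1_c24 LD2_c35 LD3_c48) Lrfl Lrfl
theorem f528802 : Led Lsl_at (LP (LK LD1_c7 LD2_c52 LD3_c46)) = (LP (LK LD1_c14 LD2_c49 LD3_c26)) :=
  Lgr Lrot66 (Lpe (f528801 IH) (Lpr_af (f528789 IH) (Lpe (f480153 IH) (Lpn (LP (LK LD1_c14 LD2_c49 LD3_c26))))))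
theorem f463678 : Led Lsl_dt (LP (LK LD1_c14 LD2_c51 LD3_c56)) = (LP (LK LD1_c7 LD2_c52 LD3_c46)) :=
  Lre_d IH (LK LD1_c14 LD2_c51 LD3_c56) (LK LD1_c7 LD2_c52 LD3_c46) Lrfl Lrfl
theorem f480027 : Led Lsl_et (LP (LK LD1_c14 LD2_c55 LD3_c18)) = (LP (LK LD1_c7 LD2_c54 LD3_c38)) :=
  Lre_e IH (LK LD1_c14 LD2_c55 LD3_c18) (LK LD1_c7 LD2_c54 LD3_c38) Lrfl Lrfl
theorem f476767 : Led Lsl_et (LP (LK LD1_c7 LD2_c51 LD3_c30)) = (LP (LK LD1_c14 LD2_c49 LD3_c26)) :=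
  Lre_e IH (LK LD1_c7 LD2_c51 LD3_c30) (LK LD1_c14 LD2_c49 LD3_c26) Lrfl Lrfl
theorem f480124 : Led Lsl_df (LP (LK LD1_c14 LD2_c55 LD3_c18)) = (LP (LK LD1_c14 LD2_c49 LD3_c26)) :=
  Lgr Lrot70 (Lpr_et (f480027 IH) (Lpr_dt (K33.f462838 IH) (Lpr_et (K33.f480120 IH) (Lpr_dt (f456239 IH) (Lpr_et (f476767 IH) (Lpn (LP (LK LD1_c14 LD2_c49 LD3_c26))))))))
theorem f528814 : Led Lsl_af (LP (LK LD1_c14 LD2_c51 LD3_c56)) = (LP (LK LD1_c14 LD2_c55 LD3_c18)) :=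
  Lgr Lrot117 (Lpr_dt (f463678 IH) (Lpr_at (f528802 IH) (Lpe (f480124 IH) (Lpn (LP (LK LD1_c14 LD2_c55 LD3_c18))))))
theorem f469536 : Led Lsl_et (LP (LK LD1_c7 LD2_c52 LD3_c48)) = (LP (LK LD1_c14 LD2_c51 LD3_c56)) :=
  Lre_e IH (LK LD1_c7 LD2_c52 LD3_c48) (LK LD1_c14 LD2_c51 LD3_c56) Lrfl Lrfl
theorem f459057 : Led Lsl_et (LP (LK LD1_c22 LD2_c44 LD3_c58)) = (LP (LK LD1_c13 LD2_c25 LD3_c44)) :=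
  Lre_e IH (LK LD1_c22 LD2_c44 LD3_c58) (LK LD1_c13 LD2_c25 LD3_c44) Lrfl Lrfl
theorem f469537 : Led Lsl_ct (LP (LK LD1_c14 LD2_c51 LD3_c56)) = (LP (LK LD1_c22 LD2_c44 LD3_c58)) :=
  Lgr Lrot15 (Lpe (f469536 IH) (Lpr_cf (K33.f469532 IH) (Lpe (f459057 IH) (Lpn (LP (LK LD1_c22 LD2_c44 LD3_c58))))))
theorem f469527 : Led Lsl_et (LP (LK LD1_c7 LD2_c54 LD3_c38)) = (LP (LK LD1_c14 LD2_c55 LD3_c18)) :=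
  Lre_e IH (LK LD1_c7 LD2_c54 LD3_c38) (LK LD1_c14 LD2_c55 LD3_c18) Lrfl Lrfl
theorem f459247 : Led Lsl_et (LP (LK LD1_c22 LD2_c43 LD3_c40)) = (LP (LK LD1_c13 LD2_c25 LD3_c0)) :=
  Lre_e IH (LK LD1_c22 LD2_c43 LD3_c40) (LK LD1_c13 LD2_c25 LD3_c0) Lrfl Lrfl
theorem f480032 : Led Lsl_ct (LP (LK LD1_c14 LD2_c55 LD3_c18)) = (LP (LK LD1_c22 LD2_c43 LD3_c40)) :=
  Lgr Lrot15 (Lpe (f469527 IH) (Lpr_cf (K33.f480020 IH) (Lpe (f459247 IH) (Lpn (LP (LK LD1_c22 LD2_c43 LD3_c40))))))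
theorem f480512 : Led Lsl_cf (LP (LK LD1_c14 LD2_c55 LD3_c18)) = (LP (LK LD1_c22 LD2_c43 LD3_c40)) :=
  Lgr Lrot11 (Lpr_ct (f480032 IH) (Lpn (LP (LK LD1_c22 LD2_c43 LD3_c40))))
theorem f528818 : Led Lsl_at (LP (LK LD1_c22 LD2_c44 LD3_c58)) = (LP (LK LD1_c22 LD2_c43 LD3_c40)) :=
  Lgr Lrot107 (Lpe (f469537 IH) (Lpr_af (f528814 IH) (Lpr_cf (f480512 IH) (Lpn (LP (LK LD1_c22 LD2_c43 LD3_c40))))))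
theorem f469563 : Led Lsl_et (LP (LK LD1_c13 LD2_c25 LD3_c44)) = (LP (LK LD1_c22 LD2_c44 LD3_c58)) :=
  Lre_e IH (LK LD1_c13 LD2_c25 LD3_c44) (LK LD1_c22 LD2_c44 LD3_c58) Lrfl Lrfl
theorem f528824 : Led Lsl_af (LP (LK LD1_c13 LD2_c25 LD3_c44)) = (LP (LK LD1_c13 LD2_c25 LD3_c0)) :=
  Lgr Lrot50 (Lpr_et (f469563 IH) (Lpr_at (f528818 IH) (Lpr_et (f459247 IH) (Lpn (LP (LK LD1_c13 LD2_c25 LD3_c0))))))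
theorem f528829 : Led Lsl_ft (LP (LK LD1_c13 LD2_c25 LD3_c43)) = (LP (LK LD1_c13 LD2_c25 LD3_c0)) :=
  Lgr Lrot2 (Lpr_gt (K29.f459169 IH) (Lpe (K33.f459049 IH) (Lpr_af (f528824 IH) (Lpn (LP (LK LD1_c13 LD2_c25 LD3_c0))))))
theorem f528833 : Led Lsl_ff (LP (LK LD1_c13 LD2_c25 LD3_c43)) = (LP (LK LD1_c13 LD2_c25 LD3_c0)) :=
  Lgr Lrot3 (Lpr_ft (f528829 IH) (Lpn (LP (LK LD1_c13 LD2_c25 LD3_c0))))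
theorem f528837 : Led Lsl_at (LP (LK LD1_c13 LD2_c25 LD3_c43)) = (LP (LK LD1_c13 LD2_c25 LD3_c1)) :=
  Lgr Lrot26 (Lpr_ff (f528833 IH) (Lpe (K33.f459241 IH) (Lpr_gt (K33.f459194 IH) (Lpn (LP (LK LD1_c13 LD2_c25 LD3_c1))))))
theorem f528826 : Led Lsl_at (LP (LK LD1_c13 LD2_c25 LD3_c44)) = (LP (LK LD1_c13 LD2_c25 LD3_c0)) :=
  Lgr Lrot100 (Lpr_af (f528824 IH) (Lpn (LP (LK LD1_c13 LD2_c25 LD3_c0))))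
theorem f528843 : Led Lsl_ff (LP (LK LD1_c13 LD2_c25 LD3_c44)) = (LP (LK LD1_c13 LD2_c25 LD3_c1)) :=
  Lgr Lrot30 (Lpr_at (f528826 IH) (Lpe (f528833 IH) (Lpr_at (f528837 IH) (Lpn (LP (LK LD1_c13 LD2_c25 LD3_c1))))))
theorem f528849 : Led Lsl_ft (LP (LK LD1_c13 LD2_c25 LD3_c44)) = (LP (LK LD1_c13 LD2_c25 LD3_c1)) :=
  Lgr Lrot48 (Lpr_ff (f528843 IH) (Lpn (LP (LK LD1_c13 LD2_c25 LD3_c1))))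
theorem f528853 : Led Lsl_ff (LP (LK LD1_c7 LD2_c52 LD3_c48)) = (LP (LK LD1_c7 LD2_c54 LD3_c40)) :=
  Lgr Lrot23 (Lpe (K32.f468287 IH) (Lpr_ft (f528849 IH) (Lpe (K33.f480083 IH) (Lpn (LP (LK LD1_c7 LD2_c54 LD3_c40))))))
theorem f451919 : Led Lsl_dt (LP (LK LD1_c3 LD2_c56 LD3_c28)) = (LP (LK LD1_c7 LD2_c54 LD3_c40)) :=
  Lre_d IH (LK LD1_c3 LD2_c56 LD3_c28) (LK LD1_c7 LD2_c54 LD3_c40) Lrfl Lrfl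
theorem f528859 : Led Lsl_ft (LP (LK LD1_c3 LD2_c55 LD3_c27)) = (LP (LK LD1_c3 LD2_c56 LD3_c28)) :=
  Lgr Lrot54 (Lpe (K32.f463658 IH) (Lpr_ff (f528853 IH) (Lpe (f451919 IH) (Lpn (LP (LK LD1_c3 LD2_c56 LD3_c28))))))
theorem f451921 : Led Lsl_bt (LP (LK LD1_c3 LD2_c56 LD3_c28)) = (LP (LK LD1_c7 LD2_c54 LD3_c39)) :=
  Lre_b IH (LK LD1_c3 LD2_c56 LD3_c28) (LK LD1_c7 LD2_c54 LD3_c39) Lrfl Lrfl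
theorem f528863 : Led Lsl_ff (LP (LK LD1_c7 LD2_c52 LD3_c44)) = (LP (LK LD1_c7 LD2_c54 LD3_c39)) :=
  Lgr Lrot25 (Lpr_bt (K32.f477140 IH) (Lpr_ft (f528859 IH) (Lpr_bt (f451921 IH) (Lpn (LP (LK LD1_c7 LD2_c54 LD3_c39))))))
theorem f528867 : Led Lsl_ft (LP (LK LD1_c7 LD2_c52 LD3_c44)) = (LP (LK LD1_c7 LD2_c54 LD3_c39)) :=
  Lgr Lrot48 (Lpr_ff (f528863 IH) (Lpn (LP (LK LD1_c7 LD2_c54 LD3_c39))))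
theorem f483788 : Led Lsl_bf (LP (LK LD1_c1 LD2_c54 LD3_c58)) = (LP (LK LD1_c3 LD2_c52 LD3_c39)) :=
  Lgr Lrot24 (Lpr_bt (K34.f483782 IH) (Lpn (LP (LK LD1_c3 LD2_c52 LD3_c39))))
theorem f451916 : Led Lsl_gf (LP (LK LD1_c1 LD2_c54 LD3_c58)) = (LP (LK LD1_c1 LD2_c54 LD3_c49)) :=
  Lgr Lrot47 (Lpr_gt (K33.f11344 IH) (Lpe (K28.f11330 IH) (Lpr_ff (K28.f451904 IH) (Lpn (LP (LK LD1_c1 LD2_c54 LD3_c49))))))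
theorem f452027 : Led Lsl_bt (LP (LK LD1_c1 LD2_c54 LD3_c49)) = (LP (LK LD1_c1 LD2_c54 LD3_c49)) :=
  Lgr Lrot95 (Lpe (K28.f11364 IH) (Lpr_bf (K28.f452023 IH) (Lpe (K28.f11374 IH) (Lpn (LP (LK LD1_c1 LD2_c54 LD3_c49))))))
theorem f468961 : Led Lsl_bt (LP (LK LD1_c1 LD2_c40 LD3_c24)) = (LP (LK LD1_c3 LD2_c27 LD3_c33)) :=
  Lre_b IH (LK LD1_c1 LD2_c40 LD3_c24) (LK LD1_c3 LD2_c27 LD3_c33) Lrfl Lrfl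
theorem f463946 : Led Lsl_gt (LP (LK LD1_c3 LD2_c27 LD3_c40)) = (LP (LK LD1_c6 LD2_c57 LD3_c32)) :=
  Lre_g IH (LK LD1_c3 LD2_c27 LD3_c40) (LK LD1_c6 LD2_c57 LD3_c32) Lrfl Lrfl
theorem f483800 : Led Lsl_cf (LP (LK LD1_c6 LD2_c57 LD3_c32)) = (LP (LK LD1_c3 LD2_c52 LD3_c39)) :=
  Lgr Lrot58 (Lpe (f463946 IH) (Lpe (K28.f446573 IH) (Lpr_bt (f468961 IH) (Lpe (K29.f457788 IH) (Lpe (K33.f479839 IH) (Lpr_ct (K33.f464630 IH) (Lpe (K33.f451343 IH) (Lpe (K28.f11379 IH) (Lpe (K33.f11344 IH) (Lpr_bf (f483788 IH) (Lpn (LP (LK LD1_c3 LD2_c52 LD3_c39)))))))))))))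
theorem f483802 : Led Lsl_gf (LP (LK LD1_c3 LD2_c27 LD3_c50)) = (LP (LK LD1_c6 LD2_c57 LD3_c32)) :=
  Lgr Lrot126 (Lpe (K28.f16714 IH) (Lpr_bt (K28.f98745 IH) (Lpr_gt (K33.f98820 IH) (Lpr_ct (K33.f464630 IH) (Lpr_gt (K33.f451950 IH) (Lpe (K28.f451918 IH) (Lpr_bt (f452027 IH) (Lpe (f451916 IH) (Lpr_bf (f483788 IH) (Lpe (f483800 IH) (Lpn (LP (LK LD1_c6 LD2_c57 LD3_c32)))))))))))))
theorem f483804 : Led Lsl_cf (LP (LK LD1_c3 LD2_c52 LD3_c39)) = (LP (LK LD1_c6 LD2_c57 LD3_c32)) :=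
  Lgr Lrot166 (Lpr_gt (K34.f473687 IH) (Lpe (K29.f473795 IH) (Lpr_gt (K28.f5743 IH) (Lpe (K28.f106119 IH) (Lpr_ct (K3.f91226 IH) (Lpe (K28.f91137 IH) (Lpe (K28.f464414 IH) (Lpe (K28.f98756 IH) (Lpr_gf (f483802 IH) (Lpn (LP (LK LD1_c6 LD2_c57 LD3_c32))))))))))))
theorem f483808 : Led Lsl_bt (LP (LK LD1_c13 LD2_c12 LD3_c52)) = (LP (LK LD1_c6 LD2_c57 LD3_c32)) :=
  Lre_b IH (LK LD1_c13 LD2_c12 LD3_c52) (LK LD1_c6 LD2_c57 LD3_c32) Lrfl Lrfl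
theorem f483820 : Led Lsl_ct (LP (LK LD1_c7 LD2_c54 LD3_c39)) = (LP (LK LD1_c13 LD2_c12 LD3_c52)) :=
  Lgr Lrot83 (Lpe (f451921 IH) (Lpe (K33.f11347 IH) (Lpr_bf (f483788 IH) (Lpr_cf (f483804 IH) (Lpe (f483808 IH) (Lpn (LP (LK LD1_c13 LD2_c12 LD3_c52))))))))
theorem f528869 : Led Lsl_ff (LP (LK LD1_c13 LD2_c9 LD3_c19)) = (LP (LK LD1_c13 LD2_c12 LD3_c52)) :=
  Lgr Lrot23 (Lpr_ct (K32.f477132 IH) (Lpr_ft (f528867 IH) (Lpr_ct (f483820 IH) (Lpn (LP (LK LD1_c13 LD2_c12 LD3_c52))))))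
theorem f483836 : Led Lsl_dt (LP (LK LD1_c22 LD2_c26 LD3_c51)) = (LP (LK LD1_c13 LD2_c12 LD3_c52)) :=
  Lre_d IH (LK LD1_c22 LD2_c26 LD3_c51) (LK LD1_c13 LD2_c12 LD3_c52) Lrfl Lrfl
theorem f528881 : Led Lsl_ft (LP (LK LD1_c22 LD2_c14 LD3_c9)) = (LP (LK LD1_c22 LD2_c26 LD3_c51)) :=
  Lgr Lrot54 (Lpr_df (K33.f479977 IH) (Lpr_ff (f528869 IH) (Lpe (f483836 IH) (Lpn (LP (LK LD1_c22 LD2_c26 LD3_c51))))))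
theorem f528887 : Led Lsl_ff (LP (LK LD1_c22 LD2_c14 LD3_c9)) = (LP (LK LD1_c22 LD2_c26 LD3_c51)) :=
  Lgr Lrot3 (Lpr_ft (f528881 IH) (Lpn (LP (LK LD1_c22 LD2_c26 LD3_c51))))
theorem f479916 : Led Lsl_bt (LP (LK LD1_c22 LD2_c14 LD3_c9)) = (LP (LK LD1_c13 LD2_c3 LD3_c55)) :=
  Lre_b IH (LK LD1_c22 LD2_c14 LD3_c9) (LK LD1_c13 LD2_c3 LD3_c55) Lrfl Lrfl
theorem f483817 : Led Lsl_bt (LP (LK LD1_c13 LD2_c12 LD3_c53)) = (LP (LK LD1_c22 LD2_c26 LD3_c51)) :=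
  Lre_b IH (LK LD1_c13 LD2_c12 LD3_c53) (LK LD1_c22 LD2_c26 LD3_c51) Lrfl Lrfl
theorem f528889 : Led Lsl_ft (LP (LK LD1_c13 LD2_c3 LD3_c55)) = (LP (LK LD1_c13 LD2_c12 LD3_c53)) :=
  Lgr Lrot75 (Lpe (f479916 IH) (Lpr_ff (f528887 IH) (Lpe (f483817 IH) (Lpn (LP (LK LD1_c13 LD2_c12 LD3_c53))))))
theorem f528895 : Led Lsl_af (LP (LK LD1_c13 LD2_c3 LD3_c56)) = (LP (LK LD1_c13 LD2_c12 LD3_c53)) :=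
  Lgr Lrot31 (Lpr_gf (K29.f476595 IH) (Lpr_gf (K32.f479879 IH) (Lpr_ft (f528889 IH) (Lpn (LP (LK LD1_c13 LD2_c12 LD3_c53))))))
theorem f463947 : Led Lsl_dt (LP (LK LD1_c6 LD2_c57 LD3_c32)) = (LP (LK LD1_c13 LD2_c12 LD3_c53)) :=
  Lre_d IH (LK LD1_c6 LD2_c57 LD3_c32) (LK LD1_c13 LD2_c12 LD3_c53) Lrfl Lrfl
theorem f528901 : Led Lsl_at (LP (LK LD1_c6 LD2_c57 LD3_c29)) = (LP (LK LD1_c6 LD2_c57 LD3_c32)) :=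
  Lgr Lrot51 (Lpe (K29.f479368 IH) (Lpr_af (f528895 IH) (Lpe (f463947 IH) (Lpn (LP (LK LD1_c6 LD2_c57 LD3_c32))))))
theorem f528913 : Led Lsl_ff (LP (LK LD1_c6 LD2_c57 LD3_c29)) = (LP (LK LD1_c6 LD2_c57 LD3_c33)) :=
  Lgr Lrot52 (Lpr_at (f528901 IH) (Lpe (f463946 IH) (Lpe (K29.f468980 IH) (Lpn (LP (LK LD1_c6 LD2_c57 LD3_c33))))))
theorem f528923 : Led Lsl_ft (LP (LK LD1_c6 LD2_c57 LD3_c29)) = (LP (LK LD1_c6 LD2_c57 LD3_c33)) :=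
  Lgr Lrot48 (Lpr_ff (f528913 IH) (Lpn (LP (LK LD1_c6 LD2_c57 LD3_c33))))
theorem f528931 : Led Lsl_ff (LP (LK LD1_c13 LD2_c3 LD3_c56)) = (LP (LK LD1_c13 LD2_c12 LD3_c55)) :=
  Lgr Lrot19 (Lpr_dt (K29.f479368 IH) (Lpr_ft (f528923 IH) (Lpr_dt (K29.f472943 IH) (Lpn (LP (LK LD1_c13 LD2_c12 LD3_c55))))))
theorem f528897 : Led Lsl_at (LP (LK LD1_c13 LD2_c3 LD3_c56)) = (LP (LK LD1_c13 LD2_c12 LD3_c53)) :=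
  Lgr Lrot100 (Lpr_af (f528895 IH) (Lpn (LP (LK LD1_c13 LD2_c12 LD3_c53))))
theorem f483815 : Led Lsl_bt (LP (LK LD1_c22 LD2_c26 LD3_c51)) = (LP (LK LD1_c13 LD2_c12 LD3_c53)) :=
  Lre_b IH (LK LD1_c22 LD2_c26 LD3_c51) (LK LD1_c13 LD2_c12 LD3_c53) Lrfl Lrfl
theorem f528885 : Led Lsl_ff (LP (LK LD1_c13 LD2_c3 LD3_c55)) = (LP (LK LD1_c13 LD2_c12 LD3_c53)) :=
  Lgr Lrot25 (Lpr_bt (K33.f479922 IH) (Lpr_ft (f528881 IH) (Lpr_bt (f483815 IH) (Lpn (LP (LK LD1_c13 LD2_c12 LD3_c53))))))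
theorem f528933 : Led Lsl_at (LP (LK LD1_c13 LD2_c3 LD3_c55)) = (LP (LK LD1_c13 LD2_c12 LD3_c55)) :=
  Lgr Lrot66 (Lpr_ff (f528885 IH) (Lpe (f528897 IH) (Lpr_ff (f528931 IH) (Lpn (LP (LK LD1_c13 LD2_c12 LD3_c55))))))
theorem f479917 : Led Lsl_et (LP (LK LD1_c22 LD2_c14 LD3_c11)) = (LP (LK LD1_c13 LD2_c3 LD3_c55)) :=
  Lre_e IH (LK LD1_c22 LD2_c14 LD3_c11) (LK LD1_c13 LD2_c3 LD3_c55) Lrfl Lrfl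
theorem f473537 : Led Lsl_et (LP (LK LD1_c13 LD2_c12 LD3_c55)) = (LP (LK LD1_c22 LD2_c26 LD3_c55)) :=
  Lre_e IH (LK LD1_c13 LD2_c12 LD3_c55) (LK LD1_c22 LD2_c26 LD3_c55) Lrfl Lrfl
theorem f528945 : Led Lsl_af (LP (LK LD1_c22 LD2_c14 LD3_c11)) = (LP (LK LD1_c22 LD2_c26 LD3_c55)) :=
  Lgr Lrot50 (Lpr_et (f479917 IH) (Lpr_at (f528933 IH) (Lpr_et (f473537 IH) (Lpn (LP (LK LD1_c22 LD2_c26 LD3_c55))))))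
theorem f439090 : Led Lsl_dt (LP (LK LD1_c3 LD2_c55 LD3_c44)) = (LP (LK LD1_c7 LD2_c53 LD3_c13)) :=
  Lre_d IH (LK LD1_c3 LD2_c55 LD3_c44) (LK LD1_c7 LD2_c53 LD3_c13) Lrfl Lrfl
theorem f439095 : Led Lsl_et (LP (LK LD1_c7 LD2_c53 LD3_c13)) = (LP (LK LD1_c14 LD2_c52 LD3_c41)) :=
  Lre_e IH (LK LD1_c7 LD2_c53 LD3_c13) (LK LD1_c14 LD2_c52 LD3_c41) Lrfl Lrfl
theorem f480681 : Led Lsl_et (LP (LK LD1_c22 LD2_c26 LD3_c55)) = (LP (LK LD1_c13 LD2_c12 LD3_c55)) :=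
  Lre_e IH (LK LD1_c22 LD2_c26 LD3_c55) (LK LD1_c13 LD2_c12 LD3_c55) Lrfl Lrfl
theorem f480710 : Led Lsl_dt (LP (LK LD1_c14 LD2_c52 LD3_c41)) = (LP (LK LD1_c22 LD2_c26 LD3_c55)) :=
  Lgr Lrot77 (Lpe (f439095 IH) (Lpe (f439090 IH) (Lpr_ef (K29.f480704 IH) (Lpe (K29.f468981 IH) (Lpe (f480681 IH) (Lpn (LP (LK LD1_c22 LD2_c26 LD3_c55))))))))
theorem f528949 : Led Lsl_at (LP (LK LD1_c13 LD2_c9 LD3_c20)) = (LP (LK LD1_c14 LD2_c52 LD3_c41)) :=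
  Lgr Lrot51 (Lpe (K33.f479935 IH) (Lpr_af (f528945 IH) (Lpe (f480710 IH) (Lpn (LP (LK LD1_c14 LD2_c52 LD3_c41))))))
theorem f477004 : Led Lsl_et (LP (LK LD1_c6 LD2_c55 LD3_c36)) = (LP (LK LD1_c13 LD2_c9 LD3_c20)) :=
  Lre_e IH (LK LD1_c6 LD2_c55 LD3_c36) (LK LD1_c13 LD2_c9 LD3_c20) Lrfl Lrfl
theorem f480718 : Led Lsl_et (LP (LK LD1_c14 LD2_c52 LD3_c41)) = (LP (LK LD1_c7 LD2_c53 LD3_c13)) :=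
  Lre_e IH (LK LD1_c14 LD2_c52 LD3_c41) (LK LD1_c7 LD2_c53 LD3_c13) Lrfl Lrfl
theorem f528953 : Led Lsl_af (LP (LK LD1_c6 LD2_c55 LD3_c36)) = (LP (LK LD1_c7 LD2_c53 LD3_c13)) :=
  Lgr Lrot50 (Lpr_et (f477004 IH) (Lpr_at (f528949 IH) (Lpr_et (f480718 IH) (Lpn (LP (LK LD1_c7 LD2_c53 LD3_c13))))))
theorem f455106 : Led Lsl_dt (LP (LK LD1_c3 LD2_c26 LD3_c52)) = (LP (LK LD1_c6 LD2_c55 LD3_c34)) :=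
  Lre_d IH (LK LD1_c3 LD2_c26 LD3_c52) (LK LD1_c6 LD2_c55 LD3_c34) Lrfl Lrfl
theorem f439094 : Led Lsl_dt (LP (LK LD1_c7 LD2_c53 LD3_c13)) = (LP (LK LD1_c3 LD2_c55 LD3_c44)) :=
  Lre_d IH (LK LD1_c7 LD2_c53 LD3_c13) (LK LD1_c3 LD2_c55 LD3_c44) Lrfl Lrfl
theorem f528684 : Led Lsl_ft (LP (LK LD1_c6 LD2_c55 LD3_c34)) = (LP (LK LD1_c7 LD2_c53 LD3_c13)) :=
  Lgr Lrot54 (Lpe (f455106 IH) (Lpr_ff (f528680 IH) (Lpe (f439094 IH) (Lpn (LP (LK LD1_c7 LD2_c53 LD3_c13))))))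
theorem f95077 : Led Lsl_dt (LP (LK LD1_c6 LD2_c55 LD3_c34)) = (LP (LK LD1_c3 LD2_c26 LD3_c52)) :=
  Lre_d IH (LK LD1_c6 LD2_c55 LD3_c34) (LK LD1_c3 LD2_c26 LD3_c52) Lrfl Lrfl
theorem f12237 : Led Lsl_dt (LP (LK LD1_c3 LD2_c55 LD3_c43)) = (LP (LK LD1_c7 LD2_c53 LD3_c12)) :=
  Lre_d IH (LK LD1_c3 LD2_c55 LD3_c43) (LK LD1_c7 LD2_c53 LD3_c12) Lrfl Lrfl
theorem f528694 : Led Lsl_af (LP (LK LD1_c6 LD2_c55 LD3_c34)) = (LP (LK LD1_c7 LD2_c53 LD3_c12)) :=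
  Lgr Lrot117 (Lpr_dt (f95077 IH) (Lpr_at (f528686 IH) (Lpr_dt (f12237 IH) (Lpn (LP (LK LD1_c7 LD2_c53 LD3_c12))))))
theorem f528960 : Led Lsl_ft (LP (LK LD1_c6 LD2_c55 LD3_c36)) = (LP (LK LD1_c7 LD2_c53 LD3_c12)) :=
  Lgr Lrot101 (Lpr_af (f528953 IH) (Lpe (f528684 IH) (Lpr_af (f528694 IH) (Lpn (LP (LK LD1_c7 LD2_c53 LD3_c12))))))
theorem f528967 : Led Lsl_ff (LP (LK LD1_c6 LD2_c55 LD3_c36)) = (LP (LK LD1_c7 LD2_c53 LD3_c12)) :=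
  Lgr Lrot3 (Lpr_ft (f528960 IH) (Lpn (LP (LK LD1_c7 LD2_c53 LD3_c12))))
theorem f528973 : Led Lsl_ft (LP (LK LD1_c3 LD2_c26 LD3_c53)) = (LP (LK LD1_c3 LD2_c55 LD3_c43)) :=
  Lgr Lrot54 (Lpe (K33.f455110 IH) (Lpr_ff (f528967 IH) (Lpe (f12237 IH) (Lpn (LP (LK LD1_c3 LD2_c55 LD3_c43))))))
theorem f528688 : Led Lsl_af (LP (LK LD1_c3 LD2_c26 LD3_c52)) = (LP (LK LD1_c3 LD2_c55 LD3_c43)) :=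
  Lgr Lrot0 (Lpr_at (f528686 IH) (Lpn (LP (LK LD1_c3 LD2_c55 LD3_c43))))
theorem f480706 : Led Lsl_bt (LP (LK LD1_c3 LD2_c55 LD3_c44)) = (LP (LK LD1_c7 LD2_c34 LD3_c55)) :=
  Lgr Lrot119 (Lpr_ef (K29.f480704 IH) (Lpe (K33.f468984 IH) (Lpe (K33.f477637 IH) (Lpn (LP (LK LD1_c7 LD2_c34 LD3_c55))))))
theorem f528657 : Led Lsl_ft (LP (LK LD1_c3 LD2_c26 LD3_c52)) = (LP (LK LD1_c3 LD2_c55 LD3_c44)) :=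
  Lgr Lrot75 (Lpe (K33.f476944 IH) (Lpr_ff (f528651 IH) (Lpe (f480706 IH) (Lpn (LP (LK LD1_c3 LD2_c55 LD3_c44))))))
theorem f528977 : Led Lsl_af (LP (LK LD1_c3 LD2_c26 LD3_c53)) = (LP (LK LD1_c3 LD2_c55 LD3_c44)) :=
  Lgr Lrot45 (Lpr_ft (f528973 IH) (Lpe (f528688 IH) (Lpr_ft (f528657 IH) (Lpn (LP (LK LD1_c3 LD2_c55 LD3_c44))))))
theorem f529067 : Led Lsl_at (LP (LK LD1_c1 LD2_c54 LD3_c17)) = (LP (LK LD1_c3 LD2_c47 LD3_c9)) :=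
  Lgr Lrot107 (Lpe (K32.f477009 IH) (Lpr_af (f528977 IH) (Lpr_cf (K29.f480716 IH) (Lpn (LP (LK LD1_c3 LD2_c47 LD3_c9))))))
theorem f529069 : Led Lsl_af (LP (LK LD1_c3 LD2_c52 LD3_c43)) = (LP (LK LD1_c3 LD2_c52 LD3_c40)) :=
  Lgr Lrot50 (Lpr_et (K33.f479823 IH) (Lpr_at (f529067 IH) (Lpr_et (K29.f479193 IH) (Lpn (LP (LK LD1_c3 LD2_c52 LD3_c40))))))
theorem f529079 : Led Lsl_at (LP (LK LD1_c3 LD2_c52 LD3_c43)) = (LP (LK LD1_c3 LD2_c52 LD3_c40)) :=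
  Lgr Lrot100 (Lpr_af (f529069 IH) (Lpn (LP (LK LD1_c3 LD2_c52 LD3_c40))))
theorem f529083 : Led Lsl_af (LP (LK LD1_c7 LD2_c3 LD3_c14)) = (LP (LK LD1_c7 LD2_c47 LD3_c6)) :=
  Lgr Lrot117 (Lpe (K33.f479872 IH) (Lpr_at (f529079 IH) (Lpr_dt (K29.f473533 IH) (Lpn (LP (LK LD1_c7 LD2_c47 LD3_c6))))))
theorem f529087 : Led Lsl_ft (LP (LK LD1_c7 LD2_c0 LD3_c15)) = (LP (LK LD1_c7 LD2_c47 LD3_c6)) :=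
  Lgr Lrot101 (Lpr_af (K34.f527959 IH) (Lpe (K34.f527967 IH) (Lpr_af (f529083 IH) (Lpn (LP (LK LD1_c7 LD2_c47 LD3_c6))))))
theorem f529089 : Led Lsl_ff (LP (LK LD1_c13 LD2_c3 LD3_c4)) = (LP (LK LD1_c13 LD2_c12 LD3_c45)) :=
  Lgr Lrot23 (Lpr_ct (K33.f473818 IH) (Lpr_ft (f529087 IH) (Lpe (K29.f479461 IH) (Lpn (LP (LK LD1_c13 LD2_c12 LD3_c45))))))
theorem f529093 : Led Lsl_ft (LP (LK LD1_c13 LD2_c3 LD3_c4)) = (LP (LK LD1_c13 LD2_c12 LD3_c45)) :=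
  Lgr Lrot48 (Lpr_ff (f529089 IH) (Lpn (LP (LK LD1_c13 LD2_c12 LD3_c45))))
theorem f529097 : Led Lsl_af (LP (LK LD1_c13 LD2_c4 LD3_c0)) = (LP (LK LD1_c13 LD2_c12 LD3_c45)) :=
  Lgr Lrot31 (Lpe (K29.f91512 IH) (Lpr_gf (K29.f479379 IH) (Lpr_ft (f529093 IH) (Lpn (LP (LK LD1_c13 LD2_c12 LD3_c45))))))
theorem f529099 : Led Lsl_at (LP (LK LD1_c13 LD2_c7 LD3_c45)) = (LP (LK LD1_c6 LD2_c57 LD3_c27)) :=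
  Lgr Lrot51 (Lpe (K32.f479426 IH) (Lpr_af (f529097 IH) (Lpe (K29.f472950 IH) (Lpn (LP (LK LD1_c6 LD2_c57 LD3_c27))))))
theorem f529105 : Led Lsl_ff (LP (LK LD1_c13 LD2_c7 LD3_c45)) = (LP (LK LD1_c6 LD2_c57 LD3_c26)) :=
  Lgr Lrot52 (Lpr_at (f529099 IH) (Lpr_gf (K29.f479457 IH) (Lpe (f488402 IH) (Lpn (LP (LK LD1_c6 LD2_c57 LD3_c26))))))
theorem f529111 : Led Lsl_ft (LP (LK LD1_c13 LD2_c4 LD3_c0)) = (LP (LK LD1_c6 LD2_c54 LD3_c12)) :=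
  Lgr Lrot54 (Lpr_df (K29.f479428 IH) (Lpr_ff (f529105 IH) (Lpe (f488361 IH) (Lpn (LP (LK LD1_c6 LD2_c54 LD3_c12))))))
theorem f529449 : Led Lsl_af (LP (LK LD1_c13 LD2_c3 LD3_c4)) = (LP (LK LD1_c6 LD2_c54 LD3_c12)) :=
  Lgr Lrot45 (Lpr_ft (f529093 IH) (Lpe (f529097 IH) (Lpr_ft (f529111 IH) (Lpn (LP (LK LD1_c6 LD2_c54 LD3_c12))))))
theorem f488369 : Led Lsl_et (LP (LK LD1_c3 LD2_c26 LD3_c8)) = (LP (LK LD1_c6 LD2_c54 LD3_c12)) :=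
  Lre_e IH (LK LD1_c3 LD2_c26 LD3_c8) (LK LD1_c6 LD2_c54 LD3_c12) Lrfl Lrfl
theorem f529451 : Led Lsl_at (LP (LK LD1_c6 LD2_c51 LD3_c44)) = (LP (LK LD1_c3 LD2_c26 LD3_c8)) :=
  Lgr Lrot80 (Lpe (K29.f425550 IH) (Lpr_af (f529449 IH) (Lpe (f488369 IH) (Lpn (LP (LK LD1_c3 LD2_c26 LD3_c8))))))
theorem f628181 : Led Lsl_ft (LP (LK LD1_c3 LD2_c26 LD3_c7)) = (LP (LK LD1_c6 LD2_c51 LD3_c44)) :=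
  Lgr Lrot2 (Lpr_gt (f628179 IH) (Lpe (f628177 IH) (Lpe (f529451 IH) (Lpn (LP (LK LD1_c6 LD2_c51 LD3_c44))))))
theorem f628182 : Led Lsl_ft (LP (LK LD1_c3 LD2_c26 LD3_c7)) = (LP (LK LD1_c6 LD2_c51 LD3_c44)) :=
  Leop (Lpe (f628181 IH) (Lpn (LP (LK LD1_c3 LD2_c26 LD3_c7))))
theorem seed_257 : LEOK LG_f (LK LD1_c3 LD2_c26 LD3_c7) :=
  Leoe_f (LK LD1_c3 LD2_c26 LD3_c7) (f628182 IH)
def v4018 : LQ := Led Lsl_et K30.v1179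
theorem f629013 : Led Lsl_et K30.v1179 = v4018 :=
  Lrfl
theorem f629016 : Led Lsl_cf K30.v1181 = v4018 :=
  Lgr Lrot39 (Lpe (K30.f493540 IH) (Lpr_ct (K30.f493526 IH) (Lpr_et (f629013 IH) (Lpn v4018))))
theorem f450708 : Led Lsl_bt (LP (LK LD1_c3 LD2_c30 LD3_c45)) = (LP (LK LD1_c7 LD2_c3 LD3_c33)) :=
  Lre_b IH (LK LD1_c3 LD2_c30 LD3_c45) (LK LD1_c7 LD2_c3 LD3_c33) Lrfl Lrfl
theorem f450709 : Led Lsl_gt (LP (LK LD1_c7 LD2_c3 LD3_c33)) = (LP (LK LD1_c13 LD2_c23 LD3_c10)) :=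
  Lre_g IH (LK LD1_c7 LD2_c3 LD3_c33) (LK LD1_c13 LD2_c23 LD3_c10) Lrfl Lrfl
theorem f467618 : Led Lsl_et (LP (LK LD1_c3 LD2_c39 LD3_c9)) = (LP (LK LD1_c1 LD2_c46 LD3_c31)) :=
  Lre_e IH (LK LD1_c3 LD2_c39 LD3_c9) (LK LD1_c1 LD2_c46 LD3_c31) Lrfl Lrfl
theorem f629015 : Led Lsl_bf (LP (LK LD1_c3 LD2_c39 LD3_c9)) = v4018 :=
  Lgr Lrot96 (Lpr_et (f467618 IH) (Lpr_bt (K30.f493530 IH) (Lpr_et (f629013 IH) (Lpn v4018))))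
theorem f457494 : Led Lsl_bt (LP (LK LD1_c13 LD2_c22 LD3_c38)) = (LP (LK LD1_c7 LD2_c3 LD3_c13)) :=
  Lre_b IH (LK LD1_c13 LD2_c22 LD3_c38) (LK LD1_c7 LD2_c3 LD3_c13) Lrfl Lrfl
theorem f457631 : Led Lsl_ct (LP (LK LD1_c13 LD2_c22 LD3_c38)) = (LP (LK LD1_c7 LD2_c3 LD3_c23)) :=
  Lre_c IH (LK LD1_c13 LD2_c22 LD3_c38) (LK LD1_c7 LD2_c3 LD3_c23) Lrfl Lrfl
theorem f457606 : Led Lsl_gt (LP (LK LD1_c13 LD2_c22 LD3_c54)) = (LP (LK LD1_c7 LD2_c3 LD3_c23)) :=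
  Lre_g IH (LK LD1_c13 LD2_c22 LD3_c54) (LK LD1_c7 LD2_c3 LD3_c23) Lrfl Lrfl
theorem f629026 : Led Lsl_ct (LP (LK LD1_c13 LD2_c23 LD3_c10)) = (LP (LK LD1_c13 LD2_c22 LD3_c54)) :=
  Lgr Lrot91 (Lpe (f450709 IH) (Lpe (f450708 IH) (Lpr_ct (K5.f87979 IH) (Lpr_gf (K30.f493545 IH) (Lpr_cf (f629016 IH) (Lpe (f629015 IH) (Lpe (K30.f493607 IH) (Lpe (f457494 IH) (Lpr_ct (f457631 IH) (Lpe (f457606 IH) (Lpn (LP (LK LD1_c13 LD2_c22 LD3_c54)))))))))))))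
theorem f629027 : Led Lsl_ct (LP (LK LD1_c13 LD2_c23 LD3_c10)) = (LP (LK LD1_c13 LD2_c22 LD3_c54)) :=
  Leop (Lpe (f629026 IH) (Lpn (LP (LK LD1_c13 LD2_c23 LD3_c10))))
theorem seed_258 : LEOK LG_c (LK LD1_c13 LD2_c23 LD3_c10) :=
  Leoe_c (LK LD1_c13 LD2_c23 LD3_c10) (f629027 IH)
def v4103 : LQ := Led Lsl_ft (LP (LK LD1_c2 LD2_c3 LD3_c4))
theorem f629428 : Led Lsl_ft (LP (LK LD1_c2 LD2_c3 LD3_c4)) = v4103 :=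
  Lrfl
theorem f629430 : Led Lsl_ff (LP (LK LD1_c2 LD2_c3 LD3_c4)) = v4103 :=
  Lgr Lrot3 (Lpr_ft (f629428 IH) (Lpn v4103))
theorem f179562 : Led Lsl_et (LP (LK LD1_c1 LD2_c0 LD3_c12)) = (LP (LK LD1_c2 LD2_c6 LD3_c27)) :=
  Lre_e IH (LK LD1_c1 LD2_c0 LD3_c12) (LK LD1_c2 LD2_c6 LD3_c27) Lrfl Lrfl
theorem f1400 : Led Lsl_et (LP (LK LD1_c2 LD2_c3 LD3_c4)) = (LP (LK LD1_c0 LD2_c58 LD3_c25)) :=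
  Lre_e IH (LK LD1_c2 LD2_c3 LD3_c4) (LK LD1_c0 LD2_c58 LD3_c25) Lrfl Lrfl
theorem f304895 : Led Lsl_at (LP (LK LD1_c2 LD2_c6 LD3_c27)) = (LP (LK LD1_c2 LD2_c3 LD3_c4)) :=
  Lgr Lrot80 (Lpe (f179562 IH) (Lpr_af (K19.f304884 IH) (Lpe (f1400 IH) (Lpn (LP (LK LD1_c2 LD2_c3 LD3_c4))))))
theorem f304897 : Led Lsl_af (LP (LK LD1_c2 LD2_c6 LD3_c27)) = (LP (LK LD1_c2 LD2_c3 LD3_c4)) :=
  Lgr Lrot0 (Lpr_at (f304895 IH) (Lpn (LP (LK LD1_c2 LD2_c3 LD3_c4))))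
theorem f307782 : Led Lsl_gt (LP (LK LD1_c15 LD2_c44 LD3_c32)) = (LP (LK LD1_c8 LD2_c22 LD3_c13)) :=
  Lre_g IH (LK LD1_c15 LD2_c44 LD3_c32) (LK LD1_c8 LD2_c22 LD3_c13) Lrfl Lrfl
theorem f361313 : Led Lsl_ct (LP (LK LD1_c9 LD2_c36 LD3_c46)) = (LP (LK LD1_c15 LD2_c44 LD3_c32)) :=
  Lgr Lrot152 (Lpr_gf (K26.f361297 IH) (Lpr_df (K20.f246777 IH) (Lpr_gt (K20.f171976 IH) (Lpr_ct (K21.f171939 IH) (Lpr_gt (K21.f307858 IH) (Lpr_ct (K26.f288687 IH) (Lpe (K19.f307768 IH) (Lpe (K23.f289033 IH) (Lpe (f307782 IH) (Lpn (LP (LK LD1_c15 LD2_c44 LD3_c32))))))))))))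
theorem f323981 : Led Lsl_ef (LP (LK LD1_c8 LD2_c31 LD3_c27)) = (LP (LK LD1_c4 LD2_c30 LD3_c49)) :=
  Lgr Lrot73 (Lpr_dt (K21.f260431 IH) (Lpr_et (K22.f301442 IH) (Lpe (K21.f301437 IH) (Lpr_et (K22.f323975 IH) (Lpr_dt (K21.f323964 IH) (Lpn (LP (LK LD1_c4 LD2_c30 LD3_c49))))))))
theorem f323983 : Led Lsl_bt (LP (LK LD1_c8 LD2_c31 LD3_c27)) = (LP (LK LD1_c4 LD2_c17 LD3_c58)) :=
  Lgr Lrot119 (Lpr_ef (f323981 IH) (Lpe (K21.f183299 IH) (Lpe (K20.f183271 IH) (Lpn (LP (LK LD1_c4 LD2_c17 LD3_c58))))))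
theorem f323987 : Led Lsl_bf (LP (LK LD1_c4 LD2_c16 LD3_c9)) = (LP (LK LD1_c2 LD2_c6 LD3_c16)) :=
  Lgr Lrot93 (Lpr_dt (K21.f301444 IH) (Lpr_bt (f323983 IH) (Lpr_dt (K20.f178856 IH) (Lpn (LP (LK LD1_c2 LD2_c6 LD3_c16))))))
theorem f323989 : Led Lsl_bt (LP (LK LD1_c4 LD2_c16 LD3_c9)) = (LP (LK LD1_c2 LD2_c6 LD3_c16)) :=
  Lgr Lrot127 (Lpr_bf (f323987 IH) (Lpn (LP (LK LD1_c2 LD2_c6 LD3_c16))))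
theorem f301468 : Led Lsl_ct (LP (LK LD1_c4 LD2_c16 LD3_c9)) = (LP (LK LD1_c8 LD2_c31 LD3_c26)) :=
  Lre_c IH (LK LD1_c4 LD2_c16 LD3_c9) (LK LD1_c8 LD2_c31 LD3_c26) Lrfl Lrfl
theorem f361315 : Led Lsl_gt (LP (LK LD1_c8 LD2_c31 LD3_c26)) = (LP (LK LD1_c4 LD2_c16 LD3_c24)) :=
  Lgr Lrot65 (Lpe (f301468 IH) (Lpr_bt (f323989 IH) (Lpe (K20.f320490 IH) (Lpe (K18.f295971 IH) (Lpr_ct (K22.f289029 IH) (Lpe (f307782 IH) (Lpe (f361313 IH) (Lpr_gf (K26.f361297 IH) (Lpe (K20.f246776 IH) (Lpr_ct (K26.f250551 IH) (Lpn (LP (LK LD1_c4 LD2_c16 LD3_c24)))))))))))))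
theorem f361317 : Led Lsl_cf (LP (LK LD1_c17 LD2_c42 LD3_c9)) = (LP (LK LD1_c15 LD2_c57 LD3_c6)) :=
  Lgr Lrot58 (Lpe (K18.f301642 IH) (Lpe (K18.f301641 IH) (Lpr_bt (K26.f361280 IH) (Lpr_gf (K26.f361297 IH) (Lpe (K20.f246776 IH) (Lpr_ct (K26.f250551 IH) (Lpe (f361315 IH) (Lpe (f301468 IH) (Lpr_gf (K21.f324007 IH) (Lpe (K16.f270517 IH) (Lpn (LP (LK LD1_c15 LD2_c57 LD3_c6)))))))))))))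
theorem f167002 : Led Lsl_et (LP (LK LD1_c0 LD2_c58 LD3_c25)) = (LP (LK LD1_c2 LD2_c3 LD3_c4)) :=
  Lre_e IH (LK LD1_c0 LD2_c58 LD3_c25) (LK LD1_c2 LD2_c3 LD3_c4) Lrfl Lrfl
theorem f167003 : Led Lsl_ct (LP (LK LD1_c2 LD2_c3 LD3_c4)) = (LP (LK LD1_c1 LD2_c9 LD3_c23)) :=
  Lgr Lrot15 (Lpe (f167002 IH) (Lpr_cf (K9.f166994 IH) (Lpe (K13.f2871 IH) (Lpn (LP (LK LD1_c1 LD2_c9 LD3_c23))))))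
theorem f306933 : Led Lsl_cf (LP (LK LD1_c2 LD2_c6 LD3_c27)) = (LP (LK LD1_c1 LD2_c8 LD3_c60)) :=
  Lgr Lrot1 (Lpr_at (f304895 IH) (Lpr_ct (f167003 IH) (Lpr_at (K19.f306922 IH) (Lpn (LP (LK LD1_c1 LD2_c8 LD3_c60))))))
theorem f276169 : Led Lsl_ct (LP (LK LD1_c2 LD2_c6 LD3_c16)) = (LP (LK LD1_c4 LD2_c17 LD3_c57)) :=
  Lre_c IH (LK LD1_c2 LD2_c6 LD3_c16) (LK LD1_c4 LD2_c17 LD3_c57) Lrfl Lrfl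
theorem f378640 : Led Lsl_gf (LP (LK LD1_c2 LD2_c6 LD3_c27)) = (LP (LK LD1_c4 LD2_c17 LD3_c57)) :=
  Lgr Lrot126 (Lpr_cf (f306933 IH) (Lpr_bt (K21.f306898 IH) (Lpr_gt (K18.f222108 IH) (Lpr_ct (K18.f301641 IH) (Lpr_gt (K18.f301642 IH) (Lpr_cf (f361317 IH) (Lpr_bt (K16.f270517 IH) (Lpe (K21.f324007 IH) (Lpr_bf (f323987 IH) (Lpr_ct (f276169 IH) (Lpn (LP (LK LD1_c4 LD2_c17 LD3_c57)))))))))))))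
theorem f629432 : Led Lsl_gf (LP (LK LD1_c4 LD2_c17 LD3_c57)) = v4103 :=
  Lgr Lrot47 (Lpe (f378640 IH) (Lpr_af (f304897 IH) (Lpr_ff (f629430 IH) (Lpn v4103))))
theorem f260508 : Led Lsl_gt (LP (LK LD1_c4 LD2_c16 LD3_c7)) = (LP (LK LD1_c8 LD2_c31 LD3_c20)) :=
  Lre_g IH (LK LD1_c4 LD2_c16 LD3_c7) (LK LD1_c8 LD2_c31 LD3_c20) Lrfl Lrfl
theorem f629431 : Led Lsl_ct (LP (LK LD1_c2 LD2_c24 LD3_c32)) = v4103 :=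
  Lgr Lrot40 (Lpe (K19.f167012 IH) (Lpe (f167003 IH) (Lpr_ff (f629430 IH) (Lpn v4103))))
theorem f166875 : Led Lsl_bt (LP (LK LD1_c9 LD2_c58 LD3_c35)) = (LP (LK LD1_c5 LD2_c3 LD3_c49)) :=
  Lre_b IH (LK LD1_c9 LD2_c58 LD3_c35) (LK LD1_c5 LD2_c3 LD3_c49) Lrfl Lrfl
theorem f333484 : Led Lsl_dt (LP (LK LD1_c9 LD2_c39 LD3_c2)) = (LP (LK LD1_c9 LD2_c58 LD3_c35)) :=
  Lgr Lrot79 (Lpe (K23.f333483 IH) (Lpr_df (K23.f333481 IH) (Lpe (f166875 IH) (Lpn (LP (LK LD1_c9 LD2_c58 LD3_c35))))))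
theorem f263582 : Led Lsl_dt (LP (LK LD1_c9 LD2_c37 LD3_c45)) = (LP (LK LD1_c8 LD2_c18 LD3_c9)) :=
  Lgr Lrot60 (Lpe (K15.f170351 IH) (Lpe (K16.f170357 IH) (Lpr_ff (K15.f263578 IH) (Lpn (LP (LK LD1_c8 LD2_c18 LD3_c9))))))
theorem f333553 : Led Lsl_gt (LP (LK LD1_c9 LD2_c58 LD3_c35)) = (LP (LK LD1_c8 LD2_c15 LD3_c51)) :=
  Lgr Lrot139 (Lpe (f333484 IH) (Lpr_gf (K23.f333551 IH) (Lpe (K15.f263592 IH) (Lpr_dt (f263582 IH) (Lpe (K15.f190848 IH) (Lpe (K16.f190847 IH) (Lpr_et (K16.f190846 IH) (Lpr_gf (K15.f190830 IH) (Lpe (K12.f188642 IH) (Lpe (K12.f188725 IH) (Lpn (LP (LK LD1_c8 LD2_c15 LD3_c51)))))))))))))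
theorem f171063 : Led Lsl_gt (LP (LK LD1_c4 LD2_c51 LD3_c31)) = (LP (LK LD1_c9 LD2_c35 LD3_c3)) :=
  Lre_g IH (LK LD1_c4 LD2_c51 LD3_c31) (LK LD1_c9 LD2_c35 LD3_c3) Lrfl Lrfl
theorem f333557 : Led Lsl_et (LP (LK LD1_c9 LD2_c39 LD3_c2)) = (LP (LK LD1_c9 LD2_c35 LD3_c3)) :=
  Lgr Lrot122 (Lpr_dt (f333484 IH) (Lpr_gt (f333553 IH) (Lpr_df (K12.f188725 IH) (Lpr_et (K12.f188642 IH) (Lpe (K15.f190830 IH) (Lpr_dt (K14.f190834 IH) (Lpr_gt (K16.f190835 IH) (Lpe (K16.f271033 IH) (Lpr_et (K21.f171077 IH) (Lpr_gt (f171063 IH) (Lpn (LP (LK LD1_c9 LD2_c35 LD3_c3)))))))))))))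
theorem f333559 : Led Lsl_bf (LP (LK LD1_c9 LD2_c38 LD3_c42)) = (LP (LK LD1_c9 LD2_c35 LD3_c3)) :=
  Lgr Lrot96 (Lpe (K25.f333523 IH) (Lpr_bt (K23.f333483 IH) (Lpr_et (f333557 IH) (Lpn (LP (LK LD1_c9 LD2_c35 LD3_c3))))))
theorem f629433 : Led Lsl_cf (LP (LK LD1_c8 LD2_c31 LD3_c20)) = (LP (LK LD1_c9 LD2_c35 LD3_c3)) :=
  Lgr Lrot163 (Lpe (f260508 IH) (Lpe (K25.f260435 IH) (Lpe (K21.f260430 IH) (Lpr_bf (f323987 IH) (Lpr_ct (f276169 IH) (Lpr_gf (f629432 IH) (Lpe (f629431 IH) (Lpr_bt (K19.f304944 IH) (Lpe (K23.f304958 IH) (Lpr_bf (f333559 IH) (Lpn (LP (LK LD1_c9 LD2_c35 LD3_c3)))))))))))))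
theorem f629434 : Led Lsl_ct (LP (LK LD1_c9 LD2_c35 LD3_c3)) = (LP (LK LD1_c8 LD2_c31 LD3_c20)) :=
  Leop (Lpr_cf (f629433 IH) (Lpn (LP (LK LD1_c9 LD2_c35 LD3_c3))))
theorem seed_259 : LEOK LG_c (LK LD1_c9 LD2_c35 LD3_c3) :=
  Leoe_c (LK LD1_c9 LD2_c35 LD3_c3) (f629434 IH)
def v4117 : LQ := Led Lsl_at (LP (LK LD1_c2 LD2_c5 LD3_c55))
theorem f629506 : Led Lsl_at (LP (LK LD1_c2 LD2_c5 LD3_c55)) = v4117 :=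
  Lrfl
theorem f629507 : Led Lsl_af (LP (LK LD1_c2 LD2_c5 LD3_c55)) = v4117 :=
  Lgr Lrot0 (Lpr_at (f629506 IH) (Lpn v4117))
theorem f629510 : Led Lsl_ft (LP (LK LD1_c2 LD2_c5 LD3_c56)) = v4117 :=
  Lgr Lrot2 (Lpr_gt (K20.f53390 IH) (Lpr_gt (K22.f1395 IH) (Lpr_af (f629507 IH) (Lpn v4117))))
def v4084 : LQ := Led Lsl_at (LP (LK LD1_c2 LD2_c2 LD3_c30))
theorem f629352 : Led Lsl_at (LP (LK LD1_c2 LD2_c2 LD3_c30)) = v4084 :=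
  Lrfl
theorem f629353 : Led Lsl_af (LP (LK LD1_c2 LD2_c2 LD3_c30)) = v4084 :=
  Lgr Lrot0 (Lpr_at (f629352 IH) (Lpn v4084))
theorem f629508 : Led Lsl_ef v4084 = v4117 :=
  Lgr Lrot20 (Lpe (f629353 IH) (Lpr_et (K22.f167564 IH) (Lpr_at (f629506 IH) (Lpn v4117))))
theorem f629354 : Led Lsl_ft (LP (LK LD1_c2 LD2_c2 LD3_c31)) = v4084 :=
  Lgr Lrot2 (Lpr_gt (K20.f53448 IH) (Lpr_gt (K22.f521 IH) (Lpr_af (f629353 IH) (Lpn v4084))))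
theorem f629355 : Led Lsl_ff (LP (LK LD1_c2 LD2_c2 LD3_c31)) = v4084 :=
  Lgr Lrot3 (Lpr_ft (f629354 IH) (Lpn v4084))
theorem f629511 : Led Lsl_ff (LP (LK LD1_c4 LD2_c17 LD3_c11)) = (LP (LK LD1_c4 LD2_c10 LD3_c35)) :=
  Lgr Lrot72 (Lpr_et (K20.f53391 IH) (Lpr_ft (f629510 IH) (Lpe (f629508 IH) (Lpe (f629355 IH) (Lpr_et (K22.f178566 IH) (Lpn (LP (LK LD1_c4 LD2_c10 LD3_c35))))))))
theorem f629512 : Led Lsl_ft (LP (LK LD1_c4 LD2_c10 LD3_c35)) = (LP (LK LD1_c4 LD2_c17 LD3_c11)) :=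
  Leop (Lpr_ff (f629511 IH) (Lpn (LP (LK LD1_c4 LD2_c10 LD3_c35))))
theorem seed_260 : LEOK LG_f (LK LD1_c4 LD2_c10 LD3_c35) :=
  Leoe_f (LK LD1_c4 LD2_c10 LD3_c35) (f629512 IH)
def v4120 : LQ := Led Lsl_at (LP (LK LD1_c2 LD2_c6 LD3_c15))
theorem f629857 : Led Lsl_at (LP (LK LD1_c2 LD2_c6 LD3_c15)) = v4120 :=
  Lrfl
theorem f629858 : Led Lsl_af (LP (LK LD1_c2 LD2_c6 LD3_c15)) = v4120 :=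
  Lgr Lrot0 (Lpr_at (f629857 IH) (Lpn v4120))
theorem f629861 : Led Lsl_ft (LP (LK LD1_c2 LD2_c6 LD3_c16)) = v4120 :=
  Lgr Lrot2 (Lpr_gt (K13.f7924 IH) (Lpr_gt (K22.f7922 IH) (Lpr_af (f629858 IH) (Lpn v4120))))
def v4099 : LQ := Led Lsl_ft (LP (LK LD1_c2 LD2_c3 LD3_c0))
theorem f629415 : Led Lsl_ft (LP (LK LD1_c2 LD2_c3 LD3_c0)) = v4099 :=
  Lrfl
def v4097 : LQ := Led Lsl_at (LP (LK LD1_c2 LD2_c3 LD3_c0))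
theorem f629408 : Led Lsl_at (LP (LK LD1_c2 LD2_c3 LD3_c0)) = v4097 :=
  Lrfl
theorem f629409 : Led Lsl_af (LP (LK LD1_c2 LD2_c3 LD3_c0)) = v4097 :=
  Lgr Lrot0 (Lpr_at (f629408 IH) (Lpn v4097))
theorem f629410 : Led Lsl_ft (LP (LK LD1_c2 LD2_c3 LD3_c1)) = v4097 :=
  Lgr Lrot2 (Lpr_gt (K22.f170624 IH) (Lpr_gt (K18.f170622 IH) (Lpr_af (f629409 IH) (Lpn v4097))))
theorem f629416 : Led Lsl_af (LP (LK LD1_c2 LD2_c3 LD3_c1)) = v4099 :=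
  Lgr Lrot45 (Lpr_ft (f629410 IH) (Lpe (f629409 IH) (Lpr_ft (f629415 IH) (Lpn v4099))))
theorem f629859 : Led Lsl_ef v4099 = v4120 :=
  Lgr Lrot20 (Lpe (f629416 IH) (Lpe (K22.f333678 IH) (Lpr_at (f629857 IH) (Lpn v4120))))
theorem f629417 : Led Lsl_ff (LP (LK LD1_c2 LD2_c3 LD3_c0)) = v4099 :=
  Lgr Lrot3 (Lpr_ft (f629415 IH) (Lpn v4099))
theorem f629862 : Led Lsl_ff (LP (LK LD1_c4 LD2_c17 LD3_c59)) = (LP (LK LD1_c4 LD2_c11 LD3_c40)) :=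
  Lgr Lrot72 (Lpr_et (K13.f7925 IH) (Lpr_ft (f629861 IH) (Lpe (f629859 IH) (Lpe (f629417 IH) (Lpr_et (K22.f304454 IH) (Lpn (LP (LK LD1_c4 LD2_c11 LD3_c40))))))))
theorem f629863 : Led Lsl_ft (LP (LK LD1_c4 LD2_c11 LD3_c40)) = (LP (LK LD1_c4 LD2_c17 LD3_c59)) :=
  Leop (Lpr_ff (f629862 IH) (Lpn (LP (LK LD1_c4 LD2_c11 LD3_c40))))
theorem seed_261 : LEOK LG_f (LK LD1_c4 LD2_c11 LD3_c40) :=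
  Leoe_f (LK LD1_c4 LD2_c11 LD3_c40) (f629863 IH)
def v4158 : LQ := Led Lsl_ct (LP (LK LD1_c2 LD2_c11 LD3_c53))
theorem f631524 : Led Lsl_ct (LP (LK LD1_c2 LD2_c11 LD3_c53)) = v4158 :=
  Lrfl
theorem f348502 : Led Lsl_bt (LP (LK LD1_c2 LD2_c11 LD3_c53)) = (LP (LK LD1_c4 LD2_c29 LD3_c43)) :=
  Lre_b IH (LK LD1_c2 LD2_c11 LD3_c53) (LK LD1_c4 LD2_c29 LD3_c43) Lrfl Lrfl
theorem f348202 : Led Lsl_ef (LP (LK LD1_c4 LD2_c10 LD3_c59)) = (LP (LK LD1_c5 LD2_c13 LD3_c24)) :=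
  Lgr Lrot88 (Lpr_et (K23.f348198 IH) (Lpn (LP (LK LD1_c5 LD2_c13 LD3_c24))))
theorem f178875 : Led Lsl_dt (LP (LK LD1_c1 LD2_c17 LD3_c41)) = (LP (LK LD1_c2 LD2_c42 LD3_c12)) :=
  Lre_d IH (LK LD1_c1 LD2_c17 LD3_c41) (LK LD1_c2 LD2_c42 LD3_c12) Lrfl Lrfl
theorem f348475 : Led Lsl_gt (LP (LK LD1_c2 LD2_c42 LD3_c12)) = (LP (LK LD1_c5 LD2_c16 LD3_c32)) :=
  Lgr Lrot139 (Lpe (f178875 IH) (Lpe (K27.f178874 IH) (Lpe (K14.f178756 IH) (Lpr_dt (K9.f168188 IH) (Lpe (K9.f178848 IH) (Lpe (K9.f178865 IH) (Lpr_et (K15.f178864 IH) (Lpe (K23.f167228 IH) (Lpr_ef (f348202 IH) (Lpe (K23.f333364 IH) (Lpn (LP (LK LD1_c5 LD2_c16 LD3_c32)))))))))))))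
theorem f165050 : Led Lsl_gt (LP (LK LD1_c1 LD2_c2 LD3_c56)) = (LP (LK LD1_c2 LD2_c11 LD3_c53)) :=
  Lre_g IH (LK LD1_c1 LD2_c2 LD3_c56) (LK LD1_c2 LD2_c11 LD3_c53) Lrfl Lrfl
theorem f185003 : Led Lsl_dt (LP (LK LD1_c4 LD2_c29 LD3_c44)) = (LP (LK LD1_c2 LD2_c11 LD3_c53)) :=
  Lre_d IH (LK LD1_c4 LD2_c29 LD3_c44) (LK LD1_c2 LD2_c11 LD3_c53) Lrfl Lrfl
theorem f348478 : Led Lsl_ef (LP (LK LD1_c2 LD2_c42 LD3_c12)) = (LP (LK LD1_c4 LD2_c29 LD3_c44)) :=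
  Lgr Lrot167 (Lpr_gt (f348475 IH) (Lpr_dt (K22.f333361 IH) (Lpr_gt (K22.f184947 IH) (Lpe (K14.f184940 IH) (Lpr_et (K14.f254997 IH) (Lpr_gt (K14.f212004 IH) (Lpe (K10.f184992 IH) (Lpr_dt (K10.f165036 IH) (Lpr_gt (f165050 IH) (Lpe (f185003 IH) (Lpn (LP (LK LD1_c4 LD2_c29 LD3_c44)))))))))))))
theorem f348485 : Led Lsl_et (LP (LK LD1_c2 LD2_c42 LD3_c12)) = (LP (LK LD1_c4 LD2_c29 LD3_c44)) :=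
  Lgr Lrot87 (Lpr_ef (f348478 IH) (Lpn (LP (LK LD1_c4 LD2_c29 LD3_c44))))
theorem f346011 : Led Lsl_bt (LP (LK LD1_c5 LD2_c32 LD3_c0)) = (LP (LK LD1_c2 LD2_c42 LD3_c12)) :=
  Lre_b IH (LK LD1_c5 LD2_c32 LD3_c0) (LK LD1_c2 LD2_c42 LD3_c12) Lrfl Lrfl
theorem f348487 : Led Lsl_bt (LP (LK LD1_c4 LD2_c29 LD3_c44)) = (LP (LK LD1_c8 LD2_c57 LD3_c39)) :=
  Lre_b IH (LK LD1_c4 LD2_c29 LD3_c44) (LK LD1_c8 LD2_c57 LD3_c39) Lrfl Lrfl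
theorem f348488 : Led Lsl_ef (LP (LK LD1_c5 LD2_c32 LD3_c0)) = (LP (LK LD1_c8 LD2_c57 LD3_c39)) :=
  Lgr Lrot29 (Lpr_bt (f346011 IH) (Lpr_et (f348485 IH) (Lpr_bt (f348487 IH) (Lpn (LP (LK LD1_c8 LD2_c57 LD3_c39))))))
theorem f325669 : Led Lsl_ef (LP (LK LD1_c10 LD2_c16 LD3_c30)) = (LP (LK LD1_c10 LD2_c3 LD3_c11)) :=
  Lgr Lrot88 (Lpr_et (K21.f325667 IH) (Lpn (LP (LK LD1_c10 LD2_c3 LD3_c11))))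
theorem f345964 : Led Lsl_dt (LP (LK LD1_c5 LD2_c32 LD3_c0)) = (LP (LK LD1_c2 LD2_c42 LD3_c10)) :=
  Lre_d IH (LK LD1_c5 LD2_c32 LD3_c0) (LK LD1_c2 LD2_c42 LD3_c10) Lrfl Lrfl
theorem f345968 : Led Lsl_gt (LP (LK LD1_c10 LD2_c22 LD3_c20)) = (LP (LK LD1_c5 LD2_c32 LD3_c0)) :=
  Lgr Lrot137 (Lpe (K20.f278571 IH) (Lpr_dt (K24.f278583 IH) (Lpr_gf (K25.f329681 IH) (Lpe (K21.f329671 IH) (Lpe (f325669 IH) (Lpr_gf (K21.f293742 IH) (Lpe (K18.f293767 IH) (Lpr_dt (K18.f293781 IH) (Lpr_gf (K27.f345959 IH) (Lpe (f345964 IH) (Lpn (LP (LK LD1_c5 LD2_c32 LD3_c0)))))))))))))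
theorem f345965 : Led Lsl_dt (LP (LK LD1_c2 LD2_c42 LD3_c10)) = (LP (LK LD1_c5 LD2_c32 LD3_c0)) :=
  Lre_d IH (LK LD1_c2 LD2_c42 LD3_c10) (LK LD1_c5 LD2_c32 LD3_c0) Lrfl Lrfl
theorem f345976 : Led Lsl_ef (LP (LK LD1_c5 LD2_c23 LD3_c16)) = (LP (LK LD1_c2 LD2_c42 LD3_c10)) :=
  Lgr Lrot114 (Lpr_gt (K25.f42549 IH) (Lpe (K21.f252613 IH) (Lpr_dt (K14.f42504 IH) (Lpe (K14.f256088 IH) (Lpe (K14.f249225 IH) (Lpr_et (K16.f249235 IH) (Lpr_gt (K19.f249327 IH) (Lpr_dt (K25.f278569 IH) (Lpr_gt (f345968 IH) (Lpe (f345965 IH) (Lpn (LP (LK LD1_c2 LD2_c42 LD3_c10)))))))))))))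
theorem f278958 : Led Lsl_et (LP (LK LD1_c4 LD2_c27 LD3_c47)) = (LP (LK LD1_c2 LD2_c11 LD3_c3)) :=
  Lre_e IH (LK LD1_c4 LD2_c27 LD3_c47) (LK LD1_c2 LD2_c11 LD3_c3) Lrfl Lrfl
theorem f315947 : Led Lsl_df (LP (LK LD1_c4 LD2_c17 LD3_c15)) = (LP (LK LD1_c4 LD2_c27 LD3_c47)) :=
  Lgr Lrot168 (Lpr_gf (K20.f315938 IH) (Lpe (K20.f315936 IH) (Lpr_et (K20.f283377 IH) (Lpe (K10.f177473 IH) (Lpe (K21.f41735 IH) (Lpr_dt (K12.f42297 IH) (Lpe (K11.f187223 IH) (Lpe (K15.f191904 IH) (Lpr_gf (K16.f278524 IH) (Lpe (f278958 IH) (Lpn (LP (LK LD1_c4 LD2_c27 LD3_c47)))))))))))))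
theorem f315953 : Led Lsl_gt (LP (LK LD1_c8 LD2_c53 LD3_c25)) = (LP (LK LD1_c4 LD2_c27 LD3_c47)) :=
  Lre_g IH (LK LD1_c8 LD2_c53 LD3_c25) (LK LD1_c4 LD2_c27 LD3_c47) Lrfl Lrfl
theorem f343790 : Led Lsl_gf (LP (LK LD1_c8 LD2_c35 LD3_c9)) = (LP (LK LD1_c10 LD2_c44 LD3_c27)) :=
  Lgr Lrot141 (Lpe (K21.f302854 IH) (Lpe (K20.f302852 IH) (Lpr_gt (K20.f302839 IH) (Lpr_df (K14.f248351 IH) (Lpe (K20.f288905 IH) (Lpr_gt (K17.f236952 IH) (Lpe (K16.f275287 IH) (Lpr_gt (K23.f343728 IH) (Lpe (K22.f281029 IH) (Lpr_et (K23.f343719 IH) (Lpn (LP (LK LD1_c10 LD2_c44 LD3_c27)))))))))))))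
theorem f343792 : Led Lsl_df (LP (LK LD1_c8 LD2_c53 LD3_c25)) = (LP (LK LD1_c8 LD2_c35 LD3_c9)) :=
  Lgr Lrot135 (Lpr_gt (f315953 IH) (Lpr_df (K21.f278976 IH) (Lpr_et (K21.f267557 IH) (Lpr_gt (K15.f267613 IH) (Lpe (K16.f178738 IH) (Lpe (K16.f275287 IH) (Lpr_gt (K23.f343728 IH) (Lpe (K22.f281029 IH) (Lpr_et (K23.f343719 IH) (Lpe (f343790 IH) (Lpn (LP (LK LD1_c8 LD2_c35 LD3_c9)))))))))))))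
theorem f167531 : Led Lsl_et (LP (LK LD1_c8 LD2_c35 LD3_c9)) = (LP (LK LD1_c4 LD2_c18 LD3_c5)) :=
  Lre_e IH (LK LD1_c8 LD2_c35 LD3_c9) (LK LD1_c4 LD2_c18 LD3_c5) Lrfl Lrfl
theorem f167474 : Led Lsl_at (LP (LK LD1_c8 LD2_c34 LD3_c55)) = (LP (LK LD1_c4 LD2_c18 LD3_c7)) :=
  Lre_a IH (LK LD1_c8 LD2_c34 LD3_c55) (LK LD1_c4 LD2_c18 LD3_c7) Lrfl Lrfl
theorem f299454 : Led Lsl_et (LP (LK LD1_c8 LD2_c21 LD3_c60)) = (LP (LK LD1_c8 LD2_c34 LD3_c55)) :=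
  Lgr Lrot123 (Lpe (K20.f215523 IH) (Lpr_ef (K18.f299451 IH) (Lpe (f167474 IH) (Lpn (LP (LK LD1_c8 LD2_c34 LD3_c55))))))
theorem f343799 : Led Lsl_gf (LP (LK LD1_c8 LD2_c53 LD3_c25)) = (LP (LK LD1_c5 LD2_c28 LD3_c25)) :=
  Lgr Lrot134 (Lpr_df (f343792 IH) (Lpr_et (f167531 IH) (Lpr_gt (K26.f302864 IH) (Lpe (f299454 IH) (Lpe (K19.f215498 IH) (Lpe (K18.f303009 IH) (Lpe (K18.f300884 IH) (Lpr_et (K19.f309049 IH) (Lpe (K20.f315956 IH) (Lpr_dt (K12.f7784 IH) (Lpn (LP (LK LD1_c5 LD2_c28 LD3_c25)))))))))))))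
theorem f343801 : Led Lsl_ef (LP (LK LD1_c8 LD2_c53 LD3_c25)) = (LP (LK LD1_c10 LD2_c29 LD3_c36)) :=
  Lgr Lrot17 (Lpr_gf (f343799 IH) (Lpr_ef (K22.f315967 IH) (Lpe (K22.f315965 IH) (Lpr_gf (K20.f247591 IH) (Lpe (K20.f247594 IH) (Lpe (K20.f316407 IH) (Lpe (K20.f242956 IH) (Lpe (K20.f242954 IH) (Lpe (K20.f302893 IH) (Lpr_df (K20.f258086 IH) (Lpn (LP (LK LD1_c10 LD2_c29 LD3_c36)))))))))))))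
theorem f345982 : Led Lsl_gf (LP (LK LD1_c10 LD2_c22 LD3_c33)) = (LP (LK LD1_c5 LD2_c32 LD3_c0)) :=
  Lgr Lrot145 (Lpr_df (K20.f258086 IH) (Lpe (f343801 IH) (Lpr_gt (f315953 IH) (Lpe (f315947 IH) (Lpr_gt (K20.f309061 IH) (Lpe (K22.f309068 IH) (Lpr_et (K21.f283358 IH) (Lpe (K25.f311243 IH) (Lpr_ef (f345976 IH) (Lpr_dt (f345965 IH) (Lpn (LP (LK LD1_c5 LD2_c32 LD3_c0)))))))))))))
theorem f348495 : Led Lsl_dt (LP (LK LD1_c8 LD2_c57 LD3_c39)) = (LP (LK LD1_c4 LD2_c29 LD3_c43)) :=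
  Lre_d IH (LK LD1_c8 LD2_c57 LD3_c39) (LK LD1_c4 LD2_c29 LD3_c43) Lrfl Lrfl
theorem f348496 : Led Lsl_gt (LP (LK LD1_c2 LD2_c37 LD3_c1)) = (LP (LK LD1_c4 LD2_c29 LD3_c43)) :=
  Lgr Lrot112 (Lpe (K15.f258069 IH) (Lpr_et (K23.f200366 IH) (Lpr_gf (K18.f258075 IH) (Lpe (K20.f249254 IH) (Lpr_dt (K16.f249245 IH) (Lpe (K20.f249328 IH) (Lpe (K20.f258081 IH) (Lpr_gf (f345982 IH) (Lpr_ef (f348488 IH) (Lpr_dt (f348495 IH) (Lpn (LP (LK LD1_c4 LD2_c29 LD3_c43)))))))))))))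
theorem f330456 : Led Lsl_at (LP (LK LD1_c5 LD2_c20 LD3_c48)) = (LP (LK LD1_c2 LD2_c38 LD3_c47)) :=
  Lgr Lrot51 (Lpr_df (K22.f330422 IH) (Lpe (K21.f330436 IH) (Lpr_df (K21.f330454 IH) (Lpn (LP (LK LD1_c2 LD2_c38 LD3_c47))))))
theorem f348498 : Led Lsl_gf (LP (LK LD1_c2 LD2_c38 LD3_c47)) = (LP (LK LD1_c4 LD2_c29 LD3_c43)) :=
  Lgr Lrot76 (Lpe (f330456 IH) (Lpe (K21.f258097 IH) (Lpr_gt (f348496 IH) (Lpn (LP (LK LD1_c4 LD2_c29 LD3_c43))))))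
theorem f631527 : Led Lsl_gt (LP (LK LD1_c2 LD2_c12 LD3_c6)) = v4158 :=
  Lgr Lrot149 (Lpe (K22.f168749 IH) (Lpe (K18.f168773 IH) (Lpe (K23.f330740 IH) (Lpr_ct (K23.f284009 IH) (Lpr_gf (K23.f331566 IH) (Lpe (K22.f318336 IH) (Lpr_bt (K20.f318329 IH) (Lpr_gf (f348498 IH) (Lpe (f348502 IH) (Lpr_ct (f631524 IH) (Lpn v4158)))))))))))
theorem f326914 : Led Lsl_ct (LP (LK LD1_c5 LD2_c10 LD3_c51)) = (LP (LK LD1_c10 LD2_c12 LD3_c19)) :=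
  Lre_c IH (LK LD1_c5 LD2_c10 LD3_c51) (LK LD1_c10 LD2_c12 LD3_c19) Lrfl Lrfl
theorem f631525 : Led Lsl_cf (LP (LK LD1_c2 LD2_c11 LD3_c53)) = v4158 :=
  Lgr Lrot11 (Lpr_ct (f631524 IH) (Lpn v4158))
theorem f304244 : Led Lsl_ct (LP (LK LD1_c8 LD2_c57 LD3_c40)) = (LP (LK LD1_c4 LD2_c29 LD3_c44)) :=
  Lre_c IH (LK LD1_c8 LD2_c57 LD3_c40) (LK LD1_c4 LD2_c29 LD3_c44) Lrfl Lrfl
theorem f631528 : Led Lsl_gt (LP (LK LD1_c10 LD2_c12 LD3_c19)) = (LP (LK LD1_c8 LD2_c57 LD3_c40)) :=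
  Lgr Lrot150 (Lpe (f326914 IH) (Lpe (K23.f326921 IH) (Lpe (K19.f168791 IH) (Lpr_gt (K18.f168773 IH) (Lpr_ct (K22.f168749 IH) (Lpr_gt (f631527 IH) (Lpe (f631525 IH) (Lpe (f185003 IH) (Lpe (f304244 IH) (Lpn (LP (LK LD1_c8 LD2_c57 LD3_c40))))))))))))
theorem f631529 : Led Lsl_gt (LP (LK LD1_c10 LD2_c12 LD3_c19)) = (LP (LK LD1_c8 LD2_c57 LD3_c40)) :=
  Leop (Lpe (f631528 IH) (Lpn (LP (LK LD1_c10 LD2_c12 LD3_c19))))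
theorem seed_262 : LEOK LG_g (LK LD1_c10 LD2_c12 LD3_c19) :=
  Leoe_g (LK LD1_c10 LD2_c12 LD3_c19) (f631529 IH)
def v4179 : LQ := Led Lsl_dt (LP (LK LD1_c2 LD2_c13 LD3_c40))
theorem f631665 : Led Lsl_dt (LP (LK LD1_c2 LD2_c13 LD3_c40)) = v4179 :=
  Lrfl
theorem f631668 : Led Lsl_ef (LP (LK LD1_c2 LD2_c52 LD3_c58)) = v4179 :=
  Lgr Lrot73 (Lpe (K10.f179000 IH) (Lpr_et (K10.f174619 IH) (Lpr_dt (K9.f174597 IH) (Lpr_et (K13.f174608 IH) (Lpr_dt (f631665 IH) (Lpn v4179))))))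
theorem f71295 : Led Lsl_et (LP (LK LD1_c2 LD2_c15 LD3_c29)) = (LP (LK LD1_c4 LD2_c36 LD3_c36)) :=
  Lre_e IH (LK LD1_c2 LD2_c15 LD3_c29) (LK LD1_c4 LD2_c36 LD3_c36) Lrfl Lrfl
theorem f71285 : Led Lsl_gt (LP (LK LD1_c4 LD2_c36 LD3_c36)) = (LP (LK LD1_c9 LD2_c9 LD3_c16)) :=
  Lre_g IH (LK LD1_c4 LD2_c36 LD3_c36) (LK LD1_c9 LD2_c9 LD3_c16) Lrfl Lrfl
theorem f631667 : Led Lsl_df (LP (LK LD1_c2 LD2_c13 LD3_c40)) = v4179 :=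
  Lgr Lrot38 (Lpr_dt (f631665 IH) (Lpn v4179))
theorem f174609 : Led Lsl_gt (LP (LK LD1_c4 LD2_c33 LD3_c30)) = (LP (LK LD1_c2 LD2_c13 LD3_c40)) :=
  Lre_g IH (LK LD1_c4 LD2_c33 LD3_c30) (LK LD1_c2 LD2_c13 LD3_c40) Lrfl Lrfl
theorem f386225 : Led Lsl_dt (LP (LK LD1_c9 LD2_c4 LD3_c37)) = (LP (LK LD1_c4 LD2_c33 LD3_c30)) :=
  Lre_d IH (LK LD1_c9 LD2_c4 LD3_c37) (LK LD1_c4 LD2_c33 LD3_c30) Lrfl Lrfl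
theorem f631672 : Led Lsl_ef (LP (LK LD1_c9 LD2_c9 LD3_c16)) = (LP (LK LD1_c9 LD2_c4 LD3_c37)) :=
  Lgr Lrot17 (Lpe (f71285 IH) (Lpe (f71295 IH) (Lpr_dt (K11.f71278 IH) (Lpe (K11.f198503 IH) (Lpe (K10.f24239 IH) (Lpe (K10.f24260 IH) (Lpr_ef (f631668 IH) (Lpe (f631667 IH) (Lpe (f174609 IH) (Lpe (f386225 IH) (Lpn (LP (LK LD1_c9 LD2_c4 LD3_c37)))))))))))))
theorem f631673 : Led Lsl_et (LP (LK LD1_c9 LD2_c4 LD3_c37)) = (LP (LK LD1_c9 LD2_c9 LD3_c16)) :=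
  Leop (Lpr_ef (f631672 IH) (Lpn (LP (LK LD1_c9 LD2_c4 LD3_c37))))
theorem seed_263 : LEOK LG_e (LK LD1_c9 LD2_c4 LD3_c37) :=
  Leoe_e (LK LD1_c9 LD2_c4 LD3_c37) (f631673 IH)
def v4182 : LQ := Led Lsl_at (LP (LK LD1_c2 LD2_c13 LD3_c45))
theorem f631692 : Led Lsl_at (LP (LK LD1_c2 LD2_c13 LD3_c45)) = v4182 :=
  Lrfl
theorem f631693 : Led Lsl_af (LP (LK LD1_c2 LD2_c13 LD3_c45)) = v4182 :=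
  Lgr Lrot0 (Lpr_at (f631692 IH) (Lpn v4182))
theorem f140293 : Led Lsl_dt (LP (LK LD1_c9 LD2_c5 LD3_c3)) = (LP (LK LD1_c4 LD2_c33 LD3_c45)) :=
  Lre_d IH (LK LD1_c9 LD2_c5 LD3_c3) (LK LD1_c4 LD2_c33 LD3_c45) Lrfl Lrfl
theorem f631696 : Led Lsl_ft (LP (LK LD1_c2 LD2_c13 LD3_c46)) = v4182 :=
  Lgr Lrot2 (Lpr_gt (K32.f23121 IH) (Lpr_gt (K24.f140142 IH) (Lpr_af (f631693 IH) (Lpn v4182))))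
theorem f23113 : Led Lsl_dt (LP (LK LD1_c2 LD2_c13 LD3_c46)) = (LP (LK LD1_c4 LD2_c33 LD3_c50)) :=
  Lre_d IH (LK LD1_c2 LD2_c13 LD3_c46) (LK LD1_c4 LD2_c33 LD3_c50) Lrfl Lrfl
theorem f631697 : Led Lsl_cf (LP (LK LD1_c9 LD2_c5 LD3_c3)) = (LP (LK LD1_c6 LD2_c47 LD3_c58)) :=
  Lgr Lrot161 (Lpr_dt (f140293 IH) (Lpr_ct (K32.f140278 IH) (Lpr_af (f631693 IH) (Lpe (f631696 IH) (Lpr_dt (f23113 IH) (Lpr_ct (K32.f139978 IH) (Lpr_dt (K32.f83697 IH) (Lpe (K24.f454897 IH) (Lpr_dt (K29.f416146 IH) (Lpn (LP (LK LD1_c6 LD2_c47 LD3_c58))))))))))))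
theorem f631698 : Led Lsl_ct (LP (LK LD1_c6 LD2_c47 LD3_c58)) = (LP (LK LD1_c9 LD2_c5 LD3_c3)) :=
  Leop (Lpr_cf (f631697 IH) (Lpn (LP (LK LD1_c6 LD2_c47 LD3_c58))))
theorem seed_264 : LEOK LG_c (LK LD1_c6 LD2_c47 LD3_c58) :=
  Leoe_c (LK LD1_c6 LD2_c47 LD3_c58) (f631698 IH)
def v4216 : LQ := Led Lsl_et (LP (LK LD1_c2 LD2_c16 LD3_c20))
theorem f631969 : Led Lsl_et (LP (LK LD1_c2 LD2_c16 LD3_c20)) = v4216 :=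
  Lrfl
def v1730 : LQ := Led Lsl_gt (LP (LK LD1_c1 LD2_c24 LD3_c36))
theorem f501186 : Led Lsl_gt (LP (LK LD1_c1 LD2_c24 LD3_c36)) = v1730 :=
  Lrfl
theorem f452895 : Led Lsl_et (LP (LK LD1_c0 LD2_c38 LD3_c58)) = (LP (LK LD1_c1 LD2_c24 LD3_c36)) :=
  Lre_e IH (LK LD1_c0 LD2_c38 LD3_c58) (LK LD1_c1 LD2_c24 LD3_c36) Lrfl Lrfl
theorem f501187 : Led Lsl_et (LP (LK LD1_c3 LD2_c21 LD3_c33)) = v1730 :=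
  Lgr Lrot122 (Lpr_dt (K32.f414525 IH) (Lpe (K24.f416736 IH) (Lpe (K24.f22861 IH) (Lpr_et (K32.f23118 IH) (Lpe (K32.f501126 IH) (Lpr_dt (K0.f23857 IH) (Lpr_gt (K32.f501124 IH) (Lpe (K32.f415895 IH) (Lpr_et (f452895 IH) (Lpr_gt (f501186 IH) (Lpn v1730)))))))))))
theorem f501188 : Led Lsl_ef (LP (LK LD1_c3 LD2_c21 LD3_c33)) = v1730 :=
  Lgr Lrot88 (Lpr_et (f501187 IH) (Lpn v1730))
theorem f631973 : Led Lsl_ff v1730 = v4216 :=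
  Lgr Lrot72 (Lpe (f501188 IH) (Lpe (K32.f508065 IH) (Lpr_et (K16.f59824 IH) (Lpr_ft (K32.f500946 IH) (Lpqs (K32.f508009 IH) (Lpr_et (f631969 IH) (Lpn v4216)))))))
def v2185 : LQ := Led Lsl_et (LP (LK LD1_c1 LD2_c36 LD3_c61))
theorem f509513 : Led Lsl_et (LP (LK LD1_c1 LD2_c36 LD3_c61)) = v2185 :=
  Lrfl
theorem f509515 : Led Lsl_ef (LP (LK LD1_c1 LD2_c36 LD3_c61)) = v2185 :=
  Lgr Lrot88 (Lpr_et (f509513 IH) (Lpn v2185))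
theorem f509519 : Led Lsl_ct v1730 = v2185 :=
  Lgr Lrot15 (Lpe (f501187 IH) (Lpe (K17.f414510 IH) (Lpr_ef (f509515 IH) (Lpn v2185))))
theorem f508067 : Led Lsl_ft (LP (LK LD1_c1 LD2_c36 LD3_c27)) = (LP (LK LD1_c1 LD2_c36 LD3_c61)) :=
  Lgr Lrot4 (Lpr_cf (K16.f415420 IH) (Lpr_ff (K32.f508065 IH) (Lpe (K17.f414510 IH) (Lpn (LP (LK LD1_c1 LD2_c36 LD3_c61))))))
def v1362 : LQ := Led Lsl_et (LP (LK LD1_c1 LD2_c8 LD3_c13))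
theorem f495120 : Led Lsl_et (LP (LK LD1_c1 LD2_c8 LD3_c13)) = v1362 :=
  Lrfl
theorem f495121 : Led Lsl_ef (LP (LK LD1_c1 LD2_c8 LD3_c13)) = v1362 :=
  Lgr Lrot88 (Lpr_et (f495120 IH) (Lpn v1362))
theorem f509516 : Led Lsl_ff v1362 = v2185 :=
  Lgr Lrot72 (Lpe (f495121 IH) (Lpqs (K32.f508004 IH) (Lpe (K32.f453963 IH) (Lpr_et (K24.f415417 IH) (Lpr_ft (f508067 IH) (Lpr_et (f509513 IH) (Lpn v2185)))))))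
theorem f631975 : Led Lsl_ct v1362 = v4216 :=
  Lgr Lrot40 (Lpr_ff (f509516 IH) (Lpe (f509519 IH) (Lpr_ff (f631973 IH) (Lpn v4216))))
theorem f152072 : Led Lsl_et (LP (LK LD1_c1 LD2_c7 LD3_c26)) = (LP (LK LD1_c0 LD2_c43 LD3_c28)) :=
  Lgr Lrot69 (Lpe (K32.f152071 IH) (Lpe (K32.f152070 IH) (Lpr_ff (K7.f152066 IH) (Lpe (K0.f22491 IH) (Lpe (K7.f22567 IH) (Lpn (LP (LK LD1_c0 LD2_c43 LD3_c28))))))))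
def v1338 : LQ := Led Lsl_dt (LP (LK LD1_c1 LD2_c7 LD3_c26))
theorem f494915 : Led Lsl_dt (LP (LK LD1_c1 LD2_c7 LD3_c26)) = v1338 :=
  Lrfl
def v351 : LQ := Led Lsl_dt (LP (LK LD1_c0 LD2_c30 LD3_c55))
theorem f452359 : Led Lsl_dt (LP (LK LD1_c0 LD2_c30 LD3_c55)) = v351 :=
  Lrfl
theorem f452361 : Led Lsl_df (LP (LK LD1_c0 LD2_c30 LD3_c55)) = v351 :=
  Lgr Lrot38 (Lpr_dt (f452359 IH) (Lpn v351))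
theorem f494919 : Led Lsl_ff v351 = v1338 :=
  Lgr Lrot19 (Lpe (f452361 IH) (Lpr_ft (K32.f152071 IH) (Lpr_dt (f494915 IH) (Lpn v1338))))
def v133 : LQ := Led Lsl_dt (LP (LK LD1_c0 LD2_c19 LD3_c30))
theorem f450642 : Led Lsl_dt (LP (LK LD1_c0 LD2_c19 LD3_c30)) = v133 :=
  Lrfl
theorem f450643 : Led Lsl_df (LP (LK LD1_c0 LD2_c19 LD3_c30)) = v133 :=
  Lgr Lrot38 (Lpr_dt (f450642 IH) (Lpn v133))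
theorem f452360 : Led Lsl_af v133 = v351 :=
  Lgr Lrot117 (Lpe (f450643 IH) (Lpe (K32.f152085 IH) (Lpr_dt (f452359 IH) (Lpn v351))))
def v972 : LQ := Led Lsl_gf v133
theorem f490788 : Led Lsl_gf v133 = v972 :=
  Lrfl
theorem f494922 : Led Lsl_gf v972 = v1338 :=
  Lgr Lrot47 (Lpe (f490788 IH) (Lpr_af (f452360 IH) (Lpr_ff (f494919 IH) (Lpn v1338))))
theorem f495123 : Led Lsl_df v972 = v1362 :=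
  Lgr Lrot168 (Lpr_gf (f494922 IH) (Lpe (f494915 IH) (Lpr_et (f152072 IH) (Lpe (K24.f151924 IH) (Lpe (K32.f151930 IH) (Lpr_dt (K32.f151931 IH) (Lpr_gf (K32.f151932 IH) (Lpe (K6.f57177 IH) (Lpr_gf (K29.f438792 IH) (Lpr_ef (f495121 IH) (Lpn v1362)))))))))))
theorem f495124 : Led Lsl_dt v972 = v1362 :=
  Lgr Lrot42 (Lpr_df (f495123 IH) (Lpn v1362))
theorem f206534 : Led Lsl_gt (LP (LK LD1_c0 LD2_c43 LD3_c41)) = (LP (LK LD1_c1 LD2_c7 LD3_c26)) :=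
  Lgr Lrot131 (Lpe (f146027 IH) (Lpr_dt (K32.f139888 IH) (Lpe (f135636 IH) (Lpe (K6.f92219 IH) (Lpe (K32.f146019 IH) (Lpe (K32.f24627 IH) (Lpr_dt (K32.f144062 IH) (Lpr_gf (K32.f151920 IH) (Lpr_df (K24.f23780 IH) (Lpr_et (K24.f206532 IH) (Lpn (LP (LK LD1_c1 LD2_c7 LD3_c26)))))))))))))
theorem f442463 : Led Lsl_af (LP (LK LD1_c1 LD2_c4 LD3_c37)) = (LP (LK LD1_c0 LD2_c38 LD3_c24)) :=
  Lgr Lrot0 (Lpr_at (K24.f442461 IH) (Lpn (LP (LK LD1_c0 LD2_c38 LD3_c24))))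
theorem f27165 : Led Lsl_dt (LP (LK LD1_c1 LD2_c4 LD3_c37)) = (LP (LK LD1_c2 LD2_c15 LD3_c1)) :=
  Lre_d IH (LK LD1_c1 LD2_c4 LD3_c37) (LK LD1_c2 LD2_c15 LD3_c1) Lrfl Lrfl
theorem f442479 : Led Lsl_at (LP (LK LD1_c2 LD2_c15 LD3_c1)) = (LP (LK LD1_c1 LD2_c22 LD3_c60)) :=
  Lgr Lrot51 (Lpe (f27165 IH) (Lpr_af (f442463 IH) (Lpe (K17.f166183 IH) (Lpn (LP (LK LD1_c1 LD2_c22 LD3_c60))))))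
theorem f442483 : Led Lsl_ft (LP (LK LD1_c4 LD2_c35 LD3_c45)) = (LP (LK LD1_c2 LD2_c15 LD3_c1)) :=
  Lre_f IH (LK LD1_c4 LD2_c35 LD3_c45) (LK LD1_c2 LD2_c15 LD3_c1) Lrfl Lrfl
theorem f22473 : Led Lsl_gt (LP (LK LD1_c2 LD2_c54 LD3_c1)) = (LP (LK LD1_c1 LD2_c22 LD3_c60)) :=
  Lre_g IH (LK LD1_c2 LD2_c54 LD3_c1) (LK LD1_c1 LD2_c22 LD3_c60) Lrfl Lrfl
theorem f442484 : Led Lsl_gt (LP (LK LD1_c4 LD2_c35 LD3_c45)) = (LP (LK LD1_c2 LD2_c54 LD3_c1)) :=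
  Lgr Lrot5 (Lpr_ft (f442483 IH) (Lpr_at (f442479 IH) (Lpe (f22473 IH) (Lpn (LP (LK LD1_c2 LD2_c54 LD3_c1))))))
theorem f631977 : Led Lsl_dt (LP (LK LD1_c2 LD2_c54 LD3_c1)) = v4216 :=
  Lgr Lrot113 (Lpe (f442484 IH) (Lpe (K2.f82216 IH) (Lpe (K24.f452820 IH) (Lpe (f435600 IH) (Lpr_gt (f206534 IH) (Lpr_dt (f494915 IH) (Lpe (f494922 IH) (Lpr_dt (f495124 IH) (Lpr_ct (f631975 IH) (Lpn v4216))))))))))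
def v1705 : LQ := Led Lsl_et (LP (LK LD1_c1 LD2_c24 LD3_c18))
theorem f500948 : Led Lsl_et (LP (LK LD1_c1 LD2_c24 LD3_c18)) = v1705 :=
  Lrfl
theorem f500950 : Led Lsl_ef (LP (LK LD1_c1 LD2_c24 LD3_c18)) = v1705 :=
  Lgr Lrot88 (Lpr_et (f500948 IH) (Lpn v1705))
theorem f631970 : Led Lsl_af v1705 = v4216 :=
  Lgr Lrot50 (Lpe (f500950 IH) (Lpr_at (K32.f500942 IH) (Lpqs (K32.f508009 IH) (Lpr_et (f631969 IH) (Lpn v4216)))))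
theorem f452819 : Led Lsl_ff (LP (LK LD1_c0 LD2_c38 LD3_c24)) = K24.v437 :=
  Lgr Lrot3 (Lpr_ft (K24.f452815 IH) (Lpn K24.v437))
theorem f452824 : Led Lsl_et (LP (LK LD1_c2 LD2_c15 LD3_c27)) = K24.v437 :=
  Lgr Lrot69 (Lpe (K2.f71312 IH) (Lpe (K4.f26353 IH) (Lpr_ff (K2.f71308 IH) (Lpe (K24.f22471 IH) (Lpr_ff (f452819 IH) (Lpn K24.v437))))))
theorem f452826 : Led Lsl_gt (LP (LK LD1_c2 LD2_c14 LD3_c61)) = K24.v437 :=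
  Lgr Lrot131 (Lpe (f419094 IH) (Lpr_dt (f61082 IH) (Lpe (K32.f419087 IH) (Lpe (K29.f204244 IH) (Lpr_gf (K32.f204250 IH) (Lpe (K32.f435444 IH) (Lpr_dt (K32.f435447 IH) (Lpe (K32.f442867 IH) (Lpe (K32.f71385 IH) (Lpr_et (f452824 IH) (Lpn K24.v437)))))))))))
def v1638 : LQ := Led Lsl_ft (LP (LK LD1_c1 LD2_c22 LD3_c60))
theorem f500485 : Led Lsl_ft (LP (LK LD1_c1 LD2_c22 LD3_c60)) = v1638 :=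
  Lrfl
theorem f500488 : Led Lsl_ff (LP (LK LD1_c1 LD2_c22 LD3_c60)) = v1638 :=
  Lgr Lrot3 (Lpr_ft (f500485 IH) (Lpn v1638))
theorem f500490 : Led Lsl_dt K24.v437 = v1638 :=
  Lgr Lrot60 (Lpe (K24.f452815 IH) (Lpe (K17.f166183 IH) (Lpr_ff (f500488 IH) (Lpn v1638))))
theorem f71520 : Led Lsl_et (LP (LK LD1_c0 LD2_c38 LD3_c25)) = (LP (LK LD1_c1 LD2_c22 LD3_c60)) :=
  Lre_e IH (LK LD1_c0 LD2_c38 LD3_c25) (LK LD1_c1 LD2_c22 LD3_c60) Lrfl Lrfl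
theorem f71521 : Led Lsl_et (LP (LK LD1_c2 LD2_c15 LD3_c1)) = (LP (LK LD1_c1 LD2_c4 LD3_c38)) :=
  Lre_e IH (LK LD1_c2 LD2_c15 LD3_c1) (LK LD1_c1 LD2_c4 LD3_c38) Lrfl Lrfl
theorem f71522 : Led Lsl_at (LP (LK LD1_c1 LD2_c22 LD3_c60)) = (LP (LK LD1_c2 LD2_c15 LD3_c1)) :=
  Lgr Lrot80 (Lpe (f71520 IH) (Lpr_af (K2.f71508 IH) (Lpe (f71521 IH) (Lpn (LP (LK LD1_c2 LD2_c15 LD3_c1))))))
theorem f185771 : Led Lsl_gt (LP (LK LD1_c4 LD2_c35 LD3_c44)) = (LP (LK LD1_c2 LD2_c15 LD3_c1)) :=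
  Lre_g IH (LK LD1_c4 LD2_c35 LD3_c44) (LK LD1_c2 LD2_c15 LD3_c1) Lrfl Lrfl
theorem f500491 : Led Lsl_gf (LP (LK LD1_c4 LD2_c35 LD3_c44)) = v1638 :=
  Lgr Lrot47 (Lpr_gt (f185771 IH) (Lpe (f71522 IH) (Lpr_ff (f500488 IH) (Lpn v1638))))
theorem f500952 : Led Lsl_df (LP (LK LD1_c4 LD2_c35 LD3_c44)) = v1705 :=
  Lgr Lrot132 (Lpr_gf (f500491 IH) (Lpe (f500490 IH) (Lpe (f452826 IH) (Lpe (f419094 IH) (Lpr_dt (f61082 IH) (Lpe (K32.f419087 IH) (Lpe (K29.f204244 IH) (Lpe (K11.f204489 IH) (Lpe (K32.f419065 IH) (Lpr_ef (f500950 IH) (Lpn v1705)))))))))))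
theorem f631978 : Led Lsl_af (LP (LK LD1_c2 LD2_c54 LD3_c1)) = (LP (LK LD1_c4 LD2_c35 LD3_c44)) :=
  Lgr Lrot117 (Lpr_dt (f631977 IH) (Lpe (f631970 IH) (Lpe (f500952 IH) (Lpn (LP (LK LD1_c4 LD2_c35 LD3_c44))))))
theorem f631979 : Led Lsl_at (LP (LK LD1_c4 LD2_c35 LD3_c44)) = (LP (LK LD1_c2 LD2_c54 LD3_c1)) :=
  Leop (Lpr_af (f631978 IH) (Lpn (LP (LK LD1_c4 LD2_c35 LD3_c44))))
theorem seed_265 : LEOK LG_a (LK LD1_c4 LD2_c35 LD3_c44) :=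
  Leoe_a (LK LD1_c4 LD2_c35 LD3_c44) (f631979 IH)
def v4305 : LQ := Led Lsl_dt (LP (LK LD1_c2 LD2_c19 LD3_c8))
theorem f632537 : Led Lsl_dt (LP (LK LD1_c2 LD2_c19 LD3_c8)) = v4305 :=
  Lrfl
theorem f131564 : Led Lsl_et (LP (LK LD1_c1 LD2_c6 LD3_c42)) = (LP (LK LD1_c2 LD2_c19 LD3_c8)) :=
  Lre_e IH (LK LD1_c1 LD2_c6 LD3_c42) (LK LD1_c2 LD2_c19 LD3_c8) Lrfl Lrfl
theorem f632541 : Led Lsl_ef (LP (LK LD1_c2 LD2_c19 LD3_c9)) = v4305 :=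
  Lgr Lrot73 (Lpr_dt (K5.f82511 IH) (Lpr_et (K5.f82508 IH) (Lpr_dt (K5.f131552 IH) (Lpr_et (f131564 IH) (Lpr_dt (f632537 IH) (Lpn v4305))))))
theorem f113074 : Led Lsl_et (LP (LK LD1_c0 LD2_c41 LD3_c30)) = (LP (LK LD1_c0 LD2_c18 LD3_c33)) :=
  Lre_e IH (LK LD1_c0 LD2_c41 LD3_c30) (LK LD1_c0 LD2_c18 LD3_c33) Lrfl Lrfl
theorem f209648 : Led Lsl_gt (LP (LK LD1_c2 LD2_c19 LD3_c9)) = (LP (LK LD1_c1 LD2_c30 LD3_c16)) :=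
  Lgr Lrot112 (Lpe (K5.f82506 IH) (Lpr_et (K5.f82508 IH) (Lpr_gf (K5.f131555 IH) (Lpe (f113074 IH) (Lpr_dt (K5.f113397 IH) (Lpe (K5.f126924 IH) (Lpe (K11.f104593 IH) (Lpe (K7.f104231 IH) (Lpr_ef (K11.f209640 IH) (Lpr_dt (K33.f104664 IH) (Lpn (LP (LK LD1_c1 LD2_c30 LD3_c16)))))))))))))
theorem f209652 : Led Lsl_et (LP (LK LD1_c0 LD2_c41 LD3_c42)) = (LP (LK LD1_c1 LD2_c30 LD3_c9)) :=
  Lre_e IH (LK LD1_c0 LD2_c41 LD3_c42) (LK LD1_c1 LD2_c30 LD3_c9) Lrfl Lrfl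
theorem f131474 : Led Lsl_gt (LP (LK LD1_c1 LD2_c30 LD3_c9)) = (LP (LK LD1_c3 LD2_c7 LD3_c59)) :=
  Lre_g IH (LK LD1_c1 LD2_c30 LD3_c9) (LK LD1_c3 LD2_c7 LD3_c59) Lrfl Lrfl
theorem f209653 : Led Lsl_et (LP (LK LD1_c6 LD2_c20 LD3_c51)) = (LP (LK LD1_c3 LD2_c7 LD3_c59)) :=
  Lre_e IH (LK LD1_c6 LD2_c20 LD3_c51) (LK LD1_c3 LD2_c7 LD3_c59) Lrfl Lrfl
theorem f632540 : Led Lsl_df (LP (LK LD1_c2 LD2_c19 LD3_c8)) = v4305 :=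
  Lgr Lrot38 (Lpr_dt (f632537 IH) (Lpn v4305))
theorem f435311 : Led Lsl_gt (LP (LK LD1_c4 LD2_c43 LD3_c4)) = (LP (LK LD1_c2 LD2_c19 LD3_c8)) :=
  Lre_g IH (LK LD1_c4 LD2_c43 LD3_c4) (LK LD1_c2 LD2_c19 LD3_c8) Lrfl Lrfl
theorem f632545 : Led Lsl_dt (LP (LK LD1_c6 LD2_c20 LD3_c51)) = (LP (LK LD1_c4 LD2_c43 LD3_c4)) :=
  Lgr Lrot136 (Lpr_et (f209653 IH) (Lpe (f131474 IH) (Lpe (f209652 IH) (Lpr_dt (K5.f104601 IH) (Lpe (K7.f104231 IH) (Lpe (K33.f104705 IH) (Lpe (f209648 IH) (Lpr_ef (f632541 IH) (Lpe (f632540 IH) (Lpe (f435311 IH) (Lpn (LP (LK LD1_c4 LD2_c43 LD3_c4)))))))))))))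
theorem f632546 : Led Lsl_dt (LP (LK LD1_c6 LD2_c20 LD3_c51)) = (LP (LK LD1_c4 LD2_c43 LD3_c4)) :=
  Leop (Lpe (f632545 IH) (Lpn (LP (LK LD1_c6 LD2_c20 LD3_c51))))
theorem seed_266 : LEOK LG_d (LK LD1_c6 LD2_c20 LD3_c51) :=
  Leoe_d (LK LD1_c6 LD2_c20 LD3_c51) (f632546 IH)
def v4336 : LQ := Led Lsl_et (LP (LK LD1_c2 LD2_c19 LD3_c33))
theorem f632743 : Led Lsl_et (LP (LK LD1_c2 LD2_c19 LD3_c33)) = v4336 :=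
  Lrfl
theorem f632748 : Led Lsl_gf (LP (LK LD1_c3 LD2_c12 LD3_c53)) = v4336 :=
  Lgr Lrot141 (Lpe (K29.f79718 IH) (Lpr_dt (K8.f61024 IH) (Lpe (K32.f419119 IH) (Lpe (K9.f67186 IH) (Lpr_et (K32.f67191 IH) (Lpe (K32.f435313 IH) (Lpr_dt (K32.f503941 IH) (Lpr_gt (K32.f26274 IH) (Lpe (K24.f26279 IH) (Lpr_et (f632743 IH) (Lpn v4336)))))))))))
theorem f67500 : Led Lsl_dt (LP (LK LD1_c12 LD2_c13 LD3_c38)) = (LP (LK LD1_c6 LD2_c18 LD3_c55)) :=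
  Lre_d IH (LK LD1_c12 LD2_c13 LD3_c38) (LK LD1_c6 LD2_c18 LD3_c55) Lrfl Lrfl
theorem f67499 : Led Lsl_ft (LP (LK LD1_c6 LD2_c27 LD3_c48)) = (LP (LK LD1_c12 LD2_c26 LD3_c60)) :=
  Lre_f IH (LK LD1_c6 LD2_c27 LD3_c48) (LK LD1_c12 LD2_c26 LD3_c60) Lrfl Lrfl
theorem f68266 : Led Lsl_gt (LP (LK LD1_c12 LD2_c11 LD3_c61)) = (LP (LK LD1_c12 LD2_c13 LD3_c38)) :=
  Lgr Lrot46 (Lpr_gf (K32.f68259 IH) (Lpr_ft (f67499 IH) (Lpe (K2.f67480 IH) (Lpn (LP (LK LD1_c12 LD2_c13 LD3_c38))))))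
theorem f68265 : Led Lsl_dt (LP (LK LD1_c6 LD2_c17 LD3_c48)) = (LP (LK LD1_c12 LD2_c11 LD3_c61)) :=
  Lre_d IH (LK LD1_c6 LD2_c17 LD3_c48) (LK LD1_c12 LD2_c11 LD3_c61) Lrfl Lrfl
theorem f438359 : Led Lsl_cf (LP (LK LD1_c2 LD2_c19 LD3_c33)) = (LP (LK LD1_c3 LD2_c20 LD3_c10)) :=
  Lgr Lrot11 (Lpr_ct (K32.f438354 IH) (Lpn (LP (LK LD1_c3 LD2_c20 LD3_c10))))
theorem f62496 : Led Lsl_et (LP (LK LD1_c6 LD2_c44 LD3_c2)) = (LP (LK LD1_c3 LD2_c20 LD3_c10)) :=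
  Lre_e IH (LK LD1_c6 LD2_c44 LD3_c2) (LK LD1_c3 LD2_c20 LD3_c10) Lrfl Lrfl
theorem f632745 : Led Lsl_cf (LP (LK LD1_c6 LD2_c44 LD3_c2)) = v4336 :=
  Lgr Lrot39 (Lpr_et (f62496 IH) (Lpe (f438359 IH) (Lpr_et (f632743 IH) (Lpn v4336))))
theorem f632749 : Led Lsl_gf (LP (LK LD1_c6 LD2_c17 LD3_c48)) = (LP (LK LD1_c6 LD2_c44 LD3_c2)) :=
  Lgr Lrot148 (Lpr_dt (f68265 IH) (Lpr_gt (f68266 IH) (Lpr_dt (f67500 IH) (Lpr_ct (K2.f67461 IH) (Lpe (K2.f67464 IH) (Lpe (K9.f68287 IH) (Lpe (K29.f68254 IH) (Lpr_gf (f632748 IH) (Lpe (f632745 IH) (Lpn (LP (LK LD1_c6 LD2_c44 LD3_c2))))))))))))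
theorem f632750 : Led Lsl_gt (LP (LK LD1_c6 LD2_c44 LD3_c2)) = (LP (LK LD1_c6 LD2_c17 LD3_c48)) :=
  Leop (Lpr_gf (f632749 IH) (Lpn (LP (LK LD1_c6 LD2_c44 LD3_c2))))
theorem seed_267 : LEOK LG_g (LK LD1_c6 LD2_c44 LD3_c2) :=
  Leoe_g (LK LD1_c6 LD2_c44 LD3_c2) (f632750 IH)
def v4408 : LQ := Led Lsl_bt (LP (LK LD1_c2 LD2_c20 LD3_c49))
theorem f633190 : Led Lsl_bt (LP (LK LD1_c2 LD2_c20 LD3_c49)) = v4408 :=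
  Lrfl
theorem f633191 : Led Lsl_bf (LP (LK LD1_c2 LD2_c20 LD3_c49)) = v4408 :=
  Lgr Lrot24 (Lpr_bt (f633190 IH) (Lpn v4408))
theorem f98978 : Led Lsl_gt (LP (LK LD1_c1 LD2_c7 LD3_c60)) = (LP (LK LD1_c2 LD2_c20 LD3_c49)) :=
  Lre_g IH (LK LD1_c1 LD2_c7 LD3_c60) (LK LD1_c2 LD2_c20 LD3_c49) Lrfl Lrfl
theorem f98993 : Led Lsl_bt (LP (LK LD1_c0 LD2_c31 LD3_c20)) = (LP (LK LD1_c1 LD2_c7 LD3_c60)) :=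
  Lre_b IH (LK LD1_c0 LD2_c31 LD3_c20) (LK LD1_c1 LD2_c7 LD3_c60) Lrfl Lrfl
theorem f76869 : Led Lsl_bt (LP (LK LD1_c0 LD2_c45 LD3_c30)) = (LP (LK LD1_c0 LD2_c20 LD3_c20)) :=
  Lre_b IH (LK LD1_c0 LD2_c45 LD3_c30) (LK LD1_c0 LD2_c20 LD3_c20) Lrfl Lrfl
theorem f76870 : Led Lsl_ct (LP (LK LD1_c0 LD2_c45 LD3_c30)) = (LP (LK LD1_c1 LD2_c38 LD3_c9)) :=
  Lre_c IH (LK LD1_c0 LD2_c45 LD3_c30) (LK LD1_c1 LD2_c38 LD3_c9) Lrfl Lrfl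
theorem f76880 : Led Lsl_gt (LP (LK LD1_c3 LD2_c23 LD3_c43)) = (LP (LK LD1_c1 LD2_c38 LD3_c9)) :=
  Lre_g IH (LK LD1_c3 LD2_c23 LD3_c43) (LK LD1_c1 LD2_c38 LD3_c9) Lrfl Lrfl
theorem f633194 : Led Lsl_cf (LP (LK LD1_c3 LD2_c23 LD3_c43)) = v4408 :=
  Lgr Lrot160 (Lpr_gt (f76880 IH) (Lpe (f76870 IH) (Lpr_bt (f76869 IH) (Lpr_gt (K9.f61207 IH) (Lpe (K9.f140032 IH) (Lpr_gt (K0.f22928 IH) (Lpe (K17.f140058 IH) (Lpr_bt (f98993 IH) (Lpr_gt (f98978 IH) (Lpr_bf (f633191 IH) (Lpn v4408)))))))))))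
theorem f633195 : Led Lsl_bt (LP (LK LD1_c3 LD2_c23 LD3_c43)) = (LP (LK LD1_c6 LD2_c50 LD3_c41)) :=
  Lre_b IH (LK LD1_c3 LD2_c23 LD3_c43) (LK LD1_c6 LD2_c50 LD3_c41) Lrfl Lrfl
theorem f98972 : Led Lsl_ct (LP (LK LD1_c4 LD2_c45 LD3_c26)) = (LP (LK LD1_c2 LD2_c20 LD3_c49)) :=
  Lre_c IH (LK LD1_c4 LD2_c45 LD3_c26) (LK LD1_c2 LD2_c20 LD3_c49) Lrfl Lrfl
theorem f633192 : Led Lsl_bt (LP (LK LD1_c9 LD2_c23 LD3_c39)) = (LP (LK LD1_c4 LD2_c45 LD3_c26)) :=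
  Lre_b IH (LK LD1_c9 LD2_c23 LD3_c39) (LK LD1_c4 LD2_c45 LD3_c26) Lrfl Lrfl
theorem f633196 : Led Lsl_ct (LP (LK LD1_c6 LD2_c50 LD3_c41)) = (LP (LK LD1_c9 LD2_c23 LD3_c39)) :=
  Lgr Lrot83 (Lpe (f633195 IH) (Lpr_cf (f633194 IH) (Lpe (f633190 IH) (Lpe (f98972 IH) (Lpe (f633192 IH) (Lpn (LP (LK LD1_c9 LD2_c23 LD3_c39))))))))
theorem f633197 : Led Lsl_ct (LP (LK LD1_c6 LD2_c50 LD3_c41)) = (LP (LK LD1_c9 LD2_c23 LD3_c39)) :=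
  Leop (Lpe (f633196 IH) (Lpn (LP (LK LD1_c6 LD2_c50 LD3_c41))))
theorem seed_268 : LEOK LG_c (LK LD1_c6 LD2_c50 LD3_c41) :=
  Leoe_c (LK LD1_c6 LD2_c50 LD3_c41) (f633197 IH)
def v4437 : LQ := Led Lsl_ft (LP (LK LD1_c2 LD2_c21 LD3_c30))
theorem f633378 : Led Lsl_ft (LP (LK LD1_c2 LD2_c21 LD3_c30)) = v4437 :=
  Lrfl
theorem f76954 : Led Lsl_gt (LP (LK LD1_c2 LD2_c21 LD3_c30)) = (LP (LK LD1_c4 LD2_c47 LD3_c16)) :=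
  Lre_g IH (LK LD1_c2 LD2_c21 LD3_c30) (LK LD1_c4 LD2_c47 LD3_c16) Lrfl Lrfl
def v4436 : LQ := Led Lsl_at (LP (LK LD1_c2 LD2_c21 LD3_c30))
theorem f633361 : Led Lsl_at (LP (LK LD1_c2 LD2_c21 LD3_c30)) = v4436 :=
  Lrfl
theorem f633362 : Led Lsl_af (LP (LK LD1_c2 LD2_c21 LD3_c30)) = v4436 :=
  Lgr Lrot0 (Lpr_at (f633361 IH) (Lpn v4436))
theorem f76953 : Led Lsl_ct (LP (LK LD1_c1 LD2_c7 LD3_c58)) = (LP (LK LD1_c2 LD2_c21 LD3_c30)) :=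
  Lre_c IH (LK LD1_c1 LD2_c7 LD3_c58) (LK LD1_c2 LD2_c21 LD3_c30) Lrfl Lrfl
def v1351 : LQ := Led Lsl_at (LP (LK LD1_c1 LD2_c7 LD3_c58))
theorem f495044 : Led Lsl_at (LP (LK LD1_c1 LD2_c7 LD3_c58)) = v1351 :=
  Lrfl
theorem f495045 : Led Lsl_af (LP (LK LD1_c1 LD2_c7 LD3_c58)) = v1351 :=
  Lgr Lrot0 (Lpr_at (f495044 IH) (Lpn v1351))
theorem f633364 : Led Lsl_cf v1351 = v4436 :=
  Lgr Lrot1 (Lpe (f495045 IH) (Lpr_ct (f76953 IH) (Lpr_at (f633361 IH) (Lpn v4436))))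
theorem f76948 : Led Lsl_gt (LP (LK LD1_c0 LD2_c31 LD3_c9)) = (LP (LK LD1_c1 LD2_c7 LD3_c58)) :=
  Lre_g IH (LK LD1_c0 LD2_c31 LD3_c9) (LK LD1_c1 LD2_c7 LD3_c58) Lrfl Lrfl
theorem f140007 : Led Lsl_gt (LP (LK LD1_c1 LD2_c7 LD3_c59)) = (LP (LK LD1_c0 LD2_c31 LD3_c9)) :=
  Lre_g IH (LK LD1_c1 LD2_c7 LD3_c59) (LK LD1_c0 LD2_c31 LD3_c9) Lrfl Lrfl
theorem f495048 : Led Lsl_ft (LP (LK LD1_c1 LD2_c7 LD3_c59)) = v1351 :=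
  Lgr Lrot2 (Lpr_gt (f140007 IH) (Lpr_gt (f76948 IH) (Lpr_af (f495045 IH) (Lpn v1351))))
theorem f495051 : Led Lsl_ff (LP (LK LD1_c1 LD2_c7 LD3_c59)) = v1351 :=
  Lgr Lrot3 (Lpr_ft (f495048 IH) (Lpn v1351))
theorem f495052 : Led Lsl_ct (LP (LK LD1_c1 LD2_c7 LD3_c59)) = (LP (LK LD1_c2 LD2_c21 LD3_c32)) :=
  Lre_c IH (LK LD1_c1 LD2_c7 LD3_c59) (LK LD1_c2 LD2_c21 LD3_c32) Lrfl Lrfl
theorem f633366 : Led Lsl_ft (LP (LK LD1_c2 LD2_c21 LD3_c32)) = v4436 :=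
  Lgr Lrot4 (Lpe (f495052 IH) (Lpr_ff (f495051 IH) (Lpr_cf (f633364 IH) (Lpn v4436))))
theorem f633379 : Led Lsl_af (LP (LK LD1_c2 LD2_c21 LD3_c32)) = v4437 :=
  Lgr Lrot45 (Lpr_ft (f633366 IH) (Lpe (f633362 IH) (Lpr_ft (f633378 IH) (Lpn v4437))))
theorem f633382 : Led Lsl_gt (LP (LK LD1_c4 LD2_c47 LD3_c16)) = (LP (LK LD1_c2 LD2_c21 LD3_c32)) :=
  Lgr Lrot46 (Lpe (f76954 IH) (Lpr_ft (f633378 IH) (Lpe (f633379 IH) (Lpn (LP (LK LD1_c2 LD2_c21 LD3_c32))))))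
theorem f633383 : Led Lsl_gt (LP (LK LD1_c4 LD2_c47 LD3_c16)) = (LP (LK LD1_c2 LD2_c21 LD3_c32)) :=
  Leop (Lpe (f633382 IH) (Lpn (LP (LK LD1_c4 LD2_c47 LD3_c16))))
theorem seed_269 : LEOK LG_g (LK LD1_c4 LD2_c47 LD3_c16) :=
  Leoe_g (LK LD1_c4 LD2_c47 LD3_c16) (f633383 IH)
def v4452 : LQ := Led Lsl_ft (LP (LK LD1_c2 LD2_c21 LD3_c45))
theorem f633456 : Led Lsl_ft (LP (LK LD1_c2 LD2_c21 LD3_c45)) = v4452 :=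
  Lrfl
theorem f113296 : Led Lsl_gt (LP (LK LD1_c2 LD2_c21 LD3_c45)) = (LP (LK LD1_c4 LD2_c47 LD3_c45)) :=
  Lre_g IH (LK LD1_c2 LD2_c21 LD3_c45) (LK LD1_c4 LD2_c47 LD3_c45) Lrfl Lrfl
theorem f438277 : Led Lsl_at (LP (LK LD1_c1 LD2_c8 LD3_c5)) = (LP (LK LD1_c2 LD2_c21 LD3_c45)) :=
  Lre_a IH (LK LD1_c1 LD2_c8 LD3_c5) (LK LD1_c2 LD2_c21 LD3_c45) Lrfl Lrfl
theorem f155961 : Led Lsl_ft (LP (LK LD1_c2 LD2_c21 LD3_c53)) = (LP (LK LD1_c1 LD2_c8 LD3_c5)) :=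
  Lre_f IH (LK LD1_c2 LD2_c21 LD3_c53) (LK LD1_c1 LD2_c8 LD3_c5) Lrfl Lrfl
theorem f633457 : Led Lsl_af (LP (LK LD1_c2 LD2_c21 LD3_c53)) = v4452 :=
  Lgr Lrot45 (Lpr_ft (f155961 IH) (Lpr_at (f438277 IH) (Lpr_ft (f633456 IH) (Lpn v4452))))
theorem f633461 : Led Lsl_gt (LP (LK LD1_c4 LD2_c47 LD3_c45)) = (LP (LK LD1_c2 LD2_c21 LD3_c53)) :=
  Lgr Lrot46 (Lpe (f113296 IH) (Lpr_ft (f633456 IH) (Lpe (f633457 IH) (Lpn (LP (LK LD1_c2 LD2_c21 LD3_c53))))))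
theorem f633462 : Led Lsl_gt (LP (LK LD1_c4 LD2_c47 LD3_c45)) = (LP (LK LD1_c2 LD2_c21 LD3_c53)) :=
  Leop (Lpe (f633461 IH) (Lpn (LP (LK LD1_c4 LD2_c47 LD3_c45))))
theorem seed_270 : LEOK LG_g (LK LD1_c4 LD2_c47 LD3_c45) :=
  Leoe_g (LK LD1_c4 LD2_c47 LD3_c45) (f633462 IH)
def v4463 : LQ := Led Lsl_gt (LP (LK LD1_c2 LD2_c21 LD3_c57))
theorem f633528 : Led Lsl_gt (LP (LK LD1_c2 LD2_c21 LD3_c57)) = v4463 :=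
  Lrfl
theorem f27089 : Led Lsl_dt (LP (LK LD1_c1 LD2_c8 LD3_c7)) = (LP (LK LD1_c2 LD2_c21 LD3_c56)) :=
  Lre_d IH (LK LD1_c1 LD2_c8 LD3_c7) (LK LD1_c2 LD2_c21 LD3_c56) Lrfl Lrfl
theorem f633531 : Led Lsl_df (LP (LK LD1_c3 LD2_c6 LD3_c9)) = v4463 :=
  Lgr Lrot135 (Lpr_gt (K32.f25577 IH) (Lpe (K0.f23254 IH) (Lpr_et (K0.f23253 IH) (Lpr_gt (K17.f20135 IH) (Lpe (K24.f20129 IH) (Lpr_dt (K24.f20143 IH) (Lpe (K32.f135498 IH) (Lpe (f27089 IH) (Lpr_et (f27082 IH) (Lpr_gt (f633528 IH) (Lpn v4463)))))))))))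
theorem f501032 : Led Lsl_df (LP (LK LD1_c3 LD2_c11 LD3_c47)) = K32.v1719 :=
  Lgr Lrot153 (Lpr_gt (K29.f68066 IH) (Lpe (K2.f68231 IH) (Lpe (K2.f59449 IH) (Lpe (K2.f73202 IH) (Lpe (K32.f55703 IH) (Lpr_df (K32.f73211 IH) (Lpe (K32.f73220 IH) (Lpr_cf (K32.f140776 IH) (Lpr_gt (K32.f501031 IH) (Lpn K32.v1719))))))))))
theorem f501033 : Led Lsl_dt (LP (LK LD1_c3 LD2_c11 LD3_c47)) = K32.v1719 :=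
  Lgr Lrot42 (Lpr_df (f501032 IH) (Lpn K32.v1719))
theorem f633535 : Led Lsl_ct (LP (LK LD1_c6 LD2_c22 LD3_c5)) = v4463 :=
  Lgr Lrot110 (Lpe (K32.f79843 IH) (Lpe (K31.f79839 IH) (Lpr_gf (K32.f504813 IH) (Lpq (K32.f504832 IH) (Lpe (f501033 IH) (Lpr_gt (K29.f68066 IH) (Lpr_ct (K2.f67508 IH) (Lpr_gt (K32.f444285 IH) (Lpr_ct (K32.f25583 IH) (Lpr_df (f633531 IH) (Lpn v4463)))))))))))
theorem f633537 : Led Lsl_cf (LP (LK LD1_c6 LD2_c22 LD3_c5)) = v4463 :=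
  Lgr Lrot11 (Lpr_ct (f633535 IH) (Lpn v4463))
theorem f20112 : Led Lsl_ct (LP (LK LD1_c0 LD2_c40 LD3_c28)) = (LP (LK LD1_c1 LD2_c5 LD3_c29)) :=
  Lre_c IH (LK LD1_c0 LD2_c40 LD3_c28) (LK LD1_c1 LD2_c5 LD3_c29) Lrfl Lrfl
theorem f27070 : Led Lsl_ct (LP (LK LD1_c4 LD2_c38 LD3_c56)) = (LP (LK LD1_c2 LD2_c21 LD3_c57)) :=
  Lgr Lrot7 (Lpe (f27069 IH) (Lpr_gf (f27067 IH) (Lpe (f20111 IH) (Lpe (K0.f20110 IH) (Lpe (f20112 IH) (Lpr_gt (K24.f20095 IH) (Lpr_dt (K24.f20104 IH) (Lpe (f20105 IH) (Lpr_dt (K32.f20107 IH) (Lpn (LP (LK LD1_c2 LD2_c21 LD3_c57))))))))))))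
theorem f71352 : Led Lsl_et (LP (LK LD1_c4 LD2_c36 LD3_c32)) = (LP (LK LD1_c2 LD2_c15 LD3_c25)) :=
  Lre_e IH (LK LD1_c4 LD2_c36 LD3_c32) (LK LD1_c2 LD2_c15 LD3_c25) Lrfl Lrfl
def v1657 : LQ := Led Lsl_ft (LP (LK LD1_c1 LD2_c23 LD3_c21))
theorem f500591 : Led Lsl_ft (LP (LK LD1_c1 LD2_c23 LD3_c21)) = v1657 :=
  Lrfl
theorem f500594 : Led Lsl_ff (LP (LK LD1_c1 LD2_c23 LD3_c21)) = v1657 :=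
  Lgr Lrot3 (Lpr_ft (f500591 IH) (Lpn v1657))
theorem f68382 : Led Lsl_ct (LP (LK LD1_c1 LD2_c33 LD3_c47)) = (LP (LK LD1_c3 LD2_c14 LD3_c33)) :=
  Lre_c IH (LK LD1_c1 LD2_c33 LD3_c47) (LK LD1_c3 LD2_c14 LD3_c33) Lrfl Lrfl
theorem f442869 : Led Lsl_ct (LP (LK LD1_c1 LD2_c23 LD3_c21)) = (LP (LK LD1_c0 LD2_c43 LD3_c26)) :=
  Lgr Lrot8 (Lpe (K32.f442859 IH) (Lpr_dt (K32.f71385 IH) (Lpr_gt (K32.f442867 IH) (Lpe (K32.f435452 IH) (Lpe (f68382 IH) (Lpe (K24.f22730 IH) (Lpe (K32.f151950 IH) (Lpr_df (K24.f144060 IH) (Lpr_gf (K24.f151942 IH) (Lpn (LP (LK LD1_c0 LD2_c43 LD3_c26))))))))))))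
def v511 : LQ := Led Lsl_ft (LP (LK LD1_c0 LD2_c43 LD3_c26))
theorem f453711 : Led Lsl_ft (LP (LK LD1_c0 LD2_c43 LD3_c26)) = v511 :=
  Lrfl
theorem f500596 : Led Lsl_ct v511 = v1657 :=
  Lgr Lrot40 (Lpe (f453711 IH) (Lpe (f442869 IH) (Lpr_ff (f500594 IH) (Lpn v1657))))
def v1329 : LQ := Led Lsl_at (LP (LK LD1_c1 LD2_c7 LD3_c21))
theorem f494878 : Led Lsl_at (LP (LK LD1_c1 LD2_c7 LD3_c21)) = v1329 :=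
  Lrfl
theorem f494879 : Led Lsl_af (LP (LK LD1_c1 LD2_c7 LD3_c21)) = v1329 :=
  Lgr Lrot0 (Lpr_at (f494878 IH) (Lpn v1329))
theorem f494880 : Led Lsl_ft (LP (LK LD1_c1 LD2_c7 LD3_c22)) = v1329 :=
  Lgr Lrot2 (Lpr_gt (K32.f25232 IH) (Lpr_gt (K24.f25227 IH) (Lpr_af (f494879 IH) (Lpn v1329))))
theorem f494881 : Led Lsl_ff (LP (LK LD1_c1 LD2_c7 LD3_c22)) = v1329 :=
  Lgr Lrot3 (Lpr_ft (f494880 IH) (Lpn v1329))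
def v1711 : LQ := Led Lsl_at (LP (LK LD1_c1 LD2_c24 LD3_c25))
theorem f500982 : Led Lsl_at (LP (LK LD1_c1 LD2_c24 LD3_c25)) = v1711 :=
  Lrfl
def v549 : LQ := Led Lsl_at (LP (LK LD1_c0 LD2_c44 LD3_c33))
theorem f453945 : Led Lsl_at (LP (LK LD1_c0 LD2_c44 LD3_c33)) = v549 :=
  Lrfl
theorem f453946 : Led Lsl_af (LP (LK LD1_c0 LD2_c44 LD3_c33)) = v549 :=
  Lgr Lrot0 (Lpr_at (f453945 IH) (Lpn v549))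
theorem f500984 : Led Lsl_cf v549 = v1711 :=
  Lgr Lrot1 (Lpe (f453946 IH) (Lpr_ct (f435571 IH) (Lpr_at (f500982 IH) (Lpn v1711))))
theorem f500985 : Led Lsl_ct v549 = v1711 :=
  Lgr Lrot59 (Lpr_cf (f500984 IH) (Lpn v1711))
theorem f453947 : Led Lsl_ft (LP (LK LD1_c0 LD2_c44 LD3_c34)) = v549 :=
  Lgr Lrot2 (Lpr_gt (K29.f24630 IH) (Lpr_gt (K9.f24620 IH) (Lpr_af (f453946 IH) (Lpn v549))))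
theorem f506944 : (LP (LK LD1_c1 LD2_c8 LD3_c6)) = v549 :=
  Lefun (Lecon (Lfl_ff (K32.f495110 IH)) (K32.f506940 IH)) (f453947 IH)
theorem f506957 : v1711 = (LP (LK LD1_c2 LD2_c16 LD3_c27)) :=
  Lefun (Lecon (f500985 IH) (f506944 IH).symm) (K32.f435403 IH)
theorem f453948 : Led Lsl_ff (LP (LK LD1_c0 LD2_c44 LD3_c34)) = v549 :=
  Lgr Lrot3 (Lpr_ft (f453947 IH) (Lpn v549))
theorem f500986 : Led Lsl_ft (LP (LK LD1_c1 LD2_c24 LD3_c26)) = v1711 :=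
  Lgr Lrot4 (Lpe (K29.f443997 IH) (Lpr_ff (f453948 IH) (Lpr_cf (f500984 IH) (Lpn v1711))))
theorem f506962 : Led Lsl_ff (LP (LK LD1_c2 LD2_c57 LD3_c24)) = (LP (LK LD1_c4 LD2_c38 LD3_c53)) :=
  Lgr Lrot19 (Lpr_dt (K32.f68642 IH) (Lpr_ft (f500986 IH) (Lpqs (f506957 IH) (Lpr_dt (K8.f27027 IH) (Lpn (LP (LK LD1_c4 LD2_c38 LD3_c53)))))))
theorem f506967 : Led Lsl_at (LP (LK LD1_c2 LD2_c57 LD3_c24)) = (LP (LK LD1_c4 LD2_c38 LD3_c55)) :=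
  Lgr Lrot26 (Lpr_ff (f506962 IH) (Lpr_gt (K8.f27028 IH) (Lpr_gt (f412331 IH) (Lpn (LP (LK LD1_c4 LD2_c38 LD3_c55))))))
theorem f443741 : Led Lsl_et (LP (LK LD1_c6 LD2_c2 LD3_c39)) = (LP (LK LD1_c2 LD2_c57 LD3_c24)) :=
  Lre_e IH (LK LD1_c6 LD2_c2 LD3_c39) (LK LD1_c2 LD2_c57 LD3_c24) Lrfl Lrfl
theorem f506972 : Led Lsl_af (LP (LK LD1_c6 LD2_c2 LD3_c39)) = (LP (LK LD1_c9 LD2_c13 LD3_c37)) :=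
  Lgr Lrot50 (Lpr_et (f443741 IH) (Lpr_at (f506967 IH) (Lpr_et (K11.f177088 IH) (Lpn (LP (LK LD1_c9 LD2_c13 LD3_c37))))))
theorem f411189 : Led Lsl_dt (LP (LK LD1_c6 LD2_c2 LD3_c39)) = (LP (LK LD1_c11 LD2_c49 LD3_c30)) :=
  Lre_d IH (LK LD1_c6 LD2_c2 LD3_c39) (LK LD1_c11 LD2_c49 LD3_c30) Lrfl Lrfl
theorem f506976 : Led Lsl_at (LP (LK LD1_c11 LD2_c49 LD3_c30)) = (LP (LK LD1_c17 LD2_c7 LD3_c59)) :=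
  Lgr Lrot51 (Lpe (f411189 IH) (Lpr_af (f506972 IH) (Lpe (K11.f27081 IH) (Lpn (LP (LK LD1_c17 LD2_c7 LD3_c59))))))
theorem f505198 : Led Lsl_et (LP (LK LD1_c6 LD2_c2 LD3_c40)) = (LP (LK LD1_c11 LD2_c49 LD3_c30)) :=
  Lre_e IH (LK LD1_c6 LD2_c2 LD3_c40) (LK LD1_c11 LD2_c49 LD3_c30) Lrfl Lrfl
theorem f506980 : Led Lsl_af (LP (LK LD1_c6 LD2_c2 LD3_c40)) = (LP (LK LD1_c9 LD2_c13 LD3_c38)) :=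
  Lgr Lrot50 (Lpr_et (f505198 IH) (Lpr_at (f506976 IH) (Lpr_et (K11.f27080 IH) (Lpn (LP (LK LD1_c9 LD2_c13 LD3_c38))))))
theorem f76938 : Led Lsl_et (LP (LK LD1_c1 LD2_c8 LD3_c22)) = (LP (LK LD1_c2 LD2_c22 LD3_c31)) :=
  Lre_e IH (LK LD1_c1 LD2_c8 LD3_c22) (LK LD1_c2 LD2_c22 LD3_c31) Lrfl Lrfl
theorem f416631 : Led Lsl_gt (LP (LK LD1_c3 LD2_c0 LD3_c48)) = (LP (LK LD1_c4 LD2_c35 LD3_c43)) :=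
  Lgr Lrot49 (Lpr_df (K9.f22949 IH) (Lpe (K0.f22941 IH) (Lpe (K24.f23081 IH) (Lpr_gt (K24.f23082 IH) (Lpe (K24.f416473 IH) (Lpr_gt (K24.f416483 IH) (Lpr_dt (K24.f416599 IH) (Lpe (f414935 IH) (Lpe (K24.f414531 IH) (Lpn (LP (LK LD1_c4 LD2_c35 LD3_c43))))))))))))
theorem f23869 : Led Lsl_dt (LP (LK LD1_c2 LD2_c57 LD3_c39)) = (LP (LK LD1_c6 LD2_c3 LD3_c7)) :=
  Lre_d IH (LK LD1_c2 LD2_c57 LD3_c39) (LK LD1_c6 LD2_c3 LD3_c7) Lrfl Lrfl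
theorem f452321 : Led Lsl_gf (LP (LK LD1_c3 LD2_c0 LD3_c47)) = (LP (LK LD1_c6 LD2_c3 LD3_c7)) :=
  Lgr Lrot145 (Lpe (K29.f23079 IH) (Lpr_et (K9.f22951 IH) (Lpr_gt (f416631 IH) (Lpr_dt (K24.f414531 IH) (Lpr_gt (K24.f414933 IH) (Lpe (K24.f76936 IH) (Lpr_et (f76938 IH) (Lpr_gt (K24.f452309 IH) (Lpe (K0.f23870 IH) (Lpr_dt (f23869 IH) (Lpn (LP (LK LD1_c6 LD2_c3 LD3_c7)))))))))))))
theorem f506986 : Led Lsl_ft (LP (LK LD1_c6 LD2_c3 LD3_c7)) = (LP (LK LD1_c9 LD2_c13 LD3_c38)) :=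
  Lgr Lrot2 (Lpe (f452321 IH) (Lpr_gt (K29.f443717 IH) (Lpr_af (f506980 IH) (Lpn (LP (LK LD1_c9 LD2_c13 LD3_c38))))))
theorem f506991 : Led Lsl_ff (LP (LK LD1_c6 LD2_c3 LD3_c7)) = (LP (LK LD1_c9 LD2_c13 LD3_c38)) :=
  Lgr Lrot3 (Lpr_ft (f506986 IH) (Lpn (LP (LK LD1_c9 LD2_c13 LD3_c38))))
theorem f23874 : Led Lsl_dt (LP (LK LD1_c6 LD2_c3 LD3_c7)) = (LP (LK LD1_c2 LD2_c57 LD3_c39)) :=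
  Lre_d IH (LK LD1_c6 LD2_c3 LD3_c7) (LK LD1_c2 LD2_c57 LD3_c39) Lrfl Lrfl
theorem f506993 : Led Lsl_ft (LP (LK LD1_c2 LD2_c57 LD3_c39)) = (LP (LK LD1_c4 LD2_c38 LD3_c56)) :=
  Lgr Lrot54 (Lpe (f23874 IH) (Lpr_ff (f506991 IH) (Lpe (K16.f27066 IH) (Lpn (LP (LK LD1_c4 LD2_c38 LD3_c56))))))
theorem f506999 : Led Lsl_af K32.v1723 = (LP (LK LD1_c4 LD2_c38 LD3_c56)) :=
  Lgr Lrot31 (Lpe (K32.f501141 IH) (Lpe (K0.f23861 IH) (Lpr_ft (f506993 IH) (Lpn (LP (LK LD1_c4 LD2_c38 LD3_c56))))))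
theorem f507001 : Led Lsl_at (LP (LK LD1_c1 LD2_c36 LD3_c10)) = (LP (LK LD1_c2 LD2_c21 LD3_c57)) :=
  Lgr Lrot107 (Lpr_cf (K29.f443981 IH) (Lpq (K32.f505195 IH) (Lpr_af (f506999 IH) (Lpr_cf (f27072 IH) (Lpn (LP (LK LD1_c2 LD2_c21 LD3_c57)))))))
theorem f507007 : Led Lsl_gt (LP (LK LD1_c3 LD2_c19 LD3_c33)) = (LP (LK LD1_c1 LD2_c37 LD3_c18)) :=
  Lgr Lrot5 (Lpr_ft (K32.f444151 IH) (Lpr_at (f507001 IH) (Lpr_gf (K32.f135509 IH) (Lpn (LP (LK LD1_c1 LD2_c37 LD3_c18))))))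
theorem f507017 : K32.v510 = (LP (LK LD1_c1 LD2_c7 LD3_c21)) :=
  (Llr Lrot37 (Lpr_df (K32.f506934 IH) (Lpe (K32.f506935 IH) (Lpr_gt (f507007 IH) (Lpe (K0.f25408 IH) (Lpr_gt (K0.f25405 IH) (Lpe (K0.f25404 IH) (Lpr_et (K0.f25403 IH) (Lpr_gt (K0.f25176 IH) (Lpe (K7.f25198 IH) (Lpr_dt (K24.f144055 IH) (Lpr_gt (K24.f25227 IH) (Lpn (LP (LK LD1_c1 LD2_c7 LD3_c21))))))))))))))).symm
theorem f507018 : (LP (LK LD1_c0 LD2_c43 LD3_c26)) = v1329 :=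
  Lefun (Lecon (Lfl_af (K32.f453708 IH)) (f507017 IH)) (f494878 IH)
theorem f507036 : (LP (LK LD1_c1 LD2_c7 LD3_c22)) = v511 :=
  Lefun (Lecon (Lfl_ff (f494881 IH)) (f507018 IH).symm) (f453711 IH)
theorem f507042 : v1657 = (LP (LK LD1_c2 LD2_c15 LD3_c25)) :=
  Lefun (Lecon (f500596 IH) (f507036 IH).symm) (K32.f144089 IH)
def v1655 : LQ := Led Lsl_at (LP (LK LD1_c1 LD2_c23 LD3_c21))
theorem f500581 : Led Lsl_at (LP (LK LD1_c1 LD2_c23 LD3_c21)) = v1655 :=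
  Lrfl
theorem f500582 : Led Lsl_af (LP (LK LD1_c1 LD2_c23 LD3_c21)) = v1655 :=
  Lgr Lrot0 (Lpr_at (f500581 IH) (Lpn v1655))
theorem f500584 : Led Lsl_cf K32.v510 = v1655 :=
  Lgr Lrot1 (Lpe (K32.f453708 IH) (Lpe (K32.f442871 IH) (Lpr_at (f500581 IH) (Lpn v1655))))
theorem f500586 : Led Lsl_ft (LP (LK LD1_c1 LD2_c23 LD3_c22)) = v1655 :=
  Lgr Lrot4 (Lpe (K0.f23782 IH) (Lpr_ff (K32.f453710 IH) (Lpr_cf (f500584 IH) (Lpn v1655))))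
theorem f500592 : Led Lsl_af (LP (LK LD1_c1 LD2_c23 LD3_c22)) = v1657 :=
  Lgr Lrot45 (Lpr_ft (f500586 IH) (Lpe (f500582 IH) (Lpr_ft (f500591 IH) (Lpn v1657))))
theorem f454894 : Led Lsl_et (LP (LK LD1_c1 LD2_c23 LD3_c22)) = (LP (LK LD1_c2 LD2_c54 LD3_c57)) :=
  Lre_e IH (LK LD1_c1 LD2_c23 LD3_c22) (LK LD1_c2 LD2_c54 LD3_c57) Lrfl Lrfl
theorem f507071 : Led Lsl_af (LP (LK LD1_c4 LD2_c36 LD3_c32)) = (LP (LK LD1_c2 LD2_c54 LD3_c57)) :=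
  Lgr Lrot50 (Lpr_et (f71352 IH) (Lpq (f507042 IH) (Lpe (f500592 IH) (Lpr_et (f454894 IH) (Lpn (LP (LK LD1_c2 LD2_c54 LD3_c57)))))))
theorem f71353 : Led Lsl_dt (LP (LK LD1_c4 LD2_c36 LD3_c32)) = (LP (LK LD1_c4 LD2_c39 LD3_c4)) :=
  Lre_d IH (LK LD1_c4 LD2_c36 LD3_c32) (LK LD1_c4 LD2_c39 LD3_c4) Lrfl Lrfl
theorem f416151 : Led Lsl_dt (LP (LK LD1_c2 LD2_c57 LD3_c35)) = (LP (LK LD1_c2 LD2_c54 LD3_c57)) :=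
  Lre_d IH (LK LD1_c2 LD2_c57 LD3_c35) (LK LD1_c2 LD2_c54 LD3_c57) Lrfl Lrfl
theorem f507077 : Led Lsl_at (LP (LK LD1_c4 LD2_c39 LD3_c4)) = (LP (LK LD1_c2 LD2_c57 LD3_c35)) :=
  Lgr Lrot51 (Lpe (f71353 IH) (Lpr_af (f507071 IH) (Lpe (f416151 IH) (Lpn (LP (LK LD1_c2 LD2_c57 LD3_c35))))))
theorem f507617 : Led Lsl_af (LP (LK LD1_c4 LD2_c39 LD3_c4)) = (LP (LK LD1_c2 LD2_c57 LD3_c35)) :=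
  Lgr Lrot0 (Lpr_at (f507077 IH) (Lpn (LP (LK LD1_c2 LD2_c57 LD3_c35))))
theorem f140108 : Led Lsl_gt (LP (LK LD1_c4 LD2_c39 LD3_c5)) = (LP (LK LD1_c2 LD2_c16 LD3_c32)) :=
  Lre_g IH (LK LD1_c4 LD2_c39 LD3_c5) (LK LD1_c2 LD2_c16 LD3_c32) Lrfl Lrfl
theorem f507623 : Led Lsl_ft (LP (LK LD1_c4 LD2_c39 LD3_c5)) = (LP (LK LD1_c2 LD2_c57 LD3_c35)) :=
  Lgr Lrot2 (Lpr_gt (f140108 IH) (Lpr_gt (K32.f140881 IH) (Lpr_af (f507617 IH) (Lpn (LP (LK LD1_c2 LD2_c57 LD3_c35))))))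
theorem f503295 : Led Lsl_af (LP (LK LD1_c4 LD2_c50 LD3_c11)) = (LP (LK LD1_c3 LD2_c22 LD3_c5)) :=
  Lgr Lrot68 (Lpr_ct (K32.f416083 IH) (Lpr_at (K32.f503291 IH) (Lpr_ct (K32.f415750 IH) (Lpn (LP (LK LD1_c3 LD2_c22 LD3_c5))))))
theorem f416077 : Led Lsl_ct (LP (LK LD1_c2 LD2_c22 LD3_c54)) = (LP (LK LD1_c4 LD2_c50 LD3_c11)) :=
  Lre_c IH (LK LD1_c2 LD2_c22 LD3_c54) (LK LD1_c4 LD2_c50 LD3_c11) Lrfl Lrfl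
theorem f503658 : Led Lsl_at (LP (LK LD1_c4 LD2_c41 LD3_c10)) = (LP (LK LD1_c3 LD2_c2 LD3_c55)) :=
  Lgr Lrot100 (Lpr_af (K32.f503655 IH) (Lpn (LP (LK LD1_c3 LD2_c2 LD3_c55))))
theorem f503755 : Led Lsl_cf (LP (LK LD1_c4 LD2_c41 LD3_c10)) = (LP (LK LD1_c6 LD2_c30 LD3_c24)) :=
  Lgr Lrot1 (Lpr_at (f503658 IH) (Lpe (K32.f503706 IH) (Lpr_at (K32.f503751 IH) (Lpn (LP (LK LD1_c6 LD2_c30 LD3_c24))))))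
theorem f454667 : Led Lsl_df (LP (LK LD1_c6 LD2_c30 LD3_c24)) = (LP (LK LD1_c3 LD2_c59 LD3_c13)) :=
  Lgr Lrot38 (Lpr_dt (K32.f454661 IH) (Lpn (LP (LK LD1_c3 LD2_c59 LD3_c13))))
theorem f116964 : Led Lsl_ct (LP (LK LD1_c4 LD2_c33 LD3_c43)) = (LP (LK LD1_c2 LD2_c13 LD3_c47)) :=
  Lre_c IH (LK LD1_c4 LD2_c33 LD3_c43) (LK LD1_c2 LD2_c13 LD3_c47) Lrfl Lrfl
theorem f408244 : Led Lsl_gt (LP (LK LD1_c2 LD2_c48 LD3_c38)) = (LP (LK LD1_c4 LD2_c33 LD3_c43)) :=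
  Lre_g IH (LK LD1_c2 LD2_c48 LD3_c38) (LK LD1_c4 LD2_c33 LD3_c43) Lrfl Lrfl
theorem f415556 : Led Lsl_cf (LP (LK LD1_c2 LD2_c48 LD3_c38)) = (LP (LK LD1_c3 LD2_c59 LD3_c13)) :=
  Lgr Lrot169 (Lpr_gt (f408244 IH) (Lpr_ct (f116964 IH) (Lpe (K1.f27143 IH) (Lpe (K32.f140713 IH) (Lpe (K24.f20139 IH) (Lpr_cf (K24.f415547 IH) (Lpe (K24.f40470 IH) (Lpe (K24.f40464 IH) (Lpr_gt (K32.f36237 IH) (Lpn (LP (LK LD1_c3 LD2_c59 LD3_c13))))))))))))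
theorem f415985 : Led Lsl_ct (LP (LK LD1_c2 LD2_c48 LD3_c38)) = (LP (LK LD1_c3 LD2_c59 LD3_c13)) :=
  Lgr Lrot59 (Lpr_cf (f415556 IH) (Lpn (LP (LK LD1_c3 LD2_c59 LD3_c13))))
theorem f415991 : Led Lsl_dt (LP (LK LD1_c5 LD2_c45 LD3_c44)) = (LP (LK LD1_c2 LD2_c48 LD3_c38)) :=
  Lre_d IH (LK LD1_c5 LD2_c45 LD3_c44) (LK LD1_c2 LD2_c48 LD3_c38) Lrfl Lrfl
theorem f415316 : Led Lsl_dt (LP (LK LD1_c4 LD2_c50 LD3_c14)) = (LP (LK LD1_c9 LD2_c32 LD3_c50)) :=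
  Lre_d IH (LK LD1_c4 LD2_c50 LD3_c14) (LK LD1_c9 LD2_c32 LD3_c50) Lrfl Lrfl
theorem f503787 : Led Lsl_cf (LP (LK LD1_c5 LD2_c45 LD3_c44)) = (LP (LK LD1_c9 LD2_c32 LD3_c50)) :=
  Lgr Lrot118 (Lpr_dt (f415991 IH) (Lpr_ct (f415985 IH) (Lpe (f454667 IH) (Lpe (f503755 IH) (Lpe (K32.f503313 IH) (Lpr_ct (f416077 IH) (Lpr_af (f503295 IH) (Lpr_ff (K32.f503779 IH) (Lpr_dt (f415316 IH) (Lpn (LP (LK LD1_c9 LD2_c32 LD3_c50))))))))))))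
theorem f503789 : Led Lsl_ct (LP (LK LD1_c5 LD2_c45 LD3_c44)) = (LP (LK LD1_c9 LD2_c32 LD3_c50)) :=
  Lgr Lrot59 (Lpr_cf (f503787 IH) (Lpn (LP (LK LD1_c9 LD2_c32 LD3_c50))))
theorem f415987 : Led Lsl_dt (LP (LK LD1_c2 LD2_c48 LD3_c38)) = (LP (LK LD1_c5 LD2_c45 LD3_c44)) :=
  Lre_d IH (LK LD1_c2 LD2_c48 LD3_c38) (LK LD1_c5 LD2_c45 LD3_c44) Lrfl Lrfl
theorem f415322 : Led Lsl_dt (LP (LK LD1_c9 LD2_c32 LD3_c50)) = (LP (LK LD1_c4 LD2_c50 LD3_c14)) :=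
  Lre_d IH (LK LD1_c9 LD2_c32 LD3_c50) (LK LD1_c4 LD2_c50 LD3_c14) Lrfl Lrfl
theorem f23239 : Led Lsl_ft (LP (LK LD1_c4 LD2_c41 LD3_c10)) = (LP (LK LD1_c2 LD2_c17 LD3_c37)) :=
  Lre_f IH (LK LD1_c4 LD2_c41 LD3_c10) (LK LD1_c2 LD2_c17 LD3_c37) Lrfl Lrfl
theorem f503303 : Led Lsl_dt (LP (LK LD1_c2 LD2_c22 LD3_c54)) = (LP (LK LD1_c4 LD2_c41 LD3_c10)) :=
  Lgr Lrot60 (Lpr_ff (K32.f503297 IH) (Lpe (K0.f23222 IH) (Lpe (f23239 IH) (Lpn (LP (LK LD1_c4 LD2_c41 LD3_c10))))))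
theorem f503791 : Led Lsl_cf (LP (LK LD1_c6 LD2_c30 LD3_c24)) = (LP (LK LD1_c4 LD2_c41 LD3_c10)) :=
  Lgr Lrot118 (Lpr_dt (K32.f454661 IH) (Lpe (f415556 IH) (Lpr_dt (f415987 IH) (Lpr_ct (f503789 IH) (Lpr_dt (f415322 IH) (Lpr_ct (K32.f415324 IH) (Lpr_af (K32.f503317 IH) (Lpe (K32.f503307 IH) (Lpr_dt (f503303 IH) (Lpn (LP (LK LD1_c4 LD2_c41 LD3_c10))))))))))))
theorem f415997 : Led Lsl_gt (LP (LK LD1_c1 LD2_c20 LD3_c28)) = (LP (LK LD1_c2 LD2_c48 LD3_c38)) :=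
  Lre_g IH (LK LD1_c1 LD2_c20 LD3_c28) (LK LD1_c2 LD2_c48 LD3_c38) Lrfl Lrfl
theorem f415887 : Led Lsl_ct (LP (LK LD1_c0 LD2_c37 LD3_c11)) = (LP (LK LD1_c1 LD2_c20 LD3_c28)) :=
  Lre_c IH (LK LD1_c0 LD2_c37 LD3_c11) (LK LD1_c1 LD2_c20 LD3_c28) Lrfl Lrfl
theorem f503797 : Led Lsl_gt (LP (LK LD1_c2 LD2_c48 LD3_c48)) = (LP (LK LD1_c4 LD2_c36 LD3_c32)) :=
  Lgr Lrot9 (Lpe (K31.f140237 IH) (Lpr_gt (K1.f59814 IH) (Lpr_ct (f415887 IH) (Lpr_gt (f415997 IH) (Lpr_ct (f415985 IH) (Lpe (K32.f454661 IH) (Lpr_cf (f503791 IH) (Lpr_gf (K32.f503653 IH) (Lpr_cf (K32.f144078 IH) (Lpn (LP (LK LD1_c4 LD2_c36 LD3_c32))))))))))))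
theorem f415890 : Led Lsl_ct (LP (LK LD1_c1 LD2_c20 LD3_c28)) = (LP (LK LD1_c0 LD2_c37 LD3_c11)) :=
  Lre_c IH (LK LD1_c1 LD2_c20 LD3_c28) (LK LD1_c0 LD2_c37 LD3_c11) Lrfl Lrfl
theorem f444591 : Led Lsl_gt (LP (LK LD1_c2 LD2_c48 LD3_c39)) = (LP (LK LD1_c1 LD2_c20 LD3_c28)) :=
  Lre_g IH (LK LD1_c2 LD2_c48 LD3_c39) (LK LD1_c1 LD2_c20 LD3_c28) Lrfl Lrfl
theorem f444592 : Led Lsl_ct (LP (LK LD1_c3 LD2_c59 LD3_c14)) = (LP (LK LD1_c2 LD2_c48 LD3_c39)) :=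
  Lgr Lrot152 (Lpr_gf (K16.f40945 IH) (Lpe (K16.f40931 IH) (Lpe (K32.f444578 IH) (Lpr_ct (K32.f444581 IH) (Lpr_gt (K32.f135597 IH) (Lpr_ct (K32.f415323 IH) (Lpe (K17.f140250 IH) (Lpe (f415890 IH) (Lpe (f444591 IH) (Lpn (LP (LK LD1_c2 LD2_c48 LD3_c39))))))))))))
theorem f444605 : Led Lsl_cf (LP (LK LD1_c3 LD2_c59 LD3_c14)) = (LP (LK LD1_c2 LD2_c48 LD3_c39)) :=
  Lgr Lrot11 (Lpr_ct (f444592 IH) (Lpn (LP (LK LD1_c2 LD2_c48 LD3_c39))))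
theorem f444609 : Led Lsl_gt (LP (LK LD1_c4 LD2_c33 LD3_c43)) = (LP (LK LD1_c2 LD2_c48 LD3_c39)) :=
  Lre_g IH (LK LD1_c4 LD2_c33 LD3_c43) (LK LD1_c2 LD2_c48 LD3_c39) Lrfl Lrfl
theorem f140578 : Led Lsl_ct (LP (LK LD1_c2 LD2_c13 LD3_c47)) = (LP (LK LD1_c4 LD2_c33 LD3_c43)) :=
  Lre_c IH (LK LD1_c2 LD2_c13 LD3_c47) (LK LD1_c4 LD2_c33 LD3_c43) Lrfl Lrfl
theorem f140580 : Led Lsl_dt (LP (LK LD1_c2 LD2_c48 LD3_c44)) = (LP (LK LD1_c1 LD2_c20 LD3_c29)) :=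
  Lre_d IH (LK LD1_c2 LD2_c48 LD3_c44) (LK LD1_c1 LD2_c20 LD3_c29) Lrfl Lrfl
theorem f444625 : Led Lsl_gt (LP (LK LD1_c2 LD2_c48 LD3_c44)) = (LP (LK LD1_c5 LD2_c45 LD3_c58)) :=
  Lre_g IH (LK LD1_c2 LD2_c48 LD3_c44) (LK LD1_c5 LD2_c45 LD3_c58) Lrfl Lrfl
theorem f444626 : Led Lsl_cf (LP (LK LD1_c3 LD2_c2 LD3_c54)) = (LP (LK LD1_c5 LD2_c45 LD3_c58)) :=
  Lgr Lrot169 (Lpr_gt (K16.f413498 IH) (Lpr_ct (K24.f413493 IH) (Lpr_df (K24.f413494 IH) (Lpr_cf (f444605 IH) (Lpe (f444609 IH) (Lpe (f140578 IH) (Lpe (K17.f140577 IH) (Lpe (f140580 IH) (Lpr_gt (f444625 IH) (Lpn (LP (LK LD1_c5 LD2_c45 LD3_c58))))))))))))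
theorem f444638 : Led Lsl_gf (LP (LK LD1_c2 LD2_c48 LD3_c48)) = (LP (LK LD1_c5 LD2_c45 LD3_c58)) :=
  Lgr Lrot144 (Lpr_dt (K1.f27145 IH) (Lpr_gt (K1.f59814 IH) (Lpr_dt (K17.f140250 IH) (Lpe (K32.f415323 IH) (Lpe (K29.f135596 IH) (Lpe (K16.f62600 IH) (Lpr_df (K16.f415309 IH) (Lpe (K16.f413498 IH) (Lpr_cf (f444626 IH) (Lpn (LP (LK LD1_c5 LD2_c45 LD3_c58))))))))))))
theorem f507079 : Led Lsl_ft (LP (LK LD1_c5 LD2_c45 LD3_c58)) = (LP (LK LD1_c2 LD2_c54 LD3_c57)) :=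
  Lgr Lrot2 (Lpe (f444638 IH) (Lpr_gt (f503797 IH) (Lpr_af (f507071 IH) (Lpn (LP (LK LD1_c2 LD2_c54 LD3_c57))))))
theorem f507087 : Led Lsl_ff (LP (LK LD1_c5 LD2_c45 LD3_c58)) = (LP (LK LD1_c2 LD2_c54 LD3_c57)) :=
  Lgr Lrot3 (Lpr_ft (f507079 IH) (Lpn (LP (LK LD1_c2 LD2_c54 LD3_c57))))
theorem f507630 : Led Lsl_df (LP (LK LD1_c4 LD2_c39 LD3_c5)) = (LP (LK LD1_c5 LD2_c45 LD3_c58)) :=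
  Lgr Lrot78 (Lpr_ft (f507623 IH) (Lpr_dt (f416151 IH) (Lpe (f507087 IH) (Lpn (LP (LK LD1_c5 LD2_c45 LD3_c58))))))
theorem f444636 : Led Lsl_et (LP (LK LD1_c6 LD2_c2 LD3_c9)) = (LP (LK LD1_c5 LD2_c45 LD3_c58)) :=
  Lgr Lrot158 (Lpe (K32.f415435 IH) (Lpe (K32.f415349 IH) (Lpr_cf (f444626 IH) (Lpn (LP (LK LD1_c5 LD2_c45 LD3_c58))))))
theorem f444646 : Led Lsl_ef (LP (LK LD1_c6 LD2_c2 LD3_c9)) = (LP (LK LD1_c5 LD2_c45 LD3_c58)) :=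
  Lgr Lrot88 (Lpr_et (f444636 IH) (Lpn (LP (LK LD1_c5 LD2_c45 LD3_c58))))
theorem f507731 : Led Lsl_gt (LP (LK LD1_c2 LD2_c16 LD3_c33)) = (LP (LK LD1_c4 LD2_c38 LD3_c56)) :=
  Lgr Lrot137 (Lpe (K9.f22987 IH) (Lpr_dt (K32.f23050 IH) (Lpe (f140108 IH) (Lpr_df (f507630 IH) (Lpe (f444646 IH) (Lpr_gf (K16.f421007 IH) (Lpe (K16.f421006 IH) (Lpr_dt (K16.f58580 IH) (Lpe (K16.f421000 IH) (Lpe (K16.f27066 IH) (Lpn (LP (LK LD1_c4 LD2_c38 LD3_c56)))))))))))))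
theorem f22995 : Led Lsl_ct (LP (LK LD1_c1 LD2_c25 LD3_c58)) = (LP (LK LD1_c3 LD2_c0 LD3_c24)) :=
  Lre_c IH (LK LD1_c1 LD2_c25 LD3_c58) (LK LD1_c3 LD2_c0 LD3_c24) Lrfl Lrfl
theorem f8703 : Led Lsl_gt (LP (LK LD1_c3 LD2_c0 LD3_c24)) = (LP (LK LD1_c6 LD2_c8 LD3_c23)) :=
  Lre_g IH (LK LD1_c3 LD2_c0 LD3_c24) (LK LD1_c6 LD2_c8 LD3_c23) Lrfl Lrfl
theorem f633538 : Led Lsl_cf (LP (LK LD1_c4 LD2_c6 LD3_c4)) = (LP (LK LD1_c6 LD2_c8 LD3_c23)) :=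
  Lgr Lrot99 (Lpr_df (K32.f504799 IH) (Lpr_cf (f633537 IH) (Lpe (f633528 IH) (Lpe (f27070 IH) (Lpe (f507731 IH) (Lpe (K9.f22985 IH) (Lpr_gt (K0.f22993 IH) (Lpr_ct (f22995 IH) (Lpr_gt (f8703 IH) (Lpn (LP (LK LD1_c6 LD2_c8 LD3_c23))))))))))))
theorem f633539 : Led Lsl_ct (LP (LK LD1_c6 LD2_c8 LD3_c23)) = (LP (LK LD1_c4 LD2_c6 LD3_c4)) :=
  Leop (Lpr_cf (f633538 IH) (Lpn (LP (LK LD1_c6 LD2_c8 LD3_c23))))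
theorem seed_271 : LEOK LG_c (LK LD1_c6 LD2_c8 LD3_c23) :=
  Leoe_c (LK LD1_c6 LD2_c8 LD3_c23) (f633539 IH)
theorem f146109 : Led Lsl_ct (LP (LK LD1_c3 LD2_c3 LD3_c9)) = (LP (LK LD1_c6 LD2_c12 LD3_c52)) :=
  Lre_c IH (LK LD1_c3 LD2_c3 LD3_c9) (LK LD1_c6 LD2_c12 LD3_c52) Lrfl Lrfl
theorem f503247 : Led Lsl_af (LP (LK LD1_c3 LD2_c6 LD3_c7)) = (LP (LK LD1_c3 LD2_c3 LD3_c9)) :=
  Lgr Lrot50 (Lpr_et (K32.f154194 IH) (Lpr_at (K32.f503243 IH) (Lpe (K32.f437960 IH) (Lpn (LP (LK LD1_c3 LD2_c3 LD3_c9))))))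
theorem f503481 : Led Lsl_ff (LP (LK LD1_c3 LD2_c3 LD3_c9)) = (LP (LK LD1_c3 LD2_c6 LD3_c5)) :=
  Lgr Lrot30 (Lpe (f503247 IH) (Lpe (K32.f503388 IH) (Lpr_at (K32.f503398 IH) (Lpn (LP (LK LD1_c3 LD2_c6 LD3_c5))))))
theorem f503485 : Led Lsl_ft (LP (LK LD1_c6 LD2_c12 LD3_c52)) = (LP (LK LD1_c6 LD2_c17 LD3_c48)) :=
  Lgr Lrot4 (Lpe (f146109 IH) (Lpr_ff (f503481 IH) (Lpe (K32.f68261 IH) (Lpn (LP (LK LD1_c6 LD2_c17 LD3_c48))))))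
theorem f503477 : Led Lsl_af (LP (LK LD1_c6 LD2_c12 LD3_c48)) = (LP (LK LD1_c6 LD2_c17 LD3_c48)) :=
  Lgr Lrot68 (Lpr_ct (K32.f20108 IH) (Lpr_at (K32.f503398 IH) (Lpr_ct (K32.f68257 IH) (Lpn (LP (LK LD1_c6 LD2_c17 LD3_c48))))))
theorem f503527 : Led Lsl_gt (LP (LK LD1_c6 LD2_c12 LD3_c52)) = (LP (LK LD1_c6 LD2_c27 LD3_c14)) :=
  Lgr Lrot5 (Lpr_ft (f503485 IH) (Lpe (f503477 IH) (Lpr_gf (K32.f438646 IH) (Lpn (LP (LK LD1_c6 LD2_c27 LD3_c14))))))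
theorem f633540 : Led Lsl_gt (LP (LK LD1_c6 LD2_c22 LD3_c5)) = (LP (LK LD1_c5 LD2_c0 LD3_c15)) :=
  Lgr Lrot150 (Lpr_cf (f633537 IH) (Lpe (f633528 IH) (Lpe (K32.f20107 IH) (Lpr_gt (K32.f146100 IH) (Lpr_ct (f146109 IH) (Lpr_gt (f503527 IH) (Lpr_ct (K32.f79763 IH) (Lpe (K32.f79764 IH) (Lpe (K32.f140772 IH) (Lpn (LP (LK LD1_c5 LD2_c0 LD3_c15))))))))))))
theorem f633541 : Led Lsl_gt (LP (LK LD1_c6 LD2_c22 LD3_c5)) = (LP (LK LD1_c5 LD2_c0 LD3_c15)) :=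
  Leop (Lpe (f633540 IH) (Lpn (LP (LK LD1_c6 LD2_c22 LD3_c5))))
theorem seed_272 : LEOK LG_g (LK LD1_c6 LD2_c22 LD3_c5) :=
  Leoe_g (LK LD1_c6 LD2_c22 LD3_c5) (f633541 IH)
def v568 : LQ := Led Lsl_ft (LP (LK LD1_c0 LD2_c44 LD3_c61))
theorem f454803 : Led Lsl_ft (LP (LK LD1_c0 LD2_c44 LD3_c61)) = v568 :=
  Lrfl
theorem f454805 : Led Lsl_ff (LP (LK LD1_c0 LD2_c44 LD3_c61)) = v568 :=
  Lgr Lrot3 (Lpr_ft (f454803 IH) (Lpn v568))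
def v567 : LQ := Led Lsl_at (LP (LK LD1_c0 LD2_c44 LD3_c61))
theorem f454799 : Led Lsl_at (LP (LK LD1_c0 LD2_c44 LD3_c61)) = v567 :=
  Lrfl
theorem f454800 : Led Lsl_af (LP (LK LD1_c0 LD2_c44 LD3_c61)) = v567 :=
  Lgr Lrot0 (Lpr_at (f454799 IH) (Lpn v567))
theorem f454801 : Led Lsl_ft (LP (LK LD1_c0 LD2_c45 LD3_c0)) = v567 :=
  Lgr Lrot2 (Lpr_gt (K32.f25436 IH) (Lpr_gt (K0.f25407 IH) (Lpr_af (f454800 IH) (Lpn v567))))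
theorem f454802 : Led Lsl_ff (LP (LK LD1_c0 LD2_c45 LD3_c0)) = v567 :=
  Lgr Lrot3 (Lpr_ft (f454801 IH) (Lpn v567))
theorem f454806 : Led Lsl_at (LP (LK LD1_c0 LD2_c45 LD3_c0)) = v568 :=
  Lgr Lrot66 (Lpr_ff (f454802 IH) (Lpe (f454799 IH) (Lpr_ff (f454805 IH) (Lpn v568))))
def v3206 : LQ := Led Lsl_et v568
theorem f624612 : Led Lsl_et v568 = v3206 :=
  Lrfl
theorem f624614 : Led Lsl_ef v568 = v3206 :=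
  Lgr Lrot88 (Lpr_et (f624612 IH) (Lpn v3206))
def v1375 : LQ := Led Lsl_et (LP (LK LD1_c1 LD2_c8 LD3_c33))
theorem f495198 : Led Lsl_et (LP (LK LD1_c1 LD2_c8 LD3_c33)) = v1375 :=
  Lrfl
theorem f495199 : Led Lsl_ef (LP (LK LD1_c1 LD2_c8 LD3_c33)) = v1375 :=
  Lgr Lrot88 (Lpr_et (f495198 IH) (Lpn v1375))
theorem f73622 : Led Lsl_dt (LP (LK LD1_c2 LD2_c52 LD3_c3)) = (LP (LK LD1_c5 LD2_c51 LD3_c40)) :=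
  Lre_d IH (LK LD1_c2 LD2_c52 LD3_c3) (LK LD1_c5 LD2_c51 LD3_c40) Lrfl Lrfl
theorem f438595 : Led Lsl_gt (LP (LK LD1_c6 LD2_c22 LD3_c6)) = (LP (LK LD1_c5 LD2_c51 LD3_c40)) :=
  Lgr Lrot112 (Lpe (K31.f79846 IH) (Lpr_et (K31.f79847 IH) (Lpe (K31.f146034 IH) (Lpr_ef (K6.f143125 IH) (Lpr_dt (K24.f143131 IH) (Lpr_gf (K32.f146426 IH) (Lpe (K32.f146428 IH) (Lpr_gf (K32.f438591 IH) (Lpe (K32.f438571 IH) (Lpr_dt (f73622 IH) (Lpn (LP (LK LD1_c5 LD2_c51 LD3_c40)))))))))))))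
theorem f438597 : Led Lsl_gf (LP (LK LD1_c3 LD2_c8 LD3_c44)) = (LP (LK LD1_c2 LD2_c27 LD3_c52)) :=
  Lgr Lrot144 (Lpr_dt (K31.f79846 IH) (Lpr_gt (f438595 IH) (Lpr_dt (K32.f73625 IH) (Lpe (K32.f438589 IH) (Lpe (K32.f23289 IH) (Lpe (K32.f146100 IH) (Lpe (K32.f20103 IH) (Lpr_gf (K32.f135509 IH) (Lpr_cf (K32.f415732 IH) (Lpn (LP (LK LD1_c2 LD2_c27 LD3_c52))))))))))))
theorem f73219 : Led Lsl_ft (LP (LK LD1_c2 LD2_c27 LD3_c52)) = (LP (LK LD1_c5 LD2_c0 LD3_c16)) :=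
  Lre_f IH (LK LD1_c2 LD2_c27 LD3_c52) (LK LD1_c5 LD2_c0 LD3_c16) Lrfl Lrfl
theorem f438608 : Led Lsl_af (LP (LK LD1_c6 LD2_c22 LD3_c5)) = (LP (LK LD1_c5 LD2_c0 LD3_c16)) :=
  Lgr Lrot31 (Lpe (K32.f79843 IH) (Lpr_gf (f438597 IH) (Lpr_ft (f73219 IH) (Lpn (LP (LK LD1_c5 LD2_c0 LD3_c16))))))
def v2210 : LQ := Led Lsl_ft (LP (LK LD1_c1 LD2_c37 LD3_c18))
theorem f509688 : Led Lsl_ft (LP (LK LD1_c1 LD2_c37 LD3_c18)) = v2210 :=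
  Lrfl
theorem f73218 : Led Lsl_ft (LP (LK LD1_c5 LD2_c0 LD3_c16)) = (LP (LK LD1_c2 LD2_c27 LD3_c52)) :=
  Lre_f IH (LK LD1_c5 LD2_c0 LD3_c16) (LK LD1_c2 LD2_c27 LD3_c52) Lrfl Lrfl
theorem f509689 : Led Lsl_cf (LP (LK LD1_c5 LD2_c0 LD3_c16)) = v2210 :=
  Lgr Lrot108 (Lpr_ft (f73218 IH) (Lpe (K32.f415732 IH) (Lpr_ft (f509688 IH) (Lpn v2210))))
theorem f633536 : Led Lsl_af v2210 = v4463 :=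
  Lgr Lrot68 (Lpe (f509689 IH) (Lpe (f438608 IH) (Lpr_ct (f633535 IH) (Lpn v4463))))
theorem f509690 : Led Lsl_ff (LP (LK LD1_c1 LD2_c37 LD3_c18)) = v2210 :=
  Lgr Lrot3 (Lpr_ft (f509688 IH) (Lpn v2210))
def v2209 : LQ := Led Lsl_at (LP (LK LD1_c1 LD2_c37 LD3_c18))
theorem f509684 : Led Lsl_at (LP (LK LD1_c1 LD2_c37 LD3_c18)) = v2209 :=
  Lrfl
theorem f633548 : Led Lsl_ft v2209 = v4463 :=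
  Lgr Lrot101 (Lpe (f509684 IH) (Lpr_ff (f509690 IH) (Lpr_af (f633536 IH) (Lpn v4463))))
theorem f509686 : Led Lsl_ef v567 = v2209 :=
  Lgr Lrot20 (Lpe (f454800 IH) (Lpr_et (K32.f25516 IH) (Lpr_at (f509684 IH) (Lpn v2209))))
theorem f509687 : Led Lsl_et v567 = v2209 :=
  Lgr Lrot87 (Lpr_ef (f509686 IH) (Lpn v2209))
def v570 : LQ := Led Lsl_et (LP (LK LD1_c0 LD2_c45 LD3_c0))
theorem f454809 : Led Lsl_et (LP (LK LD1_c0 LD2_c45 LD3_c0)) = v570 :=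
  Lrfl
theorem f454810 : Led Lsl_ef (LP (LK LD1_c0 LD2_c45 LD3_c0)) = v570 :=
  Lgr Lrot88 (Lpr_et (f454809 IH) (Lpn v570))
def v3213 : LQ := Led Lsl_ft v570
theorem f624630 : Led Lsl_ft v570 = v3213 :=
  Lrfl
theorem f624631 : Led Lsl_ff v570 = v3213 :=
  Lgr Lrot3 (Lpr_ft (f624630 IH) (Lpn v3213))
def v520 : LQ := Led Lsl_dt (LP (LK LD1_c0 LD2_c43 LD3_c41))
theorem f453758 : Led Lsl_dt (LP (LK LD1_c0 LD2_c43 LD3_c41)) = v520 :=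
  Lrfl
def v3120 : LQ := Led Lsl_gf v520
theorem f623943 : Led Lsl_gf v520 = v3120 :=
  Lrfl
def v555 : LQ := Led Lsl_et (LP (LK LD1_c0 LD2_c44 LD3_c40))
def v3194 : LQ := Led Lsl_gf v555
theorem f624582 : Led Lsl_gf v555 = v3194 :=
  Lrfl
theorem f508001 : (LP (LK LD1_c0 LD2_c44 LD3_c40)) = K32.v1360 :=
  Lefun (Lecon (Lfl_ff (K32.f453970 IH)) (K32.f507992 IH)) (K32.f495116 IH)
theorem f453966 : Led Lsl_et (LP (LK LD1_c0 LD2_c44 LD3_c40)) = v555 :=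
  Lrfl
theorem f508519 : Led Lsl_af v1362 = v555 :=
  Lgr Lrot50 (Lpe (f495121 IH) (Lpr_at (K32.f495114 IH) (Lpq (f508001 IH) (Lpr_et (f453966 IH) (Lpn v555)))))
theorem f508520 : Led Lsl_at v1362 = v555 :=
  Lgr Lrot100 (Lpr_af (f508519 IH) (Lpn v555))
theorem f624583 : Led Lsl_gt v2185 = v3194 :=
  Lgr Lrot5 (Lpe (f509516 IH) (Lpr_at (f508520 IH) (Lpr_gf (f624582 IH) (Lpn v3194))))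
theorem f416614 : Led Lsl_gt (LP (LK LD1_c2 LD2_c17 LD3_c40)) = (LP (LK LD1_c1 LD2_c34 LD3_c12)) :=
  Lgr Lrot49 (Lpe (K24.f20128 IH) (Lpe (K17.f20135 IH) (Lpe (K9.f139982 IH) (Lpr_gt (K17.f22917 IH) (Lpr_dt (K24.f27045 IH) (Lpr_gt (K24.f416612 IH) (Lpr_dt (K24.f414524 IH) (Lpe (K17.f414510 IH) (Lpe (K17.f180336 IH) (Lpn (LP (LK LD1_c1 LD2_c34 LD3_c12))))))))))))
theorem f624584 : Led Lsl_df v3120 = v3194 :=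
  Lgr Lrot135 (Lpe (f623943 IH) (Lpe (f453758 IH) (Lpr_et (K32.f435608 IH) (Lpr_gt (f437527 IH) (Lpe (K29.f20142 IH) (Lpr_dt (K24.f20128 IH) (Lpr_gt (f416614 IH) (Lpe (K24.f180331 IH) (Lpr_et (f509513 IH) (Lpr_gt (f624583 IH) (Lpn v3194)))))))))))
theorem f633532 : Led Lsl_et v3194 = v4463 :=
  Lgr Lrot122 (Lpe (f624584 IH) (Lpe (f623943 IH) (Lpe (f453758 IH) (Lpr_et (K32.f435608 IH) (Lpr_gt (f437527 IH) (Lpr_dt (K24.f20143 IH) (Lpe (K32.f135498 IH) (Lpe (f27089 IH) (Lpr_et (f27082 IH) (Lpr_gt (f633528 IH) (Lpn v4463)))))))))))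
theorem f633533 : Led Lsl_ef v3194 = v4463 :=
  Lgr Lrot88 (Lpr_et (f633532 IH) (Lpn v4463))
theorem f633550 : v3213 = v3194 :=
  (Llr Lrot72 (Lpe (f624631 IH) (Lpe (f454810 IH) (Lpr_ft (f454801 IH) (Lpr_et (f509687 IH) (Lpr_ft (f633548 IH) (Lpe (f633533 IH) (Lpn v3194)))))))).symm
def v3212 : LQ := Led Lsl_dt v570
theorem f624626 : Led Lsl_dt v570 = v3212 :=
  Lrfl
theorem f624627 : Led Lsl_df v570 = v3212 :=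
  Lgr Lrot38 (Lpr_dt (f624626 IH) (Lpn v3212))
theorem f633551 : Led Lsl_ff v3212 = v3120 :=
  Lgr Lrot19 (Lpe (f624627 IH) (Lpr_ft (f624630 IH) (Lpqs (f633550 IH) (Lpe (f624584 IH) (Lpn v3120)))))
def v3119 : LQ := Led Lsl_gt v520
theorem f623939 : Led Lsl_gt v520 = v3119 :=
  Lrfl
theorem f633553 : Led Lsl_at v3212 = v3119 :=
  Lgr Lrot26 (Lpr_ff (f633551 IH) (Lpe (f623943 IH) (Lpr_gt (f623939 IH) (Lpn v3119))))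
theorem f624613 : Led Lsl_af v570 = v3206 :=
  Lgr Lrot50 (Lpe (f454810 IH) (Lpr_at (f454806 IH) (Lpr_et (f624612 IH) (Lpn v3206))))
theorem f23818 : Led Lsl_et (LP (LK LD1_c0 LD2_c13 LD3_c55)) = (LP (LK LD1_c0 LD2_c31 LD3_c21)) :=
  Lre_e IH (LK LD1_c0 LD2_c13 LD3_c55) (LK LD1_c0 LD2_c31 LD3_c21) Lrfl Lrfl
theorem f623941 : Led Lsl_dt v1375 = v3119 :=
  Lgr Lrot56 (Lpe (f495199 IH) (Lpr_gt (K32.f135597 IH) (Lpe (f23818 IH) (Lpr_dt (K0.f13543 IH) (Lpr_gt (K0.f24024 IH) (Lpe (K0.f22830 IH) (Lpr_et (K32.f24051 IH) (Lpr_gt (K32.f24041 IH) (Lpr_dt (f453758 IH) (Lpr_gt (f623939 IH) (Lpn v3119)))))))))))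
theorem f623942 : Led Lsl_df v1375 = v3119 :=
  Lgr Lrot38 (Lpr_dt (f623941 IH) (Lpn v3119))
theorem f633555 : v3206 = v1375 :=
  (Llr Lrot117 (Lpe (f624613 IH) (Lpr_dt (f624626 IH) (Lpr_at (f633553 IH) (Lpe (f623942 IH) (Lpn v1375)))))).symm
theorem f633556 : v568 = (LP (LK LD1_c1 LD2_c8 LD3_c33)) :=
  Lefun (Lecon (Lfl_ef (f624614 IH)) (f633555 IH)) (Lfl_ef (f495199 IH))
theorem f633560 : Led Lsl_at (LP (LK LD1_c0 LD2_c45 LD3_c0)) = (LP (LK LD1_c1 LD2_c8 LD3_c33)) :=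
  Leop (Lpq (f633556 IH) (Lpe (f454806 IH) (Lpn (LP (LK LD1_c0 LD2_c45 LD3_c0)))))
theorem seed_273 : LEOK LG_a (LK LD1_c0 LD2_c45 LD3_c0) :=
  Leoe_a (LK LD1_c0 LD2_c45 LD3_c0) (f633560 IH)
def v4487 : LQ := Led Lsl_ft (LP (LK LD1_c2 LD2_c22 LD3_c28))
theorem f634164 : Led Lsl_ft (LP (LK LD1_c2 LD2_c22 LD3_c28)) = v4487 :=
  Lrfl
theorem f634169 : Led Lsl_ff (LP (LK LD1_c2 LD2_c22 LD3_c28)) = v4487 :=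
  Lgr Lrot3 (Lpr_ft (f634164 IH) (Lpn v4487))
def v2164 : LQ := Led Lsl_at (LP (LK LD1_c1 LD2_c36 LD3_c44))
theorem f509419 : Led Lsl_at (LP (LK LD1_c1 LD2_c36 LD3_c44)) = v2164 :=
  Lrfl
theorem f140050 : Led Lsl_et (LP (LK LD1_c0 LD2_c44 LD3_c48)) = (LP (LK LD1_c1 LD2_c36 LD3_c44)) :=
  Lre_e IH (LK LD1_c0 LD2_c44 LD3_c48) (LK LD1_c1 LD2_c36 LD3_c44) Lrfl Lrfl
theorem f509422 : Led Lsl_ef K32.v558 = v2164 :=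
  Lgr Lrot20 (Lpe (K32.f453979 IH) (Lpr_et (f140050 IH) (Lpr_at (f509419 IH) (Lpn v2164))))
theorem f509423 : Led Lsl_et K32.v558 = v2164 :=
  Lgr Lrot87 (Lpr_ef (f509422 IH) (Lpn v2164))
theorem f509845 : K32.v558 = (LP (LK LD1_c1 LD2_c8 LD3_c21)) :=
  Lefun (Lecon (Lfl_cf (K32.f454816 IH)) (f509841 IH)) (Lfl_cf (K9.f139984 IH))
theorem f509872 : v2164 = (LP (LK LD1_c2 LD2_c22 LD3_c28)) :=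
  Lefun (Lecon (f509423 IH) (f509845 IH)) (K9.f27127 IH)
theorem f509420 : Led Lsl_af (LP (LK LD1_c1 LD2_c36 LD3_c44)) = v2164 :=
  Lgr Lrot0 (Lpr_at (f509419 IH) (Lpn v2164))
theorem f634174 : Led Lsl_gf K32.v2163 = v4487 :=
  Lgr Lrot47 (Lpe (K32.f509408 IH) (Lpr_af (f509420 IH) (Lpqs (f509872 IH) (Lpr_ff (f634169 IH) (Lpn v4487)))))
theorem f509411 : Led Lsl_dt (LP (LK LD1_c6 LD2_c12 LD3_c3)) = K32.v2163 :=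
  Lgr Lrot57 (Lpe (f416494 IH) (Lpe (K17.f141021 IH) (Lpe (f416608 IH) (Lpr_dt (f416603 IH) (Lpr_gt (K24.f416408 IH) (Lpe (K17.f77033 IH) (Lpe (K17.f22868 IH) (Lpe (K0.f22849 IH) (Lpr_gf (K32.f509408 IH) (Lpn K32.v2163))))))))))
theorem f77036 : Led Lsl_ft (LP (LK LD1_c1 LD2_c36 LD3_c44)) = (LP (LK LD1_c3 LD2_c20 LD3_c52)) :=
  Lre_f IH (LK LD1_c1 LD2_c36 LD3_c44) (LK LD1_c3 LD2_c20 LD3_c52) Lrfl Lrfl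
theorem f446014 : Led Lsl_ft (LP (LK LD1_c4 LD2_c49 LD3_c28)) = (LP (LK LD1_c2 LD2_c22 LD3_c31)) :=
  Lre_f IH (LK LD1_c4 LD2_c49 LD3_c28) (LK LD1_c2 LD2_c22 LD3_c31) Lrfl Lrfl
def v2167 : LQ := Led Lsl_at (LP (LK LD1_c1 LD2_c36 LD3_c47))
theorem f509438 : Led Lsl_at (LP (LK LD1_c1 LD2_c36 LD3_c47)) = v2167 :=
  Lrfl
def v559 : LQ := Led Lsl_ft (LP (LK LD1_c0 LD2_c44 LD3_c48))
theorem f453984 : Led Lsl_ft (LP (LK LD1_c0 LD2_c44 LD3_c48)) = v559 :=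
  Lrfl
theorem f453985 : Led Lsl_af (LP (LK LD1_c0 LD2_c44 LD3_c49)) = v559 :=
  Lgr Lrot45 (Lpr_ft (K32.f453982 IH) (Lpe (K32.f453979 IH) (Lpr_ft (f453984 IH) (Lpn v559))))
theorem f509441 : Led Lsl_ef v559 = v2167 :=
  Lgr Lrot20 (Lpe (f453985 IH) (Lpr_et (K24.f414612 IH) (Lpr_at (f509438 IH) (Lpn v2167))))
theorem f509442 : Led Lsl_et v559 = v2167 :=
  Lgr Lrot87 (Lpr_ef (f509441 IH) (Lpn v2167))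
theorem f509849 : K32.v1366 = (LP (LK LD1_c0 LD2_c44 LD3_c48)) :=
  Lefun (Lecon (Lfl_cf (K32.f509700 IH)) (f509842 IH).symm) (Lfl_cf (K9.f140032 IH))
theorem f509878 : (LP (LK LD1_c1 LD2_c8 LD3_c22)) = v559 :=
  Lefun (Lecon (Lfl_ff (K32.f495150 IH)) (f509849 IH)) (f453984 IH)
theorem f509896 : v2167 = (LP (LK LD1_c2 LD2_c22 LD3_c31)) :=
  Lefun (Lecon (f509442 IH) (f509878 IH).symm) (f76938 IH)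
theorem f509439 : Led Lsl_af (LP (LK LD1_c1 LD2_c36 LD3_c47)) = v2167 :=
  Lgr Lrot0 (Lpr_at (f509438 IH) (Lpn v2167))
theorem f22991 : Led Lsl_gt (LP (LK LD1_c4 LD2_c39 LD3_c6)) = (LP (LK LD1_c2 LD2_c16 LD3_c33)) :=
  Lre_g IH (LK LD1_c4 LD2_c39 LD3_c6) (LK LD1_c2 LD2_c16 LD3_c33) Lrfl Lrfl
theorem f506984 : Led Lsl_at (LP (LK LD1_c2 LD2_c57 LD3_c25)) = (LP (LK LD1_c4 LD2_c38 LD3_c56)) :=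
  Lgr Lrot51 (Lpe (K29.f411196 IH) (Lpr_af (f506980 IH) (Lpe (K16.f27066 IH) (Lpn (LP (LK LD1_c4 LD2_c38 LD3_c56))))))
theorem f507733 : Led Lsl_ft (LP (LK LD1_c4 LD2_c39 LD3_c6)) = (LP (LK LD1_c2 LD2_c57 LD3_c25)) :=
  Lgr Lrot2 (Lpr_gt (f22991 IH) (Lpr_gt (f507731 IH) (Lpe (f506984 IH) (Lpn (LP (LK LD1_c2 LD2_c57 LD3_c25))))))
theorem f507741 : Led Lsl_ff (LP (LK LD1_c4 LD2_c39 LD3_c6)) = (LP (LK LD1_c2 LD2_c57 LD3_c25)) :=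
  Lgr Lrot3 (Lpr_ft (f507733 IH) (Lpn (LP (LK LD1_c2 LD2_c57 LD3_c25))))
theorem f442821 : Led Lsl_ef (LP (LK LD1_c4 LD2_c39 LD3_c6)) = (LP (LK LD1_c3 LD2_c20 LD3_c60)) :=
  Lgr Lrot114 (Lpr_gt (f22991 IH) (Lpe (K9.f22987 IH) (Lpr_dt (K32.f23050 IH) (Lpr_gt (K32.f140881 IH) (Lpe (f71353 IH) (Lpr_et (f71352 IH) (Lpr_gt (K32.f71341 IH) (Lpr_dt (K32.f23026 IH) (Lpr_gt (K24.f23027 IH) (Lpr_df (K24.f442814 IH) (Lpn (LP (LK LD1_c3 LD2_c20 LD3_c60)))))))))))))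
theorem f442823 : Led Lsl_et (LP (LK LD1_c4 LD2_c39 LD3_c6)) = (LP (LK LD1_c3 LD2_c20 LD3_c60)) :=
  Lgr Lrot87 (Lpr_ef (f442821 IH) (Lpn (LP (LK LD1_c3 LD2_c20 LD3_c60))))
theorem f500987 : Led Lsl_ff (LP (LK LD1_c1 LD2_c24 LD3_c26)) = v1711 :=
  Lgr Lrot3 (Lpr_ft (f500986 IH) (Lpn v1711))
theorem f507747 : Led Lsl_ft (LP (LK LD1_c3 LD2_c20 LD3_c60)) = (LP (LK LD1_c3 LD2_c14 LD3_c33)) :=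
  Lgr Lrot86 (Lpe (f442823 IH) (Lpr_ff (f507741 IH) (Lpe (K29.f443740 IH) (Lpr_ff (f500987 IH) (Lpqs (f506957 IH) (Lpe (K32.f435444 IH) (Lpn (LP (LK LD1_c3 LD2_c14 LD3_c33)))))))))
theorem f454864 : Led Lsl_ct (LP (LK LD1_c4 LD2_c33 LD3_c46)) = (LP (LK LD1_c3 LD2_c13 LD3_c15)) :=
  Lgr Lrot59 (Lpr_cf (K24.f454831 IH) (Lpn (LP (LK LD1_c3 LD2_c13 LD3_c15))))
theorem f78047 : Led Lsl_gt (LP (LK LD1_c3 LD2_c22 LD3_c9)) = (LP (LK LD1_c4 LD2_c50 LD3_c3)) :=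
  Lre_g IH (LK LD1_c3 LD2_c22 LD3_c9) (LK LD1_c4 LD2_c50 LD3_c3) Lrfl Lrfl
theorem f26258 : Led Lsl_et (LP (LK LD1_c0 LD2_c45 LD3_c38)) = (LP (LK LD1_c0 LD2_c20 LD3_c21)) :=
  Lre_e IH (LK LD1_c0 LD2_c45 LD3_c38) (LK LD1_c0 LD2_c20 LD3_c21) Lrfl Lrfl
theorem f83199 : Led Lsl_df (LP (LK LD1_c0 LD2_c45 LD3_c38)) = (LP (LK LD1_c1 LD2_c30 LD3_c49)) :=
  Lgr Lrot70 (Lpr_et (f26258 IH) (Lpr_dt (K9.f13534 IH) (Lpr_et (K7.f26259 IH) (Lpr_dt (K2.f83188 IH) (Lpr_et (K6.f83198 IH) (Lpn (LP (LK LD1_c1 LD2_c30 LD3_c49))))))))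
theorem f140110 : Led Lsl_cf (LP (LK LD1_c3 LD2_c22 LD3_c9)) = (LP (LK LD1_c3 LD2_c9 LD3_c19)) :=
  Lgr Lrot169 (Lpr_gt (f78047 IH) (Lpr_ct (K29.f25590 IH) (Lpe (K0.f23220 IH) (Lpe (K32.f140109 IH) (Lpe (K0.f22968 IH) (Lpr_cf (K9.f140099 IH) (Lpe (K9.f26062 IH) (Lpr_df (f83199 IH) (Lpr_gt (K24.f83711 IH) (Lpn (LP (LK LD1_c3 LD2_c9 LD3_c19))))))))))))
theorem f140117 : Led Lsl_ct (LP (LK LD1_c3 LD2_c22 LD3_c9)) = (LP (LK LD1_c3 LD2_c9 LD3_c19)) :=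
  Lgr Lrot59 (Lpr_cf (f140110 IH) (Lpn (LP (LK LD1_c3 LD2_c9 LD3_c19))))
theorem f23250 : Led Lsl_gt (LP (LK LD1_c1 LD2_c37 LD3_c22)) = (LP (LK LD1_c3 LD2_c22 LD3_c9)) :=
  Lre_g IH (LK LD1_c1 LD2_c37 LD3_c22) (LK LD1_c3 LD2_c22 LD3_c9) Lrfl Lrfl
theorem f23249 : Led Lsl_ct (LP (LK LD1_c0 LD2_c45 LD3_c1)) = (LP (LK LD1_c1 LD2_c37 LD3_c22)) :=
  Lre_c IH (LK LD1_c0 LD2_c45 LD3_c1) (LK LD1_c1 LD2_c37 LD3_c22) Lrfl Lrfl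
theorem f416149 : Led Lsl_ct (LP (LK LD1_c1 LD2_c33 LD3_c48)) = (LP (LK LD1_c2 LD2_c54 LD3_c57)) :=
  Lre_c IH (LK LD1_c1 LD2_c33 LD3_c48) (LK LD1_c2 LD2_c54 LD3_c57) Lrfl Lrfl
theorem f454880 : Led Lsl_gf (LP (LK LD1_c4 LD2_c33 LD3_c46)) = (LP (LK LD1_c2 LD2_c54 LD3_c57)) :=
  Lgr Lrot104 (Lpr_ct (f454864 IH) (Lpr_df (K24.f454659 IH) (Lpe (f140117 IH) (Lpe (f23250 IH) (Lpe (f23249 IH) (Lpe (K0.f23242 IH) (Lpe (K0.f23222 IH) (Lpe (K24.f416143 IH) (Lpr_ct (f416149 IH) (Lpn (LP (LK LD1_c2 LD2_c54 LD3_c57))))))))))))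
theorem f507095 : Led Lsl_at (LP (LK LD1_c5 LD2_c45 LD3_c58)) = (LP (LK LD1_c6 LD2_c3 LD3_c3)) :=
  Lgr Lrot26 (Lpr_ff (f507087 IH) (Lpe (f454880 IH) (Lpr_gt (K32.f501078 IH) (Lpn (LP (LK LD1_c6 LD2_c3 LD3_c3))))))
theorem f507073 : Led Lsl_at (LP (LK LD1_c4 LD2_c36 LD3_c32)) = (LP (LK LD1_c2 LD2_c54 LD3_c57)) :=
  Lgr Lrot100 (Lpr_af (f507071 IH) (Lpn (LP (LK LD1_c2 LD2_c54 LD3_c57))))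
theorem f507103 : Led Lsl_ff (LP (LK LD1_c4 LD2_c36 LD3_c32)) = (LP (LK LD1_c6 LD2_c3 LD3_c3)) :=
  Lgr Lrot30 (Lpr_at (f507073 IH) (Lpe (f507087 IH) (Lpr_at (f507095 IH) (Lpn (LP (LK LD1_c6 LD2_c3 LD3_c3))))))
theorem f507111 : Led Lsl_ft (LP (LK LD1_c4 LD2_c36 LD3_c32)) = (LP (LK LD1_c6 LD2_c3 LD3_c3)) :=
  Lgr Lrot48 (Lpr_ff (f507103 IH) (Lpn (LP (LK LD1_c6 LD2_c3 LD3_c3))))
theorem f144076 : Led Lsl_ct (LP (LK LD1_c2 LD2_c20 LD3_c13)) = (LP (LK LD1_c4 LD2_c36 LD3_c32)) :=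
  Lgr Lrot7 (Lpe (K32.f144071 IH) (Lpr_gf (K32.f144073 IH) (Lpe (K32.f135513 IH) (Lpe (K0.f25407 IH) (Lpe (K24.f23244 IH) (Lpr_gt (K0.f22998 IH) (Lpr_dt (K32.f23050 IH) (Lpr_gt (K32.f140881 IH) (Lpr_dt (K32.f144075 IH) (Lpn (LP (LK LD1_c4 LD2_c36 LD3_c32))))))))))))
theorem f507113 : Led Lsl_ff (LP (LK LD1_c2 LD2_c20 LD3_c13)) = (LP (LK LD1_c4 LD2_c41 LD3_c9)) :=
  Lgr Lrot23 (Lpr_ct (f144076 IH) (Lpr_ft (f507111 IH) (Lpe (K32.f501060 IH) (Lpn (LP (LK LD1_c4 LD2_c41 LD3_c9))))))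
theorem f507125 : Led Lsl_et (LP (LK LD1_c3 LD2_c14 LD3_c29)) = (LP (LK LD1_c4 LD2_c41 LD3_c9)) :=
  Lgr Lrot69 (Lpe (K32.f416827 IH) (Lpe (K32.f443005 IH) (Lpqs (f507018 IH) (Lpe (f494880 IH) (Lpe (K32.f144064 IH) (Lpr_ff (f507113 IH) (Lpn (LP (LK LD1_c4 LD2_c41 LD3_c9)))))))))
theorem f25665 : Led Lsl_et (LP (LK LD1_c0 LD2_c41 LD3_c14)) = (LP (LK LD1_c1 LD2_c29 LD3_c9)) :=
  Lre_e IH (LK LD1_c0 LD2_c41 LD3_c14) (LK LD1_c1 LD2_c29 LD3_c9) Lrfl Lrfl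
theorem f57678 : Led Lsl_dt (LP (LK LD1_c3 LD2_c19 LD3_c30)) = (LP (LK LD1_c6 LD2_c42 LD3_c55)) :=
  Lre_d IH (LK LD1_c3 LD2_c19 LD3_c30) (LK LD1_c6 LD2_c42 LD3_c55) Lrfl Lrfl
theorem f57690 : Led Lsl_gf (LP (LK LD1_c3 LD2_c22 LD3_c2)) = (LP (LK LD1_c6 LD2_c42 LD3_c55)) :=
  Lgr Lrot134 (Lpe (K32.f25519 IH) (Lpr_et (K32.f25543 IH) (Lpr_gt (K0.f25405 IH) (Lpe (f25665 IH) (Lpr_dt (K0.f25623 IH) (Lpr_gt (K5.f25682 IH) (Lpe (K7.f25700 IH) (Lpr_et (K32.f57670 IH) (Lpr_gt (K32.f57671 IH) (Lpr_dt (f57678 IH) (Lpn (LP (LK LD1_c6 LD2_c42 LD3_c55)))))))))))))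
theorem f57698 : Led Lsl_et (LP (LK LD1_c3 LD2_c19 LD3_c32)) = (LP (LK LD1_c6 LD2_c42 LD3_c55)) :=
  Lre_e IH (LK LD1_c3 LD2_c19 LD3_c32) (LK LD1_c6 LD2_c42 LD3_c55) Lrfl Lrfl
theorem f415331 : Led Lsl_gt (LP (LK LD1_c2 LD2_c22 LD3_c51)) = (LP (LK LD1_c1 LD2_c36 LD3_c10)) :=
  Lgr Lrot139 (Lpe (K32.f23806 IH) (Lpr_gf (K24.f415329 IH) (Lpr_ef (K0.f25574 IH) (Lpr_dt (K29.f25604 IH) (Lpe (K0.f23255 IH) (Lpe (K29.f25517 IH) (Lpr_et (K32.f25605 IH) (Lpr_gf (f57690 IH) (Lpe (f57698 IH) (Lpr_dt (K29.f57699 IH) (Lpn (LP (LK LD1_c1 LD2_c36 LD3_c10)))))))))))))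
theorem f438691 : Led Lsl_df (LP (LK LD1_c4 LD2_c50 LD3_c4)) = (LP (LK LD1_c4 LD2_c41 LD3_c9)) :=
  Lgr Lrot38 (Lpr_dt (K32.f438689 IH) (Lpn (LP (LK LD1_c4 LD2_c41 LD3_c9))))
theorem f503673 : Led Lsl_gf (LP (LK LD1_c4 LD2_c41 LD3_c9)) = (LP (LK LD1_c3 LD2_c2 LD3_c55)) :=
  Lgr Lrot138 (Lpe (f438691 IH) (Lpr_gt (K32.f23834 IH) (Lpe (K0.f23795 IH) (Lpr_et (K0.f23796 IH) (Lpr_gt (f415331 IH) (Lpe (K32.f415410 IH) (Lpr_dt (K32.f415411 IH) (Lpr_gt (K32.f500092 IH) (Lpe (K32.f503555 IH) (Lpr_et (K32.f503664 IH) (Lpn (LP (LK LD1_c3 LD2_c2 LD3_c55)))))))))))))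
theorem f507131 : Led Lsl_dt (LP (LK LD1_c3 LD2_c14 LD3_c29)) = (LP (LK LD1_c2 LD2_c22 LD3_c11)) :=
  Lgr Lrot136 (Lpr_et (f507125 IH) (Lpr_gf (f503673 IH) (Lpe (K32.f503664 IH) (Lpr_dt (K32.f503555 IH) (Lpe (K32.f500092 IH) (Lpe (K32.f415411 IH) (Lpr_gf (K32.f416954 IH) (Lpr_ef (K6.f143078 IH) (Lpr_dt (K6.f57177 IH) (Lpr_gf (K32.f415367 IH) (Lpn (LP (LK LD1_c2 LD2_c22 LD3_c11)))))))))))))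
theorem f135348 : Led Lsl_at (LP (LK LD1_c1 LD2_c36 LD3_c30)) = (LP (LK LD1_c2 LD2_c22 LD3_c13)) :=
  Lgr Lrot100 (Lpr_af (K6.f135279 IH) (Lpn (LP (LK LD1_c2 LD2_c22 LD3_c13))))
theorem f62484 : Led Lsl_ft (LP (LK LD1_c3 LD2_c20 LD3_c13)) = (LP (LK LD1_c1 LD2_c36 LD3_c30)) :=
  Lre_f IH (LK LD1_c3 LD2_c20 LD3_c13) (LK LD1_c1 LD2_c36 LD3_c30) Lrfl Lrfl
theorem f437404 : Led Lsl_gf (LP (LK LD1_c3 LD2_c11 LD3_c30)) = (LP (LK LD1_c3 LD2_c20 LD3_c13)) :=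
  Lgr Lrot47 (Lpr_gt (K32.f437397 IH) (Lpe (f135348 IH) (Lpe (f62484 IH) (Lpn (LP (LK LD1_c3 LD2_c20 LD3_c13))))))
theorem f56700 : Led Lsl_dt (LP (LK LD1_c1 LD2_c21 LD3_c16)) = (LP (LK LD1_c0 LD2_c37 LD3_c30)) :=
  Lre_d IH (LK LD1_c1 LD2_c21 LD3_c16) (LK LD1_c0 LD2_c37 LD3_c30) Lrfl Lrfl
theorem f56690 : Led Lsl_gt (LP (LK LD1_c5 LD2_c52 LD3_c46)) = (LP (LK LD1_c2 LD2_c52 LD3_c38)) :=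
  Lre_g IH (LK LD1_c5 LD2_c52 LD3_c46) (LK LD1_c2 LD2_c52 LD3_c38) Lrfl Lrfl
theorem f57138 : Led Lsl_cf (LP (LK LD1_c3 LD2_c2 LD3_c53)) = (LP (LK LD1_c5 LD2_c52 LD3_c46)) :=
  Lgr Lrot166 (Lpr_gt (K29.f57137 IH) (Lpr_dt (K32.f57136 IH) (Lpr_gt (K32.f57135 IH) (Lpr_dt (K32.f57120 IH) (Lpr_ct (K1.f56744 IH) (Lpe (f56700 IH) (Lpe (K24.f56683 IH) (Lpe (K24.f56684 IH) (Lpe (f56690 IH) (Lpn (LP (LK LD1_c5 LD2_c52 LD3_c46))))))))))))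
theorem f57157 : Led Lsl_ct (LP (LK LD1_c3 LD2_c2 LD3_c53)) = (LP (LK LD1_c5 LD2_c52 LD3_c46)) :=
  Lgr Lrot59 (Lpr_cf (f57138 IH) (Lpn (LP (LK LD1_c5 LD2_c52 LD3_c46))))
theorem f503225 : Led Lsl_ff (LP (LK LD1_c5 LD2_c47 LD3_c41)) = (LP (LK LD1_c5 LD2_c52 LD3_c46)) :=
  Lgr Lrot23 (Lpe (K32.f57624 IH) (Lpr_ft (K32.f503221 IH) (Lpr_ct (f57157 IH) (Lpn (LP (LK LD1_c5 LD2_c52 LD3_c46))))))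
theorem f503447 : Led Lsl_at (LP (LK LD1_c6 LD2_c30 LD3_c5)) = (LP (LK LD1_c5 LD2_c52 LD3_c46)) :=
  Lgr Lrot66 (Lpr_ff (f503445 IH) (Lpe (f503427 IH) (Lpr_ff (f503225 IH) (Lpn (LP (LK LD1_c5 LD2_c52 LD3_c46))))))
theorem f504005 : Led Lsl_cf (LP (LK LD1_c6 LD2_c30 LD3_c5)) = (LP (LK LD1_c4 LD2_c41 LD3_c8)) :=
  Lgr Lrot1 (Lpr_at (f503447 IH) (Lpe (f57138 IH) (Lpr_at (f504001 IH) (Lpn (LP (LK LD1_c4 LD2_c41 LD3_c8))))))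
theorem f507139 : Led Lsl_gt (LP (LK LD1_c3 LD2_c14 LD3_c29)) = (LP (LK LD1_c4 LD2_c41 LD3_c8)) :=
  Lgr Lrot146 (Lpr_dt (f507131 IH) (Lpe (K32.f415367 IH) (Lpr_ct (K32.f57178 IH) (Lpe (f437404 IH) (Lpr_ct (K32.f79754 IH) (Lpe (K32.f79746 IH) (Lpe (K32.f79743 IH) (Lpe (f79757 IH) (Lpr_cf (f504005 IH) (Lpn (LP (LK LD1_c4 LD2_c41 LD3_c8))))))))))))
theorem f442926 : Led Lsl_ft (LP (LK LD1_c3 LD2_c14 LD3_c29)) = (LP (LK LD1_c1 LD2_c33 LD3_c45)) :=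
  Lre_f IH (LK LD1_c3 LD2_c14 LD3_c29) (LK LD1_c1 LD2_c33 LD3_c45) Lrfl Lrfl
theorem f414585 : Led Lsl_gt (LP (LK LD1_c4 LD2_c41 LD3_c8)) = (LP (LK LD1_c2 LD2_c20 LD3_c12)) :=
  Lre_g IH (LK LD1_c4 LD2_c41 LD3_c8) (LK LD1_c2 LD2_c20 LD3_c12) Lrfl Lrfl
theorem f507161 : Led Lsl_at (LP (LK LD1_c1 LD2_c33 LD3_c45)) = (LP (LK LD1_c2 LD2_c20 LD3_c12)) :=
  Lgr Lrot26 (Lpe (f442926 IH) (Lpr_gt (f507139 IH) (Lpr_gt (f414585 IH) (Lpn (LP (LK LD1_c2 LD2_c20 LD3_c12))))))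
theorem f446168 : Led Lsl_at (LP (LK LD1_c3 LD2_c20 LD3_c5)) = (LP (LK LD1_c3 LD2_c14 LD3_c29)) :=
  Lgr Lrot100 (Lpr_af (K32.f446164 IH) (Lpn (LP (LK LD1_c3 LD2_c14 LD3_c29))))
theorem f507170 : Led Lsl_ff (LP (LK LD1_c3 LD2_c20 LD3_c5)) = (LP (LK LD1_c2 LD2_c20 LD3_c12)) :=
  Lgr Lrot30 (Lpr_at (f446168 IH) (Lpr_ft (f442926 IH) (Lpr_at (f507161 IH) (Lpn (LP (LK LD1_c2 LD2_c20 LD3_c12))))))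
theorem f507174 : Led Lsl_ft (LP (LK LD1_c3 LD2_c20 LD3_c5)) = (LP (LK LD1_c2 LD2_c20 LD3_c12)) :=
  Lgr Lrot48 (Lpr_ff (f507170 IH) (Lpn (LP (LK LD1_c2 LD2_c20 LD3_c12))))
theorem f507176 : Led Lsl_ff (LP (LK LD1_c1 LD2_c36 LD3_c28)) = (LP (LK LD1_c2 LD2_c22 LD3_c12)) :=
  Lgr Lrot19 (Lpr_dt (K16.f62599 IH) (Lpr_ft (f507174 IH) (Lpr_dt (K32.f151931 IH) (Lpn (LP (LK LD1_c2 LD2_c22 LD3_c12))))))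
theorem f507180 : Led Lsl_at (LP (LK LD1_c1 LD2_c36 LD3_c28)) = (LP (LK LD1_c2 LD2_c22 LD3_c11)) :=
  Lgr Lrot26 (Lpr_ff (f507176 IH) (Lpr_gt (K32.f84331 IH) (Lpr_gt (K32.f23262 IH) (Lpn (LP (LK LD1_c2 LD2_c22 LD3_c11))))))
theorem f507135 : Led Lsl_ff (LP (LK LD1_c1 LD2_c36 LD3_c29)) = (LP (LK LD1_c2 LD2_c22 LD3_c11)) :=
  Lgr Lrot19 (Lpr_dt (K29.f135429 IH) (Lpr_ft (K32.f416827 IH) (Lpr_dt (f507131 IH) (Lpn (LP (LK LD1_c2 LD2_c22 LD3_c11))))))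
theorem f507186 : Led Lsl_af (LP (LK LD1_c2 LD2_c22 LD3_c12)) = (LP (LK LD1_c1 LD2_c36 LD3_c29)) :=
  Lgr Lrot45 (Lpe (f507176 IH) (Lpr_at (f507180 IH) (Lpe (f507135 IH) (Lpn (LP (LK LD1_c1 LD2_c36 LD3_c29))))))
theorem f414555 : Led Lsl_et (LP (LK LD1_c2 LD2_c22 LD3_c12)) = (LP (LK LD1_c4 LD2_c48 LD3_c37)) :=
  Lre_e IH (LK LD1_c2 LD2_c22 LD3_c12) (LK LD1_c4 LD2_c48 LD3_c37) Lrfl Lrfl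
theorem f507190 : Led Lsl_at (LP (LK LD1_c4 LD2_c48 LD3_c37)) = (LP (LK LD1_c3 LD2_c20 LD3_c8)) :=
  Lgr Lrot80 (Lpe (f414555 IH) (Lpr_af (f507186 IH) (Lpe (K32.f23837 IH) (Lpn (LP (LK LD1_c3 LD2_c20 LD3_c8))))))
theorem f146135 : Led Lsl_gt (LP (LK LD1_c3 LD2_c19 LD3_c32)) = (LP (LK LD1_c3 LD2_c6 LD3_c7)) :=
  Lgr Lrot137 (Lpe (K32.f57693 IH) (Lpr_dt (K32.f57692 IH) (Lpe (K32.f57671 IH) (Lpr_df (K6.f146116 IH) (Lpr_et (K6.f25648 IH) (Lpe (K11.f25621 IH) (Lpe (K0.f25554 IH) (Lpr_dt (K32.f25521 IH) (Lpe (K24.f25646 IH) (Lpe (K32.f25647 IH) (Lpn (LP (LK LD1_c3 LD2_c6 LD3_c7)))))))))))))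
theorem f507196 : Led Lsl_ff (LP (LK LD1_c4 LD2_c48 LD3_c37)) = (LP (LK LD1_c3 LD2_c19 LD3_c32)) :=
  Lgr Lrot52 (Lpr_at (f507190 IH) (Lpe (K32.f416134 IH) (Lpe (f146135 IH) (Lpn (LP (LK LD1_c3 LD2_c19 LD3_c32))))))
theorem f507204 : Led Lsl_ft (LP (LK LD1_c4 LD2_c48 LD3_c37)) = (LP (LK LD1_c3 LD2_c19 LD3_c32)) :=
  Lgr Lrot48 (Lpr_ff (f507196 IH) (Lpn (LP (LK LD1_c3 LD2_c19 LD3_c32))))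
theorem f151934 : Led Lsl_dt (LP (LK LD1_c2 LD2_c22 LD3_c12)) = (LP (LK LD1_c2 LD2_c20 LD3_c12)) :=
  Lre_d IH (LK LD1_c2 LD2_c22 LD3_c12) (LK LD1_c2 LD2_c20 LD3_c12) Lrfl Lrfl
theorem f438695 : Led Lsl_gt (LP (LK LD1_c4 LD2_c48 LD3_c37)) = (LP (LK LD1_c3 LD2_c3 LD3_c7)) :=
  Lgr Lrot137 (Lpe (f414555 IH) (Lpr_dt (f151934 IH) (Lpe (f414585 IH) (Lpe (f438685 IH) (Lpr_et (f438687 IH) (Lpe (K0.f23221 IH) (Lpe (K24.f25597 IH) (Lpr_dt (K24.f25593 IH) (Lpe (K24.f415335 IH) (Lpe (K24.f20115 IH) (Lpn (LP (LK LD1_c3 LD2_c3 LD3_c7)))))))))))))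
theorem f507210 : Led Lsl_af (LP (LK LD1_c4 LD2_c48 LD3_c7)) = (LP (LK LD1_c3 LD2_c19 LD3_c32)) :=
  Lgr Lrot31 (Lpr_gf (f20105 IH) (Lpe (f438695 IH) (Lpr_ft (f507204 IH) (Lpn (LP (LK LD1_c3 LD2_c19 LD3_c32))))))
theorem f507192 : Led Lsl_af (LP (LK LD1_c4 LD2_c48 LD3_c37)) = (LP (LK LD1_c3 LD2_c20 LD3_c8)) :=
  Lgr Lrot0 (Lpr_at (f507190 IH) (Lpn (LP (LK LD1_c3 LD2_c20 LD3_c8))))
theorem f507216 : Led Lsl_ft (LP (LK LD1_c4 LD2_c48 LD3_c7)) = (LP (LK LD1_c3 LD2_c20 LD3_c8)) :=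
  Lgr Lrot101 (Lpr_af (f507210 IH) (Lpe (f507204 IH) (Lpr_af (f507192 IH) (Lpn (LP (LK LD1_c3 LD2_c20 LD3_c8))))))
theorem f507220 : Led Lsl_ff (LP (LK LD1_c2 LD2_c21 LD3_c57)) = (LP (LK LD1_c3 LD2_c14 LD3_c28)) :=
  Lgr Lrot19 (Lpr_dt (K32.f20103 IH) (Lpr_ft (f507216 IH) (Lpr_dt (K32.f23813 IH) (Lpn (LP (LK LD1_c3 LD2_c14 LD3_c28))))))
def v550 : LQ := Led Lsl_ft (LP (LK LD1_c0 LD2_c44 LD3_c33))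
theorem f453949 : Led Lsl_ft (LP (LK LD1_c0 LD2_c44 LD3_c33)) = v550 :=
  Lrfl
theorem f453951 : Led Lsl_ff (LP (LK LD1_c0 LD2_c44 LD3_c33)) = v550 :=
  Lgr Lrot3 (Lpr_ft (f453949 IH) (Lpn v550))
theorem f495109 : Led Lsl_af (LP (LK LD1_c1 LD2_c8 LD3_c7)) = K32.v1358 :=
  Lgr Lrot45 (Lpr_ft (K32.f495106 IH) (Lpe (K32.f495105 IH) (Lpr_ft (K32.f495108 IH) (Lpn K32.v1358))))
theorem f453952 : Led Lsl_at (LP (LK LD1_c0 LD2_c44 LD3_c34)) = v550 :=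
  Lgr Lrot66 (Lpr_ff (f453948 IH) (Lpe (f453945 IH) (Lpr_ff (f453951 IH) (Lpn v550))))
theorem f506941 : (LP (LK LD1_c1 LD2_c8 LD3_c7)) = v550 :=
  Lefun (Lecon (Lfl_af (f495109 IH)) (K32.f506940 IH)) (f453952 IH)
theorem f506952 : (LP (LK LD1_c0 LD2_c44 LD3_c33)) = K32.v1357 :=
  Lefun (Lecon (Lfl_ff (f453951 IH)) (f506941 IH).symm) (K32.f495106 IH)
theorem f507222 : Led Lsl_ft (LP (LK LD1_c1 LD2_c36 LD3_c8)) = (LP (LK LD1_c1 LD2_c33 LD3_c44)) :=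
  Lgr Lrot86 (Lpe (K32.f24656 IH) (Lpqs (f506952 IH) (Lpe (K32.f495106 IH) (Lpe (K32.f20102 IH) (Lpr_ff (f507220 IH) (Lpe (K0.f23798 IH) (Lpn (LP (LK LD1_c1 LD2_c33 LD3_c44)))))))))
theorem f507230 : Led Lsl_ff (LP (LK LD1_c1 LD2_c36 LD3_c8)) = (LP (LK LD1_c1 LD2_c33 LD3_c44)) :=
  Lgr Lrot3 (Lpr_ft (f507222 IH) (Lpn (LP (LK LD1_c1 LD2_c33 LD3_c44))))
theorem f506933 : Led Lsl_af (LP (LK LD1_c1 LD2_c33 LD3_c44)) = K32.v2022 :=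
  Lgr Lrot0 (Lpr_at (K32.f506932 IH) (Lpn K32.v2022))
theorem f507232 : Led Lsl_at (LP (LK LD1_c1 LD2_c36 LD3_c8)) = (LP (LK LD1_c1 LD2_c33 LD3_c47)) :=
  Lgr Lrot66 (Lpr_ff (f507230 IH) (Lpr_af (f506933 IH) (Lpe (K32.f506938 IH) (Lpn (LP (LK LD1_c1 LD2_c33 LD3_c47))))))
theorem f435575 : Led Lsl_et (LP (LK LD1_c1 LD2_c24 LD3_c25)) = (LP (LK LD1_c2 LD2_c57 LD3_c22)) :=
  Lre_e IH (LK LD1_c1 LD2_c24 LD3_c25) (LK LD1_c2 LD2_c57 LD3_c22) Lrfl Lrfl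
theorem f435576 : Led Lsl_cf (LP (LK LD1_c1 LD2_c36 LD3_c8)) = (LP (LK LD1_c2 LD2_c57 LD3_c22)) :=
  Lgr Lrot39 (Lpr_et (K32.f24627 IH) (Lpr_ct (f435571 IH) (Lpr_et (f435575 IH) (Lpn (LP (LK LD1_c2 LD2_c57 LD3_c22))))))
theorem f507252 : Led Lsl_af (LP (LK LD1_c2 LD2_c57 LD3_c22)) = (LP (LK LD1_c3 LD2_c14 LD3_c33)) :=
  Lgr Lrot68 (Lpe (f435576 IH) (Lpr_at (f507232 IH) (Lpr_ct (f68382 IH) (Lpn (LP (LK LD1_c3 LD2_c14 LD3_c33))))))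
def v1713 : LQ := Led Lsl_ft (LP (LK LD1_c1 LD2_c24 LD3_c25))
theorem f500990 : Led Lsl_ft (LP (LK LD1_c1 LD2_c24 LD3_c25)) = v1713 :=
  Lrfl
theorem f500993 : Led Lsl_ff (LP (LK LD1_c1 LD2_c24 LD3_c25)) = v1713 :=
  Lgr Lrot3 (Lpr_ft (f500990 IH) (Lpn v1713))
theorem f435573 : Led Lsl_cf (LP (LK LD1_c0 LD2_c44 LD3_c33)) = (LP (LK LD1_c1 LD2_c24 LD3_c25)) :=
  Lgr Lrot11 (Lpr_ct (f435571 IH) (Lpn (LP (LK LD1_c1 LD2_c24 LD3_c25))))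
theorem f500995 : Led Lsl_ct v550 = v1713 :=
  Lgr Lrot40 (Lpe (f453949 IH) (Lpr_cf (f435573 IH) (Lpr_ff (f500993 IH) (Lpn v1713))))
theorem f506947 : v1713 = (LP (LK LD1_c2 LD2_c16 LD3_c28)) :=
  Lefun (Lecon (f500995 IH) (f506941 IH).symm) (Lfl_cf (f27086 IH))
theorem f506997 : Led Lsl_ff (LP (LK LD1_c3 LD2_c14 LD3_c27)) = (LP (LK LD1_c2 LD2_c57 LD3_c22)) :=
  Lgr Lrot72 (Lpe (K0.f23862 IH) (Lpr_ft (f506993 IH) (Lpr_et (K16.f27065 IH) (Lpq (f506947 IH) (Lpe (f500993 IH) (Lpr_et (f435575 IH) (Lpn (LP (LK LD1_c2 LD2_c57 LD3_c22)))))))))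
theorem f507749 : Led Lsl_af (LP (LK LD1_c3 LD2_c20 LD3_c60)) = (LP (LK LD1_c3 LD2_c14 LD3_c27)) :=
  Lgr Lrot45 (Lpr_ft (f507747 IH) (Lpe (f507252 IH) (Lpe (f506997 IH) (Lpn (LP (LK LD1_c3 LD2_c14 LD3_c27))))))
theorem f507774 : Led Lsl_gf (LP (LK LD1_c1 LD2_c36 LD3_c47)) = (LP (LK LD1_c2 LD2_c57 LD3_c22)) :=
  Lgr Lrot47 (Lpr_gt (K24.f414608 IH) (Lpr_af (f507749 IH) (Lpr_ff (f506997 IH) (Lpn (LP (LK LD1_c2 LD2_c57 LD3_c22))))))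
theorem f509905 : Led Lsl_gt (LP (LK LD1_c4 LD2_c49 LD3_c28)) = (LP (LK LD1_c2 LD2_c57 LD3_c22)) :=
  Lgr Lrot5 (Lpr_ft (f446014 IH) (Lpq (f509896 IH) (Lpe (f509439 IH) (Lpr_gf (f507774 IH) (Lpn (LP (LK LD1_c2 LD2_c57 LD3_c22)))))))
theorem f509903 : Led Lsl_ef (LP (LK LD1_c4 LD2_c49 LD3_c28)) = (LP (LK LD1_c3 LD2_c20 LD3_c52)) :=
  Lgr Lrot21 (Lpr_ft (f446014 IH) (Lpr_et (K24.f76971 IH) (Lpr_ft (K32.f495149 IH) (Lpqs (f509849 IH) (Lpr_et (f140050 IH) (Lpr_ft (f77036 IH) (Lpn (LP (LK LD1_c3 LD2_c20 LD3_c52)))))))))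
theorem f509794 : Led Lsl_df (LP (LK LD1_c3 LD2_c2 LD3_c39)) = K32.v2235 :=
  Lgr Lrot43 (Lpr_ct (K17.f141009 IH) (Lpr_dt (K24.f415000 IH) (Lpr_ct (K24.f414504 IH) (Lpr_dt (K24.f185973 IH) (Lpe (K17.f414496 IH) (Lpr_dt (K9.f13574 IH) (Lpe (K32.f140021 IH) (Lpr_dt (K0.f27118 IH) (Lpr_ct (K17.f27124 IH) (Lpe (K24.f414706 IH) (Lpr_ct (K24.f140055 IH) (Lpr_dt (K24.f23979 IH) (Lpr_ct (K17.f140046 IH) (Lpr_dt (K24.f73784 IH) (Lpr_ct (K32.f509792 IH) (Lpn K32.v2235))))))))))))))))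
theorem f509911 : (LP (LK LD1_c3 LD2_c20 LD3_c52)) = K32.v2235 :=
  (Llr Lrot114 (Lpe (f509903 IH) (Lpr_gt (f509905 IH) (Lpe (f435575 IH) (Lpr_dt (K32.f419100 IH) (Lpr_gt (K32.f419101 IH) (Lpe (K32.f443719 IH) (Lpr_et (K32.f59891 IH) (Lpr_gt (K16.f59890 IH) (Lpr_dt (K0.f23043 IH) (Lpr_gt (K17.f23044 IH) (Lpr_df (f509794 IH) (Lpn K32.v2235))))))))))))).symm
theorem f509920 : Led Lsl_ff (LP (LK LD1_c3 LD2_c20 LD3_c51)) = (LP (LK LD1_c3 LD2_c2 LD3_c39)) :=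
  Lgr Lrot19 (Lpr_dt (K24.f22875 IH) (Lpr_ft (f77036 IH) (Lpqs (f509911 IH) (Lpe (f509794 IH) (Lpn (LP (LK LD1_c3 LD2_c2 LD3_c39)))))))
theorem f509929 : Led Lsl_at (LP (LK LD1_c3 LD2_c20 LD3_c51)) = (LP (LK LD1_c3 LD2_c2 LD3_c40)) :=
  Lgr Lrot26 (Lpr_ff (f509920 IH) (Lpr_gt (K17.f141018 IH) (Lpr_gt (K0.f27117 IH) (Lpn (LP (LK LD1_c3 LD2_c2 LD3_c40))))))
theorem f22896 : Led Lsl_et (LP (LK LD1_c6 LD2_c45 LD3_c36)) = (LP (LK LD1_c3 LD2_c20 LD3_c51)) :=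
  Lre_e IH (LK LD1_c6 LD2_c45 LD3_c36) (LK LD1_c3 LD2_c20 LD3_c51) Lrfl Lrfl
theorem f27130 : Led Lsl_et (LP (LK LD1_c3 LD2_c2 LD3_c40)) = (LP (LK LD1_c6 LD2_c12 LD3_c13)) :=
  Lre_e IH (LK LD1_c3 LD2_c2 LD3_c40) (LK LD1_c6 LD2_c12 LD3_c13) Lrfl Lrfl
theorem f509935 : Led Lsl_af (LP (LK LD1_c6 LD2_c45 LD3_c36)) = (LP (LK LD1_c6 LD2_c12 LD3_c13)) :=
  Lgr Lrot50 (Lpr_et (f22896 IH) (Lpr_at (f509929 IH) (Lpr_et (f27130 IH) (Lpn (LP (LK LD1_c6 LD2_c12 LD3_c13))))))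
theorem f509926 : Led Lsl_ft (LP (LK LD1_c6 LD2_c45 LD3_c36)) = (LP (LK LD1_c12 LD2_c55 LD3_c17)) :=
  Lre_f IH (LK LD1_c6 LD2_c45 LD3_c36) (LK LD1_c12 LD2_c55 LD3_c17) Lrfl Lrfl
theorem f445869 : Led Lsl_ft (LP (LK LD1_c12 LD2_c4 LD3_c6)) = (LP (LK LD1_c6 LD2_c12 LD3_c13)) :=
  Lre_f IH (LK LD1_c12 LD2_c4 LD3_c6) (LK LD1_c6 LD2_c12 LD3_c13) Lrfl Lrfl
theorem f509944 : Led Lsl_at (LP (LK LD1_c12 LD2_c55 LD3_c17)) = (LP (LK LD1_c12 LD2_c4 LD3_c6)) :=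
  Lgr Lrot66 (Lpe (f509926 IH) (Lpr_af (f509935 IH) (Lpe (f445869 IH) (Lpn (LP (LK LD1_c12 LD2_c4 LD3_c6))))))
theorem f509950 : Led Lsl_dt (LP (LK LD1_c6 LD2_c45 LD3_c37)) = (LP (LK LD1_c12 LD2_c55 LD3_c17)) :=
  Lre_d IH (LK LD1_c6 LD2_c45 LD3_c37) (LK LD1_c12 LD2_c55 LD3_c17) Lrfl Lrfl
theorem f27129 : Led Lsl_et (LP (LK LD1_c4 LD2_c49 LD3_c20)) = (LP (LK LD1_c2 LD2_c22 LD3_c27)) :=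
  Lre_e IH (LK LD1_c4 LD2_c49 LD3_c20) (LK LD1_c2 LD2_c22 LD3_c27) Lrfl Lrfl
theorem f27131 : Led Lsl_df (LP (LK LD1_c4 LD2_c49 LD3_c20)) = (LP (LK LD1_c6 LD2_c12 LD3_c13)) :=
  Lgr Lrot70 (Lpr_et (f27129 IH) (Lpr_dt (K24.f27128 IH) (Lpr_et (K9.f27127 IH) (Lpr_dt (K0.f27118 IH) (Lpr_et (f27130 IH) (Lpn (LP (LK LD1_c6 LD2_c12 LD3_c13))))))))
theorem f445868 : Led Lsl_ft (LP (LK LD1_c4 LD2_c49 LD3_c20)) = (LP (LK LD1_c9 LD2_c31 LD3_c28)) :=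
  Lre_f IH (LK LD1_c4 LD2_c49 LD3_c20) (LK LD1_c9 LD2_c31 LD3_c28) Lrfl Lrfl
theorem f445870 : Led Lsl_dt (LP (LK LD1_c9 LD2_c31 LD3_c28)) = (LP (LK LD1_c12 LD2_c4 LD3_c6)) :=
  Lgr Lrot60 (Lpe (f445868 IH) (Lpr_df (f27131 IH) (Lpe (f445869 IH) (Lpn (LP (LK LD1_c12 LD2_c4 LD3_c6))))))
theorem f445875 : Led Lsl_df (LP (LK LD1_c9 LD2_c31 LD3_c28)) = (LP (LK LD1_c12 LD2_c4 LD3_c6)) :=
  Lgr Lrot38 (Lpr_dt (f445870 IH) (Lpn (LP (LK LD1_c12 LD2_c4 LD3_c6))))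
theorem f509951 : Led Lsl_af (LP (LK LD1_c6 LD2_c45 LD3_c37)) = (LP (LK LD1_c9 LD2_c31 LD3_c28)) :=
  Lgr Lrot117 (Lpr_dt (f509950 IH) (Lpr_at (f509944 IH) (Lpe (f445875 IH) (Lpn (LP (LK LD1_c9 LD2_c31 LD3_c28))))))
theorem f509953 : Led Lsl_at (LP (LK LD1_c6 LD2_c45 LD3_c37)) = (LP (LK LD1_c9 LD2_c31 LD3_c28)) :=
  Lgr Lrot100 (Lpr_af (f509951 IH) (Lpn (LP (LK LD1_c9 LD2_c31 LD3_c28))))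
theorem f509405 : Led Lsl_ft (LP (LK LD1_c3 LD2_c20 LD3_c50)) = (LP (LK LD1_c6 LD2_c45 LD3_c37)) :=
  Lre_f IH (LK LD1_c3 LD2_c20 LD3_c50) (LK LD1_c6 LD2_c45 LD3_c37) Lrfl Lrfl
theorem f445877 : Led Lsl_ft (LP (LK LD1_c9 LD2_c31 LD3_c28)) = (LP (LK LD1_c4 LD2_c49 LD3_c20)) :=
  Lre_f IH (LK LD1_c9 LD2_c31 LD3_c28) (LK LD1_c4 LD2_c49 LD3_c20) Lrfl Lrfl
theorem f509961 : Led Lsl_af (LP (LK LD1_c3 LD2_c20 LD3_c50)) = (LP (LK LD1_c4 LD2_c49 LD3_c20)) :=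
  Lgr Lrot45 (Lpr_ft (f509405 IH) (Lpr_at (f509953 IH) (Lpr_ft (f445877 IH) (Lpn (LP (LK LD1_c4 LD2_c49 LD3_c20))))))
theorem f22910 : Led Lsl_ct (LP (LK LD1_c3 LD2_c20 LD3_c50)) = (LP (LK LD1_c6 LD2_c45 LD3_c33)) :=
  Lre_c IH (LK LD1_c3 LD2_c20 LD3_c50) (LK LD1_c6 LD2_c45 LD3_c33) Lrfl Lrfl
theorem f175455 : Led Lsl_ct (LP (LK LD1_c9 LD2_c31 LD3_c25)) = (LP (LK LD1_c4 LD2_c49 LD3_c20)) :=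
  Lre_c IH (LK LD1_c9 LD2_c31 LD3_c25) (LK LD1_c4 LD2_c49 LD3_c20) Lrfl Lrfl
theorem f509970 : Led Lsl_at (LP (LK LD1_c6 LD2_c45 LD3_c33)) = (LP (LK LD1_c9 LD2_c31 LD3_c25)) :=
  Lgr Lrot107 (Lpe (f22910 IH) (Lpr_af (f509961 IH) (Lpe (f175455 IH) (Lpn (LP (LK LD1_c9 LD2_c31 LD3_c25))))))
theorem f415041 : Led Lsl_et (LP (LK LD1_c3 LD2_c20 LD3_c49)) = (LP (LK LD1_c6 LD2_c45 LD3_c33)) :=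
  Lre_e IH (LK LD1_c3 LD2_c20 LD3_c49) (LK LD1_c6 LD2_c45 LD3_c33) Lrfl Lrfl
theorem f77045 : Led Lsl_et (LP (LK LD1_c9 LD2_c31 LD3_c25)) = (LP (LK LD1_c4 LD2_c49 LD3_c19)) :=
  Lre_e IH (LK LD1_c9 LD2_c31 LD3_c25) (LK LD1_c4 LD2_c49 LD3_c19) Lrfl Lrfl
theorem f509978 : Led Lsl_af (LP (LK LD1_c3 LD2_c20 LD3_c49)) = (LP (LK LD1_c4 LD2_c49 LD3_c19)) :=
  Lgr Lrot50 (Lpr_et (f415041 IH) (Lpr_at (f509970 IH) (Lpr_et (f77045 IH) (Lpn (LP (LK LD1_c4 LD2_c49 LD3_c19))))))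
theorem f509984 : Led Lsl_ft (LP (LK LD1_c3 LD2_c20 LD3_c58)) = (LP (LK LD1_c4 LD2_c49 LD3_c19)) :=
  Lgr Lrot2 (Lpe (K24.f415056 IH) (Lpr_gt (K24.f140056 IH) (Lpr_af (f509978 IH) (Lpn (LP (LK LD1_c4 LD2_c49 LD3_c19))))))
theorem f509988 : Led Lsl_ff (LP (LK LD1_c3 LD2_c20 LD3_c58)) = (LP (LK LD1_c4 LD2_c49 LD3_c19)) :=
  Lgr Lrot3 (Lpr_ft (f509984 IH) (Lpn (LP (LK LD1_c4 LD2_c49 LD3_c19))))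
theorem f509994 : Led Lsl_at (LP (LK LD1_c3 LD2_c20 LD3_c58)) = (LP (LK LD1_c4 LD2_c49 LD3_c26)) :=
  Lgr Lrot26 (Lpr_ff (f509988 IH) (Lpe (K17.f416513 IH) (Lpr_gt (K24.f413570 IH) (Lpn (LP (LK LD1_c4 LD2_c49 LD3_c26))))))
theorem f509980 : Led Lsl_at (LP (LK LD1_c3 LD2_c20 LD3_c49)) = (LP (LK LD1_c4 LD2_c49 LD3_c19)) :=
  Lgr Lrot100 (Lpr_af (f509978 IH) (Lpn (LP (LK LD1_c4 LD2_c49 LD3_c19))))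
theorem f510004 : Led Lsl_ff (LP (LK LD1_c3 LD2_c20 LD3_c49)) = (LP (LK LD1_c4 LD2_c49 LD3_c26)) :=
  Lgr Lrot30 (Lpr_at (f509980 IH) (Lpe (f509988 IH) (Lpr_at (f509994 IH) (Lpn (LP (LK LD1_c4 LD2_c49 LD3_c26))))))
theorem f510010 : Led Lsl_ft (LP (LK LD1_c3 LD2_c20 LD3_c49)) = (LP (LK LD1_c4 LD2_c49 LD3_c26)) :=
  Lgr Lrot48 (Lpr_ff (f510004 IH) (Lpn (LP (LK LD1_c4 LD2_c49 LD3_c26))))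
theorem f510014 : Led Lsl_ff (LP (LK LD1_c6 LD2_c12 LD3_c12)) = (LP (LK LD1_c9 LD2_c17 LD3_c26)) :=
  Lgr Lrot19 (Lpe (K24.f414706 IH) (Lpr_ft (f510010 IH) (Lpr_dt (K24.f414133 IH) (Lpn (LP (LK LD1_c9 LD2_c17 LD3_c26))))))
theorem f510020 : Led Lsl_ft (LP (LK LD1_c3 LD2_c2 LD3_c40)) = (LP (LK LD1_c4 LD2_c40 LD3_c60)) :=
  Lgr Lrot4 (Lpe (K17.f27138 IH) (Lpr_ff (f510014 IH) (Lpe (K24.f141049 IH) (Lpn (LP (LK LD1_c4 LD2_c40 LD3_c60))))))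
theorem f634172 : Led Lsl_dt (LP (LK LD1_c4 LD2_c40 LD3_c60)) = v4487 :=
  Lgr Lrot60 (Lpe (f510020 IH) (Lpe (K0.f27118 IH) (Lpr_ff (f634169 IH) (Lpn v4487))))
theorem f22899 : Led Lsl_et (LP (LK LD1_c1 LD2_c26 LD3_c16)) = (LP (LK LD1_c2 LD2_c17 LD3_c32)) :=
  Lre_e IH (LK LD1_c1 LD2_c26 LD3_c16) (LK LD1_c2 LD2_c17 LD3_c32) Lrfl Lrfl
theorem f60138 : Led Lsl_et (LP (LK LD1_c3 LD2_c0 LD3_c56)) = (LP (LK LD1_c6 LD2_c9 LD3_c7)) :=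
  Lre_e IH (LK LD1_c3 LD2_c0 LD3_c56) (LK LD1_c6 LD2_c9 LD3_c7) Lrfl Lrfl
theorem f22852 : Led Lsl_gt (LP (LK LD1_c1 LD2_c22 LD3_c60)) = (LP (LK LD1_c2 LD2_c54 LD3_c0)) :=
  Lre_g IH (LK LD1_c1 LD2_c22 LD3_c60) (LK LD1_c2 LD2_c54 LD3_c0) Lrfl Lrfl
theorem f166169 : Led Lsl_et (LP (LK LD1_c5 LD2_c55 LD3_c21)) = (LP (LK LD1_c2 LD2_c54 LD3_c0)) :=
  Lre_e IH (LK LD1_c5 LD2_c55 LD3_c21) (LK LD1_c2 LD2_c54 LD3_c0) Lrfl Lrfl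
theorem f166170 : Led Lsl_dt (LP (LK LD1_c5 LD2_c55 LD3_c21)) = (LP (LK LD1_c11 LD2_c36 LD3_c1)) :=
  Lre_d IH (LK LD1_c5 LD2_c55 LD3_c21) (LK LD1_c11 LD2_c36 LD3_c1) Lrfl Lrfl
theorem f166402 : Led Lsl_et (LP (LK LD1_c5 LD2_c6 LD3_c52)) = (LP (LK LD1_c2 LD2_c30 LD3_c43)) :=
  Lre_e IH (LK LD1_c5 LD2_c6 LD3_c52) (LK LD1_c2 LD2_c30 LD3_c43) Lrfl Lrfl
theorem f60217 : Led Lsl_et (LP (LK LD1_c6 LD2_c9 LD3_c7)) = (LP (LK LD1_c3 LD2_c0 LD3_c56)) :=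
  Lre_e IH (LK LD1_c6 LD2_c9 LD3_c7) (LK LD1_c3 LD2_c0 LD3_c56) Lrfl Lrfl
theorem f194026 : Led Lsl_et (LP (LK LD1_c2 LD2_c30 LD3_c43)) = (LP (LK LD1_c5 LD2_c6 LD3_c52)) :=
  Lre_e IH (LK LD1_c2 LD2_c30 LD3_c43) (LK LD1_c5 LD2_c6 LD3_c52) Lrfl Lrfl
theorem f194027 : Led Lsl_df (LP (LK LD1_c6 LD2_c9 LD3_c7)) = (LP (LK LD1_c5 LD2_c6 LD3_c52)) :=
  Lgr Lrot70 (Lpr_et (f60217 IH) (Lpr_dt (K16.f60110 IH) (Lpe (K10.f193979 IH) (Lpr_dt (K10.f194019 IH) (Lpr_et (f194026 IH) (Lpn (LP (LK LD1_c5 LD2_c6 LD3_c52))))))))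
theorem f421540 : Led Lsl_gt (LP (LK LD1_c11 LD2_c36 LD3_c1)) = (LP (LK LD1_c6 LD2_c9 LD3_c7)) :=
  Lgr Lrot112 (Lpe (f166170 IH) (Lpr_et (f166169 IH) (Lpe (f22852 IH) (Lpe (f71520 IH) (Lpr_dt (K2.f71507 IH) (Lpr_gf (K9.f166118 IH) (Lpe (K10.f21257 IH) (Lpr_gf (K10.f194029 IH) (Lpe (f166402 IH) (Lpe (f194027 IH) (Lpn (LP (LK LD1_c6 LD2_c9 LD3_c7)))))))))))))
theorem f634176 : Led Lsl_et (LP (LK LD1_c6 LD2_c12 LD3_c3)) = (LP (LK LD1_c11 LD2_c36 LD3_c1)) :=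
  Lgr Lrot185 (Lpr_dt (f509411 IH) (Lpr_gf (f634174 IH) (Lpe (f634172 IH) (Lpe (K24.f22858 IH) (Lpe (f22899 IH) (Lpr_dt (K1.f9524 IH) (Lpe (K10.f9538 IH) (Lpe (K16.f60110 IH) (Lpr_et (f60138 IH) (Lpe (f421540 IH) (Lpn (LP (LK LD1_c11 LD2_c36 LD3_c1)))))))))))))
theorem f634177 : Led Lsl_et (LP (LK LD1_c6 LD2_c12 LD3_c3)) = (LP (LK LD1_c11 LD2_c36 LD3_c1)) :=
  Leop (Lpe (f634176 IH) (Lpn (LP (LK LD1_c6 LD2_c12 LD3_c3))))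
theorem seed_274 : LEOK LG_e (LK LD1_c6 LD2_c12 LD3_c3) :=
  Leoe_e (LK LD1_c6 LD2_c12 LD3_c3) (f634177 IH)
def v4506 : LQ := Led Lsl_gf (LP (LK LD1_c2 LD2_c22 LD3_c44))
theorem f634270 : Led Lsl_gf (LP (LK LD1_c2 LD2_c22 LD3_c44)) = v4506 :=
  Lrfl
theorem f140006 : Led Lsl_ct (LP (LK LD1_c1 LD2_c8 LD3_c28)) = (LP (LK LD1_c2 LD2_c22 LD3_c44)) :=
  Lre_c IH (LK LD1_c1 LD2_c8 LD3_c28) (LK LD1_c2 LD2_c22 LD3_c44) Lrfl Lrfl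
theorem f140005 : Led Lsl_bt (LP (LK LD1_c1 LD2_c8 LD3_c28)) = (LP (LK LD1_c0 LD2_c31 LD3_c19)) :=
  Lre_b IH (LK LD1_c1 LD2_c8 LD3_c28) (LK LD1_c0 LD2_c31 LD3_c19) Lrfl Lrfl
theorem f510413 : Led Lsl_ff K34.v2213 = (LP (LK LD1_c1 LD2_c38 LD3_c25)) :=
  Lgr Lrot25 (Lpe (K34.f509705 IH) (Lpq (f509841 IH) (Lpe (K32.f454819 IH) (Lpr_bt (K34.f414498 IH) (Lpn (LP (LK LD1_c1 LD2_c38 LD3_c25)))))))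
def v1930 : LQ := Led Lsl_gt (LP (LK LD1_c1 LD2_c31 LD3_c45))
theorem f506445 : Led Lsl_gt (LP (LK LD1_c1 LD2_c31 LD3_c45)) = v1930 :=
  Lrfl
theorem f527801 : Led Lsl_at K34.v2213 = v1930 :=
  Lgr Lrot26 (Lpr_ff (f510413 IH) (Lpr_gt (K34.f510423 IH) (Lpqs (K34.f527798 IH) (Lpr_gt (f506445 IH) (Lpn v1930)))))
theorem f527802 : Led Lsl_af K34.v2213 = v1930 :=
  Lgr Lrot0 (Lpr_at (f527801 IH) (Lpn v1930))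
def v2240 : LQ := Led Lsl_at (LP (LK LD1_c1 LD2_c38 LD3_c25))
theorem f510425 : Led Lsl_at (LP (LK LD1_c1 LD2_c38 LD3_c25)) = v2240 :=
  Lrfl
theorem f510426 : Led Lsl_af (LP (LK LD1_c1 LD2_c38 LD3_c25)) = v2240 :=
  Lgr Lrot0 (Lpr_at (f510425 IH) (Lpn v2240))
theorem f527804 : Led Lsl_ff v2240 = v1930 :=
  Lgr Lrot30 (Lpe (f510426 IH) (Lpe (f510413 IH) (Lpr_at (f527801 IH) (Lpn v1930))))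
theorem f527805 : Led Lsl_ft v2240 = v1930 :=
  Lgr Lrot48 (Lpr_ff (f527804 IH) (Lpn v1930))
theorem f527809 : Led Lsl_gt v2240 = (LP (LK LD1_c2 LD2_c18 LD3_c5)) :=
  Lgr Lrot5 (Lpr_ft (f527805 IH) (Lpe (f527802 IH) (Lpr_gf (K34.f527808 IH) (Lpn (LP (LK LD1_c2 LD2_c18 LD3_c5))))))
def v1932 : LQ := Led Lsl_ft (LP (LK LD1_c1 LD2_c31 LD3_c45))
theorem f506448 : Led Lsl_ft (LP (LK LD1_c1 LD2_c31 LD3_c45)) = v1932 :=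
  Lrfl
theorem f506451 : Led Lsl_ff (LP (LK LD1_c1 LD2_c31 LD3_c45)) = v1932 :=
  Lgr Lrot3 (Lpr_ft (f506448 IH) (Lpn v1932))
theorem f527839 : Led Lsl_gf v2240 = v1932 :=
  Lgr Lrot47 (Lpr_gt (f527809 IH) (Lpr_af (K34.f209057 IH) (Lpr_ff (f506451 IH) (Lpn v1932))))
theorem f510414 : Led Lsl_ft K34.v2213 = (LP (LK LD1_c1 LD2_c38 LD3_c25)) :=
  Lgr Lrot48 (Lpr_ff (f510413 IH) (Lpn (LP (LK LD1_c1 LD2_c38 LD3_c25))))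
theorem f527840 : Led Lsl_gt K34.v2213 = v1932 :=
  Lgr Lrot5 (Lpr_ft (f510414 IH) (Lpr_at (f510425 IH) (Lpr_gf (f527839 IH) (Lpn v1932))))
theorem f208924 : Led Lsl_bt (LP (LK LD1_c3 LD2_c10 LD3_c30)) = (LP (LK LD1_c1 LD2_c31 LD3_c36)) :=
  Lre_b IH (LK LD1_c3 LD2_c10 LD3_c30) (LK LD1_c1 LD2_c31 LD3_c36) Lrfl Lrfl
theorem f209074 : Led Lsl_bf (LP (LK LD1_c1 LD2_c47 LD3_c11)) = (LP (LK LD1_c1 LD2_c31 LD3_c45)) :=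
  Lgr Lrot93 (Lpe (K34.f125660 IH) (Lpr_bt (f208924 IH) (Lpr_dt (K34.f209072 IH) (Lpn (LP (LK LD1_c1 LD2_c31 LD3_c45))))))
theorem f208921 : Led Lsl_ft (LP (LK LD1_c1 LD2_c47 LD3_c11)) = (LP (LK LD1_c3 LD2_c40 LD3_c28)) :=
  Lre_f IH (LK LD1_c1 LD2_c47 LD3_c11) (LK LD1_c3 LD2_c40 LD3_c28) Lrfl Lrfl
theorem f506452 : Led Lsl_bt (LP (LK LD1_c3 LD2_c40 LD3_c28)) = v1932 :=
  Lgr Lrot35 (Lpe (f208921 IH) (Lpr_bf (f209074 IH) (Lpr_ff (f506451 IH) (Lpn v1932))))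
theorem f634272 : Led Lsl_ct (LP (LK LD1_c3 LD2_c40 LD3_c28)) = v4506 :=
  Lgr Lrot64 (Lpr_bt (f506452 IH) (Lpe (f527840 IH) (Lpe (K34.f509704 IH) (Lpe (K9.f139984 IH) (Lpe (K0.f23211 IH) (Lpe (K24.f23210 IH) (Lpe (K0.f22865 IH) (Lpe (f140005 IH) (Lpr_ct (f140006 IH) (Lpr_gf (f634270 IH) (Lpn v4506)))))))))))
theorem f208997 : Led Lsl_af (LP (LK LD1_c3 LD2_c10 LD3_c30)) = (LP (LK LD1_c3 LD2_c25 LD3_c15)) :=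
  Lgr Lrot0 (Lpr_at (K34.f208995 IH) (Lpn (LP (LK LD1_c3 LD2_c25 LD3_c15))))
theorem f125566 : Led Lsl_et (LP (LK LD1_c1 LD2_c47 LD3_c11)) = (LP (LK LD1_c0 LD2_c50 LD3_c23)) :=
  Lre_e IH (LK LD1_c1 LD2_c47 LD3_c11) (LK LD1_c0 LD2_c50 LD3_c23) Lrfl Lrfl
theorem f125668 : Led Lsl_dt (LP (LK LD1_c3 LD2_c10 LD3_c30)) = (LP (LK LD1_c1 LD2_c47 LD3_c11)) :=
  Lgr Lrot77 (Lpe (K5.f124838 IH) (Lpe (K5.f124837 IH) (Lpr_ef (K5.f125662 IH) (Lpe (K4.f107288 IH) (Lpe (f125566 IH) (Lpn (LP (LK LD1_c1 LD2_c47 LD3_c11))))))))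
theorem f209047 : Led Lsl_af (LP (LK LD1_c1 LD2_c48 LD3_c3)) = (LP (LK LD1_c1 LD2_c47 LD3_c11)) :=
  Lgr Lrot117 (Lpr_dt (K34.f209014 IH) (Lpe (f208997 IH) (Lpr_dt (f125668 IH) (Lpn (LP (LK LD1_c1 LD2_c47 LD3_c11))))))
theorem f125606 : Led Lsl_et (LP (LK LD1_c3 LD2_c42 LD3_c7)) = (LP (LK LD1_c1 LD2_c48 LD3_c2)) :=
  Lre_e IH (LK LD1_c3 LD2_c42 LD3_c7) (LK LD1_c1 LD2_c48 LD3_c2) Lrfl Lrfl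
theorem f129243 : Led Lsl_et (LP (LK LD1_c1 LD2_c35 LD3_c61)) = (LP (LK LD1_c3 LD2_c19 LD3_c4)) :=
  Lre_e IH (LK LD1_c1 LD2_c35 LD3_c61) (LK LD1_c3 LD2_c19 LD3_c4) Lrfl Lrfl
theorem f129244 : Led Lsl_af (LP (LK LD1_c3 LD2_c42 LD3_c7)) = (LP (LK LD1_c3 LD2_c19 LD3_c4)) :=
  Lgr Lrot50 (Lpr_et (f125606 IH) (Lpr_at (K5.f129232 IH) (Lpr_et (f129243 IH) (Lpn (LP (LK LD1_c3 LD2_c19 LD3_c4))))))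
theorem f129246 : Led Lsl_at (LP (LK LD1_c3 LD2_c42 LD3_c7)) = (LP (LK LD1_c3 LD2_c19 LD3_c4)) :=
  Lgr Lrot100 (Lpr_af (f129244 IH) (Lpn (LP (LK LD1_c3 LD2_c19 LD3_c4))))
theorem f209087 : Led Lsl_ct (LP (LK LD1_c3 LD2_c19 LD3_c4)) = (LP (LK LD1_c1 LD2_c47 LD3_c11)) :=
  Lgr Lrot111 (Lpe (f129246 IH) (Lpe (K6.f26239 IH) (Lpr_af (f209047 IH) (Lpn (LP (LK LD1_c1 LD2_c47 LD3_c11))))))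
theorem f634275 : Led Lsl_ff (LP (LK LD1_c3 LD2_c19 LD3_c4)) = v4506 :=
  Lgr Lrot23 (Lpr_ct (f209087 IH) (Lpr_ft (f208921 IH) (Lpr_ct (f634272 IH) (Lpn v4506))))
def v4505 : LQ := Led Lsl_gt (LP (LK LD1_c2 LD2_c22 LD3_c44))
theorem f634268 : Led Lsl_gt (LP (LK LD1_c2 LD2_c22 LD3_c44)) = v4505 :=
  Lrfl
theorem f634278 : (LP (LK LD1_c3 LD2_c42 LD3_c7)) = v4505 :=
  (Llr Lrot26 (Lpr_af (f129244 IH) (Lpr_ff (f634275 IH) (Lpe (f634270 IH) (Lpr_gt (f634268 IH) (Lpn v4505)))))).symm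
def v561 : LQ := Led Lsl_ft (LP (LK LD1_c0 LD2_c44 LD3_c52))
theorem f454000 : Led Lsl_ft (LP (LK LD1_c0 LD2_c44 LD3_c52)) = v561 :=
  Lrfl
theorem f454002 : Led Lsl_ff (LP (LK LD1_c0 LD2_c44 LD3_c52)) = v561 :=
  Lgr Lrot3 (Lpr_ft (f454000 IH) (Lpn v561))
theorem f414623 : Led Lsl_bt (LP (LK LD1_c0 LD2_c44 LD3_c52)) = (LP (LK LD1_c0 LD2_c19 LD3_c55)) :=
  Lre_b IH (LK LD1_c0 LD2_c44 LD3_c52) (LK LD1_c0 LD2_c19 LD3_c55) Lrfl Lrfl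
theorem f454004 : Led Lsl_bt K24.v135 = v561 :=
  Lgr Lrot35 (Lpe (K24.f450666 IH) (Lpe (f414623 IH) (Lpr_ff (f454002 IH) (Lpn v561))))
theorem f23190 : Led Lsl_bt (LP (LK LD1_c0 LD2_c31 LD3_c19)) = (LP (LK LD1_c1 LD2_c8 LD3_c28)) :=
  Lre_b IH (LK LD1_c0 LD2_c31 LD3_c19) (LK LD1_c1 LD2_c8 LD3_c28) Lrfl Lrfl
theorem f454083 : v561 = (LP (LK LD1_c1 LD2_c8 LD3_c28)) :=
  Lefun (Lecon (f454004 IH) (K24.f454078 IH).symm) (f23190 IH)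
theorem f453999 : Led Lsl_ct (LP (LK LD1_c1 LD2_c36 LD3_c54)) = (LP (LK LD1_c0 LD2_c44 LD3_c52)) :=
  Lre_c IH (LK LD1_c1 LD2_c36 LD3_c54) (LK LD1_c0 LD2_c44 LD3_c52) Lrfl Lrfl
theorem f454712 : Led Lsl_ff (LP (LK LD1_c1 LD2_c36 LD3_c54)) = (LP (LK LD1_c2 LD2_c22 LD3_c44)) :=
  Lgr Lrot23 (Lpr_ct (f453999 IH) (Lpr_ft (f454000 IH) (Lpqs (f454083 IH) (Lpr_ct (f140006 IH) (Lpn (LP (LK LD1_c2 LD2_c22 LD3_c44)))))))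
theorem f454763 : Led Lsl_at (LP (LK LD1_c1 LD2_c36 LD3_c54)) = (LP (LK LD1_c3 LD2_c21 LD3_c14)) :=
  Lre_a IH (LK LD1_c1 LD2_c36 LD3_c54) (LK LD1_c3 LD2_c21 LD3_c14) Lrfl Lrfl
theorem f634269 : Led Lsl_gf (LP (LK LD1_c3 LD2_c21 LD3_c14)) = v4505 :=
  Lgr Lrot76 (Lpe (f454763 IH) (Lpr_ff (f454712 IH) (Lpr_gt (f634268 IH) (Lpn v4505))))
theorem f634279 : Led Lsl_gt (LP (LK LD1_c3 LD2_c42 LD3_c7)) = (LP (LK LD1_c3 LD2_c21 LD3_c14)) :=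
  Leop (Lpr_gf (f634269 IH) (Lpq (f634278 IH) (Lpn (LP (LK LD1_c3 LD2_c42 LD3_c7)))))
theorem seed_275 : LEOK LG_g (LK LD1_c3 LD2_c42 LD3_c7) :=
  Leoe_g (LK LD1_c3 LD2_c42 LD3_c7) (f634279 IH)
def v4530 : LQ := Led Lsl_at (LP (LK LD1_c2 LD2_c24 LD3_c30))
theorem f634397 : Led Lsl_at (LP (LK LD1_c2 LD2_c24 LD3_c30)) = v4530 :=
  Lrfl
theorem f634398 : Led Lsl_af (LP (LK LD1_c2 LD2_c24 LD3_c30)) = v4530 :=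
  Lgr Lrot0 (Lpr_at (f634397 IH) (Lpn v4530))
theorem f634401 : Led Lsl_ft (LP (LK LD1_c2 LD2_c24 LD3_c31)) = v4530 :=
  Lgr Lrot2 (Lpr_gt (K13.f167018 IH) (Lpr_gt (K20.f167013 IH) (Lpr_af (f634398 IH) (Lpn v4530))))
theorem f171333 : Led Lsl_gt (LP (LK LD1_c2 LD2_c32 LD3_c33)) = (LP (LK LD1_c1 LD2_c13 LD3_c14)) :=
  Lre_g IH (LK LD1_c2 LD2_c32 LD3_c33) (LK LD1_c1 LD2_c13 LD3_c14) Lrfl Lrfl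
theorem f171339 : Led Lsl_bt (LP (LK LD1_c5 LD2_c11 LD3_c8)) = (LP (LK LD1_c2 LD2_c32 LD3_c33)) :=
  Lre_b IH (LK LD1_c5 LD2_c11 LD3_c8) (LK LD1_c2 LD2_c32 LD3_c33) Lrfl Lrfl
theorem f362898 : Led Lsl_ct (LP (LK LD1_c5 LD2_c11 LD3_c8)) = (LP (LK LD1_c10 LD2_c12 LD3_c49)) :=
  Lre_c IH (LK LD1_c5 LD2_c11 LD3_c8) (LK LD1_c10 LD2_c12 LD3_c49) Lrfl Lrfl
theorem f362899 : Led Lsl_gt (LP (LK LD1_c9 LD2_c54 LD3_c14)) = (LP (LK LD1_c10 LD2_c12 LD3_c49)) :=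
  Lgr Lrot149 (Lpe (K23.f252815 IH) (Lpe (K21.f328664 IH) (Lpr_bf (K24.f341762 IH) (Lpr_ct (K26.f362886 IH) (Lpe (K26.f306410 IH) (Lpe (K26.f171495 IH) (Lpr_bt (K21.f171321 IH) (Lpe (f171333 IH) (Lpe (f171339 IH) (Lpr_ct (f362898 IH) (Lpn (LP (LK LD1_c10 LD2_c12 LD3_c49)))))))))))))
theorem f262403 : Led Lsl_et (LP (LK LD1_c4 LD2_c1 LD3_c52)) = (LP (LK LD1_c8 LD2_c4 LD3_c23)) :=
  Lre_e IH (LK LD1_c4 LD2_c1 LD3_c52) (LK LD1_c8 LD2_c4 LD3_c23) Lrfl Lrfl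
theorem f246121 : Led Lsl_gf (LP (LK LD1_c8 LD2_c4 LD3_c22)) = (LP (LK LD1_c10 LD2_c7 LD3_c28)) :=
  Lgr Lrot143 (Lpr_dt (K15.f242569 IH) (Lpr_cf (K15.f212300 IH) (Lpe (K15.f246096 IH) (Lpr_gf (K13.f246117 IH) (Lpe (K13.f196109 IH) (Lpe (K13.f196110 IH) (Lpe (K13.f34620 IH) (Lpr_gt (K13.f240232 IH) (Lpr_dt (K13.f33148 IH) (Lpn (LP (LK LD1_c10 LD2_c7 LD3_c28))))))))))))
theorem f296522 : Led Lsl_dt (LP (LK LD1_c27 LD2_c46 LD3_c6)) = (LP (LK LD1_c18 LD2_c4 LD3_c38)) :=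
  Lre_d IH (LK LD1_c27 LD2_c46 LD3_c6) (LK LD1_c18 LD2_c4 LD3_c38) Lrfl Lrfl
theorem f340260 : Led Lsl_gf (LP (LK LD1_c27 LD2_c46 LD3_c6)) = (LP (LK LD1_c18 LD2_c14 LD3_c11)) :=
  Lgr Lrot143 (Lpr_dt (f296522 IH) (Lpe (K19.f296518 IH) (Lpr_df (K19.f305603 IH) (Lpr_gf (K19.f305614 IH) (Lpe (K19.f246130 IH) (Lpe (K19.f246129 IH) (Lpr_cf (K19.f296444 IH) (Lpr_gt (K23.f340255 IH) (Lpr_dt (K24.f340259 IH) (Lpn (LP (LK LD1_c18 LD2_c14 LD3_c11))))))))))))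
theorem f296523 : Led Lsl_dt (LP (LK LD1_c18 LD2_c4 LD3_c38)) = (LP (LK LD1_c27 LD2_c46 LD3_c6)) :=
  Lre_d IH (LK LD1_c18 LD2_c4 LD3_c38) (LK LD1_c27 LD2_c46 LD3_c6) Lrfl Lrfl
theorem f340276 : Led Lsl_ef (LP (LK LD1_c18 LD2_c26 LD3_c35)) = (LP (LK LD1_c18 LD2_c4 LD3_c38)) :=
  Lgr Lrot114 (Lpr_gt (K20.f33177 IH) (Lpe (K19.f242277 IH) (Lpr_dt (K13.f33148 IH) (Lpe (f246121 IH) (Lpe (K15.f33862 IH) (Lpr_et (f262403 IH) (Lpr_gt (K23.f340255 IH) (Lpr_dt (K24.f340259 IH) (Lpe (f340260 IH) (Lpe (f296523 IH) (Lpn (LP (LK LD1_c18 LD2_c4 LD3_c38)))))))))))))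
theorem f378257 : Led Lsl_et (LP (LK LD1_c9 LD2_c58 LD3_c5)) = (LP (LK LD1_c10 LD2_c12 LD3_c49)) :=
  Lgr Lrot122 (Lpr_dt (K24.f340259 IH) (Lpe (f340260 IH) (Lpe (f296523 IH) (Lpe (f340276 IH) (Lpr_gt (K20.f33177 IH) (Lpr_dt (K19.f311578 IH) (Lpe (K20.f320881 IH) (Lpe (K20.f320868 IH) (Lpe (K23.f343037 IH) (Lpr_gt (f362899 IH) (Lpn (LP (LK LD1_c10 LD2_c12 LD3_c49)))))))))))))
theorem f378264 : Led Lsl_ef (LP (LK LD1_c9 LD2_c58 LD3_c5)) = (LP (LK LD1_c10 LD2_c12 LD3_c49)) :=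
  Lgr Lrot88 (Lpr_et (f378257 IH) (Lpn (LP (LK LD1_c10 LD2_c12 LD3_c49))))
theorem f378269 : Led Lsl_et (LP (LK LD1_c5 LD2_c3 LD3_c36)) = (LP (LK LD1_c5 LD2_c11 LD3_c8)) :=
  Lgr Lrot158 (Lpe (K23.f248764 IH) (Lpr_ef (f378264 IH) (Lpe (f362898 IH) (Lpn (LP (LK LD1_c5 LD2_c11 LD3_c8))))))
theorem f332806 : Led Lsl_dt (LP (LK LD1_c25 LD2_c3 LD3_c14)) = (LP (LK LD1_c25 LD2_c14 LD3_c12)) :=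
  Lgr Lrot6 (Lpe (K22.f327386 IH) (Lpr_ct (K22.f274718 IH) (Lpr_gt (K22.f332802 IH) (Lpe (K22.f312232 IH) (Lpr_df (K22.f226797 IH) (Lpe (K22.f226804 IH) (Lpe (K22.f327243 IH) (Lpe (K18.f296852 IH) (Lpe (K22.f298541 IH) (Lpn (LP (LK LD1_c25 LD2_c14 LD3_c12))))))))))))
theorem f296860 : Led Lsl_dt (LP (LK LD1_c20 LD2_c2 LD3_c27)) = (LP (LK LD1_c11 LD2_c8 LD3_c46)) :=
  Lre_d IH (LK LD1_c20 LD2_c2 LD3_c27) (LK LD1_c11 LD2_c8 LD3_c46) Lrfl Lrfl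
theorem f340266 : Led Lsl_gf (LP (LK LD1_c5 LD2_c9 LD3_c1)) = (LP (LK LD1_c5 LD2_c3 LD3_c36)) :=
  Lgr Lrot104 (Lpr_ct (K21.f296906 IH) (Lpe (K21.f296849 IH) (Lpe (K21.f287265 IH) (Lpe (K21.f327034 IH) (Lpe (K21.f22093 IH) (Lpe (K19.f298628 IH) (Lpe (K18.f33864 IH) (Lpr_gt (K23.f340255 IH) (Lpr_ct (K23.f248764 IH) (Lpn (LP (LK LD1_c5 LD2_c3 LD3_c36))))))))))))
theorem f350390 : Led Lsl_gf (LP (LK LD1_c9 LD2_c58 LD3_c6)) = (LP (LK LD1_c9 LD2_c43 LD3_c33)) :=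
  Lgr Lrot144 (Lpr_dt (K23.f340268 IH) (Lpe (f340266 IH) (Lpr_dt (K18.f296842 IH) (Lpe (K21.f286259 IH) (Lpe (f296860 IH) (Lpe (K22.f298541 IH) (Lpe (f332806 IH) (Lpr_gf (K24.f350388 IH) (Lpe (K24.f274738 IH) (Lpn (LP (LK LD1_c9 LD2_c43 LD3_c33))))))))))))
theorem f378275 : Led Lsl_gf (LP (LK LD1_c4 LD2_c51 LD3_c16)) = (LP (LK LD1_c5 LD2_c11 LD3_c8)) :=
  Lgr Lrot141 (Lpe (K10.f191677 IH) (Lpr_dt (K10.f33364 IH) (Lpr_gt (K17.f274669 IH) (Lpe (K16.f274673 IH) (Lpr_et (K22.f263321 IH) (Lpr_gt (K16.f263281 IH) (Lpr_dt (K16.f274734 IH) (Lpe (f350390 IH) (Lpe (K25.f338003 IH) (Lpr_et (f378269 IH) (Lpn (LP (LK LD1_c5 LD2_c11 LD3_c8)))))))))))))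
theorem f309841 : Led Lsl_bt (LP (LK LD1_c2 LD2_c43 LD3_c26)) = (LP (LK LD1_c5 LD2_c35 LD3_c0)) :=
  Lre_b IH (LK LD1_c2 LD2_c43 LD3_c26) (LK LD1_c5 LD2_c35 LD3_c0) Lrfl Lrfl
theorem f309778 : Led Lsl_dt (LP (LK LD1_c2 LD2_c34 LD3_c58)) = (LP (LK LD1_c2 LD2_c43 LD3_c26)) :=
  Lgr Lrot42 (Lpr_df (K19.f309776 IH) (Lpn (LP (LK LD1_c2 LD2_c43 LD3_c26))))
theorem f324315 : Led Lsl_bf (LP (LK LD1_c2 LD2_c34 LD3_c58)) = (LP (LK LD1_c5 LD2_c15 LD3_c50)) :=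
  Lgr Lrot93 (Lpr_dt (f309778 IH) (Lpr_bt (f309841 IH) (Lpr_dt (K21.f324313 IH) (Lpn (LP (LK LD1_c5 LD2_c15 LD3_c50))))))
theorem f170004 : Led Lsl_ct (LP (LK LD1_c2 LD2_c34 LD3_c56)) = (LP (LK LD1_c5 LD2_c16 LD3_c19)) :=
  Lre_c IH (LK LD1_c2 LD2_c34 LD3_c56) (LK LD1_c5 LD2_c16 LD3_c19) Lrfl Lrfl
theorem f247599 : Led Lsl_gt (LP (LK LD1_c5 LD2_c16 LD3_c19)) = (LP (LK LD1_c10 LD2_c22 LD3_c12)) :=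
  Lre_g IH (LK LD1_c5 LD2_c16 LD3_c19) (LK LD1_c10 LD2_c22 LD3_c12) Lrfl Lrfl
theorem f247597 : Led Lsl_ft (LP (LK LD1_c5 LD2_c16 LD3_c19)) = (LP (LK LD1_c10 LD2_c22 LD3_c14)) :=
  Lre_f IH (LK LD1_c5 LD2_c16 LD3_c19) (LK LD1_c10 LD2_c22 LD3_c14) Lrfl Lrfl
theorem f247600 : Led Lsl_gt (LP (LK LD1_c10 LD2_c22 LD3_c12)) = (LP (LK LD1_c16 LD2_c35 LD3_c1)) :=
  Lgr Lrot46 (Lpe (f247599 IH) (Lpr_ft (f247597 IH) (Lpr_at (K14.f247589 IH) (Lpn (LP (LK LD1_c16 LD2_c35 LD3_c1))))))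
theorem f316631 : Led Lsl_cf (LP (LK LD1_c10 LD2_c22 LD3_c12)) = (LP (LK LD1_c17 LD2_c45 LD3_c35)) :=
  Lgr Lrot169 (Lpr_gt (f247600 IH) (Lpr_ct (K14.f230593 IH) (Lpe (K20.f315987 IH) (Lpe (K21.f315982 IH) (Lpr_gf (K20.f316629 IH) (Lpr_cf (K19.f264888 IH) (Lpr_gf (K20.f271023 IH) (Lpr_df (K20.f246995 IH) (Lpr_gt (K26.f247004 IH) (Lpn (LP (LK LD1_c17 LD2_c45 LD3_c35))))))))))))
theorem f359658 : Led Lsl_bf (LP (LK LD1_c15 LD2_c50 LD3_c44)) = (LP (LK LD1_c17 LD2_c45 LD3_c35)) :=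
  Lgr Lrot165 (Lpr_gt (K26.f359654 IH) (Lpr_ct (K17.f286386 IH) (Lpe (K25.f320039 IH) (Lpe (K22.f271605 IH) (Lpe (f324315 IH) (Lpr_gt (K14.f170023 IH) (Lpe (K19.f170039 IH) (Lpr_ct (f170004 IH) (Lpr_gt (f247599 IH) (Lpr_cf (f316631 IH) (Lpn (LP (LK LD1_c17 LD2_c45 LD3_c35)))))))))))))
theorem f359660 : Led Lsl_bt (LP (LK LD1_c15 LD2_c50 LD3_c44)) = (LP (LK LD1_c17 LD2_c45 LD3_c35)) :=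
  Lgr Lrot127 (Lpr_bf (f359658 IH) (Lpn (LP (LK LD1_c17 LD2_c45 LD3_c35))))
theorem f361035 : Led Lsl_bf (LP (LK LD1_c15 LD2_c30 LD3_c61)) = (LP (LK LD1_c17 LD2_c46 LD3_c55)) :=
  Lgr Lrot96 (Lpe (K26.f301143 IH) (Lpr_bt (f359660 IH) (Lpr_et (K27.f361033 IH) (Lpn (LP (LK LD1_c17 LD2_c46 LD3_c55))))))
theorem f48292 : Led Lsl_ct (LP (LK LD1_c5 LD2_c17 LD3_c60)) = (LP (LK LD1_c10 LD2_c25 LD3_c41)) :=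
  Lre_c IH (LK LD1_c5 LD2_c17 LD3_c60) (LK LD1_c10 LD2_c25 LD3_c41) Lrfl Lrfl
theorem f361043 : Led Lsl_gt (LP (LK LD1_c5 LD2_c18 LD3_c6)) = (LP (LK LD1_c10 LD2_c25 LD3_c41)) :=
  Lgr Lrot149 (Lpe (K22.f191522 IH) (Lpe (K26.f191557 IH) (Lpr_bf (f361035 IH) (Lpr_ct (K26.f361010 IH) (Lpe (K26.f361017 IH) (Lpe (K19.f165963 IH) (Lpr_bt (K10.f165954 IH) (Lpe (K18.f304450 IH) (Lpr_bf (K25.f353274 IH) (Lpr_ct (f48292 IH) (Lpn (LP (LK LD1_c10 LD2_c25 LD3_c41)))))))))))))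
theorem f378277 : Led Lsl_bt (LP (LK LD1_c2 LD2_c32 LD3_c33)) = (LP (LK LD1_c5 LD2_c11 LD3_c8)) :=
  Lre_b IH (LK LD1_c2 LD2_c32 LD3_c33) (LK LD1_c5 LD2_c11 LD3_c8) Lrfl Lrfl
theorem f171336 : Led Lsl_ct (LP (LK LD1_c2 LD2_c32 LD3_c33)) = (LP (LK LD1_c5 LD2_c11 LD3_c9)) :=
  Lre_c IH (LK LD1_c2 LD2_c32 LD3_c33) (LK LD1_c5 LD2_c11 LD3_c9) Lrfl Lrfl
theorem f378278 : Led Lsl_gt (LP (LK LD1_c5 LD2_c4 LD3_c20)) = (LP (LK LD1_c5 LD2_c11 LD3_c9)) :=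
  Lgr Lrot149 (Lpe (K15.f165944 IH) (Lpe (K18.f304450 IH) (Lpr_bf (K25.f353274 IH) (Lpr_ct (f48292 IH) (Lpe (f361043 IH) (Lpe (K22.f191522 IH) (Lpr_bt (K25.f191680 IH) (Lpr_gf (f378275 IH) (Lpe (f378277 IH) (Lpr_ct (f171336 IH) (Lpn (LP (LK LD1_c5 LD2_c11 LD3_c9)))))))))))))
theorem f307915 : Led Lsl_af (LP (LK LD1_c2 LD2_c32 LD3_c40)) = (LP (LK LD1_c2 LD2_c29 LD3_c34)) :=
  Lgr Lrot68 (Lpe (K19.f215144 IH) (Lpr_at (K19.f307678 IH) (Lpr_ct (K26.f165939 IH) (Lpn (LP (LK LD1_c2 LD2_c29 LD3_c34))))))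
theorem f378280 : Led Lsl_gf (LP (LK LD1_c2 LD2_c32 LD3_c40)) = (LP (LK LD1_c5 LD2_c11 LD3_c9)) :=
  Lgr Lrot76 (Lpr_af (f307915 IH) (Lpe (K15.f165943 IH) (Lpr_gt (f378278 IH) (Lpn (LP (LK LD1_c5 LD2_c11 LD3_c9))))))
theorem f361343 : Led Lsl_bt (LP (LK LD1_c10 LD2_c26 LD3_c49)) = (LP (LK LD1_c5 LD2_c18 LD3_c33)) :=
  Lre_b IH (LK LD1_c10 LD2_c26 LD3_c49) (LK LD1_c5 LD2_c18 LD3_c33) Lrfl Lrfl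
theorem f166954 : Led Lsl_ct (LP (LK LD1_c5 LD2_c3 LD3_c43)) = (LP (LK LD1_c9 LD2_c58 LD3_c15)) :=
  Lre_c IH (LK LD1_c5 LD2_c3 LD3_c43) (LK LD1_c9 LD2_c58 LD3_c15) Lrfl Lrfl
theorem f249655 : Led Lsl_gt (LP (LK LD1_c9 LD2_c58 LD3_c15)) = (LP (LK LD1_c18 LD2_c14 LD3_c24)) :=
  Lre_g IH (LK LD1_c9 LD2_c58 LD3_c15) (LK LD1_c18 LD2_c14 LD3_c24) Lrfl Lrfl
theorem f361344 : Led Lsl_cf (LP (LK LD1_c18 LD2_c14 LD3_c24)) = (LP (LK LD1_c10 LD2_c26 LD3_c49)) :=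
  Lgr Lrot58 (Lpe (f249655 IH) (Lpe (f166954 IH) (Lpr_bt (K14.f249641 IH) (Lpe (K19.f249656 IH) (Lpr_bf (K26.f361321 IH) (Lpe (K26.f361329 IH) (Lpr_gf (K26.f361336 IH) (Lpe (K21.f248325 IH) (Lpe (K26.f361341 IH) (Lpe (f361343 IH) (Lpn (LP (LK LD1_c10 LD2_c26 LD3_c49)))))))))))))
theorem f166840 : Led Lsl_gt (LP (LK LD1_c18 LD2_c14 LD3_c24)) = (LP (LK LD1_c9 LD2_c58 LD3_c31)) :=
  Lre_g IH (LK LD1_c18 LD2_c14 LD3_c24) (LK LD1_c9 LD2_c58 LD3_c31) Lrfl Lrfl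
theorem f166823 : Led Lsl_ct (LP (LK LD1_c5 LD2_c3 LD3_c50)) = (LP (LK LD1_c9 LD2_c58 LD3_c31)) :=
  Lre_c IH (LK LD1_c5 LD2_c3 LD3_c50) (LK LD1_c9 LD2_c58 LD3_c31) Lrfl Lrfl
theorem f378285 : Led Lsl_gt (LP (LK LD1_c2 LD2_c29 LD3_c28)) = (LP (LK LD1_c2 LD2_c32 LD3_c33)) :=
  Lgr Lrot82 (Lpe (K10.f166815 IH) (Lpr_ct (f166823 IH) (Lpe (f166840 IH) (Lpr_cf (f361344 IH) (Lpr_bt (f361343 IH) (Lpe (K26.f178713 IH) (Lpe (K19.f178697 IH) (Lpr_ct (K26.f186604 IH) (Lpr_gf (f378280 IH) (Lpe (f171336 IH) (Lpn (LP (LK LD1_c2 LD2_c32 LD3_c33)))))))))))))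
theorem f301702 : Led Lsl_et (LP (LK LD1_c2 LD2_c32 LD3_c26)) = (LP (LK LD1_c2 LD2_c29 LD3_c28)) :=
  Lgr Lrot71 (Lpr_df (K14.f253671 IH) (Lpe (K26.f301691 IH) (Lpe (K19.f301701 IH) (Lpr_ef (K18.f301698 IH) (Lpe (K10.f166811 IH) (Lpn (LP (LK LD1_c2 LD2_c29 LD3_c28))))))))
theorem f378294 : Led Lsl_et (LP (LK LD1_c2 LD2_c29 LD3_c17)) = (LP (LK LD1_c2 LD2_c32 LD3_c33)) :=
  Lgr Lrot122 (Lpr_dt (K23.f248761 IH) (Lpr_gt (K23.f342414 IH) (Lpe (K23.f237820 IH) (Lpe (K23.f342419 IH) (Lpr_gt (K23.f22043 IH) (Lpr_dt (K13.f22027 IH) (Lpe (K17.f287846 IH) (Lpe (K18.f253651 IH) (Lpr_et (f301702 IH) (Lpr_gt (f378285 IH) (Lpn (LP (LK LD1_c2 LD2_c32 LD3_c33)))))))))))))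
theorem f167014 : Led Lsl_dt (LP (LK LD1_c2 LD2_c24 LD3_c30)) = (LP (LK LD1_c4 LD2_c53 LD3_c26)) :=
  Lre_d IH (LK LD1_c2 LD2_c24 LD3_c30) (LK LD1_c4 LD2_c53 LD3_c26) Lrfl Lrfl
theorem f306963 : Led Lsl_gt (LP (LK LD1_c2 LD2_c23 LD3_c59)) = (LP (LK LD1_c1 LD2_c9 LD3_c0)) :=
  Lre_g IH (LK LD1_c2 LD2_c23 LD3_c59) (LK LD1_c1 LD2_c9 LD3_c0) Lrfl Lrfl
theorem f378292 : Led Lsl_df (LP (LK LD1_c2 LD2_c23 LD3_c59)) = (LP (LK LD1_c2 LD2_c32 LD3_c33)) :=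
  Lgr Lrot135 (Lpr_gt (f306963 IH) (Lpr_df (K19.f306950 IH) (Lpr_et (K25.f22049 IH) (Lpr_gt (K10.f22011 IH) (Lpe (K14.f22048 IH) (Lpr_dt (K13.f22027 IH) (Lpe (K17.f287846 IH) (Lpe (K18.f253651 IH) (Lpr_et (f301702 IH) (Lpr_gt (f378285 IH) (Lpn (LP (LK LD1_c2 LD2_c32 LD3_c33)))))))))))))
theorem f378298 : Led Lsl_ef (LP (LK LD1_c2 LD2_c24 LD3_c30)) = (LP (LK LD1_c2 LD2_c23 LD3_c59)) :=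
  Lgr Lrot73 (Lpr_dt (f167014 IH) (Lpe (K25.f342417 IH) (Lpr_dt (K25.f248759 IH) (Lpr_et (f378294 IH) (Lpe (f378292 IH) (Lpn (LP (LK LD1_c2 LD2_c23 LD3_c59))))))))
def v4525 : LQ := Led Lsl_ft (LP (LK LD1_c2 LD2_c23 LD3_c58))
theorem f634380 : Led Lsl_ft (LP (LK LD1_c2 LD2_c23 LD3_c58)) = v4525 :=
  Lrfl
def v4524 : LQ := Led Lsl_at (LP (LK LD1_c2 LD2_c23 LD3_c58))
theorem f634376 : Led Lsl_at (LP (LK LD1_c2 LD2_c23 LD3_c58)) = v4524 :=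
  Lrfl
theorem f634377 : Led Lsl_af (LP (LK LD1_c2 LD2_c23 LD3_c58)) = v4524 :=
  Lgr Lrot0 (Lpr_at (f634376 IH) (Lpn v4524))
theorem f634378 : Led Lsl_ft (LP (LK LD1_c2 LD2_c23 LD3_c59)) = v4524 :=
  Lgr Lrot2 (Lpr_gt (f306963 IH) (Lpr_gt (K25.f306962 IH) (Lpr_af (f634377 IH) (Lpn v4524))))
theorem f634381 : Led Lsl_af (LP (LK LD1_c2 LD2_c23 LD3_c59)) = v4525 :=
  Lgr Lrot45 (Lpr_ft (f634378 IH) (Lpe (f634377 IH) (Lpr_ft (f634380 IH) (Lpn v4525))))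
theorem f634399 : Led Lsl_ef v4525 = v4530 :=
  Lgr Lrot20 (Lpe (f634381 IH) (Lpe (f378298 IH) (Lpr_at (f634397 IH) (Lpn v4530))))
theorem f634382 : Led Lsl_ff (LP (LK LD1_c2 LD2_c23 LD3_c58)) = v4525 :=
  Lgr Lrot3 (Lpr_ft (f634380 IH) (Lpn v4525))
theorem f634402 : Led Lsl_ff (LP (LK LD1_c4 LD2_c53 LD3_c28)) = (LP (LK LD1_c4 LD2_c52 LD3_c27)) :=
  Lgr Lrot72 (Lpr_et (K13.f179971 IH) (Lpr_ft (f634401 IH) (Lpe (f634399 IH) (Lpe (f634382 IH) (Lpr_et (K25.f355123 IH) (Lpn (LP (LK LD1_c4 LD2_c52 LD3_c27))))))))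
theorem f634403 : Led Lsl_ft (LP (LK LD1_c4 LD2_c52 LD3_c27)) = (LP (LK LD1_c4 LD2_c53 LD3_c28)) :=
  Leop (Lpr_ff (f634402 IH) (Lpn (LP (LK LD1_c4 LD2_c52 LD3_c27))))
theorem seed_276 : LEOK LG_f (LK LD1_c4 LD2_c52 LD3_c27) :=
  Leoe_f (LK LD1_c4 LD2_c52 LD3_c27) (f634403 IH)
def v4605 : LQ := Led Lsl_ft (LP (LK LD1_c2 LD2_c35 LD3_c8))
theorem f636385 : Led Lsl_ft (LP (LK LD1_c2 LD2_c35 LD3_c8)) = v4605 :=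
  Lrfl
theorem f35173 : Led Lsl_gt (LP (LK LD1_c2 LD2_c35 LD3_c8)) = (LP (LK LD1_c5 LD2_c16 LD3_c51)) :=
  Lre_g IH (LK LD1_c2 LD2_c35 LD3_c8) (LK LD1_c5 LD2_c16 LD3_c51) Lrfl Lrfl
theorem f32622 : Led Lsl_ft (LP (LK LD1_c5 LD2_c18 LD3_c57)) = (LP (LK LD1_c2 LD2_c36 LD3_c3)) :=
  Lre_f IH (LK LD1_c5 LD2_c18 LD3_c57) (LK LD1_c2 LD2_c36 LD3_c3) Lrfl Lrfl
theorem f636386 : Led Lsl_af (LP (LK LD1_c5 LD2_c18 LD3_c57)) = v4605 :=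
  Lgr Lrot45 (Lpr_ft (f32622 IH) (Lpr_at (K2.f32612 IH) (Lpr_ft (f636385 IH) (Lpn v4605))))
theorem f636390 : Led Lsl_gt (LP (LK LD1_c5 LD2_c16 LD3_c51)) = (LP (LK LD1_c5 LD2_c18 LD3_c57)) :=
  Lgr Lrot46 (Lpe (f35173 IH) (Lpr_ft (f636385 IH) (Lpe (f636386 IH) (Lpn (LP (LK LD1_c5 LD2_c18 LD3_c57))))))
theorem f636391 : Led Lsl_gt (LP (LK LD1_c5 LD2_c16 LD3_c51)) = (LP (LK LD1_c5 LD2_c18 LD3_c57)) :=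
  Leop (Lpe (f636390 IH) (Lpn (LP (LK LD1_c5 LD2_c16 LD3_c51))))
theorem seed_277 : LEOK LG_g (LK LD1_c5 LD2_c16 LD3_c51) :=
  Leoe_g (LK LD1_c5 LD2_c16 LD3_c51) (f636391 IH)
def v4610 : LQ := Led Lsl_at (LP (LK LD1_c2 LD2_c38 LD3_c3))
theorem f636429 : Led Lsl_at (LP (LK LD1_c2 LD2_c38 LD3_c3)) = v4610 :=
  Lrfl
theorem f636430 : Led Lsl_af (LP (LK LD1_c2 LD2_c38 LD3_c3)) = v4610 :=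
  Lgr Lrot0 (Lpr_at (f636429 IH) (Lpn v4610))
theorem f636431 : Led Lsl_ft (LP (LK LD1_c2 LD2_c38 LD3_c4)) = v4610 :=
  Lgr Lrot2 (Lpr_gt (K25.f42524 IH) (Lpr_gt (K12.f42540 IH) (Lpr_af (f636430 IH) (Lpn v4610))))
theorem f636433 : Led Lsl_ff (LP (LK LD1_c2 LD2_c38 LD3_c4)) = v4610 :=
  Lgr Lrot3 (Lpr_ft (f636431 IH) (Lpn v4610))
theorem f352872 : Led Lsl_gf (LP (LK LD1_c8 LD2_c56 LD3_c2)) = (LP (LK LD1_c11 LD2_c4 LD3_c10)) :=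
  Lgr Lrot141 (Lpe (K19.f309495 IH) (Lpr_dt (K23.f266379 IH) (Lpr_gt (K23.f266378 IH) (Lpr_df (K23.f266354 IH) (Lpr_et (K23.f213253 IH) (Lpr_gt (K23.f213252 IH) (Lpr_dt (K27.f213250 IH) (Lpr_gt (K27.f213373 IH) (Lpe (K27.f352870 IH) (Lpr_et (K25.f352863 IH) (Lpn (LP (LK LD1_c11 LD2_c4 LD3_c10)))))))))))))
theorem f333343 : Led Lsl_gt (LP (LK LD1_c2 LD2_c11 LD3_c37)) = (LP (LK LD1_c1 LD2_c17 LD3_c7)) :=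
  Lgr Lrot131 (Lpe (K19.f309503 IH) (Lpr_dt (K19.f245810 IH) (Lpr_gf (K13.f245801 IH) (Lpr_df (K13.f179778 IH) (Lpr_gf (K22.f333341 IH) (Lpr_ef (K20.f183276 IH) (Lpr_dt (K20.f7653 IH) (Lpr_gf (K22.f264680 IH) (Lpe (K22.f264671 IH) (Lpr_et (K21.f264668 IH) (Lpn (LP (LK LD1_c1 LD2_c17 LD3_c7)))))))))))))
theorem f355322 : Led Lsl_bf (LP (LK LD1_c1 LD2_c17 LD3_c7)) = (LP (LK LD1_c2 LD2_c38 LD3_c4)) :=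
  Lgr Lrot34 (Lpe (f333343 IH) (Lpe (K19.f197565 IH) (Lpr_ct (K25.f197568 IH) (Lpr_gf (f352872 IH) (Lpe (K25.f338663 IH) (Lpr_gf (K25.f355318 IH) (Lpr_bf (K25.f214026 IH) (Lpr_ct (K22.f214028 IH) (Lpr_gf (K25.f333574 IH) (Lpe (K25.f329677 IH) (Lpn (LP (LK LD1_c2 LD2_c38 LD3_c4)))))))))))))
def v1433 : LQ := Led Lsl_at (LP (LK LD1_c1 LD2_c17 LD3_c6))
theorem f495550 : Led Lsl_at (LP (LK LD1_c1 LD2_c17 LD3_c6)) = v1433 :=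
  Lrfl
theorem f495551 : Led Lsl_af (LP (LK LD1_c1 LD2_c17 LD3_c6)) = v1433 :=
  Lgr Lrot0 (Lpr_at (f495550 IH) (Lpn v1433))
theorem f495552 : Led Lsl_ft (LP (LK LD1_c1 LD2_c17 LD3_c7)) = v1433 :=
  Lgr Lrot2 (Lpr_gt (K21.f264657 IH) (Lpr_gt (K21.f8553 IH) (Lpr_af (f495551 IH) (Lpn v1433))))
theorem f636434 : Led Lsl_bt v1433 = v4610 :=
  Lgr Lrot35 (Lpe (f495552 IH) (Lpr_bf (f355322 IH) (Lpr_ff (f636433 IH) (Lpn v4610))))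
theorem f264655 : Led Lsl_bt (LP (LK LD1_c2 LD2_c40 LD3_c52)) = (LP (LK LD1_c1 LD2_c17 LD3_c6)) :=
  Lre_b IH (LK LD1_c2 LD2_c40 LD3_c52) (LK LD1_c1 LD2_c17 LD3_c6) Lrfl Lrfl
theorem f356302 : Led Lsl_gt (LP (LK LD1_c9 LD2_c41 LD3_c9)) = (LP (LK LD1_c5 LD2_c23 LD3_c11)) :=
  Lgr Lrot94 (Lpe (K22.f214028 IH) (Lpr_gt (K24.f214036 IH) (Lpe (K24.f216313 IH) (Lpr_gt (K24.f213946 IH) (Lpe (K23.f213935 IH) (Lpe (K22.f214090 IH) (Lpe (K25.f215939 IH) (Lpr_gf (K25.f356300 IH) (Lpe (K25.f343843 IH) (Lpn (LP (LK LD1_c5 LD2_c23 LD3_c11))))))))))))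
theorem f356310 : Led Lsl_bf (LP (LK LD1_c4 LD2_c27 LD3_c55)) = (LP (LK LD1_c2 LD2_c38 LD3_c3)) :=
  Lgr Lrot156 (Lpr_gt (K22.f322513 IH) (Lpe (K12.f198974 IH) (Lpr_ct (K15.f256636 IH) (Lpr_gt (K22.f313169 IH) (Lpe (K25.f313171 IH) (Lpr_bt (K25.f313174 IH) (Lpr_gt (K25.f352231 IH) (Lpr_ct (K22.f214028 IH) (Lpr_gt (f356302 IH) (Lpe (K23.f330469 IH) (Lpn (LP (LK LD1_c2 LD2_c38 LD3_c3)))))))))))))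
theorem f636435 : Led Lsl_af (LP (LK LD1_c2 LD2_c40 LD3_c52)) = (LP (LK LD1_c4 LD2_c27 LD3_c55)) :=
  Lgr Lrot36 (Lpr_bt (f264655 IH) (Lpr_at (f495550 IH) (Lpr_bt (f636434 IH) (Lpe (f636430 IH) (Lpe (f356310 IH) (Lpn (LP (LK LD1_c4 LD2_c27 LD3_c55))))))))
theorem f636436 : Led Lsl_at (LP (LK LD1_c4 LD2_c27 LD3_c55)) = (LP (LK LD1_c2 LD2_c40 LD3_c52)) :=
  Leop (Lpr_af (f636435 IH) (Lpn (LP (LK LD1_c4 LD2_c27 LD3_c55))))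
theorem seed_278 : LEOK LG_a (LK LD1_c4 LD2_c27 LD3_c55) :=
  Leoe_a (LK LD1_c4 LD2_c27 LD3_c55) (f636436 IH)
def v4611 : LQ := Led Lsl_at (LP (LK LD1_c2 LD2_c38 LD3_c44))
theorem f636753 : Led Lsl_at (LP (LK LD1_c2 LD2_c38 LD3_c44)) = v4611 :=
  Lrfl
theorem f636754 : Led Lsl_af (LP (LK LD1_c2 LD2_c38 LD3_c44)) = v4611 :=
  Lgr Lrot0 (Lpr_at (f636753 IH) (Lpn v4611))
theorem f636755 : Led Lsl_ft (LP (LK LD1_c2 LD2_c38 LD3_c45)) = v4611 :=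
  Lgr Lrot2 (Lpr_gt (K22.f195899 IH) (Lpr_gt (K21.f195906 IH) (Lpr_af (f636754 IH) (Lpn v4611))))
theorem f636757 : Led Lsl_ff (LP (LK LD1_c2 LD2_c38 LD3_c45)) = v4611 :=
  Lgr Lrot3 (Lpr_ft (f636755 IH) (Lpn v4611))
theorem f396158 : Led Lsl_bt (LP (LK LD1_c2 LD2_c38 LD3_c45)) = (LP (LK LD1_c1 LD2_c17 LD3_c42)) :=
  Lgr Lrot127 (Lpr_bf (K22.f335284 IH) (Lpn (LP (LK LD1_c1 LD2_c17 LD3_c42))))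
def v1437 : LQ := Led Lsl_at (LP (LK LD1_c1 LD2_c17 LD3_c41))
theorem f495570 : Led Lsl_at (LP (LK LD1_c1 LD2_c17 LD3_c41)) = v1437 :=
  Lrfl
theorem f495571 : Led Lsl_af (LP (LK LD1_c1 LD2_c17 LD3_c41)) = v1437 :=
  Lgr Lrot0 (Lpr_at (f495570 IH) (Lpn v1437))
theorem f495572 : Led Lsl_ft (LP (LK LD1_c1 LD2_c17 LD3_c42)) = v1437 :=
  Lgr Lrot2 (Lpr_gt (K14.f198751 IH) (Lpr_gt (K27.f178874 IH) (Lpr_af (f495571 IH) (Lpn v1437))))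
theorem f636758 : Led Lsl_bt v1437 = v4611 :=
  Lgr Lrot35 (Lpe (f495572 IH) (Lpe (f396158 IH) (Lpr_ff (f636757 IH) (Lpn v4611))))
theorem f309593 : Led Lsl_bt (LP (LK LD1_c2 LD2_c42 LD3_c10)) = (LP (LK LD1_c1 LD2_c17 LD3_c41)) :=
  Lre_b IH (LK LD1_c2 LD2_c42 LD3_c10) (LK LD1_c1 LD2_c17 LD3_c41) Lrfl Lrfl
theorem f636759 : Led Lsl_af (LP (LK LD1_c2 LD2_c42 LD3_c10)) = (LP (LK LD1_c4 LD2_c28 LD3_c11)) :=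
  Lgr Lrot36 (Lpr_bt (f309593 IH) (Lpr_at (f495570 IH) (Lpr_bt (f636758 IH) (Lpe (f636754 IH) (Lpe (K25.f352139 IH) (Lpn (LP (LK LD1_c4 LD2_c28 LD3_c11))))))))
theorem f636760 : Led Lsl_at (LP (LK LD1_c4 LD2_c28 LD3_c11)) = (LP (LK LD1_c2 LD2_c42 LD3_c10)) :=
  Leop (Lpr_af (f636759 IH) (Lpn (LP (LK LD1_c4 LD2_c28 LD3_c11))))
theorem seed_279 : LEOK LG_a (LK LD1_c4 LD2_c28 LD3_c11) :=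
  Leoe_a (LK LD1_c4 LD2_c28 LD3_c11) (f636760 IH)
def v4615 : LQ := Led Lsl_ft (LP (LK LD1_c2 LD2_c38 LD3_c55))
theorem f637455 : Led Lsl_ft (LP (LK LD1_c2 LD2_c38 LD3_c55)) = v4615 :=
  Lrfl
theorem f637458 : Led Lsl_ff (LP (LK LD1_c2 LD2_c38 LD3_c55)) = v4615 :=
  Lgr Lrot3 (Lpr_ft (f637455 IH) (Lpn v4615))
theorem f360661 : Led Lsl_bt (LP (LK LD1_c2 LD2_c38 LD3_c55)) = (LP (LK LD1_c1 LD2_c17 LD3_c51)) :=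
  Lgr Lrot127 (Lpr_bf (K27.f360659 IH) (Lpn (LP (LK LD1_c1 LD2_c17 LD3_c51))))
def v1441 : LQ := Led Lsl_ft (LP (LK LD1_c1 LD2_c17 LD3_c51))
theorem f495584 : Led Lsl_ft (LP (LK LD1_c1 LD2_c17 LD3_c51)) = v1441 :=
  Lrfl
theorem f637460 : Led Lsl_bt v1441 = v4615 :=
  Lgr Lrot35 (Lpe (f495584 IH) (Lpe (f360661 IH) (Lpr_ff (f637458 IH) (Lpn v4615))))
theorem f495586 : Led Lsl_ff (LP (LK LD1_c1 LD2_c17 LD3_c51)) = v1441 :=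
  Lgr Lrot3 (Lpr_ft (f495584 IH) (Lpn v1441))
def v1440 : LQ := Led Lsl_at (LP (LK LD1_c1 LD2_c17 LD3_c51))
theorem f495580 : Led Lsl_at (LP (LK LD1_c1 LD2_c17 LD3_c51)) = v1440 :=
  Lrfl
theorem f495581 : Led Lsl_af (LP (LK LD1_c1 LD2_c17 LD3_c51)) = v1440 :=
  Lgr Lrot0 (Lpr_at (f495580 IH) (Lpn v1440))
theorem f495582 : Led Lsl_ft (LP (LK LD1_c1 LD2_c17 LD3_c52)) = v1440 :=
  Lgr Lrot2 (Lpr_gt (K22.f183267 IH) (Lpr_gt (K21.f183268 IH) (Lpr_af (f495581 IH) (Lpn v1440))))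
theorem f495583 : Led Lsl_ff (LP (LK LD1_c1 LD2_c17 LD3_c52)) = v1440 :=
  Lgr Lrot3 (Lpr_ft (f495582 IH) (Lpn v1440))
theorem f495587 : Led Lsl_at (LP (LK LD1_c1 LD2_c17 LD3_c52)) = v1441 :=
  Lgr Lrot66 (Lpr_ff (f495583 IH) (Lpe (f495580 IH) (Lpr_ff (f495586 IH) (Lpn v1441))))
def v4614 : LQ := Led Lsl_at (LP (LK LD1_c2 LD2_c38 LD3_c55))
theorem f637451 : Led Lsl_at (LP (LK LD1_c2 LD2_c38 LD3_c55)) = v4614 :=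
  Lrfl
theorem f637452 : Led Lsl_af (LP (LK LD1_c2 LD2_c38 LD3_c55)) = v4614 :=
  Lgr Lrot0 (Lpr_at (f637451 IH) (Lpn v4614))
theorem f637453 : Led Lsl_ft (LP (LK LD1_c2 LD2_c38 LD3_c56)) = v4614 :=
  Lgr Lrot2 (Lpr_gt (K22.f42569 IH) (Lpr_gt (K20.f42568 IH) (Lpr_af (f637452 IH) (Lpn v4614))))
theorem f637456 : Led Lsl_af (LP (LK LD1_c2 LD2_c38 LD3_c56)) = v4615 :=
  Lgr Lrot45 (Lpr_ft (f637453 IH) (Lpe (f637452 IH) (Lpr_ft (f637455 IH) (Lpn v4615))))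
theorem f637461 : Led Lsl_af (LP (LK LD1_c2 LD2_c42 LD3_c38)) = (LP (LK LD1_c4 LD2_c28 LD3_c19)) :=
  Lgr Lrot36 (Lpr_bt (K25.f264643 IH) (Lpr_at (f495587 IH) (Lpr_bt (f637460 IH) (Lpe (f637456 IH) (Lpr_bt (K26.f348541 IH) (Lpn (LP (LK LD1_c4 LD2_c28 LD3_c19))))))))
theorem f637462 : Led Lsl_at (LP (LK LD1_c4 LD2_c28 LD3_c19)) = (LP (LK LD1_c2 LD2_c42 LD3_c38)) :=
  Leop (Lpr_af (f637461 IH) (Lpn (LP (LK LD1_c4 LD2_c28 LD3_c19))))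
theorem seed_280 : LEOK LG_a (LK LD1_c4 LD2_c28 LD3_c19) :=
  Leoe_a (LK LD1_c4 LD2_c28 LD3_c19) (f637462 IH)
def v4732 : LQ := Led Lsl_dt (LP (LK LD1_c2 LD2_c45 LD3_c1))
theorem f638719 : Led Lsl_dt (LP (LK LD1_c2 LD2_c45 LD3_c1)) = v4732 :=
  Lrfl
theorem f380399 : Led Lsl_et (LP (LK LD1_c1 LD2_c18 LD3_c48)) = (LP (LK LD1_c2 LD2_c45 LD3_c1)) :=
  Lre_e IH (LK LD1_c1 LD2_c18 LD3_c48) (LK LD1_c2 LD2_c45 LD3_c1) Lrfl Lrfl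
theorem f380294 : Led Lsl_dt (LP (LK LD1_c0 LD2_c36 LD3_c18)) = (LP (LK LD1_c1 LD2_c18 LD3_c48)) :=
  Lre_d IH (LK LD1_c0 LD2_c36 LD3_c18) (LK LD1_c1 LD2_c18 LD3_c48) Lrfl Lrfl
theorem f380288 : Led Lsl_et (LP (LK LD1_c1 LD2_c18 LD3_c49)) = (LP (LK LD1_c0 LD2_c36 LD3_c18)) :=
  Lre_e IH (LK LD1_c1 LD2_c18 LD3_c49) (LK LD1_c0 LD2_c36 LD3_c18) Lrfl Lrfl
theorem f422722 : Led Lsl_dt (LP (LK LD1_c2 LD2_c45 LD3_c4)) = (LP (LK LD1_c1 LD2_c18 LD3_c49)) :=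
  Lre_d IH (LK LD1_c2 LD2_c45 LD3_c4) (LK LD1_c1 LD2_c18 LD3_c49) Lrfl Lrfl
theorem f638723 : Led Lsl_ef (LP (LK LD1_c2 LD2_c45 LD3_c4)) = v4732 :=
  Lgr Lrot73 (Lpr_dt (f422722 IH) (Lpr_et (f380288 IH) (Lpr_dt (f380294 IH) (Lpr_et (f380399 IH) (Lpr_dt (f638719 IH) (Lpn v4732))))))
def v429 : LQ := Led Lsl_et (LP (LK LD1_c0 LD2_c38 LD3_c7))
theorem f452780 : Led Lsl_et (LP (LK LD1_c0 LD2_c38 LD3_c7)) = v429 :=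
  Lrfl
theorem f452782 : Led Lsl_bf (LP (LK LD1_c2 LD2_c14 LD3_c31)) = v429 :=
  Lgr Lrot96 (Lpr_et (K7.f20367 IH) (Lpr_bt (K7.f151993 IH) (Lpr_et (f452780 IH) (Lpn v429))))
def v1285 : LQ := Led Lsl_bt (LP (LK LD1_c1 LD2_c5 LD3_c17))
theorem f494618 : Led Lsl_bt (LP (LK LD1_c1 LD2_c5 LD3_c17)) = v1285 :=
  Lrfl
def v1286 : LQ := Led Lsl_et (LP (LK LD1_c1 LD2_c5 LD3_c17))
theorem f494625 : Led Lsl_et (LP (LK LD1_c1 LD2_c5 LD3_c17)) = v1286 :=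
  Lrfl
theorem f494628 : Led Lsl_ef (LP (LK LD1_c1 LD2_c5 LD3_c17)) = v1286 :=
  Lgr Lrot88 (Lpr_et (f494625 IH) (Lpn v1286))
def v414 : LQ := Led Lsl_at (LP (LK LD1_c0 LD2_c37 LD3_c61))
theorem f452716 : Led Lsl_at (LP (LK LD1_c0 LD2_c37 LD3_c61)) = v414 :=
  Lrfl
theorem f26559 : Led Lsl_ct (LP (LK LD1_c0 LD2_c16 LD3_c61)) = (LP (LK LD1_c0 LD2_c37 LD3_c61)) :=
  Lre_c IH (LK LD1_c0 LD2_c16 LD3_c61) (LK LD1_c0 LD2_c37 LD3_c61) Lrfl Lrfl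
theorem f151996 : Led Lsl_at (LP (LK LD1_c0 LD2_c38 LD3_c7)) = (LP (LK LD1_c0 LD2_c16 LD3_c61)) :=
  Lre_a IH (LK LD1_c0 LD2_c38 LD3_c7) (LK LD1_c0 LD2_c16 LD3_c61) Lrfl Lrfl
theorem f452719 : Led Lsl_cf (LP (LK LD1_c0 LD2_c38 LD3_c7)) = v414 :=
  Lgr Lrot1 (Lpr_at (f151996 IH) (Lpr_ct (f26559 IH) (Lpr_at (f452716 IH) (Lpn v414))))
theorem f211814 : Led Lsl_ef (LP (LK LD1_c2 LD2_c12 LD3_c33)) = (LP (LK LD1_c2 LD2_c58 LD3_c11)) :=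
  Lgr Lrot114 (Lpr_gt (K12.f20727 IH) (Lpe (K12.f174925 IH) (Lpr_dt (K12.f174924 IH) (Lpr_gt (K12.f211776 IH) (Lpe (K9.f40866 IH) (Lpe (K9.f100932 IH) (Lpe (K9.f176767 IH) (Lpr_dt (K10.f176617 IH) (Lpe (K11.f176728 IH) (Lpr_df (K10.f26688 IH) (Lpn (LP (LK LD1_c2 LD2_c58 LD3_c11)))))))))))))
theorem f210671 : Led Lsl_dt (LP (LK LD1_c1 LD2_c22 LD3_c26)) = (LP (LK LD1_c0 LD2_c38 LD3_c11)) :=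
  Lre_d IH (LK LD1_c1 LD2_c22 LD3_c26) (LK LD1_c0 LD2_c38 LD3_c11) Lrfl Lrfl
theorem f211680 : Led Lsl_gt (LP (LK LD1_c2 LD2_c12 LD3_c34)) = (LP (LK LD1_c1 LD2_c22 LD3_c26)) :=
  Lgr Lrot49 (Lpe (K12.f20718 IH) (Lpe (K12.f20727 IH) (Lpr_cf (K12.f211671 IH) (Lpr_gt (K10.f179901 IH) (Lpe (K10.f179897 IH) (Lpr_gt (K11.f193799 IH) (Lpr_dt (K10.f27237 IH) (Lpe (K12.f210669 IH) (Lpe (f210671 IH) (Lpn (LP (LK LD1_c1 LD2_c22 LD3_c26))))))))))))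
theorem f24246 : Led Lsl_dt (LP (LK LD1_c0 LD2_c38 LD3_c11)) = (LP (LK LD1_c1 LD2_c22 LD3_c26)) :=
  Lre_d IH (LK LD1_c0 LD2_c38 LD3_c11) (LK LD1_c1 LD2_c22 LD3_c26) Lrfl Lrfl
def v433 : LQ := Led Lsl_et (LP (LK LD1_c0 LD2_c38 LD3_c11))
theorem f452800 : Led Lsl_et (LP (LK LD1_c0 LD2_c38 LD3_c11)) = v433 :=
  Lrfl
theorem f494630 : Led Lsl_gt v433 = v1286 :=
  Lgr Lrot131 (Lpe (f452800 IH) (Lpr_dt (f24246 IH) (Lpe (f211680 IH) (Lpe (K12.f20718 IH) (Lpe (K12.f20727 IH) (Lpr_ef (f211814 IH) (Lpe (K10.f26688 IH) (Lpr_gf (K11.f176728 IH) (Lpe (K10.f176617 IH) (Lpr_et (f494625 IH) (Lpn v1286)))))))))))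
theorem f452802 : Led Lsl_ef (LP (LK LD1_c0 LD2_c38 LD3_c11)) = v433 :=
  Lgr Lrot88 (Lpr_et (f452800 IH) (Lpn v433))
theorem f452803 : Led Lsl_ct (LP (LK LD1_c1 LD2_c5 LD3_c56)) = v433 :=
  Lgr Lrot15 (Lpr_ef (K10.f185954 IH) (Lpe (K12.f210669 IH) (Lpr_ef (f452802 IH) (Lpn v433))))
theorem f176783 : Led Lsl_bf (LP (LK LD1_c1 LD2_c5 LD3_c19)) = (LP (LK LD1_c1 LD2_c5 LD3_c19)) :=
  Lgr Lrot96 (Lpr_et (K22.f24226 IH) (Lpr_bt (K9.f176777 IH) (Lpr_et (K19.f24233 IH) (Lpn (LP (LK LD1_c1 LD2_c5 LD3_c19))))))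
theorem f494632 : Led Lsl_ct (LP (LK LD1_c1 LD2_c5 LD3_c19)) = v1286 :=
  Lgr Lrot10 (Lpe (f176783 IH) (Lpe (K19.f177142 IH) (Lpr_ct (K11.f176879 IH) (Lpr_gt (K11.f198630 IH) (Lpe (K11.f59021 IH) (Lpr_bt (K13.f186455 IH) (Lpr_gt (K13.f198064 IH) (Lpe (K10.f198057 IH) (Lpr_ct (f452803 IH) (Lpr_gt (f494630 IH) (Lpn v1286)))))))))))
def v122 : LQ := Led Lsl_et (LP (LK LD1_c0 LD2_c17 LD3_c21))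
theorem f448993 : Led Lsl_et (LP (LK LD1_c0 LD2_c17 LD3_c21)) = v122 :=
  Lrfl
theorem f448994 : Led Lsl_af (LP (LK LD1_c1 LD2_c5 LD3_c19)) = v122 :=
  Lgr Lrot50 (Lpr_et (K22.f24226 IH) (Lpr_at (K19.f313719 IH) (Lpr_et (f448993 IH) (Lpn v122))))
def v949 : LQ := Led Lsl_et v120
theorem f490689 : Led Lsl_et v120 = v949 :=
  Lrfl
theorem f448996 : Led Lsl_ef (LP (LK LD1_c0 LD2_c17 LD3_c21)) = v122 :=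
  Lgr Lrot88 (Lpr_et (f448993 IH) (Lpn v122))
theorem f490690 : Led Lsl_bf v122 = v949 :=
  Lgr Lrot96 (Lpe (f448996 IH) (Lpr_bt (f448978 IH) (Lpr_et (f490689 IH) (Lpn v949))))
theorem f34682 : Led Lsl_bt (LP (LK LD1_c0 LD2_c16 LD3_c59)) = (LP (LK LD1_c0 LD2_c37 LD3_c61)) :=
  Lre_b IH (LK LD1_c0 LD2_c16 LD3_c59) (LK LD1_c0 LD2_c37 LD3_c61) Lrfl Lrfl
theorem f490692 : Led Lsl_ff v380 = v949 :=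
  Lgr Lrot72 (Lpe (f452533 IH) (Lpe (f452264 IH) (Lpr_et (K10.f177733 IH) (Lpr_ft (f448981 IH) (Lpr_et (f490689 IH) (Lpn v949))))))
theorem f490695 : Led Lsl_ft v380 = v949 :=
  Lgr Lrot48 (Lpr_ff (f490692 IH) (Lpn v949))
theorem f452268 : Led Lsl_af v340 = v340 :=
  Lgr Lrot45 (Lpe (f452264 IH) (Lpr_at (f313589 IH) (Lpr_ft (f452267 IH) (Lpn v340))))
theorem f452536 : Led Lsl_af v380 = v380 :=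
  Lgr Lrot50 (Lpe (f452533 IH) (Lpe (f452268 IH) (Lpr_et (f452535 IH) (Lpn v380))))
theorem f490696 : Led Lsl_af v949 = v949 :=
  Lgr Lrot45 (Lpe (f490692 IH) (Lpe (f452536 IH) (Lpr_ft (f490695 IH) (Lpn v949))))
theorem f490698 : Led Lsl_gt v422 = v949 :=
  Lgr Lrot46 (Lpe (f452759 IH) (Lpr_ft (f490695 IH) (Lpe (f490696 IH) (Lpn v949))))
theorem f452612 : Led Lsl_df (LP (LK LD1_c0 LD2_c37 LD3_c41)) = v394 :=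
  Lgr Lrot38 (Lpr_dt (f452611 IH) (Lpn v394))
theorem f536638 : (LP (LK LD1_c0 LD2_c37 LD3_c41)) = v422 :=
  Lefun (Lecon (Lfl_df (f452612 IH)) (f536621 IH)) (f452761 IH)
theorem f536687 : v949 = (LP (LK LD1_c0 LD2_c16 LD3_c59)) :=
  Lefun (Lecon (f490698 IH) (f536638 IH).symm) (K1.f37312 IH)
theorem f536782 : v122 = (LP (LK LD1_c0 LD2_c37 LD3_c61)) :=
  Lefun (Lecon (Lfl_bf (f490690 IH)) (f536687 IH)) (f34682 IH)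
theorem f536950 : (LP (LK LD1_c1 LD2_c5 LD3_c19)) = v414 :=
  Lefun (Lecon (Lfl_af (f448994 IH)) (f536782 IH)) (f452716 IH)
theorem f537136 : (LP (LK LD1_c0 LD2_c38 LD3_c7)) = v1286 :=
  Lefun (Lecon (Lfl_cf (f452719 IH)) (f536950 IH).symm) (f494632 IH)
theorem f537327 : (LP (LK LD1_c1 LD2_c5 LD3_c17)) = v429 :=
  Lefun (Lecon (Lfl_ef (f494628 IH)) (f537136 IH).symm) (f452780 IH)
theorem f537701 : (LP (LK LD1_c2 LD2_c14 LD3_c31)) = v1285 :=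
  Lefun (Lecon (Lfl_bf (f452782 IH)) (f537327 IH).symm) (f494618 IH)
theorem f176597 : Led Lsl_et (LP (LK LD1_c1 LD2_c25 LD3_c39)) = (LP (LK LD1_c2 LD2_c59 LD3_c52)) :=
  Lre_e IH (LK LD1_c1 LD2_c25 LD3_c39) (LK LD1_c2 LD2_c59 LD3_c52) Lrfl Lrfl
theorem f55816 : Led Lsl_et (LP (LK LD1_c4 LD2_c7 LD3_c22)) = (LP (LK LD1_c2 LD2_c1 LD3_c1)) :=
  Lre_e IH (LK LD1_c4 LD2_c7 LD3_c22) (LK LD1_c2 LD2_c1 LD3_c1) Lrfl Lrfl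
theorem f334639 : Led Lsl_at (LP (LK LD1_c2 LD2_c59 LD3_c52)) = (LP (LK LD1_c4 LD2_c7 LD3_c22)) :=
  Lgr Lrot80 (Lpe (f176597 IH) (Lpr_af (K22.f334631 IH) (Lpe (f55816 IH) (Lpn (LP (LK LD1_c4 LD2_c7 LD3_c22))))))
theorem f176576 : Led Lsl_ef (LP (LK LD1_c1 LD2_c5 LD3_c15)) = (LP (LK LD1_c0 LD2_c39 LD3_c33)) :=
  Lgr Lrot17 (Lpr_gf (K10.f176553 IH) (Lpe (K10.f20433 IH) (Lpr_dt (K0.f20273 IH) (Lpr_gf (K1.f56582 IH) (Lpe (K1.f20556 IH) (Lpe (K1.f20865 IH) (Lpe (K2.f73192 IH) (Lpr_dt (K9.f55410 IH) (Lpr_gf (K14.f169097 IH) (Lpe (K9.f169096 IH) (Lpn (LP (LK LD1_c0 LD2_c39 LD3_c33)))))))))))))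
theorem f176574 : Led Lsl_et (LP (LK LD1_c2 LD2_c16 LD3_c43)) = (LP (LK LD1_c4 LD2_c39 LD3_c31)) :=
  Lre_e IH (LK LD1_c2 LD2_c16 LD3_c43) (LK LD1_c4 LD2_c39 LD3_c31) Lrfl Lrfl
theorem f169100 : Led Lsl_et (LP (LK LD1_c2 LD2_c59 LD3_c52)) = (LP (LK LD1_c1 LD2_c25 LD3_c39)) :=
  Lre_e IH (LK LD1_c2 LD2_c59 LD3_c52) (LK LD1_c1 LD2_c25 LD3_c39) Lrfl Lrfl
theorem f176578 : Led Lsl_dt (LP (LK LD1_c4 LD2_c39 LD3_c31)) = (LP (LK LD1_c2 LD2_c59 LD3_c52)) :=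
  Lgr Lrot77 (Lpe (f176574 IH) (Lpe (K10.f26702 IH) (Lpr_ef (f176576 IH) (Lpe (K9.f169089 IH) (Lpe (f169100 IH) (Lpn (LP (LK LD1_c2 LD2_c59 LD3_c52))))))))
theorem f22432 : Led Lsl_dt (LP (LK LD1_c0 LD2_c39 LD3_c1)) = (LP (LK LD1_c1 LD2_c24 LD3_c44)) :=
  Lre_d IH (LK LD1_c0 LD2_c39 LD3_c1) (LK LD1_c1 LD2_c24 LD3_c44) Lrfl Lrfl
theorem f22433 : Led Lsl_et (LP (LK LD1_c1 LD2_c24 LD3_c44)) = (LP (LK LD1_c2 LD2_c58 LD3_c8)) :=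
  Lre_e IH (LK LD1_c1 LD2_c24 LD3_c44) (LK LD1_c2 LD2_c58 LD3_c8) Lrfl Lrfl
theorem f172066 : Led Lsl_dt (LP (LK LD1_c2 LD2_c58 LD3_c8)) = (LP (LK LD1_c4 LD2_c7 LD3_c22)) :=
  Lgr Lrot77 (Lpe (f22433 IH) (Lpe (f22432 IH) (Lpe (K9.f22421 IH) (Lpr_df (K9.f172060 IH) (Lpe (f55816 IH) (Lpn (LP (LK LD1_c4 LD2_c7 LD3_c22))))))))
theorem f172076 : Led Lsl_df (LP (LK LD1_c2 LD2_c58 LD3_c8)) = (LP (LK LD1_c4 LD2_c7 LD3_c22)) :=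
  Lgr Lrot38 (Lpr_dt (f172066 IH) (Lpn (LP (LK LD1_c4 LD2_c7 LD3_c22))))
theorem f334643 : Led Lsl_af (LP (LK LD1_c4 LD2_c39 LD3_c31)) = (LP (LK LD1_c2 LD2_c58 LD3_c8)) :=
  Lgr Lrot117 (Lpr_dt (f176578 IH) (Lpr_at (f334639 IH) (Lpe (f172076 IH) (Lpn (LP (LK LD1_c2 LD2_c58 LD3_c8))))))
theorem f176589 : Led Lsl_et (LP (LK LD1_c4 LD2_c39 LD3_c31)) = (LP (LK LD1_c2 LD2_c16 LD3_c43)) :=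
  Lre_e IH (LK LD1_c4 LD2_c39 LD3_c31) (LK LD1_c2 LD2_c16 LD3_c43) Lrfl Lrfl
theorem f334649 : Led Lsl_at (LP (LK LD1_c2 LD2_c16 LD3_c43)) = (LP (LK LD1_c1 LD2_c24 LD3_c44)) :=
  Lgr Lrot80 (Lpe (f176589 IH) (Lpr_af (f334643 IH) (Lpe (f22433 IH) (Lpn (LP (LK LD1_c1 LD2_c24 LD3_c44))))))
theorem f172126 : Led Lsl_ct (LP (LK LD1_c1 LD2_c24 LD3_c44)) = (LP (LK LD1_c2 LD2_c58 LD3_c7)) :=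
  Lre_c IH (LK LD1_c1 LD2_c24 LD3_c44) (LK LD1_c2 LD2_c58 LD3_c7) Lrfl Lrfl
theorem f334661 : Led Lsl_af (LP (LK LD1_c4 LD2_c39 LD3_c30)) = (LP (LK LD1_c2 LD2_c58 LD3_c7)) :=
  Lgr Lrot68 (Lpr_ct (K10.f176562 IH) (Lpr_at (f334649 IH) (Lpr_ct (f172126 IH) (Lpn (LP (LK LD1_c2 LD2_c58 LD3_c7))))))
theorem f334669 : Led Lsl_ft (LP (LK LD1_c4 LD2_c39 LD3_c32)) = (LP (LK LD1_c2 LD2_c58 LD3_c7)) :=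
  Lgr Lrot2 (Lpr_gt (K10.f185985 IH) (Lpe (K10.f176701 IH) (Lpr_af (f334661 IH) (Lpn (LP (LK LD1_c2 LD2_c58 LD3_c7))))))
theorem f334677 : Led Lsl_ff (LP (LK LD1_c4 LD2_c39 LD3_c32)) = (LP (LK LD1_c2 LD2_c58 LD3_c7)) :=
  Lgr Lrot3 (Lpr_ft (f334669 IH) (Lpn (LP (LK LD1_c2 LD2_c58 LD3_c7))))
theorem f334681 : Led Lsl_ft (LP (LK LD1_c2 LD2_c16 LD3_c45)) = (LP (LK LD1_c1 LD2_c24 LD3_c44)) :=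
  Lgr Lrot4 (Lpe (K11.f176615 IH) (Lpr_ff (f334677 IH) (Lpe (f172126 IH) (Lpn (LP (LK LD1_c1 LD2_c24 LD3_c44))))))
theorem f22442 : Led Lsl_dt (LP (LK LD1_c1 LD2_c24 LD3_c44)) = (LP (LK LD1_c0 LD2_c39 LD3_c1)) :=
  Lre_d IH (LK LD1_c1 LD2_c24 LD3_c44) (LK LD1_c0 LD2_c39 LD3_c1) Lrfl Lrfl
theorem f334913 : Led Lsl_ff (LP (LK LD1_c1 LD2_c5 LD3_c17)) = (LP (LK LD1_c0 LD2_c39 LD3_c1)) :=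
  Lgr Lrot19 (Lpr_dt (K10.f176617 IH) (Lpr_ft (f334681 IH) (Lpr_dt (f22442 IH) (Lpn (LP (LK LD1_c0 LD2_c39 LD3_c1))))))
theorem f22440 : Led Lsl_bt (LP (LK LD1_c1 LD2_c24 LD3_c43)) = (LP (LK LD1_c0 LD2_c39 LD3_c1)) :=
  Lre_b IH (LK LD1_c1 LD2_c24 LD3_c43) (LK LD1_c0 LD2_c39 LD3_c1) Lrfl Lrfl
theorem f494621 : Led Lsl_ff (LP (LK LD1_c1 LD2_c24 LD3_c43)) = v1285 :=
  Lgr Lrot25 (Lpr_bt (f22440 IH) (Lpe (f334913 IH) (Lpr_bt (f494618 IH) (Lpn v1285))))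
theorem f22429 : Led Lsl_bt (LP (LK LD1_c0 LD2_c39 LD3_c1)) = (LP (LK LD1_c1 LD2_c24 LD3_c43)) :=
  Lre_b IH (LK LD1_c0 LD2_c39 LD3_c1) (LK LD1_c1 LD2_c24 LD3_c43) Lrfl Lrfl
theorem f175880 : Led Lsl_cf (LP (LK LD1_c1 LD2_c24 LD3_c43)) = (LP (LK LD1_c1 LD2_c24 LD3_c43)) :=
  Lgr Lrot97 (Lpr_bt (f22440 IH) (Lpr_ct (K9.f9422 IH) (Lpr_bt (K9.f175825 IH) (Lpr_ct (K9.f9391 IH) (Lpr_bt (f22429 IH) (Lpn (LP (LK LD1_c1 LD2_c24 LD3_c43))))))))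
theorem f494619 : Led Lsl_bf (LP (LK LD1_c1 LD2_c5 LD3_c17)) = v1285 :=
  Lgr Lrot24 (Lpr_bt (f494618 IH) (Lpn v1285))
theorem f494620 : Led Lsl_cf v1285 = v1285 :=
  Lgr Lrot97 (Lpe (f494619 IH) (Lpr_ct (K9.f24451 IH) (Lpr_bt (K9.f176777 IH) (Lpr_ct (K9.f24449 IH) (Lpr_bt (f494618 IH) (Lpn v1285))))))
theorem f494624 : Led Lsl_ft (LP (LK LD1_c1 LD2_c24 LD3_c43)) = v1285 :=
  Lgr Lrot4 (Lpr_cf (f175880 IH) (Lpr_ff (f494621 IH) (Lpr_cf (f494620 IH) (Lpn v1285))))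
def v1738 : LQ := Led Lsl_gt (LP (LK LD1_c1 LD2_c24 LD3_c43))
theorem f501208 : Led Lsl_gt (LP (LK LD1_c1 LD2_c24 LD3_c43)) = v1738 :=
  Lrfl
theorem f20365 : Led Lsl_at (LP (LK LD1_c2 LD2_c14 LD3_c31)) = (LP (LK LD1_c1 LD2_c4 LD3_c24)) :=
  Lre_a IH (LK LD1_c2 LD2_c14 LD3_c31) (LK LD1_c1 LD2_c4 LD3_c24) Lrfl Lrfl
theorem f20392 : Led Lsl_gt (LP (LK LD1_c2 LD2_c14 LD3_c34)) = (LP (LK LD1_c1 LD2_c4 LD3_c24)) :=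
  Lre_g IH (LK LD1_c2 LD2_c14 LD3_c34) (LK LD1_c1 LD2_c4 LD3_c24) Lrfl Lrfl
theorem f541444 : v1738 = (LP (LK LD1_c2 LD2_c14 LD3_c34)) :=
  (Llr Lrot5 (Lpe (f501208 IH) (Lpr_ft (f494624 IH) (Lpq (f537701 IH) (Lpr_at (f20365 IH) (Lpe (f20392 IH) (Lpn (LP (LK LD1_c2 LD2_c14 LD3_c34))))))))).symm
theorem f169107 : Led Lsl_bt (LP (LK LD1_c0 LD2_c39 LD3_c34)) = (LP (LK LD1_c1 LD2_c25 LD3_c40)) :=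
  Lre_b IH (LK LD1_c0 LD2_c39 LD3_c34) (LK LD1_c1 LD2_c25 LD3_c40) Lrfl Lrfl
theorem f56230 : Led Lsl_bt (LP (LK LD1_c1 LD2_c5 LD3_c25)) = (LP (LK LD1_c2 LD2_c16 LD3_c57)) :=
  Lre_b IH (LK LD1_c1 LD2_c5 LD3_c25) (LK LD1_c2 LD2_c16 LD3_c57) Lrfl Lrfl
def v1750 : LQ := Led Lsl_gf (LP (LK LD1_c1 LD2_c25 LD3_c40))
theorem f501270 : Led Lsl_gf (LP (LK LD1_c1 LD2_c25 LD3_c40)) = v1750 :=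
  Lrfl
def v1523 : LQ := Led Lsl_gf (LP (LK LD1_c1 LD2_c21 LD3_c5))
theorem f496044 : Led Lsl_gf (LP (LK LD1_c1 LD2_c21 LD3_c5)) = v1523 :=
  Lrfl
def v1751 : LQ := Led Lsl_at (LP (LK LD1_c1 LD2_c25 LD3_c40))
theorem f501271 : Led Lsl_at (LP (LK LD1_c1 LD2_c25 LD3_c40)) = v1751 :=
  Lrfl
theorem f56580 : Led Lsl_ef (LP (LK LD1_c0 LD2_c25 LD3_c56)) = (LP (LK LD1_c0 LD2_c16 LD3_c40)) :=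
  Lgr Lrot28 (Lpr_ct (K1.f55380 IH) (Lpe (K1.f27282 IH) (Lpr_ct (K1.f56569 IH) (Lpn (LP (LK LD1_c0 LD2_c16 LD3_c40))))))
theorem f169104 : Led Lsl_et (LP (LK LD1_c0 LD2_c28 LD3_c58)) = (LP (LK LD1_c0 LD2_c39 LD3_c34)) :=
  Lgr Lrot122 (Lpr_dt (K9.f168836 IH) (Lpe (K9.f168848 IH) (Lpe (K1.f40991 IH) (Lpr_et (K9.f56662 IH) (Lpr_gt (K1.f37314 IH) (Lpr_dt (K1.f20540 IH) (Lpr_gt (K1.f56585 IH) (Lpe (K1.f56579 IH) (Lpe (f56580 IH) (Lpr_gt (K9.f169087 IH) (Lpn (LP (LK LD1_c0 LD2_c39 LD3_c34)))))))))))))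
theorem f169106 : Led Lsl_bt (LP (LK LD1_c1 LD2_c3 LD3_c25)) = (LP (LK LD1_c0 LD2_c28 LD3_c58)) :=
  Lre_b IH (LK LD1_c1 LD2_c3 LD3_c25) (LK LD1_c0 LD2_c28 LD3_c58) Lrfl Lrfl
theorem f169108 : Led Lsl_ef (LP (LK LD1_c1 LD2_c3 LD3_c25)) = (LP (LK LD1_c1 LD2_c25 LD3_c40)) :=
  Lgr Lrot29 (Lpr_bt (f169106 IH) (Lpr_et (f169104 IH) (Lpr_bt (f169107 IH) (Lpn (LP (LK LD1_c1 LD2_c25 LD3_c40))))))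
theorem f169113 : Led Lsl_et (LP (LK LD1_c1 LD2_c3 LD3_c25)) = (LP (LK LD1_c1 LD2_c25 LD3_c40)) :=
  Lgr Lrot87 (Lpr_ef (f169108 IH) (Lpn (LP (LK LD1_c1 LD2_c25 LD3_c40))))
theorem f177825 : Led Lsl_bt (LP (LK LD1_c1 LD2_c18 LD3_c59)) = (LP (LK LD1_c0 LD2_c36 LD3_c24)) :=
  Lre_b IH (LK LD1_c1 LD2_c18 LD3_c59) (LK LD1_c0 LD2_c36 LD3_c24) Lrfl Lrfl
theorem f334471 : Led Lsl_ff (LP (LK LD1_c1 LD2_c18 LD3_c59)) = (LP (LK LD1_c1 LD2_c25 LD3_c40)) :=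
  Lgr Lrot25 (Lpr_bt (f177825 IH) (Lpr_ft (K22.f334469 IH) (Lpr_bt (f169107 IH) (Lpn (LP (LK LD1_c1 LD2_c25 LD3_c40))))))
theorem f380289 : Led Lsl_ft (LP (LK LD1_c2 LD2_c45 LD3_c5)) = (LP (LK LD1_c1 LD2_c18 LD3_c49)) :=
  Lre_f IH (LK LD1_c2 LD2_c45 LD3_c5) (LK LD1_c1 LD2_c18 LD3_c49) Lrfl Lrfl
theorem f380290 : Led Lsl_et (LP (LK LD1_c1 LD2_c18 LD3_c59)) = (LP (LK LD1_c2 LD2_c45 LD3_c5)) :=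
  Lgr Lrot69 (Lpr_ff (f334471 IH) (Lpe (f169113 IH) (Lpr_ff (K31.f380268 IH) (Lpe (f380288 IH) (Lpe (f380289 IH) (Lpn (LP (LK LD1_c2 LD2_c45 LD3_c5))))))))
theorem f380307 : Led Lsl_ef (LP (LK LD1_c1 LD2_c18 LD3_c59)) = (LP (LK LD1_c2 LD2_c45 LD3_c5)) :=
  Lgr Lrot88 (Lpr_et (f380290 IH) (Lpn (LP (LK LD1_c2 LD2_c45 LD3_c5))))
theorem f380321 : Led Lsl_ft (LP (LK LD1_c1 LD2_c18 LD3_c49)) = (LP (LK LD1_c2 LD2_c45 LD3_c5)) :=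
  Lre_f IH (LK LD1_c1 LD2_c18 LD3_c49) (LK LD1_c2 LD2_c45 LD3_c5) Lrfl Lrfl
theorem f380322 : Led Lsl_et (LP (LK LD1_c0 LD2_c36 LD3_c18)) = (LP (LK LD1_c1 LD2_c18 LD3_c49)) :=
  Lre_e IH (LK LD1_c0 LD2_c36 LD3_c18) (LK LD1_c1 LD2_c18 LD3_c49) Lrfl Lrfl
theorem f380323 : Led Lsl_ft (LP (LK LD1_c1 LD2_c18 LD3_c59)) = (LP (LK LD1_c1 LD2_c25 LD3_c40)) :=
  Lgr Lrot86 (Lpr_ef (f380307 IH) (Lpe (f380321 IH) (Lpe (f380322 IH) (Lpe (K31.f319384 IH) (Lpr_ef (f169108 IH) (Lpn (LP (LK LD1_c1 LD2_c25 LD3_c40))))))))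
def v1456 : LQ := Led Lsl_at (LP (LK LD1_c1 LD2_c18 LD3_c59))
theorem f495660 : Led Lsl_at (LP (LK LD1_c1 LD2_c18 LD3_c59)) = v1456 :=
  Lrfl
theorem f495661 : Led Lsl_af (LP (LK LD1_c1 LD2_c18 LD3_c59)) = v1456 :=
  Lgr Lrot0 (Lpr_at (f495660 IH) (Lpn v1456))
theorem f501276 : Led Lsl_ff v1456 = v1751 :=
  Lgr Lrot30 (Lpe (f495661 IH) (Lpr_ft (f380323 IH) (Lpr_at (f501271 IH) (Lpn v1751))))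
theorem f8407 : Led Lsl_bt (LP (LK LD1_c0 LD2_c36 LD3_c24)) = (LP (LK LD1_c1 LD2_c18 LD3_c59)) :=
  Lre_b IH (LK LD1_c0 LD2_c36 LD3_c24) (LK LD1_c1 LD2_c18 LD3_c59) Lrfl Lrfl
theorem f177830 : Led Lsl_ct (LP (LK LD1_c1 LD2_c18 LD3_c59)) = (LP (LK LD1_c1 LD2_c18 LD3_c59)) :=
  Lgr Lrot83 (Lpe (f8407 IH) (Lpe (K9.f8382 IH) (Lpr_bf (K9.f177826 IH) (Lpe (K10.f8386 IH) (Lpe (f177825 IH) (Lpn (LP (LK LD1_c1 LD2_c18 LD3_c59))))))))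
theorem f495662 : Led Lsl_cf v1456 = v1456 :=
  Lgr Lrot1 (Lpe (f495661 IH) (Lpr_ct (f177830 IH) (Lpr_at (f495660 IH) (Lpn v1456))))
theorem f169095 : Led Lsl_bt (LP (LK LD1_c1 LD2_c25 LD3_c40)) = (LP (LK LD1_c0 LD2_c39 LD3_c34)) :=
  Lre_b IH (LK LD1_c1 LD2_c25 LD3_c40) (LK LD1_c0 LD2_c39 LD3_c34) Lrfl Lrfl
theorem f177811 : Led Lsl_ct (LP (LK LD1_c1 LD2_c25 LD3_c40)) = (LP (LK LD1_c1 LD2_c25 LD3_c40)) :=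
  Lgr Lrot83 (Lpe (f169107 IH) (Lpe (K9.f20589 IH) (Lpr_bf (K9.f177809 IH) (Lpe (K10.f169093 IH) (Lpe (f169095 IH) (Lpn (LP (LK LD1_c1 LD2_c25 LD3_c40))))))))
theorem f501272 : Led Lsl_af (LP (LK LD1_c1 LD2_c25 LD3_c40)) = v1751 :=
  Lgr Lrot0 (Lpr_at (f501271 IH) (Lpn v1751))
theorem f501274 : Led Lsl_cf v1751 = v1751 :=
  Lgr Lrot1 (Lpe (f501272 IH) (Lpr_ct (f177811 IH) (Lpr_at (f501271 IH) (Lpn v1751))))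
theorem f501278 : Led Lsl_ft v1456 = v1751 :=
  Lgr Lrot4 (Lpr_cf (f495662 IH) (Lpr_ff (f501276 IH) (Lpr_cf (f501274 IH) (Lpn v1751))))
theorem f501280 : Led Lsl_gt v1456 = v1750 :=
  Lgr Lrot5 (Lpr_ft (f501278 IH) (Lpe (f501272 IH) (Lpr_gf (f501270 IH) (Lpn v1750))))
theorem f380270 : Led Lsl_ct (LP (LK LD1_c4 LD2_c31 LD3_c42)) = (LP (LK LD1_c2 LD2_c12 LD3_c50)) :=
  Lre_c IH (LK LD1_c4 LD2_c31 LD3_c42) (LK LD1_c2 LD2_c12 LD3_c50) Lrfl Lrfl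
theorem f172615 : Led Lsl_gt (LP (LK LD1_c1 LD2_c10 LD3_c18)) = (LP (LK LD1_c2 LD2_c26 LD3_c8)) :=
  Lre_g IH (LK LD1_c1 LD2_c10 LD3_c18) (LK LD1_c2 LD2_c26 LD3_c8) Lrfl Lrfl
theorem f169117 : Led Lsl_gt (LP (LK LD1_c2 LD2_c12 LD3_c50)) = (LP (LK LD1_c1 LD2_c3 LD3_c25)) :=
  Lre_g IH (LK LD1_c2 LD2_c12 LD3_c50) (LK LD1_c1 LD2_c3 LD3_c25) Lrfl Lrfl
theorem f380271 : Led Lsl_bf (LP (LK LD1_c2 LD2_c26 LD3_c8)) = (LP (LK LD1_c4 LD2_c31 LD3_c42)) :=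
  Lgr Lrot34 (Lpe (f172615 IH) (Lpe (K30.f172541 IH) (Lpr_ct (K9.f172545 IH) (Lpe (K12.f172556 IH) (Lpe (K12.f211805 IH) (Lpr_gf (K12.f211982 IH) (Lpe (f169106 IH) (Lpr_ct (K31.f380261 IH) (Lpe (f169117 IH) (Lpe (f380270 IH) (Lpn (LP (LK LD1_c4 LD2_c31 LD3_c42)))))))))))))
theorem f385270 : Led Lsl_gf (LP (LK LD1_c3 LD2_c58 LD3_c55)) = (LP (LK LD1_c2 LD2_c26 LD3_c8)) :=
  Lgr Lrot76 (Lpe (K18.f175981 IH) (Lpr_ff (K30.f385258 IH) (Lpr_gt (f172615 IH) (Lpn (LP (LK LD1_c2 LD2_c26 LD3_c8))))))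
theorem f380415 : Led Lsl_ft (LP (LK LD1_c4 LD2_c31 LD3_c43)) = (LP (LK LD1_c2 LD2_c44 LD3_c58)) :=
  Lgr Lrot48 (Lpr_ff (K31.f380397 IH) (Lpn (LP (LK LD1_c2 LD2_c44 LD3_c58))))
theorem f354446 : Led Lsl_dt (LP (LK LD1_c2 LD2_c12 LD3_c51)) = (LP (LK LD1_c4 LD2_c31 LD3_c43)) :=
  Lre_d IH (LK LD1_c2 LD2_c12 LD3_c51) (LK LD1_c4 LD2_c31 LD3_c43) Lrfl Lrfl
theorem f380405 : Led Lsl_dt (LP (LK LD1_c2 LD2_c44 LD3_c58)) = (LP (LK LD1_c1 LD2_c18 LD3_c47)) :=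
  Lre_d IH (LK LD1_c2 LD2_c44 LD3_c58) (LK LD1_c1 LD2_c18 LD3_c47) Lrfl Lrfl
theorem f380419 : Led Lsl_ff (LP (LK LD1_c2 LD2_c12 LD3_c51)) = (LP (LK LD1_c1 LD2_c18 LD3_c47)) :=
  Lgr Lrot19 (Lpr_dt (f354446 IH) (Lpr_ft (f380415 IH) (Lpr_dt (f380405 IH) (Lpn (LP (LK LD1_c1 LD2_c18 LD3_c47))))))
theorem f169118 : Led Lsl_at (LP (LK LD1_c2 LD2_c12 LD3_c51)) = (LP (LK LD1_c1 LD2_c3 LD3_c25)) :=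
  Lre_a IH (LK LD1_c2 LD2_c12 LD3_c51) (LK LD1_c1 LD2_c3 LD3_c25) Lrfl Lrfl
theorem f380436 : Led Lsl_gf (LP (LK LD1_c2 LD2_c12 LD3_c50)) = (LP (LK LD1_c1 LD2_c18 LD3_c47)) :=
  Lgr Lrot47 (Lpr_gt (f169117 IH) (Lpe (f169118 IH) (Lpr_ff (f380419 IH) (Lpn (LP (LK LD1_c1 LD2_c18 LD3_c47))))))
theorem f169110 : Led Lsl_at (LP (LK LD1_c1 LD2_c3 LD3_c25)) = (LP (LK LD1_c2 LD2_c12 LD3_c51)) :=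
  Lre_a IH (LK LD1_c1 LD2_c3 LD3_c25) (LK LD1_c2 LD2_c12 LD3_c51) Lrfl Lrfl
theorem f380266 : Led Lsl_cf (LP (LK LD1_c2 LD2_c12 LD3_c51)) = (LP (LK LD1_c2 LD2_c12 LD3_c51)) :=
  Lgr Lrot1 (Lpr_at (f169118 IH) (Lpr_ct (K31.f380261 IH) (Lpr_at (f169110 IH) (Lpn (LP (LK LD1_c2 LD2_c12 LD3_c51))))))
theorem f380283 : Led Lsl_at (LP (LK LD1_c1 LD2_c18 LD3_c47)) = (LP (LK LD1_c0 LD2_c36 LD3_c18)) :=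
  Lre_a IH (LK LD1_c1 LD2_c18 LD3_c47) (LK LD1_c0 LD2_c36 LD3_c18) Lrfl Lrfl
theorem f380284 : Led Lsl_ft (LP (LK LD1_c2 LD2_c12 LD3_c51)) = (LP (LK LD1_c1 LD2_c18 LD3_c47)) :=
  Lgr Lrot101 (Lpe (f169110 IH) (Lpr_ff (K31.f380268 IH) (Lpe (f380283 IH) (Lpn (LP (LK LD1_c1 LD2_c18 LD3_c47))))))
theorem f380433 : Led Lsl_ct (LP (LK LD1_c1 LD2_c18 LD3_c47)) = (LP (LK LD1_c1 LD2_c18 LD3_c47)) :=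
  Lgr Lrot40 (Lpe (f380284 IH) (Lpr_cf (f380266 IH) (Lpr_ff (f380419 IH) (Lpn (LP (LK LD1_c1 LD2_c18 LD3_c47))))))
def v1218 : LQ := Led Lsl_at (LP (LK LD1_c1 LD2_c3 LD3_c15))
theorem f494066 : Led Lsl_at (LP (LK LD1_c1 LD2_c3 LD3_c15)) = v1218 :=
  Lrfl
theorem f354426 : Led Lsl_at (LP (LK LD1_c1 LD2_c19 LD3_c21)) = (LP (LK LD1_c0 LD2_c36 LD3_c38)) :=
  Lre_a IH (LK LD1_c1 LD2_c19 LD3_c21) (LK LD1_c0 LD2_c36 LD3_c38) Lrfl Lrfl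
theorem f494069 : Led Lsl_ff (LP (LK LD1_c1 LD2_c19 LD3_c21)) = v1218 :=
  Lgr Lrot30 (Lpr_at (f354426 IH) (Lpr_ft (K30.f354416 IH) (Lpr_at (f494066 IH) (Lpn v1218))))
theorem f165214 : Led Lsl_bt (LP (LK LD1_c0 LD2_c16 LD3_c20)) = (LP (LK LD1_c0 LD2_c36 LD3_c38)) :=
  Lre_b IH (LK LD1_c0 LD2_c16 LD3_c20) (LK LD1_c0 LD2_c36 LD3_c38) Lrfl Lrfl
theorem f319395 : Led Lsl_at (LP (LK LD1_c0 LD2_c36 LD3_c38)) = (LP (LK LD1_c1 LD2_c19 LD3_c21)) :=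
  Lre_a IH (LK LD1_c0 LD2_c36 LD3_c38) (LK LD1_c1 LD2_c19 LD3_c21) Lrfl Lrfl
theorem f319396 : Led Lsl_bf (LP (LK LD1_c2 LD2_c12 LD3_c51)) = (LP (LK LD1_c1 LD2_c19 LD3_c21)) :=
  Lgr Lrot81 (Lpr_at (f169118 IH) (Lpr_bt (f169106 IH) (Lpr_at (K20.f319391 IH) (Lpr_bt (f165214 IH) (Lpr_at (f319395 IH) (Lpn (LP (LK LD1_c1 LD2_c19 LD3_c21))))))))
theorem f494071 : Led Lsl_bt (LP (LK LD1_c1 LD2_c18 LD3_c47)) = v1218 :=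
  Lgr Lrot35 (Lpe (f380284 IH) (Lpr_bf (f319396 IH) (Lpr_ff (f494069 IH) (Lpn v1218))))
def v389 : LQ := Led Lsl_ct (LP (LK LD1_c0 LD2_c37 LD3_c18))
theorem f452583 : Led Lsl_ct (LP (LK LD1_c0 LD2_c37 LD3_c18)) = v389 :=
  Lrfl
theorem f313695 : Led Lsl_at (LP (LK LD1_c0 LD2_c39 LD3_c51)) = (LP (LK LD1_c0 LD2_c37 LD3_c18)) :=
  Lgr Lrot51 (Lpr_df (K19.f313668 IH) (Lpe (K19.f313685 IH) (Lpr_df (K19.f313693 IH) (Lpn (LP (LK LD1_c0 LD2_c37 LD3_c18))))))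
theorem f452584 : Led Lsl_af (LP (LK LD1_c1 LD2_c26 LD3_c17)) = v389 :=
  Lgr Lrot68 (Lpr_ct (K19.f24230 IH) (Lpr_at (f313695 IH) (Lpr_ct (f452583 IH) (Lpn v389))))
theorem f211778 : Led Lsl_bt (LP (LK LD1_c1 LD2_c3 LD3_c15)) = (LP (LK LD1_c0 LD2_c28 LD3_c51)) :=
  Lre_b IH (LK LD1_c1 LD2_c3 LD3_c15) (LK LD1_c0 LD2_c28 LD3_c51) Lrfl Lrfl
theorem f494016 : Led Lsl_cf (LP (LK LD1_c1 LD2_c3 LD3_c15)) = K30.v1214 :=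
  Lgr Lrot97 (Lpr_bt (f211778 IH) (Lpr_ct (K12.f20696 IH) (Lpr_bt (K13.f211779 IH) (Lpr_ct (K13.f169332 IH) (Lpr_bt (K30.f494014 IH) (Lpn K30.v1214))))))
def v388 : LQ := Led Lsl_bt (LP (LK LD1_c0 LD2_c37 LD3_c18))
theorem f452580 : Led Lsl_bt (LP (LK LD1_c0 LD2_c37 LD3_c18)) = v388 :=
  Lrfl
theorem f452581 : Led Lsl_bf (LP (LK LD1_c0 LD2_c37 LD3_c18)) = v388 :=
  Lgr Lrot24 (Lpr_bt (f452580 IH) (Lpn v388))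
def v1215 : LQ := Led Lsl_et (LP (LK LD1_c1 LD2_c3 LD3_c4))
theorem f494055 : Led Lsl_et (LP (LK LD1_c1 LD2_c3 LD3_c4)) = v1215 :=
  Lrfl
theorem f494057 : Led Lsl_ef (LP (LK LD1_c1 LD2_c3 LD3_c4)) = v1215 :=
  Lgr Lrot88 (Lpr_et (f494055 IH) (Lpn v1215))
def v450 : LQ := Led Lsl_bt (LP (LK LD1_c0 LD2_c39 LD3_c3))
theorem f452917 : Led Lsl_bt (LP (LK LD1_c0 LD2_c39 LD3_c3)) = v450 :=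
  Lrfl
theorem f452920 : Led Lsl_ef v388 = v450 :=
  Lgr Lrot29 (Lpe (f452581 IH) (Lpe (K19.f60191 IH) (Lpr_bt (f452917 IH) (Lpn v450))))
def v1597 : LQ := Led Lsl_ct (LP (LK LD1_c1 LD2_c22 LD3_c12))
theorem f500276 : Led Lsl_ct (LP (LK LD1_c1 LD2_c22 LD3_c12)) = v1597 :=
  Lrfl
theorem f494059 : Led Lsl_ct (LP (LK LD1_c1 LD2_c3 LD3_c5)) = v1215 :=
  Lgr Lrot15 (Lpe (K12.f20754 IH) (Lpe (K13.f20698 IH) (Lpr_ef (f494057 IH) (Lpn v1215))))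
theorem f500281 : Led Lsl_gt v1215 = v1597 :=
  Lgr Lrot65 (Lpe (f494059 IH) (Lpr_bt (K10.f20731 IH) (Lpe (K9.f20729 IH) (Lpe (K12.f198333 IH) (Lpr_ct (K12.f193389 IH) (Lpr_gf (K12.f227332 IH) (Lpe (K12.f211047 IH) (Lpe (K12.f211045 IH) (Lpe (K31.f211029 IH) (Lpr_ct (f500276 IH) (Lpn v1597)))))))))))
theorem f452922 : Led Lsl_gf (LP (LK LD1_c2 LD2_c13 LD3_c50)) = v450 :=
  Lgr Lrot124 (Lpr_bf (f272479 IH) (Lpe (K13.f204821 IH) (Lpr_gt (K13.f227498 IH) (Lpe (K13.f101362 IH) (Lpr_bt (K12.f176791 IH) (Lpr_gt (K9.f59116 IH) (Lpe (K10.f186015 IH) (Lpe (K11.f186144 IH) (Lpe (K11.f9452 IH) (Lpr_bt (f452917 IH) (Lpn v450)))))))))))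
theorem f494056 : Led Lsl_cf (LP (LK LD1_c1 LD2_c3 LD3_c5)) = v1215 :=
  Lgr Lrot39 (Lpr_et (K10.f20741 IH) (Lpr_ct (K13.f169332 IH) (Lpr_et (f494055 IH) (Lpn v1215))))
theorem f24254 : Led Lsl_dt (LP (LK LD1_c1 LD2_c22 LD3_c8)) = (LP (LK LD1_c0 LD2_c38 LD3_c1)) :=
  Lre_d IH (LK LD1_c1 LD2_c22 LD3_c8) (LK LD1_c0 LD2_c38 LD3_c1) Lrfl Lrfl
theorem f500282 : Led Lsl_df (LP (LK LD1_c2 LD2_c52 LD3_c16)) = v1597 :=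
  Lgr Lrot153 (Lpr_gt (K31.f24255 IH) (Lpr_dt (f24254 IH) (Lpe (K12.f24583 IH) (Lpr_df (K11.f24418 IH) (Lpe (K11.f24587 IH) (Lpe (K11.f24588 IH) (Lpr_gf (K12.f197370 IH) (Lpr_cf (f494056 IH) (Lpr_gt (f500281 IH) (Lpn v1597))))))))))
theorem f164346 : Led Lsl_dt (LP (LK LD1_c0 LD2_c38 LD3_c3)) = (LP (LK LD1_c1 LD2_c22 LD3_c12)) :=
  Lre_d IH (LK LD1_c0 LD2_c38 LD3_c3) (LK LD1_c1 LD2_c22 LD3_c12) Lrfl Lrfl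
def v418 : LQ := Led Lsl_gt (LP (LK LD1_c0 LD2_c38 LD3_c1))
theorem f452738 : Led Lsl_gt (LP (LK LD1_c0 LD2_c38 LD3_c1)) = v418 :=
  Lrfl
theorem f452739 : Led Lsl_ct (LP (LK LD1_c0 LD2_c38 LD3_c2)) = v418 :=
  Lgr Lrot63 (Lpr_bt (K31.f227467 IH) (Lpe (K12.f227477 IH) (Lpr_bf (K1.f35634 IH) (Lpr_ct (K1.f35483 IH) (Lpr_gt (K11.f211056 IH) (Lpe (K11.f211043 IH) (Lpr_bt (K11.f24591 IH) (Lpr_gt (K11.f24587 IH) (Lpr_ct (K12.f24583 IH) (Lpr_gt (f452738 IH) (Lpn v418)))))))))))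
theorem f452740 : Led Lsl_cf (LP (LK LD1_c0 LD2_c38 LD3_c2)) = v418 :=
  Lgr Lrot11 (Lpr_ct (f452739 IH) (Lpn v418))
def v420 : LQ := Led Lsl_ft (LP (LK LD1_c0 LD2_c38 LD3_c1))
theorem f452744 : Led Lsl_ft (LP (LK LD1_c0 LD2_c38 LD3_c1)) = v420 :=
  Lrfl
theorem f452747 : Led Lsl_ff (LP (LK LD1_c0 LD2_c38 LD3_c1)) = v420 :=
  Lgr Lrot3 (Lpr_ft (f452744 IH) (Lpn v420))
theorem f452749 : Led Lsl_ct (LP (LK LD1_c0 LD2_c38 LD3_c4)) = v420 :=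
  Lgr Lrot40 (Lpe (K12.f24581 IH) (Lpe (K12.f24253 IH) (Lpr_ff (f452747 IH) (Lpn v420))))
theorem f452752 : Led Lsl_gt v418 = v420 :=
  Lgr Lrot65 (Lpe (f452739 IH) (Lpr_bt (K31.f227467 IH) (Lpe (K12.f227473 IH) (Lpe (K1.f27228 IH) (Lpe (K2.f71449 IH) (Lpr_gf (K10.f175503 IH) (Lpe (K10.f164264 IH) (Lpe (K9.f164672 IH) (Lpe (K12.f24573 IH) (Lpr_ct (f452749 IH) (Lpn v420)))))))))))
def v1593 : LQ := Led Lsl_ft (LP (LK LD1_c1 LD2_c22 LD3_c8))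
theorem f500236 : Led Lsl_ft (LP (LK LD1_c1 LD2_c22 LD3_c8)) = v1593 :=
  Lrfl
theorem f500238 : Led Lsl_ff (LP (LK LD1_c1 LD2_c22 LD3_c8)) = v1593 :=
  Lgr Lrot3 (Lpr_ft (f500236 IH) (Lpn v1593))
theorem f500240 : Led Lsl_dt v420 = v1593 :=
  Lgr Lrot60 (Lpe (f452744 IH) (Lpe (f24254 IH) (Lpr_ff (f500238 IH) (Lpn v1593))))
theorem f164342 : Led Lsl_at (LP (LK LD1_c1 LD2_c22 LD3_c8)) = (LP (LK LD1_c1 LD2_c22 LD3_c8)) :=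
  Lgr Lrot51 (Lpe (K31.f24584 IH) (Lpr_af (K12.f164338 IH) (Lpe (f24254 IH) (Lpn (LP (LK LD1_c1 LD2_c22 LD3_c8))))))
theorem f500241 : Led Lsl_gf (LP (LK LD1_c2 LD2_c52 LD3_c16)) = v1593 :=
  Lgr Lrot47 (Lpr_gt (K31.f24255 IH) (Lpe (f164342 IH) (Lpr_ff (f500238 IH) (Lpn v1593))))
theorem f500280 : Led Lsl_dt (LP (LK LD1_c2 LD2_c52 LD3_c16)) = v1597 :=
  Lgr Lrot113 (Lpr_gf (f500241 IH) (Lpe (f500240 IH) (Lpe (f452752 IH) (Lpe (f452740 IH) (Lpr_gt (K12.f164652 IH) (Lpr_dt (f24574 IH) (Lpr_gt (K12.f164344 IH) (Lpr_dt (f164346 IH) (Lpr_ct (f500276 IH) (Lpn v1597))))))))))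
theorem f500283 : Led Lsl_at v1597 = v1597 :=
  Lgr Lrot51 (Lpe (f500280 IH) (Lpe (K31.f500263 IH) (Lpr_df (f500282 IH) (Lpn v1597))))
def v1233 : LQ := Led Lsl_ct (LP (LK LD1_c1 LD2_c3 LD3_c57))
theorem f494203 : Led Lsl_ct (LP (LK LD1_c1 LD2_c3 LD3_c57)) = v1233 :=
  Lrfl
theorem f494204 : Led Lsl_cf (LP (LK LD1_c1 LD2_c3 LD3_c57)) = v1233 :=
  Lgr Lrot11 (Lpr_ct (f494203 IH) (Lpn v1233))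
theorem f500278 : Led Lsl_ef v1233 = v1597 :=
  Lgr Lrot28 (Lpe (f494204 IH) (Lpe (K31.f419040 IH) (Lpr_ct (f500276 IH) (Lpn v1597))))
theorem f494206 : Led Lsl_at v1233 = v1233 :=
  Lgr Lrot107 (Lpe (f494203 IH) (Lpr_af (K24.f453029 IH) (Lpr_cf (f494204 IH) (Lpn v1233))))
theorem f500285 : Led Lsl_ef v1597 = v1233 :=
  Lgr Lrot20 (Lpr_at (f500283 IH) (Lpe (f500278 IH) (Lpr_at (f494206 IH) (Lpn v1233))))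
def v1235 : LQ := Led Lsl_ct (LP (LK LD1_c1 LD2_c3 LD3_c58))
theorem f494216 : Led Lsl_ct (LP (LK LD1_c1 LD2_c3 LD3_c58)) = v1235 :=
  Lrfl
theorem f494218 : Led Lsl_ff v1233 = v1235 :=
  Lgr Lrot23 (Lpe (f494204 IH) (Lpe (K31.f453037 IH) (Lpr_ct (f494216 IH) (Lpn v1235))))
theorem f452408 : Led Lsl_at v359 = v359 :=
  Lgr Lrot51 (Lpe (f452404 IH) (Lpr_af (f6908 IH) (Lpr_df (f452405 IH) (Lpn v359))))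
theorem f452618 : Led Lsl_af v394 = v394 :=
  Lgr Lrot68 (Lpe (f452614 IH) (Lpr_at (f452408 IH) (Lpr_ct (f452617 IH) (Lpn v394))))
theorem f452619 : Led Lsl_ft v359 = v394 :=
  Lgr Lrot142 (Lpe (f452405 IH) (Lpr_ct (K31.f2952 IH) (Lpr_dt (K1.f3051 IH) (Lpe (K1.f2934 IH) (Lpr_dt (K0.f2922 IH) (Lpr_ct (K0.f2963 IH) (Lpr_dt (f452404 IH) (Lpr_ct (f452617 IH) (Lpr_af (f452618 IH) (Lpn v394))))))))))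
def v331 : LQ := Led Lsl_et (LP (LK LD1_c0 LD2_c29 LD3_c10))
theorem f452191 : Led Lsl_et (LP (LK LD1_c0 LD2_c29 LD3_c10)) = v331 :=
  Lrfl
def v332 : LQ := Led Lsl_ft (LP (LK LD1_c0 LD2_c29 LD3_c11))
theorem f452196 : Led Lsl_ft (LP (LK LD1_c0 LD2_c29 LD3_c11)) = v332 :=
  Lrfl
theorem f452200 : Led Lsl_ff (LP (LK LD1_c0 LD2_c29 LD3_c11)) = v332 :=
  Lgr Lrot3 (Lpr_ft (f452196 IH) (Lpn v332))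
theorem f452205 : Led Lsl_gf (LP (LK LD1_c1 LD2_c3 LD3_c58)) = v332 :=
  Lgr Lrot47 (Lpr_gt (K31.f198454 IH) (Lpr_af (f422766 IH) (Lpr_ff (f452200 IH) (Lpn v332))))
def v79 : LQ := Led Lsl_et (LP (LK LD1_c0 LD2_c7 LD3_c29))
theorem f446792 : Led Lsl_et (LP (LK LD1_c0 LD2_c7 LD3_c29)) = v79 :=
  Lrfl
theorem f446794 : Led Lsl_df (LP (LK LD1_c0 LD2_c29 LD3_c11)) = v79 :=
  Lgr Lrot70 (Lpr_et (f37266 IH) (Lpr_dt (K11.f37097 IH) (Lpr_et (K1.f37288 IH) (Lpr_dt (K1.f37104 IH) (Lpr_et (f446792 IH) (Lpn v79))))))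
def v116 : LQ := Led Lsl_bt (LP (LK LD1_c0 LD2_c16 LD3_c56))
theorem f448952 : Led Lsl_bt (LP (LK LD1_c0 LD2_c16 LD3_c56)) = v116 :=
  Lrfl
theorem f446793 : Led Lsl_bf (LP (LK LD1_c0 LD2_c7 LD3_c32)) = v79 :=
  Lgr Lrot96 (Lpr_et (K6.f21188 IH) (Lpr_bt (K1.f20423 IH) (Lpr_et (f446792 IH) (Lpn v79))))
theorem f448954 : Led Lsl_ff v79 = v116 :=
  Lgr Lrot25 (Lpe (f446793 IH) (Lpr_ft (K6.f146284 IH) (Lpr_bt (f448952 IH) (Lpn v116))))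
theorem f452198 : Led Lsl_df v116 = v332 :=
  Lgr Lrot78 (Lpe (f448954 IH) (Lpe (f446794 IH) (Lpr_ft (f452196 IH) (Lpn v332))))
def v262 : LQ := Led Lsl_gf v79
theorem f451433 : Led Lsl_gf v79 = v262 :=
  Lrfl
theorem f446795 : Led Lsl_ef (LP (LK LD1_c0 LD2_c7 LD3_c29)) = v79 :=
  Lgr Lrot88 (Lpr_et (f446792 IH) (Lpn v79))
theorem f446796 : Led Lsl_at v79 = v79 :=
  Lgr Lrot80 (Lpe (f446792 IH) (Lpr_af (f146290 IH) (Lpr_ef (f446795 IH) (Lpn v79))))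
theorem f451434 : Led Lsl_gt v116 = v262 :=
  Lgr Lrot5 (Lpe (f448954 IH) (Lpr_at (f446796 IH) (Lpr_gf (f451433 IH) (Lpn v262))))
def v113 : LQ := Led Lsl_et (LP (LK LD1_c0 LD2_c16 LD3_c50))
def v939 : LQ := Led Lsl_gf v113
theorem f490649 : Led Lsl_gf v113 = v939 :=
  Lrfl
theorem f448930 : Led Lsl_et (LP (LK LD1_c0 LD2_c16 LD3_c50)) = v113 :=
  Lrfl
theorem f448932 : Led Lsl_ef (LP (LK LD1_c0 LD2_c16 LD3_c50)) = v113 :=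
  Lgr Lrot88 (Lpr_et (f448930 IH) (Lpn v113))
theorem f448934 : Led Lsl_ct v79 = v113 :=
  Lgr Lrot15 (Lpe (f446792 IH) (Lpe (K4.f21179 IH) (Lpr_ef (f448932 IH) (Lpn v113))))
theorem f25947 : Led Lsl_ct (LP (LK LD1_c0 LD2_c18 LD3_c51)) = (LP (LK LD1_c0 LD2_c42 LD3_c12)) :=
  Lre_c IH (LK LD1_c0 LD2_c18 LD3_c51) (LK LD1_c0 LD2_c42 LD3_c12) Lrfl Lrfl
def v264 : LQ := Led Lsl_gf v80
theorem f451451 : Led Lsl_gf v80 = v264 :=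
  Lrfl
theorem f451454 : Led Lsl_et (LP (LK LD1_c1 LD2_c3 LD3_c14)) = v264 :=
  Lgr Lrot185 (Lpe (K20.f226752 IH) (Lpe (K12.f172293 IH) (Lpe (K9.f171300 IH) (Lpe (K9.f172291 IH) (Lpe (K9.f36234 IH) (Lpr_dt (K4.f35524 IH) (Lpe (K0.f35521 IH) (Lpe (K2.f20288 IH) (Lpr_et (f446799 IH) (Lpr_gf (f451451 IH) (Lpn v264)))))))))))
theorem f451457 : Led Lsl_ef (LP (LK LD1_c1 LD2_c3 LD3_c14)) = v264 :=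
  Lgr Lrot88 (Lpr_et (f451454 IH) (Lpn v264))
theorem f211956 : Led Lsl_bt (LP (LK LD1_c2 LD2_c12 LD3_c30)) = (LP (LK LD1_c1 LD2_c3 LD3_c14)) :=
  Lre_b IH (LK LD1_c2 LD2_c12 LD3_c30) (LK LD1_c1 LD2_c3 LD3_c14) Lrfl Lrfl
theorem f165064 : Led Lsl_bt (LP (LK LD1_c0 LD2_c36 LD3_c16)) = (LP (LK LD1_c1 LD2_c18 LD3_c41)) :=
  Lre_b IH (LK LD1_c0 LD2_c36 LD3_c16) (LK LD1_c1 LD2_c18 LD3_c41) Lrfl Lrfl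
theorem f289389 : Led Lsl_ft (LP (LK LD1_c1 LD2_c3 LD3_c14)) = (LP (LK LD1_c0 LD2_c36 LD3_c16)) :=
  Lgr Lrot75 (Lpe (f211956 IH) (Lpr_ff (K17.f289376 IH) (Lpe (f165064 IH) (Lpn (LP (LK LD1_c0 LD2_c36 LD3_c16))))))
theorem f288089 : Led Lsl_ff (LP (LK LD1_c1 LD2_c9 LD3_c37)) = (LP (LK LD1_c1 LD2_c9 LD3_c38)) :=
  Lgr Lrot19 (Lpr_dt (K10.f180635 IH) (Lpr_ft (K17.f288083 IH) (Lpr_dt (K9.f53202 IH) (Lpn (LP (LK LD1_c1 LD2_c9 LD3_c38))))))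
theorem f451459 : Led Lsl_ft (LP (LK LD1_c0 LD2_c42 LD3_c12)) = v264 :=
  Lgr Lrot86 (Lpr_ef (K11.f205126 IH) (Lpr_ff (f288089 IH) (Lpe (K9.f165072 IH) (Lpe (f289389 IH) (Lpr_ef (f451457 IH) (Lpn v264))))))
theorem f289690 : Led Lsl_af (LP (LK LD1_c0 LD2_c42 LD3_c17)) = (LP (LK LD1_c0 LD2_c32 LD3_c30)) :=
  Lgr Lrot0 (Lpr_at (K17.f289688 IH) (Lpn (LP (LK LD1_c0 LD2_c32 LD3_c30))))
theorem f319439 : Led Lsl_at (LP (LK LD1_c0 LD2_c36 LD3_c17)) = (LP (LK LD1_c1 LD2_c3 LD3_c14)) :=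
  Lgr Lrot107 (Lpr_cf (K20.f319426 IH) (Lpr_af (f289690 IH) (Lpe (K12.f211805 IH) (Lpn (LP (LK LD1_c1 LD2_c3 LD3_c14))))))
theorem f25989 : Led Lsl_ct (LP (LK LD1_c0 LD2_c42 LD3_c15)) = (LP (LK LD1_c0 LD2_c18 LD3_c52)) :=
  Lre_c IH (LK LD1_c0 LD2_c42 LD3_c15) (LK LD1_c0 LD2_c18 LD3_c52) Lrfl Lrfl
theorem f319444 : Led Lsl_et (LP (LK LD1_c0 LD2_c36 LD3_c17)) = (LP (LK LD1_c0 LD2_c42 LD3_c15)) :=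
  Lgr Lrot158 (Lpr_cf (K20.f319426 IH) (Lpe (K17.f204851 IH) (Lpe (f25989 IH) (Lpn (LP (LK LD1_c0 LD2_c42 LD3_c15))))))
theorem f402561 : Led Lsl_ef (LP (LK LD1_c0 LD2_c36 LD3_c17)) = (LP (LK LD1_c0 LD2_c42 LD3_c15)) :=
  Lgr Lrot88 (Lpr_et (f319444 IH) (Lpn (LP (LK LD1_c0 LD2_c42 LD3_c15))))
theorem f451455 : Led Lsl_af (LP (LK LD1_c0 LD2_c42 LD3_c15)) = v264 :=
  Lgr Lrot50 (Lpe (f402561 IH) (Lpr_at (f319439 IH) (Lpr_et (f451454 IH) (Lpn v264))))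
def v117 : LQ := Led Lsl_ct (LP (LK LD1_c0 LD2_c16 LD3_c56))
theorem f448957 : Led Lsl_ct (LP (LK LD1_c0 LD2_c16 LD3_c56)) = v117 :=
  Lrfl
theorem f210565 : Led Lsl_bt (LP (LK LD1_c0 LD2_c18 LD3_c52)) = (LP (LK LD1_c0 LD2_c42 LD3_c14)) :=
  Lre_b IH (LK LD1_c0 LD2_c18 LD3_c52) (LK LD1_c0 LD2_c42 LD3_c14) Lrfl Lrfl
theorem f448960 : Led Lsl_gf (LP (LK LD1_c0 LD2_c42 LD3_c15)) = v117 :=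
  Lgr Lrot129 (Lpe (K11.f25986 IH) (Lpr_bt (f210565 IH) (Lpe (K32.f210573 IH) (Lpe (K11.f80642 IH) (Lpr_ct (K4.f80644 IH) (Lpe (K14.f255526 IH) (Lpe (K11.f59390 IH) (Lpr_bt (K11.f205324 IH) (Lpe (K9.f146314 IH) (Lpr_ct (f448957 IH) (Lpn v117)))))))))))
theorem f451460 : Led Lsl_gt (LP (LK LD1_c0 LD2_c42 LD3_c12)) = v117 :=
  Lgr Lrot5 (Lpr_ft (f451459 IH) (Lpe (f451455 IH) (Lpr_gf (f448960 IH) (Lpn v117))))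
theorem f490651 : Led Lsl_ct v262 = v939 :=
  Lgr Lrot91 (Lpe (f451434 IH) (Lpe (f448952 IH) (Lpr_ct (f448957 IH) (Lpe (f451460 IH) (Lpe (f25947 IH) (Lpr_bt (K11.f204893 IH) (Lpe (K9.f22118 IH) (Lpr_bf (f446793 IH) (Lpr_ct (f448934 IH) (Lpr_gf (f490649 IH) (Lpn v939)))))))))))
theorem f448931 : Led Lsl_cf v79 = v113 :=
  Lgr Lrot39 (Lpe (f446795 IH) (Lpr_ct (K1.f21180 IH) (Lpr_et (f448930 IH) (Lpn v113))))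
theorem f452192 : Led Lsl_cf (LP (LK LD1_c0 LD2_c29 LD3_c11)) = v331 :=
  Lgr Lrot39 (Lpr_et (f37266 IH) (Lpr_ct (K11.f21216 IH) (Lpr_et (f452191 IH) (Lpn v331))))
theorem f494219 : Led Lsl_gf v331 = v1235 :=
  Lgr Lrot104 (Lpe (f452192 IH) (Lpr_df (f446794 IH) (Lpr_cf (f448931 IH) (Lpr_gf (f490649 IH) (Lpe (f490651 IH) (Lpe (f451434 IH) (Lpr_df (f452198 IH) (Lpe (f452205 IH) (Lpr_ct (f494216 IH) (Lpn v1235))))))))))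
theorem f6915 : Led Lsl_et (LP (LK LD1_c1 LD2_c9 LD3_c12)) = (LP (LK LD1_c0 LD2_c31 LD3_c44)) :=
  Lre_e IH (LK LD1_c1 LD2_c9 LD3_c12) (LK LD1_c0 LD2_c31 LD3_c44) Lrfl Lrfl
theorem f197393 : Led Lsl_dt (LP (LK LD1_c1 LD2_c18 LD3_c61)) = (LP (LK LD1_c1 LD2_c9 LD3_c12)) :=
  Lgr Lrot120 (Lpe (K10.f196275 IH) (Lpe (K10.f196270 IH) (Lpr_cf (K10.f197385 IH) (Lpe (K0.f2907 IH) (Lpe (K10.f197387 IH) (Lpe (K10.f193449 IH) (Lpr_ft (K10.f196284 IH) (Lpe (K1.f6902 IH) (Lpe (K10.f3011 IH) (Lpn (LP (LK LD1_c1 LD2_c9 LD3_c12))))))))))))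
theorem f495675 : Led Lsl_ef (LP (LK LD1_c1 LD2_c18 LD3_c61)) = v1458 :=
  Lgr Lrot88 (Lpr_et (f495673 IH) (Lpn v1458))
theorem f535910 : Led Lsl_df v1458 = v2842 :=
  Lgr Lrot70 (Lpe (f495675 IH) (Lpr_dt (f197393 IH) (Lpr_et (f6915 IH) (Lpr_dt (f452404 IH) (Lpr_et (f535909 IH) (Lpn v2842))))))
theorem f536619 : v1235 = v359 :=
  (Llr Lrot141 (Lpe (f494219 IH) (Lpe (f452191 IH) (Lpr_dt (f422784 IH) (Lpe (f452616 IH) (Lpe (f452611 IH) (Lpr_et (f452620 IH) (Lpr_gt (f494608 IH) (Lpr_dt (f536616 IH) (Lpr_gt (f495680 IH) (Lpr_df (f535910 IH) (Lpe (f535911 IH) (Lpn v359))))))))))))).symm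
theorem f536625 : v1233 = v394 :=
  Lefun (Lecon (Lfl_ff (f494218 IH)) (f536619 IH)) (f452619 IH)
theorem f536651 : v1597 = (LP (LK LD1_c2 LD2_c13 LD3_c50)) :=
  Lefun (Lecon (Lfl_ef (f500285 IH)) ((f536625 IH).trans (f536621 IH))) (f272476 IH)
theorem f536704 : v1215 = v450 :=
  Lefun (Lecon (Lfl_gt (f500281 IH)) (f536651 IH)) (f452922 IH)
theorem f536803 : (LP (LK LD1_c1 LD2_c3 LD3_c4)) = v388 :=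
  Lefun (Lecon (Lfl_ef (f494057 IH)) (f536704 IH)) (Lfl_ef (f452920 IH))
theorem f536978 : (LP (LK LD1_c0 LD2_c37 LD3_c18)) = K30.v1214 :=
  Lefun (Lecon (Lfl_bf (f452581 IH)) (f536803 IH).symm) (K30.f494014 IH)
theorem f537166 : (LP (LK LD1_c1 LD2_c3 LD3_c15)) = v389 :=
  Lefun (Lecon (Lfl_cf (f494016 IH)) (f536978 IH).symm) (f452583 IH)
theorem f537378 : (LP (LK LD1_c1 LD2_c26 LD3_c17)) = v1218 :=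
  Lefun (Lecon (Lfl_af (f452584 IH)) (f537166 IH).symm) (f494066 IH)
theorem f60440 : Led Lsl_bt (LP (LK LD1_c3 LD2_c4 LD3_c3)) = (LP (LK LD1_c1 LD2_c28 LD3_c5)) :=
  Lre_b IH (LK LD1_c3 LD2_c4 LD3_c3) (LK LD1_c1 LD2_c28 LD3_c5) Lrfl Lrfl
theorem f60443 : Led Lsl_bt (LP (LK LD1_c0 LD2_c40 LD3_c53)) = (LP (LK LD1_c1 LD2_c28 LD3_c27)) :=
  Lre_b IH (LK LD1_c0 LD2_c40 LD3_c53) (LK LD1_c1 LD2_c28 LD3_c27) Lrfl Lrfl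
theorem f60444 : Led Lsl_cf (LP (LK LD1_c3 LD2_c4 LD3_c3)) = (LP (LK LD1_c1 LD2_c28 LD3_c27)) :=
  Lgr Lrot97 (Lpr_bt (f60440 IH) (Lpr_ct (K1.f60438 IH) (Lpr_bt (K10.f60441 IH) (Lpr_ct (K17.f60442 IH) (Lpr_bt (f60443 IH) (Lpn (LP (LK LD1_c1 LD2_c28 LD3_c27))))))))
theorem f60466 : Led Lsl_gt (LP (LK LD1_c6 LD2_c14 LD3_c19)) = (LP (LK LD1_c3 LD2_c4 LD3_c3)) :=
  Lre_g IH (LK LD1_c6 LD2_c14 LD3_c19) (LK LD1_c3 LD2_c4 LD3_c3) Lrfl Lrfl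
theorem f547795 : Led Lsl_ct (LP (LK LD1_c3 LD2_c58 LD3_c55)) = (LP (LK LD1_c6 LD2_c14 LD3_c19)) :=
  Lgr Lrot91 (Lpr_gf (f385270 IH) (Lpr_bf (f380271 IH) (Lpr_ct (f380270 IH) (Lpr_gf (f380436 IH) (Lpe (f380433 IH) (Lpr_bt (f494071 IH) (Lpq (f537378 IH) (Lpr_gf (K19.f176755 IH) (Lpe (K2.f60469 IH) (Lpe (f60444 IH) (Lpe (f60466 IH) (Lpn (LP (LK LD1_c6 LD2_c14 LD3_c19))))))))))))))
theorem f60199 : Led Lsl_bt (LP (LK LD1_c1 LD2_c20 LD3_c47)) = (LP (LK LD1_c2 LD2_c49 LD3_c10)) :=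
  Lre_b IH (LK LD1_c1 LD2_c20 LD3_c47) (LK LD1_c2 LD2_c49 LD3_c10) Lrfl Lrfl
theorem f547815 : Led Lsl_gf (LP (LK LD1_c2 LD2_c26 LD3_c20)) = (LP (LK LD1_c2 LD2_c49 LD3_c10)) :=
  Lgr Lrot124 (Lpe (K18.f297015 IH) (Lpr_ct (f547795 IH) (Lpr_gt (f60466 IH) (Lpr_cf (f60444 IH) (Lpr_bt (K2.f60469 IH) (Lpe (K19.f176755 IH) (Lpr_ct (K19.f24230 IH) (Lpr_gt (K9.f60197 IH) (Lpe (K9.f60099 IH) (Lpr_bt (f60199 IH) (Lpn (LP (LK LD1_c2 LD2_c49 LD3_c10)))))))))))))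
def v1499 : LQ := Led Lsl_et (LP (LK LD1_c1 LD2_c20 LD3_c8))
theorem f495884 : Led Lsl_et (LP (LK LD1_c1 LD2_c20 LD3_c8)) = v1499 :=
  Lrfl
theorem f495887 : Led Lsl_ef (LP (LK LD1_c1 LD2_c20 LD3_c8)) = v1499 :=
  Lgr Lrot88 (Lpr_et (f495884 IH) (Lpn v1499))
def v387 : LQ := Led Lsl_et (LP (LK LD1_c0 LD2_c37 LD3_c3))
theorem f452564 : Led Lsl_et (LP (LK LD1_c0 LD2_c37 LD3_c3)) = v387 :=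
  Lrfl
theorem f495888 : Led Lsl_bt v387 = v1499 :=
  Lgr Lrot119 (Lpe (f452564 IH) (Lpe (K30.f171858 IH) (Lpr_ef (f495887 IH) (Lpn v1499))))
def v2898 : LQ := Led Lsl_dt v387
theorem f536121 : Led Lsl_dt v387 = v2898 :=
  Lrfl
theorem f536122 : Led Lsl_df v387 = v2898 :=
  Lgr Lrot38 (Lpr_dt (f536121 IH) (Lpn v2898))
theorem f157174 : Led Lsl_et (LP (LK LD1_c1 LD2_c4 LD3_c55)) = (LP (LK LD1_c2 LD2_c15 LD3_c52)) :=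
  Lre_e IH (LK LD1_c1 LD2_c4 LD3_c55) (LK LD1_c2 LD2_c15 LD3_c52) Lrfl Lrfl
theorem f73020 : Led Lsl_ft (LP (LK LD1_c1 LD2_c5 LD3_c28)) = (LP (LK LD1_c0 LD2_c40 LD3_c23)) :=
  Lre_f IH (LK LD1_c1 LD2_c5 LD3_c28) (LK LD1_c0 LD2_c40 LD3_c23) Lrfl Lrfl
theorem f72993 : Led Lsl_at (LP (LK LD1_c0 LD2_c40 LD3_c23)) = (LP (LK LD1_c1 LD2_c27 LD3_c13)) :=
  Lre_a IH (LK LD1_c0 LD2_c40 LD3_c23) (LK LD1_c1 LD2_c27 LD3_c13) Lrfl Lrfl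
theorem f157166 : Led Lsl_gt (LP (LK LD1_c2 LD2_c15 LD3_c48)) = (LP (LK LD1_c1 LD2_c27 LD3_c13)) :=
  Lgr Lrot46 (Lpr_gf (K8.f157154 IH) (Lpr_ft (f73020 IH) (Lpr_at (f72993 IH) (Lpn (LP (LK LD1_c1 LD2_c27 LD3_c13))))))
theorem f72981 : Led Lsl_et (LP (LK LD1_c1 LD2_c20 LD3_c42)) = (LP (LK LD1_c2 LD2_c49 LD3_c7)) :=
  Lre_e IH (LK LD1_c1 LD2_c20 LD3_c42) (LK LD1_c2 LD2_c49 LD3_c7) Lrfl Lrfl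
def v1622 : LQ := Led Lsl_gt (LP (LK LD1_c1 LD2_c22 LD3_c35))
theorem f500401 : Led Lsl_gt (LP (LK LD1_c1 LD2_c22 LD3_c35)) = v1622 :=
  Lrfl
def v1623 : LQ := Led Lsl_gf (LP (LK LD1_c1 LD2_c22 LD3_c35))
theorem f500403 : Led Lsl_gf (LP (LK LD1_c1 LD2_c22 LD3_c35)) = v1623 :=
  Lrfl
theorem f24482 : Led Lsl_ct (LP (LK LD1_c2 LD2_c52 LD3_c59)) = (LP (LK LD1_c1 LD2_c22 LD3_c35)) :=
  Lre_c IH (LK LD1_c2 LD2_c52 LD3_c59) (LK LD1_c1 LD2_c22 LD3_c35) Lrfl Lrfl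
theorem f177018 : Led Lsl_bt (LP (LK LD1_c2 LD2_c52 LD3_c59)) = (LP (LK LD1_c1 LD2_c22 LD3_c34)) :=
  Lre_b IH (LK LD1_c2 LD2_c52 LD3_c59) (LK LD1_c1 LD2_c22 LD3_c34) Lrfl Lrfl
def v1806 : LQ := Led Lsl_et (LP (LK LD1_c1 LD2_c27 LD3_c46))
theorem f503016 : Led Lsl_et (LP (LK LD1_c1 LD2_c27 LD3_c46)) = v1806 :=
  Lrfl
theorem f503019 : Led Lsl_ef (LP (LK LD1_c1 LD2_c27 LD3_c46)) = v1806 :=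
  Lgr Lrot88 (Lpr_et (f503016 IH) (Lpn v1806))
def v1554 : LQ := Led Lsl_et (LP (LK LD1_c1 LD2_c21 LD3_c36))
theorem f496244 : Led Lsl_et (LP (LK LD1_c1 LD2_c21 LD3_c36)) = v1554 :=
  Lrfl
theorem f503021 : Led Lsl_ct v1554 = v1806 :=
  Lgr Lrot15 (Lpe (f496244 IH) (Lpe (K8.f37977 IH) (Lpr_ef (f503019 IH) (Lpn v1806))))
def v1594 : LQ := Led Lsl_et (LP (LK LD1_c1 LD2_c22 LD3_c9))
theorem f500243 : Led Lsl_et (LP (LK LD1_c1 LD2_c22 LD3_c9)) = v1594 :=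
  Lrfl
theorem f500247 : Led Lsl_ef (LP (LK LD1_c1 LD2_c22 LD3_c9)) = v1594 :=
  Lgr Lrot88 (Lpr_et (f500243 IH) (Lpn v1594))
def v1553 : LQ := Led Lsl_dt (LP (LK LD1_c1 LD2_c21 LD3_c36))
theorem f496238 : Led Lsl_dt (LP (LK LD1_c1 LD2_c21 LD3_c36)) = v1553 :=
  Lrfl
theorem f496240 : Led Lsl_df (LP (LK LD1_c1 LD2_c21 LD3_c36)) = v1553 :=
  Lgr Lrot38 (Lpr_dt (f496238 IH) (Lpn v1553))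
theorem f81106 : Led Lsl_et (LP (LK LD1_c0 LD2_c55 LD3_c51)) = (LP (LK LD1_c1 LD2_c57 LD3_c60)) :=
  Lre_e IH (LK LD1_c0 LD2_c55 LD3_c51) (LK LD1_c1 LD2_c57 LD3_c60) Lrfl Lrfl
theorem f500248 : Led Lsl_gt (LP (LK LD1_c1 LD2_c57 LD3_c60)) = v1594 :=
  Lgr Lrot131 (Lpe (f81106 IH) (Lpr_dt (K10.f81105 IH) (Lpe (K10.f81104 IH) (Lpe (K0.f34019 IH) (Lpe (K12.f34047 IH) (Lpe (K13.f34057 IH) (Lpr_dt (K13.f34058 IH) (Lpr_gf (K13.f227482 IH) (Lpe (K13.f227479 IH) (Lpr_et (f500243 IH) (Lpn v1594)))))))))))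
theorem f193661 : Led Lsl_df (LP (LK LD1_c1 LD2_c57 LD3_c60)) = (LP (LK LD1_c1 LD2_c56 LD3_c13)) :=
  Lgr Lrot70 (Lpr_et (K16.f193660 IH) (Lpr_dt (K10.f81105 IH) (Lpr_et (K16.f193659 IH) (Lpr_dt (K10.f193654 IH) (Lpr_et (K13.f181339 IH) (Lpn (LP (LK LD1_c1 LD2_c56 LD3_c13))))))))
theorem f216407 : Led Lsl_bf (LP (LK LD1_c1 LD2_c57 LD3_c27)) = (LP (LK LD1_c1 LD2_c57 LD3_c27)) :=
  Lgr Lrot61 (Lpr_ft (K20.f216358 IH) (Lpr_bt (K13.f216403 IH) (Lpr_ft (K20.f211593 IH) (Lpn (LP (LK LD1_c1 LD2_c57 LD3_c27))))))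
theorem f315256 : Led Lsl_df (LP (LK LD1_c1 LD2_c57 LD3_c27)) = (LP (LK LD1_c1 LD2_c56 LD3_c39)) :=
  Lgr Lrot12 (Lpe (f216407 IH) (Lpr_dt (K20.f315252 IH) (Lpr_bt (K13.f239230 IH) (Lpn (LP (LK LD1_c1 LD2_c56 LD3_c39))))))
theorem f247532 : Led Lsl_dt (LP (LK LD1_c2 LD2_c24 LD3_c10)) = (LP (LK LD1_c2 LD2_c7 LD3_c59)) :=
  Lgr Lrot79 (Lpe (K9.f170674 IH) (Lpr_df (K14.f247530 IH) (Lpr_bf (K10.f194217 IH) (Lpn (LP (LK LD1_c2 LD2_c7 LD3_c59))))))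
theorem f315264 : Led Lsl_gf (LP (LK LD1_c1 LD2_c57 LD3_c27)) = (LP (LK LD1_c0 LD2_c55 LD3_c55)) :=
  Lgr Lrot144 (Lpr_dt (K20.f315252 IH) (Lpe (K13.f31593 IH) (Lpr_dt (K1.f31544 IH) (Lpr_cf (K0.f31542 IH) (Lpe (K0.f31137 IH) (Lpr_gf (K10.f31212 IH) (Lpe (f247532 IH) (Lpe (K15.f255054 IH) (Lpe (K13.f184674 IH) (Lpn (LP (LK LD1_c0 LD2_c55 LD3_c55))))))))))))
theorem f204826 : Led Lsl_et (LP (LK LD1_c1 LD2_c27 LD3_c55)) = (LP (LK LD1_c3 LD2_c3 LD3_c48)) :=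
  Lre_e IH (LK LD1_c1 LD2_c27 LD3_c55) (LK LD1_c3 LD2_c3 LD3_c48) Lrfl Lrfl
theorem f500249 : Led Lsl_dt (LP (LK LD1_c1 LD2_c27 LD3_c55)) = v1594 :=
  Lgr Lrot56 (Lpr_et (f204826 IH) (Lpe (K13.f241250 IH) (Lpr_ef (K13.f241265 IH) (Lpr_dt (K13.f184676 IH) (Lpe (f315264 IH) (Lpr_df (f315256 IH) (Lpe (K13.f59155 IH) (Lpr_gt (K32.f242759 IH) (Lpe (f193661 IH) (Lpr_gt (f500248 IH) (Lpn v1594)))))))))))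
theorem f3025 : Led Lsl_bt (LP (LK LD1_c0 LD2_c31 LD3_c44)) = (LP (LK LD1_c1 LD2_c9 LD3_c13)) :=
  Lre_b IH (LK LD1_c0 LD2_c31 LD3_c44) (LK LD1_c1 LD2_c9 LD3_c13) Lrfl Lrfl
theorem f80863 : Led Lsl_ft (LP (LK LD1_c1 LD2_c9 LD3_c13)) = (LP (LK LD1_c1 LD2_c21 LD3_c36)) :=
  Lgr Lrot75 (Lpe (f3025 IH) (Lpr_ff (f80859 IH) (Lpe (K8.f37976 IH) (Lpn (LP (LK LD1_c1 LD2_c21 LD3_c36))))))
def v1377 : LQ := Led Lsl_dt (LP (LK LD1_c1 LD2_c9 LD3_c13))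
theorem f495202 : Led Lsl_dt (LP (LK LD1_c1 LD2_c9 LD3_c13)) = v1377 :=
  Lrfl
theorem f495204 : Led Lsl_df (LP (LK LD1_c1 LD2_c9 LD3_c13)) = v1377 :=
  Lgr Lrot38 (Lpr_dt (f495202 IH) (Lpn v1377))
theorem f496241 : Led Lsl_ff v1377 = v1553 :=
  Lgr Lrot19 (Lpe (f495204 IH) (Lpr_ft (f80863 IH) (Lpr_dt (f496238 IH) (Lpn v1553))))
theorem f495203 : Led Lsl_bf v359 = v1377 :=
  Lgr Lrot93 (Lpe (f452405 IH) (Lpr_bt (f3025 IH) (Lpr_dt (f495202 IH) (Lpn v1377))))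
theorem f496242 : Led Lsl_bt v394 = v1553 :=
  Lgr Lrot35 (Lpe (f452619 IH) (Lpr_bf (f495203 IH) (Lpr_ff (f496241 IH) (Lpn v1553))))
theorem f536637 : v1553 = (LP (LK LD1_c1 LD2_c27 LD3_c55)) :=
  Lefun (Lecon (f496242 IH) (f536621 IH)) (K31.f272474 IH)
theorem f536683 : (LP (LK LD1_c1 LD2_c21 LD3_c36)) = v1594 :=
  Lefun (Lecon (Lfl_df (f496240 IH)) (f536637 IH)) (f500249 IH)
theorem f536776 : (LP (LK LD1_c1 LD2_c22 LD3_c9)) = v1554 :=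
  Lefun (Lecon (Lfl_ef (f500247 IH)) (f536683 IH).symm) (f496244 IH)
theorem f536945 : v1806 = (LP (LK LD1_c2 LD2_c9 LD3_c55)) :=
  Lefun (Lecon (f503021 IH) (f536776 IH).symm) (K12.f227465 IH)
theorem f503017 : Led Lsl_bf (LP (LK LD1_c1 LD2_c27 LD3_c48)) = v1806 :=
  Lgr Lrot96 (Lpr_et (K10.f36718 IH) (Lpr_bt (K8.f24965 IH) (Lpr_et (f503016 IH) (Lpn v1806))))
theorem f80954 : Led Lsl_bt (LP (LK LD1_c4 LD2_c27 LD3_c0)) = (LP (LK LD1_c2 LD2_c10 LD3_c39)) :=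
  Lre_b IH (LK LD1_c4 LD2_c27 LD3_c0) (LK LD1_c2 LD2_c10 LD3_c39) Lrfl Lrfl
def v1281 : LQ := Led Lsl_bt (LP (LK LD1_c1 LD2_c5 LD3_c11))
theorem f494521 : Led Lsl_bt (LP (LK LD1_c1 LD2_c5 LD3_c11)) = v1281 :=
  Lrfl
theorem f494524 : Led Lsl_ef (LP (LK LD1_c2 LD2_c0 LD3_c57)) = v1281 :=
  Lgr Lrot29 (Lpr_bt (K16.f175915 IH) (Lpe (K9.f175913 IH) (Lpr_bt (f494521 IH) (Lpn v1281))))
theorem f80941 : Led Lsl_bt (LP (LK LD1_c4 LD2_c4 LD3_c51)) = (LP (LK LD1_c1 LD2_c59 LD3_c31)) :=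
  Lre_b IH (LK LD1_c4 LD2_c4 LD3_c51) (LK LD1_c1 LD2_c59 LD3_c31) Lrfl Lrfl
theorem f80942 : Led Lsl_bt (LP (LK LD1_c2 LD2_c10 LD3_c39)) = (LP (LK LD1_c4 LD2_c27 LD3_c0)) :=
  Lre_b IH (LK LD1_c2 LD2_c10 LD3_c39) (LK LD1_c4 LD2_c27 LD3_c0) Lrfl Lrfl
theorem f80943 : Led Lsl_ef (LP (LK LD1_c4 LD2_c4 LD3_c51)) = (LP (LK LD1_c4 LD2_c27 LD3_c0)) :=
  Lgr Lrot29 (Lpr_bt (f80941 IH) (Lpr_et (K16.f80937 IH) (Lpr_bt (f80942 IH) (Lpn (LP (LK LD1_c4 LD2_c27 LD3_c0))))))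
theorem f80949 : Led Lsl_et (LP (LK LD1_c4 LD2_c4 LD3_c51)) = (LP (LK LD1_c4 LD2_c27 LD3_c0)) :=
  Lgr Lrot87 (Lpr_ef (f80943 IH) (Lpn (LP (LK LD1_c4 LD2_c27 LD3_c0))))
theorem f494527 : Led Lsl_ct (LP (LK LD1_c4 LD2_c27 LD3_c0)) = v1281 :=
  Lgr Lrot15 (Lpe (f80949 IH) (Lpe (K16.f181711 IH) (Lpr_ef (f494524 IH) (Lpn v1281))))
theorem f541547 : v1281 = v1623 :=
  (Llr Lrot64 (Lpe (f494527 IH) (Lpr_bt (f80954 IH) (Lpr_gf (K12.f193747 IH) (Lpr_bf (f503017 IH) (Lpqs (f536945 IH) (Lpe (K12.f227468 IH) (Lpe (K12.f227473 IH) (Lpe (K12.f27258 IH) (Lpr_gf (K10.f198264 IH) (Lpe (f177018 IH) (Lpr_ct (f24482 IH) (Lpr_gf (f500403 IH) (Lpn v1623)))))))))))))).symm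
def v448 : LQ := Led Lsl_bt (LP (LK LD1_c0 LD2_c38 LD3_c61))
theorem f452904 : Led Lsl_bt (LP (LK LD1_c0 LD2_c38 LD3_c61)) = v448 :=
  Lrfl
theorem f452905 : Led Lsl_bf (LP (LK LD1_c0 LD2_c38 LD3_c61)) = v448 :=
  Lgr Lrot24 (Lpr_bt (f452904 IH) (Lpn v448))
theorem f494525 : Led Lsl_ff v448 = v1281 :=
  Lgr Lrot25 (Lpe (f452905 IH) (Lpr_ft (K15.f268237 IH) (Lpr_bt (f494521 IH) (Lpn v1281))))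
theorem f494526 : Led Lsl_ft v448 = v1281 :=
  Lgr Lrot48 (Lpr_ff (f494525 IH) (Lpn v1281))
theorem f494433 : Led Lsl_ft (LP (LK LD1_c1 LD2_c4 LD3_c59)) = (LP (LK LD1_c2 LD2_c16 LD3_c0)) :=
  Lre_f IH (LK LD1_c1 LD2_c4 LD3_c59) (LK LD1_c2 LD2_c16 LD3_c0) Lrfl Lrfl
def v3033 : LQ := Led Lsl_et v448
theorem f536554 : Led Lsl_et v448 = v3033 :=
  Lrfl
theorem f536556 : Led Lsl_ef v448 = v3033 :=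
  Lgr Lrot88 (Lpr_et (f536554 IH) (Lpn v3033))
theorem f99670 : Led Lsl_et (LP (LK LD1_c0 LD2_c29 LD3_c40)) = (LP (LK LD1_c1 LD2_c4 LD3_c59)) :=
  Lre_e IH (LK LD1_c0 LD2_c29 LD3_c40) (LK LD1_c1 LD2_c4 LD3_c59) Lrfl Lrfl
theorem f536557 : Led Lsl_bt v449 = v3033 :=
  Lgr Lrot119 (Lpe (f452909 IH) (Lpr_bf (f452905 IH) (Lpr_ef (f536556 IH) (Lpn v3033))))
theorem f93461 : Led Lsl_bt (LP (LK LD1_c1 LD2_c4 LD3_c56)) = (LP (LK LD1_c0 LD2_c29 LD3_c40)) :=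
  Lre_b IH (LK LD1_c1 LD2_c4 LD3_c56) (LK LD1_c0 LD2_c29 LD3_c40) Lrfl Lrfl
def v1272 : LQ := Led Lsl_gt (LP (LK LD1_c1 LD2_c4 LD3_c56))
theorem f494457 : Led Lsl_gt (LP (LK LD1_c1 LD2_c4 LD3_c56)) = v1272 :=
  Lrfl
theorem f119694 : Led Lsl_bt (LP (LK LD1_c0 LD2_c29 LD3_c40)) = (LP (LK LD1_c1 LD2_c4 LD3_c56)) :=
  Lre_b IH (LK LD1_c0 LD2_c29 LD3_c40) (LK LD1_c1 LD2_c4 LD3_c56) Lrfl Lrfl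
theorem f163577 : Led Lsl_at (LP (LK LD1_c0 LD2_c38 LD3_c6)) = (LP (LK LD1_c1 LD2_c4 LD3_c15)) :=
  Lgr Lrot100 (Lpr_af (K8.f163571 IH) (Lpn (LP (LK LD1_c1 LD2_c4 LD3_c15))))
theorem f164416 : Led Lsl_gt (LP (LK LD1_c1 LD2_c4 LD3_c16)) = (LP (LK LD1_c0 LD2_c29 LD3_c25)) :=
  Lre_g IH (LK LD1_c1 LD2_c4 LD3_c16) (LK LD1_c0 LD2_c29 LD3_c25) Lrfl Lrfl
theorem f424515 : Led Lsl_ff (LP (LK LD1_c0 LD2_c38 LD3_c6)) = (LP (LK LD1_c1 LD2_c4 LD3_c16)) :=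
  Lgr Lrot52 (Lpr_at (f163577 IH) (Lpe (K7.f20545 IH) (Lpe (f164416 IH) (Lpn (LP (LK LD1_c1 LD2_c4 LD3_c16))))))
theorem f424523 : Led Lsl_ft (LP (LK LD1_c0 LD2_c38 LD3_c6)) = (LP (LK LD1_c1 LD2_c4 LD3_c16)) :=
  Lgr Lrot48 (Lpr_ff (f424515 IH) (Lpn (LP (LK LD1_c1 LD2_c4 LD3_c16))))
theorem f26557 : Led Lsl_df (LP (LK LD1_c0 LD2_c38 LD3_c6)) = (LP (LK LD1_c1 LD2_c21 LD3_c43)) :=
  Lgr Lrot38 (Lpr_dt (K8.f26551 IH) (Lpn (LP (LK LD1_c1 LD2_c21 LD3_c43))))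
theorem f203094 : Led Lsl_ff (LP (LK LD1_c4 LD2_c33 LD3_c59)) = (LP (LK LD1_c2 LD2_c51 LD3_c18)) :=
  Lgr Lrot23 (Lpr_ct (K28.f58864 IH) (Lpr_ft (K28.f203090 IH) (Lpr_ct (K7.f26524 IH) (Lpn (LP (LK LD1_c2 LD2_c51 LD3_c18))))))
theorem f203170 : Led Lsl_ft (LP (LK LD1_c2 LD2_c13 LD3_c53)) = (LP (LK LD1_c1 LD2_c21 LD3_c43)) :=
  Lgr Lrot75 (Lpe (K28.f58863 IH) (Lpr_ff (f203094 IH) (Lpe (K8.f26523 IH) (Lpn (LP (LK LD1_c1 LD2_c21 LD3_c43))))))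
theorem f424530 : Led Lsl_df (LP (LK LD1_c2 LD2_c13 LD3_c53)) = (LP (LK LD1_c1 LD2_c4 LD3_c16)) :=
  Lgr Lrot78 (Lpr_ft (f203170 IH) (Lpe (f26557 IH) (Lpr_ft (f424523 IH) (Lpn (LP (LK LD1_c1 LD2_c4 LD3_c16))))))
theorem f58866 : Led Lsl_bt (LP (LK LD1_c2 LD2_c13 LD3_c53)) = (LP (LK LD1_c4 LD2_c33 LD3_c59)) :=
  Lre_b IH (LK LD1_c2 LD2_c13 LD3_c53) (LK LD1_c4 LD2_c33 LD3_c59) Lrfl Lrfl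
theorem f206505 : Led Lsl_bt (LP (LK LD1_c2 LD2_c14 LD3_c23)) = (LP (LK LD1_c1 LD2_c4 LD3_c16)) :=
  Lre_b IH (LK LD1_c2 LD2_c14 LD3_c23) (LK LD1_c1 LD2_c4 LD3_c16) Lrfl Lrfl
theorem f424532 : Led Lsl_dt (LP (LK LD1_c4 LD2_c33 LD3_c59)) = (LP (LK LD1_c2 LD2_c14 LD3_c23)) :=
  Lgr Lrot79 (Lpe (f58866 IH) (Lpr_df (f424530 IH) (Lpe (f206505 IH) (Lpn (LP (LK LD1_c2 LD2_c14 LD3_c23))))))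
theorem f424539 : Led Lsl_gf (LP (LK LD1_c1 LD2_c10 LD3_c49)) = (LP (LK LD1_c2 LD2_c14 LD3_c23)) :=
  Lgr Lrot179 (Lpr_ct (K4.f74360 IH) (Lpr_gt (K2.f72520 IH) (Lpr_ct (K2.f57100 IH) (Lpr_dt (K32.f56897 IH) (Lpe (K2.f72711 IH) (Lpe (K2.f72712 IH) (Lpe (K4.f56783 IH) (Lpr_gf (K28.f150444 IH) (Lpr_dt (f424532 IH) (Lpn (LP (LK LD1_c2 LD2_c14 LD3_c23))))))))))))
theorem f424537 : Led Lsl_df (LP (LK LD1_c4 LD2_c33 LD3_c59)) = (LP (LK LD1_c2 LD2_c14 LD3_c23)) :=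
  Lgr Lrot38 (Lpr_dt (f424532 IH) (Lpn (LP (LK LD1_c2 LD2_c14 LD3_c23))))
theorem f424629 : Led Lsl_cf (LP (LK LD1_c2 LD2_c14 LD3_c23)) = (LP (LK LD1_c1 LD2_c23 LD3_c31)) :=
  Lgr Lrot118 (Lpe (f424537 IH) (Lpr_ct (K28.f58864 IH) (Lpr_dt (K28.f56980 IH) (Lpr_ct (K28.f203100 IH) (Lpr_dt (K28.f94941 IH) (Lpr_ct (K6.f81953 IH) (Lpr_af (K8.f163164 IH) (Lpr_ff (K28.f424622 IH) (Lpr_dt (K28.f137615 IH) (Lpn (LP (LK LD1_c1 LD2_c23 LD3_c31))))))))))))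
theorem f494460 : Led Lsl_bt (LP (LK LD1_c1 LD2_c23 LD3_c31)) = v1272 :=
  Lgr Lrot92 (Lpe (f424629 IH) (Lpe (f424539 IH) (Lpe (K6.f74313 IH) (Lpr_bt (K7.f82029 IH) (Lpe (K7.f148936 IH) (Lpr_ct (K7.f20414 IH) (Lpr_gt (K2.f72254 IH) (Lpe (K7.f79964 IH) (Lpr_bt (f119694 IH) (Lpr_gt (f494457 IH) (Lpn v1272)))))))))))
theorem f494463 : Led Lsl_bf (LP (LK LD1_c1 LD2_c23 LD3_c31)) = v1272 :=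
  Lgr Lrot24 (Lpr_bt (f494460 IH) (Lpn v1272))
def v1252 : LQ := Led Lsl_ct (LP (LK LD1_c1 LD2_c4 LD3_c16))
theorem f494323 : Led Lsl_ct (LP (LK LD1_c1 LD2_c4 LD3_c16)) = v1252 :=
  Lrfl
theorem f494325 : Led Lsl_cf (LP (LK LD1_c1 LD2_c4 LD3_c16)) = v1252 :=
  Lgr Lrot11 (Lpr_ct (f494323 IH) (Lpn v1252))
def v338 : LQ := Led Lsl_bt (LP (LK LD1_c0 LD2_c29 LD3_c24))
theorem f452242 : Led Lsl_bt (LP (LK LD1_c0 LD2_c29 LD3_c24)) = v338 :=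
  Lrfl
theorem f59542 : Led Lsl_bt (LP (LK LD1_c0 LD2_c29 LD3_c25)) = (LP (LK LD1_c0 LD2_c12 LD3_c59)) :=
  Lre_b IH (LK LD1_c0 LD2_c29 LD3_c25) (LK LD1_c0 LD2_c12 LD3_c59) Lrfl Lrfl
theorem f452244 : Led Lsl_cf (LP (LK LD1_c0 LD2_c29 LD3_c25)) = v338 :=
  Lgr Lrot97 (Lpr_bt (f59542 IH) (Lpr_ct (K1.f20527 IH) (Lpr_bt (K1.f20459 IH) (Lpr_ct (K0.f26576 IH) (Lpr_bt (f452242 IH) (Lpn v338))))))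
theorem f452243 : Led Lsl_bf (LP (LK LD1_c0 LD2_c29 LD3_c24)) = v338 :=
  Lgr Lrot24 (Lpr_bt (f452242 IH) (Lpn v338))
theorem f24411 : Led Lsl_et (LP (LK LD1_c0 LD2_c13 LD3_c15)) = (LP (LK LD1_c0 LD2_c13 LD3_c15)) :=
  Lgr Lrot74 (Lpe (K0.f20172 IH) (Lpr_ef (K0.f24409 IH) (Lpe (K0.f13648 IH) (Lpn (LP (LK LD1_c0 LD2_c13 LD3_c15))))))
theorem f37308 : Led Lsl_gt (LP (LK LD1_c0 LD2_c16 LD3_c47)) = (LP (LK LD1_c0 LD2_c7 LD3_c34)) :=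
  Lgr Lrot112 (Lpe (K1.f37124 IH) (Lpr_et (K1.f37302 IH) (Lpr_gf (K4.f37290 IH) (Lpe (K1.f21198 IH) (Lpr_dt (K1.f37104 IH) (Lpe (K1.f37130 IH) (Lpe (K1.f37147 IH) (Lpr_gf (K1.f37275 IH) (Lpe (f24411 IH) (Lpe (K0.f24208 IH) (Lpn (LP (LK LD1_c0 LD2_c7 LD3_c34)))))))))))))
def v412 : LQ := Led Lsl_gt (LP (LK LD1_c0 LD2_c37 LD3_c61))
theorem f452714 : Led Lsl_gt (LP (LK LD1_c0 LD2_c37 LD3_c61)) = v412 :=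
  Lrfl
theorem f494329 : Led Lsl_bf v412 = v1252 :=
  Lgr Lrot34 (Lpe (f452714 IH) (Lpe (f34682 IH) (Lpr_ct (K1.f34681 IH) (Lpe (f37308 IH) (Lpe (K8.f37123 IH) (Lpe (K1.f37984 IH) (Lpr_bf (f452243 IH) (Lpe (f452244 IH) (Lpe (f164416 IH) (Lpr_cf (f494325 IH) (Lpn v1252)))))))))))
theorem f494464 : Led Lsl_ct v412 = v1272 :=
  Lgr Lrot83 (Lpr_bf (f494329 IH) (Lpe (f494323 IH) (Lpe (f206505 IH) (Lpr_cf (f424629 IH) (Lpr_bf (f494463 IH) (Lpn v1272))))))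
def v2947 : LQ := Led Lsl_dt v412
theorem f536269 : Led Lsl_dt v412 = v2947 :=
  Lrfl
theorem f536270 : Led Lsl_df v412 = v2947 :=
  Lgr Lrot38 (Lpr_dt (f536269 IH) (Lpn v2947))
theorem f81200 : Led Lsl_dt (LP (LK LD1_c4 LD2_c23 LD3_c52)) = (LP (LK LD1_c2 LD2_c9 LD3_c20)) :=
  Lre_d IH (LK LD1_c4 LD2_c23 LD3_c52) (LK LD1_c2 LD2_c9 LD3_c20) Lrfl Lrfl
def v396 : LQ := Led Lsl_bt (LP (LK LD1_c0 LD2_c37 LD3_c43))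
theorem f452625 : Led Lsl_bt (LP (LK LD1_c0 LD2_c37 LD3_c43)) = v396 :=
  Lrfl
theorem f37156 : Led Lsl_bt (LP (LK LD1_c1 LD2_c21 LD3_c37)) = (LP (LK LD1_c0 LD2_c37 LD3_c44)) :=
  Lre_b IH (LK LD1_c1 LD2_c21 LD3_c37) (LK LD1_c0 LD2_c37 LD3_c44) Lrfl Lrfl
theorem f452628 : Led Lsl_ff (LP (LK LD1_c1 LD2_c21 LD3_c37)) = v396 :=
  Lgr Lrot25 (Lpr_bt (f37156 IH) (Lpe (K1.f37142 IH) (Lpr_bt (f452625 IH) (Lpn v396))))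
theorem f37161 : Led Lsl_bt (LP (LK LD1_c0 LD2_c40 LD3_c41)) = (LP (LK LD1_c1 LD2_c27 LD3_c57)) :=
  Lre_b IH (LK LD1_c0 LD2_c40 LD3_c41) (LK LD1_c1 LD2_c27 LD3_c57) Lrfl Lrfl
theorem f37162 : Led Lsl_cf (LP (LK LD1_c1 LD2_c21 LD3_c37)) = (LP (LK LD1_c1 LD2_c27 LD3_c57)) :=
  Lgr Lrot97 (Lpr_bt (f37156 IH) (Lpr_ct (K11.f37133 IH) (Lpr_bt (K1.f37157 IH) (Lpr_ct (K1.f36639 IH) (Lpr_bt (f37161 IH) (Lpn (LP (LK LD1_c1 LD2_c27 LD3_c57))))))))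
theorem f445728 : Led Lsl_ct (LP (LK LD1_c1 LD2_c21 LD3_c37)) = (LP (LK LD1_c1 LD2_c27 LD3_c57)) :=
  Lgr Lrot59 (Lpr_cf (f37162 IH) (Lpn (LP (LK LD1_c1 LD2_c27 LD3_c57))))
theorem f81584 : Led Lsl_dt (LP (LK LD1_c3 LD2_c3 LD3_c49)) = (LP (LK LD1_c1 LD2_c27 LD3_c57)) :=
  Lre_d IH (LK LD1_c3 LD2_c3 LD3_c49) (LK LD1_c1 LD2_c27 LD3_c57) Lrfl Lrfl
theorem f81585 : Led Lsl_ff (LP (LK LD1_c2 LD2_c9 LD3_c20)) = (LP (LK LD1_c1 LD2_c27 LD3_c57)) :=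
  Lgr Lrot19 (Lpr_dt (K10.f81178 IH) (Lpr_ft (K24.f81120 IH) (Lpr_dt (f81584 IH) (Lpn (LP (LK LD1_c1 LD2_c27 LD3_c57))))))
theorem f452629 : Led Lsl_ct (LP (LK LD1_c2 LD2_c9 LD3_c20)) = v396 :=
  Lgr Lrot40 (Lpr_ff (f81585 IH) (Lpe (f445728 IH) (Lpr_ff (f452628 IH) (Lpn v396))))
theorem f452626 : Led Lsl_bf (LP (LK LD1_c0 LD2_c37 LD3_c43)) = v396 :=
  Lgr Lrot24 (Lpr_bt (f452625 IH) (Lpn v396))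
theorem f437519 : Led Lsl_gt (LP (LK LD1_c0 LD2_c37 LD3_c43)) = (LP (LK LD1_c0 LD2_c29 LD3_c10)) :=
  Lgr Lrot46 (Lpr_gf (K1.f37149 IH) (Lpr_ft (f437517 IH) (Lpe (f422782 IH) (Lpn (LP (LK LD1_c0 LD2_c29 LD3_c10))))))
theorem f536271 : Led Lsl_gt v935 = v2947 :=
  Lgr Lrot190 (Lpe (f490633 IH) (Lpe (f448927 IH) (Lpe (f422784 IH) (Lpe (f437519 IH) (Lpr_bf (f452626 IH) (Lpe (f452629 IH) (Lpe (f81200 IH) (Lpe (K8.f160665 IH) (Lpr_bf (K8.f160648 IH) (Lpr_cf (K28.f160673 IH) (Lpr_df (K28.f203012 IH) (Lpe (K28.f81600 IH) (Lpe (K6.f137572 IH) (Lpe (K4.f74559 IH) (Lpe (K8.f74709 IH) (Lpe (K28.f137614 IH) (Lpr_bf (f494463 IH) (Lpe (f494464 IH) (Lpr_df (f536270 IH) (Lpn v2947))))))))))))))))))))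
theorem f536754 : v2947 = (LP (LK LD1_c0 LD2_c29 LD3_c15)) :=
  Lefun (Lecon (f536271 IH) (f536674 IH)) (K9.f20769 IH)
theorem f536878 : v412 = (LP (LK LD1_c1 LD2_c4 LD3_c3)) :=
  Lefun (Lecon (Lfl_df (f536270 IH)) (f536754 IH)) (K9.f20770 IH)
theorem f537084 : v1272 = (LP (LK LD1_c2 LD2_c14 LD3_c2)) :=
  Lefun (Lecon (f494464 IH) (f536878 IH)) (K11.f20774 IH)
theorem f537228 : (LP (LK LD1_c1 LD2_c4 LD3_c56)) = v449 :=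
  Lefun (Lecon (Lfl_gt (f494457 IH)) (f537084 IH)) (f452914 IH)
theorem f537548 : v3033 = (LP (LK LD1_c0 LD2_c29 LD3_c40)) :=
  Lefun (Lecon (f536557 IH) (f537228 IH).symm) (f93461 IH)
theorem f537830 : v448 = (LP (LK LD1_c1 LD2_c4 LD3_c59)) :=
  Lefun (Lecon (Lfl_ef (f536556 IH)) (f537548 IH)) (f99670 IH)
theorem f538005 : v1281 = (LP (LK LD1_c2 LD2_c16 LD3_c0)) :=
  Lefun (Lecon (f494526 IH) (f537830 IH)) (f494433 IH)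
theorem f494431 : Led Lsl_ft (LP (LK LD1_c2 LD2_c16 LD3_c0)) = (LP (LK LD1_c1 LD2_c4 LD3_c59)) :=
  Lre_f IH (LK LD1_c2 LD2_c16 LD3_c0) (LK LD1_c1 LD2_c4 LD3_c59) Lrfl Lrfl
theorem f494479 : Led Lsl_at (LP (LK LD1_c1 LD2_c4 LD3_c59)) = (LP (LK LD1_c2 LD2_c15 LD3_c52)) :=
  Lre_a IH (LK LD1_c1 LD2_c4 LD3_c59) (LK LD1_c2 LD2_c15 LD3_c52) Lrfl Lrfl
theorem f541554 : (LP (LK LD1_c2 LD2_c15 LD3_c52)) = v1622 :=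
  (Llr Lrot26 (Lpe (f494479 IH) (Lpe (f494431 IH) (Lpq (f538005 IH) (Lpqs (f541547 IH) (Lpe (f500403 IH) (Lpr_gt (f500401 IH) (Lpn v1622)))))))).symm
def v1475 : LQ := Led Lsl_bt (LP (LK LD1_c1 LD2_c19 LD3_c38))
theorem f495747 : Led Lsl_bt (LP (LK LD1_c1 LD2_c19 LD3_c38)) = v1475 :=
  Lrfl
theorem f24481 : Led Lsl_bt (LP (LK LD1_c1 LD2_c22 LD3_c35)) = (LP (LK LD1_c0 LD2_c38 LD3_c17)) :=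
  Lre_b IH (LK LD1_c1 LD2_c22 LD3_c35) (LK LD1_c0 LD2_c38 LD3_c17) Lrfl Lrfl
theorem f495749 : Led Lsl_ef (LP (LK LD1_c1 LD2_c22 LD3_c35)) = v1475 :=
  Lgr Lrot29 (Lpr_bt (f24481 IH) (Lpe (K16.f176992 IH) (Lpr_bt (f495747 IH) (Lpn v1475))))
theorem f36656 : Led Lsl_bt (LP (LK LD1_c1 LD2_c27 LD3_c47)) = (LP (LK LD1_c3 LD2_c3 LD3_c37)) :=
  Lre_b IH (LK LD1_c1 LD2_c27 LD3_c47) (LK LD1_c3 LD2_c3 LD3_c37) Lrfl Lrfl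
theorem f30704 : Led Lsl_bt (LP (LK LD1_c1 LD2_c56 LD3_c52)) = (LP (LK LD1_c0 LD2_c55 LD3_c13)) :=
  Lre_b IH (LK LD1_c1 LD2_c56 LD3_c52) (LK LD1_c0 LD2_c55 LD3_c13) Lrfl Lrfl
theorem f36657 : Led Lsl_ft (LP (LK LD1_c3 LD2_c3 LD3_c37)) = (LP (LK LD1_c1 LD2_c56 LD3_c52)) :=
  Lgr Lrot75 (Lpe (f36656 IH) (Lpr_ff (K1.f36652 IH) (Lpe (f30704 IH) (Lpn (LP (LK LD1_c1 LD2_c56 LD3_c52))))))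
theorem f59123 : Led Lsl_bt (LP (LK LD1_c0 LD2_c57 LD3_c30)) = (LP (LK LD1_c2 LD2_c0 LD3_c57)) :=
  Lre_b IH (LK LD1_c0 LD2_c57 LD3_c30) (LK LD1_c2 LD2_c0 LD3_c57) Lrfl Lrfl
theorem f198665 : Led Lsl_bt (LP (LK LD1_c2 LD2_c0 LD3_c3)) = (LP (LK LD1_c0 LD2_c56 LD3_c60)) :=
  Lre_b IH (LK LD1_c2 LD2_c0 LD3_c3) (LK LD1_c0 LD2_c56 LD3_c60) Lrfl Lrfl
theorem f272024 : Led Lsl_ft (LP (LK LD1_c2 LD2_c0 LD3_c57)) = (LP (LK LD1_c2 LD2_c0 LD3_c3)) :=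
  Lgr Lrot75 (Lpe (f59123 IH) (Lpr_ff (K16.f272022 IH) (Lpe (f198665 IH) (Lpn (LP (LK LD1_c2 LD2_c0 LD3_c3))))))
theorem f9098 : Led Lsl_bt (LP (LK LD1_c3 LD2_c0 LD3_c21)) = (LP (LK LD1_c1 LD2_c25 LD3_c56)) :=
  Lre_b IH (LK LD1_c3 LD2_c0 LD3_c21) (LK LD1_c1 LD2_c25 LD3_c56) Lrfl Lrfl
theorem f176046 : Led Lsl_df (LP (LK LD1_c3 LD2_c0 LD3_c21)) = (LP (LK LD1_c2 LD2_c0 LD3_c57)) :=
  Lgr Lrot12 (Lpr_bt (f9098 IH) (Lpr_dt (K10.f175922 IH) (Lpr_bt (f59123 IH) (Lpn (LP (LK LD1_c2 LD2_c0 LD3_c57))))))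
theorem f9099 : Led Lsl_ct (LP (LK LD1_c3 LD2_c0 LD3_c21)) = (LP (LK LD1_c6 LD2_c8 LD3_c15)) :=
  Lre_c IH (LK LD1_c3 LD2_c0 LD3_c21) (LK LD1_c6 LD2_c8 LD3_c15) Lrfl Lrfl
theorem f176050 : Led Lsl_dt (LP (LK LD1_c6 LD2_c8 LD3_c15)) = (LP (LK LD1_c11 LD2_c58 LD3_c23)) :=
  Lre_d IH (LK LD1_c6 LD2_c8 LD3_c15) (LK LD1_c11 LD2_c58 LD3_c23) Lrfl Lrfl
theorem f37859 : Led Lsl_gt (LP (LK LD1_c4 LD2_c35 LD3_c58)) = (LP (LK LD1_c2 LD2_c15 LD3_c10)) :=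
  Lre_g IH (LK LD1_c4 LD2_c35 LD3_c58) (LK LD1_c2 LD2_c15 LD3_c10) Lrfl Lrfl
theorem f204472 : Led Lsl_ft (LP (LK LD1_c1 LD2_c6 LD3_c32)) = (LP (LK LD1_c2 LD2_c18 LD3_c61)) :=
  Lre_f IH (LK LD1_c1 LD2_c6 LD3_c32) (LK LD1_c2 LD2_c18 LD3_c61) Lrfl Lrfl
theorem f59111 : Led Lsl_gt (LP (LK LD1_c1 LD2_c6 LD3_c32)) = (LP (LK LD1_c2 LD2_c18 LD3_c59)) :=
  Lre_g IH (LK LD1_c1 LD2_c6 LD3_c32) (LK LD1_c2 LD2_c18 LD3_c59) Lrfl Lrfl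
theorem f207319 : Led Lsl_ft (LP (LK LD1_c4 LD2_c37 LD3_c60)) = (LP (LK LD1_c2 LD2_c16 LD3_c7)) :=
  Lre_f IH (LK LD1_c4 LD2_c37 LD3_c60) (LK LD1_c2 LD2_c16 LD3_c7) Lrfl Lrfl
def v1710 : LQ := Led Lsl_dt (LP (LK LD1_c1 LD2_c24 LD3_c24))
theorem f500974 : Led Lsl_dt (LP (LK LD1_c1 LD2_c24 LD3_c24)) = v1710 :=
  Lrfl
theorem f69212 : Led Lsl_et (LP (LK LD1_c0 LD2_c38 LD3_c55)) = (LP (LK LD1_c1 LD2_c24 LD3_c24)) :=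
  Lre_e IH (LK LD1_c0 LD2_c38 LD3_c55) (LK LD1_c1 LD2_c24 LD3_c24) Lrfl Lrfl
theorem f69241 : Led Lsl_et (LP (LK LD1_c0 LD2_c42 LD3_c9)) = (LP (LK LD1_c0 LD2_c18 LD3_c49)) :=
  Lre_e IH (LK LD1_c0 LD2_c42 LD3_c9) (LK LD1_c0 LD2_c18 LD3_c49) Lrfl Lrfl
def v480 : LQ := Led Lsl_dt (LP (LK LD1_c0 LD2_c42 LD3_c9))
theorem f453548 : Led Lsl_dt (LP (LK LD1_c0 LD2_c42 LD3_c9)) = v480 :=
  Lrfl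
theorem f453550 : Led Lsl_df (LP (LK LD1_c0 LD2_c42 LD3_c9)) = v480 :=
  Lgr Lrot38 (Lpr_dt (f453548 IH) (Lpn v480))
theorem f500977 : Led Lsl_ef v480 = v1710 :=
  Lgr Lrot73 (Lpe (f453550 IH) (Lpr_et (f69241 IH) (Lpe (K6.f69199 IH) (Lpr_et (f69212 IH) (Lpr_dt (f500974 IH) (Lpn v1710))))))
theorem f500980 : Led Lsl_et v480 = v1710 :=
  Lgr Lrot87 (Lpr_ef (f500977 IH) (Lpn v1710))
theorem f452281 : Led Lsl_df (LP (LK LD1_c1 LD2_c5 LD3_c0)) = K11.v342 :=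
  Lgr Lrot155 (Lpr_gt (K7.f58856 IH) (Lpr_ct (K0.f26379 IH) (Lpr_gt (K6.f58895 IH) (Lpr_ct (K6.f80098 IH) (Lpe (K8.f142039 IH) (Lpr_cf (K8.f142076 IH) (Lpe (K8.f27054 IH) (Lpe (K4.f27053 IH) (Lpr_gf (K11.f452277 IH) (Lpn K11.v342))))))))))
def v2808 : LQ := Led Lsl_ct K11.v342
theorem f535718 : Led Lsl_ct K11.v342 = v2808 :=
  Lrfl
theorem f535720 : Led Lsl_cf K11.v342 = v2808 :=
  Lgr Lrot11 (Lpr_ct (f535718 IH) (Lpn v2808))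
theorem f169788 : Led Lsl_ct (LP (LK LD1_c1 LD2_c31 LD3_c8)) = (LP (LK LD1_c0 LD2_c42 LD3_c9)) :=
  Lre_c IH (LK LD1_c1 LD2_c31 LD3_c8) (LK LD1_c0 LD2_c42 LD3_c9) Lrfl Lrfl
def v1810 : LQ := Led Lsl_gt (LP (LK LD1_c1 LD2_c27 LD3_c57))
theorem f503043 : Led Lsl_gt (LP (LK LD1_c1 LD2_c27 LD3_c57)) = v1810 :=
  Lrfl
theorem f535725 : Led Lsl_bf v1810 = v2808 :=
  Lgr Lrot34 (Lpe (f503043 IH) (Lpe (f37161 IH) (Lpr_ct (K1.f37184 IH) (Lpe (K1.f21183 IH) (Lpe (K1.f36615 IH) (Lpr_gf (K1.f59355 IH) (Lpe (K1.f56183 IH) (Lpr_ct (K7.f26778 IH) (Lpr_gf (K11.f452277 IH) (Lpr_cf (f535720 IH) (Lpn v2808)))))))))))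
theorem f535726 : Led Lsl_bt v1810 = v2808 :=
  Lgr Lrot127 (Lpr_bf (f535725 IH) (Lpn v2808))
theorem f205197 : Led Lsl_bt (LP (LK LD1_c0 LD2_c42 LD3_c3)) = (LP (LK LD1_c1 LD2_c31 LD3_c8)) :=
  Lre_b IH (LK LD1_c0 LD2_c42 LD3_c3) (LK LD1_c1 LD2_c31 LD3_c8) Lrfl Lrfl
def v472 : LQ := Led Lsl_gf (LP (LK LD1_c0 LD2_c42 LD3_c3))
theorem f453522 : Led Lsl_gf (LP (LK LD1_c0 LD2_c42 LD3_c3)) = v472 :=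
  Lrfl
def v261 : LQ := Led Lsl_gt v79
theorem f451424 : Led Lsl_gt v79 = v261 :=
  Lrfl
theorem f448955 : Led Lsl_ft v79 = v116 :=
  Lgr Lrot48 (Lpr_ff (f448954 IH) (Lpn v116))
theorem f448956 : Led Lsl_af v116 = v116 :=
  Lgr Lrot45 (Lpe (f448954 IH) (Lpr_at (f446796 IH) (Lpr_ft (f448955 IH) (Lpn v116))))
theorem f451425 : Led Lsl_gf v116 = v261 :=
  Lgr Lrot76 (Lpr_af (f448956 IH) (Lpe (f448955 IH) (Lpr_gt (f451424 IH) (Lpn v261))))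
theorem f446798 : Led Lsl_dt (LP (LK LD1_c0 LD2_c29 LD3_c11)) = v79 :=
  Lgr Lrot77 (Lpe (K11.f37100 IH) (Lpe (K1.f37094 IH) (Lpe (K1.f21198 IH) (Lpe (K2.f37155 IH) (Lpr_ef (f446795 IH) (Lpn v79))))))
theorem f451427 : Led Lsl_dt (LP (LK LD1_c1 LD2_c19 LD3_c40)) = v261 :=
  Lgr Lrot37 (Lpr_et (f396359 IH) (Lpr_gt (f315132 IH) (Lpr_dt (K10.f177642 IH) (Lpr_gt (f192355 IH) (Lpe (K2.f37110 IH) (Lpr_et (K2.f37114 IH) (Lpr_gt (K1.f37258 IH) (Lpe (f37266 IH) (Lpr_dt (f446798 IH) (Lpr_gt (f451424 IH) (Lpn v261)))))))))))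
theorem f451430 : Led Lsl_ef (LP (LK LD1_c0 LD2_c33 LD3_c41)) = v261 :=
  Lgr Lrot73 (Lpr_dt (K19.f37323 IH) (Lpr_et (K16.f182019 IH) (Lpr_dt (f165505 IH) (Lpe (f396355 IH) (Lpr_dt (f451427 IH) (Lpn v261))))))
theorem f451432 : Led Lsl_bt (LP (LK LD1_c1 LD2_c6 LD3_c26)) = v261 :=
  Lgr Lrot119 (Lpe (K13.f210873 IH) (Lpe (f204980 IH) (Lpr_ef (f451430 IH) (Lpn v261))))
theorem f493994 : Led Lsl_ct (LP (LK LD1_c1 LD2_c6 LD3_c26)) = K32.v1212 :=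
  Lgr Lrot63 (Lpr_bt (f451432 IH) (Lpe (f451425 IH) (Lpe (f448952 IH) (Lpr_ct (f448957 IH) (Lpe (f448960 IH) (Lpe (K11.f25986 IH) (Lpr_bt (f210565 IH) (Lpe (K32.f210573 IH) (Lpr_ct (K13.f59381 IH) (Lpr_gt (K32.f493990 IH) (Lpn K32.v1212)))))))))))
def v1103 : LQ := Led Lsl_bt v262
theorem f491507 : Led Lsl_bt v262 = v1103 :=
  Lrfl
theorem f451437 : Led Lsl_et (LP (LK LD1_c0 LD2_c36 LD3_c26)) = v262 :=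
  Lgr Lrot185 (Lpe (f313416 IH) (Lpr_gf (K19.f313418 IH) (Lpe (K13.f193678 IH) (Lpr_gf (K13.f237322 IH) (Lpe (K1.f3043 IH) (Lpr_dt (K1.f3051 IH) (Lpr_gf (K1.f37098 IH) (Lpe (K2.f37155 IH) (Lpr_et (f446792 IH) (Lpr_gf (f451433 IH) (Lpn v262)))))))))))
theorem f451439 : Led Lsl_ef (LP (LK LD1_c0 LD2_c36 LD3_c26)) = v262 :=
  Lgr Lrot88 (Lpr_et (f451437 IH) (Lpn v262))
theorem f313547 : Led Lsl_ft (LP (LK LD1_c0 LD2_c36 LD3_c26)) = (LP (LK LD1_c0 LD2_c36 LD3_c27)) :=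
  Lgr Lrot54 (Lpe (K19.f313422 IH) (Lpe (K19.f313387 IH) (Lpr_df (K19.f313539 IH) (Lpn (LP (LK LD1_c0 LD2_c36 LD3_c27))))))
theorem f451426 : Led Lsl_et (LP (LK LD1_c0 LD2_c33 LD3_c41)) = v261 :=
  Lgr Lrot122 (Lpr_dt (K19.f37323 IH) (Lpr_gt (K9.f37322 IH) (Lpe (K16.f37281 IH) (Lpr_et (f20524 IH) (Lpe (K1.f37310 IH) (Lpr_dt (K1.f37122 IH) (Lpr_gt (K1.f36291 IH) (Lpe (K2.f37155 IH) (Lpr_et (f446792 IH) (Lpr_gt (f451424 IH) (Lpn v261)))))))))))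
theorem f451441 : Led Lsl_ft v261 = v262 :=
  Lgr Lrot86 (Lpe (f451426 IH) (Lpe (K19.f313569 IH) (Lpr_ef (K19.f313557 IH) (Lpe (f313547 IH) (Lpr_ef (f451439 IH) (Lpn v262))))))
theorem f491511 : Led Lsl_ff (LP (LK LD1_c1 LD2_c6 LD3_c26)) = v1103 :=
  Lgr Lrot25 (Lpr_bt (f451432 IH) (Lpr_ft (f451441 IH) (Lpr_bt (f491507 IH) (Lpn v1103))))
def v941 : LQ := Led Lsl_ft v113
theorem f490660 : Led Lsl_ft v113 = v941 :=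
  Lrfl
theorem f490662 : Led Lsl_ff v113 = v941 :=
  Lgr Lrot3 (Lpr_ft (f490660 IH) (Lpn v941))
theorem f448933 : Led Lsl_at v113 = v113 :=
  Lgr Lrot80 (Lpe (f448930 IH) (Lpe (f437509 IH) (Lpr_ef (f448932 IH) (Lpn v113))))
theorem f490665 : Led Lsl_gf v939 = v941 :=
  Lgr Lrot47 (Lpe (f490649 IH) (Lpe (f448933 IH) (Lpr_ff (f490662 IH) (Lpn v941))))
theorem f490664 : Led Lsl_ct v116 = v941 :=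
  Lgr Lrot40 (Lpe (f448955 IH) (Lpr_cf (f448931 IH) (Lpr_ff (f490662 IH) (Lpn v941))))
theorem f448953 : Led Lsl_bf (LP (LK LD1_c0 LD2_c16 LD3_c56)) = v116 :=
  Lgr Lrot24 (Lpr_bt (f448952 IH) (Lpn v116))
theorem f491513 : Led Lsl_gf (LP (LK LD1_c0 LD2_c55 LD3_c22)) = v1103 :=
  Lgr Lrot181 (Lpr_ct (K4.f80644 IH) (Lpe (K14.f255526 IH) (Lpe (K11.f59390 IH) (Lpr_bt (K11.f205324 IH) (Lpe (K9.f146314 IH) (Lpr_bf (f448953 IH) (Lpr_ct (f490664 IH) (Lpe (f490665 IH) (Lpe (f490651 IH) (Lpr_bt (f491507 IH) (Lpn v1103)))))))))))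
theorem f30804 : Led Lsl_et (LP (LK LD1_c0 LD2_c11 LD3_c11)) = (LP (LK LD1_c0 LD2_c25 LD3_c3)) :=
  Lre_e IH (LK LD1_c0 LD2_c11 LD3_c11) (LK LD1_c0 LD2_c25 LD3_c3) Lrfl Lrfl
theorem f172740 : Led Lsl_ct (LP (LK LD1_c1 LD2_c10 LD3_c30)) = (LP (LK LD1_c0 LD2_c32 LD3_c40)) :=
  Lre_c IH (LK LD1_c1 LD2_c10 LD3_c30) (LK LD1_c0 LD2_c32 LD3_c40) Lrfl Lrfl
theorem f313436 : Led Lsl_gf (LP (LK LD1_c1 LD2_c57 LD3_c28)) = (LP (LK LD1_c0 LD2_c56 LD3_c32)) :=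
  Lgr Lrot147 (Lpr_ct (K19.f196987 IH) (Lpr_gt (K19.f313424 IH) (Lpe (K12.f196362 IH) (Lpr_df (K12.f196369 IH) (Lpe (f172740 IH) (Lpr_gf (K13.f197803 IH) (Lpe (K1.f6950 IH) (Lpe (K10.f197799 IH) (Lpe (K12.f211493 IH) (Lpn (LP (LK LD1_c0 LD2_c56 LD3_c32))))))))))))
theorem f315094 : Led Lsl_dt (LP (LK LD1_c1 LD2_c19 LD3_c1)) = (LP (LK LD1_c1 LD2_c57 LD3_c28)) :=
  Lgr Lrot42 (Lpr_df (K19.f315092 IH) (Lpn (LP (LK LD1_c1 LD2_c57 LD3_c28))))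
theorem f491515 : Led Lsl_et (LP (LK LD1_c1 LD2_c19 LD3_c1)) = v1103 :=
  Lgr Lrot185 (Lpr_dt (f315094 IH) (Lpr_gf (f313436 IH) (Lpr_df (K12.f211498 IH) (Lpr_gf (K12.f197801 IH) (Lpe (f30804 IH) (Lpr_dt (K1.f29324 IH) (Lpe (K1.f29321 IH) (Lpe (K4.f29560 IH) (Lpr_et (K11.f80534 IH) (Lpr_gf (f491513 IH) (Lpn v1103)))))))))))
theorem f30802 : Led Lsl_et (LP (LK LD1_c0 LD2_c25 LD3_c7)) = (LP (LK LD1_c0 LD2_c55 LD3_c19)) :=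
  Lre_e IH (LK LD1_c0 LD2_c25 LD3_c7) (LK LD1_c0 LD2_c55 LD3_c19) Lrfl Lrfl
theorem f453524 : Led Lsl_et (LP (LK LD1_c2 LD2_c8 LD3_c41)) = v472 :=
  Lgr Lrot185 (Lpr_dt (K13.f173288 IH) (Lpe (K13.f238822 IH) (Lpe (K13.f196305 IH) (Lpe (K12.f196298 IH) (Lpe (f30802 IH) (Lpr_dt (K1.f30093 IH) (Lpe (K4.f70439 IH) (Lpe (K4.f36309 IH) (Lpr_et (K13.f70532 IH) (Lpr_gf (f453522 IH) (Lpn v472)))))))))))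
theorem f453526 : Led Lsl_ef (LP (LK LD1_c2 LD2_c8 LD3_c41)) = v472 :=
  Lgr Lrot88 (Lpr_et (f453524 IH) (Lpn v472))
theorem f491517 : Led Lsl_cf v472 = v1103 :=
  Lgr Lrot39 (Lpe (f453526 IH) (Lpe (K13.f173286 IH) (Lpr_et (f491515 IH) (Lpn v1103))))
theorem f491519 : Led Lsl_ct v472 = v1103 :=
  Lgr Lrot59 (Lpr_cf (f491517 IH) (Lpn v1103))
theorem f493996 : Led Lsl_ff v472 = K32.v1212 :=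
  Lgr Lrot23 (Lpr_ct (f491519 IH) (Lpe (f491511 IH) (Lpr_ct (f493994 IH) (Lpn K32.v1212))))
theorem f80353 : Led Lsl_bt (LP (LK LD1_c1 LD2_c27 LD3_c57)) = (LP (LK LD1_c0 LD2_c40 LD3_c41)) :=
  Lre_b IH (LK LD1_c1 LD2_c27 LD3_c57) (LK LD1_c0 LD2_c40 LD3_c41) Lrfl Lrfl
theorem f81107 : Led Lsl_ft (LP (LK LD1_c2 LD2_c9 LD3_c20)) = (LP (LK LD1_c1 LD2_c27 LD3_c57)) :=
  Lgr Lrot75 (Lpe (K10.f80302 IH) (Lpr_ff (K10.f80349 IH) (Lpe (f80353 IH) (Lpn (LP (LK LD1_c1 LD2_c27 LD3_c57))))))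
theorem f80303 : Led Lsl_cf (LP (LK LD1_c0 LD2_c30 LD3_c21)) = (LP (LK LD1_c1 LD2_c1 LD3_c49)) :=
  Lgr Lrot11 (Lpr_ct (K2.f80298 IH) (Lpn (LP (LK LD1_c1 LD2_c1 LD3_c49))))
theorem f36570 : Led Lsl_bt (LP (LK LD1_c2 LD2_c9 LD3_c20)) = (LP (LK LD1_c1 LD2_c1 LD3_c49)) :=
  Lre_b IH (LK LD1_c2 LD2_c9 LD3_c20) (LK LD1_c1 LD2_c1 LD3_c49) Lrfl Lrfl
theorem f452627 : Led Lsl_cf (LP (LK LD1_c2 LD2_c9 LD3_c20)) = v396 :=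
  Lgr Lrot97 (Lpr_bt (f36570 IH) (Lpe (f80303 IH) (Lpe (K11.f69690 IH) (Lpr_ct (K1.f37107 IH) (Lpr_bt (f452625 IH) (Lpn v396))))))
def v2916 : LQ := Led Lsl_dt v396
theorem f536176 : Led Lsl_dt v396 = v2916 :=
  Lrfl
theorem f536178 : Led Lsl_df v396 = v2916 :=
  Lgr Lrot38 (Lpr_dt (f536176 IH) (Lpn v2916))
theorem f452630 : Led Lsl_ft (LP (LK LD1_c1 LD2_c21 LD3_c37)) = v396 :=
  Lgr Lrot48 (Lpr_ff (f452628 IH) (Lpn v396))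
def v1558 : LQ := Led Lsl_dt (LP (LK LD1_c1 LD2_c21 LD3_c37))
theorem f496253 : Led Lsl_dt (LP (LK LD1_c1 LD2_c21 LD3_c37)) = v1558 :=
  Lrfl
theorem f496255 : Led Lsl_df (LP (LK LD1_c1 LD2_c21 LD3_c37)) = v1558 :=
  Lgr Lrot38 (Lpr_dt (f496253 IH) (Lpn v1558))
theorem f536179 : Led Lsl_ff v1558 = v2916 :=
  Lgr Lrot19 (Lpe (f496255 IH) (Lpr_ft (f452630 IH) (Lpr_dt (f536176 IH) (Lpn v2916))))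
theorem f37265 : Led Lsl_bt (LP (LK LD1_c0 LD2_c37 LD3_c44)) = (LP (LK LD1_c1 LD2_c21 LD3_c37)) :=
  Lre_b IH (LK LD1_c0 LD2_c37 LD3_c44) (LK LD1_c1 LD2_c21 LD3_c37) Lrfl Lrfl
def v398 : LQ := Led Lsl_dt (LP (LK LD1_c0 LD2_c37 LD3_c44))
theorem f452636 : Led Lsl_dt (LP (LK LD1_c0 LD2_c37 LD3_c44)) = v398 :=
  Lrfl
theorem f452637 : Led Lsl_df (LP (LK LD1_c0 LD2_c37 LD3_c44)) = v398 :=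
  Lgr Lrot38 (Lpr_dt (f452636 IH) (Lpn v398))
theorem f496254 : Led Lsl_bf v398 = v1558 :=
  Lgr Lrot93 (Lpe (f452637 IH) (Lpr_bt (f37265 IH) (Lpr_dt (f496253 IH) (Lpn v1558))))
theorem f37134 : Led Lsl_ft (LP (LK LD1_c0 LD2_c37 LD3_c43)) = (LP (LK LD1_c0 LD2_c37 LD3_c44)) :=
  Lgr Lrot4 (Lpe (K1.f37107 IH) (Lpr_ff (K1.f37131 IH) (Lpe (K11.f37133 IH) (Lpn (LP (LK LD1_c0 LD2_c37 LD3_c44))))))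
def v397 : LQ := Led Lsl_dt (LP (LK LD1_c0 LD2_c37 LD3_c43))
theorem f452631 : Led Lsl_dt (LP (LK LD1_c0 LD2_c37 LD3_c43)) = v397 :=
  Lrfl
theorem f452632 : Led Lsl_df (LP (LK LD1_c0 LD2_c37 LD3_c43)) = v397 :=
  Lgr Lrot38 (Lpr_dt (f452631 IH) (Lpn v397))
theorem f452638 : Led Lsl_ff v397 = v398 :=
  Lgr Lrot19 (Lpe (f452632 IH) (Lpr_ft (f37134 IH) (Lpr_dt (f452636 IH) (Lpn v398))))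
theorem f536180 : Led Lsl_bt v397 = v2916 :=
  Lgr Lrot35 (Lpr_ff (f452638 IH) (Lpr_bf (f496254 IH) (Lpr_ff (f536179 IH) (Lpn v2916))))
theorem f396357 : Led Lsl_bt (LP (LK LD1_c1 LD2_c19 LD3_c40)) = (LP (LK LD1_c2 LD2_c18 LD3_c51)) :=
  Lgr Lrot119 (Lpr_ef (f396355 IH) (Lpr_bf (f315134 IH) (Lpe (K20.f242587 IH) (Lpn (LP (LK LD1_c2 LD2_c18 LD3_c51))))))
def v1476 : LQ := Led Lsl_ct (LP (LK LD1_c1 LD2_c19 LD3_c40))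
theorem f495751 : Led Lsl_ct (LP (LK LD1_c1 LD2_c19 LD3_c40)) = v1476 :=
  Lrfl
theorem f495752 : Led Lsl_cf (LP (LK LD1_c1 LD2_c19 LD3_c40)) = v1476 :=
  Lgr Lrot11 (Lpr_ct (f495751 IH) (Lpn v1476))
theorem f452639 : Led Lsl_cf v397 = v398 :=
  Lgr Lrot118 (Lpe (f452632 IH) (Lpr_ct (K1.f37113 IH) (Lpe (K1.f37108 IH) (Lpr_ct (K0.f8268 IH) (Lpr_dt (K1.f37105 IH) (Lpr_ct (K1.f37107 IH) (Lpr_af (K1.f37126 IH) (Lpr_ff (K1.f37142 IH) (Lpr_dt (f452636 IH) (Lpn v398))))))))))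
theorem f495753 : Led Lsl_ef v1405 = v1476 :=
  Lgr Lrot28 (Lpe (f495392 IH) (Lpe (f396355 IH) (Lpr_ct (f495751 IH) (Lpn v1476))))
theorem f536620 : v1476 = v398 :=
  (Llr Lrot114 (Lpe (f495753 IH) (Lpe (f495393 IH) (Lpr_ef (f494606 IH) (Lpr_dt (f536616 IH) (Lpr_gt (f495680 IH) (Lpr_df (f535910 IH) (Lpe (f535911 IH) (Lpe (f452406 IH) (Lpr_dt (f37096 IH) (Lpr_gt (K11.f37277 IH) (Lpr_df (f452637 IH) (Lpn v398))))))))))))).symm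
theorem f536628 : (LP (LK LD1_c1 LD2_c19 LD3_c40)) = v397 :=
  Lefun (Lecon (Lfl_cf (f495752 IH)) (f536620 IH)) (Lfl_cf (f452639 IH))
theorem f536664 : v2916 = (LP (LK LD1_c2 LD2_c18 LD3_c51)) :=
  Lefun (Lecon (f536180 IH) (f536628 IH).symm) (f396357 IH)
theorem f536729 : v396 = (LP (LK LD1_c1 LD2_c6 LD3_c26)) :=
  Lefun (Lecon (Lfl_df (f536178 IH)) (f536664 IH)) (K13.f59147 IH)
theorem f536830 : (LP (LK LD1_c2 LD2_c9 LD3_c20)) = K32.v1212 :=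
  Lefun (Lecon (Lfl_cf (f452627 IH)) (f536729 IH)) (f493994 IH)
theorem f537049 : v472 = (LP (LK LD1_c1 LD2_c27 LD3_c57)) :=
  Lefun (Lecon (Lfl_ff (f493996 IH)) (f536830 IH).symm) (f81107 IH)
theorem f537190 : (LP (LK LD1_c0 LD2_c42 LD3_c3)) = v1810 :=
  Lefun (Lecon (Lfl_gf (f453522 IH)) (f537049 IH)) (f503043 IH)
theorem f537465 : v2808 = (LP (LK LD1_c1 LD2_c31 LD3_c8)) :=
  Lefun (Lecon (f535726 IH) (f537190 IH).symm) (f205197 IH)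
theorem f537794 : K11.v342 = (LP (LK LD1_c0 LD2_c42 LD3_c9)) :=
  Lefun (Lecon (Lfl_cf (f535720 IH)) (f537465 IH)) (f169788 IH)
theorem f537964 : (LP (LK LD1_c1 LD2_c5 LD3_c0)) = v480 :=
  Lefun (Lecon (Lfl_df (f452281 IH)) (f537794 IH)) (f453548 IH)
theorem f538049 : v1710 = (LP (LK LD1_c2 LD2_c16 LD3_c7)) :=
  Lefun (Lecon (f500980 IH) (f537964 IH).symm) (K11.f207315 IH)
theorem f500976 : Led Lsl_df (LP (LK LD1_c1 LD2_c24 LD3_c24)) = v1710 :=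
  Lgr Lrot38 (Lpr_dt (f500974 IH) (Lpn v1710))
theorem f204509 : Led Lsl_ft (LP (LK LD1_c1 LD2_c24 LD3_c24)) = (LP (LK LD1_c2 LD2_c57 LD3_c20)) :=
  Lre_f IH (LK LD1_c1 LD2_c24 LD3_c24) (LK LD1_c2 LD2_c57 LD3_c20) Lrfl Lrfl
theorem f538056 : Led Lsl_df (LP (LK LD1_c4 LD2_c37 LD3_c60)) = (LP (LK LD1_c2 LD2_c57 LD3_c20)) :=
  Lgr Lrot78 (Lpr_ft (f207319 IH) (Lpq (f538049 IH) (Lpe (f500976 IH) (Lpr_ft (f204509 IH) (Lpn (LP (LK LD1_c2 LD2_c57 LD3_c20)))))))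
theorem f148799 : Led Lsl_et (LP (LK LD1_c4 LD2_c37 LD3_c57)) = (LP (LK LD1_c2 LD2_c16 LD3_c6)) :=
  Lre_e IH (LK LD1_c4 LD2_c37 LD3_c57) (LK LD1_c2 LD2_c16 LD3_c6) Lrfl Lrfl
theorem f207303 : Led Lsl_ft (LP (LK LD1_c9 LD2_c11 LD3_c33)) = (LP (LK LD1_c4 LD2_c37 LD3_c57)) :=
  Lre_f IH (LK LD1_c9 LD2_c11 LD3_c33) (LK LD1_c4 LD2_c37 LD3_c57) Lrfl Lrfl
theorem f141890 : Led Lsl_et (LP (LK LD1_c1 LD2_c36 LD3_c35)) = (LP (LK LD1_c3 LD2_c20 LD3_c26)) :=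
  Lre_e IH (LK LD1_c1 LD2_c36 LD3_c35) (LK LD1_c3 LD2_c20 LD3_c26) Lrfl Lrfl
theorem f207201 : Led Lsl_ft (LP (LK LD1_c3 LD2_c20 LD3_c26)) = (LP (LK LD1_c6 LD2_c44 LD3_c39)) :=
  Lre_f IH (LK LD1_c3 LD2_c20 LD3_c26) (LK LD1_c6 LD2_c44 LD3_c39) Lrfl Lrfl
theorem f207304 : Led Lsl_ef (LP (LK LD1_c9 LD2_c11 LD3_c33)) = (LP (LK LD1_c6 LD2_c44 LD3_c39)) :=
  Lgr Lrot21 (Lpr_ft (f207303 IH) (Lpr_et (f148799 IH) (Lpr_ft (K11.f207293 IH) (Lpr_et (f141890 IH) (Lpr_ft (f207201 IH) (Lpn (LP (LK LD1_c6 LD2_c44 LD3_c39))))))))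
theorem f207307 : Led Lsl_ct (LP (LK LD1_c9 LD2_c11 LD3_c33)) = (LP (LK LD1_c4 LD2_c37 LD3_c60)) :=
  Lre_c IH (LK LD1_c9 LD2_c11 LD3_c33) (LK LD1_c4 LD2_c37 LD3_c60) Lrfl Lrfl
theorem f207155 : Led Lsl_ct (LP (LK LD1_c3 LD2_c20 LD3_c29)) = (LP (LK LD1_c6 LD2_c44 LD3_c39)) :=
  Lre_c IH (LK LD1_c3 LD2_c20 LD3_c29) (LK LD1_c6 LD2_c44 LD3_c39) Lrfl Lrfl
theorem f207308 : Led Lsl_et (LP (LK LD1_c4 LD2_c37 LD3_c60)) = (LP (LK LD1_c3 LD2_c20 LD3_c29)) :=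
  Lgr Lrot158 (Lpe (f207307 IH) (Lpr_ef (f207304 IH) (Lpe (f207155 IH) (Lpn (LP (LK LD1_c3 LD2_c20 LD3_c29))))))
theorem f207156 : Led Lsl_dt (LP (LK LD1_c3 LD2_c20 LD3_c29)) = (LP (LK LD1_c6 LD2_c44 LD3_c44)) :=
  Lre_d IH (LK LD1_c3 LD2_c20 LD3_c29) (LK LD1_c6 LD2_c44 LD3_c44) Lrfl Lrfl
theorem f204493 : Led Lsl_et (LP (LK LD1_c4 LD2_c38 LD3_c37)) = (LP (LK LD1_c2 LD2_c57 LD3_c20)) :=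
  Lgr Lrot74 (Lpe (K11.f150487 IH) (Lpr_ef (K11.f204489 IH) (Lpe (K32.f204210 IH) (Lpn (LP (LK LD1_c2 LD2_c57 LD3_c20))))))
theorem f150493 : Led Lsl_dt (LP (LK LD1_c9 LD2_c13 LD3_c6)) = (LP (LK LD1_c4 LD2_c38 LD3_c37)) :=
  Lre_d IH (LK LD1_c9 LD2_c13 LD3_c6) (LK LD1_c4 LD2_c38 LD3_c37) Lrfl Lrfl
theorem f538064 : Led Lsl_et (LP (LK LD1_c6 LD2_c44 LD3_c44)) = (LP (LK LD1_c9 LD2_c13 LD3_c6)) :=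
  Lgr Lrot71 (Lpe (f207156 IH) (Lpe (f207308 IH) (Lpr_df (f538056 IH) (Lpe (f204493 IH) (Lpe (f150493 IH) (Lpn (LP (LK LD1_c9 LD2_c13 LD3_c6))))))))
theorem f207238 : Led Lsl_ft (LP (LK LD1_c3 LD2_c20 LD3_c28)) = (LP (LK LD1_c6 LD2_c44 LD3_c44)) :=
  Lre_f IH (LK LD1_c3 LD2_c20 LD3_c28) (LK LD1_c6 LD2_c44 LD3_c44) Lrfl Lrfl
theorem f26846 : Led Lsl_ft (LP (LK LD1_c9 LD2_c13 LD3_c6)) = (LP (LK LD1_c4 LD2_c38 LD3_c36)) :=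
  Lre_f IH (LK LD1_c9 LD2_c13 LD3_c6) (LK LD1_c4 LD2_c38 LD3_c36) Lrfl Lrfl
theorem f26847 : Led Lsl_ft (LP (LK LD1_c2 LD2_c17 LD3_c49)) = (LP (LK LD1_c4 LD2_c41 LD3_c31)) :=
  Lre_f IH (LK LD1_c2 LD2_c17 LD3_c49) (LK LD1_c4 LD2_c41 LD3_c31) Lrfl Lrfl
theorem f538071 : Led Lsl_ef (LP (LK LD1_c3 LD2_c20 LD3_c28)) = (LP (LK LD1_c4 LD2_c41 LD3_c31)) :=
  Lgr Lrot21 (Lpr_ft (f207238 IH) (Lpr_et (f538064 IH) (Lpr_ft (f26846 IH) (Lpr_et (K8.f26829 IH) (Lpr_ft (f26847 IH) (Lpn (LP (LK LD1_c4 LD2_c41 LD3_c31))))))))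
theorem f538079 : Led Lsl_et (LP (LK LD1_c3 LD2_c20 LD3_c28)) = (LP (LK LD1_c4 LD2_c41 LD3_c31)) :=
  Lgr Lrot87 (Lpr_ef (f538071 IH) (Lpn (LP (LK LD1_c4 LD2_c41 LD3_c31))))
theorem f207193 : Led Lsl_ct (LP (LK LD1_c6 LD2_c44 LD3_c43)) = (LP (LK LD1_c3 LD2_c20 LD3_c28)) :=
  Lre_c IH (LK LD1_c6 LD2_c44 LD3_c43) (LK LD1_c3 LD2_c20 LD3_c28) Lrfl Lrfl
theorem f36583 : Led Lsl_ct (LP (LK LD1_c4 LD2_c41 LD3_c31)) = (LP (LK LD1_c9 LD2_c17 LD3_c58)) :=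
  Lre_c IH (LK LD1_c4 LD2_c41 LD3_c31) (LK LD1_c9 LD2_c17 LD3_c58) Lrfl Lrfl
theorem f538085 : Led Lsl_ef (LP (LK LD1_c6 LD2_c44 LD3_c43)) = (LP (LK LD1_c9 LD2_c17 LD3_c58)) :=
  Lgr Lrot28 (Lpr_ct (f207193 IH) (Lpr_et (f538079 IH) (Lpr_ct (f36583 IH) (Lpn (LP (LK LD1_c9 LD2_c17 LD3_c58))))))
theorem f152572 : Led Lsl_et (LP (LK LD1_c3 LD2_c12 LD3_c27)) = (LP (LK LD1_c6 LD2_c28 LD3_c61)) :=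
  Lre_e IH (LK LD1_c3 LD2_c12 LD3_c27) (LK LD1_c6 LD2_c28 LD3_c61) Lrfl Lrfl
theorem f141901 : Led Lsl_et (LP (LK LD1_c6 LD2_c44 LD3_c35)) = (LP (LK LD1_c3 LD2_c20 LD3_c25)) :=
  Lre_e IH (LK LD1_c6 LD2_c44 LD3_c35) (LK LD1_c3 LD2_c20 LD3_c25) Lrfl Lrfl
theorem f206928 : Led Lsl_at (LP (LK LD1_c6 LD2_c28 LD3_c61)) = (LP (LK LD1_c6 LD2_c44 LD3_c35)) :=
  Lgr Lrot80 (Lpe (f152572 IH) (Lpr_af (K11.f206924 IH) (Lpe (f141901 IH) (Lpn (LP (LK LD1_c6 LD2_c44 LD3_c35))))))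
theorem f152567 : Led Lsl_dt (LP (LK LD1_c12 LD2_c28 LD3_c24)) = (LP (LK LD1_c6 LD2_c28 LD3_c61)) :=
  Lre_d IH (LK LD1_c12 LD2_c28 LD3_c24) (LK LD1_c6 LD2_c28 LD3_c61) Lrfl Lrfl
theorem f141902 : Led Lsl_dt (LP (LK LD1_c6 LD2_c44 LD3_c35)) = (LP (LK LD1_c12 LD2_c53 LD3_c38)) :=
  Lre_d IH (LK LD1_c6 LD2_c44 LD3_c35) (LK LD1_c12 LD2_c53 LD3_c38) Lrfl Lrfl
theorem f207057 : Led Lsl_af (LP (LK LD1_c12 LD2_c28 LD3_c24)) = (LP (LK LD1_c12 LD2_c53 LD3_c38)) :=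
  Lgr Lrot117 (Lpr_dt (f152567 IH) (Lpr_at (f206928 IH) (Lpr_dt (f141902 IH) (Lpn (LP (LK LD1_c12 LD2_c53 LD3_c38))))))
theorem f152559 : Led Lsl_et (LP (LK LD1_c2 LD2_c16 LD3_c4)) = (LP (LK LD1_c4 LD2_c37 LD3_c50)) :=
  Lre_e IH (LK LD1_c2 LD2_c16 LD3_c4) (LK LD1_c4 LD2_c37 LD3_c50) Lrfl Lrfl
theorem f148810 : Led Lsl_dt (LP (LK LD1_c4 LD2_c37 LD3_c50)) = (LP (LK LD1_c9 LD2_c11 LD3_c19)) :=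
  Lre_d IH (LK LD1_c4 LD2_c37 LD3_c50) (LK LD1_c9 LD2_c11 LD3_c19) Lrfl Lrfl
theorem f152566 : Led Lsl_et (LP (LK LD1_c6 LD2_c28 LD3_c61)) = (LP (LK LD1_c3 LD2_c12 LD3_c27)) :=
  Lre_e IH (LK LD1_c6 LD2_c28 LD3_c61) (LK LD1_c3 LD2_c12 LD3_c27) Lrfl Lrfl
theorem f152568 : Led Lsl_et (LP (LK LD1_c9 LD2_c11 LD3_c19)) = (LP (LK LD1_c12 LD2_c28 LD3_c24)) :=
  Lgr Lrot71 (Lpe (f148810 IH) (Lpe (f152559 IH) (Lpr_df (K7.f152532 IH) (Lpe (f152566 IH) (Lpe (f152567 IH) (Lpn (LP (LK LD1_c12 LD2_c28 LD3_c24))))))))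
theorem f152579 : Led Lsl_ef (LP (LK LD1_c9 LD2_c11 LD3_c19)) = (LP (LK LD1_c12 LD2_c28 LD3_c24)) :=
  Lgr Lrot88 (Lpr_et (f152568 IH) (Lpn (LP (LK LD1_c12 LD2_c28 LD3_c24))))
theorem f207081 : Led Lsl_et (LP (LK LD1_c6 LD2_c44 LD3_c38)) = (LP (LK LD1_c12 LD2_c53 LD3_c38)) :=
  Lre_e IH (LK LD1_c6 LD2_c44 LD3_c38) (LK LD1_c12 LD2_c53 LD3_c38) Lrfl Lrfl
theorem f207082 : Led Lsl_at (LP (LK LD1_c9 LD2_c11 LD3_c19)) = (LP (LK LD1_c6 LD2_c44 LD3_c38)) :=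
  Lgr Lrot80 (Lpr_ef (f152579 IH) (Lpr_af (f207057 IH) (Lpe (f207081 IH) (Lpn (LP (LK LD1_c6 LD2_c44 LD3_c38))))))
theorem f152581 : Led Lsl_ft (LP (LK LD1_c17 LD2_c4 LD3_c54)) = (LP (LK LD1_c9 LD2_c11 LD3_c19)) :=
  Lre_f IH (LK LD1_c17 LD2_c4 LD3_c54) (LK LD1_c9 LD2_c11 LD3_c19) Lrfl Lrfl
theorem f152552 : Led Lsl_dt (LP (LK LD1_c17 LD2_c4 LD3_c54)) = (LP (LK LD1_c9 LD2_c11 LD3_c20)) :=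
  Lre_d IH (LK LD1_c17 LD2_c4 LD3_c54) (LK LD1_c9 LD2_c11 LD3_c20) Lrfl Lrfl
theorem f152554 : Led Lsl_ct (LP (LK LD1_c9 LD2_c11 LD3_c20)) = (LP (LK LD1_c4 LD2_c37 LD3_c54)) :=
  Lre_c IH (LK LD1_c9 LD2_c11 LD3_c20) (LK LD1_c4 LD2_c37 LD3_c54) Lrfl Lrfl
theorem f207099 : Led Lsl_dt (LP (LK LD1_c4 LD2_c37 LD3_c54)) = (LP (LK LD1_c9 LD2_c11 LD3_c27)) :=
  Lre_d IH (LK LD1_c4 LD2_c37 LD3_c54) (LK LD1_c9 LD2_c11 LD3_c27) Lrfl Lrfl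
theorem f207100 : Led Lsl_ct (LP (LK LD1_c9 LD2_c11 LD3_c27)) = (LP (LK LD1_c17 LD2_c5 LD3_c1)) :=
  Lre_c IH (LK LD1_c9 LD2_c11 LD3_c27) (LK LD1_c17 LD2_c5 LD3_c1) Lrfl Lrfl
theorem f207101 : Led Lsl_dt (LP (LK LD1_c17 LD2_c5 LD3_c1)) = (LP (LK LD1_c26 LD2_c59 LD3_c3)) :=
  Lre_d IH (LK LD1_c17 LD2_c5 LD3_c1) (LK LD1_c26 LD2_c59 LD3_c3) Lrfl Lrfl
theorem f207102 : Led Lsl_ct (LP (LK LD1_c12 LD2_c53 LD3_c47)) = (LP (LK LD1_c6 LD2_c44 LD3_c38)) :=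
  Lre_c IH (LK LD1_c12 LD2_c53 LD3_c47) (LK LD1_c6 LD2_c44 LD3_c38) Lrfl Lrfl
theorem f207103 : Led Lsl_dt (LP (LK LD1_c22 LD2_c3 LD3_c33)) = (LP (LK LD1_c12 LD2_c53 LD3_c47)) :=
  Lre_d IH (LK LD1_c22 LD2_c3 LD3_c33) (LK LD1_c12 LD2_c53 LD3_c47) Lrfl Lrfl
theorem f207104 : Led Lsl_ct (LP (LK LD1_c26 LD2_c59 LD3_c3)) = (LP (LK LD1_c22 LD2_c3 LD3_c33)) :=
  Lgr Lrot53 (Lpe (f207101 IH) (Lpe (f207100 IH) (Lpe (f207099 IH) (Lpe (f152554 IH) (Lpe (f152552 IH) (Lpr_ft (f152581 IH) (Lpr_at (f207082 IH) (Lpe (f207102 IH) (Lpe (f207103 IH) (Lpn (LP (LK LD1_c22 LD2_c3 LD3_c33))))))))))))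
theorem f206904 : Led Lsl_ft (LP (LK LD1_c4 LD2_c37 LD3_c54)) = (LP (LK LD1_c2 LD2_c16 LD3_c5)) :=
  Lre_f IH (LK LD1_c4 LD2_c37 LD3_c54) (LK LD1_c2 LD2_c16 LD3_c5) Lrfl Lrfl
theorem f207090 : Led Lsl_dt (LP (LK LD1_c6 LD2_c44 LD3_c38)) = (LP (LK LD1_c3 LD2_c20 LD3_c26)) :=
  Lre_d IH (LK LD1_c6 LD2_c44 LD3_c38) (LK LD1_c3 LD2_c20 LD3_c26) Lrfl Lrfl
theorem f207109 : Led Lsl_ct (LP (LK LD1_c3 LD2_c20 LD3_c26)) = (LP (LK LD1_c1 LD2_c36 LD3_c36)) :=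
  Lre_c IH (LK LD1_c3 LD2_c20 LD3_c26) (LK LD1_c1 LD2_c36 LD3_c36) Lrfl Lrfl
theorem f207118 : Led Lsl_at (LP (LK LD1_c2 LD2_c16 LD3_c5)) = (LP (LK LD1_c1 LD2_c36 LD3_c36)) :=
  Lgr Lrot33 (Lpe (f206904 IH) (Lpr_dt (f207099 IH) (Lpr_ct (f207100 IH) (Lpr_dt (f207101 IH) (Lpr_ct (f207104 IH) (Lpr_dt (f207103 IH) (Lpr_ct (f207102 IH) (Lpr_dt (f207090 IH) (Lpr_ct (f207109 IH) (Lpn (LP (LK LD1_c1 LD2_c36 LD3_c36))))))))))))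
theorem f207125 : Led Lsl_ft (LP (LK LD1_c1 LD2_c36 LD3_c36)) = (LP (LK LD1_c3 LD2_c20 LD3_c29)) :=
  Lre_f IH (LK LD1_c1 LD2_c36 LD3_c36) (LK LD1_c3 LD2_c20 LD3_c29) Lrfl Lrfl
theorem f207126 : Led Lsl_af (LP (LK LD1_c4 LD2_c37 LD3_c54)) = (LP (LK LD1_c3 LD2_c20 LD3_c29)) :=
  Lgr Lrot45 (Lpr_ft (f206904 IH) (Lpr_at (f207118 IH) (Lpr_ft (f207125 IH) (Lpn (LP (LK LD1_c3 LD2_c20 LD3_c29))))))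
theorem f207138 : Led Lsl_dt (LP (LK LD1_c6 LD2_c44 LD3_c44)) = (LP (LK LD1_c3 LD2_c20 LD3_c29)) :=
  Lre_d IH (LK LD1_c6 LD2_c44 LD3_c44) (LK LD1_c3 LD2_c20 LD3_c29) Lrfl Lrfl
theorem f207139 : Led Lsl_at (LP (LK LD1_c9 LD2_c11 LD3_c27)) = (LP (LK LD1_c6 LD2_c44 LD3_c44)) :=
  Lgr Lrot51 (Lpe (f207099 IH) (Lpr_af (f207126 IH) (Lpe (f207138 IH) (Lpn (LP (LK LD1_c6 LD2_c44 LD3_c44))))))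
theorem f207144 : Led Lsl_ct (LP (LK LD1_c17 LD2_c5 LD3_c1)) = (LP (LK LD1_c9 LD2_c11 LD3_c27)) :=
  Lre_c IH (LK LD1_c17 LD2_c5 LD3_c1) (LK LD1_c9 LD2_c11 LD3_c27) Lrfl Lrfl
theorem f207145 : Led Lsl_ct (LP (LK LD1_c6 LD2_c44 LD3_c44)) = (LP (LK LD1_c12 LD2_c53 LD3_c57)) :=
  Lre_c IH (LK LD1_c6 LD2_c44 LD3_c44) (LK LD1_c12 LD2_c53 LD3_c57) Lrfl Lrfl
theorem f207146 : Led Lsl_af (LP (LK LD1_c17 LD2_c5 LD3_c1)) = (LP (LK LD1_c12 LD2_c53 LD3_c57)) :=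
  Lgr Lrot68 (Lpr_ct (f207144 IH) (Lpr_at (f207139 IH) (Lpr_ct (f207145 IH) (Lpn (LP (LK LD1_c12 LD2_c53 LD3_c57))))))
theorem f207157 : Led Lsl_at (LP (LK LD1_c17 LD2_c5 LD3_c1)) = (LP (LK LD1_c12 LD2_c53 LD3_c57)) :=
  Lgr Lrot100 (Lpr_af (f207146 IH) (Lpn (LP (LK LD1_c12 LD2_c53 LD3_c57))))
theorem f80196 : Led Lsl_ft (LP (LK LD1_c9 LD2_c11 LD3_c26)) = (LP (LK LD1_c17 LD2_c5 LD3_c1)) :=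
  Lre_f IH (LK LD1_c9 LD2_c11 LD3_c26) (LK LD1_c17 LD2_c5 LD3_c1) Lrfl Lrfl
theorem f207167 : Led Lsl_ft (LP (LK LD1_c12 LD2_c53 LD3_c57)) = (LP (LK LD1_c6 LD2_c44 LD3_c43)) :=
  Lre_f IH (LK LD1_c12 LD2_c53 LD3_c57) (LK LD1_c6 LD2_c44 LD3_c43) Lrfl Lrfl
theorem f207168 : Led Lsl_af (LP (LK LD1_c9 LD2_c11 LD3_c26)) = (LP (LK LD1_c6 LD2_c44 LD3_c43)) :=
  Lgr Lrot45 (Lpr_ft (f80196 IH) (Lpr_at (f207157 IH) (Lpr_ft (f207167 IH) (Lpn (LP (LK LD1_c6 LD2_c44 LD3_c43))))))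
theorem f79950 : Led Lsl_et (LP (LK LD1_c1 LD2_c5 LD3_c26)) = (LP (LK LD1_c2 LD2_c17 LD3_c1)) :=
  Lre_e IH (LK LD1_c1 LD2_c5 LD3_c26) (LK LD1_c2 LD2_c17 LD3_c1) Lrfl Lrfl
theorem f73425 : Led Lsl_dt (LP (LK LD1_c2 LD2_c17 LD3_c1)) = (LP (LK LD1_c4 LD2_c39 LD3_c57)) :=
  Lre_d IH (LK LD1_c2 LD2_c17 LD3_c1) (LK LD1_c4 LD2_c39 LD3_c57) Lrfl Lrfl
theorem f79951 : Led Lsl_et (LP (LK LD1_c2 LD2_c16 LD3_c5)) = (LP (LK LD1_c1 LD2_c4 LD3_c61)) :=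
  Lre_e IH (LK LD1_c2 LD2_c16 LD3_c5) (LK LD1_c1 LD2_c4 LD3_c61) Lrfl Lrfl
theorem f79952 : Led Lsl_dt (LP (LK LD1_c4 LD2_c37 LD3_c53)) = (LP (LK LD1_c2 LD2_c16 LD3_c5)) :=
  Lre_d IH (LK LD1_c4 LD2_c37 LD3_c53) (LK LD1_c2 LD2_c16 LD3_c5) Lrfl Lrfl
theorem f79953 : Led Lsl_et (LP (LK LD1_c4 LD2_c39 LD3_c57)) = (LP (LK LD1_c4 LD2_c37 LD3_c53)) :=
  Lgr Lrot71 (Lpe (f73425 IH) (Lpe (f79950 IH) (Lpr_df (K4.f79947 IH) (Lpe (f79951 IH) (Lpe (f79952 IH) (Lpn (LP (LK LD1_c4 LD2_c37 LD3_c53))))))))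
theorem f80173 : Led Lsl_ct (LP (LK LD1_c9 LD2_c15 LD3_c22)) = (LP (LK LD1_c4 LD2_c39 LD3_c57)) :=
  Lre_c IH (LK LD1_c9 LD2_c15 LD3_c22) (LK LD1_c4 LD2_c39 LD3_c57) Lrfl Lrfl
theorem f80174 : Led Lsl_ct (LP (LK LD1_c4 LD2_c37 LD3_c53)) = (LP (LK LD1_c9 LD2_c11 LD3_c26)) :=
  Lre_c IH (LK LD1_c4 LD2_c37 LD3_c53) (LK LD1_c9 LD2_c11 LD3_c26) Lrfl Lrfl
theorem f80175 : Led Lsl_ef (LP (LK LD1_c9 LD2_c15 LD3_c22)) = (LP (LK LD1_c9 LD2_c11 LD3_c26)) :=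
  Lgr Lrot28 (Lpr_ct (f80173 IH) (Lpr_et (f79953 IH) (Lpr_ct (f80174 IH) (Lpn (LP (LK LD1_c9 LD2_c11 LD3_c26))))))
theorem f538087 : Led Lsl_at (LP (LK LD1_c9 LD2_c15 LD3_c22)) = (LP (LK LD1_c9 LD2_c17 LD3_c58)) :=
  Lgr Lrot80 (Lpr_ef (f80175 IH) (Lpr_af (f207168 IH) (Lpr_ef (f538085 IH) (Lpn (LP (LK LD1_c9 LD2_c17 LD3_c58))))))
theorem f26907 : Led Lsl_ft (LP (LK LD1_c9 LD2_c17 LD3_c58)) = (LP (LK LD1_c4 LD2_c41 LD3_c30)) :=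
  Lre_f IH (LK LD1_c9 LD2_c17 LD3_c58) (LK LD1_c4 LD2_c41 LD3_c30) Lrfl Lrfl
theorem f26911 : Led Lsl_at (LP (LK LD1_c4 LD2_c41 LD3_c30)) = (LP (LK LD1_c9 LD2_c17 LD3_c48)) :=
  Lre_a IH (LK LD1_c4 LD2_c41 LD3_c30) (LK LD1_c9 LD2_c17 LD3_c48) Lrfl Lrfl
theorem f538102 : Led Lsl_ff (LP (LK LD1_c9 LD2_c15 LD3_c22)) = (LP (LK LD1_c9 LD2_c17 LD3_c48)) :=
  Lgr Lrot30 (Lpr_at (f538087 IH) (Lpr_ft (f26907 IH) (Lpr_at (f26911 IH) (Lpn (LP (LK LD1_c9 LD2_c17 LD3_c48))))))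
theorem f538110 : Led Lsl_ft (LP (LK LD1_c9 LD2_c15 LD3_c22)) = (LP (LK LD1_c9 LD2_c17 LD3_c48)) :=
  Lgr Lrot48 (Lpr_ff (f538102 IH) (Lpn (LP (LK LD1_c9 LD2_c17 LD3_c48))))
theorem f80183 : Led Lsl_ct (LP (LK LD1_c4 LD2_c39 LD3_c57)) = (LP (LK LD1_c9 LD2_c15 LD3_c22)) :=
  Lre_c IH (LK LD1_c4 LD2_c39 LD3_c57) (LK LD1_c9 LD2_c15 LD3_c22) Lrfl Lrfl
theorem f26920 : Led Lsl_ct (LP (LK LD1_c9 LD2_c17 LD3_c48)) = (LP (LK LD1_c4 LD2_c41 LD3_c24)) :=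
  Lre_c IH (LK LD1_c9 LD2_c17 LD3_c48) (LK LD1_c4 LD2_c41 LD3_c24) Lrfl Lrfl
theorem f538114 : Led Lsl_ff (LP (LK LD1_c4 LD2_c39 LD3_c57)) = (LP (LK LD1_c4 LD2_c41 LD3_c24)) :=
  Lgr Lrot23 (Lpr_ct (f80183 IH) (Lpr_ft (f538110 IH) (Lpr_ct (f26920 IH) (Lpn (LP (LK LD1_c4 LD2_c41 LD3_c24))))))
theorem f80180 : Led Lsl_dt (LP (LK LD1_c4 LD2_c39 LD3_c57)) = (LP (LK LD1_c2 LD2_c17 LD3_c1)) :=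
  Lre_d IH (LK LD1_c4 LD2_c39 LD3_c57) (LK LD1_c2 LD2_c17 LD3_c1) Lrfl Lrfl
theorem f26885 : Led Lsl_dt (LP (LK LD1_c2 LD2_c17 LD3_c47)) = (LP (LK LD1_c4 LD2_c41 LD3_c24)) :=
  Lre_d IH (LK LD1_c2 LD2_c17 LD3_c47) (LK LD1_c4 LD2_c41 LD3_c24) Lrfl Lrfl
theorem f538120 : Led Lsl_ft (LP (LK LD1_c2 LD2_c17 LD3_c1)) = (LP (LK LD1_c2 LD2_c17 LD3_c47)) :=
  Lgr Lrot54 (Lpe (f80180 IH) (Lpr_ff (f538114 IH) (Lpe (f26885 IH) (Lpn (LP (LK LD1_c2 LD2_c17 LD3_c47))))))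
theorem f538124 : Led Lsl_ff (LP (LK LD1_c2 LD2_c17 LD3_c1)) = (LP (LK LD1_c2 LD2_c17 LD3_c47)) :=
  Lgr Lrot3 (Lpr_ft (f538120 IH) (Lpn (LP (LK LD1_c2 LD2_c17 LD3_c47))))
theorem f210061 : Led Lsl_bf (LP (LK LD1_c2 LD2_c17 LD3_c47)) = (LP (LK LD1_c1 LD2_c28 LD3_c39)) :=
  Lgr Lrot24 (Lpr_bt (K11.f210056 IH) (Lpn (LP (LK LD1_c1 LD2_c28 LD3_c39))))
theorem f202238 : Led Lsl_ft (LP (LK LD1_c3 LD2_c5 LD3_c15)) = (LP (LK LD1_c1 LD2_c28 LD3_c39)) :=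
  Lre_f IH (LK LD1_c3 LD2_c5 LD3_c15) (LK LD1_c1 LD2_c28 LD3_c39) Lrfl Lrfl
theorem f538147 : Led Lsl_bt (LP (LK LD1_c2 LD2_c17 LD3_c1)) = (LP (LK LD1_c3 LD2_c5 LD3_c15)) :=
  Lgr Lrot35 (Lpr_ff (f538124 IH) (Lpr_bf (f210061 IH) (Lpe (f202238 IH) (Lpn (LP (LK LD1_c3 LD2_c5 LD3_c15))))))
theorem f538151 : Led Lsl_ef (LP (LK LD1_c2 LD2_c16 LD3_c61)) = (LP (LK LD1_c3 LD2_c5 LD3_c15)) :=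
  Lgr Lrot29 (Lpr_bt (K4.f59650 IH) (Lpr_et (f79950 IH) (Lpr_bt (f538147 IH) (Lpn (LP (LK LD1_c3 LD2_c5 LD3_c15))))))
def v1821 : LQ := Led Lsl_gt (LP (LK LD1_c1 LD2_c28 LD3_c35))
theorem f503111 : Led Lsl_gt (LP (LK LD1_c1 LD2_c28 LD3_c35)) = v1821 :=
  Lrfl
def v1506 : LQ := Led Lsl_bt (LP (LK LD1_c1 LD2_c20 LD3_c40))
theorem f495952 : Led Lsl_bt (LP (LK LD1_c1 LD2_c20 LD3_c40)) = v1506 :=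
  Lrfl
theorem f161533 : Led Lsl_gf (LP (LK LD1_c2 LD2_c49 LD3_c5)) = (LP (LK LD1_c4 LD2_c24 LD3_c14)) :=
  Lgr Lrot144 (Lpr_dt (K8.f142085 IH) (Lpr_gt (K8.f161527 IH) (Lpr_dt (K7.f24202 IH) (Lpe (K7.f8370 IH) (Lpe (K6.f136305 IH) (Lpe (K6.f141960 IH) (Lpe (K4.f79965 IH) (Lpe (K6.f132544 IH) (Lpr_cf (K5.f132568 IH) (Lpn (LP (LK LD1_c4 LD2_c24 LD3_c14))))))))))))
theorem f132536 : Led Lsl_bt (LP (LK LD1_c4 LD2_c34 LD3_c24)) = (LP (LK LD1_c2 LD2_c49 LD3_c50)) :=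
  Lgr Lrot35 (Lpr_ff (K5.f132514 IH) (Lpe (K8.f132430 IH) (Lpe (K11.f117521 IH) (Lpn (LP (LK LD1_c2 LD2_c49 LD3_c50))))))
theorem f495957 : Led Lsl_gf (LP (LK LD1_c1 LD2_c28 LD3_c35)) = v1506 :=
  Lgr Lrot181 (Lpr_ct (K8.f80250 IH) (Lpe (K8.f81102 IH) (Lpe (K8.f73430 IH) (Lpr_bt (K8.f80641 IH) (Lpe (K8.f161008 IH) (Lpe (f132536 IH) (Lpr_ct (K5.f132542 IH) (Lpe (f161533 IH) (Lpe (K4.f73024 IH) (Lpr_bt (f495952 IH) (Lpn v1506)))))))))))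
theorem f206862 : Led Lsl_ft (LP (LK LD1_c1 LD2_c5 LD3_c26)) = (LP (LK LD1_c1 LD2_c20 LD3_c40)) :=
  Lgr Lrot4 (Lpe (K11.f60859 IH) (Lpr_ff (K11.f206860 IH) (Lpe (K4.f73024 IH) (Lpn (LP (LK LD1_c1 LD2_c20 LD3_c40))))))
theorem f495955 : Led Lsl_ff (LP (LK LD1_c2 LD2_c16 LD3_c61)) = v1506 :=
  Lgr Lrot25 (Lpr_bt (K4.f59650 IH) (Lpr_ft (f206862 IH) (Lpr_bt (f495952 IH) (Lpn v1506))))
theorem f503112 : Led Lsl_at (LP (LK LD1_c2 LD2_c16 LD3_c61)) = v1821 :=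
  Lgr Lrot26 (Lpr_ff (f495955 IH) (Lpe (f495957 IH) (Lpr_gt (f503111 IH) (Lpn v1821))))
theorem f204468 : Led Lsl_at (LP (LK LD1_c1 LD2_c28 LD3_c43)) = (LP (LK LD1_c3 LD2_c5 LD3_c15)) :=
  Lre_a IH (LK LD1_c1 LD2_c28 LD3_c43) (LK LD1_c3 LD2_c5 LD3_c15) Lrfl Lrfl
theorem f204455 : Led Lsl_bt (LP (LK LD1_c1 LD2_c28 LD3_c43)) = (LP (LK LD1_c0 LD2_c41 LD3_c0)) :=
  Lre_b IH (LK LD1_c1 LD2_c28 LD3_c43) (LK LD1_c0 LD2_c41 LD3_c0) Lrfl Lrfl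
theorem f59046 : Led Lsl_bt (LP (LK LD1_c1 LD2_c6 LD3_c34)) = (LP (LK LD1_c2 LD2_c18 LD3_c61)) :=
  Lre_b IH (LK LD1_c1 LD2_c6 LD3_c34) (LK LD1_c2 LD2_c18 LD3_c61) Lrfl Lrfl
theorem f204456 : Led Lsl_ef (LP (LK LD1_c1 LD2_c28 LD3_c43)) = (LP (LK LD1_c2 LD2_c18 LD3_c61)) :=
  Lgr Lrot29 (Lpr_bt (f204455 IH) (Lpr_et (K11.f204450 IH) (Lpr_bt (f59046 IH) (Lpn (LP (LK LD1_c2 LD2_c18 LD3_c61))))))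
theorem f538159 : v1821 = (LP (LK LD1_c2 LD2_c18 LD3_c61)) :=
  (Llr Lrot80 (Lpe (f503112 IH) (Lpr_ef (f538151 IH) (Lpe (f204468 IH) (Lpr_ef (f204456 IH) (Lpn (LP (LK LD1_c2 LD2_c18 LD3_c61)))))))).symm
theorem f208372 : Led Lsl_at (LP (LK LD1_c7 LD2_c59 LD3_c55)) = (LP (LK LD1_c5 LD2_c53 LD3_c41)) :=
  Lgr Lrot107 (Lpr_cf (K8.f160954 IH) (Lpr_af (K32.f208370 IH) (Lpe (K32.f99536 IH) (Lpn (LP (LK LD1_c5 LD2_c53 LD3_c41))))))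
theorem f137773 : Led Lsl_bt (LP (LK LD1_c2 LD2_c54 LD3_c24)) = (LP (LK LD1_c5 LD2_c56 LD3_c3)) :=
  Lre_b IH (LK LD1_c2 LD2_c54 LD3_c24) (LK LD1_c5 LD2_c56 LD3_c3) Lrfl Lrfl
theorem f208334 : Led Lsl_ff (LP (LK LD1_c7 LD2_c59 LD3_c55)) = (LP (LK LD1_c5 LD2_c56 LD3_c3)) :=
  Lgr Lrot25 (Lpe (K8.f161392 IH) (Lpr_ft (K32.f208332 IH) (Lpr_bt (f137773 IH) (Lpn (LP (LK LD1_c5 LD2_c56 LD3_c3))))))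
theorem f208745 : Led Lsl_gt (LP (LK LD1_c6 LD2_c15 LD3_c17)) = (LP (LK LD1_c5 LD2_c53 LD3_c41)) :=
  Lgr Lrot46 (Lpr_gf (K24.f158664 IH) (Lpe (f208334 IH) (Lpr_at (f208372 IH) (Lpn (LP (LK LD1_c5 LD2_c53 LD3_c41))))))
theorem f156749 : Led Lsl_dt (LP (LK LD1_c3 LD2_c57 LD3_c58)) = (LP (LK LD1_c2 LD2_c49 LD3_c39)) :=
  Lgr Lrot42 (Lpr_df (K7.f156747 IH) (Lpn (LP (LK LD1_c2 LD2_c49 LD3_c39))))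
theorem f503115 : Led Lsl_cf (LP (LK LD1_c2 LD2_c49 LD3_c39)) = v1821 :=
  Lgr Lrot99 (Lpe (f156749 IH) (Lpr_cf (K7.f156728 IH) (Lpr_gf (K8.f149268 IH) (Lpe (K32.f99536 IH) (Lpe (f208745 IH) (Lpe (K8.f60868 IH) (Lpr_gt (K8.f73836 IH) (Lpr_ct (K8.f73837 IH) (Lpr_gt (f503111 IH) (Lpn v1821))))))))))
theorem f148981 : Led Lsl_dt (LP (LK LD1_c4 LD2_c36 LD3_c49)) = (LP (LK LD1_c2 LD2_c15 LD3_c38)) :=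
  Lre_d IH (LK LD1_c4 LD2_c36 LD3_c49) (LK LD1_c2 LD2_c15 LD3_c38) Lrfl Lrfl
theorem f157873 : Led Lsl_gt (LP (LK LD1_c2 LD2_c15 LD3_c38)) = (LP (LK LD1_c1 LD2_c22 LD3_c41)) :=
  Lgr Lrot9 (Lpe (f148981 IH) (Lpr_gt (K8.f157870 IH) (Lpr_ct (K6.f59466 IH) (Lpe (K6.f138819 IH) (Lpr_ct (K6.f74181 IH) (Lpe (K6.f137963 IH) (Lpe (K6.f59544 IH) (Lpr_gf (K6.f138745 IH) (Lpe (K4.f81851 IH) (Lpn (LP (LK LD1_c1 LD2_c22 LD3_c41))))))))))))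
theorem f68525 : Led Lsl_at (LP (LK LD1_c3 LD2_c13 LD3_c21)) = (LP (LK LD1_c6 LD2_c30 LD3_c32)) :=
  Lre_a IH (LK LD1_c3 LD2_c13 LD3_c21) (LK LD1_c6 LD2_c30 LD3_c32) Lrfl Lrfl
theorem f207831 : Led Lsl_at (LP (LK LD1_c3 LD2_c23 LD3_c34)) = (LP (LK LD1_c3 LD2_c20 LD3_c16)) :=
  Lgr Lrot51 (Lpr_df (K32.f207825 IH) (Lpe (f68525 IH) (Lpr_df (K8.f157758 IH) (Lpn (LP (LK LD1_c3 LD2_c20 LD3_c16))))))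
theorem f36233 : Led Lsl_gt (LP (LK LD1_c1 LD2_c56 LD3_c33)) = (LP (LK LD1_c3 LD2_c59 LD3_c47)) :=
  Lre_g IH (LK LD1_c1 LD2_c56 LD3_c33) (LK LD1_c3 LD2_c59 LD3_c47) Lrfl Lrfl
theorem f40371 : Led Lsl_at (LP (LK LD1_c1 LD2_c38 LD3_c7)) = (LP (LK LD1_c3 LD2_c23 LD3_c36)) :=
  Lre_a IH (LK LD1_c1 LD2_c38 LD3_c7) (LK LD1_c3 LD2_c23 LD3_c36) Lrfl Lrfl
theorem f40378 : Led Lsl_gt (LP (LK LD1_c3 LD2_c59 LD3_c47)) = (LP (LK LD1_c3 LD2_c23 LD3_c36)) :=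
  Lgr Lrot46 (Lpe (f36233 IH) (Lpr_ft (K2.f40367 IH) (Lpr_at (f40371 IH) (Lpn (LP (LK LD1_c3 LD2_c23 LD3_c36))))))
theorem f207836 : Led Lsl_ff (LP (LK LD1_c3 LD2_c23 LD3_c34)) = (LP (LK LD1_c3 LD2_c59 LD3_c47)) :=
  Lgr Lrot52 (Lpr_at (f207831 IH) (Lpr_gf (K4.f56834 IH) (Lpe (f40378 IH) (Lpn (LP (LK LD1_c3 LD2_c59 LD3_c47))))))
theorem f207840 : Led Lsl_ft (LP (LK LD1_c3 LD2_c23 LD3_c34)) = (LP (LK LD1_c3 LD2_c59 LD3_c47)) :=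
  Lgr Lrot48 (Lpr_ff (f207836 IH) (Lpn (LP (LK LD1_c3 LD2_c59 LD3_c47))))
theorem f207845 : Led Lsl_af (LP (LK LD1_c3 LD2_c23 LD3_c35)) = (LP (LK LD1_c3 LD2_c59 LD3_c47)) :=
  Lgr Lrot31 (Lpe (K4.f40593 IH) (Lpr_gf (K32.f40403 IH) (Lpr_ft (f207840 IH) (Lpn (LP (LK LD1_c3 LD2_c59 LD3_c47))))))
theorem f40604 : Led Lsl_et (LP (LK LD1_c3 LD2_c23 LD3_c35)) = (LP (LK LD1_c6 LD2_c50 LD3_c25)) :=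
  Lre_e IH (LK LD1_c3 LD2_c23 LD3_c35) (LK LD1_c6 LD2_c50 LD3_c25) Lrfl Lrfl
theorem f40386 : Led Lsl_et (LP (LK LD1_c8 LD2_c0 LD3_c38)) = (LP (LK LD1_c3 LD2_c59 LD3_c47)) :=
  Lre_e IH (LK LD1_c8 LD2_c0 LD3_c38) (LK LD1_c3 LD2_c59 LD3_c47) Lrfl Lrfl
theorem f207851 : Led Lsl_at (LP (LK LD1_c6 LD2_c50 LD3_c25)) = (LP (LK LD1_c8 LD2_c0 LD3_c38)) :=
  Lgr Lrot80 (Lpe (f40604 IH) (Lpr_af (f207845 IH) (Lpe (f40386 IH) (Lpn (LP (LK LD1_c8 LD2_c0 LD3_c38))))))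
theorem f40603 : Led Lsl_et (LP (LK LD1_c4 LD2_c37 LD3_c47)) = (LP (LK LD1_c2 LD2_c16 LD3_c3)) :=
  Lre_e IH (LK LD1_c4 LD2_c37 LD3_c47) (LK LD1_c2 LD2_c16 LD3_c3) Lrfl Lrfl
theorem f40605 : Led Lsl_cf (LP (LK LD1_c4 LD2_c37 LD3_c47)) = (LP (LK LD1_c6 LD2_c50 LD3_c25)) :=
  Lgr Lrot39 (Lpr_et (f40603 IH) (Lpr_ct (K4.f40595 IH) (Lpr_et (f40604 IH) (Lpn (LP (LK LD1_c6 LD2_c50 LD3_c25))))))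
theorem f40613 : Led Lsl_ct (LP (LK LD1_c4 LD2_c37 LD3_c47)) = (LP (LK LD1_c6 LD2_c50 LD3_c25)) :=
  Lgr Lrot59 (Lpr_cf (f40605 IH) (Lpn (LP (LK LD1_c6 LD2_c50 LD3_c25))))
theorem f40619 : Led Lsl_at (LP (LK LD1_c9 LD2_c11 LD3_c9)) = (LP (LK LD1_c4 LD2_c37 LD3_c47)) :=
  Lre_a IH (LK LD1_c9 LD2_c11 LD3_c9) (LK LD1_c4 LD2_c37 LD3_c47) Lrfl Lrfl
theorem f207859 : Led Lsl_cf (LP (LK LD1_c9 LD2_c11 LD3_c9)) = (LP (LK LD1_c8 LD2_c0 LD3_c38)) :=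
  Lgr Lrot1 (Lpr_at (f40619 IH) (Lpr_ct (f40613 IH) (Lpr_at (f207851 IH) (Lpn (LP (LK LD1_c8 LD2_c0 LD3_c38))))))
theorem f207861 : Led Lsl_ct (LP (LK LD1_c9 LD2_c11 LD3_c9)) = (LP (LK LD1_c8 LD2_c0 LD3_c38)) :=
  Lgr Lrot59 (Lpr_cf (f207859 IH) (Lpn (LP (LK LD1_c8 LD2_c0 LD3_c38))))
theorem f207867 : Led Lsl_et (LP (LK LD1_c4 LD2_c37 LD3_c46)) = (LP (LK LD1_c9 LD2_c11 LD3_c9)) :=
  Lre_e IH (LK LD1_c4 LD2_c37 LD3_c46) (LK LD1_c9 LD2_c11 LD3_c9) Lrfl Lrfl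
theorem f207868 : Led Lsl_cf (LP (LK LD1_c4 LD2_c37 LD3_c46)) = (LP (LK LD1_c3 LD2_c59 LD3_c47)) :=
  Lgr Lrot39 (Lpr_et (f207867 IH) (Lpr_ct (f207861 IH) (Lpr_et (f40386 IH) (Lpn (LP (LK LD1_c3 LD2_c59 LD3_c47))))))
theorem f159016 : Led Lsl_dt (LP (LK LD1_c6 LD2_c44 LD3_c13)) = (LP (LK LD1_c11 LD2_c48 LD3_c11)) :=
  Lgr Lrot42 (Lpr_df (K8.f159003 IH) (Lpn (LP (LK LD1_c11 LD2_c48 LD3_c11))))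
theorem f207870 : Led Lsl_gt (LP (LK LD1_c4 LD2_c37 LD3_c46)) = (LP (LK LD1_c3 LD2_c20 LD3_c15)) :=
  Lgr Lrot150 (Lpr_cf (f207868 IH) (Lpe (f36233 IH) (Lpe (K1.f40053 IH) (Lpe (K7.f150692 IH) (Lpe (K7.f139788 IH) (Lpe (K8.f157756 IH) (Lpr_ct (K32.f158945 IH) (Lpe (f159016 IH) (Lpe (K8.f149638 IH) (Lpn (LP (LK LD1_c3 LD2_c20 LD3_c15))))))))))))
theorem f207872 : Led Lsl_gf (LP (LK LD1_c4 LD2_c37 LD3_c46)) = (LP (LK LD1_c2 LD2_c53 LD3_c12)) :=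
  Lgr Lrot47 (Lpr_gt (f207870 IH) (Lpr_af (K32.f159020 IH) (Lpe (K32.f149327 IH) (Lpn (LP (LK LD1_c2 LD2_c53 LD3_c12))))))
theorem f503118 : Led Lsl_dt (LP (LK LD1_c4 LD2_c37 LD3_c46)) = v1821 :=
  Lgr Lrot105 (Lpr_gf (f207872 IH) (Lpe (K8.f69009 IH) (Lpe (f157873 IH) (Lpr_cf (K28.f148979 IH) (Lpr_gt (K5.f35531 IH) (Lpr_dt (K1.f40026 IH) (Lpr_gt (K7.f37892 IH) (Lpr_dt (f156749 IH) (Lpr_cf (f503115 IH) (Lpn v1821))))))))))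
theorem f40638 : Led Lsl_at (LP (LK LD1_c2 LD2_c16 LD3_c3)) = (LP (LK LD1_c4 LD2_c37 LD3_c46)) :=
  Lre_a IH (LK LD1_c2 LD2_c16 LD3_c3) (LK LD1_c4 LD2_c37 LD3_c46) Lrfl Lrfl
theorem f503119 : Led Lsl_af (LP (LK LD1_c2 LD2_c16 LD3_c61)) = v1821 :=
  Lgr Lrot117 (Lpr_dt (K4.f79945 IH) (Lpr_at (f40638 IH) (Lpr_dt (f503118 IH) (Lpn v1821))))
def v1822 : LQ := Led Lsl_at (LP (LK LD1_c1 LD2_c28 LD3_c35))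
theorem f503120 : Led Lsl_at (LP (LK LD1_c1 LD2_c28 LD3_c35)) = v1822 :=
  Lrfl
theorem f59419 : Led Lsl_bt (LP (LK LD1_c1 LD2_c6 LD3_c30)) = (LP (LK LD1_c2 LD2_c18 LD3_c55)) :=
  Lre_b IH (LK LD1_c1 LD2_c6 LD3_c30) (LK LD1_c2 LD2_c18 LD3_c55) Lrfl Lrfl
theorem f132835 : Led Lsl_ff (LP (LK LD1_c1 LD2_c28 LD3_c35)) = (LP (LK LD1_c2 LD2_c18 LD3_c55)) :=
  Lgr Lrot25 (Lpr_bt (K8.f80251 IH) (Lpr_ft (K5.f132831 IH) (Lpr_bt (f59419 IH) (Lpn (LP (LK LD1_c2 LD2_c18 LD3_c55))))))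
theorem f503124 : Led Lsl_ff (LP (LK LD1_c2 LD2_c49 LD3_c54)) = v1822 :=
  Lgr Lrot30 (Lpe (K8.f138533 IH) (Lpe (f132835 IH) (Lpr_at (f503120 IH) (Lpn v1822))))
theorem f503128 : Led Lsl_gf (LP (LK LD1_c2 LD2_c16 LD3_c61)) = v1822 :=
  Lgr Lrot47 (Lpr_gt (K32.f158998 IH) (Lpr_af (K8.f138533 IH) (Lpr_ff (f503124 IH) (Lpn v1822))))
theorem f538186 : (LP (LK LD1_c2 LD2_c18 LD3_c59)) = v1822 :=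
  (Llr Lrot5 (Lpe (f59111 IH) (Lpr_ft (f204472 IH) (Lpq (f538159 IH) (Lpe (f503119 IH) (Lpr_gf (f503128 IH) (Lpn v1822))))))).symm
theorem f503127 : Led Lsl_ft (LP (LK LD1_c2 LD2_c49 LD3_c54)) = v1822 :=
  Lgr Lrot48 (Lpr_ff (f503124 IH) (Lpn v1822))
theorem f59112 : Led Lsl_dt (LP (LK LD1_c2 LD2_c18 LD3_c59)) = (LP (LK LD1_c4 LD2_c42 LD3_c57)) :=
  Lre_d IH (LK LD1_c2 LD2_c18 LD3_c59) (LK LD1_c4 LD2_c42 LD3_c57) Lrfl Lrfl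
theorem f538196 : Led Lsl_ff (LP (LK LD1_c4 LD2_c36 LD3_c46)) = (LP (LK LD1_c4 LD2_c42 LD3_c57)) :=
  Lgr Lrot19 (Lpr_dt (K8.f137288 IH) (Lpr_ft (f503127 IH) (Lpq (f538186 IH) (Lpr_dt (f59112 IH) (Lpn (LP (LK LD1_c4 LD2_c42 LD3_c57)))))))
theorem f138543 : Led Lsl_at (LP (LK LD1_c2 LD2_c18 LD3_c55)) = (LP (LK LD1_c2 LD2_c49 LD3_c54)) :=
  Lgr Lrot100 (Lpr_af (K8.f138533 IH) (Lpn (LP (LK LD1_c2 LD2_c49 LD3_c54))))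
theorem f138574 : Led Lsl_af (LP (LK LD1_c2 LD2_c53 LD3_c39)) = (LP (LK LD1_c4 LD2_c36 LD3_c46)) :=
  Lgr Lrot117 (Lpr_dt (K8.f137402 IH) (Lpr_at (f138543 IH) (Lpe (K8.f137297 IH) (Lpn (LP (LK LD1_c4 LD2_c36 LD3_c46))))))
theorem f538207 : Led Lsl_gf (LP (LK LD1_c4 LD2_c36 LD3_c49)) = (LP (LK LD1_c4 LD2_c42 LD3_c57)) :=
  Lgr Lrot47 (Lpr_gt (K8.f157870 IH) (Lpr_af (f138574 IH) (Lpr_ff (f538196 IH) (Lpn (LP (LK LD1_c4 LD2_c42 LD3_c57))))))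
theorem f104818 : Led Lsl_et (LP (LK LD1_c0 LD2_c30 LD3_c25)) = (LP (LK LD1_c1 LD2_c6 LD3_c32)) :=
  Lre_e IH (LK LD1_c0 LD2_c30 LD3_c25) (LK LD1_c1 LD2_c6 LD3_c32) Lrfl Lrfl
theorem f208722 : Led Lsl_et (LP (LK LD1_c1 LD2_c4 LD3_c41)) = (LP (LK LD1_c2 LD2_c15 LD3_c10)) :=
  Lre_e IH (LK LD1_c1 LD2_c4 LD3_c41) (LK LD1_c2 LD2_c15 LD3_c10) Lrfl Lrfl
theorem f538211 : Led Lsl_et (LP (LK LD1_c2 LD2_c15 LD3_c38)) = (LP (LK LD1_c4 LD2_c35 LD3_c58)) :=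
  Lgr Lrot185 (Lpr_dt (K8.f148988 IH) (Lpr_gf (f538207 IH) (Lpe (f59112 IH) (Lpe (f59111 IH) (Lpe (f104818 IH) (Lpr_dt (K11.f104807 IH) (Lpr_gf (K7.f149332 IH) (Lpe (K7.f37814 IH) (Lpr_et (f208722 IH) (Lpe (f37859 IH) (Lpn (LP (LK LD1_c4 LD2_c35 LD3_c58)))))))))))))
theorem f538219 : Led Lsl_ef (LP (LK LD1_c2 LD2_c15 LD3_c38)) = (LP (LK LD1_c4 LD2_c35 LD3_c58)) :=
  Lgr Lrot88 (Lpr_et (f538211 IH) (Lpn (LP (LK LD1_c4 LD2_c35 LD3_c58))))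
theorem f148996 : Led Lsl_et (LP (LK LD1_c4 LD2_c36 LD3_c49)) = (LP (LK LD1_c9 LD2_c9 LD3_c31)) :=
  Lre_e IH (LK LD1_c4 LD2_c36 LD3_c49) (LK LD1_c9 LD2_c9 LD3_c31) Lrfl Lrfl
theorem f500419 : Led Lsl_dt (LP (LK LD1_c9 LD2_c8 LD3_c7)) = (LP (LK LD1_c4 LD2_c35 LD3_c58)) :=
  Lre_d IH (LK LD1_c9 LD2_c8 LD3_c7) (LK LD1_c4 LD2_c35 LD3_c58) Lrfl Lrfl
theorem f538225 : Led Lsl_et (LP (LK LD1_c17 LD2_c0 LD3_c33)) = (LP (LK LD1_c9 LD2_c8 LD3_c7)) :=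
  Lre_e IH (LK LD1_c17 LD2_c0 LD3_c33) (LK LD1_c9 LD2_c8 LD3_c7) Lrfl Lrfl
theorem f538226 : Led Lsl_dt (LP (LK LD1_c9 LD2_c9 LD3_c31)) = (LP (LK LD1_c17 LD2_c0 LD3_c33)) :=
  Lgr Lrot77 (Lpe (f148996 IH) (Lpe (K8.f148988 IH) (Lpr_ef (f538219 IH) (Lpe (f500419 IH) (Lpe (f538225 IH) (Lpn (LP (LK LD1_c17 LD2_c0 LD3_c33))))))))
theorem f428492 : Led Lsl_bt (LP (LK LD1_c4 LD2_c37 LD3_c17)) = (LP (LK LD1_c9 LD2_c9 LD3_c31)) :=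
  Lre_b IH (LK LD1_c4 LD2_c37 LD3_c17) (LK LD1_c9 LD2_c9 LD3_c31) Lrfl Lrfl
theorem f428486 : Led Lsl_dt (LP (LK LD1_c9 LD2_c10 LD3_c12)) = (LP (LK LD1_c4 LD2_c37 LD3_c17)) :=
  Lre_d IH (LK LD1_c9 LD2_c10 LD3_c12) (LK LD1_c4 LD2_c37 LD3_c17) Lrfl Lrfl
theorem f538228 : Led Lsl_bf (LP (LK LD1_c9 LD2_c10 LD3_c12)) = (LP (LK LD1_c17 LD2_c0 LD3_c33)) :=
  Lgr Lrot93 (Lpr_dt (f428486 IH) (Lpr_bt (f428492 IH) (Lpr_dt (f538226 IH) (Lpn (LP (LK LD1_c17 LD2_c0 LD3_c33))))))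
theorem f538235 : Led Lsl_et (LP (LK LD1_c9 LD2_c10 LD3_c12)) = (LP (LK LD1_c4 LD2_c37 LD3_c22)) :=
  Lre_e IH (LK LD1_c9 LD2_c10 LD3_c12) (LK LD1_c4 LD2_c37 LD3_c22) Lrfl Lrfl
theorem f500420 : Led Lsl_et (LP (LK LD1_c9 LD2_c8 LD3_c7)) = (LP (LK LD1_c17 LD2_c0 LD3_c33)) :=
  Lre_e IH (LK LD1_c9 LD2_c8 LD3_c7) (LK LD1_c17 LD2_c0 LD3_c33) Lrfl Lrfl
theorem f538236 : Led Lsl_bt (LP (LK LD1_c4 LD2_c37 LD3_c22)) = (LP (LK LD1_c9 LD2_c8 LD3_c7)) :=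
  Lgr Lrot119 (Lpe (f538235 IH) (Lpr_bf (f538228 IH) (Lpe (f500420 IH) (Lpn (LP (LK LD1_c9 LD2_c8 LD3_c7))))))
theorem f538241 : Led Lsl_bf (LP (LK LD1_c4 LD2_c37 LD3_c22)) = (LP (LK LD1_c9 LD2_c8 LD3_c7)) :=
  Lgr Lrot24 (Lpr_bt (f538236 IH) (Lpn (LP (LK LD1_c9 LD2_c8 LD3_c7))))
theorem f537999 : Led Lsl_at (LP (LK LD1_c4 LD2_c37 LD3_c22)) = (LP (LK LD1_c2 LD2_c15 LD3_c61)) :=
  Lre_a IH (LK LD1_c4 LD2_c37 LD3_c22) (LK LD1_c2 LD2_c15 LD3_c61) Lrfl Lrfl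
def v1737 : LQ := Led Lsl_bt (LP (LK LD1_c1 LD2_c24 LD3_c39))
theorem f501204 : Led Lsl_bt (LP (LK LD1_c1 LD2_c24 LD3_c39)) = v1737 :=
  Lrfl
theorem f501206 : Led Lsl_df v448 = v1737 :=
  Lgr Lrot12 (Lpe (f452905 IH) (Lpr_dt (K10.f172679 IH) (Lpr_bt (f501204 IH) (Lpn v1737))))
theorem f501207 : Led Lsl_dt v448 = v1737 :=
  Lgr Lrot42 (Lpr_df (f501206 IH) (Lpn v1737))
theorem f80217 : Led Lsl_dt (LP (LK LD1_c1 LD2_c4 LD3_c59)) = (LP (LK LD1_c2 LD2_c15 LD3_c61)) :=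
  Lre_d IH (LK LD1_c1 LD2_c4 LD3_c59) (LK LD1_c2 LD2_c15 LD3_c61) Lrfl Lrfl
theorem f537995 : v1737 = (LP (LK LD1_c2 LD2_c15 LD3_c61)) :=
  Lefun (Lecon (f501207 IH) (f537830 IH)) (f80217 IH)
theorem f501205 : Led Lsl_bf (LP (LK LD1_c1 LD2_c24 LD3_c39)) = v1737 :=
  Lgr Lrot24 (Lpr_bt (f501204 IH) (Lpn v1737))
theorem f268235 : Led Lsl_at (LP (LK LD1_c1 LD2_c24 LD3_c38)) = (LP (LK LD1_c2 LD2_c16 LD3_c36)) :=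
  Lgr Lrot51 (Lpe (K10.f26783 IH) (Lpr_af (K15.f268229 IH) (Lpe (K10.f23975 IH) (Lpn (LP (LK LD1_c2 LD2_c16 LD3_c36))))))
theorem f268241 : Led Lsl_ff (LP (LK LD1_c1 LD2_c24 LD3_c39)) = (LP (LK LD1_c2 LD2_c16 LD3_c36)) :=
  Lgr Lrot19 (Lpr_dt (K10.f175571 IH) (Lpr_ft (K15.f268237 IH) (Lpr_dt (K10.f175897 IH) (Lpn (LP (LK LD1_c2 LD2_c16 LD3_c36))))))
theorem f268271 : Led Lsl_at (LP (LK LD1_c1 LD2_c24 LD3_c39)) = (LP (LK LD1_c2 LD2_c16 LD3_c38)) :=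
  Lgr Lrot66 (Lpr_ff (f268241 IH) (Lpe (f268235 IH) (Lpr_ff (K15.f268269 IH) (Lpn (LP (LK LD1_c2 LD2_c16 LD3_c38))))))
theorem f176082 : Led Lsl_bt (LP (LK LD1_c2 LD2_c16 LD3_c38)) = (LP (LK LD1_c4 LD2_c39 LD3_c17)) :=
  Lre_b IH (LK LD1_c2 LD2_c16 LD3_c38) (LK LD1_c4 LD2_c39 LD3_c17) Lrfl Lrfl
theorem f538247 : Led Lsl_at (LP (LK LD1_c4 LD2_c39 LD3_c17)) = (LP (LK LD1_c9 LD2_c8 LD3_c7)) :=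
  Lgr Lrot67 (Lpe (f176082 IH) (Lpe (f268271 IH) (Lpr_bf (f501205 IH) (Lpqs (f537995 IH) (Lpe (f537999 IH) (Lpr_bf (f538241 IH) (Lpn (LP (LK LD1_c9 LD2_c8 LD3_c7)))))))))
theorem f175665 : Led Lsl_bt (LP (LK LD1_c1 LD2_c24 LD3_c38)) = (LP (LK LD1_c2 LD2_c57 LD3_c51)) :=
  Lre_b IH (LK LD1_c1 LD2_c24 LD3_c38) (LK LD1_c2 LD2_c57 LD3_c51) Lrfl Lrfl
theorem f176707 : Led Lsl_bt (LP (LK LD1_c4 LD2_c39 LD3_c17)) = (LP (LK LD1_c2 LD2_c16 LD3_c38)) :=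
  Lre_b IH (LK LD1_c4 LD2_c39 LD3_c17) (LK LD1_c2 LD2_c16 LD3_c38) Lrfl Lrfl
theorem f268273 : Led Lsl_ft (LP (LK LD1_c2 LD2_c57 LD3_c51)) = (LP (LK LD1_c4 LD2_c39 LD3_c17)) :=
  Lgr Lrot75 (Lpe (f175665 IH) (Lpr_ff (K15.f268269 IH) (Lpe (f176707 IH) (Lpn (LP (LK LD1_c4 LD2_c39 LD3_c17))))))
theorem f175374 : Led Lsl_gt (LP (LK LD1_c2 LD2_c57 LD3_c51)) = (LP (LK LD1_c6 LD2_c3 LD3_c25)) :=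
  Lre_g IH (LK LD1_c2 LD2_c57 LD3_c51) (LK LD1_c6 LD2_c3 LD3_c25) Lrfl Lrfl
theorem f538254 : Led Lsl_gt (LP (LK LD1_c6 LD2_c3 LD3_c25)) = (LP (LK LD1_c9 LD2_c8 LD3_c7)) :=
  Lgr Lrot46 (Lpe (f175374 IH) (Lpr_ft (f268273 IH) (Lpr_at (f538247 IH) (Lpn (LP (LK LD1_c9 LD2_c8 LD3_c7))))))
theorem f500418 : Led Lsl_dt (LP (LK LD1_c4 LD2_c35 LD3_c58)) = (LP (LK LD1_c9 LD2_c8 LD3_c7)) :=
  Lre_d IH (LK LD1_c4 LD2_c35 LD3_c58) (LK LD1_c9 LD2_c8 LD3_c7) Lrfl Lrfl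
theorem f148990 : Led Lsl_dt (LP (LK LD1_c3 LD2_c20 LD3_c15)) = (LP (LK LD1_c2 LD2_c51 LD3_c42)) :=
  Lgr Lrot6 (Lpr_gt (K8.f56813 IH) (Lpr_ct (K4.f56749 IH) (Lpr_gt (K4.f56750 IH) (Lpr_ct (K1.f36239 IH) (Lpe (K1.f40035 IH) (Lpe (K1.f35526 IH) (Lpe (K5.f35531 IH) (Lpe (K7.f148966 IH) (Lpr_gf (K7.f148986 IH) (Lpn (LP (LK LD1_c2 LD2_c51 LD3_c42))))))))))))
theorem f503114 : Led Lsl_df (LP (LK LD1_c4 LD2_c37 LD3_c46)) = v1821 :=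
  Lgr Lrot153 (Lpr_gt (f207870 IH) (Lpr_dt (f148990 IH) (Lpe (K8.f148989 IH) (Lpe (K8.f149637 IH) (Lpr_gf (K32.f208747 IH) (Lpe (K32.f73431 IH) (Lpr_gf (K8.f81102 IH) (Lpe (K8.f80250 IH) (Lpr_gt (f503111 IH) (Lpn v1821))))))))))
theorem f59056 : Led Lsl_gt (LP (LK LD1_c1 LD2_c28 LD3_c43)) = (LP (LK LD1_c3 LD2_c5 LD3_c13)) :=
  Lre_g IH (LK LD1_c1 LD2_c28 LD3_c43) (LK LD1_c3 LD2_c5 LD3_c13) Lrfl Lrfl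
theorem f202232 : Led Lsl_et (LP (LK LD1_c6 LD2_c16 LD3_c17)) = (LP (LK LD1_c3 LD2_c5 LD3_c13)) :=
  Lre_e IH (LK LD1_c6 LD2_c16 LD3_c17) (LK LD1_c3 LD2_c5 LD3_c13) Lrfl Lrfl
theorem f538260 : Led Lsl_df (LP (LK LD1_c6 LD2_c3 LD3_c25)) = (LP (LK LD1_c6 LD2_c16 LD3_c17)) :=
  Lgr Lrot170 (Lpr_gt (f538254 IH) (Lpe (f500418 IH) (Lpe (f538219 IH) (Lpr_gt (f157873 IH) (Lpr_dt (K8.f69009 IH) (Lpe (f207872 IH) (Lpr_df (f503114 IH) (Lpqs (f538159 IH) (Lpe (f204456 IH) (Lpr_gt (f59056 IH) (Lpe (f202232 IH) (Lpn (LP (LK LD1_c6 LD2_c16 LD3_c17))))))))))))))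
theorem f175361 : Led Lsl_dt (LP (LK LD1_c1 LD2_c24 LD3_c37)) = (LP (LK LD1_c2 LD2_c57 LD3_c51)) :=
  Lre_d IH (LK LD1_c1 LD2_c24 LD3_c37) (LK LD1_c2 LD2_c57 LD3_c51) Lrfl Lrfl
def v1735 : LQ := Led Lsl_gf (LP (LK LD1_c1 LD2_c24 LD3_c37))
theorem f501199 : Led Lsl_gf (LP (LK LD1_c1 LD2_c24 LD3_c37)) = v1735 :=
  Lrfl
theorem f202231 : Led Lsl_gt (LP (LK LD1_c3 LD2_c5 LD3_c13)) = (LP (LK LD1_c1 LD2_c28 LD3_c39)) :=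
  Lre_g IH (LK LD1_c3 LD2_c5 LD3_c13) (LK LD1_c1 LD2_c28 LD3_c39) Lrfl Lrfl
theorem f202230 : Led Lsl_et (LP (LK LD1_c0 LD2_c40 LD3_c59)) = (LP (LK LD1_c1 LD2_c28 LD3_c39)) :=
  Lre_e IH (LK LD1_c0 LD2_c40 LD3_c59) (LK LD1_c1 LD2_c28 LD3_c39) Lrfl Lrfl
theorem f149460 : Led Lsl_ct (LP (LK LD1_c5 LD2_c53 LD3_c56)) = (LP (LK LD1_c4 LD2_c44 LD3_c46)) :=
  Lgr Lrot40 (Lpe (K4.f71168 IH) (Lpr_cf (K2.f70865 IH) (Lpr_ff (K7.f149455 IH) (Lpn (LP (LK LD1_c4 LD2_c44 LD3_c46))))))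
theorem f149299 : Led Lsl_dt (LP (LK LD1_c6 LD2_c53 LD3_c56)) = (LP (LK LD1_c4 LD2_c35 LD3_c56)) :=
  Lgr Lrot42 (Lpr_df (K7.f149292 IH) (Lpn (LP (LK LD1_c4 LD2_c35 LD3_c56))))
theorem f202354 : Led Lsl_gf (LP (LK LD1_c2 LD2_c15 LD3_c9)) = (LP (LK LD1_c1 LD2_c24 LD3_c15)) :=
  Lgr Lrot104 (Lpr_ct (K7.f71122 IH) (Lpe (f149299 IH) (Lpe (K7.f94801 IH) (Lpr_gf (K7.f102921 IH) (Lpe (f149460 IH) (Lpe (K6.f71179 IH) (Lpe (K7.f149394 IH) (Lpr_gt (K11.f202346 IH) (Lpr_ct (K11.f202229 IH) (Lpn (LP (LK LD1_c1 LD2_c24 LD3_c15))))))))))))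
theorem f538268 : v1735 = (LP (LK LD1_c2 LD2_c15 LD3_c10)) :=
  (Llr Lrot138 (Lpe (f501199 IH) (Lpr_dt (f175361 IH) (Lpr_gt (f175374 IH) (Lpr_df (f538260 IH) (Lpr_et (f202232 IH) (Lpr_gt (f202231 IH) (Lpe (f202230 IH) (Lpe (K11.f202209 IH) (Lpe (f202354 IH) (Lpe (K7.f37814 IH) (Lpr_et (f208722 IH) (Lpn (LP (LK LD1_c2 LD2_c15 LD3_c10))))))))))))))).symm
def v1736 : LQ := Led Lsl_at (LP (LK LD1_c1 LD2_c24 LD3_c37))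
theorem f501200 : Led Lsl_at (LP (LK LD1_c1 LD2_c24 LD3_c37)) = v1736 :=
  Lrfl
theorem f501201 : Led Lsl_af (LP (LK LD1_c1 LD2_c24 LD3_c37)) = v1736 :=
  Lgr Lrot0 (Lpr_at (f501200 IH) (Lpn v1736))
theorem f538286 : Led Lsl_ft (LP (LK LD1_c4 LD2_c35 LD3_c58)) = v1736 :=
  Lgr Lrot2 (Lpr_gt (f37859 IH) (Lpq (f538268 IH) (Lpe (f501199 IH) (Lpr_af (f501201 IH) (Lpn v1736)))))
theorem f538291 : Led Lsl_ff (LP (LK LD1_c4 LD2_c35 LD3_c58)) = v1736 :=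
  Lgr Lrot3 (Lpr_ft (f538286 IH) (Lpn v1736))
theorem f158997 : Led Lsl_ft (LP (LK LD1_c2 LD2_c15 LD3_c38)) = (LP (LK LD1_c1 LD2_c4 LD3_c51)) :=
  Lre_f IH (LK LD1_c2 LD2_c15 LD3_c38) (LK LD1_c1 LD2_c4 LD3_c51) Lrfl Lrfl
theorem f137299 : Led Lsl_et (LP (LK LD1_c1 LD2_c4 LD3_c51)) = (LP (LK LD1_c2 LD2_c15 LD3_c37)) :=
  Lre_e IH (LK LD1_c1 LD2_c4 LD3_c51) (LK LD1_c2 LD2_c15 LD3_c37) Lrfl Lrfl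
theorem f175333 : Led Lsl_bt (LP (LK LD1_c1 LD2_c24 LD3_c37)) = (LP (LK LD1_c0 LD2_c38 LD3_c60)) :=
  Lre_b IH (LK LD1_c1 LD2_c24 LD3_c37) (LK LD1_c0 LD2_c38 LD3_c60) Lrfl Lrfl
theorem f55909 : Led Lsl_bt (LP (LK LD1_c0 LD2_c57 LD3_c0)) = (LP (LK LD1_c2 LD2_c0 LD3_c6)) :=
  Lre_b IH (LK LD1_c0 LD2_c57 LD3_c0) (LK LD1_c2 LD2_c0 LD3_c6) Lrfl Lrfl
theorem f175334 : Led Lsl_ef (LP (LK LD1_c1 LD2_c24 LD3_c37)) = (LP (LK LD1_c2 LD2_c0 LD3_c6)) :=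
  Lgr Lrot29 (Lpr_bt (f175333 IH) (Lpr_et (K9.f175331 IH) (Lpr_bt (f55909 IH) (Lpn (LP (LK LD1_c2 LD2_c0 LD3_c6))))))
theorem f192667 : Led Lsl_at (LP (LK LD1_c4 LD2_c5 LD3_c40)) = (LP (LK LD1_c2 LD2_c0 LD3_c6)) :=
  Lre_a IH (LK LD1_c4 LD2_c5 LD3_c40) (LK LD1_c2 LD2_c0 LD3_c6) Lrfl Lrfl
theorem f501202 : Led Lsl_ef (LP (LK LD1_c4 LD2_c5 LD3_c40)) = v1736 :=
  Lgr Lrot20 (Lpr_at (f192667 IH) (Lpe (f175334 IH) (Lpr_at (f501200 IH) (Lpn v1736))))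
theorem f501203 : Led Lsl_et (LP (LK LD1_c4 LD2_c5 LD3_c40)) = v1736 :=
  Lgr Lrot87 (Lpr_ef (f501202 IH) (Lpn v1736))
theorem f538292 : Led Lsl_ft (LP (LK LD1_c2 LD2_c15 LD3_c37)) = (LP (LK LD1_c4 LD2_c5 LD3_c40)) :=
  Lgr Lrot86 (Lpe (f137299 IH) (Lpe (f158997 IH) (Lpr_ef (f538219 IH) (Lpr_ff (f538291 IH) (Lpe (f501203 IH) (Lpn (LP (LK LD1_c4 LD2_c5 LD3_c40))))))))
theorem f494441 : Led Lsl_bt (LP (LK LD1_c1 LD2_c4 LD3_c54)) = (LP (LK LD1_c2 LD2_c15 LD3_c37)) :=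
  Lre_b IH (LK LD1_c1 LD2_c4 LD3_c54) (LK LD1_c2 LD2_c15 LD3_c37) Lrfl Lrfl
theorem f494437 : Led Lsl_ft (LP (LK LD1_c2 LD2_c15 LD3_c51)) = (LP (LK LD1_c1 LD2_c4 LD3_c54)) :=
  Lre_f IH (LK LD1_c2 LD2_c15 LD3_c51) (LK LD1_c1 LD2_c4 LD3_c54) Lrfl Lrfl
theorem f538296 : Led Lsl_bf (LP (LK LD1_c2 LD2_c15 LD3_c51)) = (LP (LK LD1_c4 LD2_c5 LD3_c40)) :=
  Lgr Lrot61 (Lpr_ft (f494437 IH) (Lpr_bt (f494441 IH) (Lpr_ft (f538292 IH) (Lpn (LP (LK LD1_c4 LD2_c5 LD3_c40))))))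
theorem f538302 : Led Lsl_bt (LP (LK LD1_c2 LD2_c15 LD3_c51)) = (LP (LK LD1_c4 LD2_c5 LD3_c40)) :=
  Lgr Lrot127 (Lpr_bf (f538296 IH) (Lpn (LP (LK LD1_c4 LD2_c5 LD3_c40))))
theorem f175323 : Led Lsl_bt (LP (LK LD1_c2 LD2_c0 LD3_c6)) = (LP (LK LD1_c0 LD2_c57 LD3_c0)) :=
  Lre_b IH (LK LD1_c2 LD2_c0 LD3_c6) (LK LD1_c0 LD2_c57 LD3_c0) Lrfl Lrfl
theorem f538305 : Led Lsl_af (LP (LK LD1_c2 LD2_c15 LD3_c51)) = (LP (LK LD1_c2 LD2_c0 LD3_c57)) :=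
  Lgr Lrot36 (Lpr_bt (f538302 IH) (Lpr_at (f192667 IH) (Lpr_bt (f175323 IH) (Lpr_at (K15.f268223 IH) (Lpr_bt (f59123 IH) (Lpn (LP (LK LD1_c2 LD2_c0 LD3_c57))))))))
def v1270 : LQ := Led Lsl_et (LP (LK LD1_c1 LD2_c4 LD3_c50))
theorem f494428 : Led Lsl_et (LP (LK LD1_c1 LD2_c4 LD3_c50)) = v1270 :=
  Lrfl
theorem f494430 : Led Lsl_ef (LP (LK LD1_c1 LD2_c4 LD3_c50)) = v1270 :=
  Lgr Lrot88 (Lpr_et (f494428 IH) (Lpn v1270))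
theorem f438094 : Led Lsl_at (LP (LK LD1_c1 LD2_c4 LD3_c50)) = (LP (LK LD1_c0 LD2_c29 LD3_c39)) :=
  Lre_a IH (LK LD1_c1 LD2_c4 LD3_c50) (LK LD1_c0 LD2_c29 LD3_c39) Lrfl Lrfl
theorem f100259 : Led Lsl_et (LP (LK LD1_c0 LD2_c29 LD3_c39)) = (LP (LK LD1_c1 LD2_c4 LD3_c54)) :=
  Lre_e IH (LK LD1_c0 LD2_c29 LD3_c39) (LK LD1_c1 LD2_c4 LD3_c54) Lrfl Lrfl
theorem f494432 : Led Lsl_at (LP (LK LD1_c1 LD2_c4 LD3_c54)) = v1270 :=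
  Lgr Lrot80 (Lpe (f100259 IH) (Lpe (f438094 IH) (Lpr_ef (f494430 IH) (Lpn v1270))))
theorem f538315 : v1270 = (LP (LK LD1_c2 LD2_c0 LD3_c3)) :=
  (Llr Lrot66 (Lpe (f494432 IH) (Lpe (f494437 IH) (Lpr_af (f538305 IH) (Lpr_ff (K16.f272030 IH) (Lpn (LP (LK LD1_c2 LD2_c0 LD3_c3)))))))).symm
theorem f452294 : Led Lsl_et (LP (LK LD1_c1 LD2_c4 LD3_c54)) = (LP (LK LD1_c0 LD2_c29 LD3_c39)) :=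
  Lre_e IH (LK LD1_c1 LD2_c4 LD3_c54) (LK LD1_c0 LD2_c29 LD3_c39) Lrfl Lrfl
theorem f494429 : Led Lsl_af (LP (LK LD1_c1 LD2_c4 LD3_c54)) = v1270 :=
  Lgr Lrot50 (Lpr_et (f452294 IH) (Lpr_at (K7.f142114 IH) (Lpr_et (f494428 IH) (Lpn v1270))))
theorem f494435 : Led Lsl_ct (LP (LK LD1_c2 LD2_c15 LD3_c43)) = (LP (LK LD1_c1 LD2_c4 LD3_c54)) :=
  Lre_c IH (LK LD1_c2 LD2_c15 LD3_c43) (LK LD1_c1 LD2_c4 LD3_c54) Lrfl Lrfl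
theorem f494444 : Led Lsl_dt (LP (LK LD1_c4 LD2_c37 LD3_c3)) = (LP (LK LD1_c2 LD2_c15 LD3_c43)) :=
  Lre_d IH (LK LD1_c4 LD2_c37 LD3_c3) (LK LD1_c2 LD2_c15 LD3_c43) Lrfl Lrfl
theorem f494445 : Led Lsl_ct (LP (LK LD1_c9 LD2_c9 LD3_c54)) = (LP (LK LD1_c4 LD2_c37 LD3_c3)) :=
  Lre_c IH (LK LD1_c9 LD2_c9 LD3_c54) (LK LD1_c4 LD2_c37 LD3_c3) Lrfl Lrfl
theorem f494446 : Led Lsl_dt (LP (LK LD1_c17 LD2_c2 LD3_c60)) = (LP (LK LD1_c9 LD2_c9 LD3_c54)) :=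
  Lre_d IH (LK LD1_c17 LD2_c2 LD3_c60) (LK LD1_c9 LD2_c9 LD3_c54) Lrfl Lrfl
theorem f538321 : Led Lsl_ct (LP (LK LD1_c11 LD2_c58 LD3_c23)) = (LP (LK LD1_c17 LD2_c2 LD3_c60)) :=
  Lgr Lrot41 (Lpe (f176050 IH) (Lpe (f9099 IH) (Lpr_df (f176046 IH) (Lpr_ft (f272024 IH) (Lpq (f538315 IH) (Lpe (f494429 IH) (Lpe (f494435 IH) (Lpe (f494444 IH) (Lpe (f494445 IH) (Lpe (f494446 IH) (Lpn (LP (LK LD1_c17 LD2_c2 LD3_c60)))))))))))))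
theorem f242905 : Led Lsl_df (LP (LK LD1_c4 LD2_c4 LD3_c51)) = (LP (LK LD1_c8 LD2_c5 LD3_c17)) :=
  Lgr Lrot38 (Lpr_dt (K16.f242843 IH) (Lpn (LP (LK LD1_c8 LD2_c5 LD3_c17))))
theorem f538328 : Led Lsl_at (LP (LK LD1_c8 LD2_c3 LD3_c46)) = (LP (LK LD1_c4 LD2_c37 LD3_c3)) :=
  Lgr Lrot33 (Lpe (K16.f272044 IH) (Lpe (f242905 IH) (Lpe (K16.f181709 IH) (Lpe (f176046 IH) (Lpr_ct (f9099 IH) (Lpr_dt (f176050 IH) (Lpr_ct (f538321 IH) (Lpr_dt (f494446 IH) (Lpr_ct (f494445 IH) (Lpn (LP (LK LD1_c4 LD2_c37 LD3_c3))))))))))))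
theorem f538344 : Led Lsl_ft (LP (LK LD1_c4 LD2_c37 LD3_c3)) = (LP (LK LD1_c9 LD2_c9 LD3_c55)) :=
  Lre_f IH (LK LD1_c4 LD2_c37 LD3_c3) (LK LD1_c9 LD2_c9 LD3_c55) Lrfl Lrfl
theorem f538345 : Led Lsl_af (LP (LK LD1_c8 LD2_c5 LD3_c17)) = (LP (LK LD1_c9 LD2_c9 LD3_c55)) :=
  Lgr Lrot45 (Lpr_ft (K16.f272044 IH) (Lpr_at (f538328 IH) (Lpr_ft (f538344 IH) (Lpn (LP (LK LD1_c9 LD2_c9 LD3_c55))))))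
theorem f538351 : Led Lsl_dt (LP (LK LD1_c4 LD2_c37 LD3_c4)) = (LP (LK LD1_c9 LD2_c9 LD3_c55)) :=
  Lre_d IH (LK LD1_c4 LD2_c37 LD3_c4) (LK LD1_c9 LD2_c9 LD3_c55) Lrfl Lrfl
theorem f538352 : Led Lsl_at (LP (LK LD1_c4 LD2_c4 LD3_c51)) = (LP (LK LD1_c4 LD2_c37 LD3_c4)) :=
  Lgr Lrot51 (Lpr_df (f242905 IH) (Lpr_af (f538345 IH) (Lpe (f538351 IH) (Lpn (LP (LK LD1_c4 LD2_c37 LD3_c4))))))
theorem f211605 : Led Lsl_bt (LP (LK LD1_c2 LD2_c0 LD3_c1)) = (LP (LK LD1_c4 LD2_c5 LD3_c35)) :=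
  Lre_b IH (LK LD1_c2 LD2_c0 LD3_c1) (LK LD1_c4 LD2_c5 LD3_c35) Lrfl Lrfl
theorem f211606 : Led Lsl_df (LP (LK LD1_c8 LD2_c3 LD3_c46)) = (LP (LK LD1_c4 LD2_c5 LD3_c35)) :=
  Lgr Lrot12 (Lpr_bt (K16.f69772 IH) (Lpr_dt (K13.f211601 IH) (Lpr_bt (f211605 IH) (Lpn (LP (LK LD1_c4 LD2_c5 LD3_c35))))))
theorem f196167 : Led Lsl_ct (LP (LK LD1_c8 LD2_c3 LD3_c46)) = (LP (LK LD1_c15 LD2_c10 LD3_c37)) :=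
  Lre_c IH (LK LD1_c8 LD2_c3 LD3_c46) (LK LD1_c15 LD2_c10 LD3_c37) Lrfl Lrfl
theorem f211640 : Led Lsl_dt (LP (LK LD1_c15 LD2_c10 LD3_c37)) = (LP (LK LD1_c24 LD2_c59 LD3_c57)) :=
  Lre_d IH (LK LD1_c15 LD2_c10 LD3_c37) (LK LD1_c24 LD2_c59 LD3_c57) Lrfl Lrfl
theorem f538304 : Led Lsl_ct (LP (LK LD1_c2 LD2_c15 LD3_c51)) = (LP (LK LD1_c4 LD2_c37 LD3_c4)) :=
  Lre_c IH (LK LD1_c2 LD2_c15 LD3_c51) (LK LD1_c4 LD2_c37 LD3_c4) Lrfl Lrfl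
theorem f538308 : Led Lsl_dt (LP (LK LD1_c4 LD2_c37 LD3_c21)) = (LP (LK LD1_c2 LD2_c15 LD3_c51)) :=
  Lre_d IH (LK LD1_c4 LD2_c37 LD3_c21) (LK LD1_c2 LD2_c15 LD3_c51) Lrfl Lrfl
theorem f538365 : Led Lsl_ct (LP (LK LD1_c9 LD2_c10 LD3_c19)) = (LP (LK LD1_c4 LD2_c37 LD3_c21)) :=
  Lre_c IH (LK LD1_c9 LD2_c10 LD3_c19) (LK LD1_c4 LD2_c37 LD3_c21) Lrfl Lrfl
theorem f538366 : Led Lsl_dt (LP (LK LD1_c17 LD2_c3 LD3_c30)) = (LP (LK LD1_c9 LD2_c10 LD3_c19)) :=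
  Lre_d IH (LK LD1_c17 LD2_c3 LD3_c30) (LK LD1_c9 LD2_c10 LD3_c19) Lrfl Lrfl
theorem f538367 : Led Lsl_ct (LP (LK LD1_c24 LD2_c59 LD3_c57)) = (LP (LK LD1_c17 LD2_c3 LD3_c30)) :=
  Lgr Lrot41 (Lpe (f211640 IH) (Lpe (f196167 IH) (Lpr_df (f211606 IH) (Lpe (K16.f272040 IH) (Lpr_at (f538352 IH) (Lpe (f538304 IH) (Lpe (f538308 IH) (Lpe (f538365 IH) (Lpe (f538366 IH) (Lpn (LP (LK LD1_c17 LD2_c3 LD3_c30))))))))))))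
theorem f198667 : Led Lsl_ct (LP (LK LD1_c2 LD2_c0 LD3_c3)) = (LP (LK LD1_c4 LD2_c5 LD3_c35)) :=
  Lre_c IH (LK LD1_c2 LD2_c0 LD3_c3) (LK LD1_c4 LD2_c5 LD3_c35) Lrfl Lrfl
theorem f211641 : Led Lsl_dt (LP (LK LD1_c4 LD2_c5 LD3_c36)) = (LP (LK LD1_c2 LD2_c0 LD3_c3)) :=
  Lre_d IH (LK LD1_c4 LD2_c5 LD3_c36) (LK LD1_c2 LD2_c0 LD3_c3) Lrfl Lrfl
theorem f272034 : Led Lsl_ft (LP (LK LD1_c3 LD2_c0 LD3_c21)) = (LP (LK LD1_c4 LD2_c5 LD3_c36)) :=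
  Lgr Lrot54 (Lpr_df (f176046 IH) (Lpr_ff (K16.f272030 IH) (Lpe (f211641 IH) (Lpn (LP (LK LD1_c4 LD2_c5 LD3_c36))))))
theorem f272036 : Led Lsl_ff (LP (LK LD1_c3 LD2_c0 LD3_c21)) = (LP (LK LD1_c4 LD2_c5 LD3_c36)) :=
  Lgr Lrot3 (Lpr_ft (f272034 IH) (Lpn (LP (LK LD1_c4 LD2_c5 LD3_c36))))
theorem f538374 : Led Lsl_at (LP (LK LD1_c3 LD2_c0 LD3_c21)) = (LP (LK LD1_c4 LD2_c37 LD3_c21)) :=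
  Lgr Lrot33 (Lpr_ff (f272036 IH) (Lpr_dt (f211641 IH) (Lpr_ct (f198667 IH) (Lpe (f211606 IH) (Lpr_ct (f196167 IH) (Lpr_dt (f211640 IH) (Lpr_ct (f538367 IH) (Lpr_dt (f538366 IH) (Lpr_ct (f538365 IH) (Lpn (LP (LK LD1_c4 LD2_c37 LD3_c21))))))))))))
theorem f538381 : Led Lsl_ft (LP (LK LD1_c4 LD2_c37 LD3_c21)) = (LP (LK LD1_c2 LD2_c15 LD3_c50)) :=
  Lre_f IH (LK LD1_c4 LD2_c37 LD3_c21) (LK LD1_c2 LD2_c15 LD3_c50) Lrfl Lrfl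
theorem f538382 : Led Lsl_af (LP (LK LD1_c4 LD2_c5 LD3_c36)) = (LP (LK LD1_c2 LD2_c15 LD3_c50)) :=
  Lgr Lrot45 (Lpe (f272036 IH) (Lpr_at (f538374 IH) (Lpr_ft (f538381 IH) (Lpn (LP (LK LD1_c2 LD2_c15 LD3_c50))))))
theorem f183185 : Led Lsl_bt (LP (LK LD1_c4 LD2_c5 LD3_c36)) = (LP (LK LD1_c2 LD2_c0 LD3_c4)) :=
  Lre_b IH (LK LD1_c4 LD2_c5 LD3_c36) (LK LD1_c2 LD2_c0 LD3_c4) Lrfl Lrfl
theorem f181143 : Led Lsl_bt (LP (LK LD1_c1 LD2_c25 LD3_c55)) = (LP (LK LD1_c3 LD2_c0 LD3_c19)) :=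
  Lre_b IH (LK LD1_c1 LD2_c25 LD3_c55) (LK LD1_c3 LD2_c0 LD3_c19) Lrfl Lrfl
theorem f538386 : Led Lsl_bt (LP (LK LD1_c4 LD2_c36 LD3_c50)) = (LP (LK LD1_c2 LD2_c15 LD3_c50)) :=
  Lre_b IH (LK LD1_c4 LD2_c36 LD3_c50) (LK LD1_c2 LD2_c15 LD3_c50) Lrfl Lrfl
theorem f538387 : Led Lsl_at (LP (LK LD1_c3 LD2_c0 LD3_c19)) = (LP (LK LD1_c4 LD2_c36 LD3_c50)) :=
  Lgr Lrot67 (Lpe (f181143 IH) (Lpr_af (K16.f272020 IH) (Lpe (f183185 IH) (Lpr_af (f538382 IH) (Lpe (f538386 IH) (Lpn (LP (LK LD1_c4 LD2_c36 LD3_c50))))))))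
theorem f181142 : Led Lsl_bt (LP (LK LD1_c2 LD2_c0 LD3_c55)) = (LP (LK LD1_c0 LD2_c57 LD3_c28)) :=
  Lre_b IH (LK LD1_c2 LD2_c0 LD3_c55) (LK LD1_c0 LD2_c57 LD3_c28) Lrfl Lrfl
theorem f268217 : Led Lsl_ft (LP (LK LD1_c2 LD2_c0 LD3_c6)) = (LP (LK LD1_c2 LD2_c0 LD3_c55)) :=
  Lgr Lrot75 (Lpe (f55909 IH) (Lpr_ff (K15.f268214 IH) (Lpe (f181142 IH) (Lpn (LP (LK LD1_c2 LD2_c0 LD3_c55))))))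
theorem f175362 : Led Lsl_dt (LP (LK LD1_c4 LD2_c5 LD3_c41)) = (LP (LK LD1_c2 LD2_c0 LD3_c6)) :=
  Lre_d IH (LK LD1_c4 LD2_c5 LD3_c41) (LK LD1_c2 LD2_c0 LD3_c6) Lrfl Lrfl
theorem f175316 : Led Lsl_bt (LP (LK LD1_c4 LD2_c5 LD3_c41)) = (LP (LK LD1_c2 LD2_c0 LD3_c7)) :=
  Lre_b IH (LK LD1_c4 LD2_c5 LD3_c41) (LK LD1_c2 LD2_c0 LD3_c7) Lrfl Lrfl
theorem f268212 : Led Lsl_ff (LP (LK LD1_c4 LD2_c5 LD3_c41)) = (LP (LK LD1_c3 LD2_c0 LD3_c19)) :=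
  Lgr Lrot25 (Lpr_bt (f175316 IH) (Lpr_ft (K15.f268208 IH) (Lpr_bt (f181143 IH) (Lpn (LP (LK LD1_c3 LD2_c0 LD3_c19))))))
theorem f412434 : Led Lsl_df (LP (LK LD1_c3 LD2_c0 LD3_c19)) = (LP (LK LD1_c2 LD2_c0 LD3_c55)) :=
  Lgr Lrot78 (Lpe (f268212 IH) (Lpr_dt (f175362 IH) (Lpr_ft (f268217 IH) (Lpn (LP (LK LD1_c2 LD2_c0 LD3_c55))))))
theorem f159185 : Led Lsl_dt (LP (LK LD1_c4 LD2_c36 LD3_c50)) = (LP (LK LD1_c2 LD2_c15 LD3_c37)) :=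
  Lre_d IH (LK LD1_c4 LD2_c36 LD3_c50) (LK LD1_c2 LD2_c15 LD3_c37) Lrfl Lrfl
theorem f538392 : Led Lsl_af (LP (LK LD1_c2 LD2_c0 LD3_c55)) = (LP (LK LD1_c2 LD2_c15 LD3_c37)) :=
  Lgr Lrot117 (Lpe (f412434 IH) (Lpr_at (f538387 IH) (Lpr_dt (f159185 IH) (Lpn (LP (LK LD1_c2 LD2_c15 LD3_c37))))))
theorem f157735 : Led Lsl_at (LP (LK LD1_c2 LD2_c15 LD3_c34)) = (LP (LK LD1_c1 LD2_c4 LD3_c51)) :=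
  Lre_a IH (LK LD1_c2 LD2_c15 LD3_c34) (LK LD1_c1 LD2_c4 LD3_c51) Lrfl Lrfl
theorem f538399 : Led Lsl_et (LP (LK LD1_c2 LD2_c0 LD3_c55)) = (LP (LK LD1_c2 LD2_c15 LD3_c34)) :=
  Lgr Lrot123 (Lpr_af (f538392 IH) (Lpe (f137299 IH) (Lpe (f157735 IH) (Lpn (LP (LK LD1_c2 LD2_c15 LD3_c34))))))
theorem f495954 : Led Lsl_df (LP (LK LD1_c1 LD2_c36 LD3_c32)) = v1506 :=
  Lgr Lrot12 (Lpr_bt (K4.f40101 IH) (Lpr_dt (K11.f206791 IH) (Lpr_bt (f495952 IH) (Lpn v1506))))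
def v477 : LQ := Led Lsl_et (LP (LK LD1_c0 LD2_c42 LD3_c8))
theorem f453540 : Led Lsl_et (LP (LK LD1_c0 LD2_c42 LD3_c8)) = v477 :=
  Lrfl
theorem f104888 : Led Lsl_et (LP (LK LD1_c2 LD2_c18 LD3_c58)) = (LP (LK LD1_c1 LD2_c6 LD3_c31)) :=
  Lre_e IH (LK LD1_c2 LD2_c18 LD3_c58) (LK LD1_c1 LD2_c6 LD3_c31) Lrfl Lrfl
theorem f453542 : Led Lsl_bf (LP (LK LD1_c2 LD2_c18 LD3_c58)) = v477 :=
  Lgr Lrot96 (Lpr_et (f104888 IH) (Lpe (K32.f202375 IH) (Lpr_et (f453540 IH) (Lpn v477))))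
def v1894 : LQ := Led Lsl_et (LP (LK LD1_c1 LD2_c31 LD3_c6))
theorem f506283 : Led Lsl_et (LP (LK LD1_c1 LD2_c31 LD3_c6)) = v1894 :=
  Lrfl
theorem f453543 : Led Lsl_ef (LP (LK LD1_c0 LD2_c42 LD3_c8)) = v477 :=
  Lgr Lrot88 (Lpr_et (f453540 IH) (Lpn v477))
theorem f506286 : Led Lsl_cf v477 = v1894 :=
  Lgr Lrot39 (Lpe (f453543 IH) (Lpr_ct (K8.f69248 IH) (Lpr_et (f506283 IH) (Lpn v1894))))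
theorem f161538 : Led Lsl_ct (LP (LK LD1_c2 LD2_c49 LD3_c5)) = (LP (LK LD1_c1 LD2_c20 LD3_c40)) :=
  Lre_c IH (LK LD1_c2 LD2_c49 LD3_c5) (LK LD1_c1 LD2_c20 LD3_c40) Lrfl Lrfl
theorem f207312 : Led Lsl_ef (LP (LK LD1_c4 LD2_c37 LD3_c60)) = (LP (LK LD1_c3 LD2_c20 LD3_c29)) :=
  Lgr Lrot88 (Lpr_et (f207308 IH) (Lpn (LP (LK LD1_c3 LD2_c20 LD3_c29))))
theorem f207132 : Led Lsl_at (LP (LK LD1_c4 LD2_c37 LD3_c54)) = (LP (LK LD1_c3 LD2_c20 LD3_c29)) :=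
  Lgr Lrot100 (Lpr_af (f207126 IH) (Lpn (LP (LK LD1_c3 LD2_c20 LD3_c29))))
theorem f206812 : Led Lsl_et (LP (LK LD1_c0 LD2_c44 LD3_c44)) = (LP (LK LD1_c1 LD2_c36 LD3_c34)) :=
  Lre_e IH (LK LD1_c0 LD2_c44 LD3_c44) (LK LD1_c1 LD2_c36 LD3_c34) Lrfl Lrfl
theorem f206905 : Led Lsl_ft (LP (LK LD1_c1 LD2_c36 LD3_c34)) = (LP (LK LD1_c3 LD2_c20 LD3_c23)) :=
  Lre_f IH (LK LD1_c1 LD2_c36 LD3_c34) (LK LD1_c3 LD2_c20 LD3_c23) Lrfl Lrfl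
theorem f206906 : Led Lsl_ef (LP (LK LD1_c4 LD2_c37 LD3_c54)) = (LP (LK LD1_c3 LD2_c20 LD3_c23)) :=
  Lgr Lrot21 (Lpr_ft (f206904 IH) (Lpr_et (f79951 IH) (Lpr_ft (K11.f206896 IH) (Lpr_et (f206812 IH) (Lpr_ft (f206905 IH) (Lpn (LP (LK LD1_c3 LD2_c20 LD3_c23))))))))
theorem f207316 : Led Lsl_at (LP (LK LD1_c4 LD2_c37 LD3_c60)) = (LP (LK LD1_c3 LD2_c20 LD3_c23)) :=
  Lgr Lrot80 (Lpr_ef (f207312 IH) (Lpe (f207132 IH) (Lpr_ef (f206906 IH) (Lpn (LP (LK LD1_c3 LD2_c20 LD3_c23))))))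
theorem f207314 : Led Lsl_ft (LP (LK LD1_c2 LD2_c16 LD3_c7)) = (LP (LK LD1_c4 LD2_c37 LD3_c60)) :=
  Lre_f IH (LK LD1_c2 LD2_c16 LD3_c7) (LK LD1_c4 LD2_c37 LD3_c60) Lrfl Lrfl
theorem f206893 : Led Lsl_ft (LP (LK LD1_c3 LD2_c20 LD3_c23)) = (LP (LK LD1_c1 LD2_c36 LD3_c34)) :=
  Lre_f IH (LK LD1_c3 LD2_c20 LD3_c23) (LK LD1_c1 LD2_c36 LD3_c34) Lrfl Lrfl
theorem f207325 : Led Lsl_af (LP (LK LD1_c2 LD2_c16 LD3_c7)) = (LP (LK LD1_c1 LD2_c36 LD3_c34)) :=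
  Lgr Lrot45 (Lpr_ft (f207314 IH) (Lpr_at (f207316 IH) (Lpr_ft (f206893 IH) (Lpn (LP (LK LD1_c1 LD2_c36 LD3_c34))))))
theorem f207320 : Led Lsl_et (LP (LK LD1_c2 LD2_c16 LD3_c7)) = (LP (LK LD1_c1 LD2_c5 LD3_c0)) :=
  Lre_e IH (LK LD1_c2 LD2_c16 LD3_c7) (LK LD1_c1 LD2_c5 LD3_c0) Lrfl Lrfl
theorem f207342 : Led Lsl_at (LP (LK LD1_c1 LD2_c5 LD3_c0)) = (LP (LK LD1_c0 LD2_c44 LD3_c44)) :=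
  Lgr Lrot80 (Lpe (f207320 IH) (Lpr_af (f207325 IH) (Lpe (f206812 IH) (Lpn (LP (LK LD1_c0 LD2_c44 LD3_c44))))))
theorem f452292 : Led Lsl_at (LP (LK LD1_c1 LD2_c20 LD3_c40)) = K11.v342 :=
  Lgr Lrot51 (Lpe (K11.f206791 IH) (Lpe (f207342 IH) (Lpr_df (f452281 IH) (Lpn K11.v342))))
theorem f535719 : Led Lsl_af (LP (LK LD1_c2 LD2_c49 LD3_c5)) = v2808 :=
  Lgr Lrot68 (Lpr_ct (f161538 IH) (Lpr_at (f452292 IH) (Lpr_ct (f535718 IH) (Lpn v2808))))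
theorem f506287 : Led Lsl_ef (LP (LK LD1_c1 LD2_c31 LD3_c6)) = v1894 :=
  Lgr Lrot88 (Lpr_et (f506283 IH) (Lpn v1894))
theorem f69204 : Led Lsl_at (LP (LK LD1_c1 LD2_c31 LD3_c6)) = (LP (LK LD1_c0 LD2_c42 LD3_c1)) :=
  Lre_a IH (LK LD1_c1 LD2_c31 LD3_c6) (LK LD1_c0 LD2_c42 LD3_c1) Lrfl Lrfl
theorem f149591 : Led Lsl_et (LP (LK LD1_c0 LD2_c42 LD3_c1)) = (LP (LK LD1_c1 LD2_c31 LD3_c8)) :=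
  Lre_e IH (LK LD1_c0 LD2_c42 LD3_c1) (LK LD1_c1 LD2_c31 LD3_c8) Lrfl Lrfl
theorem f506288 : Led Lsl_at (LP (LK LD1_c1 LD2_c31 LD3_c8)) = v1894 :=
  Lgr Lrot80 (Lpe (f149591 IH) (Lpe (f69204 IH) (Lpr_ef (f506287 IH) (Lpn v1894))))
theorem f537787 : (LP (LK LD1_c2 LD2_c49 LD3_c5)) = v1894 :=
  Lefun (Lecon (Lfl_af (f535719 IH)) (f537465 IH)) (f506288 IH)
theorem f537957 : v477 = (LP (LK LD1_c1 LD2_c20 LD3_c40)) :=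
  Lefun (Lecon (Lfl_cf (f506286 IH)) (f537787 IH).symm) (f161538 IH)
theorem f538035 : (LP (LK LD1_c2 LD2_c18 LD3_c58)) = v1506 :=
  Lefun (Lecon (Lfl_bf (f453542 IH)) (f537957 IH)) (f495952 IH)
theorem f202562 : Led Lsl_gf (LP (LK LD1_c0 LD2_c40 LD3_c58)) = (LP (LK LD1_c1 LD2_c6 LD3_c31)) :=
  Lgr Lrot76 (Lpr_af (K6.f132797 IH) (Lpe (K6.f132800 IH) (Lpr_gt (K11.f202383 IH) (Lpn (LP (LK LD1_c1 LD2_c6 LD3_c31))))))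
theorem f132782 : Led Lsl_et (LP (LK LD1_c1 LD2_c28 LD3_c38)) = (LP (LK LD1_c0 LD2_c40 LD3_c58)) :=
  Lre_e IH (LK LD1_c1 LD2_c28 LD3_c38) (LK LD1_c0 LD2_c40 LD3_c58) Lrfl Lrfl
theorem f538409 : Led Lsl_gf (LP (LK LD1_c3 LD2_c0 LD3_c19)) = (LP (LK LD1_c3 LD2_c5 LD3_c10)) :=
  Lgr Lrot145 (Lpr_df (f412434 IH) (Lpr_et (f538399 IH) (Lpe (K8.f159001 IH) (Lpe (K8.f148992 IH) (Lpr_gt (K8.f56813 IH) (Lpr_df (f495954 IH) (Lpq (f538035 IH) (Lpr_et (f104888 IH) (Lpe (f202562 IH) (Lpe (f132782 IH) (Lpr_dt (K8.f132779 IH) (Lpn (LP (LK LD1_c3 LD2_c5 LD3_c10))))))))))))))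
theorem f81099 : Led Lsl_gt (LP (LK LD1_c3 LD2_c5 LD3_c9)) = (LP (LK LD1_c1 LD2_c28 LD3_c38)) :=
  Lre_g IH (LK LD1_c3 LD2_c5 LD3_c9) (LK LD1_c1 LD2_c28 LD3_c38) Lrfl Lrfl
theorem f138488 : Led Lsl_et (LP (LK LD1_c6 LD2_c16 LD3_c9)) = (LP (LK LD1_c3 LD2_c5 LD3_c9)) :=
  Lre_e IH (LK LD1_c6 LD2_c16 LD3_c9) (LK LD1_c3 LD2_c5 LD3_c9) Lrfl Lrfl
theorem f71468 : Led Lsl_gt (LP (LK LD1_c1 LD2_c4 LD3_c45)) = (LP (LK LD1_c2 LD2_c15 LD3_c20)) :=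
  Lre_g IH (LK LD1_c1 LD2_c4 LD3_c45) (LK LD1_c2 LD2_c15 LD3_c20) Lrfl Lrfl
theorem f71469 : Led Lsl_dt (LP (LK LD1_c2 LD2_c15 LD3_c20)) = (LP (LK LD1_c4 LD2_c36 LD3_c22)) :=
  Lre_d IH (LK LD1_c2 LD2_c15 LD3_c20) (LK LD1_c4 LD2_c36 LD3_c22) Lrfl Lrfl
theorem f138489 : Led Lsl_gt (LP (LK LD1_c4 LD2_c36 LD3_c22)) = (LP (LK LD1_c9 LD2_c8 LD3_c53)) :=
  Lre_g IH (LK LD1_c4 LD2_c36 LD3_c22) (LK LD1_c9 LD2_c8 LD3_c53) Lrfl Lrfl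
theorem f138490 : Led Lsl_dt (LP (LK LD1_c6 LD2_c16 LD3_c9)) = (LP (LK LD1_c9 LD2_c8 LD3_c53)) :=
  Lgr Lrot56 (Lpr_et (f138488 IH) (Lpr_gt (f81099 IH) (Lpe (K6.f132795 IH) (Lpr_dt (K6.f80264 IH) (Lpr_gt (K8.f138481 IH) (Lpe (K8.f59894 IH) (Lpr_et (K2.f71200 IH) (Lpr_gt (f71468 IH) (Lpr_dt (f71469 IH) (Lpr_gt (f138489 IH) (Lpn (LP (LK LD1_c9 LD2_c8 LD3_c53)))))))))))))
theorem f538413 : Led Lsl_ef (LP (LK LD1_c2 LD2_c51 LD3_c42)) = (LP (LK LD1_c2 LD2_c15 LD3_c20)) :=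
  Lgr Lrot17 (Lpr_gf (K8.f159001 IH) (Lpe (f538399 IH) (Lpe (f412434 IH) (Lpr_gf (f538409 IH) (Lpe (K8.f132779 IH) (Lpe (f81099 IH) (Lpe (f138488 IH) (Lpr_dt (f138490 IH) (Lpe (f138489 IH) (Lpe (f71469 IH) (Lpn (LP (LK LD1_c2 LD2_c15 LD3_c20)))))))))))))
theorem f538422 : Led Lsl_et (LP (LK LD1_c2 LD2_c51 LD3_c42)) = (LP (LK LD1_c2 LD2_c15 LD3_c20)) :=
  Lgr Lrot87 (Lpr_ef (f538413 IH) (Lpn (LP (LK LD1_c2 LD2_c15 LD3_c20))))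
theorem f439083 : Led Lsl_et (LP (LK LD1_c3 LD2_c5 LD3_c4)) = (LP (LK LD1_c1 LD2_c28 LD3_c35)) :=
  Lre_e IH (LK LD1_c3 LD2_c5 LD3_c4) (LK LD1_c1 LD2_c28 LD3_c35) Lrfl Lrfl
theorem f202300 : Led Lsl_gt (LP (LK LD1_c2 LD2_c15 LD3_c20)) = (LP (LK LD1_c4 LD2_c36 LD3_c4)) :=
  Lre_g IH (LK LD1_c2 LD2_c15 LD3_c20) (LK LD1_c4 LD2_c36 LD3_c4) Lrfl Lrfl
theorem f71065 : Led Lsl_ct (LP (LK LD1_c4 LD2_c36 LD3_c4)) = (LP (LK LD1_c9 LD2_c8 LD3_c13)) :=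
  Lre_c IH (LK LD1_c4 LD2_c36 LD3_c4) (LK LD1_c9 LD2_c8 LD3_c13) Lrfl Lrfl
theorem f71066 : Led Lsl_ct (LP (LK LD1_c5 LD2_c53 LD3_c55)) = (LP (LK LD1_c2 LD2_c53 LD3_c23)) :=
  Lre_c IH (LK LD1_c5 LD2_c53 LD3_c55) (LK LD1_c2 LD2_c53 LD3_c23) Lrfl Lrfl
theorem f71067 : Led Lsl_ef (LP (LK LD1_c4 LD2_c36 LD3_c4)) = (LP (LK LD1_c2 LD2_c53 LD3_c23)) :=
  Lgr Lrot28 (Lpr_ct (f71065 IH) (Lpr_et (K2.f71045 IH) (Lpr_ct (f71066 IH) (Lpn (LP (LK LD1_c2 LD2_c53 LD3_c23))))))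
theorem f71098 : Led Lsl_dt (LP (LK LD1_c2 LD2_c53 LD3_c23)) = (LP (LK LD1_c5 LD2_c54 LD3_c2)) :=
  Lre_d IH (LK LD1_c2 LD2_c53 LD3_c23) (LK LD1_c5 LD2_c54 LD3_c2) Lrfl Lrfl
theorem f202286 : Led Lsl_gt (LP (LK LD1_c5 LD2_c54 LD3_c2)) = (LP (LK LD1_c2 LD2_c53 LD3_c53)) :=
  Lre_g IH (LK LD1_c5 LD2_c54 LD3_c2) (LK LD1_c2 LD2_c53 LD3_c53) Lrfl Lrfl
theorem f538430 : Led Lsl_dt (LP (LK LD1_c3 LD2_c5 LD3_c4)) = (LP (LK LD1_c2 LD2_c53 LD3_c53)) :=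
  Lgr Lrot37 (Lpr_et (f439083 IH) (Lpr_gt (f503111 IH) (Lpe (f503114 IH) (Lpr_gt (f207870 IH) (Lpr_df (K8.f148992 IH) (Lpr_et (f538422 IH) (Lpr_gt (f202300 IH) (Lpr_ef (f71067 IH) (Lpr_dt (f71098 IH) (Lpr_gt (f202286 IH) (Lpn (LP (LK LD1_c2 LD2_c53 LD3_c53)))))))))))))
theorem f538435 : Led Lsl_df (LP (LK LD1_c3 LD2_c5 LD3_c4)) = (LP (LK LD1_c2 LD2_c53 LD3_c53)) :=
  Lgr Lrot38 (Lpr_dt (f538430 IH) (Lpn (LP (LK LD1_c2 LD2_c53 LD3_c53))))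
theorem f81069 : Led Lsl_dt (LP (LK LD1_c12 LD2_c9 LD3_c29)) = (LP (LK LD1_c6 LD2_c15 LD3_c56)) :=
  Lre_d IH (LK LD1_c12 LD2_c9 LD3_c29) (LK LD1_c6 LD2_c15 LD3_c56) Lrfl Lrfl
theorem f71110 : Led Lsl_gt (LP (LK LD1_c1 LD2_c22 LD3_c54)) = (LP (LK LD1_c2 LD2_c53 LD3_c23)) :=
  Lre_g IH (LK LD1_c1 LD2_c22 LD3_c54) (LK LD1_c2 LD2_c53 LD3_c23) Lrfl Lrfl
theorem f201441 : Led Lsl_ct (LP (LK LD1_c2 LD2_c53 LD3_c46)) = (LP (LK LD1_c1 LD2_c22 LD3_c54)) :=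
  Lre_c IH (LK LD1_c2 LD2_c53 LD3_c46) (LK LD1_c1 LD2_c22 LD3_c54) Lrfl Lrfl
theorem f186691 : Led Lsl_gt (LP (LK LD1_c2 LD2_c53 LD3_c46)) = (LP (LK LD1_c5 LD2_c54 LD3_c50)) :=
  Lre_g IH (LK LD1_c2 LD2_c53 LD3_c46) (LK LD1_c5 LD2_c54 LD3_c50) Lrfl Lrfl
theorem f186700 : Led Lsl_dt (LP (LK LD1_c5 LD2_c54 LD3_c50)) = (LP (LK LD1_c11 LD2_c35 LD3_c10)) :=
  Lre_d IH (LK LD1_c5 LD2_c54 LD3_c50) (LK LD1_c11 LD2_c35 LD3_c10) Lrfl Lrfl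
theorem f538464 : Led Lsl_gf (LP (LK LD1_c12 LD2_c9 LD3_c29)) = (LP (LK LD1_c11 LD2_c35 LD3_c10)) :=
  Lgr Lrot143 (Lpr_dt (f81069 IH) (Lpe (K8.f80999 IH) (Lpr_df (f538435 IH) (Lpe (f202286 IH) (Lpe (f71098 IH) (Lpe (f71110 IH) (Lpe (f201441 IH) (Lpr_gt (f186691 IH) (Lpr_dt (f186700 IH) (Lpn (LP (LK LD1_c11 LD2_c35 LD3_c10))))))))))))
theorem f421193 : Led Lsl_ft (LP (LK LD1_c5 LD2_c13 LD3_c52)) = (LP (LK LD1_c3 LD2_c59 LD3_c18)) :=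
  Lgr Lrot48 (Lpr_ff (K32.f421187 IH) (Lpn (LP (LK LD1_c3 LD2_c59 LD3_c18))))
theorem f171710 : Led Lsl_bt (LP (LK LD1_c2 LD2_c33 LD3_c51)) = (LP (LK LD1_c5 LD2_c13 LD3_c52)) :=
  Lre_b IH (LK LD1_c2 LD2_c33 LD3_c51) (LK LD1_c5 LD2_c13 LD3_c52) Lrfl Lrfl
theorem f161200 : Led Lsl_bt (LP (LK LD1_c3 LD2_c59 LD3_c18)) = (LP (LK LD1_c1 LD2_c56 LD3_c25)) :=
  Lre_b IH (LK LD1_c3 LD2_c59 LD3_c18) (LK LD1_c1 LD2_c56 LD3_c25) Lrfl Lrfl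
theorem f421195 : Led Lsl_ff (LP (LK LD1_c2 LD2_c33 LD3_c51)) = (LP (LK LD1_c1 LD2_c56 LD3_c25)) :=
  Lgr Lrot25 (Lpr_bt (f171710 IH) (Lpr_ft (f421193 IH) (Lpr_bt (f161200 IH) (Lpn (LP (LK LD1_c1 LD2_c56 LD3_c25))))))
theorem f171700 : Led Lsl_ct (LP (LK LD1_c2 LD2_c33 LD3_c51)) = (LP (LK LD1_c5 LD2_c13 LD3_c53)) :=
  Lre_c IH (LK LD1_c2 LD2_c33 LD3_c51) (LK LD1_c5 LD2_c13 LD3_c53) Lrfl Lrfl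
theorem f161189 : Led Lsl_ct (LP (LK LD1_c3 LD2_c59 LD3_c23)) = (LP (LK LD1_c1 LD2_c56 LD3_c25)) :=
  Lre_c IH (LK LD1_c3 LD2_c59 LD3_c23) (LK LD1_c1 LD2_c56 LD3_c25) Lrfl Lrfl
theorem f421197 : Led Lsl_ft (LP (LK LD1_c5 LD2_c13 LD3_c53)) = (LP (LK LD1_c3 LD2_c59 LD3_c23)) :=
  Lgr Lrot4 (Lpe (f171700 IH) (Lpr_ff (f421195 IH) (Lpe (f161189 IH) (Lpn (LP (LK LD1_c3 LD2_c59 LD3_c23))))))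
theorem f421209 : Led Lsl_ff (LP (LK LD1_c5 LD2_c13 LD3_c53)) = (LP (LK LD1_c3 LD2_c59 LD3_c23)) :=
  Lgr Lrot3 (Lpr_ft (f421197 IH) (Lpn (LP (LK LD1_c3 LD2_c59 LD3_c23))))
theorem f158337 : Led Lsl_bt (LP (LK LD1_c7 LD2_c59 LD3_c56)) = (LP (LK LD1_c3 LD2_c59 LD3_c23)) :=
  Lre_b IH (LK LD1_c7 LD2_c59 LD3_c56) (LK LD1_c3 LD2_c59 LD3_c23) Lrfl Lrfl
theorem f161198 : Led Lsl_bt (LP (LK LD1_c4 LD2_c58 LD3_c17)) = (LP (LK LD1_c2 LD2_c27 LD3_c0)) :=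
  Lre_b IH (LK LD1_c4 LD2_c58 LD3_c17) (LK LD1_c2 LD2_c27 LD3_c0) Lrfl Lrfl
theorem f186697 : Led Lsl_bt (LP (LK LD1_c2 LD2_c33 LD3_c58)) = (LP (LK LD1_c5 LD2_c14 LD3_c10)) :=
  Lre_b IH (LK LD1_c2 LD2_c33 LD3_c58) (LK LD1_c5 LD2_c14 LD3_c10) Lrfl Lrfl
theorem f387198 : Led Lsl_ff (LP (LK LD1_c4 LD2_c58 LD3_c17)) = (LP (LK LD1_c5 LD2_c14 LD3_c10)) :=
  Lgr Lrot25 (Lpr_bt (f161198 IH) (Lpr_ft (K32.f387176 IH) (Lpr_bt (f186697 IH) (Lpn (LP (LK LD1_c5 LD2_c14 LD3_c10))))))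
theorem f387230 : Led Lsl_ft (LP (LK LD1_c4 LD2_c58 LD3_c17)) = (LP (LK LD1_c5 LD2_c14 LD3_c10)) :=
  Lgr Lrot48 (Lpr_ff (f387198 IH) (Lpn (LP (LK LD1_c5 LD2_c14 LD3_c10))))
theorem f37824 : Led Lsl_et (LP (LK LD1_c7 LD2_c59 LD3_c56)) = (LP (LK LD1_c3 LD2_c59 LD3_c21)) :=
  Lre_e IH (LK LD1_c7 LD2_c59 LD3_c56) (LK LD1_c3 LD2_c59 LD3_c21) Lrfl Lrfl
theorem f161113 : Led Lsl_et (LP (LK LD1_c2 LD2_c26 LD3_c60)) = (LP (LK LD1_c4 LD2_c58 LD3_c17)) :=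
  Lre_e IH (LK LD1_c2 LD2_c26 LD3_c60) (LK LD1_c4 LD2_c58 LD3_c17) Lrfl Lrfl
theorem f161114 : Led Lsl_cf (LP (LK LD1_c7 LD2_c59 LD3_c56)) = (LP (LK LD1_c4 LD2_c58 LD3_c17)) :=
  Lgr Lrot39 (Lpr_et (f37824 IH) (Lpr_ct (K8.f161102 IH) (Lpr_et (f161113 IH) (Lpn (LP (LK LD1_c4 LD2_c58 LD3_c17))))))
theorem f161194 : Led Lsl_ct (LP (LK LD1_c7 LD2_c59 LD3_c56)) = (LP (LK LD1_c4 LD2_c58 LD3_c17)) :=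
  Lgr Lrot59 (Lpr_cf (f161114 IH) (Lpn (LP (LK LD1_c4 LD2_c58 LD3_c17))))
theorem f71812 : Led Lsl_bt (LP (LK LD1_c0 LD2_c17 LD3_c7)) = (LP (LK LD1_c0 LD2_c38 LD3_c23)) :=
  Lre_b IH (LK LD1_c0 LD2_c17 LD3_c7) (LK LD1_c0 LD2_c38 LD3_c23) Lrfl Lrfl
theorem f137409 : Led Lsl_gt (LP (LK LD1_c0 LD2_c38 LD3_c23)) = (LP (LK LD1_c1 LD2_c22 LD3_c54)) :=
  Lre_g IH (LK LD1_c0 LD2_c38 LD3_c23) (LK LD1_c1 LD2_c22 LD3_c54) Lrfl Lrfl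
theorem f186690 : Led Lsl_ct (LP (LK LD1_c1 LD2_c22 LD3_c54)) = (LP (LK LD1_c2 LD2_c53 LD3_c46)) :=
  Lre_c IH (LK LD1_c1 LD2_c22 LD3_c54) (LK LD1_c2 LD2_c53 LD3_c46) Lrfl Lrfl
theorem f186694 : Led Lsl_bt (LP (LK LD1_c5 LD2_c14 LD3_c10)) = (LP (LK LD1_c2 LD2_c33 LD3_c58)) :=
  Lre_b IH (LK LD1_c5 LD2_c14 LD3_c10) (LK LD1_c2 LD2_c33 LD3_c58) Lrfl Lrfl
theorem f186695 : Led Lsl_cf (LP (LK LD1_c5 LD2_c54 LD3_c50)) = (LP (LK LD1_c5 LD2_c14 LD3_c10)) :=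
  Lgr Lrot163 (Lpe (f186691 IH) (Lpe (f186690 IH) (Lpe (f137409 IH) (Lpe (f71812 IH) (Lpr_ct (K9.f37949 IH) (Lpr_gf (K9.f31440 IH) (Lpr_cf (K10.f186682 IH) (Lpr_bt (K28.f186692 IH) (Lpe (K32.f186693 IH) (Lpe (f186694 IH) (Lpn (LP (LK LD1_c5 LD2_c14 LD3_c10)))))))))))))
theorem f387232 : Led Lsl_ff (LP (LK LD1_c7 LD2_c59 LD3_c56)) = (LP (LK LD1_c5 LD2_c54 LD3_c50)) :=
  Lgr Lrot23 (Lpr_ct (f161194 IH) (Lpr_ft (f387230 IH) (Lpe (f186695 IH) (Lpn (LP (LK LD1_c5 LD2_c54 LD3_c50))))))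
theorem f421211 : Led Lsl_bt (LP (LK LD1_c5 LD2_c13 LD3_c53)) = (LP (LK LD1_c5 LD2_c54 LD3_c50)) :=
  Lgr Lrot35 (Lpr_ff (f421209 IH) (Lpe (f158337 IH) (Lpr_ff (f387232 IH) (Lpn (LP (LK LD1_c5 LD2_c54 LD3_c50))))))
theorem f171705 : Led Lsl_ct (LP (LK LD1_c5 LD2_c13 LD3_c53)) = (LP (LK LD1_c2 LD2_c33 LD3_c51)) :=
  Lre_c IH (LK LD1_c5 LD2_c13 LD3_c53) (LK LD1_c2 LD2_c33 LD3_c51) Lrfl Lrfl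
theorem f166165 : Led Lsl_ct (LP (LK LD1_c0 LD2_c38 LD3_c23)) = (LP (LK LD1_c1 LD2_c22 LD3_c50)) :=
  Lre_c IH (LK LD1_c0 LD2_c38 LD3_c23) (LK LD1_c1 LD2_c22 LD3_c50) Lrfl Lrfl
theorem f201420 : Led Lsl_bf (LP (LK LD1_c1 LD2_c2 LD3_c7)) = (LP (LK LD1_c1 LD2_c22 LD3_c50)) :=
  Lgr Lrot90 (Lpr_ct (K11.f201418 IH) (Lpr_bt (K14.f31451 IH) (Lpe (K9.f71505 IH) (Lpr_bt (f71812 IH) (Lpr_ct (f166165 IH) (Lpn (LP (LK LD1_c1 LD2_c22 LD3_c50))))))))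
theorem f166374 : Led Lsl_ct (LP (LK LD1_c1 LD2_c22 LD3_c50)) = (LP (LK LD1_c0 LD2_c38 LD3_c23)) :=
  Lre_c IH (LK LD1_c1 LD2_c22 LD3_c50) (LK LD1_c0 LD2_c38 LD3_c23) Lrfl Lrfl
theorem f171697 : Led Lsl_gt (LP (LK LD1_c1 LD2_c22 LD3_c55)) = (LP (LK LD1_c0 LD2_c38 LD3_c23)) :=
  Lre_g IH (LK LD1_c1 LD2_c22 LD3_c55) (LK LD1_c0 LD2_c38 LD3_c23) Lrfl Lrfl
theorem f201595 : Led Lsl_ct (LP (LK LD1_c2 LD2_c53 LD3_c50)) = (LP (LK LD1_c1 LD2_c22 LD3_c55)) :=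
  Lre_c IH (LK LD1_c2 LD2_c53 LD3_c50) (LK LD1_c1 LD2_c22 LD3_c55) Lrfl Lrfl
theorem f421244 : Led Lsl_gf (LP (LK LD1_c2 LD2_c53 LD3_c50)) = (LP (LK LD1_c5 LD2_c54 LD3_c50)) :=
  Lgr Lrot181 (Lpr_ct (f201595 IH) (Lpr_gt (f171697 IH) (Lpe (f166374 IH) (Lpe (f201420 IH) (Lpe (K11.f201578 IH) (Lpr_bf (K16.f201586 IH) (Lpr_ct (K32.f164079 IH) (Lpr_gt (K32.f61381 IH) (Lpe (f171705 IH) (Lpr_bt (f421211 IH) (Lpn (LP (LK LD1_c5 LD2_c54 LD3_c50)))))))))))))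
theorem f166375 : Led Lsl_dt (LP (LK LD1_c2 LD2_c53 LD3_c35)) = (LP (LK LD1_c1 LD2_c22 LD3_c50)) :=
  Lre_d IH (LK LD1_c2 LD2_c53 LD3_c35) (LK LD1_c1 LD2_c22 LD3_c50) Lrfl Lrfl
theorem f420946 : Led Lsl_ct (LP (LK LD1_c5 LD2_c54 LD3_c25)) = (LP (LK LD1_c2 LD2_c53 LD3_c35)) :=
  Lre_c IH (LK LD1_c5 LD2_c54 LD3_c25) (LK LD1_c2 LD2_c53 LD3_c35) Lrfl Lrfl
theorem f420932 : Led Lsl_gt (LP (LK LD1_c11 LD2_c34 LD3_c43)) = (LP (LK LD1_c5 LD2_c54 LD3_c25)) :=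
  Lre_g IH (LK LD1_c11 LD2_c34 LD3_c43) (LK LD1_c5 LD2_c54 LD3_c25) Lrfl Lrfl
theorem f538468 : Led Lsl_ct (LP (LK LD1_c12 LD2_c9 LD3_c29)) = (LP (LK LD1_c11 LD2_c34 LD3_c43)) :=
  Lgr Lrot152 (Lpr_gf (f538464 IH) (Lpe (f186700 IH) (Lpe (f421244 IH) (Lpr_ct (f201595 IH) (Lpr_gt (f171697 IH) (Lpr_ct (f166165 IH) (Lpe (f166375 IH) (Lpe (f420946 IH) (Lpe (f420932 IH) (Lpn (LP (LK LD1_c11 LD2_c34 LD3_c43))))))))))))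
theorem f420930 : Led Lsl_ct (LP (LK LD1_c2 LD2_c53 LD3_c35)) = (LP (LK LD1_c5 LD2_c54 LD3_c25)) :=
  Lre_c IH (LK LD1_c2 LD2_c53 LD3_c35) (LK LD1_c5 LD2_c54 LD3_c25) Lrfl Lrfl
theorem f70851 : Led Lsl_ft (LP (LK LD1_c2 LD2_c53 LD3_c36)) = (LP (LK LD1_c1 LD2_c22 LD3_c50)) :=
  Lre_f IH (LK LD1_c2 LD2_c53 LD3_c36) (LK LD1_c1 LD2_c22 LD3_c50) Lrfl Lrfl
theorem f420733 : Led Lsl_bt (LP (LK LD1_c2 LD2_c10 LD3_c1)) = (LP (LK LD1_c2 LD2_c53 LD3_c36)) :=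
  Lgr Lrot35 (Lpe (K2.f70833 IH) (Lpr_bf (f201420 IH) (Lpe (f70851 IH) (Lpn (LP (LK LD1_c2 LD2_c53 LD3_c36))))))
theorem f418482 : Led Lsl_dt (LP (LK LD1_c2 LD2_c53 LD3_c36)) = (LP (LK LD1_c5 LD2_c54 LD3_c26)) :=
  Lre_d IH (LK LD1_c2 LD2_c53 LD3_c36) (LK LD1_c5 LD2_c54 LD3_c26) Lrfl Lrfl
theorem f420735 : Led Lsl_bf (LP (LK LD1_c4 LD2_c25 LD3_c12)) = (LP (LK LD1_c5 LD2_c54 LD3_c26)) :=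
  Lgr Lrot93 (Lpr_dt (K2.f70817 IH) (Lpr_bt (f420733 IH) (Lpr_dt (f418482 IH) (Lpn (LP (LK LD1_c5 LD2_c54 LD3_c26))))))
theorem f31284 : Led Lsl_af (LP (LK LD1_c4 LD2_c20 LD3_c50)) = (LP (LK LD1_c4 LD2_c20 LD3_c59)) :=
  Lgr Lrot117 (Lpr_dt (K11.f31283 IH) (Lpr_at (K10.f31275 IH) (Lpr_dt (K14.f28708 IH) (Lpn (LP (LK LD1_c4 LD2_c20 LD3_c59))))))
theorem f201863 : Led Lsl_cf (LP (LK LD1_c4 LD2_c20 LD3_c59)) = (LP (LK LD1_c4 LD2_c25 LD3_c12)) :=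
  Lgr Lrot1 (Lpe (f31284 IH) (Lpr_ct (K11.f201861 IH) (Lpr_at (K13.f201619 IH) (Lpn (LP (LK LD1_c4 LD2_c25 LD3_c12))))))
theorem f191301 : Led Lsl_ct (LP (LK LD1_c8 LD2_c39 LD3_c39)) = (LP (LK LD1_c16 LD2_c13 LD3_c16)) :=
  Lre_c IH (LK LD1_c8 LD2_c39 LD3_c39) (LK LD1_c16 LD2_c13 LD3_c16) Lrfl Lrfl
theorem f420840 : Led Lsl_ct (LP (LK LD1_c11 LD2_c34 LD3_c46)) = (LP (LK LD1_c5 LD2_c54 LD3_c26)) :=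
  Lre_c IH (LK LD1_c11 LD2_c34 LD3_c46) (LK LD1_c5 LD2_c54 LD3_c26) Lrfl Lrfl
theorem f420841 : Led Lsl_bt (LP (LK LD1_c16 LD2_c13 LD3_c16)) = (LP (LK LD1_c11 LD2_c34 LD3_c46)) :=
  Lgr Lrot128 (Lpe (f191301 IH) (Lpe (K13.f31338 IH) (Lpr_cf (f201863 IH) (Lpr_bf (f420735 IH) (Lpe (f420840 IH) (Lpn (LP (LK LD1_c11 LD2_c34 LD3_c46))))))))
theorem f420891 : Led Lsl_ft (LP (LK LD1_c11 LD2_c34 LD3_c46)) = (LP (LK LD1_c5 LD2_c54 LD3_c25)) :=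
  Lre_f IH (LK LD1_c11 LD2_c34 LD3_c46) (LK LD1_c5 LD2_c54 LD3_c25) Lrfl Lrfl
theorem f420892 : Led Lsl_bt (LP (LK LD1_c5 LD2_c54 LD3_c25)) = (LP (LK LD1_c11 LD2_c34 LD3_c44)) :=
  Lre_b IH (LK LD1_c5 LD2_c54 LD3_c25) (LK LD1_c11 LD2_c34 LD3_c44) Lrfl Lrfl
theorem f420893 : Led Lsl_ff (LP (LK LD1_c16 LD2_c13 LD3_c16)) = (LP (LK LD1_c11 LD2_c34 LD3_c44)) :=
  Lgr Lrot25 (Lpr_bt (f420841 IH) (Lpr_ft (f420891 IH) (Lpr_bt (f420892 IH) (Lpn (LP (LK LD1_c11 LD2_c34 LD3_c44))))))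
theorem f418323 : Led Lsl_ct (LP (LK LD1_c16 LD2_c13 LD3_c16)) = (LP (LK LD1_c8 LD2_c39 LD3_c39)) :=
  Lre_c IH (LK LD1_c16 LD2_c13 LD3_c16) (LK LD1_c8 LD2_c39 LD3_c39) Lrfl Lrfl
theorem f231473 : Led Lsl_ff (LP (LK LD1_c4 LD2_c20 LD3_c59)) = (LP (LK LD1_c4 LD2_c25 LD3_c11)) :=
  Lgr Lrot103 (Lpe (f31284 IH) (Lpe (K11.f201631 IH) (Lpr_df (K11.f201580 IH) (Lpe (K11.f201548 IH) (Lpe (K1.f28625 IH) (Lpr_cf (K0.f28691 IH) (Lpe (K10.f28699 IH) (Lpe (K9.f28700 IH) (Lpr_df (K13.f231463 IH) (Lpn (LP (LK LD1_c4 LD2_c25 LD3_c11))))))))))))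
theorem f231465 : Led Lsl_bt (LP (LK LD1_c8 LD2_c47 LD3_c60)) = (LP (LK LD1_c4 LD2_c25 LD3_c11)) :=
  Lre_b IH (LK LD1_c8 LD2_c47 LD3_c60) (LK LD1_c4 LD2_c25 LD3_c11) Lrfl Lrfl
theorem f418283 : Led Lsl_ft (LP (LK LD1_c8 LD2_c39 LD3_c39)) = (LP (LK LD1_c8 LD2_c47 LD3_c60)) :=
  Lgr Lrot75 (Lpe (K13.f31338 IH) (Lpr_ff (f231473 IH) (Lpe (f231465 IH) (Lpn (LP (LK LD1_c8 LD2_c47 LD3_c60))))))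
theorem f420899 : Led Lsl_ct (LP (LK LD1_c8 LD2_c47 LD3_c60)) = (LP (LK LD1_c11 LD2_c34 LD3_c44)) :=
  Lgr Lrot40 (Lpe (f418283 IH) (Lpe (f418323 IH) (Lpr_ff (f420893 IH) (Lpn (LP (LK LD1_c11 LD2_c34 LD3_c44))))))
theorem f201438 : Led Lsl_bt (LP (LK LD1_c4 LD2_c25 LD3_c11)) = (LP (LK LD1_c8 LD2_c47 LD3_c60)) :=
  Lre_b IH (LK LD1_c4 LD2_c25 LD3_c11) (LK LD1_c8 LD2_c47 LD3_c60) Lrfl Lrfl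
theorem f420915 : Led Lsl_bt (LP (LK LD1_c11 LD2_c34 LD3_c44)) = (LP (LK LD1_c5 LD2_c54 LD3_c25)) :=
  Lre_b IH (LK LD1_c11 LD2_c34 LD3_c44) (LK LD1_c5 LD2_c54 LD3_c25) Lrfl Lrfl
theorem f420947 : Led Lsl_bf (LP (LK LD1_c2 LD2_c10 LD3_c0)) = (LP (LK LD1_c2 LD2_c53 LD3_c35)) :=
  Lgr Lrot90 (Lpr_ct (K13.f201437 IH) (Lpr_bt (f201438 IH) (Lpr_ct (f420899 IH) (Lpr_bt (f420915 IH) (Lpr_ct (f420946 IH) (Lpn (LP (LK LD1_c2 LD2_c53 LD3_c35))))))))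
theorem f31746 : Led Lsl_bt (LP (LK LD1_c4 LD2_c20 LD3_c45)) = (LP (LK LD1_c8 LD2_c39 LD3_c2)) :=
  Lre_b IH (LK LD1_c4 LD2_c20 LD3_c45) (LK LD1_c8 LD2_c39 LD3_c2) Lrfl Lrfl
theorem f31747 : Led Lsl_gt (LP (LK LD1_c8 LD2_c39 LD3_c2)) = (LP (LK LD1_c16 LD2_c11 LD3_c58)) :=
  Lre_g IH (LK LD1_c8 LD2_c39 LD3_c2) (LK LD1_c16 LD2_c11 LD3_c58) Lrfl Lrfl
theorem f538482 : Led Lsl_bt (LP (LK LD1_c12 LD2_c9 LD3_c29)) = (LP (LK LD1_c16 LD2_c11 LD3_c58)) :=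
  Lgr Lrot92 (Lpr_ct (f538468 IH) (Lpr_gt (f420932 IH) (Lpe (f420930 IH) (Lpe (f420947 IH) (Lpr_gt (K11.f201435 IH) (Lpe (K11.f201657 IH) (Lpr_gt (K11.f201731 IH) (Lpr_cf (K0.f31711 IH) (Lpr_bt (f31746 IH) (Lpr_gt (f31747 IH) (Lpn (LP (LK LD1_c16 LD2_c11 LD3_c58)))))))))))))
theorem f81075 : Led Lsl_dt (LP (LK LD1_c6 LD2_c15 LD3_c56)) = (LP (LK LD1_c12 LD2_c9 LD3_c29)) :=
  Lre_d IH (LK LD1_c6 LD2_c15 LD3_c56) (LK LD1_c12 LD2_c9 LD3_c29) Lrfl Lrfl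
theorem f538486 : Led Lsl_df (LP (LK LD1_c8 LD2_c46 LD3_c3)) = (LP (LK LD1_c16 LD2_c11 LD3_c58)) :=
  Lgr Lrot12 (Lpr_bt (K8.f81067 IH) (Lpr_dt (f81075 IH) (Lpr_bt (f538482 IH) (Lpn (LP (LK LD1_c16 LD2_c11 LD3_c58))))))
theorem f538490 : Led Lsl_dt (LP (LK LD1_c8 LD2_c46 LD3_c3)) = (LP (LK LD1_c16 LD2_c11 LD3_c58)) :=
  Lgr Lrot42 (Lpr_df (f538486 IH) (Lpn (LP (LK LD1_c16 LD2_c11 LD3_c58))))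
theorem f81070 : Led Lsl_et (LP (LK LD1_c8 LD2_c46 LD3_c3)) = (LP (LK LD1_c4 LD2_c24 LD3_c11)) :=
  Lre_e IH (LK LD1_c8 LD2_c46 LD3_c3) (LK LD1_c4 LD2_c24 LD3_c11) Lrfl Lrfl
theorem f36127 : Led Lsl_gt (LP (LK LD1_c16 LD2_c11 LD3_c58)) = (LP (LK LD1_c8 LD2_c38 LD3_c59)) :=
  Lre_g IH (LK LD1_c16 LD2_c11 LD3_c58) (LK LD1_c8 LD2_c38 LD3_c59) Lrfl Lrfl
theorem f36122 : Led Lsl_dt (LP (LK LD1_c4 LD2_c20 LD3_c38)) = (LP (LK LD1_c8 LD2_c38 LD3_c59)) :=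
  Lre_d IH (LK LD1_c4 LD2_c20 LD3_c38) (LK LD1_c8 LD2_c38 LD3_c59) Lrfl Lrfl
theorem f36105 : Led Lsl_df (LP (LK LD1_c8 LD2_c39 LD3_c1)) = (LP (LK LD1_c7 LD2_c56 LD3_c52)) :=
  Lgr Lrot38 (Lpr_dt (K1.f36098 IH) (Lpn (LP (LK LD1_c7 LD2_c56 LD3_c52))))
theorem f36116 : Led Lsl_at (LP (LK LD1_c14 LD2_c59 LD3_c35)) = (LP (LK LD1_c7 LD2_c56 LD3_c52)) :=
  Lre_a IH (LK LD1_c14 LD2_c59 LD3_c35) (LK LD1_c7 LD2_c56 LD3_c52) Lrfl Lrfl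
theorem f36117 : Led Lsl_dt (LP (LK LD1_c16 LD2_c11 LD3_c60)) = (LP (LK LD1_c14 LD2_c59 LD3_c35)) :=
  Lgr Lrot44 (Lpe (K1.f31960 IH) (Lpr_df (f36105 IH) (Lpe (f36116 IH) (Lpn (LP (LK LD1_c14 LD2_c59 LD3_c35))))))
theorem f36121 : Led Lsl_et (LP (LK LD1_c8 LD2_c38 LD3_c59)) = (LP (LK LD1_c16 LD2_c11 LD3_c60)) :=
  Lre_e IH (LK LD1_c8 LD2_c38 LD3_c59) (LK LD1_c16 LD2_c11 LD3_c60) Lrfl Lrfl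
theorem f36123 : Led Lsl_ef (LP (LK LD1_c4 LD2_c20 LD3_c38)) = (LP (LK LD1_c3 LD2_c57 LD3_c43)) :=
  Lgr Lrot73 (Lpr_dt (f36122 IH) (Lpr_et (f36121 IH) (Lpr_dt (f36117 IH) (Lpr_et (K1.f36026 IH) (Lpr_dt (K2.f35998 IH) (Lpn (LP (LK LD1_c3 LD2_c57 LD3_c43))))))))
theorem f36129 : Led Lsl_et (LP (LK LD1_c4 LD2_c20 LD3_c38)) = (LP (LK LD1_c3 LD2_c57 LD3_c43)) :=
  Lgr Lrot87 (Lpr_ef (f36123 IH) (Lpn (LP (LK LD1_c3 LD2_c57 LD3_c43))))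
theorem f538496 : Led Lsl_gf (LP (LK LD1_c4 LD2_c24 LD3_c11)) = (LP (LK LD1_c2 LD2_c9 LD3_c38)) :=
  Lgr Lrot141 (Lpe (f81070 IH) (Lpr_dt (f538490 IH) (Lpr_gt (f36127 IH) (Lpe (f36122 IH) (Lpr_et (f36129 IH) (Lpr_gt (K8.f36005 IH) (Lpr_dt (K6.f70488 IH) (Lpr_gt (K6.f70442 IH) (Lpe (K8.f70500 IH) (Lpr_et (K4.f70501 IH) (Lpn (LP (LK LD1_c2 LD2_c9 LD3_c38)))))))))))))
theorem f70499 : Led Lsl_et (LP (LK LD1_c2 LD2_c9 LD3_c50)) = (LP (LK LD1_c4 LD2_c24 LD3_c43)) :=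
  Lre_e IH (LK LD1_c2 LD2_c9 LD3_c50) (LK LD1_c4 LD2_c24 LD3_c43) Lrfl Lrfl
theorem f70502 : Led Lsl_gt (LP (LK LD1_c8 LD2_c46 LD3_c55)) = (LP (LK LD1_c4 LD2_c24 LD3_c43)) :=
  Lre_g IH (LK LD1_c8 LD2_c46 LD3_c55) (LK LD1_c4 LD2_c24 LD3_c43) Lrfl Lrfl
theorem f538511 : Led Lsl_et (LP (LK LD1_c4 LD2_c36 LD3_c57)) = (LP (LK LD1_c8 LD2_c46 LD3_c55)) :=
  Lgr Lrot185 (Lpr_dt (K8.f142240 IH) (Lpr_gf (K24.f158686 IH) (Lpe (K5.f80684 IH) (Lpr_gf (f538496 IH) (Lpe (K4.f70501 IH) (Lpr_dt (K8.f70500 IH) (Lpe (K6.f70442 IH) (Lpe (K6.f70488 IH) (Lpr_et (f70499 IH) (Lpe (f70502 IH) (Lpn (LP (LK LD1_c8 LD2_c46 LD3_c55)))))))))))))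
theorem f538521 : Led Lsl_ef (LP (LK LD1_c4 LD2_c36 LD3_c57)) = (LP (LK LD1_c8 LD2_c46 LD3_c55)) :=
  Lgr Lrot88 (Lpr_et (f538511 IH) (Lpn (LP (LK LD1_c8 LD2_c46 LD3_c55))))
theorem f157224 : Led Lsl_et (LP (LK LD1_c2 LD2_c15 LD3_c44)) = (LP (LK LD1_c4 LD2_c37 LD3_c5)) :=
  Lre_e IH (LK LD1_c2 LD2_c15 LD3_c44) (LK LD1_c4 LD2_c37 LD3_c5) Lrfl Lrfl
theorem f538523 : Led Lsl_bt (LP (LK LD1_c4 LD2_c37 LD3_c5)) = (LP (LK LD1_c8 LD2_c46 LD3_c55)) :=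
  Lgr Lrot119 (Lpe (f157224 IH) (Lpe (K8.f142134 IH) (Lpr_ef (f538521 IH) (Lpn (LP (LK LD1_c8 LD2_c46 LD3_c55))))))
theorem f537993 : Led Lsl_at (LP (LK LD1_c2 LD2_c15 LD3_c57)) = (LP (LK LD1_c4 LD2_c37 LD3_c5)) :=
  Lre_a IH (LK LD1_c2 LD2_c15 LD3_c57) (LK LD1_c4 LD2_c37 LD3_c5) Lrfl Lrfl
def v3032 : LQ := Led Lsl_ct v448
theorem f536548 : Led Lsl_ct v448 = v3032 :=
  Lrfl
theorem f494478 : Led Lsl_ct (LP (LK LD1_c1 LD2_c4 LD3_c59)) = (LP (LK LD1_c2 LD2_c15 LD3_c57)) :=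
  Lre_c IH (LK LD1_c1 LD2_c4 LD3_c59) (LK LD1_c2 LD2_c15 LD3_c57) Lrfl Lrfl
theorem f537988 : v3032 = (LP (LK LD1_c2 LD2_c15 LD3_c57)) :=
  Lefun (Lecon (f536548 IH) (f537830 IH)) (f494478 IH)
theorem f536551 : Led Lsl_ff (LP (LK LD1_c4 LD2_c27 LD3_c0)) = v3032 :=
  Lgr Lrot23 (Lpr_ct (f494527 IH) (Lpe (f494525 IH) (Lpr_ct (f536548 IH) (Lpn v3032))))
theorem f272189 : Led Lsl_ff (LP (LK LD1_c2 LD2_c27 LD3_c61)) = (LP (LK LD1_c2 LD2_c10 LD3_c39)) :=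
  Lgr Lrot19 (Lpr_dt (K13.f175821 IH) (Lpr_ft (K16.f272185 IH) (Lpr_dt (K12.f80956 IH) (Lpn (LP (LK LD1_c2 LD2_c10 LD3_c39))))))
theorem f536552 : Led Lsl_bt (LP (LK LD1_c2 LD2_c27 LD3_c61)) = v3032 :=
  Lgr Lrot35 (Lpr_ff (f272189 IH) (Lpe (f80954 IH) (Lpr_ff (f536551 IH) (Lpn v3032))))
theorem f272217 : Led Lsl_af (LP (LK LD1_c2 LD2_c27 LD3_c61)) = (LP (LK LD1_c2 LD2_c10 LD3_c41)) :=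
  Lgr Lrot117 (Lpr_dt (K13.f175821 IH) (Lpr_at (K16.f272211 IH) (Lpr_dt (K13.f101302 IH) (Lpn (LP (LK LD1_c2 LD2_c10 LD3_c41))))))
theorem f198000 : Led Lsl_bt (LP (LK LD1_c4 LD2_c27 LD3_c4)) = (LP (LK LD1_c2 LD2_c10 LD3_c41)) :=
  Lre_b IH (LK LD1_c4 LD2_c27 LD3_c4) (LK LD1_c2 LD2_c10 LD3_c41) Lrfl Lrfl
theorem f538549 : Led Lsl_af (LP (LK LD1_c4 LD2_c27 LD3_c4)) = (LP (LK LD1_c8 LD2_c46 LD3_c55)) :=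
  Lgr Lrot36 (Lpr_bt (f198000 IH) (Lpe (f272217 IH) (Lpr_bt (f536552 IH) (Lpqs (f537988 IH) (Lpr_at (f537993 IH) (Lpr_bt (f538523 IH) (Lpn (LP (LK LD1_c8 LD2_c46 LD3_c55)))))))))
theorem f272202 : Led Lsl_bt (LP (LK LD1_c12 LD2_c5 LD3_c22)) = (LP (LK LD1_c6 LD2_c13 LD3_c13)) :=
  Lre_b IH (LK LD1_c12 LD2_c5 LD3_c22) (LK LD1_c6 LD2_c13 LD3_c13) Lrfl Lrfl
theorem f101415 : Led Lsl_bt (LP (LK LD1_c4 LD2_c27 LD3_c5)) = (LP (LK LD1_c8 LD2_c51 LD3_c57)) :=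
  Lre_b IH (LK LD1_c4 LD2_c27 LD3_c5) (LK LD1_c8 LD2_c51 LD3_c57) Lrfl Lrfl
theorem f272234 : Led Lsl_ff (LP (LK LD1_c12 LD2_c5 LD3_c22)) = (LP (LK LD1_c8 LD2_c51 LD3_c57)) :=
  Lgr Lrot25 (Lpr_bt (f272202 IH) (Lpr_ft (K16.f272232 IH) (Lpr_bt (f101415 IH) (Lpn (LP (LK LD1_c8 LD2_c51 LD3_c57))))))
theorem f175022 : Led Lsl_dt (LP (LK LD1_c12 LD2_c5 LD3_c22)) = (LP (LK LD1_c6 LD2_c13 LD3_c12)) :=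
  Lre_d IH (LK LD1_c12 LD2_c5 LD3_c22) (LK LD1_c6 LD2_c13 LD3_c12) Lrfl Lrfl
theorem f198230 : Led Lsl_dt (LP (LK LD1_c4 LD2_c27 LD3_c4)) = (LP (LK LD1_c8 LD2_c51 LD3_c57)) :=
  Lre_d IH (LK LD1_c4 LD2_c27 LD3_c4) (LK LD1_c8 LD2_c51 LD3_c57) Lrfl Lrfl
theorem f411099 : Led Lsl_ft (LP (LK LD1_c6 LD2_c13 LD3_c12)) = (LP (LK LD1_c4 LD2_c27 LD3_c4)) :=
  Lgr Lrot54 (Lpe (f175022 IH) (Lpr_ff (f272234 IH) (Lpe (f198230 IH) (Lpn (LP (LK LD1_c4 LD2_c27 LD3_c4))))))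
theorem f411106 : Led Lsl_ff (LP (LK LD1_c6 LD2_c13 LD3_c12)) = (LP (LK LD1_c4 LD2_c27 LD3_c4)) :=
  Lgr Lrot3 (Lpr_ft (f411099 IH) (Lpn (LP (LK LD1_c4 LD2_c27 LD3_c4))))
theorem f175027 : Led Lsl_at (LP (LK LD1_c6 LD2_c13 LD3_c12)) = (LP (LK LD1_c12 LD2_c5 LD3_c21)) :=
  Lre_a IH (LK LD1_c6 LD2_c13 LD3_c12) (LK LD1_c12 LD2_c5 LD3_c21) Lrfl Lrfl
theorem f538560 : Led Lsl_ft (LP (LK LD1_c12 LD2_c5 LD3_c21)) = (LP (LK LD1_c8 LD2_c46 LD3_c55)) :=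
  Lgr Lrot101 (Lpe (f175027 IH) (Lpr_ff (f411106 IH) (Lpr_af (f538549 IH) (Lpn (LP (LK LD1_c8 LD2_c46 LD3_c55))))))
theorem f538564 : Led Lsl_ff (LP (LK LD1_c12 LD2_c5 LD3_c21)) = (LP (LK LD1_c8 LD2_c46 LD3_c55)) :=
  Lgr Lrot3 (Lpr_ft (f538560 IH) (Lpn (LP (LK LD1_c8 LD2_c46 LD3_c55))))
theorem f175021 : Led Lsl_at (LP (LK LD1_c12 LD2_c5 LD3_c21)) = (LP (LK LD1_c6 LD2_c13 LD3_c12)) :=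
  Lre_a IH (LK LD1_c12 LD2_c5 LD3_c21) (LK LD1_c6 LD2_c13 LD3_c12) Lrfl Lrfl
theorem f538568 : Led Lsl_gf (LP (LK LD1_c6 LD2_c13 LD3_c12)) = (LP (LK LD1_c4 LD2_c24 LD3_c43)) :=
  Lgr Lrot76 (Lpe (f175021 IH) (Lpr_ff (f538564 IH) (Lpr_gt (f70502 IH) (Lpn (LP (LK LD1_c4 LD2_c24 LD3_c43))))))
theorem f101355 : Led Lsl_bt (LP (LK LD1_c6 LD2_c13 LD3_c5)) = (LP (LK LD1_c3 LD2_c3 LD3_c18)) :=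
  Lre_b IH (LK LD1_c6 LD2_c13 LD3_c5) (LK LD1_c3 LD2_c3 LD3_c18) Lrfl Lrfl
theorem f34651 : Led Lsl_bt (LP (LK LD1_c1 LD2_c58 LD3_c1)) = (LP (LK LD1_c4 LD2_c2 LD3_c6)) :=
  Lre_b IH (LK LD1_c1 LD2_c58 LD3_c1) (LK LD1_c4 LD2_c2 LD3_c6) Lrfl Lrfl
theorem f193508 : Led Lsl_ef (LP (LK LD1_c6 LD2_c13 LD3_c5)) = (LP (LK LD1_c4 LD2_c2 LD3_c6)) :=
  Lgr Lrot29 (Lpr_bt (f101355 IH) (Lpr_et (K12.f193499 IH) (Lpr_bt (f34651 IH) (Lpn (LP (LK LD1_c4 LD2_c2 LD3_c6))))))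
theorem f47086 : Led Lsl_bt (LP (LK LD1_c2 LD2_c4 LD3_c3)) = (LP (LK LD1_c4 LD2_c13 LD3_c27)) :=
  Lre_b IH (LK LD1_c2 LD2_c4 LD3_c3) (LK LD1_c4 LD2_c13 LD3_c27) Lrfl Lrfl
theorem f190291 : Led Lsl_bt (LP (LK LD1_c4 LD2_c2 LD3_c6)) = (LP (LK LD1_c1 LD2_c58 LD3_c1)) :=
  Lre_b IH (LK LD1_c4 LD2_c2 LD3_c6) (LK LD1_c1 LD2_c58 LD3_c1) Lrfl Lrfl
theorem f190292 : Led Lsl_ct (LP (LK LD1_c4 LD2_c13 LD3_c27)) = (LP (LK LD1_c4 LD2_c2 LD3_c6)) :=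
  Lgr Lrot83 (Lpe (f47086 IH) (Lpe (K12.f47084 IH) (Lpr_bf (K13.f190284 IH) (Lpe (K13.f34065 IH) (Lpe (f190291 IH) (Lpn (LP (LK LD1_c4 LD2_c2 LD3_c6))))))))
theorem f101493 : Led Lsl_bt (LP (LK LD1_c3 LD2_c3 LD3_c22)) = (LP (LK LD1_c6 LD2_c13 LD3_c12)) :=
  Lre_b IH (LK LD1_c3 LD2_c3 LD3_c22) (LK LD1_c6 LD2_c13 LD3_c12) Lrfl Lrfl
theorem f175016 : Led Lsl_bt (LP (LK LD1_c4 LD2_c13 LD3_c27)) = (LP (LK LD1_c2 LD2_c4 LD3_c3)) :=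
  Lre_b IH (LK LD1_c4 LD2_c13 LD3_c27) (LK LD1_c2 LD2_c4 LD3_c3) Lrfl Lrfl
theorem f175017 : Led Lsl_et (LP (LK LD1_c6 LD2_c13 LD3_c12)) = (LP (LK LD1_c4 LD2_c13 LD3_c27)) :=
  Lgr Lrot74 (Lpe (f101493 IH) (Lpr_ef (K12.f175014 IH) (Lpe (f175016 IH) (Lpn (LP (LK LD1_c4 LD2_c13 LD3_c27))))))
theorem f193532 : Led Lsl_ct (LP (LK LD1_c6 LD2_c13 LD3_c5)) = (LP (LK LD1_c6 LD2_c13 LD3_c12)) :=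
  Lgr Lrot15 (Lpr_ef (f193508 IH) (Lpe (f190292 IH) (Lpe (f175017 IH) (Lpn (LP (LK LD1_c6 LD2_c13 LD3_c12))))))
theorem f42999 : Led Lsl_ct (LP (LK LD1_c2 LD2_c9 LD3_c16)) = (LP (LK LD1_c1 LD2_c1 LD3_c47)) :=
  Lre_c IH (LK LD1_c2 LD2_c9 LD3_c16) (LK LD1_c1 LD2_c1 LD3_c47) Lrfl Lrfl
theorem f137692 : Led Lsl_et (LP (LK LD1_c8 LD2_c46 LD3_c39)) = (LP (LK LD1_c4 LD2_c24 LD3_c33)) :=
  Lre_e IH (LK LD1_c8 LD2_c46 LD3_c39) (LK LD1_c4 LD2_c24 LD3_c33) Lrfl Lrfl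
theorem f137878 : Led Lsl_ct (LP (LK LD1_c4 LD2_c24 LD3_c43)) = (LP (LK LD1_c8 LD2_c46 LD3_c39)) :=
  Lgr Lrot15 (Lpe (f70499 IH) (Lpr_cf (K6.f137868 IH) (Lpe (f137692 IH) (Lpn (LP (LK LD1_c8 LD2_c46 LD3_c39))))))
theorem f438134 : Led Lsl_cf (LP (LK LD1_c4 LD2_c24 LD3_c43)) = (LP (LK LD1_c8 LD2_c46 LD3_c39)) :=
  Lgr Lrot11 (Lpr_ct (f137878 IH) (Lpn (LP (LK LD1_c8 LD2_c46 LD3_c39))))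
theorem f137824 : Led Lsl_bt (LP (LK LD1_c8 LD2_c46 LD3_c39)) = (LP (LK LD1_c4 LD2_c24 LD3_c34)) :=
  Lre_b IH (LK LD1_c8 LD2_c46 LD3_c39) (LK LD1_c4 LD2_c24 LD3_c34) Lrfl Lrfl
theorem f538570 : Led Lsl_gt v3032 = (LP (LK LD1_c4 LD2_c24 LD3_c34)) :=
  Lgr Lrot164 (Lpe (f536552 IH) (Lpr_ct (K13.f175809 IH) (Lpe (K9.f175812 IH) (Lpe (f42999 IH) (Lpe (K12.f101351 IH) (Lpe (f101355 IH) (Lpr_ct (f193532 IH) (Lpr_gf (f538568 IH) (Lpr_cf (f438134 IH) (Lpr_bt (f137824 IH) (Lpn (LP (LK LD1_c4 LD2_c24 LD3_c34)))))))))))))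
theorem f137667 : Led Lsl_gt (LP (LK LD1_c4 LD2_c24 LD3_c34)) = (LP (LK LD1_c8 LD2_c46 LD3_c40)) :=
  Lre_g IH (LK LD1_c4 LD2_c24 LD3_c34) (LK LD1_c8 LD2_c46 LD3_c40) Lrfl Lrfl
theorem f538574 : Led Lsl_at (LP (LK LD1_c4 LD2_c27 LD3_c0)) = (LP (LK LD1_c8 LD2_c46 LD3_c40)) :=
  Lgr Lrot26 (Lpr_ff (f536551 IH) (Lpr_gt (f538570 IH) (Lpr_gt (f137667 IH) (Lpn (LP (LK LD1_c8 LD2_c46 LD3_c40))))))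
theorem f537994 : Led Lsl_at (LP (LK LD1_c4 LD2_c37 LD3_c5)) = (LP (LK LD1_c2 LD2_c15 LD3_c57)) :=
  Lre_a IH (LK LD1_c4 LD2_c37 LD3_c5) (LK LD1_c2 LD2_c15 LD3_c57) Lrfl Lrfl
theorem f538588 : Led Lsl_ff (LP (LK LD1_c4 LD2_c37 LD3_c5)) = (LP (LK LD1_c8 LD2_c46 LD3_c40)) :=
  Lgr Lrot30 (Lpr_at (f537994 IH) (Lpq (f537988 IH) (Lpe (f536551 IH) (Lpr_at (f538574 IH) (Lpn (LP (LK LD1_c8 LD2_c46 LD3_c40)))))))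
theorem f142136 : Led Lsl_et (LP (LK LD1_c4 LD2_c37 LD3_c5)) = (LP (LK LD1_c2 LD2_c15 LD3_c44)) :=
  Lre_e IH (LK LD1_c4 LD2_c37 LD3_c5) (LK LD1_c2 LD2_c15 LD3_c44) Lrfl Lrfl
theorem f119050 : Led Lsl_et (LP (LK LD1_c1 LD2_c4 LD3_c52)) = (LP (LK LD1_c2 LD2_c15 LD3_c43)) :=
  Lre_e IH (LK LD1_c1 LD2_c4 LD3_c52) (LK LD1_c2 LD2_c15 LD3_c43) Lrfl Lrfl
theorem f538593 : Led Lsl_ft (LP (LK LD1_c2 LD2_c15 LD3_c43)) = (LP (LK LD1_c4 LD2_c37 LD3_c4)) :=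
  Lre_f IH (LK LD1_c2 LD2_c15 LD3_c43) (LK LD1_c4 LD2_c37 LD3_c4) Lrfl Lrfl
theorem f538594 : Led Lsl_et (LP (LK LD1_c4 LD2_c37 LD3_c4)) = (LP (LK LD1_c8 LD2_c46 LD3_c40)) :=
  Lgr Lrot69 (Lpe (f538593 IH) (Lpe (f119050 IH) (Lpe (K7.f149000 IH) (Lpe (f142136 IH) (Lpr_ff (f538588 IH) (Lpn (LP (LK LD1_c8 LD2_c46 LD3_c40))))))))
theorem f137666 : Led Lsl_et (LP (LK LD1_c2 LD2_c9 LD3_c44)) = (LP (LK LD1_c4 LD2_c24 LD3_c34)) :=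
  Lre_e IH (LK LD1_c2 LD2_c9 LD3_c44) (LK LD1_c4 LD2_c24 LD3_c34) Lrfl Lrfl
theorem f36559 : Led Lsl_et (LP (LK LD1_c4 LD2_c23 LD3_c57)) = (LP (LK LD1_c2 LD2_c9 LD3_c23)) :=
  Lre_e IH (LK LD1_c4 LD2_c23 LD3_c57) (LK LD1_c2 LD2_c9 LD3_c23) Lrfl Lrfl
theorem f36555 : Led Lsl_dt (LP (LK LD1_c4 LD2_c23 LD3_c57)) = (LP (LK LD1_c8 LD2_c45 LD3_c39)) :=
  Lre_d IH (LK LD1_c4 LD2_c23 LD3_c57) (LK LD1_c8 LD2_c45 LD3_c39) Lrfl Lrfl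
theorem f538606 : Led Lsl_gt (LP (LK LD1_c9 LD2_c9 LD3_c55)) = (LP (LK LD1_c8 LD2_c45 LD3_c39)) :=
  Lgr Lrot112 (Lpe (f538351 IH) (Lpr_et (f538594 IH) (Lpe (f137667 IH) (Lpe (f137666 IH) (Lpr_dt (K6.f137653 IH) (Lpe (K6.f36545 IH) (Lpe (K6.f36523 IH) (Lpe (K4.f36532 IH) (Lpe (f36559 IH) (Lpr_dt (f36555 IH) (Lpn (LP (LK LD1_c8 LD2_c45 LD3_c39)))))))))))))
theorem f538610 : Led Lsl_ft (LP (LK LD1_c9 LD2_c9 LD3_c55)) = (LP (LK LD1_c4 LD2_c37 LD3_c3)) :=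
  Lre_f IH (LK LD1_c9 LD2_c9 LD3_c55) (LK LD1_c4 LD2_c37 LD3_c3) Lrfl Lrfl
theorem f538332 : Led Lsl_af (LP (LK LD1_c8 LD2_c3 LD3_c46)) = (LP (LK LD1_c4 LD2_c37 LD3_c3)) :=
  Lgr Lrot0 (Lpr_at (f538328 IH) (Lpn (LP (LK LD1_c4 LD2_c37 LD3_c3))))
theorem f538611 : Led Lsl_gf (LP (LK LD1_c8 LD2_c3 LD3_c46)) = (LP (LK LD1_c8 LD2_c45 LD3_c39)) :=
  Lgr Lrot76 (Lpr_af (f538332 IH) (Lpe (f538610 IH) (Lpr_gt (f538606 IH) (Lpn (LP (LK LD1_c8 LD2_c45 LD3_c39))))))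
theorem f161529 : Led Lsl_gf (LP (LK LD1_c5 LD2_c46 LD3_c47)) = (LP (LK LD1_c8 LD2_c46 LD3_c16)) :=
  Lgr Lrot47 (Lpr_gt (K8.f161527 IH) (Lpr_af (K7.f149904 IH) (Lpe (K7.f149918 IH) (Lpn (LP (LK LD1_c8 LD2_c46 LD3_c16))))))
theorem f538613 : Led Lsl_et (LP (LK LD1_c4 LD2_c5 LD3_c35)) = (LP (LK LD1_c2 LD2_c15 LD3_c31)) :=
  Lgr Lrot121 (Lpe (f211606 IH) (Lpr_gf (f538611 IH) (Lpe (f36555 IH) (Lpr_et (f36559 IH) (Lpe (K8.f161023 IH) (Lpr_ef (f506287 IH) (Lpq (f537787 IH) (Lpr_dt (K8.f142085 IH) (Lpr_gf (f161529 IH) (Lpe (K8.f70482 IH) (Lpe (K7.f142120 IH) (Lpn (LP (LK LD1_c2 LD2_c15 LD3_c31))))))))))))))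
theorem f538619 : Led Lsl_ef (LP (LK LD1_c4 LD2_c5 LD3_c35)) = (LP (LK LD1_c2 LD2_c15 LD3_c31)) :=
  Lgr Lrot88 (Lpr_et (f538613 IH) (Lpn (LP (LK LD1_c2 LD2_c15 LD3_c31))))
theorem f211642 : Led Lsl_et (LP (LK LD1_c8 LD2_c3 LD3_c46)) = (LP (LK LD1_c15 LD2_c10 LD3_c38)) :=
  Lre_e IH (LK LD1_c8 LD2_c3 LD3_c46) (LK LD1_c15 LD2_c10 LD3_c38) Lrfl Lrfl
theorem f142250 : Led Lsl_et (LP (LK LD1_c9 LD2_c9 LD3_c19)) = (LP (LK LD1_c4 LD2_c36 LD3_c38)) :=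
  Lre_e IH (LK LD1_c9 LD2_c9 LD3_c19) (LK LD1_c4 LD2_c36 LD3_c38) Lrfl Lrfl
theorem f538625 : Led Lsl_dt (LP (LK LD1_c15 LD2_c10 LD3_c38)) = (LP (LK LD1_c9 LD2_c9 LD3_c19)) :=
  Lgr Lrot77 (Lpe (f211642 IH) (Lpr_df (f211606 IH) (Lpr_ef (f538619 IH) (Lpe (K6.f141298 IH) (Lpe (f142250 IH) (Lpn (LP (LK LD1_c9 LD2_c9 LD3_c19))))))))
theorem f197231 : Led Lsl_bt (LP (LK LD1_c8 LD2_c3 LD3_c47)) = (LP (LK LD1_c15 LD2_c10 LD3_c38)) :=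
  Lre_b IH (LK LD1_c8 LD2_c3 LD3_c47) (LK LD1_c15 LD2_c10 LD3_c38) Lrfl Lrfl
theorem f80878 : Led Lsl_et (LP (LK LD1_c4 LD2_c0 LD3_c6)) = (LP (LK LD1_c8 LD2_c1 LD3_c14)) :=
  Lre_e IH (LK LD1_c4 LD2_c0 LD3_c6) (LK LD1_c8 LD2_c1 LD3_c14) Lrfl Lrfl
theorem f142251 : Led Lsl_bf (LP (LK LD1_c9 LD2_c9 LD3_c19)) = (LP (LK LD1_c8 LD2_c1 LD3_c14)) :=
  Lgr Lrot96 (Lpr_et (f142250 IH) (Lpr_bt (K6.f142243 IH) (Lpr_et (f80878 IH) (Lpn (LP (LK LD1_c8 LD2_c1 LD3_c14))))))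
theorem f142256 : Led Lsl_bt (LP (LK LD1_c9 LD2_c9 LD3_c19)) = (LP (LK LD1_c8 LD2_c1 LD3_c14)) :=
  Lgr Lrot127 (Lpr_bf (f142251 IH) (Lpn (LP (LK LD1_c8 LD2_c1 LD3_c14))))
theorem f538627 : Led Lsl_df (LP (LK LD1_c8 LD2_c3 LD3_c47)) = (LP (LK LD1_c8 LD2_c1 LD3_c14)) :=
  Lgr Lrot12 (Lpr_bt (f197231 IH) (Lpr_dt (f538625 IH) (Lpr_bt (f142256 IH) (Lpn (LP (LK LD1_c8 LD2_c1 LD3_c14))))))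
theorem f538631 : Led Lsl_dt (LP (LK LD1_c8 LD2_c3 LD3_c47)) = (LP (LK LD1_c8 LD2_c1 LD3_c14)) :=
  Lgr Lrot42 (Lpr_df (f538627 IH) (Lpn (LP (LK LD1_c8 LD2_c1 LD3_c14))))
theorem f160652 : Led Lsl_et (LP (LK LD1_c12 LD2_c5 LD3_c50)) = (LP (LK LD1_c6 LD2_c13 LD3_c31)) :=
  Lre_e IH (LK LD1_c12 LD2_c5 LD3_c50) (LK LD1_c6 LD2_c13 LD3_c31) Lrfl Lrfl
theorem f160653 : Led Lsl_af (LP (LK LD1_c12 LD2_c5 LD3_c50)) = (LP (LK LD1_c8 LD2_c1 LD3_c14)) :=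
  Lgr Lrot50 (Lpr_et (f160652 IH) (Lpr_at (K8.f160643 IH) (Lpr_et (f80878 IH) (Lpn (LP (LK LD1_c8 LD2_c1 LD3_c14))))))
theorem f538637 : Led Lsl_df (LP (LK LD1_c8 LD2_c5 LD3_c16)) = (LP (LK LD1_c12 LD2_c5 LD3_c50)) :=
  Lgr Lrot18 (Lpr_at (K16.f272091 IH) (Lpr_dt (f538631 IH) (Lpe (f160653 IH) (Lpn (LP (LK LD1_c12 LD2_c5 LD3_c50))))))
theorem f81237 : Led Lsl_et (LP (LK LD1_c8 LD2_c5 LD3_c16)) = (LP (LK LD1_c4 LD2_c2 LD3_c21)) :=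
  Lre_e IH (LK LD1_c8 LD2_c5 LD3_c16) (LK LD1_c4 LD2_c2 LD3_c21) Lrfl Lrfl
theorem f80895 : Led Lsl_et (LP (LK LD1_c6 LD2_c13 LD3_c31)) = (LP (LK LD1_c12 LD2_c5 LD3_c50)) :=
  Lre_e IH (LK LD1_c6 LD2_c13 LD3_c31) (LK LD1_c12 LD2_c5 LD3_c50) Lrfl Lrfl
theorem f538643 : Led Lsl_et (LP (LK LD1_c1 LD2_c59 LD3_c29)) = (LP (LK LD1_c3 LD2_c3 LD3_c35)) :=
  Lgr Lrot71 (Lpe (K13.f193409 IH) (Lpe (f81237 IH) (Lpr_df (f538637 IH) (Lpe (f80895 IH) (Lpe (K8.f80893 IH) (Lpn (LP (LK LD1_c3 LD2_c3 LD3_c35))))))))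
theorem f69801 : Led Lsl_et (LP (LK LD1_c0 LD2_c55 LD3_c58)) = (LP (LK LD1_c0 LD2_c40 LD3_c43)) :=
  Lgr Lrot158 (Lpe (K0.f33684 IH) (Lpr_ef (K2.f69758 IH) (Lpe (K1.f59693 IH) (Lpn (LP (LK LD1_c0 LD2_c40 LD3_c43))))))
theorem f59726 : Led Lsl_et (LP (LK LD1_c0 LD2_c42 LD3_c3)) = (LP (LK LD1_c0 LD2_c18 LD3_c47)) :=
  Lre_e IH (LK LD1_c0 LD2_c42 LD3_c3) (LK LD1_c0 LD2_c18 LD3_c47) Lrfl Lrfl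
theorem f59727 : Led Lsl_dt (LP (LK LD1_c0 LD2_c42 LD3_c3)) = (LP (LK LD1_c1 LD2_c31 LD3_c11)) :=
  Lre_d IH (LK LD1_c0 LD2_c42 LD3_c3) (LK LD1_c1 LD2_c31 LD3_c11) Lrfl Lrfl
def v1898 : LQ := Led Lsl_gf (LP (LK LD1_c1 LD2_c31 LD3_c11))
theorem f506307 : Led Lsl_gf (LP (LK LD1_c1 LD2_c31 LD3_c11)) = v1898 :=
  Lrfl
theorem f80872 : Led Lsl_dt (LP (LK LD1_c1 LD2_c27 LD3_c46)) = (LP (LK LD1_c3 LD2_c3 LD3_c37)) :=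
  Lre_d IH (LK LD1_c1 LD2_c27 LD3_c46) (LK LD1_c3 LD2_c3 LD3_c37) Lrfl Lrfl
theorem f538655 : v1898 = (LP (LK LD1_c3 LD2_c3 LD3_c37)) :=
  (Llr Lrot134 (Lpe (f506307 IH) (Lpe (f59727 IH) (Lpr_et (f59726 IH) (Lpe (K1.f59701 IH) (Lpe (f69801 IH) (Lpr_dt (K13.f33685 IH) (Lpr_gt (K13.f34584 IH) (Lpr_df (K13.f193415 IH) (Lpr_et (f538643 IH) (Lpr_gt (K8.f80887 IH) (Lpr_dt (f80872 IH) (Lpn (LP (LK LD1_c3 LD2_c3 LD3_c37))))))))))))))).symm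
theorem f80361 : Led Lsl_gt (LP (LK LD1_c1 LD2_c31 LD3_c11)) = (LP (LK LD1_c3 LD2_c10 LD3_c5)) :=
  Lre_g IH (LK LD1_c1 LD2_c31 LD3_c11) (LK LD1_c3 LD2_c10 LD3_c5) Lrfl Lrfl
theorem f538658 : Led Lsl_at (LP (LK LD1_c1 LD2_c56 LD3_c52)) = (LP (LK LD1_c3 LD2_c10 LD3_c5)) :=
  Lgr Lrot26 (Lpe (f36657 IH) (Lpq (f538655 IH) (Lpe (f506307 IH) (Lpr_gt (f80361 IH) (Lpn (LP (LK LD1_c3 LD2_c10 LD3_c5)))))))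
theorem f445772 : Led Lsl_et (LP (LK LD1_c4 LD2_c0 LD3_c10)) = (LP (LK LD1_c1 LD2_c56 LD3_c52)) :=
  Lre_e IH (LK LD1_c4 LD2_c0 LD3_c10) (LK LD1_c1 LD2_c56 LD3_c52) Lrfl Lrfl
theorem f538668 : Led Lsl_et (LP (LK LD1_c3 LD2_c10 LD3_c5)) = (LP (LK LD1_c6 LD2_c24 LD3_c59)) :=
  Lre_e IH (LK LD1_c3 LD2_c10 LD3_c5) (LK LD1_c6 LD2_c24 LD3_c59) Lrfl Lrfl
theorem f538669 : Led Lsl_af (LP (LK LD1_c4 LD2_c0 LD3_c10)) = (LP (LK LD1_c6 LD2_c24 LD3_c59)) :=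
  Lgr Lrot50 (Lpr_et (f445772 IH) (Lpr_at (f538658 IH) (Lpr_et (f538668 IH) (Lpn (LP (LK LD1_c6 LD2_c24 LD3_c59))))))
theorem f445766 : Led Lsl_ft (LP (LK LD1_c4 LD2_c0 LD3_c10)) = (LP (LK LD1_c8 LD2_c1 LD3_c20)) :=
  Lre_f IH (LK LD1_c4 LD2_c0 LD3_c10) (LK LD1_c8 LD2_c1 LD3_c20) Lrfl Lrfl
theorem f538682 : Led Lsl_ft (LP (LK LD1_c12 LD2_c22 LD3_c61)) = (LP (LK LD1_c6 LD2_c24 LD3_c59)) :=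
  Lre_f IH (LK LD1_c12 LD2_c22 LD3_c61) (LK LD1_c6 LD2_c24 LD3_c59) Lrfl Lrfl
theorem f538683 : Led Lsl_at (LP (LK LD1_c8 LD2_c1 LD3_c20)) = (LP (LK LD1_c12 LD2_c22 LD3_c61)) :=
  Lgr Lrot66 (Lpe (f445766 IH) (Lpr_af (f538669 IH) (Lpe (f538682 IH) (Lpn (LP (LK LD1_c12 LD2_c22 LD3_c61))))))
theorem f443874 : Led Lsl_dt (LP (LK LD1_c15 LD2_c5 LD3_c51)) = (LP (LK LD1_c8 LD2_c1 LD3_c20)) :=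
  Lre_d IH (LK LD1_c15 LD2_c5 LD3_c51) (LK LD1_c8 LD2_c1 LD3_c20) Lrfl Lrfl
theorem f538687 : Led Lsl_dt (LP (LK LD1_c12 LD2_c22 LD3_c61)) = (LP (LK LD1_c21 LD2_c29 LD3_c59)) :=
  Lre_d IH (LK LD1_c12 LD2_c22 LD3_c61) (LK LD1_c21 LD2_c29 LD3_c59) Lrfl Lrfl
theorem f538706 : Led Lsl_af (LP (LK LD1_c15 LD2_c5 LD3_c51)) = (LP (LK LD1_c21 LD2_c29 LD3_c59)) :=
  Lgr Lrot117 (Lpr_dt (f443874 IH) (Lpr_at (f538683 IH) (Lpr_dt (f538687 IH) (Lpn (LP (LK LD1_c21 LD2_c29 LD3_c59))))))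
theorem f30147 : Led Lsl_ct (LP (LK LD1_c15 LD2_c5 LD3_c51)) = (LP (LK LD1_c24 LD2_c53 LD3_c53)) :=
  Lre_c IH (LK LD1_c15 LD2_c5 LD3_c51) (LK LD1_c24 LD2_c53 LD3_c53) Lrfl Lrfl
theorem f538713 : Led Lsl_ct (LP (LK LD1_c30 LD2_c3 LD3_c11)) = (LP (LK LD1_c21 LD2_c29 LD3_c59)) :=
  Lre_c IH (LK LD1_c30 LD2_c3 LD3_c11) (LK LD1_c21 LD2_c29 LD3_c59) Lrfl Lrfl
theorem f538722 : Led Lsl_at (LP (LK LD1_c24 LD2_c53 LD3_c53)) = (LP (LK LD1_c30 LD2_c3 LD3_c11)) :=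
  Lgr Lrot107 (Lpe (f30147 IH) (Lpr_af (f538706 IH) (Lpe (f538713 IH) (Lpn (LP (LK LD1_c30 LD2_c3 LD3_c11))))))
theorem f538731 : Led Lsl_ft (LP (LK LD1_c15 LD2_c5 LD3_c47)) = (LP (LK LD1_c24 LD2_c53 LD3_c53)) :=
  Lre_f IH (LK LD1_c15 LD2_c5 LD3_c47) (LK LD1_c24 LD2_c53 LD3_c53) Lrfl Lrfl
theorem f538732 : Led Lsl_ft (LP (LK LD1_c30 LD2_c3 LD3_c11)) = (LP (LK LD1_c21 LD2_c29 LD3_c58)) :=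
  Lre_f IH (LK LD1_c30 LD2_c3 LD3_c11) (LK LD1_c21 LD2_c29 LD3_c58) Lrfl Lrfl
theorem f538733 : Led Lsl_af (LP (LK LD1_c15 LD2_c5 LD3_c47)) = (LP (LK LD1_c21 LD2_c29 LD3_c58)) :=
  Lgr Lrot45 (Lpr_ft (f538731 IH) (Lpr_at (f538722 IH) (Lpr_ft (f538732 IH) (Lpn (LP (LK LD1_c21 LD2_c29 LD3_c58))))))
theorem f30398 : Led Lsl_et (LP (LK LD1_c15 LD2_c5 LD3_c47)) = (LP (LK LD1_c8 LD2_c1 LD3_c5)) :=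
  Lre_e IH (LK LD1_c15 LD2_c5 LD3_c47) (LK LD1_c8 LD2_c1 LD3_c5) Lrfl Lrfl
theorem f30391 : Led Lsl_at (LP (LK LD1_c8 LD2_c1 LD3_c5)) = (LP (LK LD1_c15 LD2_c5 LD3_c45)) :=
  Lre_a IH (LK LD1_c8 LD2_c1 LD3_c5) (LK LD1_c15 LD2_c5 LD3_c45) Lrfl Lrfl
theorem f538746 : Led Lsl_et (LP (LK LD1_c15 LD2_c5 LD3_c45)) = (LP (LK LD1_c21 LD2_c29 LD3_c58)) :=
  Lgr Lrot123 (Lpe (f30391 IH) (Lpe (f30398 IH) (Lpr_af (f538733 IH) (Lpn (LP (LK LD1_c21 LD2_c29 LD3_c58))))))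
theorem f30017 : Led Lsl_ct (LP (LK LD1_c8 LD2_c1 LD3_c4)) = (LP (LK LD1_c15 LD2_c5 LD3_c45)) :=
  Lre_c IH (LK LD1_c8 LD2_c1 LD3_c4) (LK LD1_c15 LD2_c5 LD3_c45) Lrfl Lrfl
theorem f538757 : Led Lsl_ct (LP (LK LD1_c21 LD2_c29 LD3_c58)) = (LP (LK LD1_c12 LD2_c22 LD3_c60)) :=
  Lre_c IH (LK LD1_c21 LD2_c29 LD3_c58) (LK LD1_c12 LD2_c22 LD3_c60) Lrfl Lrfl
theorem f538758 : Led Lsl_ef (LP (LK LD1_c8 LD2_c1 LD3_c4)) = (LP (LK LD1_c12 LD2_c22 LD3_c60)) :=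
  Lgr Lrot28 (Lpr_ct (f30017 IH) (Lpr_et (f538746 IH) (Lpr_ct (f538757 IH) (Lpn (LP (LK LD1_c12 LD2_c22 LD3_c60))))))
theorem f30022 : Led Lsl_dt (LP (LK LD1_c8 LD2_c1 LD3_c4)) = (LP (LK LD1_c4 LD2_c0 LD3_c0)) :=
  Lre_d IH (LK LD1_c8 LD2_c1 LD3_c4) (LK LD1_c4 LD2_c0 LD3_c0) Lrfl Lrfl
theorem f3040 : Led Lsl_et (LP (LK LD1_c4 LD2_c0 LD3_c0)) = (LP (LK LD1_c1 LD2_c56 LD3_c51)) :=
  Lre_e IH (LK LD1_c4 LD2_c0 LD3_c0) (LK LD1_c1 LD2_c56 LD3_c51) Lrfl Lrfl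
theorem f205611 : Led Lsl_dt (LP (LK LD1_c6 LD2_c24 LD3_c59)) = (LP (LK LD1_c12 LD2_c22 LD3_c60)) :=
  Lre_d IH (LK LD1_c6 LD2_c24 LD3_c59) (LK LD1_c12 LD2_c22 LD3_c60) Lrfl Lrfl
theorem f538820 : Led Lsl_dt (LP (LK LD1_c1 LD2_c56 LD3_c51)) = (LP (LK LD1_c3 LD2_c10 LD3_c5)) :=
  Lgr Lrot77 (Lpe (f3040 IH) (Lpe (f30022 IH) (Lpr_ef (f538758 IH) (Lpe (f205611 IH) (Lpe (f538668 IH) (Lpn (LP (LK LD1_c3 LD2_c10 LD3_c5))))))))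
theorem f205605 : Led Lsl_gf (LP (LK LD1_c4 LD2_c24 LD3_c31)) = (LP (LK LD1_c3 LD2_c10 LD3_c5)) :=
  Lgr Lrot76 (Lpr_af (K11.f205599 IH) (Lpe (K11.f36437 IH) (Lpr_gt (f80361 IH) (Lpn (LP (LK LD1_c3 LD2_c10 LD3_c5))))))
theorem f205612 : Led Lsl_dt (LP (LK LD1_c2 LD2_c9 LD3_c42)) = (LP (LK LD1_c4 LD2_c24 LD3_c31)) :=
  Lre_d IH (LK LD1_c2 LD2_c9 LD3_c42) (LK LD1_c4 LD2_c24 LD3_c31) Lrfl Lrfl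
theorem f210467 : Led Lsl_ct (LP (LK LD1_c3 LD2_c5 LD3_c36)) = (LP (LK LD1_c1 LD2_c28 LD3_c48)) :=
  Lre_c IH (LK LD1_c3 LD2_c5 LD3_c36) (LK LD1_c1 LD2_c28 LD3_c48) Lrfl Lrfl
theorem f227718 : Led Lsl_et (LP (LK LD1_c2 LD2_c9 LD3_c42)) = (LP (LK LD1_c3 LD2_c5 LD3_c36)) :=
  Lgr Lrot158 (Lpe (K13.f80654 IH) (Lpr_ef (K12.f227716 IH) (Lpe (f210467 IH) (Lpn (LP (LK LD1_c3 LD2_c5 LD3_c36))))))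
theorem f36670 : Led Lsl_et (LP (LK LD1_c4 LD2_c24 LD3_c9)) = (LP (LK LD1_c2 LD2_c9 LD3_c29)) :=
  Lre_e IH (LK LD1_c4 LD2_c24 LD3_c9) (LK LD1_c2 LD2_c9 LD3_c29) Lrfl Lrfl
theorem f538836 : Led Lsl_ef (LP (LK LD1_c2 LD2_c15 LD3_c55)) = (LP (LK LD1_c2 LD2_c27 LD3_c61)) :=
  Lgr Lrot167 (Lpe (K8.f160633 IH) (Lpr_dt (f538820 IH) (Lpe (f205605 IH) (Lpe (f205612 IH) (Lpr_et (f227718 IH) (Lpr_gt (K31.f272470 IH) (Lpe (f36670 IH) (Lpr_dt (K13.f36671 IH) (Lpe (K13.f241203 IH) (Lpe (K13.f175821 IH) (Lpn (LP (LK LD1_c2 LD2_c27 LD3_c61)))))))))))))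
theorem f30038 : Led Lsl_dt (LP (LK LD1_c4 LD2_c0 LD3_c0)) = (LP (LK LD1_c8 LD2_c1 LD3_c4)) :=
  Lre_d IH (LK LD1_c4 LD2_c0 LD3_c0) (LK LD1_c8 LD2_c1 LD3_c4) Lrfl Lrfl
theorem f538842 : Led Lsl_gt (LP (LK LD1_c8 LD2_c1 LD3_c4)) = (LP (LK LD1_c6 LD2_c15 LD3_c15)) :=
  Lgr Lrot112 (Lpe (f30038 IH) (Lpr_et (f3040 IH) (Lpr_gf (K8.f160633 IH) (Lpr_ef (f538836 IH) (Lpr_dt (K13.f175821 IH) (Lpr_gf (K13.f241203 IH) (Lpe (K13.f36671 IH) (Lpe (K13.f241208 IH) (Lpe (K16.f101369 IH) (Lpr_dt (K13.f60458 IH) (Lpn (LP (LK LD1_c6 LD2_c15 LD3_c15)))))))))))))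
theorem f30034 : Led Lsl_ct (LP (LK LD1_c15 LD2_c5 LD3_c45)) = (LP (LK LD1_c8 LD2_c1 LD3_c4)) :=
  Lre_c IH (LK LD1_c15 LD2_c5 LD3_c45) (LK LD1_c8 LD2_c1 LD3_c4) Lrfl Lrfl
theorem f538848 : Led Lsl_gf (LP (LK LD1_c15 LD2_c5 LD3_c45)) = (LP (LK LD1_c11 LD2_c23 LD3_c28)) :=
  Lgr Lrot147 (Lpr_ct (f30034 IH) (Lpr_gt (f538842 IH) (Lpr_ct (K13.f193727 IH) (Lpr_df (K13.f241769 IH) (Lpe (K13.f80982 IH) (Lpe (K10.f193700 IH) (Lpe (K2.f37248 IH) (Lpr_gf (K13.f197488 IH) (Lpe (K13.f197497 IH) (Lpn (LP (LK LD1_c11 LD2_c23 LD3_c28))))))))))))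
theorem f538856 : Led Lsl_cf (LP (LK LD1_c4 LD2_c0 LD3_c0)) = (LP (LK LD1_c2 LD2_c26 LD3_c22)) :=
  Lgr Lrot99 (Lpe (f30022 IH) (Lpe (f30034 IH) (Lpr_gf (f538848 IH) (Lpe (K13.f60757 IH) (Lpr_gf (K13.f240857 IH) (Lpe (K13.f225586 IH) (Lpr_gt (K10.f197911 IH) (Lpr_ct (K10.f37241 IH) (Lpe (K18.f225583 IH) (Lpn (LP (LK LD1_c2 LD2_c26 LD3_c22))))))))))))
theorem f29715 : Led Lsl_bt (LP (LK LD1_c2 LD2_c24 LD3_c24)) = (LP (LK LD1_c4 LD2_c53 LD3_c12)) :=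
  Lre_b IH (LK LD1_c2 LD2_c24 LD3_c24) (LK LD1_c4 LD2_c53 LD3_c12) Lrfl Lrfl
theorem f29586 : Led Lsl_bt (LP (LK LD1_c8 LD2_c1 LD3_c59)) = (LP (LK LD1_c4 LD2_c0 LD3_c30)) :=
  Lre_b IH (LK LD1_c8 LD2_c1 LD3_c59) (LK LD1_c4 LD2_c0 LD3_c30) Lrfl Lrfl
theorem f30237 : Led Lsl_ft (LP (LK LD1_c4 LD2_c53 LD3_c12)) = (LP (LK LD1_c8 LD2_c1 LD3_c59)) :=
  Lgr Lrot75 (Lpe (f29715 IH) (Lpr_ff (K12.f30235 IH) (Lpe (f29586 IH) (Lpn (LP (LK LD1_c8 LD2_c1 LD3_c59))))))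
theorem f2767 : Led Lsl_dt (LP (LK LD1_c4 LD2_c53 LD3_c12)) = (LP (LK LD1_c2 LD2_c24 LD3_c23)) :=
  Lre_d IH (LK LD1_c4 LD2_c53 LD3_c12) (LK LD1_c2 LD2_c24 LD3_c23) Lrfl Lrfl
theorem f2036 : Led Lsl_dt (LP (LK LD1_c4 LD2_c51 LD3_c59)) = (LP (LK LD1_c9 LD2_c36 LD3_c13)) :=
  Lre_d IH (LK LD1_c4 LD2_c51 LD3_c59) (LK LD1_c9 LD2_c36 LD3_c13) Lrfl Lrfl
theorem f2035 : Led Lsl_ct (LP (LK LD1_c9 LD2_c36 LD3_c13)) = (LP (LK LD1_c17 LD2_c41 LD3_c0)) :=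
  Lre_c IH (LK LD1_c9 LD2_c36 LD3_c13) (LK LD1_c17 LD2_c41 LD3_c0) Lrfl Lrfl
theorem f30239 : Led Lsl_at (LP (LK LD1_c8 LD2_c1 LD3_c59)) = (LP (LK LD1_c15 LD2_c7 LD3_c36)) :=
  Lre_a IH (LK LD1_c8 LD2_c1 LD3_c59) (LK LD1_c15 LD2_c7 LD3_c36) Lrfl Lrfl
theorem f30253 : Led Lsl_ct (LP (LK LD1_c24 LD2_c56 LD3_c4)) = (LP (LK LD1_c15 LD2_c7 LD3_c36)) :=
  Lre_c IH (LK LD1_c24 LD2_c56 LD3_c4) (LK LD1_c15 LD2_c7 LD3_c36) Lrfl Lrfl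
theorem f30254 : Led Lsl_dt (LP (LK LD1_c17 LD2_c41 LD3_c0)) = (LP (LK LD1_c24 LD2_c56 LD3_c4)) :=
  Lgr Lrot120 (Lpe (f2035 IH) (Lpe (f2036 IH) (Lpe (K30.f2284 IH) (Lpr_df (K20.f2223 IH) (Lpe (K27.f2272 IH) (Lpe (f2767 IH) (Lpr_ft (f30237 IH) (Lpr_at (f30239 IH) (Lpe (f30253 IH) (Lpn (LP (LK LD1_c24 LD2_c56 LD3_c4))))))))))))
theorem f2032 : Led Lsl_ft (LP (LK LD1_c9 LD2_c36 LD3_c11)) = (LP (LK LD1_c17 LD2_c41 LD3_c0)) :=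
  Lre_f IH (LK LD1_c9 LD2_c36 LD3_c11) (LK LD1_c17 LD2_c41 LD3_c0) Lrfl Lrfl
theorem f2353 : Led Lsl_dt (LP (LK LD1_c17 LD2_c40 LD3_c60)) = (LP (LK LD1_c9 LD2_c36 LD3_c11)) :=
  Lre_d IH (LK LD1_c17 LD2_c40 LD3_c60) (LK LD1_c9 LD2_c36 LD3_c11) Lrfl Lrfl
theorem f30264 : Led Lsl_ff (LP (LK LD1_c17 LD2_c40 LD3_c60)) = (LP (LK LD1_c24 LD2_c56 LD3_c4)) :=
  Lgr Lrot19 (Lpr_dt (f2353 IH) (Lpr_ft (f2032 IH) (Lpr_dt (f30254 IH) (Lpn (LP (LK LD1_c24 LD2_c56 LD3_c4))))))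
theorem f30266 : Led Lsl_ct (LP (LK LD1_c15 LD2_c7 LD3_c36)) = (LP (LK LD1_c24 LD2_c56 LD3_c4)) :=
  Lre_c IH (LK LD1_c15 LD2_c7 LD3_c36) (LK LD1_c24 LD2_c56 LD3_c4) Lrfl Lrfl
theorem f30271 : Led Lsl_ft (LP (LK LD1_c9 LD2_c38 LD3_c21)) = (LP (LK LD1_c15 LD2_c7 LD3_c36)) :=
  Lgr Lrot4 (Lpe (K0.f2314 IH) (Lpr_ff (f30264 IH) (Lpe (f30266 IH) (Lpn (LP (LK LD1_c15 LD2_c7 LD3_c36))))))
theorem f1962 : Led Lsl_dt (LP (LK LD1_c9 LD2_c36 LD3_c1)) = (LP (LK LD1_c17 LD2_c40 LD3_c32)) :=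
  Lre_d IH (LK LD1_c9 LD2_c36 LD3_c1) (LK LD1_c17 LD2_c40 LD3_c32) Lrfl Lrfl
theorem f30278 : Led Lsl_at (LP (LK LD1_c15 LD2_c7 LD3_c36)) = (LP (LK LD1_c8 LD2_c1 LD3_c59)) :=
  Lre_a IH (LK LD1_c15 LD2_c7 LD3_c36) (LK LD1_c8 LD2_c1 LD3_c59) Lrfl Lrfl
theorem f30283 : Led Lsl_ct (LP (LK LD1_c15 LD2_c7 LD3_c25)) = (LP (LK LD1_c8 LD2_c1 LD3_c59)) :=
  Lre_c IH (LK LD1_c15 LD2_c7 LD3_c25) (LK LD1_c8 LD2_c1 LD3_c59) Lrfl Lrfl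
theorem f30284 : Led Lsl_dt (LP (LK LD1_c24 LD2_c56 LD3_c5)) = (LP (LK LD1_c15 LD2_c7 LD3_c25)) :=
  Lre_d IH (LK LD1_c24 LD2_c56 LD3_c5) (LK LD1_c15 LD2_c7 LD3_c25) Lrfl Lrfl
theorem f30285 : Led Lsl_ct (LP (LK LD1_c17 LD2_c40 LD3_c32)) = (LP (LK LD1_c24 LD2_c56 LD3_c5)) :=
  Lgr Lrot53 (Lpe (f1962 IH) (Lpe (K0.f2327 IH) (Lpr_df (K0.f2328 IH) (Lpe (K0.f2243 IH) (Lpe (K0.f2246 IH) (Lpr_ft (f30271 IH) (Lpr_at (f30278 IH) (Lpe (f30283 IH) (Lpe (f30284 IH) (Lpn (LP (LK LD1_c24 LD2_c56 LD3_c5))))))))))))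
theorem f30292 : Led Lsl_at (LP (LK LD1_c17 LD2_c41 LD3_c0)) = (LP (LK LD1_c24 LD2_c56 LD3_c5)) :=
  Lgr Lrot33 (Lpe (f2032 IH) (Lpr_dt (K0.f2313 IH) (Lpr_ct (K0.f2314 IH) (Lpr_dt (K0.f2246 IH) (Lpr_ct (K0.f2243 IH) (Lpe (K0.f2328 IH) (Lpr_ct (K0.f2327 IH) (Lpr_dt (f1962 IH) (Lpr_ct (f30285 IH) (Lpn (LP (LK LD1_c24 LD2_c56 LD3_c5))))))))))))
theorem f1741 : Led Lsl_bt (LP (LK LD1_c9 LD2_c36 LD3_c13)) = (LP (LK LD1_c4 LD2_c52 LD3_c2)) :=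
  Lre_b IH (LK LD1_c9 LD2_c36 LD3_c13) (LK LD1_c4 LD2_c52 LD3_c2) Lrfl Lrfl
theorem f1742 : Led Lsl_ct (LP (LK LD1_c17 LD2_c41 LD3_c0)) = (LP (LK LD1_c9 LD2_c36 LD3_c13)) :=
  Lre_c IH (LK LD1_c17 LD2_c41 LD3_c0) (LK LD1_c9 LD2_c36 LD3_c13) Lrfl Lrfl
theorem f1743 : Led Lsl_bt (LP (LK LD1_c4 LD2_c50 LD3_c59)) = (LP (LK LD1_c9 LD2_c34 LD3_c1)) :=
  Lre_b IH (LK LD1_c4 LD2_c50 LD3_c59) (LK LD1_c9 LD2_c34 LD3_c1) Lrfl Lrfl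
theorem f1744 : Led Lsl_ct (LP (LK LD1_c9 LD2_c34 LD3_c1)) = (LP (LK LD1_c17 LD2_c37 LD3_c5)) :=
  Lre_c IH (LK LD1_c9 LD2_c34 LD3_c1) (LK LD1_c17 LD2_c37 LD3_c5) Lrfl Lrfl
theorem f1745 : Led Lsl_bf (LP (LK LD1_c17 LD2_c41 LD3_c0)) = (LP (LK LD1_c17 LD2_c37 LD3_c5)) :=
  Lgr Lrot90 (Lpr_ct (f1742 IH) (Lpr_bt (f1741 IH) (Lpr_ct (K0.f1727 IH) (Lpr_bt (f1743 IH) (Lpr_ct (f1744 IH) (Lpn (LP (LK LD1_c17 LD2_c37 LD3_c5))))))))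
theorem f2031 : Led Lsl_at (LP (LK LD1_c27 LD2_c25 LD3_c16)) = (LP (LK LD1_c17 LD2_c37 LD3_c5)) :=
  Lre_a IH (LK LD1_c27 LD2_c25 LD3_c16) (LK LD1_c17 LD2_c37 LD3_c5) Lrfl Lrfl
theorem f30287 : Led Lsl_bt (LP (LK LD1_c24 LD2_c56 LD3_c5)) = (LP (LK LD1_c15 LD2_c7 LD3_c26)) :=
  Lre_b IH (LK LD1_c24 LD2_c56 LD3_c5) (LK LD1_c15 LD2_c7 LD3_c26) Lrfl Lrfl
theorem f29385 : Led Lsl_at (LP (LK LD1_c15 LD2_c7 LD3_c26)) = (LP (LK LD1_c24 LD2_c55 LD3_c40)) :=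
  Lre_a IH (LK LD1_c15 LD2_c7 LD3_c26) (LK LD1_c24 LD2_c55 LD3_c40) Lrfl Lrfl
theorem f30297 : Led Lsl_bf (LP (LK LD1_c27 LD2_c25 LD3_c16)) = (LP (LK LD1_c24 LD2_c55 LD3_c40)) :=
  Lgr Lrot81 (Lpr_at (f2031 IH) (Lpe (f1745 IH) (Lpr_at (f30292 IH) (Lpr_bt (f30287 IH) (Lpr_at (f29385 IH) (Lpn (LP (LK LD1_c24 LD2_c55 LD3_c40))))))))
theorem f30019 : Led Lsl_bt (LP (LK LD1_c24 LD2_c55 LD3_c39)) = (LP (LK LD1_c15 LD2_c7 LD3_c16)) :=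
  Lre_b IH (LK LD1_c24 LD2_c55 LD3_c39) (LK LD1_c15 LD2_c7 LD3_c16) Lrfl Lrfl
theorem f30310 : Led Lsl_dt (LP (LK LD1_c27 LD2_c25 LD3_c16)) = (LP (LK LD1_c24 LD2_c55 LD3_c39)) :=
  Lgr Lrot79 (Lpr_bf (f30297 IH) (Lpe (K7.f29375 IH) (Lpe (f30019 IH) (Lpn (LP (LK LD1_c24 LD2_c55 LD3_c39))))))
theorem f1986 : Led Lsl_ct (LP (LK LD1_c17 LD2_c37 LD3_c2)) = (LP (LK LD1_c27 LD2_c25 LD3_c16)) :=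
  Lre_c IH (LK LD1_c17 LD2_c37 LD3_c2) (LK LD1_c27 LD2_c25 LD3_c16) Lrfl Lrfl
theorem f1966 : Led Lsl_dt (LP (LK LD1_c9 LD2_c34 LD3_c0)) = (LP (LK LD1_c17 LD2_c37 LD3_c2)) :=
  Lre_d IH (LK LD1_c9 LD2_c34 LD3_c0) (LK LD1_c17 LD2_c37 LD3_c2) Lrfl Lrfl
theorem f29840 : Led Lsl_at (LP (LK LD1_c4 LD2_c0 LD3_c18)) = (LP (LK LD1_c8 LD2_c1 LD3_c36)) :=
  Lre_a IH (LK LD1_c4 LD2_c0 LD3_c18) (LK LD1_c8 LD2_c1 LD3_c36) Lrfl Lrfl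
theorem f2012 : Led Lsl_at (LP (LK LD1_c9 LD2_c34 LD3_c0)) = (LP (LK LD1_c4 LD2_c50 LD3_c58)) :=
  Lre_a IH (LK LD1_c9 LD2_c34 LD3_c0) (LK LD1_c4 LD2_c50 LD3_c58) Lrfl Lrfl
theorem f29841 : Led Lsl_ct (LP (LK LD1_c8 LD2_c1 LD3_c36)) = (LP (LK LD1_c9 LD2_c34 LD3_c0)) :=
  Lgr Lrot111 (Lpe (f29840 IH) (Lpr_cf (K13.f29819 IH) (Lpe (f2012 IH) (Lpn (LP (LK LD1_c9 LD2_c34 LD3_c0))))))
theorem f29884 : Led Lsl_dt (LP (LK LD1_c15 LD2_c6 LD3_c57)) = (LP (LK LD1_c8 LD2_c1 LD3_c36)) :=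
  Lre_d IH (LK LD1_c15 LD2_c6 LD3_c57) (LK LD1_c8 LD2_c1 LD3_c36) Lrfl Lrfl
theorem f29998 : Led Lsl_et (LP (LK LD1_c4 LD2_c0 LD3_c4)) = (LP (LK LD1_c1 LD2_c56 LD3_c47)) :=
  Lre_e IH (LK LD1_c4 LD2_c0 LD3_c4) (LK LD1_c1 LD2_c56 LD3_c47) Lrfl Lrfl
theorem f29999 : Led Lsl_et (LP (LK LD1_c1 LD2_c56 LD3_c61)) = (LP (LK LD1_c4 LD2_c0 LD3_c31)) :=
  Lre_e IH (LK LD1_c1 LD2_c56 LD3_c61) (LK LD1_c4 LD2_c0 LD3_c31) Lrfl Lrfl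
theorem f30000 : Led Lsl_at (LP (LK LD1_c1 LD2_c56 LD3_c47)) = (LP (LK LD1_c1 LD2_c56 LD3_c61)) :=
  Lgr Lrot80 (Lpe (f29998 IH) (Lpr_af (K1.f29967 IH) (Lpe (f29999 IH) (Lpn (LP (LK LD1_c1 LD2_c56 LD3_c61))))))
theorem f30010 : Led Lsl_bt (LP (LK LD1_c4 LD2_c0 LD3_c1)) = (LP (LK LD1_c1 LD2_c56 LD3_c47)) :=
  Lre_b IH (LK LD1_c4 LD2_c0 LD3_c1) (LK LD1_c1 LD2_c56 LD3_c47) Lrfl Lrfl
theorem f30011 : Led Lsl_at (LP (LK LD1_c8 LD2_c1 LD3_c4)) = (LP (LK LD1_c4 LD2_c0 LD3_c1)) :=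
  Lre_a IH (LK LD1_c8 LD2_c1 LD3_c4) (LK LD1_c4 LD2_c0 LD3_c1) Lrfl Lrfl
theorem f30012 : Led Lsl_bt (LP (LK LD1_c1 LD2_c56 LD3_c61)) = (LP (LK LD1_c4 LD2_c0 LD3_c28)) :=
  Lre_b IH (LK LD1_c1 LD2_c56 LD3_c61) (LK LD1_c4 LD2_c0 LD3_c28) Lrfl Lrfl
theorem f30013 : Led Lsl_bf (LP (LK LD1_c8 LD2_c1 LD3_c4)) = (LP (LK LD1_c8 LD2_c1 LD3_c52)) :=
  Lgr Lrot81 (Lpr_at (f30011 IH) (Lpr_bt (f30010 IH) (Lpr_at (f30000 IH) (Lpr_bt (f30012 IH) (Lpr_at (K7.f29379 IH) (Lpn (LP (LK LD1_c8 LD2_c1 LD3_c52))))))))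
theorem f30018 : Led Lsl_bt (LP (LK LD1_c15 LD2_c5 LD3_c45)) = (LP (LK LD1_c24 LD2_c53 LD3_c45)) :=
  Lre_b IH (LK LD1_c15 LD2_c5 LD3_c45) (LK LD1_c24 LD2_c53 LD3_c45) Lrfl Lrfl
theorem f30020 : Led Lsl_ct (LP (LK LD1_c24 LD2_c53 LD3_c45)) = (LP (LK LD1_c24 LD2_c55 LD3_c39)) :=
  Lgr Lrot83 (Lpe (f30018 IH) (Lpe (f30017 IH) (Lpr_bf (f30013 IH) (Lpe (K7.f29380 IH) (Lpe (f30019 IH) (Lpn (LP (LK LD1_c24 LD2_c55 LD3_c39))))))))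
theorem f30029 : Led Lsl_cf (LP (LK LD1_c24 LD2_c53 LD3_c45)) = (LP (LK LD1_c24 LD2_c55 LD3_c39)) :=
  Lgr Lrot11 (Lpr_ct (f30020 IH) (Lpn (LP (LK LD1_c24 LD2_c55 LD3_c39))))
theorem f1993 : Led Lsl_ft (LP (LK LD1_c9 LD2_c34 LD3_c0)) = (LP (LK LD1_c17 LD2_c36 LD3_c53)) :=
  Lre_f IH (LK LD1_c9 LD2_c34 LD3_c0) (LK LD1_c17 LD2_c36 LD3_c53) Lrfl Lrfl
theorem f1951 : Led Lsl_at (LP (LK LD1_c17 LD2_c36 LD3_c53)) = (LP (LK LD1_c9 LD2_c34 LD3_c2)) :=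
  Lre_a IH (LK LD1_c17 LD2_c36 LD3_c53) (LK LD1_c9 LD2_c34 LD3_c2) Lrfl Lrfl
theorem f29674 : Led Lsl_bt (LP (LK LD1_c4 LD2_c0 LD3_c3)) = (LP (LK LD1_c8 LD2_c1 LD3_c8)) :=
  Lre_b IH (LK LD1_c4 LD2_c0 LD3_c3) (LK LD1_c8 LD2_c1 LD3_c8) Lrfl Lrfl
theorem f29675 : Led Lsl_bt (LP (LK LD1_c8 LD2_c1 LD3_c38)) = (LP (LK LD1_c4 LD2_c0 LD3_c20)) :=
  Lre_b IH (LK LD1_c8 LD2_c1 LD3_c38) (LK LD1_c4 LD2_c0 LD3_c20) Lrfl Lrfl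
theorem f29676 : Led Lsl_dt (LP (LK LD1_c8 LD2_c1 LD3_c8)) = (LP (LK LD1_c8 LD2_c1 LD3_c38)) :=
  Lgr Lrot79 (Lpe (f29674 IH) (Lpr_df (K1.f29670 IH) (Lpe (f29675 IH) (Lpn (LP (LK LD1_c8 LD2_c1 LD3_c38))))))
theorem f29722 : Led Lsl_ct (LP (LK LD1_c15 LD2_c5 LD3_c46)) = (LP (LK LD1_c8 LD2_c1 LD3_c8)) :=
  Lre_c IH (LK LD1_c15 LD2_c5 LD3_c46) (LK LD1_c8 LD2_c1 LD3_c8) Lrfl Lrfl
theorem f30314 : Led Lsl_df (LP (LK LD1_c15 LD2_c5 LD3_c46)) = (LP (LK LD1_c24 LD2_c53 LD3_c45)) :=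
  Lgr Lrot13 (Lpr_ct (f29722 IH) (Lpr_dt (f29676 IH) (Lpr_ct (K13.f29847 IH) (Lpe (f1951 IH) (Lpe (f1993 IH) (Lpr_dt (f1966 IH) (Lpr_ct (f1986 IH) (Lpr_dt (f30310 IH) (Lpe (f30029 IH) (Lpn (LP (LK LD1_c24 LD2_c53 LD3_c45))))))))))))
theorem f30316 : Led Lsl_at (LP (LK LD1_c15 LD2_c5 LD3_c55)) = (LP (LK LD1_c8 LD2_c1 LD3_c8)) :=
  Lre_a IH (LK LD1_c15 LD2_c5 LD3_c55) (LK LD1_c8 LD2_c1 LD3_c8) Lrfl Lrfl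
theorem f30317 : Led Lsl_ft (LP (LK LD1_c15 LD2_c6 LD3_c57)) = (LP (LK LD1_c15 LD2_c5 LD3_c55)) :=
  Lgr Lrot142 (Lpr_dt (f29884 IH) (Lpr_ct (f29841 IH) (Lpr_dt (f1966 IH) (Lpr_ct (f1986 IH) (Lpr_dt (f30310 IH) (Lpe (f30029 IH) (Lpe (f30314 IH) (Lpr_ct (f29722 IH) (Lpe (f30316 IH) (Lpn (LP (LK LD1_c15 LD2_c5 LD3_c55))))))))))))
theorem f30329 : Led Lsl_ff (LP (LK LD1_c15 LD2_c6 LD3_c57)) = (LP (LK LD1_c15 LD2_c5 LD3_c55)) :=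
  Lgr Lrot3 (Lpr_ft (f30317 IH) (Lpn (LP (LK LD1_c15 LD2_c5 LD3_c55))))
theorem f29909 : Led Lsl_ct (LP (LK LD1_c15 LD2_c6 LD3_c57)) = (LP (LK LD1_c24 LD2_c55 LD3_c4)) :=
  Lre_c IH (LK LD1_c15 LD2_c6 LD3_c57) (LK LD1_c24 LD2_c55 LD3_c4) Lrfl Lrfl
theorem f30341 : Led Lsl_ct (LP (LK LD1_c24 LD2_c53 LD3_c48)) = (LP (LK LD1_c15 LD2_c5 LD3_c55)) :=
  Lre_c IH (LK LD1_c24 LD2_c53 LD3_c48) (LK LD1_c15 LD2_c5 LD3_c55) Lrfl Lrfl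
theorem f30342 : Led Lsl_ft (LP (LK LD1_c24 LD2_c55 LD3_c4)) = (LP (LK LD1_c24 LD2_c53 LD3_c48)) :=
  Lgr Lrot4 (Lpe (f29909 IH) (Lpr_ff (f30329 IH) (Lpe (f30341 IH) (Lpn (LP (LK LD1_c24 LD2_c53 LD3_c48))))))
theorem f30357 : Led Lsl_bt (LP (LK LD1_c31 LD2_c42 LD3_c46)) = (LP (LK LD1_c24 LD2_c55 LD3_c4)) :=
  Lre_b IH (LK LD1_c31 LD2_c42 LD3_c46) (LK LD1_c24 LD2_c55 LD3_c4) Lrfl Lrfl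
theorem f30351 : Led Lsl_bt (LP (LK LD1_c24 LD2_c53 LD3_c48)) = (LP (LK LD1_c31 LD2_c42 LD3_c7)) :=
  Lre_b IH (LK LD1_c24 LD2_c53 LD3_c48) (LK LD1_c31 LD2_c42 LD3_c7) Lrfl Lrfl
theorem f30358 : Led Lsl_ff (LP (LK LD1_c31 LD2_c42 LD3_c46)) = (LP (LK LD1_c31 LD2_c42 LD3_c7)) :=
  Lgr Lrot25 (Lpr_bt (f30357 IH) (Lpr_ft (f30342 IH) (Lpr_bt (f30351 IH) (Lpn (LP (LK LD1_c31 LD2_c42 LD3_c7))))))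
theorem f30363 : Led Lsl_ft (LP (LK LD1_c31 LD2_c42 LD3_c46)) = (LP (LK LD1_c31 LD2_c42 LD3_c7)) :=
  Lgr Lrot48 (Lpr_ff (f30358 IH) (Lpn (LP (LK LD1_c31 LD2_c42 LD3_c7))))
theorem f30028 : Led Lsl_at (LP (LK LD1_c31 LD2_c42 LD3_c7)) = (LP (LK LD1_c24 LD2_c53 LD3_c45)) :=
  Lre_a IH (LK LD1_c31 LD2_c42 LD3_c7) (LK LD1_c24 LD2_c53 LD3_c45) Lrfl Lrfl
theorem f29908 : Led Lsl_ct (LP (LK LD1_c24 LD2_c55 LD3_c4)) = (LP (LK LD1_c15 LD2_c6 LD3_c57)) :=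
  Lre_c IH (LK LD1_c24 LD2_c55 LD3_c4) (LK LD1_c15 LD2_c6 LD3_c57) Lrfl Lrfl
theorem f30366 : Led Lsl_dt (LP (LK LD1_c31 LD2_c42 LD3_c46)) = (LP (LK LD1_c24 LD2_c55 LD3_c4)) :=
  Lgr Lrot159 (Lpr_ft (f30363 IH) (Lpr_at (f30028 IH) (Lpr_cf (f30029 IH) (Lpe (f30310 IH) (Lpe (f1986 IH) (Lpe (f1966 IH) (Lpe (f29841 IH) (Lpe (f29884 IH) (Lpe (f29908 IH) (Lpn (LP (LK LD1_c24 LD2_c55 LD3_c4))))))))))))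
theorem f30375 : Led Lsl_df (LP (LK LD1_c31 LD2_c42 LD3_c7)) = (LP (LK LD1_c24 LD2_c53 LD3_c48)) :=
  Lgr Lrot78 (Lpe (f30358 IH) (Lpr_dt (f30366 IH) (Lpr_ft (f30342 IH) (Lpn (LP (LK LD1_c24 LD2_c53 LD3_c48))))))
theorem f30377 : Led Lsl_dt (LP (LK LD1_c31 LD2_c42 LD3_c7)) = (LP (LK LD1_c24 LD2_c53 LD3_c48)) :=
  Lgr Lrot42 (Lpr_df (f30375 IH) (Lpn (LP (LK LD1_c24 LD2_c53 LD3_c48))))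
theorem f30033 : Led Lsl_at (LP (LK LD1_c24 LD2_c53 LD3_c45)) = (LP (LK LD1_c31 LD2_c42 LD3_c7)) :=
  Lre_a IH (LK LD1_c24 LD2_c53 LD3_c45) (LK LD1_c31 LD2_c42 LD3_c7) Lrfl Lrfl
theorem f29911 : Led Lsl_at (LP (LK LD1_c24 LD2_c53 LD3_c48)) = (LP (LK LD1_c15 LD2_c5 LD3_c46)) :=
  Lre_a IH (LK LD1_c24 LD2_c53 LD3_c48) (LK LD1_c15 LD2_c5 LD3_c46) Lrfl Lrfl
theorem f30379 : Led Lsl_df (LP (LK LD1_c24 LD2_c53 LD3_c45)) = (LP (LK LD1_c15 LD2_c5 LD3_c46)) :=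
  Lgr Lrot18 (Lpr_at (f30033 IH) (Lpr_dt (f30377 IH) (Lpr_at (f29911 IH) (Lpn (LP (LK LD1_c15 LD2_c5 LD3_c46))))))
theorem f30032 : Led Lsl_bt (LP (LK LD1_c24 LD2_c53 LD3_c45)) = (LP (LK LD1_c15 LD2_c5 LD3_c45)) :=
  Lre_b IH (LK LD1_c24 LD2_c53 LD3_c45) (LK LD1_c15 LD2_c5 LD3_c45) Lrfl Lrfl
theorem f30381 : Led Lsl_bt (LP (LK LD1_c8 LD2_c1 LD3_c5)) = (LP (LK LD1_c15 LD2_c5 LD3_c46)) :=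
  Lre_b IH (LK LD1_c8 LD2_c1 LD3_c5) (LK LD1_c15 LD2_c5 LD3_c46) Lrfl Lrfl
theorem f30382 : Led Lsl_dt (LP (LK LD1_c15 LD2_c5 LD3_c45)) = (LP (LK LD1_c8 LD2_c1 LD3_c5)) :=
  Lgr Lrot79 (Lpe (f30032 IH) (Lpr_df (f30379 IH) (Lpe (f30381 IH) (Lpn (LP (LK LD1_c8 LD2_c1 LD3_c5))))))
theorem f3008 : Led Lsl_ct (LP (LK LD1_c8 LD2_c1 LD3_c5)) = (LP (LK LD1_c4 LD2_c0 LD3_c1)) :=
  Lre_c IH (LK LD1_c8 LD2_c1 LD3_c5) (LK LD1_c4 LD2_c0 LD3_c1) Lrfl Lrfl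
theorem f3007 : Led Lsl_dt (LP (LK LD1_c4 LD2_c0 LD3_c1)) = (LP (LK LD1_c1 LD2_c56 LD3_c46)) :=
  Lre_d IH (LK LD1_c4 LD2_c0 LD3_c1) (LK LD1_c1 LD2_c56 LD3_c46) Lrfl Lrfl
theorem f227484 : Led Lsl_bt (LP (LK LD1_c1 LD2_c22 LD3_c10)) = (LP (LK LD1_c2 LD2_c52 LD3_c17)) :=
  Lre_b IH (LK LD1_c1 LD2_c22 LD3_c10) (LK LD1_c2 LD2_c52 LD3_c17) Lrfl Lrfl
theorem f453278 : Led Lsl_ff (LP (LK LD1_c1 LD2_c28 LD3_c17)) = (LP (LK LD1_c2 LD2_c52 LD3_c17)) :=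
  Lgr Lrot25 (Lpe (K11.f211026 IH) (Lpr_ft (K31.f453274 IH) (Lpr_bt (f227484 IH) (Lpn (LP (LK LD1_c2 LD2_c52 LD3_c17))))))
theorem f453282 : Led Lsl_at (LP (LK LD1_c1 LD2_c28 LD3_c17)) = (LP (LK LD1_c3 LD2_c1 LD3_c0)) :=
  Lgr Lrot26 (Lpr_ff (f453278 IH) (Lpe (K13.f227482 IH) (Lpr_gt (K12.f34714 IH) (Lpn (LP (LK LD1_c3 LD2_c1 LD3_c0))))))
theorem f453286 : Led Lsl_af (LP (LK LD1_c1 LD2_c22 LD3_c11)) = (LP (LK LD1_c1 LD2_c26 LD3_c20)) :=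
  Lgr Lrot117 (Lpr_dt (K11.f211033 IH) (Lpr_at (f453282 IH) (Lpr_dt (K12.f27268 IH) (Lpn (LP (LK LD1_c1 LD2_c26 LD3_c20))))))
theorem f453288 : Led Lsl_at (LP (LK LD1_c2 LD2_c26 LD3_c21)) = (LP (LK LD1_c3 LD2_c1 LD3_c1)) :=
  Lgr Lrot80 (Lpe (K12.f211663 IH) (Lpr_af (f453286 IH) (Lpe (K18.f27269 IH) (Lpn (LP (LK LD1_c3 LD2_c1 LD3_c1))))))
theorem f453314 : Led Lsl_af (LP (LK LD1_c2 LD2_c26 LD3_c21)) = (LP (LK LD1_c3 LD2_c1 LD3_c1)) :=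
  Lgr Lrot0 (Lpr_at (f453288 IH) (Lpn (LP (LK LD1_c3 LD2_c1 LD3_c1))))
theorem f453317 : Led Lsl_ft (LP (LK LD1_c2 LD2_c26 LD3_c22)) = (LP (LK LD1_c3 LD2_c1 LD3_c1)) :=
  Lgr Lrot2 (Lpr_gt (K18.f175486 IH) (Lpr_gt (K12.f175485 IH) (Lpr_af (f453314 IH) (Lpn (LP (LK LD1_c3 LD2_c1 LD3_c1))))))
theorem f272448 : Led Lsl_bt (LP (LK LD1_c3 LD2_c1 LD3_c1)) = (LP (LK LD1_c3 LD2_c1 LD3_c1)) :=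
  Lgr Lrot119 (Lpe (K18.f34720 IH) (Lpr_bf (K31.f272442 IH) (Lpe (K18.f27269 IH) (Lpn (LP (LK LD1_c3 LD2_c1 LD3_c1))))))
theorem f272450 : Led Lsl_bf (LP (LK LD1_c2 LD2_c26 LD3_c22)) = (LP (LK LD1_c2 LD2_c26 LD3_c22)) :=
  Lgr Lrot93 (Lpr_dt (K18.f225581 IH) (Lpr_bt (f272448 IH) (Lpe (K18.f225573 IH) (Lpn (LP (LK LD1_c2 LD2_c26 LD3_c22))))))
theorem f453319 : Led Lsl_ff (LP (LK LD1_c2 LD2_c26 LD3_c22)) = (LP (LK LD1_c3 LD2_c1 LD3_c1)) :=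
  Lgr Lrot25 (Lpe (f272450 IH) (Lpr_ft (f453317 IH) (Lpr_bt (f272448 IH) (Lpn (LP (LK LD1_c3 LD2_c1 LD3_c1))))))
theorem f538868 : Led Lsl_af (LP (LK LD1_c2 LD2_c24 LD3_c14)) = (LP (LK LD1_c2 LD2_c26 LD3_c22)) :=
  Lgr Lrot109 (Lpr_cf (K8.f2998 IH) (Lpe (f3007 IH) (Lpe (f3008 IH) (Lpe (f30382 IH) (Lpe (f30017 IH) (Lpe (f30038 IH) (Lpr_cf (f538856 IH) (Lpr_df (K18.f225573 IH) (Lpe (f453319 IH) (Lpn (LP (LK LD1_c2 LD2_c26 LD3_c22))))))))))))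
theorem f272452 : Led Lsl_gf (LP (LK LD1_c2 LD2_c26 LD3_c23)) = (LP (LK LD1_c3 LD2_c1 LD3_c1)) :=
  Lgr Lrot124 (Lpe (K19.f175487 IH) (Lpr_ct (K10.f175490 IH) (Lpe (K24.f268637 IH) (Lpe (K10.f20225 IH) (Lpe (K10.f198236 IH) (Lpr_gt (K10.f80922 IH) (Lpr_ct (K10.f80980 IH) (Lpr_gt (K13.f181718 IH) (Lpe (K18.f272389 IH) (Lpr_bt (f272448 IH) (Lpn (LP (LK LD1_c3 LD2_c1 LD3_c1)))))))))))))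
theorem f538870 : Led Lsl_gf (LP (LK LD1_c2 LD2_c24 LD3_c14)) = (LP (LK LD1_c2 LD2_c26 LD3_c23)) :=
  Lgr Lrot76 (Lpr_af (f538868 IH) (Lpr_ff (f453319 IH) (Lpe (f272452 IH) (Lpn (LP (LK LD1_c2 LD2_c26 LD3_c23))))))
theorem f181737 : Led Lsl_bt (LP (LK LD1_c2 LD2_c8 LD3_c52)) = (LP (LK LD1_c1 LD2_c1 LD3_c38)) :=
  Lre_b IH (LK LD1_c2 LD2_c8 LD3_c52) (LK LD1_c1 LD2_c1 LD3_c38) Lrfl Lrfl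
theorem f176998 : Led Lsl_et (LP (LK LD1_c1 LD2_c19 LD3_c38)) = (LP (LK LD1_c0 LD2_c38 LD3_c17)) :=
  Lgr Lrot158 (Lpe (K16.f60158 IH) (Lpr_ef (K12.f176994 IH) (Lpe (K10.f24429 IH) (Lpn (LP (LK LD1_c0 LD2_c38 LD3_c17))))))
theorem f176898 : Led Lsl_dt (LP (LK LD1_c1 LD2_c19 LD3_c38)) = (LP (LK LD1_c2 LD2_c46 LD3_c30)) :=
  Lre_d IH (LK LD1_c1 LD2_c19 LD3_c38) (LK LD1_c2 LD2_c46 LD3_c30) Lrfl Lrfl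
theorem f193988 : Led Lsl_gt (LP (LK LD1_c2 LD2_c46 LD3_c30)) = (LP (LK LD1_c3 LD2_c0 LD3_c56)) :=
  Lgr Lrot112 (Lpe (f176898 IH) (Lpr_et (f176998 IH) (Lpe (K10.f71452 IH) (Lpr_ef (K2.f71225 IH) (Lpr_dt (K9.f71280 IH) (Lpr_gf (K10.f186502 IH) (Lpe (K10.f185098 IH) (Lpe (K10.f185133 IH) (Lpr_ef (K10.f193979 IH) (Lpr_dt (K10.f60128 IH) (Lpn (LP (LK LD1_c3 LD2_c0 LD3_c56)))))))))))))
theorem f186504 : Led Lsl_gf (LP (LK LD1_c1 LD2_c19 LD3_c38)) = (LP (LK LD1_c0 LD2_c36 LD3_c61)) :=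
  Lgr Lrot141 (Lpr_ef (K16.f176992 IH) (Lpr_dt (K10.f24480 IH) (Lpr_gt (K10.f186495 IH) (Lpe (K10.f178995 IH) (Lpr_et (K10.f174619 IH) (Lpe (K9.f178952 IH) (Lpr_dt (K9.f178883 IH) (Lpr_gt (K9.f174128 IH) (Lpe (K9.f68581 IH) (Lpr_et (K10.f68633 IH) (Lpn (LP (LK LD1_c0 LD2_c36 LD3_c61)))))))))))))
theorem f193998 : Led Lsl_gt (LP (LK LD1_c1 LD2_c28 LD3_c54)) = (LP (LK LD1_c0 LD2_c54 LD3_c55)) :=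
  Lgr Lrot49 (Lpe (K16.f186485 IH) (Lpe (K10.f161782 IH) (Lpr_cf (K10.f174959 IH) (Lpe (f186504 IH) (Lpr_dt (f176898 IH) (Lpr_gt (f193988 IH) (Lpr_dt (K16.f60110 IH) (Lpe (K10.f193972 IH) (Lpe (K15.f193779 IH) (Lpn (LP (LK LD1_c0 LD2_c54 LD3_c55))))))))))))
theorem f172280 : Led Lsl_gt (LP (LK LD1_c1 LD2_c19 LD3_c33)) = (LP (LK LD1_c0 LD2_c36 LD3_c43)) :=
  Lre_g IH (LK LD1_c1 LD2_c19 LD3_c33) (LK LD1_c0 LD2_c36 LD3_c43) Lrfl Lrfl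
theorem f194007 : Led Lsl_ct (LP (LK LD1_c1 LD2_c28 LD3_c54)) = (LP (LK LD1_c1 LD2_c19 LD3_c33)) :=
  Lgr Lrot8 (Lpr_gt (f193998 IH) (Lpr_dt (K15.f193779 IH) (Lpr_gt (K10.f60907 IH) (Lpe (K1.f60901 IH) (Lpr_cf (K17.f73147 IH) (Lpe (K17.f73149 IH) (Lpr_gf (K9.f172276 IH) (Lpe (K9.f172152 IH) (Lpe (f172280 IH) (Lpn (LP (LK LD1_c1 LD2_c19 LD3_c33))))))))))))
theorem f22416 : Led Lsl_ct (LP (LK LD1_c0 LD2_c16 LD3_c25)) = (LP (LK LD1_c0 LD2_c36 LD3_c43)) :=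
  Lre_c IH (LK LD1_c0 LD2_c16 LD3_c25) (LK LD1_c0 LD2_c36 LD3_c43) Lrfl Lrfl
theorem f174933 : Led Lsl_bt (LP (LK LD1_c0 LD2_c16 LD3_c25)) = (LP (LK LD1_c0 LD2_c16 LD3_c25)) :=
  Lgr Lrot119 (Lpe (K9.f60172 IH) (Lpr_bf (K9.f174922 IH) (Lpe (K9.f9457 IH) (Lpn (LP (LK LD1_c0 LD2_c16 LD3_c25))))))
theorem f177026 : Led Lsl_ct (LP (LK LD1_c1 LD2_c19 LD3_c37)) = (LP (LK LD1_c2 LD2_c46 LD3_c29)) :=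
  Lre_c IH (LK LD1_c1 LD2_c19 LD3_c37) (LK LD1_c2 LD2_c46 LD3_c29) Lrfl Lrfl
theorem f268639 : Led Lsl_gt (LP (LK LD1_c2 LD2_c46 LD3_c29)) = (LP (LK LD1_c4 LD2_c23 LD3_c11)) :=
  Lgr Lrot65 (Lpe (f177026 IH) (Lpr_bt (K12.f176989 IH) (Lpe (K9.f22412 IH) (Lpe (f174933 IH) (Lpr_ct (f22416 IH) (Lpe (f172280 IH) (Lpe (f194007 IH) (Lpr_gf (K16.f268633 IH) (Lpe (K10.f175493 IH) (Lpr_ct (K10.f181597 IH) (Lpn (LP (LK LD1_c4 LD2_c23 LD3_c11)))))))))))))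
theorem f538882 : Led Lsl_bt (LP (LK LD1_c4 LD2_c32 LD3_c8)) = (LP (LK LD1_c2 LD2_c46 LD3_c29)) :=
  Lgr Lrot130 (Lpr_ct (K31.f181781 IH) (Lpe (K31.f173368 IH) (Lpe (K16.f181410 IH) (Lpr_bt (f181737 IH) (Lpe (K10.f193672 IH) (Lpe (K8.f2969 IH) (Lpe (K8.f2998 IH) (Lpr_gf (f538870 IH) (Lpr_cf (K10.f181594 IH) (Lpe (f268639 IH) (Lpn (LP (LK LD1_c2 LD2_c46 LD3_c29)))))))))))))
theorem f538892 : (LP (LK LD1_c2 LD2_c13 LD3_c7)) = v1475 :=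
  (Llr Lrot97 (Lpr_ct (K31.f181777 IH) (Lpr_bt (f538882 IH) (Lpr_ct (K13.f177015 IH) (Lpr_bt (K12.f176989 IH) (Lpr_ct (K16.f60158 IH) (Lpr_bt (f495747 IH) (Lpn v1475)))))))).symm
theorem f541557 : Led Lsl_gt (LP (LK LD1_c2 LD2_c49 LD3_c7)) = (LP (LK LD1_c1 LD2_c56 LD3_c9)) :=
  Lgr Lrot137 (Lpe (f72981 IH) (Lpr_dt (K4.f72996 IH) (Lpe (f157166 IH) (Lpe (K7.f141270 IH) (Lpr_et (f157174 IH) (Lpqs (f541554 IH) (Lpe (f500401 IH) (Lpr_ef (f495749 IH) (Lpq (f538892 IH) (Lpr_dt (K31.f173369 IH) (Lpr_gf (K31.f407062 IH) (Lpe (K18.f174593 IH) (Lpn (LP (LK LD1_c1 LD2_c56 LD3_c9)))))))))))))))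
theorem f60651 : Led Lsl_ct (LP (LK LD1_c5 LD2_c46 LD3_c25)) = (LP (LK LD1_c2 LD2_c49 LD3_c7)) :=
  Lre_c IH (LK LD1_c5 LD2_c46 LD3_c25) (LK LD1_c2 LD2_c49 LD3_c7) Lrfl Lrfl
theorem f173321 : Led Lsl_et (LP (LK LD1_c1 LD2_c56 LD3_c9)) = (LP (LK LD1_c3 LD2_c58 LD3_c51)) :=
  Lre_e IH (LK LD1_c1 LD2_c56 LD3_c9) (LK LD1_c3 LD2_c58 LD3_c51) Lrfl Lrfl
theorem f173322 : Led Lsl_et (LP (LK LD1_c4 LD2_c22 LD3_c33)) = (LP (LK LD1_c2 LD2_c8 LD3_c42)) :=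
  Lre_e IH (LK LD1_c4 LD2_c22 LD3_c33) (LK LD1_c2 LD2_c8 LD3_c42) Lrfl Lrfl
theorem f173323 : Led Lsl_cf (LP (LK LD1_c1 LD2_c56 LD3_c9)) = (LP (LK LD1_c2 LD2_c8 LD3_c42)) :=
  Lgr Lrot39 (Lpr_et (f173321 IH) (Lpr_ct (K30.f173300 IH) (Lpr_et (f173322 IH) (Lpn (LP (LK LD1_c2 LD2_c8 LD3_c42))))))
theorem f541561 : Led Lsl_gf (LP (LK LD1_c6 LD2_c14 LD3_c16)) = (LP (LK LD1_c3 LD2_c58 LD3_c52)) :=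
  Lgr Lrot124 (Lpr_bf (K2.f60649 IH) (Lpr_ct (f60651 IH) (Lpr_gt (f541557 IH) (Lpr_cf (f173323 IH) (Lpr_bt (K18.f173272 IH) (Lpr_gt (K12.f225024 IH) (Lpr_ct (K12.f53106 IH) (Lpe (K12.f224990 IH) (Lpe (K12.f173351 IH) (Lpr_bt (K30.f176031 IH) (Lpn (LP (LK LD1_c3 LD2_c58 LD3_c52)))))))))))))
theorem f60695 : Led Lsl_at (LP (LK LD1_c6 LD2_c14 LD3_c16)) = (LP (LK LD1_c3 LD2_c4 LD3_c3)) :=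
  Lre_a IH (LK LD1_c6 LD2_c14 LD3_c16) (LK LD1_c3 LD2_c4 LD3_c3) Lrfl Lrfl
theorem f60785 : Led Lsl_at (LP (LK LD1_c1 LD2_c28 LD3_c27)) = (LP (LK LD1_c3 LD2_c4 LD3_c46)) :=
  Lre_a IH (LK LD1_c1 LD2_c28 LD3_c27) (LK LD1_c3 LD2_c4 LD3_c46) Lrfl Lrfl
theorem f60786 : Led Lsl_cf (LP (LK LD1_c6 LD2_c14 LD3_c16)) = (LP (LK LD1_c3 LD2_c4 LD3_c46)) :=
  Lgr Lrot1 (Lpr_at (f60695 IH) (Lpr_ct (K2.f60470 IH) (Lpr_at (f60785 IH) (Lpn (LP (LK LD1_c3 LD2_c4 LD3_c46))))))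
theorem f165148 : Led Lsl_gt (LP (LK LD1_c2 LD2_c44 LD3_c41)) = (LP (LK LD1_c1 LD2_c18 LD3_c41)) :=
  Lre_g IH (LK LD1_c2 LD2_c44 LD3_c41) (LK LD1_c1 LD2_c18 LD3_c41) Lrfl Lrfl
theorem f289410 : Led Lsl_ct (LP (LK LD1_c5 LD2_c37 LD3_c28)) = (LP (LK LD1_c2 LD2_c44 LD3_c41)) :=
  Lre_c IH (LK LD1_c5 LD2_c37 LD3_c28) (LK LD1_c2 LD2_c44 LD3_c41) Lrfl Lrfl
theorem f541659 : Led Lsl_gt (LP (LK LD1_c2 LD2_c49 LD3_c23)) = (LP (LK LD1_c5 LD2_c37 LD3_c28)) :=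
  Lgr Lrot82 (Lpe (K2.f72952 IH) (Lpe (f60786 IH) (Lpr_gf (f541561 IH) (Lpe (K30.f169331 IH) (Lpr_bt (K18.f169330 IH) (Lpr_gf (K10.f167784 IH) (Lpe (K18.f169329 IH) (Lpe (K17.f211990 IH) (Lpe (f165148 IH) (Lpe (f289410 IH) (Lpn (LP (LK LD1_c5 LD2_c37 LD3_c28)))))))))))))
theorem f318749 : Led Lsl_gt (LP (LK LD1_c5 LD2_c43 LD3_c26)) = (LP (LK LD1_c9 LD2_c45 LD3_c38)) :=
  Lre_g IH (LK LD1_c5 LD2_c43 LD3_c26) (LK LD1_c9 LD2_c45 LD3_c38) Lrfl Lrfl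
theorem f381215 : Led Lsl_gt (LP (LK LD1_c9 LD2_c45 LD3_c38)) = (LP (LK LD1_c5 LD2_c42 LD3_c8)) :=
  Lgr Lrot46 (Lpe (f318749 IH) (Lpr_ft (K27.f381195 IH) (Lpr_at (K27.f174277 IH) (Lpn (LP (LK LD1_c5 LD2_c42 LD3_c8))))))
theorem f381217 : Led Lsl_ct (LP (LK LD1_c4 LD2_c57 LD3_c20)) = (LP (LK LD1_c9 LD2_c45 LD3_c38)) :=
  Lre_c IH (LK LD1_c4 LD2_c57 LD3_c20) (LK LD1_c9 LD2_c45 LD3_c38) Lrfl Lrfl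
theorem f541663 : Led Lsl_gt (LP (LK LD1_c5 LD2_c47 LD3_c2)) = (LP (LK LD1_c4 LD2_c57 LD3_c20)) :=
  Lgr Lrot9 (Lpe (K2.f72853 IH) (Lpr_gt (f541659 IH) (Lpr_ct (f289410 IH) (Lpr_gt (f165148 IH) (Lpe (K18.f289399 IH) (Lpr_df (K27.f178950 IH) (Lpe (K27.f174272 IH) (Lpe (f381215 IH) (Lpe (f381217 IH) (Lpn (LP (LK LD1_c4 LD2_c57 LD3_c20))))))))))))
theorem f172451 : Led Lsl_dt (LP (LK LD1_c2 LD2_c26 LD3_c34)) = (LP (LK LD1_c4 LD2_c57 LD3_c20)) :=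
  Lre_d IH (LK LD1_c2 LD2_c26 LD3_c34) (LK LD1_c4 LD2_c57 LD3_c20) Lrfl Lrfl
theorem f541668 : Led Lsl_et (LP (LK LD1_c2 LD2_c26 LD3_c34)) = (LP (LK LD1_c4 LD2_c57 LD3_c21)) :=
  Lre_e IH (LK LD1_c2 LD2_c26 LD3_c34) (LK LD1_c4 LD2_c57 LD3_c21) Lrfl Lrfl
theorem f541669 : Led Lsl_gf (LP (LK LD1_c2 LD2_c30 LD3_c53)) = (LP (LK LD1_c4 LD2_c57 LD3_c21)) :=
  Lgr Lrot138 (Lpe (K32.f68556 IH) (Lpr_gt (K32.f428070 IH) (Lpe (K8.f56025 IH) (Lpr_et (K32.f56024 IH) (Lpr_gt (K4.f72839 IH) (Lpe (K2.f72852 IH) (Lpr_dt (K2.f72853 IH) (Lpr_gt (f541663 IH) (Lpe (f172451 IH) (Lpr_et (f541668 IH) (Lpn (LP (LK LD1_c4 LD2_c57 LD3_c21)))))))))))))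
theorem f185809 : Led Lsl_bt (LP (LK LD1_c1 LD2_c13 LD3_c49)) = (LP (LK LD1_c2 LD2_c33 LD3_c40)) :=
  Lre_b IH (LK LD1_c1 LD2_c13 LD3_c49) (LK LD1_c2 LD2_c33 LD3_c40) Lrfl Lrfl
theorem f242750 : Led Lsl_cf (LP (LK LD1_c2 LD2_c30 LD3_c53)) = (LP (LK LD1_c2 LD2_c33 LD3_c40)) :=
  Lgr Lrot97 (Lpr_bt (K27.f68543 IH) (Lpr_ct (K18.f242722 IH) (Lpe (K13.f242653 IH) (Lpr_ct (K13.f185776 IH) (Lpr_bt (f185809 IH) (Lpn (LP (LK LD1_c2 LD2_c33 LD3_c40))))))))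
theorem f185773 : Led Lsl_bt (LP (LK LD1_c2 LD2_c33 LD3_c40)) = (LP (LK LD1_c1 LD2_c13 LD3_c49)) :=
  Lre_b IH (LK LD1_c2 LD2_c33 LD3_c40) (LK LD1_c1 LD2_c13 LD3_c49) Lrfl Lrfl
theorem f301887 : Led Lsl_bt (LP (LK LD1_c1 LD2_c19 LD3_c44)) = (LP (LK LD1_c2 LD2_c46 LD3_c40)) :=
  Lre_b IH (LK LD1_c1 LD2_c19 LD3_c44) (LK LD1_c2 LD2_c46 LD3_c40) Lrfl Lrfl
theorem f541671 : Led Lsl_ct (LP (LK LD1_c2 LD2_c26 LD3_c36)) = (LP (LK LD1_c4 LD2_c57 LD3_c21)) :=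
  Lre_c IH (LK LD1_c2 LD2_c26 LD3_c36) (LK LD1_c4 LD2_c57 LD3_c21) Lrfl Lrfl
theorem f541675 : Led Lsl_bt (LP (LK LD1_c2 LD2_c26 LD3_c36)) = (LP (LK LD1_c4 LD2_c57 LD3_c19)) :=
  Lre_b IH (LK LD1_c2 LD2_c26 LD3_c36) (LK LD1_c4 LD2_c57 LD3_c19) Lrfl Lrfl
theorem f541676 : Led Lsl_gt (LP (LK LD1_c2 LD2_c46 LD3_c40)) = (LP (LK LD1_c4 LD2_c57 LD3_c19)) :=
  Lgr Lrot164 (Lpe (f301887 IH) (Lpe (K18.f301891 IH) (Lpr_gf (K13.f212010 IH) (Lpr_cf (K16.f175532 IH) (Lpr_gf (K15.f185832 IH) (Lpe (f185773 IH) (Lpe (f242750 IH) (Lpr_gf (f541669 IH) (Lpe (f541671 IH) (Lpr_bt (f541675 IH) (Lpn (LP (LK LD1_c4 LD2_c57 LD3_c19)))))))))))))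
theorem f301893 : Led Lsl_bt (LP (LK LD1_c2 LD2_c46 LD3_c40)) = (LP (LK LD1_c1 LD2_c19 LD3_c44)) :=
  Lre_b IH (LK LD1_c2 LD2_c46 LD3_c40) (LK LD1_c1 LD2_c19 LD3_c44) Lrfl Lrfl

end

end K35

end

end Cfsg.Agent.Helper28.S1692
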