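import Cfsg.Agent.Lib.Helper28.S1692.Seeds35

set_option autoImplicit false
set_option maxRecDepth 100000
set_option linter.all false

namespace Cfsg.Agent.Helper28.S1692

open Cfsg.Agent.Helper28
open Cfsg.Spor.ON (Gen)

noncomputable section

namespace K36
abbrev LD1_c0 := D1.c0
abbrev LD1_c1 := D1.c1
abbrev LD1_c2 := D1.c2
abbrev LD1_c3 := D1.c3
abbrev LD1_c4 := D1.c4
abbrev LD1_c5 := D1.c5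
abbrev LD1_c6 := D1.c6
abbrev LD1_c7 := D1.c7
abbrev LD1_c8 := D1.c8
abbrev LD1_c9 := D1.c9
abbrev LD1_c10 := D1.c10
abbrev LD1_c11 := D1.c11
abbrev LD1_c12 := D1.c12
abbrev LD1_c13 := D1.c13
abbrev LD1_c14 := D1.c14
abbrev LD1_c15 := D1.c15
abbrev LD1_c16 := D1.c16
abbrev LD1_c17 := D1.c17
abbrev LD1_c18 := D1.c18
abbrev LD1_c19 := D1.c19
abbrev LD1_c20 := D1.c20
abbrev LD1_c21 := D1.c21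
abbrev LD1_c22 := D1.c22
abbrev LD1_c23 := D1.c23
abbrev LD1_c24 := D1.c24
abbrev LD1_c25 := D1.c25
abbrev LD1_c26 := D1.c26
abbrev LD1_c27 := D1.c27
abbrev LD1_c28 := D1.c28
abbrev LD1_c29 := D1.c29
abbrev LD1_c30 := D1.c30
abbrev LD1_c31 := D1.c31
abbrev LD1_c32 := D1.c32
abbrev LD2_c0 := D2.c0
abbrev LD2_c1 := D2.c1
abbrev LD2_c2 := D2.c2
abbrev LD2_c3 := D2.c3
abbrev LD2_c4 := D2.c4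
abbrev LD2_c5 := D2.c5
abbrev LD2_c6 := D2.c6
abbrev LD2_c7 := D2.c7
abbrev LD2_c8 := D2.c8
abbrev LD2_c9 := D2.c9
abbrev LD2_c10 := D2.c10
abbrev LD2_c11 := D2.c11
abbrev LD2_c12 := D2.c12
abbrev LD2_c13 := D2.c13
abbrev LD2_c14 := D2.c14
abbrev LD2_c15 := D2.c15
abbrev LD2_c16 := D2.c16
abbrev LD2_c17 := D2.c17
abbrev LD2_c18 := D2.c18
abbrev LD2_c19 := D2.c19
abbrev LD2_c20 := D2.c20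
abbrev LD2_c21 := D2.c21
abbrev LD2_c22 := D2.c22
abbrev LD2_c23 := D2.c23
abbrev LD2_c24 := D2.c24
abbrev LD2_c25 := D2.c25
abbrev LD2_c26 := D2.c26
abbrev LD2_c27 := D2.c27
abbrev LD2_c28 := D2.c28
abbrev LD2_c29 := D2.c29
abbrev LD2_c30 := D2.c30
abbrev LD2_c31 := D2.c31
abbrev LD2_c32 := D2.c32
abbrev LD2_c33 := D2.c33
abbrev LD2_c34 := D2.c34
abbrev LD2_c35 := D2.c35
abbrev LD2_c36 := D2.c36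
abbrev LD2_c37 := D2.c37
abbrev LD2_c38 := D2.c38
abbrev LD2_c39 := D2.c39
abbrev LD2_c40 := D2.c40
abbrev LD2_c41 := D2.c41
abbrev LD2_c42 := D2.c42
abbrev LD2_c43 := D2.c43
abbrev LD2_c44 := D2.c44
abbrev LD2_c45 := D2.c45
abbrev LD2_c46 := D2.c46
abbrev LD2_c47 := D2.c47
abbrev LD2_c48 := D2.c48
abbrev LD2_c49 := D2.c49
abbrev LD2_c50 := D2.c50
abbrev LD2_c51 := D2.c51
abbrev LD2_c52 := D2.c52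
abbrev LD2_c53 := D2.c53
abbrev LD2_c54 := D2.c54
abbrev LD2_c55 := D2.c55
abbrev LD2_c56 := D2.c56
abbrev LD2_c57 := D2.c57
abbrev LD2_c58 := D2.c58
abbrev LD2_c59 := D2.c59
abbrev LD3_c0 := D3.c0
abbrev LD3_c1 := D3.c1
abbrev LD3_c2 := D3.c2
abbrev LD3_c3 := D3.c3
abbrev LD3_c4 := D3.c4
abbrev LD3_c5 := D3.c5
abbrev LD3_c6 := D3.c6
abbrev LD3_c7 := D3.c7
abbrev LD3_c8 := D3.c8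
abbrev LD3_c9 := D3.c9
abbrev LD3_c10 := D3.c10
abbrev LD3_c11 := D3.c11
abbrev LD3_c12 := D3.c12
abbrev LD3_c13 := D3.c13
abbrev LD3_c14 := D3.c14
abbrev LD3_c15 := D3.c15
abbrev LD3_c16 := D3.c16
abbrev LD3_c17 := D3.c17
abbrev LD3_c18 := D3.c18
abbrev LD3_c19 := D3.c19
abbrev LD3_c20 := D3.c20
abbrev LD3_c21 := D3.c21
abbrev LD3_c22 := D3.c22
abbrev LD3_c23 := D3.c23
abbrev LD3_c24 := D3.c24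
abbrev LD3_c25 := D3.c25
abbrev LD3_c26 := D3.c26
abbrev LD3_c27 := D3.c27
abbrev LD3_c28 := D3.c28
abbrev LD3_c29 := D3.c29
abbrev LD3_c30 := D3.c30
abbrev LD3_c31 := D3.c31
abbrev LD3_c32 := D3.c32
abbrev LD3_c33 := D3.c33
abbrev LD3_c34 := D3.c34
abbrev LD3_c35 := D3.c35
abbrev LD3_c36 := D3.c36
abbrev LD3_c37 := D3.c37
abbrev LD3_c38 := D3.c38
abbrev LD3_c39 := D3.c39
abbrev LD3_c40 := D3.c40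
abbrev LD3_c41 := D3.c41
abbrev LD3_c42 := D3.c42
abbrev LD3_c43 := D3.c43
abbrev LD3_c44 := D3.c44
abbrev LD3_c45 := D3.c45
abbrev LD3_c46 := D3.c46
abbrev LD3_c47 := D3.c47
abbrev LD3_c48 := D3.c48
abbrev LD3_c49 := D3.c49
abbrev LD3_c50 := D3.c50
abbrev LD3_c51 := D3.c51
abbrev LD3_c52 := D3.c52
abbrev LD3_c53 := D3.c53
abbrev LD3_c54 := D3.c54
abbrev LD3_c55 := D3.c55
abbrev LD3_c56 := D3.c56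
abbrev LD3_c57 := D3.c57
abbrev LD3_c58 := D3.c58
abbrev LD3_c59 := D3.c59
abbrev LD3_c60 := D3.c60
abbrev LD3_c61 := D3.c61
abbrev LG_g := Gen.g
abbrev Lsl_gt : Gen × Bool := sl_gt
alias Lfl_gt := fl_gt
alias Lpr_gt := pr_gt
abbrev Lsl_gf : Gen × Bool := sl_gf
alias Lfl_gf := fl_gf
alias Lpr_gf := pr_gf
alias Lre_g := re_g
alias Leoe_g := eoe_g
abbrev LG_a := Gen.a
abbrev Lsl_at : Gen × Bool := sl_at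
alias Lfl_at := fl_at
alias Lpr_at := pr_at
abbrev Lsl_af : Gen × Bool := sl_af
alias Lfl_af := fl_af
alias Lpr_af := pr_af
alias Lre_a := re_a
alias Leoe_a := eoe_a
abbrev LG_b := Gen.b
abbrev Lsl_bt : Gen × Bool := sl_bt
alias Lfl_bt := fl_bt
alias Lpr_bt := pr_bt
abbrev Lsl_bf : Gen × Bool := sl_bf
alias Lfl_bf := fl_bf
alias Lpr_bf := pr_bf
alias Lre_b := re_b
alias Leoe_b := eoe_b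
abbrev LG_c := Gen.c
abbrev Lsl_ct : Gen × Bool := sl_ct
alias Lfl_ct := fl_ct
alias Lpr_ct := pr_ct
abbrev Lsl_cf : Gen × Bool := sl_cf
alias Lfl_cf := fl_cf
alias Lpr_cf := pr_cf
alias Lre_c := re_c
alias Leoe_c := eoe_c
abbrev LG_d := Gen.d
abbrev Lsl_dt : Gen × Bool := sl_dt
alias Lfl_dt := fl_dt
alias Lpr_dt := pr_dt
abbrev Lsl_df : Gen × Bool := sl_df
alias Lfl_df := fl_df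
alias Lpr_df := pr_df
alias Lre_d := re_d
alias Leoe_d := eoe_d
abbrev LG_e := Gen.e
abbrev Lsl_et : Gen × Bool := sl_et
alias Lfl_et := fl_et
alias Lpr_et := pr_et
abbrev Lsl_ef : Gen × Bool := sl_ef
alias Lfl_ef := fl_ef
alias Lpr_ef := pr_ef
alias Lre_e := re_e
alias Leoe_e := eoe_e
abbrev LG_f := Gen.f
abbrev Lsl_ft : Gen × Bool := sl_ft
alias Lfl_ft := fl_ft
alias Lpr_ft := pr_ft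
abbrev Lsl_ff : Gen × Bool := sl_ff
alias Lfl_ff := fl_ff
alias Lpr_ff := pr_ff
alias Lre_f := re_f
alias Leoe_f := eoe_f
abbrev LK := Pt.mk
abbrev LQ : Type := Qt rels S
abbrev LP (p : Pt) : LQ := P p
abbrev Led (l : Gen × Bool) (c : LQ) : LQ := ed l c
abbrev LEOK (x : Gen) (p : Pt) : Prop := EntryOK rels S fwd inv o plet idx x p
alias Lpe := pe
alias Lpn := pn
alias Lgr := gr
alias Lpq := pq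
alias Lpqs := pqs
alias Llr := lr
alias Leop := eop
alias Lefun := efun
alias Lecon := econ
theorem Lrfl {α : Sort _} {a : α} : a = a := rfl
alias Lrot0 := rot0
alias Lrot1 := rot1
alias Lrot2 := rot2
alias Lrot3 := rot3
alias Lrot4 := rot4
alias Lrot5 := rot5
alias Lrot6 := rot6
alias Lrot7 := rot7
alias Lrot8 := rot8
alias Lrot9 := rot9
alias Lrot10 := rot10
alias Lrot11 := rot11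
alias Lrot12 := rot12
alias Lrot14 := rot14
alias Lrot15 := rot15
alias Lrot17 := rot17
alias Lrot18 := rot18
alias Lrot19 := rot19
alias Lrot20 := rot20
alias Lrot21 := rot21
alias Lrot22 := rot22
alias Lrot23 := rot23
alias Lrot24 := rot24
alias Lrot25 := rot25
alias Lrot26 := rot26
alias Lrot27 := rot27
alias Lrot28 := rot28
alias Lrot29 := rot29
alias Lrot30 := rot30
alias Lrot31 := rot31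
alias Lrot32 := rot32
alias Lrot33 := rot33
alias Lrot34 := rot34
alias Lrot35 := rot35
alias Lrot36 := rot36
alias Lrot38 := rot38
alias Lrot39 := rot39
alias Lrot40 := rot40
alias Lrot41 := rot41
alias Lrot42 := rot42
alias Lrot43 := rot43
alias Lrot44 := rot44
alias Lrot45 := rot45
alias Lrot46 := rot46
alias Lrot47 := rot47
alias Lrot48 := rot48
alias Lrot49 := rot49
alias Lrot50 := rot50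
alias Lrot51 := rot51
alias Lrot52 := rot52
alias Lrot53 := rot53
alias Lrot54 := rot54
alias Lrot55 := rot55
alias Lrot57 := rot57
alias Lrot58 := rot58
alias Lrot59 := rot59
alias Lrot60 := rot60
alias Lrot61 := rot61
alias Lrot62 := rot62
alias Lrot63 := rot63
alias Lrot64 := rot64
alias Lrot65 := rot65
alias Lrot66 := rot66
alias Lrot67 := rot67
alias Lrot68 := rot68
alias Lrot69 := rot69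
alias Lrot70 := rot70
alias Lrot71 := rot71
alias Lrot72 := rot72
alias Lrot73 := rot73
alias Lrot74 := rot74
alias Lrot75 := rot75
alias Lrot76 := rot76
alias Lrot77 := rot77
alias Lrot78 := rot78
alias Lrot79 := rot79
alias Lrot80 := rot80
alias Lrot81 := rot81
alias Lrot82 := rot82
alias Lrot83 := rot83
alias Lrot84 := rot84
alias Lrot85 := rot85
alias Lrot86 := rot86
alias Lrot87 := rot87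
alias Lrot88 := rot88
alias Lrot89 := rot89
alias Lrot90 := rot90
alias Lrot91 := rot91
alias Lrot92 := rot92
alias Lrot93 := rot93
alias Lrot94 := rot94
alias Lrot95 := rot95
alias Lrot96 := rot96
alias Lrot97 := rot97
alias Lrot98 := rot98
alias Lrot99 := rot99
alias Lrot100 := rot100
alias Lrot101 := rot101
alias Lrot102 := rot102
alias Lrot103 := rot103
alias Lrot104 := rot104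
alias Lrot105 := rot105
alias Lrot106 := rot106
alias Lrot107 := rot107
alias Lrot108 := rot108
alias Lrot109 := rot109
alias Lrot110 := rot110
alias Lrot111 := rot111
alias Lrot112 := rot112
alias Lrot113 := rot113
alias Lrot114 := rot114
alias Lrot115 := rot115
alias Lrot116 := rot116
alias Lrot117 := rot117
alias Lrot118 := rot118
alias Lrot119 := rot119
alias Lrot121 := rot121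
alias Lrot122 := rot122
alias Lrot123 := rot123
alias Lrot124 := rot124
alias Lrot125 := rot125
alias Lrot126 := rot126
alias Lrot127 := rot127
alias Lrot128 := rot128
alias Lrot129 := rot129
alias Lrot130 := rot130
alias Lrot131 := rot131
alias Lrot132 := rot132
alias Lrot133 := rot133
alias Lrot134 := rot134
alias Lrot135 := rot135
alias Lrot136 := rot136
alias Lrot138 := rot138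
alias Lrot139 := rot139
alias Lrot140 := rot140
alias Lrot141 := rot141
alias Lrot142 := rot142
alias Lrot143 := rot143
alias Lrot144 := rot144
alias Lrot145 := rot145
alias Lrot146 := rot146
alias Lrot147 := rot147
alias Lrot148 := rot148
alias Lrot149 := rot149
alias Lrot150 := rot150
alias Lrot151 := rot151
alias Lrot152 := rot152
alias Lrot153 := rot153
alias Lrot155 := rot155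
alias Lrot156 := rot156
alias Lrot157 := rot157
alias Lrot158 := rot158
alias Lrot159 := rot159
alias Lrot160 := rot160
alias Lrot161 := rot161
alias Lrot162 := rot162
alias Lrot163 := rot163
alias Lrot164 := rot164
alias Lrot165 := rot165
alias Lrot166 := rot166
alias Lrot167 := rot167
alias Lrot168 := rot168
alias Lrot169 := rot169
alias Lrot170 := rot170
alias Lrot171 := rot171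
alias Lrot172 := rot172
alias Lrot173 := rot173
alias Lrot175 := rot175
alias Lrot176 := rot176
alias Lrot177 := rot177
alias Lrot178 := rot178
alias Lrot180 := rot180
alias Lrot181 := rot181
alias Lrot182 := rot182
alias Lrot183 := rot183
alias Lrot184 := rot184
alias Lrot185 := rot185
alias Lrot186 := rot186
alias Lrot189 := rot189
alias Lrot190 := rot190
alias Lrot191 := rot191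

section
variable (IH : IHT)
include IH

theorem f302030 : Led Lsl_ft (LP (LK LD1_c2 LD2_c33 LD3_c56)) = (LP (LK LD1_c2 LD2_c46 LD3_c40)) :=
  Lgr Lrot75 (Lpe (K16.f61372 IH) (Lpr_ff (K18.f301955 IH) (Lpe (K35.f301893 IH) (Lpn (LP (LK LD1_c2 LD2_c46 LD3_c40))))))
theorem f302038 : Led Lsl_ff (LP (LK LD1_c2 LD2_c33 LD3_c56)) = (LP (LK LD1_c2 LD2_c46 LD3_c40)) :=
  Lgr Lrot3 (Lpr_ft (f302030 IH) (Lpn (LP (LK LD1_c2 LD2_c46 LD3_c40))))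
theorem f61391 : Led Lsl_at (LP (LK LD1_c2 LD2_c33 LD3_c56)) = (LP (LK LD1_c5 LD2_c13 LD3_c60)) :=
  Lre_a IH (LK LD1_c2 LD2_c33 LD3_c56) (LK LD1_c5 LD2_c13 LD3_c60) Lrfl Lrfl
theorem f541698 : Led Lsl_gf (LP (LK LD1_c5 LD2_c13 LD3_c60)) = (LP (LK LD1_c4 LD2_c57 LD3_c19)) :=
  Lgr Lrot76 (Lpe (f61391 IH) (Lpr_ff (f302038 IH) (Lpr_gt (K35.f541676 IH) (Lpn (LP (LK LD1_c4 LD2_c57 LD3_c19))))))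
theorem f61304 : Led Lsl_et (LP (LK LD1_c0 LD2_c34 LD3_c16)) = (LP (LK LD1_c1 LD2_c13 LD3_c57)) :=
  Lre_e IH (LK LD1_c0 LD2_c34 LD3_c16) (LK LD1_c1 LD2_c13 LD3_c57) Lrfl Lrfl
theorem f61306 : Led Lsl_et (LP (LK LD1_c2 LD2_c33 LD3_c57)) = (LP (LK LD1_c1 LD2_c13 LD3_c56)) :=
  Lre_e IH (LK LD1_c2 LD2_c33 LD3_c57) (LK LD1_c1 LD2_c13 LD3_c56) Lrfl Lrfl
theorem f61307 : Led Lsl_et (LP (LK LD1_c1 LD2_c21 LD3_c24)) = (LP (LK LD1_c2 LD2_c50 LD3_c51)) :=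
  Lre_e IH (LK LD1_c1 LD2_c21 LD3_c24) (LK LD1_c2 LD2_c50 LD3_c51) Lrfl Lrfl
theorem f61308 : Led Lsl_df (LP (LK LD1_c2 LD2_c33 LD3_c57)) = (LP (LK LD1_c2 LD2_c50 LD3_c51)) :=
  Lgr Lrot70 (Lpr_et (f61306 IH) (Lpr_dt (K12.f61305 IH) (Lpr_et (f61304 IH) (Lpr_dt (K18.f61295 IH) (Lpr_et (f61307 IH) (Lpn (LP (LK LD1_c2 LD2_c50 LD3_c51))))))))
theorem f61323 : Led Lsl_dt (LP (LK LD1_c2 LD2_c33 LD3_c57)) = (LP (LK LD1_c2 LD2_c50 LD3_c51)) :=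
  Lgr Lrot42 (Lpr_df (f61308 IH) (Lpn (LP (LK LD1_c2 LD2_c50 LD3_c51))))
theorem f61335 : Led Lsl_bt (LP (LK LD1_c5 LD2_c14 LD3_c4)) = (LP (LK LD1_c2 LD2_c33 LD3_c57)) :=
  Lre_b IH (LK LD1_c5 LD2_c14 LD3_c4) (LK LD1_c2 LD2_c33 LD3_c57) Lrfl Lrfl
theorem f61336 : Led Lsl_bt (LP (LK LD1_c2 LD2_c50 LD3_c51)) = (LP (LK LD1_c5 LD2_c49 LD3_c29)) :=
  Lre_b IH (LK LD1_c2 LD2_c50 LD3_c51) (LK LD1_c5 LD2_c49 LD3_c29) Lrfl Lrfl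
theorem f61337 : Led Lsl_df (LP (LK LD1_c5 LD2_c14 LD3_c4)) = (LP (LK LD1_c5 LD2_c49 LD3_c29)) :=
  Lgr Lrot12 (Lpr_bt (f61335 IH) (Lpr_dt (f61323 IH) (Lpr_bt (f61336 IH) (Lpn (LP (LK LD1_c5 LD2_c49 LD3_c29))))))
theorem f61349 : Led Lsl_et (LP (LK LD1_c5 LD2_c14 LD3_c4)) = (LP (LK LD1_c2 LD2_c33 LD3_c55)) :=
  Lre_e IH (LK LD1_c5 LD2_c14 LD3_c4) (LK LD1_c2 LD2_c33 LD3_c55) Lrfl Lrfl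
theorem f61350 : Led Lsl_dt (LP (LK LD1_c2 LD2_c33 LD3_c55)) = (LP (LK LD1_c1 LD2_c13 LD3_c55)) :=
  Lre_d IH (LK LD1_c2 LD2_c33 LD3_c55) (LK LD1_c1 LD2_c13 LD3_c55) Lrfl Lrfl
theorem f61351 : Led Lsl_et (LP (LK LD1_c1 LD2_c13 LD3_c55)) = (LP (LK LD1_c2 LD2_c33 LD3_c56)) :=
  Lre_e IH (LK LD1_c1 LD2_c13 LD3_c55) (LK LD1_c2 LD2_c33 LD3_c56) Lrfl Lrfl
theorem f61352 : Led Lsl_et (LP (LK LD1_c2 LD2_c50 LD3_c49)) = (LP (LK LD1_c5 LD2_c49 LD3_c29)) :=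
  Lre_e IH (LK LD1_c2 LD2_c50 LD3_c49) (LK LD1_c5 LD2_c49 LD3_c29) Lrfl Lrfl
theorem f61353 : Led Lsl_dt (LP (LK LD1_c2 LD2_c33 LD3_c56)) = (LP (LK LD1_c2 LD2_c50 LD3_c49)) :=
  Lgr Lrot77 (Lpe (f61351 IH) (Lpe (f61350 IH) (Lpe (f61349 IH) (Lpr_df (f61337 IH) (Lpe (f61352 IH) (Lpn (LP (LK LD1_c2 LD2_c50 LD3_c49))))))))
theorem f61368 : Led Lsl_at (LP (LK LD1_c5 LD2_c13 LD3_c60)) = (LP (LK LD1_c2 LD2_c33 LD3_c56)) :=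
  Lre_a IH (LK LD1_c5 LD2_c13 LD3_c60) (LK LD1_c2 LD2_c33 LD3_c56) Lrfl Lrfl
theorem f61369 : Led Lsl_at (LP (LK LD1_c2 LD2_c50 LD3_c49)) = (LP (LK LD1_c5 LD2_c49 LD3_c27)) :=
  Lre_a IH (LK LD1_c2 LD2_c50 LD3_c49) (LK LD1_c5 LD2_c49 LD3_c27) Lrfl Lrfl
theorem f61370 : Led Lsl_df (LP (LK LD1_c5 LD2_c13 LD3_c60)) = (LP (LK LD1_c5 LD2_c49 LD3_c27)) :=
  Lgr Lrot18 (Lpr_at (f61368 IH) (Lpr_dt (f61353 IH) (Lpr_at (f61369 IH) (Lpn (LP (LK LD1_c5 LD2_c49 LD3_c27))))))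
theorem f61384 : Led Lsl_dt (LP (LK LD1_c5 LD2_c13 LD3_c60)) = (LP (LK LD1_c5 LD2_c49 LD3_c27)) :=
  Lgr Lrot42 (Lpr_df (f61370 IH) (Lpn (LP (LK LD1_c5 LD2_c49 LD3_c27))))
theorem f242756 : Led Lsl_bt (LP (LK LD1_c0 LD2_c33 LD3_c34)) = (LP (LK LD1_c1 LD2_c12 LD3_c27)) :=
  Lre_b IH (LK LD1_c0 LD2_c33 LD3_c34) (LK LD1_c1 LD2_c12 LD3_c27) Lrfl Lrfl
theorem f185092 : Led Lsl_ct (LP (LK LD1_c1 LD2_c13 LD3_c52)) = (LP (LK LD1_c2 LD2_c33 LD3_c43)) :=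
  Lre_c IH (LK LD1_c1 LD2_c13 LD3_c52) (LK LD1_c2 LD2_c33 LD3_c43) Lrfl Lrfl
theorem f185093 : Led Lsl_gt (LP (LK LD1_c5 LD2_c13 LD3_c38)) = (LP (LK LD1_c2 LD2_c33 LD3_c43)) :=
  Lre_g IH (LK LD1_c5 LD2_c13 LD3_c38) (LK LD1_c2 LD2_c33 LD3_c43) Lrfl Lrfl
theorem f138929 : Led Lsl_bt (LP (LK LD1_c4 LD2_c58 LD3_c27)) = (LP (LK LD1_c2 LD2_c27 LD3_c15)) :=
  Lre_b IH (LK LD1_c4 LD2_c58 LD3_c27) (LK LD1_c2 LD2_c27 LD3_c15) Lrfl Lrfl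
theorem f427807 : Led Lsl_cf (LP (LK LD1_c5 LD2_c13 LD3_c38)) = (LP (LK LD1_c4 LD2_c58 LD3_c27)) :=
  Lgr Lrot160 (Lpr_gt (f185093 IH) (Lpe (f185092 IH) (Lpr_bt (K19.f185089 IH) (Lpr_gt (K10.f184889 IH) (Lpr_ct (K9.f35186 IH) (Lpr_gt (K10.f28352 IH) (Lpr_cf (K14.f194085 IH) (Lpr_bt (f242756 IH) (Lpr_gt (K32.f427803 IH) (Lpe (f138929 IH) (Lpn (LP (LK LD1_c4 LD2_c58 LD3_c27)))))))))))))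
theorem f138944 : Led Lsl_dt (LP (LK LD1_c9 LD2_c47 LD3_c36)) = (LP (LK LD1_c4 LD2_c58 LD3_c27)) :=
  Lre_d IH (LK LD1_c9 LD2_c47 LD3_c36) (LK LD1_c4 LD2_c58 LD3_c27) Lrfl Lrfl
theorem f185160 : Led Lsl_bt (LP (LK LD1_c2 LD2_c33 LD3_c36)) = (LP (LK LD1_c1 LD2_c13 LD3_c45)) :=
  Lre_b IH (LK LD1_c2 LD2_c33 LD3_c36) (LK LD1_c1 LD2_c13 LD3_c45) Lrfl Lrfl
theorem f185163 : Led Lsl_ct (LP (LK LD1_c2 LD2_c33 LD3_c36)) = (LP (LK LD1_c5 LD2_c13 LD3_c28)) :=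
  Lre_c IH (LK LD1_c2 LD2_c33 LD3_c36) (LK LD1_c5 LD2_c13 LD3_c28) Lrfl Lrfl
theorem f185164 : Led Lsl_gt (LP (LK LD1_c10 LD2_c17 LD3_c11)) = (LP (LK LD1_c5 LD2_c13 LD3_c28)) :=
  Lre_g IH (LK LD1_c10 LD2_c17 LD3_c11) (LK LD1_c5 LD2_c13 LD3_c28) Lrfl Lrfl
theorem f387244 : Led Lsl_bt (LP (LK LD1_c9 LD2_c47 LD3_c36)) = (LP (LK LD1_c4 LD2_c58 LD3_c50)) :=
  Lre_b IH (LK LD1_c9 LD2_c47 LD3_c36) (LK LD1_c4 LD2_c58 LD3_c50) Lrfl Lrfl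
theorem f427597 : Led Lsl_cf (LP (LK LD1_c10 LD2_c17 LD3_c11)) = (LP (LK LD1_c9 LD2_c47 LD3_c36)) :=
  Lgr Lrot160 (Lpr_gt (f185164 IH) (Lpe (f185163 IH) (Lpr_bt (f185160 IH) (Lpe (K10.f185153 IH) (Lpr_ct (K2.f35008 IH) (Lpr_gt (K10.f165826 IH) (Lpr_cf (K9.f177197 IH) (Lpr_bt (K32.f53221 IH) (Lpr_gt (K32.f427591 IH) (Lpe (f387244 IH) (Lpn (LP (LK LD1_c9 LD2_c47 LD3_c36)))))))))))))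
theorem f427599 : Led Lsl_ct (LP (LK LD1_c10 LD2_c17 LD3_c11)) = (LP (LK LD1_c9 LD2_c47 LD3_c36)) :=
  Lgr Lrot59 (Lpr_cf (f427597 IH) (Lpn (LP (LK LD1_c9 LD2_c47 LD3_c36))))
theorem f427609 : Led Lsl_dt (LP (LK LD1_c18 LD2_c42 LD3_c3)) = (LP (LK LD1_c10 LD2_c17 LD3_c11)) :=
  Lre_d IH (LK LD1_c18 LD2_c42 LD3_c3) (LK LD1_c10 LD2_c17 LD3_c11) Lrfl Lrfl
theorem f427601 : Led Lsl_dt (LP (LK LD1_c10 LD2_c17 LD3_c11)) = (LP (LK LD1_c18 LD2_c42 LD3_c3)) :=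
  Lre_d IH (LK LD1_c10 LD2_c17 LD3_c11) (LK LD1_c18 LD2_c42 LD3_c3) Lrfl Lrfl
theorem f138933 : Led Lsl_dt (LP (LK LD1_c4 LD2_c58 LD3_c27)) = (LP (LK LD1_c9 LD2_c47 LD3_c36)) :=
  Lre_d IH (LK LD1_c4 LD2_c58 LD3_c27) (LK LD1_c9 LD2_c47 LD3_c36) Lrfl Lrfl
theorem f138926 : Led Lsl_ft (LP (LK LD1_c4 LD2_c58 LD3_c27)) = (LP (LK LD1_c2 LD2_c27 LD3_c3)) :=
  Lre_f IH (LK LD1_c4 LD2_c58 LD3_c27) (LK LD1_c2 LD2_c27 LD3_c3) Lrfl Lrfl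
theorem f421412 : Led Lsl_ct (LP (LK LD1_c4 LD2_c25 LD3_c42)) = (LP (LK LD1_c2 LD2_c27 LD3_c3)) :=
  Lgr Lrot59 (Lpr_cf (K32.f421407 IH) (Lpn (LP (LK LD1_c2 LD2_c27 LD3_c3))))
theorem f203345 : Led Lsl_ct (LP (LK LD1_c4 LD2_c25 LD3_c49)) = (LP (LK LD1_c2 LD2_c10 LD3_c15)) :=
  Lre_c IH (LK LD1_c4 LD2_c25 LD3_c49) (LK LD1_c2 LD2_c10 LD3_c15) Lrfl Lrfl
theorem f421423 : Led Lsl_af (LP (LK LD1_c4 LD2_c25 LD3_c49)) = (LP (LK LD1_c2 LD2_c27 LD3_c3)) :=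
  Lgr Lrot68 (Lpr_ct (f203345 IH) (Lpr_at (K32.f203300 IH) (Lpr_ct (f421412 IH) (Lpn (LP (LK LD1_c2 LD2_c27 LD3_c3))))))
theorem f421409 : Led Lsl_ct (LP (LK LD1_c2 LD2_c10 LD3_c15)) = (LP (LK LD1_c4 LD2_c25 LD3_c49)) :=
  Lre_c IH (LK LD1_c2 LD2_c10 LD3_c15) (LK LD1_c4 LD2_c25 LD3_c49) Lrfl Lrfl
theorem f421431 : Led Lsl_dt (LP (LK LD1_c4 LD2_c25 LD3_c56)) = (LP (LK LD1_c2 LD2_c10 LD3_c15)) :=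
  Lre_d IH (LK LD1_c4 LD2_c25 LD3_c56) (LK LD1_c2 LD2_c10 LD3_c15) Lrfl Lrfl
theorem f421432 : Led Lsl_ct (LP (LK LD1_c8 LD2_c49 LD3_c14)) = (LP (LK LD1_c4 LD2_c25 LD3_c56)) :=
  Lre_c IH (LK LD1_c8 LD2_c49 LD3_c14) (LK LD1_c4 LD2_c25 LD3_c56) Lrfl Lrfl
theorem f421433 : Led Lsl_dt (LP (LK LD1_c16 LD2_c29 LD3_c43)) = (LP (LK LD1_c8 LD2_c49 LD3_c14)) :=
  Lre_d IH (LK LD1_c16 LD2_c29 LD3_c43) (LK LD1_c8 LD2_c49 LD3_c14) Lrfl Lrfl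
theorem f427607 : Led Lsl_ct (LP (LK LD1_c18 LD2_c42 LD3_c3)) = (LP (LK LD1_c16 LD2_c29 LD3_c43)) :=
  Lgr Lrot41 (Lpe (f427601 IH) (Lpr_cf (f427597 IH) (Lpe (f138933 IH) (Lpr_ft (f138926 IH) (Lpe (f421423 IH) (Lpe (f421409 IH) (Lpe (f421431 IH) (Lpe (f421432 IH) (Lpe (f421433 IH) (Lpn (LP (LK LD1_c16 LD2_c29 LD3_c43))))))))))))
theorem f427611 : Led Lsl_cf (LP (LK LD1_c18 LD2_c42 LD3_c3)) = (LP (LK LD1_c16 LD2_c29 LD3_c43)) :=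
  Lgr Lrot11 (Lpr_ct (f427607 IH) (Lpn (LP (LK LD1_c16 LD2_c29 LD3_c43))))
theorem f427614 : Led Lsl_dt (LP (LK LD1_c8 LD2_c49 LD3_c14)) = (LP (LK LD1_c16 LD2_c29 LD3_c43)) :=
  Lre_d IH (LK LD1_c8 LD2_c49 LD3_c14) (LK LD1_c16 LD2_c29 LD3_c43) Lrfl Lrfl
theorem f427615 : Led Lsl_ct (LP (LK LD1_c4 LD2_c25 LD3_c56)) = (LP (LK LD1_c8 LD2_c49 LD3_c14)) :=
  Lre_c IH (LK LD1_c4 LD2_c25 LD3_c56) (LK LD1_c8 LD2_c49 LD3_c14) Lrfl Lrfl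
theorem f80166 : Led Lsl_dt (LP (LK LD1_c2 LD2_c10 LD3_c15)) = (LP (LK LD1_c4 LD2_c25 LD3_c56)) :=
  Lre_d IH (LK LD1_c2 LD2_c10 LD3_c15) (LK LD1_c4 LD2_c25 LD3_c56) Lrfl Lrfl
theorem f427618 : Led Lsl_ft (LP (LK LD1_c2 LD2_c10 LD3_c15)) = (LP (LK LD1_c4 LD2_c25 LD3_c57)) :=
  Lre_f IH (LK LD1_c2 LD2_c10 LD3_c15) (LK LD1_c4 LD2_c25 LD3_c57) Lrfl Lrfl
theorem f427820 : Led Lsl_af (LP (LK LD1_c5 LD2_c13 LD3_c38)) = (LP (LK LD1_c4 LD2_c25 LD3_c57)) :=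
  Lgr Lrot109 (Lpr_cf (f427807 IH) (Lpe (f138944 IH) (Lpe (f427599 IH) (Lpe (f427609 IH) (Lpr_cf (f427611 IH) (Lpe (f427614 IH) (Lpe (f427615 IH) (Lpe (f80166 IH) (Lpr_ft (f427618 IH) (Lpn (LP (LK LD1_c4 LD2_c25 LD3_c57))))))))))))
theorem f100244 : Led Lsl_gt (LP (LK LD1_c2 LD2_c10 LD3_c15)) = (LP (LK LD1_c4 LD2_c25 LD3_c55)) :=
  Lre_g IH (LK LD1_c2 LD2_c10 LD3_c15) (LK LD1_c4 LD2_c25 LD3_c55) Lrfl Lrfl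
theorem f427822 : Led Lsl_gf (LP (LK LD1_c5 LD2_c13 LD3_c38)) = (LP (LK LD1_c4 LD2_c25 LD3_c55)) :=
  Lgr Lrot76 (Lpr_af (f427820 IH) (Lpe (f427618 IH) (Lpr_gt (f100244 IH) (Lpn (LP (LK LD1_c4 LD2_c25 LD3_c55))))))
theorem f308422 : Led Lsl_at (LP (LK LD1_c5 LD2_c13 LD3_c39)) = (LP (LK LD1_c2 LD2_c33 LD3_c43)) :=
  Lre_a IH (LK LD1_c5 LD2_c13 LD3_c39) (LK LD1_c2 LD2_c33 LD3_c43) Lrfl Lrfl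
theorem f427824 : Led Lsl_ff (LP (LK LD1_c5 LD2_c13 LD3_c39)) = (LP (LK LD1_c4 LD2_c25 LD3_c55)) :=
  Lgr Lrot52 (Lpr_at (f308422 IH) (Lpe (f185093 IH) (Lpr_gf (f427822 IH) (Lpn (LP (LK LD1_c4 LD2_c25 LD3_c55))))))
theorem f308149 : Led Lsl_ft (LP (LK LD1_c2 LD2_c33 LD3_c43)) = (LP (LK LD1_c2 LD2_c30 LD3_c38)) :=
  Lgr Lrot4 (Lpe (f185092 IH) (Lpr_ff (K19.f308143 IH) (Lpe (K19.f166412 IH) (Lpn (LP (LK LD1_c2 LD2_c30 LD3_c38))))))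
theorem f427828 : Led Lsl_at (LP (LK LD1_c2 LD2_c30 LD3_c38)) = (LP (LK LD1_c4 LD2_c25 LD3_c55)) :=
  Lgr Lrot66 (Lpe (f308149 IH) (Lpe (f308422 IH) (Lpr_ff (f427824 IH) (Lpn (LP (LK LD1_c4 LD2_c25 LD3_c55))))))
theorem f427889 : Led Lsl_gt (LP (LK LD1_c2 LD2_c33 LD3_c43)) = (LP (LK LD1_c2 LD2_c10 LD3_c15)) :=
  Lgr Lrot5 (Lpr_ft (f308149 IH) (Lpr_at (f427828 IH) (Lpe (f100244 IH) (Lpn (LP (LK LD1_c2 LD2_c10 LD3_c15))))))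
theorem f193356 : Led Lsl_bt (LP (LK LD1_c1 LD2_c13 LD3_c50)) = (LP (LK LD1_c2 LD2_c33 LD3_c43)) :=
  Lre_b IH (LK LD1_c1 LD2_c13 LD3_c50) (LK LD1_c2 LD2_c33 LD3_c43) Lrfl Lrfl
theorem f69467 : Led Lsl_ct (LP (LK LD1_c4 LD2_c0 LD3_c43)) = (LP (LK LD1_c8 LD2_c2 LD3_c13)) :=
  Lre_c IH (LK LD1_c4 LD2_c0 LD3_c43) (LK LD1_c8 LD2_c2 LD3_c13) Lrfl Lrfl
theorem f203304 : Led Lsl_cf (LP (LK LD1_c8 LD2_c2 LD3_c10)) = (LP (LK LD1_c4 LD2_c25 LD3_c45)) :=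
  Lgr Lrot1 (Lpr_at (K32.f158335 IH) (Lpr_ct (f69467 IH) (Lpr_at (K32.f203295 IH) (Lpn (LP (LK LD1_c4 LD2_c25 LD3_c45))))))
theorem f427892 : Led Lsl_gf (LP (LK LD1_c4 LD2_c20 LD3_c7)) = (LP (LK LD1_c8 LD2_c2 LD3_c10)) :=
  Lgr Lrot126 (Lpe (K32.f402909 IH) (Lpr_bt (K32.f31776 IH) (Lpr_gt (K13.f31772 IH) (Lpr_ct (K0.f28636 IH) (Lpe (K10.f193346 IH) (Lpe (K11.f187927 IH) (Lpr_bt (f193356 IH) (Lpr_gt (f427889 IH) (Lpe (K32.f203299 IH) (Lpe (f203304 IH) (Lpn (LP (LK LD1_c8 LD2_c2 LD3_c10)))))))))))))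
theorem f421351 : Led Lsl_ff (LP (LK LD1_c8 LD2_c38 LD3_c55)) = (LP (LK LD1_c8 LD2_c2 LD3_c10)) :=
  Lgr Lrot3 (Lpr_ft (K32.f421328 IH) (Lpn (LP (LK LD1_c8 LD2_c2 LD3_c10))))
theorem f203346 : Led Lsl_at (LP (LK LD1_c4 LD2_c0 LD3_c43)) = (LP (LK LD1_c8 LD2_c2 LD3_c10)) :=
  Lre_a IH (LK LD1_c4 LD2_c0 LD3_c43) (LK LD1_c8 LD2_c2 LD3_c10) Lrfl Lrfl
theorem f158240 : Led Lsl_ft (LP (LK LD1_c8 LD2_c2 LD3_c17)) = (LP (LK LD1_c4 LD2_c0 LD3_c43)) :=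
  Lre_f IH (LK LD1_c8 LD2_c2 LD3_c17) (LK LD1_c4 LD2_c0 LD3_c43) Lrfl Lrfl
theorem f421353 : Led Lsl_at (LP (LK LD1_c8 LD2_c38 LD3_c55)) = (LP (LK LD1_c8 LD2_c2 LD3_c17)) :=
  Lgr Lrot66 (Lpr_ff (f421351 IH) (Lpe (f203346 IH) (Lpe (f158240 IH) (Lpn (LP (LK LD1_c8 LD2_c2 LD3_c17))))))
theorem f427921 : Led Lsl_gt (LP (LK LD1_c4 LD2_c20 LD3_c7)) = (LP (LK LD1_c8 LD2_c2 LD3_c17)) :=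
  Lgr Lrot46 (Lpr_gf (f427892 IH) (Lpe (f421351 IH) (Lpr_at (f421353 IH) (Lpn (LP (LK LD1_c8 LD2_c2 LD3_c17))))))
theorem f239234 : Led Lsl_bt (LP (LK LD1_c2 LD2_c7 LD3_c33)) = (LP (LK LD1_c4 LD2_c20 LD3_c7)) :=
  Lre_b IH (LK LD1_c2 LD2_c7 LD3_c33) (LK LD1_c4 LD2_c20 LD3_c7) Lrfl Lrfl
theorem f53194 : Led Lsl_bt (LP (LK LD1_c0 LD2_c33 LD3_c35)) = (LP (LK LD1_c1 LD2_c12 LD3_c30)) :=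
  Lre_b IH (LK LD1_c0 LD2_c33 LD3_c35) (LK LD1_c1 LD2_c12 LD3_c30) Lrfl Lrfl
theorem f3300 : Led Lsl_ct (LP (LK LD1_c1 LD2_c12 LD3_c30)) = (LP (LK LD1_c2 LD2_c30 LD3_c59)) :=
  Lre_c IH (LK LD1_c1 LD2_c12 LD3_c30) (LK LD1_c2 LD2_c30 LD3_c59) Lrfl Lrfl
theorem f53196 : Led Lsl_bt (LP (LK LD1_c2 LD2_c30 LD3_c59)) = (LP (LK LD1_c2 LD2_c3 LD3_c17)) :=
  Lgr Lrot128 (Lpe (f3300 IH) (Lpe (f53194 IH) (Lpr_cf (K9.f53186 IH) (Lpe (K11.f53192 IH) (Lpe (K13.f53195 IH) (Lpn (LP (LK LD1_c2 LD2_c3 LD3_c17))))))))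
theorem f53240 : Led Lsl_gt (LP (LK LD1_c2 LD2_c30 LD3_c57)) = (LP (LK LD1_c1 LD2_c12 LD3_c30)) :=
  Lre_g IH (LK LD1_c2 LD2_c30 LD3_c57) (LK LD1_c1 LD2_c12 LD3_c30) Lrfl Lrfl
theorem f53308 : Led Lsl_ct (LP (LK LD1_c5 LD2_c7 LD3_c13)) = (LP (LK LD1_c2 LD2_c30 LD3_c57)) :=
  Lre_c IH (LK LD1_c5 LD2_c7 LD3_c13) (LK LD1_c2 LD2_c30 LD3_c57) Lrfl Lrfl
theorem f427924 : Led Lsl_bt (LP (LK LD1_c5 LD2_c7 LD3_c13)) = (LP (LK LD1_c8 LD2_c2 LD3_c17)) :=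
  Lgr Lrot92 (Lpr_ct (f53308 IH) (Lpr_gt (f53240 IH) (Lpe (K32.f53236 IH) (Lpr_bt (f53196 IH) (Lpr_gt (K11.f201349 IH) (Lpe (K11.f36938 IH) (Lpr_gt (K13.f28655 IH) (Lpr_cf (K23.f239235 IH) (Lpr_bt (f239234 IH) (Lpr_gt (f427921 IH) (Lpn (LP (LK LD1_c8 LD2_c2 LD3_c17)))))))))))))
theorem f427929 : Led Lsl_ff (LP (LK LD1_c5 LD2_c7 LD3_c13)) = (LP (LK LD1_c5 LD2_c13 LD3_c56)) :=
  Lgr Lrot25 (Lpr_bt (f427924 IH) (Lpr_ft (f158240 IH) (Lpe (K32.f421291 IH) (Lpn (LP (LK LD1_c5 LD2_c13 LD3_c56))))))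
theorem f427939 : Led Lsl_ft (LP (LK LD1_c5 LD2_c7 LD3_c13)) = (LP (LK LD1_c5 LD2_c13 LD3_c56)) :=
  Lgr Lrot48 (Lpr_ff (f427929 IH) (Lpn (LP (LK LD1_c5 LD2_c13 LD3_c56))))
theorem f112573 : Led Lsl_et (LP (LK LD1_c1 LD2_c56 LD3_c27)) = (LP (LK LD1_c3 LD2_c59 LD3_c33)) :=
  Lre_e IH (LK LD1_c1 LD2_c56 LD3_c27) (LK LD1_c3 LD2_c59 LD3_c33) Lrfl Lrfl
theorem f158371 : Led Lsl_ft (LP (LK LD1_c3 LD2_c59 LD3_c33)) = (LP (LK LD1_c8 LD2_c0 LD3_c13)) :=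
  Lre_f IH (LK LD1_c3 LD2_c59 LD3_c33) (LK LD1_c8 LD2_c0 LD3_c13) Lrfl Lrfl
theorem f427947 : Led Lsl_ef (LP (LK LD1_c5 LD2_c7 LD3_c13)) = (LP (LK LD1_c8 LD2_c0 LD3_c13)) :=
  Lgr Lrot21 (Lpr_ft (f427939 IH) (Lpr_et (K32.f421281 IH) (Lpe (K8.f158229 IH) (Lpr_et (f112573 IH) (Lpr_ft (f158371 IH) (Lpn (LP (LK LD1_c8 LD2_c0 LD3_c13))))))))
theorem f427959 : Led Lsl_ct (LP (LK LD1_c3 LD2_c59 LD3_c38)) = (LP (LK LD1_c8 LD2_c0 LD3_c13)) :=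
  Lre_c IH (LK LD1_c3 LD2_c59 LD3_c38) (LK LD1_c8 LD2_c0 LD3_c13) Lrfl Lrfl
theorem f427960 : Led Lsl_et (LP (LK LD1_c2 LD2_c30 LD3_c57)) = (LP (LK LD1_c3 LD2_c59 LD3_c38)) :=
  Lgr Lrot158 (Lpe (f53308 IH) (Lpr_ef (f427947 IH) (Lpe (f427959 IH) (Lpn (LP (LK LD1_c3 LD2_c59 LD3_c38))))))
theorem f427966 : Led Lsl_ef (LP (LK LD1_c2 LD2_c30 LD3_c57)) = (LP (LK LD1_c3 LD2_c59 LD3_c38)) :=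
  Lgr Lrot88 (Lpr_et (f427960 IH) (Lpn (LP (LK LD1_c3 LD2_c59 LD3_c38))))
theorem f427953 : Led Lsl_bt (LP (LK LD1_c2 LD2_c30 LD3_c57)) = (LP (LK LD1_c5 LD2_c7 LD3_c12)) :=
  Lre_b IH (LK LD1_c2 LD2_c30 LD3_c57) (LK LD1_c5 LD2_c7 LD3_c12) Lrfl Lrfl
theorem f427968 : Led Lsl_bt (LP (LK LD1_c8 LD2_c0 LD3_c9)) = (LP (LK LD1_c3 LD2_c59 LD3_c38)) :=
  Lre_b IH (LK LD1_c8 LD2_c0 LD3_c9) (LK LD1_c3 LD2_c59 LD3_c38) Lrfl Lrfl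
theorem f427969 : Led Lsl_et (LP (LK LD1_c5 LD2_c7 LD3_c12)) = (LP (LK LD1_c8 LD2_c0 LD3_c9)) :=
  Lgr Lrot74 (Lpe (f427953 IH) (Lpr_ef (f427966 IH) (Lpe (f427968 IH) (Lpn (LP (LK LD1_c8 LD2_c0 LD3_c9))))))
theorem f421454 : Led Lsl_ft (LP (LK LD1_c8 LD2_c0 LD3_c9)) = (LP (LK LD1_c3 LD2_c59 LD3_c30)) :=
  Lre_f IH (LK LD1_c8 LD2_c0 LD3_c9) (LK LD1_c3 LD2_c59 LD3_c30) Lrfl Lrfl
theorem f161656 : Led Lsl_et (LP (LK LD1_c3 LD2_c59 LD3_c30)) = (LP (LK LD1_c1 LD2_c56 LD3_c26)) :=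
  Lre_e IH (LK LD1_c3 LD2_c59 LD3_c30) (LK LD1_c1 LD2_c56 LD3_c26) Lrfl Lrfl
theorem f171695 : Led Lsl_bt (LP (LK LD1_c5 LD2_c13 LD3_c55)) = (LP (LK LD1_c2 LD2_c33 LD3_c52)) :=
  Lre_b IH (LK LD1_c5 LD2_c13 LD3_c55) (LK LD1_c2 LD2_c33 LD3_c52) Lrfl Lrfl
theorem f421273 : Led Lsl_ef (LP (LK LD1_c5 LD2_c13 LD3_c55)) = (LP (LK LD1_c3 LD2_c3 LD3_c25)) :=
  Lgr Lrot29 (Lpr_bt (f171695 IH) (Lpr_et (K32.f421271 IH) (Lpr_bt (K6.f59543 IH) (Lpn (LP (LK LD1_c3 LD2_c3 LD3_c25))))))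
theorem f427974 : Led Lsl_ff (LP (LK LD1_c5 LD2_c7 LD3_c12)) = (LP (LK LD1_c5 LD2_c13 LD3_c55)) :=
  Lgr Lrot72 (Lpr_et (f427969 IH) (Lpr_ft (f421454 IH) (Lpr_et (f161656 IH) (Lpe (K8.f158408 IH) (Lpe (f421273 IH) (Lpn (LP (LK LD1_c5 LD2_c13 LD3_c55))))))))
theorem f427981 : Led Lsl_ft (LP (LK LD1_c5 LD2_c7 LD3_c12)) = (LP (LK LD1_c5 LD2_c13 LD3_c55)) :=
  Lgr Lrot48 (Lpr_ff (f427974 IH) (Lpn (LP (LK LD1_c5 LD2_c13 LD3_c55))))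
theorem f427972 : Led Lsl_dt (LP (LK LD1_c10 LD2_c4 LD3_c61)) = (LP (LK LD1_c5 LD2_c7 LD3_c12)) :=
  Lre_d IH (LK LD1_c10 LD2_c4 LD3_c61) (LK LD1_c5 LD2_c7 LD3_c12) Lrfl Lrfl
theorem f421323 : Led Lsl_dt (LP (LK LD1_c5 LD2_c13 LD3_c55)) = (LP (LK LD1_c10 LD2_c17 LD3_c56)) :=
  Lre_d IH (LK LD1_c5 LD2_c13 LD3_c55) (LK LD1_c10 LD2_c17 LD3_c56) Lrfl Lrfl
theorem f427985 : Led Lsl_ff (LP (LK LD1_c10 LD2_c4 LD3_c61)) = (LP (LK LD1_c10 LD2_c17 LD3_c56)) :=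
  Lgr Lrot19 (Lpr_dt (f427972 IH) (Lpr_ft (f427981 IH) (Lpr_dt (f421323 IH) (Lpn (LP (LK LD1_c10 LD2_c17 LD3_c56))))))
theorem f427987 : Led Lsl_bt (LP (LK LD1_c10 LD2_c4 LD3_c61)) = (LP (LK LD1_c5 LD2_c7 LD3_c14)) :=
  Lre_b IH (LK LD1_c10 LD2_c4 LD3_c61) (LK LD1_c5 LD2_c7 LD3_c14) Lrfl Lrfl
theorem f421458 : Led Lsl_bt (LP (LK LD1_c5 LD2_c13 LD3_c57)) = (LP (LK LD1_c10 LD2_c17 LD3_c56)) :=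
  Lre_b IH (LK LD1_c5 LD2_c13 LD3_c57) (LK LD1_c10 LD2_c17 LD3_c56) Lrfl Lrfl
theorem f427988 : Led Lsl_ft (LP (LK LD1_c5 LD2_c7 LD3_c14)) = (LP (LK LD1_c5 LD2_c13 LD3_c57)) :=
  Lgr Lrot75 (Lpe (f427987 IH) (Lpr_ff (f427985 IH) (Lpe (f421458 IH) (Lpn (LP (LK LD1_c5 LD2_c13 LD3_c57))))))
theorem f427993 : Led Lsl_ff (LP (LK LD1_c5 LD2_c7 LD3_c14)) = (LP (LK LD1_c5 LD2_c13 LD3_c57)) :=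
  Lgr Lrot3 (Lpr_ft (f427988 IH) (Lpn (LP (LK LD1_c5 LD2_c13 LD3_c57))))
theorem f308591 : Led Lsl_dt (LP (LK LD1_c2 LD2_c33 LD3_c52)) = (LP (LK LD1_c5 LD2_c13 LD3_c57)) :=
  Lre_d IH (LK LD1_c2 LD2_c33 LD3_c52) (LK LD1_c5 LD2_c13 LD3_c57) Lrfl Lrfl
theorem f421199 : Led Lsl_dt (LP (LK LD1_c3 LD2_c59 LD3_c26)) = (LP (LK LD1_c1 LD2_c56 LD3_c25)) :=
  Lre_d IH (LK LD1_c3 LD2_c59 LD3_c26) (LK LD1_c1 LD2_c56 LD3_c25) Lrfl Lrfl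
theorem f421269 : Led Lsl_at (LP (LK LD1_c5 LD2_c13 LD3_c57)) = (LP (LK LD1_c3 LD2_c59 LD3_c26)) :=
  Lgr Lrot51 (Lpe (f308591 IH) (Lpr_af (K32.f421260 IH) (Lpe (f421199 IH) (Lpn (LP (LK LD1_c3 LD2_c59 LD3_c26))))))
theorem f421455 : Led Lsl_af (LP (LK LD1_c5 LD2_c13 LD3_c57)) = (LP (LK LD1_c3 LD2_c59 LD3_c26)) :=
  Lgr Lrot0 (Lpr_at (f421269 IH) (Lpn (LP (LK LD1_c3 LD2_c59 LD3_c26))))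
theorem f61382 : Led Lsl_dt (LP (LK LD1_c2 LD2_c33 LD3_c51)) = (LP (LK LD1_c5 LD2_c13 LD3_c54)) :=
  Lre_d IH (LK LD1_c2 LD2_c33 LD3_c51) (LK LD1_c5 LD2_c13 LD3_c54) Lrfl Lrfl
theorem f421200 : Led Lsl_ft (LP (LK LD1_c5 LD2_c13 LD3_c54)) = (LP (LK LD1_c3 LD2_c59 LD3_c26)) :=
  Lgr Lrot54 (Lpe (f61382 IH) (Lpr_ff (K35.f421195 IH) (Lpe (f421199 IH) (Lpn (LP (LK LD1_c3 LD2_c59 LD3_c26))))))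
theorem f427995 : Led Lsl_at (LP (LK LD1_c5 LD2_c7 LD3_c14)) = (LP (LK LD1_c5 LD2_c13 LD3_c54)) :=
  Lgr Lrot66 (Lpr_ff (f427993 IH) (Lpr_af (f421455 IH) (Lpe (f421200 IH) (Lpn (LP (LK LD1_c5 LD2_c13 LD3_c54))))))
theorem f308547 : Led Lsl_dt (LP (LK LD1_c2 LD2_c30 LD3_c57)) = (LP (LK LD1_c5 LD2_c7 LD3_c14)) :=
  Lre_d IH (LK LD1_c2 LD2_c30 LD3_c57) (LK LD1_c5 LD2_c7 LD3_c14) Lrfl Lrfl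
theorem f406594 : Led Lsl_dt (LP (LK LD1_c5 LD2_c13 LD3_c54)) = (LP (LK LD1_c2 LD2_c33 LD3_c51)) :=
  Lre_d IH (LK LD1_c5 LD2_c13 LD3_c54) (LK LD1_c2 LD2_c33 LD3_c51) Lrfl Lrfl
theorem f427998 : Led Lsl_af (LP (LK LD1_c2 LD2_c30 LD3_c57)) = (LP (LK LD1_c2 LD2_c33 LD3_c51)) :=
  Lgr Lrot117 (Lpr_dt (f308547 IH) (Lpr_at (f427995 IH) (Lpr_dt (f406594 IH) (Lpn (LP (LK LD1_c2 LD2_c33 LD3_c51))))))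
theorem f308525 : Led Lsl_ff (LP (LK LD1_c5 LD2_c13 LD3_c59)) = (LP (LK LD1_c5 LD2_c7 LD3_c16)) :=
  Lgr Lrot3 (Lpr_ft (K32.f308521 IH) (Lpn (LP (LK LD1_c5 LD2_c7 LD3_c16))))
theorem f308534 : Led Lsl_ft (LP (LK LD1_c2 LD2_c33 LD3_c53)) = (LP (LK LD1_c2 LD2_c30 LD3_c58)) :=
  Lgr Lrot54 (Lpe (K32.f61394 IH) (Lpr_ff (f308525 IH) (Lpe (K32.f308430 IH) (Lpn (LP (LK LD1_c2 LD2_c30 LD3_c58))))))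
theorem f308429 : Led Lsl_at (LP (LK LD1_c2 LD2_c30 LD3_c58)) = (LP (LK LD1_c1 LD2_c12 LD3_c30)) :=
  Lre_a IH (LK LD1_c2 LD2_c30 LD3_c58) (LK LD1_c1 LD2_c12 LD3_c30) Lrfl Lrfl
theorem f308545 : Led Lsl_gt (LP (LK LD1_c2 LD2_c33 LD3_c53)) = (LP (LK LD1_c2 LD2_c30 LD3_c57)) :=
  Lgr Lrot5 (Lpr_ft (f308534 IH) (Lpr_at (f308429 IH) (Lpe (f53240 IH) (Lpn (LP (LK LD1_c2 LD2_c30 LD3_c57))))))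
theorem f428008 : Led Lsl_gf (LP (LK LD1_c2 LD2_c33 LD3_c53)) = (LP (LK LD1_c1 LD2_c56 LD3_c25)) :=
  Lgr Lrot47 (Lpr_gt (f308545 IH) (Lpr_af (f427998 IH) (Lpr_ff (K35.f421195 IH) (Lpn (LP (LK LD1_c1 LD2_c56 LD3_c25))))))
theorem f61386 : Led Lsl_et (LP (LK LD1_c5 LD2_c13 LD3_c60)) = (LP (LK LD1_c2 LD2_c33 LD3_c53)) :=
  Lre_e IH (LK LD1_c5 LD2_c13 LD3_c60) (LK LD1_c2 LD2_c33 LD3_c53) Lrfl Lrfl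
theorem f73436 : Led Lsl_dt (LP (LK LD1_c3 LD2_c4 LD3_c45)) = (LP (LK LD1_c6 LD2_c15 LD3_c21)) :=
  Lre_d IH (LK LD1_c3 LD2_c4 LD3_c45) (LK LD1_c6 LD2_c15 LD3_c21) Lrfl Lrfl
theorem f428012 : Led Lsl_gt (LP (LK LD1_c5 LD2_c49 LD3_c27)) = (LP (LK LD1_c6 LD2_c15 LD3_c21)) :=
  Lgr Lrot112 (Lpe (f61384 IH) (Lpr_et (f61386 IH) (Lpr_gf (f428008 IH) (Lpe (K32.f139405 IH) (Lpr_dt (K6.f59885 IH) (Lpe (K7.f149347 IH) (Lpe (K8.f73810 IH) (Lpe (K8.f60853 IH) (Lpe (K8.f73435 IH) (Lpr_dt (f73436 IH) (Lpn (LP (LK LD1_c6 LD2_c15 LD3_c21)))))))))))))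
theorem f541702 : Led Lsl_et (LP (LK LD1_c2 LD2_c26 LD3_c33)) = (LP (LK LD1_c4 LD2_c57 LD3_c19)) :=
  Lre_e IH (LK LD1_c2 LD2_c26 LD3_c33) (LK LD1_c4 LD2_c57 LD3_c19) Lrfl Lrfl
theorem f541703 : Led Lsl_gt (LP (LK LD1_c3 LD2_c4 LD3_c49)) = (LP (LK LD1_c4 LD2_c57 LD3_c18)) :=
  Lgr Lrot112 (Lpe (K2.f60790 IH) (Lpr_et (K2.f60792 IH) (Lpe (K8.f60853 IH) (Lpe (K8.f73435 IH) (Lpr_dt (f73436 IH) (Lpe (f428012 IH) (Lpe (f61384 IH) (Lpr_gf (f541698 IH) (Lpe (f541702 IH) (Lpr_dt (K31.f181501 IH) (Lpn (LP (LK LD1_c4 LD2_c57 LD3_c18)))))))))))))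
theorem f60727 : Led Lsl_ct (LP (LK LD1_c3 LD2_c4 LD3_c51)) = (LP (LK LD1_c1 LD2_c28 LD3_c28)) :=
  Lre_c IH (LK LD1_c3 LD2_c4 LD3_c51) (LK LD1_c1 LD2_c28 LD3_c28) Lrfl Lrfl
theorem f68807 : Led Lsl_ff (LP (LK LD1_c2 LD2_c47 LD3_c8)) = (LP (LK LD1_c1 LD2_c26 LD3_c16)) :=
  Lgr Lrot3 (Lpr_ft (K10.f68589 IH) (Lpn (LP (LK LD1_c1 LD2_c26 LD3_c16))))
theorem f68814 : Led Lsl_ft (LP (LK LD1_c1 LD2_c25 LD3_c60)) = (LP (LK LD1_c0 LD2_c39 LD3_c50)) :=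
  Lre_f IH (LK LD1_c1 LD2_c25 LD3_c60) (LK LD1_c0 LD2_c39 LD3_c50) Lrfl Lrfl
theorem f68815 : Led Lsl_dt (LP (LK LD1_c2 LD2_c47 LD3_c8)) = (LP (LK LD1_c1 LD2_c25 LD3_c60)) :=
  Lgr Lrot60 (Lpr_ff (f68807 IH) (Lpe (K9.f9527 IH) (Lpe (f68814 IH) (Lpn (LP (LK LD1_c1 LD2_c25 LD3_c60))))))
theorem f420991 : Led Lsl_gf (LP (LK LD1_c3 LD2_c4 LD3_c51)) = (LP (LK LD1_c2 LD2_c47 LD3_c9)) :=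
  Lgr Lrot104 (Lpr_ct (f60727 IH) (Lpe (K24.f59655 IH) (Lpe (K17.f60442 IH) (Lpe (K9.f60475 IH) (Lpe (K10.f175852 IH) (Lpr_gf (K11.f198634 IH) (Lpe (f68815 IH) (Lpr_gt (K10.f68588 IH) (Lpr_ct (K16.f68594 IH) (Lpn (LP (LK LD1_c2 LD2_c47 LD3_c9))))))))))))
theorem f68798 : Led Lsl_bt (LP (LK LD1_c5 LD2_c42 LD3_c21)) = (LP (LK LD1_c2 LD2_c47 LD3_c8)) :=
  Lre_b IH (LK LD1_c5 LD2_c42 LD3_c21) (LK LD1_c2 LD2_c47 LD3_c8) Lrfl Lrfl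
theorem f381433 : Led Lsl_bt (LP (LK LD1_c2 LD2_c26 LD3_c35)) = (LP (LK LD1_c4 LD2_c57 LD3_c18)) :=
  Lre_b IH (LK LD1_c2 LD2_c26 LD3_c35) (LK LD1_c4 LD2_c57 LD3_c18) Lrfl Lrfl
theorem f40178 : Led Lsl_ct (LP (LK LD1_c2 LD2_c26 LD3_c35)) = (LP (LK LD1_c4 LD2_c57 LD3_c22)) :=
  Lre_c IH (LK LD1_c2 LD2_c26 LD3_c35) (LK LD1_c4 LD2_c57 LD3_c22) Lrfl Lrfl
theorem f381375 : Led Lsl_gt (LP (LK LD1_c4 LD2_c57 LD3_c22)) = (LP (LK LD1_c9 LD2_c45 LD3_c25)) :=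
  Lre_g IH (LK LD1_c4 LD2_c57 LD3_c22) (LK LD1_c9 LD2_c45 LD3_c25) Lrfl Lrfl
theorem f541715 : Led Lsl_ct (LP (LK LD1_c5 LD2_c42 LD3_c21)) = (LP (LK LD1_c9 LD2_c45 LD3_c25)) :=
  Lgr Lrot10 (Lpr_bt (f68798 IH) (Lpr_gt (K10.f68588 IH) (Lpr_ct (K16.f68594 IH) (Lpe (f420991 IH) (Lpe (K17.f60725 IH) (Lpr_bt (K17.f73134 IH) (Lpr_gt (f541703 IH) (Lpe (f381433 IH) (Lpr_ct (f40178 IH) (Lpr_gt (f381375 IH) (Lpn (LP (LK LD1_c9 LD2_c45 LD3_c25)))))))))))))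
theorem f427691 : Led Lsl_gt (LP (LK LD1_c9 LD2_c45 LD3_c25)) = (LP (LK LD1_c4 LD2_c57 LD3_c11)) :=
  Lre_g IH (LK LD1_c9 LD2_c45 LD3_c25) (LK LD1_c4 LD2_c57 LD3_c11) Lrfl Lrfl
theorem f381406 : Led Lsl_ct (LP (LK LD1_c2 LD2_c26 LD3_c30)) = (LP (LK LD1_c1 LD2_c10 LD3_c33)) :=
  Lre_c IH (LK LD1_c2 LD2_c26 LD3_c30) (LK LD1_c1 LD2_c10 LD3_c33) Lrfl Lrfl
theorem f381682 : Led Lsl_dt (LP (LK LD1_c5 LD2_c43 LD3_c25)) = (LP (LK LD1_c2 LD2_c47 LD3_c44)) :=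
  Lre_d IH (LK LD1_c5 LD2_c43 LD3_c25) (LK LD1_c2 LD2_c47 LD3_c44) Lrfl Lrfl
theorem f541726 : Led Lsl_gf (LP (LK LD1_c5 LD2_c42 LD3_c21)) = (LP (LK LD1_c5 LD2_c43 LD3_c25)) :=
  Lgr Lrot147 (Lpr_ct (f541715 IH) (Lpr_gt (f427691 IH) (Lpr_ct (K27.f216585 IH) (Lpe (K27.f76114 IH) (Lpe (f381406 IH) (Lpe (K31.f495870 IH) (Lpr_cf (K30.f495865 IH) (Lpe (K30.f495860 IH) (Lpe (f381682 IH) (Lpn (LP (LK LD1_c5 LD2_c43 LD3_c25))))))))))))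
theorem f452565 : Led Lsl_ef (LP (LK LD1_c0 LD2_c37 LD3_c3)) = K35.v387 :=
  Lgr Lrot88 (Lpr_et (K35.f452564 IH) (Lpn K35.v387))
theorem f381125 : Led Lsl_dt (LP (LK LD1_c1 LD2_c20 LD3_c6)) = (LP (LK LD1_c2 LD2_c47 LD3_c35)) :=
  Lre_d IH (LK LD1_c1 LD2_c20 LD3_c6) (LK LD1_c2 LD2_c47 LD3_c35) Lrfl Lrfl
theorem f381547 : Led Lsl_gt (LP (LK LD1_c2 LD2_c47 LD3_c35)) = (LP (LK LD1_c1 LD2_c20 LD3_c18)) :=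
  Lre_g IH (LK LD1_c2 LD2_c47 LD3_c35) (LK LD1_c1 LD2_c20 LD3_c18) Lrfl Lrfl
theorem f427663 : Led Lsl_gt (LP (LK LD1_c3 LD2_c0 LD3_c8)) = (LP (LK LD1_c2 LD2_c44 LD3_c37)) :=
  Lgr Lrot46 (Lpr_gf (K32.f427515 IH) (Lpe (K18.f289378 IH) (Lpr_at (K27.f211939 IH) (Lpn (LP (LK LD1_c2 LD2_c44 LD3_c37))))))
theorem f383968 : Led Lsl_at (LP (LK LD1_c2 LD2_c44 LD3_c35)) = (LP (LK LD1_c4 LD2_c31 LD3_c0)) :=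
  Lgr Lrot51 (Lpr_df (K28.f383254 IH) (Lpe (K27.f383470 IH) (Lpr_df (K27.f383963 IH) (Lpn (LP (LK LD1_c4 LD2_c31 LD3_c0))))))
theorem f427665 : Led Lsl_ft (LP (LK LD1_c3 LD2_c0 LD3_c8)) = (LP (LK LD1_c2 LD2_c44 LD3_c35)) :=
  Lgr Lrot2 (Lpr_gt (f427663 IH) (Lpr_gt (K27.f289385 IH) (Lpe (f383968 IH) (Lpn (LP (LK LD1_c2 LD2_c44 LD3_c35))))))
theorem f427511 : Led Lsl_et (LP (LK LD1_c1 LD2_c25 LD3_c50)) = (LP (LK LD1_c3 LD2_c0 LD3_c8)) :=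
  Lre_e IH (LK LD1_c1 LD2_c25 LD3_c50) (LK LD1_c3 LD2_c0 LD3_c8) Lrfl Lrfl
theorem f427698 : Led Lsl_ft (LP (LK LD1_c3 LD2_c0 LD3_c9)) = (LP (LK LD1_c1 LD2_c25 LD3_c50)) :=
  Lre_f IH (LK LD1_c3 LD2_c0 LD3_c9) (LK LD1_c1 LD2_c25 LD3_c50) Lrfl Lrfl
theorem f427699 : Led Lsl_et (LP (LK LD1_c6 LD2_c7 LD3_c53)) = (LP (LK LD1_c3 LD2_c0 LD3_c9)) :=
  Lre_e IH (LK LD1_c6 LD2_c7 LD3_c53) (LK LD1_c3 LD2_c0 LD3_c9) Lrfl Lrfl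
theorem f383262 : Led Lsl_et (LP (LK LD1_c2 LD2_c44 LD3_c35)) = (LP (LK LD1_c5 LD2_c37 LD3_c19)) :=
  Lre_e IH (LK LD1_c2 LD2_c44 LD3_c35) (LK LD1_c5 LD2_c37 LD3_c19) Lrfl Lrfl
theorem f427700 : Led Lsl_ff (LP (LK LD1_c6 LD2_c7 LD3_c53)) = (LP (LK LD1_c5 LD2_c37 LD3_c19)) :=
  Lgr Lrot72 (Lpr_et (f427699 IH) (Lpr_ft (f427698 IH) (Lpr_et (f427511 IH) (Lpr_ft (f427665 IH) (Lpr_et (f383262 IH) (Lpn (LP (LK LD1_c5 LD2_c37 LD3_c19))))))))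
theorem f427706 : Led Lsl_ft (LP (LK LD1_c6 LD2_c7 LD3_c53)) = (LP (LK LD1_c5 LD2_c37 LD3_c19)) :=
  Lgr Lrot48 (Lpr_ff (f427700 IH) (Lpn (LP (LK LD1_c5 LD2_c37 LD3_c19))))
theorem f427717 : Led Lsl_at (LP (LK LD1_c3 LD2_c0 LD3_c12)) = (LP (LK LD1_c6 LD2_c7 LD3_c53)) :=
  Lre_a IH (LK LD1_c3 LD2_c0 LD3_c12) (LK LD1_c6 LD2_c7 LD3_c53) Lrfl Lrfl
theorem f427718 : Led Lsl_ft (LP (LK LD1_c6 LD2_c7 LD3_c59)) = (LP (LK LD1_c3 LD2_c0 LD3_c12)) :=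
  Lre_f IH (LK LD1_c6 LD2_c7 LD3_c59) (LK LD1_c3 LD2_c0 LD3_c12) Lrfl Lrfl
theorem f427719 : Led Lsl_af (LP (LK LD1_c6 LD2_c7 LD3_c59)) = (LP (LK LD1_c5 LD2_c37 LD3_c19)) :=
  Lgr Lrot45 (Lpr_ft (f427718 IH) (Lpr_at (f427717 IH) (Lpr_ft (f427706 IH) (Lpn (LP (LK LD1_c5 LD2_c37 LD3_c19))))))
theorem f427723 : Led Lsl_et (LP (LK LD1_c6 LD2_c7 LD3_c59)) = (LP (LK LD1_c4 LD2_c31 LD3_c0)) :=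
  Lgr Lrot123 (Lpr_af (f427719 IH) (Lpe (f383262 IH) (Lpr_af (K27.f383989 IH) (Lpn (LP (LK LD1_c4 LD2_c31 LD3_c0))))))
theorem f427703 : Led Lsl_ft (LP (LK LD1_c3 LD2_c0 LD3_c12)) = (LP (LK LD1_c6 LD2_c7 LD3_c59)) :=
  Lre_f IH (LK LD1_c3 LD2_c0 LD3_c12) (LK LD1_c6 LD2_c7 LD3_c59) Lrfl Lrfl
theorem f427716 : Led Lsl_et (LP (LK LD1_c1 LD2_c25 LD3_c51)) = (LP (LK LD1_c3 LD2_c0 LD3_c12)) :=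
  Lre_e IH (LK LD1_c1 LD2_c25 LD3_c51) (LK LD1_c3 LD2_c0 LD3_c12) Lrfl Lrfl
theorem f427727 : Led Lsl_ft (LP (LK LD1_c3 LD2_c0 LD3_c6)) = (LP (LK LD1_c1 LD2_c25 LD3_c51)) :=
  Lre_f IH (LK LD1_c3 LD2_c0 LD3_c6) (LK LD1_c1 LD2_c25 LD3_c51) Lrfl Lrfl
theorem f427728 : Led Lsl_ef (LP (LK LD1_c3 LD2_c0 LD3_c6)) = (LP (LK LD1_c2 LD2_c44 LD3_c36)) :=
  Lgr Lrot21 (Lpr_ft (f427727 IH) (Lpr_et (f427716 IH) (Lpr_ft (f427703 IH) (Lpr_et (f427723 IH) (Lpe (K27.f384034 IH) (Lpn (LP (LK LD1_c2 LD2_c44 LD3_c36))))))))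
theorem f56286 : Led Lsl_et (LP (LK LD1_c0 LD2_c39 LD3_c46)) = (LP (LK LD1_c1 LD2_c25 LD3_c52)) :=
  Lre_e IH (LK LD1_c0 LD2_c39 LD3_c46) (LK LD1_c1 LD2_c25 LD3_c52) Lrfl Lrfl
theorem f427738 : Led Lsl_gf (LP (LK LD1_c3 LD2_c0 LD3_c6)) = (LP (LK LD1_c1 LD2_c25 LD3_c52)) :=
  Lgr Lrot141 (Lpr_ef (f427728 IH) (Lpr_dt (K27.f384037 IH) (Lpr_gt (K27.f75974 IH) (Lpe (K27.f75567 IH) (Lpr_et (K27.f75973 IH) (Lpr_gt (K2.f20410 IH) (Lpr_dt (K2.f37292 IH) (Lpr_gt (K2.f74552 IH) (Lpr_df (K5.f75959 IH) (Lpr_et (f56286 IH) (Lpn (LP (LK LD1_c1 LD2_c25 LD3_c52)))))))))))))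
theorem f55958 : Led Lsl_ft (LP (LK LD1_c1 LD2_c25 LD3_c52)) = (LP (LK LD1_c3 LD2_c0 LD3_c5)) :=
  Lre_f IH (LK LD1_c1 LD2_c25 LD3_c52) (LK LD1_c3 LD2_c0 LD3_c5) Lrfl Lrfl
theorem f55957 : Led Lsl_at (LP (LK LD1_c3 LD2_c0 LD3_c5)) = (LP (LK LD1_c1 LD2_c25 LD3_c54)) :=
  Lre_a IH (LK LD1_c3 LD2_c0 LD3_c5) (LK LD1_c1 LD2_c25 LD3_c54) Lrfl Lrfl
theorem f427743 : Led Lsl_gt (LP (LK LD1_c3 LD2_c0 LD3_c6)) = (LP (LK LD1_c1 LD2_c25 LD3_c54)) :=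
  Lgr Lrot46 (Lpr_gf (f427738 IH) (Lpr_ft (f55958 IH) (Lpr_at (f55957 IH) (Lpn (LP (LK LD1_c1 LD2_c25 LD3_c54))))))
theorem f68867 : Led Lsl_et (LP (LK LD1_c3 LD2_c0 LD3_c18)) = (LP (LK LD1_c1 LD2_c25 LD3_c54)) :=
  Lre_e IH (LK LD1_c3 LD2_c0 LD3_c18) (LK LD1_c1 LD2_c25 LD3_c54) Lrfl Lrfl
theorem f68817 : Led Lsl_et (LP (LK LD1_c2 LD2_c47 LD3_c8)) = (LP (LK LD1_c5 LD2_c42 LD3_c22)) :=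
  Lre_e IH (LK LD1_c2 LD2_c47 LD3_c8) (LK LD1_c5 LD2_c42 LD3_c22) Lrfl Lrfl
theorem f68818 : Led Lsl_ft (LP (LK LD1_c4 LD2_c41 LD3_c0)) = (LP (LK LD1_c2 LD2_c17 LD3_c32)) :=
  Lre_f IH (LK LD1_c4 LD2_c41 LD3_c0) (LK LD1_c2 LD2_c17 LD3_c32) Lrfl Lrfl
theorem f68819 : Led Lsl_et (LP (LK LD1_c9 LD2_c17 LD3_c30)) = (LP (LK LD1_c4 LD2_c41 LD3_c0)) :=
  Lre_e IH (LK LD1_c9 LD2_c17 LD3_c30) (LK LD1_c4 LD2_c41 LD3_c0) Lrfl Lrfl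
theorem f68820 : Led Lsl_ft (LP (LK LD1_c5 LD2_c42 LD3_c22)) = (LP (LK LD1_c9 LD2_c17 LD3_c30)) :=
  Lgr Lrot86 (Lpe (f68817 IH) (Lpr_ff (f68807 IH) (Lpe (K24.f23166 IH) (Lpe (f68818 IH) (Lpe (f68819 IH) (Lpn (LP (LK LD1_c9 LD2_c17 LD3_c30))))))))
theorem f59974 : Led Lsl_at (LP (LK LD1_c9 LD2_c17 LD3_c30)) = (LP (LK LD1_c6 LD2_c12 LD3_c17)) :=
  Lre_a IH (LK LD1_c9 LD2_c17 LD3_c30) (LK LD1_c6 LD2_c12 LD3_c17) Lrfl Lrfl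
theorem f9250 : Led Lsl_at (LP (LK LD1_c4 LD2_c33 LD3_c52)) = (LP (LK LD1_c2 LD2_c48 LD3_c50)) :=
  Lre_a IH (LK LD1_c4 LD2_c33 LD3_c52) (LK LD1_c2 LD2_c48 LD3_c50) Lrfl Lrfl
theorem f9251 : Led Lsl_ft (LP (LK LD1_c2 LD2_c13 LD3_c48)) = (LP (LK LD1_c4 LD2_c33 LD3_c52)) :=
  Lre_f IH (LK LD1_c2 LD2_c13 LD3_c48) (LK LD1_c4 LD2_c33 LD3_c52) Lrfl Lrfl
theorem f9252 : Led Lsl_dt (LP (LK LD1_c2 LD2_c13 LD3_c48)) = (LP (LK LD1_c4 LD2_c33 LD3_c55)) :=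
  Lre_d IH (LK LD1_c2 LD2_c13 LD3_c48) (LK LD1_c4 LD2_c33 LD3_c55) Lrfl Lrfl
theorem f9253 : Led Lsl_ct (LP (LK LD1_c4 LD2_c33 LD3_c55)) = (LP (LK LD1_c6 LD2_c4 LD3_c1)) :=
  Lgr Lrot133 (Lpe (f9252 IH) (Lpr_ft (f9251 IH) (Lpr_at (f9250 IH) (Lpe (K0.f9242 IH) (Lpr_df (K0.f9218 IH) (Lpe (K0.f9131 IH) (Lpe (K0.f9245 IH) (Lpe (K0.f9246 IH) (Lpe (K0.f9169 IH) (Lpn (LP (LK LD1_c6 LD2_c4 LD3_c1))))))))))))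
theorem f68830 : Led Lsl_ct (LP (LK LD1_c1 LD2_c18 LD3_c5)) = (LP (LK LD1_c2 LD2_c13 LD3_c48)) :=
  Lre_c IH (LK LD1_c1 LD2_c18 LD3_c5) (LK LD1_c2 LD2_c13 LD3_c48) Lrfl Lrfl
theorem f9207 : Led Lsl_dt (LP (LK LD1_c2 LD2_c40 LD3_c2)) = (LP (LK LD1_c1 LD2_c18 LD3_c5)) :=
  Lre_d IH (LK LD1_c2 LD2_c40 LD3_c2) (LK LD1_c1 LD2_c18 LD3_c5) Lrfl Lrfl
theorem f9145 : Led Lsl_cf (LP (LK LD1_c2 LD2_c40 LD3_c2)) = (LP (LK LD1_c3 LD2_c0 LD3_c28)) :=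
  Lgr Lrot108 (Lpr_ft (K0.f9056 IH) (Lpr_ct (K0.f9124 IH) (Lpr_ft (K0.f9144 IH) (Lpn (LP (LK LD1_c3 LD2_c0 LD3_c28))))))
theorem f68831 : Led Lsl_dt (LP (LK LD1_c5 LD2_c42 LD3_c22)) = (LP (LK LD1_c3 LD2_c0 LD3_c28)) :=
  Lgr Lrot159 (Lpr_ft (f68820 IH) (Lpr_at (f59974 IH) (Lpe (K0.f9246 IH) (Lpe (K0.f9169 IH) (Lpe (f9253 IH) (Lpe (f9252 IH) (Lpe (f68830 IH) (Lpe (f9207 IH) (Lpr_cf (f9145 IH) (Lpn (LP (LK LD1_c3 LD2_c0 LD3_c28))))))))))))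
theorem f68824 : Led Lsl_bt (LP (LK LD1_c11 LD2_c14 LD3_c55)) = (LP (LK LD1_c5 LD2_c42 LD3_c22)) :=
  Lre_b IH (LK LD1_c11 LD2_c14 LD3_c55) (LK LD1_c5 LD2_c42 LD3_c22) Lrfl Lrfl
theorem f68833 : Led Lsl_bt (LP (LK LD1_c3 LD2_c0 LD3_c28)) = (LP (LK LD1_c6 LD2_c8 LD3_c10)) :=
  Lre_b IH (LK LD1_c3 LD2_c0 LD3_c28) (LK LD1_c6 LD2_c8 LD3_c10) Lrfl Lrfl
theorem f68834 : Led Lsl_df (LP (LK LD1_c11 LD2_c14 LD3_c55)) = (LP (LK LD1_c6 LD2_c8 LD3_c10)) :=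
  Lgr Lrot12 (Lpr_bt (f68824 IH) (Lpr_dt (f68831 IH) (Lpr_bt (f68833 IH) (Lpn (LP (LK LD1_c6 LD2_c8 LD3_c10))))))
theorem f68865 : Led Lsl_et (LP (LK LD1_c11 LD2_c14 LD3_c55)) = (LP (LK LD1_c5 LD2_c42 LD3_c21)) :=
  Lre_e IH (LK LD1_c11 LD2_c14 LD3_c55) (LK LD1_c5 LD2_c42 LD3_c21) Lrfl Lrfl
theorem f68866 : Led Lsl_et (LP (LK LD1_c3 LD2_c0 LD3_c17)) = (LP (LK LD1_c6 LD2_c8 LD3_c10)) :=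
  Lre_e IH (LK LD1_c3 LD2_c0 LD3_c17) (LK LD1_c6 LD2_c8 LD3_c10) Lrfl Lrfl
theorem f55950 : Led Lsl_dt (LP (LK LD1_c1 LD2_c25 LD3_c54)) = (LP (LK LD1_c3 LD2_c0 LD3_c17)) :=
  Lre_d IH (LK LD1_c1 LD2_c25 LD3_c54) (LK LD1_c3 LD2_c0 LD3_c17) Lrfl Lrfl
theorem f68868 : Led Lsl_dt (LP (LK LD1_c5 LD2_c42 LD3_c21)) = (LP (LK LD1_c3 LD2_c0 LD3_c18)) :=
  Lgr Lrot77 (Lpe (f68865 IH) (Lpr_df (f68834 IH) (Lpe (f68866 IH) (Lpe (f55950 IH) (Lpe (f68867 IH) (Lpn (LP (LK LD1_c3 LD2_c0 LD3_c18))))))))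
theorem f68878 : Led Lsl_df (LP (LK LD1_c5 LD2_c42 LD3_c21)) = (LP (LK LD1_c3 LD2_c0 LD3_c18)) :=
  Lgr Lrot38 (Lpr_dt (f68868 IH) (Lpn (LP (LK LD1_c3 LD2_c0 LD3_c18))))
theorem f536123 : Led Lsl_gt (LP (LK LD1_c5 LD2_c42 LD3_c21)) = K35.v2898 :=
  Lgr Lrot112 (Lpr_df (f68878 IH) (Lpr_et (f68867 IH) (Lpe (f427743 IH) (Lpr_ef (f427728 IH) (Lpr_dt (K27.f384037 IH) (Lpe (f381547 IH) (Lpe (f381125 IH) (Lpe (K30.f381124 IH) (Lpr_ef (f452565 IH) (Lpr_dt (K35.f536121 IH) (Lpn K35.v2898)))))))))))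
theorem f381767 : Led Lsl_ft (LP (LK LD1_c5 LD2_c43 LD3_c25)) = (LP (LK LD1_c2 LD2_c47 LD3_c43)) :=
  Lre_f IH (LK LD1_c5 LD2_c43 LD3_c25) (LK LD1_c2 LD2_c47 LD3_c43) Lrfl Lrfl
theorem f541732 : K35.v2898 = (LP (LK LD1_c2 LD2_c47 LD3_c39)) :=
  (Llr Lrot46 (Lpe (f536123 IH) (Lpr_gf (f541726 IH) (Lpr_ft (f381767 IH) (Lpe (K27.f381752 IH) (Lpn (LP (LK LD1_c2 LD2_c47 LD3_c39)))))))).symm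
theorem f541734 : K35.v387 = (LP (LK LD1_c1 LD2_c20 LD3_c8)) :=
  Lefun (Lecon (Lfl_df (K35.f536122 IH)) (f541732 IH)) (K27.f381455 IH)
theorem f541738 : K35.v1499 = (LP (LK LD1_c0 LD2_c37 LD3_c3)) :=
  Lefun (Lecon (K35.f495888 IH) (f541734 IH)) (K30.f171858 IH)
theorem f381696 : Led Lsl_et (LP (LK LD1_c2 LD2_c47 LD3_c49)) = (LP (LK LD1_c1 LD2_c20 LD3_c11)) :=
  Lre_e IH (LK LD1_c2 LD2_c47 LD3_c49) (LK LD1_c1 LD2_c20 LD3_c11) Lrfl Lrfl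
theorem f381728 : Led Lsl_et (LP (LK LD1_c1 LD2_c20 LD3_c13)) = (LP (LK LD1_c2 LD2_c47 LD3_c55)) :=
  Lre_e IH (LK LD1_c1 LD2_c20 LD3_c13) (LK LD1_c2 LD2_c47 LD3_c55) Lrfl Lrfl
theorem f541745 : Led Lsl_ff (LP (LK LD1_c2 LD2_c47 LD3_c49)) = (LP (LK LD1_c2 LD2_c47 LD3_c55)) :=
  Lgr Lrot72 (Lpr_et (f381696 IH) (Lpr_ft (K27.f381714 IH) (Lpq (f541738 IH) (Lpe (K35.f495887 IH) (Lpr_ft (K27.f381716 IH) (Lpr_et (f381728 IH) (Lpn (LP (LK LD1_c2 LD2_c47 LD3_c55)))))))))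
theorem f541751 : Led Lsl_ft (LP (LK LD1_c2 LD2_c47 LD3_c49)) = (LP (LK LD1_c2 LD2_c47 LD3_c55)) :=
  Lgr Lrot48 (Lpr_ff (f541745 IH) (Lpn (LP (LK LD1_c2 LD2_c47 LD3_c55))))
theorem f381697 : Led Lsl_dt (LP (LK LD1_c2 LD2_c47 LD3_c49)) = (LP (LK LD1_c5 LD2_c43 LD3_c37)) :=
  Lre_d IH (LK LD1_c2 LD2_c47 LD3_c49) (LK LD1_c5 LD2_c43 LD3_c37) Lrfl Lrfl
theorem f427519 : Led Lsl_gt (LP (LK LD1_c2 LD2_c48 LD3_c19)) = (LP (LK LD1_c1 LD2_c20 LD3_c22)) :=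
  Lre_g IH (LK LD1_c2 LD2_c48 LD3_c19) (LK LD1_c1 LD2_c20 LD3_c22) Lrfl Lrfl
theorem f426075 : Led Lsl_ct (LP (LK LD1_c0 LD2_c38 LD3_c42)) = (LP (LK LD1_c1 LD2_c23 LD3_c39)) :=
  Lre_c IH (LK LD1_c0 LD2_c38 LD3_c42) (LK LD1_c1 LD2_c23 LD3_c39) Lrfl Lrfl
theorem f81955 : Led Lsl_bt (LP (LK LD1_c2 LD2_c27 LD3_c4)) = (LP (LK LD1_c2 LD2_c53 LD3_c24)) :=
  Lre_b IH (LK LD1_c2 LD2_c27 LD3_c4) (LK LD1_c2 LD2_c53 LD3_c24) Lrfl Lrfl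
theorem f426076 : Led Lsl_bt (LP (LK LD1_c0 LD2_c38 LD3_c42)) = (LP (LK LD1_c0 LD2_c38 LD3_c44)) :=
  Lgr Lrot130 (Lpr_ct (f426075 IH) (Lpr_gf (K24.f426059 IH) (Lpe (K6.f81837 IH) (Lpr_bt (f81955 IH) (Lpe (K8.f158466 IH) (Lpe (K8.f139369 IH) (Lpe (K8.f139372 IH) (Lpr_gf (K8.f150384 IH) (Lpe (K8.f72585 IH) (Lpe (K8.f150382 IH) (Lpn (LP (LK LD1_c0 LD2_c38 LD3_c44)))))))))))))
theorem f427770 : Led Lsl_et (LP (LK LD1_c1 LD2_c23 LD3_c47)) = (LP (LK LD1_c0 LD2_c38 LD3_c42)) :=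
  Lre_e IH (LK LD1_c1 LD2_c23 LD3_c47) (LK LD1_c0 LD2_c38 LD3_c42) Lrfl Lrfl
theorem f150373 : Led Lsl_et (LP (LK LD1_c0 LD2_c38 LD3_c44)) = (LP (LK LD1_c1 LD2_c23 LD3_c53)) :=
  Lre_e IH (LK LD1_c0 LD2_c38 LD3_c44) (LK LD1_c1 LD2_c23 LD3_c53) Lrfl Lrfl
theorem f428253 : Led Lsl_bf (LP (LK LD1_c1 LD2_c23 LD3_c47)) = (LP (LK LD1_c1 LD2_c23 LD3_c53)) :=
  Lgr Lrot96 (Lpr_et (f427770 IH) (Lpr_bt (f426076 IH) (Lpr_et (f150373 IH) (Lpn (LP (LK LD1_c1 LD2_c23 LD3_c53))))))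
theorem f428256 : Led Lsl_bt (LP (LK LD1_c1 LD2_c23 LD3_c47)) = (LP (LK LD1_c1 LD2_c23 LD3_c53)) :=
  Lgr Lrot127 (Lpr_bf (f428253 IH) (Lpn (LP (LK LD1_c1 LD2_c23 LD3_c53))))
def v1669 : LQ := Led Lsl_et (LP (LK LD1_c1 LD2_c23 LD3_c39))
theorem f500656 : Led Lsl_et (LP (LK LD1_c1 LD2_c23 LD3_c39)) = v1669 :=
  Lrfl
theorem f500659 : Led Lsl_cf (LP (LK LD1_c1 LD2_c23 LD3_c47)) = v1669 :=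
  Lgr Lrot39 (Lpr_et (f427770 IH) (Lpr_ct (f426075 IH) (Lpr_et (f500656 IH) (Lpn v1669))))
def v1699 : LQ := Led Lsl_ft (LP (LK LD1_c1 LD2_c24 LD3_c12))
theorem f500903 : Led Lsl_ft (LP (LK LD1_c1 LD2_c24 LD3_c12)) = v1699 :=
  Lrfl
def v1695 : LQ := Led Lsl_at (LP (LK LD1_c1 LD2_c24 LD3_c12))
theorem f500875 : Led Lsl_at (LP (LK LD1_c1 LD2_c24 LD3_c12)) = v1695 :=
  Lrfl
theorem f500876 : Led Lsl_af (LP (LK LD1_c1 LD2_c24 LD3_c12)) = v1695 :=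
  Lgr Lrot0 (Lpr_at (f500875 IH) (Lpn v1695))
theorem f9394 : Led Lsl_gt (LP (LK LD1_c0 LD2_c38 LD3_c52)) = (LP (LK LD1_c1 LD2_c24 LD3_c12)) :=
  Lre_g IH (LK LD1_c0 LD2_c38 LD3_c52) (LK LD1_c1 LD2_c24 LD3_c12) Lrfl Lrfl
theorem f500877 : Led Lsl_ft (LP (LK LD1_c1 LD2_c24 LD3_c13)) = v1695 :=
  Lgr Lrot2 (Lpr_gt (K31.f176571 IH) (Lpr_gt (f9394 IH) (Lpr_af (f500876 IH) (Lpn v1695))))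
theorem f500904 : Led Lsl_af (LP (LK LD1_c1 LD2_c24 LD3_c13)) = v1699 :=
  Lgr Lrot45 (Lpr_ft (f500877 IH) (Lpe (f500876 IH) (Lpr_ft (f500903 IH) (Lpn v1699))))
theorem f500660 : Led Lsl_ef (LP (LK LD1_c1 LD2_c23 LD3_c39)) = v1669 :=
  Lgr Lrot88 (Lpr_et (f500656 IH) (Lpn v1669))
theorem f72547 : Led Lsl_at (LP (LK LD1_c1 LD2_c23 LD3_c39)) = (LP (LK LD1_c0 LD2_c38 LD3_c44)) :=
  Lre_a IH (LK LD1_c1 LD2_c23 LD3_c39) (LK LD1_c0 LD2_c38 LD3_c44) Lrfl Lrfl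
theorem f500661 : Led Lsl_at (LP (LK LD1_c1 LD2_c23 LD3_c53)) = v1669 :=
  Lgr Lrot80 (Lpe (f150373 IH) (Lpe (f72547 IH) (Lpr_ef (f500660 IH) (Lpn v1669))))
def v1679 : LQ := Led Lsl_ft (LP (LK LD1_c1 LD2_c23 LD3_c53))
theorem f500722 : Led Lsl_ft (LP (LK LD1_c1 LD2_c23 LD3_c53)) = v1679 :=
  Lrfl
theorem f500726 : Led Lsl_ff (LP (LK LD1_c1 LD2_c23 LD3_c53)) = v1679 :=
  Lgr Lrot3 (Lpr_ft (f500722 IH) (Lpn v1679))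
def v1672 : LQ := Led Lsl_et (LP (LK LD1_c1 LD2_c23 LD3_c46))
theorem f500685 : Led Lsl_et (LP (LK LD1_c1 LD2_c23 LD3_c46)) = v1672 :=
  Lrfl
theorem f386752 : Led Lsl_ft (LP (LK LD1_c0 LD2_c38 LD3_c41)) = (LP (LK LD1_c1 LD2_c23 LD3_c46)) :=
  Lre_f IH (LK LD1_c0 LD2_c38 LD3_c41) (LK LD1_c1 LD2_c23 LD3_c46) Lrfl Lrfl
theorem f74573 : Led Lsl_et (LP (LK LD1_c0 LD2_c17 LD3_c11)) = (LP (LK LD1_c0 LD2_c38 LD3_c41)) :=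
  Lre_e IH (LK LD1_c0 LD2_c17 LD3_c11) (LK LD1_c0 LD2_c38 LD3_c41) Lrfl Lrfl
theorem f426274 : Led Lsl_ft (LP (LK LD1_c0 LD2_c38 LD3_c42)) = (LP (LK LD1_c0 LD2_c17 LD3_c11)) :=
  Lre_f IH (LK LD1_c0 LD2_c38 LD3_c42) (LK LD1_c0 LD2_c17 LD3_c11) Lrfl Lrfl
theorem f500688 : Led Lsl_ff (LP (LK LD1_c1 LD2_c23 LD3_c47)) = v1672 :=
  Lgr Lrot72 (Lpr_et (f427770 IH) (Lpr_ft (f426274 IH) (Lpr_et (f74573 IH) (Lpr_ft (f386752 IH) (Lpr_et (f500685 IH) (Lpn v1672))))))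
theorem f500690 : Led Lsl_ft (LP (LK LD1_c1 LD2_c23 LD3_c47)) = v1672 :=
  Lgr Lrot48 (Lpr_ff (f500688 IH) (Lpn v1672))
theorem f500728 : Led Lsl_bt v1672 = v1679 :=
  Lgr Lrot35 (Lpe (f500690 IH) (Lpr_bf (f428253 IH) (Lpr_ff (f500726 IH) (Lpn v1679))))
def v1696 : LQ := Led Lsl_bt (LP (LK LD1_c1 LD2_c24 LD3_c12))
theorem f500882 : Led Lsl_bt (LP (LK LD1_c1 LD2_c24 LD3_c12)) = v1696 :=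
  Lrfl
theorem f500883 : Led Lsl_bf (LP (LK LD1_c1 LD2_c24 LD3_c12)) = v1696 :=
  Lgr Lrot24 (Lpr_bt (f500882 IH) (Lpn v1696))
theorem f24262 : Led Lsl_gt (LP (LK LD1_c1 LD2_c22 LD3_c32)) = (LP (LK LD1_c2 LD2_c52 LD3_c54)) :=
  Lre_g IH (LK LD1_c1 LD2_c22 LD3_c32) (LK LD1_c2 LD2_c52 LD3_c54) Lrfl Lrfl
def v1550 : LQ := Led Lsl_bt (LP (LK LD1_c1 LD2_c21 LD3_c35))
theorem f496211 : Led Lsl_bt (LP (LK LD1_c1 LD2_c21 LD3_c35)) = v1550 :=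
  Lrfl
theorem f198519 : Led Lsl_ef (LP (LK LD1_c1 LD2_c21 LD3_c35)) = (LP (LK LD1_c0 LD2_c38 LD3_c15)) :=
  Lgr Lrot17 (Lpr_gf (K11.f198517 IH) (Lpe (K11.f182481 IH) (Lpr_dt (K9.f182480 IH) (Lpe (K9.f182474 IH) (Lpe (K0.f8395 IH) (Lpr_gf (K9.f182468 IH) (Lpe (K16.f182482 IH) (Lpe (K16.f198511 IH) (Lpe (K16.f198505 IH) (Lpe (K16.f24258 IH) (Lpn (LP (LK LD1_c0 LD2_c38 LD3_c15)))))))))))))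
theorem f198497 : Led Lsl_bt (LP (LK LD1_c1 LD2_c22 LD3_c32)) = (LP (LK LD1_c0 LD2_c38 LD3_c15)) :=
  Lre_b IH (LK LD1_c1 LD2_c22 LD3_c32) (LK LD1_c0 LD2_c38 LD3_c15) Lrfl Lrfl
theorem f496213 : Led Lsl_ef (LP (LK LD1_c1 LD2_c22 LD3_c32)) = v1550 :=
  Lgr Lrot29 (Lpr_bt (f198497 IH) (Lpe (f198519 IH) (Lpr_bt (f496211 IH) (Lpn v1550))))
def v1664 : LQ := Led Lsl_bt (LP (LK LD1_c1 LD2_c23 LD3_c34))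
theorem f500627 : Led Lsl_bt (LP (LK LD1_c1 LD2_c23 LD3_c34)) = v1664 :=
  Lrfl
theorem f500629 : Led Lsl_bf (LP (LK LD1_c1 LD2_c23 LD3_c34)) = v1664 :=
  Lgr Lrot24 (Lpr_bt (f500627 IH) (Lpn v1664))
def v2801 : LQ := Led Lsl_gt K35.v338
theorem f535672 : Led Lsl_gt K35.v338 = v2801 :=
  Lrfl
theorem f74765 : Led Lsl_bt (LP (LK LD1_c0 LD2_c37 LD3_c61)) = (LP (LK LD1_c0 LD2_c16 LD3_c59)) :=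
  Lre_b IH (LK LD1_c0 LD2_c37 LD3_c61) (LK LD1_c0 LD2_c16 LD3_c59) Lrfl Lrfl
theorem f80888 : Led Lsl_ct (LP (LK LD1_c0 LD2_c37 LD3_c61)) = (LP (LK LD1_c0 LD2_c16 LD3_c61)) :=
  Lre_c IH (LK LD1_c0 LD2_c37 LD3_c61) (LK LD1_c0 LD2_c16 LD3_c61) Lrfl Lrfl
theorem f22817 : Led Lsl_gt (LP (LK LD1_c0 LD2_c38 LD3_c6)) = (LP (LK LD1_c0 LD2_c16 LD3_c61)) :=
  Lre_g IH (LK LD1_c0 LD2_c38 LD3_c6) (LK LD1_c0 LD2_c16 LD3_c61) Lrfl Lrfl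
def v427 : LQ := Led Lsl_ct (LP (LK LD1_c0 LD2_c38 LD3_c6))
theorem f452775 : Led Lsl_ct (LP (LK LD1_c0 LD2_c38 LD3_c6)) = v427 :=
  Lrfl
theorem f452776 : Led Lsl_cf (LP (LK LD1_c0 LD2_c38 LD3_c6)) = v427 :=
  Lgr Lrot11 (Lpr_ct (f452775 IH) (Lpn v427))
theorem f535675 : Led Lsl_bt v427 = v2801 :=
  Lgr Lrot92 (Lpe (f452776 IH) (Lpr_gt (f22817 IH) (Lpe (f80888 IH) (Lpr_bt (f74765 IH) (Lpr_gt (K12.f38629 IH) (Lpr_ct (K31.f2952 IH) (Lpe (K1.f37282 IH) (Lpe (K1.f6724 IH) (Lpr_bt (K35.f452242 IH) (Lpr_gt (f535672 IH) (Lpn v2801)))))))))))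
theorem f535677 : Led Lsl_cf v1664 = v2801 :=
  Lgr Lrot97 (Lpe (f500629 IH) (Lpr_ct (K7.f22819 IH) (Lpr_bt (K8.f22818 IH) (Lpr_ct (f452775 IH) (Lpr_bt (f535675 IH) (Lpn v2801))))))
theorem f225438 : Led Lsl_bt (LP (LK LD1_c0 LD2_c16 LD3_c29)) = (LP (LK LD1_c0 LD2_c36 LD3_c51)) :=
  Lre_b IH (LK LD1_c0 LD2_c16 LD3_c29) (LK LD1_c0 LD2_c36 LD3_c51) Lrfl Lrfl
theorem f452531 : Led Lsl_bf (LP (LK LD1_c0 LD2_c36 LD3_c57)) = K35.v380 :=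
  Lgr Lrot93 (Lpr_dt (K9.f9496 IH) (Lpr_bt (f225438 IH) (Lpr_dt (K35.f452530 IH) (Lpn K35.v380))))
theorem f536688 : K35.v380 = (LP (LK LD1_c0 LD2_c29 LD3_c24)) :=
  Lefun (Lecon (Lfl_gt (K35.f452759 IH)) (K35.f536638 IH).symm) (Lfl_gt (K1.f37984 IH))
theorem f536786 : (LP (LK LD1_c0 LD2_c36 LD3_c57)) = K35.v338 :=
  Lefun (Lecon (Lfl_bf (f452531 IH)) (f536688 IH)) (K35.f452242 IH)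
theorem f536963 : v2801 = (LP (LK LD1_c0 LD2_c37 LD3_c39)) :=
  Lefun (Lecon (f535672 IH) (f536786 IH).symm) (Lfl_gf (K9.f176829 IH))
theorem f537152 : v1664 = (LP (LK LD1_c1 LD2_c21 LD3_c35)) :=
  Lefun (Lecon (Lfl_cf (f535677 IH)) (f536963 IH)) (K11.f146332 IH)
theorem f537353 : (LP (LK LD1_c1 LD2_c23 LD3_c34)) = v1550 :=
  Lefun (Lecon (Lfl_bf (f500629 IH)) (f537152 IH)) (f496211 IH)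
theorem f495137 : Led Lsl_ft (LP (LK LD1_c4 LD2_c48 LD3_c49)) = (LP (LK LD1_c2 LD2_c22 LD3_c17)) :=
  Lre_f IH (LK LD1_c4 LD2_c48 LD3_c49) (LK LD1_c2 LD2_c22 LD3_c17) Lrfl Lrfl
theorem f427777 : Led Lsl_et (LP (LK LD1_c2 LD2_c22 LD3_c17)) = (LP (LK LD1_c1 LD2_c8 LD3_c17)) :=
  Lre_e IH (LK LD1_c2 LD2_c22 LD3_c17) (LK LD1_c1 LD2_c8 LD3_c17) Lrfl Lrfl
def v1365 : LQ := Led Lsl_ft (LP (LK LD1_c1 LD2_c8 LD3_c17))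
theorem f495135 : Led Lsl_ft (LP (LK LD1_c1 LD2_c8 LD3_c17)) = v1365 :=
  Lrfl
def v444 : LQ := Led Lsl_at (LP (LK LD1_c0 LD2_c38 LD3_c48))
theorem f452862 : Led Lsl_at (LP (LK LD1_c0 LD2_c38 LD3_c48)) = v444 :=
  Lrfl
theorem f452863 : Led Lsl_af (LP (LK LD1_c0 LD2_c38 LD3_c48)) = v444 :=
  Lgr Lrot0 (Lpr_at (f452862 IH) (Lpn v444))
theorem f495138 : Led Lsl_ff (LP (LK LD1_c1 LD2_c8 LD3_c17)) = v1365 :=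
  Lgr Lrot3 (Lpr_ft (f495135 IH) (Lpn v1365))
def v1364 : LQ := Led Lsl_at (LP (LK LD1_c1 LD2_c8 LD3_c17))
theorem f495129 : Led Lsl_at (LP (LK LD1_c1 LD2_c8 LD3_c17)) = v1364 :=
  Lrfl
theorem f495130 : Led Lsl_af (LP (LK LD1_c1 LD2_c8 LD3_c17)) = v1364 :=
  Lgr Lrot0 (Lpr_at (f495129 IH) (Lpn v1364))
theorem f495131 : Led Lsl_ft (LP (LK LD1_c1 LD2_c8 LD3_c18)) = v1364 :=
  Lgr Lrot2 (Lpr_gt (K3.f26571 IH) (Lpr_gt (K8.f56894 IH) (Lpr_af (f495130 IH) (Lpn v1364))))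
theorem f495133 : Led Lsl_ff (LP (LK LD1_c1 LD2_c8 LD3_c18)) = v1364 :=
  Lgr Lrot3 (Lpr_ft (f495131 IH) (Lpn v1364))
theorem f495139 : Led Lsl_at (LP (LK LD1_c1 LD2_c8 LD3_c18)) = v1365 :=
  Lgr Lrot66 (Lpr_ff (f495133 IH) (Lpe (f495129 IH) (Lpr_ff (f495138 IH) (Lpn v1365))))
def v457 : LQ := Led Lsl_gt (LP (LK LD1_c0 LD2_c39 LD3_c46))
theorem f452953 : Led Lsl_gt (LP (LK LD1_c0 LD2_c39 LD3_c46)) = v457 :=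
  Lrfl
theorem f452955 : Led Lsl_df (LP (LK LD1_c1 LD2_c8 LD3_c18)) = v457 :=
  Lgr Lrot153 (Lpr_gt (K3.f26571 IH) (Lpr_dt (K3.f26570 IH) (Lpe (K7.f20285 IH) (Lpe (K7.f26451 IH) (Lpe (K4.f26003 IH) (Lpe (K4.f104805 IH) (Lpe (K4.f72866 IH) (Lpe (K2.f72860 IH) (Lpr_gt (f452953 IH) (Lpn v457))))))))))
theorem f75523 : Led Lsl_at (LP (LK LD1_c1 LD2_c26 LD3_c0)) = (LP (LK LD1_c0 LD2_c39 LD3_c44)) :=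
  Lre_a IH (LK LD1_c1 LD2_c26 LD3_c0) (LK LD1_c0 LD2_c39 LD3_c44) Lrfl Lrfl
theorem f452864 : Led Lsl_df (LP (LK LD1_c1 LD2_c26 LD3_c0)) = v444 :=
  Lgr Lrot18 (Lpr_at (f75523 IH) (Lpe (K4.f75506 IH) (Lpr_at (f452862 IH) (Lpn v444))))
theorem f452865 : Led Lsl_dt (LP (LK LD1_c1 LD2_c26 LD3_c0)) = v444 :=
  Lgr Lrot42 (Lpr_df (f452864 IH) (Lpn v444))
theorem f21187 : Led Lsl_ct (LP (LK LD1_c0 LD2_c39 LD3_c44)) = (LP (LK LD1_c1 LD2_c26 LD3_c2)) :=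
  Lre_c IH (LK LD1_c0 LD2_c39 LD3_c44) (LK LD1_c1 LD2_c26 LD3_c2) Lrfl Lrfl
theorem f56285 : Led Lsl_ct (LP (LK LD1_c1 LD2_c24 LD3_c50)) = (LP (LK LD1_c0 LD2_c39 LD3_c46)) :=
  Lre_c IH (LK LD1_c1 LD2_c24 LD3_c50) (LK LD1_c0 LD2_c39 LD3_c46) Lrfl Lrfl
theorem f452957 : Led Lsl_ct (LP (LK LD1_c1 LD2_c26 LD3_c1)) = v457 :=
  Lgr Lrot63 (Lpr_bt (K32.f21184 IH) (Lpr_gt (K4.f72887 IH) (Lpe (K4.f72966 IH) (Lpr_ct (K4.f60359 IH) (Lpr_gt (K4.f72990 IH) (Lpe (K4.f60933 IH) (Lpr_bt (K4.f60932 IH) (Lpe (K4.f72858 IH) (Lpr_ct (f56285 IH) (Lpr_gt (f452953 IH) (Lpn v457)))))))))))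
theorem f501363 : (LP (LK LD1_c1 LD2_c26 LD3_c0)) = v457 :=
  (Llr Lrot68 (Lpr_at (f75523 IH) (Lpr_ct (f21187 IH) (Lpr_at (K32.f501357 IH) (Lpr_ct (f452957 IH) (Lpn v457)))))).symm
theorem f501377 : (LP (LK LD1_c1 LD2_c8 LD3_c18)) = v444 :=
  Lefun (Lecon (Lfl_df (f452955 IH)) (f501363 IH).symm) (f452865 IH)
theorem f501388 : (LP (LK LD1_c0 LD2_c38 LD3_c48)) = v1365 :=
  Lefun (Lecon (Lfl_af (f452863 IH)) (f501377 IH).symm) (f495139 IH)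
theorem f452881 : Led Lsl_ft (LP (LK LD1_c1 LD2_c24 LD3_c1)) = (LP (LK LD1_c2 LD2_c56 LD3_c19)) :=
  Lre_f IH (LK LD1_c1 LD2_c24 LD3_c1) (LK LD1_c2 LD2_c56 LD3_c19) Lrfl Lrfl
theorem f501425 : Led Lsl_ef (LP (LK LD1_c4 LD2_c48 LD3_c49)) = (LP (LK LD1_c2 LD2_c56 LD3_c19)) :=
  Lgr Lrot21 (Lpr_ft (f495137 IH) (Lpr_et (f427777 IH) (Lpr_ft (f495135 IH) (Lpq (f501388 IH) (Lpr_et (K32.f75528 IH) (Lpr_ft (f452881 IH) (Lpn (LP (LK LD1_c2 LD2_c56 LD3_c19)))))))))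
theorem f501444 : Led Lsl_et (LP (LK LD1_c4 LD2_c48 LD3_c49)) = (LP (LK LD1_c2 LD2_c56 LD3_c19)) :=
  Lgr Lrot87 (Lpr_ef (f501425 IH) (Lpn (LP (LK LD1_c2 LD2_c56 LD3_c19))))
theorem f56923 : Led Lsl_ct (LP (LK LD1_c9 LD2_c30 LD3_c6)) = (LP (LK LD1_c4 LD2_c48 LD3_c49)) :=
  Lre_c IH (LK LD1_c9 LD2_c30 LD3_c6) (LK LD1_c4 LD2_c48 LD3_c49) Lrfl Lrfl
theorem f501449 : Led Lsl_ct (LP (LK LD1_c2 LD2_c56 LD3_c19)) = (LP (LK LD1_c5 LD2_c59 LD3_c56)) :=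
  Lre_c IH (LK LD1_c2 LD2_c56 LD3_c19) (LK LD1_c5 LD2_c59 LD3_c56) Lrfl Lrfl
theorem f501450 : Led Lsl_ef (LP (LK LD1_c9 LD2_c30 LD3_c6)) = (LP (LK LD1_c5 LD2_c59 LD3_c56)) :=
  Lgr Lrot28 (Lpr_ct (f56923 IH) (Lpr_et (f501444 IH) (Lpr_ct (f501449 IH) (Lpn (LP (LK LD1_c5 LD2_c59 LD3_c56))))))
theorem f56929 : Led Lsl_bt (LP (LK LD1_c9 LD2_c30 LD3_c6)) = (LP (LK LD1_c17 LD2_c31 LD3_c18)) :=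
  Lre_b IH (LK LD1_c9 LD2_c30 LD3_c6) (LK LD1_c17 LD2_c31 LD3_c18) Lrfl Lrfl
theorem f501452 : Led Lsl_bt (LP (LK LD1_c11 LD2_c44 LD3_c10)) = (LP (LK LD1_c5 LD2_c59 LD3_c56)) :=
  Lre_b IH (LK LD1_c11 LD2_c44 LD3_c10) (LK LD1_c5 LD2_c59 LD3_c56) Lrfl Lrfl
theorem f501453 : Led Lsl_et (LP (LK LD1_c17 LD2_c31 LD3_c18)) = (LP (LK LD1_c11 LD2_c44 LD3_c10)) :=
  Lgr Lrot74 (Lpe (f56929 IH) (Lpr_ef (f501450 IH) (Lpe (f501452 IH) (Lpn (LP (LK LD1_c11 LD2_c44 LD3_c10))))))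
theorem f56946 : Led Lsl_ft (LP (LK LD1_c9 LD2_c30 LD3_c1)) = (LP (LK LD1_c17 LD2_c31 LD3_c18)) :=
  Lre_f IH (LK LD1_c9 LD2_c30 LD3_c1) (LK LD1_c17 LD2_c31 LD3_c18) Lrfl Lrfl
theorem f56970 : Led Lsl_et (LP (LK LD1_c4 LD2_c48 LD3_c45)) = (LP (LK LD1_c9 LD2_c30 LD3_c1)) :=
  Lre_e IH (LK LD1_c4 LD2_c48 LD3_c45) (LK LD1_c9 LD2_c30 LD3_c1) Lrfl Lrfl
theorem f501463 : Led Lsl_ft (LP (LK LD1_c11 LD2_c44 LD3_c10)) = (LP (LK LD1_c5 LD2_c59 LD3_c50)) :=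
  Lre_f IH (LK LD1_c11 LD2_c44 LD3_c10) (LK LD1_c5 LD2_c59 LD3_c50) Lrfl Lrfl
theorem f75583 : Led Lsl_et (LP (LK LD1_c5 LD2_c59 LD3_c50)) = (LP (LK LD1_c2 LD2_c56 LD3_c13)) :=
  Lre_e IH (LK LD1_c5 LD2_c59 LD3_c50) (LK LD1_c2 LD2_c56 LD3_c13) Lrfl Lrfl
theorem f501464 : Led Lsl_ff (LP (LK LD1_c4 LD2_c48 LD3_c45)) = (LP (LK LD1_c2 LD2_c56 LD3_c13)) :=
  Lgr Lrot72 (Lpr_et (f56970 IH) (Lpr_ft (f56946 IH) (Lpr_et (f501453 IH) (Lpr_ft (f501463 IH) (Lpr_et (f75583 IH) (Lpn (LP (LK LD1_c2 LD2_c56 LD3_c13))))))))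
theorem f56968 : Led Lsl_at (LP (LK LD1_c4 LD2_c48 LD3_c45)) = (LP (LK LD1_c9 LD2_c30 LD3_c0)) :=
  Lre_a IH (LK LD1_c4 LD2_c48 LD3_c45) (LK LD1_c9 LD2_c30 LD3_c0) Lrfl Lrfl
theorem f56953 : Led Lsl_at (LP (LK LD1_c9 LD2_c30 LD3_c0)) = (LP (LK LD1_c4 LD2_c48 LD3_c45)) :=
  Lre_a IH (LK LD1_c9 LD2_c30 LD3_c0) (LK LD1_c4 LD2_c48 LD3_c45) Lrfl Lrfl
theorem f56954 : Led Lsl_at (LP (LK LD1_c4 LD2_c59 LD3_c42)) = (LP (LK LD1_c9 LD2_c49 LD3_c51)) :=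
  Lre_a IH (LK LD1_c4 LD2_c59 LD3_c42) (LK LD1_c9 LD2_c49 LD3_c51) Lrfl Lrfl
theorem f56955 : Led Lsl_cf (LP (LK LD1_c9 LD2_c30 LD3_c0)) = (LP (LK LD1_c9 LD2_c49 LD3_c51)) :=
  Lgr Lrot1 (Lpr_at (f56953 IH) (Lpr_ct (K28.f56944 IH) (Lpr_at (f56954 IH) (Lpn (LP (LK LD1_c9 LD2_c49 LD3_c51))))))
theorem f80703 : Led Lsl_at (LP (LK LD1_c1 LD2_c57 LD3_c2)) = (LP (LK LD1_c4 LD2_c0 LD3_c36)) :=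
  Lre_a IH (LK LD1_c1 LD2_c57 LD3_c2) (LK LD1_c4 LD2_c0 LD3_c36) Lrfl Lrfl
theorem f80731 : Led Lsl_ft (LP (LK LD1_c1 LD2_c27 LD3_c51)) = (LP (LK LD1_c1 LD2_c57 LD3_c2)) :=
  Lgr Lrot101 (Lpe (K11.f80730 IH) (Lpr_ff (K11.f80723 IH) (Lpe (f80703 IH) (Lpn (LP (LK LD1_c1 LD2_c57 LD3_c2))))))
theorem f80750 : Led Lsl_gt (LP (LK LD1_c1 LD2_c27 LD3_c51)) = (LP (LK LD1_c3 LD2_c3 LD3_c42)) :=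
  Lre_g IH (LK LD1_c1 LD2_c27 LD3_c51) (LK LD1_c3 LD2_c3 LD3_c42) Lrfl Lrfl
theorem f80751 : Led Lsl_gt (LP (LK LD1_c3 LD2_c3 LD3_c42)) = (LP (LK LD1_c4 LD2_c0 LD3_c36)) :=
  Lgr Lrot46 (Lpe (f80750 IH) (Lpr_ft (f80731 IH) (Lpr_at (f80703 IH) (Lpn (LP (LK LD1_c4 LD2_c0 LD3_c36))))))
theorem f112702 : Led Lsl_gf (LP (LK LD1_c8 LD2_c48 LD3_c19)) = (LP (LK LD1_c11 LD2_c33 LD3_c31)) :=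
  Lgr Lrot129 (Lpr_cf (K5.f112446 IH) (Lpr_bt (K5.f79060 IH) (Lpe (K4.f112442 IH) (Lpe (K2.f81681 IH) (Lpr_ct (K2.f35960 IH) (Lpr_gt (K6.f112410 IH) (Lpe (K4.f112414 IH) (Lpr_bt (K4.f38247 IH) (Lpr_gt (K6.f112696 IH) (Lpr_ct (K2.f72114 IH) (Lpn (LP (LK LD1_c11 LD2_c33 LD3_c31)))))))))))))
theorem f420374 : Led Lsl_df (LP (LK LD1_c3 LD2_c3 LD3_c42)) = (LP (LK LD1_c4 LD2_c25 LD3_c22)) :=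
  Lgr Lrot155 (Lpr_gt (f80751 IH) (Lpr_ct (K11.f80698 IH) (Lpr_gt (K32.f202805 IH) (Lpe (K6.f133020 IH) (Lpr_dt (K5.f112453 IH) (Lpe (K8.f112436 IH) (Lpr_gf (f112702 IH) (Lpe (K2.f72114 IH) (Lpe (K6.f112696 IH) (Lpn (LP (LK LD1_c4 LD2_c25 LD3_c22))))))))))))
theorem f420376 : Led Lsl_bt (LP (LK LD1_c3 LD2_c3 LD3_c42)) = (LP (LK LD1_c6 LD2_c13 LD3_c42)) :=
  Lre_b IH (LK LD1_c3 LD2_c3 LD3_c42) (LK LD1_c6 LD2_c13 LD3_c42) Lrfl Lrfl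
theorem f420377 : Led Lsl_dt (LP (LK LD1_c6 LD2_c13 LD3_c42)) = (LP (LK LD1_c8 LD2_c48 LD3_c14)) :=
  Lgr Lrot79 (Lpe (f420376 IH) (Lpr_df (f420374 IH) (Lpe (K4.f38247 IH) (Lpn (LP (LK LD1_c8 LD2_c48 LD3_c14))))))
theorem f420384 : Led Lsl_df (LP (LK LD1_c6 LD2_c13 LD3_c42)) = (LP (LK LD1_c8 LD2_c48 LD3_c14)) :=
  Lgr Lrot38 (Lpr_dt (f420377 IH) (Lpn (LP (LK LD1_c8 LD2_c48 LD3_c14))))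
theorem f38127 : Led Lsl_dt (LP (LK LD1_c0 LD2_c40 LD3_c39)) = (LP (LK LD1_c1 LD2_c27 LD3_c52)) :=
  Lre_d IH (LK LD1_c0 LD2_c40 LD3_c39) (LK LD1_c1 LD2_c27 LD3_c52) Lrfl Lrfl
theorem f202035 : Led Lsl_gt (LP (LK LD1_c0 LD2_c30 LD3_c21)) = (LP (LK LD1_c0 LD2_c18 LD3_c12)) :=
  Lgr Lrot150 (Lpr_cf (K35.f80303 IH) (Lpr_gf (K11.f80830 IH) (Lpe (K4.f59621 IH) (Lpe (K2.f70225 IH) (Lpe (K2.f36627 IH) (Lpr_gt (K4.f59705 IH) (Lpr_ct (K11.f202015 IH) (Lpe (f38127 IH) (Lpe (K11.f80802 IH) (Lpn (LP (LK LD1_c0 LD2_c18 LD3_c12))))))))))))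
theorem f38134 : Led Lsl_ct (LP (LK LD1_c0 LD2_c40 LD3_c39)) = (LP (LK LD1_c0 LD2_c18 LD3_c12)) :=
  Lre_c IH (LK LD1_c0 LD2_c40 LD3_c39) (LK LD1_c0 LD2_c18 LD3_c12) Lrfl Lrfl
theorem f80749 : Led Lsl_bt (LP (LK LD1_c0 LD2_c40 LD3_c39)) = (LP (LK LD1_c1 LD2_c27 LD3_c51)) :=
  Lre_b IH (LK LD1_c0 LD2_c40 LD3_c39) (LK LD1_c1 LD2_c27 LD3_c51) Lrfl Lrfl
theorem f80755 : Led Lsl_bt (LP (LK LD1_c6 LD2_c13 LD3_c42)) = (LP (LK LD1_c3 LD2_c3 LD3_c42)) :=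
  Lre_b IH (LK LD1_c6 LD2_c13 LD3_c42) (LK LD1_c3 LD2_c3 LD3_c42) Lrfl Lrfl
theorem f420636 : Led Lsl_cf (LP (LK LD1_c4 LD2_c0 LD3_c35)) = (LP (LK LD1_c6 LD2_c13 LD3_c42)) :=
  Lgr Lrot160 (Lpr_gt (K5.f80681 IH) (Lpr_cf (K6.f80543 IH) (Lpr_bt (K11.f70235 IH) (Lpe (K11.f80830 IH) (Lpe (K35.f80303 IH) (Lpr_gt (f202035 IH) (Lpe (f38134 IH) (Lpr_bt (f80749 IH) (Lpr_gt (f80750 IH) (Lpe (f80755 IH) (Lpn (LP (LK LD1_c6 LD2_c13 LD3_c42)))))))))))))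
theorem f112679 : Led Lsl_dt (LP (LK LD1_c4 LD2_c0 LD3_c35)) = (LP (LK LD1_c7 LD2_c56 LD3_c60)) :=
  Lgr Lrot42 (Lpr_df (K5.f112675 IH) (Lpn (LP (LK LD1_c7 LD2_c56 LD3_c60))))
theorem f501477 : Led Lsl_df (LP (LK LD1_c9 LD2_c49 LD3_c51)) = (LP (LK LD1_c14 LD2_c59 LD3_c44)) :=
  Lgr Lrot177 (Lpe (f56955 IH) (Lpe (f56968 IH) (Lpr_ff (f501464 IH) (Lpr_dt (K4.f99241 IH) (Lpe (K4.f112423 IH) (Lpe (f420384 IH) (Lpe (f420636 IH) (Lpr_dt (f112679 IH) (Lpr_ct (K8.f72137 IH) (Lpn (LP (LK LD1_c14 LD2_c59 LD3_c44))))))))))))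
theorem f78396 : Led Lsl_ct (LP (LK LD1_c9 LD2_c25 LD3_c29)) = (LP (LK LD1_c4 LD2_c46 LD3_c25)) :=
  Lre_c IH (LK LD1_c9 LD2_c25 LD3_c29) (LK LD1_c4 LD2_c46 LD3_c25) Lrfl Lrfl
theorem f501485 : Led Lsl_gt (LP (LK LD1_c9 LD2_c49 LD3_c51)) = (LP (LK LD1_c9 LD2_c25 LD3_c29)) :=
  Lgr Lrot9 (Lpr_df (f501477 IH) (Lpe (K8.f138141 IH) (Lpr_ct (K8.f112462 IH) (Lpr_gt (K6.f112456 IH) (Lpe (K5.f112446 IH) (Lpr_df (K5.f112576 IH) (Lpe (K7.f78391 IH) (Lpe (K11.f78348 IH) (Lpe (f78396 IH) (Lpn (LP (LK LD1_c9 LD2_c25 LD3_c29))))))))))))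
theorem f97922 : Led Lsl_gt (LP (LK LD1_c3 LD2_c50 LD3_c47)) = (LP (LK LD1_c1 LD2_c52 LD3_c16)) :=
  Lre_g IH (LK LD1_c3 LD2_c50 LD3_c47) (LK LD1_c1 LD2_c52 LD3_c16) Lrfl Lrfl
theorem f97923 : Led Lsl_dt (LP (LK LD1_c7 LD2_c42 LD3_c40)) = (LP (LK LD1_c3 LD2_c50 LD3_c47)) :=
  Lre_d IH (LK LD1_c7 LD2_c42 LD3_c40) (LK LD1_c3 LD2_c50 LD3_c47) Lrfl Lrfl
theorem f97924 : Led Lsl_gf (LP (LK LD1_c3 LD2_c50 LD3_c58)) = (LP (LK LD1_c7 LD2_c42 LD3_c40)) :=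
  Lgr Lrot147 (Lpr_ct (K5.f17142 IH) (Lpe (K5.f92759 IH) (Lpr_ct (K5.f92757 IH) (Lpr_df (K5.f93016 IH) (Lpe (K3.f17387 IH) (Lpe (K3.f97907 IH) (Lpr_cf (K4.f97911 IH) (Lpe (f97922 IH) (Lpe (f97923 IH) (Lpn (LP (LK LD1_c7 LD2_c42 LD3_c40))))))))))))
theorem f120451 : Led Lsl_gt (LP (LK LD1_c4 LD2_c44 LD3_c3)) = (LP (LK LD1_c7 LD2_c42 LD3_c40)) :=
  Lgr Lrot5 (Lpr_ft (K4.f120443 IH) (Lpr_at (K4.f107376 IH) (Lpr_gf (f97924 IH) (Lpn (LP (LK LD1_c7 LD2_c42 LD3_c40))))))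
theorem f97927 : Led Lsl_ct (LP (LK LD1_c14 LD2_c32 LD3_c8)) = (LP (LK LD1_c7 LD2_c42 LD3_c40)) :=
  Lre_c IH (LK LD1_c14 LD2_c32 LD3_c8) (LK LD1_c7 LD2_c42 LD3_c40) Lrfl Lrfl
theorem f501491 : Led Lsl_bf (LP (LK LD1_c9 LD2_c49 LD3_c51)) = (LP (LK LD1_c14 LD2_c32 LD3_c8)) :=
  Lgr Lrot165 (Lpr_gt (f501485 IH) (Lpr_ct (f78396 IH) (Lpr_gt (K11.f78348 IH) (Lpe (K6.f78337 IH) (Lpr_bt (K5.f78387 IH) (Lpe (K2.f78120 IH) (Lpe (K5.f78397 IH) (Lpr_ct (K5.f78398 IH) (Lpr_gt (f120451 IH) (Lpe (f97927 IH) (Lpn (LP (LK LD1_c14 LD2_c32 LD3_c8)))))))))))))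
theorem f202971 : Led Lsl_gt (LP (LK LD1_c5 LD2_c58 LD3_c51)) = (LP (LK LD1_c11 LD2_c42 LD3_c5)) :=
  Lre_g IH (LK LD1_c5 LD2_c58 LD3_c51) (LK LD1_c11 LD2_c42 LD3_c5) Lrfl Lrfl
theorem f202972 : Led Lsl_at (LP (LK LD1_c11 LD2_c40 LD3_c15)) = (LP (LK LD1_c11 LD2_c42 LD3_c5)) :=
  Lgr Lrot26 (Lpr_ff (K28.f202964 IH) (Lpr_gt (K28.f150369 IH) (Lpr_gt (f202971 IH) (Lpn (LP (LK LD1_c11 LD2_c42 LD3_c5))))))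
theorem f202961 : Led Lsl_df (LP (LK LD1_c9 LD2_c9 LD3_c39)) = (LP (LK LD1_c11 LD2_c42 LD3_c6)) :=
  Lgr Lrot38 (Lpr_dt (K28.f202959 IH) (Lpn (LP (LK LD1_c11 LD2_c42 LD3_c6))))
theorem f112463 : Led Lsl_dt (LP (LK LD1_c4 LD2_c36 LD3_c55)) = (LP (LK LD1_c2 LD2_c15 LD3_c41)) :=
  Lre_d IH (LK LD1_c4 LD2_c36 LD3_c55) (LK LD1_c2 LD2_c15 LD3_c41) Lrfl Lrfl
theorem f110356 : Led Lsl_gt (LP (LK LD1_c4 LD2_c40 LD3_c32)) = (LP (LK LD1_c9 LD2_c16 LD3_c26)) :=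
  Lre_g IH (LK LD1_c4 LD2_c40 LD3_c32) (LK LD1_c9 LD2_c16 LD3_c26) Lrfl Lrfl
theorem f137965 : Led Lsl_df (LP (LK LD1_c9 LD2_c25 LD3_c35)) = (LP (LK LD1_c9 LD2_c16 LD3_c26)) :=
  Lgr Lrot183 (Lpe (K6.f137951 IH) (Lpr_bt (K6.f137953 IH) (Lpr_gt (K6.f137959 IH) (Lpr_dt (K2.f56748 IH) (Lpr_ct (K2.f56747 IH) (Lpr_bt (K2.f56746 IH) (Lpr_gt (K1.f20865 IH) (Lpr_dt (K1.f20556 IH) (Lpe (K1.f56671 IH) (Lpr_bt (K2.f56679 IH) (Lpe (K3.f104287 IH) (Lpr_dt (K4.f26165 IH) (Lpr_ct (K3.f24311 IH) (Lpe (K28.f107533 IH) (Lpr_gt (K3.f107527 IH) (Lpr_dt (K4.f102296 IH) (Lpr_ct (K4.f110341 IH) (Lpr_bt (K28.f110345 IH) (Lpr_gt (f110356 IH) (Lpn (LP (LK LD1_c9 LD2_c16 LD3_c26))))))))))))))))))))))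
theorem f137969 : Led Lsl_dt (LP (LK LD1_c9 LD2_c25 LD3_c35)) = (LP (LK LD1_c9 LD2_c16 LD3_c26)) :=
  Lgr Lrot42 (Lpr_df (f137965 IH) (Lpn (LP (LK LD1_c9 LD2_c16 LD3_c26))))
theorem f202974 : Led Lsl_cf (LP (LK LD1_c11 LD2_c42 LD3_c5)) = (LP (LK LD1_c9 LD2_c16 LD3_c26)) :=
  Lgr Lrot102 (Lpe (f202972 IH) (Lpr_ff (K28.f202964 IH) (Lpe (f202961 IH) (Lpr_ct (K8.f112462 IH) (Lpr_dt (f112463 IH) (Lpr_ct (K6.f72274 IH) (Lpr_dt (K6.f137913 IH) (Lpr_ct (K6.f137954 IH) (Lpr_dt (f137969 IH) (Lpn (LP (LK LD1_c9 LD2_c16 LD3_c26))))))))))))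
theorem f142224 : Led Lsl_at (LP (LK LD1_c9 LD2_c9 LD3_c37)) = (LP (LK LD1_c4 LD2_c36 LD3_c55)) :=
  Lre_a IH (LK LD1_c9 LD2_c9 LD3_c37) (LK LD1_c4 LD2_c36 LD3_c55) Lrfl Lrfl
theorem f142228 : Led Lsl_gf (LP (LK LD1_c9 LD2_c9 LD3_c38)) = (LP (LK LD1_c8 LD2_c1 LD3_c15)) :=
  Lgr Lrot47 (Lpr_gt (K24.f100225 IH) (Lpe (f142224 IH) (Lpr_ff (K8.f142222 IH) (Lpn (LP (LK LD1_c8 LD2_c1 LD3_c15))))))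
theorem f118927 : Led Lsl_at (LP (LK LD1_c5 LD2_c56 LD3_c7)) = (LP (LK LD1_c9 LD2_c9 LD3_c38)) :=
  Lgr Lrot66 (Lpr_ff (K5.f118899 IH) (Lpe (K5.f118912 IH) (Lpr_ff (K24.f118925 IH) (Lpn (LP (LK LD1_c9 LD2_c9 LD3_c38))))))
theorem f142230 : Led Lsl_gt (LP (LK LD1_c6 LD2_c24 LD3_c24)) = (LP (LK LD1_c8 LD2_c1 LD3_c15)) :=
  Lgr Lrot5 (Lpe (K5.f118899 IH) (Lpr_at (f118927 IH) (Lpr_gf (f142228 IH) (Lpn (LP (LK LD1_c8 LD2_c1 LD3_c15))))))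
theorem f202985 : Led Lsl_df (LP (LK LD1_c11 LD2_c42 LD3_c5)) = (LP (LK LD1_c15 LD2_c6 LD3_c8)) :=
  Lgr Lrot162 (Lpr_cf (f202974 IH) (Lpe (f110356 IH) (Lpe (K6.f110923 IH) (Lpr_gf (K6.f110936 IH) (Lpe (K5.f81606 IH) (Lpe (f112702 IH) (Lpr_ct (K8.f112436 IH) (Lpr_gt (f142230 IH) (Lpr_ct (K28.f142216 IH) (Lpn (LP (LK LD1_c15 LD2_c6 LD3_c8))))))))))))
theorem f202978 : Led Lsl_ct (LP (LK LD1_c11 LD2_c42 LD3_c5)) = (LP (LK LD1_c9 LD2_c16 LD3_c26)) :=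
  Lgr Lrot59 (Lpr_cf (f202974 IH) (Lpn (LP (LK LD1_c9 LD2_c16 LD3_c26))))
theorem f118979 : Led Lsl_ct (LP (LK LD1_c4 LD2_c46 LD3_c25)) = (LP (LK LD1_c9 LD2_c25 LD3_c29)) :=
  Lre_c IH (LK LD1_c4 LD2_c46 LD3_c25) (LK LD1_c9 LD2_c25 LD3_c29) Lrfl Lrfl
theorem f159085 : Led Lsl_bt (LP (LK LD1_c3 LD2_c57 LD3_c55)) = (LP (LK LD1_c7 LD2_c57 LD3_c8)) :=
  Lre_b IH (LK LD1_c3 LD2_c57 LD3_c55) (LK LD1_c7 LD2_c57 LD3_c8) Lrfl Lrfl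
theorem f159120 : Led Lsl_ff (LP (LK LD1_c9 LD2_c9 LD3_c25)) = (LP (LK LD1_c7 LD2_c57 LD3_c8)) :=
  Lgr Lrot25 (Lpr_bt (K6.f137953 IH) (Lpr_ft (K31.f159116 IH) (Lpr_bt (f159085 IH) (Lpn (LP (LK LD1_c7 LD2_c57 LD3_c8))))))
theorem f137912 : Led Lsl_dt (LP (LK LD1_c9 LD2_c9 LD3_c25)) = (LP (LK LD1_c4 LD2_c36 LD3_c43)) :=
  Lre_d IH (LK LD1_c9 LD2_c9 LD3_c25) (LK LD1_c4 LD2_c36 LD3_c43) Lrfl Lrfl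
theorem f159125 : Led Lsl_ft (LP (LK LD1_c4 LD2_c36 LD3_c43)) = (LP (LK LD1_c3 LD2_c57 LD3_c54)) :=
  Lgr Lrot54 (Lpe (f137912 IH) (Lpr_ff (f159120 IH) (Lpe (K28.f112561 IH) (Lpn (LP (LK LD1_c3 LD2_c57 LD3_c54))))))
theorem f159128 : Led Lsl_at (LP (LK LD1_c3 LD2_c57 LD3_c54)) = (LP (LK LD1_c7 LD2_c57 LD3_c7)) :=
  Lre_a IH (LK LD1_c3 LD2_c57 LD3_c54) (LK LD1_c7 LD2_c57 LD3_c7) Lrfl Lrfl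
theorem f159214 : Led Lsl_gt (LP (LK LD1_c7 LD2_c56 LD3_c56)) = (LP (LK LD1_c7 LD2_c57 LD3_c7)) :=
  Lgr Lrot46 (Lpr_gf (K8.f159211 IH) (Lpr_ft (f159125 IH) (Lpr_at (f159128 IH) (Lpn (LP (LK LD1_c7 LD2_c57 LD3_c7))))))
theorem f99633 : Led Lsl_bt (LP (LK LD1_c1 LD2_c4 LD3_c57)) = (LP (LK LD1_c2 LD2_c15 LD3_c55)) :=
  Lre_b IH (LK LD1_c1 LD2_c4 LD3_c57) (LK LD1_c2 LD2_c15 LD3_c55) Lrfl Lrfl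
theorem f141391 : Led Lsl_at (LP (LK LD1_c2 LD2_c15 LD3_c44)) = (LP (LK LD1_c1 LD2_c4 LD3_c57)) :=
  Lre_a IH (LK LD1_c2 LD2_c15 LD3_c44) (LK LD1_c1 LD2_c4 LD3_c57) Lrfl Lrfl
theorem f142165 : Led Lsl_bt (LP (LK LD1_c1 LD2_c56 LD3_c50)) = (LP (LK LD1_c4 LD2_c0 LD3_c7)) :=
  Lre_b IH (LK LD1_c1 LD2_c56 LD3_c50) (LK LD1_c4 LD2_c0 LD3_c7) Lrfl Lrfl
theorem f142166 : Led Lsl_af (LP (LK LD1_c4 LD2_c36 LD3_c57)) = (LP (LK LD1_c4 LD2_c0 LD3_c7)) :=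
  Lgr Lrot36 (Lpr_bt (K8.f142134 IH) (Lpr_at (f141391 IH) (Lpr_bt (f99633 IH) (Lpr_at (K8.f142161 IH) (Lpr_bt (f142165 IH) (Lpn (LP (LK LD1_c4 LD2_c0 LD3_c7))))))))
theorem f159207 : Led Lsl_cf (LP (LK LD1_c4 LD2_c0 LD3_c7)) = (LP (LK LD1_c7 LD2_c57 LD3_c7)) :=
  Lgr Lrot1 (Lpe (f142166 IH) (Lpr_ct (K8.f159204 IH) (Lpr_at (f159128 IH) (Lpn (LP (LK LD1_c7 LD2_c57 LD3_c7))))))
theorem f142218 : Led Lsl_dt (LP (LK LD1_c8 LD2_c1 LD3_c15)) = (LP (LK LD1_c4 LD2_c0 LD3_c7)) :=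
  Lre_d IH (LK LD1_c8 LD2_c1 LD3_c15) (LK LD1_c4 LD2_c0 LD3_c7) Lrfl Lrfl
theorem f159216 : Led Lsl_gt (LP (LK LD1_c11 LD2_c43 LD3_c47)) = (LP (LK LD1_c15 LD2_c6 LD3_c8)) :=
  Lgr Lrot150 (Lpe (K4.f112596 IH) (Lpe (K4.f37457 IH) (Lpe (K4.f37077 IH) (Lpr_gt (K6.f36940 IH) (Lpr_ct (K6.f37050 IH) (Lpr_gt (f159214 IH) (Lpe (f159207 IH) (Lpe (f142218 IH) (Lpe (K8.f142206 IH) (Lpn (LP (LK LD1_c15 LD2_c6 LD3_c8))))))))))))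
theorem f202987 : Led Lsl_gt (LP (LK LD1_c9 LD2_c25 LD3_c29)) = (LP (LK LD1_c5 LD2_c59 LD3_c36)) :=
  Lgr Lrot94 (Lpe (f118979 IH) (Lpr_gt (K11.f78348 IH) (Lpr_dt (K5.f112452 IH) (Lpr_gt (K6.f78593 IH) (Lpr_dt (f137969 IH) (Lpe (f202978 IH) (Lpr_df (f202985 IH) (Lpe (f159216 IH) (Lpe (K5.f99242 IH) (Lpn (LP (LK LD1_c5 LD2_c59 LD3_c36))))))))))))
theorem f112425 : Led Lsl_at (LP (LK LD1_c11 LD2_c43 LD3_c46)) = (LP (LK LD1_c5 LD2_c59 LD3_c36)) :=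
  Lre_a IH (LK LD1_c11 LD2_c43 LD3_c46) (LK LD1_c5 LD2_c59 LD3_c36) Lrfl Lrfl
theorem f501489 : Led Lsl_ft (LP (LK LD1_c9 LD2_c49 LD3_c51)) = (LP (LK LD1_c11 LD2_c43 LD3_c46)) :=
  Lgr Lrot2 (Lpr_gt (f501485 IH) (Lpr_gt (f202987 IH) (Lpe (f112425 IH) (Lpn (LP (LK LD1_c11 LD2_c43 LD3_c46))))))
theorem f78124 : Led Lsl_bt (LP (LK LD1_c2 LD2_c19 LD3_c59)) = (LP (LK LD1_c4 LD2_c44 LD3_c3)) :=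
  Lre_b IH (LK LD1_c2 LD2_c19 LD3_c59) (LK LD1_c4 LD2_c44 LD3_c3) Lrfl Lrfl
theorem f97928 : Led Lsl_ct (LP (LK LD1_c7 LD2_c42 LD3_c40)) = (LP (LK LD1_c14 LD2_c32 LD3_c8)) :=
  Lre_c IH (LK LD1_c7 LD2_c42 LD3_c40) (LK LD1_c14 LD2_c32 LD3_c8) Lrfl Lrfl
theorem f205910 : Led Lsl_gf (LP (LK LD1_c9 LD2_c49 LD3_c42)) = (LP (LK LD1_c14 LD2_c32 LD3_c8)) :=
  Lgr Lrot129 (Lpr_cf (K32.f205901 IH) (Lpr_bt (K32.f144034 IH) (Lpr_gt (K11.f57451 IH) (Lpe (K6.f57246 IH) (Lpr_ct (K7.f62587 IH) (Lpe (K6.f144022 IH) (Lpe (K3.f78115 IH) (Lpr_bt (f78124 IH) (Lpr_gt (f120451 IH) (Lpr_ct (f97928 IH) (Lpn (LP (LK LD1_c14 LD2_c32 LD3_c8)))))))))))))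
theorem f136405 : Led Lsl_at (LP (LK LD1_c9 LD2_c49 LD3_c43)) = (LP (LK LD1_c4 LD2_c59 LD3_c39)) :=
  Lre_a IH (LK LD1_c9 LD2_c49 LD3_c43) (LK LD1_c4 LD2_c59 LD3_c39) Lrfl Lrfl
theorem f205912 : Led Lsl_ff (LP (LK LD1_c9 LD2_c49 LD3_c43)) = (LP (LK LD1_c14 LD2_c32 LD3_c8)) :=
  Lgr Lrot52 (Lpr_at (f136405 IH) (Lpe (K32.f136414 IH) (Lpr_gf (f205910 IH) (Lpn (LP (LK LD1_c14 LD2_c32 LD3_c8))))))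
theorem f205922 : Led Lsl_ft (LP (LK LD1_c9 LD2_c49 LD3_c43)) = (LP (LK LD1_c14 LD2_c32 LD3_c8)) :=
  Lgr Lrot48 (Lpr_ff (f205912 IH) (Lpn (LP (LK LD1_c14 LD2_c32 LD3_c8))))
theorem f501495 : Led Lsl_bt (LP (LK LD1_c11 LD2_c43 LD3_c46)) = (LP (LK LD1_c9 LD2_c49 LD3_c43)) :=
  Lgr Lrot35 (Lpe (f501489 IH) (Lpr_bf (f501491 IH) (Lpe (f205922 IH) (Lpn (LP (LK LD1_c9 LD2_c49 LD3_c43))))))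
theorem f501500 : Led Lsl_bf (LP (LK LD1_c11 LD2_c43 LD3_c46)) = (LP (LK LD1_c9 LD2_c49 LD3_c43)) :=
  Lgr Lrot24 (Lpr_bt (f501495 IH) (Lpn (LP (LK LD1_c9 LD2_c49 LD3_c43))))
theorem f501493 : Led Lsl_bt (LP (LK LD1_c9 LD2_c49 LD3_c51)) = (LP (LK LD1_c14 LD2_c32 LD3_c8)) :=
  Lgr Lrot127 (Lpr_bf (f501491 IH) (Lpn (LP (LK LD1_c14 LD2_c32 LD3_c8))))
theorem f501506 : Led Lsl_ft (LP (LK LD1_c11 LD2_c43 LD3_c46)) = (LP (LK LD1_c9 LD2_c49 LD3_c51)) :=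
  Lgr Lrot75 (Lpr_bf (f501500 IH) (Lpr_ff (f205912 IH) (Lpe (f501493 IH) (Lpn (LP (LK LD1_c9 LD2_c49 LD3_c51))))))
theorem f56959 : Led Lsl_at (LP (LK LD1_c9 LD2_c49 LD3_c51)) = (LP (LK LD1_c4 LD2_c59 LD3_c42)) :=
  Lre_a IH (LK LD1_c9 LD2_c49 LD3_c51) (LK LD1_c4 LD2_c59 LD3_c42) Lrfl Lrfl
theorem f203269 : Led Lsl_cf (LP (LK LD1_c8 LD2_c47 LD3_c4)) = (LP (LK LD1_c12 LD2_c6 LD3_c14)) :=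
  Lgr Lrot166 (Lpr_gt (K6.f81588 IH) (Lpr_dt (K5.f81594 IH) (Lpr_gt (K28.f81601 IH) (Lpr_dt (K28.f137591 IH) (Lpe (K6.f70497 IH) (Lpe (K6.f38518 IH) (Lpe (K28.f203267 IH) (Lpe (K28.f112560 IH) (Lpr_gf (K28.f203265 IH) (Lpn (LP (LK LD1_c12 LD2_c6 LD3_c14))))))))))))
theorem f137916 : Led Lsl_df (LP (LK LD1_c4 LD2_c24 LD3_c47)) = (LP (LK LD1_c3 LD2_c57 LD3_c38)) :=
  Lgr Lrot38 (Lpr_dt (K6.f137910 IH) (Lpn (LP (LK LD1_c3 LD2_c57 LD3_c38))))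
theorem f420372 : Led Lsl_dt (LP (LK LD1_c3 LD2_c3 LD3_c43)) = (LP (LK LD1_c4 LD2_c25 LD3_c23)) :=
  Lgr Lrot57 (Lpr_gf (K11.f80737 IH) (Lpr_cf (K11.f80678 IH) (Lpr_gt (K32.f202805 IH) (Lpe (f137916 IH) (Lpr_gt (K6.f36028 IH) (Lpr_dt (K2.f35982 IH) (Lpe (K5.f37992 IH) (Lpe (K4.f38515 IH) (Lpe (K28.f38248 IH) (Lpn (LP (LK LD1_c4 LD2_c25 LD3_c23))))))))))))
theorem f420388 : Led Lsl_df (LP (LK LD1_c3 LD2_c3 LD3_c43)) = (LP (LK LD1_c4 LD2_c25 LD3_c23)) :=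
  Lgr Lrot38 (Lpr_dt (f420372 IH) (Lpn (LP (LK LD1_c4 LD2_c25 LD3_c23))))
theorem f501510 : Led Lsl_dt (LP (LK LD1_c11 LD2_c43 LD3_c46)) = (LP (LK LD1_c8 LD2_c48 LD3_c17)) :=
  Lgr Lrot159 (Lpr_ft (f501506 IH) (Lpr_at (f56959 IH) (Lpe (K28.f56944 IH) (Lpe (K6.f137925 IH) (Lpr_cf (f203269 IH) (Lpe (K28.f80740 IH) (Lpe (K28.f80739 IH) (Lpr_df (f420388 IH) (Lpe (K28.f70383 IH) (Lpn (LP (LK LD1_c8 LD2_c48 LD3_c17))))))))))))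
theorem f159123 : Led Lsl_ft (LP (LK LD1_c9 LD2_c25 LD3_c35)) = (LP (LK LD1_c14 LD2_c59 LD3_c59)) :=
  Lgr Lrot4 (Lpe (K6.f137954 IH) (Lpr_ff (f159120 IH) (Lpe (K28.f112549 IH) (Lpn (LP (LK LD1_c14 LD2_c59 LD3_c59))))))
theorem f159130 : Led Lsl_ff (LP (LK LD1_c9 LD2_c16 LD3_c26)) = (LP (LK LD1_c9 LD2_c22 LD3_c28)) :=
  Lgr Lrot19 (Lpe (f137965 IH) (Lpr_ft (f159123 IH) (Lpr_dt (K28.f112563 IH) (Lpn (LP (LK LD1_c9 LD2_c22 LD3_c28))))))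
theorem f138037 : Led Lsl_ft (LP (LK LD1_c4 LD2_c46 LD3_c28)) = (LP (LK LD1_c8 LD2_c46 LD3_c4)) :=
  Lgr Lrot4 (Lpe (K6.f137936 IH) (Lpr_ff (K8.f138033 IH) (Lpe (K5.f81100 IH) (Lpn (LP (LK LD1_c8 LD2_c46 LD3_c4))))))
theorem f36031 : Led Lsl_ct (LP (LK LD1_c4 LD2_c24 LD3_c47)) = (LP (LK LD1_c8 LD2_c47 LD3_c1)) :=
  Lre_c IH (LK LD1_c4 LD2_c24 LD3_c47) (LK LD1_c8 LD2_c47 LD3_c1) Lrfl Lrfl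
theorem f138632 : Led Lsl_af (LP (LK LD1_c8 LD2_c47 LD3_c1)) = (LP (LK LD1_c8 LD2_c46 LD3_c4)) :=
  Lgr Lrot109 (Lpe (f36031 IH) (Lpr_df (f137916 IH) (Lpe (K8.f133013 IH) (Lpe (K5.f112460 IH) (Lpe (K8.f112436 IH) (Lpr_df (K5.f112576 IH) (Lpe (K7.f78391 IH) (Lpe (K8.f78392 IH) (Lpr_ft (f138037 IH) (Lpn (LP (LK LD1_c8 LD2_c46 LD3_c4))))))))))))
theorem f138646 : Led Lsl_gf (LP (LK LD1_c8 LD2_c47 LD3_c1)) = (LP (LK LD1_c9 LD2_c25 LD3_c35)) :=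
  Lgr Lrot76 (Lpr_af (f138632 IH) (Lpe (f138037 IH) (Lpr_gt (K6.f78593 IH) (Lpn (LP (LK LD1_c9 LD2_c25 LD3_c35))))))
theorem f119001 : Led Lsl_at (LP (LK LD1_c8 LD2_c46 LD3_c7)) = (LP (LK LD1_c4 LD2_c46 LD3_c28)) :=
  Lgr Lrot100 (Lpr_af (K5.f118951 IH) (Lpn (LP (LK LD1_c4 LD2_c46 LD3_c28))))
theorem f138644 : Led Lsl_ft (LP (LK LD1_c8 LD2_c47 LD3_c1)) = (LP (LK LD1_c8 LD2_c46 LD3_c7)) :=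
  Lgr Lrot101 (Lpr_af (f138632 IH) (Lpe (f138037 IH) (Lpe (f119001 IH) (Lpn (LP (LK LD1_c8 LD2_c46 LD3_c7))))))
theorem f78393 : Led Lsl_gt (LP (LK LD1_c9 LD2_c25 LD3_c36)) = (LP (LK LD1_c4 LD2_c46 LD3_c28)) :=
  Lre_g IH (LK LD1_c9 LD2_c25 LD3_c36) (LK LD1_c4 LD2_c46 LD3_c28) Lrfl Lrfl
theorem f138654 : Led Lsl_gt (LP (LK LD1_c8 LD2_c47 LD3_c1)) = (LP (LK LD1_c9 LD2_c25 LD3_c36)) :=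
  Lgr Lrot5 (Lpr_ft (f138644 IH) (Lpr_at (f119001 IH) (Lpe (f78393 IH) (Lpn (LP (LK LD1_c9 LD2_c25 LD3_c36))))))
theorem f159134 : Led Lsl_af (LP (LK LD1_c9 LD2_c25 LD3_c36)) = (LP (LK LD1_c14 LD2_c59 LD3_c59)) :=
  Lgr Lrot31 (Lpe (f138654 IH) (Lpr_gf (f138646 IH) (Lpr_ft (f159123 IH) (Lpn (LP (LK LD1_c14 LD2_c59 LD3_c59))))))
theorem f159136 : Led Lsl_at (LP (LK LD1_c9 LD2_c25 LD3_c36)) = (LP (LK LD1_c14 LD2_c59 LD3_c59)) :=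
  Lgr Lrot100 (Lpr_af (f159134 IH) (Lpn (LP (LK LD1_c14 LD2_c59 LD3_c59))))
theorem f81101 : Led Lsl_gt (LP (LK LD1_c16 LD2_c24 LD3_c17)) = (LP (LK LD1_c8 LD2_c46 LD3_c4)) :=
  Lre_g IH (LK LD1_c16 LD2_c24 LD3_c17) (LK LD1_c8 LD2_c46 LD3_c4) Lrfl Lrfl
theorem f159139 : Led Lsl_ff (LP (LK LD1_c9 LD2_c25 LD3_c36)) = (LP (LK LD1_c16 LD2_c24 LD3_c17)) :=
  Lgr Lrot52 (Lpr_at (f159136 IH) (Lpr_gf (K5.f112554 IH) (Lpe (f81101 IH) (Lpn (LP (LK LD1_c16 LD2_c24 LD3_c17))))))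
theorem f159143 : Led Lsl_ft (LP (LK LD1_c9 LD2_c25 LD3_c36)) = (LP (LK LD1_c16 LD2_c24 LD3_c17)) :=
  Lgr Lrot48 (Lpr_ff (f159139 IH) (Lpn (LP (LK LD1_c16 LD2_c24 LD3_c17))))
theorem f159145 : Led Lsl_af (LP (LK LD1_c9 LD2_c25 LD3_c35)) = (LP (LK LD1_c16 LD2_c24 LD3_c17)) :=
  Lgr Lrot45 (Lpr_ft (f159123 IH) (Lpe (f159134 IH) (Lpr_ft (f159143 IH) (Lpn (LP (LK LD1_c16 LD2_c24 LD3_c17))))))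
theorem f150063 : Led Lsl_df (LP (LK LD1_c7 LD2_c56 LD3_c42)) = (LP (LK LD1_c3 LD2_c57 LD3_c41)) :=
  Lgr Lrot78 (Lpe (K7.f150044 IH) (Lpe (K6.f137894 IH) (Lpr_ft (K7.f150057 IH) (Lpn (LP (LK LD1_c3 LD2_c57 LD3_c41))))))
theorem f102987 : Led Lsl_ct (LP (LK LD1_c2 LD2_c21 LD3_c20)) = (LP (LK LD1_c2 LD2_c20 LD3_c33)) :=
  Lgr Lrot8 (Lpr_gt (K3.f13768 IH) (Lpr_dt (K3.f13780 IH) (Lpr_gt (K3.f60998 IH) (Lpr_dt (K3.f78092 IH) (Lpe (K5.f78517 IH) (Lpe (K3.f78340 IH) (Lpr_gf (K3.f102969 IH) (Lpr_df (K3.f102971 IH) (Lpe (K3.f102963 IH) (Lpn (LP (LK LD1_c2 LD2_c20 LD3_c33))))))))))))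
theorem f150037 : Led Lsl_cf (LP (LK LD1_c4 LD2_c46 LD3_c52)) = (LP (LK LD1_c7 LD2_c56 LD3_c42)) :=
  Lgr Lrot97 (Lpr_bt (K7.f20063 IH) (Lpr_ct (f102987 IH) (Lpr_bt (K6.f103008 IH) (Lpr_ct (K8.f149297 IH) (Lpr_bt (K7.f150029 IH) (Lpn (LP (LK LD1_c7 LD2_c56 LD3_c42))))))))
theorem f103109 : Led Lsl_df (LP (LK LD1_c4 LD2_c46 LD3_c52)) = (LP (LK LD1_c4 LD2_c44 LD3_c55)) :=
  Lgr Lrot12 (Lpr_bt (K7.f20063 IH) (Lpr_dt (K3.f102995 IH) (Lpr_bt (K28.f23501 IH) (Lpn (LP (LK LD1_c4 LD2_c44 LD3_c55))))))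
theorem f150065 : Led Lsl_gt (LP (LK LD1_c9 LD2_c22 LD3_c29)) = (LP (LK LD1_c4 LD2_c44 LD3_c55)) :=
  Lre_g IH (LK LD1_c9 LD2_c22 LD3_c29) (LK LD1_c4 LD2_c44 LD3_c55) Lrfl Lrfl
theorem f35979 : Led Lsl_ff (LP (LK LD1_c7 LD2_c56 LD3_c50)) = (LP (LK LD1_c4 LD2_c24 LD3_c44)) :=
  Lgr Lrot30 (Lpr_at (K7.f35977 IH) (Lpr_ft (K2.f35909 IH) (Lpr_at (K4.f35978 IH) (Lpn (LP (LK LD1_c4 LD2_c24 LD3_c44))))))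
theorem f112904 : Led Lsl_gf (LP (LK LD1_c3 LD2_c57 LD3_c44)) = (LP (LK LD1_c4 LD2_c24 LD3_c15)) :=
  Lgr Lrot76 (Lpe (K7.f35977 IH) (Lpr_ff (f35979 IH) (Lpr_gt (K8.f112900 IH) (Lpn (LP (LK LD1_c4 LD2_c24 LD3_c15))))))
theorem f80696 : Led Lsl_ct (LP (LK LD1_c8 LD2_c46 LD3_c7)) = (LP (LK LD1_c4 LD2_c24 LD3_c15)) :=
  Lre_c IH (LK LD1_c8 LD2_c46 LD3_c7) (LK LD1_c4 LD2_c24 LD3_c15) Lrfl Lrfl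
theorem f138652 : Led Lsl_ff (LP (LK LD1_c8 LD2_c47 LD3_c1)) = (LP (LK LD1_c8 LD2_c46 LD3_c7)) :=
  Lgr Lrot3 (Lpr_ft (f138644 IH) (Lpn (LP (LK LD1_c8 LD2_c46 LD3_c7))))
theorem f138634 : Led Lsl_at (LP (LK LD1_c8 LD2_c47 LD3_c1)) = (LP (LK LD1_c8 LD2_c46 LD3_c4)) :=
  Lgr Lrot100 (Lpr_af (f138632 IH) (Lpn (LP (LK LD1_c8 LD2_c46 LD3_c4))))
theorem f138660 : Led Lsl_gf (LP (LK LD1_c16 LD2_c24 LD3_c17)) = (LP (LK LD1_c8 LD2_c46 LD3_c7)) :=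
  Lgr Lrot47 (Lpr_gt (f81101 IH) (Lpe (f138634 IH) (Lpr_ff (f138652 IH) (Lpn (LP (LK LD1_c8 LD2_c46 LD3_c7))))))
theorem f150066 : Led Lsl_df (LP (LK LD1_c9 LD2_c22 LD3_c29)) = (LP (LK LD1_c16 LD2_c24 LD3_c17)) :=
  Lgr Lrot153 (Lpr_gt (f150065 IH) (Lpe (f103109 IH) (Lpr_cf (f150037 IH) (Lpr_df (f150063 IH) (Lpe (K7.f36047 IH) (Lpe (K5.f35985 IH) (Lpr_gf (f112904 IH) (Lpe (f80696 IH) (Lpe (f138660 IH) (Lpn (LP (LK LD1_c16 LD2_c24 LD3_c17))))))))))))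
theorem f150068 : Led Lsl_dt (LP (LK LD1_c9 LD2_c22 LD3_c29)) = (LP (LK LD1_c16 LD2_c24 LD3_c17)) :=
  Lgr Lrot42 (Lpr_df (f150066 IH) (Lpn (LP (LK LD1_c16 LD2_c24 LD3_c17))))
theorem f159147 : Led Lsl_at (LP (LK LD1_c9 LD2_c16 LD3_c26)) = (LP (LK LD1_c9 LD2_c22 LD3_c29)) :=
  Lgr Lrot51 (Lpe (f137969 IH) (Lpr_af (f159145 IH) (Lpe (f150068 IH) (Lpn (LP (LK LD1_c9 LD2_c22 LD3_c29))))))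
theorem f160713 : Led Lsl_ct (LP (LK LD1_c11 LD2_c40 LD3_c15)) = (LP (LK LD1_c9 LD2_c22 LD3_c29)) :=
  Lgr Lrot98 (Lpe (K28.f112698 IH) (Lpr_cf (K28.f160709 IH) (Lpe (K8.f142240 IH) (Lpr_cf (K8.f148977 IH) (Lpe (K28.f112560 IH) (Lpe (K28.f112549 IH) (Lpr_df (K28.f112550 IH) (Lpe (f159130 IH) (Lpr_at (f159147 IH) (Lpn (LP (LK LD1_c9 LD2_c22 LD3_c29))))))))))))
theorem f160728 : Led Lsl_cf (LP (LK LD1_c11 LD2_c40 LD3_c15)) = (LP (LK LD1_c9 LD2_c22 LD3_c29)) :=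
  Lgr Lrot11 (Lpr_ct (f160713 IH) (Lpn (LP (LK LD1_c9 LD2_c22 LD3_c29))))
theorem f112684 : Led Lsl_ct (LP (LK LD1_c8 LD2_c46 LD3_c2)) = (LP (LK LD1_c11 LD2_c37 LD3_c42)) :=
  Lgr Lrot59 (Lpr_cf (K5.f112682 IH) (Lpn (LP (LK LD1_c11 LD2_c37 LD3_c42))))
theorem f118939 : Led Lsl_ct (LP (LK LD1_c9 LD2_c25 LD3_c31)) = (LP (LK LD1_c4 LD2_c46 LD3_c26)) :=
  Lre_c IH (LK LD1_c9 LD2_c25 LD3_c31) (LK LD1_c4 LD2_c46 LD3_c26) Lrfl Lrfl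
theorem f118940 : Led Lsl_df (LP (LK LD1_c8 LD2_c46 LD3_c7)) = (LP (LK LD1_c4 LD2_c46 LD3_c26)) :=
  Lgr Lrot43 (Lpr_ct (f80696 IH) (Lpr_dt (K8.f75581 IH) (Lpe (K5.f80691 IH) (Lpe (K5.f112859 IH) (Lpr_ct (K5.f81787 IH) (Lpe (K5.f112634 IH) (Lpr_ct (K4.f99203 IH) (Lpr_dt (K4.f102080 IH) (Lpr_ct (K5.f81100 IH) (Lpr_dt (K5.f81057 IH) (Lpr_ct (K5.f80682 IH) (Lpr_dt (K5.f80684 IH) (Lpr_ct (f112684 IH) (Lpr_dt (K5.f118937 IH) (Lpr_ct (f118939 IH) (Lpn (LP (LK LD1_c4 LD2_c46 LD3_c26))))))))))))))))))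
theorem f75850 : Led Lsl_bt (LP (LK LD1_c2 LD2_c56 LD3_c9)) = (LP (LK LD1_c5 LD2_c59 LD3_c36)) :=
  Lre_b IH (LK LD1_c2 LD2_c56 LD3_c9) (LK LD1_c5 LD2_c59 LD3_c36) Lrfl Lrfl
theorem f80700 : Led Lsl_dt (LP (LK LD1_c4 LD2_c24 LD3_c17)) = (LP (LK LD1_c2 LD2_c9 LD3_c36)) :=
  Lre_d IH (LK LD1_c4 LD2_c24 LD3_c17) (LK LD1_c2 LD2_c9 LD3_c36) Lrfl Lrfl
theorem f36032 : Led Lsl_ct (LP (LK LD1_c8 LD2_c47 LD3_c1)) = (LP (LK LD1_c4 LD2_c24 LD3_c47)) :=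
  Lre_c IH (LK LD1_c8 LD2_c47 LD3_c1) (LK LD1_c4 LD2_c24 LD3_c47) Lrfl Lrfl
theorem f137923 : Led Lsl_df (LP (LK LD1_c8 LD2_c47 LD3_c1)) = (LP (LK LD1_c9 LD2_c23 LD3_c1)) :=
  Lgr Lrot157 (Lpr_ct (f36032 IH) (Lpr_dt (K6.f137910 IH) (Lpe (K6.f133020 IH) (Lpr_dt (K5.f112453 IH) (Lpe (K5.f112446 IH) (Lpr_dt (K5.f112438 IH) (Lpr_ct (K6.f78337 IH) (Lpe (K5.f112455 IH) (Lpe (K7.f118964 IH) (Lpn (LP (LK LD1_c9 LD2_c23 LD3_c1))))))))))))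
theorem f78345 : Led Lsl_gt (LP (LK LD1_c2 LD2_c21 LD3_c11)) = (LP (LK LD1_c4 LD2_c46 LD3_c24)) :=
  Lre_g IH (LK LD1_c2 LD2_c21 LD3_c11) (LK LD1_c4 LD2_c46 LD3_c24) Lrfl Lrfl
theorem f118967 : Led Lsl_gf (LP (LK LD1_c9 LD2_c23 LD3_c1)) = (LP (LK LD1_c4 LD2_c46 LD3_c24)) :=
  Lgr Lrot76 (Lpe (K7.f101892 IH) (Lpr_ff (K7.f118958 IH) (Lpr_gt (f78345 IH) (Lpn (LP (LK LD1_c4 LD2_c46 LD3_c24))))))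
theorem f118969 : Led Lsl_dt (LP (LK LD1_c9 LD2_c25 LD3_c27)) = (LP (LK LD1_c4 LD2_c46 LD3_c24)) :=
  Lre_d IH (LK LD1_c9 LD2_c25 LD3_c27) (LK LD1_c4 LD2_c46 LD3_c24) Lrfl Lrfl
theorem f202907 : Led Lsl_gt (LP (LK LD1_c4 LD2_c46 LD3_c52)) = (LP (LK LD1_c9 LD2_c25 LD3_c27)) :=
  Lgr Lrot94 (Lpr_cf (f150037 IH) (Lpr_gt (K11.f202902 IH) (Lpr_dt (f80700 IH) (Lpr_gt (K32.f202805 IH) (Lpe (f137916 IH) (Lpe (f36032 IH) (Lpr_df (f137923 IH) (Lpr_gf (f118967 IH) (Lpe (f118969 IH) (Lpn (LP (LK LD1_c9 LD2_c25 LD3_c27))))))))))))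
theorem f35529 : Led Lsl_bt (LP (LK LD1_c7 LD2_c57 LD3_c16)) = (LP (LK LD1_c3 LD2_c57 LD3_c59)) :=
  Lre_b IH (LK LD1_c7 LD2_c57 LD3_c16) (LK LD1_c3 LD2_c57 LD3_c59) Lrfl Lrfl
theorem f420292 : Led Lsl_ct (LP (LK LD1_c7 LD2_c57 LD3_c16)) = (LP (LK LD1_c9 LD2_c25 LD3_c27)) :=
  Lgr Lrot63 (Lpr_bt (f35529 IH) (Lpr_gt (K8.f35528 IH) (Lpe (K1.f37878 IH) (Lpe (K1.f37882 IH) (Lpr_gt (K1.f38621 IH) (Lpr_cf (K1.f59186 IH) (Lpr_bt (K7.f59246 IH) (Lpr_gt (K7.f59249 IH) (Lpe (f150037 IH) (Lpr_gt (f202907 IH) (Lpn (LP (LK LD1_c9 LD2_c25 LD3_c27)))))))))))))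
theorem f137541 : Led Lsl_ft (LP (LK LD1_c4 LD2_c46 LD3_c52)) = (LP (LK LD1_c8 LD2_c46 LD3_c14)) :=
  Lgr Lrot48 (Lpr_ff (K7.f137538 IH) (Lpn (LP (LK LD1_c8 LD2_c46 LD3_c14))))
theorem f150115 : Led Lsl_at (LP (LK LD1_c8 LD2_c46 LD3_c14)) = (LP (LK LD1_c14 LD2_c59 LD3_c27)) :=
  Lgr Lrot66 (Lpe (f137541 IH) (Lpr_af (K11.f139085 IH) (Lpr_ff (K7.f150108 IH) (Lpn (LP (LK LD1_c14 LD2_c59 LD3_c27))))))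
theorem f420290 : Led Lsl_gf (LP (LK LD1_c14 LD2_c59 LD3_c27)) = (LP (LK LD1_c9 LD2_c25 LD3_c27)) :=
  Lgr Lrot76 (Lpe (f150115 IH) (Lpe (f137541 IH) (Lpr_gt (f202907 IH) (Lpn (LP (LK LD1_c9 LD2_c25 LD3_c27))))))
theorem f420301 : Led Lsl_gf (LP (LK LD1_c7 LD2_c57 LD3_c16)) = (LP (LK LD1_c8 LD2_c48 LD3_c6)) :=
  Lgr Lrot147 (Lpr_ct (f420292 IH) (Lpe (f420290 IH) (Lpr_ct (K8.f78329 IH) (Lpe (K28.f150101 IH) (Lpr_cf (K6.f81825 IH) (Lpe (K8.f158676 IH) (Lpr_cf (K8.f148977 IH) (Lpe (K8.f159209 IH) (Lpe (K28.f38536 IH) (Lpn (LP (LK LD1_c8 LD2_c48 LD3_c6))))))))))))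
theorem f78394 : Led Lsl_ct (LP (LK LD1_c9 LD2_c25 LD3_c26)) = (LP (LK LD1_c4 LD2_c46 LD3_c24)) :=
  Lre_c IH (LK LD1_c9 LD2_c25 LD3_c26) (LK LD1_c4 LD2_c46 LD3_c24) Lrfl Lrfl
theorem f74699 : Led Lsl_gt (LP (LK LD1_c11 LD2_c41 LD3_c17)) = (LP (LK LD1_c5 LD2_c58 LD3_c19)) :=
  Lre_g IH (LK LD1_c11 LD2_c41 LD3_c17) (LK LD1_c5 LD2_c58 LD3_c19) Lrfl Lrfl
theorem f202752 : Led Lsl_ft (LP (LK LD1_c9 LD2_c29 LD3_c61)) = (LP (LK LD1_c5 LD2_c59 LD3_c47)) :=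
  Lgr Lrot4 (Lpe (K7.f78419 IH) (Lpr_ff (K11.f202750 IH) (Lpe (K7.f99238 IH) (Lpn (LP (LK LD1_c5 LD2_c59 LD3_c47))))))
theorem f137549 : Led Lsl_ft (LP (LK LD1_c11 LD2_c41 LD3_c17)) = (LP (LK LD1_c8 LD2_c46 LD3_c11)) :=
  Lgr Lrot2 (Lpr_gt (f74699 IH) (Lpr_gt (K6.f137547 IH) (Lpe (K11.f75618 IH) (Lpn (LP (LK LD1_c8 LD2_c46 LD3_c11))))))
theorem f202919 : Led Lsl_dt (LP (LK LD1_c5 LD2_c59 LD3_c47)) = (LP (LK LD1_c11 LD2_c41 LD3_c17)) :=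
  Lgr Lrot60 (Lpe (f202752 IH) (Lpr_df (K11.f202909 IH) (Lpe (f137549 IH) (Lpn (LP (LK LD1_c11 LD2_c41 LD3_c17))))))
theorem f420631 : Led Lsl_gf (LP (LK LD1_c9 LD2_c25 LD3_c26)) = (LP (LK LD1_c5 LD2_c59 LD3_c36)) :=
  Lgr Lrot104 (Lpr_ct (f78394 IH) (Lpe (f118969 IH) (Lpe (f420292 IH) (Lpr_gf (f420301 IH) (Lpr_cf (K28.f420611 IH) (Lpe (f74699 IH) (Lpe (f202919 IH) (Lpr_gt (K4.f26454 IH) (Lpr_ct (K5.f26452 IH) (Lpn (LP (LK LD1_c5 LD2_c59 LD3_c36))))))))))))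
theorem f125731 : Led Lsl_bt (LP (LK LD1_c17 LD2_c22 LD3_c54)) = (LP (LK LD1_c9 LD2_c25 LD3_c26)) :=
  Lre_b IH (LK LD1_c17 LD2_c22 LD3_c54) (LK LD1_c9 LD2_c25 LD3_c26) Lrfl Lrfl
theorem f424609 : Led Lsl_ct (LP (LK LD1_c4 LD2_c59 LD3_c23)) = (LP (LK LD1_c2 LD2_c55 LD3_c7)) :=
  Lgr Lrot59 (Lpr_cf (K28.f424605 IH) (Lpn (LP (LK LD1_c2 LD2_c55 LD3_c7))))
theorem f74383 : Led Lsl_bt (LP (LK LD1_c4 LD2_c59 LD3_c33)) = (LP (LK LD1_c2 LD2_c27 LD3_c37)) :=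
  Lre_b IH (LK LD1_c4 LD2_c59 LD3_c33) (LK LD1_c2 LD2_c27 LD3_c37) Lrfl Lrfl
theorem f74392 : Led Lsl_ct (LP (LK LD1_c4 LD2_c59 LD3_c33)) = (LP (LK LD1_c9 LD2_c49 LD3_c25)) :=
  Lre_c IH (LK LD1_c4 LD2_c59 LD3_c33) (LK LD1_c9 LD2_c49 LD3_c25) Lrfl Lrfl
theorem f90606 : Led Lsl_gt (LP (LK LD1_c3 LD2_c44 LD3_c49)) = (LP (LK LD1_c7 LD2_c30 LD3_c36)) :=
  Lre_g IH (LK LD1_c3 LD2_c44 LD3_c49) (LK LD1_c7 LD2_c30 LD3_c36) Lrfl Lrfl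
theorem f129427 : Led Lsl_cf (LP (LK LD1_c3 LD2_c55 LD3_c46)) = (LP (LK LD1_c7 LD2_c30 LD3_c36)) :=
  Lgr Lrot125 (Lpr_gt (K8.f129417 IH) (Lpe (K8.f96312 IH) (Lpr_bt (K28.f112092 IH) (Lpr_gt (K11.f66736 IH) (Lpe (K2.f66694 IH) (Lpr_ct (K2.f66697 IH) (Lpe (K2.f90596 IH) (Lpe (K2.f23706 IH) (Lpr_bt (K4.f90605 IH) (Lpr_gt (f90606 IH) (Lpn (LP (LK LD1_c7 LD2_c30 LD3_c36)))))))))))))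
theorem f162022 : Led Lsl_df (LP (LK LD1_c7 LD2_c35 LD3_c52)) = (LP (LK LD1_c12 LD2_c33 LD3_c41)) :=
  Lgr Lrot155 (Lpr_gt (K8.f162014 IH) (Lpe (K5.f122709 IH) (Lpr_gt (K5.f122690 IH) (Lpe (K4.f120968 IH) (Lpr_dt (K8.f96140 IH) (Lpr_cf (f129427 IH) (Lpe (f90606 IH) (Lpr_cf (K2.f93184 IH) (Lpe (K30.f93197 IH) (Lpn (LP (LK LD1_c12 LD2_c33 LD3_c41))))))))))))
theorem f114459 : Led Lsl_dt (LP (LK LD1_c3 LD2_c48 LD3_c26)) = (LP (LK LD1_c7 LD2_c37 LD3_c54)) :=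
  Lre_d IH (LK LD1_c3 LD2_c48 LD3_c26) (LK LD1_c7 LD2_c37 LD3_c54) Lrfl Lrfl
theorem f155758 : Led Lsl_gf (LP (LK LD1_c3 LD2_c48 LD3_c40)) = (LP (LK LD1_c7 LD2_c37 LD3_c54)) :=
  Lgr Lrot143 (Lpr_dt (K4.f64628 IH) (Lpe (K4.f116455 IH) (Lpe (K8.f116506 IH) (Lpe (K32.f116507 IH) (Lpr_df (K32.f155756 IH) (Lpr_gf (K5.f129557 IH) (Lpr_cf (K5.f129378 IH) (Lpr_gt (K5.f127926 IH) (Lpr_dt (f114459 IH) (Lpn (LP (LK LD1_c7 LD2_c37 LD3_c54))))))))))))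
theorem f209695 : Led Lsl_gt (LP (LK LD1_c7 LD2_c38 LD3_c22)) = (LP (LK LD1_c13 LD2_c6 LD3_c33)) :=
  Lgr Lrot150 (Lpe (K8.f64625 IH) (Lpr_gf (f155758 IH) (Lpe (f114459 IH) (Lpr_gt (K5.f88234 IH) (Lpe (K5.f121209 IH) (Lpr_gt (K5.f121020 IH) (Lpr_ct (K8.f161978 IH) (Lpr_df (f162022 IH) (Lpr_cf (K30.f209556 IH) (Lpn (LP (LK LD1_c13 LD2_c6 LD3_c33))))))))))))
theorem f64821 : Led Lsl_dt (LP (LK LD1_c14 LD2_c23 LD3_c43)) = (LP (LK LD1_c7 LD2_c38 LD3_c22)) :=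
  Lre_d IH (LK LD1_c14 LD2_c23 LD3_c43) (LK LD1_c7 LD2_c38 LD3_c22) Lrfl Lrfl
theorem f209697 : Led Lsl_gf (LP (LK LD1_c9 LD2_c49 LD3_c25)) = (LP (LK LD1_c14 LD2_c23 LD3_c43)) :=
  Lgr Lrot147 (Lpr_ct (K6.f74384 IH) (Lpr_gt (K8.f76105 IH) (Lpr_ct (K32.f130348 IH) (Lpe (K8.f93213 IH) (Lpr_cf (K2.f93184 IH) (Lpe (K30.f93197 IH) (Lpr_cf (K30.f209556 IH) (Lpe (f209695 IH) (Lpe (f64821 IH) (Lpn (LP (LK LD1_c14 LD2_c23 LD3_c43))))))))))))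
theorem f424637 : Led Lsl_ct (LP (LK LD1_c17 LD2_c22 LD3_c54)) = (LP (LK LD1_c14 LD2_c23 LD3_c43)) :=
  Lgr Lrot64 (Lpr_bt (f125731 IH) (Lpr_gf (f420631 IH) (Lpe (f75850 IH) (Lpr_ct (K28.f26420 IH) (Lpr_gf (K28.f424627 IH) (Lpe (f424609 IH) (Lpe (K8.f74379 IH) (Lpe (f74383 IH) (Lpr_ct (f74392 IH) (Lpr_gf (f209697 IH) (Lpn (LP (LK LD1_c14 LD2_c23 LD3_c43)))))))))))))
theorem f424643 : Led Lsl_cf (LP (LK LD1_c17 LD2_c22 LD3_c54)) = (LP (LK LD1_c14 LD2_c23 LD3_c43)) :=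
  Lgr Lrot11 (Lpr_ct (f424637 IH) (Lpn (LP (LK LD1_c14 LD2_c23 LD3_c43))))
theorem f125730 : Led Lsl_bt (LP (LK LD1_c4 LD2_c46 LD3_c24)) = (LP (LK LD1_c9 LD2_c25 LD3_c25)) :=
  Lre_b IH (LK LD1_c4 LD2_c46 LD3_c24) (LK LD1_c9 LD2_c25 LD3_c25) Lrfl Lrfl
theorem f78347 : Led Lsl_bt (LP (LK LD1_c9 LD2_c25 LD3_c25)) = (LP (LK LD1_c4 LD2_c46 LD3_c24)) :=
  Lre_b IH (LK LD1_c9 LD2_c25 LD3_c25) (LK LD1_c4 LD2_c46 LD3_c24) Lrfl Lrfl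
theorem f125727 : Led Lsl_gt (LP (LK LD1_c12 LD2_c24 LD3_c0)) = (LP (LK LD1_c6 LD2_c25 LD3_c48)) :=
  Lre_g IH (LK LD1_c12 LD2_c24 LD3_c0) (LK LD1_c6 LD2_c25 LD3_c48) Lrfl Lrfl
theorem f125728 : Led Lsl_ct (LP (LK LD1_c9 LD2_c25 LD3_c25)) = (LP (LK LD1_c12 LD2_c24 LD3_c0)) :=
  Lgr Lrot64 (Lpr_bt (f78347 IH) (Lpe (f78345 IH) (Lpe (K7.f78344 IH) (Lpr_ct (K3.f78248 IH) (Lpe (K2.f78004 IH) (Lpe (K3.f23550 IH) (Lpe (K3.f103186 IH) (Lpe (K5.f103188 IH) (Lpr_ct (K5.f125719 IH) (Lpe (f125727 IH) (Lpn (LP (LK LD1_c12 LD2_c24 LD3_c0)))))))))))))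
theorem f424651 : Led Lsl_bt (LP (LK LD1_c12 LD2_c24 LD3_c0)) = (LP (LK LD1_c14 LD2_c23 LD3_c43)) :=
  Lgr Lrot128 (Lpe (f125728 IH) (Lpe (f125730 IH) (Lpe (f78394 IH) (Lpe (f125731 IH) (Lpr_cf (f424643 IH) (Lpn (LP (LK LD1_c14 LD2_c23 LD3_c43))))))))
theorem f203545 : Led Lsl_gt (LP (LK LD1_c17 LD2_c0 LD3_c22)) = (LP (LK LD1_c14 LD2_c33 LD3_c5)) :=
  Lgr Lrot9 (Lpr_df (K32.f130324 IH) (Lpe (K11.f151464 IH) (Lpe (K6.f130429 IH) (Lpr_gt (K5.f130105 IH) (Lpr_ct (K5.f57529 IH) (Lpe (K8.f135869 IH) (Lpe (K28.f79200 IH) (Lpr_gf (K28.f203541 IH) (Lpe (K28.f203537 IH) (Lpn (LP (LK LD1_c14 LD2_c33 LD3_c5))))))))))))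
theorem f129456 : Led Lsl_ft (LP (LK LD1_c14 LD2_c12 LD3_c52)) = (LP (LK LD1_c14 LD2_c23 LD3_c43)) :=
  Lgr Lrot54 (Lpe (K8.f111440 IH) (Lpr_ff (K8.f129441 IH) (Lpe (f64821 IH) (Lpn (LP (LK LD1_c14 LD2_c23 LD3_c43))))))
theorem f203563 : Led Lsl_at (LP (LK LD1_c14 LD2_c23 LD3_c43)) = (LP (LK LD1_c14 LD2_c33 LD3_c5)) :=
  Lgr Lrot26 (Lpe (f129456 IH) (Lpe (K8.f130326 IH) (Lpr_gt (f203545 IH) (Lpn (LP (LK LD1_c14 LD2_c33 LD3_c5))))))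
theorem f61135 : Led Lsl_bt (LP (LK LD1_c4 LD2_c41 LD3_c40)) = (LP (LK LD1_c2 LD2_c17 LD3_c60)) :=
  Lre_b IH (LK LD1_c4 LD2_c41 LD3_c40) (LK LD1_c2 LD2_c17 LD3_c60) Lrfl Lrfl
theorem f77990 : Led Lsl_bt (LP (LK LD1_c2 LD2_c21 LD3_c1)) = (LP (LK LD1_c4 LD2_c45 LD3_c59)) :=
  Lre_b IH (LK LD1_c2 LD2_c21 LD3_c1) (LK LD1_c4 LD2_c45 LD3_c59) Lrfl Lrfl
theorem f77991 : Led Lsl_gt (LP (LK LD1_c4 LD2_c45 LD3_c59)) = (LP (LK LD1_c9 LD2_c24 LD3_c28)) :=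
  Lre_g IH (LK LD1_c4 LD2_c45 LD3_c59) (LK LD1_c9 LD2_c24 LD3_c28) Lrfl Lrfl
theorem f420140 : Led Lsl_bf (LP (LK LD1_c9 LD2_c24 LD3_c28)) = (LP (LK LD1_c6 LD2_c56 LD3_c36)) :=
  Lgr Lrot34 (Lpe (f77991 IH) (Lpe (f77990 IH) (Lpr_ct (K2.f25204 IH) (Lpe (K3.f104183 IH) (Lpe (K7.f109985 IH) (Lpr_gf (K7.f152497 IH) (Lpe (f61135 IH) (Lpe (K11.f203412 IH) (Lpe (K32.f152471 IH) (Lpr_cf (K32.f203415 IH) (Lpn (LP (LK LD1_c6 LD2_c56 LD3_c36)))))))))))))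
theorem f424653 : Led Lsl_af (LP (LK LD1_c12 LD2_c24 LD3_c0)) = (LP (LK LD1_c9 LD2_c24 LD3_c28)) :=
  Lgr Lrot36 (Lpr_bt (f424651 IH) (Lpr_at (f203563 IH) (Lpr_bt (K28.f15580 IH) (Lpe (K32.f419302 IH) (Lpe (f420140 IH) (Lpn (LP (LK LD1_c9 LD2_c24 LD3_c28))))))))
theorem f125732 : Led Lsl_cf (LP (LK LD1_c9 LD2_c25 LD3_c25)) = (LP (LK LD1_c12 LD2_c24 LD3_c0)) :=
  Lgr Lrot11 (Lpr_ct (f125728 IH) (Lpn (LP (LK LD1_c12 LD2_c24 LD3_c0))))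
theorem f12035 : Led Lsl_bt (LP (LK LD1_c1 LD2_c40 LD3_c16)) = (LP (LK LD1_c3 LD2_c27 LD3_c19)) :=
  Lre_b IH (LK LD1_c1 LD2_c40 LD3_c16) (LK LD1_c3 LD2_c27 LD3_c19) Lrfl Lrfl
theorem f15017 : Led Lsl_ff (LP (LK LD1_c3 LD2_c50 LD3_c61)) = (LP (LK LD1_c3 LD2_c27 LD3_c19)) :=
  Lgr Lrot25 (Lpr_bt (K0.f14403 IH) (Lpr_ft (K0.f15003 IH) (Lpr_bt (f12035 IH) (Lpn (LP (LK LD1_c3 LD2_c27 LD3_c19))))))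
theorem f17120 : Led Lsl_gf (LP (LK LD1_c7 LD2_c43 LD3_c11)) = (LP (LK LD1_c6 LD2_c56 LD3_c36)) :=
  Lgr Lrot76 (Lpe (K6.f14388 IH) (Lpr_ff (f15017 IH) (Lpr_gt (K32.f12036 IH) (Lpn (LP (LK LD1_c6 LD2_c56 LD3_c36))))))
theorem f420148 : Led Lsl_gf (LP (LK LD1_c6 LD2_c19 LD3_c35)) = (LP (LK LD1_c9 LD2_c12 LD3_c47)) :=
  Lgr Lrot147 (Lpr_ct (K32.f420135 IH) (Lpe (f17120 IH) (Lpr_ct (K0.f14054 IH) (Lpe (K4.f14092 IH) (Lpe (K4.f14352 IH) (Lpe (K3.f17122 IH) (Lpe (K7.f17123 IH) (Lpr_gf (K32.f79218 IH) (Lpe (K11.f204137 IH) (Lpn (LP (LK LD1_c9 LD2_c12 LD3_c47))))))))))))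
theorem f152609 : Led Lsl_bt (LP (LK LD1_c12 LD2_c14 LD3_c18)) = (LP (LK LD1_c6 LD2_c19 LD3_c35)) :=
  Lre_b IH (LK LD1_c12 LD2_c14 LD3_c18) (LK LD1_c6 LD2_c19 LD3_c35) Lrfl Lrfl
theorem f147847 : Led Lsl_ct (LP (LK LD1_c14 LD2_c6 LD3_c36)) = (LP (LK LD1_c9 LD2_c25 LD3_c47)) :=
  Lgr Lrot59 (Lpr_cf (K32.f147842 IH) (Lpn (LP (LK LD1_c9 LD2_c25 LD3_c47))))
theorem f147880 : Led Lsl_dt (LP (LK LD1_c9 LD2_c25 LD3_c47)) = (LP (LK LD1_c4 LD2_c46 LD3_c33)) :=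
  Lre_d IH (LK LD1_c9 LD2_c25 LD3_c47) (LK LD1_c4 LD2_c46 LD3_c33) Lrfl Lrfl
theorem f419890 : Led Lsl_cf (LP (LK LD1_c4 LD2_c46 LD3_c33)) = (LP (LK LD1_c6 LD2_c38 LD3_c15)) :=
  Lgr Lrot99 (Lpe (f147880 IH) (Lpe (f147847 IH) (Lpr_gf (K7.f151378 IH) (Lpe (K7.f151371 IH) (Lpr_gf (K7.f151360 IH) (Lpr_df (K7.f146729 IH) (Lpr_gt (K32.f151224 IH) (Lpr_ct (K6.f65223 IH) (Lpr_gt (K32.f419885 IH) (Lpn (LP (LK LD1_c6 LD2_c38 LD3_c15))))))))))))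
theorem f147853 : Led Lsl_gt (LP (LK LD1_c9 LD2_c25 LD3_c45)) = (LP (LK LD1_c4 LD2_c46 LD3_c33)) :=
  Lre_g IH (LK LD1_c9 LD2_c25 LD3_c45) (LK LD1_c4 LD2_c46 LD3_c33) Lrfl Lrfl
theorem f420181 : Led Lsl_ct (LP (LK LD1_c12 LD2_c14 LD3_c18)) = (LP (LK LD1_c9 LD2_c25 LD3_c45)) :=
  Lgr Lrot64 (Lpr_bt (f152609 IH) (Lpr_gf (f420148 IH) (Lpe (K11.f26899 IH) (Lpr_ct (K11.f26880 IH) (Lpe (K8.f161913 IH) (Lpe (K8.f161083 IH) (Lpe (K32.f161084 IH) (Lpr_bf (K32.f420050 IH) (Lpe (f419890 IH) (Lpe (f147853 IH) (Lpn (LP (LK LD1_c9 LD2_c25 LD3_c45)))))))))))))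
theorem f420185 : Led Lsl_cf (LP (LK LD1_c12 LD2_c14 LD3_c18)) = (LP (LK LD1_c9 LD2_c25 LD3_c45)) :=
  Lgr Lrot11 (Lpr_ct (f420181 IH) (Lpn (LP (LK LD1_c9 LD2_c25 LD3_c45))))
theorem f420134 : Led Lsl_bt (LP (LK LD1_c6 LD2_c19 LD3_c35)) = (LP (LK LD1_c12 LD2_c14 LD3_c18)) :=
  Lre_b IH (LK LD1_c6 LD2_c19 LD3_c35) (LK LD1_c12 LD2_c14 LD3_c18) Lrfl Lrfl
theorem f420150 : Led Lsl_gt (LP (LK LD1_c12 LD2_c14 LD3_c18)) = (LP (LK LD1_c7 LD2_c43 LD3_c57)) :=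
  Lgr Lrot82 (Lpe (f420134 IH) (Lpr_ct (K32.f420135 IH) (Lpe (K32.f12036 IH) (Lpe (K4.f15530 IH) (Lpr_bt (K6.f15554 IH) (Lpe (K3.f63818 IH) (Lpe (K6.f63826 IH) (Lpr_ct (K6.f135998 IH) (Lpe (K7.f136002 IH) (Lpr_cf (K7.f151191 IH) (Lpn (LP (LK LD1_c7 LD2_c43 LD3_c57)))))))))))))
theorem f79249 : Led Lsl_bt (LP (LK LD1_c4 LD2_c45 LD3_c17)) = (LP (LK LD1_c9 LD2_c23 LD3_c15)) :=
  Lre_b IH (LK LD1_c4 LD2_c45 LD3_c17) (LK LD1_c9 LD2_c23 LD3_c15) Lrfl Lrfl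
theorem f152476 : Led Lsl_gt (LP (LK LD1_c9 LD2_c23 LD3_c15)) = (LP (LK LD1_c17 LD2_c19 LD3_c44)) :=
  Lre_g IH (LK LD1_c9 LD2_c23 LD3_c15) (LK LD1_c17 LD2_c19 LD3_c44) Lrfl Lrfl
theorem f420199 : Led Lsl_bf (LP (LK LD1_c17 LD2_c19 LD3_c44)) = (LP (LK LD1_c9 LD2_c25 LD3_c45)) :=
  Lgr Lrot34 (Lpe (f152476 IH) (Lpe (f79249 IH) (Lpr_ct (K11.f79246 IH) (Lpr_gf (K7.f152468 IH) (Lpe (K11.f152455 IH) (Lpe (K11.f151075 IH) (Lpe (K7.f98887 IH) (Lpe (K8.f151220 IH) (Lpe (f420150 IH) (Lpr_cf (f420185 IH) (Lpn (LP (LK LD1_c9 LD2_c25 LD3_c45)))))))))))))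
theorem f420142 : Led Lsl_bt (LP (LK LD1_c9 LD2_c24 LD3_c28)) = (LP (LK LD1_c6 LD2_c56 LD3_c36)) :=
  Lgr Lrot127 (Lpr_bf (f420140 IH) (Lpn (LP (LK LD1_c6 LD2_c56 LD3_c36))))
theorem f420203 : Led Lsl_ct (LP (LK LD1_c17 LD2_c19 LD3_c44)) = (LP (LK LD1_c9 LD2_c24 LD3_c28)) :=
  Lgr Lrot83 (Lpr_bf (f420199 IH) (Lpe (f420181 IH) (Lpe (f420134 IH) (Lpr_cf (K32.f203415 IH) (Lpe (f420142 IH) (Lpn (LP (LK LD1_c9 LD2_c24 LD3_c28))))))))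
theorem f424657 : Led Lsl_at (LP (LK LD1_c9 LD2_c25 LD3_c25)) = (LP (LK LD1_c17 LD2_c19 LD3_c44)) :=
  Lgr Lrot107 (Lpr_cf (f125732 IH) (Lpr_af (f424653 IH) (Lpe (f420203 IH) (Lpn (LP (LK LD1_c17 LD2_c19 LD3_c44))))))
theorem f420201 : Led Lsl_bt (LP (LK LD1_c17 LD2_c19 LD3_c44)) = (LP (LK LD1_c9 LD2_c25 LD3_c45)) :=
  Lgr Lrot127 (Lpr_bf (f420199 IH) (Lpn (LP (LK LD1_c9 LD2_c25 LD3_c45))))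
theorem f110552 : Led Lsl_dt (LP (LK LD1_c3 LD2_c1 LD3_c59)) = (LP (LK LD1_c6 LD2_c10 LD3_c43)) :=
  Lre_d IH (LK LD1_c3 LD2_c1 LD3_c59) (LK LD1_c6 LD2_c10 LD3_c43) Lrfl Lrfl
theorem f152570 : Led Lsl_gt (LP (LK LD1_c6 LD2_c28 LD3_c60)) = (LP (LK LD1_c3 LD2_c12 LD3_c27)) :=
  Lre_g IH (LK LD1_c6 LD2_c28 LD3_c60) (LK LD1_c3 LD2_c12 LD3_c27) Lrfl Lrfl
theorem f206930 : Led Lsl_gf (LP (LK LD1_c6 LD2_c28 LD3_c60)) = (LP (LK LD1_c4 LD2_c37 LD3_c56)) :=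
  Lgr Lrot47 (Lpr_gt (f152570 IH) (Lpr_af (K11.f206924 IH) (Lpr_ff (K11.f206916 IH) (Lpn (LP (LK LD1_c4 LD2_c37 LD3_c56))))))
theorem f206843 : Led Lsl_gf (LP (LK LD1_c7 LD2_c26 LD3_c60)) = (LP (LK LD1_c6 LD2_c31 LD3_c22)) :=
  Lgr Lrot47 (Lpr_gt (K8.f156932 IH) (Lpr_af (K11.f206836 IH) (Lpe (K11.f206841 IH) (Lpn (LP (LK LD1_c6 LD2_c31 LD3_c22))))))
theorem f73011 : Led Lsl_dt (LP (LK LD1_c2 LD2_c17 LD3_c2)) = (LP (LK LD1_c4 LD2_c39 LD3_c60)) :=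
  Lre_d IH (LK LD1_c2 LD2_c17 LD3_c2) (LK LD1_c4 LD2_c39 LD3_c60) Lrfl Lrfl
theorem f73010 : Led Lsl_ft (LP (LK LD1_c2 LD2_c17 LD3_c2)) = (LP (LK LD1_c1 LD2_c27 LD3_c3)) :=
  Lre_f IH (LK LD1_c2 LD2_c17 LD3_c2) (LK LD1_c1 LD2_c27 LD3_c3) Lrfl Lrfl
theorem f73009 : Led Lsl_at (LP (LK LD1_c1 LD2_c27 LD3_c3)) = (LP (LK LD1_c3 LD2_c2 LD3_c5)) :=
  Lre_a IH (LK LD1_c1 LD2_c27 LD3_c3) (LK LD1_c3 LD2_c2 LD3_c5) Lrfl Lrfl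
theorem f60661 : Led Lsl_dt (LP (LK LD1_c5 LD2_c46 LD3_c24)) = (LP (LK LD1_c2 LD2_c48 LD3_c57)) :=
  Lre_d IH (LK LD1_c5 LD2_c46 LD3_c24) (LK LD1_c2 LD2_c48 LD3_c57) Lrfl Lrfl
theorem f156941 : Led Lsl_df (LP (LK LD1_c11 LD2_c23 LD3_c2)) = (LP (LK LD1_c7 LD2_c26 LD3_c60)) :=
  Lgr Lrot106 (Lpr_ct (K8.f60672 IH) (Lpr_dt (f60661 IH) (Lpr_ct (K4.f60662 IH) (Lpr_dt (K4.f72996 IH) (Lpr_ct (K8.f73007 IH) (Lpe (f73009 IH) (Lpe (f73010 IH) (Lpr_dt (f73011 IH) (Lpr_ct (K8.f156933 IH) (Lpn (LP (LK LD1_c7 LD2_c26 LD3_c60))))))))))))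
theorem f141273 : Led Lsl_ft (LP (LK LD1_c9 LD2_c9 LD3_c47)) = (LP (LK LD1_c4 LD2_c36 LD3_c60)) :=
  Lre_f IH (LK LD1_c9 LD2_c9 LD3_c47) (LK LD1_c4 LD2_c36 LD3_c60) Lrfl Lrfl
theorem f141274 : Led Lsl_af (LP (LK LD1_c7 LD2_c26 LD3_c44)) = (LP (LK LD1_c4 LD2_c36 LD3_c60)) :=
  Lgr Lrot45 (Lpr_ft (K6.f141263 IH) (Lpr_at (K6.f141181 IH) (Lpr_ft (f141273 IH) (Lpn (LP (LK LD1_c4 LD2_c36 LD3_c60))))))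
theorem f158703 : Led Lsl_gf (LP (LK LD1_c7 LD2_c26 LD3_c44)) = (LP (LK LD1_c11 LD2_c23 LD3_c2)) :=
  Lgr Lrot76 (Lpr_af (f141274 IH) (Lpe (f141273 IH) (Lpr_gt (K8.f158694 IH) (Lpn (LP (LK LD1_c11 LD2_c23 LD3_c2))))))
theorem f206934 : Led Lsl_dt (LP (LK LD1_c6 LD2_c28 LD3_c60)) = (LP (LK LD1_c9 LD2_c9 LD3_c20)) :=
  Lgr Lrot57 (Lpr_gf (f206930 IH) (Lpe (K11.f206910 IH) (Lpe (f206843 IH) (Lpe (f156941 IH) (Lpe (f158703 IH) (Lpr_dt (K6.f139589 IH) (Lpr_cf (K7.f139672 IH) (Lpr_df (K7.f141235 IH) (Lpe (K8.f141272 IH) (Lpn (LP (LK LD1_c9 LD2_c9 LD3_c20))))))))))))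
theorem f157016 : Led Lsl_ft (LP (LK LD1_c4 LD2_c58 LD3_c22)) = (LP (LK LD1_c5 LD2_c47 LD3_c52)) :=
  Lgr Lrot54 (Lpr_df (K8.f157006 IH) (Lpr_ff (K5.f132514 IH) (Lpe (K8.f132472 IH) (Lpn (LP (LK LD1_c5 LD2_c47 LD3_c52))))))
theorem f157887 : Led Lsl_ft (LP (LK LD1_c9 LD2_c9 LD3_c20)) = (LP (LK LD1_c4 LD2_c37 LD3_c9)) :=
  Lgr Lrot4 (Lpr_cf (K8.f157875 IH) (Lpe (f157016 IH) (Lpe (K8.f148940 IH) (Lpn (LP (LK LD1_c4 LD2_c37 LD3_c9))))))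
theorem f157001 : Led Lsl_dt (LP (LK LD1_c4 LD2_c37 LD3_c9)) = (LP (LK LD1_c6 LD2_c44 LD3_c24)) :=
  Lgr Lrot42 (Lpr_df (K8.f156976 IH) (Lpn (LP (LK LD1_c6 LD2_c44 LD3_c24))))
theorem f206945 : Led Lsl_ff (LP (LK LD1_c6 LD2_c28 LD3_c60)) = (LP (LK LD1_c6 LD2_c44 LD3_c24)) :=
  Lgr Lrot19 (Lpr_dt (f206934 IH) (Lpr_ft (f157887 IH) (Lpr_dt (f157001 IH) (Lpn (LP (LK LD1_c6 LD2_c44 LD3_c24))))))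
theorem f207014 : Led Lsl_at (LP (LK LD1_c6 LD2_c28 LD3_c60)) = (LP (LK LD1_c6 LD2_c44 LD3_c23)) :=
  Lgr Lrot26 (Lpr_ff (f206945 IH) (Lpr_gt (K8.f141983 IH) (Lpr_gt (K6.f56830 IH) (Lpn (LP (LK LD1_c6 LD2_c44 LD3_c23))))))
theorem f158127 : Led Lsl_at (LP (LK LD1_c4 LD2_c37 LD3_c9)) = (LP (LK LD1_c5 LD2_c51 LD3_c14)) :=
  Lgr Lrot107 (Lpr_cf (K8.f148942 IH) (Lpr_af (K8.f158121 IH) (Lpe (K8.f8368 IH) (Lpn (LP (LK LD1_c5 LD2_c51 LD3_c14))))))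
theorem f161598 : Led Lsl_af (LP (LK LD1_c6 LD2_c44 LD3_c24)) = (LP (LK LD1_c6 LD2_c28 LD3_c59)) :=
  Lgr Lrot117 (Lpe (K8.f156976 IH) (Lpr_at (f158127 IH) (Lpr_dt (K8.f161596 IH) (Lpn (LP (LK LD1_c6 LD2_c28 LD3_c59))))))
theorem f207018 : Led Lsl_ff (LP (LK LD1_c6 LD2_c28 LD3_c59)) = (LP (LK LD1_c6 LD2_c44 LD3_c23)) :=
  Lgr Lrot30 (Lpe (f161598 IH) (Lpe (f206945 IH) (Lpr_at (f207014 IH) (Lpn (LP (LK LD1_c6 LD2_c44 LD3_c23))))))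
theorem f161602 : Led Lsl_df (LP (LK LD1_c5 LD2_c51 LD3_c14)) = (LP (LK LD1_c6 LD2_c28 LD3_c59)) :=
  Lgr Lrot38 (Lpr_dt (K8.f161596 IH) (Lpn (LP (LK LD1_c6 LD2_c28 LD3_c59))))
theorem f207020 : Led Lsl_ft (LP (LK LD1_c5 LD2_c51 LD3_c14)) = (LP (LK LD1_c4 LD2_c37 LD3_c8)) :=
  Lgr Lrot54 (Lpr_df (f161602 IH) (Lpr_ff (f207018 IH) (Lpe (K8.f141875 IH) (Lpn (LP (LK LD1_c4 LD2_c37 LD3_c8))))))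
theorem f157196 : Led Lsl_bt (LP (LK LD1_c11 LD2_c29 LD3_c56)) = (LP (LK LD1_c5 LD2_c51 LD3_c14)) :=
  Lre_b IH (LK LD1_c11 LD2_c29 LD3_c56) (LK LD1_c5 LD2_c51 LD3_c14) Lrfl Lrfl
theorem f207022 : Led Lsl_ff (LP (LK LD1_c11 LD2_c29 LD3_c56)) = (LP (LK LD1_c7 LD2_c40 LD3_c58)) :=
  Lgr Lrot25 (Lpr_bt (f157196 IH) (Lpr_ft (f207020 IH) (Lpr_bt (K28.f117160 IH) (Lpn (LP (LK LD1_c7 LD2_c40 LD3_c58))))))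
theorem f158031 : Led Lsl_af (LP (LK LD1_c7 LD2_c35 LD3_c40)) = (LP (LK LD1_c11 LD2_c29 LD3_c56)) :=
  Lgr Lrot0 (Lpr_at (K8.f158029 IH) (Lpn (LP (LK LD1_c11 LD2_c29 LD3_c56))))
theorem f419405 : Led Lsl_gt (LP (LK LD1_c14 LD2_c15 LD3_c57)) = (LP (LK LD1_c7 LD2_c35 LD3_c40)) :=
  Lgr Lrot46 (Lpr_gf (K28.f419397 IH) (Lpe (f207022 IH) (Lpe (f158031 IH) (Lpn (LP (LK LD1_c7 LD2_c35 LD3_c40))))))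
theorem f420154 : Led Lsl_dt (LP (LK LD1_c12 LD2_c14 LD3_c18)) = (LP (LK LD1_c14 LD2_c15 LD3_c57)) :=
  Lgr Lrot6 (Lpr_gt (f420150 IH) (Lpe (K7.f151191 IH) (Lpr_gt (K7.f136002 IH) (Lpe (K6.f135995 IH) (Lpe (f110552 IH) (Lpe (K7.f64402 IH) (Lpe (K4.f117056 IH) (Lpe (K4.f63724 IH) (Lpe (f419405 IH) (Lpn (LP (LK LD1_c14 LD2_c15 LD3_c57))))))))))))
theorem f419601 : Led Lsl_ct (LP (LK LD1_c14 LD2_c15 LD3_c58)) = (LP (LK LD1_c23 LD2_c52 LD3_c38)) :=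
  Lre_c IH (LK LD1_c14 LD2_c15 LD3_c58) (LK LD1_c23 LD2_c52 LD3_c38) Lrfl Lrfl
theorem f121980 : Led Lsl_et (LP (LK LD1_c13 LD2_c5 LD3_c14)) = (LP (LK LD1_c6 LD2_c53 LD3_c7)) :=
  Lre_e IH (LK LD1_c13 LD2_c5 LD3_c14) (LK LD1_c6 LD2_c53 LD3_c7) Lrfl Lrfl
theorem f121981 : Led Lsl_et (LP (LK LD1_c7 LD2_c41 LD3_c10)) = (LP (LK LD1_c14 LD2_c29 LD3_c17)) :=
  Lre_e IH (LK LD1_c7 LD2_c41 LD3_c10) (LK LD1_c14 LD2_c29 LD3_c17) Lrfl Lrfl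
theorem f121982 : Led Lsl_cf (LP (LK LD1_c13 LD2_c5 LD3_c14)) = (LP (LK LD1_c14 LD2_c29 LD3_c17)) :=
  Lgr Lrot39 (Lpr_et (f121980 IH) (Lpr_ct (K5.f121971 IH) (Lpr_et (f121981 IH) (Lpn (LP (LK LD1_c14 LD2_c29 LD3_c17))))))
theorem f419602 : Led Lsl_at (LP (LK LD1_c23 LD2_c52 LD3_c38)) = (LP (LK LD1_c14 LD2_c29 LD3_c17)) :=
  Lgr Lrot107 (Lpe (f419601 IH) (Lpr_af (K28.f419596 IH) (Lpr_cf (f121982 IH) (Lpn (LP (LK LD1_c14 LD2_c29 LD3_c17))))))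
theorem f419771 : Led Lsl_af (LP (LK LD1_c23 LD2_c52 LD3_c38)) = (LP (LK LD1_c14 LD2_c29 LD3_c17)) :=
  Lgr Lrot0 (Lpr_at (f419602 IH) (Lpn (LP (LK LD1_c14 LD2_c29 LD3_c17))))
theorem f419413 : Led Lsl_et (LP (LK LD1_c23 LD2_c52 LD3_c38)) = (LP (LK LD1_c14 LD2_c15 LD3_c57)) :=
  Lre_e IH (LK LD1_c23 LD2_c52 LD3_c38) (LK LD1_c14 LD2_c15 LD3_c57) Lrfl Lrfl
theorem f419774 : Led Lsl_at (LP (LK LD1_c14 LD2_c15 LD3_c57)) = (LP (LK LD1_c7 LD2_c41 LD3_c10)) :=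
  Lgr Lrot80 (Lpe (f419413 IH) (Lpr_af (f419771 IH) (Lpe (f121981 IH) (Lpn (LP (LK LD1_c7 LD2_c41 LD3_c10))))))
theorem f110556 : Led Lsl_ct (LP (LK LD1_c11 LD2_c45 LD3_c18)) = (LP (LK LD1_c6 LD2_c0 LD3_c27)) :=
  Lre_c IH (LK LD1_c11 LD2_c45 LD3_c18) (LK LD1_c6 LD2_c0 LD3_c27) Lrfl Lrfl
theorem f80989 : Led Lsl_bt (LP (LK LD1_c4 LD2_c24 LD3_c12)) = (LP (LK LD1_c3 LD2_c5 LD3_c5)) :=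
  Lgr Lrot95 (Lpe (K4.f59628 IH) (Lpr_bf (K5.f80913 IH) (Lpe (K6.f80269 IH) (Lpn (LP (LK LD1_c3 LD2_c5 LD3_c5))))))
theorem f100240 : Led Lsl_bt (LP (LK LD1_c2 LD2_c10 LD3_c13)) = (LP (LK LD1_c4 LD2_c25 LD3_c47)) :=
  Lre_b IH (LK LD1_c2 LD2_c10 LD3_c13) (LK LD1_c4 LD2_c25 LD3_c47) Lrfl Lrfl
theorem f138868 : Led Lsl_bf (LP (LK LD1_c4 LD2_c25 LD3_c50)) = (LP (LK LD1_c2 LD2_c27 LD3_c18)) :=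
  Lgr Lrot61 (Lpr_ft (K11.f138867 IH) (Lpr_bt (f100240 IH) (Lpr_ft (K6.f138825 IH) (Lpn (LP (LK LD1_c2 LD2_c27 LD3_c18))))))
theorem f117136 : Led Lsl_bt (LP (LK LD1_c3 LD2_c15 LD3_c50)) = (LP (LK LD1_c3 LD2_c50 LD3_c5)) :=
  Lgr Lrot35 (Lpe (K4.f117112 IH) (Lpe (K4.f117054 IH) (Lpr_ff (K4.f117131 IH) (Lpn (LP (LK LD1_c3 LD2_c50 LD3_c5))))))
theorem f203050 : Led Lsl_df (LP (LK LD1_c11 LD2_c45 LD3_c18)) = (LP (LK LD1_c7 LD2_c41 LD3_c10)) :=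
  Lgr Lrot183 (Lpr_ct (f110556 IH) (Lpr_bt (K28.f203034 IH) (Lpr_gt (K28.f99188 IH) (Lpr_dt (K4.f102080 IH) (Lpr_ct (K5.f81100 IH) (Lpr_bt (f80989 IH) (Lpr_gt (K7.f132872 IH) (Lpr_dt (K7.f149410 IH) (Lpe (K8.f158458 IH) (Lpe (f138868 IH) (Lpe (K8.f158137 IH) (Lpr_dt (K7.f82035 IH) (Lpe (K7.f148928 IH) (Lpr_bt (K7.f148864 IH) (Lpr_gt (K7.f98863 IH) (Lpr_dt (K7.f117075 IH) (Lpr_ct (K7.f117106 IH) (Lpr_bt (f117136 IH) (Lpr_gt (K5.f64263 IH) (Lpn (LP (LK LD1_c7 LD2_c41 LD3_c10))))))))))))))))))))))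
theorem f420157 : Led Lsl_af (LP (LK LD1_c12 LD2_c14 LD3_c18)) = (LP (LK LD1_c11 LD2_c45 LD3_c18)) :=
  Lgr Lrot117 (Lpr_dt (f420154 IH) (Lpr_at (f419774 IH) (Lpe (f203050 IH) (Lpn (LP (LK LD1_c11 LD2_c45 LD3_c18))))))
theorem f420183 : Led Lsl_af (LP (LK LD1_c6 LD2_c0 LD3_c27)) = (LP (LK LD1_c9 LD2_c25 LD3_c45)) :=
  Lgr Lrot68 (Lpr_ct (K28.f110553 IH) (Lpe (f420157 IH) (Lpr_ct (f420181 IH) (Lpn (LP (LK LD1_c9 LD2_c25 LD3_c45))))))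
theorem f424661 : Led Lsl_af (LP (LK LD1_c4 LD2_c46 LD3_c24)) = (LP (LK LD1_c9 LD2_c23 LD3_c0)) :=
  Lgr Lrot36 (Lpr_bt (f125730 IH) (Lpr_at (f424657 IH) (Lpr_bt (f420201 IH) (Lpe (f420183 IH) (Lpr_bt (K28.f203034 IH) (Lpn (LP (LK LD1_c9 LD2_c23 LD3_c0))))))))
theorem f424669 : Led Lsl_ft (LP (LK LD1_c4 LD2_c46 LD3_c25)) = (LP (LK LD1_c9 LD2_c23 LD3_c0)) :=
  Lgr Lrot2 (Lpr_gt (K11.f78348 IH) (Lpr_gt (f78345 IH) (Lpr_af (f424661 IH) (Lpn (LP (LK LD1_c9 LD2_c23 LD3_c0))))))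
theorem f424673 : Led Lsl_ff (LP (LK LD1_c4 LD2_c46 LD3_c25)) = (LP (LK LD1_c9 LD2_c23 LD3_c0)) :=
  Lgr Lrot3 (Lpr_ft (f424669 IH) (Lpn (LP (LK LD1_c9 LD2_c23 LD3_c0))))
theorem f99184 : Led Lsl_gt (LP (LK LD1_c4 LD2_c45 LD3_c10)) = (LP (LK LD1_c9 LD2_c22 LD3_c61)) :=
  Lre_g IH (LK LD1_c4 LD2_c45 LD3_c10) (LK LD1_c9 LD2_c22 LD3_c61) Lrfl Lrfl
theorem f424677 : Led Lsl_at (LP (LK LD1_c4 LD2_c46 LD3_c25)) = (LP (LK LD1_c9 LD2_c22 LD3_c61)) :=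
  Lgr Lrot26 (Lpr_ff (f424673 IH) (Lpr_gt (K28.f99188 IH) (Lpr_gt (f99184 IH) (Lpn (LP (LK LD1_c9 LD2_c22 LD3_c61))))))
theorem f424663 : Led Lsl_at (LP (LK LD1_c4 LD2_c46 LD3_c24)) = (LP (LK LD1_c9 LD2_c23 LD3_c0)) :=
  Lgr Lrot100 (Lpr_af (f424661 IH) (Lpn (LP (LK LD1_c9 LD2_c23 LD3_c0))))
theorem f424682 : Led Lsl_ff (LP (LK LD1_c4 LD2_c46 LD3_c24)) = (LP (LK LD1_c9 LD2_c22 LD3_c61)) :=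
  Lgr Lrot30 (Lpr_at (f424663 IH) (Lpe (f424673 IH) (Lpr_at (f424677 IH) (Lpn (LP (LK LD1_c9 LD2_c22 LD3_c61))))))
theorem f118975 : Led Lsl_ff (LP (LK LD1_c9 LD2_c23 LD3_c1)) = (LP (LK LD1_c4 LD2_c46 LD3_c26)) :=
  Lgr Lrot3 (Lpr_ft (K7.f118964 IH) (Lpn (LP (LK LD1_c4 LD2_c46 LD3_c26))))
theorem f101896 : Led Lsl_at (LP (LK LD1_c9 LD2_c23 LD3_c1)) = (LP (LK LD1_c4 LD2_c45 LD3_c10)) :=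
  Lre_a IH (LK LD1_c9 LD2_c23 LD3_c1) (LK LD1_c4 LD2_c45 LD3_c10) Lrfl Lrfl
theorem f118980 : Led Lsl_gf (LP (LK LD1_c9 LD2_c23 LD3_c0)) = (LP (LK LD1_c4 LD2_c46 LD3_c26)) :=
  Lgr Lrot47 (Lpr_gt (K28.f99188 IH) (Lpe (f101896 IH) (Lpr_ff (f118975 IH) (Lpn (LP (LK LD1_c4 LD2_c46 LD3_c26))))))
theorem f424688 : Led Lsl_gf (LP (LK LD1_c4 LD2_c46 LD3_c26)) = (LP (LK LD1_c9 LD2_c22 LD3_c61)) :=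
  Lgr Lrot47 (Lpe (f118980 IH) (Lpe (f424663 IH) (Lpr_ff (f424682 IH) (Lpn (LP (LK LD1_c9 LD2_c22 LD3_c61))))))
theorem f103058 : Led Lsl_bt (LP (LK LD1_c2 LD2_c21 LD3_c2)) = (LP (LK LD1_c1 LD2_c7 LD3_c50)) :=
  Lre_b IH (LK LD1_c2 LD2_c21 LD3_c2) (LK LD1_c1 LD2_c7 LD3_c50) Lrfl Lrfl
theorem f113746 : Led Lsl_bt (LP (LK LD1_c9 LD2_c22 LD3_c54)) = (LP (LK LD1_c4 LD2_c46 LD3_c1)) :=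
  Lgr Lrot62 (Lpe (K6.f91351 IH) (Lpe (K6.f91383 IH) (Lpr_af (K4.f113741 IH) (Lpe (f103058 IH) (Lpe (K32.f113745 IH) (Lpn (LP (LK LD1_c4 LD2_c46 LD3_c1))))))))
theorem f125743 : Led Lsl_ff (LP (LK LD1_c9 LD2_c22 LD3_c45)) = (LP (LK LD1_c4 LD2_c46 LD3_c1)) :=
  Lgr Lrot3 (Lpr_ft (K5.f125737 IH) (Lpn (LP (LK LD1_c4 LD2_c46 LD3_c1))))
theorem f133151 : Led Lsl_bt (LP (LK LD1_c9 LD2_c22 LD3_c45)) = (LP (LK LD1_c4 LD2_c45 LD3_c40)) :=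
  Lgr Lrot35 (Lpr_ff (f125743 IH) (Lpe (f113746 IH) (Lpr_ff (K5.f133146 IH) (Lpn (LP (LK LD1_c4 LD2_c45 LD3_c40))))))
theorem f125734 : Led Lsl_ct (LP (LK LD1_c9 LD2_c22 LD3_c45)) = (LP (LK LD1_c12 LD2_c24 LD3_c1)) :=
  Lgr Lrot59 (Lpr_cf (K5.f125723 IH) (Lpn (LP (LK LD1_c12 LD2_c24 LD3_c1))))
theorem f125749 : Led Lsl_ct (LP (LK LD1_c9 LD2_c24 LD3_c30)) = (LP (LK LD1_c4 LD2_c46 LD3_c1)) :=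
  Lre_c IH (LK LD1_c9 LD2_c24 LD3_c30) (LK LD1_c4 LD2_c46 LD3_c1) Lrfl Lrfl
theorem f125750 : Led Lsl_ft (LP (LK LD1_c12 LD2_c24 LD3_c1)) = (LP (LK LD1_c9 LD2_c24 LD3_c30)) :=
  Lgr Lrot4 (Lpe (f125734 IH) (Lpr_ff (f125743 IH) (Lpe (f125749 IH) (Lpn (LP (LK LD1_c9 LD2_c24 LD3_c30))))))
theorem f125703 : Led Lsl_at (LP (LK LD1_c9 LD2_c24 LD3_c30)) = (LP (LK LD1_c4 LD2_c45 LD3_c59)) :=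
  Lre_a IH (LK LD1_c9 LD2_c24 LD3_c30) (LK LD1_c4 LD2_c45 LD3_c59) Lrfl Lrfl
theorem f103065 : Led Lsl_gt (LP (LK LD1_c9 LD2_c24 LD3_c29)) = (LP (LK LD1_c4 LD2_c45 LD3_c59)) :=
  Lre_g IH (LK LD1_c9 LD2_c24 LD3_c29) (LK LD1_c4 LD2_c45 LD3_c59) Lrfl Lrfl
theorem f125757 : Led Lsl_gt (LP (LK LD1_c12 LD2_c24 LD3_c1)) = (LP (LK LD1_c9 LD2_c24 LD3_c29)) :=
  Lgr Lrot5 (Lpr_ft (f125750 IH) (Lpr_at (f125703 IH) (Lpe (f103065 IH) (Lpn (LP (LK LD1_c9 LD2_c24 LD3_c29))))))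
theorem f99185 : Led Lsl_bt (LP (LK LD1_c17 LD2_c19 LD3_c29)) = (LP (LK LD1_c9 LD2_c22 LD3_c61)) :=
  Lre_b IH (LK LD1_c17 LD2_c19 LD3_c29) (LK LD1_c9 LD2_c22 LD3_c61) Lrfl Lrfl
theorem f424690 : Led Lsl_cf (LP (LK LD1_c9 LD2_c24 LD3_c29)) = (LP (LK LD1_c17 LD2_c19 LD3_c29)) :=
  Lgr Lrot58 (Lpe (f125757 IH) (Lpe (f125734 IH) (Lpr_bt (f133151 IH) (Lpr_gf (K11.f202148 IH) (Lpe (K11.f75619 IH) (Lpr_ct (K4.f40545 IH) (Lpr_gf (K11.f118944 IH) (Lpe (K5.f118946 IH) (Lpr_gf (f424688 IH) (Lpe (f99185 IH) (Lpn (LP (LK LD1_c17 LD2_c19 LD3_c29)))))))))))))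
theorem f424684 : Led Lsl_ft (LP (LK LD1_c9 LD2_c25 LD3_c25)) = (LP (LK LD1_c17 LD2_c19 LD3_c29)) :=
  Lgr Lrot75 (Lpe (f125730 IH) (Lpr_ff (f424682 IH) (Lpe (f99185 IH) (Lpn (LP (LK LD1_c17 LD2_c19 LD3_c29))))))
theorem f424694 : Led Lsl_ft (LP (LK LD1_c9 LD2_c24 LD3_c29)) = (LP (LK LD1_c12 LD2_c24 LD3_c0)) :=
  Lgr Lrot4 (Lpr_cf (f424690 IH) (Lpe (f424684 IH) (Lpr_cf (f125732 IH) (Lpn (LP (LK LD1_c12 LD2_c24 LD3_c0))))))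
theorem f424698 : Led Lsl_ff (LP (LK LD1_c9 LD2_c24 LD3_c29)) = (LP (LK LD1_c12 LD2_c24 LD3_c0)) :=
  Lgr Lrot3 (Lpr_ft (f424694 IH) (Lpn (LP (LK LD1_c12 LD2_c24 LD3_c0))))
theorem f424692 : Led Lsl_ct (LP (LK LD1_c9 LD2_c24 LD3_c29)) = (LP (LK LD1_c17 LD2_c19 LD3_c29)) :=
  Lgr Lrot59 (Lpr_cf (f424690 IH) (Lpn (LP (LK LD1_c17 LD2_c19 LD3_c29))))
theorem f424702 : Led Lsl_ft (LP (LK LD1_c17 LD2_c19 LD3_c29)) = (LP (LK LD1_c9 LD2_c25 LD3_c25)) :=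
  Lgr Lrot4 (Lpe (f424692 IH) (Lpr_ff (f424698 IH) (Lpe (f125728 IH) (Lpn (LP (LK LD1_c9 LD2_c25 LD3_c25))))))
theorem f424704 : Led Lsl_gt (LP (LK LD1_c17 LD2_c19 LD3_c29)) = (LP (LK LD1_c9 LD2_c23 LD3_c15)) :=
  Lgr Lrot5 (Lpr_ft (f424702 IH) (Lpr_at (f424657 IH) (Lpe (f152476 IH) (Lpn (LP (LK LD1_c9 LD2_c23 LD3_c15))))))
theorem f424681 : Led Lsl_bt (LP (LK LD1_c9 LD2_c22 LD3_c61)) = (LP (LK LD1_c17 LD2_c19 LD3_c29)) :=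
  Lre_b IH (LK LD1_c9 LD2_c22 LD3_c61) (LK LD1_c17 LD2_c19 LD3_c29) Lrfl Lrfl
theorem f56892 : Led Lsl_gt (LP (LK LD1_c4 LD2_c59 LD3_c42)) = (LP (LK LD1_c9 LD2_c49 LD3_c49)) :=
  Lre_g IH (LK LD1_c4 LD2_c59 LD3_c42) (LK LD1_c9 LD2_c49 LD3_c49) Lrfl Lrfl
theorem f424706 : Led Lsl_ct (LP (LK LD1_c9 LD2_c22 LD3_c61)) = (LP (LK LD1_c9 LD2_c49 LD3_c49)) :=
  Lgr Lrot63 (Lpr_bt (f424681 IH) (Lpr_gt (f424704 IH) (Lpe (f79249 IH) (Lpr_ct (K11.f79246 IH) (Lpr_gt (K11.f79247 IH) (Lpe (K7.f64590 IH) (Lpe (K11.f79201 IH) (Lpr_gt (K7.f56961 IH) (Lpr_ct (K28.f56944 IH) (Lpr_gt (f56892 IH) (Lpn (LP (LK LD1_c9 LD2_c49 LD3_c49)))))))))))))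
theorem f424710 : Led Lsl_cf (LP (LK LD1_c9 LD2_c22 LD3_c61)) = (LP (LK LD1_c9 LD2_c49 LD3_c49)) :=
  Lgr Lrot11 (Lpr_ct (f424706 IH) (Lpn (LP (LK LD1_c9 LD2_c49 LD3_c49))))
theorem f501521 : Led Lsl_gf (LP (LK LD1_c11 LD2_c43 LD3_c46)) = (LP (LK LD1_c9 LD2_c49 LD3_c49)) :=
  Lgr Lrot144 (Lpr_dt (f501510 IH) (Lpe (K28.f137578 IH) (Lpr_dt (K28.f112698 IH) (Lpr_cf (f160728 IH) (Lpr_df (f150066 IH) (Lpr_gf (f138660 IH) (Lpr_df (f118940 IH) (Lpr_gf (f424688 IH) (Lpr_cf (f424710 IH) (Lpn (LP (LK LD1_c9 LD2_c49 LD3_c49))))))))))))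
theorem f501502 : Led Lsl_ct (LP (LK LD1_c5 LD2_c59 LD3_c48)) = (LP (LK LD1_c11 LD2_c43 LD3_c46)) :=
  Lre_c IH (LK LD1_c5 LD2_c59 LD3_c48) (LK LD1_c11 LD2_c43 LD3_c46) Lrfl Lrfl
theorem f107531 : Led Lsl_gt (LP (LK LD1_c3 LD2_c7 LD3_c31)) = (LP (LK LD1_c3 LD2_c5 LD3_c50)) :=
  Lgr Lrot9 (Lpe (K3.f91476 IH) (Lpr_gt (K3.f107527 IH) (Lpr_ct (K3.f79312 IH) (Lpe (K4.f103469 IH) (Lpe (K3.f13730 IH) (Lpe (K3.f13729 IH) (Lpe (K0.f13713 IH) (Lpe (K3.f13744 IH) (Lpr_cf (K4.f99177 IH) (Lpn (LP (LK LD1_c3 LD2_c5 LD3_c50))))))))))))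
theorem f103046 : Led Lsl_gt (LP (LK LD1_c9 LD2_c23 LD3_c53)) = (LP (LK LD1_c4 LD2_c45 LD3_c36)) :=
  Lre_g IH (LK LD1_c9 LD2_c23 LD3_c53) (LK LD1_c4 LD2_c45 LD3_c36) Lrfl Lrfl
theorem f501525 : Led Lsl_bt (LP (LK LD1_c5 LD2_c59 LD3_c48)) = (LP (LK LD1_c9 LD2_c23 LD3_c53)) :=
  Lgr Lrot22 (Lpr_ct (f501502 IH) (Lpr_gf (f501521 IH) (Lpe (f424706 IH) (Lpe (f99184 IH) (Lpe (K4.f99183 IH) (Lpr_ct (K4.f99155 IH) (Lpe (f107531 IH) (Lpr_cf (K8.f107513 IH) (Lpr_bt (K4.f103009 IH) (Lpe (f103046 IH) (Lpn (LP (LK LD1_c9 LD2_c23 LD3_c53)))))))))))))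
theorem f112604 : Led Lsl_at (LP (LK LD1_c5 LD2_c59 LD3_c48)) = (LP (LK LD1_c2 LD2_c56 LD3_c13)) :=
  Lre_a IH (LK LD1_c5 LD2_c59 LD3_c48) (LK LD1_c2 LD2_c56 LD3_c13) Lrfl Lrfl
theorem f501467 : Led Lsl_ft (LP (LK LD1_c9 LD2_c30 LD3_c0)) = (LP (LK LD1_c5 LD2_c59 LD3_c48)) :=
  Lgr Lrot101 (Lpe (f56968 IH) (Lpr_ff (f501464 IH) (Lpe (f112604 IH) (Lpn (LP (LK LD1_c5 LD2_c59 LD3_c48))))))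
theorem f110361 : Led Lsl_at (LP (LK LD1_c6 LD2_c0 LD3_c9)) = (LP (LK LD1_c2 LD2_c56 LD3_c23)) :=
  Lre_a IH (LK LD1_c6 LD2_c0 LD3_c9) (LK LD1_c2 LD2_c56 LD3_c23) Lrfl Lrfl
theorem f110362 : Led Lsl_ft (LP (LK LD1_c9 LD2_c23 LD3_c53)) = (LP (LK LD1_c6 LD2_c0 LD3_c9)) :=
  Lgr Lrot2 (Lpr_gt (f103046 IH) (Lpr_gt (K8.f110359 IH) (Lpe (f110361 IH) (Lpn (LP (LK LD1_c6 LD2_c0 LD3_c9))))))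
theorem f501537 : Led Lsl_bf (LP (LK LD1_c9 LD2_c30 LD3_c0)) = (LP (LK LD1_c6 LD2_c0 LD3_c9)) :=
  Lgr Lrot61 (Lpr_ft (f501467 IH) (Lpr_bt (f501525 IH) (Lpr_ft (f110362 IH) (Lpn (LP (LK LD1_c6 LD2_c0 LD3_c9))))))
theorem f501475 : Led Lsl_gf (LP (LK LD1_c9 LD2_c30 LD3_c0)) = (LP (LK LD1_c5 LD2_c59 LD3_c46)) :=
  Lgr Lrot76 (Lpe (f56968 IH) (Lpr_ff (f501464 IH) (Lpr_gt (K4.f26428 IH) (Lpn (LP (LK LD1_c5 LD2_c59 LD3_c46))))))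
theorem f157066 : Led Lsl_dt (LP (LK LD1_c4 LD2_c36 LD3_c14)) = (LP (LK LD1_c6 LD2_c1 LD3_c49)) :=
  Lgr Lrot42 (Lpr_df (K8.f157061 IH) (Lpn (LP (LK LD1_c6 LD2_c1 LD3_c49))))
theorem f202564 : Led Lsl_gt (LP (LK LD1_c6 LD2_c1 LD3_c49)) = (LP (LK LD1_c9 LD2_c13 LD3_c15)) :=
  Lgr Lrot49 (Lpe (f157066 IH) (Lpe (K8.f23022 IH) (Lpe (K8.f23021 IH) (Lpr_gt (K4.f112350 IH) (Lpr_dt (K6.f83789 IH) (Lpr_gt (K11.f202383 IH) (Lpr_dt (K11.f104873 IH) (Lpe (K11.f104871 IH) (Lpe (K11.f104872 IH) (Lpn (LP (LK LD1_c9 LD2_c13 LD3_c15))))))))))))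
theorem f498316 : Led Lsl_df (LP (LK LD1_c8 LD2_c0 LD3_c30)) = (LP (LK LD1_c4 LD2_c34 LD3_c19)) :=
  Lgr Lrot84 (Lpr_cf (K32.f498302 IH) (Lpr_df (K32.f419875 IH) (Lpe (K32.f420032 IH) (Lpe (K8.f116982 IH) (Lpr_gf (K8.f150344 IH) (Lpe (K5.f112497 IH) (Lpe (K8.f158429 IH) (Lpr_dt (K4.f117520 IH) (Lpr_gt (K11.f119887 IH) (Lpn (LP (LK LD1_c4 LD2_c34 LD3_c19))))))))))))
theorem f498308 : Led Lsl_ct (LP (LK LD1_c8 LD2_c0 LD3_c30)) = (LP (LK LD1_c5 LD2_c55 LD3_c35)) :=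
  Lgr Lrot59 (Lpr_cf (K32.f498302 IH) (Lpn (LP (LK LD1_c5 LD2_c55 LD3_c35))))
theorem f163080 : Led Lsl_af (LP (LK LD1_c2 LD2_c54 LD3_c7)) = (LP (LK LD1_c4 LD2_c35 LD3_c19)) :=
  Lgr Lrot0 (Lpr_at (K8.f163078 IH) (Lpn (LP (LK LD1_c4 LD2_c35 LD3_c19))))
theorem f163100 : Led Lsl_gt (LP (LK LD1_c2 LD2_c54 LD3_c12)) = (LP (LK LD1_c5 LD2_c55 LD3_c35)) :=
  Lgr Lrot5 (Lpr_ft (K8.f163092 IH) (Lpe (f163080 IH) (Lpe (K32.f161084 IH) (Lpn (LP (LK LD1_c5 LD2_c55 LD3_c35))))))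
theorem f419873 : Led Lsl_dt (LP (LK LD1_c5 LD2_c55 LD3_c35)) = (LP (LK LD1_c6 LD2_c38 LD3_c13)) :=
  Lgr Lrot57 (Lpe (f163100 IH) (Lpe (K6.f71953 IH) (Lpe (K6.f81997 IH) (Lpr_dt (K6.f68568 IH) (Lpr_gt (K4.f68538 IH) (Lpr_dt (K4.f69205 IH) (Lpe (K8.f69206 IH) (Lpe (K8.f116781 IH) (Lpr_gf (K32.f419871 IH) (Lpn (LP (LK LD1_c6 LD2_c38 LD3_c13))))))))))))
theorem f60855 : Led Lsl_bt (LP (LK LD1_c3 LD2_c4 LD3_c43)) = (LP (LK LD1_c1 LD2_c28 LD3_c25)) :=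
  Lre_b IH (LK LD1_c3 LD2_c4 LD3_c43) (LK LD1_c1 LD2_c28 LD3_c25) Lrfl Lrfl
theorem f149213 : Led Lsl_df (LP (LK LD1_c3 LD2_c4 LD3_c43)) = (LP (LK LD1_c3 LD2_c24 LD3_c0)) :=
  Lgr Lrot12 (Lpr_bt (f60855 IH) (Lpr_dt (K8.f149211 IH) (Lpr_bt (K11.f120801 IH) (Lpn (LP (LK LD1_c3 LD2_c24 LD3_c0))))))
theorem f109943 : Led Lsl_df (LP (LK LD1_c4 LD2_c34 LD3_c27)) = (LP (LK LD1_c2 LD2_c14 LD3_c27)) :=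
  Lgr Lrot12 (Lpr_bt (K8.f109928 IH) (Lpr_dt (K8.f109940 IH) (Lpr_bt (K8.f35240 IH) (Lpn (LP (LK LD1_c2 LD2_c14 LD3_c27))))))
theorem f161819 : Led Lsl_dt (LP (LK LD1_c5 LD2_c55 LD3_c31)) = (LP (LK LD1_c3 LD2_c10 LD3_c10)) :=
  Lgr Lrot105 (Lpe (K32.f59557 IH) (Lpe (K8.f59556 IH) (Lpe (K8.f161074 IH) (Lpr_cf (K8.f161262 IH) (Lpr_gt (K8.f160932 IH) (Lpe (f109943 IH) (Lpe (K8.f161483 IH) (Lpe (f149213 IH) (Lpr_cf (K8.f161811 IH) (Lpn (LP (LK LD1_c3 LD2_c10 LD3_c10))))))))))))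
theorem f498270 : Led Lsl_ft (LP (LK LD1_c4 LD2_c34 LD3_c19)) = (LP (LK LD1_c2 LD2_c49 LD3_c49)) :=
  Lgr Lrot75 (Lpe (K32.f112942 IH) (Lpr_ff (K32.f498266 IH) (Lpr_bf (K32.f119843 IH) (Lpn (LP (LK LD1_c2 LD2_c49 LD3_c49))))))
theorem f498339 : Led Lsl_af (LP (LK LD1_c3 LD2_c4 LD3_c43)) = (LP (LK LD1_c2 LD2_c49 LD3_c49)) :=
  Lgr Lrot109 (Lpr_cf (K8.f161811 IH) (Lpe (f161819 IH) (Lpe (K32.f149655 IH) (Lpr_df (K32.f420036 IH) (Lpr_cf (K32.f419868 IH) (Lpe (f419873 IH) (Lpe (f498308 IH) (Lpr_df (f498316 IH) (Lpr_ft (f498270 IH) (Lpn (LP (LK LD1_c2 LD2_c49 LD3_c49))))))))))))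
theorem f149239 : Led Lsl_et (LP (LK LD1_c3 LD2_c4 LD3_c43)) = (LP (LK LD1_c6 LD2_c15 LD3_c18)) :=
  Lre_e IH (LK LD1_c3 LD2_c4 LD3_c43) (LK LD1_c6 LD2_c15 LD3_c18) Lrfl Lrfl
theorem f119877 : Led Lsl_et (LP (LK LD1_c5 LD2_c47 LD3_c43)) = (LP (LK LD1_c2 LD2_c49 LD3_c49)) :=
  Lre_e IH (LK LD1_c5 LD2_c47 LD3_c43) (LK LD1_c2 LD2_c49 LD3_c49) Lrfl Lrfl
theorem f498343 : Led Lsl_at (LP (LK LD1_c6 LD2_c15 LD3_c18)) = (LP (LK LD1_c5 LD2_c47 LD3_c43)) :=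
  Lgr Lrot80 (Lpe (f149239 IH) (Lpr_af (f498339 IH) (Lpe (f119877 IH) (Lpn (LP (LK LD1_c5 LD2_c47 LD3_c43))))))
theorem f119886 : Led Lsl_dt (LP (LK LD1_c5 LD2_c47 LD3_c43)) = (LP (LK LD1_c11 LD2_c25 LD3_c12)) :=
  Lre_d IH (LK LD1_c5 LD2_c47 LD3_c43) (LK LD1_c11 LD2_c25 LD3_c12) Lrfl Lrfl
theorem f498347 : Led Lsl_af (LP (LK LD1_c12 LD2_c8 LD3_c50)) = (LP (LK LD1_c11 LD2_c25 LD3_c12)) :=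
  Lgr Lrot117 (Lpr_dt (K8.f149232 IH) (Lpr_at (f498343 IH) (Lpr_dt (f119886 IH) (Lpn (LP (LK LD1_c11 LD2_c25 LD3_c12))))))
theorem f149221 : Led Lsl_bt (LP (LK LD1_c6 LD2_c15 LD3_c21)) = (LP (LK LD1_c12 LD2_c8 LD3_c50)) :=
  Lre_b IH (LK LD1_c6 LD2_c15 LD3_c21) (LK LD1_c12 LD2_c8 LD3_c50) Lrfl Lrfl
theorem f149222 : Led Lsl_bt (LP (LK LD1_c13 LD2_c2 LD3_c9)) = (LP (LK LD1_c6 LD2_c51 LD3_c4)) :=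
  Lre_b IH (LK LD1_c13 LD2_c2 LD3_c9) (LK LD1_c6 LD2_c51 LD3_c4) Lrfl Lrfl
theorem f149223 : Led Lsl_et (LP (LK LD1_c12 LD2_c8 LD3_c50)) = (LP (LK LD1_c13 LD2_c2 LD3_c9)) :=
  Lgr Lrot74 (Lpe (f149221 IH) (Lpr_ef (K8.f149218 IH) (Lpe (f149222 IH) (Lpn (LP (LK LD1_c13 LD2_c2 LD3_c9))))))
theorem f498351 : Led Lsl_et (LP (LK LD1_c20 LD2_c22 LD3_c40)) = (LP (LK LD1_c11 LD2_c25 LD3_c12)) :=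
  Lre_e IH (LK LD1_c20 LD2_c22 LD3_c40) (LK LD1_c11 LD2_c25 LD3_c12) Lrfl Lrfl
theorem f498352 : Led Lsl_at (LP (LK LD1_c13 LD2_c2 LD3_c9)) = (LP (LK LD1_c20 LD2_c22 LD3_c40)) :=
  Lgr Lrot80 (Lpe (f149223 IH) (Lpr_af (f498347 IH) (Lpe (f498351 IH) (Lpn (LP (LK LD1_c20 LD2_c22 LD3_c40))))))
theorem f119875 : Led Lsl_dt (LP (LK LD1_c20 LD2_c22 LD3_c40)) = (LP (LK LD1_c11 LD2_c25 LD3_c10)) :=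
  Lre_d IH (LK LD1_c20 LD2_c22 LD3_c40) (LK LD1_c11 LD2_c25 LD3_c10) Lrfl Lrfl
theorem f498356 : Led Lsl_af (LP (LK LD1_c6 LD2_c51 LD3_c0)) = (LP (LK LD1_c11 LD2_c25 LD3_c10)) :=
  Lgr Lrot117 (Lpr_dt (K8.f149234 IH) (Lpr_at (f498352 IH) (Lpr_dt (f119875 IH) (Lpn (LP (LK LD1_c11 LD2_c25 LD3_c10))))))
theorem f498358 : Led Lsl_at (LP (LK LD1_c6 LD2_c51 LD3_c0)) = (LP (LK LD1_c11 LD2_c25 LD3_c10)) :=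
  Lgr Lrot100 (Lpr_af (f498356 IH) (Lpn (LP (LK LD1_c11 LD2_c25 LD3_c10))))
theorem f119855 : Led Lsl_et (LP (LK LD1_c11 LD2_c25 LD3_c10)) = (LP (LK LD1_c5 LD2_c47 LD3_c42)) :=
  Lre_e IH (LK LD1_c11 LD2_c25 LD3_c10) (LK LD1_c5 LD2_c47 LD3_c42) Lrfl Lrfl
theorem f498392 : Led Lsl_af (LP (LK LD1_c3 LD2_c24 LD3_c0)) = (LP (LK LD1_c5 LD2_c47 LD3_c42)) :=
  Lgr Lrot50 (Lpr_et (K8.f149235 IH) (Lpr_at (f498358 IH) (Lpr_et (f119855 IH) (Lpn (LP (LK LD1_c5 LD2_c47 LD3_c42))))))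
theorem f498394 : Led Lsl_at (LP (LK LD1_c5 LD2_c55 LD3_c34)) = (LP (LK LD1_c9 LD2_c7 LD3_c9)) :=
  Lgr Lrot107 (Lpe (K8.f161826 IH) (Lpr_af (f498392 IH) (Lpr_cf (K8.f161636 IH) (Lpn (LP (LK LD1_c9 LD2_c7 LD3_c9))))))
theorem f498400 : Led Lsl_ff (LP (LK LD1_c5 LD2_c55 LD3_c34)) = (LP (LK LD1_c8 LD2_c0 LD3_c31)) :=
  Lgr Lrot52 (Lpr_at (f498394 IH) (Lpe (K8.f161646 IH) (Lpr_gf (K8.f160868 IH) (Lpn (LP (LK LD1_c8 LD2_c0 LD3_c31))))))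
theorem f498406 : Led Lsl_ft (LP (LK LD1_c6 LD2_c39 LD3_c0)) = (LP (LK LD1_c9 LD2_c11 LD3_c47)) :=
  Lgr Lrot54 (Lpr_df (K8.f161849 IH) (Lpr_ff (f498400 IH) (Lpr_df (K8.f132548 IH) (Lpn (LP (LK LD1_c9 LD2_c11 LD3_c47))))))
theorem f498412 : Led Lsl_af (LP (LK LD1_c6 LD2_c38 LD3_c13)) = (LP (LK LD1_c9 LD2_c11 LD3_c47)) :=
  Lgr Lrot31 (Lpe (K32.f420032 IH) (Lpr_gf (K8.f161847 IH) (Lpr_ft (f498406 IH) (Lpn (LP (LK LD1_c9 LD2_c11 LD3_c47))))))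
theorem f161648 : Led Lsl_bf (LP (LK LD1_c6 LD2_c0 LD3_c30)) = (LP (LK LD1_c9 LD2_c7 LD3_c9)) :=
  Lgr Lrot34 (Lpe (K7.f110550 IH) (Lpe (K6.f65057 IH) (Lpr_ct (K3.f65009 IH) (Lpr_gf (K3.f103958 IH) (Lpe (K5.f103941 IH) (Lpe (K3.f65631 IH) (Lpr_bf (K8.f149667 IH) (Lpr_ct (K7.f56771 IH) (Lpr_gf (K6.f119838 IH) (Lpr_cf (K8.f161636 IH) (Lpn (LP (LK LD1_c9 LD2_c7 LD3_c9)))))))))))))
theorem f160809 : Led Lsl_bt (LP (LK LD1_c0 LD2_c41 LD3_c38)) = (LP (LK LD1_c1 LD2_c24 LD3_c23)) :=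
  Lgr Lrot95 (Lpe (K8.f91437 IH) (Lpr_bf (K8.f160803 IH) (Lpe (K8.f56777 IH) (Lpn (LP (LK LD1_c1 LD2_c24 LD3_c23))))))
theorem f161650 : Led Lsl_gf (LP (LK LD1_c5 LD2_c47 LD3_c42)) = (LP (LK LD1_c5 LD2_c56 LD3_c0)) :=
  Lgr Lrot129 (Lpr_cf (K8.f161636 IH) (Lpe (f161648 IH) (Lpe (K7.f110548 IH) (Lpe (K4.f91483 IH) (Lpr_ct (K3.f89460 IH) (Lpr_gt (K3.f61883 IH) (Lpe (K5.f61864 IH) (Lpr_bt (f160809 IH) (Lpr_gt (K6.f56863 IH) (Lpr_ct (K6.f82000 IH) (Lpn (LP (LK LD1_c5 LD2_c56 LD3_c0)))))))))))))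
theorem f161634 : Led Lsl_ct (LP (LK LD1_c5 LD2_c47 LD3_c42)) = (LP (LK LD1_c9 LD2_c7 LD3_c9)) :=
  Lgr Lrot8 (Lpe (K6.f119838 IH) (Lpr_dt (K7.f136249 IH) (Lpr_gt (K8.f158433 IH) (Lpr_dt (K5.f37762 IH) (Lpr_cf (K5.f112488 IH) (Lpe (K8.f150346 IH) (Lpe (K8.f99976 IH) (Lpr_df (K8.f161627 IH) (Lpe (K8.f161429 IH) (Lpn (LP (LK LD1_c9 LD2_c7 LD3_c9))))))))))))
theorem f161652 : Led Lsl_dt (LP (LK LD1_c9 LD2_c7 LD3_c9)) = (LP (LK LD1_c9 LD2_c11 LD3_c48)) :=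
  Lgr Lrot27 (Lpe (f161634 IH) (Lpr_gf (f161650 IH) (Lpe (K6.f82000 IH) (Lpe (K6.f56863 IH) (Lpe (K4.f64481 IH) (Lpr_gt (K4.f56778 IH) (Lpr_ct (K4.f82016 IH) (Lpr_gt (K8.f117811 IH) (Lpe (K8.f138788 IH) (Lpn (LP (LK LD1_c9 LD2_c11 LD3_c48))))))))))))
theorem f498398 : Led Lsl_af (LP (LK LD1_c6 LD2_c39 LD3_c0)) = (LP (LK LD1_c9 LD2_c11 LD3_c48)) :=
  Lgr Lrot117 (Lpr_dt (K8.f161833 IH) (Lpr_at (f498394 IH) (Lpr_dt (f161652 IH) (Lpn (LP (LK LD1_c9 LD2_c11 LD3_c48))))))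
theorem f498420 : Led Lsl_ft (LP (LK LD1_c6 LD2_c38 LD3_c13)) = (LP (LK LD1_c9 LD2_c11 LD3_c48)) :=
  Lgr Lrot101 (Lpr_af (f498412 IH) (Lpe (f498406 IH) (Lpr_af (f498398 IH) (Lpn (LP (LK LD1_c9 LD2_c11 LD3_c48))))))
theorem f498426 : Led Lsl_ff (LP (LK LD1_c6 LD2_c38 LD3_c13)) = (LP (LK LD1_c9 LD2_c11 LD3_c48)) :=
  Lgr Lrot3 (Lpr_ft (f498420 IH) (Lpn (LP (LK LD1_c9 LD2_c11 LD3_c48))))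
theorem f498434 : Led Lsl_ft (LP (LK LD1_c5 LD2_c55 LD3_c35)) = (LP (LK LD1_c9 LD2_c7 LD3_c9)) :=
  Lgr Lrot54 (Lpr_df (K32.f419875 IH) (Lpr_ff (f498426 IH) (Lpe (f161652 IH) (Lpn (LP (LK LD1_c9 LD2_c7 LD3_c9))))))
theorem f498436 : Led Lsl_ff (LP (LK LD1_c6 LD2_c38 LD3_c15)) = (LP (LK LD1_c6 LD2_c0 LD3_c30)) :=
  Lgr Lrot25 (Lpe (K32.f420050 IH) (Lpr_ft (f498434 IH) (Lpe (f161648 IH) (Lpn (LP (LK LD1_c6 LD2_c0 LD3_c30))))))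
theorem f498440 : Led Lsl_at (LP (LK LD1_c6 LD2_c38 LD3_c15)) = (LP (LK LD1_c6 LD2_c19 LD3_c61)) :=
  Lgr Lrot26 (Lpr_ff (f498436 IH) (Lpe (K7.f110548 IH) (Lpr_gt (K7.f61897 IH) (Lpn (LP (LK LD1_c6 LD2_c19 LD3_c61))))))
theorem f419896 : Led Lsl_at (LP (LK LD1_c9 LD2_c25 LD3_c46)) = (LP (LK LD1_c4 LD2_c46 LD3_c33)) :=
  Lre_a IH (LK LD1_c9 LD2_c25 LD3_c46) (LK LD1_c4 LD2_c46 LD3_c33) Lrfl Lrfl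
theorem f498446 : Led Lsl_cf (LP (LK LD1_c9 LD2_c25 LD3_c46)) = (LP (LK LD1_c6 LD2_c19 LD3_c61)) :=
  Lgr Lrot1 (Lpr_at (f419896 IH) (Lpr_ct (K32.f419892 IH) (Lpr_at (f498440 IH) (Lpn (LP (LK LD1_c6 LD2_c19 LD3_c61))))))
theorem f148786 : Led Lsl_dt (LP (LK LD1_c6 LD2_c35 LD3_c37)) = (LP (LK LD1_c6 LD2_c0 LD3_c30)) :=
  Lgr Lrot115 (Lpe (K8.f93664 IH) (Lpr_ct (K7.f148762 IH) (Lpe (K7.f148753 IH) (Lpr_dt (K7.f115819 IH) (Lpe (K4.f115816 IH) (Lpe (K4.f111233 IH) (Lpr_ct (K7.f105212 IH) (Lpr_df (K4.f105213 IH) (Lpr_gf (K7.f110548 IH) (Lpn (LP (LK LD1_c6 LD2_c0 LD3_c30))))))))))))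
theorem f76270 : Led Lsl_gt (LP (LK LD1_c6 LD2_c0 LD3_c28)) = (LP (LK LD1_c2 LD2_c56 LD3_c30)) :=
  Lre_g IH (LK LD1_c6 LD2_c0 LD3_c28) (LK LD1_c2 LD2_c56 LD3_c30) Lrfl Lrfl
theorem f151431 : Led Lsl_ct (LP (LK LD1_c11 LD2_c45 LD3_c20)) = (LP (LK LD1_c6 LD2_c0 LD3_c28)) :=
  Lre_c IH (LK LD1_c11 LD2_c45 LD3_c20) (LK LD1_c6 LD2_c0 LD3_c28) Lrfl Lrfl
theorem f158589 : Led Lsl_gf (LP (LK LD1_c11 LD2_c45 LD3_c20)) = (LP (LK LD1_c12 LD2_c15 LD3_c8)) :=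
  Lgr Lrot147 (Lpr_ct (f151431 IH) (Lpr_gt (f76270 IH) (Lpr_ct (K7.f98891 IH) (Lpe (f148786 IH) (Lpe (K8.f93866 IH) (Lpr_gf (K8.f158587 IH) (Lpr_cf (K8.f141611 IH) (Lpr_gf (K8.f146713 IH) (Lpe (K6.f141978 IH) (Lpn (LP (LK LD1_c12 LD2_c15 LD3_c8))))))))))))
theorem f162925 : Led Lsl_dt (LP (LK LD1_c11 LD2_c45 LD3_c20)) = (LP (LK LD1_c7 LD2_c41 LD3_c11)) :=
  Lgr Lrot105 (Lpr_gf (f158589 IH) (Lpr_df (K7.f146709 IH) (Lpr_gf (K8.f162923 IH) (Lpe (K8.f162915 IH) (Lpe (K8.f148788 IH) (Lpr_dt (K32.f151470 IH) (Lpr_gt (K4.f122087 IH) (Lpe (K28.f157515 IH) (Lpr_cf (K8.f87369 IH) (Lpn (LP (LK LD1_c7 LD2_c41 LD3_c11))))))))))))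
theorem f158591 : Led Lsl_ct (LP (LK LD1_c6 LD2_c0 LD3_c28)) = (LP (LK LD1_c11 LD2_c45 LD3_c20)) :=
  Lre_c IH (LK LD1_c6 LD2_c0 LD3_c28) (LK LD1_c11 LD2_c45 LD3_c20) Lrfl Lrfl
theorem f498456 : Led Lsl_gt (LP (LK LD1_c9 LD2_c25 LD3_c46)) = (LP (LK LD1_c6 LD2_c0 LD3_c28)) :=
  Lgr Lrot150 (Lpr_cf (f498446 IH) (Lpe (K7.f61897 IH) (Lpr_df (K8.f105531 IH) (Lpr_gt (K7.f105239 IH) (Lpr_ct (K7.f105241 IH) (Lpe (K8.f157509 IH) (Lpr_ct (K8.f87355 IH) (Lpe (f162925 IH) (Lpe (f158591 IH) (Lpn (LP (LK LD1_c6 LD2_c0 LD3_c28))))))))))))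
theorem f14678 : Led Lsl_dt (LP (LK LD1_c7 LD2_c43 LD3_c57)) = (LP (LK LD1_c3 LD2_c51 LD3_c15)) :=
  Lre_d IH (LK LD1_c7 LD2_c43 LD3_c57) (LK LD1_c3 LD2_c51 LD3_c15) Lrfl Lrfl
theorem f420152 : Led Lsl_df (LP (LK LD1_c12 LD2_c14 LD3_c18)) = (LP (LK LD1_c14 LD2_c15 LD3_c57)) :=
  Lgr Lrot153 (Lpr_gt (f420150 IH) (Lpr_dt (f14678 IH) (Lpe (K8.f65359 IH) (Lpr_df (K32.f65179 IH) (Lpe (K4.f65362 IH) (Lpe (K4.f111226 IH) (Lpe (K7.f122287 IH) (Lpe (K4.f117150 IH) (Lpe (K28.f419397 IH) (Lpn (LP (LK LD1_c14 LD2_c15 LD3_c57))))))))))))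
theorem f419776 : Led Lsl_ff (LP (LK LD1_c14 LD2_c15 LD3_c57)) = (LP (LK LD1_c7 LD2_c41 LD3_c11)) :=
  Lgr Lrot52 (Lpr_at (f419774 IH) (Lpe (K5.f64263 IH) (Lpe (K8.f63508 IH) (Lpn (LP (LK LD1_c7 LD2_c41 LD3_c11))))))
theorem f420162 : Led Lsl_ft (LP (LK LD1_c12 LD2_c14 LD3_c18)) = (LP (LK LD1_c11 LD2_c45 LD3_c20)) :=
  Lgr Lrot54 (Lpr_df (f420152 IH) (Lpr_ff (f419776 IH) (Lpe (f162925 IH) (Lpn (LP (LK LD1_c11 LD2_c45 LD3_c20))))))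
theorem f420164 : Led Lsl_ff (LP (LK LD1_c12 LD2_c14 LD3_c18)) = (LP (LK LD1_c11 LD2_c45 LD3_c20)) :=
  Lgr Lrot3 (Lpr_ft (f420162 IH) (Lpn (LP (LK LD1_c11 LD2_c45 LD3_c20))))
theorem f420160 : Led Lsl_at (LP (LK LD1_c12 LD2_c14 LD3_c18)) = (LP (LK LD1_c11 LD2_c45 LD3_c18)) :=
  Lgr Lrot100 (Lpr_af (f420157 IH) (Lpn (LP (LK LD1_c11 LD2_c45 LD3_c18))))
theorem f420176 : Led Lsl_gf (LP (LK LD1_c12 LD2_c36 LD3_c9)) = (LP (LK LD1_c11 LD2_c45 LD3_c20)) :=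
  Lgr Lrot47 (Lpe (K28.f203052 IH) (Lpe (f420160 IH) (Lpr_ff (f420164 IH) (Lpn (LP (LK LD1_c11 LD2_c45 LD3_c20))))))
theorem f142689 : Led Lsl_ct (LP (LK LD1_c7 LD2_c25 LD3_c53)) = (LP (LK LD1_c3 LD2_c42 LD3_c38)) :=
  Lre_c IH (LK LD1_c7 LD2_c25 LD3_c53) (LK LD1_c3 LD2_c42 LD3_c38) Lrfl Lrfl
theorem f71011 : Led Lsl_at (LP (LK LD1_c2 LD2_c53 LD3_c17)) = (LP (LK LD1_c1 LD2_c22 LD3_c49)) :=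
  Lre_a IH (LK LD1_c2 LD2_c53 LD3_c17) (LK LD1_c1 LD2_c22 LD3_c49) Lrfl Lrfl
theorem f71019 : Led Lsl_gt (LP (LK LD1_c2 LD2_c53 LD3_c30)) = (LP (LK LD1_c1 LD2_c22 LD3_c49)) :=
  Lre_g IH (LK LD1_c2 LD2_c53 LD3_c30) (LK LD1_c1 LD2_c22 LD3_c49) Lrfl Lrfl
theorem f71020 : Led Lsl_gt (LP (LK LD1_c4 LD2_c35 LD3_c60)) = (LP (LK LD1_c2 LD2_c53 LD3_c30)) :=
  Lgr Lrot5 (Lpr_ft (K2.f71003 IH) (Lpr_at (f71011 IH) (Lpe (f71019 IH) (Lpn (LP (LK LD1_c2 LD2_c53 LD3_c30))))))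
theorem f71027 : Led Lsl_ct (LP (LK LD1_c5 LD2_c54 LD3_c11)) = (LP (LK LD1_c2 LD2_c53 LD3_c30)) :=
  Lre_c IH (LK LD1_c5 LD2_c54 LD3_c11) (LK LD1_c2 LD2_c53 LD3_c30) Lrfl Lrfl
theorem f71028 : Led Lsl_bt (LP (LK LD1_c5 LD2_c54 LD3_c11)) = (LP (LK LD1_c11 LD2_c34 LD3_c11)) :=
  Lre_b IH (LK LD1_c5 LD2_c54 LD3_c11) (LK LD1_c11 LD2_c34 LD3_c11) Lrfl Lrfl
theorem f436531 : Led Lsl_gf (LP (LK LD1_c7 LD2_c25 LD3_c53)) = (LP (LK LD1_c11 LD2_c34 LD3_c11)) :=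
  Lgr Lrot181 (Lpr_ct (f142689 IH) (Lpr_gt (K7.f125598 IH) (Lpe (K7.f146728 IH) (Lpe (K28.f151237 IH) (Lpr_gt (K11.f151248 IH) (Lpe (K7.f71029 IH) (Lpr_ct (K2.f70904 IH) (Lpr_gt (f71020 IH) (Lpe (f71027 IH) (Lpr_bt (f71028 IH) (Lpn (LP (LK LD1_c11 LD2_c34 LD3_c11)))))))))))))
theorem f498462 : Led Lsl_df (LP (LK LD1_c9 LD2_c25 LD3_c46)) = (LP (LK LD1_c11 LD2_c34 LD3_c11)) :=
  Lgr Lrot155 (Lpr_gt (f498456 IH) (Lpr_ct (f158591 IH) (Lpe (f420176 IH) (Lpe (K7.f141718 IH) (Lpe (K7.f146729 IH) (Lpe (K7.f142535 IH) (Lpe (K7.f125598 IH) (Lpe (f142689 IH) (Lpr_gf (f436531 IH) (Lpn (LP (LK LD1_c11 LD2_c34 LD3_c11))))))))))))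
theorem f419897 : Led Lsl_at (LP (LK LD1_c4 LD2_c46 LD3_c33)) = (LP (LK LD1_c9 LD2_c25 LD3_c46)) :=
  Lre_a IH (LK LD1_c4 LD2_c46 LD3_c33) (LK LD1_c9 LD2_c25 LD3_c46) Lrfl Lrfl
theorem f112385 : Led Lsl_at (LP (LK LD1_c6 LD2_c0 LD3_c39)) = (LP (LK LD1_c2 LD2_c56 LD3_c34)) :=
  Lre_a IH (LK LD1_c6 LD2_c0 LD3_c39) (LK LD1_c2 LD2_c56 LD3_c34) Lrfl Lrfl
theorem f497084 : Led Lsl_bt (LP (LK LD1_c9 LD2_c25 LD3_c46)) = (LP (LK LD1_c6 LD2_c0 LD3_c39)) :=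
  Lgr Lrot62 (Lpe (f419897 IH) (Lpe (K32.f150396 IH) (Lpr_af (K32.f497062 IH) (Lpe (K11.f69050 IH) (Lpe (f112385 IH) (Lpn (LP (LK LD1_c6 LD2_c0 LD3_c39))))))))
theorem f498466 : Led Lsl_dt (LP (LK LD1_c6 LD2_c0 LD3_c39)) = (LP (LK LD1_c5 LD2_c54 LD3_c11)) :=
  Lgr Lrot79 (Lpe (f497084 IH) (Lpr_df (f498462 IH) (Lpe (f71028 IH) (Lpn (LP (LK LD1_c5 LD2_c54 LD3_c11))))))
theorem f71026 : Led Lsl_ct (LP (LK LD1_c2 LD2_c53 LD3_c30)) = (LP (LK LD1_c5 LD2_c54 LD3_c11)) :=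
  Lre_c IH (LK LD1_c2 LD2_c53 LD3_c30) (LK LD1_c5 LD2_c54 LD3_c11) Lrfl Lrfl
theorem f138161 : Led Lsl_dt (LP (LK LD1_c5 LD2_c54 LD3_c41)) = (LP (LK LD1_c2 LD2_c53 LD3_c42)) :=
  Lre_d IH (LK LD1_c5 LD2_c54 LD3_c41) (LK LD1_c2 LD2_c53 LD3_c42) Lrfl Lrfl
theorem f149946 : Led Lsl_gt (LP (LK LD1_c4 LD2_c38 LD3_c47)) = (LP (LK LD1_c5 LD2_c54 LD3_c41)) :=
  Lgr Lrot94 (Lpr_cf (K7.f149937 IH) (Lpr_gt (K7.f78705 IH) (Lpr_dt (K5.f133098 IH) (Lpr_gt (K8.f138154 IH) (Lpr_dt (K2.f70864 IH) (Lpe (K11.f70867 IH) (Lpe (K11.f70887 IH) (Lpr_gf (K32.f71184 IH) (Lpe (f138161 IH) (Lpn (LP (LK LD1_c5 LD2_c54 LD3_c41))))))))))))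
theorem f498479 : Led Lsl_cf (LP (LK LD1_c6 LD2_c0 LD3_c39)) = (LP (LK LD1_c5 LD2_c54 LD3_c41)) :=
  Lgr Lrot175 (Lpr_dt (f498466 IH) (Lpe (f71026 IH) (Lpe (f71020 IH) (Lpe (K2.f70904 IH) (Lpr_gf (K8.f70902 IH) (Lpe (K8.f138132 IH) (Lpr_gt (K7.f133163 IH) (Lpe (K7.f149937 IH) (Lpr_gt (f149946 IH) (Lpn (LP (LK LD1_c5 LD2_c54 LD3_c41))))))))))))
theorem f27052 : Led Lsl_gt (LP (LK LD1_c2 LD2_c18 LD3_c44)) = (LP (LK LD1_c1 LD2_c6 LD3_c23)) :=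
  Lre_g IH (LK LD1_c2 LD2_c18 LD3_c44) (LK LD1_c1 LD2_c6 LD3_c23) Lrfl Lrfl
theorem f138598 : Led Lsl_df (LP (LK LD1_c2 LD2_c18 LD3_c44)) = (LP (LK LD1_c2 LD2_c53 LD3_c30)) :=
  Lgr Lrot153 (Lpr_gt (f27052 IH) (Lpr_dt (K11.f78293 IH) (Lpe (K6.f59256 IH) (Lpe (K6.f78251 IH) (Lpe (K6.f78201 IH) (Lpe (K6.f78292 IH) (Lpr_gf (K11.f138157 IH) (Lpe (K2.f70870 IH) (Lpr_gt (f71020 IH) (Lpn (LP (LK LD1_c2 LD2_c53 LD3_c30))))))))))))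
theorem f138601 : Led Lsl_dt (LP (LK LD1_c2 LD2_c18 LD3_c44)) = (LP (LK LD1_c2 LD2_c53 LD3_c30)) :=
  Lgr Lrot42 (Lpr_df (f138598 IH) (Lpn (LP (LK LD1_c2 LD2_c53 LD3_c30))))
theorem f202245 : Led Lsl_gf (LP (LK LD1_c2 LD2_c18 LD3_c44)) = (LP (LK LD1_c1 LD2_c28 LD3_c8)) :=
  Lgr Lrot144 (Lpr_dt (f138601 IH) (Lpr_gt (f71019 IH) (Lpr_dt (K2.f70845 IH) (Lpe (K4.f37944 IH) (Lpe (K2.f22773 IH) (Lpe (K6.f59464 IH) (Lpr_df (K6.f137398 IH) (Lpr_gf (K11.f202241 IH) (Lpe (K11.f80728 IH) (Lpn (LP (LK LD1_c1 LD2_c28 LD3_c8))))))))))))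
theorem f498475 : Led Lsl_gf (LP (LK LD1_c6 LD2_c0 LD3_c39)) = (LP (LK LD1_c9 LD2_c25 LD3_c54)) :=
  Lgr Lrot143 (Lpr_dt (f498466 IH) (Lpe (f71026 IH) (Lpe (f138601 IH) (Lpr_gf (f202245 IH) (Lpe (K11.f202184 IH) (Lpe (K11.f202163 IH) (Lpe (K11.f112740 IH) (Lpe (K32.f163410 IH) (Lpr_dt (K32.f163439 IH) (Lpn (LP (LK LD1_c9 LD2_c25 LD3_c54))))))))))))
theorem f497246 : Led Lsl_bt (LP (LK LD1_c5 LD2_c54 LD3_c41)) = (LP (LK LD1_c11 LD2_c35 LD3_c0)) :=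
  Lre_b IH (LK LD1_c5 LD2_c54 LD3_c41) (LK LD1_c11 LD2_c35 LD3_c0) Lrfl Lrfl
theorem f498489 : Led Lsl_gf (LP (LK LD1_c6 LD2_c20 LD3_c10)) = (LP (LK LD1_c11 LD2_c35 LD3_c0)) :=
  Lgr Lrot124 (Lpe (K5.f91433 IH) (Lpr_ct (K4.f26134 IH) (Lpr_gt (K2.f91303 IH) (Lpe (K2.f90580 IH) (Lpr_bt (K5.f83772 IH) (Lpr_gt (K6.f83796 IH) (Lpr_ct (K32.f156794 IH) (Lpe (f498475 IH) (Lpr_cf (f498479 IH) (Lpr_bt (f497246 IH) (Lpn (LP (LK LD1_c11 LD2_c35 LD3_c0)))))))))))))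
theorem f82515 : Led Lsl_ct (LP (LK LD1_c2 LD2_c19 LD3_c7)) = (LP (LK LD1_c1 LD2_c6 LD3_c42)) :=
  Lre_c IH (LK LD1_c2 LD2_c19 LD3_c7) (LK LD1_c1 LD2_c6 LD3_c42) Lrfl Lrfl
theorem f131570 : Led Lsl_bt (LP (LK LD1_c12 LD2_c14 LD3_c43)) = (LP (LK LD1_c6 LD2_c19 LD3_c61)) :=
  Lre_b IH (LK LD1_c12 LD2_c14 LD3_c43) (LK LD1_c6 LD2_c19 LD3_c61) Lrfl Lrfl
theorem f498495 : Led Lsl_ct (LP (LK LD1_c12 LD2_c14 LD3_c43)) = (LP (LK LD1_c11 LD2_c35 LD3_c0)) :=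
  Lgr Lrot64 (Lpr_bt (f131570 IH) (Lpe (K7.f61897 IH) (Lpe (K4.f91483 IH) (Lpr_ct (K3.f89460 IH) (Lpe (K5.f131559 IH) (Lpe (f82515 IH) (Lpr_gf (K8.f152428 IH) (Lpe (K5.f82003 IH) (Lpr_ct (K5.f82004 IH) (Lpr_gf (f498489 IH) (Lpn (LP (LK LD1_c11 LD2_c35 LD3_c0)))))))))))))
theorem f498503 : Led Lsl_cf (LP (LK LD1_c12 LD2_c14 LD3_c43)) = (LP (LK LD1_c11 LD2_c35 LD3_c0)) :=
  Lgr Lrot11 (Lpr_ct (f498495 IH) (Lpn (LP (LK LD1_c11 LD2_c35 LD3_c0))))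
theorem f498304 : Led Lsl_at (LP (LK LD1_c8 LD2_c0 LD3_c31)) = (LP (LK LD1_c5 LD2_c55 LD3_c35)) :=
  Lgr Lrot107 (Lpe (K8.f36253 IH) (Lpe (K32.f132556 IH) (Lpr_cf (K32.f498302 IH) (Lpn (LP (LK LD1_c5 LD2_c55 LD3_c35))))))
theorem f204147 : Led Lsl_gf (LP (LK LD1_c6 LD2_c1 LD3_c40)) = (LP (LK LD1_c7 LD2_c44 LD3_c22)) :=
  Lgr Lrot172 (Lpe (K11.f204141 IH) (Lpr_dt (K11.f204137 IH) (Lpe (K7.f64590 IH) (Lpe (K11.f79221 IH) (Lpe (K7.f79940 IH) (Lpe (K7.f79384 IH) (Lpr_dt (K11.f15573 IH) (Lpr_gt (K11.f65997 IH) (Lpr_ct (K11.f65998 IH) (Lpn (LP (LK LD1_c7 LD2_c44 LD3_c22))))))))))))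
theorem f203487 : Led Lsl_gt (LP (LK LD1_c14 LD2_c35 LD3_c45)) = (LP (LK LD1_c7 LD2_c44 LD3_c21)) :=
  Lre_g IH (LK LD1_c14 LD2_c35 LD3_c45) (LK LD1_c7 LD2_c44 LD3_c21) Lrfl Lrfl
theorem f204149 : Led Lsl_bt (LP (LK LD1_c8 LD2_c0 LD3_c31)) = (LP (LK LD1_c14 LD2_c35 LD3_c45)) :=
  Lgr Lrot22 (Lpr_ct (K8.f37455 IH) (Lpe (K8.f160870 IH) (Lpe (K7.f56771 IH) (Lpr_gf (K8.f161905 IH) (Lpe (K32.f150451 IH) (Lpr_ct (K11.f202360 IH) (Lpr_gf (f204147 IH) (Lpe (K11.f65998 IH) (Lpr_bt (K28.f203474 IH) (Lpe (f203487 IH) (Lpn (LP (LK LD1_c14 LD2_c35 LD3_c45)))))))))))))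
theorem f204151 : Led Lsl_bf (LP (LK LD1_c8 LD2_c0 LD3_c31)) = (LP (LK LD1_c14 LD2_c35 LD3_c45)) :=
  Lgr Lrot24 (Lpr_bt (f204149 IH) (Lpn (LP (LK LD1_c14 LD2_c35 LD3_c45))))
theorem f151446 : Led Lsl_bt (LP (LK LD1_c6 LD2_c19 LD3_c61)) = (LP (LK LD1_c12 LD2_c14 LD3_c43)) :=
  Lre_b IH (LK LD1_c6 LD2_c19 LD3_c61) (LK LD1_c12 LD2_c14 LD3_c43) Lrfl Lrfl
theorem f498444 : Led Lsl_af (LP (LK LD1_c14 LD2_c35 LD3_c45)) = (LP (LK LD1_c12 LD2_c14 LD3_c43)) :=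
  Lgr Lrot36 (Lpe (f204151 IH) (Lpr_at (f498304 IH) (Lpr_bt (K32.f420030 IH) (Lpr_at (f498440 IH) (Lpr_bt (f151446 IH) (Lpn (LP (LK LD1_c12 LD2_c14 LD3_c43))))))))
theorem f204153 : Led Lsl_bt (LP (LK LD1_c8 LD2_c0 LD3_c33)) = (LP (LK LD1_c3 LD2_c59 LD3_c45)) :=
  Lre_b IH (LK LD1_c8 LD2_c0 LD3_c33) (LK LD1_c3 LD2_c59 LD3_c45) Lrfl Lrfl
theorem f204154 : Led Lsl_cf (LP (LK LD1_c8 LD2_c0 LD3_c33)) = (LP (LK LD1_c14 LD2_c35 LD3_c45)) :=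
  Lgr Lrot97 (Lpr_bt (f204153 IH) (Lpr_ct (K32.f40426 IH) (Lpr_bt (K8.f157821 IH) (Lpr_ct (K8.f36253 IH) (Lpr_bt (f204149 IH) (Lpn (LP (LK LD1_c14 LD2_c35 LD3_c45))))))))
theorem f498514 : Led Lsl_at (LP (LK LD1_c8 LD2_c0 LD3_c33)) = (LP (LK LD1_c11 LD2_c35 LD3_c0)) :=
  Lgr Lrot107 (Lpr_cf (f204154 IH) (Lpr_af (f498444 IH) (Lpr_cf (f498503 IH) (Lpn (LP (LK LD1_c11 LD2_c35 LD3_c0))))))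
theorem f498491 : Led Lsl_gt (LP (LK LD1_c13 LD2_c1 LD3_c5)) = (LP (LK LD1_c11 LD2_c35 LD3_c0)) :=
  Lgr Lrot5 (Lpe (K8.f124762 IH) (Lpr_at (K8.f91488 IH) (Lpr_gf (f498489 IH) (Lpn (LP (LK LD1_c11 LD2_c35 LD3_c0))))))
theorem f498526 : Led Lsl_ff (LP (LK LD1_c8 LD2_c0 LD3_c33)) = (LP (LK LD1_c6 LD2_c51 LD3_c1)) :=
  Lgr Lrot52 (Lpr_at (f498514 IH) (Lpe (f498491 IH) (Lpe (K8.f124768 IH) (Lpn (LP (LK LD1_c6 LD2_c51 LD3_c1))))))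
theorem f132561 : Led Lsl_et (LP (LK LD1_c15 LD2_c5 LD3_c12)) = (LP (LK LD1_c8 LD2_c0 LD3_c31)) :=
  Lre_e IH (LK LD1_c15 LD2_c5 LD3_c12) (LK LD1_c8 LD2_c0 LD3_c31) Lrfl Lrfl
theorem f204158 : Led Lsl_et (LP (LK LD1_c14 LD2_c35 LD3_c45)) = (LP (LK LD1_c24 LD2_c18 LD3_c61)) :=
  Lre_e IH (LK LD1_c14 LD2_c35 LD3_c45) (LK LD1_c24 LD2_c18 LD3_c61) Lrfl Lrfl
theorem f204159 : Led Lsl_bf (LP (LK LD1_c15 LD2_c5 LD3_c12)) = (LP (LK LD1_c24 LD2_c18 LD3_c61)) :=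
  Lgr Lrot96 (Lpr_et (f132561 IH) (Lpr_bt (f204149 IH) (Lpr_et (f204158 IH) (Lpn (LP (LK LD1_c24 LD2_c18 LD3_c61))))))
theorem f204163 : Led Lsl_ct (LP (LK LD1_c15 LD2_c5 LD3_c12)) = (LP (LK LD1_c8 LD2_c0 LD3_c32)) :=
  Lre_c IH (LK LD1_c15 LD2_c5 LD3_c12) (LK LD1_c8 LD2_c0 LD3_c32) Lrfl Lrfl
theorem f204164 : Led Lsl_bt (LP (LK LD1_c8 LD2_c0 LD3_c32)) = (LP (LK LD1_c3 LD2_c59 LD3_c46)) :=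
  Lre_b IH (LK LD1_c8 LD2_c0 LD3_c32) (LK LD1_c3 LD2_c59 LD3_c46) Lrfl Lrfl
theorem f204165 : Led Lsl_ct (LP (LK LD1_c3 LD2_c59 LD3_c46)) = (LP (LK LD1_c8 LD2_c0 LD3_c35)) :=
  Lre_c IH (LK LD1_c3 LD2_c59 LD3_c46) (LK LD1_c8 LD2_c0 LD3_c35) Lrfl Lrfl
theorem f204166 : Led Lsl_bt (LP (LK LD1_c8 LD2_c0 LD3_c35)) = (LP (LK LD1_c15 LD2_c5 LD3_c13)) :=
  Lre_b IH (LK LD1_c8 LD2_c0 LD3_c35) (LK LD1_c15 LD2_c5 LD3_c13) Lrfl Lrfl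
theorem f204167 : Led Lsl_ct (LP (LK LD1_c15 LD2_c5 LD3_c13)) = (LP (LK LD1_c24 LD2_c18 LD3_c61)) :=
  Lgr Lrot83 (Lpe (f204166 IH) (Lpe (f204165 IH) (Lpe (f204164 IH) (Lpe (f204163 IH) (Lpr_bf (f204159 IH) (Lpn (LP (LK LD1_c24 LD2_c18 LD3_c61))))))))
theorem f204169 : Led Lsl_cf (LP (LK LD1_c15 LD2_c5 LD3_c13)) = (LP (LK LD1_c24 LD2_c18 LD3_c61)) :=
  Lgr Lrot11 (Lpr_ct (f204167 IH) (Lpn (LP (LK LD1_c24 LD2_c18 LD3_c61))))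
theorem f107337 : Led Lsl_et (LP (LK LD1_c15 LD2_c5 LD3_c13)) = (LP (LK LD1_c8 LD2_c0 LD3_c33)) :=
  Lre_e IH (LK LD1_c15 LD2_c5 LD3_c13) (LK LD1_c8 LD2_c0 LD3_c33) Lrfl Lrfl
theorem f204177 : Led Lsl_ct (LP (LK LD1_c8 LD2_c0 LD3_c33)) = (LP (LK LD1_c14 LD2_c35 LD3_c45)) :=
  Lgr Lrot15 (Lpe (f107337 IH) (Lpr_cf (f204169 IH) (Lpe (f204158 IH) (Lpn (LP (LK LD1_c14 LD2_c35 LD3_c45))))))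
theorem f498528 : Led Lsl_ft (LP (LK LD1_c14 LD2_c35 LD3_c45)) = (LP (LK LD1_c11 LD2_c36 LD3_c25)) :=
  Lgr Lrot4 (Lpe (f204177 IH) (Lpr_ff (f498526 IH) (Lpr_cf (K8.f161840 IH) (Lpn (LP (LK LD1_c11 LD2_c36 LD3_c25))))))
theorem f428582 : Led Lsl_ft (LP (LK LD1_c12 LD2_c31 LD3_c26)) = (LP (LK LD1_c14 LD2_c1 LD3_c39)) :=
  Lgr Lrot48 (Lpr_ff (K32.f428574 IH) (Lpn (LP (LK LD1_c14 LD2_c1 LD3_c39))))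
theorem f428550 : Led Lsl_af (LP (LK LD1_c9 LD2_c24 LD3_c40)) = (LP (LK LD1_c14 LD2_c1 LD3_c39)) :=
  Lgr Lrot0 (Lpr_at (K32.f428548 IH) (Lpn (LP (LK LD1_c14 LD2_c1 LD3_c39))))
theorem f428615 : Led Lsl_gt (LP (LK LD1_c14 LD2_c1 LD3_c38)) = (LP (LK LD1_c9 LD2_c24 LD3_c40)) :=
  Lgr Lrot46 (Lpr_gf (K32.f428443 IH) (Lpr_ft (f428582 IH) (Lpe (f428550 IH) (Lpn (LP (LK LD1_c9 LD2_c24 LD3_c40))))))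
theorem f428617 : Led Lsl_gf (LP (LK LD1_c6 LD2_c31 LD3_c60)) = (LP (LK LD1_c9 LD2_c24 LD3_c40)) :=
  Lgr Lrot76 (Lpe (K8.f157694 IH) (Lpe (K8.f159245 IH) (Lpr_gt (f428615 IH) (Lpn (LP (LK LD1_c9 LD2_c24 LD3_c40))))))
theorem f78521 : Led Lsl_et (LP (LK LD1_c2 LD2_c21 LD3_c3)) = (LP (LK LD1_c4 LD2_c46 LD3_c4)) :=
  Lre_e IH (LK LD1_c2 LD2_c21 LD3_c3) (LK LD1_c4 LD2_c46 LD3_c4) Lrfl Lrfl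
theorem f78509 : Led Lsl_et (LP (LK LD1_c4 LD2_c46 LD3_c21)) = (LP (LK LD1_c2 LD2_c21 LD3_c9)) :=
  Lre_e IH (LK LD1_c4 LD2_c46 LD3_c21) (LK LD1_c2 LD2_c21 LD3_c9) Lrfl Lrfl
theorem f78522 : Led Lsl_ct (LP (LK LD1_c4 LD2_c46 LD3_c4)) = (LP (LK LD1_c4 LD2_c46 LD3_c21)) :=
  Lgr Lrot15 (Lpe (f78521 IH) (Lpr_cf (K3.f78504 IH) (Lpe (f78509 IH) (Lpn (LP (LK LD1_c4 LD2_c46 LD3_c21))))))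
theorem f78534 : Led Lsl_cf (LP (LK LD1_c4 LD2_c46 LD3_c4)) = (LP (LK LD1_c4 LD2_c46 LD3_c21)) :=
  Lgr Lrot11 (Lpr_ct (f78522 IH) (Lpn (LP (LK LD1_c4 LD2_c46 LD3_c21))))
theorem f78541 : Led Lsl_bt (LP (LK LD1_c4 LD2_c46 LD3_c4)) = (LP (LK LD1_c9 LD2_c24 LD3_c41)) :=
  Lre_b IH (LK LD1_c4 LD2_c46 LD3_c4) (LK LD1_c9 LD2_c24 LD3_c41) Lrfl Lrfl
theorem f78552 : Led Lsl_ct (LP (LK LD1_c9 LD2_c24 LD3_c41)) = (LP (LK LD1_c17 LD2_c21 LD3_c52)) :=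
  Lre_c IH (LK LD1_c9 LD2_c24 LD3_c41) (LK LD1_c17 LD2_c21 LD3_c52) Lrfl Lrfl
theorem f78553 : Led Lsl_bt (LP (LK LD1_c9 LD2_c25 LD3_c18)) = (LP (LK LD1_c4 LD2_c46 LD3_c21)) :=
  Lre_b IH (LK LD1_c9 LD2_c25 LD3_c18) (LK LD1_c4 LD2_c46 LD3_c21) Lrfl Lrfl
theorem f78554 : Led Lsl_ct (LP (LK LD1_c17 LD2_c22 LD3_c37)) = (LP (LK LD1_c9 LD2_c25 LD3_c18)) :=
  Lre_c IH (LK LD1_c17 LD2_c22 LD3_c37) (LK LD1_c9 LD2_c25 LD3_c18) Lrfl Lrfl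
theorem f78555 : Led Lsl_bt (LP (LK LD1_c17 LD2_c21 LD3_c52)) = (LP (LK LD1_c17 LD2_c22 LD3_c37)) :=
  Lgr Lrot128 (Lpe (f78552 IH) (Lpe (f78541 IH) (Lpr_cf (f78534 IH) (Lpe (f78553 IH) (Lpe (f78554 IH) (Lpn (LP (LK LD1_c17 LD2_c22 LD3_c37))))))))
theorem f78563 : Led Lsl_et (LP (LK LD1_c9 LD2_c24 LD3_c40)) = (LP (LK LD1_c17 LD2_c21 LD3_c52)) :=
  Lre_e IH (LK LD1_c9 LD2_c24 LD3_c40) (LK LD1_c17 LD2_c21 LD3_c52) Lrfl Lrfl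
theorem f78564 : Led Lsl_et (LP (LK LD1_c17 LD2_c22 LD3_c37)) = (LP (LK LD1_c9 LD2_c25 LD3_c17)) :=
  Lre_e IH (LK LD1_c17 LD2_c22 LD3_c37) (LK LD1_c9 LD2_c25 LD3_c17) Lrfl Lrfl
theorem f78565 : Led Lsl_bf (LP (LK LD1_c9 LD2_c24 LD3_c40)) = (LP (LK LD1_c9 LD2_c25 LD3_c17)) :=
  Lgr Lrot96 (Lpr_et (f78563 IH) (Lpr_bt (f78555 IH) (Lpr_et (f78564 IH) (Lpn (LP (LK LD1_c9 LD2_c25 LD3_c17))))))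
theorem f78508 : Led Lsl_ct (LP (LK LD1_c4 LD2_c46 LD3_c19)) = (LP (LK LD1_c9 LD2_c25 LD3_c17)) :=
  Lre_c IH (LK LD1_c4 LD2_c46 LD3_c19) (LK LD1_c9 LD2_c25 LD3_c17) Lrfl Lrfl
theorem f78572 : Led Lsl_dt (LP (LK LD1_c2 LD2_c21 LD3_c8)) = (LP (LK LD1_c4 LD2_c46 LD3_c19)) :=
  Lre_d IH (LK LD1_c2 LD2_c21 LD3_c8) (LK LD1_c4 LD2_c46 LD3_c19) Lrfl Lrfl
theorem f156665 : Led Lsl_df (LP (LK LD1_c7 LD2_c36 LD3_c13)) = (LP (LK LD1_c7 LD2_c17 LD3_c9)) :=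
  Lgr Lrot12 (Lpr_bt (K28.f16119 IH) (Lpr_dt (K7.f156662 IH) (Lpe (K28.f97475 IH) (Lpn (LP (LK LD1_c7 LD2_c17 LD3_c9))))))
theorem f426669 : Led Lsl_ft (LP (LK LD1_c3 LD2_c39 LD3_c17)) = (LP (LK LD1_c3 LD2_c38 LD3_c12)) :=
  Lgr Lrot48 (Lpr_ff (K28.f426664 IH) (Lpn (LP (LK LD1_c3 LD2_c38 LD3_c12))))
theorem f94476 : Led Lsl_bt (LP (LK LD1_c3 LD2_c38 LD3_c12)) = (LP (LK LD1_c7 LD2_c16 LD3_c44)) :=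
  Lre_b IH (LK LD1_c3 LD2_c38 LD3_c12) (LK LD1_c7 LD2_c16 LD3_c44) Lrfl Lrfl
theorem f426690 : Led Lsl_ff (LP (LK LD1_c7 LD2_c18 LD3_c47)) = (LP (LK LD1_c7 LD2_c16 LD3_c44)) :=
  Lgr Lrot25 (Lpr_bt (K24.f5555 IH) (Lpr_ft (f426669 IH) (Lpr_bt (f94476 IH) (Lpn (LP (LK LD1_c7 LD2_c16 LD3_c44))))))
theorem f426692 : Led Lsl_ft (LP (LK LD1_c7 LD2_c1 LD3_c49)) = (LP (LK LD1_c6 LD2_c51 LD3_c52)) :=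
  Lgr Lrot4 (Lpe (K24.f116642 IH) (Lpr_ff (f426690 IH) (Lpe (K28.f116571 IH) (Lpn (LP (LK LD1_c6 LD2_c51 LD3_c52))))))
theorem f136932 : Led Lsl_ct (LP (LK LD1_c3 LD2_c29 LD3_c58)) = (LP (LK LD1_c6 LD2_c34 LD3_c54)) :=
  Lgr Lrot8 (Lpr_gt (K6.f94630 IH) (Lpr_dt (K6.f109916 IH) (Lpe (K3.f109912 IH) (Lpr_dt (K6.f109401 IH) (Lpe (K6.f136336 IH) (Lpr_df (K6.f136924 IH) (Lpr_gf (K6.f135942 IH) (Lpe (K5.f65955 IH) (Lpe (K6.f65940 IH) (Lpn (LP (LK LD1_c6 LD2_c34 LD3_c54))))))))))))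
theorem f136941 : Led Lsl_bt (LP (LK LD1_c3 LD2_c29 LD3_c58)) = (LP (LK LD1_c7 LD2_c1 LD3_c33)) :=
  Lre_b IH (LK LD1_c3 LD2_c29 LD3_c58) (LK LD1_c7 LD2_c1 LD3_c33) Lrfl Lrfl
theorem f65939 : Led Lsl_bt (LP (LK LD1_c3 LD2_c24 LD3_c34)) = (LP (LK LD1_c1 LD2_c38 LD3_c42)) :=
  Lre_b IH (LK LD1_c3 LD2_c24 LD3_c34) (LK LD1_c1 LD2_c38 LD3_c42) Lrfl Lrfl
theorem f137191 : Led Lsl_gf (LP (LK LD1_c7 LD2_c1 LD3_c33)) = (LP (LK LD1_c3 LD2_c30 LD3_c3)) :=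
  Lgr Lrot124 (Lpe (f136941 IH) (Lpr_ct (f136932 IH) (Lpr_gt (K6.f65940 IH) (Lpr_cf (K4.f65849 IH) (Lpr_bt (f65939 IH) (Lpr_gt (K3.f108780 IH) (Lpr_ct (K3.f23684 IH) (Lpe (K3.f108796 IH) (Lpe (K2.f95320 IH) (Lpr_bt (K4.f94804 IH) (Lpn (LP (LK LD1_c3 LD2_c30 LD3_c3)))))))))))))
theorem f426699 : Led Lsl_af (LP (LK LD1_c7 LD2_c1 LD3_c33)) = (LP (LK LD1_c6 LD2_c51 LD3_c52)) :=
  Lgr Lrot31 (Lpr_gf (f137191 IH) (Lpe (K24.f94906 IH) (Lpr_ft (f426692 IH) (Lpn (LP (LK LD1_c6 LD2_c51 LD3_c52))))))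
theorem f426705 : Led Lsl_et (LP (LK LD1_c7 LD2_c1 LD3_c33)) = (LP (LK LD1_c13 LD2_c19 LD3_c33)) :=
  Lre_e IH (LK LD1_c7 LD2_c1 LD3_c33) (LK LD1_c13 LD2_c19 LD3_c33) Lrfl Lrfl
theorem f95404 : Led Lsl_et (LP (LK LD1_c13 LD2_c3 LD3_c16)) = (LP (LK LD1_c6 LD2_c51 LD3_c52)) :=
  Lre_e IH (LK LD1_c13 LD2_c3 LD3_c16) (LK LD1_c6 LD2_c51 LD3_c52) Lrfl Lrfl
theorem f426706 : Led Lsl_at (LP (LK LD1_c13 LD2_c19 LD3_c33)) = (LP (LK LD1_c13 LD2_c3 LD3_c16)) :=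
  Lgr Lrot80 (Lpe (f426705 IH) (Lpr_af (f426699 IH) (Lpe (f95404 IH) (Lpn (LP (LK LD1_c13 LD2_c3 LD3_c16))))))
theorem f137165 : Led Lsl_bt (LP (LK LD1_c7 LD2_c1 LD3_c34)) = (LP (LK LD1_c13 LD2_c19 LD3_c33)) :=
  Lre_b IH (LK LD1_c7 LD2_c1 LD3_c34) (LK LD1_c13 LD2_c19 LD3_c33) Lrfl Lrfl
theorem f426552 : Led Lsl_bt (LP (LK LD1_c20 LD2_c41 LD3_c46)) = (LP (LK LD1_c11 LD2_c41 LD3_c47)) :=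
  Lre_b IH (LK LD1_c20 LD2_c41 LD3_c46) (LK LD1_c11 LD2_c41 LD3_c47) Lrfl Lrfl
theorem f426710 : Led Lsl_af (LP (LK LD1_c7 LD2_c1 LD3_c34)) = (LP (LK LD1_c11 LD2_c41 LD3_c47)) :=
  Lgr Lrot36 (Lpr_bt (f137165 IH) (Lpr_at (f426706 IH) (Lpr_bt (K7.f116575 IH) (Lpe (K28.f426542 IH) (Lpr_bt (f426552 IH) (Lpn (LP (LK LD1_c11 LD2_c41 LD3_c47))))))))
theorem f109926 : Led Lsl_dt (LP (LK LD1_c7 LD2_c1 LD3_c34)) = (LP (LK LD1_c13 LD2_c19 LD3_c35)) :=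
  Lre_d IH (LK LD1_c7 LD2_c1 LD3_c34) (LK LD1_c13 LD2_c19 LD3_c35) Lrfl Lrfl
theorem f426716 : Led Lsl_dt (LP (LK LD1_c20 LD2_c41 LD3_c50)) = (LP (LK LD1_c11 LD2_c41 LD3_c47)) :=
  Lre_d IH (LK LD1_c20 LD2_c41 LD3_c50) (LK LD1_c11 LD2_c41 LD3_c47) Lrfl Lrfl
theorem f426717 : Led Lsl_at (LP (LK LD1_c13 LD2_c19 LD3_c35)) = (LP (LK LD1_c20 LD2_c41 LD3_c50)) :=
  Lgr Lrot51 (Lpe (f109926 IH) (Lpr_af (f426710 IH) (Lpe (f426716 IH) (Lpn (LP (LK LD1_c20 LD2_c41 LD3_c50))))))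
theorem f151607 : Led Lsl_et (LP (LK LD1_c3 LD2_c50 LD3_c33)) = (LP (LK LD1_c7 LD2_c42 LD3_c9)) :=
  Lre_e IH (LK LD1_c3 LD2_c50 LD3_c33) (LK LD1_c7 LD2_c42 LD3_c9) Lrfl Lrfl
theorem f136939 : Led Lsl_dt (LP (LK LD1_c7 LD2_c42 LD3_c9)) = (LP (LK LD1_c14 LD2_c30 LD3_c59)) :=
  Lre_d IH (LK LD1_c7 LD2_c42 LD3_c9) (LK LD1_c14 LD2_c30 LD3_c59) Lrfl Lrfl
theorem f109925 : Led Lsl_et (LP (LK LD1_c7 LD2_c1 LD3_c34)) = (LP (LK LD1_c3 LD2_c29 LD3_c58)) :=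
  Lre_e IH (LK LD1_c7 LD2_c1 LD3_c34) (LK LD1_c3 LD2_c29 LD3_c58) Lrfl Lrfl
theorem f136958 : Led Lsl_dt (LP (LK LD1_c13 LD2_c19 LD3_c35)) = (LP (LK LD1_c7 LD2_c1 LD3_c34)) :=
  Lre_d IH (LK LD1_c13 LD2_c19 LD3_c35) (LK LD1_c7 LD2_c1 LD3_c34) Lrfl Lrfl
theorem f151608 : Led Lsl_et (LP (LK LD1_c14 LD2_c30 LD3_c59)) = (LP (LK LD1_c13 LD2_c19 LD3_c35)) :=
  Lgr Lrot71 (Lpe (f136939 IH) (Lpe (f151607 IH) (Lpr_df (K24.f151603 IH) (Lpe (f109925 IH) (Lpe (f136958 IH) (Lpn (LP (LK LD1_c13 LD2_c19 LD3_c35))))))))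
theorem f426732 : Led Lsl_et (LP (LK LD1_c20 LD2_c41 LD3_c50)) = (LP (LK LD1_c11 LD2_c41 LD3_c50)) :=
  Lre_e IH (LK LD1_c20 LD2_c41 LD3_c50) (LK LD1_c11 LD2_c41 LD3_c50) Lrfl Lrfl
theorem f426733 : Led Lsl_af (LP (LK LD1_c14 LD2_c30 LD3_c59)) = (LP (LK LD1_c11 LD2_c41 LD3_c50)) :=
  Lgr Lrot50 (Lpr_et (f151608 IH) (Lpr_at (f426717 IH) (Lpr_et (f426732 IH) (Lpn (LP (LK LD1_c11 LD2_c41 LD3_c50))))))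
theorem f151638 : Led Lsl_dt (LP (LK LD1_c14 LD2_c30 LD3_c59)) = (LP (LK LD1_c7 LD2_c42 LD3_c9)) :=
  Lre_d IH (LK LD1_c14 LD2_c30 LD3_c59) (LK LD1_c7 LD2_c42 LD3_c9) Lrfl Lrfl
theorem f157608 : Led Lsl_dt (LP (LK LD1_c5 LD2_c58 LD3_c41)) = (LP (LK LD1_c11 LD2_c41 LD3_c50)) :=
  Lre_d IH (LK LD1_c5 LD2_c58 LD3_c41) (LK LD1_c11 LD2_c41 LD3_c50) Lrfl Lrfl
theorem f426740 : Led Lsl_at (LP (LK LD1_c7 LD2_c42 LD3_c9)) = (LP (LK LD1_c5 LD2_c58 LD3_c41)) :=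
  Lgr Lrot51 (Lpe (f151638 IH) (Lpr_af (f426733 IH) (Lpe (f157608 IH) (Lpn (LP (LK LD1_c5 LD2_c58 LD3_c41))))))
theorem f157607 : Led Lsl_et (LP (LK LD1_c5 LD2_c58 LD3_c41)) = (LP (LK LD1_c2 LD2_c55 LD3_c46)) :=
  Lre_e IH (LK LD1_c5 LD2_c58 LD3_c41) (LK LD1_c2 LD2_c55 LD3_c46) Lrfl Lrfl
theorem f426824 : Led Lsl_af (LP (LK LD1_c3 LD2_c50 LD3_c33)) = (LP (LK LD1_c2 LD2_c55 LD3_c46)) :=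
  Lgr Lrot50 (Lpr_et (f151607 IH) (Lpr_at (f426740 IH) (Lpr_et (f157607 IH) (Lpn (LP (LK LD1_c2 LD2_c55 LD3_c46))))))
theorem f151605 : Led Lsl_dt (LP (LK LD1_c3 LD2_c50 LD3_c33)) = (LP (LK LD1_c3 LD2_c29 LD3_c58)) :=
  Lgr Lrot42 (Lpr_df (K24.f151603 IH) (Lpn (LP (LK LD1_c3 LD2_c29 LD3_c58))))
theorem f151648 : Led Lsl_gf (LP (LK LD1_c3 LD2_c50 LD3_c33)) = (LP (LK LD1_c2 LD2_c50 LD3_c2)) :=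
  Lgr Lrot144 (Lpr_dt (f151605 IH) (Lpr_gt (K6.f94630 IH) (Lpr_dt (K6.f109916 IH) (Lpe (K3.f109918 IH) (Lpr_df (K8.f109935 IH) (Lpe (K6.f20405 IH) (Lpe (K6.f20400 IH) (Lpe (K6.f100335 IH) (Lpe (K7.f100332 IH) (Lpn (LP (LK LD1_c2 LD2_c50 LD3_c2))))))))))))
theorem f426835 : Led Lsl_ft (LP (LK LD1_c3 LD2_c50 LD3_c32)) = (LP (LK LD1_c2 LD2_c55 LD3_c46)) :=
  Lgr Lrot2 (Lpe (K28.f426586 IH) (Lpe (f151648 IH) (Lpr_af (f426824 IH) (Lpn (LP (LK LD1_c2 LD2_c55 LD3_c46))))))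
theorem f426841 : Led Lsl_ff (LP (LK LD1_c3 LD2_c50 LD3_c32)) = (LP (LK LD1_c2 LD2_c55 LD3_c46)) :=
  Lgr Lrot3 (Lpr_ft (f426835 IH) (Lpn (LP (LK LD1_c2 LD2_c55 LD3_c46))))
theorem f426846 : Led Lsl_ft (LP (LK LD1_c3 LD2_c29 LD3_c57)) = (LP (LK LD1_c5 LD2_c58 LD3_c40)) :=
  Lgr Lrot54 (Lpr_df (K28.f426594 IH) (Lpr_ff (f426841 IH) (Lpe (K8.f124068 IH) (Lpn (LP (LK LD1_c5 LD2_c58 LD3_c40))))))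
theorem f426625 : Led Lsl_bt (LP (LK LD1_c7 LD2_c1 LD3_c31)) = (LP (LK LD1_c3 LD2_c29 LD3_c57)) :=
  Lre_b IH (LK LD1_c7 LD2_c1 LD3_c31) (LK LD1_c3 LD2_c29 LD3_c57) Lrfl Lrfl
theorem f427130 : Led Lsl_ff (LP (LK LD1_c7 LD2_c1 LD3_c31)) = (LP (LK LD1_c11 LD2_c41 LD3_c45)) :=
  Lgr Lrot25 (Lpr_bt (f426625 IH) (Lpr_ft (f426846 IH) (Lpr_bt (K28.f426549 IH) (Lpn (LP (LK LD1_c11 LD2_c41 LD3_c45))))))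
theorem f427132 : Led Lsl_ft (LP (LK LD1_c7 LD2_c1 LD3_c31)) = (LP (LK LD1_c11 LD2_c41 LD3_c45)) :=
  Lgr Lrot48 (Lpr_ff (f427130 IH) (Lpn (LP (LK LD1_c11 LD2_c41 LD3_c45))))
theorem f162525 : Led Lsl_et (LP (LK LD1_c11 LD2_c41 LD3_c45)) = (LP (LK LD1_c20 LD2_c41 LD3_c46)) :=
  Lre_e IH (LK LD1_c11 LD2_c41 LD3_c45) (LK LD1_c20 LD2_c41 LD3_c46) Lrfl Lrfl
theorem f426545 : Led Lsl_af (LP (LK LD1_c11 LD2_c41 LD3_c45)) = (LP (LK LD1_c7 LD2_c33 LD3_c42)) :=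
  Lgr Lrot50 (Lpr_et (f162525 IH) (Lpr_at (K28.f426540 IH) (Lpr_et (K7.f116574 IH) (Lpn (LP (LK LD1_c7 LD2_c33 LD3_c42))))))
theorem f426547 : Led Lsl_at (LP (LK LD1_c11 LD2_c41 LD3_c45)) = (LP (LK LD1_c7 LD2_c33 LD3_c42)) :=
  Lgr Lrot100 (Lpr_af (f426545 IH) (Lpn (LP (LK LD1_c7 LD2_c33 LD3_c42))))
theorem f427184 : Led Lsl_gt (LP (LK LD1_c7 LD2_c1 LD3_c31)) = (LP (LK LD1_c7 LD2_c17 LD3_c9)) :=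
  Lgr Lrot5 (Lpr_ft (f427132 IH) (Lpr_at (f426547 IH) (Lpe (K28.f426565 IH) (Lpn (LP (LK LD1_c7 LD2_c17 LD3_c9))))))
theorem f426599 : Led Lsl_bt (LP (LK LD1_c3 LD2_c29 LD3_c57)) = (LP (LK LD1_c7 LD2_c1 LD3_c31)) :=
  Lre_b IH (LK LD1_c3 LD2_c29 LD3_c57) (LK LD1_c7 LD2_c1 LD3_c31) Lrfl Lrfl
theorem f428619 : Led Lsl_dt (LP (LK LD1_c6 LD2_c31 LD3_c60)) = (LP (LK LD1_c3 LD2_c19 LD3_c1)) :=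
  Lgr Lrot182 (Lpr_gf (f428617 IH) (Lpr_bf (f78565 IH) (Lpe (f78508 IH) (Lpe (f78572 IH) (Lpe (K7.f78067 IH) (Lpe (K28.f78068 IH) (Lpr_cf (K28.f156863 IH) (Lpr_df (f156665 IH) (Lpe (f427184 IH) (Lpe (f426599 IH) (Lpr_cf (K28.f426605 IH) (Lpe (K28.f137174 IH) (Lpe (K8.f157598 IH) (Lpr_bf (K4.f112102 IH) (Lpr_cf (K3.f96624 IH) (Lpe (K3.f96621 IH) (Lpe (K3.f96619 IH) (Lpe (K7.f12561 IH) (Lpr_cf (K24.f66460 IH) (Lpn (LP (LK LD1_c3 LD2_c19 LD3_c1))))))))))))))))))))))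
theorem f207651 : Led Lsl_ct (LP (LK LD1_c7 LD2_c27 LD3_c20)) = (LP (LK LD1_c6 LD2_c34 LD3_c18)) :=
  Lgr Lrot40 (Lpr_ff (K24.f148597 IH) (Lpe (K24.f148584 IH) (Lpr_ff (K24.f207647 IH) (Lpn (LP (LK LD1_c6 LD2_c34 LD3_c18))))))
theorem f90086 : Led Lsl_gt (LP (LK LD1_c7 LD2_c31 LD3_c21)) = (LP (LK LD1_c3 LD2_c45 LD3_c18)) :=
  Lre_g IH (LK LD1_c7 LD2_c31 LD3_c21) (LK LD1_c3 LD2_c45 LD3_c18) Lrfl Lrfl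
theorem f207655 : Led Lsl_gf (LP (LK LD1_c7 LD2_c31 LD3_c21)) = (LP (LK LD1_c6 LD2_c34 LD3_c18)) :=
  Lgr Lrot47 (Lpr_gt (f90086 IH) (Lpe (K30.f148531 IH) (Lpr_ff (K24.f207647 IH) (Lpn (LP (LK LD1_c6 LD2_c34 LD3_c18))))))
theorem f428624 : Led Lsl_dt (LP (LK LD1_c7 LD2_c31 LD3_c21)) = (LP (LK LD1_c4 LD2_c43 LD3_c10)) :=
  Lgr Lrot57 (Lpr_gf (f207655 IH) (Lpe (f207651 IH) (Lpr_gt (K28.f419203 IH) (Lpe (K28.f419195 IH) (Lpe (f428617 IH) (Lpr_dt (f428619 IH) (Lpe (K7.f66503 IH) (Lpe (K7.f66440 IH) (Lpe (K6.f125525 IH) (Lpn (LP (LK LD1_c4 LD2_c43 LD3_c10))))))))))))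
theorem f22629 : Led Lsl_bt (LP (LK LD1_c1 LD2_c33 LD3_c34)) = (LP (LK LD1_c3 LD2_c13 LD3_c60)) :=
  Lre_b IH (LK LD1_c1 LD2_c33 LD3_c34) (LK LD1_c3 LD2_c13 LD3_c60) Lrfl Lrfl
theorem f68347 : Led Lsl_gt (LP (LK LD1_c3 LD2_c13 LD3_c60)) = (LP (LK LD1_c6 LD2_c31 LD3_c34)) :=
  Lre_g IH (LK LD1_c3 LD2_c13 LD3_c60) (LK LD1_c6 LD2_c31 LD3_c34) Lrfl Lrfl
theorem f148447 : Led Lsl_bt (LP (LK LD1_c12 LD2_c31 LD3_c17)) = (LP (LK LD1_c6 LD2_c31 LD3_c34)) :=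
  Lre_b IH (LK LD1_c12 LD2_c31 LD3_c17) (LK LD1_c6 LD2_c31 LD3_c34) Lrfl Lrfl
theorem f148591 : Led Lsl_cf (LP (LK LD1_c7 LD2_c31 LD3_c21)) = (LP (LK LD1_c12 LD2_c31 LD3_c17)) :=
  Lgr Lrot160 (Lpr_gt (f90086 IH) (Lpr_cf (K7.f148535 IH) (Lpr_bt (K7.f22823 IH) (Lpe (K7.f148435 IH) (Lpr_ct (K8.f148440 IH) (Lpr_gt (K11.f148441 IH) (Lpe (K7.f22627 IH) (Lpr_bt (f22629 IH) (Lpr_gt (f68347 IH) (Lpe (f148447 IH) (Lpn (LP (LK LD1_c12 LD2_c31 LD3_c17)))))))))))))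
theorem f162685 : Led Lsl_bt (LP (LK LD1_c3 LD2_c45 LD3_c30)) = (LP (LK LD1_c7 LD2_c31 LD3_c39)) :=
  Lre_b IH (LK LD1_c3 LD2_c45 LD3_c30) (LK LD1_c7 LD2_c31 LD3_c39) Lrfl Lrfl
theorem f105235 : Led Lsl_ct (LP (LK LD1_c7 LD2_c31 LD3_c39)) = (LP (LK LD1_c14 LD2_c11 LD3_c60)) :=
  Lre_c IH (LK LD1_c7 LD2_c31 LD3_c39) (LK LD1_c14 LD2_c11 LD3_c60) Lrfl Lrfl
theorem f162686 : Led Lsl_bt (LP (LK LD1_c14 LD2_c11 LD3_c60)) = (LP (LK LD1_c12 LD2_c33 LD3_c33)) :=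
  Lgr Lrot128 (Lpe (f105235 IH) (Lpe (f162685 IH) (Lpe (K8.f105233 IH) (Lpr_bf (K8.f162683 IH) (Lpe (K11.f157301 IH) (Lpn (LP (LK LD1_c12 LD2_c33 LD3_c33))))))))
theorem f425596 : Led Lsl_bf (LP (LK LD1_c14 LD2_c11 LD3_c60)) = (LP (LK LD1_c12 LD2_c33 LD3_c33)) :=
  Lgr Lrot24 (Lpr_bt (f162686 IH) (Lpn (LP (LK LD1_c12 LD2_c33 LD3_c33))))
theorem f425598 : Led Lsl_gt (LP (LK LD1_c14 LD2_c11 LD3_c60)) = (LP (LK LD1_c12 LD2_c31 LD3_c17)) :=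
  Lgr Lrot82 (Lpr_bf (f425596 IH) (Lpr_ct (K11.f157301 IH) (Lpe (K8.f156462 IH) (Lpr_cf (K11.f205977 IH) (Lpr_bt (K11.f148448 IH) (Lpr_gf (K7.f148435 IH) (Lpe (K7.f22823 IH) (Lpe (K7.f148535 IH) (Lpe (f90086 IH) (Lpr_cf (f148591 IH) (Lpn (LP (LK LD1_c12 LD2_c31 LD3_c17)))))))))))))
theorem f163031 : Led Lsl_ft (LP (LK LD1_c11 LD2_c36 LD3_c28)) = (LP (LK LD1_c12 LD2_c2 LD3_c10)) :=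
  Lgr Lrot48 (Lpr_ff (K8.f163027 IH) (Lpn (LP (LK LD1_c12 LD2_c2 LD3_c10))))
theorem f162738 : Led Lsl_ff (LP (LK LD1_c12 LD2_c1 LD3_c52)) = (LP (LK LD1_c7 LD2_c31 LD3_c36)) :=
  Lgr Lrot25 (Lpr_bt (K8.f96000 IH) (Lpr_ft (K8.f162733 IH) (Lpr_bt (K8.f96080 IH) (Lpn (LP (LK LD1_c7 LD2_c31 LD3_c36))))))
theorem f163005 : Led Lsl_at (LP (LK LD1_c12 LD2_c1 LD3_c52)) = (LP (LK LD1_c11 LD2_c36 LD3_c28)) :=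
  Lgr Lrot33 (Lpr_ff (f162738 IH) (Lpr_dt (K8.f160891 IH) (Lpe (K8.f160881 IH) (Lpe (K8.f160900 IH) (Lpe (K8.f161262 IH) (Lpr_dt (K8.f112469 IH) (Lpr_ct (K8.f99745 IH) (Lpr_dt (K8.f118895 IH) (Lpr_ct (K8.f162999 IH) (Lpn (LP (LK LD1_c11 LD2_c36 LD3_c28))))))))))))
theorem f424777 : Led Lsl_af (LP (LK LD1_c7 LD2_c31 LD3_c36)) = (LP (LK LD1_c12 LD2_c2 LD3_c10)) :=
  Lgr Lrot45 (Lpe (f162738 IH) (Lpr_at (f163005 IH) (Lpr_ft (f163031 IH) (Lpn (LP (LK LD1_c12 LD2_c2 LD3_c10))))))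
theorem f162723 : Led Lsl_af (LP (LK LD1_c6 LD2_c10 LD3_c40)) = (LP (LK LD1_c3 LD2_c45 LD3_c29)) :=
  Lgr Lrot0 (Lpr_at (K8.f162721 IH) (Lpn (LP (LK LD1_c3 LD2_c45 LD3_c29))))
theorem f122294 : Led Lsl_bt (LP (LK LD1_c6 LD2_c10 LD3_c40)) = (LP (LK LD1_c12 LD2_c1 LD3_c54)) :=
  Lre_b IH (LK LD1_c6 LD2_c10 LD3_c40) (LK LD1_c12 LD2_c1 LD3_c54) Lrfl Lrfl
theorem f158838 : Led Lsl_bf (LP (LK LD1_c12 LD2_c2 LD3_c10)) = (LP (LK LD1_c21 LD2_c6 LD3_c49)) :=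
  Lgr Lrot24 (Lpr_bt (K28.f158836 IH) (Lpn (LP (LK LD1_c21 LD2_c6 LD3_c49))))
theorem f424783 : Led Lsl_at (LP (LK LD1_c12 LD2_c1 LD3_c54)) = (LP (LK LD1_c21 LD2_c6 LD3_c49)) :=
  Lgr Lrot67 (Lpe (f122294 IH) (Lpr_af (f162723 IH) (Lpe (K4.f96073 IH) (Lpr_af (f424777 IH) (Lpr_bf (f158838 IH) (Lpn (LP (LK LD1_c21 LD2_c6 LD3_c49))))))))
theorem f96002 : Led Lsl_bt (LP (LK LD1_c12 LD2_c1 LD3_c54)) = (LP (LK LD1_c6 LD2_c10 LD3_c40)) :=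
  Lre_b IH (LK LD1_c12 LD2_c1 LD3_c54) (LK LD1_c6 LD2_c10 LD3_c40) Lrfl Lrfl
theorem f162713 : Led Lsl_ff (LP (LK LD1_c12 LD2_c1 LD3_c54)) = (LP (LK LD1_c7 LD2_c31 LD3_c39)) :=
  Lgr Lrot25 (Lpr_bt (f96002 IH) (Lpr_ft (K8.f162711 IH) (Lpr_bt (f162685 IH) (Lpn (LP (LK LD1_c7 LD2_c31 LD3_c39))))))
theorem f148085 : Led Lsl_ct (LP (LK LD1_c7 LD2_c27 LD3_c18)) = (LP (LK LD1_c14 LD2_c4 LD3_c52)) :=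
  Lre_c IH (LK LD1_c7 LD2_c27 LD3_c18) (LK LD1_c14 LD2_c4 LD3_c52) Lrfl Lrfl
theorem f419186 : Led Lsl_ff (LP (LK LD1_c12 LD2_c31 LD3_c25)) = (LP (LK LD1_c14 LD2_c4 LD3_c52)) :=
  Lgr Lrot23 (Lpr_ct (K8.f148551 IH) (Lpr_ft (K28.f419184 IH) (Lpr_ct (f148085 IH) (Lpn (LP (LK LD1_c14 LD2_c4 LD3_c52))))))
theorem f419174 : Led Lsl_at (LP (LK LD1_c12 LD2_c31 LD3_c25)) = (LP (LK LD1_c12 LD2_c1 LD3_c8)) :=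
  Lgr Lrot100 (Lpr_af (K28.f419170 IH) (Lpn (LP (LK LD1_c12 LD2_c1 LD3_c8))))
theorem f419190 : Led Lsl_gf (LP (LK LD1_c21 LD2_c6 LD3_c49)) = (LP (LK LD1_c14 LD2_c4 LD3_c52)) :=
  Lgr Lrot47 (Lpr_gt (K28.f65659 IH) (Lpe (f419174 IH) (Lpr_ff (f419186 IH) (Lpn (LP (LK LD1_c14 LD2_c4 LD3_c52))))))
theorem f424789 : Led Lsl_gt (LP (LK LD1_c7 LD2_c31 LD3_c39)) = (LP (LK LD1_c14 LD2_c4 LD3_c52)) :=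
  Lgr Lrot5 (Lpe (f162713 IH) (Lpr_at (f424783 IH) (Lpr_gf (f419190 IH) (Lpn (LP (LK LD1_c14 LD2_c4 LD3_c52))))))
theorem f148554 : Led Lsl_ct (LP (LK LD1_c6 LD2_c31 LD3_c46)) = (LP (LK LD1_c12 LD2_c31 LD3_c28)) :=
  Lre_c IH (LK LD1_c6 LD2_c31 LD3_c46) (LK LD1_c12 LD2_c31 LD3_c28) Lrfl Lrfl
theorem f419210 : Led Lsl_af (LP (LK LD1_c14 LD2_c4 LD3_c52)) = (LP (LK LD1_c12 LD2_c31 LD3_c28)) :=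
  Lgr Lrot68 (Lpr_ct (K28.f148606 IH) (Lpr_at (K28.f419206 IH) (Lpr_ct (f148554 IH) (Lpn (LP (LK LD1_c12 LD2_c31 LD3_c28))))))
theorem f424791 : Led Lsl_gf (LP (LK LD1_c7 LD2_c31 LD3_c39)) = (LP (LK LD1_c12 LD2_c1 LD3_c8)) :=
  Lgr Lrot47 (Lpr_gt (f424789 IH) (Lpr_af (f419210 IH) (Lpe (K28.f419230 IH) (Lpn (LP (LK LD1_c12 LD2_c1 LD3_c8))))))
theorem f123473 : Led Lsl_bt (LP (LK LD1_c3 LD2_c17 LD3_c28)) = (LP (LK LD1_c6 LD2_c38 LD3_c17)) :=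
  Lre_b IH (LK LD1_c3 LD2_c17 LD3_c28) (LK LD1_c6 LD2_c38 LD3_c17) Lrfl Lrfl
theorem f203716 : Led Lsl_gf (LP (LK LD1_c6 LD2_c38 LD3_c17)) = (LP (LK LD1_c12 LD2_c34 LD3_c13)) :=
  Lgr Lrot124 (Lpe (f123473 IH) (Lpr_ct (K32.f123472 IH) (Lpr_gt (K32.f203703 IH) (Lpe (K32.f203705 IH) (Lpr_bt (K32.f203711 IH) (Lpe (K32.f203405 IH) (Lpe (K11.f152605 IH) (Lpr_gt (K11.f79938 IH) (Lpe (K7.f79940 IH) (Lpr_bt (K7.f79941 IH) (Lpn (LP (LK LD1_c12 LD2_c34 LD3_c13)))))))))))))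
theorem f203718 : Led Lsl_dt (LP (LK LD1_c6 LD2_c38 LD3_c17)) = (LP (LK LD1_c12 LD2_c42 LD3_c18)) :=
  Lre_d IH (LK LD1_c6 LD2_c38 LD3_c17) (LK LD1_c12 LD2_c42 LD3_c18) Lrfl Lrfl
theorem f161326 : Led Lsl_bf (LP (LK LD1_c2 LD2_c15 LD3_c14)) = (LP (LK LD1_c2 LD2_c14 LD3_c51)) :=
  Lgr Lrot24 (Lpr_bt (K8.f161324 IH) (Lpn (LP (LK LD1_c2 LD2_c14 LD3_c51))))
theorem f202371 : Led Lsl_bf (LP (LK LD1_c1 LD2_c24 LD3_c22)) = (LP (LK LD1_c2 LD2_c16 LD3_c24)) :=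
  Lgr Lrot24 (Lpr_bt (K11.f202367 IH) (Lpn (LP (LK LD1_c2 LD2_c16 LD3_c24))))
theorem f69181 : Led Lsl_bt (LP (LK LD1_c11 LD2_c48 LD3_c12)) = (LP (LK LD1_c6 LD2_c1 LD3_c49)) :=
  Lre_b IH (LK LD1_c11 LD2_c48 LD3_c12) (LK LD1_c6 LD2_c1 LD3_c49) Lrfl Lrfl
theorem f203719 : Led Lsl_ct (LP (LK LD1_c12 LD2_c42 LD3_c18)) = (LP (LK LD1_c11 LD2_c48 LD3_c12)) :=
  Lgr Lrot191 (Lpe (f203718 IH) (Lpr_gf (f203716 IH) (Lpe (K7.f79941 IH) (Lpe (K7.f79937 IH) (Lpe (K34.f202475 IH) (Lpe (K34.f101785 IH) (Lpe (K7.f99462 IH) (Lpe (K6.f70923 IH) (Lpe (K7.f70924 IH) (Lpe (K11.f161342 IH) (Lpr_bf (f161326 IH) (Lpe (K7.f37064 IH) (Lpe (K7.f35234 IH) (Lpr_gf (K8.f160854 IH) (Lpr_bf (f202371 IH) (Lpe (K11.f104871 IH) (Lpe (K11.f104872 IH) (Lpe (f202564 IH) (Lpe (f69181 IH) (Lpn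 (LP (LK LD1_c11 LD2_c48 LD3_c12))))))))))))))))))))))
theorem f152614 : Led Lsl_bt (LP (LK LD1_c12 LD2_c42 LD3_c18)) = (LP (LK LD1_c6 LD2_c38 LD3_c19)) :=
  Lre_b IH (LK LD1_c12 LD2_c42 LD3_c18) (LK LD1_c6 LD2_c38 LD3_c19) Lrfl Lrfl
theorem f151366 : Led Lsl_gf (LP (LK LD1_c6 LD2_c38 LD3_c19)) = (LP (LK LD1_c4 LD2_c43 LD3_c8)) :=
  Lgr Lrot144 (Lpr_dt (K7.f123469 IH) (Lpr_gt (K7.f62201 IH) (Lpr_dt (K5.f87382 IH) (Lpe (K7.f87291 IH) (Lpe (K7.f87314 IH) (Lpr_gf (K7.f151360 IH) (Lpr_df (K7.f146729 IH) (Lpe (K7.f120778 IH) (Lpr_cf (K6.f136049 IH) (Lpn (LP (LK LD1_c4 LD2_c43 LD3_c8))))))))))))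
theorem f83099 : Led Lsl_bt (LP (LK LD1_c2 LD2_c19 LD3_c14)) = (LP (LK LD1_c4 LD2_c43 LD3_c8)) :=
  Lre_b IH (LK LD1_c2 LD2_c19 LD3_c14) (LK LD1_c4 LD2_c43 LD3_c8) Lrfl Lrfl
theorem f124766 : Led Lsl_ff (LP (LK LD1_c6 LD2_c20 LD3_c10)) = (LP (LK LD1_c6 LD2_c49 LD3_c48)) :=
  Lgr Lrot3 (Lpr_ft (K5.f124760 IH) (Lpn (LP (LK LD1_c6 LD2_c49 LD3_c48))))
theorem f124787 : Led Lsl_cf (LP (LK LD1_c6 LD2_c49 LD3_c48)) = (LP (LK LD1_c4 LD2_c43 LD3_c10)) :=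
  Lgr Lrot108 (Lpe (f124766 IH) (Lpr_ct (K5.f91432 IH) (Lpr_ft (K5.f124782 IH) (Lpn (LP (LK LD1_c4 LD2_c43 LD3_c10))))))
theorem f203727 : Led Lsl_gf (LP (LK LD1_c6 LD2_c49 LD3_c48)) = (LP (LK LD1_c11 LD2_c48 LD3_c12)) :=
  Lgr Lrot126 (Lpr_cf (f124787 IH) (Lpr_bt (K5.f124541 IH) (Lpr_gt (K7.f152603 IH) (Lpr_ct (K7.f104686 IH) (Lpe (K7.f152489 IH) (Lpe (K5.f104185 IH) (Lpr_bt (f83099 IH) (Lpe (f151366 IH) (Lpe (f152614 IH) (Lpr_ct (f203719 IH) (Lpn (LP (LK LD1_c11 LD2_c48 LD3_c12)))))))))))))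
theorem f428636 : Led Lsl_gt (LP (LK LD1_c7 LD2_c44 LD3_c21)) = (LP (LK LD1_c12 LD2_c42 LD3_c18)) :=
  Lgr Lrot146 (Lpr_dt (K28.f419165 IH) (Lpe (f424791 IH) (Lpr_ct (f105235 IH) (Lpr_gt (f425598 IH) (Lpe (f148591 IH) (Lpr_dt (f428624 IH) (Lpr_cf (K5.f124565 IH) (Lpr_gf (f203727 IH) (Lpe (f203719 IH) (Lpn (LP (LK LD1_c12 LD2_c42 LD3_c18))))))))))))
theorem f498530 : Led Lsl_af (LP (LK LD1_c12 LD2_c42 LD3_c18)) = (LP (LK LD1_c11 LD2_c36 LD3_c25)) :=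
  Lgr Lrot31 (Lpe (f428636 IH) (Lpe (f203487 IH) (Lpr_ft (f498528 IH) (Lpn (LP (LK LD1_c11 LD2_c36 LD3_c25))))))
theorem f498538 : Led Lsl_ft (LP (LK LD1_c12 LD2_c42 LD3_c18)) = (LP (LK LD1_c12 LD2_c14 LD3_c43)) :=
  Lgr Lrot101 (Lpr_af (f498530 IH) (Lpe (f498528 IH) (Lpr_af (f498444 IH) (Lpn (LP (LK LD1_c12 LD2_c14 LD3_c43))))))
theorem f498544 : Led Lsl_ff (LP (LK LD1_c12 LD2_c42 LD3_c18)) = (LP (LK LD1_c12 LD2_c14 LD3_c43)) :=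
  Lgr Lrot3 (Lpr_ft (f498538 IH) (Lpn (LP (LK LD1_c12 LD2_c14 LD3_c43))))
theorem f498548 : Led Lsl_ft (LP (LK LD1_c11 LD2_c48 LD3_c12)) = (LP (LK LD1_c11 LD2_c35 LD3_c0)) :=
  Lgr Lrot4 (Lpe (f203719 IH) (Lpr_ff (f498544 IH) (Lpr_cf (f498503 IH) (Lpn (LP (LK LD1_c11 LD2_c35 LD3_c0))))))
theorem f496554 : Led Lsl_at (LP (LK LD1_c6 LD2_c0 LD3_c40)) = (LP (LK LD1_c5 LD2_c54 LD3_c41)) :=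
  Lgr Lrot51 (Lpe (K11.f112355 IH) (Lpr_af (K32.f496550 IH) (Lpe (f138161 IH) (Lpn (LP (LK LD1_c5 LD2_c54 LD3_c41))))))
theorem f497247 : Led Lsl_af (LP (LK LD1_c8 LD2_c0 LD3_c33)) = (LP (LK LD1_c11 LD2_c35 LD3_c0)) :=
  Lgr Lrot36 (Lpr_bt (f204153 IH) (Lpr_at (K32.f497242 IH) (Lpe (K6.f69028 IH) (Lpr_at (f496554 IH) (Lpr_bt (f497246 IH) (Lpn (LP (LK LD1_c11 LD2_c35 LD3_c0))))))))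
theorem f40427 : Led Lsl_bt (LP (LK LD1_c3 LD2_c59 LD3_c45)) = (LP (LK LD1_c8 LD2_c0 LD3_c33)) :=
  Lre_b IH (LK LD1_c3 LD2_c59 LD3_c45) (LK LD1_c8 LD2_c0 LD3_c33) Lrfl Lrfl
theorem f120802 : Led Lsl_bt (LP (LK LD1_c6 LD2_c51 LD3_c1)) = (LP (LK LD1_c3 LD2_c24 LD3_c1)) :=
  Lre_b IH (LK LD1_c6 LD2_c51 LD3_c1) (LK LD1_c3 LD2_c24 LD3_c1) Lrfl Lrfl
theorem f497237 : Led Lsl_ft (LP (LK LD1_c8 LD2_c0 LD3_c33)) = (LP (LK LD1_c6 LD2_c51 LD3_c1)) :=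
  Lgr Lrot75 (Lpe (f40427 IH) (Lpr_ff (K32.f497235 IH) (Lpe (f120802 IH) (Lpn (LP (LK LD1_c6 LD2_c51 LD3_c1))))))
theorem f498550 : Led Lsl_af (LP (LK LD1_c11 LD2_c48 LD3_c12)) = (LP (LK LD1_c6 LD2_c51 LD3_c1)) :=
  Lgr Lrot45 (Lpr_ft (f498548 IH) (Lpe (f497247 IH) (Lpr_ft (f497237 IH) (Lpn (LP (LK LD1_c6 LD2_c51 LD3_c1))))))
theorem f498552 : Led Lsl_at (LP (LK LD1_c6 LD2_c1 LD3_c49)) = (LP (LK LD1_c5 LD2_c54 LD3_c44)) :=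
  Lgr Lrot67 (Lpe (f69181 IH) (Lpr_af (f498550 IH) (Lpe (K8.f40410 IH) (Lpr_af (K32.f497272 IH) (Lpe (K11.f149975 IH) (Lpn (LP (LK LD1_c5 LD2_c54 LD3_c44))))))))
theorem f138303 : Led Lsl_at (LP (LK LD1_c4 LD2_c46 LD3_c37)) = (LP (LK LD1_c9 LD2_c25 LD3_c55)) :=
  Lre_a IH (LK LD1_c4 LD2_c46 LD3_c37) (LK LD1_c9 LD2_c25 LD3_c55) Lrfl Lrfl
theorem f498554 : Led Lsl_cf (LP (LK LD1_c6 LD2_c1 LD3_c49)) = (LP (LK LD1_c9 LD2_c25 LD3_c55)) :=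
  Lgr Lrot1 (Lpr_at (f498552 IH) (Lpr_ct (K32.f156811 IH) (Lpr_at (f138303 IH) (Lpn (LP (LK LD1_c9 LD2_c25 LD3_c55))))))
theorem f498572 : Led Lsl_gt (LP (LK LD1_c6 LD2_c0 LD3_c37)) = (LP (LK LD1_c9 LD2_c25 LD3_c55)) :=
  Lgr Lrot150 (Lpr_cf (K11.f158505 IH) (Lpe (K7.f78211 IH) (Lpr_df (K7.f137466 IH) (Lpe (K2.f72424 IH) (Lpr_ct (K2.f72423 IH) (Lpr_gt (K8.f72433 IH) (Lpe (K8.f138851 IH) (Lpr_df (K8.f157061 IH) (Lpr_cf (f498554 IH) (Lpn (LP (LK LD1_c9 LD2_c25 LD3_c55))))))))))))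
theorem f110371 : Led Lsl_ct (LP (LK LD1_c6 LD2_c0 LD3_c9)) = (LP (LK LD1_c11 LD2_c44 LD3_c36)) :=
  Lre_c IH (LK LD1_c6 LD2_c0 LD3_c9) (LK LD1_c11 LD2_c44 LD3_c36) Lrfl Lrfl
theorem f501545 : Led Lsl_gf (LP (LK LD1_c13 LD2_c47 LD3_c3)) = (LP (LK LD1_c11 LD2_c44 LD3_c36)) :=
  Lgr Lrot126 (Lpe (K8.f158497 IH) (Lpr_bt (K8.f158496 IH) (Lpr_gt (f498572 IH) (Lpe (f498554 IH) (Lpr_gt (f202564 IH) (Lpe (K11.f202107 IH) (Lpe (K11.f75625 IH) (Lpe (f501475 IH) (Lpr_bf (f501537 IH) (Lpr_ct (f110371 IH) (Lpn (LP (LK LD1_c11 LD2_c44 LD3_c36)))))))))))))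
theorem f138304 : Led Lsl_bt (LP (LK LD1_c4 LD2_c46 LD3_c37)) = (LP (LK LD1_c2 LD2_c21 LD3_c15)) :=
  Lre_b IH (LK LD1_c4 LD2_c46 LD3_c37) (LK LD1_c2 LD2_c21 LD3_c15) Lrfl Lrfl
theorem f138317 : Led Lsl_at (LP (LK LD1_c9 LD2_c25 LD3_c55)) = (LP (LK LD1_c4 LD2_c46 LD3_c37)) :=
  Lre_a IH (LK LD1_c9 LD2_c25 LD3_c55) (LK LD1_c4 LD2_c46 LD3_c37) Lrfl Lrfl
theorem f497106 : Led Lsl_at (LP (LK LD1_c2 LD2_c56 LD3_c30)) = (LP (LK LD1_c6 LD2_c0 LD3_c29)) :=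
  Lre_a IH (LK LD1_c2 LD2_c56 LD3_c30) (LK LD1_c6 LD2_c0 LD3_c29) Lrfl Lrfl
theorem f497107 : Led Lsl_bf (LP (LK LD1_c9 LD2_c25 LD3_c55)) = (LP (LK LD1_c6 LD2_c0 LD3_c29)) :=
  Lgr Lrot81 (Lpr_at (f138317 IH) (Lpr_bt (f138304 IH) (Lpr_at (K32.f497102 IH) (Lpr_bt (K28.f75074 IH) (Lpr_at (f497106 IH) (Lpn (LP (LK LD1_c6 LD2_c0 LD3_c29))))))))
theorem f104757 : Led Lsl_df (LP (LK LD1_c6 LD2_c53 LD3_c55)) = (LP (LK LD1_c5 LD2_c54 LD3_c27)) :=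
  Lgr Lrot155 (Lpr_gt (K11.f94799 IH) (Lpe (K6.f94795 IH) (Lpr_gt (K8.f99482 IH) (Lpe (K2.f70865 IH) (Lpr_dt (K2.f70861 IH) (Lpe (K2.f70888 IH) (Lpr_gf (K6.f104753 IH) (Lpe (K7.f22813 IH) (Lpe (K11.f72432 IH) (Lpn (LP (LK LD1_c5 LD2_c54 LD3_c27))))))))))))
theorem f104761 : Led Lsl_gt (LP (LK LD1_c2 LD2_c53 LD3_c40)) = (LP (LK LD1_c5 LD2_c54 LD3_c27)) :=
  Lgr Lrot94 (Lpe (K6.f71138 IH) (Lpr_gt (K6.f59464 IH) (Lpr_dt (K2.f22773 IH) (Lpr_gt (K2.f37955 IH) (Lpr_dt (K5.f37956 IH) (Lpe (K5.f61846 IH) (Lpr_df (K6.f94919 IH) (Lpe (K11.f94799 IH) (Lpr_df (f104757 IH) (Lpn (LP (LK LD1_c5 LD2_c54 LD3_c27))))))))))))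
theorem f498574 : Led Lsl_df (LP (LK LD1_c6 LD2_c14 LD3_c33)) = (LP (LK LD1_c9 LD2_c25 LD3_c55)) :=
  Lgr Lrot153 (Lpr_gt (K11.f138829 IH) (Lpe (K11.f163352 IH) (Lpr_cf (K32.f163437 IH) (Lpr_df (f104757 IH) (Lpe (f104761 IH) (Lpe (K6.f71139 IH) (Lpe (K7.f137470 IH) (Lpe (K8.f158580 IH) (Lpr_gt (f498572 IH) (Lpn (LP (LK LD1_c9 LD2_c25 LD3_c55))))))))))))
theorem f205778 : Led Lsl_cf (LP (LK LD1_c4 LD2_c36 LD3_c15)) = (LP (LK LD1_c2 LD2_c51 LD3_c8)) :=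
  Lgr Lrot11 (Lpr_ct (K11.f205767 IH) (Lpn (LP (LK LD1_c2 LD2_c51 LD3_c8))))
theorem f498581 : Led Lsl_ff (LP (LK LD1_c6 LD2_c0 LD3_c39)) = (LP (LK LD1_c9 LD2_c25 LD3_c55)) :=
  Lgr Lrot103 (Lpr_at (f112385 IH) (Lpe (K11.f69035 IH) (Lpe (K11.f112355 IH) (Lpr_cf (f205778 IH) (Lpe (K32.f205769 IH) (Lpr_cf (K11.f158473 IH) (Lpe (K6.f99137 IH) (Lpe (K11.f112715 IH) (Lpr_df (f498574 IH) (Lpn (LP (LK LD1_c9 LD2_c25 LD3_c55))))))))))))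
theorem f112721 : Led Lsl_dt (LP (LK LD1_c1 LD2_c28 LD3_c7)) = (LP (LK LD1_c3 LD2_c4 LD3_c10)) :=
  Lre_d IH (LK LD1_c1 LD2_c28 LD3_c7) (LK LD1_c3 LD2_c4 LD3_c10) Lrfl Lrfl
theorem f498564 : Led Lsl_dt (LP (LK LD1_c6 LD2_c14 LD3_c33)) = (LP (LK LD1_c9 LD2_c25 LD3_c55)) :=
  Lgr Lrot173 (Lpe (K11.f112714 IH) (Lpe (f112721 IH) (Lpr_cf (K11.f59806 IH) (Lpe (K11.f112712 IH) (Lpe (K11.f205767 IH) (Lpr_df (K11.f112357 IH) (Lpe (K6.f69024 IH) (Lpe (K11.f69034 IH) (Lpe (K4.f75084 IH) (Lpe (K4.f75082 IH) (Lpe (K8.f75094 IH) (Lpr_df (K8.f138827 IH) (Lpe (K8.f138844 IH) (Lpr_df (K8.f157061 IH) (Lpr_cf (f498554 IH) (Lpn (LP (LK LD1_c9 LD2_c25 LD3_c55))))))))))))))))))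
theorem f498583 : Led Lsl_ft (LP (LK LD1_c5 LD2_c54 LD3_c11)) = (LP (LK LD1_c6 LD2_c14 LD3_c33)) :=
  Lgr Lrot54 (Lpe (f498466 IH) (Lpr_ff (f498581 IH) (Lpe (f498564 IH) (Lpn (LP (LK LD1_c6 LD2_c14 LD3_c33))))))
theorem f202593 : Led Lsl_et (LP (LK LD1_c11 LD2_c34 LD3_c12)) = (LP (LK LD1_c5 LD2_c54 LD3_c11)) :=
  Lre_e IH (LK LD1_c11 LD2_c34 LD3_c12) (LK LD1_c5 LD2_c54 LD3_c11) Lrfl Lrfl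
theorem f498587 : Led Lsl_ft (LP (LK LD1_c20 LD2_c31 LD3_c49)) = (LP (LK LD1_c11 LD2_c34 LD3_c12)) :=
  Lre_f IH (LK LD1_c20 LD2_c31 LD3_c49) (LK LD1_c11 LD2_c34 LD3_c12) Lrfl Lrfl
theorem f498576 : Led Lsl_et (LP (LK LD1_c6 LD2_c14 LD3_c33)) = (LP (LK LD1_c12 LD2_c7 LD3_c22)) :=
  Lre_e IH (LK LD1_c6 LD2_c14 LD3_c33) (LK LD1_c12 LD2_c7 LD3_c22) Lrfl Lrfl
theorem f498588 : Led Lsl_ft (LP (LK LD1_c12 LD2_c7 LD3_c22)) = (LP (LK LD1_c21 LD2_c13 LD3_c32)) :=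
  Lre_f IH (LK LD1_c12 LD2_c7 LD3_c22) (LK LD1_c21 LD2_c13 LD3_c32) Lrfl Lrfl
theorem f498589 : Led Lsl_ef (LP (LK LD1_c20 LD2_c31 LD3_c49)) = (LP (LK LD1_c21 LD2_c13 LD3_c32)) :=
  Lgr Lrot21 (Lpr_ft (f498587 IH) (Lpr_et (f202593 IH) (Lpr_ft (f498583 IH) (Lpr_et (f498576 IH) (Lpr_ft (f498588 IH) (Lpn (LP (LK LD1_c21 LD2_c13 LD3_c32))))))))
theorem f498596 : Led Lsl_et (LP (LK LD1_c20 LD2_c31 LD3_c49)) = (LP (LK LD1_c21 LD2_c13 LD3_c32)) :=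
  Lgr Lrot87 (Lpr_ef (f498589 IH) (Lpn (LP (LK LD1_c21 LD2_c13 LD3_c32))))
theorem f498598 : Led Lsl_ct (LP (LK LD1_c11 LD2_c34 LD3_c14)) = (LP (LK LD1_c20 LD2_c31 LD3_c49)) :=
  Lre_c IH (LK LD1_c11 LD2_c34 LD3_c14) (LK LD1_c20 LD2_c31 LD3_c49) Lrfl Lrfl
theorem f498599 : Led Lsl_ct (LP (LK LD1_c21 LD2_c13 LD3_c32)) = (LP (LK LD1_c12 LD2_c7 LD3_c25)) :=
  Lre_c IH (LK LD1_c21 LD2_c13 LD3_c32) (LK LD1_c12 LD2_c7 LD3_c25) Lrfl Lrfl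
theorem f498600 : Led Lsl_ef (LP (LK LD1_c11 LD2_c34 LD3_c14)) = (LP (LK LD1_c12 LD2_c7 LD3_c25)) :=
  Lgr Lrot28 (Lpr_ct (f498598 IH) (Lpr_et (f498596 IH) (Lpr_ct (f498599 IH) (Lpn (LP (LK LD1_c12 LD2_c7 LD3_c25))))))
theorem f498606 : Led Lsl_ft (LP (LK LD1_c11 LD2_c34 LD3_c14)) = (LP (LK LD1_c5 LD2_c54 LD3_c12)) :=
  Lre_f IH (LK LD1_c11 LD2_c34 LD3_c14) (LK LD1_c5 LD2_c54 LD3_c12) Lrfl Lrfl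
theorem f71035 : Led Lsl_et (LP (LK LD1_c5 LD2_c54 LD3_c12)) = (LP (LK LD1_c2 LD2_c53 LD3_c30)) :=
  Lre_e IH (LK LD1_c5 LD2_c54 LD3_c12) (LK LD1_c2 LD2_c53 LD3_c30) Lrfl Lrfl
theorem f498607 : Led Lsl_ft (LP (LK LD1_c6 LD2_c14 LD3_c34)) = (LP (LK LD1_c12 LD2_c7 LD3_c25)) :=
  Lre_f IH (LK LD1_c6 LD2_c14 LD3_c34) (LK LD1_c12 LD2_c7 LD3_c25) Lrfl Lrfl
theorem f205770 : Led Lsl_et (LP (LK LD1_c3 LD2_c4 LD3_c10)) = (LP (LK LD1_c6 LD2_c14 LD3_c34)) :=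
  Lre_e IH (LK LD1_c3 LD2_c4 LD3_c10) (LK LD1_c6 LD2_c14 LD3_c34) Lrfl Lrfl
theorem f498608 : Led Lsl_ft (LP (LK LD1_c2 LD2_c53 LD3_c30)) = (LP (LK LD1_c3 LD2_c4 LD3_c10)) :=
  Lgr Lrot86 (Lpe (f71035 IH) (Lpe (f498606 IH) (Lpr_ef (f498600 IH) (Lpe (f498607 IH) (Lpe (f205770 IH) (Lpn (LP (LK LD1_c3 LD2_c4 LD3_c10))))))))
theorem f498613 : Led Lsl_ff (LP (LK LD1_c2 LD2_c18 LD3_c44)) = (LP (LK LD1_c1 LD2_c28 LD3_c7)) :=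
  Lgr Lrot19 (Lpr_dt (f138601 IH) (Lpr_ft (f498608 IH) (Lpr_dt (K6.f99137 IH) (Lpn (LP (LK LD1_c1 LD2_c28 LD3_c7))))))
theorem f498617 : Led Lsl_at (LP (LK LD1_c2 LD2_c18 LD3_c44)) = (LP (LK LD1_c1 LD2_c28 LD3_c6)) :=
  Lgr Lrot26 (Lpr_ff (f498613 IH) (Lpr_gt (K6.f59804 IH) (Lpr_gt (K4.f59713 IH) (Lpn (LP (LK LD1_c1 LD2_c28 LD3_c6))))))
theorem f209995 : Led Lsl_dt (LP (LK LD1_c5 LD2_c49 LD3_c59)) = (LP (LK LD1_c2 LD2_c51 LD3_c7)) :=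
  Lre_d IH (LK LD1_c5 LD2_c49 LD3_c59) (LK LD1_c2 LD2_c51 LD3_c7) Lrfl Lrfl
theorem f209996 : Led Lsl_ff (LP (LK LD1_c3 LD2_c4 LD3_c7)) = (LP (LK LD1_c2 LD2_c51 LD3_c7)) :=
  Lgr Lrot19 (Lpr_dt (K8.f138841 IH) (Lpr_ft (K31.f205784 IH) (Lpr_dt (f209995 IH) (Lpn (LP (LK LD1_c2 LD2_c51 LD3_c7))))))
theorem f496576 : Led Lsl_ft (LP (LK LD1_c1 LD2_c28 LD3_c6)) = (LP (LK LD1_c2 LD2_c18 LD3_c43)) :=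
  Lgr Lrot4 (Lpe (K8.f75094 IH) (Lpr_ff (f209996 IH) (Lpr_cf (K32.f496570 IH) (Lpn (LP (LK LD1_c2 LD2_c18 LD3_c43))))))
theorem f498622 : Led Lsl_af (LP (LK LD1_c1 LD2_c28 LD3_c7)) = (LP (LK LD1_c2 LD2_c18 LD3_c43)) :=
  Lgr Lrot45 (Lpe (f498613 IH) (Lpr_at (f498617 IH) (Lpr_ft (f496576 IH) (Lpn (LP (LK LD1_c2 LD2_c18 LD3_c43))))))
theorem f112722 : Led Lsl_et (LP (LK LD1_c1 LD2_c28 LD3_c7)) = (LP (LK LD1_c3 LD2_c4 LD3_c11)) :=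
  Lre_e IH (LK LD1_c1 LD2_c28 LD3_c7) (LK LD1_c3 LD2_c4 LD3_c11) Lrfl Lrfl
theorem f498624 : Led Lsl_at (LP (LK LD1_c3 LD2_c4 LD3_c11)) = (LP (LK LD1_c4 LD2_c42 LD3_c35)) :=
  Lgr Lrot80 (Lpe (f112722 IH) (Lpr_af (f498622 IH) (Lpe (K8.f59227 IH) (Lpn (LP (LK LD1_c4 LD2_c42 LD3_c35))))))
theorem f496273 : Led Lsl_dt (LP (LK LD1_c6 LD2_c14 LD3_c36)) = (LP (LK LD1_c3 LD2_c4 LD3_c11)) :=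
  Lre_d IH (LK LD1_c6 LD2_c14 LD3_c36) (LK LD1_c3 LD2_c4 LD3_c11) Lrfl Lrfl
theorem f59223 : Led Lsl_dt (LP (LK LD1_c4 LD2_c42 LD3_c35)) = (LP (LK LD1_c9 LD2_c19 LD3_c25)) :=
  Lre_d IH (LK LD1_c4 LD2_c42 LD3_c35) (LK LD1_c9 LD2_c19 LD3_c25) Lrfl Lrfl
theorem f498628 : Led Lsl_af (LP (LK LD1_c6 LD2_c14 LD3_c36)) = (LP (LK LD1_c9 LD2_c19 LD3_c25)) :=
  Lgr Lrot117 (Lpr_dt (f496273 IH) (Lpr_at (f498624 IH) (Lpr_dt (f59223 IH) (Lpn (LP (LK LD1_c9 LD2_c19 LD3_c25))))))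
theorem f498634 : Led Lsl_et (LP (LK LD1_c6 LD2_c14 LD3_c36)) = (LP (LK LD1_c12 LD2_c7 LD3_c24)) :=
  Lre_e IH (LK LD1_c6 LD2_c14 LD3_c36) (LK LD1_c12 LD2_c7 LD3_c24) Lrfl Lrfl
theorem f498635 : Led Lsl_at (LP (LK LD1_c12 LD2_c7 LD3_c24)) = (LP (LK LD1_c11 LD2_c34 LD3_c9)) :=
  Lgr Lrot80 (Lpe (f498634 IH) (Lpr_af (f498628 IH) (Lpr_ef (K8.f138187 IH) (Lpn (LP (LK LD1_c11 LD2_c34 LD3_c9))))))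
theorem f498644 : Led Lsl_ft (LP (LK LD1_c21 LD2_c13 LD3_c36)) = (LP (LK LD1_c12 LD2_c7 LD3_c24)) :=
  Lre_f IH (LK LD1_c21 LD2_c13 LD3_c36) (LK LD1_c12 LD2_c7 LD3_c24) Lrfl Lrfl
theorem f138215 : Led Lsl_ft (LP (LK LD1_c11 LD2_c34 LD3_c9)) = (LP (LK LD1_c20 LD2_c31 LD3_c45)) :=
  Lre_f IH (LK LD1_c11 LD2_c34 LD3_c9) (LK LD1_c20 LD2_c31 LD3_c45) Lrfl Lrfl
theorem f498645 : Led Lsl_af (LP (LK LD1_c21 LD2_c13 LD3_c36)) = (LP (LK LD1_c20 LD2_c31 LD3_c45)) :=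
  Lgr Lrot45 (Lpr_ft (f498644 IH) (Lpr_at (f498635 IH) (Lpr_ft (f138215 IH) (Lpn (LP (LK LD1_c20 LD2_c31 LD3_c45))))))
theorem f498605 : Led Lsl_dt (LP (LK LD1_c21 LD2_c13 LD3_c36)) = (LP (LK LD1_c12 LD2_c7 LD3_c25)) :=
  Lre_d IH (LK LD1_c21 LD2_c13 LD3_c36) (LK LD1_c12 LD2_c7 LD3_c25) Lrfl Lrfl
theorem f498649 : Led Lsl_dt (LP (LK LD1_c11 LD2_c34 LD3_c10)) = (LP (LK LD1_c20 LD2_c31 LD3_c45)) :=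
  Lre_d IH (LK LD1_c11 LD2_c34 LD3_c10) (LK LD1_c20 LD2_c31 LD3_c45) Lrfl Lrfl
theorem f498650 : Led Lsl_at (LP (LK LD1_c12 LD2_c7 LD3_c25)) = (LP (LK LD1_c11 LD2_c34 LD3_c10)) :=
  Lgr Lrot51 (Lpe (f498605 IH) (Lpr_af (f498645 IH) (Lpe (f498649 IH) (Lpn (LP (LK LD1_c11 LD2_c34 LD3_c10))))))
theorem f138280 : Led Lsl_ct (LP (LK LD1_c11 LD2_c34 LD3_c10)) = (LP (LK LD1_c20 LD2_c31 LD3_c35)) :=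
  Lre_c IH (LK LD1_c11 LD2_c34 LD3_c10) (LK LD1_c20 LD2_c31 LD3_c35) Lrfl Lrfl
theorem f498657 : Led Lsl_af (LP (LK LD1_c21 LD2_c13 LD3_c32)) = (LP (LK LD1_c20 LD2_c31 LD3_c35)) :=
  Lgr Lrot68 (Lpr_ct (f498599 IH) (Lpr_at (f498650 IH) (Lpr_ct (f138280 IH) (Lpn (LP (LK LD1_c20 LD2_c31 LD3_c35))))))
theorem f498604 : Led Lsl_ft (LP (LK LD1_c21 LD2_c13 LD3_c32)) = (LP (LK LD1_c12 LD2_c7 LD3_c22)) :=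
  Lre_f IH (LK LD1_c21 LD2_c13 LD3_c32) (LK LD1_c12 LD2_c7 LD3_c22) Lrfl Lrfl
theorem f138281 : Led Lsl_ft (LP (LK LD1_c11 LD2_c34 LD3_c6)) = (LP (LK LD1_c20 LD2_c31 LD3_c35)) :=
  Lre_f IH (LK LD1_c11 LD2_c34 LD3_c6) (LK LD1_c20 LD2_c31 LD3_c35) Lrfl Lrfl
theorem f498663 : Led Lsl_at (LP (LK LD1_c12 LD2_c7 LD3_c22)) = (LP (LK LD1_c11 LD2_c34 LD3_c6)) :=
  Lgr Lrot66 (Lpe (f498604 IH) (Lpr_af (f498657 IH) (Lpe (f138281 IH) (Lpn (LP (LK LD1_c11 LD2_c34 LD3_c6))))))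
theorem f498670 : Led Lsl_af (LP (LK LD1_c6 LD2_c14 LD3_c33)) = (LP (LK LD1_c5 LD2_c54 LD3_c9)) :=
  Lgr Lrot50 (Lpr_et (f498576 IH) (Lpr_at (f498663 IH) (Lpr_et (K32.f138176 IH) (Lpn (LP (LK LD1_c5 LD2_c54 LD3_c9))))))
theorem f498468 : Led Lsl_at (LP (LK LD1_c2 LD2_c56 LD3_c34)) = (LP (LK LD1_c6 LD2_c0 LD3_c39)) :=
  Lre_a IH (LK LD1_c2 LD2_c56 LD3_c34) (LK LD1_c6 LD2_c0 LD3_c39) Lrfl Lrfl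
theorem f498469 : Led Lsl_af (LP (LK LD1_c6 LD2_c0 LD3_c41)) = (LP (LK LD1_c5 LD2_c54 LD3_c11)) :=
  Lgr Lrot117 (Lpr_dt (K11.f69034 IH) (Lpr_at (f498468 IH) (Lpr_dt (f498466 IH) (Lpn (LP (LK LD1_c5 LD2_c54 LD3_c11))))))
theorem f498568 : Led Lsl_ff (LP (LK LD1_c5 LD2_c54 LD3_c11)) = (LP (LK LD1_c6 LD2_c14 LD3_c33)) :=
  Lgr Lrot103 (Lpe (f498469 IH) (Lpe (K4.f75084 IH) (Lpe (K4.f75082 IH) (Lpe (K8.f75094 IH) (Lpr_df (K8.f138827 IH) (Lpe (K8.f138844 IH) (Lpr_df (K8.f157061 IH) (Lpr_cf (f498554 IH) (Lpe (f498564 IH) (Lpn (LP (LK LD1_c6 LD2_c14 LD3_c33))))))))))))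
theorem f498674 : Led Lsl_ft (LP (LK LD1_c6 LD2_c0 LD3_c41)) = (LP (LK LD1_c5 LD2_c54 LD3_c9)) :=
  Lgr Lrot101 (Lpr_af (f498469 IH) (Lpr_ff (f498568 IH) (Lpr_af (f498670 IH) (Lpn (LP (LK LD1_c5 LD2_c54 LD3_c9))))))
theorem f498678 : Led Lsl_ff (LP (LK LD1_c6 LD2_c0 LD3_c41)) = (LP (LK LD1_c5 LD2_c54 LD3_c9)) :=
  Lgr Lrot3 (Lpr_ft (f498674 IH) (Lpn (LP (LK LD1_c5 LD2_c54 LD3_c9))))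
theorem f75096 : Led Lsl_et (LP (LK LD1_c6 LD2_c0 LD3_c41)) = (LP (LK LD1_c11 LD2_c45 LD3_c40)) :=
  Lre_e IH (LK LD1_c6 LD2_c0 LD3_c41) (LK LD1_c11 LD2_c45 LD3_c40) Lrfl Lrfl
theorem f75125 : Led Lsl_ft (LP (LK LD1_c11 LD2_c45 LD3_c40)) = (LP (LK LD1_c20 LD2_c46 LD3_c61)) :=
  Lre_f IH (LK LD1_c11 LD2_c45 LD3_c40) (LK LD1_c20 LD2_c46 LD3_c61) Lrfl Lrfl
theorem f138270 : Led Lsl_ft (LP (LK LD1_c20 LD2_c31 LD3_c35)) = (LP (LK LD1_c11 LD2_c34 LD3_c6)) :=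
  Lre_f IH (LK LD1_c20 LD2_c31 LD3_c35) (LK LD1_c11 LD2_c34 LD3_c6) Lrfl Lrfl
theorem f498684 : Led Lsl_et (LP (LK LD1_c20 LD2_c46 LD3_c61)) = (LP (LK LD1_c20 LD2_c31 LD3_c35)) :=
  Lgr Lrot69 (Lpe (f75125 IH) (Lpe (f75096 IH) (Lpr_ff (f498678 IH) (Lpe (K32.f138176 IH) (Lpe (f138270 IH) (Lpn (LP (LK LD1_c20 LD2_c31 LD3_c35))))))))
theorem f75123 : Led Lsl_bt (LP (LK LD1_c11 LD2_c45 LD3_c48)) = (LP (LK LD1_c20 LD2_c46 LD3_c61)) :=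
  Lre_b IH (LK LD1_c11 LD2_c45 LD3_c48) (LK LD1_c20 LD2_c46 LD3_c61) Lrfl Lrfl
theorem f138271 : Led Lsl_ft (LP (LK LD1_c9 LD2_c25 LD3_c58)) = (LP (LK LD1_c17 LD2_c23 LD3_c29)) :=
  Lre_f IH (LK LD1_c9 LD2_c25 LD3_c58) (LK LD1_c17 LD2_c23 LD3_c29) Lrfl Lrfl
theorem f138272 : Led Lsl_bf (LP (LK LD1_c20 LD2_c31 LD3_c35)) = (LP (LK LD1_c17 LD2_c23 LD3_c29)) :=
  Lgr Lrot61 (Lpr_ft (f138270 IH) (Lpr_bt (K32.f138264 IH) (Lpr_ft (f138271 IH) (Lpn (LP (LK LD1_c17 LD2_c23 LD3_c29))))))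
theorem f138277 : Led Lsl_bt (LP (LK LD1_c20 LD2_c31 LD3_c35)) = (LP (LK LD1_c17 LD2_c23 LD3_c29)) :=
  Lgr Lrot127 (Lpr_bf (f138272 IH) (Lpn (LP (LK LD1_c17 LD2_c23 LD3_c29))))
theorem f498689 : Led Lsl_ef (LP (LK LD1_c11 LD2_c45 LD3_c48)) = (LP (LK LD1_c17 LD2_c23 LD3_c29)) :=
  Lgr Lrot29 (Lpr_bt (f75123 IH) (Lpr_et (f498684 IH) (Lpr_bt (f138277 IH) (Lpn (LP (LK LD1_c17 LD2_c23 LD3_c29))))))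
theorem f498752 : Led Lsl_et (LP (LK LD1_c11 LD2_c45 LD3_c48)) = (LP (LK LD1_c17 LD2_c23 LD3_c29)) :=
  Lgr Lrot87 (Lpr_ef (f498689 IH) (Lpn (LP (LK LD1_c17 LD2_c23 LD3_c29))))
theorem f497020 : Led Lsl_ft (LP (LK LD1_c9 LD2_c25 LD3_c50)) = (LP (LK LD1_c17 LD2_c23 LD3_c21)) :=
  Lre_f IH (LK LD1_c9 LD2_c25 LD3_c50) (LK LD1_c17 LD2_c23 LD3_c21) Lrfl Lrfl
theorem f75386 : Led Lsl_ft (LP (LK LD1_c11 LD2_c45 LD3_c48)) = (LP (LK LD1_c6 LD2_c0 LD3_c43)) :=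
  Lre_f IH (LK LD1_c11 LD2_c45 LD3_c48) (LK LD1_c6 LD2_c0 LD3_c43) Lrfl Lrfl
theorem f497021 : Led Lsl_at (LP (LK LD1_c17 LD2_c23 LD3_c21)) = (LP (LK LD1_c11 LD2_c45 LD3_c48)) :=
  Lgr Lrot66 (Lpe (f497020 IH) (Lpr_af (K32.f497014 IH) (Lpe (f75386 IH) (Lpn (LP (LK LD1_c11 LD2_c45 LD3_c48))))))
theorem f497145 : Led Lsl_et (LP (LK LD1_c4 LD2_c46 LD3_c35)) = (LP (LK LD1_c9 LD2_c25 LD3_c50)) :=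
  Lre_e IH (LK LD1_c4 LD2_c46 LD3_c35) (LK LD1_c9 LD2_c25 LD3_c50) Lrfl Lrfl
theorem f75148 : Led Lsl_et (LP (LK LD1_c6 LD2_c0 LD3_c34)) = (LP (LK LD1_c2 LD2_c56 LD3_c32)) :=
  Lre_e IH (LK LD1_c6 LD2_c0 LD3_c34) (LK LD1_c2 LD2_c56 LD3_c32) Lrfl Lrfl
theorem f75432 : Led Lsl_ft (LP (LK LD1_c11 LD2_c45 LD3_c30)) = (LP (LK LD1_c6 LD2_c0 LD3_c34)) :=
  Lre_f IH (LK LD1_c11 LD2_c45 LD3_c30) (LK LD1_c6 LD2_c0 LD3_c34) Lrfl Lrfl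
theorem f497146 : Led Lsl_et (LP (LK LD1_c17 LD2_c23 LD3_c21)) = (LP (LK LD1_c11 LD2_c45 LD3_c30)) :=
  Lgr Lrot69 (Lpe (f497020 IH) (Lpe (f497145 IH) (Lpr_ff (K32.f497132 IH) (Lpe (f75148 IH) (Lpe (f75432 IH) (Lpn (LP (LK LD1_c11 LD2_c45 LD3_c30))))))))
theorem f497148 : Led Lsl_ef (LP (LK LD1_c17 LD2_c23 LD3_c21)) = (LP (LK LD1_c11 LD2_c45 LD3_c30)) :=
  Lgr Lrot88 (Lpr_et (f497146 IH) (Lpn (LP (LK LD1_c11 LD2_c45 LD3_c30))))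
theorem f498754 : Led Lsl_af (LP (LK LD1_c11 LD2_c45 LD3_c30)) = (LP (LK LD1_c17 LD2_c23 LD3_c29)) :=
  Lgr Lrot50 (Lpe (f497148 IH) (Lpr_at (f497021 IH) (Lpr_et (f498752 IH) (Lpn (LP (LK LD1_c17 LD2_c23 LD3_c29))))))
theorem f498759 : Led Lsl_at (LP (LK LD1_c6 LD2_c0 LD3_c34)) = (LP (LK LD1_c9 LD2_c25 LD3_c58)) :=
  Lgr Lrot66 (Lpe (f75432 IH) (Lpr_af (f498754 IH) (Lpe (f138271 IH) (Lpn (LP (LK LD1_c9 LD2_c25 LD3_c58))))))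
theorem f75433 : Led Lsl_bt (LP (LK LD1_c11 LD2_c45 LD3_c24)) = (LP (LK LD1_c6 LD2_c0 LD3_c34)) :=
  Lre_b IH (LK LD1_c11 LD2_c45 LD3_c24) (LK LD1_c6 LD2_c0 LD3_c34) Lrfl Lrfl
theorem f498763 : Led Lsl_at (LP (LK LD1_c20 LD2_c46 LD3_c34)) = (LP (LK LD1_c11 LD2_c45 LD3_c24)) :=
  Lre_a IH (LK LD1_c20 LD2_c46 LD3_c34) (LK LD1_c11 LD2_c45 LD3_c24) Lrfl Lrfl
theorem f498667 : Led Lsl_af (LP (LK LD1_c12 LD2_c7 LD3_c22)) = (LP (LK LD1_c11 LD2_c34 LD3_c6)) :=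
  Lgr Lrot0 (Lpr_at (f498663 IH) (Lpn (LP (LK LD1_c11 LD2_c34 LD3_c6))))
theorem f498764 : Led Lsl_bf (LP (LK LD1_c20 LD2_c46 LD3_c34)) = (LP (LK LD1_c12 LD2_c7 LD3_c22)) :=
  Lgr Lrot81 (Lpr_at (f498763 IH) (Lpr_bt (f75433 IH) (Lpr_at (f498759 IH) (Lpr_bt (K32.f138177 IH) (Lpe (f498667 IH) (Lpn (LP (LK LD1_c12 LD2_c7 LD3_c22))))))))
theorem f436542 : Led Lsl_et (LP (LK LD1_c20 LD2_c46 LD3_c34)) = (LP (LK LD1_c11 LD2_c45 LD3_c21)) :=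
  Lre_e IH (LK LD1_c20 LD2_c46 LD3_c34) (LK LD1_c11 LD2_c45 LD3_c21) Lrfl Lrfl
theorem f498775 : Led Lsl_bt (LP (LK LD1_c11 LD2_c45 LD3_c21)) = (LP (LK LD1_c6 LD2_c14 LD3_c33)) :=
  Lgr Lrot119 (Lpe (f436542 IH) (Lpr_bf (f498764 IH) (Lpe (f498576 IH) (Lpn (LP (LK LD1_c6 LD2_c14 LD3_c33))))))
theorem f436541 : Led Lsl_dt (LP (LK LD1_c6 LD2_c0 LD3_c29)) = (LP (LK LD1_c11 LD2_c45 LD3_c21)) :=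
  Lre_d IH (LK LD1_c6 LD2_c0 LD3_c29) (LK LD1_c11 LD2_c45 LD3_c21) Lrfl Lrfl
theorem f498778 : Led Lsl_bf (LP (LK LD1_c6 LD2_c0 LD3_c29)) = (LP (LK LD1_c9 LD2_c25 LD3_c55)) :=
  Lgr Lrot93 (Lpr_dt (f436541 IH) (Lpr_bt (f498775 IH) (Lpr_dt (f498564 IH) (Lpn (LP (LK LD1_c9 LD2_c25 LD3_c55))))))
theorem f498562 : Led Lsl_ct (LP (LK LD1_c6 LD2_c1 LD3_c49)) = (LP (LK LD1_c9 LD2_c25 LD3_c55)) :=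
  Lgr Lrot59 (Lpr_cf (f498554 IH) (Lpn (LP (LK LD1_c9 LD2_c25 LD3_c55))))
theorem f203722 : Led Lsl_bt (LP (LK LD1_c6 LD2_c38 LD3_c19)) = (LP (LK LD1_c12 LD2_c42 LD3_c18)) :=
  Lre_b IH (LK LD1_c6 LD2_c38 LD3_c19) (LK LD1_c12 LD2_c42 LD3_c18) Lrfl Lrfl
theorem f498780 : Led Lsl_ct (LP (LK LD1_c6 LD2_c0 LD3_c29)) = (LP (LK LD1_c6 LD2_c38 LD3_c19)) :=
  Lgr Lrot83 (Lpr_bf (f498778 IH) (Lpe (f498562 IH) (Lpe (f69181 IH) (Lpe (f203719 IH) (Lpe (f203722 IH) (Lpn (LP (LK LD1_c6 LD2_c38 LD3_c19))))))))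
theorem f136008 : Led Lsl_ff (LP (LK LD1_c6 LD2_c39 LD3_c34)) = (LP (LK LD1_c9 LD2_c23 LD3_c50)) :=
  Lgr Lrot3 (Lpr_ft (K6.f136000 IH) (Lpn (LP (LK LD1_c9 LD2_c23 LD3_c50))))
theorem f135985 : Led Lsl_ff (LP (LK LD1_c6 LD2_c0 LD3_c8)) = (LP (LK LD1_c3 LD2_c46 LD3_c40)) :=
  Lgr Lrot3 (Lpr_ft (K6.f135978 IH) (Lpn (LP (LK LD1_c3 LD2_c46 LD3_c40))))
theorem f136013 : Led Lsl_bt (LP (LK LD1_c6 LD2_c39 LD3_c34)) = (LP (LK LD1_c3 LD2_c46 LD3_c40)) :=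
  Lgr Lrot35 (Lpr_ff (f136008 IH) (Lpe (K6.f135991 IH) (Lpr_ff (f135985 IH) (Lpn (LP (LK LD1_c3 LD2_c46 LD3_c40))))))
theorem f501555 : Led Lsl_gt (LP (LK LD1_c3 LD2_c46 LD3_c40)) = (LP (LK LD1_c6 LD2_c0 LD3_c9)) :=
  Lgr Lrot82 (Lpe (f136013 IH) (Lpr_ct (K6.f65223 IH) (Lpe (K7.f146707 IH) (Lpe (f498780 IH) (Lpe (f497107 IH) (Lpe (f498572 IH) (Lpe (K8.f158496 IH) (Lpr_ct (K8.f158497 IH) (Lpr_gf (f501545 IH) (Lpe (f110371 IH) (Lpn (LP (LK LD1_c6 LD2_c0 LD3_c9)))))))))))))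
theorem f110377 : Led Lsl_ct (LP (LK LD1_c11 LD2_c44 LD3_c36)) = (LP (LK LD1_c6 LD2_c0 LD3_c9)) :=
  Lre_c IH (LK LD1_c11 LD2_c44 LD3_c36) (LK LD1_c6 LD2_c0 LD3_c9) Lrfl Lrfl
theorem f501563 : Led Lsl_bf (LP (LK LD1_c7 LD2_c42 LD3_c40)) = (LP (LK LD1_c11 LD2_c44 LD3_c36)) :=
  Lgr Lrot165 (Lpe (f97924 IH) (Lpr_ct (K5.f17142 IH) (Lpe (K5.f92759 IH) (Lpe (K5.f92758 IH) (Lpr_bt (K5.f92756 IH) (Lpr_gt (K3.f92648 IH) (Lpe (K3.f88294 IH) (Lpr_ct (K3.f65225 IH) (Lpr_gt (f501555 IH) (Lpe (f110377 IH) (Lpn (LP (LK LD1_c11 LD2_c44 LD3_c36)))))))))))))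
theorem f103514 : Led Lsl_gt (LP (LK LD1_c3 LD2_c14 LD3_c42)) = (LP (LK LD1_c6 LD2_c32 LD3_c53)) :=
  Lre_g IH (LK LD1_c3 LD2_c14 LD3_c42) (LK LD1_c6 LD2_c32 LD3_c53) Lrfl Lrfl
theorem f144045 : Led Lsl_at (LP (LK LD1_c0 LD2_c30 LD3_c52)) = (LP (LK LD1_c0 LD2_c13 LD3_c42)) :=
  Lre_a IH (LK LD1_c0 LD2_c30 LD3_c52) (LK LD1_c0 LD2_c13 LD3_c42) Lrfl Lrfl
theorem f152117 : Led Lsl_bf (LP (LK LD1_c0 LD2_c30 LD3_c52)) = (LP (LK LD1_c0 LD2_c19 LD3_c21)) :=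
  Lgr Lrot81 (Lpr_at (f144045 IH) (Lpr_bt (K2.f23296 IH) (Lpr_at (K7.f152113 IH) (Lpr_bt (K0.f12332 IH) (Lpr_at (K7.f23669 IH) (Lpn (LP (LK LD1_c0 LD2_c19 LD3_c21))))))))
theorem f148291 : Led Lsl_cf (LP (LK LD1_c0 LD2_c19 LD3_c21)) = (LP (LK LD1_c0 LD2_c10 LD3_c17)) :=
  Lgr Lrot14 (Lpe (K7.f148288 IH) (Lpe (K7.f148289 IH) (Lpr_df (K4.f116067 IH) (Lpe (K3.f21026 IH) (Lpe (K2.f21081 IH) (Lpr_gt (K0.f17645 IH) (Lpr_dt (K7.f131664 IH) (Lpr_gt (K7.f148282 IH) (Lpr_dt (K7.f4829 IH) (Lpn (LP (LK LD1_c0 LD2_c10 LD3_c17))))))))))))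
theorem f97192 : Led Lsl_cf (LP (LK LD1_c0 LD2_c49 LD3_c7)) = (LP (LK LD1_c0 LD2_c49 LD3_c52)) :=
  Lgr Lrot14 (Lpe (K3.f10763 IH) (Lpr_gf (K2.f90075 IH) (Lpe (K2.f17498 IH) (Lpe (K3.f92642 IH) (Lpr_ct (K0.f17296 IH) (Lpe (K3.f10678 IH) (Lpr_dt (K3.f10235 IH) (Lpr_gt (K3.f97186 IH) (Lpe (K3.f97188 IH) (Lpn (LP (LK LD1_c0 LD2_c49 LD3_c52))))))))))))
theorem f6115 : Led Lsl_bt (LP (LK LD1_c3 LD2_c32 LD3_c46)) = (LP (LK LD1_c1 LD2_c43 LD3_c5)) :=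
  Lre_b IH (LK LD1_c3 LD2_c32 LD3_c46) (LK LD1_c1 LD2_c43 LD3_c5) Lrfl Lrfl
theorem f98118 : Led Lsl_et (LP (LK LD1_c1 LD2_c43 LD3_c36)) = (LP (LK LD1_c3 LD2_c33 LD3_c44)) :=
  Lre_e IH (LK LD1_c1 LD2_c43 LD3_c36) (LK LD1_c3 LD2_c33 LD3_c44) Lrfl Lrfl
theorem f98054 : Led Lsl_dt (LP (LK LD1_c3 LD2_c33 LD3_c44)) = (LP (LK LD1_c7 LD2_c8 LD3_c19)) :=
  Lre_d IH (LK LD1_c3 LD2_c33 LD3_c44) (LK LD1_c7 LD2_c8 LD3_c19) Lrfl Lrfl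
theorem f98119 : Led Lsl_ef (LP (LK LD1_c3 LD2_c36 LD3_c21)) = (LP (LK LD1_c7 LD2_c8 LD3_c19)) :=
  Lgr Lrot73 (Lpr_dt (K33.f10692 IH) (Lpr_et (K3.f10495 IH) (Lpr_dt (K3.f98049 IH) (Lpr_et (f98118 IH) (Lpr_dt (f98054 IH) (Lpn (LP (LK LD1_c7 LD2_c8 LD3_c19))))))))
theorem f98132 : Led Lsl_ft (LP (LK LD1_c3 LD2_c36 LD3_c21)) = (LP (LK LD1_c7 LD2_c13 LD3_c7)) :=
  Lre_f IH (LK LD1_c3 LD2_c36 LD3_c21) (LK LD1_c7 LD2_c13 LD3_c7) Lrfl Lrfl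
theorem f98133 : Led Lsl_ft (LP (LK LD1_c13 LD2_c31 LD3_c15)) = (LP (LK LD1_c7 LD2_c8 LD3_c19)) :=
  Lre_f IH (LK LD1_c13 LD2_c31 LD3_c15) (LK LD1_c7 LD2_c8 LD3_c19) Lrfl Lrfl
theorem f98134 : Led Lsl_et (LP (LK LD1_c22 LD2_c52 LD3_c18)) = (LP (LK LD1_c13 LD2_c31 LD3_c15)) :=
  Lre_e IH (LK LD1_c22 LD2_c52 LD3_c18) (LK LD1_c13 LD2_c31 LD3_c15) Lrfl Lrfl
theorem f98135 : Led Lsl_ft (LP (LK LD1_c13 LD2_c39 LD3_c57)) = (LP (LK LD1_c22 LD2_c52 LD3_c18)) :=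
  Lgr Lrot86 (Lpe (K3.f10516 IH) (Lpe (f98132 IH) (Lpr_ef (f98119 IH) (Lpe (f98133 IH) (Lpe (f98134 IH) (Lpn (LP (LK LD1_c22 LD2_c52 LD3_c18))))))))
theorem f98143 : Led Lsl_ff (LP (LK LD1_c13 LD2_c39 LD3_c57)) = (LP (LK LD1_c22 LD2_c52 LD3_c18)) :=
  Lgr Lrot3 (Lpr_ft (f98135 IH) (Lpn (LP (LK LD1_c22 LD2_c52 LD3_c18))))
theorem f10536 : Led Lsl_ft (LP (LK LD1_c13 LD2_c28 LD3_c34)) = (LP (LK LD1_c22 LD2_c47 LD3_c48)) :=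
  Lre_f IH (LK LD1_c13 LD2_c28 LD3_c34) (LK LD1_c22 LD2_c47 LD3_c48) Lrfl Lrfl
theorem f98150 : Led Lsl_dt (LP (LK LD1_c22 LD2_c47 LD3_c48)) = (LP (LK LD1_c22 LD2_c52 LD3_c18)) :=
  Lgr Lrot60 (Lpe (f10536 IH) (Lpr_df (K3.f10517 IH) (Lpr_ff (f98143 IH) (Lpn (LP (LK LD1_c22 LD2_c52 LD3_c18))))))
theorem f98168 : Led Lsl_et (LP (LK LD1_c13 LD2_c28 LD3_c14)) = (LP (LK LD1_c22 LD2_c47 LD3_c48)) :=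
  Lre_e IH (LK LD1_c13 LD2_c28 LD3_c14) (LK LD1_c22 LD2_c47 LD3_c48) Lrfl Lrfl
theorem f98169 : Led Lsl_dt (LP (LK LD1_c7 LD2_c6 LD3_c33)) = (LP (LK LD1_c13 LD2_c28 LD3_c14)) :=
  Lre_d IH (LK LD1_c7 LD2_c6 LD3_c33) (LK LD1_c13 LD2_c28 LD3_c14) Lrfl Lrfl
theorem f6159 : Led Lsl_dt (LP (LK LD1_c13 LD2_c31 LD3_c15)) = (LP (LK LD1_c7 LD2_c8 LD3_c20)) :=
  Lre_d IH (LK LD1_c13 LD2_c31 LD3_c15) (LK LD1_c7 LD2_c8 LD3_c20) Lrfl Lrfl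
theorem f98170 : Led Lsl_ef (LP (LK LD1_c7 LD2_c6 LD3_c33)) = (LP (LK LD1_c7 LD2_c8 LD3_c20)) :=
  Lgr Lrot73 (Lpr_dt (f98169 IH) (Lpr_et (f98168 IH) (Lpr_dt (f98150 IH) (Lpr_et (f98134 IH) (Lpr_dt (f6159 IH) (Lpn (LP (LK LD1_c7 LD2_c8 LD3_c20))))))))
theorem f98183 : Led Lsl_ft (LP (LK LD1_c7 LD2_c6 LD3_c33)) = (LP (LK LD1_c3 LD2_c32 LD3_c48)) :=
  Lre_f IH (LK LD1_c7 LD2_c6 LD3_c33) (LK LD1_c3 LD2_c32 LD3_c48) Lrfl Lrfl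
theorem f10604 : Led Lsl_et (LP (LK LD1_c3 LD2_c32 LD3_c48)) = (LP (LK LD1_c1 LD2_c43 LD3_c5)) :=
  Lre_e IH (LK LD1_c3 LD2_c32 LD3_c48) (LK LD1_c1 LD2_c43 LD3_c5) Lrfl Lrfl
theorem f98184 : Led Lsl_ft (LP (LK LD1_c3 LD2_c33 LD3_c44)) = (LP (LK LD1_c7 LD2_c8 LD3_c20)) :=
  Lre_f IH (LK LD1_c3 LD2_c33 LD3_c44) (LK LD1_c7 LD2_c8 LD3_c20) Lrfl Lrfl
theorem f98185 : Led Lsl_ft (LP (LK LD1_c1 LD2_c43 LD3_c5)) = (LP (LK LD1_c1 LD2_c43 LD3_c36)) :=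
  Lgr Lrot86 (Lpe (f10604 IH) (Lpe (f98183 IH) (Lpr_ef (f98170 IH) (Lpe (f98184 IH) (Lpe (f98118 IH) (Lpn (LP (LK LD1_c1 LD2_c43 LD3_c36))))))))
theorem f6560 : Led Lsl_bt (LP (LK LD1_c1 LD2_c43 LD3_c36)) = (LP (LK LD1_c3 LD2_c33 LD3_c43)) :=
  Lre_b IH (LK LD1_c1 LD2_c43 LD3_c36) (LK LD1_c3 LD2_c33 LD3_c43) Lrfl Lrfl
theorem f98193 : Led Lsl_ff (LP (LK LD1_c3 LD2_c32 LD3_c46)) = (LP (LK LD1_c3 LD2_c33 LD3_c43)) :=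
  Lgr Lrot25 (Lpr_bt (f6115 IH) (Lpr_ft (f98185 IH) (Lpr_bt (f6560 IH) (Lpn (LP (LK LD1_c3 LD2_c33 LD3_c43))))))
theorem f6566 : Led Lsl_dt (LP (LK LD1_c3 LD2_c32 LD3_c46)) = (LP (LK LD1_c1 LD2_c43 LD3_c4)) :=
  Lre_d IH (LK LD1_c3 LD2_c32 LD3_c46) (LK LD1_c1 LD2_c43 LD3_c4) Lrfl Lrfl
theorem f98195 : Led Lsl_dt (LP (LK LD1_c1 LD2_c44 LD3_c61)) = (LP (LK LD1_c3 LD2_c33 LD3_c43)) :=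
  Lgr Lrot60 (Lpe (K29.f10491 IH) (Lpe (f6566 IH) (Lpr_ff (f98193 IH) (Lpn (LP (LK LD1_c3 LD2_c33 LD3_c43))))))
theorem f6387 : Led Lsl_et (LP (LK LD1_c3 LD2_c36 LD3_c18)) = (LP (LK LD1_c1 LD2_c44 LD3_c61)) :=
  Lre_e IH (LK LD1_c3 LD2_c36 LD3_c18) (LK LD1_c1 LD2_c44 LD3_c61) Lrfl Lrfl
theorem f6422 : Led Lsl_dt (LP (LK LD1_c7 LD2_c12 LD3_c60)) = (LP (LK LD1_c3 LD2_c36 LD3_c18)) :=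
  Lre_d IH (LK LD1_c7 LD2_c12 LD3_c60) (LK LD1_c3 LD2_c36 LD3_c18) Lrfl Lrfl
theorem f98205 : Led Lsl_et (LP (LK LD1_c3 LD2_c33 LD3_c43)) = (LP (LK LD1_c7 LD2_c8 LD3_c16)) :=
  Lre_e IH (LK LD1_c3 LD2_c33 LD3_c43) (LK LD1_c7 LD2_c8 LD3_c16) Lrfl Lrfl
theorem f98214 : Led Lsl_dt (LP (LK LD1_c7 LD2_c8 LD3_c16)) = (LP (LK LD1_c13 LD2_c31 LD3_c10)) :=
  Lre_d IH (LK LD1_c7 LD2_c8 LD3_c16) (LK LD1_c13 LD2_c31 LD3_c10) Lrfl Lrfl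
theorem f98215 : Led Lsl_ef (LP (LK LD1_c7 LD2_c12 LD3_c60)) = (LP (LK LD1_c13 LD2_c31 LD3_c10)) :=
  Lgr Lrot73 (Lpr_dt (f6422 IH) (Lpr_et (f6387 IH) (Lpr_dt (f98195 IH) (Lpr_et (f98205 IH) (Lpr_dt (f98214 IH) (Lpn (LP (LK LD1_c13 LD2_c31 LD3_c10))))))))
theorem f6372 : Led Lsl_ct (LP (LK LD1_c7 LD2_c12 LD3_c60)) = (LP (LK LD1_c13 LD2_c39 LD3_c35)) :=
  Lre_c IH (LK LD1_c7 LD2_c12 LD3_c60) (LK LD1_c13 LD2_c39 LD3_c35) Lrfl Lrfl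
theorem f98220 : Led Lsl_ct (LP (LK LD1_c22 LD2_c52 LD3_c11)) = (LP (LK LD1_c13 LD2_c31 LD3_c10)) :=
  Lre_c IH (LK LD1_c22 LD2_c52 LD3_c11) (LK LD1_c13 LD2_c31 LD3_c10) Lrfl Lrfl
theorem f98221 : Led Lsl_et (LP (LK LD1_c13 LD2_c39 LD3_c35)) = (LP (LK LD1_c22 LD2_c52 LD3_c11)) :=
  Lgr Lrot158 (Lpe (f6372 IH) (Lpr_ef (f98215 IH) (Lpe (f98220 IH) (Lpn (LP (LK LD1_c22 LD2_c52 LD3_c11))))))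
theorem f98235 : Led Lsl_ef (LP (LK LD1_c13 LD2_c39 LD3_c35)) = (LP (LK LD1_c22 LD2_c52 LD3_c11)) :=
  Lgr Lrot88 (Lpr_et (f98221 IH) (Lpn (LP (LK LD1_c22 LD2_c52 LD3_c11))))
theorem f6455 : Led Lsl_bt (LP (LK LD1_c13 LD2_c39 LD3_c35)) = (LP (LK LD1_c23 LD2_c4 LD3_c53)) :=
  Lre_b IH (LK LD1_c13 LD2_c39 LD3_c35) (LK LD1_c23 LD2_c4 LD3_c53) Lrfl Lrfl
theorem f98239 : Led Lsl_bt (LP (LK LD1_c30 LD2_c46 LD3_c3)) = (LP (LK LD1_c22 LD2_c52 LD3_c11)) :=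
  Lre_b IH (LK LD1_c30 LD2_c46 LD3_c3) (LK LD1_c22 LD2_c52 LD3_c11) Lrfl Lrfl
theorem f98240 : Led Lsl_et (LP (LK LD1_c23 LD2_c4 LD3_c53)) = (LP (LK LD1_c30 LD2_c46 LD3_c3)) :=
  Lgr Lrot74 (Lpe (f6455 IH) (Lpr_ef (f98235 IH) (Lpe (f98239 IH) (Lpn (LP (LK LD1_c30 LD2_c46 LD3_c3))))))
theorem f98243 : Led Lsl_ct (LP (LK LD1_c13 LD2_c39 LD3_c54)) = (LP (LK LD1_c23 LD2_c4 LD3_c53)) :=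
  Lre_c IH (LK LD1_c13 LD2_c39 LD3_c54) (LK LD1_c23 LD2_c4 LD3_c53) Lrfl Lrfl
theorem f98244 : Led Lsl_ct (LP (LK LD1_c30 LD2_c46 LD3_c3)) = (LP (LK LD1_c22 LD2_c52 LD3_c17)) :=
  Lre_c IH (LK LD1_c30 LD2_c46 LD3_c3) (LK LD1_c22 LD2_c52 LD3_c17) Lrfl Lrfl
theorem f98245 : Led Lsl_ef (LP (LK LD1_c13 LD2_c39 LD3_c54)) = (LP (LK LD1_c22 LD2_c52 LD3_c17)) :=
  Lgr Lrot28 (Lpr_ct (f98243 IH) (Lpr_et (f98240 IH) (Lpr_ct (f98244 IH) (Lpn (LP (LK LD1_c22 LD2_c52 LD3_c17))))))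
theorem f98251 : Led Lsl_et (LP (LK LD1_c13 LD2_c39 LD3_c54)) = (LP (LK LD1_c22 LD2_c52 LD3_c17)) :=
  Lgr Lrot87 (Lpr_ef (f98245 IH) (Lpn (LP (LK LD1_c22 LD2_c52 LD3_c17))))
theorem f98259 : Led Lsl_bt (LP (LK LD1_c7 LD2_c13 LD3_c6)) = (LP (LK LD1_c13 LD2_c39 LD3_c54)) :=
  Lre_b IH (LK LD1_c7 LD2_c13 LD3_c6) (LK LD1_c13 LD2_c39 LD3_c54) Lrfl Lrfl
theorem f98260 : Led Lsl_bt (LP (LK LD1_c22 LD2_c52 LD3_c17)) = (LP (LK LD1_c13 LD2_c31 LD3_c14)) :=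
  Lre_b IH (LK LD1_c22 LD2_c52 LD3_c17) (LK LD1_c13 LD2_c31 LD3_c14) Lrfl Lrfl
theorem f98261 : Led Lsl_ef (LP (LK LD1_c7 LD2_c13 LD3_c6)) = (LP (LK LD1_c13 LD2_c31 LD3_c14)) :=
  Lgr Lrot29 (Lpr_bt (f98259 IH) (Lpr_et (f98251 IH) (Lpr_bt (f98260 IH) (Lpn (LP (LK LD1_c13 LD2_c31 LD3_c14))))))
theorem f98268 : Led Lsl_at (LP (LK LD1_c7 LD2_c13 LD3_c6)) = (LP (LK LD1_c3 LD2_c37 LD3_c15)) :=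
  Lre_a IH (LK LD1_c7 LD2_c13 LD3_c6) (LK LD1_c3 LD2_c37 LD3_c15) Lrfl Lrfl
theorem f98269 : Led Lsl_et (LP (LK LD1_c3 LD2_c37 LD3_c15)) = (LP (LK LD1_c7 LD2_c14 LD3_c37)) :=
  Lre_e IH (LK LD1_c3 LD2_c37 LD3_c15) (LK LD1_c7 LD2_c14 LD3_c37) Lrfl Lrfl
theorem f98270 : Led Lsl_at (LP (LK LD1_c7 LD2_c14 LD3_c37)) = (LP (LK LD1_c13 LD2_c31 LD3_c14)) :=
  Lgr Lrot80 (Lpe (f98269 IH) (Lpe (f98268 IH) (Lpr_ef (f98261 IH) (Lpn (LP (LK LD1_c13 LD2_c31 LD3_c14))))))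
theorem f6467 : Led Lsl_ct (LP (LK LD1_c3 LD2_c37 LD3_c6)) = (LP (LK LD1_c7 LD2_c14 LD3_c37)) :=
  Lre_c IH (LK LD1_c3 LD2_c37 LD3_c6) (LK LD1_c7 LD2_c14 LD3_c37) Lrfl Lrfl
theorem f98127 : Led Lsl_ct (LP (LK LD1_c13 LD2_c31 LD3_c14)) = (LP (LK LD1_c7 LD2_c8 LD3_c19)) :=
  Lre_c IH (LK LD1_c13 LD2_c31 LD3_c14) (LK LD1_c7 LD2_c8 LD3_c19) Lrfl Lrfl
theorem f98282 : Led Lsl_af (LP (LK LD1_c3 LD2_c37 LD3_c6)) = (LP (LK LD1_c7 LD2_c8 LD3_c19)) :=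
  Lgr Lrot68 (Lpr_ct (f6467 IH) (Lpr_at (f98270 IH) (Lpr_ct (f98127 IH) (Lpn (LP (LK LD1_c7 LD2_c8 LD3_c19))))))
theorem f6171 : Led Lsl_ft (LP (LK LD1_c3 LD2_c37 LD3_c6)) = (LP (LK LD1_c7 LD2_c14 LD3_c38)) :=
  Lre_f IH (LK LD1_c3 LD2_c37 LD3_c6) (LK LD1_c7 LD2_c14 LD3_c38) Lrfl Lrfl
theorem f98287 : Led Lsl_at (LP (LK LD1_c7 LD2_c14 LD3_c38)) = (LP (LK LD1_c13 LD2_c31 LD3_c15)) :=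
  Lgr Lrot66 (Lpe (f6171 IH) (Lpr_af (f98282 IH) (Lpe (f98133 IH) (Lpn (LP (LK LD1_c13 LD2_c31 LD3_c15))))))
theorem f98303 : Led Lsl_af (LP (LK LD1_c3 LD2_c37 LD3_c7)) = (LP (LK LD1_c7 LD2_c8 LD3_c20)) :=
  Lgr Lrot117 (Lpr_dt (K29.f6155 IH) (Lpr_at (f98287 IH) (Lpr_dt (f6159 IH) (Lpn (LP (LK LD1_c7 LD2_c8 LD3_c20))))))
theorem f6160 : Led Lsl_ct (LP (LK LD1_c3 LD2_c33 LD3_c48)) = (LP (LK LD1_c7 LD2_c8 LD3_c20)) :=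
  Lre_c IH (LK LD1_c3 LD2_c33 LD3_c48) (LK LD1_c7 LD2_c8 LD3_c20) Lrfl Lrfl
theorem f6149 : Led Lsl_at (LP (LK LD1_c7 LD2_c6 LD3_c33)) = (LP (LK LD1_c3 LD2_c33 LD3_c48)) :=
  Lre_a IH (LK LD1_c7 LD2_c6 LD3_c33) (LK LD1_c3 LD2_c33 LD3_c48) Lrfl Lrfl
theorem f98311 : Led Lsl_ct (LP (LK LD1_c3 LD2_c37 LD3_c7)) = (LP (LK LD1_c7 LD2_c6 LD3_c33)) :=
  Lgr Lrot111 (Lpr_af (f98303 IH) (Lpe (f6160 IH) (Lpe (f6149 IH) (Lpn (LP (LK LD1_c7 LD2_c6 LD3_c33))))))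
theorem f98326 : Led Lsl_cf (LP (LK LD1_c1 LD2_c45 LD3_c26)) = (LP (LK LD1_c3 LD2_c32 LD3_c48)) :=
  Lgr Lrot108 (Lpr_ft (K3.f6523 IH) (Lpr_ct (f98311 IH) (Lpr_ft (f98183 IH) (Lpn (LP (LK LD1_c3 LD2_c32 LD3_c48))))))
theorem f98333 : Led Lsl_ct (LP (LK LD1_c1 LD2_c45 LD3_c26)) = (LP (LK LD1_c3 LD2_c32 LD3_c48)) :=
  Lgr Lrot59 (Lpr_cf (f98326 IH) (Lpn (LP (LK LD1_c3 LD2_c32 LD3_c48))))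
theorem f6129 : Led Lsl_bf (LP (LK LD1_c1 LD2_c45 LD3_c26)) = (LP (LK LD1_c1 LD2_c43 LD3_c37)) :=
  Lgr Lrot24 (Lpr_bt (K29.f6122 IH) (Lpn (LP (LK LD1_c1 LD2_c43 LD3_c37))))
theorem f6544 : Led Lsl_ct (LP (LK LD1_c3 LD2_c33 LD3_c44)) = (LP (LK LD1_c1 LD2_c43 LD3_c37)) :=
  Lre_c IH (LK LD1_c3 LD2_c33 LD3_c44) (LK LD1_c1 LD2_c43 LD3_c37) Lrfl Lrfl
theorem f6545 : Led Lsl_bt (LP (LK LD1_c7 LD2_c8 LD3_c16)) = (LP (LK LD1_c3 LD2_c33 LD3_c44)) :=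
  Lre_b IH (LK LD1_c7 LD2_c8 LD3_c16) (LK LD1_c3 LD2_c33 LD3_c44) Lrfl Lrfl
theorem f6128 : Led Lsl_bt (LP (LK LD1_c3 LD2_c32 LD3_c48)) = (LP (LK LD1_c7 LD2_c6 LD3_c25)) :=
  Lre_b IH (LK LD1_c3 LD2_c32 LD3_c48) (LK LD1_c7 LD2_c6 LD3_c25) Lrfl Lrfl
theorem f98347 : Led Lsl_cf (LP (LK LD1_c7 LD2_c8 LD3_c16)) = (LP (LK LD1_c7 LD2_c6 LD3_c25)) :=
  Lgr Lrot97 (Lpr_bt (f6545 IH) (Lpr_ct (f6544 IH) (Lpe (f6129 IH) (Lpr_ct (f98333 IH) (Lpr_bt (f6128 IH) (Lpn (LP (LK LD1_c7 LD2_c6 LD3_c25))))))))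
theorem f98199 : Led Lsl_et (LP (LK LD1_c7 LD2_c8 LD3_c16)) = (LP (LK LD1_c3 LD2_c33 LD3_c43)) :=
  Lre_e IH (LK LD1_c7 LD2_c8 LD3_c16) (LK LD1_c3 LD2_c33 LD3_c43) Lrfl Lrfl
theorem f10629 : Led Lsl_et (LP (LK LD1_c3 LD2_c32 LD3_c46)) = (LP (LK LD1_c7 LD2_c6 LD3_c25)) :=
  Lre_e IH (LK LD1_c3 LD2_c32 LD3_c46) (LK LD1_c7 LD2_c6 LD3_c25) Lrfl Lrfl
theorem f98356 : Led Lsl_ct (LP (LK LD1_c3 LD2_c33 LD3_c43)) = (LP (LK LD1_c3 LD2_c32 LD3_c46)) :=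
  Lgr Lrot15 (Lpe (f98199 IH) (Lpr_cf (f98347 IH) (Lpe (f10629 IH) (Lpn (LP (LK LD1_c3 LD2_c32 LD3_c46))))))
theorem f428970 : Led Lsl_dt (LP (LK LD1_c6 LD2_c32 LD3_c53)) = (LP (LK LD1_c3 LD2_c27 LD3_c0)) :=
  Lgr Lrot182 (Lpe (f103514 IH) (Lpe (K4.f103523 IH) (Lpe (K3.f24334 IH) (Lpe (K3.f24310 IH) (Lpr_gf (K7.f156502 IH) (Lpr_bf (f152117 IH) (Lpr_cf (f148291 IH) (Lpe (K7.f4829 IH) (Lpe (K7.f148282 IH) (Lpe (K7.f131662 IH) (Lpr_cf (f97192 IH) (Lpr_df (K3.f97188 IH) (Lpe (K3.f97186 IH) (Lpe (f6115 IH) (Lpe (f98356 IH) (Lpe (f98195 IH) (Lpr_gf (K3.f10671 IH) (Lpe (K3.f96909 IH) (Lpe (K3.f89713 IH) (Lpn (LP (LK LD1_c3 LD2_c27 LD3_c0))))))))))))))))))))))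
theorem f127648 : Led Lsl_ct (LP (LK LD1_c12 LD2_c32 LD3_c61)) = (LP (LK LD1_c7 LD2_c0 LD3_c27)) :=
  Lgr Lrot59 (Lpr_cf (K5.f127641 IH) (Lpn (LP (LK LD1_c7 LD2_c0 LD3_c27))))
theorem f428978 : Led Lsl_gt (LP (LK LD1_c6 LD2_c32 LD3_c53)) = (LP (LK LD1_c3 LD2_c27 LD3_c16)) :=
  Lgr Lrot146 (Lpr_dt (f428970 IH) (Lpr_gt (K3.f89690 IH) (Lpr_ct (K3.f89687 IH) (Lpe (K3.f89688 IH) (Lpr_ct (K6.f89684 IH) (Lpr_dt (K5.f104049 IH) (Lpe (f127648 IH) (Lpr_gf (K5.f127639 IH) (Lpe (K5.f15618 IH) (Lpn (LP (LK LD1_c3 LD2_c27 LD3_c16))))))))))))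
theorem f428972 : Led Lsl_bt (LP (LK LD1_c12 LD2_c33 LD3_c7)) = (LP (LK LD1_c6 LD2_c32 LD3_c53)) :=
  Lre_b IH (LK LD1_c12 LD2_c33 LD3_c7) (LK LD1_c6 LD2_c32 LD3_c53) Lrfl Lrfl
theorem f135987 : Led Lsl_gt (LP (LK LD1_c6 LD2_c0 LD3_c8)) = (LP (LK LD1_c9 LD2_c23 LD3_c53)) :=
  Lgr Lrot5 (Lpr_ft (K6.f135978 IH) (Lpr_at (K6.f120624 IH) (Lpe (f103046 IH) (Lpn (LP (LK LD1_c9 LD2_c23 LD3_c53))))))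
theorem f428987 : Led Lsl_ct (LP (LK LD1_c12 LD2_c33 LD3_c7)) = (LP (LK LD1_c9 LD2_c23 LD3_c53)) :=
  Lgr Lrot10 (Lpr_bt (f428972 IH) (Lpr_gt (f428978 IH) (Lpr_ct (K5.f15618 IH) (Lpe (K5.f127639 IH) (Lpr_cf (K5.f127641 IH) (Lpr_bt (K5.f103940 IH) (Lpe (K3.f103958 IH) (Lpe (K6.f65101 IH) (Lpe (K6.f135968 IH) (Lpr_gt (f135987 IH) (Lpn (LP (LK LD1_c9 LD2_c23 LD3_c53)))))))))))))
theorem f103007 : Led Lsl_bt (LP (LK LD1_c9 LD2_c22 LD3_c21)) = (LP (LK LD1_c4 LD2_c44 LD3_c52)) :=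
  Lre_b IH (LK LD1_c9 LD2_c22 LD3_c21) (LK LD1_c4 LD2_c44 LD3_c52) Lrfl Lrfl
theorem f103010 : Led Lsl_dt (LP (LK LD1_c4 LD2_c45 LD3_c36)) = (LP (LK LD1_c9 LD2_c22 LD3_c21)) :=
  Lgr Lrot79 (Lpe (K4.f103009 IH) (Lpr_df (K3.f103005 IH) (Lpe (f103007 IH) (Lpn (LP (LK LD1_c9 LD2_c22 LD3_c21))))))
theorem f14036 : Led Lsl_bt (LP (LK LD1_c1 LD2_c24 LD3_c7)) = (LP (LK LD1_c2 LD2_c21 LD3_c23)) :=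
  Lre_b IH (LK LD1_c1 LD2_c24 LD3_c7) (LK LD1_c2 LD2_c21 LD3_c23) Lrfl Lrfl
theorem f72557 : Led Lsl_bt (LP (LK LD1_c2 LD2_c55 LD3_c55)) = (LP (LK LD1_c5 LD2_c58 LD3_c60)) :=
  Lre_b IH (LK LD1_c2 LD2_c55 LD3_c55) (LK LD1_c5 LD2_c58 LD3_c60) Lrfl Lrfl
theorem f103053 : Led Lsl_bt (LP (LK LD1_c4 LD2_c44 LD3_c52)) = (LP (LK LD1_c9 LD2_c22 LD3_c21)) :=
  Lre_b IH (LK LD1_c4 LD2_c44 LD3_c52) (LK LD1_c9 LD2_c22 LD3_c21) Lrfl Lrfl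
theorem f110905 : Led Lsl_gf (LP (LK LD1_c5 LD2_c58 LD3_c60)) = (LP (LK LD1_c9 LD2_c22 LD3_c21)) :=
  Lgr Lrot124 (Lpe (f72557 IH) (Lpr_ct (K2.f72567 IH) (Lpr_gt (K2.f40686 IH) (Lpe (K2.f13725 IH) (Lpr_bt (f14036 IH) (Lpe (K4.f110787 IH) (Lpr_ct (K4.f110789 IH) (Lpr_gt (K3.f103293 IH) (Lpe (K3.f103299 IH) (Lpr_bt (f103053 IH) (Lpn (LP (LK LD1_c9 LD2_c22 LD3_c21)))))))))))))
theorem f110907 : Led Lsl_dt (LP (LK LD1_c5 LD2_c58 LD3_c60)) = (LP (LK LD1_c2 LD2_c55 LD3_c54)) :=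
  Lre_d IH (LK LD1_c5 LD2_c58 LD3_c60) (LK LD1_c2 LD2_c55 LD3_c54) Lrfl Lrfl
theorem f74775 : Led Lsl_ct (LP (LK LD1_c2 LD2_c55 LD3_c54)) = (LP (LK LD1_c5 LD2_c58 LD3_c39)) :=
  Lre_c IH (LK LD1_c2 LD2_c55 LD3_c54) (LK LD1_c5 LD2_c58 LD3_c39) Lrfl Lrfl
theorem f110908 : Led Lsl_dt (LP (LK LD1_c11 LD2_c41 LD3_c45)) = (LP (LK LD1_c5 LD2_c58 LD3_c39)) :=
  Lre_d IH (LK LD1_c11 LD2_c41 LD3_c45) (LK LD1_c5 LD2_c58 LD3_c39) Lrfl Lrfl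
theorem f426631 : Led Lsl_dt (LP (LK LD1_c11 LD2_c44 LD3_c35)) = (LP (LK LD1_c7 LD2_c18 LD3_c53)) :=
  Lgr Lrot6 (Lpr_gt (K32.f135980 IH) (Lpr_ct (K6.f110365 IH) (Lpr_gt (K6.f76144 IH) (Lpr_ct (K7.f135973 IH) (Lpe (K3.f97508 IH) (Lpe (K3.f64640 IH) (Lpe (K28.f64795 IH) (Lpr_cf (K28.f426619 IH) (Lpe (K28.f426613 IH) (Lpn (LP (LK LD1_c7 LD2_c18 LD3_c53))))))))))))
theorem f428994 : Led Lsl_gt (LP (LK LD1_c12 LD2_c33 LD3_c7)) = (LP (LK LD1_c11 LD2_c44 LD3_c35)) :=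
  Lgr Lrot180 (Lpr_ct (f428987 IH) (Lpr_gt (f103046 IH) (Lpr_dt (f103010 IH) (Lpe (f110905 IH) (Lpr_dt (f110907 IH) (Lpr_ct (f74775 IH) (Lpe (f110908 IH) (Lpe (K28.f426613 IH) (Lpe (f426631 IH) (Lpn (LP (LK LD1_c11 LD2_c44 LD3_c35))))))))))))
theorem f137218 : Led Lsl_at (LP (LK LD1_c11 LD2_c44 LD3_c36)) = (LP (LK LD1_c6 LD2_c0 LD3_c3)) :=
  Lre_a IH (LK LD1_c11 LD2_c44 LD3_c36) (LK LD1_c6 LD2_c0 LD3_c3) Lrfl Lrfl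
theorem f428996 : Led Lsl_ft (LP (LK LD1_c12 LD2_c33 LD3_c7)) = (LP (LK LD1_c11 LD2_c44 LD3_c36)) :=
  Lgr Lrot2 (Lpr_gt (f428994 IH) (Lpr_gt (K32.f135980 IH) (Lpe (f137218 IH) (Lpn (LP (LK LD1_c11 LD2_c44 LD3_c36))))))
theorem f428989 : Led Lsl_bt (LP (LK LD1_c6 LD2_c32 LD3_c53)) = (LP (LK LD1_c12 LD2_c33 LD3_c7)) :=
  Lre_b IH (LK LD1_c6 LD2_c32 LD3_c53) (LK LD1_c12 LD2_c33 LD3_c7) Lrfl Lrfl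
theorem f501567 : Led Lsl_ft (LP (LK LD1_c7 LD2_c42 LD3_c40)) = (LP (LK LD1_c6 LD2_c32 LD3_c53)) :=
  Lgr Lrot75 (Lpr_bf (f501563 IH) (Lpe (f428996 IH) (Lpe (f428989 IH) (Lpn (LP (LK LD1_c6 LD2_c32 LD3_c53))))))
theorem f136397 : Led Lsl_gf (LP (LK LD1_c7 LD2_c41 LD3_c54)) = (LP (LK LD1_c3 LD2_c50 LD3_c58)) :=
  Lgr Lrot47 (Lpr_gt (K32.f136390 IH) (Lpr_af (K4.f120435 IH) (Lpr_ff (K4.f95418 IH) (Lpn (LP (LK LD1_c3 LD2_c50 LD3_c58))))))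
theorem f501574 : Led Lsl_af (LP (LK LD1_c7 LD2_c41 LD3_c54)) = (LP (LK LD1_c6 LD2_c32 LD3_c53)) :=
  Lgr Lrot31 (Lpr_gf (f136397 IH) (Lpr_gf (f97924 IH) (Lpr_ft (f501567 IH) (Lpn (LP (LK LD1_c6 LD2_c32 LD3_c53))))))
theorem f428975 : Led Lsl_df (LP (LK LD1_c6 LD2_c32 LD3_c53)) = (LP (LK LD1_c3 LD2_c27 LD3_c0)) :=
  Lgr Lrot38 (Lpr_dt (f428970 IH) (Lpn (LP (LK LD1_c3 LD2_c27 LD3_c0))))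
theorem f501580 : Led Lsl_at (LP (LK LD1_c3 LD2_c50 LD3_c24)) = (LP (LK LD1_c3 LD2_c27 LD3_c0)) :=
  Lgr Lrot51 (Lpe (K32.f96525 IH) (Lpr_af (f501574 IH) (Lpr_df (f428975 IH) (Lpn (LP (LK LD1_c3 LD2_c27 LD3_c0))))))
theorem f501588 : Led Lsl_ff (LP (LK LD1_c3 LD2_c50 LD3_c24)) = (LP (LK LD1_c3 LD2_c26 LD3_c61)) :=
  Lgr Lrot52 (Lpr_at (f501580 IH) (Lpr_gf (K3.f97869 IH) (Lpe (K6.f136502 IH) (Lpn (LP (LK LD1_c3 LD2_c26 LD3_c61))))))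
theorem f501598 : Led Lsl_ft (LP (LK LD1_c3 LD2_c50 LD3_c24)) = (LP (LK LD1_c3 LD2_c26 LD3_c61)) :=
  Lgr Lrot48 (Lpr_ff (f501588 IH) (Lpn (LP (LK LD1_c3 LD2_c26 LD3_c61))))
theorem f87162 : Led Lsl_gt (LP (LK LD1_c1 LD2_c51 LD3_c34)) = (LP (LK LD1_c3 LD2_c49 LD3_c4)) :=
  Lre_g IH (LK LD1_c1 LD2_c51 LD3_c34) (LK LD1_c3 LD2_c49 LD3_c4) Lrfl Lrfl
theorem f88514 : Led Lsl_gt (LP (LK LD1_c3 LD2_c49 LD3_c4)) = (LP (LK LD1_c7 LD2_c13 LD3_c24)) :=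
  Lgr Lrot46 (Lpe (f87162 IH) (Lpr_ft (K3.f88504 IH) (Lpr_at (K3.f88507 IH) (Lpn (LP (LK LD1_c7 LD2_c13 LD3_c24))))))
theorem f15661 : Led Lsl_gt (LP (LK LD1_c3 LD2_c47 LD3_c33)) = (LP (LK LD1_c7 LD2_c35 LD3_c59)) :=
  Lre_g IH (LK LD1_c3 LD2_c47 LD3_c33) (LK LD1_c7 LD2_c35 LD3_c59) Lrfl Lrfl
theorem f145182 : Led Lsl_cf (LP (LK LD1_c3 LD2_c49 LD3_c4)) = (LP (LK LD1_c7 LD2_c35 LD3_c59)) :=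
  Lgr Lrot125 (Lpr_gt (f88514 IH) (Lpe (K3.f88522 IH) (Lpe (K3.f89781 IH) (Lpr_gt (K6.f145151 IH) (Lpe (K6.f57262 IH) (Lpe (K6.f145141 IH) (Lpr_gt (K8.f15651 IH) (Lpe (K11.f15659 IH) (Lpr_bt (K3.f15660 IH) (Lpr_gt (f15661 IH) (Lpn (LP (LK LD1_c7 LD2_c35 LD3_c59)))))))))))))
theorem f95023 : Led Lsl_et (LP (LK LD1_c3 LD2_c26 LD3_c26)) = (LP (LK LD1_c1 LD2_c39 LD3_c55)) :=
  Lre_e IH (LK LD1_c3 LD2_c26 LD3_c26) (LK LD1_c1 LD2_c39 LD3_c55) Lrfl Lrfl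
theorem f96597 : Led Lsl_bt (LP (LK LD1_c1 LD2_c39 LD3_c55)) = (LP (LK LD1_c1 LD2_c51 LD3_c42)) :=
  Lgr Lrot119 (Lpe (f95023 IH) (Lpr_bf (K28.f96588 IH) (Lpe (K28.f96534 IH) (Lpn (LP (LK LD1_c1 LD2_c51 LD3_c42))))))
theorem f145189 : Led Lsl_bf (LP (LK LD1_c3 LD2_c50 LD3_c47)) = (LP (LK LD1_c7 LD2_c35 LD3_c59)) :=
  Lgr Lrot156 (Lpr_gt (f97922 IH) (Lpe (K3.f97739 IH) (Lpr_ct (K6.f120948 IH) (Lpe (K5.f120946 IH) (Lpe (K6.f95129 IH) (Lpr_bt (f96597 IH) (Lpr_gt (K3.f87299 IH) (Lpr_ct (K3.f87933 IH) (Lpr_gt (f87162 IH) (Lpr_cf (f145182 IH) (Lpn (LP (LK LD1_c7 LD2_c35 LD3_c59)))))))))))))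
theorem f127423 : Led Lsl_bt (LP (LK LD1_c3 LD2_c14 LD3_c60)) = (LP (LK LD1_c3 LD2_c27 LD3_c1)) :=
  Lgr Lrot95 (Lpe (K5.f126563 IH) (Lpe (K5.f127317 IH) (Lpr_df (K5.f127421 IH) (Lpn (LP (LK LD1_c3 LD2_c27 LD3_c1))))))
theorem f145197 : Led Lsl_gf (LP (LK LD1_c3 LD2_c50 LD3_c47)) = (LP (LK LD1_c3 LD2_c27 LD3_c1)) :=
  Lgr Lrot124 (Lpr_bf (f145189 IH) (Lpe (f145182 IH) (Lpr_gt (f88514 IH) (Lpe (K3.f88522 IH) (Lpe (K3.f89781 IH) (Lpr_gt (K6.f145151 IH) (Lpe (K6.f145180 IH) (Lpr_gt (K5.f89823 IH) (Lpr_cf (K5.f126564 IH) (Lpr_bt (f127423 IH) (Lpn (LP (LK LD1_c3 LD2_c27 LD3_c1)))))))))))))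
theorem f501606 : Led Lsl_af (LP (LK LD1_c3 LD2_c50 LD3_c47)) = (LP (LK LD1_c3 LD2_c26 LD3_c61)) :=
  Lgr Lrot31 (Lpr_gf (f145197 IH) (Lpe (K6.f136359 IH) (Lpr_ft (f501598 IH) (Lpn (LP (LK LD1_c3 LD2_c26 LD3_c61))))))
theorem f501582 : Led Lsl_af (LP (LK LD1_c3 LD2_c50 LD3_c24)) = (LP (LK LD1_c3 LD2_c27 LD3_c0)) :=
  Lgr Lrot0 (Lpr_at (f501580 IH) (Lpn (LP (LK LD1_c3 LD2_c27 LD3_c0))))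
theorem f501614 : Led Lsl_ft (LP (LK LD1_c3 LD2_c50 LD3_c47)) = (LP (LK LD1_c3 LD2_c27 LD3_c0)) :=
  Lgr Lrot101 (Lpr_af (f501606 IH) (Lpe (f501598 IH) (Lpr_af (f501582 IH) (Lpn (LP (LK LD1_c3 LD2_c27 LD3_c0))))))
theorem f10237 : Led Lsl_gt (LP (LK LD1_c1 LD2_c43 LD3_c4)) = (LP (LK LD1_c3 LD2_c32 LD3_c45)) :=
  Lre_g IH (LK LD1_c1 LD2_c43 LD3_c4) (LK LD1_c3 LD2_c32 LD3_c45) Lrfl Lrfl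
theorem f10626 : Led Lsl_ct (LP (LK LD1_c7 LD2_c6 LD3_c21)) = (LP (LK LD1_c3 LD2_c32 LD3_c45)) :=
  Lre_c IH (LK LD1_c7 LD2_c6 LD3_c21) (LK LD1_c3 LD2_c32 LD3_c45) Lrfl Lrfl
theorem f96539 : Led Lsl_bt (LP (LK LD1_c7 LD2_c6 LD3_c21)) = (LP (LK LD1_c3 LD2_c49 LD3_c4)) :=
  Lgr Lrot130 (Lpr_ct (f10626 IH) (Lpe (f10237 IH) (Lpr_cf (K29.f10620 IH) (Lpr_bt (K3.f6410 IH) (Lpr_gf (K3.f10678 IH) (Lpe (K3.f6680 IH) (Lpr_ct (K3.f96468 IH) (Lpe (K3.f88589 IH) (Lpr_cf (K3.f88565 IH) (Lpe (f88514 IH) (Lpn (LP (LK LD1_c3 LD2_c49 LD3_c4)))))))))))))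
theorem f6389 : Led Lsl_at (LP (LK LD1_c1 LD2_c44 LD3_c61)) = (LP (LK LD1_c1 LD2_c43 LD3_c4)) :=
  Lgr Lrot80 (Lpe (f6387 IH) (Lpr_af (K29.f6366 IH) (Lpe (K29.f6388 IH) (Lpn (LP (LK LD1_c1 LD2_c43 LD3_c4))))))
theorem f10622 : Led Lsl_gt (LP (LK LD1_c3 LD2_c32 LD3_c45)) = (LP (LK LD1_c1 LD2_c43 LD3_c4)) :=
  Lgr Lrot46 (Lpe (f10237 IH) (Lpr_ft (K29.f10491 IH) (Lpr_at (f6389 IH) (Lpn (LP (LK LD1_c1 LD2_c43 LD3_c4))))))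
theorem f10241 : Led Lsl_bt (LP (LK LD1_c7 LD2_c6 LD3_c20)) = (LP (LK LD1_c3 LD2_c32 LD3_c45)) :=
  Lre_b IH (LK LD1_c7 LD2_c6 LD3_c20) (LK LD1_c3 LD2_c32 LD3_c45) Lrfl Lrfl
theorem f145201 : Led Lsl_cf (LP (LK LD1_c3 LD2_c50 LD3_c47)) = (LP (LK LD1_c7 LD2_c6 LD3_c20)) :=
  Lgr Lrot58 (Lpr_gf (f145197 IH) (Lpr_cf (K6.f97880 IH) (Lpr_bt (K3.f96557 IH) (Lpe (f88514 IH) (Lpe (f96539 IH) (Lpr_ct (f10626 IH) (Lpe (f10237 IH) (Lpr_cf (K29.f10620 IH) (Lpe (f10622 IH) (Lpe (f10241 IH) (Lpn (LP (LK LD1_c7 LD2_c6 LD3_c20)))))))))))))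
theorem f501618 : Led Lsl_ff (LP (LK LD1_c7 LD2_c6 LD3_c20)) = (LP (LK LD1_c6 LD2_c55 LD3_c55)) :=
  Lgr Lrot23 (Lpe (f145201 IH) (Lpr_ft (f501614 IH) (Lpr_ct (K3.f89713 IH) (Lpn (LP (LK LD1_c6 LD2_c55 LD3_c55))))))
theorem f501624 : Led Lsl_ft (LP (LK LD1_c7 LD2_c6 LD3_c20)) = (LP (LK LD1_c6 LD2_c55 LD3_c55)) :=
  Lgr Lrot48 (Lpr_ff (f501618 IH) (Lpn (LP (LK LD1_c6 LD2_c55 LD3_c55))))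
theorem f96556 : Led Lsl_bt (LP (LK LD1_c3 LD2_c32 LD3_c45)) = (LP (LK LD1_c7 LD2_c6 LD3_c20)) :=
  Lre_b IH (LK LD1_c3 LD2_c32 LD3_c45) (LK LD1_c7 LD2_c6 LD3_c20) Lrfl Lrfl
theorem f501628 : Led Lsl_ff (LP (LK LD1_c3 LD2_c32 LD3_c45)) = (LP (LK LD1_c3 LD2_c36 LD3_c17)) :=
  Lgr Lrot25 (Lpr_bt (f96556 IH) (Lpr_ft (f501624 IH) (Lpr_bt (K3.f96909 IH) (Lpn (LP (LK LD1_c3 LD2_c36 LD3_c17))))))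
theorem f501635 : Led Lsl_at (LP (LK LD1_c3 LD2_c32 LD3_c45)) = (LP (LK LD1_c3 LD2_c36 LD3_c17)) :=
  Lgr Lrot26 (Lpr_ff (f501628 IH) (Lpe (K3.f10671 IH) (Lpr_gt (K3.f10272 IH) (Lpn (LP (LK LD1_c3 LD2_c36 LD3_c17))))))
theorem f10627 : Led Lsl_et (LP (LK LD1_c7 LD2_c6 LD3_c23)) = (LP (LK LD1_c3 LD2_c32 LD3_c45)) :=
  Lre_e IH (LK LD1_c7 LD2_c6 LD3_c23) (LK LD1_c3 LD2_c32 LD3_c45) Lrfl Lrfl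
theorem f96924 : Led Lsl_et (LP (LK LD1_c3 LD2_c36 LD3_c17)) = (LP (LK LD1_c7 LD2_c12 LD3_c57)) :=
  Lre_e IH (LK LD1_c3 LD2_c36 LD3_c17) (LK LD1_c7 LD2_c12 LD3_c57) Lrfl Lrfl
theorem f501643 : Led Lsl_af (LP (LK LD1_c7 LD2_c6 LD3_c23)) = (LP (LK LD1_c7 LD2_c12 LD3_c57)) :=
  Lgr Lrot50 (Lpr_et (f10627 IH) (Lpr_at (f501635 IH) (Lpr_et (f96924 IH) (Lpn (LP (LK LD1_c7 LD2_c12 LD3_c57))))))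
theorem f96552 : Led Lsl_ct (LP (LK LD1_c7 LD2_c6 LD3_c23)) = (LP (LK LD1_c13 LD2_c27 LD3_c53)) :=
  Lre_c IH (LK LD1_c7 LD2_c6 LD3_c23) (LK LD1_c13 LD2_c27 LD3_c53) Lrfl Lrfl
theorem f96916 : Led Lsl_ct (LP (LK LD1_c13 LD2_c39 LD3_c25)) = (LP (LK LD1_c7 LD2_c12 LD3_c57)) :=
  Lre_c IH (LK LD1_c13 LD2_c39 LD3_c25) (LK LD1_c7 LD2_c12 LD3_c57) Lrfl Lrfl
theorem f501647 : Led Lsl_at (LP (LK LD1_c13 LD2_c27 LD3_c53)) = (LP (LK LD1_c13 LD2_c39 LD3_c25)) :=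
  Lgr Lrot107 (Lpe (f96552 IH) (Lpr_af (f501643 IH) (Lpe (f96916 IH) (Lpn (LP (LK LD1_c13 LD2_c39 LD3_c25))))))
theorem f501661 : Led Lsl_af (LP (LK LD1_c13 LD2_c27 LD3_c53)) = (LP (LK LD1_c13 LD2_c39 LD3_c25)) :=
  Lgr Lrot0 (Lpr_at (f501647 IH) (Lpn (LP (LK LD1_c13 LD2_c39 LD3_c25))))
theorem f96543 : Led Lsl_et (LP (LK LD1_c13 LD2_c27 LD3_c53)) = (LP (LK LD1_c7 LD2_c6 LD3_c21)) :=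
  Lre_e IH (LK LD1_c13 LD2_c27 LD3_c53) (LK LD1_c7 LD2_c6 LD3_c21) Lrfl Lrfl
theorem f96931 : Led Lsl_et (LP (LK LD1_c7 LD2_c12 LD3_c55)) = (LP (LK LD1_c13 LD2_c39 LD3_c25)) :=
  Lre_e IH (LK LD1_c7 LD2_c12 LD3_c55) (LK LD1_c13 LD2_c39 LD3_c25) Lrfl Lrfl
theorem f501663 : Led Lsl_at (LP (LK LD1_c7 LD2_c6 LD3_c21)) = (LP (LK LD1_c7 LD2_c12 LD3_c55)) :=
  Lgr Lrot80 (Lpe (f96543 IH) (Lpr_af (f501661 IH) (Lpe (f96931 IH) (Lpn (LP (LK LD1_c7 LD2_c12 LD3_c55))))))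
theorem f160586 : Led Lsl_cf (LP (LK LD1_c3 LD2_c42 LD3_c13)) = (LP (LK LD1_c3 LD2_c36 LD3_c36)) :=
  Lgr Lrot11 (Lpr_ct (K8.f159807 IH) (Lpn (LP (LK LD1_c3 LD2_c36 LD3_c36))))
theorem f96907 : Led Lsl_bt (LP (LK LD1_c7 LD2_c13 LD3_c22)) = (LP (LK LD1_c7 LD2_c12 LD3_c55)) :=
  Lgr Lrot127 (Lpr_bf (K3.f96866 IH) (Lpn (LP (LK LD1_c7 LD2_c12 LD3_c55))))
theorem f160585 : Led Lsl_bt (LP (LK LD1_c3 LD2_c36 LD3_c36)) = (LP (LK LD1_c7 LD2_c13 LD3_c30)) :=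
  Lre_b IH (LK LD1_c3 LD2_c36 LD3_c36) (LK LD1_c7 LD2_c13 LD3_c30) Lrfl Lrfl
theorem f160605 : Led Lsl_gf (LP (LK LD1_c7 LD2_c12 LD3_c55)) = (LP (LK LD1_c7 LD2_c13 LD3_c30)) :=
  Lgr Lrot124 (Lpe (f96907 IH) (Lpe (K3.f89697 IH) (Lpe (K8.f155692 IH) (Lpe (K6.f17479 IH) (Lpr_bt (K8.f155690 IH) (Lpr_gt (K8.f108028 IH) (Lpr_ct (K28.f108064 IH) (Lpr_gt (K8.f108089 IH) (Lpr_cf (f160586 IH) (Lpr_bt (f160585 IH) (Lpn (LP (LK LD1_c7 LD2_c13 LD3_c30)))))))))))))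
theorem f160002 : Led Lsl_bt (LP (LK LD1_c3 LD2_c36 LD3_c45)) = (LP (LK LD1_c3 LD2_c33 LD3_c4)) :=
  Lgr Lrot128 (Lpr_cf (K5.f17407 IH) (Lpe (K5.f127910 IH) (Lpe (K5.f129376 IH) (Lpr_bf (K8.f159998 IH) (Lpr_cf (K29.f11772 IH) (Lpn (LP (LK LD1_c3 LD2_c33 LD3_c4))))))))
theorem f425493 : Led Lsl_gf (LP (LK LD1_c3 LD2_c40 LD3_c7)) = (LP (LK LD1_c3 LD2_c42 LD3_c13)) :=
  Lgr Lrot129 (Lpe (K29.f425463 IH) (Lpr_bt (K29.f425473 IH) (Lpr_gt (K8.f162848 IH) (Lpe (K6.f17481 IH) (Lpe (K6.f96471 IH) (Lpr_gt (K5.f127906 IH) (Lpe (K5.f17413 IH) (Lpr_bt (f160002 IH) (Lpe (K8.f160475 IH) (Lpe (f160586 IH) (Lpn (LP (LK LD1_c3 LD2_c42 LD3_c13)))))))))))))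
theorem f425495 : Led Lsl_gf (LP (LK LD1_c7 LD2_c13 LD3_c30)) = (LP (LK LD1_c7 LD2_c12 LD3_c55)) :=
  Lgr Lrot124 (Lpe (f160585 IH) (Lpe (f160586 IH) (Lpe (f425493 IH) (Lpe (K29.f425463 IH) (Lpr_bt (K29.f425473 IH) (Lpr_gt (K8.f162848 IH) (Lpr_ct (K6.f96503 IH) (Lpe (K8.f157348 IH) (Lpr_cf (K3.f89697 IH) (Lpr_bt (f96907 IH) (Lpn (LP (LK LD1_c7 LD2_c12 LD3_c55)))))))))))))
theorem f501665 : Led Lsl_ff (LP (LK LD1_c7 LD2_c6 LD3_c21)) = (LP (LK LD1_c7 LD2_c12 LD3_c55)) :=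
  Lgr Lrot52 (Lpr_at (f501663 IH) (Lpr_gf (f160605 IH) (Lpr_gf (f425495 IH) (Lpn (LP (LK LD1_c7 LD2_c12 LD3_c55))))))
theorem f501667 : Led Lsl_ft (LP (LK LD1_c3 LD2_c49 LD3_c4)) = (LP (LK LD1_c7 LD2_c13 LD3_c22)) :=
  Lgr Lrot75 (Lpe (f96539 IH) (Lpr_ff (f501665 IH) (Lpe (f96907 IH) (Lpn (LP (LK LD1_c7 LD2_c13 LD3_c22))))))
theorem f501671 : Led Lsl_af (LP (LK LD1_c3 LD2_c49 LD3_c5)) = (LP (LK LD1_c7 LD2_c13 LD3_c22)) :=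
  Lgr Lrot31 (Lpr_gf (K3.f88608 IH) (Lpe (f88514 IH) (Lpr_ft (f501667 IH) (Lpn (LP (LK LD1_c7 LD2_c13 LD3_c22))))))
theorem f96541 : Led Lsl_bf (LP (LK LD1_c7 LD2_c6 LD3_c21)) = (LP (LK LD1_c3 LD2_c49 LD3_c4)) :=
  Lgr Lrot24 (Lpr_bt (f96539 IH) (Lpn (LP (LK LD1_c3 LD2_c49 LD3_c4))))
theorem f501675 : Led Lsl_at (LP (LK LD1_c7 LD2_c13 LD3_c23)) = (LP (LK LD1_c3 LD2_c49 LD3_c4)) :=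
  Lgr Lrot67 (Lpr_bf (K28.f136338 IH) (Lpr_af (f501671 IH) (Lpr_bf (K3.f96866 IH) (Lpe (f501663 IH) (Lpr_bf (f96541 IH) (Lpn (LP (LK LD1_c3 LD2_c49 LD3_c4))))))))
theorem f501681 : Led Lsl_ft (LP (LK LD1_c3 LD2_c49 LD3_c5)) = (LP (LK LD1_c7 LD2_c13 LD3_c23)) :=
  Lgr Lrot101 (Lpr_af (f501671 IH) (Lpe (f501667 IH) (Lpe (f501675 IH) (Lpn (LP (LK LD1_c7 LD2_c13 LD3_c23))))))
theorem f501685 : Led Lsl_ff (LP (LK LD1_c3 LD2_c49 LD3_c5)) = (LP (LK LD1_c7 LD2_c13 LD3_c23)) :=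
  Lgr Lrot3 (Lpr_ft (f501681 IH) (Lpn (LP (LK LD1_c7 LD2_c13 LD3_c23))))
theorem f501689 : Led Lsl_ft (LP (LK LD1_c7 LD2_c35 LD3_c21)) = (LP (LK LD1_c3 LD2_c50 LD3_c22)) :=
  Lgr Lrot4 (Lpe (K3.f110230 IH) (Lpr_ff (f501685 IH) (Lpe (K6.f96135 IH) (Lpn (LP (LK LD1_c3 LD2_c50 LD3_c22))))))
theorem f501695 : Led Lsl_af (LP (LK LD1_c7 LD2_c35 LD3_c59)) = (LP (LK LD1_c3 LD2_c50 LD3_c22)) :=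
  Lgr Lrot31 (Lpe (f15661 IH) (Lpe (K28.f136916 IH) (Lpr_ft (f501689 IH) (Lpn (LP (LK LD1_c3 LD2_c50 LD3_c22))))))
theorem f145231 : Led Lsl_et (LP (LK LD1_c7 LD2_c35 LD3_c59)) = (LP (LK LD1_c14 LD2_c19 LD3_c35)) :=
  Lre_e IH (LK LD1_c7 LD2_c35 LD3_c59) (LK LD1_c14 LD2_c19 LD3_c35) Lrfl Lrfl
theorem f501701 : Led Lsl_at (LP (LK LD1_c14 LD2_c19 LD3_c35)) = (LP (LK LD1_c7 LD2_c41 LD3_c51)) :=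
  Lgr Lrot80 (Lpe (f145231 IH) (Lpr_af (f501695 IH) (Lpe (K6.f96150 IH) (Lpn (LP (LK LD1_c7 LD2_c41 LD3_c51))))))
theorem f96544 : Led Lsl_et (LP (LK LD1_c3 LD2_c49 LD3_c4)) = (LP (LK LD1_c7 LD2_c39 LD3_c11)) :=
  Lre_e IH (LK LD1_c3 LD2_c49 LD3_c4) (LK LD1_c7 LD2_c39 LD3_c11) Lrfl Lrfl
theorem f145186 : Led Lsl_et (LP (LK LD1_c14 LD2_c19 LD3_c35)) = (LP (LK LD1_c7 LD2_c35 LD3_c59)) :=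
  Lre_e IH (LK LD1_c14 LD2_c19 LD3_c35) (LK LD1_c7 LD2_c35 LD3_c59) Lrfl Lrfl
theorem f145187 : Led Lsl_ct (LP (LK LD1_c7 LD2_c39 LD3_c11)) = (LP (LK LD1_c14 LD2_c19 LD3_c35)) :=
  Lgr Lrot15 (Lpe (f96544 IH) (Lpr_cf (f145182 IH) (Lpe (f145186 IH) (Lpn (LP (LK LD1_c14 LD2_c19 LD3_c35))))))
theorem f96155 : Led Lsl_ct (LP (LK LD1_c7 LD2_c41 LD3_c51)) = (LP (LK LD1_c13 LD2_c40 LD3_c25)) :=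
  Lgr Lrot59 (Lpr_cf (K6.f96152 IH) (Lpn (LP (LK LD1_c13 LD2_c40 LD3_c25))))
theorem f501705 : Led Lsl_af (LP (LK LD1_c7 LD2_c39 LD3_c11)) = (LP (LK LD1_c13 LD2_c40 LD3_c25)) :=
  Lgr Lrot68 (Lpr_ct (f145187 IH) (Lpr_at (f501701 IH) (Lpr_ct (f96155 IH) (Lpn (LP (LK LD1_c13 LD2_c40 LD3_c25))))))
theorem f96545 : Led Lsl_bf (LP (LK LD1_c13 LD2_c27 LD3_c53)) = (LP (LK LD1_c7 LD2_c39 LD3_c11)) :=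
  Lgr Lrot96 (Lpr_et (f96543 IH) (Lpr_bt (f96539 IH) (Lpr_et (f96544 IH) (Lpn (LP (LK LD1_c7 LD2_c39 LD3_c11))))))
theorem f89700 : Led Lsl_et (LP (LK LD1_c7 LD2_c13 LD3_c22)) = (LP (LK LD1_c13 LD2_c40 LD3_c24)) :=
  Lre_e IH (LK LD1_c7 LD2_c13 LD3_c22) (LK LD1_c13 LD2_c40 LD3_c24) Lrfl Lrfl
theorem f96911 : Led Lsl_et (LP (LK LD1_c13 LD2_c39 LD3_c25)) = (LP (LK LD1_c7 LD2_c12 LD3_c55)) :=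
  Lre_e IH (LK LD1_c13 LD2_c39 LD3_c25) (LK LD1_c7 LD2_c12 LD3_c55) Lrfl Lrfl
theorem f96912 : Led Lsl_bt (LP (LK LD1_c13 LD2_c40 LD3_c24)) = (LP (LK LD1_c13 LD2_c39 LD3_c25)) :=
  Lgr Lrot119 (Lpe (f89700 IH) (Lpr_bf (K3.f96866 IH) (Lpe (f96911 IH) (Lpn (LP (LK LD1_c13 LD2_c39 LD3_c25))))))
theorem f96914 : Led Lsl_bf (LP (LK LD1_c13 LD2_c40 LD3_c24)) = (LP (LK LD1_c13 LD2_c39 LD3_c25)) :=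
  Lgr Lrot24 (Lpr_bt (f96912 IH) (Lpn (LP (LK LD1_c13 LD2_c39 LD3_c25))))
theorem f501713 : Led Lsl_at (LP (LK LD1_c13 LD2_c40 LD3_c24)) = (LP (LK LD1_c7 LD2_c39 LD3_c12)) :=
  Lgr Lrot67 (Lpr_bf (f96914 IH) (Lpe (f501647 IH) (Lpr_bf (f96545 IH) (Lpr_af (f501705 IH) (Lpr_bf (K6.f136355 IH) (Lpn (LP (LK LD1_c7 LD2_c39 LD3_c12))))))))
theorem f89699 : Led Lsl_et (LP (LK LD1_c13 LD2_c9 LD3_c49)) = (LP (LK LD1_c6 LD2_c55 LD3_c54)) :=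
  Lre_e IH (LK LD1_c13 LD2_c9 LD3_c49) (LK LD1_c6 LD2_c55 LD3_c54) Lrfl Lrfl
theorem f89701 : Led Lsl_cf (LP (LK LD1_c13 LD2_c9 LD3_c49)) = (LP (LK LD1_c13 LD2_c40 LD3_c24)) :=
  Lgr Lrot39 (Lpr_et (f89699 IH) (Lpr_ct (K3.f89692 IH) (Lpr_et (f89700 IH) (Lpn (LP (LK LD1_c13 LD2_c40 LD3_c24))))))
theorem f89706 : Led Lsl_ct (LP (LK LD1_c13 LD2_c9 LD3_c49)) = (LP (LK LD1_c13 LD2_c40 LD3_c24)) :=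
  Lgr Lrot59 (Lpr_cf (f89701 IH) (Lpn (LP (LK LD1_c13 LD2_c40 LD3_c24))))
theorem f501715 : Led Lsl_af (LP (LK LD1_c13 LD2_c9 LD3_c49)) = (LP (LK LD1_c14 LD2_c18 LD3_c31)) :=
  Lgr Lrot68 (Lpr_ct (f89706 IH) (Lpr_at (f501713 IH) (Lpr_ct (K6.f110233 IH) (Lpn (LP (LK LD1_c14 LD2_c18 LD3_c31))))))
theorem f109438 : Led Lsl_et (LP (LK LD1_c7 LD2_c35 LD3_c21)) = (LP (LK LD1_c14 LD2_c18 LD3_c31)) :=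
  Lre_e IH (LK LD1_c7 LD2_c35 LD3_c21) (LK LD1_c14 LD2_c18 LD3_c31) Lrfl Lrfl
theorem f501723 : Led Lsl_at (LP (LK LD1_c6 LD2_c55 LD3_c54)) = (LP (LK LD1_c7 LD2_c35 LD3_c21)) :=
  Lgr Lrot80 (Lpe (f89699 IH) (Lpr_af (f501715 IH) (Lpe (f109438 IH) (Lpn (LP (LK LD1_c7 LD2_c35 LD3_c21))))))
theorem f428990 : Led Lsl_cf (LP (LK LD1_c12 LD2_c33 LD3_c7)) = (LP (LK LD1_c9 LD2_c23 LD3_c53)) :=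
  Lgr Lrot11 (Lpr_ct (f428987 IH) (Lpn (LP (LK LD1_c9 LD2_c23 LD3_c53))))
theorem f429000 : Led Lsl_dt (LP (LK LD1_c12 LD2_c33 LD3_c7)) = (LP (LK LD1_c6 LD2_c55 LD3_c54)) :=
  Lgr Lrot27 (Lpr_cf (f428990 IH) (Lpe (f135987 IH) (Lpr_cf (K6.f135968 IH) (Lpr_gf (K28.f120290 IH) (Lpe (K34.f158519 IH) (Lpe (K3.f96767 IH) (Lpr_ct (K3.f88485 IH) (Lpr_gt (K3.f88498 IH) (Lpe (K3.f89697 IH) (Lpn (LP (LK LD1_c6 LD2_c55 LD3_c54))))))))))))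
theorem f501727 : Led Lsl_af (LP (LK LD1_c12 LD2_c33 LD3_c7)) = (LP (LK LD1_c9 LD2_c30 LD3_c10)) :=
  Lgr Lrot117 (Lpr_dt (f429000 IH) (Lpr_at (f501723 IH) (Lpe (K8.f109432 IH) (Lpn (LP (LK LD1_c9 LD2_c30 LD3_c10))))))
theorem f501731 : Led Lsl_at (LP (LK LD1_c3 LD2_c50 LD3_c25)) = (LP (LK LD1_c4 LD2_c48 LD3_c51)) :=
  Lgr Lrot67 (Lpe (K32.f66381 IH) (Lpr_af (f501574 IH) (Lpe (f428972 IH) (Lpr_af (f501727 IH) (Lpe (K3.f109398 IH) (Lpn (LP (LK LD1_c4 LD2_c48 LD3_c51))))))))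
theorem f76161 : Led Lsl_at (LP (LK LD1_c6 LD2_c0 LD3_c1)) = (LP (LK LD1_c2 LD2_c56 LD3_c21)) :=
  Lre_a IH (LK LD1_c6 LD2_c0 LD3_c1) (LK LD1_c2 LD2_c56 LD3_c21) Lrfl Lrfl
theorem f137170 : Led Lsl_ft (LP (LK LD1_c3 LD2_c50 LD3_c25)) = (LP (LK LD1_c6 LD2_c0 LD3_c1)) :=
  Lgr Lrot2 (Lpr_gt (K32.f137168 IH) (Lpe (K6.f135942 IH) (Lpe (f76161 IH) (Lpn (LP (LK LD1_c6 LD2_c0 LD3_c1))))))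
theorem f137181 : Led Lsl_ff (LP (LK LD1_c3 LD2_c50 LD3_c25)) = (LP (LK LD1_c6 LD2_c0 LD3_c1)) :=
  Lgr Lrot3 (Lpr_ft (f137170 IH) (Lpn (LP (LK LD1_c6 LD2_c0 LD3_c1))))
theorem f501741 : Led Lsl_gt (LP (LK LD1_c6 LD2_c0 LD3_c1)) = (LP (LK LD1_c3 LD2_c29 LD3_c60)) :=
  Lgr Lrot5 (Lpe (f137181 IH) (Lpr_at (f501731 IH) (Lpr_gf (K3.f109912 IH) (Lpn (LP (LK LD1_c3 LD2_c29 LD3_c60))))))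
theorem f92359 : Led Lsl_ct (LP (LK LD1_c7 LD2_c31 LD3_c55)) = (LP (LK LD1_c14 LD2_c12 LD3_c22)) :=
  Lre_c IH (LK LD1_c7 LD2_c31 LD3_c55) (LK LD1_c14 LD2_c12 LD3_c22) Lrfl Lrfl
theorem f103524 : Led Lsl_gt (LP (LK LD1_c6 LD2_c32 LD3_c54)) = (LP (LK LD1_c3 LD2_c14 LD3_c42)) :=
  Lre_g IH (LK LD1_c6 LD2_c32 LD3_c54) (LK LD1_c3 LD2_c14 LD3_c42) Lrfl Lrfl
theorem f136504 : Led Lsl_dt (LP (LK LD1_c3 LD2_c26 LD3_c61)) = (LP (LK LD1_c6 LD2_c32 LD3_c54)) :=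
  Lgr Lrot6 (Lpr_gt (K6.f136502 IH) (Lpe (K6.f97866 IH) (Lpr_gt (K5.f127900 IH) (Lpr_ct (K5.f17413 IH) (Lpe (K5.f93026 IH) (Lpe (K5.f127666 IH) (Lpe (K5.f95271 IH) (Lpe (K5.f107392 IH) (Lpe (f103524 IH) (Lpn (LP (LK LD1_c6 LD2_c32 LD3_c54))))))))))))
theorem f98913 : Led Lsl_bt (LP (LK LD1_c2 LD2_c21 LD3_c17)) = (LP (LK LD1_c1 LD2_c7 LD3_c55)) :=
  Lre_b IH (LK LD1_c2 LD2_c21 LD3_c17) (LK LD1_c1 LD2_c7 LD3_c55) Lrfl Lrfl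
theorem f40539 : Led Lsl_bt (LP (LK LD1_c9 LD2_c48 LD3_c54)) = (LP (LK LD1_c4 LD2_c59 LD3_c15)) :=
  Lre_b IH (LK LD1_c9 LD2_c48 LD3_c54) (LK LD1_c4 LD2_c59 LD3_c15) Lrfl Lrfl
theorem f136842 : Led Lsl_cf (LP (LK LD1_c9 LD2_c48 LD3_c54)) = (LP (LK LD1_c6 LD2_c32 LD3_c54)) :=
  Lgr Lrot89 (Lpr_bt (f40539 IH) (Lpr_gt (K4.f26410 IH) (Lpr_dt (K4.f26421 IH) (Lpr_ct (K4.f98914 IH) (Lpr_bt (f98913 IH) (Lpr_gt (K3.f78058 IH) (Lpe (K3.f98883 IH) (Lpr_ct (K3.f98840 IH) (Lpe (K4.f104135 IH) (Lpe (K5.f128328 IH) (Lpr_dt (K5.f124836 IH) (Lpe (K5.f124859 IH) (Lpr_bt (K5.f124861 IH) (Lpe (K5.f124875 IH) (Lpe (K2.f88644 IH) (Lpe (K2.f90056 IH) (Lpr_bt (K3.f89703 IH) (Lpr_gt (K6.f89719 IH) (Lpr_dt (f136504 IH) (Lpn (LP (LK LD1_c6 LD2_c32 LD3_c54))))))))))))))))))))))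
theorem f136847 : Led Lsl_ct (LP (LK LD1_c9 LD2_c48 LD3_c54)) = (LP (LK LD1_c6 LD2_c32 LD3_c54)) :=
  Lgr Lrot59 (Lpr_cf (f136842 IH) (Lpn (LP (LK LD1_c6 LD2_c32 LD3_c54))))
theorem f92930 : Led Lsl_dt (LP (LK LD1_c3 LD2_c45 LD3_c59)) = (LP (LK LD1_c1 LD2_c51 LD3_c12)) :=
  Lgr Lrot79 (Lpe (K5.f92929 IH) (Lpr_df (K5.f92754 IH) (Lpe (K4.f17409 IH) (Lpn (LP (LK LD1_c1 LD2_c51 LD3_c12))))))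
theorem f136914 : Led Lsl_gf (LP (LK LD1_c9 LD2_c48 LD3_c54)) = (LP (LK LD1_c14 LD2_c12 LD3_c22)) :=
  Lgr Lrot104 (Lpr_ct (f136847 IH) (Lpe (f136504 IH) (Lpe (K6.f96942 IH) (Lpr_gf (K28.f136912 IH) (Lpr_cf (K8.f96779 IH) (Lpe (K3.f17317 IH) (Lpe (f92930 IH) (Lpe (K7.f136760 IH) (Lpr_ct (f92359 IH) (Lpn (LP (LK LD1_c14 LD2_c12 LD3_c22))))))))))))
theorem f501753 : Led Lsl_bf (LP (LK LD1_c6 LD2_c0 LD3_c1)) = (LP (LK LD1_c6 LD2_c32 LD3_c54)) :=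
  Lgr Lrot165 (Lpr_gt (f501741 IH) (Lpe (K3.f109929 IH) (Lpr_gt (K6.f146462 IH) (Lpe (K6.f135840 IH) (Lpr_bt (K6.f57449 IH) (Lpe (K7.f135843 IH) (Lpr_bf (K32.f156673 IH) (Lpr_ct (f92359 IH) (Lpe (f136914 IH) (Lpr_cf (f136842 IH) (Lpn (LP (LK LD1_c6 LD2_c32 LD3_c54)))))))))))))
theorem f137180 : Led Lsl_et (LP (LK LD1_c6 LD2_c0 LD3_c1)) = (LP (LK LD1_c11 LD2_c44 LD3_c31)) :=
  Lre_e IH (LK LD1_c6 LD2_c0 LD3_c1) (LK LD1_c11 LD2_c44 LD3_c31) Lrfl Lrfl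
theorem f120466 : Led Lsl_et (LP (LK LD1_c12 LD2_c33 LD3_c8)) = (LP (LK LD1_c6 LD2_c32 LD3_c54)) :=
  Lre_e IH (LK LD1_c12 LD2_c33 LD3_c8) (LK LD1_c6 LD2_c32 LD3_c54) Lrfl Lrfl
theorem f501812 : Led Lsl_bt (LP (LK LD1_c11 LD2_c44 LD3_c31)) = (LP (LK LD1_c12 LD2_c33 LD3_c8)) :=
  Lgr Lrot119 (Lpe (f137180 IH) (Lpr_bf (f501753 IH) (Lpe (f120466 IH) (Lpn (LP (LK LD1_c12 LD2_c33 LD3_c8))))))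
theorem f501814 : Led Lsl_at (LP (LK LD1_c6 LD2_c0 LD3_c4)) = (LP (LK LD1_c11 LD2_c44 LD3_c31)) :=
  Lre_a IH (LK LD1_c6 LD2_c0 LD3_c4) (LK LD1_c11 LD2_c44 LD3_c31) Lrfl Lrfl
theorem f501815 : Led Lsl_bt (LP (LK LD1_c11 LD2_c44 LD3_c37)) = (LP (LK LD1_c6 LD2_c0 LD3_c4)) :=
  Lre_b IH (LK LD1_c11 LD2_c44 LD3_c37) (LK LD1_c6 LD2_c0 LD3_c4) Lrfl Lrfl
theorem f501816 : Led Lsl_at (LP (LK LD1_c20 LD2_c45 LD3_c58)) = (LP (LK LD1_c11 LD2_c44 LD3_c37)) :=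
  Lre_a IH (LK LD1_c20 LD2_c45 LD3_c58) (LK LD1_c11 LD2_c44 LD3_c37) Lrfl Lrfl
theorem f145203 : Led Lsl_et (LP (LK LD1_c7 LD2_c42 LD3_c40)) = (LP (LK LD1_c14 LD2_c32 LD3_c9)) :=
  Lre_e IH (LK LD1_c7 LD2_c42 LD3_c40) (LK LD1_c14 LD2_c32 LD3_c9) Lrfl Lrfl
theorem f428999 : Led Lsl_et (LP (LK LD1_c20 LD2_c45 LD3_c58)) = (LP (LK LD1_c11 LD2_c44 LD3_c36)) :=
  Lre_e IH (LK LD1_c20 LD2_c45 LD3_c58) (LK LD1_c11 LD2_c44 LD3_c36) Lrfl Lrfl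
theorem f501565 : Led Lsl_bt (LP (LK LD1_c14 LD2_c32 LD3_c9)) = (LP (LK LD1_c20 LD2_c45 LD3_c58)) :=
  Lgr Lrot119 (Lpe (f145203 IH) (Lpr_bf (f501563 IH) (Lpe (f428999 IH) (Lpn (LP (LK LD1_c20 LD2_c45 LD3_c58))))))
theorem f501817 : Led Lsl_af (LP (LK LD1_c14 LD2_c32 LD3_c9)) = (LP (LK LD1_c12 LD2_c33 LD3_c8)) :=
  Lgr Lrot36 (Lpr_bt (f501565 IH) (Lpr_at (f501816 IH) (Lpr_bt (f501815 IH) (Lpr_at (f501814 IH) (Lpr_bt (f501812 IH) (Lpn (LP (LK LD1_c12 LD2_c33 LD3_c8))))))))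
theorem f97930 : Led Lsl_dt (LP (LK LD1_c14 LD2_c32 LD3_c9)) = (LP (LK LD1_c24 LD2_c14 LD3_c19)) :=
  Lre_d IH (LK LD1_c14 LD2_c32 LD3_c9) (LK LD1_c24 LD2_c14 LD3_c19) Lrfl Lrfl
theorem f136837 : Led Lsl_dt (LP (LK LD1_c21 LD2_c39 LD3_c6)) = (LP (LK LD1_c12 LD2_c33 LD3_c8)) :=
  Lre_d IH (LK LD1_c21 LD2_c39 LD3_c6) (LK LD1_c12 LD2_c33 LD3_c8) Lrfl Lrfl
theorem f501829 : Led Lsl_at (LP (LK LD1_c24 LD2_c14 LD3_c19)) = (LP (LK LD1_c21 LD2_c39 LD3_c6)) :=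
  Lgr Lrot51 (Lpe (f97930 IH) (Lpr_af (f501817 IH) (Lpe (f136837 IH) (Lpn (LP (LK LD1_c21 LD2_c39 LD3_c6))))))
theorem f145241 : Led Lsl_et (LP (LK LD1_c14 LD2_c32 LD3_c11)) = (LP (LK LD1_c24 LD2_c14 LD3_c19)) :=
  Lre_e IH (LK LD1_c14 LD2_c32 LD3_c11) (LK LD1_c24 LD2_c14 LD3_c19) Lrfl Lrfl
theorem f136506 : Led Lsl_df (LP (LK LD1_c3 LD2_c26 LD3_c61)) = (LP (LK LD1_c6 LD2_c32 LD3_c54)) :=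
  Lgr Lrot155 (Lpr_gt (K6.f136502 IH) (Lpe (K6.f97866 IH) (Lpr_gt (K5.f127900 IH) (Lpr_ct (K5.f17413 IH) (Lpe (K5.f93033 IH) (Lpe (K5.f127666 IH) (Lpe (K5.f95271 IH) (Lpe (K5.f107392 IH) (Lpe (f103524 IH) (Lpn (LP (LK LD1_c6 LD2_c32 LD3_c54))))))))))))
theorem f136478 : Led Lsl_et (LP (LK LD1_c3 LD2_c26 LD3_c61)) = (LP (LK LD1_c6 LD2_c55 LD3_c53)) :=
  Lre_e IH (LK LD1_c3 LD2_c26 LD3_c61) (LK LD1_c6 LD2_c55 LD3_c53) Lrfl Lrfl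
theorem f136492 : Led Lsl_dt (LP (LK LD1_c6 LD2_c55 LD3_c53)) = (LP (LK LD1_c13 LD2_c9 LD3_c48)) :=
  Lre_d IH (LK LD1_c6 LD2_c55 LD3_c53) (LK LD1_c13 LD2_c9 LD3_c48) Lrfl Lrfl
theorem f136838 : Led Lsl_et (LP (LK LD1_c13 LD2_c9 LD3_c48)) = (LP (LK LD1_c21 LD2_c39 LD3_c6)) :=
  Lgr Lrot71 (Lpe (f136492 IH) (Lpe (f136478 IH) (Lpr_df (f136506 IH) (Lpe (f120466 IH) (Lpe (f136837 IH) (Lpn (LP (LK LD1_c21 LD2_c39 LD3_c6))))))))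
theorem f136840 : Led Lsl_ef (LP (LK LD1_c13 LD2_c9 LD3_c48)) = (LP (LK LD1_c21 LD2_c39 LD3_c6)) :=
  Lgr Lrot88 (Lpr_et (f136838 IH) (Lpn (LP (LK LD1_c21 LD2_c39 LD3_c6))))
theorem f501834 : Led Lsl_af (LP (LK LD1_c14 LD2_c32 LD3_c11)) = (LP (LK LD1_c13 LD2_c9 LD3_c48)) :=
  Lgr Lrot50 (Lpr_et (f145241 IH) (Lpr_at (f501829 IH) (Lpe (f136840 IH) (Lpn (LP (LK LD1_c13 LD2_c9 LD3_c48))))))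
theorem f97931 : Led Lsl_et (LP (LK LD1_c3 LD2_c50 LD3_c47)) = (LP (LK LD1_c7 LD2_c42 LD3_c41)) :=
  Lre_e IH (LK LD1_c3 LD2_c50 LD3_c47) (LK LD1_c7 LD2_c42 LD3_c41) Lrfl Lrfl
theorem f145208 : Led Lsl_et (LP (LK LD1_c13 LD2_c27 LD3_c52)) = (LP (LK LD1_c7 LD2_c6 LD3_c20)) :=
  Lre_e IH (LK LD1_c13 LD2_c27 LD3_c52) (LK LD1_c7 LD2_c6 LD3_c20) Lrfl Lrfl
theorem f145209 : Led Lsl_ct (LP (LK LD1_c7 LD2_c42 LD3_c41)) = (LP (LK LD1_c13 LD2_c27 LD3_c52)) :=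
  Lgr Lrot15 (Lpe (f97931 IH) (Lpr_cf (f145201 IH) (Lpe (f145208 IH) (Lpn (LP (LK LD1_c13 LD2_c27 LD3_c52))))))
theorem f96553 : Led Lsl_bt (LP (LK LD1_c13 LD2_c27 LD3_c52)) = (LP (LK LD1_c7 LD2_c6 LD3_c23)) :=
  Lre_b IH (LK LD1_c13 LD2_c27 LD3_c52) (LK LD1_c7 LD2_c6 LD3_c23) Lrfl Lrfl
theorem f96547 : Led Lsl_bt (LP (LK LD1_c13 LD2_c27 LD3_c53)) = (LP (LK LD1_c7 LD2_c39 LD3_c11)) :=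
  Lgr Lrot127 (Lpr_bf (f96545 IH) (Lpn (LP (LK LD1_c7 LD2_c39 LD3_c11))))
theorem f145211 : Led Lsl_bf (LP (LK LD1_c7 LD2_c42 LD3_c41)) = (LP (LK LD1_c14 LD2_c19 LD3_c35)) :=
  Lgr Lrot90 (Lpr_ct (f145209 IH) (Lpr_bt (f96553 IH) (Lpr_ct (f96552 IH) (Lpr_bt (f96547 IH) (Lpr_ct (f145187 IH) (Lpn (LP (LK LD1_c14 LD2_c19 LD3_c35))))))))
theorem f145205 : Led Lsl_dt (LP (LK LD1_c7 LD2_c42 LD3_c41)) = (LP (LK LD1_c14 LD2_c32 LD3_c11)) :=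
  Lre_d IH (LK LD1_c7 LD2_c42 LD3_c41) (LK LD1_c14 LD2_c32 LD3_c11) Lrfl Lrfl
theorem f145228 : Led Lsl_dt (LP (LK LD1_c23 LD2_c57 LD3_c34)) = (LP (LK LD1_c14 LD2_c19 LD3_c35)) :=
  Lre_d IH (LK LD1_c23 LD2_c57 LD3_c34) (LK LD1_c14 LD2_c19 LD3_c35) Lrfl Lrfl
theorem f145233 : Led Lsl_bt (LP (LK LD1_c14 LD2_c32 LD3_c11)) = (LP (LK LD1_c23 LD2_c57 LD3_c34)) :=
  Lgr Lrot95 (Lpe (f145205 IH) (Lpr_bf (f145211 IH) (Lpe (f145228 IH) (Lpn (LP (LK LD1_c23 LD2_c57 LD3_c34))))))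
theorem f501707 : Led Lsl_af (LP (LK LD1_c23 LD2_c57 LD3_c34)) = (LP (LK LD1_c14 LD2_c30 LD3_c36)) :=
  Lgr Lrot117 (Lpr_dt (f145228 IH) (Lpr_at (f501701 IH) (Lpr_dt (K8.f96157 IH) (Lpn (LP (LK LD1_c14 LD2_c30 LD3_c36))))))
theorem f501709 : Led Lsl_at (LP (LK LD1_c23 LD2_c57 LD3_c34)) = (LP (LK LD1_c14 LD2_c30 LD3_c36)) :=
  Lgr Lrot100 (Lpr_af (f501707 IH) (Lpn (LP (LK LD1_c14 LD2_c30 LD3_c36))))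
theorem f137198 : Led Lsl_bt (LP (LK LD1_c14 LD2_c30 LD3_c36)) = (LP (LK LD1_c7 LD2_c41 LD3_c52)) :=
  Lre_b IH (LK LD1_c14 LD2_c30 LD3_c36) (LK LD1_c7 LD2_c41 LD3_c52) Lrfl Lrfl
theorem f112949 : Led Lsl_et (LP (LK LD1_c7 LD2_c35 LD3_c23)) = (LP (LK LD1_c3 LD2_c47 LD3_c16)) :=
  Lre_e IH (LK LD1_c7 LD2_c35 LD3_c23) (LK LD1_c3 LD2_c47 LD3_c16) Lrfl Lrfl
theorem f136479 : Led Lsl_bt (LP (LK LD1_c6 LD2_c55 LD3_c53)) = (LP (LK LD1_c7 LD2_c35 LD3_c23)) :=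
  Lgr Lrot119 (Lpe (f136478 IH) (Lpr_bf (K6.f136472 IH) (Lpe (f112949 IH) (Lpn (LP (LK LD1_c7 LD2_c35 LD3_c23))))))
theorem f136486 : Led Lsl_dt (LP (LK LD1_c13 LD2_c9 LD3_c48)) = (LP (LK LD1_c6 LD2_c55 LD3_c53)) :=
  Lre_d IH (LK LD1_c13 LD2_c9 LD3_c48) (LK LD1_c6 LD2_c55 LD3_c53) Lrfl Lrfl
theorem f112950 : Led Lsl_dt (LP (LK LD1_c7 LD2_c35 LD3_c23)) = (LP (LK LD1_c14 LD2_c18 LD3_c33)) :=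
  Lre_d IH (LK LD1_c7 LD2_c35 LD3_c23) (LK LD1_c14 LD2_c18 LD3_c33) Lrfl Lrfl
theorem f136487 : Led Lsl_bf (LP (LK LD1_c13 LD2_c9 LD3_c48)) = (LP (LK LD1_c14 LD2_c18 LD3_c33)) :=
  Lgr Lrot93 (Lpr_dt (f136486 IH) (Lpr_bt (f136479 IH) (Lpr_dt (f112950 IH) (Lpn (LP (LK LD1_c14 LD2_c18 LD3_c33))))))
theorem f501838 : Led Lsl_at (LP (LK LD1_c7 LD2_c41 LD3_c52)) = (LP (LK LD1_c14 LD2_c18 LD3_c33)) :=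
  Lgr Lrot67 (Lpe (f137198 IH) (Lpe (f501709 IH) (Lpe (f145233 IH) (Lpr_af (f501834 IH) (Lpr_bf (f136487 IH) (Lpn (LP (LK LD1_c14 LD2_c18 LD3_c33))))))))
theorem f136460 : Led Lsl_dt (LP (LK LD1_c14 LD2_c18 LD3_c33)) = (LP (LK LD1_c7 LD2_c35 LD3_c23)) :=
  Lre_d IH (LK LD1_c14 LD2_c18 LD3_c33) (LK LD1_c7 LD2_c35 LD3_c23) Lrfl Lrfl
theorem f501842 : Led Lsl_af (LP (LK LD1_c3 LD2_c50 LD3_c23)) = (LP (LK LD1_c7 LD2_c35 LD3_c23)) :=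
  Lgr Lrot117 (Lpr_dt (K8.f136351 IH) (Lpr_at (f501838 IH) (Lpr_dt (f136460 IH) (Lpn (LP (LK LD1_c7 LD2_c35 LD3_c23))))))
theorem f136451 : Led Lsl_et (LP (LK LD1_c3 LD2_c47 LD3_c16)) = (LP (LK LD1_c7 LD2_c35 LD3_c23)) :=
  Lre_e IH (LK LD1_c3 LD2_c47 LD3_c16) (LK LD1_c7 LD2_c35 LD3_c23) Lrfl Lrfl
theorem f501848 : Led Lsl_at (LP (LK LD1_c1 LD2_c52 LD3_c6)) = (LP (LK LD1_c3 LD2_c47 LD3_c16)) :=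
  Lgr Lrot80 (Lpe (K6.f136342 IH) (Lpr_af (f501842 IH) (Lpe (f136451 IH) (Lpn (LP (LK LD1_c3 LD2_c47 LD3_c16))))))
theorem f501600 : Led Lsl_ff (LP (LK LD1_c1 LD2_c52 LD3_c7)) = (LP (LK LD1_c3 LD2_c47 LD3_c16)) :=
  Lgr Lrot25 (Lpr_bt (K6.f136392 IH) (Lpr_ft (f501598 IH) (Lpr_bt (K28.f136474 IH) (Lpn (LP (LK LD1_c3 LD2_c47 LD3_c16))))))
theorem f501850 : Led Lsl_af (LP (LK LD1_c3 LD2_c47 LD3_c15)) = (LP (LK LD1_c1 LD2_c52 LD3_c7)) :=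
  Lgr Lrot68 (Lpe (K6.f136340 IH) (Lpr_at (f501848 IH) (Lpe (K6.f136448 IH) (Lpn (LP (LK LD1_c1 LD2_c52 LD3_c7))))))
theorem f501852 : Led Lsl_ff (LP (LK LD1_c1 LD2_c52 LD3_c6)) = (LP (LK LD1_c3 LD2_c47 LD3_c15)) :=
  Lgr Lrot30 (Lpr_at (f501848 IH) (Lpe (f501600 IH) (Lpe (f501850 IH) (Lpn (LP (LK LD1_c3 LD2_c47 LD3_c15))))))
theorem f425864 : Led Lsl_cf (LP (LK LD1_c3 LD2_c0 LD3_c32)) = (LP (LK LD1_c2 LD2_c49 LD3_c53)) :=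
  Lgr Lrot11 (Lpr_ct (K32.f425862 IH) (Lpn (LP (LK LD1_c2 LD2_c49 LD3_c53))))
theorem f64344 : Led Lsl_dt (LP (LK LD1_c3 LD2_c50 LD3_c25)) = (LP (LK LD1_c1 LD2_c52 LD3_c7)) :=
  Lre_d IH (LK LD1_c3 LD2_c50 LD3_c25) (LK LD1_c1 LD2_c52 LD3_c7) Lrfl Lrfl
theorem f136304 : Led Lsl_at (LP (LK LD1_c2 LD2_c22 LD3_c18)) = (LP (LK LD1_c4 LD2_c48 LD3_c50)) :=
  Lre_a IH (LK LD1_c2 LD2_c22 LD3_c18) (LK LD1_c4 LD2_c48 LD3_c50) Lrfl Lrfl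
theorem f501735 : Led Lsl_cf (LP (LK LD1_c3 LD2_c50 LD3_c25)) = (LP (LK LD1_c4 LD2_c48 LD3_c50)) :=
  Lgr Lrot1 (Lpr_at (f501731 IH) (Lpr_ct (K3.f26573 IH) (Lpr_at (f136304 IH) (Lpn (LP (LK LD1_c4 LD2_c48 LD3_c50))))))
theorem f501854 : Led Lsl_dt (LP (LK LD1_c3 LD2_c0 LD3_c32)) = (LP (LK LD1_c4 LD2_c48 LD3_c50)) :=
  Lgr Lrot140 (Lpr_cf (f425864 IH) (Lpe (K32.f136275 IH) (Lpe (K3.f26573 IH) (Lpr_df (K3.f109396 IH) (Lpe (f501852 IH) (Lpr_at (f501848 IH) (Lpe (K6.f136444 IH) (Lpe (f64344 IH) (Lpr_cf (f501735 IH) (Lpn (LP (LK LD1_c4 LD2_c48 LD3_c50))))))))))))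
theorem f501868 : Led Lsl_ct (LP (LK LD1_c3 LD2_c50 LD3_c25)) = (LP (LK LD1_c4 LD2_c48 LD3_c50)) :=
  Lgr Lrot7 (Lpe (K32.f64345 IH) (Lpr_gf (K6.f136508 IH) (Lpe (K5.f117226 IH) (Lpr_gf (K28.f426586 IH) (Lpe (K32.f426578 IH) (Lpe (K34.f427198 IH) (Lpr_dt (K5.f112202 IH) (Lpe (K32.f425866 IH) (Lpr_dt (f501854 IH) (Lpn (LP (LK LD1_c4 LD2_c48 LD3_c50))))))))))))
theorem f22485 : Led Lsl_ct (LP (LK LD1_c0 LD2_c38 LD3_c8)) = (LP (LK LD1_c1 LD2_c22 LD3_c18)) :=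
  Lre_c IH (LK LD1_c0 LD2_c38 LD3_c8) (LK LD1_c1 LD2_c22 LD3_c18) Lrfl Lrfl
theorem f22486 : Led Lsl_bf (LP (LK LD1_c0 LD2_c43 LD3_c24)) = (LP (LK LD1_c1 LD2_c22 LD3_c18)) :=
  Lgr Lrot90 (Lpr_ct (K8.f22483 IH) (Lpr_bt (K5.f22482 IH) (Lpr_ct (K1.f22456 IH) (Lpr_bt (K7.f22484 IH) (Lpr_ct (f22485 IH) (Lpn (LP (LK LD1_c1 LD2_c22 LD3_c18))))))))
theorem f22816 : Led Lsl_dt (LP (LK LD1_c0 LD2_c16 LD3_c61)) = (LP (LK LD1_c0 LD2_c38 LD3_c8)) :=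
  Lre_d IH (LK LD1_c0 LD2_c16 LD3_c61) (LK LD1_c0 LD2_c38 LD3_c8) Lrfl Lrfl
theorem f20243 : Led Lsl_bt (LP (LK LD1_c1 LD2_c26 LD3_c2)) = (LP (LK LD1_c3 LD2_c0 LD3_c32)) :=
  Lre_b IH (LK LD1_c1 LD2_c26 LD3_c2) (LK LD1_c3 LD2_c0 LD3_c32) Lrfl Lrfl
theorem f75848 : Led Lsl_at (LP (LK LD1_c1 LD2_c23 LD3_c61)) = (LP (LK LD1_c2 LD2_c56 LD3_c8)) :=
  Lre_a IH (LK LD1_c1 LD2_c23 LD3_c61) (LK LD1_c2 LD2_c56 LD3_c8) Lrfl Lrfl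
theorem f501361 : Led Lsl_df (LP (LK LD1_c1 LD2_c26 LD3_c2)) = (LP (LK LD1_c2 LD2_c56 LD3_c8)) :=
  Lgr Lrot18 (Lpr_at (K32.f501357 IH) (Lpe (K32.f75841 IH) (Lpr_at (f75848 IH) (Lpn (LP (LK LD1_c2 LD2_c56 LD3_c8))))))
theorem f501856 : Led Lsl_bf (LP (LK LD1_c2 LD2_c56 LD3_c8)) = (LP (LK LD1_c4 LD2_c48 LD3_c50)) :=
  Lgr Lrot93 (Lpe (f501361 IH) (Lpr_bt (f20243 IH) (Lpr_dt (f501854 IH) (Lpn (LP (LK LD1_c4 LD2_c48 LD3_c50))))))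
theorem f501880 : Led Lsl_gf (LP (LK LD1_c2 LD2_c55 LD3_c14)) = (LP (LK LD1_c2 LD2_c56 LD3_c8)) :=
  Lgr Lrot85 (Lpr_dt (K8.f22820 IH) (Lpr_ct (K7.f22819 IH) (Lpr_bt (K8.f22818 IH) (Lpr_gt (f22817 IH) (Lpr_dt (f22816 IH) (Lpr_ct (f22485 IH) (Lpe (f22486 IH) (Lpr_gt (K6.f22814 IH) (Lpr_dt (K6.f22815 IH) (Lpe (K7.f146848 IH) (Lpr_bt (K6.f122180 IH) (Lpr_gt (K6.f122190 IH) (Lpe (K6.f142532 IH) (Lpr_ct (K6.f142521 IH) (Lpr_bt (K4.f117292 IH) (Lpe (K6.f136508 IH) (Lpr_dt (K32.f64345 IH) (Lpr_ct (f501868 IH) (Lpe (f501856 IH) (Lpn (LP (LK LD1_c2 LD2_c56 LD3_c8))))))))))))))))))))))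
theorem f136399 : Led Lsl_bt (LP (LK LD1_c3 LD2_c50 LD3_c25)) = (LP (LK LD1_c7 LD2_c41 LD3_c54)) :=
  Lre_b IH (LK LD1_c3 LD2_c50 LD3_c25) (LK LD1_c7 LD2_c41 LD3_c54) Lrfl Lrfl
theorem f501882 : Led Lsl_gt (LP (LK LD1_c2 LD2_c55 LD3_c43)) = (LP (LK LD1_c4 LD2_c48 LD3_c50)) :=
  Lgr Lrot65 (Lpr_cf (K8.f160978 IH) (Lpr_bt (K8.f130207 IH) (Lpe (K6.f130263 IH) (Lpe (K5.f127821 IH) (Lpr_ct (K7.f127831 IH) (Lpr_gf (K32.f130280 IH) (Lpe (K5.f111014 IH) (Lpe (K32.f136390 IH) (Lpe (f136399 IH) (Lpr_ct (f501868 IH) (Lpn (LP (LK LD1_c4 LD2_c48 LD3_c50)))))))))))))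
theorem f208420 : Led Lsl_bt (LP (LK LD1_c4 LD2_c36 LD3_c41)) = (LP (LK LD1_c2 LD2_c55 LD3_c43)) :=
  Lgr Lrot128 (Lpr_cf (K32.f208416 IH) (Lpe (K8.f156756 IH) (Lpr_cf (K6.f130229 IH) (Lpe (K8.f130207 IH) (Lpe (K11.f160972 IH) (Lpn (LP (LK LD1_c2 LD2_c55 LD3_c43))))))))
theorem f208422 : Led Lsl_ct (LP (LK LD1_c4 LD2_c36 LD3_c41)) = (LP (LK LD1_c8 LD2_c0 LD3_c27)) :=
  Lgr Lrot59 (Lpr_cf (K32.f208416 IH) (Lpn (LP (LK LD1_c8 LD2_c0 LD3_c27))))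
theorem f40676 : Led Lsl_bt (LP (LK LD1_c2 LD2_c26 LD3_c58)) = (LP (LK LD1_c1 LD2_c38 LD3_c19)) :=
  Lre_b IH (LK LD1_c2 LD2_c26 LD3_c58) (LK LD1_c1 LD2_c38 LD3_c19) Lrfl Lrfl
theorem f136406 : Led Lsl_bt (LP (LK LD1_c2 LD2_c27 LD3_c39)) = (LP (LK LD1_c4 LD2_c59 LD3_c39)) :=
  Lre_b IH (LK LD1_c2 LD2_c27 LD3_c39) (LK LD1_c4 LD2_c59 LD3_c39) Lrfl Lrfl
theorem f501870 : Led Lsl_cf (LP (LK LD1_c2 LD2_c27 LD3_c39)) = (LP (LK LD1_c2 LD2_c56 LD3_c8)) :=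
  Lgr Lrot97 (Lpr_bt (f136406 IH) (Lpe (K32.f136400 IH) (Lpr_bt (K32.f66381 IH) (Lpr_ct (f501868 IH) (Lpe (f501856 IH) (Lpn (LP (LK LD1_c2 LD2_c56 LD3_c8))))))))
theorem f501884 : Led Lsl_bt (LP (LK LD1_c2 LD2_c56 LD3_c8)) = (LP (LK LD1_c4 LD2_c48 LD3_c50)) :=
  Lgr Lrot92 (Lpe (f501870 IH) (Lpr_gt (K4.f40568 IH) (Lpe (K4.f40688 IH) (Lpr_bt (f40676 IH) (Lpe (K8.f40679 IH) (Lpr_ct (K32.f40681 IH) (Lpr_gt (K32.f208398 IH) (Lpe (f208422 IH) (Lpr_bt (f208420 IH) (Lpr_gt (f501882 IH) (Lpn (LP (LK LD1_c4 LD2_c48 LD3_c50)))))))))))))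
theorem f501860 : Led Lsl_df (LP (LK LD1_c3 LD2_c0 LD3_c32)) = (LP (LK LD1_c4 LD2_c48 LD3_c50)) :=
  Lgr Lrot38 (Lpr_dt (f501854 IH) (Lpn (LP (LK LD1_c4 LD2_c48 LD3_c50))))
theorem f501889 : Led Lsl_df (LP (LK LD1_c2 LD2_c56 LD3_c8)) = (LP (LK LD1_c1 LD2_c26 LD3_c2)) :=
  Lgr Lrot12 (Lpr_bt (f501884 IH) (Lpe (f501860 IH) (Lpr_bt (K32.f425861 IH) (Lpn (LP (LK LD1_c1 LD2_c26 LD3_c2))))))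
def v1765 : LQ := Led Lsl_gt (LP (LK LD1_c1 LD2_c26 LD3_c0))
theorem f501345 : Led Lsl_gt (LP (LK LD1_c1 LD2_c26 LD3_c0)) = v1765 :=
  Lrfl
theorem f72830 : Led Lsl_ft (LP (LK LD1_c0 LD2_c39 LD3_c46)) = (LP (LK LD1_c1 LD2_c25 LD3_c61)) :=
  Lre_f IH (LK LD1_c0 LD2_c39 LD3_c46) (LK LD1_c1 LD2_c25 LD3_c61) Lrfl Lrfl
theorem f72829 : Led Lsl_at (LP (LK LD1_c1 LD2_c25 LD3_c61)) = (LP (LK LD1_c0 LD2_c39 LD3_c48)) :=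
  Lre_a IH (LK LD1_c1 LD2_c25 LD3_c61) (LK LD1_c0 LD2_c39 LD3_c48) Lrfl Lrfl
theorem f452954 : Led Lsl_gf (LP (LK LD1_c0 LD2_c39 LD3_c48)) = v457 :=
  Lgr Lrot76 (Lpe (f72829 IH) (Lpe (f72830 IH) (Lpr_gt (f452953 IH) (Lpn v457))))
theorem f501366 : (LP (LK LD1_c0 LD2_c39 LD3_c48)) = v1765 :=
  Lefun (Lecon (Lfl_gf (f452954 IH)) (f501363 IH).symm) (f501345 IH)
theorem f72534 : Led Lsl_ct (LP (LK LD1_c1 LD2_c23 LD3_c52)) = (LP (LK LD1_c2 LD2_c55 LD3_c51)) :=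
  Lre_c IH (LK LD1_c1 LD2_c23 LD3_c52) (LK LD1_c2 LD2_c55 LD3_c51) Lrfl Lrfl
theorem f426031 : Led Lsl_ft (LP (LK LD1_c1 LD2_c23 LD3_c37)) = (LP (LK LD1_c2 LD2_c55 LD3_c22)) :=
  Lre_f IH (LK LD1_c1 LD2_c23 LD3_c37) (LK LD1_c2 LD2_c55 LD3_c22) Lrfl Lrfl
theorem f426925 : Led Lsl_at (LP (LK LD1_c2 LD2_c55 LD3_c22)) = (LP (LK LD1_c1 LD2_c23 LD3_c52)) :=
  Lre_a IH (LK LD1_c2 LD2_c55 LD3_c22) (LK LD1_c1 LD2_c23 LD3_c52) Lrfl Lrfl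
theorem f500649 : Led Lsl_gf (LP (LK LD1_c1 LD2_c23 LD3_c52)) = K32.v1667 :=
  Lgr Lrot76 (Lpe (f426925 IH) (Lpe (f426031 IH) (Lpr_gt (K32.f500647 IH) (Lpn K32.v1667))))
theorem f502771 : Led Lsl_df K32.v1667 = K32.v1768 :=
  Lgr Lrot155 (Lpe (f500649 IH) (Lpr_ct (f72534 IH) (Lpe (K4.f74296 IH) (Lpr_ct (K4.f61284 IH) (Lpr_dt (K2.f72454 IH) (Lpr_cf (K2.f60915 IH) (Lpqs (f501366 IH) (Lpe (f501345 IH) (Lpqs (f501363 IH) (Lpe (f452957 IH) (Lpr_gf (K32.f502766 IH) (Lpn K32.v1768))))))))))))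
theorem f100331 : Led Lsl_bt (LP (LK LD1_c1 LD2_c21 LD3_c4)) = (LP (LK LD1_c2 LD2_c49 LD3_c60)) :=
  Lre_b IH (LK LD1_c1 LD2_c21 LD3_c4) (LK LD1_c2 LD2_c49 LD3_c60) Lrfl Lrfl
theorem f81950 : Led Lsl_dt (LP (LK LD1_c1 LD2_c23 LD3_c3)) = (LP (LK LD1_c2 LD2_c54 LD3_c9)) :=
  Lre_d IH (LK LD1_c1 LD2_c23 LD3_c3) (LK LD1_c2 LD2_c54 LD3_c9) Lrfl Lrfl
theorem f74694 : Led Lsl_gt (LP (LK LD1_c2 LD2_c55 LD3_c8)) = (LP (LK LD1_c1 LD2_c23 LD3_c32)) :=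
  Lre_g IH (LK LD1_c2 LD2_c55 LD3_c8) (LK LD1_c1 LD2_c23 LD3_c32) Lrfl Lrfl
theorem f161304 : Led Lsl_cf (LP (LK LD1_c4 LD2_c58 LD3_c38)) = (LP (LK LD1_c2 LD2_c55 LD3_c8)) :=
  Lgr Lrot166 (Lpr_gt (K28.f74281 IH) (Lpr_dt (K4.f74299 IH) (Lpr_gt (K28.f74320 IH) (Lpr_dt (K28.f94941 IH) (Lpr_ct (K6.f81953 IH) (Lpe (f81950 IH) (Lpr_gf (K8.f161296 IH) (Lpe (K28.f74710 IH) (Lpe (f74694 IH) (Lpn (LP (LK LD1_c2 LD2_c55 LD3_c8))))))))))))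
theorem f426112 : Led Lsl_gt (LP (LK LD1_c2 LD2_c55 LD3_c22)) = (LP (LK LD1_c2 LD2_c55 LD3_c8)) :=
  Lgr Lrot82 (Lpe (K24.f425963 IH) (Lpr_ct (K24.f426099 IH) (Lpr_gf (f151648 IH) (Lpe (K4.f100280 IH) (Lpr_bt (f100331 IH) (Lpr_gf (K28.f148944 IH) (Lpe (K8.f138953 IH) (Lpr_ct (K4.f74298 IH) (Lpe (K28.f74281 IH) (Lpr_cf (f161304 IH) (Lpn (LP (LK LD1_c2 LD2_c55 LD3_c8)))))))))))))
theorem f496708 : Led Lsl_at (LP (LK LD1_c2 LD2_c55 LD3_c19)) = (LP (LK LD1_c2 LD2_c55 LD3_c8)) :=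
  Lgr Lrot26 (Lpr_ff (K32.f496700 IH) (Lpe (K24.f426114 IH) (Lpr_gt (f426112 IH) (Lpn (LP (LK LD1_c2 LD2_c55 LD3_c8))))))
theorem f496710 : Led Lsl_af (LP (LK LD1_c2 LD2_c55 LD3_c19)) = (LP (LK LD1_c2 LD2_c55 LD3_c8)) :=
  Lgr Lrot0 (Lpr_at (f496708 IH) (Lpn (LP (LK LD1_c2 LD2_c55 LD3_c8))))
theorem f500650 : Led Lsl_ff (LP (LK LD1_c2 LD2_c55 LD3_c8)) = K32.v1667 :=
  Lgr Lrot52 (Lpe (f496710 IH) (Lpe (K8.f150359 IH) (Lpr_gf (f500649 IH) (Lpn K32.v1667))))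
def v1563 : LQ := Led Lsl_ct (LP (LK LD1_c1 LD2_c21 LD3_c40))
theorem f499967 : Led Lsl_ct (LP (LK LD1_c1 LD2_c21 LD3_c40)) = v1563 :=
  Lrfl
theorem f496615 : Led Lsl_dt (LP (LK LD1_c2 LD2_c51 LD3_c12)) = (LP (LK LD1_c1 LD2_c21 LD3_c40)) :=
  Lre_d IH (LK LD1_c2 LD2_c51 LD3_c12) (LK LD1_c1 LD2_c21 LD3_c40) Lrfl Lrfl
theorem f499973 : Led Lsl_dt (LP (LK LD1_c2 LD2_c55 LD3_c8)) = v1563 :=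
  Lgr Lrot113 (Lpe (f426112 IH) (Lpe (K28.f426030 IH) (Lpr_gf (K24.f426059 IH) (Lpe (K7.f81948 IH) (Lpr_gt (K4.f74534 IH) (Lpr_dt (K4.f74319 IH) (Lpe (K32.f496611 IH) (Lpr_dt (f496615 IH) (Lpr_ct (f499967 IH) (Lpn v1563))))))))))
theorem f502778 : Led Lsl_ft v1563 = K32.v1768 :=
  Lgr Lrot54 (Lpe (f499973 IH) (Lpr_ff (f500650 IH) (Lpr_df (f502771 IH) (Lpn K32.v1768))))
theorem f496380 : Led Lsl_ct (LP (LK LD1_c5 LD2_c50 LD3_c4)) = (LP (LK LD1_c2 LD2_c51 LD3_c12)) :=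
  Lre_c IH (LK LD1_c5 LD2_c50 LD3_c4) (LK LD1_c2 LD2_c51 LD3_c12) Lrfl Lrfl
theorem f499905 : Led Lsl_ft (LP (LK LD1_c2 LD2_c17 LD3_c44)) = (LP (LK LD1_c1 LD2_c31 LD3_c17)) :=
  Lgr Lrot75 (Lpe (K32.f59230 IH) (Lpq (K32.f496746 IH) (Lpe (K32.f453530 IH) (Lpe (K32.f69245 IH) (Lpn (LP (LK LD1_c1 LD2_c31 LD3_c17)))))))
theorem f499970 : Led Lsl_at (LP (LK LD1_c1 LD2_c31 LD3_c17)) = v1563 :=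
  Lgr Lrot33 (Lpe (f499905 IH) (Lpe (K32.f161068 IH) (Lpe (K8.f157046 IH) (Lpr_dt (K4.f72472 IH) (Lpr_ct (K32.f161288 IH) (Lpe (K32.f496622 IH) (Lpr_ct (f496380 IH) (Lpr_dt (f496615 IH) (Lpr_ct (f499967 IH) (Lpn v1563))))))))))
theorem f502779 : Led Lsl_af (LP (LK LD1_c2 LD2_c17 LD3_c44)) = K32.v1768 :=
  Lgr Lrot45 (Lpr_ft (f499905 IH) (Lpr_at (f499970 IH) (Lpr_ft (f502778 IH) (Lpn K32.v1768))))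
def v1576 : LQ := Led Lsl_at (LP (LK LD1_c1 LD2_c21 LD3_c49))
theorem f500166 : Led Lsl_at (LP (LK LD1_c1 LD2_c21 LD3_c49)) = v1576 :=
  Lrfl
def v1565 : LQ := Led Lsl_ft (LP (LK LD1_c1 LD2_c21 LD3_c40))
theorem f499979 : Led Lsl_ft (LP (LK LD1_c1 LD2_c21 LD3_c40)) = v1565 :=
  Lrfl
theorem f499982 : Led Lsl_ff (LP (LK LD1_c1 LD2_c21 LD3_c40)) = v1565 :=
  Lgr Lrot3 (Lpr_ft (f499979 IH) (Lpn v1565))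
theorem f452684 : Led Lsl_at (LP (LK LD1_c1 LD2_c21 LD3_c40)) = (LP (LK LD1_c2 LD2_c51 LD3_c11)) :=
  Lre_a IH (LK LD1_c1 LD2_c21 LD3_c40) (LK LD1_c2 LD2_c51 LD3_c11) Lrfl Lrfl
theorem f499985 : Led Lsl_gf (LP (LK LD1_c2 LD2_c58 LD3_c16)) = v1565 :=
  Lgr Lrot47 (Lpe (K32.f496293 IH) (Lpe (f452684 IH) (Lpr_ff (f499982 IH) (Lpn v1565))))
theorem f502768 : Led Lsl_ct v1565 = K32.v1768 :=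
  Lgr Lrot8 (Lpe (f499985 IH) (Lpr_dt (K6.f75054 IH) (Lpe (K4.f74536 IH) (Lpr_dt (K4.f74535 IH) (Lpr_cf (K7.f81948 IH) (Lpe (K6.f81951 IH) (Lpe (K28.f141543 IH) (Lpr_df (K32.f75841 IH) (Lpr_gf (K32.f502766 IH) (Lpn K32.v1768))))))))))
theorem f499983 : Led Lsl_bt K31.v402 = v1565 :=
  Lgr Lrot35 (Lpe (K31.f452672 IH) (Lpe (K31.f21186 IH) (Lpr_ff (f499982 IH) (Lpn v1565))))
def v333 : LQ := Led Lsl_gt (LP (LK LD1_c0 LD2_c29 LD3_c12))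
theorem f452207 : Led Lsl_gt (LP (LK LD1_c0 LD2_c29 LD3_c12)) = v333 :=
  Lrfl
theorem f7000 : Led Lsl_bt (LP (LK LD1_c0 LD2_c2 LD3_c35)) = (LP (LK LD1_c0 LD2_c1 LD3_c6)) :=
  Lre_b IH (LK LD1_c0 LD2_c2 LD3_c35) (LK LD1_c0 LD2_c1 LD3_c6) Lrfl Lrfl
theorem f73333 : Led Lsl_bf (LP (LK LD1_c1 LD2_c31 LD3_c3)) = (LP (LK LD1_c2 LD2_c49 LD3_c41)) :=
  Lgr Lrot61 (Lpe (K1.f56435 IH) (Lpr_bt (K5.f56437 IH) (Lpr_ft (K2.f73324 IH) (Lpn (LP (LK LD1_c2 LD2_c49 LD3_c41))))))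
theorem f73304 : Led Lsl_dt (LP (LK LD1_c11 LD2_c24 LD3_c49)) = (LP (LK LD1_c5 LD2_c47 LD3_c24)) :=
  Lre_d IH (LK LD1_c11 LD2_c24 LD3_c49) (LK LD1_c5 LD2_c47 LD3_c24) Lrfl Lrfl
theorem f156931 : Led Lsl_gt (LP (LK LD1_c3 LD2_c43 LD3_c10)) = (LP (LK LD1_c7 LD2_c26 LD3_c59)) :=
  Lre_g IH (LK LD1_c3 LD2_c43 LD3_c10) (LK LD1_c7 LD2_c26 LD3_c59) Lrfl Lrfl
theorem f73008 : Led Lsl_dt (LP (LK LD1_c3 LD2_c2 LD3_c5)) = (LP (LK LD1_c6 LD2_c10 LD3_c55)) :=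
  Lre_d IH (LK LD1_c3 LD2_c2 LD3_c5) (LK LD1_c6 LD2_c10 LD3_c55) Lrfl Lrfl
theorem f206947 : Led Lsl_ct (LP (LK LD1_c7 LD2_c26 LD3_c59)) = (LP (LK LD1_c6 LD2_c10 LD3_c55)) :=
  Lgr Lrot151 (Lpe (f156931 IH) (Lpe (K11.f156926 IH) (Lpe (f152570 IH) (Lpr_dt (f206934 IH) (Lpr_gt (K8.f141272 IH) (Lpr_ct (K6.f141249 IH) (Lpr_gt (K35.f157166 IH) (Lpr_ct (K8.f73007 IH) (Lpr_dt (f73008 IH) (Lpn (LP (LK LD1_c6 LD2_c10 LD3_c55))))))))))))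
theorem f206956 : Led Lsl_et (LP (LK LD1_c14 LD2_c4 LD3_c39)) = (LP (LK LD1_c7 LD2_c26 LD3_c59)) :=
  Lre_e IH (LK LD1_c14 LD2_c4 LD3_c39) (LK LD1_c7 LD2_c26 LD3_c59) Lrfl Lrfl
theorem f100223 : Led Lsl_et (LP (LK LD1_c6 LD2_c10 LD3_c55)) = (LP (LK LD1_c12 LD2_c2 LD3_c13)) :=
  Lre_e IH (LK LD1_c6 LD2_c10 LD3_c55) (LK LD1_c12 LD2_c2 LD3_c13) Lrfl Lrfl
theorem f206957 : Led Lsl_cf (LP (LK LD1_c14 LD2_c4 LD3_c39)) = (LP (LK LD1_c12 LD2_c2 LD3_c13)) :=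
  Lgr Lrot39 (Lpr_et (f206956 IH) (Lpr_ct (f206947 IH) (Lpr_et (f100223 IH) (Lpn (LP (LK LD1_c12 LD2_c2 LD3_c13))))))
theorem f206965 : Led Lsl_ct (LP (LK LD1_c14 LD2_c4 LD3_c39)) = (LP (LK LD1_c12 LD2_c2 LD3_c13)) :=
  Lgr Lrot59 (Lpr_cf (f206957 IH) (Lpn (LP (LK LD1_c12 LD2_c2 LD3_c13))))
theorem f206971 : Led Lsl_at (LP (LK LD1_c12 LD2_c2 LD3_c13)) = (LP (LK LD1_c6 LD2_c10 LD3_c58)) :=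
  Lre_a IH (LK LD1_c12 LD2_c2 LD3_c13) (LK LD1_c6 LD2_c10 LD3_c58) Lrfl Lrfl
theorem f63519 : Led Lsl_ct (LP (LK LD1_c6 LD2_c10 LD3_c58)) = (LP (LK LD1_c12 LD2_c2 LD3_c17)) :=
  Lre_c IH (LK LD1_c6 LD2_c10 LD3_c58) (LK LD1_c12 LD2_c2 LD3_c17) Lrfl Lrfl
theorem f206972 : Led Lsl_af (LP (LK LD1_c14 LD2_c4 LD3_c39)) = (LP (LK LD1_c12 LD2_c2 LD3_c17)) :=
  Lgr Lrot68 (Lpr_ct (f206965 IH) (Lpr_at (f206971 IH) (Lpr_ct (f63519 IH) (Lpn (LP (LK LD1_c12 LD2_c2 LD3_c17))))))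
theorem f63516 : Led Lsl_et (LP (LK LD1_c6 LD2_c10 LD3_c57)) = (LP (LK LD1_c12 LD2_c2 LD3_c17)) :=
  Lre_e IH (LK LD1_c6 LD2_c10 LD3_c57) (LK LD1_c12 LD2_c2 LD3_c17) Lrfl Lrfl
theorem f206977 : Led Lsl_at (LP (LK LD1_c7 LD2_c26 LD3_c59)) = (LP (LK LD1_c6 LD2_c10 LD3_c57)) :=
  Lgr Lrot80 (Lpe (f206956 IH) (Lpr_af (f206972 IH) (Lpe (f63516 IH) (Lpn (LP (LK LD1_c6 LD2_c10 LD3_c57))))))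
theorem f206981 : Led Lsl_ff (LP (LK LD1_c7 LD2_c26 LD3_c59)) = (LP (LK LD1_c6 LD2_c31 LD3_c21)) :=
  Lgr Lrot52 (Lpr_at (f206977 IH) (Lpr_gf (K8.f141883 IH) (Lpe (K8.f156958 IH) (Lpn (LP (LK LD1_c6 LD2_c31 LD3_c21))))))
theorem f206989 : Led Lsl_ft (LP (LK LD1_c7 LD2_c26 LD3_c59)) = (LP (LK LD1_c6 LD2_c31 LD3_c21)) :=
  Lgr Lrot48 (Lpr_ff (f206981 IH) (Lpn (LP (LK LD1_c6 LD2_c31 LD3_c21))))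
theorem f37218 : Led Lsl_at (LP (LK LD1_c6 LD2_c14 LD3_c17)) = (LP (LK LD1_c12 LD2_c6 LD3_c59)) :=
  Lre_a IH (LK LD1_c6 LD2_c14 LD3_c17) (LK LD1_c12 LD2_c6 LD3_c59) Lrfl Lrfl
theorem f16659 : Led Lsl_dt (LP (LK LD1_c0 LD2_c37 LD3_c47)) = (LP (LK LD1_c1 LD2_c21 LD3_c39)) :=
  Lre_d IH (LK LD1_c0 LD2_c37 LD3_c47) (LK LD1_c1 LD2_c21 LD3_c39) Lrfl Lrfl
theorem f16660 : Led Lsl_ct (LP (LK LD1_c1 LD2_c21 LD3_c39)) = (LP (LK LD1_c2 LD2_c51 LD3_c9)) :=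
  Lre_c IH (LK LD1_c1 LD2_c21 LD3_c39) (LK LD1_c2 LD2_c51 LD3_c9) Lrfl Lrfl
theorem f16661 : Led Lsl_bt (LP (LK LD1_c2 LD2_c51 LD3_c9)) = (LP (LK LD1_c5 LD2_c50 LD3_c1)) :=
  Lre_b IH (LK LD1_c2 LD2_c51 LD3_c9) (LK LD1_c5 LD2_c50 LD3_c1) Lrfl Lrfl
theorem f16662 : Led Lsl_gt (LP (LK LD1_c5 LD2_c50 LD3_c1)) = (LP (LK LD1_c11 LD2_c28 LD3_c28)) :=
  Lre_g IH (LK LD1_c5 LD2_c50 LD3_c1) (LK LD1_c11 LD2_c28 LD3_c28) Lrfl Lrfl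
theorem f37207 : Led Lsl_dt (LP (LK LD1_c11 LD2_c28 LD3_c28)) = (LP (LK LD1_c6 LD2_c14 LD3_c17)) :=
  Lgr Lrot182 (Lpe (f16662 IH) (Lpe (f16661 IH) (Lpe (f16660 IH) (Lpe (f16659 IH) (Lpe (K11.f16658 IH) (Lpe (K11.f16657 IH) (Lpe (K1.f16656 IH) (Lpe (K0.f16655 IH) (Lpe (K0.f7137 IH) (Lpe (K1.f16647 IH) (Lpr_cf (K1.f16632 IH) (Lpe (K1.f16652 IH) (Lpr_gf (K1.f35541 IH) (Lpe (K1.f36923 IH) (Lpr_cf (K1.f36936 IH) (Lpe (K1.f35657 IH) (Lpr_gf (K1.f37192 IH) (Lpe (K6.f37205 IH) (Lpe (K8.f37206 IH) (Lpn (LP (LK LD1_c6 LD2_c14 LD3_c17))))))))))))))))))))))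
theorem f73464 : Led Lsl_af (LP (LK LD1_c11 LD2_c28 LD3_c28)) = (LP (LK LD1_c11 LD2_c24 LD3_c58)) :=
  Lgr Lrot117 (Lpr_dt (f37207 IH) (Lpr_at (f37218 IH) (Lpr_dt (K8.f73305 IH) (Lpn (LP (LK LD1_c11 LD2_c24 LD3_c58))))))
theorem f206979 : Led Lsl_bf (LP (LK LD1_c7 LD2_c26 LD3_c59)) = (LP (LK LD1_c11 LD2_c28 LD3_c28)) :=
  Lgr Lrot81 (Lpr_at (f206977 IH) (Lpr_bt (K8.f63492 IH) (Lpe (K8.f63413 IH) (Lpr_bt (K11.f73550 IH) (Lpe (f73464 IH) (Lpn (LP (LK LD1_c11 LD2_c28 LD3_c28))))))))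
theorem f37220 : Led Lsl_df (LP (LK LD1_c11 LD2_c28 LD3_c28)) = (LP (LK LD1_c6 LD2_c14 LD3_c17)) :=
  Lgr Lrot38 (Lpr_dt (f37207 IH) (Lpn (LP (LK LD1_c6 LD2_c14 LD3_c17))))
theorem f73457 : Led Lsl_ft (LP (LK LD1_c11 LD2_c28 LD3_c28)) = (LP (LK LD1_c11 LD2_c24 LD3_c49)) :=
  Lgr Lrot54 (Lpr_df (f37220 IH) (Lpr_ff (K8.f73336 IH) (Lpe (f73304 IH) (Lpn (LP (LK LD1_c11 LD2_c24 LD3_c49))))))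
theorem f73459 : Led Lsl_ff (LP (LK LD1_c11 LD2_c28 LD3_c28)) = (LP (LK LD1_c11 LD2_c24 LD3_c49)) :=
  Lgr Lrot3 (Lpr_ft (f73457 IH) (Lpn (LP (LK LD1_c11 LD2_c24 LD3_c49))))
theorem f206993 : Led Lsl_bf (LP (LK LD1_c11 LD2_c24 LD3_c49)) = (LP (LK LD1_c6 LD2_c31 LD3_c21)) :=
  Lgr Lrot61 (Lpe (f73459 IH) (Lpe (f206979 IH) (Lpr_ft (f206989 IH) (Lpn (LP (LK LD1_c6 LD2_c31 LD3_c21))))))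
theorem f22615 : Led Lsl_ct (LP (LK LD1_c1 LD2_c22 LD3_c18)) = (LP (LK LD1_c0 LD2_c38 LD3_c8)) :=
  Lre_c IH (LK LD1_c1 LD2_c22 LD3_c18) (LK LD1_c0 LD2_c38 LD3_c8) Lrfl Lrfl
theorem f22759 : Led Lsl_ct (LP (LK LD1_c2 LD2_c52 LD3_c21)) = (LP (LK LD1_c1 LD2_c22 LD3_c16)) :=
  Lre_c IH (LK LD1_c2 LD2_c52 LD3_c21) (LK LD1_c1 LD2_c22 LD3_c16) Lrfl Lrfl
theorem f22805 : Led Lsl_bt (LP (LK LD1_c2 LD2_c52 LD3_c21)) = (LP (LK LD1_c5 LD2_c52 LD3_c7)) :=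
  Lre_b IH (LK LD1_c2 LD2_c52 LD3_c21) (LK LD1_c5 LD2_c52 LD3_c7) Lrfl Lrfl
theorem f206995 : Led Lsl_gf (LP (LK LD1_c11 LD2_c24 LD3_c49)) = (LP (LK LD1_c5 LD2_c52 LD3_c7)) :=
  Lgr Lrot124 (Lpr_bf (f206993 IH) (Lpr_ct (K8.f156964 IH) (Lpr_gt (K8.f161563 IH) (Lpe (K8.f161570 IH) (Lpr_bt (K8.f22626 IH) (Lpr_gt (K8.f22625 IH) (Lpr_ct (f22615 IH) (Lpr_gt (K11.f22495 IH) (Lpe (f22759 IH) (Lpr_bt (f22805 IH) (Lpn (LP (LK LD1_c5 LD2_c52 LD3_c7)))))))))))))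
theorem f22756 : Led Lsl_ct (LP (LK LD1_c1 LD2_c22 LD3_c16)) = (LP (LK LD1_c2 LD2_c52 LD3_c21)) :=
  Lre_c IH (LK LD1_c1 LD2_c22 LD3_c16) (LK LD1_c2 LD2_c52 LD3_c21) Lrfl Lrfl
theorem f452209 : Led Lsl_df (LP (LK LD1_c1 LD2_c22 LD3_c16)) = v333 :=
  Lgr Lrot183 (Lpr_ct (f22756 IH) (Lpr_bt (f22805 IH) (Lpe (f206995 IH) (Lpr_dt (f73304 IH) (Lpr_ct (K8.f73303 IH) (Lpe (f73333 IH) (Lpe (K2.f69486 IH) (Lpr_dt (K2.f38007 IH) (Lpr_ct (K2.f37994 IH) (Lpr_bt (K1.f35627 IH) (Lpr_gt (K0.f16637 IH) (Lpr_dt (K0.f16620 IH) (Lpr_ct (K0.f16624 IH) (Lpr_bt (f7000 IH) (Lpr_gt (K0.f7005 IH) (Lpr_dt (K0.f16643 IH) (Lpr_ct (K1.f16644 IH) (Lpr_bt (K11.f16645 IH) (Lpr_gt (f452207 IH) (Lpn v333))))))))))))))))))))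
theorem f452211 : Led Lsl_dt (LP (LK LD1_c1 LD2_c22 LD3_c16)) = v333 :=
  Lgr Lrot42 (Lpr_df (f452209 IH) (Lpn v333))
theorem f448921 : Led Lsl_dt (LP (LK LD1_c0 LD2_c37 LD3_c48)) = (LP (LK LD1_c1 LD2_c21 LD3_c41)) :=
  Lre_d IH (LK LD1_c0 LD2_c37 LD3_c48) (LK LD1_c1 LD2_c21 LD3_c41) Lrfl Lrfl
theorem f452680 : Led Lsl_af (LP (LK LD1_c0 LD2_c37 LD3_c48)) = K31.v405 :=
  Lgr Lrot45 (Lpr_ft (K31.f452672 IH) (Lpe (K31.f452671 IH) (Lpr_ft (K31.f452679 IH) (Lpn K31.v405))))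
theorem f496431 : v333 = K31.v405 :=
  (Llr Lrot44 (Lpe (f452211 IH) (Lpr_af (K32.f496421 IH) (Lpe (f448921 IH) (Lpr_af (f452680 IH) (Lpn K31.v405)))))).symm
theorem f452208 : Led Lsl_gf K11.v114 = v333 :=
  Lgr Lrot76 (Lpe (K11.f448935 IH) (Lpe (K11.f437506 IH) (Lpr_gt (f452207 IH) (Lpn v333))))
def v334 : LQ := Led Lsl_gf (LP (LK LD1_c0 LD2_c29 LD3_c12))
theorem f452215 : Led Lsl_gf (LP (LK LD1_c0 LD2_c29 LD3_c12)) = v334 :=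
  Lrfl
theorem f452216 : Led Lsl_gt K11.v114 = v334 :=
  Lgr Lrot5 (Lpe (K11.f448938 IH) (Lpr_at (K11.f437500 IH) (Lpr_gf (f452215 IH) (Lpn v334))))
theorem f499960 : K31.v402 = v334 :=
  (Llr Lrot26 (Lpe (K31.f452670 IH) (Lpr_ff (K31.f452681 IH) (Lpq (f496431 IH) (Lpe (f452208 IH) (Lpr_gt (f452216 IH) (Lpn v334))))))).symm
def v335 : LQ := Led Lsl_ft (LP (LK LD1_c0 LD2_c29 LD3_c14))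
theorem f452217 : Led Lsl_ft (LP (LK LD1_c0 LD2_c29 LD3_c14)) = v335 :=
  Lrfl
theorem f143111 : Led Lsl_ft (LP (LK LD1_c0 LD2_c7 LD3_c31)) = (LP (LK LD1_c0 LD2_c12 LD3_c54)) :=
  Lgr Lrot54 (Lpe (K0.f20275 IH) (Lpr_ff (K6.f143107 IH) (Lpe (K1.f20045 IH) (Lpn (LP (LK LD1_c0 LD2_c12 LD3_c54))))))
theorem f446801 : Led Lsl_cf (LP (LK LD1_c0 LD2_c7 LD3_c32)) = K35.v80 :=
  Lgr Lrot39 (Lpr_et (K6.f21188 IH) (Lpr_ct (K1.f16656 IH) (Lpr_et (K35.f446799 IH) (Lpn K35.v80))))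
theorem f448959 : Led Lsl_ff K35.v80 = K35.v117 :=
  Lgr Lrot23 (Lpe (f446801 IH) (Lpr_ft (K6.f146284 IH) (Lpr_ct (K35.f448957 IH) (Lpn K35.v117))))
theorem f452220 : Led Lsl_ef K35.v117 = v335 :=
  Lgr Lrot21 (Lpe (f448959 IH) (Lpe (K35.f446802 IH) (Lpr_ft (f143111 IH) (Lpr_et (K6.f69275 IH) (Lpr_ft (f452217 IH) (Lpn v335))))))
theorem f437508 : Led Lsl_et (LP (LK LD1_c1 LD2_c3 LD3_c61)) = (LP (LK LD1_c0 LD2_c29 LD3_c12)) :=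
  Lre_e IH (LK LD1_c1 LD2_c3 LD3_c61) (LK LD1_c0 LD2_c29 LD3_c12) Lrfl Lrfl
def v1240 : LQ := Led Lsl_ct (LP (LK LD1_c1 LD2_c3 LD3_c61))
theorem f494243 : Led Lsl_ct (LP (LK LD1_c1 LD2_c3 LD3_c61)) = v1240 :=
  Lrfl
theorem f494245 : Led Lsl_cf (LP (LK LD1_c1 LD2_c3 LD3_c61)) = v1240 :=
  Lgr Lrot11 (Lpr_ct (f494243 IH) (Lpn v1240))
theorem f452221 : Led Lsl_ff (LP (LK LD1_c0 LD2_c29 LD3_c14)) = v335 :=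
  Lgr Lrot3 (Lpr_ft (f452217 IH) (Lpn v335))
theorem f452223 : Led Lsl_ct (LP (LK LD1_c0 LD2_c29 LD3_c17)) = v335 :=
  Lgr Lrot40 (Lpe (K6.f146277 IH) (Lpe (K11.f20777 IH) (Lpr_ff (f452221 IH) (Lpn v335))))
theorem f424534 : Led Lsl_et (LP (LK LD1_c0 LD2_c29 LD3_c12)) = (LP (LK LD1_c1 LD2_c3 LD3_c61)) :=
  Lre_e IH (LK LD1_c0 LD2_c29 LD3_c12) (LK LD1_c1 LD2_c3 LD3_c61) Lrfl Lrfl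
def v330 : LQ := Led Lsl_bt (LP (LK LD1_c0 LD2_c29 LD3_c10))
theorem f452185 : Led Lsl_bt (LP (LK LD1_c0 LD2_c29 LD3_c10)) = v330 :=
  Lrfl
theorem f20047 : Led Lsl_ct (LP (LK LD1_c0 LD2_c12 LD3_c54)) = (LP (LK LD1_c0 LD2_c5 LD3_c53)) :=
  Lre_c IH (LK LD1_c0 LD2_c12 LD3_c54) (LK LD1_c0 LD2_c5 LD3_c53) Lrfl Lrfl
theorem f37270 : Led Lsl_bt (LP (LK LD1_c0 LD2_c29 LD3_c12)) = (LP (LK LD1_c0 LD2_c12 LD3_c54)) :=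
  Lre_b IH (LK LD1_c0 LD2_c29 LD3_c12) (LK LD1_c0 LD2_c12 LD3_c54) Lrfl Lrfl
theorem f452187 : Led Lsl_cf (LP (LK LD1_c0 LD2_c29 LD3_c12)) = v330 :=
  Lgr Lrot97 (Lpr_bt (f37270 IH) (Lpr_ct (f20047 IH) (Lpr_bt (K1.f37262 IH) (Lpr_ct (K11.f21216 IH) (Lpr_bt (f452185 IH) (Lpn v330))))))
theorem f494246 : Led Lsl_ef v330 = v1240 :=
  Lgr Lrot28 (Lpe (f452187 IH) (Lpr_et (f424534 IH) (Lpr_ct (f494243 IH) (Lpn v1240))))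
theorem f452186 : Led Lsl_bf (LP (LK LD1_c0 LD2_c29 LD3_c10)) = v330 :=
  Lgr Lrot24 (Lpr_bt (f452185 IH) (Lpn v330))
theorem f494247 : Led Lsl_bt K35.v331 = v1240 :=
  Lgr Lrot119 (Lpe (K35.f452191 IH) (Lpr_bf (f452186 IH) (Lpr_ef (f494246 IH) (Lpn v1240))))
def v1231 : LQ := Led Lsl_bt (LP (LK LD1_c1 LD2_c3 LD3_c56))
theorem f494192 : Led Lsl_bt (LP (LK LD1_c1 LD2_c3 LD3_c56)) = v1231 :=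
  Lrfl
theorem f536622 : K35.v331 = (LP (LK LD1_c1 LD2_c3 LD3_c56)) :=
  Lefun (Lecon (Lfl_gf (K35.f494219 IH)) (K35.f536619 IH)) (Lfl_gf (K35.f452406 IH))
theorem f536645 : v1240 = v1231 :=
  Lefun (Lecon (f494247 IH) (f536622 IH)) (f494192 IH)
theorem f452197 : Led Lsl_bf (LP (LK LD1_c0 LD2_c29 LD3_c17)) = K35.v332 :=
  Lgr Lrot61 (Lpr_ft (K6.f146285 IH) (Lpr_bt (K11.f211019 IH) (Lpr_ft (K35.f452196 IH) (Lpn K35.v332))))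
theorem f536634 : (LP (LK LD1_c1 LD2_c3 LD3_c56)) = K35.v332 :=
  Lefun (Lecon (K35.f452616 IH) (K35.f536621 IH)) (K35.f452205 IH)
theorem f536679 : (LP (LK LD1_c0 LD2_c29 LD3_c17)) = v1231 :=
  Lefun (Lecon (Lfl_bf (f452197 IH)) (f536634 IH).symm) (f494192 IH)
theorem f536763 : (LP (LK LD1_c1 LD2_c3 LD3_c61)) = v335 :=
  Lefun (Lecon (Lfl_cf (f494245 IH)) ((f536645 IH).trans (f536679 IH).symm)) (f452223 IH)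
theorem f536912 : K35.v117 = (LP (LK LD1_c0 LD2_c29 LD3_c12)) :=
  Lefun (Lecon (Lfl_ef (f452220 IH)) (f536763 IH).symm) (f437508 IH)
theorem f537122 : (LP (LK LD1_c0 LD2_c42 LD3_c12)) = v334 :=
  Lefun (Lecon (Lfl_gt (K35.f451460 IH)) (f536912 IH)) (f452215 IH)
theorem f537287 : v1565 = (LP (LK LD1_c1 LD2_c31 LD3_c25)) :=
  Lefun (Lecon (f499983 IH) ((f499960 IH).trans (f537122 IH).symm)) (K11.f68659 IH)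
theorem f537689 : K32.v1768 = (LP (LK LD1_c1 LD2_c21 LD3_c49)) :=
  Lefun (Lecon (f502768 IH) (f537287 IH)) (K27.f205118 IH)
theorem f537862 : (LP (LK LD1_c2 LD2_c17 LD3_c44)) = v1576 :=
  Lefun (Lecon (Lfl_af (f502779 IH)) (f537689 IH)) (f500166 IH)
theorem f500169 : Led Lsl_ef (LP (LK LD1_c2 LD2_c30 LD3_c33)) = v1576 :=
  Lgr Lrot20 (Lpr_at (K27.f22197 IH) (Lpe (K11.f22191 IH) (Lpr_at (f500166 IH) (Lpn v1576))))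
theorem f500171 : Led Lsl_et (LP (LK LD1_c2 LD2_c30 LD3_c33)) = v1576 :=
  Lgr Lrot87 (Lpr_ef (f500169 IH) (Lpn v1576))
theorem f539211 : v1672 = (LP (LK LD1_c2 LD2_c52 LD3_c54)) :=
  (Llr Lrot122 (Lpe (f500685 IH) (Lpr_dt (K27.f386717 IH) (Lpe (K28.f426244 IH) (Lpe (K28.f205141 IH) (Lpr_et (f500171 IH) (Lpq (f537862 IH) (Lpr_gt (K32.f425859 IH) (Lpe (f501889 IH) (Lpe (f501880 IH) (Lpe (K8.f26554 IH) (Lpqs (f537353 IH) (Lpe (f496213 IH) (Lpr_gt (f24262 IH) (Lpn (LP (LK LD1_c2 LD2_c52 LD3_c54))))))))))))))))).symm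
theorem f495750 : Led Lsl_et (LP (LK LD1_c1 LD2_c22 LD3_c35)) = K35.v1475 :=
  Lgr Lrot87 (Lpr_ef (K35.f495749 IH) (Lpn K35.v1475))
theorem f198276 : Led Lsl_dt (LP (LK LD1_c2 LD2_c52 LD3_c61)) = (LP (LK LD1_c1 LD2_c22 LD3_c35)) :=
  Lre_d IH (LK LD1_c2 LD2_c52 LD3_c61) (LK LD1_c1 LD2_c22 LD3_c35) Lrfl Lrfl
theorem f449884 : Led Lsl_et (LP (LK LD1_c5 LD2_c53 LD3_c21)) = (LP (LK LD1_c2 LD2_c52 LD3_c61)) :=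
  Lre_e IH (LK LD1_c5 LD2_c53 LD3_c21) (LK LD1_c2 LD2_c52 LD3_c61) Lrfl Lrfl
theorem f407076 : Led Lsl_et (LP (LK LD1_c4 LD2_c32 LD3_c9)) = (LP (LK LD1_c9 LD2_c1 LD3_c59)) :=
  Lre_e IH (LK LD1_c4 LD2_c32 LD3_c9) (LK LD1_c9 LD2_c1 LD3_c59) Lrfl Lrfl
theorem f538899 : Led Lsl_df (LP (LK LD1_c5 LD2_c53 LD3_c21)) = (LP (LK LD1_c9 LD2_c1 LD3_c59)) :=
  Lgr Lrot70 (Lpr_et (f449884 IH) (Lpr_dt (f198276 IH) (Lpr_et (f495750 IH) (Lpq (K35.f538892 IH) (Lpr_dt (K31.f173369 IH) (Lpr_et (f407076 IH) (Lpn (LP (LK LD1_c9 LD2_c1 LD3_c59)))))))))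
theorem f538906 : Led Lsl_dt (LP (LK LD1_c5 LD2_c53 LD3_c21)) = (LP (LK LD1_c9 LD2_c1 LD3_c59)) :=
  Lgr Lrot42 (Lpr_df (f538899 IH) (Lpn (LP (LK LD1_c9 LD2_c1 LD3_c59))))
theorem f177012 : Led Lsl_bt (LP (LK LD1_c2 LD2_c53 LD3_c1)) = (LP (LK LD1_c5 LD2_c53 LD3_c21)) :=
  Lre_b IH (LK LD1_c2 LD2_c53 LD3_c1) (LK LD1_c5 LD2_c53 LD3_c21) Lrfl Lrfl
theorem f176903 : Led Lsl_dt (LP (LK LD1_c2 LD2_c46 LD3_c30)) = (LP (LK LD1_c1 LD2_c19 LD3_c38)) :=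
  Lre_d IH (LK LD1_c2 LD2_c46 LD3_c30) (LK LD1_c1 LD2_c19 LD3_c38) Lrfl Lrfl
theorem f177000 : Led Lsl_et (LP (LK LD1_c5 LD2_c40 LD3_c61)) = (LP (LK LD1_c2 LD2_c46 LD3_c30)) :=
  Lre_e IH (LK LD1_c5 LD2_c40 LD3_c61) (LK LD1_c2 LD2_c46 LD3_c30) Lrfl Lrfl
theorem f24491 : Led Lsl_et (LP (LK LD1_c1 LD2_c22 LD3_c36)) = (LP (LK LD1_c2 LD2_c53 LD3_c1)) :=
  Lre_e IH (LK LD1_c1 LD2_c22 LD3_c36) (LK LD1_c2 LD2_c53 LD3_c1) Lrfl Lrfl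
theorem f177001 : Led Lsl_df (LP (LK LD1_c5 LD2_c40 LD3_c61)) = (LP (LK LD1_c2 LD2_c53 LD3_c1)) :=
  Lgr Lrot70 (Lpr_et (f177000 IH) (Lpr_dt (f176903 IH) (Lpr_et (K35.f176998 IH) (Lpr_dt (K10.f24480 IH) (Lpr_et (f24491 IH) (Lpn (LP (LK LD1_c2 LD2_c53 LD3_c1))))))))
theorem f177007 : Led Lsl_dt (LP (LK LD1_c5 LD2_c40 LD3_c61)) = (LP (LK LD1_c2 LD2_c53 LD3_c1)) :=
  Lgr Lrot42 (Lpr_df (f177001 IH) (Lpn (LP (LK LD1_c2 LD2_c53 LD3_c1))))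
theorem f538914 : Led Lsl_bf (LP (LK LD1_c5 LD2_c40 LD3_c61)) = (LP (LK LD1_c9 LD2_c1 LD3_c59)) :=
  Lgr Lrot93 (Lpr_dt (f177007 IH) (Lpr_bt (f177012 IH) (Lpr_dt (f538906 IH) (Lpn (LP (LK LD1_c9 LD2_c1 LD3_c59))))))
theorem f538917 : Led Lsl_bt (LP (LK LD1_c2 LD2_c46 LD3_c30)) = (LP (LK LD1_c4 LD2_c32 LD3_c9)) :=
  Lgr Lrot119 (Lpe (f177000 IH) (Lpr_bf (f538914 IH) (Lpe (f407076 IH) (Lpn (LP (LK LD1_c4 LD2_c32 LD3_c9))))))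
theorem f538921 : Led Lsl_ct (LP (LK LD1_c2 LD2_c46 LD3_c30)) = (LP (LK LD1_c5 LD2_c40 LD3_c8)) :=
  Lgr Lrot64 (Lpr_bt (f538917 IH) (Lpr_gf (K31.f407062 IH) (Lpe (K18.f174614 IH) (Lpe (K9.f174617 IH) (Lpe (K12.f173163 IH) (Lpe (K9.f40747 IH) (Lpe (K9.f172033 IH) (Lpe (K30.f172146 IH) (Lpr_ct (K30.f172147 IH) (Lpe (K30.f174649 IH) (Lpn (LP (LK LD1_c5 LD2_c40 LD3_c8)))))))))))))
theorem f297012 : Led Lsl_bt (LP (LK LD1_c4 LD2_c33 LD3_c32)) = (LP (LK LD1_c2 LD2_c48 LD3_c28)) :=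
  Lgr Lrot127 (Lpr_bf (K18.f297008 IH) (Lpn (LP (LK LD1_c2 LD2_c48 LD3_c28))))
theorem f226540 : Led Lsl_gt (LP (LK LD1_c1 LD2_c19 LD3_c22)) = (LP (LK LD1_c2 LD2_c45 LD3_c59)) :=
  Lre_g IH (LK LD1_c1 LD2_c19 LD3_c22) (LK LD1_c2 LD2_c45 LD3_c59) Lrfl Lrfl
theorem f424385 : Led Lsl_bt (LP (LK LD1_c5 LD2_c40 LD3_c1)) = (LP (LK LD1_c2 LD2_c45 LD3_c59)) :=
  Lre_b IH (LK LD1_c5 LD2_c40 LD3_c1) (LK LD1_c2 LD2_c45 LD3_c59) Lrfl Lrfl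
theorem f424386 : Led Lsl_ct (LP (LK LD1_c5 LD2_c40 LD3_c1)) = (LP (LK LD1_c5 LD2_c45 LD3_c10)) :=
  Lgr Lrot64 (Lpr_bt (f424385 IH) (Lpe (f226540 IH) (Lpe (K35.f226539 IH) (Lpr_ct (K9.f172139 IH) (Lpe (K12.f168297 IH) (Lpe (K9.f168298 IH) (Lpe (K9.f172555 IH) (Lpe (K30.f172542 IH) (Lpr_ct (K30.f172685 IH) (Lpe (K31.f172621 IH) (Lpn (LP (LK LD1_c5 LD2_c45 LD3_c10)))))))))))))
def v382 : LQ := Led Lsl_gt (LP (LK LD1_c0 LD2_c36 LD3_c52))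
def v2887 : LQ := Led Lsl_bt v382
theorem f536074 : Led Lsl_bt v382 = v2887 :=
  Lrfl
theorem f536075 : Led Lsl_bf v382 = v2887 :=
  Lgr Lrot24 (Lpr_bt (f536074 IH) (Lpn v2887))
theorem f452544 : Led Lsl_gt (LP (LK LD1_c0 LD2_c36 LD3_c52)) = v382 :=
  Lrfl
theorem f494101 : Led Lsl_gt v382 = K30.v1222 :=
  Lgr Lrot46 (Lpe (f452544 IH) (Lpe (K24.f379938 IH) (Lpr_at (K30.f494097 IH) (Lpn K30.v1222))))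
theorem f379951 : Led Lsl_at (LP (LK LD1_c0 LD2_c29 LD3_c2)) = (LP (LK LD1_c0 LD2_c16 LD3_c27)) :=
  Lgr Lrot100 (Lpr_af (K24.f379949 IH) (Lpn (LP (LK LD1_c0 LD2_c16 LD3_c27))))
theorem f452549 : Led Lsl_bf (LP (LK LD1_c2 LD2_c13 LD3_c0)) = K30.v384 :=
  Lgr Lrot81 (Lpr_at (K30.f181462 IH) (Lpr_bt (K10.f174895 IH) (Lpr_at (f379951 IH) (Lpr_bt (K24.f255551 IH) (Lpr_at (K30.f452547 IH) (Lpn K30.v384))))))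
theorem f494102 : Led Lsl_bt (LP (LK LD1_c1 LD2_c19 LD3_c27)) = K30.v1222 :=
  Lgr Lrot35 (Lpr_ff (K30.f380234 IH) (Lpr_bf (f452549 IH) (Lpr_ff (K30.f494100 IH) (Lpn K30.v1222))))
theorem f380162 : Led Lsl_ff (LP (LK LD1_c0 LD2_c36 LD3_c41)) = (LP (LK LD1_c1 LD2_c3 LD3_c34)) :=
  Lgr Lrot19 (Lpr_dt (K30.f380161 IH) (Lpr_ft (K30.f380149 IH) (Lpr_dt (K30.f174837 IH) (Lpn (LP (LK LD1_c1 LD2_c3 LD3_c34))))))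
theorem f380227 : Led Lsl_at (LP (LK LD1_c0 LD2_c36 LD3_c41)) = (LP (LK LD1_c1 LD2_c19 LD3_c27)) :=
  Lre_a IH (LK LD1_c0 LD2_c36 LD3_c41) (LK LD1_c1 LD2_c19 LD3_c27) Lrfl Lrfl
theorem f380609 : Led Lsl_gf (LP (LK LD1_c1 LD2_c19 LD3_c27)) = (LP (LK LD1_c2 LD2_c12 LD3_c60)) :=
  Lgr Lrot76 (Lpe (f380227 IH) (Lpr_ff (f380162 IH) (Lpr_gt (K31.f20648 IH) (Lpn (LP (LK LD1_c2 LD2_c12 LD3_c60))))))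
theorem f380611 : Led Lsl_gt (LP (LK LD1_c1 LD2_c19 LD3_c48)) = (LP (LK LD1_c2 LD2_c13 LD3_c17)) :=
  Lgr Lrot164 (Lpe (K10.f181468 IH) (Lpr_ct (K10.f181469 IH) (Lpe (K31.f380259 IH) (Lpe (K30.f380222 IH) (Lpr_gf (f380609 IH) (Lpe (K31.f181755 IH) (Lpe (K31.f181756 IH) (Lpe (K31.f281922 IH) (Lpe (K16.f268851 IH) (Lpr_bt (K16.f268849 IH) (Lpn (LP (LK LD1_c2 LD2_c13 LD3_c17)))))))))))))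
theorem f536076 : Led Lsl_cf (LP (LK LD1_c2 LD2_c46 LD3_c52)) = v2887 :=
  Lgr Lrot163 (Lpr_gf (K31.f281794 IH) (Lpe (K31.f268858 IH) (Lpe (f380611 IH) (Lpe (K10.f181468 IH) (Lpr_ct (K10.f181469 IH) (Lpe (K31.f380259 IH) (Lpe (K30.f380222 IH) (Lpr_bt (f494102 IH) (Lpe (f494101 IH) (Lpr_bf (f536075 IH) (Lpn v2887)))))))))))
theorem f536078 : Led Lsl_ct (LP (LK LD1_c2 LD2_c46 LD3_c52)) = v2887 :=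
  Lgr Lrot59 (Lpr_cf (f536076 IH) (Lpn v2887))
theorem f181553 : Led Lsl_dt (LP (LK LD1_c2 LD2_c46 LD3_c44)) = (LP (LK LD1_c1 LD2_c19 LD3_c48)) :=
  Lre_d IH (LK LD1_c2 LD2_c46 LD3_c44) (LK LD1_c1 LD2_c19 LD3_c48) Lrfl Lrfl
theorem f245566 : Led Lsl_ft (LP (LK LD1_c1 LD2_c20 LD3_c23)) = (LP (LK LD1_c2 LD2_c13 LD3_c41)) :=
  Lgr Lrot75 (Lpe (K30.f172607 IH) (Lpr_ff (K13.f245564 IH) (Lpe (K30.f173374 IH) (Lpn (LP (LK LD1_c2 LD2_c13 LD3_c41))))))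
theorem f176015 : Led Lsl_at (LP (LK LD1_c2 LD2_c13 LD3_c41)) = (LP (LK LD1_c4 LD2_c33 LD3_c32)) :=
  Lre_a IH (LK LD1_c2 LD2_c13 LD3_c41) (LK LD1_c4 LD2_c33 LD3_c32) Lrfl Lrfl
theorem f411974 : Led Lsl_gt (LP (LK LD1_c2 LD2_c46 LD3_c44)) = (LP (LK LD1_c4 LD2_c33 LD3_c32)) :=
  Lgr Lrot46 (Lpr_gf (K31.f411972 IH) (Lpr_ft (f245566 IH) (Lpr_at (f176015 IH) (Lpn (LP (LK LD1_c4 LD2_c33 LD3_c32))))))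
theorem f424439 : Led Lsl_cf (LP (LK LD1_c5 LD2_c40 LD3_c1)) = (LP (LK LD1_c5 LD2_c45 LD3_c10)) :=
  Lgr Lrot11 (Lpr_ct (f424386 IH) (Lpn (LP (LK LD1_c5 LD2_c45 LD3_c10))))
theorem f536080 : Led Lsl_df (LP (LK LD1_c5 LD2_c40 LD3_c1)) = v2887 :=
  Lgr Lrot162 (Lpr_cf (f424439 IH) (Lpr_gf (K31.f385558 IH) (Lpe (K30.f175989 IH) (Lpe (f411974 IH) (Lpr_dt (f181553 IH) (Lpr_gt (f380611 IH) (Lpr_ct (K31.f268858 IH) (Lpe (K31.f281794 IH) (Lpr_ct (f536078 IH) (Lpn v2887))))))))))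
theorem f536081 : Led Lsl_dt (LP (LK LD1_c2 LD2_c45 LD3_c59)) = v382 :=
  Lgr Lrot79 (Lpe (f424385 IH) (Lpr_df (f536080 IH) (Lpe (f536074 IH) (Lpn v382))))
theorem f536082 : Led Lsl_df (LP (LK LD1_c2 LD2_c45 LD3_c59)) = v382 :=
  Lgr Lrot38 (Lpr_dt (f536081 IH) (Lpn v382))
def v1471 : LQ := Led Lsl_dt (LP (LK LD1_c1 LD2_c19 LD3_c33))
theorem f495729 : Led Lsl_dt (LP (LK LD1_c1 LD2_c19 LD3_c33)) = v1471 :=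
  Lrfl
def v1225 : LQ := Led Lsl_ct (LP (LK LD1_c1 LD2_c3 LD3_c33))
theorem f494120 : Led Lsl_ct (LP (LK LD1_c1 LD2_c3 LD3_c33)) = v1225 :=
  Lrfl
theorem f194015 : Led Lsl_bt (LP (LK LD1_c1 LD2_c28 LD3_c54)) = (LP (LK LD1_c3 LD2_c5 LD3_c37)) :=
  Lre_b IH (LK LD1_c1 LD2_c28 LD3_c54) (LK LD1_c3 LD2_c5 LD3_c37) Lrfl Lrfl
theorem f494125 : Led Lsl_gf (LP (LK LD1_c1 LD2_c19 LD3_c33)) = v1225 :=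
  Lgr Lrot129 (Lpe (K35.f194007 IH) (Lpr_bt (f194015 IH) (Lpe (K13.f240783 IH) (Lpr_bf (K16.f197435 IH) (Lpe (K18.f197459 IH) (Lpe (K13.f211212 IH) (Lpe (K35.f177026 IH) (Lpr_bt (K12.f176989 IH) (Lpe (K19.f313689 IH) (Lpr_ct (f494120 IH) (Lpn v1225)))))))))))
def v329 : LQ := Led Lsl_et (LP (LK LD1_c0 LD2_c28 LD3_c61))
theorem f452173 : Led Lsl_et (LP (LK LD1_c0 LD2_c28 LD3_c61)) = v329 :=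
  Lrfl
theorem f452175 : Led Lsl_cf (LP (LK LD1_c0 LD2_c29 LD3_c1)) = v329 :=
  Lgr Lrot39 (Lpr_et (K9.f20213 IH) (Lpr_ct (K9.f29625 IH) (Lpr_et (f452173 IH) (Lpn v329))))
theorem f494124 : Led Lsl_ff v329 = v1225 :=
  Lgr Lrot23 (Lpe (f452175 IH) (Lpr_ft (K19.f20224 IH) (Lpr_ct (f494120 IH) (Lpn v1225))))
theorem f452176 : Led Lsl_ef (LP (LK LD1_c0 LD2_c28 LD3_c61)) = v329 :=
  Lgr Lrot88 (Lpr_et (f452173 IH) (Lpn v329))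
def v385 : LQ := Led Lsl_ft (LP (LK LD1_c0 LD2_c36 LD3_c54))
theorem f452552 : Led Lsl_ft (LP (LK LD1_c0 LD2_c36 LD3_c54)) = v385 :=
  Lrfl
theorem f494127 : Led Lsl_et v385 = v1225 :=
  Lgr Lrot69 (Lpe (f452552 IH) (Lpe (K18.f225433 IH) (Lpe (K24.f379941 IH) (Lpr_ef (f452176 IH) (Lpr_ff (f494124 IH) (Lpn v1225))))))
theorem f379943 : Led Lsl_et (LP (LK LD1_c1 LD2_c19 LD3_c42)) = (LP (LK LD1_c0 LD2_c36 LD3_c52)) :=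
  Lre_e IH (LK LD1_c1 LD2_c19 LD3_c42) (LK LD1_c0 LD2_c36 LD3_c52) Lrfl Lrfl
def v415 : LQ := Led Lsl_dt (LP (LK LD1_c0 LD2_c37 LD3_c61))
def v2956 : LQ := Led Lsl_ct v415
theorem f536297 : Led Lsl_ct v415 = v2956 :=
  Lrfl
theorem f452555 : Led Lsl_ff (LP (LK LD1_c0 LD2_c36 LD3_c54)) = v385 :=
  Lgr Lrot3 (Lpr_ft (f452552 IH) (Lpn v385))
theorem f334604 : Led Lsl_ft (LP (LK LD1_c0 LD2_c16 LD3_c29)) = (LP (LK LD1_c0 LD2_c36 LD3_c58)) :=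
  Lre_f IH (LK LD1_c0 LD2_c16 LD3_c29) (LK LD1_c0 LD2_c36 LD3_c58) Lrfl Lrfl
theorem f452557 : Led Lsl_ct (LP (LK LD1_c0 LD2_c36 LD3_c58)) = v385 :=
  Lgr Lrot40 (Lpe (f334604 IH) (Lpe (K18.f176923 IH) (Lpr_ff (f452555 IH) (Lpn v385))))
def v381 : LQ := Led Lsl_ft (LP (LK LD1_c0 LD2_c36 LD3_c51))
theorem f452537 : Led Lsl_ft (LP (LK LD1_c0 LD2_c36 LD3_c51)) = v381 :=
  Lrfl
theorem f380679 : Led Lsl_ft (LP (LK LD1_c0 LD2_c36 LD3_c58)) = (LP (LK LD1_c0 LD2_c16 LD3_c29)) :=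
  Lre_f IH (LK LD1_c0 LD2_c36 LD3_c58) (LK LD1_c0 LD2_c16 LD3_c29) Lrfl Lrfl
theorem f452538 : Led Lsl_bf (LP (LK LD1_c0 LD2_c36 LD3_c58)) = v381 :=
  Lgr Lrot61 (Lpr_ft (f380679 IH) (Lpr_bt (f225438 IH) (Lpr_ft (f452537 IH) (Lpn v381))))
theorem f452721 : Led Lsl_dt (LP (LK LD1_c0 LD2_c37 LD3_c61)) = v415 :=
  Lrfl
theorem f452723 : Led Lsl_df (LP (LK LD1_c0 LD2_c37 LD3_c61)) = v415 :=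
  Lgr Lrot38 (Lpr_dt (f452721 IH) (Lpn v415))
theorem f37986 : Led Lsl_dt (LP (LK LD1_c0 LD2_c16 LD3_c59)) = (LP (LK LD1_c0 LD2_c38 LD3_c0)) :=
  Lre_d IH (LK LD1_c0 LD2_c16 LD3_c59) (LK LD1_c0 LD2_c38 LD3_c0) Lrfl Lrfl
theorem f452724 : Led Lsl_bt (LP (LK LD1_c0 LD2_c38 LD3_c0)) = v415 :=
  Lgr Lrot95 (Lpe (f37986 IH) (Lpe (f74765 IH) (Lpr_df (f452723 IH) (Lpn v415))))
def v379 : LQ := Led Lsl_et (LP (LK LD1_c0 LD2_c36 LD3_c49))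
def v2884 : LQ := Led Lsl_ft v379
theorem f536058 : Led Lsl_ft v379 = v2884 :=
  Lrfl
theorem f452525 : Led Lsl_et (LP (LK LD1_c0 LD2_c36 LD3_c49)) = v379 :=
  Lrfl
theorem f452527 : Led Lsl_ef (LP (LK LD1_c0 LD2_c36 LD3_c49)) = v379 :=
  Lgr Lrot88 (Lpr_et (f452525 IH) (Lpn v379))
theorem f452529 : Led Lsl_ct (LP (LK LD1_c0 LD2_c36 LD3_c51)) = v379 :=
  Lgr Lrot15 (Lpe (K35.f313404 IH) (Lpe (K13.f193681 IH) (Lpr_ef (f452527 IH) (Lpn v379))))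
theorem f452539 : Led Lsl_ff (LP (LK LD1_c0 LD2_c36 LD3_c51)) = v381 :=
  Lgr Lrot3 (Lpr_ft (f452537 IH) (Lpn v381))
theorem f536059 : Led Lsl_cf v381 = v2884 :=
  Lgr Lrot108 (Lpe (f452539 IH) (Lpr_ct (f452529 IH) (Lpr_ft (f536058 IH) (Lpn v2884))))
def v339 : LQ := Led Lsl_dt (LP (LK LD1_c0 LD2_c29 LD3_c24))
theorem f452248 : Led Lsl_dt (LP (LK LD1_c0 LD2_c29 LD3_c24)) = v339 :=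
  Lrfl
theorem f34680 : Led Lsl_dt (LP (LK LD1_c0 LD2_c38 LD3_c0)) = (LP (LK LD1_c0 LD2_c16 LD3_c59)) :=
  Lre_d IH (LK LD1_c0 LD2_c38 LD3_c0) (LK LD1_c0 LD2_c16 LD3_c59) Lrfl Lrfl
theorem f452251 : Led Lsl_cf (LP (LK LD1_c0 LD2_c38 LD3_c0)) = v339 :=
  Lgr Lrot118 (Lpr_dt (f34680 IH) (Lpr_ct (K1.f34681 IH) (Lpr_dt (K1.f24403 IH) (Lpe (K0.f20177 IH) (Lpe (K0.f24208 IH) (Lpr_ct (K1.f34679 IH) (Lpe (K12.f164332 IH) (Lpr_ff (K12.f164317 IH) (Lpr_dt (f452248 IH) (Lpn v339))))))))))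
theorem f536060 : Led Lsl_ff v379 = v2884 :=
  Lgr Lrot3 (Lpr_ft (f536058 IH) (Lpn v2884))
theorem f334574 : Led Lsl_at (LP (LK LD1_c0 LD2_c36 LD3_c49)) = (LP (LK LD1_c0 LD2_c36 LD3_c49)) :=
  Lgr Lrot51 (Lpe (K13.f197792 IH) (Lpr_af (K22.f334572 IH) (Lpr_df (K13.f197414 IH) (Lpn (LP (LK LD1_c0 LD2_c36 LD3_c49))))))
theorem f452528 : Led Lsl_at v379 = v379 :=
  Lgr Lrot80 (Lpe (f452525 IH) (Lpe (f334574 IH) (Lpr_ef (f452527 IH) (Lpn v379))))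
def v1406 : LQ := Led Lsl_ct (LP (LK LD1_c1 LD2_c12 LD3_c46))
theorem f495395 : Led Lsl_ct (LP (LK LD1_c1 LD2_c12 LD3_c46)) = v1406 :=
  Lrfl
theorem f379961 : Led Lsl_af (LP (LK LD1_c0 LD2_c29 LD3_c3)) = (LP (LK LD1_c0 LD2_c16 LD3_c29)) :=
  Lgr Lrot68 (Lpr_ct (K10.f20778 IH) (Lpr_at (K24.f379957 IH) (Lpr_ct (K18.f176923 IH) (Lpn (LP (LK LD1_c0 LD2_c16 LD3_c29))))))
theorem f380673 : Led Lsl_at (LP (LK LD1_c0 LD2_c29 LD3_c3)) = (LP (LK LD1_c0 LD2_c16 LD3_c29)) :=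
  Lgr Lrot100 (Lpr_af (f379961 IH) (Lpn (LP (LK LD1_c0 LD2_c16 LD3_c29))))
theorem f176988 : Led Lsl_bt (LP (LK LD1_c0 LD2_c36 LD3_c51)) = (LP (LK LD1_c0 LD2_c16 LD3_c29)) :=
  Lre_b IH (LK LD1_c0 LD2_c36 LD3_c51) (LK LD1_c0 LD2_c16 LD3_c29) Lrfl Lrfl
theorem f380675 : Led Lsl_at (LP (LK LD1_c0 LD2_c36 LD3_c51)) = (LP (LK LD1_c0 LD2_c36 LD3_c51)) :=
  Lgr Lrot67 (Lpe (f225438 IH) (Lpe (f380673 IH) (Lpe (K10.f181443 IH) (Lpr_af (f379961 IH) (Lpe (f176988 IH) (Lpn (LP (LK LD1_c0 LD2_c36 LD3_c51))))))))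
theorem f452542 : Led Lsl_gf (LP (LK LD1_c1 LD2_c12 LD3_c46)) = v381 :=
  Lgr Lrot47 (Lpe (K35.f396369 IH) (Lpe (f380675 IH) (Lpr_ff (f452539 IH) (Lpn v381))))
theorem f452541 : Led Lsl_bt (LP (LK LD1_c0 LD2_c36 LD3_c58)) = v381 :=
  Lgr Lrot35 (Lpe (f334604 IH) (Lpe (f176988 IH) (Lpr_ff (f452539 IH) (Lpn v381))))
theorem f379959 : Led Lsl_af (LP (LK LD1_c1 LD2_c3 LD3_c36)) = (LP (LK LD1_c0 LD2_c36 LD3_c54)) :=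
  Lgr Lrot0 (Lpr_at (K24.f379957 IH) (Lpn (LP (LK LD1_c0 LD2_c36 LD3_c54))))
theorem f452558 : Led Lsl_gf (LP (LK LD1_c1 LD2_c13 LD3_c57)) = v385 :=
  Lgr Lrot47 (Lpr_gt (K16.f210596 IH) (Lpr_af (f379959 IH) (Lpr_ff (f452555 IH) (Lpn v385))))
theorem f301791 : Led Lsl_af (LP (LK LD1_c1 LD2_c13 LD3_c57)) = (LP (LK LD1_c1 LD2_c12 LD3_c29)) :=
  Lgr Lrot50 (Lpr_et (K18.f61291 IH) (Lpr_at (K18.f301786 IH) (Lpr_et (K18.f68548 IH) (Lpn (LP (LK LD1_c1 LD2_c12 LD3_c29))))))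
theorem f452559 : Led Lsl_gt (LP (LK LD1_c1 LD2_c31 LD3_c27)) = v385 :=
  Lgr Lrot5 (Lpr_ft (K18.f301869 IH) (Lpe (f301791 IH) (Lpr_gf (f452558 IH) (Lpn v385))))
theorem f495398 : Led Lsl_gf v379 = v1406 :=
  Lgr Lrot129 (Lpe (f452529 IH) (Lpr_bt (f176988 IH) (Lpr_gt (K9.f176832 IH) (Lpe (K24.f205100 IH) (Lpr_ct (K11.f25944 IH) (Lpr_gt (f452559 IH) (Lpe (f452557 IH) (Lpr_bt (f452541 IH) (Lpe (f452542 IH) (Lpr_ct (f495395 IH) (Lpn v1406)))))))))))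
theorem f536063 : Led Lsl_gf v1406 = v2884 :=
  Lgr Lrot47 (Lpe (f495398 IH) (Lpe (f452528 IH) (Lpr_ff (f536060 IH) (Lpn v2884))))
def v363 : LQ := Led Lsl_ct (LP (LK LD1_c0 LD2_c33 LD3_c43))
theorem f452425 : Led Lsl_ct (LP (LK LD1_c0 LD2_c33 LD3_c43)) = v363 :=
  Lrfl
theorem f452426 : Led Lsl_cf (LP (LK LD1_c0 LD2_c33 LD3_c43)) = v363 :=
  Lgr Lrot11 (Lpr_ct (f452425 IH) (Lpn v363))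
theorem f495397 : Led Lsl_ef v363 = v1406 :=
  Lgr Lrot28 (Lpe (f452426 IH) (Lpr_et (K35.f240629 IH) (Lpr_ct (f495395 IH) (Lpn v1406))))
theorem f495399 : Led Lsl_et v363 = v1406 :=
  Lgr Lrot87 (Lpr_ef (f495397 IH) (Lpn v1406))
theorem f452427 : Led Lsl_ff (LP (LK LD1_c1 LD2_c12 LD3_c47)) = v363 :=
  Lgr Lrot23 (Lpr_ct (K35.f165233 IH) (Lpr_ft (K20.f315144 IH) (Lpr_ct (f452425 IH) (Lpn v363))))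
theorem f452429 : Led Lsl_ft (LP (LK LD1_c1 LD2_c12 LD3_c47)) = v363 :=
  Lgr Lrot48 (Lpr_ff (f452427 IH) (Lpn v363))
theorem f315148 : Led Lsl_af (LP (LK LD1_c1 LD2_c12 LD3_c47)) = (LP (LK LD1_c1 LD2_c12 LD3_c47)) :=
  Lgr Lrot68 (Lpr_ct (K35.f165233 IH) (Lpr_at (K35.f315146 IH) (Lpr_ct (K10.f165232 IH) (Lpn (LP (LK LD1_c1 LD2_c12 LD3_c47))))))
theorem f452430 : Led Lsl_af v363 = v363 :=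
  Lgr Lrot45 (Lpe (f452427 IH) (Lpe (f315148 IH) (Lpr_ft (f452429 IH) (Lpn v363))))
theorem f495400 : Led Lsl_af v1406 = v1406 :=
  Lgr Lrot50 (Lpe (f495397 IH) (Lpe (f452430 IH) (Lpr_et (f495399 IH) (Lpn v1406))))
theorem f495396 : Led Lsl_cf (LP (LK LD1_c1 LD2_c12 LD3_c46)) = v1406 :=
  Lgr Lrot11 (Lpr_ct (f495395 IH) (Lpn v1406))
theorem f495754 : Led Lsl_ff v1406 = K35.v1476 :=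
  Lgr Lrot23 (Lpe (f495396 IH) (Lpe (K35.f396367 IH) (Lpr_ct (K35.f495751 IH) (Lpn K35.v1476))))
theorem f536064 : Led Lsl_gt K35.v1476 = v2884 :=
  Lgr Lrot5 (Lpe (f495754 IH) (Lpe (f495400 IH) (Lpr_gf (f536063 IH) (Lpn v2884))))
theorem f452249 : Led Lsl_df (LP (LK LD1_c0 LD2_c29 LD3_c24)) = v339 :=
  Lgr Lrot38 (Lpr_dt (f452248 IH) (Lpn v339))
theorem f452640 : Led Lsl_gf v339 = K35.v398 :=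
  Lgr Lrot143 (Lpe (f452249 IH) (Lpe (K0.f26576 IH) (Lpr_df (K1.f37279 IH) (Lpe (K0.f416 IH) (Lpr_df (K1.f37144 IH) (Lpr_gf (K1.f37256 IH) (Lpe (K35.f37095 IH) (Lpr_gt (K11.f37277 IH) (Lpr_dt (K35.f452636 IH) (Lpn K35.v398))))))))))
theorem f536626 : v2884 = v339 :=
  Lefun (Lecon (f536064 IH) (K35.f536620 IH)) (Lfl_gf (f452640 IH))
theorem f536652 : v381 = (LP (LK LD1_c0 LD2_c38 LD3_c0)) :=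
  Lefun (Lecon (Lfl_cf (f536059 IH)) (f536626 IH)) (Lfl_cf (f452251 IH))
theorem f536715 : (LP (LK LD1_c0 LD2_c36 LD3_c58)) = v415 :=
  Lefun (Lecon (Lfl_bf (f452538 IH)) (f536652 IH)) (f452724 IH)
theorem f536818 : v2956 = v385 :=
  Lefun (Lecon (f536297 IH) (f536715 IH).symm) (f452557 IH)
def v1483 : LQ := Led Lsl_ct (LP (LK LD1_c1 LD2_c19 LD3_c42))
theorem f495798 : Led Lsl_ct (LP (LK LD1_c1 LD2_c19 LD3_c42)) = v1483 :=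
  Lrfl
theorem f495800 : Led Lsl_cf (LP (LK LD1_c1 LD2_c19 LD3_c42)) = v1483 :=
  Lgr Lrot11 (Lpr_ct (f495798 IH) (Lpn v1483))
theorem f379946 : Led Lsl_et (LP (LK LD1_c0 LD2_c36 LD3_c52)) = (LP (LK LD1_c1 LD2_c19 LD3_c42)) :=
  Lre_e IH (LK LD1_c0 LD2_c36 LD3_c52) (LK LD1_c1 LD2_c19 LD3_c42) Lrfl Lrfl
theorem f495801 : Led Lsl_ef K30.v378 = v1483 :=
  Lgr Lrot28 (Lpe (K30.f452523 IH) (Lpr_et (f379946 IH) (Lpr_ct (f495798 IH) (Lpn v1483))))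
theorem f495802 : Led Lsl_bt v379 = v1483 :=
  Lgr Lrot119 (Lpe (f452525 IH) (Lpr_bf (K30.f452522 IH) (Lpr_ef (f495801 IH) (Lpn v1483))))
theorem f495756 : Led Lsl_ft v1406 = K35.v1476 :=
  Lgr Lrot48 (Lpr_ff (f495754 IH) (Lpn K35.v1476))
theorem f495757 : Led Lsl_af K35.v1476 = K35.v1476 :=
  Lgr Lrot45 (Lpe (f495754 IH) (Lpe (f495400 IH) (Lpr_ft (f495756 IH) (Lpn K35.v1476))))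
theorem f495758 : Led Lsl_gt v379 = K35.v1476 :=
  Lgr Lrot46 (Lpr_gf (f495398 IH) (Lpr_ft (f495756 IH) (Lpe (f495757 IH) (Lpn K35.v1476))))
theorem f452642 : Led Lsl_gf K35.v398 = (LP (LK LD1_c0 LD2_c38 LD3_c0)) :=
  Lgr Lrot172 (Lpe (K35.f452639 IH) (Lpe (K35.f452632 IH) (Lpe (K1.f37107 IH) (Lpe (K1.f20424 IH) (Lpe (K4.f21179 IH) (Lpe (K1.f37153 IH) (Lpr_dt (K35.f452636 IH) (Lpe (f452640 IH) (Lpe (f452251 IH) (Lpn (LP (LK LD1_c0 LD2_c38 LD3_c0))))))))))))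
theorem f536627 : v379 = (LP (LK LD1_c0 LD2_c38 LD3_c0)) :=
  Lefun (Lecon (Lfl_gt (f495758 IH)) (K35.f536620 IH)) (f452642 IH)
theorem f536654 : v1483 = v415 :=
  Lefun (Lecon (f495802 IH) (f536627 IH)) (f452724 IH)
theorem f536719 : (LP (LK LD1_c1 LD2_c19 LD3_c42)) = v2956 :=
  Lefun (Lecon (Lfl_cf (f495800 IH)) (f536654 IH)) (f536297 IH)
theorem f537011 : v1225 = (LP (LK LD1_c0 LD2_c36 LD3_c52)) :=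
  Lefun (Lecon (f494127 IH) ((f536818 IH).symm.trans (f536719 IH).symm)) (f379943 IH)
theorem f537175 : (LP (LK LD1_c1 LD2_c19 LD3_c33)) = v382 :=
  Lefun (Lecon (Lfl_gf (f494125 IH)) (f537011 IH)) (f452544 IH)
theorem f537436 : (LP (LK LD1_c2 LD2_c45 LD3_c59)) = v1471 :=
  Lefun (Lecon (Lfl_df (f536082 IH)) (f537175 IH).symm) (f495729 IH)
theorem f494122 : Led Lsl_cf (LP (LK LD1_c1 LD2_c3 LD3_c33)) = v1225 :=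
  Lgr Lrot11 (Lpr_ct (f494120 IH) (Lpn v1225))
theorem f60153 : Led Lsl_ct (LP (LK LD1_c0 LD2_c37 LD3_c17)) = (LP (LK LD1_c0 LD2_c16 LD3_c38)) :=
  Lre_c IH (LK LD1_c0 LD2_c37 LD3_c17) (LK LD1_c0 LD2_c16 LD3_c38) Lrfl Lrfl
theorem f60210 : Led Lsl_dt (LP (LK LD1_c4 LD2_c31 LD3_c54)) = (LP (LK LD1_c2 LD2_c12 LD3_c58)) :=
  Lre_d IH (LK LD1_c4 LD2_c31 LD3_c54) (LK LD1_c2 LD2_c12 LD3_c58) Lrfl Lrfl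
theorem f313699 : Led Lsl_gt (LP (LK LD1_c1 LD2_c3 LD3_c33)) = (LP (LK LD1_c0 LD2_c36 LD3_c46)) :=
  Lgr Lrot49 (Lpr_df (K19.f313693 IH) (Lpe (K19.f60154 IH) (Lpe (f60153 IH) (Lpr_gt (K10.f60159 IH) (Lpr_dt (K16.f68595 IH) (Lpr_gt (K16.f175511 IH) (Lpr_dt (f60210 IH) (Lpe (K16.f20228 IH) (Lpr_df (K9.f60205 IH) (Lpn (LP (LK LD1_c0 LD2_c36 LD3_c46))))))))))))
theorem f313676 : Led Lsl_gt (LP (LK LD1_c1 LD2_c3 LD3_c31)) = (LP (LK LD1_c0 LD2_c36 LD3_c48)) :=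
  Lgr Lrot94 (Lpe (K10.f60211 IH) (Lpr_gt (K16.f268655 IH) (Lpr_dt (K16.f68732 IH) (Lpe (K16.f268657 IH) (Lpr_dt (K1.f59931 IH) (Lpe (K9.f59927 IH) (Lpe (K9.f60101 IH) (Lpe (K9.f60197 IH) (Lpr_df (K19.f313668 IH) (Lpn (LP (LK LD1_c0 LD2_c36 LD3_c48))))))))))))
theorem f24236 : Led Lsl_dt (LP (LK LD1_c3 LD2_c0 LD3_c58)) = (LP (LK LD1_c1 LD2_c26 LD3_c17)) :=
  Lre_d IH (LK LD1_c3 LD2_c0 LD3_c58) (LK LD1_c1 LD2_c26 LD3_c17) Lrfl Lrfl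
theorem f495731 : Led Lsl_gf (LP (LK LD1_c3 LD2_c0 LD3_c58)) = v1471 :=
  Lgr Lrot143 (Lpr_dt (f24236 IH) (Lpe (K19.f9537 IH) (Lpr_df (K19.f313668 IH) (Lpe (f313676 IH) (Lpr_df (K9.f60205 IH) (Lpe (f313699 IH) (Lpr_cf (f494122 IH) (Lpe (f494125 IH) (Lpr_dt (f495729 IH) (Lpn v1471))))))))))
theorem f176757 : Led Lsl_ct (LP (LK LD1_c3 LD2_c0 LD3_c58)) = (LP (LK LD1_c6 LD2_c9 LD3_c9)) :=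
  Lre_c IH (LK LD1_c3 LD2_c0 LD3_c58) (LK LD1_c6 LD2_c9 LD3_c9) Lrfl Lrfl
theorem f538923 : Led Lsl_gf (LP (LK LD1_c5 LD2_c40 LD3_c8)) = (LP (LK LD1_c6 LD2_c9 LD3_c9)) :=
  Lgr Lrot129 (Lpe (f538921 IH) (Lpr_bt (f538917 IH) (Lpr_gt (K31.f407038 IH) (Lpe (f297012 IH) (Lpr_ct (K30.f175989 IH) (Lpe (K31.f385558 IH) (Lpe (f424386 IH) (Lpr_bt (f424385 IH) (Lpqs (f537436 IH) (Lpe (f495731 IH) (Lpr_ct (f176757 IH) (Lpn (LP (LK LD1_c6 LD2_c9 LD3_c9))))))))))))))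
theorem f538925 : Led Lsl_bt (LP (LK LD1_c3 LD2_c0 LD3_c58)) = (LP (LK LD1_c2 LD2_c44 LD3_c58)) :=
  Lgr Lrot92 (Lpr_ct (f176757 IH) (Lpe (f538923 IH) (Lpe (f538921 IH) (Lpr_bt (f538917 IH) (Lpr_gt (K31.f407038 IH) (Lpr_ct (K30.f168288 IH) (Lpe (K31.f385452 IH) (Lpe (K31.f174752 IH) (Lpr_bt (K31.f174749 IH) (Lpr_gt (K31.f380401 IH) (Lpn (LP (LK LD1_c2 LD2_c44 LD3_c58)))))))))))))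
theorem f24237 : Led Lsl_et (LP (LK LD1_c6 LD2_c9 LD3_c10)) = (LP (LK LD1_c3 LD2_c0 LD3_c58)) :=
  Lre_e IH (LK LD1_c6 LD2_c9 LD3_c10) (LK LD1_c3 LD2_c0 LD3_c58) Lrfl Lrfl
theorem f380421 : Led Lsl_et (LP (LK LD1_c2 LD2_c44 LD3_c58)) = (LP (LK LD1_c5 LD2_c38 LD3_c5)) :=
  Lre_e IH (LK LD1_c2 LD2_c44 LD3_c58) (LK LD1_c5 LD2_c38 LD3_c5) Lrfl Lrfl
theorem f538932 : Led Lsl_bf (LP (LK LD1_c6 LD2_c9 LD3_c10)) = (LP (LK LD1_c5 LD2_c38 LD3_c5)) :=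
  Lgr Lrot96 (Lpr_et (f24237 IH) (Lpr_bt (f538925 IH) (Lpr_et (f380421 IH) (Lpn (LP (LK LD1_c5 LD2_c38 LD3_c5))))))
theorem f24234 : Led Lsl_dt (LP (LK LD1_c1 LD2_c26 LD3_c17)) = (LP (LK LD1_c3 LD2_c0 LD3_c58)) :=
  Lre_d IH (LK LD1_c1 LD2_c26 LD3_c17) (LK LD1_c3 LD2_c0 LD3_c58) Lrfl Lrfl
theorem f24235 : Led Lsl_et (LP (LK LD1_c3 LD2_c0 LD3_c58)) = (LP (LK LD1_c6 LD2_c9 LD3_c10)) :=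
  Lre_e IH (LK LD1_c3 LD2_c0 LD3_c58) (LK LD1_c6 LD2_c9 LD3_c10) Lrfl Lrfl
theorem f101581 : Led Lsl_et (LP (LK LD1_c5 LD2_c0 LD3_c26)) = (LP (LK LD1_c2 LD2_c27 LD3_c57)) :=
  Lre_e IH (LK LD1_c5 LD2_c0 LD3_c26) (LK LD1_c2 LD2_c27 LD3_c57) Lrfl Lrfl
theorem f176733 : Led Lsl_dt (LP (LK LD1_c6 LD2_c9 LD3_c10)) = (LP (LK LD1_c5 LD2_c0 LD3_c26)) :=
  Lgr Lrot77 (Lpe (f24235 IH) (Lpe (f24234 IH) (Lpe (K19.f24231 IH) (Lpr_df (K10.f176718 IH) (Lpe (f101581 IH) (Lpn (LP (LK LD1_c5 LD2_c0 LD3_c26))))))))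
theorem f176736 : Led Lsl_bt (LP (LK LD1_c5 LD2_c0 LD3_c26)) = (LP (LK LD1_c9 LD2_c51 LD3_c12)) :=
  Lre_b IH (LK LD1_c5 LD2_c0 LD3_c26) (LK LD1_c9 LD2_c51 LD3_c12) Lrfl Lrfl
theorem f538938 : Led Lsl_dt (LP (LK LD1_c9 LD2_c51 LD3_c12)) = (LP (LK LD1_c5 LD2_c38 LD3_c5)) :=
  Lgr Lrot79 (Lpe (f176736 IH) (Lpe (f176733 IH) (Lpr_bf (f538932 IH) (Lpn (LP (LK LD1_c5 LD2_c38 LD3_c5))))))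
theorem f334905 : Led Lsl_et (LP (LK LD1_c5 LD2_c0 LD3_c25)) = (LP (LK LD1_c9 LD2_c51 LD3_c12)) :=
  Lre_e IH (LK LD1_c5 LD2_c0 LD3_c25) (LK LD1_c9 LD2_c51 LD3_c12) Lrfl Lrfl
theorem f380414 : Led Lsl_et (LP (LK LD1_c5 LD2_c38 LD3_c5)) = (LP (LK LD1_c2 LD2_c44 LD3_c58)) :=
  Lre_e IH (LK LD1_c5 LD2_c38 LD3_c5) (LK LD1_c2 LD2_c44 LD3_c58) Lrfl Lrfl
theorem f380412 : Led Lsl_et (LP (LK LD1_c1 LD2_c18 LD3_c47)) = (LP (LK LD1_c2 LD2_c44 LD3_c59)) :=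
  Lre_e IH (LK LD1_c1 LD2_c18 LD3_c47) (LK LD1_c2 LD2_c44 LD3_c59) Lrfl Lrfl
theorem f538942 : Led Lsl_df (LP (LK LD1_c5 LD2_c0 LD3_c25)) = (LP (LK LD1_c2 LD2_c44 LD3_c59)) :=
  Lgr Lrot70 (Lpr_et (f334905 IH) (Lpr_dt (f538938 IH) (Lpr_et (f380414 IH) (Lpr_dt (K35.f380405 IH) (Lpr_et (f380412 IH) (Lpn (LP (LK LD1_c2 LD2_c44 LD3_c59))))))))
theorem f186161 : Led Lsl_df (LP (LK LD1_c2 LD2_c58 LD3_c7)) = (LP (LK LD1_c2 LD2_c58 LD3_c3)) :=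
  Lgr Lrot84 (Lpe (K35.f172126 IH) (Lpe (K35.f22432 IH) (Lpr_gf (K9.f172121 IH) (Lpe (K9.f100595 IH) (Lpe (K11.f186148 IH) (Lpr_cf (K11.f186150 IH) (Lpr_gt (K11.f9343 IH) (Lpr_dt (K0.f9339 IH) (Lpe (K11.f9344 IH) (Lpn (LP (LK LD1_c2 LD2_c58 LD3_c3))))))))))))
theorem f334683 : Led Lsl_ft (LP (LK LD1_c4 LD2_c39 LD3_c26)) = (LP (LK LD1_c2 LD2_c58 LD3_c3)) :=
  Lgr Lrot54 (Lpr_df (K10.f177701 IH) (Lpr_ff (K35.f334677 IH) (Lpr_df (f186161 IH) (Lpn (LP (LK LD1_c2 LD2_c58 LD3_c3))))))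
theorem f334689 : Led Lsl_af (LP (LK LD1_c4 LD2_c39 LD3_c27)) = (LP (LK LD1_c2 LD2_c58 LD3_c3)) :=
  Lgr Lrot31 (Lpe (K9.f24002 IH) (Lpe (K10.f176450 IH) (Lpr_ft (f334683 IH) (Lpn (LP (LK LD1_c2 LD2_c58 LD3_c3))))))
theorem f186156 : Led Lsl_ct (LP (LK LD1_c2 LD2_c58 LD3_c14)) = (LP (LK LD1_c2 LD2_c58 LD3_c3)) :=
  Lgr Lrot59 (Lpr_cf (K11.f186150 IH) (Lpn (LP (LK LD1_c2 LD2_c58 LD3_c3))))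
theorem f334694 : Led Lsl_at (LP (LK LD1_c2 LD2_c27 LD3_c57)) = (LP (LK LD1_c2 LD2_c58 LD3_c14)) :=
  Lgr Lrot107 (Lpe (K9.f176126 IH) (Lpr_af (f334689 IH) (Lpe (f186156 IH) (Lpn (LP (LK LD1_c2 LD2_c58 LD3_c14))))))
theorem f172132 : Led Lsl_gf (LP (LK LD1_c2 LD2_c58 LD3_c14)) = (LP (LK LD1_c2 LD2_c26 LD3_c50)) :=
  Lgr Lrot143 (Lpr_dt (K11.f9453 IH) (Lpe (K11.f9452 IH) (Lpe (K12.f9451 IH) (Lpe (K12.f9450 IH) (Lpr_df (K0.f9409 IH) (Lpe (K9.f9421 IH) (Lpe (K9.f9422 IH) (Lpr_gt (K9.f172123 IH) (Lpr_dt (K9.f100682 IH) (Lpn (LP (LK LD1_c2 LD2_c26 LD3_c50))))))))))))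
theorem f334710 : Led Lsl_ff (LP (LK LD1_c2 LD2_c27 LD3_c57)) = (LP (LK LD1_c2 LD2_c58 LD3_c13)) :=
  Lgr Lrot52 (Lpr_at (f334694 IH) (Lpr_gf (f172132 IH) (Lpe (K10.f186042 IH) (Lpn (LP (LK LD1_c2 LD2_c58 LD3_c13))))))
theorem f176515 : Led Lsl_bt (LP (LK LD1_c2 LD2_c27 LD3_c57)) = (LP (LK LD1_c5 LD2_c0 LD3_c25)) :=
  Lre_b IH (LK LD1_c2 LD2_c27 LD3_c57) (LK LD1_c5 LD2_c0 LD3_c25) Lrfl Lrfl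
theorem f186050 : Led Lsl_bt (LP (LK LD1_c6 LD2_c4 LD3_c11)) = (LP (LK LD1_c2 LD2_c58 LD3_c13)) :=
  Lre_b IH (LK LD1_c6 LD2_c4 LD3_c11) (LK LD1_c2 LD2_c58 LD3_c13) Lrfl Lrfl
theorem f334714 : Led Lsl_ft (LP (LK LD1_c5 LD2_c0 LD3_c25)) = (LP (LK LD1_c6 LD2_c4 LD3_c11)) :=
  Lgr Lrot75 (Lpe (f176515 IH) (Lpr_ff (f334710 IH) (Lpe (f186050 IH) (Lpn (LP (LK LD1_c6 LD2_c4 LD3_c11))))))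
theorem f334868 : Led Lsl_dt (LP (LK LD1_c6 LD2_c4 LD3_c11)) = (LP (LK LD1_c2 LD2_c58 LD3_c12)) :=
  Lre_d IH (LK LD1_c6 LD2_c4 LD3_c11) (LK LD1_c2 LD2_c58 LD3_c12) Lrfl Lrfl
theorem f538950 : Led Lsl_ft (LP (LK LD1_c2 LD2_c58 LD3_c12)) = (LP (LK LD1_c2 LD2_c44 LD3_c59)) :=
  Lgr Lrot54 (Lpe (f334868 IH) (Lpe (f334714 IH) (Lpr_df (f538942 IH) (Lpn (LP (LK LD1_c2 LD2_c44 LD3_c59))))))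
theorem f186446 : Led Lsl_dt (LP (LK LD1_c2 LD2_c58 LD3_c12)) = (LP (LK LD1_c6 LD2_c4 LD3_c11)) :=
  Lre_d IH (LK LD1_c2 LD2_c58 LD3_c12) (LK LD1_c6 LD2_c4 LD3_c11) Lrfl Lrfl
theorem f186052 : Led Lsl_ct (LP (LK LD1_c6 LD2_c4 LD3_c11)) = (LP (LK LD1_c11 LD2_c51 LD3_c54)) :=
  Lre_c IH (LK LD1_c6 LD2_c4 LD3_c11) (LK LD1_c11 LD2_c51 LD3_c54) Lrfl Lrfl
theorem f380443 : Led Lsl_at (LP (LK LD1_c2 LD2_c44 LD3_c59)) = (LP (LK LD1_c1 LD2_c18 LD3_c49)) :=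
  Lre_a IH (LK LD1_c2 LD2_c44 LD3_c59) (LK LD1_c1 LD2_c18 LD3_c49) Lrfl Lrfl
theorem f164699 : Led Lsl_bt (LP (LK LD1_c0 LD2_c36 LD3_c20)) = (LP (LK LD1_c1 LD2_c18 LD3_c49)) :=
  Lre_b IH (LK LD1_c0 LD2_c36 LD3_c20) (LK LD1_c1 LD2_c18 LD3_c49) Lrfl Lrfl
theorem f24523 : Led Lsl_ct (LP (LK LD1_c0 LD2_c36 LD3_c20)) = (LP (LK LD1_c0 LD2_c16 LD3_c10)) :=
  Lre_c IH (LK LD1_c0 LD2_c36 LD3_c20) (LK LD1_c0 LD2_c16 LD3_c10) Lrfl Lrfl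
theorem f24532 : Led Lsl_bt (LP (LK LD1_c1 LD2_c18 LD3_c49)) = (LP (LK LD1_c0 LD2_c36 LD3_c20)) :=
  Lre_b IH (LK LD1_c1 LD2_c18 LD3_c49) (LK LD1_c0 LD2_c36 LD3_c20) Lrfl Lrfl
theorem f177838 : Led Lsl_ct (LP (LK LD1_c1 LD2_c18 LD3_c49)) = (LP (LK LD1_c1 LD2_c18 LD3_c49)) :=
  Lgr Lrot83 (Lpe (f164699 IH) (Lpe (K9.f24250 IH) (Lpr_bf (K9.f177836 IH) (Lpe (f24523 IH) (Lpe (f24532 IH) (Lpn (LP (LK LD1_c1 LD2_c18 LD3_c49))))))))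
theorem f211715 : Led Lsl_ct (LP (LK LD1_c5 LD2_c38 LD3_c27)) = (LP (LK LD1_c2 LD2_c45 LD3_c4)) :=
  Lre_c IH (LK LD1_c5 LD2_c38 LD3_c27) (LK LD1_c2 LD2_c45 LD3_c4) Lrfl Lrfl
theorem f211716 : Led Lsl_dt (LP (LK LD1_c11 LD2_c8 LD3_c13)) = (LP (LK LD1_c5 LD2_c38 LD3_c27)) :=
  Lre_d IH (LK LD1_c11 LD2_c8 LD3_c13) (LK LD1_c5 LD2_c38 LD3_c27) Lrfl Lrfl
theorem f422723 : Led Lsl_ct (LP (LK LD1_c20 LD2_c1 LD3_c52)) = (LP (LK LD1_c11 LD2_c8 LD3_c13)) :=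
  Lre_c IH (LK LD1_c20 LD2_c1 LD3_c52) (LK LD1_c11 LD2_c8 LD3_c13) Lrfl Lrfl
theorem f538960 : Led Lsl_dt (LP (LK LD1_c11 LD2_c51 LD3_c54)) = (LP (LK LD1_c20 LD2_c1 LD3_c52)) :=
  Lgr Lrot32 (Lpe (f186052 IH) (Lpe (f186446 IH) (Lpr_ft (f538950 IH) (Lpr_at (f380443 IH) (Lpe (f177838 IH) (Lpe (K35.f422722 IH) (Lpe (f211715 IH) (Lpe (f211716 IH) (Lpe (f422723 IH) (Lpn (LP (LK LD1_c20 LD2_c1 LD3_c52))))))))))))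
theorem f334722 : Led Lsl_ft (LP (LK LD1_c2 LD2_c27 LD3_c57)) = (LP (LK LD1_c2 LD2_c58 LD3_c13)) :=
  Lgr Lrot48 (Lpr_ff (f334710 IH) (Lpn (LP (LK LD1_c2 LD2_c58 LD3_c13))))
theorem f186099 : Led Lsl_ct (LP (LK LD1_c2 LD2_c58 LD3_c13)) = (LP (LK LD1_c2 LD2_c58 LD3_c2)) :=
  Lgr Lrot59 (Lpr_cf (K11.f186053 IH) (Lpn (LP (LK LD1_c2 LD2_c58 LD3_c2))))
theorem f334728 : Led Lsl_ff (LP (LK LD1_c4 LD2_c39 LD3_c27)) = (LP (LK LD1_c2 LD2_c58 LD3_c2)) :=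
  Lgr Lrot23 (Lpr_ct (K9.f176126 IH) (Lpr_ft (f334722 IH) (Lpr_ct (f186099 IH) (Lpn (LP (LK LD1_c2 LD2_c58 LD3_c2))))))
theorem f334667 : Led Lsl_at (LP (LK LD1_c4 LD2_c39 LD3_c27)) = (LP (LK LD1_c2 LD2_c58 LD3_c3)) :=
  Lgr Lrot51 (Lpe (K10.f176697 IH) (Lpr_af (K35.f334661 IH) (Lpr_df (f186161 IH) (Lpn (LP (LK LD1_c2 LD2_c58 LD3_c3))))))
theorem f186284 : Led Lsl_dt (LP (LK LD1_c2 LD2_c58 LD3_c7)) = (LP (LK LD1_c2 LD2_c58 LD3_c3)) :=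
  Lgr Lrot42 (Lpr_df (f186161 IH) (Lpn (LP (LK LD1_c2 LD2_c58 LD3_c3))))
theorem f334675 : Led Lsl_ff (LP (LK LD1_c4 LD2_c39 LD3_c26)) = (LP (LK LD1_c2 LD2_c58 LD3_c3)) :=
  Lgr Lrot19 (Lpe (K10.f176774 IH) (Lpr_ft (K35.f334669 IH) (Lpr_dt (f186284 IH) (Lpn (LP (LK LD1_c2 LD2_c58 LD3_c3))))))
theorem f334732 : Led Lsl_at (LP (LK LD1_c4 LD2_c39 LD3_c26)) = (LP (LK LD1_c2 LD2_c58 LD3_c2)) :=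
  Lgr Lrot66 (Lpr_ff (f334675 IH) (Lpe (f334667 IH) (Lpr_ff (f334728 IH) (Lpn (LP (LK LD1_c2 LD2_c58 LD3_c2))))))
theorem f176457 : Led Lsl_et (LP (LK LD1_c9 LD2_c14 LD3_c34)) = (LP (LK LD1_c4 LD2_c39 LD3_c26)) :=
  Lre_e IH (LK LD1_c9 LD2_c14 LD3_c34) (LK LD1_c4 LD2_c39 LD3_c26) Lrfl Lrfl
theorem f186422 : Led Lsl_et (LP (LK LD1_c2 LD2_c58 LD3_c2)) = (LP (LK LD1_c6 LD2_c3 LD3_c56)) :=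
  Lre_e IH (LK LD1_c2 LD2_c58 LD3_c2) (LK LD1_c6 LD2_c3 LD3_c56) Lrfl Lrfl
theorem f334786 : Led Lsl_af (LP (LK LD1_c9 LD2_c14 LD3_c34)) = (LP (LK LD1_c6 LD2_c3 LD3_c56)) :=
  Lgr Lrot50 (Lpr_et (f176457 IH) (Lpr_at (f334732 IH) (Lpr_et (f186422 IH) (Lpn (LP (LK LD1_c6 LD2_c3 LD3_c56))))))
theorem f176532 : Led Lsl_cf (LP (LK LD1_c9 LD2_c14 LD3_c34)) = (LP (LK LD1_c5 LD2_c0 LD3_c24)) :=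
  Lgr Lrot39 (Lpr_et (f176457 IH) (Lpr_ct (K10.f176524 IH) (Lpr_et (K17.f176531 IH) (Lpn (LP (LK LD1_c5 LD2_c0 LD3_c24))))))
theorem f176537 : Led Lsl_ct (LP (LK LD1_c9 LD2_c14 LD3_c34)) = (LP (LK LD1_c5 LD2_c0 LD3_c24)) :=
  Lgr Lrot59 (Lpr_cf (f176532 IH) (Lpn (LP (LK LD1_c5 LD2_c0 LD3_c24))))
theorem f26707 : Led Lsl_et (LP (LK LD1_c2 LD2_c58 LD3_c13)) = (LP (LK LD1_c6 LD2_c4 LD3_c12)) :=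
  Lre_e IH (LK LD1_c2 LD2_c58 LD3_c13) (LK LD1_c6 LD2_c4 LD3_c12) Lrfl Lrfl
theorem f186101 : Led Lsl_et (LP (LK LD1_c6 LD2_c3 LD3_c56)) = (LP (LK LD1_c2 LD2_c58 LD3_c2)) :=
  Lre_e IH (LK LD1_c6 LD2_c3 LD3_c56) (LK LD1_c2 LD2_c58 LD3_c2) Lrfl Lrfl
theorem f186102 : Led Lsl_ct (LP (LK LD1_c6 LD2_c4 LD3_c12)) = (LP (LK LD1_c6 LD2_c3 LD3_c56)) :=
  Lgr Lrot15 (Lpe (f26707 IH) (Lpr_cf (K11.f186053 IH) (Lpe (f186101 IH) (Lpn (LP (LK LD1_c6 LD2_c3 LD3_c56))))))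
theorem f334794 : Led Lsl_at (LP (LK LD1_c5 LD2_c0 LD3_c24)) = (LP (LK LD1_c6 LD2_c4 LD3_c12)) :=
  Lgr Lrot107 (Lpe (f176537 IH) (Lpr_af (f334786 IH) (Lpe (f186102 IH) (Lpn (LP (LK LD1_c6 LD2_c4 LD3_c12))))))
theorem f177692 : Led Lsl_df (LP (LK LD1_c5 LD2_c0 LD3_c24)) = (LP (LK LD1_c5 LD2_c5 LD3_c51)) :=
  Lgr Lrot38 (Lpr_dt (K17.f177685 IH) (Lpn (LP (LK LD1_c5 LD2_c5 LD3_c51))))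
theorem f165726 : Led Lsl_et (LP (LK LD1_c5 LD2_c7 LD3_c9)) = (LP (LK LD1_c2 LD2_c30 LD3_c55)) :=
  Lre_e IH (LK LD1_c5 LD2_c7 LD3_c9) (LK LD1_c2 LD2_c30 LD3_c55) Lrfl Lrfl
theorem f194042 : Led Lsl_dt (LP (LK LD1_c6 LD2_c4 LD3_c12)) = (LP (LK LD1_c5 LD2_c7 LD3_c9)) :=
  Lgr Lrot77 (Lpe (f26707 IH) (Lpe (K10.f176841 IH) (Lpr_ef (K35.f186829 IH) (Lpr_df (K10.f194035 IH) (Lpe (f165726 IH) (Lpn (LP (LK LD1_c5 LD2_c7 LD3_c9))))))))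
theorem f334823 : Led Lsl_af (LP (LK LD1_c5 LD2_c5 LD3_c51)) = (LP (LK LD1_c5 LD2_c7 LD3_c9)) :=
  Lgr Lrot117 (Lpe (f177692 IH) (Lpr_at (f334794 IH) (Lpr_dt (f194042 IH) (Lpn (LP (LK LD1_c5 LD2_c7 LD3_c9))))))
theorem f177190 : Led Lsl_ft (LP (LK LD1_c5 LD2_c5 LD3_c51)) = (LP (LK LD1_c10 LD2_c2 LD3_c42)) :=
  Lre_f IH (LK LD1_c5 LD2_c5 LD3_c51) (LK LD1_c10 LD2_c2 LD3_c42) Lrfl Lrfl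
theorem f165719 : Led Lsl_ft (LP (LK LD1_c10 LD2_c4 LD3_c58)) = (LP (LK LD1_c5 LD2_c7 LD3_c9)) :=
  Lre_f IH (LK LD1_c10 LD2_c4 LD3_c58) (LK LD1_c5 LD2_c7 LD3_c9) Lrfl Lrfl
theorem f334831 : Led Lsl_at (LP (LK LD1_c10 LD2_c2 LD3_c42)) = (LP (LK LD1_c10 LD2_c4 LD3_c58)) :=
  Lgr Lrot66 (Lpe (f177190 IH) (Lpr_af (f334823 IH) (Lpe (f165719 IH) (Lpn (LP (LK LD1_c10 LD2_c4 LD3_c58))))))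
theorem f176540 : Led Lsl_ft (LP (LK LD1_c9 LD2_c51 LD3_c10)) = (LP (LK LD1_c5 LD2_c0 LD3_c24)) :=
  Lre_f IH (LK LD1_c9 LD2_c51 LD3_c10) (LK LD1_c5 LD2_c0 LD3_c24) Lrfl Lrfl
theorem f177694 : Led Lsl_df (LP (LK LD1_c9 LD2_c51 LD3_c10)) = (LP (LK LD1_c10 LD2_c2 LD3_c42)) :=
  Lgr Lrot78 (Lpr_ft (f176540 IH) (Lpr_dt (K17.f177685 IH) (Lpr_ft (f177190 IH) (Lpn (LP (LK LD1_c10 LD2_c2 LD3_c42))))))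
theorem f177696 : Led Lsl_dt (LP (LK LD1_c9 LD2_c51 LD3_c10)) = (LP (LK LD1_c10 LD2_c2 LD3_c42)) :=
  Lgr Lrot42 (Lpr_df (f177694 IH) (Lpn (LP (LK LD1_c10 LD2_c2 LD3_c42))))
theorem f176539 : Led Lsl_ft (LP (LK LD1_c9 LD2_c14 LD3_c34)) = (LP (LK LD1_c17 LD2_c8 LD3_c55)) :=
  Lre_f IH (LK LD1_c9 LD2_c14 LD3_c34) (LK LD1_c17 LD2_c8 LD3_c55) Lrfl Lrfl
theorem f186416 : Led Lsl_ft (LP (LK LD1_c11 LD2_c51 LD3_c25)) = (LP (LK LD1_c6 LD2_c3 LD3_c56)) :=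
  Lre_f IH (LK LD1_c11 LD2_c51 LD3_c25) (LK LD1_c6 LD2_c3 LD3_c56) Lrfl Lrfl
theorem f334798 : Led Lsl_at (LP (LK LD1_c17 LD2_c8 LD3_c55)) = (LP (LK LD1_c11 LD2_c51 LD3_c25)) :=
  Lgr Lrot66 (Lpe (f176539 IH) (Lpr_af (f334786 IH) (Lpe (f186416 IH) (Lpn (LP (LK LD1_c11 LD2_c51 LD3_c25))))))
theorem f176541 : Led Lsl_ct (LP (LK LD1_c17 LD2_c8 LD3_c55)) = (LP (LK LD1_c9 LD2_c51 LD3_c10)) :=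
  Lgr Lrot40 (Lpe (f176539 IH) (Lpr_cf (f176532 IH) (Lpe (f176540 IH) (Lpn (LP (LK LD1_c9 LD2_c51 LD3_c10))))))
theorem f176547 : Led Lsl_cf (LP (LK LD1_c17 LD2_c8 LD3_c55)) = (LP (LK LD1_c9 LD2_c51 LD3_c10)) :=
  Lgr Lrot11 (Lpr_ct (f176541 IH) (Lpn (LP (LK LD1_c9 LD2_c51 LD3_c10))))
theorem f186397 : Led Lsl_ft (LP (LK LD1_c11 LD2_c51 LD3_c58)) = (LP (LK LD1_c6 LD2_c4 LD3_c12)) :=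
  Lre_f IH (LK LD1_c11 LD2_c51 LD3_c58) (LK LD1_c6 LD2_c4 LD3_c12) Lrfl Lrfl
theorem f186398 : Led Lsl_ft (LP (LK LD1_c6 LD2_c3 LD3_c56)) = (LP (LK LD1_c11 LD2_c51 LD3_c25)) :=
  Lre_f IH (LK LD1_c6 LD2_c3 LD3_c56) (LK LD1_c11 LD2_c51 LD3_c25) Lrfl Lrfl
theorem f186399 : Led Lsl_cf (LP (LK LD1_c11 LD2_c51 LD3_c58)) = (LP (LK LD1_c11 LD2_c51 LD3_c25)) :=
  Lgr Lrot108 (Lpr_ft (f186397 IH) (Lpr_ct (f186102 IH) (Lpr_ft (f186398 IH) (Lpn (LP (LK LD1_c11 LD2_c51 LD3_c25))))))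
theorem f334802 : Led Lsl_af (LP (LK LD1_c9 LD2_c51 LD3_c10)) = (LP (LK LD1_c11 LD2_c51 LD3_c58)) :=
  Lgr Lrot68 (Lpe (f176547 IH) (Lpr_at (f334798 IH) (Lpe (f186399 IH) (Lpn (LP (LK LD1_c11 LD2_c51 LD3_c58))))))
theorem f334837 : Led Lsl_df (LP (LK LD1_c11 LD2_c51 LD3_c58)) = (LP (LK LD1_c10 LD2_c4 LD3_c58)) :=
  Lgr Lrot18 (Lpe (f334802 IH) (Lpr_dt (f177696 IH) (Lpr_at (f334831 IH) (Lpn (LP (LK LD1_c10 LD2_c4 LD3_c58))))))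
theorem f334841 : Led Lsl_dt (LP (LK LD1_c11 LD2_c51 LD3_c58)) = (LP (LK LD1_c10 LD2_c4 LD3_c58)) :=
  Lgr Lrot42 (Lpr_df (f334837 IH) (Lpn (LP (LK LD1_c10 LD2_c4 LD3_c58))))
theorem f186415 : Led Lsl_ft (LP (LK LD1_c6 LD2_c4 LD3_c12)) = (LP (LK LD1_c11 LD2_c51 LD3_c58)) :=
  Lre_f IH (LK LD1_c6 LD2_c4 LD3_c12) (LK LD1_c11 LD2_c51 LD3_c58) Lrfl Lrfl
theorem f334843 : Led Lsl_df (LP (LK LD1_c6 LD2_c4 LD3_c12)) = (LP (LK LD1_c5 LD2_c7 LD3_c9)) :=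
  Lgr Lrot78 (Lpr_ft (f186415 IH) (Lpr_dt (f334841 IH) (Lpr_ft (f165719 IH) (Lpn (LP (LK LD1_c5 LD2_c7 LD3_c9))))))
theorem f186403 : Led Lsl_bt (LP (LK LD1_c6 LD2_c4 LD3_c12)) = (LP (LK LD1_c11 LD2_c51 LD3_c55)) :=
  Lre_b IH (LK LD1_c6 LD2_c4 LD3_c12) (LK LD1_c11 LD2_c51 LD3_c55) Lrfl Lrfl
theorem f165716 : Led Lsl_bt (LP (LK LD1_c10 LD2_c4 LD3_c56)) = (LP (LK LD1_c5 LD2_c7 LD3_c9)) :=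
  Lre_b IH (LK LD1_c10 LD2_c4 LD3_c56) (LK LD1_c5 LD2_c7 LD3_c9) Lrfl Lrfl
theorem f334845 : Led Lsl_dt (LP (LK LD1_c11 LD2_c51 LD3_c55)) = (LP (LK LD1_c10 LD2_c4 LD3_c56)) :=
  Lgr Lrot79 (Lpe (f186403 IH) (Lpr_df (f334843 IH) (Lpe (f165716 IH) (Lpn (LP (LK LD1_c10 LD2_c4 LD3_c56))))))
theorem f334854 : Led Lsl_df (LP (LK LD1_c11 LD2_c51 LD3_c55)) = (LP (LK LD1_c10 LD2_c4 LD3_c56)) :=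
  Lgr Lrot38 (Lpr_dt (f334845 IH) (Lpn (LP (LK LD1_c10 LD2_c4 LD3_c56))))
theorem f334862 : Led Lsl_et (LP (LK LD1_c11 LD2_c51 LD3_c55)) = (LP (LK LD1_c6 LD2_c4 LD3_c11)) :=
  Lre_e IH (LK LD1_c11 LD2_c51 LD3_c55) (LK LD1_c6 LD2_c4 LD3_c11) Lrfl Lrfl
theorem f334865 : Led Lsl_et (LP (LK LD1_c5 LD2_c7 LD3_c8)) = (LP (LK LD1_c10 LD2_c4 LD3_c56)) :=
  Lre_e IH (LK LD1_c5 LD2_c7 LD3_c8) (LK LD1_c10 LD2_c4 LD3_c56) Lrfl Lrfl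
theorem f186826 : Led Lsl_bt (LP (LK LD1_c1 LD2_c13 LD3_c26)) = (LP (LK LD1_c2 LD2_c33 LD3_c1)) :=
  Lre_b IH (LK LD1_c1 LD2_c13 LD3_c26) (LK LD1_c2 LD2_c33 LD3_c1) Lrfl Lrfl
theorem f165697 : Led Lsl_bt (LP (LK LD1_c5 LD2_c7 LD3_c8)) = (LP (LK LD1_c2 LD2_c30 LD3_c55)) :=
  Lre_b IH (LK LD1_c5 LD2_c7 LD3_c8) (LK LD1_c2 LD2_c30 LD3_c55) Lrfl Lrfl
theorem f194038 : Led Lsl_dt (LP (LK LD1_c2 LD2_c33 LD3_c1)) = (LP (LK LD1_c5 LD2_c7 LD3_c8)) :=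
  Lgr Lrot79 (Lpe (f186826 IH) (Lpr_df (K10.f194035 IH) (Lpe (f165697 IH) (Lpn (LP (LK LD1_c5 LD2_c7 LD3_c8))))))
theorem f334869 : Led Lsl_et (LP (LK LD1_c2 LD2_c58 LD3_c12)) = (LP (LK LD1_c2 LD2_c33 LD3_c1)) :=
  Lgr Lrot71 (Lpe (f334868 IH) (Lpe (f334862 IH) (Lpr_df (f334854 IH) (Lpe (f334865 IH) (Lpe (f194038 IH) (Lpn (LP (LK LD1_c2 LD2_c33 LD3_c1))))))))
theorem f334856 : Led Lsl_et (LP (LK LD1_c6 LD2_c4 LD3_c11)) = (LP (LK LD1_c11 LD2_c51 LD3_c55)) :=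
  Lre_e IH (LK LD1_c6 LD2_c4 LD3_c11) (LK LD1_c11 LD2_c51 LD3_c55) Lrfl Lrfl
theorem f26701 : Led Lsl_bt (LP (LK LD1_c2 LD2_c58 LD3_c12)) = (LP (LK LD1_c1 LD2_c24 LD3_c46)) :=
  Lre_b IH (LK LD1_c2 LD2_c58 LD3_c12) (LK LD1_c1 LD2_c24 LD3_c46) Lrfl Lrfl
theorem f186827 : Led Lsl_ef (LP (LK LD1_c2 LD2_c58 LD3_c12)) = (LP (LK LD1_c2 LD2_c33 LD3_c1)) :=
  Lgr Lrot29 (Lpr_bt (f26701 IH) (Lpr_et (K10.f186824 IH) (Lpr_bt (f186826 IH) (Lpn (LP (LK LD1_c2 LD2_c33 LD3_c1))))))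
theorem f334857 : Led Lsl_et (LP (LK LD1_c10 LD2_c4 LD3_c56)) = (LP (LK LD1_c5 LD2_c7 LD3_c8)) :=
  Lre_e IH (LK LD1_c10 LD2_c4 LD3_c56) (LK LD1_c5 LD2_c7 LD3_c8) Lrfl Lrfl
theorem f334858 : Led Lsl_df (LP (LK LD1_c2 LD2_c33 LD3_c1)) = (LP (LK LD1_c5 LD2_c7 LD3_c8)) :=
  Lgr Lrot70 (Lpe (f186827 IH) (Lpr_dt (f186446 IH) (Lpr_et (f334856 IH) (Lpr_dt (f334845 IH) (Lpr_et (f334857 IH) (Lpn (LP (LK LD1_c5 LD2_c7 LD3_c8))))))))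
theorem f177315 : Led Lsl_bt (LP (LK LD1_c2 LD2_c30 LD3_c11)) = (LP (LK LD1_c5 LD2_c5 LD3_c52)) :=
  Lre_b IH (LK LD1_c2 LD2_c30 LD3_c11) (LK LD1_c5 LD2_c5 LD3_c52) Lrfl Lrfl
theorem f313845 : Led Lsl_ft (LP (LK LD1_c5 LD2_c5 LD3_c52)) = (LP (LK LD1_c5 LD2_c7 LD3_c8)) :=
  Lgr Lrot75 (Lpe (f177315 IH) (Lpr_ff (K19.f313843 IH) (Lpe (f165697 IH) (Lpn (LP (LK LD1_c5 LD2_c7 LD3_c8))))))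
theorem f205069 : Led Lsl_dt (LP (LK LD1_c2 LD2_c30 LD3_c10)) = (LP (LK LD1_c5 LD2_c5 LD3_c52)) :=
  Lre_d IH (LK LD1_c2 LD2_c30 LD3_c10) (LK LD1_c5 LD2_c5 LD3_c52) Lrfl Lrfl
theorem f334863 : Led Lsl_ft (LP (LK LD1_c2 LD2_c33 LD3_c1)) = (LP (LK LD1_c2 LD2_c30 LD3_c10)) :=
  Lgr Lrot54 (Lpr_df (f334858 IH) (Lpe (f313845 IH) (Lpe (f205069 IH) (Lpn (LP (LK LD1_c2 LD2_c30 LD3_c10))))))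
theorem f164694 : Led Lsl_bt (LP (LK LD1_c1 LD2_c12 LD3_c6)) = (LP (LK LD1_c2 LD2_c30 LD3_c10)) :=
  Lre_b IH (LK LD1_c1 LD2_c12 LD3_c6) (LK LD1_c2 LD2_c30 LD3_c10) Lrfl Lrfl
theorem f164100 : Led Lsl_bt (LP (LK LD1_c2 LD2_c30 LD3_c10)) = (LP (LK LD1_c1 LD2_c12 LD3_c6)) :=
  Lre_b IH (LK LD1_c2 LD2_c30 LD3_c10) (LK LD1_c1 LD2_c12 LD3_c6) Lrfl Lrfl
theorem f204915 : Led Lsl_ct (LP (LK LD1_c2 LD2_c30 LD3_c10)) = (LP (LK LD1_c2 LD2_c30 LD3_c10)) :=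
  Lgr Lrot83 (Lpe (f164694 IH) (Lpe (K9.f163700 IH) (Lpr_bf (K12.f204913 IH) (Lpe (K9.f163704 IH) (Lpe (f164100 IH) (Lpn (LP (LK LD1_c2 LD2_c30 LD3_c10))))))))
theorem f186837 : Led Lsl_bt (LP (LK LD1_c2 LD2_c33 LD3_c1)) = (LP (LK LD1_c1 LD2_c13 LD3_c26)) :=
  Lre_b IH (LK LD1_c2 LD2_c33 LD3_c1) (LK LD1_c1 LD2_c13 LD3_c26) Lrfl Lrfl
theorem f313833 : Led Lsl_ft (LP (LK LD1_c2 LD2_c30 LD3_c10)) = (LP (LK LD1_c2 LD2_c33 LD3_c1)) :=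
  Lgr Lrot75 (Lpe (f164694 IH) (Lpr_ff (K19.f313831 IH) (Lpe (f186837 IH) (Lpn (LP (LK LD1_c2 LD2_c33 LD3_c1))))))
theorem f334866 : Led Lsl_cf (LP (LK LD1_c2 LD2_c33 LD3_c1)) = (LP (LK LD1_c2 LD2_c33 LD3_c1)) :=
  Lgr Lrot108 (Lpr_ft (f334863 IH) (Lpr_ct (f204915 IH) (Lpr_ft (f313833 IH) (Lpn (LP (LK LD1_c2 LD2_c33 LD3_c1))))))
theorem f334871 : Led Lsl_cf (LP (LK LD1_c2 LD2_c58 LD3_c12)) = (LP (LK LD1_c2 LD2_c58 LD3_c12)) :=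
  Lgr Lrot39 (Lpr_et (f334869 IH) (Lpe (f334866 IH) (Lpe (f186827 IH) (Lpn (LP (LK LD1_c2 LD2_c58 LD3_c12))))))
theorem f186051 : Led Lsl_ct (LP (LK LD1_c11 LD2_c51 LD3_c54)) = (LP (LK LD1_c6 LD2_c4 LD3_c11)) :=
  Lre_c IH (LK LD1_c11 LD2_c51 LD3_c54) (LK LD1_c6 LD2_c4 LD3_c11) Lrfl Lrfl
theorem f422724 : Led Lsl_dt (LP (LK LD1_c1 LD2_c18 LD3_c49)) = (LP (LK LD1_c2 LD2_c45 LD3_c4)) :=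
  Lre_d IH (LK LD1_c1 LD2_c18 LD3_c49) (LK LD1_c2 LD2_c45 LD3_c4) Lrfl Lrfl
theorem f165059 : Led Lsl_ct (LP (LK LD1_c2 LD2_c45 LD3_c4)) = (LP (LK LD1_c5 LD2_c38 LD3_c27)) :=
  Lre_c IH (LK LD1_c2 LD2_c45 LD3_c4) (LK LD1_c5 LD2_c38 LD3_c27) Lrfl Lrfl
theorem f422725 : Led Lsl_dt (LP (LK LD1_c5 LD2_c38 LD3_c27)) = (LP (LK LD1_c11 LD2_c8 LD3_c13)) :=
  Lre_d IH (LK LD1_c5 LD2_c38 LD3_c27) (LK LD1_c11 LD2_c8 LD3_c13) Lrfl Lrfl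
theorem f422726 : Led Lsl_ct (LP (LK LD1_c11 LD2_c8 LD3_c13)) = (LP (LK LD1_c20 LD2_c1 LD3_c52)) :=
  Lre_c IH (LK LD1_c11 LD2_c8 LD3_c13) (LK LD1_c20 LD2_c1 LD3_c52) Lrfl Lrfl
theorem f538966 : Led Lsl_df (LP (LK LD1_c11 LD2_c51 LD3_c54)) = (LP (LK LD1_c20 LD2_c1 LD3_c52)) :=
  Lgr Lrot43 (Lpr_ct (f186051 IH) (Lpr_dt (f334868 IH) (Lpe (f334871 IH) (Lpr_dt (f186446 IH) (Lpr_ct (f186052 IH) (Lpr_dt (f538960 IH) (Lpr_ct (f422723 IH) (Lpr_dt (f211716 IH) (Lpr_ct (f211715 IH) (Lpr_dt (K35.f422722 IH) (Lpr_ct (f177838 IH) (Lpr_dt (f422724 IH) (Lpr_ct (f165059 IH) (Lpr_dt (f422725 IH) (Lpr_ct (f422726 IH) (Lpn (LP (LK LD1_c20 LD2_c1 LD3_c52))))))))))))))))))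
theorem f176526 : Led Lsl_bt (LP (LK LD1_c4 LD2_c39 LD3_c27)) = (LP (LK LD1_c9 LD2_c14 LD3_c35)) :=
  Lre_b IH (LK LD1_c4 LD2_c39 LD3_c27) (LK LD1_c9 LD2_c14 LD3_c35) Lrfl Lrfl
theorem f186095 : Led Lsl_bt (LP (LK LD1_c6 LD2_c3 LD3_c55)) = (LP (LK LD1_c2 LD2_c58 LD3_c2)) :=
  Lre_b IH (LK LD1_c6 LD2_c3 LD3_c55) (LK LD1_c2 LD2_c58 LD3_c2) Lrfl Lrfl
theorem f334734 : Led Lsl_ft (LP (LK LD1_c9 LD2_c14 LD3_c35)) = (LP (LK LD1_c6 LD2_c3 LD3_c55)) :=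
  Lgr Lrot75 (Lpe (f176526 IH) (Lpr_ff (f334728 IH) (Lpe (f186095 IH) (Lpn (LP (LK LD1_c6 LD2_c3 LD3_c55))))))
theorem f334745 : Led Lsl_ff (LP (LK LD1_c9 LD2_c14 LD3_c35)) = (LP (LK LD1_c6 LD2_c3 LD3_c55)) :=
  Lgr Lrot3 (Lpr_ft (f334734 IH) (Lpn (LP (LK LD1_c6 LD2_c3 LD3_c55))))
theorem f176124 : Led Lsl_ct (LP (LK LD1_c9 LD2_c14 LD3_c35)) = (LP (LK LD1_c17 LD2_c8 LD3_c58)) :=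
  Lre_c IH (LK LD1_c9 LD2_c14 LD3_c35) (LK LD1_c17 LD2_c8 LD3_c58) Lrfl Lrfl
theorem f186096 : Led Lsl_ct (LP (LK LD1_c11 LD2_c51 LD3_c22)) = (LP (LK LD1_c6 LD2_c3 LD3_c55)) :=
  Lre_c IH (LK LD1_c11 LD2_c51 LD3_c22) (LK LD1_c6 LD2_c3 LD3_c55) Lrfl Lrfl
theorem f334756 : Led Lsl_ft (LP (LK LD1_c17 LD2_c8 LD3_c58)) = (LP (LK LD1_c11 LD2_c51 LD3_c22)) :=
  Lgr Lrot4 (Lpe (f176124 IH) (Lpr_ff (f334745 IH) (Lpe (f186096 IH) (Lpn (LP (LK LD1_c11 LD2_c51 LD3_c22))))))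
theorem f176123 : Led Lsl_bt (LP (LK LD1_c9 LD2_c14 LD3_c35)) = (LP (LK LD1_c4 LD2_c39 LD3_c27)) :=
  Lre_b IH (LK LD1_c9 LD2_c14 LD3_c35) (LK LD1_c4 LD2_c39 LD3_c27) Lrfl Lrfl
theorem f176514 : Led Lsl_ct (LP (LK LD1_c17 LD2_c8 LD3_c58)) = (LP (LK LD1_c9 LD2_c14 LD3_c35)) :=
  Lre_c IH (LK LD1_c17 LD2_c8 LD3_c58) (LK LD1_c9 LD2_c14 LD3_c35) Lrfl Lrfl
theorem f101580 : Led Lsl_ct (LP (LK LD1_c5 LD2_c0 LD3_c25)) = (LP (LK LD1_c9 LD2_c51 LD3_c11)) :=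
  Lre_c IH (LK LD1_c5 LD2_c0 LD3_c25) (LK LD1_c9 LD2_c51 LD3_c11) Lrfl Lrfl
theorem f176516 : Led Lsl_bf (LP (LK LD1_c17 LD2_c8 LD3_c58)) = (LP (LK LD1_c9 LD2_c51 LD3_c11)) :=
  Lgr Lrot90 (Lpr_ct (f176514 IH) (Lpr_bt (f176123 IH) (Lpr_ct (K9.f176126 IH) (Lpr_bt (f176515 IH) (Lpr_ct (f101580 IH) (Lpn (LP (LK LD1_c9 LD2_c51 LD3_c11))))))))
theorem f186394 : Led Lsl_cf (LP (LK LD1_c6 LD2_c4 LD3_c12)) = (LP (LK LD1_c6 LD2_c3 LD3_c56)) :=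
  Lgr Lrot11 (Lpr_ct (f186102 IH) (Lpn (LP (LK LD1_c6 LD2_c3 LD3_c56))))
theorem f186417 : Led Lsl_ct (LP (LK LD1_c11 LD2_c51 LD3_c55)) = (LP (LK LD1_c20 LD2_c54 LD3_c32)) :=
  Lre_c IH (LK LD1_c11 LD2_c51 LD3_c55) (LK LD1_c20 LD2_c54 LD3_c32) Lrfl Lrfl
theorem f186418 : Led Lsl_bt (LP (LK LD1_c11 LD2_c51 LD3_c23)) = (LP (LK LD1_c6 LD2_c3 LD3_c56)) :=
  Lre_b IH (LK LD1_c11 LD2_c51 LD3_c23) (LK LD1_c6 LD2_c3 LD3_c56) Lrfl Lrfl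
theorem f186419 : Led Lsl_ct (LP (LK LD1_c20 LD2_c53 LD3_c42)) = (LP (LK LD1_c11 LD2_c51 LD3_c23)) :=
  Lre_c IH (LK LD1_c20 LD2_c53 LD3_c42) (LK LD1_c11 LD2_c51 LD3_c23) Lrfl Lrfl
theorem f186420 : Led Lsl_bt (LP (LK LD1_c20 LD2_c54 LD3_c32)) = (LP (LK LD1_c20 LD2_c53 LD3_c42)) :=
  Lgr Lrot128 (Lpe (f186417 IH) (Lpe (f186403 IH) (Lpr_cf (f186394 IH) (Lpe (f186418 IH) (Lpe (f186419 IH) (Lpn (LP (LK LD1_c20 LD2_c53 LD3_c42))))))))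
theorem f186423 : Led Lsl_et (LP (LK LD1_c11 LD2_c51 LD3_c54)) = (LP (LK LD1_c20 LD2_c54 LD3_c32)) :=
  Lre_e IH (LK LD1_c11 LD2_c51 LD3_c54) (LK LD1_c20 LD2_c54 LD3_c32) Lrfl Lrfl
theorem f186424 : Led Lsl_et (LP (LK LD1_c20 LD2_c53 LD3_c42)) = (LP (LK LD1_c11 LD2_c51 LD3_c22)) :=
  Lre_e IH (LK LD1_c20 LD2_c53 LD3_c42) (LK LD1_c11 LD2_c51 LD3_c22) Lrfl Lrfl
theorem f186425 : Led Lsl_bf (LP (LK LD1_c11 LD2_c51 LD3_c54)) = (LP (LK LD1_c11 LD2_c51 LD3_c22)) :=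
  Lgr Lrot96 (Lpr_et (f186423 IH) (Lpr_bt (f186420 IH) (Lpr_et (f186424 IH) (Lpn (LP (LK LD1_c11 LD2_c51 LD3_c22))))))
theorem f334764 : Led Lsl_ff (LP (LK LD1_c9 LD2_c51 LD3_c11)) = (LP (LK LD1_c11 LD2_c51 LD3_c54)) :=
  Lgr Lrot25 (Lpe (f176516 IH) (Lpr_ft (f334756 IH) (Lpe (f186425 IH) (Lpn (LP (LK LD1_c11 LD2_c51 LD3_c54))))))
theorem f334774 : Led Lsl_ft (LP (LK LD1_c9 LD2_c51 LD3_c11)) = (LP (LK LD1_c11 LD2_c51 LD3_c54)) :=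
  Lgr Lrot48 (Lpr_ff (f334764 IH) (Lpn (LP (LK LD1_c11 LD2_c51 LD3_c54))))
theorem f334776 : Led Lsl_dt (LP (LK LD1_c18 LD2_c2 LD3_c20)) = (LP (LK LD1_c9 LD2_c51 LD3_c11)) :=
  Lre_d IH (LK LD1_c18 LD2_c2 LD3_c20) (LK LD1_c9 LD2_c51 LD3_c11) Lrfl Lrfl
theorem f538968 : Led Lsl_ff (LP (LK LD1_c18 LD2_c2 LD3_c20)) = (LP (LK LD1_c20 LD2_c1 LD3_c52)) :=
  Lgr Lrot19 (Lpr_dt (f334776 IH) (Lpr_ft (f334774 IH) (Lpr_dt (f538960 IH) (Lpn (LP (LK LD1_c20 LD2_c1 LD3_c52))))))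
theorem f538972 : Led Lsl_at (LP (LK LD1_c18 LD2_c2 LD3_c20)) = (LP (LK LD1_c11 LD2_c8 LD3_c13)) :=
  Lgr Lrot33 (Lpr_ff (f538968 IH) (Lpe (f538966 IH) (Lpr_ct (f186051 IH) (Lpr_dt (f334868 IH) (Lpe (f334871 IH) (Lpr_dt (f186446 IH) (Lpr_ct (f186052 IH) (Lpr_dt (f538960 IH) (Lpr_ct (f422723 IH) (Lpn (LP (LK LD1_c11 LD2_c8 LD3_c13))))))))))))
theorem f334772 : Led Lsl_dt (LP (LK LD1_c9 LD2_c51 LD3_c11)) = (LP (LK LD1_c18 LD2_c2 LD3_c20)) :=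
  Lre_d IH (LK LD1_c9 LD2_c51 LD3_c11) (LK LD1_c18 LD2_c2 LD3_c20) Lrfl Lrfl
theorem f538978 : Led Lsl_af (LP (LK LD1_c9 LD2_c51 LD3_c11)) = (LP (LK LD1_c5 LD2_c38 LD3_c27)) :=
  Lgr Lrot117 (Lpr_dt (f334772 IH) (Lpr_at (f538972 IH) (Lpr_dt (f211716 IH) (Lpn (LP (LK LD1_c5 LD2_c38 LD3_c27))))))
theorem f538994 : Led Lsl_ft (LP (LK LD1_c11 LD2_c8 LD3_c14)) = (LP (LK LD1_c5 LD2_c38 LD3_c27)) :=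
  Lre_f IH (LK LD1_c11 LD2_c8 LD3_c14) (LK LD1_c5 LD2_c38 LD3_c27) Lrfl Lrfl
theorem f538995 : Led Lsl_at (LP (LK LD1_c11 LD2_c51 LD3_c54)) = (LP (LK LD1_c11 LD2_c8 LD3_c14)) :=
  Lgr Lrot66 (Lpe (f334774 IH) (Lpr_af (f538978 IH) (Lpe (f538994 IH) (Lpn (LP (LK LD1_c11 LD2_c8 LD3_c14))))))
theorem f380353 : Led Lsl_ct (LP (LK LD1_c5 LD2_c38 LD3_c28)) = (LP (LK LD1_c11 LD2_c8 LD3_c14)) :=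
  Lre_c IH (LK LD1_c5 LD2_c38 LD3_c28) (LK LD1_c11 LD2_c8 LD3_c14) Lrfl Lrfl
theorem f380303 : Led Lsl_dt (LP (LK LD1_c2 LD2_c45 LD3_c5)) = (LP (LK LD1_c5 LD2_c38 LD3_c28)) :=
  Lre_d IH (LK LD1_c2 LD2_c45 LD3_c5) (LK LD1_c5 LD2_c38 LD3_c28) Lrfl Lrfl
theorem f380314 : Led Lsl_ct (LP (LK LD1_c2 LD2_c45 LD3_c5)) = (LP (LK LD1_c2 LD2_c45 LD3_c5)) :=
  Lgr Lrot15 (Lpe (K35.f380290 IH) (Lpe (K35.f177830 IH) (Lpr_ef (K35.f380307 IH) (Lpn (LP (LK LD1_c2 LD2_c45 LD3_c5))))))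
theorem f380317 : Led Lsl_dt (LP (LK LD1_c5 LD2_c38 LD3_c28)) = (LP (LK LD1_c2 LD2_c45 LD3_c5)) :=
  Lre_d IH (LK LD1_c5 LD2_c38 LD3_c28) (LK LD1_c2 LD2_c45 LD3_c5) Lrfl Lrfl
theorem f380351 : Led Lsl_ct (LP (LK LD1_c11 LD2_c8 LD3_c14)) = (LP (LK LD1_c5 LD2_c38 LD3_c28)) :=
  Lre_c IH (LK LD1_c11 LD2_c8 LD3_c14) (LK LD1_c5 LD2_c38 LD3_c28) Lrfl Lrfl
theorem f380352 : Led Lsl_dt (LP (LK LD1_c20 LD2_c1 LD3_c54)) = (LP (LK LD1_c11 LD2_c8 LD3_c14)) :=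
  Lre_d IH (LK LD1_c20 LD2_c1 LD3_c54) (LK LD1_c11 LD2_c8 LD3_c14) Lrfl Lrfl
theorem f539005 : Led Lsl_ct (LP (LK LD1_c18 LD2_c2 LD3_c20)) = (LP (LK LD1_c20 LD2_c1 LD3_c54)) :=
  Lgr Lrot133 (Lpe (f334772 IH) (Lpr_ft (f334774 IH) (Lpr_at (f538995 IH) (Lpe (f380353 IH) (Lpe (f380303 IH) (Lpe (f380314 IH) (Lpe (f380317 IH) (Lpe (f380351 IH) (Lpe (f380352 IH) (Lpn (LP (LK LD1_c20 LD2_c1 LD3_c54))))))))))))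
theorem f380435 : Led Lsl_et (LP (LK LD1_c2 LD2_c44 LD3_c59)) = (LP (LK LD1_c1 LD2_c18 LD3_c47)) :=
  Lre_e IH (LK LD1_c2 LD2_c44 LD3_c59) (LK LD1_c1 LD2_c18 LD3_c47) Lrfl Lrfl
theorem f380440 : Led Lsl_cf (LP (LK LD1_c2 LD2_c44 LD3_c59)) = (LP (LK LD1_c2 LD2_c44 LD3_c59)) :=
  Lgr Lrot39 (Lpr_et (f380435 IH) (Lpr_ct (K35.f380433 IH) (Lpr_et (f380412 IH) (Lpn (LP (LK LD1_c2 LD2_c44 LD3_c59))))))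
theorem f538948 : Led Lsl_dt (LP (LK LD1_c5 LD2_c0 LD3_c25)) = (LP (LK LD1_c2 LD2_c44 LD3_c59)) :=
  Lgr Lrot42 (Lpr_df (f538942 IH) (Lpn (LP (LK LD1_c2 LD2_c44 LD3_c59))))
theorem f539013 : Led Lsl_at (LP (LK LD1_c6 LD2_c4 LD3_c11)) = (LP (LK LD1_c5 LD2_c38 LD3_c28)) :=
  Lgr Lrot33 (Lpe (f334714 IH) (Lpr_dt (f538948 IH) (Lpe (f380440 IH) (Lpe (f538942 IH) (Lpr_ct (f101580 IH) (Lpr_dt (f334772 IH) (Lpr_ct (f539005 IH) (Lpr_dt (f380352 IH) (Lpr_ct (f380351 IH) (Lpn (LP (LK LD1_c5 LD2_c38 LD3_c28))))))))))))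
theorem f380355 : Led Lsl_ft (LP (LK LD1_c5 LD2_c38 LD3_c28)) = (LP (LK LD1_c2 LD2_c45 LD3_c4)) :=
  Lre_f IH (LK LD1_c5 LD2_c38 LD3_c28) (LK LD1_c2 LD2_c45 LD3_c4) Lrfl Lrfl
theorem f539019 : Led Lsl_af (LP (LK LD1_c5 LD2_c0 LD3_c25)) = (LP (LK LD1_c2 LD2_c45 LD3_c4)) :=
  Lgr Lrot45 (Lpr_ft (f334714 IH) (Lpr_at (f539013 IH) (Lpr_ft (f380355 IH) (Lpn (LP (LK LD1_c2 LD2_c45 LD3_c4))))))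
theorem f101579 : Led Lsl_bt (LP (LK LD1_c5 LD2_c0 LD3_c25)) = (LP (LK LD1_c2 LD2_c27 LD3_c57)) :=
  Lre_b IH (LK LD1_c5 LD2_c0 LD3_c25) (LK LD1_c2 LD2_c27 LD3_c57) Lrfl Lrfl
theorem f380390 : Led Lsl_bt (LP (LK LD1_c1 LD2_c18 LD3_c53)) = (LP (LK LD1_c2 LD2_c45 LD3_c4)) :=
  Lre_b IH (LK LD1_c1 LD2_c18 LD3_c53) (LK LD1_c2 LD2_c45 LD3_c4) Lrfl Lrfl
theorem f380311 : Led Lsl_bt (LP (LK LD1_c1 LD2_c18 LD3_c54)) = (LP (LK LD1_c2 LD2_c45 LD3_c5)) :=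
  Lre_b IH (LK LD1_c1 LD2_c18 LD3_c54) (LK LD1_c2 LD2_c45 LD3_c5) Lrfl Lrfl
theorem f334499 : Led Lsl_cf (LP (LK LD1_c1 LD2_c18 LD3_c54)) = (LP (LK LD1_c0 LD2_c36 LD3_c23)) :=
  Lgr Lrot1 (Lpe (K12.f211685 IH) (Lpr_ct (K12.f20719 IH) (Lpr_at (K22.f334493 IH) (Lpn (LP (LK LD1_c0 LD2_c36 LD3_c23))))))
theorem f211690 : Led Lsl_bt (LP (LK LD1_c2 LD2_c45 LD3_c5)) = (LP (LK LD1_c1 LD2_c18 LD3_c54)) :=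
  Lre_b IH (LK LD1_c2 LD2_c45 LD3_c5) (LK LD1_c1 LD2_c18 LD3_c54) Lrfl Lrfl
theorem f380349 : Led Lsl_cf (LP (LK LD1_c0 LD2_c36 LD3_c23)) = (LP (LK LD1_c1 LD2_c18 LD3_c54)) :=
  Lgr Lrot97 (Lpr_bt (K9.f177834 IH) (Lpe (f334499 IH) (Lpr_bt (f380311 IH) (Lpr_ct (f380314 IH) (Lpr_bt (f211690 IH) (Lpn (LP (LK LD1_c1 LD2_c18 LD3_c54))))))))
theorem f380361 : Led Lsl_gt (LP (LK LD1_c1 LD2_c28 LD3_c53)) = (LP (LK LD1_c1 LD2_c18 LD3_c54)) :=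
  Lgr Lrot150 (Lpe (K12.f186469 IH) (Lpr_gf (K10.f186467 IH) (Lpe (K10.f179892 IH) (Lpr_gt (K11.f193799 IH) (Lpr_ct (K12.f211711 IH) (Lpr_gt (K12.f171850 IH) (Lpr_ct (f24523 IH) (Lpe (K9.f8411 IH) (Lpr_cf (f380349 IH) (Lpn (LP (LK LD1_c1 LD2_c18 LD3_c54))))))))))))
theorem f186470 : Led Lsl_ct (LP (LK LD1_c1 LD2_c28 LD3_c53)) = (LP (LK LD1_c0 LD2_c41 LD3_c4)) :=
  Lre_c IH (LK LD1_c1 LD2_c28 LD3_c53) (LK LD1_c0 LD2_c41 LD3_c4) Lrfl Lrfl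
theorem f211764 : Led Lsl_dt (LP (LK LD1_c1 LD2_c22 LD3_c28)) = (LP (LK LD1_c0 LD2_c38 LD3_c12)) :=
  Lre_d IH (LK LD1_c1 LD2_c22 LD3_c28) (LK LD1_c0 LD2_c38 LD3_c12) Lrfl Lrfl
theorem f211707 : Led Lsl_dt (LP (LK LD1_c1 LD2_c18 LD3_c54)) = (LP (LK LD1_c2 LD2_c45 LD3_c13)) :=
  Lre_d IH (LK LD1_c1 LD2_c18 LD3_c54) (LK LD1_c2 LD2_c45 LD3_c13) Lrfl Lrfl
theorem f380373 : Led Lsl_gf (LP (LK LD1_c1 LD2_c22 LD3_c28)) = (LP (LK LD1_c2 LD2_c45 LD3_c13)) :=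
  Lgr Lrot143 (Lpr_dt (f211764 IH) (Lpr_cf (K12.f211755 IH) (Lpe (K10.f175545 IH) (Lpr_gf (K10.f175543 IH) (Lpe (K10.f55618 IH) (Lpr_gf (K10.f186489 IH) (Lpe (f186470 IH) (Lpr_gt (f380361 IH) (Lpr_dt (f211707 IH) (Lpn (LP (LK LD1_c2 LD2_c45 LD3_c13))))))))))))
theorem f211700 : Led Lsl_ft (LP (LK LD1_c2 LD2_c45 LD3_c13)) = (LP (LK LD1_c1 LD2_c18 LD3_c53)) :=
  Lre_f IH (LK LD1_c2 LD2_c45 LD3_c13) (LK LD1_c1 LD2_c18 LD3_c53) Lrfl Lrfl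
theorem f380375 : Led Lsl_af (LP (LK LD1_c2 LD2_c12 LD3_c34)) = (LP (LK LD1_c1 LD2_c18 LD3_c53)) :=
  Lgr Lrot31 (Lpe (K12.f211767 IH) (Lpr_gf (f380373 IH) (Lpr_ft (f211700 IH) (Lpn (LP (LK LD1_c1 LD2_c18 LD3_c53))))))
theorem f380379 : Led Lsl_at (LP (LK LD1_c2 LD2_c12 LD3_c34)) = (LP (LK LD1_c1 LD2_c18 LD3_c53)) :=
  Lgr Lrot100 (Lpr_af (f380375 IH) (Lpn (LP (LK LD1_c1 LD2_c18 LD3_c53))))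
theorem f539021 : Led Lsl_bt (LP (LK LD1_c2 LD2_c58 LD3_c14)) = (LP (LK LD1_c2 LD2_c12 LD3_c34)) :=
  Lgr Lrot62 (Lpe (f334694 IH) (Lpe (f101579 IH) (Lpr_af (f539019 IH) (Lpe (f380390 IH) (Lpe (f380379 IH) (Lpn (LP (LK LD1_c2 LD2_c12 LD3_c34))))))))
theorem f186319 : Led Lsl_bt (LP (LK LD1_c0 LD2_c39 LD3_c0)) = (LP (LK LD1_c1 LD2_c24 LD3_c14)) :=
  Lre_b IH (LK LD1_c0 LD2_c39 LD3_c0) (LK LD1_c1 LD2_c24 LD3_c14) Lrfl Lrfl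
theorem f186321 : Led Lsl_ct (LP (LK LD1_c2 LD2_c56 LD3_c56)) = (LP (LK LD1_c6 LD2_c1 LD3_c31)) :=
  Lre_c IH (LK LD1_c2 LD2_c56 LD3_c56) (LK LD1_c6 LD2_c1 LD3_c31) Lrfl Lrfl
theorem f380377 : Led Lsl_bt (LP (LK LD1_c2 LD2_c52 LD3_c48)) = (LP (LK LD1_c1 LD2_c22 LD3_c28)) :=
  Lre_b IH (LK LD1_c2 LD2_c52 LD3_c48) (LK LD1_c1 LD2_c22 LD3_c28) Lrfl Lrfl
theorem f380378 : Led Lsl_ct (LP (LK LD1_c2 LD2_c52 LD3_c48)) = (LP (LK LD1_c5 LD2_c53 LD3_c2)) :=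
  Lre_c IH (LK LD1_c2 LD2_c52 LD3_c48) (LK LD1_c5 LD2_c53 LD3_c2) Lrfl Lrfl
theorem f539025 : Led Lsl_gt (LP (LK LD1_c6 LD2_c1 LD3_c31)) = (LP (LK LD1_c5 LD2_c53 LD3_c2)) :=
  Lgr Lrot149 (Lpe (f186321 IH) (Lpe (K28.f186320 IH) (Lpe (f186319 IH) (Lpr_ct (K0.f9346 IH) (Lpe (K11.f9343 IH) (Lpe (f186156 IH) (Lpr_bt (f539021 IH) (Lpe (K12.f211767 IH) (Lpe (f380377 IH) (Lpr_ct (f380378 IH) (Lpn (LP (LK LD1_c5 LD2_c53 LD3_c2)))))))))))))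
theorem f176564 : Led Lsl_dt (LP (LK LD1_c1 LD2_c24 LD3_c14)) = (LP (LK LD1_c0 LD2_c38 LD3_c52)) :=
  Lre_d IH (LK LD1_c1 LD2_c24 LD3_c14) (LK LD1_c0 LD2_c38 LD3_c52) Lrfl Lrfl
def v1697 : LQ := Led Lsl_ct (LP (LK LD1_c1 LD2_c24 LD3_c12))
theorem f500892 : Led Lsl_ct (LP (LK LD1_c1 LD2_c24 LD3_c12)) = v1697 :=
  Lrfl
theorem f418968 : Led Lsl_ct (LP (LK LD1_c5 LD2_c53 LD3_c2)) = (LP (LK LD1_c2 LD2_c52 LD3_c48)) :=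
  Lre_c IH (LK LD1_c5 LD2_c53 LD3_c2) (LK LD1_c2 LD2_c52 LD3_c48) Lrfl Lrfl
theorem f211801 : Led Lsl_dt (LP (LK LD1_c1 LD2_c22 LD3_c27)) = (LP (LK LD1_c2 LD2_c52 LD3_c48)) :=
  Lre_d IH (LK LD1_c1 LD2_c22 LD3_c27) (LK LD1_c2 LD2_c52 LD3_c48) Lrfl Lrfl
theorem f211760 : Led Lsl_bt (LP (LK LD1_c0 LD2_c38 LD3_c12)) = (LP (LK LD1_c1 LD2_c22 LD3_c27)) :=
  Lre_b IH (LK LD1_c0 LD2_c38 LD3_c12) (LK LD1_c1 LD2_c22 LD3_c27) Lrfl Lrfl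
theorem f164282 : Led Lsl_bt (LP (LK LD1_c2 LD2_c14 LD3_c47)) = (LP (LK LD1_c1 LD2_c4 LD3_c31)) :=
  Lre_b IH (LK LD1_c2 LD2_c14 LD3_c47) (LK LD1_c1 LD2_c4 LD3_c31) Lrfl Lrfl
theorem f211761 : Led Lsl_ct (LP (LK LD1_c1 LD2_c22 LD3_c27)) = (LP (LK LD1_c2 LD2_c14 LD3_c47)) :=
  Lgr Lrot83 (Lpe (f211760 IH) (Lpr_cf (K12.f211755 IH) (Lpe (K10.f198305 IH) (Lpe (K10.f164263 IH) (Lpe (f164282 IH) (Lpn (LP (LK LD1_c2 LD2_c14 LD3_c47))))))))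
theorem f418970 : Led Lsl_cf (LP (LK LD1_c1 LD2_c22 LD3_c27)) = (LP (LK LD1_c2 LD2_c14 LD3_c47)) :=
  Lgr Lrot11 (Lpr_ct (f211761 IH) (Lpn (LP (LK LD1_c2 LD2_c14 LD3_c47))))
theorem f539077 : Led Lsl_gt v1697 = (LP (LK LD1_c2 LD2_c14 LD3_c47)) :=
  Lgr Lrot150 (Lpe (f500892 IH) (Lpe (f9394 IH) (Lpe (f176564 IH) (Lpr_gt (K28.f186320 IH) (Lpr_ct (f186321 IH) (Lpr_gt (f539025 IH) (Lpr_ct (f418968 IH) (Lpe (f211801 IH) (Lpr_cf (f418970 IH) (Lpn (LP (LK LD1_c2 LD2_c14 LD3_c47))))))))))))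
theorem f211769 : Led Lsl_bt (LP (LK LD1_c1 LD2_c22 LD3_c27)) = (LP (LK LD1_c0 LD2_c38 LD3_c12)) :=
  Lre_b IH (LK LD1_c1 LD2_c22 LD3_c27) (LK LD1_c0 LD2_c38 LD3_c12) Lrfl Lrfl
theorem f24249 : Led Lsl_ct (LP (LK LD1_c0 LD2_c17 LD3_c1)) = (LP (LK LD1_c0 LD2_c7 LD3_c36)) :=
  Lre_c IH (LK LD1_c0 LD2_c17 LD3_c1) (LK LD1_c0 LD2_c7 LD3_c36) Lrfl Lrfl
theorem f24261 : Led Lsl_bt (LP (LK LD1_c0 LD2_c38 LD3_c15)) = (LP (LK LD1_c1 LD2_c22 LD3_c32)) :=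
  Lre_b IH (LK LD1_c0 LD2_c38 LD3_c15) (LK LD1_c1 LD2_c22 LD3_c32) Lrfl Lrfl
theorem f539086 : v1696 = (LP (LK LD1_c2 LD2_c52 LD3_c54)) :=
  (Llr Lrot92 (Lpe (f500882 IH) (Lpr_ct (f500892 IH) (Lpr_gt (f539077 IH) (Lpe (f211761 IH) (Lpr_bt (f211769 IH) (Lpr_gt (K12.f24430 IH) (Lpr_ct (f24249 IH) (Lpr_gt (K9.f24216 IH) (Lpe (K10.f24238 IH) (Lpr_bt (f24261 IH) (Lpr_gt (f24262 IH) (Lpn (LP (LK LD1_c2 LD2_c52 LD3_c54))))))))))))))).symm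
theorem f539220 : v1679 = (LP (LK LD1_c1 LD2_c24 LD3_c12)) :=
  Lefun (Lecon (f500728 IH) ((f539211 IH).trans (f539086 IH).symm)) (Lfl_bf (f500883 IH))
theorem f539239 : (LP (LK LD1_c1 LD2_c23 LD3_c53)) = v1699 :=
  Lefun (Lecon (Lfl_ff (f500726 IH)) (f539220 IH)) (f500903 IH)
theorem f539245 : (LP (LK LD1_c1 LD2_c24 LD3_c13)) = v1669 :=
  Lefun (Lecon (Lfl_af (f500904 IH)) (f539239 IH).symm) (f500661 IH)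
theorem f539251 : (LP (LK LD1_c1 LD2_c23 LD3_c47)) = K31.v1701 :=
  Lefun (Lecon (Lfl_cf (f500659 IH)) (f539245 IH).symm) (K31.f500913 IH)
theorem f539257 : K31.v1502 = (LP (LK LD1_c1 LD2_c23 LD3_c53)) :=
  Lefun (Lecon (Lfl_bf (K31.f500919 IH)) (f539251 IH).symm) (f428256 IH)
theorem f426064 : Led Lsl_at (LP (LK LD1_c0 LD2_c38 LD3_c44)) = (LP (LK LD1_c1 LD2_c23 LD3_c39)) :=
  Lre_a IH (LK LD1_c0 LD2_c38 LD3_c44) (LK LD1_c1 LD2_c23 LD3_c39) Lrfl Lrfl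
theorem f150386 : Led Lsl_et (LP (LK LD1_c1 LD2_c23 LD3_c53)) = (LP (LK LD1_c0 LD2_c38 LD3_c44)) :=
  Lre_e IH (LK LD1_c1 LD2_c23 LD3_c53) (LK LD1_c0 LD2_c38 LD3_c44) Lrfl Lrfl
theorem f500657 : Led Lsl_af (LP (LK LD1_c1 LD2_c23 LD3_c53)) = v1669 :=
  Lgr Lrot50 (Lpr_et (f150386 IH) (Lpr_at (f426064 IH) (Lpr_et (f500656 IH) (Lpn v1669))))
theorem f500881 : Led Lsl_ff (LP (LK LD1_c1 LD2_c24 LD3_c13)) = v1695 :=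
  Lgr Lrot3 (Lpr_ft (f500877 IH) (Lpn v1695))
theorem f539329 : (LP (LK LD1_c2 LD2_c48 LD3_c19)) = v1695 :=
  (Llr Lrot47 (Lpr_gt (f427519 IH) (Lpr_gt (K31.f495908 IH) (Lpqs (f539257 IH) (Lpr_af (f500657 IH) (Lpq (f539245 IH) (Lpr_ff (f500881 IH) (Lpn v1695)))))))).symm
theorem f383266 : Led Lsl_dt (LP (LK LD1_c1 LD2_c24 LD3_c13)) = (LP (LK LD1_c2 LD2_c56 LD3_c55)) :=
  Lre_d IH (LK LD1_c1 LD2_c24 LD3_c13) (LK LD1_c2 LD2_c56 LD3_c55) Lrfl Lrfl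
theorem f500878 : Led Lsl_ct (LP (LK LD1_c2 LD2_c56 LD3_c55)) = (LP (LK LD1_c6 LD2_c1 LD3_c29)) :=
  Lre_c IH (LK LD1_c2 LD2_c56 LD3_c55) (LK LD1_c6 LD2_c1 LD3_c29) Lrfl Lrfl
theorem f500879 : Led Lsl_dt (LP (LK LD1_c6 LD2_c1 LD3_c29)) = (LP (LK LD1_c11 LD2_c47 LD3_c34)) :=
  Lre_d IH (LK LD1_c6 LD2_c1 LD3_c29) (LK LD1_c11 LD2_c47 LD3_c34) Lrfl Lrfl
theorem f500893 : Led Lsl_cf (LP (LK LD1_c1 LD2_c24 LD3_c12)) = v1697 :=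
  Lgr Lrot11 (Lpr_ct (f500892 IH) (Lpn v1697))
theorem f383272 : Led Lsl_ct (LP (LK LD1_c0 LD2_c38 LD3_c46)) = (LP (LK LD1_c1 LD2_c23 LD3_c53)) :=
  Lre_c IH (LK LD1_c0 LD2_c38 LD3_c46) (LK LD1_c1 LD2_c23 LD3_c53) Lrfl Lrfl
theorem f386746 : Led Lsl_ft (LP (LK LD1_c1 LD2_c23 LD3_c58)) = (LP (LK LD1_c0 LD2_c38 LD3_c46)) :=
  Lre_f IH (LK LD1_c1 LD2_c23 LD3_c58) (LK LD1_c0 LD2_c38 LD3_c46) Lrfl Lrfl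
theorem f500724 : Led Lsl_cf (LP (LK LD1_c1 LD2_c23 LD3_c58)) = v1679 :=
  Lgr Lrot108 (Lpr_ft (f386746 IH) (Lpr_ct (f383272 IH) (Lpr_ft (f500722 IH) (Lpn v1679))))
theorem f539233 : (LP (LK LD1_c1 LD2_c23 LD3_c58)) = v1697 :=
  Lefun (Lecon (Lfl_cf (f500724 IH)) (f539220 IH)) (f500892 IH)
theorem f386805 : Led Lsl_dt (LP (LK LD1_c2 LD2_c56 LD3_c1)) = (LP (LK LD1_c1 LD2_c23 LD3_c58)) :=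
  Lre_d IH (LK LD1_c2 LD2_c56 LD3_c1) (LK LD1_c1 LD2_c23 LD3_c58) Lrfl Lrfl
theorem f500707 : Led Lsl_ct (LP (LK LD1_c5 LD2_c59 LD3_c19)) = (LP (LK LD1_c2 LD2_c56 LD3_c1)) :=
  Lre_c IH (LK LD1_c5 LD2_c59 LD3_c19) (LK LD1_c2 LD2_c56 LD3_c1) Lrfl Lrfl
theorem f500706 : Led Lsl_dt (LP (LK LD1_c11 LD2_c43 LD3_c12)) = (LP (LK LD1_c5 LD2_c59 LD3_c19)) :=
  Lre_d IH (LK LD1_c11 LD2_c43 LD3_c12) (LK LD1_c5 LD2_c59 LD3_c19) Lrfl Lrfl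
theorem f539340 : Led Lsl_ct (LP (LK LD1_c11 LD2_c47 LD3_c34)) = (LP (LK LD1_c11 LD2_c43 LD3_c12)) :=
  Lgr Lrot41 (Lpe (f500879 IH) (Lpe (f500878 IH) (Lpe (f383266 IH) (Lpr_ft (f500877 IH) (Lpq (f539329 IH) (Lpqs (f539329 IH) (Lpe (f500876 IH) (Lpr_cf (f500893 IH) (Lpq (f539233 IH) (Lpe (f386805 IH) (Lpe (f500707 IH) (Lpe (f500706 IH) (Lpn (LP (LK LD1_c11 LD2_c43 LD3_c12)))))))))))))))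
theorem f428344 : Led Lsl_dt (LP (LK LD1_c2 LD2_c55 LD3_c42)) = (LP (LK LD1_c1 LD2_c23 LD3_c47)) :=
  Lre_d IH (LK LD1_c2 LD2_c55 LD3_c42) (LK LD1_c1 LD2_c23 LD3_c47) Lrfl Lrfl
theorem f428264 : Led Lsl_ct (LP (LK LD1_c5 LD2_c58 LD3_c35)) = (LP (LK LD1_c2 LD2_c55 LD3_c42)) :=
  Lre_c IH (LK LD1_c5 LD2_c58 LD3_c35) (LK LD1_c2 LD2_c55 LD3_c42) Lrfl Lrfl
theorem f428274 : Led Lsl_dt (LP (LK LD1_c11 LD2_c41 LD3_c36)) = (LP (LK LD1_c5 LD2_c58 LD3_c35)) :=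
  Lre_d IH (LK LD1_c11 LD2_c41 LD3_c36) (LK LD1_c5 LD2_c58 LD3_c35) Lrfl Lrfl
theorem f383268 : Led Lsl_ct (LP (LK LD1_c1 LD2_c23 LD3_c53)) = (LP (LK LD1_c0 LD2_c38 LD3_c46)) :=
  Lre_c IH (LK LD1_c1 LD2_c23 LD3_c53) (LK LD1_c0 LD2_c38 LD3_c46) Lrfl Lrfl
theorem f386760 : Led Lsl_ft (LP (LK LD1_c0 LD2_c38 LD3_c46)) = (LP (LK LD1_c1 LD2_c23 LD3_c58)) :=
  Lre_f IH (LK LD1_c0 LD2_c38 LD3_c46) (LK LD1_c1 LD2_c23 LD3_c58) Lrfl Lrfl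
theorem f500729 : Led Lsl_ct (LP (LK LD1_c1 LD2_c23 LD3_c58)) = v1679 :=
  Lgr Lrot40 (Lpe (f386760 IH) (Lpe (f383268 IH) (Lpr_ff (f500726 IH) (Lpn v1679))))
theorem f9395 : Led Lsl_dt (LP (LK LD1_c1 LD2_c24 LD3_c12)) = (LP (LK LD1_c2 LD2_c56 LD3_c54)) :=
  Lre_d IH (LK LD1_c1 LD2_c24 LD3_c12) (LK LD1_c2 LD2_c56 LD3_c54) Lrfl Lrfl
theorem f9396 : Led Lsl_ct (LP (LK LD1_c2 LD2_c56 LD3_c54)) = (LP (LK LD1_c6 LD2_c1 LD3_c27)) :=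
  Lre_c IH (LK LD1_c2 LD2_c56 LD3_c54) (LK LD1_c6 LD2_c1 LD3_c27) Lrfl Lrfl
theorem f500897 : Led Lsl_dt (LP (LK LD1_c6 LD2_c1 LD3_c27)) = (LP (LK LD1_c11 LD2_c47 LD3_c28)) :=
  Lre_d IH (LK LD1_c6 LD2_c1 LD3_c27) (LK LD1_c11 LD2_c47 LD3_c28) Lrfl Lrfl
theorem f539349 : Led Lsl_cf (LP (LK LD1_c11 LD2_c41 LD3_c36)) = (LP (LK LD1_c11 LD2_c47 LD3_c28)) :=
  Lgr Lrot55 (Lpr_dt (f428274 IH) (Lpr_ct (f428264 IH) (Lpr_dt (f428344 IH) (Lpqs (f539251 IH) (Lpe (K31.f500914 IH) (Lpr_dt (f383266 IH) (Lpr_ct (f500878 IH) (Lpr_dt (f500879 IH) (Lpr_ct (f539340 IH) (Lpr_dt (f500706 IH) (Lpr_ct (f500707 IH) (Lpr_dt (f386805 IH) (Lpr_ct (f500729 IH) (Lpqs (f539220 IH) (Lpr_dt (f9395 IH) (Lpr_ct (f9396 IH) (Lpr_dt (f500897 IH) (Lpn (LP (LK LD1_c11 LD2_c47 LD3_c28))))))))))))))))))))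
theorem f539402 : Led Lsl_ct (LP (LK LD1_c11 LD2_c41 LD3_c36)) = (LP (LK LD1_c11 LD2_c47 LD3_c28)) :=
  Lgr Lrot59 (Lpr_cf (f539349 IH) (Lpn (LP (LK LD1_c11 LD2_c47 LD3_c28))))
theorem f500733 : Led Lsl_at (LP (LK LD1_c5 LD2_c59 LD3_c18)) = (LP (LK LD1_c11 LD2_c41 LD3_c36)) :=
  Lre_a IH (LK LD1_c5 LD2_c59 LD3_c18) (LK LD1_c11 LD2_c41 LD3_c36) Lrfl Lrfl
theorem f500671 : Led Lsl_ct (LP (LK LD1_c11 LD2_c43 LD3_c10)) = (LP (LK LD1_c5 LD2_c59 LD3_c18)) :=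
  Lre_c IH (LK LD1_c11 LD2_c43 LD3_c10) (LK LD1_c5 LD2_c59 LD3_c18) Lrfl Lrfl
theorem f539406 : Led Lsl_af (LP (LK LD1_c11 LD2_c43 LD3_c10)) = (LP (LK LD1_c11 LD2_c47 LD3_c28)) :=
  Lgr Lrot68 (Lpr_ct (f500671 IH) (Lpr_at (f500733 IH) (Lpr_ct (f539402 IH) (Lpn (LP (LK LD1_c11 LD2_c47 LD3_c28))))))
theorem f500703 : Led Lsl_ct (LP (LK LD1_c5 LD2_c59 LD3_c18)) = (LP (LK LD1_c11 LD2_c43 LD3_c10)) :=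
  Lre_c IH (LK LD1_c5 LD2_c59 LD3_c18) (LK LD1_c11 LD2_c43 LD3_c10) Lrfl Lrfl
theorem f500702 : Led Lsl_dt (LP (LK LD1_c2 LD2_c56 LD3_c0)) = (LP (LK LD1_c5 LD2_c59 LD3_c18)) :=
  Lre_d IH (LK LD1_c2 LD2_c56 LD3_c0) (LK LD1_c5 LD2_c59 LD3_c18) Lrfl Lrfl
theorem f427710 : Led Lsl_ct (LP (LK LD1_c1 LD2_c23 LD3_c57)) = (LP (LK LD1_c2 LD2_c56 LD3_c0)) :=
  Lre_c IH (LK LD1_c1 LD2_c23 LD3_c57) (LK LD1_c2 LD2_c56 LD3_c0) Lrfl Lrfl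
theorem f75545 : Led Lsl_dt (LP (LK LD1_c0 LD2_c38 LD3_c46)) = (LP (LK LD1_c1 LD2_c23 LD3_c57)) :=
  Lre_d IH (LK LD1_c0 LD2_c38 LD3_c46) (LK LD1_c1 LD2_c23 LD3_c57) Lrfl Lrfl
theorem f383269 : Led Lsl_dt (LP (LK LD1_c2 LD2_c55 LD3_c53)) = (LP (LK LD1_c1 LD2_c23 LD3_c53)) :=
  Lre_d IH (LK LD1_c2 LD2_c55 LD3_c53) (LK LD1_c1 LD2_c23 LD3_c53) Lrfl Lrfl
theorem f428314 : Led Lsl_ct (LP (LK LD1_c5 LD2_c58 LD3_c58)) = (LP (LK LD1_c2 LD2_c55 LD3_c53)) :=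
  Lre_c IH (LK LD1_c5 LD2_c58 LD3_c58) (LK LD1_c2 LD2_c55 LD3_c53) Lrfl Lrfl
theorem f428345 : Led Lsl_dt (LP (LK LD1_c11 LD2_c42 LD3_c22)) = (LP (LK LD1_c5 LD2_c58 LD3_c58)) :=
  Lre_d IH (LK LD1_c11 LD2_c42 LD3_c22) (LK LD1_c5 LD2_c58 LD3_c58) Lrfl Lrfl
theorem f539408 : Led Lsl_ft (LP (LK LD1_c11 LD2_c42 LD3_c22)) = (LP (LK LD1_c11 LD2_c47 LD3_c28)) :=
  Lgr Lrot142 (Lpr_dt (f428345 IH) (Lpr_ct (f428314 IH) (Lpr_dt (f383269 IH) (Lpr_ct (f383268 IH) (Lpr_dt (f75545 IH) (Lpr_ct (f427710 IH) (Lpr_dt (f500702 IH) (Lpr_ct (f500703 IH) (Lpr_af (f539406 IH) (Lpn (LP (LK LD1_c11 LD2_c47 LD3_c28))))))))))))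
theorem f539415 : Led Lsl_ff (LP (LK LD1_c11 LD2_c42 LD3_c22)) = (LP (LK LD1_c11 LD2_c47 LD3_c28)) :=
  Lgr Lrot3 (Lpr_ft (f539408 IH) (Lpn (LP (LK LD1_c11 LD2_c47 LD3_c28))))
theorem f539419 : Led Lsl_ft (LP (LK LD1_c5 LD2_c58 LD3_c58)) = (LP (LK LD1_c6 LD2_c1 LD3_c27)) :=
  Lgr Lrot54 (Lpe (f428345 IH) (Lpr_ff (f539415 IH) (Lpe (f500897 IH) (Lpn (LP (LK LD1_c6 LD2_c1 LD3_c27))))))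
theorem f428266 : Led Lsl_ct (LP (LK LD1_c2 LD2_c55 LD3_c53)) = (LP (LK LD1_c5 LD2_c58 LD3_c58)) :=
  Lre_c IH (LK LD1_c2 LD2_c55 LD3_c53) (LK LD1_c5 LD2_c58 LD3_c58) Lrfl Lrfl
theorem f500894 : Led Lsl_ct (LP (LK LD1_c6 LD2_c1 LD3_c27)) = (LP (LK LD1_c2 LD2_c56 LD3_c54)) :=
  Lre_c IH (LK LD1_c6 LD2_c1 LD3_c27) (LK LD1_c2 LD2_c56 LD3_c54) Lrfl Lrfl
theorem f539429 : Led Lsl_ff (LP (LK LD1_c2 LD2_c55 LD3_c53)) = (LP (LK LD1_c2 LD2_c56 LD3_c54)) :=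
  Lgr Lrot23 (Lpr_ct (f428266 IH) (Lpr_ft (f539419 IH) (Lpr_ct (f500894 IH) (Lpn (LP (LK LD1_c2 LD2_c56 LD3_c54))))))
theorem f495291 : Led Lsl_dt (LP (LK LD1_c2 LD2_c56 LD3_c54)) = (LP (LK LD1_c1 LD2_c24 LD3_c12)) :=
  Lre_d IH (LK LD1_c2 LD2_c56 LD3_c54) (LK LD1_c1 LD2_c24 LD3_c12) Lrfl Lrfl
theorem f386792 : Led Lsl_dt (LP (LK LD1_c1 LD2_c23 LD3_c58)) = (LP (LK LD1_c2 LD2_c56 LD3_c1)) :=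
  Lre_d IH (LK LD1_c1 LD2_c23 LD3_c58) (LK LD1_c2 LD2_c56 LD3_c1) Lrfl Lrfl
theorem f500665 : Led Lsl_ct (LP (LK LD1_c2 LD2_c56 LD3_c1)) = (LP (LK LD1_c5 LD2_c59 LD3_c19)) :=
  Lre_c IH (LK LD1_c2 LD2_c56 LD3_c1) (LK LD1_c5 LD2_c59 LD3_c19) Lrfl Lrfl
theorem f500666 : Led Lsl_dt (LP (LK LD1_c5 LD2_c59 LD3_c19)) = (LP (LK LD1_c11 LD2_c43 LD3_c12)) :=
  Lre_d IH (LK LD1_c5 LD2_c59 LD3_c19) (LK LD1_c11 LD2_c43 LD3_c12) Lrfl Lrfl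
theorem f539347 : Led Lsl_cf (LP (LK LD1_c11 LD2_c47 LD3_c34)) = (LP (LK LD1_c11 LD2_c43 LD3_c12)) :=
  Lgr Lrot11 (Lpr_ct (f539340 IH) (Lpn (LP (LK LD1_c11 LD2_c43 LD3_c12))))
theorem f500916 : Led Lsl_dt (LP (LK LD1_c11 LD2_c47 LD3_c34)) = (LP (LK LD1_c6 LD2_c1 LD3_c29)) :=
  Lre_d IH (LK LD1_c11 LD2_c47 LD3_c34) (LK LD1_c6 LD2_c1 LD3_c29) Lrfl Lrfl
theorem f500915 : Led Lsl_ct (LP (LK LD1_c6 LD2_c1 LD3_c29)) = (LP (LK LD1_c2 LD2_c56 LD3_c55)) :=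
  Lre_c IH (LK LD1_c6 LD2_c1 LD3_c29) (LK LD1_c2 LD2_c56 LD3_c55) Lrfl Lrfl
theorem f539439 : Led Lsl_at (LP (LK LD1_c2 LD2_c55 LD3_c53)) = (LP (LK LD1_c2 LD2_c56 LD3_c55)) :=
  Lgr Lrot33 (Lpr_ff (f539429 IH) (Lpr_dt (f495291 IH) (Lpr_ct (f500892 IH) (Lpq (f539233 IH) (Lpr_dt (f386792 IH) (Lpr_ct (f500665 IH) (Lpr_dt (f500666 IH) (Lpe (f539347 IH) (Lpr_dt (f500916 IH) (Lpr_ct (f500915 IH) (Lpn (LP (LK LD1_c2 LD2_c56 LD3_c55)))))))))))))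
theorem f427771 : Led Lsl_dt (LP (LK LD1_c1 LD2_c23 LD3_c47)) = (LP (LK LD1_c2 LD2_c55 LD3_c42)) :=
  Lre_d IH (LK LD1_c1 LD2_c23 LD3_c47) (LK LD1_c2 LD2_c55 LD3_c42) Lrfl Lrfl
theorem f428258 : Led Lsl_bt (LP (LK LD1_c2 LD2_c55 LD3_c42)) = (LP (LK LD1_c2 LD2_c55 LD3_c53)) :=
  Lgr Lrot95 (Lpe (f427771 IH) (Lpr_bf (f428253 IH) (Lpe (f383269 IH) (Lpn (LP (LK LD1_c2 LD2_c55 LD3_c53))))))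
theorem f428260 : Led Lsl_at (LP (LK LD1_c1 LD2_c23 LD3_c57)) = (LP (LK LD1_c2 LD2_c55 LD3_c42)) :=
  Lre_a IH (LK LD1_c1 LD2_c23 LD3_c57) (LK LD1_c2 LD2_c55 LD3_c42) Lrfl Lrfl
theorem f428261 : Led Lsl_bt (LP (LK LD1_c2 LD2_c55 LD3_c49)) = (LP (LK LD1_c1 LD2_c23 LD3_c57)) :=
  Lre_b IH (LK LD1_c2 LD2_c55 LD3_c49) (LK LD1_c1 LD2_c23 LD3_c57) Lrfl Lrfl
theorem f428189 : Led Lsl_at (LP (LK LD1_c5 LD2_c58 LD3_c38)) = (LP (LK LD1_c2 LD2_c55 LD3_c49)) :=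
  Lre_a IH (LK LD1_c5 LD2_c58 LD3_c38) (LK LD1_c2 LD2_c55 LD3_c49) Lrfl Lrfl
theorem f539443 : Led Lsl_bf (LP (LK LD1_c5 LD2_c58 LD3_c38)) = (LP (LK LD1_c2 LD2_c56 LD3_c55)) :=
  Lgr Lrot81 (Lpr_at (f428189 IH) (Lpr_bt (f428261 IH) (Lpr_at (f428260 IH) (Lpr_bt (f428258 IH) (Lpr_at (f539439 IH) (Lpn (LP (LK LD1_c2 LD2_c56 LD3_c55))))))))
theorem f500880 : Led Lsl_dt (LP (LK LD1_c2 LD2_c56 LD3_c55)) = (LP (LK LD1_c1 LD2_c24 LD3_c13)) :=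
  Lre_d IH (LK LD1_c2 LD2_c56 LD3_c55) (LK LD1_c1 LD2_c24 LD3_c13) Lrfl Lrfl
theorem f75542 : Led Lsl_dt (LP (LK LD1_c2 LD2_c48 LD3_c19)) = (LP (LK LD1_c5 LD2_c45 LD3_c3)) :=
  Lre_d IH (LK LD1_c2 LD2_c48 LD3_c19) (LK LD1_c5 LD2_c45 LD3_c3) Lrfl Lrfl
theorem f539336 : Led Lsl_ff (LP (LK LD1_c2 LD2_c56 LD3_c55)) = (LP (LK LD1_c5 LD2_c45 LD3_c3)) :=
  Lgr Lrot19 (Lpr_dt (f500880 IH) (Lpr_ft (f500877 IH) (Lpq (f539329 IH) (Lpr_dt (f75542 IH) (Lpn (LP (LK LD1_c5 LD2_c45 LD3_c3)))))))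
theorem f539570 : Led Lsl_bt (LP (LK LD1_c11 LD2_c20 LD3_c31)) = (LP (LK LD1_c5 LD2_c45 LD3_c3)) :=
  Lre_b IH (LK LD1_c11 LD2_c20 LD3_c31) (LK LD1_c5 LD2_c45 LD3_c3) Lrfl Lrfl
theorem f539571 : Led Lsl_ft (LP (LK LD1_c5 LD2_c58 LD3_c38)) = (LP (LK LD1_c11 LD2_c20 LD3_c31)) :=
  Lgr Lrot75 (Lpr_bf (f539443 IH) (Lpr_ff (f539336 IH) (Lpe (f539570 IH) (Lpn (LP (LK LD1_c11 LD2_c20 LD3_c31))))))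
theorem f539578 : Led Lsl_ff (LP (LK LD1_c5 LD2_c58 LD3_c38)) = (LP (LK LD1_c11 LD2_c20 LD3_c31)) :=
  Lgr Lrot3 (Lpr_ft (f539571 IH) (Lpn (LP (LK LD1_c11 LD2_c20 LD3_c31))))
theorem f428161 : Led Lsl_ct (LP (LK LD1_c5 LD2_c58 LD3_c49)) = (LP (LK LD1_c2 LD2_c55 LD3_c49)) :=
  Lre_c IH (LK LD1_c5 LD2_c58 LD3_c49) (LK LD1_c2 LD2_c55 LD3_c49) Lrfl Lrfl
theorem f428162 : Led Lsl_dt (LP (LK LD1_c11 LD2_c42 LD3_c2)) = (LP (LK LD1_c5 LD2_c58 LD3_c49)) :=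
  Lre_d IH (LK LD1_c11 LD2_c42 LD3_c2) (LK LD1_c5 LD2_c58 LD3_c49) Lrfl Lrfl
theorem f428163 : Led Lsl_ct (LP (LK LD1_c20 LD2_c42 LD3_c14)) = (LP (LK LD1_c11 LD2_c42 LD3_c2)) :=
  Lre_c IH (LK LD1_c20 LD2_c42 LD3_c14) (LK LD1_c11 LD2_c42 LD3_c2) Lrfl Lrfl
theorem f425960 : Led Lsl_et (LP (LK LD1_c2 LD2_c55 LD3_c45)) = (LP (LK LD1_c1 LD2_c23 LD3_c49)) :=
  Lre_e IH (LK LD1_c2 LD2_c55 LD3_c45) (LK LD1_c1 LD2_c23 LD3_c49) Lrfl Lrfl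
theorem f157625 : Led Lsl_et (LP (LK LD1_c0 LD2_c38 LD3_c43)) = (LP (LK LD1_c1 LD2_c23 LD3_c51)) :=
  Lre_e IH (LK LD1_c0 LD2_c38 LD3_c43) (LK LD1_c1 LD2_c23 LD3_c51) Lrfl Lrfl
theorem f426083 : Led Lsl_cf (LP (LK LD1_c2 LD2_c55 LD3_c45)) = (LP (LK LD1_c1 LD2_c23 LD3_c51)) :=
  Lgr Lrot39 (Lpr_et (f425960 IH) (Lpr_ct (K24.f426078 IH) (Lpr_et (f157625 IH) (Lpn (LP (LK LD1_c1 LD2_c23 LD3_c51))))))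
theorem f428164 : Led Lsl_at (LP (LK LD1_c1 LD2_c23 LD3_c51)) = (LP (LK LD1_c2 LD2_c55 LD3_c45)) :=
  Lre_a IH (LK LD1_c1 LD2_c23 LD3_c51) (LK LD1_c2 LD2_c55 LD3_c45) Lrfl Lrfl
theorem f386844 : Led Lsl_ft (LP (LK LD1_c2 LD2_c55 LD3_c50)) = (LP (LK LD1_c1 LD2_c23 LD3_c51)) :=
  Lre_f IH (LK LD1_c2 LD2_c55 LD3_c50) (LK LD1_c1 LD2_c23 LD3_c51) Lrfl Lrfl
theorem f386841 : Led Lsl_dt (LP (LK LD1_c2 LD2_c55 LD3_c50)) = (LP (LK LD1_c5 LD2_c58 LD3_c50)) :=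
  Lre_d IH (LK LD1_c2 LD2_c55 LD3_c50) (LK LD1_c5 LD2_c58 LD3_c50) Lrfl Lrfl
theorem f428165 : Led Lsl_ct (LP (LK LD1_c5 LD2_c58 LD3_c50)) = (LP (LK LD1_c11 LD2_c42 LD3_c3)) :=
  Lre_c IH (LK LD1_c5 LD2_c58 LD3_c50) (LK LD1_c11 LD2_c42 LD3_c3) Lrfl Lrfl
theorem f428160 : Led Lsl_dt (LP (LK LD1_c2 LD2_c55 LD3_c49)) = (LP (LK LD1_c1 LD2_c23 LD3_c51)) :=
  Lre_d IH (LK LD1_c2 LD2_c55 LD3_c49) (LK LD1_c1 LD2_c23 LD3_c51) Lrfl Lrfl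
theorem f428166 : Led Lsl_dt (LP (LK LD1_c11 LD2_c42 LD3_c3)) = (LP (LK LD1_c20 LD2_c42 LD3_c14)) :=
  Lgr Lrot32 (Lpe (f428165 IH) (Lpe (f386841 IH) (Lpr_ft (f386844 IH) (Lpr_at (f428164 IH) (Lpr_cf (f426083 IH) (Lpe (f428160 IH) (Lpe (f428161 IH) (Lpe (f428162 IH) (Lpe (f428163 IH) (Lpn (LP (LK LD1_c20 LD2_c42 LD3_c14))))))))))))
theorem f539576 : Led Lsl_dt (LP (LK LD1_c11 LD2_c20 LD3_c31)) = (LP (LK LD1_c5 LD2_c45 LD3_c2)) :=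
  Lre_d IH (LK LD1_c11 LD2_c20 LD3_c31) (LK LD1_c5 LD2_c45 LD3_c2) Lrfl Lrfl
theorem f539591 : Led Lsl_cf (LP (LK LD1_c2 LD2_c55 LD3_c50)) = (LP (LK LD1_c5 LD2_c45 LD3_c2)) :=
  Lgr Lrot118 (Lpr_dt (f386841 IH) (Lpr_ct (f428165 IH) (Lpr_dt (f428166 IH) (Lpr_ct (f428163 IH) (Lpr_dt (f428162 IH) (Lpr_ct (f428161 IH) (Lpe (f428189 IH) (Lpr_ff (f539578 IH) (Lpr_dt (f539576 IH) (Lpn (LP (LK LD1_c5 LD2_c45 LD3_c2))))))))))))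
theorem f386759 : Led Lsl_ft (LP (LK LD1_c0 LD2_c38 LD3_c37)) = (LP (LK LD1_c0 LD2_c17 LD3_c12)) :=
  Lre_f IH (LK LD1_c0 LD2_c38 LD3_c37) (LK LD1_c0 LD2_c17 LD3_c12) Lrfl Lrfl
theorem f75972 : Led Lsl_et (LP (LK LD1_c0 LD2_c17 LD3_c12)) = (LP (LK LD1_c0 LD2_c38 LD3_c46)) :=
  Lre_e IH (LK LD1_c0 LD2_c17 LD3_c12) (LK LD1_c0 LD2_c38 LD3_c46) Lrfl Lrfl
theorem f386761 : Led Lsl_et (LP (LK LD1_c1 LD2_c23 LD3_c58)) = (LP (LK LD1_c2 LD2_c30 LD3_c46)) :=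
  Lgr Lrot69 (Lpe (f386760 IH) (Lpe (f75972 IH) (Lpe (f386759 IH) (Lpe (K28.f386758 IH) (Lpr_ff (K27.f386749 IH) (Lpn (LP (LK LD1_c2 LD2_c30 LD3_c46))))))))
theorem f386806 : Led Lsl_et (LP (LK LD1_c5 LD2_c59 LD3_c20)) = (LP (LK LD1_c2 LD2_c56 LD3_c1)) :=
  Lre_e IH (LK LD1_c5 LD2_c59 LD3_c20) (LK LD1_c2 LD2_c56 LD3_c1) Lrfl Lrfl
theorem f169715 : Led Lsl_et (LP (LK LD1_c5 LD2_c6 LD3_c33)) = (LP (LK LD1_c10 LD2_c3 LD3_c56)) :=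
  Lre_e IH (LK LD1_c5 LD2_c6 LD3_c33) (LK LD1_c10 LD2_c3 LD3_c56) Lrfl Lrfl
theorem f386807 : Led Lsl_df (LP (LK LD1_c5 LD2_c59 LD3_c20)) = (LP (LK LD1_c10 LD2_c3 LD3_c56)) :=
  Lgr Lrot70 (Lpr_et (f386806 IH) (Lpr_dt (f386805 IH) (Lpr_et (f386761 IH) (Lpe (K32.f169711 IH) (Lpr_et (f169715 IH) (Lpn (LP (LK LD1_c10 LD2_c3 LD3_c56))))))))
theorem f386814 : Led Lsl_dt (LP (LK LD1_c5 LD2_c59 LD3_c20)) = (LP (LK LD1_c10 LD2_c3 LD3_c56)) :=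
  Lgr Lrot42 (Lpr_df (f386807 IH) (Lpn (LP (LK LD1_c10 LD2_c3 LD3_c56))))
theorem f386821 : Led Lsl_bt (LP (LK LD1_c11 LD2_c42 LD3_c4)) = (LP (LK LD1_c5 LD2_c59 LD3_c20)) :=
  Lre_b IH (LK LD1_c11 LD2_c42 LD3_c4) (LK LD1_c5 LD2_c59 LD3_c20) Lrfl Lrfl
theorem f386729 : Led Lsl_bt (LP (LK LD1_c10 LD2_c3 LD3_c56)) = (LP (LK LD1_c18 LD2_c22 LD3_c30)) :=
  Lre_b IH (LK LD1_c10 LD2_c3 LD3_c56) (LK LD1_c18 LD2_c22 LD3_c30) Lrfl Lrfl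
theorem f386822 : Led Lsl_df (LP (LK LD1_c11 LD2_c42 LD3_c4)) = (LP (LK LD1_c18 LD2_c22 LD3_c30)) :=
  Lgr Lrot12 (Lpr_bt (f386821 IH) (Lpr_dt (f386814 IH) (Lpr_bt (f386729 IH) (Lpn (LP (LK LD1_c18 LD2_c22 LD3_c30))))))
theorem f386829 : Led Lsl_et (LP (LK LD1_c11 LD2_c42 LD3_c4)) = (LP (LK LD1_c5 LD2_c58 LD3_c50)) :=
  Lre_e IH (LK LD1_c11 LD2_c42 LD3_c4) (LK LD1_c5 LD2_c58 LD3_c50) Lrfl Lrfl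
theorem f386830 : Led Lsl_dt (LP (LK LD1_c5 LD2_c58 LD3_c50)) = (LP (LK LD1_c2 LD2_c55 LD3_c50)) :=
  Lre_d IH (LK LD1_c5 LD2_c58 LD3_c50) (LK LD1_c2 LD2_c55 LD3_c50) Lrfl Lrfl
theorem f169696 : Led Lsl_et (LP (LK LD1_c10 LD2_c3 LD3_c55)) = (LP (LK LD1_c18 LD2_c22 LD3_c30)) :=
  Lre_e IH (LK LD1_c10 LD2_c3 LD3_c55) (LK LD1_c18 LD2_c22 LD3_c30) Lrfl Lrfl
theorem f386831 : Led Lsl_et (LP (LK LD1_c2 LD2_c55 LD3_c50)) = (LP (LK LD1_c5 LD2_c6 LD3_c57)) :=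
  Lgr Lrot71 (Lpe (f386830 IH) (Lpe (f386829 IH) (Lpr_df (f386822 IH) (Lpe (f169696 IH) (Lpr_df (K27.f169703 IH) (Lpn (LP (LK LD1_c5 LD2_c6 LD3_c57))))))))
theorem f169718 : Led Lsl_ct (LP (LK LD1_c5 LD2_c6 LD3_c57)) = (LP (LK LD1_c5 LD2_c7 LD3_c36)) :=
  Lre_c IH (LK LD1_c5 LD2_c6 LD3_c57) (LK LD1_c5 LD2_c7 LD3_c36) Lrfl Lrfl
theorem f539595 : Led Lsl_et (LP (LK LD1_c5 LD2_c7 LD3_c36)) = (LP (LK LD1_c5 LD2_c45 LD3_c2)) :=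
  Lgr Lrot158 (Lpe (f169718 IH) (Lpe (f386831 IH) (Lpr_cf (f539591 IH) (Lpn (LP (LK LD1_c5 LD2_c45 LD3_c2))))))
theorem f539599 : Led Lsl_ef (LP (LK LD1_c5 LD2_c7 LD3_c36)) = (LP (LK LD1_c5 LD2_c45 LD3_c2)) :=
  Lgr Lrot88 (Lpr_et (f539595 IH) (Lpn (LP (LK LD1_c5 LD2_c45 LD3_c2))))
theorem f386768 : Led Lsl_bt (LP (LK LD1_c1 LD2_c23 LD3_c33)) = (LP (LK LD1_c0 LD2_c38 LD3_c41)) :=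
  Lre_b IH (LK LD1_c1 LD2_c23 LD3_c33) (LK LD1_c0 LD2_c38 LD3_c41) Lrfl Lrfl
theorem f386671 : Led Lsl_ct (LP (LK LD1_c0 LD2_c38 LD3_c41)) = (LP (LK LD1_c1 LD2_c23 LD3_c38)) :=
  Lre_c IH (LK LD1_c0 LD2_c38 LD3_c41) (LK LD1_c1 LD2_c23 LD3_c38) Lrfl Lrfl
theorem f386675 : Led Lsl_bt (LP (LK LD1_c1 LD2_c23 LD3_c38)) = (LP (LK LD1_c2 LD2_c55 LD3_c18)) :=
  Lre_b IH (LK LD1_c1 LD2_c23 LD3_c38) (LK LD1_c2 LD2_c55 LD3_c18) Lrfl Lrfl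
theorem f386741 : Led Lsl_bt (LP (LK LD1_c2 LD2_c55 LD3_c3)) = (LP (LK LD1_c1 LD2_c23 LD3_c30)) :=
  Lre_b IH (LK LD1_c2 LD2_c55 LD3_c3) (LK LD1_c1 LD2_c23 LD3_c30) Lrfl Lrfl
theorem f427471 : Led Lsl_ct (LP (LK LD1_c2 LD2_c55 LD3_c18)) = (LP (LK LD1_c2 LD2_c55 LD3_c3)) :=
  Lgr Lrot83 (Lpe (f386675 IH) (Lpe (f386671 IH) (Lpe (f386768 IH) (Lpr_cf (K32.f426272 IH) (Lpe (f386741 IH) (Lpn (LP (LK LD1_c2 LD2_c55 LD3_c3))))))))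
theorem f386753 : Led Lsl_bt (LP (LK LD1_c1 LD2_c23 LD3_c30)) = (LP (LK LD1_c2 LD2_c55 LD3_c3)) :=
  Lre_b IH (LK LD1_c1 LD2_c23 LD3_c30) (LK LD1_c2 LD2_c55 LD3_c3) Lrfl Lrfl
theorem f169717 : Led Lsl_bt (LP (LK LD1_c5 LD2_c6 LD3_c57)) = (LP (LK LD1_c2 LD2_c30 LD3_c46)) :=
  Lre_b IH (LK LD1_c5 LD2_c6 LD3_c57) (LK LD1_c2 LD2_c30 LD3_c46) Lrfl Lrfl
theorem f386754 : Led Lsl_ft (LP (LK LD1_c2 LD2_c55 LD3_c3)) = (LP (LK LD1_c5 LD2_c6 LD3_c57)) :=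
  Lgr Lrot75 (Lpe (f386753 IH) (Lpr_ff (K27.f386749 IH) (Lpe (f169717 IH) (Lpn (LP (LK LD1_c5 LD2_c6 LD3_c57))))))
theorem f427475 : Led Lsl_ff (LP (LK LD1_c2 LD2_c55 LD3_c18)) = (LP (LK LD1_c5 LD2_c7 LD3_c36)) :=
  Lgr Lrot23 (Lpr_ct (f427471 IH) (Lpr_ft (f386754 IH) (Lpr_ct (f169718 IH) (Lpn (LP (LK LD1_c5 LD2_c7 LD3_c36))))))
theorem f427479 : Led Lsl_ft (LP (LK LD1_c2 LD2_c55 LD3_c18)) = (LP (LK LD1_c5 LD2_c7 LD3_c36)) :=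
  Lgr Lrot48 (Lpr_ff (f427475 IH) (Lpn (LP (LK LD1_c5 LD2_c7 LD3_c36))))
theorem f427485 : Led Lsl_bf (LP (LK LD1_c2 LD2_c55 LD3_c25)) = (LP (LK LD1_c5 LD2_c7 LD3_c36)) :=
  Lgr Lrot61 (Lpr_ft (K24.f426205 IH) (Lpr_bt (f386675 IH) (Lpr_ft (f427479 IH) (Lpn (LP (LK LD1_c5 LD2_c7 LD3_c36))))))
theorem f500886 : Led Lsl_bt (LP (LK LD1_c2 LD2_c48 LD3_c19)) = (LP (LK LD1_c5 LD2_c45 LD3_c2)) :=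
  Lre_b IH (LK LD1_c2 LD2_c48 LD3_c19) (LK LD1_c5 LD2_c45 LD3_c2) Lrfl Lrfl
theorem f539603 : Led Lsl_et (LP (LK LD1_c2 LD2_c55 LD3_c25)) = (LP (LK LD1_c2 LD2_c48 LD3_c19)) :=
  Lgr Lrot74 (Lpr_bf (f427485 IH) (Lpr_ef (f539599 IH) (Lpe (f500886 IH) (Lpn (LP (LK LD1_c2 LD2_c48 LD3_c19))))))
theorem f75541 : Led Lsl_gt (LP (LK LD1_c1 LD2_c23 LD3_c27)) = (LP (LK LD1_c2 LD2_c48 LD3_c19)) :=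
  Lre_g IH (LK LD1_c1 LD2_c23 LD3_c27) (LK LD1_c2 LD2_c48 LD3_c19) Lrfl Lrfl
theorem f75540 : Led Lsl_et (LP (LK LD1_c0 LD2_c38 LD3_c36)) = (LP (LK LD1_c1 LD2_c23 LD3_c27)) :=
  Lre_e IH (LK LD1_c0 LD2_c38 LD3_c36) (LK LD1_c1 LD2_c23 LD3_c27) Lrfl Lrfl
theorem f56032 : Led Lsl_et (LP (LK LD1_c0 LD2_c39 LD3_c40)) = (LP (LK LD1_c0 LD2_c17 LD3_c49)) :=
  Lre_e IH (LK LD1_c0 LD2_c39 LD3_c40) (LK LD1_c0 LD2_c17 LD3_c49) Lrfl Lrfl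
theorem f56277 : Led Lsl_dt (LP (LK LD1_c0 LD2_c39 LD3_c40)) = (LP (LK LD1_c1 LD2_c25 LD3_c53)) :=
  Lre_d IH (LK LD1_c0 LD2_c39 LD3_c40) (LK LD1_c1 LD2_c25 LD3_c53) Lrfl Lrfl
theorem f9095 : Led Lsl_gt (LP (LK LD1_c3 LD2_c0 LD3_c14)) = (LP (LK LD1_c1 LD2_c25 LD3_c53)) :=
  Lre_g IH (LK LD1_c3 LD2_c0 LD3_c14) (LK LD1_c1 LD2_c25 LD3_c53) Lrfl Lrfl
theorem f539605 : Led Lsl_dt (LP (LK LD1_c2 LD2_c55 LD3_c25)) = (LP (LK LD1_c3 LD2_c0 LD3_c14)) :=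
  Lgr Lrot136 (Lpr_et (f539603 IH) (Lpe (f75541 IH) (Lpe (f75540 IH) (Lpr_dt (K32.f56897 IH) (Lpe (K0.f26404 IH) (Lpr_df (K4.f75506 IH) (Lpe (K4.f20241 IH) (Lpe (f56032 IH) (Lpr_dt (f56277 IH) (Lpe (f9095 IH) (Lpn (LP (LK LD1_c3 LD2_c0 LD3_c14)))))))))))))
theorem f426213 : Led Lsl_gt (LP (LK LD1_c1 LD2_c23 LD3_c33)) = (LP (LK LD1_c2 LD2_c55 LD3_c11)) :=
  Lre_g IH (LK LD1_c1 LD2_c23 LD3_c33) (LK LD1_c2 LD2_c55 LD3_c11) Lrfl Lrfl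
theorem f426214 : Led Lsl_gf (LP (LK LD1_c2 LD2_c55 LD3_c25)) = (LP (LK LD1_c2 LD2_c55 LD3_c11)) :=
  Lgr Lrot76 (Lpr_af (K24.f426207 IH) (Lpe (K24.f426206 IH) (Lpr_gt (f426213 IH) (Lpn (LP (LK LD1_c2 LD2_c55 LD3_c11))))))
theorem f75833 : Led Lsl_dt (LP (LK LD1_c1 LD2_c26 LD3_c3)) = (LP (LK LD1_c3 LD2_c0 LD3_c34)) :=
  Lre_d IH (LK LD1_c1 LD2_c26 LD3_c3) (LK LD1_c3 LD2_c0 LD3_c34) Lrfl Lrfl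
theorem f75824 : Led Lsl_gt (LP (LK LD1_c3 LD2_c0 LD3_c34)) = (LP (LK LD1_c6 LD2_c8 LD3_c34)) :=
  Lre_g IH (LK LD1_c3 LD2_c0 LD3_c34) (LK LD1_c6 LD2_c8 LD3_c34) Lrfl Lrfl
theorem f386786 : Led Lsl_ff (LP (LK LD1_c1 LD2_c23 LD3_c44)) = (LP (LK LD1_c2 LD2_c30 LD3_c47)) :=
  Lgr Lrot3 (Lpr_ft (K27.f386782 IH) (Lpn (LP (LK LD1_c2 LD2_c30 LD3_c47))))
theorem f427797 : Led Lsl_gf (LP (LK LD1_c1 LD2_c13 LD3_c47)) = (LP (LK LD1_c1 LD2_c23 LD3_c30)) :=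
  Lgr Lrot76 (Lpe (K28.f386778 IH) (Lpr_ff (f386786 IH) (Lpr_gt (K32.f427782 IH) (Lpn (LP (LK LD1_c1 LD2_c23 LD3_c30))))))
theorem f185812 : Led Lsl_et (LP (LK LD1_c2 LD2_c33 LD3_c40)) = (LP (LK LD1_c1 LD2_c13 LD3_c47)) :=
  Lre_e IH (LK LD1_c2 LD2_c33 LD3_c40) (LK LD1_c1 LD2_c13 LD3_c47) Lrfl Lrfl
theorem f185779 : Led Lsl_et (LP (LK LD1_c1 LD2_c28 LD3_c45)) = (LP (LK LD1_c3 LD2_c5 LD3_c30)) :=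
  Lre_e IH (LK LD1_c1 LD2_c28 LD3_c45) (LK LD1_c3 LD2_c5 LD3_c30) Lrfl Lrfl
theorem f185781 : Led Lsl_et (LP (LK LD1_c2 LD2_c33 LD3_c41)) = (LP (LK LD1_c1 LD2_c13 LD3_c48)) :=
  Lre_e IH (LK LD1_c2 LD2_c33 LD3_c41) (LK LD1_c1 LD2_c13 LD3_c48) Lrfl Lrfl
theorem f185782 : Led Lsl_dt (LP (LK LD1_c3 LD2_c5 LD3_c30)) = (LP (LK LD1_c2 LD2_c33 LD3_c41)) :=
  Lgr Lrot77 (Lpe (f185779 IH) (Lpr_df (K11.f185769 IH) (Lpe (K15.f185780 IH) (Lpe (K15.f185752 IH) (Lpe (f185781 IH) (Lpn (LP (LK LD1_c2 LD2_c33 LD3_c41))))))))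
theorem f185789 : Led Lsl_df (LP (LK LD1_c3 LD2_c5 LD3_c30)) = (LP (LK LD1_c2 LD2_c33 LD3_c41)) :=
  Lgr Lrot38 (Lpr_dt (f185782 IH) (Lpn (LP (LK LD1_c2 LD2_c33 LD3_c41))))
theorem f185792 : Led Lsl_bt (LP (LK LD1_c3 LD2_c5 LD3_c30)) = (LP (LK LD1_c6 LD2_c16 LD3_c49)) :=
  Lre_b IH (LK LD1_c3 LD2_c5 LD3_c30) (LK LD1_c6 LD2_c16 LD3_c49) Lrfl Lrfl
theorem f185793 : Led Lsl_bt (LP (LK LD1_c5 LD2_c13 LD3_c34)) = (LP (LK LD1_c2 LD2_c33 LD3_c41)) :=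
  Lre_b IH (LK LD1_c5 LD2_c13 LD3_c34) (LK LD1_c2 LD2_c33 LD3_c41) Lrfl Lrfl
theorem f185794 : Led Lsl_dt (LP (LK LD1_c6 LD2_c16 LD3_c49)) = (LP (LK LD1_c5 LD2_c13 LD3_c34)) :=
  Lgr Lrot79 (Lpe (f185792 IH) (Lpr_df (f185789 IH) (Lpe (f185793 IH) (Lpn (LP (LK LD1_c5 LD2_c13 LD3_c34))))))
theorem f185799 : Led Lsl_et (LP (LK LD1_c3 LD2_c5 LD3_c29)) = (LP (LK LD1_c6 LD2_c16 LD3_c49)) :=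
  Lre_e IH (LK LD1_c3 LD2_c5 LD3_c29) (LK LD1_c6 LD2_c16 LD3_c49) Lrfl Lrfl
theorem f185800 : Led Lsl_et (LP (LK LD1_c5 LD2_c13 LD3_c34)) = (LP (LK LD1_c2 LD2_c33 LD3_c39)) :=
  Lre_e IH (LK LD1_c5 LD2_c13 LD3_c34) (LK LD1_c2 LD2_c33 LD3_c39) Lrfl Lrfl
theorem f185801 : Led Lsl_dt (LP (LK LD1_c2 LD2_c33 LD3_c39)) = (LP (LK LD1_c1 LD2_c13 LD3_c47)) :=
  Lre_d IH (LK LD1_c2 LD2_c33 LD3_c39) (LK LD1_c1 LD2_c13 LD3_c47) Lrfl Lrfl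
theorem f185802 : Led Lsl_et (LP (LK LD1_c1 LD2_c13 LD3_c47)) = (LP (LK LD1_c2 LD2_c33 LD3_c40)) :=
  Lre_e IH (LK LD1_c1 LD2_c13 LD3_c47) (LK LD1_c2 LD2_c33 LD3_c40) Lrfl Lrfl
theorem f185803 : Led Lsl_df (LP (LK LD1_c3 LD2_c5 LD3_c29)) = (LP (LK LD1_c2 LD2_c33 LD3_c40)) :=
  Lgr Lrot70 (Lpr_et (f185799 IH) (Lpr_dt (f185794 IH) (Lpr_et (f185800 IH) (Lpr_dt (f185801 IH) (Lpr_et (f185802 IH) (Lpn (LP (LK LD1_c2 LD2_c33 LD3_c40))))))))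
theorem f58886 : Led Lsl_dt (LP (LK LD1_c0 LD2_c17 LD3_c15)) = (LP (LK LD1_c0 LD2_c31 LD3_c16)) :=
  Lre_d IH (LK LD1_c0 LD2_c17 LD3_c15) (LK LD1_c0 LD2_c31 LD3_c16) Lrfl Lrfl
theorem f78525 : Led Lsl_ct (LP (LK LD1_c0 LD2_c31 LD3_c16)) = (LP (LK LD1_c1 LD2_c7 LD3_c54)) :=
  Lre_c IH (LK LD1_c0 LD2_c31 LD3_c16) (LK LD1_c1 LD2_c7 LD3_c54) Lrfl Lrfl
theorem f69678 : Led Lsl_dt (LP (LK LD1_c2 LD2_c21 LD3_c17)) = (LP (LK LD1_c1 LD2_c7 LD3_c54)) :=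
  Lre_d IH (LK LD1_c2 LD2_c21 LD3_c17) (LK LD1_c1 LD2_c7 LD3_c54) Lrfl Lrfl
theorem f426258 : Led Lsl_gt (LP (LK LD1_c2 LD2_c17 LD3_c28)) = (LP (LK LD1_c1 LD2_c23 LD3_c29)) :=
  Lgr Lrot94 (Lpe (K2.f72842 IH) (Lpr_gt (K8.f74942 IH) (Lpr_dt (K6.f139295 IH) (Lpr_gt (K32.f69679 IH) (Lpr_dt (f69678 IH) (Lpe (f78525 IH) (Lpe (f58886 IH) (Lpr_gf (K28.f426248 IH) (Lpe (K32.f426257 IH) (Lpn (LP (LK LD1_c1 LD2_c23 LD3_c29))))))))))))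
theorem f428096 : Led Lsl_gt (LP (LK LD1_c3 LD2_c5 LD3_c29)) = (LP (LK LD1_c3 LD2_c0 LD3_c34)) :=
  Lgr Lrot112 (Lpr_df (f185803 IH) (Lpr_et (f185812 IH) (Lpr_gf (f427797 IH) (Lpe (K32.f386745 IH) (Lpr_dt (K28.f426264 IH) (Lpe (f426258 IH) (Lpe (K4.f72871 IH) (Lpe (K4.f72887 IH) (Lpe (K32.f75530 IH) (Lpr_dt (f75833 IH) (Lpn (LP (LK LD1_c3 LD2_c0 LD3_c34)))))))))))))
theorem f185772 : Led Lsl_bt (LP (LK LD1_c1 LD2_c28 LD3_c45)) = (LP (LK LD1_c3 LD2_c5 LD3_c29)) :=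
  Lre_b IH (LK LD1_c1 LD2_c28 LD3_c45) (LK LD1_c3 LD2_c5 LD3_c29) Lrfl Lrfl
theorem f176918 : Led Lsl_bt (LP (LK LD1_c4 LD2_c41 LD3_c32)) = (LP (LK LD1_c2 LD2_c17 LD3_c51)) :=
  Lre_b IH (LK LD1_c4 LD2_c41 LD3_c32) (LK LD1_c2 LD2_c17 LD3_c51) Lrfl Lrfl
theorem f302543 : Led Lsl_ft (LP (LK LD1_c3 LD2_c5 LD3_c29)) = (LP (LK LD1_c4 LD2_c41 LD3_c32)) :=
  Lgr Lrot75 (Lpe (f185772 IH) (Lpr_ff (K18.f302541 IH) (Lpe (f176918 IH) (Lpn (LP (LK LD1_c4 LD2_c41 LD3_c32))))))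
theorem f428098 : Led Lsl_at (LP (LK LD1_c4 LD2_c41 LD3_c32)) = (LP (LK LD1_c6 LD2_c8 LD3_c34)) :=
  Lgr Lrot26 (Lpe (f302543 IH) (Lpr_gt (f428096 IH) (Lpr_gt (f75824 IH) (Lpn (LP (LK LD1_c6 LD2_c8 LD3_c34))))))
theorem f176914 : Led Lsl_bt (LP (LK LD1_c1 LD2_c19 LD3_c47)) = (LP (LK LD1_c2 LD2_c46 LD3_c41)) :=
  Lre_b IH (LK LD1_c1 LD2_c19 LD3_c47) (LK LD1_c2 LD2_c46 LD3_c41) Lrfl Lrfl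
theorem f176919 : Led Lsl_df (LP (LK LD1_c4 LD2_c41 LD3_c32)) = (LP (LK LD1_c2 LD2_c46 LD3_c41)) :=
  Lgr Lrot12 (Lpr_bt (f176918 IH) (Lpr_dt (K11.f176912 IH) (Lpr_bt (f176914 IH) (Lpn (LP (LK LD1_c2 LD2_c46 LD3_c41))))))
theorem f176934 : Led Lsl_at (LP (LK LD1_c5 LD2_c41 LD3_c17)) = (LP (LK LD1_c2 LD2_c46 LD3_c41)) :=
  Lre_a IH (LK LD1_c5 LD2_c41 LD3_c17) (LK LD1_c2 LD2_c46 LD3_c41) Lrfl Lrfl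
theorem f428102 : Led Lsl_df (LP (LK LD1_c5 LD2_c41 LD3_c17)) = (LP (LK LD1_c6 LD2_c8 LD3_c34)) :=
  Lgr Lrot18 (Lpr_at (f176934 IH) (Lpe (f176919 IH) (Lpr_at (f428098 IH) (Lpn (LP (LK LD1_c6 LD2_c8 LD3_c34))))))
theorem f428109 : Led Lsl_dt (LP (LK LD1_c5 LD2_c41 LD3_c17)) = (LP (LK LD1_c6 LD2_c8 LD3_c34)) :=
  Lgr Lrot42 (Lpr_df (f428102 IH) (Lpn (LP (LK LD1_c6 LD2_c8 LD3_c34))))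
theorem f539629 : Led Lsl_ef (LP (LK LD1_c2 LD2_c55 LD3_c11)) = (LP (LK LD1_c5 LD2_c41 LD3_c17)) :=
  Lgr Lrot167 (Lpe (f426214 IH) (Lpr_dt (f539605 IH) (Lpr_gt (f9095 IH) (Lpe (f56277 IH) (Lpr_et (f56032 IH) (Lpr_gt (K4.f20241 IH) (Lpe (K32.f75530 IH) (Lpr_dt (f75833 IH) (Lpr_gt (f75824 IH) (Lpe (f428109 IH) (Lpn (LP (LK LD1_c5 LD2_c41 LD3_c17)))))))))))))
theorem f539637 : Led Lsl_et (LP (LK LD1_c2 LD2_c55 LD3_c11)) = (LP (LK LD1_c5 LD2_c41 LD3_c17)) :=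
  Lgr Lrot87 (Lpr_ef (f539629 IH) (Lpn (LP (LK LD1_c5 LD2_c41 LD3_c17))))
theorem f426216 : Led Lsl_dt (LP (LK LD1_c5 LD2_c57 LD3_c45)) = (LP (LK LD1_c2 LD2_c55 LD3_c11)) :=
  Lre_d IH (LK LD1_c5 LD2_c57 LD3_c45) (LK LD1_c2 LD2_c55 LD3_c11) Lrfl Lrfl
theorem f427792 : Led Lsl_et (LP (LK LD1_c11 LD2_c40 LD3_c24)) = (LP (LK LD1_c5 LD2_c57 LD3_c45)) :=
  Lre_e IH (LK LD1_c11 LD2_c40 LD3_c24) (LK LD1_c5 LD2_c57 LD3_c45) Lrfl Lrfl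
theorem f428104 : Led Lsl_et (LP (LK LD1_c6 LD2_c8 LD3_c34)) = (LP (LK LD1_c11 LD2_c58 LD3_c40)) :=
  Lre_e IH (LK LD1_c6 LD2_c8 LD3_c34) (LK LD1_c11 LD2_c58 LD3_c40) Lrfl Lrfl
theorem f539643 : Led Lsl_df (LP (LK LD1_c11 LD2_c40 LD3_c24)) = (LP (LK LD1_c11 LD2_c58 LD3_c40)) :=
  Lgr Lrot70 (Lpr_et (f427792 IH) (Lpr_dt (f426216 IH) (Lpr_et (f539637 IH) (Lpr_dt (f428109 IH) (Lpr_et (f428104 IH) (Lpn (LP (LK LD1_c11 LD2_c58 LD3_c40))))))))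
theorem f428105 : Led Lsl_af (LP (LK LD1_c9 LD2_c17 LD3_c59)) = (LP (LK LD1_c11 LD2_c58 LD3_c40)) :=
  Lgr Lrot50 (Lpr_et (K18.f176931 IH) (Lpr_at (f428098 IH) (Lpr_et (f428104 IH) (Lpn (LP (LK LD1_c11 LD2_c58 LD3_c40))))))
theorem f428107 : Led Lsl_at (LP (LK LD1_c9 LD2_c17 LD3_c59)) = (LP (LK LD1_c11 LD2_c58 LD3_c40)) :=
  Lgr Lrot100 (Lpr_af (f428105 IH) (Lpn (LP (LK LD1_c11 LD2_c58 LD3_c40))))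
theorem f539645 : Led Lsl_at (LP (LK LD1_c11 LD2_c40 LD3_c24)) = (LP (LK LD1_c10 LD2_c4 LD3_c2)) :=
  Lgr Lrot51 (Lpr_df (f539643 IH) (Lpe (f428107 IH) (Lpe (K18.f176972 IH) (Lpn (LP (LK LD1_c10 LD2_c4 LD3_c2))))))
theorem f426218 : Led Lsl_et (LP (LK LD1_c5 LD2_c57 LD3_c45)) = (LP (LK LD1_c11 LD2_c40 LD3_c24)) :=
  Lre_e IH (LK LD1_c5 LD2_c57 LD3_c45) (LK LD1_c11 LD2_c40 LD3_c24) Lrfl Lrfl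
theorem f176983 : Led Lsl_et (LP (LK LD1_c10 LD2_c4 LD3_c2)) = (LP (LK LD1_c5 LD2_c6 LD3_c39)) :=
  Lre_e IH (LK LD1_c10 LD2_c4 LD3_c2) (LK LD1_c5 LD2_c6 LD3_c39) Lrfl Lrfl
theorem f539649 : Led Lsl_af (LP (LK LD1_c5 LD2_c57 LD3_c45)) = (LP (LK LD1_c5 LD2_c6 LD3_c39)) :=
  Lgr Lrot50 (Lpr_et (f426218 IH) (Lpr_at (f539645 IH) (Lpr_et (f176983 IH) (Lpn (LP (LK LD1_c5 LD2_c6 LD3_c39))))))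
theorem f176984 : Led Lsl_dt (LP (LK LD1_c5 LD2_c6 LD3_c39)) = (LP (LK LD1_c2 LD2_c30 LD3_c36)) :=
  Lre_d IH (LK LD1_c5 LD2_c6 LD3_c39) (LK LD1_c2 LD2_c30 LD3_c36) Lrfl Lrfl
theorem f308032 : Led Lsl_dt (LP (LK LD1_c2 LD2_c30 LD3_c49)) = (LP (LK LD1_c5 LD2_c6 LD3_c59)) :=
  Lre_d IH (LK LD1_c2 LD2_c30 LD3_c49) (LK LD1_c5 LD2_c6 LD3_c59) Lrfl Lrfl
theorem f308033 : Led Lsl_ff (LP (LK LD1_c5 LD2_c6 LD3_c39)) = (LP (LK LD1_c5 LD2_c6 LD3_c59)) :=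
  Lgr Lrot19 (Lpr_dt (f176984 IH) (Lpr_ft (K27.f308030 IH) (Lpr_dt (f308032 IH) (Lpn (LP (LK LD1_c5 LD2_c6 LD3_c59))))))
theorem f427733 : Led Lsl_dt (LP (LK LD1_c3 LD2_c0 LD3_c6)) = (LP (LK LD1_c6 LD2_c7 LD3_c50)) :=
  Lre_d IH (LK LD1_c3 LD2_c0 LD3_c6) (LK LD1_c6 LD2_c7 LD3_c50) Lrfl Lrfl
theorem f308035 : Led Lsl_et (LP (LK LD1_c2 LD2_c30 LD3_c49)) = (LP (LK LD1_c1 LD2_c12 LD3_c24)) :=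
  Lre_e IH (LK LD1_c2 LD2_c30 LD3_c49) (LK LD1_c1 LD2_c12 LD3_c24) Lrfl Lrfl
theorem f427745 : Led Lsl_gt (LP (LK LD1_c6 LD2_c7 LD3_c50)) = (LP (LK LD1_c5 LD2_c6 LD3_c59)) :=
  Lgr Lrot139 (Lpe (f427733 IH) (Lpr_gf (f427738 IH) (Lpe (f56286 IH) (Lpe (K5.f75959 IH) (Lpe (K2.f74552 IH) (Lpe (K2.f37292 IH) (Lpr_et (f74573 IH) (Lpr_gf (K27.f386763 IH) (Lpe (f308035 IH) (Lpr_dt (f308032 IH) (Lpn (LP (LK LD1_c5 LD2_c6 LD3_c59)))))))))))))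
theorem f427748 : Led Lsl_ft (LP (LK LD1_c6 LD2_c7 LD3_c50)) = (LP (LK LD1_c3 LD2_c0 LD3_c11)) :=
  Lre_f IH (LK LD1_c6 LD2_c7 LD3_c50) (LK LD1_c3 LD2_c0 LD3_c11) Lrfl Lrfl
theorem f427749 : Led Lsl_at (LP (LK LD1_c3 LD2_c0 LD3_c11)) = (LP (LK LD1_c6 LD2_c7 LD3_c52)) :=
  Lre_a IH (LK LD1_c3 LD2_c0 LD3_c11) (LK LD1_c6 LD2_c7 LD3_c52) Lrfl Lrfl
theorem f427750 : Led Lsl_gf (LP (LK LD1_c6 LD2_c7 LD3_c52)) = (LP (LK LD1_c5 LD2_c6 LD3_c59)) :=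
  Lgr Lrot76 (Lpe (f427749 IH) (Lpe (f427748 IH) (Lpr_gt (f427745 IH) (Lpn (LP (LK LD1_c5 LD2_c6 LD3_c59))))))
theorem f539653 : Led Lsl_gf (LP (LK LD1_c5 LD2_c57 LD3_c45)) = (LP (LK LD1_c6 LD2_c7 LD3_c52)) :=
  Lgr Lrot76 (Lpr_af (f539649 IH) (Lpr_ff (f308033 IH) (Lpe (f427750 IH) (Lpn (LP (LK LD1_c6 LD2_c7 LD3_c52))))))
theorem f539655 : Led Lsl_ft (LP (LK LD1_c6 LD2_c7 LD3_c52)) = (LP (LK LD1_c3 LD2_c0 LD3_c7)) :=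
  Lre_f IH (LK LD1_c6 LD2_c7 LD3_c52) (LK LD1_c3 LD2_c0 LD3_c7) Lrfl Lrfl
theorem f427765 : Led Lsl_at (LP (LK LD1_c3 LD2_c0 LD3_c7)) = (LP (LK LD1_c6 LD2_c7 LD3_c50)) :=
  Lre_a IH (LK LD1_c3 LD2_c0 LD3_c7) (LK LD1_c6 LD2_c7 LD3_c50) Lrfl Lrfl
theorem f539656 : Led Lsl_gt (LP (LK LD1_c5 LD2_c57 LD3_c45)) = (LP (LK LD1_c6 LD2_c7 LD3_c50)) :=
  Lgr Lrot46 (Lpr_gf (f539653 IH) (Lpr_ft (f539655 IH) (Lpr_at (f427765 IH) (Lpn (LP (LK LD1_c6 LD2_c7 LD3_c50))))))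
theorem f426217 : Led Lsl_dt (LP (LK LD1_c2 LD2_c55 LD3_c11)) = (LP (LK LD1_c5 LD2_c57 LD3_c45)) :=
  Lre_d IH (LK LD1_c2 LD2_c55 LD3_c11) (LK LD1_c5 LD2_c57 LD3_c45) Lrfl Lrfl
theorem f427736 : Led Lsl_et (LP (LK LD1_c3 LD2_c0 LD3_c6)) = (LP (LK LD1_c2 LD2_c44 LD3_c36)) :=
  Lgr Lrot87 (Lpr_ef (f427728 IH) (Lpn (LP (LK LD1_c2 LD2_c44 LD3_c36))))
theorem f381710 : Led Lsl_et (LP (LK LD1_c1 LD2_c20 LD3_c11)) = (LP (LK LD1_c2 LD2_c47 LD3_c49)) :=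
  Lre_e IH (LK LD1_c1 LD2_c20 LD3_c11) (LK LD1_c2 LD2_c47 LD3_c49) Lrfl Lrfl
theorem f539660 : Led Lsl_gf (LP (LK LD1_c5 LD2_c41 LD3_c17)) = (LP (LK LD1_c2 LD2_c47 LD3_c49)) :=
  Lgr Lrot141 (Lpe (f539637 IH) (Lpr_dt (f426217 IH) (Lpr_gt (f539656 IH) (Lpe (f427733 IH) (Lpr_et (f427736 IH) (Lpr_gt (K27.f211957 IH) (Lpr_dt (K27.f211945 IH) (Lpe (K27.f382449 IH) (Lpe (K27.f381650 IH) (Lpr_et (f381710 IH) (Lpn (LP (LK LD1_c2 LD2_c47 LD3_c49)))))))))))))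
theorem f176930 : Led Lsl_at (LP (LK LD1_c2 LD2_c46 LD3_c41)) = (LP (LK LD1_c5 LD2_c41 LD3_c17)) :=
  Lre_a IH (LK LD1_c2 LD2_c46 LD3_c41) (LK LD1_c5 LD2_c41 LD3_c17) Lrfl Lrfl
theorem f308064 : Led Lsl_ff (LP (LK LD1_c2 LD2_c46 LD3_c41)) = (LP (LK LD1_c2 LD2_c33 LD3_c40)) :=
  Lgr Lrot72 (Lpe (K18.f176978 IH) (Lpr_ft (K27.f308030 IH) (Lpr_et (f308035 IH) (Lpr_ft (K27.f308058 IH) (Lpr_et (f185802 IH) (Lpn (LP (LK LD1_c2 LD2_c33 LD3_c40))))))))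
theorem f539662 : Led Lsl_gt (LP (LK LD1_c2 LD2_c33 LD3_c40)) = (LP (LK LD1_c2 LD2_c47 LD3_c49)) :=
  Lgr Lrot5 (Lpe (f308064 IH) (Lpr_at (f176930 IH) (Lpr_gf (f539660 IH) (Lpn (LP (LK LD1_c2 LD2_c47 LD3_c49))))))
theorem f536682 : K35.v116 = (LP (LK LD1_c0 LD2_c29 LD3_c10)) :=
  Lefun (Lecon (Lfl_df (K35.f452198 IH)) (f536634 IH).symm) (K35.f37096 IH)
theorem f70213 : Led Lsl_bt (LP (LK LD1_c3 LD2_c3 LD3_c60)) = (LP (LK LD1_c1 LD2_c28 LD3_c2)) :=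
  Lre_b IH (LK LD1_c3 LD2_c3 LD3_c60) (LK LD1_c1 LD2_c28 LD3_c2) Lrfl Lrfl
theorem f539666 : Led Lsl_cf (LP (LK LD1_c3 LD2_c3 LD3_c60)) = (LP (LK LD1_c5 LD2_c43 LD3_c37)) :=
  Lgr Lrot89 (Lpr_bt (f70213 IH) (Lpr_gt (K2.f59703 IH) (Lpr_dt (K1.f35438 IH) (Lpr_ct (K1.f35439 IH) (Lpe (K1.f35616 IH) (Lpr_gt (K1.f29559 IH) (Lpr_dt (K1.f29324 IH) (Lpe (K1.f29322 IH) (Lpe (K0.f2943 IH) (Lpr_gt (K1.f37089 IH) (Lpr_dt (K1.f37094 IH) (Lpr_ct (K11.f21216 IH) (Lpq (f536682 IH) (Lpe (K35.f448953 IH) (Lpr_gt (K13.f186330 IH) (Lpe (K18.f186342 IH) (Lpr_ct (K13.f185776 IH) (Lpr_bt (K35.f185809 IH) (Lpr_gt (f539662 IH) (Lpr_dt (f381697 IH) (Lpn (LP (LK LD1_c5 LD2_c43 LD3_c37)))))))))))))))))))))))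
theorem f81379 : Led Lsl_dt (LP (LK LD1_c1 LD2_c28 LD3_c1)) = (LP (LK LD1_c3 LD2_c3 LD3_c60)) :=
  Lre_d IH (LK LD1_c1 LD2_c28 LD3_c1) (LK LD1_c3 LD2_c3 LD3_c60) Lrfl Lrfl
theorem f382396 : Led Lsl_at (LP (LK LD1_c1 LD2_c20 LD3_c15)) = (LP (LK LD1_c2 LD2_c47 LD3_c49)) :=
  Lre_a IH (LK LD1_c1 LD2_c20 LD3_c15) (LK LD1_c2 LD2_c47 LD3_c49) Lrfl Lrfl
theorem f495856 : Led Lsl_ft (LP (LK LD1_c2 LD2_c47 LD3_c60)) = (LP (LK LD1_c1 LD2_c20 LD3_c15)) :=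
  Lre_f IH (LK LD1_c2 LD2_c47 LD3_c60) (LK LD1_c1 LD2_c20 LD3_c15) Lrfl Lrfl
theorem f541760 : Led Lsl_af (LP (LK LD1_c2 LD2_c47 LD3_c60)) = (LP (LK LD1_c2 LD2_c47 LD3_c55)) :=
  Lgr Lrot45 (Lpr_ft (f495856 IH) (Lpr_at (f382396 IH) (Lpr_ft (f541751 IH) (Lpn (LP (LK LD1_c2 LD2_c47 LD3_c55))))))
theorem f380682 : Led Lsl_gf (LP (LK LD1_c0 LD2_c34 LD3_c12)) = (LP (LK LD1_c0 LD2_c36 LD3_c58)) :=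
  Lgr Lrot47 (Lpe (K15.f185834 IH) (Lpr_af (f379961 IH) (Lpe (f380679 IH) (Lpn (LP (LK LD1_c0 LD2_c36 LD3_c58))))))
theorem f176987 : Led Lsl_ct (LP (LK LD1_c0 LD2_c16 LD3_c29)) = (LP (LK LD1_c0 LD2_c36 LD3_c54)) :=
  Lre_c IH (LK LD1_c0 LD2_c16 LD3_c29) (LK LD1_c0 LD2_c36 LD3_c54) Lrfl Lrfl
theorem f452554 : Led Lsl_cf (LP (LK LD1_c0 LD2_c36 LD3_c58)) = v385 :=
  Lgr Lrot108 (Lpr_ft (f380679 IH) (Lpr_ct (f176987 IH) (Lpr_ft (f452552 IH) (Lpn v385))))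
theorem f225440 : Led Lsl_bt (LP (LK LD1_c1 LD2_c19 LD3_c42)) = (LP (LK LD1_c0 LD2_c36 LD3_c54)) :=
  Lre_b IH (LK LD1_c1 LD2_c19 LD3_c42) (LK LD1_c0 LD2_c36 LD3_c54) Lrfl Lrfl
theorem f242752 : Led Lsl_ct (LP (LK LD1_c2 LD2_c30 LD3_c53)) = (LP (LK LD1_c2 LD2_c33 LD3_c40)) :=
  Lgr Lrot59 (Lpr_cf (K35.f242750 IH) (Lpn (LP (LK LD1_c2 LD2_c33 LD3_c40))))
theorem f539664 : Led Lsl_gf (LP (LK LD1_c2 LD2_c33 LD3_c40)) = (LP (LK LD1_c2 LD2_c47 LD3_c60)) :=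
  Lgr Lrot47 (Lpr_gt (f539662 IH) (Lpe (f382396 IH) (Lpe (f495856 IH) (Lpn (LP (LK LD1_c2 LD2_c47 LD3_c60))))))
theorem f539668 : Led Lsl_cf (LP (LK LD1_c2 LD2_c47 LD3_c60)) = (LP (LK LD1_c2 LD2_c47 LD3_c49)) :=
  Lgr Lrot125 (Lpe (f539664 IH) (Lpe (f242752 IH) (Lpr_bt (K27.f68543 IH) (Lpe (K18.f225434 IH) (Lpe (f225440 IH) (Lpqs (f536719 IH) (Lpqs (f536818 IH) (Lpe (f452554 IH) (Lpe (f380682 IH) (Lpe (K13.f185817 IH) (Lpr_bt (K35.f185809 IH) (Lpr_gt (f539662 IH) (Lpn (LP (LK LD1_c2 LD2_c47 LD3_c49)))))))))))))))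
theorem f381934 : Led Lsl_dt (LP (LK LD1_c5 LD2_c43 LD3_c37)) = (LP (LK LD1_c2 LD2_c47 LD3_c49)) :=
  Lre_d IH (LK LD1_c5 LD2_c43 LD3_c37) (LK LD1_c2 LD2_c47 LD3_c49) Lrfl Lrfl
theorem f541768 : Led Lsl_ct (LP (LK LD1_c3 LD2_c3 LD3_c60)) = (LP (LK LD1_c5 LD2_c43 LD3_c37)) :=
  Lgr Lrot53 (Lpe (f81379 IH) (Lpr_cf (K32.f81387 IH) (Lpe (K32.f81374 IH) (Lpr_cf (f539666 IH) (Lpe (f381697 IH) (Lpr_ft (f541751 IH) (Lpe (f541760 IH) (Lpr_cf (f539668 IH) (Lpe (f381934 IH) (Lpn (LP (LK LD1_c5 LD2_c43 LD3_c37))))))))))))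
theorem f70094 : Led Lsl_at (LP (LK LD1_c2 LD2_c9 LD3_c17)) = (LP (LK LD1_c4 LD2_c23 LD3_c47)) :=
  Lre_a IH (LK LD1_c2 LD2_c9 LD3_c17) (LK LD1_c4 LD2_c23 LD3_c47) Lrfl Lrfl
theorem f70093 : Led Lsl_at (LP (LK LD1_c4 LD2_c23 LD3_c47)) = (LP (LK LD1_c2 LD2_c9 LD3_c17)) :=
  Lre_a IH (LK LD1_c4 LD2_c23 LD3_c47) (LK LD1_c2 LD2_c9 LD3_c17) Lrfl Lrfl
theorem f70095 : Led Lsl_cf (LP (LK LD1_c4 LD2_c23 LD3_c47)) = (LP (LK LD1_c4 LD2_c23 LD3_c47)) :=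
  Lgr Lrot1 (Lpr_at (f70093 IH) (Lpr_ct (K9.f70091 IH) (Lpr_at (f70094 IH) (Lpn (LP (LK LD1_c4 LD2_c23 LD3_c47))))))
theorem f70103 : Led Lsl_dt (LP (LK LD1_c8 LD2_c45 LD3_c26)) = (LP (LK LD1_c4 LD2_c23 LD3_c47)) :=
  Lre_d IH (LK LD1_c8 LD2_c45 LD3_c26) (LK LD1_c4 LD2_c23 LD3_c47) Lrfl Lrfl
theorem f541673 : Led Lsl_dt (LP (LK LD1_c2 LD2_c47 LD3_c60)) = (LP (LK LD1_c5 LD2_c43 LD3_c57)) :=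
  Lre_d IH (LK LD1_c2 LD2_c47 LD3_c60) (LK LD1_c5 LD2_c43 LD3_c57) Lrfl Lrfl
theorem f541777 : Led Lsl_cf (LP (LK LD1_c8 LD2_c45 LD3_c26)) = (LP (LK LD1_c5 LD2_c43 LD3_c57)) :=
  Lgr Lrot161 (Lpr_dt (f70103 IH) (Lpe (f70095 IH) (Lpe (f70094 IH) (Lpe (K32.f81375 IH) (Lpr_dt (f81379 IH) (Lpr_ct (f541768 IH) (Lpr_dt (f381934 IH) (Lpe (f539668 IH) (Lpr_dt (f541673 IH) (Lpn (LP (LK LD1_c5 LD2_c43 LD3_c57))))))))))))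
theorem f70102 : Led Lsl_dt (LP (LK LD1_c4 LD2_c23 LD3_c47)) = (LP (LK LD1_c8 LD2_c45 LD3_c26)) :=
  Lre_d IH (LK LD1_c4 LD2_c23 LD3_c47) (LK LD1_c8 LD2_c45 LD3_c26) Lrfl Lrfl
theorem f80551 : Led Lsl_gt (LP (LK LD1_c1 LD2_c28 LD3_c1)) = (LP (LK LD1_c3 LD2_c3 LD3_c57)) :=
  Lre_g IH (LK LD1_c1 LD2_c28 LD3_c1) (LK LD1_c3 LD2_c3 LD3_c57) Lrfl Lrfl
theorem f81389 : Led Lsl_gt (LP (LK LD1_c3 LD2_c3 LD3_c57)) = (LP (LK LD1_c4 LD2_c23 LD3_c47)) :=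
  Lgr Lrot46 (Lpe (f80551 IH) (Lpr_ft (K32.f81375 IH) (Lpr_at (f70094 IH) (Lpn (LP (LK LD1_c4 LD2_c23 LD3_c47))))))
theorem f117751 : Led Lsl_et (LP (LK LD1_c6 LD2_c25 LD3_c13)) = (LP (LK LD1_c3 LD2_c10 LD3_c15)) :=
  Lre_e IH (LK LD1_c6 LD2_c25 LD3_c13) (LK LD1_c3 LD2_c10 LD3_c15) Lrfl Lrfl
theorem f75129 : Led Lsl_et (LP (LK LD1_c3 LD2_c4 LD3_c8)) = (LP (LK LD1_c6 LD2_c14 LD3_c29)) :=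
  Lre_e IH (LK LD1_c3 LD2_c4 LD3_c8) (LK LD1_c6 LD2_c14 LD3_c29) Lrfl Lrfl
theorem f117752 : Led Lsl_bf (LP (LK LD1_c6 LD2_c25 LD3_c13)) = (LP (LK LD1_c6 LD2_c14 LD3_c29)) :=
  Lgr Lrot96 (Lpr_et (f117751 IH) (Lpr_bt (K8.f117745 IH) (Lpr_et (f75129 IH) (Lpn (LP (LK LD1_c6 LD2_c14 LD3_c29))))))
theorem f117756 : Led Lsl_ct (LP (LK LD1_c6 LD2_c25 LD3_c13)) = (LP (LK LD1_c12 LD2_c23 LD3_c24)) :=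
  Lre_c IH (LK LD1_c6 LD2_c25 LD3_c13) (LK LD1_c12 LD2_c23 LD3_c24) Lrfl Lrfl
theorem f75095 : Led Lsl_et (LP (LK LD1_c6 LD2_c14 LD3_c29)) = (LP (LK LD1_c3 LD2_c4 LD3_c8)) :=
  Lre_e IH (LK LD1_c6 LD2_c14 LD3_c29) (LK LD1_c3 LD2_c4 LD3_c8) Lrfl Lrfl
theorem f75097 : Led Lsl_cf (LP (LK LD1_c6 LD2_c14 LD3_c29)) = (LP (LK LD1_c11 LD2_c45 LD3_c40)) :=
  Lgr Lrot39 (Lpr_et (f75095 IH) (Lpr_ct (K4.f75084 IH) (Lpr_et (f75096 IH) (Lpn (LP (LK LD1_c11 LD2_c45 LD3_c40))))))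
theorem f75100 : Led Lsl_bt (LP (LK LD1_c6 LD2_c0 LD3_c43)) = (LP (LK LD1_c11 LD2_c45 LD3_c40)) :=
  Lre_b IH (LK LD1_c6 LD2_c0 LD3_c43) (LK LD1_c11 LD2_c45 LD3_c40) Lrfl Lrfl
theorem f117757 : Led Lsl_bt (LP (LK LD1_c12 LD2_c23 LD3_c24)) = (LP (LK LD1_c9 LD2_c49 LD3_c15)) :=
  Lgr Lrot128 (Lpe (f117756 IH) (Lpr_bf (f117752 IH) (Lpr_cf (f75097 IH) (Lpe (f75100 IH) (Lpr_cf (K32.f75367 IH) (Lpn (LP (LK LD1_c9 LD2_c49 LD3_c15))))))))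
theorem f117759 : Led Lsl_bf (LP (LK LD1_c12 LD2_c23 LD3_c24)) = (LP (LK LD1_c9 LD2_c49 LD3_c15)) :=
  Lgr Lrot24 (Lpr_bt (f117757 IH) (Lpn (LP (LK LD1_c9 LD2_c49 LD3_c15))))
theorem f117738 : Led Lsl_et (LP (LK LD1_c12 LD2_c23 LD3_c24)) = (LP (LK LD1_c6 LD2_c25 LD3_c12)) :=
  Lre_e IH (LK LD1_c12 LD2_c23 LD3_c24) (LK LD1_c6 LD2_c25 LD3_c12) Lrfl Lrfl
theorem f117762 : Led Lsl_bt (LP (LK LD1_c6 LD2_c25 LD3_c12)) = (LP (LK LD1_c4 LD2_c59 LD3_c25)) :=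
  Lgr Lrot119 (Lpe (f117738 IH) (Lpr_bf (f117759 IH) (Lpe (K32.f74401 IH) (Lpn (LP (LK LD1_c4 LD2_c59 LD3_c25))))))
theorem f30718 : Led Lsl_gt (LP (LK LD1_c1 LD2_c57 LD3_c11)) = (LP (LK LD1_c4 LD2_c0 LD3_c49)) :=
  Lre_g IH (LK LD1_c1 LD2_c57 LD3_c11) (LK LD1_c4 LD2_c0 LD3_c49) Lrfl Lrfl
theorem f80550 : Led Lsl_bt (LP (LK LD1_c0 LD2_c40 LD3_c43)) = (LP (LK LD1_c1 LD2_c28 LD3_c1)) :=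
  Lre_b IH (LK LD1_c0 LD2_c40 LD3_c43) (LK LD1_c1 LD2_c28 LD3_c1) Lrfl Lrfl
theorem f80552 : Led Lsl_bf (LP (LK LD1_c3 LD2_c3 LD3_c57)) = (LP (LK LD1_c3 LD2_c4 LD3_c44)) :=
  Lgr Lrot34 (Lpe (f80551 IH) (Lpe (f80550 IH) (Lpr_ct (K1.f59693 IH) (Lpe (K11.f80433 IH) (Lpe (K4.f59626 IH) (Lpr_gf (K8.f80547 IH) (Lpe (K5.f56493 IH) (Lpr_ct (K2.f60850 IH) (Lpe (K8.f60853 IH) (Lpe (K8.f60854 IH) (Lpn (LP (LK LD1_c3 LD2_c4 LD3_c44)))))))))))))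
theorem f80626 : Led Lsl_ct (LP (LK LD1_c3 LD2_c3 LD3_c57)) = (LP (LK LD1_c6 LD2_c14 LD3_c8)) :=
  Lre_c IH (LK LD1_c3 LD2_c3 LD3_c57) (LK LD1_c6 LD2_c14 LD3_c8) Lrfl Lrfl
theorem f161813 : Led Lsl_bt (LP (LK LD1_c6 LD2_c14 LD3_c8)) = (LP (LK LD1_c3 LD2_c10 LD3_c10)) :=
  Lgr Lrot128 (Lpe (f80626 IH) (Lpr_bf (f80552 IH) (Lpe (K8.f73430 IH) (Lpe (f60855 IH) (Lpr_cf (K8.f161811 IH) (Lpn (LP (LK LD1_c3 LD2_c10 LD3_c10))))))))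
theorem f425764 : Led Lsl_dt (LP (LK LD1_c4 LD2_c0 LD3_c49)) = (LP (LK LD1_c3 LD2_c3 LD3_c57)) :=
  Lgr Lrot182 (Lpe (f30718 IH) (Lpe (K32.f30705 IH) (Lpe (K1.f29553 IH) (Lpe (K1.f29554 IH) (Lpe (K1.f34741 IH) (Lpe (K4.f34747 IH) (Lpe (K2.f35209 IH) (Lpe (K2.f35222 IH) (Lpe (K8.f116978 IH) (Lpr_bf (K32.f150317 IH) (Lpe (K8.f72556 IH) (Lpe (K8.f150277 IH) (Lpe (K8.f75344 IH) (Lpe (f117762 IH) (Lpe (K8.f117722 IH) (Lpe (K8.f117721 IH) (Lpr_gf (K32.f161817 IH) (Lpe (f161813 IH) (Lpe (f80626 IH) (Lpn (LP (LK LD1_c3 LD2_c3 LD3_c57))))))))))))))))))))))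
theorem f541766 : Led Lsl_gt (LP (LK LD1_c5 LD2_c41 LD3_c17)) = (LP (LK LD1_c2 LD2_c47 LD3_c60)) :=
  Lgr Lrot46 (Lpr_gf (f539660 IH) (Lpr_ft (f541751 IH) (Lpe (f541760 IH) (Lpn (LP (LK LD1_c2 LD2_c47 LD3_c60))))))
theorem f541790 : Led Lsl_ct (LP (LK LD1_c1 LD2_c57 LD3_c11)) = (LP (LK LD1_c3 LD2_c0 LD3_c34)) :=
  Lgr Lrot8 (Lpr_gt (f30718 IH) (Lpr_dt (f425764 IH) (Lpr_gt (f81389 IH) (Lpr_dt (f70102 IH) (Lpr_cf (f541777 IH) (Lpe (f541673 IH) (Lpe (f541766 IH) (Lpr_df (f428102 IH) (Lpe (f75824 IH) (Lpn (LP (LK LD1_c3 LD2_c0 LD3_c34))))))))))))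
theorem f69455 : Led Lsl_dt (LP (LK LD1_c2 LD2_c54 LD3_c10)) = (LP (LK LD1_c1 LD2_c23 LD3_c4)) :=
  Lre_d IH (LK LD1_c2 LD2_c54 LD3_c10) (LK LD1_c1 LD2_c23 LD3_c4) Lrfl Lrfl
theorem f81839 : Led Lsl_bt (LP (LK LD1_c2 LD2_c53 LD3_c25)) = (LP (LK LD1_c2 LD2_c54 LD3_c10)) :=
  Lgr Lrot95 (Lpe (K6.f69348 IH) (Lpr_bf (K6.f81833 IH) (Lpe (f69455 IH) (Lpn (LP (LK LD1_c2 LD2_c54 LD3_c10))))))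
theorem f161459 : Led Lsl_df (LP (LK LD1_c3 LD2_c1 LD3_c49)) = (LP (LK LD1_c4 LD2_c38 LD3_c31)) :=
  Lgr Lrot12 (Lpr_bt (K4.f96071 IH) (Lpr_dt (K3.f96042 IH) (Lpr_bt (K8.f161451 IH) (Lpn (LP (LK LD1_c4 LD2_c38 LD3_c31))))))
theorem f420041 : Led Lsl_gt (LP (LK LD1_c11 LD2_c36 LD3_c18)) = (LP (LK LD1_c8 LD2_c45 LD3_c42)) :=
  Lgr Lrot49 (Lpr_df (K32.f420036 IH) (Lpe (K32.f119641 IH) (Lpe (K4.f79434 IH) (Lpr_gt (K32.f160824 IH) (Lpr_dt (K8.f64576 IH) (Lpr_gt (K8.f161863 IH) (Lpe (f161459 IH) (Lpe (K4.f61794 IH) (Lpr_df (K6.f137701 IH) (Lpn (LP (LK LD1_c8 LD2_c45 LD3_c42))))))))))))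
theorem f420045 : Led Lsl_gt (LP (LK LD1_c5 LD2_c55 LD3_c31)) = (LP (LK LD1_c2 LD2_c54 LD3_c10)) :=
  Lgr Lrot94 (Lpe (K32.f149655 IH) (Lpr_gt (f420041 IH) (Lpe (K6.f137701 IH) (Lpr_gt (K8.f96092 IH) (Lpe (K8.f118891 IH) (Lpe (K8.f99745 IH) (Lpe (K8.f112469 IH) (Lpr_gf (K8.f161095 IH) (Lpe (f69455 IH) (Lpn (LP (LK LD1_c2 LD2_c54 LD3_c10))))))))))))
theorem f498432 : Led Lsl_ft (LP (LK LD1_c12 LD2_c36 LD3_c53)) = (LP (LK LD1_c6 LD2_c36 LD3_c23)) :=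
  Lgr Lrot4 (Lpr_cf (K32.f419868 IH) (Lpr_ff (f498426 IH) (Lpr_cf (K8.f138788 IH) (Lpn (LP (LK LD1_c6 LD2_c36 LD3_c23))))))
theorem f498908 : Led Lsl_af (LP (LK LD1_c12 LD2_c36 LD3_c52)) = (LP (LK LD1_c6 LD2_c36 LD3_c23)) :=
  Lgr Lrot31 (Lpe (K8.f96632 IH) (Lpe (K32.f111007 IH) (Lpr_ft (f498432 IH) (Lpn (LP (LK LD1_c6 LD2_c36 LD3_c23))))))
theorem f161489 : Led Lsl_bt (LP (LK LD1_c16 LD2_c23 LD3_c57)) = (LP (LK LD1_c8 LD2_c45 LD3_c44)) :=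
  Lre_b IH (LK LD1_c16 LD2_c23 LD3_c57) (LK LD1_c8 LD2_c45 LD3_c44) Lrfl Lrfl
theorem f110965 : Led Lsl_bt (LP (LK LD1_c6 LD2_c18 LD3_c24)) = (LP (LK LD1_c12 LD2_c12 LD3_c49)) :=
  Lre_b IH (LK LD1_c6 LD2_c18 LD3_c24) (LK LD1_c12 LD2_c12 LD3_c49) Lrfl Lrfl
theorem f119729 : Led Lsl_bt (LP (LK LD1_c5 LD2_c56 LD3_c1)) = (LP (LK LD1_c3 LD2_c15 LD3_c17)) :=
  Lgr Lrot95 (Lpr_df (K6.f119726 IH) (Lpe (K32.f23563 IH) (Lpe (K3.f23340 IH) (Lpn (LP (LK LD1_c3 LD2_c15 LD3_c17))))))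
theorem f208308 : Led Lsl_at (LP (LK LD1_c8 LD2_c45 LD3_c44)) = (LP (LK LD1_c5 LD2_c56 LD3_c1)) :=
  Lgr Lrot67 (Lpe (f161489 IH) (Lpr_af (K32.f208302 IH) (Lpe (f110965 IH) (Lpe (K3.f110961 IH) (Lpe (f119729 IH) (Lpn (LP (LK LD1_c5 LD2_c56 LD3_c1))))))))
theorem f137760 : Led Lsl_af (LP (LK LD1_c6 LD2_c10 LD3_c23)) = (LP (LK LD1_c11 LD2_c37 LD3_c20)) :=
  Lgr Lrot68 (Lpr_ct (K4.f61794 IH) (Lpe (K6.f137732 IH) (Lpr_ct (K6.f137753 IH) (Lpn (LP (LK LD1_c11 LD2_c37 LD3_c20))))))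
theorem f138815 : Led Lsl_ft (LP (LK LD1_c6 LD2_c33 LD3_c57)) = (LP (LK LD1_c11 LD2_c37 LD3_c20)) :=
  Lgr Lrot2 (Lpr_gt (K11.f138813 IH) (Lpr_gt (K4.f96072 IH) (Lpr_af (f137760 IH) (Lpn (LP (LK LD1_c11 LD2_c37 LD3_c20))))))
theorem f161494 : Led Lsl_ft (LP (LK LD1_c5 LD2_c56 LD3_c4)) = (LP (LK LD1_c8 LD2_c45 LD3_c44)) :=
  Lgr Lrot54 (Lpe (K6.f119702 IH) (Lpe (f138815 IH) (Lpr_df (K8.f161485 IH) (Lpn (LP (LK LD1_c8 LD2_c45 LD3_c44))))))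
theorem f208753 : Led Lsl_gt (LP (LK LD1_c5 LD2_c56 LD3_c4)) = (LP (LK LD1_c11 LD2_c37 LD3_c14)) :=
  Lgr Lrot5 (Lpr_ft (f161494 IH) (Lpr_at (f208308 IH) (Lpe (K8.f119740 IH) (Lpn (LP (LK LD1_c11 LD2_c37 LD3_c14))))))
theorem f208755 : Led Lsl_df (LP (LK LD1_c6 LD2_c36 LD3_c23)) = (LP (LK LD1_c11 LD2_c37 LD3_c14)) :=
  Lgr Lrot153 (Lpr_gt (K8.f64543 IH) (Lpe (K4.f79061 IH) (Lpe (K4.f36323 IH) (Lpe (K4.f36322 IH) (Lpe (K4.f36321 IH) (Lpe (K8.f69207 IH) (Lpr_gf (K8.f149588 IH) (Lpe (K6.f119701 IH) (Lpr_gt (f208753 IH) (Lpn (LP (LK LD1_c11 LD2_c37 LD3_c14))))))))))))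
theorem f498912 : Led Lsl_at (LP (LK LD1_c8 LD2_c49 LD3_c52)) = (LP (LK LD1_c11 LD2_c37 LD3_c14)) :=
  Lgr Lrot51 (Lpe (K8.f116774 IH) (Lpr_af (f498908 IH) (Lpr_df (f208755 IH) (Lpn (LP (LK LD1_c11 LD2_c37 LD3_c14))))))
theorem f137755 : Led Lsl_dt (LP (LK LD1_c5 LD2_c56 LD3_c4)) = (LP (LK LD1_c11 LD2_c37 LD3_c20)) :=
  Lre_d IH (LK LD1_c5 LD2_c56 LD3_c4) (LK LD1_c11 LD2_c37 LD3_c20) Lrfl Lrfl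
theorem f420331 : Led Lsl_gt (LP (LK LD1_c11 LD2_c37 LD3_c13)) = (LP (LK LD1_c5 LD2_c56 LD3_c4)) :=
  Lgr Lrot94 (Lpr_cf (K32.f202037 IH) (Lpr_gt (K32.f420329 IH) (Lpr_dt (K8.f35340 IH) (Lpr_gt (K5.f37759 IH) (Lpe (K8.f163017 IH) (Lpe (K8.f161809 IH) (Lpe (K8.f81799 IH) (Lpr_gf (K8.f161796 IH) (Lpe (f137755 IH) (Lpn (LP (LK LD1_c5 LD2_c56 LD3_c4))))))))))))
theorem f498918 : Led Lsl_ff (LP (LK LD1_c8 LD2_c49 LD3_c52)) = (LP (LK LD1_c11 LD2_c37 LD3_c13)) :=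
  Lgr Lrot52 (Lpr_at (f498912 IH) (Lpe (f208753 IH) (Lpe (f420331 IH) (Lpn (LP (LK LD1_c11 LD2_c37 LD3_c13))))))
theorem f118877 : Led Lsl_gt (LP (LK LD1_c12 LD2_c36 LD3_c52)) = (LP (LK LD1_c6 LD2_c36 LD3_c24)) :=
  Lgr Lrot46 (Lpe (K8.f96632 IH) (Lpr_ft (K5.f118869 IH) (Lpr_at (K11.f79086 IH) (Lpn (LP (LK LD1_c6 LD2_c36 LD3_c24))))))
theorem f158437 : Led Lsl_cf (LP (LK LD1_c12 LD2_c36 LD3_c52)) = (LP (LK LD1_c6 LD2_c39 LD3_c0)) :=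
  Lgr Lrot169 (Lpr_gt (f118877 IH) (Lpr_ct (K4.f79429 IH) (Lpe (K4.f119891 IH) (Lpr_cf (K8.f119897 IH) (Lpr_gf (K8.f158429 IH) (Lpr_cf (K5.f112488 IH) (Lpe (K5.f112482 IH) (Lpe (K8.f116781 IH) (Lpr_gt (K8.f56862 IH) (Lpn (LP (LK LD1_c6 LD2_c39 LD3_c0))))))))))))
theorem f117023 : Led Lsl_at (LP (LK LD1_c8 LD2_c49 LD3_c51)) = (LP (LK LD1_c4 LD2_c26 LD3_c13)) :=
  Lre_a IH (LK LD1_c8 LD2_c49 LD3_c51) (LK LD1_c4 LD2_c26 LD3_c13) Lrfl Lrfl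
theorem f161859 : Led Lsl_ff (LP (LK LD1_c8 LD2_c49 LD3_c51)) = (LP (LK LD1_c5 LD2_c55 LD3_c31)) :=
  Lgr Lrot103 (Lpr_at (f117023 IH) (Lpe (K8.f27177 IH) (Lpe (K8.f116774 IH) (Lpr_cf (f158437 IH) (Lpr_df (K8.f161849 IH) (Lpe (K8.f161826 IH) (Lpe (K8.f149236 IH) (Lpr_cf (K8.f161811 IH) (Lpe (f161819 IH) (Lpn (LP (LK LD1_c5 LD2_c55 LD3_c31))))))))))))
theorem f425747 : Led Lsl_ft (LP (LK LD1_c8 LD2_c49 LD3_c51)) = (LP (LK LD1_c5 LD2_c55 LD3_c31)) :=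
  Lgr Lrot48 (Lpr_ff (f161859 IH) (Lpn (LP (LK LD1_c5 LD2_c55 LD3_c31))))
theorem f498298 : Led Lsl_dt (LP (LK LD1_c4 LD2_c41 LD3_c18)) = (LP (LK LD1_c8 LD2_c49 LD3_c51)) :=
  Lgr Lrot60 (Lpr_ff (K32.f498294 IH) (Lpe (f161819 IH) (Lpe (f425747 IH) (Lpn (LP (LK LD1_c8 LD2_c49 LD3_c51))))))
theorem f498920 : Led Lsl_ct (LP (LK LD1_c8 LD2_c49 LD3_c51)) = (LP (LK LD1_c11 LD2_c37 LD3_c14)) :=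
  Lgr Lrot98 (Lpe (f498298 IH) (Lpe (K32.f425855 IH) (Lpe (K8.f157822 IH) (Lpe (K8.f37455 IH) (Lpr_df (K8.f132548 IH) (Lpr_cf (K32.f141762 IH) (Lpe (K32.f162959 IH) (Lpe (f498918 IH) (Lpr_at (f498912 IH) (Lpn (LP (LK LD1_c11 LD2_c37 LD3_c14))))))))))))
theorem f498924 : Led Lsl_gf (LP (LK LD1_c8 LD2_c49 LD3_c51)) = (LP (LK LD1_c4 LD2_c35 LD3_c15)) :=
  Lgr Lrot147 (Lpr_ct (f498920 IH) (Lpr_gt (K8.f119740 IH) (Lpr_ct (K6.f82027 IH) (Lpe (K6.f81823 IH) (Lpe (K6.f81820 IH) (Lpr_gf (K8.f158435 IH) (Lpe (K5.f37062 IH) (Lpe (K5.f37759 IH) (Lpe (K8.f35340 IH) (Lpn (LP (LK LD1_c4 LD2_c35 LD3_c15))))))))))))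
theorem f498928 : Led Lsl_dt (LP (LK LD1_c8 LD2_c49 LD3_c51)) = (LP (LK LD1_c4 LD2_c41 LD3_c18)) :=
  Lgr Lrot57 (Lpr_gf (f498924 IH) (Lpe (K8.f161418 IH) (Lpr_gt (K32.f202892 IH) (Lpe (K32.f160834 IH) (Lpe (K8.f141779 IH) (Lpe (K6.f112873 IH) (Lpe (K8.f138257 IH) (Lpe (K8.f59231 IH) (Lpr_gf (K32.f425857 IH) (Lpn (LP (LK LD1_c4 LD2_c41 LD3_c18))))))))))))
theorem f420333 : Led Lsl_cf (LP (LK LD1_c8 LD2_c49 LD3_c34)) = (LP (LK LD1_c11 LD2_c37 LD3_c13)) :=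
  Lgr Lrot166 (Lpr_gt (K32.f420329 IH) (Lpr_dt (K8.f35340 IH) (Lpr_gt (K5.f37759 IH) (Lpe (K8.f163017 IH) (Lpe (K8.f161805 IH) (Lpe (K8.f81799 IH) (Lpr_gf (K8.f161796 IH) (Lpe (f137755 IH) (Lpe (f420331 IH) (Lpn (LP (LK LD1_c11 LD2_c37 LD3_c13))))))))))))
theorem f498930 : Led Lsl_at (LP (LK LD1_c5 LD2_c55 LD3_c31)) = (LP (LK LD1_c8 LD2_c49 LD3_c34)) :=
  Lgr Lrot33 (Lpe (f425747 IH) (Lpr_dt (f498928 IH) (Lpe (K32.f425851 IH) (Lpe (K8.f157807 IH) (Lpr_ct (K8.f36253 IH) (Lpr_dt (K32.f132551 IH) (Lpr_ct (K7.f141757 IH) (Lpe (K32.f202900 IH) (Lpe (f420333 IH) (Lpn (LP (LK LD1_c8 LD2_c49 LD3_c34))))))))))))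
theorem f420335 : Led Lsl_dt (LP (LK LD1_c8 LD2_c49 LD3_c34)) = (LP (LK LD1_c4 LD2_c41 LD3_c19)) :=
  Lgr Lrot6 (Lpr_gt (K32.f420329 IH) (Lpe (K8.f161423 IH) (Lpr_gt (K32.f202892 IH) (Lpr_ct (K32.f69261 IH) (Lpe (K32.f69249 IH) (Lpe (K8.f69248 IH) (Lpe (K32.f210817 IH) (Lpe (K32.f36569 IH) (Lpe (K32.f119682 IH) (Lpn (LP (LK LD1_c4 LD2_c41 LD3_c19))))))))))))
theorem f498936 : Led Lsl_af (LP (LK LD1_c3 LD2_c10 LD3_c10)) = (LP (LK LD1_c4 LD2_c41 LD3_c19)) :=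
  Lgr Lrot117 (Lpe (K32.f420039 IH) (Lpr_at (f498930 IH) (Lpr_dt (f420335 IH) (Lpn (LP (LK LD1_c4 LD2_c41 LD3_c19))))))
theorem f498958 : Led Lsl_ft (LP (LK LD1_c3 LD2_c10 LD3_c11)) = (LP (LK LD1_c4 LD2_c41 LD3_c19)) :=
  Lgr Lrot101 (Lpe (K32.f498288 IH) (Lpr_ff (K32.f498294 IH) (Lpr_af (f498936 IH) (Lpn (LP (LK LD1_c4 LD2_c41 LD3_c19))))))
theorem f498962 : Led Lsl_ff (LP (LK LD1_c3 LD2_c10 LD3_c11)) = (LP (LK LD1_c4 LD2_c41 LD3_c19)) :=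
  Lgr Lrot3 (Lpr_ft (f498958 IH) (Lpn (LP (LK LD1_c4 LD2_c41 LD3_c19))))
theorem f498968 : Led Lsl_ft (LP (LK LD1_c4 LD2_c26 LD3_c13)) = (LP (LK LD1_c8 LD2_c49 LD3_c34)) :=
  Lgr Lrot54 (Lpr_df (K11.f205723 IH) (Lpr_ff (f498962 IH) (Lpe (f420335 IH) (Lpn (LP (LK LD1_c8 LD2_c49 LD3_c34))))))
theorem f80160 : Led Lsl_bt (LP (LK LD1_c2 LD2_c10 LD3_c23)) = (LP (LK LD1_c4 LD2_c26 LD3_c13)) :=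
  Lre_b IH (LK LD1_c2 LD2_c10 LD3_c23) (LK LD1_c4 LD2_c26 LD3_c13) Lrfl Lrfl
theorem f498970 : Led Lsl_ff (LP (LK LD1_c2 LD2_c10 LD3_c23)) = (LP (LK LD1_c4 LD2_c26 LD3_c6)) :=
  Lgr Lrot25 (Lpr_bt (f80160 IH) (Lpr_ft (f498968 IH) (Lpr_bt (K32.f37895 IH) (Lpn (LP (LK LD1_c4 LD2_c26 LD3_c6))))))
theorem f37893 : Led Lsl_gt (LP (LK LD1_c2 LD2_c10 LD3_c26)) = (LP (LK LD1_c4 LD2_c26 LD3_c7)) :=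
  Lre_g IH (LK LD1_c2 LD2_c10 LD3_c26) (LK LD1_c4 LD2_c26 LD3_c7) Lrfl Lrfl
theorem f498978 : Led Lsl_at (LP (LK LD1_c2 LD2_c10 LD3_c23)) = (LP (LK LD1_c4 LD2_c26 LD3_c7)) :=
  Lgr Lrot26 (Lpr_ff (f498970 IH) (Lpr_gt (K7.f37894 IH) (Lpr_gt (f37893 IH) (Lpn (LP (LK LD1_c4 LD2_c26 LD3_c7))))))
theorem f80126 : Led Lsl_dt (LP (LK LD1_c2 LD2_c16 LD3_c48)) = (LP (LK LD1_c2 LD2_c10 LD3_c23)) :=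
  Lgr Lrot6 (Lpr_gt (K4.f36424 IH) (Lpr_ct (K7.f26778 IH) (Lpr_gt (K4.f22447 IH) (Lpr_ct (K7.f60862 IH) (Lpe (K7.f79955 IH) (Lpr_cf (K7.f80121 IH) (Lpe (K7.f80124 IH) (Lpe (K7.f38021 IH) (Lpe (K7.f27176 IH) (Lpn (LP (LK LD1_c2 LD2_c10 LD3_c23))))))))))))
theorem f206793 : Led Lsl_df (LP (LK LD1_c2 LD2_c48 LD3_c55)) = (LP (LK LD1_c4 LD2_c26 LD3_c7)) :=
  Lgr Lrot153 (Lpe (K8.f60261 IH) (Lpr_dt (K5.f99811 IH) (Lpe (K6.f99787 IH) (Lpe (K6.f99808 IH) (Lpr_gf (K8.f141883 IH) (Lpr_df (K11.f206789 IH) (Lpe (K8.f139588 IH) (Lpe (K7.f139590 IH) (Lpr_gt (f37893 IH) (Lpn (LP (LK LD1_c4 LD2_c26 LD3_c7))))))))))))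
theorem f498982 : Led Lsl_af (LP (LK LD1_c2 LD2_c16 LD3_c48)) = (LP (LK LD1_c2 LD2_c48 LD3_c55)) :=
  Lgr Lrot117 (Lpr_dt (f80126 IH) (Lpr_at (f498978 IH) (Lpe (f206793 IH) (Lpn (LP (LK LD1_c2 LD2_c48 LD3_c55))))))
theorem f498999 : Led Lsl_ft (LP (LK LD1_c2 LD2_c16 LD3_c47)) = (LP (LK LD1_c2 LD2_c48 LD3_c55)) :=
  Lgr Lrot2 (Lpe (K8.f142087 IH) (Lpr_gt (K4.f72990 IH) (Lpr_af (f498982 IH) (Lpn (LP (LK LD1_c2 LD2_c48 LD3_c55))))))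
theorem f499009 : Led Lsl_ff (LP (LK LD1_c2 LD2_c16 LD3_c47)) = (LP (LK LD1_c2 LD2_c48 LD3_c55)) :=
  Lgr Lrot3 (Lpr_ft (f498999 IH) (Lpn (LP (LK LD1_c2 LD2_c48 LD3_c55))))
theorem f499017 : Led Lsl_ft (LP (LK LD1_c2 LD2_c10 LD3_c22)) = (LP (LK LD1_c4 LD2_c26 LD3_c7)) :=
  Lgr Lrot54 (Lpe (K8.f80210 IH) (Lpr_ff (f499009 IH) (Lpr_df (f206793 IH) (Lpn (LP (LK LD1_c4 LD2_c26 LD3_c7))))))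
theorem f498980 : Led Lsl_af (LP (LK LD1_c2 LD2_c10 LD3_c23)) = (LP (LK LD1_c4 LD2_c26 LD3_c7)) :=
  Lgr Lrot0 (Lpr_at (f498978 IH) (Lpn (LP (LK LD1_c4 LD2_c26 LD3_c7))))
theorem f498976 : Led Lsl_ft (LP (LK LD1_c2 LD2_c10 LD3_c23)) = (LP (LK LD1_c4 LD2_c26 LD3_c6)) :=
  Lgr Lrot48 (Lpr_ff (f498970 IH) (Lpn (LP (LK LD1_c4 LD2_c26 LD3_c6))))
theorem f499019 : Led Lsl_af (LP (LK LD1_c2 LD2_c10 LD3_c22)) = (LP (LK LD1_c4 LD2_c26 LD3_c6)) :=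
  Lgr Lrot45 (Lpr_ft (f499017 IH) (Lpe (f498980 IH) (Lpr_ft (f498976 IH) (Lpn (LP (LK LD1_c4 LD2_c26 LD3_c6))))))
theorem f70460 : Led Lsl_bt (LP (LK LD1_c2 LD2_c10 LD3_c22)) = (LP (LK LD1_c4 LD2_c26 LD3_c10)) :=
  Lre_b IH (LK LD1_c2 LD2_c10 LD3_c22) (LK LD1_c4 LD2_c26 LD3_c10) Lrfl Lrfl
theorem f80243 : Led Lsl_at (LP (LK LD1_c4 LD2_c26 LD3_c10)) = (LP (LK LD1_c8 LD2_c49 LD3_c43)) :=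
  Lre_a IH (LK LD1_c4 LD2_c26 LD3_c10) (LK LD1_c8 LD2_c49 LD3_c43) Lrfl Lrfl
theorem f499024 : Led Lsl_bt (LP (LK LD1_c8 LD2_c49 LD3_c43)) = (LP (LK LD1_c5 LD2_c55 LD3_c31)) :=
  Lgr Lrot62 (Lpe (f80243 IH) (Lpe (f70460 IH) (Lpr_af (f499019 IH) (Lpe (K32.f37895 IH) (Lpe (f498930 IH) (Lpn (LP (LK LD1_c5 LD2_c55 LD3_c31))))))))
theorem f541806 : Led Lsl_ct (LP (LK LD1_c8 LD2_c49 LD3_c43)) = (LP (LK LD1_c6 LD2_c8 LD3_c34)) :=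
  Lgr Lrot63 (Lpr_bt (f499024 IH) (Lpr_gt (f420045 IH) (Lpe (f81839 IH) (Lpr_ct (K6.f69349 IH) (Lpr_gt (K32.f76313 IH) (Lpr_cf (K32.f438176 IH) (Lpr_bt (K32.f29505 IH) (Lpr_gt (K32.f29499 IH) (Lpr_ct (f541790 IH) (Lpr_gt (f75824 IH) (Lpn (LP (LK LD1_c6 LD2_c8 LD3_c34)))))))))))))
theorem f112678 : Led Lsl_bt (LP (LK LD1_c4 LD2_c0 LD3_c35)) = (LP (LK LD1_c8 LD2_c2 LD3_c5)) :=
  Lre_b IH (LK LD1_c4 LD2_c0 LD3_c35) (LK LD1_c8 LD2_c2 LD3_c5) Lrfl Lrfl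
theorem f80754 : Led Lsl_ct (LP (LK LD1_c6 LD2_c13 LD3_c43)) = (LP (LK LD1_c3 LD2_c3 LD3_c42)) :=
  Lre_c IH (LK LD1_c6 LD2_c13 LD3_c43) (LK LD1_c3 LD2_c3 LD3_c42) Lrfl Lrfl
theorem f81397 : Led Lsl_gt (LP (LK LD1_c3 LD2_c3 LD3_c58)) = (LP (LK LD1_c1 LD2_c28 LD3_c1)) :=
  Lre_g IH (LK LD1_c3 LD2_c3 LD3_c58) (LK LD1_c1 LD2_c28 LD3_c1) Lrfl Lrfl
theorem f60265 : Led Lsl_bt (LP (LK LD1_c5 LD2_c46 LD3_c22)) = (LP (LK LD1_c2 LD2_c48 LD3_c55)) :=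
  Lre_b IH (LK LD1_c5 LD2_c46 LD3_c22) (LK LD1_c2 LD2_c48 LD3_c55) Lrfl Lrfl
theorem f81398 : Led Lsl_cf (LP (LK LD1_c3 LD2_c3 LD3_c58)) = (LP (LK LD1_c5 LD2_c46 LD3_c22)) :=
  Lgr Lrot160 (Lpr_gt (f81397 IH) (Lpr_cf (K32.f81387 IH) (Lpr_bt (K32.f59722 IH) (Lpr_gt (K2.f70190 IH) (Lpr_ct (K1.f37905 IH) (Lpr_gt (K1.f59605 IH) (Lpe (K1.f56594 IH) (Lpr_bt (K1.f59603 IH) (Lpr_gt (K8.f59604 IH) (Lpe (f60265 IH) (Lpn (LP (LK LD1_c5 LD2_c46 LD3_c22)))))))))))))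
theorem f81403 : Led Lsl_gt (LP (LK LD1_c11 LD2_c23 LD3_c0)) = (LP (LK LD1_c5 LD2_c46 LD3_c22)) :=
  Lre_g IH (LK LD1_c11 LD2_c23 LD3_c0) (LK LD1_c5 LD2_c46 LD3_c22) Lrfl Lrfl
theorem f202793 : Led Lsl_bt (LP (LK LD1_c6 LD2_c13 LD3_c43)) = (LP (LK LD1_c11 LD2_c23 LD3_c0)) :=
  Lgr Lrot130 (Lpr_ct (f80754 IH) (Lpe (f80750 IH) (Lpr_cf (K11.f202772 IH) (Lpr_bt (K11.f70194 IH) (Lpe (K2.f70190 IH) (Lpe (K32.f59722 IH) (Lpe (K32.f81387 IH) (Lpe (f81397 IH) (Lpr_cf (f81398 IH) (Lpe (f81403 IH) (Lpn (LP (LK LD1_c11 LD2_c23 LD3_c0)))))))))))))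
theorem f420418 : Led Lsl_bf (LP (LK LD1_c6 LD2_c13 LD3_c43)) = (LP (LK LD1_c11 LD2_c23 LD3_c0)) :=
  Lgr Lrot24 (Lpr_bt (f202793 IH) (Lpn (LP (LK LD1_c11 LD2_c23 LD3_c0))))
theorem f420638 : Led Lsl_ct (LP (LK LD1_c8 LD2_c2 LD3_c5)) = (LP (LK LD1_c11 LD2_c23 LD3_c0)) :=
  Lgr Lrot83 (Lpe (f112678 IH) (Lpr_cf (f420636 IH) (Lpe (f420376 IH) (Lpe (f80754 IH) (Lpr_bf (f420418 IH) (Lpn (LP (LK LD1_c11 LD2_c23 LD3_c0))))))))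
theorem f80687 : Led Lsl_bt (LP (LK LD1_c8 LD2_c2 LD3_c5)) = (LP (LK LD1_c4 LD2_c0 LD3_c35)) :=
  Lre_b IH (LK LD1_c8 LD2_c2 LD3_c5) (LK LD1_c4 LD2_c0 LD3_c35) Lrfl Lrfl
theorem f80624 : Led Lsl_bt (LP (LK LD1_c3 LD2_c3 LD3_c57)) = (LP (LK LD1_c3 LD2_c4 LD3_c44)) :=
  Lgr Lrot127 (Lpr_bf (f80552 IH) (Lpn (LP (LK LD1_c3 LD2_c4 LD3_c44))))
theorem f420646 : Led Lsl_gt (LP (LK LD1_c6 LD2_c14 LD3_c8)) = (LP (LK LD1_c11 LD2_c23 LD3_c0)) :=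
  Lgr Lrot65 (Lpe (f80626 IH) (Lpr_bt (f80624 IH) (Lpr_gf (K8.f81102 IH) (Lpe (K8.f80987 IH) (Lpr_ct (K5.f80688 IH) (Lpe (K4.f59627 IH) (Lpe (K4.f80674 IH) (Lpe (K5.f80681 IH) (Lpe (f80687 IH) (Lpr_ct (f420638 IH) (Lpn (LP (LK LD1_c11 LD2_c23 LD3_c0)))))))))))))
theorem f202825 : Led Lsl_bt (LP (LK LD1_c2 LD2_c9 LD3_c36)) = (LP (LK LD1_c1 LD2_c31 LD3_c6)) :=
  Lgr Lrot127 (Lpr_bf (K11.f202809 IH) (Lpn (LP (LK LD1_c1 LD2_c31 LD3_c6))))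
theorem f420655 : Led Lsl_bf (LP (LK LD1_c6 LD2_c14 LD3_c8)) = (LP (LK LD1_c3 LD2_c10 LD3_c10)) :=
  Lgr Lrot156 (Lpr_gt (f420646 IH) (Lpe (f202793 IH) (Lpr_ct (f80754 IH) (Lpr_gt (f80751 IH) (Lpr_cf (K11.f80678 IH) (Lpr_bt (f202825 IH) (Lpr_gt (K8.f161023 IH) (Lpe (K4.f36539 IH) (Lpr_gt (K8.f161006 IH) (Lpr_cf (K8.f161811 IH) (Lpn (LP (LK LD1_c3 LD2_c10 LD3_c10)))))))))))))
theorem f499051 : Led Lsl_df (LP (LK LD1_c8 LD2_c49 LD3_c43)) = (LP (LK LD1_c6 LD2_c14 LD3_c8)) :=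
  Lgr Lrot12 (Lpr_bt (f499024 IH) (Lpr_dt (f161819 IH) (Lpe (f420655 IH) (Lpn (LP (LK LD1_c6 LD2_c14 LD3_c8))))))
theorem f499055 : Led Lsl_dt (LP (LK LD1_c8 LD2_c49 LD3_c43)) = (LP (LK LD1_c6 LD2_c14 LD3_c8)) :=
  Lgr Lrot42 (Lpr_df (f499051 IH) (Lpn (LP (LK LD1_c6 LD2_c14 LD3_c8))))
theorem f70424 : Led Lsl_bt (LP (LK LD1_c2 LD2_c16 LD3_c47)) = (LP (LK LD1_c4 LD2_c39 LD3_c34)) :=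
  Lre_b IH (LK LD1_c2 LD2_c16 LD3_c47) (LK LD1_c4 LD2_c39 LD3_c34) Lrfl Lrfl
theorem f16160 : Led Lsl_bt (LP (LK LD1_c4 LD2_c26 LD3_c10)) = (LP (LK LD1_c2 LD2_c10 LD3_c22)) :=
  Lre_b IH (LK LD1_c4 LD2_c26 LD3_c10) (LK LD1_c2 LD2_c10 LD3_c22) Lrfl Lrfl
theorem f80235 : Led Lsl_dt (LP (LK LD1_c4 LD2_c39 LD3_c34)) = (LP (LK LD1_c4 LD2_c26 LD3_c10)) :=
  Lgr Lrot79 (Lpe (f70424 IH) (Lpr_df (K8.f80223 IH) (Lpe (f16160 IH) (Lpn (LP (LK LD1_c4 LD2_c26 LD3_c10))))))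
theorem f499057 : Led Lsl_af (LP (LK LD1_c4 LD2_c39 LD3_c34)) = (LP (LK LD1_c6 LD2_c14 LD3_c8)) :=
  Lgr Lrot117 (Lpr_dt (f80235 IH) (Lpr_at (f80243 IH) (Lpr_dt (f499055 IH) (Lpn (LP (LK LD1_c6 LD2_c14 LD3_c8))))))
theorem f59191 : Led Lsl_gt (LP (LK LD1_c4 LD2_c23 LD3_c46)) = (LP (LK LD1_c2 LD2_c9 LD3_c17)) :=
  Lre_g IH (LK LD1_c4 LD2_c23 LD3_c46) (LK LD1_c2 LD2_c9 LD3_c17) Lrfl Lrfl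
theorem f59358 : Led Lsl_bt (LP (LK LD1_c4 LD2_c39 LD3_c34)) = (LP (LK LD1_c2 LD2_c16 LD3_c47)) :=
  Lre_b IH (LK LD1_c4 LD2_c39 LD3_c34) (LK LD1_c2 LD2_c16 LD3_c47) Lrfl Lrfl
theorem f70232 : Led Lsl_cf (LP (LK LD1_c4 LD2_c23 LD3_c46)) = (LP (LK LD1_c4 LD2_c39 LD3_c34)) :=
  Lgr Lrot160 (Lpr_gt (f59191 IH) (Lpe (K9.f70091 IH) (Lpr_bt (K9.f36571 IH) (Lpr_gt (K2.f70216 IH) (Lpr_ct (K2.f59354 IH) (Lpr_gt (K1.f59351 IH) (Lpe (K1.f13643 IH) (Lpr_bt (K1.f35426 IH) (Lpr_gt (K8.f27054 IH) (Lpe (f59358 IH) (Lpn (LP (LK LD1_c4 LD2_c39 LD3_c34)))))))))))))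
theorem f499059 : Led Lsl_at (LP (LK LD1_c4 LD2_c23 LD3_c46)) = (LP (LK LD1_c3 LD2_c3 LD3_c57)) :=
  Lgr Lrot107 (Lpr_cf (f70232 IH) (Lpr_af (f499057 IH) (Lpe (f80626 IH) (Lpn (LP (LK LD1_c3 LD2_c3 LD3_c57))))))
theorem f499063 : Led Lsl_af (LP (LK LD1_c4 LD2_c23 LD3_c46)) = (LP (LK LD1_c3 LD2_c3 LD3_c57)) :=
  Lgr Lrot0 (Lpr_at (f499059 IH) (Lpn (LP (LK LD1_c3 LD2_c3 LD3_c57))))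
theorem f81392 : Led Lsl_at (LP (LK LD1_c1 LD2_c28 LD3_c1)) = (LP (LK LD1_c3 LD2_c3 LD3_c59)) :=
  Lre_a IH (LK LD1_c1 LD2_c28 LD3_c1) (LK LD1_c3 LD2_c3 LD3_c59) Lrfl Lrfl
theorem f81384 : Led Lsl_at (LP (LK LD1_c3 LD2_c3 LD3_c59)) = (LP (LK LD1_c1 LD2_c28 LD3_c1)) :=
  Lre_a IH (LK LD1_c3 LD2_c3 LD3_c59) (LK LD1_c1 LD2_c28 LD3_c1) Lrfl Lrfl
theorem f81393 : Led Lsl_ct (LP (LK LD1_c3 LD2_c3 LD3_c59)) = (LP (LK LD1_c3 LD2_c3 LD3_c59)) :=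
  Lgr Lrot111 (Lpe (f81392 IH) (Lpr_cf (K32.f81387 IH) (Lpe (f81384 IH) (Lpn (LP (LK LD1_c3 LD2_c3 LD3_c59))))))
theorem f81385 : Led Lsl_ff (LP (LK LD1_c3 LD2_c3 LD3_c59)) = (LP (LK LD1_c4 LD2_c23 LD3_c47)) :=
  Lgr Lrot30 (Lpr_at (f81384 IH) (Lpr_ft (K32.f81375 IH) (Lpr_at (f70094 IH) (Lpn (LP (LK LD1_c4 LD2_c23 LD3_c47))))))
theorem f81445 : Led Lsl_ff (LP (LK LD1_c4 LD2_c23 LD3_c47)) = (LP (LK LD1_c3 LD2_c3 LD3_c59)) :=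
  Lgr Lrot23 (Lpe (f70095 IH) (Lpe (f81385 IH) (Lpr_ct (f81393 IH) (Lpn (LP (LK LD1_c3 LD2_c3 LD3_c59))))))
theorem f81447 : Led Lsl_gf (LP (LK LD1_c4 LD2_c23 LD3_c46)) = (LP (LK LD1_c3 LD2_c3 LD3_c59)) :=
  Lgr Lrot47 (Lpr_gt (f59191 IH) (Lpe (f70093 IH) (Lpr_ff (f81445 IH) (Lpn (LP (LK LD1_c3 LD2_c3 LD3_c59))))))
theorem f59192 : Led Lsl_gt (LP (LK LD1_c2 LD2_c9 LD3_c17)) = (LP (LK LD1_c4 LD2_c23 LD3_c45)) :=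
  Lre_g IH (LK LD1_c2 LD2_c9 LD3_c17) (LK LD1_c4 LD2_c23 LD3_c45) Lrfl Lrfl
theorem f36405 : Led Lsl_gf (LP (LK LD1_c1 LD2_c31 LD3_c3)) = (LP (LK LD1_c1 LD2_c2 LD3_c6)) :=
  Lgr Lrot143 (Lpr_dt (K4.f36404 IH) (Lpe (K1.f36296 IH) (Lpr_df (K1.f36326 IH) (Lpr_gf (K1.f35406 IH) (Lpe (K0.f34757 IH) (Lpe (K0.f27912 IH) (Lpe (K0.f16619 IH) (Lpr_gt (K2.f20309 IH) (Lpr_dt (K2.f34763 IH) (Lpn (LP (LK LD1_c1 LD2_c2 LD3_c6))))))))))))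
theorem f202033 : Led Lsl_gt (LP (LK LD1_c0 LD2_c42 LD3_c0)) = (LP (LK LD1_c0 LD2_c40 LD3_c39)) :=
  Lgr Lrot189 (Lpe (K4.f36404 IH) (Lpr_gf (f36405 IH) (Lpr_ct (K8.f69337 IH) (Lpr_gt (K2.f80340 IH) (Lpr_dt (K2.f37185 IH) (Lpe (K4.f80344 IH) (Lpr_dt (K4.f36309 IH) (Lpr_ct (K11.f202015 IH) (Lpe (f38127 IH) (Lpn (LP (LK LD1_c0 LD2_c40 LD3_c39))))))))))))
theorem f56575 : Led Lsl_bf (LP (LK LD1_c0 LD2_c42 LD3_c0)) = (LP (LK LD1_c1 LD2_c20 LD3_c58)) :=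
  Lgr Lrot90 (Lpr_ct (K1.f36403 IH) (Lpr_bt (K1.f36395 IH) (Lpr_ct (K1.f56569 IH) (Lpr_bt (K4.f56573 IH) (Lpr_ct (K6.f56574 IH) (Lpn (LP (LK LD1_c1 LD2_c20 LD3_c58))))))))
theorem f205265 : Led Lsl_bf (LP (LK LD1_c4 LD2_c23 LD3_c45)) = (LP (LK LD1_c2 LD2_c49 LD3_c35)) :=
  Lgr Lrot34 (Lpe (f59192 IH) (Lpe (K9.f59190 IH) (Lpe (K1.f59170 IH) (Lpr_gf (K11.f205255 IH) (Lpe (f38134 IH) (Lpe (f202033 IH) (Lpr_bf (f56575 IH) (Lpr_ct (K2.f56747 IH) (Lpe (K8.f73285 IH) (Lpe (K28.f73475 IH) (Lpn (LP (LK LD1_c2 LD2_c49 LD3_c35)))))))))))))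
theorem f210908 : Led Lsl_gt (LP (LK LD1_c4 LD2_c23 LD3_c45)) = (LP (LK LD1_c3 LD2_c3 LD3_c59)) :=
  Lgr Lrot82 (Lpr_bf (f205265 IH) (Lpr_ct (K28.f73475 IH) (Lpe (K8.f73470 IH) (Lpe (K2.f60847 IH) (Lpr_bt (K4.f60658 IH) (Lpr_gf (K8.f142087 IH) (Lpe (f59358 IH) (Lpe (f70232 IH) (Lpr_gf (f81447 IH) (Lpe (f81393 IH) (Lpn (LP (LK LD1_c3 LD2_c3 LD3_c59)))))))))))))
theorem f499079 : Led Lsl_ft (LP (LK LD1_c4 LD2_c23 LD3_c45)) = (LP (LK LD1_c3 LD2_c3 LD3_c57)) :=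
  Lgr Lrot2 (Lpr_gt (f210908 IH) (Lpe (f81447 IH) (Lpr_af (f499063 IH) (Lpn (LP (LK LD1_c3 LD2_c3 LD3_c57))))))
theorem f70101 : Led Lsl_ct (LP (LK LD1_c8 LD2_c45 LD3_c24)) = (LP (LK LD1_c4 LD2_c23 LD3_c45)) :=
  Lre_c IH (LK LD1_c8 LD2_c45 LD3_c24) (LK LD1_c4 LD2_c23 LD3_c45) Lrfl Lrfl
theorem f499081 : Led Lsl_ff (LP (LK LD1_c8 LD2_c45 LD3_c24)) = (LP (LK LD1_c6 LD2_c14 LD3_c8)) :=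
  Lgr Lrot23 (Lpr_ct (f70101 IH) (Lpr_ft (f499079 IH) (Lpr_ct (f80626 IH) (Lpn (LP (LK LD1_c6 LD2_c14 LD3_c8))))))
theorem f205726 : Led Lsl_bt (LP (LK LD1_c2 LD2_c16 LD3_c48)) = (LP (LK LD1_c3 LD2_c10 LD3_c11)) :=
  Lgr Lrot95 (Lpr_df (K7.f80128 IH) (Lpe (K8.f16157 IH) (Lpr_df (K11.f205723 IH) (Lpn (LP (LK LD1_c3 LD2_c10 LD3_c11))))))
theorem f420347 : Led Lsl_cf (LP (LK LD1_c2 LD2_c49 LD3_c49)) = (LP (LK LD1_c4 LD2_c41 LD3_c19)) :=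
  Lgr Lrot169 (Lpr_gt (K5.f66271 IH) (Lpe (K4.f117625 IH) (Lpe (K4.f75518 IH) (Lpe (K5.f117646 IH) (Lpe (K8.f118889 IH) (Lpe (K8.f99745 IH) (Lpr_gf (K32.f202601 IH) (Lpe (K8.f59231 IH) (Lpr_gt (K32.f420345 IH) (Lpn (LP (LK LD1_c4 LD2_c41 LD3_c19))))))))))))
theorem f498341 : Led Lsl_at (LP (LK LD1_c3 LD2_c10 LD3_c10)) = (LP (LK LD1_c4 LD2_c41 LD3_c19)) :=
  Lgr Lrot107 (Lpe (K32.f161815 IH) (Lpr_af (f498339 IH) (Lpr_cf (f420347 IH) (Lpn (LP (LK LD1_c4 LD2_c41 LD3_c19))))))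
theorem f498300 : Led Lsl_ft (LP (LK LD1_c4 LD2_c41 LD3_c18)) = (LP (LK LD1_c3 LD2_c10 LD3_c10)) :=
  Lgr Lrot48 (Lpr_ff (K32.f498294 IH) (Lpn (LP (LK LD1_c3 LD2_c10 LD3_c10))))
theorem f498964 : Led Lsl_at (LP (LK LD1_c3 LD2_c10 LD3_c11)) = (LP (LK LD1_c4 LD2_c41 LD3_c18)) :=
  Lgr Lrot66 (Lpr_ff (f498962 IH) (Lpe (f498341 IH) (Lpe (f498300 IH) (Lpn (LP (LK LD1_c4 LD2_c41 LD3_c18))))))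
theorem f210906 : Led Lsl_bt (LP (LK LD1_c4 LD2_c23 LD3_c45)) = (LP (LK LD1_c2 LD2_c49 LD3_c35)) :=
  Lgr Lrot127 (Lpr_bf (f205265 IH) (Lpn (LP (LK LD1_c2 LD2_c49 LD3_c35))))
theorem f425871 : Led Lsl_bf (LP (LK LD1_c8 LD2_c45 LD3_c24)) = (LP (LK LD1_c4 LD2_c41 LD3_c18)) :=
  Lgr Lrot90 (Lpr_ct (f70101 IH) (Lpr_bt (f210906 IH) (Lpr_ct (K28.f73475 IH) (Lpr_bt (K8.f157806 IH) (Lpr_ct (K32.f425855 IH) (Lpn (LP (LK LD1_c4 LD2_c41 LD3_c18))))))))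
theorem f498995 : Led Lsl_at (LP (LK LD1_c8 LD2_c45 LD3_c24)) = (LP (LK LD1_c5 LD2_c46 LD3_c22)) :=
  Lgr Lrot67 (Lpr_bf (f425871 IH) (Lpe (f498964 IH) (Lpe (f205726 IH) (Lpr_af (f498982 IH) (Lpe (f60265 IH) (Lpn (LP (LK LD1_c5 LD2_c46 LD3_c22))))))))
theorem f81401 : Led Lsl_ct (LP (LK LD1_c3 LD2_c3 LD3_c58)) = (LP (LK LD1_c5 LD2_c46 LD3_c22)) :=
  Lgr Lrot59 (Lpr_cf (f81398 IH) (Lpn (LP (LK LD1_c5 LD2_c46 LD3_c22))))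
theorem f80725 : Led Lsl_gt (LP (LK LD1_c3 LD2_c3 LD3_c44)) = (LP (LK LD1_c4 LD2_c0 LD3_c35)) :=
  Lgr Lrot5 (Lpr_ft (K11.f80715 IH) (Lpr_at (K11.f80676 IH) (Lpe (K5.f80681 IH) (Lpn (LP (LK LD1_c4 LD2_c0 LD3_c35))))))
theorem f132597 : Led Lsl_ff (LP (LK LD1_c0 LD2_c40 LD3_c57)) = (LP (LK LD1_c1 LD2_c6 LD3_c29)) :=
  Lgr Lrot23 (Lpr_ct (K5.f58964 IH) (Lpr_ft (K5.f132595 IH) (Lpr_ct (K5.f56603 IH) (Lpn (LP (LK LD1_c1 LD2_c6 LD3_c29))))))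
theorem f132822 : Led Lsl_at (LP (LK LD1_c0 LD2_c40 LD3_c57)) = (LP (LK LD1_c1 LD2_c6 LD3_c30)) :=
  Lgr Lrot66 (Lpr_ff (f132597 IH) (Lpe (K5.f132610 IH) (Lpr_ff (K5.f132820 IH) (Lpn (LP (LK LD1_c1 LD2_c6 LD3_c30))))))
theorem f202243 : Led Lsl_gt (LP (LK LD1_c1 LD2_c6 LD3_c29)) = (LP (LK LD1_c0 LD2_c40 LD3_c59)) :=
  Lgr Lrot5 (Lpe (f132597 IH) (Lpr_at (f132822 IH) (Lpr_gf (K11.f202241 IH) (Lpn (LP (LK LD1_c0 LD2_c40 LD3_c59))))))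
theorem f420648 : Led Lsl_bf (LP (LK LD1_c4 LD2_c42 LD3_c47)) = (LP (LK LD1_c3 LD2_c3 LD3_c58)) :=
  Lgr Lrot165 (Lpr_gt (K32.f132808 IH) (Lpr_ct (K5.f56603 IH) (Lpr_gt (f202243 IH) (Lpe (K11.f80728 IH) (Lpr_bt (K11.f80720 IH) (Lpr_gt (f80725 IH) (Lpe (f80687 IH) (Lpr_ct (f420638 IH) (Lpr_gt (f81403 IH) (Lpe (f81401 IH) (Lpn (LP (LK LD1_c3 LD2_c3 LD3_c58)))))))))))))
theorem f438204 : Led Lsl_dt (LP (LK LD1_c4 LD2_c0 LD3_c50)) = (LP (LK LD1_c3 LD2_c3 LD3_c58)) :=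
  Lgr Lrot79 (Lpe (K32.f29505 IH) (Lpr_df (K32.f438200 IH) (Lpr_bf (f420648 IH) (Lpn (LP (LK LD1_c3 LD2_c3 LD3_c58))))))
theorem f176671 : Led Lsl_at (LP (LK LD1_c6 LD2_c25 LD3_c31)) = (LP (LK LD1_c3 LD2_c10 LD3_c26)) :=
  Lre_a IH (LK LD1_c6 LD2_c25 LD3_c31) (LK LD1_c3 LD2_c10 LD3_c26) Lrfl Lrfl
theorem f205111 : Led Lsl_cf (LP (LK LD1_c6 LD2_c25 LD3_c31)) = (LP (LK LD1_c5 LD2_c41 LD3_c17)) :=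
  Lgr Lrot1 (Lpr_at (f176671 IH) (Lpr_ct (K18.f205102 IH) (Lpr_at (f176930 IH) (Lpn (LP (LK LD1_c5 LD2_c41 LD3_c17))))))
theorem f176654 : Led Lsl_bt (LP (LK LD1_c3 LD2_c10 LD3_c26)) = (LP (LK LD1_c1 LD2_c31 LD3_c27)) :=
  Lre_b IH (LK LD1_c3 LD2_c10 LD3_c26) (LK LD1_c1 LD2_c31 LD3_c27) Lrfl Lrfl
theorem f176655 : Led Lsl_bt (LP (LK LD1_c1 LD2_c21 LD3_c23)) = (LP (LK LD1_c2 LD2_c50 LD3_c46)) :=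
  Lre_b IH (LK LD1_c1 LD2_c21 LD3_c23) (LK LD1_c2 LD2_c50 LD3_c46) Lrfl Lrfl
theorem f176656 : Led Lsl_df (LP (LK LD1_c3 LD2_c10 LD3_c26)) = (LP (LK LD1_c2 LD2_c50 LD3_c46)) :=
  Lgr Lrot12 (Lpr_bt (f176654 IH) (Lpr_dt (K11.f176647 IH) (Lpr_bt (f176655 IH) (Lpn (LP (LK LD1_c2 LD2_c50 LD3_c46))))))
theorem f176660 : Led Lsl_at (LP (LK LD1_c3 LD2_c10 LD3_c26)) = (LP (LK LD1_c6 LD2_c25 LD3_c31)) :=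
  Lre_a IH (LK LD1_c3 LD2_c10 LD3_c26) (LK LD1_c6 LD2_c25 LD3_c31) Lrfl Lrfl
theorem f176661 : Led Lsl_at (LP (LK LD1_c5 LD2_c49 LD3_c21)) = (LP (LK LD1_c2 LD2_c50 LD3_c46)) :=
  Lre_a IH (LK LD1_c5 LD2_c49 LD3_c21) (LK LD1_c2 LD2_c50 LD3_c46) Lrfl Lrfl
theorem f176662 : Led Lsl_dt (LP (LK LD1_c6 LD2_c25 LD3_c31)) = (LP (LK LD1_c5 LD2_c49 LD3_c21)) :=
  Lgr Lrot44 (Lpe (f176660 IH) (Lpr_df (f176656 IH) (Lpe (f176661 IH) (Lpn (LP (LK LD1_c5 LD2_c49 LD3_c21))))))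
theorem f541812 : Led Lsl_cf (LP (LK LD1_c4 LD2_c0 LD3_c50)) = (LP (LK LD1_c5 LD2_c49 LD3_c21)) :=
  Lgr Lrot161 (Lpr_dt (f438204 IH) (Lpr_ct (f81401 IH) (Lpe (f498995 IH) (Lpr_ff (f499081 IH) (Lpe (f499051 IH) (Lpr_ct (f541806 IH) (Lpe (f428102 IH) (Lpe (f205111 IH) (Lpr_dt (f176662 IH) (Lpn (LP (LK LD1_c5 LD2_c49 LD3_c21))))))))))))
theorem f29547 : Led Lsl_dt (LP (LK LD1_c4 LD2_c0 LD3_c52)) = (LP (LK LD1_c1 LD2_c57 LD3_c12)) :=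
  Lre_d IH (LK LD1_c4 LD2_c0 LD3_c52) (LK LD1_c1 LD2_c57 LD3_c12) Lrfl Lrfl
theorem f30707 : Led Lsl_bf (LP (LK LD1_c4 LD2_c0 LD3_c52)) = (LP (LK LD1_c1 LD2_c57 LD3_c13)) :=
  Lgr Lrot93 (Lpr_dt (f29547 IH) (Lpr_bt (K7.f29330 IH) (Lpr_dt (K1.f29554 IH) (Lpn (LP (LK LD1_c1 LD2_c57 LD3_c13))))))
theorem f29550 : Led Lsl_gt (LP (LK LD1_c8 LD2_c2 LD3_c22)) = (LP (LK LD1_c4 LD2_c0 LD3_c52)) :=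
  Lre_g IH (LK LD1_c8 LD2_c2 LD3_c22) (LK LD1_c4 LD2_c0 LD3_c52) Lrfl Lrfl
theorem f163414 : Led Lsl_bt (LP (LK LD1_c5 LD2_c53 LD3_c30)) = (LP (LK LD1_c8 LD2_c2 LD3_c22)) :=
  Lgr Lrot22 (Lpr_ct (K32.f72417 IH) (Lpr_gf (K32.f163410 IH) (Lpe (K11.f112741 IH) (Lpe (K32.f163354 IH) (Lpe (K6.f59232 IH) (Lpr_ct (K1.f59238 IH) (Lpe (K1.f37907 IH) (Lpe (K1.f29553 IH) (Lpe (f30707 IH) (Lpe (f29550 IH) (Lpn (LP (LK LD1_c8 LD2_c2 LD3_c22)))))))))))))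
theorem f163417 : Led Lsl_bf (LP (LK LD1_c5 LD2_c53 LD3_c30)) = (LP (LK LD1_c8 LD2_c2 LD3_c22)) :=
  Lgr Lrot24 (Lpr_bt (f163414 IH) (Lpn (LP (LK LD1_c8 LD2_c2 LD3_c22))))
theorem f497402 : Led Lsl_ff (LP (LK LD1_c8 LD2_c2 LD3_c22)) = (LP (LK LD1_c4 LD2_c0 LD3_c50)) :=
  Lgr Lrot25 (Lpe (f163417 IH) (Lpr_ft (K32.f497398 IH) (Lpr_bt (K32.f29505 IH) (Lpn (LP (LK LD1_c4 LD2_c0 LD3_c50))))))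
theorem f301957 : Led Lsl_ff (LP (LK LD1_c1 LD2_c21 LD3_c24)) = (LP (LK LD1_c2 LD2_c13 LD3_c59)) :=
  Lgr Lrot3 (Lpr_ft (K18.f301947 IH) (Lpn (LP (LK LD1_c2 LD2_c13 LD3_c59))))
theorem f301873 : Led Lsl_ff (LP (LK LD1_c1 LD2_c21 LD3_c23)) = (LP (LK LD1_c2 LD2_c13 LD3_c60)) :=
  Lgr Lrot19 (Lpe (K11.f176638 IH) (Lpr_ft (K18.f301869 IH) (Lpe (K18.f68540 IH) (Lpn (LP (LK LD1_c2 LD2_c13 LD3_c60))))))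
theorem f301959 : Led Lsl_at (LP (LK LD1_c1 LD2_c21 LD3_c24)) = (LP (LK LD1_c2 LD2_c13 LD3_c60)) :=
  Lgr Lrot66 (Lpr_ff (f301957 IH) (Lpr_af (K18.f301905 IH) (Lpr_ff (f301873 IH) (Lpn (LP (LK LD1_c2 LD2_c13 LD3_c60))))))
theorem f61373 : Led Lsl_bt (LP (LK LD1_c2 LD2_c50 LD3_c49)) = (LP (LK LD1_c1 LD2_c21 LD3_c24)) :=
  Lre_b IH (LK LD1_c2 LD2_c50 LD3_c49) (LK LD1_c1 LD2_c21 LD3_c24) Lrfl Lrfl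
theorem f61392 : Led Lsl_at (LP (LK LD1_c5 LD2_c49 LD3_c27)) = (LP (LK LD1_c2 LD2_c50 LD3_c49)) :=
  Lre_a IH (LK LD1_c5 LD2_c49 LD3_c27) (LK LD1_c2 LD2_c50 LD3_c49) Lrfl Lrfl
theorem f68559 : Led Lsl_at (LP (LK LD1_c4 LD2_c34 LD3_c10)) = (LP (LK LD1_c9 LD2_c5 LD3_c44)) :=
  Lre_a IH (LK LD1_c4 LD2_c34 LD3_c10) (LK LD1_c9 LD2_c5 LD3_c44) Lrfl Lrfl
theorem f302000 : Led Lsl_bf (LP (LK LD1_c5 LD2_c49 LD3_c27)) = (LP (LK LD1_c9 LD2_c5 LD3_c44)) :=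
  Lgr Lrot81 (Lpr_at (f61392 IH) (Lpr_bt (f61373 IH) (Lpr_at (f301959 IH) (Lpr_bt (K32.f68542 IH) (Lpr_at (f68559 IH) (Lpn (LP (LK LD1_c9 LD2_c5 LD3_c44))))))))
theorem f302002 : Led Lsl_bt (LP (LK LD1_c5 LD2_c49 LD3_c27)) = (LP (LK LD1_c9 LD2_c5 LD3_c44)) :=
  Lgr Lrot127 (Lpr_bf (f302000 IH) (Lpn (LP (LK LD1_c9 LD2_c5 LD3_c44))))
theorem f61298 : Led Lsl_bt (LP (LK LD1_c1 LD2_c21 LD3_c24)) = (LP (LK LD1_c2 LD2_c50 LD3_c49)) :=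
  Lre_b IH (LK LD1_c1 LD2_c21 LD3_c24) (LK LD1_c2 LD2_c50 LD3_c49) Lrfl Lrfl
theorem f301907 : Led Lsl_bt (LP (LK LD1_c4 LD2_c34 LD3_c8)) = (LP (LK LD1_c2 LD2_c13 LD3_c59)) :=
  Lre_b IH (LK LD1_c4 LD2_c34 LD3_c8) (LK LD1_c2 LD2_c13 LD3_c59) Lrfl Lrfl
theorem f301961 : Led Lsl_ft (LP (LK LD1_c2 LD2_c50 LD3_c49)) = (LP (LK LD1_c4 LD2_c34 LD3_c8)) :=
  Lgr Lrot75 (Lpe (f61298 IH) (Lpr_ff (f301957 IH) (Lpe (f301907 IH) (Lpn (LP (LK LD1_c4 LD2_c34 LD3_c8))))))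
theorem f301992 : Led Lsl_at (LP (LK LD1_c4 LD2_c34 LD3_c8)) = (LP (LK LD1_c9 LD2_c5 LD3_c41)) :=
  Lre_a IH (LK LD1_c4 LD2_c34 LD3_c8) (LK LD1_c9 LD2_c5 LD3_c41) Lrfl Lrfl
theorem f301993 : Led Lsl_ff (LP (LK LD1_c5 LD2_c49 LD3_c27)) = (LP (LK LD1_c9 LD2_c5 LD3_c41)) :=
  Lgr Lrot30 (Lpr_at (f61392 IH) (Lpr_ft (f301961 IH) (Lpr_at (f301992 IH) (Lpn (LP (LK LD1_c9 LD2_c5 LD3_c41))))))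
theorem f176672 : Led Lsl_at (LP (LK LD1_c2 LD2_c50 LD3_c46)) = (LP (LK LD1_c5 LD2_c49 LD3_c21)) :=
  Lre_a IH (LK LD1_c2 LD2_c50 LD3_c46) (LK LD1_c5 LD2_c49 LD3_c21) Lrfl Lrfl
theorem f301942 : Led Lsl_at (LP (LK LD1_c9 LD2_c5 LD3_c41)) = (LP (LK LD1_c4 LD2_c34 LD3_c8)) :=
  Lre_a IH (LK LD1_c9 LD2_c5 LD3_c41) (LK LD1_c4 LD2_c34 LD3_c8) Lrfl Lrfl
theorem f301943 : Led Lsl_bt (LP (LK LD1_c5 LD2_c49 LD3_c21)) = (LP (LK LD1_c9 LD2_c5 LD3_c41)) :=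
  Lgr Lrot62 (Lpe (f176672 IH) (Lpe (f176655 IH) (Lpr_af (K18.f301940 IH) (Lpe (f301907 IH) (Lpe (f301942 IH) (Lpn (LP (LK LD1_c9 LD2_c5 LD3_c41))))))))
theorem f302004 : Led Lsl_ff (LP (LK LD1_c5 LD2_c49 LD3_c21)) = (LP (LK LD1_c9 LD2_c5 LD3_c44)) :=
  Lgr Lrot25 (Lpr_bt (f301943 IH) (Lpe (f301993 IH) (Lpr_bt (f302002 IH) (Lpn (LP (LK LD1_c9 LD2_c5 LD3_c44))))))
theorem f541822 : Led Lsl_ct (LP (LK LD1_c8 LD2_c2 LD3_c22)) = (LP (LK LD1_c9 LD2_c5 LD3_c44)) :=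
  Lgr Lrot40 (Lpr_ff (f497402 IH) (Lpr_cf (f541812 IH) (Lpr_ff (f302004 IH) (Lpn (LP (LK LD1_c9 LD2_c5 LD3_c44))))))
theorem f541824 : Led Lsl_cf (LP (LK LD1_c8 LD2_c2 LD3_c22)) = (LP (LK LD1_c9 LD2_c5 LD3_c44)) :=
  Lgr Lrot11 (Lpr_ct (f541822 IH) (Lpn (LP (LK LD1_c9 LD2_c5 LD3_c44))))
theorem f497314 : Led Lsl_at (LP (LK LD1_c6 LD2_c15 LD3_c17)) = (LP (LK LD1_c5 LD2_c47 LD3_c18)) :=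
  Lgr Lrot100 (Lpr_af (K32.f497312 IH) (Lpn (LP (LK LD1_c5 LD2_c47 LD3_c18))))
theorem f497310 : Led Lsl_ff (LP (LK LD1_c6 LD2_c15 LD3_c19)) = (LP (LK LD1_c5 LD2_c47 LD3_c18)) :=
  Lgr Lrot3 (Lpr_ft (K32.f497308 IH) (Lpn (LP (LK LD1_c5 LD2_c47 LD3_c18))))
theorem f497330 : Led Lsl_at (LP (LK LD1_c6 LD2_c15 LD3_c19)) = (LP (LK LD1_c5 LD2_c47 LD3_c15)) :=
  Lgr Lrot66 (Lpr_ff (f497310 IH) (Lpe (f497314 IH) (Lpr_ff (K32.f497328 IH) (Lpn (LP (LK LD1_c5 LD2_c47 LD3_c15))))))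
theorem f425768 : Led Lsl_df (LP (LK LD1_c4 LD2_c0 LD3_c49)) = (LP (LK LD1_c3 LD2_c3 LD3_c57)) :=
  Lgr Lrot38 (Lpr_dt (f425764 IH) (Lpn (LP (LK LD1_c3 LD2_c3 LD3_c57))))
theorem f425778 : Led Lsl_bt (LP (LK LD1_c4 LD2_c0 LD3_c49)) = (LP (LK LD1_c6 LD2_c15 LD3_c19)) :=
  Lgr Lrot95 (Lpr_df (f425768 IH) (Lpr_bf (f80552 IH) (Lpe (K8.f73432 IH) (Lpn (LP (LK LD1_c6 LD2_c15 LD3_c19))))))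
theorem f497344 : Led Lsl_at (LP (LK LD1_c8 LD2_c2 LD3_c22)) = (LP (LK LD1_c4 LD2_c0 LD3_c49)) :=
  Lgr Lrot67 (Lpe (f163414 IH) (Lpr_af (K32.f497340 IH) (Lpe (K8.f161179 IH) (Lpe (f497330 IH) (Lpe (f425778 IH) (Lpn (LP (LK LD1_c4 LD2_c0 LD3_c49))))))))
theorem f541826 : Led Lsl_ct (LP (LK LD1_c4 LD2_c0 LD3_c49)) = (LP (LK LD1_c4 LD2_c34 LD3_c10)) :=
  Lgr Lrot111 (Lpe (f497344 IH) (Lpr_cf (f541824 IH) (Lpe (f68559 IH) (Lpn (LP (LK LD1_c4 LD2_c34 LD3_c10))))))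
theorem f70549 : Led Lsl_ct (LP (LK LD1_c1 LD2_c2 LD3_c16)) = (LP (LK LD1_c1 LD2_c1 LD3_c51)) :=
  Lgr Lrot186 (Lpr_gf (K4.f40013 IH) (Lpr_dt (K2.f70437 IH) (Lpe (K2.f69355 IH) (Lpr_ct (K2.f37994 IH) (Lpr_gt (K1.f29559 IH) (Lpr_ct (K1.f29491 IH) (Lpr_dt (K1.f30093 IH) (Lpe (K1.f29553 IH) (Lpr_gf (K1.f36665 IH) (Lpn (LP (LK LD1_c1 LD2_c1 LD3_c51))))))))))))
theorem f38188 : Led Lsl_dt (LP (LK LD1_c6 LD2_c13 LD3_c48)) = (LP (LK LD1_c3 LD2_c3 LD3_c44)) :=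
  Lre_d IH (LK LD1_c6 LD2_c13 LD3_c48) (LK LD1_c3 LD2_c3 LD3_c44) Lrfl Lrfl
theorem f38195 : Led Lsl_ft (LP (LK LD1_c4 LD2_c26 LD3_c28)) = (LP (LK LD1_c6 LD2_c13 LD3_c48)) :=
  Lgr Lrot4 (Lpe (K11.f38170 IH) (Lpr_ff (K6.f38176 IH) (Lpe (K11.f38186 IH) (Lpn (LP (LK LD1_c6 LD2_c13 LD3_c48))))))
theorem f80721 : Led Lsl_df (LP (LK LD1_c4 LD2_c26 LD3_c28)) = (LP (LK LD1_c4 LD2_c0 LD3_c36)) :=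
  Lgr Lrot78 (Lpr_ft (f38195 IH) (Lpr_dt (f38188 IH) (Lpr_ft (K11.f80715 IH) (Lpn (LP (LK LD1_c4 LD2_c0 LD3_c36))))))
theorem f80758 : Led Lsl_dt (LP (LK LD1_c2 LD2_c10 LD3_c28)) = (LP (LK LD1_c1 LD2_c57 LD3_c2)) :=
  Lgr Lrot44 (Lpe (K11.f38145 IH) (Lpr_df (f80721 IH) (Lpe (f80703 IH) (Lpn (LP (LK LD1_c1 LD2_c57 LD3_c2))))))
theorem f72115 : Led Lsl_dt (LP (LK LD1_c2 LD2_c10 LD3_c3)) = (LP (LK LD1_c4 LD2_c25 LD3_c18)) :=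
  Lre_d IH (LK LD1_c2 LD2_c10 LD3_c3) (LK LD1_c4 LD2_c25 LD3_c18) Lrfl Lrfl
theorem f80763 : Led Lsl_gf (LP (LK LD1_c2 LD2_c10 LD3_c28)) = (LP (LK LD1_c4 LD2_c25 LD3_c18)) :=
  Lgr Lrot143 (Lpr_dt (f80758 IH) (Lpr_cf (K6.f80543 IH) (Lpe (K6.f70487 IH) (Lpe (K6.f70442 IH) (Lpe (K6.f70488 IH) (Lpe (K8.f36005 IH) (Lpe (K4.f71825 IH) (Lpe (K6.f72112 IH) (Lpr_dt (f72115 IH) (Lpn (LP (LK LD1_c4 LD2_c25 LD3_c18))))))))))))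
theorem f80765 : Led Lsl_bt (LP (LK LD1_c8 LD2_c48 LD3_c4)) = (LP (LK LD1_c4 LD2_c25 LD3_c18)) :=
  Lre_b IH (LK LD1_c8 LD2_c48 LD3_c4) (LK LD1_c4 LD2_c25 LD3_c18) Lrfl Lrfl
theorem f541834 : Led Lsl_ct (LP (LK LD1_c8 LD2_c48 LD3_c4)) = (LP (LK LD1_c6 LD2_c4 LD3_c15)) :=
  Lgr Lrot63 (Lpr_bt (f80765 IH) (Lpe (f80763 IH) (Lpe (K6.f38123 IH) (Lpr_ct (f70549 IH) (Lpe (K1.f36665 IH) (Lpe (K4.f30706 IH) (Lpr_bt (K32.f30705 IH) (Lpr_gt (f30718 IH) (Lpr_ct (f541826 IH) (Lpr_gt (K32.f428070 IH) (Lpn (LP (LK LD1_c6 LD2_c4 LD3_c15)))))))))))))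
theorem f38183 : Led Lsl_gt (LP (LK LD1_c4 LD2_c26 LD3_c29)) = (LP (LK LD1_c8 LD2_c50 LD3_c27)) :=
  Lre_g IH (LK LD1_c4 LD2_c26 LD3_c29) (LK LD1_c8 LD2_c50 LD3_c27) Lrfl Lrfl
theorem f202780 : Led Lsl_ft (LP (LK LD1_c1 LD2_c1 LD3_c55)) = (LP (LK LD1_c1 LD2_c55 LD3_c34)) :=
  Lgr Lrot4 (Lpe (K4.f80674 IH) (Lpe (f80731 IH) (Lpr_cf (K11.f202772 IH) (Lpn (LP (LK LD1_c1 LD2_c55 LD3_c34))))))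
def v2359 : LQ := Led Lsl_et (LP (LK LD1_c1 LD2_c43 LD3_c35))
theorem f514963 : Led Lsl_et (LP (LK LD1_c1 LD2_c43 LD3_c35)) = v2359 :=
  Lrfl
theorem f98041 : Led Lsl_ct (LP (LK LD1_c1 LD2_c42 LD3_c52)) = (LP (LK LD1_c1 LD2_c43 LD3_c35)) :=
  Lgr Lrot176 (Lpe (K3.f92337 IH) (Lpe (K3.f92336 IH) (Lpe (K2.f10271 IH) (Lpe (K3.f10269 IH) (Lpe (K2.f84724 IH) (Lpe (K2.f92287 IH) (Lpr_df (K3.f98037 IH) (Lpe (K3.f98017 IH) (Lpe (K3.f11548 IH) (Lpe (K4.f10778 IH) (Lpe (K3.f10777 IH) (Lpe (K2.f10786 IH) (Lpe (K2.f10783 IH) (Lpr_cf (K2.f94416 IH) (Lpr_df (K3.f93150 IH) (Lpn (LP (LK LD1_c1 LD2_c43 LD3_c35))))))))))))))))))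
def v2340 : LQ := Led Lsl_et (LP (LK LD1_c1 LD2_c42 LD3_c52))
theorem f514732 : Led Lsl_et (LP (LK LD1_c1 LD2_c42 LD3_c52)) = v2340 :=
  Lrfl
theorem f514734 : Led Lsl_ef (LP (LK LD1_c1 LD2_c42 LD3_c52)) = v2340 :=
  Lgr Lrot88 (Lpr_et (f514732 IH) (Lpn v2340))
theorem f514964 : Led Lsl_cf v2340 = v2359 :=
  Lgr Lrot39 (Lpe (f514734 IH) (Lpr_ct (f98041 IH) (Lpr_et (f514963 IH) (Lpn v2359))))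
def v1807 : LQ := Led Lsl_et (LP (LK LD1_c1 LD2_c27 LD3_c51))
theorem f503022 : Led Lsl_et (LP (LK LD1_c1 LD2_c27 LD3_c51)) = v1807 :=
  Lrfl
theorem f503024 : Led Lsl_ef (LP (LK LD1_c1 LD2_c27 LD3_c51)) = v1807 :=
  Lgr Lrot88 (Lpr_et (f503022 IH) (Lpn v1807))
def v2358 : LQ := Led Lsl_bt (LP (LK LD1_c1 LD2_c43 LD3_c35))
theorem f514958 : Led Lsl_bt (LP (LK LD1_c1 LD2_c43 LD3_c35)) = v2358 :=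
  Lrfl
theorem f514959 : Led Lsl_bf (LP (LK LD1_c1 LD2_c43 LD3_c35)) = v2358 :=
  Lgr Lrot24 (Lpr_bt (f514958 IH) (Lpn v2358))
theorem f80903 : Led Lsl_et (LP (LK LD1_c0 LD2_c40 LD3_c39)) = (LP (LK LD1_c1 LD2_c27 LD3_c53)) :=
  Lre_e IH (LK LD1_c0 LD2_c40 LD3_c39) (LK LD1_c1 LD2_c27 LD3_c53) Lrfl Lrfl
theorem f503025 : Led Lsl_bt (LP (LK LD1_c1 LD2_c27 LD3_c53)) = v1807 :=
  Lgr Lrot119 (Lpe (f80903 IH) (Lpe (K11.f80794 IH) (Lpr_ef (f503024 IH) (Lpn v1807))))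
theorem f175322 : Led Lsl_bt (LP (LK LD1_c0 LD2_c38 LD3_c60)) = (LP (LK LD1_c1 LD2_c24 LD3_c37)) :=
  Lre_b IH (LK LD1_c0 LD2_c38 LD3_c60) (LK LD1_c1 LD2_c24 LD3_c37) Lrfl Lrfl
theorem f176804 : Led Lsl_bt (LP (LK LD1_c2 LD2_c16 LD3_c37)) = (LP (LK LD1_c1 LD2_c5 LD3_c12)) :=
  Lre_b IH (LK LD1_c2 LD2_c16 LD3_c37) (LK LD1_c1 LD2_c5 LD3_c12) Lrfl Lrfl
theorem f268257 : Led Lsl_ft (LP (LK LD1_c1 LD2_c24 LD3_c37)) = (LP (LK LD1_c2 LD2_c16 LD3_c37)) :=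
  Lgr Lrot75 (Lpe (f175322 IH) (Lpr_ff (K15.f268255 IH) (Lpe (f176804 IH) (Lpn (LP (LK LD1_c2 LD2_c16 LD3_c37))))))
theorem f55917 : Led Lsl_bt (LP (LK LD1_c0 LD2_c57 LD3_c28)) = (LP (LK LD1_c2 LD2_c0 LD3_c55)) :=
  Lre_b IH (LK LD1_c0 LD2_c57 LD3_c28) (LK LD1_c2 LD2_c0 LD3_c55) Lrfl Lrfl
theorem f412427 : Led Lsl_ff (LP (LK LD1_c2 LD2_c0 LD3_c6)) = (LP (LK LD1_c2 LD2_c0 LD3_c55)) :=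
  Lgr Lrot25 (Lpr_bt (K35.f175323 IH) (Lpr_ft (K16.f268221 IH) (Lpr_bt (f55917 IH) (Lpn (LP (LK LD1_c2 LD2_c0 LD3_c55))))))
theorem f538405 : Led Lsl_ef (LP (LK LD1_c2 LD2_c0 LD3_c55)) = (LP (LK LD1_c2 LD2_c15 LD3_c34)) :=
  Lgr Lrot88 (Lpr_et (K35.f538399 IH) (Lpn (LP (LK LD1_c2 LD2_c15 LD3_c34))))
theorem f161384 : Led Lsl_ff (LP (LK LD1_c2 LD2_c15 LD3_c34)) = (LP (LK LD1_c4 LD2_c35 LD3_c51)) :=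
  Lgr Lrot30 (Lpr_at (K35.f157735 IH) (Lpr_ft (K8.f139525 IH) (Lpr_at (K8.f161369 IH) (Lpn (LP (LK LD1_c4 LD2_c35 LD3_c51))))))
theorem f539963 : Led Lsl_ef (LP (LK LD1_c4 LD2_c35 LD3_c51)) = (LP (LK LD1_c2 LD2_c16 LD3_c37)) :=
  Lgr Lrot21 (Lpe (f161384 IH) (Lpe (f538405 IH) (Lpe (f412427 IH) (Lpe (K35.f175334 IH) (Lpr_ft (f268257 IH) (Lpn (LP (LK LD1_c2 LD2_c16 LD3_c37))))))))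
theorem f538156 : Led Lsl_et (LP (LK LD1_c2 LD2_c16 LD3_c61)) = (LP (LK LD1_c3 LD2_c5 LD3_c15)) :=
  Lgr Lrot87 (Lpr_ef (K35.f538151 IH) (Lpn (LP (LK LD1_c3 LD2_c5 LD3_c15))))
theorem f503148 : Led Lsl_gt (LP (LK LD1_c3 LD2_c5 LD3_c15)) = (LP (LK LD1_c1 LD2_c28 LD3_c41)) :=
  Lre_g IH (LK LD1_c3 LD2_c5 LD3_c15) (LK LD1_c1 LD2_c28 LD3_c41) Lrfl Lrfl
theorem f202626 : Led Lsl_et (LP (LK LD1_c3 LD2_c5 LD3_c22)) = (LP (LK LD1_c1 LD2_c28 LD3_c41)) :=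
  Lre_e IH (LK LD1_c3 LD2_c5 LD3_c22) (LK LD1_c1 LD2_c28 LD3_c41) Lrfl Lrfl
theorem f202627 : Led Lsl_dt (LP (LK LD1_c3 LD2_c5 LD3_c22)) = (LP (LK LD1_c6 LD2_c16 LD3_c31)) :=
  Lre_d IH (LK LD1_c3 LD2_c5 LD3_c22) (LK LD1_c6 LD2_c16 LD3_c31) Lrfl Lrfl
theorem f268301 : Led Lsl_dt (LP (LK LD1_c2 LD2_c16 LD3_c37)) = (LP (LK LD1_c4 LD2_c39 LD3_c17)) :=
  Lre_d IH (LK LD1_c2 LD2_c16 LD3_c37) (LK LD1_c4 LD2_c39 LD3_c17) Lrfl Lrfl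
theorem f539970 : Led Lsl_gt (LP (LK LD1_c6 LD2_c16 LD3_c31)) = (LP (LK LD1_c4 LD2_c39 LD3_c17)) :=
  Lgr Lrot112 (Lpe (f202627 IH) (Lpr_et (f202626 IH) (Lpe (f503148 IH) (Lpe (f538156 IH) (Lpr_dt (K4.f79945 IH) (Lpr_gf (K8.f99560 IH) (Lpe (K8.f99566 IH) (Lpr_gf (K8.f161388 IH) (Lpr_ef (f539963 IH) (Lpr_dt (f268301 IH) (Lpn (LP (LK LD1_c4 LD2_c39 LD3_c17)))))))))))))
theorem f202619 : Led Lsl_et (LP (LK LD1_c0 LD2_c18 LD3_c20)) = (LP (LK LD1_c0 LD2_c40 LD3_c60)) :=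
  Lre_e IH (LK LD1_c0 LD2_c18 LD3_c20) (LK LD1_c0 LD2_c40 LD3_c60) Lrfl Lrfl
theorem f202625 : Led Lsl_gt (LP (LK LD1_c1 LD2_c28 LD3_c41)) = (LP (LK LD1_c0 LD2_c40 LD3_c60)) :=
  Lre_g IH (LK LD1_c1 LD2_c28 LD3_c41) (LK LD1_c0 LD2_c40 LD3_c60) Lrfl Lrfl
theorem f139493 : Led Lsl_et (LP (LK LD1_c0 LD2_c38 LD3_c18)) = (LP (LK LD1_c1 LD2_c22 LD3_c40)) :=
  Lre_e IH (LK LD1_c0 LD2_c38 LD3_c18) (LK LD1_c1 LD2_c22 LD3_c40) Lrfl Lrfl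
theorem f72382 : Led Lsl_gt (LP (LK LD1_c1 LD2_c22 LD3_c40)) = (LP (LK LD1_c2 LD2_c53 LD3_c9)) :=
  Lre_g IH (LK LD1_c1 LD2_c22 LD3_c40) (LK LD1_c2 LD2_c53 LD3_c9) Lrfl Lrfl
theorem f72392 : Led Lsl_dt (LP (LK LD1_c2 LD2_c53 LD3_c9)) = (LP (LK LD1_c5 LD2_c53 LD3_c38)) :=
  Lre_d IH (LK LD1_c2 LD2_c53 LD3_c9) (LK LD1_c5 LD2_c53 LD3_c38) Lrfl Lrfl
theorem f202628 : Led Lsl_gf (LP (LK LD1_c6 LD2_c16 LD3_c31)) = (LP (LK LD1_c5 LD2_c53 LD3_c38)) :=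
  Lgr Lrot134 (Lpe (f202627 IH) (Lpr_et (f202626 IH) (Lpr_gt (f202625 IH) (Lpe (f202619 IH) (Lpr_dt (K11.f202572 IH) (Lpr_gt (K6.f139481 IH) (Lpe (K5.f37956 IH) (Lpr_et (f139493 IH) (Lpr_gt (f72382 IH) (Lpr_dt (f72392 IH) (Lpn (LP (LK LD1_c5 LD2_c53 LD3_c38)))))))))))))
theorem f537998 : Led Lsl_at (LP (LK LD1_c2 LD2_c15 LD3_c61)) = (LP (LK LD1_c4 LD2_c37 LD3_c22)) :=
  Lre_a IH (LK LD1_c2 LD2_c15 LD3_c61) (LK LD1_c4 LD2_c37 LD3_c22) Lrfl Lrfl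
theorem f268253 : Led Lsl_af (LP (LK LD1_c1 LD2_c24 LD3_c39)) = (LP (LK LD1_c2 LD2_c16 LD3_c38)) :=
  Lgr Lrot117 (Lpr_dt (K10.f175571 IH) (Lpr_at (K15.f268247 IH) (Lpr_dt (K10.f26664 IH) (Lpn (LP (LK LD1_c2 LD2_c16 LD3_c38))))))
theorem f538239 : Led Lsl_af (LP (LK LD1_c4 LD2_c39 LD3_c17)) = (LP (LK LD1_c9 LD2_c8 LD3_c7)) :=
  Lgr Lrot36 (Lpr_bt (K35.f176707 IH) (Lpe (f268253 IH) (Lpr_bt (K35.f501204 IH) (Lpqs (K35.f537995 IH) (Lpr_at (f537998 IH) (Lpr_bt (K35.f538236 IH) (Lpn (LP (LK LD1_c9 LD2_c8 LD3_c7)))))))))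
theorem f539972 : Led Lsl_ft (LP (LK LD1_c5 LD2_c53 LD3_c38)) = (LP (LK LD1_c9 LD2_c8 LD3_c7)) :=
  Lgr Lrot2 (Lpe (f202628 IH) (Lpr_gt (f539970 IH) (Lpr_af (f538239 IH) (Lpn (LP (LK LD1_c9 LD2_c8 LD3_c7))))))
theorem f539982 : (LP (LK LD1_c2 LD2_c53 LD3_c9)) = K35.v1736 :=
  (Llr Lrot78 (Lpr_dt (f72392 IH) (Lpr_ft (f539972 IH) (Lpr_dt (K35.f500419 IH) (Lpr_ft (K35.f538286 IH) (Lpn K35.v1736)))))).symm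
theorem f81098 : Led Lsl_gt (LP (LK LD1_c6 LD2_c16 LD3_c10)) = (LP (LK LD1_c3 LD2_c5 LD3_c10)) :=
  Lre_g IH (LK LD1_c6 LD2_c16 LD3_c10) (LK LD1_c3 LD2_c5 LD3_c10) Lrfl Lrfl
theorem f540003 : Led Lsl_dt (LP (LK LD1_c4 LD2_c5 LD3_c40)) = (LP (LK LD1_c6 LD2_c16 LD3_c10)) :=
  Lgr Lrot136 (Lpr_et (K35.f501203 IH) (Lpq (f539982 IH) (Lpe (f72382 IH) (Lpe (f139493 IH) (Lpr_dt (K5.f37956 IH) (Lpe (K6.f139481 IH) (Lpe (K11.f202572 IH) (Lpe (K5.f60870 IH) (Lpe (K35.f132782 IH) (Lpr_dt (K8.f132779 IH) (Lpe (f81098 IH) (Lpn (LP (LK LD1_c6 LD2_c16 LD3_c10))))))))))))))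
theorem f540009 : Led Lsl_df (LP (LK LD1_c4 LD2_c5 LD3_c40)) = (LP (LK LD1_c6 LD2_c16 LD3_c10)) :=
  Lgr Lrot38 (Lpr_dt (f540003 IH) (Lpn (LP (LK LD1_c6 LD2_c16 LD3_c10))))
theorem f494438 : Led Lsl_dt (LP (LK LD1_c2 LD2_c15 LD3_c51)) = (LP (LK LD1_c4 LD2_c37 LD3_c21)) :=
  Lre_d IH (LK LD1_c2 LD2_c15 LD3_c51) (LK LD1_c4 LD2_c37 LD3_c21) Lrfl Lrfl
theorem f540021 : Led Lsl_bt (LP (LK LD1_c4 LD2_c37 LD3_c21)) = (LP (LK LD1_c6 LD2_c16 LD3_c10)) :=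
  Lgr Lrot95 (Lpe (f494438 IH) (Lpr_bf (K35.f538296 IH) (Lpr_df (f540009 IH) (Lpn (LP (LK LD1_c6 LD2_c16 LD3_c10))))))
theorem f540028 : Led Lsl_et (LP (LK LD1_c9 LD2_c10 LD3_c20)) = (LP (LK LD1_c4 LD2_c37 LD3_c21)) :=
  Lre_e IH (LK LD1_c9 LD2_c10 LD3_c20) (LK LD1_c4 LD2_c37 LD3_c21) Lrfl Lrfl
theorem f540011 : Led Lsl_et (LP (LK LD1_c6 LD2_c16 LD3_c10)) = (LP (LK LD1_c12 LD2_c9 LD3_c51)) :=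
  Lre_e IH (LK LD1_c6 LD2_c16 LD3_c10) (LK LD1_c12 LD2_c9 LD3_c51) Lrfl Lrfl
theorem f540029 : Led Lsl_bf (LP (LK LD1_c9 LD2_c10 LD3_c20)) = (LP (LK LD1_c12 LD2_c9 LD3_c51)) :=
  Lgr Lrot96 (Lpr_et (f540028 IH) (Lpr_bt (f540021 IH) (Lpr_et (f540011 IH) (Lpn (LP (LK LD1_c12 LD2_c9 LD3_c51))))))
theorem f176052 : Led Lsl_et (LP (LK LD1_c6 LD2_c8 LD3_c16)) = (LP (LK LD1_c3 LD2_c0 LD3_c21)) :=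
  Lre_e IH (LK LD1_c6 LD2_c8 LD3_c16) (LK LD1_c3 LD2_c0 LD3_c21) Lrfl Lrfl
theorem f538378 : Led Lsl_et (LP (LK LD1_c4 LD2_c37 LD3_c21)) = (LP (LK LD1_c9 LD2_c10 LD3_c20)) :=
  Lre_e IH (LK LD1_c4 LD2_c37 LD3_c21) (LK LD1_c9 LD2_c10 LD3_c20) Lrfl Lrfl
theorem f538379 : Led Lsl_af (LP (LK LD1_c6 LD2_c8 LD3_c16)) = (LP (LK LD1_c9 LD2_c10 LD3_c20)) :=
  Lgr Lrot50 (Lpr_et (f176052 IH) (Lpr_at (K35.f538374 IH) (Lpr_et (f538378 IH) (Lpn (LP (LK LD1_c9 LD2_c10 LD3_c20))))))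
theorem f176036 : Led Lsl_bt (LP (LK LD1_c6 LD2_c8 LD3_c16)) = (LP (LK LD1_c3 LD2_c0 LD3_c22)) :=
  Lre_b IH (LK LD1_c6 LD2_c8 LD3_c16) (LK LD1_c3 LD2_c0 LD3_c22) Lrfl Lrfl
theorem f268403 : Led Lsl_at (LP (LK LD1_c2 LD2_c57 LD3_c54)) = (LP (LK LD1_c4 LD2_c39 LD3_c14)) :=
  Lgr Lrot51 (Lpr_df (K10.f175593 IH) (Lpr_af (K15.f268399 IH) (Lpr_df (K10.f186001 IH) (Lpn (LP (LK LD1_c4 LD2_c39 LD3_c14))))))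
theorem f175904 : Led Lsl_ct (LP (LK LD1_c4 LD2_c39 LD3_c14)) = (LP (LK LD1_c2 LD2_c16 LD3_c36)) :=
  Lre_c IH (LK LD1_c4 LD2_c39 LD3_c14) (LK LD1_c2 LD2_c16 LD3_c36) Lrfl Lrfl
theorem f412390 : Led Lsl_af (LP (LK LD1_c1 LD2_c24 LD3_c38)) = (LP (LK LD1_c2 LD2_c16 LD3_c36)) :=
  Lgr Lrot68 (Lpr_ct (K10.f175385 IH) (Lpr_at (f268403 IH) (Lpr_ct (f175904 IH) (Lpn (LP (LK LD1_c2 LD2_c16 LD3_c36))))))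
theorem f175328 : Led Lsl_et (LP (LK LD1_c1 LD2_c24 LD3_c38)) = (LP (LK LD1_c2 LD2_c57 LD3_c55)) :=
  Lre_e IH (LK LD1_c1 LD2_c24 LD3_c38) (LK LD1_c2 LD2_c57 LD3_c55) Lrfl Lrfl
theorem f175912 : Led Lsl_et (LP (LK LD1_c4 LD2_c39 LD3_c15)) = (LP (LK LD1_c2 LD2_c16 LD3_c36)) :=
  Lre_e IH (LK LD1_c4 LD2_c39 LD3_c15) (LK LD1_c2 LD2_c16 LD3_c36) Lrfl Lrfl
theorem f412392 : Led Lsl_at (LP (LK LD1_c2 LD2_c57 LD3_c55)) = (LP (LK LD1_c4 LD2_c39 LD3_c15)) :=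
  Lgr Lrot80 (Lpe (f175328 IH) (Lpr_af (f412390 IH) (Lpe (f175912 IH) (Lpn (LP (LK LD1_c4 LD2_c39 LD3_c15))))))
theorem f175338 : Led Lsl_et (LP (LK LD1_c2 LD2_c57 LD3_c55)) = (LP (LK LD1_c1 LD2_c24 LD3_c38)) :=
  Lre_e IH (LK LD1_c2 LD2_c57 LD3_c55) (LK LD1_c1 LD2_c24 LD3_c38) Lrfl Lrfl
theorem f175339 : Led Lsl_et (LP (LK LD1_c2 LD2_c0 LD3_c7)) = (LP (LK LD1_c4 LD2_c5 LD3_c42)) :=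
  Lre_e IH (LK LD1_c2 LD2_c0 LD3_c7) (LK LD1_c4 LD2_c5 LD3_c42) Lrfl Lrfl
theorem f175340 : Led Lsl_df (LP (LK LD1_c2 LD2_c57 LD3_c55)) = (LP (LK LD1_c4 LD2_c5 LD3_c42)) :=
  Lgr Lrot70 (Lpr_et (f175338 IH) (Lpr_dt (K10.f9418 IH) (Lpr_et (K9.f175331 IH) (Lpr_dt (K9.f175318 IH) (Lpr_et (f175339 IH) (Lpn (LP (LK LD1_c4 LD2_c5 LD3_c42))))))))
theorem f175924 : Led Lsl_et (LP (LK LD1_c1 LD2_c25 LD3_c56)) = (LP (LK LD1_c3 LD2_c0 LD3_c22)) :=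
  Lre_e IH (LK LD1_c1 LD2_c25 LD3_c56) (LK LD1_c3 LD2_c0 LD3_c22) Lrfl Lrfl
theorem f175925 : Led Lsl_dt (LP (LK LD1_c3 LD2_c0 LD3_c22)) = (LP (LK LD1_c4 LD2_c39 LD3_c15)) :=
  Lgr Lrot77 (Lpe (f175924 IH) (Lpr_df (K9.f175917 IH) (Lpe (K9.f175899 IH) (Lpe (K10.f23975 IH) (Lpe (f175912 IH) (Lpn (LP (LK LD1_c4 LD2_c39 LD3_c15))))))))
theorem f176037 : Led Lsl_df (LP (LK LD1_c3 LD2_c0 LD3_c22)) = (LP (LK LD1_c4 LD2_c39 LD3_c15)) :=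
  Lgr Lrot38 (Lpr_dt (f175925 IH) (Lpn (LP (LK LD1_c4 LD2_c39 LD3_c15))))
theorem f412396 : Led Lsl_af (LP (LK LD1_c4 LD2_c5 LD3_c42)) = (LP (LK LD1_c3 LD2_c0 LD3_c22)) :=
  Lgr Lrot117 (Lpe (f175340 IH) (Lpr_at (f412392 IH) (Lpe (f176037 IH) (Lpn (LP (LK LD1_c3 LD2_c0 LD3_c22))))))
theorem f175378 : Led Lsl_bt (LP (LK LD1_c4 LD2_c5 LD3_c42)) = (LP (LK LD1_c8 LD2_c12 LD3_c7)) :=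
  Lre_b IH (LK LD1_c4 LD2_c5 LD3_c42) (LK LD1_c8 LD2_c12 LD3_c7) Lrfl Lrfl
theorem f540032 : Led Lsl_at (LP (LK LD1_c8 LD2_c12 LD3_c7)) = (LP (LK LD1_c12 LD2_c9 LD3_c51)) :=
  Lgr Lrot67 (Lpe (f175378 IH) (Lpr_af (f412396 IH) (Lpe (f176036 IH) (Lpr_af (f538379 IH) (Lpr_bf (f540029 IH) (Lpn (LP (LK LD1_c12 LD2_c9 LD3_c51))))))))
theorem f175342 : Led Lsl_bt (LP (LK LD1_c2 LD2_c57 LD3_c55)) = (LP (LK LD1_c6 LD2_c3 LD3_c28)) :=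
  Lre_b IH (LK LD1_c2 LD2_c57 LD3_c55) (LK LD1_c6 LD2_c3 LD3_c28) Lrfl Lrfl
theorem f175343 : Led Lsl_bt (LP (LK LD1_c8 LD2_c12 LD3_c7)) = (LP (LK LD1_c4 LD2_c5 LD3_c42)) :=
  Lre_b IH (LK LD1_c8 LD2_c12 LD3_c7) (LK LD1_c4 LD2_c5 LD3_c42) Lrfl Lrfl
theorem f175344 : Led Lsl_dt (LP (LK LD1_c6 LD2_c3 LD3_c28)) = (LP (LK LD1_c8 LD2_c12 LD3_c7)) :=
  Lgr Lrot79 (Lpe (f175342 IH) (Lpr_df (f175340 IH) (Lpe (f175343 IH) (Lpn (LP (LK LD1_c8 LD2_c12 LD3_c7))))))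
theorem f202637 : Led Lsl_dt (LP (LK LD1_c5 LD2_c53 LD3_c38)) = (LP (LK LD1_c2 LD2_c53 LD3_c9)) :=
  Lre_d IH (LK LD1_c5 LD2_c53 LD3_c38) (LK LD1_c2 LD2_c53 LD3_c9) Lrfl Lrfl
theorem f202640 : Led Lsl_et (LP (LK LD1_c11 LD2_c33 LD3_c14)) = (LP (LK LD1_c5 LD2_c53 LD3_c38)) :=
  Lre_e IH (LK LD1_c11 LD2_c33 LD3_c14) (LK LD1_c5 LD2_c53 LD3_c38) Lrfl Lrfl
theorem f540012 : Led Lsl_df (LP (LK LD1_c11 LD2_c33 LD3_c14)) = (LP (LK LD1_c12 LD2_c9 LD3_c51)) :=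
  Lgr Lrot70 (Lpr_et (f202640 IH) (Lpr_dt (f202637 IH) (Lpqs (f539982 IH) (Lpe (K35.f501202 IH) (Lpr_dt (f540003 IH) (Lpr_et (f540011 IH) (Lpn (LP (LK LD1_c12 LD2_c9 LD3_c51)))))))))
theorem f540038 : Led Lsl_af (LP (LK LD1_c6 LD2_c3 LD3_c28)) = (LP (LK LD1_c11 LD2_c33 LD3_c14)) :=
  Lgr Lrot117 (Lpr_dt (f175344 IH) (Lpr_at (f540032 IH) (Lpe (f540012 IH) (Lpn (LP (LK LD1_c11 LD2_c33 LD3_c14))))))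
theorem f175365 : Led Lsl_ft (LP (LK LD1_c6 LD2_c3 LD3_c28)) = (LP (LK LD1_c11 LD2_c50 LD3_c41)) :=
  Lre_f IH (LK LD1_c6 LD2_c3 LD3_c28) (LK LD1_c11 LD2_c50 LD3_c41) Lrfl Lrfl
theorem f539976 : Led Lsl_ft (LP (LK LD1_c20 LD2_c30 LD3_c27)) = (LP (LK LD1_c11 LD2_c33 LD3_c14)) :=
  Lre_f IH (LK LD1_c20 LD2_c30 LD3_c27) (LK LD1_c11 LD2_c33 LD3_c14) Lrfl Lrfl
theorem f540042 : Led Lsl_at (LP (LK LD1_c11 LD2_c50 LD3_c41)) = (LP (LK LD1_c20 LD2_c30 LD3_c27)) :=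
  Lgr Lrot66 (Lpe (f175365 IH) (Lpr_af (f540038 IH) (Lpe (f539976 IH) (Lpn (LP (LK LD1_c20 LD2_c30 LD3_c27))))))
theorem f540046 : Led Lsl_af (LP (LK LD1_c11 LD2_c50 LD3_c41)) = (LP (LK LD1_c20 LD2_c30 LD3_c27)) :=
  Lgr Lrot0 (Lpr_at (f540042 IH) (Lpn (LP (LK LD1_c20 LD2_c30 LD3_c27))))
theorem f175347 : Led Lsl_ft (LP (LK LD1_c2 LD2_c57 LD3_c55)) = (LP (LK LD1_c6 LD2_c3 LD3_c35)) :=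
  Lre_f IH (LK LD1_c2 LD2_c57 LD3_c55) (LK LD1_c6 LD2_c3 LD3_c35) Lrfl Lrfl
theorem f176713 : Led Lsl_et (LP (LK LD1_c4 LD2_c39 LD3_c19)) = (LP (LK LD1_c2 LD2_c16 LD3_c38)) :=
  Lre_e IH (LK LD1_c4 LD2_c39 LD3_c19) (LK LD1_c2 LD2_c16 LD3_c38) Lrfl Lrfl
theorem f268277 : Led Lsl_ft (LP (LK LD1_c9 LD2_c14 LD3_c18)) = (LP (LK LD1_c4 LD2_c39 LD3_c19)) :=
  Lre_f IH (LK LD1_c9 LD2_c14 LD3_c18) (LK LD1_c4 LD2_c39 LD3_c19) Lrfl Lrfl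
theorem f268278 : Led Lsl_et (LP (LK LD1_c6 LD2_c3 LD3_c35)) = (LP (LK LD1_c9 LD2_c14 LD3_c18)) :=
  Lgr Lrot69 (Lpe (f175347 IH) (Lpe (f175328 IH) (Lpr_ff (K15.f268269 IH) (Lpe (f176713 IH) (Lpe (f268277 IH) (Lpn (LP (LK LD1_c9 LD2_c14 LD3_c18))))))))
theorem f268284 : Led Lsl_ef (LP (LK LD1_c6 LD2_c3 LD3_c35)) = (LP (LK LD1_c9 LD2_c14 LD3_c18)) :=
  Lgr Lrot88 (Lpr_et (f268278 IH) (Lpn (LP (LK LD1_c9 LD2_c14 LD3_c18))))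
theorem f268286 : Led Lsl_bt (LP (LK LD1_c6 LD2_c3 LD3_c35)) = (LP (LK LD1_c11 LD2_c50 LD3_c41)) :=
  Lre_b IH (LK LD1_c6 LD2_c3 LD3_c35) (LK LD1_c11 LD2_c50 LD3_c41) Lrfl Lrfl
theorem f268287 : Led Lsl_bt (LP (LK LD1_c17 LD2_c8 LD3_c34)) = (LP (LK LD1_c9 LD2_c14 LD3_c18)) :=
  Lre_b IH (LK LD1_c17 LD2_c8 LD3_c34) (LK LD1_c9 LD2_c14 LD3_c18) Lrfl Lrfl
theorem f268288 : Led Lsl_et (LP (LK LD1_c11 LD2_c50 LD3_c41)) = (LP (LK LD1_c17 LD2_c8 LD3_c34)) :=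
  Lgr Lrot74 (Lpe (f268286 IH) (Lpr_ef (f268284 IH) (Lpe (f268287 IH) (Lpn (LP (LK LD1_c17 LD2_c8 LD3_c34))))))
theorem f538230 : Led Lsl_ft (LP (LK LD1_c17 LD2_c0 LD3_c33)) = (LP (LK LD1_c26 LD2_c55 LD3_c37)) :=
  Lre_f IH (LK LD1_c17 LD2_c0 LD3_c33) (LK LD1_c26 LD2_c55 LD3_c37) Lrfl Lrfl
theorem f539977 : Led Lsl_ef (LP (LK LD1_c20 LD2_c30 LD3_c27)) = (LP (LK LD1_c26 LD2_c55 LD3_c37)) :=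
  Lgr Lrot21 (Lpr_ft (f539976 IH) (Lpr_et (f202640 IH) (Lpr_ft (f539972 IH) (Lpr_et (K35.f500420 IH) (Lpr_ft (f538230 IH) (Lpn (LP (LK LD1_c26 LD2_c55 LD3_c37))))))))
theorem f540052 : Led Lsl_at (LP (LK LD1_c17 LD2_c8 LD3_c34)) = (LP (LK LD1_c26 LD2_c55 LD3_c37)) :=
  Lgr Lrot80 (Lpe (f268288 IH) (Lpr_af (f540046 IH) (Lpr_ef (f539977 IH) (Lpn (LP (LK LD1_c26 LD2_c55 LD3_c37))))))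
theorem f540058 : Led Lsl_af (LP (LK LD1_c17 LD2_c8 LD3_c34)) = (LP (LK LD1_c26 LD2_c55 LD3_c37)) :=
  Lgr Lrot0 (Lpr_at (f540052 IH) (Lpn (LP (LK LD1_c26 LD2_c55 LD3_c37))))
theorem f268294 : Led Lsl_ft (LP (LK LD1_c17 LD2_c8 LD3_c34)) = (LP (LK LD1_c9 LD2_c14 LD3_c13)) :=
  Lre_f IH (LK LD1_c17 LD2_c8 LD3_c34) (LK LD1_c9 LD2_c14 LD3_c13) Lrfl Lrfl
theorem f540064 : Led Lsl_at (LP (LK LD1_c9 LD2_c14 LD3_c13)) = (LP (LK LD1_c17 LD2_c0 LD3_c33)) :=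
  Lgr Lrot66 (Lpe (f268294 IH) (Lpr_af (f540058 IH) (Lpe (f538230 IH) (Lpn (LP (LK LD1_c17 LD2_c0 LD3_c33))))))
theorem f494552 : Led Lsl_bt (LP (LK LD1_c5 LD2_c50 LD3_c43)) = (LP (LK LD1_c11 LD2_c29 LD3_c9)) :=
  Lre_b IH (LK LD1_c5 LD2_c50 LD3_c43) (LK LD1_c11 LD2_c29 LD3_c9) Lrfl Lrfl
theorem f268343 : Led Lsl_bt (LP (LK LD1_c9 LD2_c14 LD3_c13)) = (LP (LK LD1_c4 LD2_c39 LD3_c19)) :=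
  Lre_b IH (LK LD1_c9 LD2_c14 LD3_c13) (LK LD1_c4 LD2_c39 LD3_c19) Lrfl Lrfl
theorem f494553 : Led Lsl_dt (LP (LK LD1_c11 LD2_c29 LD3_c9)) = (LP (LK LD1_c9 LD2_c14 LD3_c13)) :=
  Lgr Lrot79 (Lpe (f494552 IH) (Lpr_df (K30.f494539 IH) (Lpe (f268343 IH) (Lpn (LP (LK LD1_c9 LD2_c14 LD3_c13))))))
theorem f157877 : Led Lsl_et (LP (LK LD1_c9 LD2_c9 LD3_c31)) = (LP (LK LD1_c4 LD2_c36 LD3_c49)) :=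
  Lre_e IH (LK LD1_c9 LD2_c9 LD3_c31) (LK LD1_c4 LD2_c36 LD3_c49) Lrfl Lrfl
theorem f538217 : Led Lsl_df (LP (LK LD1_c9 LD2_c9 LD3_c31)) = (LP (LK LD1_c17 LD2_c0 LD3_c33)) :=
  Lgr Lrot70 (Lpr_et (f157877 IH) (Lpr_dt (K35.f148981 IH) (Lpr_et (K35.f538211 IH) (Lpr_dt (K35.f500418 IH) (Lpr_et (K35.f500420 IH) (Lpn (LP (LK LD1_c17 LD2_c0 LD3_c33))))))))
theorem f540068 : Led Lsl_af (LP (LK LD1_c11 LD2_c29 LD3_c9)) = (LP (LK LD1_c9 LD2_c9 LD3_c31)) :=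
  Lgr Lrot117 (Lpr_dt (f494553 IH) (Lpr_at (f540064 IH) (Lpe (f538217 IH) (Lpn (LP (LK LD1_c9 LD2_c9 LD3_c31))))))
theorem f494598 : Led Lsl_et (LP (LK LD1_c11 LD2_c29 LD3_c9)) = (LP (LK LD1_c5 LD2_c50 LD3_c42)) :=
  Lre_e IH (LK LD1_c11 LD2_c29 LD3_c9) (LK LD1_c5 LD2_c50 LD3_c42) Lrfl Lrfl
theorem f540076 : Led Lsl_at (LP (LK LD1_c5 LD2_c50 LD3_c42)) = (LP (LK LD1_c4 LD2_c36 LD3_c49)) :=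
  Lgr Lrot80 (Lpe (f494598 IH) (Lpr_af (f540068 IH) (Lpe (K35.f148996 IH) (Lpn (LP (LK LD1_c4 LD2_c36 LD3_c49))))))
theorem f540080 : Led Lsl_ff (LP (LK LD1_c5 LD2_c50 LD3_c42)) = (LP (LK LD1_c4 LD2_c36 LD3_c42)) :=
  Lgr Lrot30 (Lpr_at (f540076 IH) (Lpr_ft (K8.f148984 IH) (Lpr_at (K8.f148985 IH) (Lpn (LP (LK LD1_c4 LD2_c36 LD3_c42))))))
theorem f540082 : Led Lsl_gt (LP (LK LD1_c4 LD2_c36 LD3_c42)) = (LP (LK LD1_c4 LD2_c42 LD3_c57)) :=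
  Lgr Lrot5 (Lpe (f540080 IH) (Lpr_at (f540076 IH) (Lpr_gf (K35.f538207 IH) (Lpn (LP (LK LD1_c4 LD2_c42 LD3_c57))))))
theorem f157864 : Led Lsl_cf (LP (LK LD1_c4 LD2_c36 LD3_c42)) = (LP (LK LD1_c5 LD2_c51 LD3_c44)) :=
  Lgr Lrot11 (Lpr_ct (K8.f157862 IH) (Lpn (LP (LK LD1_c5 LD2_c51 LD3_c44))))
theorem f93180 : Led Lsl_gt (LP (LK LD1_c7 LD2_c30 LD3_c37)) = (LP (LK LD1_c3 LD2_c44 LD3_c49)) :=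
  Lre_g IH (LK LD1_c7 LD2_c30 LD3_c37) (LK LD1_c3 LD2_c44 LD3_c49) Lrfl Lrfl
theorem f538202 : Led Lsl_ct (LP (LK LD1_c9 LD2_c19 LD3_c51)) = (LP (LK LD1_c4 LD2_c42 LD3_c57)) :=
  Lre_c IH (LK LD1_c9 LD2_c19 LD3_c51) (LK LD1_c4 LD2_c42 LD3_c57) Lrfl Lrfl
theorem f540084 : Led Lsl_bf (LP (LK LD1_c7 LD2_c30 LD3_c37)) = (LP (LK LD1_c9 LD2_c19 LD3_c51)) :=
  Lgr Lrot156 (Lpr_gt (f93180 IH) (Lpe (K4.f90605 IH) (Lpr_ct (K2.f23706 IH) (Lpr_gt (K2.f90598 IH) (Lpe (K2.f66847 IH) (Lpr_bt (K7.f68320 IH) (Lpr_gt (K7.f68337 IH) (Lpe (f157864 IH) (Lpr_gt (f540082 IH) (Lpe (f538202 IH) (Lpn (LP (LK LD1_c9 LD2_c19 LD3_c51)))))))))))))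
theorem f59113 : Led Lsl_ct (LP (LK LD1_c4 LD2_c42 LD3_c57)) = (LP (LK LD1_c9 LD2_c19 LD3_c51)) :=
  Lre_c IH (LK LD1_c4 LD2_c42 LD3_c57) (LK LD1_c9 LD2_c19 LD3_c51) Lrfl Lrfl
theorem f59110 : Led Lsl_bt (LP (LK LD1_c0 LD2_c30 LD3_c26)) = (LP (LK LD1_c1 LD2_c6 LD3_c32)) :=
  Lre_b IH (LK LD1_c0 LD2_c30 LD3_c26) (LK LD1_c1 LD2_c6 LD3_c32) Lrfl Lrfl
theorem f176855 : Led Lsl_bt (LP (LK LD1_c2 LD2_c47 LD3_c28)) = (LP (LK LD1_c1 LD2_c20 LD3_c4)) :=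
  Lre_b IH (LK LD1_c2 LD2_c47 LD3_c28) (LK LD1_c1 LD2_c20 LD3_c4) Lrfl Lrfl
theorem f176856 : Led Lsl_ct (LP (LK LD1_c5 LD2_c43 LD3_c1)) = (LP (LK LD1_c2 LD2_c47 LD3_c28)) :=
  Lre_c IH (LK LD1_c5 LD2_c43 LD3_c1) (LK LD1_c2 LD2_c47 LD3_c28) Lrfl Lrfl
theorem f540091 : Led Lsl_dt (LP (LK LD1_c7 LD2_c32 LD3_c46)) = (LP (LK LD1_c5 LD2_c43 LD3_c1)) :=
  Lgr Lrot182 (Lpr_gf (K5.f92759 IH) (Lpe (K32.f130346 IH) (Lpr_cf (K8.f130344 IH) (Lpe (K8.f93213 IH) (Lpe (f93180 IH) (Lpr_bf (f540084 IH) (Lpe (f59113 IH) (Lpe (K35.f59112 IH) (Lpe (K35.f59111 IH) (Lpe (f59110 IH) (Lpe (K11.f59025 IH) (Lpr_df (K9.f58991 IH) (Lpe (K9.f59013 IH) (Lpe (K11.f198474 IH) (Lpe (K11.f146337 IH) (Lpe (K11.f146334 IH) (Lpr_gf (K11.f176851 IH) (Lpe (f176855 IH) (Lpe (f176856 IH) (Lpn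 (LP (LK LD1_c5 LD2_c43 LD3_c1))))))))))))))))))))))
theorem f179927 : Led Lsl_gt (LP (LK LD1_c5 LD2_c43 LD3_c1)) = (LP (LK LD1_c11 LD2_c16 LD3_c19)) :=
  Lre_g IH (LK LD1_c5 LD2_c43 LD3_c1) (LK LD1_c11 LD2_c16 LD3_c19) Lrfl Lrfl
theorem f540107 : Led Lsl_df (LP (LK LD1_c6 LD2_c33 LD3_c19)) = (LP (LK LD1_c11 LD2_c16 LD3_c19)) :=
  Lgr Lrot84 (Lpe (K5.f127330 IH) (Lpr_df (K5.f127421 IH) (Lpe (K6.f136359 IH) (Lpe (K32.f96525 IH) (Lpr_gf (f136397 IH) (Lpe (K7.f17141 IH) (Lpe (K5.f92759 IH) (Lpr_dt (f540091 IH) (Lpr_gt (f179927 IH) (Lpn (LP (LK LD1_c11 LD2_c16 LD3_c19))))))))))))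
theorem f209349 : Led Lsl_ff (LP (LK LD1_c1 LD2_c33 LD3_c34)) = (LP (LK LD1_c1 LD2_c48 LD3_c42)) :=
  Lgr Lrot3 (Lpr_ft (K11.f209339 IH) (Lpn (LP (LK LD1_c1 LD2_c48 LD3_c42))))
theorem f209353 : Led Lsl_ft (LP (LK LD1_c3 LD2_c13 LD3_c60)) = (LP (LK LD1_c3 LD2_c43 LD3_c16)) :=
  Lgr Lrot75 (Lpe (f22629 IH) (Lpr_ff (f209349 IH) (Lpe (K11.f148114 IH) (Lpn (LP (LK LD1_c3 LD2_c43 LD3_c16))))))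
theorem f209375 : Led Lsl_at (LP (LK LD1_c6 LD2_c31 LD3_c36)) = (LP (LK LD1_c3 LD2_c13 LD3_c60)) :=
  Lre_a IH (LK LD1_c6 LD2_c31 LD3_c36) (LK LD1_c3 LD2_c13 LD3_c60) Lrfl Lrfl
theorem f209332 : Led Lsl_at (LP (LK LD1_c3 LD2_c43 LD3_c16)) = (LP (LK LD1_c7 LD2_c27 LD3_c10)) :=
  Lre_a IH (LK LD1_c3 LD2_c43 LD3_c16) (LK LD1_c7 LD2_c27 LD3_c10) Lrfl Lrfl
theorem f209376 : Led Lsl_ff (LP (LK LD1_c6 LD2_c31 LD3_c36)) = (LP (LK LD1_c7 LD2_c27 LD3_c10)) :=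
  Lgr Lrot30 (Lpr_at (f209375 IH) (Lpr_ft (f209353 IH) (Lpr_at (f209332 IH) (Lpn (LP (LK LD1_c7 LD2_c27 LD3_c10))))))
theorem f209383 : Led Lsl_ft (LP (LK LD1_c6 LD2_c31 LD3_c36)) = (LP (LK LD1_c7 LD2_c27 LD3_c10)) :=
  Lgr Lrot48 (Lpr_ff (f209376 IH) (Lpn (LP (LK LD1_c7 LD2_c27 LD3_c10))))
theorem f80120 : Led Lsl_bt (LP (LK LD1_c4 LD2_c26 LD3_c16)) = (LP (LK LD1_c8 LD2_c49 LD3_c60)) :=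
  Lre_b IH (LK LD1_c4 LD2_c26 LD3_c16) (LK LD1_c8 LD2_c49 LD3_c60) Lrfl Lrfl
theorem f209328 : Led Lsl_bf (LP (LK LD1_c6 LD2_c31 LD3_c22)) = (LP (LK LD1_c7 LD2_c27 LD3_c10)) :=
  Lgr Lrot93 (Lpe (K11.f206845 IH) (Lpr_bt (f80120 IH) (Lpr_dt (K11.f209326 IH) (Lpn (LP (LK LD1_c7 LD2_c27 LD3_c10))))))
theorem f209388 : Led Lsl_bf (LP (LK LD1_c6 LD2_c31 LD3_c36)) = (LP (LK LD1_c6 LD2_c44 LD3_c34)) :=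
  Lgr Lrot61 (Lpr_ft (f209383 IH) (Lpe (f209328 IH) (Lpr_ft (K11.f206841 IH) (Lpn (LP (LK LD1_c6 LD2_c44 LD3_c34))))))
theorem f203562 : Led Lsl_gt (LP (LK LD1_c7 LD2_c27 LD3_c9)) = (LP (LK LD1_c3 LD2_c43 LD3_c16)) :=
  Lre_g IH (LK LD1_c7 LD2_c27 LD3_c9) (LK LD1_c3 LD2_c43 LD3_c16) Lrfl Lrfl
theorem f209390 : Led Lsl_gt (LP (LK LD1_c6 LD2_c31 LD3_c36)) = (LP (LK LD1_c7 LD2_c27 LD3_c9)) :=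
  Lgr Lrot5 (Lpr_ft (f209383 IH) (Lpr_at (K11.f209325 IH) (Lpe (f203562 IH) (Lpn (LP (LK LD1_c7 LD2_c27 LD3_c9))))))
theorem f540116 : Led Lsl_bt (LP (LK LD1_c11 LD2_c16 LD3_c21)) = (LP (LK LD1_c5 LD2_c43 LD3_c1)) :=
  Lre_b IH (LK LD1_c11 LD2_c16 LD3_c21) (LK LD1_c5 LD2_c43 LD3_c1) Lrfl Lrfl
theorem f210788 : Led Lsl_ct (LP (LK LD1_c5 LD2_c43 LD3_c7)) = (LP (LK LD1_c11 LD2_c16 LD3_c21)) :=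
  Lre_c IH (LK LD1_c5 LD2_c43 LD3_c7) (LK LD1_c11 LD2_c16 LD3_c21) Lrfl Lrfl
theorem f540117 : Led Lsl_dt (LP (LK LD1_c7 LD2_c27 LD3_c9)) = (LP (LK LD1_c5 LD2_c43 LD3_c7)) :=
  Lgr Lrot182 (Lpe (f209390 IH) (Lpr_bf (f209388 IH) (Lpe (K8.f116967 IH) (Lpe (K8.f116966 IH) (Lpr_gf (K6.f141963 IH) (Lpe (K6.f56827 IH) (Lpr_cf (K7.f146695 IH) (Lpe (K7.f146652 IH) (Lpr_gf (K4.f115827 IH) (Lpe (K4.f111147 IH) (Lpe (K4.f111051 IH) (Lpe (K5.f127327 IH) (Lpr_gf (K5.f127325 IH) (Lpe (K5.f127317 IH) (Lpe (K5.f127329 IH) (Lpr_df (f540107 IH) (Lpe (f179927 IH) (Lpe (f540116 IH) (Lpe (f210788 IH) (Lpn (LP (LK LD1_c5 LD2_c43 LD3_c7))))))))))))))))))))))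
theorem f540124 : Led Lsl_df (LP (LK LD1_c7 LD2_c27 LD3_c9)) = (LP (LK LD1_c5 LD2_c43 LD3_c7)) :=
  Lgr Lrot38 (Lpr_dt (f540117 IH) (Lpn (LP (LK LD1_c5 LD2_c43 LD3_c7))))
theorem f176860 : Led Lsl_bt (LP (LK LD1_c2 LD2_c47 LD3_c33)) = (LP (LK LD1_c5 LD2_c43 LD3_c7)) :=
  Lre_b IH (LK LD1_c2 LD2_c47 LD3_c33) (LK LD1_c5 LD2_c43 LD3_c7) Lrfl Lrfl
theorem f172726 : Led Lsl_dt (LP (LK LD1_c5 LD2_c43 LD3_c8)) = (LP (LK LD1_c2 LD2_c47 LD3_c33)) :=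
  Lre_d IH (LK LD1_c5 LD2_c43 LD3_c8) (LK LD1_c2 LD2_c47 LD3_c33) Lrfl Lrfl
theorem f540130 : Led Lsl_bt (LP (LK LD1_c7 LD2_c27 LD3_c9)) = (LP (LK LD1_c5 LD2_c43 LD3_c8)) :=
  Lgr Lrot95 (Lpr_df (f540124 IH) (Lpe (f176860 IH) (Lpe (f172726 IH) (Lpn (LP (LK LD1_c5 LD2_c43 LD3_c8))))))
theorem f428529 : Led Lsl_gf (LP (LK LD1_c3 LD2_c15 LD3_c30)) = (LP (LK LD1_c6 LD2_c20 LD3_c11)) :=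
  Lgr Lrot76 (Lpe (K28.f128421 IH) (Lpe (K24.f207653 IH) (Lpr_gt (K32.f428527 IH) (Lpn (LP (LK LD1_c6 LD2_c20 LD3_c11))))))
theorem f208031 : Led Lsl_af (LP (LK LD1_c6 LD2_c28 LD3_c54)) = (LP (LK LD1_c4 LD2_c37 LD3_c55)) :=
  Lgr Lrot0 (Lpr_at (K30.f208029 IH) (Lpn (LP (LK LD1_c4 LD2_c37 LD3_c55))))
theorem f148796 : Led Lsl_bt (LP (LK LD1_c4 LD2_c37 LD3_c55)) = (LP (LK LD1_c2 LD2_c16 LD3_c6)) :=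
  Lre_b IH (LK LD1_c4 LD2_c37 LD3_c55) (LK LD1_c2 LD2_c16 LD3_c6) Lrfl Lrfl
theorem f207297 : Led Lsl_ff (LP (LK LD1_c4 LD2_c37 LD3_c55)) = (LP (LK LD1_c3 LD2_c20 LD3_c24)) :=
  Lgr Lrot25 (Lpr_bt (f148796 IH) (Lpr_ft (K11.f207293 IH) (Lpr_bt (K24.f62199 IH) (Lpn (LP (LK LD1_c3 LD2_c20 LD3_c24))))))
theorem f150641 : Led Lsl_gt (LP (LK LD1_c3 LD2_c20 LD3_c24)) = (LP (LK LD1_c6 LD2_c36 LD3_c41)) :=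
  Lgr Lrot164 (Lpe (K24.f62199 IH) (Lpr_ct (K6.f62198 IH) (Lpe (K6.f96652 IH) (Lpe (K6.f96651 IH) (Lpe (K7.f94128 IH) (Lpe (K7.f94129 IH) (Lpr_ct (K7.f103834 IH) (Lpr_gf (K7.f150639 IH) (Lpe (K7.f124477 IH) (Lpe (K8.f126371 IH) (Lpn (LP (LK LD1_c6 LD2_c36 LD3_c41)))))))))))))
theorem f208852 : Led Lsl_gf (LP (LK LD1_c6 LD2_c28 LD3_c54)) = (LP (LK LD1_c6 LD2_c36 LD3_c41)) :=
  Lgr Lrot76 (Lpr_af (f208031 IH) (Lpr_ff (f207297 IH) (Lpr_gt (f150641 IH) (Lpn (LP (LK LD1_c6 LD2_c36 LD3_c41))))))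
theorem f66526 : Led Lsl_ct (LP (LK LD1_c6 LD2_c42 LD3_c2)) = (LP (LK LD1_c12 LD2_c49 LD3_c8)) :=
  Lre_c IH (LK LD1_c6 LD2_c42 LD3_c2) (LK LD1_c12 LD2_c49 LD3_c8) Lrfl Lrfl
theorem f147549 : Led Lsl_bt (LP (LK LD1_c3 LD2_c19 LD3_c5)) = (LP (LK LD1_c6 LD2_c42 LD3_c11)) :=
  Lre_b IH (LK LD1_c3 LD2_c19 LD3_c5) (LK LD1_c6 LD2_c42 LD3_c11) Lrfl Lrfl
theorem f150863 : Led Lsl_gf (LP (LK LD1_c12 LD2_c49 LD3_c9)) = (LP (LK LD1_c6 LD2_c42 LD3_c11)) :=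
  Lgr Lrot85 (Lpr_dt (K30.f150776 IH) (Lpr_ct (f66526 IH) (Lpe (K7.f150855 IH) (Lpr_gt (K7.f150857 IH) (Lpr_dt (K7.f66010 IH) (Lpr_ct (K4.f61940 IH) (Lpr_bt (K7.f66009 IH) (Lpr_gt (K3.f66007 IH) (Lpe (K3.f65992 IH) (Lpe (K3.f96178 IH) (Lpr_bt (K5.f96172 IH) (Lpr_gt (K6.f130261 IH) (Lpr_dt (K6.f12827 IH) (Lpe (K4.f12812 IH) (Lpr_bt (K4.f12824 IH) (Lpe (K4.f116531 IH) (Lpr_dt (K5.f116533 IH) (Lpe (K7.f147543 IH) (Lpr_bt (f147549 IH) (Lpn (LP (LK LD1_c6 LD2_c42 LD3_c11))))))))))))))))))))))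
theorem f150800 : Led Lsl_af (LP (LK LD1_c12 LD2_c49 LD3_c9)) = (LP (LK LD1_c9 LD2_c22 LD3_c39)) :=
  Lgr Lrot0 (Lpr_at (K24.f150769 IH) (Lpn (LP (LK LD1_c9 LD2_c22 LD3_c39))))
theorem f150866 : Led Lsl_gt (LP (LK LD1_c12 LD2_c49 LD3_c12)) = (LP (LK LD1_c6 LD2_c42 LD3_c11)) :=
  Lgr Lrot5 (Lpr_ft (K24.f150717 IH) (Lpe (f150800 IH) (Lpr_gf (f150863 IH) (Lpn (LP (LK LD1_c6 LD2_c42 LD3_c11))))))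
theorem f208856 : Led Lsl_df (LP (LK LD1_c3 LD2_c43 LD3_c21)) = (LP (LK LD1_c6 LD2_c42 LD3_c11)) :=
  Lgr Lrot84 (Lpe (K7.f148060 IH) (Lpr_df (K24.f128411 IH) (Lpe (K24.f128378 IH) (Lpe (K30.f128423 IH) (Lpr_gf (f208852 IH) (Lpr_cf (K7.f130906 IH) (Lpe (K7.f150645 IH) (Lpr_dt (K7.f96644 IH) (Lpr_gt (f150866 IH) (Lpn (LP (LK LD1_c6 LD2_c42 LD3_c11))))))))))))
theorem f208858 : Led Lsl_cf (LP (LK LD1_c3 LD2_c15 LD3_c30)) = (LP (LK LD1_c3 LD2_c43 LD3_c21)) :=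
  Lgr Lrot14 (Lpr_df (K24.f128411 IH) (Lpe (K24.f128378 IH) (Lpe (K30.f128423 IH) (Lpr_gf (f208852 IH) (Lpr_ct (K7.f130947 IH) (Lpe (K7.f150645 IH) (Lpr_dt (K7.f96644 IH) (Lpr_gt (f150866 IH) (Lpe (f208856 IH) (Lpn (LP (LK LD1_c3 LD2_c43 LD3_c21))))))))))))
theorem f148396 : Led Lsl_bt (LP (LK LD1_c1 LD2_c48 LD3_c42)) = (LP (LK LD1_c3 LD2_c43 LD3_c16)) :=
  Lre_b IH (LK LD1_c1 LD2_c48 LD3_c42) (LK LD1_c3 LD2_c43 LD3_c16) Lrfl Lrfl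
theorem f148397 : Led Lsl_gt (LP (LK LD1_c3 LD2_c43 LD3_c16)) = (LP (LK LD1_c7 LD2_c27 LD3_c8)) :=
  Lre_g IH (LK LD1_c3 LD2_c43 LD3_c16) (LK LD1_c7 LD2_c27 LD3_c8) Lrfl Lrfl
theorem f107544 : Led Lsl_ct (LP (LK LD1_c12 LD2_c14 LD3_c61)) = (LP (LK LD1_c6 LD2_c20 LD3_c11)) :=
  Lre_c IH (LK LD1_c12 LD2_c14 LD3_c61) (LK LD1_c6 LD2_c20 LD3_c11) Lrfl Lrfl
theorem f428687 : Led Lsl_bf (LP (LK LD1_c7 LD2_c27 LD3_c8)) = (LP (LK LD1_c12 LD2_c14 LD3_c61)) :=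
  Lgr Lrot34 (Lpe (f148397 IH) (Lpe (f148396 IH) (Lpr_ct (K7.f148090 IH) (Lpr_gf (K7.f148368 IH) (Lpe (K7.f148341 IH) (Lpe (K7.f148394 IH) (Lpe (K7.f148059 IH) (Lpe (f208858 IH) (Lpr_gf (f428529 IH) (Lpe (f107544 IH) (Lpn (LP (LK LD1_c12 LD2_c14 LD3_c61)))))))))))))
theorem f428634 : Led Lsl_ff (LP (LK LD1_c7 LD2_c31 LD3_c21)) = (LP (LK LD1_c6 LD2_c20 LD3_c11)) :=
  Lgr Lrot19 (Lpr_dt (f428624 IH) (Lpe (K5.f124764 IH) (Lpr_dt (K32.f94977 IH) (Lpn (LP (LK LD1_c6 LD2_c20 LD3_c11))))))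
theorem f148594 : Led Lsl_ct (LP (LK LD1_c7 LD2_c31 LD3_c21)) = (LP (LK LD1_c12 LD2_c31 LD3_c17)) :=
  Lgr Lrot59 (Lpr_cf (f148591 IH) (Lpn (LP (LK LD1_c12 LD2_c31 LD3_c17))))
theorem f428644 : Led Lsl_ft (LP (LK LD1_c12 LD2_c31 LD3_c17)) = (LP (LK LD1_c12 LD2_c14 LD3_c61)) :=
  Lgr Lrot4 (Lpe (f148594 IH) (Lpr_ff (f428634 IH) (Lpe (f107544 IH) (Lpn (LP (LK LD1_c12 LD2_c14 LD3_c61))))))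
theorem f148593 : Led Lsl_bt (LP (LK LD1_c6 LD2_c31 LD3_c34)) = (LP (LK LD1_c12 LD2_c31 LD3_c17)) :=
  Lre_b IH (LK LD1_c6 LD2_c31 LD3_c34) (LK LD1_c12 LD2_c31 LD3_c17) Lrfl Lrfl
theorem f428691 : Led Lsl_ft (LP (LK LD1_c7 LD2_c27 LD3_c8)) = (LP (LK LD1_c6 LD2_c31 LD3_c34)) :=
  Lgr Lrot75 (Lpr_bf (f428687 IH) (Lpe (f428644 IH) (Lpe (f148593 IH) (Lpn (LP (LK LD1_c6 LD2_c31 LD3_c34))))))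
theorem f147570 : Led Lsl_bt (LP (LK LD1_c3 LD2_c13 LD3_c60)) = (LP (LK LD1_c1 LD2_c33 LD3_c34)) :=
  Lre_b IH (LK LD1_c3 LD2_c13 LD3_c60) (LK LD1_c1 LD2_c33 LD3_c34) Lrfl Lrfl
theorem f209341 : Led Lsl_ff (LP (LK LD1_c3 LD2_c13 LD3_c60)) = (LP (LK LD1_c3 LD2_c43 LD3_c16)) :=
  Lgr Lrot25 (Lpr_bt (f147570 IH) (Lpr_ft (K11.f209339 IH) (Lpr_bt (f148396 IH) (Lpn (LP (LK LD1_c3 LD2_c43 LD3_c16))))))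
theorem f209387 : Led Lsl_at (LP (LK LD1_c3 LD2_c13 LD3_c60)) = (LP (LK LD1_c6 LD2_c31 LD3_c36)) :=
  Lre_a IH (LK LD1_c3 LD2_c13 LD3_c60) (LK LD1_c6 LD2_c31 LD3_c36) Lrfl Lrfl
theorem f209821 : Led Lsl_gf (LP (LK LD1_c6 LD2_c31 LD3_c36)) = (LP (LK LD1_c7 LD2_c27 LD3_c8)) :=
  Lgr Lrot76 (Lpe (f209387 IH) (Lpr_ff (f209341 IH) (Lpr_gt (f148397 IH) (Lpn (LP (LK LD1_c7 LD2_c27 LD3_c8))))))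
theorem f428696 : Led Lsl_af (LP (LK LD1_c7 LD2_c27 LD3_c9)) = (LP (LK LD1_c6 LD2_c31 LD3_c34)) :=
  Lgr Lrot31 (Lpe (f209390 IH) (Lpr_gf (f209821 IH) (Lpr_ft (f428691 IH) (Lpn (LP (LK LD1_c6 LD2_c31 LD3_c34))))))
theorem f428640 : Led Lsl_at (LP (LK LD1_c7 LD2_c31 LD3_c21)) = (LP (LK LD1_c4 LD2_c37 LD3_c30)) :=
  Lgr Lrot66 (Lpr_ff (f428634 IH) (Lpe (K32.f428525 IH) (Lpe (K32.f428453 IH) (Lpn (LP (LK LD1_c4 LD2_c37 LD3_c30))))))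
theorem f108700 : Led Lsl_ct (LP (LK LD1_c4 LD2_c37 LD3_c30)) = (LP (LK LD1_c9 LD2_c10 LD3_c22)) :=
  Lre_c IH (LK LD1_c4 LD2_c37 LD3_c30) (LK LD1_c9 LD2_c10 LD3_c22) Lrfl Lrfl
theorem f428650 : Led Lsl_af (LP (LK LD1_c12 LD2_c31 LD3_c17)) = (LP (LK LD1_c9 LD2_c10 LD3_c22)) :=
  Lgr Lrot68 (Lpe (f148591 IH) (Lpr_at (f428640 IH) (Lpr_ct (f108700 IH) (Lpn (LP (LK LD1_c9 LD2_c10 LD3_c22))))))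
theorem f428654 : Led Lsl_bt (LP (LK LD1_c4 LD2_c37 LD3_c23)) = (LP (LK LD1_c9 LD2_c10 LD3_c22)) :=
  Lre_b IH (LK LD1_c4 LD2_c37 LD3_c23) (LK LD1_c9 LD2_c10 LD3_c22) Lrfl Lrfl
theorem f540134 : Led Lsl_af (LP (LK LD1_c4 LD2_c37 LD3_c23)) = (LP (LK LD1_c5 LD2_c43 LD3_c8)) :=
  Lgr Lrot36 (Lpr_bt (f428654 IH) (Lpe (f428650 IH) (Lpr_bt (f148447 IH) (Lpe (f428696 IH) (Lpr_bt (f540130 IH) (Lpn (LP (LK LD1_c5 LD2_c43 LD3_c8))))))))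
theorem f138949 : Led Lsl_af (LP (LK LD1_c4 LD2_c25 LD3_c48)) = (LP (LK LD1_c2 LD2_c27 LD3_c2)) :=
  Lgr Lrot109 (Lpe (K6.f99662 IH) (Lpr_df (K6.f100348 IH) (Lpe (K6.f100384 IH) (Lpe (K6.f99705 IH) (Lpe (K6.f99708 IH) (Lpe (K5.f99658 IH) (Lpe (K6.f26591 IH) (Lpe (K6.f99825 IH) (Lpr_ft (K6.f138922 IH) (Lpn (LP (LK LD1_c2 LD2_c27 LD3_c2))))))))))))
theorem f138951 : Led Lsl_at (LP (LK LD1_c4 LD2_c25 LD3_c48)) = (LP (LK LD1_c2 LD2_c27 LD3_c2)) :=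
  Lgr Lrot100 (Lpr_af (f138949 IH) (Lpn (LP (LK LD1_c2 LD2_c27 LD3_c2))))
theorem f158131 : Led Lsl_ff (LP (LK LD1_c4 LD2_c25 LD3_c48)) = (LP (LK LD1_c5 LD2_c47 LD3_c55)) :=
  Lgr Lrot52 (Lpr_at (f138951 IH) (Lpe (K8.f138970 IH) (Lpr_gf (K8.f158129 IH) (Lpn (LP (LK LD1_c5 LD2_c47 LD3_c55))))))
theorem f205796 : Led Lsl_bt (LP (LK LD1_c4 LD2_c25 LD3_c48)) = (LP (LK LD1_c5 LD2_c49 LD3_c60)) :=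
  Lgr Lrot35 (Lpr_ff (f158131 IH) (Lpe (K8.f158143 IH) (Lpr_ff (K11.f205788 IH) (Lpn (LP (LK LD1_c5 LD2_c49 LD3_c60))))))
theorem f99634 : Led Lsl_bt (LP (LK LD1_c2 LD2_c15 LD3_c54)) = (LP (LK LD1_c1 LD2_c4 LD3_c58)) :=
  Lre_b IH (LK LD1_c2 LD2_c15 LD3_c54) (LK LD1_c1 LD2_c4 LD3_c58) Lrfl Lrfl
theorem f99635 : Led Lsl_ct (LP (LK LD1_c2 LD2_c15 LD3_c54)) = (LP (LK LD1_c4 LD2_c37 LD3_c23)) :=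
  Lre_c IH (LK LD1_c2 LD2_c15 LD3_c54) (LK LD1_c4 LD2_c37 LD3_c23) Lrfl Lrfl
theorem f205790 : Led Lsl_bt (LP (LK LD1_c1 LD2_c21 LD3_c39)) = (LP (LK LD1_c2 LD2_c51 LD3_c8)) :=
  Lre_b IH (LK LD1_c1 LD2_c21 LD3_c39) (LK LD1_c2 LD2_c51 LD3_c8) Lrfl Lrfl
theorem f209983 : Led Lsl_gf (LP (LK LD1_c4 LD2_c37 LD3_c23)) = (LP (LK LD1_c2 LD2_c51 LD3_c9)) :=
  Lgr Lrot126 (Lpe (f99635 IH) (Lpr_bt (f99634 IH) (Lpe (K4.f99651 IH) (Lpr_ct (K6.f23039 IH) (Lpr_gt (K6.f23040 IH) (Lpr_cf (K6.f99697 IH) (Lpr_bt (f205796 IH) (Lpr_gt (K11.f112713 IH) (Lpe (f205790 IH) (Lpr_ct (f16660 IH) (Lpn (LP (LK LD1_c2 LD2_c51 LD3_c9)))))))))))))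
theorem f205792 : Led Lsl_gt (LP (LK LD1_c5 LD2_c50 LD3_c0)) = (LP (LK LD1_c2 LD2_c51 LD3_c9)) :=
  Lre_g IH (LK LD1_c5 LD2_c50 LD3_c0) (LK LD1_c2 LD2_c51 LD3_c9) Lrfl Lrfl
theorem f540147 : Led Lsl_ft (LP (LK LD1_c5 LD2_c50 LD3_c0)) = (LP (LK LD1_c5 LD2_c43 LD3_c8)) :=
  Lgr Lrot2 (Lpr_gt (f205792 IH) (Lpe (f209983 IH) (Lpr_af (f540134 IH) (Lpn (LP (LK LD1_c5 LD2_c43 LD3_c8))))))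
theorem f540153 : Led Lsl_ff (LP (LK LD1_c5 LD2_c50 LD3_c0)) = (LP (LK LD1_c5 LD2_c43 LD3_c8)) :=
  Lgr Lrot3 (Lpr_ft (f540147 IH) (Lpn (LP (LK LD1_c5 LD2_c43 LD3_c8))))
theorem f494544 : Led Lsl_ct (LP (LK LD1_c2 LD2_c51 LD3_c32)) = (LP (LK LD1_c5 LD2_c43 LD3_c8)) :=
  Lgr Lrot59 (Lpr_cf (K30.f494541 IH) (Lpn (LP (LK LD1_c5 LD2_c43 LD3_c8))))
theorem f406389 : Led Lsl_ff (LP (LK LD1_c4 LD2_c7 LD3_c5)) = (LP (LK LD1_c2 LD2_c51 LD3_c32)) :=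
  Lgr Lrot52 (Lpr_at (K32.f272014 IH) (Lpe (K11.f204835 IH) (Lpr_gf (K35.f302480 IH) (Lpn (LP (LK LD1_c2 LD2_c51 LD3_c32))))))
theorem f406393 : Led Lsl_ft (LP (LK LD1_c4 LD2_c7 LD3_c5)) = (LP (LK LD1_c2 LD2_c51 LD3_c32)) :=
  Lgr Lrot48 (Lpr_ff (f406389 IH) (Lpn (LP (LK LD1_c2 LD2_c51 LD3_c32))))
theorem f540157 : Led Lsl_ct (LP (LK LD1_c5 LD2_c50 LD3_c0)) = (LP (LK LD1_c4 LD2_c7 LD3_c5)) :=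
  Lgr Lrot40 (Lpr_ff (f540153 IH) (Lpe (f494544 IH) (Lpe (f406393 IH) (Lpn (LP (LK LD1_c4 LD2_c7 LD3_c5))))))
theorem f428698 : Led Lsl_at (LP (LK LD1_c7 LD2_c27 LD3_c9)) = (LP (LK LD1_c6 LD2_c31 LD3_c34)) :=
  Lgr Lrot100 (Lpr_af (f428696 IH) (Lpn (LP (LK LD1_c6 LD2_c31 LD3_c34))))
theorem f22630 : Led Lsl_gt (LP (LK LD1_c6 LD2_c31 LD3_c35)) = (LP (LK LD1_c3 LD2_c13 LD3_c60)) :=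
  Lre_g IH (LK LD1_c6 LD2_c31 LD3_c35) (LK LD1_c3 LD2_c13 LD3_c60) Lrfl Lrfl
theorem f428706 : Led Lsl_ff (LP (LK LD1_c7 LD2_c27 LD3_c9)) = (LP (LK LD1_c6 LD2_c31 LD3_c35)) :=
  Lgr Lrot52 (Lpr_at (f428698 IH) (Lpe (f68347 IH) (Lpe (f22630 IH) (Lpn (LP (LK LD1_c6 LD2_c31 LD3_c35))))))
theorem f540155 : Led Lsl_bt (LP (LK LD1_c5 LD2_c50 LD3_c0)) = (LP (LK LD1_c6 LD2_c31 LD3_c35)) :=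
  Lgr Lrot35 (Lpr_ff (f540153 IH) (Lpe (f540130 IH) (Lpr_ff (f428706 IH) (Lpn (LP (LK LD1_c6 LD2_c31 LD3_c35))))))
theorem f22621 : Led Lsl_gt (LP (LK LD1_c1 LD2_c22 LD3_c18)) = (LP (LK LD1_c2 LD2_c52 LD3_c26)) :=
  Lre_g IH (LK LD1_c1 LD2_c22 LD3_c18) (LK LD1_c2 LD2_c52 LD3_c26) Lrfl Lrfl
theorem f540160 : Led Lsl_ct (LP (LK LD1_c2 LD2_c52 LD3_c26)) = (LP (LK LD1_c2 LD2_c14 LD3_c21)) :=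
  Lgr Lrot91 (Lpe (f22621 IH) (Lpe (K8.f22593 IH) (Lpr_ct (K8.f22483 IH) (Lpe (K2.f22503 IH) (Lpe (K7.f22627 IH) (Lpr_bt (f22629 IH) (Lpe (f22630 IH) (Lpe (f540155 IH) (Lpr_ct (f540157 IH) (Lpe (K18.f242726 IH) (Lpn (LP (LK LD1_c2 LD2_c14 LD3_c21)))))))))))))
def v2565 : LQ := Led Lsl_gf (LP (LK LD1_c1 LD2_c48 LD3_c46))
theorem f527505 : Led Lsl_gf (LP (LK LD1_c1 LD2_c48 LD3_c46)) = v2565 :=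
  Lrfl
theorem f56655 : Led Lsl_bt (LP (LK LD1_c1 LD2_c4 LD3_c18)) = (LP (LK LD1_c0 LD2_c29 LD3_c26)) :=
  Lre_b IH (LK LD1_c1 LD2_c4 LD3_c18) (LK LD1_c0 LD2_c29 LD3_c26) Lrfl Lrfl
def v1650 : LQ := Led Lsl_bt (LP (LK LD1_c1 LD2_c23 LD3_c14))
theorem f500560 : Led Lsl_bt (LP (LK LD1_c1 LD2_c23 LD3_c14)) = v1650 :=
  Lrfl
theorem f500561 : Led Lsl_bf (LP (LK LD1_c1 LD2_c23 LD3_c14)) = v1650 :=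
  Lgr Lrot24 (Lpr_bt (f500560 IH) (Lpn v1650))
theorem f527507 : Led Lsl_ct v1650 = v2565 :=
  Lgr Lrot64 (Lpe (f500561 IH) (Lpe (K7.f59559 IH) (Lpe (K2.f71319 IH) (Lpe (K1.f37929 IH) (Lpe (K1.f20981 IH) (Lpe (K1.f59424 IH) (Lpe (K1.f56585 IH) (Lpe (f56655 IH) (Lpr_ct (K24.f206492 IH) (Lpr_gf (f527505 IH) (Lpn v2565)))))))))))
def v1902 : LQ := Led Lsl_bt (LP (LK LD1_c1 LD2_c31 LD3_c16))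
theorem f506324 : Led Lsl_bt (LP (LK LD1_c1 LD2_c31 LD3_c16)) = v1902 :=
  Lrfl
theorem f506328 : Led Lsl_ff v1650 = v1902 :=
  Lgr Lrot25 (Lpe (f500561 IH) (Lpe (K32.f496761 IH) (Lpr_bt (f506324 IH) (Lpn v1902))))
theorem f116788 : Led Lsl_bt (LP (LK LD1_c3 LD2_c17 LD3_c46)) = (LP (LK LD1_c3 LD2_c10 LD3_c13)) :=
  Lgr Lrot95 (Lpe (K6.f14355 IH) (Lpe (K4.f57069 IH) (Lpr_df (K4.f116783 IH) (Lpn (LP (LK LD1_c3 LD2_c10 LD3_c13))))))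
theorem f161573 : Led Lsl_bt (LP (LK LD1_c2 LD2_c52 LD3_c27)) = (LP (LK LD1_c5 LD2_c52 LD3_c17)) :=
  Lre_b IH (LK LD1_c2 LD2_c52 LD3_c27) (LK LD1_c5 LD2_c52 LD3_c17) Lrfl Lrfl
theorem f506326 : Led Lsl_cf (LP (LK LD1_c2 LD2_c52 LD3_c27)) = v1902 :=
  Lgr Lrot97 (Lpr_bt (f161573 IH) (Lpr_ct (K8.f161570 IH) (Lpr_bt (f116788 IH) (Lpr_ct (K8.f69206 IH) (Lpr_bt (f506324 IH) (Lpn v1902))))))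
theorem f506332 : Led Lsl_ct (LP (LK LD1_c2 LD2_c52 LD3_c27)) = v1902 :=
  Lgr Lrot59 (Lpr_cf (f506326 IH) (Lpn v1902))
theorem f527509 : Led Lsl_ff (LP (LK LD1_c2 LD2_c52 LD3_c27)) = v2565 :=
  Lgr Lrot23 (Lpr_ct (f506332 IH) (Lpe (f506328 IH) (Lpr_ct (f527507 IH) (Lpn v2565))))
def v2564 : LQ := Led Lsl_gt (LP (LK LD1_c1 LD2_c48 LD3_c46))
theorem f527502 : Led Lsl_gt (LP (LK LD1_c1 LD2_c48 LD3_c46)) = v2564 :=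
  Lrfl
theorem f527511 : Led Lsl_at (LP (LK LD1_c2 LD2_c52 LD3_c27)) = v2564 :=
  Lgr Lrot26 (Lpr_ff (f527509 IH) (Lpe (f527505 IH) (Lpr_gt (f527502 IH) (Lpn v2564))))
theorem f527512 : Led Lsl_af (LP (LK LD1_c2 LD2_c52 LD3_c27)) = v2564 :=
  Lgr Lrot0 (Lpr_at (f527511 IH) (Lpn v2564))
theorem f157507 : Led Lsl_ct (LP (LK LD1_c14 LD2_c29 LD3_c48)) = (LP (LK LD1_c9 LD2_c21 LD3_c1)) :=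
  Lgr Lrot59 (Lpr_cf (K8.f157503 IH) (Lpn (LP (LK LD1_c9 LD2_c21 LD3_c1))))
theorem f206164 : Led Lsl_bt (LP (LK LD1_c7 LD2_c26 LD3_c29)) = (LP (LK LD1_c3 LD2_c43 LD3_c25)) :=
  Lre_b IH (LK LD1_c7 LD2_c26 LD3_c29) (LK LD1_c3 LD2_c43 LD3_c25) Lrfl Lrfl
theorem f206165 : Led Lsl_gf (LP (LK LD1_c2 LD2_c52 LD3_c27)) = (LP (LK LD1_c3 LD2_c43 LD3_c25)) :=
  Lgr Lrot124 (Lpe (K8.f22626 IH) (Lpr_ct (K8.f161570 IH) (Lpr_gt (K6.f116863 IH) (Lpe (K5.f63514 IH) (Lpr_bt (K8.f63492 IH) (Lpr_gt (K8.f63513 IH) (Lpr_ct (f157507 IH) (Lpe (K7.f156603 IH) (Lpr_cf (K24.f206155 IH) (Lpr_bt (f206164 IH) (Lpn (LP (LK LD1_c3 LD2_c43 LD3_c25)))))))))))))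
theorem f148078 : Led Lsl_bt (LP (LK LD1_c1 LD2_c48 LD3_c46)) = (LP (LK LD1_c0 LD2_c51 LD3_c8)) :=
  Lre_b IH (LK LD1_c1 LD2_c48 LD3_c46) (LK LD1_c0 LD2_c51 LD3_c8) Lrfl Lrfl
theorem f148419 : Led Lsl_ff (LP (LK LD1_c1 LD2_c48 LD3_c46)) = (LP (LK LD1_c1 LD2_c22 LD3_c18)) :=
  Lgr Lrot25 (Lpr_bt (f148078 IH) (Lpr_ft (K7.f148413 IH) (Lpr_bt (K8.f22593 IH) (Lpn (LP (LK LD1_c1 LD2_c22 LD3_c18))))))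
theorem f436775 : Led Lsl_gf (LP (LK LD1_c3 LD2_c43 LD3_c25)) = (LP (LK LD1_c2 LD2_c52 LD3_c26)) :=
  Lgr Lrot76 (Lpe (K24.f206169 IH) (Lpr_ff (f148419 IH) (Lpr_gt (f22621 IH) (Lpn (LP (LK LD1_c2 LD2_c52 LD3_c26))))))
theorem f527513 : Led Lsl_ft (LP (LK LD1_c2 LD2_c52 LD3_c26)) = v2564 :=
  Lgr Lrot2 (Lpe (f436775 IH) (Lpe (f206165 IH) (Lpr_af (f527512 IH) (Lpn v2564))))
theorem f527515 : Led Lsl_ff (LP (LK LD1_c2 LD2_c52 LD3_c26)) = v2564 :=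
  Lgr Lrot3 (Lpr_ft (f527513 IH) (Lpn v2564))
theorem f302478 : Led Lsl_ft (LP (LK LD1_c2 LD2_c14 LD3_c21)) = (LP (LK LD1_c1 LD2_c21 LD3_c50)) :=
  Lgr Lrot48 (Lpr_ff (K18.f302471 IH) (Lpn (LP (LK LD1_c1 LD2_c21 LD3_c50))))
theorem f540168 : v2564 = (LP (LK LD1_c2 LD2_c51 LD3_c34)) :=
  (Llr Lrot23 (Lpe (f527515 IH) (Lpr_ct (f540160 IH) (Lpr_ft (f302478 IH) (Lpr_ct (K18.f169784 IH) (Lpn (LP (LK LD1_c2 LD2_c51 LD3_c34)))))))).symm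
def v1292 : LQ := Led Lsl_bt (LP (LK LD1_c1 LD2_c5 LD3_c47))
theorem f494665 : Led Lsl_bt (LP (LK LD1_c1 LD2_c5 LD3_c47)) = v1292 :=
  Lrfl
theorem f494666 : Led Lsl_bf (LP (LK LD1_c1 LD2_c5 LD3_c47)) = v1292 :=
  Lgr Lrot24 (Lpr_bt (f494665 IH) (Lpn v1292))
theorem f500562 : Led Lsl_df v1292 = v1650 :=
  Lgr Lrot12 (Lpe (f494666 IH) (Lpe (K8.f141833 IH) (Lpr_bt (f500560 IH) (Lpn v1650))))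
def v474 : LQ := Led Lsl_bt (LP (LK LD1_c0 LD2_c42 LD3_c6))
theorem f453532 : Led Lsl_bt (LP (LK LD1_c0 LD2_c42 LD3_c6)) = v474 :=
  Lrfl
theorem f453533 : Led Lsl_bf (LP (LK LD1_c0 LD2_c42 LD3_c6)) = v474 :=
  Lgr Lrot24 (Lpr_bt (f453532 IH) (Lpn v474))
theorem f496758 : Led Lsl_ff v474 = v1292 :=
  Lgr Lrot25 (Lpe (f453533 IH) (Lpqs (K32.f496747 IH) (Lpe (K32.f494673 IH) (Lpr_bt (f494665 IH) (Lpn v1292)))))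
theorem f506330 : Led Lsl_dt v474 = v1902 :=
  Lgr Lrot60 (Lpr_ff (f496758 IH) (Lpr_df (f500562 IH) (Lpr_ff (f506328 IH) (Lpn v1902))))
def v2791 : LQ := Led Lsl_gf v330
theorem f535617 : Led Lsl_gf v330 = v2791 :=
  Lrfl
theorem f452188 : Led Lsl_ff K35.v111 = v330 :=
  Lgr Lrot25 (Lpe (K35.f448918 IH) (Lpr_ft (K35.f437517 IH) (Lpr_bt (f452185 IH) (Lpn v330))))
theorem f452189 : Led Lsl_ct (LP (LK LD1_c0 LD2_c29 LD3_c12)) = v330 :=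
  Lgr Lrot40 (Lpr_ff (K11.f437503 IH) (Lpr_cf (K35.f448919 IH) (Lpr_ff (f452188 IH) (Lpn v330))))
theorem f535619 : Led Lsl_ct v474 = v2791 :=
  Lgr Lrot64 (Lpe (f453533 IH) (Lpe (K4.f68538 IH) (Lpe (K6.f68537 IH) (Lpr_ct (K2.f7150 IH) (Lpe (K2.f59720 IH) (Lpe (K2.f59644 IH) (Lpe (K2.f68328 IH) (Lpe (f37270 IH) (Lpr_ct (f452189 IH) (Lpr_gf (f535617 IH) (Lpn v2791)))))))))))
theorem f535620 : Led Lsl_cf v474 = v2791 :=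
  Lgr Lrot11 (Lpr_ct (f535619 IH) (Lpn v2791))
theorem f494194 : Led Lsl_df v330 = v1231 :=
  Lgr Lrot12 (Lpe (f452186 IH) (Lpr_dt (K35.f422784 IH) (Lpr_bt (f494192 IH) (Lpn v1231))))
theorem f536766 : v330 = (LP (LK LD1_c0 LD2_c16 LD3_c56)) :=
  Lefun (Lecon (Lfl_df (f494194 IH)) (f536679 IH).symm) (K13.f177136 IH)
theorem f536916 : v2791 = (LP (LK LD1_c0 LD2_c29 LD3_c21)) :=
  Lefun (Lecon (f535617 IH) (f536766 IH)) (K9.f146314 IH)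
theorem f537132 : v474 = (LP (LK LD1_c1 LD2_c4 LD3_c13)) :=
  Lefun (Lecon (Lfl_cf (f535620 IH)) (f536916 IH)) (K10.f20482 IH)
theorem f537311 : v1902 = (LP (LK LD1_c2 LD2_c14 LD3_c19)) :=
  Lefun (Lecon (f506330 IH) (f537132 IH)) (K10.f20500 IH)
theorem f540177 : Led Lsl_dt (LP (LK LD1_c2 LD2_c52 LD3_c26)) = (LP (LK LD1_c2 LD2_c50 LD3_c52)) :=
  Lgr Lrot159 (Lpr_ft (f527513 IH) (Lpqs (f540168 IH) (Lpq (f540168 IH) (Lpe (f527512 IH) (Lpr_cf (f506326 IH) (Lpqs (f537311 IH) (Lpe (K10.f20500 IH) (Lpe (K10.f20482 IH) (Lpe (K9.f181117 IH) (Lpe (K18.f181121 IH) (Lpr_df (K16.f186327 IH) (Lpe (K18.f210598 IH) (Lpn (LP (LK LD1_c2 LD2_c50 LD3_c52)))))))))))))))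
theorem f540162 : Led Lsl_cf (LP (LK LD1_c2 LD2_c52 LD3_c26)) = (LP (LK LD1_c2 LD2_c14 LD3_c21)) :=
  Lgr Lrot11 (Lpr_ct (f540160 IH) (Lpn (LP (LK LD1_c2 LD2_c14 LD3_c21))))
theorem f26713 : Led Lsl_et (LP (LK LD1_c1 LD2_c4 LD3_c30)) = (LP (LK LD1_c2 LD2_c14 LD3_c6)) :=
  Lgr Lrot87 (Lpr_ef (K12.f26672 IH) (Lpn (LP (LK LD1_c2 LD2_c14 LD3_c6))))
theorem f452913 : Led Lsl_gt (LP (LK LD1_c2 LD2_c14 LD3_c6)) = K35.v449 :=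
  Lgr Lrot131 (Lpe (f26713 IH) (Lpr_dt (K11.f26712 IH) (Lpr_gf (K30.f185978 IH) (Lpe (K10.f172550 IH) (Lpe (K12.f185976 IH) (Lpe (K11.f24464 IH) (Lpe (K10.f185966 IH) (Lpr_gf (K12.f185969 IH) (Lpe (K10.f172679 IH) (Lpr_et (K35.f452909 IH) (Lpn K35.v449)))))))))))
theorem f448998 : Led Lsl_gt (LP (LK LD1_c1 LD2_c4 LD3_c5)) = K35.v122 :=
  Lgr Lrot131 (Lpe (K9.f26658 IH) (Lpe (K9.f26625 IH) (Lpe (K9.f164302 IH) (Lpe (K9.f24247 IH) (Lpe (K9.f8412 IH) (Lpe (K9.f24259 IH) (Lpe (K10.f176820 IH) (Lpr_gf (K11.f176847 IH) (Lpe (K12.f9451 IH) (Lpr_et (K35.f448993 IH) (Lpn K35.v122)))))))))))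
theorem f68897 : Led Lsl_et (LP (LK LD1_c1 LD2_c25 LD3_c60)) = (LP (LK LD1_c0 LD2_c39 LD3_c42)) :=
  Lre_e IH (LK LD1_c1 LD2_c25 LD3_c60) (LK LD1_c0 LD2_c39 LD3_c42) Lrfl Lrfl
theorem f68796 : Led Lsl_af (LP (LK LD1_c2 LD2_c47 LD3_c8)) = (LP (LK LD1_c2 LD2_c49 LD3_c16)) :=
  Lgr Lrot45 (Lpr_ft (K10.f68589 IH) (Lpr_at (K10.f60123 IH) (Lpr_ft (K16.f59961 IH) (Lpn (LP (LK LD1_c2 LD2_c49 LD3_c16))))))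
theorem f68917 : Led Lsl_gf (LP (LK LD1_c2 LD2_c47 LD3_c8)) = (LP (LK LD1_c2 LD2_c49 LD3_c14)) :=
  Lgr Lrot76 (Lpr_af (f68796 IH) (Lpe (K16.f59961 IH) (Lpr_gt (K16.f59821 IH) (Lpn (LP (LK LD1_c2 LD2_c49 LD3_c14))))))
theorem f268721 : Led Lsl_dt (LP (LK LD1_c2 LD2_c13 LD3_c14)) = (LP (LK LD1_c2 LD2_c49 LD3_c14)) :=
  Lgr Lrot171 (Lpr_gf (K16.f268717 IH) (Lpr_ef (K16.f176992 IH) (Lpr_dt (K10.f24480 IH) (Lpe (K16.f198527 IH) (Lpr_df (K16.f198511 IH) (Lpr_et (K16.f182482 IH) (Lpe (K9.f182470 IH) (Lpe (f68897 IH) (Lpe (K10.f68801 IH) (Lpr_gf (f68917 IH) (Lpn (LP (LK LD1_c2 LD2_c49 LD3_c14)))))))))))))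
theorem f313691 : Led Lsl_dt (LP (LK LD1_c1 LD2_c3 LD3_c33)) = (LP (LK LD1_c0 LD2_c37 LD3_c18)) :=
  Lgr Lrot57 (Lpr_gf (K19.f313689 IH) (Lpe (K16.f176904 IH) (Lpe (K16.f268717 IH) (Lpr_dt (f268721 IH) (Lpe (f68917 IH) (Lpr_dt (f68815 IH) (Lpe (K10.f9515 IH) (Lpr_df (K0.f9509 IH) (Lpr_gf (K19.f60187 IH) (Lpn (LP (LK LD1_c0 LD2_c37 LD3_c18))))))))))))
theorem f20572 : Led Lsl_et (LP (LK LD1_c0 LD2_c7 LD3_c27)) = (LP (LK LD1_c0 LD2_c3 LD3_c20)) :=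
  Lre_e IH (LK LD1_c0 LD2_c7 LD3_c27) (LK LD1_c0 LD2_c3 LD3_c20) Lrfl Lrfl
theorem f380686 : Led Lsl_et (LP (LK LD1_c1 LD2_c3 LD3_c33)) = (LP (LK LD1_c0 LD2_c36 LD3_c58)) :=
  Lgr Lrot121 (Lpr_dt (f313691 IH) (Lpe (K19.f60154 IH) (Lpr_df (K9.f60143 IH) (Lpr_et (K9.f60145 IH) (Lpe (K1.f20456 IH) (Lpe (f20572 IH) (Lpr_dt (K6.f20442 IH) (Lpe (K13.f176878 IH) (Lpe (K13.f186344 IH) (Lpr_gf (f380682 IH) (Lpn (LP (LK LD1_c0 LD2_c36 LD3_c58)))))))))))))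
theorem f380688 : Led Lsl_ef (LP (LK LD1_c1 LD2_c3 LD3_c33)) = (LP (LK LD1_c0 LD2_c36 LD3_c58)) :=
  Lgr Lrot88 (Lpr_et (f380686 IH) (Lpn (LP (LK LD1_c0 LD2_c36 LD3_c58))))
theorem f448995 : Led Lsl_df (LP (LK LD1_c0 LD2_c36 LD3_c58)) = K35.v122 :=
  Lgr Lrot70 (Lpe (f380688 IH) (Lpr_dt (f313691 IH) (Lpe (K19.f60191 IH) (Lpr_dt (K9.f9385 IH) (Lpr_et (K35.f448993 IH) (Lpn K35.v122))))))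
theorem f177089 : Led Lsl_dt (LP (LK LD1_c2 LD2_c14 LD3_c21)) = (LP (LK LD1_c1 LD2_c4 LD3_c14)) :=
  Lre_d IH (LK LD1_c2 LD2_c14 LD3_c21) (LK LD1_c1 LD2_c4 LD3_c14) Lrfl Lrfl
theorem f536562 : Led Lsl_gf (LP (LK LD1_c2 LD2_c14 LD3_c21)) = K35.v3034 :=
  Lgr Lrot143 (Lpr_dt (f177089 IH) (Lpe (K13.f176882 IH) (Lpe (K13.f186344 IH) (Lpr_gf (f380682 IH) (Lpr_df (f448995 IH) (Lpe (f448998 IH) (Lpe (K12.f26680 IH) (Lpr_gt (f452913 IH) (Lpr_dt (K35.f536558 IH) (Lpn K35.v3034))))))))))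
theorem f209986 : Led Lsl_dt (LP (LK LD1_c1 LD2_c4 LD3_c56)) = (LP (LK LD1_c2 LD2_c15 LD3_c54)) :=
  Lre_d IH (LK LD1_c1 LD2_c4 LD3_c56) (LK LD1_c2 LD2_c15 LD3_c54) Lrfl Lrfl
theorem f537549 : K35.v3034 = (LP (LK LD1_c2 LD2_c15 LD3_c54)) :=
  Lefun (Lecon (K35.f536558 IH) (K35.f537228 IH).symm) (f209986 IH)
theorem f99666 : Led Lsl_ct (LP (LK LD1_c4 LD2_c37 LD3_c23)) = (LP (LK LD1_c2 LD2_c15 LD3_c54)) :=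
  Lre_c IH (LK LD1_c4 LD2_c37 LD3_c23) (LK LD1_c2 LD2_c15 LD3_c54) Lrfl Lrfl
theorem f540183 : Led Lsl_df (LP (LK LD1_c2 LD2_c51 LD3_c9)) = K32.v1827 :=
  Lgr Lrot155 (Lpe (f209983 IH) (Lpr_ct (f99666 IH) (Lpq (f537549 IH) (Lpe (f536562 IH) (Lpe (f540162 IH) (Lpr_dt (f540177 IH) (Lpr_cf (K18.f210605 IH) (Lpe (K16.f175927 IH) (Lpe (K11.f59106 IH) (Lpr_gf (K32.f503154 IH) (Lpn K32.v1827)))))))))))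
theorem f205791 : Led Lsl_ct (LP (LK LD1_c2 LD2_c51 LD3_c9)) = (LP (LK LD1_c1 LD2_c21 LD3_c39)) :=
  Lre_c IH (LK LD1_c2 LD2_c51 LD3_c9) (LK LD1_c1 LD2_c21 LD3_c39) Lrfl Lrfl
theorem f26548 : Led Lsl_dt (LP (LK LD1_c0 LD2_c37 LD3_c49)) = (LP (LK LD1_c0 LD2_c16 LD3_c52)) :=
  Lre_d IH (LK LD1_c0 LD2_c37 LD3_c49) (LK LD1_c0 LD2_c16 LD3_c52) Lrfl Lrfl
def v1566 : LQ := Led Lsl_ct (LP (LK LD1_c1 LD2_c21 LD3_c43))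
theorem f499987 : Led Lsl_ct (LP (LK LD1_c1 LD2_c21 LD3_c43)) = v1566 :=
  Lrfl
theorem f540190 : Led Lsl_gt v1566 = (LP (LK LD1_c2 LD2_c19 LD3_c2)) :=
  Lgr Lrot94 (Lpe (f499987 IH) (Lpr_gt (K7.f26481 IH) (Lpr_dt (f26548 IH) (Lpr_gt (K11.f16658 IH) (Lpr_dt (f16659 IH) (Lpe (f205791 IH) (Lpr_df (f540183 IH) (Lpe (K32.f503155 IH) (Lpr_df (K11.f210165 IH) (Lpn (LP (LK LD1_c2 LD2_c19 LD3_c2))))))))))))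
theorem f204303 : Led Lsl_at (LP (LK LD1_c1 LD2_c31 LD3_c23)) = (LP (LK LD1_c2 LD2_c19 LD3_c2)) :=
  Lgr Lrot80 (Lpe (K11.f68940 IH) (Lpr_af (K11.f204298 IH) (Lpe (K11.f104858 IH) (Lpn (LP (LK LD1_c2 LD2_c19 LD3_c2))))))
theorem f204796 : Led Lsl_ft (LP (LK LD1_c3 LD2_c5 LD3_c34)) = (LP (LK LD1_c1 LD2_c28 LD3_c46)) :=
  Lre_f IH (LK LD1_c3 LD2_c5 LD3_c34) (LK LD1_c1 LD2_c28 LD3_c46) Lrfl Lrfl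
theorem f58990 : Led Lsl_dt (LP (LK LD1_c1 LD2_c28 LD3_c46)) = (LP (LK LD1_c3 LD2_c5 LD3_c33)) :=
  Lre_d IH (LK LD1_c1 LD2_c28 LD3_c46) (LK LD1_c3 LD2_c5 LD3_c33) Lrfl Lrfl
theorem f204797 : Led Lsl_ff (LP (LK LD1_c1 LD2_c31 LD3_c23)) = (LP (LK LD1_c3 LD2_c5 LD3_c33)) :=
  Lgr Lrot19 (Lpr_dt (K11.f204788 IH) (Lpr_ft (f204796 IH) (Lpr_dt (f58990 IH) (Lpn (LP (LK LD1_c3 LD2_c5 LD3_c33))))))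
theorem f540191 : Led Lsl_gf v1566 = (LP (LK LD1_c3 LD2_c5 LD3_c33)) :=
  Lgr Lrot47 (Lpr_gt (f540190 IH) (Lpe (f204303 IH) (Lpr_ff (f204797 IH) (Lpn (LP (LK LD1_c3 LD2_c5 LD3_c33))))))
theorem f499988 : Led Lsl_cf (LP (LK LD1_c1 LD2_c21 LD3_c43)) = v1566 :=
  Lgr Lrot11 (Lpr_ct (f499987 IH) (Lpn v1566))
theorem f66524 : Led Lsl_bt (LP (LK LD1_c3 LD2_c19 LD3_c1)) = (LP (LK LD1_c1 LD2_c35 LD3_c60)) :=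
  Lre_b IH (LK LD1_c3 LD2_c19 LD3_c1) (LK LD1_c1 LD2_c35 LD3_c60) Lrfl Lrfl
theorem f210221 : Led Lsl_bt (LP (LK LD1_c6 LD2_c16 LD3_c54)) = (LP (LK LD1_c3 LD2_c5 LD3_c33)) :=
  Lre_b IH (LK LD1_c6 LD2_c16 LD3_c54) (LK LD1_c3 LD2_c5 LD3_c33) Lrfl Lrfl
theorem f540193 : Led Lsl_cf (LP (LK LD1_c3 LD2_c20 LD3_c24)) = (LP (LK LD1_c6 LD2_c16 LD3_c54)) :=
  Lgr Lrot58 (Lpe (K24.f66435 IH) (Lpr_cf (K24.f66460 IH) (Lpr_bt (f66524 IH) (Lpe (K1.f66452 IH) (Lpr_bf (K6.f139793 IH) (Lpr_ct (K6.f26469 IH) (Lpe (K7.f26481 IH) (Lpr_cf (f499988 IH) (Lpr_gf (f540191 IH) (Lpe (f210221 IH) (Lpn (LP (LK LD1_c6 LD2_c16 LD3_c54)))))))))))))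
theorem f540205 : Led Lsl_gt (LP (LK LD1_c2 LD2_c51 LD3_c16)) = (LP (LK LD1_c3 LD2_c5 LD3_c33)) :=
  Lgr Lrot164 (Lpe (K6.f26497 IH) (Lpe (K8.f26512 IH) (Lpe (K8.f26515 IH) (Lpe (K32.f158945 IH) (Lpr_gf (K8.f157756 IH) (Lpr_bf (K8.f150667 IH) (Lpe (K7.f130906 IH) (Lpe (f150641 IH) (Lpr_cf (f540193 IH) (Lpr_bt (f210221 IH) (Lpn (LP (LK LD1_c3 LD2_c5 LD3_c33)))))))))))))
theorem f172708 : Led Lsl_ct (LP (LK LD1_c2 LD2_c47 LD3_c33)) = (LP (LK LD1_c1 LD2_c20 LD3_c4)) :=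
  Lre_c IH (LK LD1_c2 LD2_c47 LD3_c33) (LK LD1_c1 LD2_c20 LD3_c4) Lrfl Lrfl
theorem f146350 : Led Lsl_ct (LP (LK LD1_c0 LD2_c37 LD3_c36)) = (LP (LK LD1_c0 LD2_c16 LD3_c44)) :=
  Lre_c IH (LK LD1_c0 LD2_c37 LD3_c36) (LK LD1_c0 LD2_c16 LD3_c44) Lrfl Lrfl
theorem f210557 : Led Lsl_gf (LP (LK LD1_c1 LD2_c5 LD3_c52)) = (LP (LK LD1_c0 LD2_c37 LD3_c36)) :=
  Lgr Lrot144 (Lpr_dt (K11.f25964 IH) (Lpr_gt (K11.f210156 IH) (Lpr_dt (K18.f185777 IH) (Lpe (K13.f185776 IH) (Lpr_df (K18.f186342 IH) (Lpe (K13.f186330 IH) (Lpe (K13.f177136 IH) (Lpr_gf (K9.f146346 IH) (Lpe (f146350 IH) (Lpn (LP (LK LD1_c0 LD2_c37 LD3_c36))))))))))))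
theorem f186037 : Led Lsl_ct (LP (LK LD1_c3 LD2_c5 LD3_c46)) = (LP (LK LD1_c1 LD2_c28 LD3_c56)) :=
  Lre_c IH (LK LD1_c3 LD2_c5 LD3_c46) (LK LD1_c1 LD2_c28 LD3_c56) Lrfl Lrfl
theorem f210782 : Led Lsl_gf (LP (LK LD1_c3 LD2_c5 LD3_c46)) = (LP (LK LD1_c2 LD2_c47 LD3_c33)) :=
  Lgr Lrot104 (Lpr_ct (f186037 IH) (Lpe (K16.f186032 IH) (Lpe (K11.f59026 IH) (Lpr_gf (K11.f210471 IH) (Lpe (K11.f25970 IH) (Lpr_gf (f210557 IH) (Lpe (K24.f177075 IH) (Lpr_gt (K14.f179920 IH) (Lpr_ct (K30.f172701 IH) (Lpn (LP (LK LD1_c2 LD2_c47 LD3_c33))))))))))))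
theorem f540209 : Led Lsl_df (LP (LK LD1_c2 LD2_c51 LD3_c16)) = (LP (LK LD1_c3 LD2_c5 LD3_c46)) :=
  Lgr Lrot153 (Lpr_gt (f540205 IH) (Lpr_dt (K11.f59107 IH) (Lpe (K18.f58989 IH) (Lpe (K11.f58988 IH) (Lpe (K11.f186325 IH) (Lpe (K11.f146334 IH) (Lpr_gf (K11.f176851 IH) (Lpe (f172708 IH) (Lpe (f210782 IH) (Lpn (LP (LK LD1_c3 LD2_c5 LD3_c46))))))))))))
theorem f540221 : Led Lsl_gt (LP (LK LD1_c2 LD2_c52 LD3_c24)) = (LP (LK LD1_c5 LD2_c43 LD3_c8)) :=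
  Lgr Lrot94 (Lpe (K32.f74762 IH) (Lpr_gt (K7.f22751 IH) (Lpr_dt (K7.f26562 IH) (Lpr_gt (K8.f24408 IH) (Lpe (K8.f139754 IH) (Lpe (K6.f26496 IH) (Lpr_df (f540209 IH) (Lpr_gf (f210782 IH) (Lpe (f172726 IH) (Lpn (LP (LK LD1_c5 LD2_c43 LD3_c8))))))))))))
theorem f22673 : Led Lsl_at (LP (LK LD1_c2 LD2_c52 LD3_c18)) = (LP (LK LD1_c1 LD2_c22 LD3_c18)) :=
  Lre_a IH (LK LD1_c2 LD2_c52 LD3_c18) (LK LD1_c1 LD2_c22 LD3_c18) Lrfl Lrfl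
theorem f206167 : Led Lsl_ff (LP (LK LD1_c2 LD2_c52 LD3_c18)) = (LP (LK LD1_c3 LD2_c43 LD3_c25)) :=
  Lgr Lrot52 (Lpr_at (f22673 IH) (Lpe (K8.f22625 IH) (Lpr_gf (f206165 IH) (Lpn (LP (LK LD1_c3 LD2_c43 LD3_c25))))))
theorem f206172 : Led Lsl_ft (LP (LK LD1_c2 LD2_c52 LD3_c18)) = (LP (LK LD1_c3 LD2_c43 LD3_c25)) :=
  Lgr Lrot48 (Lpr_ff (f206167 IH) (Lpn (LP (LK LD1_c3 LD2_c43 LD3_c25))))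
theorem f151995 : Led Lsl_ct (LP (LK LD1_c1 LD2_c22 LD3_c15)) = (LP (LK LD1_c2 LD2_c52 LD3_c18)) :=
  Lre_c IH (LK LD1_c1 LD2_c22 LD3_c15) (LK LD1_c2 LD2_c52 LD3_c18) Lrfl Lrfl
theorem f206494 : Led Lsl_ft (LP (LK LD1_c2 LD2_c14 LD3_c24)) = (LP (LK LD1_c1 LD2_c22 LD3_c15)) :=
  Lgr Lrot4 (Lpr_cf (K24.f206490 IH) (Lpe (f206172 IH) (Lpe (f151995 IH) (Lpn (LP (LK LD1_c1 LD2_c22 LD3_c15))))))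
theorem f206499 : Led Lsl_at (LP (LK LD1_c1 LD2_c22 LD3_c15)) = (LP (LK LD1_c0 LD2_c38 LD3_c8)) :=
  Lre_a IH (LK LD1_c1 LD2_c22 LD3_c15) (LK LD1_c0 LD2_c38 LD3_c8) Lrfl Lrfl
theorem f206500 : Led Lsl_gt (LP (LK LD1_c2 LD2_c14 LD3_c24)) = (LP (LK LD1_c1 LD2_c22 LD3_c17)) :=
  Lgr Lrot5 (Lpr_ft (f206494 IH) (Lpr_at (f206499 IH) (Lpe (K7.f22751 IH) (Lpn (LP (LK LD1_c1 LD2_c22 LD3_c17))))))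
theorem f8374 : Led Lsl_ct (LP (LK LD1_c1 LD2_c21 LD3_c58)) = (LP (LK LD1_c2 LD2_c51 LD3_c48)) :=
  Lre_c IH (LK LD1_c1 LD2_c21 LD3_c58) (LK LD1_c2 LD2_c51 LD3_c48) Lrfl Lrfl
theorem f406395 : Led Lsl_bt (LP (LK LD1_c2 LD2_c51 LD3_c32)) = (LP (LK LD1_c5 LD2_c50 LD3_c42)) :=
  Lre_b IH (LK LD1_c2 LD2_c51 LD3_c32) (LK LD1_c5 LD2_c50 LD3_c42) Lrfl Lrfl
theorem f540227 : Led Lsl_gf (LP (LK LD1_c4 LD2_c36 LD3_c46)) = (LP (LK LD1_c5 LD2_c50 LD3_c42)) :=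
  Lgr Lrot124 (Lpr_bf (K8.f137284 IH) (Lpe (K8.f137242 IH) (Lpr_gt (K7.f151563 IH) (Lpe (f8374 IH) (Lpr_bt (K24.f163590 IH) (Lpr_gt (f206500 IH) (Lpr_ct (K32.f74762 IH) (Lpr_gt (f540221 IH) (Lpe (f494544 IH) (Lpr_bt (f406395 IH) (Lpn (LP (LK LD1_c5 LD2_c50 LD3_c42)))))))))))))
theorem f540233 : Led Lsl_df (LP (LK LD1_c4 LD2_c35 LD3_c51)) = (LP (LK LD1_c5 LD2_c50 LD3_c42)) :=
  Lgr Lrot155 (Lpe (K8.f161388 IH) (Lpe (K8.f160942 IH) (Lpr_gt (K8.f101692 IH) (Lpr_ct (K7.f37772 IH) (Lpr_dt (K6.f59885 IH) (Lpe (K7.f59895 IH) (Lpe (K8.f150233 IH) (Lpe (K8.f157620 IH) (Lpr_gf (f540227 IH) (Lpn (LP (LK LD1_c5 LD2_c50 LD3_c42))))))))))))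
theorem f159100 : Led Lsl_at (LP (LK LD1_c3 LD2_c3 LD3_c15)) = (LP (LK LD1_c1 LD2_c55 LD3_c43)) :=
  Lgr Lrot100 (Lpr_af (K8.f159098 IH) (Lpn (LP (LK LD1_c1 LD2_c55 LD3_c43))))
theorem f161382 : Led Lsl_cf (LP (LK LD1_c3 LD2_c3 LD3_c15)) = (LP (LK LD1_c4 LD2_c35 LD3_c51)) :=
  Lgr Lrot1 (Lpr_at (f159100 IH) (Lpe (K28.f148979 IH) (Lpr_at (K8.f161369 IH) (Lpn (LP (LK LD1_c4 LD2_c35 LD3_c51))))))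
theorem f540235 : Led Lsl_ct (LP (LK LD1_c5 LD2_c47 LD3_c31)) = (LP (LK LD1_c5 LD2_c50 LD3_c42)) :=
  Lgr Lrot176 (Lpr_df (K8.f139749 IH) (Lpe (K8.f157754 IH) (Lpr_df (K8.f157697 IH) (Lpe (K8.f99592 IH) (Lpe (K6.f99590 IH) (Lpe (K4.f69324 IH) (Lpe (K4.f99594 IH) (Lpe (K4.f99595 IH) (Lpr_df (K8.f139516 IH) (Lpe (K6.f139779 IH) (Lpr_df (K8.f157675 IH) (Lpe (K8.f99515 IH) (Lpr_df (K8.f99507 IH) (Lpr_cf (f161382 IH) (Lpr_df (f540233 IH) (Lpn (LP (LK LD1_c5 LD2_c50 LD3_c42))))))))))))))))))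
theorem f406391 : Led Lsl_bt (LP (LK LD1_c5 LD2_c50 LD3_c42)) = (LP (LK LD1_c2 LD2_c51 LD3_c32)) :=
  Lre_b IH (LK LD1_c5 LD2_c50 LD3_c42) (LK LD1_c2 LD2_c51 LD3_c32) Lrfl Lrfl
theorem f36441 : Led Lsl_bt (LP (LK LD1_c1 LD2_c1 LD3_c52)) = (LP (LK LD1_c2 LD2_c9 LD3_c26)) :=
  Lre_b IH (LK LD1_c1 LD2_c1 LD3_c52) (LK LD1_c2 LD2_c9 LD3_c26) Lrfl Lrfl
theorem f36442 : Led Lsl_gt (LP (LK LD1_c2 LD2_c9 LD3_c26)) = (LP (LK LD1_c4 LD2_c24 LD3_c1)) :=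
  Lre_g IH (LK LD1_c2 LD2_c9 LD3_c26) (LK LD1_c4 LD2_c24 LD3_c1) Lrfl Lrfl
theorem f540241 : Led Lsl_df (LP (LK LD1_c3 LD2_c27 LD3_c2)) = (LP (LK LD1_c4 LD2_c24 LD3_c1)) :=
  Lgr Lrot183 (Lpr_ct (K3.f89720 IH) (Lpr_bt (K3.f89686 IH) (Lpe (K2.f91295 IH) (Lpr_dt (K0.f14579 IH) (Lpe (K0.f14550 IH) (Lpr_bt (K0.f14402 IH) (Lpr_gt (K8.f14583 IH) (Lpe (K8.f139749 IH) (Lpr_ct (f540235 IH) (Lpr_bt (f406391 IH) (Lpe (K35.f302480 IH) (Lpr_dt (K18.f68653 IH) (Lpr_ct (K18.f68651 IH) (Lpr_bt (K12.f68663 IH) (Lpr_gt (K12.f205179 IH) (Lpr_dt (K1.f36419 IH) (Lpr_ct (K13.f36430 IH) (Lpr_bt (f36441 IH) (Lpr_gt (f36442 IH) (Lpn (LP (LK LD1_c4 LD2_c24 LD3_c1))))))))))))))))))))))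
theorem f116581 : Led Lsl_dt (LP (LK LD1_c6 LD2_c51 LD3_c52)) = (LP (LK LD1_c6 LD2_c55 LD3_c60)) :=
  Lgr Lrot6 (Lpr_gt (K7.f95399 IH) (Lpr_ct (K24.f116555 IH) (Lpr_gt (K24.f116577 IH) (Lpe (K4.f92430 IH) (Lpe (K4.f92449 IH) (Lpe (K28.f89127 IH) (Lpe (K28.f93523 IH) (Lpe (K4.f89715 IH) (Lpe (K28.f90175 IH) (Lpn (LP (LK LD1_c6 LD2_c55 LD3_c60))))))))))))
theorem f116626 : Led Lsl_gf (LP (LK LD1_c6 LD2_c51 LD3_c52)) = (LP (LK LD1_c7 LD2_c1 LD3_c50)) :=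
  Lgr Lrot129 (Lpr_cf (K7.f116622 IH) (Lpr_bt (K7.f5633 IH) (Lpe (K3.f5629 IH) (Lpe (K0.f5045 IH) (Lpr_ct (K2.f394 IH) (Lpr_gt (K2.f92342 IH) (Lpe (K3.f10780 IH) (Lpr_bt (K3.f10784 IH) (Lpr_gt (K3.f10785 IH) (Lpr_ct (K4.f109600 IH) (Lpn (LP (LK LD1_c7 LD2_c1 LD3_c50)))))))))))))
theorem f540249 : Led Lsl_dt (LP (LK LD1_c3 LD2_c36 LD3_c4)) = (LP (LK LD1_c2 LD2_c9 LD3_c26)) :=
  Lgr Lrot57 (Lpr_gf (K7.f136752 IH) (Lpr_cf (K7.f109565 IH) (Lpe (f116626 IH) (Lpr_dt (f116581 IH) (Lpr_gt (K28.f90175 IH) (Lpr_dt (K8.f96941 IH) (Lpe (K3.f89720 IH) (Lpr_df (f540241 IH) (Lpe (f36442 IH) (Lpn (LP (LK LD1_c2 LD2_c9 LD3_c26))))))))))))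
def v2338 : LQ := Led Lsl_at (LP (LK LD1_c1 LD2_c42 LD3_c51))
theorem f514717 : Led Lsl_at (LP (LK LD1_c1 LD2_c42 LD3_c51)) = v2338 :=
  Lrfl
theorem f108301 : Led Lsl_at (LP (LK LD1_c0 LD2_c49 LD3_c9)) = (LP (LK LD1_c0 LD2_c48 LD3_c1)) :=
  Lgr Lrot100 (Lpr_af (K3.f108299 IH) (Lpn (LP (LK LD1_c0 LD2_c48 LD3_c1))))
theorem f17908 : Led Lsl_at (LP (LK LD1_c3 LD2_c36 LD3_c4)) = (LP (LK LD1_c1 LD2_c44 LD3_c55)) :=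
  Lre_a IH (LK LD1_c3 LD2_c36 LD3_c4) (LK LD1_c1 LD2_c44 LD3_c55) Lrfl Lrfl
theorem f514719 : Led Lsl_bf (LP (LK LD1_c3 LD2_c36 LD3_c4)) = v2338 :=
  Lgr Lrot81 (Lpr_at (f17908 IH) (Lpr_bt (K2.f17905 IH) (Lpr_at (f108301 IH) (Lpr_bt (K24.f94425 IH) (Lpr_at (f514717 IH) (Lpn v2338))))))
theorem f36573 : Led Lsl_bt (LP (LK LD1_c2 LD2_c9 LD3_c26)) = (LP (LK LD1_c1 LD2_c1 LD3_c52)) :=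
  Lre_b IH (LK LD1_c2 LD2_c9 LD3_c26) (LK LD1_c1 LD2_c1 LD3_c52) Lrfl Lrfl
theorem f36431 : Led Lsl_dt (LP (LK LD1_c1 LD2_c1 LD3_c52)) = (LP (LK LD1_c2 LD2_c9 LD3_c30)) :=
  Lre_d IH (LK LD1_c1 LD2_c1 LD3_c52) (LK LD1_c2 LD2_c9 LD3_c30) Lrfl Lrfl
theorem f540265 : v2338 = (LP (LK LD1_c2 LD2_c9 LD3_c30)) :=
  (Llr Lrot93 (Lpe (f514719 IH) (Lpr_dt (f540249 IH) (Lpr_bt (f36573 IH) (Lpr_dt (f36431 IH) (Lpn (LP (LK LD1_c2 LD2_c9 LD3_c30)))))))).symm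
theorem f108273 : Led Lsl_at (LP (LK LD1_c3 LD2_c35 LD3_c43)) = (LP (LK LD1_c1 LD2_c44 LD3_c43)) :=
  Lre_a IH (LK LD1_c3 LD2_c35 LD3_c43) (LK LD1_c1 LD2_c44 LD3_c43) Lrfl Lrfl
theorem f514721 : Led Lsl_ff (LP (LK LD1_c3 LD2_c35 LD3_c43)) = v2338 :=
  Lgr Lrot30 (Lpr_at (f108273 IH) (Lpr_ft (K24.f108269 IH) (Lpr_at (f514717 IH) (Lpn v2338))))
theorem f514726 : Led Lsl_ft (LP (LK LD1_c3 LD2_c35 LD3_c43)) = v2338 :=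
  Lgr Lrot48 (Lpr_ff (f514721 IH) (Lpn v2338))
theorem f108287 : Led Lsl_et (LP (LK LD1_c7 LD2_c12 LD3_c2)) = (LP (LK LD1_c3 LD2_c35 LD3_c43)) :=
  Lre_e IH (LK LD1_c7 LD2_c12 LD3_c2) (LK LD1_c3 LD2_c35 LD3_c43) Lrfl Lrfl
theorem f540276 : Led Lsl_et (LP (LK LD1_c2 LD2_c9 LD3_c30)) = (LP (LK LD1_c4 LD2_c24 LD3_c6)) :=
  Lre_e IH (LK LD1_c2 LD2_c9 LD3_c30) (LK LD1_c4 LD2_c24 LD3_c6) Lrfl Lrfl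
theorem f101875 : Led Lsl_ft (LP (LK LD1_c4 LD2_c24 LD3_c6)) = (LP (LK LD1_c8 LD2_c46 LD3_c0)) :=
  Lre_f IH (LK LD1_c4 LD2_c24 LD3_c6) (LK LD1_c8 LD2_c46 LD3_c0) Lrfl Lrfl
theorem f540280 : Led Lsl_ef (LP (LK LD1_c13 LD2_c38 LD3_c14)) = (LP (LK LD1_c8 LD2_c46 LD3_c0)) :=
  Lgr Lrot21 (Lpr_ft (K35.f116246 IH) (Lpr_et (f108287 IH) (Lpr_ft (f514726 IH) (Lpqs (f540265 IH) (Lpr_et (f540276 IH) (Lpr_ft (f101875 IH) (Lpn (LP (LK LD1_c8 LD2_c46 LD3_c0)))))))))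
theorem f540290 : Led Lsl_et (LP (LK LD1_c13 LD2_c38 LD3_c14)) = (LP (LK LD1_c8 LD2_c46 LD3_c0)) :=
  Lgr Lrot87 (Lpr_ef (f540280 IH) (Lpn (LP (LK LD1_c8 LD2_c46 LD3_c0))))
theorem f99297 : Led Lsl_dt (LP (LK LD1_c8 LD2_c46 LD3_c0)) = (LP (LK LD1_c4 LD2_c24 LD3_c7)) :=
  Lre_d IH (LK LD1_c8 LD2_c46 LD3_c0) (LK LD1_c4 LD2_c24 LD3_c7) Lrfl Lrfl
theorem f205470 : Led Lsl_dt (LP (LK LD1_c3 LD2_c10 LD3_c3)) = (LP (LK LD1_c6 LD2_c24 LD3_c55)) :=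
  Lre_d IH (LK LD1_c3 LD2_c10 LD3_c3) (LK LD1_c6 LD2_c24 LD3_c55) Lrfl Lrfl
theorem f205471 : Led Lsl_et (LP (LK LD1_c6 LD2_c24 LD3_c55)) = (LP (LK LD1_c12 LD2_c22 LD3_c51)) :=
  Lre_e IH (LK LD1_c6 LD2_c24 LD3_c55) (LK LD1_c12 LD2_c22 LD3_c51) Lrfl Lrfl
theorem f540298 : Led Lsl_df (LP (LK LD1_c13 LD2_c38 LD3_c14)) = (LP (LK LD1_c12 LD2_c22 LD3_c51)) :=
  Lgr Lrot70 (Lpr_et (f540290 IH) (Lpr_dt (f99297 IH) (Lpr_et (K11.f205463 IH) (Lpr_dt (f205470 IH) (Lpr_et (f205471 IH) (Lpn (LP (LK LD1_c12 LD2_c22 LD3_c51))))))))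
theorem f540302 : Led Lsl_ft (LP (LK LD1_c6 LD2_c25 LD3_c0)) = (LP (LK LD1_c12 LD2_c22 LD3_c51)) :=
  Lre_f IH (LK LD1_c6 LD2_c25 LD3_c0) (LK LD1_c12 LD2_c22 LD3_c51) Lrfl Lrfl
theorem f540303 : Led Lsl_dt (LP (LK LD1_c7 LD2_c12 LD3_c2)) = (LP (LK LD1_c6 LD2_c25 LD3_c0)) :=
  Lgr Lrot60 (Lpe (K35.f116246 IH) (Lpr_df (f540298 IH) (Lpe (f540302 IH) (Lpn (LP (LK LD1_c6 LD2_c25 LD3_c0))))))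
theorem f540308 : Led Lsl_df (LP (LK LD1_c7 LD2_c12 LD3_c2)) = (LP (LK LD1_c6 LD2_c25 LD3_c0)) :=
  Lgr Lrot38 (Lpr_dt (f540303 IH) (Lpn (LP (LK LD1_c6 LD2_c25 LD3_c0))))
theorem f205628 : Led Lsl_et (LP (LK LD1_c3 LD2_c10 LD3_c7)) = (LP (LK LD1_c6 LD2_c25 LD3_c0)) :=
  Lre_e IH (LK LD1_c3 LD2_c10 LD3_c7) (LK LD1_c6 LD2_c25 LD3_c0) Lrfl Lrfl
theorem f205442 : Led Lsl_et (LP (LK LD1_c2 LD2_c9 LD3_c31)) = (LP (LK LD1_c1 LD2_c31 LD3_c12)) :=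
  Lgr Lrot69 (Lpe (K31.f205436 IH) (Lpe (K31.f35827 IH) (Lpr_ff (K11.f205439 IH) (Lpe (K35.f59726 IH) (Lpe (K13.f205441 IH) (Lpn (LP (LK LD1_c1 LD2_c31 LD3_c12))))))))
theorem f540313 : Led Lsl_dt (LP (LK LD1_c3 LD2_c35 LD3_c43)) = (LP (LK LD1_c2 LD2_c9 LD3_c31)) :=
  Lgr Lrot77 (Lpe (f108287 IH) (Lpr_df (f540308 IH) (Lpe (f205628 IH) (Lpe (K11.f36468 IH) (Lpe (f205442 IH) (Lpn (LP (LK LD1_c2 LD2_c9 LD3_c31))))))))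
theorem f514960 : Led Lsl_df (LP (LK LD1_c1 LD2_c46 LD3_c40)) = v2358 :=
  Lgr Lrot12 (Lpr_bt (K8.f5395 IH) (Lpr_dt (K3.f92482 IH) (Lpr_bt (f514958 IH) (Lpn v2358))))
theorem f146353 : Led Lsl_ct (LP (LK LD1_c1 LD2_c21 LD3_c27)) = (LP (LK LD1_c0 LD2_c37 LD3_c35)) :=
  Lre_c IH (LK LD1_c1 LD2_c21 LD3_c27) (LK LD1_c0 LD2_c37 LD3_c35) Lrfl Lrfl
theorem f210720 : Led Lsl_et (LP (LK LD1_c2 LD2_c45 LD3_c14)) = (LP (LK LD1_c1 LD2_c21 LD3_c27)) :=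
  Lre_e IH (LK LD1_c2 LD2_c45 LD3_c14) (LK LD1_c1 LD2_c21 LD3_c27) Lrfl Lrfl
theorem f210734 : Led Lsl_gf (LP (LK LD1_c1 LD2_c21 LD3_c27)) = (LP (LK LD1_c1 LD2_c27 LD3_c53)) :=
  Lgr Lrot141 (Lpe (f210720 IH) (Lpr_dt (K12.f24567 IH) (Lpr_gt (K12.f210715 IH) (Lpe (K10.f27262 IH) (Lpr_et (K2.f35558 IH) (Lpr_gt (K1.f37756 IH) (Lpr_dt (K1.f37040 IH) (Lpr_gt (K11.f202013 IH) (Lpe (f38127 IH) (Lpr_et (f80903 IH) (Lpn (LP (LK LD1_c1 LD2_c27 LD3_c53)))))))))))))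
theorem f540329 : v2358 = (LP (LK LD1_c1 LD2_c27 LD3_c53)) :=
  (Llr Lrot155 (Lpe (f514960 IH) (Lpr_gt (K8.f94456 IH) (Lpe (K8.f147315 IH) (Lpr_gt (K8.f147312 IH) (Lpe (K4.f116236 IH) (Lpr_dt (f540313 IH) (Lpe (K11.f36477 IH) (Lpe (K14.f210302 IH) (Lpe (f146353 IH) (Lpr_gf (f210734 IH) (Lpn (LP (LK LD1_c1 LD2_c27 LD3_c53)))))))))))))).symm
theorem f540389 : (LP (LK LD1_c1 LD2_c43 LD3_c35)) = v1807 :=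
  Lefun (Lecon (Lfl_bf (f514959 IH)) (f540329 IH)) (f503025 IH)
theorem f540397 : (LP (LK LD1_c1 LD2_c27 LD3_c51)) = v2359 :=
  Lefun (Lecon (Lfl_ef (f503024 IH)) (f540389 IH).symm) (f514963 IH)
theorem f540405 : v2340 = (LP (LK LD1_c1 LD2_c55 LD3_c34)) :=
  Lefun (Lecon (Lfl_cf (f514964 IH)) (f540397 IH).symm) (K11.f202776 IH)
theorem f108498 : Led Lsl_et (LP (LK LD1_c3 LD2_c36 LD3_c7)) = (LP (LK LD1_c1 LD2_c44 LD3_c56)) :=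
  Lre_e IH (LK LD1_c3 LD2_c36 LD3_c7) (LK LD1_c1 LD2_c44 LD3_c56) Lrfl Lrfl
theorem f514733 : Led Lsl_af (LP (LK LD1_c3 LD2_c36 LD3_c7)) = v2340 :=
  Lgr Lrot50 (Lpr_et (f108498 IH) (Lpr_at (K3.f108305 IH) (Lpr_et (f514732 IH) (Lpn v2340))))
theorem f540414 : Led Lsl_gt (LP (LK LD1_c2 LD2_c9 LD3_c34)) = (LP (LK LD1_c3 LD2_c36 LD3_c7)) :=
  Lgr Lrot46 (Lpe (K4.f59627 IH) (Lpr_ft (f202780 IH) (Lpq (f540405 IH) (Lpe (f514733 IH) (Lpn (LP (LK LD1_c3 LD2_c36 LD3_c7)))))))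
theorem f80662 : Led Lsl_dt (LP (LK LD1_c2 LD2_c9 LD3_c38)) = (LP (LK LD1_c4 LD2_c24 LD3_c23)) :=
  Lre_d IH (LK LD1_c2 LD2_c9 LD3_c38) (LK LD1_c4 LD2_c24 LD3_c23) Lrfl Lrfl
theorem f538504 : Led Lsl_gt (LP (LK LD1_c4 LD2_c24 LD3_c23)) = (LP (LK LD1_c8 LD2_c46 LD3_c25)) :=
  Lre_g IH (LK LD1_c4 LD2_c24 LD3_c23) (LK LD1_c8 LD2_c46 LD3_c25) Lrfl Lrfl
def v2436 : LQ := Led Lsl_et (LP (LK LD1_c1 LD2_c45 LD3_c24))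
theorem f519736 : Led Lsl_et (LP (LK LD1_c1 LD2_c45 LD3_c24)) = v2436 :=
  Lrfl
theorem f519739 : Led Lsl_ef (LP (LK LD1_c1 LD2_c45 LD3_c24)) = v2436 :=
  Lgr Lrot88 (Lpr_et (f519736 IH) (Lpn v2436))
theorem f98474 : Led Lsl_ct (LP (LK LD1_c1 LD2_c45 LD3_c24)) = (LP (LK LD1_c1 LD2_c44 LD3_c56)) :=
  Lgr Lrot7 (Lpe (K29.f97279 IH) (Lpe (K1.f5812 IH) (Lpe (K3.f380 IH) (Lpr_gf (K3.f97314 IH) (Lpr_cf (K3.f98469 IH) (Lpe (K5.f96968 IH) (Lpr_dt (K3.f62822 IH) (Lpe (K2.f94478 IH) (Lpr_dt (K3.f94481 IH) (Lpn (LP (LK LD1_c1 LD2_c44 LD3_c56))))))))))))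
theorem f94494 : Led Lsl_et (LP (LK LD1_c1 LD2_c44 LD3_c56)) = (LP (LK LD1_c3 LD2_c36 LD3_c7)) :=
  Lre_e IH (LK LD1_c1 LD2_c44 LD3_c56) (LK LD1_c3 LD2_c36 LD3_c7) Lrfl Lrfl
theorem f519741 : Led Lsl_ct (LP (LK LD1_c3 LD2_c36 LD3_c7)) = v2436 :=
  Lgr Lrot15 (Lpe (f94494 IH) (Lpe (f98474 IH) (Lpr_ef (f519739 IH) (Lpn v2436))))
theorem f108493 : Led Lsl_af (LP (LK LD1_c1 LD2_c44 LD3_c56)) = (LP (LK LD1_c1 LD2_c42 LD3_c52)) :=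
  Lgr Lrot0 (Lpr_at (K3.f108305 IH) (Lpn (LP (LK LD1_c1 LD2_c42 LD3_c52))))
theorem f108531 : Led Lsl_at (LP (LK LD1_c1 LD2_c45 LD3_c24)) = (LP (LK LD1_c1 LD2_c43 LD3_c35)) :=
  Lgr Lrot107 (Lpr_cf (K3.f108528 IH) (Lpr_af (f108493 IH) (Lpe (K3.f98051 IH) (Lpn (LP (LK LD1_c1 LD2_c43 LD3_c35))))))
theorem f519740 : Led Lsl_at v2359 = v2436 :=
  Lgr Lrot80 (Lpe (f514963 IH) (Lpe (f108531 IH) (Lpr_ef (f519739 IH) (Lpn v2436))))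
theorem f540400 : v2436 = (LP (LK LD1_c3 LD2_c3 LD3_c44)) :=
  Lefun (Lecon (f519740 IH) (f540397 IH).symm) (K11.f80717 IH)
theorem f38184 : Led Lsl_gt (LP (LK LD1_c8 LD2_c50 LD3_c27)) = (LP (LK LD1_c12 LD2_c6 LD3_c16)) :=
  Lgr Lrot46 (Lpe (f38183 IH) (Lpr_ft (K6.f38164 IH) (Lpr_at (K6.f38175 IH) (Lpn (LP (LK LD1_c12 LD2_c6 LD3_c16))))))
theorem f540422 : Led Lsl_ct (LP (LK LD1_c8 LD2_c46 LD3_c25)) = (LP (LK LD1_c8 LD2_c50 LD3_c27)) :=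
  Lgr Lrot152 (Lpe (f538504 IH) (Lpe (f80662 IH) (Lpe (K35.f538496 IH) (Lpr_ct (K5.f80688 IH) (Lpr_gt (f540414 IH) (Lpr_ct (f519741 IH) (Lpqs (f540400 IH) (Lpe (f38188 IH) (Lpe (K6.f38156 IH) (Lpe (f38184 IH) (Lpn (LP (LK LD1_c8 LD2_c50 LD3_c27)))))))))))))
theorem f541836 : Led Lsl_bf (LP (LK LD1_c5 LD2_c53 LD3_c41)) = (LP (LK LD1_c8 LD2_c46 LD3_c25)) :=
  Lgr Lrot156 (Lpe (K8.f149242 IH) (Lpe (f425778 IH) (Lpr_ct (f541826 IH) (Lpr_gt (K32.f428070 IH) (Lpe (f541834 IH) (Lpr_bt (f80765 IH) (Lpe (f80763 IH) (Lpr_ct (K6.f38178 IH) (Lpr_gt (f38183 IH) (Lpe (f540422 IH) (Lpn (LP (LK LD1_c8 LD2_c46 LD3_c25)))))))))))))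
theorem f540424 : Led Lsl_bt (LP (LK LD1_c2 LD2_c9 LD3_c24)) = (LP (LK LD1_c3 LD2_c36 LD3_c7)) :=
  Lgr Lrot92 (Lpe (K8.f36518 IH) (Lpe (K32.f161920 IH) (Lpe (K32.f59716 IH) (Lpe (K32.f59717 IH) (Lpr_gt (K32.f205709 IH) (Lpr_ct (K32.f104879 IH) (Lpe (K35.f202562 IH) (Lpe (K5.f60871 IH) (Lpe (K5.f80913 IH) (Lpr_gt (f540414 IH) (Lpn (LP (LK LD1_c3 LD2_c36 LD3_c7)))))))))))))
theorem f540430 : Led Lsl_ef (LP (LK LD1_c2 LD2_c9 LD3_c24)) = (LP (LK LD1_c3 LD2_c36 LD3_c5)) :=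
  Lgr Lrot29 (Lpr_bt (f540424 IH) (Lpr_et (f108498 IH) (Lpr_bt (K8.f108503 IH) (Lpn (LP (LK LD1_c3 LD2_c36 LD3_c5))))))
theorem f34905 : Led Lsl_gt (LP (LK LD1_c2 LD2_c7 LD3_c34)) = (LP (LK LD1_c4 LD2_c20 LD3_c10)) :=
  Lre_g IH (LK LD1_c2 LD2_c7 LD3_c34) (LK LD1_c4 LD2_c20 LD3_c10) Lrfl Lrfl
theorem f441961 : Led Lsl_df (LP (LK LD1_c3 LD2_c35 LD3_c39)) = (LP (LK LD1_c7 LD2_c7 LD3_c6)) :=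
  Lgr Lrot38 (Lpr_dt (K8.f98484 IH) (Lpn (LP (LK LD1_c7 LD2_c7 LD3_c6))))
theorem f540440 : Led Lsl_ef (LP (LK LD1_c4 LD2_c20 LD3_c10)) = (LP (LK LD1_c7 LD2_c7 LD3_c6)) :=
  Lgr Lrot17 (Lpe (f34905 IH) (Lpe (K2.f34782 IH) (Lpr_dt (K2.f34845 IH) (Lpe (K4.f117647 IH) (Lpe (K4.f117603 IH) (Lpe (K11.f205707 IH) (Lpr_ef (f540430 IH) (Lpr_dt (K8.f17909 IH) (Lpr_gf (K3.f109485 IH) (Lpr_df (f441961 IH) (Lpn (LP (LK LD1_c7 LD2_c7 LD3_c6)))))))))))))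
theorem f540444 : Led Lsl_et (LP (LK LD1_c4 LD2_c20 LD3_c10)) = (LP (LK LD1_c7 LD2_c7 LD3_c6)) :=
  Lgr Lrot87 (Lpr_ef (f540440 IH) (Lpn (LP (LK LD1_c7 LD2_c7 LD3_c6))))
theorem f97155 : Led Lsl_et (LP (LK LD1_c3 LD2_c33 LD3_c7)) = (LP (LK LD1_c7 LD2_c7 LD3_c7)) :=
  Lre_e IH (LK LD1_c3 LD2_c33 LD3_c7) (LK LD1_c7 LD2_c7 LD3_c7) Lrfl Lrfl
theorem f540484 : Led Lsl_bf (LP (LK LD1_c4 LD2_c20 LD3_c10)) = (LP (LK LD1_c7 LD2_c7 LD3_c7)) :=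
  Lgr Lrot96 (Lpr_et (f540444 IH) (Lpr_bt (K8.f96974 IH) (Lpr_et (f97155 IH) (Lpn (LP (LK LD1_c7 LD2_c7 LD3_c7))))))
theorem f31750 : Led Lsl_bt (LP (LK LD1_c1 LD2_c0 LD3_c52)) = (LP (LK LD1_c2 LD2_c7 LD3_c34)) :=
  Lre_b IH (LK LD1_c1 LD2_c0 LD3_c52) (LK LD1_c2 LD2_c7 LD3_c34) Lrfl Lrfl
theorem f193358 : Led Lsl_bt (LP (LK LD1_c5 LD2_c13 LD3_c37)) = (LP (LK LD1_c2 LD2_c33 LD3_c42)) :=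
  Lre_b IH (LK LD1_c5 LD2_c13 LD3_c37) (LK LD1_c2 LD2_c33 LD3_c42) Lrfl Lrfl
theorem f38402 : Led Lsl_bt (LP (LK LD1_c2 LD2_c10 LD3_c9)) = (LP (LK LD1_c4 LD2_c25 LD3_c29)) :=
  Lre_b IH (LK LD1_c2 LD2_c10 LD3_c9) (LK LD1_c4 LD2_c25 LD3_c29) Lrfl Lrfl
theorem f201561 : Led Lsl_et (LP (LK LD1_c4 LD2_c25 LD3_c29)) = (LP (LK LD1_c5 LD2_c13 LD3_c37)) :=
  Lgr Lrot74 (Lpe (f38402 IH) (Lpr_ef (K11.f201559 IH) (Lpe (f193358 IH) (Lpn (LP (LK LD1_c5 LD2_c13 LD3_c37))))))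
theorem f28633 : Led Lsl_bt (LP (LK LD1_c2 LD2_c7 LD3_c50)) = (LP (LK LD1_c4 LD2_c20 LD3_c40)) :=
  Lre_b IH (LK LD1_c2 LD2_c7 LD3_c50) (LK LD1_c4 LD2_c20 LD3_c40) Lrfl Lrfl
theorem f35638 : Led Lsl_bt (LP (LK LD1_c4 LD2_c24 LD3_c53)) = (LP (LK LD1_c2 LD2_c9 LD3_c58)) :=
  Lre_b IH (LK LD1_c4 LD2_c24 LD3_c53) (LK LD1_c2 LD2_c9 LD3_c58) Lrfl Lrfl
theorem f35794 : Led Lsl_et (LP (LK LD1_c4 LD2_c20 LD3_c40)) = (LP (LK LD1_c4 LD2_c24 LD3_c53)) :=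
  Lgr Lrot74 (Lpe (f28633 IH) (Lpr_ef (K1.f35792 IH) (Lpe (f35638 IH) (Lpn (LP (LK LD1_c4 LD2_c24 LD3_c53))))))
theorem f201563 : Led Lsl_cf (LP (LK LD1_c4 LD2_c20 LD3_c40)) = (LP (LK LD1_c5 LD2_c13 LD3_c37)) :=
  Lgr Lrot39 (Lpr_et (f35794 IH) (Lpe (K1.f38459 IH) (Lpr_et (f201561 IH) (Lpn (LP (LK LD1_c5 LD2_c13 LD3_c37))))))
theorem f94433 : Led Lsl_et (LP (LK LD1_c7 LD2_c5 LD3_c34)) = (LP (LK LD1_c3 LD2_c32 LD3_c15)) :=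
  Lre_e IH (LK LD1_c7 LD2_c5 LD3_c34) (LK LD1_c3 LD2_c32 LD3_c15) Lrfl Lrfl
theorem f97156 : Led Lsl_ct (LP (LK LD1_c7 LD2_c7 LD3_c7)) = (LP (LK LD1_c7 LD2_c5 LD3_c34)) :=
  Lgr Lrot15 (Lpe (f97155 IH) (Lpr_cf (K3.f97149 IH) (Lpe (f94433 IH) (Lpn (LP (LK LD1_c7 LD2_c5 LD3_c34))))))
theorem f540491 : Led Lsl_gf (LP (LK LD1_c4 LD2_c20 LD3_c40)) = (LP (LK LD1_c7 LD2_c5 LD3_c34)) :=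
  Lgr Lrot126 (Lpr_cf (f201563 IH) (Lpr_bt (f193358 IH) (Lpr_gt (K11.f171694 IH) (Lpr_ct (K11.f187927 IH) (Lpr_gt (K10.f193353 IH) (Lpe (K0.f31755 IH) (Lpr_bt (f31750 IH) (Lpr_gt (f34905 IH) (Lpr_bf (f540484 IH) (Lpr_ct (f97156 IH) (Lpn (LP (LK LD1_c7 LD2_c5 LD3_c34)))))))))))))
theorem f28637 : Led Lsl_bt (LP (LK LD1_c4 LD2_c20 LD3_c40)) = (LP (LK LD1_c2 LD2_c7 LD3_c50)) :=
  Lre_b IH (LK LD1_c4 LD2_c20 LD3_c40) (LK LD1_c2 LD2_c7 LD3_c50) Lrfl Lrfl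
theorem f35803 : Led Lsl_ef (LP (LK LD1_c4 LD2_c20 LD3_c40)) = (LP (LK LD1_c4 LD2_c24 LD3_c53)) :=
  Lgr Lrot29 (Lpr_bt (f28637 IH) (Lpr_et (K1.f35801 IH) (Lpr_bt (K1.f35490 IH) (Lpn (LP (LK LD1_c4 LD2_c24 LD3_c53))))))
theorem f36188 : Led Lsl_dt (LP (LK LD1_c4 LD2_c24 LD3_c53)) = (LP (LK LD1_c8 LD2_c47 LD3_c15)) :=
  Lre_d IH (LK LD1_c4 LD2_c24 LD3_c53) (LK LD1_c8 LD2_c47 LD3_c15) Lrfl Lrfl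
theorem f94442 : Led Lsl_et (LP (LK LD1_c3 LD2_c32 LD3_c15)) = (LP (LK LD1_c7 LD2_c5 LD3_c34)) :=
  Lre_e IH (LK LD1_c3 LD2_c32 LD3_c15) (LK LD1_c7 LD2_c5 LD3_c34) Lrfl Lrfl
theorem f11641 : Led Lsl_dt (LP (LK LD1_c3 LD2_c49 LD3_c9)) = (LP (LK LD1_c7 LD2_c39 LD3_c18)) :=
  Lre_d IH (LK LD1_c3 LD2_c49 LD3_c9) (LK LD1_c7 LD2_c39 LD3_c18) Lrfl Lrfl
theorem f540495 : Led Lsl_gt (LP (LK LD1_c8 LD2_c47 LD3_c15)) = (LP (LK LD1_c7 LD2_c39 LD3_c18)) :=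
  Lgr Lrot112 (Lpe (f36188 IH) (Lpe (f35803 IH) (Lpr_gf (f540491 IH) (Lpe (f94442 IH) (Lpr_dt (K3.f94422 IH) (Lpr_gf (K4.f94431 IH) (Lpe (K3.f10779 IH) (Lpe (K3.f11534 IH) (Lpe (K34.f11640 IH) (Lpr_dt (f11641 IH) (Lpn (LP (LK LD1_c7 LD2_c39 LD3_c18)))))))))))))
theorem f38468 : Led Lsl_ft (LP (LK LD1_c8 LD2_c47 LD3_c15)) = (LP (LK LD1_c4 LD2_c24 LD3_c52)) :=
  Lre_f IH (LK LD1_c8 LD2_c47 LD3_c15) (LK LD1_c4 LD2_c24 LD3_c52) Lrfl Lrfl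
theorem f37561 : Led Lsl_at (LP (LK LD1_c4 LD2_c24 LD3_c52)) = (LP (LK LD1_c8 LD2_c46 LD3_c60)) :=
  Lre_a IH (LK LD1_c4 LD2_c24 LD3_c52) (LK LD1_c8 LD2_c46 LD3_c60) Lrfl Lrfl
theorem f540497 : Led Lsl_gf (LP (LK LD1_c8 LD2_c46 LD3_c60)) = (LP (LK LD1_c7 LD2_c39 LD3_c18)) :=
  Lgr Lrot76 (Lpe (f37561 IH) (Lpe (f38468 IH) (Lpr_gt (f540495 IH) (Lpn (LP (LK LD1_c7 LD2_c39 LD3_c18))))))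
theorem f442505 : Led Lsl_et (LP (LK LD1_c16 LD2_c25 LD3_c60)) = (LP (LK LD1_c8 LD2_c46 LD3_c60)) :=
  Lre_e IH (LK LD1_c16 LD2_c25 LD3_c60) (LK LD1_c8 LD2_c46 LD3_c60) Lrfl Lrfl
theorem f112918 : Led Lsl_dt (LP (LK LD1_c16 LD2_c25 LD3_c60)) = (LP (LK LD1_c8 LD2_c46 LD3_c58)) :=
  Lre_d IH (LK LD1_c16 LD2_c25 LD3_c60) (LK LD1_c8 LD2_c46 LD3_c58) Lrfl Lrfl
theorem f98001 : Led Lsl_et (LP (LK LD1_c3 LD2_c49 LD3_c10)) = (LP (LK LD1_c7 LD2_c39 LD3_c18)) :=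
  Lre_e IH (LK LD1_c3 LD2_c49 LD3_c10) (LK LD1_c7 LD2_c39 LD3_c18) Lrfl Lrfl
theorem f97408 : Led Lsl_et (LP (LK LD1_c7 LD2_c5 LD3_c47)) = (LP (LK LD1_c3 LD2_c32 LD3_c22)) :=
  Lre_e IH (LK LD1_c7 LD2_c5 LD3_c47) (LK LD1_c3 LD2_c32 LD3_c22) Lrfl Lrfl
theorem f97409 : Led Lsl_dt (LP (LK LD1_c7 LD2_c5 LD3_c47)) = (LP (LK LD1_c13 LD2_c26 LD3_c58)) :=
  Lre_d IH (LK LD1_c7 LD2_c5 LD3_c47) (LK LD1_c13 LD2_c26 LD3_c58) Lrfl Lrfl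
theorem f478244 : Led Lsl_dt (LP (LK LD1_c3 LD2_c36 LD3_c25)) = (LP (LK LD1_c7 LD2_c13 LD3_c12)) :=
  Lre_d IH (LK LD1_c3 LD2_c36 LD3_c25) (LK LD1_c7 LD2_c13 LD3_c12) Lrfl Lrfl
theorem f479582 : Led Lsl_gt (LP (LK LD1_c13 LD2_c26 LD3_c58)) = (LP (LK LD1_c7 LD2_c13 LD3_c12)) :=
  Lgr Lrot112 (Lpe (f97409 IH) (Lpr_et (f97408 IH) (Lpe (K28.f108321 IH) (Lpr_ef (K3.f108649 IH) (Lpr_dt (K28.f108645 IH) (Lpe (K29.f441562 IH) (Lpe (K29.f462010 IH) (Lpr_gf (K29.f462006 IH) (Lpr_ef (K29.f479573 IH) (Lpr_dt (f478244 IH) (Lpn (LP (LK LD1_c7 LD2_c13 LD3_c12)))))))))))))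
theorem f479586 : Led Lsl_et (LP (LK LD1_c22 LD2_c46 LD3_c29)) = (LP (LK LD1_c13 LD2_c26 LD3_c58)) :=
  Lre_e IH (LK LD1_c22 LD2_c46 LD3_c29) (LK LD1_c13 LD2_c26 LD3_c58) Lrfl Lrfl
theorem f479587 : Led Lsl_dt (LP (LK LD1_c22 LD2_c46 LD3_c29)) = (LP (LK LD1_c13 LD2_c26 LD3_c57)) :=
  Lre_d IH (LK LD1_c22 LD2_c46 LD3_c29) (LK LD1_c13 LD2_c26 LD3_c57) Lrfl Lrfl
theorem f540575 : Led Lsl_gt (LP (LK LD1_c8 LD2_c46 LD3_c58)) = (LP (LK LD1_c13 LD2_c26 LD3_c57)) :=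
  Lgr Lrot112 (Lpe (f112918 IH) (Lpr_et (f442505 IH) (Lpr_gf (f540497 IH) (Lpe (f98001 IH) (Lpr_dt (K29.f97998 IH) (Lpr_gf (K29.f478242 IH) (Lpe (K33.f478252 IH) (Lpe (f479582 IH) (Lpe (f479586 IH) (Lpr_dt (f479587 IH) (Lpn (LP (LK LD1_c13 LD2_c26 LD3_c57)))))))))))))
theorem f36022 : Led Lsl_et (LP (LK LD1_c4 LD2_c24 LD3_c44)) = (LP (LK LD1_c8 LD2_c46 LD3_c58)) :=
  Lre_e IH (LK LD1_c4 LD2_c24 LD3_c44) (LK LD1_c8 LD2_c46 LD3_c58) Lrfl Lrfl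
theorem f36014 : Led Lsl_at (LP (LK LD1_c1 LD2_c2 LD3_c0)) = (LP (LK LD1_c2 LD2_c9 LD3_c51)) :=
  Lre_a IH (LK LD1_c1 LD2_c2 LD3_c0) (LK LD1_c2 LD2_c9 LD3_c51) Lrfl Lrfl
theorem f36048 : Led Lsl_gt (LP (LK LD1_c3 LD2_c57 LD3_c41)) = (LP (LK LD1_c2 LD2_c9 LD3_c51)) :=
  Lgr Lrot46 (Lpe (K7.f36047 IH) (Lpr_ft (K1.f35814 IH) (Lpr_at (f36014 IH) (Lpn (LP (LK LD1_c2 LD2_c9 LD3_c51))))))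
theorem f108405 : Led Lsl_et (LP (LK LD1_c7 LD2_c5 LD3_c46)) = (LP (LK LD1_c13 LD2_c26 LD3_c57)) :=
  Lre_e IH (LK LD1_c7 LD2_c5 LD3_c46) (LK LD1_c13 LD2_c26 LD3_c57) Lrfl Lrfl
theorem f540579 : Led Lsl_ef (LP (LK LD1_c3 LD2_c57 LD3_c39)) = (LP (LK LD1_c3 LD2_c32 LD3_c23)) :=
  Lgr Lrot167 (Lpr_gt (K7.f59249 IH) (Lpe (K7.f150039 IH) (Lpr_gt (f36048 IH) (Lpe (K2.f35963 IH) (Lpr_et (f36022 IH) (Lpr_gt (f540575 IH) (Lpe (f108405 IH) (Lpr_dt (K33.f108404 IH) (Lpr_gt (K28.f97407 IH) (Lpe (K33.f98565 IH) (Lpn (LP (LK LD1_c3 LD2_c32 LD3_c23)))))))))))))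
theorem f202766 : Led Lsl_dt (LP (LK LD1_c9 LD2_c29 LD3_c61)) = (LP (LK LD1_c8 LD2_c46 LD3_c11)) :=
  Lgr Lrot44 (Lpr_af (K11.f202762 IH) (Lpr_df (K11.f75572 IH) (Lpe (K11.f75618 IH) (Lpn (LP (LK LD1_c8 LD2_c46 LD3_c11))))))
theorem f202782 : Led Lsl_at (LP (LK LD1_c2 LD2_c9 LD3_c37)) = (LP (LK LD1_c4 LD2_c24 LD3_c17)) :=
  Lre_a IH (LK LD1_c2 LD2_c9 LD3_c37) (LK LD1_c4 LD2_c24 LD3_c17) Lrfl Lrfl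
theorem f202783 : Led Lsl_ff (LP (LK LD1_c2 LD2_c9 LD3_c37)) = (LP (LK LD1_c3 LD2_c57 LD3_c39)) :=
  Lgr Lrot103 (Lpr_at (f202782 IH) (Lpe (K11.f80701 IH) (Lpe (f202766 IH) (Lpe (K7.f78419 IH) (Lpr_df (K11.f202748 IH) (Lpe (K6.f38150 IH) (Lpe (K11.f38218 IH) (Lpr_cf (K11.f202772 IH) (Lpe (K11.f78332 IH) (Lpn (LP (LK LD1_c3 LD2_c57 LD3_c39))))))))))))
theorem f112906 : Led Lsl_et (LP (LK LD1_c2 LD2_c9 LD3_c37)) = (LP (LK LD1_c4 LD2_c24 LD3_c22)) :=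
  Lre_e IH (LK LD1_c2 LD2_c9 LD3_c37) (LK LD1_c4 LD2_c24 LD3_c22) Lrfl Lrfl
theorem f420443 : Led Lsl_ft (LP (LK LD1_c4 LD2_c24 LD3_c22)) = (LP (LK LD1_c8 LD2_c46 LD3_c24)) :=
  Lre_f IH (LK LD1_c4 LD2_c24 LD3_c22) (LK LD1_c8 LD2_c46 LD3_c24) Lrfl Lrfl
theorem f540589 : Led Lsl_et (LP (LK LD1_c8 LD2_c46 LD3_c24)) = (LP (LK LD1_c7 LD2_c5 LD3_c51)) :=
  Lgr Lrot69 (Lpe (f420443 IH) (Lpe (f112906 IH) (Lpr_ff (f202783 IH) (Lpr_ef (f540579 IH) (Lpe (K8.f108381 IH) (Lpn (LP (LK LD1_c7 LD2_c5 LD3_c51))))))))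
theorem f540623 : Led Lsl_ef (LP (LK LD1_c8 LD2_c46 LD3_c24)) = (LP (LK LD1_c7 LD2_c5 LD3_c51)) :=
  Lgr Lrot88 (Lpr_et (f540589 IH) (Lpn (LP (LK LD1_c7 LD2_c5 LD3_c51))))
theorem f108260 : Led Lsl_et (LP (LK LD1_c13 LD2_c38 LD3_c42)) = (LP (LK LD1_c7 LD2_c12 LD3_c20)) :=
  Lre_e IH (LK LD1_c13 LD2_c38 LD3_c42) (LK LD1_c7 LD2_c12 LD3_c20) Lrfl Lrfl
theorem f540631 : Led Lsl_dt (LP (LK LD1_c8 LD2_c46 LD3_c24)) = (LP (LK LD1_c13 LD2_c38 LD3_c42)) :=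
  Lgr Lrot77 (Lpr_ef (f540623 IH) (Lpe (K8.f108252 IH) (Lpe (K3.f108248 IH) (Lpe (K29.f108259 IH) (Lpe (f108260 IH) (Lpn (LP (LK LD1_c13 LD2_c38 LD3_c42))))))))
theorem f75792 : Led Lsl_dt (LP (LK LD1_c8 LD2_c46 LD3_c23)) = (LP (LK LD1_c4 LD2_c24 LD3_c22)) :=
  Lre_d IH (LK LD1_c8 LD2_c46 LD3_c23) (LK LD1_c4 LD2_c24 LD3_c22) Lrfl Lrfl
theorem f540635 : Led Lsl_ff (LP (LK LD1_c8 LD2_c46 LD3_c23)) = (LP (LK LD1_c13 LD2_c38 LD3_c42)) :=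
  Lgr Lrot19 (Lpr_dt (f75792 IH) (Lpr_ft (f420443 IH) (Lpr_dt (f540631 IH) (Lpn (LP (LK LD1_c13 LD2_c38 LD3_c42))))))
theorem f540645 : Led Lsl_ft (LP (LK LD1_c8 LD2_c46 LD3_c23)) = (LP (LK LD1_c13 LD2_c38 LD3_c42)) :=
  Lgr Lrot48 (Lpr_ff (f540635 IH) (Lpn (LP (LK LD1_c13 LD2_c38 LD3_c42))))
theorem f538513 : Led Lsl_et (LP (LK LD1_c4 LD2_c24 LD3_c23)) = (LP (LK LD1_c8 LD2_c46 LD3_c23)) :=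
  Lre_e IH (LK LD1_c4 LD2_c24 LD3_c23) (LK LD1_c8 LD2_c46 LD3_c23) Lrfl Lrfl
theorem f441598 : Led Lsl_et (LP (LK LD1_c3 LD2_c35 LD3_c50)) = (LP (LK LD1_c7 LD2_c12 LD3_c11)) :=
  Lre_e IH (LK LD1_c3 LD2_c35 LD3_c50) (LK LD1_c7 LD2_c12 LD3_c11) Lrfl Lrfl
theorem f540658 : Led Lsl_ff (LP (LK LD1_c4 LD2_c24 LD3_c23)) = (LP (LK LD1_c7 LD2_c12 LD3_c11)) :=
  Lgr Lrot72 (Lpr_et (f538513 IH) (Lpr_ft (f540645 IH) (Lpr_et (f108260 IH) (Lpr_ft (K28.f441606 IH) (Lpr_et (f441598 IH) (Lpn (LP (LK LD1_c7 LD2_c12 LD3_c11))))))))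
theorem f80668 : Led Lsl_dt (LP (LK LD1_c4 LD2_c24 LD3_c23)) = (LP (LK LD1_c2 LD2_c9 LD3_c38)) :=
  Lre_d IH (LK LD1_c4 LD2_c24 LD3_c23) (LK LD1_c2 LD2_c9 LD3_c38) Lrfl Lrfl
theorem f97143 : Led Lsl_dt (LP (LK LD1_c3 LD2_c35 LD3_c47)) = (LP (LK LD1_c7 LD2_c12 LD3_c11)) :=
  Lre_d IH (LK LD1_c3 LD2_c35 LD3_c47) (LK LD1_c7 LD2_c12 LD3_c11) Lrfl Lrfl
theorem f540670 : Led Lsl_ft (LP (LK LD1_c2 LD2_c9 LD3_c38)) = (LP (LK LD1_c3 LD2_c35 LD3_c47)) :=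
  Lgr Lrot54 (Lpe (f80668 IH) (Lpr_ff (f540658 IH) (Lpe (f97143 IH) (Lpn (LP (LK LD1_c3 LD2_c35 LD3_c47))))))
theorem f441581 : Led Lsl_et (LP (LK LD1_c7 LD2_c12 LD3_c19)) = (LP (LK LD1_c13 LD2_c38 LD3_c30)) :=
  Lre_e IH (LK LD1_c7 LD2_c12 LD3_c19) (LK LD1_c13 LD2_c38 LD3_c30) Lrfl Lrfl
theorem f441582 : Led Lsl_et (LP (LK LD1_c13 LD2_c27 LD3_c38)) = (LP (LK LD1_c7 LD2_c6 LD3_c15)) :=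
  Lre_e IH (LK LD1_c13 LD2_c27 LD3_c38) (LK LD1_c7 LD2_c6 LD3_c15) Lrfl Lrfl
theorem f441583 : Led Lsl_at (LP (LK LD1_c13 LD2_c38 LD3_c30)) = (LP (LK LD1_c13 LD2_c27 LD3_c38)) :=
  Lgr Lrot80 (Lpe (f441581 IH) (Lpr_af (K28.f441572 IH) (Lpe (f441582 IH) (Lpn (LP (LK LD1_c13 LD2_c27 LD3_c38))))))
theorem f441587 : Led Lsl_ct (LP (LK LD1_c7 LD2_c12 LD3_c11)) = (LP (LK LD1_c13 LD2_c38 LD3_c30)) :=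
  Lre_c IH (LK LD1_c7 LD2_c12 LD3_c11) (LK LD1_c13 LD2_c38 LD3_c30) Lrfl Lrfl
theorem f98026 : Led Lsl_ct (LP (LK LD1_c13 LD2_c27 LD3_c38)) = (LP (LK LD1_c7 LD2_c6 LD3_c9)) :=
  Lre_c IH (LK LD1_c13 LD2_c27 LD3_c38) (LK LD1_c7 LD2_c6 LD3_c9) Lrfl Lrfl
theorem f441588 : Led Lsl_af (LP (LK LD1_c7 LD2_c12 LD3_c11)) = (LP (LK LD1_c7 LD2_c6 LD3_c9)) :=
  Lgr Lrot68 (Lpr_ct (f441587 IH) (Lpr_at (f441583 IH) (Lpr_ct (f98026 IH) (Lpn (LP (LK LD1_c7 LD2_c6 LD3_c9))))))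
theorem f441590 : Led Lsl_at (LP (LK LD1_c7 LD2_c12 LD3_c11)) = (LP (LK LD1_c7 LD2_c6 LD3_c9)) :=
  Lgr Lrot100 (Lpr_af (f441588 IH) (Lpn (LP (LK LD1_c7 LD2_c6 LD3_c9))))
theorem f98025 : Led Lsl_dt (LP (LK LD1_c7 LD2_c6 LD3_c9)) = (LP (LK LD1_c3 LD2_c32 LD3_c39)) :=
  Lre_d IH (LK LD1_c7 LD2_c6 LD3_c9) (LK LD1_c3 LD2_c32 LD3_c39) Lrfl Lrfl
theorem f441596 : Led Lsl_af (LP (LK LD1_c3 LD2_c35 LD3_c47)) = (LP (LK LD1_c3 LD2_c32 LD3_c39)) :=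
  Lgr Lrot117 (Lpr_dt (f97143 IH) (Lpr_at (f441590 IH) (Lpr_dt (f98025 IH) (Lpn (LP (LK LD1_c3 LD2_c32 LD3_c39))))))
theorem f94443 : Led Lsl_et (LP (LK LD1_c1 LD2_c43 LD3_c0)) = (LP (LK LD1_c3 LD2_c32 LD3_c39)) :=
  Lre_e IH (LK LD1_c1 LD2_c43 LD3_c0) (LK LD1_c3 LD2_c32 LD3_c39) Lrfl Lrfl
theorem f98019 : Led Lsl_et (LP (LK LD1_c3 LD2_c33 LD3_c42)) = (LP (LK LD1_c1 LD2_c43 LD3_c34)) :=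
  Lre_e IH (LK LD1_c3 LD2_c33 LD3_c42) (LK LD1_c1 LD2_c43 LD3_c34) Lrfl Lrfl
theorem f98020 : Led Lsl_ct (LP (LK LD1_c3 LD2_c32 LD3_c39)) = (LP (LK LD1_c3 LD2_c33 LD3_c42)) :=
  Lgr Lrot15 (Lpe (f94443 IH) (Lpr_cf (K3.f98013 IH) (Lpe (f98019 IH) (Lpn (LP (LK LD1_c3 LD2_c33 LD3_c42))))))
theorem f98023 : Led Lsl_cf (LP (LK LD1_c3 LD2_c32 LD3_c39)) = (LP (LK LD1_c3 LD2_c33 LD3_c42)) :=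
  Lgr Lrot11 (Lpr_ct (f98020 IH) (Lpn (LP (LK LD1_c3 LD2_c33 LD3_c42))))
theorem f97124 : Led Lsl_et (LP (LK LD1_c1 LD2_c45 LD3_c25)) = (LP (LK LD1_c3 LD2_c37 LD3_c3)) :=
  Lre_e IH (LK LD1_c1 LD2_c45 LD3_c25) (LK LD1_c3 LD2_c37 LD3_c3) Lrfl Lrfl
theorem f97203 : Led Lsl_dt (LP (LK LD1_c3 LD2_c37 LD3_c3)) = (LP (LK LD1_c7 LD2_c14 LD3_c28)) :=
  Lre_d IH (LK LD1_c3 LD2_c37 LD3_c3) (LK LD1_c7 LD2_c14 LD3_c28) Lrfl Lrfl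
theorem f97258 : Led Lsl_et (LP (LK LD1_c7 LD2_c14 LD3_c28)) = (LP (LK LD1_c3 LD2_c38 LD3_c30)) :=
  Lgr Lrot71 (Lpe (f97203 IH) (Lpe (f97124 IH) (Lpr_df (K3.f97196 IH) (Lpe (K35.f5054 IH) (Lpe (K35.f97257 IH) (Lpn (LP (LK LD1_c3 LD2_c38 LD3_c30))))))))
theorem f98029 : Led Lsl_dt (LP (LK LD1_c7 LD2_c8 LD3_c14)) = (LP (LK LD1_c3 LD2_c33 LD3_c42)) :=
  Lre_d IH (LK LD1_c7 LD2_c8 LD3_c14) (LK LD1_c3 LD2_c33 LD3_c42) Lrfl Lrfl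
theorem f98043 : Led Lsl_et (LP (LK LD1_c3 LD2_c39 LD3_c24)) = (LP (LK LD1_c7 LD2_c8 LD3_c14)) :=
  Lgr Lrot71 (Lpe (K35.f5803 IH) (Lpe (K2.f92291 IH) (Lpr_df (K3.f98037 IH) (Lpe (f98019 IH) (Lpe (f98029 IH) (Lpn (LP (LK LD1_c7 LD2_c8 LD3_c14))))))))
theorem f439522 : Led Lsl_af (LP (LK LD1_c7 LD2_c14 LD3_c28)) = (LP (LK LD1_c7 LD2_c8 LD3_c14)) :=
  Lgr Lrot50 (Lpr_et (f97258 IH) (Lpr_at (K35.f439463 IH) (Lpr_et (f98043 IH) (Lpn (LP (LK LD1_c7 LD2_c8 LD3_c14))))))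
theorem f97267 : Led Lsl_dt (LP (LK LD1_c7 LD2_c14 LD3_c28)) = (LP (LK LD1_c3 LD2_c37 LD3_c3)) :=
  Lre_d IH (LK LD1_c7 LD2_c14 LD3_c28) (LK LD1_c3 LD2_c37 LD3_c3) Lrfl Lrfl
theorem f98027 : Led Lsl_dt (LP (LK LD1_c3 LD2_c33 LD3_c42)) = (LP (LK LD1_c7 LD2_c8 LD3_c14)) :=
  Lre_d IH (LK LD1_c3 LD2_c33 LD3_c42) (LK LD1_c7 LD2_c8 LD3_c14) Lrfl Lrfl
theorem f439529 : Led Lsl_at (LP (LK LD1_c3 LD2_c37 LD3_c3)) = (LP (LK LD1_c3 LD2_c33 LD3_c42)) :=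
  Lgr Lrot51 (Lpe (f97267 IH) (Lpr_af (f439522 IH) (Lpe (f98027 IH) (Lpn (LP (LK LD1_c3 LD2_c33 LD3_c42))))))
theorem f441600 : Led Lsl_ct (LP (LK LD1_c3 LD2_c35 LD3_c47)) = (LP (LK LD1_c3 LD2_c37 LD3_c3)) :=
  Lgr Lrot111 (Lpr_af (f441596 IH) (Lpr_cf (f98023 IH) (Lpe (f439529 IH) (Lpn (LP (LK LD1_c3 LD2_c37 LD3_c3))))))
theorem f540681 : Led Lsl_ff (LP (LK LD1_c4 LD2_c0 LD3_c37)) = (LP (LK LD1_c3 LD2_c37 LD3_c3)) :=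
  Lgr Lrot23 (Lpr_ct (K4.f80647 IH) (Lpr_ft (f540670 IH) (Lpr_ct (f441600 IH) (Lpn (LP (LK LD1_c3 LD2_c37 LD3_c3))))))
theorem f540687 : Led Lsl_ft (LP (LK LD1_c4 LD2_c0 LD3_c37)) = (LP (LK LD1_c3 LD2_c37 LD3_c3)) :=
  Lgr Lrot48 (Lpr_ff (f540681 IH) (Lpn (LP (LK LD1_c3 LD2_c37 LD3_c3))))
theorem f538500 : Led Lsl_gf (LP (LK LD1_c6 LD2_c13 LD3_c46)) = (LP (LK LD1_c4 LD2_c0 LD3_c37)) :=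
  Lgr Lrot144 (Lpr_dt (K28.f80740 IH) (Lpe (K28.f203265 IH) (Lpr_dt (K28.f112560 IH) (Lpe (K8.f159204 IH) (Lpe (K24.f142207 IH) (Lpr_gf (K24.f158686 IH) (Lpe (K5.f80684 IH) (Lpr_gf (K35.f538496 IH) (Lpe (K4.f80647 IH) (Lpn (LP (LK LD1_c4 LD2_c0 LD3_c37))))))))))))
theorem f540693 : Led Lsl_gt (LP (LK LD1_c6 LD2_c13 LD3_c46)) = (LP (LK LD1_c3 LD2_c33 LD3_c42)) :=
  Lgr Lrot46 (Lpr_gf (f538500 IH) (Lpr_ft (f540687 IH) (Lpr_at (f439529 IH) (Lpn (LP (LK LD1_c3 LD2_c33 LD3_c42))))))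
theorem f206060 : Led Lsl_bf (LP (LK LD1_c4 LD2_c0 LD3_c36)) = (LP (LK LD1_c2 LD2_c18 LD3_c45)) :=
  Lgr Lrot90 (Lpr_ct (K11.f80698 IH) (Lpr_bt (f202825 IH) (Lpr_ct (K8.f69254 IH) (Lpr_bt (K11.f206037 IH) (Lpr_ct (K11.f104868 IH) (Lpn (LP (LK LD1_c2 LD2_c18 LD3_c45))))))))
theorem f540703 : Led Lsl_bf (LP (LK LD1_c2 LD2_c17 LD3_c0)) = (LP (LK LD1_c3 LD2_c32 LD3_c39)) :=
  Lgr Lrot156 (Lpr_gt (K8.f132511 IH) (Lpe (K5.f59366 IH) (Lpr_ct (K5.f59365 IH) (Lpr_gt (K11.f202383 IH) (Lpe (K32.f104879 IH) (Lpe (f206060 IH) (Lpe (K11.f80737 IH) (Lpr_ct (K28.f80739 IH) (Lpr_gt (f540693 IH) (Lpe (f98020 IH) (Lpn (LP (LK LD1_c3 LD2_c32 LD3_c39)))))))))))))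
theorem f132506 : Led Lsl_dt (LP (LK LD1_c3 LD2_c4 LD3_c56)) = (LP (LK LD1_c6 LD2_c15 LD3_c38)) :=
  Lre_d IH (LK LD1_c3 LD2_c4 LD3_c56) (LK LD1_c6 LD2_c15 LD3_c38) Lrfl Lrfl
theorem f419919 : Led Lsl_af (LP (LK LD1_c6 LD2_c36 LD3_c38)) = (LP (LK LD1_c7 LD2_c31 LD3_c3)) :=
  Lgr Lrot0 (Lpr_at (K32.f419917 IH) (Lpn (LP (LK LD1_c7 LD2_c31 LD3_c3))))
theorem f419937 : Led Lsl_gt (LP (LK LD1_c7 LD2_c31 LD3_c5)) = (LP (LK LD1_c6 LD2_c36 LD3_c38)) :=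
  Lgr Lrot46 (Lpe (K7.f150643 IH) (Lpr_ft (K32.f419931 IH) (Lpe (f419919 IH) (Lpn (LP (LK LD1_c6 LD2_c36 LD3_c38))))))
theorem f111883 : Led Lsl_bt (LP (LK LD1_c4 LD2_c44 LD3_c8)) = (LP (LK LD1_c9 LD2_c21 LD3_c8)) :=
  Lre_b IH (LK LD1_c4 LD2_c44 LD3_c8) (LK LD1_c9 LD2_c21 LD3_c8) Lrfl Lrfl
theorem f79968 : Led Lsl_ct (LP (LK LD1_c4 LD2_c44 LD3_c8)) = (LP (LK LD1_c2 LD2_c20 LD3_c3)) :=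
  Lre_c IH (LK LD1_c4 LD2_c44 LD3_c8) (LK LD1_c2 LD2_c20 LD3_c3) Lrfl Lrfl
theorem f111002 : Led Lsl_cf (LP (LK LD1_c1 LD2_c34 LD3_c17)) = (LP (LK LD1_c3 LD2_c6 LD3_c27)) :=
  Lgr Lrot11 (Lpr_ct (K3.f110999 IH) (Lpn (LP (LK LD1_c3 LD2_c6 LD3_c27))))
theorem f111006 : Led Lsl_gt (LP (LK LD1_c6 LD2_c18 LD3_c23)) = (LP (LK LD1_c12 LD2_c12 LD3_c46)) :=
  Lre_g IH (LK LD1_c6 LD2_c18 LD3_c23) (LK LD1_c12 LD2_c12 LD3_c46) Lrfl Lrfl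
theorem f440943 : Led Lsl_cf (LP (LK LD1_c12 LD2_c39 LD3_c8)) = (LP (LK LD1_c12 LD2_c12 LD3_c46)) :=
  Lgr Lrot125 (Lpr_gt (K32.f440939 IH) (Lpe (K4.f94136 IH) (Lpe (K32.f94160 IH) (Lpe (K4.f111875 IH) (Lpe (f111883 IH) (Lpr_ct (f79968 IH) (Lpr_gt (K5.f129612 IH) (Lpr_cf (f111002 IH) (Lpr_bt (K8.f111001 IH) (Lpr_gt (f111006 IH) (Lpn (LP (LK LD1_c12 LD2_c12 LD3_c46)))))))))))))
theorem f440949 : Led Lsl_ct (LP (LK LD1_c12 LD2_c39 LD3_c8)) = (LP (LK LD1_c12 LD2_c12 LD3_c46)) :=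
  Lgr Lrot59 (Lpr_cf (f440943 IH) (Lpn (LP (LK LD1_c12 LD2_c12 LD3_c46))))
theorem f116585 : Led Lsl_ct (LP (LK LD1_c13 LD2_c9 LD3_c56)) = (LP (LK LD1_c6 LD2_c55 LD3_c60)) :=
  Lre_c IH (LK LD1_c13 LD2_c9 LD3_c56) (LK LD1_c6 LD2_c55 LD3_c60) Lrfl Lrfl
theorem f81656 : Led Lsl_ct (LP (LK LD1_c5 LD2_c58 LD3_c59)) = (LP (LK LD1_c11 LD2_c41 LD3_c44)) :=
  Lre_c IH (LK LD1_c5 LD2_c58 LD3_c59) (LK LD1_c11 LD2_c41 LD3_c44) Lrfl Lrfl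
theorem f426479 : Led Lsl_cf (LP (LK LD1_c11 LD2_c41 LD3_c9)) = (LP (LK LD1_c11 LD2_c42 LD3_c7)) :=
  Lgr Lrot11 (Lpr_ct (K28.f426477 IH) (Lpn (LP (LK LD1_c11 LD2_c42 LD3_c7))))
theorem f116605 : Led Lsl_ct (LP (LK LD1_c6 LD2_c55 LD3_c60)) = (LP (LK LD1_c13 LD2_c9 LD3_c56)) :=
  Lre_c IH (LK LD1_c6 LD2_c55 LD3_c60) (LK LD1_c13 LD2_c9 LD3_c56) Lrfl Lrfl
theorem f426503 : Led Lsl_bf (LP (LK LD1_c11 LD2_c42 LD3_c7)) = (LP (LK LD1_c13 LD2_c9 LD3_c56)) :=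
  Lgr Lrot90 (Lpe (f426479 IH) (Lpr_bt (K28.f426489 IH) (Lpr_ct (f81656 IH) (Lpr_bt (K28.f426496 IH) (Lpr_ct (f116605 IH) (Lpn (LP (LK LD1_c13 LD2_c9 LD3_c56))))))))
theorem f112578 : Led Lsl_dt (LP (LK LD1_c8 LD2_c48 LD3_c15)) = (LP (LK LD1_c4 LD2_c59 LD3_c42)) :=
  Lgr Lrot27 (Lpe (K4.f38245 IH) (Lpe (K4.f38244 IH) (Lpe (K4.f38233 IH) (Lpe (K4.f38516 IH) (Lpr_df (K5.f112576 IH) (Lpr_gt (K7.f78418 IH) (Lpr_ct (K7.f78419 IH) (Lpr_gt (K7.f56961 IH) (Lpr_ct (K28.f56944 IH) (Lpn (LP (LK LD1_c4 LD2_c59 LD3_c42))))))))))))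
theorem f426487 : Led Lsl_gf (LP (LK LD1_c11 LD2_c40 LD3_c15)) = (LP (LK LD1_c11 LD2_c42 LD3_c7)) :=
  Lgr Lrot148 (Lpe (K28.f112700 IH) (Lpr_gt (K28.f112581 IH) (Lpr_dt (f112578 IH) (Lpe (K7.f56872 IH) (Lpe (K6.f137925 IH) (Lpr_gf (K6.f81647 IH) (Lpe (K2.f81610 IH) (Lpe (K28.f81627 IH) (Lpr_ct (K28.f426477 IH) (Lpn (LP (LK LD1_c11 LD2_c42 LD3_c7))))))))))))
theorem f440945 : Led Lsl_bt (LP (LK LD1_c12 LD2_c12 LD3_c46)) = (LP (LK LD1_c11 LD2_c40 LD3_c15)) :=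
  Lgr Lrot92 (Lpe (f440943 IH) (Lpr_gt (K32.f440939 IH) (Lpe (K4.f94136 IH) (Lpe (K32.f94160 IH) (Lpe (K4.f111875 IH) (Lpr_ct (K8.f111089 IH) (Lpr_gt (K28.f142474 IH) (Lpe (f116585 IH) (Lpe (f426503 IH) (Lpe (f426487 IH) (Lpn (LP (LK LD1_c11 LD2_c40 LD3_c15)))))))))))))
theorem f540715 : Led Lsl_gt (LP (LK LD1_c8 LD2_c48 LD3_c0)) = (LP (LK LD1_c7 LD2_c8 LD3_c14)) :=
  Lgr Lrot190 (Lpe (K28.f137581 IH) (Lpe (K6.f70511 IH) (Lpe (K6.f137569 IH) (Lpe (K28.f74767 IH) (Lpe (f440945 IH) (Lpe (f440949 IH) (Lpe (K32.f79159 IH) (Lpe (f419937 IH) (Lpr_bf (K7.f150593 IH) (Lpr_cf (K7.f130906 IH) (Lpe (K8.f130949 IH) (Lpr_gf (K32.f428443 IH) (Lpr_bf (K8.f157266 IH) (Lpe (K8.f157220 IH) (Lpe (f132506 IH) (Lpe (K8.f132511 IH) (Lpr_bf (f540703 IH) (Lpr_cf (f98023 IH) (Lpe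 (f98029 IH) (Lpn (LP (LK LD1_c7 LD2_c8 LD3_c14))))))))))))))))))))))
theorem f426338 : Led Lsl_cf (LP (LK LD1_c8 LD2_c48 LD3_c0)) = (LP (LK LD1_c11 LD2_c41 LD3_c19)) :=
  Lgr Lrot99 (Lpe (K28.f203356 IH) (Lpe (K28.f203354 IH) (Lpe (K8.f72101 IH) (Lpr_cf (K4.f72093 IH) (Lpe (f36048 IH) (Lpr_df (K7.f150039 IH) (Lpr_gt (K11.f202902 IH) (Lpr_ct (K11.f80705 IH) (Lpr_gt (K28.f426330 IH) (Lpn (LP (LK LD1_c11 LD2_c41 LD3_c19))))))))))))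
theorem f98028 : Led Lsl_ct (LP (LK LD1_c7 LD2_c8 LD3_c14)) = (LP (LK LD1_c13 LD2_c31 LD3_c7)) :=
  Lre_c IH (LK LD1_c7 LD2_c8 LD3_c14) (LK LD1_c13 LD2_c31 LD3_c7) Lrfl Lrfl
theorem f540725 : Led Lsl_df (LP (LK LD1_c9 LD2_c22 LD3_c61)) = (LP (LK LD1_c13 LD2_c31 LD3_c7)) :=
  Lgr Lrot162 (Lpr_cf (f424710 IH) (Lpe (f56892 IH) (Lpe (K28.f56944 IH) (Lpe (K7.f56961 IH) (Lpr_dt (f202766 IH) (Lpr_gt (K28.f426330 IH) (Lpe (f426338 IH) (Lpr_gt (f540715 IH) (Lpr_ct (f98028 IH) (Lpn (LP (LK LD1_c13 LD2_c31 LD3_c7))))))))))))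
theorem f424686 : Led Lsl_ft (LP (LK LD1_c4 LD2_c46 LD3_c24)) = (LP (LK LD1_c9 LD2_c22 LD3_c61)) :=
  Lgr Lrot48 (Lpr_ff (f424682 IH) (Lpn (LP (LK LD1_c9 LD2_c22 LD3_c61))))
theorem f424712 : Led Lsl_ff (LP (LK LD1_c9 LD2_c25 LD3_c26)) = (LP (LK LD1_c9 LD2_c49 LD3_c49)) :=
  Lgr Lrot23 (Lpr_ct (f78394 IH) (Lpr_ft (f424686 IH) (Lpr_ct (f424706 IH) (Lpn (LP (LK LD1_c9 LD2_c49 LD3_c49))))))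
theorem f78346 : Led Lsl_ct (LP (LK LD1_c4 LD2_c46 LD3_c24)) = (LP (LK LD1_c9 LD2_c25 LD3_c26)) :=
  Lre_c IH (LK LD1_c4 LD2_c46 LD3_c24) (LK LD1_c9 LD2_c25 LD3_c26) Lrfl Lrfl
theorem f203025 : Led Lsl_ct (LP (LK LD1_c9 LD2_c49 LD3_c50)) = (LP (LK LD1_c9 LD2_c23 LD3_c0)) :=
  Lgr Lrot8 (Lpr_gt (K28.f56962 IH) (Lpe (K28.f112430 IH) (Lpr_gt (K8.f38246 IH) (Lpr_dt (K28.f203014 IH) (Lpe (K28.f203003 IH) (Lpe (K28.f112563 IH) (Lpr_gf (K5.f112554 IH) (Lpe (K4.f102080 IH) (Lpe (K28.f99188 IH) (Lpn (LP (LK LD1_c9 LD2_c23 LD3_c0))))))))))))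
theorem f424665 : Led Lsl_at (LP (LK LD1_c9 LD2_c25 LD3_c26)) = (LP (LK LD1_c9 LD2_c49 LD3_c50)) :=
  Lgr Lrot107 (Lpe (f78346 IH) (Lpr_af (f424661 IH) (Lpe (f203025 IH) (Lpn (LP (LK LD1_c9 LD2_c49 LD3_c50))))))
theorem f424671 : Led Lsl_ff (LP (LK LD1_c9 LD2_c25 LD3_c29)) = (LP (LK LD1_c9 LD2_c49 LD3_c50)) :=
  Lgr Lrot23 (Lpr_ct (f78396 IH) (Lpr_ft (f424669 IH) (Lpe (K28.f203027 IH) (Lpn (LP (LK LD1_c9 LD2_c49 LD3_c50))))))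
theorem f424714 : Led Lsl_at (LP (LK LD1_c9 LD2_c25 LD3_c29)) = (LP (LK LD1_c9 LD2_c49 LD3_c49)) :=
  Lgr Lrot66 (Lpr_ff (f424671 IH) (Lpe (f424665 IH) (Lpr_ff (f424712 IH) (Lpn (LP (LK LD1_c9 LD2_c49 LD3_c49))))))
theorem f540753 : Led Lsl_dt (LP (LK LD1_c9 LD2_c49 LD3_c50)) = (LP (LK LD1_c13 LD2_c27 LD3_c38)) :=
  Lgr Lrot159 (Lpe (f424671 IH) (Lpr_at (f424714 IH) (Lpe (f424706 IH) (Lpr_df (f540725 IH) (Lpe (f98028 IH) (Lpe (f98027 IH) (Lpe (f98020 IH) (Lpe (f98025 IH) (Lpe (f98026 IH) (Lpn (LP (LK LD1_c13 LD2_c27 LD3_c38))))))))))))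
theorem f501508 : Led Lsl_gt (LP (LK LD1_c11 LD2_c43 LD3_c46)) = (LP (LK LD1_c9 LD2_c49 LD3_c50)) :=
  Lgr Lrot5 (Lpr_ft (f501506 IH) (Lpr_at (f56959 IH) (Lpe (K28.f56962 IH) (Lpn (LP (LK LD1_c9 LD2_c49 LD3_c50))))))
theorem f501503 : Led Lsl_ct (LP (LK LD1_c11 LD2_c43 LD3_c46)) = (LP (LK LD1_c5 LD2_c59 LD3_c48)) :=
  Lre_c IH (LK LD1_c11 LD2_c43 LD3_c46) (LK LD1_c5 LD2_c59 LD3_c48) Lrfl Lrfl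
theorem f501532 : Led Lsl_cf (LP (LK LD1_c9 LD2_c49 LD3_c43)) = (LP (LK LD1_c6 LD2_c32 LD3_c53)) :=
  Lgr Lrot97 (Lpe (f501500 IH) (Lpr_ct (f501503 IH) (Lpr_bt (f501525 IH) (Lpe (f428990 IH) (Lpr_bt (f428972 IH) (Lpn (LP (LK LD1_c6 LD2_c32 LD3_c53))))))))
theorem f63823 : Led Lsl_dt (LP (LK LD1_c8 LD2_c48 LD3_c50)) = (LP (LK LD1_c4 LD2_c38 LD3_c9)) :=
  Lre_d IH (LK LD1_c8 LD2_c48 LD3_c50) (LK LD1_c4 LD2_c38 LD3_c9) Lrfl Lrfl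
theorem f141195 : Led Lsl_gt (LP (LK LD1_c4 LD2_c39 LD3_c56)) = (LP (LK LD1_c4 LD2_c36 LD3_c51)) :=
  Lgr Lrot94 (Lpr_cf (K7.f80121 IH) (Lpr_gt (K7.f16124 IH) (Lpr_dt (f63823 IH) (Lpe (K6.f139771 IH) (Lpr_dt (K6.f139775 IH) (Lpe (K6.f72270 IH) (Lpe (K8.f72269 IH) (Lpe (K2.f72254 IH) (Lpe (K7.f25395 IH) (Lpn (LP (LK LD1_c4 LD2_c36 LD3_c51))))))))))))
theorem f540761 : Led Lsl_bf (LP (LK LD1_c4 LD2_c39 LD3_c56)) = (LP (LK LD1_c7 LD2_c6 LD3_c9)) :=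
  Lgr Lrot184 (Lpr_gt (f141195 IH) (Lpr_dt (K7.f25395 IH) (Lpr_ct (K5.f25394 IH) (Lpr_bt (K5.f20413 IH) (Lpr_gt (K2.f20406 IH) (Lpr_dt (K7.f20402 IH) (Lpr_ct (K6.f20403 IH) (Lpe (K6.f25193 IH) (Lpr_gt (K5.f25393 IH) (Lpe (K5.f127073 IH) (Lpe (K5.f89767 IH) (Lpr_bt (K5.f97862 IH) (Lpe (K3.f97869 IH) (Lpe (f428975 IH) (Lpe (f501532 IH) (Lpe (f501500 IH) (Lpr_gt (f501508 IH) (Lpr_dt (f540753 IH) (Lpr_ct (f98026 IH) (Lpn (LP (LK LD1_c7 LD2_c6 LD3_c9))))))))))))))))))))))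
theorem f205651 : Led Lsl_at (LP (LK LD1_c4 LD2_c24 LD3_c23)) = (LP (LK LD1_c8 LD2_c46 LD3_c13)) :=
  Lre_a IH (LK LD1_c4 LD2_c24 LD3_c23) (LK LD1_c8 LD2_c46 LD3_c13) Lrfl Lrfl
theorem f540664 : Led Lsl_ft (LP (LK LD1_c8 LD2_c46 LD3_c13)) = (LP (LK LD1_c7 LD2_c6 LD3_c9)) :=
  Lgr Lrot101 (Lpe (f205651 IH) (Lpr_ff (f540658 IH) (Lpr_af (f441588 IH) (Lpn (LP (LK LD1_c7 LD2_c6 LD3_c9))))))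
theorem f540767 : Led Lsl_bt (LP (LK LD1_c5 LD2_c46 LD3_c47)) = (LP (LK LD1_c8 LD2_c46 LD3_c13)) :=
  Lgr Lrot35 (Lpe (K11.f206858 IH) (Lpr_bf (f540761 IH) (Lpe (f540664 IH) (Lpn (LP (LK LD1_c8 LD2_c46 LD3_c13))))))
theorem f39936 : Led Lsl_et (LP (LK LD1_c3 LD2_c57 LD3_c57)) = (LP (LK LD1_c7 LD2_c57 LD3_c14)) :=
  Lre_e IH (LK LD1_c3 LD2_c57 LD3_c57) (LK LD1_c7 LD2_c57 LD3_c14) Lrfl Lrfl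
theorem f39937 : Led Lsl_et (LP (LK LD1_c4 LD2_c26 LD3_c9)) = (LP (LK LD1_c2 LD2_c10 LD3_c21)) :=
  Lre_e IH (LK LD1_c4 LD2_c26 LD3_c9) (LK LD1_c2 LD2_c10 LD3_c21) Lrfl Lrfl
theorem f39938 : Led Lsl_bf (LP (LK LD1_c3 LD2_c57 LD3_c57)) = (LP (LK LD1_c2 LD2_c10 LD3_c21)) :=
  Lgr Lrot96 (Lpr_et (f39936 IH) (Lpr_bt (K1.f39922 IH) (Lpr_et (f39937 IH) (Lpn (LP (LK LD1_c2 LD2_c10 LD3_c21))))))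
theorem f511220 : Led Lsl_gt (LP (LK LD1_c7 LD2_c12 LD3_c11)) = (LP (LK LD1_c13 LD2_c38 LD3_c29)) :=
  Lre_g IH (LK LD1_c7 LD2_c12 LD3_c11) (LK LD1_c13 LD2_c38 LD3_c29) Lrfl Lrfl
theorem f540672 : Led Lsl_gf (LP (LK LD1_c8 LD2_c46 LD3_c13)) = (LP (LK LD1_c13 LD2_c38 LD3_c29)) :=
  Lgr Lrot76 (Lpe (f205651 IH) (Lpr_ff (f540658 IH) (Lpr_gt (f511220 IH) (Lpn (LP (LK LD1_c13 LD2_c38 LD3_c29))))))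
theorem f540775 : Led Lsl_bt (LP (LK LD1_c7 LD2_c59 LD3_c53)) = (LP (LK LD1_c13 LD2_c38 LD3_c29)) :=
  Lgr Lrot22 (Lpr_ct (K28.f157744 IH) (Lpr_gf (K8.f157677 IH) (Lpe (K8.f101684 IH) (Lpe (K8.f161371 IH) (Lpr_bf (f39938 IH) (Lpr_ct (K1.f14748 IH) (Lpe (K8.f14762 IH) (Lpe (K11.f161531 IH) (Lpr_bt (f540767 IH) (Lpr_gf (f540672 IH) (Lpn (LP (LK LD1_c13 LD2_c38 LD3_c29)))))))))))))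
theorem f541847 : Led Lsl_ft (LP (LK LD1_c13 LD2_c38 LD3_c29)) = (LP (LK LD1_c8 LD2_c46 LD3_c25)) :=
  Lgr Lrot75 (Lpe (f540775 IH) (Lpr_ff (K32.f208366 IH) (Lpr_bf (f541836 IH) (Lpn (LP (LK LD1_c8 LD2_c46 LD3_c25))))))
theorem f119736 : Led Lsl_bt (LP (LK LD1_c2 LD2_c54 LD3_c22)) = (LP (LK LD1_c5 LD2_c55 LD3_c61)) :=
  Lre_b IH (LK LD1_c2 LD2_c54 LD3_c22) (LK LD1_c5 LD2_c55 LD3_c61) Lrfl Lrfl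
theorem f540777 : Led Lsl_gf (LP (LK LD1_c5 LD2_c55 LD3_c61)) = (LP (LK LD1_c8 LD2_c46 LD3_c13)) :=
  Lgr Lrot124 (Lpe (f119736 IH) (Lpr_ct (K6.f82011 IH) (Lpr_gt (K32.f119735 IH) (Lpr_cf (K32.f202037 IH) (Lpr_bt (K32.f37895 IH) (Lpr_gt (K7.f37894 IH) (Lpr_ct (K7.f139590 IH) (Lpr_gt (K8.f139588 IH) (Lpe (K11.f161531 IH) (Lpr_bt (f540767 IH) (Lpn (LP (LK LD1_c8 LD2_c46 LD3_c13)))))))))))))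
theorem f541852 : Led Lsl_af (LP (LK LD1_c5 LD2_c55 LD3_c61)) = (LP (LK LD1_c8 LD2_c46 LD3_c25)) :=
  Lgr Lrot31 (Lpr_gf (f540777 IH) (Lpr_gf (f540672 IH) (Lpr_ft (f541847 IH) (Lpn (LP (LK LD1_c8 LD2_c46 LD3_c25))))))
theorem f541858 : Led Lsl_at (LP (LK LD1_c8 LD2_c45 LD3_c41)) = (LP (LK LD1_c13 LD2_c38 LD3_c29)) :=
  Lgr Lrot66 (Lpr_ff (K6.f137851 IH) (Lpr_af (f541852 IH) (Lpe (f541847 IH) (Lpn (LP (LK LD1_c13 LD2_c38 LD3_c29))))))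
theorem f150072 : Led Lsl_at (LP (LK LD1_c4 LD2_c24 LD3_c33)) = (LP (LK LD1_c7 LD2_c56 LD3_c48)) :=
  Lgr Lrot66 (Lpr_ff (K6.f137843 IH) (Lpe (K6.f137890 IH) (Lpr_ff (K28.f150061 IH) (Lpn (LP (LK LD1_c7 LD2_c56 LD3_c48))))))
theorem f150074 : Led Lsl_af (LP (LK LD1_c4 LD2_c24 LD3_c33)) = (LP (LK LD1_c7 LD2_c56 LD3_c48)) :=
  Lgr Lrot0 (Lpr_at (f150072 IH) (Lpn (LP (LK LD1_c7 LD2_c56 LD3_c48))))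
theorem f541864 : Led Lsl_df (LP (LK LD1_c7 LD2_c56 LD3_c48)) = (LP (LK LD1_c13 LD2_c38 LD3_c29)) :=
  Lgr Lrot18 (Lpe (f150074 IH) (Lpr_dt (K6.f137681 IH) (Lpr_at (f541858 IH) (Lpn (LP (LK LD1_c13 LD2_c38 LD3_c29))))))
theorem f202021 : Led Lsl_cf (LP (LK LD1_c0 LD2_c42 LD3_c2)) = (LP (LK LD1_c1 LD2_c27 LD3_c52)) :=
  Lgr Lrot11 (Lpr_ct (K11.f202015 IH) (Lpn (LP (LK LD1_c1 LD2_c27 LD3_c52))))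
theorem f420615 : Led Lsl_ct (LP (LK LD1_c8 LD2_c48 LD3_c6)) = (LP (LK LD1_c5 LD2_c58 LD3_c19)) :=
  Lgr Lrot64 (Lpr_bt (K28.f420607 IH) (Lpe (K28.f38225 IH) (Lpe (K28.f38110 IH) (Lpe (f202021 IH) (Lpe (K4.f59705 IH) (Lpr_cf (K2.f36627 IH) (Lpr_gf (K2.f70225 IH) (Lpe (K6.f70429 IH) (Lpr_ct (K6.f70461 IH) (Lpe (K6.f137547 IH) (Lpn (LP (LK LD1_c5 LD2_c58 LD3_c19)))))))))))))
theorem f426481 : Led Lsl_df (LP (LK LD1_c8 LD2_c48 LD3_c7)) = (LP (LK LD1_c11 LD2_c42 LD3_c7)) :=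
  Lgr Lrot43 (Lpr_ct (K28.f72117 IH) (Lpr_dt (K28.f38538 IH) (Lpr_ct (K6.f38534 IH) (Lpr_dt (K28.f38540 IH) (Lpr_ct (f420615 IH) (Lpr_dt (K6.f74698 IH) (Lpr_ct (K6.f74697 IH) (Lpr_dt (K6.f137569 IH) (Lpr_ct (K6.f70511 IH) (Lpr_dt (K6.f38548 IH) (Lpr_ct (K6.f38517 IH) (Lpr_dt (K6.f38518 IH) (Lpr_ct (K6.f70503 IH) (Lpe (K28.f137561 IH) (Lpr_ct (K28.f426477 IH) (Lpn (LP (LK LD1_c11 LD2_c42 LD3_c7))))))))))))))))))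
theorem f427396 : Led Lsl_dt (LP (LK LD1_c8 LD2_c48 LD3_c7)) = (LP (LK LD1_c11 LD2_c42 LD3_c7)) :=
  Lgr Lrot42 (Lpr_df (f426481 IH) (Lpn (LP (LK LD1_c11 LD2_c42 LD3_c7))))
theorem f441595 : Led Lsl_ct (LP (LK LD1_c13 LD2_c38 LD3_c30)) = (LP (LK LD1_c7 LD2_c12 LD3_c11)) :=
  Lre_c IH (LK LD1_c13 LD2_c38 LD3_c30) (LK LD1_c7 LD2_c12 LD3_c11) Lrfl Lrfl
theorem f541872 : Led Lsl_gf (LP (LK LD1_c8 LD2_c48 LD3_c7)) = (LP (LK LD1_c13 LD2_c38 LD3_c30)) :=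
  Lgr Lrot144 (Lpr_dt (f427396 IH) (Lpe (f426487 IH) (Lpe (K28.f112700 IH) (Lpr_cf (K28.f160709 IH) (Lpe (K8.f142240 IH) (Lpr_gf (K28.f158678 IH) (Lpr_df (f541864 IH) (Lpe (f511220 IH) (Lpe (f441595 IH) (Lpn (LP (LK LD1_c13 LD2_c38 LD3_c30))))))))))))
theorem f161433 : Led Lsl_bt (LP (LK LD1_c13 LD2_c57 LD3_c11)) = (LP (LK LD1_c8 LD2_c45 LD3_c46)) :=
  Lgr Lrot127 (Lpr_bf (K8.f161430 IH) (Lpn (LP (LK LD1_c8 LD2_c45 LD3_c46))))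
theorem f123717 : Led Lsl_ct (LP (LK LD1_c13 LD2_c57 LD3_c11)) = (LP (LK LD1_c7 LD2_c22 LD3_c48)) :=
  Lre_c IH (LK LD1_c13 LD2_c57 LD3_c11) (LK LD1_c7 LD2_c22 LD3_c48) Lrfl Lrfl
theorem f123674 : Led Lsl_ct (LP (LK LD1_c14 LD2_c6 LD3_c41)) = (LP (LK LD1_c7 LD2_c28 LD3_c33)) :=
  Lre_c IH (LK LD1_c14 LD2_c6 LD3_c41) (LK LD1_c7 LD2_c28 LD3_c33) Lrfl Lrfl
theorem f541878 : Led Lsl_bt (LP (LK LD1_c14 LD2_c6 LD3_c41)) = (LP (LK LD1_c13 LD2_c38 LD3_c30)) :=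
  Lgr Lrot130 (Lpr_ct (f123674 IH) (Lpe (K5.f123712 IH) (Lpe (f123717 IH) (Lpr_bt (f161433 IH) (Lpe (K8.f35871 IH) (Lpr_bf (K11.f99254 IH) (Lpr_ct (K4.f38149 IH) (Lpr_gf (f80763 IH) (Lpe (K28.f72117 IH) (Lpr_gf (f541872 IH) (Lpn (LP (LK LD1_c13 LD2_c38 LD3_c30)))))))))))))
theorem f441602 : Led Lsl_et (LP (LK LD1_c13 LD2_c38 LD3_c30)) = (LP (LK LD1_c7 LD2_c12 LD3_c19)) :=
  Lre_e IH (LK LD1_c13 LD2_c38 LD3_c30) (LK LD1_c7 LD2_c12 LD3_c19) Lrfl Lrfl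
theorem f441577 : Led Lsl_bt (LP (LK LD1_c7 LD2_c12 LD3_c19)) = (LP (LK LD1_c13 LD2_c38 LD3_c41)) :=
  Lre_b IH (LK LD1_c7 LD2_c12 LD3_c19) (LK LD1_c13 LD2_c38 LD3_c41) Lrfl Lrfl
theorem f541885 : Led Lsl_ef (LP (LK LD1_c14 LD2_c6 LD3_c41)) = (LP (LK LD1_c13 LD2_c38 LD3_c41)) :=
  Lgr Lrot29 (Lpr_bt (f541878 IH) (Lpr_et (f441602 IH) (Lpr_bt (f441577 IH) (Lpn (LP (LK LD1_c13 LD2_c38 LD3_c41))))))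
theorem f541891 : Led Lsl_et (LP (LK LD1_c14 LD2_c6 LD3_c41)) = (LP (LK LD1_c13 LD2_c38 LD3_c41)) :=
  Lgr Lrot87 (Lpr_ef (f541885 IH) (Lpn (LP (LK LD1_c13 LD2_c38 LD3_c41))))
theorem f123723 : Led Lsl_et (LP (LK LD1_c14 LD2_c6 LD3_c42)) = (LP (LK LD1_c7 LD2_c28 LD3_c33)) :=
  Lre_e IH (LK LD1_c14 LD2_c6 LD3_c42) (LK LD1_c7 LD2_c28 LD3_c33) Lrfl Lrfl
theorem f541895 : Led Lsl_cf (LP (LK LD1_c14 LD2_c6 LD3_c42)) = (LP (LK LD1_c13 LD2_c38 LD3_c41)) :=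
  Lgr Lrot39 (Lpr_et (f123723 IH) (Lpr_ct (K5.f123675 IH) (Lpr_et (f541891 IH) (Lpn (LP (LK LD1_c13 LD2_c38 LD3_c41))))))
theorem f441604 : Led Lsl_bt (LP (LK LD1_c7 LD2_c12 LD3_c5)) = (LP (LK LD1_c3 LD2_c35 LD3_c50)) :=
  Lre_b IH (LK LD1_c7 LD2_c12 LD3_c5) (LK LD1_c3 LD2_c35 LD3_c50) Lrfl Lrfl
theorem f116161 : Led Lsl_ct (LP (LK LD1_c13 LD2_c38 LD3_c24)) = (LP (LK LD1_c7 LD2_c12 LD3_c5)) :=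
  Lre_c IH (LK LD1_c13 LD2_c38 LD3_c24) (LK LD1_c7 LD2_c12 LD3_c5) Lrfl Lrfl
theorem f541897 : Led Lsl_bt (LP (LK LD1_c14 LD2_c6 LD3_c42)) = (LP (LK LD1_c13 LD2_c38 LD3_c24)) :=
  Lgr Lrot128 (Lpr_cf (f541895 IH) (Lpe (f441577 IH) (Lpe (K28.f98528 IH) (Lpe (f441604 IH) (Lpe (f116161 IH) (Lpn (LP (LK LD1_c13 LD2_c38 LD3_c24))))))))
theorem f123918 : Led Lsl_ft (LP (LK LD1_c23 LD2_c40 LD3_c44)) = (LP (LK LD1_c14 LD2_c6 LD3_c42)) :=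
  Lre_f IH (LK LD1_c23 LD2_c40 LD3_c44) (LK LD1_c14 LD2_c6 LD3_c42) Lrfl Lrfl
theorem f541913 : Led Lsl_ft (LP (LK LD1_c13 LD2_c38 LD3_c24)) = (LP (LK LD1_c23 LD2_c3 LD3_c35)) :=
  Lre_f IH (LK LD1_c13 LD2_c38 LD3_c24) (LK LD1_c23 LD2_c3 LD3_c35) Lrfl Lrfl
theorem f541914 : Led Lsl_bf (LP (LK LD1_c23 LD2_c40 LD3_c44)) = (LP (LK LD1_c23 LD2_c3 LD3_c35)) :=
  Lgr Lrot61 (Lpr_ft (f123918 IH) (Lpr_bt (f541897 IH) (Lpr_ft (f541913 IH) (Lpn (LP (LK LD1_c23 LD2_c3 LD3_c35))))))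
theorem f123886 : Led Lsl_dt (LP (LK LD1_c23 LD2_c40 LD3_c44)) = (LP (LK LD1_c31 LD2_c10 LD3_c33)) :=
  Lre_d IH (LK LD1_c23 LD2_c40 LD3_c44) (LK LD1_c31 LD2_c10 LD3_c33) Lrfl Lrfl
theorem f441611 : Led Lsl_dt (LP (LK LD1_c30 LD2_c52 LD3_c50)) = (LP (LK LD1_c23 LD2_c3 LD3_c35)) :=
  Lre_d IH (LK LD1_c30 LD2_c52 LD3_c50) (LK LD1_c23 LD2_c3 LD3_c35) Lrfl Lrfl
theorem f541920 : Led Lsl_bt (LP (LK LD1_c31 LD2_c10 LD3_c33)) = (LP (LK LD1_c30 LD2_c52 LD3_c50)) :=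
  Lgr Lrot95 (Lpe (f123886 IH) (Lpr_bf (f541914 IH) (Lpe (f441611 IH) (Lpn (LP (LK LD1_c30 LD2_c52 LD3_c50))))))
theorem f541926 : Led Lsl_bf (LP (LK LD1_c31 LD2_c10 LD3_c33)) = (LP (LK LD1_c30 LD2_c52 LD3_c50)) :=
  Lgr Lrot24 (Lpr_bt (f541920 IH) (Lpn (LP (LK LD1_c30 LD2_c52 LD3_c50))))
theorem f541931 : Led Lsl_ft (LP (LK LD1_c31 LD2_c10 LD3_c33)) = (LP (LK LD1_c23 LD2_c40 LD3_c43)) :=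
  Lre_f IH (LK LD1_c31 LD2_c10 LD3_c33) (LK LD1_c23 LD2_c40 LD3_c43) Lrfl Lrfl
theorem f116172 : Led Lsl_ft (LP (LK LD1_c23 LD2_c3 LD3_c34)) = (LP (LK LD1_c30 LD2_c52 LD3_c50)) :=
  Lre_f IH (LK LD1_c23 LD2_c3 LD3_c34) (LK LD1_c30 LD2_c52 LD3_c50) Lrfl Lrfl
theorem f541932 : Led Lsl_bt (LP (LK LD1_c23 LD2_c40 LD3_c43)) = (LP (LK LD1_c23 LD2_c3 LD3_c34)) :=
  Lgr Lrot35 (Lpe (f541931 IH) (Lpr_bf (f541926 IH) (Lpe (f116172 IH) (Lpn (LP (LK LD1_c23 LD2_c3 LD3_c34))))))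
theorem f147351 : Led Lsl_et (LP (LK LD1_c14 LD2_c6 LD3_c45)) = (LP (LK LD1_c23 LD2_c40 LD3_c43)) :=
  Lre_e IH (LK LD1_c14 LD2_c6 LD3_c45) (LK LD1_c23 LD2_c40 LD3_c43) Lrfl Lrfl
theorem f147156 : Led Lsl_bt (LP (LK LD1_c13 LD2_c57 LD3_c45)) = (LP (LK LD1_c14 LD2_c6 LD3_c45)) :=
  Lgr Lrot127 (Lpr_bf (K8.f147146 IH) (Lpn (LP (LK LD1_c14 LD2_c6 LD3_c45))))
theorem f541937 : Led Lsl_ef (LP (LK LD1_c13 LD2_c57 LD3_c45)) = (LP (LK LD1_c23 LD2_c3 LD3_c34)) :=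
  Lgr Lrot29 (Lpr_bt (f147156 IH) (Lpr_et (f147351 IH) (Lpr_bt (f541932 IH) (Lpn (LP (LK LD1_c23 LD2_c3 LD3_c34))))))
theorem f541947 : Led Lsl_et (LP (LK LD1_c13 LD2_c57 LD3_c45)) = (LP (LK LD1_c23 LD2_c3 LD3_c34)) :=
  Lgr Lrot87 (Lpr_ef (f541937 IH) (Lpn (LP (LK LD1_c23 LD2_c3 LD3_c34))))
theorem f147298 : Led Lsl_ct (LP (LK LD1_c23 LD2_c29 LD3_c40)) = (LP (LK LD1_c13 LD2_c57 LD3_c45)) :=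
  Lre_c IH (LK LD1_c23 LD2_c29 LD3_c40) (LK LD1_c13 LD2_c57 LD3_c45) Lrfl Lrfl
theorem f116257 : Led Lsl_ct (LP (LK LD1_c23 LD2_c3 LD3_c34)) = (LP (LK LD1_c30 LD2_c52 LD3_c49)) :=
  Lre_c IH (LK LD1_c23 LD2_c3 LD3_c34) (LK LD1_c30 LD2_c52 LD3_c49) Lrfl Lrfl
theorem f541951 : Led Lsl_ef (LP (LK LD1_c23 LD2_c29 LD3_c40)) = (LP (LK LD1_c30 LD2_c52 LD3_c49)) :=
  Lgr Lrot28 (Lpr_ct (f147298 IH) (Lpr_et (f541947 IH) (Lpr_ct (f116257 IH) (Lpn (LP (LK LD1_c30 LD2_c52 LD3_c49))))))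
theorem f147302 : Led Lsl_at (LP (LK LD1_c23 LD2_c29 LD3_c40)) = (LP (LK LD1_c13 LD2_c57 LD3_c60)) :=
  Lre_a IH (LK LD1_c23 LD2_c29 LD3_c40) (LK LD1_c13 LD2_c57 LD3_c60) Lrfl Lrfl
theorem f541953 : Led Lsl_et (LP (LK LD1_c13 LD2_c57 LD3_c60)) = (LP (LK LD1_c23 LD2_c29 LD3_c48)) :=
  Lre_e IH (LK LD1_c13 LD2_c57 LD3_c60) (LK LD1_c23 LD2_c29 LD3_c48) Lrfl Lrfl
theorem f541954 : Led Lsl_at (LP (LK LD1_c23 LD2_c29 LD3_c48)) = (LP (LK LD1_c30 LD2_c52 LD3_c49)) :=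
  Lgr Lrot80 (Lpe (f541953 IH) (Lpe (f147302 IH) (Lpr_ef (f541951 IH) (Lpn (LP (LK LD1_c30 LD2_c52 LD3_c49))))))
theorem f116256 : Led Lsl_dt (LP (LK LD1_c13 LD2_c38 LD3_c24)) = (LP (LK LD1_c23 LD2_c3 LD3_c34)) :=
  Lre_d IH (LK LD1_c13 LD2_c38 LD3_c24) (LK LD1_c23 LD2_c3 LD3_c34) Lrfl Lrfl
theorem f116255 : Led Lsl_ct (LP (LK LD1_c7 LD2_c12 LD3_c5)) = (LP (LK LD1_c13 LD2_c38 LD3_c24)) :=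
  Lre_c IH (LK LD1_c7 LD2_c12 LD3_c5) (LK LD1_c13 LD2_c38 LD3_c24) Lrfl Lrfl
theorem f116254 : Led Lsl_dt (LP (LK LD1_c3 LD2_c35 LD3_c44)) = (LP (LK LD1_c7 LD2_c12 LD3_c5)) :=
  Lre_d IH (LK LD1_c3 LD2_c35 LD3_c44) (LK LD1_c7 LD2_c12 LD3_c5) Lrfl Lrfl
theorem f116136 : Led Lsl_cf (LP (LK LD1_c3 LD2_c35 LD3_c44)) = (LP (LK LD1_c3 LD2_c44 LD3_c3)) :=
  Lgr Lrot97 (Lpr_bt (K33.f108613 IH) (Lpr_ct (K28.f98526 IH) (Lpr_bt (K3.f106202 IH) (Lpr_ct (K4.f116127 IH) (Lpr_bt (K34.f116135 IH) (Lpn (LP (LK LD1_c3 LD2_c44 LD3_c3))))))))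
theorem f116175 : Led Lsl_dt (LP (LK LD1_c7 LD2_c28 LD3_c57)) = (LP (LK LD1_c3 LD2_c44 LD3_c3)) :=
  Lre_d IH (LK LD1_c7 LD2_c28 LD3_c57) (LK LD1_c3 LD2_c44 LD3_c3) Lrfl Lrfl
theorem f116180 : Led Lsl_ct (LP (LK LD1_c14 LD2_c7 LD3_c30)) = (LP (LK LD1_c7 LD2_c28 LD3_c57)) :=
  Lre_c IH (LK LD1_c14 LD2_c7 LD3_c30) (LK LD1_c7 LD2_c28 LD3_c57) Lrfl Lrfl
theorem f116258 : Led Lsl_dt (LP (LK LD1_c23 LD2_c41 LD3_c60)) = (LP (LK LD1_c14 LD2_c7 LD3_c30)) :=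
  Lre_d IH (LK LD1_c23 LD2_c41 LD3_c60) (LK LD1_c14 LD2_c7 LD3_c30) Lrfl Lrfl
theorem f541960 : Led Lsl_ff (LP (LK LD1_c23 LD2_c29 LD3_c48)) = (LP (LK LD1_c23 LD2_c41 LD3_c60)) :=
  Lgr Lrot103 (Lpr_at (f541954 IH) (Lpe (f116257 IH) (Lpe (f116256 IH) (Lpe (f116255 IH) (Lpe (f116254 IH) (Lpr_cf (f116136 IH) (Lpe (f116175 IH) (Lpe (f116180 IH) (Lpe (f116258 IH) (Lpn (LP (LK LD1_c23 LD2_c41 LD3_c60))))))))))))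
theorem f541970 : Led Lsl_ft (LP (LK LD1_c23 LD2_c29 LD3_c48)) = (LP (LK LD1_c23 LD2_c41 LD3_c60)) :=
  Lgr Lrot48 (Lpr_ff (f541960 IH) (Lpn (LP (LK LD1_c23 LD2_c41 LD3_c60))))
theorem f116165 : Led Lsl_ct (LP (LK LD1_c7 LD2_c28 LD3_c57)) = (LP (LK LD1_c14 LD2_c7 LD3_c30)) :=
  Lre_c IH (LK LD1_c7 LD2_c28 LD3_c57) (LK LD1_c14 LD2_c7 LD3_c30) Lrfl Lrfl
theorem f469453 : Led Lsl_ff (LP (LK LD1_c22 LD2_c44 LD3_c32)) = (LP (LK LD1_c14 LD2_c7 LD3_c30)) :=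
  Lgr Lrot23 (Lpr_ct (K33.f469156 IH) (Lpr_ft (K34.f469445 IH) (Lpr_ct (f116165 IH) (Lpn (LP (LK LD1_c14 LD2_c7 LD3_c30))))))
theorem f541975 : Led Lsl_df (LP (LK LD1_c23 LD2_c29 LD3_c48)) = (LP (LK LD1_c22 LD2_c44 LD3_c32)) :=
  Lgr Lrot78 (Lpr_ft (f541970 IH) (Lpr_dt (f116258 IH) (Lpe (f469453 IH) (Lpn (LP (LK LD1_c22 LD2_c44 LD3_c32))))))
theorem f541963 : Led Lsl_ct (LP (LK LD1_c23 LD2_c29 LD3_c48)) = (LP (LK LD1_c13 LD2_c57 LD3_c52)) :=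
  Lre_c IH (LK LD1_c23 LD2_c29 LD3_c48) (LK LD1_c13 LD2_c57 LD3_c52) Lrfl Lrfl
theorem f541980 : Led Lsl_dt (LP (LK LD1_c13 LD2_c57 LD3_c52)) = (LP (LK LD1_c7 LD2_c23 LD3_c7)) :=
  Lre_d IH (LK LD1_c13 LD2_c57 LD3_c52) (LK LD1_c7 LD2_c23 LD3_c7) Lrfl Lrfl
theorem f469253 : Led Lsl_dt (LP (LK LD1_c7 LD2_c4 LD3_c57)) = (LP (LK LD1_c13 LD2_c25 LD3_c32)) :=
  Lre_d IH (LK LD1_c7 LD2_c4 LD3_c57) (LK LD1_c13 LD2_c25 LD3_c32) Lrfl Lrfl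
theorem f108289 : Led Lsl_dt (LP (LK LD1_c13 LD2_c38 LD3_c25)) = (LP (LK LD1_c7 LD2_c12 LD3_c6)) :=
  Lre_d IH (LK LD1_c13 LD2_c38 LD3_c25) (LK LD1_c7 LD2_c12 LD3_c6) Lrfl Lrfl
theorem f469262 : Led Lsl_ft (LP (LK LD1_c13 LD2_c38 LD3_c25)) = (LP (LK LD1_c7 LD2_c12 LD3_c5)) :=
  Lre_f IH (LK LD1_c13 LD2_c38 LD3_c25) (LK LD1_c7 LD2_c12 LD3_c5) Lrfl Lrfl
theorem f540311 : Led Lsl_at (LP (LK LD1_c7 LD2_c12 LD3_c5)) = (LP (LK LD1_c6 LD2_c25 LD3_c0)) :=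
  Lgr Lrot51 (Lpe (f116254 IH) (Lpe (K28.f108614 IH) (Lpr_df (f540308 IH) (Lpn (LP (LK LD1_c6 LD2_c25 LD3_c0))))))
theorem f541981 : Led Lsl_ct (LP (LK LD1_c7 LD2_c23 LD3_c7)) = (LP (LK LD1_c6 LD2_c25 LD3_c0)) :=
  Lgr Lrot98 (Lpe (f541980 IH) (Lpe (f541963 IH) (Lpr_df (f541975 IH) (Lpe (K33.f469157 IH) (Lpe (f469253 IH) (Lpr_cf (K28.f469251 IH) (Lpe (f108289 IH) (Lpr_ft (f469262 IH) (Lpr_at (f540311 IH) (Lpn (LP (LK LD1_c6 LD2_c25 LD3_c0))))))))))))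
theorem f527596 : Led Lsl_ft (LP (LK LD1_c13 LD2_c57 LD3_c53)) = (LP (LK LD1_c7 LD2_c23 LD3_c7)) :=
  Lre_f IH (LK LD1_c13 LD2_c57 LD3_c53) (LK LD1_c7 LD2_c23 LD3_c7) Lrfl Lrfl
theorem f541998 : Led Lsl_cf (LP (LK LD1_c13 LD2_c57 LD3_c53)) = (LP (LK LD1_c12 LD2_c22 LD3_c51)) :=
  Lgr Lrot108 (Lpr_ft (f527596 IH) (Lpr_ct (f541981 IH) (Lpr_ft (f540302 IH) (Lpn (LP (LK LD1_c12 LD2_c22 LD3_c51))))))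
theorem f542005 : Led Lsl_et (LP (LK LD1_c13 LD2_c57 LD3_c53)) = (LP (LK LD1_c12 LD2_c22 LD3_c50)) :=
  Lgr Lrot158 (Lpr_cf (f541998 IH) (Lpe (f205471 IH) (Lpe (K11.f205488 IH) (Lpn (LP (LK LD1_c12 LD2_c22 LD3_c50))))))
theorem f527593 : Led Lsl_ft (LP (LK LD1_c7 LD2_c23 LD3_c7)) = (LP (LK LD1_c13 LD2_c57 LD3_c53)) :=
  Lre_f IH (LK LD1_c7 LD2_c23 LD3_c7) (LK LD1_c13 LD2_c57 LD3_c53) Lrfl Lrfl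
theorem f209772 : Led Lsl_et (LP (LK LD1_c3 LD2_c41 LD3_c20)) = (LP (LK LD1_c7 LD2_c23 LD3_c7)) :=
  Lre_e IH (LK LD1_c3 LD2_c41 LD3_c20) (LK LD1_c7 LD2_c23 LD3_c7) Lrfl Lrfl
def v2579 : LQ := Led Lsl_dt (LP (LK LD1_c1 LD2_c49 LD3_c3))
theorem f527588 : Led Lsl_dt (LP (LK LD1_c1 LD2_c49 LD3_c3)) = v2579 :=
  Lrfl
theorem f147268 : Led Lsl_dt (LP (LK LD1_c3 LD2_c41 LD3_c20)) = (LP (LK LD1_c1 LD2_c47 LD3_c35)) :=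
  Lre_d IH (LK LD1_c3 LD2_c41 LD3_c20) (LK LD1_c1 LD2_c47 LD3_c35) Lrfl Lrfl
theorem f527591 : Led Lsl_ff (LP (LK LD1_c3 LD2_c41 LD3_c20)) = v2579 :=
  Lgr Lrot19 (Lpr_dt (f147268 IH) (Lpr_ft (K8.f147200 IH) (Lpr_dt (f527588 IH) (Lpn v2579))))
theorem f205557 : Led Lsl_ft (LP (LK LD1_c12 LD2_c22 LD3_c50)) = (LP (LK LD1_c6 LD2_c24 LD3_c54)) :=
  Lre_f IH (LK LD1_c12 LD2_c22 LD3_c50) (LK LD1_c6 LD2_c24 LD3_c54) Lrfl Lrfl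
theorem f542015 : v2579 = (LP (LK LD1_c3 LD2_c10 LD3_c6)) :=
  (Llr Lrot72 (Lpe (f527591 IH) (Lpr_et (f209772 IH) (Lpr_ft (f527593 IH) (Lpr_et (f542005 IH) (Lpr_ft (f205557 IH) (Lpr_et (K11.f205579 IH) (Lpn (LP (LK LD1_c3 LD2_c10 LD3_c6)))))))))).symm
theorem f527594 : Led Lsl_ft (LP (LK LD1_c3 LD2_c41 LD3_c20)) = v2579 :=
  Lgr Lrot48 (Lpr_ff (f527591 IH) (Lpn v2579))
theorem f147262 : Led Lsl_gt (LP (LK LD1_c3 LD2_c41 LD3_c20)) = (LP (LK LD1_c7 LD2_c23 LD3_c5)) :=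
  Lre_g IH (LK LD1_c3 LD2_c41 LD3_c20) (LK LD1_c7 LD2_c23 LD3_c5) Lrfl Lrfl
theorem f542024 : Led Lsl_gt (LP (LK LD1_c7 LD2_c23 LD3_c5)) = (LP (LK LD1_c4 LD2_c24 LD3_c30)) :=
  Lgr Lrot46 (Lpe (f147262 IH) (Lpr_ft (f527594 IH) (Lpqs (f542015 IH) (Lpe (K11.f205580 IH) (Lpn (LP (LK LD1_c4 LD2_c24 LD3_c30)))))))
theorem f59382 : Led Lsl_dt (LP (LK LD1_c1 LD2_c1 LD3_c57)) = (LP (LK LD1_c2 LD2_c9 LD3_c41)) :=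
  Lre_d IH (LK LD1_c1 LD2_c1 LD3_c57) (LK LD1_c2 LD2_c9 LD3_c41) Lrfl Lrfl
theorem f59383 : Led Lsl_ct (LP (LK LD1_c2 LD2_c9 LD3_c41)) = (LP (LK LD1_c4 LD2_c24 LD3_c30)) :=
  Lre_c IH (LK LD1_c2 LD2_c9 LD3_c41) (LK LD1_c4 LD2_c24 LD3_c30) Lrfl Lrfl
theorem f540317 : Led Lsl_df (LP (LK LD1_c3 LD2_c44 LD3_c2)) = (LP (LK LD1_c4 LD2_c24 LD3_c30)) :=
  Lgr Lrot106 (Lpe (K4.f116236 IH) (Lpr_dt (f540313 IH) (Lpr_ct (K14.f36469 IH) (Lpe (K1.f36434 IH) (Lpr_ct (K11.f36467 IH) (Lpe (K11.f205603 IH) (Lpe (K32.f205615 IH) (Lpr_dt (f59382 IH) (Lpr_ct (f59383 IH) (Lpn (LP (LK LD1_c4 LD2_c24 LD3_c30))))))))))))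
theorem f202813 : Led Lsl_dt (LP (LK LD1_c4 LD2_c24 LD3_c18)) = (LP (LK LD1_c8 LD2_c46 LD3_c13)) :=
  Lre_d IH (LK LD1_c4 LD2_c24 LD3_c18) (LK LD1_c8 LD2_c46 LD3_c13) Lrfl Lrfl
theorem f540783 : Led Lsl_gf (LP (LK LD1_c3 LD2_c9 LD3_c50)) = (LP (LK LD1_c4 LD2_c24 LD3_c18)) :=
  Lgr Lrot147 (Lpr_ct (K8.f133013 IH) (Lpr_gt (K6.f78334 IH) (Lpe (K11.f202772 IH) (Lpe (K11.f38153 IH) (Lpe (K11.f38179 IH) (Lpe (K11.f202039 IH) (Lpe (K6.f82054 IH) (Lpr_gf (f540777 IH) (Lpe (f202813 IH) (Lpn (LP (LK LD1_c4 LD2_c24 LD3_c18))))))))))))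
theorem f142208 : Led Lsl_dt (LP (LK LD1_c4 LD2_c0 LD3_c7)) = (LP (LK LD1_c8 LD2_c1 LD3_c15)) :=
  Lre_d IH (LK LD1_c4 LD2_c0 LD3_c7) (LK LD1_c8 LD2_c1 LD3_c15) Lrfl Lrfl
theorem f80706 : Led Lsl_et (LP (LK LD1_c2 LD2_c9 LD3_c36)) = (LP (LK LD1_c4 LD2_c24 LD3_c18)) :=
  Lre_e IH (LK LD1_c2 LD2_c9 LD3_c36) (LK LD1_c4 LD2_c24 LD3_c18) Lrfl Lrfl
theorem f37836 : Led Lsl_et (LP (LK LD1_c3 LD2_c57 LD3_c41)) = (LP (LK LD1_c7 LD2_c56 LD3_c49)) :=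
  Lre_e IH (LK LD1_c3 LD2_c57 LD3_c41) (LK LD1_c7 LD2_c56 LD3_c49) Lrfl Lrfl
theorem f37841 : Led Lsl_ct (LP (LK LD1_c4 LD2_c35 LD3_c55)) = (LP (LK LD1_c2 LD2_c15 LD3_c10)) :=
  Lre_c IH (LK LD1_c4 LD2_c35 LD3_c55) (LK LD1_c2 LD2_c15 LD3_c10) Lrfl Lrfl
theorem f37830 : Led Lsl_et (LP (LK LD1_c4 LD2_c35 LD3_c55)) = (LP (LK LD1_c2 LD2_c15 LD3_c8)) :=
  Lre_e IH (LK LD1_c4 LD2_c35 LD3_c55) (LK LD1_c2 LD2_c15 LD3_c8) Lrfl Lrfl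
theorem f37837 : Led Lsl_bf (LP (LK LD1_c4 LD2_c35 LD3_c55)) = (LP (LK LD1_c7 LD2_c56 LD3_c49)) :=
  Lgr Lrot96 (Lpr_et (f37830 IH) (Lpr_bt (K7.f37769 IH) (Lpr_et (f37836 IH) (Lpn (LP (LK LD1_c7 LD2_c56 LD3_c49))))))
theorem f37839 : Led Lsl_bt (LP (LK LD1_c4 LD2_c35 LD3_c55)) = (LP (LK LD1_c7 LD2_c56 LD3_c49)) :=
  Lgr Lrot127 (Lpr_bf (f37837 IH) (Lpn (LP (LK LD1_c7 LD2_c56 LD3_c49))))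
theorem f192673 : Led Lsl_ct (LP (LK LD1_c2 LD2_c57 LD3_c50)) = (LP (LK LD1_c1 LD2_c24 LD3_c37)) :=
  Lre_c IH (LK LD1_c2 LD2_c57 LD3_c50) (LK LD1_c1 LD2_c24 LD3_c37) Lrfl Lrfl
theorem f171538 : Led Lsl_bt (LP (LK LD1_c1 LD2_c57 LD3_c37)) = (LP (LK LD1_c4 LD2_c1 LD3_c21)) :=
  Lre_b IH (LK LD1_c1 LD2_c57 LD3_c37) (LK LD1_c4 LD2_c1 LD3_c21) Lrfl Lrfl
theorem f192664 : Led Lsl_bt (LP (LK LD1_c4 LD2_c1 LD3_c21)) = (LP (LK LD1_c1 LD2_c57 LD3_c37)) :=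
  Lre_b IH (LK LD1_c4 LD2_c1 LD3_c21) (LK LD1_c1 LD2_c57 LD3_c37) Lrfl Lrfl
theorem f192665 : Led Lsl_ct (LP (LK LD1_c2 LD2_c0 LD3_c6)) = (LP (LK LD1_c4 LD2_c1 LD3_c21)) :=
  Lgr Lrot83 (Lpe (K35.f55909 IH) (Lpe (K9.f55908 IH) (Lpr_bf (K10.f192662 IH) (Lpe (K10.f171533 IH) (Lpe (f192664 IH) (Lpn (LP (LK LD1_c4 LD2_c1 LD3_c21))))))))
theorem f175324 : Led Lsl_et (LP (LK LD1_c1 LD2_c24 LD3_c37)) = (LP (LK LD1_c2 LD2_c0 LD3_c6)) :=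
  Lgr Lrot74 (Lpe (f175322 IH) (Lpr_ef (K9.f175319 IH) (Lpe (K35.f175323 IH) (Lpn (LP (LK LD1_c2 LD2_c0 LD3_c6))))))
theorem f192674 : Led Lsl_ef (LP (LK LD1_c2 LD2_c57 LD3_c50)) = (LP (LK LD1_c4 LD2_c1 LD3_c21)) :=
  Lgr Lrot28 (Lpr_ct (f192673 IH) (Lpr_et (f175324 IH) (Lpr_ct (f192665 IH) (Lpn (LP (LK LD1_c4 LD2_c1 LD3_c21))))))
theorem f192719 : Led Lsl_bf (LP (LK LD1_c2 LD2_c10 LD3_c36)) = (LP (LK LD1_c2 LD2_c57 LD3_c50)) :=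
  Lgr Lrot96 (Lpr_et (K12.f192717 IH) (Lpr_bt (f171538 IH) (Lpe (f192674 IH) (Lpn (LP (LK LD1_c2 LD2_c57 LD3_c50))))))
theorem f101306 : Led Lsl_bt (LP (LK LD1_c2 LD2_c10 LD3_c41)) = (LP (LK LD1_c4 LD2_c27 LD3_c4)) :=
  Lre_b IH (LK LD1_c2 LD2_c10 LD3_c41) (LK LD1_c4 LD2_c27 LD3_c4) Lrfl Lrfl
theorem f538280 : Led Lsl_gf (LP (LK LD1_c7 LD2_c56 LD3_c49)) = (LP (LK LD1_c4 LD2_c27 LD3_c4)) :=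
  Lgr Lrot124 (Lpe (f37839 IH) (Lpr_ct (f37841 IH) (Lpq (K35.f538268 IH) (Lpe (K35.f501199 IH) (Lpe (f192673 IH) (Lpe (f192719 IH) (Lpe (K9.f101399 IH) (Lpr_ct (K9.f100659 IH) (Lpr_gt (K9.f101296 IH) (Lpe (K13.f101305 IH) (Lpr_bt (f101306 IH) (Lpn (LP (LK LD1_c4 LD2_c27 LD3_c4))))))))))))))
theorem f540793 : Led Lsl_et (LP (LK LD1_c4 LD2_c0 LD3_c7)) = (LP (LK LD1_c4 LD2_c27 LD3_c4)) :=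
  Lgr Lrot185 (Lpr_dt (f142208 IH) (Lpe (f142230 IH) (Lpe (K5.f112453 IH) (Lpr_gf (f540783 IH) (Lpe (f80706 IH) (Lpr_dt (K11.f80704 IH) (Lpe (K11.f202902 IH) (Lpr_df (f150063 IH) (Lpr_et (f37836 IH) (Lpr_gf (f538280 IH) (Lpn (LP (LK LD1_c4 LD2_c27 LD3_c4)))))))))))))
theorem f101318 : Led Lsl_bt (LP (LK LD1_c4 LD2_c26 LD3_c56)) = (LP (LK LD1_c2 LD2_c10 LD3_c37)) :=
  Lre_b IH (LK LD1_c4 LD2_c26 LD3_c56) (LK LD1_c2 LD2_c10 LD3_c37) Lrfl Lrfl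
theorem f198026 : Led Lsl_cf (LP (LK LD1_c4 LD2_c26 LD3_c56)) = (LP (LK LD1_c4 LD2_c27 LD3_c4)) :=
  Lgr Lrot97 (Lpr_bt (f101318 IH) (Lpr_ct (K10.f198003 IH) (Lpe (K10.f197993 IH) (Lpr_ct (K13.f101301 IH) (Lpr_bt (f101306 IH) (Lpn (LP (LK LD1_c4 LD2_c27 LD3_c4))))))))
theorem f540832 : Led Lsl_ef (LP (LK LD1_c7 LD2_c57 LD3_c7)) = (LP (LK LD1_c4 LD2_c26 LD3_c56)) :=
  Lgr Lrot28 (Lpe (f159207 IH) (Lpr_et (f540793 IH) (Lpe (f198026 IH) (Lpn (LP (LK LD1_c4 LD2_c26 LD3_c56))))))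
theorem f540971 : Led Lsl_et (LP (LK LD1_c7 LD2_c57 LD3_c7)) = (LP (LK LD1_c4 LD2_c26 LD3_c56)) :=
  Lgr Lrot87 (Lpr_ef (f540832 IH) (Lpn (LP (LK LD1_c4 LD2_c26 LD3_c56))))
theorem f198222 : Led Lsl_dt (LP (LK LD1_c4 LD2_c26 LD3_c56)) = (LP (LK LD1_c8 LD2_c51 LD3_c40)) :=
  Lre_d IH (LK LD1_c4 LD2_c26 LD3_c56) (LK LD1_c8 LD2_c51 LD3_c40) Lrfl Lrfl
theorem f239061 : Led Lsl_et (LP (LK LD1_c8 LD2_c51 LD3_c40)) = (LP (LK LD1_c16 LD2_c34 LD3_c0)) :=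
  Lre_e IH (LK LD1_c8 LD2_c51 LD3_c40) (LK LD1_c16 LD2_c34 LD3_c0) Lrfl Lrfl
theorem f177126 : Led Lsl_dt (LP (LK LD1_c1 LD2_c21 LD3_c51)) = (LP (LK LD1_c2 LD2_c51 LD3_c37)) :=
  Lre_d IH (LK LD1_c1 LD2_c21 LD3_c51) (LK LD1_c2 LD2_c51 LD3_c37) Lrfl Lrfl
theorem f177131 : Led Lsl_gt (LP (LK LD1_c5 LD2_c50 LD3_c50)) = (LP (LK LD1_c2 LD2_c51 LD3_c37)) :=
  Lre_g IH (LK LD1_c5 LD2_c50 LD3_c50) (LK LD1_c2 LD2_c51 LD3_c37) Lrfl Lrfl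
theorem f101322 : Led Lsl_et (LP (LK LD1_c4 LD2_c26 LD3_c58)) = (LP (LK LD1_c2 LD2_c10 LD3_c37)) :=
  Lre_e IH (LK LD1_c4 LD2_c26 LD3_c58) (LK LD1_c2 LD2_c10 LD3_c37) Lrfl Lrfl
theorem f239003 : Led Lsl_df (LP (LK LD1_c5 LD2_c50 LD3_c50)) = (LP (LK LD1_c4 LD2_c26 LD3_c58)) :=
  Lgr Lrot170 (Lpr_gt (f177131 IH) (Lpe (f177126 IH) (Lpr_et (K14.f238995 IH) (Lpr_gt (K12.f210335 IH) (Lpe (K12.f210326 IH) (Lpe (K12.f38926 IH) (Lpe (K1.f38964 IH) (Lpe (K12.f100954 IH) (Lpr_gt (K10.f101312 IH) (Lpe (f101322 IH) (Lpn (LP (LK LD1_c4 LD2_c26 LD3_c58)))))))))))))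
theorem f239008 : Led Lsl_et (LP (LK LD1_c5 LD2_c50 LD3_c50)) = (LP (LK LD1_c11 LD2_c29 LD3_c14)) :=
  Lre_e IH (LK LD1_c5 LD2_c50 LD3_c50) (LK LD1_c11 LD2_c29 LD3_c14) Lrfl Lrfl
theorem f198005 : Led Lsl_et (LP (LK LD1_c2 LD2_c10 LD3_c37)) = (LP (LK LD1_c4 LD2_c26 LD3_c58)) :=
  Lre_e IH (LK LD1_c2 LD2_c10 LD3_c37) (LK LD1_c4 LD2_c26 LD3_c58) Lrfl Lrfl
theorem f239009 : Led Lsl_dt (LP (LK LD1_c11 LD2_c29 LD3_c14)) = (LP (LK LD1_c8 LD2_c51 LD3_c42)) :=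
  Lgr Lrot77 (Lpe (f239008 IH) (Lpr_df (f239003 IH) (Lpe (f198005 IH) (Lpe (K12.f43028 IH) (Lpe (K16.f198398 IH) (Lpn (LP (LK LD1_c8 LD2_c51 LD3_c42))))))))
theorem f239015 : Led Lsl_bt (LP (LK LD1_c20 LD2_c26 LD3_c20)) = (LP (LK LD1_c11 LD2_c29 LD3_c14)) :=
  Lre_b IH (LK LD1_c20 LD2_c26 LD3_c20) (LK LD1_c11 LD2_c29 LD3_c14) Lrfl Lrfl
theorem f239016 : Led Lsl_bt (LP (LK LD1_c8 LD2_c51 LD3_c42)) = (LP (LK LD1_c16 LD2_c34 LD3_c0)) :=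
  Lre_b IH (LK LD1_c8 LD2_c51 LD3_c42) (LK LD1_c16 LD2_c34 LD3_c0) Lrfl Lrfl
theorem f239017 : Led Lsl_df (LP (LK LD1_c20 LD2_c26 LD3_c20)) = (LP (LK LD1_c16 LD2_c34 LD3_c0)) :=
  Lgr Lrot12 (Lpr_bt (f239015 IH) (Lpr_dt (f239009 IH) (Lpr_bt (f239016 IH) (Lpn (LP (LK LD1_c16 LD2_c34 LD3_c0))))))
theorem f239059 : Led Lsl_et (LP (LK LD1_c20 LD2_c26 LD3_c20)) = (LP (LK LD1_c11 LD2_c29 LD3_c13)) :=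
  Lre_e IH (LK LD1_c20 LD2_c26 LD3_c20) (LK LD1_c11 LD2_c29 LD3_c13) Lrfl Lrfl
theorem f541060 : Led Lsl_df (LP (LK LD1_c7 LD2_c57 LD3_c7)) = (LP (LK LD1_c11 LD2_c29 LD3_c13)) :=
  Lgr Lrot70 (Lpr_et (f540971 IH) (Lpr_dt (f198222 IH) (Lpr_et (f239061 IH) (Lpe (f239017 IH) (Lpr_et (f239059 IH) (Lpn (LP (LK LD1_c11 LD2_c29 LD3_c13))))))))
theorem f3050 : Led Lsl_bt (LP (LK LD1_c4 LD2_c0 LD3_c7)) = (LP (LK LD1_c1 LD2_c56 LD3_c50)) :=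
  Lre_b IH (LK LD1_c4 LD2_c0 LD3_c7) (LK LD1_c1 LD2_c56 LD3_c50) Lrfl Lrfl
theorem f159218 : Led Lsl_ct (LP (LK LD1_c4 LD2_c0 LD3_c7)) = (LP (LK LD1_c7 LD2_c57 LD3_c7)) :=
  Lgr Lrot63 (Lpr_bt (f3050 IH) (Lpr_gt (K8.f3037 IH) (Lpe (K6.f2955 IH) (Lpr_ct (K1.f3026 IH) (Lpr_gt (K1.f2962 IH) (Lpr_cf (K1.f36936 IH) (Lpr_bt (K1.f36933 IH) (Lpr_gt (K6.f36940 IH) (Lpr_ct (K6.f37050 IH) (Lpr_gt (f159214 IH) (Lpn (LP (LK LD1_c7 LD2_c57 LD3_c7)))))))))))))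
theorem f142217 : Led Lsl_dt (LP (LK LD1_c4 LD2_c36 LD3_c54)) = (LP (LK LD1_c9 LD2_c9 LD3_c37)) :=
  Lre_d IH (LK LD1_c4 LD2_c36 LD3_c54) (LK LD1_c9 LD2_c9 LD3_c37) Lrfl Lrfl
theorem f142219 : Led Lsl_ff (LP (LK LD1_c4 LD2_c36 LD3_c54)) = (LP (LK LD1_c4 LD2_c0 LD3_c7)) :=
  Lgr Lrot19 (Lpr_dt (f142217 IH) (Lpr_ft (K8.f142213 IH) (Lpr_dt (f142218 IH) (Lpn (LP (LK LD1_c4 LD2_c0 LD3_c7))))))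
theorem f137909 : Led Lsl_at (LP (LK LD1_c4 LD2_c36 LD3_c54)) = (LP (LK LD1_c2 LD2_c15 LD3_c41)) :=
  Lre_a IH (LK LD1_c4 LD2_c36 LD3_c54) (LK LD1_c2 LD2_c15 LD3_c41) Lrfl Lrfl
theorem f142234 : Led Lsl_gf (LP (LK LD1_c4 LD2_c24 LD3_c41)) = (LP (LK LD1_c4 LD2_c0 LD3_c7)) :=
  Lgr Lrot47 (Lpr_gt (K6.f137907 IH) (Lpe (f137909 IH) (Lpr_ff (f142219 IH) (Lpn (LP (LK LD1_c4 LD2_c0 LD3_c7))))))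
theorem f142236 : Led Lsl_gt (LP (LK LD1_c4 LD2_c24 LD3_c33)) = (LP (LK LD1_c4 LD2_c0 LD3_c7)) :=
  Lgr Lrot5 (Lpr_ft (K6.f137839 IH) (Lpe (K6.f137892 IH) (Lpr_gf (f142234 IH) (Lpn (LP (LK LD1_c4 LD2_c0 LD3_c7))))))
theorem f137876 : Led Lsl_ct (LP (LK LD1_c2 LD2_c9 LD3_c50)) = (LP (LK LD1_c4 LD2_c24 LD3_c33)) :=
  Lgr Lrot59 (Lpr_cf (K6.f137868 IH) (Lpn (LP (LK LD1_c4 LD2_c24 LD3_c33))))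
theorem f541068 : Led Lsl_ct (LP (LK LD1_c9 LD2_c25 LD3_c36)) = (LP (LK LD1_c11 LD2_c29 LD3_c13)) :=
  Lgr Lrot110 (Lpe (f138654 IH) (Lpe (f36031 IH) (Lpe (K6.f36029 IH) (Lpe (K2.f35995 IH) (Lpr_gt (K8.f36005 IH) (Lpr_ct (f137876 IH) (Lpr_gt (f142236 IH) (Lpr_ct (f159218 IH) (Lpr_df (f541060 IH) (Lpn (LP (LK LD1_c11 LD2_c29 LD3_c13))))))))))))
theorem f271964 : Led Lsl_ff (LP (LK LD1_c1 LD2_c58 LD3_c1)) = (LP (LK LD1_c1 LD2_c57 LD3_c33)) :=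
  Lgr Lrot19 (Lpr_dt (K12.f193464 IH) (Lpr_ft (K16.f271960 IH) (Lpr_dt (K13.f182459 IH) (Lpn (LP (LK LD1_c1 LD2_c57 LD3_c33))))))
theorem f411215 : Led Lsl_ft (LP (LK LD1_c4 LD2_c26 LD3_c58)) = (LP (LK LD1_c4 LD2_c1 LD3_c18)) :=
  Lgr Lrot86 (Lpe (f198005 IH) (Lpe (K16.f271876 IH) (Lpr_ef (K12.f193491 IH) (Lpr_ff (f271964 IH) (Lpe (K32.f241155 IH) (Lpn (LP (LK LD1_c4 LD2_c1 LD3_c18))))))))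
theorem f411219 : Led Lsl_ff (LP (LK LD1_c4 LD2_c26 LD3_c58)) = (LP (LK LD1_c4 LD2_c1 LD3_c18)) :=
  Lgr Lrot3 (Lpr_ft (f411215 IH) (Lpn (LP (LK LD1_c4 LD2_c1 LD3_c18))))
theorem f411221 : Led Lsl_ft (LP (LK LD1_c5 LD2_c50 LD3_c50)) = (LP (LK LD1_c6 LD2_c25 LD3_c32)) :=
  Lgr Lrot54 (Lpr_df (f239003 IH) (Lpr_ff (f411219 IH) (Lpr_df (K32.f407956 IH) (Lpn (LP (LK LD1_c6 LD2_c25 LD3_c32))))))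
theorem f239013 : Led Lsl_bt (LP (LK LD1_c11 LD2_c29 LD3_c13)) = (LP (LK LD1_c5 LD2_c50 LD3_c50)) :=
  Lre_b IH (LK LD1_c11 LD2_c29 LD3_c13) (LK LD1_c5 LD2_c50 LD3_c50) Lrfl Lrfl
theorem f407955 : Led Lsl_bt (LP (LK LD1_c6 LD2_c25 LD3_c32)) = (LP (LK LD1_c12 LD2_c23 LD3_c46)) :=
  Lre_b IH (LK LD1_c6 LD2_c25 LD3_c32) (LK LD1_c12 LD2_c23 LD3_c46) Lrfl Lrfl
theorem f411223 : Led Lsl_ff (LP (LK LD1_c11 LD2_c29 LD3_c13)) = (LP (LK LD1_c12 LD2_c23 LD3_c46)) :=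
  Lgr Lrot25 (Lpr_bt (f239013 IH) (Lpr_ft (f411221 IH) (Lpr_bt (f407955 IH) (Lpn (LP (LK LD1_c12 LD2_c23 LD3_c46))))))
theorem f411317 : Led Lsl_ft (LP (LK LD1_c11 LD2_c29 LD3_c13)) = (LP (LK LD1_c12 LD2_c23 LD3_c46)) :=
  Lgr Lrot48 (Lpr_ff (f411223 IH) (Lpn (LP (LK LD1_c12 LD2_c23 LD3_c46))))
theorem f541080 : Led Lsl_cf (LP (LK LD1_c16 LD2_c24 LD3_c17)) = (LP (LK LD1_c12 LD2_c23 LD3_c46)) :=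
  Lgr Lrot108 (Lpe (f159139 IH) (Lpr_ct (f541068 IH) (Lpr_ft (f411317 IH) (Lpn (LP (LK LD1_c12 LD2_c23 LD3_c46))))))
theorem f407951 : Led Lsl_bt (LP (LK LD1_c12 LD2_c23 LD3_c46)) = (LP (LK LD1_c6 LD2_c25 LD3_c32)) :=
  Lre_b IH (LK LD1_c12 LD2_c23 LD3_c46) (LK LD1_c6 LD2_c25 LD3_c32) Lrfl Lrfl
theorem f541096 : Led Lsl_cf (LP (LK LD1_c7 LD2_c23 LD3_c1)) = (LP (LK LD1_c4 LD2_c24 LD3_c32)) :=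
  Lgr Lrot125 (Lpe (K34.f209768 IH) (Lpr_cf (K8.f159589 IH) (Lpr_bt (K6.f119018 IH) (Lpr_gt (K8.f99814 IH) (Lpe (K5.f119008 IH) (Lpr_ct (K5.f80694 IH) (Lpe (f138660 IH) (Lpr_cf (f541080 IH) (Lpr_bt (f407951 IH) (Lpe (K32.f407949 IH) (Lpn (LP (LK LD1_c4 LD2_c24 LD3_c32)))))))))))))
theorem f541100 : Led Lsl_ct (LP (LK LD1_c7 LD2_c23 LD3_c1)) = (LP (LK LD1_c4 LD2_c24 LD3_c32)) :=
  Lgr Lrot59 (Lpr_cf (f541096 IH) (Lpn (LP (LK LD1_c4 LD2_c24 LD3_c32))))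
theorem f80708 : Led Lsl_gt (LP (LK LD1_c8 LD2_c2 LD3_c8)) = (LP (LK LD1_c4 LD2_c0 LD3_c38)) :=
  Lre_g IH (LK LD1_c8 LD2_c2 LD3_c8) (LK LD1_c4 LD2_c0 LD3_c38) Lrfl Lrfl
theorem f542028 : Led Lsl_cf (LP (LK LD1_c7 LD2_c23 LD3_c5)) = (LP (LK LD1_c8 LD2_c2 LD3_c8)) :=
  Lgr Lrot166 (Lpr_gt (f542024 IH) (Lpe (f540317 IH) (Lpe (K24.f147204 IH) (Lpr_dt (K34.f147206 IH) (Lpr_ct (f541100 IH) (Lpe (K32.f205323 IH) (Lpr_gf (K14.f255526 IH) (Lpe (K14.f80707 IH) (Lpe (f80708 IH) (Lpn (LP (LK LD1_c8 LD2_c2 LD3_c8))))))))))))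
theorem f205650 : Led Lsl_bt (LP (LK LD1_c2 LD2_c9 LD3_c41)) = (LP (LK LD1_c4 LD2_c24 LD3_c23)) :=
  Lre_b IH (LK LD1_c2 LD2_c9 LD3_c41) (LK LD1_c4 LD2_c24 LD3_c23) Lrfl Lrfl
theorem f38189 : Led Lsl_bt (LP (LK LD1_c6 LD2_c13 LD3_c48)) = (LP (LK LD1_c3 LD2_c4 LD3_c12)) :=
  Lre_b IH (LK LD1_c6 LD2_c13 LD3_c48) (LK LD1_c3 LD2_c4 LD3_c12) Lrfl Lrfl
theorem f542032 : Led Lsl_bt (LP (LK LD1_c8 LD2_c2 LD3_c8)) = (LP (LK LD1_c4 LD2_c36 LD3_c7)) :=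
  Lgr Lrot92 (Lpe (f542028 IH) (Lpr_gt (f542024 IH) (Lpe (f59383 IH) (Lpr_bt (f205650 IH) (Lpr_gt (f538504 IH) (Lpr_ct (f540422 IH) (Lpr_gt (f38184 IH) (Lpe (K11.f38186 IH) (Lpr_bt (f38189 IH) (Lpe (K11.f202161 IH) (Lpn (LP (LK LD1_c4 LD2_c36 LD3_c7)))))))))))))
theorem f514718 : Led Lsl_af (LP (LK LD1_c1 LD2_c42 LD3_c51)) = v2338 :=
  Lgr Lrot0 (Lpr_at (f514717 IH) (Lpn v2338))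
theorem f540315 : Led Lsl_cf (LP (LK LD1_c3 LD2_c41 LD3_c20)) = (LP (LK LD1_c3 LD2_c10 LD3_c7)) :=
  Lgr Lrot161 (Lpr_dt (f147268 IH) (Lpr_ct (K24.f124026 IH) (Lpr_af (f514718 IH) (Lpe (f514726 IH) (Lpr_dt (f540313 IH) (Lpr_ct (K14.f36469 IH) (Lpe (K1.f36434 IH) (Lpr_ct (K11.f36467 IH) (Lpr_dt (K11.f36468 IH) (Lpn (LP (LK LD1_c3 LD2_c10 LD3_c7))))))))))))
theorem f542049 : Led Lsl_bt (LP (LK LD1_c3 LD2_c10 LD3_c7)) = (LP (LK LD1_c5 LD2_c46 LD3_c48)) :=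
  Lgr Lrot92 (Lpe (f540315 IH) (Lpr_gt (f147262 IH) (Lpr_cf (f542028 IH) (Lpr_bt (f542032 IH) (Lpr_gt (K11.f149932 IH) (Lpr_ct (K6.f59233 IH) (Lpe (K7.f149926 IH) (Lpe (K7.f149036 IH) (Lpr_bt (K7.f149920 IH) (Lpe (K7.f149003 IH) (Lpn (LP (LK LD1_c5 LD2_c46 LD3_c48)))))))))))))
theorem f205652 : Led Lsl_bt (LP (LK LD1_c3 LD2_c9 LD3_c61)) = (LP (LK LD1_c1 LD2_c31 LD3_c11)) :=
  Lre_b IH (LK LD1_c3 LD2_c9 LD3_c61) (LK LD1_c1 LD2_c31 LD3_c11) Lrfl Lrfl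
theorem f542057 : Led Lsl_ff (LP (LK LD1_c3 LD2_c9 LD3_c61)) = (LP (LK LD1_c5 LD2_c46 LD3_c48)) :=
  Lgr Lrot25 (Lpr_bt (f205652 IH) (Lpr_ft (K11.f36437 IH) (Lpr_bt (f542049 IH) (Lpn (LP (LK LD1_c5 LD2_c46 LD3_c48))))))
theorem f542062 : Led Lsl_ft (LP (LK LD1_c3 LD2_c9 LD3_c61)) = (LP (LK LD1_c5 LD2_c46 LD3_c48)) :=
  Lgr Lrot48 (Lpr_ff (f542057 IH) (Lpn (LP (LK LD1_c5 LD2_c46 LD3_c48))))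
theorem f206872 : Led Lsl_af (LP (LK LD1_c4 LD2_c39 LD3_c56)) = (LP (LK LD1_c5 LD2_c46 LD3_c48)) :=
  Lgr Lrot117 (Lpr_dt (K7.f79955 IH) (Lpr_at (K11.f206866 IH) (Lpr_dt (K6.f72987 IH) (Lpn (LP (LK LD1_c5 LD2_c46 LD3_c48))))))
theorem f542070 : Led Lsl_gt (LP (LK LD1_c3 LD2_c9 LD3_c61)) = (LP (LK LD1_c4 LD2_c36 LD3_c53)) :=
  Lgr Lrot5 (Lpr_ft (f542062 IH) (Lpe (f206872 IH) (Lpr_gf (K7.f79959 IH) (Lpn (LP (LK LD1_c4 LD2_c36 LD3_c53))))))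
theorem f205595 : Led Lsl_bt (LP (LK LD1_c1 LD2_c31 LD3_c11)) = (LP (LK LD1_c3 LD2_c9 LD3_c61)) :=
  Lre_b IH (LK LD1_c1 LD2_c31 LD3_c11) (LK LD1_c3 LD2_c9 LD3_c61) Lrfl Lrfl
theorem f205195 : Led Lsl_gt (LP (LK LD1_c6 LD2_c24 LD3_c61)) = (LP (LK LD1_c3 LD2_c10 LD3_c6)) :=
  Lre_g IH (LK LD1_c6 LD2_c24 LD3_c61) (LK LD1_c3 LD2_c10 LD3_c6) Lrfl Lrfl
theorem f36447 : Led Lsl_ct (LP (LK LD1_c4 LD2_c24 LD3_c10)) = (LP (LK LD1_c2 LD2_c9 LD3_c32)) :=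
  Lre_c IH (LK LD1_c4 LD2_c24 LD3_c10) (LK LD1_c2 LD2_c9 LD3_c32) Lrfl Lrfl
theorem f36455 : Led Lsl_ct (LP (LK LD1_c2 LD2_c9 LD3_c32)) = (LP (LK LD1_c4 LD2_c24 LD3_c10)) :=
  Lre_c IH (LK LD1_c2 LD2_c9 LD3_c32) (LK LD1_c4 LD2_c24 LD3_c10) Lrfl Lrfl
theorem f36456 : Led Lsl_ef (LP (LK LD1_c2 LD2_c9 LD3_c59)) = (LP (LK LD1_c4 LD2_c24 LD3_c10)) :=
  Lgr Lrot28 (Lpr_ct (K12.f36454 IH) (Lpr_et (K10.f36452 IH) (Lpr_ct (f36455 IH) (Lpn (LP (LK LD1_c4 LD2_c24 LD3_c10))))))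
theorem f56616 : Led Lsl_et (LP (LK LD1_c1 LD2_c6 LD3_c25)) = (LP (LK LD1_c0 LD2_c30 LD3_c23)) :=
  Lre_e IH (LK LD1_c1 LD2_c6 LD3_c25) (LK LD1_c0 LD2_c30 LD3_c23) Lrfl Lrfl
theorem f59142 : Led Lsl_gt (LP (LK LD1_c4 LD2_c42 LD3_c44)) = (LP (LK LD1_c2 LD2_c18 LD3_c49)) :=
  Lre_g IH (LK LD1_c4 LD2_c42 LD3_c44) (LK LD1_c2 LD2_c18 LD3_c49) Lrfl Lrfl
theorem f227402 : Led Lsl_dt (LP (LK LD1_c4 LD2_c24 LD3_c10)) = (LP (LK LD1_c4 LD2_c42 LD3_c44)) :=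
  Lgr Lrot136 (Lpe (f36456 IH) (Lpr_gf (K12.f227337 IH) (Lpe (K1.f37997 IH) (Lpr_dt (K1.f37996 IH) (Lpr_gf (K2.f69486 IH) (Lpe (K1.f36397 IH) (Lpe (K1.f59168 IH) (Lpe (f56616 IH) (Lpr_dt (K14.f56617 IH) (Lpe (f59142 IH) (Lpn (LP (LK LD1_c4 LD2_c42 LD3_c44)))))))))))))
theorem f227404 : Led Lsl_df (LP (LK LD1_c4 LD2_c24 LD3_c10)) = (LP (LK LD1_c4 LD2_c42 LD3_c44)) :=
  Lgr Lrot38 (Lpr_dt (f227402 IH) (Lpn (LP (LK LD1_c4 LD2_c42 LD3_c44))))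
theorem f255485 : Led Lsl_gt (LP (LK LD1_c5 LD2_c50 LD3_c48)) = (LP (LK LD1_c4 LD2_c42 LD3_c44)) :=
  Lgr Lrot49 (Lpe (K14.f205194 IH) (Lpr_gf (K14.f255481 IH) (Lpe (K14.f36335 IH) (Lpe (K12.f210867 IH) (Lpr_dt (K12.f227712 IH) (Lpr_gt (K12.f227730 IH) (Lpr_dt (K12.f36450 IH) (Lpe (f36447 IH) (Lpr_df (f227404 IH) (Lpn (LP (LK LD1_c4 LD2_c42 LD3_c44))))))))))))
theorem f205196 : Led Lsl_dt (LP (LK LD1_c5 LD2_c50 LD3_c48)) = (LP (LK LD1_c2 LD2_c51 LD3_c36)) :=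
  Lre_d IH (LK LD1_c5 LD2_c50 LD3_c48) (LK LD1_c2 LD2_c51 LD3_c36) Lrfl Lrfl
theorem f36429 : Led Lsl_ct (LP (LK LD1_c3 LD2_c10 LD3_c6)) = (LP (LK LD1_c1 LD2_c31 LD3_c11)) :=
  Lre_c IH (LK LD1_c3 LD2_c10 LD3_c6) (LK LD1_c1 LD2_c31 LD3_c11) Lrfl Lrfl
theorem f413402 : Led Lsl_cf (LP (LK LD1_c6 LD2_c24 LD3_c61)) = (LP (LK LD1_c4 LD2_c42 LD3_c44)) :=
  Lgr Lrot169 (Lpr_gt (f205195 IH) (Lpr_ct (f36429 IH) (Lpe (K35.f59727 IH) (Lpe (K13.f56333 IH) (Lpe (K12.f205179 IH) (Lpe (K32.f177129 IH) (Lpe (K14.f177132 IH) (Lpe (f205196 IH) (Lpr_gt (f255485 IH) (Lpn (LP (LK LD1_c4 LD2_c42 LD3_c44))))))))))))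
theorem f542076 : Led Lsl_bt (LP (LK LD1_c4 LD2_c42 LD3_c44)) = (LP (LK LD1_c4 LD2_c35 LD3_c15)) :=
  Lgr Lrot92 (Lpe (f413402 IH) (Lpr_gt (f205195 IH) (Lpe (K11.f205590 IH) (Lpr_bt (f205595 IH) (Lpr_gt (f542070 IH) (Lpr_ct (K32.f80108 IH) (Lpe (K7.f150161 IH) (Lpe (K7.f40088 IH) (Lpr_bt (K32.f150167 IH) (Lpr_gt (K32.f420329 IH) (Lpn (LP (LK LD1_c4 LD2_c35 LD3_c15)))))))))))))
theorem f449023 : Led Lsl_ft (LP (LK LD1_c1 LD2_c5 LD3_c55)) = (LP (LK LD1_c0 LD2_c41 LD3_c1)) :=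
  Lgr Lrot2 (Lpe (K13.f198062 IH) (Lpr_gt (K10.f198253 IH) (Lpr_af (K11.f449013 IH) (Lpn (LP (LK LD1_c0 LD2_c41 LD3_c1))))))
theorem f449031 : Led Lsl_ff (LP (LK LD1_c1 LD2_c5 LD3_c55)) = (LP (LK LD1_c0 LD2_c41 LD3_c1)) :=
  Lgr Lrot3 (Lpr_ft (f449023 IH) (Lpn (LP (LK LD1_c0 LD2_c41 LD3_c1))))
theorem f449039 : Led Lsl_at (LP (LK LD1_c1 LD2_c5 LD3_c55)) = (LP (LK LD1_c1 LD2_c1 LD3_c53)) :=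
  Lgr Lrot26 (Lpr_ff (f449031 IH) (Lpr_gt (K12.f210316 IH) (Lpr_gt (K12.f227730 IH) (Lpn (LP (LK LD1_c1 LD2_c1 LD3_c53))))))
theorem f449015 : Led Lsl_at (LP (LK LD1_c0 LD2_c37 LD3_c35)) = (LP (LK LD1_c0 LD2_c41 LD3_c1)) :=
  Lgr Lrot100 (Lpr_af (K11.f449013 IH) (Lpn (LP (LK LD1_c0 LD2_c41 LD3_c1))))
theorem f449049 : Led Lsl_ff (LP (LK LD1_c0 LD2_c37 LD3_c35)) = (LP (LK LD1_c1 LD2_c1 LD3_c53)) :=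
  Lgr Lrot30 (Lpr_at (f449015 IH) (Lpe (f449031 IH) (Lpr_at (f449039 IH) (Lpn (LP (LK LD1_c1 LD2_c1 LD3_c53))))))
def v110 : LQ := Led Lsl_ft (LP (LK LD1_c0 LD2_c16 LD3_c44))
theorem f448913 : Led Lsl_ft (LP (LK LD1_c0 LD2_c16 LD3_c44)) = v110 :=
  Lrfl
theorem f449057 : v110 = (LP (LK LD1_c0 LD2_c29 LD3_c16)) :=
  (Llr Lrot75 (Lpe (f448913 IH) (Lpe (K11.f146352 IH) (Lpr_ff (f449049 IH) (Lpr_bf (K12.f205224 IH) (Lpn (LP (LK LD1_c0 LD2_c29 LD3_c16)))))))).symm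
theorem f449064 : Led Lsl_ff (LP (LK LD1_c0 LD2_c37 LD3_c37)) = (LP (LK LD1_c1 LD2_c4 LD3_c5)) :=
  Lgr Lrot19 (Lpr_dt (K9.f24520 IH) (Lpr_ft (f448913 IH) (Lpqs (f449057 IH) (Lpr_dt (K9.f26631 IH) (Lpn (LP (LK LD1_c1 LD2_c4 LD3_c5)))))))
theorem f448999 : Led Lsl_gf (LP (LK LD1_c1 LD2_c4 LD3_c3)) = K35.v122 :=
  Lgr Lrot141 (Lpe (K9.f60170 IH) (Lpe (K9.f60205 IH) (Lpr_gt (f313676 IH) (Lpe (K24.f313672 IH) (Lpe (K19.f24227 IH) (Lpr_gt (K10.f26660 IH) (Lpr_dt (K9.f22425 IH) (Lpr_gt (K9.f164265 IH) (Lpe (K12.f9451 IH) (Lpr_et (K35.f448993 IH) (Lpn K35.v122)))))))))))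
theorem f449070 : Led Lsl_at (LP (LK LD1_c0 LD2_c37 LD3_c37)) = (LP (LK LD1_c1 LD2_c4 LD3_c3)) :=
  Lgr Lrot26 (Lpr_ff (f449064 IH) (Lpr_gt (f448998 IH) (Lpe (f448999 IH) (Lpn (LP (LK LD1_c1 LD2_c4 LD3_c3))))))
theorem f449078 : K11.v109 = (LP (LK LD1_c0 LD2_c29 LD3_c15)) :=
  (Llr Lrot117 (Lpe (K11.f448910 IH) (Lpr_dt (K9.f24554 IH) (Lpr_at (f449070 IH) (Lpr_dt (K9.f20779 IH) (Lpn (LP (LK LD1_c0 LD2_c29 LD3_c15)))))))).symm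
theorem f449083 : K11.v123 = (LP (LK LD1_c0 LD2_c30 LD3_c6)) :=
  Lefun (Lecon (K11.f449012 IH) (f449078 IH)) (K10.f198323 IH)
theorem f449092 : Led Lsl_ff (LP (LK LD1_c0 LD2_c41 LD3_c6)) = (LP (LK LD1_c1 LD2_c5 LD3_c53)) :=
  Lgr Lrot19 (Lpr_dt (K10.f59014 IH) (Lpr_ft (K11.f449009 IH) (Lpqs (f449083 IH) (Lpr_dt (K10.f25987 IH) (Lpn (LP (LK LD1_c1 LD2_c5 LD3_c53)))))))
theorem f449098 : Led Lsl_at (LP (LK LD1_c0 LD2_c41 LD3_c6)) = (LP (LK LD1_c1 LD2_c5 LD3_c56)) :=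
  Lgr Lrot26 (Lpr_ff (f449092 IH) (Lpr_gt (K10.f175530 IH) (Lpe (K12.f186448 IH) (Lpn (LP (LK LD1_c1 LD2_c5 LD3_c56))))))
theorem f449102 : Led Lsl_af (LP (LK LD1_c0 LD2_c32 LD3_c48)) = (LP (LK LD1_c0 LD2_c39 LD3_c55)) :=
  Lgr Lrot50 (Lpr_et (K10.f59525 IH) (Lpr_at (f449098 IH) (Lpr_et (K11.f185948 IH) (Lpn (LP (LK LD1_c0 LD2_c39 LD3_c55))))))
theorem f449110 : Led Lsl_ft (LP (LK LD1_c0 LD2_c32 LD3_c49)) = (LP (LK LD1_c0 LD2_c39 LD3_c55)) :=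
  Lgr Lrot2 (Lpr_gt (K10.f59524 IH) (Lpr_gt (K10.f37720 IH) (Lpr_af (f449102 IH) (Lpn (LP (LK LD1_c0 LD2_c39 LD3_c55))))))
theorem f449118 : Led Lsl_ff (LP (LK LD1_c0 LD2_c32 LD3_c49)) = (LP (LK LD1_c0 LD2_c39 LD3_c55)) :=
  Lgr Lrot3 (Lpr_ft (f449110 IH) (Lpn (LP (LK LD1_c0 LD2_c39 LD3_c55))))
theorem f449126 : Led Lsl_at (LP (LK LD1_c0 LD2_c32 LD3_c49)) = (LP (LK LD1_c0 LD2_c39 LD3_c56)) :=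
  Lgr Lrot26 (Lpr_ff (f449118 IH) (Lpe (K10.f37715 IH) (Lpr_gt (K10.f37710 IH) (Lpn (LP (LK LD1_c0 LD2_c39 LD3_c56))))))
theorem f449104 : Led Lsl_at (LP (LK LD1_c0 LD2_c32 LD3_c48)) = (LP (LK LD1_c0 LD2_c39 LD3_c55)) :=
  Lgr Lrot100 (Lpr_af (f449102 IH) (Lpn (LP (LK LD1_c0 LD2_c39 LD3_c55))))
theorem f449136 : Led Lsl_ff (LP (LK LD1_c0 LD2_c32 LD3_c48)) = (LP (LK LD1_c0 LD2_c39 LD3_c56)) :=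
  Lgr Lrot30 (Lpr_at (f449104 IH) (Lpe (f449118 IH) (Lpr_at (f449126 IH) (Lpn (LP (LK LD1_c0 LD2_c39 LD3_c56))))))
def v119 : LQ := Led Lsl_ft (LP (LK LD1_c0 LD2_c17 LD3_c2))
theorem f448966 : Led Lsl_ft (LP (LK LD1_c0 LD2_c17 LD3_c2)) = v119 :=
  Lrfl
theorem f449146 : v119 = (LP (LK LD1_c0 LD2_c29 LD3_c31)) :=
  (Llr Lrot75 (Lpe (f448966 IH) (Lpr_bf (K11.f198483 IH) (Lpr_ff (f449136 IH) (Lpe (K10.f198305 IH) (Lpn (LP (LK LD1_c0 LD2_c29 LD3_c31)))))))).symm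
theorem f449153 : Led Lsl_ff (LP (LK LD1_c0 LD2_c36 LD3_c22)) = (LP (LK LD1_c1 LD2_c3 LD3_c18)) :=
  Lgr Lrot19 (Lpe (K9.f24241 IH) (Lpr_ft (f448966 IH) (Lpqs (f449146 IH) (Lpr_dt (K9.f164270 IH) (Lpn (LP (LK LD1_c1 LD2_c3 LD3_c18)))))))
theorem f449161 : Led Lsl_at (LP (LK LD1_c0 LD2_c36 LD3_c22)) = (LP (LK LD1_c1 LD2_c3 LD3_c19)) :=
  Lgr Lrot26 (Lpr_ff (f449153 IH) (Lpe (K9.f164674 IH) (Lpr_gt (K9.f164302 IH) (Lpn (LP (LK LD1_c1 LD2_c3 LD3_c19))))))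
def v118 : LQ := Led Lsl_at (LP (LK LD1_c0 LD2_c17 LD3_c2))
theorem f448962 : Led Lsl_at (LP (LK LD1_c0 LD2_c17 LD3_c2)) = v118 :=
  Lrfl
theorem f448963 : Led Lsl_af (LP (LK LD1_c0 LD2_c17 LD3_c2)) = v118 :=
  Lgr Lrot0 (Lpr_at (f448962 IH) (Lpn v118))
theorem f449169 : v118 = (LP (LK LD1_c0 LD2_c29 LD3_c30)) :=
  (Llr Lrot117 (Lpe (f448963 IH) (Lpr_dt (K9.f24217 IH) (Lpr_at (f449161 IH) (Lpr_dt (K9.f26629 IH) (Lpn (LP (LK LD1_c0 LD2_c29 LD3_c30)))))))).symm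
theorem f448964 : Led Lsl_ft (LP (LK LD1_c0 LD2_c17 LD3_c3)) = v118 :=
  Lgr Lrot2 (Lpr_gt (K9.f24221 IH) (Lpr_gt (K9.f24216 IH) (Lpr_af (f448963 IH) (Lpn v118))))
theorem f449180 : Led Lsl_ff (LP (LK LD1_c0 LD2_c36 LD3_c45)) = (LP (LK LD1_c1 LD2_c3 LD3_c32)) :=
  Lgr Lrot72 (Lpr_et (K9.f176901 IH) (Lpr_ft (f448964 IH) (Lpqs (f449169 IH) (Lpr_et (K9.f26658 IH) (Lpe (f449064 IH) (Lpr_et (K9.f176885 IH) (Lpn (LP (LK LD1_c1 LD2_c3 LD3_c32)))))))))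
theorem f449188 : Led Lsl_at (LP (LK LD1_c0 LD2_c36 LD3_c45)) = (LP (LK LD1_c1 LD2_c3 LD3_c31)) :=
  Lgr Lrot26 (Lpr_ff (f449180 IH) (Lpr_gt (K9.f20218 IH) (Lpr_gt (K9.f20227 IH) (Lpn (LP (LK LD1_c1 LD2_c3 LD3_c31))))))
theorem f449076 : Led Lsl_af (LP (LK LD1_c1 LD2_c3 LD3_c32)) = (LP (LK LD1_c0 LD2_c36 LD3_c46)) :=
  Lgr Lrot50 (Lpe (K9.f176890 IH) (Lpr_at (f449070 IH) (Lpe (K9.f60163 IH) (Lpn (LP (LK LD1_c0 LD2_c36 LD3_c46))))))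
theorem f449196 : Led Lsl_ff (LP (LK LD1_c0 LD2_c36 LD3_c46)) = (LP (LK LD1_c1 LD2_c3 LD3_c31)) :=
  Lgr Lrot30 (Lpe (f449076 IH) (Lpe (f449180 IH) (Lpr_at (f449188 IH) (Lpn (LP (LK LD1_c1 LD2_c3 LD3_c31))))))
theorem f449202 : Led Lsl_ft (LP (LK LD1_c0 LD2_c36 LD3_c46)) = (LP (LK LD1_c1 LD2_c3 LD3_c31)) :=
  Lgr Lrot48 (Lpr_ff (f449196 IH) (Lpn (LP (LK LD1_c1 LD2_c3 LD3_c31))))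
theorem f449208 : Led Lsl_ff (LP (LK LD1_c1 LD2_c19 LD3_c39)) = (LP (LK LD1_c2 LD2_c12 LD3_c58)) :=
  Lgr Lrot23 (Lpr_ct (K10.f60157 IH) (Lpr_ft (f449202 IH) (Lpr_ct (K16.f20228 IH) (Lpn (LP (LK LD1_c2 LD2_c12 LD3_c58))))))
theorem f449212 : Led Lsl_at (LP (LK LD1_c1 LD2_c19 LD3_c39)) = (LP (LK LD1_c2 LD2_c12 LD3_c59)) :=
  Lgr Lrot26 (Lpr_ff (f449208 IH) (Lpr_gt (K16.f268655 IH) (Lpe (K24.f268637 IH) (Lpn (LP (LK LD1_c2 LD2_c12 LD3_c59))))))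
theorem f449218 : Led Lsl_af (LP (LK LD1_c2 LD2_c14 LD3_c2)) = (LP (LK LD1_c1 LD2_c21 LD3_c31)) :=
  Lgr Lrot50 (Lpe (K11.f60175 IH) (Lpr_at (f449212 IH) (Lpe (K11.f176888 IH) (Lpn (LP (LK LD1_c1 LD2_c21 LD3_c31))))))
theorem f449220 : Led Lsl_at (LP (LK LD1_c1 LD2_c31 LD3_c21)) = (LP (LK LD1_c2 LD2_c19 LD3_c0)) :=
  Lgr Lrot51 (Lpe (K11.f68626 IH) (Lpr_af (f449218 IH) (Lpr_df (K11.f177076 IH) (Lpn (LP (LK LD1_c2 LD2_c19 LD3_c0))))))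
theorem f449226 : Led Lsl_ff (LP (LK LD1_c1 LD2_c31 LD3_c21)) = (LP (LK LD1_c2 LD2_c19 LD3_c1)) :=
  Lgr Lrot52 (Lpr_at (f449220 IH) (Lpe (K11.f26976 IH) (Lpe (K11.f27056 IH) (Lpn (LP (LK LD1_c2 LD2_c19 LD3_c1))))))
theorem f449230 : Led Lsl_ft (LP (LK LD1_c1 LD2_c31 LD3_c21)) = (LP (LK LD1_c2 LD2_c19 LD3_c1)) :=
  Lgr Lrot48 (Lpr_ff (f449226 IH) (Lpn (LP (LK LD1_c2 LD2_c19 LD3_c1))))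
theorem f204347 : Led Lsl_gt (LP (LK LD1_c1 LD2_c31 LD3_c21)) = (LP (LK LD1_c2 LD2_c19 LD3_c3)) :=
  Lgr Lrot46 (Lpe (K11.f68625 IH) (Lpr_ft (K11.f25985 IH) (Lpr_at (K11.f204335 IH) (Lpn (LP (LK LD1_c2 LD2_c19 LD3_c3))))))
theorem f177099 : Led Lsl_gt (LP (LK LD1_c0 LD2_c16 LD3_c46)) = (LP (LK LD1_c0 LD2_c29 LD3_c16)) :=
  Lgr Lrot146 (Lpr_dt (K9.f176876 IH) (Lpe (K11.f146304 IH) (Lpr_ct (K11.f68647 IH) (Lpr_gt (K11.f68648 IH) (Lpr_ct (K11.f25945 IH) (Lpr_dt (K10.f25930 IH) (Lpe (K10.f25926 IH) (Lpe (K11.f26787 IH) (Lpe (K11.f26678 IH) (Lpn (LP (LK LD1_c0 LD2_c29 LD3_c16))))))))))))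
theorem f193816 : Led Lsl_dt (LP (LK LD1_c1 LD2_c31 LD3_c22)) = (LP (LK LD1_c2 LD2_c14 LD3_c6)) :=
  Lgr Lrot42 (Lpr_df (K12.f193814 IH) (Lpn (LP (LK LD1_c2 LD2_c14 LD3_c6))))
theorem f204805 : Led Lsl_gf (LP (LK LD1_c1 LD2_c31 LD3_c22)) = (LP (LK LD1_c2 LD2_c19 LD3_c3)) :=
  Lgr Lrot143 (Lpr_dt (f193816 IH) (Lpe (K12.f26671 IH) (Lpe (K9.f26631 IH) (Lpe (f177099 IH) (Lpr_df (K13.f177097 IH) (Lpe (K11.f146311 IH) (Lpe (K11.f22131 IH) (Lpr_gt (K13.f204803 IH) (Lpr_dt (K11.f59036 IH) (Lpn (LP (LK LD1_c2 LD2_c19 LD3_c3))))))))))))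
theorem f449234 : Led Lsl_af (LP (LK LD1_c1 LD2_c31 LD3_c22)) = (LP (LK LD1_c2 LD2_c19 LD3_c1)) :=
  Lgr Lrot31 (Lpr_gf (f204805 IH) (Lpe (f204347 IH) (Lpr_ft (f449230 IH) (Lpn (LP (LK LD1_c2 LD2_c19 LD3_c1))))))
theorem f449222 : Led Lsl_af (LP (LK LD1_c1 LD2_c31 LD3_c21)) = (LP (LK LD1_c2 LD2_c19 LD3_c0)) :=
  Lgr Lrot0 (Lpr_at (f449220 IH) (Lpn (LP (LK LD1_c2 LD2_c19 LD3_c0))))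
theorem f449240 : Led Lsl_ft (LP (LK LD1_c1 LD2_c31 LD3_c22)) = (LP (LK LD1_c2 LD2_c19 LD3_c0)) :=
  Lgr Lrot101 (Lpr_af (f449234 IH) (Lpe (f449230 IH) (Lpr_af (f449222 IH) (Lpn (LP (LK LD1_c2 LD2_c19 LD3_c0))))))
theorem f449242 : Led Lsl_ff (LP (LK LD1_c1 LD2_c31 LD3_c22)) = (LP (LK LD1_c2 LD2_c19 LD3_c0)) :=
  Lgr Lrot3 (Lpr_ft (f449240 IH) (Lpn (LP (LK LD1_c2 LD2_c19 LD3_c0))))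
theorem f449244 : Led Lsl_ft (LP (LK LD1_c2 LD2_c14 LD3_c6)) = (LP (LK LD1_c1 LD2_c21 LD3_c31)) :=
  Lgr Lrot54 (Lpe (f193816 IH) (Lpr_ff (f449242 IH) (Lpe (K11.f177073 IH) (Lpn (LP (LK LD1_c1 LD2_c21 LD3_c31))))))
theorem f449228 : Led Lsl_ft (LP (LK LD1_c2 LD2_c14 LD3_c2)) = (LP (LK LD1_c1 LD2_c21 LD3_c35)) :=
  Lgr Lrot54 (Lpr_df (K11.f68628 IH) (Lpr_ff (f449226 IH) (Lpe (K11.f198513 IH) (Lpn (LP (LK LD1_c1 LD2_c21 LD3_c35))))))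
theorem f449246 : Led Lsl_af (LP (LK LD1_c2 LD2_c14 LD3_c6)) = (LP (LK LD1_c1 LD2_c21 LD3_c35)) :=
  Lgr Lrot45 (Lpr_ft (f449244 IH) (Lpe (f449218 IH) (Lpr_ft (f449228 IH) (Lpn (LP (LK LD1_c1 LD2_c21 LD3_c35))))))
theorem f449250 : Led Lsl_at (LP (LK LD1_c1 LD2_c4 LD3_c30)) = (LP (LK LD1_c0 LD2_c38 LD3_c15)) :=
  Lgr Lrot80 (Lpr_ef (K12.f26672 IH) (Lpr_af (f449246 IH) (Lpr_ef (f198519 IH) (Lpn (LP (LK LD1_c0 LD2_c38 LD3_c15))))))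
theorem f449256 : Led Lsl_ff (LP (LK LD1_c1 LD2_c4 LD3_c30)) = (LP (LK LD1_c0 LD2_c38 LD3_c17)) :=
  Lgr Lrot52 (Lpr_at (f449250 IH) (Lpr_gf (K11.f198501 IH) (Lpr_gf (K10.f24468 IH) (Lpn (LP (LK LD1_c0 LD2_c38 LD3_c17))))))
theorem f449262 : Led Lsl_ft (LP (LK LD1_c2 LD2_c12 LD3_c59)) = (LP (LK LD1_c1 LD2_c19 LD3_c38)) :=
  Lgr Lrot86 (Lpe (K11.f176893 IH) (Lpe (f449244 IH) (Lpe (f26713 IH) (Lpr_ff (f449256 IH) (Lpe (K35.f176998 IH) (Lpn (LP (LK LD1_c1 LD2_c19 LD3_c38))))))))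
theorem f449266 : Led Lsl_ff (LP (LK LD1_c4 LD2_c31 LD3_c55)) = (LP (LK LD1_c2 LD2_c46 LD3_c30)) :=
  Lgr Lrot19 (Lpr_dt (K11.f27010 IH) (Lpr_ft (f449262 IH) (Lpr_dt (K35.f176898 IH) (Lpn (LP (LK LD1_c2 LD2_c46 LD3_c30))))))
theorem f449270 : Led Lsl_ft (LP (LK LD1_c4 LD2_c31 LD3_c55)) = (LP (LK LD1_c2 LD2_c46 LD3_c30)) :=
  Lgr Lrot48 (Lpr_ff (f449266 IH) (Lpn (LP (LK LD1_c2 LD2_c46 LD3_c30))))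
theorem f449272 : Led Lsl_af (LP (LK LD1_c4 LD2_c31 LD3_c54)) = (LP (LK LD1_c2 LD2_c46 LD3_c30)) :=
  Lgr Lrot31 (Lpe (K16.f175511 IH) (Lpr_gf (K24.f268506 IH) (Lpr_ft (f449270 IH) (Lpn (LP (LK LD1_c2 LD2_c46 LD3_c30))))))
theorem f164284 : Led Lsl_et (LP (LK LD1_c4 LD2_c31 LD3_c54)) = (LP (LK LD1_c9 LD2_c1 LD3_c38)) :=
  Lre_e IH (LK LD1_c4 LD2_c31 LD3_c54) (LK LD1_c9 LD2_c1 LD3_c38) Lrfl Lrfl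
theorem f449274 : Led Lsl_at (LP (LK LD1_c9 LD2_c1 LD3_c38)) = (LP (LK LD1_c5 LD2_c40 LD3_c61)) :=
  Lgr Lrot80 (Lpe (f164284 IH) (Lpr_af (f449272 IH) (Lpe (f177000 IH) (Lpn (LP (LK LD1_c5 LD2_c40 LD3_c61))))))
theorem f164283 : Led Lsl_et (LP (LK LD1_c4 LD2_c35 LD3_c14)) = (LP (LK LD1_c2 LD2_c14 LD3_c48)) :=
  Lre_e IH (LK LD1_c4 LD2_c35 LD3_c14) (LK LD1_c2 LD2_c14 LD3_c48) Lrfl Lrfl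
theorem f164285 : Led Lsl_df (LP (LK LD1_c4 LD2_c35 LD3_c14)) = (LP (LK LD1_c9 LD2_c1 LD3_c38)) :=
  Lgr Lrot70 (Lpr_et (f164283 IH) (Lpr_dt (K16.f164274 IH) (Lpr_et (K10.f164280 IH) (Lpr_dt (K10.f60207 IH) (Lpr_et (f164284 IH) (Lpn (LP (LK LD1_c9 LD2_c1 LD3_c38))))))))
theorem f164288 : Led Lsl_dt (LP (LK LD1_c4 LD2_c35 LD3_c14)) = (LP (LK LD1_c9 LD2_c1 LD3_c38)) :=
  Lgr Lrot42 (Lpr_df (f164285 IH) (Lpn (LP (LK LD1_c9 LD2_c1 LD3_c38))))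
theorem f449278 : Led Lsl_af (LP (LK LD1_c4 LD2_c35 LD3_c14)) = (LP (LK LD1_c2 LD2_c53 LD3_c1)) :=
  Lgr Lrot117 (Lpr_dt (f164288 IH) (Lpr_at (f449274 IH) (Lpr_dt (f177007 IH) (Lpn (LP (LK LD1_c2 LD2_c53 LD3_c1))))))
theorem f449282 : Led Lsl_at (LP (LK LD1_c2 LD2_c14 LD3_c48)) = (LP (LK LD1_c1 LD2_c22 LD3_c36)) :=
  Lgr Lrot80 (Lpe (f164283 IH) (Lpr_af (f449278 IH) (Lpe (f24491 IH) (Lpn (LP (LK LD1_c1 LD2_c22 LD3_c36))))))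
theorem f449289 : Led Lsl_ff (LP (LK LD1_c2 LD2_c14 LD3_c48)) = (LP (LK LD1_c1 LD2_c22 LD3_c33)) :=
  Lgr Lrot52 (Lpr_at (f449282 IH) (Lpe (K16.f198527 IH) (Lpe (K16.f198505 IH) (Lpn (LP (LK LD1_c1 LD2_c22 LD3_c33))))))
theorem f449294 : Led Lsl_ft (LP (LK LD1_c2 LD2_c14 LD3_c48)) = (LP (LK LD1_c1 LD2_c22 LD3_c33)) :=
  Lgr Lrot48 (Lpr_ff (f449289 IH) (Lpn (LP (LK LD1_c1 LD2_c22 LD3_c33))))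
theorem f449299 : Led Lsl_ff (LP (LK LD1_c1 LD2_c4 LD3_c31)) = (LP (LK LD1_c0 LD2_c38 LD3_c15)) :=
  Lgr Lrot19 (Lpr_dt (K10.f164269 IH) (Lpr_ft (f449294 IH) (Lpr_dt (K10.f24239 IH) (Lpn (LP (LK LD1_c0 LD2_c38 LD3_c15))))))
theorem f164275 : Led Lsl_bt (LP (LK LD1_c1 LD2_c4 LD3_c31)) = (LP (LK LD1_c2 LD2_c14 LD3_c47)) :=
  Lre_b IH (LK LD1_c1 LD2_c4 LD3_c31) (LK LD1_c2 LD2_c14 LD3_c47) Lrfl Lrfl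
theorem f449303 : Led Lsl_ft (LP (LK LD1_c2 LD2_c14 LD3_c47)) = (LP (LK LD1_c1 LD2_c22 LD3_c32)) :=
  Lgr Lrot75 (Lpe (f164275 IH) (Lpr_ff (f449299 IH) (Lpe (f198497 IH) (Lpn (LP (LK LD1_c1 LD2_c22 LD3_c32))))))
theorem f449307 : Led Lsl_ff (LP (LK LD1_c2 LD2_c14 LD3_c47)) = (LP (LK LD1_c1 LD2_c22 LD3_c32)) :=
  Lgr Lrot3 (Lpr_ft (f449303 IH) (Lpn (LP (LK LD1_c1 LD2_c22 LD3_c32))))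
theorem f211060 : Led Lsl_bt (LP (LK LD1_c1 LD2_c4 LD3_c26)) = (LP (LK LD1_c2 LD2_c14 LD3_c39)) :=
  Lre_b IH (LK LD1_c1 LD2_c4 LD3_c26) (LK LD1_c2 LD2_c14 LD3_c39) Lrfl Lrfl
theorem f211061 : Led Lsl_ct (LP (LK LD1_c2 LD2_c14 LD3_c39)) = (LP (LK LD1_c1 LD2_c22 LD3_c32)) :=
  Lgr Lrot83 (Lpe (f211060 IH) (Lpr_cf (K12.f211058 IH) (Lpe (K11.f198485 IH) (Lpe (K10.f24238 IH) (Lpe (f198497 IH) (Lpn (LP (LK LD1_c1 LD2_c22 LD3_c32))))))))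
theorem f449309 : Led Lsl_ft (LP (LK LD1_c1 LD2_c22 LD3_c27)) = (LP (LK LD1_c2 LD2_c14 LD3_c39)) :=
  Lgr Lrot4 (Lpr_cf (f418970 IH) (Lpr_ff (f449307 IH) (Lpe (f211061 IH) (Lpn (LP (LK LD1_c2 LD2_c14 LD3_c39))))))
theorem f211799 : Led Lsl_dt (LP (LK LD1_c2 LD2_c52 LD3_c48)) = (LP (LK LD1_c1 LD2_c22 LD3_c27)) :=
  Lre_d IH (LK LD1_c2 LD2_c52 LD3_c48) (LK LD1_c1 LD2_c22 LD3_c27) Lrfl Lrfl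
theorem f211074 : Led Lsl_dt (LP (LK LD1_c2 LD2_c14 LD3_c39)) = (LP (LK LD1_c4 LD2_c35 LD3_c6)) :=
  Lre_d IH (LK LD1_c2 LD2_c14 LD3_c39) (LK LD1_c4 LD2_c35 LD3_c6) Lrfl Lrfl
theorem f449311 : Led Lsl_ff (LP (LK LD1_c2 LD2_c52 LD3_c48)) = (LP (LK LD1_c4 LD2_c35 LD3_c6)) :=
  Lgr Lrot19 (Lpr_dt (f211799 IH) (Lpr_ft (f449309 IH) (Lpr_dt (f211074 IH) (Lpn (LP (LK LD1_c4 LD2_c35 LD3_c6))))))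
theorem f449345 : Led Lsl_ft (LP (LK LD1_c2 LD2_c52 LD3_c48)) = (LP (LK LD1_c4 LD2_c35 LD3_c6)) :=
  Lgr Lrot48 (Lpr_ff (f449311 IH) (Lpn (LP (LK LD1_c4 LD2_c35 LD3_c6))))
theorem f449349 : Led Lsl_bt (LP (LK LD1_c1 LD2_c22 LD3_c28)) = (LP (LK LD1_c2 LD2_c52 LD3_c48)) :=
  Lre_b IH (LK LD1_c1 LD2_c22 LD3_c28) (LK LD1_c2 LD2_c52 LD3_c48) Lrfl Lrfl
theorem f26639 : Led Lsl_bt (LP (LK LD1_c4 LD2_c35 LD3_c6)) = (LP (LK LD1_c2 LD2_c14 LD3_c40)) :=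
  Lre_b IH (LK LD1_c4 LD2_c35 LD3_c6) (LK LD1_c2 LD2_c14 LD3_c40) Lrfl Lrfl
theorem f449350 : Led Lsl_ff (LP (LK LD1_c1 LD2_c22 LD3_c28)) = (LP (LK LD1_c2 LD2_c14 LD3_c40)) :=
  Lgr Lrot25 (Lpr_bt (f449349 IH) (Lpr_ft (f449345 IH) (Lpr_bt (f26639 IH) (Lpn (LP (LK LD1_c2 LD2_c14 LD3_c40))))))
theorem f140764 : Led Lsl_dt (LP (LK LD1_c2 LD2_c14 LD3_c42)) = (LP (LK LD1_c1 LD2_c4 LD3_c27)) :=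
  Lre_d IH (LK LD1_c2 LD2_c14 LD3_c42) (LK LD1_c1 LD2_c4 LD3_c27) Lrfl Lrfl
theorem f210992 : Led Lsl_cf (LP (LK LD1_c1 LD2_c5 LD3_c54)) = (LP (LK LD1_c1 LD2_c18 LD3_c51)) :=
  Lgr Lrot11 (Lpr_ct (K12.f210988 IH) (Lpn (LP (LK LD1_c1 LD2_c18 LD3_c51))))
theorem f227461 : Led Lsl_gf (LP (LK LD1_c2 LD2_c14 LD3_c42)) = (LP (LK LD1_c2 LD2_c59 LD3_c56)) :=
  Lgr Lrot143 (Lpr_dt (f140764 IH) (Lpr_cf (K12.f227453 IH) (Lpe (K10.f186475 IH) (Lpr_gf (K10.f186467 IH) (Lpe (K10.f179892 IH) (Lpe (K10.f180269 IH) (Lpr_cf (f210992 IH) (Lpe (K12.f211682 IH) (Lpr_dt (K12.f20736 IH) (Lpn (LP (LK LD1_c2 LD2_c59 LD3_c56))))))))))))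
theorem f449365 : Led Lsl_at (LP (LK LD1_c1 LD2_c22 LD3_c28)) = (LP (LK LD1_c2 LD2_c14 LD3_c42)) :=
  Lgr Lrot26 (Lpr_ff (f449350 IH) (Lpe (K12.f26635 IH) (Lpe (f227461 IH) (Lpn (LP (LK LD1_c2 LD2_c14 LD3_c42))))))
theorem f449367 : Led Lsl_af (LP (LK LD1_c1 LD2_c22 LD3_c28)) = (LP (LK LD1_c2 LD2_c14 LD3_c42)) :=
  Lgr Lrot0 (Lpr_at (f449365 IH) (Lpn (LP (LK LD1_c2 LD2_c14 LD3_c42))))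
theorem f380359 : Led Lsl_gt (LP (LK LD1_c1 LD2_c22 LD3_c26)) = (LP (LK LD1_c2 LD2_c45 LD3_c13)) :=
  Lgr Lrot49 (Lpe (K35.f24246 IH) (Lpe (K11.f24245 IH) (Lpe (K11.f24244 IH) (Lpr_gt (K9.f24216 IH) (Lpr_dt (K9.f24217 IH) (Lpr_gt (K9.f8412 IH) (Lpr_dt (K9.f24247 IH) (Lpr_cf (f380349 IH) (Lpe (K12.f211691 IH) (Lpn (LP (LK LD1_c2 LD2_c45 LD3_c13))))))))))))
theorem f449380 : Led Lsl_ft (LP (LK LD1_c1 LD2_c22 LD3_c26)) = (LP (LK LD1_c2 LD2_c14 LD3_c42)) :=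
  Lgr Lrot2 (Lpr_gt (f380359 IH) (Lpe (f380373 IH) (Lpr_af (f449367 IH) (Lpn (LP (LK LD1_c2 LD2_c14 LD3_c42))))))
theorem f449386 : Led Lsl_ff (LP (LK LD1_c1 LD2_c22 LD3_c26)) = (LP (LK LD1_c2 LD2_c14 LD3_c42)) :=
  Lgr Lrot3 (Lpr_ft (f449380 IH) (Lpn (LP (LK LD1_c2 LD2_c14 LD3_c42))))
theorem f449390 : Led Lsl_bt (LP (LK LD1_c1 LD2_c22 LD3_c26)) = (LP (LK LD1_c2 LD2_c52 LD3_c47)) :=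
  Lre_b IH (LK LD1_c1 LD2_c22 LD3_c26) (LK LD1_c2 LD2_c52 LD3_c47) Lrfl Lrfl
theorem f165053 : Led Lsl_bt (LP (LK LD1_c4 LD2_c35 LD3_c7)) = (LP (LK LD1_c2 LD2_c14 LD3_c42)) :=
  Lre_b IH (LK LD1_c4 LD2_c35 LD3_c7) (LK LD1_c2 LD2_c14 LD3_c42) Lrfl Lrfl
theorem f449391 : Led Lsl_ft (LP (LK LD1_c2 LD2_c52 LD3_c47)) = (LP (LK LD1_c4 LD2_c35 LD3_c7)) :=
  Lgr Lrot75 (Lpe (f449390 IH) (Lpr_ff (f449386 IH) (Lpe (f165053 IH) (Lpn (LP (LK LD1_c4 LD2_c35 LD3_c7))))))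
theorem f449396 : Led Lsl_dt (LP (LK LD1_c1 LD2_c22 LD3_c25)) = (LP (LK LD1_c2 LD2_c52 LD3_c47)) :=
  Lre_d IH (LK LD1_c1 LD2_c22 LD3_c25) (LK LD1_c2 LD2_c52 LD3_c47) Lrfl Lrfl
theorem f418553 : Led Lsl_dt (LP (LK LD1_c4 LD2_c35 LD3_c7)) = (LP (LK LD1_c2 LD2_c14 LD3_c41)) :=
  Lre_d IH (LK LD1_c4 LD2_c35 LD3_c7) (LK LD1_c2 LD2_c14 LD3_c41) Lrfl Lrfl
theorem f449397 : Led Lsl_ff (LP (LK LD1_c1 LD2_c22 LD3_c25)) = (LP (LK LD1_c2 LD2_c14 LD3_c41)) :=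
  Lgr Lrot19 (Lpr_dt (f449396 IH) (Lpr_ft (f449391 IH) (Lpr_dt (f418553 IH) (Lpn (LP (LK LD1_c2 LD2_c14 LD3_c41))))))
theorem f449404 : Led Lsl_ft (LP (LK LD1_c1 LD2_c22 LD3_c25)) = (LP (LK LD1_c2 LD2_c14 LD3_c41)) :=
  Lgr Lrot48 (Lpr_ff (f449397 IH) (Lpn (LP (LK LD1_c2 LD2_c14 LD3_c41))))
theorem f210678 : Led Lsl_ct (LP (LK LD1_c2 LD2_c52 LD3_c46)) = (LP (LK LD1_c1 LD2_c22 LD3_c25)) :=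
  Lre_c IH (LK LD1_c2 LD2_c52 LD3_c46) (LK LD1_c1 LD2_c22 LD3_c25) Lrfl Lrfl
theorem f227661 : Led Lsl_bf (LP (LK LD1_c0 LD2_c32 LD3_c49)) = (LP (LK LD1_c1 LD2_c2 LD3_c4)) :=
  Lgr Lrot34 (Lpe (K10.f186493 IH) (Lpe (K1.f27247 IH) (Lpr_ct (K1.f27251 IH) (Lpe (K12.f227392 IH) (Lpe (K12.f35473 IH) (Lpe (K10.f35446 IH) (Lpe (K1.f35630 IH) (Lpr_ct (K1.f38382 IH) (Lpr_gf (K12.f227609 IH) (Lpe (K12.f35470 IH) (Lpn (LP (LK LD1_c1 LD2_c2 LD3_c4)))))))))))))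
theorem f227456 : Led Lsl_bt (LP (LK LD1_c1 LD2_c4 LD3_c27)) = (LP (LK LD1_c2 LD2_c14 LD3_c41)) :=
  Lre_b IH (LK LD1_c1 LD2_c4 LD3_c27) (LK LD1_c2 LD2_c14 LD3_c41) Lrfl Lrfl
theorem f227660 : Led Lsl_bt (LP (LK LD1_c4 LD2_c25 LD3_c5)) = (LP (LK LD1_c2 LD2_c9 LD3_c60)) :=
  Lre_b IH (LK LD1_c4 LD2_c25 LD3_c5) (LK LD1_c2 LD2_c9 LD3_c60) Lrfl Lrfl
theorem f418549 : Led Lsl_ct (LP (LK LD1_c2 LD2_c14 LD3_c41)) = (LP (LK LD1_c4 LD2_c25 LD3_c5)) :=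
  Lgr Lrot83 (Lpe (f227456 IH) (Lpr_cf (K12.f227453 IH) (Lpr_bf (f227661 IH) (Lpe (K12.f35472 IH) (Lpe (f227660 IH) (Lpn (LP (LK LD1_c4 LD2_c25 LD3_c5))))))))
theorem f449407 : Led Lsl_ff (LP (LK LD1_c2 LD2_c52 LD3_c46)) = (LP (LK LD1_c4 LD2_c25 LD3_c5)) :=
  Lgr Lrot23 (Lpr_ct (f210678 IH) (Lpr_ft (f449404 IH) (Lpr_ct (f418549 IH) (Lpn (LP (LK LD1_c4 LD2_c25 LD3_c5))))))
theorem f210684 : Led Lsl_dt (LP (LK LD1_c2 LD2_c52 LD3_c46)) = (LP (LK LD1_c5 LD2_c52 LD3_c58)) :=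
  Lre_d IH (LK LD1_c2 LD2_c52 LD3_c46) (LK LD1_c5 LD2_c52 LD3_c58) Lrfl Lrfl
theorem f418555 : Led Lsl_dt (LP (LK LD1_c8 LD2_c47 LD3_c47)) = (LP (LK LD1_c4 LD2_c25 LD3_c5)) :=
  Lre_d IH (LK LD1_c8 LD2_c47 LD3_c47) (LK LD1_c4 LD2_c25 LD3_c5) Lrfl Lrfl
theorem f449413 : Led Lsl_ft (LP (LK LD1_c5 LD2_c52 LD3_c58)) = (LP (LK LD1_c8 LD2_c47 LD3_c47)) :=
  Lgr Lrot54 (Lpe (f210684 IH) (Lpr_ff (f449407 IH) (Lpe (f418555 IH) (Lpn (LP (LK LD1_c8 LD2_c47 LD3_c47))))))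
theorem f449421 : Led Lsl_ff (LP (LK LD1_c5 LD2_c52 LD3_c58)) = (LP (LK LD1_c8 LD2_c47 LD3_c47)) :=
  Lgr Lrot3 (Lpr_ft (f449413 IH) (Lpn (LP (LK LD1_c8 LD2_c47 LD3_c47))))
theorem f210677 : Led Lsl_bt (LP (LK LD1_c1 LD2_c22 LD3_c25)) = (LP (LK LD1_c0 LD2_c38 LD3_c11)) :=
  Lre_b IH (LK LD1_c1 LD2_c22 LD3_c25) (LK LD1_c0 LD2_c38 LD3_c11) Lrfl Lrfl
theorem f210681 : Led Lsl_bf (LP (LK LD1_c2 LD2_c52 LD3_c46)) = (LP (LK LD1_c2 LD2_c26 LD3_c56)) :=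
  Lgr Lrot90 (Lpr_ct (f210678 IH) (Lpr_bt (f210677 IH) (Lpr_ct (K12.f210669 IH) (Lpe (K11.f198066 IH) (Lpr_ct (K10.f82190 IH) (Lpn (LP (LK LD1_c2 LD2_c26 LD3_c56))))))))
theorem f210685 : Led Lsl_bt (LP (LK LD1_c5 LD2_c52 LD3_c58)) = (LP (LK LD1_c4 LD2_c58 LD3_c11)) :=
  Lgr Lrot95 (Lpe (f210684 IH) (Lpr_bf (f210681 IH) (Lpe (K12.f198075 IH) (Lpn (LP (LK LD1_c4 LD2_c58 LD3_c11))))))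
theorem f272696 : Led Lsl_bt (LP (LK LD1_c4 LD2_c25 LD3_c6)) = (LP (LK LD1_c8 LD2_c47 LD3_c47)) :=
  Lre_b IH (LK LD1_c4 LD2_c25 LD3_c6) (LK LD1_c8 LD2_c47 LD3_c47) Lrfl Lrfl
theorem f449423 : Led Lsl_ft (LP (LK LD1_c4 LD2_c58 LD3_c11)) = (LP (LK LD1_c4 LD2_c25 LD3_c6)) :=
  Lgr Lrot75 (Lpe (f210685 IH) (Lpr_ff (f449421 IH) (Lpe (f272696 IH) (Lpn (LP (LK LD1_c4 LD2_c25 LD3_c6))))))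
theorem f449437 : Led Lsl_af (LP (LK LD1_c2 LD2_c52 LD3_c60)) = (LP (LK LD1_c4 LD2_c25 LD3_c6)) :=
  Lgr Lrot31 (Lpe (K18.f24434 IH) (Lpe (K18.f242149 IH) (Lpr_ft (f449423 IH) (Lpn (LP (LK LD1_c4 LD2_c25 LD3_c6))))))
theorem f177029 : Led Lsl_et (LP (LK LD1_c2 LD2_c52 LD3_c60)) = (LP (LK LD1_c5 LD2_c53 LD3_c18)) :=
  Lre_e IH (LK LD1_c2 LD2_c52 LD3_c60) (LK LD1_c5 LD2_c53 LD3_c18) Lrfl Lrfl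
theorem f236569 : Led Lsl_et (LP (LK LD1_c8 LD2_c47 LD3_c49)) = (LP (LK LD1_c4 LD2_c25 LD3_c6)) :=
  Lre_e IH (LK LD1_c8 LD2_c47 LD3_c49) (LK LD1_c4 LD2_c25 LD3_c6) Lrfl Lrfl
theorem f449445 : Led Lsl_at (LP (LK LD1_c5 LD2_c53 LD3_c18)) = (LP (LK LD1_c8 LD2_c47 LD3_c49)) :=
  Lgr Lrot80 (Lpe (f177029 IH) (Lpr_af (f449437 IH) (Lpe (f236569 IH) (Lpn (LP (LK LD1_c8 LD2_c47 LD3_c49))))))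
theorem f177037 : Led Lsl_ft (LP (LK LD1_c11 LD2_c32 LD3_c43)) = (LP (LK LD1_c5 LD2_c53 LD3_c18)) :=
  Lre_f IH (LK LD1_c11 LD2_c32 LD3_c43) (LK LD1_c5 LD2_c53 LD3_c18) Lrfl Lrfl
theorem f418518 : Led Lsl_ft (LP (LK LD1_c8 LD2_c47 LD3_c49)) = (LP (LK LD1_c16 LD2_c27 LD3_c45)) :=
  Lre_f IH (LK LD1_c8 LD2_c47 LD3_c49) (LK LD1_c16 LD2_c27 LD3_c45) Lrfl Lrfl
theorem f449453 : Led Lsl_af (LP (LK LD1_c11 LD2_c32 LD3_c43)) = (LP (LK LD1_c16 LD2_c27 LD3_c45)) :=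
  Lgr Lrot45 (Lpr_ft (f177037 IH) (Lpr_at (f449445 IH) (Lpr_ft (f418518 IH) (Lpn (LP (LK LD1_c16 LD2_c27 LD3_c45))))))
theorem f177027 : Led Lsl_dt (LP (LK LD1_c5 LD2_c40 LD3_c60)) = (LP (LK LD1_c2 LD2_c46 LD3_c29)) :=
  Lre_d IH (LK LD1_c5 LD2_c40 LD3_c60) (LK LD1_c2 LD2_c46 LD3_c29) Lrfl Lrfl
theorem f177028 : Led Lsl_et (LP (LK LD1_c11 LD2_c12 LD3_c34)) = (LP (LK LD1_c5 LD2_c40 LD3_c60)) :=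
  Lre_e IH (LK LD1_c11 LD2_c12 LD3_c34) (LK LD1_c5 LD2_c40 LD3_c60) Lrfl Lrfl
theorem f177030 : Led Lsl_df (LP (LK LD1_c11 LD2_c12 LD3_c34)) = (LP (LK LD1_c5 LD2_c53 LD3_c18)) :=
  Lgr Lrot70 (Lpr_et (f177028 IH) (Lpr_dt (f177027 IH) (Lpr_et (K13.f177024 IH) (Lpr_dt (K11.f24560 IH) (Lpr_et (f177029 IH) (Lpn (LP (LK LD1_c5 LD2_c53 LD3_c18))))))))
theorem f177036 : Led Lsl_ft (LP (LK LD1_c11 LD2_c12 LD3_c34)) = (LP (LK LD1_c20 LD2_c7 LD3_c9)) :=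
  Lre_f IH (LK LD1_c11 LD2_c12 LD3_c34) (LK LD1_c20 LD2_c7 LD3_c9) Lrfl Lrfl
theorem f177038 : Led Lsl_dt (LP (LK LD1_c20 LD2_c7 LD3_c9)) = (LP (LK LD1_c11 LD2_c32 LD3_c43)) :=
  Lgr Lrot60 (Lpe (f177036 IH) (Lpr_df (f177030 IH) (Lpe (f177037 IH) (Lpn (LP (LK LD1_c11 LD2_c32 LD3_c43))))))
theorem f177058 : Led Lsl_df (LP (LK LD1_c20 LD2_c7 LD3_c9)) = (LP (LK LD1_c11 LD2_c32 LD3_c43)) :=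
  Lgr Lrot38 (Lpr_dt (f177038 IH) (Lpn (LP (LK LD1_c11 LD2_c32 LD3_c43))))
theorem f236572 : Led Lsl_et (LP (LK LD1_c8 LD2_c43 LD3_c51)) = (LP (LK LD1_c16 LD2_c20 LD3_c61)) :=
  Lre_e IH (LK LD1_c8 LD2_c43 LD3_c51) (LK LD1_c16 LD2_c20 LD3_c61) Lrfl Lrfl
theorem f418511 : Led Lsl_dt (LP (LK LD1_c16 LD2_c20 LD3_c61)) = (LP (LK LD1_c8 LD2_c47 LD3_c49)) :=
  Lgr Lrot77 (Lpe (f236572 IH) (Lpe (K13.f225586 IH) (Lpr_ef (K13.f227686 IH) (Lpe (K18.f227657 IH) (Lpe (f236569 IH) (Lpn (LP (LK LD1_c8 LD2_c47 LD3_c49))))))))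
theorem f418517 : Led Lsl_ft (LP (LK LD1_c26 LD2_c19 LD3_c1)) = (LP (LK LD1_c16 LD2_c20 LD3_c61)) :=
  Lre_f IH (LK LD1_c26 LD2_c19 LD3_c1) (LK LD1_c16 LD2_c20 LD3_c61) Lrfl Lrfl
theorem f418519 : Led Lsl_df (LP (LK LD1_c26 LD2_c19 LD3_c1)) = (LP (LK LD1_c16 LD2_c27 LD3_c45)) :=
  Lgr Lrot78 (Lpr_ft (f418517 IH) (Lpr_dt (f418511 IH) (Lpr_ft (f418518 IH) (Lpn (LP (LK LD1_c16 LD2_c27 LD3_c45))))))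
theorem f418539 : Led Lsl_dt (LP (LK LD1_c26 LD2_c19 LD3_c1)) = (LP (LK LD1_c16 LD2_c27 LD3_c45)) :=
  Lgr Lrot42 (Lpr_df (f418519 IH) (Lpn (LP (LK LD1_c16 LD2_c27 LD3_c45))))
theorem f449459 : Led Lsl_at (LP (LK LD1_c20 LD2_c7 LD3_c9)) = (LP (LK LD1_c26 LD2_c19 LD3_c1)) :=
  Lgr Lrot51 (Lpr_df (f177058 IH) (Lpr_af (f449453 IH) (Lpe (f418539 IH) (Lpn (LP (LK LD1_c26 LD2_c19 LD3_c1))))))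
theorem f449463 : Led Lsl_af (LP (LK LD1_c20 LD2_c7 LD3_c9)) = (LP (LK LD1_c26 LD2_c19 LD3_c1)) :=
  Lgr Lrot0 (Lpr_at (f449459 IH) (Lpn (LP (LK LD1_c26 LD2_c19 LD3_c1))))
theorem f177060 : Led Lsl_ft (LP (LK LD1_c20 LD2_c7 LD3_c9)) = (LP (LK LD1_c11 LD2_c12 LD3_c34)) :=
  Lre_f IH (LK LD1_c20 LD2_c7 LD3_c9) (LK LD1_c11 LD2_c12 LD3_c34) Lrfl Lrfl
theorem f418521 : Led Lsl_ft (LP (LK LD1_c16 LD2_c20 LD3_c61)) = (LP (LK LD1_c26 LD2_c19 LD3_c1)) :=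
  Lre_f IH (LK LD1_c16 LD2_c20 LD3_c61) (LK LD1_c26 LD2_c19 LD3_c1) Lrfl Lrfl
theorem f449469 : Led Lsl_at (LP (LK LD1_c11 LD2_c12 LD3_c34)) = (LP (LK LD1_c16 LD2_c20 LD3_c61)) :=
  Lgr Lrot66 (Lpe (f177060 IH) (Lpr_af (f449463 IH) (Lpe (f418521 IH) (Lpn (LP (LK LD1_c16 LD2_c20 LD3_c61))))))
theorem f177020 : Led Lsl_et (LP (LK LD1_c5 LD2_c40 LD3_c60)) = (LP (LK LD1_c11 LD2_c12 LD3_c34)) :=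
  Lre_e IH (LK LD1_c5 LD2_c40 LD3_c60) (LK LD1_c11 LD2_c12 LD3_c34) Lrfl Lrfl
theorem f240859 : Led Lsl_et (LP (LK LD1_c16 LD2_c20 LD3_c61)) = (LP (LK LD1_c8 LD2_c43 LD3_c51)) :=
  Lre_e IH (LK LD1_c16 LD2_c20 LD3_c61) (LK LD1_c8 LD2_c43 LD3_c51) Lrfl Lrfl
theorem f449471 : Led Lsl_af (LP (LK LD1_c5 LD2_c40 LD3_c60)) = (LP (LK LD1_c8 LD2_c43 LD3_c51)) :=
  Lgr Lrot50 (Lpr_et (f177020 IH) (Lpr_at (f449469 IH) (Lpr_et (f240859 IH) (Lpn (LP (LK LD1_c8 LD2_c43 LD3_c51))))))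
theorem f449479 : Led Lsl_at (LP (LK LD1_c2 LD2_c46 LD3_c29)) = (LP (LK LD1_c4 LD2_c23 LD3_c0)) :=
  Lgr Lrot51 (Lpe (f177027 IH) (Lpr_af (f449471 IH) (Lpe (K13.f225586 IH) (Lpn (LP (LK LD1_c4 LD2_c23 LD3_c0))))))
theorem f449485 : Led Lsl_ff (LP (LK LD1_c2 LD2_c46 LD3_c29)) = (LP (LK LD1_c4 LD2_c23 LD3_c1)) :=
  Lgr Lrot52 (Lpr_at (f449479 IH) (Lpe (K13.f236570 IH) (Lpe (K10.f80968 IH) (Lpn (LP (LK LD1_c4 LD2_c23 LD3_c1))))))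
theorem f449489 : Led Lsl_ft (LP (LK LD1_c2 LD2_c46 LD3_c29)) = (LP (LK LD1_c4 LD2_c23 LD3_c1)) :=
  Lgr Lrot48 (Lpr_ff (f449485 IH) (Lpn (LP (LK LD1_c4 LD2_c23 LD3_c1))))
theorem f80970 : Led Lsl_ct (LP (LK LD1_c4 LD2_c23 LD3_c1)) = (LP (LK LD1_c2 LD2_c8 LD3_c56)) :=
  Lre_c IH (LK LD1_c4 LD2_c23 LD3_c1) (LK LD1_c2 LD2_c8 LD3_c56) Lrfl Lrfl
theorem f449491 : Led Lsl_ff (LP (LK LD1_c1 LD2_c19 LD3_c37)) = (LP (LK LD1_c2 LD2_c8 LD3_c56)) :=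
  Lgr Lrot23 (Lpr_ct (K35.f177026 IH) (Lpr_ft (f449489 IH) (Lpr_ct (f80970 IH) (Lpn (LP (LK LD1_c2 LD2_c8 LD3_c56))))))
theorem f449522 : Led Lsl_at (LP (LK LD1_c1 LD2_c19 LD3_c37)) = (LP (LK LD1_c2 LD2_c8 LD3_c55)) :=
  Lgr Lrot26 (Lpr_ff (f449491 IH) (Lpr_gt (K10.f80922 IH) (Lpr_gt (K10.f80971 IH) (Lpn (LP (LK LD1_c2 LD2_c8 LD3_c55))))))
theorem f449528 : Led Lsl_af (LP (LK LD1_c0 LD2_c38 LD3_c16)) = (LP (LK LD1_c1 LD2_c2 LD3_c4)) :=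
  Lgr Lrot50 (Lpe (K12.f176990 IH) (Lpr_at (f449522 IH) (Lpr_et (K12.f227681 IH) (Lpn (LP (LK LD1_c1 LD2_c2 LD3_c4))))))
theorem f449554 : Led Lsl_at (LP (LK LD1_c0 LD2_c38 LD3_c16)) = (LP (LK LD1_c1 LD2_c2 LD3_c4)) :=
  Lgr Lrot100 (Lpr_af (f449528 IH) (Lpn (LP (LK LD1_c1 LD2_c2 LD3_c4))))
theorem f449174 : Led Lsl_ff (LP (LK LD1_c0 LD2_c38 LD3_c16)) = (LP (LK LD1_c1 LD2_c2 LD3_c3)) :=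
  Lgr Lrot25 (Lpr_bt (K10.f24431 IH) (Lpr_ft (f448964 IH) (Lpqs (f449169 IH) (Lpe (K12.f210967 IH) (Lpn (LP (LK LD1_c1 LD2_c2 LD3_c3)))))))
theorem f449120 : Led Lsl_ft (LP (LK LD1_c1 LD2_c2 LD3_c4)) = (LP (LK LD1_c1 LD2_c10 LD3_c44)) :=
  Lgr Lrot75 (Lpr_bf (K12.f227463 IH) (Lpr_ff (f449118 IH) (Lpe (K10.f198058 IH) (Lpn (LP (LK LD1_c1 LD2_c10 LD3_c44))))))
theorem f449558 : Led Lsl_af (LP (LK LD1_c1 LD2_c2 LD3_c3)) = (LP (LK LD1_c1 LD2_c10 LD3_c44)) :=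
  Lgr Lrot45 (Lpe (f449174 IH) (Lpr_at (f449554 IH) (Lpr_ft (f449120 IH) (Lpn (LP (LK LD1_c1 LD2_c10 LD3_c44))))))
theorem f449564 : Led Lsl_at (LP (LK LD1_c2 LD2_c8 LD3_c45)) = (LP (LK LD1_c2 LD2_c26 LD3_c57)) :=
  Lgr Lrot51 (Lpe (K10.f193386 IH) (Lpr_af (f449558 IH) (Lpe (K10.f56078 IH) (Lpn (LP (LK LD1_c2 LD2_c26 LD3_c57))))))
theorem f449574 : Led Lsl_ff (LP (LK LD1_c2 LD2_c8 LD3_c45)) = (LP (LK LD1_c1 LD2_c18 LD3_c55)) :=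
  Lgr Lrot52 (Lpr_at (f449564 IH) (Lpe (K12.f227538 IH) (Lpe (K12.f198565 IH) (Lpn (LP (LK LD1_c1 LD2_c18 LD3_c55))))))
theorem f449582 : Led Lsl_ft (LP (LK LD1_c2 LD2_c8 LD3_c45)) = (LP (LK LD1_c1 LD2_c18 LD3_c55)) :=
  Lgr Lrot48 (Lpr_ff (f449574 IH) (Lpn (LP (LK LD1_c1 LD2_c18 LD3_c55))))
theorem f449055 : Led Lsl_ft (LP (LK LD1_c0 LD2_c37 LD3_c35)) = (LP (LK LD1_c1 LD2_c1 LD3_c53)) :=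
  Lgr Lrot48 (Lpr_ff (f449049 IH) (Lpn (LP (LK LD1_c1 LD2_c1 LD3_c53))))
theorem f449592 : Led Lsl_ff (LP (LK LD1_c2 LD2_c58 LD3_c9)) = (LP (LK LD1_c2 LD2_c9 LD3_c33)) :=
  Lgr Lrot72 (Lpe (K12.f198345 IH) (Lpr_ft (f449582 IH) (Lpr_et (K10.f24565 IH) (Lpr_ft (f449055 IH) (Lpr_et (K12.f36458 IH) (Lpn (LP (LK LD1_c2 LD2_c9 LD3_c33))))))))
theorem f449598 : Led Lsl_at (LP (LK LD1_c2 LD2_c58 LD3_c9)) = (LP (LK LD1_c4 LD2_c27 LD3_c2)) :=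
  Lgr Lrot26 (Lpr_ff (f449592 IH) (Lpr_gt (K12.f210953 IH) (Lpr_gt (K10.f80927 IH) (Lpn (LP (LK LD1_c4 LD2_c27 LD3_c2))))))
theorem f449602 : Led Lsl_af (LP (LK LD1_c2 LD2_c9 LD3_c33)) = (LP (LK LD1_c2 LD2_c17 LD3_c57)) :=
  Lgr Lrot117 (Lpr_dt (K12.f210948 IH) (Lpr_at (f449598 IH) (Lpr_dt (K10.f198043 IH) (Lpn (LP (LK LD1_c2 LD2_c17 LD3_c57))))))
theorem f449604 : Led Lsl_ff (LP (LK LD1_c2 LD2_c17 LD3_c57)) = (LP (LK LD1_c4 LD2_c27 LD3_c2)) :=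
  Lgr Lrot30 (Lpe (f449602 IH) (Lpe (f449592 IH) (Lpr_at (f449598 IH) (Lpn (LP (LK LD1_c4 LD2_c27 LD3_c2))))))
theorem f449610 : Led Lsl_ft (LP (LK LD1_c2 LD2_c17 LD3_c57)) = (LP (LK LD1_c4 LD2_c27 LD3_c2)) :=
  Lgr Lrot48 (Lpr_ff (f449604 IH) (Lpn (LP (LK LD1_c4 LD2_c27 LD3_c2))))
theorem f449614 : Led Lsl_ff (LP (LK LD1_c4 LD2_c41 LD3_c39)) = (LP (LK LD1_c8 LD2_c51 LD3_c55)) :=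
  Lgr Lrot23 (Lpr_ct (K13.f176686 IH) (Lpr_ft (f449610 IH) (Lpr_ct (K10.f101421 IH) (Lpn (LP (LK LD1_c8 LD2_c51 LD3_c55))))))
theorem f449620 : Led Lsl_at (LP (LK LD1_c4 LD2_c41 LD3_c39)) = (LP (LK LD1_c3 LD2_c4 LD3_c28)) :=
  Lgr Lrot26 (Lpr_ff (f449614 IH) (Lpr_gt (K10.f198030 IH) (Lpe (K13.f241259 IH) (Lpn (LP (LK LD1_c3 LD2_c4 LD3_c28))))))
theorem f449624 : Led Lsl_af (LP (LK LD1_c8 LD2_c51 LD3_c36)) = (LP (LK LD1_c6 LD2_c15 LD3_c2)) :=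
  Lgr Lrot117 (Lpr_dt (K13.f198052 IH) (Lpr_at (f449620 IH) (Lpr_dt (K13.f38108 IH) (Lpn (LP (LK LD1_c6 LD2_c15 LD3_c2))))))
theorem f449630 : Led Lsl_ft (LP (LK LD1_c8 LD2_c51 LD3_c37)) = (LP (LK LD1_c6 LD2_c15 LD3_c2)) :=
  Lgr Lrot2 (Lpr_gt (K12.f101402 IH) (Lpr_gt (K13.f101405 IH) (Lpr_af (f449624 IH) (Lpn (LP (LK LD1_c6 LD2_c15 LD3_c2))))))
theorem f449641 : Led Lsl_ff (LP (LK LD1_c8 LD2_c51 LD3_c37)) = (LP (LK LD1_c6 LD2_c15 LD3_c2)) :=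
  Lgr Lrot3 (Lpr_ft (f449630 IH) (Lpn (LP (LK LD1_c6 LD2_c15 LD3_c2))))
theorem f449648 : Led Lsl_at (LP (LK LD1_c8 LD2_c51 LD3_c37)) = (LP (LK LD1_c12 LD2_c5 LD3_c6)) :=
  Lgr Lrot26 (Lpr_ff (f449641 IH) (Lpe (K13.f241834 IH) (Lpr_gt (K12.f229405 IH) (Lpn (LP (LK LD1_c12 LD2_c5 LD3_c6))))))
theorem f449626 : Led Lsl_at (LP (LK LD1_c8 LD2_c51 LD3_c36)) = (LP (LK LD1_c6 LD2_c15 LD3_c2)) :=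
  Lgr Lrot100 (Lpr_af (f449624 IH) (Lpn (LP (LK LD1_c6 LD2_c15 LD3_c2))))
theorem f449654 : Led Lsl_ff (LP (LK LD1_c8 LD2_c51 LD3_c36)) = (LP (LK LD1_c12 LD2_c5 LD3_c6)) :=
  Lgr Lrot30 (Lpr_at (f449626 IH) (Lpe (f449641 IH) (Lpr_at (f449648 IH) (Lpn (LP (LK LD1_c12 LD2_c5 LD3_c6))))))
theorem f449656 : Led Lsl_ft (LP (LK LD1_c16 LD2_c33 LD3_c53)) = (LP (LK LD1_c18 LD2_c2 LD3_c34)) :=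
  Lgr Lrot4 (Lpe (K13.f101406 IH) (Lpr_ff (f449654 IH) (Lpe (K13.f241210 IH) (Lpn (LP (LK LD1_c18 LD2_c2 LD3_c34))))))
theorem f449662 : Led Lsl_ff (LP (LK LD1_c16 LD2_c33 LD3_c53)) = (LP (LK LD1_c18 LD2_c2 LD3_c34)) :=
  Lgr Lrot3 (Lpr_ft (f449656 IH) (Lpn (LP (LK LD1_c18 LD2_c2 LD3_c34))))
theorem f449628 : Led Lsl_at (LP (LK LD1_c16 LD2_c33 LD3_c53)) = (LP (LK LD1_c12 LD2_c8 LD3_c26)) :=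
  Lgr Lrot107 (Lpe (K13.f101406 IH) (Lpr_af (f449624 IH) (Lpe (K13.f241492 IH) (Lpn (LP (LK LD1_c12 LD2_c8 LD3_c26))))))
theorem f449634 : Led Lsl_ff (LP (LK LD1_c16 LD2_c33 LD3_c54)) = (LP (LK LD1_c12 LD2_c8 LD3_c26)) :=
  Lgr Lrot23 (Lpr_ct (K12.f101403 IH) (Lpr_ft (f449630 IH) (Lpr_ct (K13.f241489 IH) (Lpn (LP (LK LD1_c12 LD2_c8 LD3_c26))))))
theorem f449664 : Led Lsl_at (LP (LK LD1_c16 LD2_c33 LD3_c54)) = (LP (LK LD1_c18 LD2_c2 LD3_c34)) :=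
  Lgr Lrot66 (Lpr_ff (f449634 IH) (Lpe (f449628 IH) (Lpr_ff (f449662 IH) (Lpn (LP (LK LD1_c18 LD2_c2 LD3_c34))))))
theorem f38358 : Led Lsl_et (LP (LK LD1_c8 LD2_c48 LD3_c41)) = (LP (LK LD1_c4 LD2_c25 LD3_c34)) :=
  Lre_e IH (LK LD1_c8 LD2_c48 LD3_c41) (LK LD1_c4 LD2_c25 LD3_c34) Lrfl Lrfl
theorem f227608 : Led Lsl_dt (LP (LK LD1_c16 LD2_c29 LD3_c2)) = (LP (LK LD1_c8 LD2_c48 LD3_c41)) :=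
  Lre_d IH (LK LD1_c16 LD2_c29 LD3_c2) (LK LD1_c8 LD2_c48 LD3_c41) Lrfl Lrfl
theorem f241085 : Led Lsl_et (LP (LK LD1_c8 LD2_c51 LD3_c37)) = (LP (LK LD1_c16 LD2_c29 LD3_c2)) :=
  Lgr Lrot71 (Lpe (K12.f210959 IH) (Lpr_ef (K13.f241083 IH) (Lpe (K12.f227601 IH) (Lpe (f38358 IH) (Lpe (f227608 IH) (Lpn (LP (LK LD1_c16 LD2_c29 LD3_c2))))))))
theorem f241107 : Led Lsl_ct (LP (LK LD1_c16 LD2_c29 LD3_c2)) = (LP (LK LD1_c26 LD2_c26 LD3_c8)) :=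
  Lre_c IH (LK LD1_c16 LD2_c29 LD3_c2) (LK LD1_c26 LD2_c26 LD3_c8) Lrfl Lrfl
theorem f241108 : Led Lsl_ef (LP (LK LD1_c16 LD2_c33 LD3_c54)) = (LP (LK LD1_c26 LD2_c26 LD3_c8)) :=
  Lgr Lrot28 (Lpr_ct (K12.f101403 IH) (Lpr_et (f241085 IH) (Lpr_ct (f241107 IH) (Lpn (LP (LK LD1_c26 LD2_c26 LD3_c8))))))
theorem f241543 : Led Lsl_et (LP (LK LD1_c18 LD2_c2 LD3_c34)) = (LP (LK LD1_c27 LD2_c44 LD3_c23)) :=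
  Lre_e IH (LK LD1_c18 LD2_c2 LD3_c34) (LK LD1_c27 LD2_c44 LD3_c23) Lrfl Lrfl
theorem f449672 : Led Lsl_af (LP (LK LD1_c26 LD2_c26 LD3_c8)) = (LP (LK LD1_c27 LD2_c44 LD3_c23)) :=
  Lgr Lrot50 (Lpe (f241108 IH) (Lpr_at (f449664 IH) (Lpr_et (f241543 IH) (Lpn (LP (LK LD1_c27 LD2_c44 LD3_c23))))))
theorem f241115 : Led Lsl_ct (LP (LK LD1_c26 LD2_c26 LD3_c8)) = (LP (LK LD1_c16 LD2_c29 LD3_c2)) :=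
  Lre_c IH (LK LD1_c26 LD2_c26 LD3_c8) (LK LD1_c16 LD2_c29 LD3_c2) Lrfl Lrfl
theorem f241219 : Led Lsl_et (LP (LK LD1_c27 LD2_c44 LD3_c23)) = (LP (LK LD1_c18 LD2_c2 LD3_c34)) :=
  Lre_e IH (LK LD1_c27 LD2_c44 LD3_c23) (LK LD1_c18 LD2_c2 LD3_c34) Lrfl Lrfl
theorem f198085 : Led Lsl_et (LP (LK LD1_c11 LD2_c59 LD3_c38)) = (LP (LK LD1_c6 LD2_c9 LD3_c15)) :=
  Lre_e IH (LK LD1_c11 LD2_c59 LD3_c38) (LK LD1_c6 LD2_c9 LD3_c15) Lrfl Lrfl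
theorem f198086 : Led Lsl_dt (LP (LK LD1_c21 LD2_c4 LD3_c22)) = (LP (LK LD1_c11 LD2_c59 LD3_c38)) :=
  Lre_d IH (LK LD1_c21 LD2_c4 LD3_c22) (LK LD1_c11 LD2_c59 LD3_c38) Lrfl Lrfl
theorem f229375 : Led Lsl_ef (LP (LK LD1_c21 LD2_c4 LD3_c22)) = (LP (LK LD1_c12 LD2_c5 LD3_c6)) :=
  Lgr Lrot73 (Lpr_dt (f198086 IH) (Lpr_et (f198085 IH) (Lpr_dt (K10.f198079 IH) (Lpe (K10.f198041 IH) (Lpr_dt (K12.f229371 IH) (Lpn (LP (LK LD1_c12 LD2_c5 LD3_c6))))))))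
theorem f241220 : Led Lsl_cf (LP (LK LD1_c27 LD2_c44 LD3_c23)) = (LP (LK LD1_c21 LD2_c4 LD3_c22)) :=
  Lgr Lrot39 (Lpr_et (f241219 IH) (Lpr_ct (K13.f241210 IH) (Lpe (f229375 IH) (Lpn (LP (LK LD1_c21 LD2_c4 LD3_c22))))))
theorem f449676 : Led Lsl_at (LP (LK LD1_c16 LD2_c29 LD3_c2)) = (LP (LK LD1_c21 LD2_c4 LD3_c22)) :=
  Lgr Lrot107 (Lpe (f241115 IH) (Lpr_af (f449672 IH) (Lpr_cf (f241220 IH) (Lpn (LP (LK LD1_c21 LD2_c4 LD3_c22))))))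
theorem f38359 : Led Lsl_dt (LP (LK LD1_c8 LD2_c48 LD3_c41)) = (LP (LK LD1_c16 LD2_c29 LD3_c2)) :=
  Lre_d IH (LK LD1_c8 LD2_c48 LD3_c41) (LK LD1_c16 LD2_c29 LD3_c2) Lrfl Lrfl
theorem f449682 : Led Lsl_af (LP (LK LD1_c8 LD2_c48 LD3_c41)) = (LP (LK LD1_c11 LD2_c59 LD3_c38)) :=
  Lgr Lrot117 (Lpr_dt (f38359 IH) (Lpr_at (f449676 IH) (Lpr_dt (f198086 IH) (Lpn (LP (LK LD1_c11 LD2_c59 LD3_c38))))))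
theorem f198081 : Led Lsl_et (LP (LK LD1_c6 LD2_c9 LD3_c15)) = (LP (LK LD1_c11 LD2_c59 LD3_c38)) :=
  Lre_e IH (LK LD1_c6 LD2_c9 LD3_c15) (LK LD1_c11 LD2_c59 LD3_c38) Lrfl Lrfl
theorem f449690 : Led Lsl_at (LP (LK LD1_c4 LD2_c25 LD3_c34)) = (LP (LK LD1_c6 LD2_c9 LD3_c15)) :=
  Lgr Lrot80 (Lpe (f38358 IH) (Lpr_af (f449682 IH) (Lpe (f198081 IH) (Lpn (LP (LK LD1_c6 LD2_c9 LD3_c15))))))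
theorem f449710 : Led Lsl_ff (LP (LK LD1_c4 LD2_c25 LD3_c34)) = (LP (LK LD1_c5 LD2_c38 LD3_c42)) :=
  Lgr Lrot52 (Lpr_at (f449690 IH) (Lpe (K10.f35559 IH) (Lpe (K12.f210715 IH) (Lpn (LP (LK LD1_c5 LD2_c38 LD3_c42))))))
theorem f449719 : Led Lsl_ft (LP (LK LD1_c4 LD2_c25 LD3_c34)) = (LP (LK LD1_c5 LD2_c38 LD3_c42)) :=
  Lgr Lrot48 (Lpr_ff (f449710 IH) (Lpn (LP (LK LD1_c5 LD2_c38 LD3_c42))))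
theorem f449728 : Led Lsl_af (LP (LK LD1_c4 LD2_c25 LD3_c35)) = (LP (LK LD1_c5 LD2_c38 LD3_c42)) :=
  Lgr Lrot31 (Lpr_gf (K12.f38371 IH) (Lpe (K12.f38355 IH) (Lpr_ft (f449719 IH) (Lpn (LP (LK LD1_c5 LD2_c38 LD3_c42))))))
theorem f449706 : Led Lsl_af (LP (LK LD1_c4 LD2_c25 LD3_c34)) = (LP (LK LD1_c6 LD2_c9 LD3_c15)) :=
  Lgr Lrot0 (Lpr_at (f449690 IH) (Lpn (LP (LK LD1_c6 LD2_c9 LD3_c15))))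
theorem f449738 : Led Lsl_ft (LP (LK LD1_c4 LD2_c25 LD3_c35)) = (LP (LK LD1_c6 LD2_c9 LD3_c15)) :=
  Lgr Lrot101 (Lpr_af (f449728 IH) (Lpe (f449719 IH) (Lpr_af (f449706 IH) (Lpn (LP (LK LD1_c6 LD2_c9 LD3_c15))))))
theorem f449746 : Led Lsl_ff (LP (LK LD1_c4 LD2_c25 LD3_c35)) = (LP (LK LD1_c6 LD2_c9 LD3_c15)) :=
  Lgr Lrot3 (Lpr_ft (f449738 IH) (Lpn (LP (LK LD1_c6 LD2_c9 LD3_c15))))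
theorem f272531 : Led Lsl_cf (LP (LK LD1_c8 LD2_c47 LD3_c38)) = (LP (LK LD1_c4 LD2_c25 LD3_c35)) :=
  Lgr Lrot166 (Lpr_gt (K18.f37556 IH) (Lpr_dt (K1.f35463 IH) (Lpr_gt (K18.f37673 IH) (Lpr_dt (K18.f272510 IH) (Lpr_ct (K18.f193388 IH) (Lpe (K18.f36460 IH) (Lpr_gf (K12.f227337 IH) (Lpe (K1.f38056 IH) (Lpe (K12.f38035 IH) (Lpn (LP (LK LD1_c4 LD2_c25 LD3_c35))))))))))))
theorem f449750 : Led Lsl_ft (LP (LK LD1_c8 LD2_c47 LD3_c38)) = (LP (LK LD1_c9 LD2_c47 LD3_c12)) :=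
  Lgr Lrot4 (Lpr_cf (f272531 IH) (Lpr_ff (f449746 IH) (Lpe (K12.f227548 IH) (Lpn (LP (LK LD1_c9 LD2_c47 LD3_c12))))))
theorem f198084 : Led Lsl_ct (LP (LK LD1_c4 LD2_c58 LD3_c11)) = (LP (LK LD1_c9 LD2_c47 LD3_c16)) :=
  Lre_c IH (LK LD1_c4 LD2_c58 LD3_c11) (LK LD1_c9 LD2_c47 LD3_c16) Lrfl Lrfl
theorem f272719 : Led Lsl_df (LP (LK LD1_c9 LD2_c47 LD3_c12)) = (LP (LK LD1_c5 LD2_c53 LD3_c17)) :=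
  Lgr Lrot43 (Lpr_ct (K12.f227548 IH) (Lpr_dt (K10.f198079 IH) (Lpr_ct (K12.f56074 IH) (Lpr_dt (K10.f56078 IH) (Lpr_ct (K10.f82190 IH) (Lpr_dt (K18.f198083 IH) (Lpr_ct (f198084 IH) (Lpr_dt (K18.f272688 IH) (Lpe (K18.f210725 IH) (Lpr_dt (K12.f24558 IH) (Lpr_ct (K18.f24557 IH) (Lpr_dt (K10.f24550 IH) (Lpr_ct (K10.f24559 IH) (Lpr_dt (K11.f24560 IH) (Lpr_ct (K18.f24561 IH) (Lpn (LP (LK LD1_c5 LD2_c53 LD3_c17))))))))))))))))))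
theorem f272782 : Led Lsl_ct (LP (LK LD1_c6 LD2_c9 LD3_c15)) = (LP (LK LD1_c9 LD2_c47 LD3_c12)) :=
  Lgr Lrot7 (Lpr_df (K10.f198076 IH) (Lpr_gf (K12.f198329 IH) (Lpe (K18.f182389 IH) (Lpe (K18.f227394 IH) (Lpe (K18.f193388 IH) (Lpr_gt (K18.f227576 IH) (Lpr_dt (K31.f272754 IH) (Lpr_gt (K18.f211208 IH) (Lpe (f272719 IH) (Lpn (LP (LK LD1_c9 LD2_c47 LD3_c12))))))))))))
theorem f272721 : Led Lsl_df (LP (LK LD1_c9 LD2_c47 LD3_c16)) = (LP (LK LD1_c9 LD2_c47 LD3_c13)) :=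
  Lgr Lrot38 (Lpr_dt (K18.f272688 IH) (Lpn (LP (LK LD1_c9 LD2_c47 LD3_c13))))
theorem f272785 : Led Lsl_df (LP (LK LD1_c5 LD2_c53 LD3_c17)) = (LP (LK LD1_c9 LD2_c47 LD3_c12)) :=
  Lgr Lrot43 (Lpr_ct (K18.f24568 IH) (Lpr_dt (K18.f24433 IH) (Lpr_ct (K10.f24432 IH) (Lpe (K12.f24513 IH) (Lpr_ct (K12.f24566 IH) (Lpr_dt (K12.f24567 IH) (Lpr_ct (K18.f210717 IH) (Lpe (f272721 IH) (Lpr_ct (K18.f198078 IH) (Lpr_dt (K12.f198075 IH) (Lpr_ct (K12.f198068 IH) (Lpr_dt (K10.f56071 IH) (Lpr_ct (K10.f56077 IH) (Lpe (K10.f198076 IH) (Lpr_ct (f272782 IH) (Lpn (LP (LK LD1_c9 LD2_c47 LD3_c12))))))))))))))))))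
theorem f449754 : Led Lsl_ff (LP (LK LD1_c8 LD2_c47 LD3_c45)) = (LP (LK LD1_c5 LD2_c53 LD3_c17)) :=
  Lgr Lrot19 (Lpe (K18.f272512 IH) (Lpr_ft (f449750 IH) (Lpe (f272785 IH) (Lpn (LP (LK LD1_c5 LD2_c53 LD3_c17))))))
theorem f449761 : Led Lsl_at (LP (LK LD1_c8 LD2_c47 LD3_c45)) = (LP (LK LD1_c9 LD2_c47 LD3_c16)) :=
  Lgr Lrot26 (Lpr_ff (f449754 IH) (Lpe (K18.f242164 IH) (Lpe (K18.f272608 IH) (Lpn (LP (LK LD1_c9 LD2_c47 LD3_c16))))))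
theorem f449765 : Led Lsl_af (LP (LK LD1_c4 LD2_c25 LD3_c4)) = (LP (LK LD1_c4 LD2_c58 LD3_c11)) :=
  Lgr Lrot68 (Lpr_ct (K18.f227396 IH) (Lpr_at (f449761 IH) (Lpr_ct (K18.f198078 IH) (Lpn (LP (LK LD1_c4 LD2_c58 LD3_c11))))))
theorem f36461 : Led Lsl_et (LP (LK LD1_c4 LD2_c25 LD3_c4)) = (LP (LK LD1_c8 LD2_c47 LD3_c46)) :=
  Lre_e IH (LK LD1_c4 LD2_c25 LD3_c4) (LK LD1_c8 LD2_c47 LD3_c46) Lrfl Lrfl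
theorem f210710 : Led Lsl_et (LP (LK LD1_c9 LD2_c47 LD3_c17)) = (LP (LK LD1_c4 LD2_c58 LD3_c11)) :=
  Lre_e IH (LK LD1_c9 LD2_c47 LD3_c17) (LK LD1_c4 LD2_c58 LD3_c11) Lrfl Lrfl
theorem f449769 : Led Lsl_at (LP (LK LD1_c8 LD2_c47 LD3_c46)) = (LP (LK LD1_c9 LD2_c47 LD3_c17)) :=
  Lgr Lrot80 (Lpe (f36461 IH) (Lpr_af (f449765 IH) (Lpe (f210710 IH) (Lpn (LP (LK LD1_c9 LD2_c47 LD3_c17))))))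
theorem f227432 : Led Lsl_ft (LP (LK LD1_c16 LD2_c27 LD3_c40)) = (LP (LK LD1_c8 LD2_c47 LD3_c46)) :=
  Lre_f IH (LK LD1_c16 LD2_c27 LD3_c40) (LK LD1_c8 LD2_c47 LD3_c46) Lrfl Lrfl
theorem f210707 : Led Lsl_ft (LP (LK LD1_c9 LD2_c47 LD3_c17)) = (LP (LK LD1_c17 LD2_c57 LD3_c42)) :=
  Lre_f IH (LK LD1_c9 LD2_c47 LD3_c17) (LK LD1_c17 LD2_c57 LD3_c42) Lrfl Lrfl
theorem f449773 : Led Lsl_af (LP (LK LD1_c16 LD2_c27 LD3_c40)) = (LP (LK LD1_c17 LD2_c57 LD3_c42)) :=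
  Lgr Lrot45 (Lpr_ft (f227432 IH) (Lpr_at (f449769 IH) (Lpr_ft (f210707 IH) (Lpn (LP (LK LD1_c17 LD2_c57 LD3_c42))))))
theorem f210709 : Led Lsl_et (LP (LK LD1_c5 LD2_c52 LD3_c58)) = (LP (LK LD1_c11 LD2_c32 LD3_c7)) :=
  Lre_e IH (LK LD1_c5 LD2_c52 LD3_c58) (LK LD1_c11 LD2_c32 LD3_c7) Lrfl Lrfl
theorem f210699 : Led Lsl_ft (LP (LK LD1_c11 LD2_c32 LD3_c7)) = (LP (LK LD1_c20 LD2_c28 LD3_c50)) :=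
  Lre_f IH (LK LD1_c11 LD2_c32 LD3_c7) (LK LD1_c20 LD2_c28 LD3_c50) Lrfl Lrfl
theorem f449425 : Led Lsl_et (LP (LK LD1_c16 LD2_c27 LD3_c41)) = (LP (LK LD1_c8 LD2_c47 LD3_c47)) :=
  Lre_e IH (LK LD1_c16 LD2_c27 LD3_c41) (LK LD1_c8 LD2_c47 LD3_c47) Lrfl Lrfl
theorem f449426 : Led Lsl_ft (LP (LK LD1_c26 LD2_c24 LD3_c54)) = (LP (LK LD1_c16 LD2_c27 LD3_c41)) :=
  Lre_f IH (LK LD1_c26 LD2_c24 LD3_c54) (LK LD1_c16 LD2_c27 LD3_c41) Lrfl Lrfl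
theorem f449427 : Led Lsl_et (LP (LK LD1_c20 LD2_c28 LD3_c50)) = (LP (LK LD1_c26 LD2_c24 LD3_c54)) :=
  Lgr Lrot69 (Lpe (f210699 IH) (Lpe (f210709 IH) (Lpr_ff (f449421 IH) (Lpe (f449425 IH) (Lpe (f449426 IH) (Lpn (LP (LK LD1_c26 LD2_c24 LD3_c54))))))))
theorem f210690 : Led Lsl_et (LP (LK LD1_c11 LD2_c32 LD3_c7)) = (LP (LK LD1_c5 LD2_c52 LD3_c58)) :=
  Lre_e IH (LK LD1_c11 LD2_c32 LD3_c7) (LK LD1_c5 LD2_c52 LD3_c58) Lrfl Lrfl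
theorem f198299 : Led Lsl_et (LP (LK LD1_c4 LD2_c58 LD3_c11)) = (LP (LK LD1_c9 LD2_c47 LD3_c17)) :=
  Lre_e IH (LK LD1_c4 LD2_c58 LD3_c11) (LK LD1_c9 LD2_c47 LD3_c17) Lrfl Lrfl
theorem f210691 : Led Lsl_bf (LP (LK LD1_c11 LD2_c32 LD3_c7)) = (LP (LK LD1_c9 LD2_c47 LD3_c17)) :=
  Lgr Lrot96 (Lpr_et (f210690 IH) (Lpr_bt (f210685 IH) (Lpr_et (f198299 IH) (Lpn (LP (LK LD1_c9 LD2_c47 LD3_c17))))))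
theorem f210700 : Led Lsl_ft (LP (LK LD1_c17 LD2_c57 LD3_c42)) = (LP (LK LD1_c9 LD2_c47 LD3_c17)) :=
  Lre_f IH (LK LD1_c17 LD2_c57 LD3_c42) (LK LD1_c9 LD2_c47 LD3_c17) Lrfl Lrfl
theorem f210701 : Led Lsl_bt (LP (LK LD1_c20 LD2_c28 LD3_c50)) = (LP (LK LD1_c17 LD2_c57 LD3_c42)) :=
  Lgr Lrot35 (Lpe (f210699 IH) (Lpr_bf (f210691 IH) (Lpe (f210700 IH) (Lpn (LP (LK LD1_c17 LD2_c57 LD3_c42))))))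
theorem f210704 : Led Lsl_bf (LP (LK LD1_c20 LD2_c28 LD3_c50)) = (LP (LK LD1_c17 LD2_c57 LD3_c42)) :=
  Lgr Lrot24 (Lpr_bt (f210701 IH) (Lpn (LP (LK LD1_c17 LD2_c57 LD3_c42))))
theorem f418538 : Led Lsl_bt (LP (LK LD1_c26 LD2_c24 LD3_c54)) = (LP (LK LD1_c16 LD2_c27 LD3_c45)) :=
  Lre_b IH (LK LD1_c26 LD2_c24 LD3_c54) (LK LD1_c16 LD2_c27 LD3_c45) Lrfl Lrfl
theorem f449429 : Led Lsl_ef (LP (LK LD1_c17 LD2_c57 LD3_c42)) = (LP (LK LD1_c16 LD2_c27 LD3_c45)) :=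
  Lgr Lrot29 (Lpe (f210704 IH) (Lpr_et (f449427 IH) (Lpr_bt (f418538 IH) (Lpn (LP (LK LD1_c16 LD2_c27 LD3_c45))))))
theorem f449457 : Led Lsl_at (LP (LK LD1_c11 LD2_c32 LD3_c43)) = (LP (LK LD1_c16 LD2_c27 LD3_c45)) :=
  Lgr Lrot100 (Lpr_af (f449453 IH) (Lpn (LP (LK LD1_c16 LD2_c27 LD3_c45))))
theorem f449779 : Led Lsl_et (LP (LK LD1_c16 LD2_c27 LD3_c40)) = (LP (LK LD1_c11 LD2_c32 LD3_c43)) :=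
  Lgr Lrot123 (Lpr_af (f449773 IH) (Lpr_ef (f449429 IH) (Lpe (f449457 IH) (Lpn (LP (LK LD1_c11 LD2_c32 LD3_c43))))))
theorem f227414 : Led Lsl_ft (LP (LK LD1_c8 LD2_c47 LD3_c46)) = (LP (LK LD1_c16 LD2_c27 LD3_c40)) :=
  Lre_f IH (LK LD1_c8 LD2_c47 LD3_c46) (LK LD1_c16 LD2_c27 LD3_c40) Lrfl Lrfl
theorem f177021 : Led Lsl_et (LP (LK LD1_c5 LD2_c53 LD3_c18)) = (LP (LK LD1_c2 LD2_c52 LD3_c60)) :=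
  Lre_e IH (LK LD1_c5 LD2_c53 LD3_c18) (LK LD1_c2 LD2_c52 LD3_c60) Lrfl Lrfl
theorem f449785 : Led Lsl_ff (LP (LK LD1_c4 LD2_c25 LD3_c4)) = (LP (LK LD1_c2 LD2_c52 LD3_c60)) :=
  Lgr Lrot72 (Lpr_et (f36461 IH) (Lpr_ft (f227414 IH) (Lpr_et (f449779 IH) (Lpr_ft (f177037 IH) (Lpr_et (f177021 IH) (Lpn (LP (LK LD1_c2 LD2_c52 LD3_c60))))))))
theorem f449789 : Led Lsl_ft (LP (LK LD1_c2 LD2_c9 LD3_c59)) = (LP (LK LD1_c1 LD2_c22 LD3_c34)) :=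
  Lgr Lrot54 (Lpe (K18.f36463 IH) (Lpr_ff (f449785 IH) (Lpe (K11.f24560 IH) (Lpn (LP (LK LD1_c1 LD2_c22 LD3_c34))))))
theorem f449797 : Led Lsl_ff (LP (LK LD1_c2 LD2_c9 LD3_c59)) = (LP (LK LD1_c1 LD2_c22 LD3_c34)) :=
  Lgr Lrot3 (Lpr_ft (f449789 IH) (Lpn (LP (LK LD1_c1 LD2_c22 LD3_c34))))
theorem f36448 : Led Lsl_et (LP (LK LD1_c2 LD2_c9 LD3_c59)) = (LP (LK LD1_c4 LD2_c24 LD3_c10)) :=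
  Lgr Lrot158 (Lpe (K12.f35473 IH) (Lpr_ef (K10.f36445 IH) (Lpe (f36447 IH) (Lpn (LP (LK LD1_c4 LD2_c24 LD3_c10))))))
theorem f177145 : Led Lsl_ct (LP (LK LD1_c1 LD2_c21 LD3_c28)) = (LP (LK LD1_c2 LD2_c50 LD3_c58)) :=
  Lre_c IH (LK LD1_c1 LD2_c21 LD3_c28) (LK LD1_c2 LD2_c50 LD3_c58) Lrfl Lrfl
theorem f198244 : Led Lsl_ef (LP (LK LD1_c4 LD2_c23 LD3_c1)) = (LP (LK LD1_c2 LD2_c50 LD3_c58)) :=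
  Lgr Lrot28 (Lpr_ct (f80970 IH) (Lpr_et (K10.f198242 IH) (Lpr_ct (f177145 IH) (Lpn (LP (LK LD1_c2 LD2_c50 LD3_c58))))))
theorem f449801 : Led Lsl_ft (LP (LK LD1_c4 LD2_c24 LD3_c10)) = (LP (LK LD1_c2 LD2_c50 LD3_c58)) :=
  Lgr Lrot86 (Lpe (f36448 IH) (Lpr_ff (f449797 IH) (Lpe (K13.f177024 IH) (Lpr_ff (f449485 IH) (Lpr_ef (f198244 IH) (Lpn (LP (LK LD1_c2 LD2_c50 LD3_c58))))))))
theorem f210622 : Led Lsl_dt (LP (LK LD1_c2 LD2_c50 LD3_c58)) = (LP (LK LD1_c5 LD2_c49 LD3_c41)) :=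
  Lre_d IH (LK LD1_c2 LD2_c50 LD3_c58) (LK LD1_c5 LD2_c49 LD3_c41) Lrfl Lrfl
theorem f449803 : Led Lsl_ff (LP (LK LD1_c4 LD2_c42 LD3_c44)) = (LP (LK LD1_c5 LD2_c49 LD3_c41)) :=
  Lgr Lrot19 (Lpe (f227404 IH) (Lpr_ft (f449801 IH) (Lpr_dt (f210622 IH) (Lpn (LP (LK LD1_c5 LD2_c49 LD3_c41))))))
theorem f161726 : Led Lsl_ft (LP (LK LD1_c4 LD2_c35 LD3_c15)) = (LP (LK LD1_c2 LD2_c54 LD3_c6)) :=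
  Lgr Lrot4 (Lpe (K8.f161418 IH) (Lpr_ff (K8.f161720 IH) (Lpe (K8.f149615 IH) (Lpn (LP (LK LD1_c2 LD2_c54 LD3_c6))))))
theorem f542086 : Led Lsl_bf (LP (LK LD1_c5 LD2_c49 LD3_c41)) = (LP (LK LD1_c2 LD2_c54 LD3_c6)) :=
  Lgr Lrot61 (Lpe (f449803 IH) (Lpr_bt (f542076 IH) (Lpr_ft (f161726 IH) (Lpn (LP (LK LD1_c2 LD2_c54 LD3_c6))))))
theorem f241484 : Led Lsl_et (LP (LK LD1_c5 LD2_c49 LD3_c41)) = (LP (LK LD1_c11 LD2_c28 LD3_c2)) :=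
  Lre_e IH (LK LD1_c5 LD2_c49 LD3_c41) (LK LD1_c11 LD2_c28 LD3_c2) Lrfl Lrfl
theorem f161506 : Led Lsl_et (LP (LK LD1_c5 LD2_c55 LD3_c33)) = (LP (LK LD1_c2 LD2_c54 LD3_c6)) :=
  Lre_e IH (LK LD1_c5 LD2_c55 LD3_c33) (LK LD1_c2 LD2_c54 LD3_c6) Lrfl Lrfl
theorem f542092 : Led Lsl_bt (LP (LK LD1_c11 LD2_c28 LD3_c2)) = (LP (LK LD1_c5 LD2_c55 LD3_c33)) :=
  Lgr Lrot119 (Lpe (f241484 IH) (Lpr_bf (f542086 IH) (Lpe (f161506 IH) (Lpn (LP (LK LD1_c5 LD2_c55 LD3_c33))))))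
theorem f421080 : Led Lsl_ft (LP (LK LD1_c20 LD2_c25 LD3_c43)) = (LP (LK LD1_c11 LD2_c28 LD3_c2)) :=
  Lre_f IH (LK LD1_c20 LD2_c25 LD3_c43) (LK LD1_c11 LD2_c28 LD3_c2) Lrfl Lrfl
theorem f424581 : Led Lsl_ft (LP (LK LD1_c5 LD2_c55 LD3_c33)) = (LP (LK LD1_c11 LD2_c36 LD3_c24)) :=
  Lre_f IH (LK LD1_c5 LD2_c55 LD3_c33) (LK LD1_c11 LD2_c36 LD3_c24) Lrfl Lrfl
theorem f542098 : Led Lsl_bf (LP (LK LD1_c20 LD2_c25 LD3_c43)) = (LP (LK LD1_c11 LD2_c36 LD3_c24)) :=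
  Lgr Lrot61 (Lpr_ft (f421080 IH) (Lpr_bt (f542092 IH) (Lpr_ft (f424581 IH) (Lpn (LP (LK LD1_c11 LD2_c36 LD3_c24))))))
theorem f449807 : Led Lsl_ft (LP (LK LD1_c4 LD2_c42 LD3_c44)) = (LP (LK LD1_c5 LD2_c49 LD3_c41)) :=
  Lgr Lrot48 (Lpr_ff (f449803 IH) (Lpn (LP (LK LD1_c5 LD2_c49 LD3_c41))))
theorem f204971 : Led Lsl_et (LP (LK LD1_c9 LD2_c19 LD3_c42)) = (LP (LK LD1_c4 LD2_c42 LD3_c44)) :=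
  Lre_e IH (LK LD1_c9 LD2_c19 LD3_c42) (LK LD1_c4 LD2_c42 LD3_c44) Lrfl Lrfl
theorem f227415 : Led Lsl_ft (LP (LK LD1_c17 LD2_c15 LD3_c30)) = (LP (LK LD1_c9 LD2_c19 LD3_c42)) :=
  Lre_f IH (LK LD1_c17 LD2_c15 LD3_c30) (LK LD1_c9 LD2_c19 LD3_c42) Lrfl Lrfl
theorem f421081 : Led Lsl_ft (LP (LK LD1_c11 LD2_c28 LD3_c2)) = (LP (LK LD1_c20 LD2_c25 LD3_c43)) :=
  Lre_f IH (LK LD1_c11 LD2_c28 LD3_c2) (LK LD1_c20 LD2_c25 LD3_c43) Lrfl Lrfl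
theorem f449856 : Led Lsl_ef (LP (LK LD1_c17 LD2_c15 LD3_c30)) = (LP (LK LD1_c20 LD2_c25 LD3_c43)) :=
  Lgr Lrot21 (Lpr_ft (f227415 IH) (Lpr_et (f204971 IH) (Lpr_ft (f449807 IH) (Lpr_et (f241484 IH) (Lpr_ft (f421081 IH) (Lpn (LP (LK LD1_c20 LD2_c25 LD3_c43))))))))
theorem f161737 : Led Lsl_ff (LP (LK LD1_c4 LD2_c35 LD3_c15)) = (LP (LK LD1_c2 LD2_c54 LD3_c6)) :=
  Lgr Lrot23 (Lpe (K8.f161423 IH) (Lpr_ft (K8.f161731 IH) (Lpr_ct (K8.f149608 IH) (Lpn (LP (LK LD1_c2 LD2_c54 LD3_c6))))))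
theorem f37763 : Led Lsl_et (LP (LK LD1_c4 LD2_c35 LD3_c15)) = (LP (LK LD1_c9 LD2_c7 LD3_c8)) :=
  Lre_e IH (LK LD1_c4 LD2_c35 LD3_c15) (LK LD1_c9 LD2_c7 LD3_c8) Lrfl Lrfl
theorem f161700 : Led Lsl_ft (LP (LK LD1_c9 LD2_c7 LD3_c8)) = (LP (LK LD1_c16 LD2_c59 LD3_c24)) :=
  Lre_f IH (LK LD1_c9 LD2_c7 LD3_c8) (LK LD1_c16 LD2_c59 LD3_c24) Lrfl Lrfl
theorem f424572 : Led Lsl_ft (LP (LK LD1_c11 LD2_c36 LD3_c24)) = (LP (LK LD1_c5 LD2_c55 LD3_c33)) :=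
  Lre_f IH (LK LD1_c11 LD2_c36 LD3_c24) (LK LD1_c5 LD2_c55 LD3_c33) Lrfl Lrfl
theorem f425789 : Led Lsl_et (LP (LK LD1_c16 LD2_c59 LD3_c24)) = (LP (LK LD1_c11 LD2_c36 LD3_c24)) :=
  Lgr Lrot69 (Lpe (f161700 IH) (Lpe (f37763 IH) (Lpr_ff (f161737 IH) (Lpe (f161506 IH) (Lpe (f424572 IH) (Lpn (LP (LK LD1_c11 LD2_c36 LD3_c24))))))))
theorem f542104 : Led Lsl_bt (LP (LK LD1_c17 LD2_c15 LD3_c30)) = (LP (LK LD1_c16 LD2_c59 LD3_c24)) :=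
  Lgr Lrot119 (Lpr_ef (f449856 IH) (Lpr_bf (f542098 IH) (Lpe (f425789 IH) (Lpn (LP (LK LD1_c16 LD2_c59 LD3_c24))))))
theorem f36464 : Led Lsl_et (LP (LK LD1_c8 LD2_c47 LD3_c46)) = (LP (LK LD1_c4 LD2_c25 LD3_c4)) :=
  Lre_e IH (LK LD1_c8 LD2_c47 LD3_c46) (LK LD1_c4 LD2_c25 LD3_c4) Lrfl Lrfl
theorem f227406 : Led Lsl_et (LP (LK LD1_c4 LD2_c42 LD3_c44)) = (LP (LK LD1_c9 LD2_c19 LD3_c42)) :=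
  Lre_e IH (LK LD1_c4 LD2_c42 LD3_c44) (LK LD1_c9 LD2_c19 LD3_c42) Lrfl Lrfl
theorem f227407 : Led Lsl_df (LP (LK LD1_c8 LD2_c47 LD3_c46)) = (LP (LK LD1_c9 LD2_c19 LD3_c42)) :=
  Lgr Lrot70 (Lpr_et (f36464 IH) (Lpr_dt (K18.f36463 IH) (Lpr_et (f36448 IH) (Lpr_dt (f227402 IH) (Lpr_et (f227406 IH) (Lpn (LP (LK LD1_c9 LD2_c19 LD3_c42))))))))
theorem f227416 : Led Lsl_dt (LP (LK LD1_c16 LD2_c27 LD3_c40)) = (LP (LK LD1_c17 LD2_c15 LD3_c30)) :=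
  Lgr Lrot60 (Lpe (f227414 IH) (Lpr_df (f227407 IH) (Lpe (f227415 IH) (Lpn (LP (LK LD1_c17 LD2_c15 LD3_c30))))))
theorem f227429 : Led Lsl_bt (LP (LK LD1_c26 LD2_c24 LD3_c50)) = (LP (LK LD1_c16 LD2_c27 LD3_c40)) :=
  Lre_b IH (LK LD1_c26 LD2_c24 LD3_c50) (LK LD1_c16 LD2_c27 LD3_c40) Lrfl Lrfl
theorem f542108 : Led Lsl_df (LP (LK LD1_c26 LD2_c24 LD3_c50)) = (LP (LK LD1_c16 LD2_c59 LD3_c24)) :=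
  Lgr Lrot12 (Lpr_bt (f227429 IH) (Lpr_dt (f227416 IH) (Lpr_bt (f542104 IH) (Lpn (LP (LK LD1_c16 LD2_c59 LD3_c24))))))
theorem f449897 : Led Lsl_ft (LP (LK LD1_c26 LD2_c24 LD3_c50)) = (LP (LK LD1_c16 LD2_c27 LD3_c37)) :=
  Lre_f IH (LK LD1_c26 LD2_c24 LD3_c50) (LK LD1_c16 LD2_c27 LD3_c37) Lrfl Lrfl
theorem f542114 : Led Lsl_dt (LP (LK LD1_c16 LD2_c27 LD3_c37)) = (LP (LK LD1_c9 LD2_c7 LD3_c8)) :=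
  Lgr Lrot60 (Lpe (f449897 IH) (Lpr_df (f542108 IH) (Lpe (f161700 IH) (Lpn (LP (LK LD1_c9 LD2_c7 LD3_c8))))))
theorem f449863 : Led Lsl_et (LP (LK LD1_c8 LD2_c47 LD3_c44)) = (LP (LK LD1_c16 LD2_c27 LD3_c37)) :=
  Lre_e IH (LK LD1_c8 LD2_c47 LD3_c44) (LK LD1_c16 LD2_c27 LD3_c37) Lrfl Lrfl
theorem f210983 : Led Lsl_dt (LP (LK LD1_c4 LD2_c25 LD3_c3)) = (LP (LK LD1_c8 LD2_c47 LD3_c44)) :=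
  Lre_d IH (LK LD1_c4 LD2_c25 LD3_c3) (LK LD1_c8 LD2_c47 LD3_c44) Lrfl Lrfl
theorem f161703 : Led Lsl_et (LP (LK LD1_c9 LD2_c7 LD3_c8)) = (LP (LK LD1_c4 LD2_c35 LD3_c15)) :=
  Lre_e IH (LK LD1_c9 LD2_c7 LD3_c8) (LK LD1_c4 LD2_c35 LD3_c15) Lrfl Lrfl
theorem f542120 : Led Lsl_ef (LP (LK LD1_c4 LD2_c25 LD3_c3)) = (LP (LK LD1_c2 LD2_c14 LD3_c49)) :=
  Lgr Lrot73 (Lpr_dt (f210983 IH) (Lpr_et (f449863 IH) (Lpr_dt (f542114 IH) (Lpr_et (f161703 IH) (Lpr_dt (K8.f35340 IH) (Lpn (LP (LK LD1_c2 LD2_c14 LD3_c49))))))))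
theorem f36459 : Led Lsl_bt (LP (LK LD1_c2 LD2_c9 LD3_c59)) = (LP (LK LD1_c4 LD2_c25 LD3_c3)) :=
  Lre_b IH (LK LD1_c2 LD2_c9 LD3_c59) (LK LD1_c4 LD2_c25 LD3_c3) Lrfl Lrfl
theorem f449799 : Led Lsl_ft (LP (LK LD1_c4 LD2_c25 LD3_c3)) = (LP (LK LD1_c2 LD2_c52 LD3_c59)) :=
  Lgr Lrot75 (Lpe (f36459 IH) (Lpr_ff (f449797 IH) (Lpe (K35.f177018 IH) (Lpn (LP (LK LD1_c2 LD2_c52 LD3_c59))))))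
theorem f24564 : Led Lsl_bt (LP (LK LD1_c1 LD2_c22 LD3_c34)) = (LP (LK LD1_c2 LD2_c52 LD3_c59)) :=
  Lre_b IH (LK LD1_c1 LD2_c22 LD3_c34) (LK LD1_c2 LD2_c52 LD3_c59) Lrfl Lrfl
theorem f538888 : Led Lsl_ef (LP (LK LD1_c4 LD2_c32 LD3_c8)) = (LP (LK LD1_c2 LD2_c52 LD3_c59)) :=
  Lgr Lrot29 (Lpr_bt (K35.f538882 IH) (Lpr_et (K13.f177024 IH) (Lpr_bt (f24564 IH) (Lpn (LP (LK LD1_c2 LD2_c52 LD3_c59))))))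
def v1640 : LQ := Led Lsl_et (LP (LK LD1_c1 LD2_c23 LD3_c1))
theorem f500500 : Led Lsl_et (LP (LK LD1_c1 LD2_c23 LD3_c1)) = v1640 :=
  Lrfl
theorem f500502 : Led Lsl_ef (LP (LK LD1_c1 LD2_c23 LD3_c1)) = v1640 :=
  Lgr Lrot88 (Lpr_et (f500500 IH) (Lpn v1640))
theorem f542129 : Led Lsl_ft (LP (LK LD1_c4 LD2_c32 LD3_c8)) = v1640 :=
  Lgr Lrot86 (Lpr_ef (f538888 IH) (Lpe (f449799 IH) (Lpr_ef (f542120 IH) (Lpe (K8.f161708 IH) (Lpr_ef (f500502 IH) (Lpn v1640))))))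
theorem f149994 : Led Lsl_gt (LP (LK LD1_c1 LD2_c56 LD3_c15)) = (LP (LK LD1_c0 LD2_c54 LD3_c58)) :=
  Lre_g IH (LK LD1_c1 LD2_c56 LD3_c15) (LK LD1_c0 LD2_c54 LD3_c58) Lrfl Lrfl
theorem f422815 : Led Lsl_bt (LP (LK LD1_c3 LD2_c59 LD3_c1)) = (LP (LK LD1_c1 LD2_c56 LD3_c15)) :=
  Lre_b IH (LK LD1_c3 LD2_c59 LD3_c1) (LK LD1_c1 LD2_c56 LD3_c15) Lrfl Lrfl
theorem f382088 : Led Lsl_ct (LP (LK LD1_c3 LD2_c59 LD3_c1)) = (LP (LK LD1_c7 LD2_c59 LD3_c21)) :=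
  Lre_c IH (LK LD1_c3 LD2_c59 LD3_c1) (LK LD1_c7 LD2_c59 LD3_c21) Lrfl Lrfl
theorem f173359 : Led Lsl_bt (LP (LK LD1_c0 LD2_c29 LD3_c4)) = (LP (LK LD1_c1 LD2_c3 LD3_c39)) :=
  Lre_b IH (LK LD1_c0 LD2_c29 LD3_c4) (LK LD1_c1 LD2_c3 LD3_c39) Lrfl Lrfl
theorem f422816 : Led Lsl_gf (LP (LK LD1_c7 LD2_c59 LD3_c21)) = (LP (LK LD1_c4 LD2_c32 LD3_c8)) :=
  Lgr Lrot129 (Lpe (f382088 IH) (Lpr_bt (f422815 IH) (Lpr_gt (f149994 IH) (Lpe (K30.f40719 IH) (Lpr_ct (K1.f40723 IH) (Lpr_gt (K9.f6813 IH) (Lpr_cf (K9.f173360 IH) (Lpr_bt (f173359 IH) (Lpr_gt (K31.f173368 IH) (Lpr_ct (K31.f181777 IH) (Lpn (LP (LK LD1_c4 LD2_c32 LD3_c8)))))))))))))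
theorem f423859 : Led Lsl_gt (LP (LK LD1_c5 LD2_c42 LD3_c41)) = (LP (LK LD1_c4 LD2_c56 LD3_c54)) :=
  Lgr Lrot5 (Lpe (K31.f423843 IH) (Lpr_at (K31.f423847 IH) (Lpr_gf (K31.f411704 IH) (Lpn (LP (LK LD1_c4 LD2_c56 LD3_c54))))))
theorem f280526 : Led Lsl_dt (LP (LK LD1_c1 LD2_c19 LD3_c60)) = (LP (LK LD1_c2 LD2_c47 LD3_c15)) :=
  Lre_d IH (LK LD1_c1 LD2_c19 LD3_c60) (LK LD1_c2 LD2_c47 LD3_c15) Lrfl Lrfl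
theorem f168256 : Led Lsl_dt (LP (LK LD1_c4 LD2_c56 LD3_c54)) = (LP (LK LD1_c2 LD2_c26 LD3_c17)) :=
  Lre_d IH (LK LD1_c4 LD2_c56 LD3_c54) (LK LD1_c2 LD2_c26 LD3_c17) Lrfl Lrfl
theorem f423863 : Led Lsl_gt (LP (LK LD1_c2 LD2_c47 LD3_c15)) = (LP (LK LD1_c1 LD2_c20 LD3_c25)) :=
  Lgr Lrot49 (Lpe (f280526 IH) (Lpr_gf (K31.f280524 IH) (Lpe (K16.f181735 IH) (Lpe (K30.f280495 IH) (Lpr_dt (K31.f280497 IH) (Lpr_gt (f423859 IH) (Lpr_dt (f168256 IH) (Lpe (K30.f56546 IH) (Lpr_df (K18.f168221 IH) (Lpn (LP (LK LD1_c1 LD2_c20 LD3_c25))))))))))))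
theorem f168286 : Led Lsl_at (LP (LK LD1_c2 LD2_c48 LD3_c28)) = (LP (LK LD1_c1 LD2_c20 LD3_c25)) :=
  Lre_a IH (LK LD1_c2 LD2_c48 LD3_c28) (LK LD1_c1 LD2_c20 LD3_c25) Lrfl Lrfl
theorem f423887 : Led Lsl_gf (LP (LK LD1_c2 LD2_c47 LD3_c15)) = (LP (LK LD1_c4 LD2_c33 LD3_c26)) :=
  Lgr Lrot47 (Lpr_gt (f423863 IH) (Lpe (f168286 IH) (Lpe (K30.f385444 IH) (Lpn (LP (LK LD1_c4 LD2_c33 LD3_c26))))))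
theorem f280527 : Led Lsl_ct (LP (LK LD1_c2 LD2_c47 LD3_c15)) = (LP (LK LD1_c5 LD2_c42 LD3_c32)) :=
  Lre_c IH (LK LD1_c2 LD2_c47 LD3_c15) (LK LD1_c5 LD2_c42 LD3_c32) Lrfl Lrfl
theorem f423892 : Led Lsl_dt (LP (LK LD1_c5 LD2_c42 LD3_c32)) = (LP (LK LD1_c11 LD2_c15 LD3_c16)) :=
  Lre_d IH (LK LD1_c5 LD2_c42 LD3_c32) (LK LD1_c11 LD2_c15 LD3_c16) Lrfl Lrfl
theorem f422937 : Led Lsl_dt (LP (LK LD1_c11 LD2_c16 LD3_c3)) = (LP (LK LD1_c5 LD2_c45 LD3_c24)) :=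
  Lgr Lrot42 (Lpr_df (K31.f422918 IH) (Lpn (LP (LK LD1_c5 LD2_c45 LD3_c24))))
theorem f172415 : Led Lsl_ct (LP (LK LD1_c1 LD2_c20 LD3_c0)) = (LP (LK LD1_c0 LD2_c37 LD3_c0)) :=
  Lre_c IH (LK LD1_c1 LD2_c20 LD3_c0) (LK LD1_c0 LD2_c37 LD3_c0) Lrfl Lrfl
theorem f172439 : Led Lsl_ct (LP (LK LD1_c1 LD2_c19 LD3_c59)) = (LP (LK LD1_c2 LD2_c47 LD3_c11)) :=
  Lre_c IH (LK LD1_c1 LD2_c19 LD3_c59) (LK LD1_c2 LD2_c47 LD3_c11) Lrfl Lrfl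
theorem f423865 : Led Lsl_dt (LP (LK LD1_c2 LD2_c47 LD3_c11)) = (LP (LK LD1_c5 LD2_c42 LD3_c27)) :=
  Lre_d IH (LK LD1_c2 LD2_c47 LD3_c11) (LK LD1_c5 LD2_c42 LD3_c27) Lrfl Lrfl
theorem f423866 : Led Lsl_ct (LP (LK LD1_c11 LD2_c15 LD3_c6)) = (LP (LK LD1_c5 LD2_c42 LD3_c27)) :=
  Lre_c IH (LK LD1_c11 LD2_c15 LD3_c6) (LK LD1_c5 LD2_c42 LD3_c27) Lrfl Lrfl
theorem f423867 : Led Lsl_gf (LP (LK LD1_c11 LD2_c15 LD3_c6)) = (LP (LK LD1_c9 LD2_c44 LD3_c59)) :=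
  Lgr Lrot104 (Lpr_ct (f423866 IH) (Lpe (f423865 IH) (Lpe (f172439 IH) (Lpe (K31.f172438 IH) (Lpe (f172415 IH) (Lpe (K30.f172854 IH) (Lpe (K31.f280506 IH) (Lpr_gt (f423859 IH) (Lpr_ct (K31.f168305 IH) (Lpn (LP (LK LD1_c9 LD2_c44 LD3_c59))))))))))))
theorem f423873 : Led Lsl_dt (LP (LK LD1_c11 LD2_c15 LD3_c6)) = (LP (LK LD1_c20 LD2_c10 LD3_c3)) :=
  Lre_d IH (LK LD1_c11 LD2_c15 LD3_c6) (LK LD1_c20 LD2_c10 LD3_c3) Lrfl Lrfl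
theorem f423874 : Led Lsl_gt (LP (LK LD1_c20 LD2_c10 LD3_c3)) = (LP (LK LD1_c11 LD2_c16 LD3_c5)) :=
  Lgr Lrot49 (Lpe (f423873 IH) (Lpr_gf (f423867 IH) (Lpe (K31.f168305 IH) (Lpe (K31.f411704 IH) (Lpr_dt (K31.f172477 IH) (Lpr_gt (K31.f281973 IH) (Lpr_dt (K16.f181772 IH) (Lpe (K16.f181765 IH) (Lpe (K16.f280364 IH) (Lpn (LP (LK LD1_c11 LD2_c16 LD3_c5))))))))))))
theorem f423882 : Led Lsl_gf (LP (LK LD1_c20 LD2_c10 LD3_c3)) = (LP (LK LD1_c11 LD2_c15 LD3_c42)) :=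
  Lgr Lrot47 (Lpr_gt (f423874 IH) (Lpr_af (K31.f280366 IH) (Lpr_ff (K31.f280372 IH) (Lpn (LP (LK LD1_c11 LD2_c15 LD3_c42))))))
theorem f423893 : Led Lsl_cf (LP (LK LD1_c11 LD2_c15 LD3_c16)) = (LP (LK LD1_c20 LD2_c10 LD3_c3)) :=
  Lgr Lrot99 (Lpe (f423892 IH) (Lpe (f280527 IH) (Lpr_gf (f423887 IH) (Lpe (K30.f245661 IH) (Lpr_gf (K31.f407092 IH) (Lpe (f422937 IH) (Lpr_gt (K31.f281976 IH) (Lpe (K16.f280274 IH) (Lpe (f423882 IH) (Lpn (LP (LK LD1_c20 LD2_c10 LD3_c3))))))))))))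
theorem f280528 : Led Lsl_dt (LP (LK LD1_c11 LD2_c15 LD3_c16)) = (LP (LK LD1_c5 LD2_c42 LD3_c32)) :=
  Lre_d IH (LK LD1_c11 LD2_c15 LD3_c16) (LK LD1_c5 LD2_c42 LD3_c32) Lrfl Lrfl
theorem f280529 : Led Lsl_ct (LP (LK LD1_c5 LD2_c42 LD3_c32)) = (LP (LK LD1_c2 LD2_c47 LD3_c15)) :=
  Lre_c IH (LK LD1_c5 LD2_c42 LD3_c32) (LK LD1_c2 LD2_c47 LD3_c15) Lrfl Lrfl
theorem f172507 : Led Lsl_dt (LP (LK LD1_c2 LD2_c47 LD3_c15)) = (LP (LK LD1_c1 LD2_c19 LD3_c60)) :=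
  Lre_d IH (LK LD1_c2 LD2_c47 LD3_c15) (LK LD1_c1 LD2_c19 LD3_c60) Lrfl Lrfl
theorem f172537 : Led Lsl_dt (LP (LK LD1_c2 LD2_c47 LD3_c14)) = (LP (LK LD1_c5 LD2_c42 LD3_c31)) :=
  Lre_d IH (LK LD1_c2 LD2_c47 LD3_c14) (LK LD1_c5 LD2_c42 LD3_c31) Lrfl Lrfl
theorem f423869 : Led Lsl_ct (LP (LK LD1_c5 LD2_c42 LD3_c27)) = (LP (LK LD1_c11 LD2_c15 LD3_c6)) :=
  Lre_c IH (LK LD1_c5 LD2_c42 LD3_c27) (LK LD1_c11 LD2_c15 LD3_c6) Lrfl Lrfl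
theorem f422924 : Led Lsl_dt (LP (LK LD1_c11 LD2_c15 LD3_c10)) = (LP (LK LD1_c5 LD2_c42 LD3_c28)) :=
  Lre_d IH (LK LD1_c11 LD2_c15 LD3_c10) (LK LD1_c5 LD2_c42 LD3_c28) Lrfl Lrfl
theorem f422923 : Led Lsl_ct (LP (LK LD1_c20 LD2_c10 LD3_c13)) = (LP (LK LD1_c11 LD2_c15 LD3_c10)) :=
  Lre_c IH (LK LD1_c20 LD2_c10 LD3_c13) (LK LD1_c11 LD2_c15 LD3_c10) Lrfl Lrfl
theorem f423897 : Led Lsl_dt (LP (LK LD1_c11 LD2_c15 LD3_c13)) = (LP (LK LD1_c20 LD2_c10 LD3_c13)) :=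
  Lgr Lrot173 (Lpe (K31.f172512 IH) (Lpe (f172537 IH) (Lpe (K31.f172493 IH) (Lpe (f172507 IH) (Lpe (f280529 IH) (Lpe (f280528 IH) (Lpr_cf (f423893 IH) (Lpe (f423873 IH) (Lpe (f423869 IH) (Lpe (f423865 IH) (Lpe (f172439 IH) (Lpe (K31.f412032 IH) (Lpe (K31.f271572 IH) (Lpe (f422924 IH) (Lpe (f422923 IH) (Lpn (LP (LK LD1_c20 LD2_c10 LD3_c13))))))))))))))))))
theorem f385376 : Led Lsl_ct (LP (LK LD1_c16 LD2_c19 LD3_c26)) = (LP (LK LD1_c8 LD2_c42 LD3_c54)) :=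
  Lre_c IH (LK LD1_c16 LD2_c19 LD3_c26) (LK LD1_c8 LD2_c42 LD3_c54) Lrfl Lrfl
theorem f385384 : Led Lsl_ff (LP (LK LD1_c4 LD2_c22 LD3_c31)) = (LP (LK LD1_c4 LD2_c56 LD3_c53)) :=
  Lgr Lrot3 (Lpr_ft (K30.f385372 IH) (Lpn (LP (LK LD1_c4 LD2_c56 LD3_c53))))
theorem f385857 : Led Lsl_ft (LP (LK LD1_c8 LD2_c42 LD3_c54)) = (LP (LK LD1_c9 LD2_c44 LD3_c58)) :=
  Lgr Lrot54 (Lpe (K30.f297109 IH) (Lpr_ff (f385384 IH) (Lpe (K30.f168281 IH) (Lpn (LP (LK LD1_c9 LD2_c44 LD3_c58))))))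
theorem f423861 : Led Lsl_gf (LP (LK LD1_c5 LD2_c42 LD3_c41)) = (LP (LK LD1_c8 LD2_c42 LD3_c54)) :=
  Lgr Lrot47 (Lpr_gt (f423859 IH) (Lpe (K31.f297143 IH) (Lpe (f385857 IH) (Lpn (LP (LK LD1_c8 LD2_c42 LD3_c54))))))
theorem f423903 : Led Lsl_gf (LP (LK LD1_c11 LD2_c15 LD3_c42)) = (LP (LK LD1_c20 LD2_c10 LD3_c13)) :=
  Lgr Lrot143 (Lpr_dt (K16.f172834 IH) (Lpe (K16.f172754 IH) (Lpe (K16.f172833 IH) (Lpe (K30.f172854 IH) (Lpe (K31.f280506 IH) (Lpr_gf (f423861 IH) (Lpe (f385376 IH) (Lpe (K31.f411695 IH) (Lpr_dt (f423897 IH) (Lpn (LP (LK LD1_c20 LD2_c10 LD3_c13))))))))))))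
theorem f172825 : Led Lsl_ct (LP (LK LD1_c5 LD2_c42 LD3_c44)) = (LP (LK LD1_c2 LD2_c47 LD3_c21)) :=
  Lre_c IH (LK LD1_c5 LD2_c42 LD3_c44) (LK LD1_c2 LD2_c47 LD3_c21) Lrfl Lrfl
theorem f172750 : Led Lsl_bf (LP (LK LD1_c2 LD2_c26 LD3_c24)) = (LP (LK LD1_c2 LD2_c47 LD3_c21)) :=
  Lgr Lrot24 (Lpr_bt (K16.f172743 IH) (Lpn (LP (LK LD1_c2 LD2_c47 LD3_c21))))
theorem f238911 : Led Lsl_gf (LP (LK LD1_c4 LD2_c4 LD3_c49)) = (LP (LK LD1_c2 LD2_c26 LD3_c24)) :=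
  Lgr Lrot144 (Lpr_dt (K23.f53121 IH) (Lpe (K11.f187090 IH) (Lpr_dt (K12.f180214 IH) (Lpr_cf (K13.f211160 IH) (Lpr_df (K13.f238617 IH) (Lpe (K13.f238725 IH) (Lpr_df (K13.f238900 IH) (Lpe (K13.f238834 IH) (Lpe (K13.f172763 IH) (Lpn (LP (LK LD1_c2 LD2_c26 LD3_c24))))))))))))
theorem f1192 : Led Lsl_dt (LP (LK LD1_c8 LD2_c30 LD3_c2)) = (LP (LK LD1_c15 LD2_c57 LD3_c45)) :=
  Lre_d IH (LK LD1_c8 LD2_c30 LD3_c2) (LK LD1_c15 LD2_c57 LD3_c45) Lrfl Lrfl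
theorem f197631 : Led Lsl_ct (LP (LK LD1_c15 LD2_c57 LD3_c45)) = (LP (LK LD1_c25 LD2_c54 LD3_c26)) :=
  Lre_c IH (LK LD1_c15 LD2_c57 LD3_c45) (LK LD1_c25 LD2_c54 LD3_c26) Lrfl Lrfl
theorem f423919 : Led Lsl_bt (LP (LK LD1_c25 LD2_c54 LD3_c26)) = (LP (LK LD1_c20 LD2_c10 LD3_c13)) :=
  Lgr Lrot178 (Lpe (f197631 IH) (Lpe (f1192 IH) (Lpe (K31.f1190 IH) (Lpe (K31.f883 IH) (Lpe (K16.f793 IH) (Lpe (K10.f767 IH) (Lpe (K10.f785 IH) (Lpe (K13.f197447 IH) (Lpr_cf (K10.f173208 IH) (Lpe (K12.f6828 IH) (Lpr_gf (K12.f224990 IH) (Lpr_bf (K10.f192791 IH) (Lpe (K12.f53106 IH) (Lpe (K23.f53121 IH) (Lpr_gf (f238911 IH) (Lpr_bf (f172750 IH) (Lpe (f172825 IH) (Lpe (K16.f172834 IH) (Lpr_gf (f423903 IH) (Lpn (LP (LK LD1_c20 LD2_c10 LD3_c13))))))))))))))))))))))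
theorem f423924 : Led Lsl_bt (LP (LK LD1_c25 LD2_c54 LD3_c22)) = (LP (LK LD1_c15 LD2_c57 LD3_c45)) :=
  Lre_b IH (LK LD1_c25 LD2_c54 LD3_c22) (LK LD1_c15 LD2_c57 LD3_c45) Lrfl Lrfl
theorem f423909 : Led Lsl_bt (LP (LK LD1_c11 LD2_c15 LD3_c10)) = (LP (LK LD1_c20 LD2_c10 LD3_c9)) :=
  Lre_b IH (LK LD1_c11 LD2_c15 LD3_c10) (LK LD1_c20 LD2_c10 LD3_c9) Lrfl Lrfl
theorem f423925 : Led Lsl_cf (LP (LK LD1_c25 LD2_c54 LD3_c22)) = (LP (LK LD1_c20 LD2_c10 LD3_c9)) :=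
  Lgr Lrot97 (Lpr_bt (f423924 IH) (Lpr_ct (f197631 IH) (Lpr_bt (f423919 IH) (Lpr_ct (f422923 IH) (Lpr_bt (f423909 IH) (Lpn (LP (LK LD1_c20 LD2_c10 LD3_c9))))))))
theorem f423946 : Led Lsl_ct (LP (LK LD1_c25 LD2_c54 LD3_c22)) = (LP (LK LD1_c20 LD2_c10 LD3_c9)) :=
  Lgr Lrot59 (Lpr_cf (f423925 IH) (Lpn (LP (LK LD1_c20 LD2_c10 LD3_c9))))
theorem f374212 : Led Lsl_dt (LP (LK LD1_c15 LD2_c57 LD3_c43)) = (LP (LK LD1_c25 LD2_c54 LD3_c22)) :=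
  Lre_d IH (LK LD1_c15 LD2_c57 LD3_c43) (LK LD1_c25 LD2_c54 LD3_c22) Lrfl Lrfl
theorem f319441 : Led Lsl_bt (LP (LK LD1_c0 LD2_c36 LD3_c17)) = (LP (LK LD1_c1 LD2_c18 LD3_c43)) :=
  Lre_b IH (LK LD1_c0 LD2_c36 LD3_c17) (LK LD1_c1 LD2_c18 LD3_c43) Lrfl Lrfl
theorem f319428 : Led Lsl_ct (LP (LK LD1_c1 LD2_c18 LD3_c43)) = (LP (LK LD1_c2 LD2_c44 LD3_c48)) :=
  Lre_c IH (LK LD1_c1 LD2_c18 LD3_c43) (LK LD1_c2 LD2_c44 LD3_c48) Lrfl Lrfl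
theorem f255099 : Led Lsl_bt (LP (LK LD1_c1 LD2_c10 LD3_c23)) = (LP (LK LD1_c0 LD2_c42 LD3_c17)) :=
  Lgr Lrot95 (Lpr_df (K14.f255095 IH) (Lpe (K14.f253562 IH) (Lpe (K14.f253558 IH) (Lpn (LP (LK LD1_c0 LD2_c42 LD3_c17))))))
theorem f319442 : Led Lsl_bt (LP (LK LD1_c2 LD2_c44 LD3_c48)) = (LP (LK LD1_c2 LD2_c26 LD3_c16)) :=
  Lgr Lrot128 (Lpe (f319428 IH) (Lpe (f319441 IH) (Lpr_cf (K20.f319426 IH) (Lpe (f255099 IH) (Lpe (K14.f182338 IH) (Lpn (LP (LK LD1_c2 LD2_c26 LD3_c16))))))))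
theorem f387054 : Led Lsl_dt (LP (LK LD1_c2 LD2_c44 LD3_c49)) = (LP (LK LD1_c1 LD2_c18 LD3_c43)) :=
  Lre_d IH (LK LD1_c2 LD2_c44 LD3_c49) (LK LD1_c1 LD2_c18 LD3_c43) Lrfl Lrfl
theorem f386986 : Led Lsl_gt (LP (LK LD1_c5 LD2_c37 LD3_c45)) = (LP (LK LD1_c2 LD2_c44 LD3_c49)) :=
  Lre_g IH (LK LD1_c5 LD2_c37 LD3_c45) (LK LD1_c2 LD2_c44 LD3_c49) Lrfl Lrfl
theorem f386993 : Led Lsl_bt (LP (LK LD1_c11 LD2_c6 LD3_c55)) = (LP (LK LD1_c5 LD2_c37 LD3_c45)) :=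
  Lre_b IH (LK LD1_c11 LD2_c6 LD3_c55) (LK LD1_c5 LD2_c37 LD3_c45) Lrfl Lrfl
theorem f319420 : Led Lsl_ct (LP (LK LD1_c1 LD2_c18 LD3_c44)) = (LP (LK LD1_c2 LD2_c42 LD3_c4)) :=
  Lgr Lrot7 (Lpe (K31.f180402 IH) (Lpr_gf (K20.f319414 IH) (Lpe (K9.f165210 IH) (Lpr_gf (K9.f172135 IH) (Lpe (K9.f40745 IH) (Lpr_gt (K9.f169277 IH) (Lpr_dt (K9.f169276 IH) (Lpr_gt (K12.f179191 IH) (Lpe (K12.f183310 IH) (Lpn (LP (LK LD1_c2 LD2_c42 LD3_c4))))))))))))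
theorem f319458 : Led Lsl_bt (LP (LK LD1_c1 LD2_c18 LD3_c44)) = (LP (LK LD1_c2 LD2_c44 LD3_c49)) :=
  Lre_b IH (LK LD1_c1 LD2_c18 LD3_c44) (LK LD1_c2 LD2_c44 LD3_c49) Lrfl Lrfl
theorem f280301 : Led Lsl_gt (LP (LK LD1_c1 LD2_c20 LD3_c1)) = (LP (LK LD1_c2 LD2_c47 LD3_c23)) :=
  Lre_g IH (LK LD1_c1 LD2_c20 LD3_c1) (LK LD1_c2 LD2_c47 LD3_c23) Lrfl Lrfl
theorem f280304 : Led Lsl_ct (LP (LK LD1_c2 LD2_c47 LD3_c23)) = (LP (LK LD1_c5 LD2_c42 LD3_c48)) :=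
  Lre_c IH (LK LD1_c2 LD2_c47 LD3_c23) (LK LD1_c5 LD2_c42 LD3_c48) Lrfl Lrfl
theorem f280305 : Led Lsl_gt (LP (LK LD1_c5 LD2_c42 LD3_c48)) = (LP (LK LD1_c11 LD2_c15 LD3_c48)) :=
  Lre_g IH (LK LD1_c5 LD2_c42 LD3_c48) (LK LD1_c11 LD2_c15 LD3_c48) Lrfl Lrfl
theorem f402599 : Led Lsl_ct (LP (LK LD1_c11 LD2_c6 LD3_c55)) = (LP (LK LD1_c11 LD2_c15 LD3_c48)) :=
  Lgr Lrot63 (Lpr_bt (f386993 IH) (Lpr_gt (f386986 IH) (Lpe (f319458 IH) (Lpr_ct (f319420 IH) (Lpr_gt (K12.f173933 IH) (Lpr_cf (K12.f175273 IH) (Lpr_bt (K16.f268827 IH) (Lpr_gt (f280301 IH) (Lpr_ct (f280304 IH) (Lpr_gt (f280305 IH) (Lpn (LP (LK LD1_c11 LD2_c15 LD3_c48)))))))))))))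
theorem f402603 : Led Lsl_cf (LP (LK LD1_c11 LD2_c6 LD3_c55)) = (LP (LK LD1_c11 LD2_c15 LD3_c48)) :=
  Lgr Lrot11 (Lpr_ct (f402599 IH) (Lpn (LP (LK LD1_c11 LD2_c15 LD3_c48))))
theorem f423951 : Led Lsl_bt (LP (LK LD1_c20 LD2_c10 LD3_c9)) = (LP (LK LD1_c11 LD2_c15 LD3_c10)) :=
  Lre_b IH (LK LD1_c20 LD2_c10 LD3_c9) (LK LD1_c11 LD2_c15 LD3_c10) Lrfl Lrfl
theorem f422933 : Led Lsl_gt (LP (LK LD1_c11 LD2_c15 LD3_c10)) = (LP (LK LD1_c20 LD2_c10 LD3_c11)) :=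
  Lre_g IH (LK LD1_c11 LD2_c15 LD3_c10) (LK LD1_c20 LD2_c10 LD3_c11) Lrfl Lrfl
theorem f423954 : Led Lsl_df (LP (LK LD1_c11 LD2_c15 LD3_c48)) = (LP (LK LD1_c20 LD2_c10 LD3_c11)) :=
  Lgr Lrot183 (Lpe (f402603 IH) (Lpr_bt (f386993 IH) (Lpr_gt (f386986 IH) (Lpr_dt (f387054 IH) (Lpr_ct (f319428 IH) (Lpr_bt (f319442 IH) (Lpr_gt (K16.f255122 IH) (Lpr_dt (K12.f210732 IH) (Lpr_ct (K12.f197721 IH) (Lpr_bt (K30.f197737 IH) (Lpe (K31.f396923 IH) (Lpr_dt (K30.f396926 IH) (Lpr_ct (K31.f397838 IH) (Lpe (K31.f397844 IH) (Lpr_gt (K31.f374204 IH) (Lpr_dt (f374212 IH) (Lpr_ct (f423946 IH) (Lpr_bt (f423951 IH) (Lpr_gt (f422933 IH) (Lpn (LP (LK LD1_c20 LD2_c10 LD3_c11))))))))))))))))))))))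
theorem f423958 : Led Lsl_dt (LP (LK LD1_c11 LD2_c15 LD3_c48)) = (LP (LK LD1_c20 LD2_c10 LD3_c11)) :=
  Lgr Lrot42 (Lpr_df (f423954 IH) (Lpn (LP (LK LD1_c20 LD2_c10 LD3_c11))))
theorem f280306 : Led Lsl_ct (LP (LK LD1_c5 LD2_c42 LD3_c48)) = (LP (LK LD1_c2 LD2_c47 LD3_c23)) :=
  Lre_c IH (LK LD1_c5 LD2_c42 LD3_c48) (LK LD1_c2 LD2_c47 LD3_c23) Lrfl Lrfl
theorem f280302 : Led Lsl_gt (LP (LK LD1_c2 LD2_c47 LD3_c23)) = (LP (LK LD1_c4 LD2_c32 LD3_c12)) :=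
  Lgr Lrot46 (Lpe (f280301 IH) (Lpr_ft (K16.f280288 IH) (Lpr_at (K16.f280287 IH) (Lpn (LP (LK LD1_c4 LD2_c32 LD3_c12))))))
theorem f423971 : Led Lsl_gf (LP (LK LD1_c11 LD2_c15 LD3_c16)) = (LP (LK LD1_c20 LD2_c10 LD3_c11)) :=
  Lgr Lrot143 (Lpr_dt (f280528 IH) (Lpe (f280527 IH) (Lpe (f280526 IH) (Lpr_gf (K31.f280524 IH) (Lpe (K16.f181770 IH) (Lpe (f280302 IH) (Lpe (f280306 IH) (Lpr_gt (f280305 IH) (Lpr_dt (f423958 IH) (Lpn (LP (LK LD1_c20 LD2_c10 LD3_c11))))))))))))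
theorem f423895 : Led Lsl_ct (LP (LK LD1_c11 LD2_c15 LD3_c16)) = (LP (LK LD1_c20 LD2_c10 LD3_c3)) :=
  Lgr Lrot59 (Lpr_cf (f423893 IH) (Lpn (LP (LK LD1_c20 LD2_c10 LD3_c3))))
theorem f280276 : Led Lsl_ct (LP (LK LD1_c11 LD2_c16 LD3_c5)) = (LP (LK LD1_c5 LD2_c42 LD3_c55)) :=
  Lre_c IH (LK LD1_c11 LD2_c16 LD3_c5) (LK LD1_c5 LD2_c42 LD3_c55) Lrfl Lrfl
theorem f172501 : Led Lsl_ct (LP (LK LD1_c1 LD2_c20 LD3_c1)) = (LP (LK LD1_c2 LD2_c47 LD3_c25)) :=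
  Lre_c IH (LK LD1_c1 LD2_c20 LD3_c1) (LK LD1_c2 LD2_c47 LD3_c25) Lrfl Lrfl
theorem f172746 : Led Lsl_gt (LP (LK LD1_c2 LD2_c47 LD3_c24)) = (LP (LK LD1_c1 LD2_c20 LD3_c1)) :=
  Lre_g IH (LK LD1_c2 LD2_c47 LD3_c24) (LK LD1_c1 LD2_c20 LD3_c1) Lrfl Lrfl
theorem f280889 : Led Lsl_ct (LP (LK LD1_c5 LD2_c42 LD3_c51)) = (LP (LK LD1_c2 LD2_c47 LD3_c24)) :=
  Lre_c IH (LK LD1_c5 LD2_c42 LD3_c51) (LK LD1_c2 LD2_c47 LD3_c24) Lrfl Lrfl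
theorem f423973 : Led Lsl_gt (LP (LK LD1_c11 LD2_c15 LD3_c48)) = (LP (LK LD1_c5 LD2_c42 LD3_c51)) :=
  Lgr Lrot146 (Lpr_dt (f423958 IH) (Lpe (f423971 IH) (Lpr_ct (f423895 IH) (Lpr_gt (f423874 IH) (Lpr_ct (f280276 IH) (Lpr_dt (K20.f174234 IH) (Lpe (f172501 IH) (Lpe (f172746 IH) (Lpe (f280889 IH) (Lpn (LP (LK LD1_c5 LD2_c42 LD3_c51))))))))))))
theorem f386904 : Led Lsl_et (LP (LK LD1_c9 LD2_c48 LD3_c3)) = (LP (LK LD1_c17 LD2_c58 LD3_c17)) :=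
  Lre_e IH (LK LD1_c9 LD2_c48 LD3_c3) (LK LD1_c17 LD2_c58 LD3_c17) Lrfl Lrfl
theorem f177282 : Led Lsl_et (LP (LK LD1_c10 LD2_c6 LD3_c45)) = (LP (LK LD1_c5 LD2_c8 LD3_c6)) :=
  Lre_e IH (LK LD1_c10 LD2_c6 LD3_c45) (LK LD1_c5 LD2_c8 LD3_c6) Lrfl Lrfl
theorem f386905 : Led Lsl_at (LP (LK LD1_c17 LD2_c58 LD3_c17)) = (LP (LK LD1_c10 LD2_c6 LD3_c45)) :=
  Lgr Lrot80 (Lpe (f386904 IH) (Lpr_af (K32.f386894 IH) (Lpe (f177282 IH) (Lpn (LP (LK LD1_c10 LD2_c6 LD3_c45))))))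
theorem f386909 : Led Lsl_ct (LP (LK LD1_c9 LD2_c48 LD3_c4)) = (LP (LK LD1_c17 LD2_c58 LD3_c17)) :=
  Lre_c IH (LK LD1_c9 LD2_c48 LD3_c4) (LK LD1_c17 LD2_c58 LD3_c17) Lrfl Lrfl
theorem f165121 : Led Lsl_ct (LP (LK LD1_c10 LD2_c6 LD3_c45)) = (LP (LK LD1_c5 LD2_c8 LD3_c7)) :=
  Lre_c IH (LK LD1_c10 LD2_c6 LD3_c45) (LK LD1_c5 LD2_c8 LD3_c7) Lrfl Lrfl
theorem f386910 : Led Lsl_af (LP (LK LD1_c9 LD2_c48 LD3_c4)) = (LP (LK LD1_c5 LD2_c8 LD3_c7)) :=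
  Lgr Lrot68 (Lpr_ct (f386909 IH) (Lpr_at (f386905 IH) (Lpr_ct (f165121 IH) (Lpn (LP (LK LD1_c5 LD2_c8 LD3_c7))))))
theorem f225500 : Led Lsl_at (LP (LK LD1_c10 LD2_c18 LD3_c35)) = (LP (LK LD1_c5 LD2_c14 LD3_c33)) :=
  Lre_a IH (LK LD1_c10 LD2_c18 LD3_c35) (LK LD1_c5 LD2_c14 LD3_c33) Lrfl Lrfl
theorem f386914 : Led Lsl_bt (LP (LK LD1_c9 LD2_c48 LD3_c4)) = (LP (LK LD1_c10 LD2_c18 LD3_c35)) :=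
  Lgr Lrot62 (Lpr_af (f386910 IH) (Lpe (K32.f165120 IH) (Lpe (K17.f288067 IH) (Lpe (K12.f225462 IH) (Lpe (f225500 IH) (Lpn (LP (LK LD1_c10 LD2_c18 LD3_c35))))))))
theorem f386875 : Led Lsl_et (LP (LK LD1_c4 LD2_c58 LD3_c48)) = (LP (LK LD1_c9 LD2_c48 LD3_c4)) :=
  Lre_e IH (LK LD1_c4 LD2_c58 LD3_c48) (LK LD1_c9 LD2_c48 LD3_c4) Lrfl Lrfl
theorem f225520 : Led Lsl_et (LP (LK LD1_c10 LD2_c18 LD3_c35)) = (LP (LK LD1_c5 LD2_c14 LD3_c31)) :=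
  Lre_e IH (LK LD1_c10 LD2_c18 LD3_c35) (LK LD1_c5 LD2_c14 LD3_c31) Lrfl Lrfl
theorem f386935 : Led Lsl_bf (LP (LK LD1_c4 LD2_c58 LD3_c48)) = (LP (LK LD1_c5 LD2_c14 LD3_c31)) :=
  Lgr Lrot96 (Lpr_et (f386875 IH) (Lpr_bt (f386914 IH) (Lpr_et (f225520 IH) (Lpn (LP (LK LD1_c5 LD2_c14 LD3_c31))))))
theorem f225480 : Led Lsl_bt (LP (LK LD1_c5 LD2_c14 LD3_c36)) = (LP (LK LD1_c10 LD2_c18 LD3_c40)) :=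
  Lre_b IH (LK LD1_c5 LD2_c14 LD3_c36) (LK LD1_c10 LD2_c18 LD3_c40) Lrfl Lrfl
theorem f165768 : Led Lsl_bt (LP (LK LD1_c10 LD2_c6 LD3_c60)) = (LP (LK LD1_c5 LD2_c8 LD3_c16)) :=
  Lre_b IH (LK LD1_c10 LD2_c6 LD3_c60) (LK LD1_c5 LD2_c8 LD3_c16) Lrfl Lrfl
theorem f288137 : Led Lsl_et (LP (LK LD1_c10 LD2_c18 LD3_c40)) = (LP (LK LD1_c10 LD2_c6 LD3_c60)) :=
  Lgr Lrot74 (Lpe (f225480 IH) (Lpr_ef (K17.f288133 IH) (Lpe (f165768 IH) (Lpn (LP (LK LD1_c10 LD2_c6 LD3_c60))))))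
theorem f288142 : Led Lsl_ef (LP (LK LD1_c10 LD2_c18 LD3_c40)) = (LP (LK LD1_c10 LD2_c6 LD3_c60)) :=
  Lgr Lrot88 (Lpr_et (f288137 IH) (Lpn (LP (LK LD1_c10 LD2_c6 LD3_c60))))
theorem f225491 : Led Lsl_at (LP (LK LD1_c10 LD2_c18 LD3_c40)) = (LP (LK LD1_c18 LD2_c43 LD3_c33)) :=
  Lre_a IH (LK LD1_c10 LD2_c18 LD3_c40) (LK LD1_c18 LD2_c43 LD3_c33) Lrfl Lrfl
theorem f288145 : Led Lsl_at (LP (LK LD1_c18 LD2_c26 LD3_c2)) = (LP (LK LD1_c10 LD2_c6 LD3_c60)) :=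
  Lre_a IH (LK LD1_c18 LD2_c26 LD3_c2) (LK LD1_c10 LD2_c6 LD3_c60) Lrfl Lrfl
theorem f288146 : Led Lsl_et (LP (LK LD1_c18 LD2_c43 LD3_c33)) = (LP (LK LD1_c18 LD2_c26 LD3_c2)) :=
  Lgr Lrot123 (Lpe (f225491 IH) (Lpr_ef (f288142 IH) (Lpe (f288145 IH) (Lpn (LP (LK LD1_c18 LD2_c26 LD3_c2))))))
theorem f225522 : Led Lsl_ft (LP (LK LD1_c10 LD2_c18 LD3_c35)) = (LP (LK LD1_c18 LD2_c43 LD3_c33)) :=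
  Lre_f IH (LK LD1_c10 LD2_c18 LD3_c35) (LK LD1_c18 LD2_c43 LD3_c33) Lrfl Lrfl
theorem f225530 : Led Lsl_et (LP (LK LD1_c5 LD2_c14 LD3_c31)) = (LP (LK LD1_c10 LD2_c18 LD3_c35)) :=
  Lre_e IH (LK LD1_c5 LD2_c14 LD3_c31) (LK LD1_c10 LD2_c18 LD3_c35) Lrfl Lrfl
theorem f288149 : Led Lsl_ft (LP (LK LD1_c18 LD2_c26 LD3_c2)) = (LP (LK LD1_c10 LD2_c6 LD3_c54)) :=
  Lre_f IH (LK LD1_c18 LD2_c26 LD3_c2) (LK LD1_c10 LD2_c6 LD3_c54) Lrfl Lrfl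
theorem f177303 : Led Lsl_et (LP (LK LD1_c10 LD2_c6 LD3_c54)) = (LP (LK LD1_c5 LD2_c8 LD3_c11)) :=
  Lre_e IH (LK LD1_c10 LD2_c6 LD3_c54) (LK LD1_c5 LD2_c8 LD3_c11) Lrfl Lrfl
theorem f288150 : Led Lsl_ff (LP (LK LD1_c5 LD2_c14 LD3_c31)) = (LP (LK LD1_c5 LD2_c8 LD3_c11)) :=
  Lgr Lrot72 (Lpr_et (f225530 IH) (Lpr_ft (f225522 IH) (Lpr_et (f288146 IH) (Lpr_ft (f288149 IH) (Lpr_et (f177303 IH) (Lpn (LP (LK LD1_c5 LD2_c8 LD3_c11))))))))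
theorem f386939 : Led Lsl_bt (LP (LK LD1_c5 LD2_c14 LD3_c37)) = (LP (LK LD1_c5 LD2_c8 LD3_c11)) :=
  Lgr Lrot35 (Lpe (K28.f386878 IH) (Lpr_bf (f386935 IH) (Lpr_ff (f288150 IH) (Lpn (LP (LK LD1_c5 LD2_c8 LD3_c11))))))
theorem f180680 : Led Lsl_dt (LP (LK LD1_c4 LD2_c53 LD3_c50)) = (LP (LK LD1_c5 LD2_c14 LD3_c37)) :=
  Lgr Lrot44 (Lpe (K27.f180678 IH) (Lpr_df (K32.f180673 IH) (Lpe (K32.f180679 IH) (Lpn (LP (LK LD1_c5 LD2_c14 LD3_c37))))))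
theorem f31620 : Led Lsl_bt (LP (LK LD1_c1 LD2_c9 LD3_c39)) = (LP (LK LD1_c2 LD2_c24 LD3_c50)) :=
  Lre_b IH (LK LD1_c1 LD2_c9 LD3_c39) (LK LD1_c2 LD2_c24 LD3_c50) Lrfl Lrfl
theorem f3765 : Led Lsl_bt (LP (LK LD1_c2 LD2_c31 LD3_c19)) = (LP (LK LD1_c1 LD2_c12 LD3_c39)) :=
  Lre_b IH (LK LD1_c2 LD2_c31 LD3_c19) (LK LD1_c1 LD2_c12 LD3_c39) Lrfl Lrfl
theorem f177204 : Led Lsl_dt (LP (LK LD1_c2 LD2_c24 LD3_c50)) = (LP (LK LD1_c2 LD2_c31 LD3_c19)) :=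
  Lgr Lrot79 (Lpe (f31620 IH) (Lpr_df (K9.f177199 IH) (Lpe (f3765 IH) (Lpn (LP (LK LD1_c2 LD2_c31 LD3_c19))))))
theorem f177289 : Led Lsl_at (LP (LK LD1_c4 LD2_c53 LD3_c55)) = (LP (LK LD1_c2 LD2_c24 LD3_c50)) :=
  Lre_a IH (LK LD1_c4 LD2_c53 LD3_c55) (LK LD1_c2 LD2_c24 LD3_c50) Lrfl Lrfl
theorem f177290 : Led Lsl_at (LP (LK LD1_c2 LD2_c31 LD3_c19)) = (LP (LK LD1_c5 LD2_c8 LD3_c11)) :=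
  Lre_a IH (LK LD1_c2 LD2_c31 LD3_c19) (LK LD1_c5 LD2_c8 LD3_c11) Lrfl Lrfl
theorem f177291 : Led Lsl_df (LP (LK LD1_c4 LD2_c53 LD3_c55)) = (LP (LK LD1_c5 LD2_c8 LD3_c11)) :=
  Lgr Lrot18 (Lpr_at (f177289 IH) (Lpr_dt (f177204 IH) (Lpr_at (f177290 IH) (Lpn (LP (LK LD1_c5 LD2_c8 LD3_c11))))))
theorem f386941 : Led Lsl_bf (LP (LK LD1_c4 LD2_c53 LD3_c50)) = (LP (LK LD1_c4 LD2_c53 LD3_c55)) :=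
  Lgr Lrot93 (Lpr_dt (f180680 IH) (Lpr_bt (f386939 IH) (Lpe (f177291 IH) (Lpn (LP (LK LD1_c4 LD2_c53 LD3_c55))))))
theorem f386951 : Led Lsl_bt (LP (LK LD1_c4 LD2_c53 LD3_c50)) = (LP (LK LD1_c4 LD2_c53 LD3_c55)) :=
  Lgr Lrot127 (Lpr_bf (f386941 IH) (Lpn (LP (LK LD1_c4 LD2_c53 LD3_c55))))
theorem f302661 : Led Lsl_ft (LP (LK LD1_c4 LD2_c53 LD3_c52)) = (LP (LK LD1_c4 LD2_c53 LD3_c50)) :=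
  Lgr Lrot101 (Lpe (K18.f53225 IH) (Lpr_ff (K27.f302643 IH) (Lpe (K28.f180669 IH) (Lpn (LP (LK LD1_c4 LD2_c53 LD3_c50))))))
theorem f288158 : Led Lsl_ft (LP (LK LD1_c5 LD2_c14 LD3_c31)) = (LP (LK LD1_c5 LD2_c8 LD3_c11)) :=
  Lgr Lrot48 (Lpr_ff (f288150 IH) (Lpn (LP (LK LD1_c5 LD2_c8 LD3_c11))))
theorem f225659 : Led Lsl_df (LP (LK LD1_c2 LD2_c7 LD3_c25)) = (LP (LK LD1_c2 LD2_c46 LD3_c16)) :=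
  Lgr Lrot38 (Lpr_dt (K12.f225451 IH) (Lpn (LP (LK LD1_c2 LD2_c46 LD3_c16))))
theorem f181090 : Led Lsl_et (LP (LK LD1_c2 LD2_c7 LD3_c25)) = (LP (LK LD1_c2 LD2_c24 LD3_c47)) :=
  Lgr Lrot74 (Lpe (K12.f179875 IH) (Lpr_ef (K9.f181087 IH) (Lpe (K12.f181089 IH) (Lpn (LP (LK LD1_c2 LD2_c24 LD3_c47))))))
theorem f225506 : Led Lsl_et (LP (LK LD1_c5 LD2_c40 LD3_c43)) = (LP (LK LD1_c2 LD2_c46 LD3_c16)) :=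
  Lre_e IH (LK LD1_c5 LD2_c40 LD3_c43) (LK LD1_c2 LD2_c46 LD3_c16) Lrfl Lrfl
theorem f225484 : Led Lsl_dt (LP (LK LD1_c5 LD2_c14 LD3_c36)) = (LP (LK LD1_c5 LD2_c40 LD3_c45)) :=
  Lgr Lrot42 (Lpr_df (K17.f225469 IH) (Lpn (LP (LK LD1_c5 LD2_c40 LD3_c45))))
theorem f225487 : Led Lsl_bt (LP (LK LD1_c10 LD2_c18 LD3_c40)) = (LP (LK LD1_c5 LD2_c14 LD3_c36)) :=
  Lre_b IH (LK LD1_c10 LD2_c18 LD3_c40) (LK LD1_c5 LD2_c14 LD3_c36) Lrfl Lrfl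
theorem f225488 : Led Lsl_bt (LP (LK LD1_c5 LD2_c40 LD3_c45)) = (LP (LK LD1_c11 LD2_c12 LD3_c3)) :=
  Lre_b IH (LK LD1_c5 LD2_c40 LD3_c45) (LK LD1_c11 LD2_c12 LD3_c3) Lrfl Lrfl
theorem f225489 : Led Lsl_df (LP (LK LD1_c10 LD2_c18 LD3_c40)) = (LP (LK LD1_c11 LD2_c12 LD3_c3)) :=
  Lgr Lrot12 (Lpr_bt (f225487 IH) (Lpr_dt (f225484 IH) (Lpr_bt (f225488 IH) (Lpn (LP (LK LD1_c11 LD2_c12 LD3_c3))))))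
theorem f225492 : Led Lsl_ft (LP (LK LD1_c10 LD2_c18 LD3_c40)) = (LP (LK LD1_c5 LD2_c14 LD3_c33)) :=
  Lre_f IH (LK LD1_c10 LD2_c18 LD3_c40) (LK LD1_c5 LD2_c14 LD3_c33) Lrfl Lrfl
theorem f225493 : Led Lsl_ft (LP (LK LD1_c5 LD2_c40 LD3_c43)) = (LP (LK LD1_c11 LD2_c12 LD3_c3)) :=
  Lre_f IH (LK LD1_c5 LD2_c40 LD3_c43) (LK LD1_c11 LD2_c12 LD3_c3) Lrfl Lrfl
theorem f225494 : Led Lsl_dt (LP (LK LD1_c5 LD2_c14 LD3_c33)) = (LP (LK LD1_c5 LD2_c40 LD3_c43)) :=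
  Lgr Lrot60 (Lpe (f225492 IH) (Lpr_df (f225489 IH) (Lpe (f225493 IH) (Lpn (LP (LK LD1_c5 LD2_c40 LD3_c43))))))
theorem f225505 : Led Lsl_et (LP (LK LD1_c2 LD2_c34 LD3_c6)) = (LP (LK LD1_c5 LD2_c14 LD3_c33)) :=
  Lre_e IH (LK LD1_c2 LD2_c34 LD3_c6) (LK LD1_c5 LD2_c14 LD3_c33) Lrfl Lrfl
theorem f225669 : Led Lsl_dt (LP (LK LD1_c2 LD2_c24 LD3_c47)) = (LP (LK LD1_c2 LD2_c34 LD3_c6)) :=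
  Lgr Lrot77 (Lpe (f181090 IH) (Lpr_df (f225659 IH) (Lpe (f225506 IH) (Lpe (f225494 IH) (Lpe (f225505 IH) (Lpn (LP (LK LD1_c2 LD2_c34 LD3_c6))))))))
theorem f225549 : Led Lsl_at (LP (LK LD1_c4 LD2_c53 LD3_c49)) = (LP (LK LD1_c2 LD2_c24 LD3_c47)) :=
  Lre_a IH (LK LD1_c4 LD2_c53 LD3_c49) (LK LD1_c2 LD2_c24 LD3_c47) Lrfl Lrfl
theorem f225673 : Led Lsl_at (LP (LK LD1_c2 LD2_c34 LD3_c6)) = (LP (LK LD1_c5 LD2_c14 LD3_c31)) :=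
  Lre_a IH (LK LD1_c2 LD2_c34 LD3_c6) (LK LD1_c5 LD2_c14 LD3_c31) Lrfl Lrfl
theorem f225674 : Led Lsl_df (LP (LK LD1_c4 LD2_c53 LD3_c49)) = (LP (LK LD1_c5 LD2_c14 LD3_c31)) :=
  Lgr Lrot18 (Lpr_at (f225549 IH) (Lpr_dt (f225669 IH) (Lpr_at (f225673 IH) (Lpn (LP (LK LD1_c5 LD2_c14 LD3_c31))))))
theorem f225680 : Led Lsl_dt (LP (LK LD1_c4 LD2_c53 LD3_c49)) = (LP (LK LD1_c5 LD2_c14 LD3_c31)) :=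
  Lgr Lrot42 (Lpr_df (f225674 IH) (Lpn (LP (LK LD1_c5 LD2_c14 LD3_c31))))
theorem f288162 : Led Lsl_ff (LP (LK LD1_c4 LD2_c53 LD3_c49)) = (LP (LK LD1_c4 LD2_c53 LD3_c55)) :=
  Lgr Lrot19 (Lpr_dt (f225680 IH) (Lpr_ft (f288158 IH) (Lpe (f177291 IH) (Lpn (LP (LK LD1_c4 LD2_c53 LD3_c55))))))
theorem f386953 : Led Lsl_bf (LP (LK LD1_c4 LD2_c53 LD3_c52)) = (LP (LK LD1_c4 LD2_c53 LD3_c49)) :=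
  Lgr Lrot61 (Lpr_ft (f302661 IH) (Lpr_bt (f386951 IH) (Lpe (f288162 IH) (Lpn (LP (LK LD1_c4 LD2_c53 LD3_c49))))))
theorem f225550 : Led Lsl_at (LP (LK LD1_c2 LD2_c7 LD3_c25)) = (LP (LK LD1_c4 LD2_c19 LD3_c53)) :=
  Lre_a IH (LK LD1_c2 LD2_c7 LD3_c25) (LK LD1_c4 LD2_c19 LD3_c53) Lrfl Lrfl
theorem f225551 : Led Lsl_ef (LP (LK LD1_c4 LD2_c53 LD3_c49)) = (LP (LK LD1_c4 LD2_c19 LD3_c53)) :=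
  Lgr Lrot20 (Lpr_at (f225549 IH) (Lpr_et (K12.f225545 IH) (Lpr_at (f225550 IH) (Lpn (LP (LK LD1_c4 LD2_c19 LD3_c53))))))
theorem f386955 : Led Lsl_bt (LP (LK LD1_c2 LD2_c44 LD3_c42)) = (LP (LK LD1_c4 LD2_c19 LD3_c53)) :=
  Lgr Lrot119 (Lpr_ef (K28.f165152 IH) (Lpr_bf (f386953 IH) (Lpr_ef (f225551 IH) (Lpn (LP (LK LD1_c4 LD2_c19 LD3_c53))))))
theorem f289387 : Led Lsl_ft (LP (LK LD1_c4 LD2_c31 LD3_c5)) = (LP (LK LD1_c2 LD2_c44 LD3_c42)) :=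
  Lgr Lrot101 (Lpe (K27.f211958 IH) (Lpr_ff (K17.f289376 IH) (Lpe (K18.f165155 IH) (Lpn (LP (LK LD1_c2 LD2_c44 LD3_c42))))))
theorem f289380 : Led Lsl_gt (LP (LK LD1_c2 LD2_c44 LD3_c35)) = (LP (LK LD1_c4 LD2_c31 LD3_c1)) :=
  Lgr Lrot46 (Lpe (K27.f211949 IH) (Lpr_ft (K17.f289369 IH) (Lpr_at (K18.f289371 IH) (Lpn (LP (LK LD1_c4 LD2_c31 LD3_c1))))))
theorem f302419 : Led Lsl_ct (LP (LK LD1_c5 LD2_c42 LD3_c7)) = (LP (LK LD1_c11 LD2_c14 LD3_c29)) :=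
  Lre_c IH (LK LD1_c5 LD2_c42 LD3_c7) (LK LD1_c11 LD2_c14 LD3_c29) Lrfl Lrfl
theorem f211899 : Led Lsl_gt (LP (LK LD1_c1 LD2_c20 LD3_c19)) = (LP (LK LD1_c2 LD2_c48 LD3_c9)) :=
  Lre_g IH (LK LD1_c1 LD2_c20 LD3_c19) (LK LD1_c2 LD2_c48 LD3_c9) Lrfl Lrfl
theorem f383324 : Led Lsl_dt (LP (LK LD1_c2 LD2_c48 LD3_c9)) = (LP (LK LD1_c5 LD2_c44 LD3_c31)) :=
  Lre_d IH (LK LD1_c2 LD2_c48 LD3_c9) (LK LD1_c5 LD2_c44 LD3_c31) Lrfl Lrfl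
theorem f383325 : Led Lsl_gt (LP (LK LD1_c5 LD2_c44 LD3_c31)) = (LP (LK LD1_c11 LD2_c19 LD3_c6)) :=
  Lre_g IH (LK LD1_c5 LD2_c44 LD3_c31) (LK LD1_c11 LD2_c19 LD3_c6) Lrfl Lrfl
theorem f383326 : Led Lsl_df (LP (LK LD1_c11 LD2_c14 LD3_c29)) = (LP (LK LD1_c11 LD2_c19 LD3_c6)) :=
  Lgr Lrot84 (Lpe (f302419 IH) (Lpe (K27.f302417 IH) (Lpe (f289380 IH) (Lpr_df (K28.f383254 IH) (Lpe (K27.f75568 IH) (Lpe (K27.f172560 IH) (Lpr_gt (f211899 IH) (Lpr_dt (f383324 IH) (Lpr_gt (f383325 IH) (Lpn (LP (LK LD1_c11 LD2_c19 LD3_c6))))))))))))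
theorem f289467 : Led Lsl_dt (LP (LK LD1_c5 LD2_c40 LD3_c36)) = (LP (LK LD1_c11 LD2_c11 LD3_c55)) :=
  Lre_d IH (LK LD1_c5 LD2_c40 LD3_c36) (LK LD1_c11 LD2_c11 LD3_c55) Lrfl Lrfl
theorem f383361 : Led Lsl_ct (LP (LK LD1_c11 LD2_c11 LD3_c55)) = (LP (LK LD1_c11 LD2_c19 LD3_c6)) :=
  Lgr Lrot53 (Lpe (f289467 IH) (Lpe (K27.f289466 IH) (Lpr_df (K20.f289442 IH) (Lpe (K18.f211943 IH) (Lpe (K17.f211950 IH) (Lpr_ft (K27.f289229 IH) (Lpr_at (K27.f289309 IH) (Lpe (K27.f289473 IH) (Lpr_df (f383326 IH) (Lpn (LP (LK LD1_c11 LD2_c19 LD3_c6))))))))))))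
theorem f383367 : Led Lsl_cf (LP (LK LD1_c11 LD2_c11 LD3_c55)) = (LP (LK LD1_c11 LD2_c19 LD3_c6)) :=
  Lgr Lrot11 (Lpr_ct (f383361 IH) (Lpn (LP (LK LD1_c11 LD2_c19 LD3_c6))))
theorem f289474 : Led Lsl_dt (LP (LK LD1_c11 LD2_c11 LD3_c55)) = (LP (LK LD1_c5 LD2_c40 LD3_c36)) :=
  Lre_d IH (LK LD1_c11 LD2_c11 LD3_c55) (LK LD1_c5 LD2_c40 LD3_c36) Lrfl Lrfl
theorem f383357 : Led Lsl_dt (LP (LK LD1_c11 LD2_c14 LD3_c29)) = (LP (LK LD1_c11 LD2_c19 LD3_c6)) :=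
  Lgr Lrot42 (Lpr_df (f383326 IH) (Lpn (LP (LK LD1_c11 LD2_c19 LD3_c6))))
theorem f165150 : Led Lsl_dt (LP (LK LD1_c5 LD2_c37 LD3_c30)) = (LP (LK LD1_c2 LD2_c44 LD3_c42)) :=
  Lre_d IH (LK LD1_c5 LD2_c37 LD3_c30) (LK LD1_c2 LD2_c44 LD3_c42) Lrfl Lrfl
theorem f165154 : Led Lsl_dt (LP (LK LD1_c2 LD2_c44 LD3_c42)) = (LP (LK LD1_c5 LD2_c37 LD3_c30)) :=
  Lre_d IH (LK LD1_c2 LD2_c44 LD3_c42) (LK LD1_c5 LD2_c37 LD3_c30) Lrfl Lrfl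
theorem f381369 : Led Lsl_ff (LP (LK LD1_c4 LD2_c57 LD3_c10)) = (LP (LK LD1_c5 LD2_c37 LD3_c30)) :=
  Lgr Lrot19 (Lpr_dt (K27.f381361 IH) (Lpr_ft (f289387 IH) (Lpr_dt (f165154 IH) (Lpn (LP (LK LD1_c5 LD2_c37 LD3_c30))))))
theorem f383379 : Led Lsl_af (LP (LK LD1_c2 LD2_c46 LD3_c14)) = (LP (LK LD1_c4 LD2_c57 LD3_c10)) :=
  Lgr Lrot109 (Lpe (K20.f226741 IH) (Lpe (f289474 IH) (Lpr_cf (f383367 IH) (Lpe (f383357 IH) (Lpe (f302419 IH) (Lpe (K27.f302417 IH) (Lpe (K28.f289426 IH) (Lpe (f165150 IH) (Lpe (f381369 IH) (Lpn (LP (LK LD1_c4 LD2_c57 LD3_c10))))))))))))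
theorem f289470 : Led Lsl_et (LP (LK LD1_c2 LD2_c46 LD3_c14)) = (LP (LK LD1_c5 LD2_c40 LD3_c37)) :=
  Lre_e IH (LK LD1_c2 LD2_c46 LD3_c14) (LK LD1_c5 LD2_c40 LD3_c37) Lrfl Lrfl
theorem f381368 : Led Lsl_et (LP (LK LD1_c9 LD2_c45 LD3_c23)) = (LP (LK LD1_c4 LD2_c57 LD3_c10)) :=
  Lre_e IH (LK LD1_c9 LD2_c45 LD3_c23) (LK LD1_c4 LD2_c57 LD3_c10) Lrfl Lrfl
theorem f383383 : Led Lsl_at (LP (LK LD1_c5 LD2_c40 LD3_c37)) = (LP (LK LD1_c9 LD2_c45 LD3_c23)) :=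
  Lgr Lrot80 (Lpe (f289470 IH) (Lpr_af (f383379 IH) (Lpe (f381368 IH) (Lpn (LP (LK LD1_c9 LD2_c45 LD3_c23))))))
theorem f289479 : Led Lsl_ft (LP (LK LD1_c11 LD2_c11 LD3_c59)) = (LP (LK LD1_c5 LD2_c40 LD3_c37)) :=
  Lre_f IH (LK LD1_c11 LD2_c11 LD3_c59) (LK LD1_c5 LD2_c40 LD3_c37) Lrfl Lrfl
theorem f383390 : Led Lsl_ft (LP (LK LD1_c9 LD2_c45 LD3_c23)) = (LP (LK LD1_c17 LD2_c55 LD3_c1)) :=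
  Lre_f IH (LK LD1_c9 LD2_c45 LD3_c23) (LK LD1_c17 LD2_c55 LD3_c1) Lrfl Lrfl
theorem f383391 : Led Lsl_af (LP (LK LD1_c11 LD2_c11 LD3_c59)) = (LP (LK LD1_c17 LD2_c55 LD3_c1)) :=
  Lgr Lrot45 (Lpr_ft (f289479 IH) (Lpr_at (f383383 IH) (Lpr_ft (f383390 IH) (Lpn (LP (LK LD1_c17 LD2_c55 LD3_c1))))))
theorem f289482 : Led Lsl_bt (LP (LK LD1_c11 LD2_c11 LD3_c59)) = (LP (LK LD1_c5 LD2_c40 LD3_c40)) :=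
  Lre_b IH (LK LD1_c11 LD2_c11 LD3_c59) (LK LD1_c5 LD2_c40 LD3_c40) Lrfl Lrfl
theorem f319490 : Led Lsl_bt (LP (LK LD1_c5 LD2_c37 LD3_c49)) = (LP (LK LD1_c11 LD2_c6 LD3_c60)) :=
  Lre_b IH (LK LD1_c5 LD2_c37 LD3_c49) (LK LD1_c11 LD2_c6 LD3_c60) Lrfl Lrfl
theorem f319483 : Led Lsl_at (LP (LK LD1_c11 LD2_c6 LD3_c60)) = (LP (LK LD1_c20 LD2_c0 LD3_c7)) :=
  Lre_a IH (LK LD1_c11 LD2_c6 LD3_c60) (LK LD1_c20 LD2_c0 LD3_c7) Lrfl Lrfl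
theorem f383397 : Led Lsl_bt (LP (LK LD1_c20 LD2_c0 LD3_c7)) = (LP (LK LD1_c17 LD2_c55 LD3_c1)) :=
  Lgr Lrot62 (Lpe (f319483 IH) (Lpe (f319490 IH) (Lpr_af (K20.f319478 IH) (Lpe (f289482 IH) (Lpr_af (f383391 IH) (Lpn (LP (LK LD1_c17 LD2_c55 LD3_c1))))))))
theorem f383399 : Led Lsl_bf (LP (LK LD1_c20 LD2_c0 LD3_c7)) = (LP (LK LD1_c17 LD2_c55 LD3_c1)) :=
  Lgr Lrot24 (Lpr_bt (f383397 IH) (Lpn (LP (LK LD1_c17 LD2_c55 LD3_c1))))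
theorem f383402 : Led Lsl_ft (LP (LK LD1_c20 LD2_c0 LD3_c7)) = (LP (LK LD1_c11 LD2_c6 LD3_c47)) :=
  Lre_f IH (LK LD1_c20 LD2_c0 LD3_c7) (LK LD1_c11 LD2_c6 LD3_c47) Lrfl Lrfl
theorem f383403 : Led Lsl_bt (LP (LK LD1_c11 LD2_c6 LD3_c47)) = (LP (LK LD1_c9 LD2_c45 LD3_c23)) :=
  Lgr Lrot35 (Lpe (f383402 IH) (Lpr_bf (f383399 IH) (Lpe (f383390 IH) (Lpn (LP (LK LD1_c9 LD2_c45 LD3_c23))))))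
theorem f383407 : Led Lsl_et (LP (LK LD1_c5 LD2_c37 LD3_c40)) = (LP (LK LD1_c11 LD2_c6 LD3_c47)) :=
  Lre_e IH (LK LD1_c5 LD2_c37 LD3_c40) (LK LD1_c11 LD2_c6 LD3_c47) Lrfl Lrfl
theorem f383408 : Led Lsl_bf (LP (LK LD1_c5 LD2_c37 LD3_c40)) = (LP (LK LD1_c4 LD2_c57 LD3_c10)) :=
  Lgr Lrot96 (Lpr_et (f383407 IH) (Lpr_bt (f383403 IH) (Lpr_et (f381368 IH) (Lpn (LP (LK LD1_c4 LD2_c57 LD3_c10))))))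
theorem f383411 : Led Lsl_dt (LP (LK LD1_c5 LD2_c37 LD3_c40)) = (LP (LK LD1_c2 LD2_c44 LD3_c47)) :=
  Lre_d IH (LK LD1_c5 LD2_c37 LD3_c40) (LK LD1_c2 LD2_c44 LD3_c47) Lrfl Lrfl
theorem f381366 : Led Lsl_df (LP (LK LD1_c4 LD2_c57 LD3_c10)) = (LP (LK LD1_c4 LD2_c31 LD3_c5)) :=
  Lgr Lrot38 (Lpr_dt (K27.f381361 IH) (Lpn (LP (LK LD1_c4 LD2_c31 LD3_c5))))
theorem f383412 : Led Lsl_bt (LP (LK LD1_c2 LD2_c44 LD3_c47)) = (LP (LK LD1_c4 LD2_c31 LD3_c5)) :=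
  Lgr Lrot95 (Lpe (f383411 IH) (Lpr_bf (f383408 IH) (Lpr_df (f381366 IH) (Lpn (LP (LK LD1_c4 LD2_c31 LD3_c5))))))
theorem f386961 : Led Lsl_ff (LP (LK LD1_c2 LD2_c44 LD3_c47)) = (LP (LK LD1_c4 LD2_c19 LD3_c53)) :=
  Lgr Lrot25 (Lpr_bt (f383412 IH) (Lpr_ft (f289387 IH) (Lpr_bt (f386955 IH) (Lpn (LP (LK LD1_c4 LD2_c19 LD3_c53))))))
theorem f386967 : Led Lsl_ft (LP (LK LD1_c2 LD2_c44 LD3_c47)) = (LP (LK LD1_c4 LD2_c19 LD3_c53)) :=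
  Lgr Lrot48 (Lpr_ff (f386961 IH) (Lpn (LP (LK LD1_c4 LD2_c19 LD3_c53))))
theorem f225665 : Led Lsl_at (LP (LK LD1_c5 LD2_c40 LD3_c41)) = (LP (LK LD1_c2 LD2_c46 LD3_c16)) :=
  Lre_a IH (LK LD1_c5 LD2_c40 LD3_c41) (LK LD1_c2 LD2_c46 LD3_c16) Lrfl Lrfl
theorem f225666 : Led Lsl_dt (LP (LK LD1_c4 LD2_c19 LD3_c53)) = (LP (LK LD1_c5 LD2_c40 LD3_c41)) :=
  Lgr Lrot44 (Lpe (f225550 IH) (Lpr_df (f225659 IH) (Lpe (f225665 IH) (Lpn (LP (LK LD1_c5 LD2_c40 LD3_c41))))))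
theorem f386980 : Led Lsl_ff (LP (LK LD1_c5 LD2_c37 LD3_c40)) = (LP (LK LD1_c5 LD2_c40 LD3_c41)) :=
  Lgr Lrot19 (Lpr_dt (f383411 IH) (Lpr_ft (f386967 IH) (Lpr_dt (f225666 IH) (Lpn (LP (LK LD1_c5 LD2_c40 LD3_c41))))))
theorem f383410 : Led Lsl_at (LP (LK LD1_c5 LD2_c37 LD3_c40)) = (LP (LK LD1_c2 LD2_c44 LD3_c49)) :=
  Lre_a IH (LK LD1_c5 LD2_c37 LD3_c40) (LK LD1_c2 LD2_c44 LD3_c49) Lrfl Lrfl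
theorem f386987 : Led Lsl_gf (LP (LK LD1_c5 LD2_c37 LD3_c45)) = (LP (LK LD1_c5 LD2_c40 LD3_c41)) :=
  Lgr Lrot47 (Lpr_gt (f386986 IH) (Lpe (f383410 IH) (Lpr_ff (f386980 IH) (Lpn (LP (LK LD1_c5 LD2_c40 LD3_c41))))))
theorem f319459 : Led Lsl_at (LP (LK LD1_c2 LD2_c44 LD3_c49)) = (LP (LK LD1_c5 LD2_c37 LD3_c40)) :=
  Lre_a IH (LK LD1_c2 LD2_c44 LD3_c49) (LK LD1_c5 LD2_c37 LD3_c40) Lrfl Lrfl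
theorem f383381 : Led Lsl_bt (LP (LK LD1_c5 LD2_c37 LD3_c40)) = (LP (LK LD1_c4 LD2_c57 LD3_c10)) :=
  Lgr Lrot62 (Lpe (f319459 IH) (Lpe (f319458 IH) (Lpr_af (K20.f319451 IH) (Lpe (K20.f226740 IH) (Lpr_af (f383379 IH) (Lpn (LP (LK LD1_c4 LD2_c57 LD3_c10))))))))
theorem f386984 : Led Lsl_bt (LP (LK LD1_c5 LD2_c37 LD3_c30)) = (LP (LK LD1_c5 LD2_c40 LD3_c41)) :=
  Lgr Lrot35 (Lpe (K27.f381371 IH) (Lpe (f383381 IH) (Lpr_ff (f386980 IH) (Lpn (LP (LK LD1_c5 LD2_c40 LD3_c41))))))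
theorem f381644 : Led Lsl_dt (LP (LK LD1_c2 LD2_c47 LD3_c44)) = (LP (LK LD1_c5 LD2_c43 LD3_c25)) :=
  Lre_d IH (LK LD1_c2 LD2_c47 LD3_c44) (LK LD1_c5 LD2_c43 LD3_c25) Lrfl Lrfl
theorem f382121 : Led Lsl_ct (LP (LK LD1_c5 LD2_c43 LD3_c25)) = (LP (LK LD1_c11 LD2_c11 LD3_c54)) :=
  Lgr Lrot176 (Lpe (f381644 IH) (Lpe (K27.f381643 IH) (Lpe (K27.f381642 IH) (Lpe (K27.f381641 IH) (Lpr_df (K27.f381601 IH) (Lpe (K20.f270600 IH) (Lpe (K27.f381731 IH) (Lpe (K27.f381134 IH) (Lpe (K27.f381456 IH) (Lpr_cf (K27.f381724 IH) (Lpe (K27.f381648 IH) (Lpe (K27.f381590 IH) (Lpe (K27.f381588 IH) (Lpr_cf (K27.f381498 IH) (Lpr_df (K27.f382115 IH) (Lpn (LP (LK LD1_c11 LD2_c11 LD3_c54))))))))))))))))))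
theorem f281968 : Led Lsl_ct (LP (LK LD1_c2 LD2_c47 LD3_c24)) = (LP (LK LD1_c5 LD2_c42 LD3_c51)) :=
  Lre_c IH (LK LD1_c2 LD2_c47 LD3_c24) (LK LD1_c5 LD2_c42 LD3_c51) Lrfl Lrfl
theorem f381425 : Led Lsl_bt (LP (LK LD1_c2 LD2_c47 LD3_c24)) = (LP (LK LD1_c5 LD2_c42 LD3_c50)) :=
  Lre_b IH (LK LD1_c2 LD2_c47 LD3_c24) (LK LD1_c5 LD2_c42 LD3_c50) Lrfl Lrfl
theorem f423986 : Led Lsl_gf (LP (LK LD1_c5 LD2_c43 LD3_c25)) = (LP (LK LD1_c5 LD2_c42 LD3_c50)) :=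
  Lgr Lrot181 (Lpr_ct (f382121 IH) (Lpr_gt (K27.f289502 IH) (Lpe (K27.f289404 IH) (Lpr_bt (f386984 IH) (Lpe (f386987 IH) (Lpe (f386993 IH) (Lpr_ct (f402599 IH) (Lpr_gt (f423973 IH) (Lpe (f281968 IH) (Lpr_bt (f381425 IH) (Lpn (LP (LK LD1_c5 LD2_c42 LD3_c50)))))))))))))
theorem f381766 : Led Lsl_at (LP (LK LD1_c2 LD2_c47 LD3_c54)) = (LP (LK LD1_c5 LD2_c43 LD3_c25)) :=
  Lre_a IH (LK LD1_c2 LD2_c47 LD3_c54) (LK LD1_c5 LD2_c43 LD3_c25) Lrfl Lrfl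
theorem f381741 : Led Lsl_ft (LP (LK LD1_c2 LD2_c47 LD3_c39)) = (LP (LK LD1_c2 LD2_c47 LD3_c54)) :=
  Lgr Lrot4 (Lpe (K27.f381141 IH) (Lpr_ff (K27.f381737 IH) (Lpe (K27.f381464 IH) (Lpn (LP (LK LD1_c2 LD2_c47 LD3_c54))))))
theorem f423991 : Led Lsl_gt (LP (LK LD1_c2 LD2_c47 LD3_c39)) = (LP (LK LD1_c5 LD2_c42 LD3_c50)) :=
  Lgr Lrot5 (Lpr_ft (f381741 IH) (Lpr_at (f381766 IH) (Lpr_gf (f423986 IH) (Lpn (LP (LK LD1_c5 LD2_c42 LD3_c50))))))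
theorem f381373 : Led Lsl_gt (LP (LK LD1_c4 LD2_c57 LD3_c11)) = (LP (LK LD1_c9 LD2_c45 LD3_c24)) :=
  Lre_g IH (LK LD1_c4 LD2_c57 LD3_c11) (LK LD1_c9 LD2_c45 LD3_c24) Lrfl Lrfl
theorem f172747 : Led Lsl_bt (LP (LK LD1_c5 LD2_c42 LD3_c50)) = (LP (LK LD1_c2 LD2_c47 LD3_c24)) :=
  Lre_b IH (LK LD1_c5 LD2_c42 LD3_c50) (LK LD1_c2 LD2_c47 LD3_c24) Lrfl Lrfl
theorem f381408 : Led Lsl_cf (LP (LK LD1_c9 LD2_c45 LD3_c24)) = (LP (LK LD1_c5 LD2_c42 LD3_c50)) :=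
  Lgr Lrot163 (Lpe (f381373 IH) (Lpe (K27.f216427 IH) (Lpr_gf (K27.f381388 IH) (Lpe (K20.f226392 IH) (Lpe (K20.f226395 IH) (Lpe (K12.f173037 IH) (Lpr_cf (K12.f175273 IH) (Lpr_bt (K16.f268827 IH) (Lpe (f172746 IH) (Lpe (f172747 IH) (Lpn (LP (LK LD1_c5 LD2_c42 LD3_c50)))))))))))))
theorem f172456 : Led Lsl_gt (LP (LK LD1_c9 LD2_c45 LD3_c24)) = (LP (LK LD1_c4 LD2_c57 LD3_c22)) :=
  Lre_g IH (LK LD1_c9 LD2_c45 LD3_c24) (LK LD1_c4 LD2_c57 LD3_c22) Lrfl Lrfl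
theorem f40177 : Led Lsl_dt (LP (LK LD1_c1 LD2_c10 LD3_c34)) = (LP (LK LD1_c2 LD2_c26 LD3_c35)) :=
  Lre_d IH (LK LD1_c1 LD2_c10 LD3_c34) (LK LD1_c2 LD2_c26 LD3_c35) Lrfl Lrfl
theorem f172454 : Led Lsl_ct (LP (LK LD1_c2 LD2_c26 LD3_c34)) = (LP (LK LD1_c1 LD2_c10 LD3_c34)) :=
  Lre_c IH (LK LD1_c2 LD2_c26 LD3_c34) (LK LD1_c1 LD2_c10 LD3_c34) Lrfl Lrfl
theorem f172450 : Led Lsl_gt (LP (LK LD1_c4 LD2_c57 LD3_c7)) = (LP (LK LD1_c2 LD2_c26 LD3_c34)) :=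
  Lre_g IH (LK LD1_c4 LD2_c57 LD3_c7) (LK LD1_c2 LD2_c26 LD3_c34) Lrfl Lrfl
theorem f423993 : Led Lsl_gt (LP (LK LD1_c1 LD2_c20 LD3_c8)) = (LP (LK LD1_c2 LD2_c47 LD3_c13)) :=
  Lgr Lrot9 (Lpe (K27.f381455 IH) (Lpr_gt (f423991 IH) (Lpe (f381408 IH) (Lpr_gt (f172456 IH) (Lpr_ct (K31.f172455 IH) (Lpe (f40177 IH) (Lpe (f172454 IH) (Lpe (f172450 IH) (Lpr_cf (K31.f172436 IH) (Lpn (LP (LK LD1_c2 LD2_c47 LD3_c13))))))))))))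
theorem f381787 : Led Lsl_gt (LP (LK LD1_c2 LD2_c47 LD3_c41)) = (LP (LK LD1_c1 LD2_c20 LD3_c9)) :=
  Lre_g IH (LK LD1_c2 LD2_c47 LD3_c41) (LK LD1_c1 LD2_c20 LD3_c9) Lrfl Lrfl
theorem f381799 : Led Lsl_ct (LP (LK LD1_c5 LD2_c43 LD3_c19)) = (LP (LK LD1_c2 LD2_c47 LD3_c41)) :=
  Lre_c IH (LK LD1_c5 LD2_c43 LD3_c19) (LK LD1_c2 LD2_c47 LD3_c41) Lrfl Lrfl
theorem f40185 : Led Lsl_ct (LP (LK LD1_c1 LD2_c10 LD3_c34)) = (LP (LK LD1_c2 LD2_c26 LD3_c34)) :=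
  Lre_c IH (LK LD1_c1 LD2_c10 LD3_c34) (LK LD1_c2 LD2_c26 LD3_c34) Lrfl Lrfl
theorem f172458 : Led Lsl_bt (LP (LK LD1_c1 LD2_c10 LD3_c34)) = (LP (LK LD1_c2 LD2_c26 LD3_c33)) :=
  Lre_b IH (LK LD1_c1 LD2_c10 LD3_c34) (LK LD1_c2 LD2_c26 LD3_c33) Lrfl Lrfl
theorem f172459 : Led Lsl_gt (LP (LK LD1_c2 LD2_c26 LD3_c33)) = (LP (LK LD1_c4 LD2_c57 LD3_c15)) :=
  Lre_g IH (LK LD1_c2 LD2_c26 LD3_c33) (LK LD1_c4 LD2_c57 LD3_c15) Lrfl Lrfl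
theorem f423999 : Led Lsl_bt (LP (LK LD1_c5 LD2_c43 LD3_c19)) = (LP (LK LD1_c4 LD2_c57 LD3_c15)) :=
  Lgr Lrot92 (Lpr_ct (f381799 IH) (Lpr_gt (f381787 IH) (Lpe (K27.f181477 IH) (Lpr_bt (K27.f381715 IH) (Lpr_gt (f423993 IH) (Lpe (K31.f172436 IH) (Lpr_gt (f172450 IH) (Lpe (f40185 IH) (Lpr_bt (f172458 IH) (Lpr_gt (f172459 IH) (Lpn (LP (LK LD1_c4 LD2_c57 LD3_c15)))))))))))))
theorem f381791 : Led Lsl_ct (LP (LK LD1_c2 LD2_c47 LD3_c41)) = (LP (LK LD1_c5 LD2_c43 LD3_c19)) :=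
  Lre_c IH (LK LD1_c2 LD2_c47 LD3_c41) (LK LD1_c5 LD2_c43 LD3_c19) Lrfl Lrfl
theorem f411805 : Led Lsl_ct (LP (LK LD1_c4 LD2_c57 LD3_c15)) = (LP (LK LD1_c4 LD2_c32 LD3_c31)) :=
  Lgr Lrot91 (Lpe (f172459 IH) (Lpe (f172458 IH) (Lpr_ct (f40185 IH) (Lpe (f172450 IH) (Lpr_cf (K31.f172436 IH) (Lpr_bt (K31.f172435 IH) (Lpr_gf (K31.f280524 IH) (Lpe (K16.f280535 IH) (Lpr_ct (K30.f269084 IH) (Lpr_gf (K30.f411800 IH) (Lpn (LP (LK LD1_c4 LD2_c32 LD3_c31)))))))))))))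
theorem f229293 : Led Lsl_bt (LP (LK LD1_c4 LD2_c22 LD3_c32)) = (LP (LK LD1_c2 LD2_c8 LD3_c43)) :=
  Lre_b IH (LK LD1_c4 LD2_c22 LD3_c32) (LK LD1_c2 LD2_c8 LD3_c43) Lrfl Lrfl
theorem f407042 : Led Lsl_ct (LP (LK LD1_c9 LD2_c1 LD3_c60)) = (LP (LK LD1_c16 LD2_c19 LD3_c34)) :=
  Lgr Lrot59 (Lpr_cf (K31.f407040 IH) (Lpn (LP (LK LD1_c16 LD2_c19 LD3_c34))))
theorem f411822 : Led Lsl_bt (LP (LK LD1_c9 LD2_c1 LD3_c60)) = (LP (LK LD1_c9 LD2_c2 LD3_c34)) :=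
  Lgr Lrot92 (Lpr_ct (f407042 IH) (Lpr_gt (K31.f173341 IH) (Lpe (K18.f173338 IH) (Lpr_bt (f229293 IH) (Lpr_gt (K12.f229287 IH) (Lpe (K1.f29704 IH) (Lpr_gt (K12.f2527 IH) (Lpr_cf (K13.f193670 IH) (Lpr_bt (K30.f193482 IH) (Lpr_gt (K30.f411803 IH) (Lpn (LP (LK LD1_c9 LD2_c2 LD3_c34)))))))))))))
theorem f411827 : Led Lsl_bf (LP (LK LD1_c4 LD2_c32 LD3_c10)) = (LP (LK LD1_c4 LD2_c32 LD3_c31)) :=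
  Lgr Lrot93 (Lpr_dt (K31.f280520 IH) (Lpr_bt (f411822 IH) (Lpr_dt (K30.f411802 IH) (Lpn (LP (LK LD1_c4 LD2_c32 LD3_c31))))))
theorem f424004 : Led Lsl_bf (LP (LK LD1_c2 LD2_c47 LD3_c41)) = (LP (LK LD1_c2 LD2_c13 LD3_c8)) :=
  Lgr Lrot90 (Lpr_ct (f381791 IH) (Lpr_bt (f423999 IH) (Lpr_ct (f411805 IH) (Lpe (f411827 IH) (Lpr_ct (K31.f181749 IH) (Lpn (LP (LK LD1_c2 LD2_c13 LD3_c8))))))))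
theorem f424016 : Led Lsl_gt (LP (LK LD1_c7 LD2_c59 LD3_c21)) = (LP (LK LD1_c4 LD2_c32 LD3_c10)) :=
  Lgr Lrot65 (Lpe (f382088 IH) (Lpr_bt (f422815 IH) (Lpe (K31.f100560 IH) (Lpr_bf (K7.f40166 IH) (Lpr_ct (K31.f40168 IH) (Lpe (K30.f381124 IH) (Lpe (K27.f174920 IH) (Lpe (f381787 IH) (Lpr_bf (f424004 IH) (Lpr_ct (K31.f280518 IH) (Lpn (LP (LK LD1_c4 LD2_c32 LD3_c10)))))))))))))
theorem f542132 : Led Lsl_af (LP (LK LD1_c4 LD2_c32 LD3_c10)) = v1640 :=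
  Lgr Lrot31 (Lpe (f424016 IH) (Lpr_gf (f422816 IH) (Lpr_ft (f542129 IH) (Lpn v1640))))
def v439 : LQ := Led Lsl_et (LP (LK LD1_c0 LD2_c38 LD3_c27))
theorem f452830 : Led Lsl_et (LP (LK LD1_c0 LD2_c38 LD3_c27)) = v439 :=
  Lrfl
theorem f500503 : Led Lsl_ct v439 = v1640 :=
  Lgr Lrot15 (Lpe (f452830 IH) (Lpe (K8.f138263 IH) (Lpr_ef (f500502 IH) (Lpn v1640))))
def v1265 : LQ := Led Lsl_et (LP (LK LD1_c1 LD2_c4 LD3_c33))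
theorem f494398 : Led Lsl_et (LP (LK LD1_c1 LD2_c4 LD3_c33)) = v1265 :=
  Lrfl
theorem f452831 : Led Lsl_ef (LP (LK LD1_c0 LD2_c38 LD3_c27)) = v439 :=
  Lgr Lrot88 (Lpr_et (f452830 IH) (Lpn v439))
theorem f494399 : Led Lsl_af v439 = v1265 :=
  Lgr Lrot50 (Lpe (f452831 IH) (Lpr_at (K8.f163142 IH) (Lpr_et (f494398 IH) (Lpn v1265))))
theorem f542136 : (LP (LK LD1_c2 LD2_c13 LD3_c8)) = v1265 :=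
  (Llr Lrot111 (Lpe (K31.f181749 IH) (Lpr_af (f542132 IH) (Lpe (f500503 IH) (Lpr_af (f494399 IH) (Lpn v1265)))))).symm
theorem f494400 : Led Lsl_ef (LP (LK LD1_c1 LD2_c4 LD3_c33)) = v1265 :=
  Lgr Lrot88 (Lpr_et (f494398 IH) (Lpn v1265))
theorem f34964 : Led Lsl_dt (LP (LK LD1_c1 LD2_c4 LD3_c36)) = (LP (LK LD1_c2 LD2_c14 LD3_c59)) :=
  Lre_d IH (LK LD1_c1 LD2_c4 LD3_c36) (LK LD1_c2 LD2_c14 LD3_c59) Lrfl Lrfl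
theorem f35189 : Led Lsl_gt (LP (LK LD1_c2 LD2_c14 LD3_c59)) = (LP (LK LD1_c4 LD2_c35 LD3_c37)) :=
  Lre_g IH (LK LD1_c2 LD2_c14 LD3_c59) (LK LD1_c4 LD2_c35 LD3_c37) Lrfl Lrfl
theorem f59924 : Led Lsl_bt (LP (LK LD1_c2 LD2_c49 LD3_c10)) = (LP (LK LD1_c1 LD2_c20 LD3_c47)) :=
  Lre_b IH (LK LD1_c2 LD2_c49 LD3_c10) (LK LD1_c1 LD2_c20 LD3_c47) Lrfl Lrfl
theorem f59925 : Led Lsl_et (LP (LK LD1_c2 LD2_c16 LD3_c57)) = (LP (LK LD1_c2 LD2_c49 LD3_c10)) :=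
  Lgr Lrot74 (Lpe (K35.f56230 IH) (Lpr_ef (K1.f59918 IH) (Lpe (f59924 IH) (Lpn (LP (LK LD1_c2 LD2_c49 LD3_c10))))))
theorem f547821 : Led Lsl_df (LP (LK LD1_c4 LD2_c35 LD3_c37)) = (LP (LK LD1_c2 LD2_c16 LD3_c57)) :=
  Lgr Lrot168 (Lpe (f35189 IH) (Lpe (f34964 IH) (Lpr_et (K2.f35208 IH) (Lpe (K7.f26594 IH) (Lpr_ef (f494400 IH) (Lpq (f542136 IH) (Lpr_dt (K31.f181751 IH) (Lpe (K31.f398537 IH) (Lpe (K18.f168276 IH) (Lpr_gf (K35.f547815 IH) (Lpe (f59925 IH) (Lpn (LP (LK LD1_c2 LD2_c16 LD3_c57))))))))))))))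
theorem f56233 : Led Lsl_ft (LP (LK LD1_c1 LD2_c5 LD3_c23)) = (LP (LK LD1_c2 LD2_c16 LD3_c57)) :=
  Lre_f IH (LK LD1_c1 LD2_c5 LD3_c23) (LK LD1_c2 LD2_c16 LD3_c57) Lrfl Lrfl
theorem f56198 : Led Lsl_dt (LP (LK LD1_c2 LD2_c16 LD3_c56)) = (LP (LK LD1_c1 LD2_c5 LD3_c23)) :=
  Lre_d IH (LK LD1_c2 LD2_c16 LD3_c56) (LK LD1_c1 LD2_c5 LD3_c23) Lrfl Lrfl
theorem f547831 : Led Lsl_ft (LP (LK LD1_c4 LD2_c35 LD3_c37)) = (LP (LK LD1_c2 LD2_c16 LD3_c56)) :=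
  Lgr Lrot54 (Lpr_df (f547821 IH) (Lpe (f56233 IH) (Lpe (f56198 IH) (Lpn (LP (LK LD1_c2 LD2_c16 LD3_c56))))))
theorem f34975 : Led Lsl_gt (LP (LK LD1_c4 LD2_c35 LD3_c37)) = (LP (LK LD1_c9 LD2_c7 LD3_c23)) :=
  Lre_g IH (LK LD1_c4 LD2_c35 LD3_c37) (LK LD1_c9 LD2_c7 LD3_c23) Lrfl Lrfl
theorem f71796 : Led Lsl_gt (LP (LK LD1_c9 LD2_c7 LD3_c23)) = (LP (LK LD1_c4 LD2_c35 LD3_c38)) :=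
  Lre_g IH (LK LD1_c9 LD2_c7 LD3_c23) (LK LD1_c4 LD2_c35 LD3_c38) Lrfl Lrfl
theorem f547894 : Led Lsl_af (LP (LK LD1_c4 LD2_c35 LD3_c38)) = (LP (LK LD1_c2 LD2_c16 LD3_c56)) :=
  Lgr Lrot31 (Lpe (f71796 IH) (Lpe (f34975 IH) (Lpr_ft (f547831 IH) (Lpn (LP (LK LD1_c2 LD2_c16 LD3_c56))))))
theorem f547906 : Led Lsl_et (LP (LK LD1_c4 LD2_c35 LD3_c38)) = (LP (LK LD1_c9 LD2_c7 LD3_c45)) :=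
  Lre_e IH (LK LD1_c4 LD2_c35 LD3_c38) (LK LD1_c9 LD2_c7 LD3_c45) Lrfl Lrfl
theorem f542350 : Led Lsl_et (LP (LK LD1_c4 LD2_c39 LD3_c50)) = (LP (LK LD1_c2 LD2_c16 LD3_c56)) :=
  Lre_e IH (LK LD1_c4 LD2_c39 LD3_c50) (LK LD1_c2 LD2_c16 LD3_c56) Lrfl Lrfl
theorem f547907 : Led Lsl_at (LP (LK LD1_c9 LD2_c7 LD3_c45)) = (LP (LK LD1_c4 LD2_c39 LD3_c50)) :=
  Lgr Lrot80 (Lpe (f547906 IH) (Lpr_af (f547894 IH) (Lpe (f542350 IH) (Lpn (LP (LK LD1_c4 LD2_c39 LD3_c50))))))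
theorem f547915 : Led Lsl_ft (LP (LK LD1_c16 LD2_c59 LD3_c58)) = (LP (LK LD1_c9 LD2_c7 LD3_c45)) :=
  Lre_f IH (LK LD1_c16 LD2_c59 LD3_c58) (LK LD1_c9 LD2_c7 LD3_c45) Lrfl Lrfl
theorem f157171 : Led Lsl_gt (LP (LK LD1_c9 LD2_c15 LD3_c12)) = (LP (LK LD1_c4 LD2_c39 LD3_c50)) :=
  Lre_g IH (LK LD1_c9 LD2_c15 LD3_c12) (LK LD1_c4 LD2_c39 LD3_c50) Lrfl Lrfl
theorem f547918 : Led Lsl_gt (LP (LK LD1_c16 LD2_c59 LD3_c58)) = (LP (LK LD1_c9 LD2_c15 LD3_c12)) :=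
  Lgr Lrot5 (Lpr_ft (f547915 IH) (Lpr_at (f547907 IH) (Lpe (f157171 IH) (Lpn (LP (LK LD1_c9 LD2_c15 LD3_c12))))))
theorem f142126 : Led Lsl_et (LP (LK LD1_c1 LD2_c4 LD3_c60)) = (LP (LK LD1_c2 LD2_c16 LD3_c2)) :=
  Lre_e IH (LK LD1_c1 LD2_c4 LD3_c60) (LK LD1_c2 LD2_c16 LD3_c2) Lrfl Lrfl
theorem f116949 : Led Lsl_gt (LP (LK LD1_c2 LD2_c16 LD3_c2)) = (LP (LK LD1_c4 LD2_c37 LD3_c43)) :=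
  Lre_g IH (LK LD1_c2 LD2_c16 LD3_c2) (LK LD1_c4 LD2_c37 LD3_c43) Lrfl Lrfl
theorem f116941 : Led Lsl_et (LP (LK LD1_c9 LD2_c11 LD3_c4)) = (LP (LK LD1_c4 LD2_c37 LD3_c43)) :=
  Lre_e IH (LK LD1_c9 LD2_c11 LD3_c4) (LK LD1_c4 LD2_c37 LD3_c43) Lrfl Lrfl
theorem f100098 : Led Lsl_et (LP (LK LD1_c2 LD2_c17 LD3_c3)) = (LP (LK LD1_c1 LD2_c5 LD3_c28)) :=
  Lre_e IH (LK LD1_c2 LD2_c17 LD3_c3) (LK LD1_c1 LD2_c5 LD3_c28) Lrfl Lrfl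
theorem f100097 : Led Lsl_dt (LP (LK LD1_c2 LD2_c17 LD3_c3)) = (LP (LK LD1_c4 LD2_c39 LD3_c50)) :=
  Lre_d IH (LK LD1_c2 LD2_c17 LD3_c3) (LK LD1_c4 LD2_c39 LD3_c50) Lrfl Lrfl
theorem f157172 : Led Lsl_dt (LP (LK LD1_c9 LD2_c11 LD3_c4)) = (LP (LK LD1_c9 LD2_c15 LD3_c12)) :=
  Lgr Lrot136 (Lpr_et (f116941 IH) (Lpe (f116949 IH) (Lpe (f142126 IH) (Lpr_dt (K6.f40099 IH) (Lpe (K7.f142116 IH) (Lpe (K6.f141248 IH) (Lpr_gf (K8.f157154 IH) (Lpe (f100098 IH) (Lpr_dt (f100097 IH) (Lpe (f157171 IH) (Lpn (LP (LK LD1_c9 LD2_c15 LD3_c12)))))))))))))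
theorem f116940 : Led Lsl_gt (LP (LK LD1_c4 LD2_c37 LD3_c43)) = (LP (LK LD1_c2 LD2_c16 LD3_c14)) :=
  Lre_g IH (LK LD1_c4 LD2_c37 LD3_c43) (LK LD1_c2 LD2_c16 LD3_c14) Lrfl Lrfl
theorem f100276 : Led Lsl_dt (LP (LK LD1_c2 LD2_c16 LD3_c14)) = (LP (LK LD1_c4 LD2_c33 LD3_c23)) :=
  Lre_d IH (LK LD1_c2 LD2_c16 LD3_c14) (LK LD1_c4 LD2_c33 LD3_c23) Lrfl Lrfl
theorem f100277 : Led Lsl_gt (LP (LK LD1_c4 LD2_c33 LD3_c23)) = (LP (LK LD1_c9 LD2_c3 LD3_c36)) :=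
  Lre_g IH (LK LD1_c4 LD2_c33 LD3_c23) (LK LD1_c9 LD2_c3 LD3_c36) Lrfl Lrfl
theorem f116900 : Led Lsl_et (LP (LK LD1_c2 LD2_c16 LD3_c2)) = (LP (LK LD1_c1 LD2_c4 LD3_c60)) :=
  Lre_e IH (LK LD1_c2 LD2_c16 LD3_c2) (LK LD1_c1 LD2_c4 LD3_c60) Lrfl Lrfl
theorem f116901 : Led Lsl_dt (LP (LK LD1_c2 LD2_c16 LD3_c2)) = (LP (LK LD1_c4 LD2_c33 LD3_c9)) :=
  Lre_d IH (LK LD1_c2 LD2_c16 LD3_c2) (LK LD1_c4 LD2_c33 LD3_c9) Lrfl Lrfl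
theorem f116885 : Led Lsl_gt (LP (LK LD1_c9 LD2_c3 LD3_c36)) = (LP (LK LD1_c4 LD2_c33 LD3_c9)) :=
  Lre_g IH (LK LD1_c9 LD2_c3 LD3_c36) (LK LD1_c4 LD2_c33 LD3_c9) Lrfl Lrfl
theorem f73028 : Led Lsl_et (LP (LK LD1_c0 LD2_c40 LD3_c23)) = (LP (LK LD1_c1 LD2_c27 LD3_c14)) :=
  Lre_e IH (LK LD1_c0 LD2_c40 LD3_c23) (LK LD1_c1 LD2_c27 LD3_c14) Lrfl Lrfl
theorem f73031 : Led Lsl_gt (LP (LK LD1_c1 LD2_c27 LD3_c14)) = (LP (LK LD1_c3 LD2_c2 LD3_c30)) :=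
  Lre_g IH (LK LD1_c1 LD2_c27 LD3_c14) (LK LD1_c3 LD2_c2 LD3_c30) Lrfl Lrfl
theorem f73032 : Led Lsl_et (LP (LK LD1_c6 LD2_c11 LD3_c54)) = (LP (LK LD1_c3 LD2_c2 LD3_c30)) :=
  Lre_e IH (LK LD1_c6 LD2_c11 LD3_c54) (LK LD1_c3 LD2_c2 LD3_c30) Lrfl Lrfl
theorem f116902 : Led Lsl_df (LP (LK LD1_c9 LD2_c3 LD3_c36)) = (LP (LK LD1_c6 LD2_c11 LD3_c54)) :=
  Lgr Lrot170 (Lpr_gt (f116885 IH) (Lpe (f116901 IH) (Lpr_et (f116900 IH) (Lpr_gt (K6.f96652 IH) (Lpr_dt (K6.f116865 IH) (Lpr_gt (K5.f56599 IH) (Lpr_df (K4.f73004 IH) (Lpr_et (f73028 IH) (Lpr_gt (f73031 IH) (Lpe (f73032 IH) (Lpn (LP (LK LD1_c6 LD2_c11 LD3_c54)))))))))))))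
theorem f100204 : Led Lsl_gt (LP (LK LD1_c3 LD2_c2 LD3_c30)) = (LP (LK LD1_c6 LD2_c11 LD3_c52)) :=
  Lre_g IH (LK LD1_c3 LD2_c2 LD3_c30) (LK LD1_c6 LD2_c11 LD3_c52) Lrfl Lrfl
theorem f100029 : Led Lsl_ct (LP (LK LD1_c6 LD2_c11 LD3_c52)) = (LP (LK LD1_c12 LD2_c2 LD3_c16)) :=
  Lre_c IH (LK LD1_c6 LD2_c11 LD3_c52) (LK LD1_c12 LD2_c2 LD3_c16) Lrfl Lrfl
theorem f100030 : Led Lsl_et (LP (LK LD1_c9 LD2_c9 LD3_c61)) = (LP (LK LD1_c6 LD2_c11 LD3_c52)) :=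
  Lgr Lrot158 (Lpe (K6.f100028 IH) (Lpr_ef (K6.f99940 IH) (Lpe (f100029 IH) (Lpn (LP (LK LD1_c6 LD2_c11 LD3_c52))))))
theorem f547920 : Led Lsl_df (LP (LK LD1_c16 LD2_c59 LD3_c58)) = (LP (LK LD1_c9 LD2_c9 LD3_c61)) :=
  Lgr Lrot170 (Lpr_gt (f547918 IH) (Lpe (f157172 IH) (Lpr_et (f116941 IH) (Lpr_gt (f116940 IH) (Lpr_dt (f100276 IH) (Lpr_gt (f100277 IH) (Lpr_df (f116902 IH) (Lpr_et (f73032 IH) (Lpr_gt (f100204 IH) (Lpe (f100030 IH) (Lpn (LP (LK LD1_c9 LD2_c9 LD3_c61)))))))))))))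
theorem f547928 : Led Lsl_dt (LP (LK LD1_c9 LD2_c7 LD3_c45)) = (LP (LK LD1_c4 LD2_c37 LD3_c7)) :=
  Lgr Lrot60 (Lpe (f547915 IH) (Lpr_df (f547920 IH) (Lpe (K6.f100069 IH) (Lpn (LP (LK LD1_c4 LD2_c37 LD3_c7))))))
theorem f99645 : Led Lsl_et (LP (LK LD1_c4 LD2_c37 LD3_c7)) = (LP (LK LD1_c2 LD2_c15 LD3_c45)) :=
  Lre_e IH (LK LD1_c4 LD2_c37 LD3_c7) (LK LD1_c2 LD2_c15 LD3_c45) Lrfl Lrfl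
theorem f547930 : Led Lsl_df (LP (LK LD1_c4 LD2_c35 LD3_c38)) = (LP (LK LD1_c2 LD2_c16 LD3_c55)) :=
  Lgr Lrot70 (Lpr_et (f547906 IH) (Lpr_dt (f547928 IH) (Lpr_et (f99645 IH) (Lpe (K5.f99624 IH) (Lpr_et (K28.f56258 IH) (Lpn (LP (LK LD1_c2 LD2_c16 LD3_c55))))))))
theorem f34907 : Led Lsl_gt (LP (LK LD1_c4 LD2_c35 LD3_c38)) = (LP (LK LD1_c2 LD2_c14 LD3_c59)) :=
  Lre_g IH (LK LD1_c4 LD2_c35 LD3_c38) (LK LD1_c2 LD2_c14 LD3_c59) Lrfl Lrfl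
theorem f34889 : Led Lsl_dt (LP (LK LD1_c2 LD2_c14 LD3_c59)) = (LP (LK LD1_c1 LD2_c4 LD3_c36)) :=
  Lre_d IH (LK LD1_c2 LD2_c14 LD3_c59) (LK LD1_c1 LD2_c4 LD3_c36) Lrfl Lrfl
theorem f34876 : Led Lsl_gt (LP (LK LD1_c8 LD2_c38 LD3_c19)) = (LP (LK LD1_c4 LD2_c20 LD3_c13)) :=
  Lre_g IH (LK LD1_c8 LD2_c38 LD3_c19) (LK LD1_c4 LD2_c20 LD3_c13) Lrfl Lrfl
theorem f34978 : Led Lsl_gt (LP (LK LD1_c4 LD2_c20 LD3_c10)) = (LP (LK LD1_c8 LD2_c38 LD3_c13)) :=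
  Lre_g IH (LK LD1_c4 LD2_c20 LD3_c10) (LK LD1_c8 LD2_c38 LD3_c13) Lrfl Lrfl
theorem f34898 : Led Lsl_dt (LP (LK LD1_c8 LD2_c38 LD3_c13)) = (LP (LK LD1_c16 LD2_c10 LD3_c30)) :=
  Lre_d IH (LK LD1_c8 LD2_c38 LD3_c13) (LK LD1_c16 LD2_c10 LD3_c30) Lrfl Lrfl
theorem f540447 : Led Lsl_gt (LP (LK LD1_c16 LD2_c10 LD3_c30)) = (LP (LK LD1_c8 LD2_c38 LD3_c19)) :=
  Lre_g IH (LK LD1_c16 LD2_c10 LD3_c30) (LK LD1_c8 LD2_c38 LD3_c19) Lrfl Lrfl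
theorem f111495 : Led Lsl_ft (LP (LK LD1_c3 LD2_c32 LD3_c36)) = (LP (LK LD1_c3 LD2_c36 LD3_c4)) :=
  Lgr Lrot2 (Lpr_gt (K4.f111491 IH) (Lpe (K3.f109485 IH) (Lpe (f17908 IH) (Lpn (LP (LK LD1_c3 LD2_c36 LD3_c4))))))
theorem f36575 : Led Lsl_ft (LP (LK LD1_c2 LD2_c9 LD3_c26)) = (LP (LK LD1_c4 LD2_c24 LD3_c3)) :=
  Lre_f IH (LK LD1_c2 LD2_c9 LD3_c26) (LK LD1_c4 LD2_c24 LD3_c3) Lrfl Lrfl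
theorem f540257 : Led Lsl_df (LP (LK LD1_c3 LD2_c32 LD3_c36)) = (LP (LK LD1_c4 LD2_c24 LD3_c3)) :=
  Lgr Lrot78 (Lpr_ft (f111495 IH) (Lpr_dt (f540249 IH) (Lpr_ft (f36575 IH) (Lpn (LP (LK LD1_c4 LD2_c24 LD3_c3))))))
def v1896 : LQ := Led Lsl_ft (LP (LK LD1_c1 LD2_c31 LD3_c8))
theorem f506296 : Led Lsl_ft (LP (LK LD1_c1 LD2_c31 LD3_c8)) = v1896 :=
  Lrfl
theorem f506300 : Led Lsl_ff (LP (LK LD1_c1 LD2_c31 LD3_c8)) = v1896 :=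
  Lgr Lrot3 (Lpr_ft (f506296 IH) (Lpn v1896))
theorem f112478 : Led Lsl_et (LP (LK LD1_c1 LD2_c31 LD3_c8)) = (LP (LK LD1_c0 LD2_c42 LD3_c1)) :=
  Lre_e IH (LK LD1_c1 LD2_c31 LD3_c8) (LK LD1_c0 LD2_c42 LD3_c1) Lrfl Lrfl
theorem f36525 : Led Lsl_et (LP (LK LD1_c1 LD2_c1 LD3_c50)) = (LP (LK LD1_c2 LD2_c9 LD3_c26)) :=
  Lre_e IH (LK LD1_c1 LD2_c1 LD3_c50) (LK LD1_c2 LD2_c9 LD3_c26) Lrfl Lrfl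
theorem f506303 : Led Lsl_et (LP (LK LD1_c4 LD2_c24 LD3_c3)) = v1896 :=
  Lgr Lrot69 (Lpe (f36575 IH) (Lpe (f36525 IH) (Lpr_ff (K11.f205448 IH) (Lpe (f112478 IH) (Lpr_ff (f506300 IH) (Lpn v1896))))))
theorem f207288 : Led Lsl_ft (LP (LK LD1_c1 LD2_c5 LD3_c0)) = (LP (LK LD1_c0 LD2_c44 LD3_c45)) :=
  Lgr Lrot4 (Lpe (K7.f93905 IH) (Lpr_ff (K11.f207284 IH) (Lpe (K7.f116965 IH) (Lpn (LP (LK LD1_c0 LD2_c44 LD3_c45))))))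
theorem f452293 : Led Lsl_ft (LP (LK LD1_c1 LD2_c20 LD3_c41)) = K11.v342 :=
  Lgr Lrot54 (Lpe (K6.f116865 IH) (Lpe (f207288 IH) (Lpr_df (K35.f452281 IH) (Lpn K11.v342))))
theorem f535721 : Led Lsl_ff (LP (LK LD1_c2 LD2_c49 LD3_c6)) = K35.v2808 :=
  Lgr Lrot23 (Lpr_ct (K5.f56600 IH) (Lpr_ft (f452293 IH) (Lpr_ct (K35.f535718 IH) (Lpn K35.v2808))))
theorem f537797 : (LP (LK LD1_c2 LD2_c49 LD3_c6)) = v1896 :=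
  Lefun (Lecon (Lfl_ff (f535721 IH)) (K35.f537465 IH)) (f506296 IH)
theorem f132507 : Led Lsl_et (LP (LK LD1_c5 LD2_c47 LD3_c54)) = (LP (LK LD1_c2 LD2_c49 LD3_c59)) :=
  Lre_e IH (LK LD1_c5 LD2_c47 LD3_c54) (LK LD1_c2 LD2_c49 LD3_c59) Lrfl Lrfl
theorem f540448 : Led Lsl_df (LP (LK LD1_c8 LD2_c38 LD3_c19)) = (LP (LK LD1_c5 LD2_c47 LD3_c54)) :=
  Lgr Lrot132 (Lpe (f540447 IH) (Lpe (f34898 IH) (Lpe (f34978 IH) (Lpr_ef (f540440 IH) (Lpe (f441961 IH) (Lpe (K4.f111491 IH) (Lpr_df (f540257 IH) (Lpr_et (f506303 IH) (Lpq (f537797 IH) (Lpe (K5.f132574 IH) (Lpe (f132507 IH) (Lpn (LP (LK LD1_c5 LD2_c47 LD3_c54))))))))))))))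
theorem f177122 : Led Lsl_ct (LP (LK LD1_c5 LD2_c6 LD3_c43)) = (LP (LK LD1_c2 LD2_c30 LD3_c42)) :=
  Lre_c IH (LK LD1_c5 LD2_c6 LD3_c43) (LK LD1_c2 LD2_c30 LD3_c42) Lrfl Lrfl
theorem f402995 : Led Lsl_bt (LP (LK LD1_c5 LD2_c6 LD3_c43)) = (LP (LK LD1_c2 LD2_c30 LD3_c40)) :=
  Lre_b IH (LK LD1_c5 LD2_c6 LD3_c43) (LK LD1_c2 LD2_c30 LD3_c40) Lrfl Lrfl
def v2432 : LQ := Led Lsl_gf (LP (LK LD1_c1 LD2_c45 LD3_c21))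
theorem f519706 : Led Lsl_gf (LP (LK LD1_c1 LD2_c45 LD3_c21)) = v2432 :=
  Lrfl
theorem f90066 : Led Lsl_bt (LP (LK LD1_c0 LD2_c49 LD3_c22)) = (LP (LK LD1_c1 LD2_c45 LD3_c21)) :=
  Lre_b IH (LK LD1_c0 LD2_c49 LD3_c22) (LK LD1_c1 LD2_c45 LD3_c21) Lrfl Lrfl
theorem f145184 : Led Lsl_ct (LP (LK LD1_c3 LD2_c49 LD3_c4)) = (LP (LK LD1_c7 LD2_c35 LD3_c59)) :=
  Lgr Lrot59 (Lpr_cf (f145182 IH) (Lpn (LP (LK LD1_c7 LD2_c35 LD3_c59))))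
theorem f162490 : Led Lsl_gf (LP (LK LD1_c7 LD2_c7 LD3_c47)) = (LP (LK LD1_c7 LD2_c35 LD3_c59)) :=
  Lgr Lrot76 (Lpr_af (K33.f162479 IH) (Lpr_ff (K33.f162195 IH) (Lpr_gt (f15661 IH) (Lpn (LP (LK LD1_c7 LD2_c35 LD3_c59))))))
theorem f519710 : Led Lsl_bt (LP (LK LD1_c3 LD2_c33 LD3_c26)) = v2432 :=
  Lgr Lrot22 (Lpr_ct (K33.f96865 IH) (Lpr_gf (f162490 IH) (Lpe (f145184 IH) (Lpe (f87162 IH) (Lpe (K3.f87161 IH) (Lpr_ct (K2.f11538 IH) (Lpe (K3.f87159 IH) (Lpe (K3.f90069 IH) (Lpr_bt (f90066 IH) (Lpr_gf (f519706 IH) (Lpn v2432)))))))))))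
theorem f145013 : Led Lsl_ft (LP (LK LD1_c7 LD2_c49 LD3_c41)) = (LP (LK LD1_c7 LD2_c35 LD3_c52)) :=
  Lgr Lrot2 (Lpr_gt (K6.f145011 IH) (Lpr_gt (K6.f126479 IH) (Lpe (K8.f126481 IH) (Lpn (LP (LK LD1_c7 LD2_c35 LD3_c52))))))
theorem f162493 : Led Lsl_bf (LP (LK LD1_c7 LD2_c7 LD3_c47)) = (LP (LK LD1_c7 LD2_c35 LD3_c52)) :=
  Lgr Lrot61 (Lpr_ft (K33.f162488 IH) (Lpe (K6.f136367 IH) (Lpr_ft (f145013 IH) (Lpn (LP (LK LD1_c7 LD2_c35 LD3_c52))))))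
theorem f519712 : Led Lsl_cf (LP (LK LD1_c3 LD2_c54 LD3_c9)) = v2432 :=
  Lgr Lrot97 (Lpe (K8.f162029 IH) (Lpr_ct (K8.f161978 IH) (Lpe (f162493 IH) (Lpr_ct (K33.f96831 IH) (Lpr_bt (f519710 IH) (Lpn v2432))))))
theorem f162036 : Led Lsl_ft (LP (LK LD1_c3 LD2_c55 LD3_c2)) = (LP (LK LD1_c3 LD2_c54 LD3_c9)) :=
  Lgr Lrot48 (Lpr_ff (K8.f162034 IH) (Lpn (LP (LK LD1_c3 LD2_c54 LD3_c9))))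
theorem f162049 : Led Lsl_af (LP (LK LD1_c3 LD2_c55 LD3_c1)) = (LP (LK LD1_c3 LD2_c54 LD3_c9)) :=
  Lgr Lrot45 (Lpr_ft (K8.f162047 IH) (Lpe (K8.f162040 IH) (Lpr_ft (f162036 IH) (Lpn (LP (LK LD1_c3 LD2_c54 LD3_c9))))))
def v2357 : LQ := Led Lsl_gt (LP (LK LD1_c1 LD2_c43 LD3_c31))
theorem f514954 : Led Lsl_gt (LP (LK LD1_c1 LD2_c43 LD3_c31)) = v2357 :=
  Lrfl
theorem f108120 : Led Lsl_bt (LP (LK LD1_c7 LD2_c25 LD3_c8)) = (LP (LK LD1_c3 LD2_c42 LD3_c14)) :=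
  Lre_b IH (LK LD1_c7 LD2_c25 LD3_c8) (LK LD1_c3 LD2_c42 LD3_c14) Lrfl Lrfl
theorem f203655 : Led Lsl_ct (LP (LK LD1_c7 LD2_c25 LD3_c8)) = (LP (LK LD1_c7 LD2_c20 LD3_c19)) :=
  Lgr Lrot59 (Lpr_cf (K28.f203648 IH) (Lpn (LP (LK LD1_c7 LD2_c20 LD3_c19))))
theorem f142506 : Led Lsl_et (LP (LK LD1_c7 LD2_c49 LD3_c21)) = (LP (LK LD1_c14 LD2_c45 LD3_c38)) :=
  Lre_e IH (LK LD1_c7 LD2_c49 LD3_c21) (LK LD1_c14 LD2_c45 LD3_c38) Lrfl Lrfl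
theorem f114453 : Led Lsl_et (LP (LK LD1_c13 LD2_c8 LD3_c47)) = (LP (LK LD1_c6 LD2_c55 LD3_c10)) :=
  Lre_e IH (LK LD1_c13 LD2_c8 LD3_c47) (LK LD1_c6 LD2_c55 LD3_c10) Lrfl Lrfl
theorem f142507 : Led Lsl_bf (LP (LK LD1_c7 LD2_c49 LD3_c21)) = (LP (LK LD1_c6 LD2_c55 LD3_c10)) :=
  Lgr Lrot96 (Lpr_et (f142506 IH) (Lpr_bt (K35.f142503 IH) (Lpr_et (f114453 IH) (Lpn (LP (LK LD1_c6 LD2_c55 LD3_c10))))))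
theorem f203661 : Led Lsl_gt (LP (LK LD1_c7 LD2_c49 LD3_c21)) = (LP (LK LD1_c7 LD2_c20 LD3_c19)) :=
  Lgr Lrot82 (Lpr_bf (f142507 IH) (Lpe (K6.f114438 IH) (Lpr_gf (K6.f145031 IH) (Lpr_cf (K6.f126482 IH) (Lpe (K6.f144964 IH) (Lpr_gf (K6.f145095 IH) (Lpe (K28.f203618 IH) (Lpr_ct (K28.f142733 IH) (Lpe (K28.f203637 IH) (Lpr_cf (K28.f203648 IH) (Lpn (LP (LK LD1_c7 LD2_c20 LD3_c19)))))))))))))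
theorem f142481 : Led Lsl_bt (LP (LK LD1_c3 LD2_c53 LD3_c54)) = (LP (LK LD1_c7 LD2_c35 LD3_c37)) :=
  Lgr Lrot127 (Lpr_bf (K6.f142477 IH) (Lpn (LP (LK LD1_c7 LD2_c35 LD3_c37))))
theorem f132131 : Led Lsl_bt (LP (LK LD1_c3 LD2_c55 LD3_c1)) = (LP (LK LD1_c7 LD2_c51 LD3_c43)) :=
  Lre_b IH (LK LD1_c3 LD2_c55 LD3_c1) (LK LD1_c7 LD2_c51 LD3_c43) Lrfl Lrfl
theorem f514957 : Led Lsl_ct (LP (LK LD1_c3 LD2_c55 LD3_c1)) = v2357 :=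
  Lgr Lrot63 (Lpr_bt (f132131 IH) (Lpe (K32.f144881 IH) (Lpe (f142481 IH) (Lpr_ct (K6.f142476 IH) (Lpr_gt (f203661 IH) (Lpe (f203655 IH) (Lpr_bt (f108120 IH) (Lpr_gt (K28.f108092 IH) (Lpe (K8.f108023 IH) (Lpr_gt (f514954 IH) (Lpn v2357)))))))))))
theorem f519713 : Led Lsl_at v2357 = v2432 :=
  Lgr Lrot107 (Lpe (f514957 IH) (Lpr_af (f162049 IH) (Lpr_cf (f519712 IH) (Lpn v2432))))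
theorem f38050 : Led Lsl_et (LP (LK LD1_c4 LD2_c25 LD3_c35)) = (LP (LK LD1_c8 LD2_c48 LD3_c43)) :=
  Lre_e IH (LK LD1_c4 LD2_c25 LD3_c35) (LK LD1_c8 LD2_c48 LD3_c43) Lrfl Lrfl
theorem f210721 : Led Lsl_et (LP (LK LD1_c11 LD2_c8 LD3_c25)) = (LP (LK LD1_c5 LD2_c38 LD3_c42)) :=
  Lre_e IH (LK LD1_c11 LD2_c8 LD3_c25) (LK LD1_c5 LD2_c38 LD3_c42) Lrfl Lrfl
theorem f449736 : Led Lsl_at (LP (LK LD1_c8 LD2_c48 LD3_c43)) = (LP (LK LD1_c11 LD2_c8 LD3_c25)) :=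
  Lgr Lrot80 (Lpe (f38050 IH) (Lpr_af (f449728 IH) (Lpe (f210721 IH) (Lpn (LP (LK LD1_c11 LD2_c8 LD3_c25))))))
theorem f38052 : Led Lsl_dt (LP (LK LD1_c3 LD2_c4 LD3_c24)) = (LP (LK LD1_c1 LD2_c28 LD3_c12)) :=
  Lre_d IH (LK LD1_c3 LD2_c4 LD3_c24) (LK LD1_c1 LD2_c28 LD3_c12) Lrfl Lrfl
theorem f38053 : Led Lsl_et (LP (LK LD1_c6 LD2_c14 LD3_c59)) = (LP (LK LD1_c3 LD2_c4 LD3_c24)) :=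
  Lre_e IH (LK LD1_c6 LD2_c14 LD3_c59) (LK LD1_c3 LD2_c4 LD3_c24) Lrfl Lrfl
theorem f38054 : Led Lsl_dt (LP (LK LD1_c8 LD2_c48 LD3_c43)) = (LP (LK LD1_c6 LD2_c14 LD3_c59)) :=
  Lgr Lrot77 (Lpe (f38050 IH) (Lpr_df (K12.f38039 IH) (Lpe (K12.f38051 IH) (Lpe (f38052 IH) (Lpe (f38053 IH) (Lpn (LP (LK LD1_c6 LD2_c14 LD3_c59))))))))
theorem f38060 : Led Lsl_df (LP (LK LD1_c8 LD2_c48 LD3_c43)) = (LP (LK LD1_c6 LD2_c14 LD3_c59)) :=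
  Lgr Lrot38 (Lpr_dt (f38054 IH) (Lpn (LP (LK LD1_c6 LD2_c14 LD3_c59))))
theorem f210722 : Led Lsl_dt (LP (LK LD1_c11 LD2_c8 LD3_c25)) = (LP (LK LD1_c5 LD2_c49 LD3_c40)) :=
  Lre_d IH (LK LD1_c11 LD2_c8 LD3_c25) (LK LD1_c5 LD2_c49 LD3_c40) Lrfl Lrfl
theorem f449918 : Led Lsl_af (LP (LK LD1_c6 LD2_c14 LD3_c59)) = (LP (LK LD1_c5 LD2_c49 LD3_c40)) :=
  Lgr Lrot117 (Lpe (f38060 IH) (Lpr_at (f449736 IH) (Lpr_dt (f210722 IH) (Lpn (LP (LK LD1_c5 LD2_c49 LD3_c40))))))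
theorem f210738 : Led Lsl_et (LP (LK LD1_c2 LD2_c50 LD3_c57)) = (LP (LK LD1_c5 LD2_c49 LD3_c40)) :=
  Lre_e IH (LK LD1_c2 LD2_c50 LD3_c57) (LK LD1_c5 LD2_c49 LD3_c40) Lrfl Lrfl
theorem f449923 : Led Lsl_at (LP (LK LD1_c3 LD2_c4 LD3_c24)) = (LP (LK LD1_c2 LD2_c50 LD3_c57)) :=
  Lgr Lrot80 (Lpe (f38053 IH) (Lpr_af (f449918 IH) (Lpe (f210738 IH) (Lpn (LP (LK LD1_c2 LD2_c50 LD3_c57))))))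
theorem f449927 : Led Lsl_af (LP (LK LD1_c3 LD2_c4 LD3_c24)) = (LP (LK LD1_c2 LD2_c50 LD3_c57)) :=
  Lgr Lrot0 (Lpr_at (f449923 IH) (Lpn (LP (LK LD1_c2 LD2_c50 LD3_c57))))
def v2431 : LQ := Led Lsl_gt (LP (LK LD1_c1 LD2_c45 LD3_c21))
theorem f519698 : Led Lsl_gt (LP (LK LD1_c1 LD2_c45 LD3_c21)) = v2431 :=
  Lrfl
theorem f519701 : Led Lsl_ct (LP (LK LD1_c3 LD2_c54 LD3_c8)) = v2431 :=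
  Lgr Lrot63 (Lpe (K33.f203207 IH) (Lpr_gt (K33.f203202 IH) (Lpe (K28.f203618 IH) (Lpr_ct (K28.f142733 IH) (Lpe (K28.f203663 IH) (Lpr_cf (K28.f203648 IH) (Lpr_bt (K28.f142732 IH) (Lpr_gt (K28.f142731 IH) (Lpe (K29.f425448 IH) (Lpr_gt (f519698 IH) (Lpn v2431)))))))))))
theorem f159802 : Led Lsl_ct (LP (LK LD1_c3 LD2_c54 LD3_c10)) = (LP (LK LD1_c3 LD2_c36 LD3_c37)) :=
  Lgr Lrot111 (Lpe (K8.f147593 IH) (Lpr_cf (K8.f159796 IH) (Lpe (K8.f128183 IH) (Lpn (LP (LK LD1_c3 LD2_c36 LD3_c37))))))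
theorem f159996 : Led Lsl_bf (LP (LK LD1_c3 LD2_c33 LD3_c20)) = (LP (LK LD1_c3 LD2_c36 LD3_c37)) :=
  Lgr Lrot90 (Lpr_ct (K32.f104075 IH) (Lpr_bt (K5.f127750 IH) (Lpe (K5.f129370 IH) (Lpr_bt (K8.f159994 IH) (Lpr_ct (f159802 IH) (Lpn (LP (LK LD1_c3 LD2_c36 LD3_c37))))))))
theorem f514956 : Led Lsl_cf (LP (LK LD1_c3 LD2_c55 LD3_c1)) = v2357 :=
  Lgr Lrot125 (Lpe (K8.f159786 IH) (Lpe (K29.f160472 IH) (Lpe (f159996 IH) (Lpr_gt (K5.f127862 IH) (Lpe (K3.f97019 IH) (Lpr_ct (K3.f97022 IH) (Lpe (K3.f97312 IH) (Lpe (K8.f108021 IH) (Lpr_bt (K8.f108027 IH) (Lpr_gt (f514954 IH) (Lpn v2357)))))))))))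
theorem f519703 : Led Lsl_ff v2357 = v2431 :=
  Lgr Lrot23 (Lpe (f514956 IH) (Lpr_ft (K8.f162047 IH) (Lpr_ct (f519701 IH) (Lpn v2431))))
theorem f272715 : Led Lsl_ft (LP (LK LD1_c16 LD2_c29 LD3_c3)) = (LP (LK LD1_c8 LD2_c48 LD3_c41)) :=
  Lre_f IH (LK LD1_c16 LD2_c29 LD3_c3) (LK LD1_c8 LD2_c48 LD3_c41) Lrfl Lrfl
theorem f210728 : Led Lsl_et (LP (LK LD1_c5 LD2_c38 LD3_c42)) = (LP (LK LD1_c11 LD2_c8 LD3_c25)) :=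
  Lre_e IH (LK LD1_c5 LD2_c38 LD3_c42) (LK LD1_c11 LD2_c8 LD3_c25) Lrfl Lrfl
theorem f449725 : Led Lsl_ft (LP (LK LD1_c11 LD2_c8 LD3_c25)) = (LP (LK LD1_c20 LD2_c1 LD3_c61)) :=
  Lre_f IH (LK LD1_c11 LD2_c8 LD3_c25) (LK LD1_c20 LD2_c1 LD3_c61) Lrfl Lrfl
theorem f449726 : Led Lsl_ef (LP (LK LD1_c16 LD2_c29 LD3_c3)) = (LP (LK LD1_c20 LD2_c1 LD3_c61)) :=
  Lgr Lrot21 (Lpr_ft (f272715 IH) (Lpr_et (f38358 IH) (Lpr_ft (f449719 IH) (Lpr_et (f210728 IH) (Lpr_ft (f449725 IH) (Lpn (LP (LK LD1_c20 LD2_c1 LD3_c61))))))))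
theorem f449703 : Led Lsl_dt (LP (LK LD1_c16 LD2_c29 LD3_c3)) = (LP (LK LD1_c26 LD2_c26 LD3_c9)) :=
  Lre_d IH (LK LD1_c16 LD2_c29 LD3_c3) (LK LD1_c26 LD2_c26 LD3_c9) Lrfl Lrfl
theorem f241112 : Led Lsl_ft (LP (LK LD1_c16 LD2_c29 LD3_c2)) = (LP (LK LD1_c26 LD2_c26 LD3_c9)) :=
  Lre_f IH (LK LD1_c16 LD2_c29 LD3_c2) (LK LD1_c26 LD2_c26 LD3_c9) Lrfl Lrfl
theorem f241840 : Led Lsl_et (LP (LK LD1_c12 LD2_c8 LD3_c24)) = (LP (LK LD1_c6 LD2_c15 LD3_c2)) :=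
  Lre_e IH (LK LD1_c12 LD2_c8 LD3_c24) (LK LD1_c6 LD2_c15 LD3_c2) Lrfl Lrfl
theorem f449645 : Led Lsl_ft (LP (LK LD1_c21 LD2_c14 LD3_c43)) = (LP (LK LD1_c12 LD2_c8 LD3_c24)) :=
  Lre_f IH (LK LD1_c21 LD2_c14 LD3_c43) (LK LD1_c12 LD2_c8 LD3_c24) Lrfl Lrfl
theorem f449646 : Led Lsl_et (LP (LK LD1_c26 LD2_c26 LD3_c9)) = (LP (LK LD1_c21 LD2_c14 LD3_c43)) :=
  Lgr Lrot69 (Lpe (f241112 IH) (Lpe (f241085 IH) (Lpr_ff (f449641 IH) (Lpe (f241840 IH) (Lpe (f449645 IH) (Lpn (LP (LK LD1_c21 LD2_c14 LD3_c43))))))))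
theorem f449944 : Led Lsl_dt (LP (LK LD1_c21 LD2_c14 LD3_c43)) = (LP (LK LD1_c12 LD2_c8 LD3_c25)) :=
  Lre_d IH (LK LD1_c21 LD2_c14 LD3_c43) (LK LD1_c12 LD2_c8 LD3_c25) Lrfl Lrfl
theorem f449926 : Led Lsl_dt (LP (LK LD1_c11 LD2_c28 LD3_c1)) = (LP (LK LD1_c20 LD2_c1 LD3_c61)) :=
  Lre_d IH (LK LD1_c11 LD2_c28 LD3_c1) (LK LD1_c20 LD2_c1 LD3_c61) Lrfl Lrfl
theorem f449945 : Led Lsl_et (LP (LK LD1_c12 LD2_c8 LD3_c25)) = (LP (LK LD1_c11 LD2_c28 LD3_c1)) :=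
  Lgr Lrot71 (Lpe (f449944 IH) (Lpe (f449646 IH) (Lpe (f449703 IH) (Lpr_ef (f449726 IH) (Lpe (f449926 IH) (Lpn (LP (LK LD1_c11 LD2_c28 LD3_c1))))))))
theorem f449950 : Led Lsl_ft (LP (LK LD1_c6 LD2_c15 LD3_c1)) = (LP (LK LD1_c12 LD2_c8 LD3_c25)) :=
  Lre_f IH (LK LD1_c6 LD2_c15 LD3_c1) (LK LD1_c12 LD2_c8 LD3_c25) Lrfl Lrfl
theorem f449951 : Led Lsl_et (LP (LK LD1_c3 LD2_c4 LD3_c27)) = (LP (LK LD1_c6 LD2_c15 LD3_c1)) :=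
  Lre_e IH (LK LD1_c3 LD2_c4 LD3_c27) (LK LD1_c6 LD2_c15 LD3_c1) Lrfl Lrfl
theorem f449925 : Led Lsl_ft (LP (LK LD1_c11 LD2_c28 LD3_c1)) = (LP (LK LD1_c5 LD2_c49 LD3_c40)) :=
  Lre_f IH (LK LD1_c11 LD2_c28 LD3_c1) (LK LD1_c5 LD2_c49 LD3_c40) Lrfl Lrfl
theorem f449933 : Led Lsl_et (LP (LK LD1_c5 LD2_c49 LD3_c40)) = (LP (LK LD1_c2 LD2_c50 LD3_c57)) :=
  Lre_e IH (LK LD1_c5 LD2_c49 LD3_c40) (LK LD1_c2 LD2_c50 LD3_c57) Lrfl Lrfl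
theorem f449952 : Led Lsl_ff (LP (LK LD1_c3 LD2_c4 LD3_c27)) = (LP (LK LD1_c2 LD2_c50 LD3_c57)) :=
  Lgr Lrot72 (Lpr_et (f449951 IH) (Lpr_ft (f449950 IH) (Lpr_et (f449945 IH) (Lpr_ft (f449925 IH) (Lpr_et (f449933 IH) (Lpn (LP (LK LD1_c2 LD2_c50 LD3_c57))))))))
theorem f449960 : Led Lsl_ft (LP (LK LD1_c3 LD2_c4 LD3_c27)) = (LP (LK LD1_c2 LD2_c50 LD3_c57)) :=
  Lgr Lrot48 (Lpr_ff (f449952 IH) (Lpn (LP (LK LD1_c2 LD2_c50 LD3_c57))))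
theorem f70099 : Led Lsl_dt (LP (LK LD1_c4 LD2_c23 LD3_c48)) = (LP (LK LD1_c2 LD2_c9 LD3_c17)) :=
  Lre_d IH (LK LD1_c4 LD2_c23 LD3_c48) (LK LD1_c2 LD2_c9 LD3_c17) Lrfl Lrfl
theorem f70218 : Led Lsl_bt (LP (LK LD1_c4 LD2_c23 LD3_c48)) = (LP (LK LD1_c2 LD2_c9 LD3_c18)) :=
  Lre_b IH (LK LD1_c4 LD2_c23 LD3_c48) (LK LD1_c2 LD2_c9 LD3_c18) Lrfl Lrfl
theorem f381814 : Led Lsl_dt (LP (LK LD1_c2 LD2_c47 LD3_c51)) = (LP (LK LD1_c5 LD2_c43 LD3_c39)) :=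
  Lre_d IH (LK LD1_c2 LD2_c47 LD3_c51) (LK LD1_c5 LD2_c43 LD3_c39) Lrfl Lrfl
theorem f181475 : Led Lsl_dt (LP (LK LD1_c5 LD2_c43 LD3_c21)) = (LP (LK LD1_c2 LD2_c47 LD3_c42)) :=
  Lre_d IH (LK LD1_c5 LD2_c43 LD3_c21) (LK LD1_c2 LD2_c47 LD3_c42) Lrfl Lrfl
theorem f381826 : Led Lsl_ft (LP (LK LD1_c5 LD2_c43 LD3_c39)) = (LP (LK LD1_c5 LD2_c43 LD3_c21)) :=
  Lgr Lrot54 (Lpe (f381814 IH) (Lpr_ff (K27.f381822 IH) (Lpe (f181475 IH) (Lpn (LP (LK LD1_c5 LD2_c43 LD3_c21))))))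
theorem f381757 : Led Lsl_bt (LP (LK LD1_c5 LD2_c43 LD3_c21)) = (LP (LK LD1_c2 LD2_c47 LD3_c43)) :=
  Lre_b IH (LK LD1_c5 LD2_c43 LD3_c21) (LK LD1_c2 LD2_c47 LD3_c43) Lrfl Lrfl
theorem f381846 : Led Lsl_bf (LP (LK LD1_c5 LD2_c43 LD3_c39)) = (LP (LK LD1_c5 LD2_c43 LD3_c25)) :=
  Lgr Lrot61 (Lpr_ft (f381826 IH) (Lpr_bt (f381757 IH) (Lpr_ft (K27.f381488 IH) (Lpn (LP (LK LD1_c5 LD2_c43 LD3_c25))))))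
theorem f381854 : Led Lsl_et (LP (LK LD1_c5 LD2_c43 LD3_c39)) = (LP (LK LD1_c11 LD2_c17 LD3_c18)) :=
  Lre_e IH (LK LD1_c5 LD2_c43 LD3_c39) (LK LD1_c11 LD2_c17 LD3_c18) Lrfl Lrfl
theorem f381855 : Led Lsl_et (LP (LK LD1_c11 LD2_c16 LD3_c54)) = (LP (LK LD1_c5 LD2_c43 LD3_c25)) :=
  Lre_e IH (LK LD1_c11 LD2_c16 LD3_c54) (LK LD1_c5 LD2_c43 LD3_c25) Lrfl Lrfl
theorem f381856 : Led Lsl_bt (LP (LK LD1_c11 LD2_c17 LD3_c18)) = (LP (LK LD1_c11 LD2_c16 LD3_c54)) :=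
  Lgr Lrot119 (Lpe (f381854 IH) (Lpr_bf (f381846 IH) (Lpe (f381855 IH) (Lpn (LP (LK LD1_c11 LD2_c16 LD3_c54))))))
theorem f381864 : Led Lsl_bf (LP (LK LD1_c11 LD2_c17 LD3_c18)) = (LP (LK LD1_c11 LD2_c16 LD3_c54)) :=
  Lgr Lrot24 (Lpr_bt (f381856 IH) (Lpn (LP (LK LD1_c11 LD2_c16 LD3_c54))))
theorem f381887 : Led Lsl_at (LP (LK LD1_c11 LD2_c17 LD3_c18)) = (LP (LK LD1_c5 LD2_c43 LD3_c42)) :=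
  Lre_a IH (LK LD1_c11 LD2_c17 LD3_c18) (LK LD1_c5 LD2_c43 LD3_c42) Lrfl Lrfl
theorem f381888 : Led Lsl_bt (LP (LK LD1_c5 LD2_c43 LD3_c42)) = (LP (LK LD1_c2 LD2_c47 LD3_c57)) :=
  Lre_b IH (LK LD1_c5 LD2_c43 LD3_c42) (LK LD1_c2 LD2_c47 LD3_c57) Lrfl Lrfl
theorem f381889 : Led Lsl_at (LP (LK LD1_c2 LD2_c47 LD3_c57)) = (LP (LK LD1_c5 LD2_c43 LD3_c36)) :=
  Lre_a IH (LK LD1_c2 LD2_c47 LD3_c57) (LK LD1_c5 LD2_c43 LD3_c36) Lrfl Lrfl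
theorem f381890 : Led Lsl_at (LP (LK LD1_c5 LD2_c43 LD3_c46)) = (LP (LK LD1_c11 LD2_c16 LD3_c54)) :=
  Lre_a IH (LK LD1_c5 LD2_c43 LD3_c46) (LK LD1_c11 LD2_c16 LD3_c54) Lrfl Lrfl
theorem f381891 : Led Lsl_bt (LP (LK LD1_c5 LD2_c43 LD3_c36)) = (LP (LK LD1_c5 LD2_c43 LD3_c46)) :=
  Lgr Lrot62 (Lpe (f381889 IH) (Lpe (f381888 IH) (Lpe (f381887 IH) (Lpr_bf (f381864 IH) (Lpe (f381890 IH) (Lpn (LP (LK LD1_c5 LD2_c43 LD3_c46))))))))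
theorem f381899 : Led Lsl_dt (LP (LK LD1_c11 LD2_c17 LD3_c16)) = (LP (LK LD1_c5 LD2_c43 LD3_c36)) :=
  Lre_d IH (LK LD1_c11 LD2_c17 LD3_c16) (LK LD1_c5 LD2_c43 LD3_c36) Lrfl Lrfl
theorem f381900 : Led Lsl_dt (LP (LK LD1_c5 LD2_c43 LD3_c46)) = (LP (LK LD1_c11 LD2_c17 LD3_c32)) :=
  Lre_d IH (LK LD1_c5 LD2_c43 LD3_c46) (LK LD1_c11 LD2_c17 LD3_c32) Lrfl Lrfl
theorem f381901 : Led Lsl_bf (LP (LK LD1_c11 LD2_c17 LD3_c16)) = (LP (LK LD1_c11 LD2_c17 LD3_c32)) :=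
  Lgr Lrot93 (Lpr_dt (f381899 IH) (Lpr_bt (f381891 IH) (Lpr_dt (f381900 IH) (Lpn (LP (LK LD1_c11 LD2_c17 LD3_c32))))))
theorem f381914 : Led Lsl_et (LP (LK LD1_c11 LD2_c17 LD3_c16)) = (LP (LK LD1_c5 LD2_c43 LD3_c37)) :=
  Lre_e IH (LK LD1_c11 LD2_c17 LD3_c16) (LK LD1_c5 LD2_c43 LD3_c37) Lrfl Lrfl
theorem f381915 : Led Lsl_et (LP (LK LD1_c5 LD2_c43 LD3_c47)) = (LP (LK LD1_c11 LD2_c17 LD3_c32)) :=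
  Lre_e IH (LK LD1_c5 LD2_c43 LD3_c47) (LK LD1_c11 LD2_c17 LD3_c32) Lrfl Lrfl
theorem f381916 : Led Lsl_bt (LP (LK LD1_c5 LD2_c43 LD3_c37)) = (LP (LK LD1_c5 LD2_c43 LD3_c47)) :=
  Lgr Lrot119 (Lpe (f381914 IH) (Lpr_bf (f381901 IH) (Lpe (f381915 IH) (Lpn (LP (LK LD1_c5 LD2_c43 LD3_c47))))))
theorem f541772 : Led Lsl_cf (LP (LK LD1_c4 LD2_c23 LD3_c48)) = (LP (LK LD1_c5 LD2_c43 LD3_c47)) :=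
  Lgr Lrot97 (Lpr_bt (f70218 IH) (Lpe (K2.f59699 IH) (Lpr_bt (K8.f70219 IH) (Lpr_ct (f541768 IH) (Lpr_bt (f381916 IH) (Lpn (LP (LK LD1_c5 LD2_c43 LD3_c47))))))))
theorem f381800 : Led Lsl_dt (LP (LK LD1_c2 LD2_c47 LD3_c55)) = (LP (LK LD1_c5 LD2_c43 LD3_c47)) :=
  Lre_d IH (LK LD1_c2 LD2_c47 LD3_c55) (LK LD1_c5 LD2_c43 LD3_c47) Lrfl Lrfl
theorem f75562 : Led Lsl_ct (LP (LK LD1_c1 LD2_c20 LD3_c15)) = (LP (LK LD1_c2 LD2_c47 LD3_c55)) :=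
  Lre_c IH (LK LD1_c1 LD2_c20 LD3_c15) (LK LD1_c2 LD2_c47 LD3_c55) Lrfl Lrfl
theorem f75561 : Led Lsl_dt (LP (LK LD1_c2 LD2_c47 LD3_c59)) = (LP (LK LD1_c1 LD2_c20 LD3_c15)) :=
  Lre_d IH (LK LD1_c2 LD2_c47 LD3_c59) (LK LD1_c1 LD2_c20 LD3_c15) Lrfl Lrfl
theorem f541785 : Led Lsl_ct (LP (LK LD1_c5 LD2_c43 LD3_c56)) = (LP (LK LD1_c2 LD2_c47 LD3_c59)) :=
  Lre_c IH (LK LD1_c5 LD2_c43 LD3_c56) (LK LD1_c2 LD2_c47 LD3_c59) Lrfl Lrfl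
theorem f542510 : Led Lsl_df (LP (LK LD1_c5 LD2_c43 LD3_c56)) = (LP (LK LD1_c3 LD2_c3 LD3_c59)) :=
  Lgr Lrot157 (Lpr_ct (f541785 IH) (Lpr_dt (f75561 IH) (Lpr_ct (f75562 IH) (Lpr_dt (f381800 IH) (Lpe (f541772 IH) (Lpr_dt (f70099 IH) (Lpr_ct (K9.f70091 IH) (Lpe (f70093 IH) (Lpr_ff (f81445 IH) (Lpn (LP (LK LD1_c3 LD2_c3 LD3_c59))))))))))))
theorem f542519 : Led Lsl_ft (LP (LK LD1_c5 LD2_c43 LD3_c56)) = (LP (LK LD1_c8 LD2_c45 LD3_c26)) :=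
  Lgr Lrot54 (Lpr_df (f542510 IH) (Lpr_ff (f81385 IH) (Lpe (f70103 IH) (Lpn (LP (LK LD1_c8 LD2_c45 LD3_c26))))))
theorem f81373 : Led Lsl_at (LP (LK LD1_c8 LD2_c45 LD3_c26)) = (LP (LK LD1_c4 LD2_c23 LD3_c48)) :=
  Lre_a IH (LK LD1_c8 LD2_c45 LD3_c26) (LK LD1_c4 LD2_c23 LD3_c48) Lrfl Lrfl
theorem f542521 : Led Lsl_af (LP (LK LD1_c5 LD2_c43 LD3_c56)) = (LP (LK LD1_c3 LD2_c3 LD3_c60)) :=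
  Lgr Lrot45 (Lpr_ft (f542519 IH) (Lpr_at (f81373 IH) (Lpe (K32.f81371 IH) (Lpn (LP (LK LD1_c3 LD2_c3 LD3_c60))))))
theorem f542516 : Led Lsl_et (LP (LK LD1_c5 LD2_c43 LD3_c56)) = (LP (LK LD1_c11 LD2_c17 LD3_c48)) :=
  Lre_e IH (LK LD1_c5 LD2_c43 LD3_c56) (LK LD1_c11 LD2_c17 LD3_c48) Lrfl Lrfl
theorem f81380 : Led Lsl_et (LP (LK LD1_c6 LD2_c14 LD3_c11)) = (LP (LK LD1_c3 LD2_c3 LD3_c60)) :=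
  Lre_e IH (LK LD1_c6 LD2_c14 LD3_c11) (LK LD1_c3 LD2_c3 LD3_c60) Lrfl Lrfl
theorem f542531 : Led Lsl_at (LP (LK LD1_c11 LD2_c17 LD3_c48)) = (LP (LK LD1_c6 LD2_c14 LD3_c11)) :=
  Lgr Lrot80 (Lpe (f542516 IH) (Lpr_af (f542521 IH) (Lpe (f81380 IH) (Lpn (LP (LK LD1_c6 LD2_c14 LD3_c11))))))
theorem f542537 : Led Lsl_ct (LP (LK LD1_c5 LD2_c43 LD3_c52)) = (LP (LK LD1_c11 LD2_c17 LD3_c48)) :=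
  Lre_c IH (LK LD1_c5 LD2_c43 LD3_c52) (LK LD1_c11 LD2_c17 LD3_c48) Lrfl Lrfl
theorem f381909 : Led Lsl_at (LP (LK LD1_c11 LD2_c17 LD3_c16)) = (LP (LK LD1_c5 LD2_c43 LD3_c52)) :=
  Lre_a IH (LK LD1_c11 LD2_c17 LD3_c16) (LK LD1_c5 LD2_c43 LD3_c52) Lrfl Lrfl
theorem f542538 : Led Lsl_cf (LP (LK LD1_c11 LD2_c17 LD3_c16)) = (LP (LK LD1_c6 LD2_c14 LD3_c11)) :=
  Lgr Lrot1 (Lpr_at (f381909 IH) (Lpr_ct (f542537 IH) (Lpr_at (f542531 IH) (Lpn (LP (LK LD1_c6 LD2_c14 LD3_c11))))))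
theorem f381912 : Led Lsl_bt (LP (LK LD1_c11 LD2_c17 LD3_c16)) = (LP (LK LD1_c11 LD2_c17 LD3_c32)) :=
  Lgr Lrot127 (Lpr_bf (f381901 IH) (Lpn (LP (LK LD1_c11 LD2_c17 LD3_c32))))
theorem f81222 : Led Lsl_bt (LP (LK LD1_c3 LD2_c3 LD3_c61)) = (LP (LK LD1_c6 LD2_c14 LD3_c11)) :=
  Lre_b IH (LK LD1_c3 LD2_c3 LD3_c61) (LK LD1_c6 LD2_c14 LD3_c11) Lrfl Lrfl
theorem f81242 : Led Lsl_cf (LP (LK LD1_c3 LD2_c3 LD3_c61)) = (LP (LK LD1_c4 LD2_c23 LD3_c50)) :=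
  Lgr Lrot11 (Lpr_ct (K32.f81230 IH) (Lpn (LP (LK LD1_c4 LD2_c23 LD3_c50))))
theorem f70160 : Led Lsl_bt (LP (LK LD1_c8 LD2_c45 LD3_c27)) = (LP (LK LD1_c4 LD2_c23 LD3_c50)) :=
  Lre_b IH (LK LD1_c8 LD2_c45 LD3_c27) (LK LD1_c4 LD2_c23 LD3_c50) Lrfl Lrfl
theorem f542579 : Led Lsl_ct (LP (LK LD1_c11 LD2_c17 LD3_c32)) = (LP (LK LD1_c8 LD2_c45 LD3_c27)) :=
  Lgr Lrot83 (Lpe (f381912 IH) (Lpr_cf (f542538 IH) (Lpe (f81222 IH) (Lpr_cf (f81242 IH) (Lpe (f70160 IH) (Lpn (LP (LK LD1_c8 LD2_c45 LD3_c27))))))))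
theorem f443170 : Led Lsl_at (LP (LK LD1_c8 LD2_c45 LD3_c27)) = (LP (LK LD1_c16 LD2_c23 LD3_c32)) :=
  Lre_a IH (LK LD1_c8 LD2_c45 LD3_c27) (LK LD1_c16 LD2_c23 LD3_c32) Lrfl Lrfl
theorem f81391 : Led Lsl_et (LP (LK LD1_c8 LD2_c45 LD3_c26)) = (LP (LK LD1_c16 LD2_c23 LD3_c32)) :=
  Lre_e IH (LK LD1_c8 LD2_c45 LD3_c26) (LK LD1_c16 LD2_c23 LD3_c32) Lrfl Lrfl
theorem f541781 : Led Lsl_et (LP (LK LD1_c11 LD2_c17 LD3_c52)) = (LP (LK LD1_c5 LD2_c43 LD3_c57)) :=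
  Lre_e IH (LK LD1_c11 LD2_c17 LD3_c52) (LK LD1_c5 LD2_c43 LD3_c57) Lrfl Lrfl
theorem f541782 : Led Lsl_ct (LP (LK LD1_c16 LD2_c23 LD3_c32)) = (LP (LK LD1_c11 LD2_c17 LD3_c52)) :=
  Lgr Lrot15 (Lpe (f81391 IH) (Lpr_cf (f541777 IH) (Lpe (f541781 IH) (Lpn (LP (LK LD1_c11 LD2_c17 LD3_c52))))))
theorem f542583 : Led Lsl_af (LP (LK LD1_c11 LD2_c17 LD3_c32)) = (LP (LK LD1_c11 LD2_c17 LD3_c52)) :=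
  Lgr Lrot68 (Lpr_ct (f542579 IH) (Lpr_at (f443170 IH) (Lpr_ct (f541782 IH) (Lpn (LP (LK LD1_c11 LD2_c17 LD3_c52))))))
theorem f381941 : Led Lsl_ft (LP (LK LD1_c11 LD2_c17 LD3_c32)) = (LP (LK LD1_c20 LD2_c13 LD3_c41)) :=
  Lre_f IH (LK LD1_c11 LD2_c17 LD3_c32) (LK LD1_c20 LD2_c13 LD3_c41) Lrfl Lrfl
theorem f542594 : Led Lsl_ft (LP (LK LD1_c20 LD2_c14 LD3_c0)) = (LP (LK LD1_c11 LD2_c17 LD3_c52)) :=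
  Lre_f IH (LK LD1_c20 LD2_c14 LD3_c0) (LK LD1_c11 LD2_c17 LD3_c52) Lrfl Lrfl
theorem f542602 : Led Lsl_at (LP (LK LD1_c20 LD2_c13 LD3_c41)) = (LP (LK LD1_c20 LD2_c14 LD3_c0)) :=
  Lgr Lrot66 (Lpe (f381941 IH) (Lpr_af (f542583 IH) (Lpe (f542594 IH) (Lpn (LP (LK LD1_c20 LD2_c14 LD3_c0))))))
theorem f382165 : Led Lsl_dt (LP (LK LD1_c11 LD2_c17 LD3_c33)) = (LP (LK LD1_c20 LD2_c13 LD3_c41)) :=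
  Lre_d IH (LK LD1_c11 LD2_c17 LD3_c33) (LK LD1_c20 LD2_c13 LD3_c41) Lrfl Lrfl
theorem f381881 : Led Lsl_at (LP (LK LD1_c20 LD2_c12 LD3_c46)) = (LP (LK LD1_c11 LD2_c17 LD3_c33)) :=
  Lre_a IH (LK LD1_c20 LD2_c12 LD3_c46) (LK LD1_c11 LD2_c17 LD3_c33) Lrfl Lrfl
theorem f542606 : Led Lsl_df (LP (LK LD1_c20 LD2_c12 LD3_c46)) = (LP (LK LD1_c20 LD2_c14 LD3_c0)) :=
  Lgr Lrot18 (Lpr_at (f381881 IH) (Lpr_dt (f382165 IH) (Lpr_at (f542602 IH) (Lpn (LP (LK LD1_c20 LD2_c14 LD3_c0))))))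
theorem f542609 : Led Lsl_dt (LP (LK LD1_c20 LD2_c12 LD3_c46)) = (LP (LK LD1_c20 LD2_c14 LD3_c0)) :=
  Lgr Lrot42 (Lpr_df (f542606 IH) (Lpn (LP (LK LD1_c20 LD2_c14 LD3_c0))))
theorem f381867 : Led Lsl_ft (LP (LK LD1_c11 LD2_c16 LD3_c54)) = (LP (LK LD1_c20 LD2_c12 LD3_c46)) :=
  Lre_f IH (LK LD1_c11 LD2_c16 LD3_c54) (LK LD1_c20 LD2_c12 LD3_c46) Lrfl Lrfl
theorem f542613 : Led Lsl_df (LP (LK LD1_c11 LD2_c16 LD3_c54)) = (LP (LK LD1_c11 LD2_c17 LD3_c52)) :=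
  Lgr Lrot78 (Lpr_ft (f381867 IH) (Lpr_dt (f542609 IH) (Lpr_ft (f542594 IH) (Lpn (LP (LK LD1_c11 LD2_c17 LD3_c52))))))
theorem f542601 : Led Lsl_et (LP (LK LD1_c5 LD2_c43 LD3_c57)) = (LP (LK LD1_c11 LD2_c17 LD3_c52)) :=
  Lre_e IH (LK LD1_c5 LD2_c43 LD3_c57) (LK LD1_c11 LD2_c17 LD3_c52) Lrfl Lrfl
theorem f542616 : Led Lsl_et (LP (LK LD1_c2 LD2_c47 LD3_c44)) = (LP (LK LD1_c2 LD2_c47 LD3_c60)) :=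
  Lgr Lrot71 (Lpe (f381682 IH) (Lpe (f381855 IH) (Lpr_df (f542613 IH) (Lpe (f542601 IH) (Lpe (f541673 IH) (Lpn (LP (LK LD1_c2 LD2_c47 LD3_c60))))))))
theorem f72954 : Led Lsl_et (LP (LK LD1_c3 LD2_c0 LD3_c29)) = (LP (LK LD1_c1 LD2_c25 LD3_c61)) :=
  Lre_e IH (LK LD1_c3 LD2_c0 LD3_c29) (LK LD1_c1 LD2_c25 LD3_c61) Lrfl Lrfl
theorem f542622 : Led Lsl_df (LP (LK LD1_c5 LD2_c42 LD3_c50)) = (LP (LK LD1_c3 LD2_c0 LD3_c29)) :=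
  Lgr Lrot170 (Lpe (f423986 IH) (Lpe (f381644 IH) (Lpr_et (f542616 IH) (Lpe (f539664 IH) (Lpe (f185803 IH) (Lpr_gt (f428096 IH) (Lpe (f75833 IH) (Lpr_et (K32.f75530 IH) (Lpr_gt (K4.f72887 IH) (Lpe (f72954 IH) (Lpn (LP (LK LD1_c3 LD2_c0 LD3_c29)))))))))))))
theorem f289403 : Led Lsl_ct (LP (LK LD1_c11 LD2_c6 LD3_c37)) = (LP (LK LD1_c5 LD2_c37 LD3_c30)) :=
  Lre_c IH (LK LD1_c11 LD2_c6 LD3_c37) (LK LD1_c5 LD2_c37 LD3_c30) Lrfl Lrfl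
theorem f211955 : Led Lsl_ct (LP (LK LD1_c5 LD2_c37 LD3_c18)) = (LP (LK LD1_c2 LD2_c44 LD3_c35)) :=
  Lre_c IH (LK LD1_c5 LD2_c37 LD3_c18) (LK LD1_c2 LD2_c44 LD3_c35) Lrfl Lrfl
theorem f542632 : Led Lsl_gf (LP (LK LD1_c5 LD2_c37 LD3_c18)) = (LP (LK LD1_c3 LD2_c0 LD3_c29)) :=
  Lgr Lrot147 (Lpr_ct (f211955 IH) (Lpr_gt (f289380 IH) (Lpr_ct (K18.f289406 IH) (Lpe (f165150 IH) (Lpe (f289403 IH) (Lpe (K27.f289502 IH) (Lpe (f382121 IH) (Lpr_gf (f423986 IH) (Lpr_df (f542622 IH) (Lpn (LP (LK LD1_c3 LD2_c0 LD3_c29))))))))))))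
theorem f381512 : Led Lsl_gt (LP (LK LD1_c5 LD2_c44 LD3_c14)) = (LP (LK LD1_c2 LD2_c48 LD3_c4)) :=
  Lre_g IH (LK LD1_c5 LD2_c44 LD3_c14) (LK LD1_c2 LD2_c48 LD3_c4) Lrfl Lrfl
theorem f381729 : Led Lsl_ff (LP (LK LD1_c1 LD2_c20 LD3_c8)) = (LP (LK LD1_c1 LD2_c20 LD3_c13)) :=
  Lgr Lrot3 (Lpr_ft (K27.f381716 IH) (Lpn (LP (LK LD1_c1 LD2_c20 LD3_c13))))
theorem f381788 : Led Lsl_gt (LP (LK LD1_c1 LD2_c20 LD3_c13)) = (LP (LK LD1_c2 LD2_c47 LD3_c41)) :=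
  Lgr Lrot5 (Lpe (f381729 IH) (Lpr_at (K27.f381760 IH) (Lpe (f381787 IH) (Lpn (LP (LK LD1_c2 LD2_c47 LD3_c41))))))
theorem f381496 : Led Lsl_gt (LP (LK LD1_c11 LD2_c17 LD3_c7)) = (LP (LK LD1_c5 LD2_c43 LD3_c31)) :=
  Lre_g IH (LK LD1_c11 LD2_c17 LD3_c7) (LK LD1_c5 LD2_c43 LD3_c31) Lrfl Lrfl
theorem f381126 : Led Lsl_dt (LP (LK LD1_c9 LD2_c46 LD3_c3)) = (LP (LK LD1_c5 LD2_c43 LD3_c10)) :=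
  Lre_d IH (LK LD1_c9 LD2_c46 LD3_c3) (LK LD1_c5 LD2_c43 LD3_c10) Lrfl Lrfl
theorem f174678 : Led Lsl_ct (LP (LK LD1_c2 LD2_c47 LD3_c35)) = (LP (LK LD1_c5 LD2_c43 LD3_c10)) :=
  Lre_c IH (LK LD1_c2 LD2_c47 LD3_c35) (LK LD1_c5 LD2_c43 LD3_c10) Lrfl Lrfl
theorem f381515 : Led Lsl_df (LP (LK LD1_c11 LD2_c17 LD3_c7)) = (LP (LK LD1_c5 LD2_c44 LD3_c14)) :=
  Lgr Lrot155 (Lpr_gt (f381496 IH) (Lpr_ct (K27.f381489 IH) (Lpr_gt (K27.f313555 IH) (Lpr_ct (K27.f318730 IH) (Lpr_dt (f381126 IH) (Lpe (f174678 IH) (Lpe (K27.f174662 IH) (Lpe (K27.f381511 IH) (Lpe (f381512 IH) (Lpn (LP (LK LD1_c5 LD2_c44 LD3_c14))))))))))))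
theorem f381132 : Led Lsl_dt (LP (LK LD1_c5 LD2_c43 LD3_c31)) = (LP (LK LD1_c2 LD2_c47 LD3_c46)) :=
  Lre_d IH (LK LD1_c5 LD2_c43 LD3_c31) (LK LD1_c2 LD2_c47 LD3_c46) Lrfl Lrfl
theorem f381531 : Led Lsl_gt (LP (LK LD1_c2 LD2_c48 LD3_c7)) = (LP (LK LD1_c5 LD2_c44 LD3_c14)) :=
  Lgr Lrot94 (Lpe (K27.f381530 IH) (Lpr_gt (K27.f75974 IH) (Lpr_dt (K27.f168866 IH) (Lpr_gt (K27.f76147 IH) (Lpr_dt (K27.f76148 IH) (Lpe (K27.f381115 IH) (Lpe (f381132 IH) (Lpe (f381496 IH) (Lpr_df (f381515 IH) (Lpn (LP (LK LD1_c5 LD2_c44 LD3_c14))))))))))))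
theorem f381792 : Led Lsl_dt (LP (LK LD1_c11 LD2_c16 LD3_c46)) = (LP (LK LD1_c5 LD2_c43 LD3_c19)) :=
  Lre_d IH (LK LD1_c11 LD2_c16 LD3_c46) (LK LD1_c5 LD2_c43 LD3_c19) Lrfl Lrfl
theorem f381793 : Led Lsl_ct (LP (LK LD1_c5 LD2_c44 LD3_c14)) = (LP (LK LD1_c11 LD2_c16 LD3_c46)) :=
  Lgr Lrot110 (Lpe (f381531 IH) (Lpe (K27.f381530 IH) (Lpe (f381547 IH) (Lpe (f381125 IH) (Lpr_gt (K27.f381390 IH) (Lpr_ct (K27.f381201 IH) (Lpr_gt (f381788 IH) (Lpr_ct (f381791 IH) (Lpe (f381792 IH) (Lpn (LP (LK LD1_c11 LD2_c16 LD3_c46))))))))))))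
theorem f381804 : Led Lsl_cf (LP (LK LD1_c5 LD2_c44 LD3_c14)) = (LP (LK LD1_c11 LD2_c16 LD3_c46)) :=
  Lgr Lrot11 (Lpr_ct (f381793 IH) (Lpn (LP (LK LD1_c11 LD2_c16 LD3_c46))))
theorem f165160 : Led Lsl_ct (LP (LK LD1_c2 LD2_c44 LD3_c40)) = (LP (LK LD1_c5 LD2_c37 LD3_c27)) :=
  Lre_c IH (LK LD1_c2 LD2_c44 LD3_c40) (LK LD1_c5 LD2_c37 LD3_c27) Lrfl Lrfl
theorem f541559 : Led Lsl_gf (LP (LK LD1_c2 LD2_c49 LD3_c23)) = (LP (LK LD1_c5 LD2_c37 LD3_c27)) :=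
  Lgr Lrot129 (Lpe (K2.f72874 IH) (Lpr_bt (K2.f60117 IH) (Lpr_gt (K35.f541557 IH) (Lpe (K18.f165161 IH) (Lpr_ct (K9.f165143 IH) (Lpr_gt (K9.f40819 IH) (Lpe (K9.f165067 IH) (Lpr_bt (K35.f165064 IH) (Lpr_gt (K32.f165144 IH) (Lpr_ct (f165160 IH) (Lpn (LP (LK LD1_c5 LD2_c37 LD3_c27)))))))))))))
theorem f542634 : Led Lsl_gf (LP (LK LD1_c11 LD2_c16 LD3_c46)) = (LP (LK LD1_c11 LD2_c6 LD3_c36)) :=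
  Lgr Lrot147 (Lpe (f381804 IH) (Lpr_gt (f381512 IH) (Lpr_ct (K27.f381511 IH) (Lpe (K27.f383251 IH) (Lpe (f211955 IH) (Lpr_gf (f542632 IH) (Lpr_cf (K2.f72947 IH) (Lpr_gf (f541559 IH) (Lpe (K35.f383972 IH) (Lpn (LP (LK LD1_c11 LD2_c6 LD3_c36))))))))))))
theorem f381795 : Led Lsl_dt (LP (LK LD1_c5 LD2_c43 LD3_c19)) = (LP (LK LD1_c11 LD2_c16 LD3_c46)) :=
  Lre_d IH (LK LD1_c5 LD2_c43 LD3_c19) (LK LD1_c11 LD2_c16 LD3_c46) Lrfl Lrfl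
def v1666 : LQ := Led Lsl_et (LP (LK LD1_c1 LD2_c23 LD3_c35))
theorem f500641 : Led Lsl_et (LP (LK LD1_c1 LD2_c23 LD3_c35)) = v1666 :=
  Lrfl
theorem f500644 : Led Lsl_ef (LP (LK LD1_c1 LD2_c23 LD3_c35)) = v1666 :=
  Lgr Lrot88 (Lpr_et (f500641 IH) (Lpn v1666))
theorem f500646 : Led Lsl_bt v1265 = v1666 :=
  Lgr Lrot119 (Lpe (f494398 IH) (Lpr_bf (K8.f101612 IH) (Lpr_ef (f500644 IH) (Lpn v1666))))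
theorem f542139 : v1666 = (LP (LK LD1_c2 LD2_c47 LD3_c41)) :=
  Lefun (Lecon (f500646 IH) (f542136 IH).symm) (Lfl_bf (f424004 IH))
theorem f542142 : Led Lsl_ef (LP (LK LD1_c2 LD2_c55 LD3_c15)) = (LP (LK LD1_c5 LD2_c43 LD3_c19)) :=
  Lgr Lrot28 (Lpr_ct (K8.f72587 IH) (Lpr_et (f500641 IH) (Lpqs (f542139 IH) (Lpr_ct (f381791 IH) (Lpn (LP (LK LD1_c5 LD2_c43 LD3_c19)))))))
theorem f496307 : Led Lsl_at (LP (LK LD1_c2 LD2_c51 LD3_c12)) = (LP (LK LD1_c5 LD2_c50 LD3_c3)) :=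
  Lre_a IH (LK LD1_c2 LD2_c51 LD3_c12) (LK LD1_c5 LD2_c50 LD3_c3) Lrfl Lrfl
theorem f496308 : Led Lsl_ff (LP (LK LD1_c2 LD2_c51 LD3_c12)) = (LP (LK LD1_c2 LD2_c52 LD3_c23)) :=
  Lgr Lrot52 (Lpr_at (f496307 IH) (Lpr_gf (K32.f496305 IH) (Lpr_gf (K7.f150224 IH) (Lpn (LP (LK LD1_c2 LD2_c52 LD3_c23))))))
theorem f499981 : Led Lsl_df (LP (LK LD1_c2 LD2_c52 LD3_c23)) = v1565 :=
  Lgr Lrot78 (Lpe (f496308 IH) (Lpr_dt (f496615 IH) (Lpr_ft (f499979 IH) (Lpn v1565))))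
theorem f383981 : Led Lsl_dt (LP (LK LD1_c5 LD2_c37 LD3_c27)) = (LP (LK LD1_c11 LD2_c6 LD3_c36)) :=
  Lre_d IH (LK LD1_c5 LD2_c37 LD3_c27) (LK LD1_c11 LD2_c6 LD3_c36) Lrfl Lrfl
theorem f55979 : Led Lsl_gt (LP (LK LD1_c0 LD2_c57 LD3_c33)) = (LP (LK LD1_c2 LD2_c0 LD3_c58)) :=
  Lre_g IH (LK LD1_c0 LD2_c57 LD3_c33) (LK LD1_c2 LD2_c0 LD3_c58) Lrfl Lrfl
theorem f427526 : Led Lsl_et (LP (LK LD1_c2 LD2_c44 LD3_c40)) = (LP (LK LD1_c2 LD2_c0 LD3_c58)) :=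
  Lgr Lrot122 (Lpr_dt (K32.f427517 IH) (Lpr_gt (K9.f174655 IH) (Lpe (K32.f161281 IH) (Lpr_et (K32.f40706 IH) (Lpr_gt (K8.f139355 IH) (Lpr_dt (K6.f139157 IH) (Lpe (K8.f139065 IH) (Lpr_df (K2.f74257 IH) (Lpe (K1.f56018 IH) (Lpr_gt (f55979 IH) (Lpn (LP (LK LD1_c2 LD2_c0 LD3_c58)))))))))))))
theorem f427534 : Led Lsl_ef (LP (LK LD1_c2 LD2_c44 LD3_c40)) = (LP (LK LD1_c2 LD2_c0 LD3_c58)) :=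
  Lgr Lrot88 (Lpr_et (f427526 IH) (Lpn (LP (LK LD1_c2 LD2_c0 LD3_c58))))
theorem f55989 : Led Lsl_ct (LP (LK LD1_c4 LD2_c7 LD3_c9)) = (LP (LK LD1_c2 LD2_c0 LD3_c58)) :=
  Lre_c IH (LK LD1_c4 LD2_c7 LD3_c9) (LK LD1_c2 LD2_c0 LD3_c58) Lrfl Lrfl
theorem f427540 : Led Lsl_et (LP (LK LD1_c5 LD2_c37 LD3_c27)) = (LP (LK LD1_c4 LD2_c7 LD3_c9)) :=
  Lgr Lrot158 (Lpe (f165160 IH) (Lpr_ef (f427534 IH) (Lpe (f55989 IH) (Lpn (LP (LK LD1_c4 LD2_c7 LD3_c9))))))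
theorem f542640 : Led Lsl_gt (LP (LK LD1_c2 LD2_c24 LD3_c48)) = (LP (LK LD1_c4 LD2_c7 LD3_c9)) :=
  Lgr Lrot131 (Lpe (K11.f205121 IH) (Lpq (f537287 IH) (Lpe (f499981 IH) (Lpe (K7.f150227 IH) (Lpe (K8.f139389 IH) (Lpr_gf (K8.f150384 IH) (Lpr_ef (f542142 IH) (Lpr_dt (f381795 IH) (Lpr_gf (f542634 IH) (Lpe (f383981 IH) (Lpr_et (f427540 IH) (Lpn (LP (LK LD1_c4 LD2_c7 LD3_c9))))))))))))))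
def v1394 : LQ := Led Lsl_bt (LP (LK LD1_c1 LD2_c12 LD3_c7))
theorem f495321 : Led Lsl_bt (LP (LK LD1_c1 LD2_c12 LD3_c7)) = v1394 :=
  Lrfl
theorem f55868 : Led Lsl_gt (LP (LK LD1_c2 LD2_c0 LD3_c58)) = (LP (LK LD1_c4 LD2_c7 LD3_c6)) :=
  Lre_g IH (LK LD1_c2 LD2_c0 LD3_c58) (LK LD1_c4 LD2_c7 LD3_c6) Lrfl Lrfl
theorem f55859 : Led Lsl_at (LP (LK LD1_c4 LD2_c7 LD3_c6)) = (LP (LK LD1_c2 LD2_c1 LD3_c0)) :=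
  Lre_a IH (LK LD1_c4 LD2_c7 LD3_c6) (LK LD1_c2 LD2_c1 LD3_c0) Lrfl Lrfl
theorem f55944 : Led Lsl_at (LP (LK LD1_c1 LD2_c25 LD3_c54)) = (LP (LK LD1_c3 LD2_c0 LD3_c5)) :=
  Lre_a IH (LK LD1_c1 LD2_c25 LD3_c54) (LK LD1_c3 LD2_c0 LD3_c5) Lrfl Lrfl
theorem f55945 : Led Lsl_cf (LP (LK LD1_c4 LD2_c7 LD3_c6)) = (LP (LK LD1_c3 LD2_c0 LD3_c5)) :=
  Lgr Lrot1 (Lpr_at (f55859 IH) (Lpr_ct (K1.f55936 IH) (Lpr_at (f55944 IH) (Lpn (LP (LK LD1_c3 LD2_c0 LD3_c5))))))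
theorem f56266 : Led Lsl_bt (LP (LK LD1_c3 LD2_c0 LD3_c5)) = (LP (LK LD1_c4 LD2_c39 LD3_c41)) :=
  Lre_b IH (LK LD1_c3 LD2_c0 LD3_c5) (LK LD1_c4 LD2_c39 LD3_c41) Lrfl Lrfl
theorem f56244 : Led Lsl_gt (LP (LK LD1_c4 LD2_c39 LD3_c41)) = (LP (LK LD1_c2 LD2_c16 LD3_c54)) :=
  Lre_g IH (LK LD1_c4 LD2_c39 LD3_c41) (LK LD1_c2 LD2_c16 LD3_c54) Lrfl Lrfl
theorem f542648 : v1394 = (LP (LK LD1_c2 LD2_c16 LD3_c54)) :=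
  (Llr Lrot92 (Lpe (f495321 IH) (Lpr_ct (K9.f177767 IH) (Lpe (K9.f101517 IH) (Lpe (K10.f31692 IH) (Lpr_bt (K11.f31694 IH) (Lpr_gt (f542640 IH) (Lpr_ct (f55989 IH) (Lpr_gt (f55868 IH) (Lpr_cf (f55945 IH) (Lpr_bt (f56266 IH) (Lpr_gt (f56244 IH) (Lpn (LP (LK LD1_c2 LD2_c16 LD3_c54))))))))))))))).symm
theorem f285003 : Led Lsl_at (LP (LK LD1_c1 LD2_c12 LD3_c1)) = (LP (LK LD1_c1 LD2_c13 LD3_c23)) :=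
  Lgr Lrot67 (Lpe (K15.f177320 IH) (Lpe (K17.f212215 IH) (Lpr_bf (K26.f284998 IH) (Lpe (K17.f185015 IH) (Lpe (K14.f184995 IH) (Lpn (LP (LK LD1_c1 LD2_c13 LD3_c23))))))))
theorem f285071 : Led Lsl_af (LP (LK LD1_c0 LD2_c58 LD3_c9)) = (LP (LK LD1_c0 LD2_c59 LD3_c58)) :=
  Lgr Lrot117 (Lpr_dt (K15.f178983 IH) (Lpr_at (f285003 IH) (Lpe (K10.f184999 IH) (Lpn (LP (LK LD1_c0 LD2_c59 LD3_c58))))))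
theorem f165822 : Led Lsl_dt (LP (LK LD1_c2 LD2_c29 LD3_c15)) = (LP (LK LD1_c1 LD2_c11 LD3_c45)) :=
  Lre_d IH (LK LD1_c2 LD2_c29 LD3_c15) (LK LD1_c1 LD2_c11 LD3_c45) Lrfl Lrfl
theorem f165828 : Led Lsl_gt (LP (LK LD1_c5 LD2_c3 LD3_c30)) = (LP (LK LD1_c2 LD2_c29 LD3_c15)) :=
  Lre_g IH (LK LD1_c5 LD2_c3 LD3_c30) (LK LD1_c2 LD2_c29 LD3_c15) Lrfl Lrfl
theorem f198615 : Led Lsl_cf (LP (LK LD1_c2 LD2_c30 LD3_c15)) = (LP (LK LD1_c5 LD2_c3 LD3_c30)) :=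
  Lgr Lrot166 (Lpr_gt (K11.f198596 IH) (Lpr_dt (K11.f164695 IH) (Lpr_gt (K10.f184889 IH) (Lpr_dt (K2.f26941 IH) (Lpr_ct (K2.f35008 IH) (Lpr_df (K9.f35020 IH) (Lpr_gf (K9.f165811 IH) (Lpe (f165822 IH) (Lpe (f165828 IH) (Lpn (LP (LK LD1_c5 LD2_c3 LD3_c30))))))))))))
theorem f263134 : Led Lsl_ft (LP (LK LD1_c0 LD2_c39 LD3_c18)) = (LP (LK LD1_c0 LD2_c59 LD3_c58)) :=
  Lgr Lrot75 (Lpe (K9.f169445 IH) (Lpr_ff (K15.f263132 IH) (Lpe (K15.f254274 IH) (Lpn (LP (LK LD1_c0 LD2_c59 LD3_c58))))))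
theorem f285079 : Led Lsl_df (LP (LK LD1_c5 LD2_c3 LD3_c30)) = (LP (LK LD1_c2 LD2_c30 LD3_c0)) :=
  Lgr Lrot106 (Lpe (f198615 IH) (Lpr_dt (K10.f166251 IH) (Lpe (K14.f180261 IH) (Lpr_dt (K9.f53205 IH) (Lpe (K10.f178540 IH) (Lpr_af (f285071 IH) (Lpe (f263134 IH) (Lpr_dt (K9.f169443 IH) (Lpr_ct (K10.f169449 IH) (Lpn (LP (LK LD1_c2 LD2_c30 LD3_c0))))))))))))
theorem f268575 : Led Lsl_ff (LP (LK LD1_c1 LD2_c0 LD3_c29)) = (LP (LK LD1_c0 LD2_c57 LD3_c31)) :=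
  Lgr Lrot19 (Lpr_dt (K10.f169333 IH) (Lpr_ft (K16.f268571 IH) (Lpr_dt (K9.f8259 IH) (Lpn (LP (LK LD1_c0 LD2_c57 LD3_c31))))))
theorem f285090 : Led Lsl_af (LP (LK LD1_c0 LD2_c58 LD3_c51)) = (LP (LK LD1_c1 LD2_c0 LD3_c29)) :=
  Lgr Lrot109 (Lpr_cf (K14.f180261 IH) (Lpe (K10.f166251 IH) (Lpr_cf (f198615 IH) (Lpr_df (f285079 IH) (Lpe (K10.f169449 IH) (Lpe (K9.f169443 IH) (Lpe (K13.f177774 IH) (Lpe (K9.f59134 IH) (Lpe (f268575 IH) (Lpn (LP (LK LD1_c1 LD2_c0 LD3_c29))))))))))))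
theorem f285096 : Led Lsl_at (LP (LK LD1_c1 LD2_c12 LD3_c8)) = (LP (LK LD1_c1 LD2_c13 LD3_c29)) :=
  Lgr Lrot107 (Lpe (K10.f180259 IH) (Lpr_af (f285090 IH) (Lpr_cf (K10.f186508 IH) (Lpn (LP (LK LD1_c1 LD2_c13 LD3_c29))))))
theorem f268549 : Led Lsl_ft (LP (LK LD1_c1 LD2_c13 LD3_c28)) = (LP (LK LD1_c1 LD2_c12 LD3_c8)) :=
  Lgr Lrot4 (Lpr_cf (K10.f185147 IH) (Lpr_ff (K16.f268547 IH) (Lpr_cf (K14.f180261 IH) (Lpn (LP (LK LD1_c1 LD2_c12 LD3_c8))))))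
theorem f268559 : Led Lsl_af (LP (LK LD1_c1 LD2_c13 LD3_c28)) = (LP (LK LD1_c1 LD2_c12 LD3_c7)) :=
  Lgr Lrot68 (Lpr_ct (K10.f185137 IH) (Lpr_at (K16.f268553 IH) (Lpe (K9.f177769 IH) (Lpn (LP (LK LD1_c1 LD2_c12 LD3_c7))))))
theorem f285104 : Led Lsl_ff (LP (LK LD1_c1 LD2_c12 LD3_c7)) = (LP (LK LD1_c1 LD2_c13 LD3_c29)) :=
  Lgr Lrot30 (Lpe (f268559 IH) (Lpr_ft (f268549 IH) (Lpr_at (f285096 IH) (Lpn (LP (LK LD1_c1 LD2_c13 LD3_c29))))))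
theorem f193996 : Led Lsl_bt (LP (LK LD1_c2 LD2_c33 LD3_c3)) = (LP (LK LD1_c1 LD2_c13 LD3_c29)) :=
  Lre_b IH (LK LD1_c2 LD2_c33 LD3_c3) (LK LD1_c1 LD2_c13 LD3_c29) Lrfl Lrfl
theorem f495323 : Led Lsl_ff (LP (LK LD1_c2 LD2_c33 LD3_c3)) = v1394 :=
  Lgr Lrot25 (Lpr_bt (f193996 IH) (Lpe (f285104 IH) (Lpr_bt (f495321 IH) (Lpn v1394))))
theorem f495324 : Led Lsl_ft (LP (LK LD1_c2 LD2_c33 LD3_c3)) = v1394 :=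
  Lgr Lrot48 (Lpr_ff (f495323 IH) (Lpn v1394))
theorem f193974 : Led Lsl_bt (LP (LK LD1_c1 LD2_c26 LD3_c15)) = (LP (LK LD1_c3 LD2_c0 LD3_c55)) :=
  Lre_b IH (LK LD1_c1 LD2_c26 LD3_c15) (LK LD1_c3 LD2_c0 LD3_c55) Lrfl Lrfl
theorem f194017 : Led Lsl_ef (LP (LK LD1_c2 LD2_c33 LD3_c3)) = (LP (LK LD1_c3 LD2_c0 LD3_c55)) :=
  Lgr Lrot29 (Lpr_bt (f193996 IH) (Lpr_et (K10.f193986 IH) (Lpr_bt (f193974 IH) (Lpn (LP (LK LD1_c3 LD2_c0 LD3_c55))))))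
def v1511 : LQ := Led Lsl_bt (LP (LK LD1_c1 LD2_c20 LD3_c44))
theorem f495977 : Led Lsl_bt (LP (LK LD1_c1 LD2_c20 LD3_c44)) = v1511 :=
  Lrfl
theorem f268491 : Led Lsl_ft (LP (LK LD1_c1 LD2_c26 LD3_c15)) = (LP (LK LD1_c1 LD2_c20 LD3_c44)) :=
  Lgr Lrot54 (Lpe (K16.f60110 IH) (Lpr_ff (K16.f268487 IH) (Lpe (K16.f68595 IH) (Lpn (LP (LK LD1_c1 LD2_c20 LD3_c44))))))
theorem f60136 : Led Lsl_bt (LP (LK LD1_c3 LD2_c0 LD3_c55)) = (LP (LK LD1_c1 LD2_c26 LD3_c15)) :=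
  Lre_b IH (LK LD1_c3 LD2_c0 LD3_c55) (LK LD1_c1 LD2_c26 LD3_c15) Lrfl Lrfl
theorem f495980 : Led Lsl_ff (LP (LK LD1_c3 LD2_c0 LD3_c55)) = v1511 :=
  Lgr Lrot25 (Lpr_bt (f60136 IH) (Lpr_ft (f268491 IH) (Lpr_bt (f495977 IH) (Lpn v1511))))
theorem f175410 : Led Lsl_bt (LP (LK LD1_c5 LD2_c0 LD3_c34)) = (LP (LK LD1_c2 LD2_c28 LD3_c2)) :=
  Lre_b IH (LK LD1_c5 LD2_c0 LD3_c34) (LK LD1_c2 LD2_c28 LD3_c2) Lrfl Lrfl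
theorem f495979 : Led Lsl_ef (LP (LK LD1_c5 LD2_c0 LD3_c34)) = v1511 :=
  Lgr Lrot29 (Lpr_bt (f175410 IH) (Lpe (K10.f175417 IH) (Lpr_bt (f495977 IH) (Lpn v1511))))
theorem f495982 : Led Lsl_et (LP (LK LD1_c5 LD2_c0 LD3_c34)) = v1511 :=
  Lgr Lrot87 (Lpr_ef (f495979 IH) (Lpn v1511))
theorem f542655 : Led Lsl_et (LP (LK LD1_c2 LD2_c16 LD3_c54)) = (LP (LK LD1_c4 LD2_c39 LD3_c48)) :=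
  Lre_e IH (LK LD1_c2 LD2_c16 LD3_c54) (LK LD1_c4 LD2_c39 LD3_c48) Lrfl Lrfl
theorem f542663 : Led Lsl_ff (LP (LK LD1_c5 LD2_c0 LD3_c34)) = (LP (LK LD1_c4 LD2_c39 LD3_c48)) :=
  Lgr Lrot72 (Lpr_et (f495982 IH) (Lpe (f495980 IH) (Lpe (f194017 IH) (Lpr_ft (f495324 IH) (Lpqs (f542648 IH) (Lpr_et (f542655 IH) (Lpn (LP (LK LD1_c4 LD2_c39 LD3_c48)))))))))
theorem f542674 : Led Lsl_ft (LP (LK LD1_c5 LD2_c0 LD3_c34)) = (LP (LK LD1_c4 LD2_c39 LD3_c48)) :=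
  Lgr Lrot48 (Lpr_ff (f542663 IH) (Lpn (LP (LK LD1_c4 LD2_c39 LD3_c48))))
theorem f175409 : Led Lsl_bt (LP (LK LD1_c1 LD2_c24 LD3_c41)) = (LP (LK LD1_c2 LD2_c57 LD3_c61)) :=
  Lre_b IH (LK LD1_c1 LD2_c24 LD3_c41) (LK LD1_c2 LD2_c57 LD3_c61) Lrfl Lrfl
theorem f175411 : Led Lsl_dt (LP (LK LD1_c2 LD2_c57 LD3_c61)) = (LP (LK LD1_c5 LD2_c0 LD3_c34)) :=
  Lgr Lrot79 (Lpe (f175409 IH) (Lpr_df (K9.f175393 IH) (Lpe (f175410 IH) (Lpn (LP (LK LD1_c5 LD2_c0 LD3_c34))))))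
theorem f175390 : Led Lsl_bt (LP (LK LD1_c2 LD2_c57 LD3_c61)) = (LP (LK LD1_c1 LD2_c24 LD3_c41)) :=
  Lre_b IH (LK LD1_c2 LD2_c57 LD3_c61) (LK LD1_c1 LD2_c24 LD3_c41) Lrfl Lrfl
theorem f176070 : Led Lsl_bt (LP (LK LD1_c2 LD2_c16 LD3_c39)) = (LP (LK LD1_c4 LD2_c39 LD3_c20)) :=
  Lre_b IH (LK LD1_c2 LD2_c16 LD3_c39) (LK LD1_c4 LD2_c39 LD3_c20) Lrfl Lrfl
theorem f268428 : Led Lsl_ff (LP (LK LD1_c2 LD2_c57 LD3_c61)) = (LP (LK LD1_c4 LD2_c39 LD3_c20)) :=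
  Lgr Lrot25 (Lpr_bt (f175390 IH) (Lpr_ft (K15.f268424 IH) (Lpr_bt (f176070 IH) (Lpn (LP (LK LD1_c4 LD2_c39 LD3_c20))))))
theorem f542680 : Led Lsl_df (LP (LK LD1_c4 LD2_c39 LD3_c20)) = (LP (LK LD1_c4 LD2_c39 LD3_c48)) :=
  Lgr Lrot78 (Lpe (f268428 IH) (Lpr_dt (f175411 IH) (Lpr_ft (f542674 IH) (Lpn (LP (LK LD1_c4 LD2_c39 LD3_c48))))))
theorem f412376 : Led Lsl_et (LP (LK LD1_c4 LD2_c39 LD3_c20)) = (LP (LK LD1_c9 LD2_c14 LD3_c20)) :=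
  Lre_e IH (LK LD1_c4 LD2_c39 LD3_c20) (LK LD1_c9 LD2_c14 LD3_c20) Lrfl Lrfl
theorem f56214 : Led Lsl_dt (LP (LK LD1_c4 LD2_c39 LD3_c47)) = (LP (LK LD1_c2 LD2_c16 LD3_c54)) :=
  Lre_d IH (LK LD1_c4 LD2_c39 LD3_c47) (LK LD1_c2 LD2_c16 LD3_c54) Lrfl Lrfl
theorem f542682 : Led Lsl_et (LP (LK LD1_c9 LD2_c15 LD3_c5)) = (LP (LK LD1_c4 LD2_c39 LD3_c47)) :=
  Lre_e IH (LK LD1_c9 LD2_c15 LD3_c5) (LK LD1_c4 LD2_c39 LD3_c47) Lrfl Lrfl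
theorem f542683 : Led Lsl_dt (LP (LK LD1_c9 LD2_c14 LD3_c20)) = (LP (LK LD1_c9 LD2_c15 LD3_c5)) :=
  Lgr Lrot77 (Lpe (f412376 IH) (Lpr_df (f542680 IH) (Lpe (f542655 IH) (Lpe (f56214 IH) (Lpe (f542682 IH) (Lpn (LP (LK LD1_c9 LD2_c15 LD3_c5))))))))
theorem f542712 : Led Lsl_df (LP (LK LD1_c9 LD2_c14 LD3_c20)) = (LP (LK LD1_c9 LD2_c15 LD3_c5)) :=
  Lgr Lrot38 (Lpr_dt (f542683 IH) (Lpn (LP (LK LD1_c9 LD2_c15 LD3_c5))))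
theorem f285344 : Led Lsl_bt (LP (LK LD1_c9 LD2_c14 LD3_c20)) = (LP (LK LD1_c4 LD2_c39 LD3_c22)) :=
  Lre_b IH (LK LD1_c9 LD2_c14 LD3_c20) (LK LD1_c4 LD2_c39 LD3_c22) Lrfl Lrfl
theorem f177749 : Led Lsl_et (LP (LK LD1_c5 LD2_c5 LD3_c54)) = (LP (LK LD1_c2 LD2_c30 LD3_c12)) :=
  Lre_e IH (LK LD1_c5 LD2_c5 LD3_c54) (LK LD1_c2 LD2_c30 LD3_c12) Lrfl Lrfl
theorem f177750 : Led Lsl_et (LP (LK LD1_c2 LD2_c16 LD3_c39)) = (LP (LK LD1_c4 LD2_c39 LD3_c22)) :=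
  Lre_e IH (LK LD1_c2 LD2_c16 LD3_c39) (LK LD1_c4 LD2_c39 LD3_c22) Lrfl Lrfl
theorem f177751 : Led Lsl_df (LP (LK LD1_c5 LD2_c5 LD3_c54)) = (LP (LK LD1_c4 LD2_c39 LD3_c22)) :=
  Lgr Lrot70 (Lpr_et (f177749 IH) (Lpr_dt (K11.f166187 IH) (Lpr_et (K11.f177748 IH) (Lpr_dt (K9.f177744 IH) (Lpr_et (f177750 IH) (Lpn (LP (LK LD1_c4 LD2_c39 LD3_c22))))))))
theorem f542722 : Led Lsl_bt (LP (LK LD1_c5 LD2_c5 LD3_c54)) = (LP (LK LD1_c9 LD2_c15 LD3_c5)) :=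
  Lgr Lrot95 (Lpr_df (f177751 IH) (Lpe (f285344 IH) (Lpr_df (f542712 IH) (Lpn (LP (LK LD1_c9 LD2_c15 LD3_c5))))))
theorem f166188 : Led Lsl_et (LP (LK LD1_c2 LD2_c30 LD3_c12)) = (LP (LK LD1_c5 LD2_c5 LD3_c54)) :=
  Lre_e IH (LK LD1_c2 LD2_c30 LD3_c12) (LK LD1_c5 LD2_c5 LD3_c54) Lrfl Lrfl
theorem f542729 : Led Lsl_bf (LP (LK LD1_c2 LD2_c30 LD3_c12)) = (LP (LK LD1_c4 LD2_c39 LD3_c47)) :=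
  Lgr Lrot96 (Lpr_et (f166188 IH) (Lpr_bt (f542722 IH) (Lpr_et (f542682 IH) (Lpn (LP (LK LD1_c4 LD2_c39 LD3_c47))))))
theorem f285106 : Led Lsl_ft (LP (LK LD1_c2 LD2_c30 LD3_c12)) = (LP (LK LD1_c2 LD2_c30 LD3_c43)) :=
  Lgr Lrot54 (Lpe (K11.f164753 IH) (Lpr_ff (f285104 IH) (Lpr_df (K12.f194024 IH) (Lpn (LP (LK LD1_c2 LD2_c30 LD3_c43))))))
theorem f194021 : Led Lsl_bt (LP (LK LD1_c2 LD2_c30 LD3_c43)) = (LP (LK LD1_c5 LD2_c6 LD3_c51)) :=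
  Lre_b IH (LK LD1_c2 LD2_c30 LD3_c43) (LK LD1_c5 LD2_c6 LD3_c51) Lrfl Lrfl
theorem f542744 : Led Lsl_ft (LP (LK LD1_c5 LD2_c6 LD3_c51)) = (LP (LK LD1_c4 LD2_c39 LD3_c47)) :=
  Lgr Lrot75 (Lpe (f194021 IH) (Lpe (f285106 IH) (Lpr_bf (f542729 IH) (Lpn (LP (LK LD1_c4 LD2_c39 LD3_c47))))))
theorem f542748 : Led Lsl_at (LP (LK LD1_c4 LD2_c39 LD3_c47)) = (LP (LK LD1_c9 LD2_c15 LD3_c2)) :=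
  Lre_a IH (LK LD1_c4 LD2_c39 LD3_c47) (LK LD1_c9 LD2_c15 LD3_c2) Lrfl Lrfl
theorem f542749 : Led Lsl_ft (LP (LK LD1_c9 LD2_c15 LD3_c2)) = (LP (LK LD1_c4 LD2_c39 LD3_c44)) :=
  Lre_f IH (LK LD1_c9 LD2_c15 LD3_c2) (LK LD1_c4 LD2_c39 LD3_c44) Lrfl Lrfl
theorem f542750 : Led Lsl_af (LP (LK LD1_c5 LD2_c6 LD3_c51)) = (LP (LK LD1_c4 LD2_c39 LD3_c44)) :=
  Lgr Lrot45 (Lpr_ft (f542744 IH) (Lpr_at (f542748 IH) (Lpr_ft (f542749 IH) (Lpn (LP (LK LD1_c4 LD2_c39 LD3_c44))))))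
theorem f194022 : Led Lsl_df (LP (LK LD1_c2 LD2_c33 LD3_c3)) = (LP (LK LD1_c5 LD2_c6 LD3_c51)) :=
  Lgr Lrot12 (Lpr_bt (f193996 IH) (Lpr_dt (K10.f194019 IH) (Lpr_bt (f194021 IH) (Lpn (LP (LK LD1_c5 LD2_c6 LD3_c51))))))
theorem f56209 : Led Lsl_dt (LP (LK LD1_c2 LD2_c16 LD3_c53)) = (LP (LK LD1_c4 LD2_c39 LD3_c44)) :=
  Lre_d IH (LK LD1_c2 LD2_c16 LD3_c53) (LK LD1_c4 LD2_c39 LD3_c44) Lrfl Lrfl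
theorem f542787 : Led Lsl_at (LP (LK LD1_c2 LD2_c33 LD3_c3)) = (LP (LK LD1_c2 LD2_c16 LD3_c53)) :=
  Lgr Lrot51 (Lpr_df (f194022 IH) (Lpr_af (f542750 IH) (Lpe (f56209 IH) (Lpn (LP (LK LD1_c2 LD2_c16 LD3_c53))))))
theorem f212068 : Led Lsl_ct (LP (LK LD1_c5 LD2_c12 LD3_c27)) = (LP (LK LD1_c2 LD2_c33 LD3_c3)) :=
  Lre_c IH (LK LD1_c5 LD2_c12 LD3_c27) (LK LD1_c2 LD2_c33 LD3_c3) Lrfl Lrfl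
theorem f8408 : Led Lsl_ct (LP (LK LD1_c2 LD2_c16 LD3_c53)) = (LP (LK LD1_c4 LD2_c39 LD3_c43)) :=
  Lre_c IH (LK LD1_c2 LD2_c16 LD3_c53) (LK LD1_c4 LD2_c39 LD3_c43) Lrfl Lrfl
theorem f542797 : Led Lsl_af (LP (LK LD1_c5 LD2_c12 LD3_c27)) = (LP (LK LD1_c4 LD2_c39 LD3_c43)) :=
  Lgr Lrot68 (Lpr_ct (f212068 IH) (Lpr_at (f542787 IH) (Lpr_ct (f8408 IH) (Lpn (LP (LK LD1_c4 LD2_c39 LD3_c43))))))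
theorem f542806 : Led Lsl_ft (LP (LK LD1_c9 LD2_c14 LD3_c61)) = (LP (LK LD1_c4 LD2_c39 LD3_c43)) :=
  Lre_f IH (LK LD1_c9 LD2_c14 LD3_c61) (LK LD1_c4 LD2_c39 LD3_c43) Lrfl Lrfl
theorem f542807 : Led Lsl_at (LP (LK LD1_c4 LD2_c39 LD3_c46)) = (LP (LK LD1_c9 LD2_c14 LD3_c61)) :=
  Lre_a IH (LK LD1_c4 LD2_c39 LD3_c46) (LK LD1_c9 LD2_c14 LD3_c61) Lrfl Lrfl
theorem f542808 : Led Lsl_ft (LP (LK LD1_c5 LD2_c12 LD3_c27)) = (LP (LK LD1_c4 LD2_c39 LD3_c46)) :=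
  Lgr Lrot101 (Lpr_af (f542797 IH) (Lpe (f542806 IH) (Lpe (f542807 IH) (Lpn (LP (LK LD1_c4 LD2_c39 LD3_c46))))))
theorem f212065 : Led Lsl_dt (LP (LK LD1_c10 LD2_c15 LD3_c23)) = (LP (LK LD1_c5 LD2_c12 LD3_c27)) :=
  Lre_d IH (LK LD1_c10 LD2_c15 LD3_c23) (LK LD1_c5 LD2_c12 LD3_c27) Lrfl Lrfl
theorem f56249 : Led Lsl_dt (LP (LK LD1_c4 LD2_c39 LD3_c46)) = (LP (LK LD1_c9 LD2_c15 LD3_c3)) :=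
  Lre_d IH (LK LD1_c4 LD2_c39 LD3_c46) (LK LD1_c9 LD2_c15 LD3_c3) Lrfl Lrfl
theorem f542812 : Led Lsl_ff (LP (LK LD1_c10 LD2_c15 LD3_c23)) = (LP (LK LD1_c9 LD2_c15 LD3_c3)) :=
  Lgr Lrot19 (Lpr_dt (f212065 IH) (Lpr_ft (f542808 IH) (Lpr_dt (f56249 IH) (Lpn (LP (LK LD1_c9 LD2_c15 LD3_c3))))))
theorem f542821 : Led Lsl_ft (LP (LK LD1_c10 LD2_c15 LD3_c23)) = (LP (LK LD1_c9 LD2_c15 LD3_c3)) :=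
  Lgr Lrot48 (Lpr_ff (f542812 IH) (Lpn (LP (LK LD1_c9 LD2_c15 LD3_c3))))
theorem f193983 : Led Lsl_bt (LP (LK LD1_c1 LD2_c13 LD3_c29)) = (LP (LK LD1_c2 LD2_c33 LD3_c3)) :=
  Lre_b IH (LK LD1_c1 LD2_c13 LD3_c29) (LK LD1_c2 LD2_c33 LD3_c3) Lrfl Lrfl
theorem f193997 : Led Lsl_ct (LP (LK LD1_c2 LD2_c33 LD3_c3)) = (LP (LK LD1_c5 LD2_c12 LD3_c27)) :=
  Lre_c IH (LK LD1_c2 LD2_c33 LD3_c3) (LK LD1_c5 LD2_c12 LD3_c27) Lrfl Lrfl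
theorem f212013 : Led Lsl_bf (LP (LK LD1_c2 LD2_c33 LD3_c16)) = (LP (LK LD1_c5 LD2_c12 LD3_c27)) :=
  Lgr Lrot90 (Lpr_ct (K16.f212012 IH) (Lpr_bt (K12.f212008 IH) (Lpr_ct (K12.f186506 IH) (Lpr_bt (f193983 IH) (Lpr_ct (f193997 IH) (Lpn (LP (LK LD1_c5 LD2_c12 LD3_c27))))))))
theorem f212066 : Led Lsl_bt (LP (LK LD1_c5 LD2_c12 LD3_c52)) = (LP (LK LD1_c10 LD2_c15 LD3_c23)) :=
  Lgr Lrot95 (Lpe (K13.f192637 IH) (Lpr_bf (f212013 IH) (Lpe (f212065 IH) (Lpn (LP (LK LD1_c10 LD2_c15 LD3_c23))))))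
theorem f542827 : Led Lsl_bf (LP (LK LD1_c5 LD2_c5 LD3_c4)) = (LP (LK LD1_c9 LD2_c15 LD3_c3)) :=
  Lgr Lrot61 (Lpe (K16.f273059 IH) (Lpr_bt (f212066 IH) (Lpr_ft (f542821 IH) (Lpn (LP (LK LD1_c9 LD2_c15 LD3_c3))))))
theorem f205089 : Led Lsl_et (LP (LK LD1_c5 LD2_c5 LD3_c4)) = (LP (LK LD1_c10 LD2_c1 LD3_c16)) :=
  Lre_e IH (LK LD1_c5 LD2_c5 LD3_c4) (LK LD1_c10 LD2_c1 LD3_c16) Lrfl Lrfl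
theorem f542820 : Led Lsl_et (LP (LK LD1_c17 LD2_c9 LD3_c30)) = (LP (LK LD1_c9 LD2_c15 LD3_c3)) :=
  Lre_e IH (LK LD1_c17 LD2_c9 LD3_c30) (LK LD1_c9 LD2_c15 LD3_c3) Lrfl Lrfl
theorem f542871 : Led Lsl_bt (LP (LK LD1_c10 LD2_c1 LD3_c16)) = (LP (LK LD1_c17 LD2_c9 LD3_c30)) :=
  Lgr Lrot119 (Lpe (f205089 IH) (Lpr_bf (f542827 IH) (Lpe (f542820 IH) (Lpn (LP (LK LD1_c17 LD2_c9 LD3_c30))))))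
theorem f205071 : Led Lsl_et (LP (LK LD1_c10 LD2_c1 LD3_c16)) = (LP (LK LD1_c5 LD2_c5 LD3_c4)) :=
  Lre_e IH (LK LD1_c10 LD2_c1 LD3_c16) (LK LD1_c5 LD2_c5 LD3_c4) Lrfl Lrfl
theorem f198467 : Led Lsl_et (LP (LK LD1_c6 LD2_c13 LD3_c38)) = (LP (LK LD1_c12 LD2_c6 LD3_c2)) :=
  Lre_e IH (LK LD1_c6 LD2_c13 LD3_c38) (LK LD1_c12 LD2_c6 LD3_c2) Lrfl Lrfl
theorem f205072 : Led Lsl_df (LP (LK LD1_c10 LD2_c1 LD3_c16)) = (LP (LK LD1_c12 LD2_c6 LD3_c2)) :=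
  Lgr Lrot70 (Lpr_et (f205071 IH) (Lpr_dt (K13.f205070 IH) (Lpr_et (K31.f204909 IH) (Lpe (K13.f198464 IH) (Lpr_et (f198467 IH) (Lpn (LP (LK LD1_c12 LD2_c6 LD3_c2))))))))
theorem f157175 : Led Lsl_et (LP (LK LD1_c4 LD2_c39 LD3_c48)) = (LP (LK LD1_c2 LD2_c16 LD3_c54)) :=
  Lre_e IH (LK LD1_c4 LD2_c39 LD3_c48) (LK LD1_c2 LD2_c16 LD3_c54) Lrfl Lrfl
theorem f22420 : Led Lsl_gt (LP (LK LD1_c2 LD2_c16 LD3_c54)) = (LP (LK LD1_c1 LD2_c5 LD3_c23)) :=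
  Lre_g IH (LK LD1_c2 LD2_c16 LD3_c54) (LK LD1_c1 LD2_c5 LD3_c23) Lrfl Lrfl
theorem f26715 : Led Lsl_bt (LP (LK LD1_c2 LD2_c14 LD3_c45)) = (LP (LK LD1_c1 LD2_c4 LD3_c30)) :=
  Lre_b IH (LK LD1_c2 LD2_c14 LD3_c45) (LK LD1_c1 LD2_c4 LD3_c30) Lrfl Lrfl
theorem f210969 : Led Lsl_ct (LP (LK LD1_c4 LD2_c25 LD3_c3)) = (LP (LK LD1_c2 LD2_c14 LD3_c45)) :=
  Lgr Lrot83 (Lpe (f36459 IH) (Lpe (K12.f35473 IH) (Lpr_bf (K12.f210967 IH) (Lpe (K11.f26627 IH) (Lpe (f26715 IH) (Lpn (LP (LK LD1_c2 LD2_c14 LD3_c45))))))))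
theorem f210975 : Led Lsl_cf (LP (LK LD1_c4 LD2_c25 LD3_c3)) = (LP (LK LD1_c2 LD2_c14 LD3_c45)) :=
  Lgr Lrot11 (Lpr_ct (f210969 IH) (Lpn (LP (LK LD1_c2 LD2_c14 LD3_c45))))
theorem f449858 : Led Lsl_ff (LP (LK LD1_c2 LD2_c14 LD3_c45)) = (LP (LK LD1_c1 LD2_c22 LD3_c35)) :=
  Lgr Lrot23 (Lpe (f210975 IH) (Lpr_ft (f449799 IH) (Lpr_ct (K35.f24482 IH) (Lpn (LP (LK LD1_c1 LD2_c22 LD3_c35))))))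
theorem f537983 : Led Lsl_dt (LP (LK LD1_c4 LD2_c37 LD3_c36)) = (LP (LK LD1_c2 LD2_c15 LD3_c60)) :=
  Lre_d IH (LK LD1_c4 LD2_c37 LD3_c36) (LK LD1_c2 LD2_c15 LD3_c60) Lrfl Lrfl
theorem f20397 : Led Lsl_bt (LP (LK LD1_c4 LD2_c34 LD3_c58)) = (LP (LK LD1_c2 LD2_c14 LD3_c34)) :=
  Lre_b IH (LK LD1_c4 LD2_c34 LD3_c58) (LK LD1_c2 LD2_c14 LD3_c34) Lrfl Lrfl
theorem f119048 : Led Lsl_gt (LP (LK LD1_c4 LD2_c37 LD3_c28)) = (LP (LK LD1_c2 LD2_c15 LD3_c57)) :=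
  Lre_g IH (LK LD1_c4 LD2_c37 LD3_c28) (LK LD1_c2 LD2_c15 LD3_c57) Lrfl Lrfl
theorem f541459 : Led Lsl_ct (LP (LK LD1_c4 LD2_c34 LD3_c58)) = (LP (LK LD1_c4 LD2_c37 LD3_c28)) :=
  Lgr Lrot64 (Lpr_bt (f20397 IH) (Lpq (K35.f541444 IH) (Lpe (K35.f501208 IH) (Lpe (K35.f22429 IH) (Lpr_ct (K9.f9422 IH) (Lpe (K9.f9386 IH) (Lpe (K0.f9352 IH) (Lpe (K9.f9392 IH) (Lpr_bf (K35.f452905 IH) (Lpqs (K35.f537830 IH) (Lpr_ct (K35.f494478 IH) (Lpe (f119048 IH) (Lpn (LP (LK LD1_c4 LD2_c37 LD3_c28)))))))))))))))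
theorem f538598 : Led Lsl_gf (LP (LK LD1_c4 LD2_c37 LD3_c28)) = (LP (LK LD1_c8 LD2_c46 LD3_c40)) :=
  Lgr Lrot47 (Lpr_gt (f119048 IH) (Lpe (K35.f537994 IH) (Lpr_ff (K35.f538588 IH) (Lpn (LP (LK LD1_c8 LD2_c46 LD3_c40))))))
theorem f20313 : Led Lsl_bt (LP (LK LD1_c0 LD2_c29 LD3_c29)) = (LP (LK LD1_c1 LD2_c4 LD3_c24)) :=
  Lre_b IH (LK LD1_c0 LD2_c29 LD3_c29) (LK LD1_c1 LD2_c4 LD3_c24) Lrfl Lrfl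
theorem f26711 : Led Lsl_bt (LP (LK LD1_c1 LD2_c4 LD3_c30)) = (LP (LK LD1_c2 LD2_c14 LD3_c45)) :=
  Lre_b IH (LK LD1_c1 LD2_c4 LD3_c30) (LK LD1_c2 LD2_c14 LD3_c45) Lrfl Lrfl
theorem f26717 : Led Lsl_gt (LP (LK LD1_c2 LD2_c14 LD3_c45)) = (LP (LK LD1_c4 LD2_c35 LD3_c11)) :=
  Lre_g IH (LK LD1_c2 LD2_c14 LD3_c45) (LK LD1_c4 LD2_c35 LD3_c11) Lrfl Lrfl
theorem f541461 : Led Lsl_cf (LP (LK LD1_c8 LD2_c46 LD3_c40)) = (LP (LK LD1_c4 LD2_c35 LD3_c11)) :=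
  Lgr Lrot125 (Lpe (f538598 IH) (Lpe (f541459 IH) (Lpr_bt (f20397 IH) (Lpr_gt (K35.f20392 IH) (Lpe (f20313 IH) (Lpr_ct (K12.f20310 IH) (Lpr_gt (K9.f20321 IH) (Lpe (K11.f26627 IH) (Lpr_bt (f26711 IH) (Lpr_gt (f26717 IH) (Lpn (LP (LK LD1_c4 LD2_c35 LD3_c11)))))))))))))
theorem f20311 : Led Lsl_bt (LP (LK LD1_c1 LD2_c4 LD3_c24)) = (LP (LK LD1_c0 LD2_c29 LD3_c29)) :=
  Lre_b IH (LK LD1_c1 LD2_c4 LD3_c24) (LK LD1_c0 LD2_c29 LD3_c29) Lrfl Lrfl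
theorem f20314 : Led Lsl_cf (LP (LK LD1_c1 LD2_c4 LD3_c24)) = (LP (LK LD1_c1 LD2_c4 LD3_c24)) :=
  Lgr Lrot97 (Lpr_bt (f20311 IH) (Lpr_ct (K12.f20310 IH) (Lpr_bt (K7.f20304 IH) (Lpr_ct (K12.f20312 IH) (Lpr_bt (f20313 IH) (Lpn (LP (LK LD1_c1 LD2_c4 LD3_c24))))))))
def v1259 : LQ := Led Lsl_gt (LP (LK LD1_c1 LD2_c4 LD3_c24))
theorem f494354 : Led Lsl_gt (LP (LK LD1_c1 LD2_c4 LD3_c24)) = v1259 :=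
  Lrfl
theorem f20387 : Led Lsl_et (LP (LK LD1_c0 LD2_c29 LD3_c27)) = (LP (LK LD1_c1 LD2_c4 LD3_c24)) :=
  Lre_e IH (LK LD1_c0 LD2_c29 LD3_c27) (LK LD1_c1 LD2_c4 LD3_c24) Lrfl Lrfl
def v1244 : LQ := Led Lsl_et (LP (LK LD1_c1 LD2_c4 LD3_c9))
theorem f494270 : Led Lsl_et (LP (LK LD1_c1 LD2_c4 LD3_c9)) = v1244 :=
  Lrfl
theorem f494273 : Led Lsl_ef (LP (LK LD1_c1 LD2_c4 LD3_c9)) = v1244 :=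
  Lgr Lrot88 (Lpr_et (f494270 IH) (Lpn v1244))
theorem f92056 : Led Lsl_at (LP (LK LD1_c1 LD2_c4 LD3_c9)) = (LP (LK LD1_c0 LD2_c29 LD3_c18)) :=
  Lre_a IH (LK LD1_c1 LD2_c4 LD3_c9) (LK LD1_c0 LD2_c29 LD3_c18) Lrfl Lrfl
def v336 : LQ := Led Lsl_et (LP (LK LD1_c0 LD2_c29 LD3_c18))
theorem f452227 : Led Lsl_et (LP (LK LD1_c0 LD2_c29 LD3_c18)) = v336 :=
  Lrfl
theorem f494274 : Led Lsl_at v336 = v1244 :=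
  Lgr Lrot80 (Lpe (f452227 IH) (Lpe (f92056 IH) (Lpr_ef (f494273 IH) (Lpn v1244))))
theorem f146292 : Led Lsl_af (LP (LK LD1_c0 LD2_c7 LD3_c31)) = (LP (LK LD1_c0 LD2_c12 LD3_c56)) :=
  Lgr Lrot68 (Lpr_ct (K0.f20274 IH) (Lpr_at (K6.f146288 IH) (Lpr_ct (K0.f20195 IH) (Lpn (LP (LK LD1_c0 LD2_c12 LD3_c56))))))
theorem f448937 : Led Lsl_bf (LP (LK LD1_c1 LD2_c4 LD3_c9)) = K11.v114 :=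
  Lgr Lrot81 (Lpr_at (f92056 IH) (Lpr_bt (K6.f20238 IH) (Lpe (f146292 IH) (Lpr_bt (K11.f16657 IH) (Lpr_at (K11.f448935 IH) (Lpn K11.v114))))))
theorem f452229 : Led Lsl_ef (LP (LK LD1_c0 LD2_c29 LD3_c18)) = v336 :=
  Lgr Lrot88 (Lpr_et (f452227 IH) (Lpn v336))
theorem f452230 : Led Lsl_bt (LP (LK LD1_c0 LD2_c29 LD3_c20)) = v336 :=
  Lgr Lrot119 (Lpe (K24.f58955 IH) (Lpe (K6.f20238 IH) (Lpr_ef (f452229 IH) (Lpn v336))))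
def v934 : LQ := Led Lsl_at K35.v111
theorem f490625 : Led Lsl_at K35.v111 = v934 :=
  Lrfl
theorem f448920 : Led Lsl_ct (LP (LK LD1_c0 LD2_c16 LD3_c52)) = K35.v111 :=
  Lgr Lrot59 (Lpr_cf (K35.f448919 IH) (Lpn K35.v111))
theorem f490628 : Led Lsl_cf K11.v114 = v934 :=
  Lgr Lrot1 (Lpe (K11.f448936 IH) (Lpr_ct (f448920 IH) (Lpr_at (f490625 IH) (Lpn v934))))
theorem f536884 : v934 = (LP (LK LD1_c0 LD2_c12 LD3_c57)) :=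
  Lefun (Lecon (f490625 IH) (K35.f536756 IH)) (K9.f146296 IH)
theorem f537095 : K11.v114 = (LP (LK LD1_c0 LD2_c29 LD3_c20)) :=
  Lefun (Lecon (Lfl_cf (f490628 IH)) (f536884 IH)) (K11.f146348 IH)
theorem f537240 : (LP (LK LD1_c1 LD2_c4 LD3_c9)) = v336 :=
  Lefun (Lecon (Lfl_bf (f448937 IH)) (f537095 IH)) (f452230 IH)
theorem f537587 : v1244 = (LP (LK LD1_c0 LD2_c29 LD3_c18)) :=
  Lefun (Lecon (f494274 IH) (f537240 IH).symm) (f92056 IH)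
theorem f539953 : (LP (LK LD1_c2 LD2_c14 LD3_c29)) = v1259 :=
  (Llr Lrot122 (Lpe (K2.f72388 IH) (Lpe (K5.f130550 IH) (Lpr_gt (K5.f61821 IH) (Lpe (K6.f92048 IH) (Lpq (f537587 IH) (Lpe (f494273 IH) (Lpr_gt (K6.f135897 IH) (Lpr_dt (K5.f100339 IH) (Lpr_gt (K6.f100335 IH) (Lpe (K7.f20402 IH) (Lpr_et (f20387 IH) (Lpr_gt (f494354 IH) (Lpn v1259)))))))))))))).symm
theorem f72381 : Led Lsl_bt (LP (LK LD1_c2 LD2_c53 LD3_c3)) = (LP (LK LD1_c1 LD2_c22 LD3_c40)) :=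
  Lre_b IH (LK LD1_c2 LD2_c53 LD3_c3) (LK LD1_c1 LD2_c22 LD3_c40) Lrfl Lrfl
theorem f541463 : Led Lsl_bt (LP (LK LD1_c4 LD2_c35 LD3_c11)) = (LP (LK LD1_c2 LD2_c53 LD3_c9)) :=
  Lgr Lrot92 (Lpe (f541461 IH) (Lpe (f538598 IH) (Lpe (f541459 IH) (Lpr_bt (f20397 IH) (Lpr_gt (K35.f20392 IH) (Lpe (f20314 IH) (Lpr_gt (f494354 IH) (Lpq (f539953 IH) (Lpr_cf (K2.f72281 IH) (Lpr_bt (f72381 IH) (Lpr_gt (f72382 IH) (Lpn (LP (LK LD1_c2 LD2_c53 LD3_c9))))))))))))))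
theorem f438068 : Led Lsl_et (LP (LK LD1_c2 LD2_c15 LD3_c52)) = (LP (LK LD1_c1 LD2_c4 LD3_c55)) :=
  Lre_e IH (LK LD1_c2 LD2_c15 LD3_c52) (LK LD1_c1 LD2_c4 LD3_c55) Lrfl Lrfl
theorem f538213 : Led Lsl_bf (LP (LK LD1_c2 LD2_c15 LD3_c52)) = (LP (LK LD1_c4 LD2_c35 LD3_c58)) :=
  Lgr Lrot96 (Lpr_et (f438068 IH) (Lpr_bt (K7.f142133 IH) (Lpr_et (K35.f538211 IH) (Lpn (LP (LK LD1_c4 LD2_c35 LD3_c58))))))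
theorem f541473 : Led Lsl_ff (LP (LK LD1_c4 LD2_c35 LD3_c11)) = (LP (LK LD1_c2 LD2_c15 LD3_c52)) :=
  Lgr Lrot25 (Lpr_bt (f541463 IH) (Lpqs (f539982 IH) (Lpe (K35.f538291 IH) (Lpe (f538213 IH) (Lpn (LP (LK LD1_c2 LD2_c15 LD3_c52)))))))
theorem f541481 : Led Lsl_ft (LP (LK LD1_c4 LD2_c35 LD3_c11)) = (LP (LK LD1_c2 LD2_c15 LD3_c52)) :=
  Lgr Lrot48 (Lpr_ff (f541473 IH) (Lpn (LP (LK LD1_c2 LD2_c15 LD3_c52))))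
def v1624 : LQ := Led Lsl_at (LP (LK LD1_c1 LD2_c22 LD3_c35))
theorem f500407 : Led Lsl_at (LP (LK LD1_c1 LD2_c22 LD3_c35)) = v1624 :=
  Lrfl
theorem f449258 : Led Lsl_ft (LP (LK LD1_c2 LD2_c14 LD3_c45)) = (LP (LK LD1_c1 LD2_c22 LD3_c35)) :=
  Lgr Lrot75 (Lpe (f26711 IH) (Lpr_ff (f449256 IH) (Lpe (K35.f24481 IH) (Lpn (LP (LK LD1_c1 LD2_c22 LD3_c35))))))
theorem f500409 : Led Lsl_gt (LP (LK LD1_c4 LD2_c35 LD3_c11)) = v1624 :=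
  Lgr Lrot46 (Lpe (f26717 IH) (Lpr_ft (f449258 IH) (Lpr_at (f500407 IH) (Lpn v1624))))
theorem f494474 : Led Lsl_at (LP (LK LD1_c2 LD2_c15 LD3_c52)) = (LP (LK LD1_c1 LD2_c4 LD3_c59)) :=
  Lre_a IH (LK LD1_c2 LD2_c15 LD3_c52) (LK LD1_c1 LD2_c4 LD3_c59) Lrfl Lrfl
theorem f99671 : Led Lsl_gt (LP (LK LD1_c2 LD2_c15 LD3_c60)) = (LP (LK LD1_c1 LD2_c4 LD3_c59)) :=
  Lre_g IH (LK LD1_c2 LD2_c15 LD3_c60) (LK LD1_c1 LD2_c4 LD3_c59) Lrfl Lrfl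
theorem f541487 : v1624 = (LP (LK LD1_c2 LD2_c15 LD3_c60)) :=
  (Llr Lrot5 (Lpe (f500409 IH) (Lpr_ft (f541481 IH) (Lpr_at (f494474 IH) (Lpe (f99671 IH) (Lpn (LP (LK LD1_c2 LD2_c15 LD3_c60)))))))).symm
theorem f500408 : Led Lsl_af (LP (LK LD1_c1 LD2_c22 LD3_c35)) = v1624 :=
  Lgr Lrot0 (Lpr_at (f500407 IH) (Lpn v1624))
theorem f449869 : Led Lsl_dt (LP (LK LD1_c1 LD2_c22 LD3_c35)) = (LP (LK LD1_c2 LD2_c52 LD3_c61)) :=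
  Lre_d IH (LK LD1_c1 LD2_c22 LD3_c35) (LK LD1_c2 LD2_c52 LD3_c61) Lrfl Lrfl
theorem f541491 : Led Lsl_af (LP (LK LD1_c4 LD2_c37 LD3_c36)) = (LP (LK LD1_c2 LD2_c52 LD3_c61)) :=
  Lgr Lrot117 (Lpr_dt (f537983 IH) (Lpq (f541487 IH) (Lpe (f500408 IH) (Lpr_dt (f449869 IH) (Lpn (LP (LK LD1_c2 LD2_c52 LD3_c61)))))))
theorem f541496 : Led Lsl_at (LP (LK LD1_c4 LD2_c37 LD3_c36)) = (LP (LK LD1_c2 LD2_c52 LD3_c61)) :=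
  Lgr Lrot100 (Lpr_af (f541491 IH) (Lpn (LP (LK LD1_c2 LD2_c52 LD3_c61))))
theorem f186497 : Led Lsl_bt (LP (LK LD1_c2 LD2_c52 LD3_c61)) = (LP (LK LD1_c1 LD2_c22 LD3_c36)) :=
  Lre_b IH (LK LD1_c2 LD2_c52 LD3_c61) (LK LD1_c1 LD2_c22 LD3_c36) Lrfl Lrfl
theorem f449284 : Led Lsl_af (LP (LK LD1_c2 LD2_c14 LD3_c48)) = (LP (LK LD1_c1 LD2_c22 LD3_c36)) :=
  Lgr Lrot0 (Lpr_at (f449282 IH) (Lpn (LP (LK LD1_c1 LD2_c22 LD3_c36))))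
theorem f449291 : Led Lsl_bt (LP (LK LD1_c2 LD2_c14 LD3_c48)) = (LP (LK LD1_c4 LD2_c35 LD3_c13)) :=
  Lre_b IH (LK LD1_c2 LD2_c14 LD3_c48) (LK LD1_c4 LD2_c35 LD3_c13) Lrfl Lrfl
theorem f20399 : Led Lsl_bt (LP (LK LD1_c2 LD2_c14 LD3_c39)) = (LP (LK LD1_c1 LD2_c4 LD3_c26)) :=
  Lre_b IH (LK LD1_c2 LD2_c14 LD3_c39) (LK LD1_c1 LD2_c4 LD3_c26) Lrfl Lrfl
theorem f211068 : Led Lsl_cf (LP (LK LD1_c2 LD2_c14 LD3_c39)) = (LP (LK LD1_c1 LD2_c22 LD3_c32)) :=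
  Lgr Lrot97 (Lpr_bt (f20399 IH) (Lpr_ct (K12.f211063 IH) (Lpe (K11.f198483 IH) (Lpr_ct (K11.f24257 IH) (Lpr_bt (f24261 IH) (Lpn (LP (LK LD1_c1 LD2_c22 LD3_c32))))))))
theorem f449305 : Led Lsl_ff (LP (LK LD1_c1 LD2_c22 LD3_c27)) = (LP (LK LD1_c2 LD2_c14 LD3_c39)) :=
  Lgr Lrot23 (Lpr_ct (f211761 IH) (Lpr_ft (f449303 IH) (Lpe (f211068 IH) (Lpn (LP (LK LD1_c2 LD2_c14 LD3_c39))))))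
def v1613 : LQ := Led Lsl_at (LP (LK LD1_c1 LD2_c22 LD3_c27))
theorem f500365 : Led Lsl_at (LP (LK LD1_c1 LD2_c22 LD3_c27)) = v1613 :=
  Lrfl
theorem f157812 : Led Lsl_et (LP (LK LD1_c1 LD2_c20 LD3_c56)) = (LP (LK LD1_c2 LD2_c49 LD3_c36)) :=
  Lre_e IH (LK LD1_c1 LD2_c20 LD3_c56) (LK LD1_c2 LD2_c49 LD3_c36) Lrfl Lrfl
theorem f100455 : Led Lsl_et (LP (LK LD1_c1 LD2_c27 LD3_c38)) = (LP (LK LD1_c3 LD2_c3 LD3_c27)) :=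
  Lre_e IH (LK LD1_c1 LD2_c27 LD3_c38) (LK LD1_c3 LD2_c3 LD3_c27) Lrfl Lrfl
def v1819 : LQ := Led Lsl_et (LP (LK LD1_c1 LD2_c28 LD3_c24))
theorem f503104 : Led Lsl_et (LP (LK LD1_c1 LD2_c28 LD3_c24)) = v1819 :=
  Lrfl
theorem f73286 : Led Lsl_et (LP (LK LD1_c2 LD2_c49 LD3_c36)) = (LP (LK LD1_c1 LD2_c20 LD3_c56)) :=
  Lre_e IH (LK LD1_c2 LD2_c49 LD3_c36) (LK LD1_c1 LD2_c20 LD3_c56) Lrfl Lrfl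
theorem f503105 : Led Lsl_af (LP (LK LD1_c2 LD2_c49 LD3_c36)) = v1819 :=
  Lgr Lrot50 (Lpr_et (f73286 IH) (Lpr_at (K32.f496028 IH) (Lpqs (K32.f497189 IH) (Lpr_et (f503104 IH) (Lpn v1819)))))
theorem f176948 : Led Lsl_et (LP (LK LD1_c2 LD2_c30 LD3_c36)) = (LP (LK LD1_c2 LD2_c46 LD3_c41)) :=
  Lgr Lrot74 (Lpe (K18.f166159 IH) (Lpr_ef (K11.f176944 IH) (Lpe (K18.f176927 IH) (Lpn (LP (LK LD1_c2 LD2_c46 LD3_c41))))))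
def v1481 : LQ := Led Lsl_gf (LP (LK LD1_c1 LD2_c19 LD3_c42))
theorem f495791 : Led Lsl_gf (LP (LK LD1_c1 LD2_c19 LD3_c42)) = v1481 :=
  Lrfl
theorem f536993 : (LP (LK LD1_c1 LD2_c31 LD3_c27)) = v1481 :=
  Lefun (Lecon (Lfl_gt (f452559 IH)) ((f536818 IH).symm.trans (f536719 IH).symm)) (f495791 IH)
theorem f75563 : Led Lsl_dt (LP (LK LD1_c5 LD2_c43 LD3_c47)) = (LP (LK LD1_c2 LD2_c47 LD3_c55)) :=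
  Lre_d IH (LK LD1_c5 LD2_c43 LD3_c47) (LK LD1_c2 LD2_c47 LD3_c55) Lrfl Lrfl
theorem f381924 : Led Lsl_bf (LP (LK LD1_c2 LD2_c47 LD3_c49)) = (LP (LK LD1_c2 LD2_c47 LD3_c55)) :=
  Lgr Lrot93 (Lpr_dt (f381697 IH) (Lpr_bt (f381916 IH) (Lpr_dt (f75563 IH) (Lpn (LP (LK LD1_c2 LD2_c47 LD3_c55))))))
theorem f75564 : Led Lsl_ct (LP (LK LD1_c2 LD2_c47 LD3_c55)) = (LP (LK LD1_c1 LD2_c20 LD3_c15)) :=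
  Lre_c IH (LK LD1_c2 LD2_c47 LD3_c55) (LK LD1_c1 LD2_c20 LD3_c15) Lrfl Lrfl
def v1501 : LQ := Led Lsl_gt (LP (LK LD1_c1 LD2_c20 LD3_c15))
theorem f495897 : Led Lsl_gt (LP (LK LD1_c1 LD2_c20 LD3_c15)) = v1501 :=
  Lrfl
theorem f539670 : (LP (LK LD1_c2 LD2_c46 LD3_c41)) = v1501 :=
  (Llr Lrot10 (Lpe (K18.f205102 IH) (Lpr_bt (f176654 IH) (Lpqs (f536993 IH) (Lpe (f495791 IH) (Lpqs (f536719 IH) (Lpqs (f536818 IH) (Lpe (f452554 IH) (Lpe (f380682 IH) (Lpe (K13.f185817 IH) (Lpr_bt (K35.f185809 IH) (Lpr_gt (f539662 IH) (Lpr_bf (f381924 IH) (Lpr_ct (f75564 IH) (Lpr_gt (f495897 IH) (Lpn v1501)))))))))))))))).symm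
theorem f381206 : Led Lsl_et (LP (LK LD1_c0 LD2_c37 LD3_c4)) = (LP (LK LD1_c1 LD2_c20 LD3_c15)) :=
  Lre_e IH (LK LD1_c0 LD2_c37 LD3_c4) (LK LD1_c1 LD2_c20 LD3_c15) Lrfl Lrfl
theorem f381199 : Led Lsl_gt (LP (LK LD1_c2 LD2_c47 LD3_c45)) = (LP (LK LD1_c1 LD2_c20 LD3_c14)) :=
  Lre_g IH (LK LD1_c2 LD2_c47 LD3_c45) (LK LD1_c1 LD2_c20 LD3_c14) Lrfl Lrfl
theorem f55981 : Led Lsl_dt (LP (LK LD1_c1 LD2_c25 LD3_c50)) = (LP (LK LD1_c3 LD2_c0 LD3_c7)) :=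
  Lre_d IH (LK LD1_c1 LD2_c25 LD3_c50) (LK LD1_c3 LD2_c0 LD3_c7) Lrfl Lrfl
theorem f539672 : Led Lsl_gt (LP (LK LD1_c5 LD2_c6 LD3_c39)) = (LP (LK LD1_c3 LD2_c0 LD3_c7)) :=
  Lgr Lrot112 (Lpe (K18.f176977 IH) (Lpr_et (f176948 IH) (Lpqs (f539670 IH) (Lpe (f495897 IH) (Lpe (f381206 IH) (Lpr_dt (K27.f381205 IH) (Lpe (f381199 IH) (Lpr_df (K27.f381197 IH) (Lpe (f427663 IH) (Lpe (f427511 IH) (Lpr_dt (f55981 IH) (Lpn (LP (LK LD1_c3 LD2_c0 LD3_c7))))))))))))))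
def v1776 : LQ := Led Lsl_gf (LP (LK LD1_c1 LD2_c26 LD3_c7))
theorem f502815 : Led Lsl_gf (LP (LK LD1_c1 LD2_c26 LD3_c7)) = v1776 :=
  Lrfl
theorem f75044 : Led Lsl_et (LP (LK LD1_c0 LD2_c39 LD3_c45)) = (LP (LK LD1_c1 LD2_c26 LD3_c7)) :=
  Lre_e IH (LK LD1_c0 LD2_c39 LD3_c45) (LK LD1_c1 LD2_c26 LD3_c7) Lrfl Lrfl
theorem f75551 : Led Lsl_et (LP (LK LD1_c0 LD2_c7 LD3_c39)) = (LP (LK LD1_c0 LD2_c16 LD3_c32)) :=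
  Lre_e IH (LK LD1_c0 LD2_c7 LD3_c39) (LK LD1_c0 LD2_c16 LD3_c32) Lrfl Lrfl
theorem f502817 : Led Lsl_et (LP (LK LD1_c2 LD2_c44 LD3_c37)) = v1776 :=
  Lgr Lrot185 (Lpe (K27.f381197 IH) (Lpe (K27.f76149 IH) (Lpe (K27.f76148 IH) (Lpe (K27.f76147 IH) (Lpe (f75551 IH) (Lpr_dt (K7.f26544 IH) (Lpe (K6.f56766 IH) (Lpe (K11.f75042 IH) (Lpr_et (f75044 IH) (Lpr_gf (f502815 IH) (Lpn v1776)))))))))))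
theorem f502819 : Led Lsl_ef (LP (LK LD1_c2 LD2_c44 LD3_c37)) = v1776 :=
  Lgr Lrot88 (Lpr_et (f502817 IH) (Lpn v1776))
def v410 : LQ := Led Lsl_bt (LP (LK LD1_c0 LD2_c37 LD3_c53))
def v2942 : LQ := Led Lsl_at v410
theorem f536259 : Led Lsl_at v410 = v2942 :=
  Lrfl
theorem f452708 : Led Lsl_bt (LP (LK LD1_c0 LD2_c37 LD3_c53)) = v410 :=
  Lrfl
theorem f177091 : Led Lsl_bt (LP (LK LD1_c2 LD2_c14 LD3_c20)) = (LP (LK LD1_c1 LD2_c4 LD3_c14)) :=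
  Lre_b IH (LK LD1_c2 LD2_c14 LD3_c20) (LK LD1_c1 LD2_c4 LD3_c14) Lrfl Lrfl
theorem f186341 : Led Lsl_bt (LP (LK LD1_c1 LD2_c4 LD3_c14)) = (LP (LK LD1_c2 LD2_c14 LD3_c20)) :=
  Lre_b IH (LK LD1_c1 LD2_c4 LD3_c14) (LK LD1_c2 LD2_c14 LD3_c20) Lrfl Lrfl
theorem f242663 : Led Lsl_et (LP (LK LD1_c2 LD2_c14 LD3_c20)) = (LP (LK LD1_c1 LD2_c18 LD3_c39)) :=
  Lgr Lrot74 (Lpe (f186341 IH) (Lpr_ef (K17.f242661 IH) (Lpe (K17.f172677 IH) (Lpn (LP (LK LD1_c1 LD2_c18 LD3_c39))))))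
theorem f502818 : Led Lsl_af (LP (LK LD1_c2 LD2_c14 LD3_c20)) = v1776 :=
  Lgr Lrot50 (Lpr_et (f242663 IH) (Lpr_at (K27.f211939 IH) (Lpr_et (f502817 IH) (Lpn v1776))))
theorem f536261 : Led Lsl_bf v1776 = v2942 :=
  Lgr Lrot81 (Lpe (f502818 IH) (Lpr_bt (f177091 IH) (Lpr_at (K18.f302449 IH) (Lpr_bt (f452708 IH) (Lpr_at (f536259 IH) (Lpn v2942))))))
def v1236 : LQ := Led Lsl_ct (LP (LK LD1_c1 LD2_c3 LD3_c59))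
theorem f494222 : Led Lsl_ct (LP (LK LD1_c1 LD2_c3 LD3_c59)) = v1236 :=
  Lrfl
theorem f494225 : Led Lsl_ff v934 = v1236 :=
  Lgr Lrot23 (Lpe (f490628 IH) (Lpe (K11.f448938 IH) (Lpr_ct (f494222 IH) (Lpn v1236))))
theorem f490626 : Led Lsl_af K35.v111 = v934 :=
  Lgr Lrot0 (Lpr_at (f490625 IH) (Lpn v934))
def v933 : LQ := Led Lsl_gf K35.v111
theorem f490624 : Led Lsl_gf K35.v111 = v933 :=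
  Lrfl
theorem f494228 : Led Lsl_gf v933 = v1236 :=
  Lgr Lrot47 (Lpe (f490624 IH) (Lpr_af (f490626 IH) (Lpr_ff (f494225 IH) (Lpn v1236))))
theorem f494667 : Led Lsl_cf v933 = v1292 :=
  Lgr Lrot58 (Lpr_gf (f494228 IH) (Lpe (f494222 IH) (Lpr_bt (K11.f146374 IH) (Lpe (K11.f161002 IH) (Lpe (K4.f20210 IH) (Lpr_ct (K4.f36533 IH) (Lpe (K8.f161023 IH) (Lpe (K8.f69248 IH) (Lpe (K32.f210817 IH) (Lpr_bf (f494666 IH) (Lpn v1292)))))))))))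
theorem f494668 : Led Lsl_ct v933 = v1292 :=
  Lgr Lrot59 (Lpr_cf (f494667 IH) (Lpn v1292))
theorem f536883 : v933 = (LP (LK LD1_c0 LD2_c16 LD3_c55)) :=
  Lefun (Lecon (f490624 IH) (K35.f536756 IH)) (Lfl_gt (K11.f60174 IH))
theorem f537094 : v1292 = (LP (LK LD1_c0 LD2_c37 LD3_c53)) :=
  Lefun (Lecon (f494668 IH) (f536883 IH)) (K11.f68647 IH)
theorem f537236 : (LP (LK LD1_c1 LD2_c5 LD3_c47)) = v410 :=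
  Lefun (Lecon (Lfl_bf (f494666 IH)) (f537094 IH)) (f452708 IH)
theorem f537564 : v2942 = K32.v1291 :=
  Lefun (Lecon (f536259 IH) (f537236 IH).symm) (K32.f494661 IH)
theorem f453531 : Led Lsl_ff (LP (LK LD1_c0 LD2_c42 LD3_c7)) = K32.v473 :=
  Lgr Lrot3 (Lpr_ft (K32.f453530 IH) (Lpn K32.v473))
theorem f496750 : (LP (LK LD1_c0 LD2_c42 LD3_c7)) = K32.v1291 :=
  Lefun (Lecon (Lfl_ff (f453531 IH)) (K32.f496746 IH)) (K32.f494663 IH)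
theorem f537836 : v1776 = (LP (LK LD1_c1 LD2_c31 LD3_c17)) :=
  Lefun (Lecon (Lfl_bf (f536261 IH)) ((f537564 IH).trans (f496750 IH).symm)) (K32.f117766 IH)
theorem f150340 : Led Lsl_et (LP (LK LD1_c0 LD2_c38 LD3_c39)) = (LP (LK LD1_c1 LD2_c23 LD3_c38)) :=
  Lre_e IH (LK LD1_c0 LD2_c38 LD3_c39) (LK LD1_c1 LD2_c23 LD3_c38) Lrfl Lrfl
def v1668 : LQ := Led Lsl_gt (LP (LK LD1_c1 LD2_c23 LD3_c38))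
theorem f500654 : Led Lsl_gt (LP (LK LD1_c1 LD2_c23 LD3_c38)) = v1668 :=
  Lrfl
theorem f539678 : (LP (LK LD1_c2 LD2_c30 LD3_c36)) = v1668 :=
  (Llr Lrot135 (Lpr_dt (K18.f176977 IH) (Lpr_gt (f539672 IH) (Lpe (f55981 IH) (Lpr_et (f427511 IH) (Lpr_gt (f427663 IH) (Lpr_ef (f502819 IH) (Lpqs (f537836 IH) (Lpr_dt (K32.f150335 IH) (Lpr_gt (K8.f72555 IH) (Lpe (K2.f72467 IH) (Lpr_et (f150340 IH) (Lpr_gt (f500654 IH) (Lpn v1668)))))))))))))).symm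
theorem f426225 : Led Lsl_ft (LP (LK LD1_c1 LD2_c23 LD3_c38)) = (LP (LK LD1_c2 LD2_c55 LD3_c25)) :=
  Lre_f IH (LK LD1_c1 LD2_c23 LD3_c38) (LK LD1_c2 LD2_c55 LD3_c25) Lrfl Lrfl
theorem f426209 : Led Lsl_at (LP (LK LD1_c2 LD2_c55 LD3_c25)) = (LP (LK LD1_c2 LD2_c55 LD3_c13)) :=
  Lgr Lrot100 (Lpr_af (K24.f426207 IH) (Lpn (LP (LK LD1_c2 LD2_c55 LD3_c13))))
theorem f500655 : Led Lsl_gf (LP (LK LD1_c2 LD2_c55 LD3_c13)) = v1668 :=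
  Lgr Lrot76 (Lpe (f426209 IH) (Lpe (f426225 IH) (Lpr_gt (f500654 IH) (Lpn v1668))))
theorem f426196 : Led Lsl_af (LP (LK LD1_c1 LD2_c23 LD3_c38)) = (LP (LK LD1_c1 LD2_c23 LD3_c33)) :=
  Lgr Lrot0 (Lpr_at (K24.f426192 IH) (Lpn (LP (LK LD1_c1 LD2_c23 LD3_c33))))
theorem f387298 : Led Lsl_gt (LP (LK LD1_c2 LD2_c55 LD3_c23)) = (LP (LK LD1_c1 LD2_c23 LD3_c38)) :=
  Lre_g IH (LK LD1_c2 LD2_c55 LD3_c23) (LK LD1_c1 LD2_c23 LD3_c38) Lrfl Lrfl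
theorem f426224 : Led Lsl_ft (LP (LK LD1_c2 LD2_c55 LD3_c13)) = (LP (LK LD1_c1 LD2_c23 LD3_c33)) :=
  Lre_f IH (LK LD1_c2 LD2_c55 LD3_c13) (LK LD1_c1 LD2_c23 LD3_c33) Lrfl Lrfl
theorem f428111 : Led Lsl_gf (LP (LK LD1_c2 LD2_c55 LD3_c23)) = (LP (LK LD1_c2 LD2_c55 LD3_c13)) :=
  Lgr Lrot47 (Lpr_gt (f387298 IH) (Lpr_af (f426196 IH) (Lpe (f426224 IH) (Lpn (LP (LK LD1_c2 LD2_c55 LD3_c13))))))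
theorem f539681 : Led Lsl_at (LP (LK LD1_c2 LD2_c30 LD3_c49)) = (LP (LK LD1_c2 LD2_c55 LD3_c23)) :=
  Lgr Lrot26 (Lpe (K27.f308030 IH) (Lpqs (f539678 IH) (Lpe (f500655 IH) (Lpe (f428111 IH) (Lpn (LP (LK LD1_c2 LD2_c55 LD3_c23)))))))
theorem f539631 : Led Lsl_at (LP (LK LD1_c2 LD2_c55 LD3_c11)) = (LP (LK LD1_c2 LD2_c30 LD3_c36)) :=
  Lgr Lrot80 (Lpr_ef (f539629 IH) (Lpe (f176930 IH) (Lpe (f176948 IH) (Lpn (LP (LK LD1_c2 LD2_c30 LD3_c36))))))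
theorem f539691 : Led Lsl_ff (LP (LK LD1_c2 LD2_c55 LD3_c11)) = (LP (LK LD1_c2 LD2_c55 LD3_c23)) :=
  Lgr Lrot30 (Lpr_at (f539631 IH) (Lpr_ft (K27.f308030 IH) (Lpr_at (f539681 IH) (Lpn (LP (LK LD1_c2 LD2_c55 LD3_c23))))))
theorem f539697 : Led Lsl_ft (LP (LK LD1_c2 LD2_c55 LD3_c11)) = (LP (LK LD1_c2 LD2_c55 LD3_c23)) :=
  Lgr Lrot48 (Lpr_ff (f539691 IH) (Lpn (LP (LK LD1_c2 LD2_c55 LD3_c23))))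
theorem f308341 : Led Lsl_at (LP (LK LD1_c4 LD2_c20 LD3_c6)) = (LP (LK LD1_c2 LD2_c30 LD3_c39)) :=
  Lgr Lrot26 (Lpr_ff (K32.f308337 IH) (Lpe (K13.f240989 IH) (Lpr_gt (K13.f165476 IH) (Lpn (LP (LK LD1_c2 LD2_c30 LD3_c39))))))
theorem f201780 : Led Lsl_bt (LP (LK LD1_c2 LD2_c33 LD3_c44)) = (LP (LK LD1_c5 LD2_c13 LD3_c40)) :=
  Lre_b IH (LK LD1_c2 LD2_c33 LD3_c44) (LK LD1_c5 LD2_c13 LD3_c40) Lrfl Lrfl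
theorem f201391 : Led Lsl_bt (LP (LK LD1_c5 LD2_c6 LD3_c42)) = (LP (LK LD1_c2 LD2_c30 LD3_c39)) :=
  Lre_b IH (LK LD1_c5 LD2_c6 LD3_c42) (LK LD1_c2 LD2_c30 LD3_c39) Lrfl Lrfl
theorem f308194 : Led Lsl_ff (LP (LK LD1_c2 LD2_c33 LD3_c44)) = (LP (LK LD1_c2 LD2_c30 LD3_c39)) :=
  Lgr Lrot25 (Lpr_bt (f201780 IH) (Lpr_ft (K19.f308185 IH) (Lpr_bt (f201391 IH) (Lpn (LP (LK LD1_c2 LD2_c30 LD3_c39))))))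
theorem f308349 : Led Lsl_af (LP (LK LD1_c4 LD2_c12 LD3_c9)) = (LP (LK LD1_c2 LD2_c33 LD3_c44)) :=
  Lgr Lrot45 (Lpe (K32.f308337 IH) (Lpr_at (f308341 IH) (Lpe (f308194 IH) (Lpn (LP (LK LD1_c2 LD2_c33 LD3_c44))))))
theorem f53259 : Led Lsl_et (LP (LK LD1_c4 LD2_c12 LD3_c9)) = (LP (LK LD1_c8 LD2_c23 LD3_c58)) :=
  Lre_e IH (LK LD1_c4 LD2_c12 LD3_c9) (LK LD1_c8 LD2_c23 LD3_c58) Lrfl Lrfl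
theorem f240873 : Led Lsl_et (LP (LK LD1_c5 LD2_c13 LD3_c43)) = (LP (LK LD1_c2 LD2_c33 LD3_c44)) :=
  Lre_e IH (LK LD1_c5 LD2_c13 LD3_c43) (LK LD1_c2 LD2_c33 LD3_c44) Lrfl Lrfl
theorem f308353 : Led Lsl_at (LP (LK LD1_c8 LD2_c23 LD3_c58)) = (LP (LK LD1_c5 LD2_c13 LD3_c43)) :=
  Lgr Lrot80 (Lpe (f53259 IH) (Lpr_af (f308349 IH) (Lpe (f240873 IH) (Lpn (LP (LK LD1_c5 LD2_c13 LD3_c43))))))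
theorem f53258 : Led Lsl_et (LP (LK LD1_c10 LD2_c5 LD3_c8)) = (LP (LK LD1_c5 LD2_c7 LD3_c19)) :=
  Lre_e IH (LK LD1_c10 LD2_c5 LD3_c8) (LK LD1_c5 LD2_c7 LD3_c19) Lrfl Lrfl
theorem f53260 : Led Lsl_bf (LP (LK LD1_c10 LD2_c5 LD3_c8)) = (LP (LK LD1_c8 LD2_c23 LD3_c58)) :=
  Lgr Lrot96 (Lpr_et (f53258 IH) (Lpr_bt (K32.f53245 IH) (Lpr_et (f53259 IH) (Lpn (LP (LK LD1_c8 LD2_c23 LD3_c58))))))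
theorem f53267 : Led Lsl_bt (LP (LK LD1_c10 LD2_c5 LD3_c8)) = (LP (LK LD1_c8 LD2_c23 LD3_c58)) :=
  Lgr Lrot127 (Lpr_bf (f53260 IH) (Lpn (LP (LK LD1_c8 LD2_c23 LD3_c58))))
theorem f53286 : Led Lsl_at (LP (LK LD1_c18 LD2_c23 LD3_c43)) = (LP (LK LD1_c10 LD2_c5 LD3_c8)) :=
  Lre_a IH (LK LD1_c18 LD2_c23 LD3_c43) (LK LD1_c10 LD2_c5 LD3_c8) Lrfl Lrfl
theorem f308355 : Led Lsl_bt (LP (LK LD1_c5 LD2_c13 LD3_c43)) = (LP (LK LD1_c10 LD2_c17 LD3_c31)) :=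
  Lre_b IH (LK LD1_c5 LD2_c13 LD3_c43) (LK LD1_c10 LD2_c17 LD3_c31) Lrfl Lrfl
theorem f308356 : Led Lsl_at (LP (LK LD1_c10 LD2_c17 LD3_c31)) = (LP (LK LD1_c18 LD2_c42 LD3_c20)) :=
  Lre_a IH (LK LD1_c10 LD2_c17 LD3_c31) (LK LD1_c18 LD2_c42 LD3_c20) Lrfl Lrfl
theorem f308357 : Led Lsl_bf (LP (LK LD1_c18 LD2_c23 LD3_c43)) = (LP (LK LD1_c18 LD2_c42 LD3_c20)) :=
  Lgr Lrot81 (Lpr_at (f53286 IH) (Lpr_bt (f53267 IH) (Lpr_at (f308353 IH) (Lpr_bt (f308355 IH) (Lpr_at (f308356 IH) (Lpn (LP (LK LD1_c18 LD2_c42 LD3_c20))))))))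
theorem f308404 : Led Lsl_bt (LP (LK LD1_c18 LD2_c23 LD3_c43)) = (LP (LK LD1_c18 LD2_c42 LD3_c20)) :=
  Lgr Lrot127 (Lpr_bf (f308357 IH) (Lpn (LP (LK LD1_c18 LD2_c42 LD3_c20))))
theorem f308414 : Led Lsl_et (LP (LK LD1_c10 LD2_c5 LD3_c3)) = (LP (LK LD1_c18 LD2_c23 LD3_c43)) :=
  Lre_e IH (LK LD1_c10 LD2_c5 LD3_c3) (LK LD1_c18 LD2_c23 LD3_c43) Lrfl Lrfl
theorem f308192 : Led Lsl_et (LP (LK LD1_c18 LD2_c42 LD3_c20)) = (LP (LK LD1_c10 LD2_c17 LD3_c29)) :=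
  Lre_e IH (LK LD1_c18 LD2_c42 LD3_c20) (LK LD1_c10 LD2_c17 LD3_c29) Lrfl Lrfl
theorem f308415 : Led Lsl_bf (LP (LK LD1_c10 LD2_c5 LD3_c3)) = (LP (LK LD1_c10 LD2_c17 LD3_c29)) :=
  Lgr Lrot96 (Lpr_et (f308414 IH) (Lpr_bt (f308404 IH) (Lpr_et (f308192 IH) (Lpn (LP (LK LD1_c10 LD2_c17 LD3_c29))))))
theorem f308171 : Led Lsl_dt (LP (LK LD1_c5 LD2_c13 LD3_c39)) = (LP (LK LD1_c10 LD2_c17 LD3_c29)) :=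
  Lre_d IH (LK LD1_c5 LD2_c13 LD3_c39) (LK LD1_c10 LD2_c17 LD3_c29) Lrfl Lrfl
theorem f308420 : Led Lsl_bt (LP (LK LD1_c5 LD2_c7 LD3_c15)) = (LP (LK LD1_c5 LD2_c13 LD3_c39)) :=
  Lgr Lrot95 (Lpe (K32.f308419 IH) (Lpr_bf (f308415 IH) (Lpe (f308171 IH) (Lpn (LP (LK LD1_c5 LD2_c13 LD3_c39))))))
theorem f308425 : Led Lsl_ct (LP (LK LD1_c2 LD2_c30 LD3_c58)) = (LP (LK LD1_c5 LD2_c7 LD3_c15)) :=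
  Lre_c IH (LK LD1_c2 LD2_c30 LD3_c58) (LK LD1_c5 LD2_c7 LD3_c15) Lrfl Lrfl
theorem f308426 : Led Lsl_bf (LP (LK LD1_c2 LD2_c30 LD3_c58)) = (LP (LK LD1_c2 LD2_c33 LD3_c59)) :=
  Lgr Lrot90 (Lpr_ct (f308425 IH) (Lpr_bt (f308420 IH) (Lpr_ct (K19.f308138 IH) (Lpr_bt (K32.f308083 IH) (Lpr_ct (K32.f308055 IH) (Lpn (LP (LK LD1_c2 LD2_c33 LD3_c59))))))))
theorem f34940 : Led Lsl_gt (LP (LK LD1_c4 LD2_c35 LD3_c23)) = (LP (LK LD1_c2 LD2_c14 LD3_c60)) :=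
  Lre_g IH (LK LD1_c4 LD2_c35 LD3_c23) (LK LD1_c2 LD2_c14 LD3_c60) Lrfl Lrfl
theorem f70850 : Led Lsl_et (LP (LK LD1_c1 LD2_c22 LD3_c50)) = (LP (LK LD1_c0 LD2_c38 LD3_c21)) :=
  Lre_e IH (LK LD1_c1 LD2_c22 LD3_c50) (LK LD1_c0 LD2_c38 LD3_c21) Lrfl Lrfl
theorem f72245 : Led Lsl_bt (LP (LK LD1_c1 LD2_c2 LD3_c7)) = (LP (LK LD1_c1 LD2_c22 LD3_c50)) :=
  Lgr Lrot119 (Lpe (K2.f56341 IH) (Lpr_bf (K2.f72240 IH) (Lpe (f70850 IH) (Lpn (LP (LK LD1_c1 LD2_c22 LD3_c50))))))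
theorem f138620 : Led Lsl_gt (LP (LK LD1_c1 LD2_c22 LD3_c50)) = (LP (LK LD1_c2 LD2_c53 LD3_c33)) :=
  Lre_g IH (LK LD1_c1 LD2_c22 LD3_c50) (LK LD1_c2 LD2_c53 LD3_c33) Lrfl Lrfl
theorem f201431 : Led Lsl_bt (LP (LK LD1_c5 LD2_c54 LD3_c20)) = (LP (LK LD1_c2 LD2_c53 LD3_c33)) :=
  Lre_b IH (LK LD1_c5 LD2_c54 LD3_c20) (LK LD1_c2 LD2_c53 LD3_c33) Lrfl Lrfl
theorem f239254 : Led Lsl_ct (LP (LK LD1_c5 LD2_c54 LD3_c20)) = (LP (LK LD1_c4 LD2_c35 LD3_c23)) :=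
  Lgr Lrot64 (Lpr_bt (f201431 IH) (Lpe (f138620 IH) (Lpe (f72245 IH) (Lpr_ct (K11.f201418 IH) (Lpe (K12.f31537 IH) (Lpe (K15.f239243 IH) (Lpr_gf (K13.f239250 IH) (Lpe (K20.f31763 IH) (Lpe (K2.f34895 IH) (Lpe (f34940 IH) (Lpn (LP (LK LD1_c4 LD2_c35 LD3_c23)))))))))))))
theorem f69463 : Led Lsl_bt (LP (LK LD1_c8 LD2_c2 LD3_c13)) = (LP (LK LD1_c5 LD2_c55 LD3_c30)) :=
  Lgr Lrot127 (Lpr_bf (K32.f69437 IH) (Lpn (LP (LK LD1_c5 LD2_c55 LD3_c30))))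
theorem f421332 : Led Lsl_gf (LP (LK LD1_c5 LD2_c54 LD3_c20)) = (LP (LK LD1_c5 LD2_c55 LD3_c30)) :=
  Lgr Lrot181 (Lpr_ct (f239254 IH) (Lpr_gt (f34940 IH) (Lpr_cf (K2.f34895 IH) (Lpr_bt (K20.f31763 IH) (Lpe (K13.f239250 IH) (Lpe (K32.f239256 IH) (Lpr_ct (K32.f402917 IH) (Lpr_gt (K32.f421326 IH) (Lpe (K32.f69465 IH) (Lpr_bt (f69463 IH) (Lpn (LP (LK LD1_c5 LD2_c55 LD3_c30)))))))))))))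
theorem f239261 : Led Lsl_cf (LP (LK LD1_c5 LD2_c54 LD3_c20)) = (LP (LK LD1_c4 LD2_c35 LD3_c23)) :=
  Lgr Lrot11 (Lpr_ct (f239254 IH) (Lpn (LP (LK LD1_c4 LD2_c35 LD3_c23))))
theorem f427784 : Led Lsl_bt (LP (LK LD1_c4 LD2_c35 LD3_c23)) = (LP (LK LD1_c2 LD2_c55 LD3_c11)) :=
  Lgr Lrot130 (Lpe (f239261 IH) (Lpr_gf (f421332 IH) (Lpe (K32.f421296 IH) (Lpr_bt (f171695 IH) (Lpr_gf (K32.f308589 IH) (Lpr_bf (f308426 IH) (Lpe (K32.f308068 IH) (Lpr_gf (K32.f427780 IH) (Lpe (K24.f386739 IH) (Lpr_gf (f426214 IH) (Lpn (LP (LK LD1_c2 LD2_c55 LD3_c11)))))))))))))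
theorem f427786 : Led Lsl_bf (LP (LK LD1_c4 LD2_c35 LD3_c23)) = (LP (LK LD1_c2 LD2_c55 LD3_c11)) :=
  Lgr Lrot24 (Lpr_bt (f427784 IH) (Lpn (LP (LK LD1_c2 LD2_c55 LD3_c11))))
theorem f161204 : Led Lsl_ct (LP (LK LD1_c1 LD2_c10 LD3_c51)) = (LP (LK LD1_c2 LD2_c27 LD3_c7)) :=
  Lre_c IH (LK LD1_c1 LD2_c10 LD3_c51) (LK LD1_c2 LD2_c27 LD3_c7) Lrfl Lrfl
theorem f387093 : Led Lsl_gt (LP (LK LD1_c2 LD2_c27 LD3_c7)) = (LP (LK LD1_c4 LD2_c58 LD3_c33)) :=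
  Lre_g IH (LK LD1_c2 LD2_c27 LD3_c7) (LK LD1_c4 LD2_c58 LD3_c33) Lrfl Lrfl
theorem f427793 : Led Lsl_cf (LP (LK LD1_c4 LD2_c58 LD3_c33)) = (LP (LK LD1_c2 LD2_c55 LD3_c11)) :=
  Lgr Lrot163 (Lpe (f387093 IH) (Lpe (f161204 IH) (Lpr_gf (K28.f387085 IH) (Lpe (K28.f186692 IH) (Lpe (K10.f186682 IH) (Lpe (K9.f31679 IH) (Lpe (K2.f34920 IH) (Lpr_bt (K20.f34944 IH) (Lpe (f34940 IH) (Lpr_bf (f427786 IH) (Lpn (LP (LK LD1_c2 LD2_c55 LD3_c11)))))))))))))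
theorem f427795 : Led Lsl_ct (LP (LK LD1_c4 LD2_c58 LD3_c33)) = (LP (LK LD1_c2 LD2_c55 LD3_c11)) :=
  Lgr Lrot59 (Lpr_cf (f427793 IH) (Lpn (LP (LK LD1_c2 LD2_c55 LD3_c11))))
theorem f308045 : Led Lsl_at (LP (LK LD1_c5 LD2_c14 LD3_c13)) = (LP (LK LD1_c2 LD2_c33 LD3_c61)) :=
  Lre_a IH (LK LD1_c5 LD2_c14 LD3_c13) (LK LD1_c2 LD2_c33 LD3_c61) Lrfl Lrfl
theorem f539685 : Led Lsl_cf (LP (LK LD1_c5 LD2_c14 LD3_c13)) = (LP (LK LD1_c2 LD2_c55 LD3_c23)) :=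
  Lgr Lrot1 (Lpr_at (f308045 IH) (Lpe (K27.f194122 IH) (Lpr_at (f539681 IH) (Lpn (LP (LK LD1_c2 LD2_c55 LD3_c23))))))
theorem f539699 : Led Lsl_ff (LP (LK LD1_c4 LD2_c58 LD3_c33)) = (LP (LK LD1_c5 LD2_c14 LD3_c13)) :=
  Lgr Lrot23 (Lpr_ct (f427795 IH) (Lpr_ft (f539697 IH) (Lpe (f539685 IH) (Lpn (LP (LK LD1_c5 LD2_c14 LD3_c13))))))
theorem f539721 : Led Lsl_ft (LP (LK LD1_c4 LD2_c58 LD3_c33)) = (LP (LK LD1_c5 LD2_c14 LD3_c13)) :=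
  Lgr Lrot48 (Lpr_ff (f539699 IH) (Lpn (LP (LK LD1_c5 LD2_c14 LD3_c13))))
theorem f539725 : Led Lsl_cf (LP (LK LD1_c2 LD2_c55 LD3_c23)) = (LP (LK LD1_c5 LD2_c14 LD3_c13)) :=
  Lgr Lrot108 (Lpe (f539691 IH) (Lpe (f427793 IH) (Lpr_ft (f539721 IH) (Lpn (LP (LK LD1_c5 LD2_c14 LD3_c13))))))
def v1398 : LQ := Led Lsl_at (LP (LK LD1_c1 LD2_c12 LD3_c21))
theorem f495330 : Led Lsl_at (LP (LK LD1_c1 LD2_c12 LD3_c21)) = v1398 :=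
  Lrfl
theorem f165480 : Led Lsl_bt (LP (LK LD1_c0 LD2_c33 LD3_c30)) = (LP (LK LD1_c1 LD2_c12 LD3_c21)) :=
  Lre_b IH (LK LD1_c0 LD2_c33 LD3_c30) (LK LD1_c1 LD2_c12 LD3_c21) Lrfl Lrfl
theorem f185754 : Led Lsl_bt (LP (LK LD1_c1 LD2_c13 LD3_c47)) = (LP (LK LD1_c0 LD2_c34 LD3_c11)) :=
  Lre_b IH (LK LD1_c1 LD2_c13 LD3_c47) (LK LD1_c0 LD2_c34 LD3_c11) Lrfl Lrfl
theorem f495332 : Led Lsl_bf (LP (LK LD1_c1 LD2_c23 LD3_c44)) = v1398 :=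
  Lgr Lrot81 (Lpr_at (K28.f386778 IH) (Lpr_bt (f185754 IH) (Lpr_at (K19.f308012 IH) (Lpr_bt (f165480 IH) (Lpr_at (f495330 IH) (Lpn v1398))))))
theorem f186561 : Led Lsl_ct (LP (LK LD1_c5 LD2_c13 LD3_c46)) = (LP (LK LD1_c2 LD2_c33 LD3_c47)) :=
  Lre_c IH (LK LD1_c5 LD2_c13 LD3_c46) (LK LD1_c2 LD2_c33 LD3_c47) Lrfl Lrfl
theorem f198581 : Led Lsl_dt (LP (LK LD1_c10 LD2_c17 LD3_c42)) = (LP (LK LD1_c5 LD2_c13 LD3_c46)) :=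
  Lre_d IH (LK LD1_c10 LD2_c17 LD3_c42) (LK LD1_c5 LD2_c13 LD3_c46) Lrfl Lrfl
theorem f405169 : Led Lsl_ct (LP (LK LD1_c18 LD2_c42 LD3_c49)) = (LP (LK LD1_c10 LD2_c17 LD3_c42)) :=
  Lre_c IH (LK LD1_c18 LD2_c42 LD3_c49) (LK LD1_c10 LD2_c17 LD3_c42) Lrfl Lrfl
theorem f100246 : Led Lsl_dt (LP (LK LD1_c4 LD2_c25 LD3_c55)) = (LP (LK LD1_c8 LD2_c49 LD3_c12)) :=
  Lre_d IH (LK LD1_c4 LD2_c25 LD3_c55) (LK LD1_c8 LD2_c49 LD3_c12) Lrfl Lrfl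
theorem f427836 : Led Lsl_ct (LP (LK LD1_c8 LD2_c49 LD3_c12)) = (LP (LK LD1_c16 LD2_c29 LD3_c37)) :=
  Lre_c IH (LK LD1_c8 LD2_c49 LD3_c12) (LK LD1_c16 LD2_c29 LD3_c37) Lrfl Lrfl
theorem f427837 : Led Lsl_df (LP (LK LD1_c18 LD2_c42 LD3_c49)) = (LP (LK LD1_c16 LD2_c29 LD3_c37)) :=
  Lgr Lrot106 (Lpr_ct (f405169 IH) (Lpr_dt (f198581 IH) (Lpr_ct (f186561 IH) (Lpr_dt (K19.f201440 IH) (Lpr_ct (f185092 IH) (Lpe (f308422 IH) (Lpr_ff (f427824 IH) (Lpr_dt (f100246 IH) (Lpr_ct (f427836 IH) (Lpn (LP (LK LD1_c16 LD2_c29 LD3_c37))))))))))))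
theorem f308199 : Led Lsl_dt (LP (LK LD1_c2 LD2_c33 LD3_c43)) = (LP (LK LD1_c5 LD2_c13 LD3_c40)) :=
  Lre_d IH (LK LD1_c2 LD2_c33 LD3_c43) (LK LD1_c5 LD2_c13 LD3_c40) Lrfl Lrfl
theorem f308176 : Led Lsl_ct (LP (LK LD1_c5 LD2_c13 LD3_c40)) = (LP (LK LD1_c10 LD2_c17 LD3_c30)) :=
  Lre_c IH (LK LD1_c5 LD2_c13 LD3_c40) (LK LD1_c10 LD2_c17 LD3_c30) Lrfl Lrfl
theorem f308158 : Led Lsl_at (LP (LK LD1_c18 LD2_c42 LD3_c19)) = (LP (LK LD1_c10 LD2_c17 LD3_c30)) :=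
  Lre_a IH (LK LD1_c18 LD2_c42 LD3_c19) (LK LD1_c10 LD2_c17 LD3_c30) Lrfl Lrfl
theorem f427847 : Led Lsl_ff (LP (LK LD1_c18 LD2_c42 LD3_c19)) = (LP (LK LD1_c16 LD2_c29 LD3_c37)) :=
  Lgr Lrot103 (Lpr_at (f308158 IH) (Lpe (f308176 IH) (Lpe (f308199 IH) (Lpe (f185092 IH) (Lpe (K19.f201440 IH) (Lpe (f186561 IH) (Lpe (f198581 IH) (Lpe (f405169 IH) (Lpr_df (f427837 IH) (Lpn (LP (LK LD1_c16 LD2_c29 LD3_c37))))))))))))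
theorem f211561 : Led Lsl_ct (LP (LK LD1_c10 LD2_c4 LD3_c9)) = (LP (LK LD1_c5 LD2_c6 LD3_c42)) :=
  Lre_c IH (LK LD1_c10 LD2_c4 LD3_c9) (LK LD1_c5 LD2_c6 LD3_c42) Lrfl Lrfl
theorem f308177 : Led Lsl_ft (LP (LK LD1_c10 LD2_c17 LD3_c30)) = (LP (LK LD1_c10 LD2_c4 LD3_c9)) :=
  Lgr Lrot4 (Lpe (f308176 IH) (Lpr_ff (K19.f308169 IH) (Lpe (f211561 IH) (Lpn (LP (LK LD1_c10 LD2_c4 LD3_c9))))))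
theorem f427850 : Led Lsl_at (LP (LK LD1_c10 LD2_c4 LD3_c9)) = (LP (LK LD1_c16 LD2_c29 LD3_c37)) :=
  Lgr Lrot66 (Lpe (f308177 IH) (Lpe (f308158 IH) (Lpr_ff (f427847 IH) (Lpn (LP (LK LD1_c16 LD2_c29 LD3_c37))))))
theorem f405130 : Led Lsl_et (LP (LK LD1_c18 LD2_c22 LD3_c47)) = (LP (LK LD1_c10 LD2_c4 LD3_c9)) :=
  Lre_e IH (LK LD1_c18 LD2_c22 LD3_c47) (LK LD1_c10 LD2_c4 LD3_c9) Lrfl Lrfl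
theorem f427849 : Led Lsl_et (LP (LK LD1_c16 LD2_c29 LD3_c37)) = (LP (LK LD1_c26 LD2_c26 LD3_c28)) :=
  Lre_e IH (LK LD1_c16 LD2_c29 LD3_c37) (LK LD1_c26 LD2_c26 LD3_c28) Lrfl Lrfl
theorem f427864 : Led Lsl_af (LP (LK LD1_c18 LD2_c22 LD3_c47)) = (LP (LK LD1_c26 LD2_c26 LD3_c28)) :=
  Lgr Lrot50 (Lpr_et (f405130 IH) (Lpr_at (f427850 IH) (Lpr_et (f427849 IH) (Lpn (LP (LK LD1_c26 LD2_c26 LD3_c28))))))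
theorem f424504 : Led Lsl_ct (LP (LK LD1_c18 LD2_c22 LD3_c47)) = (LP (LK LD1_c10 LD2_c4 LD3_c10)) :=
  Lre_c IH (LK LD1_c18 LD2_c22 LD3_c47) (LK LD1_c10 LD2_c4 LD3_c10) Lrfl Lrfl
theorem f427868 : Led Lsl_ct (LP (LK LD1_c16 LD2_c29 LD3_c38)) = (LP (LK LD1_c26 LD2_c26 LD3_c28)) :=
  Lre_c IH (LK LD1_c16 LD2_c29 LD3_c38) (LK LD1_c26 LD2_c26 LD3_c28) Lrfl Lrfl
theorem f427869 : Led Lsl_at (LP (LK LD1_c10 LD2_c4 LD3_c10)) = (LP (LK LD1_c16 LD2_c29 LD3_c38)) :=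
  Lgr Lrot107 (Lpe (f424504 IH) (Lpr_af (f427864 IH) (Lpe (f427868 IH) (Lpn (LP (LK LD1_c16 LD2_c29 LD3_c38))))))
theorem f427871 : Led Lsl_af (LP (LK LD1_c10 LD2_c4 LD3_c10)) = (LP (LK LD1_c16 LD2_c29 LD3_c38)) :=
  Lgr Lrot0 (Lpr_at (f427869 IH) (Lpn (LP (LK LD1_c16 LD2_c29 LD3_c38))))
theorem f308181 : Led Lsl_et (LP (LK LD1_c10 LD2_c4 LD3_c10)) = (LP (LK LD1_c5 LD2_c6 LD3_c42)) :=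
  Lre_e IH (LK LD1_c10 LD2_c4 LD3_c10) (LK LD1_c5 LD2_c6 LD3_c42) Lrfl Lrfl
theorem f427827 : Led Lsl_et (LP (LK LD1_c8 LD2_c49 LD3_c12)) = (LP (LK LD1_c16 LD2_c29 LD3_c38)) :=
  Lre_e IH (LK LD1_c8 LD2_c49 LD3_c12) (LK LD1_c16 LD2_c29 LD3_c38) Lrfl Lrfl
theorem f427875 : Led Lsl_at (LP (LK LD1_c5 LD2_c6 LD3_c42)) = (LP (LK LD1_c8 LD2_c49 LD3_c12)) :=
  Lgr Lrot80 (Lpe (f308181 IH) (Lpr_af (f427871 IH) (Lpe (f427827 IH) (Lpn (LP (LK LD1_c8 LD2_c49 LD3_c12))))))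
theorem f308135 : Led Lsl_dt (LP (LK LD1_c2 LD2_c30 LD3_c38)) = (LP (LK LD1_c5 LD2_c6 LD3_c42)) :=
  Lre_d IH (LK LD1_c2 LD2_c30 LD3_c38) (LK LD1_c5 LD2_c6 LD3_c42) Lrfl Lrfl
theorem f427826 : Led Lsl_dt (LP (LK LD1_c8 LD2_c49 LD3_c12)) = (LP (LK LD1_c4 LD2_c25 LD3_c55)) :=
  Lre_d IH (LK LD1_c8 LD2_c49 LD3_c12) (LK LD1_c4 LD2_c25 LD3_c55) Lrfl Lrfl
theorem f427879 : Led Lsl_af (LP (LK LD1_c2 LD2_c30 LD3_c38)) = (LP (LK LD1_c4 LD2_c25 LD3_c55)) :=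
  Lgr Lrot117 (Lpr_dt (f308135 IH) (Lpr_at (f427875 IH) (Lpr_dt (f427826 IH) (Lpn (LP (LK LD1_c4 LD2_c25 LD3_c55))))))
theorem f495333 : Led Lsl_cf (LP (LK LD1_c4 LD2_c25 LD3_c55)) = v1398 :=
  Lgr Lrot1 (Lpe (f427879 IH) (Lpr_ct (K19.f166412 IH) (Lpr_at (f495330 IH) (Lpn v1398))))
theorem f71228 : Led Lsl_ct (LP (LK LD1_c1 LD2_c22 LD3_c57)) = (LP (LK LD1_c2 LD2_c53 LD3_c36)) :=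
  Lre_c IH (LK LD1_c1 LD2_c22 LD3_c57) (LK LD1_c2 LD2_c53 LD3_c36) Lrfl Lrfl
theorem f164412 : Led Lsl_bt (LP (LK LD1_c0 LD2_c15 LD3_c23)) = (LP (LK LD1_c0 LD2_c34 LD3_c18)) :=
  Lre_b IH (LK LD1_c0 LD2_c15 LD3_c23) (LK LD1_c0 LD2_c34 LD3_c18) Lrfl Lrfl
theorem f164418 : Led Lsl_gt (LP (LK LD1_c0 LD2_c34 LD3_c18)) = (LP (LK LD1_c1 LD2_c13 LD3_c61)) :=
  Lre_g IH (LK LD1_c0 LD2_c34 LD3_c18) (LK LD1_c1 LD2_c13 LD3_c61) Lrfl Lrfl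
theorem f421679 : Led Lsl_bt (LP (LK LD1_c2 LD2_c34 LD3_c2)) = (LP (LK LD1_c1 LD2_c13 LD3_c61)) :=
  Lre_b IH (LK LD1_c2 LD2_c34 LD3_c2) (LK LD1_c1 LD2_c13 LD3_c61) Lrfl Lrfl
theorem f421680 : Led Lsl_ct (LP (LK LD1_c2 LD2_c34 LD3_c2)) = (LP (LK LD1_c5 LD2_c14 LD3_c24)) :=
  Lre_c IH (LK LD1_c2 LD2_c34 LD3_c2) (LK LD1_c5 LD2_c14 LD3_c24) Lrfl Lrfl
theorem f421681 : Led Lsl_gt (LP (LK LD1_c5 LD2_c14 LD3_c24)) = (LP (LK LD1_c2 LD2_c53 LD3_c36)) :=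
  Lgr Lrot65 (Lpe (f421680 IH) (Lpr_bt (f421679 IH) (Lpe (f164418 IH) (Lpe (f164412 IH) (Lpr_ct (K8.f20462 IH) (Lpe (K9.f20536 IH) (Lpe (K10.f164637 IH) (Lpr_gf (K10.f185082 IH) (Lpe (K2.f71224 IH) (Lpr_ct (f71228 IH) (Lpn (LP (LK LD1_c2 LD2_c53 LD3_c36)))))))))))))
theorem f421683 : Led Lsl_gt (LP (LK LD1_c5 LD2_c14 LD3_c22)) = (LP (LK LD1_c2 LD2_c34 LD3_c2)) :=
  Lre_g IH (LK LD1_c5 LD2_c14 LD3_c22) (LK LD1_c2 LD2_c34 LD3_c2) Lrfl Lrfl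
theorem f427894 : Led Lsl_bf (LP (LK LD1_c5 LD2_c14 LD3_c22)) = (LP (LK LD1_c4 LD2_c25 LD3_c49)) :=
  Lgr Lrot165 (Lpr_gt (f421683 IH) (Lpr_ct (f421680 IH) (Lpr_gt (f421681 IH) (Lpe (f71228 IH) (Lpr_bt (K2.f71224 IH) (Lpe (K10.f185082 IH) (Lpe (K19.f185089 IH) (Lpr_ct (f185092 IH) (Lpr_gt (f427889 IH) (Lpe (f203345 IH) (Lpn (LP (LK LD1_c4 LD2_c25 LD3_c49)))))))))))))
theorem f301853 : Led Lsl_at (LP (LK LD1_c2 LD2_c33 LD3_c61)) = (LP (LK LD1_c5 LD2_c14 LD3_c13)) :=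
  Lre_a IH (LK LD1_c2 LD2_c33 LD3_c61) (LK LD1_c5 LD2_c14 LD3_c13) Lrfl Lrfl
theorem f194062 : Led Lsl_bt (LP (LK LD1_c2 LD2_c30 LD3_c61)) = (LP (LK LD1_c1 LD2_c12 LD3_c32)) :=
  Lre_b IH (LK LD1_c2 LD2_c30 LD3_c61) (LK LD1_c1 LD2_c12 LD3_c32) Lrfl Lrfl
theorem f301854 : Led Lsl_at (LP (LK LD1_c5 LD2_c7 LD3_c17)) = (LP (LK LD1_c2 LD2_c30 LD3_c61)) :=
  Lre_a IH (LK LD1_c5 LD2_c7 LD3_c17) (LK LD1_c2 LD2_c30 LD3_c61) Lrfl Lrfl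
theorem f301855 : Led Lsl_bt (LP (LK LD1_c5 LD2_c14 LD3_c13)) = (LP (LK LD1_c5 LD2_c7 LD3_c17)) :=
  Lgr Lrot62 (Lpe (f301853 IH) (Lpe (K27.f193925 IH) (Lpr_af (K18.f301847 IH) (Lpe (f194062 IH) (Lpe (f301854 IH) (Lpn (LP (LK LD1_c5 LD2_c7 LD3_c17))))))))
theorem f539730 : Led Lsl_gf (LP (LK LD1_c5 LD2_c14 LD3_c22)) = (LP (LK LD1_c5 LD2_c7 LD3_c17)) :=
  Lgr Lrot124 (Lpr_bf (f427894 IH) (Lpr_ct (f203345 IH) (Lpr_gt (f100244 IH) (Lpr_cf (f495333 IH) (Lpe (f495332 IH) (Lpr_gt (K27.f386788 IH) (Lpr_ct (K27.f426211 IH) (Lpe (f428111 IH) (Lpr_cf (f539725 IH) (Lpr_bt (f301855 IH) (Lpn (LP (LK LD1_c5 LD2_c7 LD3_c17)))))))))))))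
theorem f157893 : Led Lsl_et (LP (LK LD1_c2 LD2_c10 LD3_c13)) = (LP (LK LD1_c4 LD2_c25 LD3_c49)) :=
  Lre_e IH (LK LD1_c2 LD2_c10 LD3_c13) (LK LD1_c4 LD2_c25 LD3_c49) Lrfl Lrfl
theorem f427910 : Led Lsl_et (LP (LK LD1_c5 LD2_c14 LD3_c22)) = (LP (LK LD1_c4 LD2_c25 LD3_c47)) :=
  Lgr Lrot74 (Lpr_bf (f427894 IH) (Lpe (f157893 IH) (Lpe (K6.f138877 IH) (Lpn (LP (LK LD1_c4 LD2_c25 LD3_c47))))))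
theorem f427918 : Led Lsl_ef (LP (LK LD1_c5 LD2_c14 LD3_c22)) = (LP (LK LD1_c4 LD2_c25 LD3_c47)) :=
  Lgr Lrot88 (Lpr_et (f427910 IH) (Lpn (LP (LK LD1_c4 LD2_c25 LD3_c47))))
theorem f205800 : Led Lsl_dt (LP (LK LD1_c4 LD2_c25 LD3_c47)) = (LP (LK LD1_c5 LD2_c49 LD3_c60)) :=
  Lgr Lrot60 (Lpr_ff (K6.f138871 IH) (Lpe (K8.f138880 IH) (Lpr_ff (K11.f205788 IH) (Lpn (LP (LK LD1_c5 LD2_c49 LD3_c60))))))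
def v1561 : LQ := Led Lsl_et (LP (LK LD1_c1 LD2_c21 LD3_c38))
theorem f496267 : Led Lsl_et (LP (LK LD1_c1 LD2_c21 LD3_c38)) = v1561 :=
  Lrfl
def v263 : LQ := Led Lsl_gt K35.v80
def v1104 : LQ := Led Lsl_bt v263
theorem f491521 : Led Lsl_bt v263 = v1104 :=
  Lrfl
theorem f451442 : Led Lsl_gt K35.v80 = v263 :=
  Lrfl
theorem f451445 : Led Lsl_et (LP (LK LD1_c1 LD2_c9 LD3_c39)) = v263 :=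
  Lgr Lrot122 (Lpr_dt (K9.f177177 IH) (Lpr_gt (K9.f3764 IH) (Lpe (K9.f22214 IH) (Lpe (K7.f22218 IH) (Lpe (K0.f20271 IH) (Lpr_dt (K0.f20273 IH) (Lpr_gt (K0.f20276 IH) (Lpe (K2.f20288 IH) (Lpr_et (K35.f446799 IH) (Lpr_gt (f451442 IH) (Lpn v263)))))))))))
theorem f164155 : Led Lsl_bt (LP (LK LD1_c2 LD2_c24 LD3_c50)) = (LP (LK LD1_c1 LD2_c9 LD3_c39)) :=
  Lre_b IH (LK LD1_c2 LD2_c24 LD3_c50) (LK LD1_c1 LD2_c9 LD3_c39) Lrfl Lrfl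
theorem f491523 : Led Lsl_ef (LP (LK LD1_c2 LD2_c24 LD3_c50)) = v1104 :=
  Lgr Lrot29 (Lpr_bt (f164155 IH) (Lpr_et (f451445 IH) (Lpr_bt (f491521 IH) (Lpn v1104))))
theorem f203565 : Led Lsl_bt (LP (LK LD1_c0 LD2_c37 LD3_c47)) = (LP (LK LD1_c1 LD2_c21 LD3_c38)) :=
  Lre_b IH (LK LD1_c0 LD2_c37 LD3_c47) (LK LD1_c1 LD2_c21 LD3_c38) Lrfl Lrfl
theorem f537098 : v263 = (LP (LK LD1_c0 LD2_c37 LD3_c47)) :=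
  Lefun (Lecon (f451442 IH) (K35.f536885 IH).symm) (K11.f16658 IH)
theorem f537247 : v1104 = (LP (LK LD1_c1 LD2_c21 LD3_c38)) :=
  Lefun (Lecon (f491521 IH) (f537098 IH)) (f203565 IH)
theorem f537605 : (LP (LK LD1_c2 LD2_c24 LD3_c50)) = v1561 :=
  Lefun (Lecon (Lfl_ef (f491523 IH)) (f537247 IH)) (f496267 IH)
theorem f31621 : Led Lsl_gt (LP (LK LD1_c2 LD2_c24 LD3_c50)) = (LP (LK LD1_c4 LD2_c53 LD3_c53)) :=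
  Lre_g IH (LK LD1_c2 LD2_c24 LD3_c50) (LK LD1_c4 LD2_c53 LD3_c53) Lrfl Lrfl
theorem f308433 : Led Lsl_et (LP (LK LD1_c2 LD2_c30 LD3_c58)) = (LP (LK LD1_c5 LD2_c7 LD3_c17)) :=
  Lre_e IH (LK LD1_c2 LD2_c30 LD3_c58) (LK LD1_c5 LD2_c7 LD3_c17) Lrfl Lrfl
theorem f181046 : Led Lsl_bt (LP (LK LD1_c1 LD2_c13 LD3_c56)) = (LP (LK LD1_c2 LD2_c33 LD3_c55)) :=
  Lre_b IH (LK LD1_c1 LD2_c13 LD3_c56) (LK LD1_c2 LD2_c33 LD3_c55) Lrfl Lrfl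
theorem f194046 : Led Lsl_bt (LP (LK LD1_c2 LD2_c30 LD3_c60)) = (LP (LK LD1_c1 LD2_c12 LD3_c31)) :=
  Lre_b IH (LK LD1_c2 LD2_c30 LD3_c60) (LK LD1_c1 LD2_c12 LD3_c31) Lrfl Lrfl
theorem f301805 : Led Lsl_ft (LP (LK LD1_c2 LD2_c33 LD3_c55)) = (LP (LK LD1_c2 LD2_c30 LD3_c60)) :=
  Lgr Lrot75 (Lpe (f181046 IH) (Lpr_ff (K18.f301803 IH) (Lpe (f194046 IH) (Lpn (LP (LK LD1_c2 LD2_c30 LD3_c60))))))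
theorem f61415 : Led Lsl_gt (LP (LK LD1_c2 LD2_c33 LD3_c55)) = (LP (LK LD1_c5 LD2_c14 LD3_c1)) :=
  Lre_g IH (LK LD1_c2 LD2_c33 LD3_c55) (LK LD1_c5 LD2_c14 LD3_c1) Lrfl Lrfl
theorem f308437 : Led Lsl_at (LP (LK LD1_c2 LD2_c30 LD3_c60)) = (LP (LK LD1_c5 LD2_c7 LD3_c16)) :=
  Lre_a IH (LK LD1_c2 LD2_c30 LD3_c60) (LK LD1_c5 LD2_c7 LD3_c16) Lrfl Lrfl
theorem f406590 : Led Lsl_gt (LP (LK LD1_c5 LD2_c14 LD3_c1)) = (LP (LK LD1_c5 LD2_c7 LD3_c16)) :=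
  Lgr Lrot46 (Lpe (f61415 IH) (Lpr_ft (f301805 IH) (Lpr_at (f308437 IH) (Lpn (LP (LK LD1_c5 LD2_c7 LD3_c16))))))
theorem f539736 : Led Lsl_dt (LP (LK LD1_c4 LD2_c53 LD3_c53)) = (LP (LK LD1_c5 LD2_c14 LD3_c1)) :=
  Lgr Lrot171 (Lpe (f31621 IH) (Lpqs (f537605 IH) (Lpe (f496267 IH) (Lpr_dt (K32.f205769 IH) (Lpe (K11.f112713 IH) (Lpe (f205800 IH) (Lpe (f427918 IH) (Lpr_gf (f539730 IH) (Lpe (f308433 IH) (Lpr_dt (K32.f308430 IH) (Lpe (f406590 IH) (Lpn (LP (LK LD1_c5 LD2_c14 LD3_c1))))))))))))))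
theorem f60878 : Led Lsl_gt (LP (LK LD1_c6 LD2_c15 LD3_c23)) = (LP (LK LD1_c3 LD2_c4 LD3_c46)) :=
  Lre_g IH (LK LD1_c6 LD2_c15 LD3_c23) (LK LD1_c3 LD2_c4 LD3_c46) Lrfl Lrfl
theorem f539740 : Led Lsl_et (LP (LK LD1_c4 LD2_c53 LD3_c53)) = (LP (LK LD1_c6 LD2_c15 LD3_c23)) :=
  Lgr Lrot185 (Lpr_dt (f539736 IH) (Lpe (f61415 IH) (Lpe (K32.f61410 IH) (Lpe (K32.f61383 IH) (Lpr_ef (K32.f421277 IH) (Lpr_dt (K6.f137963 IH) (Lpr_gf (K8.f74176 IH) (Lpe (K8.f73831 IH) (Lpr_et (K4.f60842 IH) (Lpe (f60878 IH) (Lpn (LP (LK LD1_c6 LD2_c15 LD3_c23)))))))))))))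
theorem f60724 : Led Lsl_gt (LP (LK LD1_c3 LD2_c4 LD3_c50)) = (LP (LK LD1_c6 LD2_c15 LD3_c23)) :=
  Lre_g IH (LK LD1_c3 LD2_c4 LD3_c50) (LK LD1_c6 LD2_c15 LD3_c23) Lrfl Lrfl
theorem f55530 : Led Lsl_dt (LP (LK LD1_c2 LD2_c0 LD3_c17)) = (LP (LK LD1_c4 LD2_c6 LD3_c1)) :=
  Lre_d IH (LK LD1_c2 LD2_c0 LD3_c17) (LK LD1_c4 LD2_c6 LD3_c1) Lrfl Lrfl
theorem f55532 : Led Lsl_gt (LP (LK LD1_c8 LD2_c12 LD3_c34)) = (LP (LK LD1_c4 LD2_c6 LD3_c1)) :=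
  Lre_g IH (LK LD1_c8 LD2_c12 LD3_c34) (LK LD1_c4 LD2_c6 LD3_c1) Lrfl Lrfl
theorem f539742 : Led Lsl_df (LP (LK LD1_c8 LD2_c12 LD3_c34)) = (LP (LK LD1_c5 LD2_c14 LD3_c22)) :=
  Lgr Lrot135 (Lpr_gt (f55532 IH) (Lpe (f55530 IH) (Lpr_et (K2.f60810 IH) (Lpr_gt (f60724 IH) (Lpe (f539740 IH) (Lpr_dt (f539736 IH) (Lpr_gt (f406590 IH) (Lpe (K32.f308430 IH) (Lpr_et (f308433 IH) (Lpe (f539730 IH) (Lpn (LP (LK LD1_c5 LD2_c14 LD3_c22)))))))))))))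
theorem f55829 : Led Lsl_gt (LP (LK LD1_c4 LD2_c5 LD3_c58)) = (LP (LK LD1_c8 LD2_c12 LD3_c34)) :=
  Lre_g IH (LK LD1_c4 LD2_c5 LD3_c58) (LK LD1_c8 LD2_c12 LD3_c34) Lrfl Lrfl
theorem f55881 : Led Lsl_dt (LP (LK LD1_c2 LD2_c0 LD3_c15)) = (LP (LK LD1_c4 LD2_c5 LD3_c58)) :=
  Lre_d IH (LK LD1_c2 LD2_c0 LD3_c15) (LK LD1_c4 LD2_c5 LD3_c58) Lrfl Lrfl
theorem f46853 : Led Lsl_ct (LP (LK LD1_c4 LD2_c4 LD3_c54)) = (LP (LK LD1_c2 LD2_c0 LD3_c15)) :=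
  Lre_c IH (LK LD1_c4 LD2_c4 LD3_c54) (LK LD1_c2 LD2_c0 LD3_c15) Lrfl Lrfl
theorem f73388 : Led Lsl_et (LP (LK LD1_c2 LD2_c0 LD3_c15)) = (LP (LK LD1_c1 LD2_c20 LD3_c57)) :=
  Lgr Lrot158 (Lpe (f46853 IH) (Lpr_ef (K2.f73381 IH) (Lpe (K2.f73387 IH) (Lpn (LP (LK LD1_c1 LD2_c20 LD3_c57))))))
theorem f503106 : Led Lsl_ef (LP (LK LD1_c1 LD2_c28 LD3_c24)) = v1819 :=
  Lgr Lrot88 (Lpr_et (f503104 IH) (Lpn v1819))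
theorem f539754 : v1819 = (LP (LK LD1_c2 LD2_c58 LD3_c18)) :=
  (Llr Lrot114 (Lpe (f503106 IH) (Lpr_gt (K4.f79922 IH) (Lpe (f73388 IH) (Lpr_dt (f55881 IH) (Lpr_gt (f55829 IH) (Lpr_df (f539742 IH) (Lpr_et (f427910 IH) (Lpr_gt (K6.f100241 IH) (Lpe (K8.f163336 IH) (Lpr_gt (K11.f163338 IH) (Lpe (K32.f76084 IH) (Lpn (LP (LK LD1_c2 LD2_c58 LD3_c18))))))))))))))).symm
theorem f539757 : (LP (LK LD1_c2 LD2_c49 LD3_c36)) = K32.v1560 :=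
  Lefun (Lecon (Lfl_af (f503105 IH)) (f539754 IH)) (K32.f497427 IH)
theorem f138864 : Led Lsl_et (LP (LK LD1_c1 LD2_c10 LD3_c53)) = (LP (LK LD1_c2 LD2_c27 LD3_c21)) :=
  Lre_e IH (LK LD1_c1 LD2_c10 LD3_c53) (LK LD1_c2 LD2_c27 LD3_c21) Lrfl Lrfl
theorem f539778 : Led Lsl_gf (LP (LK LD1_c3 LD2_c3 LD3_c27)) = (LP (LK LD1_c2 LD2_c27 LD3_c21)) :=
  Lgr Lrot141 (Lpe (f100455 IH) (Lpe (K7.f100445 IH) (Lpe (K8.f40679 IH) (Lpr_df (K8.f157809 IH) (Lpr_et (f157812 IH) (Lpqs (f539757 IH) (Lpe (K32.f496261 IH) (Lpr_dt (K32.f205769 IH) (Lpe (K11.f205786 IH) (Lpe (K2.f72422 IH) (Lpr_et (f138864 IH) (Lpn (LP (LK LD1_c2 LD2_c27 LD3_c21))))))))))))))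
theorem f72499 : Led Lsl_ct (LP (LK LD1_c2 LD2_c26 LD3_c59)) = (LP (LK LD1_c1 LD2_c23 LD3_c27)) :=
  Lre_c IH (LK LD1_c2 LD2_c26 LD3_c59) (LK LD1_c1 LD2_c23 LD3_c27) Lrfl Lrfl
theorem f9393 : Led Lsl_bt (LP (LK LD1_c0 LD2_c17 LD3_c19)) = (LP (LK LD1_c0 LD2_c38 LD3_c52)) :=
  Lre_b IH (LK LD1_c0 LD2_c17 LD3_c19) (LK LD1_c0 LD2_c38 LD3_c52) Lrfl Lrfl
def v121 : LQ := Led Lsl_ct (LP (LK LD1_c0 LD2_c17 LD3_c21))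
theorem f448985 : Led Lsl_ct (LP (LK LD1_c0 LD2_c17 LD3_c21)) = v121 :=
  Lrfl
theorem f448987 : Led Lsl_cf (LP (LK LD1_c0 LD2_c17 LD3_c21)) = v121 :=
  Lgr Lrot11 (Lpr_ct (f448985 IH) (Lpn v121))
theorem f176789 : Led Lsl_bt (LP (LK LD1_c1 LD2_c2 LD3_c21)) = (LP (LK LD1_c0 LD2_c40 LD3_c34)) :=
  Lgr Lrot127 (Lpr_bf (K9.f176787 IH) (Lpn (LP (LK LD1_c0 LD2_c40 LD3_c34))))
theorem f448991 : Led Lsl_gt (LP (LK LD1_c1 LD2_c10 LD3_c41)) = v121 :=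
  Lgr Lrot149 (Lpe (K9.f100681 IH) (Lpr_gf (K9.f101495 IH) (Lpe (f176789 IH) (Lpr_ct (K10.f80929 IH) (Lpr_gf (K12.f193747 IH) (Lpe (K13.f36890 IH) (Lpr_bt (K35.f37980 IH) (Lpr_gf (K35.f448982 IH) (Lpe (K35.f448978 IH) (Lpr_ct (f448985 IH) (Lpn v121)))))))))))
theorem f172134 : Led Lsl_ct (LP (LK LD1_c2 LD2_c26 LD3_c43)) = (LP (LK LD1_c1 LD2_c20 LD3_c22)) :=
  Lre_c IH (LK LD1_c2 LD2_c26 LD3_c43) (LK LD1_c1 LD2_c20 LD3_c22) Lrfl Lrfl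
theorem f500885 : Led Lsl_cf (LP (LK LD1_c2 LD2_c48 LD3_c19)) = v1696 :=
  Lgr Lrot160 (Lpr_gt (f427519 IH) (Lpe (f172134 IH) (Lpr_bt (K10.f100567 IH) (Lpr_gt (f448991 IH) (Lpe (f448987 IH) (Lpr_gt (K9.f9384 IH) (Lpe (K0.f9352 IH) (Lpr_bt (f9393 IH) (Lpr_gt (f9394 IH) (Lpr_bf (f500883 IH) (Lpn v1696)))))))))))
theorem f101563 : Led Lsl_gt (LP (LK LD1_c1 LD2_c24 LD3_c12)) = (LP (LK LD1_c2 LD2_c47 LD3_c36)) :=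
  Lre_g IH (LK LD1_c1 LD2_c24 LD3_c12) (LK LD1_c2 LD2_c47 LD3_c36) Lrfl Lrfl
theorem f101557 : Led Lsl_ct (LP (LK LD1_c2 LD2_c47 LD3_c36)) = (LP (LK LD1_c4 LD2_c57 LD3_c2)) :=
  Lre_c IH (LK LD1_c2 LD2_c47 LD3_c36) (LK LD1_c4 LD2_c57 LD3_c2) Lrfl Lrfl
def v1388 : LQ := Led Lsl_gf (LP (LK LD1_c1 LD2_c11 LD3_c1))
theorem f495287 : Led Lsl_gf (LP (LK LD1_c1 LD2_c11 LD3_c1)) = v1388 :=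
  Lrfl
theorem f101542 : Led Lsl_at (LP (LK LD1_c2 LD2_c26 LD3_c59)) = (LP (LK LD1_c1 LD2_c11 LD3_c1)) :=
  Lre_a IH (LK LD1_c2 LD2_c26 LD3_c59) (LK LD1_c1 LD2_c11 LD3_c1) Lrfl Lrfl
theorem f495288 : Led Lsl_gt (LP (LK LD1_c4 LD2_c57 LD3_c2)) = v1388 :=
  Lgr Lrot5 (Lpr_ft (K7.f100573 IH) (Lpr_at (f101542 IH) (Lpr_gf (f495287 IH) (Lpn v1388))))
theorem f101741 : Led Lsl_bt (LP (LK LD1_c1 LD2_c10 LD3_c56)) = (LP (LK LD1_c2 LD2_c27 LD3_c21)) :=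
  Lre_b IH (LK LD1_c1 LD2_c10 LD3_c56) (LK LD1_c2 LD2_c27 LD3_c21) Lrfl Lrfl
theorem f539786 : v1388 = (LP (LK LD1_c2 LD2_c27 LD3_c23)) :=
  (Llr Lrot149 (Lpe (f495288 IH) (Lpe (f101557 IH) (Lpe (f101563 IH) (Lpr_bf (f500883 IH) (Lpe (f500885 IH) (Lpe (f75541 IH) (Lpe (f72499 IH) (Lpr_bt (K7.f100574 IH) (Lpr_gf (f539778 IH) (Lpe (f101741 IH) (Lpr_ct (K6.f101713 IH) (Lpn (LP (LK LD1_c2 LD2_c27 LD3_c23))))))))))))))).symm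
theorem f80034 : Led Lsl_et (LP (LK LD1_c0 LD2_c32 LD3_c55)) = (LP (LK LD1_c1 LD2_c11 LD3_c1)) :=
  Lre_e IH (LK LD1_c0 LD2_c32 LD3_c55) (LK LD1_c1 LD2_c11 LD3_c1) Lrfl Lrfl
def v1513 : LQ := Led Lsl_et (LP (LK LD1_c1 LD2_c20 LD3_c48))
theorem f495987 : Led Lsl_et (LP (LK LD1_c1 LD2_c20 LD3_c48)) = v1513 :=
  Lrfl
theorem f53222 : Led Lsl_bt (LP (LK LD1_c2 LD2_c24 LD3_c49)) = (LP (LK LD1_c1 LD2_c9 LD3_c38)) :=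
  Lre_b IH (LK LD1_c2 LD2_c24 LD3_c49) (LK LD1_c1 LD2_c9 LD3_c38) Lrfl Lrfl
theorem f53223 : Led Lsl_dt (LP (LK LD1_c2 LD2_c31 LD3_c17)) = (LP (LK LD1_c2 LD2_c24 LD3_c49)) :=
  Lgr Lrot79 (Lpe (K32.f53221 IH) (Lpr_df (K9.f53210 IH) (Lpe (f53222 IH) (Lpn (LP (LK LD1_c2 LD2_c24 LD3_c49))))))
theorem f386870 : Led Lsl_at (LP (LK LD1_c4 LD2_c58 LD3_c48)) = (LP (LK LD1_c2 LD2_c31 LD3_c17)) :=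
  Lgr Lrot51 (Lpr_df (K28.f386868 IH) (Lpe (K18.f53225 IH) (Lpe (f53223 IH) (Lpn (LP (LK LD1_c2 LD2_c31 LD3_c17))))))
theorem f427589 : Led Lsl_gt (LP (LK LD1_c5 LD2_c14 LD3_c37)) = (LP (LK LD1_c4 LD2_c58 LD3_c20)) :=
  Lgr Lrot5 (Lpe (K28.f386887 IH) (Lpr_at (f386870 IH) (Lpr_gf (K32.f427524 IH) (Lpn (LP (LK LD1_c4 LD2_c58 LD3_c20))))))
theorem f205123 : Led Lsl_at (LP (LK LD1_c3 LD2_c10 LD3_c24)) = (LP (LK LD1_c1 LD2_c31 LD3_c25)) :=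
  Lre_a IH (LK LD1_c3 LD2_c10 LD3_c24) (LK LD1_c1 LD2_c31 LD3_c25) Lrfl Lrfl
theorem f205124 : Led Lsl_ef (LP (LK LD1_c3 LD2_c10 LD3_c24)) = (LP (LK LD1_c4 LD2_c53 LD3_c50)) :=
  Lgr Lrot20 (Lpr_at (f205123 IH) (Lpr_et (K11.f205121 IH) (Lpr_at (K27.f180678 IH) (Lpn (LP (LK LD1_c4 LD2_c53 LD3_c50))))))
theorem f495989 : Led Lsl_gf (LP (LK LD1_c3 LD2_c10 LD3_c24)) = v1513 :=
  Lgr Lrot141 (Lpr_ef (f205124 IH) (Lpr_dt (f180680 IH) (Lpr_gt (f427589 IH) (Lpe (K32.f139361 IH) (Lpr_et (K32.f139360 IH) (Lpe (K6.f139339 IH) (Lpr_dt (K6.f26449 IH) (Lpr_gt (K0.f23455 IH) (Lpe (K4.f80030 IH) (Lpr_et (f495987 IH) (Lpn v1513)))))))))))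
theorem f539790 : Led Lsl_df (LP (LK LD1_c4 LD2_c58 LD3_c31)) = (LP (LK LD1_c3 LD2_c10 LD3_c24)) :=
  Lgr Lrot135 (Lpr_gt (K32.f74542 IH) (Lpe (K4.f74319 IH) (Lpr_et (K6.f99530 IH) (Lpq (f539786 IH) (Lpe (f495287 IH) (Lpe (f80034 IH) (Lpr_dt (K6.f26449 IH) (Lpr_gt (K0.f23455 IH) (Lpe (K4.f80030 IH) (Lpr_et (f495987 IH) (Lpe (f495989 IH) (Lpn (LP (LK LD1_c3 LD2_c10 LD3_c24))))))))))))))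
theorem f539802 : Led Lsl_gf (LP (LK LD1_c2 LD2_c49 LD3_c20)) = (LP (LK LD1_c3 LD2_c10 LD3_c24)) :=
  Lgr Lrot147 (Lpr_ct (K32.f60944 IH) (Lpr_gt (K4.f60937 IH) (Lpe (K2.f72464 IH) (Lpe (K2.f72459 IH) (Lpe (K2.f22838 IH) (Lpe (K2.f22841 IH) (Lpr_cf (K4.f74538 IH) (Lpe (K32.f74542 IH) (Lpr_df (f539790 IH) (Lpn (LP (LK LD1_c3 LD2_c10 LD3_c24))))))))))))
theorem f26541 : Led Lsl_dt (LP (LK LD1_c1 LD2_c22 LD3_c14)) = (LP (LK LD1_c2 LD2_c51 LD3_c18)) :=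
  Lgr Lrot27 (Lpe (K7.f22819 IH) (Lpe (K7.f26540 IH) (Lpe (K2.f26539 IH) (Lpe (K2.f20410 IH) (Lpe (K6.f26538 IH) (Lpr_gt (K0.f23682 IH) (Lpr_ct (K2.f26478 IH) (Lpr_gt (K7.f26479 IH) (Lpr_ct (K7.f26524 IH) (Lpn (LP (LK LD1_c2 LD2_c51 LD3_c18))))))))))))
def v1599 : LQ := Led Lsl_et (LP (LK LD1_c1 LD2_c22 LD3_c14))
theorem f500290 : Led Lsl_et (LP (LK LD1_c1 LD2_c22 LD3_c14)) = v1599 :=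
  Lrfl
theorem f500292 : Led Lsl_ef (LP (LK LD1_c1 LD2_c22 LD3_c14)) = v1599 :=
  Lgr Lrot88 (Lpr_et (f500290 IH) (Lpn v1599))
def v428 : LQ := Led Lsl_et (LP (LK LD1_c0 LD2_c38 LD3_c6))
theorem f452777 : Led Lsl_et (LP (LK LD1_c0 LD2_c38 LD3_c6)) = v428 :=
  Lrfl
theorem f500293 : Led Lsl_bt v428 = v1599 :=
  Lgr Lrot119 (Lpe (f452777 IH) (Lpe (K8.f22818 IH) (Lpr_ef (f500292 IH) (Lpn v1599))))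
def v466 : LQ := Led Lsl_ct (LP (LK LD1_c0 LD2_c41 LD3_c6))
theorem f453485 : Led Lsl_ct (LP (LK LD1_c0 LD2_c41 LD3_c6)) = v466 :=
  Lrfl
theorem f453488 : Led Lsl_ef (LP (LK LD1_c1 LD2_c4 LD3_c26)) = v466 :=
  Lgr Lrot28 (Lpr_ct (K12.f211063 IH) (Lpr_et (K10.f59525 IH) (Lpr_ct (f453485 IH) (Lpn v466))))
def v952 : LQ := Led Lsl_et v121
theorem f490707 : Led Lsl_et v121 = v952 :=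
  Lrfl
theorem f490708 : Led Lsl_cf K35.v122 = v952 :=
  Lgr Lrot39 (Lpe (K35.f448996 IH) (Lpr_ct (f448985 IH) (Lpr_et (f490707 IH) (Lpn v952))))
theorem f490714 : Led Lsl_gt v466 = v952 :=
  Lgr Lrot150 (Lpe (f453485 IH) (Lpe (K10.f59017 IH) (Lpe (K10.f186453 IH) (Lpe (K11.f205154 IH) (Lpr_ct (K11.f25944 IH) (Lpr_gt (f452559 IH) (Lpe (f452554 IH) (Lpr_df (f448995 IH) (Lpr_cf (f490708 IH) (Lpn v952))))))))))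
theorem f448988 : Led Lsl_ff (LP (LK LD1_c1 LD2_c5 LD3_c15)) = v121 :=
  Lgr Lrot23 (Lpr_ct (K10.f26690 IH) (Lpr_ft (K35.f313819 IH) (Lpr_ct (f448985 IH) (Lpn v121))))
theorem f448992 : Led Lsl_ft (LP (LK LD1_c1 LD2_c5 LD3_c15)) = v121 :=
  Lgr Lrot48 (Lpr_ff (f448988 IH) (Lpn v121))
def v341 : LQ := Led Lsl_ct (LP (LK LD1_c0 LD2_c29 LD3_c52))
theorem f452269 : Led Lsl_ct (LP (LK LD1_c0 LD2_c29 LD3_c52)) = v341 :=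
  Lrfl
theorem f452272 : Led Lsl_ff (LP (LK LD1_c0 LD2_c39 LD3_c33)) = v341 :=
  Lgr Lrot23 (Lpr_ct (K9.f20577 IH) (Lpr_ft (K19.f313801 IH) (Lpr_ct (f452269 IH) (Lpn v341))))
def v386 : LQ := Led Lsl_ct (LP (LK LD1_c0 LD2_c36 LD3_c57))
theorem f452560 : Led Lsl_ct (LP (LK LD1_c0 LD2_c36 LD3_c57)) = v386 :=
  Lrfl
theorem f452271 : Led Lsl_cf (LP (LK LD1_c0 LD2_c29 LD3_c52)) = v341 :=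
  Lgr Lrot11 (Lpr_ct (f452269 IH) (Lpn v341))
theorem f452562 : Led Lsl_ef v341 = v386 :=
  Lgr Lrot28 (Lpe (f452271 IH) (Lpe (K9.f9497 IH) (Lpr_ct (f452560 IH) (Lpn v386))))
theorem f490710 : Led Lsl_ff v386 = v952 :=
  Lgr Lrot72 (Lpe (f452562 IH) (Lpe (f452272 IH) (Lpe (K35.f176576 IH) (Lpr_ft (f448992 IH) (Lpr_et (f490707 IH) (Lpn v952))))))
theorem f452561 : Led Lsl_cf (LP (LK LD1_c0 LD2_c36 LD3_c57)) = v386 :=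
  Lgr Lrot11 (Lpr_ct (f452560 IH) (Lpn v386))
theorem f448997 : Led Lsl_ff (LP (LK LD1_c0 LD2_c36 LD3_c57)) = K35.v122 :=
  Lgr Lrot72 (Lpe (K11.f176915 IH) (Lpe (K19.f313805 IH) (Lpr_et (K0.f20570 IH) (Lpr_ft (K35.f313819 IH) (Lpr_et (K35.f448993 IH) (Lpn K35.v122))))))
theorem f449002 : Led Lsl_ft (LP (LK LD1_c0 LD2_c36 LD3_c57)) = K35.v122 :=
  Lgr Lrot48 (Lpr_ff (f448997 IH) (Lpn K35.v122))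
theorem f490711 : Led Lsl_ct K35.v122 = v952 :=
  Lgr Lrot40 (Lpe (f449002 IH) (Lpr_cf (f452561 IH) (Lpr_ff (f490710 IH) (Lpn v952))))
theorem f536953 : v952 = (LP (LK LD1_c0 LD2_c16 LD3_c61)) :=
  Lefun (Lecon (f490711 IH) (K35.f536782 IH)) (f80888 IH)
theorem f537141 : v466 = (LP (LK LD1_c0 LD2_c38 LD3_c6)) :=
  Lefun (Lecon (Lfl_gt (f490714 IH)) (f536953 IH)) (Lfl_gt (f22817 IH))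
theorem f537333 : (LP (LK LD1_c1 LD2_c4 LD3_c26)) = v428 :=
  Lefun (Lecon (Lfl_ef (f453488 IH)) (f537141 IH)) (f452777 IH)
theorem f537720 : v1599 = (LP (LK LD1_c2 LD2_c14 LD3_c39)) :=
  Lefun (Lecon (f500293 IH) (f537333 IH).symm) (f211060 IH)
theorem f211065 : Led Lsl_gt (LP (LK LD1_c2 LD2_c14 LD3_c39)) = (LP (LK LD1_c4 LD2_c35 LD3_c4)) :=
  Lre_g IH (LK LD1_c2 LD2_c14 LD3_c39) (LK LD1_c4 LD2_c35 LD3_c4) Lrfl Lrfl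
theorem f539804 : Led Lsl_ef (LP (LK LD1_c4 LD2_c35 LD3_c4)) = (LP (LK LD1_c2 LD2_c27 LD3_c15)) :=
  Lgr Lrot17 (Lpe (f211065 IH) (Lpq (f537720 IH) (Lpe (f500290 IH) (Lpr_dt (f26541 IH) (Lpr_gf (K7.f156782 IH) (Lpr_df (K32.f210036 IH) (Lpr_gf (f539802 IH) (Lpr_ef (f205124 IH) (Lpr_dt (f180680 IH) (Lpr_gf (K32.f427595 IH) (Lpe (K32.f161210 IH) (Lpn (LP (LK LD1_c2 LD2_c27 LD3_c15))))))))))))))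
theorem f387155 : Led Lsl_ft (LP (LK LD1_c1 LD2_c10 LD3_c51)) = (LP (LK LD1_c2 LD2_c27 LD3_c15)) :=
  Lre_f IH (LK LD1_c1 LD2_c10 LD3_c51) (LK LD1_c2 LD2_c27 LD3_c15) Lrfl Lrfl
theorem f79678 : Led Lsl_et (LP (LK LD1_c0 LD2_c32 LD3_c51)) = (LP (LK LD1_c1 LD2_c10 LD3_c51)) :=
  Lre_e IH (LK LD1_c0 LD2_c32 LD3_c51) (LK LD1_c1 LD2_c10 LD3_c51) Lrfl Lrfl
theorem f138918 : Led Lsl_ft (LP (LK LD1_c1 LD2_c10 LD3_c52)) = (LP (LK LD1_c0 LD2_c32 LD3_c51)) :=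
  Lre_f IH (LK LD1_c1 LD2_c10 LD3_c52) (LK LD1_c0 LD2_c32 LD3_c51) Lrfl Lrfl
theorem f138894 : Led Lsl_et (LP (LK LD1_c2 LD2_c27 LD3_c16)) = (LP (LK LD1_c1 LD2_c10 LD3_c52)) :=
  Lre_e IH (LK LD1_c2 LD2_c27 LD3_c16) (LK LD1_c1 LD2_c10 LD3_c52) Lrfl Lrfl
theorem f539814 : Led Lsl_ft (LP (LK LD1_c4 LD2_c35 LD3_c4)) = (LP (LK LD1_c2 LD2_c27 LD3_c16)) :=
  Lgr Lrot86 (Lpr_ef (f539804 IH) (Lpe (f387155 IH) (Lpe (f79678 IH) (Lpe (f138918 IH) (Lpe (f138894 IH) (Lpn (LP (LK LD1_c2 LD2_c27 LD3_c16))))))))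
theorem f500368 : Led Lsl_gt (LP (LK LD1_c4 LD2_c35 LD3_c4)) = v1613 :=
  Lgr Lrot46 (Lpe (f211065 IH) (Lpe (f449305 IH) (Lpr_at (f500365 IH) (Lpn v1613))))
theorem f438132 : Led Lsl_at (LP (LK LD1_c2 LD2_c27 LD3_c16)) = (LP (LK LD1_c1 LD2_c10 LD3_c56)) :=
  Lre_a IH (LK LD1_c2 LD2_c27 LD3_c16) (LK LD1_c1 LD2_c10 LD3_c56) Lrfl Lrfl
theorem f72493 : Led Lsl_gt (LP (LK LD1_c2 LD2_c27 LD3_c26)) = (LP (LK LD1_c1 LD2_c10 LD3_c56)) :=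
  Lre_g IH (LK LD1_c2 LD2_c27 LD3_c26) (LK LD1_c1 LD2_c10 LD3_c56) Lrfl Lrfl
theorem f539826 : v1613 = (LP (LK LD1_c2 LD2_c27 LD3_c26)) :=
  (Llr Lrot5 (Lpe (f500368 IH) (Lpr_ft (f539814 IH) (Lpr_at (f438132 IH) (Lpe (f72493 IH) (Lpn (LP (LK LD1_c2 LD2_c27 LD3_c26)))))))).symm
theorem f211079 : Led Lsl_at (LP (LK LD1_c4 LD2_c35 LD3_c5)) = (LP (LK LD1_c2 LD2_c14 LD3_c39)) :=
  Lre_a IH (LK LD1_c4 LD2_c35 LD3_c5) (LK LD1_c2 LD2_c14 LD3_c39) Lrfl Lrfl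
theorem f500367 : Led Lsl_ff (LP (LK LD1_c4 LD2_c35 LD3_c5)) = v1613 :=
  Lgr Lrot30 (Lpr_at (f211079 IH) (Lpe (f449305 IH) (Lpr_at (f500365 IH) (Lpn v1613))))
theorem f500371 : Led Lsl_ft (LP (LK LD1_c4 LD2_c35 LD3_c5)) = v1613 :=
  Lgr Lrot48 (Lpr_ff (f500367 IH) (Lpn v1613))
theorem f211070 : Led Lsl_at (LP (LK LD1_c2 LD2_c14 LD3_c39)) = (LP (LK LD1_c4 LD2_c35 LD3_c5)) :=
  Lre_a IH (LK LD1_c2 LD2_c14 LD3_c39) (LK LD1_c4 LD2_c35 LD3_c5) Lrfl Lrfl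
theorem f211071 : Led Lsl_at (LP (LK LD1_c2 LD2_c52 LD3_c55)) = (LP (LK LD1_c1 LD2_c22 LD3_c32)) :=
  Lre_a IH (LK LD1_c2 LD2_c52 LD3_c55) (LK LD1_c1 LD2_c22 LD3_c32) Lrfl Lrfl
theorem f211072 : Led Lsl_ct (LP (LK LD1_c4 LD2_c35 LD3_c5)) = (LP (LK LD1_c2 LD2_c52 LD3_c55)) :=
  Lgr Lrot111 (Lpe (f211070 IH) (Lpr_cf (f211068 IH) (Lpe (f211071 IH) (Lpn (LP (LK LD1_c2 LD2_c52 LD3_c55))))))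
theorem f211084 : Led Lsl_cf (LP (LK LD1_c4 LD2_c35 LD3_c5)) = (LP (LK LD1_c2 LD2_c52 LD3_c55)) :=
  Lgr Lrot11 (Lpr_ct (f211072 IH) (Lpn (LP (LK LD1_c2 LD2_c52 LD3_c55))))
def v1685 : LQ := Led Lsl_ft (LP (LK LD1_c1 LD2_c23 LD3_c56))
theorem f500761 : Led Lsl_ft (LP (LK LD1_c1 LD2_c23 LD3_c56)) = v1685 :=
  Lrfl
theorem f500763 : Led Lsl_ff (LP (LK LD1_c1 LD2_c23 LD3_c56)) = v1685 :=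
  Lgr Lrot3 (Lpr_ft (f500761 IH) (Lpn v1685))
def v1681 : LQ := Led Lsl_at (LP (LK LD1_c1 LD2_c23 LD3_c56))
theorem f500747 : Led Lsl_at (LP (LK LD1_c1 LD2_c23 LD3_c56)) = v1681 :=
  Lrfl
theorem f500748 : Led Lsl_af (LP (LK LD1_c1 LD2_c23 LD3_c56)) = v1681 :=
  Lgr Lrot0 (Lpr_at (f500747 IH) (Lpn v1681))
theorem f428255 : Led Lsl_at (LP (LK LD1_c1 LD2_c23 LD3_c47)) = (LP (LK LD1_c0 LD2_c38 LD3_c46)) :=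
  Lre_a IH (LK LD1_c1 LD2_c23 LD3_c47) (LK LD1_c0 LD2_c38 LD3_c46) Lrfl Lrfl
theorem f428177 : Led Lsl_gt (LP (LK LD1_c1 LD2_c23 LD3_c56)) = (LP (LK LD1_c0 LD2_c38 LD3_c46)) :=
  Lre_g IH (LK LD1_c1 LD2_c23 LD3_c56) (LK LD1_c0 LD2_c38 LD3_c46) Lrfl Lrfl
theorem f500691 : Led Lsl_gf (LP (LK LD1_c1 LD2_c23 LD3_c56)) = v1672 :=
  Lgr Lrot47 (Lpr_gt (f428177 IH) (Lpe (f428255 IH) (Lpr_ff (f500688 IH) (Lpn v1672))))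
theorem f500689 : Led Lsl_at (LP (LK LD1_c1 LD2_c23 LD3_c58)) = v1672 :=
  Lgr Lrot66 (Lpe (f386760 IH) (Lpe (f428255 IH) (Lpr_ff (f500688 IH) (Lpn v1672))))
def v443 : LQ := Led Lsl_gt (LP (LK LD1_c0 LD2_c38 LD3_c46))
theorem f452858 : Led Lsl_gt (LP (LK LD1_c0 LD2_c38 LD3_c46)) = v443 :=
  Lrfl
theorem f500701 : Led Lsl_gt v443 = v1672 :=
  Lgr Lrot46 (Lpe (f452858 IH) (Lpr_ft (f386760 IH) (Lpr_at (f500689 IH) (Lpn v1672))))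
theorem f500749 : Led Lsl_ft v443 = v1681 :=
  Lgr Lrot2 (Lpr_gt (f500701 IH) (Lpe (f500691 IH) (Lpr_af (f500748 IH) (Lpn v1681))))
theorem f500750 : Led Lsl_ff v443 = v1681 :=
  Lgr Lrot3 (Lpr_ft (f500749 IH) (Lpn v1681))
theorem f500764 : Led Lsl_at v443 = v1685 :=
  Lgr Lrot66 (Lpr_ff (f500750 IH) (Lpe (f500747 IH) (Lpr_ff (f500763 IH) (Lpn v1685))))
theorem f211089 : Led Lsl_at (LP (LK LD1_c1 LD2_c22 LD3_c32)) = (LP (LK LD1_c2 LD2_c52 LD3_c55)) :=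
  Lre_a IH (LK LD1_c1 LD2_c22 LD3_c32) (LK LD1_c2 LD2_c52 LD3_c55) Lrfl Lrfl
theorem f539219 : v443 = (LP (LK LD1_c1 LD2_c22 LD3_c32)) :=
  Lefun (Lecon (Lfl_gt (f500701 IH)) (f539211 IH)) (Lfl_gt (f24262 IH))
theorem f539223 : v1685 = (LP (LK LD1_c2 LD2_c52 LD3_c55)) :=
  Lefun (Lecon (f500764 IH) (f539219 IH)) (f211089 IH)
def v1683 : LQ := Led Lsl_ct (LP (LK LD1_c1 LD2_c23 LD3_c56))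
theorem f500755 : Led Lsl_ct (LP (LK LD1_c1 LD2_c23 LD3_c56)) = v1683 :=
  Lrfl
theorem f500756 : Led Lsl_cf (LP (LK LD1_c1 LD2_c23 LD3_c56)) = v1683 :=
  Lgr Lrot11 (Lpr_ct (f500755 IH) (Lpn v1683))
theorem f539836 : v1683 = (LP (LK LD1_c2 LD2_c27 LD3_c26)) :=
  (Llr Lrot108 (Lpe (f500756 IH) (Lpr_ft (f500761 IH) (Lpqs (f539223 IH) (Lpe (f211084 IH) (Lpr_ft (f500371 IH) (Lpqs (f539826 IH) (Lpn (LP (LK LD1_c2 LD2_c27 LD3_c26)))))))))).symm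
theorem f500697 : Led Lsl_dt (LP (LK LD1_c2 LD2_c55 LD3_c60)) = (LP (LK LD1_c1 LD2_c23 LD3_c56)) :=
  Lre_d IH (LK LD1_c2 LD2_c55 LD3_c60) (LK LD1_c1 LD2_c23 LD3_c56) Lrfl Lrfl
theorem f500695 : Led Lsl_ct (LP (LK LD1_c5 LD2_c59 LD3_c11)) = (LP (LK LD1_c2 LD2_c55 LD3_c60)) :=
  Lre_c IH (LK LD1_c5 LD2_c59 LD3_c11) (LK LD1_c2 LD2_c55 LD3_c60) Lrfl Lrfl
theorem f500694 : Led Lsl_dt (LP (LK LD1_c11 LD2_c42 LD3_c53)) = (LP (LK LD1_c5 LD2_c59 LD3_c11)) :=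
  Lre_d IH (LK LD1_c11 LD2_c42 LD3_c53) (LK LD1_c5 LD2_c59 LD3_c11) Lrfl Lrfl
theorem f26642 : Led Lsl_ct (LP (LK LD1_c4 LD2_c35 LD3_c6)) = (LP (LK LD1_c9 LD2_c6 LD3_c58)) :=
  Lre_c IH (LK LD1_c4 LD2_c35 LD3_c6) (LK LD1_c9 LD2_c6 LD3_c58) Lrfl Lrfl
theorem f211075 : Led Lsl_dt (LP (LK LD1_c9 LD2_c6 LD3_c58)) = (LP (LK LD1_c16 LD2_c59 LD3_c7)) :=
  Lre_d IH (LK LD1_c9 LD2_c6 LD3_c58) (LK LD1_c16 LD2_c59 LD3_c7) Lrfl Lrfl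
theorem f539844 : Led Lsl_cf (LP (LK LD1_c11 LD2_c42 LD3_c53)) = (LP (LK LD1_c16 LD2_c59 LD3_c7)) :=
  Lgr Lrot116 (Lpr_dt (f500694 IH) (Lpr_ct (f500695 IH) (Lpr_dt (f500697 IH) (Lpr_ct (f500755 IH) (Lpqs (f539836 IH) (Lpq (f539826 IH) (Lpe (f500365 IH) (Lpr_ff (f449305 IH) (Lpr_dt (f211074 IH) (Lpr_ct (f26642 IH) (Lpr_dt (f211075 IH) (Lpn (LP (LK LD1_c16 LD2_c59 LD3_c7))))))))))))))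
theorem f211076 : Led Lsl_dt (LP (LK LD1_c2 LD2_c52 LD3_c56)) = (LP (LK LD1_c1 LD2_c22 LD3_c32)) :=
  Lre_d IH (LK LD1_c2 LD2_c52 LD3_c56) (LK LD1_c1 LD2_c22 LD3_c32) Lrfl Lrfl
theorem f180273 : Led Lsl_bt (LP (LK LD1_c4 LD2_c35 LD3_c13)) = (LP (LK LD1_c2 LD2_c14 LD3_c48)) :=
  Lre_b IH (LK LD1_c4 LD2_c35 LD3_c13) (LK LD1_c2 LD2_c14 LD3_c48) Lrfl Lrfl
theorem f449296 : Led Lsl_bt (LP (LK LD1_c1 LD2_c22 LD3_c33)) = (LP (LK LD1_c2 LD2_c52 LD3_c56)) :=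
  Lre_b IH (LK LD1_c1 LD2_c22 LD3_c33) (LK LD1_c2 LD2_c52 LD3_c56) Lrfl Lrfl
theorem f449297 : Led Lsl_ff (LP (LK LD1_c4 LD2_c35 LD3_c13)) = (LP (LK LD1_c2 LD2_c52 LD3_c56)) :=
  Lgr Lrot25 (Lpr_bt (f180273 IH) (Lpr_ft (f449294 IH) (Lpr_bt (f449296 IH) (Lpn (LP (LK LD1_c2 LD2_c52 LD3_c56))))))
theorem f539855 : Led Lsl_af (LP (LK LD1_c2 LD2_c55 LD3_c60)) = (LP (LK LD1_c4 LD2_c35 LD3_c13)) :=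
  Lgr Lrot109 (Lpe (f500695 IH) (Lpe (f500694 IH) (Lpr_cf (f539844 IH) (Lpe (f211075 IH) (Lpe (f26642 IH) (Lpe (f211074 IH) (Lpr_cf (f211068 IH) (Lpe (f211076 IH) (Lpe (f449297 IH) (Lpn (LP (LK LD1_c4 LD2_c35 LD3_c13))))))))))))
theorem f541524 : Led Lsl_bf (LP (LK LD1_c4 LD2_c37 LD3_c36)) = (LP (LK LD1_c2 LD2_c55 LD3_c60)) :=
  Lgr Lrot81 (Lpr_at (f541496 IH) (Lpr_bt (f186497 IH) (Lpe (f449284 IH) (Lpr_bt (f449291 IH) (Lpe (f539855 IH) (Lpn (LP (LK LD1_c2 LD2_c55 LD3_c60))))))))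
theorem f500692 : Led Lsl_dt (LP (LK LD1_c1 LD2_c23 LD3_c56)) = (LP (LK LD1_c2 LD2_c55 LD3_c60)) :=
  Lre_d IH (LK LD1_c1 LD2_c23 LD3_c56) (LK LD1_c2 LD2_c55 LD3_c60) Lrfl Lrfl
def v1682 : LQ := Led Lsl_bt (LP (LK LD1_c1 LD2_c23 LD3_c56))
theorem f500751 : Led Lsl_bt (LP (LK LD1_c1 LD2_c23 LD3_c56)) = v1682 :=
  Lrfl
theorem f500752 : Led Lsl_bf (LP (LK LD1_c1 LD2_c23 LD3_c56)) = v1682 :=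
  Lgr Lrot24 (Lpr_bt (f500751 IH) (Lpn v1682))
theorem f541531 : (LP (LK LD1_c2 LD2_c15 LD3_c60)) = v1682 :=
  (Llr Lrot79 (Lpe (f537983 IH) (Lpr_bf (f541524 IH) (Lpe (f500692 IH) (Lpr_bf (f500752 IH) (Lpn v1682)))))).symm
def v1665 : LQ := Led Lsl_et (LP (LK LD1_c1 LD2_c23 LD3_c34))
theorem f500635 : Led Lsl_et (LP (LK LD1_c1 LD2_c23 LD3_c34)) = v1665 :=
  Lrfl
def v1642 : LQ := Led Lsl_et (LP (LK LD1_c1 LD2_c23 LD3_c3))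
theorem f500511 : Led Lsl_et (LP (LK LD1_c1 LD2_c23 LD3_c3)) = v1642 :=
  Lrfl
theorem f500513 : Led Lsl_ef (LP (LK LD1_c1 LD2_c23 LD3_c3)) = v1642 :=
  Lgr Lrot88 (Lpr_et (f500511 IH) (Lpn v1642))
theorem f500636 : Led Lsl_af v1642 = v1665 :=
  Lgr Lrot50 (Lpe (f500513 IH) (Lpr_at (K8.f163158 IH) (Lpr_et (f500635 IH) (Lpn v1665))))
theorem f537757 : (LP (LK LD1_c1 LD2_c22 LD3_c32)) = v1665 :=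
  Lefun (Lecon (Lfl_ef (f496213 IH)) (f537353 IH).symm) (f500635 IH)
theorem f537904 : v1642 = (LP (LK LD1_c2 LD2_c52 LD3_c55)) :=
  Lefun (Lecon (Lfl_af (f500636 IH)) (f537757 IH).symm) (f211089 IH)
theorem f82007 : Led Lsl_et (LP (LK LD1_c0 LD2_c38 LD3_c28)) = (LP (LK LD1_c1 LD2_c23 LD3_c6)) :=
  Lre_e IH (LK LD1_c0 LD2_c38 LD3_c28) (LK LD1_c1 LD2_c23 LD3_c6) Lrfl Lrfl
theorem f500514 : Led Lsl_bt (LP (LK LD1_c1 LD2_c23 LD3_c6)) = v1642 :=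
  Lgr Lrot119 (Lpe (f82007 IH) (Lpe (K6.f71958 IH) (Lpr_ef (f500513 IH) (Lpn v1642))))
def v1645 : LQ := Led Lsl_ft (LP (LK LD1_c1 LD2_c23 LD3_c6))
theorem f500520 : Led Lsl_ft (LP (LK LD1_c1 LD2_c23 LD3_c6)) = v1645 :=
  Lrfl
theorem f500521 : Led Lsl_ff (LP (LK LD1_c1 LD2_c23 LD3_c6)) = v1645 :=
  Lgr Lrot3 (Lpr_ft (f500520 IH) (Lpn v1645))
theorem f541536 : v1645 = (LP (LK LD1_c2 LD2_c15 LD3_c60)) :=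
  (Llr Lrot25 (Lpe (f500521 IH) (Lpr_bt (f500514 IH) (Lpqs (f537904 IH) (Lpq (f539223 IH) (Lpe (f500763 IH) (Lpr_bt (f500751 IH) (Lpq (f541531 IH) (Lpn (LP (LK LD1_c2 LD2_c15 LD3_c60))))))))))).symm
def v1264 : LQ := Led Lsl_et (LP (LK LD1_c1 LD2_c4 LD3_c32))
theorem f494394 : Led Lsl_et (LP (LK LD1_c1 LD2_c4 LD3_c32)) = v1264 :=
  Lrfl
theorem f71961 : Led Lsl_et (LP (LK LD1_c1 LD2_c23 LD3_c6)) = (LP (LK LD1_c0 LD2_c38 LD3_c28)) :=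
  Lre_e IH (LK LD1_c1 LD2_c23 LD3_c6) (LK LD1_c0 LD2_c38 LD3_c28) Lrfl Lrfl
theorem f494395 : Led Lsl_af (LP (LK LD1_c1 LD2_c23 LD3_c6)) = v1264 :=
  Lgr Lrot50 (Lpr_et (f71961 IH) (Lpr_at (K8.f161706 IH) (Lpr_et (f494394 IH) (Lpn v1264))))
theorem f541541 : v1264 = (LP (LK LD1_c2 LD2_c14 LD3_c45)) :=
  (Llr Lrot45 (Lpe (f494395 IH) (Lpr_ft (f500520 IH) (Lpqs (f541536 IH) (Lpq (f541487 IH) (Lpe (f500408 IH) (Lpe (f449858 IH) (Lpn (LP (LK LD1_c2 LD2_c14 LD3_c45)))))))))).symm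
def v1644 : LQ := Led Lsl_gf (LP (LK LD1_c1 LD2_c23 LD3_c6))
theorem f500517 : Led Lsl_gf (LP (LK LD1_c1 LD2_c23 LD3_c6)) = v1644 :=
  Lrfl
theorem f541553 : K35.v1622 = v1644 :=
  (Llr Lrot5 (Lpe (K35.f500401 IH) (Lpe (f449858 IH) (Lpq (f541541 IH) (Lpe (f494395 IH) (Lpr_gf (f500517 IH) (Lpn v1644))))))).symm
theorem f71962 : Led Lsl_dt (LP (LK LD1_c1 LD2_c23 LD3_c6)) = (LP (LK LD1_c2 LD2_c54 LD3_c14)) :=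
  Lre_d IH (LK LD1_c1 LD2_c23 LD3_c6) (LK LD1_c2 LD2_c54 LD3_c14) Lrfl Lrfl
theorem f542685 : Led Lsl_gf (LP (LK LD1_c4 LD2_c39 LD3_c20)) = (LP (LK LD1_c2 LD2_c54 LD3_c14)) :=
  Lgr Lrot134 (Lpr_df (f542680 IH) (Lpr_et (f157175 IH) (Lpr_gt (f22420 IH) (Lpe (K28.f56184 IH) (Lpr_dt (K8.f60956 IH) (Lpe (K8.f157154 IH) (Lpe (K7.f141270 IH) (Lpr_et (K35.f157174 IH) (Lpqs (K35.f541554 IH) (Lpqs (f541553 IH) (Lpe (f500517 IH) (Lpr_dt (f71962 IH) (Lpn (LP (LK LD1_c2 LD2_c54 LD3_c14)))))))))))))))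
theorem f100657 : Led Lsl_bt (LP (LK LD1_c2 LD2_c28 LD3_c2)) = (LP (LK LD1_c5 LD2_c0 LD3_c34)) :=
  Lre_b IH (LK LD1_c2 LD2_c28 LD3_c2) (LK LD1_c5 LD2_c0 LD3_c34) Lrfl Lrfl
theorem f175391 : Led Lsl_df (LP (LK LD1_c2 LD2_c57 LD3_c61)) = (LP (LK LD1_c5 LD2_c0 LD3_c34)) :=
  Lgr Lrot12 (Lpr_bt (f175390 IH) (Lpr_dt (K9.f175386 IH) (Lpr_bt (f100657 IH) (Lpn (LP (LK LD1_c5 LD2_c0 LD3_c34))))))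
theorem f101529 : Led Lsl_bt (LP (LK LD1_c4 LD2_c39 LD3_c20)) = (LP (LK LD1_c2 LD2_c16 LD3_c39)) :=
  Lre_b IH (LK LD1_c4 LD2_c39 LD3_c20) (LK LD1_c2 LD2_c16 LD3_c39) Lrfl Lrfl
theorem f268416 : Led Lsl_ft (LP (LK LD1_c2 LD2_c57 LD3_c61)) = (LP (LK LD1_c4 LD2_c39 LD3_c20)) :=
  Lgr Lrot75 (Lpe (f175409 IH) (Lpr_ff (K15.f268411 IH) (Lpe (f101529 IH) (Lpn (LP (LK LD1_c4 LD2_c39 LD3_c20))))))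
theorem f542672 : Led Lsl_dt (LP (LK LD1_c4 LD2_c39 LD3_c20)) = (LP (LK LD1_c4 LD2_c39 LD3_c48)) :=
  Lgr Lrot60 (Lpe (f268416 IH) (Lpr_df (f175391 IH) (Lpr_ff (f542663 IH) (Lpn (LP (LK LD1_c4 LD2_c39 LD3_c48))))))
theorem f186112 : Led Lsl_ct (LP (LK LD1_c9 LD2_c51 LD3_c26)) = (LP (LK LD1_c5 LD2_c0 LD3_c34)) :=
  Lre_c IH (LK LD1_c9 LD2_c51 LD3_c26) (LK LD1_c5 LD2_c0 LD3_c34) Lrfl Lrfl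
theorem f204903 : Led Lsl_ef (LP (LK LD1_c2 LD2_c29 LD3_c50)) = (LP (LK LD1_c4 LD2_c27 LD3_c3)) :=
  Lgr Lrot28 (Lpr_ct (K12.f204902 IH) (Lpr_et (K12.f204899 IH) (Lpr_ct (K13.f101362 IH) (Lpn (LP (LK LD1_c4 LD2_c27 LD3_c3))))))
theorem f273155 : Led Lsl_ft (LP (LK LD1_c5 LD2_c0 LD3_c33)) = (LP (LK LD1_c4 LD2_c27 LD3_c3)) :=
  Lgr Lrot86 (Lpe (K13.f175832 IH) (Lpe (K16.f272371 IH) (Lpe (K13.f212017 IH) (Lpr_ff (K16.f273151 IH) (Lpr_ef (f204903 IH) (Lpn (LP (LK LD1_c4 LD2_c27 LD3_c3))))))))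
theorem f175844 : Led Lsl_bt (LP (LK LD1_c9 LD2_c51 LD3_c26)) = (LP (LK LD1_c5 LD2_c0 LD3_c33)) :=
  Lre_b IH (LK LD1_c9 LD2_c51 LD3_c26) (LK LD1_c5 LD2_c0 LD3_c33) Lrfl Lrfl
theorem f198463 : Led Lsl_bt (LP (LK LD1_c4 LD2_c27 LD3_c3)) = (LP (LK LD1_c8 LD2_c51 LD3_c56)) :=
  Lre_b IH (LK LD1_c4 LD2_c27 LD3_c3) (LK LD1_c8 LD2_c51 LD3_c56) Lrfl Lrfl
theorem f273157 : Led Lsl_ff (LP (LK LD1_c9 LD2_c51 LD3_c26)) = (LP (LK LD1_c8 LD2_c51 LD3_c56)) :=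
  Lgr Lrot25 (Lpr_bt (f175844 IH) (Lpr_ft (f273155 IH) (Lpr_bt (f198463 IH) (Lpn (LP (LK LD1_c8 LD2_c51 LD3_c56))))))
theorem f542678 : Led Lsl_cf (LP (LK LD1_c8 LD2_c51 LD3_c56)) = (LP (LK LD1_c4 LD2_c39 LD3_c48)) :=
  Lgr Lrot108 (Lpe (f273157 IH) (Lpr_ct (f186112 IH) (Lpr_ft (f542674 IH) (Lpn (LP (LK LD1_c4 LD2_c39 LD3_c48))))))
theorem f537986 : Led Lsl_ct (LP (LK LD1_c4 LD2_c37 LD3_c5)) = (LP (LK LD1_c2 LD2_c15 LD3_c52)) :=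
  Lre_c IH (LK LD1_c4 LD2_c37 LD3_c5) (LK LD1_c2 LD2_c15 LD3_c52) Lrfl Lrfl
theorem f423239 : Led Lsl_ft (LP (LK LD1_c1 LD2_c19 LD3_c26)) = (LP (LK LD1_c2 LD2_c12 LD3_c61)) :=
  Lgr Lrot48 (Lpr_ff (K31.f423198 IH) (Lpn (LP (LK LD1_c2 LD2_c12 LD3_c61))))
def v1468 : LQ := Led Lsl_et (LP (LK LD1_c1 LD2_c19 LD3_c26))
theorem f495718 : Led Lsl_et (LP (LK LD1_c1 LD2_c19 LD3_c26)) = v1468 :=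
  Lrfl
theorem f495719 : Led Lsl_ef (LP (LK LD1_c1 LD2_c19 LD3_c26)) = v1468 :=
  Lgr Lrot88 (Lpr_et (f495718 IH) (Lpn v1468))
def v411 : LQ := Led Lsl_et (LP (LK LD1_c0 LD2_c37 LD3_c55))
theorem f452712 : Led Lsl_et (LP (LK LD1_c0 LD2_c37 LD3_c55)) = v411 :=
  Lrfl
theorem f452713 : Led Lsl_ef (LP (LK LD1_c0 LD2_c37 LD3_c55)) = v411 :=
  Lgr Lrot88 (Lpr_et (f452712 IH) (Lpn v411))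
def v1583 : LQ := Led Lsl_et (LP (LK LD1_c1 LD2_c21 LD3_c57))
theorem f500192 : Led Lsl_et (LP (LK LD1_c1 LD2_c21 LD3_c57)) = v1583 :=
  Lrfl
theorem f500194 : Led Lsl_cf v411 = v1583 :=
  Lgr Lrot39 (Lpe (f452713 IH) (Lpr_ct (K7.f112937 IH) (Lpr_et (f500192 IH) (Lpn v1583))))
theorem f500195 : Led Lsl_ef (LP (LK LD1_c1 LD2_c21 LD3_c57)) = v1583 :=
  Lgr Lrot88 (Lpr_et (f500192 IH) (Lpn v1583))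
def v1266 : LQ := Led Lsl_et (LP (LK LD1_c1 LD2_c4 LD3_c40))
theorem f494402 : Led Lsl_et (LP (LK LD1_c1 LD2_c4 LD3_c40)) = v1266 :=
  Lrfl
theorem f500196 : Led Lsl_bt v1266 = v1583 :=
  Lgr Lrot119 (Lpe (f494402 IH) (Lpr_bf (K7.f149013 IH) (Lpr_ef (f500195 IH) (Lpn v1583))))
theorem f181264 : Led Lsl_bt (LP (LK LD1_c2 LD2_c13 LD3_c15)) = (LP (LK LD1_c2 LD2_c46 LD3_c8)) :=
  Lgr Lrot127 (Lpr_bf (K30.f181227 IH) (Lpn (LP (LK LD1_c2 LD2_c46 LD3_c8))))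
theorem f541110 : Led Lsl_bf (LP (LK LD1_c3 LD2_c10 LD3_c12)) = (LP (LK LD1_c4 LD2_c24 LD3_c32)) :=
  Lgr Lrot34 (Lpe (K8.f112487 IH) (Lpr_bf (K8.f158719 IH) (Lpr_ct (K8.f148962 IH) (Lpe (K8.f158717 IH) (Lpe (K8.f99815 IH) (Lpe (K8.f99814 IH) (Lpe (K6.f119018 IH) (Lpe (K8.f159589 IH) (Lpr_gf (K34.f209768 IH) (Lpr_cf (f541096 IH) (Lpn (LP (LK LD1_c4 LD2_c24 LD3_c32)))))))))))))
theorem f496932 : Led Lsl_ff (LP (LK LD1_c4 LD2_c41 LD3_c20)) = (LP (LK LD1_c3 LD2_c10 LD3_c12)) :=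
  Lgr Lrot23 (Lpe (K8.f119680 IH) (Lpr_ft (K32.f496917 IH) (Lpr_ct (K4.f116790 IH) (Lpn (LP (LK LD1_c3 LD2_c10 LD3_c12))))))
theorem f238992 : Led Lsl_et (LP (LK LD1_c2 LD2_c51 LD3_c37)) = (LP (LK LD1_c5 LD2_c50 LD3_c52)) :=
  Lre_e IH (LK LD1_c2 LD2_c51 LD3_c37) (LK LD1_c5 LD2_c50 LD3_c52) Lrfl Lrfl
theorem f407918 : Led Lsl_af (LP (LK LD1_c2 LD2_c51 LD3_c37)) = (LP (LK LD1_c3 LD2_c10 LD3_c27)) :=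
  Lgr Lrot50 (Lpr_et (f238992 IH) (Lpr_at (K32.f407908 IH) (Lpr_et (K32.f407917 IH) (Lpn (LP (LK LD1_c3 LD2_c10 LD3_c27))))))
theorem f25992 : Led Lsl_dt (LP (LK LD1_c3 LD2_c10 LD3_c27)) = (LP (LK LD1_c1 LD2_c31 LD3_c28)) :=
  Lre_d IH (LK LD1_c3 LD2_c10 LD3_c27) (LK LD1_c1 LD2_c31 LD3_c28) Lrfl Lrfl
theorem f255537 : Led Lsl_ft (LP (LK LD1_c3 LD2_c10 LD3_c8)) = (LP (LK LD1_c3 LD2_c10 LD3_c27)) :=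
  Lgr Lrot54 (Lpe (K32.f36349 IH) (Lpr_ff (K14.f255528 IH) (Lpe (f25992 IH) (Lpn (LP (LK LD1_c3 LD2_c10 LD3_c27))))))
theorem f205353 : Led Lsl_ft (LP (LK LD1_c8 LD2_c46 LD3_c38)) = (LP (LK LD1_c16 LD2_c25 LD3_c18)) :=
  Lre_f IH (LK LD1_c8 LD2_c46 LD3_c38) (LK LD1_c16 LD2_c25 LD3_c18) Lrfl Lrfl
theorem f303825 : Led Lsl_af (LP (LK LD1_c8 LD2_c46 LD3_c38)) = (LP (LK LD1_c6 LD2_c25 LD3_c2)) :=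
  Lgr Lrot45 (Lpr_ft (f205353 IH) (Lpr_at (K32.f303820 IH) (Lpr_ft (K32.f36360 IH) (Lpn (LP (LK LD1_c6 LD2_c25 LD3_c2))))))
theorem f205360 : Led Lsl_et (LP (LK LD1_c8 LD2_c46 LD3_c38)) = (LP (LK LD1_c4 LD2_c24 LD3_c32)) :=
  Lre_e IH (LK LD1_c8 LD2_c46 LD3_c38) (LK LD1_c4 LD2_c24 LD3_c32) Lrfl Lrfl
theorem f303829 : Led Lsl_at (LP (LK LD1_c4 LD2_c24 LD3_c32)) = (LP (LK LD1_c3 LD2_c10 LD3_c8)) :=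
  Lgr Lrot80 (Lpe (f205360 IH) (Lpr_af (f303825 IH) (Lpe (K32.f36350 IH) (Lpn (LP (LK LD1_c3 LD2_c10 LD3_c8))))))
theorem f408036 : Led Lsl_ft (LP (LK LD1_c2 LD2_c51 LD3_c37)) = (LP (LK LD1_c4 LD2_c24 LD3_c32)) :=
  Lgr Lrot101 (Lpr_af (f407918 IH) (Lpe (f255537 IH) (Lpe (f303829 IH) (Lpn (LP (LK LD1_c4 LD2_c24 LD3_c32))))))
theorem f541116 : Led Lsl_bt (LP (LK LD1_c4 LD2_c41 LD3_c20)) = (LP (LK LD1_c2 LD2_c51 LD3_c37)) :=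
  Lgr Lrot35 (Lpr_ff (f496932 IH) (Lpr_bf (f541110 IH) (Lpe (f408036 IH) (Lpn (LP (LK LD1_c2 LD2_c51 LD3_c37))))))
theorem f159649 : Led Lsl_cf (LP (LK LD1_c7 LD2_c25 LD3_c12)) = (LP (LK LD1_c4 LD2_c23 LD3_c52)) :=
  Lgr Lrot11 (Lpr_ct (K8.f159645 IH) (Lpn (LP (LK LD1_c4 LD2_c23 LD3_c52))))
theorem f239002 : Led Lsl_gt (LP (LK LD1_c2 LD2_c51 LD3_c37)) = (LP (LK LD1_c5 LD2_c50 LD3_c49)) :=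
  Lre_g IH (LK LD1_c2 LD2_c51 LD3_c37) (LK LD1_c5 LD2_c50 LD3_c49) Lrfl Lrfl
theorem f541126 : Led Lsl_cf (LP (LK LD1_c3 LD2_c42 LD3_c16)) = (LP (LK LD1_c5 LD2_c50 LD3_c49)) :=
  Lgr Lrot125 (Lpr_gt (K8.f108102 IH) (Lpr_cf (f159649 IH) (Lpr_bt (K24.f80324 IH) (Lpe (K24.f80319 IH) (Lpr_bf (K8.f81686 IH) (Lpr_ct (K2.f71864 IH) (Lpr_gt (K8.f112650 IH) (Lpr_cf (K8.f119680 IH) (Lpr_bt (f541116 IH) (Lpr_gt (f239002 IH) (Lpn (LP (LK LD1_c5 LD2_c50 LD3_c49)))))))))))))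
theorem f541138 : Led Lsl_bf (LP (LK LD1_c3 LD2_c57 LD3_c52)) = (LP (LK LD1_c5 LD2_c50 LD3_c49)) :=
  Lgr Lrot34 (Lpr_gf (K8.f158963 IH) (Lpe (K5.f56437 IH) (Lpe (K1.f38625 IH) (Lpr_gf (K1.f35592 IH) (Lpr_cf (K1.f37448 IH) (Lpr_gf (K24.f80319 IH) (Lpe (K24.f80324 IH) (Lpe (f159649 IH) (Lpe (K8.f108102 IH) (Lpr_cf (f541126 IH) (Lpn (LP (LK LD1_c5 LD2_c50 LD3_c49)))))))))))))
theorem f411227 : Led Lsl_af (LP (LK LD1_c5 LD2_c50 LD3_c49)) = (LP (LK LD1_c6 LD2_c25 LD3_c32)) :=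
  Lgr Lrot31 (Lpe (f239002 IH) (Lpe (f177131 IH) (Lpr_ft (f411221 IH) (Lpn (LP (LK LD1_c6 LD2_c25 LD3_c32))))))
theorem f411229 : Led Lsl_at (LP (LK LD1_c5 LD2_c50 LD3_c49)) = (LP (LK LD1_c6 LD2_c25 LD3_c32)) :=
  Lgr Lrot100 (Lpr_af (f411227 IH) (Lpn (LP (LK LD1_c6 LD2_c25 LD3_c32))))
theorem f25993 : Led Lsl_gt (LP (LK LD1_c6 LD2_c25 LD3_c33)) = (LP (LK LD1_c3 LD2_c10 LD3_c27)) :=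
  Lre_g IH (LK LD1_c6 LD2_c25 LD3_c33) (LK LD1_c3 LD2_c10 LD3_c27) Lrfl Lrfl
theorem f411264 : Led Lsl_ff (LP (LK LD1_c5 LD2_c50 LD3_c49)) = (LP (LK LD1_c6 LD2_c25 LD3_c33)) :=
  Lgr Lrot52 (Lpr_at (f411229 IH) (Lpe (K32.f205185 IH) (Lpe (f25993 IH) (Lpn (LP (LK LD1_c6 LD2_c25 LD3_c33))))))
theorem f541142 : Led Lsl_bt (LP (LK LD1_c5 LD2_c47 LD3_c23)) = (LP (LK LD1_c6 LD2_c25 LD3_c33)) :=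
  Lgr Lrot35 (Lpe (K8.f158978 IH) (Lpr_bf (f541138 IH) (Lpr_ff (f411264 IH) (Lpn (LP (LK LD1_c6 LD2_c25 LD3_c33))))))
theorem f424756 : Led Lsl_gf (LP (LK LD1_c8 LD2_c46 LD3_c2)) = (LP (LK LD1_c9 LD2_c9 LD3_c37)) :=
  Lgr Lrot104 (Lpr_ct (f112684 IH) (Lpr_df (K5.f118942 IH) (Lpe (K5.f118946 IH) (Lpr_gf (f424688 IH) (Lpr_cf (f424710 IH) (Lpe (f56892 IH) (Lpe (f112578 IH) (Lpr_gt (K8.f38246 IH) (Lpe (K28.f160673 IH) (Lpn (LP (LK LD1_c9 LD2_c9 LD3_c37))))))))))))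
theorem f160657 : Led Lsl_bt (LP (LK LD1_c6 LD2_c13 LD3_c31)) = (LP (LK LD1_c9 LD2_c9 LD3_c37)) :=
  Lgr Lrot35 (Lpr_ff (K8.f160655 IH) (Lpe (K8.f142173 IH) (Lpe (K8.f142213 IH) (Lpn (LP (LK LD1_c9 LD2_c9 LD3_c37))))))
theorem f142205 : Led Lsl_bt (LP (LK LD1_c4 LD2_c0 LD3_c8)) = (LP (LK LD1_c8 LD2_c1 LD3_c15)) :=
  Lre_b IH (LK LD1_c4 LD2_c0 LD3_c8) (LK LD1_c8 LD2_c1 LD3_c15) Lrfl Lrfl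
theorem f160566 : Led Lsl_ct (LP (LK LD1_c7 LD2_c23 LD3_c24)) = (LP (LK LD1_c4 LD2_c0 LD3_c8)) :=
  Lgr Lrot83 (Lpe (K8.f159862 IH) (Lpe (K6.f121144 IH) (Lpr_bf (K28.f160563 IH) (Lpe (K28.f142216 IH) (Lpe (f142205 IH) (Lpn (LP (LK LD1_c4 LD2_c0 LD3_c8))))))))
theorem f160659 : Led Lsl_ct (LP (LK LD1_c6 LD2_c13 LD3_c31)) = (LP (LK LD1_c7 LD2_c29 LD3_c9)) :=
  Lgr Lrot40 (Lpr_ff (K8.f160655 IH) (Lpe (f160566 IH) (Lpr_ff (K8.f159774 IH) (Lpn (LP (LK LD1_c7 LD2_c29 LD3_c9))))))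
theorem f205187 : Led Lsl_ct (LP (LK LD1_c3 LD2_c10 LD3_c27)) = (LP (LK LD1_c6 LD2_c25 LD3_c34)) :=
  Lre_c IH (LK LD1_c3 LD2_c10 LD3_c27) (LK LD1_c6 LD2_c25 LD3_c34) Lrfl Lrfl
theorem f541150 : Led Lsl_gf (LP (LK LD1_c7 LD2_c29 LD3_c9)) = (LP (LK LD1_c6 LD2_c25 LD3_c34)) :=
  Lgr Lrot129 (Lpe (f160659 IH) (Lpr_bt (f160657 IH) (Lpe (f424756 IH) (Lpr_bf (K24.f81083 IH) (Lpr_ct (K8.f80254 IH) (Lpr_gt (K8.f157804 IH) (Lpe (K8.f99515 IH) (Lpr_bt (f541142 IH) (Lpr_gt (f25993 IH) (Lpr_ct (f205187 IH) (Lpn (LP (LK LD1_c6 LD2_c25 LD3_c34)))))))))))))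
theorem f160650 : Led Lsl_cf (LP (LK LD1_c6 LD2_c13 LD3_c31)) = (LP (LK LD1_c7 LD2_c29 LD3_c9)) :=
  Lgr Lrot1 (Lpr_at (K8.f160643 IH) (Lpr_ct (K6.f37085 IH) (Lpr_at (K8.f159773 IH) (Lpn (LP (LK LD1_c7 LD2_c29 LD3_c9))))))
theorem f159683 : Led Lsl_et (LP (LK LD1_c6 LD2_c13 LD3_c55)) = (LP (LK LD1_c12 LD2_c6 LD3_c25)) :=
  Lre_e IH (LK LD1_c6 LD2_c13 LD3_c55) (LK LD1_c12 LD2_c6 LD3_c25) Lrfl Lrfl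
theorem f159684 : Led Lsl_dt (LP (LK LD1_c12 LD2_c6 LD3_c25)) = (LP (LK LD1_c21 LD2_c12 LD3_c27)) :=
  Lre_d IH (LK LD1_c12 LD2_c6 LD3_c25) (LK LD1_c21 LD2_c12 LD3_c27) Lrfl Lrfl
theorem f159685 : Led Lsl_et (LP (LK LD1_c21 LD2_c12 LD3_c27)) = (LP (LK LD1_c13 LD2_c55 LD3_c17)) :=
  Lgr Lrot71 (Lpe (f159684 IH) (Lpe (f159683 IH) (Lpr_df (K24.f159670 IH) (Lpe (K24.f116199 IH) (Lpe (K24.f116211 IH) (Lpn (LP (LK LD1_c13 LD2_c55 LD3_c17))))))))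
theorem f159692 : Led Lsl_ef (LP (LK LD1_c21 LD2_c12 LD3_c27)) = (LP (LK LD1_c13 LD2_c55 LD3_c17)) :=
  Lgr Lrot88 (Lpr_et (f159685 IH) (Lpn (LP (LK LD1_c13 LD2_c55 LD3_c17))))
theorem f159659 : Led Lsl_et (LP (LK LD1_c7 LD2_c25 LD3_c12)) = (LP (LK LD1_c14 LD2_c1 LD3_c54)) :=
  Lre_e IH (LK LD1_c7 LD2_c25 LD3_c12) (LK LD1_c14 LD2_c1 LD3_c54) Lrfl Lrfl
theorem f159486 : Led Lsl_dt (LP (LK LD1_c14 LD2_c1 LD3_c54)) = (LP (LK LD1_c23 LD2_c34 LD3_c44)) :=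
  Lre_d IH (LK LD1_c14 LD2_c1 LD3_c54) (LK LD1_c23 LD2_c34 LD3_c44) Lrfl Lrfl
theorem f159660 : Led Lsl_et (LP (LK LD1_c23 LD2_c34 LD3_c44)) = (LP (LK LD1_c14 LD2_c5 LD3_c8)) :=
  Lgr Lrot71 (Lpe (f159486 IH) (Lpe (f159659 IH) (Lpr_df (K24.f159655 IH) (Lpe (K24.f116214 IH) (Lpe (K24.f116206 IH) (Lpn (LP (LK LD1_c14 LD2_c5 LD3_c8))))))))
theorem f159698 : Led Lsl_bt (LP (LK LD1_c21 LD2_c12 LD3_c27)) = (LP (LK LD1_c23 LD2_c34 LD3_c44)) :=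
  Lgr Lrot119 (Lpr_ef (f159692 IH) (Lpr_bf (K24.f116209 IH) (Lpe (f159660 IH) (Lpn (LP (LK LD1_c23 LD2_c34 LD3_c44))))))
theorem f159668 : Led Lsl_dt (LP (LK LD1_c23 LD2_c34 LD3_c44)) = (LP (LK LD1_c14 LD2_c1 LD3_c54)) :=
  Lre_d IH (LK LD1_c23 LD2_c34 LD3_c44) (LK LD1_c14 LD2_c1 LD3_c54) Lrfl Lrfl
theorem f159701 : Led Lsl_bf (LP (LK LD1_c12 LD2_c6 LD3_c25)) = (LP (LK LD1_c14 LD2_c1 LD3_c54)) :=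
  Lgr Lrot93 (Lpr_dt (f159684 IH) (Lpr_bt (f159698 IH) (Lpr_dt (f159668 IH) (Lpn (LP (LK LD1_c14 LD2_c1 LD3_c54))))))
theorem f159703 : Led Lsl_bt (LP (LK LD1_c12 LD2_c6 LD3_c25)) = (LP (LK LD1_c14 LD2_c1 LD3_c54)) :=
  Lgr Lrot127 (Lpr_bf (f159701 IH) (Lpn (LP (LK LD1_c14 LD2_c1 LD3_c54))))
theorem f159485 : Led Lsl_et (LP (LK LD1_c14 LD2_c1 LD3_c54)) = (LP (LK LD1_c7 LD2_c25 LD3_c12)) :=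
  Lre_e IH (LK LD1_c14 LD2_c1 LD3_c54) (LK LD1_c7 LD2_c25 LD3_c12) Lrfl Lrfl
theorem f159751 : Led Lsl_bf (LP (LK LD1_c6 LD2_c13 LD3_c55)) = (LP (LK LD1_c7 LD2_c25 LD3_c12)) :=
  Lgr Lrot96 (Lpr_et (f159683 IH) (Lpr_bt (f159703 IH) (Lpr_et (f159485 IH) (Lpn (LP (LK LD1_c7 LD2_c25 LD3_c12))))))
theorem f159753 : Led Lsl_gf (LP (LK LD1_c6 LD2_c13 LD3_c55)) = (LP (LK LD1_c3 LD2_c40 LD3_c8)) :=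
  Lgr Lrot124 (Lpr_bf (f159751 IH) (Lpr_ct (K8.f159645 IH) (Lpr_gt (K8.f100228 IH) (Lpe (K8.f159635 IH) (Lpr_bt (K8.f4460 IH) (Lpr_gt (K7.f4459 IH) (Lpr_ct (K5.f12927 IH) (Lpr_gt (K8.f159525 IH) (Lpe (K7.f146836 IH) (Lpr_bt (K28.f146821 IH) (Lpn (LP (LK LD1_c3 LD2_c40 LD3_c8)))))))))))))
theorem f159755 : Led Lsl_gt (LP (LK LD1_c6 LD2_c13 LD3_c55)) = (LP (LK LD1_c7 LD2_c25 LD3_c10)) :=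
  Lgr Lrot46 (Lpr_gf (f159753 IH) (Lpe (K28.f159420 IH) (Lpr_at (K28.f159424 IH) (Lpn (LP (LK LD1_c7 LD2_c25 LD3_c10))))))
theorem f203192 : Led Lsl_cf (LP (LK LD1_c11 LD2_c45 LD3_c22)) = (LP (LK LD1_c7 LD2_c21 LD3_c8)) :=
  Lgr Lrot11 (Lpr_ct (K33.f203059 IH) (Lpn (LP (LK LD1_c7 LD2_c21 LD3_c8))))
theorem f147849 : Led Lsl_dt (LP (LK LD1_c4 LD2_c46 LD3_c33)) = (LP (LK LD1_c9 LD2_c25 LD3_c47)) :=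
  Lre_d IH (LK LD1_c4 LD2_c46 LD3_c33) (LK LD1_c9 LD2_c25 LD3_c47) Lrfl Lrfl
theorem f498464 : Led Lsl_at (LP (LK LD1_c9 LD2_c25 LD3_c47)) = (LP (LK LD1_c11 LD2_c34 LD3_c11)) :=
  Lgr Lrot51 (Lpe (f147849 IH) (Lpe (f419896 IH) (Lpr_df (f498462 IH) (Lpn (LP (LK LD1_c11 LD2_c34 LD3_c11))))))
theorem f125591 : Led Lsl_ct (LP (LK LD1_c3 LD2_c42 LD3_c38)) = (LP (LK LD1_c7 LD2_c25 LD3_c53)) :=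
  Lre_c IH (LK LD1_c3 LD2_c42 LD3_c38) (LK LD1_c7 LD2_c25 LD3_c53) Lrfl Lrfl
theorem f75144 : Led Lsl_ct (LP (LK LD1_c6 LD2_c0 LD3_c31)) = (LP (LK LD1_c11 LD2_c45 LD3_c23)) :=
  Lre_c IH (LK LD1_c6 LD2_c0 LD3_c31) (LK LD1_c11 LD2_c45 LD3_c23) Lrfl Lrfl
theorem f155743 : Led Lsl_gt (LP (LK LD1_c7 LD2_c25 LD3_c53)) = (LP (LK LD1_c6 LD2_c0 LD3_c31)) :=
  Lgr Lrot150 (Lpe (f125591 IH) (Lpe (K34.f147957 IH) (Lpe (K6.f122073 IH) (Lpr_gt (K5.f122247 IH) (Lpe (K4.f122125 IH) (Lpr_gt (K4.f122086 IH) (Lpr_ct (K4.f122095 IH) (Lpr_df (K32.f155733 IH) (Lpe (f75144 IH) (Lpn (LP (LK LD1_c6 LD2_c0 LD3_c31))))))))))))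
theorem f155745 : Led Lsl_at (LP (LK LD1_c11 LD2_c45 LD3_c21)) = (LP (LK LD1_c6 LD2_c0 LD3_c31)) :=
  Lre_a IH (LK LD1_c11 LD2_c45 LD3_c21) (LK LD1_c6 LD2_c0 LD3_c31) Lrfl Lrfl
theorem f436533 : Led Lsl_ff (LP (LK LD1_c11 LD2_c45 LD3_c21)) = (LP (LK LD1_c11 LD2_c34 LD3_c11)) :=
  Lgr Lrot52 (Lpr_at (f155745 IH) (Lpe (f155743 IH) (Lpr_gf (f436531 IH) (Lpn (LP (LK LD1_c11 LD2_c34 LD3_c11))))))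
theorem f498901 : Led Lsl_ff (LP (LK LD1_c9 LD2_c25 LD3_c47)) = (LP (LK LD1_c6 LD2_c0 LD3_c31)) :=
  Lgr Lrot30 (Lpr_at (f498464 IH) (Lpe (f436533 IH) (Lpr_at (f155745 IH) (Lpn (LP (LK LD1_c6 LD2_c0 LD3_c31))))))
theorem f498903 : Led Lsl_gt (LP (LK LD1_c11 LD2_c45 LD3_c22)) = (LP (LK LD1_c11 LD2_c34 LD3_c11)) :=
  Lgr Lrot46 (Lpe (K33.f75414 IH) (Lpe (f498901 IH) (Lpr_at (f498464 IH) (Lpn (LP (LK LD1_c11 LD2_c34 LD3_c11))))))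
theorem f407988 : Led Lsl_bt (LP (LK LD1_c12 LD2_c23 LD3_c49)) = (LP (LK LD1_c6 LD2_c25 LD3_c34)) :=
  Lre_b IH (LK LD1_c12 LD2_c23 LD3_c49) (LK LD1_c6 LD2_c25 LD3_c34) Lrfl Lrfl
theorem f541164 : Led Lsl_cf (LP (LK LD1_c11 LD2_c34 LD3_c11)) = (LP (LK LD1_c12 LD2_c23 LD3_c49)) :=
  Lgr Lrot58 (Lpe (f498903 IH) (Lpr_cf (f203192 IH) (Lpr_bt (K28.f203784 IH) (Lpe (f159755 IH) (Lpr_bf (f159751 IH) (Lpr_ct (K8.f159645 IH) (Lpe (K8.f160665 IH) (Lpr_cf (f160650 IH) (Lpr_gf (f541150 IH) (Lpe (f407988 IH) (Lpn (LP (LK LD1_c12 LD2_c23 LD3_c49)))))))))))))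
theorem f142536 : Led Lsl_dt (LP (LK LD1_c3 LD2_c42 LD3_c38)) = (LP (LK LD1_c1 LD2_c48 LD3_c18)) :=
  Lre_d IH (LK LD1_c3 LD2_c42 LD3_c38) (LK LD1_c1 LD2_c48 LD3_c18) Lrfl Lrfl
theorem f541174 : Led Lsl_gt (LP (LK LD1_c7 LD2_c40 LD3_c46)) = (LP (LK LD1_c12 LD2_c23 LD3_c49)) :=
  Lgr Lrot9 (Lpe (K32.f144959 IH) (Lpr_gt (K8.f96335 IH) (Lpe (K8.f162753 IH) (Lpr_gt (K8.f102624 IH) (Lpe (K6.f142680 IH) (Lpe (f142536 IH) (Lpe (f142689 IH) (Lpr_gf (f436531 IH) (Lpr_cf (f541164 IH) (Lpn (LP (LK LD1_c12 LD2_c23 LD3_c49))))))))))))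
theorem f541178 : Led Lsl_df (LP (LK LD1_c7 LD2_c22 LD3_c61)) = (LP (LK LD1_c12 LD2_c23 LD3_c49)) :=
  Lgr Lrot84 (Lpe (K8.f162938 IH) (Lpr_df (K8.f162929 IH) (Lpr_gf (K8.f158587 IH) (Lpr_df (K8.f162781 IH) (Lpe (K28.f162768 IH) (Lpr_cf (K6.f144953 IH) (Lpr_gt (K6.f144867 IH) (Lpr_dt (K32.f144959 IH) (Lpr_gt (f541174 IH) (Lpn (LP (LK LD1_c12 LD2_c23 LD3_c49))))))))))))
theorem f162927 : Led Lsl_dt (LP (LK LD1_c6 LD2_c53 LD3_c6)) = (LP (LK LD1_c12 LD2_c37 LD3_c13)) :=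
  Lgr Lrot6 (Lpr_gt (K8.f121984 IH) (Lpr_ct (K6.f122128 IH) (Lpr_gt (K6.f122137 IH) (Lpr_ct (K7.f136963 IH) (Lpr_df (K6.f146664 IH) (Lpe (K6.f146715 IH) (Lpr_gf (K8.f162923 IH) (Lpe (K8.f162915 IH) (Lpr_gf (K8.f162904 IH) (Lpn (LP (LK LD1_c12 LD2_c37 LD3_c13))))))))))))
theorem f77622 : Led Lsl_ct (LP (LK LD1_c6 LD2_c0 LD3_c30)) = (LP (LK LD1_c2 LD2_c56 LD3_c30)) :=
  Lre_c IH (LK LD1_c6 LD2_c0 LD3_c30) (LK LD1_c2 LD2_c56 LD3_c30) Lrfl Lrfl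
theorem f204964 : Led Lsl_ct (LP (LK LD1_c3 LD2_c10 LD3_c8)) = (LP (LK LD1_c6 LD2_c25 LD3_c1)) :=
  Lre_c IH (LK LD1_c3 LD2_c10 LD3_c8) (LK LD1_c6 LD2_c25 LD3_c1) Lrfl Lrfl
theorem f205186 : Led Lsl_ct (LP (LK LD1_c6 LD2_c25 LD3_c34)) = (LP (LK LD1_c3 LD2_c10 LD3_c27)) :=
  Lre_c IH (LK LD1_c6 LD2_c25 LD3_c34) (LK LD1_c3 LD2_c10 LD3_c27) Lrfl Lrfl
theorem f407947 : Led Lsl_ft (LP (LK LD1_c6 LD2_c25 LD3_c1)) = (LP (LK LD1_c6 LD2_c25 LD3_c34)) :=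
  Lgr Lrot4 (Lpe (f204964 IH) (Lpr_ff (K32.f407945 IH) (Lpe (f205186 IH) (Lpn (LP (LK LD1_c6 LD2_c25 LD3_c34))))))
theorem f407979 : Led Lsl_bt (LP (LK LD1_c12 LD2_c23 LD3_c4)) = (LP (LK LD1_c6 LD2_c25 LD3_c1)) :=
  Lre_b IH (LK LD1_c12 LD2_c23 LD3_c4) (LK LD1_c6 LD2_c25 LD3_c1) Lrfl Lrfl
theorem f205188 : Led Lsl_bt (LP (LK LD1_c6 LD2_c25 LD3_c34)) = (LP (LK LD1_c12 LD2_c23 LD3_c49)) :=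
  Lre_b IH (LK LD1_c6 LD2_c25 LD3_c34) (LK LD1_c12 LD2_c23 LD3_c49) Lrfl Lrfl
theorem f407980 : Led Lsl_ff (LP (LK LD1_c12 LD2_c23 LD3_c4)) = (LP (LK LD1_c12 LD2_c23 LD3_c49)) :=
  Lgr Lrot25 (Lpr_bt (f407979 IH) (Lpr_ft (f407947 IH) (Lpr_bt (f205188 IH) (Lpn (LP (LK LD1_c12 LD2_c23 LD3_c49))))))
theorem f541186 : Led Lsl_af (LP (LK LD1_c11 LD2_c45 LD3_c23)) = (LP (LK LD1_c12 LD2_c23 LD3_c4)) :=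
  Lgr Lrot109 (Lpe (f75144 IH) (Lpe (K33.f110555 IH) (Lpe (f77622 IH) (Lpe (f148786 IH) (Lpe (K8.f93866 IH) (Lpe (f162927 IH) (Lpr_cf (K32.f162936 IH) (Lpr_df (f541178 IH) (Lpe (f407980 IH) (Lpn (LP (LK LD1_c12 LD2_c23 LD3_c4))))))))))))
theorem f155735 : Led Lsl_et (LP (LK LD1_c11 LD2_c45 LD3_c23)) = (LP (LK LD1_c20 LD2_c46 LD3_c36)) :=
  Lre_e IH (LK LD1_c11 LD2_c45 LD3_c23) (LK LD1_c20 LD2_c46 LD3_c36) Lrfl Lrfl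
theorem f408004 : Led Lsl_et (LP (LK LD1_c21 LD2_c29 LD3_c61)) = (LP (LK LD1_c12 LD2_c23 LD3_c4)) :=
  Lre_e IH (LK LD1_c21 LD2_c29 LD3_c61) (LK LD1_c12 LD2_c23 LD3_c4) Lrfl Lrfl
theorem f541190 : Led Lsl_at (LP (LK LD1_c20 LD2_c46 LD3_c36)) = (LP (LK LD1_c21 LD2_c29 LD3_c61)) :=
  Lgr Lrot80 (Lpe (f155735 IH) (Lpr_af (f541186 IH) (Lpe (f408004 IH) (Lpn (LP (LK LD1_c21 LD2_c29 LD3_c61))))))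
theorem f75416 : Led Lsl_ct (LP (LK LD1_c11 LD2_c45 LD3_c24)) = (LP (LK LD1_c20 LD2_c46 LD3_c36)) :=
  Lre_c IH (LK LD1_c11 LD2_c45 LD3_c24) (LK LD1_c20 LD2_c46 LD3_c36) Lrfl Lrfl
theorem f541197 : Led Lsl_cf (LP (LK LD1_c20 LD2_c46 LD3_c34)) = (LP (LK LD1_c21 LD2_c29 LD3_c61)) :=
  Lgr Lrot1 (Lpr_at (f498763 IH) (Lpr_ct (f75416 IH) (Lpr_at (f541190 IH) (Lpn (LP (LK LD1_c21 LD2_c29 LD3_c61))))))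
theorem f436537 : Led Lsl_ft (LP (LK LD1_c20 LD2_c46 LD3_c34)) = (LP (LK LD1_c29 LD2_c39 LD3_c6)) :=
  Lre_f IH (LK LD1_c20 LD2_c46 LD3_c34) (LK LD1_c29 LD2_c39 LD3_c6) Lrfl Lrfl
theorem f408003 : Led Lsl_ft (LP (LK LD1_c30 LD2_c3 LD3_c13)) = (LP (LK LD1_c21 LD2_c29 LD3_c61)) :=
  Lre_f IH (LK LD1_c30 LD2_c3 LD3_c13) (LK LD1_c21 LD2_c29 LD3_c61) Lrfl Lrfl
theorem f541205 : Led Lsl_ct (LP (LK LD1_c29 LD2_c39 LD3_c6)) = (LP (LK LD1_c30 LD2_c3 LD3_c13)) :=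
  Lgr Lrot40 (Lpe (f436537 IH) (Lpr_cf (f541197 IH) (Lpe (f408003 IH) (Lpn (LP (LK LD1_c30 LD2_c3 LD3_c13))))))
theorem f541209 : Led Lsl_cf (LP (LK LD1_c29 LD2_c39 LD3_c6)) = (LP (LK LD1_c30 LD2_c3 LD3_c13)) :=
  Lgr Lrot11 (Lpr_ct (f541205 IH) (Lpn (LP (LK LD1_c30 LD2_c3 LD3_c13))))
theorem f75430 : Led Lsl_bt (LP (LK LD1_c11 LD2_c45 LD3_c30)) = (LP (LK LD1_c20 LD2_c46 LD3_c39)) :=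
  Lre_b IH (LK LD1_c11 LD2_c45 LD3_c30) (LK LD1_c20 LD2_c46 LD3_c39) Lrfl Lrfl
theorem f498756 : Led Lsl_at (LP (LK LD1_c20 LD2_c46 LD3_c39)) = (LP (LK LD1_c29 LD2_c39 LD3_c6)) :=
  Lre_a IH (LK LD1_c20 LD2_c46 LD3_c39) (LK LD1_c29 LD2_c39 LD3_c6) Lrfl Lrfl
theorem f498661 : Led Lsl_at (LP (LK LD1_c21 LD2_c13 LD3_c32)) = (LP (LK LD1_c20 LD2_c31 LD3_c35)) :=
  Lgr Lrot100 (Lpr_af (f498657 IH) (Lpn (LP (LK LD1_c20 LD2_c31 LD3_c35))))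
theorem f498757 : Led Lsl_bt (LP (LK LD1_c29 LD2_c39 LD3_c6)) = (LP (LK LD1_c21 LD2_c13 LD3_c32)) :=
  Lgr Lrot62 (Lpe (f498756 IH) (Lpe (f75430 IH) (Lpr_af (f498754 IH) (Lpe (f138277 IH) (Lpe (f498661 IH) (Lpn (LP (LK LD1_c21 LD2_c13 LD3_c32))))))))
theorem f36383 : Led Lsl_bt (LP (LK LD1_c21 LD2_c30 LD3_c1)) = (LP (LK LD1_c30 LD2_c3 LD3_c13)) :=
  Lre_b IH (LK LD1_c21 LD2_c30 LD3_c1) (LK LD1_c30 LD2_c3 LD3_c13) Lrfl Lrfl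
theorem f36376 : Led Lsl_ct (LP (LK LD1_c12 LD2_c23 LD3_c8)) = (LP (LK LD1_c21 LD2_c30 LD3_c1)) :=
  Lre_c IH (LK LD1_c12 LD2_c23 LD3_c8) (LK LD1_c21 LD2_c30 LD3_c1) Lrfl Lrfl
theorem f541211 : Led Lsl_bt (LP (LK LD1_c12 LD2_c7 LD3_c25)) = (LP (LK LD1_c12 LD2_c23 LD3_c8)) :=
  Lgr Lrot128 (Lpe (f498599 IH) (Lpe (f498757 IH) (Lpr_cf (f541209 IH) (Lpe (f36383 IH) (Lpe (f36376 IH) (Lpn (LP (LK LD1_c12 LD2_c23 LD3_c8))))))))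
theorem f541217 : Led Lsl_bf (LP (LK LD1_c6 LD2_c14 LD3_c34)) = (LP (LK LD1_c6 LD2_c25 LD3_c2)) :=
  Lgr Lrot61 (Lpr_ft (f498607 IH) (Lpr_bt (f541211 IH) (Lpr_ft (K32.f36360 IH) (Lpn (LP (LK LD1_c6 LD2_c25 LD3_c2))))))
theorem f112724 : Led Lsl_dt (LP (LK LD1_c6 LD2_c14 LD3_c34)) = (LP (LK LD1_c12 LD2_c7 LD3_c24)) :=
  Lre_d IH (LK LD1_c6 LD2_c14 LD3_c34) (LK LD1_c12 LD2_c7 LD3_c24) Lrfl Lrfl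
theorem f36358 : Led Lsl_df (LP (LK LD1_c6 LD2_c25 LD3_c2)) = (LP (LK LD1_c8 LD2_c38 LD3_c53)) :=
  Lgr Lrot38 (Lpr_dt (K32.f36353 IH) (Lpn (LP (LK LD1_c8 LD2_c38 LD3_c53))))
theorem f541219 : Led Lsl_bt (LP (LK LD1_c12 LD2_c7 LD3_c24)) = (LP (LK LD1_c8 LD2_c38 LD3_c53)) :=
  Lgr Lrot95 (Lpe (f112724 IH) (Lpr_bf (f541217 IH) (Lpr_df (f36358 IH) (Lpn (LP (LK LD1_c8 LD2_c38 LD3_c53))))))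
theorem f541227 : Led Lsl_bf (LP (LK LD1_c6 LD2_c14 LD3_c36)) = (LP (LK LD1_c4 LD2_c20 LD3_c32)) :=
  Lgr Lrot96 (Lpr_et (f498634 IH) (Lpr_bt (f541219 IH) (Lpr_et (K32.f36352 IH) (Lpn (LP (LK LD1_c4 LD2_c20 LD3_c32))))))
theorem f255431 : Led Lsl_ft (LP (LK LD1_c4 LD2_c20 LD3_c5)) = (LP (LK LD1_c4 LD2_c20 LD3_c32)) :=
  Lgr Lrot54 (Lpe (K11.f180141 IH) (Lpr_ff (K14.f255429 IH) (Lpe (K12.f36351 IH) (Lpn (LP (LK LD1_c4 LD2_c20 LD3_c32))))))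
theorem f201456 : Led Lsl_bt (LP (LK LD1_c8 LD2_c38 LD3_c7)) = (LP (LK LD1_c4 LD2_c20 LD3_c5)) :=
  Lre_b IH (LK LD1_c8 LD2_c38 LD3_c7) (LK LD1_c4 LD2_c20 LD3_c5) Lrfl Lrfl
theorem f541237 : Led Lsl_ft (LP (LK LD1_c6 LD2_c14 LD3_c36)) = (LP (LK LD1_c8 LD2_c38 LD3_c7)) :=
  Lgr Lrot75 (Lpr_bf (f541227 IH) (Lpe (f255431 IH) (Lpe (f201456 IH) (Lpn (LP (LK LD1_c8 LD2_c38 LD3_c7))))))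
theorem f541245 : Led Lsl_ff (LP (LK LD1_c6 LD2_c14 LD3_c36)) = (LP (LK LD1_c8 LD2_c38 LD3_c7)) :=
  Lgr Lrot3 (Lpr_ft (f541237 IH) (Lpn (LP (LK LD1_c8 LD2_c38 LD3_c7))))
theorem f498630 : Led Lsl_at (LP (LK LD1_c6 LD2_c14 LD3_c36)) = (LP (LK LD1_c9 LD2_c19 LD3_c25)) :=
  Lgr Lrot100 (Lpr_af (f498628 IH) (Lpn (LP (LK LD1_c9 LD2_c19 LD3_c25))))
theorem f59221 : Led Lsl_ct (LP (LK LD1_c17 LD2_c14 LD3_c59)) = (LP (LK LD1_c9 LD2_c19 LD3_c25)) :=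
  Lre_c IH (LK LD1_c17 LD2_c14 LD3_c59) (LK LD1_c9 LD2_c19 LD3_c25) Lrfl Lrfl
theorem f180199 : Led Lsl_dt (LP (LK LD1_c8 LD2_c38 LD3_c7)) = (LP (LK LD1_c4 LD2_c20 LD3_c4)) :=
  Lre_d IH (LK LD1_c8 LD2_c38 LD3_c7) (LK LD1_c4 LD2_c20 LD3_c4) Lrfl Lrfl
theorem f165460 : Led Lsl_ct (LP (LK LD1_c2 LD2_c34 LD3_c6)) = (LP (LK LD1_c5 LD2_c14 LD3_c32)) :=
  Lre_c IH (LK LD1_c2 LD2_c34 LD3_c6) (LK LD1_c5 LD2_c14 LD3_c32) Lrfl Lrfl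
theorem f225676 : Led Lsl_dt (LP (LK LD1_c5 LD2_c14 LD3_c32)) = (LP (LK LD1_c10 LD2_c18 LD3_c36)) :=
  Lre_d IH (LK LD1_c5 LD2_c14 LD3_c32) (LK LD1_c10 LD2_c18 LD3_c36) Lrfl Lrfl
theorem f225677 : Led Lsl_ct (LP (LK LD1_c10 LD2_c18 LD3_c36)) = (LP (LK LD1_c18 LD2_c43 LD3_c34)) :=
  Lre_c IH (LK LD1_c10 LD2_c18 LD3_c36) (LK LD1_c18 LD2_c43 LD3_c34) Lrfl Lrfl
theorem f541253 : Led Lsl_df (LP (LK LD1_c17 LD2_c14 LD3_c59)) = (LP (LK LD1_c18 LD2_c43 LD3_c34)) :=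
  Lgr Lrot177 (Lpr_ct (f59221 IH) (Lpe (f498630 IH) (Lpr_ff (f541245 IH) (Lpr_dt (f180199 IH) (Lpe (K12.f225553 IH) (Lpr_dt (f225669 IH) (Lpr_ct (f165460 IH) (Lpr_dt (f225676 IH) (Lpr_ct (f225677 IH) (Lpn (LP (LK LD1_c18 LD2_c43 LD3_c34))))))))))))
theorem f177305 : Led Lsl_at (LP (LK LD1_c2 LD2_c24 LD3_c50)) = (LP (LK LD1_c4 LD2_c53 LD3_c55)) :=
  Lre_a IH (LK LD1_c2 LD2_c24 LD3_c50) (LK LD1_c4 LD2_c53 LD3_c55) Lrfl Lrfl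
theorem f288165 : Led Lsl_ft (LP (LK LD1_c2 LD2_c24 LD3_c47)) = (LP (LK LD1_c2 LD2_c24 LD3_c50)) :=
  Lgr Lrot101 (Lpe (f225549 IH) (Lpr_ff (f288162 IH) (Lpe (f177305 IH) (Lpn (LP (LK LD1_c2 LD2_c24 LD3_c50))))))
theorem f541257 : Led Lsl_ct (LP (LK LD1_c4 LD2_c42 LD3_c35)) = (LP (LK LD1_c4 LD2_c53 LD3_c55)) :=
  Lgr Lrot98 (Lpe (K8.f59204 IH) (Lpe (f59221 IH) (Lpr_df (f541253 IH) (Lpe (f225677 IH) (Lpe (f225676 IH) (Lpe (f165460 IH) (Lpe (f225669 IH) (Lpr_ft (f288165 IH) (Lpr_at (f177305 IH) (Lpn (LP (LK LD1_c4 LD2_c53 LD3_c55))))))))))))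
theorem f496574 : Led Lsl_ct (LP (LK LD1_c2 LD2_c51 LD3_c7)) = (LP (LK LD1_c2 LD2_c18 LD3_c43)) :=
  Lgr Lrot59 (Lpr_cf (K32.f496570 IH) (Lpn (LP (LK LD1_c2 LD2_c18 LD3_c43))))
theorem f541261 : Led Lsl_ef (LP (LK LD1_c2 LD2_c51 LD3_c7)) = (LP (LK LD1_c4 LD2_c53 LD3_c55)) :=
  Lgr Lrot28 (Lpr_ct (f496574 IH) (Lpr_et (K8.f59197 IH) (Lpr_ct (f541257 IH) (Lpn (LP (LK LD1_c4 LD2_c53 LD3_c55))))))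
theorem f177301 : Led Lsl_dt (LP (LK LD1_c4 LD2_c53 LD3_c55)) = (LP (LK LD1_c5 LD2_c8 LD3_c11)) :=
  Lgr Lrot42 (Lpr_df (f177291 IH) (Lpn (LP (LK LD1_c5 LD2_c8 LD3_c11))))
theorem f541267 : Led Lsl_gf (LP (LK LD1_c5 LD2_c13 LD3_c57)) = (LP (LK LD1_c5 LD2_c8 LD3_c11)) :=
  Lgr Lrot145 (Lpe (f308591 IH) (Lpr_et (K32.f421271 IH) (Lpr_gt (K6.f59538 IH) (Lpe (K4.f99540 IH) (Lpr_gt (K4.f23589 IH) (Lpe (K4.f79929 IH) (Lpr_et (f503104 IH) (Lpqs (f539754 IH) (Lpe (K32.f496581 IH) (Lpr_ef (f541261 IH) (Lpr_dt (f177301 IH) (Lpn (LP (LK LD1_c5 LD2_c8 LD3_c11))))))))))))))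
theorem f225682 : Led Lsl_at (LP (LK LD1_c5 LD2_c14 LD3_c31)) = (LP (LK LD1_c2 LD2_c34 LD3_c6)) :=
  Lre_a IH (LK LD1_c5 LD2_c14 LD3_c31) (LK LD1_c2 LD2_c34 LD3_c6) Lrfl Lrfl
theorem f541271 : Led Lsl_gt (LP (LK LD1_c5 LD2_c13 LD3_c57)) = (LP (LK LD1_c2 LD2_c34 LD3_c6)) :=
  Lgr Lrot46 (Lpr_gf (f541267 IH) (Lpe (f288150 IH) (Lpr_at (f225682 IH) (Lpn (LP (LK LD1_c2 LD2_c34 LD3_c6))))))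
theorem f40150 : Led Lsl_et (LP (LK LD1_c1 LD2_c56 LD3_c16)) = (LP (LK LD1_c0 LD2_c55 LD3_c1)) :=
  Lre_e IH (LK LD1_c1 LD2_c56 LD3_c16) (LK LD1_c0 LD2_c55 LD3_c1) Lrfl Lrfl
theorem f40124 : Led Lsl_gt (LP (LK LD1_c7 LD2_c59 LD3_c30)) = (LP (LK LD1_c3 LD2_c59 LD3_c5)) :=
  Lre_g IH (LK LD1_c7 LD2_c59 LD3_c30) (LK LD1_c3 LD2_c59 LD3_c5) Lrfl Lrfl
theorem f73194 : Led Lsl_ef (LP (LK LD1_c0 LD2_c57 LD3_c6)) = (LP (LK LD1_c0 LD2_c37 LD3_c23)) :=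
  Lgr Lrot29 (Lpr_bt (K10.f55875 IH) (Lpr_et (K2.f73192 IH) (Lpr_bt (K4.f56573 IH) (Lpn (LP (LK LD1_c0 LD2_c37 LD3_c23))))))
theorem f79919 : Led Lsl_gt (LP (LK LD1_c0 LD2_c57 LD3_c6)) = (LP (LK LD1_c2 LD2_c0 LD3_c13)) :=
  Lre_g IH (LK LD1_c0 LD2_c57 LD3_c6) (LK LD1_c2 LD2_c0 LD3_c13) Lrfl Lrfl
theorem f60845 : Led Lsl_et (LP (LK LD1_c4 LD2_c5 LD3_c52)) = (LP (LK LD1_c2 LD2_c0 LD3_c13)) :=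
  Lre_e IH (LK LD1_c4 LD2_c5 LD3_c52) (LK LD1_c2 LD2_c0 LD3_c13) Lrfl Lrfl
theorem f137984 : Led Lsl_df (LP (LK LD1_c7 LD2_c59 LD3_c30)) = (LP (LK LD1_c4 LD2_c5 LD3_c52)) :=
  Lgr Lrot170 (Lpr_gt (f40124 IH) (Lpe (K9.f40146 IH) (Lpr_et (f40150 IH) (Lpr_gt (K6.f101681 IH) (Lpr_dt (K6.f137963 IH) (Lpr_gt (K6.f73273 IH) (Lpe (K2.f59473 IH) (Lpe (f73194 IH) (Lpr_gt (f79919 IH) (Lpe (f60845 IH) (Lpn (LP (LK LD1_c4 LD2_c5 LD3_c52)))))))))))))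
theorem f541275 : Led Lsl_gf (LP (LK LD1_c4 LD2_c5 LD3_c52)) = (LP (LK LD1_c2 LD2_c7 LD3_c25)) :=
  Lgr Lrot138 (Lpe (f137984 IH) (Lpr_gt (f40124 IH) (Lpe (K9.f40146 IH) (Lpr_et (f40150 IH) (Lpr_gt (K6.f101681 IH) (Lpe (K32.f421271 IH) (Lpr_dt (f308591 IH) (Lpr_gt (f541271 IH) (Lpe (f225669 IH) (Lpr_et (K12.f225545 IH) (Lpn (LP (LK LD1_c2 LD2_c7 LD3_c25)))))))))))))
theorem f383414 : Led Lsl_at (LP (LK LD1_c1 LD2_c18 LD3_c43)) = (LP (LK LD1_c2 LD2_c44 LD3_c47)) :=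
  Lre_a IH (LK LD1_c1 LD2_c18 LD3_c43) (LK LD1_c2 LD2_c44 LD3_c47) Lrfl Lrfl
theorem f225654 : Led Lsl_at (LP (LK LD1_c4 LD2_c19 LD3_c53)) = (LP (LK LD1_c2 LD2_c7 LD3_c25)) :=
  Lre_a IH (LK LD1_c4 LD2_c19 LD3_c53) (LK LD1_c2 LD2_c7 LD3_c25) Lrfl Lrfl
theorem f386978 : Led Lsl_ff (LP (LK LD1_c1 LD2_c18 LD3_c43)) = (LP (LK LD1_c2 LD2_c7 LD3_c25)) :=
  Lgr Lrot30 (Lpr_at (f383414 IH) (Lpr_ft (f386967 IH) (Lpr_at (f225654 IH) (Lpn (LP (LK LD1_c2 LD2_c7 LD3_c25))))))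
theorem f541277 : Led Lsl_gt (LP (LK LD1_c4 LD2_c5 LD3_c52)) = (LP (LK LD1_c2 LD2_c44 LD3_c47)) :=
  Lgr Lrot46 (Lpr_gf (f541275 IH) (Lpe (f386978 IH) (Lpr_at (f383414 IH) (Lpn (LP (LK LD1_c2 LD2_c44 LD3_c47))))))
theorem f137991 : Led Lsl_et (LP (LK LD1_c2 LD2_c0 LD3_c13)) = (LP (LK LD1_c4 LD2_c5 LD3_c52)) :=
  Lre_e IH (LK LD1_c2 LD2_c0 LD3_c13) (LK LD1_c4 LD2_c5 LD3_c52) Lrfl Lrfl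
theorem f79920 : Led Lsl_dt (LP (LK LD1_c2 LD2_c0 LD3_c13)) = (LP (LK LD1_c4 LD2_c5 LD3_c51)) :=
  Lre_d IH (LK LD1_c2 LD2_c0 LD3_c13) (LK LD1_c4 LD2_c5 LD3_c51) Lrfl Lrfl
def v1918 : LQ := Led Lsl_at (LP (LK LD1_c1 LD2_c31 LD3_c30))
theorem f506387 : Led Lsl_at (LP (LK LD1_c1 LD2_c31 LD3_c30)) = v1918 :=
  Lrfl
theorem f402563 : Led Lsl_bt (LP (LK LD1_c1 LD2_c31 LD3_c30)) = (LP (LK LD1_c0 LD2_c42 LD3_c15)) :=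
  Lre_b IH (LK LD1_c1 LD2_c31 LD3_c30) (LK LD1_c0 LD2_c42 LD3_c15) Lrfl Lrfl
theorem f402564 : Led Lsl_et (LP (LK LD1_c1 LD2_c18 LD3_c43)) = (LP (LK LD1_c1 LD2_c31 LD3_c30)) :=
  Lgr Lrot74 (Lpe (f319441 IH) (Lpr_ef (K35.f402561 IH) (Lpe (f402563 IH) (Lpn (LP (LK LD1_c1 LD2_c31 LD3_c30))))))
theorem f383417 : Led Lsl_at (LP (LK LD1_c2 LD2_c44 LD3_c47)) = (LP (LK LD1_c1 LD2_c18 LD3_c43)) :=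
  Lre_a IH (LK LD1_c2 LD2_c44 LD3_c47) (LK LD1_c1 LD2_c18 LD3_c43) Lrfl Lrfl
theorem f506389 : Led Lsl_ef (LP (LK LD1_c2 LD2_c44 LD3_c47)) = v1918 :=
  Lgr Lrot20 (Lpr_at (f383417 IH) (Lpr_et (f402564 IH) (Lpr_at (f506387 IH) (Lpn v1918))))
theorem f204385 : Led Lsl_bt (LP (LK LD1_c0 LD2_c42 LD3_c15)) = (LP (LK LD1_c1 LD2_c31 LD3_c30)) :=
  Lre_b IH (LK LD1_c0 LD2_c42 LD3_c15) (LK LD1_c1 LD2_c31 LD3_c30) Lrfl Lrfl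
theorem f537116 : (LP (LK LD1_c0 LD2_c42 LD3_c15)) = v333 :=
  Lefun (Lecon (Lfl_gf (K35.f448960 IH)) (f536912 IH)) (f452207 IH)
theorem f537279 : K31.v1562 = (LP (LK LD1_c1 LD2_c31 LD3_c30)) :=
  Lefun (Lecon (K31.f496281 IH) ((f496431 IH).symm.trans (f537116 IH).symm)) (f204385 IH)
theorem f537668 : (LP (LK LD1_c3 LD2_c4 LD3_c7)) = v1918 :=
  Lefun (Lecon (Lfl_af (K31.f496277 IH)) (f537279 IH)) (f506387 IH)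
theorem f163359 : Led Lsl_dt (LP (LK LD1_c11 LD2_c32 LD3_c56)) = (LP (LK LD1_c11 LD2_c58 LD3_c42)) :=
  Lgr Lrot42 (Lpr_df (K32.f163356 IH) (Lpn (LP (LK LD1_c11 LD2_c58 LD3_c42))))
theorem f205804 : Led Lsl_df (LP (LK LD1_c4 LD2_c25 LD3_c47)) = (LP (LK LD1_c5 LD2_c49 LD3_c60)) :=
  Lgr Lrot157 (Lpr_ct (K8.f158460 IH) (Lpr_dt (K8.f71213 IH) (Lpr_ct (K8.f138147 IH) (Lpr_dt (f163359 IH) (Lpe (K32.f163365 IH) (Lpr_dt (K6.f104737 IH) (Lpr_ct (K2.f72423 IH) (Lpe (K11.f104747 IH) (Lpr_ff (K11.f205788 IH) (Lpn (LP (LK LD1_c5 LD2_c49 LD3_c60))))))))))))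
theorem f202157 : Led Lsl_gt (LP (LK LD1_c9 LD2_c7 LD3_c60)) = (LP (LK LD1_c6 LD2_c14 LD3_c37)) :=
  Lgr Lrot5 (Lpr_ft (K7.f149079 IH) (Lpr_at (K7.f104375 IH) (Lpr_gf (K11.f202155 IH) (Lpn (LP (LK LD1_c6 LD2_c14 LD3_c37))))))
theorem f205762 : Led Lsl_gf (LP (LK LD1_c2 LD2_c18 LD3_c56)) = (LP (LK LD1_c4 LD2_c42 LD3_c46)) :=
  Lgr Lrot143 (Lpr_dt (K6.f59421 IH) (Lpr_cf (K6.f133108 IH) (Lpe (K5.f133098 IH) (Lpe (K7.f78705 IH) (Lpr_df (K32.f202334 IH) (Lpe (f202157 IH) (Lpe (K7.f149036 IH) (Lpr_gt (K8.f149289 IH) (Lpr_dt (K11.f205758 IH) (Lpn (LP (LK LD1_c4 LD2_c42 LD3_c46))))))))))))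
theorem f205806 : Led Lsl_gt (LP (LK LD1_c4 LD2_c58 LD3_c56)) = (LP (LK LD1_c5 LD2_c49 LD3_c60)) :=
  Lgr Lrot49 (Lpe (K8.f138841 IH) (Lpr_gf (K8.f158851 IH) (Lpr_cf (K4.f60945 IH) (Lpe (f205762 IH) (Lpr_dt (K6.f59421 IH) (Lpr_gt (K8.f138143 IH) (Lpr_dt (K8.f71212 IH) (Lpe (K8.f158460 IH) (Lpr_df (f205804 IH) (Lpn (LP (LK LD1_c5 LD2_c49 LD3_c60))))))))))))
theorem f421692 : Led Lsl_dt (LP (LK LD1_c2 LD2_c34 LD3_c2)) = (LP (LK LD1_c5 LD2_c14 LD3_c25)) :=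
  Lre_d IH (LK LD1_c2 LD2_c34 LD3_c2) (LK LD1_c5 LD2_c14 LD3_c25) Lrfl Lrfl
theorem f541316 : Led Lsl_gf (LP (LK LD1_c4 LD2_c5 LD3_c51)) = (LP (LK LD1_c5 LD2_c14 LD3_c25)) :=
  Lgr Lrot134 (Lpe (f79920 IH) (Lpr_et (f137991 IH) (Lpr_gt (f541277 IH) (Lpr_ef (f506389 IH) (Lpq (f537668 IH) (Lpr_dt (K8.f138841 IH) (Lpr_gt (f205806 IH) (Lpe (f205800 IH) (Lpe (f427918 IH) (Lpr_gt (f421683 IH) (Lpr_dt (f421692 IH) (Lpn (LP (LK LD1_c5 LD2_c14 LD3_c25))))))))))))))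
theorem f137992 : Led Lsl_dt (LP (LK LD1_c4 LD2_c5 LD3_c51)) = (LP (LK LD1_c2 LD2_c0 LD3_c13)) :=
  Lre_d IH (LK LD1_c4 LD2_c5 LD3_c51) (LK LD1_c2 LD2_c0 LD3_c13) Lrfl Lrfl
theorem f541322 : Led Lsl_ct (LP (LK LD1_c2 LD2_c0 LD3_c13)) = (LP (LK LD1_c4 LD2_c5 LD3_c50)) :=
  Lre_c IH (LK LD1_c2 LD2_c0 LD3_c13) (LK LD1_c4 LD2_c5 LD3_c50) Lrfl Lrfl
theorem f541323 : Led Lsl_dt (LP (LK LD1_c8 LD2_c12 LD3_c21)) = (LP (LK LD1_c4 LD2_c5 LD3_c50)) :=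
  Lre_d IH (LK LD1_c8 LD2_c12 LD3_c21) (LK LD1_c4 LD2_c5 LD3_c50) Lrfl Lrfl
theorem f138150 : Led Lsl_et (LP (LK LD1_c2 LD2_c53 LD3_c4)) = (LP (LK LD1_c5 LD2_c53 LD3_c28)) :=
  Lre_e IH (LK LD1_c2 LD2_c53 LD3_c4) (LK LD1_c5 LD2_c53 LD3_c28) Lrfl Lrfl
theorem f427916 : Led Lsl_cf (LP (LK LD1_c5 LD2_c14 LD3_c22)) = (LP (LK LD1_c5 LD2_c53 LD3_c28)) :=
  Lgr Lrot39 (Lpr_et (f427910 IH) (Lpr_ct (K8.f158460 IH) (Lpr_et (f138150 IH) (Lpn (LP (LK LD1_c5 LD2_c53 LD3_c28))))))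
theorem f242754 : Led Lsl_ct (LP (LK LD1_c1 LD2_c12 LD3_c27)) = (LP (LK LD1_c1 LD2_c13 LD3_c47)) :=
  Lgr Lrot15 (Lpe (K27.f68563 IH) (Lpr_cf (K35.f242750 IH) (Lpe (f185802 IH) (Lpn (LP (LK LD1_c1 LD2_c13 LD3_c47))))))
theorem f427778 : Led Lsl_gt (LP (LK LD1_c1 LD2_c13 LD3_c47)) = (LP (LK LD1_c1 LD2_c23 LD3_c46)) :=
  Lgr Lrot164 (Lpe (K27.f165468 IH) (Lpr_ct (K10.f163742 IH) (Lpe (K10.f20534 IH) (Lpe (K8.f20462 IH) (Lpe (K10.f56664 IH) (Lpe (K32.f186685 IH) (Lpe (K27.f308052 IH) (Lpe (K27.f169713 IH) (Lpr_cf (K32.f426221 IH) (Lpr_bt (K32.f386857 IH) (Lpn (LP (LK LD1_c1 LD2_c23 LD3_c46)))))))))))))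
theorem f386734 : Led Lsl_ct (LP (LK LD1_c1 LD2_c23 LD3_c46)) = (LP (LK LD1_c2 LD2_c55 LD3_c25)) :=
  Lre_c IH (LK LD1_c1 LD2_c23 LD3_c46) (LK LD1_c2 LD2_c55 LD3_c25) Lrfl Lrfl
theorem f426219 : Led Lsl_bf (LP (LK LD1_c5 LD2_c7 LD3_c36)) = (LP (LK LD1_c2 LD2_c55 LD3_c25)) :=
  Lgr Lrot90 (Lpr_ct (K27.f169698 IH) (Lpr_bt (f169717 IH) (Lpr_ct (K27.f426211 IH) (Lpr_bt (K32.f386857 IH) (Lpr_ct (f386734 IH) (Lpn (LP (LK LD1_c2 LD2_c55 LD3_c25))))))))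
theorem f3283 : Led Lsl_gt (LP (LK LD1_c5 LD2_c7 LD3_c36)) = (LP (LK LD1_c2 LD2_c31 LD3_c9)) :=
  Lre_g IH (LK LD1_c5 LD2_c7 LD3_c36) (LK LD1_c2 LD2_c31 LD3_c9) Lrfl Lrfl
theorem f71291 : Led Lsl_bt (LP (LK LD1_c0 LD2_c38 LD3_c26)) = (LP (LK LD1_c1 LD2_c22 LD3_c57)) :=
  Lre_b IH (LK LD1_c0 LD2_c38 LD3_c26) (LK LD1_c1 LD2_c22 LD3_c57) Lrfl Lrfl
theorem f71238 : Led Lsl_gt (LP (LK LD1_c1 LD2_c22 LD3_c57)) = (LP (LK LD1_c2 LD2_c53 LD3_c21)) :=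
  Lre_g IH (LK LD1_c1 LD2_c22 LD3_c57) (LK LD1_c2 LD2_c53 LD3_c21) Lrfl Lrfl
theorem f3160 : Led Lsl_bt (LP (LK LD1_c1 LD2_c12 LD3_c37)) = (LP (LK LD1_c0 LD2_c33 LD3_c38)) :=
  Lre_b IH (LK LD1_c1 LD2_c12 LD3_c37) (LK LD1_c0 LD2_c33 LD3_c38) Lrfl Lrfl
theorem f3161 : Led Lsl_ct (LP (LK LD1_c1 LD2_c12 LD3_c37)) = (LP (LK LD1_c1 LD2_c12 LD3_c37)) :=
  Lgr Lrot83 (Lpe (K35.f3158 IH) (Lpe (K8.f3157 IH) (Lpr_bf (K9.f3154 IH) (Lpe (K8.f3159 IH) (Lpe (f3160 IH) (Lpn (LP (LK LD1_c1 LD2_c12 LD3_c37))))))))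
theorem f3173 : Led Lsl_ft (LP (LK LD1_c1 LD2_c12 LD3_c37)) = (LP (LK LD1_c0 LD2_c33 LD3_c36)) :=
  Lre_f IH (LK LD1_c1 LD2_c12 LD3_c37) (LK LD1_c0 LD2_c33 LD3_c36) Lrfl Lrfl
theorem f3174 : Led Lsl_cf (LP (LK LD1_c0 LD2_c33 LD3_c36)) = (LP (LK LD1_c0 LD2_c33 LD3_c36)) :=
  Lgr Lrot108 (Lpr_ft (K7.f3172 IH) (Lpr_ct (f3161 IH) (Lpr_ft (f3173 IH) (Lpn (LP (LK LD1_c0 LD2_c33 LD3_c36))))))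
theorem f3281 : Led Lsl_gt (LP (LK LD1_c1 LD2_c12 LD3_c34)) = (LP (LK LD1_c0 LD2_c33 LD3_c36)) :=
  Lre_g IH (LK LD1_c1 LD2_c12 LD3_c34) (LK LD1_c0 LD2_c33 LD3_c36) Lrfl Lrfl
theorem f3282 : Led Lsl_ct (LP (LK LD1_c2 LD2_c31 LD3_c9)) = (LP (LK LD1_c1 LD2_c12 LD3_c34)) :=
  Lre_c IH (LK LD1_c2 LD2_c31 LD3_c9) (LK LD1_c1 LD2_c12 LD3_c34) Lrfl Lrfl
theorem f421465 : Led Lsl_bf (LP (LK LD1_c2 LD2_c53 LD3_c21)) = (LP (LK LD1_c2 LD2_c31 LD3_c9)) :=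
  Lgr Lrot34 (Lpe (f71238 IH) (Lpe (f71291 IH) (Lpr_ct (K12.f71486 IH) (Lpe (K10.f31675 IH) (Lpr_cf (K14.f194085 IH) (Lpe (K10.f3290 IH) (Lpe (K7.f3272 IH) (Lpe (f3174 IH) (Lpe (f3281 IH) (Lpe (f3282 IH) (Lpn (LP (LK LD1_c2 LD2_c31 LD3_c9)))))))))))))
theorem f421469 : Led Lsl_bt (LP (LK LD1_c2 LD2_c53 LD3_c21)) = (LP (LK LD1_c2 LD2_c31 LD3_c9)) :=
  Lgr Lrot127 (Lpr_bf (f421465 IH) (Lpn (LP (LK LD1_c2 LD2_c31 LD3_c9))))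
theorem f421467 : Led Lsl_ct (LP (LK LD1_c2 LD2_c53 LD3_c21)) = (LP (LK LD1_c5 LD2_c53 LD3_c59)) :=
  Lre_c IH (LK LD1_c2 LD2_c53 LD3_c21) (LK LD1_c5 LD2_c53 LD3_c59) Lrfl Lrfl
theorem f428068 : Led Lsl_gt (LP (LK LD1_c5 LD2_c53 LD3_c59)) = (LP (LK LD1_c7 LD2_c59 LD3_c56)) :=
  Lgr Lrot65 (Lpe (f421467 IH) (Lpr_bt (f421469 IH) (Lpe (f3283 IH) (Lpr_bf (f426219 IH) (Lpr_ct (K24.f386739 IH) (Lpe (f427778 IH) (Lpe (f242754 IH) (Lpr_gf (K32.f427805 IH) (Lpe (K35.f161198 IH) (Lpe (K35.f161114 IH) (Lpn (LP (LK LD1_c7 LD2_c59 LD3_c56)))))))))))))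
theorem f386790 : Led Lsl_ct (LP (LK LD1_c1 LD2_c12 LD3_c34)) = (LP (LK LD1_c2 LD2_c31 LD3_c9)) :=
  Lre_c IH (LK LD1_c1 LD2_c12 LD3_c34) (LK LD1_c2 LD2_c31 LD3_c9) Lrfl Lrfl
theorem f3296 : Led Lsl_bt (LP (LK LD1_c2 LD2_c31 LD3_c8)) = (LP (LK LD1_c1 LD2_c12 LD3_c34)) :=
  Lre_b IH (LK LD1_c2 LD2_c31 LD3_c8) (LK LD1_c1 LD2_c12 LD3_c34) Lrfl Lrfl
theorem f421471 : Led Lsl_ct (LP (LK LD1_c5 LD2_c7 LD3_c44)) = (LP (LK LD1_c2 LD2_c31 LD3_c8)) :=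
  Lre_c IH (LK LD1_c5 LD2_c7 LD3_c44) (LK LD1_c2 LD2_c31 LD3_c8) Lrfl Lrfl
theorem f421472 : Led Lsl_bt (LP (LK LD1_c5 LD2_c53 LD3_c59)) = (LP (LK LD1_c5 LD2_c7 LD3_c44)) :=
  Lgr Lrot128 (Lpe (f421467 IH) (Lpr_bf (f421465 IH) (Lpe (f386790 IH) (Lpe (f3296 IH) (Lpe (f421471 IH) (Lpn (LP (LK LD1_c5 LD2_c7 LD3_c44))))))))
theorem f421505 : Led Lsl_bf (LP (LK LD1_c5 LD2_c53 LD3_c59)) = (LP (LK LD1_c5 LD2_c7 LD3_c44)) :=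
  Lgr Lrot24 (Lpr_bt (f421472 IH) (Lpn (LP (LK LD1_c5 LD2_c7 LD3_c44))))
theorem f158336 : Led Lsl_bt (LP (LK LD1_c3 LD2_c59 LD3_c23)) = (LP (LK LD1_c7 LD2_c59 LD3_c56)) :=
  Lre_b IH (LK LD1_c3 LD2_c59 LD3_c23) (LK LD1_c7 LD2_c59 LD3_c56) Lrfl Lrfl
theorem f301861 : Led Lsl_bf (LP (LK LD1_c2 LD2_c33 LD3_c59)) = (LP (LK LD1_c2 LD2_c30 LD3_c58)) :=
  Lgr Lrot81 (Lpr_at (K32.f301859 IH) (Lpr_bt (K32.f186685 IH) (Lpr_at (K18.f301857 IH) (Lpr_bt (f53194 IH) (Lpr_at (K32.f301860 IH) (Lpn (LP (LK LD1_c2 LD2_c30 LD3_c58))))))))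
theorem f308086 : Led Lsl_bt (LP (LK LD1_c5 LD2_c13 LD3_c39)) = (LP (LK LD1_c5 LD2_c7 LD3_c15)) :=
  Lgr Lrot128 (Lpe (K32.f308085 IH) (Lpr_bf (K19.f308081 IH) (Lpr_cf (K32.f308068 IH) (Lpr_bf (f301861 IH) (Lpe (K32.f308074 IH) (Lpn (LP (LK LD1_c5 LD2_c7 LD3_c15))))))))
theorem f308543 : Led Lsl_ff (LP (LK LD1_c5 LD2_c13 LD3_c58)) = (LP (LK LD1_c5 LD2_c7 LD3_c15)) :=
  Lgr Lrot23 (Lpr_ct (K32.f308493 IH) (Lpr_ft (f308534 IH) (Lpr_ct (f308425 IH) (Lpn (LP (LK LD1_c5 LD2_c7 LD3_c15))))))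
theorem f427830 : Led Lsl_bt (LP (LK LD1_c5 LD2_c13 LD3_c58)) = (LP (LK LD1_c4 LD2_c25 LD3_c55)) :=
  Lgr Lrot35 (Lpr_ff (f308543 IH) (Lpe (f308086 IH) (Lpr_ff (f427824 IH) (Lpn (LP (LK LD1_c4 LD2_c25 LD3_c55))))))
theorem f427814 : Led Lsl_ct (LP (LK LD1_c5 LD2_c13 LD3_c38)) = (LP (LK LD1_c4 LD2_c58 LD3_c27)) :=
  Lgr Lrot59 (Lpr_cf (f427807 IH) (Lpn (LP (LK LD1_c4 LD2_c58 LD3_c27))))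
theorem f428075 : Led Lsl_gf (LP (LK LD1_c2 LD2_c31 LD3_c8)) = (LP (LK LD1_c4 LD2_c58 LD3_c27)) :=
  Lgr Lrot129 (Lpe (f421471 IH) (Lpe (f421505 IH) (Lpr_gt (f428068 IH) (Lpe (f158336 IH) (Lpr_ct (K35.f161189 IH) (Lpe (f428008 IH) (Lpe (K32.f308493 IH) (Lpr_bt (f427830 IH) (Lpe (f427822 IH) (Lpr_ct (f427814 IH) (Lpn (LP (LK LD1_c4 LD2_c58 LD3_c27)))))))))))))
theorem f428077 : Led Lsl_gt (LP (LK LD1_c2 LD2_c31 LD3_c8)) = (LP (LK LD1_c4 LD2_c25 LD3_c49)) :=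
  Lgr Lrot46 (Lpr_gf (f428075 IH) (Lpr_ft (f138926 IH) (Lpe (f421423 IH) (Lpn (LP (LK LD1_c4 LD2_c25 LD3_c49))))))
theorem f386791 : Led Lsl_bt (LP (LK LD1_c1 LD2_c12 LD3_c34)) = (LP (LK LD1_c2 LD2_c31 LD3_c8)) :=
  Lre_b IH (LK LD1_c1 LD2_c12 LD3_c34) (LK LD1_c2 LD2_c31 LD3_c8) Lrfl Lrfl
theorem f386673 : Led Lsl_ct (LP (LK LD1_c1 LD2_c23 LD3_c38)) = (LP (LK LD1_c0 LD2_c38 LD3_c41)) :=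
  Lre_c IH (LK LD1_c1 LD2_c23 LD3_c38) (LK LD1_c0 LD2_c38 LD3_c41) Lrfl Lrfl
theorem f186704 : Led Lsl_bt (LP (LK LD1_c1 LD2_c22 LD3_c54)) = (LP (LK LD1_c2 LD2_c53 LD3_c45)) :=
  Lre_b IH (LK LD1_c1 LD2_c22 LD3_c54) (LK LD1_c2 LD2_c53 LD3_c45) Lrfl Lrfl
theorem f386769 : Led Lsl_gt (LP (LK LD1_c2 LD2_c55 LD3_c18)) = (LP (LK LD1_c2 LD2_c53 LD3_c45)) :=
  Lgr Lrot164 (Lpe (f386675 IH) (Lpr_ct (f386673 IH) (Lpr_gf (K27.f386763 IH) (Lpr_cf (K27.f308052 IH) (Lpe (K32.f186693 IH) (Lpe (K35.f186694 IH) (Lpe (K35.f186695 IH) (Lpe (K35.f186691 IH) (Lpe (K35.f186690 IH) (Lpr_bt (f186704 IH) (Lpn (LP (LK LD1_c2 LD2_c53 LD3_c45)))))))))))))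
theorem f426198 : Led Lsl_bt (LP (LK LD1_c2 LD2_c55 LD3_c18)) = (LP (LK LD1_c1 LD2_c23 LD3_c38)) :=
  Lre_b IH (LK LD1_c2 LD2_c55 LD3_c18) (LK LD1_c1 LD2_c23 LD3_c38) Lrfl Lrfl
theorem f426199 : Led Lsl_af (LP (LK LD1_c2 LD2_c55 LD3_c18)) = (LP (LK LD1_c2 LD2_c55 LD3_c3)) :=
  Lgr Lrot36 (Lpr_bt (f426198 IH) (Lpr_at (K24.f426192 IH) (Lpr_bt (f386768 IH) (Lpr_at (K27.f386736 IH) (Lpr_bt (f386753 IH) (Lpn (LP (LK LD1_c2 LD2_c55 LD3_c3))))))))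
theorem f386742 : Led Lsl_ff (LP (LK LD1_c2 LD2_c55 LD3_c3)) = (LP (LK LD1_c5 LD2_c6 LD3_c57)) :=
  Lgr Lrot25 (Lpr_bt (f386741 IH) (Lpr_ft (K27.f386737 IH) (Lpr_bt (K27.f169708 IH) (Lpn (LP (LK LD1_c5 LD2_c6 LD3_c57))))))
theorem f427483 : Led Lsl_af (LP (LK LD1_c5 LD2_c6 LD3_c57)) = (LP (LK LD1_c5 LD2_c7 LD3_c36)) :=
  Lgr Lrot45 (Lpe (f386742 IH) (Lpe (f426199 IH) (Lpr_ft (f427479 IH) (Lpn (LP (LK LD1_c5 LD2_c7 LD3_c36))))))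
theorem f427487 : Led Lsl_gt (LP (LK LD1_c2 LD2_c53 LD3_c45)) = (LP (LK LD1_c5 LD2_c6 LD3_c57)) :=
  Lgr Lrot46 (Lpe (f386769 IH) (Lpr_ft (f427479 IH) (Lpe (f427483 IH) (Lpn (LP (LK LD1_c5 LD2_c6 LD3_c57))))))
theorem f427906 : Led Lsl_bt (LP (LK LD1_c5 LD2_c14 LD3_c22)) = (LP (LK LD1_c4 LD2_c25 LD3_c49)) :=
  Lgr Lrot127 (Lpr_bf (f427894 IH) (Lpn (LP (LK LD1_c4 LD2_c25 LD3_c49))))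
theorem f158216 : Led Lsl_et (LP (LK LD1_c8 LD2_c2 LD3_c10)) = (LP (LK LD1_c4 LD2_c0 LD3_c40)) :=
  Lre_e IH (LK LD1_c8 LD2_c2 LD3_c10) (LK LD1_c4 LD2_c0 LD3_c40) Lrfl Lrfl
theorem f158264 : Led Lsl_bt (LP (LK LD1_c5 LD2_c53 LD3_c28)) = (LP (LK LD1_c8 LD2_c2 LD3_c10)) :=
  Lgr Lrot119 (Lpe (f138150 IH) (Lpr_bf (K8.f158258 IH) (Lpe (f158216 IH) (Lpn (LP (LK LD1_c8 LD2_c2 LD3_c10))))))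
theorem f427908 : Led Lsl_ct (LP (LK LD1_c5 LD2_c14 LD3_c22)) = (LP (LK LD1_c5 LD2_c53 LD3_c28)) :=
  Lgr Lrot83 (Lpr_bf (f427894 IH) (Lpe (f421409 IH) (Lpe (K32.f203299 IH) (Lpr_cf (K32.f158208 IH) (Lpe (f158264 IH) (Lpn (LP (LK LD1_c5 LD2_c53 LD3_c28))))))))
theorem f428085 : Led Lsl_gf (LP (LK LD1_c2 LD2_c53 LD3_c46)) = (LP (LK LD1_c5 LD2_c53 LD3_c28)) :=
  Lgr Lrot126 (Lpe (K35.f186690 IH) (Lpr_bt (f186704 IH) (Lpr_gt (f427487 IH) (Lpr_ct (f169718 IH) (Lpr_gt (f3283 IH) (Lpe (f386790 IH) (Lpr_bt (f386791 IH) (Lpr_gt (f428077 IH) (Lpe (f427906 IH) (Lpr_ct (f427908 IH) (Lpn (LP (LK LD1_c5 LD2_c53 LD3_c28)))))))))))))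
theorem f186705 : Led Lsl_dt (LP (LK LD1_c2 LD2_c53 LD3_c46)) = (LP (LK LD1_c5 LD2_c54 LD3_c51)) :=
  Lre_d IH (LK LD1_c2 LD2_c53 LD3_c46) (LK LD1_c5 LD2_c54 LD3_c51) Lrfl Lrfl
theorem f541324 : Led Lsl_gf (LP (LK LD1_c8 LD2_c12 LD3_c21)) = (LP (LK LD1_c5 LD2_c54 LD3_c51)) :=
  Lgr Lrot143 (Lpr_dt (f541323 IH) (Lpe (f541322 IH) (Lpe (f137992 IH) (Lpr_gf (f541316 IH) (Lpe (f421692 IH) (Lpe (f421683 IH) (Lpr_cf (f427916 IH) (Lpe (f428085 IH) (Lpr_dt (f186705 IH) (Lpn (LP (LK LD1_c5 LD2_c54 LD3_c51))))))))))))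
theorem f541340 : Led Lsl_dt (LP (LK LD1_c4 LD2_c5 LD3_c50)) = (LP (LK LD1_c8 LD2_c12 LD3_c21)) :=
  Lre_d IH (LK LD1_c4 LD2_c5 LD3_c50) (LK LD1_c8 LD2_c12 LD3_c21) Lrfl Lrfl
theorem f541285 : Led Lsl_et (LP (LK LD1_c4 LD2_c5 LD3_c50)) = (LP (LK LD1_c8 LD2_c12 LD3_c22)) :=
  Lre_e IH (LK LD1_c4 LD2_c5 LD3_c50) (LK LD1_c8 LD2_c12 LD3_c22) Lrfl Lrfl
theorem f59414 : Led Lsl_et (LP (LK LD1_c2 LD2_c18 LD3_c56)) = (LP (LK LD1_c4 LD2_c42 LD3_c53)) :=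
  Lre_e IH (LK LD1_c2 LD2_c18 LD3_c56) (LK LD1_c4 LD2_c42 LD3_c53) Lrfl Lrfl
theorem f541343 : Led Lsl_gt (LP (LK LD1_c8 LD2_c12 LD3_c22)) = (LP (LK LD1_c4 LD2_c42 LD3_c53)) :=
  Lgr Lrot131 (Lpe (f541285 IH) (Lpr_dt (f541340 IH) (Lpr_gf (f541324 IH) (Lpe (f186705 IH) (Lpr_gf (f428085 IH) (Lpe (f138150 IH) (Lpr_dt (K8.f71213 IH) (Lpe (K8.f138143 IH) (Lpe (K6.f59421 IH) (Lpr_et (f59414 IH) (Lpn (LP (LK LD1_c4 LD2_c42 LD3_c53)))))))))))))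
theorem f137995 : Led Lsl_ct (LP (LK LD1_c4 LD2_c5 LD3_c52)) = (LP (LK LD1_c8 LD2_c12 LD3_c22)) :=
  Lre_c IH (LK LD1_c4 LD2_c5 LD3_c52) (LK LD1_c8 LD2_c12 LD3_c22) Lrfl Lrfl
theorem f172629 : Led Lsl_gt (LP (LK LD1_c2 LD2_c26 LD3_c9)) = (LP (LK LD1_c1 LD2_c10 LD3_c18)) :=
  Lre_g IH (LK LD1_c2 LD2_c26 LD3_c9) (LK LD1_c1 LD2_c10 LD3_c18) Lrfl Lrfl
theorem f59412 : Led Lsl_ct (LP (LK LD1_c2 LD2_c18 LD3_c57)) = (LP (LK LD1_c4 LD2_c42 LD3_c53)) :=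
  Lre_c IH (LK LD1_c2 LD2_c18 LD3_c57) (LK LD1_c4 LD2_c42 LD3_c53) Lrfl Lrfl
theorem f541347 : Led Lsl_bf (LP (LK LD1_c2 LD2_c26 LD3_c9)) = (LP (LK LD1_c2 LD2_c18 LD3_c57)) :=
  Lgr Lrot156 (Lpr_gt (f172629 IH) (Lpe (K30.f172541 IH) (Lpr_ct (K9.f172545 IH) (Lpe (K9.f179854 IH) (Lpe (K9.f179874 IH) (Lpr_bt (K12.f179875 IH) (Lpe (f541275 IH) (Lpr_ct (f137995 IH) (Lpr_gt (f541343 IH) (Lpe (f59412 IH) (Lpn (LP (LK LD1_c2 LD2_c18 LD3_c57)))))))))))))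
theorem f132839 : Led Lsl_et (LP (LK LD1_c1 LD2_c6 LD3_c30)) = (LP (LK LD1_c2 LD2_c18 LD3_c57)) :=
  Lre_e IH (LK LD1_c1 LD2_c6 LD3_c30) (LK LD1_c2 LD2_c18 LD3_c57) Lrfl Lrfl
theorem f541353 : Led Lsl_et (LP (LK LD1_c2 LD2_c26 LD3_c9)) = (LP (LK LD1_c2 LD2_c18 LD3_c55)) :=
  Lgr Lrot74 (Lpr_bf (f541347 IH) (Lpe (f132839 IH) (Lpe (K8.f59400 IH) (Lpn (LP (LK LD1_c2 LD2_c18 LD3_c55))))))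
theorem f541357 : Led Lsl_ef (LP (LK LD1_c2 LD2_c26 LD3_c9)) = (LP (LK LD1_c2 LD2_c18 LD3_c55)) :=
  Lgr Lrot88 (Lpr_et (f541353 IH) (Lpn (LP (LK LD1_c2 LD2_c18 LD3_c55))))
theorem f411981 : Led Lsl_et (LP (LK LD1_c1 LD2_c19 LD3_c48)) = (LP (LK LD1_c2 LD2_c46 LD3_c45)) :=
  Lre_e IH (LK LD1_c1 LD2_c19 LD3_c48) (LK LD1_c2 LD2_c46 LD3_c45) Lrfl Lrfl
def v1626 : LQ := Led Lsl_ft (LP (LK LD1_c1 LD2_c22 LD3_c40))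
theorem f500415 : Led Lsl_ft (LP (LK LD1_c1 LD2_c22 LD3_c40)) = v1626 :=
  Lrfl
theorem f500416 : Led Lsl_ff (LP (LK LD1_c1 LD2_c22 LD3_c40)) = v1626 :=
  Lgr Lrot3 (Lpr_ft (f500415 IH) (Lpn v1626))
theorem f157645 : Led Lsl_ct (LP (LK LD1_c6 LD2_c42 LD3_c9)) = (LP (LK LD1_c12 LD2_c49 LD3_c26)) :=
  Lre_c IH (LK LD1_c6 LD2_c42 LD3_c9) (LK LD1_c12 LD2_c49 LD3_c26) Lrfl Lrfl
theorem f208424 : Led Lsl_dt (LP (LK LD1_c12 LD2_c49 LD3_c26)) = (LP (LK LD1_c8 LD2_c0 LD3_c27)) :=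
  Lgr Lrot173 (Lpe (f157645 IH) (Lpe (K8.f139792 IH) (Lpe (K28.f157744 IH) (Lpe (K8.f101691 IH) (Lpe (K8.f161344 IH) (Lpe (K32.f159044 IH) (Lpr_cf (K32.f159061 IH) (Lpe (K32.f208382 IH) (Lpe (K32.f129258 IH) (Lpe (K32.f157681 IH) (Lpe (K8.f160952 IH) (Lpe (K8.f101693 IH) (Lpr_cf (K8.f160942 IH) (Lpe (K8.f99559 IH) (Lpr_cf (K32.f208416 IH) (Lpn (LP (LK LD1_c8 LD2_c0 LD3_c27))))))))))))))))))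
theorem f149317 : Led Lsl_bt (LP (LK LD1_c2 LD2_c15 LD3_c9)) = (LP (LK LD1_c4 LD2_c35 LD3_c52)) :=
  Lre_b IH (LK LD1_c2 LD2_c15 LD3_c9) (LK LD1_c4 LD2_c35 LD3_c52) Lrfl Lrfl
theorem f149320 : Led Lsl_ff (LP (LK LD1_c2 LD2_c53 LD3_c12)) = (LP (LK LD1_c4 LD2_c35 LD3_c52)) :=
  Lgr Lrot25 (Lpr_bt (K4.f68998 IH) (Lpr_ft (K7.f149313 IH) (Lpr_bt (f149317 IH) (Lpn (LP (LK LD1_c4 LD2_c35 LD3_c52))))))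
theorem f208429 : Led Lsl_af (LP (LK LD1_c4 LD2_c36 LD3_c41)) = (LP (LK LD1_c2 LD2_c53 LD3_c12)) :=
  Lgr Lrot109 (Lpr_cf (K32.f208416 IH) (Lpe (f208424 IH) (Lpe (f157645 IH) (Lpe (K8.f139792 IH) (Lpe (K28.f157744 IH) (Lpe (K8.f101691 IH) (Lpe (K8.f161344 IH) (Lpe (K32.f159044 IH) (Lpe (f149320 IH) (Lpn (LP (LK LD1_c2 LD2_c53 LD3_c12))))))))))))
theorem f208472 : Led Lsl_at (LP (LK LD1_c2 LD2_c15 LD3_c33)) = (LP (LK LD1_c1 LD2_c22 LD3_c41)) :=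
  Lgr Lrot51 (Lpe (K8.f99559 IH) (Lpr_af (f208429 IH) (Lpe (K8.f69009 IH) (Lpn (LP (LK LD1_c1 LD2_c22 LD3_c41))))))
theorem f160970 : Led Lsl_bt (LP (LK LD1_c1 LD2_c23 LD3_c48)) = (LP (LK LD1_c2 LD2_c15 LD3_c33)) :=
  Lgr Lrot128 (Lpr_cf (K8.f160966 IH) (Lpe (K6.f35235 IH) (Lpr_cf (K6.f35241 IH) (Lpe (K8.f160936 IH) (Lpr_cf (K8.f160942 IH) (Lpn (LP (LK LD1_c2 LD2_c15 LD3_c33))))))))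
theorem f136323 : Led Lsl_ft (LP (LK LD1_c1 LD2_c22 LD3_c37)) = (LP (LK LD1_c1 LD2_c21 LD3_c57)) :=
  Lgr Lrot54 (Lpe (K32.f72395 IH) (Lpr_ff (K6.f136320 IH) (Lpe (K7.f136322 IH) (Lpn (LP (LK LD1_c1 LD2_c21 LD3_c57))))))
theorem f160976 : Led Lsl_af (LP (LK LD1_c1 LD2_c23 LD3_c48)) = (LP (LK LD1_c1 LD2_c21 LD3_c57)) :=
  Lgr Lrot109 (Lpr_cf (K8.f160966 IH) (Lpe (K8.f109940 IH) (Lpr_cf (K3.f109929 IH) (Lpe (K6.f109916 IH) (Lpr_cf (K6.f115838 IH) (Lpe (K5.f95244 IH) (Lpe (K5.f94980 IH) (Lpe (K5.f72398 IH) (Lpr_ft (f136323 IH) (Lpn (LP (LK LD1_c1 LD2_c21 LD3_c57))))))))))))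
theorem f208500 : Led Lsl_bf (LP (LK LD1_c1 LD2_c21 LD3_c57)) = (LP (LK LD1_c1 LD2_c4 LD3_c40)) :=
  Lgr Lrot81 (Lpe (f160976 IH) (Lpr_bt (f160970 IH) (Lpr_at (f208472 IH) (Lpr_bt (K4.f81850 IH) (Lpe (K7.f149030 IH) (Lpn (LP (LK LD1_c1 LD2_c4 LD3_c40))))))))
theorem f208508 : Led Lsl_ft (LP (LK LD1_c1 LD2_c21 LD3_c57)) = (LP (LK LD1_c1 LD2_c22 LD3_c37)) :=
  Lgr Lrot75 (Lpr_bf (f208500 IH) (Lpr_ff (K7.f149101 IH) (Lpe (K5.f71214 IH) (Lpn (LP (LK LD1_c1 LD2_c22 LD3_c37))))))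
theorem f136315 : Led Lsl_cf (LP (LK LD1_c2 LD2_c50 LD3_c15)) = (LP (LK LD1_c2 LD2_c51 LD3_c47)) :=
  Lgr Lrot11 (Lpr_ct (K6.f136307 IH) (Lpn (LP (LK LD1_c2 LD2_c51 LD3_c47))))
theorem f130200 : Led Lsl_df (LP (LK LD1_c3 LD2_c24 LD3_c34)) = (LP (LK LD1_c2 LD2_c50 LD3_c15)) :=
  Lgr Lrot78 (Lpe (K4.f103745 IH) (Lpr_dt (K8.f95236 IH) (Lpr_ft (K5.f130196 IH) (Lpn (LP (LK LD1_c2 LD2_c50 LD3_c15))))))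
theorem f208510 : Led Lsl_af (LP (LK LD1_c1 LD2_c21 LD3_c54)) = (LP (LK LD1_c1 LD2_c22 LD3_c37)) :=
  Lgr Lrot109 (Lpe (K6.f8362 IH) (Lpe (K7.f136251 IH) (Lpe (K32.f104285 IH) (Lpe (K5.f65955 IH) (Lpr_cf (K4.f65849 IH) (Lpr_df (f130200 IH) (Lpr_cf (f136315 IH) (Lpe (K7.f136322 IH) (Lpr_ft (f208508 IH) (Lpn (LP (LK LD1_c1 LD2_c22 LD3_c37))))))))))))
theorem f159026 : Led Lsl_bf (LP (LK LD1_c6 LD2_c44 LD3_c13)) = (LP (LK LD1_c11 LD2_c26 LD3_c5)) :=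
  Lgr Lrot165 (Lpr_gt (K8.f159022 IH) (Lpr_ct (K6.f69005 IH) (Lpe (K4.f69054 IH) (Lpe (K4.f40325 IH) (Lpr_bt (K6.f40314 IH) (Lpr_gt (K6.f40560 IH) (Lpe (K6.f40564 IH) (Lpe (K6.f130429 IH) (Lpr_gt (K5.f130105 IH) (Lpe (K6.f130104 IH) (Lpn (LP (LK LD1_c11 LD2_c26 LD3_c5)))))))))))))
theorem f159029 : Led Lsl_bt (LP (LK LD1_c3 LD2_c20 LD3_c15)) = (LP (LK LD1_c2 LD2_c51 LD3_c43)) :=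
  Lgr Lrot128 (Lpe (K32.f149649 IH) (Lpr_bf (f159026 IH) (Lpe (K5.f57529 IH) (Lpe (K6.f130111 IH) (Lpr_cf (K32.f136262 IH) (Lpn (LP (LK LD1_c2 LD2_c51 LD3_c43))))))))
theorem f159031 : Led Lsl_bf (LP (LK LD1_c3 LD2_c20 LD3_c15)) = (LP (LK LD1_c2 LD2_c51 LD3_c43)) :=
  Lgr Lrot24 (Lpr_bt (f159029 IH) (Lpn (LP (LK LD1_c2 LD2_c51 LD3_c43))))
theorem f149107 : Led Lsl_at (LP (LK LD1_c2 LD2_c15 LD3_c6)) = (LP (LK LD1_c1 LD2_c22 LD3_c43)) :=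
  Lgr Lrot100 (Lpr_af (K7.f149105 IH) (Lpn (LP (LK LD1_c1 LD2_c22 LD3_c43))))
theorem f149095 : Led Lsl_ff (LP (LK LD1_c2 LD2_c15 LD3_c6)) = (LP (LK LD1_c1 LD2_c22 LD3_c39)) :=
  Lgr Lrot23 (Lpr_ct (K4.f34734 IH) (Lpr_ft (K7.f149090 IH) (Lpr_ct (K5.f61846 IH) (Lpn (LP (LK LD1_c1 LD2_c22 LD3_c39))))))
theorem f149318 : Led Lsl_af (LP (LK LD1_c1 LD2_c22 LD3_c39)) = (LP (LK LD1_c2 LD2_c15 LD3_c9)) :=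
  Lgr Lrot45 (Lpe (f149095 IH) (Lpr_at (f149107 IH) (Lpr_ft (K7.f149313 IH) (Lpn (LP (LK LD1_c2 LD2_c15 LD3_c9))))))
theorem f159042 : Led Lsl_at (LP (LK LD1_c3 LD2_c20 LD3_c15)) = (LP (LK LD1_c4 LD2_c35 LD3_c52)) :=
  Lgr Lrot67 (Lpr_bf (f159031 IH) (Lpe (K6.f136328 IH) (Lpe (K5.f61862 IH) (Lpr_af (f149318 IH) (Lpe (K32.f149326 IH) (Lpn (LP (LK LD1_c4 LD2_c35 LD3_c52))))))))
theorem f159045 : Led Lsl_af (LP (LK LD1_c2 LD2_c51 LD3_c42)) = (LP (LK LD1_c2 LD2_c15 LD3_c7)) :=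
  Lgr Lrot117 (Lpe (K8.f148992 IH) (Lpr_at (f159042 IH) (Lpr_dt (K32.f159044 IH) (Lpn (LP (LK LD1_c2 LD2_c15 LD3_c7))))))
theorem f159047 : Led Lsl_at (LP (LK LD1_c2 LD2_c51 LD3_c42)) = (LP (LK LD1_c2 LD2_c15 LD3_c7)) :=
  Lgr Lrot100 (Lpr_af (f159045 IH) (Lpn (LP (LK LD1_c2 LD2_c15 LD3_c7))))
theorem f208512 : Led Lsl_at (LP (LK LD1_c1 LD2_c4 LD3_c41)) = (LP (LK LD1_c0 LD2_c38 LD3_c18)) :=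
  Lgr Lrot67 (Lpe (K8.f37835 IH) (Lpe (f159047 IH) (Lpe (K7.f8372 IH) (Lpr_af (f208510 IH) (Lpe (K2.f72394 IH) (Lpn (LP (LK LD1_c0 LD2_c38 LD3_c18))))))))
theorem f71128 : Led Lsl_et (LP (LK LD1_c2 LD2_c15 LD3_c10)) = (LP (LK LD1_c1 LD2_c4 LD3_c41)) :=
  Lre_e IH (LK LD1_c2 LD2_c15 LD3_c10) (LK LD1_c1 LD2_c4 LD3_c41) Lrfl Lrfl
theorem f208584 : Led Lsl_af (LP (LK LD1_c2 LD2_c15 LD3_c10)) = (LP (LK LD1_c1 LD2_c22 LD3_c40)) :=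
  Lgr Lrot50 (Lpr_et (f71128 IH) (Lpr_at (f208512 IH) (Lpr_et (f139493 IH) (Lpn (LP (LK LD1_c1 LD2_c22 LD3_c40))))))
theorem f500417 : Led Lsl_gf (LP (LK LD1_c4 LD2_c35 LD3_c58)) = v1626 :=
  Lgr Lrot47 (Lpr_gt (K35.f37859 IH) (Lpr_af (f208584 IH) (Lpr_ff (f500416 IH) (Lpn v1626))))
theorem f541365 : (LP (LK LD1_c2 LD2_c46 LD3_c45)) = v1626 :=
  (Llr Lrot185 (Lpe (f411981 IH) (Lpr_dt (K31.f174964 IH) (Lpr_gf (K31.f411972 IH) (Lpe (K30.f172543 IH) (Lpe (f172629 IH) (Lpr_ef (f541357 IH) (Lpr_dt (K8.f138519 IH) (Lpe (K8.f157870 IH) (Lpe (K8.f148988 IH) (Lpr_et (K35.f538211 IH) (Lpr_gf (f500417 IH) (Lpn v1626))))))))))))).symm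
theorem f149019 : Led Lsl_ft (LP (LK LD1_c1 LD2_c4 LD3_c40)) = (LP (LK LD1_c0 LD2_c38 LD3_c18)) :=
  Lgr Lrot4 (Lpe (K7.f35551 IH) (Lpr_ff (K7.f149017 IH) (Lpe (K2.f71210 IH) (Lpn (LP (LK LD1_c0 LD2_c38 LD3_c18))))))
theorem f494404 : Led Lsl_ef (LP (LK LD1_c1 LD2_c4 LD3_c40)) = v1266 :=
  Lgr Lrot88 (Lpr_et (f494402 IH) (Lpn v1266))
theorem f380616 : Led Lsl_et (LP (LK LD1_c2 LD2_c46 LD3_c45)) = (LP (LK LD1_c1 LD2_c19 LD3_c48)) :=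
  Lre_e IH (LK LD1_c2 LD2_c46 LD3_c45) (LK LD1_c1 LD2_c19 LD3_c48) Lrfl Lrfl
theorem f423296 : Led Lsl_ft (LP (LK LD1_c2 LD2_c46 LD3_c42)) = (LP (LK LD1_c2 LD2_c46 LD3_c8)) :=
  Lgr Lrot54 (Lpe (K31.f181483 IH) (Lpr_ff (K31.f423292 IH) (Lpe (K31.f181292 IH) (Lpn (LP (LK LD1_c2 LD2_c46 LD3_c8))))))
theorem f423327 : Led Lsl_ff (LP (LK LD1_c1 LD2_c19 LD3_c48)) = (LP (LK LD1_c2 LD2_c13 LD3_c15)) :=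
  Lgr Lrot25 (Lpr_bt (K31.f181479 IH) (Lpr_ft (f423296 IH) (Lpe (K30.f181227 IH) (Lpn (LP (LK LD1_c2 LD2_c13 LD3_c15))))))
theorem f423331 : Led Lsl_ft (LP (LK LD1_c1 LD2_c19 LD3_c48)) = (LP (LK LD1_c2 LD2_c13 LD3_c15)) :=
  Lgr Lrot48 (Lpr_ff (f423327 IH) (Lpn (LP (LK LD1_c2 LD2_c13 LD3_c15))))
theorem f541380 : v1266 = (LP (LK LD1_c2 LD2_c13 LD3_c15)) :=
  (Llr Lrot21 (Lpe (f494404 IH) (Lpr_ft (f149019 IH) (Lpr_et (f139493 IH) (Lpr_ft (f500415 IH) (Lpq (f541365 IH) (Lpr_et (f380616 IH) (Lpr_ft (f423331 IH) (Lpn (LP (LK LD1_c2 LD2_c13 LD3_c15))))))))))).symm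
theorem f541384 : v1583 = (LP (LK LD1_c2 LD2_c46 LD3_c8)) :=
  Lefun (Lecon (f500196 IH) (f541380 IH)) (f181264 IH)
theorem f541403 : v411 = (LP (LK LD1_c1 LD2_c19 LD3_c26)) :=
  Lefun (Lecon (Lfl_cf (f500194 IH)) (f541384 IH)) (K30.f181226 IH)
theorem f541413 : (LP (LK LD1_c0 LD2_c37 LD3_c55)) = v1468 :=
  Lefun (Lecon (Lfl_ef (f452713 IH)) (f541403 IH)) (f495718 IH)
theorem f141940 : Led Lsl_bt (LP (LK LD1_c0 LD2_c37 LD3_c55)) = (LP (LK LD1_c1 LD2_c21 LD3_c56)) :=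
  Lre_b IH (LK LD1_c0 LD2_c37 LD3_c55) (LK LD1_c1 LD2_c21 LD3_c56) Lrfl Lrfl
theorem f141941 : Led Lsl_ft (LP (LK LD1_c1 LD2_c4 LD3_c21)) = (LP (LK LD1_c0 LD2_c37 LD3_c55)) :=
  Lgr Lrot75 (Lpe (K5.f20413 IH) (Lpr_ff (K6.f141938 IH) (Lpe (f141940 IH) (Lpn (LP (LK LD1_c0 LD2_c37 LD3_c55))))))
theorem f72377 : Led Lsl_et (LP (LK LD1_c2 LD2_c14 LD3_c29)) = (LP (LK LD1_c1 LD2_c4 LD3_c21)) :=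
  Lre_e IH (LK LD1_c2 LD2_c14 LD3_c29) (LK LD1_c1 LD2_c4 LD3_c21) Lrfl Lrfl
theorem f174829 : Led Lsl_et (LP (LK LD1_c2 LD2_c12 LD3_c61)) = (LP (LK LD1_c4 LD2_c31 LD3_c58)) :=
  Lre_e IH (LK LD1_c2 LD2_c12 LD3_c61) (LK LD1_c4 LD2_c31 LD3_c58) Lrfl Lrfl
theorem f541417 : Led Lsl_ff (LP (LK LD1_c2 LD2_c14 LD3_c29)) = (LP (LK LD1_c4 LD2_c31 LD3_c58)) :=
  Lgr Lrot72 (Lpr_et (f72377 IH) (Lpr_ft (f141941 IH) (Lpqs (f541413 IH) (Lpe (f495719 IH) (Lpr_ft (f423239 IH) (Lpr_et (f174829 IH) (Lpn (LP (LK LD1_c4 LD2_c31 LD3_c58)))))))))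
theorem f136281 : Led Lsl_et (LP (LK LD1_c1 LD2_c21 LD3_c54)) = (LP (LK LD1_c2 LD2_c51 LD3_c44)) :=
  Lre_e IH (LK LD1_c1 LD2_c21 LD3_c54) (LK LD1_c2 LD2_c51 LD3_c44) Lrfl Lrfl
theorem f208516 : Led Lsl_at (LP (LK LD1_c2 LD2_c51 LD3_c44)) = (LP (LK LD1_c2 LD2_c53 LD3_c3)) :=
  Lgr Lrot80 (Lpe (f136281 IH) (Lpr_af (f208510 IH) (Lpe (K2.f72389 IH) (Lpn (LP (LK LD1_c2 LD2_c53 LD3_c3))))))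
theorem f208520 : Led Lsl_ct (LP (LK LD1_c1 LD2_c21 LD3_c55)) = (LP (LK LD1_c2 LD2_c51 LD3_c44)) :=
  Lre_c IH (LK LD1_c1 LD2_c21 LD3_c55) (LK LD1_c2 LD2_c51 LD3_c44) Lrfl Lrfl
theorem f208521 : Led Lsl_af (LP (LK LD1_c1 LD2_c21 LD3_c55)) = (LP (LK LD1_c2 LD2_c14 LD3_c29)) :=
  Lgr Lrot68 (Lpr_ct (f208520 IH) (Lpr_at (f208516 IH) (Lpe (K2.f72281 IH) (Lpn (LP (LK LD1_c2 LD2_c14 LD3_c29))))))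
def v1581 : LQ := Led Lsl_ft (LP (LK LD1_c1 LD2_c21 LD3_c55))
theorem f500186 : Led Lsl_ft (LP (LK LD1_c1 LD2_c21 LD3_c55)) = v1581 :=
  Lrfl
def v1467 : LQ := Led Lsl_et (LP (LK LD1_c1 LD2_c19 LD3_c25))
theorem f495714 : Led Lsl_et (LP (LK LD1_c1 LD2_c19 LD3_c25)) = v1467 :=
  Lrfl
theorem f174842 : Led Lsl_et (LP (LK LD1_c4 LD2_c31 LD3_c58)) = (LP (LK LD1_c2 LD2_c12 LD3_c61)) :=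
  Lre_e IH (LK LD1_c4 LD2_c31 LD3_c58) (LK LD1_c2 LD2_c12 LD3_c61) Lrfl Lrfl
theorem f495715 : Led Lsl_af (LP (LK LD1_c4 LD2_c31 LD3_c58)) = v1467 :=
  Lgr Lrot50 (Lpr_et (f174842 IH) (Lpr_at (K31.f423312 IH) (Lpr_et (f495714 IH) (Lpn v1467))))
theorem f541426 : v1581 = v1467 :=
  (Llr Lrot101 (Lpe (f500186 IH) (Lpr_af (f208521 IH) (Lpr_ff (f541417 IH) (Lpr_af (f495715 IH) (Lpn v1467)))))).symm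
def v1579 : LQ := Led Lsl_gt (LP (LK LD1_c1 LD2_c21 LD3_c55))
theorem f500182 : Led Lsl_gt (LP (LK LD1_c1 LD2_c21 LD3_c55)) = v1579 :=
  Lrfl
theorem f541427 : Led Lsl_gt v1579 = (LP (LK LD1_c4 LD2_c31 LD3_c58)) :=
  Lgr Lrot46 (Lpe (f500182 IH) (Lpr_ft (f500186 IH) (Lpqs (f541426 IH) (Lpe (f495715 IH) (Lpn (LP (LK LD1_c4 LD2_c31 LD3_c58)))))))
theorem f500658 : Led Lsl_bf (LP (LK LD1_c2 LD2_c55 LD3_c45)) = v1669 :=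
  Lgr Lrot96 (Lpr_et (f425960 IH) (Lpr_bt (K24.f425946 IH) (Lpr_et (f500656 IH) (Lpn v1669))))
def v1700 : LQ := Led Lsl_bt (LP (LK LD1_c1 LD2_c24 LD3_c13))
theorem f500907 : Led Lsl_bt (LP (LK LD1_c1 LD2_c24 LD3_c13)) = v1700 :=
  Lrfl
theorem f539248 : (LP (LK LD1_c2 LD2_c55 LD3_c45)) = v1700 :=
  Lefun (Lecon (Lfl_bf (f500658 IH)) (f539245 IH).symm) (f500907 IH)
theorem f539832 : Led Lsl_dt (LP (LK LD1_c2 LD2_c27 LD3_c26)) = (LP (LK LD1_c4 LD2_c59 LD3_c6)) :=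
  Lre_d IH (LK LD1_c2 LD2_c27 LD3_c26) (LK LD1_c4 LD2_c59 LD3_c6) Lrfl Lrfl
theorem f539841 : Led Lsl_ct (LP (LK LD1_c4 LD2_c59 LD3_c6)) = (LP (LK LD1_c9 LD2_c48 LD3_c40)) :=
  Lre_c IH (LK LD1_c4 LD2_c59 LD3_c6) (LK LD1_c9 LD2_c48 LD3_c40) Lrfl Lrfl
theorem f449352 : Led Lsl_ff (LP (LK LD1_c5 LD2_c53 LD3_c2)) = (LP (LK LD1_c9 LD2_c6 LD3_c58)) :=
  Lgr Lrot23 (Lpr_ct (f418968 IH) (Lpr_ft (f449345 IH) (Lpr_ct (f26642 IH) (Lpn (LP (LK LD1_c9 LD2_c6 LD3_c58))))))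

end

end K36

end

end Cfsg.Agent.Helper28.S1692
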